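import Mathlib
import Cfsg.Prelude.Def_Characters

/-!
# Basic facts on complex representations and their characters

Transport to coordinate spaces, eigenbases, character values, Schur's lemma in scalar form,
and semisimple decompositions.
-/

set_option autoImplicit false

open scoped ComplexConjugate

namespace Cfsg.Agent.CharBasic

universe u v w

variable {G : Type u} [Group G] {V : Type v} [AddCommGroup V] [Module ℂ V]
  {W : Type w} [AddCommGroup W] [Module ℂ W]

/-! ### Transport along linear equivalences -/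

/-- A representation transported along a linear equivalence. -/
def repConj (e : V ≃ₗ[ℂ] W) (ρ : Representation ℂ G V) : Representation ℂ G W where
  toFun g := e.conj (ρ g)
  map_one' := by ext x; simp [LinearEquiv.conj_apply]
  map_mul' a b := by ext x; simp [LinearEquiv.conj_apply]

@[simp] theorem repConj_apply (e : V ≃ₗ[ℂ] W) (ρ : Representation ℂ G V) (g : G) (w : W) :
    repConj e ρ g w = e (ρ g (e.symm w)) := rfl

/-- The equivalence between a representation and its transport. -/
def repConjEquiv (e : V ≃ₗ[ℂ] W) (ρ : Representation ℂ G V) : ρ.Equiv (repConj e ρ) :=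
  Representation.Equiv.mk e fun g => by ext x; simp

/-- Equivalent representations have isomorphic lattices of subrepresentations. -/
def subrepOrderIso {ρ : Representation ℂ G V} {σ : Representation ℂ G W} (φ : ρ.Equiv σ) :
    Subrepresentation ρ ≃o Subrepresentation σ where
  toFun U := ⟨U.toSubmodule.map φ.toLinearEquiv.toLinearMap, fun g v hv => by
    obtain ⟨x, hx, rfl⟩ := Submodule.mem_map.1 hv
    exact Submodule.mem_map.2 ⟨ρ g x, U.apply_mem_toSubmodule g hx,
      φ.toIntertwiningMap.isIntertwining ρ σ g x⟩⟩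
  invFun U := ⟨U.toSubmodule.comap φ.toLinearEquiv.toLinearMap, fun g v hv => by
    rw [Submodule.mem_comap] at hv ⊢
    have h1 : φ.toLinearEquiv.toLinearMap (ρ g v) = σ g (φ.toLinearEquiv.toLinearMap v) :=
      φ.toIntertwiningMap.isIntertwining ρ σ g v
    rw [h1]; exact U.apply_mem_toSubmodule g hv⟩
  left_inv U := Subrepresentation.toSubmodule_injective
    (Submodule.comap_map_eq_of_injective φ.toLinearEquiv.injective _)
  right_inv U := Subrepresentation.toSubmodule_injective
    (Submodule.map_comap_eq_of_surjective φ.toLinearEquiv.surjective _)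
  map_rel_iff' := fun {a b} => by
    exact Submodule.map_le_map_iff_of_injective φ.toLinearEquiv.injective
      a.toSubmodule b.toSubmodule

theorem isIrreducible_of_equiv {ρ : Representation ℂ G V} {σ : Representation ℂ G W}
    (φ : ρ.Equiv σ) [ρ.IsIrreducible] : σ.IsIrreducible :=
  (subrepOrderIso φ).isSimpleOrder_iff.1 inferInstance

theorem character_repConj (e : V ≃ₗ[ℂ] W) (ρ : Representation ℂ G V) :
    (repConj e ρ).character = ρ.character :=
  (Representation.char_iso (repConjEquiv e ρ)).symm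

/-- A chosen coordinate equivalence. -/
noncomputable def coordEquiv (V : Type v) [AddCommGroup V] [Module ℂ V]
    [FiniteDimensional ℂ V] : V ≃ₗ[ℂ] (Fin (Module.finrank ℂ V) → ℂ) :=
  (Module.finBasis ℂ V).equivFun

theorem isCharacter_of_rep [FiniteDimensional ℂ V] (ρ : Representation ℂ G V) :
    Cfsg.IsCharacter G ρ.character :=
  ⟨_, repConj (coordEquiv V) ρ, character_repConj _ ρ⟩

theorem isIrrCharacter_of_rep [FiniteDimensional ℂ V] (ρ : Representation ℂ G V)
    [ρ.IsIrreducible] : Cfsg.IsIrrCharacter G ρ.character :=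
  ⟨_, repConj (coordEquiv V) ρ, isIrreducible_of_equiv (repConjEquiv _ ρ),
    character_repConj _ ρ⟩

theorem isCharacter_of_isIrrCharacter {χ : G → ℂ} (h : Cfsg.IsIrrCharacter G χ) :
    Cfsg.IsCharacter G χ := let ⟨n, ρ, _, h'⟩ := h; ⟨n, ρ, h'⟩

theorem nontrivial_of_irreducible (ρ : Representation ℂ G V) [ρ.IsIrreducible] : Nontrivial V := by
  refine not_subsingleton_iff_nontrivial.1 fun hs => ?_
  exact bot_ne_top (α := Subrepresentation ρ)
    (Subrepresentation.toSubmodule_injective (Subsingleton.elim _ _))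

theorem finrank_pos_of_irreducible [FiniteDimensional ℂ V] (ρ : Representation ℂ G V)
    [ρ.IsIrreducible] : 0 < Module.finrank ℂ V :=
  have := nontrivial_of_irreducible ρ; Module.finrank_pos

/-- Pullback of a representation along a homomorphism. -/
def repComap {H : Type*} [Group H] (f : H →* G) (ρ : Representation ℂ G V) :
    Representation ℂ H V := MonoidHom.comp ρ f

@[simp] theorem repComap_apply {H : Type*} [Group H] (f : H →* G) (ρ : Representation ℂ G V)
    (h : H) : repComap f ρ h = ρ (f h) := rfl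

theorem character_repComap {H : Type*} [Group H] (f : H →* G) (ρ : Representation ℂ G V) :
    (repComap f ρ).character = ρ.character ∘ f := rfl

theorem isCharacter_comap {H : Type*} [Group H] (f : H →* G) {χ : G → ℂ}
    (h : Cfsg.IsCharacter G χ) : Cfsg.IsCharacter H (χ ∘ f) := by
  obtain ⟨n, ρ, rfl⟩ := h
  exact ⟨n, repComap f ρ, rfl⟩

theorem isIrreducible_repComap {H : Type*} [Group H] (f : H →* G) (hf : Function.Surjective f)
    (ρ : Representation ℂ G V) [ρ.IsIrreducible] : (repComap f ρ).IsIrreducible := by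
  let e : Subrepresentation ρ ≃o Subrepresentation (repComap f ρ) :=
    { toFun := fun U => ⟨U.toSubmodule, fun h v hv => U.apply_mem_toSubmodule (f h) hv⟩
      invFun := fun U => ⟨U.toSubmodule, fun g v hv => by
        obtain ⟨h, rfl⟩ := hf g
        exact U.apply_mem_toSubmodule h hv⟩
      left_inv := fun U => rfl
      right_inv := fun U => rfl
      map_rel_iff' := Iff.rfl }
  exact e.isSimpleOrder_iff.1 inferInstance

theorem isIrrCharacter_comap {H : Type*} [Group H] (f : H →* G) (hf : Function.Surjective f)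
    {χ : G → ℂ} (h : Cfsg.IsIrrCharacter G χ) : Cfsg.IsIrrCharacter H (χ ∘ f) := by
  obtain ⟨n, ρ, hi, rfl⟩ := h
  exact ⟨n, repComap f ρ, isIrreducible_repComap f hf ρ, rfl⟩

theorem isClassFunction_character (ρ : Representation ℂ G V) :
    Cfsg.IsClassFunction G ρ.character := fun g h => Representation.char_conj ρ g h

theorem isClassFunction_of_isCharacter {χ : G → ℂ} (h : Cfsg.IsCharacter G χ) :
    Cfsg.IsClassFunction G χ := by
  obtain ⟨n, ρ, rfl⟩ := h; exact isClassFunction_character ρ

theorem apply_eq_of_isConj {χ : G → ℂ} (hχ : Cfsg.IsClassFunction G χ) {g h : G}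
    (hc : IsConj g h) : χ g = χ h := by
  obtain ⟨c, rfl⟩ := isConj_iff.1 hc
  exact (hχ g c).symm

/-! ### Operators of finite order -/

/-- An endomorphism of finite order has an eigenbasis with roots of unity as eigenvalues. -/
theorem exists_eigenbasis [FiniteDimensional ℂ V] (f : Module.End ℂ V) {m : ℕ} (hm : 0 < m)
    (hf : f ^ m = 1) :
    ∃ (b : Module.Basis (Fin (Module.finrank ℂ V)) ℂ V) (μ : Fin (Module.finrank ℂ V) → ℂ),
      (∀ i, f (b i) = μ i • b i) ∧ ∀ i, μ i ^ m = 1 := by
  classical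
  have hsq : Squarefree (Polynomial.X ^ m - 1 : Polynomial ℂ) :=
    (Polynomial.separable_X_pow_sub_C (1 : ℂ) (by exact_mod_cast hm.ne') one_ne_zero).squarefree
  have hss : f.IsSemisimple :=
    Module.End.isSemisimple_of_squarefree_aeval_eq_zero hsq (by simp [hf])
  have hint := DirectSum.isInternal_submodule_of_iSupIndep_of_iSup_eq_top
    f.eigenspaces_iSupIndep hss.iSup_eigenspace_eq_top
  let b' := hint.collectedBasis fun μ => Module.finBasis ℂ (f.eigenspace μ)
  have hfin : Finite (Σ μ : ℂ, Fin (Module.finrank ℂ (f.eigenspace μ))) :=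
    b'.linearIndependent.finite
  have := Fintype.ofFinite (Σ μ : ℂ, Fin (Module.finrank ℂ (f.eigenspace μ)))
  have hcard : Fintype.card (Σ μ : ℂ, Fin (Module.finrank ℂ (f.eigenspace μ))) =
      Module.finrank ℂ V := (Module.finrank_eq_card_basis b').symm
  let e := Fintype.equivFinOfCardEq hcard
  have heig : ∀ p, f (b' p) = p.1 • b' p := fun p =>
    Module.End.mem_eigenspace_iff.1
      (hint.collectedBasis_mem (fun μ => Module.finBasis ℂ (f.eigenspace μ)) p)
  refine ⟨b'.reindex e, fun i => (e.symm i).1, fun i => ?_, fun i => ?_⟩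
  · simpa using heig (e.symm i)
  · have hp : ∀ k : ℕ, (f ^ k) (b' (e.symm i)) = (e.symm i).1 ^ k • b' (e.symm i) := by
      intro k
      induction k with
      | zero => simp
      | succ k ih => simp [pow_succ', ih, heig, smul_smul, mul_comm]
    have h1 := hp m
    rw [hf, Module.End.one_apply] at h1
    have h2 : (1 : ℂ) • b' (e.symm i) = (e.symm i).1 ^ m • b' (e.symm i) := by rwa [one_smul]
    exact (smul_left_injective ℂ (b'.ne_zero _) h2).symm

theorem trace_eq_sum_of_eigenbasis {ι : Type*} [Fintype ι] (b : Module.Basis ι ℂ V)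
    (f : Module.End ℂ V) (μ : ι → ℂ) (h : ∀ i, f (b i) = μ i • b i) :
    LinearMap.trace ℂ V f = ∑ i, μ i := by
  classical
  rw [LinearMap.trace_eq_matrix_trace ℂ b, Matrix.trace]
  exact Finset.sum_congr rfl fun i _ => by simp [LinearMap.toMatrix_apply, h]

section FiniteGroup

variable [Finite G] [FiniteDimensional ℂ V] (ρ : Representation ℂ G V)

/-- Simultaneous description of `ρ g` and its powers on an eigenbasis. -/
theorem exists_rep_eigenbasis (g : G) :
    ∃ (b : Module.Basis (Fin (Module.finrank ℂ V)) ℂ V) (μ : Fin (Module.finrank ℂ V) → ℂ),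
      (∀ i, ρ g (b i) = μ i • b i) ∧ (∀ i, μ i ^ orderOf g = 1) ∧ (∀ i, ‖μ i‖ = 1) ∧
      (∀ k : ℕ, ρ.character (g ^ k) = ∑ i, μ i ^ k) := by
  have hm : 0 < orderOf g := (isOfFinOrder_of_finite g).orderOf_pos
  obtain ⟨b, μ, h1, h2⟩ := exists_eigenbasis (ρ g) hm
    (by rw [← map_pow, pow_orderOf_eq_one, map_one])
  refine ⟨b, μ, h1, h2, fun i => Complex.norm_eq_one_of_pow_eq_one (h2 i) hm.ne', fun k => ?_⟩
  refine trace_eq_sum_of_eigenbasis b _ _ fun i => ?_
  induction k with
  | zero => simp
  | succ k ih => rw [pow_succ', map_mul, Module.End.mul_apply, ih, map_smul, h1, smul_smul, ← pow_succ]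

theorem character_inv (g : G) : ρ.character g⁻¹ = conj (ρ.character g) := by
  have hm : 0 < orderOf g := (isOfFinOrder_of_finite g).orderOf_pos
  obtain ⟨b, μ, -, h2, h3, h4⟩ := exists_rep_eigenbasis ρ g
  have hg : g⁻¹ = g ^ (orderOf g - 1) := by
    refine inv_eq_of_mul_eq_one_right ?_
    rw [← pow_succ', Nat.sub_add_cancel hm, pow_orderOf_eq_one]
  have hg1 : ρ.character g = ∑ i, μ i := by simpa using h4 1
  rw [hg, h4, hg1, map_sum]
  refine Finset.sum_congr rfl fun i _ => ?_
  rw [← Complex.inv_eq_conj (h3 i)]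
  refine eq_inv_of_mul_eq_one_left ?_
  rw [← pow_succ, Nat.sub_add_cancel hm, h2]

theorem norm_character_le (g : G) : ‖ρ.character g‖ ≤ (Module.finrank ℂ V : ℝ) := by
  obtain ⟨b, μ, -, -, h3, h4⟩ := exists_rep_eigenbasis ρ g
  rw [← pow_one g, h4]
  refine (norm_sum_le _ _).trans ?_
  simp [h3]

theorem isIntegral_character (g : G) : IsIntegral ℤ (ρ.character g) := by
  obtain ⟨b, μ, -, h2, -, h4⟩ := exists_rep_eigenbasis ρ g
  rw [← pow_one g, h4]
  refine IsIntegral.sum _ fun i _ => ?_
  rw [pow_one]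
  refine IsIntegral.of_pow (isOfFinOrder_of_finite g).orderOf_pos ?_
  rw [h2]; exact isIntegral_one

theorem exists_scalar_of_norm_eq (g : G)
    (h : ‖ρ.character g‖ = (Module.finrank ℂ V : ℝ)) :
    ∃ ω : ℂ, ρ g = ω • (LinearMap.id : V →ₗ[ℂ] V) ∧
      ρ.character g = (Module.finrank ℂ V : ℂ) * ω := by
  obtain ⟨b, μ, h1, -, h3, h4⟩ := exists_rep_eigenbasis ρ g
  have hχ : ρ.character g = ∑ i, μ i := by simpa using h4 1
  set z := ρ.character g with hz
  rcases eq_or_ne z 0 with h0 | h0
  · rw [h0, norm_zero] at h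
    have hn : Module.finrank ℂ V = 0 := by exact_mod_cast h.symm
    have : Subsingleton V := Module.finrank_zero_iff.1 hn
    exact ⟨1, Subsingleton.elim _ _, by simp [h0, hn]⟩
  · set w : ℂ := z / (‖z‖ : ℂ) with hw
    have hnz : (‖z‖ : ℂ) ≠ 0 := by simpa using h0
    have hw1 : ‖w‖ = 1 := by
      rw [hw, norm_div, Complex.norm_real, Real.norm_eq_abs, abs_of_nonneg (norm_nonneg z),
        div_self (norm_ne_zero_iff.2 h0)]
    have hle : ∀ i ∈ (Finset.univ : Finset (Fin (Module.finrank ℂ V))),
        (μ i * conj w).re ≤ 1 := fun i _ =>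
      (Complex.re_le_norm _).trans (by simp [h3, hw1])
    have hsum : ∑ i, (μ i * conj w).re = ∑ _i : Fin (Module.finrank ℂ V), (1 : ℝ) := by
      rw [← Complex.re_sum, ← Finset.sum_mul, ← hχ, hw, map_div₀, Complex.conj_ofReal,
        mul_div_assoc', Complex.mul_conj', pow_two, mul_div_assoc, div_self hnz, mul_one,
        Complex.ofReal_re, h]
      simp
    have heq := (Finset.sum_eq_sum_iff_of_le hle).1 hsum
    have hμ : ∀ i, μ i = w := fun i => by
      have h5 := heq i (Finset.mem_univ _)
      have h6 : ‖μ i * conj w‖ = 1 := by simp [h3, hw1]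
      have h7 : μ i * conj w = 1 := by
        have h8 := Complex.nonneg_iff.1 (Complex.re_eq_norm.1 (h5.trans h6.symm))
        exact Complex.ext (by simp [h5]) (by simp [← h8.2])
      calc μ i = μ i * (conj w * w) := by rw [Complex.conj_mul', hw1]; simp
        _ = w := by rw [← mul_assoc, h7, one_mul]
    refine ⟨w, b.ext fun i => ?_, ?_⟩
    · simp [h1, hμ]
    · simp [hχ, hμ]

theorem eq_one_of_character_eq_finrank (g : G)
    (h : ρ.character g = (Module.finrank ℂ V : ℂ)) : ρ g = LinearMap.id := by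
  obtain ⟨ω, h1, h2⟩ := exists_scalar_of_norm_eq ρ g (by rw [h]; simp)
  rcases Nat.eq_zero_or_pos (Module.finrank ℂ V) with hn | hn
  · have : Subsingleton V := Module.finrank_zero_iff.1 hn
    exact Subsingleton.elim _ _
  · have hn' : (Module.finrank ℂ V : ℂ) ≠ 0 := by exact_mod_cast hn.ne'
    have : ω = 1 := mul_left_cancel₀ hn' (by rw [mul_one, ← h2, h])
    rw [h1, this, one_smul]

theorem norm_eq_finrank_iff (g : G) :
    ‖ρ.character g‖ = (Module.finrank ℂ V : ℝ) ↔
      ∃ ω : ℂ, ρ g = ω • (LinearMap.id : V →ₗ[ℂ] V) := by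
  refine ⟨fun h => let ⟨ω, h1, _⟩ := exists_scalar_of_norm_eq ρ g h; ⟨ω, h1⟩, fun ⟨ω, hω⟩ => ?_⟩
  obtain ⟨b, μ, h1, -, h3, h4⟩ := exists_rep_eigenbasis ρ g
  have hμ : ∀ i, μ i = ω := fun i => by
    have h5 := h1 i
    rw [hω] at h5
    exact smul_left_injective ℂ (b.ne_zero i) (by simpa using h5.symm)
  have hχ : ρ.character g = ∑ i, μ i := by simpa using h4 1
  rw [hχ]
  rcases Nat.eq_zero_or_pos (Module.finrank ℂ V) with hn | hn
  · simp [hμ, hn]
  · have hω1 : ‖ω‖ = 1 := hμ ⟨0, hn⟩ ▸ h3 ⟨0, hn⟩
    simp [hμ, hω1]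

theorem character_eq_finrank_iff (g : G) :
    ρ.character g = (Module.finrank ℂ V : ℂ) ↔ ρ g = LinearMap.id :=
  ⟨eq_one_of_character_eq_finrank ρ g, fun h => by
    rw [Representation.character, h, LinearMap.trace_id]⟩

end FiniteGroup

theorem isCharacter_inv [Finite G] {χ : G → ℂ} (h : Cfsg.IsCharacter G χ) (g : G) :
    χ g⁻¹ = conj (χ g) := by
  obtain ⟨n, ρ, rfl⟩ := h; exact character_inv ρ g

theorem isCharacter_integral [Finite G] {χ : G → ℂ} (h : Cfsg.IsCharacter G χ) (g : G) :
    IsIntegral ℤ (χ g) := by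
  obtain ⟨n, ρ, rfl⟩ := h; exact isIntegral_character ρ g

theorem isCharacter_apply_one {χ : G → ℂ} (h : Cfsg.IsCharacter G χ) :
    ∃ n : ℕ, χ 1 = n := by
  obtain ⟨n, ρ, rfl⟩ := h; exact ⟨_, Representation.char_one ρ⟩

theorem isCharacter_norm_le [Finite G] {χ : G → ℂ} (h : Cfsg.IsCharacter G χ) (g : G) :
    ‖χ g‖ ≤ (χ 1).re := by
  obtain ⟨n, ρ, rfl⟩ := h
  simpa using norm_character_le ρ g

theorem isCharacter_eq_zero_of_apply_one [Finite G] {χ : G → ℂ} (h : Cfsg.IsCharacter G χ)
    (h1 : χ 1 = 0) : χ = 0 := by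
  funext g
  have h2 := isCharacter_norm_le h g
  rw [h1, Complex.zero_re] at h2
  exact norm_le_zero_iff.1 h2

theorem isIrrCharacter_apply_one {χ : G → ℂ} (h : Cfsg.IsIrrCharacter G χ) :
    ∃ n : ℕ, 0 < n ∧ χ 1 = n := by
  obtain ⟨n, ρ, hi, rfl⟩ := h
  exact ⟨_, finrank_pos_of_irreducible ρ, Representation.char_one ρ⟩

theorem isIrrCharacter_apply_one_ne_zero {χ : G → ℂ} (h : Cfsg.IsIrrCharacter G χ) :
    χ 1 ≠ 0 := by
  obtain ⟨n, hn, h1⟩ := isIrrCharacter_apply_one h
  rw [h1]; exact_mod_cast hn.ne'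

/-! ### Schur's lemma -/

theorem exists_scalar_of_commute [FiniteDimensional ℂ V] (ρ : Representation ℂ G V)
    [ρ.IsIrreducible] (T : Module.End ℂ V) (hT : ∀ g v, T (ρ g v) = ρ g (T v)) :
    ∃ c : ℂ, T = c • LinearMap.id ∧ LinearMap.trace ℂ V T = (Module.finrank ℂ V : ℂ) * c := by
  have := nontrivial_of_irreducible ρ
  obtain ⟨c, hc⟩ := Module.End.exists_eigenvalue T
  have hU : ∀ (g : G) ⦃v : V⦄, v ∈ T.eigenspace c → ρ g v ∈ T.eigenspace c := fun g v hv => by
    rw [Module.End.mem_eigenspace_iff] at hv ⊢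
    rw [hT, hv, map_smul]
  let U : Subrepresentation ρ := ⟨T.eigenspace c, hU⟩
  rcases eq_bot_or_eq_top U with h | h
  · exact absurd (congrArg Subrepresentation.toSubmodule h) hc
  · have hT' : T = c • LinearMap.id := by
      ext v
      have hv : v ∈ T.eigenspace c := by
        have h' : T.eigenspace c = ⊤ := congrArg Subrepresentation.toSubmodule h
        rw [h']; exact Submodule.mem_top
      simpa using Module.End.mem_eigenspace_iff.1 hv
    exact ⟨c, hT', by rw [hT', map_smul, LinearMap.trace_id, smul_eq_mul, mul_comm]⟩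

/-- In an irreducible representation a central group element acts by a scalar. -/
theorem exists_scalar_of_mem_center [FiniteDimensional ℂ V] (ρ : Representation ℂ G V)
    [ρ.IsIrreducible] {z : G} (hz : z ∈ Subgroup.center G) :
    ∃ c : ℂ, ρ z = c • LinearMap.id := by
  obtain ⟨c, hc, -⟩ := exists_scalar_of_commute ρ (ρ z) fun g v => by
    rw [← Module.End.mul_apply, ← map_mul, ← Subgroup.mem_center_iff.1 hz g, map_mul,
      Module.End.mul_apply]
  exact ⟨c, hc⟩

/-! ### Subrepresentations and decompositions -/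

theorem exists_isCompl [Finite G] {ρ : Representation ℂ G V} (U : Subrepresentation ρ) :
    ∃ U' : Subrepresentation ρ, IsCompl U.toSubmodule U'.toSubmodule := by
  have : NeZero (Nat.card G : ℂ) := ⟨Nat.cast_ne_zero.2 Nat.card_pos.ne'⟩
  obtain ⟨U', h⟩ := ComplementedLattice.exists_isCompl U
  refine ⟨U', ⟨?_, ?_⟩⟩
  · rw [disjoint_iff, ← Subrepresentation.toSubmodule_inf, disjoint_iff.1 h.1]; rfl
  · rw [codisjoint_iff, ← Subrepresentation.toSubmodule_sup, codisjoint_iff.1 h.2]; rfl

/-- A representation is equivalent to the product of two complementary subrepresentations. -/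
noncomputable def prodEquiv {ρ : Representation ℂ G V} (U U' : Subrepresentation ρ)
    (h : IsCompl U.toSubmodule U'.toSubmodule) :
    (U.toRepresentation.prod U'.toRepresentation).Equiv ρ :=
  Representation.Equiv.mk (Submodule.prodEquivOfIsCompl _ _ h) fun g => by
    refine LinearMap.ext fun x => ?_
    obtain ⟨a, b⟩ := x
    change ((U.toRepresentation g a : V) + (U'.toRepresentation g b : V)) = ρ g ((a : V) + (b : V))
    rw [map_add]
    rfl

theorem character_prod [FiniteDimensional ℂ V] [FiniteDimensional ℂ W]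
    (ρ : Representation ℂ G V) (σ : Representation ℂ G W) :
    (ρ.prod σ).character = ρ.character + σ.character :=
  funext fun g => LinearMap.trace_prodMap' (ρ g) (σ g)

theorem character_of_isCompl [FiniteDimensional ℂ V] {ρ : Representation ℂ G V}
    (U U' : Subrepresentation ρ) (h : IsCompl U.toSubmodule U'.toSubmodule) :
    ρ.character = U.toRepresentation.character + U'.toRepresentation.character := by
  rw [← Representation.char_iso (prodEquiv U U' h), character_prod]

/-- A proper nonzero subrepresentation and a complement, for a reducible representation. -/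
theorem exists_decomposition [Finite G] [FiniteDimensional ℂ V] [Nontrivial V]
    {ρ : Representation ℂ G V} (h : ¬ ρ.IsIrreducible) :
    ∃ U U' : Subrepresentation ρ, IsCompl U.toSubmodule U'.toSubmodule ∧
      0 < Module.finrank ℂ U.toSubmodule ∧ 0 < Module.finrank ℂ U'.toSubmodule ∧
      Module.finrank ℂ U.toSubmodule < Module.finrank ℂ V ∧
      Module.finrank ℂ U'.toSubmodule < Module.finrank ℂ V := by
  have : Nontrivial (Subrepresentation ρ) :=
    ⟨⊥, ⊤, fun e => bot_ne_top (α := Submodule ℂ V) (congrArg Subrepresentation.toSubmodule e)⟩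
  have : ∃ U : Subrepresentation ρ, U ≠ ⊥ ∧ U ≠ ⊤ := by
    by_contra hc
    push Not at hc
    exact h ⟨fun U => or_iff_not_imp_left.2 (hc U)⟩
  obtain ⟨U, hb, ht⟩ := this
  obtain ⟨U', hU'⟩ := exists_isCompl U
  have hsum := Submodule.finrank_add_eq_of_isCompl hU'
  have h1 : 0 < Module.finrank ℂ U.toSubmodule := by
    refine Nat.pos_of_ne_zero fun h0 => hb ?_
    exact Subrepresentation.toSubmodule_injective (Submodule.finrank_eq_zero.1 h0)
  have h2 : Module.finrank ℂ U.toSubmodule < Module.finrank ℂ V :=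
    Submodule.finrank_lt fun e => ht (Subrepresentation.toSubmodule_injective e)
  exact ⟨U, U', hU', h1, by omega, h2, by omega⟩

/-- Every nonzero representation has an irreducible subrepresentation. -/
theorem exists_irreducible_sub [Finite G] [FiniteDimensional ℂ V] [Nontrivial V]
    (ρ : Representation ℂ G V) :
    ∃ U : Subrepresentation ρ, U.toRepresentation.IsIrreducible := by
  classical
  have hex : ∃ n, ∃ U : Subrepresentation ρ, U.toSubmodule ≠ ⊥ ∧
      Module.finrank ℂ U.toSubmodule = n := ⟨_, ⊤, top_ne_bot, rfl⟩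
  obtain ⟨U, hU, hn⟩ := Nat.find_spec hex
  refine ⟨U, ?_⟩
  have hnt : Nontrivial U.toSubmodule := Submodule.nontrivial_iff_ne_bot.2 hU
  by_contra hirr
  obtain ⟨A, B, -, hA, -, hA', -⟩ := exists_decomposition hirr
  have hmem : ∀ (g : G) ⦃v : V⦄, v ∈ A.toSubmodule.map U.toSubmodule.subtype →
      ρ g v ∈ A.toSubmodule.map U.toSubmodule.subtype := by
    intro g v hv
    obtain ⟨x, hx, rfl⟩ := Submodule.mem_map.1 hv
    exact Submodule.mem_map.2 ⟨U.toRepresentation g x, A.apply_mem_toSubmodule g hx, rfl⟩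
  have heq := Submodule.finrank_map_subtype_eq U.toSubmodule A.toSubmodule
  have hne : A.toSubmodule.map U.toSubmodule.subtype ≠ ⊥ := fun e => by
    rw [e, finrank_bot] at heq; omega
  refine Nat.find_min hex (m := Module.finrank ℂ A.toSubmodule) (by omega)
    ⟨⟨_, hmem⟩, hne, heq⟩

end Cfsg.Agent.CharBasic
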