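import Mathlib
import Cfsg.Agent.Lib.CharBasic

/-!
# Orthogonality relations and completeness of irreducible characters
-/

set_option autoImplicit false

open scoped ComplexConjugate

namespace Cfsg.Agent.CharBasicOrth

open Cfsg.Agent.CharBasic

universe u v w

variable {G : Type u} [Group G]

section Inner

variable [Fintype G]

theorem classInner_add_left (a b c : G → ℂ) :
    Cfsg.classInner (a + b) c = Cfsg.classInner a c + Cfsg.classInner b c := by
  simp [Cfsg.classInner, add_mul, Finset.sum_add_distrib, mul_add]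

theorem classInner_add_right (a b c : G → ℂ) :
    Cfsg.classInner a (b + c) = Cfsg.classInner a b + Cfsg.classInner a c := by
  simp [Cfsg.classInner, mul_add, Finset.sum_add_distrib]

theorem classInner_smul_left (z : ℂ) (a b : G → ℂ) :
    Cfsg.classInner (z • a) b = z * Cfsg.classInner a b := by
  simp [Cfsg.classInner, Finset.mul_sum, mul_assoc, mul_left_comm]

theorem classInner_smul_right (z : ℂ) (a b : G → ℂ) :
    Cfsg.classInner a (z • b) = conj z * Cfsg.classInner a b := by
  simp [Cfsg.classInner, Finset.mul_sum, mul_left_comm]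

@[simp] theorem classInner_zero_left (a : G → ℂ) : Cfsg.classInner 0 a = 0 := by
  simp [Cfsg.classInner]

@[simp] theorem classInner_zero_right (a : G → ℂ) : Cfsg.classInner a 0 = 0 := by
  simp [Cfsg.classInner]

theorem classInner_neg_left (a b : G → ℂ) :
    Cfsg.classInner (-a) b = -Cfsg.classInner a b := by
  simp [Cfsg.classInner]

theorem classInner_neg_right (a b : G → ℂ) :
    Cfsg.classInner a (-b) = -Cfsg.classInner a b := by
  simp [Cfsg.classInner]

theorem classInner_sub_left (a b c : G → ℂ) :
    Cfsg.classInner (a - b) c = Cfsg.classInner a c - Cfsg.classInner b c := by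
  rw [sub_eq_add_neg, classInner_add_left, classInner_neg_left, sub_eq_add_neg]

theorem classInner_sub_right (a b c : G → ℂ) :
    Cfsg.classInner a (b - c) = Cfsg.classInner a b - Cfsg.classInner a c := by
  rw [sub_eq_add_neg, classInner_add_right, classInner_neg_right, sub_eq_add_neg]

theorem classInner_sum_left {ι : Type*} (s : Finset ι) (f : ι → G → ℂ) (b : G → ℂ) :
    Cfsg.classInner (∑ i ∈ s, f i) b = ∑ i ∈ s, Cfsg.classInner (f i) b := by
  classical
  induction s using Finset.induction with
  | empty => simp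
  | insert i s hi ih => simp [Finset.sum_insert hi, classInner_add_left, ih]

theorem classInner_sum_right {ι : Type*} (s : Finset ι) (f : ι → G → ℂ) (b : G → ℂ) :
    Cfsg.classInner b (∑ i ∈ s, f i) = ∑ i ∈ s, Cfsg.classInner b (f i) := by
  classical
  induction s using Finset.induction with
  | empty => simp
  | insert i s hi ih => simp [Finset.sum_insert hi, classInner_add_right, ih]

theorem conj_classInner (a b : G → ℂ) :
    conj (Cfsg.classInner a b) = Cfsg.classInner b a := by
  simp only [Cfsg.classInner, map_mul, map_inv₀, map_natCast, map_sum, Complex.conj_conj]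
  exact congrArg _ (Finset.sum_congr rfl fun g _ => mul_comm _ _)

theorem card_mul_classInner (a b : G → ℂ) :
    (Nat.card G : ℂ) * Cfsg.classInner a b = ∑ g, a g * conj (b g) := by
  rw [Cfsg.classInner, ← mul_assoc, mul_inv_cancel₀ (Nat.cast_ne_zero.2 Nat.card_pos.ne'), one_mul]

theorem classInner_self_re (a : G → ℂ) :
    (Cfsg.classInner a a).re = (Nat.card G : ℝ)⁻¹ * ∑ g, ‖a g‖ ^ 2 := by
  have h : Cfsg.classInner a a = ((Nat.card G : ℝ)⁻¹ * ∑ g, ‖a g‖ ^ 2 : ℝ) := by
    simp [Cfsg.classInner, Complex.mul_conj']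
  rw [h, Complex.ofReal_re]

theorem eq_zero_of_classInner_self {a : G → ℂ} (h : Cfsg.classInner a a = 0) : a = 0 := by
  have h1 := congrArg Complex.re h
  rw [classInner_self_re, Complex.zero_re, mul_eq_zero] at h1
  rcases h1 with h1 | h1
  · simp at h1
  · rw [Finset.sum_eq_zero_iff_of_nonneg fun g _ => by positivity] at h1
    funext g
    simpa using h1 g (Finset.mem_univ g)

theorem classInner_congr_equiv {H : Type*} [Group H] [Fintype H] (e : H ≃* G) (a b : G → ℂ) :
    Cfsg.classInner (a ∘ e) (b ∘ e) = Cfsg.classInner a b := by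
  rw [Cfsg.classInner, Cfsg.classInner, Nat.card_congr e.toEquiv]
  exact congrArg _ (Equiv.sum_comp e.toEquiv fun g => a g * conj (b g))

variable {V : Type v} [AddCommGroup V] [Module ℂ V] [FiniteDimensional ℂ V]
  {W : Type w} [AddCommGroup W] [Module ℂ W] [FiniteDimensional ℂ W]

theorem classInner_character (ρ : Representation ℂ G V) (σ : Representation ℂ G W) :
    Cfsg.classInner ρ.character σ.character =
      (Module.finrank ℂ (Representation.IntertwiningMap σ ρ) : ℂ) := by
  have : Invertible (Nat.card G : ℂ) := invertibleOfNonzero (Nat.cast_ne_zero.2 Nat.card_pos.ne')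
  rw [← Representation.card_inv_mul_sum_char_mul_char_eq_finrank σ ρ, Cfsg.classInner]
  simp only [character_inv σ]

theorem classInner_character_irreducible_self (ρ : Representation ℂ G V) [ρ.IsIrreducible] :
    Cfsg.classInner ρ.character ρ.character = 1 := by
  rw [classInner_character, Representation.IsIrreducible.finrank_intertwiningMap_self, Nat.cast_one]

theorem classInner_character_of_isEmpty (ρ : Representation ℂ G V) (σ : Representation ℂ G W)
    [ρ.IsIrreducible] [σ.IsIrreducible] [IsEmpty (σ.Equiv ρ)] :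
    Cfsg.classInner ρ.character σ.character = 0 := by
  rw [classInner_character, Module.finrank_zero_of_subsingleton, Nat.cast_zero]

end Inner

/-- Orthonormality of irreducible characters. -/
theorem classInner_irr [Fintype G] (χ ψ : G → ℂ) [Decidable (χ = ψ)]
    (hχ : Cfsg.IsIrrCharacter G χ) (hψ : Cfsg.IsIrrCharacter G ψ) :
    Cfsg.classInner χ ψ = if χ = ψ then 1 else 0 := by
  obtain ⟨n, ρ, hρ, rfl⟩ := hχ
  obtain ⟨m, σ, hσ, rfl⟩ := hψ
  split_ifs with h
  · rw [← h]; exact classInner_character_irreducible_self ρ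
  · have : IsEmpty (σ.Equiv ρ) := ⟨fun φ => h (Representation.char_iso φ).symm⟩
    exact classInner_character_of_isEmpty ρ σ

theorem classInner_irr_self [Fintype G] {χ : G → ℂ} (hχ : Cfsg.IsIrrCharacter G χ) :
    Cfsg.classInner χ χ = 1 := by
  classical
  rw [classInner_irr χ χ hχ hχ, if_pos rfl]

theorem classInner_irr_ne [Fintype G] {χ ψ : G → ℂ} (hχ : Cfsg.IsIrrCharacter G χ)
    (hψ : Cfsg.IsIrrCharacter G ψ) (h : χ ≠ ψ) : Cfsg.classInner χ ψ = 0 := by
  classical
  rw [classInner_irr χ ψ hχ hψ, if_neg h]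

theorem classInner_irrCharacter [Fintype G] [DecidableEq (Cfsg.IrrCharacter G)]
    (χ ψ : Cfsg.IrrCharacter G) :
    Cfsg.classInner (χ : G → ℂ) ψ = if χ = ψ then 1 else 0 := by
  classical
  rw [classInner_irr _ _ χ.2 ψ.2]
  simp only [Subtype.ext_iff]

/-- The inner product of two characters is a natural number. -/
theorem classInner_isCharacter [Fintype G] {χ ψ : G → ℂ} (hχ : Cfsg.IsCharacter G χ)
    (hψ : Cfsg.IsCharacter G ψ) : ∃ n : ℕ, Cfsg.classInner χ ψ = n := by
  obtain ⟨n, ρ, rfl⟩ := hχ
  obtain ⟨m, σ, rfl⟩ := hψ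
  exact ⟨_, classInner_character ρ σ⟩

theorem linearIndependent_irr [Finite G] :
    LinearIndependent ℂ (fun χ : Cfsg.IrrCharacter G => (χ : G → ℂ)) := by
  classical
  have := Fintype.ofFinite G
  rw [linearIndependent_iff']
  intro s c hc i hi
  have h := congrArg (fun f => Cfsg.classInner f (i : G → ℂ)) hc
  rw [classInner_sum_left] at h
  simpa [classInner_smul_left, classInner_irrCharacter, hi] using h

theorem finite_irrCharacter [Finite G] : Finite (Cfsg.IrrCharacter G) :=
  linearIndependent_irr.finite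

/-- The irreducible characters form a finite type. -/
noncomputable instance instFintypeIrrCharacter [Finite G] : Fintype (Cfsg.IrrCharacter G) :=
  have := finite_irrCharacter (G := G); Fintype.ofFinite _

/-! ### Completeness -/

section Completeness

variable [Fintype G]

theorem smul_sum_commute {V : Type v} [AddCommGroup V] [Module ℂ V] {f : G → ℂ}
    (hf : Cfsg.IsClassFunction G f) (ρ : Representation ℂ G V) (g : G) (v : V) :
    (∑ x, f x • ρ x⁻¹) (ρ g v) = ρ g ((∑ x, f x • ρ x⁻¹) v) := by
  simp only [LinearMap.sum_apply, LinearMap.smul_apply, map_sum, map_smul,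
    ← Module.End.mul_apply, ← map_mul]
  refine Fintype.sum_equiv (MulAut.conj g⁻¹).toEquiv _ _ fun x => ?_
  have h1 : f (g⁻¹ * x * g⁻¹⁻¹) = f x := hf x g⁻¹
  rw [MulEquiv.toEquiv_eq_coe, MulEquiv.coe_toEquiv, MulAut.conj_apply, h1]
  congr 3
  simp [mul_assoc]

theorem sum_smul_rep_eq_zero {f : G → ℂ} (hf : Cfsg.IsClassFunction G f)
    (h : ∀ χ, Cfsg.IsIrrCharacter G χ → Cfsg.classInner f χ = 0)
    (n : ℕ) : ∀ {V : Type v} [AddCommGroup V] [Module ℂ V] [FiniteDimensional ℂ V]
      (ρ : Representation ℂ G V), Module.finrank ℂ V = n → (∑ x, f x • ρ x⁻¹) = 0 := by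
  induction n using Nat.strong_induction_on with
  | _ n ih =>
    intro V _ _ _ ρ hn
    rcases subsingleton_or_nontrivial V with hV | hV
    · exact Subsingleton.elim _ _
    by_cases hirr : ρ.IsIrreducible
    · obtain ⟨c, hc, htr⟩ := exists_scalar_of_commute ρ _ (smul_sum_commute hf ρ)
      have h1 : LinearMap.trace ℂ V (∑ x, f x • ρ x⁻¹) = 0 := by
        have h2 := card_mul_classInner f ρ.character
        rw [h _ (isIrrCharacter_of_rep ρ), mul_zero] at h2
        rw [map_sum, h2]
        refine Finset.sum_congr rfl fun x _ => ?_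
        rw [map_smul, smul_eq_mul, ← character_inv]
        rfl
      rw [h1] at htr
      have : c = 0 := (mul_eq_zero.1 htr.symm).resolve_left
        (Nat.cast_ne_zero.2 Module.finrank_pos.ne')
      rw [hc, this, zero_smul]
    · obtain ⟨U, U', hc, -, -, h2, h3⟩ := exists_decomposition hirr
      have hz : ∀ (U : Subrepresentation ρ), Module.finrank ℂ U.toSubmodule < n →
          U.toSubmodule ≤ LinearMap.ker (∑ x, f x • ρ x⁻¹) := by
        intro U hU v hv
        have h4 := congrArg (fun T => ((T ⟨v, hv⟩ : U.toSubmodule) : V))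
          (ih _ hU U.toRepresentation rfl)
        simpa [Subrepresentation.toRepresentation] using h4
      rw [← LinearMap.ker_eq_top, eq_top_iff, ← hc.sup_eq_top]
      exact sup_le (hz U (hn ▸ h2)) (hz U' (hn ▸ h3))

/-- The right regular representation on functions. -/
def funRep (G : Type u) [Group G] : Representation ℂ G (G → ℂ) where
  toFun g := LinearMap.funLeft ℂ ℂ (· * g)
  map_one' := by ext φ x; simp
  map_mul' a b := by ext φ x; simp [mul_assoc]

/-- A class function orthogonal to all irreducible characters vanishes. -/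
theorem eq_zero_of_forall_classInner {f : G → ℂ} (hf : Cfsg.IsClassFunction G f)
    (h : ∀ χ, Cfsg.IsIrrCharacter G χ → Cfsg.classInner f χ = 0) : f = 0 := by
  classical
  have h0 := sum_smul_rep_eq_zero hf h _ (funRep G) rfl
  funext y
  have h1 := congrFun (LinearMap.congr_fun h0 (Pi.single 1 1)) y
  rw [LinearMap.sum_apply, Finset.sum_apply, Finset.sum_eq_single y] at h1
  · simpa [funRep] using h1
  · intro x _ hx
    simp [funRep, mul_inv_eq_one, Ne.symm hx]
  · simp

end Completeness

theorem isClassFunction_sum_smul {ι : Type*} (s : Finset ι) (c : ι → ℂ) (f : ι → G → ℂ)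
    (hf : ∀ i ∈ s, Cfsg.IsClassFunction G (f i)) :
    Cfsg.IsClassFunction G (∑ i ∈ s, c i • f i) := by
  intro g h
  simp only [Finset.sum_apply, Pi.smul_apply]
  exact Finset.sum_congr rfl fun i hi => by rw [hf i hi g h]

theorem classInner_sum_smul_irr [Fintype G] (c : Cfsg.IrrCharacter G → ℂ)
    (ψ : Cfsg.IrrCharacter G) :
    Cfsg.classInner (∑ χ, c χ • (χ : G → ℂ)) ψ = c ψ := by
  classical
  simp [classInner_sum_left, classInner_smul_left, classInner_irrCharacter]

/-- Expansion of a class function in irreducible characters. -/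
theorem eq_sum_classInner [Fintype G] {ψ : G → ℂ} (hψ : Cfsg.IsClassFunction G ψ) :
    ψ = ∑ χ : Cfsg.IrrCharacter G, Cfsg.classInner ψ χ • (χ : G → ℂ) := by
  refine sub_eq_zero.1 (eq_zero_of_forall_classInner ?_ fun χ hχ => ?_)
  · intro g h
    simp only [Pi.sub_apply, hψ g h, isClassFunction_sum_smul (G := G) Finset.univ _
      (fun χ : Cfsg.IrrCharacter G => (χ : G → ℂ))
      (fun χ _ => isClassFunction_of_isCharacter (isCharacter_of_isIrrCharacter χ.2)) g h]
  · rw [classInner_sub_left, classInner_sum_smul_irr _ ⟨χ, hχ⟩, sub_self]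

theorem classFunction_ext [Fintype G] {ψ φ : G → ℂ} (hψ : Cfsg.IsClassFunction G ψ)
    (hφ : Cfsg.IsClassFunction G φ)
    (h : ∀ χ : Cfsg.IrrCharacter G, Cfsg.classInner ψ χ = Cfsg.classInner φ χ) : ψ = φ := by
  rw [eq_sum_classInner hψ, eq_sum_classInner hφ]
  simp only [h]

/-- Parseval's identity. -/
theorem classInner_eq_sum [Fintype G] {ψ φ : G → ℂ} (hψ : Cfsg.IsClassFunction G ψ) :
    Cfsg.classInner ψ φ =
      ∑ χ : Cfsg.IrrCharacter G, Cfsg.classInner ψ χ * conj (Cfsg.classInner φ χ) := by
  conv_lhs => rw [eq_sum_classInner hψ]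
  simp only [classInner_sum_left, classInner_smul_left, conj_classInner]

/-- The indicator of a conjugacy class. -/
theorem isClassFunction_indicator [Fintype G] (h : G) [DecidablePred (IsConj h)] :
    Cfsg.IsClassFunction G (fun g => if IsConj h g then 1 else 0) := by
  intro g x
  have : IsConj g (x * g * x⁻¹) := isConj_iff.2 ⟨x, rfl⟩
  simp only [show IsConj h (x * g * x⁻¹) ↔ IsConj h g from
    ⟨fun e => e.trans this.symm, fun e => e.trans this⟩]

theorem card_conj_mul_card_centralizer [Finite G] (h : G) :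
    Nat.card {g : G // IsConj h g} * Nat.card (Subgroup.centralizer ({h} : Set G)) =
      Nat.card G := by
  have h1 : Nat.card {g : G // IsConj h g} =
      (Subgroup.centralizer ({h} : Set G)).index := by
    have hs : MulAction.orbit (ConjAct G) h = {g : G | IsConj h g} := by
      ext g; rw [ConjAct.mem_orbit_conjAct]; exact isConj_comm
    calc Nat.card {g : G // IsConj h g}
        = (MulAction.orbit (ConjAct G) h).ncard := by rw [hs]; rfl
      _ = (MulAction.stabilizer (ConjAct G) h).index := (MulAction.index_stabilizer _ _).symm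
      _ = _ := by rw [ConjAct.stabilizer_eq_centralizer]; rfl
  rw [h1, mul_comm, Subgroup.card_mul_index]

/-- Column orthogonality. -/
theorem sum_irr_mul_conj [Finite G] (g h : G) [Decidable (IsConj g h)] :
    ∑ χ : Cfsg.IrrCharacter G, (χ : G → ℂ) g * conj ((χ : G → ℂ) h) =
      if IsConj g h then (Nat.card (Subgroup.centralizer ({g} : Set G)) : ℂ) else 0 := by
  classical
  have := Fintype.ofFinite G
  set δ : G → ℂ := fun x => if IsConj h x then 1 else 0 with hδ
  have hc : ∀ χ : Cfsg.IrrCharacter G, Cfsg.classInner δ χ =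
      (Nat.card G : ℂ)⁻¹ * (Nat.card {x : G // IsConj h x} * conj ((χ : G → ℂ) h)) := by
    intro χ
    rw [Cfsg.classInner, hδ]
    simp only [ite_mul, one_mul, zero_mul, ← Finset.sum_filter]
    congr 1
    rw [Finset.sum_congr rfl fun x hx => by
      rw [← apply_eq_of_isConj (isClassFunction_of_isCharacter
        (isCharacter_of_isIrrCharacter χ.2)) (Finset.mem_filter.1 hx).2],
      Finset.sum_const, nsmul_eq_mul, Nat.card_eq_fintype_card, Fintype.card_subtype]
  have h1 := congrFun (eq_sum_classInner (ψ := δ) (isClassFunction_indicator h)) g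
  simp only [Finset.sum_apply, Pi.smul_apply, hc, smul_eq_mul] at h1
  have hG : (Nat.card G : ℂ) ≠ 0 := Nat.cast_ne_zero.2 Nat.card_pos.ne'
  have hK : (Nat.card {x : G // IsConj h x} : ℂ) ≠ 0 := by
    have : Nonempty {x : G // IsConj h x} := ⟨⟨h, IsConj.refl h⟩⟩
    exact Nat.cast_ne_zero.2 Nat.card_pos.ne'
  have h2 : (∑ χ : Cfsg.IrrCharacter G, (χ : G → ℂ) g * conj ((χ : G → ℂ) h)) =
      (Nat.card G : ℂ) / Nat.card {x : G // IsConj h x} * δ g := by
    rw [h1, Finset.mul_sum]
    refine Finset.sum_congr rfl fun χ _ => ?_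
    field_simp
  rw [h2, hδ]
  by_cases hc' : IsConj g h
  · have hcls : Nat.card {x : G // IsConj g x} = Nat.card {x : G // IsConj h x} :=
      Nat.card_congr (Equiv.subtypeEquivRight fun x =>
        ⟨fun e => hc'.symm.trans e, fun e => hc'.trans e⟩)
    simp only [if_pos hc'.symm, if_pos hc', mul_one]
    rw [div_eq_iff hK, ← card_conj_mul_card_centralizer g, hcls, Nat.cast_mul, mul_comm]
  · simp only [if_neg hc', if_neg (fun e : IsConj h g => hc' e.symm), mul_zero]

theorem sum_sq_apply_one [Finite G] :
    ∑ χ : Cfsg.IrrCharacter G, (χ : G → ℂ) 1 ^ 2 = (Nat.card G : ℂ) := by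
  classical
  have hc : Nat.card (Subgroup.centralizer ({1} : Set G)) = Nat.card G := by
    rw [Subgroup.centralizer_eq_top_iff_subset.2 (by simp), Subgroup.card_top]
  rw [← hc, ← (sum_irr_mul_conj (1 : G) 1).trans (if_pos (IsConj.refl _))]
  refine Finset.sum_congr rfl fun χ _ => ?_
  obtain ⟨n, -, hn⟩ := isIrrCharacter_apply_one χ.2
  rw [hn, map_natCast, sq]

/-- An irreducible character separates non-conjugate elements. -/
theorem isConj_iff_forall_irr [Finite G] (g h : G) :
    IsConj g h ↔ ∀ χ : Cfsg.IrrCharacter G, (χ : G → ℂ) g = (χ : G → ℂ) h := by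
  classical
  refine ⟨fun hc χ => apply_eq_of_isConj
    (isClassFunction_of_isCharacter (isCharacter_of_isIrrCharacter χ.2)) hc, fun hh => ?_⟩
  by_contra hc
  have h1 := sum_irr_mul_conj g h
  rw [if_neg hc] at h1
  have h2 := sum_irr_mul_conj g g
  rw [if_pos (IsConj.refl g)] at h2
  have h3 : (Nat.card (Subgroup.centralizer ({g} : Set G)) : ℂ) = 0 := by
    rw [← h1, ← h2]
    simp only [hh]
  exact Nat.card_pos.ne' (Nat.cast_eq_zero.1 h3)

theorem card_irrCharacter [Finite G] :
    Nat.card (Cfsg.IrrCharacter G) = Nat.card (ConjClasses G) := by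
  classical
  have := Fintype.ofFinite G
  have := Fintype.ofFinite (ConjClasses G)
  let r : Cfsg.IrrCharacter G → ConjClasses G → ℂ := fun χ C => (χ : G → ℂ) C.out
  have hcl : ∀ (χ : Cfsg.IrrCharacter G) (g : G),
      (χ : G → ℂ) (ConjClasses.mk g).out = (χ : G → ℂ) g := fun χ g =>
    apply_eq_of_isConj (isClassFunction_of_isCharacter (isCharacter_of_isIrrCharacter χ.2))
      (ConjClasses.mk_eq_mk_iff_isConj.1 (Quotient.out_eq _))
  have hli : LinearIndependent ℂ r := by
    rw [Fintype.linearIndependent_iff]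
    intro c hc
    refine Fintype.linearIndependent_iff.1 linearIndependent_irr c ?_
    funext g
    have h1 := congrFun hc (ConjClasses.mk g)
    simp only [r, Finset.sum_apply, Pi.smul_apply, hcl] at h1
    simpa using h1
  have hsp : ⊤ ≤ Submodule.span ℂ (Set.range r) := by
    intro F _
    have hF : Cfsg.IsClassFunction G (fun g => F (ConjClasses.mk g)) := fun g h =>
      congrArg F (ConjClasses.mk_eq_mk_iff_isConj.2 (isConj_iff.2 ⟨h, rfl⟩).symm)
    rw [Submodule.mem_span_range_iff_exists_fun]
    refine ⟨fun χ => Cfsg.classInner (fun g => F (ConjClasses.mk g)) χ, ?_⟩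
    funext C
    obtain ⟨g, rfl⟩ := ConjClasses.exists_rep C
    have h1 := congrFun (eq_sum_classInner hF) g
    simp only [Finset.sum_apply, Pi.smul_apply] at h1
    simp only [r, Finset.sum_apply, Pi.smul_apply, hcl, ← h1]
  have h := Module.finrank_eq_card_basis (Module.Basis.mk hli hsp)
  rw [Module.finrank_fintype_fun_eq_card] at h
  rw [Nat.card_eq_fintype_card, Nat.card_eq_fintype_card, h]

end Cfsg.Agent.CharBasicOrth
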