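import Mathlib
import Cfsg.Prelude.Def_Blocks
import Cfsg.Agent.Lib.CharBasicOrth

/-!
# Class multiplication through characters, and valuation criteria for characters of large p-degree
-/

set_option autoImplicit false

open scoped ComplexConjugate

namespace Cfsg.Agent.ClassAlgebraVal

universe u

variable {G : Type u} [Group G]

theorem irr_isCharacter (χ : Cfsg.IrrCharacter G) : Cfsg.IsCharacter G (χ : G → ℂ) :=
  CharBasic.isCharacter_of_isIrrCharacter χ.2

theorem irr_conj (χ : Cfsg.IrrCharacter G) {g h : G} (hc : IsConj g h) :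
    (χ : G → ℂ) g = (χ : G → ℂ) h :=
  CharBasic.apply_eq_of_isConj (CharBasic.isClassFunction_of_isCharacter (irr_isCharacter χ)) hc

theorem apply_one_eq_charDegree (χ : Cfsg.IrrCharacter G) :
    (χ : G → ℂ) 1 = (Cfsg.charDegree (χ : G → ℂ) : ℂ) := by
  obtain ⟨n, -, hn⟩ := CharBasic.isIrrCharacter_apply_one χ.2
  simp [Cfsg.charDegree, hn]

theorem charDegree_pos (χ : Cfsg.IrrCharacter G) : 0 < Cfsg.charDegree (χ : G → ℂ) := by
  obtain ⟨n, hn0, hn⟩ := CharBasic.isIrrCharacter_apply_one χ.2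
  simpa [Cfsg.charDegree, hn] using hn0

/-- The product formula for irreducible characters. -/
theorem sum_apply_mul_conj [Fintype G] {χ : G → ℂ} (hχ : Cfsg.IsIrrCharacter G χ) (a b : G) :
    χ 1 * ∑ x : G, χ (a * (x * b * x⁻¹)) = (Nat.card G : ℂ) * (χ a * χ b) := by
  obtain ⟨n, ρ, hi, rfl⟩ := hχ
  set T : Module.End ℂ (Fin n → ℂ) := ∑ x : G, ρ (x * b * x⁻¹) with hT
  have hcomm : ∀ g v, T (ρ g v) = ρ g (T v) := by
    intro g v
    simp only [hT, LinearMap.sum_apply, map_sum, ← Module.End.mul_apply, ← map_mul]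
    refine Fintype.sum_equiv (Equiv.mulLeft g⁻¹) _ _ fun x => ?_
    simp [mul_assoc]
  obtain ⟨c, hc, htr⟩ := CharBasic.exists_scalar_of_commute ρ T hcomm
  have h1 : LinearMap.trace ℂ _ T = (Nat.card G : ℂ) * ρ.character b := by
    rw [hT, map_sum]
    have : ∀ x : G, LinearMap.trace ℂ _ (ρ (x * b * x⁻¹)) = ρ.character b := fun x =>
      Representation.char_conj ρ b x
    rw [Finset.sum_congr rfl fun x _ => this x, Finset.sum_const, nsmul_eq_mul, Finset.card_univ, Nat.card_eq_fintype_card]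
  have h2 : ∑ x : G, ρ.character (a * (x * b * x⁻¹)) = c * ρ.character a := by
    have : ∀ x : G, ρ.character (a * (x * b * x⁻¹)) =
        LinearMap.trace ℂ _ (ρ a * ρ (x * b * x⁻¹)) := fun x => by
      rw [Representation.character, map_mul]
    simp only [this, ← map_sum, ← Finset.mul_sum]
    rw [← hT, hc, ← Module.End.one_eq_id, mul_smul_comm, mul_one, map_smul, smul_eq_mul]
    rfl
  rw [h2, Representation.char_one]
  rw [h1] at htr
  linear_combination (-(ρ.character a)) * htr

/-- Class multiplication coefficients through characters. -/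
theorem sum_irr_triple [Fintype G] (a b c : G) :
    ∑ χ : Cfsg.IrrCharacter G,
        (χ : G → ℂ) a * (χ : G → ℂ) b * conj ((χ : G → ℂ) c) / (χ : G → ℂ) 1 =
      (Nat.card (Subgroup.centralizer ({c} : Set G)) : ℂ) *
        (Nat.card {x : G // IsConj c (a * (x * b * x⁻¹))} : ℂ) / (Nat.card G : ℂ) := by
  classical
  have hG : (Nat.card G : ℂ) ≠ 0 := Nat.cast_ne_zero.2 Nat.card_pos.ne'
  have h1 : ∀ χ : Cfsg.IrrCharacter G,
      (χ : G → ℂ) a * (χ : G → ℂ) b * conj ((χ : G → ℂ) c) / (χ : G → ℂ) 1 =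
        (∑ x : G, (χ : G → ℂ) (a * (x * b * x⁻¹)) * conj ((χ : G → ℂ) c)) / (Nat.card G : ℂ) := by
    intro χ
    rw [← Finset.sum_mul, div_eq_div_iff (CharBasic.isIrrCharacter_apply_one_ne_zero χ.2) hG]
    have := sum_apply_mul_conj χ.2 a b
    linear_combination (-conj ((χ : G → ℂ) c)) * this
  simp only [h1, ← Finset.sum_div]
  congr 1
  rw [Finset.sum_comm]
  have h2 : ∀ x : G, ∑ χ : Cfsg.IrrCharacter G,
      (χ : G → ℂ) (a * (x * b * x⁻¹)) * conj ((χ : G → ℂ) c) =
        if IsConj c (a * (x * b * x⁻¹)) then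
          (Nat.card (Subgroup.centralizer ({c} : Set G)) : ℂ) else 0 := by
    intro x
    split_ifs with hc
    · rw [← (CharBasicOrth.sum_irr_mul_conj c c).trans (if_pos (IsConj.refl c))]
      exact Finset.sum_congr rfl fun χ _ => by rw [irr_conj χ hc.symm]
    · rw [CharBasicOrth.sum_irr_mul_conj, if_neg fun e => hc e.symm]
  simp only [h2, ← Finset.sum_filter, Finset.sum_const, nsmul_eq_mul,
    Nat.card_eq_fintype_card, Fintype.card_subtype]
  ring

/-- The sum of a character over a subgroup is the order of the subgroup times a natural number. -/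
theorem exists_sum_subgroup [Finite G] {χ : G → ℂ} (hχ : Cfsg.IsCharacter G χ) (P : Subgroup G)
    [Fintype P] : ∃ m : ℕ, ∑ u : P, conj (χ (u : G)) = (Nat.card P : ℂ) * m := by
  have hc : Cfsg.IsCharacter P (χ ∘ P.subtype) := CharBasic.isCharacter_comap _ hχ
  have h1 : Cfsg.IsCharacter P (fun _ => (1 : ℂ)) := by
    refine ⟨1, Representation.trivial ℂ P (Fin 1 → ℂ), ?_⟩
    funext u; simp [Representation.character]
  obtain ⟨m, hm⟩ := CharBasicOrth.classInner_isCharacter h1 hc
  refine ⟨m, ?_⟩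
  rw [← hm, CharBasicOrth.card_mul_classInner]
  simp

/-- A natural number that is a rational multiple of an algebraic integer. -/
theorem dvd_of_integral {n d : ℕ} (hd : d ≠ 0) {z : ℂ} (hz : IsIntegral ℤ z)
    (h : (n : ℂ) = (d : ℂ) * z) : d ∣ n := by
  have hq : IsIntegral ℤ ((n : ℚ) / d) := by
    rw [← isIntegral_algebraMap_iff (FaithfulSMul.algebraMap_injective ℚ ℂ)]
    have : algebraMap ℚ ℂ ((n : ℚ) / d) = z := by
      rw [map_div₀, map_natCast, map_natCast, div_eq_iff (Nat.cast_ne_zero.2 hd), h, mul_comm]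
    rwa [this]
  obtain ⟨k, hk⟩ := IsIntegrallyClosed.isIntegral_iff.1 hq
  have hkn : (d : ℤ) * k = n := by
    have : (d : ℚ) * (k : ℚ) = n := by
      rw [show (k : ℚ) = (n : ℚ) / d from hk, mul_div_cancel₀]
      exact_mod_cast hd
    exact_mod_cast this
  exact Int.natCast_dvd_natCast.1 ⟨k, hkn.symm⟩

/-- If `p ^ e` bounds the `p`-parts of all degrees, then a weighted class count over a subgroup is
divisible by the order of this subgroup. -/
theorem card_dvd_of_count [Fintype G] {p : ℕ} (hp : p.Prime) (a b : G) (P : Subgroup G)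
    [Fintype P] (e : ℕ)
    (he : ∀ χ : Cfsg.IrrCharacter G, (Cfsg.charDegree (χ : G → ℂ)).factorization p ≤ e) :
    ∃ N : ℕ, ¬ p ∣ N ∧ Nat.card G * Nat.card P ∣ p ^ e * N *
      ∑ u : P, Nat.card (Subgroup.centralizer ({(u : G)} : Set G)) *
        Nat.card {x : G // IsConj (u : G) (a * (x * b * x⁻¹))} := by
  classical
  let d : Cfsg.IrrCharacter G → ℕ := fun χ => Cfsg.charDegree (χ : G → ℂ)
  let N : ℕ := ∏ χ : Cfsg.IrrCharacter G, d χ / p ^ (d χ).factorization p
  have hN : ¬ p ∣ N := by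
    intro h
    obtain ⟨χ, -, hχ⟩ := (hp.prime.dvd_finset_prod_iff _).1 h
    exact Nat.not_dvd_ordCompl hp (charDegree_pos χ).ne' hχ
  have hd : ∀ χ, d χ ∣ p ^ e * N := fun χ => by
    rw [← Nat.ordProj_mul_ordCompl_eq_self (d χ) p]
    exact mul_dvd_mul (pow_dvd_pow p (he χ)) (Finset.dvd_prod_of_mem _ (Finset.mem_univ χ))
  choose q hq using hd
  choose m hm using fun χ : Cfsg.IrrCharacter G => exists_sum_subgroup (irr_isCharacter χ) P
  refine ⟨N, hN, dvd_of_integral (mul_ne_zero Nat.card_pos.ne' Nat.card_pos.ne')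
    (z := ∑ χ : Cfsg.IrrCharacter G, (q χ : ℂ) * m χ * (χ : G → ℂ) a * (χ : G → ℂ) b) ?_ ?_⟩
  · refine IsIntegral.sum _ fun χ _ => ?_
    exact ((((isIntegral_algebraMap (x := (q χ : ℤ))).mul
      (isIntegral_algebraMap (x := (m χ : ℤ)))).mul
      (CharBasic.isCharacter_integral (irr_isCharacter χ) a))).mul
      (CharBasic.isCharacter_integral (irr_isCharacter χ) b)
  · have h1 : ∑ u : P, ∑ χ : Cfsg.IrrCharacter G,
        (χ : G → ℂ) a * (χ : G → ℂ) b * conj ((χ : G → ℂ) u) / (χ : G → ℂ) 1 =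
      ∑ u : P, (Nat.card (Subgroup.centralizer ({(u : G)} : Set G)) : ℂ) *
        (Nat.card {x : G // IsConj (u : G) (a * (x * b * x⁻¹))} : ℂ) / (Nat.card G : ℂ) :=
      Finset.sum_congr rfl fun u _ => sum_irr_triple a b (u : G)
    rw [← Finset.sum_div, eq_div_iff (Nat.cast_ne_zero.2 Nat.card_pos.ne'), Finset.sum_comm] at h1
    push_cast
    rw [← h1]
    simp only [← Finset.mul_sum, ← Finset.sum_div, hm]
    rw [Finset.sum_mul, Finset.mul_sum, Finset.mul_sum]
    refine Finset.sum_congr rfl fun χ _ => ?_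
    have h1' : (χ : G → ℂ) 1 = (d χ : ℂ) := apply_one_eq_charDegree χ
    have h2 : (d χ : ℂ) ≠ 0 := Nat.cast_ne_zero.2 (charDegree_pos χ).ne'
    have h3 : (p : ℂ) ^ e * (N : ℂ) = (d χ : ℂ) * (q χ : ℂ) := by exact_mod_cast hq χ
    rw [h1', h3]
    field_simp

/-- The prime-power form: from a bound on degrees to a divisibility by a power of `p`. -/
theorem pow_dvd_of_count [Fintype G] {p : ℕ} (hp : p.Prime) (a b : G) (P : Subgroup G)
    [Fintype P] (e c : ℕ) (hP : p ^ c ∣ Nat.card P)
    (he : ∀ χ : Cfsg.IrrCharacter G, (Cfsg.charDegree (χ : G → ℂ)).factorization p ≤ e) :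
    p ^ ((Nat.card G).factorization p + c) ∣ p ^ e *
      ∑ u : P, Nat.card (Subgroup.centralizer ({(u : G)} : Set G)) *
        Nat.card {x : G // IsConj (u : G) (a * (x * b * x⁻¹))} := by
  obtain ⟨N, hN, h⟩ := card_dvd_of_count hp a b P e he
  have h2 := dvd_trans (mul_dvd_mul (Nat.ordProj_dvd (Nat.card G) p) hP) h
  rw [← pow_add, mul_right_comm] at h2
  exact (Nat.Coprime.pow_left _ ((hp.coprime_iff_not_dvd).2 hN)).dvd_of_dvd_mul_right h2

/-- If the product of two conjugates of `a` and `b` meets `P` only in the identity, some degree is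
divisible by a large power of `p`. -/
theorem exists_degree_ge [Fintype G] {p : ℕ} (hp : p.Prime) (a : G) (P : Subgroup G)
    (c v : ℕ) (hP : Nat.card P = p ^ c)
    (hv : (Nat.card (Subgroup.centralizer ({a} : Set G))).factorization p = v)
    (h : ∀ z ∈ P, z ≠ 1 → ∀ x : G, ¬ IsConj z (a * (x * a⁻¹ * x⁻¹))) :
    ∃ χ : Cfsg.IrrCharacter G, c ≤ (Cfsg.charDegree (χ : G → ℂ)).factorization p + v := by
  classical
  by_contra hne
  push Not at hne
  have : Fintype P := Fintype.ofFinite _
  have hvc : v < c := by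
    have h0 : Nonempty (Cfsg.IrrCharacter G) := by
      by_contra h0
      rw [not_nonempty_iff] at h0
      have := CharBasicOrth.sum_sq_apply_one (G := G)
      simp [Nat.cast_eq_zero, Fintype.card_ne_zero, eq_comm] at this
    have := hne h0.some
    omega
  have h1 := pow_dvd_of_count hp a a⁻¹ P (c - v - 1) c (dvd_of_eq hP.symm)
    (fun χ => by have := hne χ; omega)
  have hcnt1 : Nat.card {x : G // IsConj (1 : G) (a * (x * a⁻¹ * x⁻¹))} =
      Nat.card (Subgroup.centralizer ({a} : Set G)) := by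
    refine Nat.card_congr (Equiv.subtypeEquivRight fun x => ?_)
    rw [isConj_one_right, mul_eq_one_iff_eq_inv, Subgroup.mem_centralizer_singleton_iff]
    constructor
    · intro hx
      have : a = x * a * x⁻¹ := hx.trans (by group)
      calc x * a = x * a * x⁻¹ * x := by group
        _ = a * x := by rw [← this]
    · intro hx
      calc a = a * x * x⁻¹ := by group
        _ = (x * a⁻¹ * x⁻¹)⁻¹ := by rw [← hx]; group
  have hsum : ∑ u : P, Nat.card (Subgroup.centralizer ({(u : G)} : Set G)) *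
      Nat.card {x : G // IsConj (u : G) (a * (x * a⁻¹ * x⁻¹))} =
      Nat.card G * Nat.card (Subgroup.centralizer ({a} : Set G)) := by
    rw [Finset.sum_eq_single (1 : P)]
    · rw [OneMemClass.coe_one, hcnt1]
      congr 1
      rw [Subgroup.centralizer_eq_top_iff_subset.2 (by simp), Subgroup.card_top]
    · intro u _ hu
      have : IsEmpty {x : G // IsConj (u : G) (a * (x * a⁻¹ * x⁻¹))} :=
        ⟨fun x => h u u.2 (by simpa using hu) x.1 x.2⟩
      rw [@Nat.card_of_isEmpty _ this, mul_zero]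
    · simp
  rw [hsum] at h1
  have h0 : Nat.card G * Nat.card (Subgroup.centralizer ({a} : Set G)) ≠ 0 :=
    mul_ne_zero Nat.card_pos.ne' Nat.card_pos.ne'
  rw [hp.pow_dvd_iff_le_factorization (mul_ne_zero (pow_ne_zero _ hp.ne_zero) h0),
    Nat.factorization_mul (pow_ne_zero _ hp.ne_zero) h0,
    Nat.factorization_mul Nat.card_pos.ne' Nat.card_pos.ne'] at h1
  simp only [Finsupp.coe_add, Pi.add_apply, hp.factorization_pow, Finsupp.single_eq_same, hv] at h1
  omega

end Cfsg.Agent.ClassAlgebraVal
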