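import Cfsg.Agent.Lib.BlockTheoryCentre

/-!
Blocks through central characters: partition, integrality of block idempotents, weak block
orthogonality and vanishing off `p`-sections.
-/

namespace Cfsg.Agent.BlockTheoryIdem

open Cfsg Cfsg.Agent.BlockTheoryLocalRing Cfsg.Agent.BlockTheoryRotation
open Cfsg.Agent.BlockTheoryCentre Cfsg.Agent.CharBasic
open scoped ComplexConjugate

attribute [local instance] Classical.propDecidable

variable {p : ℕ} {M : Ideal AlgInt} {G : Type*} [Group G]

theorem sameBlock_refl (hM : IsPModular p M) (χ : G → ℂ) : SameBlock M χ χ :=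
  fun g => by rw [sub_self]; exact ideal_zero hM

theorem sameBlock_symm {χ ψ : G → ℂ} (h : SameBlock M χ ψ) : SameBlock M ψ χ :=
  fun g => neg_sub (centralChar χ g) (centralChar ψ g) ▸ ideal_neg (h g)

theorem sameBlock_trans (hM : IsPModular p M) {a b c : G → ℂ} (h₁ : SameBlock M a b)
    (h₂ : SameBlock M b c) : SameBlock M a c :=
  fun g => sub_add_sub_cancel (centralChar a g) (centralChar b g) (centralChar c g) ▸
    ideal_add hM (h₁ g) (h₂ g)

theorem self_mem_blockOf (hM : IsPModular p M) (χ : IrrCharacter G) :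
    χ ∈ blockOf M (χ : G → ℂ) := sameBlock_refl hM _

theorem isPBlock_blockOf (χ : IrrCharacter G) : IsPBlock M (blockOf M (χ : G → ℂ)) := ⟨χ, rfl⟩

theorem blockOf_congr (hM : IsPModular p M) {χ ψ : G → ℂ} (h : SameBlock M χ ψ) :
    blockOf M χ = blockOf M ψ := by
  ext ξ
  exact ⟨fun h' => sameBlock_trans hM (sameBlock_symm h) h', fun h' => sameBlock_trans hM h h'⟩

theorem eq_blockOf_of_mem (hM : IsPModular p M) {B : Set (IrrCharacter G)} (hB : IsPBlock M B)
    {χ : IrrCharacter G} (hχ : χ ∈ B) : B = blockOf M (χ : G → ℂ) := by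
  obtain ⟨ψ, rfl⟩ := hB
  exact blockOf_congr hM hχ

theorem block_nonempty (hM : IsPModular p M) {B : Set (IrrCharacter G)} (hB : IsPBlock M B) :
    B.Nonempty := by
  obtain ⟨χ, rfl⟩ := hB
  exact ⟨χ, self_mem_blockOf hM χ⟩

theorem sameBlock_of_mem (hM : IsPModular p M) {B : Set (IrrCharacter G)} (hB : IsPBlock M B)
    {χ ψ : IrrCharacter G} (hχ : χ ∈ B) (hψ : ψ ∈ B) : SameBlock M (χ : G → ℂ) (ψ : G → ℂ) := by
  rw [eq_blockOf_of_mem hM hB hχ] at hψ
  exact hψ

theorem block_eq_of_sameBlock (hM : IsPModular p M) {B C : Set (IrrCharacter G)}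
    (hB : IsPBlock M B) (hC : IsPBlock M C) {χ ψ : IrrCharacter G} (hχ : χ ∈ B) (hψ : ψ ∈ C)
    (h : SameBlock M (χ : G → ℂ) (ψ : G → ℂ)) : B = C := by
  rw [eq_blockOf_of_mem hM hB hχ, eq_blockOf_of_mem hM hC hψ, blockOf_congr hM h]

theorem block_eq_of_mem (hM : IsPModular p M) {B C : Set (IrrCharacter G)}
    (hB : IsPBlock M B) (hC : IsPBlock M C) {χ : IrrCharacter G} (hχ : χ ∈ B) (hχ' : χ ∈ C) :
    B = C :=
  block_eq_of_sameBlock hM hB hC hχ hχ' (sameBlock_refl hM _)

theorem mem_of_sameBlock (hM : IsPModular p M) {B : Set (IrrCharacter G)} (hB : IsPBlock M B)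
    {χ ψ : IrrCharacter G} (hχ : χ ∈ B) (h : SameBlock M (χ : G → ℂ) (ψ : G → ℂ)) : ψ ∈ B := by
  rw [eq_blockOf_of_mem hM hB hχ]
  exact h

variable [Fintype G]

/-- Members of one block have congruent central characters on integral central elements. -/
theorem omega_sub_mem (hM : IsPModular p M) {χ ψ : IrrCharacter G}
    (h : SameBlock M (χ : G → ℂ) (ψ : G → ℂ)) {z : MonoidAlgebra ℂ G} (hz : IsCen z)
    (hzi : IsInt M z) : MemLocalIdeal M (omega (χ : G → ℂ) z - omega (ψ : G → ℂ) z) := by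
  rw [hz.eq_sum_classSum, map_sum, map_sum, ← Finset.sum_sub_distrib]
  refine ideal_sum hM fun C _ => ?_
  rw [map_smul, map_smul, smul_eq_mul, smul_eq_mul, omega_classSum (irr_classFun χ),
    omega_classSum (irr_classFun ψ), ← mul_sub]
  exact ideal_mul_left hM (hzi _) (h _)

/-- A set of characters with integral idempotent is a union of blocks. -/
theorem blockOf_subset_of_isInt (hM : IsPModular p M) {A : Set (IrrCharacter G)}
    (hA : IsInt M (idem A)) {χ : IrrCharacter G} (hχ : χ ∈ A) :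
    blockOf M (χ : G → ℂ) ⊆ A := by
  intro ψ hψ
  by_contra hψA
  have := omega_sub_mem hM (show SameBlock M (χ : G → ℂ) (ψ : G → ℂ) from hψ) (isCen_idem A) hA
  rw [omega_idem, omega_idem, if_pos hχ, if_neg hψA, sub_zero] at this
  exact one_not_ideal hM this

/-- Exact separation of a block from finitely many outside characters. -/
theorem exists_separating (hM : IsPModular p M) {B : Set (IrrCharacter G)} (hB : IsPBlock M B)
    (S : Finset (IrrCharacter G)) (hS : ∀ ψ ∈ S, ψ ∉ B) :
    ∃ Z : MonoidAlgebra ℂ G, IsCen Z ∧ IsInt M Z ∧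
      (∀ ψ ∈ S, omega (ψ : G → ℂ) Z = 0) ∧
      ∀ χ ∈ B, ¬ MemLocalIdeal M (omega (χ : G → ℂ) Z) := by
  induction S using Finset.induction with
  | empty => exact ⟨1, isCen_one, isInt_one hM, by simp, fun χ _ => by
      rw [omega_one]; exact one_not_ideal hM⟩
  | @insert ψ S hψS ih =>
    obtain ⟨Z, hc, hi, h0, h1⟩ := ih fun x hx => hS x (Finset.mem_insert_of_mem hx)
    obtain ⟨χ₀, hχ₀⟩ := block_nonempty hM hB
    have hne : ¬ SameBlock M (χ₀ : G → ℂ) (ψ : G → ℂ) := fun h =>
      hS ψ (Finset.mem_insert_self ..) (mem_of_sameBlock hM hB hχ₀ h)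
    obtain ⟨g, hg⟩ := not_forall.mp hne
    set c := centralChar (ψ : G → ℂ) g with hc'
    have hcR : MemLocalRing M c := of_isIntegral hM (isIntegral_centralChar ψ g)
    have hwc : IsCen (classSum g - c • 1) := (isCen_classSum g).sub (isCen_one.smul c)
    have hwi : IsInt M (classSum g - c • 1) :=
      IsInt.sub hM (isInt_classSum hM g) (IsInt.smul hM hcR (isInt_one hM))
    have hw : ∀ ξ : IrrCharacter G,
        omega (ξ : G → ℂ) (classSum g - c • 1) = centralChar (ξ : G → ℂ) g - c := fun ξ => by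
      rw [map_sub, map_smul, omega_one, omega_classSum (irr_classFun ξ), smul_eq_mul, mul_one]
    refine ⟨(classSum g - c • 1) * Z, hwc.mul hc, IsInt.mul hM hwi hi, ?_, ?_⟩
    · intro ξ hξ
      rw [omega_mul ξ hwc, hw]
      rcases Finset.mem_insert.mp hξ with rfl | hξ
      · rw [sub_self, zero_mul]
      · rw [h0 ξ hξ, mul_zero]
    · intro χ hχ
      rw [omega_mul χ hwc, hw]
      refine not_ideal_mul hM ((localRing hM).sub_mem
        (of_isIntegral hM (isIntegral_centralChar χ g)) hcR)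
        (omega_mem_localRing hM χ hc hi) (fun h => hg ?_) (h1 χ hχ)
      rw [show centralChar (χ₀ : G → ℂ) g - c = (centralChar (χ : G → ℂ) g - c) -
        (centralChar (χ : G → ℂ) g - centralChar (χ₀ : G → ℂ) g) by ring]
      exact ideal_sub hM h (sameBlock_of_mem hM hB hχ hχ₀ g)

/-- Block idempotents have locally integral coefficients. -/
theorem isInt_idem (hM : IsPModular p M) {B : Set (IrrCharacter G)} (hB : IsPBlock M B) :
    IsInt M (idem B) := by
  obtain ⟨Z, hc, hi, h0, h1⟩ := exists_separating hM hB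
    (Finset.univ.filter fun ψ => ψ ∉ B) (by simp)
  suffices key : ∀ S : Finset (IrrCharacter G), ↑S ⊆ B → ∃ Y : MonoidAlgebra ℂ G,
      IsCen Y ∧ IsInt M Y ∧ (∀ ξ ∈ S, omega (ξ : G → ℂ) Y = 0) ∧
      ∀ ψ, ψ ∉ B → omega (ψ : G → ℂ) Y = 1 by
    obtain ⟨Y, hYc, hYi, hY0, hY1⟩ := key (Finset.univ.filter fun ψ => ψ ∈ B) (by simp)
    rw [show idem B = 1 - Y from ext_omega (isCen_idem _) (isCen_one.sub hYc) fun χ => by
      rw [map_sub, omega_one, omega_idem]
      by_cases h : χ ∈ B
      · rw [if_pos h, hY0 χ (by simp [h]), sub_zero]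
      · rw [if_neg h, hY1 χ h, sub_self]]
    exact IsInt.sub hM (isInt_one hM) hYi
  intro S
  induction S using Finset.induction with
  | empty => exact fun _ => ⟨1, isCen_one, isInt_one hM, by simp, fun ψ _ => omega_one ψ⟩
  | @insert χ S hχS ih =>
    intro hS
    rw [Finset.coe_insert, Set.insert_subset_iff] at hS
    obtain ⟨Y, hYc, hYi, hY0, hY1⟩ := ih hS.2
    set c := (omega (χ : G → ℂ) Z)⁻¹ with hcdef
    have hcR : MemLocalRing M c := inv_mem hM (omega_mem_localRing hM χ hc hi) (h1 χ hS.1)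
    have hwc : IsCen (1 - c • Z) := isCen_one.sub (hc.smul c)
    refine ⟨(1 - c • Z) * Y, hwc.mul hYc,
      IsInt.mul hM (IsInt.sub hM (isInt_one hM) (IsInt.smul hM hcR hi)) hYi, ?_, ?_⟩
    · intro ξ hξ
      rw [omega_mul ξ hwc]
      rcases Finset.mem_insert.mp hξ with rfl | hξ
      · have hne : omega (ξ : G → ℂ) Z ≠ 0 := fun h => h1 ξ hS.1 (h ▸ ideal_zero hM)
        rw [map_sub, omega_one, map_smul, smul_eq_mul, hcdef, inv_mul_cancel₀ hne, sub_self,
          zero_mul]
      · rw [hY0 ξ hξ, mul_zero]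
    · intro ψ hψ
      rw [omega_mul ψ hwc, hY1 ψ hψ, map_sub, omega_one, map_smul, h0 ψ (by simp [hψ]),
        smul_zero, sub_zero, one_mul]

theorem blockCoeff_mem (hM : IsPModular p M) {B : Set (IrrCharacter G)} (hB : IsPBlock M B)
    (g : G) : MemLocalRing M (blockCoeff B g) := isInt_idem hM hB g

section Pieces

variable (m : ℕ) (s : G)

/-- The eigen-idempotents of an element. -/
noncomputable def eigenIdem (lam : ℂ) : MonoidAlgebra ℂ G :=
  (m : ℂ)⁻¹ • ∑ i ∈ Finset.range m, MonoidAlgebra.single (s ^ i) (lam ^ i)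

theorem sum_range_succ_periodic {A : Type*} [AddCommGroup A] (f : ℕ → A) (h : f m = f 0) :
    ∑ i ∈ Finset.range m, f (i + 1) = ∑ i ∈ Finset.range m, f i := by
  have e1 := Finset.sum_range_succ' f m
  have e2 := Finset.sum_range_succ f m
  rw [h] at e2
  exact add_right_cancel (e1.symm.trans e2)

theorem eigenIdem_sq {lam : ℂ} (hs : s ^ m = 1) (hl : lam ^ m = 1) (hm : 0 < m) :
    eigenIdem m s lam * eigenIdem m s lam = eigenIdem m s lam := by
  have step : ∀ j : ℕ, MonoidAlgebra.single (s ^ j) (lam ^ j) * eigenIdem m s lam =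
      eigenIdem m s lam := by
    intro j
    induction j with
    | zero => rw [pow_zero, pow_zero, ← MonoidAlgebra.one_def, one_mul]
    | succ j ih =>
      rw [pow_succ, pow_succ, ← MonoidAlgebra.single_mul_single, mul_assoc]
      suffices MonoidAlgebra.single s lam * eigenIdem m s lam = eigenIdem m s lam by
        rw [this, ih]
      rw [eigenIdem, Algebra.mul_smul_comm, Finset.mul_sum]
      congr 1
      simp only [MonoidAlgebra.single_mul_single, ← pow_succ']
      exact sum_range_succ_periodic m (fun i => MonoidAlgebra.single (s ^ i) (lam ^ i))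
        (by simp [hs, hl])
  nth_rewrite 1 [eigenIdem]
  rw [Algebra.smul_mul_assoc, Finset.sum_mul, Finset.sum_congr rfl fun j _ => step j,
    Finset.sum_const, Finset.card_range, ← Nat.cast_smul_eq_nsmul ℂ, smul_smul,
    inv_mul_cancel₀ (Nat.cast_ne_zero.mpr hm.ne'), one_smul]

theorem sum_eigenIdem {ζ : ℂ} (hζ : IsPrimitiveRoot ζ m) (hs : s ^ m = 1) (hm : 1 < m) :
    ∑ j ∈ Finset.range m, (ζ ^ j)⁻¹ • eigenIdem m s (ζ ^ j) = MonoidAlgebra.single s 1 := by
  have hm0 : (m : ℂ) ≠ 0 := Nat.cast_ne_zero.mpr (by omega)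
  have hζ0 : ζ ≠ 0 := hζ.ne_zero (by omega)
  simp only [eigenIdem, smul_smul]
  rw [Finset.sum_congr rfl fun j _ => Finset.smul_sum, Finset.sum_comm,
    Finset.sum_eq_single 1]
  · simp only [MonoidAlgebra.smul_single, pow_one, smul_eq_mul]
    rw [Finset.sum_congr rfl fun j _ => ?_, Finset.sum_const, Finset.card_range,
      ← Nat.cast_smul_eq_nsmul ℂ, MonoidAlgebra.smul_single]
    · rw [smul_eq_mul, mul_inv_cancel₀ hm0]
    · congr 1
      field_simp
  · intro i hi hi1
    simp only [MonoidAlgebra.smul_single, smul_eq_mul]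
    refine MonoidAlgebra.ext ?_
    ext x
    rw [MonoidAlgebra.coeff_sum, Finset.sum_apply']
    simp only [MonoidAlgebra.coeff_single, Finsupp.single_apply, MonoidAlgebra.coeff_zero,
      Finsupp.coe_zero, Pi.zero_apply]
    split_ifs
    · set w := ζ ^ i * ζ⁻¹ with hw
      have hterm : ∀ j : ℕ, (ζ ^ j)⁻¹ * (m : ℂ)⁻¹ * (ζ ^ j) ^ i = (m : ℂ)⁻¹ * w ^ j := by
        intro j
        rw [hw, mul_pow, inv_pow, ← pow_mul, ← pow_mul, mul_comm i j]
        ring
      rw [Finset.sum_congr rfl fun j _ => hterm j, ← Finset.mul_sum]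
      refine mul_eq_zero_of_right _ ?_
      have hw1 : w ≠ 1 := by
        intro h
        rw [hw, mul_inv_eq_one₀ hζ0] at h
        exact hi1 (hζ.pow_inj (Finset.mem_range.mp hi) hm (by rw [pow_one]; exact h))
      rw [geom_sum_eq hw1]
      refine div_eq_zero_iff.mpr (Or.inl ?_)
      rw [hw, mul_pow, ← pow_mul, mul_comm i m, pow_mul, hζ.pow_eq_one, one_pow, inv_pow,
        hζ.pow_eq_one]
      simp
    · simp
  · intro h
    exact absurd (Finset.mem_range.mpr hm) h

end Pieces

theorem isInt_eigenIdem (hM : IsPModular p M) {m : ℕ} (hm : ¬ p ∣ m) (s : G) {lam : ℂ}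
    (hl : MemLocalRing M lam) : IsInt M (eigenIdem m s lam) := by
  refine IsInt.smul hM (inv_natCast_mem hM hm) ?_
  refine Finset.sum_induction _ _ (fun _ _ => IsInt.add hM) (isInt_zero hM) fun i _ => ?_
  exact isInt_single hM _ ((localRing hM).pow_mem hl i)

theorem coeff_conj_eq_of_commute {u : G} {f : MonoidAlgebra ℂ G}
    (h : MonoidAlgebra.single u 1 * f = f * MonoidAlgebra.single u 1) (g : G) :
    f.coeff (u⁻¹ * g * u) = f.coeff g := by
  have := congrArg (fun t : MonoidAlgebra ℂ G => t.coeff (g * u)) h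
  simp only [coeff_mul_eq, MonoidAlgebra.coeff_single, Finsupp.single_apply, ite_mul, one_mul,
    zero_mul, mul_ite, mul_one, mul_zero, Finset.sum_ite_eq, Finset.mem_univ, if_true] at this
  rw [mul_assoc, this, Finset.sum_eq_single g]
  · simp
  · intro y _ hy
    rw [if_neg]
    intro h'
    exact hy (mul_right_cancel (b := u) (by nth_rewrite 1 [h']; simp))
  · simp

/-- An idempotent commuting with `u` and a `p`-regular `s`, times `u * s`: class sums vanish off
the section of `u`, and everywhere if the idempotent is negligible on the centralizer of `u`. -/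
theorem classCoeff_single_mul_idem_eq_zero (hM : IsPModular p M) (u s h : G)
    (hu : ∃ k, orderOf u = p ^ k) (hus : Commute u s) (hs : ¬ p ∣ orderOf s)
    (f : MonoidAlgebra ℂ G) (hf : f * f = f) (hint : IsInt M f)
    (hfu : MonoidAlgebra.single u 1 * f = f * MonoidAlgebra.single u 1)
    (hfs : MonoidAlgebra.single s 1 * f = f * MonoidAlgebra.single s 1)
    (hh : (∀ g, IsConj h g → ¬ IsPPart p g u) ∨
      ∀ g, Commute u g → MemLocalIdeal M (f.coeff g)) :
    classCoeff h (MonoidAlgebra.single u 1 * f * MonoidAlgebra.single s 1) = 0 := by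
  set m := orderOf s with hmdef
  have hm : 0 < m := orderOf_pos s
  have hsm : s ^ m = 1 := pow_orderOf_eq_one s
  have base : ∀ F : MonoidAlgebra ℂ G, F * F = F → IsInt M F →
      MonoidAlgebra.single u 1 * F = F * MonoidAlgebra.single u 1 →
      ((∀ g, IsConj h g → ¬ IsPPart p g u) ∨
        ∀ g, Commute u g → MemLocalIdeal M (F.coeff g)) →
      classCoeff h (MonoidAlgebra.single u 1 * F) = 0 := by
    intro F hF hFi hFu hFh
    rcases hFh with hA | hB
    · exact classCoeff_eq_zero_of_section hM u h hu F hF hFi (coeff_conj_eq_of_commute hFu) hA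
    · exact classCoeff_eq_zero_of_brauer hM u h hu F hF hFi (coeff_conj_eq_of_commute hFu) hB
  rcases Nat.lt_or_ge 1 m with h1 | h1
  · obtain ⟨ζ, hζ⟩ : ∃ ζ : ℂ, IsPrimitiveRoot ζ m :=
      ⟨_, Complex.isPrimitiveRoot_exp m hm.ne'⟩
    rw [← sum_eigenIdem m s hζ hsm h1, Finset.mul_sum, map_sum]
    refine Finset.sum_eq_zero fun j _ => ?_
    rw [Algebra.mul_smul_comm, map_smul, mul_assoc]
    set lam := ζ ^ j
    have hl : lam ^ m = 1 := by rw [← pow_mul, mul_comm, pow_mul, hζ.pow_eq_one, one_pow]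
    have hlR : MemLocalRing M lam :=
      of_isIntegral hM ((hζ.isIntegral hm).pow j)
    have hcs : ∀ i, MonoidAlgebra.single (s ^ i) (lam ^ i) * f =
        f * MonoidAlgebra.single (s ^ i) (lam ^ i) := by
      intro i
      have e : MonoidAlgebra.single (s ^ i) (lam ^ i) =
          lam ^ i • (MonoidAlgebra.single s (1 : ℂ)) ^ i := by
        rw [MonoidAlgebra.single_pow, one_pow, MonoidAlgebra.smul_single, smul_eq_mul, mul_one]
      rw [e, Algebra.smul_mul_assoc, Algebra.mul_smul_comm,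
        (Commute.pow_left (show Commute (MonoidAlgebra.single s 1) f from hfs) i).eq]
    have hfe : eigenIdem m s lam * f = f * eigenIdem m s lam := by
      rw [eigenIdem, Algebra.smul_mul_assoc, Algebra.mul_smul_comm, Finset.sum_mul,
        Finset.mul_sum, Finset.sum_congr rfl fun i _ => hcs i]
    have hue : MonoidAlgebra.single u 1 * eigenIdem m s lam =
        eigenIdem m s lam * MonoidAlgebra.single u 1 := by
      rw [eigenIdem, Algebra.smul_mul_assoc, Algebra.mul_smul_comm, Finset.sum_mul,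
        Finset.mul_sum]
      congr 1
      refine Finset.sum_congr rfl fun i _ => ?_
      rw [MonoidAlgebra.single_mul_single, MonoidAlgebra.single_mul_single, (hus.pow_right i).eq,
        one_mul, mul_one]
    rw [base (f * eigenIdem m s lam), smul_zero]
    · rw [mul_assoc, ← mul_assoc (eigenIdem m s lam), hfe, mul_assoc, eigenIdem_sq m s hsm hl hm,
        ← mul_assoc, hf]
    · exact IsInt.mul hM hint (isInt_eigenIdem hM hs s hlR)
    · rw [← mul_assoc, hfu, mul_assoc, hue, ← mul_assoc]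
    · refine hh.imp_right fun hB g hg => ?_
      rw [eigenIdem, Algebra.mul_smul_comm, MonoidAlgebra.coeff_smul_apply, smul_eq_mul,
        Finset.mul_sum, MonoidAlgebra.coeff_sum, Finset.sum_apply']
      refine ideal_mul_left hM (inv_natCast_mem hM hs) (ideal_sum hM fun i _ => ?_)
      rw [MonoidAlgebra.coeff_mul_single_eq_coeff_mul (g * (s ^ i)⁻¹)
        (fun m' _ => eq_mul_inv_iff_mul_eq.symm)]
      exact ideal_mul_right hM (hB _ (hg.mul_right (hus.pow_right i).inv_right))
        ((localRing hM).pow_mem hlR i)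
  · have : m = 1 := by omega
    rw [orderOf_eq_one_iff.mp this, ← MonoidAlgebra.one_def, mul_one]
    exact base f hf hint hfu hh

/-- Orthogonality between different sections inside a block. -/
theorem sum_block_mul_conj_eq_zero (hM : IsPModular p M) {B : Set (IrrCharacter G)}
    (hB : IsPBlock M B) (u s h : G) (hu : ∃ k, orderOf u = p ^ k) (hus : Commute u s)
    (hs : ¬ p ∣ orderOf s) (hh : ∀ g, IsConj h g → ¬ IsPPart p g u) :
    ∑ χ : IrrCharacter G,
      (if χ ∈ B then (χ : G → ℂ) (u * s) * conj ((χ : G → ℂ) h) else 0) = 0 := by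
  have h0 := classCoeff_single_mul_idem_eq_zero hM u s h hu hus hs (idem B) (idem_sq B)
    (isInt_idem hM hB) (((isCen_idem B).comm _).symm) (((isCen_idem B).comm _).symm) (Or.inl hh)
  have h1 := card_centralizer_mul_classCoeff h
    (MonoidAlgebra.single u 1 * idem B * MonoidAlgebra.single s 1)
  rw [h0, mul_zero] at h1
  refine Eq.trans ?_ h1.symm
  refine Finset.sum_congr rfl fun χ _ => ?_
  rw [((isCen_idem B).comm _).symm, mul_assoc, chiSum_idem_mul,
    MonoidAlgebra.single_mul_single, chiSum_single]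
  split_ifs <;> ring

omit [Fintype G] in
theorem finsum_mem_eq_sum [Finite G] {A : Type*} [AddCommMonoid A] (B : Set (IrrCharacter G))
    (f : IrrCharacter G → A) :
    ∑ᶠ χ ∈ B, f χ = ∑ χ : IrrCharacter G, if χ ∈ B then f χ else 0 := by
  rw [← finsum_eq_sum_of_fintype]
  exact finsum_congr fun χ => finsum_eq_if

omit [Fintype G] in
theorem exists_pPart [Finite G] (hp : p.Prime) (g : G) :
    ∃ x y : G, x * y = g ∧ Commute x y ∧ (∃ k, orderOf x = p ^ k) ∧ ¬ p ∣ orderOf y := by
  obtain ⟨a, o, ho, hg⟩ := Nat.exists_eq_pow_mul_and_not_dvd (orderOf_pos g).ne' p hp.ne_one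
  have hcop : IsCoprime ((p ^ a : ℕ) : ℤ) (o : ℤ) :=
    Int.isCoprime_iff_nat_coprime.mpr (by simpa using (hp.coprime_iff_not_dvd.mpr ho).pow_left a)
  obtain ⟨c, d, hcd⟩ := hcop
  refine ⟨g ^ (d * o), g ^ (c * (p ^ a : ℕ)), ?_, ?_, ?_, ?_⟩
  · rw [← zpow_add, add_comm, hcd, zpow_one]
  · exact (Commute.refl g).zpow_zpow _ _
  · obtain ⟨k, -, hk⟩ := (Nat.dvd_prime_pow hp).mp (show orderOf (g ^ (d * o)) ∣ p ^ a by
      rw [orderOf_dvd_iff_pow_eq_one, ← zpow_natCast, ← zpow_mul,
        show d * (o : ℤ) * ((p ^ a : ℕ) : ℤ) = (orderOf g : ℤ) * d by rw [hg]; push_cast; ring,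
        zpow_mul, zpow_natCast, pow_orderOf_eq_one, one_zpow])
    exact ⟨k, hk⟩
  · intro h
    refine ho (h.trans ?_)
    rw [orderOf_dvd_iff_pow_eq_one, ← zpow_natCast, ← zpow_mul,
      show c * ((p ^ a : ℕ) : ℤ) * (o : ℤ) = (orderOf g : ℤ) * c by rw [hg]; push_cast; ring,
      zpow_mul, zpow_natCast, pow_orderOf_eq_one, one_zpow]

omit [Fintype G] in
/-- The `p`-part of an element is unique. -/
theorem pPart_unique (hp : p.Prime) {g x x' : G} (h : IsPPart p g x) (h' : IsPPart p g x') :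
    x = x' := by
  obtain ⟨y, rfl, hc, ⟨k, hk⟩, hy⟩ := h
  obtain ⟨y', hg', hc', ⟨k', hk'⟩, hy'⟩ := h'
  obtain ⟨e, he1, he0⟩ := Nat.chineseRemainder
    (((hp.coprime_iff_not_dvd.mpr hy).mul_right (hp.coprime_iff_not_dvd.mpr hy')).pow_left
      (k + k')) 1 0
  have key : ∀ {a b : G} {j : ℕ}, Commute a b → orderOf a = p ^ j → j ≤ k + k' →
      orderOf b ∣ orderOf y * orderOf y' → (a * b) ^ e = a := by
    intro a b j hab ha hj hb
    rw [hab.mul_pow, orderOf_dvd_iff_pow_eq_one.mp
      (hb.trans (Nat.modEq_zero_iff_dvd.mp he0)), mul_one]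
    have := pow_eq_pow_iff_modEq.mpr (he1.of_dvd ((ha ▸ pow_dvd_pow p hj :
      orderOf a ∣ p ^ (k + k'))))
    rwa [pow_one] at this
  rw [← key hc hk (by omega) (dvd_mul_right ..), ← hg', key hc' hk' (by omega) (dvd_mul_left ..)]

/-- Weak block orthogonality. -/
theorem weak_orthogonality (hM : IsPModular p M) {B : Set (IrrCharacter G)} (hB : IsPBlock M B)
    {x y : G} (hx : ¬ p ∣ orderOf x) (hy : p ∣ orderOf y) :
    ∑ χ : IrrCharacter G,
      (if χ ∈ B then (χ : G → ℂ) x * conj ((χ : G → ℂ) y) else 0) = 0 := by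
  have := sum_block_mul_conj_eq_zero hM hB 1 x y ⟨0, by simp⟩ (Commute.one_left x) hx ?_
  · simpa using this
  rintro g hg ⟨z, hz, -, -, hzp⟩
  rw [one_mul] at hz
  subst hz
  obtain ⟨c, rfl⟩ := isConj_iff.mp hg
  rw [show c * y * c⁻¹ = MulAut.conj c y from rfl, MulEquiv.orderOf_eq] at hzp
  exact hzp hy

/-- Block idempotents are supported on `p`-regular elements. -/
theorem blockCoeff_eq_zero_of_dvd (hM : IsPModular p M) {B : Set (IrrCharacter G)}
    (hB : IsPBlock M B) {g : G} (hg : p ∣ orderOf g) : blockCoeff B g = 0 := by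
  rw [blockCoeff_eq_sum, weak_orthogonality hM hB (x := 1) (by simpa using hM.1.ne_one) hg,
    mul_zero]

end Cfsg.Agent.BlockTheoryIdem
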