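import Mathlib
import Cfsg.Agent.Lib.CharBasicOrth

/-!
# Characters as natural combinations of irreducible characters
-/

set_option autoImplicit false

open scoped ComplexConjugate

namespace Cfsg.Agent.CharBasicDecomp

open Cfsg.Agent.CharBasic Cfsg.Agent.CharBasicOrth

universe u v w

variable {G : Type u} [Group G]

/-- A one-dimensional representation is irreducible. -/
theorem isIrreducible_of_finrank_one {V : Type v} [AddCommGroup V] [Module ℂ V]
    [FiniteDimensional ℂ V] (ρ : Representation ℂ G V) (h : Module.finrank ℂ V = 1) :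
    ρ.IsIrreducible := by
  have : Nontrivial V := Module.nontrivial_of_finrank_eq_succ h
  have : Nontrivial (Subrepresentation ρ) :=
    ⟨⊥, ⊤, fun e => bot_ne_top (α := Submodule ℂ V) (congrArg Subrepresentation.toSubmodule e)⟩
  refine ⟨fun U => ?_⟩
  have hso : IsSimpleOrder (Submodule ℂ V) := is_simple_module_of_finrank_eq_one h
  rcases hso.eq_bot_or_eq_top U.toSubmodule with e | e
  · exact Or.inl (Subrepresentation.toSubmodule_injective e)
  · exact Or.inr (Subrepresentation.toSubmodule_injective e)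

/-- A linear character as a representation on `Fin 1 → ℂ`. -/
def linRep (lam : G →* ℂˣ) : Representation ℂ G (Fin 1 → ℂ) where
  toFun g := (lam g : ℂ) • LinearMap.id
  map_one' := by ext; simp
  map_mul' a b := by ext; simp [mul_assoc, mul_left_comm]

theorem character_linRep (lam : G →* ℂˣ) :
    (linRep lam).character = fun g => (lam g : ℂ) := by
  funext g
  simp [Representation.character, linRep]

theorem isIrrCharacter_linear (lam : G →* ℂˣ) :
    Cfsg.IsIrrCharacter G (fun g => (lam g : ℂ)) :=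
  ⟨1, linRep lam, isIrreducible_of_finrank_one _ (by simp), character_linRep lam⟩

theorem isIrrCharacter_one : Cfsg.IsIrrCharacter G (fun _ => 1) := by
  simpa using isIrrCharacter_linear (1 : G →* ℂˣ)

/-- The trivial irreducible character. -/
def trivIrr (G : Type u) [Group G] : Cfsg.IrrCharacter G := ⟨fun _ => 1, isIrrCharacter_one⟩

/-! ### Closure properties of characters -/

theorem isCharacter_zero : Cfsg.IsCharacter G (0 : G → ℂ) := by
  refine ⟨0, 1, funext fun g => ?_⟩
  simp [Representation.character]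

theorem isCharacter_add {χ ψ : G → ℂ} (hχ : Cfsg.IsCharacter G χ) (hψ : Cfsg.IsCharacter G ψ) :
    Cfsg.IsCharacter G (χ + ψ) := by
  obtain ⟨n, ρ, rfl⟩ := hχ
  obtain ⟨m, σ, rfl⟩ := hψ
  rw [← character_prod ρ σ]
  exact isCharacter_of_rep _

theorem isCharacter_mul {χ ψ : G → ℂ} (hχ : Cfsg.IsCharacter G χ) (hψ : Cfsg.IsCharacter G ψ) :
    Cfsg.IsCharacter G (χ * ψ) := by
  obtain ⟨n, ρ, rfl⟩ := hχ
  obtain ⟨m, σ, rfl⟩ := hψ
  rw [← Representation.char_tensor ρ σ]
  exact isCharacter_of_rep _

theorem isCharacter_one : Cfsg.IsCharacter G (fun _ => 1) :=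
  isCharacter_of_isIrrCharacter isIrrCharacter_one

theorem isCharacter_pow {χ : G → ℂ} (hχ : Cfsg.IsCharacter G χ) (k : ℕ) :
    Cfsg.IsCharacter G (χ ^ k) := by
  induction k with
  | zero => rw [pow_zero]; exact isCharacter_one
  | succ k ih => rw [pow_succ]; exact isCharacter_mul ih hχ

theorem isCharacter_nsmul {χ : G → ℂ} (hχ : Cfsg.IsCharacter G χ) (k : ℕ) :
    Cfsg.IsCharacter G ((k : ℂ) • χ) := by
  induction k with
  | zero => rw [Nat.cast_zero, zero_smul]; exact isCharacter_zero
  | succ k ih => rw [Nat.cast_succ, add_smul, one_smul]; exact isCharacter_add ih hχ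

theorem isCharacter_sum {ι : Type*} (s : Finset ι) (f : ι → G → ℂ)
    (hf : ∀ i ∈ s, Cfsg.IsCharacter G (f i)) : Cfsg.IsCharacter G (∑ i ∈ s, f i) := by
  classical
  induction s using Finset.induction with
  | empty => rw [Finset.sum_empty]; exact isCharacter_zero
  | insert i s hi ih =>
    rw [Finset.sum_insert hi]
    exact isCharacter_add (hf i (Finset.mem_insert_self i s))
      (ih fun j hj => hf j (Finset.mem_insert_of_mem hj))

theorem isCharacter_conj [Finite G] {χ : G → ℂ} (hχ : Cfsg.IsCharacter G χ) :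
    Cfsg.IsCharacter G (fun g => conj (χ g)) := by
  obtain ⟨n, ρ, rfl⟩ := hχ
  have h : (fun g => conj (ρ.character g)) = ρ.dual.character :=
    funext fun g => by rw [Representation.char_dual, character_inv]
  rw [h]
  exact isCharacter_of_rep _

/-! ### Coefficients -/

/-- The multiplicity of an irreducible character in a character. -/
theorem exists_mult [Fintype G] {χ : G → ℂ} (hχ : Cfsg.IsCharacter G χ) :
    ∃ m : Cfsg.IrrCharacter G → ℕ, (∀ ψ : Cfsg.IrrCharacter G, Cfsg.classInner χ (ψ : G → ℂ) = m ψ) ∧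
      χ = ∑ ψ : Cfsg.IrrCharacter G, (m ψ : ℂ) • (ψ : G → ℂ) := by
  choose m hm using fun ψ : Cfsg.IrrCharacter G =>
    classInner_isCharacter hχ (isCharacter_of_isIrrCharacter ψ.2)
  refine ⟨m, hm, ?_⟩
  conv_lhs => rw [eq_sum_classInner (isClassFunction_of_isCharacter hχ)]
  simp only [hm]

theorem isCharacter_iff [Fintype G] {χ : G → ℂ} :
    Cfsg.IsCharacter G χ ↔ Cfsg.IsClassFunction G χ ∧
      ∀ ψ : Cfsg.IrrCharacter G, ∃ n : ℕ, Cfsg.classInner χ (ψ : G → ℂ) = n := by
  refine ⟨fun h => ⟨isClassFunction_of_isCharacter h,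
    fun ψ => classInner_isCharacter h (isCharacter_of_isIrrCharacter ψ.2)⟩, fun ⟨h1, h2⟩ => ?_⟩
  choose m hm using h2
  rw [eq_sum_classInner h1]
  refine isCharacter_sum _ _ fun ψ _ => ?_
  rw [hm]
  exact isCharacter_nsmul (isCharacter_of_isIrrCharacter ψ.2) _

/-- An irreducible character is one of norm one. -/
theorem isIrrCharacter_iff [Fintype G] {χ : G → ℂ} :
    Cfsg.IsIrrCharacter G χ ↔ Cfsg.IsCharacter G χ ∧ Cfsg.classInner χ χ = 1 := by
  refine ⟨fun h => ⟨isCharacter_of_isIrrCharacter h, classInner_irr_self h⟩, fun ⟨h, h1⟩ => ?_⟩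
  obtain ⟨m, hm, hsum⟩ := exists_mult h
  have h2 : ∑ ψ, m ψ * m ψ = 1 := by
    have h3 := classInner_eq_sum (φ := χ) (isClassFunction_of_isCharacter h)
    simp only [h1, hm, map_natCast] at h3
    exact_mod_cast h3.symm
  obtain ⟨ψ, -, hψ⟩ := Finset.exists_ne_zero_of_sum_ne_zero (by rw [h2]; exact one_ne_zero)
  have hle : ∀ φ ∈ Finset.univ, φ ≠ ψ → m φ = 0 := by
    intro φ _ hne
    by_contra hφ
    classical
    have h4 : ∑ x ∈ ({φ, ψ} : Finset _), m x * m x ≤ ∑ x, m x * m x :=
      Finset.sum_le_sum_of_subset (Finset.subset_univ _)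
    rw [Finset.sum_pair hne, h2] at h4
    have h5 : 0 < m φ * m φ := Nat.pos_of_ne_zero fun e => hφ (mul_self_eq_zero.1 e)
    have h6 : 0 < m ψ * m ψ := Nat.pos_of_ne_zero hψ
    omega
  have hψ1 : m ψ = 1 := by
    rw [Finset.sum_eq_single ψ (fun φ hφ hne => by rw [hle φ hφ hne, mul_zero])
      (fun h => absurd (Finset.mem_univ ψ) h)] at h2
    exact Nat.eq_one_of_mul_eq_one_right h2
  rw [hsum, Finset.sum_eq_single ψ (fun φ hφ hne => by rw [hle φ hφ hne, Nat.cast_zero, zero_smul])
    (fun h => absurd (Finset.mem_univ ψ) h), hψ1, Nat.cast_one, one_smul]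
  exact ψ.2

theorem isIrrCharacter_conj [Finite G] {χ : G → ℂ} (hχ : Cfsg.IsIrrCharacter G χ) :
    Cfsg.IsIrrCharacter G (fun g => conj (χ g)) := by
  have := Fintype.ofFinite G
  rw [isIrrCharacter_iff] at hχ ⊢
  refine ⟨isCharacter_conj hχ.1, ?_⟩
  rw [← hχ.2, Cfsg.classInner, Cfsg.classInner]
  simp only [Complex.conj_conj, mul_comm]

theorem isCharacter_linear (lam : G →* ℂˣ) : Cfsg.IsCharacter G (fun g => (lam g : ℂ)) :=
  isCharacter_of_isIrrCharacter (isIrrCharacter_linear lam)

theorem norm_linear [Finite G] (lam : G →* ℂˣ) (g : G) : ‖(lam g : ℂ)‖ = 1 := by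
  refine Complex.norm_eq_one_of_pow_eq_one (n := orderOf g) ?_
    (isOfFinOrder_of_finite g).orderOf_pos.ne'
  rw [← Units.val_pow_eq_pow_val, ← map_pow, pow_orderOf_eq_one, map_one, Units.val_one]

/-- Multiplication by a linear character preserves irreducibility. -/
theorem isIrrCharacter_mul_linear [Finite G] {χ : G → ℂ} (hχ : Cfsg.IsIrrCharacter G χ)
    (lam : G →* ℂˣ) : Cfsg.IsIrrCharacter G (fun g => χ g * (lam g : ℂ)) := by
  have := Fintype.ofFinite G
  rw [isIrrCharacter_iff] at hχ ⊢
  refine ⟨isCharacter_mul hχ.1 (isCharacter_linear lam), ?_⟩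
  rw [← hχ.2, Cfsg.classInner, Cfsg.classInner]
  congr 1
  refine Finset.sum_congr rfl fun g _ => ?_
  rw [map_mul, mul_mul_mul_comm, Complex.mul_conj' (lam g : ℂ), norm_linear, Complex.ofReal_one,
    one_pow, mul_one]

/-! ### Generalized characters -/

theorem isGeneralizedCharacter_of_isCharacter {χ : G → ℂ} (h : Cfsg.IsCharacter G χ) :
    Cfsg.IsGeneralizedCharacter G χ := ⟨χ, 0, h, isCharacter_zero, (sub_zero χ).symm⟩

theorem isGeneralizedCharacter_zero : Cfsg.IsGeneralizedCharacter G (0 : G → ℂ) :=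
  isGeneralizedCharacter_of_isCharacter isCharacter_zero

theorem isClassFunction_of_isGeneralizedCharacter {θ : G → ℂ}
    (h : Cfsg.IsGeneralizedCharacter G θ) : Cfsg.IsClassFunction G θ := by
  obtain ⟨a, b, ha, hb, rfl⟩ := h
  intro g x
  simp [isClassFunction_of_isCharacter ha g x, isClassFunction_of_isCharacter hb g x]

theorem isGeneralizedCharacter_neg {θ : G → ℂ} (h : Cfsg.IsGeneralizedCharacter G θ) :
    Cfsg.IsGeneralizedCharacter G (-θ) := by
  obtain ⟨a, b, ha, hb, rfl⟩ := h
  exact ⟨b, a, hb, ha, neg_sub a b⟩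

theorem isGeneralizedCharacter_add {θ η : G → ℂ} (h : Cfsg.IsGeneralizedCharacter G θ)
    (h' : Cfsg.IsGeneralizedCharacter G η) : Cfsg.IsGeneralizedCharacter G (θ + η) := by
  obtain ⟨a, b, ha, hb, rfl⟩ := h
  obtain ⟨c, d, hc, hd, rfl⟩ := h'
  exact ⟨a + c, b + d, isCharacter_add ha hc, isCharacter_add hb hd, by abel⟩

theorem isGeneralizedCharacter_sub {θ η : G → ℂ} (h : Cfsg.IsGeneralizedCharacter G θ)
    (h' : Cfsg.IsGeneralizedCharacter G η) : Cfsg.IsGeneralizedCharacter G (θ - η) := by
  rw [sub_eq_add_neg]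
  exact isGeneralizedCharacter_add h (isGeneralizedCharacter_neg h')

theorem isGeneralizedCharacter_mul {θ η : G → ℂ} (h : Cfsg.IsGeneralizedCharacter G θ)
    (h' : Cfsg.IsGeneralizedCharacter G η) : Cfsg.IsGeneralizedCharacter G (θ * η) := by
  obtain ⟨a, b, ha, hb, rfl⟩ := h
  obtain ⟨c, d, hc, hd, rfl⟩ := h'
  exact ⟨a * c + b * d, a * d + b * c,
    isCharacter_add (isCharacter_mul ha hc) (isCharacter_mul hb hd),
    isCharacter_add (isCharacter_mul ha hd) (isCharacter_mul hb hc), by ring⟩

theorem isGeneralizedCharacter_zsmul {θ : G → ℂ} (h : Cfsg.IsGeneralizedCharacter G θ) (k : ℤ) :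
    Cfsg.IsGeneralizedCharacter G ((k : ℂ) • θ) := by
  obtain ⟨a, b, ha, hb, rfl⟩ := h
  obtain ⟨n, rfl | rfl⟩ := k.eq_nat_or_neg
  · exact ⟨_, _, isCharacter_nsmul ha n, isCharacter_nsmul hb n, by rw [Int.cast_natCast, smul_sub]⟩
  · exact ⟨_, _, isCharacter_nsmul hb n, isCharacter_nsmul ha n,
      by rw [Int.cast_neg, Int.cast_natCast, neg_smul, smul_sub, neg_sub]⟩

theorem isGeneralizedCharacter_sum {ι : Type*} (s : Finset ι) (f : ι → G → ℂ)
    (hf : ∀ i ∈ s, Cfsg.IsGeneralizedCharacter G (f i)) :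
    Cfsg.IsGeneralizedCharacter G (∑ i ∈ s, f i) := by
  classical
  induction s using Finset.induction with
  | empty => rw [Finset.sum_empty]; exact isGeneralizedCharacter_zero
  | insert i s hi ih =>
    rw [Finset.sum_insert hi]
    exact isGeneralizedCharacter_add (hf i (Finset.mem_insert_self i s))
      (ih fun j hj => hf j (Finset.mem_insert_of_mem hj))

theorem isGeneralizedCharacter_comap {H : Type*} [Group H] (f : H →* G) {θ : G → ℂ}
    (h : Cfsg.IsGeneralizedCharacter G θ) : Cfsg.IsGeneralizedCharacter H (θ ∘ f) := by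
  obtain ⟨a, b, ha, hb, rfl⟩ := h
  exact ⟨_, _, isCharacter_comap f ha, isCharacter_comap f hb, rfl⟩

theorem classInner_isGeneralizedCharacter [Fintype G] {θ η : G → ℂ}
    (h : Cfsg.IsGeneralizedCharacter G θ) (h' : Cfsg.IsGeneralizedCharacter G η) :
    ∃ n : ℤ, Cfsg.classInner θ η = n := by
  obtain ⟨a, b, ha, hb, rfl⟩ := h
  obtain ⟨c, d, hc, hd, rfl⟩ := h'
  obtain ⟨p, hp⟩ := classInner_isCharacter ha hc
  obtain ⟨q, hq⟩ := classInner_isCharacter ha hd
  obtain ⟨r, hr⟩ := classInner_isCharacter hb hc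
  obtain ⟨t, ht⟩ := classInner_isCharacter hb hd
  refine ⟨(p : ℤ) - q - (r - t), ?_⟩
  rw [classInner_sub_left, classInner_sub_right, classInner_sub_right, hp, hq, hr, ht]
  push_cast
  rfl

theorem exists_int_coeff [Fintype G] {θ : G → ℂ} (h : Cfsg.IsGeneralizedCharacter G θ) :
    ∃ m : Cfsg.IrrCharacter G → ℤ, (∀ ψ : Cfsg.IrrCharacter G, Cfsg.classInner θ (ψ : G → ℂ) = m ψ) ∧
      θ = ∑ ψ : Cfsg.IrrCharacter G, (m ψ : ℂ) • (ψ : G → ℂ) := by
  choose m hm using fun ψ : Cfsg.IrrCharacter G => classInner_isGeneralizedCharacter h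
    (isGeneralizedCharacter_of_isCharacter (isCharacter_of_isIrrCharacter ψ.2))
  refine ⟨m, hm, ?_⟩
  conv_lhs => rw [eq_sum_classInner (isClassFunction_of_isGeneralizedCharacter h)]
  simp only [hm]

theorem isGeneralizedCharacter_iff [Fintype G] {θ : G → ℂ} :
    Cfsg.IsGeneralizedCharacter G θ ↔ Cfsg.IsClassFunction G θ ∧
      ∀ ψ : Cfsg.IrrCharacter G, ∃ n : ℤ, Cfsg.classInner θ (ψ : G → ℂ) = n := by
  refine ⟨fun h => ⟨isClassFunction_of_isGeneralizedCharacter h, fun ψ =>
    classInner_isGeneralizedCharacter h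
      (isGeneralizedCharacter_of_isCharacter (isCharacter_of_isIrrCharacter ψ.2))⟩,
    fun ⟨h1, h2⟩ => ?_⟩
  choose m hm using h2
  rw [eq_sum_classInner h1]
  refine isGeneralizedCharacter_sum _ _ fun ψ _ => ?_
  rw [hm]
  exact isGeneralizedCharacter_zsmul
    (isGeneralizedCharacter_of_isCharacter (isCharacter_of_isIrrCharacter ψ.2)) _

/-- A generalized character of norm one is plus or minus an irreducible character. -/
theorem eq_or_neg_irr_of_norm_one [Fintype G] {θ : G → ℂ} (h : Cfsg.IsGeneralizedCharacter G θ)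
    (h1 : Cfsg.classInner θ θ = 1) :
    ∃ χ : G → ℂ, Cfsg.IsIrrCharacter G χ ∧ (θ = χ ∨ θ = -χ) := by
  obtain ⟨m, hm, hsum⟩ := exists_int_coeff h
  have h2 : ∑ ψ, m ψ * m ψ = 1 := by
    have h3 := classInner_eq_sum (φ := θ) (isClassFunction_of_isGeneralizedCharacter h)
    simp only [h1, hm, map_intCast] at h3
    exact_mod_cast h3.symm
  obtain ⟨ψ, -, hψ⟩ := Finset.exists_ne_zero_of_sum_ne_zero (by rw [h2]; exact one_ne_zero)
  have hle : ∀ φ ∈ Finset.univ, φ ≠ ψ → m φ = 0 := by
    intro φ _ hne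
    by_contra hφ
    classical
    have h4 : ∑ x ∈ ({φ, ψ} : Finset _), m x * m x ≤ ∑ x, m x * m x :=
      Finset.sum_le_sum_of_subset_of_nonneg (Finset.subset_univ _)
        (fun x _ _ => mul_self_nonneg _)
    rw [Finset.sum_pair hne, h2] at h4
    have h5 : 0 < m φ * m φ := mul_self_pos.2 hφ
    have h6 : 0 < m ψ * m ψ := lt_of_le_of_ne (mul_self_nonneg _) (Ne.symm hψ)
    omega
  have hψ1 : m ψ * m ψ = 1 := by
    rwa [Finset.sum_eq_single ψ (fun φ hφ hne => by rw [hle φ hφ hne, mul_zero])
      (fun h => absurd (Finset.mem_univ ψ) h)] at h2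
  refine ⟨ψ, ψ.2, ?_⟩
  have hθ : θ = (m ψ : ℂ) • (ψ : G → ℂ) := by
    rw [hsum]
    exact Finset.sum_eq_single ψ (fun φ hφ hne => by rw [hle φ hφ hne, Int.cast_zero, zero_smul])
      (fun h => absurd (Finset.mem_univ ψ) h)
  rcases mul_self_eq_one_iff.1 hψ1 with e | e
  · left; rw [hθ, e, Int.cast_one, one_smul]
  · right; rw [hθ, e, Int.cast_neg, Int.cast_one, neg_smul, one_smul]

/-! ### Equal characters give equivalent representations -/

theorem nonempty_equiv_aux [Finite G] (n : ℕ) :
    ∀ {V : Type v} [AddCommGroup V] [Module ℂ V] [FiniteDimensional ℂ V]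
      {W : Type w} [AddCommGroup W] [Module ℂ W] [FiniteDimensional ℂ W]
      (ρ : Representation ℂ G V) (σ : Representation ℂ G W),
      ρ.character = σ.character → Module.finrank ℂ V = n → Nonempty (ρ.Equiv σ) := by
  have := Fintype.ofFinite G
  induction n using Nat.strong_induction_on with
  | _ n ih =>
    intro V _ _ _ W _ _ _ ρ σ hχ hn
    have hfr : Module.finrank ℂ W = Module.finrank ℂ V := by
      have h := congrFun hχ 1
      rw [Representation.char_one, Representation.char_one] at h
      exact (Nat.cast_injective h).symm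
    rcases subsingleton_or_nontrivial V with hV | hV
    · have : Subsingleton W := Module.finrank_zero_iff.1
        (hfr.trans Module.finrank_zero_of_subsingleton)
      exact ⟨Representation.Equiv.mk (LinearEquiv.ofSubsingleton V W)
        (fun g => Subsingleton.elim _ _)⟩
    obtain ⟨U, hU⟩ := exists_irreducible_sub ρ
    obtain ⟨U', hU'⟩ := CharBasic.exists_isCompl U
    have hpos : 0 < Module.finrank ℂ U.toSubmodule := finrank_pos_of_irreducible U.toRepresentation
    let ι : Representation.IntertwiningMap U.toRepresentation ρ :=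
      ⟨U.toSubmodule.subtype, fun g => rfl⟩
    have hι : ι ≠ 0 := by
      intro h0
      obtain ⟨x, hx⟩ := Module.finrank_pos_iff_exists_ne_zero.1 hpos
      exact hx (Subtype.ext (congrArg (fun f : Representation.IntertwiningMap _ ρ => f x) h0))
    have hne : (Module.finrank ℂ (Representation.IntertwiningMap U.toRepresentation σ) : ℂ) ≠ 0 := by
      rw [← classInner_character, ← hχ, classInner_character]
      have : Nontrivial (Representation.IntertwiningMap U.toRepresentation ρ) := ⟨⟨ι, 0, hι⟩⟩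
      exact Nat.cast_ne_zero.2 Module.finrank_pos.ne'
    have : Nontrivial (Representation.IntertwiningMap U.toRepresentation σ) := by
      by_contra hn'
      have := not_nontrivial_iff_subsingleton.1 hn'
      exact hne (by rw [Module.finrank_zero_of_subsingleton, Nat.cast_zero])
    obtain ⟨f, hf⟩ := exists_ne (0 : Representation.IntertwiningMap U.toRepresentation σ)
    have hinj := (Representation.IsIrreducible.injective_or_eq_zero f).resolve_right hf
    let T := f.range
    obtain ⟨T', hT'⟩ := CharBasic.exists_isCompl T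
    let φ : U.toRepresentation.Equiv T.toRepresentation :=
      Representation.Equiv.mk (LinearEquiv.ofInjective f.toLinearMap hinj) fun g => by
        ext x
        exact f.isIntertwining U.toRepresentation σ g x
    have h1 := character_of_isCompl U U' hU'
    have h2 := character_of_isCompl T T' hT'
    rw [hχ, h2, Representation.char_iso φ] at h1
    have h3 : U'.toRepresentation.character = T'.toRepresentation.character :=
      (add_left_cancel h1).symm
    have hlt : Module.finrank ℂ U'.toSubmodule < n := by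
      have := Submodule.finrank_add_eq_of_isCompl hU'
      omega
    obtain ⟨φ'⟩ := ih _ hlt U'.toRepresentation T'.toRepresentation h3 rfl
    refine ⟨((prodEquiv U U' hU').symm.trans ?_).trans (prodEquiv T T' hT')⟩
    exact Representation.Equiv.mk (φ.toLinearEquiv.prodCongr φ'.toLinearEquiv) fun g => by
      refine LinearMap.ext fun x => Prod.ext ?_ ?_
      · exact φ.toIntertwiningMap.isIntertwining _ _ g x.1
      · exact φ'.toIntertwiningMap.isIntertwining _ _ g x.2

/-- Representations with equal characters are equivalent. -/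
theorem nonempty_equiv_of_character_eq [Finite G] {V : Type v} [AddCommGroup V] [Module ℂ V]
    [FiniteDimensional ℂ V] {W : Type w} [AddCommGroup W] [Module ℂ W] [FiniteDimensional ℂ W]
    (ρ : Representation ℂ G V) (σ : Representation ℂ G W) (h : ρ.character = σ.character) :
    Nonempty (ρ.Equiv σ) := nonempty_equiv_aux _ ρ σ h rfl

/-- A representation with an irreducible character is irreducible. -/
theorem isIrreducible_of_isIrrCharacter [Finite G] {V : Type v} [AddCommGroup V] [Module ℂ V]
    [FiniteDimensional ℂ V] (ρ : Representation ℂ G V) (h : Cfsg.IsIrrCharacter G ρ.character) :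
    ρ.IsIrreducible := by
  obtain ⟨n, σ, hσ, he⟩ := h
  obtain ⟨φ⟩ := nonempty_equiv_of_character_eq σ ρ he
  exact isIrreducible_of_equiv φ

/-- Irreducibility read off from the norm of the character. -/
theorem isIrreducible_iff_classInner [Fintype G] {V : Type v} [AddCommGroup V] [Module ℂ V]
    [FiniteDimensional ℂ V] (ρ : Representation ℂ G V) :
    ρ.IsIrreducible ↔ Cfsg.classInner ρ.character ρ.character = 1 := by
  refine ⟨fun _ => classInner_character_irreducible_self ρ, fun h => ?_⟩
  exact isIrreducible_of_isIrrCharacter ρ (isIrrCharacter_iff.2 ⟨isCharacter_of_rep ρ, h⟩)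

end Cfsg.Agent.CharBasicDecomp
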