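import Cfsg.Prelude.Def_BrauerPairs
import Cfsg.Agent.Lib.BlockTheoryIdem
import Cfsg.Agent.Lib.CharBasicDecomp

/-!
The principal block: the trivial character, sums of idempotent coefficients, the kernel, and the
principal Brauer pairs.
-/

namespace Cfsg.Agent.BlockPrincipal81

open Cfsg Cfsg.Agent.BlockTheoryLocalRing Cfsg.Agent.BlockTheoryCentre
open Cfsg.Agent.BlockTheoryIdem Cfsg.Agent.CharBasic
open scoped ComplexConjugate

attribute [local instance] Classical.propDecidable

variable {p : ℕ} {M : Ideal AlgInt} {G : Type*} [Group G]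

/-- The principal character. -/
noncomputable def oneChar (G : Type*) [Group G] : IrrCharacter G :=
  ⟨fun _ => 1, CharBasicDecomp.isIrrCharacter_one⟩

theorem isPBlock_principal : IsPBlock M (principalBlock M G) := ⟨oneChar G, rfl⟩

theorem oneChar_mem (hM : IsPModular p M) : oneChar G ∈ principalBlock M G :=
  self_mem_blockOf hM (oneChar G)

theorem centralChar_one (g : G) :
    centralChar (fun _ : G => (1 : ℂ)) g = ((Subgroup.centralizer ({g} : Set G)).index : ℂ) := by
  simp [centralChar]

theorem index_centralizer_conj [Finite G] (g c : G) :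
    (Subgroup.centralizer ({c * g * c⁻¹} : Set G)).index =
      (Subgroup.centralizer ({g} : Set G)).index := by
  have := Fintype.ofFinite G
  have h : IsConj g (c * g * c⁻¹) := isConj_iff.mpr ⟨c, rfl⟩
  rw [index_centralizer_eq, index_centralizer_eq]
  exact Nat.card_congr (Equiv.subtypeEquivRight fun x =>
    ⟨fun e => h.trans e, fun e => h.symm.trans e⟩)

theorem omega_one_apply [Fintype G] (z : MonoidAlgebra ℂ G) :
    omega ((oneChar G : IrrCharacter G) : G → ℂ) z = ∑ x, z.coeff x := by
  simp [omega_apply, chiSum_apply, oneChar]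

/-- The coefficients of the principal block idempotent sum to `1`. -/
theorem sum_blockCoeff [Fintype G] (hM : IsPModular p M) :
    ∑ x, blockCoeff (principalBlock M G) x = 1 := by
  have := omega_idem (principalBlock M G) (oneChar G)
  rw [omega_one_apply, if_pos (oneChar_mem hM)] at this
  exact this

theorem blockCoeff_one_ne_zero [Finite G] {B : Set (IrrCharacter G)} (hB : B.Nonempty) :
    blockCoeff B 1 ≠ 0 := by
  have := Fintype.ofFinite G
  rw [blockCoeff_eq_sum]
  refine mul_ne_zero (inv_ne_zero (Nat.cast_ne_zero.mpr Nat.card_pos.ne')) ?_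
  choose d hd using fun χ : IrrCharacter G => isIrrCharacter_apply_one χ.2
  have h : ∀ χ : IrrCharacter G,
      (if χ ∈ B then (χ : G → ℂ) 1 * conj ((χ : G → ℂ) 1) else 0) =
        (((if χ ∈ B then d χ * d χ else 0 : ℕ)) : ℂ) := fun χ => by
    split_ifs <;> simp [(hd χ).2]
  rw [Finset.sum_congr rfl fun χ _ => h χ, ← Nat.cast_sum, Nat.cast_ne_zero]
  obtain ⟨χ, hχ⟩ := hB
  intro h0
  have h1 := (Finset.sum_eq_zero_iff.mp h0) χ (Finset.mem_univ χ)
  rw [if_pos hχ] at h1
  have h2 := isIrrCharacter_apply_one_ne_zero χ.2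
  rw [(hd χ).2] at h2
  exact h2 (by simp [mul_self_eq_zero.mp h1])

/-- A `p`-singular element is outside the kernel of every block. -/
theorem not_dvd_of_forall_eq [Finite G] (hM : IsPModular p M) {B : Set (IrrCharacter G)}
    (hB : IsPBlock M B) {g : G} (hg : ∀ χ ∈ B, (χ : G → ℂ) g = (χ : G → ℂ) 1) :
    ¬ p ∣ orderOf g := by
  have := Fintype.ofFinite G
  intro hp
  refine blockCoeff_one_ne_zero (block_nonempty hM hB) ?_
  rw [← blockCoeff_eq_zero_of_dvd hM hB hp, blockCoeff_eq_sum, blockCoeff_eq_sum]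
  congr 1
  refine Finset.sum_congr rfl fun χ _ => ?_
  split_ifs with h
  · rw [hg χ h]
  · rfl

theorem apply_eq_one_iff_ker [Finite G] {n : ℕ} (ρ : Representation ℂ G (Fin n → ℂ)) (g : G) :
    ρ.character g = ρ.character 1 ↔ ρ g = 1 := by
  rw [Representation.char_one]
  exact character_eq_finrank_iff ρ g

/-- Commutators with an element in the kernel stay in the kernel. -/
theorem apply_commutator_eq [Finite G] (χ : IrrCharacter G) {x : G}
    (hx : (χ : G → ℂ) x = (χ : G → ℂ) 1) (u : G) :
    (χ : G → ℂ) (x * u * x⁻¹ * u⁻¹) = (χ : G → ℂ) 1 := by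
  obtain ⟨n, ρ, -, hρ⟩ := χ.2
  rw [← hρ] at hx ⊢
  rw [apply_eq_one_iff_ker] at hx ⊢
  have hx' : ρ x⁻¹ = 1 := by
    have := map_mul ρ x⁻¹ x
    rwa [inv_mul_cancel, map_one, hx, mul_one, eq_comm] at this
  rw [map_mul, map_mul, map_mul, hx, hx', one_mul, mul_one, ← map_mul, mul_inv_cancel, map_one]

/-- An invariant function of local integers sums to the sum over its fixed points modulo `M`. -/
theorem ideal_sum_sub_fixed [Fact p.Prime] (hM : IsPModular p M) {Q X : Type*} [Group Q] [Finite Q]
    (hQ : IsPGroup p Q) [MulAction Q X] [Fintype X] (W : X → ℂ)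
    (hW : ∀ (u : Q) (x : X), W (u • x) = W x) (hWi : ∀ x, MemLocalRing M (W x)) :
    MemLocalIdeal M (∑ x, W x - ∑ x ∈ Finset.univ.filter (· ∈ MulAction.fixedPoints Q X), W x) := by
  rw [← Finset.sum_filter_add_sum_filter_not Finset.univ (· ∈ MulAction.fixedPoints Q X),
    add_sub_cancel_left, ← Finset.sum_fiberwise _ (Quotient.mk (MulAction.orbitRel Q X)) W]
  refine ideal_sum hM fun ω _ => ?_
  set T := (Finset.univ.filter fun x => x ∉ MulAction.fixedPoints Q X).filter
    fun x => Quotient.mk (MulAction.orbitRel Q X) x = ω with hT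
  rcases T.eq_empty_or_nonempty with h0 | ⟨x₀, hx₀⟩
  · rw [h0, Finset.sum_empty]; exact ideal_zero hM
  simp only [hT, Finset.mem_filter, Finset.mem_univ, true_and] at hx₀
  obtain ⟨hx₁, hx₂⟩ := hx₀
  have hTo : (T : Set X) = MulAction.orbit Q x₀ := by
    ext x
    simp only [hT, Finset.coe_filter, Finset.mem_univ, true_and, Finset.mem_filter,
      Set.mem_setOf_eq]
    rw [← hx₂, Quotient.eq, MulAction.orbitRel_apply]
    refine ⟨fun h => h.2, fun h => ⟨fun hf => hx₁ ?_, h⟩⟩
    obtain ⟨u, rfl⟩ := h
    have h1 := hf u⁻¹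
    rw [inv_smul_smul] at h1
    intro v
    have h2 := hf v
    rwa [← h1] at h2
  have hconst : ∀ x ∈ T, W x = W x₀ := by
    intro x hx
    obtain ⟨u, rfl⟩ : x ∈ MulAction.orbit Q x₀ := hTo ▸ hx
    exact hW u x₀
  rw [Finset.sum_congr rfl hconst, Finset.sum_const, nsmul_eq_mul]
  refine ideal_mul_right hM ((natCast_mem_iff hM).mpr ?_) (hWi x₀)
  obtain ⟨k, hk⟩ := hQ.card_orbit x₀
  have hc : T.card = p ^ k := by rw [← hk, ← hTo]; simp
  rcases k with _ | k
  · exfalso
    rw [pow_zero, Finset.card_eq_one] at hc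
    obtain ⟨a, ha⟩ := hc
    refine hx₁ fun u => ?_
    have h1 : u • x₀ ∈ T := by
      rw [← Finset.mem_coe, hTo]; exact MulAction.mem_orbit x₀ u
    have h2 : x₀ ∈ T := by rw [← Finset.mem_coe, hTo]; exact MulAction.mem_orbit_self x₀
    rw [ha, Finset.mem_singleton] at h1 h2
    rw [h1, h2]
  · exact hc ▸ dvd_pow_self p k.succ_ne_zero

/-- Truncating a class function to the centraliser of a `p`-subgroup changes the sum only
modulo `M`. -/
theorem ideal_sum_sub_centralizer [Fintype G] [Fact p.Prime] (hM : IsPModular p M) {Q : Subgroup G}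
    (hQ : IsPGroup p Q) {W : G → ℂ} (hW : ∀ u ∈ Q, ∀ x, W (u * x * u⁻¹) = W x)
    (hWi : ∀ x, MemLocalRing M (W x)) :
    MemLocalIdeal M (∑ x, W x - ∑ x : Subgroup.centralizer (Q : Set G), W x) := by
  let _ : MulAction Q G := MulAction.compHom G ((MulAut.conj).comp Q.subtype)
  have h := ideal_sum_sub_fixed hM hQ W (fun u x => hW u u.2 x) hWi
  have hfix : ∀ x, x ∈ MulAction.fixedPoints Q G ↔ x ∈ Subgroup.centralizer (Q : Set G) := by
    intro x
    rw [Subgroup.mem_centralizer_iff]
    refine ⟨fun hx u hu => ?_, fun hx u => ?_⟩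
    · have := hx ⟨u, hu⟩
      exact mul_inv_eq_iff_eq_mul.mp this
    · show (u : G) * x * (u : G)⁻¹ = x
      rw [hx u u.2, mul_inv_cancel_right]
  rw [Finset.filter_congr (fun x _ => hfix x)] at h
  have e := Finset.sum_subtype (F := inferInstance) (p := fun x => x ∈ Subgroup.centralizer (Q : Set G))
    (Finset.univ.filter fun x => x ∈ Subgroup.centralizer (Q : Set G)) (fun x => by simp) W
  refine cast (congrArg (fun t => MemLocalIdeal M (∑ x, W x - t)) ?_) h
  exact e

theorem brauerOmega_eq [Fintype G] (Q : Subgroup G) (β : G → ℂ)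
    (ξ : Subgroup.centralizer (Q : Set G) → ℂ) :
    brauerOmega Q β ξ = omega ξ (ofFun fun x : Subgroup.centralizer (Q : Set G) => β x) := by
  rw [brauerOmega, finsum_eq_sum_of_fintype, omega_apply, chiSum_apply, Finset.mul_sum]
  exact Finset.sum_congr rfl fun x _ => by rw [coeff_ofFun]; ring

/-- The truncation to a centraliser of a class function is central there. -/
theorem isCen_restrict [Fintype G] (Q : Subgroup G) {β : G → ℂ}
    (hβ : ∀ g h : G, h ∈ Subgroup.centralizer (Q : Set G) → β (h * g * h⁻¹) = β g) :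
    IsCen (ofFun fun x : Subgroup.centralizer (Q : Set G) => β x) :=
  fun g h => by simpa using hβ g h h.2

set_option maxHeartbeats 1000000 in
/-- The principal block of `C(Q)` gives a Brauer pair of the principal block. -/
theorem isBrauerPairOf_principal [Fintype G] [Fact p.Prime] (hM : IsPModular p M) {Q : Subgroup G}
    (hQ : IsPGroup p Q) :
    IsBrauerPairOf p M (principalBlock M G) Q
      (principalBlock M (Subgroup.centralizer (Q : Set G))) := by
  refine ⟨⟨hQ, isPBlock_principal⟩, isPBlock_principal, ?_⟩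
  set C := Subgroup.centralizer (Q : Set G)
  intro ξ hξ
  set β := blockCoeff (principalBlock M G)
  have hcl : ∀ g h : G, β (h * g * h⁻¹) = β g := isCen_idem (principalBlock M G)
  have hint : ∀ x, MemLocalRing M (β x) := blockCoeff_mem hM isPBlock_principal
  set z := ofFun fun x : C => β x
  have h1 : MemLocalIdeal M (omega ((oneChar C : IrrCharacter C) : C → ℂ) z -
      omega (ξ : C → ℂ) z) :=
    omega_sub_mem hM (χ := oneChar C) (ψ := ξ) hξ (isCen_restrict Q fun g h _ => hcl g h) (fun x => hint x)
  have h2 := ideal_sum_sub_centralizer hM hQ (fun u _ x => hcl x u) hint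
  rw [sum_blockCoeff hM] at h2
  rw [omega_one_apply] at h1
  simp only [z, coeff_ofFun] at h1
  rw [brauerOmega_eq]
  have h3 := ideal_neg (ideal_add hM h1 h2)
  refine cast (congrArg (MemLocalIdeal M) ?_) h3
  ring

/-- Every element of the normaliser of `K` stabilises the principal block of `K`. -/
theorem stabilizes_principal [Finite G] {K : Subgroup G} {g : G}
    (hg : g ∈ Subgroup.normalizer (K : Set G)) : StabilizesBlock K (principalBlock M K) g := by
  refine ⟨hg, fun χ hχ => ?_⟩
  set e : K ≃* K := K.normalizerMonoidHom ⟨g, hg⟩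
  refine ⟨⟨(χ : K → ℂ) ∘ e.symm.toMonoidHom,
    isIrrCharacter_comap _ e.symm.surjective χ.2⟩, fun k => ?_, fun k k' hk => ?_⟩
  · have hk := hχ (e.symm k)
    have hi : (Subgroup.centralizer ({e.symm k} : Set K)).index =
        (Subgroup.centralizer ({k} : Set K)).index := by
      have := Fintype.ofFinite K
      rw [index_centralizer_eq, index_centralizer_eq]
      refine Nat.card_congr (e.toEquiv.subtypeEquiv fun x => ?_)
      refine ⟨fun h => ?_, fun h => ?_⟩
      · have := MonoidHom.map_isConj e.toMonoidHom h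
        simpa using this
      · have := MonoidHom.map_isConj e.symm.toMonoidHom h
        simpa using this
    simp only [centralChar, hi] at hk ⊢
    simpa using hk
  · have hek : e k = k' := Subtype.ext hk.symm
    show (χ : K → ℂ) (e.symm k') = _
    rw [← hek, MulEquiv.symm_apply_apply]

end Cfsg.Agent.BlockPrincipal81
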