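import Mathlib
import Cfsg.Prelude.Def_Solvable
import Cfsg.Prelude.Def_Local
import Cfsg.Prelude.Def_OddOrderLocal

/-!
# API for `pCore`, `pPrimeCore`, `piCore`, `pPrimePCore`

All for finite groups.  Everything lives in `Cfsg.Agent.HallCore`.
-/

set_option autoImplicit false

namespace Cfsg.Agent.HallCore

open scoped Pointwise
open Subgroup

variable {G : Type*} [Group G] {H : Type*} [Group H]

/-! ### π-numbers -/

/-- All prime divisors of `n` lie in `π`. -/
def PiNat (π : Set ℕ) (n : ℕ) : Prop := ∀ q : ℕ, q.Prime → q ∣ n → q ∈ π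

theorem piNat_one (π : Set ℕ) : PiNat π 1 := fun q hq h => absurd (Nat.dvd_one.mp h) hq.ne_one

theorem PiNat.of_dvd {π : Set ℕ} {m n : ℕ} (h : PiNat π n) (hmn : m ∣ n) : PiNat π m :=
  fun q hq hd => h q hq (hd.trans hmn)

theorem PiNat.mul {π : Set ℕ} {m n : ℕ} (hm : PiNat π m) (hn : PiNat π n) : PiNat π (m * n) := by
  intro q hq hd
  rcases hq.dvd_mul.mp hd with h | h
  · exact hm q hq h
  · exact hn q hq h

theorem PiNat.mono {π π' : Set ℕ} {n : ℕ} (h : PiNat π n) (hsub : π ⊆ π') : PiNat π' n :=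
  fun q hq hd => hsub (h q hq hd)

theorem PiNat.pow {π : Set ℕ} {m : ℕ} (hm : PiNat π m) (k : ℕ) : PiNat π (m ^ k) :=
  fun q hq hd => hm q hq (hq.dvd_of_dvd_pow hd)

theorem PiNat.coprime {π : Set ℕ} {m n : ℕ} (hm : PiNat π m) (hn : PiNat πᶜ n) : m.Coprime n :=
  Nat.coprime_of_dvd fun q hq h1 h2 => (hn q hq h2) (hm q hq h1)

theorem piNat_compl_of_coprime {π : Set ℕ} {m n : ℕ} (h : m.Coprime n)
    (hm : ∀ q : ℕ, q.Prime → q ∈ π → q ∣ m) : PiNat πᶜ n :=
  fun q hq hd hqπ => hq.not_dvd_one ((Nat.Coprime.gcd_eq_one h) ▸ Nat.dvd_gcd (hm q hq hqπ) hd)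

theorem piNat_singleton_iff {p n : ℕ} (hp : p.Prime) (hn : n ≠ 0) :
    PiNat {p} n ↔ ∃ k, n = p ^ k := by
  constructor
  · intro h
    exact ⟨n.primeFactorsList.length, Nat.eq_prime_pow_of_unique_prime_dvd hn fun hq hd => h _ hq hd⟩
  · rintro ⟨k, rfl⟩ q hq hd
    exact (Nat.prime_dvd_prime_iff_eq hq hp).mp (hq.dvd_of_dvd_pow hd)

theorem piNat_compl_singleton_iff {p n : ℕ} (hp : p.Prime) :
    PiNat {p}ᶜ n ↔ n.Coprime p := by
  constructor
  · intro h
    exact Nat.Coprime.symm ((Nat.Prime.coprime_iff_not_dvd hp).mpr fun hd => h p hp hd rfl)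
  · intro h q hq hd hqp
    simp only [Set.mem_singleton_iff] at hqp
    subst hqp
    exact ((Nat.Prime.coprime_iff_not_dvd hq).mp h.symm) hd

/-! ### Joins of families of normal subgroups -/

/-- In a finite group, a property of normal subgroups that holds at `⊥` and is closed under binary
joins holds for the join of all normal subgroups with the property. -/
theorem sSup_normal_prop [Finite G] (P : Subgroup G → Prop) (hbot : P ⊥)
    (hsup : ∀ A B : Subgroup G, A.Normal → B.Normal → P A → P B → P (A ⊔ B)) :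
    P (sSup {N : Subgroup G | N.Normal ∧ P N}) := by
  obtain ⟨M, hM⟩ := (Set.toFinite {N : Subgroup G | N.Normal ∧ P N}).exists_maximal
    ⟨⊥, Subgroup.normal_bot, hbot⟩
  have heq : sSup {N : Subgroup G | N.Normal ∧ P N} = M := by
    refine le_antisymm (sSup_le ?_) (le_sSup hM.1)
    intro N hN
    have := hM.1.1
    have := hN.1
    have hmem : M ⊔ N ∈ {N : Subgroup G | N.Normal ∧ P N} :=
      ⟨inferInstance, hsup M N hM.1.1 hN.1 hM.1.2 hN.2⟩
    exact le_sup_right.trans (hM.le_of_ge hmem le_sup_left)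
  rw [heq]
  exact hM.1.2

theorem card_mul_relIndex {A B : Subgroup G} (h : A ≤ B) :
    Nat.card A * A.relIndex B = Nat.card B := by
  rw [← Subgroup.relIndex_bot_left, Subgroup.relIndex_mul_relIndex _ _ _ bot_le h,
    Subgroup.relIndex_bot_left]

/-- `|AB| ∣ |A| |B|` when `B` is normal. -/
theorem card_sup_dvd (A B : Subgroup G) [B.Normal] :
    Nat.card ↥(A ⊔ B) ∣ Nat.card A * Nat.card B := by
  have h1 : Nat.card ↥(A ⊔ B) = Nat.card B * B.relIndex (A ⊔ B) :=
    (card_mul_relIndex le_sup_right).symm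
  rw [h1, Subgroup.relIndex_sup_right, mul_comm]
  exact mul_dvd_mul_right (Subgroup.relIndex_dvd_card B A) _

theorem piNat_card_sup {π : Set ℕ} {A B : Subgroup G} [B.Normal] (hA : PiNat π (Nat.card A))
    (hB : PiNat π (Nat.card B)) : PiNat π (Nat.card ↥(A ⊔ B)) :=
  (hA.mul hB).of_dvd (card_sup_dvd A B)

theorem map_normal_of_surjective {N : Subgroup G} [hN : N.Normal] {f : G →* H}
    (hf : Function.Surjective f) : (N.map f).Normal :=
  hN.map f hf

/-! ### The π-core -/

section PiCore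

variable {π : Set ℕ}

theorem le_piCore {N : Subgroup G} [hN : N.Normal] (h : PiNat π (Nat.card N)) :
    N ≤ Cfsg.piCore π G :=
  le_sSup ⟨hN, h⟩

theorem piNat_card_piCore (π : Set ℕ) (G : Type*) [Group G] [Finite G] :
    PiNat π (Nat.card (Cfsg.piCore π G)) :=
  sSup_normal_prop (fun N : Subgroup G => PiNat π (Nat.card N))
    (by simpa using piNat_one π) (fun _ B _ _ hA hB => piNat_card_sup (B := B) hA hB)

theorem le_piCore_iff [Finite G] {N : Subgroup G} [N.Normal] :
    N ≤ Cfsg.piCore π G ↔ PiNat π (Nat.card N) :=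
  ⟨fun h => (piNat_card_piCore π G).of_dvd (Subgroup.card_dvd_of_le h), le_piCore⟩

/-- Characterization of the π-core as the largest normal π-subgroup. -/
theorem eq_piCore [Finite G] {M : Subgroup G} [M.Normal] (h : PiNat π (Nat.card M))
    (hmax : ∀ N : Subgroup G, N.Normal → PiNat π (Nat.card N) → N ≤ M) : M = Cfsg.piCore π G :=
  le_antisymm (le_piCore h) (hmax _ inferInstance (piNat_card_piCore π G))

theorem map_piCore_le [Finite G] {f : G →* H} (hf : Function.Surjective f) :
    (Cfsg.piCore π G).map f ≤ Cfsg.piCore π H := by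
  have := map_normal_of_surjective (N := Cfsg.piCore π G) hf
  exact le_piCore ((piNat_card_piCore π G).of_dvd (Subgroup.card_map_dvd _ _))

theorem map_equiv_piCore_le (e : G ≃* H) :
    (Cfsg.piCore π G).map e.toMonoidHom ≤ Cfsg.piCore π H := by
  rw [Subgroup.map_le_iff_le_comap]
  refine sSup_le ?_
  rintro N ⟨hN, hπ⟩
  rw [← Subgroup.map_le_iff_le_comap]
  have := hN
  have : (N.map e.toMonoidHom).Normal := map_normal_of_surjective e.surjective
  exact le_piCore (PiNat.of_dvd hπ (Subgroup.card_map_dvd _ _))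

theorem map_equiv_piCore (e : G ≃* H) :
    (Cfsg.piCore π G).map e.toMonoidHom = Cfsg.piCore π H := by
  refine le_antisymm (map_equiv_piCore_le e) ?_
  intro x hx
  refine Subgroup.mem_map.mpr ⟨e.symm x, map_equiv_piCore_le e.symm ⟨x, hx, rfl⟩, ?_⟩
  simp

theorem piCore_characteristic (π : Set ℕ) (G : Type*) [Group G] :
    (Cfsg.piCore π G).Characteristic :=
  Subgroup.characteristic_iff_map_eq.mpr fun e => map_equiv_piCore e

theorem card_subgroupOf_dvd (A K : Subgroup G) : Nat.card (A.subgroupOf K) ∣ Nat.card A := by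
  rw [← Subgroup.card_map_of_injective K.subtype_injective, Subgroup.subgroupOf_map_subtype]
  exact Subgroup.card_dvd_of_le inf_le_left

theorem piCore_subgroupOf_le [Finite G] (K : Subgroup G) :
    (Cfsg.piCore π G).subgroupOf K ≤ Cfsg.piCore π K :=
  le_piCore ((piNat_card_piCore π G).of_dvd (card_subgroupOf_dvd _ _))

/-- For a normal subgroup `N`, `O_π(N) = O_π(G) ⊓ N`. -/
theorem map_subtype_piCore [Finite G] (N : Subgroup G) [N.Normal] :
    (Cfsg.piCore π N).map N.subtype = Cfsg.piCore π G ⊓ N := by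
  have := piCore_characteristic π N
  refine le_antisymm ?_ ?_
  · refine le_inf (le_piCore ?_) (Subgroup.map_subtype_le _)
    exact (piNat_card_piCore π N).of_dvd (Subgroup.card_map_dvd _ _)
  · intro x hx
    exact ⟨⟨x, hx.2⟩, piCore_subgroupOf_le N (by simpa [Subgroup.mem_subgroupOf] using hx.1), rfl⟩

theorem card_map_mk'_mul (N M : Subgroup G) [N.Normal] (h : N ≤ M) :
    Nat.card (M.map (QuotientGroup.mk' N)) * Nat.card N = Nat.card M := by
  have h1 : Nat.card (M.map (QuotientGroup.mk' N)) = N.relIndex M := by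
    rw [← Subgroup.relIndex_bot_left, ← QuotientGroup.map_mk'_self N, Subgroup.relIndex_map_map]
    simp [h]
  rw [h1, mul_comm]
  exact card_mul_relIndex h

theorem card_comap_mk' (N : Subgroup G) [N.Normal] (M : Subgroup (G ⧸ N)) :
    Nat.card M * Nat.card N = Nat.card (M.comap (QuotientGroup.mk' N)) := by
  have := card_map_mk'_mul N (M.comap (QuotientGroup.mk' N)) (QuotientGroup.le_comap_mk' N M)
  rwa [Subgroup.map_comap_eq_self_of_surjective (QuotientGroup.mk'_surjective N)] at this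

/-- Quotient by a normal π-subgroup. -/
theorem piCore_quotient [Finite G] {N : Subgroup G} [N.Normal] (h : PiNat π (Nat.card N)) :
    Cfsg.piCore π (G ⧸ N) = (Cfsg.piCore π G).map (QuotientGroup.mk' N) := by
  refine le_antisymm ?_ (map_piCore_le (QuotientGroup.mk'_surjective N))
  set M := (Cfsg.piCore π (G ⧸ N)).comap (QuotientGroup.mk' N)
  have hM : PiNat π (Nat.card M) := by
    rw [← card_comap_mk']
    exact (piNat_card_piCore π _).mul h
  have : Cfsg.piCore π (G ⧸ N) = M.map (QuotientGroup.mk' N) :=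
    (Subgroup.map_comap_eq_self_of_surjective (QuotientGroup.mk'_surjective N) _).symm
  rw [this]
  exact Subgroup.map_mono (le_piCore hM)

theorem piCore_quotient_self [Finite G] :
    Cfsg.piCore π (G ⧸ Cfsg.piCore π G) = ⊥ := by
  rw [piCore_quotient (piNat_card_piCore π G), QuotientGroup.map_mk'_self]

theorem piCore_eq_top_iff [Finite G] : Cfsg.piCore π G = ⊤ ↔ PiNat π (Nat.card G) := by
  constructor
  · intro h
    simpa [h] using piNat_card_piCore π G
  · intro h
    exact top_le_iff.mp (le_piCore (by simpa using h))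

end PiCore

/-! ### The p-core -/

section PCore

variable {p : ℕ}

theorem pCore_normal (p : ℕ) (G : Type*) [Group G] : (Cfsg.pCore p G).Normal :=
  Subgroup.sSup_normal _ (fun _ h => h.1)

theorem pPrimeCore_normal (p : ℕ) (G : Type*) [Group G] : (Cfsg.pPrimeCore p G).Normal :=
  Subgroup.sSup_normal _ (fun _ h => h.1)

instance pCore_normal_inst (p : ℕ) (G : Type*) [Group G] : (Cfsg.pCore p G).Normal :=
  pCore_normal p G

instance pPrimeCore_normal_inst (p : ℕ) (G : Type*) [Group G] : (Cfsg.pPrimeCore p G).Normal :=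
  pPrimeCore_normal p G

theorem le_pCore {N : Subgroup G} [hN : N.Normal] (h : IsPGroup p N) : N ≤ Cfsg.pCore p G :=
  le_sSup ⟨hN, h⟩

theorem isPGroup_pCore (p : ℕ) (G : Type*) [Group G] [Finite G] : IsPGroup p (Cfsg.pCore p G) :=
  sSup_normal_prop (fun N : Subgroup G => IsPGroup p N) IsPGroup.of_bot
    (fun _ B _ _ hA hB => hA.to_sup_of_normal_right hB)

theorem le_pCore_iff [Finite G] {N : Subgroup G} [N.Normal] :
    N ≤ Cfsg.pCore p G ↔ IsPGroup p N :=
  ⟨fun h => (isPGroup_pCore p G).to_le h, le_pCore⟩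

theorem card_pCore (p : ℕ) [Fact p.Prime] (G : Type*) [Group G] [Finite G] :
    ∃ k, Nat.card (Cfsg.pCore p G) = p ^ k :=
  IsPGroup.iff_card.mp (isPGroup_pCore p G)

theorem isPGroup_iff_piNat [Fact p.Prime] [Finite G] : IsPGroup p G ↔ PiNat {p} (Nat.card G) := by
  rw [IsPGroup.iff_card, piNat_singleton_iff Fact.out Nat.card_pos.ne']

theorem pCore_eq_piCore (p : ℕ) [hp : Fact p.Prime] (G : Type*) [Group G] [Finite G] :
    Cfsg.pCore p G = Cfsg.piCore {p} G := by
  refine le_antisymm (le_piCore ?_) (le_pCore ?_)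
  · exact isPGroup_iff_piNat.mp (isPGroup_pCore p G)
  · exact isPGroup_iff_piNat.mpr (piNat_card_piCore _ G)

theorem le_pPrimeCore {N : Subgroup G} [hN : N.Normal] (h : (Nat.card N).Coprime p) :
    N ≤ Cfsg.pPrimeCore p G :=
  le_sSup ⟨hN, h⟩

theorem coprime_card_pPrimeCore (p : ℕ) (G : Type*) [Group G] [Finite G] :
    (Nat.card (Cfsg.pPrimeCore p G)).Coprime p :=
  sSup_normal_prop (fun N : Subgroup G => (Nat.card N).Coprime p) (by simp)
    (fun A B _ _ hA hB => Nat.Coprime.coprime_dvd_left (card_sup_dvd A B) (hA.mul_left hB))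

theorem le_pPrimeCore_iff [Finite G] {N : Subgroup G} [N.Normal] :
    N ≤ Cfsg.pPrimeCore p G ↔ (Nat.card N).Coprime p :=
  ⟨fun h => Nat.Coprime.coprime_dvd_left (Subgroup.card_dvd_of_le h) (coprime_card_pPrimeCore p G),
    le_pPrimeCore⟩

theorem pPrimeCore_eq_piCore (p : ℕ) [hp : Fact p.Prime] (G : Type*) [Group G] [Finite G] :
    Cfsg.pPrimeCore p G = Cfsg.piCore {p}ᶜ G := by
  refine le_antisymm (le_piCore ?_) (le_pPrimeCore ?_)
  · exact (piNat_compl_singleton_iff hp.out).mpr (coprime_card_pPrimeCore p G)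
  · exact (piNat_compl_singleton_iff hp.out).mp (piNat_card_piCore _ G)

theorem not_dvd_card_pPrimeCore (p : ℕ) [hp : Fact p.Prime] (G : Type*) [Group G] [Finite G] :
    ¬ p ∣ Nat.card (Cfsg.pPrimeCore p G) :=
  (Nat.Prime.coprime_iff_not_dvd hp.out).mp (coprime_card_pPrimeCore p G).symm

/-- Characterization of `O_p(G)` as the largest normal `p`-subgroup. -/
theorem eq_pCore [Finite G] {M : Subgroup G} [M.Normal] (h : IsPGroup p M)
    (hmax : ∀ N : Subgroup G, N.Normal → IsPGroup p N → N ≤ M) : M = Cfsg.pCore p G :=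
  le_antisymm (le_pCore h) (hmax _ (pCore_normal p G) (isPGroup_pCore p G))

theorem eq_pPrimeCore [Finite G] {M : Subgroup G} [M.Normal] (h : (Nat.card M).Coprime p)
    (hmax : ∀ N : Subgroup G, N.Normal → (Nat.card N).Coprime p → N ≤ M) :
    M = Cfsg.pPrimeCore p G :=
  le_antisymm (le_pPrimeCore h) (hmax _ (pPrimeCore_normal p G) (coprime_card_pPrimeCore p G))

theorem map_pCore_le [Finite G] {f : G →* H} (hf : Function.Surjective f) :
    (Cfsg.pCore p G).map f ≤ Cfsg.pCore p H := by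
  have := map_normal_of_surjective (N := Cfsg.pCore p G) hf
  exact le_pCore ((isPGroup_pCore p G).map f)

theorem map_pPrimeCore_le [Finite G] {f : G →* H} (hf : Function.Surjective f) :
    (Cfsg.pPrimeCore p G).map f ≤ Cfsg.pPrimeCore p H := by
  have := map_normal_of_surjective (N := Cfsg.pPrimeCore p G) hf
  exact le_pPrimeCore
    ((coprime_card_pPrimeCore p G).coprime_dvd_left (Subgroup.card_map_dvd _ _))

theorem map_equiv_pCore_le (e : G ≃* H) :
    (Cfsg.pCore p G).map e.toMonoidHom ≤ Cfsg.pCore p H := by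
  rw [Subgroup.map_le_iff_le_comap]
  refine sSup_le ?_
  rintro N ⟨hN, hπ⟩
  rw [← Subgroup.map_le_iff_le_comap]
  have := hN
  have : (N.map e.toMonoidHom).Normal := map_normal_of_surjective e.surjective
  exact le_pCore (hπ.map _)

theorem map_equiv_pCore (e : G ≃* H) :
    (Cfsg.pCore p G).map e.toMonoidHom = Cfsg.pCore p H := by
  refine le_antisymm (map_equiv_pCore_le e) ?_
  intro x hx
  refine Subgroup.mem_map.mpr ⟨e.symm x, map_equiv_pCore_le e.symm ⟨x, hx, rfl⟩, ?_⟩
  simp

theorem map_equiv_pPrimeCore_le (e : G ≃* H) :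
    (Cfsg.pPrimeCore p G).map e.toMonoidHom ≤ Cfsg.pPrimeCore p H := by
  rw [Subgroup.map_le_iff_le_comap]
  refine sSup_le ?_
  rintro N ⟨hN, hπ⟩
  rw [← Subgroup.map_le_iff_le_comap]
  have := hN
  have : (N.map e.toMonoidHom).Normal := map_normal_of_surjective e.surjective
  exact le_pPrimeCore (hπ.coprime_dvd_left (Subgroup.card_map_dvd _ _))

theorem map_equiv_pPrimeCore (e : G ≃* H) :
    (Cfsg.pPrimeCore p G).map e.toMonoidHom = Cfsg.pPrimeCore p H := by
  refine le_antisymm (map_equiv_pPrimeCore_le e) ?_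
  intro x hx
  refine Subgroup.mem_map.mpr ⟨e.symm x, map_equiv_pPrimeCore_le e.symm ⟨x, hx, rfl⟩, ?_⟩
  simp

theorem pCore_characteristic (p : ℕ) (G : Type*) [Group G] : (Cfsg.pCore p G).Characteristic :=
  Subgroup.characteristic_iff_map_eq.mpr fun e => map_equiv_pCore e

theorem pPrimeCore_characteristic (p : ℕ) (G : Type*) [Group G] :
    (Cfsg.pPrimeCore p G).Characteristic :=
  Subgroup.characteristic_iff_map_eq.mpr fun e => map_equiv_pPrimeCore e

theorem pCore_subgroupOf_le [Finite G] (K : Subgroup G) :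
    (Cfsg.pCore p G).subgroupOf K ≤ Cfsg.pCore p K :=
  le_pCore ((isPGroup_pCore p G).comap_of_injective K.subtype K.subtype_injective)

theorem pPrimeCore_subgroupOf_le [Finite G] (K : Subgroup G) :
    (Cfsg.pPrimeCore p G).subgroupOf K ≤ Cfsg.pPrimeCore p K :=
  le_pPrimeCore ((coprime_card_pPrimeCore p G).coprime_dvd_left (card_subgroupOf_dvd _ _))

/-- For a normal subgroup `N`, `O_p(N) = O_p(G) ⊓ N`. -/
theorem map_subtype_pCore [Finite G] (N : Subgroup G) [N.Normal] :
    (Cfsg.pCore p N).map N.subtype = Cfsg.pCore p G ⊓ N := by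
  have := pCore_characteristic p N
  refine le_antisymm ?_ ?_
  · exact le_inf (le_pCore ((isPGroup_pCore p N).map _)) (Subgroup.map_subtype_le _)
  · intro x hx
    exact ⟨⟨x, hx.2⟩, pCore_subgroupOf_le N (by simpa [Subgroup.mem_subgroupOf] using hx.1), rfl⟩

/-- For a normal subgroup `N`, `O_{p'}(N) = O_{p'}(G) ⊓ N`. -/
theorem map_subtype_pPrimeCore [Finite G] (N : Subgroup G) [N.Normal] :
    (Cfsg.pPrimeCore p N).map N.subtype = Cfsg.pPrimeCore p G ⊓ N := by
  have := pPrimeCore_characteristic p N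
  refine le_antisymm ?_ ?_
  · refine le_inf (le_pPrimeCore ?_) (Subgroup.map_subtype_le _)
    exact (coprime_card_pPrimeCore p N).coprime_dvd_left (Subgroup.card_map_dvd _ _)
  · intro x hx
    exact ⟨⟨x, hx.2⟩, pPrimeCore_subgroupOf_le N (by simpa [Subgroup.mem_subgroupOf] using hx.1),
      rfl⟩

theorem pPrimeCore_quotient [Finite G] {N : Subgroup G} [N.Normal] (h : (Nat.card N).Coprime p) :
    Cfsg.pPrimeCore p (G ⧸ N) = (Cfsg.pPrimeCore p G).map (QuotientGroup.mk' N) := by
  refine le_antisymm ?_ (map_pPrimeCore_le (QuotientGroup.mk'_surjective N))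
  set M := (Cfsg.pPrimeCore p (G ⧸ N)).comap (QuotientGroup.mk' N)
  have hM : (Nat.card M).Coprime p := by
    rw [← card_comap_mk']
    exact (coprime_card_pPrimeCore p _).mul_left h
  have : Cfsg.pPrimeCore p (G ⧸ N) = M.map (QuotientGroup.mk' N) :=
    (Subgroup.map_comap_eq_self_of_surjective (QuotientGroup.mk'_surjective N) _).symm
  rw [this]
  exact Subgroup.map_mono (le_pPrimeCore hM)

theorem pPrimeCore_quotient_self (p : ℕ) (G : Type*) [Group G] [Finite G] :
    Cfsg.pPrimeCore p (G ⧸ Cfsg.pPrimeCore p G) = ⊥ := by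
  rw [pPrimeCore_quotient (coprime_card_pPrimeCore p G), QuotientGroup.map_mk'_self]

theorem isPGroup_comap_mk' {N : Subgroup G} [N.Normal] (h : IsPGroup p N)
    {M : Subgroup (G ⧸ N)} (hM : IsPGroup p M) :
    IsPGroup p (M.comap (QuotientGroup.mk' N)) :=
  hM.comap_of_ker_isPGroup (QuotientGroup.mk' N) (by rwa [QuotientGroup.ker_mk'])

theorem pCore_quotient [Finite G] {N : Subgroup G} [N.Normal] (h : IsPGroup p N) :
    Cfsg.pCore p (G ⧸ N) = (Cfsg.pCore p G).map (QuotientGroup.mk' N) := by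
  refine le_antisymm ?_ (map_pCore_le (QuotientGroup.mk'_surjective N))
  set M := (Cfsg.pCore p (G ⧸ N)).comap (QuotientGroup.mk' N)
  have : Cfsg.pCore p (G ⧸ N) = M.map (QuotientGroup.mk' N) :=
    (Subgroup.map_comap_eq_self_of_surjective (QuotientGroup.mk'_surjective N) _).symm
  rw [this]
  exact Subgroup.map_mono (le_pCore (isPGroup_comap_mk' h (isPGroup_pCore p _)))

theorem pCore_quotient_self (p : ℕ) (G : Type*) [Group G] [Finite G] :
    Cfsg.pCore p (G ⧸ Cfsg.pCore p G) = ⊥ := by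
  rw [pCore_quotient (isPGroup_pCore p G), QuotientGroup.map_mk'_self]

theorem disjoint_of_coprime_card {A B : Subgroup G}
    (h : (Nat.card A).Coprime (Nat.card B)) : A ⊓ B = ⊥ :=
  disjoint_iff.mp <| Subgroup.disjoint_of_coprime_natCard h

theorem pCore_inf_pPrimeCore (p : ℕ) [hp : Fact p.Prime] (G : Type*) [Group G] [Finite G] :
    Cfsg.pCore p G ⊓ Cfsg.pPrimeCore p G = ⊥ := by
  obtain ⟨k, hk⟩ := card_pCore p G
  refine disjoint_iff.mp <| Subgroup.disjoint_of_coprime_natCard ?_
  rw [hk]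
  exact Nat.Coprime.pow_left _ (coprime_card_pPrimeCore p G).symm

theorem commute_pCore_pPrimeCore [hp : Fact p.Prime] [Finite G] {x y : G}
    (hx : x ∈ Cfsg.pCore p G) (hy : y ∈ Cfsg.pPrimeCore p G) : Commute x y :=
  Subgroup.commute_of_normal_of_disjoint _ _ (pCore_normal p G) (pPrimeCore_normal p G)
    (disjoint_iff.mpr (pCore_inf_pPrimeCore p G)) x y hx hy

theorem pCore_le_sylow [Finite G] [Fact p.Prime] (P : Sylow p G) :
    Cfsg.pCore p G ≤ (P : Subgroup G) := by
  obtain ⟨Q, hQ⟩ := (isPGroup_pCore p G).exists_le_sylow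
  obtain ⟨g, rfl⟩ := MulAction.exists_smul_eq G Q P
  intro x hx
  rw [Sylow.coe_subgroup_smul]
  refine Subgroup.mem_pointwise_smul_iff_inv_smul_mem.mpr (hQ ?_)
  simpa [MulAut.smul_def] using (pCore_normal p G).conj_mem x hx g⁻¹

/-- The `p`-core is the intersection of all Sylow `p`-subgroups. -/
theorem pCore_eq_iInf_sylow (p : ℕ) [Fact p.Prime] (G : Type*) [Group G] [Finite G] :
    Cfsg.pCore p G = ⨅ P : Sylow p G, (P : Subgroup G) := by
  refine le_antisymm (le_iInf pCore_le_sylow) ?_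
  obtain ⟨P₀⟩ : Nonempty (Sylow p G) := inferInstance
  have hn : (⨅ P : Sylow p G, (P : Subgroup G)).Normal := by
    refine ⟨fun n hn g => ?_⟩
    simp only [Subgroup.mem_iInf] at hn ⊢
    intro P
    have h := hn (g⁻¹ • P)
    rw [Sylow.coe_subgroup_smul, Subgroup.mem_pointwise_smul_iff_inv_smul_mem] at h
    simpa [MulAut.smul_def] using h
  exact le_pCore (P₀.2.to_le (iInf_le _ P₀))

theorem pCore_eq_top_iff [Finite G] : Cfsg.pCore p G = ⊤ ↔ IsPGroup p G := by
  constructor
  · intro h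
    have := isPGroup_pCore p G
    rw [h] at this
    exact this.of_equiv Subgroup.topEquiv
  · intro h
    exact top_le_iff.mp (le_pCore (h.to_subgroup _))

theorem pPrimeCore_eq_top_iff [Finite G] :
    Cfsg.pPrimeCore p G = ⊤ ↔ (Nat.card G).Coprime p := by
  constructor
  · intro h
    simpa [h] using coprime_card_pPrimeCore p G
  · intro h
    exact top_le_iff.mp (le_pPrimeCore (by simpa using h))

/-! ### `O_{p',p}(G)` -/

theorem pPrimePCore_normal (p : ℕ) (G : Type*) [Group G] : (Cfsg.pPrimePCore p G).Normal :=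
  Subgroup.Normal.comap (pCore_normal p _) _

instance pPrimePCore_normal_inst (p : ℕ) (G : Type*) [Group G] : (Cfsg.pPrimePCore p G).Normal :=
  pPrimePCore_normal p G

theorem pPrimeCore_le_pPrimePCore (p : ℕ) (G : Type*) [Group G] :
    Cfsg.pPrimeCore p G ≤ Cfsg.pPrimePCore p G :=
  QuotientGroup.le_comap_mk' _ _

theorem map_pPrimePCore (p : ℕ) (G : Type*) [Group G] :
    (Cfsg.pPrimePCore p G).map (QuotientGroup.mk' (Cfsg.pPrimeCore p G)) =
      Cfsg.pCore p (G ⧸ Cfsg.pPrimeCore p G) :=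
  Subgroup.map_comap_eq_self_of_surjective (QuotientGroup.mk'_surjective _) _

theorem relIndex_pPrimePCore (p : ℕ) [Fact p.Prime] (G : Type*) [Group G] [Finite G] :
    ∃ k, (Cfsg.pPrimeCore p G).relIndex (Cfsg.pPrimePCore p G) = p ^ k := by
  obtain ⟨k, hk⟩ := card_pCore p (G ⧸ Cfsg.pPrimeCore p G)
  refine ⟨k, ?_⟩
  rw [← hk, ← map_pPrimePCore, ← Subgroup.relIndex_bot_left,
    ← QuotientGroup.map_mk'_self (Cfsg.pPrimeCore p G), Subgroup.relIndex_map_map]
  simp [pPrimeCore_le_pPrimePCore p G]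

theorem pCore_le_pPrimePCore (p : ℕ) (G : Type*) [Group G] [Finite G] :
    Cfsg.pCore p G ≤ Cfsg.pPrimePCore p G :=
  Subgroup.map_le_iff_le_comap.mp (map_pCore_le (QuotientGroup.mk'_surjective _))

end PCore

end Cfsg.Agent.HallCore
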