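import Mathlib
import Cfsg.Prelude.Def_Local
import Cfsg.Agent.Lib.BlockPrincipal81
import Cfsg.Agent.Lib.HallCore

/-!
# The principal block through the sum of the p-regular elements

The central element `z`, the sum of the `p`-regular elements, has central character `0` outside
the principal block and a unit inside it.  Hence the principal block idempotent is congruent to a
multiple of `z` modulo the maximal ideal, and its restriction to the centralizer of a `p`-element
is invariant under translation by `p'`-normal subgroups of that centralizer.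
-/

set_option autoImplicit false

open scoped ComplexConjugate

namespace Cfsg.Agent.ZStarPrincipal

open Cfsg Cfsg.Agent.BlockTheoryLocalRing Cfsg.Agent.BlockTheoryRotation
  Cfsg.Agent.BlockTheoryCentre Cfsg.Agent.BlockTheoryIdem Cfsg.Agent.BlockPrincipal81
  Cfsg.Agent.CharBasic Cfsg.Agent.CharBasicOrth

attribute [local instance] Classical.propDecidable

universe u

variable {G : Type u} [Group G] [Fintype G] {p : ℕ} {M : Ideal AlgInt}

/-- The sum of the `p`-regular elements. -/
noncomputable def zReg (p : ℕ) (G : Type u) [Group G] [Fintype G] : MonoidAlgebra ℂ G :=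
  ofFun fun x => if p ∣ orderOf x then 0 else 1

theorem coeff_zReg (x : G) : (zReg p G).coeff x = if p ∣ orderOf x then (0 : ℂ) else 1 := rfl

theorem isCen_zReg : IsCen (zReg p G) := fun g h => by
  simp only [coeff_zReg]
  rw [show h * g * h⁻¹ = MulAut.conj h g from rfl, MulEquiv.orderOf_eq]

theorem isInt_zReg (hM : IsPModular p M) : IsInt M (zReg p G) := fun x => by
  rw [coeff_zReg]
  split_ifs
  exacts [(localRing hM).zero_mem, (localRing hM).one_mem]

/-- The sum of a function over the `p`-regular elements. -/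
noncomputable def regSum (p : ℕ) (f : G → ℂ) : ℂ := ∑ x : G, if p ∣ orderOf x then 0 else f x

theorem chiSum_zReg (f : G → ℂ) : chiSum f (zReg p G) = regSum p f := by
  simp only [chiSum_apply, coeff_zReg, regSum, ite_mul, zero_mul, one_mul]

/-- The number of `p`-regular elements. -/
noncomputable def regCard (p : ℕ) (G : Type u) [Group G] [Fintype G] : ℕ :=
  (Finset.univ.filter fun x : G => ¬ p ∣ orderOf x).card

theorem regSum_one : regSum p (fun _ : G => (1 : ℂ)) = (regCard p G : ℂ) := by
  rw [regSum, regCard, Finset.natCast_card_filter]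
  exact Finset.sum_congr rfl fun x _ => by split_ifs <;> rfl

theorem omega_one_zReg :
    omega ((oneChar G : IrrCharacter G) : G → ℂ) (zReg p G) = (regCard p G : ℂ) := by
  rw [omega_apply, chiSum_zReg]
  show ((1 : ℂ))⁻¹ * regSum p (fun _ : G => (1 : ℂ)) = _
  rw [regSum_one, inv_one, one_mul]

theorem conj_regSum (χ : IrrCharacter G) : conj (regSum p (χ : G → ℂ)) = regSum p (χ : G → ℂ) := by
  rw [regSum, map_sum]
  refine Fintype.sum_equiv (Equiv.inv G) _ _ fun x => ?_
  simp only [Equiv.inv_apply, orderOf_inv, irr_inv]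
  split_ifs <;> simp

theorem block_ne_principal (hM : IsPModular p M) {χ : IrrCharacter G}
    (h : χ ∉ principalBlock M G) : oneChar G ∉ blockOf M (χ : G → ℂ) :=
  fun h1 => h (sameBlock_symm (show SameBlock M (χ : G → ℂ) ((oneChar G : IrrCharacter G) : G → ℂ) from h1))

/-- Outside the principal block a character sums to zero over the regular elements. -/
theorem regSum_eq_zero (hM : IsPModular p M) {χ : IrrCharacter G}
    (h : χ ∉ principalBlock M G) : regSum p (χ : G → ℂ) = 0 := by
  set B := blockOf M (χ : G → ℂ)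
  have hB : IsPBlock M B := isPBlock_blockOf χ
  have hone : oneChar G ∉ B := block_ne_principal hM h
  -- the combination vanishes at every regular element
  have hT : ∀ x : G, ¬ p ∣ orderOf x →
      ∑ φ : IrrCharacter G, (if φ ∈ B then (φ : G → ℂ) x * conj (regSum p (φ : G → ℂ)) else 0) = 0 := by
    intro x hx
    have hall : ∀ φ : IrrCharacter G, φ ∈ B → ∑ y : G, conj ((φ : G → ℂ) y) = 0 := by
      intro φ hφ
      have hne : ((oneChar G : IrrCharacter G) : G → ℂ) ≠ (φ : G → ℂ) :=
        fun e => hone (Subtype.ext e ▸ hφ)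
      have h0 := classInner_irr_ne (oneChar G).2 φ.2 hne
      rw [classInner, mul_eq_zero] at h0
      rcases h0 with h0 | h0
      · simp at h0
      · simpa [oneChar] using h0
    have hswap : ∀ φ : IrrCharacter G, (φ : G → ℂ) x * conj (regSum p (φ : G → ℂ)) =
        ∑ y : G, (if p ∣ orderOf y then 0 else (φ : G → ℂ) x * conj ((φ : G → ℂ) y)) := by
      intro φ
      rw [regSum, map_sum, Finset.mul_sum]
      exact Finset.sum_congr rfl fun y _ => by split_ifs <;> simp
    calc ∑ φ : IrrCharacter G, (if φ ∈ B then (φ : G → ℂ) x * conj (regSum p (φ : G → ℂ)) else 0)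
        = ∑ φ : IrrCharacter G, ∑ y : G,
            (if p ∣ orderOf y then 0 else if φ ∈ B then (φ : G → ℂ) x * conj ((φ : G → ℂ) y) else 0) := by
          refine Finset.sum_congr rfl fun φ _ => ?_
          by_cases hφ : φ ∈ B
          · simp only [if_pos hφ]; exact hswap φ
          · simp [hφ]
      _ = ∑ y : G, ∑ φ : IrrCharacter G,
            (if φ ∈ B then (φ : G → ℂ) x * conj ((φ : G → ℂ) y) else 0) := by
          rw [Finset.sum_comm]
          refine Finset.sum_congr rfl fun y _ => ?_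
          by_cases hy : p ∣ orderOf y
          · rw [weak_orthogonality hM hB hx hy]; simp [hy]
          · simp [hy]
      _ = 0 := by
          rw [Finset.sum_comm]
          refine Finset.sum_eq_zero fun φ _ => ?_
          by_cases hφ : φ ∈ B
          · simp only [if_pos hφ, ← Finset.mul_sum, hall φ hφ, mul_zero]
          · simp [hφ]
  have h2 : ∑ φ : IrrCharacter G, (if φ ∈ B then Complex.normSq (regSum p (φ : G → ℂ)) else 0) = 0 := by
    have h3 : ∑ x : G, (if p ∣ orderOf x then 0 else
        ∑ φ : IrrCharacter G, (if φ ∈ B then (φ : G → ℂ) x * conj (regSum p (φ : G → ℂ)) else 0)) = 0 :=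
      Finset.sum_eq_zero fun x _ => by
        split_ifs with hx
        · rfl
        · exact hT x hx
    have h4 : ((∑ φ : IrrCharacter G,
        (if φ ∈ B then Complex.normSq (regSum p (φ : G → ℂ)) else 0) : ℝ) : ℂ) = 0 := by
      rw [← h3, Complex.ofReal_sum]
      symm
      calc _ = ∑ x : G, ∑ φ : IrrCharacter G, (if φ ∈ B then
            (if p ∣ orderOf x then 0 else (φ : G → ℂ) x) * conj (regSum p (φ : G → ℂ)) else 0) := by
            refine Finset.sum_congr rfl fun x _ => ?_
            split_ifs with hx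
            · simp
            · rfl
        _ = _ := by
            rw [Finset.sum_comm]
            refine Finset.sum_congr rfl fun φ _ => ?_
            by_cases hφ : φ ∈ B
            · simp only [if_pos hφ]
              rw [← Finset.sum_mul, ← Complex.mul_conj]
              rfl
            · simp [hφ]
    exact_mod_cast h4
  have := (Finset.sum_eq_zero_iff_of_nonneg (fun φ _ => by
    split_ifs
    exacts [Complex.normSq_nonneg _, le_rfl])).1 h2 χ (Finset.mem_univ χ)
  rw [if_pos (self_mem_blockOf hM χ)] at this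
  exact Complex.normSq_eq_zero.1 this

theorem omega_zReg_eq_zero (hM : IsPModular p M) {χ : IrrCharacter G}
    (h : χ ∉ principalBlock M G) : omega (χ : G → ℂ) (zReg p G) = 0 := by
  rw [omega_apply, chiSum_zReg, regSum_eq_zero hM h, mul_zero]

/-- The number of `p`-regular elements is prime to `p`. -/
theorem not_dvd_regCard [Fact p.Prime] : ¬ p ∣ regCard p G := by
  obtain ⟨P⟩ : Nonempty (Sylow p G) := inferInstance
  let R := {x : G // ¬ p ∣ orderOf x}
  let _ : MulAction (P : Subgroup G) R :=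
    { smul := fun u x => ⟨(u : G) * x.1 * (u : G)⁻¹, by
        rw [show (u : G) * x.1 * (u : G)⁻¹ = MulAut.conj (u : G) x.1 from rfl, MulEquiv.orderOf_eq]
        exact x.2⟩
      one_smul := fun x => Subtype.ext (show ((1 : (P : Subgroup G)) : G) * x.1 * _ = _ by simp)
      mul_smul := fun u v x => Subtype.ext (show ((u * v : (P : Subgroup G)) : G) * x.1 * _ =
        (u : G) * ((v : G) * x.1 * (v : G)⁻¹) * (u : G)⁻¹ by
          simp only [Subgroup.coe_mul, mul_inv_rev, mul_assoc]) }
  have hmod := P.isPGroup'.card_modEq_card_fixedPoints R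
  set C := Subgroup.centralizer ((P : Subgroup G) : Set G) with hC
  -- the fixed points are the regular elements of the centralizer
  have hfix : Nat.card (MulAction.fixedPoints (P : Subgroup G) R) =
      Nat.card {x : C // ¬ p ∣ orderOf x} := by
    refine Nat.card_congr
      { toFun := fun x => ⟨⟨x.1.1, ?_⟩, ?_⟩
        invFun := fun x => ⟨⟨x.1.1, ?_⟩, ?_⟩
        left_inv := fun x => rfl
        right_inv := fun x => rfl }
    · rw [hC, Subgroup.mem_centralizer_iff]
      intro u hu
      exact mul_inv_eq_iff_eq_mul.1 (congrArg Subtype.val (x.2 ⟨u, hu⟩))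
    · rw [← Subgroup.orderOf_coe]; exact x.1.2
    · rw [Subgroup.orderOf_coe]; exact x.2
    · intro u
      apply Subtype.ext
      show (u : G) * x.1.1 * (u : G)⁻¹ = x.1.1
      rw [Subgroup.mem_centralizer_iff.1 x.1.2 u u.2, mul_inv_cancel_right]
  intro hdvd
  have h1 : p ∣ Nat.card R := by
    rw [Nat.card_eq_fintype_card, Fintype.card_subtype]
    exact hdvd
  have h2 : p ∣ Nat.card {x : C // ¬ p ∣ orderOf x} := by
    rw [← hfix]
    exact (Nat.ModEq.dvd_iff hmod dvd_rfl).1 h1
  set Z := (P : Subgroup G).subgroupOf C with hZ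
  have hcomm : ∀ (z : C), z ∈ Z → ∀ x : C, Commute z x := by
    intro z hz x
    exact Subtype.ext (Subgroup.mem_centralizer_iff.1 x.2 (z : G) hz)
  have hpart : ∀ g : C, ∃ z : C, z ∈ Z ∧ ¬ p ∣ orderOf (z⁻¹ * g) := by
    intro g
    obtain ⟨x, y, hxy, hcm, ⟨k, hk⟩, hy⟩ := exists_pPart (Fact.out : p.Prime) (g : C)
    refine ⟨x, ?_, ?_⟩
    · show (x : G) ∈ (P : Subgroup G)
      have hx : IsPGroup p (Subgroup.zpowers (x : G)) := by
        rw [IsPGroup.iff_card]
        exact ⟨k, by rw [Nat.card_zpowers, Subgroup.orderOf_coe, hk]⟩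
      have hle : Subgroup.zpowers (x : G) ≤ Subgroup.normalizer ((P : Subgroup G) : Set G) :=
        (Subgroup.zpowers_le.2 (Subgroup.centralizer_le_normalizer _ x.2))
      have hsup : IsPGroup p ((P : Subgroup G) ⊔ Subgroup.zpowers (x : G) : Subgroup G) :=
        P.isPGroup'.to_sup_of_normal_left' hx hle
      exact (P.is_maximal' hsup le_sup_left).le (Subgroup.mem_sup_right (Subgroup.mem_zpowers _))
    · rw [← hxy, inv_mul_cancel_left]; exact hy
  have hbij : Nat.card {x : C // ¬ p ∣ orderOf x} * Nat.card Z = Nat.card C := by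
    rw [← Nat.card_prod]
    refine Nat.card_eq_of_bijective (fun q => (q.2 : C) * q.1) ⟨?_, ?_⟩
    · rintro ⟨⟨x, hx⟩, ⟨z, hz⟩⟩ ⟨⟨x', hx'⟩, ⟨z', hz'⟩⟩ he
      simp only at he
      have hzp : ∀ w : C, w ∈ Z → ∃ k, orderOf w = p ^ k := by
        intro w hw
        obtain ⟨k, hk⟩ := (IsPGroup.iff_orderOf.1 P.isPGroup') ⟨(w : G), hw⟩
        exact ⟨k, by rw [← hk, ← Subgroup.orderOf_coe, ← Subgroup.orderOf_coe (⟨(w : G), hw⟩ : (P : Subgroup G))]⟩
      have := pPart_unique (Fact.out : p.Prime) (g := z * x) (x := z) (x' := z')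
        ⟨x, rfl, hcomm z hz x, hzp z hz, hx⟩ ⟨x', he.symm, hcomm z' hz' x', hzp z' hz', hx'⟩
      subst this
      simp [mul_left_cancel he]
    · intro g
      obtain ⟨z, hz, hr⟩ := hpart g
      exact ⟨(⟨z⁻¹ * g, hr⟩, ⟨z, hz⟩), mul_inv_cancel_left z g⟩
  have hidx : ¬ p ∣ Z.index := by
    intro h
    -- a larger `p`-subgroup would centralize `P`
    obtain ⟨T⟩ : Nonempty (Sylow p C) := inferInstance
    haveI : Z.Normal := ⟨fun z hz x => by
      rw [← (hcomm z hz x).eq, mul_inv_cancel_right]; exact hz⟩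
    have hT : ∀ t : C, t ∈ (T : Subgroup C) → t ∈ Z := by
      intro t ht
      obtain ⟨k, hk⟩ := (IsPGroup.iff_orderOf.1 T.isPGroup') ⟨t, ht⟩
      have hx : IsPGroup p (Subgroup.zpowers (t : G)) := by
        rw [IsPGroup.iff_card]
        exact ⟨k, by rw [Nat.card_zpowers, Subgroup.orderOf_coe, ← hk, ← Subgroup.orderOf_coe (⟨t, ht⟩ : (T : Subgroup C))]⟩
      have hle : Subgroup.zpowers (t : G) ≤ Subgroup.normalizer ((P : Subgroup G) : Set G) :=
        (Subgroup.zpowers_le.2 (Subgroup.centralizer_le_normalizer _ t.2))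
      exact (P.is_maximal' (P.isPGroup'.to_sup_of_normal_left' hx hle) le_sup_left).le
        (Subgroup.mem_sup_right (Subgroup.mem_zpowers (t : G)))
    exact T.not_dvd_index (h.trans (Subgroup.index_dvd_of_le (fun t ht => hT t ht)))
  have h3 : Nat.card {x : C // ¬ p ∣ orderOf x} = Z.index := by
    have h4 := hbij.trans Z.index_mul_card.symm
    exact Nat.eq_of_mul_eq_mul_right Nat.card_pos h4
  exact hidx (h3 ▸ h2)

/-- On the principal block the central character of `zReg` is congruent to `regCard`. -/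
theorem omega_zReg_sub_mem (hM : IsPModular p M) {χ : IrrCharacter G}
    (h : χ ∈ principalBlock M G) :
    MemLocalIdeal M ((regCard p G : ℂ) - omega (χ : G → ℂ) (zReg p G)) := by
  have := omega_sub_mem hM
    (show SameBlock M ((oneChar G : IrrCharacter G) : G → ℂ) (χ : G → ℂ) from h)
    isCen_zReg (isInt_zReg hM)
  rwa [omega_one_zReg] at this

/-- Membership in the principal block, read off from the regular elements. -/
theorem mem_principal_iff [Fact p.Prime] (hM : IsPModular p M) (χ : IrrCharacter G) :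
    χ ∈ principalBlock M G ↔ regSum p (χ : G → ℂ) ≠ 0 := by
  refine ⟨fun h h0 => ?_, fun h => by_contra fun hn => h (regSum_eq_zero hM hn)⟩
  have := omega_zReg_sub_mem hM h
  rw [omega_apply, chiSum_zReg, h0, mul_zero, sub_zero, natCast_mem_iff hM] at this
  exact not_dvd_regCard this

theorem isCen_pow {z : MonoidAlgebra ℂ G} (hz : IsCen z) : ∀ n : ℕ, IsCen (z ^ n)
  | 0 => by rw [pow_zero]; exact isCen_one
  | n + 1 => by rw [pow_succ]; exact (isCen_pow hz n).mul hz

theorem isInt_pow (hM : IsPModular p M) {z : MonoidAlgebra ℂ G} (hz : IsInt M z) :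
    ∀ n : ℕ, IsInt M (z ^ n)
  | 0 => by rw [pow_zero]; exact isInt_one hM
  | n + 1 => by rw [pow_succ]; exact (isInt_pow hM hz n).mul hM hz

theorem omega_pow (χ : IrrCharacter G) {z : MonoidAlgebra ℂ G} (hz : IsCen z) :
    ∀ n : ℕ, omega (χ : G → ℂ) (z ^ n) = omega (χ : G → ℂ) z ^ n
  | 0 => by rw [pow_zero, pow_zero, omega_one]
  | n + 1 => by rw [pow_succ, omega_mul χ (isCen_pow hz n), omega_pow χ hz n, pow_succ]

theorem isCen_sum {ι : Type*} (s : Finset ι) (f : ι → MonoidAlgebra ℂ G) (h : ∀ i ∈ s, IsCen (f i)) :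
    IsCen (∑ i ∈ s, f i) := by
  induction s using Finset.induction with
  | empty => rw [Finset.sum_empty]; exact isCen_zero
  | insert i s hi ih =>
    rw [Finset.sum_insert hi]
    exact (h i (Finset.mem_insert_self i s)).add (ih fun j hj => h j (Finset.mem_insert_of_mem hj))

theorem isInt_sum (hM : IsPModular p M) {ι : Type*} (s : Finset ι) (f : ι → MonoidAlgebra ℂ G)
    (h : ∀ i ∈ s, IsInt M (f i)) : IsInt M (∑ i ∈ s, f i) := by
  induction s using Finset.induction with
  | empty => rw [Finset.sum_empty]; exact isInt_zero hM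
  | insert i s hi ih =>
    rw [Finset.sum_insert hi]
    exact IsInt.add hM (h i (Finset.mem_insert_self i s)) (ih fun j hj => h j (Finset.mem_insert_of_mem hj))

/-- The principal block idempotent is a multiple of `zReg` modulo `M`. -/
theorem exists_idem_congr [Fact p.Prime] (hM : IsPModular p M) :
    ∃ w : MonoidAlgebra ℂ G, IsCen w ∧ IsInt M w ∧
      ∀ x, MemLocalIdeal M (blockCoeff (principalBlock M G) x - (w * zReg p G).coeff x) := by
  set c : ℂ := (regCard p G : ℂ) with hc
  have hc0 : c ≠ 0 := by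
    refine Nat.cast_ne_zero.2 fun h0 => not_dvd_regCard (G := G) (p := p) ?_
    rw [h0]; exact dvd_zero p
  have hci : MemLocalRing M c⁻¹ := inv_natCast_mem hM not_dvd_regCard
  set t : MonoidAlgebra ℂ G := 1 - c⁻¹ • zReg p G with ht
  have htc : IsCen t := isCen_one.sub (isCen_zReg.smul _)
  have hti : IsInt M t := IsInt.sub hM (isInt_one hM) (IsInt.smul hM hci (isInt_zReg hM))
  have homega : ∀ χ : IrrCharacter G, omega (χ : G → ℂ) t = 1 - c⁻¹ * omega (χ : G → ℂ) (zReg p G) := by
    intro χ; rw [ht, map_sub, omega_one, map_smul, smul_eq_mul]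
  set n := (Nat.card G).factorization p + 1 with hn
  have hq : ∀ χ : IrrCharacter G, ∃ q₀ : ℕ, χ ∈ principalBlock M G →
      ∀ q, q₀ ≤ q → DvdPow M p n (omega (χ : G → ℂ) t ^ q) := by
    intro χ
    by_cases hχ : χ ∈ principalBlock M G
    · have hid : MemLocalIdeal M (omega (χ : G → ℂ) t) := by
        have := ideal_mul_left hM hci (omega_zReg_sub_mem hM hχ)
        rw [← hc, mul_sub, inv_mul_cancel₀ hc0] at this
        rw [homega]; exact this
      obtain ⟨q₀, h₀⟩ := exists_pow_dvdPow hM hid n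
      exact ⟨q₀, fun _ => h₀⟩
    · exact ⟨0, fun h' => absurd h' hχ⟩
  choose q₀ hq₀ using hq
  set N := ∑ χ, q₀ χ with hN
  set w : MonoidAlgebra ℂ G := c⁻¹ • ∑ i ∈ Finset.range N, t ^ i with hw
  have hwc : IsCen w := (isCen_sum _ _ fun i _ => isCen_pow htc i).smul _
  refine ⟨w, hwc, IsInt.smul hM hci (isInt_sum hM _ _ fun i _ => isInt_pow hM hti i), fun x => ?_⟩
  set D : MonoidAlgebra ℂ G := idem (principalBlock M G) - w * zReg p G with hD
  have hwz : ∀ χ : IrrCharacter G, omega (χ : G → ℂ) (w * zReg p G) = 1 - omega (χ : G → ℂ) t ^ N := by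
    intro χ
    rw [omega_mul χ hwc, hw, map_smul, map_sum, smul_eq_mul]
    simp only [omega_pow χ htc]
    have hg := geom_sum_mul_neg (omega (χ : G → ℂ) t) N
    rw [← hg, homega]
    ring
  have hDd : ∀ χ : IrrCharacter G, DvdPow M p n (omega (χ : G → ℂ) D) := by
    intro χ
    rw [hD, map_sub, omega_idem, hwz]
    split_ifs with hχ
    · rw [sub_sub_cancel]
      exact hq₀ χ hχ N (Finset.single_le_sum (fun _ _ => Nat.zero_le _) (Finset.mem_univ χ))
    · rw [homega, omega_zReg_eq_zero hM hχ, mul_zero, sub_zero, one_pow, sub_self, sub_zero]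
      exact dvdPow_zero' hM n
  have hDc : IsCen D := (isCen_idem _).sub (hwc.mul isCen_zReg)
  have hexp : D = ∑ χ : IrrCharacter G, omega (χ : G → ℂ) D • idem ({χ} : Set (IrrCharacter G)) := by
    refine ext_omega hDc (isCen_sum _ _ fun χ _ => (isCen_idem _).smul _) fun ψ => ?_
    rw [map_sum, Finset.sum_eq_single ψ]
    · rw [map_smul, omega_idem, if_pos (Set.mem_singleton ψ), smul_eq_mul, mul_one]
    · intro φ _ hne
      rw [map_smul, omega_idem, if_neg fun h => hne (Set.mem_singleton_iff.1 h).symm, smul_zero]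
    · simp
  have hcoef : D.coeff x = blockCoeff (principalBlock M G) x - (w * zReg p G).coeff x := by
    rw [hD, MonoidAlgebra.coeff_sub, Finsupp.sub_apply, coeff_idem]
  rw [← hcoef, hexp, MonoidAlgebra.coeff_sum, Finset.sum_apply']
  refine ideal_sum hM fun χ _ => ?_
  rw [MonoidAlgebra.coeff_smul_apply, smul_eq_mul, coeff_idem, blockCoeff_eq_sum]
  obtain ⟨v, hv, hvD⟩ := hDd χ
  rw [hvD, Finset.sum_eq_single χ (fun φ _ hne => by simp [hne]) (fun h => absurd (Finset.mem_univ χ) h),
    if_pos (Set.mem_singleton χ)]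
  have hsplit : ((Nat.card G : ℕ) : ℂ) =
      (p : ℂ) ^ (Nat.card G).factorization p * ((ordCompl[p] (Nat.card G) : ℕ) : ℂ) := by
    rw [← Nat.cast_pow, ← Nat.cast_mul, Nat.ordProj_mul_ordCompl_eq_self]
  have hpne : (p : ℂ) ≠ 0 := Nat.cast_ne_zero.2 hM.1.ne_zero
  have hone : ((ordCompl[p] (Nat.card G) : ℕ) : ℂ) ≠ 0 :=
    Nat.cast_ne_zero.2 (Nat.ordCompl_pos p Nat.card_pos.ne').ne'
  have hval : (p : ℂ) ^ n * v * ((Nat.card G : ℂ)⁻¹ * ((χ : G → ℂ) 1 * conj ((χ : G → ℂ) x))) =
      (p : ℂ) * (((ordCompl[p] (Nat.card G) : ℕ) : ℂ)⁻¹ *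
        (v * ((χ : G → ℂ) 1 * conj ((χ : G → ℂ) x)))) := by
    rw [hsplit, hn, pow_succ]
    field_simp
  rw [hval]
  refine ideal_mul_right hM (natCast_p_mem hM) ((localRing hM).mul_mem
    (inv_natCast_mem hM (Nat.not_dvd_ordCompl hM.1 Nat.card_pos.ne')) ((localRing hM).mul_mem hv ?_))
  have hi : ∀ y, MemLocalRing M ((χ : G → ℂ) y) := fun y =>
    of_isIntegral hM (isCharacter_integral (isCharacter_of_isIrrCharacter χ.2) y)
  refine (localRing hM).mul_mem (hi 1) ?_
  rw [← irr_inv]; exact hi _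

/-- The principal block idempotent on `C(u)` is invariant, modulo `M`, under translation by
`p'`-subgroups `K` of `C(u)` normalized by `C(u)`. -/
theorem idem_translate [Fact p.Prime] (hM : IsPModular p M) {u : G} (hu : ∃ k, orderOf u = p ^ k)
    {K : Subgroup G} (hKC : ∀ k ∈ K, Commute u k) (hK : ¬ p ∣ Nat.card K)
    (hKn : ∀ g, Commute u g → ∀ k ∈ K, g * k * g⁻¹ ∈ K) {g k : G} (hg : Commute u g) (hk : k ∈ K) :
    MemLocalIdeal M (blockCoeff (principalBlock M G) (g * k) - blockCoeff (principalBlock M G) g) := by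
  obtain ⟨w, hwc, hwi, hw⟩ := exists_idem_congr (G := G) hM
  have hgk : Commute u (g * k) := hg.mul_right (hKC k hk)
  -- translation does not change regularity on `C(u)`
  have hreg : ∀ y : G, Commute u y → (zReg p G).coeff (y * k) = (zReg p G).coeff y := by
    intro y hy
    set N : Subgroup G := Subgroup.normalizer (K : Set G)
    have hCN : ∀ g, Commute u g → g ∈ N := by
      intro g hg
      refine Subgroup.mem_normalizer_iff.2 fun x => ⟨fun hx => hKn g hg x hx, fun hx => ?_⟩
      have := hKn g⁻¹ hg.inv_right _ hx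
      simpa [mul_assoc] using this
    let π := QuotientGroup.mk' (K.subgroupOf N)
    have key : ∀ a : N, (p ∣ orderOf a ↔ p ∣ orderOf (π a)) := by
      intro a
      refine ⟨fun h => ?_, fun h => h.trans (orderOf_map_dvd π a)⟩
      have hmem : a ^ orderOf (π a) ∈ K.subgroupOf N := by
        rw [← QuotientGroup.eq_one_iff]
        exact pow_orderOf_eq_one (π a)
      have hd : orderOf a ∣ orderOf (π a) * Nat.card K := by
        rw [orderOf_dvd_iff_pow_eq_one, pow_mul]
        apply Subtype.ext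
        have := congrArg Subtype.val (pow_card_eq_one' (G := K) (x := ⟨_, Subgroup.mem_subgroupOf.1 hmem⟩))
        simpa only [SubmonoidClass.coe_pow, OneMemClass.coe_one] using this
      exact ((hM.1.dvd_mul).1 (h.trans hd)).resolve_right hK
    have hyk : y * k ∈ N := hCN _ (hy.mul_right (hKC k hk))
    have h1 : π ⟨y * k, hyk⟩ = π ⟨y, hCN y hy⟩ := by
      rw [QuotientGroup.mk'_eq_mk']
      exact ⟨⟨k⁻¹, hCN _ (hKC k hk).inv_right⟩, Subgroup.mem_subgroupOf.2 (K.inv_mem hk),
        Subtype.ext (mul_inv_cancel_right y k)⟩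
    simp only [coeff_zReg]
    have h2 : p ∣ orderOf (y * k) ↔ p ∣ orderOf y := by
      rw [← Subgroup.orderOf_mk (y * k) hyk, key, h1, ← key, Subgroup.orderOf_mk]
    simp only [h2]
  set Q := Subgroup.zpowers u with hQdef
  have hQ : IsPGroup p Q := by
    obtain ⟨j, hj⟩ := hu
    exact IsPGroup.iff_card.2 ⟨j, by rw [hQdef, Nat.card_zpowers, hj]⟩
  let W : G → ℂ := fun x => w.coeff x *
    ((zReg p G).coeff (x⁻¹ * (g * k)) - (zReg p G).coeff (x⁻¹ * g))
  have hW : ∀ v ∈ Q, ∀ x, W (v * x * v⁻¹) = W x := by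
    intro v hv x
    have hv' : ∀ y, Commute u y → v * y * v⁻¹ = y := by
      intro y hy
      obtain ⟨i, rfl⟩ := Subgroup.mem_zpowers_iff.1 hv
      rw [(hy.zpow_left i).eq, mul_inv_cancel_right]
    have e1 : (v * x * v⁻¹)⁻¹ * (g * k) = v * (x⁻¹ * (g * k)) * v⁻¹ := by
      conv_lhs => rw [← hv' (g * k) hgk]
      group
    have e2 : (v * x * v⁻¹)⁻¹ * g = v * (x⁻¹ * g) * v⁻¹ := by
      conv_lhs => rw [← hv' g hg]
      group
    simp only [W, e1, e2]
    rw [show w.coeff (v * x * v⁻¹) = w.coeff x from hwc x v,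
      show (zReg p G).coeff (v * (x⁻¹ * (g * k)) * v⁻¹) = (zReg p G).coeff (x⁻¹ * (g * k)) from
        isCen_zReg (x⁻¹ * (g * k)) v,
      show (zReg p G).coeff (v * (x⁻¹ * g) * v⁻¹) = (zReg p G).coeff (x⁻¹ * g) from isCen_zReg (x⁻¹ * g) v]
  have hWi : ∀ x, MemLocalRing M (W x) := fun x =>
    (localRing hM).mul_mem (hwi x) ((localRing hM).sub_mem (isInt_zReg hM _) (isInt_zReg hM _))
  have hsum := ideal_sum_sub_centralizer hM hQ hW hWi
  rw [Finset.sum_eq_zero (s := (Finset.univ : Finset (Subgroup.centralizer (Q : Set G)))) (fun x _ => ?_),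
    sub_zero] at hsum
  swap
  · have hx : Commute u (x : G) :=
      Subgroup.mem_centralizer_iff.1 x.2 u (Subgroup.mem_zpowers u)
    show w.coeff _ * _ = 0
    rw [← mul_assoc (x : G)⁻¹, hreg _ (hx.inv_right.mul_right hg), sub_self, mul_zero]
  have hdiff : MemLocalIdeal M ((w * zReg p G).coeff (g * k) - (w * zReg p G).coeff g) := by
    rw [coeff_mul_eq, coeff_mul_eq, ← Finset.sum_sub_distrib]
    simpa only [W, mul_sub] using hsum
  have := ideal_add hM (ideal_sub hM (hw (g * k)) (hw g)) hdiff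
  convert this using 1
  ring

/-- The averaging idempotent of a subgroup. -/
noncomputable def avg (K : Subgroup G) : MonoidAlgebra ℂ G :=
  (Nat.card K : ℂ)⁻¹ • ∑ k : K, MonoidAlgebra.single (k : G) 1

theorem avg_sq (K : Subgroup G) : avg K * avg K = avg K := by
  have h0 : ∀ k : K, MonoidAlgebra.single (k : G) (1 : ℂ) * ∑ l : K, MonoidAlgebra.single (l : G) (1 : ℂ) =
      ∑ l : K, MonoidAlgebra.single (l : G) (1 : ℂ) := by
    intro k
    rw [Finset.mul_sum]
    refine Fintype.sum_equiv (Equiv.mulLeft k) _ _ fun l => ?_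
    simp [MonoidAlgebra.single_mul_single]
  simp only [avg, Algebra.smul_mul_assoc, Algebra.mul_smul_comm, Finset.sum_mul, smul_smul,
    Finset.sum_congr rfl fun k _ => h0 k, Finset.sum_const, Finset.card_univ]
  rw [← Nat.cast_smul_eq_nsmul ℂ, smul_smul, ← Nat.card_eq_fintype_card]
  congr 1
  field_simp

theorem isInt_avg (hM : IsPModular p M) (K : Subgroup G) (hK : ¬ p ∣ Nat.card K) : IsInt M (avg K) :=
  IsInt.smul hM (inv_natCast_mem hM hK) (isInt_sum hM _ _ fun _ _ => isInt_single hM _ (localRing hM).one_mem)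

theorem single_mul_avg (K : Subgroup G) {v : G} (h : ∀ k ∈ K, v * k * v⁻¹ ∈ K) :
    MonoidAlgebra.single v 1 * avg K = avg K * MonoidAlgebra.single v 1 := by
  simp only [avg, Algebra.smul_mul_assoc, Algebra.mul_smul_comm, Finset.sum_mul, Finset.mul_sum,
    MonoidAlgebra.single_mul_single, mul_one]
  congr 1
  let f : K → K := fun k => ⟨v * k * v⁻¹, h k k.2⟩
  have hf : Function.Injective f := fun a b e => Subtype.ext (by simpa [f] using congrArg Subtype.val e)
  refine Fintype.sum_equiv (Equiv.ofBijective f ⟨hf, Finite.injective_iff_surjective.1 hf⟩) _ _ fun k => ?_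
  show MonoidAlgebra.single (v * (k : G)) (1 : ℂ) = MonoidAlgebra.single (v * (k : G) * v⁻¹ * v) 1
  rw [inv_mul_cancel_right]

theorem chiSum_single_mul_avg (K : Subgroup G) (χ : G → ℂ) (a b : G) :
    chiSum χ (MonoidAlgebra.single a 1 * avg K * MonoidAlgebra.single b 1) =
      (Nat.card K : ℂ)⁻¹ * ∑ k : K, χ (a * k * b) := by
  simp only [avg, Algebra.smul_mul_assoc, Algebra.mul_smul_comm, Finset.sum_mul, Finset.mul_sum,
    MonoidAlgebra.single_mul_single, mul_one, map_smul, map_sum, chiSum_single, smul_eq_mul, one_mul]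

/-- Characters of the principal block average over `O_{p'}(C(u))` on each section. -/
theorem apply_eq_average [Fact p.Prime] (hM : IsPModular p M) {u : G} (hu : ∃ k, orderOf u = p ^ k)
    {K : Subgroup G} (hKC : ∀ k ∈ K, Commute u k) (hK : ¬ p ∣ Nat.card K)
    (hKn : ∀ g, Commute u g → ∀ k ∈ K, g * k * g⁻¹ ∈ K)
    {χ : IrrCharacter G} (hχ : χ ∈ principalBlock M G) {s : G} (hus : Commute u s)
    (hs : ¬ p ∣ orderOf s) :
    (χ : G → ℂ) (u * s) = (Nat.card K : ℂ)⁻¹ * ∑ k : K, (χ : G → ℂ) (u * k * s) := by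
  set e := idem (principalBlock M G) with he
  have heb : IsPBlock M (principalBlock M G) := isPBlock_principal
  set f := e * (1 - avg K) with hf
  have h1sq : (1 - avg K) * (1 - avg K) = 1 - avg K := by
    rw [mul_sub, sub_mul, sub_mul, one_mul, one_mul, mul_one, avg_sq]; abel
  have hff : f * f = f := by
    rw [hf, mul_assoc, ← mul_assoc (1 - avg K), ← (isCen_idem _).comm (1 - avg K), mul_assoc e,
      h1sq, ← mul_assoc, idem_sq]
  have hfi : IsInt M f := IsInt.mul hM (isInt_idem hM heb) (IsInt.sub hM (isInt_one hM) (isInt_avg hM K hK))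
  have hcomm : ∀ v : G, Commute u v →
      MonoidAlgebra.single v 1 * f = f * MonoidAlgebra.single v 1 := by
    intro v hv
    rw [hf, ← mul_assoc, ← (isCen_idem _).comm (MonoidAlgebra.single v 1), mul_assoc, mul_assoc,
      mul_sub, sub_mul, mul_one, one_mul, single_mul_avg K (hKn v hv)]
  have hbr : ∀ g, Commute u g → MemLocalIdeal M (f.coeff g) := by
    intro g hg
    have hcoef : f.coeff g = (Nat.card K : ℂ)⁻¹ * ∑ k : K,
        (blockCoeff (principalBlock M G) g - blockCoeff (principalBlock M G) (g * (k : G)⁻¹)) := by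
      rw [hf, mul_sub, mul_one, MonoidAlgebra.coeff_sub, Finsupp.sub_apply, he, coeff_idem, avg,
        Algebra.mul_smul_comm, MonoidAlgebra.coeff_smul_apply, smul_eq_mul, Finset.mul_sum,
        MonoidAlgebra.coeff_sum, Finset.sum_apply', Finset.sum_sub_distrib, Finset.sum_const,
        Finset.card_univ, nsmul_eq_mul, ← Nat.card_eq_fintype_card, mul_sub, ← mul_assoc,
        inv_mul_cancel₀ (Nat.cast_ne_zero.2 Nat.card_pos.ne'), one_mul]
      congr 2
      refine Finset.sum_congr rfl fun k _ => ?_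
      rw [MonoidAlgebra.coeff_mul_single_eq_coeff_mul (g * (k : G)⁻¹)
        (fun m' _ => eq_mul_inv_iff_mul_eq.symm), mul_one, coeff_idem]
    rw [hcoef]
    refine ideal_mul_left hM (inv_natCast_mem hM hK) (ideal_sum hM fun k _ => ?_)
    have := ideal_neg (idem_translate hM hu hKC hK hKn hg (K.inv_mem k.2))
    rwa [neg_sub] at this
  have hzero : chiSum (χ : G → ℂ) (MonoidAlgebra.single u 1 * f * MonoidAlgebra.single s 1) = 0 := by
    rw [chiSum_eq_sum_classCoeff (irr_classFun χ)]
    refine Finset.sum_eq_zero fun C _ => ?_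
    rw [classCoeff_single_mul_idem_eq_zero hM u s C.out hu hus hs f hff hfi
      (hcomm u (Commute.refl u)) (hcomm s hus) (Or.inr hbr), mul_zero]
  rw [hf, ← mul_assoc (MonoidAlgebra.single u 1), ← (isCen_idem _).comm (MonoidAlgebra.single u 1),
    mul_assoc e, mul_assoc e, chiSum_idem_mul, if_pos hχ, mul_sub, sub_mul, mul_one, map_sub,
    MonoidAlgebra.single_mul_single, one_mul, chiSum_single, one_mul, chiSum_single_mul_avg,
    sub_eq_zero] at hzero
  exact hzero

/-- Characters of the principal block are constant on `u · O_{p'}(C(u))`. -/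
theorem apply_eq_of_mem [Fact p.Prime] (hM : IsPModular p M) {u : G} (hu : ∃ k, orderOf u = p ^ k)
    {K : Subgroup G} (hKC : ∀ k ∈ K, Commute u k) (hK : ¬ p ∣ Nat.card K)
    (hKn : ∀ g, Commute u g → ∀ k ∈ K, g * k * g⁻¹ ∈ K)
    {χ : IrrCharacter G} (hχ : χ ∈ principalBlock M G) {v : G} (hv : v ∈ K) :
    (χ : G → ℂ) (u * v) = (χ : G → ℂ) u := by
  have hvr : ¬ p ∣ orderOf v := fun h => hK (h.trans (Subgroup.orderOf_dvd_natCard K hv))
  have h1 := apply_eq_average hM hu hKC hK hKn hχ (hKC v hv) hvr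
  have h2 := apply_eq_average hM hu hKC hK hKn hχ (Commute.one_right u) (by simpa using hM.1.ne_one)
  rw [mul_one] at h2
  rw [h1, h2]
  congr 1
  refine Fintype.sum_equiv (Equiv.mulRight (⟨v, hv⟩ : K)) _ _ fun k => ?_
  simp [mul_assoc]

/-- `O_{p'}(C(u))` satisfies the hypotheses on `K`. -/
theorem centralizerPPrimeCore_spec [hp : Fact p.Prime] (u : G) :
    (∀ k ∈ centralizerPPrimeCore p u, Commute u k) ∧
      ¬ p ∣ Nat.card (centralizerPPrimeCore p u) ∧
      ∀ g, Commute u g → ∀ k ∈ centralizerPPrimeCore p u, g * k * g⁻¹ ∈ centralizerPPrimeCore p u := by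
  refine ⟨?_, ?_, ?_⟩
  · rintro k ⟨⟨c, hc⟩, -, rfl⟩
    exact (Subgroup.mem_centralizer_iff.1 hc u rfl)
  · rw [centralizerPPrimeCore, Subgroup.card_map_of_injective (Subgroup.subtype_injective _)]
    exact HallCore.not_dvd_card_pPrimeCore p _
  · rintro g hg k ⟨c, hc, rfl⟩
    have hgC : g ∈ Subgroup.centralizer ({u} : Set G) :=
      Subgroup.mem_centralizer_singleton_iff.2 hg.eq.symm
    refine ⟨⟨g, hgC⟩ * c * ⟨g, hgC⟩⁻¹, (HallCore.pPrimeCore_normal p _).conj_mem c hc _, ?_⟩
    simp

end Cfsg.Agent.ZStarPrincipal
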