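import Mathlib
import Cfsg.Agent.Lib.ZStarPrincipal
import Cfsg.Agent.Lib.ClassAlgebraVal

/-!
# Class sum identities

A class function vanishing on all products of two conjugacy classes gives a linear relation
between the values of the irreducible characters on the two classes.  Also: averaging a
character over the conjugates of a fixed element, and the existence of a modular ideal.
-/

set_option autoImplicit false

open scoped ComplexConjugate

namespace Cfsg.Agent.ZStarCount

open Cfsg Cfsg.Agent.BlockTheoryCentre Cfsg.Agent.CharBasic Cfsg.Agent.CharBasicOrth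

attribute [local instance] Classical.propDecidable

universe u

variable {G : Type u} [Group G] [Fintype G]

theorem chiSum_sum_smul (c : IrrCharacter G → ℂ) (w : MonoidAlgebra ℂ G) :
    chiSum (∑ χ : IrrCharacter G, c χ • (χ : G → ℂ)) w =
      ∑ χ : IrrCharacter G, c χ * chiSum (χ : G → ℂ) w := by
  simp only [chiSum_apply, Finset.sum_apply, Pi.smul_apply, smul_eq_mul, Finset.mul_sum]
  rw [Finset.sum_comm]
  exact Finset.sum_congr rfl fun _ _ => Finset.sum_congr rfl fun _ _ => by ring

/-- If a class function vanishes on all products `x * y` with `x` conjugate to `a` and `y`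
conjugate to `b`, its coefficients satisfy a linear relation. -/
theorem sum_coeff_eq_zero {f : G → ℂ} (hf : IsClassFunction G f) (a b : G)
    (h : ∀ x y : G, IsConj a x → IsConj b y → f (x * y) = 0) :
    ∑ χ : IrrCharacter G, classInner f (χ : G → ℂ) * ((χ : G → ℂ) a * (χ : G → ℂ) b / (χ : G → ℂ) 1)
      = 0 := by
  have h0 : chiSum f (classSum a * classSum b) = 0 := by
    rw [eq_sum_single (classSum a), eq_sum_single (classSum b), Finset.sum_mul, map_sum]
    refine Finset.sum_eq_zero fun x _ => ?_
    rw [Finset.mul_sum, map_sum]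
    refine Finset.sum_eq_zero fun y _ => ?_
    rw [MonoidAlgebra.single_mul_single, chiSum_single]
    by_cases hx : IsConj a x
    · by_cases hy : IsConj b y
      · rw [h x y hx hy, mul_zero]
      · simp only [classSum, coeff_ofFun, if_neg hy, mul_zero, zero_mul]
    · simp only [classSum, coeff_ofFun, if_neg hx, zero_mul]
  have hne : ∀ g : G, ((Subgroup.centralizer ({g} : Set G)).index : ℂ) ≠ 0 := fun g =>
    Nat.cast_ne_zero.2 Subgroup.index_ne_zero_of_finite
  have key : ∀ χ : IrrCharacter G, chiSum (χ : G → ℂ) (classSum a * classSum b) =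
      ((Subgroup.centralizer ({a} : Set G)).index : ℂ) *
        ((Subgroup.centralizer ({b} : Set G)).index : ℂ) *
        ((χ : G → ℂ) a * (χ : G → ℂ) b / (χ : G → ℂ) 1) := by
    intro χ
    rw [chiSum_mul χ (isCen_classSum a), omega_apply, chiSum_classSum (irr_classFun χ),
      chiSum_classSum (irr_classFun χ), div_eq_mul_inv]
    ring
  rw [eq_sum_classInner hf, chiSum_sum_smul] at h0
  simp only [key] at h0
  have h1 : ((Subgroup.centralizer ({a} : Set G)).index : ℂ) *
      ((Subgroup.centralizer ({b} : Set G)).index : ℂ) *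
      ∑ χ : IrrCharacter G, classInner f (χ : G → ℂ) *
        ((χ : G → ℂ) a * (χ : G → ℂ) b / (χ : G → ℂ) 1) = 0 := by
    rw [Finset.mul_sum, ← h0]
    exact Finset.sum_congr rfl fun χ _ => by ring
  exact (mul_eq_zero.1 h1).resolve_left (mul_ne_zero (hne a) (hne b))

/-- If an irreducible character is constant on the products of the conjugates of `u` with `t`,
then its values at `u`, `t` and `u * t` are related. -/
theorem mul_eq_of_forall_conj (χ : IrrCharacter G) (u t : G) (w : ℂ)
    (h : ∀ v : G, IsConj u v → (χ : G → ℂ) (v * t) = w) :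
    (χ : G → ℂ) u * (χ : G → ℂ) t = (χ : G → ℂ) 1 * w := by
  set i : ℂ := ((Subgroup.centralizer ({u} : Set G)).index : ℂ) with hi
  have hi0 : i ≠ 0 := Nat.cast_ne_zero.2 Subgroup.index_ne_zero_of_finite
  have h1 : chiSum (χ : G → ℂ) (classSum u * MonoidAlgebra.single t 1) = i * w := by
    rw [eq_sum_single (classSum u), Finset.sum_mul, map_sum, hi, index_centralizer_eq,
      Nat.card_eq_fintype_card, Fintype.card_subtype, ← nsmul_eq_mul, ← Finset.sum_const]
    rw [Finset.sum_filter]
    refine Finset.sum_congr rfl fun x _ => ?_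
    rw [MonoidAlgebra.single_mul_single, chiSum_single, mul_one]
    by_cases hx : IsConj u x
    · simp only [classSum, coeff_ofFun, if_pos hx, one_mul]
      exact h x hx
    · simp only [classSum, coeff_ofFun, if_neg hx, zero_mul]
  rw [chiSum_mul χ (isCen_classSum u), omega_apply, chiSum_classSum (irr_classFun χ), chiSum_single,
    one_mul, ← hi] at h1
  have h1' := h1
  have hχ := irr_one_ne_zero χ
  field_simp at h1'
  exact h1'

omit [Fintype G] in
theorem exists_isPModular (p : ℕ) (hp : p.Prime) : ∃ M : Ideal AlgInt, IsPModular p M := by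
  have hne : Ideal.span ({(p : AlgInt)} : Set AlgInt) ≠ ⊤ := by
    rw [Ne, Ideal.eq_top_iff_one, Ideal.mem_span_singleton]
    rintro ⟨z, hz⟩
    refine hp.not_dvd_one (ClassAlgebraVal.dvd_of_integral hp.ne_zero z.2 ?_)
    have := congrArg (fun w : AlgInt => (w : ℂ)) hz
    simpa using this
  obtain ⟨M, hM, hle⟩ := Ideal.exists_le_maximal _ hne
  exact ⟨M, hp, hM, hle (Ideal.subset_span rfl)⟩

end Cfsg.Agent.ZStarCount
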