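import Cfsg.Agent.Lib.BlockHomocyclicMain9
import Cfsg.Agent.Lib.ZStarCount
import Cfsg.Agent.S0945

/-!
Brauer's theorem: a homocyclic Sylow `2`-subgroup of rank 2 and exponent at least 4 is normal
modulo `O(G)`.
-/

set_option autoImplicit false

namespace Cfsg.Agent.BlockHomocyclicFinal9

open Cfsg Cfsg.Agent.CharBasic Cfsg.Agent.CharBasicOrth Cfsg.Agent.CharBasicDecomp
open Cfsg.Agent.BlockPCount9 Cfsg.Agent.BlockHomocyclicLift9 Cfsg.Agent.BlockHomocyclicMain9
open Cfsg.Agent.BlockTheoryCentre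
open scoped ComplexConjugate

attribute [local instance] Classical.propDecidable

set_option linter.unusedSectionVars false

variable {G : Type*} [Group G] [Fintype G] {P : Sylow 2 G}
variable {σ : (P : Subgroup G) →* (P : Subgroup G)}

/-- The data attached to the automizer of order 3. -/
theorem exists_data (hab : ∀ u v : (P : Subgroup G), u * v = v * u)
    (h3 : (Subgroup.centralizer (P : Set G)).relIndex (Subgroup.normalizer (P : Set G)) = 3)
    (hii : ∀ z ∈ (P : Subgroup G), z ≠ 1 →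
      Subgroup.centralizer ({z} : Set G) ⊓ Subgroup.normalizer (P : Set G) =
        Subgroup.centralizer (P : Set G)) :
    ∃ σ : (P : Subgroup G) →* (P : Subgroup G), Data P σ := by
  haveI : IsMulCommutative (P : Subgroup G) := ⟨⟨hab⟩⟩
  set N := Subgroup.normalizer (P : Set G) with hN
  set C := Subgroup.centralizer (P : Set G) with hC
  set C' := C.subgroupOf N with hC'
  haveI : C'.Normal := by rw [hC', hC, hN]; infer_instance
  have hidx : C'.index = 3 := h3
  obtain ⟨g, hg⟩ : ∃ g : N, g ∉ C' := by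
    by_contra! h
    rw [(Subgroup.eq_top_iff' C').mpr h, Subgroup.index_top] at hidx
    omega
  haveI : Fact (Nat.Prime 3) := ⟨Nat.prime_three⟩
  have hq : Nat.card (N ⧸ C') = 3 := hidx
  have hcosets : ∀ n : N, ∃ i : Fin 3, ∃ c : N, c ∈ C' ∧ n = g ^ (i : ℕ) * c := by
    intro n
    have hne : (QuotientGroup.mk g : N ⧸ C') ≠ 1 := fun h => hg ((QuotientGroup.eq_one_iff g).mp h)
    have ho : orderOf (QuotientGroup.mk g : N ⧸ C') = 3 :=
      orderOf_eq_prime (by rw [← hq]; exact pow_card_eq_one') hne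
    have hmem : (QuotientGroup.mk n : N ⧸ C') ∈ Subgroup.zpowers (QuotientGroup.mk g : N ⧸ C') := by
      rw [Subgroup.eq_top_of_card_eq (Subgroup.zpowers (QuotientGroup.mk g : N ⧸ C'))
        (by rw [Nat.card_zpowers, ho, hq])]
      exact Subgroup.mem_top _
    rw [← mem_powers_iff_mem_zpowers, Submonoid.mem_powers_iff] at hmem
    obtain ⟨i, hi⟩ := hmem
    refine ⟨⟨i % 3, Nat.mod_lt _ (by norm_num)⟩, (g ^ (i % 3))⁻¹ * n, ?_, (mul_inv_cancel_left _ _).symm⟩
    rw [← QuotientGroup.eq_one_iff, QuotientGroup.mk_mul, QuotientGroup.mk_inv,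
      QuotientGroup.mk_pow, ← hi, inv_mul_eq_one, ← ho, pow_mod_orderOf]
  set σ : (P : Subgroup G) →* (P : Subgroup G) :=
    { toFun := fun u => ⟨(g : G) * u * (g : G)⁻¹,
        (Subgroup.mem_normalizer_iff.mp g.2 (u : G)).mp u.2⟩
      map_one' := Subtype.ext (by simp)
      map_mul' := fun a b => Subtype.ext (by simp [mul_assoc]) } with hσ
  have hσv : ∀ u : (P : Subgroup G), ((σ u : (P : Subgroup G)) : G) = (g : G) * u * (g : G)⁻¹ :=
    fun u => rfl
  have hcube : ∀ u, σ (σ (σ u)) = u := by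
    intro u
    have h : g ^ 3 ∈ C' := by rw [← hidx]; exact C'.pow_index_mem g
    have h' := Subgroup.mem_centralizer_iff.mp (Subgroup.mem_subgroupOf.mp h) (u : G) u.2
    refine Subtype.ext ?_
    rw [hσv, hσv, hσv]
    calc (g : G) * ((g : G) * ((g : G) * u * (g : G)⁻¹) * (g : G)⁻¹) * (g : G)⁻¹
        = (g : G) ^ 3 * u * ((g : G) ^ 3)⁻¹ := by
          simp only [pow_succ, pow_zero, one_mul, mul_inv_rev, mul_assoc]
      _ = u := by
          rw [show ((g ^ 3 : N) : G) = (g : G) ^ 3 from rfl] at h'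
          rw [← h', mul_inv_cancel_right]
  refine ⟨σ, ⟨hab, hcube, fun u hu => ?_, fun u => isConj_iff.mpr ⟨g, rfl⟩, fun u v huv => ?_,
    fun u hu => ?_⟩⟩
  · by_contra hne
    have hu1 : (u : G) ≠ 1 := fun h => hne (Subtype.ext h)
    have h1 : (g : G) * u * (g : G)⁻¹ = u := congrArg Subtype.val hu
    have : (g : G) ∈ Subgroup.centralizer ({(u : G)} : Set G) ⊓ N :=
      ⟨Subgroup.mem_centralizer_singleton_iff.mpr (mul_inv_eq_iff_eq_mul.mp h1), g.2⟩
    rw [hii _ u.2 hu1] at this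
    exact hg (Subgroup.mem_subgroupOf.mpr this)
  · obtain ⟨c, hc⟩ := isConj_iff.mp huv
    obtain ⟨n, hn, hne⟩ := P.conj_eq_normalizer_conj_of_mem (u : G) c⁻¹ u.2
      (by rw [inv_inv, hc]; exact v.2)
    rw [inv_inv, hc] at hne
    obtain ⟨i, d, hd, hnd⟩ := hcosets ⟨n⁻¹, inv_mem hn⟩
    have hnd' : n⁻¹ = (g : G) ^ (i : ℕ) * (d : G) := congrArg Subtype.val hnd
    have hdu := Subgroup.mem_centralizer_iff.mp (Subgroup.mem_subgroupOf.mp hd) (u : G) u.2
    have hv : (v : G) = (g : G) ^ (i : ℕ) * u * ((g : G) ^ (i : ℕ))⁻¹ := by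
      rw [hne, hnd', show n = (n⁻¹)⁻¹ from (inv_inv n).symm, hnd']
      calc (g : G) ^ (i : ℕ) * (d : G) * u * ((g : G) ^ (i : ℕ) * (d : G))⁻¹
          = (g : G) ^ (i : ℕ) * ((d : G) * u * (d : G)⁻¹) * ((g : G) ^ (i : ℕ))⁻¹ := by group
        _ = _ := by rw [← hdu, mul_inv_cancel_right]
    fin_cases i
    · exact Or.inl (Subtype.ext (by simpa using hv))
    · exact Or.inr (Or.inl (Subtype.ext (by rw [hσv]; simpa using hv)))
    · refine Or.inr (Or.inr (Subtype.ext ?_))
      rw [hσv, hσv]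
      simp only at hv
      rw [hv]
      simp only [pow_succ, pow_zero, one_mul, mul_inv_rev, mul_assoc]
  · set U := Subgroup.centralizer ({(u : G)} : Set G) with hU
    have hPU : (P : Subgroup G) ≤ U := fun x hx => Subgroup.mem_centralizer_singleton_iff.mpr
      (congrArg Subtype.val (hab ⟨x, hx⟩ u))
    have hu1 : (u : G) ≠ 1 := fun h => hu (Subtype.ext h)
    set Q : Sylow 2 U := P.subtype hPU with hQ
    have hburn : Subgroup.normalizer (Q : Set U) ≤ Subgroup.centralizer (Q : Set U) := by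
      intro x hx
      have hxN : (x : G) ∈ N := by
        refine Subgroup.mem_normalizer_iff.mpr fun y => ?_
        constructor
        · intro hy
          exact (Subgroup.mem_normalizer_iff.mp hx ⟨y, hPU hy⟩).mp hy
        · intro hy
          have h1 := (Subgroup.mem_normalizer_iff.mp (inv_mem hx)
            ⟨(x : G) * y * (x : G)⁻¹, hPU hy⟩).mp hy
          change ((x⁻¹ : U) : G) * ((x : G) * y * (x : G)⁻¹) * ((x⁻¹⁻¹ : U) : G) ∈ (P : Subgroup G) at h1
          simpa [mul_assoc] using h1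
      have hxC : (x : G) ∈ C := by
        rw [← hii _ u.2 hu1]; exact ⟨x.2, hxN⟩
      exact Subgroup.mem_centralizer_iff.mpr fun y hy =>
        Subtype.ext (Subgroup.mem_centralizer_iff.mp hxC (y : G) hy)
    obtain ⟨f, hcomp, hodd⟩ : ∃ f : U →* (Q : Subgroup U),
        f.ker.IsComplement' (Q : Subgroup U) ∧ ¬ 2 ∣ Nat.card f.ker :=
      ⟨MonoidHom.transferSylow Q hburn, MonoidHom.ker_transferSylow_isComplement' Q hburn,
        MonoidHom.not_dvd_card_ker_transferSylow Q hburn⟩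
    refine ⟨f.ker.map U.subtype, ?_, ?_, ?_, ?_, ?_⟩
    · rintro _ ⟨k, -, rfl⟩
      exact (Subgroup.mem_centralizer_singleton_iff.mp k.2).symm
    · rwa [Subgroup.card_map_of_injective U.subtype_injective]
    · rintro x hx _ ⟨k, hk, rfl⟩
      have hxU : x ∈ U := Subgroup.mem_centralizer_singleton_iff.mpr hx.eq.symm
      exact ⟨⟨x, hxU⟩ * k * ⟨x, hxU⟩⁻¹, f.normal_ker.conj_mem k hk _, rfl⟩
    · intro x hx hxo
      have hxU : x ∈ U := Subgroup.mem_centralizer_singleton_iff.mpr hx.eq.symm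
      refine ⟨⟨x, hxU⟩, ?_, rfl⟩
      show f ⟨x, hxU⟩ = 1
      obtain ⟨k, hk⟩ := IsPGroup.iff_orderOf.mp Q.isPGroup' (f ⟨x, hxU⟩)
      rcases k with _ | k
      · rwa [pow_zero, orderOf_eq_one_iff] at hk
      · exfalso
        have := orderOf_map_dvd f ⟨x, hxU⟩
        rw [hk, Subgroup.orderOf_mk] at this
        exact hxo ((dvd_pow_self 2 k.succ_ne_zero).trans this)
    · rw [Subgroup.card_map_of_injective U.subtype_injective, mul_comm, ← hcomp.card_mul]
      congr 1
      exact Nat.card_congr (Subgroup.subgroupOfEquivOfLe hPU).toEquiv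

theorem chiSum_combination (a b x : IrrCharacter G) (e1 e2 s : ℂ) (w : MonoidAlgebra ℂ G) :
    chiSum (fun g => 1 + e1 * (a : G → ℂ) g + e2 * (b : G → ℂ) g + s * (x : G → ℂ) g) w =
      chiSum ((BlockPrincipal81.oneChar G : IrrCharacter G) : G → ℂ) w +
        e1 * chiSum (a : G → ℂ) w + e2 * chiSum (b : G → ℂ) w + s * chiSum (x : G → ℂ) w := by
  simp only [chiSum_apply, Finset.mul_sum, ← Finset.sum_add_distrib, BlockPrincipal81.oneChar]
  refine Finset.sum_congr rfl fun g _ => ?_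
  ring

theorem chiSum_sq (χ : IrrCharacter G) (z : G) :
    chiSum (χ : G → ℂ) (classSum z * classSum z) =
      ((Subgroup.centralizer ({z} : Set G)).index : ℂ) ^ 2 * ((χ : G → ℂ) z) ^ 2 /
        (χ : G → ℂ) 1 := by
  rw [chiSum_mul χ (isCen_classSum z), chiSum_classSum (irr_classFun χ), omega_apply,
    chiSum_classSum (irr_classFun χ)]
  ring

theorem pp_inv (g : G) : pp 2 g⁻¹ = (pp 2 g)⁻¹ := by
  obtain ⟨y, hxy, hc, ⟨k, hk⟩, hy⟩ := pp_spec (p := 2) g
  refine pp_eq ⟨y⁻¹, ?_, hc.inv_inv, ⟨k, by rw [orderOf_inv, hk]⟩, by rwa [orderOf_inv]⟩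
  nth_rw 2 [← hxy]
  rw [mul_inv_rev, hc.inv_inv.eq]

theorem eq_of_isPGroup (P : Sylow 2 G) {H : Subgroup G} (hle : (P : Subgroup G) ≤ H)
    (h : ∀ y ∈ H, ¬ 2 ∣ orderOf y → y = 1) : H = (P : Subgroup G) := by
  refine P.is_maximal' ?_ hle
  refine IsPGroup.iff_orderOf.mpr fun g => ?_
  obtain ⟨y, hxy, -, ⟨k, hk⟩, hy⟩ := pp_spec (p := 2) (g : G)
  obtain ⟨n, -, hn⟩ : ∃ n : ℕ, True ∧ (g : G) ^ n = pp 2 (g : G) := by
    obtain ⟨n, hn⟩ := BrauerBlocksPPart.exists_pow_of_isPPart Nat.prime_two (pp_spec (p := 2) (g : G))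
    exact ⟨n, trivial, by first | exact hn | exact hn.symm⟩
  have hyH : y ∈ H := by
    have : y = (pp 2 (g : G))⁻¹ * g := by
      nth_rw 2 [← hxy]
      rw [inv_mul_cancel_left]
    rw [this, ← hn]
    exact H.mul_mem (H.inv_mem (H.pow_mem g.2 n)) g.2
  rw [h y hyH hy, mul_one] at hxy
  exact ⟨k, by rw [← Subgroup.orderOf_coe, ← hxy, hk]⟩

theorem brauer (D : Data P σ) (h16 : 16 ≤ Nat.card (P : Subgroup G))
    (hexp : ∃ u : (P : Subgroup G), u * u ≠ 1)
    (hO : ∀ N : Subgroup G, N.Normal → Odd (Nat.card N) → N = ⊥) :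
    (P : Subgroup G).Normal ∧ Subgroup.centralizer (P : Set G) = (P : Subgroup G) := by
  have : Fact (Nat.Prime 2) := ⟨Nat.prime_two⟩
  obtain ⟨M, hM⟩ := ZStarCount.exists_isPModular 2 Nat.prime_two
  set n := Nat.card (P : Subgroup G) with hn
  have h16n : 16 ∣ n := by
    obtain ⟨k, hk⟩ := IsPGroup.iff_card.mp P.isPGroup'
    rw [hn, hk]
    have hk4 : 4 ≤ k := by
      by_contra h
      have : 2 ^ k ≤ 2 ^ 3 := Nat.pow_le_pow_right (by norm_num) (by omega)
      rw [hn, hk] at h16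
      norm_num at this
      omega
    exact Dvd.dvd.trans (by norm_num) (pow_dvd_pow 2 hk4)
  obtain ⟨α, β, e1, e2, he1, he2, hcoh⟩ := exists_coherent D h16
  choose X s hs hdec hXl hXk hαl hβl using hcoh
  obtain ⟨u1, hu1⟩ := hexp
  have hu1' : u1 ≠ 1 := fun h => hu1 (by rw [h, one_mul])
  obtain ⟨l₁, hl₁⟩ : ∃ l : IrrCharacter (P : Subgroup G),
      (l : ↥(P : Subgroup G) → ℂ) (u1 * u1) ≠ 1 := by
    by_contra! h
    refine hu1 (isConj_one_left.mp ((isConj_iff_forall_irr (u1 * u1) 1).mpr fun l => ?_))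
    rw [h l, BlockHomocyclicMain9.apply_one D]
  have hd1 : ∀ {u : (P : Subgroup G)}, u ≠ 1 → dec P (α : G → ℂ) u = (e1 : ℂ) := by
    intro u hu
    refine dec_unique D (d := dec P (α : G → ℂ)) (d' := fun _ => (e1 : ℂ))
      (D.dec_sigma (irr_classFun α)) (fun _ => rfl) (fun l hl => ?_) hu
    rw [← D.classInner_lift (fO_stable D l) (fO_one D l) (irr_classFun α), hαl l hl]
    rw [show (fun _ : (P : Subgroup G) => (e1 : ℂ)) =
      (e1 : ℂ) • ((one' (P := P)) : ↥(P : Subgroup G) → ℂ) by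
        funext v; simp [one', BlockPrincipal81.oneChar],
      classInner_smul_right, classInner_fO_one D hl, map_intCast]
    ring
  have hd2 : ∀ {u : (P : Subgroup G)}, u ≠ 1 → dec P (β : G → ℂ) u = (e2 : ℂ) := by
    intro u hu
    refine dec_unique D (d := dec P (β : G → ℂ)) (d' := fun _ => (e2 : ℂ))
      (D.dec_sigma (irr_classFun β)) (fun _ => rfl) (fun l hl => ?_) hu
    rw [← D.classInner_lift (fO_stable D l) (fO_one D l) (irr_classFun β), hβl l hl]
    rw [show (fun _ : (P : Subgroup G) => (e2 : ℂ)) =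
      (e2 : ℂ) • ((one' (P := P)) : ↥(P : Subgroup G) → ℂ) by
        funext v; simp [one', BlockPrincipal81.oneChar],
      classInner_smul_right, classInner_fO_one D hl, map_intCast]
    ring
  have hdX : ∀ l (hl : l ≠ one') {u : (P : Subgroup G)}, u ≠ 1 →
      dec P (X l hl : G → ℂ) u = (s l hl : ℂ) * (fO D l u - 3) := by
    intro l hl u hu
    refine dec_unique D (d := dec P (X l hl : G → ℂ))
      (d' := fun v => (s l hl : ℂ) * (fO D l v - 3)) (D.dec_sigma (irr_classFun _))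
      (fun v => by rw [fO_stable]) (fun k hk => ?_) hu
    rw [← D.classInner_lift (fO_stable D k) (fO_one D k) (irr_classFun _)]
    rw [show (fun v => (s l hl : ℂ) * (fO D l v - 3)) =
        (s l hl : ℂ) • (fO D l - (3 : ℂ) • ((one' (P := P)) : ↥(P : Subgroup G) → ℂ)) by
      funext v; simp [one', BlockPrincipal81.oneChar],
      classInner_smul_right, classInner_sub_right, classInner_smul_right, classInner_fO_one D hk,
      classInner_fO_fO D hk hl, map_intCast, map_ofNat]
    obtain ⟨hy, hn'⟩ := hXk l hl k hk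
    by_cases h : k = l ∨ k = rot D l ∨ k = rot D (rot D l)
    · rw [hy h, if_pos]
      · ring
      · rcases h with rfl | rfl | rfl
        · exact Or.inl rfl
        · exact Or.inr (Or.inr (rot_cube D l).symm)
        · exact Or.inr (Or.inl (rot_cube D l).symm)
    · rw [hn' h, if_neg]
      · ring
      · rintro (e | e | e)
        · exact h (Or.inl e.symm)
        · exact h (Or.inr (Or.inr (by rw [e, rot_cube])))
        · exact h (Or.inr (Or.inl (by rw [e, rot_cube])))
  have hαB : α ∈ principalBlock M G := D.mem_principal hM (u := u1) (by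
    rw [hd1 hu1']; rcases he1 with rfl | rfl <;> norm_num)
  have hβB : β ∈ principalBlock M G := D.mem_principal hM (u := u1) (by
    rw [hd2 hu1']; rcases he2 with rfl | rfl <;> norm_num)
  have hXB : ∀ l hl, X l hl ∈ principalBlock M G := by
    intro l hl
    obtain ⟨u, hu, hne⟩ : ∃ u : (P : Subgroup G), u ≠ 1 ∧ fO D l u ≠ 3 := by
      by_contra! h
      have h1 := sum_fO D l hl
      rw [← Finset.add_sum_erase _ _ (Finset.mem_univ (1 : (P : Subgroup G))),
        Finset.sum_congr rfl fun u hu => h u (Finset.ne_of_mem_erase hu), fO_one D,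
        Finset.sum_const, Finset.card_erase_of_mem (Finset.mem_univ _), Finset.card_univ,
        nsmul_eq_mul, zero_add, ← Nat.card_eq_fintype_card, Nat.cast_sub (by omega : 1 ≤ n)] at h1
      have : (0 : ℂ) = 3 := by push_cast at h1; linear_combination h1
      norm_num at this
    refine D.mem_principal hM (u := u) ?_
    rw [hdX l hl hu]
    exact mul_ne_zero (by rcases hs l hl with e | e <;> rw [e] <;> norm_num) (sub_ne_zero.mpr hne)
  have hαv : ∀ {u : (P : Subgroup G)}, u ≠ 1 → (α : G → ℂ) u = (e1 : ℂ) := fun hu => by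
    rw [← D.dec_eq_apply hM hαB hu, hd1 hu]
  have hβv : ∀ {u : (P : Subgroup G)}, u ≠ 1 → (β : G → ℂ) u = (e2 : ℂ) := fun hu => by
    rw [← D.dec_eq_apply hM hβB hu, hd2 hu]
  have hXv : ∀ l (hl : l ≠ one') {u : (P : Subgroup G)}, u ≠ 1 →
      (X l hl : G → ℂ) u = (s l hl : ℂ) * (fO D l u - 3) := fun l hl u hu => by
    rw [← D.dec_eq_apply hM (hXB l hl) hu, hdX l hl hu]
  have hrest : ∀ χ : IrrCharacter G, ∃ k : ℕ,
      (n : ℂ) * k = (charDegree (χ : G → ℂ) : ℂ) +
        ∑ u ∈ Finset.univ.erase (1 : (P : Subgroup G)), (χ : G → ℂ) u := by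
    intro χ
    obtain ⟨k, hk⟩ := classInner_isCharacter
      (isCharacter_comap (P : Subgroup G).subtype (isCharacter_of_isIrrCharacter χ.2))
      (isCharacter_of_isIrrCharacter (one' (P := P)).2)
    refine ⟨k, ?_⟩
    rw [← hk, hn, card_mul_classInner, ← Finset.add_sum_erase _ _ (Finset.mem_univ (1 : (P : Subgroup G))),
      ← ClassAlgebraVal.apply_one_eq_charDegree χ]
    simp [one', BlockPrincipal81.oneChar]
  have hcongr : ∀ (χ : IrrCharacter G) (e : ℤ),
      (∀ u : (P : Subgroup G), u ≠ 1 → (χ : G → ℂ) u = (e : ℂ)) →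
        (16 : ℤ) ∣ (charDegree (χ : G → ℂ) : ℤ) - e := by
    intro χ e h
    obtain ⟨k, hk⟩ := hrest χ
    rw [Finset.sum_congr rfl fun u hu => h u (Finset.ne_of_mem_erase hu), Finset.sum_const,
      Finset.card_erase_of_mem (Finset.mem_univ _), Finset.card_univ, nsmul_eq_mul,
      ← Nat.card_eq_fintype_card, ← hn, Nat.cast_sub (by omega : 1 ≤ n)] at hk
    have : ((charDegree (χ : G → ℂ) : ℤ) : ℂ) - (e : ℂ) = (((n : ℤ) * ((k : ℤ) - e) : ℤ) : ℂ) := by
      push_cast at hk ⊢; linear_combination -hk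
    rw [← Int.cast_sub, Int.cast_inj] at this
    rw [this]
    exact Dvd.dvd.mul_right (by exact_mod_cast h16n) _
  have hcongrX : ∀ l (hl : l ≠ one'),
      (16 : ℤ) ∣ (charDegree (X l hl : G → ℂ) : ℤ) + 3 * s l hl := by
    intro l hl
    obtain ⟨k, hk⟩ := hrest (X l hl)
    rw [Finset.sum_congr rfl fun u hu => hXv l hl (Finset.ne_of_mem_erase hu), ← Finset.mul_sum,
      Finset.sum_sub_distrib, Finset.sum_const, Finset.card_erase_of_mem (Finset.mem_univ _),
      Finset.card_univ, nsmul_eq_mul, ← Nat.card_eq_fintype_card, ← hn,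
      Nat.cast_sub (by omega : 1 ≤ n), Finset.sum_erase _ (fO_one D l), sum_fO D l hl, ← hn] at hk
    have : ((charDegree (X l hl : G → ℂ) : ℤ) : ℂ) + ((3 * s l hl : ℤ) : ℂ) =
        (((n : ℤ) * (k : ℤ) : ℤ) : ℂ) := by
      push_cast at hk ⊢; linear_combination -hk
    rw [← Int.cast_add, Int.cast_inj] at this
    rw [this]
    exact Dvd.dvd.mul_right (by exact_mod_cast h16n) _
  have hreg : ∀ l (hl : l ≠ one') {y : G}, ¬ 2 ∣ orderOf y →
      1 + (e1 : ℂ) * (α : G → ℂ) y + (e2 : ℂ) * (β : G → ℂ) y +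
        (s l hl : ℂ) * (X l hl : G → ℂ) y = 0 := by
    intro l hl y hy
    rw [← fO_one D l, ← D.lift_regular (fO_stable D l) (pp_regular hy)]
    exact (congrFun (hdec l hl) y).symm
  have hdeg : ∀ l hl, 1 + e1 * (charDegree (α : G → ℂ) : ℤ) + e2 * (charDegree (β : G → ℂ) : ℤ) +
      s l hl * (charDegree (X l hl : G → ℂ) : ℤ) = 0 := by
    intro l hl
    have := hreg l hl (y := 1) (by simp)
    rw [ClassAlgebraVal.apply_one_eq_charDegree α, ClassAlgebraVal.apply_one_eq_charDegree β,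
      ClassAlgebraVal.apply_one_eq_charDegree (X l hl)] at this
    exact_mod_cast this
  -- a character trivial on the involutions
  obtain ⟨lam, hlam⟩ := CharBasicLinear.exists_hom_of_comm D.comm l₁.2
  let lam2 : (P : Subgroup G) →* ℂˣ :=
    MonoidHom.mk' (fun v => lam v * lam v) fun a b => by rw [map_mul, mul_mul_mul_comm]
  let l₀ : IrrCharacter (P : Subgroup G) := ⟨_, isIrrCharacter_linear lam2⟩
  have hl₀v : ∀ v, (l₀ : ↥(P : Subgroup G) → ℂ) v = (l₁ : ↥(P : Subgroup G) → ℂ) (v * v) := fun v => by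
    simp [l₀, lam2, hlam]
  have hl₀ : l₀ ≠ one' := by
    intro h
    refine hl₁ ?_
    rw [← hl₀v, h]
    rfl
  have hf0 : ∀ v : (P : Subgroup G), v * v = 1 → fO D l₀ v = 0 := by
    intro v hv
    have h2 : ∀ w : (P : Subgroup G), w * w = 1 → (l₀ : ↥(P : Subgroup G) → ℂ) w = 1 := fun w hw => by
      rw [hl₀v, hw, BlockHomocyclicMain9.apply_one D]
    have h3 : σ v * σ v = 1 := by rw [← map_mul, hv, map_one]
    have h4 : σ (σ v) * σ (σ v) = 1 := by rw [← map_mul, h3, map_one]
    simp only [fO, rot, Function.comp_apply, h2 v hv, h2 _ h3, h2 _ h4]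
    norm_num
  obtain ⟨z, hzo⟩ := exists_prime_orderOf_dvd_card' (G := (P : Subgroup G)) 2 (by
    exact Dvd.dvd.trans (by norm_num) h16n)
  have hz2 : z * z = 1 := (pow_two z).symm.trans (orderOf_dvd_iff_pow_eq_one.mp (by rw [hzo]))
  have hz1 : z ≠ 1 := fun h => by rw [h, orderOf_one] at hzo; omega
  set f₀ := lift P (fO D l₀) with hf₀
  have hzero : chiSum f₀ (classSum (z : G) * classSum (z : G)) = 0 := by
    rw [chiSum_apply]
    refine Finset.sum_eq_zero fun g _ => ?_
    by_cases hg : (classSum (z : G) * classSum (z : G)).coeff g = 0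
    · rw [hg, zero_mul]
    refine mul_eq_zero_of_right _ ?_
    rw [coeff_mul_eq] at hg
    obtain ⟨y, -, hy⟩ := Finset.exists_ne_zero_of_sum_ne_zero hg
    simp only [classSum, coeff_ofFun] at hy
    obtain ⟨hys, hyt⟩ : IsConj (z : G) y ∧ IsConj (z : G) (y⁻¹ * g) := by
      constructor
      · by_contra hn; exact hy (by rw [if_neg hn, zero_mul])
      · by_contra hn; exact hy (by rw [if_neg hn, mul_zero])
    have hinvz : ((z : (P : Subgroup G)) : G) * (z : G) = 1 := congrArg Subtype.val hz2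
    have hinvol : ∀ {w : G}, IsConj (z : G) w → w * w = 1 := by
      intro w hw
      obtain ⟨c, hc⟩ := isConj_iff.mp hw
      rw [← hc]
      calc c * (z : G) * c⁻¹ * (c * (z : G) * c⁻¹) = c * ((z : G) * (z : G)) * c⁻¹ := by group
        _ = 1 := by rw [hinvz]; group
    have hyy : y * y = 1 := hinvol hys
    have htt : y⁻¹ * g * (y⁻¹ * g) = 1 := hinvol hyt
    have hginv : y * g * y⁻¹ = g⁻¹ := by
      rw [← mul_eq_one_iff_eq_inv]
      calc y * g * y⁻¹ * g = y * y * (y⁻¹ * g * (y⁻¹ * g)) := by group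
        _ = 1 := by rw [hyy, htt, mul_one]
    obtain ⟨v, hv⟩ := exists_rep P g
    rw [hf₀, D.lift_eq (fO_stable D l₀) hv]
    have hconj : IsConj (v : G) ((v⁻¹ : (P : Subgroup G)) : G) := by
      have h1 : IsConj (pp 2 g) (pp 2 g)⁻¹ := by
        rw [← pp_inv, ← hginv, pp_conj]
        exact isConj_iff.mpr ⟨y, rfl⟩
      obtain ⟨c, hc⟩ := isConj_iff.mp hv
      refine hv.symm.trans (h1.trans (isConj_iff.mpr ⟨c, ?_⟩))
      rw [← conj_inv, hc]; rfl
    rcases D.fus v v⁻¹ hconj with e | e | e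
    · refine hf0 v ?_
      nth_rw 2 [← e]
      exact mul_inv_cancel v
    · have : v = 1 := D.fpf v (by
        have h2 := congrArg σ e
        rw [map_inv, ← e, inv_inv] at h2
        exact (congrArg σ h2).trans ((congrArg (fun x => σ (σ x)) e).trans (D.cube v)))
      rw [this, fO_one]
    · have : v = 1 := D.fpf v (by
        have h2 := congrArg σ e
        rw [map_inv, D.cube] at h2
        have h3 := congrArg σ h2
        rw [map_inv, ← e, inv_inv] at h3
        exact h3.symm)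
      rw [this, fO_one]
  rw [hf₀, hdec l₀ hl₀, chiSum_combination, chiSum_sq, chiSum_sq, chiSum_sq, chiSum_sq,
    hαv hz1, hβv hz1, hXv l₀ hl₀ hz1, hf0 z hz2] at hzero
  have hz0 : (charDegree (α : G → ℂ) : ℤ) * charDegree (β : G → ℂ) * charDegree (X l₀ hl₀ : G → ℂ) +
      e1 * ((charDegree (β : G → ℂ) : ℤ) * charDegree (X l₀ hl₀ : G → ℂ)) +
      e2 * ((charDegree (α : G → ℂ) : ℤ) * charDegree (X l₀ hl₀ : G → ℂ)) +
      9 * s l₀ hl₀ * ((charDegree (α : G → ℂ) : ℤ) * charDegree (β : G → ℂ)) = 0 := by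
    have h0 : ((Subgroup.centralizer ({(z : G)} : Set G)).index : ℂ) ≠ 0 :=
      Nat.cast_ne_zero.mpr Subgroup.index_ne_zero_of_finite
    have ha := Nat.cast_ne_zero (R := ℂ).mpr (ClassAlgebraVal.charDegree_pos α).ne'
    have hb := Nat.cast_ne_zero (R := ℂ).mpr (ClassAlgebraVal.charDegree_pos β).ne'
    have hx := Nat.cast_ne_zero (R := ℂ).mpr (ClassAlgebraVal.charDegree_pos (X l₀ hl₀)).ne'
    have q1 : (e1 : ℂ) ^ 2 = 1 := by rcases he1 with e | e <;> rw [e] <;> norm_num
    have q2 : (e2 : ℂ) ^ 2 = 1 := by rcases he2 with e | e <;> rw [e] <;> norm_num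
    have q3 : ((s l₀ hl₀ : ℂ) * (0 - 3)) ^ 2 = 9 := by
      rcases hs l₀ hl₀ with e | e <;> rw [e] <;> norm_num
    rw [q1, q2, q3, ClassAlgebraVal.apply_one_eq_charDegree α,
      ClassAlgebraVal.apply_one_eq_charDegree β, ClassAlgebraVal.apply_one_eq_charDegree (X l₀ hl₀)]
      at hzero
    simp only [BlockPrincipal81.oneChar, one_pow] at hzero
    have h1 : ((Subgroup.centralizer ({(z : G)} : Set G)).index : ℂ) ^ 2 *
        (((charDegree (α : G → ℂ) : ℂ) * charDegree (β : G → ℂ) * charDegree (X l₀ hl₀ : G → ℂ) +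
          e1 * ((charDegree (β : G → ℂ) : ℂ) * charDegree (X l₀ hl₀ : G → ℂ)) +
          e2 * ((charDegree (α : G → ℂ) : ℂ) * charDegree (X l₀ hl₀ : G → ℂ)) +
          9 * s l₀ hl₀ * ((charDegree (α : G → ℂ) : ℂ) * charDegree (β : G → ℂ)))) = 0 := by
      field_simp at hzero
      linear_combination hzero
    have h2 := (mul_eq_zero.mp h1).resolve_left (pow_ne_zero 2 h0)
    exact_mod_cast h2
  obtain ⟨ha1, hb1, -, he1', he2', -⟩ := degrees_eq (ClassAlgebraVal.charDegree_pos α)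
    (ClassAlgebraVal.charDegree_pos β) (ClassAlgebraVal.charDegree_pos (X l₀ hl₀)) he1 he2
    (hs l₀ hl₀) (hcongr α e1 fun u hu => hαv hu) (hcongr β e2 fun u hu => hβv hu)
    (hcongrX l₀ hl₀) (hdeg l₀ hl₀) hz0
  subst he1' he2'
  have hα1 : (α : G → ℂ) 1 = 1 := by
    rw [ClassAlgebraVal.apply_one_eq_charDegree α, ha1, Nat.cast_one]
  have hβ1 : (β : G → ℂ) 1 = 1 := by
    rw [ClassAlgebraVal.apply_one_eq_charDegree β, hb1, Nat.cast_one]
  -- the kernels
  haveI : ∀ χ : IrrCharacter G, (CharKernel.irrKer χ).Normal := CharKernel.irrKer_normal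
  set N : Subgroup G := ⨅ l : {l : IrrCharacter (P : Subgroup G) // l ≠ one'},
    CharKernel.irrKer (X l.1 l.2) with hN
  have hNn : N.Normal := Subgroup.normal_iInf_normal fun l => inferInstance
  have hNP : ∀ u : (P : Subgroup G), (u : G) ∈ N → u = 1 := by
    intro u hu
    by_contra hne
    have hall : ∀ l : IrrCharacter (P : Subgroup G), fO D l u = 0 := by
      intro l
      by_cases hl : l = one'
      · subst hl
        simp only [fO, rot, Function.comp_apply, one', BlockPrincipal81.oneChar]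
        norm_num
      have h1 : (X l hl : G → ℂ) u = (X l hl : G → ℂ) 1 :=
        CharKernel.mem_irrKer.mp ((Subgroup.mem_iInf.mp hu) ⟨l, hl⟩)
      rw [hXv l hl hne, ClassAlgebraVal.apply_one_eq_charDegree (X l hl)] at h1
      have h2 := hdeg l hl
      rw [ha1, hb1] at h2
      have h3 : (charDegree (X l hl : G → ℂ) : ℂ) * (s l hl : ℂ) = -3 := by
        push_cast at h2
        have : ((charDegree (X l hl : G → ℂ) : ℤ) * s l hl : ℤ) = -3 := by linarith
        exact_mod_cast this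
      have h4 : (s l hl : ℂ) * (s l hl : ℂ) = 1 := by
        rcases hs l hl with e | e <;> rw [e] <;> norm_num
      linear_combination (s l hl : ℂ) * h1 + h3 + (-(fO D l u - 3)) * h4
    have h0 : ∑ l : IrrCharacter (P : Subgroup G), (l : ↥(P : Subgroup G) → ℂ) u = 0 := by
      have := sum_irr_mul_conj u (1 : (P : Subgroup G))
      rw [if_neg fun h => hne (isConj_one_left.mp h)] at this
      refine Eq.trans (Finset.sum_congr rfl fun l _ => ?_) this
      rw [BlockHomocyclicMain9.apply_one D, map_one, mul_one]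
    have hbij : Function.Bijective (rot D) := Function.bijective_iff_has_inverse.mpr
      ⟨fun l => rot D (rot D l), fun l => rot_cube D l, fun l => rot_cube D l⟩
    have h1 : ∑ l : IrrCharacter (P : Subgroup G), fO D l u = 0 := Finset.sum_eq_zero fun l _ => hall l
    simp only [fO, Finset.sum_sub_distrib, Finset.sum_add_distrib] at h1
    rw [hbij.sum_comp (fun l => (rot D l : ↥(P : Subgroup G) → ℂ) u),
      hbij.sum_comp (fun l => (l : ↥(P : Subgroup G) → ℂ) u), h0, Finset.sum_const,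
      Finset.card_univ, nsmul_eq_mul] at h1
    have : (Fintype.card (IrrCharacter (P : Subgroup G)) : ℂ) ≠ 0 :=
      Nat.cast_ne_zero.mpr (Fintype.card_pos_iff.mpr ⟨one' (P := P)⟩).ne'
    apply this
    linear_combination h1 / 3
  have hNodd : Odd (Nat.card N) := by
    rw [← Nat.not_even_iff_odd, even_iff_two_dvd]
    intro hd
    obtain ⟨t, ht⟩ := exists_prime_orderOf_dvd_card' (G := N) 2 hd
    have hS : IsPGroup 2 (Subgroup.zpowers (t : G)) :=
      IsPGroup.of_card (n := 1) (by rw [Nat.card_zpowers, Subgroup.orderOf_coe, ht, pow_one])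
    obtain ⟨c, hc⟩ := exists_conj_mem P hS
    have := hNP ⟨_, hc _ (Subgroup.mem_zpowers _)⟩ (hNn.conj_mem _ t.2 c)
    have h1 : c * (t : G) * c⁻¹ = 1 := congrArg Subtype.val this
    rw [conj_eq_one_iff] at h1
    rw [← Subgroup.orderOf_coe, h1, orderOf_one] at ht
    omega
  have hNbot := hO N hNn hNodd
  set G0 := CharKernel.irrKer α ⊓ CharKernel.irrKer β with hG0
  have hG0reg : ∀ y ∈ G0, ¬ 2 ∣ orderOf y → y = 1 := by
    intro y hy hyr
    rw [← Subgroup.mem_bot, ← hNbot, hN, Subgroup.mem_iInf]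
    rintro ⟨l, hl⟩
    refine CharKernel.mem_irrKer.mpr ?_
    have h1 := hreg l hl hyr
    have h2 := hreg l hl (y := 1) (by simp)
    rw [CharKernel.mem_irrKer.mp hy.1, CharKernel.mem_irrKer.mp hy.2] at h1
    have h3 : (s l hl : ℂ) ≠ 0 := by rcases hs l hl with e | e <;> rw [e] <;> norm_num
    exact mul_left_cancel₀ h3 (by linear_combination h1 - h2)
  have hPG0 : (P : Subgroup G) ≤ G0 := by
    intro u hu
    by_cases h : (⟨u, hu⟩ : (P : Subgroup G)) = 1
    · rw [show u = 1 from congrArg Subtype.val h]; exact G0.one_mem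
    exact ⟨CharKernel.mem_irrKer.mpr ((hαv h).trans (by rw [hα1]; norm_num)),
      CharKernel.mem_irrKer.mpr ((hβv h).trans (by rw [hβ1]; norm_num))⟩
  have hG0eq := eq_of_isPGroup P hPG0 hG0reg
  have hPn : (P : Subgroup G).Normal := hG0eq ▸ inferInstance
  refine ⟨hPn, eq_of_isPGroup P ?_ ?_⟩
  · exact fun x hx => Subgroup.mem_centralizer_iff.mpr fun y hy =>
      congrArg Subtype.val (D.comm ⟨y, hy⟩ ⟨x, hx⟩)
  · intro y hy hyr
    refine hG0reg y ?_ hyr
    have hmem : y ∈ oddCen (u1 : G) :=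
      mem_oddCen.mpr ⟨Subgroup.mem_centralizer_iff.mp hy (u1 : G) u1.2, hyr⟩
    have key : ∀ χ : IrrCharacter G, χ ∈ principalBlock M G → (χ : G → ℂ) 1 = 1 →
        (χ : G → ℂ) u1 = 1 → (χ : G → ℂ) y = (χ : G → ℂ) 1 := by
      intro χ hχ h1 hu
      have h2 := D.apply_mul_eq hM hχ hu1' hmem
      obtain ⟨lamχ, hlamχ⟩ :=
        CharBasicLinear.exists_hom_of_apply_one_eq_one (isCharacter_of_isIrrCharacter χ.2) h1
      rw [hlamχ] at h2 hu
      simp only [map_mul, Units.val_mul] at h2 hu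
      rw [h1, hlamχ]
      rw [hu, one_mul] at h2
      exact h2
    exact ⟨CharKernel.mem_irrKer.mpr (key α hαB hα1 (by rw [hαv hu1']; norm_num)),
      CharKernel.mem_irrKer.mpr (key β hβB hβ1 (by rw [hβv hu1']; norm_num))⟩

end Cfsg.Agent.BlockHomocyclicFinal9
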