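import Cfsg.Agent.Lib.TransferPResidual

/-!
# Evaluating the transfer at `p`-elements: the Thompson transfer lemma
-/

set_option linter.style.haveILetI false

namespace Cfsg.Agent.TransferThompson

open Subgroup Cfsg.Agent.TransferPResidual

variable {G : Type*} [Group G] {p : ℕ}

/-- The transfer at a `p`-element `x` when `ϕ` kills the relevant conjugates of `x^k`, `p ∣ k`,
and takes the constant value `a` at the conjugates of `x` in `H`. -/
theorem transfer_eq_pow_fixed {H : Subgroup G} {A : Type*} [CommGroup A] [H.FiniteIndex]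
    (ϕ : H →* A) [hp : Fact p.Prime] {x : G} {e : ℕ} (hx : orderOf x = p ^ e) (a : A)
    (hpow : ∀ (g : G) (k : ℕ), p ∣ k → ∀ h : g⁻¹ * x ^ k * g ∈ H, ϕ ⟨_, h⟩ = 1)
    (hfix : ∀ (g : G) (h : g⁻¹ * x * g ∈ H), ϕ ⟨_, h⟩ = a) :
    ∃ n : ℕ, n ≡ H.index [MOD p] ∧ MonoidHom.transfer ϕ x = a ^ n := by
  classical
  letI := H.fintypeQuotientOfFiniteIndex
  haveI : Fintype (Quotient (MulAction.orbitRel (zpowers x) (G ⧸ H))) := Fintype.ofFinite _
  rw [MonoidHom.transfer_eq_prod_quotient_orbitRel_zpowers_quot]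
  let m : Quotient (MulAction.orbitRel (zpowers x) (G ⧸ H)) → ℕ :=
    fun q => Function.minimalPeriod (x • ·) q.out
  have hm : ∀ q, m q = 1 ∨ p ∣ m q := by
    intro q
    have h1 : m q ∣ p ^ e := by
      rw [← hx]
      refine Function.IsPeriodicPt.minimalPeriod_dvd ?_
      rw [Function.IsPeriodicPt, Function.IsFixedPt, smul_iterate]
      change x ^ orderOf x • q.out = q.out
      rw [pow_orderOf_eq_one, one_smul]
    obtain ⟨i, -, hi⟩ := (Nat.dvd_prime_pow hp.out).mp h1
    rcases i.eq_zero_or_pos with h0 | h0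
    · exact Or.inl (by rw [hi, h0, pow_zero])
    · exact Or.inr (hi ▸ dvd_pow_self p h0.ne')
  refine ⟨(Finset.univ.filter fun q => m q = 1).card, ?_, ?_⟩
  · rw [index_eq_sum_minimalPeriod H x,
      ← Finset.sum_filter_add_sum_filter_not Finset.univ (fun q => m q = 1)]
    have h1 : (∑ q ∈ Finset.univ.filter (fun q => m q = 1), m q) =
        (Finset.univ.filter fun q => m q = 1).card := by
      rw [Finset.card_eq_sum_ones]
      exact Finset.sum_congr rfl fun q hq => (Finset.mem_filter.mp hq).2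
    have h2 : p ∣ ∑ q ∈ Finset.univ.filter (fun q => ¬ m q = 1), m q :=
      Finset.dvd_sum fun q hq => (hm q).resolve_left (Finset.mem_filter.mp hq).2
    change _ ≡ (∑ q ∈ Finset.univ.filter (fun q => m q = 1), m q) +
      ∑ q ∈ Finset.univ.filter (fun q => ¬ m q = 1), m q [MOD p]
    rw [h1]
    exact (Nat.modEq_iff_dvd' (Nat.le_add_right _ _)).mpr (by rwa [Nat.add_sub_cancel_left])
  · rw [← Finset.prod_const, Finset.prod_filter]
    refine Finset.prod_congr rfl fun q _ => ?_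
    have hgen : ∀ (k : ℕ) (h : q.out.out⁻¹ * x ^ k * q.out.out ∈ H), k = 1 ∨ p ∣ k →
        ϕ ⟨_, h⟩ = if k = 1 then a else 1 := by
      intro k h hk
      rcases eq_or_ne k 1 with rfl | hk1
      · rw [if_pos rfl]
        simp only [pow_one] at h ⊢
        exact hfix _ h
      · rw [if_neg hk1]
        exact hpow _ k (hk.resolve_left hk1) h
    exact hgen (m q) _ (hm q)

/-- If the transfer of `ϕ : P → A` cannot kill `x` then `x ∉ O^p(G) G'`. -/
theorem transfer_ne_one [Finite G] [hp : Fact p.Prime] (P : Sylow p G) {A : Type*} [CommGroup A]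
    (hA : IsPGroup p A) (ϕ : (P : Subgroup G) →* A) {x : G} (hxP : x ∈ (P : Subgroup G))
    (hne : ϕ ⟨x, hxP⟩ ≠ 1)
    (hpow : ∀ (g : G) (k : ℕ), p ∣ k → ∀ h : g⁻¹ * x ^ k * g ∈ (P : Subgroup G), ϕ ⟨_, h⟩ = 1)
    (hfix : ∀ (g : G) (h : g⁻¹ * x * g ∈ (P : Subgroup G)), ϕ ⟨_, h⟩ = ϕ ⟨x, hxP⟩) :
    MonoidHom.transfer ϕ x ≠ 1 := by
  obtain ⟨e, he⟩ := IsPGroup.iff_orderOf.mp P.isPGroup' ⟨x, hxP⟩
  rw [orderOf_mk] at he
  obtain ⟨n, hn, hV⟩ := transfer_eq_pow_fixed ϕ he _ hpow hfix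
  rw [hV]
  intro h
  have hn' : Nat.Coprime p n := by
    rw [Nat.Prime.coprime_iff_not_dvd hp.out]
    exact fun hd => P.not_dvd_index (((Nat.ModEq.dvd_iff hn dvd_rfl)).mp hd)
  exact hne ((hA.powEquiv hn').injective (by simp only [IsPGroup.powEquiv_apply]; rw [h, one_pow]))

/-- **Thompson's transfer lemma** for any prime: `x` has order `p`, lies outside the normal
subgroup `Q` of index `p` of `P`, and all its conjugates in `P` lie in the coset `xQ`. -/
theorem exists_normal_index [Finite G] [hp : Fact p.Prime] (P : Sylow p G)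
    (Q : Subgroup (P : Subgroup G)) [Q.Normal] (hQ : Q.index = p) {x : G}
    (hx : orderOf x = p) (hxP : x ∈ (P : Subgroup G)) (hxQ : (⟨x, hxP⟩ : (P : Subgroup G)) ∉ Q)
    (hconj : ∀ (g : G) (h : g⁻¹ * x * g ∈ (P : Subgroup G)),
      (⟨x, hxP⟩ : (P : Subgroup G))⁻¹ * ⟨_, h⟩ ∈ Q) :
    ∃ M : Subgroup G, M.Normal ∧ M.index = p ∧ x ∉ M := by
  haveI : IsCyclic ((P : Subgroup G) ⧸ Q) := isCyclic_of_prime_card (p := p) hQ
  letI : CommGroup ((P : Subgroup G) ⧸ Q) := IsCyclic.commGroup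
  have hA : IsPGroup p ((P : Subgroup G) ⧸ Q) := P.isPGroup'.to_quotient Q
  let ϕ : (P : Subgroup G) →* (P : Subgroup G) ⧸ Q := QuotientGroup.mk' Q
  have hne : MonoidHom.transfer ϕ x ≠ 1 := by
    refine transfer_ne_one P hA ϕ hxP
      (fun h => hxQ ((QuotientGroup.eq_one_iff _).mp h)) ?_ ?_
    · intro g k hk h
      have h1 : x ^ k = 1 := orderOf_dvd_iff_pow_eq_one.mp (hx.symm ▸ hk)
      have e : (⟨_, h⟩ : (P : Subgroup G)) = 1 := by
        apply Subtype.ext
        simp [h1]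
      rw [e, map_one]
    · intro g h
      exact (QuotientGroup.eq.mpr (hconj g h)).symm
  refine ⟨(MonoidHom.transfer ϕ).ker, inferInstance, ?_, fun h => hne h⟩
  haveI hprime : Fact (Nat.card ((P : Subgroup G) ⧸ Q)).Prime :=
    ⟨by rw [show Nat.card ((P : Subgroup G) ⧸ Q) = p from hQ]; exact hp.out⟩
  rcases eq_bot_or_eq_top_of_prime_card (MonoidHom.transfer ϕ).range with h | h
  · exact absurd (mem_bot.mp (h ▸ (⟨x, rfl⟩ : _ ∈ (MonoidHom.transfer ϕ).range))) hne
  · rw [index_ker, h, card_top]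
    exact hQ

/-- **Thompson's transfer lemma**: an involution of `P` outside a subgroup `Q` of index `2`
of the Sylow `2`-subgroup `P` lies outside a normal subgroup of index `2` of `G`, or has a
conjugate in `Q`. -/
theorem thompson_transfer [Finite G] (P : Sylow 2 G) (Q : Subgroup G)
    (hQP : Q ≤ (P : Subgroup G)) (hQ : Q.relIndex (P : Subgroup G) = 2) {u : G}
    (hu : orderOf u = 2) (huP : u ∈ (P : Subgroup G))
    (hconj : ∀ g : G, g * u * g⁻¹ ∉ Q) :
    ∃ M : Subgroup G, M.Normal ∧ M.index = 2 ∧ u ∉ M := by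
  haveI : (Q.subgroupOf (P : Subgroup G)).Normal := normal_of_index_eq_two hQ
  have huQ : u ∉ Q := fun h => hconj 1 (by simpa using h)
  refine exists_normal_index P (Q.subgroupOf (P : Subgroup G)) hQ hu huP huQ fun g h => ?_
  rw [mul_mem_iff_of_index_two hQ, inv_mem_iff]
  have h2 : g⁻¹ * u * g ∉ Q := by simpa using hconj g⁻¹
  exact iff_of_false huQ h2

/-- An element outside a normal subgroup of index `p` is outside `O^p(G)`. -/
theorem pResidual_ne_top_of_index [Finite G] [Fact p.Prime] {M : Subgroup G} [hM : M.Normal]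
    (h : M.index = p) : Cfsg.pResidual p G ≠ ⊤ :=
  fun ht => (pResidual_eq_top_iff.mp ht) M hM h

end Cfsg.Agent.TransferThompson
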