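import Cfsg.Agent.Lib.A10Five36Tools
import Cfsg.Agent.Lib.A10Five36Data

/-! No nonzero vector is fixed by an `A_4` (S4100, `p = 5`). -/

set_option autoImplicit false
set_option maxRecDepth 100000

universe u

namespace Cfsg.Agent.A10Five36

/-- The relations of a vector fixed by the four-point alternating group. -/
def fixRelA : List (List (ℕ × ℕ)) := elemsA4R.map fun a => [(1, a), (4, idK)]

/-- The certificate killing such a vector. -/
def qsFixA (f : List (ℕ × ℕ)) : List (ℕ × ℕ × ℕ × ℕ) :=
  (List.range elemsA4R.length).flatMap fun j => f.map fun t => (3 * t.1 % 5, t.2, j, idK)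

/-- All relations of the last step. -/
def relLastA : List (List (ℕ × ℕ)) :=
  (dataA.map fun d => (1, idK) :: smulL 4 d.2.2.1) ++ [normL nsTA]

theorem dataA_conj : (dataA.all fun d =>
    conjL d.1 d.2.1 eL d.2.2.1 && conjL d.1 d.2.1 eR d.2.2.2) = true := by
  decide +kernel

theorem dataA_fix : (dataA.all fun d =>
    check d.2.2.2 (qsFixA d.2.2.2) fixRelA [] [] && allKeys (qsFixA d.2.2.2)) = true := by
  decide +kernel

theorem fixRelA_keys : (fixRelA.all keysOK && relLastA.all keysOK && keysOK eL && keysOK eR &&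
    Nat.beq dataA.length 6 && allKeys qsA) = true := by
  decide +kernel

theorem qsA_shape : (qsA.all fun q => (Nat.blt q.2.2.1 6 && Nat.beq q.2.2.2 idK) || Nat.beq q.2.2.1 6) = true := by
  decide +kernel

theorem certA_ok : check [(1, idK)] qsA relLastA [] [] = true := by decide +kernel

theorem nsTA_ok : (nsCheck nsTA && nsTA.all fun t => eqL (rmulL t.1 (normL nsTA)) (normL nsTA)) = true := by
  decide +kernel

theorem a4R_inv : (elemsA4R.all fun a =>
    good a && eqL (rmulL a (elemsA4R.map fun g => (1, g))) (elemsA4R.map fun g => (1, g))) = true := by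
  decide +kernel

variable {W : Type u} [AddCommGroup W] [Module (ZMod 5) W]
variable (ρ : A10 →* Module.End (ZMod 5) W)

theorem fixed_A4R_zero (hfix : NoFix ρ)
    (h00 : ev ρ ((1, idK) :: smulL 4 eL) * ev ρ ((1, idK) :: smulL 4 eR) = 0)
    (v : W) (hv : ∀ a ∈ elemsA4R, rK ρ a v = v) : v = 0 := by
  have hk := fixRelA_keys
  simp only [Bool.and_eq_true] at hk
  obtain ⟨⟨⟨⟨⟨kF, kR⟩, keL⟩, keR⟩, hlen⟩, kq⟩ := hk
  have kid : keysOK [(1, idK)] = true := by decide +kernel
  have hone : ∀ (l : List (ℕ × ℕ)), ev ρ ((1, idK) :: smulL 4 l) = 1 - ev ρ l := by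
    intro l
    rw [ev_cons, ev_smulL, neg_four, rK_one, Nat.cast_one, one_smul, sub_eq_add_neg]
  -- each of the six relations kills the vector
  have hd : ∀ d ∈ dataA, ev ρ ((1, idK) :: smulL 4 d.2.2.1) v = 0 := by
    intro d hd
    have hc := List.all_eq_true.1 dataA_conj d hd
    simp only [Bool.and_eq_true] at hc
    obtain ⟨he, hxy, hyx⟩ := op_conj ρ hc.1
    obtain ⟨hf, -, -⟩ := op_conj ρ hc.2
    have hfv : ev ρ d.2.2.2 v = 0 := by
      have hcf := List.all_eq_true.1 dataA_fix d hd
      simp only [Bool.and_eq_true] at hcf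
      refine check_sound ρ hcf.1 hcf.2 (fun r hr => keys_of_ok (List.all_eq_true.1 kF r hr))
        (by simp) (by simp) fun q hq => ?_
      obtain ⟨j, hj, hq⟩ := List.mem_flatMap.1 hq
      obtain ⟨t, -, rfl⟩ := List.mem_map.1 hq
      rw [List.mem_range] at hj
      have e : fixRelA.getD j [] = [(1, elemsA4R[j]), (4, idK)] := by
        simp [fixRelA, List.getD_eq_getElem?_getD, List.getElem?_eq_getElem hj]
      show ev ρ (fixRelA.getD j []) (rK ρ idK v) = 0
      rw [e, rK_one, Module.End.one_apply]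
      simp only [ev_cons, ev_nil, add_zero, LinearMap.add_apply, LinearMap.smul_apply, rK_one,
        Module.End.one_apply, hv _ (List.getElem_mem hj)]
      rw [← add_smul, show ((1 : ℕ) : ZMod 5) + ((4 : ℕ) : ZMod 5) = 0 by decide, zero_smul]
    have h0 : (1 - ev ρ d.2.2.1) * (1 - ev ρ d.2.2.2) = 0 := by
      have e1 : 1 - ev ρ d.2.2.1 = rK ρ d.1 * (1 - ev ρ eL) * rK ρ d.2.1 := by
        rw [he, mul_sub, sub_mul, mul_one, hxy]
      have e2 : 1 - ev ρ d.2.2.2 = rK ρ d.1 * (1 - ev ρ eR) * rK ρ d.2.1 := by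
        rw [hf, mul_sub, sub_mul, mul_one, hxy]
      rw [hone, hone] at h00
      rw [e1, e2, mul_assoc, mul_assoc (rK ρ d.1) (1 - ev ρ eR), ← mul_assoc (rK ρ d.2.1), hyx, one_mul,
        ← mul_assoc, mul_assoc (rK ρ d.1), h00, mul_zero, zero_mul]
    have h1 := congrArg (fun f : Module.End (ZMod 5) W => f v) h0
    rw [hone]
    simpa [Module.End.mul_apply, hfv] using h1
  have hns := nsTA_ok
  rw [Bool.and_eq_true] at hns
  have hN := norm_zero hfix hns.1 hns.2
  have hlen' : dataA.length = 6 := Nat.eq_of_beq_eq_true hlen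
  have h1 := check_sound ρ certA_ok kq (fun r hr => keys_of_ok (List.all_eq_true.1 kR r hr))
    (by simp) (by simp) (v := v) fun q hq => ?_
  · simpa [ev_cons, ev_nil, rK_one] using h1
  have hs := List.all_eq_true.1 qsA_shape q hq
  simp only [Bool.or_eq_true, Bool.and_eq_true] at hs
  rcases hs with ⟨hi, hh⟩ | hi
  · have hi' : q.2.2.1 < dataA.length := by
      rw [hlen']; exact Nat.le_of_ble_eq_true hi
    rw [Nat.eq_of_beq_eq_true hh, rK_one, Module.End.one_apply]
    have e : relLastA.getD q.2.2.1 [] = (1, idK) :: smulL 4 (dataA[q.2.2.1]).2.2.1 := by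
      simp [relLastA, List.getD_eq_getElem?_getD, List.getElem?_append, hi']
    rw [e]
    exact hd _ (List.getElem_mem hi')
  · have e : relLastA.getD q.2.2.1 [] = normL nsTA := by
      rw [Nat.eq_of_beq_eq_true hi]
      simp [relLastA, List.getD_eq_getElem?_getD, hlen']
    rw [e, hN, LinearMap.zero_apply]

theorem a4_norm_zero (hfix : NoFix ρ)
    (h00 : ev ρ ((1, idK) :: smulL 4 eL) * ev ρ ((1, idK) :: smulL 4 eR) = 0) :
    ev ρ (elemsA4R.map fun g => (1, g)) = 0 := by
  refine LinearMap.ext fun w => fixed_A4R_zero ρ hfix h00 _ fun a ha => ?_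
  have h := List.all_eq_true.1 a4R_inv a ha
  rw [Bool.and_eq_true] at h
  have hk : Keys (elemsA4R.map fun g => (1, g)) := by
    intro t ht
    obtain ⟨g, hg, rfl⟩ := List.mem_map.1 ht
    have := List.all_eq_true.1 a4R_inv g hg
    rw [Bool.and_eq_true] at this
    exact isKey_of_good this.1
  have := op_eq ρ h.2
  rw [(keys_rmulL ρ (isKey_of_good h.1) hk).2] at this
  exact congrArg (fun f : Module.End (ZMod 5) W => f w) this

end Cfsg.Agent.A10Five36
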