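import Cfsg.Agent.Lib.A10Five36Tools
import Cfsg.Agent.Lib.A10Five36Data

/-! The principal part on `A_5 × A_5` vanishes (S4100, `p = 5`). -/

set_option autoImplicit false
set_option maxHeartbeats 2000000
set_option maxRecDepth 100000

universe u

namespace Cfsg.Agent.A10Five36

def oneSub (A : List (ℕ × ℕ)) : List (ℕ × ℕ) := (1, idK) :: smulL 4 A
def subOne (k : ℕ) : List (ℕ × ℕ) := [(1, k), (4, idK)]
def onePlus (k : ℕ) : List (ℕ × ℕ) := [(1, idK), (1, k)]

def b10 (y t s : ℕ) : List (ℕ × ℕ) :=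
  [(1, idK), (1, y), (1, mulK y y), (1, mulK y (mulK y y)), (1, mulK y (mulK y (mulK y y))),
    (s, t), (s, mulK y t), (s, mulK (mulK y y) t), (s, mulK (mulK y (mulK y y)) t),
    (s, mulK (mulK y (mulK y (mulK y y))) t)]

def b100 (X Y : List (ℕ × ℕ)) : List (ℕ × ℕ) :=
  X.flatMap fun x => Y.map fun z => (x.1 * z.1 % 5, mulK x.2 z.2)

variable {W : Type u} [AddCommGroup W] [Module (ZMod 5) W]
variable (ρ : A10 →* Module.End (ZMod 5) W)

/-- eigenvector conditions -/
def Eig (y t s : ℕ) (v : W) : Prop := rK ρ y v = v ∧ rK ρ t v = (s : ZMod 5) • v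

theorem b10_spec {y t s : ℕ} (hy : good y = true) (ht : good t = true) {v : W}
    (h : Eig ρ y t s v) :
    ∀ x ∈ b10 y t s, IsKey x.2 ∧ rK ρ x.2 v = (x.1 : ZMod 5) • v := by
  have y1 : IsKey y ∧ rK ρ y v = (1 : ZMod 5) • v := ⟨isKey_of_good hy, by rw [h.1, one_smul]⟩
  have t1 : IsKey t ∧ rK ρ t v = (s : ZMod 5) • v := ⟨isKey_of_good ht, h.2⟩
  have i1 : IsKey idK ∧ rK ρ idK v = (1 : ZMod 5) • v :=
    ⟨isKey_of_good (by decide +kernel), by rw [rK_one, one_smul]; rfl⟩
  have step : ∀ a b (x z : ZMod 5), IsKey a ∧ rK ρ a v = x • v → IsKey b ∧ rK ρ b v = z • v →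
      IsKey (mulK a b) ∧ rK ρ (mulK a b) v = (x * z) • v :=
    fun a b x z p q => eig_mul ρ p.1 q.1 p.2 q.2
  have y2 := step _ _ _ _ y1 y1
  have y3 := step _ _ _ _ y1 y2
  have y4 := step _ _ _ _ y1 y3
  intro x hx
  simp only [b10, List.mem_cons, List.not_mem_nil, or_false] at hx
  rcases hx with rfl | rfl | rfl | rfl | rfl | rfl | rfl | rfl | rfl | rfl
  · simpa using i1
  · simpa using y1
  · simpa using y2
  · simpa using y3
  · simpa using y4
  · simpa using t1
  · simpa using step _ _ _ _ y1 t1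
  · simpa using step _ _ _ _ y2 t1
  · simpa using step _ _ _ _ y3 t1
  · simpa using step _ _ _ _ y4 t1

theorem b100_spec {X Y : List (ℕ × ℕ)} {v : W}
    (hX : ∀ x ∈ X, IsKey x.2 ∧ rK ρ x.2 v = (x.1 : ZMod 5) • v)
    (hY : ∀ x ∈ Y, IsKey x.2 ∧ rK ρ x.2 v = (x.1 : ZMod 5) • v) :
    ∀ x ∈ b100 X Y, IsKey x.2 ∧ rK ρ x.2 v = (x.1 : ZMod 5) • v := by
  intro x hx
  simp only [b100, List.mem_flatMap, List.mem_map] at hx
  obtain ⟨a, ha, b, hb, rfl⟩ := hx
  obtain ⟨k, e⟩ := eig_mul ρ (hX a ha).1 (hY b hb).1 (hX a ha).2 (hY b hb).2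
  exact ⟨k, by rw [e, ZMod.natCast_mod, Nat.cast_mul]⟩

theorem keys_of_good_list {l : List ℕ} (h : l.all good = true) : ∀ r ∈ l, IsKey r :=
  fun r hr => isKey_of_good (List.all_eq_true.1 h r hr)

theorem nilp_fixed (P : W → Prop) (N : Module.End (ZMod 5) W) (hP : ∀ v, P v → P (N v)) :
    ∀ (n : ℕ) (v : W), P v → v ≠ 0 → (N ^ n) v = 0 → ∃ w, P w ∧ w ≠ 0 ∧ N w = 0
  | 0, v, _, hv, h => absurd (by simpa using h) hv
  | n + 1, v, hp, hv, h => by
    by_cases hN : N v = 0
    · exact ⟨v, hp, hv, hN⟩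
    · refine nilp_fixed P N hP n (N v) (hP v hp) hN ?_
      rwa [pow_succ, Module.End.mul_apply] at h

theorem eig_exists (y t : ℕ) (qs : List (ℕ × ℕ × ℕ × ℕ))
    (hpow : eqL (mulL (subOne y) (mulL (subOne y) (mulL (subOne y) (mulL (subOne y) (subOne y))))) [] = true)
    (hy : good y = true) (ht : good t = true) (htt : Nat.beq (mulK t t) idK = true)
    (hid : good idK = true)
    (hqs : check (mulL (subOne y) (onePlus t)) qs [subOne y] [] [] = true)
    (hall : allKeys qs = true)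
    (hh : qs.all (fun q => Nat.beq q.2.2.1 0 && Nat.beq q.2.2.2 idK) = true)
    (P : W → Prop) (hPy : ∀ v, P v → P (rK ρ y v)) (hPt : ∀ v, P v → P (rK ρ t v))
    (hadd : ∀ v w, P v → P w → P (v + w)) (hneg : ∀ v, P v → P (-v))
    {v : W} (hv : P v) (hv0 : v ≠ 0) :
    ∃ w, P w ∧ w ≠ 0 ∧ (Eig ρ y t 1 w ∨ Eig ρ y t 4 w) := by
  have hk : Keys (subOne y) := keys_of_ok (by simp [keysOK, subOne, hy, hid])
  have hN : ev ρ (subOne y) = rK ρ y - 1 := by
    simp only [subOne, ev_cons, ev_nil, Nat.cast_one, one_smul, neg_four, rK_one, add_zero]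
    abel
  obtain ⟨w, hw, hw0, hNw⟩ := nilp_fixed P (ev ρ (subOne y))
    (fun v hv => by
      rw [hN, LinearMap.sub_apply, Module.End.one_apply, sub_eq_add_neg]
      exact hadd _ _ (hPy v hv) (hneg v hv)) 5 v hv hv0 (by
    have h := op_eq ρ hpow
    have k2 := keys_mulL ρ hk hk
    have k3 := keys_mulL ρ hk k2.1
    have k4 := keys_mulL ρ hk k3.1
    rw [(keys_mulL ρ hk k4.1).2, k4.2, k3.2, k2.2, ev_nil] at h
    have e : ev ρ (subOne y) ^ 5 = 0 := by
      simpa [pow_succ', mul_assoc] using h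
    rw [e]; rfl)
  have hyw : rK ρ y w = w := by
    rw [hN, LinearMap.sub_apply, Module.End.one_apply, sub_eq_zero] at hNw
    exact hNw
  by_cases hu : w + rK ρ t w = 0
  · refine ⟨w, hw, hw0, Or.inr ⟨hyw, ?_⟩⟩
    have : ((4 : ℕ) : ZMod 5) = -1 := by decide
    rw [this, neg_one_smul]
    exact eq_neg_of_add_eq_zero_right hu
  · refine ⟨_, hadd _ _ hw (hPt w hw), hu, Or.inl ⟨?_, ?_⟩⟩
    · have hop : Keys (onePlus t) := keys_of_ok (by simp [keysOK, onePlus, ht, hid])
      have h := check_sound (v := w) ρ hqs hall (by intro r hr; obtain rfl := List.mem_singleton.1 hr; exact hk)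
        (by simp) (by simp) (by
          intro q hq
          have := List.all_eq_true.1 hh q hq
          simp only [Bool.and_eq_true] at this
          rw [Nat.eq_of_beq_eq_true this.1, Nat.eq_of_beq_eq_true this.2, rK_one]
          simp [hN, hyw])
      rw [(keys_mulL ρ hk hop).2, Module.End.mul_apply, hN] at h
      simpa [onePlus, ev_cons, ev_nil, rK_one, sub_eq_zero] using h
    · have e : rK ρ t * rK ρ t = 1 := by
        rw [← rK_one ρ]; exact rK_mul_of_check ρ (by simp [ht, htt])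
      have e' := congrArg (fun f : Module.End (ZMod 5) W => f w) e
      simp only [Module.End.mul_apply, Module.End.one_apply] at e'
      simp [map_add, e', add_comm]

variable {ρ}

theorem plus_zero (hfix : NoFix ρ) (y t : ℕ) (reps : List ℕ) (J e : List (ℕ × ℕ))
    (qs : List (ℕ × ℕ × ℕ × ℕ)) (ns : List (ℕ × ℕ × ℕ))
    (hy : good y = true) (ht : good t = true) (hr : reps.all good = true)
    (hns : nsCheck ns = true) (hJ : keysOK J = true) (he : keysOK e = true)
    (hJf : ns.all (fun n => good n.1 &&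
      check (diffL (rmulL n.1 J) J) [] [] reps (b10 y t 1)) = true)
    (hqs : check [(1, idK)] qs [J, e] reps (b10 y t 1) = true) (hall : allKeys qs = true)
    (hh : qs.all (fun q => Nat.blt q.2.2.1 2 && Nat.beq q.2.2.2 idK) = true)
    {v : W} (hev : ev ρ e v = 0) (hv : Eig ρ y t 1 v) : v = 0 := by
  have hx := b10_spec ρ hy ht hv
  have hJv : ev ρ J v = 0 := by
    refine nofix hfix hns _ fun n hn => ?_
    have h := List.all_eq_true.1 hJf n hn
    simp only [Bool.and_eq_true] at h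
    have h2 := check_sound ρ h.2 rfl (by simp) (keys_of_good_list hr) hx (by simp)
    rw [diffL, ev_append, ev_smulL, neg_four, (keys_rmulL ρ (isKey_of_good h.1) (keys_of_ok hJ)).2,
      LinearMap.add_apply, LinearMap.neg_apply, add_neg_eq_zero] at h2
    exact h2
  have h := check_sound ρ hqs hall
    (by
      intro r hr'
      simp only [List.mem_cons, List.not_mem_nil, or_false] at hr'
      rcases hr' with rfl | rfl
      exacts [keys_of_ok hJ, keys_of_ok he])
    (keys_of_good_list hr) hx (by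
      intro q hq
      have := List.all_eq_true.1 hh q hq
      simp only [Bool.and_eq_true, Nat.blt_eq] at this
      rw [Nat.eq_of_beq_eq_true this.2, rK_one, Module.End.one_apply]
      obtain ⟨hlt, -⟩ := this
      interval_cases q.2.2.1 <;> simp [hJv, hev])
  simpa [ev_cons, ev_nil, rK_one] using h

theorem minus_step (y t : ℕ) (reps : List ℕ) (n : List (ℕ × ℕ))
    (hy : good y = true) (ht : good t = true) (hr : reps.all good = true) (hn : keysOK n = true)
    (h1 : check (diffL (rmulL y n) n) [] [] reps (b10 y t 4) = true)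
    (h2 : check (diffL (rmulL t n) (smulL 4 n)) [] [] reps (b10 y t 4) = true)
    (h3 : check (mulL n n) [] [] reps (b10 y t 4) = true)
    {v : W} (hv : Eig ρ y t 4 v) :
    Eig ρ y t 4 (ev ρ n v) ∧ ev ρ n (ev ρ n v) = 0 := by
  have hx := b10_spec ρ hy ht hv
  have hk := keys_of_ok hn
  have e1 := check_sound ρ h1 rfl (by simp) (keys_of_good_list hr) hx (by simp)
  have e2 := check_sound ρ h2 rfl (by simp) (keys_of_good_list hr) hx (by simp)
  have e3 := check_sound ρ h3 rfl (by simp) (keys_of_good_list hr) hx (by simp)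
  rw [diffL, ev_append, ev_smulL, neg_four, (keys_rmulL ρ (isKey_of_good hy) hk).2,
    LinearMap.add_apply, LinearMap.neg_apply, add_neg_eq_zero] at e1
  rw [diffL, ev_append, ev_smulL, neg_four, (keys_rmulL ρ (isKey_of_good ht) hk).2,
    LinearMap.add_apply, LinearMap.neg_apply, add_neg_eq_zero, ev_smulL] at e2
  rw [(keys_mulL ρ hk hk).2] at e3
  exact ⟨⟨e1, e2⟩, e3⟩

theorem comm_apply {A : List (ℕ × ℕ)} {G : List ℕ} (h : commK A G = true) {g : ℕ} (hg : g ∈ G)
    (v : W) : ev ρ A (rK ρ g v) = rK ρ g (ev ρ A v) :=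
  (congrArg (fun f : Module.End (ZMod 5) W => f v) (comm_of_check ρ h hg)).symm

theorem comm_evA {A B : List (ℕ × ℕ)} {G : List ℕ} (h : commK A G = true)
    (hB : B.all (fun t => G.any fun g => Nat.beq g t.2) = true) :
    ev ρ B * ev ρ A = ev ρ A * ev ρ B := by
  refine comm_ev ρ fun t ht => ?_
  have := List.all_eq_true.1 hB t ht
  simp only [List.any_eq_true] at this
  obtain ⟨g, hg, hgt⟩ := this
  rw [← Nat.eq_of_beq_eq_true hgt]
  exact comm_of_check ρ h hg

attribute [local irreducible] ev rK check mulL rmulL eL eR nL nR omega elemsL elemsR repsL repsR pairs yL tL yR tR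
  oneSub b10 b100

def genLR : List ℕ := elemsL ++ elemsR

theorem comm_eL : commK eL genLR = true := by decide +kernel
theorem comm_eR : commK eR genLR = true := by decide +kernel
theorem comm_nL : commK nL elemsR = true := by decide +kernel
theorem comm_nR : commK nR elemsL = true := by decide +kernel
theorem comm_LR : (elemsL.all fun g => elemsR.all fun h => Nat.beq (mulK g h) (mulK h g)) = true := by
  decide +kernel
theorem omega_keys : keysOK omega = true := by decide +kernel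
theorem nL_in : nL.all (fun t => elemsL.any fun g => Nat.beq g t.2) = true := by decide +kernel
theorem nR_in : nR.all (fun t => elemsR.any fun g => Nat.beq g t.2) = true := by decide +kernel
theorem eL_in : eL.all (fun t => elemsL.any fun g => Nat.beq g t.2) = true := by decide +kernel
theorem eR_in : eR.all (fun t => elemsR.any fun g => Nat.beq g t.2) = true := by decide +kernel
theorem eL_ann : eqL (mulL eL (oneSub eL)) [] = true := by decide +kernel
theorem eR_ann : eqL (mulL eR (oneSub eR)) [] = true := by decide +kernel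
def chainOK : List ℕ → List (ℕ × ℕ × ℕ) → Bool
  | _, [] => true
  | known, c :: cs => (good c.2.1 && good c.2.2 && Nat.beq (mulK c.2.1 c.2.2) c.1 &&
      known.any (fun g => Nat.beq g c.2.1) && known.any (fun g => Nat.beq g c.2.2)) &&
      chainOK (c.1 :: known) cs

theorem chain_fixed {v : W} : ∀ (cs : List (ℕ × ℕ × ℕ)) (known : List ℕ),
    (∀ g ∈ known, rK ρ g v = v) → chainOK known cs = true →
    ∀ g ∈ known ++ cs.map (fun c => c.1), rK ρ g v = v
  | [], known, hk, _, g, hg => hk g (by simpa using hg)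
  | c :: cs, known, hk, h, g, hg => by
    simp only [chainOK, Bool.and_eq_true] at h
    obtain ⟨⟨⟨⟨⟨h1, h2⟩, h3⟩, h4⟩, h5⟩, h6⟩ := h
    have hc : rK ρ c.1 v = v := by
      rw [← Nat.eq_of_beq_eq_true h3, (rK_mulK ρ (isKey_of_good h1) (isKey_of_good h2)).2,
        Module.End.mul_apply, hk _ (mem_of_any' h5), hk _ (mem_of_any' h4)]
    refine chain_fixed cs (c.1 :: known) ?_ h6 g ?_
    · intro x hx
      rcases List.mem_cons.1 hx with rfl | hx
      exacts [hc, hk x hx]
    · simp only [List.map_cons, List.mem_append, List.mem_cons] at hg ⊢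
      tauto
where
  mem_of_any' {l : List ℕ} {k : ℕ} (h : l.any (fun g => Nat.beq g k) = true) : k ∈ l := by
    rw [List.any_eq_true] at h
    obtain ⟨g, hg, he⟩ := h
    rwa [← Nat.eq_of_beq_eq_true he]

theorem nsD_keys : chainOK (qsOmega.map (fun t => t.1)) chainD = true ∧
    nsD.all (fun t => (qsOmega.map (fun t => t.1) ++ chainD.map (fun c => c.1)).any
      (fun g => Nat.beq g t.1)) = true := by decide +kernel
theorem omega_fix_check : qsOmega.all (fun p => good p.1 &&
    (check (diffL (rmulL p.1 omega) omega) p.2 [nL, nR, omega] pairs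
      (b100 (b10 yL tL 4) (b10 yR tR 4)) && allKeys p.2 &&
    p.2.all fun q => (Nat.beq q.2.2.1 0 && repsR.any (fun g => Nat.beq g q.2.2.2)) ||
      (Nat.beq q.2.2.1 1 && repsL.any (fun g => Nat.beq g q.2.2.2)))) = true := by decide +kernel
theorem minus_check : check [(1, idK)] qsMinus [nL, nR, omega] pairs
    (b100 (b10 yL tL 4) (b10 yR tR 4)) = true := by decide +kernel
theorem minus_shape : qsMinus.all (fun q =>
    (Nat.beq q.2.2.1 0 && repsR.any (fun g => Nat.beq g q.2.2.2)) ||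
    (Nat.beq q.2.2.1 1 && repsL.any (fun g => Nat.beq g q.2.2.2)) ||
    (Nat.beq q.2.2.1 2 && Nat.beq q.2.2.2 idK)) = true := by decide +kernel
theorem reps_in : repsL.all (fun g => elemsL.any fun h => Nat.beq h g) = true ∧
    repsR.all (fun g => elemsR.any fun h => Nat.beq h g) = true := by decide +kernel

theorem mem_of_any {l : List ℕ} {k : ℕ} (h : l.any (fun g => Nat.beq g k) = true) : k ∈ l := by
  rw [List.any_eq_true] at h
  obtain ⟨g, hg, he⟩ := h
  rwa [← Nat.eq_of_beq_eq_true he]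

theorem yt_in : yL ∈ elemsL ∧ tL ∈ elemsL ∧ yR ∈ elemsR ∧ tR ∈ elemsR := by decide +kernel

/-- common kernel of two operators -/
def Ker2 (E F : Module.End (ZMod 5) W) (u : W) : Prop := E u = 0 ∧ F u = 0

theorem Ker2.add {E F : Module.End (ZMod 5) W} {a b : W} (ha : Ker2 E F a) (hb : Ker2 E F b) :
    Ker2 E F (a + b) := ⟨by rw [map_add, ha.1, hb.1, add_zero], by rw [map_add, ha.2, hb.2, add_zero]⟩

theorem Ker2.neg {E F : Module.End (ZMod 5) W} {a : W} (ha : Ker2 E F a) : Ker2 E F (-a) :=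
  ⟨by rw [map_neg, ha.1, neg_zero], by rw [map_neg, ha.2, neg_zero]⟩

theorem Ker2.app {E F X : Module.End (ZMod 5) W} (hE : ∀ u, E (X u) = X (E u))
    (hF : ∀ u, F (X u) = X (F u)) {a : W} (ha : Ker2 E F a) : Ker2 E F (X a) :=
  ⟨by rw [hE, ha.1, map_zero], by rw [hF, ha.2, map_zero]⟩

theorem Eig.add {y t s : ℕ} {a b : W} (ha : Eig ρ y t s a) (hb : Eig ρ y t s b) :
    Eig ρ y t s (a + b) := ⟨by rw [map_add, ha.1, hb.1], by rw [map_add, ha.2, hb.2, smul_add]⟩

theorem Eig.neg {y t s : ℕ} {a : W} (ha : Eig ρ y t s a) : Eig ρ y t s (-a) :=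
  ⟨by rw [map_neg, ha.1], by rw [map_neg, ha.2, smul_neg]⟩

theorem Eig.app {y t s : ℕ} {X : Module.End (ZMod 5) W} (hy : ∀ u, rK ρ y (X u) = X (rK ρ y u))
    (ht : ∀ u, rK ρ t (X u) = X (rK ρ t u)) {a : W} (ha : Eig ρ y t s a) : Eig ρ y t s (X a) :=
  ⟨by rw [hy, ha.1], by rw [ht, ha.2, map_smul]⟩

theorem swap_zero {X Y : Module.End (ZMod 5) W} (h : X * Y = Y * X) {u : W} (hu : X u = 0) :
    X (Y u) = 0 := by
  rw [← Module.End.mul_apply X Y, h, Module.End.mul_apply, hu, map_zero]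

theorem zero_arg {X Y : Module.End (ZMod 5) W} {u : W} (h : X (Y u) = Y (X u)) (hu : X u = 0) :
    X (Y u) = 0 := by rw [h, hu, map_zero]

theorem rel3 {A B C : List (ℕ × ℕ)} {i h : ℕ} {v : W}
    (hc : (i = 0 ∧ ev ρ A (rK ρ h v) = 0) ∨ (i = 1 ∧ ev ρ B (rK ρ h v) = 0) ∨
      (i = 2 ∧ ev ρ C (rK ρ h v) = 0)) : ev ρ ([A, B, C].getD i []) (rK ρ h v) = 0 := by
  rcases hc with ⟨rfl, h⟩ | ⟨rfl, h⟩ | ⟨rfl, h⟩ <;> exact h

theorem fix_of_diff {g : ℕ} {A : List (ℕ × ℕ)} (hg : IsKey g) (hA : Keys A) {v : W}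
    (h : ev ρ (diffL (rmulL g A) A) v = 0) : rK ρ g (ev ρ A v) = ev ρ A v := by
  rw [diffL, ev_append, ev_smulL, neg_four, (keys_rmulL ρ hg hA).2, LinearMap.add_apply,
    LinearMap.neg_apply, add_neg_eq_zero] at h
  exact h

theorem zero_of_one {v : W} (h : ev ρ [(1, idK)] v = 0) : v = 0 := by
  simpa [ev_cons, ev_nil, rK_one] using h

theorem ann2 {E F X Y : Module.End (ZMod 5) W} (a1 : E * X = 0) (a2 : F * Y = 0)
    (hc : F * X = X * F) (w : W) : E (X (Y w)) = 0 ∧ F (X (Y w)) = 0 := by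
  constructor
  · rw [← Module.End.mul_apply E, a1, LinearMap.zero_apply]
  · rw [← Module.End.mul_apply F, hc, Module.End.mul_apply, ← Module.End.mul_apply F, a2,
      LinearMap.zero_apply, map_zero]

/-- the part killed by both idempotents vanishes -/
theorem part00_zero (hfix : NoFix ρ) : ev ρ (oneSub eL) * ev ρ (oneSub eR) = 0 := by
  refine LinearMap.ext fun w => ?_
  by_contra hne
  rw [LinearMap.zero_apply, Module.End.mul_apply] at hne
  obtain ⟨v, hvdef⟩ : ∃ v, v = ev ρ (oneSub eL) (ev ρ (oneSub eR) w) := ⟨_, rfl⟩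
  rw [← hvdef] at hne
  have hk1 : Keys (oneSub eL) := keys_of_ok (by decide +kernel)
  have hk2 : Keys (oneSub eR) := keys_of_ok (by decide +kernel)
  have hkL : Keys eL := keys_of_ok (by decide +kernel)
  have hkR : Keys eR := keys_of_ok (by decide +kernel)
  have a1 : ev ρ eL * ev ρ (oneSub eL) = 0 := by
    rw [← (keys_mulL ρ hkL hk1).2, op_eq ρ eL_ann, ev_nil]
  have a2 : ev ρ eR * ev ρ (oneSub eR) = 0 := by
    rw [← (keys_mulL ρ hkR hk2).2, op_eq ρ eR_ann, ev_nil]
  have hc : ev ρ eR * ev ρ (oneSub eL) = ev ρ (oneSub eL) * ev ρ eR := by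
    have hce : ev ρ eR * ev ρ eL = ev ρ eL * ev ρ eR := by
      refine comm_ev ρ fun t ht => comm_of_check ρ comm_eL ?_
      exact List.mem_append.2 (Or.inr (mem_of_any (List.all_eq_true.1 eR_in t ht)))
    simp only [oneSub, ev_cons, ev_smulL, neg_four, rK_one, Nat.cast_one, one_smul]
    rw [mul_add, add_mul, mul_one, one_mul, mul_neg, neg_mul, hce]
  have hv : Ker2 (ev ρ eL) (ev ρ eR) v := by
    rw [hvdef]
    exact ann2 a1 a2 hc w
  have hPg : ∀ g ∈ genLR, ∀ u, Ker2 (ev ρ eL) (ev ρ eR) u → Ker2 (ev ρ eL) (ev ρ eR) (rK ρ g u) :=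
    fun g hg u hu => hu.app (comm_apply comm_eL hg) (comm_apply comm_eR hg)
  have inL : ∀ {g}, g ∈ elemsL → g ∈ genLR := fun h => List.mem_append.2 (Or.inl h)
  have inR : ∀ {g}, g ∈ elemsR → g ∈ genLR := fun h => List.mem_append.2 (Or.inr h)
  obtain ⟨v1, hv1, hv10, hsign⟩ := eig_exists ρ yL tL qsFixL (by decide +kernel) (by decide +kernel)
    (by decide +kernel) (by decide +kernel) (by decide +kernel) (by decide +kernel)
    (by decide +kernel) (by decide +kernel) (Ker2 (ev ρ eL) (ev ρ eR)) (hPg yL (inL yt_in.1))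
    (hPg tL (inL yt_in.2.1)) (fun _ _ ha hb => ha.add hb) (fun _ ha => ha.neg) hv hne
  rcases hsign with hs | hs
  · exact hv10 (plus_zero hfix yL tL repsL jjL eL qsPlusL nsL (by decide +kernel) (by decide +kernel)
      (by decide +kernel) (by decide +kernel) (by decide +kernel) (by decide +kernel)
      (by decide +kernel) (by decide +kernel) (by decide +kernel) (by decide +kernel) hv1.1 hs)
  let P1 : W → Prop := fun u => Ker2 (ev ρ eL) (ev ρ eR) u ∧ Eig ρ yL tL 4 u
  have cLR : ∀ {g h}, g ∈ elemsL → h ∈ elemsR → ∀ u, rK ρ g (rK ρ h u) = rK ρ h (rK ρ g u) := by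
    intro g h hg hh u
    have e : rK ρ g * rK ρ h = rK ρ h * rK ρ g := by
      have hg' := keys_of_good_list (l := elemsL) (by decide +kernel) g hg
      have hh' := keys_of_good_list (l := elemsR) (by decide +kernel) h hh
      have hall := List.all_eq_true.1 (List.all_eq_true.1 comm_LR g hg) h hh
      rw [← (rK_mulK ρ hg' hh').2, ← (rK_mulK ρ hh' hg').2, Nat.eq_of_beq_eq_true hall]
    exact congrArg (fun f : Module.End (ZMod 5) W => f u) e
  obtain ⟨v2, hv2, hv20, hsign2⟩ := eig_exists ρ yR tR qsFixR (by decide +kernel) (by decide +kernel)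
    (by decide +kernel) (by decide +kernel) (by decide +kernel) (by decide +kernel)
    (by decide +kernel) (by decide +kernel) P1
    (fun u hu => ⟨hPg yR (inR yt_in.2.2.1) u hu.1,
      hu.2.app (cLR yt_in.1 yt_in.2.2.1) (cLR yt_in.2.1 yt_in.2.2.1)⟩)
    (fun u hu => ⟨hPg tR (inR yt_in.2.2.2) u hu.1,
      hu.2.app (cLR yt_in.1 yt_in.2.2.2) (cLR yt_in.2.1 yt_in.2.2.2)⟩)
    (fun _ _ ha hb => ⟨ha.1.add hb.1, ha.2.add hb.2⟩) (fun _ ha => ⟨ha.1.neg, ha.2.neg⟩)
    (v := v1) ⟨hv1, hs⟩ hv10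
  rcases hsign2 with hs2 | hs2
  · exact hv20 (plus_zero hfix yR tR repsR jjR eR qsPlusR nsR (by decide +kernel) (by decide +kernel)
      (by decide +kernel) (by decide +kernel) (by decide +kernel) (by decide +kernel)
      (by decide +kernel) (by decide +kernel) (by decide +kernel) (by decide +kernel) hv2.1.2 hs2)
  have cnL : ∀ {h}, h ∈ elemsR → ∀ u, ev ρ nL (rK ρ h u) = rK ρ h (ev ρ nL u) :=
    fun hh u => comm_apply comm_nL hh u
  have cnR : ∀ {h}, h ∈ elemsL → ∀ u, ev ρ nR (rK ρ h u) = rK ρ h (ev ρ nR u) :=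
    fun hh u => comm_apply comm_nR hh u
  -- descend to the socle on both sides
  obtain ⟨v3, hL3, hR3, hn3, hz3⟩ : ∃ u, Eig ρ yL tL 4 u ∧ Eig ρ yR tR 4 u ∧ ev ρ nL u = 0 ∧ u ≠ 0 := by
    by_cases hn : ev ρ nL v2 = 0
    · exact ⟨v2, hv2.2, hs2, hn, hv20⟩
    · obtain ⟨e1, e2⟩ := minus_step yL tL repsL nL (by decide +kernel) (by decide +kernel)
        (by decide +kernel) (by decide +kernel) (by decide +kernel) (by decide +kernel)
        (by decide +kernel) hv2.2
      exact ⟨_, e1, hs2.app (fun u => (cnL yt_in.2.2.1 u).symm) (fun u => (cnL yt_in.2.2.2 u).symm),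
        e2, hn⟩
  obtain ⟨v4, hL4, hR4, hn4, hm4, hz4⟩ :
      ∃ u, Eig ρ yL tL 4 u ∧ Eig ρ yR tR 4 u ∧ ev ρ nL u = 0 ∧ ev ρ nR u = 0 ∧ u ≠ 0 := by
    by_cases hn : ev ρ nR v3 = 0
    · exact ⟨v3, hL3, hR3, hn3, hn, hz3⟩
    · obtain ⟨e1, e2⟩ := minus_step yR tR repsR nR (by decide +kernel) (by decide +kernel)
        (by decide +kernel) (by decide +kernel) (by decide +kernel) (by decide +kernel)
        (by decide +kernel) hR3
      exact ⟨_, hL3.app (fun u => (cnR yt_in.1 u).symm) (fun u => (cnR yt_in.2.1 u).symm), e1,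
        swap_zero (comm_evA comm_nR nL_in) hn3, e2, hn⟩
  apply hz4
  have hx := b100_spec ρ (b10_spec ρ (by decide +kernel) (by decide +kernel) hL4)
    (b10_spec ρ (by decide +kernel) (by decide +kernel) hR4)
  have hR : ∀ r ∈ [nL, nR, omega], Keys r := fun r hr =>
    keys_of_ok (List.all_eq_true.1 (show ([nL, nR, omega].all keysOK) = true by decide +kernel) r hr)
  have hpairs : ∀ r ∈ pairs, IsKey r := keys_of_good_list (by decide +kernel)
  have r0 : ∀ h, repsR.any (fun g => Nat.beq g h) = true → ev ρ nL (rK ρ h v4) = 0 := fun h hh => by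
    exact zero_arg (cnL (mem_of_any (List.all_eq_true.1 reps_in.2 h (mem_of_any hh))) v4) hn4
  have r1 : ∀ h, repsL.any (fun g => Nat.beq g h) = true → ev ρ nR (rK ρ h v4) = 0 := fun h hh => by
    exact zero_arg (cnR (mem_of_any (List.all_eq_true.1 reps_in.1 h (mem_of_any hh))) v4) hm4
  have hom : ev ρ omega v4 = 0 := by
    refine nofix hfix (l := nsD) (by decide +kernel) _ fun t ht => ?_
    refine chain_fixed (ρ := ρ) chainD _ ?_ nsD_keys.1 _
      (mem_of_any (List.all_eq_true.1 nsD_keys.2 t ht))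
    intro g hg
    obtain ⟨p, hp, hpt⟩ := List.mem_map.1 hg
    have h := List.all_eq_true.1 omega_fix_check p hp
    simp only [Bool.and_eq_true] at h
    obtain ⟨hg, ⟨h1, h2⟩, h3⟩ := h
    have h4 := check_sound ρ h1 h2 hR hpairs hx (by
      intro q hq
      have hq' := List.all_eq_true.1 h3 q hq
      simp only [Bool.or_eq_true, Bool.and_eq_true] at hq'
      refine rel3 ?_
      rcases hq' with ⟨hi, hh⟩ | ⟨hi, hh⟩
      · exact Or.inl ⟨Nat.eq_of_beq_eq_true hi, r0 _ hh⟩
      · exact Or.inr (Or.inl ⟨Nat.eq_of_beq_eq_true hi, r1 _ hh⟩))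
    rw [← hpt]
    exact fix_of_diff (isKey_of_good hg) (keys_of_ok omega_keys) h4
  have h := check_sound ρ minus_check (by decide +kernel) hR hpairs hx (by
    intro q hq
    have hq' := List.all_eq_true.1 minus_shape q hq
    simp only [Bool.or_eq_true, Bool.and_eq_true] at hq'
    refine rel3 ?_
    rcases hq' with (⟨hi, hh⟩ | ⟨hi, hh⟩) | ⟨hi, hh⟩
    · exact Or.inl ⟨Nat.eq_of_beq_eq_true hi, r0 _ hh⟩
    · exact Or.inr (Or.inl ⟨Nat.eq_of_beq_eq_true hi, r1 _ hh⟩)
    · refine Or.inr (Or.inr ⟨Nat.eq_of_beq_eq_true hi, ?_⟩)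
      rw [Nat.eq_of_beq_eq_true hh, rK_one, Module.End.one_apply]
      exact hom)
  exact zero_of_one h

end Cfsg.Agent.A10Five36
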