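import Cfsg.Agent.Lib.AltCent86Defs

/-! Certificate engine for the group algebra of `A_10` over `F_5` (S4100, `p = 5`). -/

set_option autoImplicit false

universe u

namespace Cfsg.Agent.A10Five36

open Equiv

abbrev A10 := alternatingGroup (Fin 10)

/-- the `i`-th nibble -/
def dig (k i : ℕ) : ℕ := (k >>> (4 * i)) % 16

def pack (f : ℕ → ℕ) : ℕ :=
  f 0 + 16 * (f 1 + 16 * (f 2 + 16 * (f 3 + 16 * (f 4 + 16 * (f 5 + 16 * (f 6 + 16 * (f 7 +
    16 * (f 8 + 16 * f 9))))))))

theorem dig_pack (f : ℕ → ℕ) (hf : ∀ i, f i < 16) (i : ℕ) (hi : i < 10) :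
    dig (pack f) i = f i := by
  have := hf 0; have := hf 1; have := hf 2; have := hf 3; have := hf 4
  have := hf 5; have := hf 6; have := hf 7; have := hf 8; have := hf 9
  unfold dig pack
  rw [Nat.shiftRight_eq_div_pow]
  interval_cases i <;> norm_num <;> omega

/-- evaluate a numeral before passing it on (kernel computations) -/
def force {α : Type} (n : ℕ) (f : ℕ → α) : α :=
  match n with
  | 0 => f 0
  | m + 1 => f (m + 1)

theorem force_eq {α : Type} (n : ℕ) (f : ℕ → α) : force n f = f n := by cases n <;> rfl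

def mulK (a b : ℕ) : ℕ := force a fun a => force b fun b => pack fun i => dig a (dig b i)

def valK (a : A10) : ℕ := pack fun i => if h : i < 10 then ((a.1 ⟨i, h⟩).val) else 0

theorem dig_valK (a : A10) (i : Fin 10) : dig (valK a) i.val = (a.1 i).val := by
  rw [valK, dig_pack _ _ i.val i.isLt]
  · simp
  · intro j; split <;> omega

theorem valK_inj {a b : A10} (h : valK a = valK b) : a = b := by
  apply Subtype.ext; apply Equiv.ext; intro i; apply Fin.ext
  rw [← dig_valK, ← dig_valK, h]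

theorem mulK_valK (a b : A10) : mulK (valK a) (valK b) = valK (a * b) := by
  have h : ∀ i : Fin 10, dig (valK a) (dig (valK b) i.val) = ((a * b).1 i).val := by
    intro i; rw [dig_valK b i, dig_valK a (b.1 i)]; rfl
  have h0 := h 0; have h1 := h 1; have h2 := h 2; have h3 := h 3; have h4 := h 4
  have h5 := h 5; have h6 := h 6; have h7 := h 7; have h8 := h 8; have h9 := h 9
  simp only [Fin.val_zero, Fin.val_one, Fin.val_two] at h0 h1 h2 h3 h4 h5 h6 h7 h8 h9
  simp only [mulK, force_eq, valK, pack] at h0 h1 h2 h3 h4 h5 h6 h7 h8 h9 ⊢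
  simp_all

def c3 (i j k : Fin 10) : A10 :=
  if h : i ≠ j ∧ j ≠ k then
    ⟨Equiv.swap i j * Equiv.swap j k, by
      simp [Equiv.Perm.mem_alternatingGroup, Equiv.Perm.sign_mul, Equiv.Perm.sign_swap h.1,
        Equiv.Perm.sign_swap h.2]⟩
  else 1

def idK : ℕ := pack id

/-- write an even permutation code as a product of three-cycles -/
def decomp : ℕ → ℕ → ℕ → A10
  | 0, _, _ => 1
  | n + 1, i, k =>
    let j := dig k i
    if j = i then decomp n (i + 1) k
    else
      let l := if j = i + 1 then i + 2 else i + 1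
      let t := c3 (Fin.ofNat 10 i) (Fin.ofNat 10 j) (Fin.ofNat 10 l)
      let t' := c3 (Fin.ofNat 10 l) (Fin.ofNat 10 j) (Fin.ofNat 10 i)
      force (mulK (valK t') k) fun k' => force (i + 1) fun i' => t * decomp n i' k'

def eltK (k : ℕ) : A10 := decomp 8 0 k

def good (k : ℕ) : Bool := force k fun k => Nat.beq (valK (eltK k)) k

section Eval

variable {W : Type u} [AddCommGroup W] [Module (ZMod 5) W]
variable (ρ : A10 →* Module.End (ZMod 5) W)

open scoped Classical in
noncomputable def rK (k : ℕ) : Module.End (ZMod 5) W :=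
  if h : ∃ a : A10, valK a = k then ρ h.choose else 0

theorem rK_valK (a : A10) : rK ρ (valK a) = ρ a := by
  have h : ∃ b : A10, valK b = valK a := ⟨a, rfl⟩
  rw [rK, dif_pos h, valK_inj h.choose_spec]

def IsKey (k : ℕ) : Prop := ∃ a : A10, valK a = k

theorem isKey_of_good {k : ℕ} (h : good k = true) : IsKey k :=
  ⟨eltK k, Nat.eq_of_beq_eq_true (by simpa [good, force_eq] using h)⟩

theorem rK_mulK {a b : ℕ} (ha : IsKey a) (hb : IsKey b) :
    IsKey (mulK a b) ∧ rK ρ (mulK a b) = rK ρ a * rK ρ b := by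
  obtain ⟨x, rfl⟩ := ha; obtain ⟨y, rfl⟩ := hb
  rw [mulK_valK, rK_valK, rK_valK, rK_valK, map_mul]
  exact ⟨⟨x * y, rfl⟩, rfl⟩

/-- evaluation of a group algebra element -/
noncomputable def ev (l : List (ℕ × ℕ)) : Module.End (ZMod 5) W :=
  (l.map fun t => (t.1 : ZMod 5) • rK ρ t.2).sum

theorem ev_nil : ev ρ [] = 0 := rfl

theorem ev_cons (t : ℕ × ℕ) (l : List (ℕ × ℕ)) :
    ev ρ (t :: l) = (t.1 : ZMod 5) • rK ρ t.2 + ev ρ l := by
  simp [ev]

theorem ev_append (l m : List (ℕ × ℕ)) : ev ρ (l ++ m) = ev ρ l + ev ρ m := by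
  simp [ev]

def Keys (l : List (ℕ × ℕ)) : Prop := ∀ t ∈ l, IsKey t.2

def keysOK (l : List (ℕ × ℕ)) : Bool := l.all fun t => good t.2

theorem keys_of_ok {l : List (ℕ × ℕ)} (h : keysOK l = true) : Keys l := fun t ht =>
  isKey_of_good (List.all_eq_true.1 h t ht)

def smulL (c : ℕ) (l : List (ℕ × ℕ)) : List (ℕ × ℕ) := l.map fun t => (c * t.1 % 5, t.2)

theorem ev_smulL (c : ℕ) (l : List (ℕ × ℕ)) : ev ρ (smulL c l) = (c : ZMod 5) • ev ρ l := by
  induction l with
  | nil => simp [smulL, ev]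
  | cons t l ih =>
    rw [show smulL c (t :: l) = (c * t.1 % 5, t.2) :: smulL c l from rfl, ev_cons, ev_cons, ih,
      smul_add, smul_smul, ZMod.natCast_mod, Nat.cast_mul]

theorem keys_smulL {c : ℕ} {l : List (ℕ × ℕ)} (h : Keys l) : Keys (smulL c l) := by
  intro t ht
  obtain ⟨s, hs, rfl⟩ := List.mem_map.1 ht
  exact h s hs

def rmulL (g : ℕ) (l : List (ℕ × ℕ)) : List (ℕ × ℕ) := l.map fun t => (t.1, mulK g t.2)

theorem keys_rmulL {g : ℕ} (hg : IsKey g) {l : List (ℕ × ℕ)} (hl : Keys l) :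
    Keys (rmulL g l) ∧ ev ρ (rmulL g l) = rK ρ g * ev ρ l := by
  induction l with
  | nil => simp [rmulL, ev, Keys]
  | cons t l ih =>
    obtain ⟨k1, e1⟩ := ih (fun s hs => hl s (List.mem_cons_of_mem _ hs))
    obtain ⟨k2, e2⟩ := rK_mulK ρ hg (hl t List.mem_cons_self)
    refine ⟨?_, ?_⟩
    · intro s hs
      rcases List.mem_cons.1 hs with rfl | hs
      · exact k2
      · exact k1 s hs
    · rw [show rmulL g (t :: l) = (t.1, mulK g t.2) :: rmulL g l from rfl, ev_cons, ev_cons, e1, e2,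
        mul_add, mul_smul_comm]

def mulL : List (ℕ × ℕ) → List (ℕ × ℕ) → List (ℕ × ℕ)
  | [], _ => []
  | t :: l, m => smulL t.1 (rmulL t.2 m) ++ mulL l m

theorem keys_mulL : ∀ {l m : List (ℕ × ℕ)}, Keys l → Keys m →
    Keys (mulL l m) ∧ ev ρ (mulL l m) = ev ρ l * ev ρ m
  | [], m, _, _ => by simp [mulL, ev, Keys]
  | t :: l, m, hl, hm => by
    obtain ⟨k1, e1⟩ := keys_mulL (fun s hs => hl s (List.mem_cons_of_mem _ hs)) hm
    obtain ⟨k2, e2⟩ := keys_rmulL ρ (hl t List.mem_cons_self) hm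
    refine ⟨?_, ?_⟩
    · intro s hs
      rcases List.mem_append.1 (by simpa [mulL] using hs) with hs | hs
      · exact keys_smulL k2 s hs
      · exact k1 s hs
    · rw [mulL, ev_append, ev_smulL, e1, e2, ev_cons, add_mul, smul_mul_assoc]

/-- accumulator tree -/
inductive Acc where
  | leaf
  | node (k c : ℕ) (l r : Acc)

def Acc.insert : Acc → ℕ → ℕ → Acc
  | .leaf, k, c => .node k c .leaf .leaf
  | .node k' c' l r, k, c =>
    bif Nat.beq k k' then force ((c' + c) % 5) fun c'' => .node k' c'' l r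
    else bif Nat.blt (Nat.mul k 2654435761 % 1000003) (Nat.mul k' 2654435761 % 1000003) then
      .node k' c' (l.insert k c) r
    else .node k' c' l (r.insert k c)

noncomputable def Acc.eval : Acc → Module.End (ZMod 5) W
  | .leaf => 0
  | .node k c l r => (c : ZMod 5) • rK ρ k + (l.eval + r.eval)

theorem Acc.eval_insert : ∀ (t : Acc) (k c : ℕ),
    (t.insert k c).eval ρ = t.eval ρ + (c : ZMod 5) • rK ρ k
  | .leaf, k, c => by simp [Acc.insert, Acc.eval]
  | .node k' c' l r, k, c => by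
    simp only [Acc.insert]
    cases h : Nat.beq k k'
    · cases h2 : Nat.blt (Nat.mul k 2654435761 % 1000003) (Nat.mul k' 2654435761 % 1000003) <;>
        simp [Acc.eval, Acc.eval_insert, add_assoc, add_left_comm, add_comm]
    · obtain rfl := Nat.eq_of_beq_eq_true h
      simp [force_eq, Acc.eval, add_smul, add_assoc, add_left_comm, add_comm]

def Acc.zero : Acc → Bool
  | .leaf => true
  | .node _ c l r => Nat.beq (c % 5) 0 && (l.zero && r.zero)

theorem Acc.eval_zero : ∀ (t : Acc), t.zero = true → t.eval ρ = 0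
  | .leaf, _ => rfl
  | .node k c l r, h => by
    simp only [Acc.zero, Bool.and_eq_true] at h
    have hc : (c : ZMod 5) = 0 := by
      rw [ZMod.natCast_eq_zero_iff]
      exact Nat.dvd_of_mod_eq_zero (Nat.eq_of_beq_eq_true h.1)
    simp [Acc.eval, hc, Acc.eval_zero l h.2.1, Acc.eval_zero r h.2.2]

def accum : List (ℕ × ℕ) → Acc → Acc
  | [], t => t
  | x :: l, t => force x.2 fun k => force x.1 fun c => accum l (t.insert k c)

theorem eval_accum : ∀ (l : List (ℕ × ℕ)) (t : Acc),
    (accum l t).eval ρ = t.eval ρ + ev ρ l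
  | [], t => by simp [accum, ev_nil]
  | x :: l, t => by
    rw [accum, force_eq, force_eq, eval_accum, Acc.eval_insert, ev_cons]
    abel

/-- normal form table: coset representatives and eigen-elements with their values -/
def red1 (xs : List (ℕ × ℕ)) (k : ℕ) : List ℕ → Option (ℕ × ℕ)
  | [] => none
  | r :: rs =>
    match xs.find? (fun x => Nat.beq (mulK r x.2) k) with
    | some x => some (x.1, r)
    | none => red1 xs k rs

def redT (reps : List ℕ) (xs : List (ℕ × ℕ)) (t : ℕ × ℕ) : ℕ × ℕ :=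
  force t.2 fun k => match red1 xs k reps with
  | some y => (t.1 * y.1 % 5, y.2)
  | none => t

def expand (R : List (List (ℕ × ℕ))) : List (ℕ × ℕ × ℕ × ℕ) → List (ℕ × ℕ)
  | [] => []
  | q :: qs =>
    smulL q.1 (rmulL q.2.1 (mulL (R.getD q.2.2.1 []) [(1, q.2.2.2)])) ++ expand R qs

def allKeys (qs : List (ℕ × ℕ × ℕ × ℕ)) : Bool :=
  qs.all fun q => good q.2.1 && good q.2.2.2

def check (target : List (ℕ × ℕ)) (qs : List (ℕ × ℕ × ℕ × ℕ)) (R : List (List (ℕ × ℕ)))
    (reps : List ℕ) (xs : List (ℕ × ℕ)) : Bool :=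
  (accum ((target ++ expand R qs).map (redT reps xs)) .leaf).zero

theorem red1_spec (xs : List (ℕ × ℕ)) (k : ℕ) : ∀ (rs : List ℕ) (y : ℕ × ℕ),
    red1 xs k rs = some y → y.2 ∈ rs ∧ ∃ x ∈ xs, x.1 = y.1 ∧ mulK y.2 x.2 = k
  | [], y, h => by simp [red1] at h
  | r :: rs, y, h => by
    simp only [red1] at h
    split at h
    · next x hx =>
      obtain rfl := Option.some.inj h
      exact ⟨List.mem_cons_self, x, List.mem_of_find?_eq_some hx, rfl,
        Nat.eq_of_beq_eq_true (List.find?_some hx :)⟩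
    · obtain ⟨h1, h2⟩ := red1_spec xs k rs y h
      exact ⟨List.mem_cons_of_mem _ h1, h2⟩

theorem redT_sound {reps : List ℕ} {xs : List (ℕ × ℕ)} {v : W} (hr : ∀ r ∈ reps, IsKey r)
    (hx : ∀ x ∈ xs, IsKey x.2 ∧ rK ρ x.2 v = (x.1 : ZMod 5) • v) (l : List (ℕ × ℕ)) :
    ev ρ (l.map (redT reps xs)) v = ev ρ l v := by
  induction l with
  | nil => rfl
  | cons t l ih =>
    rw [List.map_cons, ev_cons, ev_cons, LinearMap.add_apply, LinearMap.add_apply, ih]
    congr 1
    simp only [redT, force_eq]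
    split
    · next y hy =>
      obtain ⟨hy1, x, hx1, hx2, hx3⟩ := red1_spec xs t.2 reps y hy
      simp only [LinearMap.smul_apply]
      rw [← hx3, (rK_mulK ρ (hr _ hy1) (hx x hx1).1).2, Module.End.mul_apply, (hx x hx1).2,
        map_smul, smul_smul, ← hx2, ZMod.natCast_mod, Nat.cast_mul]
    · rfl

theorem check_sound {target : List (ℕ × ℕ)} {qs : List (ℕ × ℕ × ℕ × ℕ)}
    {R : List (List (ℕ × ℕ))} {reps : List ℕ} {xs : List (ℕ × ℕ)} {v : W}
    (h : check target qs R reps xs = true) (hq : allKeys qs = true)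
    (hR : ∀ r ∈ R, Keys r) (hr : ∀ r ∈ reps, IsKey r)
    (hx : ∀ x ∈ xs, IsKey x.2 ∧ rK ρ x.2 v = (x.1 : ZMod 5) • v)
    (hrel : ∀ q ∈ qs, ev ρ (R.getD q.2.2.1 []) (rK ρ q.2.2.2 v) = 0) :
    ev ρ target v = 0 := by
  have hz := Acc.eval_zero ρ _ h
  rw [eval_accum] at hz
  have h1 : ev ρ ((target ++ expand R qs).map (redT reps xs)) v = 0 := by
    simpa [Acc.eval] using congrArg (fun f : Module.End (ZMod 5) W => f v) hz
  rw [redT_sound ρ hr hx, ev_append, LinearMap.add_apply] at h1
  have h2 : ev ρ (expand R qs) v = 0 := by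
    clear h hz h1
    induction qs with
    | nil => rfl
    | cons q qs ih =>
      simp only [allKeys, List.all_cons, Bool.and_eq_true] at hq
      have hg := isKey_of_good hq.1.1
      have hh := isKey_of_good hq.1.2
      have hk : Keys (R.getD q.2.2.1 []) := by
        rw [List.getD_eq_getElem?_getD]
        cases hR' : R[q.2.2.1]? with
        | none => simp [Keys]
        | some r => simpa using hR r (List.mem_of_getElem? hR')
      have hs : Keys [(1, q.2.2.2)] := by
        intro t ht; obtain rfl := List.mem_singleton.1 ht; exact hh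
      obtain ⟨k1, e1⟩ := keys_mulL ρ hk hs
      obtain ⟨_, e2⟩ := keys_rmulL ρ hg k1
      rw [expand, ev_append, ev_smulL, e2, e1, LinearMap.add_apply,
        ih (by simpa [allKeys] using hq.2) (fun s hs => hrel s (List.mem_cons_of_mem _ hs)), add_zero]
      have hq0 := hrel q List.mem_cons_self
      rw [List.getD_eq_getElem?_getD] at hq0
      simp [ev_cons, ev_nil, Module.End.mul_apply, hq0]
  rwa [h2, add_zero] at h1

theorem check_op {target : List (ℕ × ℕ)} {qs : List (ℕ × ℕ × ℕ × ℕ)}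
    {R : List (List (ℕ × ℕ))} (h : check target qs R [] [] = true) (hq : allKeys qs = true)
    (hR : R.all keysOK = true) (hrel : ∀ r ∈ R, ev ρ r = 0) : ev ρ target = 0 := by
  refine LinearMap.ext fun v => check_sound ρ h hq (fun r hr => keys_of_ok (List.all_eq_true.1 hR r hr))
    (by simp) (by simp) ?_
  intro q _
  rw [List.getD_eq_getElem?_getD]
  cases hR' : R[q.2.2.1]? with
  | none => simp [ev_nil]
  | some r => simp [hrel r (List.mem_of_getElem? hR')]

end Eval

end Cfsg.Agent.A10Five36
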