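import Mathlib

/-! Rank bookkeeping for idempotent endomorphisms (S4100, `p = 5`). -/

set_option autoImplicit false

universe u

namespace Cfsg.Agent.A10Five36

variable {K : Type*} [Field K] {W : Type u} [AddCommGroup W] [Module K W] [FiniteDimensional K W]

/-- rank of an endomorphism -/
noncomputable def rnk (X : Module.End K W) : ℕ := Module.finrank K (LinearMap.range X)

omit [FiniteDimensional K W] in
theorem mem_range_idem {X : Module.End K W} (h : X * X = X) {w : W}
    (hw : w ∈ LinearMap.range X) : X w = w := by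
  obtain ⟨u, rfl⟩ := hw
  exact congrArg (fun f : Module.End K W => f u) h

theorem rnk_units {a : ℕ} (Z X : Module.End K W) (A B : Fin a → Module.End K W)
    (hX : X * X = X) (hZ : Z * Z = Z) (hsum : ∑ i, B i * X * A i = Z)
    (hort : ∀ i j, X * A i * (B j * X) = if i = j then X else 0) :
    rnk Z = a * rnk X := by
  have hBX : ∀ j, Z * (B j * X) = B j * X := by
    intro j
    rw [← hsum, Finset.sum_mul, Finset.sum_eq_single j]
    · rw [mul_assoc (B j * X) (A j), mul_assoc (B j) X, ← mul_assoc X (A j), hort, if_pos rfl]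
    · intro i _ hij
      rw [mul_assoc (B i * X) (A i), mul_assoc (B i) X, ← mul_assoc X (A i), hort, if_neg hij,
        mul_zero]
    · simp
  let Φ : LinearMap.range Z →ₗ[K] (Fin a → LinearMap.range X) :=
    LinearMap.pi fun i => (X.rangeRestrict.comp (A i)).comp (LinearMap.range Z).subtype
  have hΦ : ∀ z i, ((Φ z i : LinearMap.range X) : W) = X (A i z.1) := fun _ _ => rfl
  have hinj : Function.Injective Φ := by
    intro z z' h
    apply Subtype.ext
    have hz : ∀ u : LinearMap.range Z, (u : W) = ∑ i, B i (X (A i u.1)) := by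
      intro u
      calc (u : W) = Z u.1 := (mem_range_idem hZ u.2).symm
        _ = (∑ i, B i * X * A i) u.1 := by rw [hsum]
        _ = _ := by simp [LinearMap.sum_apply, Module.End.mul_apply]
    rw [hz z, hz z']
    refine Finset.sum_congr rfl fun i _ => ?_
    rw [← hΦ z i, ← hΦ z' i, h]
  have hsurj : Function.Surjective Φ := by
    intro w
    have hmem : (∑ j, B j (w j).1) ∈ LinearMap.range Z := by
      refine ⟨∑ j, B j (w j).1, ?_⟩
      rw [map_sum]
      refine Finset.sum_congr rfl fun j _ => ?_
      conv_lhs => rw [← mem_range_idem hX (w j).2]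
      conv_rhs => rw [← mem_range_idem hX (w j).2]
      exact congrArg (fun f : Module.End K W => f (w j).1) (hBX j)
    refine ⟨⟨_, hmem⟩, funext fun i => Subtype.ext ?_⟩
    rw [hΦ, map_sum, map_sum, Finset.sum_eq_single i]
    · have h := congrArg (fun f : Module.End K W => f (w i).1) (hort i i)
      simp only [if_true, Module.End.mul_apply, mem_range_idem hX (w i).2] at h
      exact h
    · intro j _ hji
      have h := congrArg (fun f : Module.End K W => f (w j).1) (hort i j)
      simp only [if_neg (Ne.symm hji), Module.End.mul_apply, mem_range_idem hX (w j).2] at h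
      simpa using h
    · simp
  have h := (LinearEquiv.ofBijective Φ ⟨hinj, hsurj⟩).finrank_eq
  rw [Module.finrank_pi_fintype] at h
  simpa [rnk, Finset.sum_const, Finset.card_univ] using h

theorem rnk_split (Z Q : Module.End K W) (hQ : Q * Q = Q) (hc : Q * Z = Z * Q) :
    rnk Z = rnk (Z * Q) + rnk (Z * (1 - Q)) := by
  have hdis : LinearMap.range (Z * Q) ⊓ LinearMap.range (Z * (1 - Q)) = ⊥ := by
    rw [eq_bot_iff]
    rintro x ⟨⟨a, rfl⟩, b, hb⟩
    have h1 : Q * (Z * Q) = Z * Q := by rw [← mul_assoc, hc, mul_assoc, hQ]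
    have h2 : Q * (Z * (1 - Q)) = 0 := by rw [← mul_assoc, hc, mul_assoc, mul_sub, mul_one, hQ, sub_self, mul_zero]
    have e1 := congrArg (fun f : Module.End K W => f a) h1
    have e2 := congrArg (fun f : Module.End K W => f b) h2
    simp only [Module.End.mul_apply, LinearMap.zero_apply] at e1 e2
    rw [Submodule.mem_bot]
    calc (Z * Q) a = Q ((Z * Q) a) := e1.symm
      _ = Q ((Z * (1 - Q)) b) := by rw [hb]
      _ = 0 := e2
  have hsup : LinearMap.range (Z * Q) ⊔ LinearMap.range (Z * (1 - Q)) = LinearMap.range Z := by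
    apply le_antisymm
    · refine sup_le ?_ ?_ <;> rintro x ⟨a, rfl⟩ <;> exact ⟨_, rfl⟩
    · rintro x ⟨a, rfl⟩
      rw [Submodule.mem_sup]
      refine ⟨_, ⟨a, rfl⟩, _, ⟨a, rfl⟩, ?_⟩
      rw [← LinearMap.add_apply, ← mul_add, add_sub_cancel, mul_one]
  have h := Submodule.finrank_sup_add_finrank_inf_eq (LinearMap.range (Z * Q))
    (LinearMap.range (Z * (1 - Q)))
  rw [hsup, hdis, finrank_bot, add_zero] at h
  exact h

theorem rnk_comp_le (C D : Module.End K W) : rnk (C * D) ≤ rnk D := by
  rw [rnk, Module.End.mul_eq_comp, LinearMap.range_comp]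
  exact Submodule.finrank_map_le _ _

theorem rnk_comp_le' (C D : Module.End K W) : rnk (C * D) ≤ rnk C :=
  Submodule.finrank_mono (by rintro x ⟨a, rfl⟩; exact ⟨_, rfl⟩)

theorem rnk_conj {X Y u v : Module.End K W} (huv : v * u = 1) (h : u * X = Y * u) :
    rnk X ≤ rnk Y := by
  have : X = v * (Y * u) := by rw [← h, ← mul_assoc, huv, one_mul]
  rw [this]
  exact (rnk_comp_le _ _).trans (rnk_comp_le' _ _)

theorem eq_zero_of_rnk {X : Module.End K W} (h : rnk X = 0) : X = 0 :=
  LinearMap.range_eq_bot.1 (Submodule.finrank_eq_zero.1 h)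

end Cfsg.Agent.A10Five36
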