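import Cfsg.Agent.Lib.A10Five36Tools
import Cfsg.Agent.Lib.A10Five36Lin
import Cfsg.Agent.Lib.A10Five36Data

/-! Three-cycles and double three-cycles have fixed spaces of equal dimension (S4100, `p = 5`). -/

set_option autoImplicit false
set_option maxRecDepth 100000

universe u

namespace Cfsg.Agent.A10Five36

theorem conjD_ok :
    conjL xD xDi (elemsA4R.map fun g => (1, g)) (elemsA4D.map fun g => (1, g)) = true := by
  decide +kernel

theorem nsTD_ok : (nsCheck nsTD && nsTD.all fun t => eqL (rmulL t.1 (normL nsTD)) (normL nsTD)) = true := by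
  decide +kernel

theorem nsLD_ok : (nsCheck nsLD && nsLD.all fun t => eqL (rmulL t.1 (normL nsLD)) (normL nsLD)) = true := by
  decide +kernel

theorem keysD_ok : ([elemsA4D.map fun g => (1, g), normL nsTD, normL nsLD].all keysOK &&
    (keysOK pS && keysOK pD && keysOK uSD && keysOK wSD && keysOK uDS && keysOK wDS) &&
    (allKeys qsSD && allKeys qsDS)) = true := by
  decide +kernel

theorem formSD_ok : eqL tSD (mulL pS (mulL wSD (mulL pD (mulL uSD pS)))) = true := by decide +kernel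

theorem formDS_ok : eqL tDS (mulL pD (mulL wDS (mulL pS (mulL uDS pD)))) = true := by decide +kernel

theorem certSD_ok : check (tSD ++ smulL 4 pS) qsSD
    [elemsA4D.map fun g => (1, g), normL nsTD, normL nsLD] [] [] = true := by
  decide +kernel

theorem certDS_ok : check (tDS ++ smulL 4 pD) qsDS
    [elemsA4D.map fun g => (1, g), normL nsTD, normL nsLD] [] [] = true := by
  decide +kernel

local instance factFiveD : Fact (Nat.Prime 5) := ⟨by norm_num⟩

variable {W : Type u} [AddCommGroup W] [Module (ZMod 5) W]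
variable (ρ : A10 →* Module.End (ZMod 5) W)

theorem rnk_SD [FiniteDimensional (ZMod 5) W] (hfix : NoFix ρ)
    (hA4 : ev ρ (elemsA4R.map fun g => (1, g)) = 0) : rnk (ev ρ pS) = rnk (ev ρ pD) := by
  have hD : ev ρ (elemsA4D.map fun g => (1, g)) = 0 := by
    rw [(op_conj ρ conjD_ok).1, hA4, mul_zero, zero_mul]
  have hT := nsTD_ok
  have hL := nsLD_ok
  rw [Bool.and_eq_true] at hT hL
  have hrel : ∀ r ∈ [elemsA4D.map fun g => (1, g), normL nsTD, normL nsLD], ev ρ r = 0 := by
    intro r hr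
    simp only [List.mem_cons, List.not_mem_nil, or_false] at hr
    rcases hr with rfl | rfl | rfl
    · exact hD
    · exact norm_zero hfix hT.1 hT.2
    · exact norm_zero hfix hL.1 hL.2
  have hk := keysD_ok
  simp only [Bool.and_eq_true] at hk
  obtain ⟨⟨hR, ⟨⟨⟨⟨k1, k2⟩, k3⟩, k4⟩, k5⟩, k6⟩, q1, q2⟩ := hk
  have key : ∀ {a b w u t : List (ℕ × ℕ)} {qs : List (ℕ × ℕ × ℕ × ℕ)},
      keysOK a = true → keysOK b = true → keysOK w = true → keysOK u = true → allKeys qs = true →
      eqL t (mulL a (mulL w (mulL b (mulL u a)))) = true →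
      check (t ++ smulL 4 a) qs [elemsA4D.map fun g => (1, g), normL nsTD, normL nsLD] [] [] = true →
      rnk (ev ρ a) ≤ rnk (ev ρ b) := by
    intro a b w u t qs ka kb kw ku kq hform hcert
    obtain ⟨h1, e1⟩ := keys_mulL ρ (keys_of_ok ku) (keys_of_ok ka)
    obtain ⟨h2, e2⟩ := keys_mulL ρ (keys_of_ok kb) h1
    obtain ⟨h3, e3⟩ := keys_mulL ρ (keys_of_ok kw) h2
    obtain ⟨-, e4⟩ := keys_mulL ρ (keys_of_ok ka) h3
    have ht := op_eq ρ hform
    rw [e4, e3, e2, e1] at ht
    have h0 := check_op ρ hcert kq hR hrel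
    rw [ev_append, ev_smulL, neg_four, add_neg_eq_zero] at h0
    have e : ev ρ a = (ev ρ a * ev ρ w) * (ev ρ b * (ev ρ u * ev ρ a)) := by
      rw [mul_assoc, ← ht, h0]
    calc rnk (ev ρ a) = rnk ((ev ρ a * ev ρ w) * (ev ρ b * (ev ρ u * ev ρ a))) := by rw [← e]
      _ ≤ rnk (ev ρ b * (ev ρ u * ev ρ a)) := rnk_comp_le _ _
      _ ≤ rnk (ev ρ b) := rnk_comp_le' _ _
  exact le_antisymm (key k1 k2 k4 k3 q1 formSD_ok certSD_ok) (key k2 k1 k6 k5 q2 formDS_ok certDS_ok)

end Cfsg.Agent.A10Five36
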