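import Cfsg.Agent.Lib.A10Five36K
import Cfsg.Agent.Lib.A10Five36A4
import Cfsg.Agent.Lib.A10Five36D

/-! The module lemma for `A_10` over `F_5` (S4100, `p = 5`). -/

set_option autoImplicit false
set_option maxHeartbeats 2000000
set_option maxRecDepth 100000

universe u

namespace Cfsg.Agent.A10Five36

instance fact5 : Fact (Nat.Prime 5) := ⟨by decide⟩

attribute [local irreducible] ev rK check mulL rmulL smulL oneSub subOne eL eR pS pT pD pE sT uT
  elemsL elemsR qsGenR nsR elemsA4R swapK swapKi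

-- keep the scalar semiring on the path used by the certificate files
attribute [local instance high] ZMod.commRing CommRing.toCommSemiring CommSemiring.toSemiring

section Abstract

variable {W : Type u} [AddCommGroup W] [Module (ZMod 5) W] [FiniteDimensional (ZMod 5) W]

/-- the seven rank equations of one block -/
theorem block_count {a : ℕ} {Z P Q D D' u : Module.End (ZMod 5) W}
    (hZ : Z * Z = Z) (hP : P * P = P) (hQ : Q * Q = Q) (hD : D * D = D)
    (zP : Z * P = P * Z) (zQ : Z * Q = Q * Z) (zD : Z * D = D * Z) (zu : Z * u = u * Z)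
    (hPQ : P * Q = Q * P) (hDP : D * P = P * Q) (hDP' : D' * P = P * Q)
    (cPD : D * P = P * D) (cQD : D * Q = Q * D) (cPD' : D' * P = P * D')
    (i1 : (1 - P) * (1 - Q) * D = D * (1 - P))
    (i2 : (1 - P) * (1 - Q) * (1 - D) = D' * (1 - P))
    (hu : u * u = 1) (huD : u * D = D' * u) (huD' : u * D' = D * u)
    {A B : Fin a → Module.End (ZMod 5) W} (hXX : Z * P * (Z * P) = Z * P)
    (hsum : (∑ i, B i * (Z * P) * A i) = Z)
    (hort : ∀ i j, Z * P * A i * (B j * (Z * P)) = if i = j then Z * P else 0)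
    (cA : ∀ i, A i * Q = Q * A i) (cB : ∀ i, B i * Q = Q * B i) :
    rnk Z = a * rnk (Z * P) ∧ rnk (Z * Q) = a * rnk (Z * P * Q) ∧
      a * rnk (Z * P) + 3 * rnk (Z * P * Q) =
        rnk (Z * P) + a * rnk (Z * P * Q) + 2 * rnk (Z * D) := by
  have e1 : rnk Z = a * rnk (Z * P) := rnk_units Z (Z * P) A B hXX hZ hsum hort
  have qc : Q * (Z * P) = Z * P * Q := by
    rw [← mul_assoc, ← zQ, mul_assoc, ← hPQ, mul_assoc]
  have hX2 : Z * P * Q * (Z * P * Q) = Z * P * Q := by
    rw [mul_assoc (Z * P), ← mul_assoc Q, qc, ← mul_assoc, ← mul_assoc, hXX, mul_assoc, hQ]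
  have hZQ : Z * Q * (Z * Q) = Z * Q := by
    rw [mul_assoc Z, ← mul_assoc Q Z, ← zQ, mul_assoc Z Q Q, hQ, ← mul_assoc, hZ]
  have e2 : rnk (Z * Q) = a * rnk (Z * P * Q) := by
    refine rnk_units (Z * Q) (Z * P * Q) A B hX2 hZQ ?_ ?_
    · refine Eq.trans ?_ (congrArg (fun X : Module.End (ZMod 5) W => X * Q) hsum)
      show _ = (∑ i, B i * (Z * P) * A i) * Q
      rw [Finset.sum_mul]
      refine Finset.sum_congr rfl fun i _ => ?_
      rw [← mul_assoc (B i) (Z * P) Q, mul_assoc _ Q (A i), ← cA i, ← mul_assoc]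
    · intro i j
      have h : Z * P * Q * A i * (B j * (Z * P * Q)) = Z * P * A i * (B j * (Z * P)) * (Q * Q) := by
        rw [mul_assoc (Z * P) Q (A i), ← cA i, ← mul_assoc (Z * P) (A i) Q,
          mul_assoc (Z * P * A i) Q, ← mul_assoc Q (B j), ← cB j, mul_assoc (B j) Q,
          ← mul_assoc Q (Z * P) Q, qc, mul_assoc (Z * P) Q Q, ← mul_assoc (B j), ← mul_assoc,
          ← mul_assoc (B j)]
      rw [h, hort, hQ]
      split <;> simp
  have s1 := rnk_split Z P hP zP.symm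
  have zq' : Q * (Z * (1 - P)) = Z * (1 - P) * Q := by
    rw [← mul_assoc, ← zQ, mul_assoc, mul_sub, mul_one, ← hPQ, mul_assoc, sub_mul, one_mul]
  have s2 := rnk_split (Z * (1 - P)) Q hQ zq'
  have zd' : D * (Z * (1 - P) * (1 - Q)) = Z * (1 - P) * (1 - Q) * D := by
    have c1 : D * (1 - P) = (1 - P) * D := by rw [mul_sub, sub_mul, mul_one, one_mul, cPD]
    have c2 : D * (1 - Q) = (1 - Q) * D := by rw [mul_sub, sub_mul, mul_one, one_mul, cQD]
    rw [← mul_assoc, ← mul_assoc, ← zD, mul_assoc Z D, c1, ← mul_assoc, mul_assoc _ D, c2,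
      ← mul_assoc]
  have s3 := rnk_split (Z * (1 - P) * (1 - Q)) D hD zd'
  rw [mul_assoc Z (1 - P) (1 - Q), mul_assoc Z _ D, i1, mul_assoc Z _ (1 - D), i2,
    ← mul_assoc Z D, ← mul_assoc Z D'] at s3
  have s4 := rnk_split (Z * Q) P hP (by rw [← mul_assoc, ← zP, mul_assoc, hPQ, mul_assoc])
  have q1 : Z * Q * P = Z * P * Q := by rw [mul_assoc, ← hPQ, mul_assoc]
  have q2 : Z * Q * (1 - P) = Z * (1 - P) * Q := by
    rw [mul_assoc, mul_assoc, mul_sub, sub_mul, mul_one, one_mul, hPQ]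
  rw [q1, q2] at s4
  have zD'' : Z * D' = D' * Z := by
    have h : D' = u * D * u := by rw [huD, mul_assoc, hu, mul_one]
    rw [h, ← mul_assoc Z, ← mul_assoc Z, zu, mul_assoc u Z D, zD, ← mul_assoc u D,
      mul_assoc (u * D) Z, zu, ← mul_assoc]
  have s5 := rnk_split (Z * D) P hP (by rw [← mul_assoc, ← zP, mul_assoc, ← cPD, mul_assoc])
  have s6 := rnk_split (Z * D') P hP (by rw [← mul_assoc, ← zP, mul_assoc, ← cPD', mul_assoc])
  rw [mul_assoc Z D P, hDP, ← mul_assoc] at s5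
  rw [mul_assoc Z D' P, hDP', ← mul_assoc] at s6
  have y1 : rnk (Z * D) ≤ rnk (Z * D') :=
    rnk_conj hu (by rw [← mul_assoc, ← zu, mul_assoc, huD, mul_assoc])
  have y2 : rnk (Z * D') ≤ rnk (Z * D) :=
    rnk_conj hu (by rw [← mul_assoc, ← zu, mul_assoc, huD', mul_assoc])
  refine ⟨e1, e2, ?_⟩
  rw [mul_assoc Z (1 - P) (1 - Q)] at s2
  omega

theorem three_zero {E K P Q D : Module.End (ZMod 5) W} (hE : E * E = E) (hQ : Q * Q = Q)
    (hK : K = 1 - E) (cQ : E * Q = Q * E) (cP : E * P = P * E) (cD : E * D = D * E)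
    (hPD : rnk P = rnk D)
    (hEb : rnk E = 5 * rnk (E * P) ∧ rnk (E * Q) = 5 * rnk (E * P * Q) ∧
      5 * rnk (E * P) + 3 * rnk (E * P * Q) = rnk (E * P) + 5 * rnk (E * P * Q) + 2 * rnk (E * D))
    (hKb : rnk K = 3 * rnk (K * P) ∧ rnk (K * Q) = 3 * rnk (K * P * Q) ∧
      3 * rnk (K * P) + 3 * rnk (K * P * Q) = rnk (K * P) + 3 * rnk (K * P * Q) + 2 * rnk (K * D)) :
    E * Q = E := by
  subst hK
  have p1 := rnk_split P E hE cP
  have d1 := rnk_split D E hE cD
  have eP : P * (1 - E) = (1 - E) * P := by rw [mul_sub, sub_mul, mul_one, one_mul, cP]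
  have eD : D * (1 - E) = (1 - E) * D := by rw [mul_sub, sub_mul, mul_one, one_mul, cD]
  rw [← cP, eP] at p1
  rw [← cD, eD] at d1
  obtain ⟨a1, a2, a3⟩ := hEb
  obtain ⟨b1, b2, b3⟩ := hKb
  have s := rnk_split E Q hQ cQ.symm
  have z : E * (1 - Q) = 0 := eq_zero_of_rnk (by omega)
  rw [mul_sub, mul_one, sub_eq_zero] at z
  exact z.symm

theorem move_range {E s : Module.End (ZMod 5) W} {Q : Module.End (ZMod 5) W} (hsQ : s * Q = Q)
    (hEQ : E * Q = E) (cQ : E * Q = Q * E) : s * E = E := by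
  have hE : E = Q * E := by rw [← cQ, hEQ]
  calc s * E = s * (Q * E) := by rw [← hE]
    _ = E := by rw [← mul_assoc, hsQ, ← hE]

theorem eq_zero_of_fix {E : Module.End (ZMod 5) W} (h : ∀ v, E v = v → v = 0) (hE : E * E = E) :
    E = 0 :=
  LinearMap.ext fun w => h (E w) (by rw [← Module.End.mul_apply, hE])

omit [FiniteDimensional (ZMod 5) W] in
theorem comm_K {E K Y : Module.End (ZMod 5) W} (hK : K = 1 - E) (h : E * Y = Y * E) :
    K * Y = Y * K := by
  subst hK
  rw [sub_mul, mul_sub, one_mul, mul_one, h]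

end Abstract

def relList : List ℕ := (pS ++ pT ++ pD ++ pE).map (fun t => t.2) ++ [uT, sT]

theorem keys4 : keysOK pS = true ∧ keysOK pT = true ∧ keysOK pD = true ∧ keysOK pE = true ∧
    keysOK (oneSub pS) = true ∧ keysOK (oneSub pT) = true ∧ keysOK (oneSub pD) = true ∧
    good uT = true ∧ good sT = true := by decide +kernel
theorem comm_rel : commK eL relList = true ∧ commK pT elemsL = true := by decide +kernel
theorem ids : eqL (mulL pT pT) pT = true ∧ eqL (mulL pD pD) pD = true ∧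
    eqL (mulL pS pT) (mulL pT pS) = true ∧ eqL (mulL pD pS) (mulL pS pT) = true ∧
    eqL (mulL pE pS) (mulL pS pT) = true ∧ eqL (mulL pD pS) (mulL pS pD) = true ∧
    eqL (mulL pD pT) (mulL pT pD) = true ∧ eqL (mulL pE pS) (mulL pS pE) = true ∧
    eqL (mulL (mulL (oneSub pS) (oneSub pT)) pD) (mulL pD (oneSub pS)) = true ∧
    eqL (mulL (mulL (oneSub pS) (oneSub pT)) (oneSub pD)) (mulL pE (oneSub pS)) = true ∧
    eqL (rmulL uT pD) (mulL pE [(1, uT)]) = true ∧ eqL (rmulL uT pE) (mulL pD [(1, uT)]) = true ∧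
    eqL (rmulL sT pT) pT = true ∧ Nat.beq (mulK uT uT) idK = true := by decide +kernel
theorem gen_check : qsGenR.all (fun p =>
    check (subOne p.1) p.2 [subOne sT] [] [] && allKeys p.2 && keysOK (subOne sT) &&
      p.2.all (fun q => Nat.beq q.2.2.1 0 && elemsR.any (fun g => Nat.beq g q.2.2.2))) = true ∧
    nsR.all (fun t => qsGenR.any (fun p => Nat.beq p.1 t.1)) = true ∧ nsCheck nsR = true := by
  decide +kernel
theorem swap_check : conjL swapK swapKi eL eR = true := by decide +kernel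

variable {W : Type u} [AddCommGroup W] [Module (ZMod 5) W]
variable (ρ : A10 →* Module.End (ZMod 5) W)

theorem mul_eq {A B C D : List (ℕ × ℕ)} (hA : Keys A) (hB : Keys B) (hC : Keys C) (hD : Keys D)
    (h : eqL (mulL A B) (mulL C D) = true) : ev ρ A * ev ρ B = ev ρ C * ev ρ D := by
  rw [← (keys_mulL ρ hA hB).2, ← (keys_mulL ρ hC hD).2, op_eq ρ h]

theorem mul3_eq {A B C D E : List (ℕ × ℕ)} (hA : Keys A) (hB : Keys B) (hC : Keys C) (hD : Keys D)
    (hE : Keys E) (h : eqL (mulL (mulL A B) C) (mulL D E) = true) :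
    ev ρ A * ev ρ B * ev ρ C = ev ρ D * ev ρ E := by
  rw [← (keys_mulL ρ hA hB).2, ← (keys_mulL ρ (keys_mulL ρ hA hB).1 hC).2,
    ← (keys_mulL ρ hD hE).2, op_eq ρ h]

theorem mul_single {A B : List (ℕ × ℕ)} {k : ℕ} (hk : IsKey k) (hA : Keys A) (hB : Keys B)
    (h : eqL (rmulL k A) (mulL B [(1, k)]) = true) : rK ρ k * ev ρ A = ev ρ B * rK ρ k := by
  have hs : Keys [(1, k)] := by intro t ht; obtain rfl := List.mem_singleton.1 ht; exact hk
  rw [← (keys_rmulL ρ hk hA).2, op_eq ρ h, (keys_mulL ρ hB hs).2, ev_single]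

theorem comm_list {A B : List (ℕ × ℕ)} {G : List ℕ} (h : commK A G = true)
    (hB : ∀ t ∈ B, t.2 ∈ G) : ev ρ A * ev ρ B = ev ρ B * ev ρ A :=
  (comm_ev ρ fun t ht => comm_of_check ρ h (hB t ht)).symm

theorem eL_fixed_by_sT [FiniteDimensional (ZMod 5) W] (hfix : NoFix ρ) :
    rK ρ sT * ev ρ eL = ev ρ eL := by
  have h00 := part00_zero hfix
  have hA4 : ev ρ (elemsA4R.map fun g => (1, g)) = 0 := a4_norm_zero ρ hfix (by
    simpa only [oneSub] using h00)
  have hSD := rnk_SD ρ hfix hA4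
  obtain ⟨kS, kT, kD, kE, k1, k2, k3, ku, ks⟩ := keys4
  obtain ⟨cr, cT⟩ := comm_rel
  obtain ⟨i1, i2, i3, i4, i5, i6, i7, i8, i9, i10, i11, i12, i13, i14⟩ := ids
  have mS : ∀ t ∈ pS, t.2 ∈ relList := fun t ht =>
    List.mem_append.2 (Or.inl (List.mem_map.2 ⟨t, by simp [ht], rfl⟩))
  have mT : ∀ t ∈ pT, t.2 ∈ relList := fun t ht =>
    List.mem_append.2 (Or.inl (List.mem_map.2 ⟨t, by simp [ht], rfl⟩))
  have mD : ∀ t ∈ pD, t.2 ∈ relList := fun t ht =>
    List.mem_append.2 (Or.inl (List.mem_map.2 ⟨t, by simp [ht], rfl⟩))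
  have cu : ev ρ eL * rK ρ uT = rK ρ uT * ev ρ eL :=
    (comm_of_check ρ cr (List.mem_append.2 (Or.inr List.mem_cons_self))).symm
  have eP := comm_list ρ cr mS
  have eQ := comm_list ρ cr mT
  have eD := comm_list ρ cr mD
  have hu : rK ρ uT * rK ρ uT = 1 := by
    rw [← rK_one ρ]; exact rK_mul_of_check ρ (by rw [ku, i14]; rfl)
  have hP : ev ρ pS * ev ρ pS = ev ρ pS := idem_of_eqL ρ (keys_of_ok kS) pS_idem
  have hQ : ev ρ pT * ev ρ pT = ev ρ pT := idem_of_eqL ρ (keys_of_ok kT) i1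
  have hD : ev ρ pD * ev ρ pD = ev ρ pD := idem_of_eqL ρ (keys_of_ok kD) i2
  have j3 := mul_eq ρ (keys_of_ok kS) (keys_of_ok kT) (keys_of_ok kT) (keys_of_ok kS) i3
  have j4 := mul_eq ρ (keys_of_ok kD) (keys_of_ok kS) (keys_of_ok kS) (keys_of_ok kT) i4
  have j5 := mul_eq ρ (keys_of_ok kE) (keys_of_ok kS) (keys_of_ok kS) (keys_of_ok kT) i5
  have j6 := mul_eq ρ (keys_of_ok kD) (keys_of_ok kS) (keys_of_ok kS) (keys_of_ok kD) i6
  have j7 := mul_eq ρ (keys_of_ok kD) (keys_of_ok kT) (keys_of_ok kT) (keys_of_ok kD) i7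
  have j8 := mul_eq ρ (keys_of_ok kE) (keys_of_ok kS) (keys_of_ok kS) (keys_of_ok kE) i8
  have j9 := mul3_eq ρ (keys_of_ok k1) (keys_of_ok k2) (keys_of_ok kD) (keys_of_ok kD) (keys_of_ok k1) i9
  have j10 := mul3_eq ρ (keys_of_ok k1) (keys_of_ok k2) (keys_of_ok k3) (keys_of_ok kE) (keys_of_ok k1) i10
  rw [ev_oneSub, ev_oneSub] at j9 j10
  rw [ev_oneSub] at j10
  have j11 := mul_single ρ (isKey_of_good ku) (keys_of_ok kD) (keys_of_ok kE) i11
  have j12 := mul_single ρ (isKey_of_good ku) (keys_of_ok kE) (keys_of_ok kD) i12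
  have hTL : ∀ g ∈ elemsL, rK ρ g * ev ρ pT = ev ρ pT * rK ρ g := fun g hg =>
    comm_of_check ρ cT hg
  obtain ⟨xE, AE, BE, sE, oE, cE⟩ := unitsE ρ
  obtain ⟨xK, AK, BK, sK, oK, cK⟩ := unitsK ρ hA4
  have hE := eL_idem ρ
  have hK := idem_oneSub ρ hE
  have hOne := ev_oneSub ρ eL
  have hsT : rK ρ sT * ev ρ pT = ev ρ pT := by
    rw [← (keys_rmulL ρ (isKey_of_good ks) (keys_of_ok kT)).2, op_eq ρ i13]
  have hTA := fun i => (cE _ hTL i).1
  have hTB := fun i => (cE _ hTL i).2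
  have hTA' := fun i => (cK _ hTL i).1
  have hTB' := fun i => (cK _ hTL i).2
  clear cE cK hTL hA4 h00 cr
  generalize ev ρ (oneSub eL) = K at *
  generalize ev ρ eL = E at *
  generalize ev ρ pS = P at *
  generalize ev ρ pT = Q at *
  generalize ev ρ pD = D at *
  generalize ev ρ pE = D' at *
  generalize rK ρ uT = u at *
  generalize rK ρ sT = s at *
  have bE := block_count hE hP hQ hD eP eQ eD cu j3 j4 j5 j6 j7 j8 j9 j10 hu j11 j12 xE sE oE
    hTA hTB
  have bK := block_count hK hP hQ hD (comm_K hOne eP) (comm_K hOne eQ)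
    (comm_K hOne eD) (comm_K hOne cu) j3 j4 j5 j6 j7 j8 j9 j10 hu
    j11 j12 xK sK oK hTA' hTB'
  have hEQ := three_zero hE hQ hOne eQ eP eD hSD bE bK
  exact move_range hsT hEQ eQ

theorem rel_one {k h : ℕ} {v : W} (hk : rK ρ k (rK ρ h v) = rK ρ h v) :
    ev ρ ([subOne k].getD 0 []) (rK ρ h v) = 0 := by
  show ev ρ (subOne k) (rK ρ h v) = 0
  rw [subOne, ev_cons, ev_cons, ev_nil, Nat.cast_one, one_smul, neg_four, rK_one, add_zero,
    LinearMap.add_apply, LinearMap.neg_apply, Module.End.one_apply, hk, add_neg_cancel]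

theorem fixed_of_subOne {g : ℕ} {v : W} (h : ev ρ (subOne g) v = 0) : rK ρ g v = v := by
  rw [subOne, ev_cons, ev_cons, ev_nil, Nat.cast_one, one_smul, neg_four, rK_one, add_zero,
    LinearMap.add_apply, LinearMap.neg_apply, Module.End.one_apply, add_neg_eq_zero] at h
  exact h

theorem fixed_shift {E s h : Module.End (ZMod 5) W} (hc : h * E = E * h) (hs : s * E = E) {v : W}
    (hv : E v = v) : s (h v) = h v := by
  have h1 : E (h v) = h v := by rw [← Module.End.mul_apply, ← hc, Module.End.mul_apply, hv]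
  rw [← h1, ← Module.End.mul_apply, hs, h1]

theorem eL_zero [FiniteDimensional (ZMod 5) W] (hfix : NoFix ρ) : ev ρ eL = 0 := by
  have hs := eL_fixed_by_sT ρ hfix
  refine eq_zero_of_fix (fun v hv => nofix hfix gen_check.2.2 v fun t ht => ?_) (eL_idem ρ)
  obtain ⟨p, hp, hpt⟩ := List.any_eq_true.1 (List.all_eq_true.1 gen_check.2.1 t ht)
  have h := List.all_eq_true.1 gen_check.1 p hp
  simp only [Bool.and_eq_true] at h
  obtain ⟨⟨⟨h1, h2⟩, h3⟩, h4⟩ := h
  rw [← Nat.eq_of_beq_eq_true hpt]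
  refine fixed_of_subOne ρ (check_sound ρ h1 h2
    (fun r hr => (List.mem_singleton.1 hr) ▸ keys_of_ok h3) (fun r hr => absurd hr List.not_mem_nil)
    (fun x hx => absurd hx List.not_mem_nil) fun q hq => ?_)
  have hq' := List.all_eq_true.1 h4 q hq
  simp only [Bool.and_eq_true] at hq'
  rw [Nat.eq_of_beq_eq_true hq'.1]
  exact rel_one ρ (fixed_shift
    (comm_of_check ρ comm_eL (List.mem_append.2 (Or.inr (mem_of_any hq'.2)))) hs hv)

theorem all_zero [FiniteDimensional (ZMod 5) W] (hfix : NoFix ρ) (v : W) : v = 0 := by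
  have hL := eL_zero ρ hfix
  have hR : ev ρ eR = 0 := by rw [(op_conj ρ swap_check).1, hL, mul_zero, zero_mul]
  have h := part00_zero hfix
  rw [ev_oneSub, ev_oneSub, hL, hR, sub_zero, mul_one] at h
  simpa using LinearMap.congr_fun h v

/-- The module lemma for `p = 5`, `d = 10`. -/
theorem moduleFive : AltCent86.ModuleLemma.{u} 5 10 := by
  intro V _ _ _ φ hexp
  by_contra hne
  let M : Module (ZMod 5) (Additive V) := AddCommGroup.zmodModule fun x =>
    Additive.toMul.injective (by simpa [toMul_nsmul] using hexp (Additive.toMul x))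
  letI := M
  let ρ : A10 →* Module.End (ZMod 5) (Additive V) :=
    { toFun := fun a => (MonoidHom.toAdditive (φ a).toMonoidHom).toZModLinearMap 5
      map_one' := by
        refine LinearMap.ext fun x => Additive.toMul.injective ?_
        show φ 1 (Additive.toMul x) = Additive.toMul x
        rw [map_one]; rfl
      map_mul' := fun a b => by
        refine LinearMap.ext fun x => Additive.toMul.injective ?_
        show φ (a * b) (Additive.toMul x) = φ a (φ b (Additive.toMul x))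
        rw [map_mul]; rfl }
  have hρ : ∀ a x, Additive.toMul (ρ a x) = φ a (Additive.toMul x) := fun _ _ => rfl
  have hfix : NoFix ρ := by
    intro K hK v hv
    by_contra hv0
    refine hne ⟨Additive.toMul v, fun h => hv0 (Additive.toMul.injective (by rw [h]; rfl)), K, hK,
      fun g hg => ?_⟩
    rw [← hρ, hv g hg]
  have : Module.Finite (ZMod 5) (Additive V) := Module.Finite.of_finite
  obtain ⟨x, hx⟩ := exists_ne (1 : V)
  exact hx (congrArg Additive.toMul (all_zero ρ hfix (Additive.ofMul x)))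

end Cfsg.Agent.A10Five36
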