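import Cfsg.Agent.Lib.A10Five36B
import Cfsg.Agent.Lib.A10Five36Lin

/-! Matrix units for the two idempotent blocks of `A_5` (S4100, `p = 5`). -/

set_option autoImplicit false
set_option maxHeartbeats 2000000
set_option maxRecDepth 100000

universe u

namespace Cfsg.Agent.A10Five36

attribute [local irreducible] ev rK check mulL rmulL smulL eL pS elemsL alphaE betaE alphaK betaK
  kv elemsA4R elemsA4L qsK qsK0 qsKV

variable {W : Type u} [AddCommGroup W] [Module (ZMod 5) W]
variable {ρ : A10 →* Module.End (ZMod 5) W}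

theorem units_core {a : ℕ} {Z P : Module.End (ZMod 5) W} {A B : Fin a → Module.End (ZMod 5) W}
    (hZ : Z * Z = Z) (hP : P * P = P) (hcP : Z * P = P * Z) (hcA : ∀ i, Z * A i = A i * Z)
    (hcB : ∀ i, Z * B i = B i * Z) (hsum : Z * (∑ i, B i * P * A i) = Z)
    (hort : ∀ i j, Z * (P * A i * (B j * P)) = if i = j then Z * P else 0) :
    Z * P * (Z * P) = Z * P ∧ (∑ i, B i * (Z * P) * A i) = Z ∧
      ∀ i j, Z * P * A i * (B j * (Z * P)) = if i = j then Z * P else 0 := by
  refine ⟨?_, ?_, fun i j => ?_⟩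
  · rw [mul_assoc, ← mul_assoc P, ← hcP, mul_assoc Z P P, hP, ← mul_assoc, hZ]
  · refine Eq.trans (Eq.trans (Finset.sum_congr rfl fun i _ => ?_) (Finset.mul_sum _ _ _).symm) hsum
    rw [← mul_assoc (B i), ← hcB i, mul_assoc Z (B i), mul_assoc Z]
  · rw [← mul_assoc (B j), ← hcB j, mul_assoc Z (B j), ← mul_assoc (Z * P * A i) Z,
      mul_assoc (Z * P) (A i) Z, ← hcA i, ← mul_assoc (Z * P) Z, mul_assoc Z P Z, ← hcP,
      ← mul_assoc Z Z, hZ, mul_assoc Z P (A i), mul_assoc Z (P * A i)]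
    exact hort i j

def blockA (as : List (List (ℕ × ℕ))) (i : ℕ) : List (ℕ × ℕ) := as.getD i []

def sumL (p : List (ℕ × ℕ)) (as bs : List (List (ℕ × ℕ))) : ℕ → List (ℕ × ℕ)
  | 0 => []
  | n + 1 => sumL p as bs n ++ mulL (mulL (blockA bs n) p) (blockA as n)

def ortL (p : List (ℕ × ℕ)) (as bs : List (List (ℕ × ℕ))) (i j : ℕ) : List (ℕ × ℕ) :=
  mulL (mulL p (blockA as i)) (mulL (blockA bs j) p) ++ bif Nat.beq i j then smulL 4 p else []

theorem ev_sumL {p : List (ℕ × ℕ)} {as bs : List (List (ℕ × ℕ))}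
    (ha : ∀ i, Keys (blockA as i)) (hb : ∀ i, Keys (blockA bs i)) (hp : Keys p) :
    ∀ n, Keys (sumL p as bs n) ∧ ev ρ (sumL p as bs n) =
      ∑ i : Fin n, ev ρ (blockA bs i) * ev ρ p * ev ρ (blockA as i)
  | 0 => by simp [sumL, ev_nil, Keys]
  | n + 1 => by
    obtain ⟨k1, e1⟩ := ev_sumL ha hb hp n
    have k2 := keys_mulL ρ (hb n) hp
    have k3 := keys_mulL ρ k2.1 (ha n)
    refine ⟨?_, ?_⟩
    · intro t ht
      rw [sumL] at ht
      rcases List.mem_append.1 ht with h | h
      exacts [k1 t h, k3.1 t h]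
    · rw [sumL, ev_append, e1, k3.2, k2.2, Fin.sum_univ_castSucc]
      rfl

theorem keys_blocks {as : List (List (ℕ × ℕ))} (h : as.all keysOK = true) (i : ℕ) :
    Keys (blockA as i) := by
  rw [blockA, List.getD_eq_getElem?_getD]
  cases hi : as[i]? with
  | none => simp [Keys]
  | some r => simpa using keys_of_ok (List.all_eq_true.1 h r (List.mem_of_getElem? hi))

theorem comm_block {Y : Module.End (ZMod 5) W} {as : List (List (ℕ × ℕ))} {G : List ℕ}
    (h : as.all (fun l => l.all fun t => G.any fun g => Nat.beq g t.2) = true)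
    (hY : ∀ g ∈ G, rK ρ g * Y = Y * rK ρ g) (i : ℕ) :
    ev ρ (blockA as i) * Y = Y * ev ρ (blockA as i) := by
  refine comm_ev ρ fun t ht => hY _ (mem_of_any ?_)
  rw [blockA, List.getD_eq_getElem?_getD] at ht
  cases hi : as[i]? with
  | none => simp [hi] at ht
  | some r =>
    rw [hi] at ht
    exact List.all_eq_true.1 (List.all_eq_true.1 h r (List.mem_of_getElem? hi)) t ht

/-- exported shape of the matrix units -/
def HasUnits (ρ : A10 →* Module.End (ZMod 5) W) (a : ℕ) (Z P : Module.End (ZMod 5) W) : Prop :=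
  Z * P * (Z * P) = Z * P ∧
  ∃ A B : Fin a → Module.End (ZMod 5) W, (∑ i, B i * (Z * P) * A i) = Z ∧
    (∀ i j, Z * P * A i * (B j * (Z * P)) = if i = j then Z * P else 0) ∧
    ∀ Y : Module.End (ZMod 5) W, (∀ g ∈ elemsL, rK ρ g * Y = Y * rK ρ g) →
      ∀ i, A i * Y = Y * A i ∧ B i * Y = Y * B i

theorem hasUnits_of {a : ℕ} {z p : List (ℕ × ℕ)} (as bs : List (List (ℕ × ℕ))) (hz : Keys z)
    (hp : Keys p) (hpS : ev ρ p * ev ρ p = ev ρ p)
    (hcz : ∀ g ∈ elemsL, rK ρ g * ev ρ z = ev ρ z * rK ρ g)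
    (hzz : ev ρ z * ev ρ z = ev ρ z)
    (hka : as.all keysOK = true) (hkb : bs.all keysOK = true)
    (ha : as.all (fun l => l.all fun t => elemsL.any fun g => Nat.beq g t.2) = true)
    (hb : bs.all (fun l => l.all fun t => elemsL.any fun g => Nat.beq g t.2) = true)
    (hp' : p.all (fun t => elemsL.any fun g => Nat.beq g t.2) = true)
    (hsum : ev ρ (smulL 4 z ++ mulL z (sumL p as bs a)) = 0)
    (hort : ∀ i j : Fin a, ev ρ (mulL z (ortL p as bs i j)) = 0) :
    HasUnits ρ a (ev ρ z) (ev ρ p) := by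
  let A : Fin a → Module.End (ZMod 5) W := fun i => ev ρ (blockA as i)
  let B : Fin a → Module.End (ZMod 5) W := fun i => ev ρ (blockA bs i)
  obtain ⟨ks, es⟩ := ev_sumL (ρ := ρ) (keys_blocks hka) (keys_blocks hkb) hp a
  rw [ev_append, ev_smulL, neg_four, (keys_mulL ρ hz ks).2, es, neg_add_eq_zero] at hsum
  have h2 : ∀ i j : Fin a, ev ρ z * (ev ρ p * A i * (B j * ev ρ p)) =
      if i = j then ev ρ z * ev ρ p else 0 := by
    intro i j
    have k1 := keys_mulL ρ hp (keys_blocks hka i)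
    have k2 := keys_mulL ρ (keys_blocks hkb j) hp
    have k3 := keys_mulL ρ k1.1 k2.1
    have h := hort i j
    have kk : Keys (ortL p as bs i j) := by
      intro t ht
      rw [ortL] at ht
      rcases List.mem_append.1 ht with ht | ht
      · exact k3.1 t ht
      · cases hb : Nat.beq (i : ℕ) j <;> simp only [hb, cond_true, cond_false] at ht
        · exact absurd ht (List.not_mem_nil)
        · exact keys_smulL hp t ht
    rw [(keys_mulL ρ hz kk).2, ortL, ev_append, k3.2, k1.2, k2.2] at h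
    by_cases hij : i = j
    · subst hij
      rw [show Nat.beq (i : ℕ) i = true from Nat.beq_refl _, cond_true, ev_smulL, neg_four,
        mul_add, mul_neg, add_neg_eq_zero] at h
      rw [if_pos rfl]; exact h
    · have hb : Nat.beq (i : ℕ) j = false := by
        cases hb : Nat.beq (i : ℕ) j with
        | false => rfl
        | true => exact absurd (Fin.ext (Nat.eq_of_beq_eq_true hb)) hij
      rw [hb, cond_false, ev_nil, add_zero] at h
      rw [if_neg hij]; exact h
  obtain ⟨r1, r2, r3⟩ := units_core (A := A) (B := B) hzz hpS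
    (comm_ev ρ (A := p) fun t ht => hcz _ (mem_of_any (List.all_eq_true.1 hp' t ht))).symm
    (fun i => (comm_block ha hcz i).symm) (fun i => (comm_block hb hcz i).symm) hsum.symm h2
  exact ⟨r1, A, B, r2, r3, fun Y hY i => ⟨comm_block ha hY i, comm_block hb hY i⟩⟩

theorem keys_pS : keysOK pS = true := by decide +kernel
theorem keys_eL : keysOK eL = true := by decide +kernel
theorem keys_oneSubL : keysOK (oneSub eL) = true := by decide +kernel
theorem keys_alphaE : alphaE.all keysOK = true ∧ betaE.all keysOK = true := by decide +kernel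
theorem keys_alphaK : alphaK.all keysOK = true ∧ betaK.all keysOK = true := by decide +kernel
theorem in_alphaE : alphaE.all (fun l => l.all fun t => elemsL.any fun g => Nat.beq g t.2) = true ∧
    betaE.all (fun l => l.all fun t => elemsL.any fun g => Nat.beq g t.2) = true := by decide +kernel
theorem in_alphaK : alphaK.all (fun l => l.all fun t => elemsL.any fun g => Nat.beq g t.2) = true ∧
    betaK.all (fun l => l.all fun t => elemsL.any fun g => Nat.beq g t.2) = true := by decide +kernel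
theorem in_pS : pS.all (fun t => elemsL.any fun g => Nat.beq g t.2) = true := by decide +kernel
theorem pS_idem : eqL (mulL pS pS) pS = true := by decide +kernel
theorem sumE_check : eqL (smulL 4 eL ++ mulL eL (sumL pS alphaE betaE 5)) [] = true := by decide +kernel
theorem ortE_check : ∀ i j : Fin 5, eqL (mulL eL (ortL pS alphaE betaE i j)) [] = true := by
  decide +kernel
theorem a4L_conj : conjL xL xLi (elemsA4R.map fun g => (1, g)) (elemsA4L.map fun g => (1, g)) = true := by
  decide +kernel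
theorem kv_check : check kv qsKV [elemsA4L.map fun g => (1, g)] [] [] = true ∧ allKeys qsKV = true ∧
    [elemsA4L.map fun g => (1, g)].all keysOK = true ∧ [kv].all keysOK = true := by decide +kernel
theorem sumK_check : check (smulL 4 (oneSub eL) ++ mulL (oneSub eL) (sumL pS alphaK betaK 3))
    qsK0 [kv] [] [] = true ∧ allKeys qsK0 = true := by decide +kernel
theorem ortK_check : ∀ i j : Fin 3,
    (check (mulL (oneSub eL) (ortL pS alphaK betaK i j)) (qsK.getD (3 * i.val + j.val) []) [kv] [] [] &&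
      allKeys (qsK.getD (3 * i.val + j.val) [])) = true := by decide +kernel

variable (ρ)

theorem ev_oneSub (e : List (ℕ × ℕ)) : ev ρ (oneSub e) = 1 - ev ρ e := by
  rw [oneSub, ev_cons, ev_smulL, neg_four, rK_one, Nat.cast_one, one_smul, sub_eq_add_neg]

theorem idem_of_ann {e : List (ℕ × ℕ)} (hk : Keys e) (hk1 : Keys (oneSub e))
    (h : ev ρ (mulL e (oneSub e)) = 0) : ev ρ e * ev ρ e = ev ρ e := by
  rw [(keys_mulL ρ hk hk1).2, ev_oneSub, mul_sub, mul_one, sub_eq_zero] at h
  exact h.symm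

theorem idem_oneSub {e : List (ℕ × ℕ)} (h : ev ρ e * ev ρ e = ev ρ e) :
    ev ρ (oneSub e) * ev ρ (oneSub e) = ev ρ (oneSub e) := by
  rw [ev_oneSub, mul_sub, mul_one, sub_mul, one_mul, h, sub_self, sub_zero]

theorem comm_oneSub {e : List (ℕ × ℕ)} {g : ℕ} (h : rK ρ g * ev ρ e = ev ρ e * rK ρ g) :
    rK ρ g * ev ρ (oneSub e) = ev ρ (oneSub e) * rK ρ g := by
  rw [ev_oneSub, mul_sub, sub_mul, mul_one, one_mul, h]

theorem idem_of_eqL {p : List (ℕ × ℕ)} (hk : Keys p) (h : eqL (mulL p p) p = true) :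
    ev ρ p * ev ρ p = ev ρ p := by
  rw [← (keys_mulL ρ hk hk).2, op_eq ρ h]

theorem zero_of_eqL {p : List (ℕ × ℕ)} (h : eqL p [] = true) : ev ρ p = 0 :=
  (op_eq ρ h).trans (ev_nil ρ)

theorem eL_idem : ev ρ eL * ev ρ eL = ev ρ eL :=
  idem_of_ann ρ (keys_of_ok keys_eL) (keys_of_ok keys_oneSubL) (zero_of_eqL ρ eL_ann)

theorem eL_commL {g : ℕ} (hg : g ∈ elemsL) : rK ρ g * ev ρ eL = ev ρ eL * rK ρ g :=
  comm_of_check ρ comm_eL (List.mem_append.2 (Or.inl hg))

theorem unitsE : HasUnits ρ 5 (ev ρ eL) (ev ρ pS) :=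
  hasUnits_of alphaE betaE (keys_of_ok keys_eL) (keys_of_ok keys_pS)
    (idem_of_eqL ρ (keys_of_ok keys_pS) pS_idem) (fun _ hg => eL_commL ρ hg) (eL_idem ρ)
    keys_alphaE.1 keys_alphaE.2 in_alphaE.1 in_alphaE.2 in_pS (zero_of_eqL ρ sumE_check)
    fun i j => zero_of_eqL ρ (ortE_check i j)

theorem unitsK (hA4 : ev ρ (elemsA4R.map fun g => (1, g)) = 0) :
    HasUnits ρ 3 (ev ρ (oneSub eL)) (ev ρ pS) := by
  have hL : ev ρ (elemsA4L.map fun g => (1, g)) = 0 := by
    rw [(op_conj ρ a4L_conj).1, hA4, mul_zero, zero_mul]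
  have hkv : ev ρ kv = 0 := check_op ρ kv_check.1 kv_check.2.1 kv_check.2.2.1
    (fun r hr => (List.mem_singleton.1 hr) ▸ hL)
  have hrel : ∀ r ∈ [kv], ev ρ r = 0 := fun r hr => (List.mem_singleton.1 hr) ▸ hkv
  exact hasUnits_of alphaK betaK (keys_of_ok keys_oneSubL) (keys_of_ok keys_pS)
    (idem_of_eqL ρ (keys_of_ok keys_pS) pS_idem) (fun _ hg => comm_oneSub ρ (eL_commL ρ hg))
    (idem_oneSub ρ (eL_idem ρ))
    keys_alphaK.1 keys_alphaK.2 in_alphaK.1 in_alphaK.2 in_pS
    (check_op ρ sumK_check.1 sumK_check.2 kv_check.2.2.2 hrel)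
    fun i j => check_op ρ (Bool.and_eq_true_iff.1 (ortK_check i j)).1
      (Bool.and_eq_true_iff.1 (ortK_check i j)).2 kv_check.2.2.2 hrel

end Cfsg.Agent.A10Five36
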