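import Cfsg.Agent.Lib.A10Five36Base

/-! Operators from certificates, and fixed points of perfect subgroups (S4100, `p = 5`). -/

set_option autoImplicit false

universe u

namespace Cfsg.Agent.A10Five36

open scoped commutatorElement

variable {W : Type u} [AddCommGroup W] [Module (ZMod 5) W]
variable (ρ : A10 →* Module.End (ZMod 5) W)

/-- no nonzero vector is fixed by a nonsolvable subgroup -/
def NoFix : Prop :=
  ∀ K : Subgroup A10, ¬ Group.IsSolvable K → ∀ v : W, (∀ g ∈ K, ρ g v = v) → v = 0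

theorem eq_of_good {k : ℕ} (h : good k = true) : valK (eltK k) = k :=
  Nat.eq_of_beq_eq_true (by simpa [good, force_eq] using h)

def diffL (A B : List (ℕ × ℕ)) : List (ℕ × ℕ) := A ++ smulL 4 B

def eqL (A B : List (ℕ × ℕ)) : Bool := check (diffL A B) [] [] [] []

theorem neg_four (x : Module.End (ZMod 5) W) : ((4 : ℕ) : ZMod 5) • x = -x := by
  have h : ((4 : ℕ) : ZMod 5) = -1 := by decide
  rw [h, neg_one_smul]

theorem op_eq {A B : List (ℕ × ℕ)} (h : eqL A B = true) : ev ρ A = ev ρ B := by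
  have h0 := check_op ρ (by simpa [eqL] using h) rfl rfl (by simp)
  rwa [diffL, ev_append, ev_smulL, neg_four, add_neg_eq_zero] at h0

theorem ev_single {k : ℕ} : ev ρ [(1, k)] = rK ρ k := by simp [ev_cons, ev_nil]

theorem rK_one : rK ρ idK = 1 := by
  have h : valK (1 : A10) = idK := by decide +kernel
  rw [← h, rK_valK, map_one]

theorem rK_mul_of_check {a b c : ℕ} (h : (good a && good b && Nat.beq (mulK a b) c) = true) :
    rK ρ a * rK ρ b = rK ρ c := by
  simp only [Bool.and_eq_true] at h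
  rw [← (rK_mulK ρ (isKey_of_good h.1.1) (isKey_of_good h.1.2)).2, Nat.eq_of_beq_eq_true h.2]

def commK (A : List (ℕ × ℕ)) (G : List ℕ) : Bool :=
  keysOK A && G.all fun g => good g && eqL (rmulL g A) (mulL A [(1, g)])

theorem comm_of_check {A : List (ℕ × ℕ)} {G : List ℕ} (h : commK A G = true) {g : ℕ} (hg : g ∈ G) :
    rK ρ g * ev ρ A = ev ρ A * rK ρ g := by
  simp only [commK, Bool.and_eq_true, List.all_eq_true] at h
  have hA := keys_of_ok h.1
  obtain ⟨h1, h2⟩ := h.2 g hg
  have hk := isKey_of_good h1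
  have hs : Keys [(1, g)] := by intro t ht; obtain rfl := List.mem_singleton.1 ht; exact hk
  have := op_eq ρ h2
  rwa [(keys_rmulL ρ hk hA).2, (keys_mulL ρ hA hs).2, ev_single] at this

theorem comm_ev {A : List (ℕ × ℕ)} {X : Module.End (ZMod 5) W}
    (h : ∀ t ∈ A, rK ρ t.2 * X = X * rK ρ t.2) : ev ρ A * X = X * ev ρ A := by
  induction A with
  | nil => simp [ev_nil]
  | cons t l ih =>
    rw [ev_cons, add_mul, mul_add, ih (fun s hs => h s (List.mem_cons_of_mem _ hs)),
      smul_mul_assoc, mul_smul_comm, h t List.mem_cons_self]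

def conjL (x xi : ℕ) (A B : List (ℕ × ℕ)) : Bool :=
  good x && good xi && keysOK A && Nat.beq (mulK x xi) idK && Nat.beq (mulK xi x) idK &&
    eqL B (rmulL x (mulL A [(1, xi)]))

theorem op_conj {x xi : ℕ} {A B : List (ℕ × ℕ)} (h : conjL x xi A B = true) :
    ev ρ B = rK ρ x * ev ρ A * rK ρ xi ∧ rK ρ x * rK ρ xi = 1 ∧ rK ρ xi * rK ρ x = 1 := by
  simp only [conjL, Bool.and_eq_true] at h
  obtain ⟨⟨⟨⟨⟨h1, h2⟩, h3⟩, h4⟩, h5⟩, h6⟩ := h
  have hA := keys_of_ok h3
  have hs : Keys [(1, xi)] := by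
    intro t ht; obtain rfl := List.mem_singleton.1 ht; exact isKey_of_good h2
  obtain ⟨k1, e1⟩ := keys_mulL ρ hA hs
  refine ⟨?_, ?_, ?_⟩
  · rw [op_eq ρ h6, (keys_rmulL ρ (isKey_of_good h1) k1).2, e1, ev_single, mul_assoc]
  · rw [← rK_one ρ]; exact rK_mul_of_check ρ (by simp [h1, h2, h4])
  · rw [← rK_one ρ]; exact rK_mul_of_check ρ (by simp [h1, h2, h5])

/-- a list of elements, each with a commutator expression inside the list -/
def nsCheck (l : List (ℕ × ℕ × ℕ)) : Bool :=
  (l.all fun t => good t.1 && good t.2.1 && good t.2.2 &&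
      Nat.beq (mulK t.1 (mulK t.2.2 t.2.1)) (mulK t.2.1 t.2.2) &&
      (l.any (fun s => Nat.beq s.1 t.2.1) && l.any (fun s => Nat.beq s.1 t.2.2))) &&
    l.any fun t => !(Nat.beq t.1 idK)

variable {ρ}

theorem nofix (hfix : NoFix ρ) {l : List (ℕ × ℕ × ℕ)} (hl : nsCheck l = true) (v : W)
    (hv : ∀ t ∈ l, rK ρ t.1 v = v) : v = 0 := by
  simp only [nsCheck, Bool.and_eq_true, List.all_eq_true, List.any_eq_true] at hl
  obtain ⟨hall, t₀, ht₀, hne⟩ := hl
  let S : Set A10 := {x | ∃ t ∈ l, valK x = t.1}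
  let K : Subgroup A10 := Subgroup.closure S
  have hKK : K ≤ ⁅K, K⁆ := by
    refine (Subgroup.closure_le _).2 ?_
    rintro x ⟨t, ht, hx⟩
    obtain ⟨⟨⟨⟨h1, h2⟩, h3⟩, h4⟩, ⟨s, hs, hs'⟩, ⟨r, hr, hr'⟩⟩ := hall t ht
    have ha : eltK t.2.1 ∈ K := Subgroup.subset_closure
      ⟨s, hs, by rw [eq_of_good h2, Nat.eq_of_beq_eq_true hs']⟩
    have hb : eltK t.2.2 ∈ K := Subgroup.subset_closure
      ⟨r, hr, by rw [eq_of_good h3, Nat.eq_of_beq_eq_true hr']⟩
    have e : x * (eltK t.2.2 * eltK t.2.1) = eltK t.2.1 * eltK t.2.2 := by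
      apply valK_inj
      rw [← mulK_valK, ← mulK_valK, ← mulK_valK, hx, eq_of_good h2,
        eq_of_good h3]
      exact Nat.eq_of_beq_eq_true h4
    have e2 : x = ⁅eltK t.2.1, eltK t.2.2⁆ := by
      rw [commutatorElement_def, eq_mul_inv_iff_mul_eq, eq_mul_inv_iff_mul_eq, mul_assoc]
      exact e
    rw [e2]
    exact Subgroup.commutator_mem_commutator ha hb
  have hns : ¬ Group.IsSolvable K := by
    intro hs
    have := hs
    obtain ⟨⟨⟨⟨h1, _⟩, _⟩, _⟩, _⟩ := hall t₀ ht₀
    have hmem : eltK t₀.1 ∈ K := Subgroup.subset_closure ⟨t₀, ht₀, eq_of_good h1⟩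
    have : Nontrivial K := by
      refine ⟨⟨_, hmem⟩, 1, fun h => ?_⟩
      have h' : eltK t₀.1 = 1 := congrArg Subtype.val h
      have h1' := eq_of_good h1
      rw [h'] at h1'
      have hid : valK (1 : A10) = idK := by decide +kernel
      rw [hid] at h1'
      simp [← h1'] at hne
    refine (Group.IsSolvable.commutator_lt_top_of_nontrivial K).ne ?_
    apply Subgroup.map_injective (Subgroup.subtype_injective K)
    rw [Subgroup.map_subtype_commutator, ← MonoidHom.range_eq_map, Subgroup.range_subtype]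
    exact le_antisymm (Subgroup.commutator_le_self K) hKK
  refine hfix K hns v fun g hg => ?_
  induction hg using Subgroup.closure_induction with
  | mem x hx =>
    obtain ⟨t, ht, hx⟩ := hx
    have := hv t ht
    rwa [← hx, rK_valK] at this
  | one => simp
  | mul a b _ _ iha ihb => rw [map_mul, Module.End.mul_apply, ihb, iha]
  | inv a _ iha =>
    calc ρ a⁻¹ v = ρ a⁻¹ (ρ a v) := by rw [iha]
      _ = v := by rw [← Module.End.mul_apply, ← map_mul, inv_mul_cancel, map_one, Module.End.one_apply]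

/-- the norm of such a list is zero -/
def normL (l : List (ℕ × ℕ × ℕ)) : List (ℕ × ℕ) := l.map fun t => (1, t.1)

theorem norm_zero (hfix : NoFix ρ) {l : List (ℕ × ℕ × ℕ)} (hl : nsCheck l = true)
    (hn : (l.all fun t => eqL (rmulL t.1 (normL l)) (normL l)) = true) :
    ev ρ (normL l) = 0 := by
  refine LinearMap.ext fun v => nofix hfix hl _ fun t ht => ?_
  have h := op_eq ρ (List.all_eq_true.1 hn t ht)
  have hl' := hl
  simp only [nsCheck, Bool.and_eq_true, List.all_eq_true] at hl'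
  have hk : Keys (normL l) := by
    intro s hs
    obtain ⟨r, hr, rfl⟩ := List.mem_map.1 hs
    exact isKey_of_good (hl'.1 r hr).1.1.1.1
  rw [(keys_rmulL ρ (isKey_of_good (hl'.1 t ht).1.1.1.1) hk).2] at h
  exact congrArg (fun f : Module.End (ZMod 5) W => f v) h

variable (ρ)

theorem eig_mul {a b : ℕ} {x y : ZMod 5} {v : W} (ha : IsKey a) (hb : IsKey b)
    (hav : rK ρ a v = x • v) (hbv : rK ρ b v = y • v) :
    IsKey (mulK a b) ∧ rK ρ (mulK a b) v = (x * y) • v := by
  obtain ⟨h1, h2⟩ := rK_mulK ρ ha hb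
  refine ⟨h1, ?_⟩
  rw [h2, Module.End.mul_apply, hbv, map_smul, hav, smul_smul, mul_comm y x]

end Cfsg.Agent.A10Five36
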