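import Cfsg.Agent.Lib.PermBasic

/-!
Multiply transitive actions: criteria, orders, Frattini-type normalizer lemma, transport.
-/

set_option autoImplicit false

open MulAction

namespace Cfsg.Agent.PermMultiTrans

universe u v

variable {G : Type u} [Group G] {X : Type v} [MulAction G X]

theorem isMultiplyPretransitive_iff_fun {n : ℕ} :
    IsMultiplyPretransitive G X n ↔ ∀ x y : Fin n → X, Function.Injective x →
      Function.Injective y → ∃ g : G, ∀ i, g • x i = y i := by
  rw [MulAction.isMultiplyPretransitive_iff]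
  constructor
  · intro h x y hx hy
    obtain ⟨g, hg⟩ := h ⟨x, hx⟩ ⟨y, hy⟩
    exact ⟨g, fun i => DFunLike.congr_fun hg i⟩
  · intro h x y
    obtain ⟨g, hg⟩ := h x y x.injective y.injective
    exact ⟨g, Function.Embedding.ext hg⟩

theorem mem_stabilizer_embedding {n : ℕ} {x : Fin n ↪ X} {g : G} :
    g ∈ stabilizer G x ↔ ∀ i, g • x i = x i := by
  rw [mem_stabilizer_iff, DFunLike.ext_iff]
  rfl

theorem stabilizer_embedding_eq {n : ℕ} (x : Fin n ↪ X) :
    stabilizer G x = fixingSubgroup G (Set.range x) := by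
  ext g
  rw [mem_stabilizer_embedding, mem_fixingSubgroup_iff]
  simp

theorem stabilizer_embedding_eq_bot_iff {n : ℕ} (x : Fin n ↪ X) :
    stabilizer G x = ⊥ ↔ ∀ g : G, (∀ i, g • x i = x i) → g = 1 := by
  rw [PermBasic.stabilizer_eq_bot_iff']
  simp only [DFunLike.ext_iff]
  rfl

/-- Sharpness in terms of elements fixing distinct points. -/
theorem eq_one_of_sharp {n : ℕ} (hs : ∀ x : Fin n ↪ X, stabilizer G x = ⊥) (x : Fin n → X)
    (hx : Function.Injective x) {g : G} (hg : ∀ i, g • x i = x i) : g = 1 :=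
  (stabilizer_embedding_eq_bot_iff ⟨x, hx⟩).1 (hs ⟨x, hx⟩) g hg

theorem transitive_of_two [h2 : IsMultiplyPretransitive G X 2] : IsPretransitive G X :=
  isPretransitive_of_is_two_pretransitive

theorem exists_smul_two [IsMultiplyPretransitive G X 2] {a b c d : X} (hab : a ≠ b)
    (hcd : c ≠ d) : ∃ g : G, g • a = c ∧ g • b = d :=
  (is_two_pretransitive_iff.1 ‹_›) hab hcd

theorem exists_smul_three [h : IsMultiplyPretransitive G X 3] {a b c a' b' c' : X}
    (hab : a ≠ b) (hac : a ≠ c) (hbc : b ≠ c) (hab' : a' ≠ b') (hac' : a' ≠ c')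
    (hbc' : b' ≠ c') : ∃ g : G, g • a = a' ∧ g • b = b' ∧ g • c = c' := by
  have inj : ∀ {x y z : X}, x ≠ y → x ≠ z → y ≠ z → Function.Injective ![x, y, z] := by
    intro x y z hxy hxz hyz i j hij
    fin_cases i <;> fin_cases j <;> simp_all [eq_comm]
  obtain ⟨g, hg⟩ := isMultiplyPretransitive_iff_fun.1 h _ _ (inj hab hac hbc) (inj hab' hac' hbc')
  exact ⟨g, hg 0, hg 1, hg 2⟩

/-- Two-transitivity from transitivity and transitivity of one point stabilizer on the rest. -/
theorem isTwoPretransitive_of_stabilizer [IsPretransitive G X] (a : X)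
    (h : ∀ x y : X, x ≠ a → y ≠ a → ∃ g : G, g • a = a ∧ g • x = y) :
    IsMultiplyPretransitive G X 2 := by
  rw [is_two_pretransitive_iff]
  intro x y z w hxy hzw
  obtain ⟨g₁, hg₁⟩ := exists_smul_eq G x a
  obtain ⟨g₂, hg₂⟩ := exists_smul_eq G z a
  have h1 : g₁ • y ≠ a := by
    rw [← hg₁]; exact fun h => hxy (MulAction.injective g₁ h).symm
  have h2 : g₂ • w ≠ a := by
    rw [← hg₂]; exact fun h => hzw (MulAction.injective g₂ h).symm
  obtain ⟨g, hga, hgb⟩ := h _ _ h1 h2
  refine ⟨g₂⁻¹ * (g * g₁), ?_, ?_⟩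
  · rw [mul_smul, mul_smul, hg₁, hga, ← hg₂, inv_smul_smul]
  · rw [mul_smul, mul_smul, hgb, inv_smul_smul]

/-- Successor step: transitive and stabilizer `n`-transitive on the other points. -/
theorem isMultiplyPretransitive_succ {n : ℕ} [IsPretransitive G X] (a : X)
    (h : ∀ x y : Fin n → X, Function.Injective x → Function.Injective y → (∀ i, x i ≠ a) →
      (∀ i, y i ≠ a) → ∃ g : G, g • a = a ∧ ∀ i, g • x i = y i) :
    IsMultiplyPretransitive G X (n + 1) := by
  rw [isMultiplyPretransitive_iff_fun]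
  intro x y hx hy
  obtain ⟨g₁, hg₁⟩ := exists_smul_eq G (x 0) a
  obtain ⟨g₂, hg₂⟩ := exists_smul_eq G (y 0) a
  obtain ⟨g, hga, hg⟩ := h (fun i => g₁ • x i.succ) (fun i => g₂ • y i.succ)
    ((MulAction.injective g₁).comp (hx.comp (Fin.succ_injective n)))
    ((MulAction.injective g₂).comp (hy.comp (Fin.succ_injective n)))
    (fun i => hg₁ ▸ (MulAction.injective g₁).ne (hx.ne (Fin.succ_ne_zero i)))
    (fun i => hg₂ ▸ (MulAction.injective g₂).ne (hy.ne (Fin.succ_ne_zero i)))
  refine ⟨g₂⁻¹ * (g * g₁), fun i => ?_⟩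
  refine Fin.cases ?_ (fun j => ?_) i
  · rw [mul_smul, mul_smul, hg₁, hga, ← hg₂, inv_smul_smul]
  · rw [mul_smul, mul_smul, hg j, inv_smul_smul]

/-- The order of a `k`-transitive group. -/
theorem card_eq_descFactorial_mul [Finite X] {k : ℕ} [IsMultiplyPretransitive G X k]
    (x : Fin k ↪ X) :
    (Nat.card X).descFactorial k * Nat.card (stabilizer G x) = Nat.card G := by
  have : Fintype X := Fintype.ofFinite X
  have h := PermBasic.card_mul_card_stabilizer (G := G) x
  rwa [Nat.card_eq_fintype_card (α := Fin k ↪ X), Fintype.card_embedding_eq, Fintype.card_fin,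
    ← Nat.card_eq_fintype_card] at h

theorem nonempty_embedding [Finite X] {k : ℕ} (hk : k ≤ Nat.card X) : Nonempty (Fin k ↪ X) := by
  have : Fintype X := Fintype.ofFinite X
  apply Function.Embedding.nonempty_of_card_le
  rwa [Fintype.card_fin, ← Nat.card_eq_fintype_card]

theorem descFactorial_dvd_card [Finite X] {k : ℕ} [IsMultiplyPretransitive G X k]
    (hk : k ≤ Nat.card X) : (Nat.card X).descFactorial k ∣ Nat.card G := by
  obtain ⟨x⟩ := nonempty_embedding (X := X) hk
  exact Dvd.intro _ (card_eq_descFactorial_mul x)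

/-- The order of a sharply `k`-transitive group. -/
theorem card_eq_of_sharp [Finite X] {k : ℕ} [IsMultiplyPretransitive G X k]
    (hk : k ≤ Nat.card X) (hs : ∀ x : Fin k ↪ X, stabilizer G x = ⊥) :
    Nat.card G = (Nat.card X).descFactorial k := by
  obtain ⟨x⟩ := nonempty_embedding (X := X) hk
  rw [← card_eq_descFactorial_mul (G := G) x, hs x, Subgroup.card_bot, mul_one]

/-- A sharply `k`-transitive group on finitely many points is finite. -/
theorem finite_of_sharp [Finite X] {k : ℕ} (hk : k ≤ Nat.card X)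
    (hs : ∀ x : Fin k ↪ X, stabilizer G x = ⊥) : Finite G := by
  obtain ⟨x⟩ := nonempty_embedding (X := X) hk
  refine Finite.of_injective (fun g : G => g • x) fun g g' h => ?_
  have hm : g'⁻¹ * g ∈ stabilizer G x := by
    rw [mem_stabilizer_iff, mul_smul]
    exact (congrArg (g'⁻¹ • ·) h).trans (inv_smul_smul g' x)
  rw [hs x, Subgroup.mem_bot, inv_mul_eq_one] at hm
  exact hm.symm

/-- Equivariant transport of transitivity to the image permutation group. -/
theorem isMultiplyPretransitive_range {n : ℕ} [IsMultiplyPretransitive G X n] :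
    IsMultiplyPretransitive (MulAction.toPermHom G X).range X n := by
  rw [isMultiplyPretransitive_iff_fun]
  intro x y hx hy
  obtain ⟨g, hg⟩ := isMultiplyPretransitive_iff_fun.1 ‹_› x y hx hy
  exact ⟨⟨_, g, rfl⟩, hg⟩

/-- A supergroup of a multiply transitive subgroup. -/
theorem isMultiplyPretransitive_of_le {n : ℕ} {H K : Subgroup G} (hle : H ≤ K)
    [IsMultiplyPretransitive H X n] : IsMultiplyPretransitive K X n := by
  rw [isMultiplyPretransitive_iff_fun]
  intro x y hx hy
  obtain ⟨g, hg⟩ := isMultiplyPretransitive_iff_fun.1 ‹_› x y hx hy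
  exact ⟨⟨g, hle g.2⟩, hg⟩

/-- Witt's normalizer lemma: for a transitive action of a finite group, the normalizer of a
Sylow subgroup of a point stabilizer is transitive on the fixed points of that subgroup. -/
theorem exists_mem_normalizer_smul_eq [Finite G] [IsPretransitive G X] {p : ℕ} [Fact p.Prime]
    {a : X} (P : Sylow p (stabilizer G a)) {b : X}
    (hb : ∀ q ∈ (P : Subgroup (stabilizer G a)), (q : G) • b = b) :
    ∃ n ∈ Subgroup.normalizer
      (((P : Subgroup (stabilizer G a)).map (stabilizer G a).subtype : Subgroup G) : Set G),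
      n • a = b := by
  classical
  obtain ⟨g, hg⟩ := exists_smul_eq G a b
  set P₀ : Subgroup G := (P : Subgroup (stabilizer G a)).map (stabilizer G a).subtype with hP₀
  have hP₀p : IsPGroup p P₀ := P.2.map _
  set Q : Subgroup G := P₀.map (MulAut.conj g⁻¹).toMonoidHom with hQ
  have hQa : Q ≤ stabilizer G a := by
    rintro _ ⟨_, ⟨q, hq, rfl⟩, rfl⟩
    rw [mem_stabilizer_iff]
    simp only [MulEquiv.coe_toMonoidHom, MulAut.conj_apply, inv_inv, Subgroup.coe_subtype]
    rw [mul_smul, mul_smul, hg, hb q hq, inv_smul_eq_iff]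
    exact hg.symm
  obtain ⟨T, hT⟩ := ((hP₀p.map (MulAut.conj g⁻¹).toMonoidHom).comap_of_injective
    (stabilizer G a).subtype (stabilizer G a).subtype_injective).exists_le_sylow
  have hTQ : (T : Subgroup (stabilizer G a)).map (stabilizer G a).subtype = Q := by
    refine (Subgroup.eq_of_le_of_card_ge (fun x hx => Subgroup.mem_map.2 ⟨⟨x, hQa hx⟩, hT hx, rfl⟩) ?_).symm
    rw [Subgroup.card_map_of_injective (stabilizer G a).subtype_injective,
      Subgroup.card_map_of_injective (MulAut.conj g⁻¹).injective, hP₀,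
      Subgroup.card_map_of_injective (stabilizer G a).subtype_injective]
    exact (Nat.card_congr (T.equiv P).toEquiv).le
  obtain ⟨k, hk⟩ := exists_smul_eq (stabilizer G a) P T
  refine ⟨g * k, ?_, by rw [mul_smul, (k.2 : (k : G) • a = a), hg]⟩
  have key : ∀ q ∈ P₀, (g * k) * q * (g * k)⁻¹ ∈ P₀ := by
    rintro _ ⟨q, hq, rfl⟩
    have h1 : MulAut.conj k q ∈ (T : Subgroup (stabilizer G a)) := by
      rw [← hk, Sylow.coe_subgroup_smul]
      exact Subgroup.smul_mem_pointwise_smul _ (MulAut.conj k) _ hq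
    have h2 : ((MulAut.conj k q : stabilizer G a) : G) ∈ Q := hTQ ▸ ⟨_, h1, rfl⟩
    obtain ⟨r, hr, hre⟩ := h2
    simp only [MulEquiv.coe_toMonoidHom, MulAut.conj_apply, inv_inv, Subgroup.coe_mul,
      InvMemClass.coe_inv] at hre
    have h3 : g * k * (q : G) * (g * k)⁻¹ = r := by
      rw [mul_inv_rev]
      calc g * k * (q : G) * ((k : G)⁻¹ * g⁻¹) = g * (k * (q : G) * (k : G)⁻¹) * g⁻¹ := by group
        _ = g * (g⁻¹ * r * g) * g⁻¹ := by rw [hre]
        _ = r := by group
    rw [Subgroup.coe_subtype, h3]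
    exact hr
  have heq : P₀.map (MulAut.conj (g * k)).toMonoidHom = P₀ := by
    refine Subgroup.eq_of_le_of_card_ge ?_ ?_
    · rintro _ ⟨q, hq, rfl⟩
      exact key q hq
    · exact (Subgroup.card_map_of_injective (K := P₀) (MulAut.conj (g * (k : G))).injective).ge
  rw [Subgroup.mem_normalizer_iff]
  intro x
  refine ⟨key x, fun hx => ?_⟩
  rw [← heq] at hx
  obtain ⟨q, hq, hqe⟩ := hx
  rwa [← (MulAut.conj (g * (k : G))).injective hqe]

end Cfsg.Agent.PermMultiTrans
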