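import Mathlib
import Cfsg.Agent.S4219

/-!
Groups containing a cycle of prime length: primitivity, and Jordan's theorem that a primitive group
containing a prime cycle with at least three fixed points contains the alternating group.
-/

set_option autoImplicit false

namespace Cfsg.Agent.PrimeCycle

open Equiv Equiv.Perm MulAction
open scoped commutatorElement Pointwise

variable {α : Type*} [Fintype α] [DecidableEq α]

/-- A prime cycle either stabilises a set or moves it through `q` disjoint translates. -/
theorem card_mul_le_of_translates {y : Perm α} {q : ℕ} (hq : q.Prime) (hy : orderOf y = q)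
    (B : Set α) (hB : ∀ i : ℕ, ((y ^ i) '' B) = B ∨ Disjoint ((y ^ i) '' B) B) (hne : y '' B ≠ B) :
    q * B.ncard ≤ Fintype.card α := by
  classical
  let S : Subgroup (Perm α) := stabilizer (Perm α) B
  have hyS : ∀ i : ℕ, 0 < i → i < q → (y ^ i) '' B ≠ B := by
    intro i hi hiq h
    apply hne
    have h1 : y ^ i ∈ S := h
    have hcop : i.Coprime (orderOf y) := by
      rw [hy]; exact (Nat.coprime_of_lt_prime (Nat.pos_iff_ne_zero.mp hi) hiq hq).symm
    obtain ⟨m, hm⟩ := exists_pow_eq_self_of_coprime hcop
    have h2 : y ∈ S := hm ▸ pow_mem h1 m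
    exact h2
  have hinj : Function.Injective (fun z : Fin q × B => (y ^ (z.1 : ℕ)) z.2) := by
    have key : ∀ i j : Fin q, ∀ a b : B, (i : ℕ) ≤ j → (y ^ (i : ℕ)) a = (y ^ (j : ℕ)) b → i = j ∧ a = b := by
      intro i j a b hij h
      rw [show (j : ℕ) = i + (j - i) by omega, pow_add, Perm.mul_apply] at h
      have h2 := (y ^ (i : ℕ)).injective h
      by_cases hd : (j : ℕ) - i = 0
      · refine ⟨Fin.ext (by omega), Subtype.ext ?_⟩
        rwa [hd, pow_zero] at h2
      · rcases hB ((j : ℕ) - i) with h3 | h3
        · exact absurd h3 (hyS _ (Nat.pos_of_ne_zero hd) (by omega))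
        · exact absurd a.2 (Set.disjoint_left.mp h3 ⟨b, b.2, h2.symm⟩)
    rintro ⟨i, a⟩ ⟨j, b⟩ h
    rcases le_total (i : ℕ) j with hij | hij
    · obtain ⟨rfl, rfl⟩ := key i j a b hij h; rfl
    · obtain ⟨rfl, rfl⟩ := key j i b a hij h.symm; rfl
  have := Nat.card_le_card_of_injective _ hinj
  rwa [Nat.card_prod, Nat.card_fin, Nat.card_eq_fintype_card (α := α), Nat.card_coe_set_eq] at this

/-- A transitive group containing a cycle of prime length exceeding half the degree is primitive. -/
theorem isPreprimitive_of_prime_cycle (G : Subgroup (Perm α)) [IsPretransitive G α] {y : Perm α}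
    (hyG : y ∈ G) (hyc : y.IsCycle) (hq : (y.support.card).Prime)
    (hbig : Fintype.card α < 2 * y.support.card) : IsPreprimitive G α := by
  classical
  refine IsPreprimitive.mk ?_
  intro B hB
  by_cases hsub : B.Subsingleton
  · exact Or.inl hsub
  have h2 : 2 ≤ B.ncard := by
    rw [Set.not_subsingleton_iff] at hsub
    exact (Set.one_lt_ncard (Set.toFinite B)).mpr hsub
  rcases eq_or_ne B Set.univ with h | huniv
  · exact Or.inr h
  exfalso
  have hy : orderOf y = y.support.card := hyc.orderOf
  -- every translate of `B` is stable under `y`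
  have hstab : ∀ g : G, y '' ((fun a => (g : Perm α) a) '' B) = (fun a => (g : Perm α) a) '' B := by
    intro g
    by_contra hne
    have hBg : IsBlock G ((fun a => (g : Perm α) a) '' B) := hB.translate g
    have hall : ∀ i : ℕ, ((y ^ i) '' ((fun a => (g : Perm α) a) '' B)) = ((fun a => (g : Perm α) a) '' B) ∨
        Disjoint ((y ^ i) '' ((fun a => (g : Perm α) a) '' B)) ((fun a => (g : Perm α) a) '' B) := by
      intro i
      exact isBlock_iff_smul_eq_or_disjoint.mp hBg ⟨y ^ i, pow_mem hyG i⟩
    have := card_mul_le_of_translates hq hy _ hall hne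
    rw [Set.ncard_image_of_injective _ (g : Perm α).injective] at this
    nlinarith
  -- the translate through a moved point contains the support
  obtain ⟨c, hc⟩ := hyc.nonempty_support
  obtain ⟨b, hb⟩ : B.Nonempty := by
    rw [Set.not_subsingleton_iff] at hsub; exact hsub.nonempty
  obtain ⟨g, hg⟩ := exists_smul_eq G b c
  set C := (fun a => (g : Perm α) a) '' B with hC
  have hcC : c ∈ C := ⟨b, hb, hg⟩
  have hsupp : (y.support : Set α) ⊆ C := by
    intro z hz
    obtain ⟨i, rfl⟩ := hyc.exists_pow_eq (mem_support.mp hc) (mem_support.mp hz)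
    clear hz
    induction i with
    | zero => simpa using hcC
    | succ i ih =>
      rw [pow_succ', Perm.mul_apply, hC, ← hstab g]
      exact ⟨_, ih, rfl⟩
  have hle : y.support.card ≤ B.ncard := by
    have h := Set.ncard_le_ncard hsupp (Set.toFinite _)
    rwa [Set.ncard_coe_finset, hC, Set.ncard_image_of_injective _ (g : Perm α).injective] at h
  have hdvd : B.ncard ∣ Nat.card α := hB.ncard_dvd_card ⟨b, hb⟩
  have hlt : B.ncard < Nat.card α := by
    rw [← Set.ncard_univ]
    exact Set.ncard_lt_ncard ⟨Set.subset_univ _, fun h => huniv (Set.univ_subset_iff.mp h)⟩ (Set.toFinite _)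
  obtain ⟨m, hm⟩ := hdvd
  rw [Nat.card_eq_fintype_card] at hlt hm
  have : 2 ≤ m := by nlinarith
  nlinarith

/-- Jordan's theorem: a primitive group containing a cycle of prime length `q` and degree at least
`q + 3` contains the alternating group. -/
theorem alternatingGroup_le (G : Subgroup (Perm α)) (hG : IsPreprimitive G α) {y : Perm α}
    (hyG : y ∈ G) (hyc : y.IsCycle) (hq : (y.support.card).Prime)
    (h3 : y.support.card + 3 ≤ Fintype.card α) : alternatingGroup α ≤ G := by
  classical
  set q := y.support.card with hqdef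
  haveI := Fact.mk hq
  set s : Set α := (y.support : Set α)ᶜ with hs
  have hscard : s.ncard = Fintype.card α - q := by
    rw [hs, Set.ncard_compl, Set.ncard_coe_finset, Nat.card_eq_fintype_card]
  set k := Fintype.card α - q with hk
  have hyfix : (⟨y, hyG⟩ : G) ∈ fixingSubgroup G s := by
    rw [mem_fixingSubgroup_iff]
    intro z hz
    exact notMem_support.mp hz
  have hprim : IsPreprimitive (fixingSubgroup G s) (SubMulAction.ofFixingSubgroup G s) := by
    haveI : IsPretransitive (fixingSubgroup G s) (SubMulAction.ofFixingSubgroup G s) := by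
      refine ⟨fun a b => ?_⟩
      have ha : (a : α) ∈ y.support := not_not.mp (fun h => a.2 h)
      have hb : (b : α) ∈ y.support := not_not.mp (fun h => b.2 h)
      obtain ⟨i, hi⟩ := hyc.exists_pow_eq (mem_support.mp ha) (mem_support.mp hb)
      exact ⟨⟨⟨y, hyG⟩, hyfix⟩ ^ i, Subtype.ext hi⟩
    apply IsPreprimitive.of_prime_card
    convert! hq
    rw [hqdef, Nat.card_eq_fintype_card, Fintype.card_subtype]
    apply congr_arg
    ext z
    simp [SubMulAction.mem_ofFixingSubgroup_iff, hs]
  have hmp : IsMultiplyPretransitive G α k := by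
    have h1 : IsMultiplyPreprimitive G α (k - 1 + 2) :=
      hG.isMultiplyPreprimitive (s := s) (n := k - 1) (by omega) (by rw [Nat.card_eq_fintype_card]; have := hq.two_le; omega) hprim
    have h2 : IsMultiplyPretransitive G α (k - 1 + 2) := h1.isMultiplyPretransitive ..
    exact isMultiplyPretransitive_of_le' (n := k - 1 + 2) (by omega)
      (by simp only [ENat.card_eq_coe_fintype_card, Nat.cast_le]; have := hq.two_le; omega)
  -- an enumeration of the fixed points
  haveI : Fintype s := Fintype.ofFinite s
  let e : Fin k ≃ s := (Fintype.equivFinOfCardEq (by rw [← Nat.card_eq_fintype_card, Nat.card_coe_set_eq]; exact hscard)).symm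
  let x : Fin k ↪ α := e.toEmbedding.trans (Function.Embedding.subtype _)
  have hx : ∀ i, x i ∈ s := fun i => (e i).2
  have hrange : ∀ z, z ∈ s → ∃ i, x i = z := fun z hz => ⟨e.symm ⟨z, hz⟩, by simp [x]⟩
  set H := stabilizer G x with hH
  have hyH : (⟨y, hyG⟩ : G) ∈ H := by
    rw [hH, mem_stabilizer_iff]
    ext i
    exact notMem_support.mp (hx i)
  set P0 : Subgroup H := Subgroup.zpowers ⟨_, hyH⟩ with hP0
  have hP0card : Nat.card P0 = q := by
    rw [hP0, Nat.card_zpowers, Subgroup.orderOf_mk, Subgroup.orderOf_mk, hyc.orderOf]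
  have hP0p : IsPGroup q P0 := IsPGroup.of_card (n := 1) (by rw [hP0card, pow_one])
  -- the pointwise stabiliser embeds in the symmetric group on the support
  have hHdvd : Nat.card H ∣ q.factorial := by
    let f : H →* Perm {z // z ∈ y.support} :=
      { toFun := fun h => ((h : G) : Perm α).subtypePerm (fun z => by
          have hfix : ∀ w, w ∈ s → ((h : G) : Perm α) w = w := by
            intro w hw
            obtain ⟨i, rfl⟩ := hrange w hw
            exact congrArg (fun u : Fin k ↪ α => u i) (mem_stabilizer_iff.mp h.2)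
          constructor
          · intro hz
            by_contra h1
            have := hfix z h1
            rw [this] at hz
            exact h1 hz
          · intro hz
            by_contra h1
            have := hfix _ (show ((h : G) : Perm α) z ∈ s from h1)
            have h2 := ((h : G) : Perm α).injective this
            rw [h2] at h1
            exact h1 hz)
        map_one' := by ext; rfl
        map_mul' := fun a b => by ext; rfl }
    have hf : Function.Injective f := by
      intro a b hab
      apply Subtype.ext; apply Subtype.ext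
      refine Equiv.ext fun z => ?_
      by_cases hz : z ∈ y.support
      · exact congrArg Subtype.val (Equiv.congr_fun hab ⟨z, hz⟩)
      · obtain ⟨i, rfl⟩ := hrange z hz
        exact (congrArg (fun u : Fin k ↪ α => u i) (mem_stabilizer_iff.mp a.2)).trans
          (congrArg (fun u : Fin k ↪ α => u i) (mem_stabilizer_iff.mp b.2)).symm
    have := Subgroup.card_dvd_of_injective f hf
    rwa [Nat.card_perm, Nat.card_eq_finsetCard] at this
  let P : Sylow q H := Sylow.ofCard P0 (by
    rw [hP0card]
    have h1 : (Nat.card H).factorization q ≤ q.factorial.factorization q :=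
      (Nat.factorization_le_iff_dvd Nat.card_pos.ne' (Nat.factorial_ne_zero q)).mpr hHdvd q
    have h2 : q.factorial.factorization q = 1 := by
      rw [← Nat.mul_factorial_pred hq.ne_zero, Nat.factorization_mul hq.ne_zero (Nat.factorial_ne_zero _), Finsupp.add_apply,
        hq.factorization_self]
      simp only [add_eq_left]
      apply Nat.factorization_eq_zero_of_not_dvd
      rw [hq.dvd_factorial]; have := hq.two_le; omega
    have h3 : 1 ≤ (Nat.card H).factorization q :=
      (Nat.Prime.dvd_iff_one_le_factorization hq Nat.card_pos.ne').mp (hP0card ▸ Subgroup.card_subgroup_dvd_card P0)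
    rw [show (Nat.card H).factorization q = 1 by omega, pow_one])
  set Q := (P : Subgroup H).map H.subtype with hQ
  have hQz : Q = Subgroup.zpowers (⟨y, hyG⟩ : G) := by
    rw [hQ, show (P : Subgroup H) = P0 from rfl, hP0, MonoidHom.map_zpowers]; rfl
  have hfix : ∀ i, x i ∈ fixedPoints Q α := by
    rintro i ⟨g, hg⟩
    obtain ⟨h, -, rfl⟩ := hg
    exact congrArg (fun u : Fin k ↪ α => u i) (mem_stabilizer_iff.mp h.2)
  have hperm : ∀ σ : Perm (Fin k), ∃ g : G, (∃ j : ℤ, g * ⟨y, hyG⟩ * g⁻¹ = (⟨y, hyG⟩ : G) ^ j) ∧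
      ∀ i, (g : Perm α) (x i) = x (σ i) := by
    intro σ
    obtain ⟨g, hg, hgx⟩ := Cfsg.Agent.S4219.result hmp x P x (σ.toEmbedding.trans x) hfix (fun i => hfix (σ i))
    refine ⟨g, ?_, fun i => congrArg (fun u : Fin k ↪ α => u i) hgx⟩
    have : g * ⟨y, hyG⟩ * g⁻¹ ∈ Q := ((Subgroup.mem_normalizer_iff.mp hg) _).mp (by show _ ∈ Q; rw [hQz]; exact Subgroup.mem_zpowers _)
    rw [hQz, Subgroup.mem_zpowers_iff] at this
    obtain ⟨j, hj⟩ := this
    exact ⟨j, hj.symm⟩
  let i0 : Fin k := ⟨0, by omega⟩
  let i1 : Fin k := ⟨1, by omega⟩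
  let i2 : Fin k := ⟨2, by omega⟩
  obtain ⟨g, ⟨a, ha⟩, hgx⟩ := hperm (swap i0 i1)
  obtain ⟨h, ⟨b, hb⟩, hhx⟩ := hperm (swap i1 i2)
  set Y : G := ⟨y, hyG⟩ with hY
  set u : G := g⁻¹ * h⁻¹ * g * h with hu
  have hcomm : Commute u Y := by
    have hgh : (g * h) * Y * (g * h)⁻¹ = (h * g) * Y * (h * g)⁻¹ := by
      have h1 : (g * h) * Y * (g * h)⁻¹ = Y ^ (a * b) := by
        rw [show (g * h) * Y * (g * h)⁻¹ = g * (h * Y * h⁻¹) * g⁻¹ by group, hb, ← conj_zpow, ha, zpow_mul]
      have h2 : (h * g) * Y * (h * g)⁻¹ = Y ^ (a * b) := by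
        rw [show (h * g) * Y * (h * g)⁻¹ = h * (g * Y * g⁻¹) * h⁻¹ by group, ha, ← conj_zpow, hb, mul_comm a b, zpow_mul]
      rw [h1, h2]
    calc u * Y = (h * g)⁻¹ * ((g * h) * Y * (g * h)⁻¹) * (g * h) := by rw [hu]; group
      _ = (h * g)⁻¹ * ((h * g) * Y * (h * g)⁻¹) * (g * h) := by rw [hgh]
      _ = Y * u := by rw [hu]; group
  have hus : ∀ i, (u : Perm α) (x i) = x (⁅swap i0 i1, swap i1 i2⁆ i) := by
    intro i
    have hg' : ∀ i, (g : Perm α)⁻¹ (x i) = x (swap i0 i1 i) := by
      intro i
      rw [Perm.inv_eq_iff_eq, hgx, swap_apply_self]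
    have hh' : ∀ i, (h : Perm α)⁻¹ (x i) = x (swap i1 i2 i) := by
      intro i
      rw [Perm.inv_eq_iff_eq, hhx, swap_apply_self]
    simp only [hu, commutatorElement_def, Subgroup.coe_mul, Subgroup.coe_inv, Perm.mul_apply, swap_inv, hg', hh', hgx, hhx]
  obtain ⟨c, hc⟩ := hyc.nonempty_support
  have hcomm' : Commute (u : Perm α) y := congrArg Subtype.val hcomm
  have huc : (u : Perm α) c ∈ y.support := by
    rw [mem_support]
    intro h4
    have : y ((u : Perm α) c) = (u : Perm α) (y c) := (Equiv.congr_fun hcomm'.eq c).symm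
    rw [h4] at this
    exact mem_support.mp hc ((u : Perm α).injective this).symm
  obtain ⟨i, hi⟩ := hyc.exists_pow_eq (mem_support.mp hc) (mem_support.mp huc)
  have husupp : ∀ z ∈ y.support, (u : Perm α) z = (y ^ i) z := by
    intro z hz
    obtain ⟨j, rfl⟩ := hyc.exists_pow_eq (mem_support.mp hc) (mem_support.mp hz)
    rw [← Perm.mul_apply, (hcomm'.pow_right j).eq, Perm.mul_apply, ← hi, ← Perm.mul_apply, ← Perm.mul_apply, ← pow_add, ← pow_add, add_comm]
  set w : Perm α := (u : Perm α) * (y ^ i)⁻¹ with hw
  have hwG : w ∈ G := mul_mem u.2 (inv_mem (pow_mem hyG i))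
  have hy' : ∀ z, z ∉ y.support → ((y ^ i)⁻¹) z = z := by
    intro z hz
    rw [Perm.inv_eq_iff_eq]
    exact (notMem_support.mp (fun h => hz (support_pow_le y i h))).symm
  have hw3 : w = ⁅swap (x i0) (x i1), swap (x i1) (x i2)⁆ := by
    refine Equiv.ext fun z => ?_
    by_cases hz : z ∈ y.support
    · have h4 : ((y ^ i)⁻¹) z ∈ y.support := by
        by_contra h
        have := hy' _ h
        rw [(y ^ i)⁻¹.injective this] at h
        exact h hz
      have hne : ∀ l, z ≠ x l := fun l h => (hx l) (by rw [← h]; exact hz)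
      rw [hw, Perm.mul_apply, husupp _ h4, ← Perm.mul_apply, mul_inv_cancel, Perm.one_apply]
      simp [commutatorElement_def, swap_apply_of_ne_of_ne (hne i0) (hne i1), swap_apply_of_ne_of_ne (hne i1) (hne i2)]
    · obtain ⟨l, rfl⟩ := hrange z hz
      rw [hw, Perm.mul_apply, hy' _ hz, hus]
      simp only [commutatorElement_def, Perm.mul_apply, swap_inv]
      simp only [← Function.Injective.swap_apply x.injective]
  refine alternatingGroup_le_of_isPreprimitive_of_isThreeCycle_mem hG ?_ hwG
  have h01 : x i0 ≠ x i1 := fun h => by simpa [i0, i1] using x.injective h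
  have h02 : x i0 ≠ x i2 := fun h => by simpa [i0, i2] using x.injective h
  have h12 : x i1 ≠ x i2 := fun h => by simpa [i1, i2] using x.injective h
  have h4 : (swap (x i0) (x i1) * swap (x i1) (x i2)).IsThreeCycle := by
    rw [swap_comm (x i0) (x i1)]
    exact isThreeCycle_swap_mul_swap_same h01.symm h12 h02
  have := h4.isThreeCycle_sq
  rw [hw3, commutatorElement_def, swap_inv, swap_inv, mul_assoc]
  exact this

end Cfsg.Agent.PrimeCycle
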