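import Mathlib

/-!
Basic arithmetical restrictions on finite nonabelian simple groups.
-/

namespace Cfsg.Agent.SimpleOrder

open Subgroup

set_option linter.unusedSectionVars false

variable {G : Type*} [Group G] [Finite G]

theorem eq_bot_or_top [IsSimpleGroup G] {H : Subgroup G} (hH : H.Normal) : H = ⊥ ∨ H = ⊤ :=
  hH.eq_bot_or_eq_top

theorem card_prime_of_comm [IsSimpleGroup G] (h : IsMulCommutative G) : (Nat.card G).Prime := by
  let _inst : CommGroup G := { (inferInstance : Group G) with mul_comm := fun a b => h.is_comm.comm a b }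
  exact IsSimpleGroup.prime_card

theorem not_comm_of_not_prime [IsSimpleGroup G] (h : ¬ (Nat.card G).Prime) :
    ¬ IsMulCommutative G :=
  fun hc => h (card_prime_of_comm hc)

theorem not_isPGroup [IsSimpleGroup G] (hG : ¬ IsMulCommutative G) (p : ℕ) [Fact p.Prime] :
    ¬ IsPGroup p G := by
  intro h
  have := h.center_nontrivial
  have hne : Subgroup.center G ≠ ⊥ := (Subgroup.nontrivial_iff_ne_bot _).1 this
  have htop : Subgroup.center G = ⊤ :=
    (eq_bot_or_top (inferInstance : (Subgroup.center G).Normal)).resolve_left hne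
  exact hG ⟨⟨fun a b => (Subgroup.mem_center_iff.1 (htop ▸ Subgroup.mem_top b) a)⟩⟩

theorem exists_injective_alternating [IsSimpleGroup G] (hG : ¬ IsMulCommutative G)
    (H : Subgroup G) (hH : H ≠ ⊤) :
    ∃ f : G →* alternatingGroup (Fin H.index), Function.Injective f := by
  have : Fintype (G ⧸ H) := Fintype.ofFinite _
  have hcard : Fintype.card (G ⧸ H) = H.index := by
    rw [Subgroup.index_eq_card, Nat.card_eq_fintype_card]
  let e : G ⧸ H ≃ Fin H.index := Fintype.equivFinOfCardEq hcard
  let φ : G →* Equiv.Perm (Fin H.index) :=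
    e.permCongrHom.toMonoidHom.comp (MulAction.toPermHom G (G ⧸ H))
  have hker : φ.ker = H.normalCore := by
    ext g
    rw [Subgroup.normalCore_eq_ker]
    simp [φ, MonoidHom.mem_ker]
  have hinj : Function.Injective φ := by
    rw [← MonoidHom.ker_eq_bot_iff, hker]
    rcases eq_bot_or_top H.normalCore_normal with h | h
    · exact h
    · exact absurd (top_le_iff.1 (h ▸ H.normalCore_le)) hH
  let ψ : G →* ℤˣ := Equiv.Perm.sign.comp φ
  have hψ : ψ.ker = ⊤ := by
    rcases eq_bot_or_top ψ.normal_ker with h | h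
    · exfalso
      have hi : Function.Injective ψ := (MonoidHom.ker_eq_bot_iff _).1 h
      exact hG ⟨⟨fun a b => hi (by rw [map_mul, map_mul, mul_comm])⟩⟩
    · exact h
  refine ⟨φ.codRestrict _ (fun g => ?_), fun a b h => hinj (congrArg Subtype.val h)⟩
  rw [Equiv.Perm.mem_alternatingGroup]
  exact MonoidHom.mem_ker.1 (hψ ▸ Subgroup.mem_top g : g ∈ ψ.ker)

theorem two_mul_card_dvd_factorial_index [IsSimpleGroup G] (hG : ¬ IsMulCommutative G)
    (H : Subgroup G) (hH : H ≠ ⊤) : 2 * Nat.card G ∣ H.index.factorial := by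
  obtain ⟨f, hf⟩ := exists_injective_alternating hG H hH
  have h1 : 1 < H.index := by
    have h0 : H.index ≠ 0 := Subgroup.index_ne_zero_of_finite
    have h' : H.index ≠ 1 := fun h => hH (Subgroup.index_eq_one.1 h)
    omega
  have : Nontrivial (Fin H.index) := Fin.nontrivial_iff_two_le.2 h1
  have := Subgroup.card_dvd_of_injective f hf
  have h2 := mul_dvd_mul_left 2 this
  rwa [two_mul_nat_card_alternatingGroup, Nat.card_perm, Nat.card_fin] at h2

/-- The index of a proper subgroup is at least `m` when all smaller factorials are excluded. -/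
theorem le_index [IsSimpleGroup G] (hG : ¬ IsMulCommutative G) {m : ℕ}
    (hm : ∀ i < m, ¬ 2 * Nat.card G ∣ i.factorial) (H : Subgroup G) (hH : H ≠ ⊤) :
    m ≤ H.index :=
  not_lt.1 fun h => hm _ h (two_mul_card_dvd_factorial_index hG H hH)

theorem five_le_index [IsSimpleGroup G] (hG : ¬ IsMulCommutative G)
    (H : Subgroup G) (hH : H ≠ ⊤) : 5 ≤ H.index := by
  refine le_index hG (fun i hi hd => ?_) H hH
  have h24 : 2 * Nat.card G ∣ 2 * 12 := hd.trans
    ((Nat.factorial_dvd_factorial (by omega : i ≤ 4)).trans (by rfl))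
  have h12 : Nat.card G ∣ 12 := Nat.dvd_of_mul_dvd_mul_left (by norm_num) h24
  have hnp : ¬ (Nat.card G).Prime := fun h => hG ⟨⟨fun a b => by
    have : Fact (Nat.card G).Prime := ⟨h⟩
    have : IsCyclic G := isCyclic_of_prime_card rfl
    exact IsCyclic.isMulCommutative.is_comm.comm a b⟩⟩
  have hpp : ∀ q k : ℕ, q.Prime → Nat.card G ≠ q ^ k := fun q k hq h => by
    have : Fact q.Prime := ⟨hq⟩
    exact not_isPGroup hG q (IsPGroup.of_card h)
  have hsix : Nat.card G = 6 ∨ Nat.card G = 12 := by
    have hm : Nat.card G ∈ Nat.divisors 12 := Nat.mem_divisors.2 ⟨h12, by norm_num⟩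
    rw [show Nat.divisors 12 = {1, 2, 3, 4, 6, 12} from rfl] at hm
    simp only [Finset.mem_insert, Finset.mem_singleton] at hm
    rcases hm with h | h | h | h | h | h
    · exact absurd h (hpp 2 0 (by norm_num))
    · exact absurd h (hpp 2 1 (by norm_num))
    · exact absurd h (hpp 3 1 (by norm_num))
    · exact absurd h (hpp 2 2 (by norm_num))
    · exact Or.inl h
    · exact Or.inr h
  have key := two_mul_card_dvd_factorial_index hG
  rcases hsix with h | h
  · have : Fact (Nat.Prime 3) := ⟨by norm_num⟩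
    obtain ⟨K, hK⟩ := Sylow.exists_subgroup_card_pow_prime (G := G) 3 (n := 1)
      (by rw [h]; norm_num)
    have hi : K.index = 2 := by
      have := K.card_mul_index; rw [hK, h] at this; omega
    have := key K (fun e => by simp [e] at hi)
    rw [hi, h] at this; norm_num [Nat.factorial] at this
  · have : Fact (Nat.Prime 2) := ⟨by norm_num⟩
    obtain ⟨K, hK⟩ := Sylow.exists_subgroup_card_pow_prime (G := G) 2 (n := 2)
      (by rw [h]; norm_num)
    have hi : K.index = 3 := by
      have := K.card_mul_index; rw [hK, h] at this; omega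
    have := key K (fun e => by simp [e] at hi)
    rw [hi, h] at this; norm_num [Nat.factorial] at this

section Sylow

variable {p : ℕ} [hp : Fact p.Prime]

theorem normalizer_ne_top [IsSimpleGroup G] (hG : ¬ IsMulCommutative G) (hd : p ∣ Nat.card G)
    (P : Sylow p G) : Subgroup.normalizer ((P : Subgroup G) : Set G) ≠ ⊤ := by
  intro h
  rcases eq_bot_or_top (Subgroup.normalizer_eq_top_iff.1 h) with h' | h'
  · exact P.ne_bot_of_dvd_card hd h'
  · refine not_isPGroup hG p ?_
    have := P.2
    rw [h'] at this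
    exact this.of_equiv Subgroup.topEquiv

theorem card_sylow_ne_one [IsSimpleGroup G] (hG : ¬ IsMulCommutative G) (hd : p ∣ Nat.card G) :
    Nat.card (Sylow p G) ≠ 1 := by
  obtain ⟨P⟩ : Nonempty (Sylow p G) := inferInstance
  rw [P.card_eq_index_normalizer]
  exact fun h => normalizer_ne_top hG hd P (Subgroup.index_eq_one.1 h)

theorem two_mul_card_dvd_factorial_sylow [IsSimpleGroup G] (hG : ¬ IsMulCommutative G)
    (hd : p ∣ Nat.card G) : 2 * Nat.card G ∣ (Nat.card (Sylow p G)).factorial := by
  obtain ⟨P⟩ : Nonempty (Sylow p G) := inferInstance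
  rw [P.card_eq_index_normalizer]
  exact two_mul_card_dvd_factorial_index hG _ (normalizer_ne_top hG hd P)

/-- Sylow subgroups have the expected order. -/
theorem sylow_card_of_eq {m k : ℕ} (hn : Nat.card G = p ^ k * m) (hm : ¬ p ∣ m) (P : Sylow p G) :
    Nat.card ↥(P : Subgroup G) = p ^ k := by
  have hm0 : m ≠ 0 := fun h => hm (h ▸ dvd_zero p)
  have hpk : p ^ k ≠ 0 := pow_ne_zero _ hp.out.ne_zero
  rw [P.card_eq_multiplicity, hn, Nat.factorization_mul hpk hm0]
  simp [Nat.factorization_pow, Nat.factorization_eq_zero_of_not_dvd hm, hp.out.factorization]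

theorem sylow_index_of_eq {m k : ℕ} (hn : Nat.card G = p ^ k * m) (hm : ¬ p ∣ m) (P : Sylow p G) :
    (P : Subgroup G).index = m := by
  have h := (P : Subgroup G).card_mul_index
  rw [sylow_card_of_eq hn hm P, hn] at h
  exact Nat.eq_of_mul_eq_mul_left (pow_pos hp.out.pos k) h

theorem card_sylow_dvd {m k : ℕ} (hn : Nat.card G = p ^ k * m) (hm : ¬ p ∣ m) :
    Nat.card (Sylow p G) ∣ m := by
  obtain ⟨P⟩ : Nonempty (Sylow p G) := inferInstance
  exact sylow_index_of_eq hn hm P ▸ P.card_dvd_index

theorem card_sylow_mem {m k : ℕ} (hn : Nat.card G = p ^ k * m) (hm : ¬ p ∣ m) :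
    Nat.card (Sylow p G) ∈ m.divisors.filter (fun d => d % p = 1) := by
  rw [Finset.mem_filter, Nat.mem_divisors]
  refine ⟨⟨card_sylow_dvd hn hm, fun h => hm (h ▸ dvd_zero p)⟩, ?_⟩
  have h := card_sylow_modEq_one p G
  exact Eq.trans h (Nat.mod_eq_of_lt hp.out.one_lt)

/-- Burnside: in a nonabelian simple group no Sylow subgroup is central in its normalizer. -/
theorem not_normalizer_le_centralizer [IsSimpleGroup G] (hG : ¬ IsMulCommutative G)
    (hd : p ∣ Nat.card G) (P : Sylow p G) :
    ¬ Subgroup.normalizer ((P : Subgroup G) : Set G) ≤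
      Subgroup.centralizer ((P : Subgroup G) : Set G) := by
  intro h
  have hc := MonoidHom.ker_transferSylow_isComplement' P h
  have hnd := MonoidHom.not_dvd_card_ker_transferSylow P h
  rcases eq_bot_or_top (MonoidHom.normal_ker (MonoidHom.transferSylow P h)) with h' | h'
  · rw [h', Subgroup.isComplement'_bot_left] at hc
    refine not_isPGroup hG p ?_
    have := P.2
    rw [hc] at this
    exact this.of_equiv Subgroup.topEquiv
  · rw [h', Subgroup.card_top] at hnd
    exact hnd hd

/-- If the Sylow `p`-subgroups have order `p`, then `[N(P) : C(P)]` is a nontrivial divisor of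
`p - 1`. -/
theorem exists_card_normalizer_eq [IsSimpleGroup G] (hG : ¬ IsMulCommutative G)
    (P : Sylow p G) (hP : Nat.card ↥(P : Subgroup G) = p) :
    ∃ e : ℕ, 1 < e ∧ e ∣ p - 1 ∧
      e * Nat.card ↥(Subgroup.centralizer ((P : Subgroup G) : Set G)) =
        Nat.card ↥(Subgroup.normalizer ((P : Subgroup G) : Set G)) ∧
      p ∣ Nat.card ↥(Subgroup.centralizer ((P : Subgroup G) : Set G)) := by
  have hcy : IsCyclic ↥(P : Subgroup G) := isCyclic_of_prime_card hP
  have hd : p ∣ Nat.card G := by
    have h := (P : Subgroup G).card_subgroup_dvd_card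
    rwa [hP] at h
  have hle : Subgroup.centralizer ((P : Subgroup G) : Set G) ≤
      Subgroup.normalizer ((P : Subgroup G) : Set G) :=
    Subgroup.centralizer_le_normalizer _
  refine ⟨(Subgroup.centralizer ((P : Subgroup G) : Set G)).relIndex
    (Subgroup.normalizer ((P : Subgroup G) : Set G)), ?_, ?_, ?_, ?_⟩
  · have h1 := not_normalizer_le_centralizer hG hd P
    rw [← Subgroup.relIndex_eq_one] at h1
    have h0 : (Subgroup.centralizer ((P : Subgroup G) : Set G)).relIndex
      (Subgroup.normalizer ((P : Subgroup G) : Set G)) ≠ 0 := Subgroup.index_ne_zero_of_finite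
    omega
  · have key := Subgroup.card_dvd_of_injective _
      (QuotientGroup.kerLift_injective (P : Subgroup G).normalizerMonoidHom)
    rw [Subgroup.normalizerMonoidHom_ker, ← Subgroup.index, ← Subgroup.relIndex] at key
    rwa [hcy.card_mulAut, hP, Nat.totient_prime hp.out] at key
  · rw [mul_comm, Subgroup.relIndex, ← Subgroup.card_mul_index
      ((Subgroup.centralizer ((P : Subgroup G) : Set G)).subgroupOf
        (Subgroup.normalizer ((P : Subgroup G) : Set G)))]
    rw [Nat.card_congr (Subgroup.subgroupOfEquivOfLe hle).toEquiv]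
  · have hle' : (P : Subgroup G) ≤ Subgroup.centralizer ((P : Subgroup G) : Set G) := by
      intro a ha
      rw [Subgroup.mem_centralizer_iff]
      intro b hb
      exact congrArg Subtype.val (IsCyclic.isMulCommutative.is_comm.comm (⟨b, hb⟩ : ↥(P : Subgroup G)) ⟨a, ha⟩)
    have := Subgroup.card_dvd_of_le hle'
    rwa [hP] at this

/-- If `n_p` is not `1` modulo `p ^ 2`, two Sylow subgroups meet in a subgroup of index `p`,
which is then normal in both. -/
theorem exists_inter_relIndex_eq (h : Nat.card (Sylow p G) % p ^ 2 ≠ 1) :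
    ∃ P Q : Sylow p G, P ≠ Q ∧ (Q : Subgroup G).relIndex (P : Subgroup G) = p := by
  obtain ⟨P⟩ : Nonempty (Sylow p G) := inferInstance
  by_contra hcon
  push Not at hcon
  have hstab : ∀ Q : Sylow p G, MulAction.stabilizer ↥(P : Subgroup G) Q =
      (Q : Subgroup G).subgroupOf (P : Subgroup G) := by
    intro Q
    ext g
    rw [MulAction.mem_stabilizer_iff, Subgroup.mem_subgroupOf, Subgroup.smul_def,
      Sylow.smul_eq_iff_mem_normalizer]
    constructor
    · intro hg
      have : (g : G) ∈ (P : Subgroup G) ⊓ Subgroup.normalizer ((Q : Subgroup G) : Set G) :=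
        ⟨g.2, hg⟩
      exact ((P.2.inf_normalizer_sylow Q).le this).2
    · exact fun hg => Subgroup.le_normalizer hg
  have hdiv : ∀ Q : Sylow p G, Q ≠ P → p ^ 2 ∣ (MulAction.stabilizer ↥(P : Subgroup G) Q).index := by
    intro Q hQ
    obtain ⟨j, hj⟩ := P.2.index (MulAction.stabilizer ↥(P : Subgroup G) Q)
    rw [hj]
    apply pow_dvd_pow
    rw [hstab] at hj
    rcases j with _ | _ | j
    · exfalso
      rw [pow_zero, Subgroup.index_eq_one, Subgroup.subgroupOf_eq_top] at hj
      exact hQ (Sylow.ext (P.3 Q.2 hj))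
    · exfalso
      rw [zero_add, pow_one] at hj
      exact hcon P Q hQ.symm hj
    · omega
  classical
  have := Fintype.ofFinite (Quotient (MulAction.orbitRel ↥(P : Subgroup G) (Sylow p G)))
  have hsum := Nat.card_congr
    (MulAction.selfEquivSigmaOrbitsQuotientStabilizer ↥(P : Subgroup G) (Sylow p G))
  rw [Nat.card_sigma, ← Finset.add_sum_erase _ _
    (Finset.mem_univ (Quotient.mk'' P : Quotient (MulAction.orbitRel ↥(P : Subgroup G) (Sylow p G))))]
    at hsum
  have hfix : ∀ g : ↥(P : Subgroup G), g • P = P := fun g => by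
    rw [Subgroup.smul_def, Sylow.smul_eq_iff_mem_normalizer]
    exact Subgroup.le_normalizer g.2
  have hout : (Quotient.mk'' P : Quotient (MulAction.orbitRel ↥(P : Subgroup G) (Sylow p G))).out
      = P := by
    have h1 := Quotient.mk_out' (s₁ := MulAction.orbitRel ↥(P : Subgroup G) (Sylow p G)) P
    obtain ⟨g, hg⟩ := MulAction.orbitRel_apply.1 h1
    exact hg.symm.trans (hfix g)
  have hone : Nat.card (↥(P : Subgroup G) ⧸ MulAction.stabilizer ↥(P : Subgroup G)
      (Quotient.mk'' P : Quotient (MulAction.orbitRel ↥(P : Subgroup G) (Sylow p G))).out) = 1 := by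
    rw [← Subgroup.index_eq_card, hout, hstab, Subgroup.index_eq_one, Subgroup.subgroupOf_eq_top]
  rw [hone] at hsum
  apply h
  have hrest : p ^ 2 ∣ ∑ x ∈ Finset.univ.erase
      (Quotient.mk'' P : Quotient (MulAction.orbitRel ↥(P : Subgroup G) (Sylow p G))),
      Nat.card (↥(P : Subgroup G) ⧸ MulAction.stabilizer ↥(P : Subgroup G) x.out) := by
    refine Finset.dvd_sum fun x hx => ?_
    rw [← Subgroup.index_eq_card]
    refine hdiv _ fun hxP => ?_
    exact (Finset.mem_erase.1 hx).1 (x.out_eq'.symm.trans (congrArg Quotient.mk'' hxP))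
  obtain ⟨c, hc⟩ := hrest
  rw [hsum, hc, Nat.add_mul_mod_self_left]
  exact Nat.mod_eq_of_lt (Nat.one_lt_pow two_ne_zero hp.out.one_lt)

/-- The normalizer of an intersection of two Sylow subgroups of index `p` in them. -/
theorem exists_index_of_inter {m k : ℕ} [IsSimpleGroup G]
    (hn : Nat.card G = p ^ (k + 2) * m) (hm : ¬ p ∣ m) (h : Nat.card (Sylow p G) % p ^ 2 ≠ 1) :
    ∃ H : Subgroup G, H ≠ ⊤ ∧ H.index ∣ m ∧
      ∃ d, 1 < d ∧ d % p = 1 ∧ d ∣ m / H.index := by
  obtain ⟨P, Q, hPQ, hrel⟩ := exists_inter_relIndex_eq h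
  set Z := (P : Subgroup G) ⊓ (Q : Subgroup G) with hZdef
  have hcP := sylow_card_of_eq hn hm P
  have hcQ := sylow_card_of_eq hn hm Q
  have hZ : Nat.card ↥Z * p = p ^ (k + 2) := by
    have h1 := Subgroup.card_mul_index ((Q : Subgroup G).subgroupOf (P : Subgroup G))
    rw [← Subgroup.relIndex, hrel, hcP, ← Subgroup.inf_subgroupOf_left,
      Nat.card_congr (Subgroup.subgroupOfEquivOfLe (inf_le_left : Z ≤ _)).toEquiv] at h1
    exact h1
  have hZ' : Nat.card ↥Z = p ^ (k + 1) := by
    rw [pow_succ p (k + 1)] at hZ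
    exact Nat.eq_of_mul_eq_mul_right hp.out.pos hZ
  have hnor : ∀ R : Sylow p G, Z ≤ (R : Subgroup G) →
      (R : Subgroup G) ≤ Subgroup.normalizer (Z : Set G) := by
    intro R hR
    have hcR := sylow_card_of_eq hn hm R
    have : (Z.subgroupOf (R : Subgroup G)).Normal := by
      apply Subgroup.normal_of_index_eq_minFac_card
      have h1 := Subgroup.card_mul_index (Z.subgroupOf (R : Subgroup G))
      rw [Nat.card_congr (Subgroup.subgroupOfEquivOfLe hR).toEquiv, hZ', hcR] at h1
      rw [hcR, Nat.pow_minFac (by omega), hp.out.minFac_eq]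
      rw [pow_succ p (k + 1)] at h1
      exact Nat.eq_of_mul_eq_mul_left (pow_pos hp.out.pos _) h1
    exact (Subgroup.normal_subgroupOf_iff_le_normalizer hR).1 this
  have hP := hnor P inf_le_left
  have hQ := hnor Q inf_le_right
  refine ⟨Subgroup.normalizer (Z : Set G), ?_, ?_, ?_⟩
  · intro htop
    rcases eq_bot_or_top (Subgroup.normalizer_eq_top_iff.1 htop) with h' | h'
    · rw [h', Subgroup.card_bot] at hZ'
      exact absurd hZ'.symm (Nat.one_lt_pow (by omega) hp.out.one_lt).ne'
    · exact hPQ (Sylow.ext (le_antisymm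
        ((le_top).trans (h'.symm.le.trans inf_le_right))
        ((le_top).trans (h'.symm.le.trans inf_le_left))))
  · exact (Subgroup.index_dvd_of_le hP).trans (dvd_of_eq (sylow_index_of_eq hn hm P))
  · set K := Subgroup.normalizer (Z : Set G) with hKdef
    have hne : P.subtype hP ≠ Q.subtype hQ := fun he => hPQ (Sylow.subtype_injective he)
    have hd1 : 1 < Nat.card (Sylow p ↥K) :=
      Finite.one_lt_card_iff_nontrivial.2 ⟨_, _, hne⟩
    refine ⟨Nat.card (Sylow p ↥K), hd1, ?_, ?_⟩
    · exact Eq.trans (card_sylow_modEq_one p ↥K) (Nat.mod_eq_of_lt hp.out.one_lt)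
    · have hd := (P.subtype hP).card_dvd_index
      have hi : (P.subtype hP : Subgroup ↥K).index = (P : Subgroup G).relIndex K := rfl
      have hmul := Subgroup.relIndex_mul_index hP
      rw [sylow_index_of_eq hn hm P] at hmul
      rw [hi] at hd
      rwa [← hmul, Nat.mul_div_cancel _ (Nat.pos_of_ne_zero Subgroup.index_ne_zero_of_finite)]

end Sylow

section Perm

open Equiv Equiv.Perm

variable {n q : ℕ} [hq : Fact q.Prime]

theorem card_centralizer_of_orderOf_eq (hn : n < 2 * q) {x : Perm (Fin n)} (hx : orderOf x = q) :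
    Nat.card ↥(Subgroup.centralizer ({x} : Set (Perm (Fin n)))) = q * (n - q).factorial := by
  have hpr : (orderOf x).Prime := hx.symm ▸ hq.out
  obtain ⟨j, hj⟩ := cycleType_prime_order hpr
  have hle := x.sum_cycleType_le
  rw [hj, Multiset.sum_replicate, smul_eq_mul, Fintype.card_fin, hx] at hle
  have hj0 : j = 0 := by
    by_contra hne
    have : 2 * q ≤ (j + 1) * q := Nat.mul_le_mul_right q (by omega)
    omega
  rw [nat_card_centralizer x, hj, hj0, hx, Fintype.card_fin]
  simp [mul_comm]

theorem sq_not_dvd_factorial (hn : n < 2 * q) : ¬ q ^ 2 ∣ n.factorial := by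
  intro h
  have h2 := hq.out.two_le
  have hsq : n < q ^ 2 := lt_of_lt_of_le hn (by rw [sq]; exact Nat.mul_le_mul_right q h2)
  rw [Nat.Prime.pow_dvd_factorial_iff hq.out (b := 2) (by
    rcases Nat.eq_zero_or_pos n with rfl | hpos
    · simp
    · exact Nat.log_lt_of_lt_pow (by omega) hsq)] at h
  simp at h
  have : n / q < 2 := Nat.div_lt_iff_lt_mul hq.out.pos |>.2 hn
  omega

theorem perm_card_normalizer_zpowers (hn : n < 2 * q) (hq2 : q ≠ 2) {x : Perm (Fin n)}
    (hx : orderOf x = q) :
    2 * Nat.card ↥(Subgroup.normalizer ((Subgroup.zpowers x : Subgroup _) : Set (Perm (Fin n))) ⊓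
      alternatingGroup (Fin n)) ∣ q * (q - 1) * (n - q).factorial := by
  set P0 : Subgroup (Perm (Fin n)) := Subgroup.zpowers x with hP0
  have hcard : Nat.card ↥P0 = q := by rw [hP0, Nat.card_zpowers, hx]
  have hP0A : P0 ≤ alternatingGroup (Fin n) := by
    rw [hP0, Subgroup.zpowers_le, mem_alternatingGroup]
    rcases Int.units_eq_one_or (sign x) with h | h
    · exact h
    · exfalso
      have hpow : sign x ^ q = 1 := by
        rw [← map_pow, ← hx, pow_orderOf_eq_one, map_one]
      rw [h, Odd.neg_one_pow (hq.out.odd_of_ne_two hq2)] at hpow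
      exact absurd hpow (by decide)
  obtain ⟨R, hR⟩ := IsPGroup.exists_le_sylow
    (IsPGroup.of_card (p := q) (n := 1) (by rw [hcard, pow_one]) : IsPGroup q ↥P0)
  have hRcard : Nat.card ↥(R : Subgroup (Perm (Fin n))) = q := by
    obtain ⟨j, hj⟩ := R.2.exists_card_eq
    have h1 := Subgroup.card_dvd_of_le hR
    rw [hcard, hj] at h1
    have h2 : q ^ j ∣ n.factorial := by
      have := (R : Subgroup (Perm (Fin n))).card_subgroup_dvd_card
      rwa [hj, Nat.card_perm, Nat.card_fin] at this
    rcases j with _ | _ | j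
    · exact absurd (Nat.dvd_one.1 (by simpa using h1)) hq.out.ne_one
    · simpa using hj
    · exact absurd ((pow_dvd_pow q (by omega)).trans h2) (sq_not_dvd_factorial hn)
  have hRP : (R : Subgroup (Perm (Fin n))) = P0 :=
    (Subgroup.eq_of_le_of_card_ge hR (by rw [hRcard, hcard])).symm
  have hsup := R.normalizer_sup_eq_top' (N := alternatingGroup (Fin n)) (hRP ▸ hP0A)
  rw [← R.coe_coe, hRP] at hsup
  set NS := Subgroup.normalizer (P0 : Set (Perm (Fin n))) with hNS
  have : Nontrivial (Fin n) := by
    by_contra hnt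
    rw [not_nontrivial_iff_subsingleton] at hnt
    have : Subsingleton (Perm (Fin n)) := inferInstance
    rw [Subsingleton.elim x 1, orderOf_one] at hx
    exact hq.out.ne_one hx.symm
  have hrel : (alternatingGroup (Fin n)).relIndex NS = 2 := by
    rw [← Subgroup.relIndex_sup_right, hsup, Subgroup.relIndex_top_right,
      alternatingGroup.index_eq_two]
  have hN : Nat.card ↥(NS ⊓ alternatingGroup (Fin n)) * 2 = Nat.card ↥NS := by
    rw [← hrel, ← Subgroup.card_mul_index ((alternatingGroup (Fin n)).subgroupOf NS),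
      Subgroup.relIndex]
    congr 1
    rw [← Subgroup.inf_subgroupOf_left]
    exact (Nat.card_congr
      (Subgroup.subgroupOfEquivOfLe (inf_le_left : NS ⊓ alternatingGroup (Fin n) ≤ NS)).toEquiv).symm
  rw [mul_comm 2, hN]
  have hle : Subgroup.centralizer (P0 : Set (Perm (Fin n))) ≤ NS :=
    Subgroup.centralizer_le_normalizer _
  rw [← Subgroup.card_mul_index ((Subgroup.centralizer (P0 : Set (Perm (Fin n)))).subgroupOf NS),
    Nat.card_congr (Subgroup.subgroupOfEquivOfLe hle).toEquiv]
  have hCeq : Subgroup.centralizer (P0 : Set (Perm (Fin n))) = Subgroup.centralizer {x} := by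
    rw [hP0, Subgroup.zpowers_eq_closure, Subgroup.centralizer_closure]
  have hC : Nat.card ↥(Subgroup.centralizer (P0 : Set (Perm (Fin n)))) = q * (n - q).factorial := by
    rw [hCeq, card_centralizer_of_orderOf_eq hn hx]
  have hidx : ((Subgroup.centralizer (P0 : Set (Perm (Fin n)))).subgroupOf NS).index ∣ q - 1 := by
    have hcy : IsCyclic ↥P0 := isCyclic_of_prime_card hcard
    have key := Subgroup.card_dvd_of_injective _
      (QuotientGroup.kerLift_injective P0.normalizerMonoidHom)
    rw [Subgroup.normalizerMonoidHom_ker, ← Subgroup.index] at key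
    rwa [hcy.card_mulAut, hcard, Nat.totient_prime hq.out] at key
  rw [hC]
  refine (Nat.mul_dvd_mul_left _ hidx).trans (dvd_of_eq ?_)
  ring

end Perm

/-- Restrictions on the normalizer and centralizer of a Sylow subgroup of prime order `q` coming
from an action of degree `H.index < 2 * q`. -/
theorem card_normalizer_dvd_of_index {q : ℕ} [hq : Fact q.Prime] [IsSimpleGroup G]
    (hG : ¬ IsMulCommutative G) (hq2 : q ≠ 2) (P : Sylow q G)
    (hP : Nat.card ↥(P : Subgroup G) = q) (H : Subgroup G) (hH : H ≠ ⊤) (hlt : H.index < 2 * q) :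
    2 * Nat.card ↥(Subgroup.normalizer ((P : Subgroup G) : Set G)) ∣
        q * (q - 1) * (H.index - q).factorial ∧
      Nat.card ↥(Subgroup.centralizer ((P : Subgroup G) : Set G)) ∣
        q * (H.index - q).factorial := by
  obtain ⟨f, hf⟩ := exists_injective_alternating hG H hH
  set φ : G →* Equiv.Perm (Fin H.index) := (alternatingGroup (Fin H.index)).subtype.comp f
  have hφ : Function.Injective φ := Subtype.val_injective.comp hf
  have hφA : ∀ g, φ g ∈ alternatingGroup (Fin H.index) := fun g => (f g).2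
  obtain ⟨g, hg⟩ : ∃ g : G, Subgroup.zpowers g = (P : Subgroup G) := by
    obtain ⟨g, hg⟩ := exists_prime_orderOf_dvd_card' q (G := ↥(P : Subgroup G)) (dvd_of_eq hP.symm)
    refine ⟨(g : G), Subgroup.eq_of_le_of_card_ge (Subgroup.zpowers_le.2 g.2) ?_⟩
    rw [Nat.card_zpowers, Subgroup.orderOf_coe, hg, hP]
  have hordg : orderOf g = q := by rw [← Nat.card_zpowers, hg, hP]
  have hord : orderOf (φ g) = q := by rw [orderOf_injective φ hφ, hordg]
  have himg : (P : Subgroup G).map φ = Subgroup.zpowers (φ g) := by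
    rw [← hg, MonoidHom.map_zpowers]
  constructor
  · refine dvd_trans (Nat.mul_dvd_mul_left 2 ?_)
      (perm_card_normalizer_zpowers hlt hq2 hord)
    rw [← Subgroup.card_map_of_injective hφ]
    refine Subgroup.card_dvd_of_le ?_
    rw [← himg]
    rintro y ⟨a, ha, rfl⟩
    exact ⟨Subgroup.le_normalizer_map φ ⟨a, ha, rfl⟩, hφA a⟩
  · rw [← card_centralizer_of_orderOf_eq hlt hord, ← Subgroup.card_map_of_injective hφ]
    refine Subgroup.card_dvd_of_le ?_
    rintro y ⟨a, ha, rfl⟩
    rw [Subgroup.mem_centralizer_iff]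
    rintro z rfl
    have hgP : g ∈ (P : Subgroup G) := hg ▸ Subgroup.mem_zpowers g
    rw [← map_mul, ← map_mul, Subgroup.mem_centralizer_iff.1 ha g hgP]

end Cfsg.Agent.SimpleOrder
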