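import Mathlib
import Cfsg.Agent.Lib.PrimeCycle
import Cfsg.Agent.Lib.SimpleOrder
import Cfsg.Agent.Lib.PermMultiTrans

/-!
Subgroups of alternating groups generated by an element of prime order `p` and a cycle of prime
length `q`, including the small exceptional degrees 5, 6, 7, 13.
-/

set_option autoImplicit false

namespace Cfsg.Agent.AltTwoCycles

open Equiv Equiv.Perm MulAction
open scoped Pointwise

section count

variable {G : Type*} [Group G] [Finite G]

/-- A prime dividing the order exactly once gives `n_p (p - 1)` elements of that order. -/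
theorem card_orderOf_ge (p : ℕ) [hp : Fact p.Prime] (h : (Nat.card G).factorization p = 1) :
    Nat.card (Sylow p G) * (p - 1) ≤ {g : G | orderOf g = p}.ncard := by
  classical
  have hc : ∀ P : Sylow p G, Nat.card (P : Subgroup G) = p := fun P => by
    rw [P.card_eq_multiplicity, h, pow_one]
  have hord : ∀ (P : Sylow p G) (g : G), g ∈ (P : Subgroup G) → g ≠ 1 → orderOf g = p := by
    intro P g hg hg1
    have h1 : orderOf g ∣ p := by
      have := Subgroup.orderOf_dvd_natCard _ hg
      rwa [hc P] at this
    exact (hp.out.eq_one_or_self_of_dvd _ h1).resolve_left (fun e => hg1 (orderOf_eq_one_iff.mp e))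
  have hsz : ∀ (P : Sylow p G) (g : G), g ∈ (P : Subgroup G) → g ≠ 1 → (P : Subgroup G) = Subgroup.zpowers g := by
    intro P g hg hg1
    refine (Subgroup.eq_of_le_of_card_ge (Subgroup.zpowers_le.mpr hg) ?_).symm
    rw [hc P, Nat.card_zpowers, hord P g hg hg1]
  haveI := Fintype.ofFinite (Sylow p G)
  have hsig : Nat.card (Σ P : Sylow p G, ↥(((P : Subgroup G) : Set G) \ {1})) = Nat.card (Sylow p G) * (p - 1) := by
    rw [Nat.card_sigma]
    have : ∀ P : Sylow p G, Nat.card ↥(((P : Subgroup G) : Set G) \ {1}) = p - 1 := by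
      intro P
      rw [Nat.card_coe_set_eq, Set.ncard_sdiff_singleton_of_mem (one_mem (P : Subgroup G)), ← Nat.card_coe_set_eq]
      rw [show Nat.card (((P : Subgroup G) : Set G)) = p from hc P]
    rw [Finset.sum_congr rfl (fun P _ => this P)]
    simp [Nat.card_eq_fintype_card]
  rw [← hsig, ← Nat.card_coe_set_eq]
  refine Nat.card_le_card_of_injective
    (fun z => (⟨(z.2 : G), hord z.1 _ z.2.2.1 (by simpa using z.2.2.2)⟩ : {g : G | orderOf g = p})) ?_
  rintro ⟨P, g, hg⟩ ⟨P', g', hg'⟩ e
  obtain rfl : g = g' := congrArg Subtype.val e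
  obtain rfl : P = P' := Sylow.ext ((hsz P g hg.1 (by simpa using hg.2)).trans (hsz P' g hg'.1 (by simpa using hg'.2)).symm)
  rfl

/-- The number of Sylow subgroups: congruence and divisibility. -/
theorem card_sylow_cond (p : ℕ) [hp : Fact p.Prime] :
    Nat.card (Sylow p G) % p = 1 ∧ Nat.card (Sylow p G) ∣ Nat.card G / p ^ (Nat.card G).factorization p := by
  obtain ⟨P⟩ : Nonempty (Sylow p G) := inferInstance
  constructor
  · have := card_sylow_modEq_one p G
    rwa [Nat.ModEq, Nat.one_mod_eq_one.mpr hp.out.ne_one] at this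
  · have h := (P : Subgroup G).index_mul_card
    rw [P.card_eq_multiplicity] at h
    have h2 := Sylow.card_dvd_index P
    rwa [← (Nat.div_eq_of_eq_mul_left (pow_pos hp.out.pos _) h.symm)] at h2

end count

section primitive

variable {G X : Type*} [Group G] [Finite G] [MulAction G X] [Finite X] [IsPreprimitive G X] [FaithfulSMul G X]

/-- A nontrivial normal subgroup of a faithful primitive group has order divisible by the degree. -/
theorem dvd_card_of_normal (N : Subgroup G) [N.Normal] (hN : N ≠ ⊥) : Nat.card X ∣ Nat.card N := by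
  have hfix : fixedPoints N X ≠ Set.univ := by
    intro h
    apply hN
    rw [eq_bot_iff]
    intro n hn
    refine Subgroup.mem_bot.mpr (FaithfulSMul.eq_of_smul_eq_smul (α := X) fun a => ?_)
    rw [one_smul]
    exact (h ▸ Set.mem_univ a : a ∈ fixedPoints N X) ⟨n, hn⟩
  haveI := IsQuasiPreprimitive.isPretransitive_of_normal (G := G) (X := X) (N := N) hfix
  rcases isEmpty_or_nonempty X with hX | ⟨⟨a⟩⟩
  · exact absurd (Set.eq_univ_of_forall fun a => isEmptyElim a) hfix
  have h1 := index_stabilizer_of_transitive N a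
  rw [← h1]
  exact Subgroup.index_dvd_card _

/-- In a faithful primitive group a Sylow subgroup of order not divisible by the degree is not unique. -/
theorem card_sylow_ne_one (p : ℕ) [hp : Fact p.Prime] (hd : p ∣ Nat.card G)
    (h : ¬ Nat.card X ∣ p ^ (Nat.card G).factorization p) : Nat.card (Sylow p G) ≠ 1 := by
  intro h1
  obtain ⟨P⟩ : Nonempty (Sylow p G) := inferInstance
  haveI : Subsingleton (Sylow p G) := (Nat.card_eq_one_iff_unique.mp h1).1
  haveI := Sylow.normal_of_subsingleton P
  have := dvd_card_of_normal (X := X) (P : Subgroup G) (P.ne_bot_of_dvd_card hd)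
  rw [P.card_eq_multiplicity] at this
  exact h this

/-- There is no primitive group of order 30 and degree 6. -/
theorem card_ne_thirty (hX : Nat.card X = 6) : Nat.card G ≠ 30 := by
  intro h
  haveI : Fact (Nat.Prime 3) := ⟨by norm_num⟩
  haveI : Fact (Nat.Prime 5) := ⟨by norm_num⟩
  have f3 : (Nat.card G).factorization 3 = 1 := by
    rw [h, show (30 : ℕ) = 3 * 10 by norm_num, Nat.factorization_mul (by norm_num) (by norm_num), Finsupp.add_apply,
      Nat.Prime.factorization_self (by norm_num), Nat.factorization_eq_zero_of_not_dvd (by norm_num : ¬ 3 ∣ 10)]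
  have f5 : (Nat.card G).factorization 5 = 1 := by
    rw [h, show (30 : ℕ) = 5 * 6 by norm_num, Nat.factorization_mul (by norm_num) (by norm_num), Finsupp.add_apply,
      Nat.Prime.factorization_self (by norm_num), Nat.factorization_eq_zero_of_not_dvd (by norm_num : ¬ 5 ∣ 6)]
  have n3 : Nat.card (Sylow 3 G) = 10 := by
    obtain ⟨h1, h2⟩ := card_sylow_cond (G := G) 3
    have h3 := card_sylow_ne_one (X := X) 3 (by rw [h]; norm_num) (by rw [hX, f3]; norm_num)
    rw [f3, h] at h2
    have : Nat.card (Sylow 3 G) ≤ 10 := Nat.le_of_dvd (by norm_num) h2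
    interval_cases hk : Nat.card (Sylow 3 G) <;> omega
  have n5 : Nat.card (Sylow 5 G) = 6 := by
    obtain ⟨h1, h2⟩ := card_sylow_cond (G := G) 5
    have h3 := card_sylow_ne_one (X := X) 5 (by rw [h]; norm_num) (by rw [hX, f5]; norm_num)
    rw [f5, h] at h2
    have : Nat.card (Sylow 5 G) ≤ 6 := Nat.le_of_dvd (by norm_num) h2
    interval_cases hk : Nat.card (Sylow 5 G) <;> omega
  have c3 := card_orderOf_ge 3 f3
  have c5 := card_orderOf_ge 5 f5
  rw [n3] at c3; rw [n5] at c5
  have hd : Disjoint {g : G | orderOf g = 3} {g : G | orderOf g = 5} := by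
    rw [Set.disjoint_left]; intro g hg hg'; simp only [Set.mem_setOf_eq] at hg hg'; omega
  have := Set.ncard_union_eq hd (Set.toFinite _) (Set.toFinite _)
  have := Set.ncard_le_card (({g : G | orderOf g = 3}) ∪ {g : G | orderOf g = 5})
  omega

/-- There is no primitive group of order 132 and degree 12. -/
theorem card_ne_132 (hX : Nat.card X = 12) : Nat.card G ≠ 132 := by
  intro h
  haveI : Fact (Nat.Prime 3) := ⟨by norm_num⟩
  haveI : Fact (Nat.Prime 11) := ⟨by norm_num⟩
  haveI : Fact (Nat.Prime 2) := ⟨by norm_num⟩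
  have f3 : (Nat.card G).factorization 3 = 1 := by
    rw [h, show (132 : ℕ) = 3 * 44 by norm_num, Nat.factorization_mul (by norm_num) (by norm_num), Finsupp.add_apply,
      Nat.Prime.factorization_self (by norm_num), Nat.factorization_eq_zero_of_not_dvd (by norm_num : ¬ 3 ∣ 44)]
  have f11 : (Nat.card G).factorization 11 = 1 := by
    rw [h, show (132 : ℕ) = 11 * 12 by norm_num, Nat.factorization_mul (by norm_num) (by norm_num), Finsupp.add_apply,
      Nat.Prime.factorization_self (by norm_num), Nat.factorization_eq_zero_of_not_dvd (by norm_num : ¬ 11 ∣ 12)]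
  have f2 : (Nat.card G).factorization 2 = 2 := by
    rw [h, show (132 : ℕ) = 2 ^ 2 * 33 by norm_num, Nat.factorization_mul (by norm_num) (by norm_num), Finsupp.add_apply,
      Nat.factorization_eq_zero_of_not_dvd (by norm_num : ¬ 2 ∣ 33), Nat.Prime.factorization_pow (by norm_num)]
    simp
  have n11 : Nat.card (Sylow 11 G) = 12 := by
    obtain ⟨h1, h2⟩ := card_sylow_cond (G := G) 11
    have h3 := card_sylow_ne_one (X := X) 11 (by rw [h]; norm_num) (by rw [hX, f11]; norm_num)
    rw [f11, h] at h2
    have : Nat.card (Sylow 11 G) ≤ 12 := Nat.le_of_dvd (by norm_num) h2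
    interval_cases hk : Nat.card (Sylow 11 G) <;> omega
  have n3 : 4 ≤ Nat.card (Sylow 3 G) := by
    obtain ⟨h1, h2⟩ := card_sylow_cond (G := G) 3
    have h3 := card_sylow_ne_one (X := X) 3 (by rw [h]; norm_num) (by rw [hX, f3]; norm_num)
    omega
  have c3 := card_orderOf_ge 3 f3
  have c11 := card_orderOf_ge 11 f11
  rw [n11] at c11
  set A : Set G := {g : G | orderOf g = 3} ∪ {g : G | orderOf g = 11} with hA
  have hcA : 128 ≤ A.ncard := by
    rw [hA, Set.ncard_union_eq ?_ (Set.toFinite _) (Set.toFinite _)]
    · omega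
    · rw [Set.disjoint_left]; intro g hg hg'; simp only [Set.mem_setOf_eq] at hg hg'; omega
  have hsub : ∀ P : Sylow 2 G, ((P : Subgroup G) : Set G) = Aᶜ := by
    intro P
    have hP : Nat.card (P : Subgroup G) = 4 := by rw [P.card_eq_multiplicity, f2]; norm_num
    refine Set.eq_of_subset_of_ncard_le ?_ ?_ (Set.toFinite _)
    · intro g hg hgA
      have h4 := Subgroup.orderOf_dvd_natCard _ hg
      rw [hP] at h4
      rcases hgA with h5 | h5 <;> simp only [Set.mem_setOf_eq] at h5 <;> rw [h5] at h4 <;> omega
    · rw [Set.ncard_compl, h, ← Nat.card_coe_set_eq ((P : Subgroup G) : Set G)]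
      have : Nat.card ((P : Subgroup G) : Set G) = 4 := hP
      omega
  haveI : Subsingleton (Sylow 2 G) := ⟨fun P P' => Sylow.ext (SetLike.coe_injective ((hsub P).trans (hsub P').symm))⟩
  obtain ⟨P⟩ : Nonempty (Sylow 2 G) := inferInstance
  exact card_sylow_ne_one (X := X) 2 (by rw [h]; norm_num) (by rw [hX, f2]; norm_num)
    (Nat.card_eq_one_iff_unique.mpr ⟨inferInstance, ⟨P⟩⟩)

end primitive

variable {α : Type*} [Fintype α] [DecidableEq α]

/-- Multiple transitivity given by a prime cycle in a primitive group. -/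
theorem isMultiplyPretransitive_succ (G : Subgroup (Perm α)) (hG : IsPreprimitive G α) {y : Perm α}
    (hyG : y ∈ G) (hyc : y.IsCycle) (hq : (y.support.card).Prime)
    (h1 : y.support.card + 1 ≤ Fintype.card α) :
    IsMultiplyPretransitive G α (Fintype.card α - y.support.card + 1) := by
  classical
  set q := y.support.card with hqdef
  set s : Set α := (y.support : Set α)ᶜ with hs
  have hscard : s.ncard = Fintype.card α - q := by
    rw [hs, Set.ncard_compl, Set.ncard_coe_finset, Nat.card_eq_fintype_card]
  have hyfix : (⟨y, hyG⟩ : G) ∈ fixingSubgroup G s := by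
    rw [mem_fixingSubgroup_iff]
    intro z hz
    exact notMem_support.mp hz
  have hprim : IsPreprimitive (fixingSubgroup G s) (SubMulAction.ofFixingSubgroup G s) := by
    haveI : IsPretransitive (fixingSubgroup G s) (SubMulAction.ofFixingSubgroup G s) := by
      refine ⟨fun a b => ?_⟩
      have ha : (a : α) ∈ y.support := not_not.mp (fun h => a.2 h)
      have hb : (b : α) ∈ y.support := not_not.mp (fun h => b.2 h)
      obtain ⟨i, hi⟩ := hyc.exists_pow_eq (mem_support.mp ha) (mem_support.mp hb)
      exact ⟨⟨⟨y, hyG⟩, hyfix⟩ ^ i, Subtype.ext hi⟩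
    apply IsPreprimitive.of_prime_card
    convert! hq
    rw [hqdef, Nat.card_eq_fintype_card, Fintype.card_subtype]
    apply congr_arg
    ext z
    simp [SubMulAction.mem_ofFixingSubgroup_iff, hs]
  obtain ⟨n, hn⟩ : ∃ n, Fintype.card α - q = n + 1 := ⟨Fintype.card α - q - 1, by omega⟩
  have h : IsMultiplyPreprimitive G α (n + 2) :=
    hG.isMultiplyPreprimitive (s := s) (n := n) (by omega) (by rw [Nat.card_eq_fintype_card]; have := hq.two_le; omega) hprim
  rw [hn]
  exact h.isMultiplyPretransitive ..

/-- The point stabiliser in a 3-transitive group is a faithful primitive group of degree one less. -/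
theorem stabilizer_facts (G : Subgroup (Perm α)) (h3 : IsMultiplyPretransitive G α 3) (hn : 3 ≤ Fintype.card α) (a : α) :
    IsPreprimitive (stabilizer G a) (SubMulAction.ofStabilizer G a) ∧
    FaithfulSMul (stabilizer G a) (SubMulAction.ofStabilizer G a) ∧
    Nat.card (SubMulAction.ofStabilizer G a) + 1 = Fintype.card α ∧
    Fintype.card α * Nat.card (stabilizer G a) = Nat.card G := by
  haveI := h3
  haveI h2 : IsMultiplyPretransitive G α 2 :=
    isMultiplyPretransitive_of_le (n := 3) (by norm_num) (by rw [Nat.card_eq_fintype_card]; omega)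
  haveI : IsPretransitive G α := isPretransitive_of_is_two_pretransitive
  refine ⟨isPreprimitive_of_is_two_pretransitive (SubMulAction.ofStabilizer.isMultiplyPretransitive.mp h3), ⟨?_⟩, ?_, ?_⟩
  · intro g g' h
    apply Subtype.ext; apply Subtype.ext
    refine Equiv.ext fun z => ?_
    by_cases hz : z = a
    · subst hz
      exact (mem_stabilizer_iff.mp g.2).trans (mem_stabilizer_iff.mp g'.2).symm
    · exact congrArg Subtype.val (h ⟨z, hz⟩)
  · rw [SubMulAction.nat_card_ofStabilizer_add_one_eq, Nat.card_eq_fintype_card]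
  · rw [← Nat.card_eq_fintype_card, ← index_stabilizer_of_transitive G a, Subgroup.index_mul_card]

/-- Maps from a simple nonabelian group to a commutative group are trivial. -/
theorem hom_eq_one {A B : Type*} [Group A] [IsSimpleGroup A] [CommGroup B] (hA : ¬ IsMulCommutative A) (f : A →* B) :
    ∀ a, f a = 1 := by
  rcases (MonoidHom.normal_ker f).eq_bot_or_eq_top with h | h
  · exact absurd ⟨⟨fun a b => (MonoidHom.ker_eq_bot_iff f).mp h (by rw [map_mul, map_mul, mul_comm])⟩⟩ hA
  · exact fun a => MonoidHom.mem_ker.mp (h ▸ Subgroup.mem_top a)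

theorem alt_facts (hα : 5 ≤ Fintype.card α) :
    IsSimpleGroup (alternatingGroup α) ∧ ¬ IsMulCommutative (alternatingGroup α) := by
  refine ⟨alternatingGroup.isSimpleGroup (by rw [Nat.card_eq_fintype_card]; exact hα), fun h => ?_⟩
  have := alternatingGroup.isMulCommutative_iff_card_le_three.mp h
  rw [Nat.card_eq_fintype_card] at this
  omega

/-- A subgroup of the alternating group is everything or its index is large. -/
theorem eq_alternating_or_index (hα : 5 ≤ Fintype.card α) (G : Subgroup (Perm α)) (hG : G ≤ alternatingGroup α) :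
    G = alternatingGroup α ∨ ((Fintype.card α).factorial ∣ (G.subgroupOf (alternatingGroup α)).index.factorial ∧
      2 * ((G.subgroupOf (alternatingGroup α)).index * Nat.card G) = (Fintype.card α).factorial) := by
  classical
  haveI : Nontrivial α := Fintype.one_lt_card_iff_nontrivial.mp (by omega)
  obtain ⟨hs, hnc⟩ := alt_facts hα
  haveI := hs
  by_cases h : G.subgroupOf (alternatingGroup α) = ⊤
  · exact Or.inl (le_antisymm hG (Subgroup.subgroupOf_eq_top.mp h))
  refine Or.inr ⟨?_, ?_⟩
  · have := Cfsg.Agent.SimpleOrder.two_mul_card_dvd_factorial_index hnc _ h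
    rwa [two_mul_nat_card_alternatingGroup, Nat.card_perm, Nat.card_eq_fintype_card] at this
  · rw [← Nat.card_congr (Subgroup.subgroupOfEquivOfLe hG).toEquiv, Subgroup.index_mul_card,
      two_mul_nat_card_alternatingGroup, Nat.card_perm, Nat.card_eq_fintype_card]

/-- A subgroup of index six in the alternating group of degree six. -/
theorem iso_five_of_index_six (hα : Fintype.card α = 6) (G : Subgroup (Perm α)) (hG : G ≤ alternatingGroup α)
    (hk : (G.subgroupOf (alternatingGroup α)).index = 6) :
    Nonempty (G ≃* alternatingGroup (Fin 5)) := by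
  classical
  haveI : Nontrivial α := Fintype.one_lt_card_iff_nontrivial.mp (by omega)
  obtain ⟨hs, hnc⟩ := alt_facts (α := α) (by omega)
  haveI := hs
  set A := alternatingGroup α
  set G0 := G.subgroupOf A with hG0
  haveI : Fintype (A ⧸ G0) := Fintype.ofFinite _
  have h6 : Fintype.card (A ⧸ G0) = 6 := by rw [← Nat.card_eq_fintype_card]; exact hk
  let φ : A →* Perm (A ⧸ G0) := MulAction.toPermHom A (A ⧸ G0)
  have hφ : φ.ker = ⊥ := by
    rcases (MonoidHom.normal_ker φ).eq_bot_or_eq_top with h | h
    · exact h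
    · exfalso
      have hle : G0 = ⊤ := by
        rw [eq_top_iff]; intro a _
        have h1 : φ a (QuotientGroup.mk 1) = QuotientGroup.mk 1 := by
          rw [MonoidHom.mem_ker.mp (h ▸ Subgroup.mem_top a)]; rfl
        change (QuotientGroup.mk (a * 1) : A ⧸ G0) = QuotientGroup.mk 1 at h1
        rw [mul_one, QuotientGroup.eq, mul_one] at h1
        exact inv_mem_iff.mp h1
      rw [hle, Subgroup.index_top] at hk
      omega
  have hsign : ∀ a, sign (φ a) = 1 := hom_eq_one hnc ((sign : Perm (A ⧸ G0) →* ℤˣ).comp φ)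
  set c0 : A ⧸ G0 := QuotientGroup.mk 1
  have hfix : ∀ g : G0, φ g c0 = c0 := by
    intro g
    change (QuotientGroup.mk ((g : A) * 1) : A ⧸ G0) = QuotientGroup.mk 1
    rw [mul_one, QuotientGroup.eq, mul_one]
    exact inv_mem g.2
  have hiff : ∀ (g : G0) (z : A ⧸ G0), φ g z ≠ c0 ↔ z ≠ c0 := fun g z =>
    not_congr ⟨fun h => (φ g).injective (h.trans (hfix g).symm), fun h => h ▸ hfix g⟩
  let Z := {z : A ⧸ G0 // z ≠ c0}
  let ψ : G0 →* Perm Z :=
    { toFun := fun g => (φ g).subtypePerm (hiff g)
      map_one' := by ext; simp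
      map_mul' := fun g h => by ext; simp }
  have hψs : ∀ g, ψ g ∈ alternatingGroup Z := by
    intro g
    rw [mem_alternatingGroup]
    change sign ((φ g).subtypePerm (hiff g)) = 1
    convert! (sign_subtypePerm (φ g) (hiff g) (fun z (hz : φ g z ≠ z) (h : z = c0) => hz (by rw [h]; exact hfix g))).trans (hsign _) using 4
  have hψi : Function.Injective ψ := by
    intro g h e
    have : φ g = φ h := by
      refine Equiv.ext fun z => ?_
      by_cases hz : z = c0
      · rw [hz, hfix, hfix]
      · exact congrArg Subtype.val (Equiv.congr_fun e ⟨z, hz⟩)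
    exact Subtype.ext ((MonoidHom.ker_eq_bot_iff φ).mp hφ this)
  have hZ : Fintype.card Z = 5 := by
    rw [Fintype.card_subtype_compl, Fintype.card_subtype_eq, h6]
  haveI : Nontrivial Z := Fintype.one_lt_card_iff_nontrivial.mp (by omega)
  have hbij : Function.Bijective (ψ.codRestrict _ hψs) := by
    refine Function.Injective.bijective_of_nat_card_le (fun a b h => hψi (congrArg Subtype.val h)) ?_
    have h1 : 2 * Nat.card (alternatingGroup Z) = 120 := by
      rw [two_mul_nat_card_alternatingGroup, Nat.card_perm, Nat.card_eq_fintype_card, hZ]; rfl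
    have h2 : 2 * (6 * Nat.card G0) = 720 := by
      rw [← hk, Subgroup.index_mul_card, two_mul_nat_card_alternatingGroup, Nat.card_perm, Nat.card_eq_fintype_card, hα]; rfl
    omega
  exact ⟨(Subgroup.subgroupOfEquivOfLe hG).symm.trans ((MulEquiv.ofBijective _ hbij).trans
    (Equiv.altCongrHom (Fintype.equivFinOfCardEq hZ)))⟩

/-- An element of prime order `p` with at most one fixed-point-free orbit pair. -/
theorem support_card_cases {x : Perm α} {p : ℕ} (hp : p.Prime) (hx : orderOf x = p) (h2 : Fintype.card α ≤ 2 * p) :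
    (x.IsCycle ∧ x.support.card = p) ∨ (x.support.card = 2 * p ∧ Fintype.card α = 2 * p) := by
  obtain ⟨n, hn⟩ := cycleType_prime_order (hx.symm ▸ hp)
  have hs : x.support.card = (n + 1) * p := by
    rw [← sum_cycleType, hn, Multiset.sum_replicate, hx, smul_eq_mul]
  have hle : x.support.card ≤ Fintype.card α := Finset.card_le_univ _
  have := hp.two_le
  rcases Nat.eq_zero_or_pos n with rfl | hn0
  · left
    rw [zero_add, one_mul] at hs
    exact ⟨isCycle_of_prime_order (hx.symm ▸ hp) (by rw [hx, hs]; omega), hs⟩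
  · right
    have : 2 * p ≤ (n + 1) * p := Nat.mul_le_mul_right p (by omega)
    omega

/-- A 5-element in the stabiliser of three points in a 3-transitive group of degree 13 gives the
alternating group. -/
theorem thirteen_of_five (hα : Fintype.card α = 13) (G : Subgroup (Perm α)) (hA : G ≤ alternatingGroup α)
    (hG : IsPreprimitive G α) (h3 : IsMultiplyPretransitive G α 3) (h5 : 5 ∣ Nat.card G) :
    alternatingGroup α ≤ G := by
  classical
  haveI : Fact (Nat.Prime 5) := ⟨by norm_num⟩
  have hjordan : ∀ c ∈ G, c.IsCycle → c.support.card = 5 → alternatingGroup α ≤ G := fun c hc hcc hcs =>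
    PrimeCycle.alternatingGroup_le G hG hc hcc (by rw [hcs]; norm_num) (by omega)
  by_cases h25 : 25 ∣ Nat.card G
  · -- a Sylow subgroup of the symmetric group lies inside `G`
    obtain ⟨c0, hc0⟩ : ∃ c : Perm α, c.IsCycle ∧ c.support.card = 5 := by
      obtain ⟨s, hs⟩ := Finset.exists_subset_card_eq (s := (Finset.univ : Finset α)) (n := 5) (by simp [hα])
      refine ⟨(s.toList).formPerm, List.isCycle_formPerm (Finset.nodup_toList s) (by simp [hs.2]), ?_⟩
      rw [List.support_formPerm_of_nodup _ (Finset.nodup_toList s) (fun z hz => by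
        have := congrArg List.length hz; simp [hs.2] at this)]
      simp [hs.2]
    have hperm : (Nat.card (Perm α)).factorization 5 = 2 := by
      rw [Nat.card_perm, Nat.card_eq_fintype_card, hα, show Nat.factorial 13 = 5 ^ 2 * 249080832 by rfl,
        Nat.factorization_mul (by norm_num) (by norm_num), Finsupp.add_apply,
        Nat.factorization_eq_zero_of_not_dvd (by norm_num : ¬ 5 ∣ 249080832), Nat.Prime.factorization_pow (by norm_num)]
      simp
    obtain ⟨K, hK⟩ := Sylow.exists_subgroup_card_pow_prime (G := G) 5 (n := 2) (show 5 ^ 2 ∣ Nat.card G from h25)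
    let S : Sylow 5 (Perm α) := Sylow.ofCard (K.map G.subtype)
      (by rw [Subgroup.card_map_of_injective (Subgroup.subtype_injective _), hK, hperm])
    have hp0 : IsPGroup 5 (Subgroup.zpowers c0) := IsPGroup.of_card (n := 1) (by
      rw [Nat.card_zpowers, hc0.1.orderOf, hc0.2, pow_one])
    obtain ⟨T, hT⟩ := hp0.exists_le_sylow
    obtain ⟨g, hg⟩ := exists_smul_eq (Perm α) T S
    have hcG : g * c0 * g⁻¹ ∈ G := by
      have : g * c0 * g⁻¹ ∈ (S : Subgroup (Perm α)) := by
        rw [← hg]; exact Set.smul_mem_smul_set (hT (Subgroup.mem_zpowers c0))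
      obtain ⟨k, -, hk⟩ := this
      rw [← hk]; exact k.2
    exact hjordan _ hcG hc0.1.conj (by rw [card_support_conj, hc0.2])
  · haveI := h3
    obtain ⟨x⟩ : Nonempty (Fin 3 ↪ α) := ⟨(Fin.castLEEmb (by omega : 3 ≤ Fintype.card α)).trans (Fintype.equivFin α).symm.toEmbedding⟩
    have hcard := Cfsg.Agent.PermMultiTrans.card_eq_descFactorial_mul (G := G) x
    rw [Nat.card_eq_fintype_card, hα] at hcard
    have hd5 : 5 ∣ Nat.card (stabilizer G x) := by
      rw [← hcard] at h5
      rcases (Nat.Prime.dvd_mul (by norm_num)).mp h5 with h | h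
      · exact absurd h (by decide)
      · exact h
    have hf : (Nat.card (stabilizer G x)).factorization 5 = 1 := by
      have h1 := (Nat.Prime.dvd_iff_one_le_factorization (by norm_num : Nat.Prime 5) Nat.card_pos.ne').mp hd5
      by_contra h
      apply h25
      have h2 : 5 ^ 2 ∣ Nat.card (stabilizer G x) :=
        ((Nat.prime_five).pow_dvd_iff_le_factorization Nat.card_pos.ne').mpr (by omega)
      exact h2.trans (Subgroup.card_subgroup_dvd_card _)
    obtain ⟨P⟩ : Nonempty (Sylow 5 (stabilizer G x)) := inferInstance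
    have hP : Nat.card (P : Subgroup (stabilizer G x)) = 5 := by rw [P.card_eq_multiplicity, hf, pow_one]
    set Q := (P : Subgroup (stabilizer G x)).map (stabilizer G x).subtype with hQ
    have hQc : Nat.card Q = 5 := by rw [hQ, Subgroup.card_map_of_injective (Subgroup.subtype_injective _), hP]
    have : Nontrivial Q := Finite.one_lt_card_iff_nontrivial.mp (by omega)
    obtain ⟨⟨r, hrQ⟩, hr1⟩ := exists_ne (1 : Q)
    have hro : orderOf r = 5 := by
      have h := Subgroup.orderOf_dvd_natCard Q hrQ
      rw [hQc] at h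
      exact ((Nat.prime_five).eq_one_or_self_of_dvd _ h).resolve_left (fun e => hr1 (Subtype.ext (orderOf_eq_one_iff.mp e)))
    have hQz : Q = Subgroup.zpowers r :=
      (Subgroup.eq_of_le_of_card_ge (Subgroup.zpowers_le.mpr hrQ) (by rw [hQc, Nat.card_zpowers, hro])).symm
    have hro' : orderOf (r : Perm α) = 5 := by rw [Subgroup.orderOf_coe, hro]
    have hrx : ∀ i, (r : Perm α) (x i) = x i := by
      obtain ⟨h, -, rfl⟩ := hrQ
      exact fun i => congrArg (fun u : Fin 3 ↪ α => u i) (mem_stabilizer_iff.mp h.2)
    have hfix : ∀ i, x i ∈ fixedPoints Q α := by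
      rintro i ⟨g, hg⟩
      obtain ⟨h, -, rfl⟩ := hg
      exact congrArg (fun u : Fin 3 ↪ α => u i) (mem_stabilizer_iff.mp h.2)
    obtain ⟨n, hn⟩ := cycleType_prime_order (σ := (r : Perm α)) (hro'.symm ▸ Nat.prime_five)
    have hs : (r : Perm α).support.card = (n + 1) * 5 := by
      rw [← sum_cycleType, hn, Multiset.sum_replicate, hro', smul_eq_mul]
    have hsubx : (r : Perm α).support ⊆ (Finset.univ.map x)ᶜ := by
      intro z hz
      rw [Finset.mem_compl, Finset.mem_map]
      rintro ⟨i, -, rfl⟩
      exact mem_support.mp hz (hrx i)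
    have hcx : ((Finset.univ.map x)ᶜ : Finset α).card = 10 := by
      rw [Finset.card_compl, Finset.card_map, Finset.card_univ, Fintype.card_fin, hα]
    have hle := Finset.card_le_card hsubx
    rcases Nat.eq_zero_or_pos n with rfl | hn0
    · exact hjordan _ r.2 (isCycle_of_prime_order (hro'.symm ▸ Nat.prime_five) (by rw [hro', hs]; norm_num)) (by rw [hs])
    have hs10 : (r : Perm α).support.card = 10 := by
      have : 2 * 5 ≤ (n + 1) * 5 := Nat.mul_le_mul_right 5 (by omega)
      omega
    have hsupp : (r : Perm α).support = (Finset.univ.map x)ᶜ := Finset.eq_of_subset_of_card_le hsubx (by omega)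
    obtain ⟨u, hu, hux⟩ := Cfsg.Agent.S4219.result h3 x P x ((finRotate 3).toEmbedding.trans x) hfix (fun i => hfix _)
    have hux' : ∀ i, (u : Perm α) (x i) = x (finRotate 3 i) := fun i => congrArg (fun e : Fin 3 ↪ α => e i) hux
    have hur : u * r * u⁻¹ ∈ Q := ((Subgroup.mem_normalizer_iff.mp hu) r).mp hrQ
    rw [hQz, Subgroup.mem_zpowers_iff] at hur
    obtain ⟨j, hj⟩ := hur
    have hiter : ∀ m : ℕ, u ^ m * r * (u ^ m)⁻¹ = r ^ (j ^ m) := by
      intro m
      induction m with
      | zero => simp
      | succ m ih =>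
        rw [show u ^ (m + 1) * r * (u ^ (m + 1))⁻¹ = u * (u ^ m * r * (u ^ m)⁻¹) * u⁻¹ by simp [pow_succ', mul_assoc, mul_inv_rev],
          ih, ← conj_zpow, ← hj, ← zpow_mul, pow_succ']
    have hj5 : ¬ (5 : ℤ) ∣ j := by
      rintro ⟨k, rfl⟩
      rw [zpow_mul, show r ^ (5 : ℤ) = 1 by rw [show (5 : ℤ) = ((5 : ℕ) : ℤ) from rfl, zpow_natCast, ← hro, pow_orderOf_eq_one],
        one_zpow] at hj
      have := conj_eq_one_iff.mp hj.symm
      exact hr1 (Subtype.ext this)
    have hj4 : (5 : ℤ) ∣ j ^ 4 - 1 := by
      have h1 : (j : ZMod 5) ≠ 0 := by rwa [Ne, ZMod.intCast_zmod_eq_zero_iff_dvd]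
      have h2 := ZMod.pow_card_sub_one_eq_one h1
      exact (ZMod.intCast_zmod_eq_zero_iff_dvd _ 5).mp (by push_cast; rw [show (5 - 1 : ℕ) = 4 from rfl] at h2; rw [h2, sub_self])
    obtain ⟨k, hk⟩ := hj4
    set z : G := u ^ 4 with hz
    have hzr : Commute (z : Perm α) (r : Perm α) := by
      have h := hiter 4
      rw [show j ^ 4 = 5 * k + 1 by omega, zpow_add, zpow_one, zpow_mul,
        show r ^ (5 : ℤ) = 1 by rw [show (5 : ℤ) = ((5 : ℕ) : ℤ) from rfl, zpow_natCast, ← hro, pow_orderOf_eq_one],
        one_zpow, one_mul, mul_inv_eq_iff_eq_mul] at h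
      exact congrArg Subtype.val h
    set R := (r : Perm α) with hR
    have hR5 : R ^ 5 = 1 := hro' ▸ pow_orderOf_eq_one R
    have hzR : ∀ (i : ℕ) (c : α), (z : Perm α) ((R ^ i) c) = (R ^ i) ((z : Perm α) c) := fun i c =>
      Equiv.congr_fun (hzr.pow_right i).eq c
    have hten : ∀ c ∈ R.support, ((z : Perm α) ^ 10) c = c := by
      intro c hc
      set d := (z : Perm α) c with hd
      have hmem : ∀ e ∈ R.support, (z : Perm α) e ∈ R.support := by
        intro e he
        rw [mem_support] at he ⊢
        intro h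
        apply he
        apply (z : Perm α).injective
        exact (Equiv.congr_fun hzr.eq e).trans h
      have hdist : ∀ e ∈ R.support, Function.Injective (fun i : Fin 5 => (R ^ (i : ℕ)) e) := by
        intro e he
        have key : ∀ i : ℕ, 0 < i → i < 5 → (R ^ i) e ≠ e := by
          intro i hi hi5 h
          obtain ⟨m, hm⟩ := exists_pow_eq_self_of_coprime (x := R) (n := i)
            (by rw [hro']; exact (Nat.coprime_of_lt_prime (Nat.pos_iff_ne_zero.mp hi) hi5 Nat.prime_five).symm)
          have h2 : R ^ i ∈ stabilizer (Perm α) e := h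
          exact mem_support.mp he (hm ▸ pow_mem h2 m : R ∈ stabilizer (Perm α) e)
        intro i i' h
        simp only at h
        apply Fin.ext
        rcases lt_trichotomy (i : ℕ) i' with hlt | heq | hgt
        · rw [show (i' : ℕ) = i + (i' - i) by omega, pow_add, Perm.mul_apply] at h
          exact absurd ((R ^ (i : ℕ)).injective h).symm (key _ (by omega) (by omega))
        · exact heq
        · rw [show (i : ℕ) = i' + (i - i') by omega, pow_add, Perm.mul_apply] at h
          exact absurd ((R ^ (i' : ℕ)).injective h) (key _ (by omega) (by omega))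
      have hsame : ∀ i : ℕ, d = (R ^ i) c → ((z : Perm α) ^ 10) c = c := by
        intro i hi
        have : ∀ m : ℕ, ((z : Perm α) ^ m) c = (R ^ (i * m)) c := by
          intro m
          induction m with
          | zero => simp
          | succ m ih => rw [pow_succ', Perm.mul_apply, ih, hzR, ← hd, hi, ← Perm.mul_apply, ← pow_add, mul_add, mul_one]
        rw [this, show i * 10 = 5 * (2 * i) by ring, pow_mul, hR5, one_pow, Perm.one_apply]
      by_cases hO : ∃ i : Fin 5, d = (R ^ (i : ℕ)) c
      · obtain ⟨i, hi⟩ := hO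
        exact hsame i hi
      push Not at hO
      let O1 := Finset.univ.map ⟨_, hdist c hc⟩
      let O2 := Finset.univ.map ⟨_, hdist d (hmem c hc)⟩
      have hdisj : Disjoint O1 O2 := by
        rw [Finset.disjoint_left]
        intro e he1 he2
        simp only [O1, O2, Finset.mem_map, Finset.mem_univ, true_and, Function.Embedding.coeFn_mk] at he1 he2
        obtain ⟨i, rfl⟩ := he1
        obtain ⟨i', hi'⟩ := he2
        have h7 : d = (R ^ ((5 - (i' : ℕ)) + i)) c := by
          rw [pow_add, Perm.mul_apply, ← hi', ← Perm.mul_apply, ← pow_add,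
            show 5 - (i' : ℕ) + i' = 5 by omega, hR5, Perm.one_apply]
        refine hO ⟨((5 - (i' : ℕ)) + i) % 5, Nat.mod_lt _ (by norm_num)⟩ ?_
        rw [h7, Fin.val_mk, ← pow_mod_orderOf R ((5 - (i' : ℕ)) + i), hro']
      have hU : O1 ∪ O2 = R.support := by
        refine Finset.eq_of_subset_of_card_le ?_ ?_
        · intro e he
          rcases Finset.mem_union.mp he with h | h <;>
            simp only [O1, O2, Finset.mem_map, Finset.mem_univ, true_and, Function.Embedding.coeFn_mk] at h <;>
            obtain ⟨i, rfl⟩ := h <;> rw [pow_apply_mem_support]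
          · exact hc
          · exact hmem c hc
        · rw [Finset.card_union_of_disjoint hdisj, Finset.card_map, Finset.card_map, Finset.card_univ, Fintype.card_fin, hs10]
      have hzd : (z : Perm α) d ∈ O1 := by
        have := hmem d (hmem c hc)
        rw [← hU, Finset.mem_union] at this
        refine this.resolve_right fun h => ?_
        simp only [O2, Finset.mem_map, Finset.mem_univ, true_and, Function.Embedding.coeFn_mk] at h
        obtain ⟨i, hi⟩ := h
        rw [hd, ← hzR, ← hd] at hi
        exact hO i ((z : Perm α).injective hi).symm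
      simp only [O1, Finset.mem_map, Finset.mem_univ, true_and, Function.Embedding.coeFn_mk] at hzd
      obtain ⟨i, hi⟩ := hzd
      have : ∀ m : ℕ, ((z : Perm α) ^ (2 * m)) c = (R ^ ((i : ℕ) * m)) c := by
        intro m
        induction m with
        | zero => simp
        | succ m ih =>
          rw [show 2 * (m + 1) = 1 + (1 + 2 * m) by ring, pow_add, Perm.mul_apply, pow_one, pow_add, Perm.mul_apply, pow_one, ih, hzR, ← hd,
            hzR, ← hi, ← Perm.mul_apply, ← pow_add, mul_add, mul_one]
      rw [show (10 : ℕ) = 2 * 5 from rfl, this, mul_comm, pow_mul, hR5, one_pow, Perm.one_apply]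
    set w : Perm α := (z : Perm α) ^ 10
    have hwx : ∀ i, w (x i) = x (finRotate 3 i) := by
      intro i
      have h40 : ∀ m : ℕ, ((u : Perm α) ^ m) (x i) = x ((finRotate 3 ^ m) i) := by
        intro m
        induction m with
        | zero => simp
        | succ m ih => rw [pow_succ', Perm.mul_apply, ih, hux', pow_succ', Perm.mul_apply]
      have hwu : w = (u : Perm α) ^ 40 := by simp [w, hz, ← pow_mul]
      have hc3 : finRotate 3 ^ 3 = 1 := by decide
      rw [hwu, h40, show 40 = 3 * 13 + 1 from rfl, pow_succ, pow_mul, hc3, one_pow, one_mul]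
    have hw3 : w.IsThreeCycle := by
      apply card_support_eq_three_iff.mp
      have : w.support = Finset.univ.map x := by
        ext e
        rw [mem_support, Finset.mem_map]
        constructor
        · intro he
          by_contra h
          refine he (hten e ?_)
          rw [hsupp, Finset.mem_compl, Finset.mem_map]
          exact h
        · rintro ⟨i, -, rfl⟩
          rw [hwx]
          intro h
          exact absurd (x.injective h) ((by decide : ∀ i : Fin 3, finRotate 3 i ≠ i) i)
      rw [this, Finset.card_map, Finset.card_univ, Fintype.card_fin]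
    exact alternatingGroup_le_of_isPreprimitive_of_isThreeCycle_mem hG hw3 (pow_mem z.2 10)

/-- A subgroup of `A₁₃` containing an 11-cycle and transitive is the whole group. -/
theorem thirteen (hα : Fintype.card α = 13) (G : Subgroup (Perm α)) (hA : G ≤ alternatingGroup α)
    (hG : IsPreprimitive G α) {y : Perm α} (hyG : y ∈ G) (hyc : y.IsCycle) (hys : y.support.card = 11) :
    G = alternatingGroup α := by
  classical
  refine le_antisymm hA ?_
  have h3 : IsMultiplyPretransitive G α 3 := by
    have := isMultiplyPretransitive_succ G hG hyG hyc (by rw [hys]; norm_num) (by omega)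
    rwa [hα, hys] at this
  by_cases h5 : 5 ∣ Nat.card G
  · exact thirteen_of_five hα G hA hG h3 h5
  exfalso
  haveI := h3
  haveI h2 : IsMultiplyPretransitive G α 2 :=
    isMultiplyPretransitive_of_le (n := 3) (by norm_num) (by rw [Nat.card_eq_fintype_card]; omega)
  haveI : Fact (Nat.Prime 11) := ⟨by norm_num⟩
  -- the two fixed points of `y`
  have hs2 : Fintype.card {z // z ∉ y.support} = 2 := by
    rw [Fintype.card_subtype_compl, Fintype.card_coe, hys, hα]
  let x : Fin 2 ↪ α := (Fintype.equivFinOfCardEq hs2).symm.toEmbedding.trans (Function.Embedding.subtype _)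
  have hxy : ∀ i, y (x i) = x i := fun i => notMem_support.mp ((Fintype.equivFinOfCardEq hs2).symm i).2
  have hrange : ∀ z, z ∉ y.support → ∃ i, x i = z := fun z hz => ⟨Fintype.equivFinOfCardEq hs2 ⟨z, hz⟩, by simp [x]⟩
  set H := stabilizer G x with hH
  have hyH : (⟨y, hyG⟩ : G) ∈ H := by
    rw [hH, mem_stabilizer_iff]; ext i; exact hxy i
  have hfixH : ∀ h : H, ∀ z, z ∉ y.support → ((h : G) : Perm α) z = z := by
    intro h z hz
    obtain ⟨i, rfl⟩ := hrange z hz
    exact congrArg (fun u : Fin 2 ↪ α => u i) (mem_stabilizer_iff.mp h.2)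
  set Y : H := ⟨⟨y, hyG⟩, hyH⟩ with hY
  have hYo : orderOf Y = 11 := by rw [hY, Subgroup.orderOf_mk, Subgroup.orderOf_mk, hyc.orderOf, hys]
  have hsubperm : ∀ (h : H) (z : α), ((h : G) : Perm α) z ∈ y.support ↔ z ∈ y.support := by
    intro h z
    constructor
    · intro hz; by_contra h1
      rw [hfixH h z h1] at hz; exact h1 hz
    · intro hz; by_contra h1
      have h2 := ((h : G) : Perm α).injective (hfixH h _ h1)
      rw [h2] at h1; exact h1 hz
  let f : H →* Perm {z // z ∈ y.support} :=
    { toFun := fun h => ((h : G) : Perm α).subtypePerm (hsubperm h)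
      map_one' := by ext; rfl
      map_mul' := fun a b => by ext; rfl }
  have hf : Function.Injective f := by
    intro a b hab
    apply Subtype.ext; apply Subtype.ext
    refine Equiv.ext fun z => ?_
    by_cases hz : z ∈ y.support
    · exact congrArg Subtype.val (Equiv.congr_fun hab ⟨z, hz⟩)
    · rw [hfixH a z hz, hfixH b z hz]
  have hHdvd : Nat.card H ∣ Nat.factorial 11 := by
    have := Subgroup.card_dvd_of_injective f hf
    rwa [Nat.card_perm, Nat.card_eq_finsetCard, hys] at this
  have h5H : ¬ 5 ∣ Nat.card H := fun h => h5 (h.trans (Subgroup.card_subgroup_dvd_card H))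
  have hfac : (Nat.card H).factorization 11 = 1 := by
    have h1 := (Nat.factorization_le_iff_dvd Nat.card_pos.ne' (Nat.factorial_ne_zero 11)).mpr hHdvd 11
    have h2 : (Nat.factorial 11).factorization 11 = 1 := by
      rw [show Nat.factorial 11 = 11 * 3628800 by rfl, Nat.factorization_mul (by norm_num) (by norm_num), Finsupp.add_apply,
        Nat.Prime.factorization_self (by norm_num), Nat.factorization_eq_zero_of_not_dvd (by norm_num : ¬ 11 ∣ 3628800)]
    have h3 := (Nat.Prime.dvd_iff_one_le_factorization (by norm_num : Nat.Prime 11) Nat.card_pos.ne').mp (hYo ▸ orderOf_dvd_natCard Y)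
    omega
  let P : Sylow 11 H := Sylow.ofCard (Subgroup.zpowers Y) (by rw [Nat.card_zpowers, hYo, hfac, pow_one])
  -- the normalizer of `P` in `H` centralises it
  have hNC : Subgroup.normalizer ((P : Subgroup H) : Set H) ≤ Subgroup.centralizer ((P : Subgroup H) : Set H) := by
    intro h hh
    have h1 : h * Y * h⁻¹ ∈ Subgroup.zpowers Y := ((Subgroup.mem_normalizer_iff.mp hh) Y).mp (Subgroup.mem_zpowers Y)
    obtain ⟨j, hj⟩ := Subgroup.mem_zpowers_iff.mp h1
    have hiter : ∀ m : ℕ, h ^ m * Y * (h ^ m)⁻¹ = Y ^ (j ^ m) := by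
      intro m
      induction m with
      | zero => simp
      | succ m ih =>
        rw [show h ^ (m + 1) * Y * (h ^ (m + 1))⁻¹ = h * (h ^ m * Y * (h ^ m)⁻¹) * h⁻¹ by simp [pow_succ', mul_assoc, mul_inv_rev],
          ih, ← conj_zpow, ← hj, ← zpow_mul, pow_succ']
    have hzero : ∀ a b : ℤ, Y ^ a = Y ^ b ↔ (a : ZMod 11) = (b : ZMod 11) := by
      intro a b
      rw [zpow_eq_zpow_iff_modEq, hYo, ← ZMod.intCast_eq_intCast_iff]
    have hj10 : (j : ZMod 11) ^ (orderOf h) = 1 := by
      have := hiter (orderOf h)
      rw [pow_orderOf_eq_one, one_mul, inv_one, mul_one] at this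
      have h2 := (hzero 1 _).mp ((zpow_one Y).trans this)
      push_cast at h2
      exact h2.symm
    have hj0 : (j : ZMod 11) ≠ 0 := by
      intro e; rw [e, zero_pow (orderOf_pos h).ne'] at hj10; exact zero_ne_one hj10
    have hjd : orderOf (j : ZMod 11) ∣ 2 := by
      have h2 : orderOf (j : ZMod 11) ∣ 10 := orderOf_dvd_of_pow_eq_one (ZMod.pow_card_sub_one_eq_one hj0)
      have h3 : orderOf (j : ZMod 11) ∣ orderOf h := orderOf_dvd_of_pow_eq_one hj10
      have h4 : ¬ 5 ∣ orderOf (j : ZMod 11) := fun e => h5H ((e.trans h3).trans (orderOf_dvd_natCard h))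
      exact (Nat.Coprime.dvd_of_dvd_mul_right ((Nat.prime_five.coprime_iff_not_dvd.mpr h4).symm) (show _ ∣ 2 * 5 from h2))
    have hj2 : (j : ZMod 11) = 1 ∨ (j : ZMod 11) = -1 := by
      have := orderOf_dvd_iff_pow_eq_one.mp hjd
      exact sq_eq_one_iff.mp this
    rcases hj2 with hj1 | hjm
    · rw [Subgroup.mem_centralizer_iff]
      rintro g ⟨i, rfl⟩
      have : h * Y * h⁻¹ = Y := by
        rw [← hj]; exact ((hzero j 1).mpr (by push_cast; exact hj1)).trans (zpow_one Y)
      have hc : Commute h Y := mul_inv_eq_iff_eq_mul.mp this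
      exact (hc.zpow_right i).eq.symm
    exfalso
    -- `h` inverts `y`, so it is an odd permutation
    set T : Perm α := ((h : G) : Perm α) with hT
    have hconj : T * y * T⁻¹ = y⁻¹ := by
      have h0 : h * Y * h⁻¹ = Y⁻¹ := by
        rw [← hj, ← zpow_neg_one]
        exact (hzero _ _).mpr (by push_cast; exact hjm)
      exact congrArg (fun g : H => ((g : G) : Perm α)) h0
    have hTy : ∀ e, T (y e) = y⁻¹ (T e) := by
      intro e
      have := Equiv.congr_fun hconj (T e)
      simp only [Perm.mul_apply] at this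
      rwa [show T⁻¹ (T e) = e from T.symm_apply_apply e] at this
    obtain ⟨c, hc⟩ := hyc.nonempty_support
    have hTc : T c ∈ y.support := (hsubperm h c).mpr hc
    have hTi : ∀ i : ℤ, T ((y ^ i) c) = (y ^ (-i)) (T c) := by
      intro i
      have h0 : T * y ^ i * T⁻¹ = y ^ (-i) := by rw [← conj_zpow, hconj, inv_zpow, zpow_neg]
      have := Equiv.congr_fun h0 (T c)
      simp only [Perm.mul_apply] at this
      rwa [show T⁻¹ (T c) = c from T.symm_apply_apply c] at this
    obtain ⟨l, hl⟩ := hyc.exists_pow_eq (mem_support.mp hc) (mem_support.mp hTc)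
    have heq : ∀ a b : ℤ, (y ^ a) c = (y ^ b) c ↔ (a : ZMod 11) = (b : ZMod 11) := by
      intro a b
      constructor
      · intro e
        rw [← hzero]
        have : y ^ a = y ^ b := by
          refine Equiv.ext fun z => ?_
          by_cases hz : z ∈ y.support
          · obtain ⟨i, rfl⟩ := hyc.exists_pow_eq (mem_support.mp hc) (mem_support.mp hz)
            rw [← zpow_natCast, ← Perm.mul_apply, ← Perm.mul_apply, ← zpow_add, ← zpow_add, add_comm a, add_comm b, zpow_add, zpow_add,
              Perm.mul_apply, Perm.mul_apply, e]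
          · rw [zpow_apply_eq_self_of_apply_eq_self (notMem_support.mp hz), zpow_apply_eq_self_of_apply_eq_self (notMem_support.mp hz)]
        apply Subtype.ext; apply Subtype.ext
        simpa using this
      · intro e
        have := congrArg (fun g : H => ((g : G) : Perm α)) ((hzero a b).mpr e)
        simp at this
        rw [this]
    set c0 := (y ^ (((6 * l : ℕ) : ℤ))) c with hc0
    have hc0s : c0 ∈ y.support := by rw [hc0, zpow_apply_mem_support]; exact hc
    have hsupp : T.support = y.support.erase c0 := by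
      ext e
      rw [mem_support, Finset.mem_erase]
      constructor
      · intro he
        have hes : e ∈ y.support := by
          by_contra h1; exact he (hfixH h e h1)
        refine ⟨fun hec => he ?_, hes⟩
        rw [hec, hc0, hTi, ← hl, ← zpow_natCast y l, ← Perm.mul_apply, ← zpow_add, heq]
        push_cast
        have : (11 : ZMod 11) = 0 := rfl
        linear_combination (-(l : ZMod 11)) * this
      · rintro ⟨hne, hes⟩ he
        obtain ⟨i, rfl⟩ := hyc.exists_pow_eq (mem_support.mp hc) (mem_support.mp hes)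
        rw [← zpow_natCast, hTi, ← hl, ← zpow_natCast y l, ← Perm.mul_apply, ← zpow_add, heq] at he
        apply hne
        rw [hc0, ← zpow_natCast, heq]
        push_cast at he ⊢
        have h11 : (11 : ZMod 11) = 0 := rfl
        linear_combination (-6 : ZMod 11) * he - (i : ZMod 11) * h11
    have hcard : T.support.card = 10 := by rw [hsupp, Finset.card_erase_of_mem hc0s, hys]
    have hsq : T ^ 2 = 1 := by
      refine Equiv.ext fun e => ?_
      rw [sq, Perm.mul_apply, Perm.one_apply]
      by_cases hes : e ∈ y.support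
      · obtain ⟨i, rfl⟩ := hyc.exists_pow_eq (mem_support.mp hc) (mem_support.mp hes)
        rw [← zpow_natCast, hTi, ← hl, ← zpow_natCast y l, ← Perm.mul_apply (y ^ (-(i : ℤ))), ← zpow_add, hTi, ← hl, ← zpow_natCast y l,
          ← Perm.mul_apply, ← zpow_add, heq]
        push_cast; ring
      · rw [hfixH h e hes, hfixH h e hes]
    have hrep := cycleType_of_pow_prime_eq_one (p := 2) hsq
    have hsum := sum_cycleType T
    rw [hrep, Multiset.sum_replicate, smul_eq_mul, hcard] at hsum
    have hodd := sign_of_cycleType T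
    rw [hrep, Multiset.sum_replicate, Multiset.card_replicate, smul_eq_mul,
      show T.cycleType.card = 5 by omega] at hodd
    rw [mem_alternatingGroup.mp (hA (h : G).2)] at hodd
    revert hodd; decide
  -- Burnside's complement fixes every point
  have hK := MonoidHom.ker_transferSylow_isComplement' P hNC
  set K := (MonoidHom.transferSylow P hNC).ker with hKdef
  have hKn : K.Normal := MonoidHom.normal_ker _
  have hKmul : Nat.card K * 11 = Nat.card H := by
    rw [← hK.card_mul_card, show Nat.card (P : Subgroup H) = 11 from (Nat.card_zpowers Y).trans hYo]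
  have hK11 : ¬ 11 ∣ Nat.card K := by
    rintro ⟨k, hk⟩
    have h2 : 11 ^ 2 ∣ Nat.card H := ⟨k, by rw [← hKmul, hk]; ring⟩
    have := ((by norm_num : Nat.Prime 11).pow_dvd_iff_le_factorization Nat.card_pos.ne').mp h2
    omega
  have hKbot : ∀ k : H, k ∈ K → k = 1 := by
    intro k hk
    apply hf
    rw [map_one]
    refine Equiv.ext fun z => Subtype.ext ?_
    change ((k : G) : Perm α) z = z
    set B : Set α := {e | ∃ g ∈ K, ((g : G) : Perm α) z = e} with hB
    have hzB : (z : α) ∈ B := ⟨1, one_mem K, rfl⟩
    have hBs : B ⊆ (y.support : Set α) := by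
      rintro _ ⟨g, -, rfl⟩; exact (hsubperm g z).mpr z.2
    have hBcl : ∀ g ∈ K, ∀ e ∈ B, ((g : G) : Perm α) e ∈ B := by
      rintro g hg _ ⟨g', hg', rfl⟩; exact ⟨g * g', mul_mem hg hg', rfl⟩
    have htrans : ∀ i : ℕ, (y ^ i) '' B = B ∨ Disjoint ((y ^ i) '' B) B := by
      intro i
      by_cases hd : Disjoint ((y ^ i) '' B) B
      · exact Or.inr hd
      left
      rw [Set.not_disjoint_iff] at hd
      obtain ⟨_, ⟨_, ⟨g1, hg1, rfl⟩, rfl⟩, g2, hg2, he⟩ := hd
      have hconjK : ∀ g ∈ K, Y ^ i * g * (Y ^ i)⁻¹ ∈ K := fun g hg => hKn.conj_mem g hg _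
      have hzz : (y ^ i) (z : α) ∈ B := by
        refine ⟨(Y ^ i * g1 * (Y ^ i)⁻¹)⁻¹ * g2, mul_mem (inv_mem (hconjK g1 hg1)) hg2, ?_⟩
        simp only [Subgroup.coe_mul, Subgroup.coe_inv, SubgroupClass.coe_pow, Perm.mul_apply, mul_inv_rev, inv_inv]
        rw [he]
        simp [hY]
      apply Set.eq_of_subset_of_ncard_le _ (by rw [Set.ncard_image_of_injective _ (y ^ i).injective]) (Set.toFinite _)
      rintro _ ⟨_, ⟨g, hg, rfl⟩, rfl⟩
      have := hBcl _ (hconjK g hg) _ hzz
      simp only [Subgroup.coe_mul, Subgroup.coe_inv, SubgroupClass.coe_pow, Perm.mul_apply] at this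
      simpa [hY] using this
    by_cases hst : y '' B = B
    · exfalso
      have hall : (y.support : Set α) ⊆ B := by
        intro e he
        obtain ⟨i, rfl⟩ := hyc.exists_pow_eq (mem_support.mp z.2) (mem_support.mp he)
        clear he
        induction i with
        | zero => simpa using hzB
        | succ i ih =>
          rw [pow_succ', Perm.mul_apply, ← hst]
          exact ⟨_, ih, rfl⟩
      let St : Subgroup K := Subgroup.comap (((stabilizer G x).subtype.comp K.subtype)) (stabilizer G (z : α))
      have hidx : St.index = B.ncard := by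
        rw [← Nat.card_coe_set_eq]
        refine Nat.card_congr (Equiv.ofBijective (fun q : K ⧸ St => (⟨(((q.out : H) : G) : Perm α) z, ⟨(q.out : H), q.out.2, rfl⟩⟩ : B)) ⟨?_, ?_⟩)
        · intro q q' e
          have h1 : (q.out)⁻¹ * q'.out ∈ St := by
            change ((((q.out : H) : G) : Perm α)⁻¹ * (((q'.out : H) : G) : Perm α)) z = z
            rw [Perm.mul_apply, Perm.inv_eq_iff_eq]
            exact (congrArg Subtype.val e).symm
          rw [← QuotientGroup.eq, QuotientGroup.out_eq', QuotientGroup.out_eq'] at h1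
          exact h1
        · rintro ⟨_, g, hg, rfl⟩
          refine ⟨QuotientGroup.mk ⟨g, hg⟩, Subtype.ext ?_⟩
          obtain ⟨⟨u, hu⟩, hu'⟩ := QuotientGroup.mk_out_eq_mul St ⟨g, hg⟩
          simp only [hu']
          have : (((u : H) : G) : Perm α) z = z := hu
          simp [Perm.mul_apply, this]
      have hBc : B.ncard = 11 := by
        rw [← hys, ← Set.ncard_coe_finset, Set.Subset.antisymm hBs hall]
      exact hK11 (hBc ▸ hidx ▸ Subgroup.index_dvd_card St)
    · have := PrimeCycle.card_mul_le_of_translates (by norm_num : Nat.Prime 11) (hys ▸ hyc.orderOf) B htrans hst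
      rw [hα] at this
      have hB1 : B.ncard ≤ 1 := by omega
      exact (Set.ncard_le_one (Set.toFinite _)).mp hB1 _ ⟨k, hk, rfl⟩ _ hzB
  have hK1 : Nat.card K = 1 := by
    rw [Subgroup.card_eq_one, eq_bot_iff]
    intro k hk; exact Subgroup.mem_bot.mpr (hKbot k hk)
  have hcard := Cfsg.Agent.PermMultiTrans.card_eq_descFactorial_mul (G := G) x
  rw [Nat.card_eq_fintype_card, hα] at hcard
  have h11 : Nat.card H = 11 := by rw [← hKmul, hK1]
  have hcard' : Nat.descFactorial 13 2 * 11 = Nat.card G := by rw [← h11]; convert! hcard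
  obtain ⟨a⟩ : Nonempty α := ⟨x 0⟩
  obtain ⟨hpr, hfa, hc1, hc2⟩ := stabilizer_facts G h3 (by omega) a
  haveI := hpr; haveI := hfa
  rw [hα] at hc1 hc2
  refine card_ne_132 (G := stabilizer G a) (X := SubMulAction.ofStabilizer G a) (by omega) ?_
  have : (Nat.descFactorial 13 2) = 156 := by decide
  omega

end Cfsg.Agent.AltTwoCycles
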