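import Mathlib
import Cfsg.Prelude.Def_Transfer

/-!
# Basic toolkit for finite `p`-groups

Class-2 commutator identities, normal subgroups and maximal subgroups of finite `p`-groups, the
Frattini subgroup, elementary abelian subgroups and Burnside's basis theorem.
-/

set_option autoImplicit false
set_option linter.style.haveILetI false
set_option linter.unusedSectionVars false

namespace Cfsg.Agent.PGroupsBasic

open Subgroup
open scoped commutatorElement

variable {G : Type*} [Group G]

/-! ### Commutator identities with central commutators -/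

theorem comm_mul_eq (a b : G) : a * b = ⁅a, b⁆ * (b * a) := by
  simp [commutatorElement_def, mul_assoc]

theorem mem_center_comm {z : G} (hz : z ∈ center G) (g : G) : g * z = z * g :=
  Subgroup.mem_center_iff.mp hz g

theorem commutatorElement_mul_left_of_central {a b c : G} (h : ⁅b, c⁆ ∈ center G) :
    ⁅a * b, c⁆ = ⁅a, c⁆ * ⁅b, c⁆ := by
  have e : ⁅a * b, c⁆ = a * ⁅b, c⁆ * a⁻¹ * ⁅a, c⁆ := by
    simp [commutatorElement_def, mul_assoc]
  rw [e, mem_center_comm h a, mul_assoc ⁅b, c⁆ a a⁻¹, mul_inv_cancel, mul_one]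
  exact (mem_center_comm h _).symm

theorem commutatorElement_mul_right_of_central {a b c : G} (h : ⁅a, c⁆ ∈ center G) :
    ⁅a, b * c⁆ = ⁅a, b⁆ * ⁅a, c⁆ := by
  have e : ⁅a, b * c⁆ = ⁅a, b⁆ * (b * ⁅a, c⁆ * b⁻¹) := by
    simp [commutatorElement_def, mul_assoc]
  rw [e, mem_center_comm h b, mul_assoc ⁅a, c⁆ b b⁻¹, mul_inv_cancel, mul_one]

theorem commutatorElement_inv_left_of_central {a b : G} (h : ⁅a, b⁆ ∈ center G) :
    ⁅a⁻¹, b⁆ = ⁅a, b⁆⁻¹ := by
  have := commutatorElement_mul_left_of_central (a := a⁻¹) h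
  rw [inv_mul_cancel, commutatorElement_one_left] at this
  exact eq_inv_of_mul_eq_one_left this.symm

theorem commutatorElement_pow_left {a b : G} (h : ⁅a, b⁆ ∈ center G) (n : ℕ) :
    ⁅a ^ n, b⁆ = ⁅a, b⁆ ^ n := by
  induction n with
  | zero => simp
  | succ n ih =>
    rw [pow_succ, commutatorElement_mul_left_of_central h, ih, pow_succ]

theorem commutatorElement_pow_right {a b : G} (h : ⁅a, b⁆ ∈ center G) (n : ℕ) :
    ⁅a, b ^ n⁆ = ⁅a, b⁆ ^ n := by
  induction n with
  | zero => simp
  | succ n ih =>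
    rw [pow_succ, commutatorElement_mul_right_of_central h, ih, pow_succ]

/-- Hall's formula in class 2: `(a b)^n = a^n b^n [b,a]^(n choose 2)`. -/
theorem mul_pow_of_central {a b : G} (h : ⁅b, a⁆ ∈ center G) (n : ℕ) :
    (a * b) ^ n = a ^ n * b ^ n * ⁅b, a⁆ ^ (n.choose 2) := by
  induction n with
  | zero => simp
  | succ n ih =>
    have hz : ∀ (k : ℕ) (g : G), g * ⁅b, a⁆ ^ k = ⁅b, a⁆ ^ k * g := fun k g =>
      mem_center_comm (pow_mem h k) g
    have h1 : b ^ n * a = ⁅b, a⁆ ^ n * (a * b ^ n) := by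
      rw [← commutatorElement_pow_left h]; exact comm_mul_eq _ _
    have hch : (n + 1).choose 2 = n + n.choose 2 := by
      rw [Nat.choose_succ_succ', Nat.choose_one_right]
    calc (a * b) ^ (n + 1) = a ^ n * b ^ n * ⁅b, a⁆ ^ n.choose 2 * (a * b) := by rw [pow_succ, ih]
      _ = a ^ n * b ^ n * (a * b) * ⁅b, a⁆ ^ n.choose 2 := by
            rw [mul_assoc _ _ (a * b), ← hz _ (a * b), ← mul_assoc]
      _ = a ^ n * ((b ^ n * a) * b) * ⁅b, a⁆ ^ n.choose 2 := by group
      _ = a ^ n * (⁅b, a⁆ ^ n * (a * (b ^ n * b))) * ⁅b, a⁆ ^ n.choose 2 := by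
            rw [h1]; simp only [mul_assoc]
      _ = a ^ n * ((a * (b ^ n * b)) * ⁅b, a⁆ ^ n) * ⁅b, a⁆ ^ n.choose 2 := by
            rw [hz n (a * (b ^ n * b))]
      _ = a ^ (n + 1) * b ^ (n + 1) * ⁅b, a⁆ ^ ((n + 1).choose 2) := by
            rw [pow_succ a, pow_succ b, hch, pow_add]; simp only [mul_assoc]

theorem normal_of_le_center {H : Subgroup G} (h : H ≤ center G) : H.Normal :=
  ⟨fun n hn g => by rwa [mem_center_comm (h hn) g, mul_assoc, mul_inv_cancel, mul_one]⟩

theorem normal_of_commutator_le {H : Subgroup G} (h : commutator G ≤ H) : H.Normal :=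
  ⟨fun n hn g => by
    have hgn : ⁅g, n⁆ ∈ H := h (Subgroup.commutator_mem_commutator (mem_top g) (mem_top n))
    have e : g * n * g⁻¹ = ⁅g, n⁆ * n := by simp [commutatorElement_def, mul_assoc]
    exact e ▸ mul_mem hgn hn⟩

/-! ### Elements and subgroups of prime order -/

theorem orderOf_eq_of_pow_eq_one {p : ℕ} [hp : Fact p.Prime] {x : G} (h : x ^ p = 1) (hx : x ≠ 1) :
    orderOf x = p :=
  orderOf_eq_prime h hx

theorem pow_eq_one_of_card {p : ℕ} {H : Subgroup G} (h : Nat.card H = p) {x : G} (hx : x ∈ H) :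
    x ^ p = 1 := by
  have h2 : ((⟨x, hx⟩ : H) ^ p : H) = 1 := h ▸ pow_card_eq_one'
  exact congrArg Subtype.val h2

theorem le_or_inf_eq_bot {p : ℕ} [hp : Fact p.Prime] {H : Subgroup G} (hH : Nat.card H = p)
    (K : Subgroup G) : H ≤ K ∨ H ⊓ K = ⊥ := by
  haveI : Finite H := Nat.finite_of_card_ne_zero (by rw [hH]; exact hp.out.ne_zero)
  have hdvd : Nat.card (H ⊓ K : Subgroup G) ∣ Nat.card H := Subgroup.card_dvd_of_le inf_le_left
  rw [hH, Nat.dvd_prime hp.out] at hdvd
  rcases hdvd with h | h
  · exact Or.inr (Subgroup.eq_bot_of_card_eq _ h)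
  · left
    have := Subgroup.eq_of_le_of_card_ge (inf_le_left : H ⊓ K ≤ H) (by rw [h, hH])
    exact this.symm ▸ (inf_le_right : H ⊓ K ≤ K)

theorem inf_zpowers_eq_bot {p : ℕ} [hp : Fact p.Prime] {x : G} {H : Subgroup G} (hx : orderOf x = p)
    (hxH : x ∉ H) : H ⊓ zpowers x = ⊥ := by
  rcases le_or_inf_eq_bot (p := p) (by rw [Nat.card_zpowers, hx]) H with h | h
  · exact absurd (h (mem_zpowers x)) hxH
  · rwa [inf_comm]

theorem zpowers_le_iff_mem {x : G} {H : Subgroup G} : zpowers x ≤ H ↔ x ∈ H :=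
  ⟨fun h => h (mem_zpowers x), fun h => zpowers_le.mpr h⟩

theorem card_sup_zpowers {p : ℕ} [hp : Fact p.Prime] {H : Subgroup G}
    [H.Normal] {x : G} (hx : orderOf x = p) (hxH : x ∉ H) :
    Nat.card (H ⊔ zpowers x : Subgroup G) = Nat.card H * p := by
  have h1 := Subgroup.relIndex_mul_relIndex ⊥ H (H ⊔ zpowers x) bot_le le_sup_left
  rw [relIndex_bot_left, relIndex_bot_left, Subgroup.relIndex_sup_left,
    ← Subgroup.inf_relIndex_right, inf_zpowers_eq_bot hx hxH, relIndex_bot_left,
    Nat.card_zpowers, hx] at h1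
  exact h1.symm

/-- The cardinality of `A ⊔ B` for a normal `A` meeting `B` trivially. -/
theorem card_sup_of_normal {A B : Subgroup G} [A.Normal] (h : A ⊓ B = ⊥) :
    Nat.card (A ⊔ B : Subgroup G) = Nat.card A * Nat.card B := by
  have h1 := Subgroup.relIndex_mul_relIndex ⊥ A (A ⊔ B) bot_le le_sup_left
  rw [relIndex_bot_left, relIndex_bot_left, Subgroup.relIndex_sup_left,
    ← Subgroup.inf_relIndex_right, h, relIndex_bot_left] at h1
  exact h1.symm

theorem exists_orderOf_eq_of_ne_bot [Finite G] {p : ℕ} [hp : Fact p.Prime] {H : Subgroup G}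
    (hH : IsPGroup p H) (h : H ≠ ⊥) : ∃ x ∈ H, orderOf x = p := by
  have hne : Nat.card H ≠ 1 := fun hc => h (Subgroup.eq_bot_of_card_eq _ hc)
  obtain hd | hd := hH.card_eq_or_dvd
  · exact absurd hd hne
  · obtain ⟨x, hx⟩ := exists_prime_orderOf_dvd_card' p hd
    exact ⟨x, x.2, by rw [Subgroup.orderOf_coe]; exact hx⟩

/-! ### Normal subgroups of `p`-groups -/

section PGroup

variable {p : ℕ} [hp : Fact p.Prime] [Finite G]

theorem inf_center_ne_bot (hG : IsPGroup p G) {N : Subgroup G} [N.Normal] (h : N ≠ ⊥) :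
    N ⊓ center G ≠ ⊥ := by
  classical
  haveI : Group.IsNilpotent G := hG.isNilpotent
  have hex : ∃ n, (⊤ : Subgroup G).lowerCentralSeries n ⊓ N = ⊥ := by
    obtain ⟨n, hn⟩ := Subgroup.nilpotent_iff_lowerCentralSeries.mp ‹_›
    exact ⟨n, by rw [hn, bot_inf_eq]⟩
  have hn := Nat.find_spec hex
  rcases Nat.eq_zero_or_pos (Nat.find hex) with h0 | h0
  · rw [h0, Subgroup.lowerCentralSeries_zero, top_inf_eq] at hn
    exact absurd hn h
  · obtain ⟨m, hm⟩ := Nat.exists_eq_succ_of_ne_zero h0.ne'
    rw [hm] at hn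
    intro hbot
    apply Nat.find_min hex (show m < Nat.find hex by omega)
    rw [eq_bot_iff, ← hbot]
    refine le_inf inf_le_right fun x hx => Subgroup.mem_center_iff.mpr fun g => ?_
    have hmem : ⁅x, g⁆ ∈ (⊤ : Subgroup G).lowerCentralSeries (m + 1) ⊓ N := by
      refine ⟨Subgroup.commutator_mem_commutator hx.1 (mem_top g), ?_⟩
      have hx2 : x ∈ N := hx.2
      have : x * (g * x⁻¹ * g⁻¹) ∈ N :=
        N.mul_mem hx2 (‹N.Normal›.conj_mem _ (N.inv_mem hx2) g)
      simpa [commutatorElement_def, mul_assoc] using this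
    rw [hn, mem_bot] at hmem
    exact (commutatorElement_eq_one_iff_mul_comm.mp hmem).symm

theorem le_center_of_card_eq_prime (hG : IsPGroup p G) {N : Subgroup G} [N.Normal]
    (h : Nat.card N = p) : N ≤ center G := by
  rcases le_or_inf_eq_bot h (center G) with h1 | h1
  · exact h1
  · refine absurd h1 (inf_center_ne_bot hG fun h2 => ?_)
    rw [h2, card_bot] at h
    exact hp.out.one_lt.ne h

/-- A normal subgroup strictly inside a normal subgroup `N` extends to a normal subgroup of `N`
`p` times as large. -/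
theorem exists_normal_succ (hG : IsPGroup p G) {M N : Subgroup G} [M.Normal] [N.Normal] (h : M < N) :
    ∃ M' : Subgroup G, M'.Normal ∧ M ≤ M' ∧ M' ≤ N ∧ Nat.card M' = Nat.card M * p := by
  have hsurj : Function.Surjective (QuotientGroup.mk' M) := QuotientGroup.mk'_surjective M
  haveI : (N.map (QuotientGroup.mk' M)).Normal := Subgroup.Normal.map ‹_› _ hsurj
  have hne : N.map (QuotientGroup.mk' M) ≠ ⊥ := by
    rw [Ne, Subgroup.map_eq_bot_iff, QuotientGroup.ker_mk']
    exact h.not_ge
  obtain ⟨z, hz, hzo⟩ := exists_orderOf_eq_of_ne_bot (p := p) ((hG.to_quotient M).to_subgroup _)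
    (inf_center_ne_bot (hG.to_quotient M) hne)
  obtain ⟨x, rfl⟩ := QuotientGroup.mk'_surjective M z
  haveI : (zpowers ((QuotientGroup.mk' M) x)).Normal :=
    normal_of_le_center (zpowers_le.mpr hz.2)
  refine ⟨(zpowers ((QuotientGroup.mk' M) x)).comap (QuotientGroup.mk' M), inferInstance, ?_, ?_, ?_⟩
  · exact (QuotientGroup.ker_mk' M).symm.le.trans (Subgroup.ker_le_comap _ _)
  · intro y hy
    have := (zpowers_le.mpr hz.1 : zpowers _ ≤ N.map (QuotientGroup.mk' M)) hy
    rw [← Subgroup.mem_comap, Subgroup.comap_map_eq, QuotientGroup.ker_mk', sup_eq_left.mpr h.le] at this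
    exact this
  · have hle : M ≤ (zpowers ((QuotientGroup.mk' M) x)).comap (QuotientGroup.mk' M) :=
      (QuotientGroup.ker_mk' M).symm.le.trans (Subgroup.ker_le_comap _ _)
    have h1 := Subgroup.relIndex_mul_relIndex ⊥ M _ bot_le hle
    have h2 : M.relIndex ((zpowers ((QuotientGroup.mk' M) x)).comap (QuotientGroup.mk' M)) = p := by
      conv_lhs => arg 1; rw [← QuotientGroup.ker_mk' M, ← MonoidHom.comap_bot]
      rw [relIndex_comap, Subgroup.map_comap_eq_self_of_surjective hsurj, relIndex_bot_left,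
        Nat.card_zpowers, hzo]
    rw [relIndex_bot_left, relIndex_bot_left, h2] at h1
    exact h1.symm

/-- Every normal subgroup `N` of a `p`-group contains, above any normal `M ≤ N`, normal subgroups of
every intermediate order. -/
theorem exists_normal_card (hG : IsPGroup p G) {M N : Subgroup G} [M.Normal] [N.Normal] (hMN : M ≤ N)
    (k : ℕ) (hk : Nat.card M * p ^ k ≤ Nat.card N) :
    ∃ L : Subgroup G, L.Normal ∧ M ≤ L ∧ L ≤ N ∧ Nat.card L = Nat.card M * p ^ k := by
  induction k with
  | zero => exact ⟨M, inferInstance, le_rfl, hMN, by simp⟩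
  | succ k ih =>
    obtain ⟨L, hL, h1, h2, h3⟩ := ih (le_trans (Nat.mul_le_mul_left _
      (Nat.pow_le_pow_right hp.out.pos (Nat.le_succ k))) hk)
    have hlt : L < N := by
      refine lt_of_le_of_ne h2 fun hLN => ?_
      rw [← hLN, h3] at hk
      exact absurd hk (Nat.not_le.mpr (Nat.mul_lt_mul_of_pos_left
        (Nat.pow_lt_pow_right hp.out.one_lt (Nat.lt_succ_self k)) Nat.card_pos))
    obtain ⟨L', hL', g1, g2, g3⟩ := exists_normal_succ hG hlt
    exact ⟨L', hL', h1.trans g1, g2, by rw [g3, h3, pow_succ, mul_assoc]⟩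

theorem exists_normal_card_pow (hG : IsPGroup p G) (N : Subgroup G) [N.Normal] (k : ℕ)
    (hk : p ^ k ≤ Nat.card N) : ∃ L : Subgroup G, L.Normal ∧ L ≤ N ∧ Nat.card L = p ^ k := by
  obtain ⟨L, hL, -, h2, h3⟩ := exists_normal_card hG (M := (⊥ : Subgroup G)) bot_le k (by simpa using hk)
  exact ⟨L, hL, h2, by simpa using h3⟩

/-! ### Maximal subgroups -/

theorem normal_of_isCoatom (hG : IsPGroup p G) {M : Subgroup G} (hM : IsCoatom M) : M.Normal :=
  haveI := hG.isNilpotent
  Subgroup.NormalizerCondition.normal_of_coatom M Group.normalizerCondition_of_isNilpotent hM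

theorem index_of_isCoatom (hG : IsPGroup p G) {M : Subgroup G} (hM : IsCoatom M) : M.index = p := by
  haveI := normal_of_isCoatom hG hM
  obtain ⟨M', -, hle, -, hcard⟩ := exists_normal_succ hG (M := M) (N := ⊤) hM.lt_top
  have htop : M' = ⊤ := by
    refine hM.2 M' (lt_of_le_of_ne hle fun he => ?_)
    rw [← he] at hcard
    have hpos : 0 < Nat.card M := Nat.card_pos
    nlinarith [hp.out.one_lt]
  rw [htop, card_top, ← Subgroup.card_mul_index M] at hcard
  exact Nat.eq_of_mul_eq_mul_left Nat.card_pos hcard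

omit [Finite G] in
theorem isCoatom_of_index_eq {M : Subgroup G} (h : M.index = p) : IsCoatom M := by
  refine ⟨fun ht => ?_, fun K hK => ?_⟩
  · rw [ht, index_top] at h; exact hp.out.one_lt.ne h
  · have h1 := Subgroup.relIndex_mul_index hK.le
    rw [h] at h1
    rcases (Nat.dvd_prime hp.out).mp (h1 ▸ dvd_mul_left K.index (M.relIndex K)) with h2 | h2
    · exact index_eq_one.mp h2
    · rw [h2] at h1
      have : M.relIndex K = 1 := Nat.eq_of_mul_eq_mul_right hp.out.pos (by rw [one_mul]; exact h1)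
      exact absurd (relIndex_eq_one.mp this) hK.not_ge

theorem normal_of_index_eq (hG : IsPGroup p G) {M : Subgroup G} (h : M.index = p) : M.Normal :=
  normal_of_isCoatom hG (isCoatom_of_index_eq h)

theorem exists_isCoatom_ge {H : Subgroup G} (h : H ≠ ⊤) : ∃ M : Subgroup G, IsCoatom M ∧ H ≤ M :=
  (eq_top_or_exists_le_coatom H).resolve_left h

theorem exists_normal_index_eq (hG : IsPGroup p G) {H : Subgroup G} (h : H ≠ ⊤) :
    ∃ M : Subgroup G, M.Normal ∧ M.index = p ∧ H ≤ M := by
  obtain ⟨M, hM, hHM⟩ := exists_isCoatom_ge h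
  exact ⟨M, normal_of_isCoatom hG hM, index_of_isCoatom hG hM, hHM⟩

theorem lt_normalizer (hG : IsPGroup p G) {H : Subgroup G} (h : H ≠ ⊤) :
    H < normalizer (H : Set G) :=
  haveI := hG.isNilpotent
  Group.normalizerCondition_of_isNilpotent H (lt_top_iff_ne_top.mpr h)

theorem isMulCommutative_of_card_le_sq (hG : IsPGroup p G) (h : Nat.card G ≤ p ^ 2) :
    IsMulCommutative G := by
  obtain ⟨n, hn⟩ := IsPGroup.iff_card.mp hG
  rw [hn] at h
  have hn2 : n ≤ 2 := (Nat.pow_le_pow_iff_right hp.out.one_lt).mp h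
  interval_cases n
  · haveI : Subsingleton G := (Nat.card_eq_one_iff_unique.mp (by simpa using hn)).1
    exact ⟨⟨fun a b => Subsingleton.elim _ _⟩⟩
  · haveI := isCyclic_of_prime_card (α := G) (p := p) (by simpa using hn)
    exact IsCyclic.isMulCommutative
  · exact IsPGroup.isMulCommutative_of_card_eq_prime_sq hn

theorem commutator_le_of_index_le_sq (hG : IsPGroup p G) {N : Subgroup G} [N.Normal]
    (h : N.index ≤ p ^ 2) : commutator G ≤ N := by
  have := isMulCommutative_of_card_le_sq (hG.to_quotient N) (by rwa [← Subgroup.index_eq_card])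
  exact (Subgroup.Normal.quotient_commutative_iff_commutator_le).mp this

end PGroup

/-! ### Elementary abelian subgroups -/

section Elementary

variable {p : ℕ}

theorem isElementaryAbelian_bot : IsElementaryAbelian p (⊥ : Subgroup G) :=
  ⟨inferInstance, fun a ha => by simp [Subgroup.mem_bot.mp ha]⟩

theorem isMulCommutative_of_forall {H : Subgroup G} (h : ∀ x ∈ H, ∀ y ∈ H, x * y = y * x) :
    IsMulCommutative H :=
  ⟨⟨fun a b => Subtype.ext (h a a.2 b b.2)⟩⟩

theorem comm_of_isMulCommutative {H : Subgroup G} (h : IsMulCommutative H) {x y : G} (hx : x ∈ H)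
    (hy : y ∈ H) : x * y = y * x :=
  congrArg Subtype.val (h.is_comm.comm (⟨x, hx⟩ : H) ⟨y, hy⟩)

theorem le_centralizer_of_isMulCommutative {H : Subgroup G} (h : IsMulCommutative H) :
    H ≤ centralizer (H : Set G) :=
  fun _ hx => Subgroup.mem_centralizer_iff.mpr fun _ hy => comm_of_isMulCommutative h hy hx

theorem isMulCommutative_of_le_centralizer {H : Subgroup G} (h : H ≤ centralizer (H : Set G)) :
    IsMulCommutative H :=
  isMulCommutative_of_forall fun x hx _ hy =>
    (Subgroup.mem_centralizer_iff.mp (h hy) x hx)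

theorem isMulCommutative_mono {H K : Subgroup G} (hK : IsMulCommutative K) (h : H ≤ K) :
    IsMulCommutative H :=
  isMulCommutative_of_forall fun _ hx _ hy => comm_of_isMulCommutative hK (h hx) (h hy)

theorem isMulCommutative_zpowers (x : G) : IsMulCommutative (zpowers x) := inferInstance

theorem isElementaryAbelian_mono {A B : Subgroup G} (hB : IsElementaryAbelian p B) (h : A ≤ B) :
    IsElementaryAbelian p A :=
  ⟨isMulCommutative_mono hB.1 h, fun a ha => hB.2 a (h ha)⟩

theorem isElementaryAbelian_map {H : Type*} [Group H] {A : Subgroup G} {f : G →* H}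
    (hA : ∀ a ∈ A, ∀ b ∈ A, f (a * b) = f (b * a)) (hp : ∀ a ∈ A, f (a ^ p) = 1) :
    IsMulCommutative (A.map f) ∧ ∀ a ∈ A.map f, a ^ p = 1 := by
  refine ⟨isMulCommutative_of_forall ?_, ?_⟩
  · rintro _ ⟨a, ha, rfl⟩ _ ⟨b, hb, rfl⟩
    rw [← map_mul, ← map_mul, hA a ha b hb]
  · rintro _ ⟨a, ha, rfl⟩
    rw [← map_pow, hp a ha]

theorem isElementaryAbelian_map_hom {G H : Type*} [Group G] [Group H] {A : Subgroup G}
    (hA : IsMulCommutative A ∧ ∀ a ∈ A, a ^ p = 1) (f : G →* H) :
    IsMulCommutative (A.map f) ∧ ∀ a ∈ A.map f, a ^ p = 1 :=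
  isElementaryAbelian_map (fun a ha b hb => by rw [comm_of_isMulCommutative hA.1 ha hb])
    (fun a ha => by rw [hA.2 a ha, map_one])

theorem isElementaryAbelian_comap_injective {G H : Type*} [Group G] [Group H] {A : Subgroup H}
    (hA : IsMulCommutative A ∧ ∀ a ∈ A, a ^ p = 1) {f : G →* H} (hf : Function.Injective f) :
    IsMulCommutative (A.comap f) ∧ ∀ a ∈ A.comap f, a ^ p = 1 :=
  ⟨isMulCommutative_of_forall fun x hx y hy => hf (by
      rw [map_mul, map_mul, comm_of_isMulCommutative hA.1 hx hy]),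
    fun a ha => hf (by rw [map_pow, hA.2 _ ha, map_one])⟩

theorem isPGroup_of_isElementaryAbelian {A : Subgroup G} (hA : IsElementaryAbelian p A) :
    IsPGroup p A :=
  fun a => ⟨1, by rw [pow_one]; exact Subtype.ext (hA.2 a a.2)⟩

theorem isElementaryAbelian_zpowers {x : G} (hx : x ^ p = 1) : IsElementaryAbelian p (zpowers x) :=
  ⟨inferInstance, fun a ha => by
    obtain ⟨k, rfl⟩ := Subgroup.mem_zpowers_iff.mp ha
    rw [← zpow_natCast, zpow_comm, zpow_natCast, hx, one_zpow]⟩

theorem isElementaryAbelian_closure {S : Set G} (hc : ∀ x ∈ S, ∀ y ∈ S, x * y = y * x)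
    (hp : ∀ x ∈ S, x ^ p = 1) : IsElementaryAbelian p (closure S) := by
  have h1 : IsMulCommutative (closure S) := by
    refine isMulCommutative_of_le_centralizer ?_
    rw [Subgroup.closure_le, Subgroup.centralizer_closure]
    exact fun x hx => Subgroup.mem_centralizer_iff.mpr fun y hy => hc y hy x hx
  refine ⟨h1, fun a ha => ?_⟩
  induction ha using Subgroup.closure_induction with
  | mem x hx => exact hp x hx
  | one => simp
  | mul x y hx hy ihx ihy =>
    rw [Commute.mul_pow (comm_of_isMulCommutative h1 hx hy), ihx, ihy, one_mul]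
  | inv x hx ih => rw [inv_pow, ih, inv_one]

theorem isElementaryAbelian_sup {A B : Subgroup G} (hA : IsElementaryAbelian p A)
    (hB : IsElementaryAbelian p B) (h : A ≤ centralizer (B : Set G)) :
    IsElementaryAbelian p (A ⊔ B) := by
  rw [Subgroup.sup_eq_closure]
  refine isElementaryAbelian_closure ?_ ?_
  · rintro x (hx | hx) y (hy | hy)
    · exact comm_of_isMulCommutative hA.1 hx hy
    · exact (Subgroup.mem_centralizer_iff.mp (h hx) y hy).symm
    · exact Subgroup.mem_centralizer_iff.mp (h hy) x hx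
    · exact comm_of_isMulCommutative hB.1 hx hy
  · rintro x (hx | hx)
    · exact hA.2 x hx
    · exact hB.2 x hx

theorem isElementaryAbelian_of_card_eq_prime [hp : Fact p.Prime] {A : Subgroup G}
    (h : Nat.card A = p) : IsElementaryAbelian p A := by
  haveI := isCyclic_of_prime_card h
  exact ⟨IsCyclic.isMulCommutative, fun a ha => pow_eq_one_of_card h ha⟩

theorem exists_card_eq_pow_of_isPGroup [Finite G] [hp : Fact p.Prime] {A : Subgroup G}
    (hA : IsPGroup p A) : ∃ n, Nat.card A = p ^ n :=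
  IsPGroup.iff_card.mp hA

/-- A cyclic subgroup all of whose elements have order dividing `p` has order at most `p`. -/
theorem card_le_prime_of_isCyclic [Finite G] [hp : Fact p.Prime] {A : Subgroup G} (hc : IsCyclic A)
    (hA : ∀ a ∈ A, a ^ p = 1) : Nat.card A ≤ p := by
  obtain ⟨g, hg⟩ := hc.exists_ofOrder_eq_natCard
  rw [← hg, ← Subgroup.orderOf_coe]
  exact Nat.le_of_dvd hp.out.pos (orderOf_dvd_of_pow_eq_one (hA g g.2))

theorem exists_maximal_elementaryAbelian [Finite G] {A : Subgroup G}
    (hA : IsElementaryAbelian p A) :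
    ∃ B : Subgroup G, A ≤ B ∧ Maximal (IsElementaryAbelian p) B := by
  obtain ⟨B, hB⟩ := Set.Finite.exists_maximal
    (Set.toFinite {B : Subgroup G | A ≤ B ∧ IsElementaryAbelian p B}) ⟨A, le_rfl, hA⟩
  exact ⟨B, hB.prop.1, hB.prop.2, fun C hC hBC => hB.2 ⟨hB.prop.1.trans hBC, hC⟩ hBC⟩

theorem maxElementaryAbelianSubgroups_nonempty [Finite G] :
    (maxElementaryAbelianSubgroups p G).Nonempty := by
  obtain ⟨B, hB, hmax⟩ := Set.exists_max_image {A : Subgroup G | IsElementaryAbelian p A}
    (fun A => Nat.card A) (Set.toFinite _) ⟨⊥, isElementaryAbelian_bot⟩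
  exact ⟨B, hB, fun C hC => hmax C hC⟩

end Elementary

/-! ### The Frattini subgroup -/

section Frattini

variable {p : ℕ} [hp : Fact p.Prime] [Finite G]

/-- A group of exponent `p` that is abelian has trivial Frattini subgroup. -/
theorem frattini_eq_bot_of_elementary (hc : ∀ a b : G, a * b = b * a) (hpow : ∀ a : G, a ^ p = 1) :
    frattini G = ⊥ := by
  rw [eq_bot_iff]
  intro x hx
  rw [mem_bot]
  by_contra hx1
  obtain ⟨M, hM⟩ := Set.Finite.exists_maximal (Set.toFinite {M : Subgroup G | x ∉ M})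
    ⟨⊥, by simpa using hx1⟩
  have hMx : x ∉ M := hM.prop
  have hsup : ∀ y : G, y ∈ M ⊔ zpowers x := by
    intro y
    by_contra hy
    have hyM : y ∉ M := fun h => hy (le_sup_left (a := M) h)
    have hxin : x ∈ M ⊔ zpowers y := by
      by_contra hxn
      have := hM.2 (y := M ⊔ zpowers y) hxn le_sup_left
      exact hyM (this (le_sup_right (a := M) (mem_zpowers y)))
    haveI : M.Normal := ⟨fun n hn g => by rwa [hc g n, mul_assoc, mul_inv_cancel, mul_one]⟩
    obtain ⟨m, hm, w, hw, hmw⟩ := Subgroup.mem_sup_of_normal_left.mp hxin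
    obtain ⟨k, rfl⟩ := Subgroup.mem_zpowers_iff.mp hw
    have hyk : y ^ k ∈ M ⊔ zpowers x := by
      have : y ^ k = m⁻¹ * x := by rw [← hmw, inv_mul_cancel_left]
      rw [this]
      exact mul_mem (inv_mem (le_sup_left (a := M) hm)) (le_sup_right (a := M) (mem_zpowers x))
    have hpk : ¬ (p : ℤ) ∣ k := by
      rintro ⟨l, rfl⟩
      rw [zpow_mul, zpow_natCast, hpow, one_zpow, mul_one] at hmw
      exact hMx (hmw ▸ hm)
    obtain ⟨u, v, huv⟩ := (Nat.prime_iff_prime_int.mp hp.out).coprime_iff_not_dvd.mpr hpk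
    apply hy
    have : y = (y ^ k) ^ v := by
      conv_lhs => rw [← zpow_one y, ← huv, zpow_add, mul_comm u, zpow_mul, zpow_natCast, hpow,
        one_zpow, one_mul, mul_comm v, zpow_mul]
    rw [this]
    exact zpow_mem hyk v
  have hco : IsCoatom M := by
    refine ⟨fun h => hMx (h ▸ mem_top x), fun K hK => ?_⟩
    by_contra hKtop
    have hxK : x ∉ K := fun h => hKtop (eq_top_iff.mpr fun y _ =>
      (sup_le hK.le (zpowers_le.mpr h)) (hsup y))
    exact hK.not_ge (hM.2 hxK hK.le)
  exact hMx (frattini_le_coatom hco hx)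

theorem commutator_le_frattini (hG : IsPGroup p G) : commutator G ≤ frattini G := by
  refine le_iInf₂ fun M hM => ?_
  haveI := normal_of_isCoatom hG hM
  exact commutator_le_of_index_le_sq hG (by
    rw [index_of_isCoatom hG hM]; exact Nat.le_self_pow two_ne_zero p)

theorem pow_mem_frattini (hG : IsPGroup p G) (x : G) : x ^ p ∈ frattini G := by
  refine Subgroup.mem_iInf.mpr fun M => Subgroup.mem_iInf.mpr fun hM => ?_
  haveI := normal_of_isCoatom hG hM
  rw [← index_of_isCoatom hG hM]
  exact M.pow_index_mem x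

theorem frattini_le_of_elementary_quotient {N : Subgroup G} [N.Normal] (hcomm : commutator G ≤ N)
    (hpow : ∀ x : G, x ^ p ∈ N) : frattini G ≤ N := by
  have hbot : frattini (G ⧸ N) = ⊥ := by
    refine frattini_eq_bot_of_elementary (p := p) ?_ ?_
    · intro a b
      obtain ⟨a, rfl⟩ := QuotientGroup.mk'_surjective N a
      obtain ⟨b, rfl⟩ := QuotientGroup.mk'_surjective N b
      rw [← map_mul, ← map_mul]
      refine (QuotientGroup.eq (s := N)).mpr (hcomm ?_)
      have : (a * b)⁻¹ * (b * a) = ⁅b⁻¹, a⁻¹⁆ := by simp [commutatorElement_def, mul_assoc]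
      rw [this]
      exact Subgroup.commutator_mem_commutator (mem_top _) (mem_top _)
    · intro a
      obtain ⟨a, rfl⟩ := QuotientGroup.mk'_surjective N a
      rw [← map_pow]
      exact (QuotientGroup.eq_one_iff _).mpr (hpow a)
  have := frattini_le_comap_frattini_of_surjective (φ := QuotientGroup.mk' N)
    (QuotientGroup.mk'_surjective N)
  rwa [hbot, MonoidHom.comap_bot, QuotientGroup.ker_mk'] at this

/-- `Φ(G) = G' G^p` for a finite `p`-group. -/
theorem frattini_eq_sup (hG : IsPGroup p G) :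
    frattini G = commutator G ⊔ closure (Set.range fun x : G => x ^ p) := by
  refine le_antisymm ?_ (sup_le (commutator_le_frattini hG) ((closure_le _).mpr ?_))
  · haveI : (commutator G ⊔ closure (Set.range fun x : G => x ^ p)).Normal :=
      normal_of_commutator_le le_sup_left
    exact frattini_le_of_elementary_quotient le_sup_left
      fun x => le_sup_right (a := commutator G) (subset_closure ⟨x, rfl⟩)
  · rintro _ ⟨x, rfl⟩
    exact pow_mem_frattini hG x

theorem commute_of_frattini_eq_bot (hG : IsPGroup p G) (h : frattini G = ⊥) (a b : G) :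
    a * b = b * a := by
  have hab : ⁅a, b⁆ ∈ frattini G :=
    commutator_le_frattini hG (Subgroup.commutator_mem_commutator (mem_top a) (mem_top b))
  rw [h, mem_bot] at hab
  exact commutatorElement_eq_one_iff_mul_comm.mp hab

theorem pow_eq_one_of_frattini_eq_bot (hG : IsPGroup p G) (h : frattini G = ⊥) (a : G) :
    a ^ p = 1 := by
  simpa [h] using pow_mem_frattini hG a

omit hp in
theorem frattini_ne_top [Nontrivial G] : frattini G ≠ ⊤ := by
  intro h
  obtain ⟨M, hM, -⟩ := exists_isCoatom_ge (H := (⊥ : Subgroup G)) bot_ne_top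
  exact hM.1 (top_le_iff.mp (h ▸ frattini_le_coatom hM))

theorem map_frattini (hG : IsPGroup p G) {H : Type*} [Group H] {f : G →* H}
    (hf : Function.Surjective f) : (frattini G).map f = frattini H := by
  haveI : Finite H := Finite.of_surjective f hf
  refine le_antisymm (map_le_iff_le_comap.mpr (frattini_le_comap_frattini_of_surjective hf)) ?_
  rw [frattini_eq_sup (hG.of_surjective f hf), sup_le_iff]
  constructor
  · rw [commutator_def, ← Subgroup.map_top_of_surjective f hf, ← Subgroup.map_commutator]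
    exact map_mono (commutator_le_frattini hG)
  · rw [closure_le]
    rintro _ ⟨y, rfl⟩
    obtain ⟨x, rfl⟩ := hf y
    exact ⟨x ^ p, pow_mem_frattini hG x, map_pow f x p⟩

/-- The Frattini subgroup is monotone in finite `p`-groups. -/
theorem frattini_map_subtype_le (hG : IsPGroup p G) (N : Subgroup G) :
    (frattini N).map N.subtype ≤ frattini G := by
  rw [frattini_eq_sup (hG.to_subgroup N), Subgroup.map_sup, sup_le_iff, MonoidHom.map_closure,
    closure_le]
  refine ⟨?_, ?_⟩
  · rw [commutator_def, Subgroup.map_commutator]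
    exact (Subgroup.commutator_mono le_top le_top).trans (commutator_le_frattini hG)
  · rintro _ ⟨_, ⟨x, rfl⟩, rfl⟩
    exact pow_mem_frattini hG (x : G)

end Frattini

/-! ### Burnside's basis theorem -/

section Basis

variable {p : ℕ} [hp : Fact p.Prime] [Finite G]

theorem card_closure_insert_le (hc : ∀ a b : G, a * b = b * a) (hpow : ∀ a : G, a ^ p = 1) (a : G)
    (S : Set G) : Nat.card (closure (insert a S)) ≤ Nat.card (closure S) * p := by
  haveI : (closure S).Normal :=
    ⟨fun n hn g => by rwa [hc g n, mul_assoc, mul_inv_cancel, mul_one]⟩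
  have he : closure (insert a S) = closure S ⊔ zpowers a := by
    rw [Set.insert_eq, Subgroup.closure_union, ← Subgroup.zpowers_eq_closure, sup_comm]
  rw [he]
  by_cases ha : a ∈ closure S
  · rw [sup_eq_left.mpr (zpowers_le.mpr ha)]
    exact Nat.le_mul_of_pos_right _ hp.out.pos
  · rw [card_sup_zpowers (orderOf_eq_of_pow_eq_one (hpow a) fun h1 => ha (h1 ▸ one_mem _)) ha]

theorem card_closure_le_pow (hc : ∀ a b : G, a * b = b * a) (hpow : ∀ a : G, a ^ p = 1)
    (T : Finset G) : Nat.card (closure (T : Set G)) ≤ p ^ T.card := by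
  classical
  induction T using Finset.induction_on with
  | empty => simp
  | insert a T ha ih =>
    rw [Finset.card_insert_of_notMem ha, pow_succ, Finset.coe_insert]
    exact (card_closure_insert_le hc hpow a _).trans (Nat.mul_le_mul_right p ih)

theorem exists_independent_subset (hc : ∀ a b : G, a * b = b * a) (hpow : ∀ a : G, a ^ p = 1)
    (S : Finset G) : ∃ T ⊆ S, closure (T : Set G) = closure (S : Set G) ∧
      Nat.card (closure (T : Set G)) = p ^ T.card := by
  classical
  induction S using Finset.induction_on with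
  | empty => exact ⟨∅, subset_rfl, rfl, by simp⟩
  | insert a S ha ih =>
    obtain ⟨T, hTS, hT, hcard⟩ := ih
    by_cases haT : a ∈ closure (T : Set G)
    · refine ⟨T, hTS.trans (Finset.subset_insert _ _), ?_, hcard⟩
      rw [Finset.coe_insert, Set.insert_eq, Subgroup.closure_union, ← hT, eq_comm, sup_eq_right]
      exact (closure_le _).mpr (Set.singleton_subset_iff.mpr haT)
    · haveI : (closure (T : Set G)).Normal :=
        ⟨fun n hn g => by rwa [hc g n, mul_assoc, mul_inv_cancel, mul_one]⟩
      refine ⟨insert a T, Finset.insert_subset_insert a hTS, ?_, ?_⟩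
      · rw [Finset.coe_insert, Finset.coe_insert, Set.insert_eq, Subgroup.closure_union, hT,
          ← Subgroup.closure_union, ← Set.insert_eq]
      · rw [Finset.card_insert_of_notMem fun h => haT (subset_closure h), Finset.coe_insert,
          Set.insert_eq, Subgroup.closure_union, ← Subgroup.zpowers_eq_closure, sup_comm,
          card_sup_zpowers (orderOf_eq_of_pow_eq_one (hpow a)
            fun h1 => haT (h1 ▸ one_mem _)) haT, hcard, pow_succ]

omit hp in
theorem closure_eq_top_iff_quotient_frattini (S : Set G) :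
    closure S = ⊤ ↔ closure (QuotientGroup.mk' (frattini G) '' S) = ⊤ := by
  rw [← MonoidHom.map_closure]
  constructor
  · intro h
    rw [h, Subgroup.map_top_of_surjective _ (QuotientGroup.mk'_surjective _)]
  · intro h
    refine frattini_nongenerating ?_
    have h2 := congrArg (Subgroup.comap (QuotientGroup.mk' (frattini G))) h
    rwa [Subgroup.comap_map_eq, QuotientGroup.ker_mk', Subgroup.comap_top] at h2

theorem quotient_frattini_elementary (hG : IsPGroup p G) :
    (∀ a b : G ⧸ frattini G, a * b = b * a) ∧ ∀ a : G ⧸ frattini G, a ^ p = 1 := by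
  have h : frattini (G ⧸ frattini G) = ⊥ := by
    rw [← map_frattini hG (QuotientGroup.mk'_surjective _), Subgroup.map_eq_bot_iff,
      QuotientGroup.ker_mk']
  exact ⟨commute_of_frattini_eq_bot (hG.to_quotient _) h,
    pow_eq_one_of_frattini_eq_bot (hG.to_quotient _) h⟩

/-- Burnside's basis theorem, lower bound. -/
theorem pow_card_ge_index_frattini (hG : IsPGroup p G) (T : Finset G)
    (hT : closure (T : Set G) = ⊤) : (frattini G).index ≤ p ^ T.card := by
  classical
  obtain ⟨hc, hpow⟩ := quotient_frattini_elementary hG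
  rw [Subgroup.index_eq_card, ← Subgroup.card_top (G := G ⧸ frattini G),
    ← (closure_eq_top_iff_quotient_frattini _).mp hT, ← Finset.coe_image]
  exact (card_closure_le_pow hc hpow _).trans
    (Nat.pow_le_pow_right hp.out.pos Finset.card_image_le)

/-- Burnside's basis theorem, extraction of a basis. -/
theorem exists_basis_subset (hG : IsPGroup p G) (S : Finset G) (hS : closure (S : Set G) = ⊤) :
    ∃ T : Finset G, T ⊆ S ∧ p ^ T.card = (frattini G).index ∧ closure (T : Set G) = ⊤ := by
  classical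
  obtain ⟨hc, hpow⟩ := quotient_frattini_elementary hG
  obtain ⟨T', hT'S, hT', hcard⟩ :=
    exists_independent_subset hc hpow (S.image (QuotientGroup.mk' (frattini G)))
  obtain ⟨T, hTS, hTimg, hinj⟩ : ∃ T ⊆ S, T.image (QuotientGroup.mk' (frattini G)) = T' ∧
      T.card = T'.card := by
    choose g hgS hg using fun y : T' => Finset.mem_image.mp (hT'S y.2)
    have hginj : Function.Injective g := fun a b hab => Subtype.ext (by rw [← hg a, ← hg b, hab])
    refine ⟨T'.attach.image g, fun x hx => ?_, ?_, ?_⟩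
    · obtain ⟨y, -, rfl⟩ := Finset.mem_image.mp hx; exact hgS y
    · ext y
      simp only [Finset.mem_image, Finset.mem_attach, true_and]
      constructor
      · rintro ⟨x, ⟨z, rfl⟩, rfl⟩; rw [hg z]; exact z.2
      · intro hy; exact ⟨g ⟨y, hy⟩, ⟨⟨y, hy⟩, rfl⟩, hg _⟩
    · rw [Finset.card_image_of_injective _ hginj, Finset.card_attach]
  rw [Finset.coe_image, (closure_eq_top_iff_quotient_frattini _).mp hS] at hT'
  refine ⟨T, hTS, ?_, ?_⟩
  · rw [hinj, ← hcard, hT', Subgroup.card_top, Subgroup.index_eq_card]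
  · rw [closure_eq_top_iff_quotient_frattini, ← Finset.coe_image, hTimg, hT']

end Basis

end Cfsg.Agent.PGroupsBasic
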