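import Mathlib
import Cfsg.Prelude.Def_CaseTheorems

/-!
A group with a self-centralizing normal elementary abelian subgroup of order at most 16 whose
quotient contains the symmetric group of degree 6 has sectional 2-rank at least 5.
-/

set_option autoImplicit false

namespace Cfsg.Agent.SectRankS6Module92

open Equiv

/-- The permutation `(0 1 2 3 4)` of six points as a product. -/
def c5 : Perm (Fin 6) := (swap 0 1 * swap 2 3) * (swap 1 2 * swap 3 4)

def sng : Fin 3 → Perm (Fin 6) := ![swap 0 1, swap 2 3, swap 4 5]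

def tpl : Fin 3 → Perm (Fin 6) :=
  ![swap 0 1 * swap 2 3 * swap 4 5, swap 0 1 * swap 2 4 * swap 3 5, swap 0 1 * swap 2 5 * swap 3 4]

/-- Word in three commuting permutations. -/
def word (t : Fin 3 → Perm (Fin 6)) (c : Fin 2 × Fin 2 × Fin 2) : Perm (Fin 6) :=
  t 0 ^ (c.1 : ℕ) * t 1 ^ (c.2.1 : ℕ) * t 2 ^ (c.2.2 : ℕ)

/-- The combinatorial properties of a triple which are used. -/
structure Good (t : Fin 3 → Perm (Fin 6)) : Prop where
  sq : ∀ i, t i * t i = 1
  comm : ∀ i j, t i * t j = t j * t i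
  inj : Function.Injective (word t)
  sep : ∀ i j, i ≠ j → ∃ g : Perm (Fin 6), g * t j = t j * g ∧
    (g * t i * g⁻¹) * t i ≠ t i * (g * t i * g⁻¹)

def sepSng : Fin 3 → Fin 3 → Perm (Fin 6) :=
  fun i j => ![![1, swap 0 4, swap 0 2], ![swap 2 4, 1, swap 0 2], ![swap 2 4, swap 0 4, 1]] i j

def sepTpl : Fin 3 → Fin 3 → Perm (Fin 6) :=
  fun i j => ![![1, swap 0 2 * swap 1 4, swap 0 2 * swap 1 5],
    ![swap 0 2 * swap 1 3, 1, swap 0 2 * swap 1 5],
    ![swap 0 2 * swap 1 3, swap 0 2 * swap 1 4, 1]] i j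

theorem sng_sep : ∀ i j : Fin 3, i ≠ j → sepSng i j * sng j = sng j * sepSng i j ∧
    (sepSng i j * sng i * (sepSng i j)⁻¹) * sng i ≠ sng i * (sepSng i j * sng i * (sepSng i j)⁻¹) := by
  decide +kernel

theorem tpl_sep : ∀ i j : Fin 3, i ≠ j → sepTpl i j * tpl j = tpl j * sepTpl i j ∧
    (sepTpl i j * tpl i * (sepTpl i j)⁻¹) * tpl i ≠ tpl i * (sepTpl i j * tpl i * (sepTpl i j)⁻¹) := by
  decide +kernel

theorem good_sng : Good sng :=
  ⟨by decide +kernel, by decide +kernel, by unfold Function.Injective; decide +kernel,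
    fun i j h => ⟨_, sng_sep i j h⟩⟩

theorem good_tpl : Good tpl :=
  ⟨by decide +kernel, by decide +kernel, by unfold Function.Injective; decide +kernel,
    fun i j h => ⟨_, tpl_sep i j h⟩⟩

/-- The elementary group generated by the three disjoint transpositions. -/
def oct : Multiplicative (ZMod 2 × ZMod 2 × ZMod 2) →* Perm (Fin 6) where
  toFun c := sng 0 ^ c.toAdd.1.val * sng 1 ^ c.toAdd.2.1.val * sng 2 ^ c.toAdd.2.2.val
  map_one' := by decide +kernel
  map_mul' := by decide +kernel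

theorem oct_cases : ∀ c, c ≠ 1 →
    oct c = sng 0 ∨ oct c = sng 1 ∨ oct c = sng 2 ∨ oct c = tpl 0 ∨
    oct c = swap 0 1 * swap 2 3 ∨ oct c = swap 0 1 * swap 4 5 ∨ oct c = swap 2 3 * swap 4 5 := by
  decide +kernel

theorem oct_sq : ∀ d : Multiplicative (ZMod 2 × ZMod 2 × ZMod 2), d * d = 1 := by decide +kernel

theorem oct_inj : ∀ d, oct d = 1 → d = 1 := by decide +kernel

theorem conj_sng : ∀ i : Fin 3, (swap 0 2 * swap 1 3) * sng 0 * (swap 0 2 * swap 1 3)⁻¹ = sng 1 ∧
    (swap 0 4 * swap 1 5) * sng 0 * (swap 0 4 * swap 1 5)⁻¹ = sng 2 := by decide +kernel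

theorem conj_tpl : swap 3 4 * tpl 0 * (swap 3 4)⁻¹ = tpl 1 ∧
    swap 3 5 * tpl 0 * (swap 3 5)⁻¹ = tpl 2 := by decide +kernel

theorem conj_dbl :
    (swap 2 4 * swap 3 5) * (swap 0 1 * swap 4 5) * (swap 2 4 * swap 3 5)⁻¹ =
      (swap 0 1 * swap 2 3 : Perm (Fin 6)) ∧
    (swap 0 4 * swap 1 5) * (swap 2 3 * swap 4 5) * (swap 0 4 * swap 1 5)⁻¹ =
      (swap 0 1 * swap 2 3 : Perm (Fin 6)) ∧
    (swap 0 1 * swap 1 2 * swap 2 3 * swap 3 4) * (swap 0 1 * swap 2 3) *
      (swap 0 1 * swap 1 2 * swap 2 3 * swap 3 4)⁻¹ = (swap 1 2 * swap 3 4 : Perm (Fin 6)) := by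
  decide +kernel

theorem c5_ne : c5 ≠ 1 ∧ c5 ^ 5 = 1 := by decide +kernel

section Module

variable {V : Type*} [CommGroup V] [Finite V]

/-- The map `v ↦ v * f v`. -/
def dd (f : MulAut V) : V →* V where
  toFun v := v * f v
  map_one' := by simp
  map_mul' a b := by rw [map_mul]; exact mul_mul_mul_comm a b (f a) (f b)

variable (h2 : ∀ v : V, v * v = 1)
include h2

theorem mul_eq_one {a b : V} : a * b = 1 ↔ a = b := by
  constructor
  · intro h; calc a = a * (b * b) := by rw [h2, mul_one]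
      _ = b := by rw [← mul_assoc, h, one_mul]
  · rintro rfl; exact h2 _

theorem mem_ker {f : MulAut V} {v : V} : v ∈ (dd f).ker ↔ f v = v := by
  rw [MonoidHom.mem_ker]; show v * f v = 1 ↔ _
  rw [mul_eq_one h2, eq_comm]

theorem apply_eq (f : MulAut V) (v : V) : f v = v * dd f v := by
  show f v = v * (v * f v)
  rw [← mul_assoc, h2, one_mul]

omit h2 in
theorem card_ker_mul (f : MulAut V) :
    Nat.card (dd f).ker * Nat.card (dd f).range = Nat.card V := by
  rw [← Subgroup.index_ker]; exact Subgroup.card_mul_index _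

theorem range_le_ker {f : MulAut V} (hf : f * f = 1) : (dd f).range ≤ (dd f).ker := by
  rintro _ ⟨v, rfl⟩
  rw [mem_ker h2]
  show f (v * f v) = v * f v
  rw [map_mul, ← MulAut.mul_apply, hf, MulAut.one_apply, mul_comm]

theorem commute_of_le {f g : MulAut V} (h1 : (dd g).range ≤ (dd f).ker)
    (h3 : (dd f).range ≤ (dd g).ker) : f * g = g * f := by
  refine MulEquiv.ext fun v => ?_
  rw [MulAut.mul_apply, MulAut.mul_apply]
  conv_lhs => rw [apply_eq h2 g v, map_mul, (mem_ker h2).1 (h1 ⟨v, rfl⟩), apply_eq h2 f v]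
  conv_rhs => rw [apply_eq h2 f v, map_mul, (mem_ker h2).1 (h3 ⟨v, rfl⟩), apply_eq h2 g v]
  rw [mul_assoc, mul_assoc, mul_comm (dd f v)]

omit [Finite V] h2 in
theorem dd_conj (g f : MulAut V) (v : V) : dd (g * f * g⁻¹) (g v) = g (dd f v) := by
  show g v * (g * f * g⁻¹) (g v) = g (v * f v)
  simp [MulAut.mul_apply, map_mul]

omit h2 in
theorem range_conj (g f : MulAut V) :
    (dd (g * f * g⁻¹)).range = (dd f).range.map g.toMonoidHom := by
  ext x
  constructor
  · rintro ⟨v, rfl⟩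
    refine ⟨_, ⟨g⁻¹ v, rfl⟩, ?_⟩
    have := dd_conj g f (g⁻¹ v)
    simpa using this.symm
  · rintro ⟨_, ⟨v, rfl⟩, rfl⟩
    exact ⟨g v, dd_conj g f v⟩

omit h2 in
theorem ker_conj (g f : MulAut V) :
    (dd (g * f * g⁻¹)).ker = (dd f).ker.map g.toMonoidHom := by
  ext x
  constructor
  · intro hx
    refine ⟨g⁻¹ x, ?_, by simp⟩
    show dd f (g⁻¹ x) = 1
    apply g.injective
    rw [← dd_conj, map_one]
    simpa using hx
  · rintro ⟨v, hv, rfl⟩
    show dd (g * f * g⁻¹) (g v) = 1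
    rw [dd_conj, MonoidHom.mem_ker.1 hv, map_one]

variable {f g : MulAut V} (h16 : Nat.card V = 16) (hf : f * f = 1) (hg : g * g = 1)
  (hcf : Nat.card (dd f).ker = 8) (hcg : Nat.card (dd g).ker = 8)
include h16 hf hg hcf hcg

theorem range_two : Nat.card (dd f).range = 2 ∧ Nat.card (dd g).range = 2 := by
  have h1 := card_ker_mul f
  have h3 := card_ker_mul g
  rw [hcf, h16] at h1
  rw [hcg, h16] at h3
  omega

/-- Two commuting transvections with distinct centres and axes. -/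
theorem pair (hfg : f * g = g * f) (hr : (dd f).range ≠ (dd g).range)
    (hk : (dd f).ker ≠ (dd g).ker) :
    (dd f).range ⊓ (dd g).range = ⊥ ∧
    (dd f).range ⊔ (dd g).range = (dd f).ker ⊓ (dd g).ker ∧
    Nat.card ↥((dd f).ker ⊓ (dd g).ker) = 4 := by
  obtain ⟨hrf, hrg⟩ := range_two h2 h16 hf hg hcf hcg
  have cross : ∀ {a b : MulAut V}, Nat.card (dd a).ker = 8 → Nat.card (dd b).ker = 8 →
      Nat.card (dd b).range = 2 →
      (dd a).ker ≠ (dd b).ker → a * b = b * a → (dd b).range ≤ (dd a).ker := by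
    intro a b ha hb hrb hne hab
    have hnle : ¬ (dd a).ker ≤ (dd b).ker := fun hle =>
      hne (Subgroup.eq_of_le_of_card_ge hle (by omega))
    obtain ⟨v, hva, hvb⟩ := SetLike.not_le_iff_exists.1 hnle
    have h1 : dd b v ∈ (dd a).ker := by
      rw [mem_ker h2]
      have h3 := congrArg (fun e : MulAut V => e v) hab
      simp only [MulAut.mul_apply] at h3
      rw [(mem_ker h2).1 hva, apply_eq h2 b v, map_mul, (mem_ker h2).1 hva] at h3
      exact mul_left_cancel h3
    haveI : Fact (Nat.Prime 2) := ⟨Nat.prime_two⟩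
    intro x hx
    have hgen := mem_zpowers_of_prime_card (p := 2) hrb (g := ⟨dd b v, v, rfl⟩)
      (g' := ⟨x, hx⟩) (fun h => hvb (MonoidHom.mem_ker.2 (congrArg Subtype.val h)))
    obtain ⟨k, hk'⟩ := Subgroup.mem_zpowers_iff.1 hgen
    have : (dd b v) ^ k = x := by simpa using congrArg Subtype.val hk'
    exact this ▸ Subgroup.zpow_mem _ h1 k
  have hinf : (dd f).range ⊓ (dd g).range = ⊥ := by
    by_contra hne
    have h1 : Nat.card ↥((dd f).range ⊓ (dd g).range) ∣ 2 :=
      hrf ▸ Subgroup.card_dvd_of_le inf_le_left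
    rcases (Nat.dvd_prime Nat.prime_two).1 h1 with h | h
    · exact hne (Subgroup.eq_bot_of_card_eq _ h)
    · exact hr ((Subgroup.eq_of_le_of_card_ge inf_le_left (by omega)).symm.trans
        (Subgroup.eq_of_le_of_card_ge inf_le_right (by omega)))
  have hle : (dd f).range ⊔ (dd g).range ≤ (dd f).ker ⊓ (dd g).ker := sup_le
    (le_inf (range_le_ker h2 hf) (cross hcg hcf hrf hk.symm hfg.symm))
    (le_inf (cross hcf hcg hrg hk hfg) (range_le_ker h2 hg))
  have h3 : 3 ≤ Nat.card ↥((dd f).range ⊔ (dd g).range) := by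
    by_contra h
    have h1 := Subgroup.eq_of_le_of_card_ge
      (le_sup_left : (dd f).range ≤ (dd f).range ⊔ (dd g).range) (by omega)
    have h2' := Subgroup.eq_of_le_of_card_ge
      (le_sup_right : (dd g).range ≤ (dd f).range ⊔ (dd g).range) (by omega)
    exact hr (h1.trans h2'.symm)
  have hle8 := Subgroup.card_dvd_of_le
    (inf_le_left : (dd f).ker ⊓ (dd g).ker ≤ (dd f).ker)
  rw [hcf] at hle8
  have h8 : Nat.card ↥((dd f).ker ⊓ (dd g).ker) ≠ 8 := fun h => hk
    ((Subgroup.eq_of_le_of_card_ge inf_le_left (by omega)).symm.trans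
      (Subgroup.eq_of_le_of_card_ge inf_le_right (by omega)))
  have hdvd := Subgroup.card_dvd_of_le hle
  have h4 : Nat.card ↥((dd f).ker ⊓ (dd g).ker) = 4 := by
    have hmem := Nat.mem_divisors.2 ⟨hle8, (by norm_num : (8 : ℕ) ≠ 0)⟩
    rw [show Nat.divisors 8 = {1, 2, 4, 8} from rfl] at hmem
    have := Nat.le_of_dvd Nat.card_pos hdvd
    simp only [Finset.mem_insert, Finset.mem_singleton] at hmem
    omega
  refine ⟨hinf, Subgroup.eq_of_le_of_card_ge hle ?_, h4⟩
  rw [h4] at hdvd ⊢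
  have := Nat.le_of_dvd (by norm_num) hdvd
  interval_cases h' : Nat.card ↥((dd f).range ⊔ (dd g).range)
  · norm_num at hdvd
  · rfl

/-- The fixed points of the product. -/
theorem fix_mul (hfg : f * g = g * f) (hr : (dd f).range ≠ (dd g).range)
    (hk : (dd f).ker ≠ (dd g).ker) {q : V} (hq : (f * g) q = q) :
    q ∈ (dd f).ker ⊓ (dd g).ker := by
  have h1 : g q = f q := by
    rw [MulAut.mul_apply] at hq
    conv_rhs => rw [← hq]
    rw [← MulAut.mul_apply, hf, MulAut.one_apply]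
  have h3 : dd f q = dd g q := by show q * f q = q * g q; rw [h1]
  have h4 : dd f q = 1 := Subgroup.mem_bot.1
    ((pair h2 h16 hf hg hcf hcg hfg hr hk).1 ▸ Subgroup.mem_inf.2 ⟨⟨q, rfl⟩, q, h3.symm⟩)
  exact ⟨MonoidHom.mem_ker.2 h4, MonoidHom.mem_ker.2 (h3.symm.trans h4)⟩

end Module

section Rep

variable {V : Type*} [CommGroup V] [Finite V]

theorem exists_triple (h2 : ∀ v : V, v * v = 1) (hV : Nat.card V ≤ 16)
    (ρ : Perm (Fin 6) →* MulAut V) (hρ : Function.Injective ρ) :
    Nat.card V = 16 ∧ ∃ t, Good t ∧ ∀ i, Nat.card (dd (ρ (t i))).ker = 8 := by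
  classical
  haveI : Fact (Nat.Prime 5) := ⟨by norm_num⟩
  haveI := Fintype.ofFinite V
  have hp2 : IsPGroup 2 V := fun v => ⟨1, by rw [pow_one, pow_two]; exact h2 v⟩
  haveI : Fact (Nat.Prime 2) := ⟨Nat.prime_two⟩
  have hsub : ∀ H : Subgroup V, ∃ j, Nat.card H = 2 ^ j := fun H => (hp2.to_subgroup H).exists_card_eq
  -- the element of order five
  have hf5 : ρ c5 ^ 5 = 1 := by rw [← map_pow, c5_ne.2, map_one]
  have hfne : ρ c5 ≠ 1 := fun h => c5_ne.1 (hρ (by rw [h, map_one]))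
  have hord : orderOf (ρ c5) = 5 := orderOf_eq_prime hf5 hfne
  set A := Subgroup.zpowers (ρ c5)
  have hA : IsPGroup 5 A := IsPGroup.of_card (n := 1) (by rw [Nat.card_zpowers, hord, pow_one])
  have hmod := hA.card_modEq_card_fixedPoints V
  have hfix : MulAction.fixedPoints A V = ((dd (ρ c5)).ker : Set V) := by
    ext v
    rw [SetLike.mem_coe, mem_ker h2]
    constructor
    · exact fun h => h ⟨ρ c5, Subgroup.mem_zpowers _⟩
    · intro h a
      obtain ⟨k, hk⟩ := Subgroup.mem_zpowers_iff.1 a.2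
      show (a : MulAut V) v = v
      rw [← hk]
      exact (MulAction.stabilizer (MulAut V) v).zpow_mem (MulAction.mem_stabilizer_iff.2 h) k
  rw [Nat.card_congr (Equiv.setCongr hfix)] at hmod
  obtain ⟨m, hm⟩ := hp2.exists_card_eq
  obtain ⟨j, hj⟩ := hsub (dd (ρ c5)).ker
  have hlt : Nat.card (dd (ρ c5)).ker < Nat.card V := by
    refine lt_of_le_of_ne (Subgroup.card_le_card_group _) fun h => hfne (MulEquiv.ext fun v => ?_)
    have := (Subgroup.eq_top_of_card_eq _ h).ge (Subgroup.mem_top v)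
    exact (mem_ker h2).1 this
  change Nat.card V % 5 = Nat.card (dd (ρ c5)).ker % 5 at hmod
  rw [hm] at hmod hlt hV
  rw [hj] at hmod hlt
  have hm4 : m ≤ 4 := (Nat.pow_le_pow_iff_right (by norm_num)).1 (hV.trans_eq (show (16 : ℕ) = 2 ^ 4 from rfl))
  have hjm : j < m := (Nat.pow_lt_pow_iff_right (by norm_num)).1 hlt
  obtain ⟨rfl, rfl⟩ : m = 4 ∧ j = 0 := by
    interval_cases m <;> interval_cases j <;> omega
  have h16 : Nat.card V = 16 := hm
  refine ⟨h16, ?_⟩
  -- involutions fix at least four points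
  have hinv : ∀ u, u * u = 1 → u ≠ 1 → Nat.card (dd (ρ u)).ker ≠ 8 →
      Nat.card (dd (ρ u)).ker = 4 := by
    intro u hu hne h8
    have hu' : ρ u * ρ u = 1 := by rw [← map_mul, hu, map_one]
    have h1 := card_ker_mul (ρ u)
    rw [h16] at h1
    have h3 := Nat.le_of_dvd Nat.card_pos (Subgroup.card_dvd_of_le (range_le_ker h2 hu'))
    have hmem := Nat.mem_divisors.2 ⟨Dvd.intro _ h1, (by norm_num : (16 : ℕ) ≠ 0)⟩
    rw [show Nat.divisors 16 = {1, 2, 4, 8, 16} from rfl] at hmem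
    have h16' : Nat.card (dd (ρ u)).ker ≠ 16 := fun h => hne (hρ (by
      rw [map_one]
      refine MulEquiv.ext fun v => (mem_ker h2).1 ?_
      exact (Subgroup.eq_top_of_card_eq _ (h.trans h16.symm)).ge (Subgroup.mem_top v)))
    simp only [Finset.mem_insert, Finset.mem_singleton] at hmem
    rcases hmem with h | h | h | h | h <;> rw [h] at h1 h3 <;> omega
  have hconj : ∀ w u, Nat.card (dd (ρ (w * u * w⁻¹))).ker = Nat.card (dd (ρ u)).ker := fun w u => by
    rw [map_mul, map_mul, map_inv, ker_conj,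
      Subgroup.card_map_of_injective (MulEquiv.injective _)]
  -- double transpositions are not transvections
  have hdbl : Nat.card (dd (ρ (swap 0 1 * swap 2 3))).ker ≠ 8 := by
    intro h8
    have h8' : Nat.card (dd (ρ (swap 1 2 * swap 3 4))).ker = 8 := by
      rw [← conj_dbl.2.2, hconj, h8]
    have hbot : (dd (ρ (swap 0 1 * swap 2 3))).ker ⊓ (dd (ρ (swap 1 2 * swap 3 4))).ker = ⊥ := by
      refine eq_bot_iff.2 fun v hv => ?_
      have h1 : v ∈ (dd (ρ c5)).ker := by
        rw [mem_ker h2, c5, map_mul, MulAut.mul_apply, (mem_ker h2).1 hv.2, (mem_ker h2).1 hv.1]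
      rwa [Subgroup.eq_bot_of_card_eq _ (hj.trans (pow_zero 2))] at h1
    have h1 := Nat.card_le_card_of_injective _
      (Subgroup.mul_injective_of_disjoint (disjoint_iff.2 hbot))
    rw [Nat.card_prod, h8, h8', h16] at h1
    omega
  -- a transvection among the seven involutions
  obtain ⟨c, hc1, hc8⟩ : ∃ c, c ≠ 1 ∧ Nat.card (dd (ρ (oct c))).ker = 8 := by
    by_contra hno
    push Not at hno
    letI : MulAction (Multiplicative (ZMod 2 × ZMod 2 × ZMod 2)) V :=
      MulAction.compHom V (ρ.comp oct)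
    have hsum := MulAction.sum_card_fixedBy_eq_card_orbits_mul_card_group
      (Multiplicative (ZMod 2 × ZMod 2 × ZMod 2)) V
    have hfx : ∀ c, Fintype.card (MulAction.fixedBy V c) = Nat.card (dd (ρ (oct c))).ker := fun c => by
      rw [← Nat.card_eq_fintype_card]
      refine Nat.card_congr (Equiv.setCongr ?_)
      ext v
      rw [SetLike.mem_coe, mem_ker h2]
      rfl
    rw [← Finset.add_sum_erase _ _ (Finset.mem_univ
        (1 : Multiplicative (ZMod 2 × ZMod 2 × ZMod 2))),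
      Finset.sum_congr rfl (fun c hc => (hfx c).trans (hinv (oct c)
        (by rw [← map_mul, oct_sq c, map_one])
        (fun h => Finset.ne_of_mem_erase hc (oct_inj c h))
        (hno c (Finset.ne_of_mem_erase hc)))),
      Finset.sum_const, Finset.card_erase_of_mem (Finset.mem_univ _), Finset.card_univ, hfx 1] at hsum
    have h1 : (dd (ρ (oct 1))).ker = ⊤ := (Subgroup.eq_top_iff' _).2 fun v => (mem_ker h2).2 (by simp)
    rw [h1, Subgroup.card_top, h16, smul_eq_mul,
      show Fintype.card (Multiplicative (ZMod 2 × ZMod 2 × ZMod 2)) = 8 from rfl] at hsum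
    omega
  rcases oct_cases c hc1 with h | h | h | h | h | h | h <;> rw [h] at hc8
  rotate_left 3
  · refine ⟨tpl, good_tpl, fun i => ?_⟩
    fin_cases i
    · exact hc8
    · show Nat.card (dd (ρ (tpl 1))).ker = 8
      rw [← conj_tpl.1, hconj, hc8]
    · show Nat.card (dd (ρ (tpl 2))).ker = 8
      rw [← conj_tpl.2, hconj, hc8]
  · exact absurd hc8 hdbl
  · exact absurd (by rw [← conj_dbl.1, hconj, hc8]) hdbl
  · exact absurd (by rw [← conj_dbl.2.1, hconj, hc8]) hdbl
  all_goals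
    have h0 : Nat.card (dd (ρ (sng 0))).ker = 8 := by
      first
        | exact hc8
        | (rw [← (conj_sng 0).1, hconj] at hc8; exact hc8)
        | (rw [← (conj_sng 0).2, hconj] at hc8; exact hc8)
    refine ⟨sng, good_sng, fun i => ?_⟩
    fin_cases i
    · exact h0
    · show Nat.card (dd (ρ (sng 1))).ker = 8
      rw [← (conj_sng 0).1, hconj, h0]
    · show Nat.card (dd (ρ (sng 2))).ker = 8
      rw [← (conj_sng 0).2, hconj, h0]

/-- A common fixed subgroup of order four. -/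
theorem exists_common (h2 : ∀ v : V, v * v = 1) (hV : Nat.card V ≤ 16)
    (ρ : Perm (Fin 6) →* MulAut V) (hρ : Function.Injective ρ) :
    Nat.card V = 16 ∧ ∃ t, Good t ∧ ∃ L : Subgroup V, Nat.card L = 4 ∧
      (∀ i v, dd (ρ (t i)) v ∈ L) ∧ (∀ i, L ≤ (dd (ρ (t i))).ker) ∧
      (∀ i j q, i ≠ j → ρ (t i) q = q → dd (ρ (t j)) q ∈ (dd (ρ (t i))).range → q ∈ L) ∧
      (∀ i j q, i ≠ j → ρ (t i * t j) q = q → q ∈ L) := by
  obtain ⟨h16, t, ht, h8⟩ := exists_triple h2 hV ρ hρ
  have hsq : ∀ i, ρ (t i) * ρ (t i) = 1 := fun i => by rw [← map_mul, ht.sq, map_one]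
  have hcm : ∀ i j, ρ (t i) * ρ (t j) = ρ (t j) * ρ (t i) := fun i j => by
    rw [← map_mul, ← map_mul, ht.comm]
  -- distinct centres and axes
  have hne : ∀ i j, i ≠ j → (dd (ρ (t i))).range ≠ (dd (ρ (t j))).range ∧
      (dd (ρ (t i))).ker ≠ (dd (ρ (t j))).ker := by
    intro i j hij
    obtain ⟨g, hg, hnc⟩ := ht.sep i j hij
    have hgj : ρ g * ρ (t j) * (ρ g)⁻¹ = ρ (t j) := by
      rw [← map_mul, ← map_inv, ← map_mul, hg, mul_inv_cancel_right]
    have hconj : ρ (g * t i * g⁻¹) = ρ g * ρ (t i) * (ρ g)⁻¹ := by simp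
    have hsq' : ρ (g * t i * g⁻¹) * ρ (g * t i * g⁻¹) = 1 := by
      rw [← map_mul, show g * t i * g⁻¹ * (g * t i * g⁻¹) = g * (t i * t i) * g⁻¹ by group, ht.sq]
      simp
    have fail : ¬ ((dd (ρ (t i))).range ≤ (dd (ρ (g * t i * g⁻¹))).ker ∧
        (dd (ρ (g * t i * g⁻¹))).range ≤ (dd (ρ (t i))).ker) := fun ⟨a, b⟩ => hnc (hρ (by
      rw [map_mul, map_mul _ (t i)]; exact commute_of_le h2 a b))
    constructor <;> intro heq
    · have h1 : (dd (ρ (g * t i * g⁻¹))).range = (dd (ρ (t i))).range := by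
        conv_lhs => rw [hconj, range_conj, heq, ← range_conj, hgj, ← heq]
      exact fail ⟨h1 ▸ range_le_ker h2 hsq', h1.symm ▸ range_le_ker h2 (hsq i)⟩
    · have h1 : (dd (ρ (g * t i * g⁻¹))).ker = (dd (ρ (t i))).ker := by
        conv_lhs => rw [hconj, ker_conj, heq, ← ker_conj, hgj, ← heq]
      exact fail ⟨h1.symm ▸ range_le_ker h2 (hsq i), h1 ▸ range_le_ker h2 hsq'⟩
  have hp : ∀ i j, i ≠ j → _ ∧ _ ∧ _ := fun i j hij =>
    pair h2 h16 (hsq i) (hsq j) (h8 i) (h8 j) (hcm i j) (hne i j hij).1 (hne i j hij).2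
  set L := (dd (ρ (t 0))).ker ⊓ (dd (ρ (t 1))).ker with hLdef
  have h01 := hp 0 1 (by decide)
  have h02 := hp 0 2 (by decide)
  have h12 := hp 1 2 (by decide)
  -- the three intersections coincide
  have hD : ∀ i, (dd (ρ (t i))).range ≤ L := by
    intro i
    fin_cases i
    · exact le_sup_left.trans h01.2.1.le
    · exact le_sup_right.trans h01.2.1.le
    · refine le_inf ?_ ?_
      · exact le_trans (h02.2.1 ▸ le_sup_right) inf_le_left
      · exact le_trans (h12.2.1 ▸ le_sup_right) inf_le_left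
  have hLall : ∀ i j, i ≠ j → (dd (ρ (t i))).ker ⊓ (dd (ρ (t j))).ker = L := by
    intro i j hij
    obtain ⟨-, he, h4⟩ := hp i j hij
    refine Subgroup.eq_of_le_of_card_ge (he ▸ sup_le (hD i) (hD j)) ?_
    rw [h4, h01.2.2]
  refine ⟨h16, t, ht, L, h01.2.2, fun i v => hD i ⟨v, rfl⟩, ?_, ?_, ?_⟩
  · intro i
    obtain ⟨j, hj⟩ : ∃ j, i ≠ j := by revert i; decide
    exact hLall i j hj ▸ inf_le_left
  · intro i j q hij hq hd
    rw [← hLall i j hij]
    refine ⟨(mem_ker h2).2 hq, MonoidHom.mem_ker.2 (Subgroup.mem_bot.1 ?_)⟩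
    rw [← (hp i j hij).1]
    exact ⟨hd, q, rfl⟩
  · intro i j q hij hq
    rw [← hLall i j hij]
    exact fix_mul h2 h16 (hsq i) (hsq j) (h8 i) (h8 j) (hcm i j) (hne i j hij).1 (hne i j hij).2
      (by rw [← map_mul]; exact hq)

end Rep

/-- The main obstruction. -/
theorem not_sectionalPRankLE {Y : Type*} [Group Y] [Finite Y] (V : Subgroup Y) [V.Normal]
    (hab : ∀ a ∈ V, ∀ b ∈ V, a * b = b * a) (h2 : ∀ a ∈ V, a * a = 1) (hV : Nat.card V ≤ 16)
    (hC : Subgroup.centralizer (V : Set Y) ≤ V) (α : Perm (Fin 6) →* Y ⧸ V)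
    (hα : Function.Injective α) : ¬ Cfsg.SectionalPRankLE 2 4 Y := by
  intro hrk
  classical
  letI : CommGroup V := { (inferInstance : Group V) with
    mul_comm := fun a b => Subtype.ext (hab a a.2 b b.2) }
  have hker : V ≤ (MulAut.conjNormal (H := V) : Y →* MulAut V).ker := fun x hx =>
    MonoidHom.mem_ker.2 (MulEquiv.ext fun v => Subtype.ext (by
      simp [hab x hx v v.2]))
  let τ : Y ⧸ V →* MulAut V := QuotientGroup.lift V MulAut.conjNormal hker
  have hτ : Function.Injective τ := by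
    rw [injective_iff_map_eq_one]
    intro z hz
    induction z using QuotientGroup.induction_on with
    | _ x =>
      refine (QuotientGroup.eq_one_iff x).2 (hC fun v hv => ?_)
      have h := congrArg (fun f : MulAut V => ((f ⟨v, hv⟩ : V) : Y)) hz
      simp [τ, mul_inv_eq_iff_eq_mul] at h
      exact h.symm
  set ρ := τ.comp α
  obtain ⟨h16, t, ht, L, hL4, hD, hLfix, hsqL, hprodL⟩ :=
    exists_common (V := V) (fun v => Subtype.ext (h2 v v.2)) hV ρ (hτ.comp hα)
  have hxex : ∀ i, ∃ x : Y, (x : Y ⧸ V) = α (t i) := fun i => QuotientGroup.mk_surjective _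
  choose x hx using hxex
  have hρ : ∀ i, ρ (t i) = MulAut.conjNormal (x i) := fun i => by
    show τ (α (t i)) = _; rw [← hx i]; rfl
  have hact : ∀ i (v : V), x i * (v : Y) * (x i)⁻¹ = (ρ (t i) v : V) := fun i v => by
    rw [hρ]; simp
  set LY := L.map V.subtype
  have hLV : LY ≤ V := Subgroup.map_subtype_le L
  -- squares
  have hsqV : ∀ i, x i * x i ∈ V := fun i => by
    rw [← QuotientGroup.eq_one_iff, QuotientGroup.mk_mul, hx, ← map_mul, ht.sq, map_one]
  have hcV : ∀ i j, x i * x j * (x i)⁻¹ * (x j)⁻¹ ∈ V := fun i j => by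
    rw [← QuotientGroup.eq_one_iff, QuotientGroup.mk_mul, QuotientGroup.mk_mul, QuotientGroup.mk_mul,
      QuotientGroup.mk_inv, QuotientGroup.mk_inv, hx, hx, ← map_inv, ← map_inv, ← map_mul, ← map_mul,
      ← map_mul, ht.comm, mul_inv_cancel_right, mul_inv_cancel, map_one]
  have hsq : ∀ i, x i * x i ∈ LY := by
    intro i
    obtain ⟨j, hij⟩ : ∃ j, i ≠ j := by revert i; decide
    refine ⟨⟨_, hsqV i⟩, hsqL i j _ hij (Subtype.ext ?_) ?_, rfl⟩
    · rw [← hact]; simp [mul_assoc]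
    · -- the square under the action of the other element
      set w : V := ⟨_, hcV j i⟩ with hw
      refine ⟨w, Subtype.ext ?_⟩
      show ((w : V) : Y) * (ρ (t i) w : V) = (⟨_, hsqV i⟩ : V).1 * (ρ (t j) ⟨_, hsqV i⟩ : V)
      rw [← hact i w, ← hact j, hw]
      simp only
      have h1 : x i * x i * (x j * (x i * x i) * (x j)⁻¹) =
          x j * (x i * x i) * (x j)⁻¹ * (x i * x i)⁻¹ := by
        rw [inv_eq_of_mul_eq_one_right (h2 _ (hsqV i))]
        exact hab _ (hsqV i) _ ((inferInstance : V.Normal).conj_mem _ (hsqV i) _)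
      rw [h1]
      group
  have hcm : ∀ i j, x i * x j * (x i)⁻¹ * (x j)⁻¹ ∈ LY := by
    intro i j
    rcases eq_or_ne i j with rfl | hij
    · rw [mul_inv_cancel_right, mul_inv_cancel]; exact one_mem _
    have hpV : x i * x j * (x i * x j) ∈ V := by
      rw [← QuotientGroup.eq_one_iff, QuotientGroup.mk_mul, QuotientGroup.mk_mul, hx, hx,
        ← map_mul, ← map_mul, show t i * t j * (t i * t j) = t i * (t j * t i) * t j by group,
        ht.comm j i, show t i * (t i * t j) * t j = t i * t i * (t j * t j) by group, ht.sq, ht.sq,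
        one_mul, map_one]
    have hp : x i * x j * (x i * x j) ∈ LY := by
      refine ⟨⟨_, hpV⟩, hprodL i j _ hij (Subtype.ext ?_), rfl⟩
      rw [map_mul, hρ, hρ, ← map_mul]
      simp [mul_assoc]
    -- squares are centralised by the lifts
    have hcent : ∀ k, ∀ l ∈ LY, x k * l = l * x k := by
      rintro k _ ⟨l, hl, rfl⟩
      have h := hact k l
      rw [(mem_ker (fun v : V => Subtype.ext (h2 v v.2))).1 (hLfix k hl)] at h
      exact mul_inv_eq_iff_eq_mul.1 h
    have hxi : x j * (x i * x i) * (x j)⁻¹ = x i * x i := by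
      rw [hcent j _ (hsq i), mul_inv_cancel_right]
    have e : x i * x j * (x i * x j) =
        (x i * x j * (x i)⁻¹ * (x j)⁻¹) * (x j * (x i * x i) * (x j)⁻¹) * (x j * x j) := by
      group
    rw [hxi] at e
    have : x i * x j * (x i)⁻¹ * (x j)⁻¹ =
        x i * x j * (x i * x j) * (x j * x j)⁻¹ * (x i * x i)⁻¹ := by rw [e]; group
    rw [this]
    exact LY.mul_mem (LY.mul_mem hp (LY.inv_mem (hsq j))) (LY.inv_mem (hsq i))
  -- the subgroup and its quotient
  set E := Subgroup.closure ((V : Set Y) ∪ Set.range x) with hE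
  have hVE : V ≤ E := fun v hv => Subgroup.subset_closure (Or.inl hv)
  have hxE : ∀ i, x i ∈ E := fun i => Subgroup.subset_closure (Or.inr ⟨i, rfl⟩)
  have hEc : E ≤ Subgroup.centralizer (LY : Set Y) := (Subgroup.closure_le _).2 (by
    rintro z (hz | ⟨i, rfl⟩) _ ⟨l, hl, rfl⟩
    · exact hab _ l.2 _ hz
    · have h := hact i l
      rw [(mem_ker (fun v : V => Subtype.ext (h2 v v.2))).1 (hLfix i hl)] at h
      exact (mul_inv_eq_iff_eq_mul.1 h).symm)
  set N := LY.subgroupOf E
  haveI : N.Normal := ⟨fun n hn e => by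
    have h : (e : E) * n = n * e := Subtype.ext (hEc e.2 _ (Subgroup.mem_subgroupOf.1 hn)).symm
    rw [h, mul_inv_cancel_right]; exact hn⟩
  -- commutation modulo `LY`
  have hgen : ∀ a ∈ (V : Set Y) ∪ Set.range x, ∀ b ∈ (V : Set Y) ∪ Set.range x,
      a * b * a⁻¹ * b⁻¹ ∈ LY := by
    have hxv : ∀ i, ∀ v ∈ V, x i * v * (x i)⁻¹ * v⁻¹ ∈ LY := fun i v hv => by
      refine ⟨dd (ρ (t i)) ⟨v, hv⟩, hD i _, ?_⟩
      show ((⟨v, hv⟩ : V) : Y) * (ρ (t i) ⟨v, hv⟩ : V) = _
      rw [← hact, inv_eq_of_mul_eq_one_right (h2 v hv)]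
      exact hab v hv _ ((inferInstance : V.Normal).conj_mem v hv _)
    rintro a (ha | ⟨i, rfl⟩) b (hb | ⟨j, rfl⟩)
    · rw [hab a ha b hb, mul_inv_cancel_right, mul_inv_cancel]; exact one_mem _
    · have h := LY.inv_mem (hxv j a ha)
      convert h using 1; group
    · exact hxv i b hb
    · exact hcm i j
  have hgen2 : ∀ a ∈ (V : Set Y) ∪ Set.range x, a * a ∈ LY := by
    rintro a (ha | ⟨i, rfl⟩)
    · rw [h2 a ha]; exact one_mem _
    · exact hsq i
  let π := QuotientGroup.mk' N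
  have hπ : ∀ e : E, (e : Y) ∈ LY → π e = 1 := fun e he =>
    (QuotientGroup.eq_one_iff e).2 (Subgroup.mem_subgroupOf.2 he)
  set T : Set (E ⧸ N) := π '' (E.subtype ⁻¹' ((V : Set Y) ∪ Set.range x))
  have hT : Subgroup.closure T = ⊤ := by
    rw [← MonoidHom.map_closure,
      show Subgroup.closure (E.subtype ⁻¹' ((V : Set Y) ∪ Set.range x)) = ⊤ from
        Subgroup.closure_closure_coe_preimage,
      Subgroup.map_top_of_surjective _ (QuotientGroup.mk'_surjective N)]
  have hTc : ∀ a ∈ T, ∀ b ∈ T, a * b = b * a := by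
    rintro _ ⟨a, ha, rfl⟩ _ ⟨b, hb, rfl⟩
    have h := hπ (a * b * a⁻¹ * b⁻¹) (hgen a ha b hb)
    rw [map_mul, map_mul, map_mul, map_inv, map_inv, mul_inv_eq_one, mul_inv_eq_iff_eq_mul] at h
    exact h
  haveI hcomm : IsMulCommutative (E ⧸ N) := ⟨⟨fun a b => by
    have h1 : Subgroup.closure T ≤ Subgroup.centralizer T := (Subgroup.closure_le _).2
      fun a ha => Subgroup.mem_centralizer_iff.2 fun b hb => hTc b hb a ha
    rw [hT] at h1
    have h3 : Subgroup.closure T ≤ Subgroup.centralizer ({a} : Set (E ⧸ N)) :=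
      (Subgroup.closure_le _).2 fun c hc => Subgroup.mem_centralizer_singleton_iff.2
        (Subgroup.mem_centralizer_iff.1 (h1 (Subgroup.mem_top a)) c hc)
    rw [hT] at h3
    exact (Subgroup.mem_centralizer_singleton_iff.1 (h3 (Subgroup.mem_top b))).symm⟩⟩
  have hexp : ∀ a : E ⧸ N, a * a = 1 := by
    intro a
    have ha : a ∈ Subgroup.closure T := hT ▸ Subgroup.mem_top a
    induction ha using Subgroup.closure_induction with
    | mem z hz =>
      obtain ⟨e, he, rfl⟩ := hz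
      rw [← map_mul]; exact hπ _ (hgen2 _ he)
    | one => simp
    | mul a b _ _ iha ihb =>
      rw [show a * b * (a * b) = a * (b * a) * b by group, hcomm.is_comm.comm b a,
        show a * (a * b) * b = a * a * (b * b) by group, iha, ihb, one_mul]
    | inv a _ iha => rw [← mul_inv_rev, iha, inv_one]
  have hbound := hrk E N ⊤ ⟨⟨fun a b => Subtype.ext (hcomm.is_comm.comm _ _)⟩⟩
    (fun a _ => by rw [pow_two]; exact hexp a)
  rw [Subgroup.card_top] at hbound
  -- the order
  have hcardN : Nat.card N = 4 := by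
    rw [Nat.card_congr (Subgroup.subgroupOfEquivOfLe (hLV.trans hVE)).toEquiv,
      Subgroup.card_map_of_injective V.subtype_injective, hL4]
  have h8 : 8 ≤ Nat.card (E.map (QuotientGroup.mk' V)) := by
    have hmem : ∀ c, α (word t c) ∈ E.map (QuotientGroup.mk' V) := fun c => by
      refine ⟨x 0 ^ (c.1 : ℕ) * x 1 ^ (c.2.1 : ℕ) * x 2 ^ (c.2.2 : ℕ),
        E.mul_mem (E.mul_mem (E.pow_mem (hxE 0) _) (E.pow_mem (hxE 1) _)) (E.pow_mem (hxE 2) _), ?_⟩
      simp [word, map_mul, map_pow, hx]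
    refine le_trans (le_of_eq ?_) (Nat.card_le_card_of_injective (fun c => (⟨_, hmem c⟩ :
      E.map (QuotientGroup.mk' V))) fun a b h => ht.inj (hα (congrArg Subtype.val h)))
    simp
  have hE128 : Nat.card E = Nat.card (E.map (QuotientGroup.mk' V)) * 16 := by
    have h := Subgroup.card_eq_card_quotient_mul_card_subgroup ((QuotientGroup.mk' V).comp E.subtype).ker
    rw [Nat.card_congr (QuotientGroup.quotientKerEquivRange _).toEquiv, MonoidHom.range_comp,
      Subgroup.range_subtype, ← MonoidHom.comap_ker, QuotientGroup.ker_mk'] at h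
    rwa [show V.comap E.subtype = V.subgroupOf E from rfl,
      Nat.card_congr (Subgroup.subgroupOfEquivOfLe hVE).toEquiv, h16] at h
  have hq := Subgroup.card_eq_card_quotient_mul_card_subgroup N
  rw [hcardN, hE128] at hq
  norm_num at hbound
  omega

end Cfsg.Agent.SectRankS6Module92
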