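import Mathlib
import Cfsg.Prelude.Def_CaseTheorems
import Cfsg.Agent.Lib.SectRankS6Module92
import Cfsg.Agent.Lib.AltTwoCycles
import Cfsg.Agent.Lib.SimpleOrder
import Cfsg.Agent.Lib.PGroupsBasic

/-!
Normal 2-subgroups with quotient the alternating group of degree 5 in groups of sectional
2-rank at most 4: modules and elementary sections.
-/

set_option autoImplicit false

namespace Cfsg.Agent.A5OTwo92

open Equiv
open scoped commutatorElement
open Cfsg.Agent.SectRankS6Module92 (dd mem_ker card_ker_mul range_le_ker)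

abbrev A5 := alternatingGroup (Fin 5)

def u0 : A5 := ⟨swap 0 1 * swap 2 3, Equiv.Perm.mem_alternatingGroup.2 (by decide +kernel)⟩
def u1 : A5 := ⟨swap 0 2 * swap 1 4, Equiv.Perm.mem_alternatingGroup.2 (by decide +kernel)⟩
def g3 : A5 := ⟨swap 0 1 * swap 1 2, Equiv.Perm.mem_alternatingGroup.2 (by decide +kernel)⟩
def c5 : A5 := u0 * u1

theorem facts : (u0 * u0 = 1 ∧ u0 ≠ 1 ∧ u1 * u1 = 1 ∧ u1 ≠ 1) ∧ c5 ^ 5 = 1 ∧ c5 ≠ 1 ∧ g3 ≠ 1 ∧
    Commute (g3 * u0 * g3⁻¹) u0 ∧ Commute (g3 * u1 * g3⁻¹) u1 := by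
  unfold Commute SemiconjBy
  decide +kernel

theorem simple : IsSimpleGroup A5 := (AltTwoCycles.alt_facts (α := Fin 5) (by simp)).1

theorem hom_injective {H : Type*} [Group H] (f : A5 →* H) {g : A5} (h : f g ≠ 1) :
    Function.Injective f := by
  haveI := simple
  rw [← MonoidHom.ker_eq_bot_iff]
  exact (SimpleOrder.eq_bot_or_top (H := f.ker) inferInstance).resolve_right fun e =>
    h (MonoidHom.mem_ker.1 (e ▸ Subgroup.mem_top g))

/-- Facts about a faithful module of order at most 16. -/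
theorem module_facts {V : Type*} [CommGroup V] [Finite V] (h2 : ∀ v : V, v * v = 1)
    (hV : Nat.card V ≤ 16) (ρ : A5 →* MulAut V) (hρ : Function.Injective ρ) :
    Nat.card V = 16 ∧ (∀ v, ρ c5 v = v → v = 1) ∧
      (∀ u, u = u0 ∨ u = u1 → Nat.card (dd (ρ u)).ker = 4 ∧ (dd (ρ u)).range = (dd (ρ u)).ker) ∧
      (dd (ρ u0)).ker ⊓ (dd (ρ u1)).ker = ⊥ ∧
      (∀ W : Subgroup V, (∀ g, ∀ v ∈ W, ρ g v ∈ W) → W = ⊥ ∨ W = ⊤) := by
  classical
  obtain ⟨⟨hu0, hu0', hu1, hu1'⟩, h5, h5', -, -, -⟩ := facts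
  haveI : Fact (Nat.Prime 5) := ⟨by norm_num⟩
  haveI : Fact (Nat.Prime 2) := ⟨Nat.prime_two⟩
  have hp2 : IsPGroup 2 V := fun v => ⟨1, by rw [pow_one, pow_two]; exact h2 v⟩
  have hord : orderOf (ρ c5) = 5 := orderOf_eq_prime (by rw [← map_pow, h5, map_one])
    fun h => h5' (hρ (by rw [h, map_one]))
  set A := Subgroup.zpowers (ρ c5)
  have hA : IsPGroup 5 A := IsPGroup.of_card (n := 1) (by rw [Nat.card_zpowers, hord, pow_one])
  have hmod := hA.card_modEq_card_fixedPoints V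
  have hfix : MulAction.fixedPoints A V = ((dd (ρ c5)).ker : Set V) := by
    ext v
    rw [SetLike.mem_coe, mem_ker h2]
    refine ⟨fun h => h ⟨ρ c5, Subgroup.mem_zpowers _⟩, fun h a => ?_⟩
    obtain ⟨k, hk⟩ := Subgroup.mem_zpowers_iff.1 a.2
    show (a : MulAut V) v = v
    rw [← hk]
    exact (MulAction.stabilizer (MulAut V) v).zpow_mem (MulAction.mem_stabilizer_iff.2 h) k
  rw [Nat.card_congr (Equiv.setCongr hfix)] at hmod
  change Nat.card V % 5 = Nat.card (dd (ρ c5)).ker % 5 at hmod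
  obtain ⟨m, hm⟩ := hp2.exists_card_eq
  obtain ⟨j, hj⟩ := (hp2.to_subgroup (dd (ρ c5)).ker).exists_card_eq
  have hlt : Nat.card (dd (ρ c5)).ker < Nat.card V := by
    refine lt_of_le_of_ne (Subgroup.card_le_card_group _) fun h => h5' (hρ ?_)
    rw [map_one]
    exact MulEquiv.ext fun v =>
      (mem_ker h2).1 ((Subgroup.eq_top_of_card_eq _ h).ge (Subgroup.mem_top v))
  rw [hm] at hmod hlt hV
  rw [hj] at hmod hlt
  have hm4 : m ≤ 4 := (Nat.pow_le_pow_iff_right (by norm_num)).1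
    (hV.trans_eq (show (16 : ℕ) = 2 ^ 4 from rfl))
  have hjm : j < m := (Nat.pow_lt_pow_iff_right (by norm_num)).1 hlt
  obtain ⟨rfl, rfl⟩ : m = 4 ∧ j = 0 := by interval_cases m <;> interval_cases j <;> omega
  have h16 : Nat.card V = 16 := hm
  have hfpf : ∀ v, ρ c5 v = v → v = 1 := fun v hv => by
    have h := (mem_ker h2).2 hv
    rwa [Subgroup.eq_bot_of_card_eq _ (hj.trans (pow_zero 2)), Subgroup.mem_bot] at h
  have hinf : (dd (ρ u0)).ker ⊓ (dd (ρ u1)).ker = ⊥ := eq_bot_iff.2 fun v hv => by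
    refine Subgroup.mem_bot.2 (hfpf v ?_)
    rw [c5, map_mul, MulAut.mul_apply, (mem_ker h2).1 hv.2, (mem_ker h2).1 hv.1]
  have hge : ∀ u, u * u = 1 → 4 ≤ Nat.card (dd (ρ u)).ker := by
    intro u hu
    have hu' : ρ u * ρ u = 1 := by rw [← map_mul, hu, map_one]
    have h1 := card_ker_mul (ρ u)
    rw [h16] at h1
    have h3 := Subgroup.card_le_of_le (range_le_ker h2 hu')
    by_contra h
    nlinarith
  have hle : Nat.card (dd (ρ u0)).ker * Nat.card (dd (ρ u1)).ker ≤ 16 := by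
    have h1 := Nat.card_le_card_of_injective _
      (Subgroup.mul_injective_of_disjoint (disjoint_iff.2 hinf))
    rwa [Nat.card_prod, h16] at h1
  have h4a := hge u0 hu0
  have h4b := hge u1 hu1
  refine ⟨h16, hfpf, ?_, hinf, ?_⟩
  · intro u hu
    have h4 : Nat.card (dd (ρ u)).ker = 4 := by rcases hu with rfl | rfl <;> nlinarith
    have hu' : ρ u * ρ u = 1 := by
      rcases hu with rfl | rfl <;> rw [← map_mul] <;> simp [hu0, hu1]
    refine ⟨h4, Subgroup.eq_of_le_of_card_ge (range_le_ker h2 hu') ?_⟩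
    have h1 := card_ker_mul (ρ u)
    rw [h16, h4] at h1
    omega
  · intro W hW
    letI : MulAction A W :=
      { smul := fun a w => ⟨(a : MulAut V) w, by
          obtain ⟨k, hk⟩ := Subgroup.mem_zpowers_iff.1 a.2
          rw [← hk, ← map_zpow]; exact hW _ _ w.2⟩
        one_smul := fun w => Subtype.ext rfl
        mul_smul := fun a b w => Subtype.ext rfl }
    have hmodW := hA.card_modEq_card_fixedPoints W
    have h1 : Nat.card (MulAction.fixedPoints A W) = 1 := by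
      rw [Nat.card_eq_one_iff_unique]
      refine ⟨⟨fun a b => ?_⟩, ⟨⟨1, fun a => Subtype.ext (map_one (a : MulAut V))⟩⟩⟩
      have : ∀ c : MulAction.fixedPoints A W, ((c : W) : V) = 1 := fun c =>
        hfpf _ (congrArg Subtype.val (c.2 ⟨ρ c5, Subgroup.mem_zpowers _⟩))
      exact Subtype.ext (Subtype.ext ((this a).trans (this b).symm))
    rw [h1] at hmodW
    change Nat.card W % 5 = 1 % 5 at hmodW
    have hd : Nat.card W ∣ 16 := h16 ▸ W.card_subgroup_dvd_card
    have hmem := Nat.mem_divisors.2 ⟨hd, (by norm_num : (16 : ℕ) ≠ 0)⟩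
    rw [show Nat.divisors 16 = {1, 2, 4, 8, 16} from rfl] at hmem
    simp only [Finset.mem_insert, Finset.mem_singleton] at hmem
    rcases hmem with h | h | h | h | h <;> rw [h] at hmodW <;> try omega
    · exact Or.inl (Subgroup.eq_bot_of_card_eq W h)
    · exact Or.inr (Subgroup.eq_top_of_card_eq W (h.trans h16.symm))

theorem sectional_of_surjective {X Y : Type*} [Group X] [Group Y] {p k : ℕ}
    (h : Cfsg.SectionalPRankLE p k X) (π : X →* Y) (hπ : Function.Surjective π) :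
    Cfsg.SectionalPRankLE p k Y := by
  intro H N hN A hab hexp
  let g : ↥(H.comap π) →* H ⧸ N := (QuotientGroup.mk' N).comp (π.subgroupComap H)
  have hg : Function.Surjective g := (QuotientGroup.mk'_surjective N).comp
    (MonoidHom.subgroupComap_surjective_of_surjective π H hπ)
  let e := QuotientGroup.quotientKerEquivOfSurjective g hg
  have hb := h (H.comap π) g.ker (A.map e.symm.toMonoidHom) (by
    refine ⟨⟨?_⟩⟩
    rintro ⟨_, a, ha, rfl⟩ ⟨_, b, hb, rfl⟩
    apply Subtype.ext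
    show e.symm a * e.symm b = e.symm b * e.symm a
    rw [← map_mul, ← map_mul]
    exact congrArg _ (congrArg Subtype.val (hab.is_comm.comm ⟨a, ha⟩ ⟨b, hb⟩))) (by
    rintro _ ⟨a, ha, rfl⟩
    rw [← map_pow, hexp a ha, map_one])
  rwa [Subgroup.card_map_of_injective e.symm.injective] at hb

theorem sectional_subgroup {X : Type*} [Group X] {p k : ℕ} (h : Cfsg.SectionalPRankLE p k X)
    (S : Subgroup X) : Cfsg.SectionalPRankLE p k S := by
  intro H N hN A hab hexp
  let e := H.equivMapOfInjective S.subtype S.subtype_injective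
  haveI : (N.map e.toMonoidHom).Normal := hN.map _ e.surjective
  let c := QuotientGroup.congr N (N.map e.toMonoidHom) e rfl
  have hb := h (H.map S.subtype) (N.map e.toMonoidHom) (A.map c.toMonoidHom) (by
    refine ⟨⟨?_⟩⟩
    rintro ⟨_, a, ha, rfl⟩ ⟨_, b, hb, rfl⟩
    apply Subtype.ext
    show c a * c b = c b * c a
    rw [← map_mul, ← map_mul]
    exact congrArg _ (congrArg Subtype.val (hab.is_comm.comm ⟨a, ha⟩ ⟨b, hb⟩))) (by
    rintro _ ⟨a, ha, rfl⟩
    rw [← map_pow, hexp a ha, map_one])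
  exact (le_of_eq (Subgroup.card_map_of_injective (K := A) (f := c.toMonoidHom) c.injective).symm).trans hb

/-- An elementary abelian section spanned by generators. -/
theorem section_bound {Y : Type*} [Group Y] [Finite Y] (hrk : Cfsg.SectionalPRankLE 2 4 Y)
    (S : Set Y) (N : Subgroup Y) (hN : N ≤ Subgroup.closure S)
    (hc : ∀ s ∈ S, ∀ n ∈ N, s * n * s⁻¹ ∈ N)
    (hcm : ∀ a ∈ S, ∀ b ∈ S, a * b * a⁻¹ * b⁻¹ ∈ N) (hsq : ∀ a ∈ S, a * a ∈ N) :
    Nat.card (Subgroup.closure S) ≤ 16 * Nat.card N := by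
  classical
  set E := Subgroup.closure S
  have hEN : E ≤ Subgroup.normalizer (N : Set Y) := (Subgroup.closure_le _).2 fun s hs => by
    rw [SetLike.mem_coe, Subgroup.mem_normalizer_iff]
    refine fun n => ⟨hc s hs n, fun hn => ?_⟩
    have hle : N.map (MulAut.conj s).toMonoidHom ≤ N := by
      rintro _ ⟨k, hk, rfl⟩; exact hc s hs k hk
    have heq := Subgroup.eq_of_le_of_card_ge hle
      (Subgroup.card_map_of_injective (MulAut.conj s).injective).ge
    obtain ⟨k, hk, he⟩ := heq.ge hn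
    have : s * k * s⁻¹ = s * n * s⁻¹ := he
    exact mul_left_cancel (mul_right_cancel this) ▸ hk
  set N' := N.subgroupOf E
  haveI : N'.Normal := ⟨fun n hn e => Subgroup.mem_subgroupOf.2
    ((Subgroup.mem_normalizer_iff.1 (hEN e.2) _).1 (Subgroup.mem_subgroupOf.1 hn))⟩
  let π := QuotientGroup.mk' N'
  have hπ : ∀ e : E, (e : Y) ∈ N → π e = 1 := fun e he =>
    (QuotientGroup.eq_one_iff e).2 (Subgroup.mem_subgroupOf.2 he)
  set T : Set (E ⧸ N') := π '' (E.subtype ⁻¹' S)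
  have hT : Subgroup.closure T = ⊤ := by
    rw [← MonoidHom.map_closure,
      show Subgroup.closure (E.subtype ⁻¹' S) = ⊤ from Subgroup.closure_closure_coe_preimage,
      Subgroup.map_top_of_surjective _ (QuotientGroup.mk'_surjective N')]
  have hTc : ∀ a ∈ T, ∀ b ∈ T, a * b = b * a := by
    rintro _ ⟨a, ha, rfl⟩ _ ⟨b, hb, rfl⟩
    have h := hπ (a * b * a⁻¹ * b⁻¹) (hcm a ha b hb)
    rw [map_mul, map_mul, map_mul, map_inv, map_inv, mul_inv_eq_one, mul_inv_eq_iff_eq_mul] at h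
    exact h
  haveI hcomm : IsMulCommutative (E ⧸ N') := ⟨⟨fun a b => by
    have h1 : Subgroup.closure T ≤ Subgroup.centralizer T := (Subgroup.closure_le _).2
      fun a ha => Subgroup.mem_centralizer_iff.2 fun b hb => hTc b hb a ha
    rw [hT] at h1
    have h3 : Subgroup.closure T ≤ Subgroup.centralizer ({a} : Set (E ⧸ N')) :=
      (Subgroup.closure_le _).2 fun c hc => Subgroup.mem_centralizer_singleton_iff.2
        (Subgroup.mem_centralizer_iff.1 (h1 (Subgroup.mem_top a)) c hc)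
    rw [hT] at h3
    exact (Subgroup.mem_centralizer_singleton_iff.1 (h3 (Subgroup.mem_top b))).symm⟩⟩
  have hexp : ∀ a : E ⧸ N', a * a = 1 := by
    intro a
    have ha : a ∈ Subgroup.closure T := hT ▸ Subgroup.mem_top a
    induction ha using Subgroup.closure_induction with
    | mem z hz =>
      obtain ⟨e, he, rfl⟩ := hz
      rw [← map_mul]; exact hπ _ (hsq _ he)
    | one => simp
    | mul a b _ _ iha ihb =>
      rw [show a * b * (a * b) = a * (b * a) * b by group, hcomm.is_comm.comm b a,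
        show a * (a * b) * b = a * a * (b * b) by group, iha, ihb, one_mul]
    | inv a _ iha => rw [← mul_inv_rev, iha, inv_one]
  have hbound := hrk E N' ⊤ ⟨⟨fun a b => Subtype.ext (hcomm.is_comm.comm _ _)⟩⟩
    (fun a _ => by rw [pow_two]; exact hexp a)
  rw [Subgroup.card_top] at hbound
  rw [Subgroup.card_eq_card_quotient_mul_card_subgroup N',
    Nat.card_congr (Subgroup.subgroupOfEquivOfLe hN).toEquiv]
  exact Nat.mul_le_mul_right _ hbound

variable {Y : Type*} [Group Y]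

/-- A normal 2-subgroup `Q` with quotient `A₅` and a normal subgroup `P` generated by squares
from `Q` such that `Q / P` is a faithful module. -/
structure Data [Finite Y] (π : Y →* A5) (Q P : Subgroup Y) : Prop where
  surj : Function.Surjective π
  ker : π.ker = Q
  pQ : IsPGroup 2 Q
  le : P ≤ Q
  normal : P.Normal
  comm : ∀ a ∈ Q, ∀ b ∈ Q, a * b * a⁻¹ * b⁻¹ ∈ P
  sq : ∀ a ∈ Q, a * a ∈ P
  gen : ∀ K : Subgroup Y, (∀ a ∈ Q, a * a ∈ K) → P ≤ K
  card_le : Nat.card Q ≤ 16 * Nat.card P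
  faith : ∀ y, (∀ q ∈ Q, y * q * y⁻¹ * q⁻¹ ∈ P) → y ∈ Q
  rk : Cfsg.SectionalPRankLE 2 4 Y

namespace Data

variable [Finite Y] {π : Y →* A5} {Q P : Subgroup Y} (D : Data π Q P)
include D

theorem normalQ : Q.Normal := D.ker ▸ inferInstance

theorem mem_iff {y : Y} : y ∈ Q ↔ π y = 1 := by rw [← D.ker, MonoidHom.mem_ker]

/-- The consequences of the module structure of `Q / P`. -/
theorem module : Nat.card Q = 16 * Nat.card P ∧
    (∀ y, π y = c5 → ∀ a ∈ Q, y * a * y⁻¹ * a⁻¹ ∈ P → a ∈ P) ∧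
    (∀ u, u = u0 ∨ u = u1 → ∀ y, π y = u → ∃ L : Subgroup Y,
      (∀ a, a ∈ L ↔ a ∈ Q ∧ y * a * y⁻¹ * a⁻¹ ∈ P) ∧ Nat.card L = 4 * Nat.card P ∧
      ∀ a ∈ L, ∃ b ∈ Q, ∃ p ∈ P, a = p * (b * (y * b * y⁻¹))) ∧
    (∀ y z, π y = u0 → π z = u1 → ∀ a ∈ Q, y * a * y⁻¹ * a⁻¹ ∈ P → z * a * z⁻¹ * a⁻¹ ∈ P → a ∈ P) ∧
    (∀ S : Subgroup Y, S.Normal → P ≤ S → S ≤ Q → S = P ∨ S = Q) := by
  classical
  haveI := D.normal
  haveI := D.normalQ
  set m := QuotientGroup.mk' P
  set V := Q.map m with hVdef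
  haveI : V.Normal := Subgroup.Normal.map inferInstance _ (QuotientGroup.mk'_surjective P)
  have hm1 : ∀ x, m x = 1 ↔ x ∈ P := fun x => QuotientGroup.eq_one_iff x
  letI : CommGroup V := { (inferInstance : Group V) with
    mul_comm := by
      rintro ⟨_, a, ha, rfl⟩ ⟨_, b, hb, rfl⟩
      refine Subtype.ext ?_
      show m a * m b = m b * m a
      have h := (hm1 _).2 (D.comm a ha b hb)
      rwa [map_mul, map_mul, map_mul, map_inv, map_inv, mul_inv_eq_one, mul_inv_eq_iff_eq_mul] at h }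
  have h2 : ∀ v : V, v * v = 1 := by
    rintro ⟨_, a, ha, rfl⟩
    refine Subtype.ext ?_
    show m a * m a = 1
    rw [← map_mul, hm1]; exact D.sq a ha
  let σ : Y →* MulAut V := (MulAut.conjNormal (H := V)).comp m
  have hσ : ∀ (y a : Y) (ha : a ∈ Q),
      ((σ y ⟨m a, a, ha, rfl⟩ : V) : Y ⧸ P) = m (y * a * y⁻¹) := fun y a ha => by
    simp [σ, map_mul]
  have hker : π.ker ≤ σ.ker := by
    intro y hy
    rw [D.ker] at hy
    refine MonoidHom.mem_ker.2 (MulEquiv.ext ?_)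
    rintro ⟨_, a, ha, rfl⟩
    refine Subtype.ext ?_
    rw [hσ y a ha, MulAut.one_apply]
    have h := (hm1 _).2 (D.comm y hy a ha)
    rwa [map_mul, map_inv, mul_inv_eq_one] at h
  let ρ : A5 →* MulAut V := π.liftOfSurjective D.surj ⟨σ, hker⟩
  have hρ : ∀ y, ρ (π y) = σ y := fun y => π.liftOfRightInverse_comp_apply _ _ _ y
  have hfx : ∀ (y a : Y) (ha : a ∈ Q), ρ (π y) ⟨m a, a, ha, rfl⟩ = ⟨m a, a, ha, rfl⟩ ↔
      y * a * y⁻¹ * a⁻¹ ∈ P := fun y a ha => by
    rw [hρ, Subtype.ext_iff, hσ y a ha, ← hm1, map_mul m (y * a * y⁻¹), map_inv, mul_inv_eq_one]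
  have hinj : Function.Injective ρ := by
    refine hom_injective ρ (g := c5) fun h => facts.2.2.1 ?_
    obtain ⟨y, hy⟩ := D.surj c5
    rw [← hy]
    refine D.mem_iff.1 (D.faith y fun a ha => (hfx y a ha).1 ?_)
    rw [hy, h, MulAut.one_apply]
  have hQcard : Nat.card Q = Nat.card V * Nat.card P := by
    have h := Subgroup.card_eq_card_quotient_mul_card_subgroup (m.comp Q.subtype).ker
    rwa [Nat.card_congr (QuotientGroup.quotientKerEquivRange _).toEquiv, MonoidHom.range_comp,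
      Subgroup.range_subtype, ← MonoidHom.comap_ker, QuotientGroup.ker_mk',
      show P.comap Q.subtype = P.subgroupOf Q from rfl,
      Nat.card_congr (Subgroup.subgroupOfEquivOfLe D.le).toEquiv] at h
  obtain ⟨h16, hfpf, hu, hinf, hirr⟩ := module_facts h2
    (Nat.le_of_mul_le_mul_right (hQcard ▸ D.card_le) Nat.card_pos) ρ hinj
  have hone : ∀ (a : Y) (ha : a ∈ Q), (⟨m a, a, ha, rfl⟩ : V) = 1 ↔ a ∈ P := fun a ha => by
    rw [Subtype.ext_iff]; exact hm1 a
  refine ⟨by rw [hQcard, h16], ?_, ?_, ?_, ?_⟩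
  · intro y hy a ha h
    exact (hone a ha).1 (hfpf _ (hy ▸ (hfx y a ha).2 h))
  · intro u hu' y hy
    obtain ⟨h4, hr⟩ := hu u hu'
    set K := ((dd (ρ u)).ker.map V.subtype).comap m with hK
    have hmem : ∀ a, a ∈ K ↔ a ∈ Q ∧ y * a * y⁻¹ * a⁻¹ ∈ P := by
      intro a
      constructor
      · rintro ⟨⟨_, b, hb, rfl⟩, hv, h⟩
        have haQ : a ∈ Q := by
          have hd : b⁻¹ * a ∈ P := QuotientGroup.eq.1 (show m b = m a from h)
          simpa using Q.mul_mem hb (D.le hd)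
        refine ⟨haQ, (hfx y a haQ).1 ?_⟩
        have he : (⟨m a, a, haQ, rfl⟩ : V) = ⟨m b, b, hb, rfl⟩ := Subtype.ext h.symm
        rw [he, hy]
        exact (mem_ker h2).1 hv
      · rintro ⟨ha, hP⟩
        refine ⟨⟨m a, a, ha, rfl⟩, (mem_ker h2).2 ?_, rfl⟩
        rw [← hy]; exact (hfx y a ha).2 hP
    refine ⟨K, hmem, ?_, fun a ha => ?_⟩
    · have h := Subgroup.card_eq_card_quotient_mul_card_subgroup (m.comp K.subtype).ker
      have hPK : P ≤ K := fun p hp => ⟨1, one_mem _, ((hm1 p).2 hp).symm⟩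
      rw [Nat.card_congr (QuotientGroup.quotientKerEquivRange _).toEquiv, MonoidHom.range_comp,
        Subgroup.range_subtype, ← MonoidHom.comap_ker, QuotientGroup.ker_mk',
        show P.comap K.subtype = P.subgroupOf K from rfl,
        Nat.card_congr (Subgroup.subgroupOfEquivOfLe hPK).toEquiv,
        Subgroup.map_comap_eq_self_of_surjective (QuotientGroup.mk'_surjective P),
        Subgroup.card_map_of_injective V.subtype_injective, h4] at h
      exact h
    · obtain ⟨v, hv, h⟩ := ha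
      obtain ⟨⟨_, b, hb, rfl⟩, rfl⟩ := hr ▸ hv
      refine ⟨b, hb, a * (b * (y * b * y⁻¹))⁻¹, (hm1 _).1 ?_, by group⟩
      rw [map_mul, map_inv, mul_inv_eq_one, ← h]
      show ((⟨m b, b, hb, rfl⟩ : V) : Y ⧸ P) * (ρ u ⟨m b, b, hb, rfl⟩ : V) = _
      rw [← hy, hρ, hσ y b hb, map_mul m b]
  · intro y z hy hz a ha h h'
    refine (hone a ha).1 (Subgroup.mem_bot.1 (hinf ▸ Subgroup.mem_inf.2 ⟨?_, ?_⟩))
    · exact (mem_ker h2).2 (hy ▸ (hfx y a ha).2 h)
    · exact (mem_ker h2).2 (hz ▸ (hfx z a ha).2 h')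
  · intro S hS hPS hSQ
    have hinv : ∀ g, ∀ v ∈ (S.map m).subgroupOf V, ρ g v ∈ (S.map m).subgroupOf V := by
      rintro g ⟨_, b, hb, rfl⟩ hv
      obtain ⟨s, hs, hsb⟩ := Subgroup.mem_subgroupOf.1 hv
      obtain ⟨y, rfl⟩ := D.surj g
      refine Subgroup.mem_subgroupOf.2 ⟨y * s * y⁻¹, hS.conj_mem s hs y, ?_⟩
      rw [hρ, hσ y b hb, map_mul, map_mul, map_mul, map_mul, show m s = m b from hsb]
    have hcomap : S = (S.map m).comap m := by
      rw [Subgroup.comap_map_eq_self]; rwa [QuotientGroup.ker_mk']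
    rcases hirr _ hinv with h | h
    · left
      refine le_antisymm ?_ hPS
      intro s hs
      refine (hm1 s).1 ?_
      have : (⟨m s, s, hSQ hs, rfl⟩ : V) ∈ (S.map m).subgroupOf V :=
        Subgroup.mem_subgroupOf.2 ⟨s, hs, rfl⟩
      rw [h, Subgroup.mem_bot] at this
      exact congrArg Subtype.val this
    · right
      refine le_antisymm hSQ fun a ha => ?_
      rw [hcomap]
      exact Subgroup.mem_subgroupOf.1 (h.ge (Subgroup.mem_top (⟨m a, a, ha, rfl⟩ : V)))

end Data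

end Cfsg.Agent.A5OTwo92
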