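import Mathlib
import Cfsg.Agent.Lib.A5OTwoModule92
import Cfsg.Agent.Lib.PGroupsBasic

/-!
Minimal normal layers and the nondegenerate layer of order two.
-/

set_option autoImplicit false

namespace Cfsg.Agent.A5OTwo92

open Equiv
open Cfsg.Agent.SectRankS6Module92 (dd mem_ker card_ker_mul range_le_ker)

/-- Quadratic forms on four bits with values given on a basis of two hyperbolic pairs. -/
def qmodel (r : Fin 4 → ZMod 2) (v : Fin 4 → ZMod 2) : ZMod 2 :=
  (v 0 * r 0 + v 1 * r 1 + v 0 * v 1) + (v 2 * r 2 + v 3 * r 3 + v 2 * v 3)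

theorem qmodel_plane : ∀ r : Fin 4 → ZMod 2,
    (Finset.univ.filter fun v => qmodel r v = 0).card % 5 = 1 → ∀ v, v ≠ 0 → qmodel r v = 0 →
      ∀ w, w ≠ 0 → qmodel r w = 0 → v ≠ w → qmodel r (v + w) ≠ 0 := by
  decide +kernel

theorem qmodel_types : ∀ r : Fin 4 → ZMod 2,
    (Finset.univ.filter fun v => qmodel r v = 0).card % 5 = 1 →
      (r 0 = 1 ∧ r 1 = 1 ∧ ¬ (r 2 = 1 ∧ r 3 = 1)) ∨ (r 2 = 1 ∧ r 3 = 1 ∧ ¬ (r 0 = 1 ∧ r 1 = 1)) := by
  decide +kernel

variable {Y : Type*} [Group Y] [Finite Y]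

theorem conj_mul' (y a b : Y) : y * (a * b) * y⁻¹ = (y * a * y⁻¹) * (y * b * y⁻¹) := by group

namespace Data

variable {π : Y →* A5} {Q P : Subgroup Y} (D : Data π Q P)
include D

theorem quotient (M : Subgroup Y) [M.Normal] (hM : M ≤ P) :
    Data (QuotientGroup.lift M π (fun m hm => MonoidHom.mem_ker.1 (D.ker.ge (D.le (hM hm)))))
      (Q.map (QuotientGroup.mk' M)) (P.map (QuotientGroup.mk' M)) := by
  set m := QuotientGroup.mk' M
  have hms : Function.Surjective m := QuotientGroup.mk'_surjective M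
  haveI := D.normal
  have hcard : ∀ K : Subgroup Y, M ≤ K → Nat.card (K.map m) * Nat.card M = Nat.card K := by
    intro K hK
    have h := Subgroup.card_eq_card_quotient_mul_card_subgroup (m.comp K.subtype).ker
    rw [Nat.card_congr (QuotientGroup.quotientKerEquivRange _).toEquiv, MonoidHom.range_comp,
      Subgroup.range_subtype, ← MonoidHom.comap_ker, QuotientGroup.ker_mk',
      show M.comap K.subtype = M.subgroupOf K from rfl,
      Nat.card_congr (Subgroup.subgroupOfEquivOfLe hK).toEquiv] at h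
    exact h.symm
  refine ⟨?_, ?_, D.pQ.map m, Subgroup.map_mono D.le, D.normal.map m hms, ?_, ?_, ?_, ?_, ?_,
    sectional_of_surjective D.rk m hms⟩
  · intro g; obtain ⟨y, rfl⟩ := D.surj g; exact ⟨m y, rfl⟩
  · ext x
    obtain ⟨y, rfl⟩ := hms x
    rw [MonoidHom.mem_ker]
    show π y = 1 ↔ _
    rw [← D.mem_iff]
    refine ⟨fun h => ⟨y, h, rfl⟩, ?_⟩
    rintro ⟨q, hq, he⟩
    have hd : q⁻¹ * y ∈ M := QuotientGroup.eq.1 he
    simpa using Q.mul_mem hq (D.le (hM hd))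
  · rintro _ ⟨a, ha, rfl⟩ _ ⟨b, hb, rfl⟩
    exact ⟨_, D.comm a ha b hb, by simp only [map_mul, map_inv]⟩
  · rintro _ ⟨a, ha, rfl⟩
    exact ⟨_, D.sq a ha, map_mul _ _ _⟩
  · intro K hK
    rw [Subgroup.map_le_iff_le_comap]
    exact D.gen _ fun a ha => by
      rw [Subgroup.mem_comap, map_mul]; exact hK _ ⟨a, ha, rfl⟩
  · have h1 := hcard Q (hM.trans D.le)
    have h3 := hcard P hM
    have h4 := D.card_le
    rw [← h1, ← h3, ← mul_assoc] at h4
    exact Nat.le_of_mul_le_mul_right h4 Nat.card_pos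
  · intro x hx
    obtain ⟨y, rfl⟩ := hms x
    refine ⟨y, D.faith y fun q hq => ?_, rfl⟩
    obtain ⟨p, hp, he⟩ := hx _ ⟨q, hq, rfl⟩
    have hd : p⁻¹ * (y * q * y⁻¹ * q⁻¹) ∈ M := QuotientGroup.eq.1 (show m p = m _ by
      rw [he]; simp only [map_mul, map_inv])
    simpa using P.mul_mem hp (hM hd)

/-- A minimal normal layer is central in `Q`, elementary abelian, and either central of order two
or a faithful module. -/
theorem layer (W : Subgroup Y) [W.Normal] (hW : W ≤ Q) (hne : W ≠ ⊥)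
    (hmin : ∀ N : Subgroup Y, N.Normal → N ≤ W → N = ⊥ ∨ N = W) :
    (∀ w ∈ W, ∀ a ∈ Q, a * w = w * a) ∧ (∀ w ∈ W, w * w = 1) ∧
      ((Nat.card W = 2 ∧ ∀ w ∈ W, ∀ y, y * w = w * y) ∨
        (Nat.card W = 16 ∧ (∀ y, π y = c5 → ∀ w ∈ W, y * w = w * y → w = 1) ∧
          ∀ y, π y = u0 → ∃ W1 : Subgroup Y, (∀ w, w ∈ W1 ↔ w ∈ W ∧ y * w = w * y) ∧ Nat.card W1 = 4)) := by
  classical
  haveI : Fact (Nat.Prime 2) := ⟨Nat.prime_two⟩
  haveI := D.normalQ
  have hcen : ∀ w ∈ W, ∀ a ∈ Q, a * w = w * a := by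
    rcases hmin (W ⊓ Subgroup.centralizer (Q : Set Y)) inferInstance inf_le_left with h | h
    · exfalso
      haveI : (W.subgroupOf Q).Normal := Subgroup.Normal.subgroupOf ‹_› Q
      refine PGroupsBasic.inf_center_ne_bot D.pQ (N := W.subgroupOf Q) ?_ ?_
      · rw [Ne, Subgroup.subgroupOf_eq_bot, disjoint_iff, inf_eq_left.2 hW]; exact hne
      · refine eq_bot_iff.2 fun x hx => Subgroup.mem_bot.2 (Subtype.ext ?_)
        exact Subgroup.mem_bot.1 (h.le ⟨Subgroup.mem_subgroupOf.1 hx.1, fun a ha =>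
          congrArg Subtype.val (Subgroup.mem_center_iff.1 hx.2 ⟨a, ha⟩)⟩)
    · exact fun w hw a ha => (h.ge hw).2 a ha
  letI : CommGroup W := { (inferInstance : Group W) with
    mul_comm := fun v w => Subtype.ext (hcen w w.2 v (hW v.2)) }
  have h2 : ∀ w : W, w * w = 1 := by
    let T : Subgroup Y :=
      { carrier := {w | w ∈ W ∧ w * w = 1}
        one_mem' := ⟨one_mem _, one_mul _⟩
        mul_mem' := fun {a b} ha hb => ⟨mul_mem ha.1 hb.1, by
          rw [show a * b * (a * b) = a * (b * a) * b by group, hcen a ha.1 b (hW hb.1),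
            show a * (a * b) * b = a * a * (b * b) by group, ha.2, hb.2, one_mul]⟩
        inv_mem' := fun {a} ha => ⟨inv_mem ha.1, by rw [← mul_inv_rev, ha.2, inv_one]⟩ }
    haveI : T.Normal := ⟨fun a ha g => ⟨Subgroup.Normal.conj_mem ‹W.Normal› a ha.1 g, by
      rw [show g * a * g⁻¹ * (g * a * g⁻¹) = g * (a * a) * g⁻¹ by group, ha.2, mul_one,
        mul_inv_cancel]⟩⟩
    rcases hmin T inferInstance (fun a ha => ha.1) with h | h
    · exfalso
      have hWp : IsPGroup 2 W := D.pQ.to_le hW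
      have hd : 2 ∣ Nat.card W := by
        obtain ⟨n, hn⟩ := hWp.exists_card_eq
        rcases n with - | n
        · exact absurd (Subgroup.eq_bot_of_card_eq W (by rw [hn, pow_zero])) hne
        · exact hn ▸ dvd_pow_self 2 (Nat.succ_ne_zero n)
      obtain ⟨x, hx⟩ := exists_prime_orderOf_dvd_card' 2 hd
      have h1 : (x : Y) ∈ T := ⟨x.2, by
        have := pow_orderOf_eq_one x
        rw [hx, pow_two] at this
        exact congrArg Subtype.val this⟩
      rw [h, Subgroup.mem_bot] at h1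
      rw [show x = 1 from Subtype.ext h1, orderOf_one] at hx
      norm_num at hx
    · exact fun w => Subtype.ext (h.ge w.2).2
  refine ⟨hcen, fun w hw => congrArg Subtype.val (h2 ⟨w, hw⟩), ?_⟩
  have hker : π.ker ≤ (MulAut.conjNormal (H := W) : Y →* MulAut W).ker := fun y hy =>
    MonoidHom.mem_ker.2 (MulEquiv.ext fun w => Subtype.ext (by
      rw [MulAut.conjNormal_apply, MulAut.one_apply,
        hcen w w.2 y (D.ker ▸ hy : y ∈ Q), mul_inv_cancel_right]))
  let ρ : A5 →* MulAut W := π.liftOfSurjective D.surj ⟨MulAut.conjNormal, hker⟩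
  have hρ : ∀ y, ρ (π y) = MulAut.conjNormal y := fun y => π.liftOfRightInverse_comp_apply _ _ _ y
  have hfx : ∀ y (w : W), ρ (π y) w = w ↔ y * w = w * (y : Y) := fun y w => by
    rw [hρ, Subtype.ext_iff, MulAut.conjNormal_apply, mul_inv_eq_iff_eq_mul]
  by_cases hρ1 : ∀ g, ρ g = 1
  · left
    have hc : ∀ w ∈ W, ∀ y, y * w = w * y := fun w hw y =>
      (hfx y ⟨w, hw⟩).1 (by rw [hρ1, MulAut.one_apply])
    obtain ⟨⟨w, hw⟩, hw1⟩ := Subgroup.ne_bot_iff_exists_ne_one.1 hne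
    have hwne : w ≠ 1 := fun h => hw1 (Subtype.ext h)
    haveI : (Subgroup.zpowers w).Normal := ⟨fun a ha g => by
      rw [hc a (Subgroup.zpowers_le.2 hw ha) g, mul_inv_cancel_right]; exact ha⟩
    have hWz := (hmin _ inferInstance (Subgroup.zpowers_le.2 hw)).resolve_left fun h =>
      hwne (Subgroup.mem_bot.1 (h.le (Subgroup.mem_zpowers w)))
    refine ⟨?_, hc⟩
    rw [← hWz, Nat.card_zpowers]
    exact orderOf_eq_prime (by rw [pow_two]; exact congrArg Subtype.val (h2 ⟨w, hw⟩)) hwne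
  · right
    push Not at hρ1
    obtain ⟨g, hg⟩ := hρ1
    have hW16 : Nat.card W ≤ 16 := by
      have h := section_bound D.rk (W : Set Y) ⊥ bot_le
        (fun s _ n hn => by rw [Subgroup.mem_bot.1 hn]; simp)
        (fun a ha b hb => Subgroup.mem_bot.2 (by
          rw [hcen b hb a (hW ha), mul_inv_cancel_right, mul_inv_cancel]))
        (fun a ha => Subgroup.mem_bot.2 (congrArg Subtype.val (h2 ⟨a, ha⟩)))
      rwa [Subgroup.closure_eq, Subgroup.card_bot, mul_one] at h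
    obtain ⟨h16, hfpf, hu, -, -⟩ := module_facts h2 hW16 ρ (hom_injective ρ hg)
    refine ⟨h16, fun y hy w hw h => congrArg Subtype.val
      (hfpf ⟨w, hw⟩ (hy ▸ (hfx y ⟨w, hw⟩).2 h)), fun y hy => ⟨(dd (ρ u0)).ker.map W.subtype, ?_, ?_⟩⟩
    · intro w
      constructor
      · rintro ⟨v, hv, rfl⟩
        exact ⟨v.2, (hfx y v).1 (by rw [hy]; exact (mem_ker h2).1 hv)⟩
      · rintro ⟨hw, h⟩
        exact ⟨⟨w, hw⟩, (mem_ker h2).2 (hy ▸ (hfx y ⟨w, hw⟩).2 h), rfl⟩
    · rw [Subgroup.card_map_of_injective W.subtype_injective, (hu u0 (Or.inl rfl)).1]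

/-- A minimal layer generated by squares is central of order two. -/
theorem first_layer (hne : P ≠ ⊥)
    (hmin : ∀ N : Subgroup Y, N.Normal → N ≤ P → N = ⊥ ∨ N = P) :
    Nat.card P = 2 ∧ ∀ p ∈ P, ∀ y, y * p = p * y := by
  haveI := D.normal
  haveI := D.normalQ
  obtain ⟨hcen, h2, hc | ⟨h16, -, hW⟩⟩ := D.layer P D.le hne hmin
  · exact hc
  exfalso
  obtain ⟨⟨hu, hu', -, -⟩, -⟩ := facts
  obtain ⟨y₁, hy₁⟩ := D.surj u0
  obtain ⟨L₁, hL₁, -, hL₁r⟩ := D.module.2.2.1 u0 (Or.inl rfl) y₁ hy₁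
  have hy₁Q : y₁ * y₁ ∈ Q := D.mem_iff.2 (by rw [map_mul, hy₁, hu])
  -- an involutory lift modulo `P`
  obtain ⟨b, hb, p, hp, he⟩ := hL₁r _ ((hL₁ (y₁ * y₁)).2 ⟨hy₁Q, by simp [mul_assoc, one_mem]⟩)
  set y := b * y₁ with hy
  have hπy : π y = u0 := by rw [hy, map_mul, D.mem_iff.1 hb, one_mul, hy₁]
  have hyy : y * y ∈ P := by
    have : y * y = b * (y₁ * b * y₁⁻¹) * (y₁ * y₁) := by rw [hy]; group
    rw [this, he]
    set c := b * (y₁ * b * y₁⁻¹)
    have hcQ : c ∈ Q := Q.mul_mem hb ((inferInstance : Q.Normal).conj_mem b hb y₁)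
    rw [show c * (p * c) = (c * p * c⁻¹) * (c * c) by group]
    exact P.mul_mem ((inferInstance : P.Normal).conj_mem p hp c) (D.sq c hcQ)
  obtain ⟨L, hL, hLc, -⟩ := D.module.2.2.1 u0 (Or.inl rfl) y hπy
  obtain ⟨W1, hW1, hW1c⟩ := hW y hπy
  have hPL : P ≤ L := fun q hq => (hL q).2 ⟨D.le hq,
    P.mul_mem ((inferInstance : P.Normal).conj_mem q hq y) (P.inv_mem hq)⟩
  have hyc : ∀ q ∈ P, y * (y * q * y⁻¹) * y⁻¹ = q := fun q hq => by
    rw [show y * (y * q * y⁻¹) * y⁻¹ = (y * y) * q * (y * y)⁻¹ by group,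
      hcen q hq _ (D.le hyy), mul_inv_cancel_right]
  have hw : ∀ a ∈ L, y * a * y⁻¹ * a⁻¹ ∈ W1 := by
    intro a ha
    obtain ⟨haQ, hP⟩ := (hL a).1 ha
    refine (hW1 _).2 ⟨hP, ?_⟩
    set w := y * a * y⁻¹ * a⁻¹ with hwdef
    have h1 : y * a * y⁻¹ = w * a := by rw [hwdef]; group
    have h3 : (y * w * y⁻¹) * w * a = a := by
      rw [mul_assoc, ← h1, ← conj_mul', ← h1,
        show y * (y * a * y⁻¹) * y⁻¹ = (y * y) * a * (y * y)⁻¹ by group,
        ← hcen _ hyy a haQ, mul_inv_cancel_right]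
    have h4 : y * w * y⁻¹ = w := by
      have h5 : y * w * y⁻¹ * w = 1 := mul_right_cancel (h3.trans (one_mul a).symm)
      rw [eq_inv_of_mul_eq_one_left h5, inv_eq_of_mul_eq_one_right (h2 w hP)]
    exact mul_inv_eq_iff_eq_mul.1 h4
  have hsq : ∀ a ∈ L, a * a ∈ W1 := by
    intro a ha
    obtain ⟨haQ, hP⟩ := (hL a).1 ha
    refine (hW1 _).2 ⟨D.sq a haQ, mul_inv_eq_iff_eq_mul.1 ?_⟩
    have h1 : y * a * y⁻¹ = (y * a * y⁻¹ * a⁻¹) * a := by group
    rw [conj_mul', h1]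
    set w := y * a * y⁻¹ * a⁻¹
    rw [show w * a * (w * a) = w * (a * w) * a by group, hcen w hP a haQ,
      show w * (w * a) * a = w * w * (a * a) by group, h2 w hP, one_mul]
  have hcm : ∀ a ∈ L, ∀ b' ∈ L, a * b' * a⁻¹ * b'⁻¹ ∈ W1 := by
    intro a ha b' hb'
    obtain ⟨haQ, hPa⟩ := (hL a).1 ha
    obtain ⟨hbQ, hPb⟩ := (hL b').1 hb'
    refine (hW1 _).2 ⟨D.comm a haQ b' hbQ, mul_inv_eq_iff_eq_mul.1 ?_⟩
    set w := y * a * y⁻¹ * a⁻¹
    set v := y * b' * y⁻¹ * b'⁻¹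
    have e : y * (a * b' * a⁻¹ * b'⁻¹) * y⁻¹ = (w * a) * (v * b') * (w * a)⁻¹ * (v * b')⁻¹ := by
      simp only [w, v]; group
    rw [e, show (w * a) * (v * b') * (w * a)⁻¹ * (v * b')⁻¹ =
      w * (a * v * a⁻¹) * (a * b' * a⁻¹) * w⁻¹ * b'⁻¹ * v⁻¹ by group,
      hcen v hPb a haQ, mul_inv_cancel_right,
      show w * v * (a * b' * a⁻¹) * w⁻¹ * b'⁻¹ * v⁻¹ =
        (w * v) * (a * b' * a⁻¹) * (w⁻¹ * b'⁻¹) * v⁻¹ by group,
      ← hcen w⁻¹ (P.inv_mem hPa) b'⁻¹ (Q.inv_mem hbQ)]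
    set k := a * b' * a⁻¹
    have hk : k ∈ Q := Q.mul_mem (Q.mul_mem haQ hbQ) (Q.inv_mem haQ)
    rw [show w * v * k * (b'⁻¹ * w⁻¹) * v⁻¹ = (w * v) * (k * b'⁻¹) * (v * w)⁻¹ by group,
      ← hcen v hPb w (D.le hPa), ← hcen (w * v) (P.mul_mem hPa hPb) _ (Q.mul_mem hk (Q.inv_mem hbQ)),
      mul_inv_cancel_right]
  set S : Set Y := (L : Set Y) ∪ {y}
  have hLS : L ≤ Subgroup.closure S := fun a ha => Subgroup.subset_closure (Or.inl ha)
  have hbound := section_bound D.rk S W1 (fun w hw' => hLS (hPL ((hW1 w).1 hw').1)) ?_ ?_ ?_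
  · have hlt : L < Subgroup.closure S := lt_of_le_of_ne hLS fun h => by
      have hyL : y ∈ L := h ▸ Subgroup.subset_closure (Or.inr rfl)
      exact hu' (hπy.symm.trans (D.mem_iff.1 ((hL y).1 hyL).1))
    have h1 := Subgroup.card_dvd_of_le hlt.le
    have h3 : Nat.card L ≠ Nat.card (Subgroup.closure S) := fun h =>
      hlt.ne (Subgroup.eq_of_le_of_card_ge hlt.le h.ge)
    have h4 := Nat.le_of_dvd Nat.card_pos h1
    rw [hLc, h16] at h1 h3 h4
    rw [hW1c] at hbound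
    obtain ⟨k, hk⟩ := h1
    rw [hk] at h3 h4 hbound
    have : k = 1 := by omega
    subst this
    norm_num at h3
  · rintro s (hs | rfl) n hn
    · obtain ⟨hnP, -⟩ := (hW1 n).1 hn
      rw [hcen n hnP s ((hL s).1 hs).1, mul_inv_cancel_right]; exact hn
    · rw [((hW1 n).1 hn).2, mul_inv_cancel_right]; exact hn
  · rintro a (ha | rfl) c (hc | rfl)
    · exact hcm a ha c hc
    · have h := W1.inv_mem (hw a ha)
      convert h using 1; group
    · exact hw c hc
    · simp [one_mem]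
  · rintro a (ha | rfl)
    · exact hsq a ha
    · exact (hW1 _).2 ⟨hyy, (mul_assoc _ _ _).symm⟩

variable {z : Y} (hP : ∀ p, p ∈ P ↔ p = 1 ∨ p = z) (hz : z ≠ 1) (hzc : ∀ y, y * z = z * y)
include hP hz hzc

omit hzc in
theorem card_two : Nat.card P = 2 := by
  rw [show Nat.card P = (({1, z} : Set Y)).ncard by
    rw [← Nat.card_coe_set_eq]; exact Nat.card_congr (Equiv.setCongr (Set.ext fun p => (hP p).trans (by simp)))]
  exact Set.ncard_pair (Ne.symm hz)

omit hz in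
theorem central : ∀ p ∈ P, ∀ y : Y, y * p = p * y := fun p hp y => by
  rcases (hP p).1 hp with rfl | rfl
  · simp
  · exact hzc y

theorem exists_noncomm {a : Y} (ha : a ∈ Q) (haP : a ∉ P) : ∃ b ∈ Q, b * a ≠ a * b := by
  haveI := D.normalQ
  by_contra h
  push Not at h
  have hcen := D.central hP hzc
  let S : Subgroup Y := Q ⊓ Subgroup.centralizer (Q : Set Y)
  haveI : S.Normal := inferInstance
  have hPS : P ≤ S := fun p hp => ⟨D.le hp, fun q _ => hcen p hp q⟩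
  have haS : a ∈ S := ⟨ha, fun q hq => h q hq⟩
  rcases (D.module).2.2.2.2 S inferInstance hPS inf_le_left with he | he
  · exact haP (he ▸ haS)
  have hab : ∀ x ∈ Q, ∀ y ∈ Q, x * y = y * x := fun x hx y hy => (he.ge hy).2 x hx
  let T : Subgroup Y :=
    { carrier := {x | x ∈ Q ∧ x * x = 1}
      one_mem' := ⟨one_mem _, one_mul _⟩
      mul_mem' := fun {x y} hx hy => ⟨mul_mem hx.1 hy.1, by
        rw [show x * y * (x * y) = x * (y * x) * y by group, hab y hy.1 x hx.1,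
          show x * (x * y) * y = x * x * (y * y) by group, hx.2, hy.2, one_mul]⟩
      inv_mem' := fun {x} hx => ⟨inv_mem hx.1, by rw [← mul_inv_rev, hx.2, inv_one]⟩ }
  haveI : T.Normal := ⟨fun x hx g => ⟨(inferInstance : Q.Normal).conj_mem x hx.1 g, by
    rw [show g * x * g⁻¹ * (g * x * g⁻¹) = g * (x * x) * g⁻¹ by group, hx.2, mul_one,
      mul_inv_cancel]⟩⟩
  let s : Q →* Y :=
    { toFun := fun x => x * x
      map_one' := by simp
      map_mul' := fun x y => by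
        show (x : Y) * y * (x * y) = x * x * (y * y)
        rw [show (x : Y) * y * (x * y) = x * (y * x) * y by group, hab y y.2 x x.2]; group }
  have hs : s.range ≤ P := by rintro _ ⟨x, rfl⟩; exact D.sq x x.2
  have hker : s.ker.map Q.subtype = T := by
    ext x
    constructor
    · rintro ⟨v, hv, rfl⟩; exact ⟨v.2, hv⟩
    · rintro ⟨hx, h1⟩; exact ⟨⟨x, hx⟩, h1, rfl⟩
  have hc := Subgroup.card_eq_card_quotient_mul_card_subgroup s.ker
  rw [Nat.card_congr (QuotientGroup.quotientKerEquivRange s).toEquiv,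
    ← Subgroup.card_map_of_injective Q.subtype_injective, hker, D.module.1] at hc
  have hr := Subgroup.card_le_of_le hs
  rw [D.card_two hP hz] at hc hr
  have hPT : P ≤ T := fun p hp => ⟨D.le hp, by
    have := pow_card_eq_one' (x := (⟨p, hp⟩ : P))
    rw [D.card_two hP hz, pow_two] at this
    exact congrArg Subtype.val this⟩
  rcases (D.module).2.2.2.2 T inferInstance hPT (fun x hx => hx.1) with h' | h'
  · rw [h', D.card_two hP hz] at hc
    nlinarith
  · have := D.gen ⊥ fun x hx => Subgroup.mem_bot.2 (h'.ge hx).2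
    exact hz (Subgroup.mem_bot.1 (this ((hP z).2 (Or.inr rfl))))

end Data

end Cfsg.Agent.A5OTwo92
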