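import Mathlib
import Cfsg.Prelude.Def_Transfer
import Cfsg.Agent.Lib.PGroupsBasic

/-!
# `p`-groups and cyclic subgroups

Maximal normal abelian subgroups, `p`-groups with a cyclic maximal subgroup, normal elementary
abelian subgroups of order `p^2`, recognition of quaternion and dihedral groups, and groups with a
unique subgroup of order `p`.
-/

set_option autoImplicit false
set_option linter.style.haveILetI false
set_option linter.unusedSectionVars false

namespace Cfsg.Agent.PGroupsCyclic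

open Subgroup Cfsg.Agent.PGroupsBasic
open scoped commutatorElement

variable {G : Type*} [Group G]

/-! ### Arithmetic -/

theorem int_pow_prime_sub_one {p : ℕ} (hp : p.Prime) (hp2 : p ≠ 2) {n : ℕ} {r : ℤ}
    (h : (p : ℤ) ^ n ∣ r ^ p - 1) :
    (p : ℤ) ^ n ∣ (p : ℤ) * (r - 1) ∧ (p : ℤ) ^ n ∣ (r - 1) ^ 2 := by
  rcases Nat.eq_zero_or_pos n with rfl | hn
  · simp
  haveI := Fact.mk hp
  have hr1 : (p : ℤ) ∣ r - 1 := by
    have h1 : (p : ℤ) ∣ r ^ p - 1 := (dvd_pow_self _ hn.ne').trans h
    rw [← ZMod.intCast_zmod_eq_zero_iff_dvd] at h1 ⊢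
    push_cast at h1 ⊢
    rwa [ZMod.pow_card] at h1
  obtain ⟨b, hb⟩ := hr1
  have hodd : Odd p := hp.odd_of_ne_two hp2
  set S : ℤ := ∑ i ∈ Finset.range p, r ^ i with hS
  have hgeom : (r - 1) * S = r ^ p - 1 := mul_geom_sum r p
  obtain ⟨c, hc⟩ : (p : ℤ) ^ 2 ∣ S - p := by
    have := odd_sq_dvd_geom_sum₂_sub (R := ℤ) (a := 1) b hodd
    simpa [hS, ← hb] using this
  have hcop : IsCoprime ((p : ℤ) ^ n) (1 + (p : ℤ) * c) :=
    (IsCoprime.pow_left ⟨-c, 1, by ring⟩)
  have h2 : (p : ℤ) ^ n ∣ (p : ℤ) * (r - 1) * (1 + (p : ℤ) * c) := by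
    have hS' : S = (p : ℤ) * (1 + (p : ℤ) * c) := by linear_combination hc
    rw [← hgeom, hS'] at h
    convert h using 1; ring
  have h3 := hcop.dvd_of_dvd_mul_right h2
  exact ⟨h3, h3.trans ⟨b, by rw [hb]; ring⟩⟩

theorem int_sq_sub_one {n : ℕ} {r : ℤ} (h : (2 : ℤ) ^ (n + 1) ∣ r ^ 2 - 1) :
    (2 : ℤ) ^ n ∣ r - 1 ∨ (2 : ℤ) ^ n ∣ r + 1 := by
  rcases Nat.eq_zero_or_pos n with rfl | hn
  · simp
  have hodd : Odd r := by
    by_contra hev
    rw [Int.not_odd_iff_even] at hev
    obtain ⟨k, rfl⟩ := hev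
    have : (2 : ℤ) ∣ (k + k) ^ 2 - 1 := (dvd_pow_self _ (by omega)).trans h
    obtain ⟨l, hl⟩ := this
    have : (1 : ℤ) = 2 * (2 * k * k - l) := by linear_combination -hl
    omega
  obtain ⟨a, rfl⟩ := hodd
  obtain ⟨m, rfl⟩ := Nat.exists_eq_succ_of_ne_zero hn.ne'
  have h' : (2 : ℤ) ^ m ∣ a * (a + 1) := by
    refine (mul_dvd_mul_iff_left (show (4 : ℤ) ≠ 0 by norm_num)).mp ?_
    rw [show (4 : ℤ) * 2 ^ m = 2 ^ (m + 1 + 1) by ring,
      show (4 : ℤ) * (a * (a + 1)) = (2 * a + 1) ^ 2 - 1 by ring]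
    exact h
  rcases Int.even_or_odd a with ha | ha
  · left
    have hcop : IsCoprime ((2 : ℤ) ^ m) (a + 1) := by
      obtain ⟨k, rfl⟩ := ha
      exact IsCoprime.pow_left ⟨-k, 1, by ring⟩
    obtain ⟨q, hq⟩ := hcop.dvd_of_dvd_mul_right h'
    exact ⟨q, by rw [hq, pow_succ]; ring⟩
  · right
    have hcop : IsCoprime ((2 : ℤ) ^ m) a := by
      obtain ⟨k, rfl⟩ := ha
      exact IsCoprime.pow_left ⟨-k, 1, by ring⟩
    obtain ⟨q, hq⟩ := hcop.dvd_of_dvd_mul_left h'
    exact ⟨q, by rw [pow_succ]; linear_combination 2 * hq⟩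

/-! ### Conjugation on a cyclic subgroup -/

theorem conj_zpow_eq {g x : G} {r : ℤ} (h : g * x * g⁻¹ = x ^ r) (k : ℤ) :
    g * x ^ k * g⁻¹ = x ^ (r * k) := by
  rw [zpow_mul, ← h, conj_zpow]

theorem conj_iterate {g x : G} {r : ℤ} (h : g * x * g⁻¹ = x ^ r) (k : ℕ) :
    g ^ k * x * (g ^ k)⁻¹ = x ^ (r ^ k) := by
  induction k with
  | zero => simp
  | succ k ih =>
    calc g ^ (k + 1) * x * (g ^ (k + 1))⁻¹ = g * (g ^ k * x * (g ^ k)⁻¹) * g⁻¹ := by
          rw [pow_succ' g]; simp only [mul_inv_rev, mul_assoc]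
      _ = x ^ (r * r ^ k) := by rw [ih, conj_zpow_eq h]
      _ = x ^ (r ^ (k + 1)) := by rw [pow_succ']

theorem exists_conj_eq_zpow {x : G} (hn : (zpowers x).Normal) (g : G) :
    ∃ r : ℤ, g * x * g⁻¹ = x ^ r := by
  obtain ⟨r, hr⟩ := mem_zpowers_iff.mp (hn.conj_mem x (mem_zpowers x) g)
  exact ⟨r, hr.symm⟩

theorem zpow_eq_iff_dvd (x : G) (a b : ℤ) : x ^ a = x ^ b ↔ (orderOf x : ℤ) ∣ a - b := by
  rw [orderOf_dvd_iff_zpow_eq_one, zpow_sub, mul_inv_eq_one]

theorem dvd_of_pow_mem {g x : G} {r : ℤ} (h : g * x * g⁻¹ = x ^ r) {m : ℕ}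
    (hm : Commute (g ^ m) x) : (orderOf x : ℤ) ∣ r ^ m - 1 := by
  rw [← zpow_eq_iff_dvd, zpow_one, ← conj_iterate h, hm.eq, mul_assoc, mul_inv_cancel, mul_one]

/-! ### Cyclicity of commutative `p`-groups with one subgroup of order `p` -/

section PGroup

variable {p : ℕ} [hp : Fact p.Prime] [Finite G]

theorem isCyclic_of_comm (hG : IsPGroup p G) (hc : ∀ a b : G, a * b = b * a) {z : G}
    (hz : ∀ g : G, g ^ p = 1 → g ∈ zpowers z) (hzo : orderOf z ≤ p) : IsCyclic G := by
  obtain ⟨g, hg⟩ := Finite.exists_max (fun g : G => orderOf g)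
  refine isCyclic_iff_exists_zpowers_eq_top.mpr ⟨g, ?_⟩
  by_contra htop
  haveI : (zpowers g).Normal :=
    ⟨fun n hn a => by rwa [hc a n, mul_assoc, mul_inv_cancel, mul_one]⟩
  obtain ⟨M, -, hle, -, hcard⟩ := exists_normal_succ hG (M := zpowers g) (N := ⊤)
    (lt_top_iff_ne_top.mpr htop)
  obtain ⟨h, hhM, hh⟩ : ∃ h ∈ M, h ∉ zpowers g := by
    refine SetLike.not_le_iff_exists.mp fun hMle => ?_
    have := Subgroup.card_le_of_le hMle
    rw [hcard] at this
    exact absurd this (Nat.not_le.mpr (lt_mul_of_one_lt_right Nat.card_pos hp.out.one_lt))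
  have hhp : h ^ p ∈ zpowers g := by
    have hidx : ((zpowers g).subgroupOf M).index = p := by
      have := relIndex_mul_relIndex ⊥ (zpowers g) M bot_le hle
      rw [relIndex_bot_left, relIndex_bot_left, hcard] at this
      exact Nat.eq_of_mul_eq_mul_left Nat.card_pos this
    have h1 := ((zpowers g).subgroupOf M).pow_index_mem ⟨h, hhM⟩
    rwa [hidx, mem_subgroupOf] at h1
  obtain ⟨k, hk : g ^ k = h ^ p⟩ :=
    (isOfFinOrder_of_finite g).mem_powers_iff_mem_zpowers.mpr hhp
  obtain ⟨a, ha⟩ := IsPGroup.iff_orderOf.mp hG g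
  obtain ⟨b, hb⟩ := IsPGroup.iff_orderOf.mp hG h
  have hg1 : g ≠ 1 := by
    intro hg1
    have := hg h
    simp only [hg1, orderOf_one] at this
    exact hh (orderOf_eq_one_iff.mp (le_antisymm this (orderOf_pos h)) ▸ one_mem _)
  have ha0 : a ≠ 0 := fun h0 => hg1 (orderOf_eq_one_iff.mp (by rw [ha, h0, pow_zero]))
  obtain ⟨c, rfl⟩ := Nat.exists_eq_succ_of_ne_zero ha0
  have hba : b ≤ c + 1 := by
    have := hg h
    simp only [ha, hb] at this
    exact (Nat.pow_le_pow_iff_right hp.out.one_lt).mp this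
  have hpk : p ∣ k := by
    have h1 : g ^ (k * p ^ c) = 1 := by
      rw [pow_mul, hk, ← pow_mul, ← pow_succ', ← orderOf_dvd_iff_pow_eq_one, hb]
      exact Nat.pow_dvd_pow p hba
    rw [← orderOf_dvd_iff_pow_eq_one, ha, Nat.succ_eq_add_one, pow_succ'] at h1
    exact Nat.dvd_of_mul_dvd_mul_right (pow_pos hp.out.pos c) h1
  obtain ⟨l, rfl⟩ := hpk
  have hz' : ∀ w : G, w ^ p = 1 → w ∈ zpowers g := by
    intro w hw
    obtain ⟨u, hu, huo⟩ := exists_orderOf_eq_of_ne_bot (p := p) (hG.to_subgroup (zpowers g))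
      (fun h0 => hg1 (zpowers_eq_bot.mp h0))
    have huz : zpowers u = zpowers z := by
      refine eq_of_le_of_card_ge (zpowers_le.mpr (hz u (huo ▸ pow_orderOf_eq_one u))) ?_
      rw [Nat.card_zpowers, Nat.card_zpowers, huo]
      exact hzo
    exact (zpowers_le.mpr hu : zpowers u ≤ zpowers g) (huz ▸ hz w hw)
  have hfin := mul_mem (hz' (h * (g ^ l)⁻¹) (by
    rw [Commute.mul_pow (hc h (g ^ l)⁻¹), inv_pow, ← pow_mul, mul_comm l p, hk, mul_inv_cancel]))
    (pow_mem (mem_zpowers g) l)
  exact hh (by simpa using hfin)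

theorem isCyclic_subgroup (hG : IsPGroup p G) {H : Subgroup G} (hc : IsMulCommutative H) {z : G}
    (hzH : z ∈ H) (hz : ∀ g ∈ H, g ^ p = 1 → g ∈ zpowers z) (hzo : orderOf z ≤ p) :
    IsCyclic H := by
  refine isCyclic_of_comm (hG.to_subgroup H) (fun a b => hc.is_comm.comm a b) (z := ⟨z, hzH⟩) ?_
    (by rwa [orderOf_mk])
  intro g hg
  obtain ⟨k, hk⟩ := mem_zpowers_iff.mp (hz g g.2 (congrArg Subtype.val hg))
  exact mem_zpowers_iff.mpr ⟨k, Subtype.ext hk⟩

/-- A subgroup with elements of order `p` outside a given cyclic one is not cyclic. -/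
theorem eq_of_card_eq_of_isCyclic {A H K : Subgroup G} (hA : IsCyclic A) (hH : H ≤ A) (hK : K ≤ A)
    (h : Nat.card H = Nat.card K) : H = K := by
  haveI := hA
  have key : ∀ L : Subgroup G, L ≤ A → ∀ a : A, (a : G) ∈ L ↔ a ^ Nat.card L = 1 := by
    intro L hL a
    constructor
    · intro ha
      exact Subtype.ext (congrArg Subtype.val (pow_card_eq_one' (G := L) (x := ⟨a, ha⟩)) :)
    · intro ha
      classical
      haveI := Fintype.ofFinite A
      have hsub : (Finset.univ.filter fun b : A => (b : G) ∈ L) ⊆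
          Finset.univ.filter fun b : A => b ^ Nat.card L = 1 := by
        intro b hb
        simp only [Finset.mem_filter, Finset.mem_univ, true_and] at hb ⊢
        exact Subtype.ext (congrArg Subtype.val (pow_card_eq_one' (G := L) (x := ⟨b, hb⟩)) :)
      have hcard : (Finset.univ.filter fun b : A => (b : G) ∈ L).card = Nat.card L := by
        rw [← Fintype.card_subtype, ← Nat.card_eq_fintype_card]
        exact Nat.card_congr ⟨fun b => ⟨b.1, b.2⟩, fun c => ⟨⟨c, hL c.2⟩, c.2⟩,
          fun _ => rfl, fun _ => rfl⟩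
      have heq := Finset.eq_of_subset_of_card_le hsub
        ((IsCyclic.card_pow_eq_one_le (α := A) Nat.card_pos).trans hcard.ge)
      have : a ∈ Finset.univ.filter fun b : A => b ^ Nat.card L = 1 := by simpa using ha
      rw [← heq] at this
      simpa using this
  ext g
  constructor
  · intro hg
    exact (key K hK ⟨g, hH hg⟩).mpr (h ▸ (key H hH ⟨g, hH hg⟩).mp hg)
  · intro hg
    exact (key H hH ⟨g, hK hg⟩).mpr (h.symm ▸ (key K hK ⟨g, hK hg⟩).mp hg)

/-- A maximal normal abelian subgroup inside a normal subgroup `N` is self-centralizing in `N`. -/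
theorem exists_selfCentralizing (hG : IsPGroup p G) (N : Subgroup G) [N.Normal] :
    ∃ A : Subgroup G, A.Normal ∧ A ≤ N ∧ IsMulCommutative A ∧
      N ⊓ centralizer (A : Set G) = A := by
  obtain ⟨A, hA⟩ := Set.Finite.exists_maximal
    (Set.toFinite {A : Subgroup G | A.Normal ∧ A ≤ N ∧ IsMulCommutative A})
    ⟨⊥, inferInstance, bot_le, inferInstance⟩
  obtain ⟨hAn, hAN, hAc⟩ := hA.prop
  haveI := hAn
  refine ⟨A, hAn, hAN, hAc, le_antisymm ?_ (le_inf hAN (le_centralizer_of_isMulCommutative hAc))⟩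
  by_contra hne
  obtain ⟨M, hMn, hAM, hMle, hMcard⟩ := exists_normal_succ hG (M := A)
    (N := N ⊓ centralizer (A : Set G)) (lt_of_le_not_ge
      (le_inf hAN (le_centralizer_of_isMulCommutative hAc)) hne)
  have hMc : IsMulCommutative M := by
    have hlt : ¬ M ≤ A := fun h => by
      have := Subgroup.card_le_of_le h
      rw [hMcard] at this
      exact absurd this (Nat.not_le.mpr (lt_mul_of_one_lt_right Nat.card_pos hp.out.one_lt))
    obtain ⟨x, hxM, hxA⟩ := SetLike.not_le_iff_exists.mp hlt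
    have hidx : (A.subgroupOf M).index = p := by
      have := relIndex_mul_relIndex ⊥ A M bot_le hAM
      rw [relIndex_bot_left, relIndex_bot_left, hMcard] at this
      exact Nat.eq_of_mul_eq_mul_left Nat.card_pos this
    have hco : IsCoatom (A.subgroupOf M) := isCoatom_of_index_eq hidx
    have hsup : A ⊔ zpowers x = M := by
      refine le_antisymm (sup_le hAM (zpowers_le.mpr hxM)) fun m hm => ?_
      have : (A ⊔ zpowers x).subgroupOf M = ⊤ := by
        refine hco.2 _ (lt_of_le_not_ge (fun y hy => le_sup_left (a := A) hy) fun h => hxA ?_)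
        exact h (show (⟨x, hxM⟩ : M) ∈ (A ⊔ zpowers x).subgroupOf M from
          le_sup_right (a := A) (mem_zpowers x))
      exact (this ▸ mem_top (⟨m, hm⟩ : M) : (⟨m, hm⟩ : M) ∈ (A ⊔ zpowers x).subgroupOf M)
    rw [← hsup, sup_eq_closure]
    refine isMulCommutative_of_le_centralizer ?_
    rw [closure_le, centralizer_closure]
    rintro u (hu | hu) <;> refine mem_centralizer_iff.mpr ?_ <;> rintro v (hv | hv)
    · exact comm_of_isMulCommutative hAc hv hu
    · exact (mem_centralizer_iff.mp ((hMle (zpowers_le.mpr hxM hv)).2) u hu).symm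
    · exact mem_centralizer_iff.mp ((hMle (zpowers_le.mpr hxM hu)).2) v hv
    · exact comm_of_isMulCommutative (isMulCommutative_zpowers x) hv hu
  have := hA.2 ⟨hMn, hMle.trans inf_le_left, hMc⟩ hAM
  exact absurd (Subgroup.card_le_of_le this) (by
    rw [hMcard]; exact Nat.not_le.mpr (lt_mul_of_one_lt_right Nat.card_pos hp.out.one_lt))

/-- Facts about an odd `p`-group generated by a normal cyclic subgroup of index `p` and one element:
the commutators are central of order dividing `p`. -/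
theorem commutator_facts_of_cyclic_index (hG : IsPGroup p G) (hp2 : p ≠ 2) {x : G}
    (hidx : (zpowers x).index = p) :
    commutator G ≤ center G ∧ ∀ a b : G, ⁅a, b⁆ ^ p = 1 := by
  haveI hn := normal_of_index_eq hG hidx
  have hco : IsCoatom (zpowers x) := isCoatom_of_index_eq hidx
  obtain ⟨y, hy⟩ : ∃ y, y ∉ zpowers x := by
    by_contra h
    push Not at h
    exact hco.1 (eq_top_iff.mpr fun g _ => h g)
  obtain ⟨r, hr⟩ := exists_conj_eq_zpow hn y
  have hyp : Commute (y ^ p) x := by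
    obtain ⟨k, hk⟩ := mem_zpowers_iff.mp (hidx ▸ (zpowers x).pow_index_mem y)
    rw [← hk]; exact Commute.zpow_self x k
  obtain ⟨n, hn'⟩ := IsPGroup.iff_orderOf.mp hG x
  have hd := dvd_of_pow_mem hr hyp
  rw [hn'] at hd
  push_cast at hd
  obtain ⟨h1, h2⟩ := int_pow_prime_sub_one hp.out hp2 hd
  have hc_eq : ⁅y, x⁆ = x ^ (r - 1) := by
    rw [commutatorElement_def, hr, zpow_sub_one]
  have hgen : zpowers x ⊔ zpowers y = ⊤ :=
    hco.2 _ (lt_of_le_not_ge le_sup_left fun h => hy (h (le_sup_right (a := zpowers x) (mem_zpowers y))))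
  have hcz : ⁅y, x⁆ ∈ center G := by
    have hle : zpowers x ⊔ zpowers y ≤ centralizer ({⁅y, x⁆} : Set G) := by
      rw [sup_le_iff, zpowers_le, zpowers_le, mem_centralizer_singleton_iff',
        mem_centralizer_singleton_iff', hc_eq]
      refine ⟨(Commute.self_zpow x (r - 1)).eq, ?_⟩
      rw [← mul_inv_eq_iff_eq_mul, conj_zpow_eq hr, zpow_eq_iff_dvd, hn']
      push_cast
      convert h2 using 1; ring
    rw [hgen] at hle
    exact mem_center_iff.mpr fun g => mem_centralizer_singleton_iff'.mp (hle (mem_top g))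
  have hcp : ⁅y, x⁆ ^ p = 1 := by
    rw [hc_eq, ← zpow_natCast, ← zpow_mul, ← orderOf_dvd_iff_zpow_eq_one, hn']
    push_cast
    rwa [mul_comm]
  haveI hCn : (zpowers ⁅y, x⁆).Normal := normal_of_le_center (zpowers_le.mpr hcz)
  have hcomm : commutator G ≤ zpowers ⁅y, x⁆ := by
    refine Subgroup.Normal.quotient_commutative_iff_commutator_le.mp ?_
    have himg : IsMulCommutative ((zpowers x ⊔ zpowers y).map (QuotientGroup.mk' (zpowers ⁅y, x⁆))) := by
      rw [Subgroup.map_sup, MonoidHom.map_zpowers, MonoidHom.map_zpowers, sup_eq_closure]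
      refine isMulCommutative_of_le_centralizer ?_
      have hxy : Commute (QuotientGroup.mk' (zpowers ⁅y, x⁆) y) (QuotientGroup.mk' (zpowers ⁅y, x⁆) x) := by
        rw [Commute, SemiconjBy, ← map_mul, ← map_mul, comm_mul_eq y x, map_mul,
          show QuotientGroup.mk' (zpowers ⁅y, x⁆) ⁅y, x⁆ = 1 from
            (QuotientGroup.eq_one_iff _).mpr (mem_zpowers _), one_mul]
      rw [closure_le, centralizer_closure]
      rintro u (hu | hu) <;> refine mem_centralizer_iff.mpr ?_ <;> rintro v (hv | hv) <;>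
        obtain ⟨i, rfl⟩ := mem_zpowers_iff.mp hu <;> obtain ⟨j, rfl⟩ := mem_zpowers_iff.mp hv
      · exact (Commute.zpow_zpow_self _ j i).eq
      · exact (hxy.zpow_zpow j i).eq
      · exact (hxy.symm.zpow_zpow j i).eq
      · exact (Commute.zpow_zpow_self _ j i).eq
    rw [hgen, Subgroup.map_top_of_surjective _ (QuotientGroup.mk'_surjective _)] at himg
    exact ⟨⟨fun a b => comm_of_isMulCommutative himg (mem_top a) (mem_top b)⟩⟩
  refine ⟨hcomm.trans (zpowers_le.mpr hcz), fun a b => ?_⟩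
  exact (isElementaryAbelian_zpowers hcp).2 _
    (hcomm (commutator_mem_commutator (mem_top a) (mem_top b)))
where
  mem_centralizer_singleton_iff' {g e : G} : g ∈ centralizer ({e} : Set G) ↔ g * e = e * g := by
    rw [mem_centralizer_iff]
    simp only [Set.mem_singleton_iff, forall_eq]
    exact eq_comm

/-- The `p`-th power map on a group of class at most 2 with commutators of exponent `p`, `p` odd. -/
theorem mul_pow_prime_of_class_two (hp2 : p ≠ 2) (hz : commutator G ≤ center G)
    (he : ∀ a b : G, ⁅a, b⁆ ^ p = 1) (a b : G) : (a * b) ^ p = a ^ p * b ^ p := by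
  rw [mul_pow_of_central (hz (commutator_mem_commutator (mem_top b) (mem_top a)))]
  obtain ⟨k, hk⟩ := hp.out.odd_of_ne_two hp2
  have : p ∣ p.choose 2 := hp.out.dvd_choose_self (by norm_num) (by
    have := hp.out.two_le; omega)
  obtain ⟨m, hm⟩ := this
  rw [hm, pow_mul, he, one_pow, mul_one]

/-- In a noncyclic `p`-group, `p` odd, with a cyclic subgroup of index `p`, the elements of order
dividing `p` form an elementary abelian subgroup of order `p ^ 2`. -/
theorem exists_omega_of_cyclic_index (hG : IsPGroup p G) (hp2 : p ≠ 2) (hnc : ¬ IsCyclic G)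
    {A : Subgroup G} (hA : IsCyclic A) (hidx : A.index = p) :
    ∃ E : Subgroup G, (∀ g, g ∈ E ↔ g ^ p = 1) ∧ Nat.card E = p ^ 2 ∧
      IsElementaryAbelian p E := by
  obtain ⟨x, rfl⟩ : ∃ x, zpowers x = A := by
    obtain ⟨g, hg⟩ := hA.exists_generator
    exact ⟨g, le_antisymm (zpowers_le.mpr g.2) fun a ha => by
      obtain ⟨k, hk⟩ := mem_zpowers_iff.mp (hg ⟨a, ha⟩)
      exact mem_zpowers_iff.mpr ⟨k, congrArg Subtype.val hk⟩⟩
  obtain ⟨hz, he⟩ := commutator_facts_of_cyclic_index hG hp2 hidx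
  let φ : G →* G :=
    { toFun := fun g => g ^ p, map_one' := one_pow p,
      map_mul' := mul_pow_prime_of_class_two hp2 hz he }
  have hrange : φ.range = zpowers (x ^ p) := by
    refine le_antisymm ?_ (zpowers_le.mpr ⟨x, rfl⟩)
    rintro _ ⟨g, rfl⟩
    show g ^ p ∈ zpowers (x ^ p)
    haveI := normal_of_index_eq hG hidx
    obtain ⟨k, hk⟩ := mem_zpowers_iff.mp (show g ^ p ∈ zpowers x by
      rw [← hidx]; exact (zpowers x).pow_index_mem g)
    by_cases hpk : (p : ℤ) ∣ k
    · obtain ⟨l, rfl⟩ := hpk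
      rw [← hk, zpow_mul, zpow_natCast]
      exact zpow_mem (mem_zpowers _) l
    · exfalso
      apply hnc
      obtain ⟨n, hn⟩ := IsPGroup.iff_orderOf.mp hG x
      obtain ⟨u, v, huv⟩ := IsCoprime.pow_left (m := n)
        ((Nat.prime_iff_prime_int.mp hp.out).coprime_iff_not_dvd.mpr hpk)
      have hx : x ∈ zpowers g := by
        have : x = (g ^ p) ^ v := by
          have h1 : x ^ ((orderOf x : ℤ) * u + k * v) = x ^ (k * v) := by
            rw [zpow_add, zpow_mul, zpow_natCast, pow_orderOf_eq_one, one_zpow, one_mul]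
          rw [← hk, ← zpow_mul, ← h1, hn]
          push_cast
          rw [mul_comm ((p : ℤ) ^ n), mul_comm k, huv, zpow_one]
        rw [this]; exact zpow_mem (pow_mem (mem_zpowers g) p) v
      refine isCyclic_iff_exists_zpowers_eq_top.mpr ⟨g, ?_⟩
      by_contra hne
      have heq : zpowers g = zpowers x := by
        by_contra h
        exact hne ((isCoatom_of_index_eq hidx).2 _
          (lt_of_le_of_ne (zpowers_le.mpr hx) (Ne.symm h)))
      -- then `g` lies in `⟨x⟩`, so `g ^ p` is a power of `x ^ p`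
      obtain ⟨j, hj⟩ := mem_zpowers_iff.mp (heq ▸ mem_zpowers g : g ∈ zpowers x)
      rw [← hj, ← zpow_natCast, ← zpow_mul, zpow_eq_iff_dvd, hn] at hk
      rcases Nat.eq_zero_or_pos n with h0 | h0
      · have hx1 : x = 1 := orderOf_eq_one_iff.mp (by rw [hn, h0, pow_zero])
        rw [hx1, zpowers_one_eq_bot, index_bot] at hidx
        exact hne (eq_top_of_card_eq _ (by
          rcases (Nat.dvd_prime hp.out).mp (hidx ▸ card_subgroup_dvd_card (zpowers g)) with h | h
          · exfalso
            rw [heq, hx1, zpowers_one_eq_bot] at h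
            exact hnc (isCyclic_of_prime_card hidx)
          · rw [h, hidx]))
      · push_cast at hk
        refine hpk ((dvd_sub_right (dvd_mul_left (p : ℤ) j)).mp ?_)
        have := (dvd_pow_self (p : ℤ) h0.ne').trans hk
        rwa [dvd_sub_comm]
  refine ⟨φ.ker, fun g => Iff.rfl, ?_, ?_⟩
  · have h1 := Subgroup.card_mul_index φ.ker
    rw [index_ker, hrange, Nat.card_zpowers, ← Subgroup.card_mul_index (zpowers x), hidx,
      Nat.card_zpowers] at h1
    obtain ⟨n, hn⟩ := IsPGroup.iff_orderOf.mp hG x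
    rcases Nat.eq_zero_or_pos n with h0 | h0
    · exfalso
      have hx1 : x = 1 := orderOf_eq_one_iff.mp (by rw [hn, h0, pow_zero])
      rw [hx1, zpowers_one_eq_bot, index_bot] at hidx
      exact hnc (isCyclic_of_prime_card hidx)
    · rw [orderOf_pow_of_dvd hp.out.ne_zero (by rw [hn]; exact dvd_pow_self p h0.ne'), hn] at h1
      rw [show p ^ n / p = p ^ (n - 1) from by
        conv_lhs => rw [show n = n - 1 + 1 by omega, pow_succ]
        exact Nat.mul_div_cancel _ hp.out.pos] at h1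
      refine Nat.eq_of_mul_eq_mul_right (pow_pos hp.out.pos (n - 1)) (h1.trans ?_)
      rw [← pow_succ, ← pow_add]
      congr 1; omega
  · refine ⟨?_, fun a ha => ha⟩
    have hcard : Nat.card φ.ker ≤ p ^ 2 := by
      have h1 := Subgroup.card_mul_index φ.ker
      rw [index_ker, hrange, Nat.card_zpowers, ← Subgroup.card_mul_index (zpowers x), hidx,
        Nat.card_zpowers] at h1
      by_cases hxp : p ∣ orderOf x
      · rw [orderOf_pow_of_dvd hp.out.ne_zero hxp] at h1
        obtain ⟨q, hq⟩ := hxp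
        rw [hq, Nat.mul_div_cancel_left _ hp.out.pos] at h1
        have hq0 : 0 < q := Nat.pos_of_ne_zero fun h0 => (orderOf_pos x).ne' (by rw [hq, h0, mul_zero])
        exact le_of_eq (Nat.eq_of_mul_eq_mul_right hq0 (h1.trans (by ring)))
      · obtain ⟨n, hn⟩ := IsPGroup.iff_orderOf.mp hG x
        have h0 : n = 0 := by
          by_contra h0; exact hxp (hn ▸ dvd_pow_self p h0)
        rw [hn, h0, pow_zero, one_mul] at h1
        calc Nat.card φ.ker ≤ p := Nat.le_of_dvd hp.out.pos ⟨_, h1.symm⟩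
          _ ≤ p ^ 2 := Nat.le_self_pow two_ne_zero p
    exact isMulCommutative_of_card_le_sq (hG.to_subgroup _) hcard

/-- A noncyclic normal subgroup of a `p`-group, `p` odd, contains a normal elementary abelian
subgroup of order `p ^ 2`. -/
theorem exists_normal_elementary_sq_le (hG : IsPGroup p G) (hp2 : p ≠ 2) (N : Subgroup G) [N.Normal]
    (hN : ¬ IsCyclic N) :
    ∃ E : Subgroup G, E.Normal ∧ E ≤ N ∧ Nat.card E = p ^ 2 ∧ IsElementaryAbelian p E := by
  obtain ⟨A, hAn, hAN, hAc, hAcent⟩ := exists_selfCentralizing hG N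
  haveI := hAn
  by_cases hcyc : IsCyclic A
  · have hlt : A < N := lt_of_le_of_ne hAN fun h => hN (h ▸ hcyc)
    obtain ⟨M, hMn, hAM, hMN, hMcard⟩ := exists_normal_succ hG hlt
    haveI := hMn
    have hMnc : ¬ IsCyclic M := by
      intro hMc
      have hle : M ≤ N ⊓ centralizer (A : Set G) := le_inf hMN fun m hm =>
        mem_centralizer_iff.mpr fun a ha =>
          congrArg Subtype.val (IsCyclic.commGroup.mul_comm (⟨a, hAM ha⟩ : M) ⟨m, hm⟩)
      rw [hAcent] at hle
      have := Subgroup.card_le_of_le hle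
      rw [hMcard] at this
      exact absurd this (Nat.not_le.mpr (lt_mul_of_one_lt_right Nat.card_pos hp.out.one_lt))
    haveI : IsCyclic (A.subgroupOf M) :=
      isCyclic_of_surjective _ (subgroupOfEquivOfLe hAM).symm.surjective
    have hidx : (A.subgroupOf M).index = p := by
      have := relIndex_mul_relIndex ⊥ A M bot_le hAM
      rw [relIndex_bot_left, relIndex_bot_left, hMcard] at this
      exact Nat.eq_of_mul_eq_mul_left Nat.card_pos this
    obtain ⟨E, hEmem, hEcard, hEel⟩ :=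
      exists_omega_of_cyclic_index (hG.to_subgroup M) hp2 hMnc ‹_› hidx
    refine ⟨E.map M.subtype, ⟨?_⟩, (map_subtype_le E).trans hMN, ?_, ?_⟩
    · rintro _ ⟨e, he, rfl⟩ g
      refine ⟨⟨g * e * g⁻¹, hMn.conj_mem _ e.2 g⟩, (hEmem _).mpr (Subtype.ext ?_), rfl⟩
      have := congrArg Subtype.val ((hEmem e).mp he)
      simp only [SubgroupClass.coe_pow, OneMemClass.coe_one] at this ⊢
      rw [conj_pow, this, mul_one, mul_inv_cancel]
    · rw [card_map_of_injective M.subtype_injective, hEcard]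
    · exact isElementaryAbelian_map_hom hEel _
  · let O : Subgroup G :=
      { carrier := {g | g ∈ A ∧ g ^ p = 1}
        one_mem' := ⟨one_mem _, one_pow _⟩
        mul_mem' := fun {a b} ha hb => ⟨mul_mem ha.1 hb.1, by
          rw [Commute.mul_pow (comm_of_isMulCommutative hAc ha.1 hb.1), ha.2, hb.2, one_mul]⟩
        inv_mem' := fun {a} ha => ⟨inv_mem ha.1, by rw [inv_pow, ha.2, inv_one]⟩ }
    haveI hOn : O.Normal := ⟨fun a ha g => ⟨hAn.conj_mem a ha.1 g, by
      rw [conj_pow, ha.2, mul_one, mul_inv_cancel]⟩⟩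
    have hO : IsElementaryAbelian p O := ⟨isMulCommutative_mono hAc fun _ h => h.1, fun a ha => ha.2⟩
    have hcard : p ^ 2 ≤ Nat.card O := by
      by_contra hlt
      obtain ⟨k, hk⟩ := IsPGroup.iff_card.mp (hG.to_subgroup O)
      rw [hk, not_le, Nat.pow_lt_pow_iff_right hp.out.one_lt] at hlt
      have hOc : IsCyclic O := by
        interval_cases k
        · haveI : Subsingleton O := (Nat.card_eq_one_iff_unique.mp (by simpa using hk)).1
          exact isCyclic_of_subsingleton
        · exact isCyclic_of_prime_card (p := p) (by simpa using hk)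
      obtain ⟨z, hz⟩ := hOc.exists_generator
      refine hcyc (isCyclic_subgroup hG hAc z.2.1 (fun g hg hgp => ?_)
        (Nat.le_of_dvd hp.out.pos (orderOf_dvd_of_pow_eq_one z.2.2)))
      obtain ⟨j, hj⟩ := mem_zpowers_iff.mp (hz ⟨g, hg, hgp⟩)
      exact mem_zpowers_iff.mpr ⟨j, congrArg Subtype.val hj⟩
    obtain ⟨E, hEn, hEle, hEcard⟩ := exists_normal_card_pow hG O 2 hcard
    exact ⟨E, hEn, fun _ h => hAN (hEle h).1, hEcard,
      isElementaryAbelian_mono hO hEle⟩

theorem exists_normal_elementary_sq (hG : IsPGroup p G) (hp2 : p ≠ 2) (hnc : ¬ IsCyclic G) :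
    ∃ E : Subgroup G, E.Normal ∧ Nat.card E = p ^ 2 ∧ IsElementaryAbelian p E := by
  obtain ⟨E, h1, -, h2, h3⟩ := exists_normal_elementary_sq_le hG hp2 ⊤ fun h =>
    hnc (isCyclic_of_surjective (Subgroup.topEquiv (G := G)) Subgroup.topEquiv.surjective)
  exact ⟨E, h1, h2, h3⟩

end PGroup

/-! ### Recognition of quaternion and dihedral groups -/

section Recognition

variable {N : ℕ} [Finite G]

/-- `i ↦ x ^ i` on `ZMod (orderOf x)`. -/
noncomputable def zpowHom (x : G) (m : ℕ) (hm : x ^ m = 1) : ZMod m →+ Additive G :=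
  ZMod.lift m ⟨zmultiplesHom (Additive G) (Additive.ofMul x), by
    simp only [zmultiplesHom_apply, natCast_zsmul, ← ofMul_pow, hm, ofMul_one]⟩

theorem zpowHom_intCast (x : G) (m : ℕ) (hm : x ^ m = 1) (k : ℤ) :
    (zpowHom x m hm (k : ZMod m)).toMul = x ^ k := by
  simp [zpowHom]

theorem conj_zpowHom {x y : G} (h : y * x * y⁻¹ = x⁻¹) (m : ℕ) (hm : x ^ m = 1) (i : ZMod m) :
    (zpowHom x m hm i).toMul * y = y * (zpowHom x m hm (-i)).toMul := by
  obtain ⟨k, rfl⟩ := ZMod.intCast_surjective i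
  rw [← Int.cast_neg, zpowHom_intCast, zpowHom_intCast]
  have := conj_zpow_eq (g := y) (r := -1) (by rw [zpow_neg_one, h]) (-k)
  rw [mul_inv_eq_iff_eq_mul, show (-1 : ℤ) * -k = k by ring] at this
  exact this.symm

/-- Recognition of the generalized quaternion group. -/
theorem nonempty_mulEquiv_quaternion [NeZero N] {x y : G} (hx : orderOf x = 2 * N)
    (hy : y ∉ zpowers x) (hxy : y * x * y⁻¹ = x⁻¹) (hy2 : y ^ 2 = x ^ N)
    (hcard : Nat.card G = 4 * N) : Nonempty (G ≃* QuaternionGroup N) := by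
  have hm : x ^ (2 * N) = 1 := hx ▸ pow_orderOf_eq_one x
  let e : ZMod (2 * N) → G := fun i => (zpowHom x (2 * N) hm i).toMul
  have eadd : ∀ i j, e (i + j) = e i * e j := fun i j => by simp [e, map_add]
  have ecomm : ∀ i, e i * y = y * e (-i) := conj_zpowHom hxy (2 * N) hm
  have eN : e (N : ZMod (2 * N)) = y ^ 2 := by
    have := zpowHom_intCast x (2 * N) hm (N : ℤ)
    push_cast at this
    rw [hy2, show e (N : ZMod (2 * N)) = _ from this, zpow_natCast]
  have einj : Function.Injective e := by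
    intro i j hij
    obtain ⟨k, rfl⟩ := ZMod.intCast_surjective i
    obtain ⟨l, rfl⟩ := ZMod.intCast_surjective j
    simp only [e, zpowHom_intCast, zpow_eq_iff_dvd, hx] at hij
    exact ((ZMod.intCast_eq_intCast_iff_dvd_sub l k (2 * N)).mpr hij).symm
  have hin : ∀ i, e i ∈ zpowers x := fun i => by
    obtain ⟨k, rfl⟩ := ZMod.intCast_surjective i
    simp only [e, zpowHom_intCast]
    exact zpow_mem (mem_zpowers x) k
  let f : QuaternionGroup N → G
    | QuaternionGroup.a i => e i
    | QuaternionGroup.xa i => y * e i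
  have fmul : ∀ u v, f (u * v) = f u * f v := by
    rintro (i | i) (j | j)
    · exact eadd i j
    · show y * e (j - i) = e i * (y * e j)
      rw [← mul_assoc, ecomm, mul_assoc, ← eadd, neg_add_eq_sub]
    · show y * e (i + j) = y * e i * e j
      rw [eadd, mul_assoc]
    · show e ((N : ZMod (2 * N)) + j - i) = y * e i * (y * e j)
      rw [add_sub_assoc, eadd, eN, pow_two, mul_assoc y (e i), ← mul_assoc (e i) y, ecomm,
        mul_assoc y (e (-i)), ← eadd, neg_add_eq_sub, mul_assoc]
  have finj : Function.Injective f := by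
    rintro (i | i) (j | j) h
    · exact congrArg _ (einj h)
    · exfalso
      have : y = e i * (e j)⁻¹ := eq_mul_inv_of_mul_eq (h.symm : y * e j = e i)
      exact hy (this ▸ mul_mem (hin i) (inv_mem (hin j)))
    · exfalso
      have : y = e j * (e i)⁻¹ := eq_mul_inv_of_mul_eq (h : y * e i = e j)
      exact hy (this ▸ mul_mem (hin j) (inv_mem (hin i)))
    · exact congrArg _ (einj (mul_left_cancel h))
  have fbij : Function.Bijective f :=
    (Nat.bijective_iff_injective_and_card f).mpr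
      ⟨finj, by rw [hcard, Nat.card_eq_fintype_card, QuaternionGroup.card]⟩
  exact ⟨(MulEquiv.ofBijective (MonoidHom.mk' f fmul) fbij).symm⟩

/-- Recognition of the dihedral group. -/
theorem nonempty_mulEquiv_dihedral [NeZero N] {x y : G} (hx : orderOf x = N)
    (hy : y ∉ zpowers x) (hxy : y * x * y⁻¹ = x⁻¹) (hy2 : y ^ 2 = 1)
    (hcard : Nat.card G = 2 * N) : Nonempty (G ≃* DihedralGroup N) := by
  have hm : x ^ N = 1 := hx ▸ pow_orderOf_eq_one x
  let e : ZMod N → G := fun i => (zpowHom x N hm i).toMul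
  have eadd : ∀ i j, e (i + j) = e i * e j := fun i j => by simp [e, map_add]
  have ecomm : ∀ i, e i * y = y * e (-i) := conj_zpowHom hxy N hm
  have einj : Function.Injective e := by
    intro i j hij
    obtain ⟨k, rfl⟩ := ZMod.intCast_surjective i
    obtain ⟨l, rfl⟩ := ZMod.intCast_surjective j
    simp only [e, zpowHom_intCast, zpow_eq_iff_dvd, hx] at hij
    exact ((ZMod.intCast_eq_intCast_iff_dvd_sub l k N).mpr hij).symm
  have hin : ∀ i, e i ∈ zpowers x := fun i => by
    obtain ⟨k, rfl⟩ := ZMod.intCast_surjective i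
    simp only [e, zpowHom_intCast]
    exact zpow_mem (mem_zpowers x) k
  let f : DihedralGroup N → G
    | DihedralGroup.r i => e i
    | DihedralGroup.sr i => y * e i
  have fmul : ∀ u v, f (u * v) = f u * f v := by
    rintro (i | i) (j | j)
    · exact eadd i j
    · show y * e (j - i) = e i * (y * e j)
      rw [← mul_assoc, ecomm, mul_assoc, ← eadd, neg_add_eq_sub]
    · show y * e (i + j) = y * e i * e j
      rw [eadd, mul_assoc]
    · show e (j - i) = y * e i * (y * e j)
      rw [mul_assoc y (e i), ← mul_assoc (e i) y, ecomm, mul_assoc y (e (-i)), ← eadd,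
        neg_add_eq_sub, ← mul_assoc, ← pow_two, hy2, one_mul]
  have finj : Function.Injective f := by
    rintro (i | i) (j | j) h
    · exact congrArg _ (einj h)
    · exfalso
      have : y = e i * (e j)⁻¹ := eq_mul_inv_of_mul_eq (h.symm : y * e j = e i)
      exact hy (this ▸ mul_mem (hin i) (inv_mem (hin j)))
    · exfalso
      have : y = e j * (e i)⁻¹ := eq_mul_inv_of_mul_eq (h : y * e i = e j)
      exact hy (this ▸ mul_mem (hin j) (inv_mem (hin i)))
    · exact congrArg _ (einj (mul_left_cancel h))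
  have fbij : Function.Bijective f :=
    (Nat.bijective_iff_injective_and_card f).mpr
      ⟨finj, by rw [hcard, DihedralGroup.nat_card]⟩
  exact ⟨(MulEquiv.ofBijective (MonoidHom.mk' f fmul) fbij).symm⟩

end Recognition

/-! ### A unique subgroup of order `p` -/

section Unique

variable {p : ℕ} [hp : Fact p.Prime] [Finite G]

theorem sq_eq_one_or_eq {x w : G} {n : ℕ} (hx : orderOf x = 2 ^ (n + 1)) (hw : w ∈ zpowers x)
    (h : w ^ 2 = 1) : w = 1 ∨ w = x ^ (2 ^ n) := by
  obtain ⟨k, rfl⟩ := mem_zpowers_iff.mp hw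
  rw [← zpow_natCast, ← zpow_mul, ← orderOf_dvd_iff_zpow_eq_one, hx] at h
  push_cast at h
  rw [pow_succ] at h
  obtain ⟨t, rfl⟩ := (mul_dvd_mul_iff_right (two_ne_zero (α := ℤ))).mp h
  rcases Int.even_or_odd t with ⟨s, rfl⟩ | ⟨s, rfl⟩
  · left
    rw [← orderOf_dvd_iff_zpow_eq_one, hx]
    exact ⟨s, by push_cast; ring⟩
  · right
    rw [← zpow_natCast x (2 ^ n), zpow_eq_iff_dvd, hx]
    exact ⟨s, by push_cast; ring⟩

/-- Key step for `p = 2`: outside a self-centralizing cyclic normal subgroup, in a group with only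
one involution, an element whose square lies in that subgroup inverts it and squares to its
involution. -/
theorem inverts_of_unique_involution {x g : G} {n : ℕ} (hx : orderOf x = 2 ^ (n + 1))
    (hn : (zpowers x).Normal) (hcent : centralizer (zpowers x : Set G) = zpowers x)
    (hu : ∀ w : G, w ^ 2 = 1 → w ∈ zpowers x) (hg : g ∉ zpowers x) (hg2 : g ^ 2 ∈ zpowers x) :
    g * x * g⁻¹ = x⁻¹ ∧ g ^ 2 = x ^ (2 ^ n) := by
  obtain ⟨r, hr⟩ := exists_conj_eq_zpow hn g
  obtain ⟨m, hm⟩ := mem_zpowers_iff.mp hg2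
  have hcomm : Commute (g ^ 2) x := hm ▸ Commute.zpow_self x m
  have hd := dvd_of_pow_mem hr hcomm
  rw [hx] at hd
  push_cast at hd
  have hnotin : ∀ i : ℤ, g * x ^ i ∉ zpowers x := fun i h => hg (by
    have := mul_mem h (zpow_mem (mem_zpowers x) (-i))
    rwa [mul_assoc, ← zpow_add, add_neg_cancel, zpow_zero, mul_one] at this)
  have hsq : ∀ i : ℤ, (g * x ^ i) ^ 2 = x ^ (r * i + (m + i)) := by
    intro i
    calc (g * x ^ i) ^ 2 = (g * x ^ i * g⁻¹) * (g ^ 2 * x ^ i) := by simp [pow_two, mul_assoc]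
      _ = _ := by rw [conj_zpow_eq hr, ← hm, ← zpow_add, ← zpow_add]
  have hbad : ∀ i : ℤ, ¬ ((2 : ℤ) ^ (n + 1) ∣ r * i + (m + i)) := fun i hi =>
    hnotin i (hu _ (by
      rw [hsq, ← orderOf_dvd_iff_zpow_eq_one, hx]; exact_mod_cast hi))
  have hne : ¬ ((2 : ℤ) ^ (n + 1) ∣ r - 1) := by
    intro h1
    refine hg (hcent ▸ mem_centralizer_iff.mpr fun a ha => ?_)
    obtain ⟨k, rfl⟩ := mem_zpowers_iff.mp ha
    have : g * x ^ k * g⁻¹ = x ^ k := by
      rw [conj_zpow_eq hr, zpow_eq_iff_dvd, hx]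
      push_cast
      rw [show r * k - k = (r - 1) * k by ring]
      exact h1.mul_right k
    exact (mul_inv_eq_iff_eq_mul.mp this).symm
  have hfix : (2 : ℤ) ^ (n + 1) ∣ (r - 1) * m := by
    have h1 : g * x ^ m * g⁻¹ = x ^ m := by
      rw [hm, mul_inv_eq_iff_eq_mul, ← pow_succ, ← pow_succ']
    rw [conj_zpow_eq hr, zpow_eq_iff_dvd, hx] at h1
    push_cast at h1
    convert h1 using 1; ring
  by_cases hrinv : (2 : ℤ) ^ (n + 1) ∣ r + 1
  · have hgx : g * x * g⁻¹ = x⁻¹ := by
      rw [hr, ← zpow_neg_one, zpow_eq_iff_dvd, hx]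
      push_cast
      rwa [sub_neg_eq_add]
    refine ⟨hgx, ?_⟩
    rcases sq_eq_one_or_eq hx hg2 (by
        rw [← hm, pow_two, ← zpow_add, ← orderOf_dvd_iff_zpow_eq_one, hx]
        push_cast
        obtain ⟨q, hq⟩ := hfix
        obtain ⟨q', hq'⟩ := hrinv
        exact ⟨q' * m - q, by linear_combination m * hq' - hq⟩) with h | h
    · exact absurd (hu g h) hg
    · exact h
  exfalso
  rcases int_sq_sub_one hd with ⟨a, ha⟩ | ⟨a, ha⟩
  · have haodd : Odd a := by
      rcases Int.even_or_odd a with ⟨b, hb⟩ | h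
      · exact absurd ⟨b, by rw [ha, hb, pow_succ]; ring⟩ hne
      · exact h
    obtain ⟨b, rfl⟩ := haodd
    match n, ha with
    | 0, ha =>
      obtain ⟨q, hq⟩ := hd
      have h1 : r = 2 * b + 2 := by linear_combination ha
      rw [h1] at hq
      have : (1 : ℤ) = 2 * (2 * (b + 1) * (b + 1) - q) := by linear_combination -hq
      omega
    | 1, ha => exact hrinv ⟨b + 1, by linear_combination ha⟩
    | k + 2, ha =>
      obtain ⟨t, rfl⟩ : Even m := by
        by_contra hmo
        rw [Int.not_even_iff_odd] at hmo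
        obtain ⟨q, hq⟩ := hfix
        have h2 : (2 * b + 1) * m = 2 * q := by
          refine mul_left_cancel₀ (pow_ne_zero (k + 2) (two_ne_zero (α := ℤ))) ?_
          linear_combination hq - m * ha
        have := (odd_two_mul_add_one b).mul hmo
        rw [h2] at this
        exact Int.not_odd_iff_even.mpr (even_two_mul q) this
      obtain ⟨u, v, huv⟩ : IsCoprime ((2 : ℤ) ^ (k + 3)) (1 + 2 ^ (k + 1) * (2 * b + 1)) :=
        IsCoprime.pow_left ⟨-(2 ^ k * (2 * b + 1)), 1, by ring⟩
      refine hbad (-(t * v)) ⟨2 * t * u, ?_⟩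
      have hr' : r = 1 + 2 ^ (k + 2) * (2 * b + 1) := by linear_combination ha
      rw [hr']
      linear_combination (-(2 * t)) * huv
  · have haodd : Odd a := by
      rcases Int.even_or_odd a with ⟨b, hb⟩ | h
      · exact absurd ⟨b, by rw [ha, hb, pow_succ]; ring⟩ hrinv
      · exact h
    obtain ⟨b, rfl⟩ := haodd
    match n, ha with
    | 0, ha =>
      obtain ⟨q, hq⟩ := hd
      have h1 : r = 2 * b := by linear_combination ha
      rw [h1] at hq
      have : (1 : ℤ) = 2 * (2 * b * b - q) := by linear_combination -hq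
      omega
    | 1, ha => exact hne ⟨b, by linear_combination ha⟩
    | k + 2, ha =>
      have hcop : IsCoprime ((2 : ℤ) ^ (k + 2)) (2 ^ (k + 1) * (2 * b + 1) - 1) :=
        IsCoprime.pow_left ⟨2 ^ k * (2 * b + 1), -1, by ring⟩
      obtain ⟨q, hq⟩ := hfix
      obtain ⟨c, hc⟩ : (2 : ℤ) ^ (k + 2) ∣ m := by
        refine hcop.dvd_of_dvd_mul_left ⟨q, ?_⟩
        refine mul_left_cancel₀ (two_ne_zero (α := ℤ)) ?_
        linear_combination hq - m * ha
      rcases Int.even_or_odd c with ⟨d, hd'⟩ | ⟨d, hd'⟩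
      · exact hbad 0 ⟨d, by rw [hc, hd', pow_succ]; ring⟩
      · exact hbad 1 ⟨b + d + 1, by
          rw [hc, hd', pow_succ]
          linear_combination ha⟩

theorem isCyclic_or_quaternion (hG : IsPGroup p G)
    (huniq : ∀ H K : Subgroup G, Nat.card H = p → Nat.card K = p → H = K) :
    IsCyclic G ∨ (p = 2 ∧ ∃ n : ℕ, Nonempty (G ≃* QuaternionGroup (2 ^ n))) := by
  by_cases hcyc : IsCyclic G
  · exact Or.inl hcyc
  have hmem : ∀ {g h : G}, g ^ p = 1 → orderOf h = p → g ∈ zpowers h := by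
    intro g h hg hh
    by_cases h1 : g = 1
    · exact h1 ▸ one_mem _
    · rw [← huniq (zpowers g) (zpowers h)
        (by rw [Nat.card_zpowers, orderOf_eq_of_pow_eq_one hg h1]) (by rw [Nat.card_zpowers, hh])]
      exact mem_zpowers g
  by_cases hp2 : p = 2
  · subst hp2
    refine Or.inr ⟨rfl, ?_⟩
    obtain ⟨A, hAn, -, hAc, hAcent⟩ := exists_selfCentralizing hG ⊤
    haveI := hAn
    rw [top_inf_eq] at hAcent
    have hAne : A ≠ ⊥ := by
      rintro rfl
      exact hcyc (by
        haveI : Subsingleton G := by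
          refine subsingleton_iff.mpr fun a b => ?_
          have : ∀ c : G, c = 1 := fun c => by
            have hc : c ∈ centralizer ((⊥ : Subgroup G) : Set G) :=
              mem_centralizer_iff.mpr fun d hd => by rw [mem_bot.mp hd, one_mul, mul_one]
            rwa [hAcent, mem_bot] at hc
          rw [this a, this b]
        exact isCyclic_of_subsingleton)
    obtain ⟨z, hzA, hzo⟩ := exists_orderOf_eq_of_ne_bot (hG.to_subgroup A) hAne
    have hAcyc := isCyclic_subgroup hG hAc hzA (fun g _ hg => hmem hg hzo) hzo.le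
    obtain ⟨x, rfl⟩ : ∃ x, zpowers x = A := by
      obtain ⟨g, hg⟩ := hAcyc.exists_generator
      exact ⟨g, le_antisymm (zpowers_le.mpr g.2) fun a ha => by
        obtain ⟨k, hk⟩ := mem_zpowers_iff.mp (hg ⟨a, ha⟩)
        exact mem_zpowers_iff.mpr ⟨k, congrArg Subtype.val hk⟩⟩
    obtain ⟨e, he⟩ := IsPGroup.iff_orderOf.mp hG x
    obtain ⟨n, rfl⟩ : ∃ n, e = n + 1 := by
      refine Nat.exists_eq_add_of_le' (Nat.one_le_iff_ne_zero.mpr fun h0 => hAne ?_)
      rw [h0, pow_zero, orderOf_eq_one_iff] at he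
      rw [he, zpowers_one_eq_bot]
    have hu : ∀ w : G, w ^ 2 = 1 → w ∈ zpowers x := fun w hw =>
      (zpowers_le.mpr hzA : zpowers z ≤ _) (hmem hw hzo)
    have key := fun g => inverts_of_unique_involution (g := g) he hAn hAcent hu
    have hn1 : n ≠ 0 := by
      rintro rfl
      have hxc : zpowers x ≤ center G :=
        le_center_of_card_eq_prime hG (by rw [Nat.card_zpowers, he, pow_one])
      apply hcyc
      refine isCyclic_iff_exists_zpowers_eq_top.mpr ⟨x, ?_⟩
      rw [← hAcent, centralizer_eq_top_iff_subset]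
      exact hxc
    have hlt : zpowers x < (⊤ : Subgroup G) := lt_top_iff_ne_top.mpr fun h =>
      hcyc (isCyclic_iff_exists_zpowers_eq_top.mpr ⟨x, h⟩)
    obtain ⟨M, hMn, hAM, -, hMcard⟩ := exists_normal_succ hG hlt
    obtain ⟨g, hgM, hg⟩ : ∃ g ∈ M, g ∉ zpowers x := by
      refine SetLike.not_le_iff_exists.mp fun hMle => ?_
      have := Subgroup.card_le_of_le hMle
      rw [hMcard] at this
      exact absurd this (Nat.not_le.mpr (lt_mul_of_one_lt_right Nat.card_pos one_lt_two))
    have hidx : ((zpowers x).subgroupOf M).index = 2 := by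
      have := relIndex_mul_relIndex ⊥ (zpowers x) M bot_le hAM
      rw [relIndex_bot_left, relIndex_bot_left, hMcard] at this
      exact Nat.eq_of_mul_eq_mul_left Nat.card_pos this
    have hg2 : g ^ 2 ∈ zpowers x := by
      have h1 := ((zpowers x).subgroupOf M).pow_index_mem ⟨g, hgM⟩
      rwa [hidx, mem_subgroupOf] at h1
    obtain ⟨hgx, hgsq⟩ := key g hg hg2
    have hMtop : M = ⊤ := by
      by_contra hne
      haveI := hMn
      obtain ⟨L, hLn, hML, -, hLcard⟩ := exists_normal_succ hG (M := M) (N := ⊤)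
        (lt_top_iff_ne_top.mpr hne)
      obtain ⟨h, hhL, hh⟩ : ∃ h ∈ L, h ∉ M := by
        refine SetLike.not_le_iff_exists.mp fun hle => ?_
        have := Subgroup.card_le_of_le hle
        rw [hLcard] at this
        exact absurd this (Nat.not_le.mpr (lt_mul_of_one_lt_right Nat.card_pos one_lt_two))
      have hh2 : h ^ 2 ∈ M := by
        have hidxL : (M.subgroupOf L).index = 2 := by
          have := relIndex_mul_relIndex ⊥ M L bot_le hML
          rw [relIndex_bot_left, relIndex_bot_left, hLcard] at this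
          exact Nat.eq_of_mul_eq_mul_left Nat.card_pos this
        have h1 := (M.subgroupOf L).pow_index_mem ⟨h, hhL⟩
        rwa [hidxL, mem_subgroupOf] at h1
      have hhA : h ∉ zpowers x := fun hm => hh (hAM hm)
      obtain ⟨r, hr⟩ := exists_conj_eq_zpow hAn h
      have hr2 := conj_iterate hr 2
      by_cases hh2A : h ^ 2 ∈ zpowers x
      · -- then `h` inverts `x`, hence `h⁻¹ g` centralizes `x`
        obtain ⟨hhx, -⟩ := key h hhA hh2A
        have : h⁻¹ * g ∈ centralizer (zpowers x : Set G) := by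
          refine mem_centralizer_iff.mpr fun a ha => ?_
          obtain ⟨k, rfl⟩ := mem_zpowers_iff.mp ha
          have e1 := conj_zpow_eq (g := g) (r := -1) (by rw [zpow_neg_one, hgx]) k
          have e2 := conj_zpow_eq (g := h) (r := -1) (by rw [zpow_neg_one, hhx]) k
          rw [← e2] at e1
          have e3 : h⁻¹ * (g * x ^ k * g⁻¹) * h = x ^ k := by rw [e1]; group
          calc x ^ k * (h⁻¹ * g) = h⁻¹ * (g * x ^ k * g⁻¹) * h * (h⁻¹ * g) := by rw [e3]
            _ = h⁻¹ * g * x ^ k := by group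
        rw [hAcent] at this
        exact hh (by simpa using mul_mem hgM (inv_mem (hAM this)))
      · -- then `h ^ 2` inverts `x`, so `r ^ 2 ≡ -1`
        obtain ⟨hx2, -⟩ := key (h ^ 2) hh2A (by
          have h1 := ((zpowers x).subgroupOf M).pow_index_mem ⟨h ^ 2, hh2⟩
          rwa [hidx, mem_subgroupOf] at h1)
        rw [hx2, ← zpow_neg_one, zpow_eq_iff_dvd, he] at hr2
        push_cast at hr2
        obtain ⟨k, rfl⟩ := Nat.exists_eq_succ_of_ne_zero hn1
        have h4 : (4 : ℤ) ∣ -1 - r ^ 2 := dvd_trans ⟨2 ^ k, by rw [pow_succ, pow_succ]; ring⟩ hr2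
        obtain ⟨q, hq⟩ := h4
        rcases Int.even_or_odd r with ⟨s, hs⟩ | ⟨s, hs⟩
        · have : (1 : ℤ) = 4 * (-(s * s) - q) := by rw [hs] at hq; linear_combination -hq
          omega
        · have : (2 : ℤ) = 4 * (-(s * s) - s - q) := by rw [hs] at hq; linear_combination -hq
          omega
    refine ⟨n, nonempty_mulEquiv_quaternion (by rw [he, pow_succ']) hg hgx hgsq ?_⟩
    rw [← card_top (G := G), ← hMtop, hMcard, Nat.card_zpowers, he, pow_succ]
    ring
  · exfalso
    obtain ⟨E, -, hcard, hel⟩ := exists_normal_elementary_sq hG hp2 hcyc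
    obtain ⟨h, hh, hho⟩ := exists_orderOf_eq_of_ne_bot (p := p) (hG.to_subgroup E) (fun h0 => by
      rw [h0, card_bot] at hcard
      exact absurd hcard.symm (Nat.one_lt_pow two_ne_zero hp.out.one_lt).ne')
    have hle : E ≤ zpowers h := fun e he => hmem (hel.2 e he) hho
    have := Subgroup.card_le_of_le hle
    rw [hcard, Nat.card_zpowers, hho] at this
    nlinarith [hp.out.two_le]

end Unique

end Cfsg.Agent.PGroupsCyclic
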