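import Mathlib
import Cfsg.Agent.Lib.A5OTwoLayers92
import Cfsg.Agent.Lib.PGroupsCyclic

/-!
The structure of a normal 2-subgroup with quotient the alternating group of degree 5.
-/

set_option autoImplicit false

namespace Cfsg.Agent.A5OTwo92

open Equiv

variable {Y : Type*} [Group Y]

/-- The word with exponent vector `v`. -/
def ev (g : Fin 4 → Y) (v : Fin 4 → ZMod 2) : Y :=
  g 0 ^ (v 0).val * g 1 ^ (v 1).val * (g 2 ^ (v 2).val * g 3 ^ (v 3).val)

theorem zmod2_cases : ∀ t : ZMod 2, t = 0 ∨ t = 1 := by decide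

theorem zpow_add {z : Y} (hz : z * z = 1) (s t : ZMod 2) :
    z ^ (s + t).val = z ^ s.val * z ^ t.val := by
  rcases zmod2_cases s with rfl | rfl <;> rcases zmod2_cases t with rfl | rfl <;>
    simp [hz, show ((1 : ZMod 2) + 1) = 0 from rfl, ZMod.val_one]

/-- `x b = z^s b x`. -/
def Twist (z x b : Y) (s : ZMod 2) : Prop := x * b = z ^ s.val * (b * x)

theorem Twist.mul {z x y b : Y} {s t : ZMod 2} (hz : z * z = 1) (hc : ∀ w, w * z = z * w)
    (h1 : Twist z x b s) (h2 : Twist z y b t) : Twist z (x * y) b (s + t) := by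
  unfold Twist at *
  have hcx : x * z ^ t.val = z ^ t.val * x := (Commute.pow_right (hc x) _).eq
  calc x * y * b = x * (y * b) := mul_assoc _ _ _
    _ = (x * z ^ t.val) * (b * y) := by rw [h2, mul_assoc]
    _ = z ^ t.val * ((x * b) * y) := by rw [hcx]; simp only [mul_assoc]
    _ = (z ^ t.val * z ^ s.val) * (b * (x * y)) := by rw [h1]; simp only [mul_assoc]
    _ = _ := by rw [zpow_add hz, (Commute.pow_pow (Commute.refl z) t.val s.val).eq]

theorem zmod2_aux : ∀ s t : ZMod 2, (0 = s + t * 0 + s * 1) ∧ (0 = t + t * 1 + s * 0) := by decide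

theorem Twist.pow {z x b : Y} {s : ZMod 2} (h : Twist z x b s) (e : ZMod 2) :
    Twist z (x ^ e.val) b (e * s) := by
  unfold Twist at *
  rcases zmod2_cases e with rfl | rfl <;> simp [h, ZMod.val_one]

theorem Twist.unique {z x b : Y} {s t : ZMod 2} (hz : z ≠ 1) (h1 : Twist z x b s)
    (h2 : Twist z x b t) : s = t := by
  unfold Twist at *
  have h := mul_right_cancel (h1.symm.trans h2)
  rcases zmod2_cases s with rfl | rfl <;> rcases zmod2_cases t with rfl | rfl <;>
    simp [hz, Ne.symm hz, ZMod.val_one] at h ⊢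

variable [Finite Y]

namespace Data

variable {π : Y →* A5} {Q P : Subgroup Y} (D : Data π Q P) {z : Y}
  (hP : ∀ p, p ∈ P ↔ p = 1 ∨ p = z) (hz : z ≠ 1) (hzc : ∀ y, y * z = z * y)
include D hP hz hzc

/-- A symplectic basis with squares. -/
theorem coords : ∃ g : Fin 4 → Y, ∃ r : Fin 4 → ZMod 2, (∀ i, g i ∈ Q) ∧ z * z = 1 ∧
    Twist z (g 0) (g 1) 1 ∧ Twist z (g 2) (g 3) 1 ∧
    (∀ v, ev g v * ev g v = z ^ (qmodel r v).val) ∧ (∀ i, g i * g i = z ^ (r i).val) ∧
    (∀ i j : Fin 4, ((i : ℕ) < 2 ↔ ¬ (j : ℕ) < 2) → g i * g j = g j * g i) ∧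
    (∀ v w, ev g v * ev g w * (ev g (v + w))⁻¹ ∈ P) ∧
    (∀ x ∈ Q, ∃ v, (ev g v)⁻¹ * x ∈ P) ∧ (∀ v w, (ev g v)⁻¹ * ev g w ∈ P → v = w) ∧
    (Finset.univ.filter fun v => qmodel r v = 0).card % 5 = 1 := by
  classical
  haveI := D.normalQ
  haveI := D.normal
  obtain ⟨hQ, hfix, -⟩ := D.module
  have hP2 := D.card_two hP hz
  rw [hP2] at hQ
  have hz2 : z * z = 1 := by
    have := pow_card_eq_one' (x := (⟨z, (hP z).2 (Or.inr rfl)⟩ : P))
    rw [hP2, pow_two] at this
    exact congrArg Subtype.val this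
  have htw : ∀ x ∈ Q, ∀ y ∈ Q, ∃ s, Twist z x y s := by
    intro x hx y hy
    rcases (hP _).1 (D.comm x hx y hy) with h | h
    · refine ⟨0, ?_⟩
      unfold Twist
      rw [mul_inv_eq_one, mul_inv_eq_iff_eq_mul] at h
      simp [h]
    · refine ⟨1, ?_⟩
      unfold Twist
      rw [mul_inv_eq_iff_eq_mul, mul_inv_eq_iff_eq_mul] at h
      simp [h, ZMod.val_one, mul_assoc]
  have hflip : ∀ x y, Twist z x y 1 → Twist z y x 1 := by
    intro x y h
    unfold Twist at *
    simp only [ZMod.val_one, pow_one] at *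
    rw [h, ← mul_assoc, hz2, one_mul]
  have hself : ∀ x : Y, Twist z x x 0 := fun x => by unfold Twist; simp
  have ht0 : ∀ {x y : Y}, x * y = y * x → Twist z x y 0 := fun h => by unfold Twist; simp [h]
  have hne1 : ∀ {x y : Y}, x ∈ Q → y ∈ Q → x * y ≠ y * x → Twist z x y 1 := by
    intro x y hx hy hne
    obtain ⟨s, hs⟩ := htw x hx y hy
    rcases zmod2_cases s with rfl | rfl
    · exact absurd (by simpa [Twist] using hs) hne
    · exact hs
  -- the first pair
  obtain ⟨a, haQ, haP⟩ : ∃ a ∈ Q, a ∉ P := by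
    by_contra h
    push Not at h
    have := Subgroup.card_le_of_le (show Q ≤ P from h)
    omega
  obtain ⟨b, hbQ, hab⟩ := D.exists_noncomm hP hz hzc haQ haP
  have tab : Twist z a b 1 := hne1 haQ hbQ (Ne.symm hab)
  -- every element is a word in `a, b` times an element commuting with both
  have hdec : ∀ x ∈ Q, ∃ i j : ZMod 2, Twist z (x * a ^ i.val * b ^ j.val) a 0 ∧
      Twist z (x * a ^ i.val * b ^ j.val) b 0 := by
    intro x hx
    obtain ⟨s, hs⟩ := htw x hx a haQ
    obtain ⟨t, ht⟩ := htw x hx b hbQ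
    refine ⟨t, s, ?_, ?_⟩
    · have h := (hs.mul hz2 hzc ((hself a).pow t)).mul hz2 hzc ((hflip a b tab).pow s)
      convert h using 1
      exact (zmod2_aux s t).1
    · have h := (ht.mul hz2 hzc (tab.pow t)).mul hz2 hzc ((hself b).pow s)
      convert h using 1
      exact (zmod2_aux s t).2
  obtain ⟨c, hcQ, hca, hcb, d, hdQ, hda, hdb, hcd⟩ :
      ∃ c ∈ Q, c * a = a * c ∧ c * b = b * c ∧ ∃ d ∈ Q, d * a = a * d ∧ d * b = b * d ∧ c * d ≠ d * c := by
    by_contra hno
    push Not at hno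
    -- otherwise `Q` would be covered by eight elements
    have hC : ∀ c ∈ Q, c * a = a * c → c * b = b * c → c ∈ P := by
      intro c hc hca hcb
      by_contra hcP
      obtain ⟨x, hx, hxc⟩ := D.exists_noncomm hP hz hzc hc hcP
      obtain ⟨i, j, h1, h2⟩ := hdec x hx
      have hmem : x * a ^ i.val * b ^ j.val ∈ Q :=
        mul_mem (mul_mem hx (pow_mem haQ _)) (pow_mem hbQ _)
      have h3 := hno c hc hca hcb _ hmem (by simpa [Twist] using h1) (by simpa [Twist] using h2)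
      refine hxc ?_
      have hca' : Commute c (a ^ i.val) := Commute.pow_right hca _
      have hcb' : Commute c (b ^ j.val) := Commute.pow_right hcb _
      have h4 : Commute c ((x * a ^ i.val * b ^ j.val) * (b ^ j.val)⁻¹ * (a ^ i.val)⁻¹) :=
        ((show Commute c _ from h3).mul_right hcb'.inv_right).mul_right hca'.inv_right
      simp only [mul_inv_cancel_right] at h4
      exact h4.eq.symm
    have hsurj : Function.Surjective (fun p : ZMod 2 × ZMod 2 × P =>
        (⟨p.2.2 * (b ^ p.2.1.val)⁻¹ * (a ^ p.1.val)⁻¹, mul_mem (mul_mem (D.le p.2.2.2)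
          (inv_mem (pow_mem hbQ _))) (inv_mem (pow_mem haQ _))⟩ : Q)) := by
      rintro ⟨x, hx⟩
      obtain ⟨i, j, h1, h2⟩ := hdec x hx
      exact ⟨(i, j, ⟨_, hC _ (mul_mem (mul_mem hx (pow_mem haQ _)) (pow_mem hbQ _))
        (by simpa [Twist] using h1) (by simpa [Twist] using h2)⟩), Subtype.ext (by simp)⟩
    have := Nat.card_le_card_of_surjective _ hsurj
    rw [Nat.card_prod, Nat.card_prod, Nat.card_zmod, hP2, hQ] at this
    omega
  set g : Fin 4 → Y := ![a, b, c, d] with hg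
  have hgQ : ∀ i, g i ∈ Q := by
    intro i; fin_cases i
    exacts [haQ, hbQ, hcQ, hdQ]
  have tcd : Twist z c d 1 := hne1 hcQ hdQ hcd
  have hcross : ∀ i j : Fin 4, ((i : ℕ) < 2 ↔ ¬ (j : ℕ) < 2) → g i * g j = g j * g i := by
    intro i j h
    fin_cases i <;> fin_cases j <;> simp at h ⊢
    · exact hca.symm
    · exact hda.symm
    · exact hcb.symm
    · exact hdb.symm
    · exact hca
    · exact hcb
    · exact hda
    · exact hdb
  -- commutators with the basis
  have hev : ∀ v, ev g v ∈ Q := fun v =>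
    mul_mem (mul_mem (pow_mem (hgQ 0) _) (pow_mem (hgQ 1) _))
      (mul_mem (pow_mem (hgQ 2) _) (pow_mem (hgQ 3) _))
  have htwev : ∀ v, Twist z (ev g v) b (v 0) ∧ Twist z (ev g v) a (v 1) ∧
      Twist z (ev g v) d (v 2) ∧ Twist z (ev g v) c (v 3) := by
    intro v
    have key : ∀ (e : Y) (s0 s1 s2 s3 : ZMod 2), Twist z a e s0 → Twist z b e s1 →
        Twist z c e s2 → Twist z d e s3 →
        Twist z (ev g v) e ((v 0 * s0 + v 1 * s1) + (v 2 * s2 + v 3 * s3)) := fun e s0 s1 s2 s3 h0 h1 h2 h3 =>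
      ((h0.pow (v 0)).mul hz2 hzc (h1.pow (v 1))).mul hz2 hzc ((h2.pow (v 2)).mul hz2 hzc (h3.pow (v 3)))
    refine ⟨?_, ?_, ?_, ?_⟩
    · simpa using key b 1 0 0 0 tab (hself b) (ht0 hcb) (ht0 hdb)
    · simpa using key a 0 1 0 0 (hself a) (hflip a b tab) (ht0 hca) (ht0 hda)
    · simpa using key d 0 0 1 0 (ht0 hda.symm) (ht0 hdb.symm) tcd (hself d)
    · simpa using key c 0 0 0 1 (ht0 hca.symm) (ht0 hcb.symm) (hself c) (hflip c d tcd)
  have hPt : ∀ p ∈ P, ∀ e, Twist z p e 0 := fun p hp e => ht0 (D.central hP hzc p hp e).symm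
  have hid : ∀ (x : Y) v, (ev g v)⁻¹ * x ∈ P → Twist z x b (v 0) ∧ Twist z x a (v 1) ∧
      Twist z x d (v 2) ∧ Twist z x c (v 3) := by
    intro x v h
    obtain ⟨h0, h1, h2, h3⟩ := htwev v
    have e : ev g v * ((ev g v)⁻¹ * x) = x := by group
    refine ⟨?_, ?_, ?_, ?_⟩
    · simpa [e] using h0.mul hz2 hzc (hPt _ h b)
    · simpa [e] using h1.mul hz2 hzc (hPt _ h a)
    · simpa [e] using h2.mul hz2 hzc (hPt _ h d)
    · simpa [e] using h3.mul hz2 hzc (hPt _ h c)
  have hinj : ∀ v w, (ev g v)⁻¹ * ev g w ∈ P → v = w := by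
    intro v w h
    obtain ⟨h0, h1, h2, h3⟩ := hid _ v h
    obtain ⟨g0, g1, g2, g3⟩ := htwev w
    funext i
    fin_cases i
    exacts [h0.unique hz g0, h1.unique hz g1, h2.unique hz g2, h3.unique hz g3]
  have hsurj : ∀ x ∈ Q, ∃ v, (ev g v)⁻¹ * x ∈ P := by
    have hf : Function.Injective (fun p : (Fin 4 → ZMod 2) × P =>
        (⟨ev g p.1 * p.2, mul_mem (hev _) (D.le p.2.2)⟩ : Q)) := by
      rintro ⟨v, p⟩ ⟨w, q⟩ h
      have h' : ev g v * p = ev g w * q := congrArg Subtype.val h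
      have hvw : v = w := hinj v w (by
        rw [show (ev g v)⁻¹ * ev g w = (ev g v)⁻¹ * (ev g w * q) * (q : Y)⁻¹ by group, ← h',
          inv_mul_cancel_left]
        exact mul_mem p.2 (inv_mem q.2))
      subst hvw
      exact Prod.ext rfl (Subtype.ext (mul_left_cancel h'))
    have hb' := (Nat.bijective_iff_injective_and_card _).2 ⟨hf, by
      rw [Nat.card_prod, hP2, hQ, Nat.card_fun, Nat.card_zmod, Nat.card_fin]; norm_num⟩
    intro x hx
    obtain ⟨⟨v, p⟩, hp⟩ := hb'.2 ⟨x, hx⟩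
    exact ⟨v, by rw [← show ev g v * p = x from congrArg Subtype.val hp, inv_mul_cancel_left]; exact p.2⟩
  have hmul : ∀ v w, ev g v * ev g w * (ev g (v + w))⁻¹ ∈ P := by
    intro v w
    obtain ⟨u, hu⟩ := hsurj _ (mul_mem (hev v) (hev w))
    obtain ⟨h0, h1, h2, h3⟩ := hid _ u hu
    obtain ⟨v0, v1, v2, v3⟩ := htwev v
    obtain ⟨w0, w1, w2, w3⟩ := htwev w
    have : u = v + w := by
      funext i
      fin_cases i
      exacts [h0.unique hz (v0.mul hz2 hzc w0), h1.unique hz (v1.mul hz2 hzc w1),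
        h2.unique hz (v2.mul hz2 hzc w2), h3.unique hz (v3.mul hz2 hzc w3)]
    subst this
    have := D.normal.conj_mem _ hu (ev g (v + w))
    convert this using 1
    group
  -- squares
  have hsqex : ∀ i, ∃ s : ZMod 2, g i * g i = z ^ s.val := by
    intro i
    rcases (hP _).1 (D.sq _ (hgQ i)) with h | h
    · exact ⟨0, by simp [h]⟩
    · exact ⟨1, by simp [h, ZMod.val_one]⟩
  choose r hr using hsqex
  have hpair : ∀ (x y : Y) (s t : ZMod 2), Twist z x y 1 → x * x = z ^ s.val → y * y = z ^ t.val →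
      ∀ i j : ZMod 2, (x ^ i.val * y ^ j.val) * (x ^ i.val * y ^ j.val) =
        z ^ (i * s + j * t + i * j).val := by
    intro x y s t hxy hx hy i j
    rcases zmod2_cases i with rfl | rfl <;> rcases zmod2_cases j with rfl | rfl <;>
      simp [ZMod.val_one, hx, hy]
    have hyx : y * x = z * (x * y) := by simpa [Twist, ZMod.val_one] using hflip x y hxy
    rw [show x * y * (x * y) = x * (y * x) * y by group, hyx, ← mul_assoc x z, hzc x,
      show z * x * (x * y) * y = z * ((x * x) * (y * y)) by group, hx, hy, zpow_add hz2, zpow_add hz2,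
      ZMod.val_one, pow_one]
    exact ((Commute.pow_right (Commute.refl z) _).mul_right
      (Commute.pow_right (Commute.refl z) _)).eq
  have hsq : ∀ v, ev g v * ev g v = z ^ (qmodel r v).val := by
    intro v
    have hc2 : Commute (g 0 ^ (v 0).val * g 1 ^ (v 1).val) (g 2 ^ (v 2).val * g 3 ^ (v 3).val) :=
      ((Commute.pow_pow (hcross 0 2 (by simp)) _ _).mul_right (Commute.pow_pow (hcross 0 3 (by simp)) _ _)).mul_left
        ((Commute.pow_pow (hcross 1 2 (by simp)) _ _).mul_right (Commute.pow_pow (hcross 1 3 (by simp)) _ _))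
    unfold ev qmodel
    rw [zpow_add hz2, hc2.symm.mul_mul_mul_comm, hpair (g 0) (g 1) _ _ tab (hr 0) (hr 1),
      hpair (g 2) (g 3) _ _ tcd (hr 2) (hr 3)]
  refine ⟨g, r, hgQ, hz2, tab, tcd, hsq, hr, hcross, hmul, hsurj, hinj, ?_⟩
  -- the singular points under an element of order five
  obtain ⟨c₀, hc₀⟩ := D.surj c5
  have hσex : ∀ v, ∃ w, (ev g w)⁻¹ * (c₀ * ev g v * c₀⁻¹) ∈ P := fun v =>
    hsurj _ ((inferInstance : Q.Normal).conj_mem _ (hev v) c₀)
  choose σ hσ using hσex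
  have hit : ∀ n v, (ev g (σ^[n] v))⁻¹ * (c₀ ^ n * ev g v * (c₀ ^ n)⁻¹) ∈ P := by
    intro n
    induction n with
    | zero => intro v; simp [one_mem]
    | succ n ih =>
      intro v
      rw [Function.iterate_succ_apply', pow_succ']
      have h1 := hσ (σ^[n] v)
      have h2 := D.normal.conj_mem _ (ih v) c₀
      have := mul_mem h1 h2
      convert this using 1
      group
  have hc5Q : c₀ ^ 5 ∈ Q := D.mem_iff.2 (by rw [map_pow, hc₀, facts.2.1])
  have h5 : ∀ v, σ^[5] v = v := by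
    intro v
    refine hinj _ _ ?_
    have h1 := hit 5 v
    have h2 := inv_mem (D.comm _ hc5Q _ (hev v))
    have := mul_mem h1 (D.normal.conj_mem _ h2 1)
    have e : (ev g (σ^[5] v))⁻¹ * ev g v = (ev g (σ^[5] v))⁻¹ * (c₀ ^ 5 * ev g v * (c₀ ^ 5)⁻¹) *
        ((c₀ ^ 5 * ev g v * (c₀ ^ 5)⁻¹)⁻¹ * ev g v) := by group
    rw [e]
    refine mul_mem h1 ?_
    have h3 := D.normal.conj_mem _ h2 (ev g v)⁻¹
    convert h3 using 1
    group
  have hinv : ∀ v, qmodel r v = 0 → qmodel r (σ v) = 0 := by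
    intro v hv
    have h := hσ v
    set p := (ev g (σ v))⁻¹ * (c₀ * ev g v * c₀⁻¹)
    have he : c₀ * ev g v * c₀⁻¹ = ev g (σ v) * p := by simp [p, mul_assoc]
    have hp2 : p * p = 1 := by rcases (hP p).1 h with e | e <;> rw [e] <;> simp [hz2]
    have h1 : c₀ * ev g v * c₀⁻¹ * (c₀ * ev g v * c₀⁻¹) = 1 := by
      rw [show c₀ * ev g v * c₀⁻¹ * (c₀ * ev g v * c₀⁻¹) = c₀ * (ev g v * ev g v) * c₀⁻¹ by group,
        hsq, hv]
      simp
    rw [he, show ev g (σ v) * p * (ev g (σ v) * p) = ev g (σ v) * (p * ev g (σ v)) * p by group,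
      ← D.central hP hzc p h, show ev g (σ v) * (ev g (σ v) * p) * p =
        ev g (σ v) * ev g (σ v) * (p * p) by group, hp2, mul_one, hsq] at h1
    rcases zmod2_cases (qmodel r (σ v)) with e | e
    · exact e
    · rw [e] at h1; simp [ZMod.val_one, hz] at h1
  let τ : {v // qmodel r v = 0} → {v // qmodel r v = 0} := fun v => ⟨σ v, hinv v v.2⟩
  have hτ : ∀ n v, ((τ^[n] v : {v // qmodel r v = 0}) : Fin 4 → ZMod 2) = σ^[n] v := by
    intro n
    induction n with
    | zero => intro v; rfl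
    | succ n ih => intro v; rw [Function.iterate_succ_apply', Function.iterate_succ_apply', ← ih]
  let e : Perm {v // qmodel r v = 0} :=
    { toFun := τ
      invFun := τ^[4]
      left_inv := fun v => Subtype.ext (by
        show ((τ^[5] v : {v // qmodel r v = 0}) : Fin 4 → ZMod 2) = v
        rw [hτ, h5])
      right_inv := fun v => Subtype.ext (by
        show σ ((τ^[4] v : {v // qmodel r v = 0}) : Fin 4 → ZMod 2) = v
        rw [hτ, ← Function.iterate_succ_apply' σ, h5]) }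
  haveI : Fact (Nat.Prime 5) := ⟨by norm_num⟩
  have he5 : e ^ 5 ^ 1 = 1 := Equiv.ext fun v => Subtype.ext (by
    rw [pow_one, ← Perm.iterate_eq_pow]
    exact (hτ 5 v).trans (h5 v))
  haveI : IsPGroup 5 (Subgroup.zpowers e) := fun x => by
    obtain ⟨k, hk⟩ := Subgroup.mem_zpowers_iff.1 x.2
    refine ⟨1, Subtype.ext ?_⟩
    rw [SubmonoidClass.coe_pow, ← hk, ← zpow_natCast, ← zpow_mul, mul_comm, zpow_mul, zpow_natCast,
      he5, one_zpow, OneMemClass.coe_one]
  have hmod := (‹IsPGroup 5 (Subgroup.zpowers e)›).card_modEq_card_fixedPoints {v // qmodel r v = 0}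
  have hq0 : qmodel r 0 = 0 := by simp [qmodel]
  have hone : Nat.card (MulAction.fixedPoints (Subgroup.zpowers e) {v // qmodel r v = 0}) = 1 := by
    have hz0 : ∀ v : {v // qmodel r v = 0}, e v = v → v.1 = 0 := by
      intro v hv
      have hσv : σ v.1 = v.1 := congrArg Subtype.val hv
      have h := hσ v.1
      rw [hσv] at h
      have hp : ev g v.1 ∈ P := hfix c₀ hc₀ _ (hev v.1) (by
        have := D.normal.conj_mem _ h (ev g v.1)
        convert this using 1
        group)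
      refine (hinj 0 v.1 ?_).symm
      simpa [ev] using hp
    have he0 : e ⟨0, hq0⟩ = ⟨0, hq0⟩ := Subtype.ext (by
      show σ 0 = 0
      refine hinj _ _ ?_
      have h := hσ 0
      simpa [ev] using h)
    rw [Nat.card_eq_one_iff_unique]
    refine ⟨⟨fun x y => Subtype.ext (Subtype.ext ?_)⟩, ⟨⟨⟨0, hq0⟩, fun x => ?_⟩⟩⟩
    · rw [hz0 x.1 (x.2 ⟨e, Subgroup.mem_zpowers e⟩), hz0 y.1 (y.2 ⟨e, Subgroup.mem_zpowers e⟩)]
    · obtain ⟨k, hk⟩ := Subgroup.mem_zpowers_iff.1 x.2
      show (x.1 : Perm {v // qmodel r v = 0}) • (⟨0, hq0⟩ : {v // qmodel r v = 0}) = _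
      rw [← hk, Perm.smul_def]
      exact Equiv.Perm.zpow_apply_eq_self_of_apply_eq_self he0 k
  rw [hone] at hmod
  change Nat.card {v // qmodel r v = 0} % 5 = 1 % 5 at hmod
  rw [Nat.card_eq_fintype_card, Fintype.card_subtype] at hmod
  exact hmod

/-- No plane consists of elements of square one. -/
theorem no_plane (L : Subgroup Y) (hL : L ≤ Q) (hPL : P ≤ L) (hcard : Nat.card L = 4 * Nat.card P)
    (hsq : ∀ a ∈ L, a * a = 1) : False := by
  classical
  obtain ⟨g, r, hgQ, hz2, -, -, hq, -, -, hmul, hsurj, hinj, hcount⟩ := D.coords hP hz hzc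
  have hev : ∀ v, ev g v ∈ Q := fun v =>
    mul_mem (mul_mem (pow_mem (hgQ 0) _) (pow_mem (hgQ 1) _))
      (mul_mem (pow_mem (hgQ 2) _) (pow_mem (hgQ 3) _))
  set S := Finset.univ.filter fun v => ev g v ∈ L with hS
  have hS4 : 3 ≤ S.card := by
    by_contra h
    have hsurjL : Function.Surjective (fun p : S × P =>
        (⟨ev g p.1 * p.2, mul_mem (Finset.mem_filter.1 p.1.2).2 (hPL p.2.2)⟩ : L)) := by
      rintro ⟨x, hx⟩
      obtain ⟨v, hv⟩ := hsurj x (hL hx)
      have hvL : ev g v ∈ L := by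
        rw [show ev g v = x * ((ev g v)⁻¹ * x)⁻¹ by group]
        exact mul_mem hx (inv_mem (hPL hv))
      exact ⟨(⟨v, Finset.mem_filter.2 ⟨Finset.mem_univ _, hvL⟩⟩, ⟨_, hv⟩), Subtype.ext (by simp)⟩
    have := Nat.card_le_card_of_surjective _ hsurjL
    rw [Nat.card_prod, Nat.card_eq_fintype_card (α := S), Fintype.card_coe, hcard] at this
    have : 4 ≤ S.card := Nat.le_of_mul_le_mul_right this Nat.card_pos
    omega
  obtain ⟨v, hv, w, hw, hvw⟩ := Finset.one_lt_card.1 (show 1 < (S.erase 0).card by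
    have := Finset.pred_card_le_card_erase (s := S) (a := 0)
    omega)
  have hsing : ∀ u, ev g u ∈ L → qmodel r u = 0 := by
    intro u hu
    have h := hq u
    rw [hsq _ hu] at h
    rcases zmod2_cases (qmodel r u) with e | e
    · exact e
    · rw [e] at h; simp [ZMod.val_one, eq_comm, hz] at h
  obtain ⟨hv0, hvS⟩ := Finset.mem_erase.1 hv
  obtain ⟨hw0, hwS⟩ := Finset.mem_erase.1 hw
  have hvL := (Finset.mem_filter.1 hvS).2
  have hwL := (Finset.mem_filter.1 hwS).2
  refine qmodel_plane r hcount v hv0 (hsing v hvL) w hw0 (hsing w hwL) hvw (hsing _ ?_)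
  rw [show ev g (v + w) = (ev g v * ev g w * (ev g (v + w))⁻¹)⁻¹ * (ev g v * ev g w) by group]
  exact mul_mem (inv_mem (hPL (hmul v w))) (mul_mem hvL hwL)

end Data

end Cfsg.Agent.A5OTwo92
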