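import Mathlib
import Cfsg.Agent.Lib.A5OTwoStruct92
import Cfsg.Agent.Lib.PGroupsCyclic

/-!
Extraspecial decomposition.
-/

set_option autoImplicit false

namespace Cfsg.Agent.A5OTwo92

variable {Y : Type*} [Group Y] [Finite Y]

theorem card_ge_eight {K : Subgroup Y} {x y z : Y} (hx : x ∈ K) (hy : y ∈ K) (hz : z ≠ 1)
    (hz2 : z * z = 1) (hxx : x * x = z) (hxy : Twist z x y 1) :
    orderOf x = 4 ∧ y ∉ Subgroup.zpowers x ∧ 8 ≤ Nat.card K := by
  have h2 : x ^ 2 = z := by rw [pow_two, hxx]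
  haveI : Fact (Nat.Prime 2) := ⟨Nat.prime_two⟩
  have ho : orderOf x = 4 := by
    have := orderOf_eq_prime_pow (p := 2) (n := 1) (x := x) (by rw [pow_one, h2]; exact hz)
      (by rw [pow_succ, pow_one, pow_mul, h2, pow_two, hz2])
    simpa using this
  have hny : y ∉ Subgroup.zpowers x := by
    intro h
    obtain ⟨k, hk⟩ := Subgroup.mem_zpowers_iff.1 h
    have hc : x * y = y * x := by rw [← hk]; exact (Commute.self_zpow x k).eq
    unfold Twist at hxy
    rw [ZMod.val_one, pow_one, hc] at hxy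
    exact hz (mul_right_cancel (hxy.symm.trans (one_mul _).symm))
  refine ⟨ho, hny, ?_⟩
  have hle : Subgroup.zpowers x ≤ K := Subgroup.zpowers_le.2 hx
  have hd := Subgroup.card_dvd_of_le hle
  rw [Nat.card_zpowers, ho] at hd
  have hne : Nat.card K ≠ 4 := fun h => hny
    ((Subgroup.eq_of_le_of_card_ge hle (by rw [h, Nat.card_zpowers, ho])).ge hy)
  have := Nat.card_pos (α := K)
  omega

theorem iso_quaternion {K : Subgroup Y} {x y z : Y} (hx : x ∈ K) (hy : y ∈ K) (hz : z ≠ 1)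
    (hz2 : z * z = 1) (hc : ∀ w, w * z = z * w) (hxx : x * x = z) (hyy : y * y = z)
    (hxy : Twist z x y 1) (hK : Nat.card K ≤ 8) : Nonempty (K ≃* QuaternionGroup 2) := by
  obtain ⟨ho, hny, h8⟩ := card_ge_eight hx hy hz hz2 hxx hxy
  have hxinv : z * x = x⁻¹ := (inv_eq_of_mul_eq_one_right (by rw [← mul_assoc, hc, mul_assoc, hxx, hz2])).symm
  refine PGroupsCyclic.nonempty_mulEquiv_quaternion (x := (⟨x, hx⟩ : K)) (y := ⟨y, hy⟩)
    (by rw [← Subgroup.orderOf_coe]; exact ho) ?_ ?_ ?_ (by omega)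
  · intro h
    obtain ⟨k, hk⟩ := Subgroup.mem_zpowers_iff.1 h
    exact hny (Subgroup.mem_zpowers_iff.2 ⟨k, by simpa using congrArg Subtype.val hk⟩)
  · refine Subtype.ext ?_
    show y * x * y⁻¹ = x⁻¹
    unfold Twist at hxy
    rw [ZMod.val_one, pow_one] at hxy
    have h1 : y * x = z * (x * y) := by rw [hxy, ← mul_assoc, hz2, one_mul]
    rw [h1, ← hxinv]; group
  · refine Subtype.ext ?_
    show y ^ 2 = x ^ 2
    rw [pow_two, pow_two, hxx, hyy]

theorem iso_dihedral {K : Subgroup Y} {x y z : Y} (hx : x ∈ K) (hy : y ∈ K) (hz : z ≠ 1)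
    (hz2 : z * z = 1) (hc : ∀ w, w * z = z * w) (hxx : x * x = z) (hyy : y * y = 1)
    (hxy : Twist z x y 1) (hK : Nat.card K ≤ 8) : Nonempty (K ≃* DihedralGroup 4) := by
  obtain ⟨ho, hny, h8⟩ := card_ge_eight hx hy hz hz2 hxx hxy
  have hxinv : z * x = x⁻¹ := (inv_eq_of_mul_eq_one_right (by rw [← mul_assoc, hc, mul_assoc, hxx, hz2])).symm
  refine PGroupsCyclic.nonempty_mulEquiv_dihedral (x := (⟨x, hx⟩ : K)) (y := ⟨y, hy⟩)
    (by rw [← Subgroup.orderOf_coe]; exact ho) ?_ ?_ ?_ (by omega)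
  · intro h
    obtain ⟨k, hk⟩ := Subgroup.mem_zpowers_iff.1 h
    exact hny (Subgroup.mem_zpowers_iff.2 ⟨k, by simpa using congrArg Subtype.val hk⟩)
  · refine Subtype.ext ?_
    show y * x * y⁻¹ = x⁻¹
    unfold Twist at hxy
    rw [ZMod.val_one, pow_one] at hxy
    have h1 : y * x = z * (x * y) := by rw [hxy, ← mul_assoc, hz2, one_mul]
    rw [h1, ← hxinv]; group
  · refine Subtype.ext ?_
    show y ^ 2 = 1
    rw [pow_two, hyy]

namespace Data

variable {π : Y →* A5} {Q P : Subgroup Y} (D : Data π Q P) {z : Y}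
  (hP : ∀ p, p ∈ P ↔ p = 1 ∨ p = z) (hz : z ≠ 1) (hzc : ∀ y, y * z = z * y)
include D hP hz hzc

theorem decomposition : ∃ A B : Subgroup Y, A ≤ Q ∧ B ≤ Q ∧ Nonempty (A ≃* QuaternionGroup 2) ∧
    Nonempty (B ≃* DihedralGroup 4) ∧ (∀ a ∈ A, ∀ b ∈ B, a * b = b * a) ∧ A ⊔ B = Q ∧
    (∀ w, w ∈ A ⊓ B ↔ w ∈ P) ∧ (∀ w ∈ Q, (∀ q ∈ Q, w * q = q * w) → w ∈ P) := by
  classical
  obtain ⟨g, r, hgQ, hz2, t01, t23, hq, hr, hcross, hmul, hsurj, hinj, hcount⟩ :=
    D.coords hP hz hzc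
  have hcen := D.central hP hzc
  have hflip : ∀ x y, Twist z x y 1 → Twist z y x 1 := by
    intro x y h
    unfold Twist at *
    simp only [ZMod.val_one, pow_one] at *
    rw [h, ← mul_assoc, hz2, one_mul]
  have hself : ∀ x : Y, Twist z x x 0 := fun x => by unfold Twist; simp
  have ht0 : ∀ {x y : Y}, x * y = y * x → Twist z x y 0 := fun h => by unfold Twist; simp [h]
  have hT : ∀ (x : Y) v, (ev g v)⁻¹ * x ∈ P → Twist z x (g 1) (v 0) ∧ Twist z x (g 0) (v 1) ∧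
      Twist z x (g 3) (v 2) ∧ Twist z x (g 2) (v 3) := by
    intro x v h
    have key : ∀ (e : Y) (s : Fin 4 → ZMod 2), (∀ i, Twist z (g i) e (s i)) →
        Twist z x e ((v 0 * s 0 + v 1 * s 1) + (v 2 * s 2 + v 3 * s 3)) := fun e s hs => by
      have h1 := (((hs 0).pow (v 0)).mul hz2 hzc ((hs 1).pow (v 1))).mul hz2 hzc
        (((hs 2).pow (v 2)).mul hz2 hzc ((hs 3).pow (v 3)))
      have h2 := h1.mul hz2 hzc (ht0 (hcen _ h e).symm)
      rw [add_zero] at h2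
      convert h2 using 1
      exact (mul_inv_cancel_left (ev g v) x).symm
    refine ⟨?_, ?_, ?_, ?_⟩
    · simpa using key (g 1) ![1, 0, 0, 0] (fun i => by
        fin_cases i
        exacts [t01, hself _, ht0 (hcross 2 1 (by simp)), ht0 (hcross 3 1 (by simp))])
    · simpa using key (g 0) ![0, 1, 0, 0] (fun i => by
        fin_cases i
        exacts [hself _, hflip _ _ t01, ht0 (hcross 2 0 (by simp)), ht0 (hcross 3 0 (by simp))])
    · simpa using key (g 3) ![0, 0, 1, 0] (fun i => by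
        fin_cases i
        exacts [ht0 (hcross 0 3 (by simp)), ht0 (hcross 1 3 (by simp)), t23, hself _])
    · simpa using key (g 2) ![0, 0, 0, 1] (fun i => by
        fin_cases i
        exacts [ht0 (hcross 0 2 (by simp)), ht0 (hcross 1 2 (by simp)), hself _, hflip _ _ t23])
  -- the two factors
  set K1 := Q ⊓ Subgroup.centralizer ({g 2, g 3} : Set Y) with hK1
  set K2 := Q ⊓ Subgroup.centralizer ({g 0, g 1} : Set Y) with hK2
  have hcm : ∀ (w e : Y), e * w = w * e → ∀ s, Twist z w e s → s = 0 := fun w e h s hs =>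
    Twist.unique hz hs (ht0 h.symm)
  have hcard : ∀ (i j i' j' : Fin 4), (∀ v : Fin 4 → ZMod 2, v i' = 0 → v j' = 0 →
      ∀ w : Fin 4 → ZMod 2, w i' = 0 → w j' = 0 → v i = w i → v j = w j → v = w) →
      ∀ K : Subgroup Y, K ≤ Q →
      (∀ x ∈ K, ∀ v, (ev g v)⁻¹ * x ∈ P → v i' = 0 ∧ v j' = 0) → Nat.card K ≤ 8 := by
    intro i j i' j' hdet K hKQ hK
    have : ∀ x : K, ∃ v, (ev g v)⁻¹ * (x : Y) ∈ P := fun x => hsurj x (hKQ x.2)
    choose v hv using this
    refine (Nat.card_le_card_of_injective (fun x : K =>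
      (v x i, v x j, (⟨_, hv x⟩ : P))) fun x y h => ?_).trans ?_
    · simp only [Prod.mk.injEq, Subtype.mk.injEq] at h
      obtain ⟨h1, h2, h3⟩ := h
      obtain ⟨a1, a2⟩ := hK x x.2 _ (hv x)
      obtain ⟨b1, b2⟩ := hK y y.2 _ (hv y)
      have hvw := hdet _ a1 a2 _ b1 b2 h1 h2
      rw [hvw] at h3
      exact Subtype.ext (mul_left_cancel h3)
    · rw [Nat.card_prod, Nat.card_prod, Nat.card_zmod, D.card_two hP hz]
  have hK1c : Nat.card K1 ≤ 8 := by
    refine hcard 0 1 2 3 (fun v a1 a2 w b1 b2 h1 h2 => ?_) K1 inf_le_left fun x hx v hv => ?_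
    · funext i; fin_cases i
      exacts [h1, h2, a1.trans b1.symm, a2.trans b2.symm]
    · obtain ⟨-, -, h2, h3⟩ := hT x v hv
      exact ⟨hcm x (g 3) (hx.2 (g 3) (by simp)) _ h2, hcm x (g 2) (hx.2 (g 2) (by simp)) _ h3⟩
  have hK2c : Nat.card K2 ≤ 8 := by
    refine hcard 2 3 0 1 (fun v a1 a2 w b1 b2 h1 h2 => ?_) K2 inf_le_left fun x hx v hv => ?_
    · funext i; fin_cases i
      exacts [a1.trans b1.symm, a2.trans b2.symm, h1, h2]
    · obtain ⟨h0, h1, -, -⟩ := hT x v hv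
      exact ⟨hcm x (g 1) (hx.2 (g 1) (by simp)) _ h0, hcm x (g 0) (hx.2 (g 0) (by simp)) _ h1⟩
  have hg1 : g 0 ∈ K1 ∧ g 1 ∈ K1 := by
    refine ⟨⟨hgQ 0, ?_⟩, hgQ 1, ?_⟩ <;> rintro e (rfl | rfl)
    exacts [hcross 2 0 (by simp), hcross 3 0 (by simp), hcross 2 1 (by simp), hcross 3 1 (by simp)]
  have hg2 : g 2 ∈ K2 ∧ g 3 ∈ K2 := by
    refine ⟨⟨hgQ 2, ?_⟩, hgQ 3, ?_⟩ <;> rintro e (rfl | rfl)
    exacts [hcross 0 2 (by simp), hcross 1 2 (by simp), hcross 0 3 (by simp), hcross 1 3 (by simp)]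
  have hcenQ : ∀ w ∈ Q, (∀ q ∈ Q, w * q = q * w) → w ∈ P := by
    intro w hw h
    obtain ⟨v, hv⟩ := hsurj w hw
    obtain ⟨h0, h1, h2, h3⟩ := hT w v hv
    have : v = 0 := by
      funext i; fin_cases i
      exacts [hcm w _ (h _ (hgQ 1)).symm _ h0, hcm w _ (h _ (hgQ 0)).symm _ h1,
        hcm w _ (h _ (hgQ 3)).symm _ h2, hcm w _ (h _ (hgQ 2)).symm _ h3]
    subst this
    simpa [ev] using hv
  have hcomm : ∀ a ∈ K1, ∀ b ∈ K2, a * b = b * a := by
    intro a ha b hb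
    obtain ⟨v, hv⟩ := hsurj a ha.1
    obtain ⟨-, -, h2, h3⟩ := hT a v hv
    have e2 := hcm a (g 3) (ha.2 (g 3) (by simp)) _ h2
    have e3 := hcm a (g 2) (ha.2 (g 2) (by simp)) _ h3
    have e : a = g 0 ^ (v 0).val * g 1 ^ (v 1).val * ((ev g v)⁻¹ * a) := by
      simp only [ev, e2, e3, ZMod.val_zero, pow_zero, mul_one]
      group
    have c0 : Commute b (g 0) := (hb.2 (g 0) (by simp)).symm
    have c1 : Commute b (g 1) := (hb.2 (g 1) (by simp)).symm
    rw [e]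
    exact (((c0.pow_right _).mul_right (c1.pow_right _)).mul_right (hcen _ hv b)).eq.symm
  have hPK : ∀ p ∈ P, p ∈ K1 ∧ p ∈ K2 := fun p hp =>
    ⟨⟨D.le hp, fun e _ => hcen p hp e⟩, D.le hp, fun e _ => hcen p hp e⟩
  have hinf : ∀ w, w ∈ K1 ⊓ K2 ↔ w ∈ P := by
    refine fun w => ⟨fun h => hcenQ w h.1.1 fun q hq => ?_, hPK w⟩
    obtain ⟨v, hv⟩ := hsurj q hq
    have c : ∀ i, Commute w (g i) := by
      intro i; fin_cases i
      exacts [(h.2.2 (g 0) (by simp)).symm, (h.2.2 (g 1) (by simp)).symm,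
        (h.1.2 (g 2) (by simp)).symm, (h.1.2 (g 3) (by simp)).symm]
    have hc : Commute w (ev g v * ((ev g v)⁻¹ * q)) :=
      ((((c 0).pow_right _).mul_right ((c 1).pow_right _)).mul_right
        (((c 2).pow_right _).mul_right ((c 3).pow_right _))).mul_right (hcen _ hv w)
    rw [mul_inv_cancel_left] at hc
    exact hc.eq
  have hsup : K1 ⊔ K2 = Q := by
    refine le_antisymm (sup_le inf_le_left inf_le_left) fun q hq => ?_
    obtain ⟨v, hv⟩ := hsurj q hq
    rw [← mul_inv_cancel_left (ev g v) q]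
    refine mul_mem (mul_mem ?_ ?_) (Subgroup.mem_sup_left (hPK _ hv).1)
    · exact Subgroup.mem_sup_left (mul_mem (pow_mem hg1.1 _) (pow_mem hg1.2 _))
    · exact Subgroup.mem_sup_right (mul_mem (pow_mem hg2.1 _) (pow_mem hg2.2 _))
  -- recognition
  have hone : ∀ i, r i = 1 → g i * g i = z := fun i h => by rw [hr, h, ZMod.val_one, pow_one]
  have hzero : ∀ i, r i ≠ 1 → g i * g i = 1 := fun i h => by
    rw [hr, (zmod2_cases (r i)).resolve_right h, ZMod.val_zero, pow_zero]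
  have hquat : ∀ (K : Subgroup Y) (i j : Fin 4), g i ∈ K → g j ∈ K → Twist z (g i) (g j) 1 →
      r i = 1 → r j = 1 → Nat.card K ≤ 8 → Nonempty (K ≃* QuaternionGroup 2) :=
    fun K i j hi hj t h1 h2 hK => iso_quaternion hi hj hz hz2 hzc (hone i h1) (hone j h2) t hK
  have hdih : ∀ (K : Subgroup Y) (i j : Fin 4), g i ∈ K → g j ∈ K → Twist z (g i) (g j) 1 →
      ¬ (r i = 1 ∧ r j = 1) → Nat.card K ≤ 8 → Nonempty (K ≃* DihedralGroup 4) := by
    intro K i j hi hj t h hK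
    rcases zmod2_cases (r i) with h1 | h1
    · have h1' : g i * g i = 1 := hzero i (by rw [h1]; decide)
      rcases zmod2_cases (r j) with h2 | h2
      · have h2' : g j * g j = 1 := hzero j (by rw [h2]; decide)
        have t' := hflip _ _ t
        have hxx : g i * g j * (g i * g j) = z := by
          unfold Twist at t'
          rw [ZMod.val_one, pow_one] at t'
          rw [show g i * g j * (g i * g j) = g i * (g j * g i) * g j by group, t',
            ← mul_assoc (g i) z, hzc, show z * g i * (g i * g j) * g j =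
              z * (g i * g i) * (g j * g j) by group, h1', h2', mul_one, mul_one]
        have tw : Twist z (g i * g j) (g i) 1 := by
          have := (hself (g i)).mul hz2 hzc t'
          rwa [zero_add] at this
        exact iso_dihedral (mul_mem hi hj) hi hz hz2 hzc hxx h1' tw hK
      · exact iso_dihedral hj hi hz hz2 hzc (hone j h2) h1' (hflip _ _ t) hK
    · exact iso_dihedral hi hj hz hz2 hzc (hone i h1) (hzero j fun h2 => h ⟨h1, h2⟩) t hK
  rcases qmodel_types r hcount with ⟨h0, h1, h⟩ | ⟨h2, h3, h⟩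
  · exact ⟨K1, K2, inf_le_left, inf_le_left, hquat K1 0 1 hg1.1 hg1.2 t01 h0 h1 hK1c,
      hdih K2 2 3 hg2.1 hg2.2 t23 h hK2c, hcomm, hsup, hinf, hcenQ⟩
  · exact ⟨K2, K1, inf_le_left, inf_le_left, hquat K2 2 3 hg2.1 hg2.2 t23 h2 h3 hK2c,
      hdih K1 0 1 hg1.1 hg1.2 t01 h hK1c, fun a ha b hb => (hcomm b hb a ha).symm,
      sup_comm K1 K2 ▸ hsup, fun w => inf_comm K1 K2 ▸ hinf w, hcenQ⟩

end Data

end Cfsg.Agent.A5OTwo92
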