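import Mathlib

/-!
Schur-Zassenhaus: conjugacy of complements, absolute and relative forms.
-/

namespace Cfsg.Agent.CoprimeSZ

open scoped Pointwise commutatorElement
open Subgroup

universe u

variable {G : Type u} [Group G]

theorem conj_smul_eq_map (g : G) (H : Subgroup G) :
    MulAut.conj g • H = H.map (MulAut.conj g).toMonoidHom := rfl

theorem mem_conj_smul {g x : G} {H : Subgroup G} :
    x ∈ MulAut.conj g • H ↔ g⁻¹ * x * g ∈ H := by
  rw [Subgroup.mem_pointwise_smul_iff_inv_smul_mem, ← map_inv, MulAut.smul_def,
    MulAut.conj_apply, inv_inv]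

theorem conj_mul_mem_conj_smul {g x : G} {H : Subgroup G} (hx : x ∈ H) :
    g * x * g⁻¹ ∈ MulAut.conj g • H := by
  rw [mem_conj_smul]
  simpa [mul_assoc] using hx

theorem card_conj_smul (g : G) (H : Subgroup G) :
    Nat.card ↥(MulAut.conj g • H) = Nat.card H :=
  (Nat.card_congr (Subgroup.equivSMul (MulAut.conj g) H).toEquiv).symm

theorem conj_smul_mul (g h : G) (H : Subgroup G) :
    MulAut.conj (g * h) • H = MulAut.conj g • MulAut.conj h • H := by
  rw [map_mul, mul_smul]

theorem conj_smul_le_of_mem {g : G} {H K : Subgroup G} (hH : H ≤ K) (hg : g ∈ K) :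
    MulAut.conj g • H ≤ K := by
  intro x hx
  rw [mem_conj_smul] at hx
  have := hH hx
  have h2 := K.mul_mem (K.mul_mem hg this) (K.inv_mem hg)
  simpa [mul_assoc] using h2

theorem conj_smul_eq_self {g : G} {H : Subgroup G} (hg : g ∈ Subgroup.normalizer (H : Set G)) :
    MulAut.conj g • H = H := by
  ext x
  rw [mem_conj_smul]
  exact (Subgroup.mem_normalizer_iff''.mp hg x).symm

theorem map_conj_smul {G' : Type*} [Group G'] (f : G →* G') (g : G) (H : Subgroup G) :
    (MulAut.conj g • H).map f = MulAut.conj (f g) • H.map f := by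
  simp only [conj_smul_eq_map, Subgroup.map_map]
  congr 1
  ext x
  simp

theorem subgroupOf_inf' (H K L : Subgroup G) :
    (H ⊓ K).subgroupOf L = H.subgroupOf L ⊓ K.subgroupOf L := rfl

/-- For a finite group, subgroups that intersect trivially and have the correct orders. -/
theorem isComplement'_iff_card [Finite G] {N H : Subgroup G}
    (hcop : (Nat.card N).Coprime N.index) :
    Subgroup.IsComplement' N H ↔ Nat.card H = N.index := by
  constructor
  · intro h
    exact (h.symm.index_eq_card).symm
  · intro h
    refine Subgroup.isComplement'_of_coprime ?_ (by rwa [h])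
    rw [h, Subgroup.card_mul_index]

/-- Abelian case of the conjugacy part of Schur-Zassenhaus. -/
theorem conj_of_abelian [Finite G] (A : Subgroup G) [A.Normal] [IsMulCommutative A]
    (hA : (Nat.card A).Coprime A.index)
    {H K : Subgroup G} (hH : Subgroup.IsComplement' A H) (hK : Subgroup.IsComplement' A K) :
    ∃ a ∈ A, MulAut.conj a • H = K := by
  have key : ∀ L : Subgroup G, Subgroup.IsComplement' A L →
      ∃ α : A.QuotientDiff, L = MulAction.stabilizer G α := by
    intro L hL
    let S : A.LeftTransversal := ⟨(L : Set G), hL.symm⟩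
    let σ : A.QuotientDiff := Quotient.mk'' S
    refine ⟨σ, ?_⟩
    have hle : L ≤ MulAction.stabilizer G σ := by
      intro g hg
      rw [MulAction.mem_stabilizer_iff]
      change Quotient.mk'' (MulOpposite.op g⁻¹ • S) = Quotient.mk'' S
      congr 1
      apply Subtype.ext
      change MulOpposite.op g⁻¹ • (L : Set G) = (L : Set G)
      ext x
      rw [Set.mem_smul_set_iff_inv_smul_mem]
      simp only [← MulOpposite.op_inv, inv_inv, MulOpposite.smul_eq_mul_unop,
        MulOpposite.unop_op, SetLike.mem_coe]
      exact L.mul_mem_cancel_right hg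
    refine Subgroup.eq_of_le_of_card_ge hle (le_of_eq ?_)
    rw [(isComplement'_iff_card hA).1
        (Subgroup.isComplement'_stabilizer_of_coprime (α := σ) hA),
      (isComplement'_iff_card hA).1 hL]
  obtain ⟨α, rfl⟩ := key H hH
  obtain ⟨β, rfl⟩ := key K hK
  obtain ⟨h, hh⟩ := Subgroup.exists_smul_eq hA α β
  refine ⟨h, h.2, ?_⟩
  rw [conj_smul_eq_map, ← MulAction.stabilizer_smul_eq_stabilizer_map_conj]
  exact congrArg (MulAction.stabilizer G) hh

section relative

/-- The statement of conjugacy for all groups of smaller order (induction hypothesis). -/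
private def IH (n : ℕ) : Prop :=
  ∀ (G' : Type u) [Group G'] [Finite G'], Nat.card G' < n →
    ∀ (N H K : Subgroup G'), N.Normal → (Nat.card N).Coprime N.index →
      (Group.IsSolvable N ∨ ∀ _ : N.Normal, Group.IsSolvable (G' ⧸ N)) →
      Nat.card H = N.index → Nat.card K = N.index → ∃ g ∈ N, MulAut.conj g • H = K

private theorem index_subgroupOf {N L : Subgroup G} [N.Normal] :
    (N.subgroupOf L).index = N.relIndex (N ⊔ L) := by
  rw [Subgroup.relIndex_sup_left]
  rfl

/-- Reduction to a proper subgroup `L` containing both complements. -/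
private theorem step_sub [Finite G] (ih : IH.{u} (Nat.card G)) (N H K L : Subgroup G) [N.Normal]
    (hcop : (Nat.card N).Coprime N.index)
    (hsolv : Group.IsSolvable N ∨ Group.IsSolvable (G ⧸ N))
    (hH : Nat.card H = N.index) (hK : Nat.card K = N.index)
    (hHL : H ≤ L) (hKL : K ≤ L) (hL : L ≠ ⊤) :
    ∃ g ∈ N, MulAut.conj g • H = K := by
  have hlt : Nat.card L < Nat.card G := by
    rw [← L.card_mul_index]
    exact lt_mul_of_one_lt_right Nat.card_pos (Subgroup.one_lt_index_of_ne_top hL)
  have hcompl := (isComplement'_iff_card hcop).2 hH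
  have hidx : (N.subgroupOf L).index = N.index := by
    have htop : N ⊔ L = ⊤ := top_unique (by rw [← hcompl.sup_eq_top]; exact sup_le_sup_left hHL N)
    rw [index_subgroupOf, htop, Subgroup.relIndex_top_right]
  have hdvd : Nat.card (N.subgroupOf L) ∣ Nat.card N := by
    rw [← Subgroup.inf_subgroupOf_right,
      Nat.card_congr (Subgroup.subgroupOfEquivOfLe inf_le_right).toEquiv]
    exact Subgroup.card_dvd_of_le inf_le_left
  have hsolv' : Group.IsSolvable (N.subgroupOf L) ∨
      ∀ _ : (N.subgroupOf L).Normal, Group.IsSolvable (L ⧸ N.subgroupOf L) := by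
    rcases hsolv with h | h
    · left
      exact Group.isSolvable_of_isSolvable_injective
        (f := ((L.subtype.comp (N.subgroupOf L).subtype).codRestrict N (fun x => x.2)))
        (fun a b hab => Subtype.ext (Subtype.ext (congrArg (fun y : N => (y : G)) hab)))
    · right
      intro _
      refine Group.isSolvable_of_isSolvable_injective
        (f := QuotientGroup.map (N.subgroupOf L) N L.subtype (fun x hx => hx)) ?_
      rw [injective_iff_map_eq_one]
      intro x
      induction x using QuotientGroup.induction_on with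
      | H z =>
        intro hz
        have hz' : (L.subtype z : G) ∈ N := (QuotientGroup.eq_one_iff _).1 hz
        exact (QuotientGroup.eq_one_iff z).2 hz'
  obtain ⟨g, hg, hgH⟩ := ih L hlt (N.subgroupOf L) (H.subgroupOf L) (K.subgroupOf L)
    inferInstance (by rw [hidx]; exact hcop.coprime_dvd_left hdvd) hsolv'
    (by rw [hidx, Nat.card_congr (Subgroup.subgroupOfEquivOfLe hHL).toEquiv, hH])
    (by rw [hidx, Nat.card_congr (Subgroup.subgroupOfEquivOfLe hKL).toEquiv, hK])
  refine ⟨g, hg, ?_⟩
  have := congrArg (Subgroup.map L.subtype) hgH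
  rwa [map_conj_smul, Subgroup.map_subgroupOf_eq_of_le hHL, Subgroup.map_subgroupOf_eq_of_le hKL]
    at this

/-- Reduction to a quotient `G ⧸ P`. -/
private theorem step_quot [Finite G] (ih : IH.{u} (Nat.card G)) (N H K P : Subgroup G) [N.Normal]
    [P.Normal] (hP : P ≠ ⊥)
    (hcop : (Nat.card N).Coprime N.index)
    (hsolv : Group.IsSolvable N ∨ Group.IsSolvable (G ⧸ N))
    (hH : Nat.card H = N.index) (hK : Nat.card K = N.index)
    (hPH : P ≤ H) (hPK : P ≤ K) :
    ∃ g ∈ N, MulAut.conj g • H = K := by
  set π := QuotientGroup.mk' P with hπ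
  have hπs : Function.Surjective π := QuotientGroup.mk'_surjective P
  have hlt : Nat.card (G ⧸ P) < Nat.card G := by
    rw [← Subgroup.index_eq_card, ← P.card_mul_index]
    exact lt_mul_of_one_lt_left (Nat.pos_of_ne_zero P.index_ne_zero_of_finite)
      (P.one_lt_card_iff_ne_bot.mpr hP)
  have hcomplH := (isComplement'_iff_card hcop).2 hH
  have hcomplK := (isComplement'_iff_card hcop).2 hK
  have hNn : (N.map π).Normal := Subgroup.Normal.map inferInstance π hπs
  have hdvd1 : Nat.card (N.map π) ∣ Nat.card N := Subgroup.card_map_dvd N π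
  have hdvd2 : (N.map π).index ∣ N.index := Subgroup.index_map_dvd N hπs
  have hcop' : (Nat.card (N.map π)).Coprime (N.map π).index :=
    (hcop.coprime_dvd_left hdvd1).coprime_dvd_right hdvd2
  have hcard : ∀ {L : Subgroup G}, Subgroup.IsComplement' N L → Nat.card L = N.index →
      Nat.card (L.map π) = (N.map π).index := by
    intro L hL hLc
    refine ((isComplement'_iff_card hcop').1 ?_)
    refine Subgroup.isComplement'_of_disjoint_and_mul_eq_univ ?_ ?_
    · rw [disjoint_iff]
      refine Subgroup.inf_eq_bot_of_coprime ?_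
      refine (hcop.coprime_dvd_left hdvd1).coprime_dvd_right ?_
      rw [← hLc]
      exact Subgroup.card_map_dvd L π
    · rw [← Subgroup.normal_mul, ← Subgroup.map_sup, hL.sup_eq_top,
        Subgroup.map_top_of_surjective _ hπs, Subgroup.coe_top]
  have hsolv' : Group.IsSolvable (N.map π) ∨
      ∀ _ : (N.map π).Normal, Group.IsSolvable ((G ⧸ P) ⧸ N.map π) := by
    rcases hsolv with h | h
    · left
      exact Group.isSolvable_of_surjective (f := π.subgroupMap N)
        (π.subgroupMap_surjective N)
    · right
      intro _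
      refine Group.isSolvable_of_surjective
        (f := QuotientGroup.map N (N.map π) π (Subgroup.le_comap_map π N)) ?_
      intro y
      induction y using QuotientGroup.induction_on with
      | H z =>
        obtain ⟨x, rfl⟩ := hπs z
        exact ⟨(x : G ⧸ N), rfl⟩
  obtain ⟨g, hg, hgH⟩ := ih (G ⧸ P) hlt (N.map π) (H.map π) (K.map π) hNn hcop' hsolv'
    (hcard hcomplH hH) (hcard hcomplK hK)
  obtain ⟨g, hgN, rfl⟩ := Subgroup.mem_map.1 hg
  refine ⟨g, hgN, ?_⟩
  rw [← map_conj_smul] at hgH
  have h1 := congrArg (Subgroup.comap π) hgH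
  have hker : π.ker = P := QuotientGroup.ker_mk' P
  have hP1 : π.ker ≤ MulAut.conj g • H := by
    rw [hker]
    intro x hx
    rw [mem_conj_smul]
    exact hPH (by simpa using ‹P.Normal›.conj_mem x hx g⁻¹)
  rwa [Subgroup.comap_map_eq_self hP1, Subgroup.comap_map_eq_self (hker.le.trans hPK)] at h1

/-- A common nontrivial subgroup normalised by both complements suffices. -/
private theorem step_common [Finite G] (ih : IH.{u} (Nat.card G)) (N H K P : Subgroup G) [N.Normal]
    (hP : P ≠ ⊥)
    (hcop : (Nat.card N).Coprime N.index)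
    (hsolv : Group.IsSolvable N ∨ Group.IsSolvable (G ⧸ N))
    (hH : Nat.card H = N.index) (hK : Nat.card K = N.index)
    (hPH : P ≤ H) (hPK : P ≤ K) (hHP : H ≤ Subgroup.normalizer (P : Set G))
    (hKP : K ≤ Subgroup.normalizer (P : Set G)) :
    ∃ g ∈ N, MulAut.conj g • H = K := by
  by_cases hL : Subgroup.normalizer (P : Set G) = ⊤
  · have : P.Normal := Subgroup.normalizer_eq_top_iff.1 hL
    exact step_quot ih N H K P hP hcop hsolv hH hK hPH hPK
  · exact step_sub ih N H K _ hcop hsolv hH hK hHP hKP hL

private theorem conj_aux (n : ℕ) : IH.{u} n := by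
  induction n using Nat.strong_induction_on with
  | _ n ihn =>
  intro G _ _ hG N H K hNn hcop hsolv hH hK
  have ih : IH.{u} (Nat.card G) := ihn _ hG
  have hHc := (isComplement'_iff_card hcop).2 hH
  have hKc := (isComplement'_iff_card hcop).2 hK
  have hsolv' : Group.IsSolvable N ∨ Group.IsSolvable (G ⧸ N) :=
    hsolv.imp id (fun h => h hNn)
  rcases hsolv' with hN | hQ
  · -- `N` solvable
    by_cases hNbot : N = ⊥
    · subst hNbot
      refine ⟨1, one_mem _, ?_⟩
      rw [map_one, one_smul]
      have h1 := hHc.sup_eq_top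
      have h2 := hKc.sup_eq_top
      rw [bot_sup_eq] at h1 h2
      rw [h1, h2]
    have : Nontrivial N := (Subgroup.nontrivial_iff_ne_bot N).2 hNbot
    let M : Subgroup G := (_root_.commutator ↥N).map N.subtype
    have hMN : M ≤ N := Subgroup.map_subtype_le _
    have hMne : M ≠ N := by
      intro h
      have h2 : M = (⊤ : Subgroup N).map N.subtype := by
        rw [← MonoidHom.range_eq_map, Subgroup.range_subtype, h]
      exact (Group.IsSolvable.commutator_lt_top_of_nontrivial N).ne
        (Subgroup.map_injective N.subtype_injective h2)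
    have hMnormal : M.Normal := inferInstance
    by_cases hM : M = ⊥
    · have : IsMulCommutative N := by
        refine ⟨⟨fun a b => ?_⟩⟩
        rw [← commutatorElement_eq_one_iff_mul_comm]
        have : ⁅a, b⁆ ∈ _root_.commutator ↥N :=
          Subgroup.commutator_mem_commutator (Subgroup.mem_top a) (Subgroup.mem_top b)
        apply N.subtype_injective
        have h2 : N.subtype ⁅a, b⁆ ∈ M := Subgroup.mem_map_of_mem _ this
        rw [hM, Subgroup.mem_bot] at h2
        simpa using h2
      exact conj_of_abelian N hcop hHc hKc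
    set π := QuotientGroup.mk' M
    have hπs : Function.Surjective π := QuotientGroup.mk'_surjective M
    have hlt : Nat.card (G ⧸ M) < Nat.card G := by
      rw [← Subgroup.index_eq_card, ← M.card_mul_index]
      exact lt_mul_of_one_lt_left (Nat.pos_of_ne_zero M.index_ne_zero_of_finite)
        (M.one_lt_card_iff_ne_bot.mpr hM)
    have hker : π.ker = M := QuotientGroup.ker_mk' M
    have hidx : (N.map π).index = N.index := Subgroup.index_map_eq N hπs (hker.le.trans hMN)
    have hdis : ∀ {L : Subgroup G}, Nat.card L = N.index → L ⊓ M = ⊥ := fun {L} hL =>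
      Subgroup.inf_eq_bot_of_coprime (by
        rw [hL]; exact hcop.symm.coprime_dvd_right (Subgroup.card_dvd_of_le hMN))
    have hcard : ∀ {L : Subgroup G}, Nat.card L = N.index →
        Nat.card (L.map π) = (N.map π).index := by
      intro L hL
      rw [hidx, ← hL]
      refine (Nat.card_congr (Equiv.ofBijective (π.subgroupMap L)
        ⟨?_, π.subgroupMap_surjective L⟩)).symm
      rw [injective_iff_map_eq_one]
      intro x hx
      apply Subtype.ext
      have h3 : (x : G) ∈ π.ker := congrArg (fun y : L.map π => (y : G ⧸ M)) hx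
      have h4 : (x : G) ∈ L ⊓ M := ⟨x.2, hker ▸ h3⟩
      rw [hdis hL, Subgroup.mem_bot] at h4
      exact h4
    obtain ⟨g, hg, hgH⟩ := ih (G ⧸ M) hlt (N.map π) (H.map π) (K.map π)
      (Subgroup.Normal.map inferInstance π hπs)
      (by rw [hidx]; exact hcop.coprime_dvd_left (Subgroup.card_map_dvd N π))
      (Or.inl (Group.isSolvable_of_surjective (π.subgroupMap_surjective N)))
      (hcard hH) (hcard hK)
    obtain ⟨g, hgN, rfl⟩ := Subgroup.mem_map.1 hg
    rw [← map_conj_smul] at hgH
    have hH' : Nat.card ↥(MulAut.conj g • H) = N.index := by rw [card_conj_smul, hH]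
    have hLne : M ⊔ K ≠ ⊤ := by
      intro htop
      have hdis2 : M ⊓ K = ⊥ := by rw [inf_comm]; exact hdis hK
      have : Subgroup.IsComplement' M K := by
        refine Subgroup.isComplement'_of_disjoint_and_mul_eq_univ (disjoint_iff.2 hdis2) ?_
        rw [← Subgroup.normal_mul, htop, Subgroup.coe_top]
      have h5 := this.card_mul_card
      have h6 := hKc.card_mul_card
      have h7 : Nat.card M = Nat.card N :=
        Nat.eq_of_mul_eq_mul_right Nat.card_pos (h5.trans h6.symm)
      exact hMne (Subgroup.eq_of_le_of_card_ge hMN h7.ge)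
    have hsub : MulAut.conj g • H ≤ M ⊔ K := by
      have h1 : MulAut.conj g • H ≤ (K.map π).comap π := hgH ▸ Subgroup.le_comap_map π _
      rwa [Subgroup.comap_map_eq, hker, sup_comm] at h1
    obtain ⟨g', hg', hg'H⟩ := step_sub ih N _ K (M ⊔ K) hcop (Or.inl hN) hH' hK hsub
      le_sup_right hLne
    exact ⟨g' * g, N.mul_mem hg' hgN, by rw [conj_smul_mul, hg'H]⟩
  · -- `G ⧸ N` solvable
    by_cases hNtop : N.index = 1
    · refine ⟨1, one_mem _, ?_⟩
      rw [map_one, one_smul, Subgroup.card_eq_one.1 (hH.trans hNtop),
        Subgroup.card_eq_one.1 (hK.trans hNtop)]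
    have : Nontrivial (G ⧸ N) := by
      rw [← Finite.one_lt_card_iff_nontrivial, ← Subgroup.index_eq_card]
      have := Subgroup.index_ne_zero_of_finite (H := N)
      omega
    let q := QuotientGroup.mk' N
    let M : Subgroup G := (_root_.commutator (G ⧸ N)).comap q
    have hNM : N ≤ M := fun x hx => by
      change q x ∈ _root_.commutator (G ⧸ N)
      rw [show q x = 1 from (QuotientGroup.eq_one_iff x).2 hx]
      exact one_mem _
    have hMtop : M ≠ ⊤ := by
      intro h
      apply (Group.IsSolvable.commutator_lt_top_of_nontrivial (G ⧸ N)).ne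
      exact Subgroup.comap_injective (QuotientGroup.mk'_surjective N)
        (h.trans (Subgroup.comap_top q).symm)
    by_cases hM : M = N
    · -- the quotient is abelian, so are the complements
      have hab : ∀ L : Subgroup G, Nat.card L = N.index →
          ∀ a ∈ L, ∀ b ∈ L, a * b = b * a := by
        intro L hL a ha b hb
        rw [← commutatorElement_eq_one_iff_mul_comm, ← Subgroup.mem_bot]
        have h1 : L ⊓ N = ⊥ := Subgroup.inf_eq_bot_of_coprime (by rw [hL]; exact hcop.symm)
        rw [← h1]
        refine ⟨?_, ?_⟩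
        · rw [commutatorElement_def]
          exact L.mul_mem (L.mul_mem (L.mul_mem ha hb) (L.inv_mem ha)) (L.inv_mem hb)
        · change ⁅a, b⁆ ∈ N
          rw [← hM]
          change q ⁅a, b⁆ ∈ _root_.commutator (G ⧸ N)
          rw [map_commutatorElement]
          exact Subgroup.commutator_mem_commutator (Subgroup.mem_top _) (Subgroup.mem_top _)
      obtain ⟨p, hp, hpd⟩ := Nat.exists_prime_and_dvd hNtop
      have := Fact.mk hp
      obtain ⟨P⟩ := (inferInstance : Nonempty (Sylow p H))
      obtain ⟨Q⟩ := (inferInstance : Nonempty (Sylow p K))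
      have hnd : ¬ p ∣ Nat.card N := fun h => by
        have := Nat.dvd_gcd h hpd
        rw [hcop] at this
        exact hp.one_lt.ne' (Nat.dvd_one.1 this)
      have hfac : (Nat.card G).factorization p = N.index.factorization p := by
        rw [← N.card_mul_index, Nat.factorization_mul Nat.card_pos.ne'
          N.index_ne_zero_of_finite, Finsupp.add_apply,
          Nat.factorization_eq_zero_of_not_dvd hnd, zero_add]
      have hsylow : ∀ {L : Subgroup G} (R : Sylow p L), Nat.card L = N.index →
          Nat.card ((R : Subgroup L).map L.subtype) = p ^ (Nat.card G).factorization p := by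
        intro L R hL
        rw [Subgroup.card_map_of_injective L.subtype_injective, R.card_eq_multiplicity, hL, hfac]
      let P' : Sylow p G := Sylow.ofCard _ (hsylow P hH)
      let Q' : Sylow p G := Sylow.ofCard _ (hsylow Q hK)
      obtain ⟨g, hg⟩ := MulAction.exists_smul_eq G P' Q'
      -- move `g` into `N`
      obtain ⟨⟨⟨a, ha⟩, ⟨b, hb⟩⟩, rfl⟩ := hHc.2 g
      have hHP : ∀ x ∈ H, x ∈ Subgroup.normalizer ((P' : Subgroup G) : Set G) := by
        intro x hx
        rw [Subgroup.mem_normalizer_iff]
        intro y
        have hPH : (P' : Subgroup G) ≤ H := Subgroup.map_subtype_le _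
        constructor
        · intro hy
          rw [hab H hH x hx y (hPH hy), mul_inv_cancel_right]
          exact hy
        · intro hy
          have h1 := hPH hy
          have h2 : y = x * y * x⁻¹ := by
            have := hab H hH (x * y * x⁻¹) h1 x hx
            rw [inv_mul_cancel_right] at this
            exact mul_left_cancel (this.trans rfl)
          rwa [h2]
      have hg' : MulAut.conj a • (P' : Subgroup G) = Q' := by
        have h1 : MulAut.conj (a * b) • (P' : Subgroup G) = Q' := by
          rw [← hg]; rfl
        rwa [conj_smul_mul, conj_smul_eq_self (hHP b hb)] at h1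
      have hH' : Nat.card ↥(MulAut.conj a • H) = N.index := by rw [card_conj_smul, hH]
      have hQne : (Q' : Subgroup G) ≠ ⊥ := by
        intro h
        have h1 : (1:ℕ) = p ^ (Nat.card G).factorization p := by
          rw [← Q'.card_eq_multiplicity, h, Subgroup.card_bot]
        rw [hfac] at h1
        have := (Nat.pow_eq_one.1 h1.symm).resolve_left hp.one_lt.ne'
        exact (hp.factorization_pos_of_dvd N.index_ne_zero_of_finite hpd).ne' this
      have hQK : (Q' : Subgroup G) ≤ K := Subgroup.map_subtype_le _
      have hQH : (Q' : Subgroup G) ≤ MulAut.conj a • H := by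
        rw [← hg']
        exact Subgroup.pointwise_smul_le_pointwise_smul_iff.2 (Subgroup.map_subtype_le _)
      have hnorm : ∀ L : Subgroup G, Nat.card L = N.index → (Q' : Subgroup G) ≤ L →
          L ≤ Subgroup.normalizer ((Q' : Subgroup G) : Set G) := by
        intro L hL hQL x hx
        have hc : ∀ y ∈ L, x * y * x⁻¹ = y := fun y hy => by
          rw [hab L hL x hx y hy, mul_inv_cancel_right]
        rw [Subgroup.mem_normalizer_iff]
        intro y
        constructor
        · intro hy; rwa [hc y (hQL hy)]
        · intro hy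
          have h1 : y ∈ L := by
            have := L.mul_mem (L.mul_mem (L.inv_mem hx) (hQL hy)) hx
            simpa [mul_assoc] using this
          rwa [hc y h1] at hy
      obtain ⟨g', hgN', hgH'⟩ := step_common ih N _ K (Q' : Subgroup G) hQne hcop (Or.inr hQ)
        hH' hK hQH hQK (hnorm _ hH' hQH) (hnorm _ hK hQK)
      exact ⟨g' * a, N.mul_mem hgN' ha, by rw [conj_smul_mul, hgH']⟩
    · -- intersect with `M`
      have hltM : Nat.card M < Nat.card G := by
        rw [← M.card_mul_index]
        exact lt_mul_of_one_lt_right Nat.card_pos (Subgroup.one_lt_index_of_ne_top hMtop)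
      have hMidx : (N.subgroupOf M).index = N.relIndex M := rfl
      have hMcard : Nat.card N * N.relIndex M = Nat.card M := by
        rw [← Subgroup.relIndex_bot_left, ← Subgroup.relIndex_bot_left,
          Subgroup.relIndex_mul_relIndex _ _ _ bot_le hNM]
      have hdiv : N.relIndex M ∣ N.index := Subgroup.relIndex_dvd_index_of_normal N M
      have hNc : Nat.card (N.subgroupOf M) = Nat.card N :=
        Nat.card_congr (Subgroup.subgroupOfEquivOfLe hNM).toEquiv
      have hcop' : (Nat.card (N.subgroupOf M)).Coprime (N.subgroupOf M).index := by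
        rw [hNc, hMidx]; exact hcop.coprime_dvd_right hdiv
      have hint : ∀ {L : Subgroup G}, Subgroup.IsComplement' N L → Nat.card L = N.index →
          Nat.card (L.subgroupOf M) = (N.subgroupOf M).index := by
        intro L hL hLc
        refine (isComplement'_iff_card hcop').1 ?_
        refine Subgroup.isComplement'_of_disjoint_and_mul_eq_univ ?_ ?_
        · rw [disjoint_iff, ← subgroupOf_inf',
            Subgroup.inf_eq_bot_of_coprime (by rw [hLc]; exact hcop), Subgroup.bot_subgroupOf]
        · refine Set.eq_univ_of_forall fun m => ?_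
          obtain ⟨⟨⟨a, ha⟩, ⟨b, hb⟩⟩, hab⟩ := hL.2 (m : G)
          change a * b = (m : G) at hab
          have hbM : b ∈ M := by
            have : b = a⁻¹ * m := by rw [← hab]; simp
            rw [this]
            exact M.mul_mem (M.inv_mem (hNM ha)) m.2
          exact ⟨⟨a, hNM ha⟩, ha, ⟨b, hbM⟩, hb, Subtype.ext hab⟩
      have hsolvM : Group.IsSolvable (N.subgroupOf M) ∨
          ∀ _ : (N.subgroupOf M).Normal, Group.IsSolvable (M ⧸ N.subgroupOf M) := by
        right
        intro _
        refine Group.isSolvable_of_isSolvable_injective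
          (f := QuotientGroup.map (N.subgroupOf M) N M.subtype (fun x hx => hx)) ?_
        rw [injective_iff_map_eq_one]
        intro x
        induction x using QuotientGroup.induction_on with
        | H z =>
          intro hz
          have hz' : (M.subtype z : G) ∈ N := (QuotientGroup.eq_one_iff _).1 hz
          exact (QuotientGroup.eq_one_iff z).2 hz'
      obtain ⟨g, hgN, hg⟩ := ih M hltM (N.subgroupOf M) (H.subgroupOf M) (K.subgroupOf M)
        inferInstance hcop' hsolvM (hint hHc hH) (hint hKc hK)
      have hMn : M.Normal := inferInstance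
      have hg2 := congrArg (Subgroup.map M.subtype) hg
      rw [map_conj_smul, Subgroup.subgroupOf_map_subtype, Subgroup.subgroupOf_map_subtype] at hg2
      have hMfix : MulAut.conj (g : G) • M = M :=
        conj_smul_eq_self (by rw [Subgroup.normalizer_eq_top_iff.2 hMn]; trivial)
      have hg3 : MulAut.conj (g : G) • H ⊓ M = K ⊓ M := by
        rw [← hg2]
        conv_lhs => arg 2; rw [← hMfix]
        rw [← Subgroup.smul_inf]
        rfl
      have hKne : K ⊓ M ≠ ⊥ := by
        intro h
        apply hM
        refine le_antisymm (fun m hm => ?_) hNM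
        obtain ⟨⟨⟨a, ha⟩, ⟨b, hb⟩⟩, hab⟩ := hKc.2 m
        change a * b = m at hab
        have hbM : b ∈ K ⊓ M := by
          refine ⟨hb, ?_⟩
          have : b = a⁻¹ * m := by rw [← hab]; simp
          rw [this]
          exact M.mul_mem (M.inv_mem (hNM ha)) hm
        rw [h, Subgroup.mem_bot] at hbM
        rw [← hab, hbM, mul_one]
        exact ha
      have hnorm : ∀ L : Subgroup G, L ≤ Subgroup.normalizer ((L ⊓ M : Subgroup G) : Set G) := by
        intro L x hx
        refine Subgroup.inf_normalizer_le_normalizer_inf ⟨Subgroup.le_normalizer hx, ?_⟩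
        rw [Subgroup.normalizer_eq_top_iff.2 hMn]; trivial
      have hH' : Nat.card ↥(MulAut.conj (g : G) • H) = N.index := by rw [card_conj_smul, hH]
      obtain ⟨g', hgN', hgH'⟩ := step_common ih N _ K (K ⊓ M) hKne hcop (Or.inr hQ)
        hH' hK (hg3 ▸ inf_le_left) inf_le_left (hg3 ▸ hnorm _) (hnorm K)
      exact ⟨g' * g, N.mul_mem hgN' hgN, by rw [conj_smul_mul, hgH']⟩

end relative

/-- **Schur-Zassenhaus conjugacy.** -/
theorem exists_conj_of_isComplement' [Finite G] (N : Subgroup G) [N.Normal]
    (hN : (Nat.card N).Coprime N.index) (hsolv : Group.IsSolvable N ∨ Group.IsSolvable (G ⧸ N))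
    {H K : Subgroup G} (hH : Subgroup.IsComplement' N H) (hK : Subgroup.IsComplement' N K) :
    ∃ n ∈ N, MulAut.conj n • H = K :=
  conj_aux _ G (Nat.lt_succ_self _) N H K inferInstance hN (hsolv.imp id (fun h _ => h))
    ((isComplement'_iff_card hN).1 hH) ((isComplement'_iff_card hN).1 hK)

/-- Relative form: two subgroups of the same order coprime to `N` inside `N ⊔ A`. -/
theorem exists_conj_of_card_eq [Finite G] {N A B : Subgroup G}
    (hAN : A ≤ Subgroup.normalizer (N : Set G)) (hcop : (Nat.card A).Coprime (Nat.card N))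
    (hsolv : Group.IsSolvable A ∨ Group.IsSolvable N)
    (hB : B ≤ N ⊔ A) (hcard : Nat.card B = Nat.card A) :
    ∃ n ∈ N, MulAut.conj n • A = B := by
  set L := N ⊔ A with hL
  have hnn : (N.subgroupOf L).Normal := by
    apply Subgroup.normal_subgroupOf_of_le_normalizer
    exact sup_le Subgroup.le_normalizer hAN
  have hNc : Nat.card (N.subgroupOf L) = Nat.card N :=
    Nat.card_congr (Subgroup.subgroupOfEquivOfLe le_sup_left).toEquiv
  have hAc : Nat.card (A.subgroupOf L) = Nat.card A :=
    Nat.card_congr (Subgroup.subgroupOfEquivOfLe le_sup_right).toEquiv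
  have hc : Subgroup.IsComplement' (N.subgroupOf L) (A.subgroupOf L) := by
    refine Subgroup.isComplement'_of_disjoint_and_mul_eq_univ ?_ ?_
    · rw [disjoint_iff, ← subgroupOf_inf', Subgroup.inf_eq_bot_of_coprime hcop.symm,
        Subgroup.bot_subgroupOf]
    · rw [← Subgroup.normal_mul, ← Subgroup.subgroupOf_sup le_sup_left le_sup_right,
        Subgroup.subgroupOf_self, Subgroup.coe_top]
  have hidx : (N.subgroupOf L).index = Nat.card A := by
    rw [← hAc]; exact hc.symm.index_eq_card
  have hcop' : (Nat.card (N.subgroupOf L)).Coprime (N.subgroupOf L).index := by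
    rw [hNc, hidx]; exact hcop.symm
  have hsolv' : Group.IsSolvable (N.subgroupOf L) ∨ Group.IsSolvable (L ⧸ N.subgroupOf L) := by
    rcases hsolv with h | h
    · right
      refine Group.isSolvable_of_surjective (G := A)
        (f := (QuotientGroup.mk' (N.subgroupOf L)).comp
          (Subgroup.inclusion (le_sup_right : A ≤ L))) ?_
      intro y
      induction y using QuotientGroup.induction_on with
      | H z =>
        obtain ⟨⟨⟨a, ha⟩, ⟨b, hb⟩⟩, hab⟩ := hc.2 z
        refine ⟨⟨(b : G), hb⟩, ?_⟩
        change a * b = z at hab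
        change (QuotientGroup.mk b : L ⧸ N.subgroupOf L) = QuotientGroup.mk z
        rw [← hab, QuotientGroup.mk_mul, (QuotientGroup.eq_one_iff a).2 ha, one_mul]
    · left
      exact Group.isSolvable_of_surjective
        (f := (Subgroup.subgroupOfEquivOfLe (le_sup_left : N ≤ L)).symm.toMonoidHom)
        (Subgroup.subgroupOfEquivOfLe (le_sup_left : N ≤ L)).symm.surjective
  have hBc : Subgroup.IsComplement' (N.subgroupOf L) (B.subgroupOf L) :=
    (isComplement'_iff_card hcop').2 (by
      rw [hidx, Nat.card_congr (Subgroup.subgroupOfEquivOfLe hB).toEquiv, hcard])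
  obtain ⟨n, hn, h⟩ := exists_conj_of_isComplement' _ hcop' hsolv' hc hBc
  refine ⟨n, hn, ?_⟩
  have := congrArg (Subgroup.map L.subtype) h
  rwa [map_conj_smul, Subgroup.map_subgroupOf_eq_of_le le_sup_right,
    Subgroup.map_subgroupOf_eq_of_le hB] at this

end Cfsg.Agent.CoprimeSZ
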