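import Mathlib
import Cfsg.Agent.Lib.CoprimeSZ

/-!
Coprime action of a subgroup `A ≤ normalizer K` on `K`, all inside one finite group.
-/

namespace Cfsg.Agent.CoprimeAction

open scoped Pointwise commutatorElement
open Cfsg.Agent.CoprimeSZ

variable {G : Type*} [Group G]

theorem isSolvable_zpowers (a : G) : Group.IsSolvable (Subgroup.zpowers a) :=
  Group.isSolvable_of_comm fun x y => mul_comm' x y

theorem isSolvable_of_le {H K : Subgroup G} (h : H ≤ K) [Group.IsSolvable K] :
    Group.IsSolvable H :=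
  Group.isSolvable_of_isSolvable_injective (Subgroup.inclusion_injective h)

theorem isSolvable_or_of_le {A K D : Subgroup G} (h : D ≤ K)
    (hsolv : Group.IsSolvable A ∨ Group.IsSolvable K) :
    Group.IsSolvable A ∨ Group.IsSolvable D :=
  hsolv.imp id fun h' => @isSolvable_of_le _ _ _ _ h h'

theorem isSolvable_of_isPGroup [Finite G] {p : ℕ} [Fact p.Prime] {H : Subgroup G}
    (h : IsPGroup p H) : Group.IsSolvable H :=
  have := h.isNilpotent
  inferInstance

theorem coprime_of_le_right {A D K : Subgroup G} (h : D ≤ K)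
    (hcop : (Nat.card A).Coprime (Nat.card K)) : (Nat.card A).Coprime (Nat.card D) :=
  hcop.coprime_dvd_right (Subgroup.card_dvd_of_le h)

theorem coprime_of_le_left {A B K : Subgroup G} (h : B ≤ A)
    (hcop : (Nat.card A).Coprime (Nat.card K)) : (Nat.card B).Coprime (Nat.card K) :=
  hcop.coprime_dvd_left (Subgroup.card_dvd_of_le h)

theorem conj_mem {K : Subgroup G} {a k : G} (ha : a ∈ Subgroup.normalizer (K : Set G))
    (hk : k ∈ K) : a * k * a⁻¹ ∈ K :=
  (Subgroup.mem_normalizer_iff.1 ha k).1 hk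

theorem conj_mem' {K : Subgroup G} {a k : G} (ha : a ∈ Subgroup.normalizer (K : Set G))
    (hk : k ∈ K) : a⁻¹ * k * a ∈ K := by
  simpa using conj_mem (inv_mem ha) hk

theorem mem_centralizer_iff_conj {A : Subgroup G} {x : G} :
    x ∈ Subgroup.centralizer (A : Set G) ↔ ∀ a ∈ A, a * x * a⁻¹ = x := by
  rw [Subgroup.mem_centralizer_iff]
  exact forall₂_congr fun a _ => mul_inv_eq_iff_eq_mul.symm

/-- If `A` normalises `H` and `K` then it normalises their intersection. -/
theorem le_normalizer_inf {A H K : Subgroup G} (hH : A ≤ Subgroup.normalizer (H : Set G))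
    (hK : A ≤ Subgroup.normalizer (K : Set G)) :
    A ≤ Subgroup.normalizer ((H ⊓ K : Subgroup G) : Set G) := fun _ ha =>
  Subgroup.inf_normalizer_le_normalizer_inf ⟨hH ha, hK ha⟩

/-- `A` normalises `centralizer A`. -/
theorem le_normalizer_centralizer_self (A : Subgroup G) :
    A ≤ Subgroup.normalizer (Subgroup.centralizer (A : Set G) : Set G) := by
  intro a ha
  rw [Subgroup.mem_normalizer_iff]
  intro x
  constructor
  · intro hx
    have := (mem_centralizer_iff_conj.1 hx) a ha
    rwa [this]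
  · intro hx
    have h1 := (mem_centralizer_iff_conj.1 hx) a⁻¹ (inv_mem ha)
    have h2 : x = a * x * a⁻¹ := by
      simpa [mul_assoc] using h1
    rwa [h2]

/-- A subgroup `B` is normalised by `A` as soon as all conjugates of elements stay inside. -/
theorem le_normalizer_of_conj_mem {A B : Subgroup G}
    (h : ∀ a ∈ A, ∀ b ∈ B, a * b * a⁻¹ ∈ B) : A ≤ Subgroup.normalizer (B : Set G) := by
  intro a ha
  rw [Subgroup.mem_normalizer_iff]
  intro b
  refine ⟨h a ha b, fun hb => ?_⟩
  simpa [mul_assoc] using h a⁻¹ (inv_mem ha) _ hb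

theorem mem_normalizer_of_conj_smul_eq {g : G} {H : Subgroup G} (h : MulAut.conj g • H = H) :
    g ∈ Subgroup.normalizer (H : Set G) := by
  rw [Subgroup.mem_normalizer_iff'']
  intro x
  rw [← mem_conj_smul, h]

variable [Finite G]

/-- **Fixed point in an invariant coset.** If the left coset `k D` is invariant under `A`, with
`|A|`, `|D|` coprime, it contains an element centralised by `A`. -/
theorem exists_fixed_mem_coset {A D : Subgroup G} (hAD : A ≤ Subgroup.normalizer (D : Set G))
    (hcop : (Nat.card A).Coprime (Nat.card D))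
    (hsolv : Group.IsSolvable A ∨ Group.IsSolvable D) (k : G)
    (hfix : ∀ a ∈ A, k⁻¹ * a * k * a⁻¹ ∈ D) :
    ∃ c, c ∈ Subgroup.centralizer (A : Set G) ∧ k⁻¹ * c ∈ D := by
  have hB : MulAut.conj k⁻¹ • A ≤ D ⊔ A := by
    intro x hx
    rw [mem_conj_smul, inv_inv] at hx
    have h1 := hfix _ hx
    have h2 : x = k⁻¹ * (k * x * k⁻¹) * k * (k * x * k⁻¹)⁻¹ * (k * x * k⁻¹) := by
      simp [mul_assoc]
    rw [h2]
    exact mul_mem (Subgroup.mem_sup_left h1) (Subgroup.mem_sup_right hx)
  obtain ⟨d, hd, hdA⟩ := exists_conj_of_card_eq hAD hcop hsolv hB (card_conj_smul _ _)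
  refine ⟨k * d, ?_, by rwa [inv_mul_cancel_left]⟩
  have hc : MulAut.conj (k * d) • A = A := by
    rw [conj_smul_mul, hdA, ← conj_smul_mul, mul_inv_cancel, map_one, one_smul]
  rw [mem_centralizer_iff_conj]
  intro a ha
  have h1 : (k * d)⁻¹ * a * (k * d) * a⁻¹ ∈ A :=
    mul_mem (conj_mem' (mem_normalizer_of_conj_smul_eq hc) ha) (inv_mem ha)
  have h2 : (k * d)⁻¹ * a * (k * d) * a⁻¹ ∈ D := by
    have : (k * d)⁻¹ * a * (k * d) * a⁻¹ =
        d⁻¹ * (k⁻¹ * a * k * a⁻¹) * (a * d * a⁻¹) := by simp [mul_assoc]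
    rw [this]
    exact mul_mem (mul_mem (inv_mem hd) (hfix a ha)) (conj_mem (hAD ha) hd)
  have h3 : (k * d)⁻¹ * a * (k * d) * a⁻¹ = 1 := by
    have h4 : (k * d)⁻¹ * a * (k * d) * a⁻¹ ∈ A ⊓ D := ⟨h1, h2⟩
    rwa [Subgroup.inf_eq_bot_of_coprime hcop, Subgroup.mem_bot] at h4
  rw [mul_inv_eq_one, mul_assoc, inv_mul_eq_iff_eq_mul] at h3
  rw [h3, mul_inv_cancel_right]

/-- The invariant-coset lemma for the cyclic group generated by one element: it is enough to
check the generator, and no solvability is needed. -/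
theorem exists_fixed_mem_coset_zpowers {a : G} {D : Subgroup G}
    (haD : a ∈ Subgroup.normalizer (D : Set G)) (hcop : (orderOf a).Coprime (Nat.card D)) (k : G)
    (hfix : k⁻¹ * a * k * a⁻¹ ∈ D) :
    ∃ c, a * c = c * a ∧ k⁻¹ * c ∈ D := by
  have hpow : ∀ n : ℕ, k⁻¹ * a ^ n * k * (a ^ n)⁻¹ ∈ D := by
    intro n
    induction n with
    | zero => simp
    | succ n ih =>
      have : k⁻¹ * a ^ (n + 1) * k * (a ^ (n + 1))⁻¹ =
          (k⁻¹ * a * k * a⁻¹) * (a * (k⁻¹ * a ^ n * k * (a ^ n)⁻¹) * a⁻¹) := by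
        rw [pow_succ']
        simp [mul_assoc]
      rw [this]
      exact mul_mem hfix (conj_mem haD ih)
  obtain ⟨c, hc, hck⟩ := exists_fixed_mem_coset (A := Subgroup.zpowers a)
    (by rw [Subgroup.zpowers_le]; exact haD) (by rwa [Nat.card_zpowers])
    (Or.inl (isSolvable_zpowers a)) k (fun x hx => by
      obtain ⟨n, rfl⟩ := mem_powers_iff_mem_zpowers.2 hx
      exact hpow n)
  exact ⟨c, Subgroup.mem_centralizer_iff.1 hc a (Subgroup.mem_zpowers a), hck⟩

/-- Fixed points of a quotient are images of fixed points (normal-subgroup form). -/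
theorem exists_fixed_mem_coset_of_normal {A D : Subgroup G}
    (hAD : A ≤ Subgroup.normalizer (D : Set G))
    (hcop : (Nat.card A).Coprime (Nat.card D))
    (hsolv : Group.IsSolvable A ∨ Group.IsSolvable D) {k : G}
    (hk : k ∈ Subgroup.normalizer (D : Set G))
    (hfix : ∀ a ∈ A, a * k * a⁻¹ * k⁻¹ ∈ D) :
    ∃ c, c ∈ Subgroup.centralizer (A : Set G) ∧ k⁻¹ * c ∈ D := by
  refine exists_fixed_mem_coset hAD hcop hsolv k fun a ha => ?_
  have h1 := conj_mem' hk (hfix a ha)
  simpa [mul_assoc] using h1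

/-- If `A` centralises `D` and acts trivially on the cosets `k D`, then it centralises `k`
(coprime stability; no solvability needed). -/
theorem mem_centralizer_of_stabilizes {A D : Subgroup G}
    (hcop : (Nat.card A).Coprime (Nat.card D)) (hD : D ≤ Subgroup.centralizer (A : Set G)) (k : G)
    (hfix : ∀ a ∈ A, k⁻¹ * a * k * a⁻¹ ∈ D) : k ∈ Subgroup.centralizer (A : Set G) := by
  rw [Subgroup.mem_centralizer_iff]
  intro a ha
  obtain ⟨c, hc, hck⟩ := exists_fixed_mem_coset_zpowers (a := a)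
    (Subgroup.centralizer_le_normalizer _ (by
      rw [Subgroup.mem_centralizer_iff]
      intro d hd
      exact (Subgroup.mem_centralizer_iff.1 (hD hd) a ha).symm))
    (hcop.coprime_dvd_left (Subgroup.orderOf_dvd_natCard A ha)) k (hfix a ha)
  have hd : Commute a (k⁻¹ * c) := Subgroup.mem_centralizer_iff.1 (hD hck) a ha
  have : Commute a k := by
    have h : k = c * (k⁻¹ * c)⁻¹ := by simp
    rw [h]
    exact (show Commute a c from hc).mul_right hd.inv_right
  exact this

/-- Coprime stability for a normal series `N ≤ K`. -/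
theorem le_centralizer_of_stabilizes {A K N : Subgroup G}
    (hcop : (Nat.card A).Coprime (Nat.card N)) (hN : N ≤ Subgroup.centralizer (A : Set G))
    (hfix : ∀ a ∈ A, ∀ k ∈ K, k⁻¹ * a * k * a⁻¹ ∈ N) :
    A ≤ Subgroup.centralizer (K : Set G) := by
  intro a ha
  rw [Subgroup.mem_centralizer_iff]
  intro k hk
  exact (Subgroup.mem_centralizer_iff.1
    (mem_centralizer_of_stabilizes hcop hN k fun b hb => hfix b hb k hk) a ha).symm

section commutator

variable {A K : Subgroup G}

omit [Finite G] in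
theorem commutator_le_self_of_le_normalizer (hAK : A ≤ Subgroup.normalizer (K : Set G)) :
    ⁅K, A⁆ ≤ K :=
  Subgroup.le_normalizer_iff_commutator_le_left.1 hAK

/-- Every element of `K` is a product of an element of `[K,A]` and a fixed point. -/
theorem exists_mul_fixed (hAK : A ≤ Subgroup.normalizer (K : Set G))
    (hcop : (Nat.card A).Coprime (Nat.card K))
    (hsolv : Group.IsSolvable A ∨ Group.IsSolvable K) {k : G} (hk : k ∈ K) :
    ∃ x ∈ ⁅K, A⁆, ∃ c ∈ K ⊓ Subgroup.centralizer (A : Set G), k = x * c := by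
  have hle := commutator_le_self_of_le_normalizer hAK
  obtain ⟨c, hc, hkc⟩ := exists_fixed_mem_coset (D := ⁅K, A⁆)
    (Subgroup.normalizer_commutator_ge_right K A) (coprime_of_le_right hle hcop)
    (isSolvable_or_of_le hle hsolv) k (fun a ha => by
      have := Subgroup.commutator_mem_commutator (inv_mem hk) ha
      simpa [commutatorElement_def] using this)
  have hcK : c ∈ K := by
    have := K.mul_mem hk (hle hkc)
    simpa using this
  refine ⟨k * c⁻¹, ?_, c, ⟨hcK, hc⟩, by simp⟩
  have h1 := conj_mem (Subgroup.normalizer_commutator_ge_left K A hk) (inv_mem hkc)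
  simpa [mul_assoc] using h1

/-- `K = [K,A] C_K(A)`. -/
theorem commutator_sup_centralizer_eq (hAK : A ≤ Subgroup.normalizer (K : Set G))
    (hcop : (Nat.card A).Coprime (Nat.card K))
    (hsolv : Group.IsSolvable A ∨ Group.IsSolvable K) :
    ⁅K, A⁆ ⊔ (K ⊓ Subgroup.centralizer (A : Set G)) = K := by
  refine le_antisymm (sup_le (commutator_le_self_of_le_normalizer hAK) inf_le_left) fun k hk => ?_
  obtain ⟨x, hx, c, hc, rfl⟩ := exists_mul_fixed hAK hcop hsolv hk
  exact mul_mem (Subgroup.mem_sup_left hx) (Subgroup.mem_sup_right hc)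

/-- `[K,A,A] = [K,A]`. -/
theorem commutator_commutator_eq (hAK : A ≤ Subgroup.normalizer (K : Set G))
    (hcop : (Nat.card A).Coprime (Nat.card K))
    (hsolv : Group.IsSolvable A ∨ Group.IsSolvable K) :
    ⁅⁅K, A⁆, A⁆ = ⁅K, A⁆ := by
  refine le_antisymm
    (commutator_le_self_of_le_normalizer (Subgroup.normalizer_commutator_ge_right K A)) ?_
  rw [Subgroup.commutator_le]
  intro k hk a ha
  obtain ⟨x, hx, c, hc, rfl⟩ := exists_mul_fixed hAK hcop hsolv hk
  have h1 : ⁅x * c, a⁆ = ⁅x, a⁆ := by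
    have h2 : c * a * c⁻¹ = a := by
      rw [← Subgroup.mem_centralizer_iff.1 hc.2 a ha, mul_inv_cancel_right]
    calc ⁅x * c, a⁆ = x * (c * a * c⁻¹) * x⁻¹ * a⁻¹ := by simp [commutatorElement_def, mul_assoc]
      _ = ⁅x, a⁆ := by rw [h2, commutatorElement_def]
  rw [h1]
  exact Subgroup.commutator_mem_commutator hx ha

/-- If `[K,A,A] = 1` then `A` centralises `K`. -/
theorem le_centralizer_of_commutator_commutator_eq_bot
    (hAK : A ≤ Subgroup.normalizer (K : Set G))
    (hcop : (Nat.card A).Coprime (Nat.card K))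
    (hsolv : Group.IsSolvable A ∨ Group.IsSolvable K) (h : ⁅⁅K, A⁆, A⁆ = ⊥) :
    A ≤ Subgroup.centralizer (K : Set G) := by
  rw [commutator_commutator_eq hAK hcop hsolv, Subgroup.commutator_comm] at h
  exact Subgroup.commutator_eq_bot_iff_le_centralizer.1 h

/-- Fixed points of an invariant product. -/
theorem exists_mul_fixed_of_product {X Y : Subgroup G} (hXA : A ≤ Subgroup.normalizer (X : Set G))
    (hYA : A ≤ Subgroup.normalizer (Y : Set G))
    (hcop : (Nat.card A).Coprime (Nat.card X))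
    (hsolv : Group.IsSolvable A ∨ Group.IsSolvable X)
    {x y : G} (hx : x ∈ X) (hy : y ∈ Y) (hxy : x * y ∈ Subgroup.centralizer (A : Set G)) :
    ∃ x' ∈ X ⊓ Subgroup.centralizer (A : Set G), ∃ y' ∈ Y ⊓ Subgroup.centralizer (A : Set G),
      x * y = x' * y' := by
  obtain ⟨c, hc, hxc⟩ := exists_fixed_mem_coset (D := X ⊓ Y) (le_normalizer_inf hXA hYA)
    (coprime_of_le_right inf_le_left hcop) (isSolvable_or_of_le inf_le_left hsolv) x
    (fun a ha => by
      have h1 : x⁻¹ * a * x * a⁻¹ ∈ X := by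
        have := mul_mem (inv_mem hx) (conj_mem (hXA ha) hx)
        simpa [mul_assoc] using this
      refine ⟨h1, ?_⟩
      have h2 := mem_centralizer_iff_conj.1 hxy a ha
      have h3 : x⁻¹ * a * x * a⁻¹ = y * (a * y * a⁻¹)⁻¹ := by
        apply mul_right_cancel (b := a * y * a⁻¹)
        rw [inv_mul_cancel_right]
        calc x⁻¹ * a * x * a⁻¹ * (a * y * a⁻¹) = x⁻¹ * (a * (x * y) * a⁻¹) := by simp [mul_assoc]
          _ = y := by rw [h2]; simp
      change _ ∈ Y
      rw [h3]
      exact mul_mem hy (inv_mem (conj_mem (hYA ha) hy)))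
  have hcX : c ∈ X := by
    have := X.mul_mem hx hxc.1
    simpa using this
  refine ⟨c, ⟨hcX, hc⟩, c⁻¹ * (x * y), ⟨?_, Subgroup.mul_mem _ (Subgroup.inv_mem _ hc) hxy⟩, by simp⟩
  have := Y.mul_mem (inv_mem hxc.2) hy
  simpa [mul_assoc] using this

/-- Fixed points in an image: `C` of the image is the image of `C`. -/
theorem map_inf_centralizer_eq {G' : Type*} [Group G'] (f : G →* G')
    (hAK : A ≤ Subgroup.normalizer (K : Set G)) (hcop : (Nat.card A).Coprime (Nat.card K))
    (hsolv : Group.IsSolvable A ∨ Group.IsSolvable K) :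
    (K ⊓ Subgroup.centralizer (A : Set G)).map f =
      K.map f ⊓ Subgroup.centralizer (A.map f : Set G') := by
  refine le_antisymm ?_ ?_
  · rintro _ ⟨x, hx, rfl⟩
    refine ⟨Subgroup.mem_map_of_mem f hx.1, ?_⟩
    change f x ∈ Subgroup.centralizer _
    rw [Subgroup.mem_centralizer_iff]
    rintro _ ⟨a, ha, rfl⟩
    rw [← map_mul, Subgroup.mem_centralizer_iff.1 hx.2 a ha, map_mul]
  · rintro _ ⟨⟨k, hk, rfl⟩, hC⟩
    have hker : A ≤ Subgroup.normalizer ((K ⊓ f.ker : Subgroup G) : Set G) := by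
      refine le_normalizer_inf hAK ?_
      rw [Subgroup.normalizer_eq_top_iff.2 (MonoidHom.normal_ker f)]
      exact le_top
    obtain ⟨c, hc, hkc⟩ := exists_fixed_mem_coset hker (coprime_of_le_right inf_le_left hcop)
      (isSolvable_or_of_le inf_le_left hsolv) k (fun a ha => by
        refine ⟨?_, ?_⟩
        · have := mul_mem (inv_mem hk) (conj_mem (hAK ha) hk)
          simpa [mul_assoc] using this
        · have h1 := mem_centralizer_iff_conj.1 hC (f a) (Subgroup.mem_map_of_mem f ha)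
          change f _ = 1
          calc f (k⁻¹ * a * k * a⁻¹) = (f k)⁻¹ * (f a * f k * (f a)⁻¹) := by simp [mul_assoc]
            _ = 1 := by rw [h1]; simp)
    have hcK : c ∈ K := by
      have := K.mul_mem hk hkc.1
      simpa using this
    refine ⟨c, ⟨hcK, hc⟩, ?_⟩
    have := (show f (k⁻¹ * c) = 1 from hkc.2)
    rw [map_mul, map_inv, inv_mul_eq_one] at this
    exact this.symm

end commutator

/-- The Frattini subgroup criterion: trivial action on `K/Φ(K)` with `|A|` coprime to `|Φ(K)|`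
implies trivial action on `K`. -/
theorem le_centralizer_of_frattini {A K : Subgroup G} (hAK : A ≤ Subgroup.normalizer (K : Set G))
    (hcop : (Nat.card A).Coprime (Nat.card (frattini K)))
    (htriv : ∀ a ∈ A, ∀ k ∈ K, a * k * a⁻¹ * k⁻¹ ∈ (frattini K).map K.subtype) :
    A ≤ Subgroup.centralizer (K : Set G) := by
  set D := (frattini K).map K.subtype with hD
  have : Group.IsNilpotent (frattini K) := frattini_nilpotent
  have hsolvD : Group.IsSolvable D :=
    Group.isSolvable_of_surjective (K.subtype.subgroupMap_surjective (frattini K))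
  have hKD : K ≤ Subgroup.normalizer (D : Set G) := by
    have h := Subgroup.le_normalizer_map (H := frattini K) K.subtype
    rw [Subgroup.normalizer_eq_top_iff.2 inferInstance, ← MonoidHom.range_eq_map,
      Subgroup.range_subtype] at h
    exact h
  have hAD : A ≤ Subgroup.normalizer (D : Set G) := by
    refine le_normalizer_of_conj_mem fun a ha d hd => ?_
    have := mul_mem (htriv a ha d (Subgroup.map_subtype_le _ hd)) hd
    simpa using this
  have hcopD : (Nat.card A).Coprime (Nat.card D) := by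
    rwa [hD, Subgroup.card_map_of_injective K.subtype_injective]
  have hsup : ((K ⊓ Subgroup.centralizer (A : Set G)).subgroupOf K) ⊔ frattini K = ⊤ := by
    refine eq_top_iff.2 fun k _ => ?_
    obtain ⟨c, hc, hkc⟩ := exists_fixed_mem_coset_of_normal hAD hcopD (Or.inr hsolvD)
      (hKD k.2) (fun a ha => htriv a ha k k.2)
    obtain ⟨d, hd, hdk⟩ := hkc
    have hcK : c ∈ K := by
      have := K.mul_mem k.2 (SetLike.coe_mem d)
      rw [show (d : G) = (k : G)⁻¹ * c from hdk] at this
      simpa using this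
    have h : k = ⟨c, hcK⟩ * d⁻¹ := by
      apply Subtype.ext
      change (k : G) = c * (d : G)⁻¹
      rw [show (d : G) = (k : G)⁻¹ * c from hdk]
      simp
    rw [h]
    exact mul_mem (Subgroup.mem_sup_left (show (⟨c, hcK⟩ : K) ∈ _ from ⟨hcK, hc⟩))
      (Subgroup.mem_sup_right (inv_mem hd))
  have h := frattini_nongenerating hsup
  rw [Subgroup.subgroupOf_eq_top] at h
  exact Subgroup.le_centralizer_iff.1 (h.trans inf_le_right)

section glauberman

variable {A K : Subgroup G}

private theorem glauberman_aux [K.Normal] {Ω : Type*} [MulAction G Ω]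
    (hcop : (Nat.card A).Coprime (Nat.card K))
    (hsolv : Group.IsSolvable A ∨ Group.IsSolvable K) (hKA : K ⊔ A = ⊤) (x : Ω)
    (h : ∀ a ∈ A, ∃ k ∈ K, k • x = a • x) :
    ∃ k ∈ K, ∀ a ∈ A, a • k • x = k • x := by
  set S := MulAction.stabilizer G x
  have htop : K ⊔ S = ⊤ := by
    rw [eq_top_iff, ← hKA]
    refine sup_le le_sup_left fun a ha => ?_
    obtain ⟨k, hk, hkx⟩ := h a ha
    have : k⁻¹ * a ∈ S := by
      rw [MulAction.mem_stabilizer_iff, mul_smul, ← hkx, inv_smul_smul]
    simpa using mul_mem (Subgroup.mem_sup_left hk : k ∈ K ⊔ S) (Subgroup.mem_sup_right this)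
  have hAidx : K.index = Nat.card A := by
    refine Subgroup.IsComplement'.index_eq_card (Subgroup.IsComplement'.symm ?_)
    refine Subgroup.isComplement'_of_disjoint_and_mul_eq_univ
      (disjoint_iff.2 (Subgroup.inf_eq_bot_of_coprime hcop.symm)) ?_
    rw [← Subgroup.normal_mul, hKA, Subgroup.coe_top]
  have hidx : (K.subgroupOf S).index = Nat.card A := by
    change K.relIndex S = _
    rw [← Subgroup.relIndex_sup_left, htop, Subgroup.relIndex_top_right, hAidx]
  have hcard : Nat.card (K.subgroupOf S) ∣ Nat.card K := by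
    rw [← Subgroup.inf_subgroupOf_right,
      Nat.card_congr (Subgroup.subgroupOfEquivOfLe inf_le_right).toEquiv]
    exact Subgroup.card_dvd_of_le inf_le_left
  obtain ⟨B, hB⟩ := Subgroup.exists_right_complement'_of_coprime (N := K.subgroupOf S)
    (by rw [hidx]; exact hcop.symm.coprime_dvd_left hcard)
  have hBc : Nat.card (B.map S.subtype) = Nat.card A := by
    rw [Subgroup.card_map_of_injective S.subtype_injective, ← hidx, hB.symm.index_eq_card]
  obtain ⟨n, hn, hnA⟩ := exists_conj_of_card_eq (N := K) (A := A) (B := B.map S.subtype)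
    (by rw [Subgroup.normalizer_eq_top_iff.2 inferInstance]; exact le_top) hcop hsolv
    (hKA ▸ le_top) hBc
  refine ⟨n⁻¹, inv_mem hn, fun a ha => ?_⟩
  have h1 : n * a * n⁻¹ ∈ S := Subgroup.map_subtype_le _ (hnA ▸ conj_mul_mem_conj_smul ha)
  rw [MulAction.mem_stabilizer_iff, mul_smul, mul_smul] at h1
  exact eq_inv_smul_iff.2 h1

/-- **Glauberman's lemma**, existence: if the `K`-orbit of `x` is `A`-invariant, it contains a
point fixed by `A`. -/
theorem exists_fixed_point {Ω : Type*} [MulAction G Ω]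
    (hAK : A ≤ Subgroup.normalizer (K : Set G)) (hcop : (Nat.card A).Coprime (Nat.card K))
    (hsolv : Group.IsSolvable A ∨ Group.IsSolvable K) (x : Ω)
    (h : ∀ a ∈ A, ∃ k ∈ K, k • x = a • x) :
    ∃ k ∈ K, ∀ a ∈ A, a • k • x = k • x := by
  set L := K ⊔ A
  have hn : (K.subgroupOf L).Normal :=
    Subgroup.normal_subgroupOf_of_le_normalizer (sup_le Subgroup.le_normalizer hAK)
  have hK : Nat.card (K.subgroupOf L) = Nat.card K :=
    Nat.card_congr (Subgroup.subgroupOfEquivOfLe le_sup_left).toEquiv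
  have hA : Nat.card (A.subgroupOf L) = Nat.card A :=
    Nat.card_congr (Subgroup.subgroupOfEquivOfLe le_sup_right).toEquiv
  obtain ⟨k, hk, hfix⟩ := glauberman_aux (K := K.subgroupOf L) (A := A.subgroupOf L) (Ω := Ω)
    (by rwa [hA, hK])
    (hsolv.imp
      (fun h => @Group.isSolvable_of_surjective _ _ _ _
        (Subgroup.subgroupOfEquivOfLe (le_sup_right : A ≤ L)).symm.toMonoidHom
        (Subgroup.subgroupOfEquivOfLe (le_sup_right : A ≤ L)).symm.surjective h)
      (fun h => @Group.isSolvable_of_surjective _ _ _ _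
        (Subgroup.subgroupOfEquivOfLe (le_sup_left : K ≤ L)).symm.toMonoidHom
        (Subgroup.subgroupOfEquivOfLe (le_sup_left : K ≤ L)).symm.surjective h))
    (by rw [← Subgroup.subgroupOf_sup le_sup_left le_sup_right, Subgroup.subgroupOf_self]) x
    (fun a ha => by
      obtain ⟨k, hk, hkx⟩ := h a ha
      exact ⟨⟨k, le_sup_left (a := K) (b := A) hk⟩, hk, hkx⟩)
  exact ⟨k, hk, fun a ha => hfix ⟨a, le_sup_right (a := K) (b := A) ha⟩ ha⟩

/-- **Glauberman's lemma**, transitivity of `C_K(A)` on fixed points. -/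
theorem exists_centralizer_smul_eq {Ω : Type*} [MulAction G Ω]
    (hAK : A ≤ Subgroup.normalizer (K : Set G)) (hcop : (Nat.card A).Coprime (Nat.card K))
    (hsolv : Group.IsSolvable A ∨ Group.IsSolvable K) {x y : Ω}
    (hx : ∀ a ∈ A, a • x = x) (hy : ∀ a ∈ A, a • y = y) (h : ∃ k ∈ K, k • x = y) :
    ∃ c ∈ K ⊓ Subgroup.centralizer (A : Set G), c • x = y := by
  obtain ⟨k, hk, hkx⟩ := h
  have hS : A ≤ Subgroup.normalizer ((K ⊓ MulAction.stabilizer G x : Subgroup G) : Set G) :=
    le_normalizer_inf hAK (le_trans (fun a ha => hx a ha) Subgroup.le_normalizer)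
  obtain ⟨c, hc, hkc⟩ := exists_fixed_mem_coset hS (coprime_of_le_right inf_le_left hcop)
    (isSolvable_or_of_le inf_le_left hsolv) k (fun a ha => by
      refine ⟨?_, ?_⟩
      · have := mul_mem (inv_mem hk) (conj_mem (hAK ha) hk)
        simpa [mul_assoc] using this
      · change _ ∈ MulAction.stabilizer G x
        rw [MulAction.mem_stabilizer_iff]
        have h1 : a⁻¹ • x = x := hx _ (inv_mem ha)
        rw [mul_smul, mul_smul, mul_smul, h1, hkx, hy a ha, ← hkx, inv_smul_smul])
  have hcK : c ∈ K := by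
    have := K.mul_mem hk hkc.1
    simpa using this
  refine ⟨c, ⟨hcK, hc⟩, ?_⟩
  have h1 : (k⁻¹ * c) • x = x := hkc.2
  rw [← hkx]
  conv_rhs => rw [← h1]
  rw [← mul_smul, mul_inv_cancel_left]

end glauberman

section sylow

variable {A K : Subgroup G} {p : ℕ} [hp : Fact p.Prime]

theorem card_map_sylow (P : Sylow p K) :
    Nat.card ((P : Subgroup K).map K.subtype) = p ^ (Nat.card K).factorization p := by
  rw [Subgroup.card_map_of_injective K.subtype_injective, P.card_eq_multiplicity]

/-- Any subgroup of `K` of Sylow order comes from a Sylow subgroup. -/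
theorem exists_sylow_map_eq {P : Subgroup G} (hPK : P ≤ K)
    (hcard : Nat.card P = p ^ (Nat.card K).factorization p) :
    ∃ R : Sylow p K, (R : Subgroup K).map K.subtype = P := by
  refine ⟨Sylow.ofCard (P.subgroupOf K) ?_, ?_⟩
  · rw [Nat.card_congr (Subgroup.subgroupOfEquivOfLe hPK).toEquiv, hcard]
  · exact Subgroup.map_subgroupOf_eq_of_le hPK

/-- An `A`-invariant Sylow `p`-subgroup exists. -/
theorem exists_invariant_sylow (hAK : A ≤ Subgroup.normalizer (K : Set G))
    (hcop : (Nat.card A).Coprime (Nat.card K))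
    (hsolv : Group.IsSolvable A ∨ Group.IsSolvable K) (p : ℕ) [Fact p.Prime] :
    ∃ P : Sylow p K, A ≤ Subgroup.normalizer ((P : Subgroup K).map K.subtype : Set G) := by
  let _ : MulAction G (Subgroup G) := MulAction.compHom _ (MulAut.conj : G →* MulAut G)
  have hsmul : ∀ (g : G) (H : Subgroup G), g • H = MulAut.conj g • H := fun _ _ => rfl
  obtain ⟨P₀⟩ := (inferInstance : Nonempty (Sylow p K))
  set x := (P₀ : Subgroup K).map K.subtype with hx
  obtain ⟨k, hk, hfix⟩ := exists_fixed_point hAK hcop hsolv x (fun a ha => by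
    have hle : MulAut.conj a • x ≤ K := by
      intro y hy
      rw [mem_conj_smul] at hy
      have := conj_mem (hAK ha) (Subgroup.map_subtype_le _ hy)
      simpa [mul_assoc] using this
    obtain ⟨R, hR⟩ := exists_sylow_map_eq hle (by rw [card_conj_smul, hx, card_map_sylow P₀])
    obtain ⟨k, hk⟩ := MulAction.exists_smul_eq K P₀ R
    refine ⟨k, k.2, ?_⟩
    rw [hsmul, hsmul, ← hR, ← hk, hx]
    exact (map_conj_smul K.subtype k (P₀ : Subgroup K)).symm)
  obtain ⟨R, hR⟩ := exists_sylow_map_eq (p := p) (K := K) (P := MulAut.conj k • x)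
    (conj_smul_le_of_mem (Subgroup.map_subtype_le _) hk)
    (by rw [card_conj_smul, hx, card_map_sylow P₀])
  refine ⟨R, fun a ha => ?_⟩
  rw [hR]
  exact mem_normalizer_of_conj_smul_eq (by have := hfix a ha; simpa only [hsmul] using this)

/-- `A`-invariant Sylow subgroups are conjugate by fixed elements. -/
theorem invariant_sylow_conj (hAK : A ≤ Subgroup.normalizer (K : Set G))
    (hcop : (Nat.card A).Coprime (Nat.card K))
    (hsolv : Group.IsSolvable A ∨ Group.IsSolvable K) (P Q : Sylow p K)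
    (hP : A ≤ Subgroup.normalizer ((P : Subgroup K).map K.subtype : Set G))
    (hQ : A ≤ Subgroup.normalizer ((Q : Subgroup K).map K.subtype : Set G)) :
    ∃ c : K, (c : G) ∈ Subgroup.centralizer (A : Set G) ∧ MulAut.conj c • P = Q := by
  let _ : MulAction G (Subgroup G) := MulAction.compHom _ (MulAut.conj : G →* MulAut G)
  obtain ⟨k, hk⟩ := MulAction.exists_smul_eq K P Q
  obtain ⟨c, hc, hcP⟩ := exists_centralizer_smul_eq (Ω := Subgroup G) hAK hcop hsolv
    (x := (P : Subgroup K).map K.subtype) (y := (Q : Subgroup K).map K.subtype)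
    (fun a ha => conj_smul_eq_self (hP ha)) (fun a ha => conj_smul_eq_self (hQ ha))
    ⟨k, k.2, by
      rw [← hk]
      exact (map_conj_smul K.subtype k (P : Subgroup K)).symm⟩
  refine ⟨⟨c, hc.1⟩, hc.2, Sylow.ext ?_⟩
  apply Subgroup.map_injective K.subtype_injective
  rw [← hcP]
  exact map_conj_smul K.subtype ⟨c, hc.1⟩ (P : Subgroup K)

/-- Every `A`-invariant `p`-subgroup lies in an `A`-invariant Sylow subgroup. -/
theorem exists_invariant_sylow_ge (hAK : A ≤ Subgroup.normalizer (K : Set G))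
    (hcop : (Nat.card A).Coprime (Nat.card K))
    (hsolv : Group.IsSolvable A ∨ Group.IsSolvable K) {U : Subgroup G} (hUK : U ≤ K)
    (hU : IsPGroup p U) (hUA : A ≤ Subgroup.normalizer (U : Set G)) :
    ∃ P : Sylow p K, U ≤ (P : Subgroup K).map K.subtype ∧
      A ≤ Subgroup.normalizer ((P : Subgroup K).map K.subtype : Set G) := by
  obtain ⟨n, hn⟩ : ∃ n, Nat.card G ≤ Nat.card U + n := ⟨Nat.card G, by omega⟩
  induction n generalizing U with
  | zero =>
    have h1 : U = ⊤ := Subgroup.eq_top_of_le_card U (by simpa using hn)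
    obtain ⟨P, hP⟩ := exists_invariant_sylow hAK hcop hsolv p
    refine ⟨P, ?_, hP⟩
    have hK : K = ⊤ := top_le_iff.1 (h1 ▸ hUK)
    have hp' : IsPGroup p K := hU.of_injective (Subgroup.inclusion (hK.le.trans h1.ge))
      (Subgroup.inclusion_injective _)
    have h2 : (P : Subgroup K) = ⊤ := by
      refine Subgroup.eq_top_of_card_eq _ ?_
      obtain ⟨m, hm⟩ := IsPGroup.iff_card.1 hp'
      rw [P.card_eq_multiplicity, hm, Nat.Prime.factorization_pow hp.out, Finsupp.single_eq_same]
    rw [h2, ← MonoidHom.range_eq_map, Subgroup.range_subtype]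
    exact hUK
  | succ n ih =>
    obtain ⟨m, hm⟩ := IsPGroup.iff_card.1 hU
    have hdvd : Nat.card U ∣ Nat.card K := Subgroup.card_dvd_of_le hUK
    rw [hm, Nat.Prime.pow_dvd_iff_le_factorization hp.out Nat.card_pos.ne'] at hdvd
    rcases hdvd.eq_or_lt with heq | hlt
    · obtain ⟨R, hR⟩ := exists_sylow_map_eq hUK (by rw [hm, heq])
      exact ⟨R, hR.ge, by rwa [hR]⟩
    set N := K ⊓ Subgroup.normalizer (U : Set G)
    have hUN : U ≤ N := le_inf hUK Subgroup.le_normalizer
    have hAN : A ≤ Subgroup.normalizer (N : Set G) :=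
      le_normalizer_inf hAK (hUA.trans Subgroup.le_normalizer)
    obtain ⟨Q, hQ⟩ := exists_invariant_sylow hAN (coprime_of_le_right inf_le_left hcop)
      (isSolvable_or_of_le inf_le_left hsolv) p
    set Q' := (Q : Subgroup N).map N.subtype
    have hUQ : U ≤ Q' := by
      have hn : (U.subgroupOf N).Normal :=
        Subgroup.normal_subgroupOf_of_le_normalizer inf_le_right
      have hpU : IsPGroup p (U.subgroupOf N) :=
        hU.of_equiv (Subgroup.subgroupOfEquivOfLe hUN).symm
      obtain ⟨R, hR⟩ := hpU.exists_le_sylow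
      obtain ⟨g, hg⟩ := MulAction.exists_smul_eq N R Q
      have h1 : U.subgroupOf N ≤ (Q : Subgroup N) := by
        rw [← hg, ← conj_smul_eq_self (g := g) (H := U.subgroupOf N)
          (by rw [Subgroup.normalizer_eq_top_iff.2 hn]; trivial)]
        exact Subgroup.pointwise_smul_le_pointwise_smul_iff.2 hR
      rw [← Subgroup.map_subgroupOf_eq_of_le hUN]
      exact Subgroup.map_mono h1
    have hgt : Nat.card U < Nat.card Q' := by
      have hdvdK : p ^ (m + 1) ∣ Nat.card K :=
        (Nat.Prime.pow_dvd_iff_le_factorization hp.out Nat.card_pos.ne').2 hlt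
      have h1 := Sylow.prime_pow_dvd_card_normalizer (p := p) (n := m) hdvdK
        (H := U.subgroupOf K)
        (by rw [Nat.card_congr (Subgroup.subgroupOfEquivOfLe hUK).toEquiv, hm])
      have h2 : p ^ (m + 1) ∣ Nat.card N := by
        refine h1.trans ?_
        rw [← Subgroup.subgroupOf_normalizer_eq hUK, ← Subgroup.inf_subgroupOf_right,
          Nat.card_congr (Subgroup.subgroupOfEquivOfLe inf_le_right).toEquiv, inf_comm]
      rw [card_map_sylow Q, hm]
      exact Nat.pow_lt_pow_right hp.out.one_lt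
        ((Nat.Prime.pow_dvd_iff_le_factorization hp.out Nat.card_pos.ne').1 h2)
    obtain ⟨P, hP1, hP2⟩ := ih ((Subgroup.map_subtype_le _).trans inf_le_left)
      (Q.2.map N.subtype) hQ (show Nat.card G ≤ Nat.card Q' + n by omega)
    exact ⟨P, hUQ.trans hP1, hP2⟩

end sylow

section abelian

variable {A V : Subgroup G}

/-- The conjugation endomorphism of `V` by an element normalising it. -/
noncomputable def conjHom (V : Subgroup G) (a : G) (ha : a ∈ Subgroup.normalizer (V : Set G)) :
    V →* V where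
  toFun v := ⟨a * v * a⁻¹, conj_mem ha v.2⟩
  map_one' := by ext; simp
  map_mul' x y := by ext; simp [mul_assoc]

/-- Fitting: on an abelian group the fixed points meet `[V,A]` trivially. -/
theorem inf_centralizer_inf_commutator_eq_bot [IsMulCommutative V]
    (hAV : A ≤ Subgroup.normalizer (V : Set G)) (hcop : (Nat.card A).Coprime (Nat.card V)) :
    (V ⊓ Subgroup.centralizer (A : Set G)) ⊓ ⁅V, A⁆ = ⊥ := by
  classical
  have := Fintype.ofFinite A
  letI : CommGroup V := { (inferInstance : Group V) with mul_comm := fun x y => mul_comm' x y }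
  let φ : V →* V := ∏ a : A, conjHom V a (hAV a.2)
  have hle : ⁅V, A⁆ ≤ φ.ker.map V.subtype := by
    rw [Subgroup.commutator_le]
    intro v hv b hb
    have hmem : ⁅v, b⁆ ∈ V := commutator_le_self_of_le_normalizer hAV
      (Subgroup.commutator_mem_commutator hv hb)
    refine ⟨⟨⁅v, b⁆, hmem⟩, ?_, rfl⟩
    have e : (⟨⁅v, b⁆, hmem⟩ : V) = ⟨v, hv⟩ * (conjHom V b (hAV hb) ⟨v, hv⟩)⁻¹ := by
      ext
      simp [conjHom, commutatorElement_def, mul_assoc]
    have key : φ (conjHom V b (hAV hb) ⟨v, hv⟩) = φ ⟨v, hv⟩ := by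
      simp only [φ, MonoidHom.finsetProd_apply]
      refine Fintype.prod_equiv (Equiv.mulRight ⟨b, hb⟩) _ _ fun a => ?_
      ext
      simp [conjHom, mul_assoc]
    rw [SetLike.mem_coe, MonoidHom.mem_ker, e, map_mul, map_inv, key, mul_inv_cancel]
  rw [eq_bot_iff]
  rintro x ⟨⟨hxV, hxC⟩, hx⟩
  obtain ⟨y, hy, rfl⟩ := hle hx
  rw [Subgroup.mem_bot]
  have h1 : φ y = y ^ Nat.card A := by
    have e : ∀ a : A, conjHom V a (hAV a.2) y = y := fun a =>
      Subtype.ext (mem_centralizer_iff_conj.1 hxC a a.2)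
    simp [φ, MonoidHom.finsetProd_apply, e, Nat.card_eq_fintype_card]
  have h2 : y ^ Nat.card A = 1 := h1.symm.trans hy
  have h3 : y = 1 := orderOf_eq_one_iff.1
    (Nat.eq_one_of_dvd_coprimes hcop (orderOf_dvd_of_pow_eq_one h2) (orderOf_dvd_natCard y))
  rw [h3, map_one]

/-- A coprime `A` centralising all elements of prime order of an abelian `V` centralises `V`. -/
theorem le_centralizer_of_prime_order_fixed [IsMulCommutative V]
    (hAV : A ≤ Subgroup.normalizer (V : Set G)) (hcop : (Nat.card A).Coprime (Nat.card V))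
    (hΩ : ∀ v ∈ V, (orderOf v).Prime → ∀ a ∈ A, a * v = v * a) :
    A ≤ Subgroup.centralizer (V : Set G) := by
  rw [← Subgroup.commutator_eq_bot_iff_le_centralizer, Subgroup.commutator_comm]
  by_contra hne
  have h1 : Nat.card ↥(⁅V, A⁆) ≠ 1 := fun h => hne (Subgroup.card_eq_one.1 h)
  obtain ⟨q, hq, hqd⟩ := Nat.exists_prime_and_dvd h1
  have := Fact.mk hq
  obtain ⟨v, hv⟩ := exists_prime_orderOf_dvd_card' q hqd
  have hvV : (v : G) ∈ V := commutator_le_self_of_le_normalizer hAV v.2
  have hord : (orderOf (v : G)).Prime := by rw [Subgroup.orderOf_coe, hv]; exact hq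
  have : (v : G) ∈ (V ⊓ Subgroup.centralizer (A : Set G)) ⊓ ⁅V, A⁆ :=
    ⟨⟨hvV, Subgroup.mem_centralizer_iff.2 fun a ha => hΩ v hvV hord a ha⟩, v.2⟩
  rw [inf_centralizer_inf_commutator_eq_bot hAV hcop, Subgroup.mem_bot] at this
  rw [this, orderOf_one] at hord
  exact Nat.not_prime_one hord

/-- Maschke: an invariant direct factor of an abelian group has an invariant complement. -/
theorem exists_invariant_complement [IsMulCommutative V] {U W : Subgroup G}
    (hAV : A ≤ Subgroup.normalizer (V : Set G))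
    (hcop : (Nat.card A).Coprime (Nat.card U))
    (hUV : U ≤ V) (hAU : A ≤ Subgroup.normalizer (U : Set G))
    (hWV : W ≤ V) (hUW : U ⊓ W = ⊥) (hUWV : U ⊔ W = V) :
    ∃ W' : Subgroup G, W' ≤ V ∧ A ≤ Subgroup.normalizer (W' : Set G) ∧ U ⊓ W' = ⊥ ∧
      U ⊔ W' = V := by
  classical
  have := Fintype.ofFinite A
  letI : CommGroup V := { (inferInstance : Group V) with mul_comm := fun x y => mul_comm' x y }
  have hdec : ∀ v : V, ∃ u : V, (u : G) ∈ U ∧ ((u⁻¹ * v : V) : G) ∈ W := by
    intro v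
    have hv : (v : V) ∈ U.subgroupOf V ⊔ W.subgroupOf V := by
      rw [← Subgroup.subgroupOf_sup hUV hWV, hUWV, Subgroup.subgroupOf_self]
      trivial
    obtain ⟨u, hu, w, hw, rfl⟩ := Subgroup.mem_sup.1 hv
    exact ⟨u, hu, by rwa [inv_mul_cancel_left]⟩
  choose pr hprU hprW using hdec
  have huniq : ∀ (v u : V), (u : G) ∈ U → ((u⁻¹ * v : V) : G) ∈ W → u = pr v := by
    intro v u hu hw
    have h1 : ((u⁻¹ * pr v : V) : G) ∈ U ⊓ W := by
      refine ⟨?_, ?_⟩
      · exact U.mul_mem (U.inv_mem hu) (hprU v)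
      · have : (u⁻¹ * pr v : V) = (u⁻¹ * v) * ((pr v)⁻¹ * v)⁻¹ := by simp
        rw [this]
        exact W.mul_mem hw (W.inv_mem (hprW v))
    rw [hUW, Subgroup.mem_bot, OneMemClass.coe_eq_one, inv_mul_eq_one] at h1
    exact h1
  let π : V →* V := MonoidHom.mk' pr (fun x y => by
    symm
    refine huniq _ _ (U.mul_mem (hprU x) (hprU y)) ?_
    have : ((pr x * pr y)⁻¹ * (x * y) : V) = ((pr x)⁻¹ * x) * ((pr y)⁻¹ * y) := by
      rw [mul_inv]
      exact mul_mul_mul_comm _ _ _ _
    rw [this]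
    exact W.mul_mem (hprW x) (hprW y))
  let c : A → V →* V := fun a => conjHom V a (hAV a.2)
  let ψ : V →* V := ∏ a : A, (c a).comp (π.comp (c a⁻¹))
  have hψU : ∀ v, (ψ v : G) ∈ U := by
    intro v
    have : ψ v ∈ U.subgroupOf V := by
      rw [MonoidHom.finsetProd_apply]
      exact Subgroup.prod_mem _ fun a _ => conj_mem (hAU a.2) (hprU _)
    exact this
  have hψfix : ∀ u : V, (u : G) ∈ U → ψ u = u ^ Nat.card A := by
    intro u hu
    have e : ∀ a : A, (c a).comp (π.comp (c a⁻¹)) u = u := by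
      intro a
      have h2 : π (c a⁻¹ u) = c a⁻¹ u := by
        symm
        refine huniq _ _ (conj_mem (hAU (a⁻¹ : A).2) hu) ?_
        rw [inv_mul_cancel]
        exact W.one_mem
      apply Subtype.ext
      simp only [MonoidHom.comp_apply, h2]
      simp [c, conjHom, mul_assoc]
    simp [ψ, MonoidHom.finsetProd_apply, e, Nat.card_eq_fintype_card]
  refine ⟨ψ.ker.map V.subtype, Subgroup.map_subtype_le _, ?_, ?_, ?_⟩
  · refine le_normalizer_of_conj_mem fun b hb x hx => ?_
    obtain ⟨v, hv, rfl⟩ := hx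
    refine ⟨c ⟨b, hb⟩ v, ?_, rfl⟩
    have key : ψ (c ⟨b, hb⟩ v) = c ⟨b, hb⟩ (ψ v) := by
      simp only [ψ, MonoidHom.finsetProd_apply, map_prod]
      refine Fintype.prod_equiv (Equiv.mulLeft (⟨b, hb⟩ : A)⁻¹) _ _ fun a => ?_
      simp only [MonoidHom.comp_apply, Equiv.coe_mulLeft]
      have e1 : c a⁻¹ (c ⟨b, hb⟩ v) = c ((⟨b, hb⟩ : A)⁻¹ * a)⁻¹ v := by
        ext; simp [c, conjHom, mul_assoc]
      rw [e1]
      ext
      simp [c, conjHom, mul_assoc]
    rw [SetLike.mem_coe, MonoidHom.mem_ker] at hv ⊢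
    rw [key, hv, map_one]
  · rw [eq_bot_iff]
    rintro x ⟨hxU, v, hv, rfl⟩
    rw [Subgroup.mem_bot]
    have h2 : v ^ Nat.card A = 1 := (hψfix v hxU).symm.trans hv
    have h3 : v = 1 := orderOf_eq_one_iff.1
      (Nat.eq_one_of_dvd_coprimes hcop (orderOf_dvd_of_pow_eq_one h2)
        ((Subgroup.orderOf_coe v).symm ▸ Subgroup.orderOf_dvd_natCard U hxU))
    rw [h3, map_one]
  · refine le_antisymm (sup_le hUV (Subgroup.map_subtype_le _)) fun x hx => ?_
    obtain ⟨u, hu⟩ : ∃ u : U, u ^ Nat.card A = ⟨_, hψU ⟨x, hx⟩⟩ :=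
      ⟨_, (powCoprime hcop.symm).apply_symm_apply _⟩
    have hu' : (⟨u, hUV u.2⟩ : V) ^ Nat.card A = ψ ⟨x, hx⟩ :=
      Subtype.ext (congrArg (fun z : U => (z : G)) hu)
    have hker : (⟨u, hUV u.2⟩ : V)⁻¹ * ⟨x, hx⟩ ∈ ψ.ker := by
      rw [MonoidHom.mem_ker, map_mul, map_inv, hψfix _ u.2, hu', inv_mul_cancel]
    have : x = (u : G) * ((⟨u, hUV u.2⟩ : V)⁻¹ * ⟨x, hx⟩ : V) := by simp
    rw [this]
    exact mul_mem (Subgroup.mem_sup_left u.2)
      (Subgroup.mem_sup_right (Subgroup.mem_map_of_mem _ hker))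

end abelian

end Cfsg.Agent.CoprimeAction
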