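import Mathlib
import Cfsg.Agent.Lib.A5OTwoStruct92
import Cfsg.Agent.Lib.CoprimeAction

/-!
The second layer and the classification.
-/

set_option autoImplicit false

namespace Cfsg.Agent.A5OTwo92

open Equiv

variable {Y : Type*} [Group Y] [Finite Y]

theorem two_set {P : Subgroup Y} (h : Nat.card P = 2) {z : Y} (hzP : z ∈ P) (hz : z ≠ 1) :
    ∀ p, p ∈ P ↔ p = 1 ∨ p = z := by
  have hset : ({1, z} : Set Y) = (P : Set Y) := by
    refine Set.eq_of_subset_of_ncard_le (by rintro x (rfl | rfl) <;> simp [hzP]) ?_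
    rw [Set.ncard_pair (Ne.symm hz), ← Nat.card_coe_set_eq]
    exact h.le
  intro p
  rw [← SetLike.mem_coe, ← hset]
  simp

namespace Data

variable {π : Y →* A5} {Q P : Subgroup Y} (D : Data π Q P)
include D

/-- There is no second layer. -/
theorem second_layer (M : Subgroup Y) [M.Normal] (hMP : M ≤ P) (hne : M ≠ ⊥)
    (hmin : ∀ N : Subgroup Y, N.Normal → N ≤ M → N = ⊥ ∨ N = M) (hidx : Nat.card P = 2 * Nat.card M)
    (hcM : ∀ p ∈ P, ∀ y, y * p * y⁻¹ * p⁻¹ ∈ M) : False := by
  classical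
  haveI := D.normal
  haveI := D.normalQ
  obtain ⟨z, hzP, hzM⟩ : ∃ z ∈ P, z ∉ M := by
    by_contra h
    push Not at h
    have h1 := Subgroup.card_le_of_le (show P ≤ M from h)
    have := Nat.card_pos (α := M)
    omega
  have hP2 : ∀ p ∈ P, p ∈ M ∨ p * z⁻¹ ∈ M := by
    intro p hp
    by_cases h : p ∈ M
    · exact Or.inl h
    · right
      have hi : (M.subgroupOf P).index = 2 := by
        have h1 := (M.subgroupOf P).card_mul_index
        rw [Nat.card_congr (Subgroup.subgroupOfEquivOfLe hMP).toEquiv, hidx, mul_comm] at h1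
        exact Nat.eq_of_mul_eq_mul_right Nat.card_pos h1
      have h1 := (Subgroup.mul_mem_iff_of_index_two hi (a := ⟨p, hp⟩) (b := ⟨z⁻¹, inv_mem hzP⟩)).2
        (iff_of_false (fun e => h (Subgroup.mem_subgroupOf.1 e))
          (fun e => hzM (by simpa using inv_mem (Subgroup.mem_subgroupOf.1 e))))
      exact Subgroup.mem_subgroupOf.1 h1
  obtain ⟨hMcen, hM2, htype⟩ := D.layer M (hMP.trans D.le) hne hmin
  have hPab : ∀ p ∈ P, ∀ q ∈ P, p * q = q * p := by
    intro p hp q hq
    have hc : ∀ m ∈ M, ∀ r ∈ P, r * m = m * r := fun m hm r hr => hMcen m hm r (D.le hr)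
    rcases hP2 p hp with h | h
    · exact (hc p h q hq).symm
    rcases hP2 q hq with h' | h'
    · exact hc q h' p hp
    calc p * q = (p * z⁻¹) * z * ((q * z⁻¹) * z) := by group
      _ = (p * z⁻¹) * (q * z⁻¹) * (z * z) := by
          rw [mul_assoc _ z, ← mul_assoc z, hc _ h' z hzP]; group
      _ = (q * z⁻¹) * (p * z⁻¹) * (z * z) := by rw [hc _ h' _ (hMP h)]
      _ = (q * z⁻¹) * z * ((p * z⁻¹) * z) := by
          rw [mul_assoc (q * z⁻¹) z, ← mul_assoc z, hc _ h z hzP]; group
      _ = q * p := by group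
  have hzz : z * z ∈ M := by
    rcases hP2 _ (mul_mem hzP hzP) with h | h
    · exact h
    · exact absurd (by simpa using h) hzM
  rcases htype with ⟨hM, hMc⟩ | ⟨h16, hfp, -⟩
  swap
  · -- faithful layer
    obtain ⟨y, hy⟩ := D.surj c5
    have h1 : z * z = 1 := by
      refine hfp y hy _ hzz (mul_inv_eq_iff_eq_mul.1 ?_)
      have hm := hcM z hzP y
      set m := y * z * y⁻¹ * z⁻¹
      have e : y * z * y⁻¹ = m * z := by simp [m]
      rw [conj_mul', e, show m * z * (m * z) = m * (z * m) * z by group,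
        hMcen m hm z (D.le hzP), show m * (m * z) * z = m * m * (z * z) by group, hM2 m hm, one_mul]
    have hsq : ∀ p ∈ P, p * p = 1 := by
      intro p hp
      rcases hP2 p hp with h | h
      · exact hM2 p h
      · rw [show p * p = (p * z⁻¹) * (z * (p * z⁻¹)) * z by group, hMcen _ h z (D.le hzP),
          show (p * z⁻¹) * ((p * z⁻¹) * z) * z = (p * z⁻¹) * (p * z⁻¹) * (z * z) by group,
          hM2 _ h, h1, one_mul]
    have hb := section_bound D.rk (P : Set Y) ⊥ bot_le
      (fun s _ n hn => by rw [Subgroup.mem_bot.1 hn]; simp)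
      (fun a ha b hb => Subgroup.mem_bot.2 (by
        rw [hPab a ha b hb, mul_inv_cancel_right, mul_inv_cancel]))
      (fun a ha => Subgroup.mem_bot.2 (hsq a ha))
    rw [Subgroup.closure_eq, Subgroup.card_bot, hidx, h16] at hb
    omega
  -- the layer is central of order two
  have hP4 : Nat.card P = 4 := by rw [hidx, hM]
  have hQ64 : Nat.card Q = 64 := by rw [D.module.1, hP4]
  have hzQ : ∀ a ∈ Q, z * a = a * z := by
    let f : Q →* Y :=
      { toFun := fun a => z * a * z⁻¹ * (a : Y)⁻¹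
        map_one' := by simp
        map_mul' := fun a b => by
          have hb : z * (b : Y) * z⁻¹ * (b : Y)⁻¹ ∈ M := by
            have := inv_mem (hcM z hzP b)
            convert this using 1
            group
          show z * ((a : Y) * b) * z⁻¹ * ((a : Y) * b)⁻¹ = _
          rw [show z * ((a : Y) * b) * z⁻¹ * ((a : Y) * b)⁻¹ =
            z * a * z⁻¹ * ((z * b * z⁻¹ * (b : Y)⁻¹) * (a : Y)⁻¹) by group,
            ← hMc _ hb]
          group }
    have hf : f.range ≤ M := by
      rintro _ ⟨a, rfl⟩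
      have := inv_mem (hcM z hzP a)
      show z * (a : Y) * z⁻¹ * (a : Y)⁻¹ ∈ M
      convert this using 1
      group
    set S := Q ⊓ Subgroup.centralizer ({z} : Set Y) with hS
    haveI : S.Normal := ⟨fun a ha y => by
      refine ⟨(inferInstance : Q.Normal).conj_mem a ha.1 y, Subgroup.mem_centralizer_singleton_iff.2 ?_⟩
      have hza : a * z = z * a := Subgroup.mem_centralizer_singleton_iff.1 ha.2
      set m := y * z * y⁻¹ * z⁻¹ with hm
      have hmM : m ∈ M := hcM z hzP y
      have e : z = m⁻¹ * (y * z * y⁻¹) := by simp [hm, mul_assoc]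
      have h := (show Commute (y * a * y⁻¹) m⁻¹ from hMc _ (inv_mem hmM) _).mul_right
        ((Commute.conj_iff y).2 hza)
      rw [← e] at h
      exact h.eq⟩
    have hker : f.ker.map Q.subtype = S := by
      ext a
      constructor
      · rintro ⟨v, hv, rfl⟩
        refine ⟨v.2, Subgroup.mem_centralizer_singleton_iff.2 ?_⟩
        have hv' : z * (v : Y) * z⁻¹ * (v : Y)⁻¹ = 1 := hv
        rw [mul_inv_eq_one, mul_inv_eq_iff_eq_mul] at hv'
        exact hv'.symm
      · rintro ⟨ha, h⟩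
        refine ⟨⟨a, ha⟩, ?_, rfl⟩
        show z * a * z⁻¹ * a⁻¹ = 1
        rw [← Subgroup.mem_centralizer_singleton_iff.1 h, mul_inv_cancel_right, mul_inv_cancel]
    have hc := Subgroup.card_eq_card_quotient_mul_card_subgroup f.ker
    rw [Nat.card_congr (QuotientGroup.quotientKerEquivRange f).toEquiv,
      ← Subgroup.card_map_of_injective Q.subtype_injective, hker, hQ64] at hc
    have hr := Subgroup.card_le_of_le hf
    rw [hM] at hr
    have hPS : P ≤ S := fun p hp => ⟨D.le hp,
      Subgroup.mem_centralizer_singleton_iff.2 (hPab p hp z hzP)⟩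
    rcases D.module.2.2.2.2 S inferInstance hPS inf_le_left with h | h
    · rw [h, hP4] at hc; omega
    · intro a ha
      exact (Subgroup.mem_centralizer_singleton_iff.1 (h.ge ha).2).symm
  have hzY : ∀ y, y * z = z * y := by
    let f : Y →* M :=
      { toFun := fun y => ⟨y * z * y⁻¹ * z⁻¹, hcM z hzP y⟩
        map_one' := Subtype.ext (by simp)
        map_mul' := fun x y => Subtype.ext (by
          show x * y * z * (x * y)⁻¹ * z⁻¹ = (x * z * x⁻¹ * z⁻¹) * (y * z * y⁻¹ * z⁻¹)
          rw [show x * y * z * (x * y)⁻¹ * z⁻¹ =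
            (x * (y * z * y⁻¹ * z⁻¹)) * z * x⁻¹ * z⁻¹ by group,
            hMc _ (hcM z hzP y) x, hMc _ (hcM z hzP y) (x * z * x⁻¹ * z⁻¹)]
          group) }
    have hker : π.ker ≤ f.ker := by
      intro a ha
      rw [D.ker] at ha
      refine MonoidHom.mem_ker.2 (Subtype.ext ?_)
      show a * z * a⁻¹ * z⁻¹ = 1
      rw [← hzQ a ha, mul_inv_cancel_right, mul_inv_cancel]
    let g : A5 →* M := π.liftOfSurjective D.surj ⟨f, hker⟩
    have hg : ∀ y, g (π y) = f y := fun y => π.liftOfRightInverse_comp_apply _ _ _ y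
    intro y
    by_contra hne'
    have h1 : g (π y) ≠ 1 := fun h => hne' (by
      rw [hg] at h
      have h' : y * z * y⁻¹ * z⁻¹ = 1 := congrArg Subtype.val h
      rwa [mul_inv_eq_one, mul_inv_eq_iff_eq_mul] at h')
    have h2 := Nat.card_le_card_of_injective g (hom_injective g h1)
    rw [hM, nat_card_alternatingGroup, Nat.card_fin] at h2
    norm_num [Nat.factorial] at h2
  have hPc : ∀ p ∈ P, ∀ y, y * p = p * y := by
    intro p hp y
    rcases hP2 p hp with h | h
    · exact hMc p h y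
    · have h1 : Commute y ((p * z⁻¹) * z) :=
        (show Commute y (p * z⁻¹) from hMc _ h y).mul_right (hzY y)
      simp only [inv_mul_cancel_right] at h1
      exact h1
  -- quotients by subgroups of order two
  have hquot : ∀ (K : Subgroup Y) [K.Normal], K ≤ P → Nat.card K = 2 → ∃ z' : Y ⧸ K,
      (∀ p, p ∈ P.map (QuotientGroup.mk' K) ↔ p = 1 ∨ p = z') ∧ z' ≠ 1 ∧
        (∀ y, y * z' = z' * y) ∧ Nat.card (Q.map (QuotientGroup.mk' K)) = 32 := by
    intro K _ hKP hK
    have hm : ∀ S : Subgroup Y, K ≤ S →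
        Nat.card (S.map (QuotientGroup.mk' K)) * 2 = Nat.card S := by
      intro S hS
      have h := Subgroup.card_eq_card_quotient_mul_card_subgroup ((QuotientGroup.mk' K).comp S.subtype).ker
      rw [Nat.card_congr (QuotientGroup.quotientKerEquivRange _).toEquiv, MonoidHom.range_comp,
        Subgroup.range_subtype, ← MonoidHom.comap_ker, QuotientGroup.ker_mk',
        show K.comap S.subtype = K.subgroupOf S from rfl,
        Nat.card_congr (Subgroup.subgroupOfEquivOfLe hS).toEquiv, hK] at h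
      exact h.symm
    have hPc2 := hm P hKP
    have hQc := hm Q (hKP.trans D.le)
    rw [hP4] at hPc2
    rw [hQ64] at hQc
    obtain ⟨w, hw, hwK⟩ : ∃ w ∈ P, w ∉ K := by
      by_contra h
      push Not at h
      have := Subgroup.card_le_of_le (show P ≤ K from h)
      omega
    have hwne : (QuotientGroup.mk' K w : Y ⧸ K) ≠ 1 := fun h => hwK ((QuotientGroup.eq_one_iff w).1 h)
    refine ⟨_, two_set (by omega) ⟨w, hw, rfl⟩ hwne, hwne, ?_, by omega⟩
    intro y
    obtain ⟨x, rfl⟩ := QuotientGroup.mk'_surjective K y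
    rw [← map_mul, ← map_mul, hPc w hw x]
  -- squares in `P` are trivial
  have hPsq : ∀ p ∈ P, p * p = 1 := by
    by_contra hno
    push Not at hno
    obtain ⟨p, hp, hpp⟩ := hno
    have hpM : p ∉ M := fun h => hpp (hM2 p h)
    have hinM : ∀ q ∈ P, q * q = 1 → q ∈ M := by
      intro q hq hqq
      by_contra hqM
      have h1 := (hP2 p hp).resolve_left hpM
      have h2 := (hP2 q hq).resolve_left hqM
      have h3 : q * p⁻¹ ∈ M := by
        have := mul_mem h2 (inv_mem h1)
        convert this using 1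
        group
      have h4 : Commute p (q * p⁻¹) := hMc _ h3 p
      refine hpp ?_
      calc p * p = (q * p⁻¹) * (q * p⁻¹) * (p * p) := by rw [hM2 _ h3, one_mul]
        _ = (q * p⁻¹) * ((q * p⁻¹) * p) * p := by group
        _ = (q * p⁻¹) * (p * (q * p⁻¹)) * p := by rw [h4.eq]
        _ = (p⁻¹ * (q * q)) * p := by rw [hPab q hq p⁻¹ (inv_mem hp)]; group
        _ = q * q := by rw [hPab p⁻¹ (inv_mem hp) (q * q) (mul_mem hq hq), inv_mul_cancel_right]
        _ = 1 := hqq
    obtain ⟨z', hP', hz', hzc', hQ32⟩ := hquot M hMP hM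
    have D' := D.quotient M hMP
    obtain ⟨a, haQ, haP⟩ : ∃ a ∈ Q.map (QuotientGroup.mk' M), a ∉ P.map (QuotientGroup.mk' M) := by
      by_contra h
      push Not at h
      have h1 := Subgroup.card_le_of_le (show Q.map (QuotientGroup.mk' M) ≤ P.map (QuotientGroup.mk' M) from h)
      rw [hQ32, D'.card_two hP' hz'] at h1
      omega
    obtain ⟨b, hbQ, hab⟩ := D'.exists_noncomm hP' hz' hzc' haQ haP
    obtain ⟨a, ha, rfl⟩ := haQ
    obtain ⟨b, hb, rfl⟩ := hbQ
    refine hab ?_
    have hc : b * a * b⁻¹ * a⁻¹ ∈ M := by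
      refine hinM _ (D.comm b hb a ha) ?_
      set c := b * a * b⁻¹ * a⁻¹ with hcdef
      have h1 : b * c = c * b := hPc c (D.comm b hb a ha) b
      have h2 : (b * b) * a = a * (b * b) := (hPc _ (D.sq b hb) a).symm
      calc c * c = c * (b * a * b⁻¹ * a⁻¹) := rfl
        _ = (c * b) * a * b⁻¹ * a⁻¹ := by group
        _ = (b * c) * a * b⁻¹ * a⁻¹ := by rw [h1]
        _ = ((b * b) * a) * (b * b)⁻¹ * a⁻¹ := by rw [hcdef]; group
        _ = 1 := by rw [h2]; group
    have h1 := (QuotientGroup.eq_one_iff _).2 hc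
    show QuotientGroup.mk' M b * QuotientGroup.mk' M a = QuotientGroup.mk' M a * QuotientGroup.mk' M b
    rw [← mul_inv_eq_iff_eq_mul, ← mul_inv_eq_one]
    simpa only [QuotientGroup.mk'_apply, QuotientGroup.mk_mul, QuotientGroup.mk_inv] using h1
  -- the fixed subgroup of an involution
  obtain ⟨-, -, hLs, hdisj, -⟩ := D.module
  have key : ∀ u, u = u0 ∨ u = u1 → Commute (g3 * u * g3⁻¹) u → ∀ y, π y = u → ∀ g, π g = g3 →
      ∃ L : Subgroup Y, (∀ a, a ∈ L ↔ a ∈ Q ∧ y * a * y⁻¹ * a⁻¹ ∈ P) ∧ Nat.card L = 4 * Nat.card P ∧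
        ∀ a ∈ L, g⁻¹ * a * g * a⁻¹ ∈ P := by
    intro u hu hcu y hy g hg
    obtain ⟨L, hL, hLc, hLr⟩ := hLs u hu y hy
    have hu2 : u * u = 1 := by rcases hu with rfl | rfl <;> simp [facts.1.1, facts.1.2.2.1]
    have hyyQ : y * y ∈ Q := D.mem_iff.2 (by rw [map_mul, hy, hu2])
    let β : Y → Y → Y := fun a b => a * b * a⁻¹ * b⁻¹
    have hβc : ∀ a ∈ Q, ∀ b ∈ Q, ∀ x, x * β a b = β a b * x := fun a ha b hb x =>
      hPc _ (D.comm a ha b hb) x
    have hβl : ∀ a ∈ Q, ∀ b ∈ Q, ∀ c ∈ Q, β (a * b) c = β b c * β a c := by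
      intro a ha b hb c hc
      show a * b * c * (a * b)⁻¹ * c⁻¹ = _
      rw [show a * b * c * (a * b)⁻¹ * c⁻¹ = (a * β b c) * c * a⁻¹ * c⁻¹ by simp only [β]; group,
        hβc b hb c hc a]
      simp only [β]; group
    have hβr : ∀ a ∈ Q, ∀ b ∈ Q, ∀ c ∈ Q, β a (b * c) = β a b * β a c := by
      intro a ha b hb c hc
      show a * (b * c) * a⁻¹ * (b * c)⁻¹ = _
      rw [show a * (b * c) * a⁻¹ * (b * c)⁻¹ = a * b * a⁻¹ * (β a c * b⁻¹) by simp only [β]; group,
        ← hβc a ha c hc b⁻¹]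
      simp only [β]; group
    have hβp : ∀ p ∈ P, ∀ a, β p a = 1 ∧ β a p = 1 := fun p hp a =>
      ⟨by simp only [β]; rw [← hPc p hp a, mul_inv_cancel_right, mul_inv_cancel],
        by simp only [β]; rw [hPc p hp a, mul_inv_cancel_right, mul_inv_cancel]⟩
    have hLab : ∀ a ∈ L, ∀ b ∈ L, a * b = b * a := by
      intro a ha b hb
      obtain ⟨v, hv, p, hp, rfl⟩ := hLr a ha
      obtain ⟨w, hw, q, hq, rfl⟩ := hLr b hb
      set v' := y * v * y⁻¹ with hv'
      set w' := y * w * y⁻¹ with hw'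
      have hv'Q : v' ∈ Q := (inferInstance : Q.Normal).conj_mem v hv y
      have hw'Q : w' ∈ Q := (inferInstance : Q.Normal).conj_mem w hw y
      have e1 : β v' w' = β v w := by
        have : β v' w' = y * β v w * y⁻¹ := by simp only [β, v', w']; group
        rw [this, hβc v hv w hw y, mul_inv_cancel_right]
      have e2 : β v' w = β v w' := by
        have h1 : β v' (y * w' * y⁻¹) = β v w' := by
          have : β v' (y * w' * y⁻¹) = y * β v w' * y⁻¹ := by simp only [β, v']; group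
          rw [this, hβc v hv w' hw'Q y, mul_inv_cancel_right]
        have h3 : y * w' * y⁻¹ = β (y * y) w * w := by simp only [β, w']; group
        rw [h3, hβr v' hv'Q _ (D.le (D.comm _ hyyQ w hw)) w hw,
          (hβp _ (D.comm _ hyyQ w hw) v').2, one_mul] at h1
        exact h1
      have hx : β (p * (v * v')) (q * (w * w')) = 1 := by
        rw [hβl p (D.le hp) _ (mul_mem hv hv'Q) _ (mul_mem (D.le hq) (mul_mem hw hw'Q)),
          (hβp p hp _).1, mul_one,
          hβr _ (mul_mem hv hv'Q) q (D.le hq) _ (mul_mem hw hw'Q), (hβp q hq _).2, one_mul,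
          hβl v hv v' hv'Q _ (mul_mem hw hw'Q), hβr v' hv'Q w hw w' hw'Q, hβr v hv w hw w' hw'Q,
          e1, e2]
        have h1 := hPsq _ (D.comm v hv w hw)
        have h2 := hPsq _ (D.comm v hv w' hw'Q)
        calc β v w' * β v w * (β v w * β v w') = β v w' * (β v w * β v w) * β v w' := by group
          _ = 1 := by rw [h1, mul_one]; exact h2
      simp only [β] at hx
      rw [mul_inv_eq_one, mul_inv_eq_iff_eq_mul] at hx
      exact hx
    have hPL : P ≤ L := fun p hp => (hL p).2 ⟨D.le hp, by rw [hPc p hp y]; simp [one_mem]⟩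
    let s : L →* Y :=
      { toFun := fun a => (a : Y) * a
        map_one' := by simp
        map_mul' := fun a b => by
          show (a : Y) * b * (a * b) = a * a * (b * b)
          rw [show (a : Y) * b * (a * b) = a * (b * a) * b by group, hLab b b.2 a a.2]; group }
    have hsP : s.range ≤ P := by rintro _ ⟨a, rfl⟩; exact D.sq a ((hL a).1 a.2).1
    have hsurj : s.range = P := by
      by_contra hne'
      have hd := Subgroup.card_dvd_of_le hsP
      have hlt : Nat.card s.range ≠ 4 := fun h => hne' (Subgroup.eq_of_le_of_card_ge hsP (by omega))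
      rw [hP4] at hd
      have hmem := Nat.mem_divisors.2 ⟨hd, (by norm_num : (4 : ℕ) ≠ 0)⟩
      rw [show Nat.divisors 4 = {1, 2, 4} from rfl] at hmem
      simp only [Finset.mem_insert, Finset.mem_singleton] at hmem
      obtain ⟨K, hKP, hK, hsK⟩ : ∃ K : Subgroup Y, K ≤ P ∧ Nat.card K = 2 ∧ s.range ≤ K := by
        rcases hmem with h | h | h
        · exact ⟨M, hMP, hM, (Subgroup.eq_bot_of_card_eq _ h).le.trans bot_le⟩
        · exact ⟨s.range, hsP, h, le_rfl⟩
        · exact absurd h hlt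
      haveI : K.Normal := ⟨fun k hk x => by rw [hPc k (hKP hk) x, mul_inv_cancel_right]; exact hk⟩
      obtain ⟨z', hP', hz', hzc', -⟩ := hquot K hKP hK
      have D' := D.quotient K hKP
      refine D'.no_plane hP' hz' hzc' (L.map (QuotientGroup.mk' K))
        (Subgroup.map_mono fun a ha => ((hL a).1 ha).1) (Subgroup.map_mono hPL) ?_ ?_
      · have hm : ∀ S : Subgroup Y, K ≤ S →
            Nat.card (S.map (QuotientGroup.mk' K)) * 2 = Nat.card S := by
          intro S hS
          have h := Subgroup.card_eq_card_quotient_mul_card_subgroup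
            ((QuotientGroup.mk' K).comp S.subtype).ker
          rw [Nat.card_congr (QuotientGroup.quotientKerEquivRange _).toEquiv, MonoidHom.range_comp,
            Subgroup.range_subtype, ← MonoidHom.comap_ker, QuotientGroup.ker_mk',
            show K.comap S.subtype = K.subgroupOf S from rfl,
            Nat.card_congr (Subgroup.subgroupOfEquivOfLe hS).toEquiv, hK] at h
          exact h.symm
        have h1 := hm L (hKP.trans hPL)
        have h2 := hm P hKP
        omega
      · rintro _ ⟨a, ha, rfl⟩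
        rw [← map_mul]
        exact (QuotientGroup.eq_one_iff _).2 (hsK ⟨⟨a, ha⟩, rfl⟩)
    have hker : s.ker.map L.subtype = P := by
      refine (Subgroup.eq_of_le_of_card_ge (show P ≤ s.ker.map L.subtype from
        fun p hp => ⟨⟨p, hPL hp⟩, hPsq p hp, rfl⟩) ?_).symm
      rw [Subgroup.card_map_of_injective L.subtype_injective]
      have h := Subgroup.card_eq_card_quotient_mul_card_subgroup s.ker
      rw [Nat.card_congr (QuotientGroup.quotientKerEquivRange s).toEquiv, hsurj, hLc, hP4] at h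
      rw [hP4]
      omega
    -- an element commuting with `y` modulo `Q` centralises `L`
    have hfix : ∀ x, Commute (π x) u → ∀ a ∈ L, x * a * x⁻¹ * a⁻¹ ∈ P := by
      intro x hx a ha
      obtain ⟨haQ, hp⟩ := (hL a).1 ha
      set b := x * a * x⁻¹ with hb
      have hbQ : b ∈ Q := (inferInstance : Q.Normal).conj_mem a haQ x
      set d := y * x * y⁻¹ * x⁻¹ with hd
      have hdQ : d ∈ Q := D.mem_iff.2 (by
        simp only [d, map_mul, map_inv, hy]
        rw [← hx.eq]; group)
      have hbL : b ∈ L := by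
        refine (hL b).2 ⟨hbQ, ?_⟩
        set p := y * a * y⁻¹ * a⁻¹ with hpdef
        have e : y * b * y⁻¹ * b⁻¹ = d * (x * p * x⁻¹) * b * d⁻¹ * b⁻¹ := by
          simp only [d, b, p]; group
        rw [e, hPc p hp x, mul_inv_cancel_right, hPc p hp d,
          show p * d * b * d⁻¹ * b⁻¹ = p * (d * b * d⁻¹ * b⁻¹) by group]
        exact mul_mem hp (D.comm d hdQ b hbQ)
      have hsq : b * b = a * a := by
        rw [hb, show x * a * x⁻¹ * (x * a * x⁻¹) = x * (a * a) * x⁻¹ by group,
          hPc _ (D.sq a haQ) x, mul_inv_cancel_right]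
      have hk : (⟨b * a⁻¹, mul_mem hbL (inv_mem ha)⟩ : L) ∈ s.ker := by
        show b * a⁻¹ * (b * a⁻¹) = 1
        rw [show b * a⁻¹ * (b * a⁻¹) = b * (a⁻¹ * b) * a⁻¹ by group, hLab _ (inv_mem ha) b hbL,
          show b * (b * a⁻¹) * a⁻¹ = (b * b) * (a * a)⁻¹ by group, hsq, mul_inv_cancel]
      exact hker ▸ ⟨_, hk, rfl⟩
    refine ⟨L, hL, hLc, fun a ha => ?_⟩
    -- conjugation by `g⁻¹` stabilises `L`
    have hbQ : g⁻¹ * a * g ∈ Q := by
      simpa using (inferInstance : Q.Normal).conj_mem a ((hL a).1 ha).1 g⁻¹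
    have h1 := hfix (g * y * g⁻¹) (by rw [map_mul, map_mul, map_inv, hg, hy]; exact hcu) a ha
    have hbL : g⁻¹ * a * g ∈ L := by
      refine (hL _).2 ⟨hbQ, ?_⟩
      have := (inferInstance : P.Normal).conj_mem _ h1 g⁻¹
      convert this using 1
      group
    have hsq : (g⁻¹ * a * g) * (g⁻¹ * a * g) = a * a := by
      rw [show g⁻¹ * a * g * (g⁻¹ * a * g) = g⁻¹ * ((a * a) * g) by group,
        ← hPc _ (D.sq a ((hL a).1 ha).1) g, inv_mul_cancel_left]
    have hk : (⟨g⁻¹ * a * g * a⁻¹, mul_mem hbL (inv_mem ha)⟩ : L) ∈ s.ker := by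
      show g⁻¹ * a * g * a⁻¹ * (g⁻¹ * a * g * a⁻¹) = 1
      set b := g⁻¹ * a * g
      rw [show b * a⁻¹ * (b * a⁻¹) = b * (a⁻¹ * b) * a⁻¹ by group, hLab _ (inv_mem ha) b hbL,
        show b * (b * a⁻¹) * a⁻¹ = (b * b) * (a * a)⁻¹ by group, hsq, mul_inv_cancel]
    exact hker ▸ ⟨_, hk, rfl⟩
  obtain ⟨g, hg⟩ := D.surj g3
  obtain ⟨y, hy⟩ := D.surj u0
  obtain ⟨x, hx⟩ := D.surj u1
  obtain ⟨L0, hL0, hL0c, hg0⟩ := key u0 (Or.inl rfl) facts.2.2.2.2.1 y hy g hg
  obtain ⟨L1, hL1, hL1c, hg1⟩ := key u1 (Or.inr rfl) facts.2.2.2.2.2 x hx g hg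
  -- the elements centralised by `g⁻¹` modulo `P`
  let K : Subgroup Y :=
    { carrier := {a | a ∈ Q ∧ g⁻¹ * a * g * a⁻¹ ∈ P}
      one_mem' := ⟨one_mem _, by simp [one_mem]⟩
      mul_mem' := fun {a b} ha hb => ⟨mul_mem ha.1 hb.1, by
        rw [show g⁻¹ * (a * b) * g * (a * b)⁻¹ =
          g⁻¹ * a * g * ((g⁻¹ * b * g * b⁻¹) * a⁻¹) by group, ← hPc _ hb.2 a⁻¹, ← mul_assoc]
        exact mul_mem ha.2 hb.2⟩
      inv_mem' := fun {a} ha => ⟨inv_mem ha.1, by
        have := hPc _ (inv_mem ha.2) a⁻¹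
        have h2 : g⁻¹ * a⁻¹ * g * a⁻¹⁻¹ = (g⁻¹ * a * g * a⁻¹)⁻¹ := by
          calc g⁻¹ * a⁻¹ * g * a⁻¹⁻¹ = a⁻¹ * ((g⁻¹ * a * g * a⁻¹)⁻¹ * a) := by group
            _ = (g⁻¹ * a * g * a⁻¹)⁻¹ := by rw [← mul_assoc, this]; group
        rw [h2]; exact inv_mem ha.2⟩ }
  have hKQ : K ≤ Q := fun a ha => ha.1
  have hLK : ∀ a, a ∈ L0 ∨ a ∈ L1 → a ∈ K := by
    rintro a (h | h)
    · exact ⟨((hL0 a).1 h).1, hg0 a h⟩
    · exact ⟨((hL1 a).1 h).1, hg1 a h⟩
  have hPL : ∀ (v : Y) (L : Subgroup Y), (∀ a, a ∈ L ↔ a ∈ Q ∧ v * a * v⁻¹ * a⁻¹ ∈ P) → P ≤ L :=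
    fun v L hL p hp => (hL p).2 ⟨D.le hp, by rw [hPc p hp v]; simp [one_mem]⟩
  set m := QuotientGroup.mk' P
  have hm : ∀ S : Subgroup Y, P ≤ S → Nat.card (S.map m) * 4 = Nat.card S := by
    intro S hS
    have h := Subgroup.card_eq_card_quotient_mul_card_subgroup (m.comp S.subtype).ker
    rw [Nat.card_congr (QuotientGroup.quotientKerEquivRange _).toEquiv, MonoidHom.range_comp,
      Subgroup.range_subtype, ← MonoidHom.comap_ker, QuotientGroup.ker_mk',
      show P.comap S.subtype = P.subgroupOf S from rfl,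
      Nat.card_congr (Subgroup.subgroupOfEquivOfLe hS).toEquiv, hP4] at h
    exact h.symm
  have hinf : (L0.map m) ⊓ (L1.map m) = ⊥ := eq_bot_iff.2 fun v hv => by
    obtain ⟨⟨a, ha, rfl⟩, ⟨b, hb, hab⟩⟩ := hv
    refine Subgroup.mem_bot.2 ((QuotientGroup.eq_one_iff a).2 ?_)
    have haL1 : a ∈ L1 := by
      have h := QuotientGroup.eq.1 (show m b = m a from hab)
      simpa using mul_mem hb (hPL x L1 hL1 h)
    exact hdisj y x hy hx a ((hL0 a).1 ha).1 ((hL0 a).1 ha).2 ((hL1 a).1 haL1).2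
  have hPK : P ≤ K := fun p hp => hLK p (Or.inl (hPL y L0 hL0 hp))
  have h16 : 16 ≤ Nat.card (K.map m) := by
    have hinj := Subgroup.mul_injective_of_disjoint (disjoint_iff.2 hinf)
    have hcards := Nat.card_le_card_of_injective
      (fun p : L0.map m × L1.map m => (⟨p.1 * p.2, mul_mem
        (Subgroup.map_mono (fun a ha => hLK a (Or.inl ha)) p.1.2)
        (Subgroup.map_mono (fun a ha => hLK a (Or.inr ha)) p.2.2)⟩ : K.map m))
      (fun p q h => hinj (congrArg Subtype.val h))
    rw [Nat.card_prod] at hcards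
    have a0 := hm L0 (hPL y L0 hL0)
    have a1 := hm L1 (hPL x L1 hL1)
    rw [hL0c, hP4] at a0
    rw [hL1c, hP4] at a1
    rw [show Nat.card (L0.map m) = 4 by omega, show Nat.card (L1.map m) = 4 by omega] at hcards
    exact hcards
  have hKeq : K = Q := Subgroup.eq_of_le_of_card_ge hKQ (by
    have := hm K hPK
    omega)
  have hgQ : g⁻¹ ∈ Q := D.faith _ fun q hq => by
    have h := (hKeq.ge hq : q ∈ K).2
    rwa [inv_inv]
  exact facts.2.2.2.1 (by
    rw [← hg]
    exact D.mem_iff.1 (by simpa using inv_mem hgQ))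

end Data

/-- The classification. -/
theorem main {π : Y →* A5} (hπ : Function.Surjective π) {Q : Subgroup Y} (hQ : π.ker = Q)
    (hp : IsPGroup 2 Q) (hC : Subgroup.centralizer (Q : Set Y) ≤ Q)
    (hrk : Cfsg.SectionalPRankLE 2 4 Y) :
    ((∀ a ∈ Q, ∀ b ∈ Q, a * b = b * a) ∧ (∀ a ∈ Q, a * a = 1) ∧ Nat.card Q = 16) ∨
    (Nat.card Q = 32 ∧ ∃ z : Y, z ≠ 1 ∧ (∀ y, y * z = z * y) ∧ ∃ (P : Subgroup Y) (D : Data π Q P),
      ∀ p, p ∈ P ↔ p = 1 ∨ p = z) := by
  classical
  haveI : Fact (Nat.Prime 2) := ⟨Nat.prime_two⟩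
  haveI hQn : Q.Normal := hQ ▸ inferInstance
  set P := (frattini Q).map Q.subtype with hPdef
  haveI : (frattini Q).Characteristic := inferInstance
  haveI hPn : P.Normal := inferInstance
  have hPQ : P ≤ Q := Subgroup.map_subtype_le _
  have hcomm : ∀ a ∈ Q, ∀ b ∈ Q, a * b * a⁻¹ * b⁻¹ ∈ P := fun a ha b hb =>
    ⟨_, PGroupsBasic.commutator_le_frattini hp (Subgroup.commutator_mem_commutator
      (Subgroup.mem_top (⟨a, ha⟩ : Q)) (Subgroup.mem_top (⟨b, hb⟩ : Q))),
      by simp [commutatorElement_def]⟩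
  have hsq : ∀ a ∈ Q, a * a ∈ P := fun a ha =>
    ⟨_, PGroupsBasic.pow_mem_frattini hp (⟨a, ha⟩ : Q), by simp [pow_two]⟩
  have hgen : ∀ K : Subgroup Y, (∀ a ∈ Q, a * a ∈ K) → P ≤ K := by
    intro K hK
    rw [hPdef, Subgroup.map_le_iff_le_comap, PGroupsBasic.frattini_eq_sup hp, sup_le_iff,
      Subgroup.closure_le]
    refine ⟨?_, ?_⟩
    · rw [commutator_def, Subgroup.commutator_le]
      intro a _ b _
      show (a : Y) * b * (a : Y)⁻¹ * (b : Y)⁻¹ ∈ K
      rw [show (a : Y) * b * (a : Y)⁻¹ * (b : Y)⁻¹ =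
        ((a : Y) * a) * (((a : Y)⁻¹ * b) * ((a : Y)⁻¹ * b)) * ((b : Y) * b)⁻¹ by group]
      exact mul_mem (mul_mem (hK a a.2) (hK _ (mul_mem (inv_mem a.2) b.2))) (inv_mem (hK b b.2))
    · rintro _ ⟨a, rfl⟩
      show ((a ^ 2 : Q) : Y) ∈ K
      rw [SubmonoidClass.coe_pow, pow_two]; exact hK a a.2
  have hcard : Nat.card Q ≤ 16 * Nat.card P := by
    have h := section_bound hrk (Q : Set Y) P (by rw [Subgroup.closure_eq]; exact hPQ)
      (fun s _ n hn => hPn.conj_mem n hn s) hcomm hsq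
    rwa [Subgroup.closure_eq] at h
  have hfaith : ∀ y, (∀ q ∈ Q, y * q * y⁻¹ * q⁻¹ ∈ P) → y ∈ Q := by
    intro y hy
    let K : Subgroup Y := (Subgroup.centralizer ((Q.map (QuotientGroup.mk' P) : Subgroup (Y ⧸ P)) : Set (Y ⧸ P))).comap
      (QuotientGroup.mk' P)
    haveI : (Q.map (QuotientGroup.mk' P)).Normal := hQn.map _ (QuotientGroup.mk'_surjective P)
    haveI : K.Normal := inferInstance
    have hKp : IsPGroup 2 K := by
      intro x
      obtain ⟨k, m, hm, hxm⟩ := Nat.exists_eq_two_pow_mul_odd (orderOf_pos x).ne'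
      refine ⟨k, ?_⟩
      set w : Y := ((x ^ (2 ^ k) : K) : Y) with hw
      have hw1 : w ^ m = 1 := by
        rw [hw, ← SubmonoidClass.coe_pow, ← pow_mul, ← hxm, pow_orderOf_eq_one, OneMemClass.coe_one]
      have hcop : (Nat.card (Subgroup.zpowers w)).Coprime 2 := by
        rw [Nat.card_zpowers]
        exact Nat.Coprime.coprime_dvd_left (orderOf_dvd_of_pow_eq_one hw1) hm.coprime_two_right
      have hwC : w ∈ Subgroup.centralizer (Q : Set Y) := by
        refine CoprimeAction.le_centralizer_of_frattini (A := Subgroup.zpowers w) ?_ ?_ ?_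
          (Subgroup.mem_zpowers w)
        · rw [Subgroup.normalizer_eq_top_iff.2 inferInstance]; exact le_top
        · obtain ⟨j, hj⟩ := (hp.to_subgroup (frattini Q)).exists_card_eq
          rw [hj]; exact hcop.pow_right j
        · intro a ha q hq
          have haK : a ∈ K := Subgroup.zpowers_le.mpr (x ^ (2 ^ k)).2 ha
          have h1 : QuotientGroup.mk' P q * QuotientGroup.mk' P a =
              QuotientGroup.mk' P a * QuotientGroup.mk' P q := haK _ ⟨q, hq, rfl⟩
          show a * q * a⁻¹ * q⁻¹ ∈ P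
          rw [← QuotientGroup.eq_one_iff, QuotientGroup.mk_mul, QuotientGroup.mk_mul,
            QuotientGroup.mk_mul, QuotientGroup.mk_inv, QuotientGroup.mk_inv]
          show QuotientGroup.mk' P a * QuotientGroup.mk' P q * (QuotientGroup.mk' P a)⁻¹ *
            (QuotientGroup.mk' P q)⁻¹ = 1
          rw [← h1, mul_inv_cancel_right, mul_inv_cancel]
      have hwQ : w ∈ Q := hC hwC
      obtain ⟨j, hj⟩ := hp ⟨w, hwQ⟩
      have hw2 : orderOf w ∣ 2 ^ j := orderOf_dvd_of_pow_eq_one (congrArg Subtype.val hj)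
      apply Subtype.ext
      show w = 1
      exact orderOf_eq_one_iff.mp (Nat.eq_one_of_dvd_coprimes (hm.coprime_two_right.pow_right j)
        (orderOf_dvd_of_pow_eq_one hw1) hw2)
    have hyK : y ∈ K := by
      show QuotientGroup.mk' P y ∈ Subgroup.centralizer _
      rintro _ ⟨q, hq, rfl⟩
      have h := (QuotientGroup.eq_one_iff _).2 (hy q hq)
      rw [QuotientGroup.mk_mul, QuotientGroup.mk_mul, QuotientGroup.mk_mul, QuotientGroup.mk_inv,
        QuotientGroup.mk_inv, mul_inv_eq_one, mul_inv_eq_iff_eq_mul] at h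
      exact h.symm
    haveI := simple
    haveI : (K.map π).Normal := Subgroup.Normal.map inferInstance π hπ
    rcases SimpleOrder.eq_bot_or_top (H := K.map π) inferInstance with h | h
    · rw [Subgroup.map_eq_bot_iff, hQ] at h
      exact h hyK
    · exfalso
      have h1 : IsPGroup 2 A5 := by
        have := hKp.map π
        rw [h] at this
        exact this.of_equiv Subgroup.topEquiv
      obtain ⟨n, hn⟩ := h1.exists_card_eq
      rw [nat_card_alternatingGroup, Nat.card_fin] at hn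
      have h2 : 3 ∣ 2 ^ n := ⟨20, by rw [← hn]; rfl⟩
      have := Nat.prime_three.dvd_of_dvd_pow h2
      norm_num at this
  have D : Data π Q P := ⟨hπ, hQ, hp, hPQ, hPn, hcomm, hsq, hgen, hcard, hfaith, hrk⟩
  rcases eq_or_ne P ⊥ with hP | hP
  · left
    refine ⟨fun a ha b hb => ?_, fun a ha => ?_, ?_⟩
    · have h := hcomm a ha b hb
      rw [hP, Subgroup.mem_bot, mul_inv_eq_one, mul_inv_eq_iff_eq_mul] at h
      exact h
    · have h := hsq a ha
      rwa [hP, Subgroup.mem_bot] at h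
    · rw [D.module.1, hP, Subgroup.card_bot]
  -- the first layer
  obtain ⟨M, ⟨hMn, hMP⟩, hMmax⟩ := WellFounded.has_min (r := ((· > ·) : Subgroup Y → Subgroup Y → Prop))
    wellFounded_gt {M : Subgroup Y | M.Normal ∧ M < P} ⟨⊥, inferInstance, bot_lt_iff_ne_bot.2 hP⟩
  haveI := hMn
  set m := QuotientGroup.mk' M
  have D1 := D.quotient M hMP.le
  have hne1 : P.map m ≠ ⊥ := by
    rw [Ne, Subgroup.map_eq_bot_iff, QuotientGroup.ker_mk']
    exact not_le_of_gt hMP
  have hmin1 : ∀ N : Subgroup (Y ⧸ M), N.Normal → N ≤ P.map m → N = ⊥ ∨ N = P.map m := by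
    intro N hN hle
    have hMN : M ≤ N.comap m := fun a ha => by
      rw [Subgroup.mem_comap, show m a = 1 from (QuotientGroup.eq_one_iff a).2 ha]; exact one_mem _
    have hNP : N.comap m ≤ P := by
      refine (Subgroup.comap_mono hle).trans (le_of_eq ?_)
      rw [Subgroup.comap_map_eq_self]
      rw [QuotientGroup.ker_mk']; exact hMP.le
    have hNN : N = (N.comap m).map m :=
      (Subgroup.map_comap_eq_self_of_surjective (QuotientGroup.mk'_surjective M) N).symm
    rcases eq_or_lt_of_le hNP with h | h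
    · right; rw [hNN, h]
    · left
      have : N.comap m = M := by
        by_contra hne
        exact hMmax _ ⟨hN.comap m, h⟩ (lt_of_le_of_ne hMN (Ne.symm hne))
      rw [hNN, this, Subgroup.map_eq_bot_iff, QuotientGroup.ker_mk']
  obtain ⟨h2, hcen⟩ := D1.first_layer hne1 hmin1
  have hidx : Nat.card P = 2 * Nat.card M := by
    have h := Subgroup.card_eq_card_quotient_mul_card_subgroup (m.comp P.subtype).ker
    rw [Nat.card_congr (QuotientGroup.quotientKerEquivRange _).toEquiv, MonoidHom.range_comp,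
      Subgroup.range_subtype, ← MonoidHom.comap_ker, QuotientGroup.ker_mk',
      show M.comap P.subtype = M.subgroupOf P from rfl,
      Nat.card_congr (Subgroup.subgroupOfEquivOfLe hMP.le).toEquiv, h2] at h
    exact h
  rcases eq_or_ne M ⊥ with hM | hM
  · right
    have hP2 : Nat.card P = 2 := by rw [hidx, hM, Subgroup.card_bot]
    obtain ⟨⟨z, hz⟩, hz1⟩ := Subgroup.ne_bot_iff_exists_ne_one.1 hP
    have hzne : z ≠ 1 := fun h => hz1 (Subtype.ext h)
    refine ⟨by rw [D.module.1, hP2], z, hzne, fun y => ?_, P, D, two_set hP2 hz hzne⟩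
    have h := hcen (m z) ⟨z, hz, rfl⟩ (m y)
    rw [← map_mul, ← map_mul] at h
    have h' := QuotientGroup.eq.1 (show m (y * z) = m (z * y) from h)
    rw [hM, Subgroup.mem_bot, inv_mul_eq_one] at h'
    exact h'
  · exfalso
    obtain ⟨M2, ⟨hM2n, hM2⟩, hM2max⟩ := WellFounded.has_min (r := ((· > ·) : Subgroup Y → Subgroup Y → Prop))
      wellFounded_gt {N : Subgroup Y | N.Normal ∧ N < M} ⟨⊥, inferInstance, bot_lt_iff_ne_bot.2 hM⟩
    haveI := hM2n
    set n := QuotientGroup.mk' M2
    have D2 := D.quotient M2 (hM2.le.trans hMP.le)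
    haveI : (M.map n).Normal := hMn.map _ (QuotientGroup.mk'_surjective M2)
    refine D2.second_layer (M.map n) (Subgroup.map_mono hMP.le) ?_ ?_ ?_ ?_
    · rw [Ne, Subgroup.map_eq_bot_iff, QuotientGroup.ker_mk']
      exact not_le_of_gt hM2
    · intro N hN hle
      have hMN : M2 ≤ N.comap n := fun a ha => by
        rw [Subgroup.mem_comap, show n a = 1 from (QuotientGroup.eq_one_iff a).2 ha]; exact one_mem _
      have hNP : N.comap n ≤ M := by
        refine (Subgroup.comap_mono hle).trans (le_of_eq ?_)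
        rw [Subgroup.comap_map_eq_self]
        rw [QuotientGroup.ker_mk']; exact hM2.le
      have hNN : N = (N.comap n).map n :=
        (Subgroup.map_comap_eq_self_of_surjective (QuotientGroup.mk'_surjective M2) N).symm
      rcases eq_or_lt_of_le hNP with h | h
      · right; rw [hNN, h]
      · left
        have : N.comap n = M2 := by
          by_contra hne
          exact hM2max _ ⟨hN.comap n, h⟩ (lt_of_le_of_ne hMN (Ne.symm hne))
        rw [hNN, this, Subgroup.map_eq_bot_iff, QuotientGroup.ker_mk']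
    · have hc : ∀ S : Subgroup Y, M2 ≤ S → Nat.card (S.map n) * Nat.card M2 = Nat.card S := by
        intro S hS
        have h := Subgroup.card_eq_card_quotient_mul_card_subgroup (n.comp S.subtype).ker
        rw [Nat.card_congr (QuotientGroup.quotientKerEquivRange _).toEquiv, MonoidHom.range_comp,
          Subgroup.range_subtype, ← MonoidHom.comap_ker, QuotientGroup.ker_mk',
          show M2.comap S.subtype = M2.subgroupOf S from rfl,
          Nat.card_congr (Subgroup.subgroupOfEquivOfLe hS).toEquiv] at h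
        exact h.symm
      refine Nat.eq_of_mul_eq_mul_right (Nat.card_pos (α := M2)) ?_
      rw [hc P (hM2.le.trans hMP.le), mul_assoc, hc M hM2.le, hidx]
    · rintro _ ⟨p, hp, rfl⟩ y
      obtain ⟨x, rfl⟩ := QuotientGroup.mk'_surjective M2 y
      refine ⟨x * p * x⁻¹ * p⁻¹, ?_, by simp only [map_mul, map_inv]; rfl⟩
      have h := hcen (m p) ⟨p, hp, rfl⟩ (m x)
      refine (QuotientGroup.eq_one_iff _).1 ?_
      show m (x * p * x⁻¹ * p⁻¹) = 1
      rw [map_mul, map_mul, map_mul, map_inv, map_inv, h, mul_inv_cancel_right, mul_inv_cancel]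

end Cfsg.Agent.A5OTwo92
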