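import Mathlib

set_option autoImplicit false

namespace Cfsg.Agent.A5Orders

lemma perm_five_pow : ∀ g : Equiv.Perm (Fin 5), Equiv.Perm.sign g = 1 → g ^ 2 = 1 ∨ g ^ 3 = 1 ∨ g ^ 5 = 1 := by
  decide +kernel

lemma orderOf_mem (g : alternatingGroup (Fin 5)) : orderOf g ∈ ({1, 2, 3, 5} : Finset ℕ) := by
  rw [← Subgroup.orderOf_coe]
  have h := perm_five_pow (g : Equiv.Perm (Fin 5)) g.2
  rcases h with h | h | h
  · rcases (Nat.dvd_prime Nat.prime_two).1 (orderOf_dvd_of_pow_eq_one h) with h' | h' <;> simp [h']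
  · rcases (Nat.dvd_prime Nat.prime_three).1 (orderOf_dvd_of_pow_eq_one h) with h' | h' <;> simp [h']
  · rcases (Nat.dvd_prime (by norm_num : Nat.Prime 5)).1 (orderOf_dvd_of_pow_eq_one h) with h' | h' <;>
      simp [h']

lemma exists_perm : ∀ p ∈ ({2, 3, 5} : Finset ℕ), ∃ g : Equiv.Perm (Fin 5), Equiv.Perm.sign g = 1 ∧ g ≠ 1 ∧ g ^ p = 1 := by
  decide +kernel

lemma exists_orderOf {n : ℕ} (hn : n ∈ ({1, 2, 3, 5} : Finset ℕ)) : ∃ g : alternatingGroup (Fin 5), orderOf g = n := by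
  by_cases h1 : n = 1
  · exact ⟨1, by simp [h1]⟩
  have hn' : n ∈ ({2, 3, 5} : Finset ℕ) := by
    simp only [Finset.mem_insert, Finset.mem_singleton] at hn ⊢; omega
  have hp : n.Prime := by
    simp only [Finset.mem_insert, Finset.mem_singleton] at hn'
    rcases hn' with rfl | rfl | rfl <;> norm_num
  obtain ⟨g, hs, hne, hpow⟩ := exists_perm n hn'
  refine ⟨⟨g, hs⟩, ?_⟩
  rw [← Subgroup.orderOf_coe]
  haveI := Fact.mk hp
  exact orderOf_eq_prime hpow hne

end Cfsg.Agent.A5Orders
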