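import Mathlib
import Cfsg.Agent.S3377
import Cfsg.Agent.Lib.CharBasic
import Cfsg.Agent.Lib.SimpleOrder

/-!
A simple group of order 2520 with a suitable six-dimensional representation has a subgroup
of index 7: two icosahedral subgroups share a tetrahedral one, hence fix a common vector.
-/

set_option autoImplicit false
set_option linter.style.haveILetI false
set_option linter.unusedSectionVars false

open scoped ComplexConjugate

namespace Cfsg.Agent.A7Geom29

abbrev A5 := ↥(alternatingGroup (Fin 5))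

/-- The double transposition fixing the last point. -/
def a0 : A5 := ⟨Equiv.swap 0 1 * Equiv.swap 2 3, Equiv.Perm.mem_alternatingGroup.2 (by decide)⟩

/-- A fixed element of order three. -/
def g0 : A5 := ⟨Equiv.swap 0 1 * Equiv.swap 1 2, Equiv.Perm.mem_alternatingGroup.2 (by decide)⟩

theorem a0_sq : a0 ^ 2 = 1 := by decide +kernel

theorem a0_ne : a0 ≠ 1 := by decide +kernel

theorem conj_two : ∀ a : A5, a ^ 2 = 1 → a ≠ 1 → ∃ c : A5, c * a0 * c⁻¹ = a := by decide +kernel

theorem conj_three : ∀ g : A5, g ^ 3 = 1 → g ≠ 1 → ∃ c : A5, c * g0 * c⁻¹ = g := by decide +kernel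

theorem pow_cases : ∀ g : A5, g ^ 2 = 1 ∨ g ^ 3 = 1 ∨ g ^ 5 = 1 := by decide +kernel

/-- The elements of order three with product of order five with `a0`. -/
def five : Finset A5 := Finset.univ.filter fun g => g ^ 3 = 1 ∧ g ≠ 1 ∧ (a0 * g) ^ 5 = 1

/-- The elements of order three with product of order three with `a0`. -/
def three : Finset A5 := Finset.univ.filter fun g => g ^ 3 = 1 ∧ g ≠ 1 ∧ (a0 * g) ^ 3 = 1

theorem five_card : five.card = 8 := by decide +kernel

theorem three_card : three.card = 8 := by decide +kernel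

theorem three_spec : ∀ g ∈ three, a0 * g ≠ 1 ∧ (g : Equiv.Perm (Fin 5)) 4 = 4 := by decide +kernel

/-- The point stabiliser containing `a0`. -/
def St : Subgroup A5 where
  carrier := {s | (s : Equiv.Perm (Fin 5)) 4 = 4}
  mul_mem' := by
    intro a b ha hb
    simp only [Set.mem_ofPred_eq, Subgroup.coe_mul, Equiv.Perm.mul_apply] at *
    rw [hb, ha]
  one_mem' := by simp
  inv_mem' := by
    intro a ha
    simp only [Set.mem_ofPred_eq, Subgroup.coe_inv] at *
    exact Equiv.Perm.inv_eq_iff_eq.2 ha.symm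

instance : DecidablePred (· ∈ St) := fun s =>
  inferInstanceAs (Decidable ((s : Equiv.Perm (Fin 5)) 4 = 4))

/-- Words in two elements. -/
def words {H : Type*} [Monoid H] (a g : H) : List H :=
  [1, a, g, g * g, a * g, a * (g * g), g * a, g * g * a, g * a * g, g * a * (g * g),
    g * g * a * g, a * g * a]

theorem st_words : ∀ g ∈ three, ∀ s : A5, (s : Equiv.Perm (Fin 5)) 4 = 4 → s ∈ words a0 g := by
  decide +kernel

theorem words_mem {H : Type*} [Group H] (K : Subgroup H) {a g : H} (ha : a ∈ K) (hg : g ∈ K) :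
    ∀ s ∈ words a g, s ∈ K := by
  intro s hs
  have hgg := K.mul_mem hg hg
  simp only [words, List.mem_cons, List.not_mem_nil, or_false] at hs
  rcases hs with rfl | rfl | rfl | rfl | rfl | rfl | rfl | rfl | rfl | rfl | rfl | rfl
  · exact K.one_mem
  · exact ha
  · exact hg
  · exact hgg
  · exact K.mul_mem ha hg
  · exact K.mul_mem ha hgg
  · exact K.mul_mem hg ha
  · exact K.mul_mem hgg ha
  · exact K.mul_mem (K.mul_mem hg ha) hg
  · exact K.mul_mem (K.mul_mem hg ha) hgg
  · exact K.mul_mem (K.mul_mem hgg ha) hg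
  · exact K.mul_mem (K.mul_mem ha hg) ha

/-- The value at an element of `A5` of a class function with values `6, 2, v, 1`. -/
def val (v : ℤ) (g : A5) : ℤ := if g = 1 then 6 else if g ^ 2 = 1 then 2 else if g ^ 3 = 1 then v else 1

theorem sum_val : (∑ g : A5, val 3 g = 120 ∧ ∑ g : A5, val 0 g = 60) ∧
    (∑ g : ↥St, val 3 (g : A5) = 36 ∧ ∑ g : ↥St, val 0 (g : A5) = 12) := by
  decide +kernel

theorem card_A5 : Nat.card A5 = 60 := by rw [Nat.card_eq_fintype_card]; decide +kernel

theorem card_St : Nat.card ↥St = 12 := by rw [Nat.card_eq_fintype_card]; decide +kernel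

section Trace

variable {V : Type*} [AddCommGroup V] [Module ℂ V] [FiniteDimensional ℂ V]

theorem sum_character_eq {H : Type*} [Group H] [Fintype H] (σ : Representation ℂ H V) :
    ∑ h, σ.character h = (Fintype.card H : ℂ) * (Module.finrank ℂ σ.invariants : ℂ) := by
  have hc : (Fintype.card H : ℂ) ≠ 0 := Nat.cast_ne_zero.2 Fintype.card_ne_zero
  haveI : Invertible (Fintype.card H : ℂ) := invertibleOfNonzero hc
  rw [← (Representation.isProj_averageMap σ).trace]
  simp [Representation.averageMap, GroupAlgebra.average, Representation.character, map_sum,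
    hc]

end Trace

variable {G : Type*} [Group G] [Finite G] [IsSimpleGroup G]

/-- `H` is an icosahedral subgroup through `t`. -/
def Good (t : G) (H : Subgroup G) : Prop :=
  ∃ ψ : A5 →* G, Function.Injective ψ ∧ ψ.range = H ∧ ψ a0 = t

theorem exists_good {t y : G} (ht : orderOf t = 2) (hy : orderOf y = 3)
    (h5 : orderOf (t * y) = 5) : ∃ H, Good t H ∧ y ∈ H := by
  obtain ⟨e⟩ := Cfsg.Agent.S3377.result
  have ht2 : t ^ 2 = 1 := by rw [← ht]; exact pow_orderOf_eq_one t
  have hy3 : y ^ 3 = 1 := by rw [← hy]; exact pow_orderOf_eq_one y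
  have hti : t⁻¹ = t := inv_eq_of_mul_eq_one_right (by rw [← pow_two]; exact ht2)
  have h5' : (y⁻¹ * t) ^ 5 = 1 := by
    rw [show y⁻¹ * t = (t * y)⁻¹ by rw [mul_inv_rev, hti], inv_pow, ← h5, pow_orderOf_eq_one,
      inv_one]
  have hrel : ∀ r ∈ ({FreeGroup.of (0 : Fin 2) ^ 3, FreeGroup.of (1 : Fin 2) ^ 5,
      (FreeGroup.of (0 : Fin 2) * FreeGroup.of 1) ^ 2} : Set (FreeGroup (Fin 2))),
      FreeGroup.lift ![y, y⁻¹ * t] r = 1 := by
    intro r hr
    rcases hr with rfl | rfl | rfl
    · simpa using hy3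
    · simpa using h5'
    · simpa [← mul_assoc] using ht2
  let φ := PresentedGroup.toGroup hrel
  let ψ₀ : A5 →* G := φ.comp e.symm.toMonoidHom
  set b : A5 := e (PresentedGroup.of 0)
  set a : A5 := e (PresentedGroup.of 0 * PresentedGroup.of 1)
  have hb : ψ₀ b = y := by
    simp [ψ₀, φ, b]
  have ha : ψ₀ a = t := by
    simp [ψ₀, φ, a]
  have hinj : Function.Injective ψ₀ := by
    haveI : IsSimpleGroup A5 := alternatingGroup.isSimpleGroup (by simp)
    rcases IsSimpleGroup.eq_bot_or_eq_top_of_normal _ (MonoidHom.normal_ker ψ₀) with h | h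
    · exact (MonoidHom.ker_eq_bot_iff ψ₀).1 h
    · exfalso
      have h1 : ψ₀ b = 1 := MonoidHom.mem_ker.1 (h ▸ Subgroup.mem_top b)
      rw [hb] at h1
      rw [h1, orderOf_one] at hy
      omega
  obtain ⟨c, hc⟩ := conj_two a (hinj (by rw [map_pow, ha, ht2, map_one])) (fun h => by
    rw [h, map_one] at ha
    rw [← ha, orderOf_one] at ht
    omega)
  let ψ : A5 →* G := ψ₀.comp (MulAut.conj c).toMonoidHom
  refine ⟨ψ.range, ⟨ψ, hinj.comp (MulAut.conj c).injective, rfl, ?_⟩, ?_⟩
  · simp only [ψ, MonoidHom.comp_apply, MulEquiv.coe_toMonoidHom, MulAut.conj_apply, hc, ha]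
  · refine ⟨(MulAut.conj c).symm b, ?_⟩
    simp only [ψ, MonoidHom.comp_apply, MulEquiv.coe_toMonoidHom, MulEquiv.apply_symm_apply, hb]

theorem orderOf_map {ψ : A5 →* G} (hψ : Function.Injective ψ) {g : A5} {p : ℕ} [Fact p.Prime]
    (hg : g ^ p = 1) (hg1 : g ≠ 1) : orderOf (ψ g) = p :=
  (orderOf_injective ψ hψ g).trans (orderOf_eq_prime hg hg1)

theorem isConj_map (ψ : A5 →* G) {g : A5} (hg : g ^ 3 = 1) (hg1 : g ≠ 1) :
    IsConj (ψ g0) (ψ g) := by
  obtain ⟨c, hc⟩ := conj_three g hg hg1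
  exact isConj_iff.2 ⟨ψ c, by rw [← map_inv, ← map_mul, ← map_mul, hc]⟩

theorem exists_shared {t x : G} (ht : orderOf t = 2) (hx : orderOf x = 3)
    (hlt : Nat.card {y : G // IsConj x y ∧ orderOf (t * y) = 3} <
      Nat.card {y : G // IsConj x y ∧ orderOf (t * y) = 5}) :
    ∃ H H' : Subgroup G, H ≠ H' ∧ Good t H ∧ Good t H' ∧ ∃ w, IsConj x w ∧
      orderOf (t * w) = 3 ∧ w ∈ H ∧ w ∈ H' := by
  classical
  haveI := Fintype.ofFinite G
  haveI : Fact (Nat.Prime 3) := ⟨Nat.prime_three⟩
  by_contra hno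
  push Not at hno
  set Y5 := Finset.univ.filter fun y : G => IsConj x y ∧ orderOf (t * y) = 5 with hY5
  set Y3 := Finset.univ.filter fun y : G => IsConj x y ∧ orderOf (t * y) = 3 with hY3
  have hord : ∀ y, IsConj x y → orderOf y = 3 := fun y hy => by
    obtain ⟨c, rfl⟩ := isConj_iff.1 hy
    rw [← MulAut.conj_apply, MulEquiv.orderOf_eq, hx]
  have hex : ∀ y : G, ∃ H, y ∈ Y5 → Good t H ∧ y ∈ H := fun y => by
    by_cases hy : y ∈ Y5
    · obtain ⟨-, h1, h2⟩ := Finset.mem_filter.1 hy
      obtain ⟨H, hH⟩ := exists_good ht (hord y h1) h2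
      exact ⟨H, fun _ => hH⟩
    · exact ⟨⊥, fun h => absurd h hy⟩
  choose f hf using hex
  set 𝓗 := Y5.image f
  have h8 : ∀ H ∈ 𝓗, (Y5.filter fun y => f y = H).card ≤ 8 ∧
      8 ≤ (Y3.filter fun y => y ∈ H).card := by
    intro H hH
    obtain ⟨y₀, hy₀, rfl⟩ := Finset.mem_image.1 hH
    obtain ⟨⟨ψ, hinj, hrange, hat⟩, hmem⟩ := hf y₀ hy₀
    refine ⟨?_, ?_⟩
    · refine le_trans (Finset.card_le_card (t := five.image ψ) fun y hy => ?_)
        (le_trans Finset.card_image_le five_card.le)
      obtain ⟨hyY, hfy⟩ := Finset.mem_filter.1 hy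
      obtain ⟨-, h1, h2⟩ := Finset.mem_filter.1 hyY
      have hyH : y ∈ ψ.range := by rw [hrange, ← hfy]; exact (hf y hyY).2
      obtain ⟨g, rfl⟩ := hyH
      have h3 := hord _ h1
      rw [orderOf_injective ψ hinj] at h3
      rw [← hat, ← map_mul, orderOf_injective ψ hinj] at h2
      refine Finset.mem_image_of_mem _ (Finset.mem_filter.2 ⟨Finset.mem_univ _, ?_, ?_, ?_⟩)
      · exact orderOf_dvd_iff_pow_eq_one.1 h3.dvd
      · intro h; rw [h, orderOf_one] at h3; omega
      · exact orderOf_dvd_iff_pow_eq_one.1 h2.dvd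
    · refine le_trans (le_of_eq ?_) (Finset.card_le_card (s := three.image ψ) fun y hy => ?_)
      · rw [Finset.card_image_of_injective _ hinj, three_card]
      obtain ⟨g, hg, rfl⟩ := Finset.mem_image.1 hy
      obtain ⟨-, hg3, hg1, hg'⟩ := Finset.mem_filter.1 hg
      have hy₀c : IsConj x y₀ := (Finset.mem_filter.1 hy₀).2.1
      obtain ⟨g₀, hg₀⟩ : y₀ ∈ ψ.range := by rw [hrange]; exact hmem
      have h0 := hord _ hy₀c
      rw [← hg₀, orderOf_injective ψ hinj] at h0
      have hc : IsConj x (ψ g) := by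
        refine hy₀c.trans (hg₀ ▸ (isConj_map ψ ?_ ?_).symm.trans (isConj_map ψ hg3 hg1))
        · exact orderOf_dvd_iff_pow_eq_one.1 h0.dvd
        · intro h; rw [h, orderOf_one] at h0; omega
      refine Finset.mem_filter.2 ⟨Finset.mem_filter.2 ⟨Finset.mem_univ _, hc, ?_⟩,
        hrange ▸ ⟨g, rfl⟩⟩
      rw [← hat, ← map_mul, orderOf_injective ψ hinj]
      exact orderOf_eq_prime hg' (three_spec g hg).1
  have hdis : (𝓗 : Set (Subgroup G)).PairwiseDisjoint fun H => Y3.filter fun y => y ∈ H := by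
    intro H hH H' hH' hne
    refine Finset.disjoint_left.2 fun w hw hw' => ?_
    obtain ⟨hwY, hwH⟩ := Finset.mem_filter.1 hw
    obtain ⟨-, hwH'⟩ := Finset.mem_filter.1 hw'
    obtain ⟨-, hc, ho⟩ := Finset.mem_filter.1 hwY
    obtain ⟨y, hy, rfl⟩ := Finset.mem_image.1 hH
    obtain ⟨y', hy', rfl⟩ := Finset.mem_image.1 hH'
    exact hno _ _ hne (hf y hy).1 (hf y' hy').1 w hc ho hwH hwH'
  have hle : Y5.card ≤ Y3.card := by
    calc Y5.card = ∑ H ∈ 𝓗, (Y5.filter fun y => f y = H).card :=
          Finset.card_eq_sum_card_image f Y5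
      _ ≤ ∑ H ∈ 𝓗, (Y3.filter fun y => y ∈ H).card :=
          Finset.sum_le_sum fun H hH => le_trans (h8 H hH).1 (h8 H hH).2
      _ = (𝓗.biUnion fun H => Y3.filter fun y => y ∈ H).card := (Finset.card_biUnion hdis).symm
      _ ≤ Y3.card := Finset.card_le_card (Finset.biUnion_subset.2 fun H _ => Finset.filter_subset _ _)
  rw [Nat.card_eq_fintype_card, Nat.card_eq_fintype_card, Fintype.card_subtype,
    Fintype.card_subtype] at hlt
  rw [hY5, hY3] at hle
  convert (Nat.not_lt.2 hle) hlt

theorem card_range {ψ : A5 →* G} (hψ : Function.Injective ψ) : Nat.card ↥ψ.range = 60 :=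
  (Nat.card_congr (MonoidHom.ofInjective hψ).toEquiv).symm.trans card_A5

theorem card_eq_360 (hcard : Nat.card G = 2520) {ψ ψ' : A5 →* G} (hψ : Function.Injective ψ)
    (hψ' : Function.Injective ψ') (hne : ψ.range ≠ ψ'.range) {M : Subgroup G} (hM : M ≠ ⊤)
    (h1 : ψ.range ≤ M) (h2 : ψ'.range ≤ M) : M.index = 7 := by
  classical
  have hG : ¬ IsMulCommutative G := SimpleOrder.not_comm_of_not_prime (by rw [hcard]; norm_num)
  obtain ⟨f, hf⟩ := SimpleOrder.exists_injective_alternating hG M hM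
  have hd : 2520 ∣ Nat.card ↥(alternatingGroup (Fin M.index)) :=
    hcard ▸ Subgroup.card_dvd_of_injective f hf
  have hmul := M.card_mul_index
  rw [hcard] at hmul
  have h60 : 60 ∣ Nat.card M := card_range hψ ▸ Subgroup.card_dvd_of_le h1
  obtain ⟨k, hk⟩ := h60
  have hk42 : k * M.index = 42 := by
    rw [hk] at hmul
    have : 60 * (k * M.index) = 60 * 42 := by rw [← mul_assoc]; exact hmul
    omega
  haveI : IsSimpleGroup A5 := alternatingGroup.isSimpleGroup (by simp)
  have hi7 : 7 ≤ M.index := by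
    by_contra hlt
    have h7 : 2520 ∣ M.index.factorial := by
      refine hd.trans ?_
      refine (Subgroup.card_subgroup_dvd_card _).trans (dvd_of_eq ?_)
      simp [Fintype.card_perm]
    have := Nat.le_of_dvd (Nat.factorial_pos _) h7
    have := Nat.factorial_le (Nat.le_of_lt_succ (Nat.lt_of_not_le hlt) : M.index ≤ 6)
    norm_num [Nat.factorial] at this
    omega
  have hk6 : k ≤ 6 := by
    have := Nat.mul_le_mul_left k hi7
    omega
  suffices hk3 : 3 < k by
    have : k = 6 := by
      interval_cases k <;> omega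
    subst this; omega
  by_contra hk3
  have hrel : ψ.range.relIndex M ≤ 3 := by
    have := Subgroup.card_mul_index (ψ.range.subgroupOf M)
    rw [Nat.card_congr (Subgroup.subgroupOfEquivOfLe h1).toEquiv, card_range hψ, hk] at this
    show (ψ.range.subgroupOf M).index ≤ 3
    have := Nat.eq_of_mul_eq_mul_left (by norm_num) this
    omega
  set K := ψ.range.subgroupOf M
  have htriv : ∀ φ : A5 →* ↥M, φ.range ≤ K.normalCore := by
    intro φ g hg
    rw [Subgroup.normalCore_eq_ker]
    obtain ⟨a, rfl⟩ := hg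
    rcases IsSimpleGroup.eq_bot_or_eq_top_of_normal _ (MonoidHom.normal_ker ((MulAction.toPermHom ↥M (↥M ⧸ K)).comp φ)) with
      hb | ht
    · exfalso
      have hle := Nat.card_le_card_of_injective _ ((MonoidHom.ker_eq_bot_iff _).1 hb)
      rw [card_A5, Nat.card_perm] at hle
      have : Nat.card (↥M ⧸ K) ≤ 3 := hrel
      have := Nat.factorial_le this
      norm_num [Nat.factorial] at this
      omega
    · exact MonoidHom.mem_ker.2 (MonoidHom.mem_ker.1 (ht ▸ Subgroup.mem_top a :
        a ∈ ((MulAction.toPermHom ↥M (↥M ⧸ K)).comp φ).ker))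
  refine hne (Subgroup.eq_of_le_of_card_ge ?_ (by rw [card_range hψ, card_range hψ'])).symm
  rintro _ ⟨a, rfl⟩
  have h := K.normalCore_le (htriv (ψ'.codRestrict M fun b => h2 ⟨b, rfl⟩) ⟨a, rfl⟩)
  exact h

theorem exists_index_seven (hcard : Nat.card G = 2520) {t x : G} (ht : orderOf t = 2)
    (hx : orderOf x = 3) {v : ℤ} (hv : v = 3 ∨ v = 0) {n : ℕ}
    (ρ : Representation ℂ G (Fin n → ℂ)) [ρ.IsIrreducible] (hn : ρ.character 1 = 6)
    (hρt : ρ.character t = 2) (hρx : ρ.character x = (v : ℂ))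
    (hρ5 : ∀ z : G, orderOf z = 5 → ρ.character z = 1)
    (hlt : Nat.card {y : G // IsConj x y ∧ orderOf (t * y) = 3} <
      Nat.card {y : G // IsConj x y ∧ orderOf (t * y) = 5}) :
    ∃ M : Subgroup G, M.index = 7 := by
  classical
  haveI : Fact (Nat.Prime 3) := ⟨Nat.prime_three⟩
  haveI : Fact (Nat.Prime 5) := ⟨Nat.prime_five⟩
  obtain ⟨H, H', hne, ⟨ψ, hinj, hrange, hat⟩, ⟨ψ', hinj', hrange', hat'⟩, w, hwc, hwo, hwH, hwH'⟩ :=
    exists_shared ht hx hlt
  have hcl := CharBasic.isClassFunction_character ρ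
  have hwx : orderOf w = 3 := by
    obtain ⟨c, rfl⟩ := isConj_iff.1 hwc
    rw [← MulAut.conj_apply, MulEquiv.orderOf_eq, hx]
  -- preimages of the shared element
  have hpre : ∀ φ : A5 →* G, Function.Injective φ → φ a0 = t → w ∈ φ.range →
      ∃ g ∈ three, φ g = w := by
    rintro φ hφ hφt ⟨g, rfl⟩
    rw [orderOf_injective φ hφ] at hwx
    rw [← hφt, ← map_mul, orderOf_injective φ hφ] at hwo
    refine ⟨g, Finset.mem_filter.2 ⟨Finset.mem_univ _, ?_, ?_, ?_⟩, rfl⟩
    · exact orderOf_dvd_iff_pow_eq_one.1 hwx.dvd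
    · intro h; rw [h, orderOf_one] at hwx; omega
    · exact orderOf_dvd_iff_pow_eq_one.1 hwo.dvd
  have hval : ∀ φ : A5 →* G, Function.Injective φ → φ a0 = t → w ∈ φ.range →
      ∀ a : A5, ρ.character (φ a) = (val v a : ℂ) := by
    intro φ hφ hφt hφw a
    obtain ⟨g, hg, hgw⟩ := hpre φ hφ hφt hφw
    obtain ⟨-, hg3, hg1, -⟩ := Finset.mem_filter.1 hg
    unfold val
    split_ifs with h1 h2 h3
    · rw [h1, map_one, hn]; norm_num
    · obtain ⟨c, rfl⟩ := conj_two a h2 h1
      rw [map_mul, map_mul, map_inv, hcl, hφt, hρt]; norm_num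
    · rw [CharBasic.apply_eq_of_isConj hcl
        ((hwc.trans (hgw ▸ (isConj_map φ hg3 hg1).symm.trans (isConj_map φ h3 h1))).symm), hρx]
    · rw [hρ5 _ (orderOf_map hφ ?_ h1)]; · norm_num
      rcases pow_cases a with h | h | h
      · exact absurd h h2
      · exact absurd h h3
      · exact h
  -- the fixed spaces
  set W : (A5 →* G) → Submodule ℂ (Fin n → ℂ) := fun φ =>
    (CharBasic.repComap φ ρ).invariants with hW
  set U := (CharBasic.repComap (ψ.comp St.subtype) ρ).invariants with hU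
  have hdimW : ∀ φ : A5 →* G, Function.Injective φ → φ a0 = t → w ∈ φ.range →
      (60 : ℤ) * (Module.finrank ℂ (W φ) : ℤ) = ∑ a : A5, val v a := by
    intro φ hφ hφt hφw
    have h := sum_character_eq (CharBasic.repComap φ ρ)
    rw [show Fintype.card A5 = 60 by rw [← Nat.card_eq_fintype_card, card_A5]] at h
    simp only [CharBasic.character_repComap, Function.comp_apply, hval φ hφ hφt hφw] at h
    exact_mod_cast h.symm
  have hwψ : w ∈ ψ.range := hrange ▸ hwH
  have hwψ' : w ∈ ψ'.range := hrange' ▸ hwH'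
  have hdimU : (12 : ℤ) * (Module.finrank ℂ U : ℤ) = ∑ a : ↥St, val v (a : A5) := by
    have h := sum_character_eq (CharBasic.repComap (ψ.comp St.subtype) ρ)
    rw [show Fintype.card ↥St = 12 by rw [← Nat.card_eq_fintype_card, card_St]] at h
    simp only [CharBasic.character_repComap, Function.comp_apply, MonoidHom.comp_apply,
      Subgroup.coe_subtype, hval ψ hinj hat hwψ] at h
    exact_mod_cast h.symm
  have hUge : ∀ φ : A5 →* G, Function.Injective φ → φ a0 = t → w ∈ φ.range → W φ ≤ U := by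
    intro φ hφ hφt hφw u hu
    rw [hW, Representation.mem_invariants] at hu
    rw [hU, Representation.mem_invariants]
    intro s
    obtain ⟨g, hg, hgw⟩ := hpre φ hφ hφt hφw
    obtain ⟨g', hg', hgw'⟩ := hpre ψ hinj hat hwψ
    let F : Subgroup G :=
      { carrier := {h | ρ h u = u}
        mul_mem' := fun {a b} ha hb => by
          simp only [Set.mem_ofPred_eq] at *
          rw [map_mul, Module.End.mul_apply, hb, ha]
        one_mem' := by simp
        inv_mem' := fun {a} ha => by
          simp only [Set.mem_ofPred_eq] at *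
          conv_lhs => rw [← ha]
          rw [← Module.End.mul_apply, ← map_mul, inv_mul_cancel, map_one, Module.End.one_apply] }
    have hmem : (s : A5) ∈ F.comap ψ := by
      refine words_mem (F.comap ψ) ?_ ?_ _ (st_words g' hg' s s.2)
      · show ρ (ψ a0) u = u
        rw [hat, ← hφt]; exact hu a0
      · show ρ (ψ g') u = u
        rw [hgw', ← hgw]; exact hu g
    exact hmem
  have hpos : W ψ ⊓ W ψ' ≠ ⊥ := by
    intro hbot
    have h := Submodule.finrank_sup_add_finrank_inf_eq (W ψ) (W ψ')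
    rw [hbot, finrank_bot, add_zero] at h
    have hle := Submodule.finrank_mono (sup_le (hUge ψ hinj hat hwψ) (hUge ψ' hinj' hat' hwψ'))
    have e1 := hdimW ψ hinj hat hwψ
    have e2 := hdimW ψ' hinj' hat' hwψ'
    rcases hv with rfl | rfl
    · rw [sum_val.1.1] at e1 e2; rw [sum_val.2.1] at hdimU; omega
    · rw [sum_val.1.2] at e1 e2; rw [sum_val.2.2] at hdimU; omega
  obtain ⟨u, hu, hu0⟩ := Submodule.exists_mem_ne_zero_of_ne_bot hpos
  let M : Subgroup G :=
    { carrier := {h | ρ h u = u}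
      mul_mem' := fun {a b} ha hb => by
        simp only [Set.mem_ofPred_eq] at *
        rw [map_mul, Module.End.mul_apply, hb, ha]
      one_mem' := by simp
      inv_mem' := fun {a} ha => by
        simp only [Set.mem_ofPred_eq] at *
        conv_lhs => rw [← ha]
        rw [← Module.End.mul_apply, ← map_mul, inv_mul_cancel, map_one, Module.End.one_apply] }
  refine ⟨M, card_eq_360 hcard hinj hinj' (by rw [hrange, hrange']; exact hne) ?_ ?_ ?_⟩
  · intro htop
    let S : Subrepresentation ρ := ⟨ℂ ∙ u, fun g z hz => by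
      obtain ⟨c, rfl⟩ := Submodule.mem_span_singleton.1 hz
      rw [map_smul, show ρ g u = u from (htop ▸ Subgroup.mem_top g : g ∈ M)]
      exact hz⟩
    rcases eq_bot_or_eq_top S with h | h
    · exact hu0 (by
        have := congrArg Subrepresentation.toSubmodule h
        exact Submodule.span_singleton_eq_bot.1 this)
    · have h' : (ℂ ∙ u) = (⊤ : Submodule ℂ (Fin n → ℂ)) := congrArg Subrepresentation.toSubmodule h
      have := finrank_span_singleton (K := ℂ) hu0
      rw [h', finrank_top, Module.finrank_fintype_fun_eq_card, Fintype.card_fin] at this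
      subst this
      rw [Representation.char_one] at hn
      norm_num at hn
  · rintro _ ⟨a, rfl⟩
    exact (Submodule.mem_inf.1 hu).1 a
  · rintro _ ⟨a, rfl⟩
    exact (Submodule.mem_inf.1 hu).2 a

end Cfsg.Agent.A7Geom29
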