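import Mathlib
import Cfsg.Prelude.Def_Blocks

/-!
Elementary API for the local ring of algebraic integers at a modular maximal ideal.
-/

namespace Cfsg.Agent.BlockTheoryLocalRing

open Cfsg

variable {p : ℕ} {M : Ideal AlgInt}

theorem isPrime (hM : IsPModular p M) : M.IsPrime := hM.2.1.isPrime

theorem one_notMem (hM : IsPModular p M) : (1 : AlgInt) ∉ M :=
  fun h => hM.2.1.ne_top ((Ideal.eq_top_iff_one M).mpr h)

theorem coe_ne_zero {b : AlgInt} (hb : b ∉ M) : (b : ℂ) ≠ 0 :=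
  fun h => hb (by rw [Subtype.ext (h.trans rfl) (a1 := b) (a2 := (0 : AlgInt))]; exact M.zero_mem)

theorem mul_notMem (hM : IsPModular p M) {a b : AlgInt} (ha : a ∉ M) (hb : b ∉ M) : a * b ∉ M :=
  fun h => ((isPrime hM).mem_or_mem h).elim ha hb

theorem natCast_notMem (hM : IsPModular p M) {n : ℕ} (hn : ¬ p ∣ n) : (n : AlgInt) ∉ M := by
  intro h
  obtain ⟨u, v, huv⟩ : IsCoprime (p : ℤ) (n : ℤ) :=
    Int.isCoprime_iff_nat_coprime.mpr (by simpa using hM.1.coprime_iff_not_dvd.mpr hn)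
  refine one_notMem hM ?_
  have : ((u * p + v * n : ℤ) : AlgInt) ∈ M := by
    push_cast
    exact M.add_mem (M.mul_mem_left _ hM.2.2) (M.mul_mem_left _ h)
  rw [huv] at this
  simpa using this

/-- The local ring at `M` as a subring of `ℂ`. -/
def localRing (hM : IsPModular p M) : Subring ℂ where
  carrier := {z | MemLocalRing M z}
  one_mem' := ⟨1, 1, one_notMem hM, by simp⟩
  zero_mem' := ⟨0, 1, one_notMem hM, by simp⟩
  mul_mem' := by
    rintro _ _ ⟨a, b, hb, rfl⟩ ⟨c, d, hd, rfl⟩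
    refine ⟨a * c, b * d, mul_notMem hM hb hd, ?_⟩
    push_cast; rw [div_mul_div_comm]
  add_mem' := by
    rintro _ _ ⟨a, b, hb, rfl⟩ ⟨c, d, hd, rfl⟩
    refine ⟨a * d + b * c, b * d, mul_notMem hM hb hd, ?_⟩
    push_cast; rw [div_add_div _ _ (coe_ne_zero hb) (coe_ne_zero hd)]
  neg_mem' := by
    rintro _ ⟨a, b, hb, rfl⟩
    exact ⟨-a, b, hb, by push_cast; rw [neg_div]⟩

theorem mem_localRing {hM : IsPModular p M} {z : ℂ} : z ∈ localRing hM ↔ MemLocalRing M z :=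
  Iff.rfl

theorem algInt_mem (hM : IsPModular p M) (a : AlgInt) : MemLocalRing M (a : ℂ) :=
  ⟨a, 1, one_notMem hM, by simp⟩

theorem of_isIntegral (hM : IsPModular p M) {z : ℂ} (hz : IsIntegral ℤ z) : MemLocalRing M z :=
  algInt_mem hM ⟨z, hz⟩

theorem inv_natCast_mem (hM : IsPModular p M) {n : ℕ} (hn : ¬ p ∣ n) :
    MemLocalRing M ((n : ℂ)⁻¹) :=
  ⟨1, n, natCast_notMem hM hn, by simp⟩

theorem ideal_le_ring {z : ℂ} (h : MemLocalIdeal M z) : MemLocalRing M z := by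
  obtain ⟨a, b, -, hb, h⟩ := h
  exact ⟨a, b, hb, h⟩

theorem ideal_zero (hM : IsPModular p M) : MemLocalIdeal M 0 :=
  ⟨0, 1, M.zero_mem, one_notMem hM, by simp⟩

theorem ideal_add (hM : IsPModular p M) {x y : ℂ} (hx : MemLocalIdeal M x)
    (hy : MemLocalIdeal M y) : MemLocalIdeal M (x + y) := by
  obtain ⟨a, b, ha, hb, rfl⟩ := hx
  obtain ⟨c, d, hc, hd, rfl⟩ := hy
  refine ⟨a * d + b * c, b * d, M.add_mem (M.mul_mem_right _ ha) (M.mul_mem_left _ hc),
    mul_notMem hM hb hd, ?_⟩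
  push_cast; rw [div_add_div _ _ (coe_ne_zero hb) (coe_ne_zero hd)]

theorem ideal_neg {x : ℂ} (hx : MemLocalIdeal M x) : MemLocalIdeal M (-x) := by
  obtain ⟨a, b, ha, hb, rfl⟩ := hx
  exact ⟨-a, b, M.neg_mem_iff.mpr ha, hb, by push_cast; rw [neg_div]⟩

theorem ideal_sub (hM : IsPModular p M) {x y : ℂ} (hx : MemLocalIdeal M x)
    (hy : MemLocalIdeal M y) : MemLocalIdeal M (x - y) :=
  sub_eq_add_neg x y ▸ ideal_add hM hx (ideal_neg hy)

theorem ideal_mul_left (hM : IsPModular p M) {x y : ℂ} (hx : MemLocalRing M x)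
    (hy : MemLocalIdeal M y) : MemLocalIdeal M (x * y) := by
  obtain ⟨a, b, hb, rfl⟩ := hx
  obtain ⟨c, d, hc, hd, rfl⟩ := hy
  refine ⟨a * c, b * d, M.mul_mem_left _ hc, mul_notMem hM hb hd, ?_⟩
  push_cast; rw [div_mul_div_comm]

theorem ideal_mul_right (hM : IsPModular p M) {x y : ℂ} (hx : MemLocalIdeal M x)
    (hy : MemLocalRing M y) : MemLocalIdeal M (x * y) :=
  mul_comm y x ▸ ideal_mul_left hM hy hx

theorem ideal_sum (hM : IsPModular p M) {ι : Type*} {s : Finset ι} {f : ι → ℂ}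
    (h : ∀ i ∈ s, MemLocalIdeal M (f i)) : MemLocalIdeal M (∑ i ∈ s, f i) :=
  Finset.sum_induction f _ (fun _ _ => ideal_add hM) (ideal_zero hM) h

theorem natCast_p_mem (hM : IsPModular p M) : MemLocalIdeal M (p : ℂ) :=
  ⟨p, 1, hM.2.2, one_notMem hM, by simp⟩

theorem natCast_mem_iff (hM : IsPModular p M) {n : ℕ} :
    MemLocalIdeal M (n : ℂ) ↔ p ∣ n := by
  refine ⟨fun h => ?_, ?_⟩
  · by_contra hn
    obtain ⟨a, b, ha, hb, h⟩ := h
    rw [div_eq_iff (coe_ne_zero hb)] at h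
    have : a = (n : AlgInt) * b := Subtype.ext (by push_cast; exact h)
    exact mul_notMem hM (natCast_notMem hM hn) hb (this ▸ ha)
  · rintro ⟨k, rfl⟩
    push_cast
    exact ideal_mul_right hM (natCast_p_mem hM) (natCast_mem (localRing hM) k)

/-- For an algebraic integer the local ideal is just `M`. -/
theorem algInt_mem_ideal_iff (hM : IsPModular p M) {a : AlgInt} :
    MemLocalIdeal M (a : ℂ) ↔ a ∈ M := by
  refine ⟨fun h => ?_, fun h => ⟨a, 1, h, one_notMem hM, by simp⟩⟩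
  obtain ⟨c, d, hc, hd, h⟩ := h
  rw [div_eq_iff (coe_ne_zero hd)] at h
  have : c = a * d := Subtype.ext (by push_cast; exact h)
  exact ((isPrime hM).mem_or_mem (this ▸ hc)).resolve_right hd

theorem one_not_ideal (hM : IsPModular p M) : ¬ MemLocalIdeal M (1 : ℂ) := by
  have := natCast_mem_iff hM (n := 1)
  simpa [hM.1.ne_one] using this

/-- Elements of the local ring outside the local ideal are invertible in it. -/
theorem inv_mem (hM : IsPModular p M) {z : ℂ} (hz : MemLocalRing M z)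
    (hn : ¬ MemLocalIdeal M z) : MemLocalRing M z⁻¹ := by
  obtain ⟨a, b, hb, rfl⟩ := hz
  have ha : a ∉ M := fun ha => hn ⟨a, b, ha, hb, rfl⟩
  exact ⟨b, a, ha, by rw [inv_div]⟩

theorem not_ideal_mul (hM : IsPModular p M) {x y : ℂ} (hx : MemLocalRing M x)
    (hy : MemLocalRing M y) (hx' : ¬ MemLocalIdeal M x) (hy' : ¬ MemLocalIdeal M y) :
    ¬ MemLocalIdeal M (x * y) := by
  intro h
  refine hy' ?_
  have := ideal_mul_left hM (inv_mem hM hx hx') h
  have hx0 : x ≠ 0 := fun h0 => hx' (by rw [h0]; exact ideal_zero hM)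
  rwa [← mul_assoc, inv_mul_cancel₀ hx0, one_mul] at this

theorem ideal_pow (hM : IsPModular p M) {x : ℂ} (hx : MemLocalIdeal M x) :
    ∀ {n : ℕ}, n ≠ 0 → MemLocalIdeal M (x ^ n)
  | 0, h => absurd rfl h
  | n + 1, _ => by
    rw [pow_succ]
    exact ideal_mul_left hM ((localRing hM).pow_mem (ideal_le_ring hx) n) hx

/-- `p ^ n` divides `z` in the local ring. -/
def DvdPow (M : Ideal AlgInt) (p n : ℕ) (z : ℂ) : Prop :=
  ∃ w : ℂ, MemLocalRing M w ∧ z = (p : ℂ) ^ n * w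

theorem dvdPow_zero' (hM : IsPModular p M) (n : ℕ) : DvdPow M p n 0 :=
  ⟨0, (localRing hM).zero_mem, by simp⟩

theorem dvdPow_add (hM : IsPModular p M) {n : ℕ} {x y : ℂ} (hx : DvdPow M p n x)
    (hy : DvdPow M p n y) : DvdPow M p n (x + y) := by
  obtain ⟨v, hv, rfl⟩ := hx
  obtain ⟨w, hw, rfl⟩ := hy
  exact ⟨v + w, (localRing hM).add_mem hv hw, by ring⟩

theorem dvdPow_sum (hM : IsPModular p M) {n : ℕ} {ι : Type*} {s : Finset ι} {f : ι → ℂ}
    (h : ∀ i ∈ s, DvdPow M p n (f i)) : DvdPow M p n (∑ i ∈ s, f i) :=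
  Finset.sum_induction f _ (fun _ _ => dvdPow_add hM) (dvdPow_zero' hM n) h

theorem dvdPow_mul_right (hM : IsPModular p M) {n : ℕ} {x y : ℂ} (hx : DvdPow M p n x)
    (hy : MemLocalRing M y) : DvdPow M p n (x * y) := by
  obtain ⟨v, hv, rfl⟩ := hx
  exact ⟨v * y, (localRing hM).mul_mem hv hy, by ring⟩

theorem dvdPow_le (hM : IsPModular p M) {m n : ℕ} (h : m ≤ n) {x : ℂ} (hx : DvdPow M p n x) :
    DvdPow M p m x := by
  obtain ⟨v, hv, rfl⟩ := hx
  obtain ⟨k, rfl⟩ := Nat.exists_eq_add_of_le h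
  exact ⟨(p : ℂ) ^ k * v, (localRing hM).mul_mem ((localRing hM).pow_mem
    (natCast_mem (localRing hM) p) k) hv, by rw [pow_add]; ring⟩

theorem dvdPow_ideal (hM : IsPModular p M) {n : ℕ} (hn : n ≠ 0) {x : ℂ} (hx : DvdPow M p n x) :
    MemLocalIdeal M x := by
  obtain ⟨v, hv, rfl⟩ := hx
  exact ideal_mul_right hM (ideal_pow hM (natCast_p_mem hM) hn) hv

/-- A number divisible by every power of `p` in the local ring is zero. -/
theorem eq_zero_of_forall_dvdPow (hM : IsPModular p M) {z : ℂ}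
    (h : ∀ n, DvdPow M p n z) : z = 0 := by
  by_contra hz
  obtain ⟨w, ⟨a, b, hb, hab⟩, hzw⟩ := h 0
  simp only [pow_zero, one_mul] at hzw
  subst hzw
  have ha : a ≠ 0 := by
    rintro rfl
    exact hz (by simp [← hab])
  obtain ⟨c, hc0, hc⟩ := (Algebra.IsIntegral.isIntegral (R := ℤ) a).isAlgebraic.exists_nonzero_dvd
    (mem_nonZeroDivisors_of_ne_zero ha)
  obtain ⟨d, hd⟩ := hc
  obtain ⟨k, u, hu, hcu⟩ := Nat.exists_eq_pow_mul_and_not_dvd
    (Int.natAbs_ne_zero.mpr hc0) p hM.1.ne_one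
  obtain ⟨v, ⟨e, f, hf, hef⟩, hv⟩ := h (k + 1)
  have hfb := coe_ne_zero hf
  have hbb := coe_ne_zero hb
  rw [← hab, ← hef] at hv
  field_simp at hv
  have hd' : ((c : ℤ) : ℂ) = (a : ℂ) * (d : ℂ) := by
    have := congrArg (fun t : AlgInt => (t : ℂ)) hd
    simpa using this
  obtain ⟨s, hs, hcs⟩ : ∃ s : ℤ, (s = 1 ∨ s = -1) ∧ c = s * (p ^ k * u : ℕ) := by
    rcases Int.natAbs_eq c with h1 | h1
    · exact ⟨1, .inl rfl, by rw [← hcu]; simpa using h1⟩
    · exact ⟨-1, .inr rfl, by rw [← hcu]; simpa using h1⟩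
  have key : ((s * u : ℤ) : AlgInt) * f = (p : AlgInt) * (e * b * d) := by
    refine Subtype.ext ?_
    push_cast
    have hp : (p : ℂ) ^ k ≠ 0 := pow_ne_zero _ (Nat.cast_ne_zero.mpr hM.1.ne_zero)
    refine mul_left_cancel₀ hp ?_
    have e1 : (s : ℂ) * ((p : ℂ) ^ k * u) = (a : ℂ) * (d : ℂ) := by
      rw [← hd', hcs]; push_cast; rfl
    linear_combination (f : ℂ) * e1 + (d : ℂ) * hv
  have hmem : ((s * u : ℤ) : AlgInt) * f ∈ M := key ▸ M.mul_mem_right _ hM.2.2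
  refine mul_notMem hM ?_ hf hmem
  intro hsu
  apply natCast_notMem hM hu
  rcases hs with rfl | rfl <;> simpa using hsu

/-- The residue ring of algebraic integers modulo `p` has only finitely many powers of a given
element; hence some power of an element of the local ideal is divisible by `p`. -/
theorem exists_pow_dvdPow_one (hM : IsPModular p M) {z : ℂ} (hz : MemLocalIdeal M z) :
    ∃ r : ℕ, r ≠ 0 ∧ DvdPow M p 1 (z ^ r) := by
  obtain ⟨a, b, ha, hb, rfl⟩ := hz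
  haveI : Fact p.Prime := ⟨hM.1⟩
  let I : Ideal AlgInt := Ideal.span {(p : AlgInt)}
  haveI : CharP (AlgInt ⧸ I) p :=
    CharP.quotient AlgInt p (fun hu => hM.2.1.ne_top (M.eq_top_of_isUnit_mem hM.2.2 hu))
  letI : Algebra (ZMod p) (AlgInt ⧸ I) := ZMod.algebra _ p
  let x : AlgInt ⧸ I := Ideal.Quotient.mk I a
  have hx : IsIntegral (ZMod p) x := by
    obtain ⟨f, hf, hfa⟩ := Algebra.IsIntegral.isIntegral (R := ℤ) a
    refine ⟨f.map (Int.castRingHom (ZMod p)), hf.map _, ?_⟩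
    rw [Polynomial.eval₂_map, Subsingleton.elim ((algebraMap (ZMod p) (AlgInt ⧸ I)).comp
      (Int.castRingHom (ZMod p))) ((Ideal.Quotient.mk I).comp (algebraMap ℤ AlgInt)),
      ← Polynomial.hom_eval₂, hfa, map_zero]
  haveI : Module.Finite (ZMod p) (Algebra.adjoin (ZMod p) ({x} : Set (AlgInt ⧸ I))) :=
    Module.Finite.iff_fg.mpr hx.fg_adjoin_singleton
  haveI : Finite (Algebra.adjoin (ZMod p) ({x} : Set (AlgInt ⧸ I))) :=
    Module.finite_of_finite (ZMod p)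
  obtain ⟨i, j, hij, heq⟩ := Finite.exists_ne_map_eq_of_infinite fun i : ℕ =>
    ((⟨x, Algebra.self_mem_adjoin_singleton _ x⟩ :
      Algebra.adjoin (ZMod p) ({x} : Set (AlgInt ⧸ I))) ^ (i + 1))
  wlog hlt : i < j generalizing i j
  · exact this j i hij.symm heq.symm (lt_of_le_of_ne (not_lt.mp hlt) hij.symm)
  obtain ⟨d, rfl⟩ := Nat.exists_eq_add_of_lt hlt
  have heq' : x ^ (i + 1) = x ^ (i + d + 1 + 1) := by
    simpa using congrArg Subtype.val heq
  have hmem : a ^ (i + 1) * (1 - a ^ (d + 1)) ∈ I := by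
    rw [← Ideal.Quotient.eq_zero_iff_mem]
    simp only [map_mul, map_pow, map_sub, map_one]
    rw [mul_sub, mul_one, ← pow_add, sub_eq_zero]
    exact heq'.trans (congrArg _ (by omega))
  obtain ⟨c, hc⟩ := Ideal.mem_span_singleton.mp hmem
  have hne : (1 - a ^ (d + 1)) ∉ M := fun h => one_notMem hM (by
    simpa using M.add_mem h (M.pow_mem_of_mem ha (d + 1) (by omega)))
  refine ⟨i + 1, by omega, (c : ℂ) / ((b ^ (i + 1) * (1 - a ^ (d + 1)) : AlgInt) : ℂ),
    ⟨c, _, mul_notMem hM (fun h => hb ((isPrime hM).mem_of_pow_mem _ h)) hne, rfl⟩, ?_⟩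
  have hc' := congrArg (fun t : AlgInt => (t : ℂ)) hc
  push_cast at hc'
  have h1 := coe_ne_zero hne
  push_cast at h1
  have h2 := coe_ne_zero hb
  push_cast
  rw [div_pow, pow_one, mul_div_assoc', ← hc', mul_div_mul_comm, div_self h1, mul_one]

/-- Products of high powers of elements of the local ideal are divisible by high powers of `p`. -/
theorem exists_pow_dvdPow (hM : IsPModular p M) {z : ℂ} (hz : MemLocalIdeal M z) (t : ℕ) :
    ∃ q₀ : ℕ, ∀ q, q₀ ≤ q → DvdPow M p t (z ^ q) := by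
  obtain ⟨r, -, w, hw, hr⟩ := exists_pow_dvdPow_one hM hz
  refine ⟨r * t, fun q hq => ?_⟩
  obtain ⟨d, rfl⟩ := Nat.exists_eq_add_of_le hq
  refine ⟨w ^ t * z ^ d, (localRing hM).mul_mem ((localRing hM).pow_mem hw t)
    ((localRing hM).pow_mem (ideal_le_ring hz) d), ?_⟩
  rw [pow_add, pow_mul, hr, pow_one, mul_pow, mul_assoc]

end Cfsg.Agent.BlockTheoryLocalRing
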