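import Mathlib
import Cfsg.Agent.Lib.ClassAlgebraVal

/-!
# Integrality of central character values and the degree dividing the order
-/

set_option autoImplicit false

open scoped ComplexConjugate

namespace Cfsg.Agent.ClassAlgebraOmega

universe u

variable {G : Type u} [Group G]

open ClassAlgebraVal

/-- An element of the integral group ring acting as a scalar acts as an algebraic integer. -/
theorem isIntegral_scalar [Finite G] {n : ℕ} (ρ : Representation ℂ G (Fin n → ℂ)) (hn : 0 < n)
    (s : Finset G) {c : ℂ} (h : (∑ g ∈ s, ρ g) = c • (1 : Module.End ℂ (Fin n → ℂ))) :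
    IsIntegral ℤ c := by
  have : Fintype G := Fintype.ofFinite G
  let φ : MonoidAlgebra ℤ G →ₐ[ℤ] Module.End ℂ (Fin n → ℂ) :=
    MonoidAlgebra.lift ℤ (Module.End ℂ (Fin n → ℂ)) G ρ
  have h1 : φ (∑ g ∈ s, MonoidAlgebra.of ℤ G g) = algebraMap ℂ _ c := by
    rw [map_sum, Algebra.algebraMap_eq_smul_one, ← h]
    exact Finset.sum_congr rfl fun g _ => MonoidAlgebra.lift_of ρ g
  have h2 : IsIntegral ℤ (φ (∑ g ∈ s, MonoidAlgebra.of ℤ G g)) :=
    (IsIntegral.of_finite ℤ (∑ g ∈ s, MonoidAlgebra.of ℤ G g)).map φ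
  rw [h1] at h2
  have : Nontrivial (Fin n → ℂ) := by
    have : Nonempty (Fin n) := ⟨⟨0, hn⟩⟩
    infer_instance
  exact (isIntegral_algebraMap_iff (FaithfulSMul.algebraMap_injective ℂ (Module.End ℂ (Fin n → ℂ)))).1 h2

/-- The character sum over a normal subset divided by the degree is an algebraic integer. -/
theorem isIntegral_sum_div [Finite G] {χ : G → ℂ} (hχ : Cfsg.IsIrrCharacter G χ) (s : Finset G)
    (hs : ∀ g ∈ s, ∀ x : G, x * g * x⁻¹ ∈ s) : IsIntegral ℤ ((∑ g ∈ s, χ g) / χ 1) := by
  obtain ⟨n, ρ, hi, rfl⟩ := hχ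
  have hn : 0 < n := by simpa using CharBasic.finrank_pos_of_irreducible ρ
  have hcomm : ∀ g v, (∑ y ∈ s, ρ y) (ρ g v) = ρ g ((∑ y ∈ s, ρ y) v) := by
    intro g v
    simp only [LinearMap.sum_apply, map_sum, ← Module.End.mul_apply, ← map_mul]
    refine Finset.sum_nbij' (fun y => g⁻¹ * y * g) (fun y => g * y * g⁻¹) ?_ ?_ ?_ ?_ ?_
    · intro y hy; simpa using hs y hy g⁻¹
    · intro y hy; exact hs y hy g
    · intro y _; group
    · intro y _; group
    · intro y _; congr 2; group
  obtain ⟨c, hc, htr⟩ := CharBasic.exists_scalar_of_commute ρ _ hcomm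
  rw [← Module.End.one_eq_id] at hc
  have hint := isIntegral_scalar ρ hn s hc
  have h1 : ∑ g ∈ s, ρ.character g = (n : ℂ) * c := by
    rw [map_sum] at htr
    simpa [Representation.character] using htr
  rw [h1, Representation.char_one]
  have : (n : ℂ) ≠ 0 := Nat.cast_ne_zero.2 hn.ne'
  simpa [this] using hint

/-- The central character is an algebraic integer. -/
theorem isIntegral_centralChar [Finite G] {χ : G → ℂ} (hχ : Cfsg.IsIrrCharacter G χ) (g : G) :
    IsIntegral ℤ (Cfsg.centralChar χ g) := by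
  classical
  have : Fintype G := Fintype.ofFinite G
  have h := isIntegral_sum_div hχ (Finset.univ.filter fun y => IsConj g y) (by
    intro y hy x
    simp only [Finset.mem_filter, Finset.mem_univ, true_and] at hy ⊢
    exact hy.trans (isConj_iff.2 ⟨x, rfl⟩))
  have h2 : ∑ y ∈ Finset.univ.filter (fun y => IsConj g y), χ y =
      ((Subgroup.centralizer ({g} : Set G)).index : ℂ) * χ g := by
    have hc : ∀ y ∈ Finset.univ.filter (fun y => IsConj g y), χ y = χ g := fun y hy =>
      (CharBasic.apply_eq_of_isConj (CharBasic.isClassFunction_of_isCharacter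
        (CharBasic.isCharacter_of_isIrrCharacter hχ)) (Finset.mem_filter.1 hy).2).symm
    rw [Finset.sum_congr rfl hc, Finset.sum_const, nsmul_eq_mul]
    congr 2
    have h3 := CharBasicOrth.card_conj_mul_card_centralizer g
    rw [← (Subgroup.centralizer ({g} : Set G)).index_mul_card] at h3
    have h4 := Nat.eq_of_mul_eq_mul_right Nat.card_pos h3
    rw [← h4, Nat.card_eq_fintype_card, Fintype.card_subtype]
  rw [h2] at h
  exact h

/-- The order divided by the degree is an algebraic integer, so the degree divides the order. -/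
theorem charDegree_dvd_card [Finite G] (χ : Cfsg.IrrCharacter G) :
    Cfsg.charDegree (χ : G → ℂ) ∣ Nat.card G := by
  classical
  have : Fintype G := Fintype.ofFinite G
  refine dvd_of_integral (charDegree_pos χ).ne'
    (z := (∑ g : G, (χ : G → ℂ) g * conj ((χ : G → ℂ) g)) / (χ : G → ℂ) 1) ?_ ?_
  · have hfib : ∑ g : G, (χ : G → ℂ) g * conj ((χ : G → ℂ) g) =
        ∑ C : ConjClasses G, (∑ g ∈ Finset.univ.filter (fun g => ConjClasses.mk g = C),
          (χ : G → ℂ) g) * conj ((χ : G → ℂ) C.out) := by
      rw [← Finset.sum_fiberwise (Finset.univ : Finset G) ConjClasses.mk]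
      refine Finset.sum_congr rfl fun C _ => ?_
      rw [Finset.sum_mul]
      refine Finset.sum_congr rfl fun g hg => ?_
      have : IsConj g C.out := ConjClasses.mk_eq_mk_iff_isConj.1
        ((Finset.mem_filter.1 hg).2.trans (Quotient.out_eq C).symm)
      rw [irr_conj χ this]
    rw [hfib, Finset.sum_div]
    refine IsIntegral.sum _ fun C _ => ?_
    rw [mul_div_right_comm]
    refine (isIntegral_sum_div χ.2 _ ?_).mul ?_
    · intro g hg x
      simp only [Finset.mem_filter, Finset.mem_univ, true_and] at hg ⊢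
      rw [← hg]
      exact (ConjClasses.mk_eq_mk_iff_isConj.2 (isConj_iff.2 ⟨x, rfl⟩)).symm
    · rw [← CharBasic.isCharacter_inv (irr_isCharacter χ)]
      exact CharBasic.isCharacter_integral (irr_isCharacter χ) _
  · have h := CharBasicOrth.classInner_irr_self χ.2
    have h2 := CharBasicOrth.card_mul_classInner (χ : G → ℂ) χ
    rw [h, mul_one] at h2
    rw [← h2, ← apply_one_eq_charDegree]
    field_simp [CharBasic.isIrrCharacter_apply_one_ne_zero χ.2]

theorem factorization_charDegree_le [Finite G] (χ : Cfsg.IrrCharacter G) (p : ℕ) :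
    (Cfsg.charDegree (χ : G → ℂ)).factorization p ≤ (Nat.card G).factorization p :=
  (Nat.factorization_le_iff_dvd (charDegree_pos χ).ne' Nat.card_pos.ne').2
    (charDegree_dvd_card χ) p

end Cfsg.Agent.ClassAlgebraOmega
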