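import Mathlib
import Cfsg.Agent.Lib.ClassAlgebraOmega
import Cfsg.Agent.Lib.BlockTheoryLocalRing

/-!
# Congruences of character values modulo the local ideal
-/

set_option autoImplicit false

open scoped ComplexConjugate

namespace Cfsg.Agent.ClassAlgebraMod

open Cfsg BlockTheoryLocalRing

universe u

variable {G : Type u} [Group G] {p : ℕ} {M : Ideal AlgInt}

/-- A sum of powers of a root of unity. -/
theorem sum_pow_of_pow_eq_one {x : ℂ} {n : ℕ} (hx : x ^ n = 1) :
    ∑ k ∈ Finset.range n, x ^ k = if x = 1 then (n : ℂ) else 0 := by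
  split_ifs with h
  · simp [h]
  · have := geom_sum_mul x n
    rw [hx, sub_self, mul_eq_zero] at this
    exact this.resolve_right (sub_ne_zero.2 h)

/-- If the values of a character on a cyclic `p'`-group are congruent to the degree, every nontrivial
eigenvalue occurs with multiplicity divisible by `p`. -/
theorem dvd_multiplicity (hM : IsPModular p M) {ι : Type*} [Fintype ι] (μ : ι → ℂ) {n : ℕ}
    (hn : ¬ p ∣ n) (hμ : ∀ i, μ i ^ n = 1) (d : ℂ)
    (hd : ∀ k : ℕ, MemLocalIdeal M (∑ i, μ i ^ k - d)) {l : ℂ} (hl : l ≠ 1) (hln : l ^ n = 1)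
    : p ∣ (Finset.univ.filter fun i => μ i = l).card := by
  have hn0 : n ≠ 0 := fun h => hn (h ▸ dvd_zero p)
  set ν : ℂ := l ^ (n - 1) with hν
  have hνn : ν ^ n = 1 := by rw [hν, ← pow_mul, mul_comm, pow_mul, hln, one_pow]
  have hlν : l * ν = 1 := by rw [hν, ← pow_succ', Nat.sub_add_cancel (Nat.one_le_iff_ne_zero.2 hn0), hln]
  have hν1 : ν ≠ 1 := fun h => hl (by rw [h, mul_one] at hlν; exact hlν)
  have hkey : ((n * (Finset.univ.filter fun i => μ i = l).card : ℕ) : ℂ) =
      ∑ k ∈ Finset.range n, ν ^ k * (∑ i, μ i ^ k - d) := by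
    have h1 : ∑ k ∈ Finset.range n, ν ^ k * (∑ i, μ i ^ k - d) =
        ∑ i, ∑ k ∈ Finset.range n, (ν * μ i) ^ k - (∑ k ∈ Finset.range n, ν ^ k) * d := by
      simp only [mul_sub, Finset.sum_sub_distrib, Finset.mul_sum, mul_pow, Finset.sum_mul]
      rw [Finset.sum_comm]
    rw [h1, sum_pow_of_pow_eq_one hνn, if_neg hν1, zero_mul, sub_zero]
    have h2 : ∀ i, ∑ k ∈ Finset.range n, (ν * μ i) ^ k = if μ i = l then (n : ℂ) else 0 := by
      intro i
      rw [sum_pow_of_pow_eq_one (by rw [mul_pow, hνn, hμ, one_mul])]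
      refine if_congr ⟨fun h => ?_, fun h => by rw [h, mul_comm, hlν]⟩ rfl rfl
      calc μ i = (l * ν) * μ i := by rw [hlν, one_mul]
        _ = l * (ν * μ i) := by ring
        _ = l := by rw [h, mul_one]
    simp only [h2, ← Finset.sum_filter, Finset.sum_const, nsmul_eq_mul]
    push_cast; ring
  have hmem : MemLocalIdeal M ((n * (Finset.univ.filter fun i => μ i = l).card : ℕ) : ℂ) := by
    rw [hkey]
    refine ideal_sum hM fun k _ => ideal_mul_left hM (of_isIntegral hM ?_) (hd k)
    exact (IsIntegral.of_pow (Nat.pos_of_ne_zero hn0) (by rw [hνn]; exact isIntegral_one)).pow k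
  exact (hM.1.dvd_mul.1 ((natCast_mem_iff hM).1 hmem)).resolve_left hn

/-- The determinant of a representation of a perfect group is one. -/
theorem det_eq_one_of_perfect (hperf : commutator G = ⊤) {V : Type*} [AddCommGroup V] [Module ℂ V]
    (ρ : Representation ℂ G V) (g : G) : LinearMap.det (ρ g) = 1 := by
  let f : G →* ℂˣ := MonoidHom.toHomUnits ((LinearMap.det : (V →ₗ[ℂ] V) →* ℂ).comp ρ)
  have h : g ∈ f.ker := Abelianization.commutator_subset_ker f (by rw [hperf]; exact Subgroup.mem_top g)
  have := congrArg Units.val (MonoidHom.mem_ker.1 h)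
  simpa [f] using this

/-- A principal block character is congruent to its degree on elements whose class has `p'` size. -/
theorem principal_congr (hM : IsPModular p M) [Finite G] {χ : IrrCharacter G}
    (hχ : χ ∈ principalBlock M G) {g : G}
    (hg : ¬ p ∣ (Subgroup.centralizer ({g} : Set G)).index) :
    MemLocalIdeal M ((χ : G → ℂ) g - (χ : G → ℂ) 1) := by
  have h := hχ g
  have h1 : (χ : G → ℂ) 1 ≠ 0 := CharBasic.isIrrCharacter_apply_one_ne_zero χ.2
  have h2 : MemLocalRing M ((χ : G → ℂ) 1) :=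
    of_isIntegral hM (CharBasic.isCharacter_integral (ClassAlgebraVal.irr_isCharacter χ) 1)
  have h3 := ideal_mul_left hM (inv_natCast_mem hM hg) (ideal_mul_right hM h h2)
  have hne : ((Subgroup.centralizer ({g} : Set G)).index : ℂ) ≠ 0 := by
    intro h0
    exact hg (by rw [Nat.cast_eq_zero.1 h0]; exact dvd_zero p)
  have h4 := ideal_neg h3
  convert h4 using 1
  simp only [centralChar]
  field_simp
  ring

/-- A `p`-element has value congruent to the degree. -/
theorem character_pElement_congr (hM : IsPModular p M) [Finite G] (χ : IrrCharacter G) {g : G}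
    {k : ℕ} (hg : orderOf g = p ^ k) : MemLocalIdeal M ((χ : G → ℂ) g - (χ : G → ℂ) 1) := by
  obtain ⟨n, ρ, -, hρ⟩ := χ.2
  obtain ⟨b, μ, -, hμ, -, h4⟩ := CharBasic.exists_rep_eigenbasis ρ g
  have hg1 : ρ.character g = ∑ i, μ i := by simpa using h4 1
  rw [← hρ, hg1, Representation.char_one]
  have key : ∀ i, MemLocalIdeal M (μ i - 1) := by
    intro i
    have hint : IsIntegral ℤ (μ i) := IsIntegral.of_pow (isOfFinOrder_of_finite g).orderOf_pos
      (by rw [hμ]; exact isIntegral_one)
    set z : AlgInt := ⟨μ i, hint⟩ with hz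
    have : Nontrivial (AlgInt ⧸ M) := Ideal.Quotient.nontrivial_iff.2 hM.2.1.ne_top
    have : CharP (AlgInt ⧸ M) p := by
      have : Fact p.Prime := ⟨hM.1⟩
      refine (CharP.charP_iff_prime_eq_zero hM.1).2 ?_
      rw [← map_natCast (Ideal.Quotient.mk M)]
      exact Ideal.Quotient.eq_zero_iff_mem.2 hM.2.2
    have : Fact p.Prime := ⟨hM.1⟩
    have : M.IsPrime := isPrime hM
    have hz1 : (Ideal.Quotient.mk M z) = 1 := by
      have h5 : (Ideal.Quotient.mk M z) ^ p ^ k = 1 := by
        rw [← map_pow, show z ^ p ^ k = 1 from Subtype.ext (by rw [← hg]; simpa [hz] using hμ i),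
          map_one]
      have h6 : (Ideal.Quotient.mk M z - 1) ^ p ^ k = 0 := by
        rw [sub_pow_char_pow, h5, one_pow, sub_self]
      exact sub_eq_zero.1 (eq_zero_of_pow_eq_zero h6)
    rw [← map_one (Ideal.Quotient.mk M), Ideal.Quotient.eq] at hz1
    have := (algInt_mem_ideal_iff hM).2 hz1
    simpa [hz] using this
  have := ideal_sum hM (s := Finset.univ) fun i _ => key i
  simpa [Finset.sum_sub_distrib] using this

/-- A central character vanishes modulo the ideal when the `p`-part of the class size exceeds that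
of the degree. -/
theorem centralChar_mem_ideal (hM : IsPModular p M) [Finite G] (χ : IrrCharacter G) (g : G)
    (h : (charDegree (χ : G → ℂ)).factorization p <
      ((Subgroup.centralizer ({g} : Set G)).index).factorization p) :
    MemLocalIdeal M (centralChar (χ : G → ℂ) g) := by
  set n := charDegree (χ : G → ℂ) with hn
  set i := (Subgroup.centralizer ({g} : Set G)).index with hi
  have hn0 : n ≠ 0 := (ClassAlgebraVal.charDegree_pos χ).ne'
  obtain ⟨j, hj⟩ : p ^ (n.factorization p + 1) ∣ i :=
    (Nat.pow_dvd_pow p h).trans (Nat.ordProj_dvd i p)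
  set m := n / p ^ n.factorization p with hm
  have hnm : (n : ℂ) = (p : ℂ) ^ n.factorization p * (m : ℂ) := by
    exact_mod_cast (Nat.ordProj_mul_ordCompl_eq_self n p).symm
  have hmd : ¬ p ∣ m := Nat.not_dvd_ordCompl hM.1 hn0
  have hp0 : (p : ℂ) ≠ 0 := Nat.cast_ne_zero.2 hM.1.ne_zero
  have : centralChar (χ : G → ℂ) g = (p : ℂ) * ((j : ℂ) * (χ : G → ℂ) g * (m : ℂ)⁻¹) := by
    rw [centralChar, ← hi, hj, ClassAlgebraVal.apply_one_eq_charDegree, ← hn, hnm]
    push_cast
    field_simp
    ring
  rw [this]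
  refine ideal_mul_right hM (natCast_p_mem hM) ?_
  exact (localRing hM).mul_mem ((localRing hM).mul_mem (natCast_mem (localRing hM) j)
    (of_isIntegral hM (CharBasic.isCharacter_integral (ClassAlgebraVal.irr_isCharacter χ) g)))
    (inv_natCast_mem hM hmd)

end Cfsg.Agent.ClassAlgebraMod
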