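import Cfsg.Agent.Lib.SimpleOrder

/-!
A kernel-computable criterion excluding an order for nonabelian simple groups.
-/

namespace Cfsg.Agent.SimpleOrderCheck

open Cfsg.Agent.SimpleOrder

/-- `i ! % M`. -/
def facMod (M : ℕ) : ℕ → ℕ
  | 0 => 1 % M
  | i + 1 => (i + 1) * facMod M i % M

theorem facMod_eq (M i : ℕ) : facMod M i = i.factorial % M := by
  induction i with
  | zero => rfl
  | succ i ih => rw [facMod, ih, Nat.factorial_succ, Nat.mul_mod_mod]

theorem facMod_eq_zero {M i : ℕ} (h : M ∣ i.factorial) : facMod M i = 0 := by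
  rw [facMod_eq]; exact Nat.mod_eq_zero_of_dvd h

theorem mul_facMod_eq_zero {M a i : ℕ} (h : M ∣ a * i.factorial) : a * facMod M i % M = 0 := by
  rw [facMod_eq, Nat.mul_mod_mod]; exact Nat.mod_eq_zero_of_dvd h

/-- Trial division. -/
def primeB (p : ℕ) : Bool :=
  decide (2 ≤ p) && (List.range p).all fun d => decide (d < 2) || decide (p % d ≠ 0)

theorem prime_of_primeB {p : ℕ} (h : primeB p = true) : p.Prime := by
  simp only [primeB, Bool.and_eq_true, decide_eq_true_eq, List.all_eq_true, List.mem_range,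
    Bool.or_eq_true] at h
  rw [Nat.prime_def_lt']
  refine ⟨h.1, fun d h2 hd hdvd => ?_⟩
  rcases h.2 d hd with h' | h'
  · omega
  · exact h' (Nat.mod_eq_zero_of_dvd hdvd)

/-- Candidates for the number of Sylow `p`-subgroups. -/
def cand (n p m : ℕ) : List ℕ :=
  ((List.range (m / p + 1)).map fun j => 1 + p * j).filter fun d =>
    decide (d ≠ 1) && decide (m % d = 0) && decide (facMod (2 * n) d = 0)

/-- Candidates for `[N(Q) : C(Q)]` for a Sylow subgroup `Q` of prime order `q` with `d` conjugates. -/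
def eList (n q d : ℕ) : List ℕ :=
  (List.range q).filter fun e =>
    decide (1 < e) && decide ((q - 1) % e = 0) && decide (n / d % (e * q) = 0)

/-- Compatibility of a prime `q` occurring once with a subgroup of index `i`. -/
def nOK (n q i : ℕ) : Bool :=
  (cand n q (n / q)).any fun d =>
    decide (q * (q - 1) * facMod (2 * (n / d)) (i - q) % (2 * (n / d)) = 0) &&
      (eList n q d).any fun e => decide (q * facMod (n / d / e) (i - q) % (n / d / e) = 0)

/-- Whether `i` may be the index of a proper subgroup. -/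
def iOK (n : ℕ) (qs : List ℕ) (i : ℕ) : Bool :=
  decide (facMod (2 * n) i = 0) &&
    qs.all fun q =>
      !(decide (2 < q) && primeB q && decide (n % q = 0) && decide (n / q % q ≠ 0) &&
          decide (q ≤ i) && decide (i < 2 * q)) || nOK n q i

/-- Exclusion of `d` Sylow `p`-subgroups, of order `p ^ v`. -/
def dKill (n : ℕ) (qs : List ℕ) (p v m d : ℕ) : Bool :=
  !iOK n qs d || (decide (v = 1) && (eList n p d).isEmpty) ||
    (decide (2 ≤ v) && decide (d % (p * p) ≠ 1) &&
      (List.range (m + 1)).all fun i =>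
        !decide (m % i = 0) ||
          !((List.range (m / i + 1)).any fun x =>
              decide (1 < x) && decide (x % p = 1) && decide (m / i % x = 0)) ||
          !iOK n qs i)

/-- The criterion. -/
def kill (n : ℕ) (qs : List ℕ) (p v : ℕ) : Bool :=
  primeB p && decide (0 < v) && decide (n % p ^ v = 0) && decide (n / p ^ v % p ≠ 0) &&
    (cand n p (n / p ^ v)).all (dKill n qs p v (n / p ^ v))

theorem mem_cand {G : Type*} [Group G] [Finite G] [IsSimpleGroup G] (hG : ¬ IsMulCommutative G)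
    {p v m : ℕ} [Fact p.Prime] (hv : 0 < v) (hn : Nat.card G = p ^ v * m) (hm : ¬ p ∣ m) :
    Nat.card (Sylow p G) ∈ cand (Nat.card G) p m := by
  have hp : p.Prime := Fact.out
  have hd : p ∣ Nat.card G := hn ▸ dvd_mul_of_dvd_left (dvd_pow_self p hv.ne') m
  have hdm := card_sylow_dvd hn hm
  have hm0 : m ≠ 0 := fun h => hm (h ▸ dvd_zero p)
  simp only [cand, List.mem_filter, List.mem_map, List.mem_range, Bool.and_eq_true,
    decide_eq_true_eq]
  refine ⟨⟨Nat.card (Sylow p G) / p, ?_, ?_⟩, ⟨card_sylow_ne_one hG hd,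
    Nat.mod_eq_zero_of_dvd hdm⟩, facMod_eq_zero (two_mul_card_dvd_factorial_sylow hG hd)⟩
  · exact Nat.lt_succ_of_le (Nat.div_le_div_right (Nat.le_of_dvd (Nat.pos_of_ne_zero hm0) hdm))
  · have h1 : Nat.card (Sylow p G) % p = 1 :=
      Eq.trans (card_sylow_modEq_one p G) (Nat.mod_eq_of_lt hp.one_lt)
    have h2 := Nat.mod_add_div (Nat.card (Sylow p G)) p
    omega

theorem exists_eList {G : Type*} [Group G] [Finite G] [IsSimpleGroup G] (hG : ¬ IsMulCommutative G)
    {q : ℕ} [Fact q.Prime] (P : Sylow q G) (hP : Nat.card ↥(P : Subgroup G) = q) :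
    ∃ e ∈ eList (Nat.card G) q (Nat.card (Sylow q G)),
      Nat.card G / Nat.card (Sylow q G) / e =
          Nat.card ↥(Subgroup.centralizer ((P : Subgroup G) : Set G)) ∧
      Nat.card G / Nat.card (Sylow q G) =
          Nat.card ↥(Subgroup.normalizer ((P : Subgroup G) : Set G)) := by
  have hq : q.Prime := Fact.out
  obtain ⟨e, he1, he2, he3, he4⟩ := exists_card_normalizer_eq hG P hP
  have hN : Nat.card G / Nat.card (Sylow q G) =
      Nat.card ↥(Subgroup.normalizer ((P : Subgroup G) : Set G)) := by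
    rw [P.card_eq_index_normalizer]
    conv_lhs => rw [← (Subgroup.normalizer ((P : Subgroup G) : Set G)).card_mul_index]
    exact Nat.mul_div_cancel _ (Nat.pos_of_ne_zero Subgroup.index_ne_zero_of_finite)
  refine ⟨e, ?_, ?_, hN⟩
  · simp only [eList, List.mem_filter, List.mem_range, Bool.and_eq_true, decide_eq_true_eq]
    have hle : e ≤ q - 1 := Nat.le_of_dvd (by have := hq.two_le; omega) he2
    refine ⟨by omega, ⟨he1, Nat.mod_eq_zero_of_dvd he2⟩, Nat.mod_eq_zero_of_dvd ?_⟩
    rw [hN, ← he3]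
    exact mul_dvd_mul_left e he4
  · rw [hN, ← he3, Nat.mul_div_cancel_left _ (by omega)]

theorem sylow_card_of_once {G : Type*} [Group G] [Finite G] {q : ℕ} [Fact q.Prime]
    (h1 : Nat.card G % q = 0) (h2 : Nat.card G / q % q ≠ 0) (P : Sylow q G) :
    Nat.card ↥(P : Subgroup G) = q := by
  have h := sylow_card_of_eq (k := 1) (m := Nat.card G / q)
    (by rw [pow_one]; exact (Nat.mul_div_cancel' (Nat.dvd_of_mod_eq_zero h1)).symm)
    (fun h => h2 (Nat.mod_eq_zero_of_dvd h)) P
  rwa [pow_one] at h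

theorem iOK_index {G : Type*} [Group G] [Finite G] [IsSimpleGroup G] (hG : ¬ IsMulCommutative G)
    (qs : List ℕ) (H : Subgroup G) (hH : H ≠ ⊤) : iOK (Nat.card G) qs H.index = true := by
  rw [iOK, Bool.and_eq_true, decide_eq_true_eq, List.all_eq_true]
  refine ⟨facMod_eq_zero (two_mul_card_dvd_factorial_index hG H hH), fun q _ => ?_⟩
  rw [Bool.or_eq_true, Bool.not_eq_true', Classical.or_iff_not_imp_left]
  intro hc
  simp only [Bool.not_eq_false, Bool.and_eq_true, decide_eq_true_eq] at hc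
  obtain ⟨⟨⟨⟨⟨hq2, hqp⟩, hq0⟩, hq1⟩, hqi⟩, hi⟩ := hc
  have : Fact q.Prime := ⟨prime_of_primeB hqp⟩
  obtain ⟨P⟩ : Nonempty (Sylow q G) := inferInstance
  have hP := sylow_card_of_once hq0 hq1 P
  obtain ⟨hN1, hC1⟩ := card_normalizer_dvd_of_index hG (by omega) P hP H hH hi
  obtain ⟨e, hemem, heC, hN⟩ := exists_eList hG P hP
  have hcand : Nat.card (Sylow q G) ∈ cand (Nat.card G) q (Nat.card G / q) :=
    mem_cand hG Nat.one_pos
      (by rw [pow_one]; exact (Nat.mul_div_cancel' (Nat.dvd_of_mod_eq_zero hq0)).symm)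
      (fun h => hq1 (Nat.mod_eq_zero_of_dvd h))
  rw [nOK, List.any_eq_true]
  refine ⟨_, hcand, ?_⟩
  rw [Bool.and_eq_true, decide_eq_true_eq, List.any_eq_true]
  refine ⟨?_, e, hemem, ?_⟩
  · rw [hN]; exact mul_facMod_eq_zero hN1
  · rw [decide_eq_true_eq, heC]; exact mul_facMod_eq_zero hC1

/-- Soundness of the criterion. -/
theorem card_ne_of_kill {G : Type*} [Group G] [Finite G] [IsSimpleGroup G]
    (hG : ¬ IsMulCommutative G) {n : ℕ} (qs : List ℕ) (p v : ℕ) (h : kill n qs p v = true) :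
    Nat.card G ≠ n := by
  intro hn
  subst hn
  simp only [kill, Bool.and_eq_true, decide_eq_true_eq, List.all_eq_true] at h
  obtain ⟨⟨⟨⟨hp, hv⟩, hdiv⟩, hnd⟩, hall⟩ := h
  have : Fact p.Prime := ⟨prime_of_primeB hp⟩
  set m := Nat.card G / p ^ v with hmdef
  have hn : Nat.card G = p ^ v * m := (Nat.mul_div_cancel' (Nat.dvd_of_mod_eq_zero hdiv)).symm
  have hm : ¬ p ∣ m := fun h => hnd (Nat.mod_eq_zero_of_dvd h)
  have hk := hall _ (mem_cand hG hv hn hm)
  obtain ⟨P⟩ : Nonempty (Sylow p G) := inferInstance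
  have hd : p ∣ Nat.card G := hn ▸ dvd_mul_of_dvd_left (dvd_pow_self p hv.ne') m
  simp only [dKill, Bool.or_eq_true, Bool.and_eq_true, Bool.not_eq_true', decide_eq_true_eq,
    List.all_eq_true, List.mem_range, decide_eq_false_iff_not] at hk
  rcases hk with (hk | hk) | hk
  · rw [P.card_eq_index_normalizer] at hk
    exact Bool.false_ne_true (hk.symm.trans (iOK_index hG qs _ (normalizer_ne_top hG hd P)))
  · obtain ⟨hv1, he⟩ := hk
    subst hv1
    obtain ⟨e, hemem, -, -⟩ := exists_eList hG P (by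
      have h1 := sylow_card_of_eq hn hm P
      rwa [pow_one] at h1)
    rw [List.isEmpty_iff.1 he] at hemem
    simp at hemem
  · obtain ⟨⟨hv2, hmod⟩, hi⟩ := hk
    obtain ⟨k, rfl⟩ : ∃ k, v = k + 2 := ⟨v - 2, by omega⟩
    obtain ⟨H, hH, hHm, d, hd1, hd2, hd3⟩ :=
      exists_index_of_inter hn hm (by rwa [sq])
    have hm0 : 0 < m := Nat.pos_of_ne_zero fun h => hm (h ▸ dvd_zero p)
    rcases hi H.index (Nat.lt_succ_of_le (Nat.le_of_dvd hm0 hHm)) with (h' | h') | h'
    · exact h' (Nat.mod_eq_zero_of_dvd hHm)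
    · rw [List.any_eq_false] at h'
      refine h' d (List.mem_range.2 (Nat.lt_succ_of_le (Nat.le_of_dvd ?_ hd3))) ?_
      · exact Nat.div_pos (Nat.le_of_dvd hm0 hHm)
          (Nat.pos_of_ne_zero Subgroup.index_ne_zero_of_finite)
      · simp [hd1, hd2, Nat.mod_eq_zero_of_dvd hd3]
    · rw [iOK_index hG qs H hH] at h'
      simp at h'

/-- Soundness, for a simple group whose order is not assumed to come with commutativity facts. -/
theorem card_ne_of_kill' {G : Type*} [Group G] [Finite G] [IsSimpleGroup G] {n : ℕ}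
    (hn : ¬ n.Prime) (qs : List ℕ) (p v : ℕ) (h : kill n qs p v = true) : Nat.card G ≠ n :=
  fun he => card_ne_of_kill (not_comm_of_not_prime (he ▸ hn)) qs p v h he

end Cfsg.Agent.SimpleOrderCheck
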