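import Mathlib
import Cfsg.Agent.Lib.SimpleOrderCheck
import Cfsg.Agent.Lib.TransferThompson

/-!
Centralizers of involutions and of `p`-regular elements centralizing a Sylow subgroup of prime
order, in finite simple groups.
-/

set_option autoImplicit false

namespace Cfsg.Agent.SimpleCentralizerKill

open Subgroup Cfsg.Agent.SimpleOrder

theorem exists_normal_index_two_le {S : Type*} [Group S] [Finite S] {k : ℕ}
    (hS : Nat.card S = 2 ^ k) (A : Subgroup S) (hA : A ≠ ⊤) :
    ∃ M : Subgroup S, A ≤ M ∧ M.index = 2 := by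
  have : Fact (Nat.Prime 2) := ⟨Nat.prime_two⟩
  obtain ⟨j, hj⟩ := ((IsPGroup.of_card hS : IsPGroup 2 S).to_subgroup A).exists_card_eq
  have hjk : j < k := by
    refine (Nat.pow_lt_pow_iff_right (by norm_num : 1 < 2)).1 ?_
    rw [← hj, ← hS]
    exact lt_of_le_of_ne (Subgroup.card_le_card_group A)
      fun h => hA (Subgroup.eq_top_of_card_eq A h)
  obtain ⟨M, hM, hAM⟩ := Sylow.exists_subgroup_card_pow_prime_le (G := S) 2
    (m := k - 1) (hS ▸ pow_dvd_pow 2 (by omega)) A hj (by omega)
  refine ⟨M, hAM, ?_⟩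
  have h := M.card_mul_index
  rw [hM, hS, show 2 ^ k = 2 ^ (k - 1) * 2 by rw [← pow_succ]; congr 1; omega] at h
  exact Nat.eq_of_mul_eq_mul_left (pow_pos (by norm_num) _) h

/-- A `2`-group of order at least `16` has a subgroup of index `2` all of whose elements have
centralizer of order at least `8`. -/
theorem exists_index_two {S : Type*} [Group S] [Finite S] {k : ℕ} (hk : 4 ≤ k)
    (hS : Nat.card S = 2 ^ k) :
    ∃ M : Subgroup S, M.index = 2 ∧
      ∀ u ∈ M, 8 ≤ Nat.card ↥(Subgroup.centralizer ({u} : Set S)) := by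
  classical
  have : Fact (Nat.Prime 2) := ⟨Nat.prime_two⟩
  have hP : IsPGroup 2 S := IsPGroup.of_card hS
  have : Nontrivial S := Finite.one_lt_card_iff_nontrivial.1
    (by rw [hS]; exact Nat.one_lt_two_pow (by omega))
  have h16 : 16 ≤ Nat.card S := by
    rw [hS]; exact le_trans (by norm_num) (Nat.pow_le_pow_right (by norm_num) hk)
  -- it is enough that the centre of `M` has order at least four
  suffices h : ∃ M : Subgroup S, M.index = 2 ∧ ∃ A : Subgroup S, 4 ≤ Nat.card A ∧
      A ≤ M ∧ M ≤ Subgroup.centralizer (A : Set S) by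
    obtain ⟨M, hM, A, hA4, hAM, hMA⟩ := h
    refine ⟨M, hM, fun u hu => ?_⟩
    have hMc : 8 ≤ Nat.card M := by
      have := M.card_mul_index
      rw [hM] at this
      omega
    have hA : A ≤ Subgroup.centralizer ({u} : Set S) := fun a ha => by
      rw [Subgroup.mem_centralizer_singleton_iff]
      exact Subgroup.mem_centralizer_iff.1 (hMA hu) a ha
    by_cases huA : u ∈ A
    · refine hMc.trans (Subgroup.card_le_of_le fun m hm => ?_)
      rw [Subgroup.mem_centralizer_singleton_iff]
      exact (Subgroup.mem_centralizer_iff.1 (hMA hm) u huA).symm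
    · have hu' : u ∈ Subgroup.centralizer ({u} : Set S) :=
        Subgroup.mem_centralizer_singleton_iff.2 rfl
      have hne : A ≠ Subgroup.centralizer ({u} : Set S) := fun h => huA (h ▸ hu')
      obtain ⟨c, hc⟩ := Subgroup.card_dvd_of_le hA
      rcases c with _ | _ | c
      · simp at hc
        exact absurd hc Nat.card_pos.ne'
      · exact absurd (Subgroup.eq_of_le_of_card_ge hA (by rw [hc]; simp)) hne
      · rw [hc]; exact le_trans (by omega : 8 ≤ 4 * 2) (Nat.mul_le_mul hA4 (by omega))
  set Z := Subgroup.center S with hZdef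
  by_cases hZ : 4 ≤ Nat.card Z
  · have hcenA : ∀ A : Subgroup S, A ≤ Z → ∀ M : Subgroup S,
        M ≤ Subgroup.centralizer (A : Set S) := fun A hA M m _ =>
      Subgroup.mem_centralizer_iff.2 fun a ha => (Subgroup.mem_center_iff.1 (hA ha) m).symm
    by_cases hT : Z = ⊤
    · obtain ⟨M, -, hM⟩ := exists_normal_index_two_le hS ⊥ bot_ne_top
      refine ⟨M, hM, M, ?_, le_rfl, hcenA M (by rw [hT]; exact le_top) M⟩
      have := M.card_mul_index
      rw [hM] at this
      omega
    · obtain ⟨M, hle, hM⟩ := exists_normal_index_two_le hS Z hT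
      exact ⟨M, hM, Z, hZ, hle, hcenA Z le_rfl M⟩
  · have hZ2 : Nat.card Z = 2 := by
      have h1 := hP.center_nontrivial
      have h2 : 1 < Nat.card Z := Finite.one_lt_card
      obtain ⟨j, hj⟩ := (hP.to_subgroup Z).exists_card_eq
      rcases j with _ | _ | j
      · simp [hj] at h2
      · simpa using hj
      · exfalso; apply hZ; rw [hj, pow_add, pow_add]
        have := Nat.one_le_two_pow (n := j)
        omega
    have hQ : IsPGroup 2 (S ⧸ Z) := hP.to_quotient Z
    have : Nontrivial (S ⧸ Z) := Finite.one_lt_card_iff_nontrivial.1 (by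
      have := Z.card_mul_index
      rw [hZ2, Subgroup.index] at this
      omega)
    have := hQ.center_nontrivial
    obtain ⟨⟨q, hq⟩, hq1⟩ := exists_ne (1 : Subgroup.center (S ⧸ Z))
    obtain ⟨v, rfl⟩ := QuotientGroup.mk_surjective q
    have hvZ : v ∉ Z := fun h => hq1 (Subtype.ext ((QuotientGroup.eq_one_iff _).2 h))
    have hcomm : ∀ s : S, v * s * v⁻¹ * s⁻¹ ∈ Z := fun s => by
      rw [← QuotientGroup.eq_one_iff]
      change (v : S ⧸ Z) * (s : S ⧸ Z) * (v : S ⧸ Z)⁻¹ * (s : S ⧸ Z)⁻¹ = 1
      rw [← Subgroup.mem_center_iff.1 hq (s : S ⧸ Z)]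
      group
    let φ : S →* Z :=
      { toFun := fun s => ⟨_, hcomm s⟩
        map_one' := Subtype.ext (by simp)
        map_mul' := fun a b => Subtype.ext (by
          simp only [Subgroup.coe_mul]
          calc v * (a * b) * v⁻¹ * (a * b)⁻¹
              = (v * a * v⁻¹) * ((v * b * v⁻¹ * b⁻¹) * a⁻¹) := by group
            _ = (v * a * v⁻¹) * (a⁻¹ * (v * b * v⁻¹ * b⁻¹)) := by
                rw [Subgroup.mem_center_iff.1 (hcomm b) a⁻¹]
            _ = v * a * v⁻¹ * a⁻¹ * (v * b * v⁻¹ * b⁻¹) := by group) }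
    have hker : φ.ker = Subgroup.centralizer ({v} : Set S) := by
      ext s
      rw [MonoidHom.mem_ker, Subgroup.mem_centralizer_singleton_iff, Subtype.ext_iff]
      show v * s * v⁻¹ * s⁻¹ = 1 ↔ _
      rw [mul_inv_eq_one, mul_inv_eq_iff_eq_mul]
      exact eq_comm
    refine ⟨Subgroup.centralizer ({v} : Set S), ?_, Z ⊔ Subgroup.zpowers v, ?_, ?_, ?_⟩
    · have h1 := Subgroup.index_ker φ
      rw [hker] at h1
      have h2 := Subgroup.card_subgroup_dvd_card φ.range
      rw [← h1, hZ2] at h2
      rcases (Nat.dvd_prime Nat.prime_two).1 h2 with h | h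
      · exfalso
        refine hvZ (Subgroup.mem_center_iff.2 fun s => ?_)
        have := Subgroup.index_eq_one.1 h ▸ Subgroup.mem_top s
        exact Subgroup.mem_centralizer_singleton_iff.1 this
      · exact h
    · have hlt : Z < Z ⊔ Subgroup.zpowers v := lt_of_le_of_ne le_sup_left fun h =>
        hvZ (h ▸ Subgroup.mem_sup_right (Subgroup.mem_zpowers v))
      obtain ⟨c, hc⟩ := Subgroup.card_dvd_of_le hlt.le
      rcases c with _ | _ | c
      · simp at hc
        exact absurd hc Nat.card_pos.ne'
      · exact absurd (Subgroup.eq_of_le_of_card_ge hlt.le (by rw [hc]; simp)) hlt.ne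
      · rw [hc, hZ2]; omega
    · refine sup_le (fun z hz => ?_) (Subgroup.zpowers_le.2 ?_)
      · rw [Subgroup.mem_centralizer_singleton_iff]
        exact Subgroup.mem_center_iff.1 hz v |>.symm
      · exact Subgroup.mem_centralizer_singleton_iff.2 rfl
    · rw [Subgroup.le_centralizer_iff]
      refine sup_le (fun z hz => ?_) (Subgroup.zpowers_le.2 ?_)
      · exact Subgroup.mem_centralizer_iff.2 fun m _ => Subgroup.mem_center_iff.1 hz m
      · exact Subgroup.mem_centralizer_iff.2 fun m hm =>
          Subgroup.mem_centralizer_singleton_iff.1 hm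

/-- In a simple group of order divisible by `16` every involution centralizer has order divisible
by `8`. -/
theorem eight_dvd_card_centralizer {G : Type*} [Group G] [Finite G] [IsSimpleGroup G]
    (hG : ¬ IsMulCommutative G) (h16 : 16 ∣ Nat.card G) {t : G} (ht : orderOf t = 2) :
    8 ∣ Nat.card ↥(Subgroup.centralizer ({t} : Set G)) := by
  have : Fact (Nat.Prime 2) := ⟨Nat.prime_two⟩
  obtain ⟨S, hS⟩ := (IsPGroup.of_card (G := Subgroup.zpowers t) (p := 2) (n := 1)
    (by rw [Nat.card_zpowers, ht, pow_one])).exists_le_sylow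
  obtain ⟨k, hk⟩ := S.2.exists_card_eq
  have hk4 : 4 ≤ k := by
    have h : (16 : ℕ) = 2 ^ 4 := by norm_num
    have := (Nat.Prime.pow_dvd_iff_le_factorization Nat.prime_two Nat.card_pos.ne').1 (h ▸ h16)
    rw [S.card_eq_multiplicity] at hk
    rw [← Nat.pow_right_injective le_rfl hk]
    exact this
  obtain ⟨M, hM, hu⟩ := exists_index_two hk4 hk
  by_contra hcon
  have hconj : ∀ g : G, g * t * g⁻¹ ∉ M.map (S : Subgroup G).subtype := by
    rintro g ⟨u, huM, hug⟩
    apply hcon
    have h8 := hu u huM
    obtain ⟨j, hj⟩ := (S.2.to_subgroup (Subgroup.centralizer ({u} : Set (S : Subgroup G)))).exists_card_eq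
    have hdvd : Nat.card ↥(Subgroup.centralizer ({u} : Set (S : Subgroup G))) ∣
        Nat.card ↥(Subgroup.centralizer ({(u : G)} : Set G)) := by
      rw [← Subgroup.card_map_of_injective (S : Subgroup G).subtype_injective]
      refine Subgroup.card_dvd_of_le ?_
      rintro _ ⟨c, hc, rfl⟩
      rw [Subgroup.mem_centralizer_singleton_iff]
      exact congrArg Subtype.val (Subgroup.mem_centralizer_singleton_iff.1 hc)
    have heq : Nat.card ↥(Subgroup.centralizer ({(u : G)} : Set G)) =
        Nat.card ↥(Subgroup.centralizer ({t} : Set G)) := by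
      have h1 : (Subgroup.centralizer ({t} : Set G)).map (MulAut.conj g).toMonoidHom =
          Subgroup.centralizer ({(u : G)} : Set G) := by
        ext y
        simp only [Subgroup.mem_map, Subgroup.mem_centralizer_singleton_iff, MulEquiv.coe_toMonoidHom,
          MulAut.conj_apply]
        rw [show (u : G) = g * t * g⁻¹ from hug]
        constructor
        · rintro ⟨c, hc, rfl⟩
          calc g * c * g⁻¹ * (g * t * g⁻¹) = g * (c * t) * g⁻¹ := by group
            _ = g * (t * c) * g⁻¹ := by rw [hc]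
            _ = g * t * g⁻¹ * (g * c * g⁻¹) := by group
        · intro hy
          refine ⟨g⁻¹ * y * g, ?_, by group⟩
          have := congrArg (fun z => g⁻¹ * z * g) hy
          simpa [mul_assoc] using this
      rw [← h1, Subgroup.card_map_of_injective (MulAut.conj g).injective]
    rw [← heq]
    refine dvd_trans ?_ hdvd
    rw [hj] at h8 ⊢
    exact (pow_dvd_pow 2 (by
      by_contra hlt
      have := Nat.pow_le_pow_right (show 0 < 2 by norm_num) (show j ≤ 2 by omega)
      omega) : 2 ^ 3 ∣ 2 ^ j)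
  obtain ⟨N, hN, hN2, -⟩ := TransferThompson.thompson_transfer S (M.map (S : Subgroup G).subtype)
    (Subgroup.map_subtype_le M) (by
      rw [Subgroup.relIndex, Subgroup.subgroupOf,
        Subgroup.comap_map_eq_self_of_injective (S : Subgroup G).subtype_injective, hM]) ht
    (hS (Subgroup.mem_zpowers t)) hconj
  rcases eq_bot_or_top hN with rfl | rfl
  · rw [Subgroup.index_bot] at hN2; omega
  · simp at hN2

section Overgroup

variable {G : Type*} [Group G] [Finite G] {p : ℕ} [hp : Fact p.Prime]

/-- A subgroup containing the normalizer of a Sylow subgroup has relative index `≡ 1 (mod p)`. -/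
theorem relIndex_mod_of_normalizer_le (P : Sylow p G) {H : Subgroup G}
    (hH : Subgroup.normalizer ((P : Subgroup G) : Set G) ≤ H) :
    (Subgroup.normalizer ((P : Subgroup G) : Set G)).relIndex H % p = 1 := by
  have hPH : (P : Subgroup G) ≤ H := Subgroup.le_normalizer.trans hH
  have h := card_sylow_modEq_one p ↥H
  rw [(P.subtype hPH).card_eq_index_normalizer] at h
  have e : Subgroup.normalizer (((P.subtype hPH : Sylow p ↥H) : Subgroup ↥H) : Set ↥H) =
      (Subgroup.normalizer ((P : Subgroup G) : Set G)).subgroupOf H := by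
    rw [Subgroup.subgroupOf_normalizer_eq hPH]
    rfl
  rw [Subgroup.relIndex, ← e]
  exact Eq.trans h (Nat.mod_eq_of_lt hp.out.one_lt)

omit [Finite G] in
/-- The involution of a centralizer of order `2 p` is centralized by the normalizer. -/
theorem normalizer_le_centralizer_of_two (P : Sylow p G) (hp2 : p ≠ 2)
    (hP : Nat.card ↥(P : Subgroup G) = p)
    (hC : Nat.card ↥(Subgroup.centralizer ((P : Subgroup G) : Set G)) = 2 * p) {t : G}
    (ht : orderOf t = 2) (htC : t ∈ Subgroup.centralizer ((P : Subgroup G) : Set G)) :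
    Subgroup.normalizer ((P : Subgroup G) : Set G) ≤ Subgroup.centralizer ({t} : Set G) := by
  intro n hn
  set C := Subgroup.centralizer ((P : Subgroup G) : Set G) with hCdef
  have : Finite ↥C := Nat.finite_of_card_ne_zero (by rw [hC]; have := hp.out.pos; omega)
  have hcyc : IsCyclic ↥(P : Subgroup G) := isCyclic_of_prime_card hP
  have hPC : (P : Subgroup G) ≤ C := fun a ha => Subgroup.mem_centralizer_iff.2 fun b hb =>
    congrArg Subtype.val
      ((IsCyclic.isMulCommutative (α := ↥(P : Subgroup G))).is_comm.comm ⟨b, hb⟩ ⟨a, ha⟩)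
  have hidx : ((P : Subgroup G).subgroupOf C).index = 2 := by
    have h := ((P : Subgroup G).subgroupOf C).card_mul_index
    rw [Nat.card_congr (Subgroup.subgroupOfEquivOfLe hPC).toEquiv, hP, hC, mul_comm 2] at h
    exact Nat.eq_of_mul_eq_mul_left hp.out.pos h
  have h2P : ∀ a : G, orderOf a = 2 → a ∉ (P : Subgroup G) := fun a ha hm => by
    have := Subgroup.orderOf_dvd_natCard _ hm
    rw [ha, hP] at this
    exact hp2 (((Nat.dvd_prime hp.out).1 this).resolve_left (by norm_num)).symm
  have hu : n * t * n⁻¹ ∈ C := by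
    rw [hCdef, Subgroup.mem_centralizer_iff]
    intro b hb
    have hb' : n⁻¹ * b * n ∈ (P : Subgroup G) := (Subgroup.mem_normalizer_iff''.1 hn b).1 hb
    have := Subgroup.mem_centralizer_iff.1 htC _ hb'
    calc b * (n * t * n⁻¹) = n * ((n⁻¹ * b * n) * t) * n⁻¹ := by group
      _ = n * (t * (n⁻¹ * b * n)) * n⁻¹ := by rw [this]
      _ = n * t * n⁻¹ * b := by group
  set u := n * t * n⁻¹ with hudef
  have hou : orderOf u = 2 := by
    rw [hudef, ← MulAut.conj_apply, MulEquiv.orderOf_eq, ht]
  have hm : (⟨t, htC⟩ : ↥C) * ⟨u, hu⟩ ∈ (P : Subgroup G).subgroupOf C :=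
    (Subgroup.mul_mem_iff_of_index_two hidx).2 (iff_of_false (h2P t ht) (h2P u hou))
  have hmP : t * u ∈ (P : Subgroup G) := hm
  have htt : t * t = 1 := by rw [← sq, ← ht]; exact pow_orderOf_eq_one t
  have huu : u * u = 1 := by rw [← sq, ← hou]; exact pow_orderOf_eq_one u
  have hcomm := Subgroup.mem_centralizer_iff.1 htC _ hmP
  -- `t u t = t t u`
  have htu : t * u = u * t := by
    calc t * u = (t * u * t) * t := by rw [mul_assoc (t * u), htt, mul_one]
      _ = (t * (t * u)) * t := by rw [hcomm]
      _ = u * t := by rw [← mul_assoc t t u, htt, one_mul]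
  have hsq : (t * u) ^ 2 = 1 := by
    rw [sq, mul_assoc, ← mul_assoc u, ← htu, mul_assoc t u, huu, mul_one, htt]
  have h1 : t * u = 1 := by
    have hd := Subgroup.orderOf_dvd_natCard _ hmP
    rw [hP] at hd
    rcases (Nat.dvd_prime hp.out).1 hd with h | h
    · exact orderOf_eq_one_iff.1 h
    · exfalso
      have h' := orderOf_dvd_of_pow_eq_one hsq
      rw [h] at h'
      exact hp2 ((Nat.prime_dvd_prime_iff_eq hp.out Nat.prime_two).1 h')
  have : u = t := by
    calc u = t * (t * u) := by rw [← mul_assoc, htt, one_mul]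
      _ = t := by rw [h1, mul_one]
  rw [Subgroup.mem_centralizer_singleton_iff]
  rw [hudef, mul_inv_eq_iff_eq_mul] at this
  exact this

/-- No simple group of order `n` divisible by `16` has `d` Sylow `p`-subgroups and
`|C(P)| = 2 p`, when `8 ∤ n / d` and the only possible overgroup of the normalizer is itself. -/
theorem card_ne_of_two [IsSimpleGroup G] (hG : ¬ IsMulCommutative G) {n d : ℕ} (hp2 : p ≠ 2)
    (hn : Nat.card G = n) (h16 : 16 ∣ n) (P : Sylow p G) (hP : Nat.card ↥(P : Subgroup G) = p)
    (hd : Nat.card (Sylow p G) = d)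
    (hC : Nat.card ↥(Subgroup.centralizer ((P : Subgroup G) : Set G)) = 2 * p)
    (h8 : ¬ 8 ∣ n / d)
    (hov : ∀ h ∈ List.range (d + 1), d % h = 0 → h % p = 1 → h ≠ 1 →
      h = d ∨ SimpleOrderCheck.iOK n [p] (d / h) = false) : False := by
  subst hn
  have : Fact (Nat.Prime 2) := ⟨Nat.prime_two⟩
  obtain ⟨⟨t, htC⟩, ht⟩ := exists_prime_orderOf_dvd_card' 2
    (G := ↥(Subgroup.centralizer ((P : Subgroup G) : Set G))) (hC ▸ Dvd.intro p rfl)
  rw [Subgroup.orderOf_mk] at ht
  set H := Subgroup.centralizer ({t} : Set G) with hHdef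
  set N := Subgroup.normalizer ((P : Subgroup G) : Set G) with hNdef
  have hNH : N ≤ H := normalizer_le_centralizer_of_two P hp2 hP hC ht htC
  have hH : H ≠ ⊤ := by
    intro h
    have hm : t ∈ Subgroup.center G := Subgroup.mem_center_iff.2 fun g =>
      Subgroup.mem_centralizer_singleton_iff.1 (h ▸ Subgroup.mem_top g : g ∈ H)
    rcases eq_bot_or_top (inferInstance : (Subgroup.center G).Normal) with hz | hz
    · rw [hz, Subgroup.mem_bot] at hm
      rw [hm, orderOf_one] at ht
      omega
    · exact hG ⟨⟨fun a b => (Subgroup.mem_center_iff.1 (hz ▸ Subgroup.mem_top b) a)⟩⟩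
  have hmul := Subgroup.relIndex_mul_index hNH
  have hNd : N.index = d := P.card_eq_index_normalizer.symm.trans hd
  rw [hNd] at hmul
  have hd0 : 0 < d := hd ▸ Nat.card_pos
  have h1 : N.relIndex H = 1 := by
    by_contra hne
    rcases hov (N.relIndex H) (List.mem_range.2 (Nat.lt_succ_of_le
        (Nat.le_of_dvd hd0 (Dvd.intro _ hmul))))
      (Nat.mod_eq_zero_of_dvd (Dvd.intro _ hmul)) (relIndex_mod_of_normalizer_le P hNH) hne
      with h | h
    · refine hH (Subgroup.index_eq_one.1 ?_)
      rw [h] at hmul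
      exact Nat.eq_of_mul_eq_mul_left hd0 (by rw [hmul, mul_one])
    · have hi : d / N.relIndex H = H.index := by
        rw [← hmul, Nat.mul_div_cancel_left]
        exact Nat.pos_of_ne_zero Subgroup.index_ne_zero_of_finite
      rw [hi, SimpleOrderCheck.iOK_index hG [p] H hH] at h
      exact Bool.false_ne_true h.symm
  have hHN : N = H := le_antisymm hNH (Subgroup.relIndex_eq_one.1 h1)
  have h := eight_dvd_card_centralizer hG h16 ht
  rw [← hHdef, ← hHN] at h
  refine h8 ?_
  have h2 := N.card_mul_index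
  rw [hNd] at h2
  rw [← h2, Nat.mul_div_cancel _ hd0]
  exact h

end Overgroup

end Cfsg.Agent.SimpleCentralizerKill
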