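import Mathlib
import Cfsg.Agent.Lib.CharBasicOrth

/-!
# Integrality: scalars, class sums, degree divides the group order
-/

set_option autoImplicit false

open scoped ComplexConjugate

namespace Cfsg.Agent.CharBasicInt

open Cfsg.Agent.CharBasic Cfsg.Agent.CharBasicOrth

universe u v

variable {G : Type u} [Group G] [Fintype G] {V : Type v} [AddCommGroup V] [Module ℂ V]
  [FiniteDimensional ℂ V]

omit [FiniteDimensional ℂ V] in
/-- A combination with algebraic integer coefficients of the operators of a representation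
which is a scalar, is an algebraic integer. -/
theorem isIntegral_scalar [Nontrivial V] (ρ : Representation ℂ G V) (c : G → ℂ)
    (hc : ∀ g, IsIntegral ℤ (c g)) (a : ℂ) (h : (∑ g, c g • ρ g) = a • LinearMap.id) :
    IsIntegral ℤ a := by
  let O := integralClosure ℤ ℂ
  let S : Subalgebra O (Module.End ℂ V) := Algebra.adjoin O (Set.range ρ)
  have hclosed : Submonoid.closure (Set.range ρ) = MonoidHom.mrange ρ := by
    rw [← MonoidHom.coe_mrange, Submonoid.closure_eq]
  have hfg : (Subalgebra.toSubmodule S).FG := by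
    rw [Algebra.adjoin_eq_span, hclosed, MonoidHom.coe_mrange]
    exact Submodule.fg_span (Set.finite_range ρ)
  have hmem : (∑ g, c g • ρ g) ∈ S := by
    refine S.sum_mem fun g _ => ?_
    have h1 : c g • ρ g = (⟨c g, hc g⟩ : O) • ρ g := rfl
    rw [h1]
    exact S.smul_mem (Algebra.subset_adjoin ⟨g, rfl⟩) _
  have h2 := IsIntegral.of_mem_of_fg S hfg _ hmem
  have h3 : (∑ g, c g • ρ g) = algebraMap ℂ (Module.End ℂ V) a := by
    rw [h, Algebra.algebraMap_eq_smul_one]; rfl
  rw [h3, isIntegral_algebraMap_iff (algebraMap ℂ (Module.End ℂ V)).injective] at h2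
  exact isIntegral_trans (R := ℤ) (A := O) a h2

/-- The scalar by which a class function acts in an irreducible representation. -/
theorem sum_smul_rep_eq (ρ : Representation ℂ G V) [ρ.IsIrreducible] {f : G → ℂ}
    (hf : Cfsg.IsClassFunction G f) :
    (∑ g, f g • ρ g) =
      ((∑ g, f g * ρ.character g) / (Module.finrank ℂ V : ℂ)) • LinearMap.id := by
  have hf' : Cfsg.IsClassFunction G (fun g => f g⁻¹) := fun g h => by
    have h1 : (h * g * h⁻¹)⁻¹ = h * g⁻¹ * h⁻¹ := by simp [mul_assoc]
    simp only [h1, hf g⁻¹ h]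
  have he : (∑ g, f g⁻¹ • ρ g⁻¹) = ∑ g, f g • ρ g := Equiv.sum_comp (Equiv.inv G) fun g => f g • ρ g
  obtain ⟨c, hc, htr⟩ := exists_scalar_of_commute ρ _ (smul_sum_commute hf' ρ)
  simp only [he] at hc htr
  have hn : (Module.finrank ℂ V : ℂ) ≠ 0 :=
    Nat.cast_ne_zero.2 (finrank_pos_of_irreducible ρ).ne'
  rw [map_sum] at htr
  simp only [map_smul, smul_eq_mul] at htr
  rw [hc]
  congr 1
  rw [eq_div_iff hn, mul_comm, ← htr]
  rfl

/-- A class function with integral values gives an integral scalar. -/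
theorem isIntegral_sum_mul_div (ρ : Representation ℂ G V) [ρ.IsIrreducible] {f : G → ℂ}
    (hf : Cfsg.IsClassFunction G f) (hi : ∀ g, IsIntegral ℤ (f g)) :
    IsIntegral ℤ ((∑ g, f g * ρ.character g) / (Module.finrank ℂ V : ℂ)) :=
  have := nontrivial_of_irreducible ρ
  isIntegral_scalar ρ f hi _ (sum_smul_rep_eq ρ hf)

theorem isIntegral_classSum (ρ : Representation ℂ G V) [ρ.IsIrreducible] (g : G) :
    IsIntegral ℤ (((Subgroup.centralizer ({g} : Set G)).index : ℂ) * ρ.character g /
      (Module.finrank ℂ V : ℂ)) := by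
  classical
  have hidx : (Subgroup.centralizer ({g} : Set G)).index = Nat.card {x : G // IsConj g x} := by
    refine Nat.eq_of_mul_eq_mul_right (Nat.card_pos
      (α := Subgroup.centralizer ({g} : Set G))) ?_
    rw [card_conj_mul_card_centralizer, Subgroup.index_mul_card]
  have h1 := isIntegral_sum_mul_div ρ (isClassFunction_indicator g)
    (fun x => by
      by_cases h : IsConj g x
      · simp only [if_pos h]; exact isIntegral_one
      · simp only [if_neg h]; exact isIntegral_zero)
  simp only [ite_mul, one_mul, zero_mul, ← Finset.sum_filter] at h1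
  rw [Finset.sum_congr rfl fun x hx => by
      rw [← apply_eq_of_isConj (isClassFunction_character ρ) (Finset.mem_filter.1 hx).2],
    Finset.sum_const, nsmul_eq_mul, ← Fintype.card_subtype, ← Nat.card_eq_fintype_card, ← hidx] at h1
  exact h1

theorem dvd_of_isIntegral_div {a b : ℕ} (hb : b ≠ 0) (h : IsIntegral ℤ ((a : ℂ) / b)) : b ∣ a := by
  have h1 : ((a : ℂ) / b) = algebraMap ℚ ℂ ((a : ℚ) / b) := by simp
  rw [h1, isIntegral_algebraMap_iff (algebraMap ℚ ℂ).injective] at h
  obtain ⟨m, hm⟩ := IsIntegrallyClosed.isIntegral_iff.1 h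
  have hm' : (m : ℚ) * b = a := by
    rw [show (algebraMap ℤ ℚ m) = (m : ℚ) from rfl] at hm
    rw [hm, div_mul_cancel₀ _ (Nat.cast_ne_zero.2 hb)]
  have hm'' : m * (b : ℤ) = a := by exact_mod_cast hm'
  exact Int.natCast_dvd_natCast.1 ⟨m, by rw [← hm'', mul_comm]⟩

theorem finrank_dvd_card (ρ : Representation ℂ G V) [ρ.IsIrreducible] :
    Module.finrank ℂ V ∣ Nat.card G := by
  have hf : Cfsg.IsClassFunction G (fun g => ρ.character g⁻¹) := fun g h => by
    have h1 : (h * g * h⁻¹)⁻¹ = h * g⁻¹ * h⁻¹ := by simp [mul_assoc]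
    simp only [h1, isClassFunction_character ρ g⁻¹ h]
  have h := isIntegral_sum_mul_div ρ hf fun g => isIntegral_character ρ _
  have hs : (∑ g, ρ.character g⁻¹ * ρ.character g) = (Nat.card G : ℂ) := by
    have h2 := card_mul_classInner ρ.character ρ.character
    rw [classInner_character_irreducible_self, mul_one] at h2
    rw [h2]
    exact Finset.sum_congr rfl fun g _ => by rw [character_inv, mul_comm]
  rw [hs] at h
  exact dvd_of_isIntegral_div (finrank_pos_of_irreducible ρ).ne' h

omit [Fintype G] in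
theorem exists_apply_one_dvd_card [Finite G] {χ : G → ℂ} (h : Cfsg.IsIrrCharacter G χ) :
    ∃ n : ℕ, 0 < n ∧ χ 1 = n ∧ n ∣ Nat.card G := by
  have := Fintype.ofFinite G
  obtain ⟨n, ρ, hρ, rfl⟩ := h
  exact ⟨_, finrank_pos_of_irreducible ρ, Representation.char_one ρ, finrank_dvd_card ρ⟩

end Cfsg.Agent.CharBasicInt
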