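import Mathlib
import Cfsg.Agent.Lib.CharBasicDecomp

/-!
# Linear characters, abelian groups, kernels
-/

set_option autoImplicit false

open scoped ComplexConjugate

namespace Cfsg.Agent.CharBasicLinear

open Cfsg.Agent.CharBasic Cfsg.Agent.CharBasicOrth Cfsg.Agent.CharBasicDecomp

universe u v

variable {G : Type u} [Group G]

/-- A character of degree one is a homomorphism to the units. -/
theorem exists_hom_of_apply_one_eq_one {χ : G → ℂ} (h : Cfsg.IsCharacter G χ) (h1 : χ 1 = 1) :
    ∃ lam : G →* ℂˣ, χ = fun g => (lam g : ℂ) := by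
  obtain ⟨n, ρ, rfl⟩ := h
  have hn : Module.finrank ℂ (Fin n → ℂ) = 1 := by
    rw [Representation.char_one] at h1
    exact_mod_cast h1
  obtain ⟨v, hv, hspan⟩ := finrank_eq_one_iff'.1 hn
  have hsc : ∀ g, ∃ c : ℂ, ρ g = c • LinearMap.id := by
    intro g
    obtain ⟨c, hc⟩ := hspan (ρ g v)
    refine ⟨c, LinearMap.ext fun w => ?_⟩
    obtain ⟨d, rfl⟩ := hspan w
    rw [map_smul, ← hc, LinearMap.smul_apply, LinearMap.id_apply, smul_smul, smul_smul, mul_comm]
  choose c hc using hsc
  have hχ : ∀ g, ρ.character g = c g := fun g => by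
    rw [Representation.character, hc g, map_smul, LinearMap.trace_id, hn, Nat.cast_one,
      smul_eq_mul, mul_one]
  have hmul : ∀ a b, c (a * b) = c a * c b := by
    intro a b
    have h2 := LinearMap.congr_fun (map_mul ρ a b) v
    rw [Module.End.mul_apply, hc a, hc b, hc (a * b)] at h2
    simp only [LinearMap.smul_apply, LinearMap.id_apply, smul_smul] at h2
    exact smul_left_injective ℂ hv h2
  have hone : c 1 = 1 := by rw [← hχ]; exact h1
  let lam : G →* ℂ := { toFun := c, map_one' := hone, map_mul' := hmul }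
  exact ⟨lam.toHomUnits, funext hχ⟩

/-- Homomorphisms to the units correspond to irreducible characters of degree one. -/
noncomputable def linearEquiv (G : Type u) [Group G] :
    (G →* ℂˣ) ≃ {χ : Cfsg.IrrCharacter G // (χ : G → ℂ) 1 = 1} :=
  Equiv.ofBijective (fun lam => ⟨⟨_, isIrrCharacter_linear lam⟩, by simp⟩) <| by
    refine ⟨fun a b h => ?_, fun χ => ?_⟩
    · refine MonoidHom.ext fun g => Units.ext ?_
      exact congrArg
        (fun (χ : {χ : Cfsg.IrrCharacter G // (χ : G → ℂ) 1 = 1}) => (χ.1 : G → ℂ) g) h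
    · obtain ⟨lam, hlam⟩ :=
        exists_hom_of_apply_one_eq_one (isCharacter_of_isIrrCharacter χ.1.2) χ.2
      exact ⟨lam, Subtype.ext (Subtype.ext hlam.symm)⟩

theorem card_hom_units [Finite G] : Nat.card (G →* ℂˣ) = (commutator G).index := by
  have e : (Abelianization G →* ℂˣ) ≃ (G →* ℂˣ) := (Abelianization.lift).symm
  rw [← Nat.card_congr e, CommGroup.card_monoidHom_of_hasEnoughRootsOfUnity]
  rfl

theorem card_linear [Finite G] :
    Nat.card {χ : Cfsg.IrrCharacter G // (χ : G → ℂ) 1 = 1} = (commutator G).index := by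
  rw [← Nat.card_congr (linearEquiv G), card_hom_units]

theorem apply_one_eq_one_of_comm [Finite G] (hG : ∀ a b : G, a * b = b * a) {χ : G → ℂ}
    (h : Cfsg.IsIrrCharacter G χ) : χ 1 = 1 := by
  have : IsMulCommutative G := ⟨⟨hG⟩⟩
  obtain ⟨n, ρ, hρ, rfl⟩ := h
  rw [Representation.char_one, Representation.IsIrreducible.finrank_eq_one_of_isMulCommutative ρ,
    Nat.cast_one]

theorem exists_hom_of_comm [Finite G] (hG : ∀ a b : G, a * b = b * a) {χ : G → ℂ}
    (h : Cfsg.IsIrrCharacter G χ) : ∃ lam : G →* ℂˣ, χ = fun g => (lam g : ℂ) :=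
  exists_hom_of_apply_one_eq_one (isCharacter_of_isIrrCharacter h) (apply_one_eq_one_of_comm hG h)

theorem comm_of_forall_apply_one [Finite G]
    (h : ∀ χ : Cfsg.IrrCharacter G, (χ : G → ℂ) 1 = 1) (a b : G) : a * b = b * a := by
  rw [← mul_inv_eq_one]
  have key : ∀ g : G, (∀ χ : Cfsg.IrrCharacter G, (χ : G → ℂ) g = (χ : G → ℂ) 1) → g = 1 :=
    fun g hg => isConj_one_left.1 ((isConj_iff_forall_irr g 1).2 hg)
  refine key _ fun χ => ?_
  obtain ⟨lam, hlam⟩ := exists_hom_of_apply_one_eq_one (isCharacter_of_isIrrCharacter χ.2) (h χ)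
  rw [hlam]
  simp only [map_mul, map_one, map_inv]
  rw [mul_comm (lam a) (lam b), mul_inv_cancel]

/-! ### Kernels -/

/-- The kernel of a character, as a subgroup. -/
def charKer [Finite G] (χ : G → ℂ) (hχ : Cfsg.IsCharacter G χ) : Subgroup G where
  carrier := {g | χ g = χ 1}
  one_mem' := rfl
  mul_mem' := by
    obtain ⟨n, ρ, rfl⟩ := hχ
    intro a b ha hb
    simp only [Set.mem_ofPred_eq, Representation.char_one, character_eq_finrank_iff] at ha hb ⊢
    rw [map_mul, ha, hb]; rfl
  inv_mem' := by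
    intro a ha
    simp only [Set.mem_ofPred_eq] at ha ⊢
    obtain ⟨n, hn⟩ := isCharacter_apply_one hχ
    rw [isCharacter_inv hχ, ha, hn, map_natCast]

theorem mem_charKer_rep [Finite G] {V : Type v} [AddCommGroup V] [Module ℂ V]
    [FiniteDimensional ℂ V] (ρ : Representation ℂ G V) {g : G} :
    g ∈ charKer ρ.character (isCharacter_of_rep ρ) ↔ ρ g = 1 := by
  change ρ.character g = ρ.character 1 ↔ _
  rw [Representation.char_one, character_eq_finrank_iff]
  rfl

theorem charKer_normal [Finite G] (χ : G → ℂ) (hχ : Cfsg.IsCharacter G χ) :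
    (charKer χ hχ).Normal :=
  ⟨fun _ hg h => (isClassFunction_of_isCharacter hχ _ h).trans hg⟩

end Cfsg.Agent.CharBasicLinear
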