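import Mathlib
import Cfsg.Agent.Lib.CharBasicOrth
import Cfsg.Agent.Lib.CharBasicInt
import Cfsg.Agent.Lib.CharBasicLinear
import Cfsg.Agent.Lib.SimpleOrderCheck
import Cfsg.Agent.S1018
import Cfsg.Agent.S1019

/-!
A simple group with a self-centralizing subgroup of prime order `p` whose normalizer induces
`e ∈ {2, 3}` automorphisms has `e - 1` irreducible characters of degree `≡ ±1 (mod p)` whose
degrees satisfy a linear relation.  This excludes certain orders.
-/

set_option autoImplicit false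

open scoped ComplexConjugate
open Finset

namespace Cfsg.Agent.SimpleStarKill

open Cfsg.Agent.CharBasic Cfsg.Agent.CharBasicOrth Cfsg.Agent.CharBasicInt
open Cfsg.Agent.CharBasicLinear

/-- Finsets of size `e` meeting pairwise in `e - 1` points: two of them, or more than `e + 1`
of them, have a common core. -/
theorem exists_core {α : Type*} [DecidableEq α] {e : ℕ} (F : Finset (Finset α))
    (hc : ∀ s ∈ F, s.card = e) (hi : ∀ s ∈ F, ∀ t ∈ F, s ≠ t → (s ∩ t).card + 1 = e)
    (hF : F.card = 2 ∨ e + 1 < F.card) :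
    ∃ C : Finset α, C.card + 1 = e ∧ ∀ s ∈ F, C ⊆ s := by
  obtain ⟨a, ha, b, hb, hab⟩ := Finset.one_lt_card.1 (show 1 < F.card by omega)
  refine ⟨a ∩ b, hi a ha b hb hab, ?_⟩
  rcases hF with h2 | hbig
  · intro s hs
    have : s = a ∨ s = b := by
      by_contra h
      push Not at h
      have : ({s, a, b} : Finset (Finset α)) ⊆ F := by
        simp [Finset.insert_subset_iff, hs, ha, hb]
      have h3 := Finset.card_le_card this
      rw [Finset.card_eq_three.2 ⟨s, a, b, h.1, h.2, hab, rfl⟩] at h3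
      omega
    rcases this with rfl | rfl
    · exact inter_subset_left
    · exact inter_subset_right
  · by_contra hne
    push Not at hne
    obtain ⟨T, hT, hTC⟩ := hne
    obtain ⟨c, hcC, hcT⟩ := Finset.not_subset.1 hTC
    have hU : (a ∪ b).card = e + 1 := by
      have h1 := Finset.card_union_add_card_inter a b
      have h2 := hi a ha b hb hab
      rw [hc a ha, hc b hb] at h1
      omega
    have hT' : ∀ s ∈ F, c ∈ s → s.erase c ⊆ T := by
      intro s hs hcs
      have hne' : T ≠ s := fun h => hcT (h ▸ hcs)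
      have hsub : T ∩ s ⊆ s.erase c := fun y hy => Finset.mem_erase.2
        ⟨fun h => hcT (h ▸ (Finset.mem_inter.1 hy).1), (Finset.mem_inter.1 hy).2⟩
      rw [← Finset.eq_of_subset_of_card_le hsub (by
        rw [Finset.card_erase_of_mem hcs, hc s hs]
        have := hi T hT s hs hne'
        omega)]
      exact inter_subset_left
    have hTU : (a ∪ b).erase c = T := by
      refine Finset.eq_of_subset_of_card_le (fun y hy => ?_) ?_
      · rcases Finset.mem_union.1 (Finset.mem_erase.1 hy).2 with h | h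
        · exact hT' a ha (Finset.mem_inter.1 hcC).1
            (Finset.mem_erase.2 ⟨(Finset.mem_erase.1 hy).1, h⟩)
        · exact hT' b hb (Finset.mem_inter.1 hcC).2
            (Finset.mem_erase.2 ⟨(Finset.mem_erase.1 hy).1, h⟩)
      · rw [Finset.card_erase_of_mem (Finset.mem_union_left _ (Finset.mem_inter.1 hcC).1), hU,
          hc T hT]
        omega
    have hall : ∀ R ∈ F, R ⊆ a ∪ b := by
      intro R hR
      by_cases hRC : c ∈ R
      · intro y hy
        rcases eq_or_ne y c with rfl | hyc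
        · exact Finset.mem_union_left _ (Finset.mem_inter.1 hcC).1
        · have := hT' R hR hRC (Finset.mem_erase.2 ⟨hyc, hy⟩)
          rw [← hTU] at this
          exact (Finset.mem_erase.1 this).2
      · -- then `R` has the same trace on `a ∪ b` as `T`
        have hR' : ∀ s ∈ F, c ∈ s → s.erase c ⊆ R := by
          intro s hs hcs
          have hne' : R ≠ s := fun h => hRC (h ▸ hcs)
          have hsub : R ∩ s ⊆ s.erase c := fun y hy => Finset.mem_erase.2
            ⟨fun h => hRC (h ▸ (Finset.mem_inter.1 hy).1), (Finset.mem_inter.1 hy).2⟩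
          rw [← Finset.eq_of_subset_of_card_le hsub (by
            rw [Finset.card_erase_of_mem hcs, hc s hs]
            have := hi R hR s hs hne'
            omega)]
          exact inter_subset_left
        have : (a ∪ b).erase c = R := by
          refine Finset.eq_of_subset_of_card_le (fun y hy => ?_) ?_
          · rcases Finset.mem_union.1 (Finset.mem_erase.1 hy).2 with h | h
            · exact hR' a ha (Finset.mem_inter.1 hcC).1
                (Finset.mem_erase.2 ⟨(Finset.mem_erase.1 hy).1, h⟩)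
            · exact hR' b hb (Finset.mem_inter.1 hcC).2
                (Finset.mem_erase.2 ⟨(Finset.mem_erase.1 hy).1, h⟩)
          · rw [Finset.card_erase_of_mem (Finset.mem_union_left _ (Finset.mem_inter.1 hcC).1), hU,
              hc R hR]
            omega
        exact this ▸ Finset.erase_subset _ _
    have hsub : F ⊆ (a ∪ b).powersetCard e := fun R hR =>
      Finset.mem_powersetCard.2 ⟨hall R hR, hc R hR⟩
    have h := Finset.card_le_card hsub
    rw [Finset.card_powersetCard, hU, Nat.choose_succ_self_right] at h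
    omega

section Main

variable {G : Type*} [Group G] [Finite G] {p : ℕ} [hp : Fact p.Prime] {x : G}

/-- The powers of `x` indexed by residues. -/
noncomputable def pw (x : G) (a : ZMod p) : G := x ^ a.val

theorem pw_zero : pw (p := p) x 0 = 1 := by simp [pw]

theorem pw_one : pw (p := p) x 1 = x := by simp [pw, ZMod.val_one]

theorem pw_add (hx : orderOf x = p) (a b : ZMod p) : pw x (a + b) = pw x a * pw x b := by
  rw [pw, pw, pw, ← pow_add, ZMod.val_add, pow_eq_pow_iff_modEq, hx]
  exact Nat.mod_modEq _ _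

theorem pw_inj (hx : orderOf x = p) {a b : ZMod p} (h : pw x a = pw x b) : a = b :=
  ZMod.val_injective p (pow_injOn_Iio_orderOf (x := x)
    (show a.val ∈ Set.Iio (orderOf x) by rw [hx]; exact ZMod.val_lt a)
    (show b.val ∈ Set.Iio (orderOf x) by rw [hx]; exact ZMod.val_lt b) h)

theorem pw_mul (hx : orderOf x = p) (a b : ZMod p) : pw x a ^ b.val = pw x (a * b) := by
  rw [pw, pw, ← pow_mul, ZMod.val_mul, pow_eq_pow_iff_modEq, hx]
  exact (Nat.mod_modEq _ _).symm

omit [Finite G] in
theorem isConj_pow {g h : G} (hc : IsConj g h) (n : ℕ) : IsConj (g ^ n) (h ^ n) := by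
  obtain ⟨c, hc⟩ := isConj_iff.1 hc
  exact isConj_iff.2 ⟨c, by rw [← hc, conj_pow]⟩

/-- The exponents fused with `1`. -/
noncomputable def fus (x : G) : Finset (ZMod p) := by
  classical exact Finset.univ.filter fun t => IsConj x (pw x t)

theorem mem_fus {t : ZMod p} : t ∈ fus x ↔ IsConj x (pw x t) := by
  classical simp [fus]

theorem fus_ne_zero (hx : orderOf x = p) {t : ZMod p} (ht : t ∈ fus x) : t ≠ 0 := by
  rintro rfl
  rw [mem_fus, pw_zero, isConj_one_left] at ht
  rw [ht, orderOf_one] at hx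
  exact hp.out.ne_one hx.symm

theorem isConj_pw (hx : orderOf x = p) {a b : ZMod p} (ha : a ≠ 0) :
    IsConj (pw x a) (pw x b) ↔ b * a⁻¹ ∈ fus x := by
  rw [mem_fus]
  constructor
  · intro h
    have h' := isConj_pow h (a⁻¹ : ZMod p).val
    rwa [pw_mul hx, pw_mul hx, mul_inv_cancel₀ ha, pw_one] at h'
  · intro h
    have h' := isConj_pow h a.val
    rw [pw_mul hx, show b * a⁻¹ * a = b by rw [mul_assoc, inv_mul_cancel₀ ha, mul_one]] at h'
    exact h'

theorem card_centralizer_pw (hx : orderOf x = p)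
    (hC : Subgroup.centralizer ({x} : Set G) = Subgroup.zpowers x) {a : ZMod p} (ha : a ≠ 0) :
    Nat.card ↥(Subgroup.centralizer ({pw x a} : Set G)) = p := by
  have hz : Subgroup.zpowers (pw x a) = Subgroup.zpowers x := by
    apply le_antisymm
    · exact Subgroup.zpowers_le.2 (pow_mem (Subgroup.mem_zpowers x) _)
    · refine Subgroup.zpowers_le.2 ?_
      have h := pw_mul hx a a⁻¹
      rw [mul_inv_cancel₀ ha, pw_one] at h
      have h2 : pw x a ^ (a⁻¹ : ZMod p).val ∈ Subgroup.zpowers (pw x a) :=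
        pow_mem (Subgroup.mem_zpowers _) _
      rwa [h] at h2
  rw [← Subgroup.centralizer_closure, ← Subgroup.zpowers_eq_closure, hz,
    Subgroup.zpowers_eq_closure, Subgroup.centralizer_closure, hC, Nat.card_zpowers, hx]

/-- The standard additive character. -/
noncomputable abbrev sg : AddChar (ZMod p) ℂ := ZMod.stdAddChar

theorem sum_sg (c : ZMod p) :
    ∑ a : ZMod p, sg (c * a) = if c = 0 then (p : ℂ) else 0 := by
  have h := AddChar.sum_mulShift (R := ZMod p) (R' := ℂ) c
    (ZMod.isPrimitive_stdAddChar p)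
  rw [ZMod.card] at h
  simp only [mul_comm c]
  rw [h]
  split_ifs <;> simp

/-- The multiplicity of an eigenvalue. -/
noncomputable def mult (x : G) (χ : G → ℂ) (j : ZMod p) : ℂ :=
  (p : ℂ)⁻¹ * ∑ a : ZMod p, χ (pw x a) * sg (-j * a)

theorem conj_sg (a : ZMod p) : conj (sg a) = sg (-a) := (AddChar.map_neg_eq_conj sg a).symm

theorem exists_mult (hx : orderOf x = p) {χ : G → ℂ} (hχ : Cfsg.IsCharacter G χ) (j : ZMod p) :
    ∃ n : ℕ, mult x χ j = n := by
  let φ : Multiplicative (ZMod p) →* G :=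
    { toFun := fun a => pw x (Multiplicative.toAdd a)
      map_one' := pw_zero
      map_mul' := fun a b => pw_add hx _ _ }
  let μ : Multiplicative (ZMod p) →* ℂ :=
    { toFun := fun a => sg (j * Multiplicative.toAdd a)
      map_one' := by simp
      map_mul' := fun a b => by simp [mul_add, AddChar.map_add_eq_mul] }
  obtain ⟨n, hn⟩ := classInner_isCharacter (G := Multiplicative (ZMod p))
    (isCharacter_comap φ hχ)
    (isCharacter_of_isIrrCharacter (CharBasicDecomp.isIrrCharacter_linear μ.toHomUnits))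
  refine ⟨n, hn ▸ ?_⟩
  rw [mult, Cfsg.classInner,
    Nat.card_congr (Multiplicative.toAdd : Multiplicative (ZMod p) ≃ ZMod p), Nat.card_zmod]
  congr 1
  refine Fintype.sum_equiv Multiplicative.ofAdd _ _ fun a => ?_
  simp [φ, μ, conj_sg, neg_mul]

/-- The difference of multiplicities. -/
noncomputable def dv (x : G) (χ : G → ℂ) (j : ZMod p) : ℂ := mult x χ (0 : ZMod p) - mult x χ j

theorem dv_eq (χ : G → ℂ) (j : ZMod p) :
    dv x χ j = (p : ℂ)⁻¹ * ∑ a : ZMod p, χ (pw x a) * (1 - sg (-j * a)) := by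
  simp only [dv, mult, neg_zero, zero_mul, AddChar.map_zero_eq_one, mul_one, ← mul_sub,
    ← Finset.sum_sub_distrib]
  refine congrArg _ (Finset.sum_congr rfl fun a _ => ?_)
  ring

theorem dv_triv {j : ZMod p} (hj : j ≠ 0) : dv x (fun _ : G => (1 : ℂ)) j = 1 := by
  simp only [dv_eq, one_mul, Finset.sum_sub_distrib, Finset.sum_const, Finset.card_univ,
    ZMod.card, nsmul_eq_mul, mul_one]
  rw [sum_sg, if_neg (neg_ne_zero.2 hj), sub_zero,
    inv_mul_cancel₀ (Nat.cast_ne_zero.2 hp.out.ne_zero)]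

theorem sum_mult (χ : G → ℂ) : ∑ j : ZMod p, mult x χ j = χ 1 := by
  simp only [mult, ← Finset.mul_sum]
  rw [Finset.sum_comm]
  simp only [← Finset.mul_sum]
  rw [Finset.sum_eq_single (0 : ZMod p)]
  · simp [pw_zero, ZMod.card, mul_comm (χ 1), inv_mul_cancel_left₀
      (Nat.cast_ne_zero.2 hp.out.ne_zero : (p : ℂ) ≠ 0)]
  · intro a _ ha
    rw [show (∑ j : ZMod p, sg (-j * a)) = ∑ j : ZMod p, sg (-a * j) from
      Finset.sum_congr rfl fun j _ => by ring_nf, sum_sg, if_neg (neg_ne_zero.2 ha), mul_zero]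
  · simp

variable (hx : orderOf x = p) (hC : Subgroup.centralizer ({x} : Set G) = Subgroup.zpowers x)

include hx hC in
/-- The Gram matrix of the vectors of multiplicity differences. -/
theorem gram {j k : ZMod p} (hj : j ≠ 0) (hk : k ≠ 0) :
    ∑ χ : Cfsg.IrrCharacter G, dv x (χ : G → ℂ) j * conj (dv x (χ : G → ℂ) k) =
      ((fus (p := p) x).card : ℂ) + if j * k⁻¹ ∈ fus x then 1 else 0 := by
  classical
  have hp0 : (p : ℂ) ≠ 0 := Nat.cast_ne_zero.2 hp.out.ne_zero
  simp only [dv_eq, map_mul, map_inv₀, map_natCast, map_sum, map_sub, map_one]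
  have key : ∀ a b : ZMod p, (∑ χ : Cfsg.IrrCharacter G,
      (χ : G → ℂ) (pw x a) * conj ((χ : G → ℂ) (pw x b))) * (1 - sg (-j * a)) =
      if b * a⁻¹ ∈ fus x then (p : ℂ) * (1 - sg (-j * a)) else 0 := by
    intro a b
    rcases eq_or_ne a 0 with rfl | ha
    · simp
    · rw [sum_irr_mul_conj, if_congr (isConj_pw hx ha) rfl rfl,
        card_centralizer_pw hx hC ha, ite_mul, zero_mul]
  calc _ = (p : ℂ)⁻¹ * (p : ℂ)⁻¹ * ∑ a : ZMod p, ∑ b : ZMod p,
        ((∑ χ : Cfsg.IrrCharacter G, (χ : G → ℂ) (pw x a) * conj ((χ : G → ℂ) (pw x b))) *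
          (1 - sg (-j * a))) * conj (1 - sg (-k * b)) := by
        simp only [mul_mul_mul_comm (p : ℂ)⁻¹ _ (p : ℂ)⁻¹, ← Finset.mul_sum, map_sub, map_one]
        congr 1
        simp only [Finset.sum_mul_sum]
        rw [Finset.sum_comm]
        refine Finset.sum_congr rfl fun a _ => ?_
        rw [Finset.sum_comm]
        refine Finset.sum_congr rfl fun b _ => ?_
        simp only [Finset.sum_mul]
        refine Finset.sum_congr rfl fun χ _ => ?_
        ring
    _ = (p : ℂ)⁻¹ * ∑ t ∈ fus x, ∑ a : ZMod p,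
        (1 - sg (-j * a)) * (1 - sg (k * t * a)) := by
        simp only [key]
        simp only [ite_mul, zero_mul, map_sub, map_one, conj_sg, neg_mul, neg_neg]
        rw [Finset.sum_comm (s := fus x), mul_assoc]
        congr 1
        rw [Finset.mul_sum]
        refine Finset.sum_congr rfl fun a _ => ?_
        rcases eq_or_ne a 0 with rfl | ha
        · simp
        rw [← Finset.sum_filter, Finset.mul_sum]
        refine (Finset.sum_bij' (fun t _ => t * a) (fun b _ => b * a⁻¹) ?_ ?_ ?_ ?_ ?_).symm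
        · intro t ht; simp [mul_assoc, mul_inv_cancel₀ ha, ht]
        · intro b hb; exact (Finset.mem_filter.1 hb).2
        · intro t _; simp [mul_assoc, mul_inv_cancel₀ ha]
        · intro b _; simp [mul_assoc, inv_mul_cancel₀ ha]
        · intro t _; field_simp
    _ = _ := by
        have ht : ∀ t ∈ fus (p := p) x, ∑ a : ZMod p, (1 - sg (-j * a)) * (1 - sg (k * t * a)) =
            (p : ℂ) + if t = j * k⁻¹ then (p : ℂ) else 0 := by
          intro t ht
          have e : ∀ a : ZMod p, (1 - sg (-j * a)) * (1 - sg (k * t * a)) =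
              1 - sg (-j * a) - sg (k * t * a) + sg ((-j + k * t) * a) := by
            intro a; rw [add_mul, AddChar.map_add_eq_mul]; ring
          simp only [e, Finset.sum_add_distrib, Finset.sum_sub_distrib, sum_sg, Finset.sum_const,
            Finset.card_univ, ZMod.card, nsmul_eq_mul, mul_one,
            if_neg (neg_ne_zero.2 hj), if_neg (mul_ne_zero hk (fus_ne_zero hx ht)), sub_zero]
          congr 1
          refine if_congr ?_ rfl rfl
          rw [neg_add_eq_zero, eq_comm, eq_mul_inv_iff_mul_eq₀ hk, mul_comm t k]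
        rw [Finset.sum_congr rfl ht, Finset.sum_add_distrib, Finset.sum_ite_eq', Finset.sum_const,
          nsmul_eq_mul, mul_add, mul_ite, mul_zero, inv_mul_cancel₀ hp0, mul_left_comm,
          inv_mul_cancel₀ hp0, mul_one]

include hx in
theorem sum_deg {j : ZMod p} :
    ∑ χ : Cfsg.IrrCharacter G, dv x (χ : G → ℂ) j * conj ((χ : G → ℂ) 1) = 0 := by
  classical
  simp only [dv_eq, mul_assoc, Finset.sum_mul, ← Finset.mul_sum]
  rw [Finset.sum_comm, Finset.sum_eq_zero fun a _ => ?_, mul_zero]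
  rcases eq_or_ne a 0 with rfl | ha
  · simp
  · rw [Finset.sum_congr rfl fun χ _ => by rw [mul_left_comm], ← Finset.mul_sum,
      sum_irr_mul_conj, if_neg ?_, mul_zero]
    rw [isConj_one_left]
    exact fun h => ha (pw_inj hx (h.trans pw_zero.symm))

end Main

/-- Test for a degree `f ≡ ±1 (mod p)`: the signed value. -/
def sval (p f : ℕ) : ℤ := if f % p = 1 then (f : ℤ) else -(f : ℤ)

/-- Candidate degrees. -/
def degs (n p : ℕ) : List ℕ :=
  (List.range (Nat.sqrt n + 1)).filter fun f =>
    decide (1 < f) && decide (n % f = 0) && (decide (f % p = 1) || decide ((f + 1) % p = 0))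

/-- `|1 + s|` is not the degree of a nonprincipal character. -/
def badX (n : ℕ) (s : ℤ) : Bool :=
  !(decide (1 < (1 + s).natAbs) && decide (n % (1 + s).natAbs = 0))

/-- No admissible degrees. -/
def starKill (n p e : ℕ) : Bool :=
  if e = 2 then (degs n p).all fun a => badX n (sval p a)
  else if e = 3 then
    (degs n p).all fun a => (degs n p).all fun b => badX n (sval p a + sval p b)
  else false

theorem card_fus_mul {G : Type*} [Group G] [Finite G] {p : ℕ} [Fact p.Prime] (P : Sylow p G)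
    (hP : Nat.card ↥(P : Subgroup G) = p) {x : G} (hxP : x ∈ (P : Subgroup G))
    (hx : orderOf x = p) (hC : Subgroup.centralizer ({x} : Set G) = Subgroup.zpowers x) :
    (fus (p := p) x).card * p * Nat.card (Sylow p G) = Nat.card G := by
  classical
  set N := Subgroup.normalizer ((P : Subgroup G) : Set G) with hN
  have hzP : Subgroup.zpowers x = (P : Subgroup G) :=
    Subgroup.eq_of_le_of_card_ge (Subgroup.zpowers_le.2 hxP) (by rw [hP, Nat.card_zpowers, hx])
  have h1 := S1019.result N x (Subgroup.le_normalizer hxP)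
  rw [(S1018.result p P hP).1 x hx, one_mul] at h1
  have hE : Nat.card {g : G // IsConj x g ∧ g ∈ N} = (fus (p := p) x).card := by
    have hmem : ∀ g : G, IsConj x g → g ∈ N → g ∈ (P : Subgroup G) := by
      intro g hc hgN
      obtain ⟨c, rfl⟩ := isConj_iff.1 hc
      have hp : IsPGroup p ↥(Subgroup.zpowers (c * x * c⁻¹)) :=
        IsPGroup.of_card (n := 1) (by
          rw [Nat.card_zpowers, pow_one, ← MulAut.conj_apply, MulEquiv.orderOf_eq, hx])
      have h := (hp.inf_normalizer_sylow P).le ⟨Subgroup.mem_zpowers _, hgN⟩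
      exact h.2
    rw [← Nat.card_eq_finsetCard]
    refine (Nat.card_congr (Equiv.ofBijective
      (fun t : ↥(fus (p := p) x) => (⟨pw x (t : ZMod p), mem_fus.1 t.2,
        Subgroup.le_normalizer (hzP ▸ pow_mem (Subgroup.mem_zpowers x) _)⟩ :
          {g : G // IsConj x g ∧ g ∈ N})) ⟨fun a b h => ?_, fun g => ?_⟩)).symm
    · exact Subtype.ext (pw_inj hx (congrArg Subtype.val h))
    · obtain ⟨g, hgc, hgN⟩ := g
      have h2 := hmem g hgc hgN
      rw [← hzP, IsOfFinOrder.mem_zpowers_iff_mem_range_orderOf (isOfFinOrder_of_finite x)] at h2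
      obtain ⟨i, hi, rfl⟩ := Finset.mem_image.1 h2
      have hi' : ((i : ℕ) : ZMod p).val = i := ZMod.val_natCast_of_lt (hx ▸ Finset.mem_range.1 hi)
      exact ⟨⟨(i : ZMod p), mem_fus.2 (by rw [pw, hi']; exact hgc)⟩,
        Subtype.ext (by simp only [pw, hi'])⟩
  have h2 := card_conj_mul_card_centralizer x
  have hidx : Nat.card (Sylow p G) = N.index := P.card_eq_index_normalizer
  rw [hC, Nat.card_zpowers, hx, h1, hE, ← hidx] at h2
  rw [← h2]
  ring

/-- Soundness of the criterion. -/
theorem card_ne_of_starKill {G : Type*} [Group G] [Finite G] [IsSimpleGroup G]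
    (hG : ¬ IsMulCommutative G) {n p e : ℕ} [Fact p.Prime] (hp2 : p ≠ 2)
    (P : Sylow p G) (hP : Nat.card ↥(P : Subgroup G) = p)
    (hN : Nat.card ↥(Subgroup.normalizer ((P : Subgroup G) : Set G)) = e * p)
    (hC : Nat.card ↥(Subgroup.centralizer ((P : Subgroup G) : Set G)) = p)
    (hh : p = 2 * e + 1 ∨ e * (e + 1) + 1 < p) (hk : starKill n p e = true) :
    Nat.card G ≠ n := by
  classical
  intro hn
  subst hn
  have hp : p.Prime := Fact.out
  have he23 : e = 2 ∨ e = 3 := by
    unfold starKill at hk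
    split_ifs at hk with h2 h3
    · exact Or.inl h2
    · exact Or.inr h3
  obtain ⟨x, hxP, hx⟩ : ∃ x ∈ (P : Subgroup G), orderOf x = p := by
    obtain ⟨g, hg⟩ := exists_prime_orderOf_dvd_card' p (G := ↥(P : Subgroup G))
      (dvd_of_eq hP.symm)
    exact ⟨g, g.2, by rw [Subgroup.orderOf_coe, hg]⟩
  have hzP : Subgroup.zpowers x = (P : Subgroup G) :=
    Subgroup.eq_of_le_of_card_ge (Subgroup.zpowers_le.2 hxP) (by rw [hP, Nat.card_zpowers, hx])
  have hCx : Subgroup.centralizer ({x} : Set G) = Subgroup.zpowers x := by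
    have hle : Subgroup.zpowers x ≤ Subgroup.centralizer ({x} : Set G) :=
      Subgroup.zpowers_le.2 (by simp [Subgroup.mem_centralizer_singleton_iff])
    refine (Subgroup.eq_of_le_of_card_ge hle ?_).symm
    rw [Nat.card_zpowers, hx, ← Subgroup.centralizer_closure, ← Subgroup.zpowers_eq_closure,
      hzP, hC]
  have hE : (fus (p := p) x).card = e := by
    have h1 := card_fus_mul P hP hxP hx hCx
    have hidx : Nat.card (Sylow p G) = (Subgroup.normalizer ((P : Subgroup G) : Set G)).index :=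
      P.card_eq_index_normalizer
    rw [hidx] at h1
    have h2 := (Subgroup.normalizer ((P : Subgroup G) : Set G)).card_mul_index
    rw [hN, ← h1] at h2
    have h3 := Nat.eq_of_mul_eq_mul_right (Nat.pos_of_ne_zero Subgroup.index_ne_zero_of_finite) h2
    exact (Nat.eq_of_mul_eq_mul_right hp.pos h3).symm
  -- integral coordinates
  have hZ : ∀ (χ : Cfsg.IrrCharacter G) (j : ZMod p), ∃ z : ℤ, dv x (χ : G → ℂ) j = z := by
    intro χ j
    obtain ⟨a, ha⟩ := exists_mult hx (isCharacter_of_isIrrCharacter χ.2) (0 : ZMod p)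
    obtain ⟨b, hb⟩ := exists_mult hx (isCharacter_of_isIrrCharacter χ.2) j
    exact ⟨(a : ℤ) - b, by rw [dv, ha, hb]; push_cast; ring⟩
  choose v hv using hZ
  choose d hd0 hd hdn using fun χ : Cfsg.IrrCharacter G => exists_apply_one_dvd_card χ.2
  let τ : Cfsg.IrrCharacter G := ⟨fun _ => 1, by
    simpa using CharBasicDecomp.isIrrCharacter_linear (1 : G →* ℂˣ)⟩
  have hτ : ∀ j, j ≠ 0 → v τ j = 1 := fun j hj => by
    have h := hv τ j
    rw [dv_triv hj] at h
    exact_mod_cast h.symm
  have hdτ : d τ = 1 := by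
    have h : (1 : ℂ) = (d τ : ℂ) := hd τ
    exact_mod_cast h.symm
  have hd1 : ∀ χ, χ ≠ τ → 1 < d χ := by
    intro χ hχ
    by_contra hle
    have h1 : (χ : G → ℂ) 1 = 1 := by
      rw [hd χ, show d χ = 1 by have := hd0 χ; omega, Nat.cast_one]
    have hperf : commutator G = ⊤ :=
      (SimpleOrder.eq_bot_or_top (inferInstance : (commutator G).Normal)).resolve_left
        fun h => hG ⟨⟨fun a b => by
          have hm := Subgroup.commutator_mem_commutator (Subgroup.mem_top a) (Subgroup.mem_top b)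
          rw [← commutator_def, h, Subgroup.mem_bot, commutatorElement_eq_one_iff_mul_comm] at hm
          exact hm⟩⟩
    have h2 := card_linear (G := G)
    rw [hperf, Subgroup.index_top, Nat.card_eq_one_iff_unique] at h2
    exact hχ (congrArg Subtype.val (h2.1.elim ⟨χ, h1⟩ ⟨τ, rfl⟩))
  set U := (Finset.univ : Finset (Cfsg.IrrCharacter G)).erase τ with hU
  -- Gram relations
  have hg : ∀ j k : ZMod p, j ≠ 0 → k ≠ 0 →
      ∑ χ ∈ U, v χ j * v χ k = (e : ℤ) - 1 + if j * k⁻¹ ∈ fus x then 1 else 0 := by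
    intro j k hj hk
    have h := gram hx hCx hj hk
    simp only [hv, map_intCast, hE] at h
    rw [← Finset.add_sum_erase _ _ (Finset.mem_univ τ), hτ j hj, hτ k hk] at h
    simp only [Int.cast_one, map_one] at h
    have h' : (1 : ℤ) * 1 + ∑ χ ∈ U, v χ j * v χ k =
        (e : ℤ) + if j * k⁻¹ ∈ fus x then 1 else 0 := by
      split_ifs at h ⊢ with hm
      · exact_mod_cast h
      · exact_mod_cast h
    omega
  have hone : (1 : ZMod p) ∈ fus x := mem_fus.2 (by rw [pw_one])
  have hsq : ∀ j, j ≠ 0 → ∑ χ ∈ U, v χ j * v χ j = e := by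
    intro j hj
    rw [hg j j hj hj, mul_inv_cancel₀ hj, if_pos hone]
    ring
  have hsmall : ∀ j, j ≠ 0 → ∀ χ ∈ U, v χ j = 0 ∨ v χ j = 1 ∨ v χ j = -1 := by
    intro j hj χ hχ
    have h := Finset.single_le_sum (f := fun χ => v χ j * v χ j)
      (fun χ _ => mul_self_nonneg _) hχ
    rw [hsq j hj] at h
    have h' : v χ j * v χ j ≤ 3 := le_trans h (by rcases he23 with rfl | rfl <;> norm_num)
    have : -1 ≤ v χ j ∧ v χ j ≤ 1 := ⟨by nlinarith, by nlinarith⟩
    omega
  let S : ZMod p → Finset (Cfsg.IrrCharacter G) := fun j => U.filter fun χ => v χ j ≠ 0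
  have hScard : ∀ j, j ≠ 0 → (S j).card = e := by
    intro j hj
    have h := hsq j hj
    rw [← Finset.sum_filter_ne_zero, Finset.sum_congr rfl (g := fun _ => (1 : ℤ)) (fun χ hχ => by
      obtain ⟨hχU, hne⟩ := Finset.mem_filter.1 hχ
      rcases hsmall j hj χ hχU with h | h | h
      · simp [h] at hne
      · simp [h]
      · simp [h]), Finset.sum_const, nsmul_eq_mul, mul_one] at h
    refine Eq.trans ?_ (by exact_mod_cast h)
    exact congrArg Finset.card (Finset.filter_congr fun χ _ => by simp)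
  have heq : ∀ j k, j ≠ 0 → k ≠ 0 → j * k⁻¹ ∈ fus x → ∀ χ ∈ U, v χ j = v χ k := by
    intro j k hj hk hm χ hχ
    have h : ∑ χ ∈ U, (v χ j - v χ k) * (v χ j - v χ k) = 0 := by
      simp only [sub_mul, mul_sub, Finset.sum_sub_distrib, hsq j hj, hsq k hk, hg j k hj hk,
        if_pos hm, Finset.sum_congr rfl fun χ _ => mul_comm (v χ k) (v χ j)]
      ring
    exact sub_eq_zero.1 (mul_self_eq_zero.1
      ((Finset.sum_eq_zero_iff_of_nonneg fun χ _ => mul_self_nonneg _).1 h χ hχ))
  have hint : ∀ j k, j ≠ 0 → k ≠ 0 → j * k⁻¹ ∉ fus x →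
      (S j ∩ S k).card + 1 = e ∧ ∀ χ ∈ S j ∩ S k, v χ j = v χ k := by
    intro j k hj hk hm
    have h := hg j k hj hk
    rw [if_neg hm, add_zero] at h
    have hI : ∑ χ ∈ U, v χ j * v χ k = ∑ χ ∈ S j ∩ S k, v χ j * v χ k := by
      refine (Finset.sum_subset (fun χ hχ => (Finset.mem_filter.1 (Finset.mem_inter.1 hχ).1).1)
        fun χ hχ hn => ?_).symm
      simp only [S, Finset.mem_inter, Finset.mem_filter, hχ, true_and, not_and, not_not] at hn
      by_cases h0 : v χ j = 0
      · simp [h0]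
      · simp [hn h0]
    rw [hI] at h
    set I := S j ∩ S k
    have hterm : ∀ χ ∈ I, v χ j * v χ k = 1 ∧ v χ j = v χ k ∨ v χ j * v χ k = -1 := by
      intro χ hχ
      obtain ⟨h1, h2⟩ := Finset.mem_inter.1 hχ
      obtain ⟨hχU, h1⟩ := Finset.mem_filter.1 h1
      obtain ⟨-, h2⟩ := Finset.mem_filter.1 h2
      rcases hsmall j hj χ hχU with a | a | a <;> rcases hsmall k hk χ hχU with b | b | b <;>
        simp_all
    have hle : I.card ≤ e :=
      (Finset.card_le_card Finset.inter_subset_left).trans (hScard j hj).le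
    set A := I.filter fun χ => v χ j * v χ k = -1
    have hsum : ∑ χ ∈ I, v χ j * v χ k = (I.card : ℤ) - 2 * A.card := by
      rw [Finset.sum_congr rfl (g := fun χ => (1 : ℤ) - 2 * if v χ j * v χ k = -1 then 1 else 0)
        (fun χ hχ => by rcases hterm χ hχ with ⟨a, -⟩ | a <;> simp [a]),
        Finset.sum_sub_distrib, ← Finset.mul_sum, Finset.sum_boole]
      simp [A]
    have hA : A.card = 0 ∧ I.card + 1 = e := by omega
    refine ⟨hA.2, fun χ hχ => ?_⟩
    rcases hterm χ hχ with ⟨-, a⟩ | a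
    · exact a
    · exact absurd (Finset.card_eq_zero.1 hA.1 ▸ (Finset.mem_filter.2 ⟨hχ, a⟩ : χ ∈ A))
        (Finset.notMem_empty χ)
  set J := (Finset.univ : Finset (ZMod p)).erase 0 with hJ
  have hJ0 : ∀ j ∈ J, j ≠ 0 := fun j hj => Finset.ne_of_mem_erase hj
  set F := J.image S with hF
  have hfib : ∀ j ∈ J, ∀ k ∈ J, (S j = S k ↔ j * k⁻¹ ∈ fus x) := by
    intro j hj k hk
    refine ⟨fun h => ?_, fun h => Finset.filter_congr fun χ hχ => by
      rw [heq j k (hJ0 j hj) (hJ0 k hk) h χ hχ]⟩
    by_contra hm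
    have := (hint j k (hJ0 j hj) (hJ0 k hk) hm).1
    rw [h, Finset.inter_self, hScard k (hJ0 k hk)] at this
    omega
  have hFe : F.card * e = p - 1 := by
    have h1 := Finset.card_eq_sum_card_image S J
    rw [hJ, Finset.card_erase_of_mem (Finset.mem_univ _), Finset.card_univ, ZMod.card, ← hJ,
      ← hF] at h1
    rw [h1, Finset.sum_const_nat]
    intro s hs
    obtain ⟨k, hk, rfl⟩ := Finset.mem_image.1 hs
    rw [← hE]
    refine Finset.card_bij' (fun j _ => j * k⁻¹) (fun t _ => t * k) ?_ ?_ ?_ ?_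
    · intro j hj
      obtain ⟨hjJ, hjs⟩ := Finset.mem_filter.1 hj
      exact (hfib j hjJ k hk).1 hjs
    · intro t ht
      have hne : t * k ∈ J :=
        Finset.mem_erase.2 ⟨mul_ne_zero (fus_ne_zero hx ht) (hJ0 k hk), Finset.mem_univ _⟩
      exact Finset.mem_filter.2 ⟨hne, (hfib _ hne k hk).2
        (by rwa [mul_assoc, mul_inv_cancel₀ (hJ0 k hk), mul_one])⟩
    · intro j _; rw [mul_assoc, inv_mul_cancel₀ (hJ0 k hk), mul_one]
    · intro t _; rw [mul_assoc, mul_inv_cancel₀ (hJ0 k hk), mul_one]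
  obtain ⟨C, hCc, hCsub⟩ := exists_core F (e := e)
    (fun s hs => by obtain ⟨j, hj, rfl⟩ := Finset.mem_image.1 hs; exact hScard j (hJ0 j hj))
    (fun s hs t ht hst => by
      obtain ⟨j, hj, rfl⟩ := Finset.mem_image.1 hs
      obtain ⟨k, hk, rfl⟩ := Finset.mem_image.1 ht
      exact (hint j k (hJ0 j hj) (hJ0 k hk) fun h => hst ((hfib j hj k hk).2 h)).1)
    (by
      rcases hh with h | h
      · left
        exact Nat.eq_of_mul_eq_mul_right (by omega : 0 < e) (hFe.trans (by omega))
      · right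
        by_contra hle
        have : F.card * e ≤ (e + 1) * e := Nat.mul_le_mul_right _ (by omega)
        rw [hFe, mul_comm (e + 1)] at this
        omega)
  have h1J : (1 : ZMod p) ∈ J := Finset.mem_erase.2 ⟨one_ne_zero, Finset.mem_univ _⟩
  have hCS : ∀ j ∈ J, C ⊆ S j := fun j hj => hCsub _ (Finset.mem_image_of_mem S hj)
  have hconst : ∀ χ ∈ C, ∀ j ∈ J, v χ j = v χ 1 := by
    intro χ hχ j hj
    by_cases hm : j * (1 : ZMod p)⁻¹ ∈ fus x
    · exact heq j 1 (hJ0 j hj) one_ne_zero hm χ (Finset.mem_filter.1 (hCS j hj hχ)).1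
    · exact (hint j 1 (hJ0 j hj) one_ne_zero hm).2 χ
        (Finset.mem_inter.2 ⟨hCS j hj hχ, hCS 1 h1J hχ⟩)
  have hdv : ∀ χ ∈ S 1, d χ ∈ (List.range (Nat.sqrt (Nat.card G) + 1)) ∧ 1 < d χ := by
    intro χ hχ
    refine ⟨List.mem_range.2 (Nat.lt_succ_of_le (Nat.le_sqrt.2 ?_)),
      hd1 χ (Finset.ne_of_mem_erase (Finset.mem_filter.1 hχ).1)⟩
    have h := sum_sq_apply_one (G := G)
    simp only [hd] at h
    have h' : ∑ χ : Cfsg.IrrCharacter G, d χ ^ 2 = Nat.card G := by exact_mod_cast h
    rw [← h', ← sq]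
    exact Finset.single_le_sum (f := fun χ => d χ ^ 2) (fun χ _ => Nat.zero_le _)
      (Finset.mem_univ χ)
  have hdeg : ∀ χ ∈ C, d χ ∈ degs (Nat.card G) p ∧ (d χ : ℤ) * v χ 1 = sval p (d χ) := by
    intro χ hχ
    have hχS := hCS 1 h1J hχ
    obtain ⟨hχU, hne⟩ := Finset.mem_filter.1 hχS
    have h := sum_mult (x := x) (p := p) (χ : G → ℂ)
    obtain ⟨a, ha⟩ := exists_mult hx (isCharacter_of_isIrrCharacter χ.2) (0 : ZMod p)
    rw [hd χ, ← Finset.add_sum_erase _ _ (Finset.mem_univ (0 : ZMod p)), ← hJ,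
      Finset.sum_congr rfl (g := fun _ => (a : ℂ) - (v χ 1 : ℂ)) (fun j hj => by
        have := hv χ j
        rw [dv, hconst χ hχ j hj, ha] at this
        rw [← this]; ring),
      Finset.sum_const, hJ, Finset.card_erase_of_mem (Finset.mem_univ _), Finset.card_univ,
      ZMod.card, nsmul_eq_mul, ha] at h
    have h' : (a : ℤ) + ((p - 1 : ℕ) : ℤ) * (a - v χ 1) = d χ := by exact_mod_cast h
    rw [Nat.cast_sub hp.one_lt.le] at h'
    have hmod : (d χ : ℤ) % p = v χ 1 % p := by
      rw [Int.emod_eq_emod_iff_emod_sub_eq_zero]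
      exact Int.emod_eq_zero_of_dvd ⟨a - v χ 1, by rw [← h']; push_cast; ring⟩
    have hp3 : 3 ≤ p := by have := hp.two_le; omega
    have hres : d χ % p = 1 ∧ v χ 1 = 1 ∨ (d χ + 1) % p = 0 ∧ v χ 1 = -1 := by
      rcases hsmall 1 one_ne_zero χ hχU with h0 | h0 | h0
      · exact absurd h0 hne
      · left
        rw [h0, Int.emod_eq_of_lt (by norm_num : (0 : ℤ) ≤ 1) (by exact_mod_cast hp.one_lt)] at hmod
        exact ⟨by exact_mod_cast hmod, h0⟩
      · right
        refine ⟨?_, h0⟩
        have : ((d χ : ℤ) + 1) % p = 0 := by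
          rw [Int.add_emod, hmod, h0, ← Int.add_emod]; simp
        exact_mod_cast this
    refine ⟨List.mem_filter.2 ⟨(hdv χ hχS).1, ?_⟩, ?_⟩
    · rcases hres with ⟨h1, -⟩ | ⟨h1, -⟩ <;>
        simp [(hdv χ hχS).2, Nat.mod_eq_zero_of_dvd (hdn χ), h1]
    · rcases hres with ⟨h1, h2⟩ | ⟨h1, h2⟩
      · simp [sval, h1, h2]
      · have : d χ % p ≠ 1 := fun hh' => by
          have h2 : (d χ + 1) % p = 2 := by
            rw [Nat.add_mod, hh', Nat.mod_eq_of_lt (by omega : 1 < p), Nat.mod_eq_of_lt (by omega)]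
          omega
        simp [sval, this, h2]
  -- the linear relation
  have hrel : (1 : ℤ) + ∑ χ ∈ S 1, v χ 1 * d χ = 0 := by
    have h := sum_deg hx (j := (1 : ZMod p))
    simp only [hv, hd, map_natCast] at h
    rw [← Finset.add_sum_erase _ _ (Finset.mem_univ τ), hτ 1 one_ne_zero, hdτ] at h
    have h'' : (1 : ℤ) + ∑ χ ∈ U, v χ 1 * d χ = 0 := by
      simp only [Nat.cast_one, Int.cast_one, mul_one] at h
      exact_mod_cast h
    have e1 : ∑ χ ∈ S 1, v χ 1 * (d χ : ℤ) = ∑ χ ∈ U, v χ 1 * (d χ : ℤ) :=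
      Finset.sum_filter_of_ne fun χ _ hh' h0 => hh' (by simp [h0])
    rw [e1]; exact h''
  obtain ⟨y, hy⟩ : ∃ y, S 1 \ C = {y} := Finset.card_eq_one.1 (by
    rw [Finset.card_sdiff_of_subset (hCS 1 h1J), hScard 1 one_ne_zero]; omega)
  have hyS : y ∈ S 1 := (Finset.mem_sdiff.1 (hy ▸ Finset.mem_singleton_self y)).1
  rw [← Finset.sum_sdiff (hCS 1 h1J), hy, Finset.sum_singleton,
    Finset.sum_congr rfl (g := fun χ => sval p (d χ))
      (fun χ hχ => by rw [mul_comm, (hdeg χ hχ).2])] at hrel
  have hy1 : v y 1 = 1 ∨ v y 1 = -1 :=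
    (hsmall 1 one_ne_zero y (Finset.mem_filter.1 hyS).1).resolve_left (Finset.mem_filter.1 hyS).2
  have hbad : badX (Nat.card G) (∑ χ ∈ C, sval p (d χ)) = true := by
    unfold starKill at hk
    rcases he23 with rfl | rfl
    · obtain ⟨a, rfl⟩ := Finset.card_eq_one.1 (show C.card = 1 by omega)
      simp only [if_true, List.all_eq_true] at hk
      rw [Finset.sum_singleton]
      exact hk _ (hdeg a (Finset.mem_singleton_self a)).1
    · obtain ⟨a, b, hab, rfl⟩ := Finset.card_eq_two.1 (show C.card = 2 by omega)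
      simp only [show (3 : ℕ) ≠ 2 by norm_num, if_false, if_true, List.all_eq_true] at hk
      rw [Finset.sum_pair hab]
      exact hk _ (hdeg a (by simp)).1 _ (hdeg b (by simp)).1
  have habs : (1 + ∑ χ ∈ C, sval p (d χ)).natAbs = d y := by
    rcases hy1 with h | h <;> rw [h] at hrel <;> omega
  simp [badX, habs, (hdv y hyS).2, Nat.mod_eq_zero_of_dvd (hdn y)] at hbad

/-- The criterion, in the situation where the number of Sylow `p`-subgroups is forced and the
quotient `e` is prime. -/
theorem card_ne {G : Type*} [Group G] [Finite G] [IsSimpleGroup G] (hG : ¬ IsMulCommutative G)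
    {n p e d : ℕ} (hp : p.Prime) (he : e.Prime) (hp2 : p ≠ 2) (hne : n = d * (e * p))
    (h1 : ¬ p ∣ d * e) (hd : ∀ x ∈ SimpleOrderCheck.cand n p (n / p), x = d)
    (hh : p = 2 * e + 1 ∨ e * (e + 1) + 1 < p) (hk : starKill n p e = true) :
    Nat.card G ≠ n := by
  intro hn
  subst hn
  have : Fact p.Prime := ⟨hp⟩
  obtain ⟨P⟩ : Nonempty (Sylow p G) := inferInstance
  have hnp : Nat.card G = p ^ 1 * (d * e) := by rw [hne, pow_one]; ring
  have hP : Nat.card ↥(P : Subgroup G) = p := by
    rw [SimpleOrder.sylow_card_of_eq hnp h1 P, pow_one]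
  have hdiv : Nat.card G / p = d * e := by rw [hnp, pow_one, Nat.mul_div_cancel_left _ hp.pos]
  have hd0 : Nat.card (Sylow p G) = d :=
    hd _ (hdiv ▸ SimpleOrderCheck.mem_cand hG Nat.one_pos hnp h1)
  have hN : Nat.card ↥(Subgroup.normalizer ((P : Subgroup G) : Set G)) = e * p := by
    have h2 := (Subgroup.normalizer ((P : Subgroup G) : Set G)).card_mul_index
    have hidx : (Subgroup.normalizer ((P : Subgroup G) : Set G)).index = d :=
      P.card_eq_index_normalizer.symm.trans hd0
    rw [hidx, hne, mul_comm d] at h2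
    exact Nat.eq_of_mul_eq_mul_right (hd0 ▸ Nat.card_pos) h2
  obtain ⟨e', he1, -, he3, c, hc⟩ := SimpleOrder.exists_card_normalizer_eq hG P hP
  rw [hN, hc] at he3
  have h4 : e' * c = e := Nat.eq_of_mul_eq_mul_right hp.pos (by rw [← he3]; ring)
  have hc1 : c = 1 := by
    rcases (Nat.dvd_prime he).1 (Dvd.intro c h4) with h | h
    · omega
    · rw [h] at h4
      exact Nat.eq_of_mul_eq_mul_left he.pos (by rw [h4, mul_one])
  exact card_ne_of_starKill hG hp2 P hP hN (by rw [hc, hc1, mul_one]) hh hk rfl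

end Cfsg.Agent.SimpleStarKill
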