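import Mathlib
import Cfsg.Agent.Lib.SimpleCentralizerKill
import Cfsg.Agent.Lib.SimpleStarKill
import Cfsg.Agent.Lib.ClassAlgebraVal
import Cfsg.Agent.Lib.ClassAlgebraMod
import Cfsg.Agent.S1018
import Cfsg.Agent.S1019

/-!
There is no simple group of order `720`: the case of a self-centralizing Sylow `5`-subgroup with
normalizer of order `20`.
-/

set_option autoImplicit false

open scoped ComplexConjugate

namespace Cfsg.Agent.Simple720

open Subgroup Cfsg.Agent.SimpleOrder Cfsg.Agent.CharBasic Cfsg.Agent.CharBasicOrth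
open Cfsg.Agent.SimpleStarKill

theorem commutator_eq_top {G : Type*} [Group G] [Finite G] [IsSimpleGroup G]
    (hG : ¬ IsMulCommutative G) : commutator G = ⊤ :=
  (eq_bot_or_top (inferInstance : (commutator G).Normal)).resolve_left fun h => hG ⟨⟨fun a b => by
    have hm := Subgroup.commutator_mem_commutator (Subgroup.mem_top a) (Subgroup.mem_top b)
    rw [← commutator_def, h, Subgroup.mem_bot, commutatorElement_eq_one_iff_mul_comm] at hm
    exact hm⟩⟩

/-- An involution of a simple group is an even permutation in every action. -/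
theorem four_dvd_moved {G α : Type*} [Group G] [Finite G] [IsSimpleGroup G] [MulAction G α]
    [Fintype α] [DecidableEq α] (hG : ¬ IsMulCommutative G) {w : G} (hw : w ^ 2 = 1) :
    4 ∣ Nat.card α - Nat.card (MulAction.fixedBy α w) := by
  set σ := MulAction.toPermHom G α w with hσ
  have hsign : Equiv.Perm.sign σ = 1 := by
    let ψ : G →* ℤˣ := Equiv.Perm.sign.comp (MulAction.toPermHom G α)
    have h : w ∈ ψ.ker := Abelianization.commutator_subset_ker ψ
      (by rw [commutator_eq_top hG]; exact Subgroup.mem_top w)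
    exact MonoidHom.mem_ker.1 h
  have hcard : Nat.card α - Nat.card (MulAction.fixedBy α w) = σ.support.card := by
    have e : MulAction.fixedBy α w = ((σ.supportᶜ : Finset α) : Set α) := by
      ext a
      simp [hσ, MulAction.mem_fixedBy]
    rw [e, Nat.card_eq_fintype_card, Nat.card_coe_set_eq, Set.ncard_coe_finset,
      Finset.card_compl, Nat.sub_sub_self (Finset.card_le_univ _)]
  rw [hcard]
  rcases eq_or_ne σ 1 with h | h
  · simp [h]
  have ho : orderOf σ = 2 := orderOf_eq_prime (by rw [hσ, ← map_pow, hw, map_one]) h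
  obtain ⟨k, hk⟩ := Equiv.Perm.cycleType_prime_order (σ := σ) (ho ▸ Nat.prime_two)
  rw [ho] at hk
  rw [Equiv.Perm.sign_of_cycleType, hk] at hsign
  have hsum : σ.support.card = (k + 1) * 2 := by
    rw [← σ.sum_cycleType, hk]; simp; ring
  simp only [Multiset.sum_replicate, Multiset.card_replicate, smul_eq_mul] at hsign
  rcases Nat.even_or_odd (k + 1) with ⟨r, hr⟩ | hodd
  · exact ⟨r, by omega⟩
  · exfalso
    have : Odd ((k + 1) * 2 + (k + 1)) := by
      rw [show (k + 1) * 2 + (k + 1) = (k + 1) * 3 by ring]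
      exact hodd.mul ⟨1, rfl⟩
    rw [this.neg_one_pow] at hsign
    exact absurd hsign (by decide)

/-- Value of a character of a perfect group at an involution. -/
theorem exists_invol_value {G : Type*} [Group G] [Finite G] (hperf : commutator G = ⊤)
    {χ : G → ℂ} (hχ : Cfsg.IsCharacter G χ) {d : ℕ} (hd : χ 1 = d) {w : G} (hw : orderOf w = 2) :
    ∃ a : ℤ, χ w = a ∧ (4 : ℤ) ∣ (d : ℤ) - a := by
  classical
  obtain ⟨n, ρ, rfl⟩ := hχ
  obtain ⟨b, μ, hb, hμ, -, hpow⟩ := exists_rep_eigenbasis ρ w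
  rw [hw] at hμ
  have hdet : ∏ i, μ i = 1 := by
    rw [← ClassAlgebraMod.det_eq_one_of_perfect hperf ρ w, ← LinearMap.det_toMatrix b]
    have e : LinearMap.toMatrix b b (ρ w) = Matrix.diagonal μ := by
      ext i j
      rw [LinearMap.toMatrix_apply, hb j, map_smul, b.repr_self, Finsupp.smul_single, smul_eq_mul,
        mul_one, Finsupp.single_apply, Matrix.diagonal_apply]
      rcases eq_or_ne i j with rfl | hne
      · simp
      · simp [hne, hne.symm]
    rw [e, Matrix.det_diagonal]
  have hval : ∀ i, μ i = if μ i = -1 then (-1 : ℂ) else 1 := fun i => by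
    split_ifs with h
    · exact h
    · exact ((sq_eq_one_iff.1 (hμ i)).resolve_right h)
  set A := Finset.univ.filter fun i => μ i = -1 with hA
  have h1 : ρ.character w = (Fintype.card (Fin (Module.finrank ℂ (Fin n → ℂ))) : ℂ) - 2 * A.card := by
    have h := hpow 1
    rw [pow_one] at h
    rw [h, Finset.sum_congr rfl (g := fun i => (1 : ℂ) - 2 * if μ i = -1 then 1 else 0) fun i _ => by
      rcases sq_eq_one_iff.1 (hμ i) with e | e <;> norm_num [e],
      Finset.sum_sub_distrib, ← Finset.mul_sum, Finset.sum_boole]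
    simp [hA]
  have heven : Even A.card := by
    rw [Finset.prod_congr rfl fun i _ => hval i, Finset.prod_ite, Finset.prod_const,
      Finset.prod_const_one, mul_one, ← hA] at hdet
    exact (neg_one_pow_eq_one_iff_even (by norm_num)).1 hdet
  obtain ⟨r, hr⟩ := heven
  rw [Representation.char_one] at hd
  have hd' : Module.finrank ℂ (Fin n → ℂ) = d := by exact_mod_cast hd
  refine ⟨(d : ℤ) - 4 * r, ?_, ⟨r, by ring⟩⟩
  rw [h1, hr, Fintype.card_fin, hd']
  push_cast
  ring

theorem arith : ∀ a ∈ ({0, 96, -16, -144} : Finset ℤ), ∀ b ∈ ({0, 96, -16, -144} : Finset ℤ),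
    ∀ c ∈ ({0, 96, -16, -144} : Finset ℤ), ∀ e ∈ ({0, 96, -16, -144} : Finset ℤ),
      a + b + c + e ≠ 112 := by
  decide

/-- The main step. -/
theorem false_of_four {G : Type*} [Group G] [Finite G] [IsSimpleGroup G]
    (hG : ¬ IsMulCommutative G) (hn : Nat.card G = 720) [Fact (Nat.Prime 5)] (P : Sylow 5 G)
    (hP : Nat.card ↥(P : Subgroup G) = 5)
    (hN : Nat.card ↥(Subgroup.normalizer ((P : Subgroup G) : Set G)) = 20)
    (hC : Nat.card ↥(Subgroup.centralizer ((P : Subgroup G) : Set G)) = 5) : False := by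
  classical
  have := Fintype.ofFinite G
  set N := Subgroup.normalizer ((P : Subgroup G) : Set G) with hNdef
  obtain ⟨x, hxP, hx⟩ : ∃ x ∈ (P : Subgroup G), orderOf x = 5 := by
    obtain ⟨g, hg⟩ := exists_prime_orderOf_dvd_card' 5 (G := ↥(P : Subgroup G)) (dvd_of_eq hP.symm)
    exact ⟨g, g.2, by rw [Subgroup.orderOf_coe, hg]⟩
  have hzP : Subgroup.zpowers x = (P : Subgroup G) :=
    Subgroup.eq_of_le_of_card_ge (Subgroup.zpowers_le.2 hxP) (by rw [hP, Nat.card_zpowers, hx])
  have hCx : Subgroup.centralizer ({x} : Set G) = Subgroup.zpowers x := by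
    have hle : Subgroup.zpowers x ≤ Subgroup.centralizer ({x} : Set G) :=
      Subgroup.zpowers_le.2 (by simp [Subgroup.mem_centralizer_singleton_iff])
    refine (Subgroup.eq_of_le_of_card_ge hle ?_).symm
    rw [Nat.card_zpowers, hx, ← Subgroup.centralizer_closure, ← Subgroup.zpowers_eq_closure,
      hzP, hC]
  have hNi : N.index = 36 := by
    have h := N.card_mul_index
    rw [hN, hn] at h
    omega
  have hfus : ∀ a : ZMod 5, a ≠ 0 → IsConj x (pw x a) := by
    intro a ha
    have h1 := card_fus_mul P hP hxP hx hCx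
    rw [show Nat.card (Sylow 5 G) = N.index from P.card_eq_index_normalizer, hNi, hn] at h1
    have h2 : fus x = (Finset.univ : Finset (ZMod 5)).erase 0 :=
      Finset.eq_of_subset_of_card_le
        (fun t ht => Finset.mem_erase.2 ⟨fus_ne_zero hx ht, Finset.mem_univ _⟩)
        (by rw [Finset.card_erase_of_mem (Finset.mem_univ _), Finset.card_univ, ZMod.card]; omega)
    exact mem_fus.1 (h2 ▸ Finset.mem_erase.2 ⟨ha, Finset.mem_univ _⟩)
  -- an involution of the normalizer
  obtain ⟨⟨w, hwN⟩, hw⟩ := exists_prime_orderOf_dvd_card' 2 (G := ↥N) (by rw [hN]; norm_num)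
  rw [Subgroup.orderOf_mk] at hw
  have hx5 : x ^ 5 = 1 := by rw [← hx]; exact pow_orderOf_eq_one x
  have hinv : ∀ z ∈ N, orderOf z = 2 → z * x * z⁻¹ = x⁻¹ := by
    intro z hzN hz
    have hz2 : z * z = 1 := by rw [← sq, ← hz]; exact pow_orderOf_eq_one z
    have hzi : z⁻¹ = z := inv_eq_of_mul_eq_one_right hz2
    have hy : z * x * z⁻¹ ∈ (P : Subgroup G) := (Subgroup.mem_normalizer_iff.1 hzN x).1 hxP
    rw [← hzP] at hy
    obtain ⟨i, hi⟩ := Subgroup.mem_zpowers_iff.1 hy
    by_contra hne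
    set m := x * (z * x * z⁻¹) with hm
    have hmz : z * m * z⁻¹ = m := by
      have e1 : z * m * z⁻¹ = (z * x * z⁻¹) * x := by
        rw [hm]
        calc z * (x * (z * x * z⁻¹)) * z⁻¹ = (z * x * z⁻¹) * ((z * z) * x * (z * z)⁻¹) := by group
          _ = (z * x * z⁻¹) * x := by rw [hz2]; group
      rw [e1, hm, ← hi]
      exact ((Commute.refl x).zpow_left i).eq
    have hmne : m ≠ 1 := fun h => hne (eq_inv_of_mul_eq_one_right h)
    have hmP : m ∈ Subgroup.zpowers x := mul_mem (Subgroup.mem_zpowers x) (hi ▸ zpow_mem (Subgroup.mem_zpowers x) i)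
    have hm5 : Subgroup.zpowers m = Subgroup.zpowers x := by
      refine Subgroup.eq_of_le_of_card_ge (Subgroup.zpowers_le.2 hmP) ?_
      have := Subgroup.card_dvd_of_le (Subgroup.zpowers_le.2 hmP)
      rw [Nat.card_zpowers x, hx, Nat.card_zpowers] at this
      rw [Nat.card_zpowers, Nat.card_zpowers, hx]
      rcases (Nat.dvd_prime (Fact.out : Nat.Prime 5)).1 this with h | h
      · exact absurd (orderOf_eq_one_iff.1 h) hmne
      · omega
    have hzC : z ∈ Subgroup.centralizer ({x} : Set G) := by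
      rw [← Subgroup.centralizer_closure, ← Subgroup.zpowers_eq_closure, ← hm5,
        Subgroup.zpowers_eq_closure, Subgroup.centralizer_closure,
        Subgroup.mem_centralizer_singleton_iff]
      exact mul_inv_eq_iff_eq_mul.1 hmz
    have := Subgroup.orderOf_dvd_natCard _ hzC
    rw [hCx, Nat.card_zpowers, hx, hz] at this
    omega
  have hmemN : ∀ z : G, z * x * z⁻¹ = x⁻¹ → z * z = 1 → z ∈ N := by
    intro z hz hz2
    rw [hNdef, Subgroup.mem_normalizer_iff]
    have hmap : ∀ h ∈ (P : Subgroup G), z * h * z⁻¹ ∈ (P : Subgroup G) := by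
      intro h hh
      rw [← hzP] at hh ⊢
      obtain ⟨i, rfl⟩ := Subgroup.mem_zpowers_iff.1 hh
      rw [← conj_zpow, hz]
      exact zpow_mem (inv_mem (Subgroup.mem_zpowers x)) i
    refine fun h => ⟨hmap h, fun hh => ?_⟩
    have := hmap _ hh
    have hzi : z⁻¹ = z := inv_eq_of_mul_eq_one_right hz2
    rwa [show z * (z * h * z⁻¹) * z⁻¹ = (z * z) * h * (z * z)⁻¹ by group, hz2, one_mul, inv_one,
      mul_one] at this
  have hcl : ∀ z ∈ N, orderOf z = 2 → ∃ q ∈ Subgroup.zpowers x, z = q * w ∧ IsConj w z := by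
    intro z hzN hz
    have hw2 : w * w = 1 := by rw [← sq, ← hw]; exact pow_orderOf_eq_one w
    have hq : z * w ∈ Subgroup.centralizer ({x} : Set G) := by
      rw [Subgroup.mem_centralizer_singleton_iff]
      have h1 := hinv z hzN hz
      have h2 := hinv w hwN hw
      have : (z * w) * x * (z * w)⁻¹ = x := by
        rw [show (z * w) * x * (z * w)⁻¹ = z * (w * x * w⁻¹) * z⁻¹ by group, h2,
          show z * x⁻¹ * z⁻¹ = (z * x * z⁻¹)⁻¹ by group, h1, inv_inv]
      exact mul_inv_eq_iff_eq_mul.1 this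
    rw [hCx] at hq
    have he : z = (z * w) * w := by rw [mul_assoc, hw2, mul_one]
    refine ⟨z * w, hq, he, ?_⟩
    obtain ⟨i, hi⟩ := Subgroup.mem_zpowers_iff.1 hq
    rw [he, ← hi]
    refine isConj_iff.2 ⟨x ^ (3 * i), ?_⟩
    have hwx : w * (x ^ (3 * i))⁻¹ = x ^ (3 * i) * w := by
      rw [← mul_inv_eq_iff_eq_mul, ← conj_inv, ← conj_zpow, hinv w hwN hw, inv_zpow, inv_inv]
    rw [mul_assoc, hwx, ← mul_assoc, ← zpow_add]
    congr 1
    rw [show 3 * i + 3 * i = i + 5 * i by ring, zpow_add, zpow_mul,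
      show x ^ (5 : ℤ) = 1 from (zpow_natCast x 5).trans hx5, one_zpow, mul_one]
  have hconjxw : ∀ q ∈ Subgroup.zpowers x, orderOf (q * w) = 2 := by
    intro q hq
    obtain ⟨i, rfl⟩ := Subgroup.mem_zpowers_iff.1 hq
    refine orderOf_eq_prime ?_ fun h => ?_
    · have hw2 : w * w = 1 := by rw [← sq, ← hw]; exact pow_orderOf_eq_one w
      have hwi : w⁻¹ = w := inv_eq_of_mul_eq_one_right hw2
      rw [sq, show x ^ i * w * (x ^ i * w) = x ^ i * (w * x ^ i * w⁻¹) * (w * w) by group, hw2,
        mul_one, ← conj_zpow, hinv w hwN hw, inv_zpow, mul_inv_cancel]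
    · have hwP : w ∈ Subgroup.zpowers x := by
        rw [show w = (x ^ i)⁻¹ from eq_inv_of_mul_eq_one_right h]
        exact inv_mem (zpow_mem (Subgroup.mem_zpowers x) i)
      have := Subgroup.orderOf_dvd_natCard _ hwP
      rw [hw, Nat.card_zpowers, hx] at this
      omega
  -- five conjugates of `w` in `N`
  have hfive : Nat.card {g : G // IsConj w g ∧ g ∈ N} = 5 := by
    rw [← hx, ← Nat.card_zpowers x]
    refine (Nat.card_congr (Equiv.ofBijective
      (fun q : ↥(Subgroup.zpowers x) => (⟨(q : G) * w, ?_⟩ : {g : G // IsConj w g ∧ g ∈ N}))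
      ⟨fun a b h => ?_, fun g => ?_⟩)).symm
    · have hm : (q : G) * w ∈ N := mul_mem (Subgroup.le_normalizer (hzP ▸ q.2)) hwN
      obtain ⟨-, -, -, h⟩ := hcl _ hm (hconjxw _ q.2)
      exact ⟨h, hm⟩
    · exact Subtype.ext (mul_right_cancel (congrArg Subtype.val h))
    · obtain ⟨g, hg, hgN⟩ := g
      obtain ⟨q, hq, rfl, -⟩ := hcl g hgN (by
        obtain ⟨c, rfl⟩ := isConj_iff.1 hg
        rw [← MulAut.conj_apply, MulEquiv.orderOf_eq, hw])
      exact ⟨⟨q, hq⟩, rfl⟩
  set c := Nat.card ↥(Subgroup.centralizer ({w} : Set G)) with hcdef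
  set f := Nat.card (MulAction.fixedBy (G ⧸ N) w) with hfdef
  have hfc : 4 * f = c := by
    have h1 := S1019.result N w hwN
    rw [hfive, hNi, ← hfdef] at h1
    have h2 := card_conj_mul_card_centralizer w
    rw [hn, ← hcdef] at h2
    have h3 : f * 720 = 180 * c := by rw [← h2, ← mul_assoc, h1]
    omega
  have h8 : 8 ∣ c := SimpleCentralizerKill.eight_dvd_card_centralizer hG (by rw [hn]; norm_num) hw
  have hf8 : f ≤ 8 := by
    have hnC : w ∉ Subgroup.centralizer ((P : Subgroup G) : Set G) := fun h => by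
      have := Subgroup.orderOf_dvd_natCard _ h
      rw [hw, hC] at this
      omega
    have h := (S1018.result 5 P hP).2 w hwN hnC
    refine le_trans h (le_of_eq ?_)
    have := Fintype.ofFinite (MulAction.orbitRel.Quotient ↥(P : Subgroup G) (G ⧸ N))
    have := Fintype.ofFinite (G ⧸ N)
    have hb := MulAction.sum_card_fixedBy_eq_card_orbits_mul_card_group ↥(P : Subgroup G) (G ⧸ N)
    rw [← Finset.add_sum_erase _ _ (Finset.mem_univ (1 : ↥(P : Subgroup G))),
      Finset.sum_congr rfl (g := fun _ => 1) (fun a ha => by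
        have ha1 : a ≠ 1 := Finset.ne_of_mem_erase ha
        have hoa : orderOf (a : G) = 5 := by
          have hd := Subgroup.orderOf_dvd_natCard _ a.2
          rw [hP] at hd
          exact ((Nat.dvd_prime (Fact.out : Nat.Prime 5)).1 hd).resolve_left
            fun h => ha1 (Subtype.ext (orderOf_eq_one_iff.1 h))
        have h1 := (S1018.result 5 P hP).1 (a : G) hoa
        rw [← Nat.card_eq_fintype_card, ← h1]
        rfl), Finset.sum_const, Finset.card_erase_of_mem (Finset.mem_univ _), Finset.card_univ,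
      ← Nat.card_eq_fintype_card (α := ↥(P : Subgroup G)), hP,
      ← Nat.card_eq_fintype_card (α := Quotient _)] at hb
    have h36 : Fintype.card ↥(MulAction.fixedBy (G ⧸ N) (1 : ↥(P : Subgroup G))) = 36 := by
      rw [← Nat.card_eq_fintype_card, MulAction.fixedBy_one_eq_univ, Nat.card_univ,
        ← Subgroup.index, hNi]
    rw [h36, smul_eq_mul] at hb
    change Nat.card (Quotient (MulAction.orbitRel ↥(P : Subgroup G) (G ⧸ N))) = 8
    omega
  have hfpar : 4 ∣ 36 - f := by
    have := Fintype.ofFinite (G ⧸ N)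
    have h := four_dvd_moved (α := G ⧸ N) hG (w := w) (by rw [← hw]; exact pow_orderOf_eq_one w)
    rwa [← Subgroup.index, hNi] at h
  have hc16 : c = 16 := by
    have hd : c ∣ 720 := hn ▸ Subgroup.card_subgroup_dvd_card _
    have hc0 : 0 < c := Nat.card_pos
    have : f = 4 ∨ f = 8 := by omega
    rcases this with h | h
    · omega
    · exfalso; rw [← hfc, h] at hd; norm_num at hd
  have hf4 : f = 4 := by omega
  -- the number of conjugators
  have hcount : Nat.card {y : G // IsConj w (x * (y * w * y⁻¹))} = 80 := by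
    have hA : Nat.card {g : G // g⁻¹ * w * g ∈ N} = Nat.card N * f := by
      rw [hfdef, ← Nat.card_prod]
      refine Nat.card_congr ((Equiv.subtypeEquivRight ?_).trans
        (QuotientGroup.preimageMkEquivSubgroupProdSet N (MulAction.fixedBy (G ⧸ N) w)))
      intro g
      show g⁻¹ * w * g ∈ N ↔ w • (g : G ⧸ N) = (g : G ⧸ N)
      rw [MulAction.Quotient.smul_coe, eq_comm, QuotientGroup.eq, smul_eq_mul, mul_assoc]
    rw [hN, hf4] at hA
    rw [← show 20 * 4 = 80 from rfl, ← hA]
    refine Nat.card_congr (Equiv.subtypeEquiv (Equiv.inv G) fun y => ?_)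
    simp only [Equiv.inv_apply, inv_inv]
    set z := y * w * y⁻¹ with hz
    have hzo : orderOf z = 2 := by rw [hz, ← MulAut.conj_apply, MulEquiv.orderOf_eq, hw]
    have hz2 : z * z = 1 := by rw [← sq, ← hzo]; exact pow_orderOf_eq_one z
    have hzi : z⁻¹ = z := inv_eq_of_mul_eq_one_right hz2
    constructor
    · intro h
      obtain ⟨e, he⟩ := isConj_iff.1 h
      have hxz : (x * z) * (x * z) = 1 := by
        have : orderOf (x * z) = 2 := by rw [← he, ← MulAut.conj_apply, MulEquiv.orderOf_eq, hw]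
        rw [← sq, ← this]; exact pow_orderOf_eq_one _
      refine hmemN z ?_ hz2
      rw [hzi]
      exact eq_inv_of_mul_eq_one_right (by rw [← hxz]; group)
    · intro hzN
      have h1 := hinv z hzN hzo
      obtain ⟨q, hq, hqe, -⟩ := hcl z hzN hzo
      have hmm : x * z ∈ N := mul_mem (Subgroup.le_normalizer hxP) hzN
      have ho : orderOf (x * z) = 2 := by
        rw [hqe, ← mul_assoc]
        exact hconjxw _ (mul_mem (Subgroup.mem_zpowers x) hq)
      obtain ⟨-, -, -, h⟩ := hcl _ hmm ho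
      exact h
  -- characters
  have hperf := commutator_eq_top hG
  choose D hD0 hD1 hDdvd using fun χ : Cfsg.IrrCharacter G =>
    CharBasicInt.exists_apply_one_dvd_card χ.2
  choose A hA hA4 using fun χ : Cfsg.IrrCharacter G =>
    exists_invol_value hperf (isCharacter_of_isIrrCharacter χ.2) (hD1 χ) hw
  have hdv : ∀ (χ : Cfsg.IrrCharacter G) (j : ZMod 5), j ≠ 0 →
      dv x (χ : G → ℂ) j = (χ : G → ℂ) x := by
    intro χ j hj
    have hterm : ∀ a : ZMod 5, (χ : G → ℂ) (pw x a) * (1 - sg (-j * a)) =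
        (χ : G → ℂ) x * (1 - sg (-j * a)) := by
      intro a
      rcases eq_or_ne a 0 with rfl | ha
      · simp
      · rw [apply_eq_of_isConj (isClassFunction_of_isCharacter (isCharacter_of_isIrrCharacter χ.2))
          (hfus a ha)]
    rw [dv_eq, Finset.sum_congr rfl fun a _ => hterm a, ← Finset.mul_sum, Finset.sum_sub_distrib,
      sum_sg, if_neg (neg_ne_zero.2 hj), Finset.sum_const, Finset.card_univ, ZMod.card]
    push_cast
    simp [mul_comm]
  have hΔex : ∀ χ : Cfsg.IrrCharacter G, ∃ Δ : ℤ, (χ : G → ℂ) x = Δ ∧ (5 : ℤ) ∣ (D χ : ℤ) - Δ := by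
    intro χ
    obtain ⟨a, ha⟩ := exists_mult hx (isCharacter_of_isIrrCharacter χ.2) (0 : ZMod 5)
    obtain ⟨b, hb⟩ := exists_mult hx (isCharacter_of_isIrrCharacter χ.2) (1 : ZMod 5)
    have hv := hdv χ 1 one_ne_zero
    rw [dv, ha, hb] at hv
    refine ⟨(a : ℤ) - b, by rw [← hv]; push_cast; ring, ?_⟩
    have h := sum_mult (x := x) (p := 5) (χ : G → ℂ)
    rw [hD1 χ, ← Finset.add_sum_erase _ _ (Finset.mem_univ (0 : ZMod 5)),
      Finset.sum_congr rfl (g := fun _ => (a : ℂ) - (χ : G → ℂ) x) (fun j hj => by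
        rw [← hdv χ j (Finset.ne_of_mem_erase hj), dv, ha, sub_sub_cancel]),
      Finset.sum_const, Finset.card_erase_of_mem (Finset.mem_univ _), Finset.card_univ,
      ZMod.card, ha, ← hv] at h
    refine ⟨(b : ℤ), ?_⟩
    have h' : (a : ℤ) + 4 * (a - (a - b)) = D χ := by
      have : ((a : ℂ) + 4 * ((a : ℂ) - ((a : ℂ) - b))) = (D χ : ℂ) := by
        rw [← h]; simp [nsmul_eq_mul]
      exact_mod_cast this
    omega
  choose Δ hΔ hΔ5 using hΔex
  have hxw : ¬ IsConj x w := fun h => by
    obtain ⟨e, he⟩ := isConj_iff.1 h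
    rw [← he, ← MulAut.conj_apply, MulEquiv.orderOf_eq, hx] at hw
    omega
  have hx1 : ¬ IsConj x 1 := fun h => by
    rw [isConj_one_left] at h
    rw [h, orderOf_one] at hx
    omega
  have oxx : ∑ χ, Δ χ * Δ χ = 5 := by
    have := (sum_irr_mul_conj x x).trans (if_pos (IsConj.refl x))
    rw [hCx, Nat.card_zpowers, hx] at this
    simp only [hΔ, map_intCast] at this
    exact_mod_cast this
  have oww : ∑ χ, A χ * A χ = 16 := by
    have := (sum_irr_mul_conj w w).trans (if_pos (IsConj.refl w))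
    rw [← hcdef, hc16] at this
    simp only [hA, map_intCast] at this
    exact_mod_cast this
  have ox1 : ∑ χ, Δ χ * (D χ : ℤ) = 0 := by
    have := (sum_irr_mul_conj x 1).trans (if_neg hx1)
    simp only [hΔ, hD1, map_natCast] at this
    exact_mod_cast this
  have htriple : ∑ χ, ((Δ χ * A χ * A χ : ℤ) : ℂ) / D χ = 16 / 9 := by
    have := ClassAlgebraVal.sum_irr_triple x w w
    rw [← hcdef, hc16, hcount, hn] at this
    simp only [hA, hΔ, hD1, map_intCast] at this
    simp only [Int.cast_mul]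
    rw [this]; norm_num
  set τ := CharBasicDecomp.trivIrr G with hτ
  have hτD : D τ = 1 := by
    have h : (1 : ℂ) = (D τ : ℂ) := hD1 τ
    exact_mod_cast h.symm
  have hτA : A τ = 1 := by
    have h : (1 : ℂ) = (A τ : ℂ) := hA τ
    exact_mod_cast h.symm
  have hτΔ : Δ τ = 1 := by
    have h : (1 : ℂ) = (Δ τ : ℂ) := hΔ τ
    exact_mod_cast h.symm
  set s := Finset.univ.filter fun χ => χ ≠ τ ∧ Δ χ ≠ 0 with hs
  have hsplit : ∀ {R : Type} [AddCommMonoid R] (F : Cfsg.IrrCharacter G → R),
      (∀ χ, Δ χ = 0 → F χ = 0) → ∑ χ, F χ = F τ + ∑ χ ∈ s, F χ := by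
    intro R _ F hF
    rw [← Finset.sum_insert (by simp [hs] : τ ∉ s)]
    refine (Finset.sum_subset (Finset.subset_univ _) fun χ _ hχ => hF χ ?_).symm
    simp only [hs, Finset.mem_insert, Finset.mem_filter, Finset.mem_univ, true_and, not_or,
      not_and, not_not] at hχ
    exact hχ.2 hχ.1
  rw [hsplit (fun χ => Δ χ * Δ χ) fun χ e => by simp [e]] at oxx
  rw [hsplit (fun χ => Δ χ * (D χ : ℤ)) fun χ e => by simp [e]] at ox1
  rw [hsplit (fun χ => ((Δ χ * A χ * A χ : ℤ) : ℂ) / D χ) fun χ e => by simp [e]] at htriple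
  simp only [hτΔ, hτD, hτA, Nat.cast_one, Int.cast_one, mul_one, div_one] at oxx ox1 htriple
  have hΔ1 : ∀ χ ∈ s, Δ χ = 1 ∨ Δ χ = -1 := by
    intro χ hχ
    have h1 := Finset.single_le_sum (f := fun χ => Δ χ * Δ χ) (fun i _ => mul_self_nonneg _) hχ
    have hub : Δ χ ≤ 2 := by nlinarith
    have hlb : -2 ≤ Δ χ := by nlinarith
    have h0 := (Finset.mem_filter.1 hχ).2.2
    by_contra hne
    have h4 : Δ χ * Δ χ = 4 := by
      rcases (show Δ χ = 2 ∨ Δ χ = -2 by omega) with e | e <;> rw [e] <;> norm_num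
    have hrest : ∀ ψ ∈ s.erase χ, Δ ψ * (D ψ : ℤ) = 0 := fun ψ hψ => by
      rw [← Finset.add_sum_erase _ _ hχ, h4] at oxx
      have := (Finset.sum_eq_zero_iff_of_nonneg fun i _ => mul_self_nonneg (Δ i)).1
        (by omega : ∑ i ∈ s.erase χ, Δ i * Δ i = 0) ψ hψ
      rw [mul_self_eq_zero.1 this, zero_mul]
    rw [← Finset.add_sum_erase _ _ hχ, Finset.sum_eq_zero hrest, add_zero] at ox1
    rcases (show Δ χ = 2 ∨ Δ χ = -2 by omega) with e | e <;> rw [e] at ox1 <;> omega
  have hcard : s.card = 4 := by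
    have : ∑ χ ∈ s, Δ χ * Δ χ = (s.card : ℤ) := by
      rw [Finset.sum_congr rfl fun χ hχ => show Δ χ * Δ χ = 1 by
        rcases hΔ1 χ hχ with e | e <;> simp [e]]
      simp
    omega
  have hT : ∀ χ ∈ s, ∃ T ∈ ({0, 96, -16, -144} : Finset ℤ),
      ((Δ χ * A χ * A χ : ℤ) : ℂ) / D χ = (T : ℂ) / 144 := by
    intro χ hχ
    have hne : χ ≠ τ := (Finset.mem_filter.1 hχ).2.1
    have hD2 : D χ ≤ 26 := by
      have h := sum_sq_apply_one (G := G)
      simp only [hD1] at h
      have h' : ∑ χ : Cfsg.IrrCharacter G, D χ ^ 2 = 720 := by rw [← hn]; exact_mod_cast h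
      have h2 := Finset.single_le_sum (f := fun χ => D χ ^ 2) (fun i _ => Nat.zero_le _)
        (Finset.mem_univ χ)
      rw [h'] at h2
      nlinarith
    have hD1' : D χ ≠ 1 := by
      intro h
      have h2 := CharBasicLinear.card_linear (G := G)
      rw [hperf, Subgroup.index_top, Nat.card_eq_one_iff_unique] at h2
      exact hne (congrArg Subtype.val
        (h2.1.elim ⟨χ, by rw [hD1 χ, h, Nat.cast_one]⟩ ⟨τ, rfl⟩))
    have hA2 : -3 ≤ A χ ∧ A χ ≤ 3 := by
      have hle := Finset.sum_le_sum_of_subset_of_nonneg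
        (Finset.subset_univ ({τ, χ} : Finset _)) (f := fun χ => A χ * A χ)
        fun i _ _ => mul_self_nonneg _
      rw [oww, Finset.sum_pair (Ne.symm hne), hτA] at hle
      exact ⟨by nlinarith, by nlinarith⟩
    obtain ⟨hl, hu⟩ := hA2
    obtain ⟨k4, hk4⟩ := hA4 χ
    obtain ⟨k5, hk5⟩ := hΔ5 χ
    have hdd : D χ ∣ 720 := hn ▸ hDdvd χ
    have hcases : D χ ∈ ({4, 6, 9, 16, 24} : Finset ℕ) := by
      have h0 := hD0 χ
      generalize D χ = d at *
      rcases hΔ1 χ hχ with e | e <;> rw [e] at hk5 <;>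
        (interval_cases d <;> first | omega | (norm_num at hdd ⊢))
    simp only [Finset.mem_insert, Finset.mem_singleton] at hcases
    rcases hΔ1 χ hχ with e | e <;> rcases hcases with d | d | d | d | d <;>
      rw [e, d] at hk5 <;> rw [d] at hk4 <;> first | omega | skip
    all_goals rw [e, d]
    all_goals interval_cases A χ <;> first | omega | skip
    all_goals norm_num
  choose! T hTm hTe using hT
  rw [Finset.sum_congr rfl hTe, ← Finset.sum_div] at htriple
  have hsumT : ∑ χ ∈ s, T χ = 112 := by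
    have h : ((∑ χ ∈ s, T χ : ℤ) : ℂ) = ((112 : ℤ) : ℂ) := by
      push_cast
      field_simp at htriple
      linear_combination (1/9 : ℂ) * htriple
    exact_mod_cast h
  obtain ⟨q1, hq1, hq1'⟩ : ∃ a ∈ s, (s.erase a).card = 3 := by
    obtain ⟨a, ha⟩ := Finset.card_pos.1 (by omega : 0 < s.card)
    exact ⟨a, ha, by rw [Finset.card_erase_of_mem ha, hcard]⟩
  obtain ⟨a, b, e, hab, hae, hbe, hthree⟩ := Finset.card_eq_three.1 hq1'
  rw [← Finset.add_sum_erase _ _ hq1, hthree, Finset.sum_insert (by simp [hab, hae]),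
    Finset.sum_pair hbe] at hsumT
  have hmem : ∀ y ∈ ({a, b, e} : Finset _), T y ∈ ({0, 96, -16, -144} : Finset ℤ) := fun y hy =>
    hTm y (Finset.mem_of_mem_erase (hthree ▸ hy))
  exact arith _ (hTm q1 hq1) _ (hmem a (by simp)) _ (hmem b (by simp)) _ (hmem e (by simp))
    (by linarith)

end Cfsg.Agent.Simple720
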