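import Mathlib

/-!
Frobenius' theorem on the number of solutions of `x ^ m = 1` and the counting lemma behind it.
-/

set_option autoImplicit false

namespace Cfsg.Agent.FrobeniusCount72

universe u

/-- The number of elements of order `d` is a multiple of `φ d`. -/
theorem totient_dvd_card_orderOf {G : Type u} [Group G] [Finite G] (d : ℕ) :
    Nat.totient d ∣ Nat.card {g : G // orderOf g = d} := by
  classical
  haveI := Fintype.ofFinite G
  let S : Finset G := Finset.univ.filter fun g => orderOf g = d
  rw [Nat.card_eq_fintype_card, Fintype.card_subtype,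
    Finset.card_eq_sum_card_fiberwise (s := S) (t := Finset.univ) (f := fun g => Subgroup.zpowers g)
      (fun g _ => Finset.mem_univ _)]
  refine Finset.dvd_sum fun H _ => ?_
  rcases (S.filter fun g => Subgroup.zpowers g = H).eq_empty_or_nonempty with he | ⟨x, hx⟩
  · rw [he]; exact dvd_zero _
  simp only [S, Finset.mem_filter, Finset.mem_univ, true_and] at hx
  obtain ⟨hxd, rfl⟩ := hx
  have hcard : Fintype.card (Subgroup.zpowers x) = d := by rw [Fintype.card_zpowers, hxd]
  have h : (Finset.univ.filter fun y : Subgroup.zpowers x => orderOf y = d).card = Nat.totient d :=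
    IsCyclic.card_orderOf_eq_totient (by rw [hcard])
  rw [← h]
  refine dvd_of_eq (Finset.card_bij (fun y _ => (y : G)) ?_ ?_ ?_)
  · intro y hy
    simp only [Finset.mem_filter, Finset.mem_univ, true_and] at hy
    simp only [S, Finset.mem_filter, Finset.mem_univ, true_and]
    refine ⟨by rw [Subgroup.orderOf_coe, hy], ?_⟩
    exact Subgroup.eq_of_le_of_card_ge (Subgroup.zpowers_le.2 y.2)
      (by rw [Nat.card_zpowers, Nat.card_zpowers, Subgroup.orderOf_coe, hy, hxd])
  · intro a _ b _ hab; exact Subtype.ext hab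
  · intro g hg
    simp only [S, Finset.mem_filter, Finset.mem_univ, true_and] at hg
    refine ⟨⟨g, hg.2 ▸ Subgroup.mem_zpowers g⟩, ?_, rfl⟩
    simp only [Finset.mem_filter, Finset.mem_univ, true_and, Subgroup.orderOf_mk, hg.1]

variable {G : Type u} [Group G] [Finite G] (p : ℕ)

/-- Exponent selecting the `p'`-part of an element. -/
noncomputable def primeToExp (G : Type u) [Group G] (p : ℕ) : ℕ :=
  if h : Nat.Coprime (ordProj[p] (Nat.card G)) (ordCompl[p] (Nat.card G)) then
    (Nat.chineseRemainder h 0 1).1 else 0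

/-- Exponent selecting the `p`-part of an element. -/
noncomputable def primeExp (G : Type u) [Group G] (p : ℕ) : ℕ :=
  if h : Nat.Coprime (ordProj[p] (Nat.card G)) (ordCompl[p] (Nat.card G)) then
    (Nat.chineseRemainder h 1 0).1 else 0

section parts

variable [hp : Fact p.Prime]

omit [Group G] [Finite G] in
theorem coprime_parts [Group G] [Finite G] :
    Nat.Coprime (ordProj[p] (Nat.card G)) (ordCompl[p] (Nat.card G)) :=
  Nat.Coprime.pow_left _ (Nat.coprime_ordCompl hp.out Nat.card_pos.ne')

theorem primeToExp_spec :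
    primeToExp G p ≡ 0 [MOD ordProj[p] (Nat.card G)] ∧
      primeToExp G p ≡ 1 [MOD ordCompl[p] (Nat.card G)] := by
  rw [primeToExp, dif_pos (coprime_parts (G := G) p)]
  exact (Nat.chineseRemainder _ _ _).2

theorem primeExp_spec :
    primeExp G p ≡ 1 [MOD ordProj[p] (Nat.card G)] ∧
      primeExp G p ≡ 0 [MOD ordCompl[p] (Nat.card G)] := by
  rw [primeExp, dif_pos (coprime_parts (G := G) p)]
  exact (Nat.chineseRemainder _ _ _).2

theorem pow_eq_of_modEq {g : G} {n a b : ℕ} (hg : g ^ n = 1) (h : a ≡ b [MOD n]) : g ^ a = g ^ b :=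
  pow_eq_pow_iff_modEq.2 (h.of_dvd (orderOf_dvd_of_pow_eq_one hg))

theorem primeTo_pow (g : G) : (g ^ primeToExp G p) ^ ordCompl[p] (Nat.card G) = 1 := by
  obtain ⟨c, hc⟩ := Nat.modEq_zero_iff_dvd.1 (primeToExp_spec (G := G) p).1
  rw [← pow_mul, hc, mul_assoc, mul_comm c, ← mul_assoc, Nat.ordProj_mul_ordCompl_eq_self, pow_mul,
    pow_card_eq_one', one_pow]

theorem prime_pow (g : G) : (g ^ primeExp G p) ^ ordProj[p] (Nat.card G) = 1 := by
  obtain ⟨c, hc⟩ := Nat.modEq_zero_iff_dvd.1 (primeExp_spec (G := G) p).2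
  rw [← pow_mul, hc, mul_assoc, mul_comm c, ← mul_assoc, mul_comm (ordCompl[p] _) (ordProj[p] _),
    Nat.ordProj_mul_ordCompl_eq_self, pow_mul, pow_card_eq_one', one_pow]

theorem parts_mul (g : G) : g ^ primeExp G p * g ^ primeToExp G p = g := by
  rw [← pow_add]
  conv_rhs => rw [← pow_one g]
  refine pow_eq_of_modEq (n := Nat.card G) pow_card_eq_one' ?_
  rw [← Nat.ordProj_mul_ordCompl_eq_self (Nat.card G) p,
    ← Nat.modEq_and_modEq_iff_modEq_mul (coprime_parts (G := G) p)]
  exact ⟨by simpa using (primeExp_spec (G := G) p).1.add (primeToExp_spec (G := G) p).1,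
    by simpa using (primeExp_spec (G := G) p).2.add (primeToExp_spec (G := G) p).2⟩

theorem pow_primeTo_of_pprime {v : G} (hv : v ^ ordCompl[p] (Nat.card G) = 1) :
    v ^ primeToExp G p = v ∧ v ^ primeExp G p = 1 :=
  ⟨by conv_rhs => rw [← pow_one v]
      exact pow_eq_of_modEq hv (primeToExp_spec (G := G) p).2,
   by rw [← pow_zero v]; exact pow_eq_of_modEq hv (primeExp_spec (G := G) p).2⟩

theorem pow_prime_of_ppow {u : G} (hu : u ^ ordProj[p] (Nat.card G) = 1) :
    u ^ primeToExp G p = 1 ∧ u ^ primeExp G p = u :=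
  ⟨by rw [← pow_zero u]; exact pow_eq_of_modEq hu (primeToExp_spec (G := G) p).1,
   by conv_rhs => rw [← pow_one u]
      exact pow_eq_of_modEq hu (primeExp_spec (G := G) p).1⟩

/-- The elements with prescribed `p'`-part and bounded `p`-part correspond to the bounded
`p`-elements of the centraliser. -/
theorem card_fibre (b : ℕ) (hb : b ≤ (Nat.card G).factorization p) (v : G)
    (hv : v ^ ordCompl[p] (Nat.card G) = 1) :
    Nat.card {g : G // (g ^ primeExp G p) ^ p ^ b = 1 ∧ g ^ primeToExp G p = v} =
      Nat.card {u : Subgroup.centralizer ({v} : Set G) // u ^ p ^ b = 1} := by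
  have hle : ∀ u : G, u ^ p ^ b = 1 → u ^ ordProj[p] (Nat.card G) = 1 := fun u hu => by
    obtain ⟨c, hc⟩ := pow_dvd_pow p hb
    rw [hc, pow_mul, hu, one_pow]
  refine Nat.card_congr
    { toFun := fun g => ⟨⟨g.1 ^ primeExp G p, Subgroup.mem_centralizer_singleton_iff.2 (by
        have h := (Commute.pow_pow_self g.1 (primeExp G p) (primeToExp G p)).eq
        rwa [g.2.2] at h)⟩, Subtype.ext g.2.1⟩
      invFun := fun u => ⟨(u.1 : G) * v, ?_, ?_⟩
      left_inv := fun g => Subtype.ext
        ((congrArg (fun x => g.1 ^ primeExp G p * x) g.2.2.symm).trans (parts_mul p g.1))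
      right_inv := fun u => Subtype.ext (Subtype.ext ?_) }
  · have hu : (u.1 : G) ^ p ^ b = 1 := congrArg Subtype.val u.2
    rw [Commute.mul_pow (Subgroup.mem_centralizer_singleton_iff.1 u.1.2),
      (pow_prime_of_ppow p (hle _ hu)).2, (pow_primeTo_of_pprime p hv).2, mul_one]
    exact hu
  · have hu : (u.1 : G) ^ p ^ b = 1 := congrArg Subtype.val u.2
    rw [Commute.mul_pow (Subgroup.mem_centralizer_singleton_iff.1 u.1.2),
      (pow_prime_of_ppow p (hle _ hu)).1, (pow_primeTo_of_pprime p hv).1, one_mul]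
  · show ((u.1 : G) * v) ^ primeExp G p = u.1
    have hu : (u.1 : G) ^ p ^ b = 1 := congrArg Subtype.val u.2
    rw [Commute.mul_pow (Subgroup.mem_centralizer_singleton_iff.1 u.1.2),
      (pow_prime_of_ppow p (hle _ hu)).2, (pow_primeTo_of_pprime p hv).2, mul_one]

end parts

/-- Sums of class functions are divisible by anything dividing each class size times value. -/
theorem dvd_sum_classes [Fintype G] (F : G → ℕ) (n : ℕ)
    (hF : ∀ a v : G, F (a * v * a⁻¹) = F v)
    (h : ∀ v, n ∣ (Subgroup.centralizer ({v} : Set G)).index * F v) : n ∣ ∑ v, F v := by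
  classical
  rw [← Finset.sum_fiberwise Finset.univ (fun v : G => ConjClasses.mk v) F]
  refine Finset.dvd_sum fun c _ => ?_
  obtain ⟨v, rfl⟩ := ConjClasses.mk_surjective c
  rw [Finset.sum_congr rfl (g := fun _ => F v) (fun w hw => ?_)]
  · rw [Finset.sum_const, smul_eq_mul]
    have hc : (Finset.univ.filter fun w => ConjClasses.mk w = ConjClasses.mk v).card =
        (Subgroup.centralizer ({v} : Set G)).index := by
      have hs : MulAction.orbit (ConjAct G) v = {g : G | IsConj v g} := by
        ext g; rw [ConjAct.mem_orbit_conjAct]; exact isConj_comm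
      calc (Finset.univ.filter fun w => ConjClasses.mk w = ConjClasses.mk v).card
          = (MulAction.orbit (ConjAct G) v).ncard := by
            rw [hs, ← Set.ncard_coe_finset]
            congr 1
            ext w
            simp only [Finset.coe_filter, Finset.mem_univ, true_and, Set.mem_setOf_eq,
              ConjClasses.mk_eq_mk_iff_isConj]
            exact isConj_comm
        _ = (MulAction.stabilizer (ConjAct G) v).index := (MulAction.index_stabilizer _ _).symm
        _ = _ := by rw [ConjAct.stabilizer_eq_centralizer]; rfl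
    rw [hc]
    exact h v
  · simp only [Finset.mem_filter, Finset.mem_univ, true_and] at hw
    obtain ⟨a, ha⟩ := isConj_iff.1 (ConjClasses.mk_eq_mk_iff_isConj.1 hw.symm)
    rw [← ha, hF]

section main

variable [hp : Fact p.Prime]

/-- Counting by `p'`-parts. -/
theorem card_eq_sum [Fintype G] (b : ℕ) (hb : b ≤ (Nat.card G).factorization p) (Q : G → Prop)
    [DecidablePred Q] (hQv : ∀ v, Q v → v ^ ordCompl[p] (Nat.card G) = 1) :
    Nat.card {g : G // (g ^ primeExp G p) ^ p ^ b = 1 ∧ Q (g ^ primeToExp G p)} =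
      ∑ v, if Q v then
        Nat.card {u : Subgroup.centralizer ({v} : Set G) // u ^ p ^ b = 1} else 0 := by
  classical
  rw [Nat.card_eq_fintype_card, Fintype.card_subtype,
    Finset.card_eq_sum_card_fiberwise (t := Finset.univ) (f := fun g : G => g ^ primeToExp G p)
      (fun g _ => Finset.mem_univ _)]
  refine Finset.sum_congr rfl fun v _ => ?_
  split_ifs with hv
  · rw [← card_fibre p b hb v (hQv v hv), Nat.card_eq_fintype_card, Fintype.card_subtype,
      Finset.filter_filter]
    congr 1
    ext g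
    simp only [Finset.mem_filter, Finset.mem_univ, true_and]
    constructor
    · rintro ⟨⟨h1, _⟩, h3⟩; exact ⟨h1, h3⟩
    · rintro ⟨h1, h3⟩; exact ⟨⟨h1, by rw [h3]; exact hv⟩, h3⟩
  · rw [Finset.card_eq_zero, Finset.filter_eq_empty_iff]
    intro g hg h
    simp only [Finset.mem_filter, Finset.mem_univ, true_and] at hg
    exact hv (h ▸ hg.2)

omit [Finite G] in
/-- Conjugation invariance of the centraliser counts. -/
theorem card_centralizer_count_conj (a v : G) (n : ℕ) :
    Nat.card {u : Subgroup.centralizer ({a * v * a⁻¹} : Set G) // u ^ n = 1} =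
      Nat.card {u : Subgroup.centralizer ({v} : Set G) // u ^ n = 1} := by
  refine Nat.card_congr
    { toFun := fun u => ⟨⟨a⁻¹ * u.1 * a, ?_⟩, ?_⟩
      invFun := fun u => ⟨⟨a * u.1 * a⁻¹, ?_⟩, ?_⟩
      left_inv := fun u => Subtype.ext (Subtype.ext (by simp [mul_assoc]))
      right_inv := fun u => Subtype.ext (Subtype.ext (by simp [mul_assoc])) }
  · have h := Subgroup.mem_centralizer_singleton_iff.1 u.1.2
    rw [Subgroup.mem_centralizer_singleton_iff]
    calc a⁻¹ * (u.1 : G) * a * v = a⁻¹ * ((u.1 : G) * (a * v * a⁻¹)) * a := by group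
      _ = a⁻¹ * ((a * v * a⁻¹) * (u.1 : G)) * a := by rw [h]
      _ = v * (a⁻¹ * (u.1 : G) * a) := by group
  · refine Subtype.ext ?_
    show (a⁻¹ * (u.1 : G) * a) ^ n = 1
    have h : ((u.1 : G)) ^ n = 1 := congrArg Subtype.val u.2
    have h2 := conj_pow (a := a⁻¹) (b := (u.1 : G)) (i := n)
    rw [inv_inv] at h2
    rw [h2, h, mul_one, inv_mul_cancel]
  · have h := Subgroup.mem_centralizer_singleton_iff.1 u.1.2
    rw [Subgroup.mem_centralizer_singleton_iff]
    calc a * (u.1 : G) * a⁻¹ * (a * v * a⁻¹) = a * ((u.1 : G) * v) * a⁻¹ := by group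
      _ = a * (v * (u.1 : G)) * a⁻¹ := by rw [h]
      _ = a * v * a⁻¹ * (a * (u.1 : G) * a⁻¹) := by group
  · refine Subtype.ext ?_
    show (a * (u.1 : G) * a⁻¹) ^ n = 1
    have h : ((u.1 : G)) ^ n = 1 := congrArg Subtype.val u.2
    rw [conj_pow, h, mul_one, mul_inv_cancel]

omit [Finite G] in
/-- The class size times the divisor from the centraliser. -/
theorem gcd_dvd_index_mul (H : Subgroup G) (k x : ℕ) (hx : Nat.gcd k (Nat.card H) ∣ x) :
    Nat.gcd k (Nat.card G) ∣ H.index * x := by
  rw [← Subgroup.index_mul_card H]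
  exact (Nat.gcd_mul_right_dvd_mul_gcd k H.index (Nat.card H)).trans
    (mul_dvd_mul (Nat.gcd_dvd_right _ _) hx)

end main

/-- **Frobenius' theorem for prime powers.** -/
theorem gcd_dvd_card_pow_prime {p : ℕ} [hp : Fact p.Prime] :
    ∀ (G : Type u) [Group G] [Finite G] (b : ℕ),
      Nat.gcd (p ^ b) (Nat.card G) ∣ Nat.card {g : G // g ^ p ^ b = 1} := by
  intro G _ _
  induction hN : Nat.card G using Nat.strong_induction_on generalizing G with
  | _ N ih =>
  subst hN
  classical
  haveI := Fintype.ofFinite G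
  set A := (Nat.card G).factorization p with hA
  have hgcd : ∀ b ≤ A, Nat.gcd (p ^ b) (Nat.card G) = p ^ b := fun b hb =>
    Nat.gcd_eq_left ((pow_dvd_pow p hb).trans (Nat.ordProj_dvd _ _))
  have hfull : p ^ A ∣ Nat.card {g : G // g ^ p ^ A = 1} := by
    let Q : G → Prop := fun v => v ^ ordCompl[p] (Nat.card G) = 1
    let F : G → ℕ := fun v => if Q v then
      Nat.card {u : Subgroup.centralizer ({v} : Set G) // u ^ p ^ A = 1} else 0
    let F' : G → ℕ := fun v => if v ∈ Subgroup.center G then 0 else F v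
    have htot : Nat.card G = ∑ v, F v := by
      rw [← card_eq_sum p A le_rfl Q (fun v h => h)]
      exact (Nat.card_congr (Equiv.subtypeUnivEquiv fun g => ⟨prime_pow p g, primeTo_pow p g⟩)).symm
    have hF' : p ^ A ∣ ∑ v, F' v := by
      refine dvd_sum_classes F' _ (fun a v => ?_) fun v => ?_
      · have hc : a * v * a⁻¹ ∈ Subgroup.center G ↔ v ∈ Subgroup.center G := by
          constructor
          · intro h
            have : a⁻¹ * (a * v * a⁻¹) * a = v := by group
            rw [← this]
            simpa [mul_assoc] using (Subgroup.instNormalCenter (G := G)).conj_mem _ h a⁻¹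
          · exact fun h => (Subgroup.instNormalCenter (G := G)).conj_mem _ h a
        have hq : Q (a * v * a⁻¹) ↔ Q v := by
          show _ = 1 ↔ _ = 1
          rw [conj_pow, mul_inv_eq_one, mul_eq_left]
        simp only [F', F, hc, hq, card_centralizer_count_conj]
      · simp only [F', F]
        split_ifs with hc hq
        · simp
        · have hlt : Nat.card (Subgroup.centralizer ({v} : Set G)) < Nat.card G := by
            refine lt_of_le_of_ne (Subgroup.card_le_card_group _) fun he => hc ?_
            have htop := Subgroup.eq_top_of_card_eq _ he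
            rw [Subgroup.mem_center_iff]
            intro g
            exact Subgroup.mem_centralizer_singleton_iff.1 (htop ▸ Subgroup.mem_top g)
          have := gcd_dvd_index_mul _ (p ^ A) _ (ih _ hlt _ rfl A)
          rwa [hgcd A le_rfl] at this
        · simp
    let z : Finset G := Finset.univ.filter fun v => v ∈ Subgroup.center G ∧ Q v
    have hsplit : ∑ v, F v = ∑ v, F' v + z.card * Nat.card {g : G // g ^ p ^ A = 1} := by
      have h1 : z.card * Nat.card {g : G // g ^ p ^ A = 1} =
          ∑ v, if v ∈ Subgroup.center G ∧ Q v then Nat.card {g : G // g ^ p ^ A = 1} else 0 := by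
        rw [← Finset.sum_filter, Finset.sum_const, smul_eq_mul]
      rw [h1, ← Finset.sum_add_distrib]
      refine Finset.sum_congr rfl fun v _ => ?_
      by_cases hc : v ∈ Subgroup.center G
      · by_cases hq : Q v
        · simp only [F', F, hc, hq, and_self, if_true, zero_add]
          have htop : Subgroup.centralizer ({v} : Set G) = ⊤ := by
            rw [eq_top_iff]
            intro g _
            exact Subgroup.mem_centralizer_singleton_iff.2 (Subgroup.mem_center_iff.1 hc g)
          refine Nat.card_congr ?_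
          exact
            { toFun := fun u => ⟨u.1, congrArg Subtype.val u.2⟩
              invFun := fun g => ⟨⟨g.1, htop ▸ Subgroup.mem_top _⟩, Subtype.ext g.2⟩
              left_inv := fun u => rfl
              right_inv := fun g => rfl }
        · simp [F', F, hc, hq]
      · simp [F', hc]
    have hz : Nat.Coprime (p ^ A) z.card := by
      refine Nat.Coprime.pow_left _ (hp.out.coprime_iff_not_dvd.2 fun hd => ?_)
      letI : CommGroup (Subgroup.center G) :=
        { (inferInstance : Group (Subgroup.center G)) with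
          mul_comm := fun a b => Subtype.ext (Subgroup.mem_center_iff.1 b.2 a.1) }
      let Zs : Subgroup G := (MonoidHom.ker (powMonoidHom (ordCompl[p] (Nat.card G)) :
        Subgroup.center G →* Subgroup.center G)).map (Subgroup.center G).subtype
      have hZs : ∀ v, v ∈ Zs ↔ v ∈ Subgroup.center G ∧ Q v := fun v =>
        ⟨by rintro ⟨w, hw, rfl⟩; exact ⟨w.2, congrArg Subtype.val hw⟩,
         fun h => ⟨⟨v, h.1⟩, Subtype.ext h.2, rfl⟩⟩
      have hcard : Nat.card Zs = z.card := by
        rw [Nat.card_eq_fintype_card, Fintype.card_subtype]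
        congr 1
        ext v
        simp [z, hZs]
      obtain ⟨x, hx⟩ := exists_prime_orderOf_dvd_card' (G := Zs) p (hcard ▸ hd)
      have hk := ((hZs _).1 x.2).2
      have hdvd : p ∣ ordCompl[p] (Nat.card G) := by
        have h2 := orderOf_dvd_of_pow_eq_one (n := ordCompl[p] (Nat.card G)) hk
        rwa [Subgroup.orderOf_coe, hx] at h2
      exact hp.out.coprime_iff_not_dvd.1 (Nat.coprime_ordCompl hp.out Nat.card_pos.ne') hdvd
    have hdvd : p ^ A ∣ Nat.card G := Nat.ordProj_dvd _ _
    rw [htot, hsplit, Nat.dvd_add_right hF'] at hdvd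
    exact hz.dvd_of_dvd_mul_left hdvd
  intro b
  rcases Nat.lt_or_ge A b with hb | hb
  · have hg : Nat.gcd (p ^ b) (Nat.card G) = p ^ A := by
      refine Nat.dvd_antisymm ?_ (Nat.dvd_gcd (pow_dvd_pow p hb.le) (Nat.ordProj_dvd _ _))
      obtain ⟨i, -, hi⟩ := (Nat.dvd_prime_pow hp.out).1 (Nat.gcd_dvd_left (p ^ b) (Nat.card G))
      rw [hi]
      exact pow_dvd_pow p ((hp.out.pow_dvd_iff_le_factorization Nat.card_pos.ne').1
        (hi ▸ Nat.gcd_dvd_right (p ^ b) (Nat.card G)))
    rw [hg]
    have : ∀ g : G, g ^ p ^ b = 1 ↔ g ^ p ^ A = 1 := fun g => by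
      constructor
      · intro h
        have := pow_gcd_eq_one.2 ⟨h, pow_card_eq_one' (x := g)⟩
        rwa [hg] at this
      · intro h
        obtain ⟨c, hc⟩ := pow_dvd_pow p hb.le
        rw [hc, pow_mul, h, one_pow]
    simp only [this]
    exact hfull
  · rw [hgcd b hb]
    have hdiff : Nat.card {g : G // g ^ p ^ A = 1} = Nat.card {g : G // g ^ p ^ b = 1} +
        ∑ c ∈ Finset.Ioc b A, Nat.card {g : G // orderOf g = p ^ c} := by
      have hset : ∀ d : ℕ, Nat.card {g : G // g ^ p ^ d = 1} =
          ∑ c ∈ Finset.range (d + 1), Nat.card {g : G // orderOf g = p ^ c} := by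
        intro d
        simp only [Nat.card_eq_fintype_card, Fintype.card_subtype]
        rw [← Finset.card_biUnion]
        · congr 1
          ext g
          simp only [Finset.mem_filter, Finset.mem_univ, true_and, Finset.mem_biUnion, Finset.mem_range]
          rw [← orderOf_dvd_iff_pow_eq_one, Nat.dvd_prime_pow hp.out]
          exact ⟨fun ⟨c, hc, h⟩ => ⟨c, Nat.lt_succ_of_le hc, h⟩,
            fun ⟨c, hc, h⟩ => ⟨c, Nat.le_of_lt_succ hc, h⟩⟩
        · intro i _ j _ hij
          rw [Function.onFun, Finset.disjoint_left]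
          intro g hgi hgj
          simp only [Finset.mem_filter, Finset.mem_univ, true_and] at hgi hgj
          exact hij (Nat.pow_right_injective hp.out.two_le (hgi.symm.trans hgj))
      rw [hset, hset]
      have hu : Finset.range (A + 1) = Finset.range (b + 1) ∪ Finset.Ioc b A := by
        ext i; simp; omega
      rw [hu, Finset.sum_union (by rw [Finset.disjoint_left]; intro i; simp; omega)]
    have h1 : p ^ b ∣ ∑ c ∈ Finset.Ioc b A, Nat.card {g : G // orderOf g = p ^ c} := by
      refine Finset.dvd_sum fun c hc => ?_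
      rw [Finset.mem_Ioc] at hc
      refine dvd_trans ?_ (totient_dvd_card_orderOf (p ^ c))
      rw [Nat.totient_prime_pow hp.out (by omega)]
      exact Dvd.dvd.mul_right (pow_dvd_pow p (by omega)) _
    have h2 : p ^ b ∣ Nat.card {g : G // g ^ p ^ A = 1} := (pow_dvd_pow p hb).trans hfull
    rw [hdiff] at h2
    exact (Nat.dvd_add_left h1).1 h2

/-- Elements with conditions on both parts: the count is divisible by `p ^ b`. -/
theorem pow_dvd_card_parts (p : ℕ) [hp : Fact p.Prime] (b : ℕ)
    (hb : b ≤ (Nat.card G).factorization p) (Q : G → Prop)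
    (hQv : ∀ v, Q v → v ^ ordCompl[p] (Nat.card G) = 1) (hQc : ∀ a v, Q (a * v * a⁻¹) ↔ Q v) :
    p ^ b ∣ Nat.card {g : G // (g ^ primeExp G p) ^ p ^ b = 1 ∧ Q (g ^ primeToExp G p)} := by
  classical
  haveI := Fintype.ofFinite G
  rw [card_eq_sum p b hb Q hQv]
  refine dvd_sum_classes _ _ (fun a v => ?_) fun v => ?_
  · simp only [hQc, card_centralizer_count_conj]
  · split_ifs with hq
    · have := gcd_dvd_index_mul _ (p ^ b) _
        (gcd_dvd_card_pow_prime (p := p) (Subgroup.centralizer ({v} : Set G)) b)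
      rwa [Nat.gcd_eq_left ((pow_dvd_pow p hb).trans (Nat.ordProj_dvd _ _))] at this
    · simp

/-- **Frobenius' theorem.** -/
theorem dvd_card_pow_eq_one (m : ℕ) (hm : m ∣ Nat.card G) :
    m ∣ Nat.card {g : G // g ^ m = 1} := by
  have hm0 : m ≠ 0 := fun h => Nat.card_pos.ne' (Nat.eq_zero_of_zero_dvd (h ▸ hm))
  rw [Nat.dvd_iff_prime_pow_dvd_dvd]
  intro p k hp hk
  haveI := Fact.mk hp
  refine (pow_dvd_pow p ((hp.pow_dvd_iff_le_factorization hm0).1 hk)).trans ?_
  set b := m.factorization p with hb
  have hbA : b ≤ (Nat.card G).factorization p :=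
    (hp.pow_dvd_iff_le_factorization Nat.card_pos.ne').1 ((Nat.ordProj_dvd m p).trans hm)
  have key := pow_dvd_card_parts p b hbA
    (fun v : G => v ^ ordCompl[p] (Nat.card G) = 1 ∧ v ^ m = 1) (fun v h => h.1)
    (fun a v => by simp only [conj_pow, mul_inv_eq_one, mul_eq_left])
  refine key.trans (dvd_of_eq (Nat.card_congr (Equiv.subtypeEquivRight fun g => ?_)))
  rw [Iff.comm]
  constructor
  · intro hg
    refine ⟨?_, primeTo_pow p g, by rw [pow_right_comm, hg, one_pow]⟩
    have h1 : (g ^ primeExp G p) ^ m = 1 := by rw [pow_right_comm, hg, one_pow]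
    have h3 := pow_gcd_eq_one.2 ⟨h1, prime_pow p g⟩
    have h4 : Nat.gcd m (ordProj[p] (Nat.card G)) ∣ p ^ b := by
      obtain ⟨i, -, hi⟩ := (Nat.dvd_prime_pow hp).1 (Nat.gcd_dvd_right m (ordProj[p] (Nat.card G)))
      rw [hi]
      exact pow_dvd_pow p ((hp.pow_dvd_iff_le_factorization hm0).1
        (hi ▸ Nat.gcd_dvd_left m (ordProj[p] (Nat.card G))))
    obtain ⟨c, hc⟩ := h4
    rw [hc, pow_mul, h3, one_pow]
  · rintro ⟨h1, -, h2⟩
    have h3 : (g ^ primeExp G p) ^ m = 1 := by
      obtain ⟨c, hc⟩ := Nat.ordProj_dvd m p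
      rw [hc, pow_mul, h1, one_pow]
    conv_lhs => rw [← parts_mul p g]
    rw [(Commute.pow_pow_self g _ _).mul_pow, h3, h2, one_mul]

/-- The number of elements of order divisible by `n` is divisible by the `r`-part of the group
order for every prime `r` not dividing `n`. -/
theorem ordProj_dvd_card_dvd_orderOf (n r : ℕ) [hr : Fact r.Prime] (hn : ¬ r ∣ n) :
    ordProj[r] (Nat.card G) ∣ Nat.card {g : G // n ∣ orderOf g} := by
  have key := pow_dvd_card_parts r ((Nat.card G).factorization r) le_rfl
    (fun v : G => v ^ ordCompl[r] (Nat.card G) = 1 ∧ n ∣ orderOf v) (fun v h => h.1)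
    (fun a v => by
      simp only [conj_pow, mul_inv_eq_one, mul_eq_left]
      rw [show a * v * a⁻¹ = MulAut.conj a v from rfl, MulEquiv.orderOf_eq])
  refine key.trans (dvd_of_eq (Nat.card_congr (Equiv.subtypeEquivRight fun g => ?_)))
  rw [Iff.comm]
  refine ⟨fun hg => ⟨prime_pow r g, primeTo_pow r g, ?_⟩, fun h => h.2.2.trans ?_⟩
  · have hc : Nat.Coprime n (orderOf (g ^ primeExp G r)) :=
      Nat.Coprime.coprime_dvd_right (orderOf_dvd_of_pow_eq_one (prime_pow r g))
        (Nat.Coprime.pow_right _ (Nat.Coprime.symm (hr.out.coprime_iff_not_dvd.2 hn)))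
    refine hc.dvd_of_dvd_mul_left (hg.trans ?_)
    conv_lhs => rw [← parts_mul r g]
    exact (Commute.pow_pow_self g _ _).orderOf_mul_dvd_mul_orderOf
  · exact orderOf_dvd_of_mem_zpowers (Subgroup.pow_mem _ (Subgroup.mem_zpowers g) _)

end Cfsg.Agent.FrobeniusCount72
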