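import Mathlib

namespace Cfsg.Agent.TransferPow

open Subgroup MulAction

variable {G : Type*} [Group G]

/-- Transfer evaluation when the homomorphism is constant on conjugates. -/
theorem transfer_eq_pow_index {H : Subgroup G} [H.FiniteIndex] {A : Type*} [CommGroup A]
    (ϕ : H →* A) (x : H)
    (key : ∀ (k : ℕ) (g : G) (h : g⁻¹ * (x : G) ^ k * g ∈ H), ϕ ⟨_, h⟩ = ϕ x ^ k) :
    MonoidHom.transfer ϕ (x : G) = ϕ x ^ H.index := by
  have : Fintype (Quotient (MulAction.orbitRel (zpowers (x : G)) (G ⧸ H))) :=
    Fintype.ofFinite _
  rw [index_eq_sum_minimalPeriod H x, ← Finset.prod_pow_eq_pow_sum,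
    MonoidHom.transfer_eq_prod_quotient_orbitRel_zpowers_quot]
  apply Finset.prod_congr rfl
  intros
  apply key

/-- A central element of `H` in the commutator subgroup is killed by `index` power under homs to
abelian groups. -/
theorem central_pow_index_eq_one {H : Subgroup G} [H.FiniteIndex] {A : Type*} [CommGroup A]
    (ϕ : H →* A) (x : H) (hc : (x : G) ∈ center G) (hd : (x : G) ∈ commutator G) :
    ϕ x ^ H.index = 1 := by
  rw [← transfer_eq_pow_index ϕ x]
  · exact MonoidHom.mem_ker.mp (Abelianization.commutator_subset_ker _ hd)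
  · intro k g h
    rw [← map_pow]
    congr 1
    apply Subtype.ext
    have hk : (x : G) ^ k ∈ center G := pow_mem hc k
    rw [mem_center_iff] at hk
    simp only [SubmonoidClass.coe_pow]
    rw [mul_assoc, ← hk g, inv_mul_cancel_left]

/-- In a finite group, a power map with exponent coprime to the order of an element is injective. -/
theorem eq_one_of_pow_eq_one_of_coprime {M : Type*} [Monoid M] {a : M} {m n : ℕ}
    (hm : a ^ m = 1) (hn : a ^ n = 1) (h : Nat.Coprime m n) : a = 1 := by
  have := pow_gcd_eq_one.mpr ⟨hm, hn⟩
  rwa [h.gcd_eq_one, pow_one] at this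

/-- An element central in `G`, in the commutator subgroup and in an abelian subgroup `H` whose
index is prime to the order of the element is trivial. -/
theorem eq_one_of_mem_center_commutator {H : Subgroup G} [H.FiniteIndex] [IsMulCommutative H]
    {x : G} (hx : x ∈ H) (hc : x ∈ center G) (hd : x ∈ commutator G)
    (hcop : Nat.Coprime H.index (orderOf x)) : x = 1 := by
  open scoped IsMulCommutative in
  have h := central_pow_index_eq_one (MonoidHom.id H) ⟨x, hx⟩ hc hd
  have h' : x ^ H.index = 1 := by
    have := congrArg Subtype.val h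
    simpa using this
  exact eq_one_of_pow_eq_one_of_coprime h' (pow_orderOf_eq_one x) hcop

end Cfsg.Agent.TransferPow
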