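import Mathlib
import Cfsg.Agent.Lib.SimpleOrderCheck
import Cfsg.Agent.Lib.FrobeniusCount72
import Cfsg.Agent.S0987
import Cfsg.Agent.S1010

/-!
A kernel-computable search over the possible data (number of conjugates, automizer order) of all
Sylow subgroups of prime order of a simple group, with pairwise compatibility conditions and an
element count.
-/

set_option autoImplicit false

namespace Cfsg.Agent.SimpleSearch

open Subgroup Cfsg.Agent.SimpleOrder Cfsg.Agent.SimpleOrderCheck

/-- The data at a prime: `(q, (n_q, [N : C]))`. -/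
abbrev Dat := ℕ × ℕ × ℕ

/-- Admissible data at `q`. -/
def opts (n : ℕ) (qs : List ℕ) (q : ℕ) : List Dat :=
  ((cand n q (n / q)).filter fun d => iOK n qs d && !(decide (q = 5) && decide (d = 21))).flatMap
    fun d => (eList n q d).map fun e => (q, d, e)

/-- `N` of the data. -/
def nOf (n : ℕ) (a : Dat) : ℕ := n / a.2.1

/-- `C` of the data. -/
def cOf (n : ℕ) (a : Dat) : ℕ := n / a.2.1 / a.2.2

/-- A group of order `C` with a central subgroup of order `q` has one Sylow `r`-subgroup. -/
def uniqB (q C r : ℕ) : Bool :=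
  decide (C / (q * r) % r ≠ 0) &&
    (((List.range (C / (q * r) + 1)).all fun x =>
        !(decide (1 < x) && decide (x % r = 1) && decide (C / (q * r) % x = 0))) ||
      (List.range r).any fun a => decide (1 < a) && decide (C / q % a = 0) && primeB a &&
        (decide (a < C / q / (a * r)) && decide (C / q / (a * r) < r) && primeB (C / q / (a * r)) &&
          decide (a * (C / q / (a * r)) * r = C / q)))

/-- Compatibility of the data at two different primes. -/
def comp1 (n : ℕ) (a b : Dat) : Bool :=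
  (!decide (cOf n a % b.1 = 0) ||
    (decide (cOf n b % a.1 = 0) &&
      (!uniqB a.1 (cOf n a) b.1 || decide (nOf n b % nOf n a = 0))))

/-- Symmetrized. -/
def comp (n : ℕ) (a b : Dat) : Bool := comp1 n a b && comp1 n b a

/-- Remove the prime `u`. -/
def stripP (K u : ℕ) : ℕ :=
  (List.range 6).foldl (fun k _ => if k % u = 0 then k / u else k) K

/-- Number of elements of order `q` times a lower bound for their `used`-regular companions. -/
def contrib (n : ℕ) (used : List ℕ) (a : Dat) : ℕ :=
  a.2.1 * (a.1 - 1) *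
    (let K := used.foldl stripP (cOf n a / a.1)
     if decide (cOf n a % K = 0) && decide (K % a.1 ≠ 0) && (used.all fun u => decide (K % u ≠ 0))
       then K else 1)

/-- The element count. -/
def count (n : ℕ) : List Dat → List ℕ → ℕ
  | [], _ => 1
  | a :: L, used => contrib n used a + count n L (a.1 :: used)

/-- The search: `true` when every combination is contradictory. -/
def srch (n : ℕ) (qs : List ℕ) : List ℕ → List Dat → Bool
  | [], acc => decide (n < count n acc.reverse [])
  | q :: rest, acc =>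
      (opts n qs q).all fun o => !(acc.all (comp n o)) || srch n qs rest (o :: acc)

/-- The criterion. -/
def kill2 (n : ℕ) (qs : List ℕ) : Bool :=
  (qs.all fun q => primeB q && decide (2 < q) && decide (n % q = 0) && decide (n / q % q ≠ 0)) &&
    decide qs.Nodup && srch n qs qs []

variable {G : Type*} [Group G] [Finite G] [IsSimpleGroup G]

/-- The true data of `G`. -/
structure Holds (n : ℕ) (a : Dat) (G : Type*) [Group G] : Prop where
  prime : a.1.Prime
  order : ∀ P : Sylow a.1 G, Nat.card ↥(P : Subgroup G) = a.1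
  num : Nat.card (Sylow a.1 G) = a.2.1
  norm : ∀ P : Sylow a.1 G,
    Nat.card ↥(Subgroup.normalizer ((P : Subgroup G) : Set G)) = nOf n a
  cent : ∀ P : Sylow a.1 G,
    Nat.card ↥(Subgroup.centralizer ((P : Subgroup G) : Set G)) = cOf n a

theorem card_centralizer_congr {q : ℕ} [Fact q.Prime] (P Q : Sylow q G) :
    Nat.card ↥(Subgroup.centralizer ((P : Subgroup G) : Set G)) =
      Nat.card ↥(Subgroup.centralizer ((Q : Subgroup G) : Set G)) := by
  obtain ⟨g, rfl⟩ := MulAction.exists_smul_eq G P Q
  have h : ((g • P : Sylow q G) : Subgroup G) = (P : Subgroup G).map (MulAut.conj g).toMonoidHom :=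
    rfl
  have h2 : (Subgroup.centralizer ((P : Subgroup G) : Set G)).map (MulAut.conj g).toMonoidHom =
      Subgroup.centralizer (((g • P : Sylow q G) : Subgroup G) : Set G) := by
    ext y
    simp only [Subgroup.mem_map, Subgroup.mem_centralizer_iff, SetLike.mem_coe, h,
      MulEquiv.coe_toMonoidHom, MulAut.conj_apply]
    constructor
    · rintro ⟨c, hc, rfl⟩ z ⟨a, ha, rfl⟩
      calc g * a * g⁻¹ * (g * c * g⁻¹) = g * (a * c) * g⁻¹ := by group
        _ = g * (c * a) * g⁻¹ := by rw [hc a ha]
        _ = g * c * g⁻¹ * (g * a * g⁻¹) := by group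
    · intro hy
      refine ⟨g⁻¹ * y * g, fun a ha => ?_, by group⟩
      have := hy (g * a * g⁻¹) ⟨a, ha, rfl⟩
      calc a * (g⁻¹ * y * g) = g⁻¹ * (g * a * g⁻¹ * y) * g := by group
        _ = g⁻¹ * (y * (g * a * g⁻¹)) * g := by rw [this]
        _ = g⁻¹ * y * g * a := by group
  rw [← h2, Subgroup.card_map_of_injective (MulAut.conj g).injective]

theorem exists_holds (hG : ¬ IsMulCommutative G) (qs : List ℕ) {q : ℕ} (hq : q.Prime)
    (h1 : Nat.card G % q = 0) (h2 : Nat.card G / q % q ≠ 0) :
    ∃ a ∈ opts (Nat.card G) qs q, a.1 = q ∧ Holds (Nat.card G) a G := by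
  have : Fact q.Prime := ⟨hq⟩
  obtain ⟨P⟩ : Nonempty (Sylow q G) := inferInstance
  have hP : ∀ P : Sylow q G, Nat.card ↥(P : Subgroup G) = q := sylow_card_of_once h1 h2
  obtain ⟨e, he, heC, hN⟩ := exists_eList hG P (hP P)
  refine ⟨(q, Nat.card (Sylow q G), e), List.mem_flatMap.2 ⟨Nat.card (Sylow q G), ?_,
    List.mem_map.2 ⟨e, he, rfl⟩⟩, rfl, hq, hP, rfl, fun Q => ?_, fun Q => ?_⟩
  · refine List.mem_filter.2 ⟨mem_cand hG Nat.one_pos
      (by rw [pow_one]; exact (Nat.mul_div_cancel' (Nat.dvd_of_mod_eq_zero h1)).symm)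
      (fun h => h2 (Nat.mod_eq_zero_of_dvd h)), ?_⟩
    rw [Bool.and_eq_true]
    refine ⟨?_, ?_⟩
    · rw [P.card_eq_index_normalizer]
      exact iOK_index hG qs _ (normalizer_ne_top hG (Nat.dvd_of_mod_eq_zero h1) P)
    · simp only [Bool.not_eq_true', Bool.and_eq_false_iff, decide_eq_false_iff_not]
      by_contra hc
      push Not at hc
      obtain ⟨rfl, h21⟩ := hc
      exact S1010.result h21
  · show _ = Nat.card G / _
    rw [hN]
    have h := (Subgroup.normalizer ((P : Subgroup G) : Set G)).card_mul_index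
    have h' := (Subgroup.normalizer ((Q : Subgroup G) : Set G)).card_mul_index
    have e1 : (Subgroup.normalizer ((P : Subgroup G) : Set G)).index =
        (Subgroup.normalizer ((Q : Subgroup G) : Set G)).index :=
      P.card_eq_index_normalizer.symm.trans Q.card_eq_index_normalizer
    rw [e1, ← h'] at h
    exact (Nat.eq_of_mul_eq_mul_right
      (Nat.pos_of_ne_zero Subgroup.index_ne_zero_of_finite) h).symm
  · show _ = Nat.card G / _ / _
    rw [heC, card_centralizer_congr Q P]

omit [IsSimpleGroup G] in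
theorem mem_centralizer_of_le_centralizer {A B : Subgroup G}
    (h : A ≤ Subgroup.centralizer (B : Set G)) : B ≤ Subgroup.centralizer (A : Set G) :=
  Subgroup.le_centralizer_iff.1 h

theorem le_centralizer_self {q : ℕ} [Fact q.Prime] {P : Subgroup G} (hP : Nat.card P = q) :
    P ≤ Subgroup.centralizer (P : Set G) := fun a ha => by
  have hcy : IsCyclic ↥P := isCyclic_of_prime_card hP
  exact Subgroup.mem_centralizer_iff.2 fun b hb => congrArg Subtype.val
    ((IsCyclic.isMulCommutative (α := ↥P)).is_comm.comm ⟨b, hb⟩ ⟨a, ha⟩)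

theorem subsingleton_of_uniqB {q r : ℕ} [Fact q.Prime] [Fact r.Prime] (hne : q ≠ r)
    {H : Type*} [Group H] [Finite H] (Z : Subgroup H) (hZ : Z ≤ Subgroup.center H)
    (hq : Nat.card Z = q) (hr : r ∣ Nat.card H) (h : uniqB q (Nat.card H) r = true) :
    Subsingleton (Sylow r H) := by
  have hqp : q.Prime := Fact.out
  have hrp : r.Prime := Fact.out
  simp only [uniqB, Bool.and_eq_true, decide_eq_true_eq, Bool.or_eq_true, List.all_eq_true,
    List.any_eq_true, List.mem_range, Bool.not_eq_true', Bool.and_eq_false_iff,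
    decide_eq_false_iff_not] at h
  obtain ⟨hk, h⟩ := h
  set k := Nat.card H / (q * r) with hkdef
  have hqr : q * r ∣ Nat.card H := (Nat.coprime_primes hqp hrp).2 hne |>.mul_dvd_of_dvd_of_dvd
    (hq ▸ Z.card_subgroup_dvd_card) hr
  have hH : Nat.card H = q * r * k := (Nat.mul_div_cancel' hqr).symm
  have hrk : ¬ r ∣ k := fun hd => hk (Nat.mod_eq_zero_of_dvd hd)
  have hn : Nat.card H = r ^ 1 * (q * k) := by rw [hH]; ring
  have hrqk : ¬ r ∣ q * k := fun hd => (hrp.dvd_mul.1 hd).elim
    (fun h => hne ((Nat.prime_dvd_prime_iff_eq hrp hqp).1 h).symm) hrk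
  rcases h with h | ⟨a, -, ⟨⟨ha1, -⟩, hap⟩, ⟨⟨hab, hbr⟩, hbp⟩, habr⟩
  · obtain ⟨R⟩ : Nonempty (Sylow r H) := inferInstance
    have hR : Nat.card ↥(R : Subgroup H) = r := by rw [sylow_card_of_eq hn hrqk R, pow_one]
    set N := Subgroup.normalizer ((R : Subgroup H) : Set H) with hN
    have hZN : Z ≤ N := fun z hz => by
      rw [hN, Subgroup.mem_normalizer_iff]
      intro x
      rw [← Subgroup.mem_center_iff.1 (hZ hz) x, mul_inv_cancel_right]
    have hd : q * r ∣ Nat.card N := (Nat.coprime_primes hqp hrp).2 hne |>.mul_dvd_of_dvd_of_dvd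
      (hq ▸ Subgroup.card_dvd_of_le hZN) (hR ▸ Subgroup.card_dvd_of_le Subgroup.le_normalizer)
    obtain ⟨c, hc⟩ := hd
    have hdk : Nat.card (Sylow r H) ∣ k := by
      have h2 := N.card_mul_index
      rw [hc, hH, mul_assoc (q * r)] at h2
      rw [R.card_eq_index_normalizer]
      have h3 : c * N.index = k := Nat.eq_of_mul_eq_mul_left (Nat.mul_pos hqp.pos hrp.pos) h2
      exact Dvd.intro_left c h3
    have hk0 : 0 < k := Nat.pos_of_ne_zero fun h0 => hrk (h0 ▸ dvd_zero r)
    have h1 : Nat.card (Sylow r H) % r = 1 :=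
      Eq.trans (card_sylow_modEq_one r H) (Nat.mod_eq_of_lt hrp.one_lt)
    rcases h _ (Nat.lt_succ_of_le (Nat.le_of_dvd hk0 hdk)) with (h' | h') | h'
    · exact (Nat.card_eq_one_iff_unique.1 (by
        have : 0 < Nat.card (Sylow r H) := Nat.card_pos
        omega)).1
    · exact absurd h1 h'
    · exact absurd (Nat.mod_eq_zero_of_dvd hdk) h'
  · have hZn : Z.Normal := Subgroup.Normal.mk fun z hz g => by
      rw [Subgroup.mem_center_iff.1 (hZ hz) g, mul_inv_cancel_right]
      exact hz
    set b := Nat.card H / q / (a * r) with hbdef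
    have hQ : Nat.card (H ⧸ Z) = a * b * r := by
      have h2 := Z.card_mul_index
      rw [hq, Subgroup.index] at h2
      rw [habr, ← h2, Nat.mul_div_cancel_left _ hqp.pos]
    obtain ⟨R⟩ : Nonempty (Sylow r (H ⧸ Z)) := inferInstance
    have hRn : (R : Subgroup (H ⧸ Z)).Normal :=
      S0987.result a b r (prime_of_primeB hap) (prime_of_primeB hbp) hab hbr hQ R
    set K := (R : Subgroup (H ⧸ Z)).comap (QuotientGroup.mk' Z) with hKdef
    have hle : ∀ S : Sylow r H, (S : Subgroup H) ≤ K := by
      intro S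
      rw [hKdef, ← Subgroup.map_le_iff_le_comap]
      have hp : IsPGroup r ↥((S : Subgroup H).map (QuotientGroup.mk' Z)) := S.2.map _
      obtain ⟨R', hR'⟩ := hp.exists_le_sylow
      have := Sylow.unique_of_normal R hRn
      rwa [Subsingleton.elim R' R] at hR'
    have hZK : Z ≤ K := fun z hz => by
      rw [hKdef, Subgroup.mem_comap]
      have : QuotientGroup.mk' Z z = 1 := (QuotientGroup.eq_one_iff z).2 hz
      rw [this]
      exact one_mem _
    have hrQ : ¬ r ∣ a * b := fun hd => (hrp.dvd_mul.1 hd).elim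
      (fun h => by have := Nat.le_of_dvd (by omega) h; omega)
      (fun h => by have := Nat.le_of_dvd (prime_of_primeB hbp).pos h; omega)
    have hRc : Nat.card ↥(R : Subgroup (H ⧸ Z)) = r := by
      rw [sylow_card_of_eq (k := 1) (m := a * b) (by rw [hQ]; ring) hrQ R, pow_one]
    have hK : Nat.card K = r ^ 1 * q := by
      have h1 := K.card_mul_index
      have h2 := (R : Subgroup (H ⧸ Z)).card_mul_index
      have h3 := Z.card_mul_index
      rw [hKdef, Subgroup.index_comap_of_surjective _ (QuotientGroup.mk'_surjective Z), ← hKdef]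
        at h1
      rw [hq, Subgroup.index] at h3
      rw [hRc] at h2
      rw [← h3, ← h2] at h1
      rw [pow_one]
      refine Nat.eq_of_mul_eq_mul_right (Nat.pos_of_ne_zero
        (Subgroup.index_ne_zero_of_finite (H := (R : Subgroup (H ⧸ Z))))) ?_
      rw [h1]; ring
    obtain ⟨S₀⟩ : Nonempty (Sylow r ↥K) := inferInstance
    have hS : Subsingleton (Sylow r ↥K) := by
      have hzn : Z.subgroupOf K ≤
          Subgroup.normalizer ((S₀ : Subgroup ↥K) : Set ↥K) := fun z hz => by
        rw [Subgroup.mem_normalizer_iff]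
        intro x
        have : x * z = z * x := Subtype.ext (Subgroup.mem_center_iff.1 (hZ hz) (x : H))
        rw [← this, mul_inv_cancel_right]
      have hS₀ : Nat.card ↥(S₀ : Subgroup ↥K) = r := by
        rw [sylow_card_of_eq hK (fun hd => hne ((Nat.prime_dvd_prime_iff_eq hrp hqp).1 hd).symm) S₀,
          pow_one]
      have hd : q * r ∣ Nat.card ↥(Subgroup.normalizer ((S₀ : Subgroup ↥K) : Set ↥K)) :=
        (Nat.coprime_primes hqp hrp).2 hne |>.mul_dvd_of_dvd_of_dvd
          (by
            rw [← hq, ← Nat.card_congr (Subgroup.subgroupOfEquivOfLe hZK).toEquiv]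
            exact Subgroup.card_dvd_of_le hzn)
          (hS₀.symm.dvd.trans (Subgroup.card_dvd_of_le Subgroup.le_normalizer))
      have htop : Subgroup.normalizer ((S₀ : Subgroup ↥K) : Set ↥K) = ⊤ :=
        Subgroup.eq_top_of_le_card _ (Nat.le_of_dvd Nat.card_pos (by
          rw [hK, pow_one, mul_comm r q]; exact hd))
      exact (Nat.card_eq_one_iff_unique.1 (by
        rw [S₀.card_eq_index_normalizer, Subgroup.index_eq_one]; exact htop)).1
    exact ⟨fun S T => Sylow.subtype_injective
      (Subsingleton.elim (S.subtype (hle S)) (T.subtype (hle T)))⟩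

theorem comp1_eq_true {n : ℕ} {a b : Dat} (hab : a.1 ≠ b.1) (ha : Holds n a G) (hb : Holds n b G) :
    comp1 n a b = true := by
  have : Fact a.1.Prime := ⟨ha.prime⟩
  have : Fact b.1.Prime := ⟨hb.prime⟩
  obtain ⟨P⟩ : Nonempty (Sylow a.1 G) := inferInstance
  rw [comp1, Bool.or_eq_true, Classical.or_iff_not_imp_left]
  intro hr
  simp only [Bool.not_eq_true', decide_eq_false_iff_not, not_not] at hr
  set C := Subgroup.centralizer ((P : Subgroup G) : Set G) with hCdef
  have hrC : b.1 ∣ Nat.card C := by rw [ha.cent P]; exact Nat.dvd_of_mod_eq_zero hr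
  have hPC : (P : Subgroup G) ≤ C := le_centralizer_self (ha.order P)
  -- a Sylow subgroup of `G` inside the centralizer
  obtain ⟨y, hy⟩ := exists_prime_orderOf_dvd_card' b.1 (G := ↥C) hrC
  obtain ⟨R, hR⟩ := (IsPGroup.of_card (G := ↥(Subgroup.zpowers (y : G))) (p := b.1) (n := 1)
    (by rw [Nat.card_zpowers, Subgroup.orderOf_coe, hy, pow_one])).exists_le_sylow
  have hRC : (R : Subgroup G) ≤ C := by
    rw [← Subgroup.eq_of_le_of_card_ge hR (by
      rw [hb.order R, Nat.card_zpowers, Subgroup.orderOf_coe, hy])]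
    exact Subgroup.zpowers_le.2 y.2
  have hPR : (P : Subgroup G) ≤ Subgroup.centralizer ((R : Subgroup G) : Set G) :=
    mem_centralizer_of_le_centralizer hRC
  rw [Bool.and_eq_true, decide_eq_true_eq, Bool.or_eq_true, Classical.or_iff_not_imp_left]
  refine ⟨Nat.mod_eq_zero_of_dvd ?_, fun hu => ?_⟩
  · rw [← hb.cent R, ← ha.order P]
    exact Subgroup.card_dvd_of_le hPR
  · simp only [Bool.not_eq_true', Bool.not_eq_false] at hu
    rw [decide_eq_true_eq]
    apply Nat.mod_eq_zero_of_dvd
    rw [← ha.norm P, ← hb.norm R]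
    rw [← ha.cent P] at hu
    have hsub : Subsingleton (Sylow b.1 ↥C) := by
      refine subsingleton_of_uniqB hab ((P : Subgroup G).subgroupOf C) (fun z hz => ?_) ?_ hrC hu
      · exact Subgroup.mem_center_iff.2 fun c => Subtype.ext
          (Subgroup.mem_centralizer_iff.1 c.2 (z : G) hz).symm
      · rw [Nat.card_congr (Subgroup.subgroupOfEquivOfLe hPC).toEquiv, ha.order P]
    refine Subgroup.card_dvd_of_le fun g hg => ?_
    have hgC : ∀ c ∈ C, g * c * g⁻¹ ∈ C := fun c hc => by
      rw [hCdef, Subgroup.mem_centralizer_iff]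
      intro x hx
      have h1 := Subgroup.mem_centralizer_iff.1 hc _
        ((Subgroup.mem_normalizer_iff''.1 hg x).1 hx)
      calc x * (g * c * g⁻¹) = g * ((g⁻¹ * x * g) * c) * g⁻¹ := by group
        _ = g * (c * (g⁻¹ * x * g)) * g⁻¹ := by rw [h1]
        _ = g * c * g⁻¹ * x := by group
    have hgR : ((g • R : Sylow b.1 G) : Subgroup G) ≤ C := by
      rintro _ ⟨x, hx, rfl⟩
      exact hgC x (hRC hx)
    exact Sylow.smul_eq_iff_mem_normalizer.1
      (Sylow.subtype_injective (Subsingleton.elim ((g • R).subtype hgR) (R.subtype hRC)))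

omit [IsSimpleGroup G] in
theorem card_orderOf {q : ℕ} [hq : Fact q.Prime]
    (hP : ∀ P : Sylow q G, Nat.card ↥(P : Subgroup G) = q) :
    Nat.card {y : G // orderOf y = q} = Nat.card (Sylow q G) * (q - 1) := by
  classical
  have := Fintype.ofFinite G
  have := Fintype.ofFinite (Sylow q G)
  have hord : ∀ (P : Sylow q G) (a : ↥(P : Subgroup G)), a ≠ 1 → orderOf (a : G) = q := by
    intro P a ha
    have hd := Subgroup.orderOf_dvd_natCard _ a.2
    rw [hP] at hd
    exact ((Nat.dvd_prime hq.out).1 hd).resolve_left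
      fun h => ha (Subtype.ext (orderOf_eq_one_iff.1 h))
  have hgen : ∀ (P : Sylow q G) (y : G), y ∈ (P : Subgroup G) → orderOf y = q →
      Subgroup.zpowers y = (P : Subgroup G) := fun P y hy ho =>
    Subgroup.eq_of_le_of_card_ge (Subgroup.zpowers_le.2 hy) (by rw [hP, Nat.card_zpowers, ho])
  have e : {y : G // orderOf y = q} ≃ Σ P : Sylow q G, {a : ↥(P : Subgroup G) // a ≠ 1} :=
    (Equiv.ofBijective
      (fun z : Σ P : Sylow q G, {a : ↥(P : Subgroup G) // a ≠ 1} =>
        (⟨(z.2.1 : G), hord z.1 z.2.1 z.2.2⟩ : {y : G // orderOf y = q}))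
      ⟨fun z w h => by
        obtain ⟨P, a, ha⟩ := z
        obtain ⟨Q, b, hb⟩ := w
        have h' : (a : G) = b := congrArg Subtype.val h
        obtain rfl : P = Q := Sylow.ext (by
          rw [← hgen P a a.2 (hord P a ha), ← hgen Q b b.2 (hord Q b hb), h'])
        obtain rfl : a = b := Subtype.ext h'
        rfl, fun y => by
        obtain ⟨P, hle⟩ := (IsPGroup.of_card (G := ↥(Subgroup.zpowers y.1)) (p := q) (n := 1)
          (by rw [Nat.card_zpowers, y.2, pow_one])).exists_le_sylow
        refine ⟨⟨P, ⟨y.1, hle (Subgroup.mem_zpowers _)⟩, fun h => ?_⟩, rfl⟩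
        have h1 : y.1 = 1 := congrArg Subtype.val h
        have := y.2
        rw [h1, orderOf_one] at this
        exact hq.out.ne_one this.symm⟩).symm
  rw [Nat.card_congr e, Nat.card_sigma,
    Finset.sum_const_nat (m := q - 1) fun P _ => ?_, Finset.card_univ, Nat.card_eq_fintype_card]
  have h := Fintype.card_subtype_compl (fun a : ↥(P : Subgroup G) => a = 1)
  rw [Fintype.card_subtype_eq, ← Nat.card_eq_fintype_card (α := ↥(P : Subgroup G)), hP,
    ← Nat.card_eq_fintype_card] at h
  exact h

omit [IsSimpleGroup G] in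
/-- Lower bound for the elements of order divisible by `q` and by no prime of `used`. -/
theorem contrib_le {n : ℕ} {a : Dat} (ha : Holds n a G) (used : List ℕ)
    (hu : ∀ u ∈ used, u.Prime ∧ u ≠ a.1) :
    contrib n used a ≤ Nat.card {g : G // a.1 ∣ orderOf g ∧ ∀ u ∈ used, ¬ u ∣ orderOf g} := by
  classical
  have : Fact a.1.Prime := ⟨ha.prime⟩
  have := Fintype.ofFinite G
  rw [contrib]
  generalize hK : (let K := used.foldl stripP (cOf n a / a.1)
     if decide (cOf n a % K = 0) && decide (K % a.1 ≠ 0) && (used.all fun u => decide (K % u ≠ 0))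
       then K else 1) = K
  have hK' : K ∣ cOf n a ∧ ¬ a.1 ∣ K ∧ ∀ u ∈ used, ¬ u ∣ K := by
    simp only at hK
    split_ifs at hK with hc
    · subst hK
      simp only [Bool.and_eq_true, decide_eq_true_eq, List.all_eq_true] at hc
      exact ⟨Nat.dvd_of_mod_eq_zero hc.1.1, fun h => hc.1.2 (Nat.mod_eq_zero_of_dvd h),
        fun u hu' h => hc.2 u hu' (Nat.mod_eq_zero_of_dvd h)⟩
    · subst hK
      exact ⟨one_dvd _, fun h => ha.prime.ne_one (Nat.dvd_one.1 h),
        fun u hu' h => (hu u hu').1.ne_one (Nat.dvd_one.1 h)⟩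
  obtain ⟨hKC, hKq, hKu⟩ := hK'
  have hK0 : K ≠ 0 := fun h => hKq (h ▸ dvd_zero _)
  have hcent : ∀ y : G, orderOf y = a.1 →
      Nat.card ↥(Subgroup.centralizer ({y} : Set G)) = cOf n a := by
    intro y hy
    obtain ⟨P, hle⟩ := (IsPGroup.of_card (G := ↥(Subgroup.zpowers y)) (p := a.1) (n := 1)
      (by rw [Nat.card_zpowers, hy, pow_one])).exists_le_sylow
    have he : Subgroup.zpowers y = (P : Subgroup G) :=
      Subgroup.eq_of_le_of_card_ge hle (by rw [ha.order, Nat.card_zpowers, hy])
    rw [← Subgroup.centralizer_closure, ← Subgroup.zpowers_eq_closure, he, ha.cent P]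
  let T := Σ y : {y : G // orderOf y = a.1},
    {z : ↥(Subgroup.centralizer ({y.1} : Set G)) // z ^ K = 1}
  have hT : a.2.1 * (a.1 - 1) * K ≤ Nat.card T := by
    have := Fintype.ofFinite {y : G // orderOf y = a.1}
    rw [Nat.card_sigma, ← ha.num, ← card_orderOf ha.order, Nat.card_eq_fintype_card,
      ← Finset.card_univ, ← smul_eq_mul, ← Finset.sum_const]
    refine Finset.sum_le_sum fun y _ => ?_
    have : Nonempty {z : ↥(Subgroup.centralizer ({y.1} : Set G)) // z ^ K = 1} :=
      ⟨⟨1, one_pow K⟩⟩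
    exact Nat.le_of_dvd Nat.card_pos
      (FrobeniusCount72.dvd_card_pow_eq_one K (by rw [hcent y.1 y.2]; exact hKC))
  refine hT.trans ?_
  have hmul : ∀ t : T, orderOf ((t.1.1 : G) * (t.2.1 : G)) = a.1 * orderOf (t.2.1 : G) := by
    rintro ⟨⟨y, hy⟩, ⟨z, hzC⟩, hzK⟩
    have hz : z ^ K = 1 := congrArg Subtype.val hzK
    have hcomm : Commute y z := (Subgroup.mem_centralizer_singleton_iff.1 hzC).symm
    rw [hcomm.orderOf_mul_eq_mul_orderOf_of_coprime, hy]
    rw [hy]
    exact (Nat.Prime.coprime_iff_not_dvd ha.prime).2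
      fun h => hKq (h.trans (orderOf_dvd_of_pow_eq_one hz))
  refine Nat.card_le_card_of_injective (fun t : T => ⟨(t.1.1 : G) * (t.2.1 : G), ?_, ?_⟩) ?_
  · rw [hmul]; exact dvd_mul_right _ _
  · intro u hu' h
    rw [hmul] at h
    rcases (hu u hu').1.dvd_mul.1 h with h | h
    · exact (hu u hu').2 ((Nat.prime_dvd_prime_iff_eq (hu u hu').1 ha.prime).1 h)
    · refine hKu u hu' (h.trans (orderOf_dvd_of_pow_eq_one ?_))
      exact congrArg Subtype.val t.2.2
  · rintro ⟨⟨y, hy⟩, ⟨z, hzC⟩, hzK⟩ ⟨⟨y', hy'⟩, ⟨z', hzC'⟩, hzK'⟩ heq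
    have heq' : y * z = y' * z' := congrArg Subtype.val heq
    have hpow : ∀ {y z : G}, z ∈ Subgroup.centralizer ({y} : Set G) → z ^ K = 1 →
        (y * z) ^ K = y ^ K := fun hzC hz => by
      rw [Commute.mul_pow (Subgroup.mem_centralizer_singleton_iff.1 hzC).symm, hz, mul_one]
    have h1 : y ^ K = y' ^ K := by
      rw [← hpow hzC (congrArg Subtype.val hzK), ← hpow hzC' (congrArg Subtype.val hzK'), heq']
    have hcop : (a.1).Coprime K := (Nat.Prime.coprime_iff_not_dvd ha.prime).2 hKq
    have hyy : y = y' := by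
      obtain ⟨t, ht⟩ := exists_pow_eq_self_of_coprime (x := y) (hy ▸ hcop.symm)
      obtain ⟨t', ht'⟩ := exists_pow_eq_self_of_coprime (x := y') (hy' ▸ hcop.symm)
      have hr : ∀ w : G, orderOf w = a.1 → ∀ s : ℕ, (w ^ K) ^ s = w →
          ∀ v : G, orderOf v = a.1 → (v ^ K) ^ s = v := by
        intro w hw s hs v hv
        rw [← pow_mul] at hs ⊢
        have h2 : K * s ≡ 1 [MOD a.1] := by
          rw [← hw]
          exact pow_eq_pow_iff_modEq.1 (by rw [pow_one]; exact hs)
        conv_rhs => rw [← pow_one v]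
        exact pow_eq_pow_iff_modEq.2 (hv ▸ h2)
      rw [← hr y hy t ht y' hy', ← h1, ht]
    subst hyy
    have hzz : z = z' := mul_left_cancel heq'
    subst hzz
    rfl

omit [IsSimpleGroup G] in
theorem count_le {n : ℕ} : ∀ (L : List Dat) (used : List ℕ), (∀ a ∈ L, Holds n a G) →
    (L.map (·.1)).Nodup → (∀ u ∈ used, u.Prime) → (∀ a ∈ L, a.1 ∉ used) →
    count n L used ≤ Nat.card {g : G // ∀ u ∈ used, ¬ u ∣ orderOf g}
  | [], used, _, _, hu, _ => by
      have : Nonempty {g : G // ∀ u ∈ used, ¬ u ∣ orderOf g} :=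
        ⟨⟨1, fun u hu' h => (hu u hu').ne_one (Nat.dvd_one.1 (orderOf_one (G := G) ▸ h))⟩⟩
      exact Nat.card_pos
  | a :: L, used, hL, hnd, hu, hno => by
      classical
      rw [List.map_cons, List.nodup_cons] at hnd
      have ha := hL a (List.mem_cons_self ..)
      have h1 := contrib_le ha used fun u hu' =>
        ⟨hu u hu', fun h => hno a (List.mem_cons_self ..) (h ▸ hu')⟩
      have h2 := count_le (n := n) L (a.1 :: used) (fun b hb => hL b (List.mem_cons_of_mem _ hb))
        hnd.2 (fun u hu' => by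
          rcases List.mem_cons.1 hu' with rfl | h
          · exact ha.prime
          · exact hu u h)
        (fun b hb h => by
          rcases List.mem_cons.1 h with h | h
          · exact hnd.1 (List.mem_map.2 ⟨b, hb, h⟩)
          · exact hno b (List.mem_cons_of_mem _ hb) h)
      rw [count]
      refine (Nat.add_le_add h1 h2).trans ?_
      rw [← Nat.card_sum]
      refine Nat.card_le_card_of_injective
        (Sum.elim (fun g => ⟨g.1, g.2.2⟩)
          (fun g => ⟨g.1, fun u hu' => g.2 u (List.mem_cons_of_mem _ hu')⟩)) ?_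
      rintro (⟨g, hg⟩ | ⟨g, hg⟩) (⟨g', hg'⟩ | ⟨g', hg'⟩) h
      · have : g = g' := congrArg Subtype.val h
        subst this; rfl
      · have : g = g' := congrArg Subtype.val h
        subst this
        exact absurd hg.1 (hg' a.1 (List.mem_cons_self ..))
      · have : g = g' := congrArg Subtype.val h
        subst this
        exact absurd hg'.1 (hg a.1 (List.mem_cons_self ..))
      · have : g = g' := congrArg Subtype.val h
        subst this; rfl

theorem srch_false (hG : ¬ IsMulCommutative G) (qs : List ℕ) :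
    ∀ (rest : List ℕ) (acc : List Dat),
      (∀ q ∈ rest, q.Prime ∧ Nat.card G % q = 0 ∧ Nat.card G / q % q ≠ 0) →
      (∀ a ∈ acc, Holds (Nat.card G) a G) →
      (rest ++ acc.map (·.1)).Nodup → srch (Nat.card G) qs rest acc = true → False
  | [], acc, _, hacc, hnd, h => by
      rw [srch, decide_eq_true_eq] at h
      have h1 := count_le (n := Nat.card G) acc.reverse []
        (fun a ha => hacc a (List.mem_reverse.1 ha))
        (by rw [List.map_reverse, List.nodup_reverse]; simpa using hnd) (by simp) (by simp)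
      have h2 : Nat.card {g : G // ∀ u ∈ ([] : List ℕ), ¬ u ∣ orderOf g} ≤ Nat.card G :=
        Nat.card_le_card_of_injective Subtype.val Subtype.val_injective
      omega
  | q :: rest, acc, hrest, hacc, hnd, h => by
      obtain ⟨hq, hq1, hq2⟩ := hrest q (List.mem_cons_self ..)
      obtain ⟨o, ho, hoq, hH⟩ := exists_holds hG qs hq hq1 hq2
      rw [srch, List.all_eq_true] at h
      have h3 := h o ho
      have hcomp : acc.all (comp (Nat.card G) o) = true := by
        rw [List.all_eq_true]
        intro a ha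
        have hne : o.1 ≠ a.1 := fun e => by
          rw [List.cons_append, List.nodup_cons] at hnd
          exact hnd.1 (List.mem_append_right _ (List.mem_map.2 ⟨a, ha, e.symm.trans hoq⟩))
        rw [comp, Bool.and_eq_true]
        exact ⟨comp1_eq_true hne hH (hacc a ha), comp1_eq_true hne.symm (hacc a ha) hH⟩
      rw [hcomp] at h3
      refine srch_false hG qs rest (o :: acc) (fun q' hq' => hrest q' (List.mem_cons_of_mem _ hq'))
        (fun a ha => ?_) ?_ (by simpa using h3)
      · rcases List.mem_cons.1 ha with rfl | ha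
        · exact hH
        · exact hacc a ha
      · rw [List.map_cons, hoq]
        exact (List.perm_middle.nodup_iff).2 hnd

/-- Soundness of the criterion. -/
theorem card_ne_of_kill2 (hG : ¬ IsMulCommutative G) {n : ℕ} (qs : List ℕ)
    (h : kill2 n qs = true) : Nat.card G ≠ n := by
  intro hn
  subst hn
  simp only [kill2, Bool.and_eq_true, decide_eq_true_eq, List.all_eq_true] at h
  obtain ⟨⟨hq, hnd⟩, hs⟩ := h
  exact srch_false hG qs qs [] (fun q hq' => ⟨prime_of_primeB (hq q hq').1.1.1, (hq q hq').1.2,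
    (hq q hq').2⟩) (by simp) (by simpa using hnd) hs

end Cfsg.Agent.SimpleSearch
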