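/-
Induced functions: algebra, value formulas, Frobenius reciprocity, transitivity.
-/
import Mathlib
import Cfsg.Prelude.Def_Characters

set_option autoImplicit false

open scoped ComplexConjugate
open Finset

namespace Cfsg.Agent.CharInduced

universe u

variable {G : Type u} [Group G]

section extendByZero

variable {H : Subgroup G}

theorem ext_zero_of_mem (θ : H → ℂ) {x : G} (hx : x ∈ H) :
    extendByZero H θ x = θ ⟨x, hx⟩ :=
  Subtype.val_injective.extend_apply θ (0 : G → ℂ) ⟨x, hx⟩

theorem ext_zero_coe (θ : H → ℂ) (h : H) : extendByZero H θ (h : G) = θ h :=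
  Subtype.val_injective.extend_apply θ (0 : G → ℂ) h

theorem ext_zero_of_not_mem (θ : H → ℂ) {x : G} (hx : x ∉ H) : extendByZero H θ x = 0 :=
  Function.extend_apply' θ (0 : G → ℂ) x (fun ⟨a, ha⟩ => hx (ha ▸ a.2))

theorem ext_zero_eq_dite (θ : H → ℂ) (x : G) [Decidable (x ∈ H)] :
    extendByZero H θ x = if hx : x ∈ H then θ ⟨x, hx⟩ else 0 := by
  split_ifs with hx
  · exact ext_zero_of_mem θ hx
  · exact ext_zero_of_not_mem θ hx

@[simp] theorem ext_zero_zero (x : G) : extendByZero H (0 : H → ℂ) x = 0 := by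
  classical rw [ext_zero_eq_dite]; simp

theorem ext_zero_add (θ φ : H → ℂ) (x : G) :
    extendByZero H (θ + φ) x = extendByZero H θ x + extendByZero H φ x := by
  classical simp only [ext_zero_eq_dite, Pi.add_apply]; split_ifs <;> simp

theorem ext_zero_smul (c : ℂ) (θ : H → ℂ) (x : G) :
    extendByZero H (c • θ) x = c * extendByZero H θ x := by
  classical simp only [ext_zero_eq_dite, Pi.smul_apply, smul_eq_mul]; split_ifs <;> simp

theorem ext_zero_mul_res (θ : H → ℂ) (χ : G → ℂ) (x : G) :
    extendByZero H (fun h => θ h * χ h) x = extendByZero H θ x * χ x := by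
  classical simp only [ext_zero_eq_dite]; split_ifs <;> simp

theorem ext_zero_conj (θ : H → ℂ) (x : G) :
    extendByZero H (fun h => conj (θ h)) x = conj (extendByZero H θ x) := by
  classical simp only [ext_zero_eq_dite]; split_ifs <;> simp

theorem ext_zero_conj_inv {θ : H → ℂ} (hθ : IsClassFunction H θ) {h : G} (hh : h ∈ H) (x : G) :
    extendByZero H θ (h * x * h⁻¹) = extendByZero H θ x := by
  by_cases hx : x ∈ H
  · have hx' : h * x * h⁻¹ ∈ H := H.mul_mem (H.mul_mem hh hx) (H.inv_mem hh)
    rw [ext_zero_of_mem θ hx, ext_zero_of_mem θ hx']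
    exact hθ ⟨x, hx⟩ ⟨h, hh⟩
  · have hx' : h * x * h⁻¹ ∉ H := fun h1 => hx (by
      have := H.mul_mem (H.mul_mem (H.inv_mem hh) h1) hh
      simpa [mul_assoc] using this)
    rw [ext_zero_of_not_mem θ hx, ext_zero_of_not_mem θ hx']

theorem sum_ext_zero_mul [Fintype G] [Fintype H] (θ : H → ℂ) (f : G → ℂ) :
    ∑ x : G, extendByZero H θ x * f x = ∑ h : H, θ h * f h := by
  classical
  symm
  calc ∑ h : H, θ h * f h
      = ∑ h : H, extendByZero H θ (h : G) * f h := by simp_rw [ext_zero_coe]
    _ = ∑ x ∈ Finset.univ.filter (fun x : G => x ∈ H), extendByZero H θ x * f x := by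
        rw [Finset.sum_subtype (p := fun x : G => x ∈ H) _ (by simp)]
    _ = ∑ x : G, extendByZero H θ x * f x := by
        refine Finset.sum_subset (Finset.subset_univ _) fun x _ hx => ?_
        rw [ext_zero_of_not_mem θ (by simpa using hx), zero_mul]

end extendByZero

theorem isClassFunction_iff_mul_comm (θ : G → ℂ) :
    IsClassFunction G θ ↔ ∀ a b : G, θ (a * b) = θ (b * a) := by
  constructor
  · intro h a b
    have := h (b * a) a
    rwa [← mul_assoc, mul_inv_cancel_right] at this
  · intro h g k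
    rw [h, inv_mul_cancel_left]

theorem classFunction_conj' {θ : G → ℂ} (hθ : IsClassFunction G θ) (g h : G) :
    θ (h⁻¹ * g * h) = θ g := by
  simpa using hθ g h⁻¹

section classInner

variable [Fintype G]

theorem inner_add_left (a b c : G → ℂ) :
    classInner (a + b) c = classInner a c + classInner b c := by
  simp [classInner, add_mul, Finset.sum_add_distrib, mul_add]

theorem inner_add_right (a b c : G → ℂ) :
    classInner a (b + c) = classInner a b + classInner a c := by
  simp [classInner, mul_add, Finset.sum_add_distrib]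

theorem inner_sub_left (a b c : G → ℂ) :
    classInner (a - b) c = classInner a c - classInner b c := by
  simp [classInner, sub_mul, mul_sub, Finset.sum_sub_distrib]

theorem inner_sub_right (a b c : G → ℂ) :
    classInner a (b - c) = classInner a b - classInner a c := by
  simp [classInner, mul_sub, Finset.sum_sub_distrib]

theorem inner_smul_left (t : ℂ) (a b : G → ℂ) :
    classInner (t • a) b = t * classInner a b := by
  simp only [classInner, Pi.smul_apply, smul_eq_mul, Finset.mul_sum]
  exact Finset.sum_congr rfl fun x _ => by ring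

theorem inner_smul_right (t : ℂ) (a b : G → ℂ) :
    classInner a (t • b) = conj t * classInner a b := by
  simp only [classInner, Pi.smul_apply, smul_eq_mul, Finset.mul_sum, map_mul]
  exact Finset.sum_congr rfl fun x _ => by ring

theorem inner_conj_symm (a b : G → ℂ) : conj (classInner a b) = classInner b a := by
  simp [classInner, mul_comm]

@[simp] theorem inner_zero_left (a : G → ℂ) : classInner 0 a = 0 := by simp [classInner]

@[simp] theorem inner_zero_right (a : G → ℂ) : classInner a 0 = 0 := by simp [classInner]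

theorem inner_neg_left (a b : G → ℂ) : classInner (-a) b = - classInner a b := by
  simp [classInner]

theorem inner_neg_right (a b : G → ℂ) : classInner a (-b) = - classInner a b := by
  simp [classInner]

theorem inner_sum_left {ι : Type*} (s : Finset ι) (a : ι → G → ℂ) (b : G → ℂ) :
    classInner (∑ i ∈ s, a i) b = ∑ i ∈ s, classInner (a i) b := by
  classical
  induction s using Finset.induction with
  | empty => simp
  | insert i s hi ih => simp [Finset.sum_insert hi, inner_add_left, ih]

theorem inner_sum_right {ι : Type*} (s : Finset ι) (a : G → ℂ) (b : ι → G → ℂ) :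
    classInner a (∑ i ∈ s, b i) = ∑ i ∈ s, classInner a (b i) := by
  classical
  induction s using Finset.induction with
  | empty => simp
  | insert i s hi ih => simp [Finset.sum_insert hi, inner_add_right, ih]

theorem inner_self_eq_norm (a : G → ℂ) :
    classInner a a = (((Nat.card G : ℝ)⁻¹ * ∑ g : G, ‖a g‖ ^ 2 : ℝ) : ℂ) := by
  simp [classInner, Complex.mul_conj']

theorem inner_self_eq_zero {a : G → ℂ} : classInner a a = 0 ↔ a = 0 := by
  refine ⟨fun h => ?_, fun h => by simp [h]⟩
  rw [inner_self_eq_norm, Complex.ofReal_eq_zero] at h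
  rcases mul_eq_zero.1 h with h1 | h1
  · simp at h1
  · funext g
    have := (Finset.sum_eq_zero_iff_of_nonneg (fun g _ => sq_nonneg ‖a g‖)).1 h1 g (by simp)
    simpa using this

/-- The inner product does not depend on the `Fintype` instance. -/
theorem inner_inst_irrel (i₁ i₂ : Fintype G) (a b : G → ℂ) :
    @classInner G _ i₁ a b = @classInner G _ i₂ a b := by
  have h : i₁ = i₂ := Subsingleton.elim _ _
  rw [h]

end classInner

section indFun

variable [Fintype G] (H : Subgroup G)

theorem indFun_apply (θ : H → ℂ) (g : G) :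
    indFun H θ g = (Nat.card H : ℂ)⁻¹ * ∑ x : G, extendByZero H θ (x⁻¹ * g * x) := rfl

theorem card_subgroup_ne_zero : (Nat.card H : ℂ) ≠ 0 :=
  Nat.cast_ne_zero.2 Nat.card_pos.ne'

theorem ind_add (θ φ : H → ℂ) : indFun H (θ + φ) = indFun H θ + indFun H φ := by
  funext g
  simp only [indFun_apply, Pi.add_apply, ext_zero_add, Finset.sum_add_distrib, mul_add]

theorem ind_smul (c : ℂ) (θ : H → ℂ) : indFun H (c • θ) = c • indFun H θ := by
  funext g
  simp only [indFun_apply, Pi.smul_apply, smul_eq_mul, ext_zero_smul, Finset.mul_sum]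
  exact Finset.sum_congr rfl fun x _ => by ring

/-- Induction as a linear map. -/
noncomputable def indLin : (H → ℂ) →ₗ[ℂ] (G → ℂ) where
  toFun := indFun H
  map_add' := ind_add H
  map_smul' := ind_smul H

theorem indLin_apply (θ : H → ℂ) : indLin H θ = indFun H θ := rfl

@[simp] theorem ind_zero : indFun H (0 : H → ℂ) = 0 := (indLin H).map_zero

theorem ind_sub (θ φ : H → ℂ) : indFun H (θ - φ) = indFun H θ - indFun H φ :=
  (indLin H).map_sub θ φ

theorem ind_neg (θ : H → ℂ) : indFun H (-θ) = - indFun H θ :=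
  (indLin H).map_neg θ

theorem ind_sum {ι : Type*} (s : Finset ι) (θ : ι → H → ℂ) :
    indFun H (∑ i ∈ s, θ i) = ∑ i ∈ s, indFun H (θ i) :=
  map_sum (indLin H) θ s

theorem ind_conj (θ : H → ℂ) :
    indFun H (fun h => conj (θ h)) = fun g => conj (indFun H θ g) := by
  funext g
  simp [indFun_apply, ext_zero_conj]

theorem isClassFunction_ind (θ : H → ℂ) : IsClassFunction G (indFun H θ) := by
  intro g k
  simp only [indFun_apply]
  congr 1
  refine Fintype.sum_equiv (Equiv.mulLeft k⁻¹) _ _ fun x => ?_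
  simp [mul_assoc]

theorem ind_one_apply (θ : H → ℂ) : indFun H θ 1 = (H.index : ℂ) * θ 1 := by
  have h : ∀ x : G, extendByZero H θ (x⁻¹ * 1 * x) = θ 1 := fun x => by
    simpa using ext_zero_coe θ 1
  rw [indFun_apply, Finset.sum_congr rfl fun x _ => h x, Finset.sum_const, Finset.card_univ,
    ← Nat.card_eq_fintype_card, nsmul_eq_mul, ← H.card_mul_index, Nat.cast_mul]
  have := card_subgroup_ne_zero H
  field_simp

theorem ind_eq_zero_of_not_conj (θ : H → ℂ) (g : G) (hg : ∀ x : G, x⁻¹ * g * x ∉ H) :
    indFun H θ g = 0 := by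
  rw [indFun_apply, Finset.sum_eq_zero fun x _ => ext_zero_of_not_mem θ (hg x), mul_zero]

theorem ind_eq_zero_of_vanish (θ : H → ℂ) (g : G)
    (hg : ∀ x : G, ∀ h : H, x⁻¹ * g * x = h → θ h = 0) :
    indFun H θ g = 0 := by
  classical
  rw [indFun_apply, Finset.sum_eq_zero fun x _ => ?_, mul_zero]
  rw [ext_zero_eq_dite]
  split_ifs with hx
  · exact hg x ⟨_, hx⟩ rfl
  · rfl

theorem ind_mul_res (θ : H → ℂ) {χ : G → ℂ} (hχ : IsClassFunction G χ) :
    indFun H (fun h => θ h * χ h) = indFun H θ * χ := by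
  funext g
  simp only [indFun_apply, Pi.mul_apply, ext_zero_mul_res, classFunction_conj' hχ]
  rw [← Finset.sum_mul, mul_assoc]

/-- The induced function is the sum over coset representatives. -/
theorem ind_eq_sum_quotient {θ : H → ℂ} (hθ : IsClassFunction H θ) (g : G) [Fintype (G ⧸ H)] :
    indFun H θ g = ∑ q : G ⧸ H, extendByZero H θ (q.out⁻¹ * g * q.out) := by
  classical
  have key : ∀ x : G, extendByZero H θ (x⁻¹ * g * x) =
      extendByZero H θ ((x : G ⧸ H).out⁻¹ * g * (x : G ⧸ H).out) := by
    intro x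
    obtain ⟨h, hh⟩ := QuotientGroup.mk_out_eq_mul H x
    rw [hh]
    have := ext_zero_conj_inv hθ (H.inv_mem h.2) (x⁻¹ * g * x)
    rw [← this]
    congr 1
    simp only [mul_inv_rev, inv_inv]
    group
  rw [indFun_apply, Finset.sum_congr rfl fun x _ => key x]
  have hfib : ∀ q : G ⧸ H,
      (Finset.univ.filter fun x : G => (x : G ⧸ H) = q).card = Nat.card H := by
    intro q
    rw [← Fintype.card_subtype, ← Nat.card_eq_fintype_card]
    induction q using QuotientGroup.induction_on with
    | H x =>
      refine Nat.card_congr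
        ⟨fun y => ⟨x⁻¹ * y.1, QuotientGroup.eq.1 y.2.symm⟩,
          fun h => ⟨x * h.1, (QuotientGroup.eq.2 (by simp)).symm⟩, fun y => by simp, fun h => by simp⟩
  rw [← Finset.sum_fiberwise Finset.univ (fun x : G => (x : G ⧸ H))
    (fun x => extendByZero H θ ((x : G ⧸ H).out⁻¹ * g * (x : G ⧸ H).out))]
  rw [Finset.mul_sum]
  refine Finset.sum_congr rfl fun q _ => ?_
  rw [Finset.sum_congr rfl (g := fun _ => extendByZero H θ (q.out⁻¹ * g * q.out))
      (fun x hx => by rw [(Finset.mem_filter.1 hx).2]),
    Finset.sum_const, hfib, nsmul_eq_mul]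
  have := card_subgroup_ne_zero H
  field_simp

/-- Frobenius reciprocity. -/
theorem inner_ind_left [Fintype H] (θ : H → ℂ) {χ : G → ℂ} (hχ : IsClassFunction G χ) :
    classInner (indFun H θ) χ = classInner θ (fun h : H => χ h) := by
  have hG : (Nat.card G : ℂ) ≠ 0 := Nat.cast_ne_zero.2 Nat.card_pos.ne'
  simp only [classInner, indFun_apply]
  have : ∑ g : G, ((Nat.card H : ℂ)⁻¹ * ∑ x : G, extendByZero H θ (x⁻¹ * g * x)) * conj (χ g) =
      (Nat.card H : ℂ)⁻¹ * ((Nat.card G : ℂ) * ∑ h : H, θ h * conj (χ h)) := by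
    simp only [mul_assoc, Finset.sum_mul, ← Finset.mul_sum]
    congr 1
    rw [Finset.sum_comm]
    have : ∀ x : G, ∑ g : G, extendByZero H θ (x⁻¹ * (g * x)) * conj (χ g) =
        ∑ h : H, θ h * conj (χ h) := by
      intro x
      rw [← sum_ext_zero_mul θ (fun g => conj (χ g))]
      refine Fintype.sum_equiv (MulAut.conj x⁻¹).toEquiv _ _ fun g => ?_
      simp [mul_assoc]
      left
      rw [← classFunction_conj' hχ g x, mul_assoc]
    rw [Finset.sum_congr rfl fun x _ => this x, Finset.sum_const, Finset.card_univ,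
      ← Nat.card_eq_fintype_card, nsmul_eq_mul]
  rw [this]
  field_simp

theorem inner_ind_right [Fintype H] (θ : H → ℂ) {χ : G → ℂ} (hχ : IsClassFunction G χ) :
    classInner χ (indFun H θ) = classInner (fun h : H => χ h) θ := by
  rw [← inner_conj_symm, inner_ind_left H θ hχ, inner_conj_symm]

/-- A function on `H` pulled to `H.subgroupOf K`. -/
def toSubgroupOf {H K : Subgroup G} (θ : H → ℂ) : H.subgroupOf K → ℂ :=
  fun x => θ ⟨(x : K), Subgroup.mem_subgroupOf.mp x.2⟩

omit [Fintype G] in
theorem ext_zero_subgroupOf {H K : Subgroup G} (θ : H → ℂ) (y : K) :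
    extendByZero (H.subgroupOf K) (toSubgroupOf θ) y = extendByZero H θ (y : G) := by
  by_cases hy : (y : G) ∈ H
  · rw [ext_zero_of_mem θ hy, ext_zero_of_mem _ (Subgroup.mem_subgroupOf.2 hy)]
    rfl
  · rw [ext_zero_of_not_mem θ hy, ext_zero_of_not_mem _ (fun h => hy (Subgroup.mem_subgroupOf.1 h))]

/-- Transitivity of induction. -/
theorem ind_trans {H K : Subgroup G} [Fintype K] (hHK : H ≤ K) (θ : H → ℂ) :
    indFun K (indFun (H.subgroupOf K) (toSubgroupOf θ)) = indFun H θ := by
  classical
  funext g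
  have hcard : Nat.card (H.subgroupOf K) = Nat.card H :=
    Nat.card_congr (Subgroup.subgroupOfEquivOfLe hHK).toEquiv
  have hK := card_subgroup_ne_zero K
  have key : ∀ x : G, extendByZero K (indFun (H.subgroupOf K) (toSubgroupOf θ)) (x⁻¹ * g * x) =
      (Nat.card H : ℂ)⁻¹ * ∑ y : K, extendByZero H θ ((x * y)⁻¹ * g * (x * y)) := by
    intro x
    by_cases hx : x⁻¹ * g * x ∈ K
    · rw [ext_zero_of_mem _ hx, indFun_apply, hcard]
      congr 1
      refine Finset.sum_congr rfl fun y _ => ?_
      rw [ext_zero_subgroupOf]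
      simp [mul_assoc]
    · rw [ext_zero_of_not_mem _ hx, eq_comm,
        Finset.sum_eq_zero fun y _ => ext_zero_of_not_mem θ fun h => hx ?_, mul_zero]
      have := K.mul_mem (K.mul_mem y.2 (hHK h)) (K.inv_mem y.2)
      simpa [mul_assoc] using this
  simp only [indFun_apply K, key, ← Finset.mul_sum, indFun_apply H]
  rw [Finset.sum_comm]
  have : ∀ y : K, ∑ x : G, extendByZero H θ ((x * y)⁻¹ * g * (x * y)) =
      ∑ x : G, extendByZero H θ (x⁻¹ * g * x) := fun y =>
    Fintype.sum_equiv (Equiv.mulRight (y : G)) _ _ fun x => rfl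
  rw [Finset.sum_congr rfl fun y _ => this y, Finset.sum_const, Finset.card_univ,
    ← Nat.card_eq_fintype_card, nsmul_eq_mul]
  field_simp

end indFun

section Normal

variable [Fintype G] (N : Subgroup G) [hN : N.Normal]

/-- The conjugate of a function on a normal subgroup. -/
def conjFun (θ : N → ℂ) (g : G) : N → ℂ :=
  fun n => θ ⟨g * n * g⁻¹, hN.conj_mem n n.2 g⟩

omit [Fintype G] in
theorem conjFun_one (θ : N → ℂ) : conjFun N θ 1 = θ := by
  funext n; simp [conjFun]

omit [Fintype G] in
theorem conjFun_conjFun (θ : N → ℂ) (a b : G) :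
    conjFun N (conjFun N θ a) b = conjFun N θ (a * b) := by
  funext n; simp [conjFun, mul_assoc]

omit [Fintype G] in
theorem conjFun_mem_eq {θ : N → ℂ} (hθ : IsClassFunction N θ) {a : G} (ha : a ∈ N) :
    conjFun N θ a = θ := by
  funext n
  exact hθ n ⟨a, ha⟩

theorem ind_normal_eq_zero (θ : N → ℂ) {g : G} (hg : g ∉ N) : indFun N θ g = 0 :=
  ind_eq_zero_of_not_conj N θ g fun x h => hg (by
    simpa [mul_assoc] using hN.conj_mem _ h x)

theorem ind_normal_coe (θ : N → ℂ) (n : N) :
    indFun N θ (n : G) = (Nat.card N : ℂ)⁻¹ * ∑ x : G, conjFun N θ x n := by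
  rw [indFun_apply]
  congr 1
  refine Fintype.sum_equiv (Equiv.inv G) _ _ fun x => ?_
  have hx : x⁻¹ * n * x ∈ N := by simpa using hN.conj_mem n n.2 x⁻¹
  rw [ext_zero_of_mem θ hx]
  simp [conjFun]

theorem res_ind_normal (θ : N → ℂ) :
    (fun n : N => indFun N θ (n : G)) = (Nat.card N : ℂ)⁻¹ • ∑ x : G, conjFun N θ x := by
  funext n
  simp [ind_normal_coe, Finset.sum_apply]

theorem ind_conjFun (θ : N → ℂ) (g : G) : indFun N (conjFun N θ g) = indFun N θ := by
  funext a
  by_cases ha : a ∈ N
  · rw [show a = ((⟨a, ha⟩ : N) : G) from rfl, ind_normal_coe, ind_normal_coe]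
    congr 1
    refine Fintype.sum_equiv (Equiv.mulLeft g) _ _ fun x => ?_
    rw [conjFun_conjFun]
    rfl
  · rw [ind_normal_eq_zero N _ ha, ind_normal_eq_zero N _ ha]

omit [Fintype G] in
theorem inner_conjFun [Fintype N] (θ φ : N → ℂ) (g : G) :
    classInner (conjFun N θ g) (conjFun N φ g) = classInner θ φ := by
  simp only [classInner]
  congr 1
  refine Fintype.sum_equiv (MulAut.conjNormal g).toEquiv _ _ fun n => ?_
  simp only [conjFun, MulEquiv.toEquiv_eq_coe, EquivLike.coe_coe]
  have : (⟨g * n * g⁻¹, hN.conj_mem n n.2 g⟩ : N) = MulAut.conjNormal g n :=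
    Subtype.ext (MulAut.conjNormal_apply g n).symm
  rw [this]

theorem inner_ind_ind_normal [Fintype N] (θ φ : N → ℂ) :
    classInner (indFun N θ) (indFun N φ) =
      (Nat.card N : ℂ)⁻¹ * ∑ x : G, classInner (conjFun N θ x) φ := by
  rw [inner_ind_right N φ (isClassFunction_ind N θ), res_ind_normal, inner_smul_left,
    inner_sum_left]

end Normal

end Cfsg.Agent.CharInduced
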