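/-
The induced character is a character.
-/
import Mathlib
import Cfsg.Agent.Lib.CharInducedBasic
import Cfsg.Agent.Lib.CharBasic

set_option autoImplicit false

open scoped ComplexConjugate
open Finset

namespace Cfsg.Agent.CharInduced

universe u v

variable {G : Type u} [Group G]

section

variable (H : Subgroup G)

/-- The cocycle `σ(q)⁻¹ g σ(g⁻¹ q)` of a fixed choice of coset representatives. -/
noncomputable def indCocycle (g : G) (q : G ⧸ H) : H :=
  ⟨q.out⁻¹ * g * (g⁻¹ • q).out, by
    rw [mul_assoc, ← QuotientGroup.eq]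
    conv_rhs => rw [← smul_eq_mul, ← MulAction.Quotient.smul_mk]
    rw [QuotientGroup.out_eq', QuotientGroup.out_eq', smul_inv_smul]⟩

theorem indCocycle_mul (g k : G) (q : G ⧸ H) :
    indCocycle H (g * k) q = indCocycle H g q * indCocycle H k (g⁻¹ • q) := by
  ext
  simp only [indCocycle, Subgroup.coe_mul, mul_inv_rev, mul_smul]
  group

theorem indCocycle_one (q : G ⧸ H) : indCocycle H 1 q = 1 := by
  ext
  simp [indCocycle]

variable {H}
variable {V : Type v} [AddCommGroup V] [Module ℂ V]

/-- The induced representation on functions on the coset space. -/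
noncomputable def indRep (ρ : Representation ℂ H V) : Representation ℂ G (G ⧸ H → V) where
  toFun g :=
    { toFun := fun f q => ρ (indCocycle H g q) (f (g⁻¹ • q))
      map_add' := fun f₁ f₂ => by funext q; simp
      map_smul' := fun c f => by funext q; simp }
  map_one' := by
    refine LinearMap.ext fun f => funext fun q => ?_
    show ρ (indCocycle H 1 q) (f ((1 : G)⁻¹ • q)) = f q
    rw [indCocycle_one, map_one, inv_one, one_smul]
    rfl
  map_mul' g k := by
    refine LinearMap.ext fun f => funext fun q => ?_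
    show ρ (indCocycle H (g * k) q) (f ((g * k)⁻¹ • q)) =
      ρ (indCocycle H g q) (ρ (indCocycle H k (g⁻¹ • q)) (f (k⁻¹ • g⁻¹ • q)))
    rw [indCocycle_mul, map_mul, mul_inv_rev, mul_smul]
    rfl

theorem indRep_apply (ρ : Representation ℂ H V) (g : G) (f : G ⧸ H → V) (q : G ⧸ H) :
    indRep ρ g f q = ρ (indCocycle H g q) (f (g⁻¹ • q)) := rfl

theorem smul_inv_eq_iff_mem (g : G) (q : G ⧸ H) : g⁻¹ • q = q ↔ q.out⁻¹ * g * q.out ∈ H := by
  rw [inv_smul_eq_iff, mul_assoc, ← QuotientGroup.eq]
  conv_rhs => rw [← smul_eq_mul, ← MulAction.Quotient.smul_mk, QuotientGroup.out_eq']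

theorem indRep_character [Fintype G] [FiniteDimensional ℂ V] (ρ : Representation ℂ H V) :
    (indRep ρ).character = indFun H ρ.character := by
  classical
  have : Fintype (G ⧸ H) := Fintype.ofFinite _
  funext g
  rw [ind_eq_sum_quotient H (fun a h => ρ.char_conj a h)]
  let b := Module.finBasis ℂ V
  let B := Pi.basis (fun _ : G ⧸ H => b)
  show LinearMap.trace ℂ (G ⧸ H → V) (indRep ρ g) = _
  rw [LinearMap.trace_eq_matrix_trace ℂ B, Matrix.trace, Fintype.sum_sigma]
  refine Finset.sum_congr rfl fun q _ => ?_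
  simp only [Matrix.diag_apply, LinearMap.toMatrix_apply]
  have hB : ∀ i, B ⟨q, i⟩ = Pi.single q (b i) := fun i => Pi.basis_apply _ _
  have hr : ∀ (f : G ⧸ H → V) i, B.repr f ⟨q, i⟩ = b.repr (f q) i := fun f i =>
    Pi.basis_repr _ _ _
  simp only [hB, hr, indRep_apply]
  by_cases hq : g⁻¹ • q = q
  · rw [ext_zero_of_mem _ ((smul_inv_eq_iff_mem g q).1 hq)]
    rw [Representation.character, LinearMap.trace_eq_matrix_trace ℂ b, Matrix.trace]
    refine Finset.sum_congr rfl fun i _ => ?_
    have : indCocycle H g q = ⟨q.out⁻¹ * g * q.out, (smul_inv_eq_iff_mem g q).1 hq⟩ := by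
      ext; simp [indCocycle, hq]
    rw [this, congrArg (Pi.single q (b i)) hq, Pi.single_eq_same, Matrix.diag_apply,
      LinearMap.toMatrix_apply]
  · rw [ext_zero_of_not_mem _ fun h => hq ((smul_inv_eq_iff_mem g q).2 h)]
    refine Finset.sum_eq_zero fun i _ => ?_
    simp [Pi.single_eq_of_ne hq]

end

theorem isCharacter_ind [Fintype G] (H : Subgroup G) {θ : H → ℂ} (hθ : IsCharacter H θ) :
    IsCharacter G (indFun H θ) := by
  classical
  obtain ⟨n, ρ, rfl⟩ := hθ
  have : Fintype (G ⧸ H) := Fintype.ofFinite _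
  rw [← indRep_character ρ]
  exact CharBasic.isCharacter_of_rep _

end Cfsg.Agent.CharInduced
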