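/-
Elementary theory of Frobenius complements (no character theory): counting, the kernel as a set,
subgroups of dividing order, comparability of two complements, semidirect criterion.
-/
import Mathlib
import Cfsg.Prelude.Def_Solvable

open scoped Pointwise

namespace Cfsg.Agent.FrobeniusBasic

variable {G : Type*} [Group G] {H : Subgroup G}

theorem mem_conj_smul_iff {g x : G} {H : Subgroup G} :
    x ∈ MulAut.conj g • H ↔ g⁻¹ * x * g ∈ H := by
  rw [Subgroup.mem_pointwise_smul_iff_inv_smul_mem, ← map_inv, MulAut.smul_def, MulAut.conj_apply,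
    inv_inv]

/-- The TI property, elementwise. -/
theorem mem_of_conj_mem (hH : Cfsg.IsFrobeniusComplement H) {g x : G} (hx : x ∈ H) (hx1 : x ≠ 1)
    (hc : g⁻¹ * x * g ∈ H) : g ∈ H := by
  by_contra hg
  have h : x ∈ H ⊓ (MulAut.conj g • H) := ⟨hx, mem_conj_smul_iff.2 hc⟩
  rw [hH.2.2 g hg, Subgroup.mem_bot] at h
  exact hx1 h

theorem mem_of_conj_mem' (hH : Cfsg.IsFrobeniusComplement H) {g x : G} (hx : x ∈ H) (hx1 : x ≠ 1)
    (hc : g * x * g⁻¹ ∈ H) : g ∈ H := by
  have : g⁻¹⁻¹ * x * g⁻¹ ∈ H := by simpa using hc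
  simpa using H.inv_mem (mem_of_conj_mem hH hx hx1 this)

theorem isFrobeniusComplement_of_ti (hbot : H ≠ ⊥) (htop : H ≠ ⊤)
    (h : ∀ g x : G, x ∈ H → x ≠ 1 → g⁻¹ * x * g ∈ H → g ∈ H) : Cfsg.IsFrobeniusComplement H := by
  refine ⟨hbot, htop, fun g hg => ?_⟩
  rw [Subgroup.eq_bot_iff_forall]
  intro x hx
  by_contra hx1
  exact hg (h g x hx.1 hx1 (mem_conj_smul_iff.1 hx.2))

theorem centralizer_le (hH : Cfsg.IsFrobeniusComplement H) {x : G} (hx : x ∈ H) (hx1 : x ≠ 1) :
    Subgroup.centralizer ({x} : Set G) ≤ H := by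
  intro g hg
  refine mem_of_conj_mem' hH hx hx1 ?_
  rw [Subgroup.mem_centralizer_iff] at hg
  rwa [← hg x rfl, mul_inv_cancel_right]

theorem normalizer_eq (hH : Cfsg.IsFrobeniusComplement H) :
    Subgroup.normalizer (H : Set G) = H := by
  refine le_antisymm (fun g hg => ?_) Subgroup.le_normalizer
  obtain ⟨x, hx, hx1⟩ := H.bot_or_exists_ne_one.resolve_left hH.1
  exact mem_of_conj_mem' hH hx hx1 ((Subgroup.mem_normalizer_iff.1 hg x).1 hx)

theorem conj_smul (hH : Cfsg.IsFrobeniusComplement H) (a : G) :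
    Cfsg.IsFrobeniusComplement (MulAut.conj a • H) := by
  refine isFrobeniusComplement_of_ti ?_ ?_ ?_
  · intro h
    refine hH.1 (MulAction.injective (MulAut.conj a) ?_)
    simpa using h
  · intro h
    apply hH.2.1
    rw [Subgroup.eq_top_iff'] at h ⊢
    intro x
    have := mem_conj_smul_iff.1 (h (a * x * a⁻¹))
    group at this
    simpa using this
  · intro g x hx hx1 hc
    rw [mem_conj_smul_iff] at hx hc ⊢
    have hx1' : a⁻¹ * x * a ≠ 1 := by
      intro h
      apply hx1
      have : x = a * (a⁻¹ * x * a) * a⁻¹ := by group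
      rw [this, h]; group
    refine mem_of_conj_mem hH hx hx1' ?_
    have : (a⁻¹ * g * a)⁻¹ * (a⁻¹ * x * a) * (a⁻¹ * g * a) = a⁻¹ * (g⁻¹ * x * g) * a := by group
    rwa [this]

theorem map_equiv {G' : Type*} [Group G'] (e : G ≃* G') (hH : Cfsg.IsFrobeniusComplement H) :
    Cfsg.IsFrobeniusComplement (H.map (e : G →* G')) := by
  refine isFrobeniusComplement_of_ti ?_ ?_ ?_
  · intro h
    exact hH.1 ((Subgroup.map_eq_bot_iff_of_injective H e.injective).1 h)
  · intro h
    apply hH.2.1
    rw [Subgroup.eq_top_iff'] at h ⊢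
    intro x
    obtain ⟨y, hy, hyx⟩ := h (e x)
    exact e.injective hyx ▸ hy
  · intro g x hx hx1 hc
    obtain ⟨x, hx, rfl⟩ := hx
    obtain ⟨g, rfl⟩ := e.surjective g
    obtain ⟨y, hy, hye⟩ := hc
    refine ⟨g, mem_of_conj_mem hH hx (fun h => hx1 (by simp [h])) ?_, rfl⟩
    have : e y = e (g⁻¹ * x * g) := by simpa using hye
    exact e.injective this ▸ hy

/-- The non-identity elements conjugate into `H`. -/
def conjClosure (H : Subgroup G) : Set G := {x | x ≠ 1 ∧ ∃ g : G, g⁻¹ * x * g ∈ H}

theorem mem_conjClosure {H : Subgroup G} {x : G} :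
    x ∈ conjClosure H ↔ x ≠ 1 ∧ ∃ g : G, g⁻¹ * x * g ∈ H := Iff.rfl

theorem frobeniusKernel_eq_compl (H : Subgroup G) : Cfsg.frobeniusKernel H = (conjClosure H)ᶜ := by
  ext x
  simp only [Cfsg.frobeniusKernel, conjClosure, Set.mem_ofPred_eq, Set.mem_compl_iff,
    mem_conj_smul_iff, not_and_or, not_not, not_exists]

theorem one_mem_kernel (H : Subgroup G) : (1 : G) ∈ Cfsg.frobeniusKernel H := Or.inl rfl

theorem conj_mem_kernel_iff (H : Subgroup G) (g x : G) :
    g * x * g⁻¹ ∈ Cfsg.frobeniusKernel H ↔ x ∈ Cfsg.frobeniusKernel H := by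
  simp only [Cfsg.frobeniusKernel, Set.mem_ofPred_eq, mem_conj_smul_iff]
  refine or_congr conj_eq_one_iff ⟨fun h a ha => h (g * a) ?_, fun h a ha => h (g⁻¹ * a) ?_⟩
  · have : (g * a)⁻¹ * (g * x * g⁻¹) * (g * a) = a⁻¹ * x * a := by group
    rwa [this]
  · have : (g⁻¹ * a)⁻¹ * x * (g⁻¹ * a) = a⁻¹ * (g * x * g⁻¹) * a := by group
    rwa [this]

theorem kernel_inter (x : G) (hx : x ∈ H) (hk : x ∈ Cfsg.frobeniusKernel H) : x = 1 := by
  refine hk.resolve_right fun h => h 1 ?_
  simpa using hx

/-- A subgroup that contains every element outside it ... : normal subgroups meeting `H`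
trivially lie in the kernel. -/
theorem normal_le_kernel (N : Subgroup G) [N.Normal] (hd : Disjoint N H) :
    (N : Set G) ⊆ Cfsg.frobeniusKernel H := by
  intro x hx
  refine or_iff_not_imp_left.2 fun hx1 g hg => hx1 ?_
  rw [mem_conj_smul_iff] at hg
  have h : g⁻¹ * x * g ∈ N := Subgroup.Normal.conj_mem' ‹N.Normal› x hx g
  have h1 := Subgroup.disjoint_def.1 hd h hg
  simpa [mul_assoc] using congrArg (fun y => g * y * g⁻¹) h1

variable [Finite G]

/-- Parametrisation of `conjClosure H` by a coset and a non-identity element of `H`. -/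
theorem card_conjClosure_inter (hH : Cfsg.IsFrobeniusComplement H) (T : Set G)
    (hT : ∀ g x : G, g * x * g⁻¹ ∈ T ↔ x ∈ T) :
    (conjClosure H ∩ T).ncard = H.index * {x : G | x ∈ H ∧ x ≠ 1 ∧ x ∈ T}.ncard := by
  classical
  let f : (G ⧸ H) × {x : G // x ∈ H ∧ x ≠ 1 ∧ x ∈ T} → G :=
    fun p => p.1.out * (p.2 : G) * (p.1.out)⁻¹
  have hf : Function.Injective f := by
    rintro ⟨q, x, hx, hx1, hxT⟩ ⟨r, y, hy, hy1, hyT⟩ h
    change q.out * x * (q.out)⁻¹ = r.out * y * (r.out)⁻¹ at h
    have hqr : q = r := by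
      rw [← QuotientGroup.out_eq' q, ← QuotientGroup.out_eq' r, QuotientGroup.eq]
      refine mem_of_conj_mem hH hx hx1 ?_
      have e : (q.out⁻¹ * r.out)⁻¹ * x * (q.out⁻¹ * r.out) =
          r.out⁻¹ * (q.out * x * q.out⁻¹) * r.out := by group
      rw [e, h]
      simpa [mul_assoc] using hy
    subst hqr
    have hxy : x = y := by simpa using h
    subst hxy
    rfl
  have hr : Set.range f = conjClosure H ∩ T := by
    ext x
    constructor
    · rintro ⟨⟨q, y, hy, hy1, hyT⟩, rfl⟩
      refine ⟨⟨fun h => hy1 (conj_eq_one_iff.1 h), q.out, ?_⟩, (hT _ _).2 hyT⟩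
      simpa [f, mul_assoc] using hy
    · rintro ⟨⟨hx1, g, hg⟩, hxT⟩
      obtain ⟨h, hh⟩ := QuotientGroup.mk_out_eq_mul H g
      refine ⟨⟨(g : G ⧸ H), (g * h)⁻¹ * x * (g * h), ?_, ?_, ?_⟩, ?_⟩
      · have : (g * (h : G))⁻¹ * x * (g * h) = (h : G)⁻¹ * (g⁻¹ * x * g) * h := by group
        rw [this]
        exact H.mul_mem (H.mul_mem (H.inv_mem h.2) hg) h.2
      · intro e
        apply hx1
        have : x = (g * h) * ((g * (h : G))⁻¹ * x * (g * h)) * (g * (h : G))⁻¹ := by group
        rw [this, e]; group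
      · rw [← hT (g * h)]
        simpa [mul_assoc] using hxT
      · simp only [f, hh]
        group
  rw [← hr, Set.ncard_range_of_injective hf, Nat.card_prod]
  rfl

theorem ncard_ne_one (H : Subgroup G) : {x : G | x ∈ H ∧ x ≠ 1}.ncard = Nat.card H - 1 := by
  have : {x : G | x ∈ H ∧ x ≠ 1} = (H : Set G) \ {1} := by ext x; simp
  rw [this, Set.ncard_sdiff_singleton_of_mem H.one_mem, ← Nat.card_coe_set_eq]
  rfl

theorem card_conjClosure (hH : Cfsg.IsFrobeniusComplement H) :
    (conjClosure H).ncard = H.index * (Nat.card H - 1) := by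
  have := card_conjClosure_inter hH Set.univ (by simp)
  simpa [ncard_ne_one] using this

theorem card_conjClosure_add (hH : Cfsg.IsFrobeniusComplement H) :
    (conjClosure H).ncard + H.index = Nat.card G := by
  rw [card_conjClosure hH]
  have hpos : 0 < Nat.card H := Nat.card_pos
  calc H.index * (Nat.card H - 1) + H.index = H.index * (Nat.card H - 1 + 1) := by ring
    _ = Nat.card G := by rw [Nat.sub_add_cancel hpos, Subgroup.index_mul_card]

theorem two_mul_index_le (hH : H ≠ ⊥) : 2 * H.index ≤ Nat.card G := by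
  rw [← H.index_mul_card, Nat.mul_comm]
  exact Nat.mul_le_mul_left _ (H.one_lt_card_iff_ne_bot.2 hH)

theorem card_frobeniusKernel (hH : Cfsg.IsFrobeniusComplement H) :
    (Cfsg.frobeniusKernel H).ncard = H.index := by
  have h1 := card_conjClosure_add hH
  have h2 := Set.ncard_add_ncard_compl (conjClosure H)
  rw [frobeniusKernel_eq_compl]
  omega

theorem natCard_frobeniusKernel (hH : Cfsg.IsFrobeniusComplement H) :
    Nat.card (Cfsg.frobeniusKernel H) = H.index :=
  (Nat.card_coe_set_eq _).trans (card_frobeniusKernel hH)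

/-- A group acting freely on a finite type has order dividing its cardinality. -/
theorem card_dvd_of_free {M α : Type*} [Group M] [MulAction M α] [Finite α]
    (hfree : ∀ (m : M) (a : α), m • a = a → m = 1) : Nat.card M ∣ Nat.card α := by
  have e : α ≃ MulAction.orbitRel.Quotient M α × M :=
    MulAction.selfEquivOrbitsQuotientProd fun a =>
      (Subgroup.eq_bot_iff_forall _).2 fun m hm => hfree m a hm
  exact ⟨_, (Nat.card_congr e).trans ((Nat.card_prod _ _).trans (Nat.mul_comm _ _))⟩

theorem card_dvd_index_sub_one (hH : Cfsg.IsFrobeniusComplement H) :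
    Nat.card H ∣ H.index - 1 := by
  classical
  let S : Set G := Cfsg.frobeniusKernel H \ {1}
  let _ : MulAction H S :=
    { smul := fun h x => ⟨(h : G) * x * (h : G)⁻¹,
        (conj_mem_kernel_iff H _ _).2 x.2.1, fun e => x.2.2 (conj_eq_one_iff.1 e)⟩
      one_smul := fun x => Subtype.ext (by
        change ((1 : H) : G) * x * ((1 : H) : G)⁻¹ = x
        simp)
      mul_smul := fun a b x => Subtype.ext (by
        change ((a * b : H) : G) * x * ((a * b : H) : G)⁻¹ =
          (a : G) * ((b : G) * x * (b : G)⁻¹) * (a : G)⁻¹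
        push_cast; group) }
  have hS : Nat.card S = H.index - 1 := by
    rw [Nat.card_coe_set_eq, Set.ncard_sdiff_singleton_of_mem (one_mem_kernel H),
      card_frobeniusKernel hH]
  rw [← hS]
  refine card_dvd_of_free fun h x e => ?_
  by_contra h1
  have e' : (h : G) * x * (h : G)⁻¹ = x := congrArg Subtype.val e
  refine x.2.2 (kernel_inter (H := H) _ (centralizer_le hH h.2 (fun e => h1 (Subtype.ext e)) ?_) x.2.1)
  rw [Subgroup.mem_centralizer_iff]
  rintro y rfl
  exact mul_inv_eq_iff_eq_mul.1 e'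

theorem coprime_card_index (hH : Cfsg.IsFrobeniusComplement H) :
    (Nat.card H).Coprime H.index := by
  have hpos : 1 ≤ H.index := Nat.one_le_iff_ne_zero.2 H.index_ne_zero_of_finite
  refine Nat.Coprime.coprime_dvd_left (card_dvd_index_sub_one hH) ?_
  rw [Nat.coprime_self_sub_left hpos]
  exact Nat.coprime_one_left _

theorem index_mod_card (hH : Cfsg.IsFrobeniusComplement H) :
    H.index % Nat.card H = 1 % Nat.card H :=
  (Nat.ModEq.symm ((Nat.modEq_iff_dvd' (Nat.one_le_iff_ne_zero.2 H.index_ne_zero_of_finite)).2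
    (card_dvd_index_sub_one hH)))

/-- Sylow: an element of prime order dividing `|H|` is conjugate into `H`. -/
theorem exists_conj_mem_of_prime (hH : Cfsg.IsFrobeniusComplement H) {p : ℕ} [Fact p.Prime]
    (hp : p ∣ Nat.card H) {x : G} (hx : orderOf x = p) : ∃ g : G, g⁻¹ * x * g ∈ H := by
  obtain ⟨P⟩ : Nonempty (Sylow p H) := inferInstance
  have hcard : Nat.card ((P : Subgroup H).map H.subtype) = p ^ (Nat.card G).factorization p := by
    rw [Nat.card_congr ((P : Subgroup H).equivMapOfInjective _ H.subtype_injective).toEquiv.symm,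
      P.card_eq_multiplicity, ← H.card_mul_index,
      Nat.factorization_mul Nat.card_pos.ne' H.index_ne_zero_of_finite]
    have : H.index.factorization p = 0 := Nat.factorization_eq_zero_of_not_dvd fun h =>
      (Fact.out : p.Prime).not_dvd_one (Nat.Coprime.gcd_eq_one (coprime_card_index hH) ▸
        Nat.dvd_gcd hp h)
    simp [this]
  let Q : Sylow p G := Sylow.ofCard _ hcard
  have hxp : IsPGroup p (Subgroup.zpowers x) :=
    IsPGroup.of_card (n := 1) (by rw [Nat.card_zpowers, hx, pow_one])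
  obtain ⟨R, hR⟩ := hxp.exists_le_sylow
  obtain ⟨g, hg⟩ := MulAction.exists_smul_eq G Q R
  refine ⟨g, ?_⟩
  have hxR : x ∈ ((g • Q : Sylow p G) : Subgroup G) := hg ▸ hR (Subgroup.mem_zpowers x)
  rw [Sylow.coe_subgroup_smul, mem_conj_smul_iff] at hxR
  exact Subgroup.map_subtype_le _ hxR

theorem coprime_orderOf (hH : Cfsg.IsFrobeniusComplement H) {x : G}
    (hx : x ∈ Cfsg.frobeniusKernel H) : (orderOf x).Coprime (Nat.card H) := by
  by_contra h
  obtain ⟨p, hp, hpx, hpH⟩ := Nat.Prime.not_coprime_iff_dvd.1 h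
  have := Fact.mk hp
  have hpos := (isOfFinOrder_of_finite x).orderOf_pos
  have hy : orderOf (x ^ (orderOf x / p)) = p := orderOf_pow_orderOf_div hpos.ne' hpx
  obtain ⟨g, hg⟩ := exists_conj_mem_of_prime hH hpH hy
  have hne : g⁻¹ * x ^ (orderOf x / p) * g ≠ 1 := by
    intro e
    have : x ^ (orderOf x / p) = 1 := by
      simpa [mul_assoc] using congrArg (fun z => g * z * g⁻¹) e
    rw [this, orderOf_one] at hy
    exact hp.ne_one hy.symm
  have hmem : g⁻¹ * x * g ∈ H := by
    refine centralizer_le hH hg hne ?_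
    rw [Subgroup.mem_centralizer_iff]
    rintro y rfl
    have := ((Commute.refl x).pow_left (orderOf x / p)).eq
    calc g⁻¹ * x ^ (orderOf x / p) * g * (g⁻¹ * x * g)
        = g⁻¹ * (x ^ (orderOf x / p) * x) * g := by group
      _ = g⁻¹ * x * g * (g⁻¹ * x ^ (orderOf x / p) * g) := by rw [this]; group
  rcases hx with rfl | hx
  · exact hp.ne_one (by simpa using hpx)
  · exact hx g (mem_conj_smul_iff.2 hmem)

/-- An element whose order divides `|H|` is conjugate into `H`. -/
theorem exists_conj_mem_of_dvd (hH : Cfsg.IsFrobeniusComplement H) {x : G}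
    (hx : orderOf x ∣ Nat.card H) : ∃ g : G, g⁻¹ * x * g ∈ H := by
  by_cases h1 : x = 1
  · exact ⟨1, by simp [h1]⟩
  by_contra hne
  have hk : x ∈ Cfsg.frobeniusKernel H := by
    rw [frobeniusKernel_eq_compl]
    exact fun h => hne h.2
  have := coprime_orderOf hH hk
  exact h1 (orderOf_eq_one_iff.1 (Nat.Coprime.eq_one_of_dvd this hx))

/-- If the non-trivial elements of `L` lie in conjugates of `H`, then so does `L`. -/
theorem exists_le_conj_of_forall (hH : Cfsg.IsFrobeniusComplement H) (L : Subgroup G)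
    (hL : ∀ x ∈ L, ∃ g : G, g⁻¹ * x * g ∈ H) : ∃ g : G, L ≤ MulAut.conj g • H := by
  classical
  rcases L.bot_or_exists_ne_one with rfl | ⟨x₀, hx₀, hx₀1⟩
  · exact ⟨1, bot_le⟩
  obtain ⟨a, ha⟩ := hL x₀ hx₀
  by_contra hne
  push Not at hne
  set E : G → Subgroup L := fun g => (MulAut.conj g • H).subgroupOf L with hEdef
  have hmemE : ∀ (g : G) (x : L), x ∈ E g ↔ g⁻¹ * (x : G) * g ∈ H := fun g x => by
    simp [E, Subgroup.mem_subgroupOf, mem_conj_smul_iff]
  have hfc : ∀ g, E g ≠ ⊥ → Cfsg.IsFrobeniusComplement (E g) := by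
    intro g hg
    refine isFrobeniusComplement_of_ti hg ?_ ?_
    · exact fun h => hne g (Subgroup.subgroupOf_eq_top.1 h)
    · intro l x hx hx1 hc
      rw [Subgroup.mem_subgroupOf] at hx hc ⊢
      exact mem_of_conj_mem (conj_smul hH g) hx (fun h => hx1 (Subtype.ext h)) hc
  have hEa : E a ≠ ⊥ := by
    intro h
    have := (hmemE a ⟨x₀, hx₀⟩).2 ha
    rw [h, Subgroup.mem_bot] at this
    exact hx₀1 (congrArg Subtype.val this)
  have hha := card_conjClosure_add (hfc a hEa)
  have h2a := two_mul_index_le hEa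
  have hlt : (conjClosure (E a)).ncard + 1 < Nat.card L := by
    have h1 : 1 < (E a).index := Subgroup.one_lt_index_of_ne_top (hfc a hEa).2.1
    omega
  have hex : ∃ x : L, x ≠ 1 ∧ x ∉ conjClosure (E a) := by
    by_contra h
    push Not at h
    have hsub : ((Set.univ : Set L) \ {1}) ⊆ conjClosure (E a) := fun x hx => h x hx.2
    have := Set.ncard_le_ncard hsub
    rw [Set.ncard_sdiff_singleton_of_mem (Set.mem_univ 1), Set.ncard_univ] at this
    omega
  obtain ⟨x₁, hx₁1, hx₁⟩ := hex
  obtain ⟨b, hb⟩ := hL x₁ x₁.2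
  have hEb : E b ≠ ⊥ := by
    intro h
    have := (hmemE b x₁).2 hb
    rw [h, Subgroup.mem_bot] at this
    exact hx₁1 this
  have hhb := card_conjClosure_add (hfc b hEb)
  have h2b := two_mul_index_le hEb
  have hdisj : Disjoint (conjClosure (E a)) (conjClosure (E b)) := by
    rw [Set.disjoint_left]
    rintro y ⟨hy1, l, hl⟩ ⟨-, m, hm⟩
    rw [hmemE] at hl hm
    -- both `(l a)⁻¹ y (l a)` and `(m b)⁻¹ y (m b)` lie in `H`
    push_cast at hl hm
    have hy1' : (y : G) ≠ 1 := fun h => hy1 (Subtype.ext h)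
    have hl1 : a⁻¹ * ((l : G)⁻¹ * y * l) * a ≠ 1 := by
      intro h
      apply hy1'
      have : (y : G) = (l * a) * (a⁻¹ * ((l : G)⁻¹ * y * l) * a) * (l * a)⁻¹ := by group
      rw [this, h]; group
    have hmem : ((l : G) * a)⁻¹ * (m * b) ∈ H := by
      refine mem_of_conj_mem hH hl hl1 ?_
      have : (((l : G) * a)⁻¹ * (m * b))⁻¹ * (a⁻¹ * ((l : G)⁻¹ * y * l) * a) *
          (((l : G) * a)⁻¹ * (m * b)) = b⁻¹ * ((m : G)⁻¹ * y * m) * b := by group
      rwa [this]
    -- hence `x₁` is conjugate into `E a`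
    apply hx₁
    refine ⟨hx₁1, m⁻¹ * l, (hmemE _ _).2 ?_⟩
    push_cast
    set k := ((l : G) * a)⁻¹ * (m * b) with hk
    have : a⁻¹ * (((m : G)⁻¹ * l)⁻¹ * x₁ * ((m : G)⁻¹ * l)) * a = k * (b⁻¹ * x₁ * b) * k⁻¹ := by
      rw [hk]; group
    rw [this]
    exact H.mul_mem (H.mul_mem hmem hb) (H.inv_mem hmem)
  have hle : (conjClosure (E a) ∪ conjClosure (E b)).ncard ≤ ((Set.univ : Set L) \ {1}).ncard :=
    Set.ncard_le_ncard fun y hy => ⟨trivial, hy.elim (·.1) (·.1)⟩
  rw [Set.ncard_union_eq hdisj, Set.ncard_sdiff_singleton_of_mem (Set.mem_univ 1),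
    Set.ncard_univ] at hle
  omega

theorem exists_le_conj_of_card_dvd (hH : Cfsg.IsFrobeniusComplement H) (L : Subgroup G)
    (hL : Nat.card L ∣ Nat.card H) : ∃ g : G, L ≤ MulAut.conj g • H :=
  exists_le_conj_of_forall hH L fun _ hx =>
    exists_conj_mem_of_dvd hH ((Subgroup.orderOf_dvd_natCard L hx).trans hL)

/-- Of two Frobenius complements one is contained in a conjugate of the other. -/
theorem exists_le_conj_or (H₁ : Subgroup G) (hH : Cfsg.IsFrobeniusComplement H)
    (h₁ : Cfsg.IsFrobeniusComplement H₁) :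
    (∃ g : G, H ≤ MulAut.conj g • H₁) ∨ ∃ g : G, H₁ ≤ MulAut.conj g • H := by
  classical
  by_contra hcon
  push Not at hcon
  obtain ⟨hA, hB⟩ := hcon
  set E : G → Subgroup H := fun g => (MulAut.conj g • H₁).subgroupOf H
  have hmemE : ∀ (g : G) (x : H), x ∈ E g ↔ g⁻¹ * (x : G) * g ∈ H₁ := fun g x => by
    simp [E, Subgroup.mem_subgroupOf, mem_conj_smul_iff]
  have hfc : ∀ g, E g ≠ ⊥ → Cfsg.IsFrobeniusComplement (E g) := by
    intro g hg
    refine isFrobeniusComplement_of_ti hg ?_ ?_
    · exact fun h => hA g (Subgroup.subgroupOf_eq_top.1 h)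
    · intro l x hx hx1 hc
      rw [Subgroup.mem_subgroupOf] at hx hc ⊢
      exact mem_of_conj_mem (conj_smul h₁ g) hx (fun h => hx1 (Subtype.ext h)) hc
  have hU := card_conjClosure_add hH
  have hU₁ := card_conjClosure_add h₁
  have hover : (conjClosure H ∩ conjClosure H₁).ncard =
      H.index * {x : G | x ∈ H ∧ x ≠ 1 ∧ x ∈ conjClosure H₁}.ncard := by
    refine card_conjClosure_inter hH _ fun g x => ?_
    simp only [mem_conjClosure, ne_eq, conj_eq_one_iff]
    refine and_congr_right fun _ => ⟨fun ⟨a, ha⟩ => ⟨g⁻¹ * a, ?_⟩, fun ⟨a, ha⟩ => ⟨g * a, ?_⟩⟩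
    · have : (g⁻¹ * a)⁻¹ * x * (g⁻¹ * a) = a⁻¹ * (g * x * g⁻¹) * a := by group
      rwa [this]
    · have : (g * a)⁻¹ * (g * x * g⁻¹) * (g * a) = a⁻¹ * x * a := by group
      rwa [this]
  have h2 := two_mul_index_le hH.1
  have h2₁ := two_mul_index_le h₁.1
  have hun := Set.ncard_union_add_ncard_inter (conjClosure H) (conjClosure H₁)
  have hle : (conjClosure H ∪ conjClosure H₁).ncard ≤ ((Set.univ : Set G) \ {1}).ncard :=
    Set.ncard_le_ncard fun y hy => ⟨trivial, hy.elim (·.1) (·.1)⟩
  rw [Set.ncard_sdiff_singleton_of_mem (Set.mem_univ 1), Set.ncard_univ] at hle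
  have hpos : 0 < Nat.card G := Nat.card_pos
  by_cases hsome : ∃ g, E g ≠ ⊥
  · obtain ⟨a, hEa⟩ := hsome
    set e := E a with he
    have hEfc : Cfsg.IsFrobeniusComplement e := hfc a hEa
    have hset : {x : G | x ∈ H ∧ x ≠ 1 ∧ x ∈ conjClosure H₁}.ncard = (conjClosure e).ncard := by
      have : {x : G | x ∈ H ∧ x ≠ 1 ∧ x ∈ conjClosure H₁} = Subtype.val '' conjClosure e := by
        ext x
        constructor
        · rintro ⟨hx, hx1, -, b, hb⟩
          refine ⟨⟨x, hx⟩, ?_, rfl⟩
          have hEb : E b ≠ ⊥ := by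
            intro h
            have := (hmemE b ⟨x, hx⟩).2 hb
            rw [h, Subgroup.mem_bot] at this
            exact hx1 (congrArg Subtype.val this)
          refine ⟨fun h => hx1 (congrArg Subtype.val h), ?_⟩
          by_contra hno
          push Not at hno
          have hfb := hfc b hEb
          have hda := card_conjClosure_add hEfc
          have hdb := card_conjClosure_add hfb
          have h2a : 2 * e.index ≤ Nat.card H := two_mul_index_le hEa
          have h2b := two_mul_index_le hEb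
          have hdisj : Disjoint (conjClosure e) (conjClosure (E b)) := by
            rw [Set.disjoint_left]
            rintro y ⟨hy1, l, hl⟩ ⟨-, m, hm⟩
            rw [he, hmemE] at hl
            rw [hmemE] at hm
            push_cast at hl hm
            have hl1 : a⁻¹ * ((l : G)⁻¹ * y * l) * a ≠ 1 := by
              intro h
              apply hy1
              apply Subtype.ext
              have : (y : G) = (l * a) * (a⁻¹ * ((l : G)⁻¹ * y * l) * a) * (l * a)⁻¹ := by group
              rw [this, h]; push_cast; group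
            have hmem : ((l : G) * a)⁻¹ * (m * b) ∈ H₁ := by
              refine mem_of_conj_mem h₁ hl hl1 ?_
              have : (((l : G) * a)⁻¹ * (m * b))⁻¹ * (a⁻¹ * ((l : G)⁻¹ * y * l) * a) *
                  (((l : G) * a)⁻¹ * (m * b)) = b⁻¹ * ((m : G)⁻¹ * y * m) * b := by group
              rwa [this]
            apply hno (m⁻¹ * l)
            rw [he, hmemE]
            push_cast
            set k := ((l : G) * a)⁻¹ * (m * b) with hk
            have : a⁻¹ * (((m : G)⁻¹ * l)⁻¹ * x * ((m : G)⁻¹ * l)) * a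
                = k * (b⁻¹ * x * b) * k⁻¹ := by
              rw [hk]; group
            rw [this]
            exact H₁.mul_mem (H₁.mul_mem hmem hb) (H₁.inv_mem hmem)
          have hle2 : (conjClosure e ∪ conjClosure (E b)).ncard ≤
              ((Set.univ : Set H) \ {1}).ncard :=
            Set.ncard_le_ncard fun y hy => ⟨trivial, hy.elim (·.1) (·.1)⟩
          rw [Set.ncard_union_eq hdisj, Set.ncard_sdiff_singleton_of_mem (Set.mem_univ 1),
            Set.ncard_univ] at hle2
          have hposH : 0 < Nat.card H := Nat.card_pos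
          omega
        · rintro ⟨y, ⟨hy1, l, hl⟩, rfl⟩
          rw [he, hmemE] at hl
          have hy1' : (y : G) ≠ 1 := fun h => hy1 (Subtype.ext h)
          refine ⟨y.2, hy1', hy1', l * a, ?_⟩
          push_cast at hl
          have : ((l : G) * a)⁻¹ * y * (l * a) = a⁻¹ * ((l : G)⁻¹ * y * l) * a := by group
          rwa [this]
      rw [this, Set.ncard_image_of_injective _ Subtype.val_injective]
    rw [hset] at hover
    have hde := card_conjClosure_add hEfc
    have he2 : 2 ≤ e.index := Subgroup.one_lt_index_of_ne_top hEfc.2.1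
    -- `[G : e]` dominates twice each of the two indices
    have hE₁ : 2 * H₁.index ≤ H.index * e.index := by
      have hcardG : H.index * e.index * Nat.card e = Nat.card G := by
        rw [mul_assoc, e.index_mul_card, H.index_mul_card]
      have hlt : (e.map H.subtype) < MulAut.conj a • H₁ := by
        refine lt_of_le_of_ne ?_ ?_
        · rintro _ ⟨y, hy, rfl⟩
          exact Subgroup.mem_subgroupOf.1 hy
        · intro h
          refine hB a⁻¹ fun z hz => ?_
          have : MulAut.conj a • z ∈ MulAut.conj a • H₁ := Subgroup.smul_mem_pointwise_smul _ _ _ hz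
          rw [← h] at this
          obtain ⟨y, -, hy⟩ := this
          rw [mem_conj_smul_iff, inv_inv]
          have : a * z * a⁻¹ = y := by simpa using hy.symm
          rw [this]
          exact y.2
      have hc1 : Nat.card (MulAut.conj a • H₁ : Subgroup G) = Nat.card H₁ :=
        (Nat.card_congr (Subgroup.equivSMul (MulAut.conj a) H₁).toEquiv).symm
      have hc2 : Nat.card (e.map H.subtype) = Nat.card e :=
        (Nat.card_congr (e.equivMapOfInjective _ H.subtype_injective).toEquiv).symm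
      have hdvd := Subgroup.card_dvd_of_le hlt.le
      have hne : Nat.card (e.map H.subtype) ≠ Nat.card (MulAut.conj a • H₁ : Subgroup G) :=
        fun h => hlt.ne (Subgroup.eq_of_le_of_card_ge hlt.le h.ge)
      rw [hc1, hc2] at hdvd hne
      obtain ⟨t, ht⟩ := hdvd
      have ht2 : 2 ≤ t := by
        rcases t with _ | _ | t
        · simp at ht
          exact absurd ht Nat.card_pos.ne'
        · simp at ht
          exact absurd ht.symm hne
        · omega
      have hG₁ := H₁.index_mul_card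
      rw [ht, ← hcardG] at hG₁
      have : H₁.index * t * Nat.card e = H.index * e.index * Nat.card e := by rw [← hG₁]; ring
      have hh := Nat.eq_of_mul_eq_mul_right Nat.card_pos this
      calc 2 * H₁.index ≤ t * H₁.index := Nat.mul_le_mul_right _ ht2
        _ = _ := by rw [mul_comm, hh]
    have hE₂ : 2 * H.index ≤ H.index * e.index := by
      rw [mul_comm]; exact Nat.mul_le_mul_left _ he2
    have hmul : H.index * (conjClosure e).ncard + H.index * e.index = Nat.card G := by
      rw [← mul_add, hde, H.index_mul_card]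
    omega
  · push Not at hsome
    have : {x : G | x ∈ H ∧ x ≠ 1 ∧ x ∈ conjClosure H₁} = ∅ := by
      ext x
      simp only [Set.mem_ofPred_eq, Set.mem_empty_iff_false, iff_false]
      rintro ⟨hx, hx1, -, b, hb⟩
      have := (hmemE b ⟨x, hx⟩).2 hb
      rw [hsome b, Subgroup.mem_bot] at this
      exact hx1 (congrArg Subtype.val this)
    rw [this, Set.ncard_empty, mul_zero] at hover
    omega

section semidirect

variable {K : Subgroup G}

theorem fpf_of_complement (hH : Cfsg.IsFrobeniusComplement H) (hd : Disjoint K H) :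
    ∀ h ∈ H, h ≠ 1 → K ⊓ Subgroup.centralizer ({h} : Set G) = ⊥ := by
  intro h hh h1
  rw [Subgroup.eq_bot_iff_forall]
  exact fun k hk => Subgroup.disjoint_def.1 hd hk.1 (centralizer_le hH hh h1 hk.2)

theorem isFrobeniusComplement_of_fpf [K.Normal] (hc : Subgroup.IsComplement' K H) (hK : K ≠ ⊥)
    (hH : H ≠ ⊥) (hfpf : ∀ h ∈ H, h ≠ 1 → K ⊓ Subgroup.centralizer ({h} : Set G) = ⊥) :
    Cfsg.IsFrobeniusComplement H := by
  have hd := hc.disjoint
  refine isFrobeniusComplement_of_ti hH ?_ ?_
  · intro h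
    rw [h] at hd
    exact hK (disjoint_top.1 hd)
  · intro g x hx hx1 hg
    obtain ⟨⟨⟨k, hk⟩, ⟨h', hh'⟩⟩, hkh⟩ := hc.2 g
    simp only at hkh
    subst hkh
    have hx' : k⁻¹ * x * k ∈ H := by
      have : k⁻¹ * x * k = h' * ((k * h')⁻¹ * x * (k * h')) * h'⁻¹ := by group
      rw [this]
      exact H.mul_mem (H.mul_mem hh' hg) (H.inv_mem hh')
    have h1 : k⁻¹ * x * k * x⁻¹ = 1 := by
      refine Subgroup.disjoint_def.1 hd ?_ (H.mul_mem hx' (H.inv_mem hx))
      have : k⁻¹ * x * k * x⁻¹ = k⁻¹ * (x * k * x⁻¹) := by group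
      rw [this]
      exact K.mul_mem (K.inv_mem hk) (Subgroup.Normal.conj_mem ‹K.Normal› k hk x)
    have hkc : k ∈ K ⊓ Subgroup.centralizer ({x} : Set G) := by
      refine ⟨hk, ?_⟩
      show k ∈ Subgroup.centralizer ({x} : Set G)
      rw [Subgroup.mem_centralizer_iff]
      rintro y rfl
      calc y * k = k * (k⁻¹ * y * k * y⁻¹) * y := by group
        _ = k * y := by rw [h1, mul_one]
    rw [hfpf x hx hx1, Subgroup.mem_bot] at hkc
    subst hkc
    rw [one_mul]
    exact hh'

theorem isFrobeniusComplement_iff_fpf [K.Normal] (hc : Subgroup.IsComplement' K H) (hK : K ≠ ⊥)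
    (hH : H ≠ ⊥) : Cfsg.IsFrobeniusComplement H ↔
      ∀ h ∈ H, h ≠ 1 → K ⊓ Subgroup.centralizer ({h} : Set G) = ⊥ :=
  ⟨fun h => fpf_of_complement h hc.disjoint, isFrobeniusComplement_of_fpf hc hK hH⟩

/-- A normal complement of a Frobenius complement is the Frobenius kernel. -/
theorem frobeniusKernel_eq [K.Normal] (hH : Cfsg.IsFrobeniusComplement H)
    (hc : Subgroup.IsComplement' K H) : Cfsg.frobeniusKernel H = (K : Set G) := by
  refine (Set.eq_of_subset_of_ncard_le (normal_le_kernel K hc.disjoint) ?_).symm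
  rw [card_frobeniusKernel hH, hc.index_eq_card, ← Nat.card_coe_set_eq]
  exact le_refl _

theorem normal_of_eq_kernel (hK : (K : Set G) = Cfsg.frobeniusKernel H) : K.Normal :=
  ⟨fun x hx g => by
    rw [← SetLike.mem_coe, hK] at hx ⊢
    exact (conj_mem_kernel_iff H g x).2 hx⟩

theorem isComplement_of_eq_kernel (hH : Cfsg.IsFrobeniusComplement H)
    (hK : (K : Set G) = Cfsg.frobeniusKernel H) : Subgroup.IsComplement' K H := by
  refine Subgroup.isComplement'_of_card_mul_and_disjoint ?_ ?_
  · have : Nat.card K = H.index := by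
      rw [← natCard_frobeniusKernel hH, ← hK]
      rfl
    rw [this, H.index_mul_card]
  · rw [Subgroup.disjoint_def]
    intro x hx hxH
    rw [← SetLike.mem_coe, hK] at hx
    exact kernel_inter _ hxH hx

theorem kernel_ne_bot (hH : Cfsg.IsFrobeniusComplement H)
    (hK : (K : Set G) = Cfsg.frobeniusKernel H) : K ≠ ⊥ := by
  intro h
  apply hH.2.1
  have := isComplement_of_eq_kernel hH hK
  rw [h] at this
  exact Subgroup.isComplement'_bot_left.1 this

end semidirect

/-- A transitive action in which only the identity fixes two points. -/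
theorem isFrobeniusComplement_stabilizer {Ω : Type*} [MulAction G Ω] (α : Ω)
    (hne : MulAction.stabilizer G α ≠ ⊥) (htop : MulAction.stabilizer G α ≠ ⊤)
    (hfix : ∀ g : G, g ≠ 1 → ∀ a b : Ω, g • a = a → g • b = b → a = b) :
    Cfsg.IsFrobeniusComplement (MulAction.stabilizer G α) := by
  refine isFrobeniusComplement_of_ti hne htop fun g x hx hx1 hc => ?_
  rw [MulAction.mem_stabilizer_iff] at hx hc ⊢
  refine (hfix x hx1 α (g • α) hx ?_).symm
  rw [mul_smul, mul_smul, inv_smul_eq_iff] at hc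
  exact hc

theorem frobeniusKernel_stabilizer {Ω : Type*} [MulAction G Ω] [MulAction.IsPretransitive G Ω]
    (α : Ω) : Cfsg.frobeniusKernel (MulAction.stabilizer G α) =
      {g : G | g = 1 ∨ ∀ ω : Ω, g • ω ≠ ω} := by
  ext x
  simp only [Cfsg.frobeniusKernel, Set.mem_ofPred_eq, mem_conj_smul_iff,
    MulAction.mem_stabilizer_iff, mul_smul, inv_smul_eq_iff]
  refine or_congr_right ⟨fun h ω => ?_, fun h g => h (g • α)⟩
  obtain ⟨g, rfl⟩ := MulAction.exists_smul_eq G α ω
  exact h g

/-- No non-identity element fixes two cosets of a Frobenius complement. -/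
theorem eq_of_smul_coset (hH : Cfsg.IsFrobeniusComplement H) {g : G} (hg : g ≠ 1) {a b : G ⧸ H}
    (ha : g • a = a) (hb : g • b = b) : a = b := by
  obtain ⟨x, rfl⟩ := QuotientGroup.mk_surjective a
  obtain ⟨y, rfl⟩ := QuotientGroup.mk_surjective b
  have key : ∀ z : G, g • (z : G ⧸ H) = z → z⁻¹ * g * z ∈ H := fun z hz => by
    rw [MulAction.Quotient.smul_mk, QuotientGroup.eq, smul_eq_mul] at hz
    have := H.inv_mem hz
    simpa [mul_assoc] using this
  rw [QuotientGroup.eq]
  refine mem_of_conj_mem hH (key x ha) ?_ ?_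
  · intro e
    exact hg (by simpa [mul_assoc] using congrArg (fun z => x * z * x⁻¹) e)
  · have : (x⁻¹ * y)⁻¹ * (x⁻¹ * g * x) * (x⁻¹ * y) = y⁻¹ * g * y := by group
    rw [this]
    exact key y hb

end Cfsg.Agent.FrobeniusBasic
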