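/-
Induction from trivial-intersection sets; generalized characters; the Frobenius kernel theorem.
-/
import Mathlib
import Cfsg.Agent.Lib.CharBasicDecomp
import Cfsg.Agent.Lib.CharInducedRep
import Cfsg.Agent.Lib.FrobeniusBasic

set_option autoImplicit false

open scoped ComplexConjugate
open Finset

namespace Cfsg.Agent.CharInduced

open CharBasic CharBasicOrth CharBasicDecomp

universe u

variable {G : Type u} [Group G]

theorem isGenChar_res {θ : G → ℂ} (H : Subgroup G) (h : IsGeneralizedCharacter G θ) :
    IsGeneralizedCharacter H (fun x : H => θ x) :=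
  isGeneralizedCharacter_comap H.subtype h

variable [Fintype G]

theorem isGenChar_ind (H : Subgroup G) {θ : H → ℂ} (hθ : IsGeneralizedCharacter H θ) :
    IsGeneralizedCharacter G (indFun H θ) := by
  obtain ⟨a, b, ha, hb, rfl⟩ := hθ
  exact ⟨_, _, isCharacter_ind H ha, isCharacter_ind H hb, ind_sub H a b⟩

theorem ind_eq_of_ti (T : Set G) (N : Subgroup G)
    (hTI : ∀ g : G, g ∉ N → ∀ t ∈ T, g * t * g⁻¹ ∈ T → t = 1) (ψ : N → ℂ)
    (hψ : IsClassFunction N ψ) (hψT : ∀ x : N, (x : G) ∉ T → ψ x = 0) (t : N)
    (htT : (t : G) ∈ T) (ht1 : t ≠ 1) : indFun N ψ (t : G) = ψ t := by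
  classical
  have key : ∀ x : G, extendByZero N ψ (x⁻¹ * t * x) = if x ∈ N then ψ t else 0 := by
    intro x
    split_ifs with hx
    · have h := ext_zero_conj_inv hψ (N.inv_mem hx) (t : G)
      rw [inv_inv] at h
      rw [h, ext_zero_coe]
    · by_cases hm : x⁻¹ * t * x ∈ N
      · rw [ext_zero_of_mem ψ hm]
        refine hψT _ fun hT => ?_
        have h1 := hTI x⁻¹ (fun h => hx (N.inv_mem_iff.1 h)) (t : G) htT
          (by rw [inv_inv]; exact hT)
        exact ht1 (Subtype.ext h1)
      · exact ext_zero_of_not_mem ψ hm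
  have hc : (Finset.univ.filter fun x : G => x ∈ N).card = Nat.card N := by
    rw [← Fintype.card_subtype, ← Nat.card_eq_fintype_card]
  have := card_subgroup_ne_zero N
  rw [indFun_apply, Finset.sum_congr rfl fun x _ => key x, Finset.sum_ite, Finset.sum_const_zero,
    add_zero, Finset.sum_const, hc, nsmul_eq_mul]
  field_simp

theorem classInner_ind_of_ti (T : Set G) (N : Subgroup G) [Fintype N]
    (hTI : ∀ g : G, g ∉ N → ∀ t ∈ T, g * t * g⁻¹ ∈ T → t = 1) (ψ θ : N → ℂ)
    (hθ : IsClassFunction N θ)
    (hψT : ∀ x : N, (x : G) ∉ T → ψ x = 0) (hθT : ∀ x : N, (x : G) ∉ T → θ x = 0)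
    (hψ1 : ψ 1 = 0) : classInner (indFun N ψ) (indFun N θ) = classInner ψ θ := by
  rw [inner_ind_left N ψ (isClassFunction_ind N θ)]
  simp only [classInner]
  congr 1
  refine Finset.sum_congr rfl fun x _ => ?_
  by_cases hx : (x : G) ∈ T
  · by_cases hx1 : x = 1
    · rw [hx1, hψ1, zero_mul, zero_mul]
    · rw [ind_eq_of_ti T N hTI θ hθ hθT x hx hx1]
  · rw [hψT x hx, zero_mul, zero_mul]

section Frobenius

variable {H : Subgroup G}

theorem exists_extension_of_frobenius (hH : IsFrobeniusComplement H) {φ : H → ℂ}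
    (hφ : IsIrrCharacter H φ) :
    ∃ θ : G → ℂ, IsIrrCharacter G θ ∧ (∀ h : H, θ h = φ h) ∧
      ∀ x ∈ frobeniusKernel H, θ x = φ 1 := by
  classical
  have := Fintype.ofFinite H
  obtain ⟨d, -, hd⟩ := isIrrCharacter_apply_one hφ
  have hφc := CharBasic.isClassFunction_of_isCharacter (isCharacter_of_isIrrCharacter hφ)
  by_cases htriv : φ = fun _ => 1
  · subst htriv
    exact ⟨fun _ => 1, isIrrCharacter_one, fun _ => rfl, fun _ _ => rfl⟩
  let one : H → ℂ := fun _ => 1
  let α : H → ℂ := φ - (d : ℂ) • one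
  have hα1 : α 1 = 0 := by simp [α, one, hd]
  have hTI : ∀ g : G, g ∉ H → ∀ t ∈ (H : Set G), g * t * g⁻¹ ∈ (H : Set G) → t = 1 := by
    intro g hg t ht hgt
    by_contra h
    exact hg (FrobeniusBasic.mem_of_conj_mem' hH ht h hgt)
  have hvan : ∀ x : H, (x : G) ∉ (H : Set G) → α x = 0 := fun x hx => absurd x.2 hx
  have hαc : IsClassFunction H α := fun a b => by simp [α, one, hφc a b]
  have hαg : IsGeneralizedCharacter H α :=
    ⟨φ, (d : ℂ) • one, isCharacter_of_isIrrCharacter hφ,
      isCharacter_nsmul CharBasicDecomp.isCharacter_one d, rfl⟩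
  let one' : G → ℂ := fun _ => 1
  let θ : G → ℂ := indFun H α + (d : ℂ) • one'
  have hθg : IsGeneralizedCharacter G θ :=
    isGeneralizedCharacter_add (isGenChar_ind H hαg)
      (isGeneralizedCharacter_of_isCharacter
        (isCharacter_nsmul CharBasicDecomp.isCharacter_one d))
  have hone : classInner one one = 1 := classInner_irr_self isIrrCharacter_one
  have hφ0 : classInner φ one = 0 := classInner_irr_ne hφ isIrrCharacter_one htriv
  have hone0 : classInner one φ = 0 :=
    classInner_irr_ne isIrrCharacter_one hφ (fun h => htriv h.symm)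
  have hφφ : classInner φ φ = 1 := classInner_irr_self hφ
  have hαα : classInner α α = 1 + (d : ℂ) * d := by
    simp only [α, inner_sub_left, inner_sub_right, inner_smul_left, inner_smul_right, hφ0, hone0,
      hφφ, hone, Complex.conj_natCast]
    ring
  have hα1' : classInner (indFun H α) one' = - (d : ℂ) := by
    rw [inner_ind_left H α (fun _ _ => rfl)]
    show classInner α one = _
    simp only [α, inner_sub_left, inner_smul_left, hφ0, hone]
    ring
  have h1α : classInner one' (indFun H α) = - (d : ℂ) := by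
    rw [← inner_conj_symm, hα1', map_neg, Complex.conj_natCast]
  have hone' : classInner one' one' = 1 := classInner_irr_self isIrrCharacter_one
  have hnorm : classInner θ θ = 1 := by
    simp only [θ, inner_add_left, inner_add_right, inner_smul_left, inner_smul_right, hα1', h1α,
      hone', Complex.conj_natCast,
      classInner_ind_of_ti (H : Set G) H hTI α α hαc hvan hvan hα1, hαα]
    ring
  have hθ1 : θ 1 = (d : ℂ) := by simp [θ, ind_one_apply, hα1, one']
  have hres : ∀ h : H, θ h = φ h := by
    intro h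
    by_cases h1 : h = 1
    · subst h1; rw [hd]; exact hθ1
    · have := ind_eq_of_ti (H : Set G) H hTI α hαc hvan h h.2 h1
      simp [θ, this, α, one, one']
  refine ⟨θ, ?_, hres, fun x hx => ?_⟩
  · obtain ⟨χ, hχ, hcase⟩ := eq_or_neg_irr_of_norm_one hθg hnorm
    rcases hcase with h | h
    · rwa [h]
    · exfalso
      obtain ⟨m, hm, hm1⟩ := isIrrCharacter_apply_one hχ
      have h1 := congrFun h 1
      rw [hθ1, Pi.neg_apply, hm1, eq_neg_iff_add_eq_zero, ← Nat.cast_add, Nat.cast_eq_zero] at h1
      omega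
  · rcases hx with rfl | hx
    · rw [hθ1, hd]
    · have : indFun H α x = 0 := ind_eq_zero_of_not_conj H α x fun g h =>
        hx g (FrobeniusBasic.mem_conj_smul_iff.2 h)
      simp [θ, this, hd, one']

/-- The Frobenius kernel theorem. -/
theorem frobenius_kernel_subgroup (hH : IsFrobeniusComplement H) :
    ∃ N : Subgroup G, (N : Set G) = frobeniusKernel H ∧ N.Normal ∧ Subgroup.IsComplement' N H := by
  classical
  choose θ hirr hres hker using fun φ : IrrCharacter H => exists_extension_of_frobenius hH φ.2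
  choose n ρ hρ hρθ using hirr
  let N : Subgroup G := ⨅ φ, MonoidHom.ker (ρ φ)
  have hN : ∀ g, g ∈ N ↔ ∀ φ, θ φ g = θ φ 1 := by
    intro g
    simp only [N, Subgroup.mem_iInf, MonoidHom.mem_ker]
    refine forall_congr' fun φ => ?_
    rw [← hρθ φ, Representation.char_one, character_eq_finrank_iff]
    rfl
  have hθ1 : ∀ φ : IrrCharacter H, θ φ 1 = (φ : H → ℂ) 1 := fun φ => by
    rw [← hres φ 1]; rfl
  have hset : (N : Set G) = frobeniusKernel H := by
    ext x
    refine ⟨fun hx => or_iff_not_imp_left.2 fun hx1 g hg => hx1 ?_, fun hx => (hN x).2 fun φ => ?_⟩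
    · rw [FrobeniusBasic.mem_conj_smul_iff] at hg
      have hconj : IsConj (⟨g⁻¹ * x * g, hg⟩ : H) 1 := by
        rw [isConj_iff_forall_irr]
        intro φ
        have h1 := (hN x).1 hx φ
        rw [hθ1 φ] at h1
        rw [← hres φ, ← h1]
        have hcf : IsClassFunction G (θ φ) := hρθ φ ▸ isClassFunction_character (ρ φ)
        exact classFunction_conj' hcf x g
      rw [isConj_one_left, Subtype.ext_iff] at hconj
      simpa [mul_assoc] using congrArg (fun y => g * y * g⁻¹) hconj
    · rw [hker φ x hx, hθ1]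
  have hnormal : N.Normal := ⟨fun a ha g => by
    show g * a * g⁻¹ ∈ (N : Set G)
    rw [hset, FrobeniusBasic.conj_mem_kernel_iff, ← hset]
    exact ha⟩
  refine ⟨N, hset, hnormal, Subgroup.isComplement'_of_disjoint_and_mul_eq_univ ?_ ?_⟩
  · rw [Subgroup.disjoint_def]
    intro x hxN hxH
    exact FrobeniusBasic.kernel_inter x hxH (hset ▸ hxN)
  · have hd : Disjoint N H := by
      rw [Subgroup.disjoint_def]
      intro x hxN hxH
      exact FrobeniusBasic.kernel_inter x hxH (hset ▸ hxN)
    have hcard : Nat.card N * Nat.card H = Nat.card G := by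
      have : Nat.card N = H.index := by
        rw [← FrobeniusBasic.card_frobeniusKernel hH, ← hset, ← Nat.card_coe_set_eq]
        rfl
      rw [this, H.index_mul_card]
    exact (Subgroup.isComplement'_of_card_mul_and_disjoint hcard hd).mul_eq

end Frobenius

end Cfsg.Agent.CharInduced
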