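import Mathlib
import Cfsg.Prelude.Def_Blocks
import Cfsg.Agent.Lib.CharBasic
import Cfsg.Agent.Lib.CharBasicOrth
import Cfsg.Agent.Lib.CharBasicInt

/-!
Averaging identities for irreducible characters (helper83): Schur averaging
`∑ a, χ (a x a⁻¹ y)`, commutator averaging, degrees as naturals, values at involutions.
-/

set_option autoImplicit false

namespace Cfsg.Agent.CharAverage

open scoped ComplexConjugate
open Cfsg.Agent.CharBasic Cfsg.Agent.CharBasicOrth

universe u

variable {G : Type u} [Group G]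

theorem apply_one_eq_charDegree {χ : G → ℂ} (h : Cfsg.IsCharacter G χ) :
    χ 1 = (Cfsg.charDegree χ : ℂ) := by
  obtain ⟨n, hn⟩ := isCharacter_apply_one h
  simp [Cfsg.charDegree, hn]

theorem irr_isCharacter (χ : Cfsg.IrrCharacter G) : Cfsg.IsCharacter G (χ : G → ℂ) :=
  isCharacter_of_isIrrCharacter χ.2

theorem irr_apply_one (χ : Cfsg.IrrCharacter G) :
    (χ : G → ℂ) 1 = (Cfsg.charDegree (χ : G → ℂ) : ℂ) :=
  apply_one_eq_charDegree (irr_isCharacter χ)

theorem irr_degree_pos (χ : Cfsg.IrrCharacter G) : 0 < Cfsg.charDegree (χ : G → ℂ) := by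
  obtain ⟨n, hn, h1⟩ := isIrrCharacter_apply_one χ.2
  have := irr_apply_one χ
  rw [h1] at this
  exact (Nat.cast_injective this) ▸ hn

theorem irr_one_ne_zero (χ : Cfsg.IrrCharacter G) : (χ : G → ℂ) 1 ≠ 0 :=
  isIrrCharacter_apply_one_ne_zero χ.2

theorem irr_conj_apply (χ : Cfsg.IrrCharacter G) (g x : G) :
    (χ : G → ℂ) (g * x * g⁻¹) = (χ : G → ℂ) x :=
  isClassFunction_of_isCharacter (irr_isCharacter χ) x g

theorem irr_norm_le [Finite G] (χ : Cfsg.IrrCharacter G) (g : G) :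
    ‖(χ : G → ℂ) g‖ ≤ (Cfsg.charDegree (χ : G → ℂ) : ℝ) := by
  have := isCharacter_norm_le (irr_isCharacter χ) g
  rwa [irr_apply_one χ, Complex.natCast_re] at this

/-- Schur averaging. -/
theorem sum_conj_mul [Fintype G] (χ : Cfsg.IrrCharacter G) (x y : G) :
    ∑ a : G, (χ : G → ℂ) (a * x * a⁻¹ * y) =
      (Nat.card G : ℂ) * (χ : G → ℂ) x * (χ : G → ℂ) y / (χ : G → ℂ) 1 := by
  obtain ⟨n, ρ, hi, hρ⟩ := χ.2
  let T : Module.End ℂ (Fin n → ℂ) := ∑ a : G, ρ (a * x * a⁻¹)
  have hT : ∀ (g : G) (v : Fin n → ℂ), T (ρ g v) = ρ g (T v) := by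
    intro g v
    simp only [T, LinearMap.sum_apply, map_sum]
    refine (Fintype.sum_equiv (Equiv.mulLeft g) _ _ fun a => ?_).symm
    rw [← Module.End.mul_apply, ← map_mul, ← Module.End.mul_apply, ← map_mul]
    congr 2
    simp only [Equiv.coe_mulLeft]
    group
  obtain ⟨c, hc, htr⟩ := exists_scalar_of_commute ρ T hT
  have htr' : LinearMap.trace ℂ (Fin n → ℂ) T = (Nat.card G : ℂ) * (χ : G → ℂ) x := by
    simp only [T, map_sum]
    rw [← hρ]
    simp only [show ∀ a, LinearMap.trace ℂ (Fin n → ℂ) (ρ (a * x * a⁻¹)) = ρ.character x from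
      fun a => Representation.char_conj ρ x a]
    simp [Nat.card_eq_fintype_card]
  have h1 : (χ : G → ℂ) 1 = (Module.finrank ℂ (Fin n → ℂ) : ℂ) := by
    rw [← hρ]; exact Representation.char_one ρ
  have hs : ∑ a : G, (χ : G → ℂ) (a * x * a⁻¹ * y) = c * (χ : G → ℂ) y := by
    rw [← hρ]
    calc ∑ a : G, ρ.character (a * x * a⁻¹ * y)
        = LinearMap.trace ℂ (Fin n → ℂ) (∑ a : G, ρ (a * x * a⁻¹) * ρ y) := by
          simp only [Representation.character, map_sum, map_mul]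
      _ = LinearMap.trace ℂ (Fin n → ℂ) (T * ρ y) := by rw [Finset.sum_mul]
      _ = c * ρ.character y := by
          rw [hc, smul_mul_assoc, map_smul, smul_eq_mul]; rfl
  have h2 : (χ : G → ℂ) 1 ≠ 0 := irr_one_ne_zero χ
  rw [hs, eq_div_iff h2, ← htr', htr, h1]
  ring

theorem sum_conj_mul_conj [Fintype G] (χ : Cfsg.IrrCharacter G) (x y : G) :
    ∑ a : G, ∑ b : G, (χ : G → ℂ) (a * x * a⁻¹ * (b * y * b⁻¹)) =
      (Nat.card G : ℂ) ^ 2 * (χ : G → ℂ) x * (χ : G → ℂ) y / (χ : G → ℂ) 1 := by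
  rw [Finset.sum_comm]
  simp only [sum_conj_mul, irr_conj_apply, Finset.sum_const, Finset.card_univ, nsmul_eq_mul,
    Nat.card_eq_fintype_card]
  ring

/-- The sum over all commutators, times a fixed element. -/
theorem sum_commutator_mul [Fintype G] (χ : Cfsg.IrrCharacter G) (y : G) :
    ∑ a : G, ∑ b : G, (χ : G → ℂ) (a * b * a⁻¹ * b⁻¹ * y) =
      (Nat.card G : ℂ) ^ 2 * (χ : G → ℂ) y / (χ : G → ℂ) 1 ^ 2 := by
  have hcl := isClassFunction_of_isCharacter (irr_isCharacter χ)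
  have h1 : (χ : G → ℂ) 1 ≠ 0 := irr_one_ne_zero χ
  rw [Finset.sum_comm]
  simp only [mul_assoc _ _ y]
  simp only [sum_conj_mul]
  have key : ∑ b : G, (χ : G → ℂ) b * (χ : G → ℂ) (b⁻¹ * y) =
      (Nat.card G : ℂ) * (χ : G → ℂ) y / (χ : G → ℂ) 1 := by
    obtain ⟨n, ρ, hi, hρ⟩ := χ.2
    have : ρ.character = (χ : G → ℂ) := hρ
    have horth : ∀ z : G, ∑ b : G, (χ : G → ℂ) b * (χ : G → ℂ) (b⁻¹ * z) =
        (Nat.card G : ℂ) * (χ : G → ℂ) z / (χ : G → ℂ) 1 := by
      intro z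
      let S : Module.End ℂ (Fin n → ℂ) := ∑ b : G, (χ : G → ℂ) b • ρ b⁻¹
      have hS : ∀ (g : G) (v : Fin n → ℂ), S (ρ g v) = ρ g (S v) := by
        intro g v
        simp only [S, LinearMap.sum_apply, LinearMap.smul_apply, map_sum, map_smul]
        refine Fintype.sum_equiv (MulAut.conj g⁻¹).toEquiv _ _ fun b => ?_
        simp only [MulEquiv.toEquiv_eq_coe, EquivLike.coe_coe, MulAut.conj_apply]
        rw [hcl b g⁻¹, ← Module.End.mul_apply, ← map_mul, ← Module.End.mul_apply, ← map_mul]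
        congr 3
        group
      obtain ⟨c, hc, htr⟩ := exists_scalar_of_commute ρ S hS
      have htr' : LinearMap.trace ℂ (Fin n → ℂ) S = (Nat.card G : ℂ) := by
        have ho := classInner_irr_self χ.2
        have hG : (Nat.card G : ℂ) ≠ 0 := Nat.cast_ne_zero.2 Nat.card_pos.ne'
        rw [Cfsg.classInner, inv_mul_eq_div, div_eq_iff hG, one_mul] at ho
        rw [← ho]
        simp only [S, map_sum, map_smul, smul_eq_mul]
        refine Finset.sum_congr rfl fun b _ => ?_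
        rw [← isCharacter_inv (irr_isCharacter χ), ← this]; rfl
      have hs : ∑ b : G, (χ : G → ℂ) b * (χ : G → ℂ) (b⁻¹ * z) = c * (χ : G → ℂ) z := by
        calc ∑ b : G, (χ : G → ℂ) b * (χ : G → ℂ) (b⁻¹ * z)
            = LinearMap.trace ℂ (Fin n → ℂ) (S * ρ z) := by
              rw [Finset.sum_mul, map_sum]
              refine Finset.sum_congr rfl fun b _ => ?_
              rw [smul_mul_assoc, map_smul, smul_eq_mul, ← map_mul, ← this]; rfl
          _ = c * (χ : G → ℂ) z := by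
              rw [hc, smul_mul_assoc, map_smul, smul_eq_mul, ← this]; rfl
      have h1' : (χ : G → ℂ) 1 = (Module.finrank ℂ (Fin n → ℂ) : ℂ) := by
        rw [← this]; exact Representation.char_one ρ
      rw [hs, eq_div_iff h1, ← htr', htr, h1']
      ring
    exact horth y
  rw [← Finset.sum_div]
  simp only [mul_assoc]
  rw [← Finset.mul_sum, key]
  field_simp

/-- Character values at elements of order two are rational integers. -/
theorem apply_involution_eq_int [Finite G] {χ : G → ℂ} (h : Cfsg.IsCharacter G χ) {t : G}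
    (ht : t * t = 1) : ∃ z : ℤ, χ t = (z : ℂ) := by
  obtain ⟨n, ρ, rfl⟩ := h
  obtain ⟨b, μ, hb, hord, -, hpow⟩ := exists_rep_eigenbasis ρ t
  have h2 : ∀ i, μ i ^ 2 = 1 := fun i => by
    obtain ⟨k, hk⟩ := orderOf_dvd_of_pow_eq_one (show t ^ 2 = 1 by rw [pow_two, ht])
    rw [hk, pow_mul, hord, one_pow]
  have h3 : ∀ i, ∃ z : ℤ, μ i = (z : ℂ) := fun i => by
    rcases sq_eq_one_iff.1 (h2 i) with h | h
    · exact ⟨1, by simp [h]⟩
    · exact ⟨-1, by simp [h]⟩
  choose z hz using h3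
  refine ⟨∑ i, z i, ?_⟩
  have := hpow 1
  rw [pow_one] at this
  rw [this, Int.cast_sum]
  simp [hz]

theorem charDegree_dvd_card [Finite G] (χ : Cfsg.IrrCharacter G) :
    Cfsg.charDegree (χ : G → ℂ) ∣ Nat.card G := by
  obtain ⟨n, -, h1, h2⟩ := Cfsg.Agent.CharBasicInt.exists_apply_one_dvd_card χ.2
  rw [irr_apply_one χ] at h1
  exact (Nat.cast_injective h1) ▸ h2

/-- In a sum of squares of algebraic integers the cross terms are divisible by two. -/
theorem exists_sq_sum_eq {ι : Type*} (s : Finset ι) (f : ι → ℂ) (hf : ∀ i ∈ s, IsIntegral ℤ (f i)) :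
    ∃ w : ℂ, IsIntegral ℤ w ∧ (∑ i ∈ s, f i) ^ 2 = ∑ i ∈ s, f i ^ 2 + 2 * w := by
  classical
  induction s using Finset.induction with
  | empty => exact ⟨0, isIntegral_zero, by simp⟩
  | insert a s ha ih =>
    obtain ⟨w, hw, he⟩ := ih fun i hi => hf i (Finset.mem_insert_of_mem hi)
    refine ⟨w + f a * ∑ i ∈ s, f i, hw.add ((hf a (Finset.mem_insert_self a s)).mul
      (IsIntegral.sum _ fun i hi => hf i (Finset.mem_insert_of_mem hi))), ?_⟩
    rw [Finset.sum_insert ha, Finset.sum_insert ha, add_sq, he]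
    ring

/-- A natural number which is twice an algebraic integer is even. -/
theorem even_of_eq_two_mul {n : ℕ} {w : ℂ} (hw : IsIntegral ℤ w) (h : (n : ℂ) = 2 * w) : Even n := by
  have h1 : IsIntegral ℤ ((n : ℚ) / 2) := by
    refine (isIntegral_algebraMap_iff (algebraMap ℚ ℂ).injective).1 ?_
    have : algebraMap ℚ ℂ ((n : ℚ) / 2) = w := by
      rw [map_div₀, map_natCast, h, map_ofNat]; ring
    rw [this]; exact hw
  obtain ⟨k, hk⟩ := IsIntegrallyClosed.isIntegral_iff.1 h1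
  have h2 : (n : ℤ) = 2 * k := by
    have h3 : (n : ℚ) = 2 * (k : ℚ) := by
      rw [show (k : ℚ) = (n : ℚ) / 2 from hk]; ring
    exact_mod_cast h3
  have h4 : Even (n : ℤ) := ⟨k, by omega⟩
  exact_mod_cast h4

end Cfsg.Agent.CharAverage
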