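import Mathlib
import Cfsg.Agent.Lib.CharBasicLinear
import Cfsg.Agent.Lib.CharAverage

/-!
Deflation of irreducible characters to quotients, sums of squares of degrees over the
characters trivial on a normal subgroup, codegree bookkeeping (helper83).
-/

set_option autoImplicit false

namespace Cfsg.Agent.CharKernel

open Cfsg.Agent.CharBasic Cfsg.Agent.CharBasicOrth Cfsg.Agent.CharBasicDecomp
open Cfsg.Agent.CharBasicLinear Cfsg.Agent.CharAverage

universe u

variable {G : Type u} [Group G]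

theorem exists_quot_irr [Finite G] (N : Subgroup G) [N.Normal] (χ : Cfsg.IrrCharacter G)
    (h : ∀ n ∈ N, (χ : G → ℂ) n = (χ : G → ℂ) 1) :
    ∃ ψ : Cfsg.IrrCharacter (G ⧸ N), ∀ g : G, (χ : G → ℂ) g = (ψ : G ⧸ N → ℂ) (g : G ⧸ N) := by
  obtain ⟨n, ρ, hi, hρ⟩ := χ.2
  have hker : N ≤ MonoidHom.ker ρ := by
    intro x hx
    have h1 := h x hx
    rw [← hρ, Representation.char_one, character_eq_finrank_iff] at h1
    exact h1
  let σ : Representation ℂ (G ⧸ N) (Fin n → ℂ) := QuotientGroup.lift N ρ hker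
  have hσ : ∀ g : G, σ (g : G ⧸ N) = ρ g := fun g => rfl
  have hσi : σ.IsIrreducible := by
    have := nontrivial_of_irreducible ρ
    have : Nontrivial (Subrepresentation σ) :=
      ⟨⊥, ⊤, fun e => bot_ne_top (α := Submodule ℂ (Fin n → ℂ))
        (congrArg Subrepresentation.toSubmodule e)⟩
    refine ⟨fun U => ?_⟩
    let U' : Subrepresentation ρ :=
      ⟨U.toSubmodule, fun g v hv => by rw [← hσ]; exact U.apply_mem_toSubmodule _ hv⟩
    rcases eq_bot_or_eq_top U' with e | e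
    · have h := congrArg Subrepresentation.toSubmodule e
      exact Or.inl (Subrepresentation.toSubmodule_injective h)
    · have h := congrArg Subrepresentation.toSubmodule e
      exact Or.inr (Subrepresentation.toSubmodule_injective h)
  refine ⟨⟨σ.character, n, σ, hσi, rfl⟩, fun g => ?_⟩
  rw [← hρ]; rfl

/-- The irreducible characters of `G` trivial on `N` are those of `G ⧸ N`. -/
noncomputable def quotEquiv [Finite G] (N : Subgroup G) [N.Normal] :
    Cfsg.IrrCharacter (G ⧸ N) ≃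
      {χ : Cfsg.IrrCharacter G // ∀ n ∈ N, (χ : G → ℂ) n = (χ : G → ℂ) 1} :=
  Equiv.ofBijective
    (fun ψ => ⟨⟨(ψ : G ⧸ N → ℂ) ∘ QuotientGroup.mk' N,
        isIrrCharacter_comap (QuotientGroup.mk' N) (QuotientGroup.mk'_surjective N) ψ.2⟩,
      fun n hn => by
        show (ψ : G ⧸ N → ℂ) (QuotientGroup.mk' N n) = (ψ : G ⧸ N → ℂ) (QuotientGroup.mk' N 1)
        rw [map_one, QuotientGroup.mk'_apply, (QuotientGroup.eq_one_iff n).2 hn]⟩) <| by
    refine ⟨fun a b h => Subtype.ext (funext fun q => ?_), fun χ => ?_⟩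
    · obtain ⟨g, rfl⟩ := QuotientGroup.mk'_surjective N q
      exact congrArg (fun (z : {χ : Cfsg.IrrCharacter G //
        ∀ n ∈ N, (χ : G → ℂ) n = (χ : G → ℂ) 1}) => (z.1 : G → ℂ) g) h
    · obtain ⟨ψ, hψ⟩ := exists_quot_irr N χ.1 χ.2
      exact ⟨ψ, Subtype.ext (Subtype.ext (funext fun g => (hψ g).symm))⟩

theorem quotEquiv_apply [Finite G] (N : Subgroup G) [N.Normal] (ψ : Cfsg.IrrCharacter (G ⧸ N))
    (g : G) : ((quotEquiv N ψ).1 : G → ℂ) g = (ψ : G ⧸ N → ℂ) (g : G ⧸ N) := rfl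

theorem charDegree_quotEquiv [Finite G] (N : Subgroup G) [N.Normal]
    (ψ : Cfsg.IrrCharacter (G ⧸ N)) :
    Cfsg.charDegree ((quotEquiv N ψ).1 : G → ℂ) = Cfsg.charDegree (ψ : G ⧸ N → ℂ) := by
  simp [Cfsg.charDegree, quotEquiv_apply]

theorem sum_sq_charDegree [Finite G] :
    ∑ χ : Cfsg.IrrCharacter G, Cfsg.charDegree (χ : G → ℂ) ^ 2 = Nat.card G := by
  apply Nat.cast_injective (R := ℂ)
  rw [Nat.cast_sum, ← sum_sq_apply_one]
  exact Finset.sum_congr rfl fun χ _ => by rw [irr_apply_one χ, Nat.cast_pow]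

theorem charDegree_sq_le [Finite G] (χ : Cfsg.IrrCharacter G) :
    Cfsg.charDegree (χ : G → ℂ) ^ 2 ≤ Nat.card G := by
  rw [← sum_sq_charDegree]
  exact Finset.single_le_sum (f := fun χ : Cfsg.IrrCharacter G => Cfsg.charDegree (χ : G → ℂ) ^ 2)
    (fun _ _ => Nat.zero_le _) (Finset.mem_univ χ)

/-- The sum of squares of the degrees of the characters trivial on `N`. -/
theorem sum_sq_trivial_on [Finite G] (N : Subgroup G) [N.Normal]
    [Fintype {χ : Cfsg.IrrCharacter G // ∀ n ∈ N, (χ : G → ℂ) n = (χ : G → ℂ) 1}] :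
    ∑ χ : {χ : Cfsg.IrrCharacter G // ∀ n ∈ N, (χ : G → ℂ) n = (χ : G → ℂ) 1},
      Cfsg.charDegree (χ.1 : G → ℂ) ^ 2 = N.index := by
  rw [← Equiv.sum_comp (quotEquiv N)]
  simp only [charDegree_quotEquiv]
  exact sum_sq_charDegree

/-- The kernel of an irreducible character. -/
def irrKer [Finite G] (χ : Cfsg.IrrCharacter G) : Subgroup G :=
  charKer (χ : G → ℂ) (irr_isCharacter χ)

theorem mem_irrKer [Finite G] {χ : Cfsg.IrrCharacter G} {g : G} :
    g ∈ irrKer χ ↔ (χ : G → ℂ) g = (χ : G → ℂ) 1 := Iff.rfl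

theorem irrKer_normal [Finite G] (χ : Cfsg.IrrCharacter G) : (irrKer χ).Normal :=
  charKer_normal _ _

theorem card_irrKer [Finite G] (χ : Cfsg.IrrCharacter G) :
    Nat.card {g : G // (χ : G → ℂ) g = (χ : G → ℂ) 1} = Nat.card (irrKer χ) := rfl

theorem charDegree_dvd_index [Finite G] (χ : Cfsg.IrrCharacter G) :
    Cfsg.charDegree (χ : G → ℂ) ∣ (irrKer χ).index := by
  have := irrKer_normal χ
  obtain ⟨ψ, hψ⟩ := exists_quot_irr (irrKer χ) χ fun n hn => hn
  have h1 : Cfsg.charDegree (χ : G → ℂ) = Cfsg.charDegree (ψ : G ⧸ irrKer χ → ℂ) := by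
    simp [Cfsg.charDegree, hψ 1]
  rw [h1]
  exact charDegree_dvd_card ψ

/-- The codegree expression of the statements equals `[G : ker χ] / χ(1)`. -/
theorem cod_eq [Finite G] (χ : Cfsg.IrrCharacter G) :
    Nat.card G / (Nat.card {g : G // (χ : G → ℂ) g = (χ : G → ℂ) 1} *
      Cfsg.charDegree (χ : G → ℂ)) = (irrKer χ).index / Cfsg.charDegree (χ : G → ℂ) := by
  rw [card_irrKer, ← Subgroup.card_mul_index (irrKer χ), Nat.mul_div_mul_left _ _ Nat.card_pos]

theorem cod_mul_charDegree [Finite G] (χ : Cfsg.IrrCharacter G) :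
    (Nat.card G / (Nat.card {g : G // (χ : G → ℂ) g = (χ : G → ℂ) 1} *
      Cfsg.charDegree (χ : G → ℂ))) * Cfsg.charDegree (χ : G → ℂ) = (irrKer χ).index := by
  rw [cod_eq]
  exact Nat.div_mul_cancel (charDegree_dvd_index χ)

theorem cod_dvd_card [Finite G] (χ : Cfsg.IrrCharacter G) :
    Nat.card G / (Nat.card {g : G // (χ : G → ℂ) g = (χ : G → ℂ) 1} *
      Cfsg.charDegree (χ : G → ℂ)) ∣ Nat.card G :=
  (Dvd.intro _ (cod_mul_charDegree χ)).trans (Subgroup.index_dvd_card _)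

/-- Among the characters trivial on a normal `N` of index divisible by `p`, some nontrivial one
has degree prime to `p`, with kernel of index divisible by `p` if `N` is maximal such. -/
theorem exists_pPrime_degree [Finite G] {p : ℕ} [Fact p.Prime] (N : Subgroup G) [N.Normal]
    (hN : p ∣ N.index) (hmax : ∀ M : Subgroup G, M.Normal → N ≤ M → p ∣ M.index → M = N) :
    ∃ χ : Cfsg.IrrCharacter G, irrKer χ = N ∧ ¬ p ∣ Cfsg.charDegree (χ : G → ℂ) := by
  classical
  have hpP : p.Prime := Fact.out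
  by_contra hcon
  push Not at hcon
  let S : Set (Subgroup G) := {J | J.Normal ∧ N ≤ J ∧ ¬ p ∣ J.index}
  have hfull : (⊤ : Subgroup G) ∈ S :=
    ⟨inferInstance, le_top, by rw [Subgroup.index_top]; exact hpP.not_dvd_one⟩
  obtain ⟨J, -, hJ⟩ := Finite.exists_le_minimal (p := fun J => J ∈ S) hfull
  have hJn : J.Normal := hJ.1.1
  have hsub : ∀ χ : Cfsg.IrrCharacter G, ¬ p ∣ Cfsg.charDegree (χ : G → ℂ) →
      N ≤ irrKer χ → J ≤ irrKer χ := by
    intro χ hχ hle
    have := irrKer_normal χ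
    have hK : ¬ p ∣ (irrKer χ).index := fun h =>
      hχ (hcon χ (hmax _ this hle h))
    have hmem : J ⊓ irrKer χ ∈ S := by
      refine ⟨inferInstance, le_inf hJ.1.2.1 hle, fun h => ?_⟩
      rw [← Subgroup.relIndex_mul_index (show J ⊓ irrKer χ ≤ J from inf_le_left),
        Subgroup.inf_relIndex_left] at h
      rcases hpP.dvd_mul.1 h with h | h
      · exact hK (h.trans (Subgroup.relIndex_dvd_index_of_normal _ _))
      · exact hJ.1.2.2 h
    exact le_of_eq_of_le (le_antisymm inf_le_left (hJ.2 hmem inf_le_left)).symm inf_le_right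
  have key : ∀ (M : Subgroup G) (_ : M.Normal),
      ((M.index : ℕ) : ZMod p) = ∑ χ : Cfsg.IrrCharacter G,
        if (M ≤ irrKer χ ∧ ¬ p ∣ Cfsg.charDegree (χ : G → ℂ)) then
          (Cfsg.charDegree (χ : G → ℂ) : ZMod p) ^ 2 else 0 := by
    intro M _
    rw [← sum_sq_trivial_on M, Nat.cast_sum]
    rw [← Finset.sum_subtype (s := Finset.univ.filter fun χ : Cfsg.IrrCharacter G =>
      ∀ n ∈ M, (χ : G → ℂ) n = (χ : G → ℂ) 1) (by simp)
      (fun χ : Cfsg.IrrCharacter G => ((Cfsg.charDegree (χ : G → ℂ) ^ 2 : ℕ) : ZMod p))]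
    rw [Finset.sum_filter]
    refine Finset.sum_congr rfl fun χ _ => ?_
    by_cases h1 : ∀ n ∈ M, (χ : G → ℂ) n = (χ : G → ℂ) 1
    · by_cases h2 : p ∣ Cfsg.charDegree (χ : G → ℂ)
      · rw [if_pos h1, if_neg (fun e => e.2 h2), Nat.cast_pow,
          (ZMod.natCast_eq_zero_iff _ _).2 h2, zero_pow two_ne_zero]
      · rw [if_pos h1, if_pos ⟨h1, h2⟩, Nat.cast_pow]
    · rw [if_neg h1, if_neg (fun e => h1 e.1)]
  have heq : ((N.index : ℕ) : ZMod p) = ((J.index : ℕ) : ZMod p) := by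
    rw [key N inferInstance, key J hJn]
    refine Finset.sum_congr rfl fun χ _ => ?_
    exact if_congr ⟨fun h => ⟨hsub χ h.2 h.1, h.2⟩, fun h => ⟨hJ.1.2.1.trans h.1, h.2⟩⟩ rfl rfl
  rw [(ZMod.natCast_eq_zero_iff _ _).2 hN] at heq
  exact hJ.1.2.2 ((ZMod.natCast_eq_zero_iff _ _).1 heq.symm)

end Cfsg.Agent.CharKernel
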