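import Cfsg.Prelude.Def_TwoFusion
import Cfsg.Prelude.Def_Transfer
import Mathlib

/-!
Pairs of involutions and isolated involutions.
-/

set_option autoImplicit false

namespace Cfsg.Agent.IsolatedInv

variable {G : Type*} [Group G]

theorem inv_eq_self_of_sq {u : G} (hu : u * u = 1) : u⁻¹ = u :=
  inv_eq_of_mul_eq_one_right hu

theorem sq_of_orderOf_two {u : G} (hu : orderOf u = 2) : u * u = 1 := by
  rw [← pow_two, ← hu, pow_orderOf_eq_one]

theorem ne_one_of_orderOf_two {u : G} (hu : orderOf u = 2) : u ≠ 1 := by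
  rintro rfl; simp at hu

/-- An involution inverts the product with another involution. -/
theorem conj_mul_pow {u v : G} (hu : u * u = 1) (hv : v * v = 1) (k : ℕ) :
    u * (u * v) ^ k * u⁻¹ = ((u * v) ^ k)⁻¹ := by
  rw [← conj_pow, ← inv_pow]
  congr 1
  rw [mul_inv_rev, inv_eq_self_of_sq hu, inv_eq_self_of_sq hv]
  simp [← mul_assoc, hu]

theorem odd_pow_sq {d : G} (h : Odd (orderOf d)) : ∃ j : ℕ, (d ^ 2) ^ j = d := by
  obtain ⟨m, hm⟩ := h
  refine ⟨m + 1, ?_⟩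
  rw [← pow_mul, show 2 * (m + 1) = orderOf d + 1 by omega, pow_succ, pow_orderOf_eq_one, one_mul]

/-- Two involutions whose product has odd order are conjugate by a power of the product. -/
theorem exists_conj_of_odd {u v : G} (hu : u * u = 1) (hv : v * v = 1)
    (h : Odd (orderOf (u * v))) :
    ∃ c ∈ Subgroup.zpowers (u * v), c * u * c⁻¹ = v := by
  obtain ⟨j, hj⟩ := odd_pow_sq h
  set d := u * v with hd
  refine ⟨(d ^ j)⁻¹, inv_mem (Subgroup.npow_mem_zpowers d j), ?_⟩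
  have h1 : u * d ^ j = (d ^ j)⁻¹ * u := by
    have := conj_mul_pow hu hv j
    rw [mul_inv_eq_iff_eq_mul] at this
    exact this
  have h2 : d ^ j * d ^ j = d := by rw [← pow_add, ← two_mul, pow_mul, hj]
  rw [inv_inv, mul_assoc, h1, ← mul_assoc, ← mul_inv_rev, h2, hd, mul_inv_rev,
    inv_eq_self_of_sq hu, inv_eq_self_of_sq hv, mul_assoc, hu, mul_one]

/-- If the product of two involutions has (finite) even order, the involution in the cyclic group
it generates commutes with both. -/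
theorem exists_central_of_even [Finite G] {u v : G} (hu : u * u = 1) (hv : v * v = 1)
    (h : Even (orderOf (u * v))) :
    ∃ w ∈ Subgroup.zpowers (u * v), w ≠ 1 ∧ w * w = 1 ∧ Commute w u ∧ Commute w v := by
  obtain ⟨k, hk⟩ := h
  set d := u * v with hd
  have hpos : 0 < orderOf d := orderOf_pos d
  refine ⟨d ^ k, Subgroup.npow_mem_zpowers d k, pow_ne_one_of_lt_orderOf (by omega) (by omega), ?_⟩
  have hsq : d ^ k * d ^ k = 1 := by rw [← pow_add, ← hk, pow_orderOf_eq_one]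
  have hcu : Commute (d ^ k) u := by
    have := conj_mul_pow hu hv k
    rw [← hd, mul_inv_eq_iff_eq_mul, inv_eq_self_of_sq hsq] at this
    exact this.symm
  have hcd : Commute (d ^ k) d := (Commute.refl d).pow_left k
  have hveq : v = u * d := by rw [hd, ← mul_assoc, hu, one_mul]
  refine ⟨hsq, hcu, ?_⟩
  rw [hveq]
  exact hcu.mul_right hcd

/-! ### Isolated involutions -/

variable {z : G}

theorem conj_sq (hz : orderOf z = 2) (g : G) : (g * z * g⁻¹) * (g * z * g⁻¹) = 1 := by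
  have h := sq_of_orderOf_two hz
  rw [show g * z * g⁻¹ * (g * z * g⁻¹) = g * (z * z) * g⁻¹ by group, h, mul_one, mul_inv_cancel]

theorem odd_orderOf_mul_conj [Finite G] (hz : Cfsg.IsIsolatedInvolution z) (g : G) :
    Odd (orderOf (z * (g * z * g⁻¹))) := by
  have hz2 := sq_of_orderOf_two hz.1
  set v := g * z * g⁻¹ with hv
  have hv2 : v * v = 1 := conj_sq hz.1 g
  by_contra hodd
  rw [Nat.not_odd_iff_even] at hodd
  obtain ⟨k, hk⟩ := hodd
  set d := z * v with hd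
  have hpos : 0 < orderOf d := orderOf_pos d
  have hne : d ^ k ≠ 1 := pow_ne_one_of_lt_orderOf (by omega) (by omega)
  have hsq : d ^ k * d ^ k = 1 := by rw [← pow_add, ← hk, pow_orderOf_eq_one]
  have hconj : ∀ i : ℕ, z * d ^ i = (d ^ i)⁻¹ * z := fun i => by
    have := conj_mul_pow hz2 hv2 i
    rwa [← hd, mul_inv_eq_iff_eq_mul] at this
  have hcomm : Commute z (d ^ k * z) := by
    have h1 : z * d ^ k = d ^ k * z := by rw [hconj k, inv_eq_self_of_sq hsq]
    change z * (d ^ k * z) = d ^ k * z * z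
    rw [← mul_assoc, h1]
  have hex : ∃ x : G, x * z * x⁻¹ = d ^ k * z := by
    rcases Nat.even_or_odd' k with ⟨j, rfl | rfl⟩
    · refine ⟨d ^ j, ?_⟩
      have h2 : z * (d ^ j)⁻¹ = d ^ j * z := by
        have h3 := hconj j
        calc z * (d ^ j)⁻¹ = d ^ j * ((d ^ j)⁻¹ * z) * (d ^ j)⁻¹ := by group
          _ = d ^ j * (z * d ^ j) * (d ^ j)⁻¹ := by rw [h3]
          _ = d ^ j * z := by group
      rw [mul_assoc, h2, ← mul_assoc, ← pow_add, two_mul]
    · refine ⟨d ^ j * z * g, ?_⟩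
      have h2 : d * z = z * v * z⁻¹ := by rw [hd, inv_eq_self_of_sq hz2]
      calc d ^ j * z * g * z * (d ^ j * z * g)⁻¹
          = d ^ j * (z * v * z⁻¹) * (d ^ j)⁻¹ := by rw [hv]; group
        _ = d ^ (j + 1) * (z * (d ^ j)⁻¹) := by rw [← h2, pow_succ]; group
        _ = d ^ (j + 1) * (d ^ j * z) := by
            congr 1
            calc z * (d ^ j)⁻¹ = d ^ j * ((d ^ j)⁻¹ * z) * (d ^ j)⁻¹ := by group
              _ = d ^ j * (z * d ^ j) * (d ^ j)⁻¹ := by rw [hconj j]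
              _ = d ^ j * z := by group
        _ = d ^ (2 * j + 1) * z := by
            rw [← mul_assoc, ← pow_add]; congr 2; omega
  obtain ⟨x, hx⟩ := hex
  have hxeq := hz.2 x (by rw [hx]; exact hcomm)
  rw [hx] at hxeq
  exact hne (mul_eq_right.mp hxeq)

theorem exists_conj [Finite G] (hz : Cfsg.IsIsolatedInvolution z) (g : G) :
    ∃ c ∈ Subgroup.zpowers (z * (g * z * g⁻¹)), c * z * c⁻¹ = g * z * g⁻¹ :=
  exists_conj_of_odd (sq_of_orderOf_two hz.1) (conj_sq hz.1 g) (odd_orderOf_mul_conj hz g)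

theorem odd_orderOf_conj_mul_conj [Finite G] (hz : Cfsg.IsIsolatedInvolution z) (g h : G) :
    Odd (orderOf ((g * z * g⁻¹) * (h * z * h⁻¹))) := by
  have h1 : (g * z * g⁻¹) * (h * z * h⁻¹) = g * (z * ((g⁻¹ * h) * z * (g⁻¹ * h)⁻¹)) * g⁻¹ := by
    group
  rw [h1]
  have := odd_orderOf_mul_conj hz (g⁻¹ * h)
  rwa [← MulAut.conj_apply, MulEquiv.orderOf_eq]

/-- `C(z)` controls fusion in every subgroup normalized by `z`. -/
theorem exists_commute_conj [Finite G] (hz : Cfsg.IsIsolatedInvolution z) (H : Subgroup G)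
    (hzH : z ∈ Subgroup.normalizer (H : Set G)) {x y h : G} (hh : h ∈ H)
    (hxz : Commute x z) (hyz : Commute y z) (hconj : h * x * h⁻¹ = y) :
    ∃ c ∈ H, Commute c z ∧ c * x * c⁻¹ = y := by
  set t := h⁻¹ * z * h⁻¹⁻¹ with ht
  obtain ⟨c₀, hc₀, hc₀z⟩ := exists_conj hz h⁻¹
  rw [← ht] at hc₀ hc₀z
  have hxt : Commute x t := by
    have h1 : x = h⁻¹ * y * h⁻¹⁻¹ := by rw [← hconj]; group
    rw [h1, ht]
    exact hyz.conj h⁻¹
  have hxc₀ : Commute x c₀ := by
    obtain ⟨n, rfl⟩ := Subgroup.mem_zpowers_iff.mp hc₀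
    exact (hxz.mul_right hxt).zpow_right n
  have hztH : z * t ∈ H := by
    have h1 : z * t = z * h⁻¹ * z⁻¹ * h := by
      rw [ht, inv_inv, inv_eq_self_of_sq (sq_of_orderOf_two hz.1)]; group
    rw [h1]
    exact mul_mem ((Subgroup.mem_normalizer_iff.mp hzH h⁻¹).mp (inv_mem hh)) hh
  refine ⟨h * c₀, mul_mem hh ((Subgroup.zpowers_le.mpr hztH) hc₀), ?_, ?_⟩
  · have h1 : h * c₀ * z * (h * c₀)⁻¹ = z := by
      calc h * c₀ * z * (h * c₀)⁻¹ = h * (c₀ * z * c₀⁻¹) * h⁻¹ := by group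
        _ = z := by rw [hc₀z, ht]; group
    exact mul_inv_eq_iff_eq_mul.mp h1
  · calc h * c₀ * x * (h * c₀)⁻¹ = h * (c₀ * x) * c₀⁻¹ * h⁻¹ := by group
      _ = h * (x * c₀) * c₀⁻¹ * h⁻¹ := by rw [hxc₀.eq]
      _ = y := by rw [← hconj]; group

theorem decomp_exists [Finite G] (hz : Cfsg.IsIsolatedInvolution z) (g : G) :
    ∃ k : G, (Odd (orderOf k) ∧ z * k * z⁻¹ = k⁻¹) ∧
      g⁻¹ * k ∈ Subgroup.centralizer ({z} : Set G) := by
  obtain ⟨c, hc, hcz⟩ := exists_conj hz g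
  refine ⟨c, ⟨?_, ?_⟩, ?_⟩
  · obtain ⟨n, rfl⟩ := Subgroup.mem_zpowers_iff.mp hc
    exact (odd_orderOf_mul_conj hz g).of_dvd_nat
      (orderOf_dvd_of_pow_eq_one (by rw [← zpow_natCast, ← zpow_mul, mul_comm, zpow_mul,
        zpow_natCast, pow_orderOf_eq_one, one_zpow]))
  · obtain ⟨n, rfl⟩ := Subgroup.mem_zpowers_iff.mp hc
    rw [← conj_zpow, ← inv_zpow]
    congr 1
    have h1 := conj_mul_pow (sq_of_orderOf_two hz.1) (conj_sq hz.1 g) 1
    rwa [pow_one] at h1
  · rw [Subgroup.mem_centralizer_singleton_iff]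
    calc g⁻¹ * c * z = g⁻¹ * (c * z * c⁻¹) * c := by group
      _ = z * (g⁻¹ * c) := by rw [hcz]; group

theorem decomp_unique [Finite G] (hz : Cfsg.IsIsolatedInvolution z) {g k k' : G}
    (hk : (Odd (orderOf k) ∧ z * k * z⁻¹ = k⁻¹) ∧ g⁻¹ * k ∈ Subgroup.centralizer ({z} : Set G))
    (hk' : (Odd (orderOf k') ∧ z * k' * z⁻¹ = k'⁻¹) ∧
      g⁻¹ * k' ∈ Subgroup.centralizer ({z} : Set G)) :
    k = k' := by
  have key : ∀ l : G, z * l * z⁻¹ = l⁻¹ → g⁻¹ * l ∈ Subgroup.centralizer ({z} : Set G) →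
      l ^ 2 = g * z * g⁻¹ * z := by
    intro l hl hlc
    rw [Subgroup.mem_centralizer_singleton_iff] at hlc
    have h1 : l * z * l⁻¹ = g * z * g⁻¹ := by
      calc l * z * l⁻¹ = g * (g⁻¹ * l * z) * l⁻¹ := by group
        _ = g * z * g⁻¹ := by rw [hlc]; group
    have h2 : l⁻¹⁻¹ = (z * l * z⁻¹)⁻¹ := by rw [hl]
    have h3 : l * z = z * l⁻¹ := by
      calc l * z = l⁻¹⁻¹ * z := by rw [inv_inv]
        _ = (z * l * z⁻¹)⁻¹ * z := by rw [h2]
        _ = z * l⁻¹ := by group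
    calc l ^ 2 = l * (l * z) * z⁻¹ := by rw [pow_two]; group
      _ = l * (z * l⁻¹) * z⁻¹ := by rw [h3]
      _ = g * z * g⁻¹ * z := by
        rw [← mul_assoc l, h1, inv_eq_self_of_sq (sq_of_orderOf_two hz.1)]
  have hsq : k ^ 2 = k' ^ 2 := (key k hk.1.2 hk.2).trans (key k' hk'.1.2 hk'.2).symm
  have ho : orderOf k = orderOf k' := by
    rw [← (Nat.Coprime.orderOf_pow (Nat.coprime_two_right.mpr hk.1.1)), hsq,
      Nat.Coprime.orderOf_pow (Nat.coprime_two_right.mpr hk'.1.1)]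
  obtain ⟨m, hm⟩ := hk.1.1
  calc k = (k ^ 2) ^ (m + 1) := by
        rw [← pow_mul, show 2 * (m + 1) = orderOf k + 1 by omega, pow_succ, pow_orderOf_eq_one,
          one_mul]
    _ = (k' ^ 2) ^ (m + 1) := by rw [hsq]
    _ = k' := by
        rw [← pow_mul, show 2 * (m + 1) = orderOf k' + 1 by omega, pow_succ, pow_orderOf_eq_one,
          one_mul]

theorem commute_of_isPGroup [Finite G] (hz : Cfsg.IsIsolatedInvolution z) (P : Subgroup G)
    (hP : IsPGroup 2 P) (hzP : z ∈ P) {p : G} (hp : p ∈ P) : Commute p z := by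
  have hodd := odd_orderOf_mul_conj hz p
  have hmem : z * (p * z * p⁻¹) ∈ P := mul_mem hzP (mul_mem (mul_mem hp hzP) (inv_mem hp))
  obtain ⟨k, hk⟩ := hP ⟨_, hmem⟩
  have hk' : (z * (p * z * p⁻¹)) ^ 2 ^ k = 1 := congrArg Subtype.val hk
  have h1 : orderOf (z * (p * z * p⁻¹)) = 1 :=
    Nat.eq_one_of_dvd_coprimes (Nat.Coprime.pow_right k (Nat.coprime_two_right.mpr hodd))
      dvd_rfl (orderOf_dvd_of_pow_eq_one hk')
  rw [orderOf_eq_one_iff, mul_eq_one_iff_inv_eq, inv_eq_self_of_sq (sq_of_orderOf_two hz.1)] at h1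
  exact mul_inv_eq_iff_eq_mul.mp h1.symm

theorem odd_index_centralizer [Finite G] (hz : Cfsg.IsIsolatedInvolution z) :
    Odd (Subgroup.centralizer ({z} : Set G)).index := by
  have : Fact (Nat.Prime 2) := ⟨Nat.prime_two⟩
  have hzp : IsPGroup 2 (Subgroup.zpowers z) := by
    refine IsPGroup.of_card (n := 1) ?_
    rw [Nat.card_zpowers, hz.1, pow_one]
  obtain ⟨P, hP⟩ := hzp.exists_le_sylow
  have hle : (P : Subgroup G) ≤ Subgroup.centralizer ({z} : Set G) := fun p hp =>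
    Subgroup.mem_centralizer_singleton_iff.mpr
      (commute_of_isPGroup hz P P.isPGroup' (hP (Subgroup.mem_zpowers z)) hp).eq
  exact Nat.not_even_iff_odd.mp fun he => P.not_dvd_index
    (he.two_dvd.trans (Subgroup.index_dvd_of_le hle))

end Cfsg.Agent.IsolatedInv
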