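import Mathlib
import Cfsg.Prelude.Def_TwoFusion
import Cfsg.Prelude.Def_Transfer
import Cfsg.Agent.Lib.IsolatedInv
import Cfsg.Agent.Lib.HallCore
import Cfsg.Agent.Lib.CharKernel

/-!
# Isolated and solitary involutions: group theoretic basics

An involution is solitary when it is the only involution commuting with it; this is the
situation of a Sylow `2`-subgroup with a single involution.
-/

set_option autoImplicit false

namespace Cfsg.Agent.ZStarBasic

open Cfsg Cfsg.Agent.IsolatedInv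

universe u

variable {G : Type u} [Group G]

/-- The only involution commuting with `z` is `z` itself. -/
def Solitary (z : G) : Prop :=
  orderOf z = 2 ∧ ∀ t : G, orderOf t = 2 → Commute t z → t = z

theorem orderOf_conj_eq (g x : G) : orderOf (g * x * g⁻¹) = orderOf x :=
  (MulAut.conj g).orderOf_eq x

theorem Solitary.isolated {z : G} (hz : Solitary z) : IsIsolatedInvolution z :=
  ⟨hz.1, fun g hg => hz.2 _ ((orderOf_conj_eq g z).trans hz.1) hg.symm⟩

theorem isolated_subgroup {z : G} (hz : IsIsolatedInvolution z) (H : Subgroup G) (hzH : z ∈ H) :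
    IsIsolatedInvolution (⟨z, hzH⟩ : H) := by
  refine ⟨(Subgroup.orderOf_mk z hzH).trans hz.1, fun g hg => Subtype.ext ?_⟩
  exact hz.2 g (congrArg Subtype.val hg.eq)

theorem Solitary.subgroup {z : G} (hz : Solitary z) (H : Subgroup G) (hzH : z ∈ H) :
    Solitary (⟨z, hzH⟩ : H) := by
  refine ⟨(Subgroup.orderOf_mk z hzH).trans hz.1, fun t ht hc => Subtype.ext ?_⟩
  exact hz.2 t ((Subgroup.orderOf_coe t).trans ht) (congrArg Subtype.val hc.eq)

/-- An involution that is alone among its conjugates in a Sylow subgroup is isolated. -/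
theorem isolated_of_sylow [Finite G] (P : Sylow 2 G) (z : G) (hz : orderOf z = 2) (hzP : z ∈ P)
    (hiso : ∀ g : G, g * z * g⁻¹ ∈ P → g * z * g⁻¹ = z) : IsIsolatedInvolution z := by
  have : Fact (Nat.Prime 2) := ⟨Nat.prime_two⟩
  refine ⟨hz, fun g hg => ?_⟩
  set C := Subgroup.centralizer ({z} : Set G) with hC
  have hPC : (P : Subgroup G) ≤ C := fun x hx => by
    have := hiso x (mul_mem (mul_mem hx hzP) (inv_mem hx))
    rw [mul_inv_eq_iff_eq_mul] at this
    exact Subgroup.mem_centralizer_singleton_iff.2 this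
  have hvC : g * z * g⁻¹ ∈ C := Subgroup.mem_centralizer_singleton_iff.2 hg.eq.symm
  let Q : Sylow 2 C := P.subtype hPC
  have hv : IsPGroup 2 (Subgroup.zpowers (⟨g * z * g⁻¹, hvC⟩ : C)) := by
    refine IsPGroup.of_card (n := 1) ?_
    rw [Nat.card_zpowers, pow_one, Subgroup.orderOf_mk, orderOf_conj_eq, hz]
  obtain ⟨R, hR⟩ := hv.exists_le_sylow
  obtain ⟨c, rfl⟩ := MulAction.exists_smul_eq C Q R
  obtain ⟨c₀, hc₀⟩ := c
  have hmem := hR (Subgroup.mem_zpowers _)
  rw [Sylow.coe_subgroup_smul, Subgroup.mem_pointwise_smul_iff_inv_smul_mem] at hmem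
  rw [← map_inv, MulAut.smul_def, MulAut.conj_apply] at hmem
  have h1 : c₀⁻¹ * (g * z * g⁻¹) * c₀⁻¹⁻¹ ∈ P := hmem
  have h2 : c₀⁻¹ * g * z * (c₀⁻¹ * g)⁻¹ = c₀⁻¹ * (g * z * g⁻¹) * c₀⁻¹⁻¹ := by group
  have h3 := hiso (c₀⁻¹ * g) (h2 ▸ h1)
  rw [h2, inv_inv] at h3
  have h4 : c₀ * z = z * c₀ := Subgroup.mem_centralizer_singleton_iff.1 hc₀
  calc g * z * g⁻¹ = c₀ * (c₀⁻¹ * (g * z * g⁻¹) * c₀) * c₀⁻¹ := by group
    _ = c₀ * z * c₀⁻¹ := by rw [h3]
    _ = z := by rw [h4, mul_inv_cancel_right]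

theorem eq_bot_of_normal_odd [Finite G] (hO : pPrimeCore 2 G = ⊥) (N : Subgroup G) [N.Normal]
    (hN : Odd (Nat.card N)) : N = ⊥ :=
  le_bot_iff.1 (hO ▸ HallCore.le_pPrimeCore (Nat.coprime_two_right.2 hN))

theorem pPrimeCore_normal_eq_bot [Finite G] (hO : pPrimeCore 2 G = ⊥) (N : Subgroup G) [N.Normal] :
    pPrimeCore 2 N = ⊥ := by
  have : Fact (Nat.Prime 2) := ⟨Nat.prime_two⟩
  have h := HallCore.map_subtype_piCore (π := ({2} : Set ℕ)ᶜ) N
  rw [← HallCore.pPrimeCore_eq_piCore, ← HallCore.pPrimeCore_eq_piCore, hO, bot_inf_eq,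
    Subgroup.map_eq_bot_iff, N.ker_subtype, le_bot_iff] at h
  exact h

/-- An isolated involution central in a normal subgroup containing it is central. -/
theorem mem_center_of_normal {z : G} (hz : IsIsolatedInvolution z) (N : Subgroup G) [N.Normal]
    (hzN : z ∈ N) (hc : (⟨z, hzN⟩ : N) ∈ Subgroup.center N) : z ∈ Subgroup.center G := by
  rw [Subgroup.mem_center_iff]
  intro g
  have hv : g * z * g⁻¹ ∈ N := Subgroup.Normal.conj_mem inferInstance z hzN g
  have h1 : Commute z (g * z * g⁻¹) :=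
    (congrArg Subtype.val (Subgroup.mem_center_iff.1 hc ⟨_, hv⟩)).symm
  exact mul_inv_eq_iff_eq_mul.1 (hz.2 g h1)

/-- If `z` is central in each proper normal subgroup containing it, a nontrivial character with
`z` in its kernel makes it central. -/
theorem mem_center_of_apply_eq [Finite G] {z : G} (hz : IsIsolatedInvolution z)
    (IH : ∀ (N : Subgroup G) (h : z ∈ N), N.Normal → N ≠ ⊤ → (⟨z, h⟩ : N) ∈ Subgroup.center N)
    (χ : IrrCharacter G) (hne : (χ : G → ℂ) ≠ fun _ => 1)
    (h : (χ : G → ℂ) z = (χ : G → ℂ) 1) : z ∈ Subgroup.center G := by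
  have hn := CharKernel.irrKer_normal χ
  have hzN : z ∈ CharKernel.irrKer χ := CharKernel.mem_irrKer.2 h
  refine mem_center_of_normal hz _ hzN (IH _ hzN hn fun htop => hne ?_)
  -- a character with kernel the whole group is trivial
  have := Fintype.ofFinite G
  have hconst : ∀ g : G, (χ : G → ℂ) g = (χ : G → ℂ) 1 := fun g =>
    CharKernel.mem_irrKer.1 (htop ▸ Subgroup.mem_top g)
  by_contra hne'
  have h0 := CharBasicOrth.classInner_irr_ne χ.2 CharBasicDecomp.isIrrCharacter_one hne'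
  rw [classInner] at h0
  simp only [hconst, map_one, mul_one, Finset.sum_const, Finset.card_univ, nsmul_eq_mul,
    mul_eq_zero, inv_eq_zero, Nat.cast_eq_zero] at h0
  rcases h0 with h0 | h0 | h0
  · exact Nat.card_pos.ne' h0
  · exact Fintype.card_ne_zero h0
  · exact CharBasic.isIrrCharacter_apply_one_ne_zero χ.2 h0

/-- A fusion-invariant homomorphism from a Sylow subgroup extends, up to an exponent prime
to `p`, to the whole group. -/
theorem exists_hom_of_fusion_invariant [Finite G] {p : ℕ} [Fact p.Prime] (S : Sylow p G)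
    {A : Type*} [CommGroup A] (ψ : (S : Subgroup G) →* A)
    (hinv : ∀ x y : (S : Subgroup G), IsConj (x : G) y → ψ x = ψ y) :
    ∃ f : G →* A, ∀ x : (S : Subgroup G), f x = ψ x ^ (S : Subgroup G).index := by
  classical
  refine ⟨ψ.transfer, fun x => ?_⟩
  let := (S : Subgroup G).fintypeQuotientOfFiniteIndex
  rw [MonoidHom.transfer_eq_prod_quotient_orbitRel_zpowers_quot,
    Subgroup.index_eq_sum_minimalPeriod (S : Subgroup G) (x : G), ← Finset.prod_pow_eq_pow_sum]
  refine Finset.prod_congr rfl fun q _ => ?_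
  rw [← map_pow]
  refine (hinv _ _ ?_).symm
  rw [SubgroupClass.coe_pow, isConj_iff]
  exact ⟨q.out.out⁻¹, by rw [inv_inv]⟩

/-- Generators of a quaternion subgroup. -/
theorem exists_quaternion_gens (S : Subgroup G) {N : ℕ} [NeZero N] (hN : 2 ≤ N)
    (e : S ≃* QuaternionGroup N) :
    ∃ a b : G, a ∈ S ∧ b ∈ S ∧ orderOf a = 2 * N ∧ b ∉ Subgroup.zpowers a ∧
      (∀ s ∈ S, s ∉ Subgroup.zpowers a → s * a * s⁻¹ = a⁻¹ ∧ s * s = a ^ N) ∧
      (∀ s ∈ S, s ∈ Subgroup.zpowers a ∨ b * s ∈ Subgroup.zpowers a) := by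
  let A : S := e.symm (QuaternionGroup.a 1)
  let B : S := e.symm (QuaternionGroup.xa 0)
  have hpow : ∀ i : ZMod (2 * N), ∃ k : ℕ, e.symm (QuaternionGroup.a i) = A ^ k := fun i =>
    ⟨i.val, by rw [← map_pow, QuaternionGroup.a_one_pow, ZMod.natCast_zmod_val]⟩
  have hmem : ∀ w : S, (w : G) ∈ Subgroup.zpowers (A : G) ↔ ∃ i, e w = QuaternionGroup.a i := by
    intro w
    constructor
    · intro hw
      obtain ⟨k, hk⟩ : ∃ k : ℕ, A ^ k = w := by
        have hfin : IsOfFinOrder A := by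
          refine orderOf_pos_iff.1 ?_
          rw [MulEquiv.orderOf_eq e.symm, QuaternionGroup.orderOf_a_one]; omega
        have : w ∈ Subgroup.zpowers A := by
          obtain ⟨k, hk⟩ := Subgroup.mem_zpowers_iff.1 hw
          exact ⟨k, Subtype.ext (by simpa using hk)⟩
        exact (hfin.mem_powers_iff_mem_zpowers.2 this)
      exact ⟨k, by rw [← hk, map_pow]; simp [A]⟩
    · rintro ⟨i, hi⟩
      obtain ⟨k, hk⟩ := hpow i
      have : w = A ^ k := by rw [← hk, ← hi, e.symm_apply_apply]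
      rw [this, SubgroupClass.coe_pow]
      exact Subgroup.npow_mem_zpowers _ _
  refine ⟨A, B, A.2, B.2, ?_, ?_, ?_, ?_⟩
  · rw [Subgroup.orderOf_coe, MulEquiv.orderOf_eq e.symm, QuaternionGroup.orderOf_a_one]
  · rw [hmem]
    rintro ⟨i, hi⟩
    simp [B] at hi
  · intro s hs hnot
    rw [show s = ((⟨s, hs⟩ : S) : G) from rfl, hmem] at hnot
    obtain ⟨j, hj⟩ : ∃ j, e ⟨s, hs⟩ = QuaternionGroup.xa j := by
      cases h : e ⟨s, hs⟩ with
      | a i => exact absurd ⟨i, h⟩ hnot
      | xa j => exact ⟨j, rfl⟩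
    constructor
    · have : (⟨s, hs⟩ : S) * A * (⟨s, hs⟩ : S)⁻¹ = A⁻¹ := by
        rw [mul_inv_eq_iff_eq_mul]
        apply e.injective
        simp only [map_mul, map_inv, hj, A, MulEquiv.apply_symm_apply, QuaternionGroup.xa_mul_a]
        rw [show (QuaternionGroup.a (1 : ZMod (2 * N)))⁻¹ = QuaternionGroup.a (-1) from rfl]
        simp [sub_neg_eq_add]
      simpa using congrArg Subtype.val this
    · have : (⟨s, hs⟩ : S) * ⟨s, hs⟩ = A ^ N := by
        apply e.injective
        rw [map_mul, map_pow, hj, show e A = QuaternionGroup.a 1 from e.apply_symm_apply _,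
        QuaternionGroup.a_one_pow, QuaternionGroup.xa_mul_xa, add_sub_cancel_right]
      simpa using congrArg Subtype.val this
  · intro s hs
    rw [show s = ((⟨s, hs⟩ : S) : G) from rfl, hmem, show (B : G) * ((⟨s, hs⟩ : S) : G) =
      ((B * ⟨s, hs⟩ : S) : G) from rfl, hmem]
    cases h : e ⟨s, hs⟩ with
    | a i => exact Or.inl ⟨i, rfl⟩
    | xa j => exact Or.inr ⟨_, by simp [B, map_mul, h]; rfl⟩

end Cfsg.Agent.ZStarBasic
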