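import Mathlib
import Cfsg.Agent.Lib.ZStarBasic
import Cfsg.Agent.Lib.BlockTheoryIdem
import Cfsg.Agent.Lib.PGroupsCyclic

/-!
# Quaternion Sylow subgroups: the centralizer of an element of order at least four
-/

set_option autoImplicit false

namespace Cfsg.Agent.ZStarLocal

open Cfsg Cfsg.Agent.ZStarBasic

universe u

variable {G : Type u} [Group G]

/-- Generators of a generalized quaternion subgroup of order `2 ^ (n + 2)`. -/
structure Gens (S : Subgroup G) (a b : G) (n : ℕ) : Prop where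
  pos : 1 ≤ n
  a_mem : a ∈ S
  b_mem : b ∈ S
  order : orderOf a = 2 ^ (n + 1)
  not_mem : b ∉ Subgroup.zpowers a
  inv : ∀ s ∈ S, s ∉ Subgroup.zpowers a → s * a * s⁻¹ = a⁻¹ ∧ s * s = a ^ 2 ^ n
  cover : ∀ s ∈ S, s ∈ Subgroup.zpowers a ∨ b * s ∈ Subgroup.zpowers a

theorem exists_gens (S : Subgroup G) {n : ℕ} (hn : 1 ≤ n)
    (e : S ≃* QuaternionGroup (2 ^ n)) : ∃ a b : G, Gens S a b n := by
  have : NeZero (2 ^ n) := ⟨by positivity⟩
  have h2 : 2 ≤ 2 ^ n := le_trans (le_of_eq (pow_one 2).symm) (Nat.pow_le_pow_right (by norm_num) hn)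
  obtain ⟨a, b, ha, hb, ho, hba, hinv, hcov⟩ := exists_quaternion_gens S h2 e
  exact ⟨a, b, hn, ha, hb, by rw [ho, pow_succ, mul_comm], hba, hinv, hcov⟩

variable {S : Subgroup G} {a b : G} {n : ℕ}

theorem Gens.conj_of_mem_zpowers (h : Gens S a b n) {s c : G} (hs : s ∈ S)
    (hsa : s ∉ Subgroup.zpowers a) (hc : c ∈ Subgroup.zpowers a) : s * c * s⁻¹ = c⁻¹ := by
  obtain ⟨k, rfl⟩ := Subgroup.mem_zpowers_iff.1 hc
  rw [← conj_zpow, (h.inv s hs hsa).1, inv_zpow]

theorem Gens.z_ne_one (h : Gens S a b n) : a ^ 2 ^ n ≠ 1 := by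
  refine pow_ne_one_of_lt_orderOf (by positivity) ?_
  rw [h.order]
  exact Nat.pow_lt_pow_right one_lt_two n.lt_succ_self

theorem Gens.orderOf_z (h : Gens S a b n) : orderOf (a ^ 2 ^ n) = 2 := by
  refine orderOf_eq_prime ?_ h.z_ne_one
  rw [← pow_mul, ← pow_succ, ← h.order, pow_orderOf_eq_one]

theorem Gens.eq_of_involution (h : Gens S a b n) {t : G} (ht : t ∈ S) (hto : orderOf t = 2) :
    t = a ^ 2 ^ n := by
  have ht2 : t * t = 1 := IsolatedInv.sq_of_orderOf_two hto
  by_cases hta : t ∈ Subgroup.zpowers a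
  · have hfin : IsOfFinOrder a := orderOf_pos_iff.1 (by rw [h.order]; positivity)
    obtain ⟨k, rfl⟩ := hfin.mem_powers_iff_mem_zpowers.2 hta
    have hdvd : 2 ^ (n + 1) ∣ k * 2 := by
      rw [← h.order]; exact orderOf_dvd_of_pow_eq_one (by rw [pow_mul, pow_two]; exact ht2)
    rw [pow_succ] at hdvd
    obtain ⟨j, hj⟩ := Nat.dvd_of_mul_dvd_mul_right two_pos hdvd
    subst hj
    simp only [pow_mul]
    have hz := pow_orderOf_eq_one (a ^ 2 ^ n)
    rw [h.orderOf_z] at hz
    rcases Nat.even_or_odd' j with ⟨i, rfl | rfl⟩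
    · exfalso
      simp only [pow_mul, hz, one_pow, orderOf_one] at hto
      omega
    · rw [pow_succ, pow_mul, hz, one_pow, one_mul]
  · exact absurd ((h.inv t ht hta).2.symm.trans ht2) h.z_ne_one

theorem isConj_of_solitary [Finite G] {z : G} (hz : Solitary z) {t : G} (ht : orderOf t = 2) :
    IsConj z t := by
  have hz2 := IsolatedInv.sq_of_orderOf_two hz.1
  have ht2 := IsolatedInv.sq_of_orderOf_two ht
  rcases Nat.even_or_odd (orderOf (z * t)) with he | ho
  · obtain ⟨w, -, hw1, hw2, hwz, hwt⟩ := IsolatedInv.exists_central_of_even hz2 ht2 he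
    have hwo : orderOf w = 2 := orderOf_eq_prime (by rw [pow_two, hw2]) hw1
    have : w = z := hz.2 w hwo hwz
    rw [this] at hwt
    rw [hz.2 t ht hwt.symm]
  · obtain ⟨c, -, hc⟩ := IsolatedInv.exists_conj_of_odd hz2 ht2 ho
    exact isConj_iff.2 ⟨c, hc⟩

/-- The involution of a quaternion Sylow subgroup is solitary. -/
theorem Gens.solitary [Finite G] {S : Sylow 2 G} (h : Gens (S : Subgroup G) a b n) :
    Solitary (a ^ 2 ^ n) := by
  have : Fact (Nat.Prime 2) := ⟨Nat.prime_two⟩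
  set z := a ^ 2 ^ n
  have hz2 : z * z = 1 := IsolatedInv.sq_of_orderOf_two h.orderOf_z
  refine ⟨h.orderOf_z, fun t ht hc => ?_⟩
  have hsup : IsPGroup 2 (Subgroup.zpowers z ⊔ Subgroup.zpowers t : Subgroup G) := by
    refine IsPGroup.to_sup_of_normal_left' ?_ ?_ ?_
    · exact IsPGroup.of_card (n := 1) (by rw [Nat.card_zpowers, pow_one, h.orderOf_z])
    · exact IsPGroup.of_card (n := 1) (by rw [Nat.card_zpowers, pow_one, ht])
    · refine Subgroup.zpowers_le.2 (Subgroup.centralizer_le_normalizer _ ?_)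
      rw [Subgroup.zpowers_eq_closure, Subgroup.centralizer_closure]
      exact Subgroup.mem_centralizer_singleton_iff.2 hc.eq
  obtain ⟨T, hT⟩ := hsup.exists_le_sylow
  obtain ⟨g, rfl⟩ := MulAction.exists_smul_eq G S T
  have hmem : ∀ x ∈ (g • S : Sylow 2 G), g⁻¹ * x * g ∈ (S : Subgroup G) := by
    intro x hx
    have hx' : x ∈ ((g • S : Sylow 2 G) : Subgroup G) := hx
    rw [Sylow.coe_subgroup_smul, Subgroup.mem_pointwise_smul_iff_inv_smul_mem, ← map_inv,
      MulAut.smul_def, MulAut.conj_apply, inv_inv] at hx'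
    exact hx'
  have key : ∀ x : G, orderOf x = 2 → x ∈ (g • S : Sylow 2 G) → g⁻¹ * x * g = z := fun x hx hxT =>
    h.eq_of_involution (hmem x hxT)
      (by rw [show g⁻¹ * x * g = g⁻¹ * x * g⁻¹⁻¹ by rw [inv_inv], orderOf_conj_eq, hx])
  have h1 := key t ht (hT (Subgroup.mem_sup_right (Subgroup.mem_zpowers _)))
  have h2 := key z h.orderOf_z (hT (Subgroup.mem_sup_left (Subgroup.mem_zpowers _)))
  exact mul_left_cancel (mul_right_cancel (h1.trans h2.symm))

/-- The centralizer of an element of order at least four of the cyclic subgroup of index two: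
a linear character and the normalizer. -/
theorem exists_linear [Finite G] {S : Sylow 2 G} (h : Gens (S : Subgroup G) a b n) {c : G}
    (hc : c ∈ Subgroup.zpowers a) (hc2 : c * c ≠ 1) (ω : ℂˣ) (hω : ω ^ 2 ^ (n + 1) = 1) :
    ∃ (ha : a ∈ Subgroup.centralizer ({c} : Set G))
      (μ : Subgroup.centralizer ({c} : Set G) →* ℂˣ),
      (∃ m, Odd m ∧ μ ⟨a, ha⟩ = ω ^ m) ∧ (∀ x, μ x ∈ Subgroup.zpowers ω) ∧
      b ∉ Subgroup.centralizer ({c} : Set G) ∧
      (∀ x : Subgroup.centralizer ({c} : Set G), (∃ k, orderOf x = 2 ^ k) →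
        ∃ y : Subgroup.centralizer ({c} : Set G),
          ((y * x * y⁻¹ : Subgroup.centralizer ({c} : Set G)) : G) ∈ Subgroup.zpowers a) ∧
      ∀ g ∈ Subgroup.normalizer (Subgroup.zpowers c : Set G),
        g ∈ Subgroup.centralizer ({c} : Set G) ∨ b * g ∈ Subgroup.centralizer ({c} : Set G) := by
  have : Fact (Nat.Prime 2) := ⟨Nat.prime_two⟩
  set H := Subgroup.centralizer ({c} : Set G) with hH
  set Nd := Subgroup.normalizer (Subgroup.zpowers c : Set G) with hNd
  have ha : a ∈ H := by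
    obtain ⟨k, rfl⟩ := Subgroup.mem_zpowers_iff.1 hc
    exact Subgroup.mem_centralizer_singleton_iff.2 (Commute.self_zpow a k).eq
  have hAH : Subgroup.zpowers a ≤ H := Subgroup.zpowers_le.2 ha
  have hSH : ∀ s ∈ (S : Subgroup G), s ∈ H → s ∈ Subgroup.zpowers a := by
    intro s hs hsH
    by_contra hsa
    have h1 := h.conj_of_mem_zpowers hs hsa hc
    rw [Subgroup.mem_centralizer_singleton_iff.1 hsH, mul_inv_cancel_right] at h1
    exact hc2 (mul_eq_one_iff_eq_inv.2 h1)
  have hbH : b ∉ H := fun hb => h.not_mem (hSH b h.b_mem hb)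
  have hHN : H ≤ Nd := by
    rw [hH, ← Subgroup.centralizer_closure, ← Subgroup.zpowers_eq_closure]
    exact Subgroup.centralizer_le_normalizer _
  have hSN : (S : Subgroup G) ≤ Nd := by
    intro s hs
    by_cases hsa : s ∈ Subgroup.zpowers a
    · exact hHN (hAH hsa)
    · rw [hNd, Subgroup.mem_normalizer_iff_map_conj_eq, MonoidHom.map_zpowers]
      show Subgroup.zpowers (s * c * s⁻¹) = _
      rw [h.conj_of_mem_zpowers hs hsa hc, Subgroup.zpowers_inv]
  let SN : Sylow 2 Nd := S.subtype hSN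
  -- the kernel of the action on `zpowers c`
  let φ := Subgroup.normalizerMonoidHom (Subgroup.zpowers c)
  have hcz : Subgroup.centralizer (Subgroup.zpowers c : Set G) = H := by
    rw [hH, Subgroup.zpowers_eq_closure, Subgroup.centralizer_closure]
  have hker : ∀ g : Nd, g ∈ φ.ker ↔ (g : G) ∈ H := by
    intro g
    rw [Subgroup.normalizerMonoidHom_ker, Subgroup.mem_subgroupOf, hcz]
  have hconjH : ∀ g ∈ Nd, ∀ x ∈ H, g * x * g⁻¹ ∈ H := fun g hg x hx => by
    have := φ.normal_ker.conj_mem ⟨x, hHN hx⟩ ((hker _).2 hx) ⟨g, hg⟩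
    exact (hker _).1 this
  -- every 2-element of `H` is conjugate in `Nd` into `zpowers a`
  let A : Subgroup H := (Subgroup.zpowers a).subgroupOf H
  have hA : IsPGroup 2 A := (IsPGroup.of_card (n := n + 1)
    (by rw [Nat.card_zpowers, h.order] : Nat.card (Subgroup.zpowers a) = _)).of_equiv
      (Subgroup.subgroupOfEquivOfLe hAH).symm
  obtain ⟨R, hR⟩ := hA.exists_le_sylow
  have hRA : (R : Subgroup H) = A := by
    have hR2 : IsPGroup 2 ((R : Subgroup H).map (Subgroup.inclusion hHN)) := R.isPGroup'.map _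
    obtain ⟨T, hT⟩ := hR2.exists_le_sylow
    obtain ⟨g, rfl⟩ := MulAction.exists_smul_eq Nd SN T
    symm
    refine Subgroup.eq_of_le_of_card_ge hR ?_
    have hmem : ∀ r : (R : Subgroup H), (g : G)⁻¹ * (r : G) * g ∈ Subgroup.zpowers a := by
      intro r
      have hr : Subgroup.inclusion hHN (r : H) ∈ ((g • SN : Sylow 2 Nd) : Subgroup Nd) :=
        hT ⟨r, r.2, rfl⟩
      rw [Sylow.coe_subgroup_smul, Subgroup.mem_pointwise_smul_iff_inv_smul_mem, ← map_inv,
        MulAut.smul_def, MulAut.conj_apply, inv_inv] at hr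
      refine hSH _ hr ?_
      have := hconjH (g : G)⁻¹ (inv_mem g.2) (r : G) (r : H).2
      rwa [inv_inv] at this
    refine Nat.card_le_card_of_injective (fun r : (R : Subgroup H) =>
      (⟨⟨_, hAH (hmem r)⟩, hmem r⟩ : A)) fun r r' e => ?_
    have : (g : G)⁻¹ * (r : G) * g = (g : G)⁻¹ * (r' : G) * g :=
      congrArg (fun x : A => ((x : H) : G)) e
    exact Subtype.ext (Subtype.ext (mul_left_cancel (mul_right_cancel this)))
  have hconj : ∀ x : H, (∃ k, orderOf x = 2 ^ k) →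
      ∃ y : H, ((y * x * y⁻¹ : H) : G) ∈ Subgroup.zpowers a := by
    rintro x ⟨k, hk⟩
    obtain ⟨T, hT⟩ := (IsPGroup.of_card (n := k) (by rw [Nat.card_zpowers, hk]) :
      IsPGroup 2 (Subgroup.zpowers x)).exists_le_sylow
    obtain ⟨g, rfl⟩ := MulAction.exists_smul_eq H R T
    have hx := hT (Subgroup.mem_zpowers x)
    rw [Sylow.coe_subgroup_smul, hRA, Subgroup.mem_pointwise_smul_iff_inv_smul_mem, ← map_inv,
      MulAut.smul_def, MulAut.conj_apply] at hx
    exact ⟨g⁻¹, hx⟩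
  -- the linear character
  have hcyc : IsCyclic (R : Subgroup H) := by
    rw [hRA]
    exact (Subgroup.subgroupOfEquivOfLe hAH).isCyclic.2 inferInstance
  have haR : (⟨a, ha⟩ : H) ∈ (R : Subgroup H) := hR (Subgroup.mem_zpowers a)
  have hmin : (Nat.card H).minFac = 2 := by
    rw [Nat.minFac_eq_two_iff]
    refine dvd_trans ?_ (orderOf_dvd_natCard (⟨a, ha⟩ : H))
    rw [Subgroup.orderOf_mk, h.order]
    exact dvd_pow_self 2 (Nat.succ_ne_zero n)
  have hgen : ∀ x : (R : Subgroup H), x ∈ Subgroup.zpowers (⟨⟨a, ha⟩, haR⟩ : (R : Subgroup H)) := by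
    intro x
    have hx : (x : H) ∈ A := hRA ▸ x.2
    obtain ⟨k, hk⟩ := Subgroup.mem_zpowers_iff.1 (Subgroup.mem_subgroupOf.1 hx)
    exact ⟨k, Subtype.ext (Subtype.ext (by simpa using hk))⟩
  have hord : orderOf ω ∣ orderOf (⟨⟨a, ha⟩, haR⟩ : (R : Subgroup H)) := by
    rw [Subgroup.orderOf_mk, Subgroup.orderOf_mk, h.order]
    exact orderOf_dvd_of_pow_eq_one hω
  let ψ := monoidHomOfForallMemZpowers hgen hord
  have hψ : ψ ⟨⟨a, ha⟩, haR⟩ = ω := monoidHomOfForallMemZpowers_apply_gen hgen hord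
  let tr := MonoidHom.transferSylow R (IsCyclic.normalizer_le_centralizer hmin hcyc)
  refine ⟨ha, ψ.comp tr, ⟨(R : Subgroup H).index, ?_, ?_⟩, ?_, hbH, hconj, ?_⟩
  · exact Nat.not_even_iff_odd.1 fun he => R.not_dvd_index he.two_dvd
  · show ψ (tr ⟨a, ha⟩) = _
    rw [show tr ⟨a, ha⟩ = (⟨⟨a, ha⟩, haR⟩ : (R : Subgroup H)) ^ (R : Subgroup H).index from
      MonoidHom.transferSylow_eq_pow R _ _ haR, map_pow, hψ]
  · intro x
    show ψ (tr x) ∈ _
    obtain ⟨k, hk⟩ := Subgroup.mem_zpowers_iff.1 (hgen (tr x))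
    rw [← hk, map_zpow, hψ]
    exact Subgroup.zpow_mem_zpowers ω k
  · intro g hg
    -- the action on `zpowers c` is through a `2`-group
    have h2 : IsPGroup 2 (MulAut (Subgroup.zpowers c)) := by
      have hfin : IsOfFinOrder a := orderOf_pos_iff.1 (by rw [h.order]; positivity)
      obtain ⟨k, hk⟩ := hfin.mem_powers_iff_mem_zpowers.2 hc
      obtain ⟨m, hm, hmc⟩ := (Nat.dvd_prime_pow Nat.prime_two).1
        (show orderOf c ∣ 2 ^ (n + 1) by rw [← h.order, ← hk]; exact orderOf_pow_dvd k)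
      refine IsPGroup.of_card (n := m - 1) ?_
      rw [IsCyclic.card_mulAut, Nat.card_zpowers, hmc]
      rcases m with _ | m
      · simp
      · rw [Nat.totient_prime_pow_succ Nat.prime_two]; simp
    have hQ : IsPGroup 2 φ.range := h2.to_subgroup _
    let ST : Sylow 2 φ.range := SN.mapSurjective φ.rangeRestrict_surjective
    have htop : (ST : Subgroup φ.range) = ⊤ :=
      (ST.is_maximal' (hQ.of_equiv Subgroup.topEquiv.symm) le_top).symm
    have hgm : φ.rangeRestrict ⟨g, hg⟩ ∈ (ST : Subgroup φ.range) := by rw [htop]; trivial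
    rw [Sylow.coe_mapSurjective] at hgm
    obtain ⟨s, hs, hse⟩ := hgm
    have hmem : s⁻¹ * ⟨g, hg⟩ ∈ φ.ker := by
      rw [MonoidHom.mem_ker, map_mul, map_inv, inv_mul_eq_one]
      exact congrArg Subtype.val hse
    rw [hker] at hmem
    have hsS : (s : G) ∈ (S : Subgroup G) := hs
    rcases h.cover _ hsS with hsa | hsa
    · left
      have := mul_mem (hAH hsa) hmem
      simpa using this
    · right
      have := mul_mem (hAH hsa) hmem
      simpa [mul_assoc] using this

end Cfsg.Agent.ZStarLocal
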