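import Mathlib
import Cfsg.Agent.Lib.ZStarLocal
import Cfsg.Agent.Lib.ZStarCount
import Cfsg.Agent.Lib.CharInducedTI

/-!
# The exceptional pair of characters for a quaternion Sylow subgroup of order at least 16
-/

set_option autoImplicit false

open scoped ComplexConjugate

namespace Cfsg.Agent.ZStarQ16

open Cfsg Cfsg.Agent.ZStarLocal Cfsg.Agent.CharBasicOrth Cfsg.Agent.CharBasicDecomp
  Cfsg.Agent.CharInduced Cfsg.Agent.BlockTheoryCentre

attribute [local instance] Classical.propDecidable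

universe u

variable {G : Type u} [Group G]

/-- Nontrivial constituents of a generalized character of small norm. -/
theorem exists_support [Fintype G] (m : IrrCharacter G → ℤ) (k : ℕ) (hk : k ≤ 3)
    (h1 : m (trivIrr G) = 1) (hsum : ∑ χ, m χ * m χ = k + 1) :
    ∃ s : Finset (IrrCharacter G), s.card = k ∧ trivIrr G ∉ s ∧
      (∀ χ ∈ s, m χ = 1 ∨ m χ = -1) ∧ ∀ χ, χ ∉ s → χ ≠ trivIrr G → m χ = 0 := by
  let s := (Finset.univ.erase (trivIrr G)).filter fun χ => m χ ≠ 0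
  have hrest : ∑ χ ∈ s, m χ * m χ = k := by
    rw [← Finset.add_sum_erase _ _ (Finset.mem_univ (trivIrr G)), h1] at hsum
    have he : ∑ χ ∈ s, m χ * m χ = ∑ χ ∈ Finset.univ.erase (trivIrr G), m χ * m χ :=
      Finset.sum_filter_of_ne fun χ _ hne h0 => hne (by simp [h0])
    rw [he]
    linarith
  have hval : ∀ χ ∈ s, m χ = 1 ∨ m χ = -1 := by
    intro χ hχ
    have h2 := Finset.single_le_sum (fun φ _ => mul_self_nonneg (m φ)) hχ
    rw [hrest] at h2
    have hne := (Finset.mem_filter.1 hχ).2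
    have hk' : (k : ℤ) ≤ 3 := by exact_mod_cast hk
    have : m χ ≤ 1 := by nlinarith
    have : -1 ≤ m χ := by nlinarith
    omega
  refine ⟨s, ?_, by simp [s], hval, fun χ hχ hne => ?_⟩
  · have : ∑ χ ∈ s, m χ * m χ = ∑ _χ ∈ s, (1 : ℤ) :=
      Finset.sum_congr rfl fun χ hχ => by rcases hval χ hχ with h | h <;> simp [h]
    rw [this, Finset.sum_const, nsmul_one] at hrest
    exact_mod_cast hrest
  · by_contra h0
    exact hχ (Finset.mem_filter.2 ⟨Finset.mem_erase.2 ⟨hne, Finset.mem_univ _⟩, h0⟩)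

theorem conj_units_eq_inv (x : ℂˣ) {k : ℕ} (hk : k ≠ 0) (h : x ^ k = 1) :
    conj (x : ℂ) = ((x⁻¹ : ℂˣ) : ℂ) := by
  have h1 : ‖(x : ℂ)‖ = 1 :=
    Complex.norm_eq_one_of_pow_eq_one (by rw [← Units.val_pow_eq_pow_val, h, Units.val_one]) hk
  rw [Units.val_inv_eq_inv_val, Complex.inv_eq_conj h1]

/-- A quaternion Sylow subgroup of order at least 16 gives two exceptional characters. -/
theorem exceptional_pair [Fintype G] {S : Sylow 2 G} {a b : G} {n : ℕ}
    (h : Gens (S : Subgroup G) a b n) (hn : 2 ≤ n) :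
    ∃ χ₁ χ₂ : IrrCharacter G, (χ₁ : G → ℂ) ≠ (fun _ => 1) ∧ (χ₂ : G → ℂ) ≠ (fun _ => 1) ∧
      (χ₁ : G → ℂ) 1 = (χ₂ : G → ℂ) 1 + 1 ∧ (χ₁ : G → ℂ) (a ^ 2 ^ n) = (χ₁ : G → ℂ) 1 ∧
      ∀ g : G, ¬ 4 ∣ orderOf g → (χ₁ : G → ℂ) g - (χ₂ : G → ℂ) g = 1 := by
  have : Fact (Nat.Prime 2) := ⟨Nat.prime_two⟩
  obtain ⟨j, rfl⟩ : ∃ j, n = j + 2 := ⟨n - 2, by omega⟩
  set z := a ^ 2 ^ (j + 2) with hz
  have hsol : ZStarBasic.Solitary z := h.solitary
  have hfin : IsOfFinOrder a := orderOf_pos_iff.1 (by rw [h.order]; positivity)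
  set c := a ^ 2 with hcdef
  have hordc : orderOf c = 2 ^ (j + 2) := by
    rw [hcdef, orderOf_pow' a two_ne_zero, h.order,
      Nat.gcd_eq_right (dvd_pow_self 2 (Nat.succ_ne_zero _)), pow_succ, Nat.mul_div_cancel _ two_pos]
  have hc4 : 4 ∣ orderOf c := by rw [hordc, pow_add]; exact dvd_mul_left 4 _
  have hc2 : c * c ≠ 1 := by
    intro h1
    have := Nat.le_of_dvd two_pos (orderOf_dvd_of_pow_eq_one (x := c) (n := 2) (by rw [pow_two, h1]))
    have h4 := Nat.le_of_dvd (by rw [hordc]; positivity) hc4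
    omega
  let ω : ℂˣ := Units.mk0 Complex.I Complex.I_ne_zero
  have hω4 : ω ^ 4 = 1 := Units.ext (by simp [ω])
  have hω : ω ^ 2 ^ (j + 2 + 1) = 1 := by
    rw [show 2 ^ (j + 2 + 1) = 4 * 2 ^ (j + 1) by ring, pow_mul, hω4, one_pow]
  set H := Subgroup.centralizer ({c} : Set G) with hH
  obtain ⟨ha, μ, ⟨e, he, hμa⟩, hμω, hbH, hconj, hNd⟩ :
      ∃ (ha : a ∈ H) (μ : H →* ℂˣ),
        (∃ m, Odd m ∧ μ ⟨a, ha⟩ = ω ^ m) ∧ (∀ x, μ x ∈ Subgroup.zpowers ω) ∧ b ∉ H ∧
        (∀ x : H, (∃ k, orderOf x = 2 ^ k) →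
          ∃ y : H, ((y * x * y⁻¹ : H) : G) ∈ Subgroup.zpowers a) ∧
        ∀ g ∈ Subgroup.normalizer (Subgroup.zpowers c : Set G), g ∈ H ∨ b * g ∈ H :=
    exists_linear h (Subgroup.npow_mem_zpowers a 2) hc2 ω hω
  let A : H := ⟨a, ha⟩
  have hμ4 : ∀ x : H, μ x ^ 4 = 1 := fun x => by
    obtain ⟨k, hk⟩ := Subgroup.mem_zpowers_iff.1 (hμω x)
    rw [← hk, ← zpow_natCast, ← zpow_mul, mul_comm, zpow_mul, zpow_natCast, hω4, one_zpow]
  have hμA2 : ((μ A : ℂˣ) : ℂ) ^ 2 = -1 := by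
    show ((μ ⟨a, ha⟩ : ℂˣ) : ℂ) ^ 2 = -1
    rw [hμa, Units.val_pow_eq_pow_val, ← pow_mul, mul_comm, pow_mul]
    simp [ω, Complex.I_sq, he.neg_one_pow]
  have hodd : ∀ x : H, ¬ 2 ∣ orderOf x → μ x = 1 := by
    intro x hx
    refine orderOf_eq_one_iff.1 (Nat.eq_one_of_dvd_coprimes ?_ (orderOf_map_dvd μ x)
      (orderOf_dvd_of_pow_eq_one (hμ4 x)))
    exact Nat.Coprime.pow_right 2 (Nat.coprime_two_right.2 (by rwa [Nat.odd_iff, ← Nat.two_dvd_ne_zero]))
  -- the support of `1 - μ`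
  have key : ∀ x : H, μ x ≠ 1 → c ∈ Subgroup.zpowers (x : G) := by
    intro x hx
    obtain ⟨x₂, x₁, hmul, hcm, hx₂, hx₁⟩ := BlockTheoryIdem.exists_pPart Nat.prime_two x
    obtain ⟨y, hy⟩ := hconj x₂ hx₂
    obtain ⟨i, hi⟩ := hfin.mem_powers_iff_mem_zpowers.2 hy
    have hμ2 : μ A ^ i ≠ 1 := by
      intro h1
      apply hx
      have hAi : A ^ i = y * x₂ * y⁻¹ := Subtype.ext (by simpa [A] using hi)
      rw [← hmul, map_mul, hodd x₁ hx₁, mul_one, ← h1, ← map_pow, hAi, map_mul, map_mul, map_inv,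
        mul_inv_cancel_comm]
    have hmem : c ∈ Subgroup.zpowers (a ^ i) := by
      rcases Nat.even_or_odd' i with ⟨k, rfl | rfl⟩
      · rcases Nat.even_or_odd k with ⟨l, rfl⟩ | hk
        · refine absurd ?_ hμ2
          rw [show 2 * (l + l) = 4 * l by ring, pow_mul, hμ4, one_pow]
        · obtain ⟨m, hm⟩ := exists_pow_eq_self_of_coprime (x := c) (n := k)
            (by rw [hordc]; exact Nat.Coprime.pow_right _ (Nat.coprime_two_right.2 hk))
          rw [pow_mul, ← hcdef, Subgroup.mem_zpowers_iff]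
          exact ⟨m, by rw [zpow_natCast, hm]⟩
      · obtain ⟨m, hm⟩ := exists_pow_eq_self_of_coprime (x := a) (n := 2 * k + 1)
          (by rw [h.order]; exact Nat.Coprime.pow_right _ (Nat.coprime_two_right.2 ⟨k, rfl⟩))
        rw [Subgroup.mem_zpowers_iff]
        exact ⟨(m * 2 : ℕ), by rw [zpow_natCast, pow_mul, hm]⟩
    have hi' : a ^ i = (y : G) * x₂ * (y : G)⁻¹ := by simpa using hi
    rw [hi'] at hmem
    obtain ⟨k, hk⟩ := Subgroup.mem_zpowers_iff.1 hmem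
    have hyc : (y : G) * c = c * y := Subgroup.mem_centralizer_singleton_iff.1 y.2
    have hck : c = (x₂ : G) ^ k := by
      rw [conj_zpow] at hk
      calc c = (y : G)⁻¹ * (c * y) := by rw [← hyc]; group
        _ = (x₂ : G) ^ k := by rw [← hk]; group
    have hx₂mem : (x₂ : G) ∈ Subgroup.zpowers (x : G) := by
      obtain ⟨q, hq⟩ := hx₂
      have hcop : (orderOf x₁).Coprime (orderOf x₂) := by
        rw [hq]; exact Nat.Coprime.pow_right _ (Nat.coprime_two_right.2 (by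
          rwa [Nat.odd_iff, ← Nat.two_dvd_ne_zero]))
      obtain ⟨m, hm⟩ := exists_pow_eq_self_of_coprime (x := x₂) (n := orderOf x₁) hcop
      refine ⟨(orderOf x₁ * m : ℕ), ?_⟩
      show (x : G) ^ ((orderOf x₁ * m : ℕ) : ℤ) = _
      rw [zpow_natCast, ← hmul, ← SubgroupClass.coe_pow, hcm.mul_pow, pow_mul x₁,
        pow_orderOf_eq_one, one_pow, mul_one, pow_mul, hm]
    rw [hck]
    exact zpow_mem hx₂mem k
  have hti : ∀ g : G, ∀ x y : H, μ x ≠ 1 → μ y ≠ 1 → g⁻¹ * (x : G) * g = y →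
      g ∈ Subgroup.normalizer (Subgroup.zpowers c : Set G) := by
    intro g x y hx hy hxy
    have h1 : g⁻¹ * c * g⁻¹⁻¹ ∈ Subgroup.zpowers (y : G) := by
      obtain ⟨k, hk⟩ := Subgroup.mem_zpowers_iff.1 (key x hx)
      refine ⟨k, ?_⟩
      show (y : G) ^ k = _
      rw [← hk, ← hxy, show g⁻¹ * (x : G) * g = g⁻¹ * x * g⁻¹⁻¹ by rw [inv_inv], conj_zpow]
    have h2 : Subgroup.zpowers (g⁻¹ * c * g⁻¹⁻¹) = Subgroup.zpowers c :=
      PGroupsCyclic.eq_of_card_eq_of_isCyclic (A := Subgroup.zpowers (y : G)) inferInstance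
        (Subgroup.zpowers_le.2 h1) (Subgroup.zpowers_le.2 (key y hy))
        (by rw [Nat.card_zpowers, Nat.card_zpowers, ZStarBasic.orderOf_conj_eq])
    have h3 : g⁻¹ ∈ Subgroup.normalizer (Subgroup.zpowers c : Set G) := by
      rw [Subgroup.mem_normalizer_iff_map_conj_eq, MonoidHom.map_zpowers]
      exact h2
    exact inv_mem_iff.1 h3
  -- the induced generalized character
  let β : H → ℂ := fun x => 1 - (μ x : ℂ)
  have hβc : IsClassFunction H β := fun x y => by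
    show 1 - ((μ (y * x * y⁻¹) : ℂˣ) : ℂ) = 1 - (μ x : ℂ)
    rw [map_mul, map_mul, map_inv, mul_inv_cancel_comm]
  have hβg : IsGeneralizedCharacter H β :=
    ⟨fun _ => 1, fun x => (μ x : ℂ), CharBasicDecomp.isCharacter_one, isCharacter_linear μ, rfl⟩
  set F := indFun H β with hF
  have hb_inv : b⁻¹ ∉ H := fun hb => hbH (inv_mem_iff.1 hb)
  have hbN : b ∈ Subgroup.normalizer (Subgroup.zpowers c : Set G) := by
    rw [Subgroup.mem_normalizer_iff_map_conj_eq, MonoidHom.map_zpowers]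
    show Subgroup.zpowers (b * c * b⁻¹) = _
    rw [h.conj_of_mem_zpowers h.b_mem h.not_mem (Subgroup.npow_mem_zpowers a 2), Subgroup.zpowers_inv]
  have hbconj : ∀ x : H, b * (x : G) * b⁻¹ ∈ H := by
    intro x
    have hcb := h.conj_of_mem_zpowers h.b_mem h.not_mem (Subgroup.npow_mem_zpowers a 2)
    have hx : Commute (x : G) c := Subgroup.mem_centralizer_singleton_iff.1 x.2
    rw [← hcdef] at hcb
    have h1 := hx.conj b
    rw [hcb] at h1
    exact Subgroup.mem_centralizer_singleton_iff.2 (by simpa using h1.inv_right.eq)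
  let σ : H →* H :=
    { toFun := fun x => ⟨b * (x : G) * b⁻¹, hbconj x⟩
      map_one' := Subtype.ext (by simp)
      map_mul' := fun x y => Subtype.ext (by simp [mul_assoc]) }
  have hμσ : ∀ x : H, μ (σ x) = (μ x)⁻¹ := by
    let lam : H →* ℂˣ := μ.comp σ * μ
    have hlamA : lam A = 1 := by
      have : σ A = A⁻¹ := Subtype.ext (by
        show b * a * b⁻¹ = _
        rw [(h.inv b h.b_mem h.not_mem).1]; rfl)
      simp [lam, this]
    intro x
    suffices hl : lam x = 1 from eq_inv_of_mul_eq_one_left hl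
    obtain ⟨x₂, x₁, hmul, -, hx₂, hx₁⟩ := BlockTheoryIdem.exists_pPart Nat.prime_two x
    obtain ⟨y, hy⟩ := hconj x₂ hx₂
    obtain ⟨i, hi⟩ := hfin.mem_powers_iff_mem_zpowers.2 hy
    have hAi : A ^ i = y * x₂ * y⁻¹ := Subtype.ext (by simpa [A] using hi)
    have h2 : lam x₂ = 1 := by
      have := congrArg lam hAi
      rwa [map_pow, hlamA, one_pow, map_mul, map_mul, map_inv, mul_inv_cancel_comm, eq_comm] at this
    have h1 : lam x₁ = 1 := by
      have h3 : ¬ 2 ∣ orderOf (σ x₁) := fun hd => hx₁ (hd.trans (orderOf_map_dvd σ x₁))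
      simp [lam, hodd x₁ hx₁, hodd _ h3]
    rw [← hmul, map_mul, h1, h2, mul_one]
  have hFval : ∀ x : H, μ x ≠ 1 → F x = β x + β (σ x) := by
    intro x hx
    have hext : ∀ y : G, extendByZero H β (y⁻¹ * x * y) =
        (if y ∈ H then β x else 0) + (if b * y ∈ H then β (σ x) else 0) := by
      intro y
      by_cases hy : y ∈ H
      · have hby : b * y ∉ H := fun hb => hbH (by simpa using mul_mem hb (inv_mem hy))
        rw [if_pos hy, if_neg hby, add_zero]
        have h1 := ext_zero_conj_inv hβc (inv_mem hy) (x : G)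
        rw [inv_inv] at h1
        rw [h1, ext_zero_coe]
      · rw [if_neg hy, zero_add]
        by_cases hby : b * y ∈ H
        · rw [if_pos hby]
          have h1 := ext_zero_conj_inv hβc (inv_mem hby) (σ x : G)
          rw [inv_inv] at h1
          rw [show y⁻¹ * (x : G) * y = (b * y)⁻¹ * (σ x : G) * (b * y) by
            show _ = (b * y)⁻¹ * (b * (x : G) * b⁻¹) * (b * y)
            group, h1, ext_zero_coe]
        · rw [if_neg hby, ext_zero_eq_dite]
          split_ifs with hm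
          · show 1 - ((μ ⟨_, hm⟩ : ℂˣ) : ℂ) = 0
            by_contra hne
            have hμne : μ ⟨_, hm⟩ ≠ 1 := fun h1 => hne (by rw [h1]; simp)
            rcases hNd y (hti y x ⟨_, hm⟩ hx hμne rfl) with h1 | h1
            exacts [hy h1, hby h1]
          · rfl
    have hcount : (Finset.univ.filter fun y : G => y ∈ H).card = Nat.card H := by
      rw [← Fintype.card_subtype, ← Nat.card_eq_fintype_card]
    have hcount' : (Finset.univ.filter fun y : G => b * y ∈ H).card = Nat.card H := by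
      rw [← hcount]
      refine Finset.card_equiv (Equiv.mulLeft b) fun y => ?_
      simp
    rw [hF, indFun_apply, Finset.sum_congr rfl fun y _ => hext y, Finset.sum_add_distrib,
      Finset.sum_ite, Finset.sum_ite, Finset.sum_const_zero, Finset.sum_const_zero, Finset.sum_const,
      Finset.sum_const, hcount, hcount', add_zero, add_zero, nsmul_eq_mul, nsmul_eq_mul, ← mul_add,
      inv_mul_cancel_left₀ (card_subgroup_ne_zero H)]
  have hF0 : ∀ g : G, ¬ 4 ∣ orderOf g → F g = 0 := by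
    intro g hg
    refine ind_eq_zero_of_vanish H β g fun y x hy => ?_
    show 1 - (μ x : ℂ) = 0
    by_contra hne
    refine hg ?_
    have h1 : orderOf c ∣ orderOf (x : G) := by
      obtain ⟨k, hk⟩ := Subgroup.mem_zpowers_iff.1 (key x fun h1 => hne (by rw [h1]; simp))
      rw [← hk]; exact orderOf_dvd_of_mem_zpowers (Subgroup.zpow_mem_zpowers _ k)
    rw [← hy, show y⁻¹ * g * y = y⁻¹ * g * y⁻¹⁻¹ by rw [inv_inv], ZStarBasic.orderOf_conj_eq] at h1
    exact hc4.trans h1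
  let T : H →* ℂ := (Units.coeHom ℂ).comp μ
  let Ti : H →* ℂ := (Units.coeHom ℂ).comp μ⁻¹
  have hne1 : μ A ≠ 1 := fun h1 => by rw [h1] at hμA2; norm_num at hμA2
  have hsum1 : ∑ x : H, (μ x : ℂ) = 0 := by
    refine sum_hom_units_eq_zero T fun h1 => hne1 (Units.ext ?_)
    exact DFunLike.congr_fun h1 A
  have hsum2 : ∑ x : H, (((μ x)⁻¹ : ℂˣ) : ℂ) = 0 := by
    refine sum_hom_units_eq_zero Ti fun h1 => hne1 (inv_eq_one.1 (Units.ext ?_))
    exact DFunLike.congr_fun h1 A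
  have hsum3 : ∑ x : H, (μ x : ℂ) ^ 2 = 0 := by
    refine sum_hom_units_eq_zero ((powMonoidHom 2).comp T) fun h1 => ?_
    have := DFunLike.congr_fun h1 A
    simp only [MonoidHom.comp_apply, powMonoidHom_apply, MonoidHom.one_apply] at this
    rw [show T A = ((μ A : ℂˣ) : ℂ) from rfl, hμA2] at this
    norm_num at this
  have hnorm : classInner F F = 3 := by
    rw [hF, inner_ind_left H β (isClassFunction_ind H β), classInner]
    have hpt : ∀ x : H, β x * conj (indFun H β (x : G)) =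
        3 - 3 * (μ x : ℂ) - (((μ x)⁻¹ : ℂˣ) : ℂ) + (μ x : ℂ) ^ 2 := by
      intro x
      have hi : (μ x : ℂ) * (((μ x)⁻¹ : ℂˣ) : ℂ) = 1 := by rw [← Units.val_mul, mul_inv_cancel, Units.val_one]
      by_cases hx : μ x = 1
      · simp only [β, hx, inv_one, Units.val_one]; ring
      · rw [← hF, hFval x hx]
        simp only [β, hμσ, map_add, map_sub, map_one]
        rw [conj_units_eq_inv _ (by norm_num) (hμ4 x), conj_units_eq_inv _ (by norm_num)
          (by rw [inv_pow, hμ4, inv_one] : (μ x)⁻¹ ^ 4 = 1), inv_inv]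
        linear_combination hi
    rw [Finset.sum_congr rfl fun x _ => hpt x]
    simp only [Finset.sum_add_distrib, Finset.sum_sub_distrib, ← Finset.mul_sum, hsum1, hsum2, hsum3,
      Finset.sum_const, Finset.card_univ, nsmul_eq_mul, mul_zero, sub_zero, add_zero,
      Nat.card_eq_fintype_card]
    field_simp
  have htriv : classInner F (fun _ => 1) = 1 := by
    rw [hF, inner_ind_left H β (fun _ _ => rfl), classInner]
    simp only [β, map_one, mul_one, Finset.sum_sub_distrib, hsum1, sub_zero, Finset.sum_const,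
      Finset.card_univ, nsmul_eq_mul, Nat.card_eq_fintype_card]
    field_simp
  obtain ⟨m, hm, hexp⟩ := exists_int_coeff (isGenChar_ind H hβg)
  rw [← hF] at hexp hm
  have hm1 : m (trivIrr G) = 1 := by exact_mod_cast (hm (trivIrr G)).symm.trans htriv
  have hm2 : ∑ χ, m χ * m χ = (2 : ℕ) + 1 := by
    have h3 := classInner_eq_sum (φ := F) (isClassFunction_ind H β)
    rw [← hF, hnorm] at h3
    simp only [hm, map_intCast] at h3
    exact_mod_cast h3.symm
  obtain ⟨s, hs, hts, hsign, hzero⟩ := exists_support m 2 (by norm_num) hm1 hm2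
  obtain ⟨χ₁, χ₂, hne, rfl⟩ := Finset.card_eq_two.1 hs
  have hexpand : ∀ f : IrrCharacter G → ℂ, ∑ χ, (m χ : ℂ) * f χ =
      f (trivIrr G) + ((m χ₁ : ℂ) * f χ₁ + (m χ₂ : ℂ) * f χ₂) := by
    intro f
    have hsub : ∑ χ ∈ ({χ₁, χ₂} : Finset (IrrCharacter G)), (m χ : ℂ) * f χ =
        ∑ χ ∈ Finset.univ.erase (trivIrr G), (m χ : ℂ) * f χ := by
      refine Finset.sum_subset (fun χ hχ => Finset.mem_erase.2 ⟨?_, Finset.mem_univ _⟩)
        (fun χ hχ hχs => by rw [hzero χ hχs (Finset.ne_of_mem_erase hχ), Int.cast_zero, zero_mul])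
      rintro rfl
      exact hts hχ
    rw [← Finset.add_sum_erase _ _ (Finset.mem_univ (trivIrr G)), hm1, Int.cast_one, one_mul,
      ← hsub, Finset.sum_pair hne]
  have hFg : ∀ g, F g = 1 + ((m χ₁ : ℂ) * (χ₁ : G → ℂ) g + (m χ₂ : ℂ) * (χ₂ : G → ℂ) g) := by
    intro g
    have := congrFun hexp g
    simp only [Finset.sum_apply, Pi.smul_apply, smul_eq_mul] at this
    rw [this, hexpand fun χ => (χ : G → ℂ) g]
    rfl
  have hp : ((m χ₁ : ℂ) * ((χ₁ : G → ℂ) z * (χ₁ : G → ℂ) z / (χ₁ : G → ℂ) 1)) +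
      (m χ₂ : ℂ) * ((χ₂ : G → ℂ) z * (χ₂ : G → ℂ) z / (χ₂ : G → ℂ) 1) = -1 := by
    have h0 := ZStarCount.sum_coeff_eq_zero (isClassFunction_ind H β) z z fun x y hx hy => by
      refine hF0 _ fun h4 => ?_
      obtain ⟨g₁, rfl⟩ := isConj_iff.1 hx
      obtain ⟨g₂, rfl⟩ := isConj_iff.1 hy
      have := (IsolatedInv.odd_orderOf_conj_mul_conj hsol.isolated g₁ g₂).of_dvd_nat h4
      exact absurd this (by decide)
    rw [← hF] at h0
    simp only [hm] at h0
    rw [hexpand] at h0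
    have htr : ∀ g, ((trivIrr G : IrrCharacter G) : G → ℂ) g = 1 := fun g => rfl
    simp only [htr, mul_one, div_one] at h0
    linear_combination h0
  have h41 : ¬ 4 ∣ orderOf (1 : G) := by rw [orderOf_one]; decide
  have h4z : ¬ 4 ∣ orderOf z := by rw [hsol.1]; decide
  have hone : (m χ₁ : ℂ) * (χ₁ : G → ℂ) 1 + (m χ₂ : ℂ) * (χ₂ : G → ℂ) 1 = -1 := by
    have := (hFg 1).symm.trans (hF0 1 h41); linear_combination this
  have hz1 : (m χ₁ : ℂ) * (χ₁ : G → ℂ) z + (m χ₂ : ℂ) * (χ₂ : G → ℂ) z = -1 := by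
    have := (hFg z).symm.trans (hF0 z h4z); linear_combination this
  have hn1 : (χ₁ : G → ℂ) 1 ≠ 0 := irr_one_ne_zero χ₁
  have hn2 : (χ₂ : G → ℂ) 1 ≠ 0 := irr_one_ne_zero χ₂
  -- the signs are opposite
  have hval : ∀ χ ∈ ({χ₁, χ₂} : Finset (IrrCharacter G)), ((m χ : ℂ) = 1 ∨ (m χ : ℂ) = -1) :=
    fun χ hχ => by rcases hsign χ hχ with h | h <;> simp [h]
  obtain ⟨d₁, hd₁, hd₁'⟩ := CharBasic.isIrrCharacter_apply_one χ₁.2
  obtain ⟨d₂, hd₂, hd₂'⟩ := CharBasic.isIrrCharacter_apply_one χ₂.2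
  have hnontriv : ∀ χ ∈ ({χ₁, χ₂} : Finset (IrrCharacter G)), (χ : G → ℂ) ≠ fun _ => 1 :=
    fun χ hχ h1 => hts (by rwa [show trivIrr G = χ from Subtype.ext h1.symm])
  have hgen : ∀ φ ψ : IrrCharacter G, (φ : G → ℂ) ≠ (fun _ => 1) → (ψ : G → ℂ) ≠ (fun _ => 1) →
      (φ : G → ℂ) 1 ≠ 0 → (ψ : G → ℂ) 1 ≠ 0 → (∀ g, F g = 1 - (φ : G → ℂ) g + (ψ : G → ℂ) g) →
      -((φ : G → ℂ) z * (φ : G → ℂ) z / (φ : G → ℂ) 1) +
        (ψ : G → ℂ) z * (ψ : G → ℂ) z / (ψ : G → ℂ) 1 = -1 →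
      ∃ χ₁ χ₂ : IrrCharacter G, (χ₁ : G → ℂ) ≠ (fun _ => 1) ∧ (χ₂ : G → ℂ) ≠ (fun _ => 1) ∧
      (χ₁ : G → ℂ) 1 = (χ₂ : G → ℂ) 1 + 1 ∧ (χ₁ : G → ℂ) z = (χ₁ : G → ℂ) 1 ∧
      ∀ g : G, ¬ 4 ∣ orderOf g → (χ₁ : G → ℂ) g - (χ₂ : G → ℂ) g = 1 := by
    intro φ ψ hφ hψ hφ1 hψ1 hFφ hq
    have e1 := (hFφ 1).symm.trans (hF0 1 h41)
    have ez := (hFφ z).symm.trans (hF0 z h4z)
    refine ⟨φ, ψ, hφ, hψ, by linear_combination -e1, ?_, fun g hg => ?_⟩
    · field_simp at hq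
      have eψ1 : (ψ : G → ℂ) 1 = (φ : G → ℂ) 1 - 1 := by linear_combination e1
      have eψz : (ψ : G → ℂ) z = (φ : G → ℂ) z - 1 := by linear_combination ez
      rw [eψ1, eψz] at hq
      have : ((φ : G → ℂ) z - (φ : G → ℂ) 1) * ((φ : G → ℂ) z - (φ : G → ℂ) 1) = 0 := by
        linear_combination hq
      exact sub_eq_zero.1 (mul_self_eq_zero.1 this)
    · have := (hFφ g).symm.trans (hF0 g hg); linear_combination -this
  have m1 : χ₁ ∈ ({χ₁, χ₂} : Finset (IrrCharacter G)) := by simp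
  have m2 : χ₂ ∈ ({χ₁, χ₂} : Finset (IrrCharacter G)) := by simp
  rcases hval χ₁ m1 with s1 | s1 <;> rcases hval χ₂ m2 with s2 | s2
  · exfalso
    rw [s1, s2, hd₁', hd₂'] at hone
    have : ((d₁ + d₂ + 1 : ℕ) : ℂ) = 0 := by push_cast; linear_combination hone
    exact absurd (Nat.cast_eq_zero.1 this) (by omega)
  · refine hgen χ₂ χ₁ (hnontriv _ m2) (hnontriv _ m1) hn2 hn1 (fun g => ?_) ?_
    · rw [hFg, s1, s2]; ring
    · rw [s1, s2] at hp; linear_combination hp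
  · refine hgen χ₁ χ₂ (hnontriv _ m1) (hnontriv _ m2) hn1 hn2 (fun g => ?_) ?_
    · rw [hFg, s1, s2]; ring
    · rw [s1, s2] at hp; linear_combination hp
  · exfalso
    rw [s1, s2, hd₁', hd₂'] at hone
    have : ((d₁ + d₂ : ℕ) : ℂ) = ((1 : ℕ) : ℂ) := by push_cast; linear_combination -hone
    have := Nat.cast_injective this
    omega

end Cfsg.Agent.ZStarQ16
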