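import Mathlib

/-!
# The combinatorics of the exceptional rows for a quaternion Sylow subgroup of order 8
-/

set_option autoImplicit false

namespace Cfsg.Agent.ZStarCombinatorics

attribute [local instance] Classical.propDecidable

variable {I : Type*} [Fintype I]

/-- The nonzero places of `x` other than `o`. -/
noncomputable def supp (o : I) (x : I → ℤ) : Finset I :=
  (Finset.univ.erase o).filter fun i => x i ≠ 0

theorem mem_supp {o i : I} {x : I → ℤ} : i ∈ supp o x ↔ i ≠ o ∧ x i ≠ 0 := by simp [supp]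

theorem sum_mul_eq {o : I} {x : I → ℤ} (hx : x o = 1) {R : Type*} [Ring R] (y : I → R) :
    ∑ i, (x i : R) * y i = y o + ∑ i ∈ supp o x, (x i : R) * y i := by
  rw [← Finset.add_sum_erase _ _ (Finset.mem_univ o), hx, Int.cast_one, one_mul, supp,
    Finset.sum_filter_of_ne]
  intro i _ hne h0
  exact hne (by simp [h0])

theorem supp_spec {o : I} {x : I → ℤ} (hx : x o = 1) (h : ∑ i, x i * x i = 4) :
    (supp o x).card = 3 ∧ ∀ i ∈ supp o x, x i = 1 ∨ x i = -1 := by
  have h1 := sum_mul_eq hx (R := ℤ) x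
  simp only [Int.cast_id] at h1
  rw [h, hx] at h1
  have hval : ∀ i ∈ supp o x, x i = 1 ∨ x i = -1 := by
    intro i hi
    have h2 := Finset.single_le_sum (fun j _ => mul_self_nonneg (x j)) hi
    have hne := (mem_supp.1 hi).2
    have : x i ≤ 1 := by nlinarith
    have : -1 ≤ x i := by nlinarith
    omega
  refine ⟨?_, hval⟩
  rw [Finset.sum_congr rfl fun i hi => show x i * x i = 1 by rcases hval i hi with e | e <;> simp [e],
    Finset.sum_const, nsmul_one] at h1
  omega

theorem eq_of_abs {o : I} {x : I → ℤ} (hx : x o = 1) (h : ∑ i, x i * x i = 4) (i : I) :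
    x i = 0 ∨ x i = 1 ∨ x i = -1 := by
  by_cases hi : i = o
  · subst hi; simp [hx]
  by_cases h0 : x i = 0
  · exact Or.inl h0
  · exact Or.inr ((supp_spec hx h).2 i (mem_supp.2 ⟨hi, h0⟩))

/-- A sum of signs has the parity of the number of terms. -/
theorem odd_card_of_sum {s : Finset I} {f : I → ℤ} (hf : ∀ i ∈ s, f i = 1 ∨ f i = -1)
    (hs : Odd (∑ i ∈ s, f i)) : Odd s.card := by
  induction s using Finset.induction_on with
  | empty => simp at hs
  | insert a t ha ih =>
    rw [Finset.sum_insert ha] at hs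
    rw [Finset.card_insert_of_notMem ha, Nat.odd_add_one]
    intro ht
    have hev : ¬ Even (∑ i ∈ t, f i) := by
      intro he
      -- the parity of the partial sum
      have : ∀ u : Finset I, u ⊆ t → (Even (∑ i ∈ u, f i) ↔ Even u.card) := by
        intro u hu
        induction u using Finset.induction_on with
        | empty => simp
        | insert b v hb ihv =>
          rw [Finset.sum_insert hb, Finset.card_insert_of_notMem hb, Int.even_add, Nat.even_add_one,
            ← ihv ((Finset.subset_insert _ _).trans hu)]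
          rcases hf b (Finset.mem_insert_of_mem (hu (Finset.mem_insert_self _ _))) with e | e <;>
            simp [e]
      exact Nat.not_even_iff_odd.2 ht ((this t le_rfl).1 he)
    rcases hf a (Finset.mem_insert_self _ _) with e | e <;>
      · rw [e, Int.odd_add] at hs
        simp at hs
        exact hev hs

theorem exists_apply_eq {o : I} (c : I → ℤ) (d : Fin 3 → I → ℤ) (hco : c o = 1)
    (hc : ∑ i, c i * c i = 4) (hdo : ∀ k, d k o = 1)
    (hdd : ∀ k l, ∑ i, d k i * d l i = if k = l then 4 else 2)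
    (hdc : ∀ k, ∑ i, d k i * c i = 0)
    (hpar : ∀ i, (c i ≠ 0 ∨ ∃ k, d k i ≠ 0) → 2 ∣ c i - ∑ k, d k i)
    (n v : I → ℂ) (hn : ∀ i, n i ≠ 0) (hno : n o = 1) (f : Fin 3 → ℂ)
    (hv : ∀ i, (c i ≠ 0 ∨ ∃ k, d k i ≠ 0) → v i = -∑ k, (d k i : ℂ) * f k)
    (hf : ∑ k, f k = -1) (hcn : ∑ i, (c i : ℂ) * n i = 0) (hdn : ∀ k, ∑ i, (d k i : ℂ) * n i = 0)
    (hdq : ∀ k, ∑ i, (d k i : ℂ) * (v i * v i / n i) = 0)
    (hcq : ∑ i, (c i : ℂ) * (v i * v i / n i) = 0) :
    ∃ i, i ≠ o ∧ v i = n i := by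
  set S := supp o c with hS
  set A := fun k => supp o (d k) with hA
  have hdk : ∀ k, ∑ i, d k i * d k i = 4 := fun k => by rw [hdd, if_pos rfl]
  have hAcard : ∀ k, (A k).card = 3 := fun k => (supp_spec (hdo k) (hdk k)).1
  have hAval : ∀ k, ∀ i ∈ A k, d k i = 1 ∨ d k i = -1 := fun k => (supp_spec (hdo k) (hdk k)).2
  have hScard : S.card = 3 := (supp_spec hco hc).1
  have hSval : ∀ i ∈ S, c i = 1 ∨ c i = -1 := (supp_spec hco hc).2
  -- inner products on common supports
  have hcommon : ∀ k (y : I → ℤ), y o = 1 →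
      ∑ i, d k i * y i = 1 + ∑ i ∈ A k ∩ supp o y, d k i * y i := by
    intro k y hy
    have h1 := sum_mul_eq (hdo k) (R := ℤ) y
    simp only [Int.cast_id] at h1
    rw [h1, hy]
    congr 1
    refine (Finset.sum_subset Finset.inter_subset_left fun i hi hni => ?_).symm
    have : ¬ (i ≠ o ∧ y i ≠ 0) := fun h => hni (Finset.mem_inter.2 ⟨hi, mem_supp.2 h⟩)
    have hio := (mem_supp.1 hi).1
    have : y i = 0 := by tauto
    rw [this, mul_zero]
  have hkc : ∀ k, ∑ i ∈ A k ∩ S, d k i * c i = -1 := by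
    intro k
    have := hcommon k c hco
    rw [hdc] at this
    linarith
  have hkl : ∀ k l, k ≠ l → ∑ i ∈ A k ∩ A l, d k i * d l i = 1 := by
    intro k l hne
    have := hcommon k (d l) (hdo l)
    rw [hdd, if_neg hne] at this
    linarith
  have hne_supp : ∀ k l, k ≠ l → A k ≠ A l := by
    intro k l hne heq
    have hsum := hkl k l hne
    rw [heq, Finset.inter_self] at hsum
    obtain ⟨x, y, w, hxy, hxw, hyw, hset⟩ := Finset.card_eq_three.1 (hAcard l)
    rw [hset] at hsum
    rw [Finset.sum_insert (by simp [hxy, hxw]), Finset.sum_pair hyw] at hsum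
    have h1 := hdn k
    have h2 := hdn l
    rw [sum_mul_eq (hdo k), show supp o (d k) = A l from heq, hset,
      Finset.sum_insert (by simp [hxy, hxw]), Finset.sum_pair hyw] at h1
    rw [sum_mul_eq (hdo l), show supp o (d l) = A l from rfl, hset,
      Finset.sum_insert (by simp [hxy, hxw]), Finset.sum_pair hyw] at h2
    have hm : ∀ z, z ∈ ({x, y, w} : Finset I) → (d k z = 1 ∨ d k z = -1) ∧ (d l z = 1 ∨ d l z = -1) :=
      fun z hz => ⟨hAval k z (by rw [heq, hset]; exact hz), hAval l z (by rw [hset]; exact hz)⟩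
    have hcase : ∀ z, z ∈ ({x, y, w} : Finset I) →
        (d k z * d l z = 1 ∧ d k z = d l z) ∨ (d k z * d l z = -1 ∧ d k z = -d l z) := by
      intro z hz
      obtain ⟨e | e, e' | e'⟩ := hm z hz <;> simp [e, e']
    have hl0 : ∀ z, z ∈ ({x, y, w} : Finset I) → (d l z : ℂ) ≠ 0 := fun z hz => by
      rcases (hm z hz).2 with e | e <;> simp [e]
    have hdiff : ∀ z, z ∈ ({x, y, w} : Finset I) → (2 * (d l z : ℂ)) * n z ≠ 0 := fun z hz =>
      mul_ne_zero (mul_ne_zero two_ne_zero (hl0 z hz)) (hn z)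
    rcases hcase x (by simp) with ⟨px, ex⟩ | ⟨px, ex⟩ <;>
      rcases hcase y (by simp) with ⟨py, ey⟩ | ⟨py, ey⟩ <;>
      rcases hcase w (by simp) with ⟨pw, ew⟩ | ⟨pw, ew⟩ <;>
      (try (rw [px, py, pw] at hsum; omega)) <;>
      rw [ex, ey, ew] at h1 <;> push_cast at h1
    · exact hdiff w (by simp) (by linear_combination h2 - h1)
    · exact hdiff y (by simp) (by linear_combination h2 - h1)
    · exact hdiff x (by simp) (by linear_combination h2 - h1)
  -- the parity of each row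
  have hrow : ∀ i, i ≠ o → (Odd (Finset.univ.filter fun k => i ∈ A k).card ↔ i ∈ S) := by
    intro i hio
    by_cases hz : c i = 0 ∧ ∀ k, d k i = 0
    · have h0 : (Finset.univ.filter fun k => i ∈ A k) = ∅ := by
        refine Finset.filter_eq_empty_iff.2 fun k _ hk => (mem_supp.1 hk).2 (hz.2 k)
      rw [h0]
      simp [hS, mem_supp, hz.1]
    · have hd2 := hpar i (by push Not at hz; by_cases hci : c i = 0
                             · exact Or.inr (hz hci)
                             · exact Or.inl hci)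
      have hci : (i ∈ S ↔ c i ≠ 0) := by simp [hS, mem_supp, hio]
      have hdi : ∀ k, (i ∈ A k ↔ d k i ≠ 0) := fun k => by simp [hA, mem_supp, hio]
      simp only [hdi]
      rw [hci, Finset.card_filter, Fin.sum_univ_three]
      rw [Fin.sum_univ_three] at hd2
      have hc3 := eq_of_abs hco hc i
      have hd0 := eq_of_abs (hdo 0) (hdk 0) i
      have hd1 := eq_of_abs (hdo 1) (hdk 1) i
      have hd2' := eq_of_abs (hdo 2) (hdk 2) i
      rcases hc3 with e | e | e <;> rcases hd0 with e0 | e0 | e0 <;> rcases hd1 with e1 | e1 | e1 <;>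
        rcases hd2' with e2 | e2 | e2 <;> simp [e, e0, e1, e2, Nat.odd_iff] at hd2 ⊢ <;> omega
  -- no row support equals that of `c`
  have hpair : ∀ k, ∃ s, A k ∩ S = {s} := by
    intro k
    have hodd : Odd (A k ∩ S).card := by
      refine odd_card_of_sum (f := fun i => d k i * c i) (fun i hi => ?_) ?_
      · rcases hAval k i (Finset.mem_inter.1 hi).1 with e | e <;>
          rcases hSval i (Finset.mem_inter.1 hi).2 with e' | e' <;> simp [e, e']
      · rw [hkc]; decide
    have hle := Finset.card_le_card (Finset.inter_subset_left : A k ∩ S ⊆ A k)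
    rw [hAcard] at hle
    by_contra hnot
    have hne1 : (A k ∩ S).card ≠ 1 := fun h => hnot (Finset.card_eq_one.1 h)
    obtain ⟨j, hj⟩ := hodd
    have hAS : A k = S := by
      have h3 : (A k ∩ S).card = 3 := by omega
      have e1 : A k ∩ S = A k := Finset.eq_of_subset_of_card_le Finset.inter_subset_left (by rw [h3, hAcard])
      have e2 : A k ∩ S = S := Finset.eq_of_subset_of_card_le Finset.inter_subset_right (by rw [h3, hScard])
      exact e1.symm.trans e2
    have : ∀ l m, l ≠ k → m ≠ k → l ≠ m → A l = A m := by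
      intro l m hlk hmk hlm
      ext i
      by_cases hio : i = o
      · simp [hA, mem_supp, hio]
      have h1 := hrow i hio
      rw [← hAS, Finset.card_filter, Fin.sum_univ_three] at h1
      fin_cases k <;> fin_cases l <;> fin_cases m <;> simp_all <;>
        by_cases p0 : i ∈ supp o (d 0) <;> by_cases p1 : i ∈ supp o (d 1) <;>
          by_cases p2 : i ∈ supp o (d 2) <;> simp_all [Nat.odd_iff]
    fin_cases k
    · exact hne_supp 1 2 (by decide) (this 1 2 (by decide) (by decide) (by decide))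
    · exact hne_supp 0 2 (by decide) (this 0 2 (by decide) (by decide) (by decide))
    · exact hne_supp 0 1 (by decide) (this 0 1 (by decide) (by decide) (by decide))
  choose s hs using hpair
  have hsA : ∀ k, s k ∈ A k := fun k => (Finset.mem_inter.1 (by rw [hs]; simp : s k ∈ A k ∩ S)).1
  have hsS : ∀ k, s k ∈ S := fun k => (Finset.mem_inter.1 (by rw [hs]; simp : s k ∈ A k ∩ S)).2
  have huniq : ∀ k i, i ∈ A k → i ∈ S → i = s k := fun k i h1 h2 => by
    have : i ∈ A k ∩ S := Finset.mem_inter.2 ⟨h1, h2⟩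
    rwa [hs, Finset.mem_singleton] at this
  have hinj : Function.Injective s := by
    have hsurj : S ⊆ Finset.univ.image s := by
      intro i hi
      obtain ⟨j, hj⟩ := (hrow i (mem_supp.1 hi).1).2 hi
      obtain ⟨k, hk⟩ := Finset.card_pos.1 (show 0 < (Finset.univ.filter fun k => i ∈ A k).card by omega)
      exact Finset.mem_image.2 ⟨k, Finset.mem_univ _, (huniq k i (Finset.mem_filter.1 hk).2 hi).symm⟩
    have h3 := Finset.card_le_card hsurj
    have h4 := Finset.card_image_le (s := (Finset.univ : Finset (Fin 3))) (f := s)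
    rw [hScard] at h3
    rw [Finset.card_univ, Fintype.card_fin] at h4
    have h5 : (Finset.univ.image s).card = (Finset.univ : Finset (Fin 3)).card := by
      rw [Finset.card_univ, Fintype.card_fin]; omega
    exact fun p q hpq => Finset.card_image_iff.1 h5 (Finset.mem_coe.2 (Finset.mem_univ p))
      (Finset.mem_coe.2 (Finset.mem_univ q)) hpq
  have hsd : ∀ k, d k (s k) = -c (s k) := by
    intro k
    have := hkc k
    rw [hs, Finset.sum_singleton] at this
    rcases hSval _ (hsS k) with e | e <;> rw [e] at this ⊢ <;> linarith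
  have hzeroS : ∀ k l, k ≠ l → d l (s k) = 0 := by
    intro k l hne
    by_contra h0
    exact hne (hinj (huniq l (s k) (mem_supp.2 ⟨(mem_supp.1 (hsS k)).1, h0⟩) (hsS k)))
  -- the rows outside `S`
  have hO : ∀ k l, k ≠ l → ∃ i, i ∈ A k ∧ i ∈ A l ∧ i ∉ S ∧ d k i = d l i ∧
      ∀ m, m ≠ k → m ≠ l → d m i = 0 := by
    intro k l hne
    have hnn : (A k ∩ A l).Nonempty := by
      rw [Finset.nonempty_iff_ne_empty]
      intro h0
      have := hkl k l hne
      rw [h0] at this
      simp at this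
    have hnS : ∀ i ∈ A k ∩ A l, i ∉ S := fun i hi hiS =>
      hne (hinj ((huniq k i (Finset.mem_inter.1 hi).1 hiS).symm.trans
        (huniq l i (Finset.mem_inter.1 hi).2 hiS)))
    have hle : (A k ∩ A l).card ≤ 2 := by
      have h1 : A k ∩ A l ⊆ (A k).erase (s k) := fun i hi =>
        Finset.mem_erase.2 ⟨fun e => hnS i hi (e ▸ hsS k), (Finset.mem_inter.1 hi).1⟩
      have := Finset.card_le_card h1
      rw [Finset.card_erase_of_mem (hsA k), hAcard] at this
      exact this
    have hodd : Odd (A k ∩ A l).card := by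
      refine odd_card_of_sum (f := fun i => d k i * d l i) (fun i hi => ?_) ?_
      · rcases hAval k i (Finset.mem_inter.1 hi).1 with e | e <;>
          rcases hAval l i (Finset.mem_inter.1 hi).2 with e' | e' <;> simp [e, e']
      · rw [hkl k l hne]; decide
    obtain ⟨j, hj⟩ := hodd
    obtain ⟨i, hi⟩ := Finset.card_eq_one.1 (show (A k ∩ A l).card = 1 by omega)
    have him : i ∈ A k ∩ A l := by rw [hi]; simp
    obtain ⟨hik, hil⟩ := Finset.mem_inter.1 him
    refine ⟨i, hik, hil, hnS i him, ?_, fun m hmk hml => ?_⟩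
    · have := hkl k l hne
      rw [hi, Finset.sum_singleton] at this
      rcases hAval k i hik with e | e <;> rcases hAval l i hil with e' | e' <;> rw [e, e'] at this ⊢ <;>
        omega
    · by_contra h0
      have him' : i ∈ A m := mem_supp.2 ⟨(mem_supp.1 hik).1, h0⟩
      have hev := (hrow i (mem_supp.1 hik).1).not.2 (hnS i him)
      apply hev
      have : (Finset.univ.filter fun q => i ∈ A q) = Finset.univ := by
        refine Finset.filter_true_of_mem fun q _ => ?_
        have : q = k ∨ q = l ∨ q = m := by omega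
        rcases this with rfl | rfl | rfl <;> assumption
      rw [this]
      simp [Nat.odd_iff]
  have hzero : ∀ k l i, k ≠ l → i ∈ A k → (∀ m, m ≠ k → m ≠ l → d m i = 0) → i ∈ A l →
      ∀ m, m ≠ k → m ≠ l → i ∉ A m := fun k l i _ _ h _ m h1 h2 hm => (mem_supp.1 hm).2 (h m h1 h2)
  obtain ⟨p01, a0, a1, -, e01, z01⟩ := hO 0 1 (by decide)
  obtain ⟨p02, b0, b2, -, e02, z02⟩ := hO 0 2 (by decide)
  obtain ⟨p12, c1, c2, -, e12, z12⟩ := hO 1 2 (by decide)
  have w01 := z01 2 (by decide) (by decide)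
  have w02 := z02 1 (by decide) (by decide)
  have w12 := z12 0 (by decide) (by decide)
  have n0 : p01 ≠ p02 := fun e => (mem_supp.1 b2).2 (e ▸ w01)
  have n1 : p01 ≠ p12 := fun e => (mem_supp.1 a0).2 (e ▸ w12)
  have n2 : p02 ≠ p12 := fun e => (mem_supp.1 b0).2 (e ▸ w12)
  have hns : ∀ k l i, i ∈ A k → i ∈ A l → k ≠ l → i ≠ s k := by
    intro k l i h1 h2 hne e
    exact (mem_supp.1 h2).2 (e ▸ hzeroS k l hne)
  have hset : ∀ k x y, x ∈ A k → y ∈ A k → x ≠ y → x ≠ s k → y ≠ s k → A k = {s k, x, y} := by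
    intro k x y hx hy hxy hxs hys
    refine (Finset.eq_of_subset_of_card_le ?_ ?_).symm
    · intro i hi
      simp only [Finset.mem_insert, Finset.mem_singleton] at hi
      rcases hi with rfl | rfl | rfl
      exacts [hsA k, hx, hy]
    · rw [hAcard, Finset.card_eq_three.2 ⟨s k, x, y, hxs.symm, hys.symm, hxy, rfl⟩]
  have hexp : ∀ k x y, x ∈ A k → y ∈ A k → x ≠ y → x ≠ s k → y ≠ s k → ∀ g : I → ℂ,
      ∑ i, (d k i : ℂ) * g i = g o + (-(c (s k) : ℂ) * g (s k) + ((d k x : ℂ) * g x + (d k y : ℂ) * g y)) := by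
    intro k x y hx hy hxy hxs hys g
    rw [sum_mul_eq (hdo k), show supp o (d k) = _ from hset k x y hx hy hxy hxs hys,
      Finset.sum_insert (by simp [hxs.symm, hys.symm]), Finset.sum_pair hxy, hsd]
    push_cast
    ring
  have hexpc : ∀ g : I → ℂ, ∑ i, (c i : ℂ) * g i =
      g o + ((c (s 0) : ℂ) * g (s 0) + ((c (s 1) : ℂ) * g (s 1) + (c (s 2) : ℂ) * g (s 2))) := by
    intro g
    have h01 : s 0 ≠ s 1 := fun e => absurd (hinj e) (by decide)
    have h02 : s 0 ≠ s 2 := fun e => absurd (hinj e) (by decide)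
    have h12 : s 1 ≠ s 2 := fun e => absurd (hinj e) (by decide)
    have hSset : S = {s 0, s 1, s 2} := by
      refine (Finset.eq_of_subset_of_card_le ?_ ?_).symm
      · intro i hi
        simp only [Finset.mem_insert, Finset.mem_singleton] at hi
        rcases hi with rfl | rfl | rfl <;> exact hsS _
      · rw [hScard, Finset.card_eq_three.2 ⟨s 0, s 1, s 2, h01, h02, h12, rfl⟩]
    rw [sum_mul_eq hco, ← hS, hSset, Finset.sum_insert (by simp [h01, h02]), Finset.sum_pair h12]
  have eq0 := hexp 0 p01 p02 a0 b0 n0 (hns 0 1 _ a0 a1 (by decide)) (hns 0 2 _ b0 b2 (by decide))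
  have eq1 := hexp 1 p01 p12 a1 c1 n1 (hns 1 0 _ a1 a0 (by decide)) (hns 1 2 _ c1 c2 (by decide))
  have eq2 := hexp 2 p02 p12 b2 c2 n2 (hns 2 0 _ b2 b0 (by decide)) (hns 2 1 _ c2 c1 (by decide))
  -- values
  have hvo : v o = 1 := by
    rw [hv o (Or.inl (by rw [hco]; norm_num))]
    simp only [hdo, Int.cast_one, one_mul, hf, neg_neg]
  have hvs : ∀ k, v (s k) = (c (s k) : ℂ) * f k := by
    intro k
    rw [hv _ (Or.inl (mem_supp.1 (hsS k)).2), Finset.sum_eq_single k
      (fun m _ hm => by rw [hzeroS k m hm.symm, Int.cast_zero, zero_mul]) (by simp), hsd]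
    push_cast; ring
  have hvp : ∀ k l i, k ≠ l → i ∈ A k → d k i = d l i → (∀ m, m ≠ k → m ≠ l → d m i = 0) →
      v i = -(d k i : ℂ) * (f k + f l) := by
    intro k l i hne hik e z
    rw [hv i (Or.inr ⟨k, (mem_supp.1 hik).2⟩), ← Finset.sum_subset (Finset.subset_univ {k, l})
      (fun m _ hm => by
        simp only [Finset.mem_insert, Finset.mem_singleton, not_or] at hm
        rw [z m hm.1 hm.2, Int.cast_zero, zero_mul]), Finset.sum_pair hne, ← e]
    ring
  have v01 := hvp 0 1 p01 (by decide) a0 e01 z01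
  have v02 := hvp 0 2 p02 (by decide) b0 e02 z02
  have v12 := hvp 1 2 p12 (by decide) c1 e12 z12
  have hsq : ∀ k i, i ∈ A k → (d k i : ℂ) * (d k i : ℂ) = 1 := fun k i hi => by
    rcases hAval k i hi with e | e <;> simp [e]
  have hcsq : ∀ k, (c (s k) : ℂ) * (c (s k) : ℂ) = 1 := fun k => by
    rcases hSval _ (hsS k) with e | e <;> simp [e]
  -- signed variables
  set E0 := (c (s 0) : ℂ) * n (s 0) with hE0
  set E1 := (c (s 1) : ℂ) * n (s 1) with hE1
  set E2 := (c (s 2) : ℂ) * n (s 2) with hE2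
  set F01 := (d 0 p01 : ℂ) * n p01 with hF01
  set F02 := (d 0 p02 : ℂ) * n p02 with hF02
  set F12 := (d 1 p12 : ℂ) * n p12 with hF12
  have hnum : ∀ (w m t : ℂ), w * w = 1 → m ≠ 0 → w * ((w * t) * (w * t) / m) = t * t / (w * m) := by
    intro w m t hw hm
    have hw0 : w ≠ 0 := fun h => by simp [h] at hw
    field_simp
    linear_combination (t ^ 2 * (w * w + 1)) * hw
  have l0 := hdn 0; have l1 := hdn 1; have l2 := hdn 2
  rw [eq0, hno] at l0
  rw [eq1, hno, ← e01] at l1
  rw [eq2, hno, ← e02, ← e12] at l2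
  have lc := hcn
  rw [hexpc, hno] at lc
  have q0 := hdq 0; have q1 := hdq 1; have q2 := hdq 2
  rw [eq0, hvo, hno, hvs, v01, v02] at q0
  rw [eq1, hvo, hno, hvs, v01, v12, ← e01] at q1
  rw [eq2, hvo, hno, hvs, v02, v12, ← e02, ← e12] at q2
  have qc := hcq
  rw [hexpc, hvo, hno, hvs, hvs, hvs] at qc
  have t01 : (d 0 p01 : ℂ) * (-(d 0 p01 : ℂ) * (f 0 + f 1) * (-(d 0 p01 : ℂ) * (f 0 + f 1)) / n p01) =
      (f 0 + f 1) * (f 0 + f 1) / F01 := by
    rw [hF01, ← hnum _ _ (f 0 + f 1) (hsq 0 _ a0) (hn _)]; ring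
  have t02 : (d 0 p02 : ℂ) * (-(d 0 p02 : ℂ) * (f 0 + f 2) * (-(d 0 p02 : ℂ) * (f 0 + f 2)) / n p02) =
      (f 0 + f 2) * (f 0 + f 2) / F02 := by
    rw [hF02, ← hnum _ _ (f 0 + f 2) (hsq 0 _ b0) (hn _)]; ring
  have t12 : (d 1 p12 : ℂ) * (-(d 1 p12 : ℂ) * (f 1 + f 2) * (-(d 1 p12 : ℂ) * (f 1 + f 2)) / n p12) =
      (f 1 + f 2) * (f 1 + f 2) / F12 := by
    rw [hF12, ← hnum _ _ (f 1 + f 2) (hsq 1 _ c1) (hn _)]; ring
  have u0 := hnum _ _ (f 0) (hcsq 0) (hn (s 0))
  have u1 := hnum _ _ (f 1) (hcsq 1) (hn (s 1))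
  have u2 := hnum _ _ (f 2) (hcsq 2) (hn (s 2))
  rw [neg_mul, u0, t01, t02] at q0
  rw [neg_mul, u1, t01, t12] at q1
  rw [neg_mul, u2, t02, t12] at q2
  rw [u0, u1, u2] at qc
  rw [← hE0] at q0 qc
  rw [← hE1] at q1 qc
  rw [← hE2] at q2 qc
  have hne0 : ∀ k, (c (s k) : ℂ) * n (s k) ≠ 0 := fun k =>
    mul_ne_zero (Int.cast_ne_zero.2 (mem_supp.1 (hsS k)).2) (hn _)
  have F1 : F01 = E0 + E1 := by rw [hF01, hE0, hE1]; linear_combination (l0 + l1 - l2 - lc) / 2
  have F2 : F02 = E0 + E2 := by rw [hF02, hE0, hE2]; linear_combination (l0 - l1 + l2 - lc) / 2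
  have hsumE : E0 + E1 + E2 = -1 := by rw [hE0, hE1, hE2]; linear_combination lc
  have Q1 : (f 0 + f 1) * (f 0 + f 1) / (E0 + E1) = f 0 * f 0 / E0 + f 1 * f 1 / E1 := by
    rw [← F1]; linear_combination (q0 + q1 - q2 - qc) / 2
  have Q2 : (f 0 + f 2) * (f 0 + f 2) / (E0 + E2) = f 0 * f 0 / E0 + f 2 * f 2 / E2 := by
    rw [← F2]; linear_combination (q0 - q1 + q2 - qc) / 2
  have hE0' : E0 ≠ 0 := hne0 0
  have hE1' : E1 ≠ 0 := hne0 1
  have hE2' : E2 ≠ 0 := hne0 2
  have hF1' : E0 + E1 ≠ 0 := F1 ▸ mul_ne_zero (Int.cast_ne_zero.2 (mem_supp.1 a0).2) (hn _)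
  have hF2' : E0 + E2 ≠ 0 := F2 ▸ mul_ne_zero (Int.cast_ne_zero.2 (mem_supp.1 b0).2) (hn _)
  have key : ∀ p q P Q : ℂ, P ≠ 0 → Q ≠ 0 → P + Q ≠ 0 →
      (p + q) * (p + q) / (P + Q) = p * p / P + q * q / Q → p * Q = q * P := by
    intro p q P Q hP hQ hPQ h
    have h1 : (p + q) * (p + q) * (P * Q) = (p * p * Q + q * q * P) * (P + Q) := by
      rw [div_add_div _ _ hP hQ, div_eq_div_iff hPQ (mul_ne_zero hP hQ)] at h
      linear_combination h
    exact sub_eq_zero.1 (mul_self_eq_zero.1 (show (p * Q - q * P) * (p * Q - q * P) = 0 by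
      linear_combination -h1))
  have k1 := key _ _ _ _ hE0' hE1' hF1' Q1
  have k2 := key _ _ _ _ hE0' hE2' hF2' Q2
  rw [Fin.sum_univ_three] at hf
  have hf0 : f 0 = E0 := by linear_combination -k1 - k2 + f 0 * hsumE - E0 * hf
  refine ⟨s 0, (mem_supp.1 (hsS 0)).1, ?_⟩
  rw [hvs, hf0, hE0, ← mul_assoc, hcsq, one_mul]

end Cfsg.Agent.ZStarCombinatorics
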