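import Mathlib
import Cfsg.Prelude.Def_Blocks

/-!
# The valuation ring of the complex numbers attached to a modular maximal ideal

For a maximal ideal `M` of the algebraic integers containing the prime `p` we fix a valuation
subring `vs M` of `ℂ` whose trace on algebraic numbers is the local ring at `M`.
`Int' M z` says that `z` lies in it, `Sm M z` that it lies in its maximal ideal.
-/

set_option autoImplicit false

open Polynomial

namespace Cfsg.Agent.BrauerBlocksVal

/-- Algebraic numbers as a subfield of `ℂ`. -/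
noncomputable abbrev AlgNum : IntermediateField ℚ ℂ := algebraicClosure ℚ ℂ

theorem algNum_of_isIntegral {z : ℂ} (h : IsIntegral ℤ z) : z ∈ AlgNum :=
  mem_algebraicClosure_iff.2 (h.tower_top (A := ℚ)).isAlgebraic

theorem algNum_coe (a : AlgInt) : (a : ℂ) ∈ AlgNum := algNum_of_isIntegral a.2

theorem algNum_natCast (n : ℕ) : (n : ℂ) ∈ AlgNum := natCast_mem _ n

theorem algNum_intCast (n : ℤ) : (n : ℂ) ∈ AlgNum := intCast_mem _ n

theorem algNum_of_memLocalRing {M : Ideal AlgInt} {z : ℂ} (h : MemLocalRing M z) :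
    z ∈ AlgNum := by
  obtain ⟨a, b, -, rfl⟩ := h
  exact div_mem (algNum_coe a) (algNum_coe b)

theorem algNum_of_memLocalIdeal {M : Ideal AlgInt} {z : ℂ} (h : MemLocalIdeal M z) :
    z ∈ AlgNum := by
  obtain ⟨a, b, -, -, rfl⟩ := h
  exact div_mem (algNum_coe a) (algNum_coe b)

/-- The valuation subring attached to `M`; the whole field if there is none. -/
noncomputable def vs (M : Ideal AlgInt) : ValuationSubring ℂ :=
  haveI := Classical.propDecidable
  if h : ∃ V : ValuationSubring ℂ,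
      (∀ a : AlgInt, (a : ℂ) ∈ V) ∧ ∀ a : AlgInt, a ∈ M → (a : ℂ) ∈ V.nonunits
  then Classical.choose h else ⊤

/-- `z` is a local integer. -/
def Int' (M : Ideal AlgInt) (z : ℂ) : Prop := z ∈ vs M

/-- `z` is in the maximal ideal of the valuation ring. -/
def Sm (M : Ideal AlgInt) (z : ℂ) : Prop := (vs M).valuation z < 1

variable {M : Ideal AlgInt} {z w : ℂ}

theorem int'_iff : Int' M z ↔ (vs M).valuation z ≤ 1 := ((vs M).valuation_le_one_iff z).symm

theorem Sm.int' (h : Sm M z) : Int' M z := int'_iff.2 (le_of_lt h)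

theorem int'_zero : Int' M 0 := zero_mem _

theorem int'_one : Int' M 1 := one_mem _

theorem int'_natCast (n : ℕ) : Int' M (n : ℂ) := natCast_mem _ n

theorem int'_intCast (n : ℤ) : Int' M (n : ℂ) := intCast_mem _ n

theorem Int'.add (h : Int' M z) (k : Int' M w) : Int' M (z + w) := add_mem h k

theorem Int'.sub (h : Int' M z) (k : Int' M w) : Int' M (z - w) := sub_mem h k

theorem Int'.neg (h : Int' M z) : Int' M (-z) := neg_mem h

theorem Int'.mul (h : Int' M z) (k : Int' M w) : Int' M (z * w) := mul_mem h k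

theorem Int'.pow (h : Int' M z) (n : ℕ) : Int' M (z ^ n) := pow_mem h n

theorem int'_sum {ι : Type*} (s : Finset ι) {f : ι → ℂ} (h : ∀ i ∈ s, Int' M (f i)) :
    Int' M (∑ i ∈ s, f i) := sum_mem h

theorem int'_prod {ι : Type*} (s : Finset ι) {f : ι → ℂ} (h : ∀ i ∈ s, Int' M (f i)) :
    Int' M (∏ i ∈ s, f i) := prod_mem h

theorem sm_zero : Sm M 0 := by simp [Sm]

theorem not_sm_one : ¬ Sm M 1 := by simp [Sm]

theorem Sm.add (h : Sm M z) (k : Sm M w) : Sm M (z + w) :=
  lt_of_le_of_lt ((vs M).valuation.map_add z w) (max_lt h k)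

theorem Sm.neg (h : Sm M z) : Sm M (-z) := by simpa [Sm] using h

theorem Sm.sub (h : Sm M z) (k : Sm M w) : Sm M (z - w) := by
  simpa [sub_eq_add_neg] using h.add k.neg

theorem Sm.mul_left (h : Sm M w) (k : Int' M z) : Sm M (z * w) := by
  unfold Sm
  rw [map_mul, mul_comm]
  exact mul_lt_one_of_lt_of_le h (int'_iff.1 k)

theorem Sm.mul_right (h : Sm M z) (k : Int' M w) : Sm M (z * w) := by
  rw [mul_comm]; exact h.mul_left k

theorem Sm.pow (h : Sm M z) {n : ℕ} (hn : n ≠ 0) : Sm M (z ^ n) := by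
  obtain ⟨m, rfl⟩ := Nat.exists_eq_succ_of_ne_zero hn
  rw [pow_succ]
  exact h.mul_left (h.int'.pow m)

theorem sm_sum {ι : Type*} (s : Finset ι) {f : ι → ℂ} (h : ∀ i ∈ s, Sm M (f i)) :
    Sm M (∑ i ∈ s, f i) :=
  Finset.sum_induction _ (Sm M) (fun _ _ => Sm.add) sm_zero h

theorem sm_neg_iff : Sm M (-z) ↔ Sm M z := by simp [Sm]

theorem sm_sub_comm : Sm M (z - w) ↔ Sm M (w - z) := by rw [← sm_neg_iff, neg_sub]

theorem Sm.trans {u : ℂ} (h : Sm M (z - w)) (k : Sm M (w - u)) : Sm M (z - u) := by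
  simpa using h.add k

/-- Congruent numbers are small together. -/
theorem sm_iff_of_sub (h : Sm M (z - w)) : Sm M z ↔ Sm M w :=
  ⟨fun hz => by simpa using hz.sub h, fun hw => by simpa using h.add hw⟩

theorem int'_iff_of_sub (h : Sm M (z - w)) : Int' M z ↔ Int' M w :=
  ⟨fun hz => by simpa using hz.sub h.int', fun hw => by simpa using h.int'.add hw⟩

theorem sm_mul_sub_mul {a b c d : ℂ} (ha : Int' M a) (hd : Int' M d) (h : Sm M (a - b))
    (k : Sm M (c - d)) : Sm M (a * c - b * d) := by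
  have : a * c - b * d = a * (c - d) + (a - b) * d := by ring
  rw [this]
  exact (k.mul_left ha).add (h.mul_right hd)

theorem sm_pow_sub_pow (hz : Int' M z) (hw : Int' M w) (h : Sm M (z - w)) :
    ∀ n : ℕ, Sm M (z ^ n - w ^ n)
  | 0 => by simpa using sm_zero
  | n + 1 => by
    rw [pow_succ, pow_succ]
    exact sm_mul_sub_mul (hz.pow n) hw (sm_pow_sub_pow hz hw h n) h

theorem int'_inv (hz : Int' M z) (h : ¬ Sm M z) : Int' M z⁻¹ := by
  rw [int'_iff, map_inv₀]
  exact inv_le_one_of_one_le₀ (not_lt.1 h)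

theorem Int'.div (hz : Int' M z) (hw : Int' M w) (h : ¬ Sm M w) : Int' M (z / w) :=
  hz.mul (int'_inv hw h)

theorem not_sm_mul (h : ¬ Sm M z) (k : ¬ Sm M w) : ¬ Sm M (z * w) := by
  intro hc
  rcases (vs M).mem_or_inv_mem z with hz | hz
  · apply k
    have h1 := hc.mul_left (int'_inv hz h)
    rwa [← mul_assoc, inv_mul_cancel₀ (fun e => h (by rw [e]; exact sm_zero)), one_mul] at h1
  · apply k
    have h1 := hc.mul_left (show Int' M z⁻¹ from hz)
    rwa [← mul_assoc, inv_mul_cancel₀ (fun e => h (by rw [e]; exact sm_zero)), one_mul] at h1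

theorem not_sm_pow (h : ¬ Sm M z) : ∀ n : ℕ, ¬ Sm M (z ^ n)
  | 0 => by simpa using not_sm_one
  | n + 1 => by rw [pow_succ]; exact not_sm_mul (not_sm_pow h n) h

theorem sm_of_mul (h : Sm M (z * w)) : Sm M z ∨ Sm M w := by
  by_contra hc
  push Not at hc
  exact not_sm_mul hc.1 hc.2 h

theorem ne_zero_of_not_sm (h : ¬ Sm M z) : z ≠ 0 := fun e => h (e ▸ sm_zero)

theorem sm_prod_of_mem {ι : Type*} (s : Finset ι) {f : ι → ℂ} (h : Sm M (∏ i ∈ s, f i)) :
    ∃ i ∈ s, Sm M (f i) := by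
  classical
  induction s using Finset.induction with
  | empty => exact absurd (by simpa using h) not_sm_one
  | insert i s hi ih =>
    rw [Finset.prod_insert hi] at h
    rcases sm_of_mul h with h | h
    · exact ⟨i, Finset.mem_insert_self _ _, h⟩
    · obtain ⟨j, hj, hj'⟩ := ih h
      exact ⟨j, Finset.mem_insert_of_mem hj, hj'⟩

/-- An invertible multiple of a local integer. -/
theorem int'_of_mul (h : Int' M (z * w)) (hz : Int' M z) (hz' : ¬ Sm M z) : Int' M w := by
  have h1 := (int'_inv hz hz').mul h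
  rwa [← mul_assoc, inv_mul_cancel₀ (ne_zero_of_not_sm hz'), one_mul] at h1

section Modular

variable {p : ℕ}

theorem exists_vs (hM : IsPModular p M) : ∃ V : ValuationSubring ℂ,
    (∀ a : AlgInt, (a : ℂ) ∈ V) ∧ ∀ a : AlgInt, a ∈ M → (a : ℂ) ∈ V.nonunits := by
  obtain ⟨V, h1, h2⟩ := Ideal.image_subset_nonunits_valuationSubring
    (A := AlgInt.toSubring) M hM.2.1.ne_top
  exact ⟨V, fun a => h1 a.2, fun a ha => h2 ⟨a, ha, rfl⟩⟩

theorem vs_spec (hM : IsPModular p M) :
    (∀ a : AlgInt, (a : ℂ) ∈ vs M) ∧ ∀ a : AlgInt, a ∈ M → (a : ℂ) ∈ (vs M).nonunits := by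
  rw [vs, dif_pos (exists_vs hM)]
  exact Classical.choose_spec (exists_vs hM)

theorem int'_coe (hM : IsPModular p M) (a : AlgInt) : Int' M (a : ℂ) := (vs_spec hM).1 a

theorem int'_of_isIntegral (hM : IsPModular p M) {z : ℂ} (h : IsIntegral ℤ z) : Int' M z :=
  int'_coe hM ⟨z, h⟩

theorem sm_coe_of_mem (hM : IsPModular p M) {a : AlgInt} (h : a ∈ M) : Sm M (a : ℂ) :=
  ((vs M).mem_nonunits_iff).1 ((vs_spec hM).2 a h)

theorem sm_coe_iff (hM : IsPModular p M) (a : AlgInt) : Sm M (a : ℂ) ↔ a ∈ M := by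
  refine ⟨fun h => ?_, sm_coe_of_mem hM⟩
  by_contra ha
  obtain ⟨b, m, hm, hb⟩ := hM.2.1.exists_inv ha
  have h1 := congrArg (fun x : AlgInt => (x : ℂ)) hb
  simp only [AddMemClass.coe_add, MulMemClass.coe_mul, OneMemClass.coe_one] at h1
  have h2 : Sm M ((b : ℂ) * a + m) := (h.mul_left (int'_coe hM b)).add (sm_coe_of_mem hM hm)
  rw [h1] at h2
  exact not_sm_one h2

theorem sm_p (hM : IsPModular p M) : Sm M (p : ℂ) := by
  simpa using sm_coe_of_mem hM hM.2.2

theorem sm_intCast_iff (hM : IsPModular p M) (n : ℤ) : Sm M (n : ℂ) ↔ (p : ℤ) ∣ n := by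
  refine ⟨fun h => ?_, ?_⟩
  · by_contra hd
    obtain ⟨a, b, hab⟩ := ((Nat.prime_iff_prime_int.1 hM.1).coprime_iff_not_dvd.2 hd)
    have h2 : Sm M ((a : ℂ) * p + (b : ℂ) * n) :=
      ((sm_p hM).mul_left (int'_intCast a)).add (h.mul_left (int'_intCast b))
    have h3 : (a : ℂ) * p + (b : ℂ) * n = 1 := by exact_mod_cast hab
    rw [h3] at h2
    exact not_sm_one h2
  · rintro ⟨k, rfl⟩
    push_cast
    exact (sm_p hM).mul_right (int'_intCast k)

theorem sm_natCast_iff (hM : IsPModular p M) (n : ℕ) : Sm M (n : ℂ) ↔ p ∣ n := by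
  rw [← Int.natCast_dvd_natCast, ← sm_intCast_iff hM]
  simp

theorem not_sm_natCast_of_coprime (hM : IsPModular p M) {n : ℕ} (h : ¬ p ∣ n) :
    ¬ Sm M (n : ℂ) := fun hs => h ((sm_natCast_iff hM n).1 hs)

theorem int'_inv_natCast (hM : IsPModular p M) {n : ℕ} (h : ¬ p ∣ n) : Int' M (n : ℂ)⁻¹ :=
  int'_inv (int'_natCast n) (not_sm_natCast_of_coprime hM h)

/-- A complex number which is a root of a polynomial with algebraic integer coefficients not all
in `M` is a local integer or has local integer inverse. -/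
theorem kronecker (hM : IsPModular p M) : ∀ (n : ℕ) (c : ℕ → AlgInt) (z : ℂ),
    ∑ i ∈ Finset.range (n + 1), (c i : ℂ) * z ^ i = 0 → (∃ i ≤ n, c i ∉ M) →
      MemLocalRing M z ∨ MemLocalRing M z⁻¹
  | 0, c, z, h, ⟨i, hi, hc⟩ => by
    obtain rfl : i = 0 := Nat.le_zero.1 hi
    exfalso
    simp only [zero_add, Finset.range_one, Finset.sum_singleton, pow_zero, mul_one] at h
    exact hc (by rw [show c 0 = 0 from Subtype.ext h]; exact M.zero_mem)
  | n + 1, c, z, h, hex => by
    classical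
    rcases eq_or_ne z 0 with rfl | hz
    · exact .inl ⟨0, 1, fun h1 => hM.2.1.ne_top ((Ideal.eq_top_iff_one M).2 h1), by simp⟩
    -- the top coefficient times `z` is integral
    have hint : IsIntegral ℤ ((c (n + 1) : ℂ) * z) := by
      set b : ℕ → AlgInt := fun i => c i * c (n + 1) ^ (n - i) with hb
      let P : AlgInt[X] := X ^ (n + 1) + ∑ i ∈ Finset.range (n + 1), C (b i) * X ^ i
      have hP : P.Monic := monic_X_pow_add (by
        refine lt_of_le_of_lt (degree_sum_le _ _) ?_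
        refine (Finset.sup_lt_iff (WithBot.bot_lt_coe _)).2 fun i hi => ?_
        refine lt_of_le_of_lt (degree_C_mul_X_pow_le _ _) ?_
        exact_mod_cast Finset.mem_range.1 hi)
      refine isIntegral_trans (R := ℤ) (A := AlgInt) _ ⟨P, hP, ?_⟩
      simp only [P, eval₂_add, eval₂_X_pow, eval₂_finsetSum, eval₂_mul, eval₂_C, hb, map_mul,
        map_pow]
      have h' := congrArg (fun x => (c (n + 1) : ℂ) ^ n * x) h
      simp only [Finset.sum_range_succ _ (n + 1), mul_add, Finset.mul_sum, mul_zero] at h'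
      rw [← h', add_comm]
      congr 1
      · refine Finset.sum_congr rfl fun i hi => ?_
        rw [mul_pow]
        have : i + (n - i) = n := by have := Finset.mem_range.1 hi; omega
        have h3 : (c (n + 1) : ℂ) ^ n = (c (n + 1) : ℂ) ^ i * (c (n + 1) : ℂ) ^ (n - i) := by
          rw [← pow_add, this]
        rw [h3]
        simp only [eval₂_pow, eval₂_C,
          show ∀ a : AlgInt, algebraMap AlgInt ℂ a = (a : ℂ) from fun _ => rfl]
        ring
      · ring
    set e : AlgInt := ⟨(c (n + 1) : ℂ) * z, hint⟩ with he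
    by_cases h1 : c (n + 1) ∈ M
    · by_cases h2 : e ∈ M
      · -- lower the degree
        refine kronecker hM n (fun i => if i = n then c n + e else c i) z ?_ ?_
        · rw [Finset.sum_range_succ, Finset.sum_range_succ] at h
          rw [Finset.sum_range_succ, if_pos rfl]
          rw [← h]
          have : ∀ i ∈ Finset.range n, ((if i = n then c n + e else c i : AlgInt) : ℂ) * z ^ i
              = (c i : ℂ) * z ^ i := fun i hi => by
            rw [if_neg (by have := Finset.mem_range.1 hi; omega)]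
          rw [Finset.sum_congr rfl this]
          simp only [AddMemClass.coe_add, he]
          ring
        · obtain ⟨i, hi, hc⟩ := hex
          rcases eq_or_ne i (n + 1) with rfl | hne
          · exact absurd h1 hc
          refine ⟨i, by omega, ?_⟩
          split_ifs with hin
          · subst hin
            exact fun hm => hc (by simpa using M.sub_mem hm h2)
          · exact hc
      · refine .inr ⟨c (n + 1), e, h2, ?_⟩
        have hne : (c (n + 1) : ℂ) ≠ 0 := fun h0 => h2 (by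
          rw [show e = 0 from Subtype.ext (by simp [he, h0])]; exact M.zero_mem)
        simp only [he]
        field_simp
    · refine .inl ⟨e, c (n + 1), h1, ?_⟩
      have hne : (c (n + 1) : ℂ) ≠ 0 := fun h0 => h1 (by
        rw [show c (n + 1) = 0 from Subtype.ext h0]; exact M.zero_mem)
      simp only [he]
      field_simp

theorem memLocalRing_or_inv (hM : IsPModular p M) {z : ℂ} (hz : z ∈ AlgNum) :
    MemLocalRing M z ∨ MemLocalRing M z⁻¹ := by
  have halg : IsAlgebraic ℤ z :=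
    (IsFractionRing.isAlgebraic_iff ℤ ℚ ℂ).2 (mem_algebraicClosure_iff.1 hz)
  obtain ⟨P, hP0, hPz⟩ := halg
  -- make the polynomial primitive
  have hP : P.primPart ≠ 0 := (isPrimitive_primPart P).ne_zero
  have hQz : aeval z P.primPart = 0 := aeval_primPart_eq_zero hP0 hPz
  set Q := P.primPart with hQ
  refine kronecker hM Q.natDegree (fun i => (Q.coeff i : AlgInt)) z ?_ ?_
  · rw [aeval_eq_sum_range] at hQz
    rw [← hQz]
    simp [zsmul_eq_mul]
  · by_contra hc
    push Not at hc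
    have hdvd : C (p : ℤ) ∣ Q := by
      rw [C_dvd_iff_dvd_coeff]
      intro i
      rcases le_or_gt i Q.natDegree with hi | hi
      · have h1 : Sm M (((Q.coeff i : AlgInt) : ℂ)) := sm_coe_of_mem hM (hc i hi)
        rw [← sm_intCast_iff hM]
        simpa using h1
      · rw [coeff_eq_zero_of_natDegree_lt hi]; exact dvd_zero _
    have hu := (isPrimitive_primPart P) (p : ℤ) hdvd
    exact (Nat.prime_iff_prime_int.1 hM.1).not_isUnit hu

theorem int'_of_memLocalRing (hM : IsPModular p M) (h : MemLocalRing M z) : Int' M z := by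
  obtain ⟨a, b, hb, rfl⟩ := h
  exact (int'_coe hM a).div (int'_coe hM b) (fun hs => hb ((sm_coe_iff hM b).1 hs))

theorem sm_of_memLocalIdeal (hM : IsPModular p M) (h : MemLocalIdeal M z) : Sm M z := by
  obtain ⟨a, b, ha, hb, rfl⟩ := h
  exact (sm_coe_of_mem hM ha).mul_right
    (int'_inv (int'_coe hM b) (fun hs => hb ((sm_coe_iff hM b).1 hs)))

theorem memLocalRing_iff (hM : IsPModular p M) (hz : z ∈ AlgNum) :
    MemLocalRing M z ↔ Int' M z := by
  refine ⟨int'_of_memLocalRing hM, fun h => ?_⟩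
  rcases memLocalRing_or_inv hM hz with h1 | h1
  · exact h1
  rcases eq_or_ne z 0 with rfl | hz0
  · simpa using h1
  have h1' := int'_of_memLocalRing hM h1
  obtain ⟨a, b, hb, hab⟩ := h1
  have hbne : (b : ℂ) ≠ 0 := fun e => hb (by
    rw [show b = 0 from Subtype.ext e]; exact M.zero_mem)
  refine ⟨b, a, fun ha => ?_, by rw [← inv_inj, inv_div, hab]⟩
  have h2 : Sm M z⁻¹ := sm_of_memLocalIdeal hM ⟨a, b, ha, hb, hab⟩
  have h3 := h2.mul_left h
  rw [mul_inv_cancel₀ hz0] at h3
  exact not_sm_one h3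

theorem memLocalIdeal_iff (hM : IsPModular p M) (hz : z ∈ AlgNum) :
    MemLocalIdeal M z ↔ Sm M z := by
  refine ⟨sm_of_memLocalIdeal hM, fun h => ?_⟩
  obtain ⟨a, b, hb, hab⟩ := (memLocalRing_iff hM hz).2 h.int'
  refine ⟨a, b, ?_, hb, hab⟩
  have hbne : (b : ℂ) ≠ 0 := fun e => hb (by
    rw [show b = 0 from Subtype.ext e]; exact M.zero_mem)
  have : Sm M (a : ℂ) := by
    rw [show (a : ℂ) = z * b by rw [← hab]; field_simp]
    exact h.mul_right (int'_coe hM b)
  exact (sm_coe_iff hM a).1 this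

theorem memLocalIdeal_iff' (hM : IsPModular p M) :
    MemLocalIdeal M z ↔ z ∈ AlgNum ∧ Sm M z :=
  ⟨fun h => ⟨algNum_of_memLocalIdeal h, sm_of_memLocalIdeal hM h⟩,
    fun h => (memLocalIdeal_iff hM h.1).2 h.2⟩

theorem memLocalIdeal_coe_iff (hM : IsPModular p M) (a : AlgInt) :
    MemLocalIdeal M (a : ℂ) ↔ a ∈ M := by
  rw [memLocalIdeal_iff hM (algNum_coe a), sm_coe_iff hM]

/-- A small algebraic integer has a power divisible by `p`. -/
theorem exists_pow_eq_p_mul_of_isIntegral (hM : IsPModular p M) (hz : IsIntegral ℤ z)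
    (h : Sm M z) : ∃ N : ℕ, ∃ r : ℂ, Int' M r ∧ z ^ N = (p : ℂ) * r := by
  classical
  obtain ⟨f, hf, hfz⟩ := hz
  have hzi : Int' M z := h.int'
  have hex : ∃ i, ¬ (p : ℤ) ∣ f.coeff i := ⟨f.natDegree, by
    rw [hf.coeff_natDegree]
    exact fun hd => (Nat.prime_iff_prime_int.1 hM.1).not_isUnit (isUnit_of_dvd_one hd)⟩
  set i := Nat.find hex with hi
  have hi' : ¬ (p : ℤ) ∣ f.coeff i := Nat.find_spec hex
  have hlt : ∀ j < i, (p : ℤ) ∣ f.coeff j := fun j hj => not_not.1 (Nat.find_min hex hj)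
  have hin : i ≤ f.natDegree := le_natDegree_of_ne_zero fun e => hi' (e ▸ dvd_zero _)
  have h0 : ∑ j ∈ Finset.range (f.natDegree + 1), (f.coeff j : ℂ) * z ^ j = 0 := by
    rw [← hfz, eval₂_eq_sum_range]
    simp
  rw [← Finset.sum_range_add_sum_Ico _ (show i ≤ f.natDegree + 1 by omega),
    Finset.sum_Ico_eq_sum_range] at h0
  set g : ℂ := ∑ j ∈ Finset.range (f.natDegree + 1 - i), (f.coeff (i + j) : ℂ) * z ^ j with hg
  have hg' : ∑ j ∈ Finset.range (f.natDegree + 1 - i), (f.coeff (i + j) : ℂ) * z ^ (i + j) =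
      z ^ i * g := by
    rw [hg, Finset.mul_sum]
    exact Finset.sum_congr rfl fun j _ => by ring
  rw [hg'] at h0
  have hgi : Int' M g := int'_sum _ fun j _ => (int'_intCast _).mul (hzi.pow j)
  have hgu : ¬ Sm M g := by
    have hd : Sm M (g - (f.coeff i : ℂ)) := by
      rw [hg, show f.natDegree + 1 - i = (f.natDegree - i) + 1 by omega, Finset.sum_range_succ']
      simp only [add_zero, pow_zero, mul_one, add_sub_cancel_right]
      exact sm_sum _ fun j _ => (h.pow (Nat.succ_ne_zero j)).mul_left (int'_intCast _)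
    rw [sm_iff_of_sub hd, sm_intCast_iff hM]
    exact hi'
  refine ⟨i, -(∑ j ∈ Finset.range i, ((f.coeff j / (p : ℤ) : ℤ) : ℂ) * z ^ j) * g⁻¹,
    ((int'_sum _ fun j _ => (int'_intCast _).mul (hzi.pow j)).neg).mul (int'_inv hgi hgu), ?_⟩
  have hlow : ∑ j ∈ Finset.range i, (f.coeff j : ℂ) * z ^ j =
      (p : ℂ) * ∑ j ∈ Finset.range i, ((f.coeff j / (p : ℤ) : ℤ) : ℂ) * z ^ j := by
    rw [Finset.mul_sum]
    refine Finset.sum_congr rfl fun j hj => ?_
    obtain ⟨k, hk⟩ := hlt j (Finset.mem_range.1 hj)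
    rw [hk, Int.mul_ediv_cancel_left _ (by exact_mod_cast hM.1.ne_zero)]
    push_cast; ring
  rw [hlow, add_eq_zero_iff_eq_neg] at h0
  have h4 : z ^ i * g = -((p : ℂ) * ∑ j ∈ Finset.range i,
      ((f.coeff j / (p : ℤ) : ℤ) : ℂ) * z ^ j) := by rw [h0, neg_neg]
  calc z ^ i = (z ^ i * g) * g⁻¹ := by
        rw [mul_assoc, mul_inv_cancel₀ (ne_zero_of_not_sm hgu), mul_one]
    _ = _ := by rw [h4]; ring

/-- A small algebraic number has all sufficiently high powers divisible by a given power of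
`p`. -/
theorem exists_pow_eq_pPow_mul (hM : IsPModular p M) (hz : z ∈ AlgNum) (h : Sm M z) (a : ℕ) :
    ∃ N : ℕ, ∀ n ≥ N, ∃ r : ℂ, Int' M r ∧ z ^ n = (p : ℂ) ^ a * r := by
  obtain ⟨x, y, hx, hy, rfl⟩ := (memLocalIdeal_iff hM hz).2 h
  have hy' : ¬ Sm M (y : ℂ) := fun e => hy ((sm_coe_iff hM y).1 e)
  obtain ⟨N, r, hr, hxr⟩ :=
    exists_pow_eq_p_mul_of_isIntegral hM x.2 (sm_coe_of_mem hM hx)
  refine ⟨N * a, fun n hn => ?_⟩
  obtain ⟨k, rfl⟩ := Nat.exists_eq_add_of_le hn
  refine ⟨r ^ a * ((x : ℂ) ^ k * ((y : ℂ)⁻¹) ^ (N * a + k)),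
    (hr.pow a).mul (((int'_coe hM x).pow k).mul ((int'_inv (int'_coe hM y) hy').pow _)), ?_⟩
  rw [div_eq_mul_inv, mul_pow, pow_add (x : ℂ), pow_mul, hxr, mul_pow]
  ring

/-- A root of unity of `p`-power order is congruent to one. -/
theorem sm_sub_one_of_pow_pPow (hM : IsPModular p M) :
    ∀ (k : ℕ) {ζ : ℂ}, ζ ^ (p ^ k) = 1 → Sm M (ζ - 1) := by
  intro k ζ hζ
  have := hM.2.1.isPrime
  have hi : IsIntegral ℤ ζ :=
    IsIntegral.of_pow (pow_pos hM.1.pos k) (by rw [hζ]; exact isIntegral_one)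
  set x : AlgInt := ⟨ζ, hi⟩
  have hx : x ^ p ^ k = 1 := Subtype.ext (by simpa [x] using hζ)
  have hchar : ((p : ℕ) : AlgInt ⧸ M) = 0 := by
    rw [← map_natCast (Ideal.Quotient.mk M), Ideal.Quotient.eq_zero_iff_mem]
    exact hM.2.2
  have : CharP (AlgInt ⧸ M) p := (CharP.charP_iff_prime_eq_zero hM.1).2 hchar
  have : Fact p.Prime := ⟨hM.1⟩
  have h1 : (Ideal.Quotient.mk M x - 1) ^ p ^ k = 0 := by
    rw [sub_pow_char_pow, one_pow, ← map_pow, hx, map_one, sub_self]
  have h2 := eq_zero_of_pow_eq_zero h1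
  rw [← map_one (Ideal.Quotient.mk M), ← map_sub, Ideal.Quotient.eq_zero_iff_mem] at h2
  simpa [x] using sm_coe_of_mem hM h2

/-- Distinct roots of unity of order prime to `p` are not congruent. -/
theorem eq_one_of_pow_eq_one_of_sm (hM : IsPModular p M) {m : ℕ} (hm : ¬ p ∣ m) {ζ : ℂ}
    (hζ : ζ ^ m = 1) (h : Sm M (ζ - 1)) : ζ = 1 := by
  by_contra hne
  have hgeom : ∑ i ∈ Finset.range m, ζ ^ i = 0 := by
    have := geom_sum_mul ζ m
    rw [hζ, sub_self, mul_eq_zero] at this
    exact this.resolve_right (sub_ne_zero.2 hne)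
  have hi : Int' M ζ := by simpa using h.int'.add (int'_one)
  have h1 : Sm M (∑ i ∈ Finset.range m, ζ ^ i - (m : ℂ)) := by
    rw [show (m : ℂ) = ∑ _i ∈ Finset.range m, (1 : ℂ) by simp, ← Finset.sum_sub_distrib]
    refine sm_sum _ fun i _ => ?_
    simpa using sm_pow_sub_pow hi int'_one h i
  rw [hgeom, zero_sub, sm_neg_iff] at h1
  exact not_sm_natCast_of_coprime hM hm h1

end Modular

end Cfsg.Agent.BrauerBlocksVal
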