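import Mathlib
import Cfsg.Prelude.Def_Blocks
import Cfsg.Agent.Lib.CharBasicOrth
import Cfsg.Agent.Lib.BrauerBlocksVal

/-!
# Central elements of the complex group algebra and the characters' values on them
-/

set_option autoImplicit false

open scoped ComplexConjugate

namespace Cfsg.Agent.BrauerBlocksCentral

open Cfsg.Agent.BrauerBlocksVal Cfsg.Agent.CharBasic Cfsg.Agent.CharBasicOrth

universe u

variable {G : Type u} [Group G]

/-- The complex group algebra. -/
abbrev A (G : Type u) := MonoidAlgebra ℂ G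

section Basic

variable [Fintype G]

/-- The group algebra element with the given coefficient function. -/
noncomputable def mkA (f : G → ℂ) : A G := .ofCoeff (Finsupp.equivFunOnFinite.symm f)

@[simp] theorem coeff_mkA (f : G → ℂ) (g : G) : (mkA f).coeff g = f g := by simp [mkA]

theorem mkA_coeff (x : A G) : mkA (fun g => x.coeff g) = x := by ext g; simp

theorem mul_coeff (x y : A G) (g : G) :
    (x * y).coeff g = ∑ h : G, x.coeff h * y.coeff (h⁻¹ * g) := by
  classical
  rw [MonoidAlgebra.coeff_mul, Finsupp.sum_fintype _ _ (fun h => by simp)]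
  refine Finset.sum_congr rfl fun h _ => ?_
  rw [Finsupp.sum_fintype _ _ (fun k => by simp), Finset.sum_eq_single (h⁻¹ * g)]
  · simp
  · intro k _ hk
    rw [if_neg]
    rintro rfl
    simp at hk
  · simp

theorem sum_single_coeff (x : A G) : x = ∑ g : G, MonoidAlgebra.single g (x.coeff g) := by
  classical
  ext h
  simp [MonoidAlgebra.coeff_sum, Finsupp.single_apply]

omit [Fintype G] in
theorem coeff_one (g : G) [Decidable (g = 1)] : (1 : A G).coeff g = if g = 1 then 1 else 0 := by
  classical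
  rw [MonoidAlgebra.one_def, MonoidAlgebra.coeff_single, Finsupp.single_apply]
  split_ifs with h1 h2 h2 <;> first | rfl | exact absurd h1.symm h2 | exact absurd h2.symm h1

end Basic

/-- The coefficient function of `x` is a class function. -/
def IsC (x : A G) : Prop := ∀ g h : G, x.coeff (h * g * h⁻¹) = x.coeff g

theorem isC_zero : IsC (0 : A G) := fun _ _ => by simp

theorem isC_one : IsC (1 : A G) := by
  intro g h
  classical
  rw [coeff_one, coeff_one]
  simp only [show h * g * h⁻¹ = 1 ↔ g = 1 by simp [mul_inv_eq_one]]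

theorem IsC.add {x y : A G} (hx : IsC x) (hy : IsC y) : IsC (x + y) := fun g h => by
  simp [hx g h, hy g h]

theorem IsC.sub {x y : A G} (hx : IsC x) (hy : IsC y) : IsC (x - y) := fun g h => by
  simp [hx g h, hy g h]

theorem IsC.smul {x : A G} (hx : IsC x) (c : ℂ) : IsC (c • x) := fun g h => by
  simp [hx g h]

theorem isC_sum {ι : Type*} (s : Finset ι) {f : ι → A G} (h : ∀ i ∈ s, IsC (f i)) :
    IsC (∑ i ∈ s, f i) :=
  Finset.sum_induction _ IsC (fun _ _ => IsC.add) isC_zero h

theorem IsC.apply_conj {x : A G} (hx : IsC x) {g h : G} (hc : IsConj g h) :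
    x.coeff g = x.coeff h := by
  obtain ⟨c, rfl⟩ := isConj_iff.1 hc
  exact (hx g c).symm

theorem IsC.mul_comm_coeff {x : A G} (hx : IsC x) (a b : G) :
    x.coeff (a * b) = x.coeff (b * a) := by
  have := hx (b * a) a
  rwa [← mul_assoc, mul_inv_cancel_right] at this

section Fin

variable [Fintype G]

theorem IsC.mul {x y : A G} (hx : IsC x) (hy : IsC y) : IsC (x * y) := by
  intro g h
  rw [mul_coeff, mul_coeff]
  refine Fintype.sum_equiv (MulAut.conj h⁻¹).toEquiv _ _ fun k => ?_
  simp only [MulEquiv.toEquiv_eq_coe, MulEquiv.coe_toEquiv, MulAut.conj_apply]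
  rw [hx k h⁻¹, ← hy (k⁻¹ * (h * g * h⁻¹)) h⁻¹]
  congr 2
  group

theorem IsC.pow {x : A G} (hx : IsC x) : ∀ n : ℕ, IsC (x ^ n)
  | 0 => by simpa using isC_one
  | n + 1 => by rw [pow_succ]; exact (hx.pow n).mul hx

theorem IsC.comm {x : A G} (hx : IsC x) (y : A G) : x * y = y * x := by
  ext g
  rw [mul_coeff, mul_coeff]
  refine Fintype.sum_equiv ((Equiv.inv G).trans (Equiv.mulRight g)) _ _ fun h => ?_
  simp only [Equiv.trans_apply, Equiv.inv_apply, Equiv.coe_mulRight]
  have h2 : x.coeff ((h⁻¹ * g)⁻¹ * g) = x.coeff h := by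
    rw [mul_inv_rev, inv_inv, mul_assoc]
    have := hx h g⁻¹
    rwa [inv_inv, mul_assoc] at this
  rw [h2, mul_comm]

theorem isC_mkA {f : G → ℂ} (h : Cfsg.IsClassFunction G f) : IsC (mkA f) := fun g k => by
  simp [h g k]

end Fin

/-! ### Characters as linear forms -/

section Char

variable [Fintype G]

/-- The linear extension of a function on the group to the group algebra. -/
noncomputable def tr (f : G → ℂ) (x : A G) : ℂ := ∑ g : G, x.coeff g * f g

/-- The central character of `χ` on the group algebra. -/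
noncomputable def om (χ : G → ℂ) (x : A G) : ℂ := tr χ x / χ 1

theorem tr_add (f : G → ℂ) (x y : A G) : tr f (x + y) = tr f x + tr f y := by
  simp [tr, add_mul, Finset.sum_add_distrib]

theorem tr_sub (f : G → ℂ) (x y : A G) : tr f (x - y) = tr f x - tr f y := by
  simp [tr, sub_mul, Finset.sum_sub_distrib]

theorem tr_smul (f : G → ℂ) (c : ℂ) (x : A G) : tr f (c • x) = c * tr f x := by
  simp [tr, Finset.mul_sum, mul_assoc]

theorem tr_zero (f : G → ℂ) : tr f (0 : A G) = 0 := by simp [tr]

theorem tr_sum {ι : Type*} (f : G → ℂ) (s : Finset ι) (x : ι → A G) :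
    tr f (∑ i ∈ s, x i) = ∑ i ∈ s, tr f (x i) := by
  classical
  induction s using Finset.induction with
  | empty => simp [tr_zero]
  | insert i s hi ih => simp [Finset.sum_insert hi, tr_add, ih]

theorem tr_single (f : G → ℂ) (g : G) (c : ℂ) : tr f (MonoidAlgebra.single g c) = c * f g := by
  classical
  simp [tr, Finsupp.single_apply]

theorem om_add (f : G → ℂ) (x y : A G) : om f (x + y) = om f x + om f y := by
  simp [om, tr_add, add_div]

theorem om_sub (f : G → ℂ) (x y : A G) : om f (x - y) = om f x - om f y := by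
  simp [om, tr_sub, sub_div]

theorem om_smul (f : G → ℂ) (c : ℂ) (x : A G) : om f (c • x) = c * om f x := by
  simp [om, tr_smul, mul_div_assoc]

theorem om_zero (f : G → ℂ) : om f (0 : A G) = 0 := by simp [om, tr_zero]

theorem om_sum {ι : Type*} (f : G → ℂ) (s : Finset ι) (x : ι → A G) :
    om f (∑ i ∈ s, x i) = ∑ i ∈ s, om f (x i) := by
  simp [om, tr_sum, Finset.sum_div]

variable {V : Type*} [AddCommGroup V] [Module ℂ V] [FiniteDimensional ℂ V]

theorem tr_character (ρ : Representation ℂ G V) (x : A G) :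
    tr ρ.character x = LinearMap.trace ℂ V (ρ.asAlgebraHom x) := by
  conv_rhs => rw [sum_single_coeff x]
  simp [tr, Representation.character, map_sum]

theorem asAlgebraHom_central (ρ : Representation ℂ G V) [ρ.IsIrreducible] {x : A G}
    (hx : IsC x) : ρ.asAlgebraHom x = om ρ.character x • (1 : Module.End ℂ V) := by
  obtain ⟨c, hc, htr⟩ := exists_scalar_of_commute ρ (ρ.asAlgebraHom x) fun g v => by
    rw [← Representation.asAlgebraHom_single_one, ← Module.End.mul_apply, ← map_mul, hx.comm,
      map_mul, Module.End.mul_apply]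
  have hne : (Module.finrank ℂ V : ℂ) ≠ 0 :=
    Nat.cast_ne_zero.2 (finrank_pos_of_irreducible ρ).ne'
  have hom : om ρ.character x = c := by
    rw [om, tr_character, htr, Representation.char_one]
    field_simp
  rw [hom, hc]
  rfl

theorem tr_mul {χ : G → ℂ} (hχ : Cfsg.IsIrrCharacter G χ) {x : A G} (hx : IsC x) (y : A G) :
    tr χ (x * y) = om χ x * tr χ y := by
  obtain ⟨n, ρ, hρ, rfl⟩ := hχ
  rw [tr_character, map_mul, asAlgebraHom_central ρ hx, tr_character, smul_mul_assoc, one_mul,
    map_smul, smul_eq_mul]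

theorem om_mul {χ : G → ℂ} (hχ : Cfsg.IsIrrCharacter G χ) {x : A G} (hx : IsC x) (y : A G) :
    om χ (x * y) = om χ x * om χ y := by
  rw [om, tr_mul hχ hx, mul_div_assoc, ← om]

theorem om_one {χ : G → ℂ} (hχ : Cfsg.IsIrrCharacter G χ) : om χ (1 : A G) = 1 := by
  rw [om, MonoidAlgebra.one_def, tr_single, one_mul]
  exact div_self (isIrrCharacter_apply_one_ne_zero hχ)

theorem om_pow {χ : G → ℂ} (hχ : Cfsg.IsIrrCharacter G χ) {x : A G} (hx : IsC x) :
    ∀ n : ℕ, om χ (x ^ n) = om χ x ^ n
  | 0 => by simp [om_one hχ]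
  | n + 1 => by rw [pow_succ, om_mul hχ (hx.pow n), om_pow hχ hx n, pow_succ]

/-- A sum over the group of a class function, class by class. -/
theorem sum_by_classes [Fintype (ConjClasses G)] {F : G → ℂ} (hF : Cfsg.IsClassFunction G F) :
    ∑ g : G, F g = ∑ C : ConjClasses G, (C.carrier.ncard : ℂ) * F C.out := by
  classical
  rw [← Finset.sum_fiberwise Finset.univ ConjClasses.mk F]
  refine Finset.sum_congr rfl fun C _ => ?_
  have hout : ConjClasses.mk C.out = C := Quotient.out_eq _
  rw [Finset.sum_congr rfl (g := fun _ => F C.out) fun g hg => ?_, Finset.sum_const,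
    nsmul_eq_mul]
  · congr 2
    rw [Set.ncard_eq_toFinset_card']
    congr 1
    ext g
    simp [ConjClasses.mem_carrier_iff_mk_eq]
  · have hg' : ConjClasses.mk g = C := (Finset.mem_filter.1 hg).2
    exact CharBasic.apply_eq_of_isConj hF
      (ConjClasses.mk_eq_mk_iff_isConj.1 (hg'.trans hout.symm))

omit [Fintype G] in
theorem ncard_carrier [Finite G] (g : G) :
    (ConjClasses.mk g).carrier.ncard = (Subgroup.centralizer ({g} : Set G)).index := by
  have h := card_conj_mul_card_centralizer g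
  have h2 := (Subgroup.centralizer ({g} : Set G)).card_mul_index
  rw [← h, mul_comm] at h2
  have h3 : (Subgroup.centralizer ({g} : Set G)).index = Nat.card {x : G // IsConj g x} :=
    Nat.eq_of_mul_eq_mul_right Nat.card_pos h2
  have hset : (ConjClasses.mk g).carrier = {x : G | IsConj g x} := by
    ext x
    rw [ConjClasses.mem_carrier_iff_mk_eq, ConjClasses.mk_eq_mk_iff_isConj, Set.mem_setOf_eq,
      isConj_comm]
  rw [h3, hset]
  rfl

/-- The class sum of `g`. -/
noncomputable def classSum (g : G) : A G :=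
  mkA fun h => by classical exact if IsConj g h then 1 else 0

theorem isC_classSum (g : G) : IsC (classSum g) := by
  classical
  intro a b
  have : IsConj a (b * a * b⁻¹) := isConj_iff.2 ⟨b, rfl⟩
  simp only [classSum, coeff_mkA,
    show IsConj g (b * a * b⁻¹) ↔ IsConj g a from ⟨fun e => e.trans this.symm, fun e => e.trans this⟩]

theorem coeff_classSum (g h : G) [Decidable (IsConj g h)] :
    (classSum g).coeff h = if IsConj g h then 1 else 0 := by
  simp only [classSum, coeff_mkA]
  congr

theorem tr_classSum {f : G → ℂ} (hf : Cfsg.IsClassFunction G f) (g : G) :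
    tr f (classSum g) = ((Subgroup.centralizer ({g} : Set G)).index : ℂ) * f g := by
  classical
  simp only [tr, coeff_classSum, ite_mul, one_mul, zero_mul, ← Finset.sum_filter]
  rw [Finset.sum_congr rfl (g := fun _ => f g) fun h hh =>
    (CharBasic.apply_eq_of_isConj hf (Finset.mem_filter.1 hh).2).symm, Finset.sum_const,
    nsmul_eq_mul, ← ncard_carrier g, Set.ncard_eq_toFinset_card']
  congr 3
  ext h
  simp only [Set.mem_toFinset, ConjClasses.mem_carrier_iff_mk_eq, ConjClasses.mk_eq_mk_iff_isConj,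
    Finset.mem_filter, Finset.mem_univ, true_and]
  exact isConj_comm

theorem classFun_irr (χ : Cfsg.IrrCharacter G) : Cfsg.IsClassFunction G (χ : G → ℂ) :=
  isClassFunction_of_isCharacter (isCharacter_of_isIrrCharacter χ.2)

theorem om_classSum {χ : G → ℂ} (hχ : Cfsg.IsClassFunction G χ) (g : G) :
    om χ (classSum g) = Cfsg.centralChar χ g := by
  rw [om, tr_classSum hχ, Cfsg.centralChar]

theorem isIntegral_centralChar {χ : G → ℂ} (hχ : Cfsg.IsIrrCharacter G χ) (g : G) :
    IsIntegral ℤ (Cfsg.centralChar χ g) := by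
  classical
  rw [← om_classSum (isClassFunction_of_isCharacter (isCharacter_of_isIrrCharacter hχ)) g]
  obtain ⟨n, ρ, hρ, rfl⟩ := hχ
  have := nontrivial_of_irreducible ρ
  let φ : MonoidAlgebra ℤ G →ₐ[ℤ] Module.End ℂ (Fin n → ℂ) :=
    MonoidAlgebra.lift ℤ (Module.End ℂ (Fin n → ℂ)) G ρ
  let k : MonoidAlgebra ℤ G :=
    ∑ h : G, MonoidAlgebra.single h (if IsConj g h then (1 : ℤ) else 0)
  have h1 : φ k = ρ.asAlgebraHom (classSum g) := by
    conv_rhs => rw [sum_single_coeff (classSum g)]
    simp only [k, φ, map_sum, MonoidAlgebra.lift_single, Representation.asAlgebraHom_single,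
      coeff_classSum]
    refine Finset.sum_congr rfl fun h _ => ?_
    split_ifs <;> simp
  rw [asAlgebraHom_central ρ (isC_classSum g), ← Algebra.algebraMap_eq_smul_one] at h1
  have hfin : Module.Finite ℤ (MonoidAlgebra ℤ G) := inferInstance
  have h2 := (IsIntegral.of_finite ℤ k).map φ
  rw [h1] at h2
  exact (isIntegral_algebraMap_iff (FaithfulSMul.algebraMap_injective ℂ _)).1 h2

theorem int'_centralChar {p : ℕ} {M : Ideal AlgInt} (hM : IsPModular p M)
    (χ : Cfsg.IrrCharacter G) (g : G) : Int' M (Cfsg.centralChar (χ : G → ℂ) g) :=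
  int'_of_isIntegral hM (isIntegral_centralChar χ.2 g)

theorem algNum_centralChar (χ : Cfsg.IrrCharacter G) (g : G) :
    Cfsg.centralChar (χ : G → ℂ) g ∈ AlgNum :=
  algNum_of_isIntegral (isIntegral_centralChar χ.2 g)

theorem isIntegral_irr (χ : Cfsg.IrrCharacter G) (g : G) : IsIntegral ℤ ((χ : G → ℂ) g) :=
  isCharacter_integral (isCharacter_of_isIrrCharacter χ.2) g

theorem algNum_irr (χ : Cfsg.IrrCharacter G) (g : G) : (χ : G → ℂ) g ∈ AlgNum :=
  algNum_of_isIntegral (isIntegral_irr χ g)

theorem isIntegral_conj {z : ℂ} (h : IsIntegral ℤ z) : IsIntegral ℤ (conj z) :=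
  h.map ((starRingEnd ℂ).toIntAlgHom)

theorem conj_irr (χ : Cfsg.IrrCharacter G) (g : G) :
    conj ((χ : G → ℂ) g) = (χ : G → ℂ) g⁻¹ :=
  (isCharacter_inv (isCharacter_of_isIrrCharacter χ.2) g).symm

theorem om_eq_sum_classes [Fintype (ConjClasses G)] {χ : G → ℂ}
    (hχ : Cfsg.IsClassFunction G χ) {x : A G} (hx : IsC x) :
    om χ x = ∑ C : ConjClasses G, x.coeff C.out * Cfsg.centralChar χ C.out := by
  rw [om, tr, sum_by_classes (F := fun g => x.coeff g * χ g) fun g h => by simp [hx g h, hχ g h],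
    Finset.sum_div]
  refine Finset.sum_congr rfl fun C _ => ?_
  have : (C.carrier.ncard) = (Subgroup.centralizer ({C.out} : Set G)).index := by
    rw [← ncard_carrier C.out]
    congr 2
    exact (Quotient.out_eq _).symm
  rw [this, Cfsg.centralChar]
  ring

/-! ### Fourier inversion on the centre -/

/-- The central element with prescribed central character values. -/
noncomputable def ofVals (f : Cfsg.IrrCharacter G → ℂ) : A G :=
  mkA fun g => (Nat.card G : ℂ)⁻¹ *
    ∑ χ : Cfsg.IrrCharacter G, f χ * ((χ : G → ℂ) 1 * conj ((χ : G → ℂ) g))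

theorem coeff_ofVals (f : Cfsg.IrrCharacter G → ℂ) (g : G) :
    (ofVals f).coeff g = (Nat.card G : ℂ)⁻¹ *
      ∑ χ : Cfsg.IrrCharacter G, f χ * ((χ : G → ℂ) 1 * conj ((χ : G → ℂ) g)) := coeff_mkA _ _

theorem isC_ofVals (f : Cfsg.IrrCharacter G → ℂ) : IsC (ofVals f) := by
  intro g h
  simp only [coeff_ofVals, classFun_irr _ g h]

theorem tr_irr_ofVals (f : Cfsg.IrrCharacter G → ℂ) (ψ : Cfsg.IrrCharacter G) :
    tr (ψ : G → ℂ) (ofVals f) = f ψ * (ψ : G → ℂ) 1 := by
  classical
  simp only [tr, coeff_ofVals, Finset.mul_sum, Finset.sum_mul]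
  rw [Finset.sum_comm, Finset.sum_eq_single ψ]
  · have h := card_mul_classInner (ψ : G → ℂ) (ψ : G → ℂ)
    rw [classInner_irr_self ψ.2, mul_one] at h
    have h0 : (Nat.card G : ℂ) ≠ 0 := Nat.cast_ne_zero.2 Nat.card_pos.ne'
    calc ∑ g : G, (Nat.card G : ℂ)⁻¹ * (f ψ * ((ψ : G → ℂ) 1 * conj ((ψ : G → ℂ) g))) *
          (ψ : G → ℂ) g
        = (Nat.card G : ℂ)⁻¹ * f ψ * (ψ : G → ℂ) 1 *
          ∑ g : G, (ψ : G → ℂ) g * conj ((ψ : G → ℂ) g) := by
          rw [Finset.mul_sum]; exact Finset.sum_congr rfl fun g _ => by ring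
      _ = _ := by rw [← h]; field_simp
  · intro χ _ hne
    have h := card_mul_classInner (ψ : G → ℂ) (χ : G → ℂ)
    rw [classInner_irr_ne ψ.2 χ.2 (fun e => hne (Subtype.ext e).symm), mul_zero] at h
    calc ∑ g : G, (Nat.card G : ℂ)⁻¹ * (f χ * ((χ : G → ℂ) 1 * conj ((χ : G → ℂ) g))) *
          (ψ : G → ℂ) g
        = (Nat.card G : ℂ)⁻¹ * f χ * (χ : G → ℂ) 1 *
          ∑ g : G, (ψ : G → ℂ) g * conj ((χ : G → ℂ) g) := by
          rw [Finset.mul_sum]; exact Finset.sum_congr rfl fun g _ => by ring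
      _ = _ := by rw [← h, mul_zero]
  · simp

theorem om_ofVals (f : Cfsg.IrrCharacter G → ℂ) (ψ : Cfsg.IrrCharacter G) :
    om (ψ : G → ℂ) (ofVals f) = f ψ := by
  have := isIrrCharacter_apply_one_ne_zero ψ.2
  rw [om, tr_irr_ofVals]
  field_simp

theorem ofVals_om {x : A G} (hx : IsC x) :
    ofVals (fun χ : Cfsg.IrrCharacter G => om (χ : G → ℂ) x) = x := by
  classical
  ext g
  rw [coeff_ofVals]
  have h1 : ∀ χ : Cfsg.IrrCharacter G, om (χ : G → ℂ) x * ((χ : G → ℂ) 1 * conj ((χ : G → ℂ) g))
      = ∑ h : G, x.coeff h * ((χ : G → ℂ) h * conj ((χ : G → ℂ) g)) := by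
    intro χ
    have := isIrrCharacter_apply_one_ne_zero χ.2
    calc om (χ : G → ℂ) x * ((χ : G → ℂ) 1 * conj ((χ : G → ℂ) g))
        = tr (χ : G → ℂ) x * conj ((χ : G → ℂ) g) := by rw [om]; field_simp
      _ = _ := by rw [tr, Finset.sum_mul]; exact Finset.sum_congr rfl fun h _ => by ring
  simp only [h1]
  rw [Finset.sum_comm]
  simp only [← Finset.mul_sum, sum_irr_mul_conj, mul_ite, mul_zero, ← Finset.sum_filter]
  have h2 : ∀ h ∈ Finset.univ.filter (fun h : G => IsConj h g),
      x.coeff h * (Nat.card (Subgroup.centralizer ({h} : Set G)) : ℂ) =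
      x.coeff g * (Nat.card (Subgroup.centralizer ({g} : Set G)) : ℂ) := by
    intro h hh
    have hc : IsConj h g := (Finset.mem_filter.1 hh).2
    rw [hx.apply_conj hc]
    congr 2
    have e1 := card_conj_mul_card_centralizer h
    have e2 := card_conj_mul_card_centralizer g
    have e3 : Nat.card {x : G // IsConj h x} = Nat.card {x : G // IsConj g x} :=
      Nat.card_congr (Equiv.subtypeEquivRight fun x =>
        ⟨fun e => hc.symm.trans e, fun e => hc.trans e⟩)
    rw [e3, ← e2] at e1
    have : Nonempty {x : G // IsConj g x} := ⟨⟨g, IsConj.refl g⟩⟩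
    exact Nat.eq_of_mul_eq_mul_left Nat.card_pos e1
  rw [Finset.sum_congr rfl h2, Finset.sum_const, nsmul_eq_mul]
  have hcard : (Finset.univ.filter fun h : G => IsConj h g).card =
      Nat.card {x : G // IsConj g x} := by
    rw [Nat.card_eq_fintype_card, Fintype.card_subtype]
    congr 1
    ext x
    simp only [Finset.mem_filter, Finset.mem_univ, true_and]
    exact isConj_comm
  have h3 := card_conj_mul_card_centralizer g
  rw [hcard, show (Nat.card {x : G // IsConj g x} : ℂ) *
      (x.coeff g * (Nat.card (Subgroup.centralizer ({g} : Set G)) : ℂ)) =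
      x.coeff g * (Nat.card G : ℂ) by rw [← h3]; push_cast; ring]
  have h0 : (Nat.card G : ℂ) ≠ 0 := Nat.cast_ne_zero.2 Nat.card_pos.ne'
  field_simp

theorem eq_of_om {x y : A G} (hx : IsC x) (hy : IsC y)
    (h : ∀ χ : Cfsg.IrrCharacter G, om (χ : G → ℂ) x = om (χ : G → ℂ) y) : x = y := by
  rw [← ofVals_om hx, ← ofVals_om hy]
  simp only [h]

/-- The sum of the central idempotents of the members of `B`. -/
noncomputable def idem (B : Set (Cfsg.IrrCharacter G)) : A G :=
  ofVals fun χ => by classical exact if χ ∈ B then 1 else 0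

theorem coeff_idem (B : Set (Cfsg.IrrCharacter G)) (g : G) :
    (idem B).coeff g = Cfsg.blockCoeff B g := by
  classical
  rw [idem, coeff_ofVals, Cfsg.blockCoeff, finsum_mem_def, finsum_eq_sum_of_fintype]
  congr 1
  refine Finset.sum_congr rfl fun χ _ => ?_
  rw [Set.indicator_apply]
  split_ifs <;> simp

theorem isC_idem (B : Set (Cfsg.IrrCharacter G)) : IsC (idem B) := isC_ofVals _

theorem om_idem (B : Set (Cfsg.IrrCharacter G)) (ψ : Cfsg.IrrCharacter G)
    [Decidable (ψ ∈ B)] : om (ψ : G → ℂ) (idem B) = if ψ ∈ B then 1 else 0 := by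
  rw [idem, om_ofVals]
  congr

theorem idem_mul (B C : Set (Cfsg.IrrCharacter G)) : idem B * idem C = idem (B ∩ C) := by
  classical
  refine eq_of_om ((isC_idem B).mul (isC_idem C)) (isC_idem _) fun χ => ?_
  rw [om_mul χ.2 (isC_idem B), om_idem, om_idem, om_idem]
  by_cases h1 : χ ∈ B <;> by_cases h2 : χ ∈ C <;> simp [h1, h2]

theorem idem_idem (B : Set (Cfsg.IrrCharacter G)) : idem B * idem B = idem B := by
  rw [idem_mul, Set.inter_self]

theorem idem_univ : idem (Set.univ : Set (Cfsg.IrrCharacter G)) = 1 := by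
  classical
  exact eq_of_om (isC_idem _) isC_one fun χ => by simp [om_idem, om_one χ.2]

theorem idem_empty : idem (∅ : Set (Cfsg.IrrCharacter G)) = 0 := by
  classical
  exact eq_of_om (isC_idem _) isC_zero fun χ => by simp [om_idem, om_zero]

theorem idem_compl (B : Set (Cfsg.IrrCharacter G)) : idem Bᶜ = 1 - idem B := by
  classical
  refine eq_of_om (isC_idem _) (isC_one.sub (isC_idem _)) fun χ => ?_
  simp only [om_idem, om_sub, om_one χ.2, Set.mem_compl_iff]
  by_cases h : χ ∈ B <;> simp [h]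

theorem idem_union {B C : Set (Cfsg.IrrCharacter G)} (h : Disjoint B C) :
    idem (B ∪ C) = idem B + idem C := by
  classical
  refine eq_of_om (isC_idem _) ((isC_idem _).add (isC_idem _)) fun χ => ?_
  simp only [om_idem, om_add, Set.mem_union]
  by_cases h1 : χ ∈ B
  · simp [h1, Set.disjoint_left.1 h h1]
  · simp [h1]

end Char

end Cfsg.Agent.BrauerBlocksCentral
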