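import Mathlib
import Cfsg.Prelude.Def_Blocks
import Cfsg.Agent.Lib.BrauerBlocksCentral

/-!
# The block partition and the local integrality of block idempotents
-/

set_option autoImplicit false

open scoped ComplexConjugate

namespace Cfsg.Agent.BrauerBlocksBasic

open Cfsg.Agent.BrauerBlocksVal Cfsg.Agent.CharBasic Cfsg.Agent.CharBasicOrth
  Cfsg.Agent.BrauerBlocksCentral

universe u

variable {G : Type u} [Group G] [Fintype G] {p : ℕ} {M : Ideal AlgInt}

/-- All coefficients are local integers. -/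
def IntA (M : Ideal AlgInt) (x : A G) : Prop := ∀ g : G, Int' M (x.coeff g)

/-- All coefficients are in the maximal ideal. -/
def SmA (M : Ideal AlgInt) (x : A G) : Prop := ∀ g : G, Sm M (x.coeff g)

/-- All coefficients are algebraic. -/
def AlgA (x : A G) : Prop := ∀ g : G, x.coeff g ∈ AlgNum

/-- A central element with algebraic locally integral coefficients. -/
structure ZR (M : Ideal AlgInt) (x : A G) : Prop where
  isC : IsC x
  int : IntA M x
  alg : AlgA x

omit [Fintype G] in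
theorem SmA.intA {x : A G} (h : SmA M x) : IntA M x := fun g => (h g).int'

omit [Fintype G] in
theorem zr_zero : ZR M (0 : A G) :=
  ⟨isC_zero, fun g => by simpa using int'_zero, fun g => by simp⟩

omit [Fintype G] in
theorem zr_one : ZR M (1 : A G) := by
  classical
  refine ⟨isC_one, fun g => ?_, fun g => ?_⟩ <;> rw [coeff_one] <;> split_ifs
  exacts [int'_one, int'_zero, one_mem _, zero_mem _]

omit [Fintype G] in
theorem ZR.add {x y : A G} (hx : ZR M x) (hy : ZR M y) : ZR M (x + y) :=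
  ⟨hx.isC.add hy.isC, fun g => by simpa using (hx.int g).add (hy.int g),
    fun g => by simpa using add_mem (hx.alg g) (hy.alg g)⟩

omit [Fintype G] in
theorem ZR.sub {x y : A G} (hx : ZR M x) (hy : ZR M y) : ZR M (x - y) :=
  ⟨hx.isC.sub hy.isC, fun g => by simpa using (hx.int g).sub (hy.int g),
    fun g => by simpa using sub_mem (hx.alg g) (hy.alg g)⟩

omit [Fintype G] in
theorem ZR.smul {x : A G} (hx : ZR M x) {c : ℂ} (hc : Int' M c) (hc' : c ∈ AlgNum) :
    ZR M (c • x) :=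
  ⟨hx.isC.smul c, fun g => by simpa using hc.mul (hx.int g),
    fun g => by simpa using mul_mem hc' (hx.alg g)⟩

omit [Fintype G] in
theorem zr_sum {ι : Type*} (s : Finset ι) {f : ι → A G} (h : ∀ i ∈ s, ZR M (f i)) :
    ZR M (∑ i ∈ s, f i) :=
  Finset.sum_induction _ (ZR M) (fun _ _ => ZR.add) zr_zero h

theorem IntA.mul {x y : A G} (hx : IntA M x) (hy : IntA M y) : IntA M (x * y) := fun g => by
  rw [mul_coeff]; exact int'_sum _ fun h _ => (hx h).mul (hy _)

theorem SmA.mul_left {x y : A G} (hx : IntA M x) (hy : SmA M y) : SmA M (x * y) := fun g => by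
  rw [mul_coeff]; exact sm_sum _ fun h _ => (hy _).mul_left (hx h)

theorem SmA.mul_right {x y : A G} (hx : SmA M x) (hy : IntA M y) : SmA M (x * y) := fun g => by
  rw [mul_coeff]; exact sm_sum _ fun h _ => (hx h).mul_right (hy _)

theorem AlgA.mul {x y : A G} (hx : AlgA x) (hy : AlgA y) : AlgA (x * y) := fun g => by
  rw [mul_coeff]; exact sum_mem fun h _ => mul_mem (hx h) (hy _)

theorem ZR.mul {x y : A G} (hx : ZR M x) (hy : ZR M y) : ZR M (x * y) :=
  ⟨hx.isC.mul hy.isC, hx.int.mul hy.int, hx.alg.mul hy.alg⟩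

theorem ZR.pow {x : A G} (hx : ZR M x) : ∀ n : ℕ, ZR M (x ^ n)
  | 0 => by simpa using zr_one
  | n + 1 => by rw [pow_succ]; exact (hx.pow n).mul hx

theorem zr_classSum (g : G) : ZR M (classSum g) := by
  classical
  refine ⟨isC_classSum g, fun h => ?_, fun h => ?_⟩ <;> rw [coeff_classSum] <;> split_ifs
  exacts [int'_one, int'_zero, one_mem _, zero_mem _]

/-! ### Central character values of integral central elements -/

theorem om_int (hM : IsPModular p M) (χ : Cfsg.IrrCharacter G) {x : A G} (hC : IsC x)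
    (hx : IntA M x) : Int' M (om (χ : G → ℂ) x) := by
  have := Fintype.ofFinite (ConjClasses G)
  rw [om_eq_sum_classes (classFun_irr χ) hC]
  exact int'_sum _ fun C _ => (hx _).mul (int'_centralChar hM χ _)

theorem om_sm (hM : IsPModular p M) (χ : Cfsg.IrrCharacter G) {x : A G} (hC : IsC x)
    (hx : SmA M x) : Sm M (om (χ : G → ℂ) x) := by
  have := Fintype.ofFinite (ConjClasses G)
  rw [om_eq_sum_classes (classFun_irr χ) hC]
  exact sm_sum _ fun C _ => (hx _).mul_right (int'_centralChar hM χ _)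

theorem om_alg (χ : Cfsg.IrrCharacter G) {x : A G} (hx : AlgA x) :
    om (χ : G → ℂ) x ∈ AlgNum :=
  div_mem (sum_mem fun g _ => mul_mem (hx g) (algNum_irr χ g)) (algNum_irr χ 1)

theorem sameBlock_iff (hM : IsPModular p M) (χ ψ : Cfsg.IrrCharacter G) :
    SameBlock M (χ : G → ℂ) (ψ : G → ℂ) ↔
      ∀ g : G, Sm M (centralChar (χ : G → ℂ) g - centralChar (ψ : G → ℂ) g) :=
  forall_congr' fun g =>
    memLocalIdeal_iff hM (sub_mem (algNum_centralChar χ g) (algNum_centralChar ψ g))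

theorem om_sub_sm (hM : IsPModular p M) {χ ψ : Cfsg.IrrCharacter G}
    (h : SameBlock M (χ : G → ℂ) (ψ : G → ℂ)) {x : A G} (hC : IsC x) (hx : IntA M x) :
    Sm M (om (χ : G → ℂ) x - om (ψ : G → ℂ) x) := by
  have := Fintype.ofFinite (ConjClasses G)
  rw [om_eq_sum_classes (classFun_irr χ) hC, om_eq_sum_classes (classFun_irr ψ) hC,
    ← Finset.sum_sub_distrib]
  refine sm_sum _ fun C _ => ?_
  rw [← mul_sub]
  exact ((sameBlock_iff hM χ ψ).1 h _).mul_left (hx _)

/-! ### The block partition -/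

theorem sameBlock_refl (hM : IsPModular p M) (χ : G → ℂ) : SameBlock M χ χ := fun g =>
  ⟨0, 1, M.zero_mem, fun h => hM.2.1.ne_top ((Ideal.eq_top_iff_one M).2 h), by simp⟩

theorem sameBlock_symm (hM : IsPModular p M) {χ ψ : Cfsg.IrrCharacter G}
    (h : SameBlock M (χ : G → ℂ) (ψ : G → ℂ)) : SameBlock M (ψ : G → ℂ) (χ : G → ℂ) := by
  rw [sameBlock_iff hM] at h ⊢
  exact fun g => sm_sub_comm.1 (h g)

theorem sameBlock_trans (hM : IsPModular p M) {χ ψ φ : Cfsg.IrrCharacter G}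
    (h : SameBlock M (χ : G → ℂ) (ψ : G → ℂ)) (k : SameBlock M (ψ : G → ℂ) (φ : G → ℂ)) :
    SameBlock M (χ : G → ℂ) (φ : G → ℂ) := by
  rw [sameBlock_iff hM] at h k ⊢
  exact fun g => (h g).trans (k g)

theorem mem_blockOf_self (hM : IsPModular p M) (χ : Cfsg.IrrCharacter G) :
    χ ∈ blockOf M (χ : G → ℂ) := sameBlock_refl hM _

theorem isPBlock_blockOf (χ : Cfsg.IrrCharacter G) : IsPBlock M (blockOf M (χ : G → ℂ)) :=
  ⟨χ, rfl⟩

theorem blockOf_eq_of_mem (hM : IsPModular p M) {χ ψ : Cfsg.IrrCharacter G}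
    (h : ψ ∈ blockOf M (χ : G → ℂ)) : blockOf M (ψ : G → ℂ) = blockOf M (χ : G → ℂ) :=
  Set.ext fun _ => ⟨fun k => sameBlock_trans hM h k,
    fun k => sameBlock_trans hM (sameBlock_symm hM h) k⟩

theorem block_eq_blockOf (hM : IsPModular p M) {B : Set (Cfsg.IrrCharacter G)}
    (hB : IsPBlock M B) {χ : Cfsg.IrrCharacter G} (hχ : χ ∈ B) :
    B = blockOf M (χ : G → ℂ) := by
  obtain ⟨ψ, rfl⟩ := hB
  exact (blockOf_eq_of_mem hM hχ).symm

theorem block_nonempty (hM : IsPModular p M) {B : Set (Cfsg.IrrCharacter G)}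
    (hB : IsPBlock M B) : B.Nonempty := by
  obtain ⟨ψ, rfl⟩ := hB; exact ⟨ψ, mem_blockOf_self hM ψ⟩

theorem block_sameBlock (hM : IsPModular p M) {B : Set (Cfsg.IrrCharacter G)}
    (hB : IsPBlock M B) {χ ψ : Cfsg.IrrCharacter G} (hχ : χ ∈ B) (hψ : ψ ∈ B) :
    SameBlock M (χ : G → ℂ) (ψ : G → ℂ) := by
  rw [block_eq_blockOf hM hB hχ] at hψ; exact hψ

theorem block_eq_of_mem_mem (hM : IsPModular p M) {B C : Set (Cfsg.IrrCharacter G)}
    (hB : IsPBlock M B) (hC : IsPBlock M C) {χ : Cfsg.IrrCharacter G} (h : χ ∈ B) (k : χ ∈ C) :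
    B = C := (block_eq_blockOf hM hB h).trans (block_eq_blockOf hM hC k).symm

theorem block_disjoint (hM : IsPModular p M) {B C : Set (Cfsg.IrrCharacter G)}
    (hB : IsPBlock M B) (hC : IsPBlock M C) (h : B ≠ C) : Disjoint B C :=
  Set.disjoint_left.2 fun _ h1 h2 => h (block_eq_of_mem_mem hM hB hC h1 h2)

theorem om_block_sub_sm (hM : IsPModular p M) {B : Set (Cfsg.IrrCharacter G)}
    (hB : IsPBlock M B) {χ ψ : Cfsg.IrrCharacter G} (hχ : χ ∈ B) (hψ : ψ ∈ B) {x : A G}
    (hx : ZR M x) : Sm M (om (χ : G → ℂ) x - om (ψ : G → ℂ) x) :=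
  om_sub_sm hM (block_sameBlock hM hB hχ hψ) hx.isC hx.int

/-! ### Arithmetic with the group order -/

theorem div_card_sm (hM : IsPModular p M) {r : ℂ} (hr : Int' M r) :
    Sm M ((p : ℂ) ^ ((Nat.card G).factorization p + 1) * r / (Nat.card G : ℂ)) := by
  set a := (Nat.card G).factorization p with ha
  have hn : Nat.card G ≠ 0 := Nat.card_pos.ne'
  have hm : ¬ p ∣ Nat.card G / p ^ a := Nat.not_dvd_ordCompl hM.1 hn
  have heq : (Nat.card G : ℂ) = (p : ℂ) ^ a * ((Nat.card G / p ^ a : ℕ) : ℂ) := by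
    exact_mod_cast (Nat.ordProj_mul_ordCompl_eq_self (Nat.card G) p).symm
  have hp : (p : ℂ) ^ a ≠ 0 := pow_ne_zero _ (Nat.cast_ne_zero.2 hM.1.ne_zero)
  rw [heq, show (p : ℂ) ^ (a + 1) * r / ((p : ℂ) ^ a * ((Nat.card G / p ^ a : ℕ) : ℂ)) =
      (p : ℂ) * (r * ((Nat.card G / p ^ a : ℕ) : ℂ)⁻¹) by
    rw [pow_succ, mul_assoc ((p : ℂ) ^ a), mul_div_mul_left _ _ hp]; ring]
  exact (sm_p hM).mul_right (hr.mul (int'_inv_natCast hM hm))

theorem ofVals_sm (hM : IsPModular p M) {f : Cfsg.IrrCharacter G → ℂ}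
    (h : ∀ χ, ∃ r, Int' M r ∧ f χ = (p : ℂ) ^ ((Nat.card G).factorization p + 1) * r) :
    SmA M (ofVals f) := by
  intro g
  rw [coeff_ofVals, Finset.mul_sum]
  refine sm_sum _ fun χ _ => ?_
  obtain ⟨r, hr, hrf⟩ := h χ
  rw [← mul_assoc, inv_mul_eq_div, hrf]
  exact (div_card_sm hM hr).mul_right ((int'_of_isIntegral hM (isIntegral_irr χ 1)).mul
    (int'_of_isIntegral hM (isIntegral_conj (isIntegral_irr χ g))))

theorem exists_uniform_pow (hM : IsPModular p M) {ι : Type*} [Finite ι] (d : ι → ℂ)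
    (hd : ∀ i, d i ∈ AlgNum) (a : ℕ) : ∃ N : ℕ, 0 < N ∧
      ∀ i, Sm M (d i) → ∃ r, Int' M r ∧ d i ^ N = (p : ℂ) ^ a * r := by
  classical
  have := Fintype.ofFinite ι
  have h : ∀ i, ∃ N : ℕ, Sm M (d i) → ∀ n ≥ N, ∃ r, Int' M r ∧ d i ^ n = (p : ℂ) ^ a * r := by
    intro i
    by_cases hi : Sm M (d i)
    · obtain ⟨N, hN⟩ := exists_pow_eq_pPow_mul hM (hd i) hi a
      exact ⟨N, fun _ => hN⟩
    · exact ⟨0, fun h => absurd h hi⟩
  choose N hN using h
  exact ⟨Finset.univ.sup N + 1, Nat.succ_pos _, fun i hi => hN i hi _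
    (le_trans (Finset.le_sup (f := N) (Finset.mem_univ i)) (Nat.le_succ _))⟩

/-- If a central integral element has central character values congruent to the indicator of a
set of characters, the idempotent of the set is a multiple of it up to small coefficients. -/
theorem idem_approx (hM : IsPModular p M) (S : Set (Cfsg.IrrCharacter G)) {z : A G}
    (hz : ZR M z) (h1 : ∀ χ ∈ S, Sm M (om (χ : G → ℂ) z - 1))
    (h0 : ∀ χ ∉ S, Sm M (om (χ : G → ℂ) z)) :
    ∃ w : A G, ZR M w ∧ SmA M (idem S - z * w) := by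
  classical
  set a := (Nat.card G).factorization p + 1 with ha
  obtain ⟨N, hN, hNr⟩ := exists_uniform_pow hM (fun χ : Cfsg.IrrCharacter G => om (χ : G → ℂ) z)
    (fun χ => om_alg χ hz.alg) a
  have hy : ZR M (z ^ N) := hz.pow N
  have hy1 : ZR M (1 - z ^ N) := zr_one.sub hy
  obtain ⟨K, -, hKr⟩ := exists_uniform_pow hM
    (fun χ : Cfsg.IrrCharacter G => om (χ : G → ℂ) (1 - z ^ N))
    (fun χ => om_alg χ hy1.alg) a
  set w : A G := z ^ (N - 1) * ∑ i ∈ Finset.range K, (1 - z ^ N) ^ i with hw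
  have hwz : ZR M w := (hz.pow _).mul (zr_sum _ fun i _ => hy1.pow i)
  have hzw : z * w = 1 - (1 - z ^ N) ^ K := by
    rw [hw, ← mul_assoc, ← pow_succ', Nat.sub_add_cancel hN]
    have := mul_neg_geom_sum (1 - z ^ N) K
    rwa [sub_sub_cancel] at this
  refine ⟨w, hwz, ?_⟩
  have hC : IsC (idem S - z * w) := (isC_idem S).sub (hz.mul hwz).isC
  rw [← ofVals_om hC]
  refine ofVals_sm hM fun χ => ?_
  rw [om_sub, om_idem]
  by_cases hχ : χ ∈ S
  · rw [if_pos hχ, hzw, om_sub, om_one χ.2, om_pow χ.2 hy1.isC]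
    have hs : Sm M (om (χ : G → ℂ) (1 - z ^ N)) := by
      rw [om_sub, om_one χ.2, om_pow χ.2 hz.isC, sm_sub_comm]
      simpa using sm_pow_sub_pow (om_int hM χ hz.isC hz.int) int'_one (h1 χ hχ) N
    obtain ⟨r, hr, hrf⟩ := hKr χ hs
    exact ⟨r, hr, by rw [sub_sub_cancel]; exact hrf⟩
  · rw [if_neg hχ, hw, om_mul χ.2 hz.isC, om_mul χ.2 (hz.pow _).isC, om_pow χ.2 hz.isC,
      ← mul_assoc, ← pow_succ', Nat.sub_add_cancel hN]
    obtain ⟨r, hr, hrf⟩ := hNr χ (h0 χ hχ)
    refine ⟨-(r * om (χ : G → ℂ) (∑ i ∈ Finset.range K, (1 - z ^ N) ^ i)),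
      (hr.mul ?_).neg, ?_⟩
    · exact om_int hM χ (zr_sum _ fun i _ => hy1.pow i).isC (zr_sum _ fun i _ => hy1.pow i).int
    · rw [hrf]; ring

theorem algA_idem (S : Set (Cfsg.IrrCharacter G)) : AlgA (idem S) := by
  classical
  intro g
  rw [idem, coeff_ofVals]
  refine mul_mem (inv_mem (algNum_natCast _)) (sum_mem fun χ _ => mul_mem ?_ (mul_mem
    (algNum_irr χ 1) (algNum_of_isIntegral (isIntegral_conj (isIntegral_irr χ g)))))
  split_ifs
  exacts [one_mem _, zero_mem _]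

theorem zr_idem_of_approx (hM : IsPModular p M) (S : Set (Cfsg.IrrCharacter G)) {z : A G}
    (hz : ZR M z) (h1 : ∀ χ ∈ S, Sm M (om (χ : G → ℂ) z - 1))
    (h0 : ∀ χ ∉ S, Sm M (om (χ : G → ℂ) z)) : ZR M (idem S) := by
  obtain ⟨w, hw, hd⟩ := idem_approx hM S hz h1 h0
  refine ⟨isC_idem S, fun g => ?_, algA_idem S⟩
  have := (hd g).int'.add ((hz.mul hw).int g)
  simpa using this

/-! ### Separation -/

/-- Linear forms given by `f` which are algebra homomorphisms modulo the maximal ideal. -/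
structure PreHom (M : Ideal AlgInt) (f : G → ℂ) : Prop where
  int : ∀ x : A G, ZR M x → Int' M (tr f x)
  alg : ∀ g, f g ∈ AlgNum
  one : Sm M (tr f (1 : A G) - 1)
  mul : ∀ x y : A G, ZR M x → ZR M y → Sm M (tr f (x * y) - tr f x * tr f y)

theorem preHom_irr (hM : IsPModular p M) (χ : Cfsg.IrrCharacter G) :
    PreHom M (fun g => (χ : G → ℂ) g / (χ : G → ℂ) 1) := by
  have h : ∀ x : A G, tr (fun g => (χ : G → ℂ) g / (χ : G → ℂ) 1) x = om (χ : G → ℂ) x := fun x => by
    simp only [tr, om, Finset.sum_div, mul_div_assoc]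
  refine ⟨fun x hx => ?_, fun g => div_mem (algNum_irr χ g) (algNum_irr χ 1), ?_, ?_⟩
  · rw [h]; exact om_int hM χ hx.isC hx.int
  · rw [h, om_one χ.2, sub_self]; exact sm_zero
  · intro x y hx _
    rw [h, h, h, om_mul χ.2 hx.isC, sub_self]; exact sm_zero

omit [Fintype G] in
theorem algNum_tr_aux [Fintype G] {f : G → ℂ} (hf : ∀ g, f g ∈ AlgNum) {x : A G} (hx : AlgA x) :
    tr f x ∈ AlgNum := sum_mem fun g _ => mul_mem (hx g) (hf g)

theorem exists_sep (hM : IsPModular p M) {f : G → ℂ} (hf : PreHom M f)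
    (S : Finset (Cfsg.IrrCharacter G))
    (hS : ∀ ψ ∈ S, ∃ z : A G, ZR M z ∧ ¬ Sm M (tr f z - om (ψ : G → ℂ) z)) :
    ∃ z : A G, ZR M z ∧ Sm M (tr f z - 1) ∧ ∀ ψ ∈ S, om (ψ : G → ℂ) z = 0 := by
  classical
  induction S using Finset.induction with
  | empty => exact ⟨1, zr_one, hf.one, by simp⟩
  | insert ψ S _ ih =>
    obtain ⟨y, hy, hy1, hy0⟩ := ih fun φ hφ => hS φ (Finset.mem_insert_of_mem hφ)
    obtain ⟨z, hz, hne⟩ := hS ψ (Finset.mem_insert_self _ _)
    set c := om (ψ : G → ℂ) z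
    set d := tr f z - c with hd
    have hcI : Int' M c := om_int hM ψ hz.isC hz.int
    have hcA : c ∈ AlgNum := om_alg ψ hz.alg
    have hdI : Int' M d⁻¹ := int'_inv ((hf.int z hz).sub hcI) hne
    have hdA : d⁻¹ ∈ AlgNum := inv_mem (sub_mem (algNum_tr_aux hf.alg hz.alg) hcA)
    set x : A G := d⁻¹ • (z - c • (1 : A G)) with hx
    have hxz : ZR M x := (hz.sub (zr_one.smul hcI hcA)).smul hdI hdA
    have hx1 : Sm M (tr f x - 1) := by
      rw [hx, tr_smul, tr_sub, tr_smul]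
      have h1 : d⁻¹ * (tr f z - c * tr f 1) - 1 = -(d⁻¹ * c) * (tr f 1 - 1) := by
        have : d ≠ 0 := ne_zero_of_not_sm hne
        field_simp
        rw [hd]
        ring
      rw [h1]
      exact hf.one.mul_left (hdI.mul hcI).neg
    have hx0 : om (ψ : G → ℂ) x = 0 := by
      rw [hx, om_smul, om_sub, om_smul, om_one ψ.2, mul_one, sub_self, mul_zero]
    refine ⟨x * y, hxz.mul hy, ?_, ?_⟩
    · have h2 := sm_mul_sub_mul (hf.int x hxz) int'_one hx1 hy1
      rw [mul_one] at h2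
      simpa using (hf.mul x y hxz hy).trans h2
    · intro φ hφ
      rw [om_mul φ.2 hxz.isC]
      rcases Finset.mem_insert.1 hφ with rfl | hφ
      · rw [hx0, zero_mul]
      · rw [hy0 φ hφ, mul_zero]

/-- Every homomorphism modulo the maximal ideal is the reduction of some central character. -/
theorem exists_om_congr (hM : IsPModular p M) {f : G → ℂ} (hf : PreHom M f) :
    ∃ χ : Cfsg.IrrCharacter G, ∀ z : A G, ZR M z → Sm M (tr f z - om (χ : G → ℂ) z) := by
  by_contra hc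
  push Not at hc
  obtain ⟨z, hz, h1, h0⟩ := exists_sep hM hf Finset.univ fun ψ _ => hc ψ
  have hz0 : z = 0 := eq_of_om hz.isC isC_zero fun χ => by
    rw [h0 χ (Finset.mem_univ _), om_zero]
  rw [hz0, tr_zero, zero_sub, sm_neg_iff] at h1
  exact not_sm_one h1

theorem exists_block_sep (hM : IsPModular p M) {B : Set (Cfsg.IrrCharacter G)}
    (hB : IsPBlock M B) : ∃ z : A G, ZR M z ∧ (∀ χ ∈ B, Sm M (om (χ : G → ℂ) z - 1)) ∧
      ∀ χ ∉ B, Sm M (om (χ : G → ℂ) z) := by
  classical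
  obtain ⟨χ, hχ⟩ := block_nonempty hM hB
  have h : ∀ x : A G, tr (fun g => (χ : G → ℂ) g / (χ : G → ℂ) 1) x = om (χ : G → ℂ) x := fun x => by
    simp only [tr, om, Finset.sum_div, mul_div_assoc]
  obtain ⟨z, hz, h1, h0⟩ := exists_sep hM (preHom_irr hM χ)
    (Finset.univ.filter fun ψ => ψ ∉ B) fun ψ hψ => by
      have hψ' : ψ ∉ B := (Finset.mem_filter.1 hψ).2
      have hne : ¬ SameBlock M (χ : G → ℂ) (ψ : G → ℂ) := fun hs => hψ' (by
        rw [block_eq_blockOf hM hB hχ]; exact hs)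
      rw [sameBlock_iff hM] at hne
      push Not at hne
      obtain ⟨g, hg⟩ := hne
      refine ⟨classSum g, zr_classSum g, ?_⟩
      rwa [h, om_classSum (classFun_irr χ), om_classSum (classFun_irr ψ)]
  rw [h] at h1
  refine ⟨z, hz, fun φ hφ => (om_block_sub_sm hM hB hφ hχ hz).trans h1, fun φ hφ => ?_⟩
  rw [h0 φ (Finset.mem_filter.2 ⟨Finset.mem_univ _, hφ⟩)]
  exact sm_zero

/-- The idempotent of a block is locally integral. -/
theorem zr_idem (hM : IsPModular p M) {B : Set (Cfsg.IrrCharacter G)} (hB : IsPBlock M B) :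
    ZR M (idem B) := by
  obtain ⟨z, hz, h1, h0⟩ := exists_block_sep hM hB
  exact zr_idem_of_approx hM B hz h1 h0

theorem int'_blockCoeff (hM : IsPModular p M) {B : Set (Cfsg.IrrCharacter G)}
    (hB : IsPBlock M B) (g : G) : Int' M (blockCoeff B g) := by
  rw [← coeff_idem]; exact (zr_idem hM hB).int g

theorem algNum_blockCoeff (B : Set (Cfsg.IrrCharacter G)) (g : G) :
    blockCoeff B g ∈ AlgNum := by
  rw [← coeff_idem]; exact algA_idem B g

theorem memLocalRing_blockCoeff (hM : IsPModular p M) {B : Set (Cfsg.IrrCharacter G)}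
    (hB : IsPBlock M B) (g : G) : MemLocalRing M (blockCoeff B g) :=
  (memLocalRing_iff hM (algNum_blockCoeff B g)).2 (int'_blockCoeff hM hB g)

/-- A set of characters whose idempotent is locally integral is a union of blocks. -/
theorem union_of_blocks (hM : IsPModular p M) {S : Set (Cfsg.IrrCharacter G)}
    (hS : IntA M (idem S)) {χ ψ : Cfsg.IrrCharacter G}
    (h : SameBlock M (χ : G → ℂ) (ψ : G → ℂ)) (hχ : χ ∈ S) : ψ ∈ S := by
  classical
  by_contra hψ
  have h1 := om_sub_sm hM h (isC_idem S) hS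
  rw [om_idem, om_idem, if_pos hχ, if_neg hψ, sub_zero] at h1
  exact not_sm_one h1

/-- An idempotent central element is the idempotent of its support. -/
theorem eq_idem_of_idempotent {e : A G} (hC : IsC e) (he : e * e = e) :
    e = idem {χ : Cfsg.IrrCharacter G | om (χ : G → ℂ) e = 1} := by
  classical
  refine eq_of_om hC (isC_idem _) fun χ => ?_
  rw [om_idem]
  have h : om (χ : G → ℂ) e * om (χ : G → ℂ) e = om (χ : G → ℂ) e := by rw [← om_mul χ.2 hC, he]
  rcases eq_or_ne (om (χ : G → ℂ) e) 0 with h0 | h0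
  · rw [if_neg]
    · exact h0
    · simp [h0]
  · have h1 : om (χ : G → ℂ) e = 1 := mul_left_cancel₀ h0 (by rw [h, mul_one])
    rw [if_pos (show χ ∈ {χ : Cfsg.IrrCharacter G | om (χ : G → ℂ) e = 1} from h1), h1]

/-- A small central idempotent vanishes. -/
theorem eq_zero_of_idempotent_sm (hM : IsPModular p M) {e : A G} (hC : IsC e)
    (he : e * e = e) (hs : SmA M e) : e = 0 := by
  rw [eq_idem_of_idempotent hC he]
  have h0 : {χ : Cfsg.IrrCharacter G | om (χ : G → ℂ) e = 1} = ∅ := by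
    refine Set.eq_empty_of_forall_notMem fun χ hχ => ?_
    have := om_sm hM χ hC hs
    rw [show om (χ : G → ℂ) e = 1 from hχ] at this
    exact not_sm_one this
  rw [h0, idem_empty]

theorem idem_not_smA (hM : IsPModular p M) {B : Set (Cfsg.IrrCharacter G)}
    (hB : IsPBlock M B) : ¬ SmA M (idem B) := by
  classical
  intro hs
  obtain ⟨χ, hχ⟩ := block_nonempty hM hB
  have := om_sm hM χ (isC_idem B) hs
  rw [om_idem, if_pos hχ] at this
  exact not_sm_one this

/-- A central integral element with all central character values small is nilpotent modulo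
the maximal ideal. -/
theorem exists_pow_smA (hM : IsPModular p M) {z : A G} (hz : ZR M z)
    (h : ∀ χ : Cfsg.IrrCharacter G, Sm M (om (χ : G → ℂ) z)) :
    ∃ N : ℕ, 0 < N ∧ SmA M (z ^ N) := by
  obtain ⟨N, hN, hNr⟩ := exists_uniform_pow hM (fun χ : Cfsg.IrrCharacter G => om (χ : G → ℂ) z)
    (fun χ => om_alg χ hz.alg) ((Nat.card G).factorization p + 1)
  refine ⟨N, hN, ?_⟩
  rw [← ofVals_om (hz.pow N).isC]
  refine ofVals_sm hM fun χ => ?_
  rw [om_pow χ.2 hz.isC]
  exact hNr χ (h χ)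

end Cfsg.Agent.BrauerBlocksBasic
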