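import Mathlib
import Cfsg.Prelude.Def_Blocks

/-!
# The `p`-part of an element
-/

set_option autoImplicit false

namespace Cfsg.Agent.BrauerBlocksPPart

variable {G : Type*} [Group G] {p : ℕ}

/-- The element is of `p`-power order. -/
def IsPEl (p : ℕ) (x : G) : Prop := ∃ k : ℕ, orderOf x = p ^ k

theorem isPEl_one : IsPEl p (1 : G) := ⟨0, by simp⟩

theorem IsPEl.pow_eq_one {x : G} (h : IsPEl p x) : ∃ k : ℕ, x ^ p ^ k = 1 := by
  obtain ⟨k, hk⟩ := h; exact ⟨k, hk ▸ pow_orderOf_eq_one x⟩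

theorem isPEl_of_pow_eq_one (hp : p.Prime) {x : G} {k : ℕ} (h : x ^ p ^ k = 1) : IsPEl p x := by
  obtain ⟨j, -, hj⟩ := (Nat.dvd_prime_pow hp).1 (orderOf_dvd_of_pow_eq_one h)
  exact ⟨j, hj⟩

theorem isPEl_of_mem [Finite G] [Fact p.Prime] {P : Subgroup G} (hP : IsPGroup p P) {x : G}
    (hx : x ∈ P) : IsPEl p x := by
  obtain ⟨k, hk⟩ := hP ⟨x, hx⟩
  exact isPEl_of_pow_eq_one (k := k) (Fact.out : p.Prime) (by simpa using congrArg Subtype.val hk)

theorem isPPart_self (hp : p.Prime) {x : G} (hx : IsPEl p x) : Cfsg.IsPPart p x x :=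
  ⟨1, mul_one x, Commute.one_right x, hx, by simp [hp.ne_one]⟩

theorem isPPart_of_regular (hp : p.Prime) {g : G} (hg : ¬ p ∣ orderOf g) :
    Cfsg.IsPPart p g 1 :=
  ⟨g, one_mul g, Commute.one_left g, isPEl_one, hg⟩

theorem isPPart_mul {x y : G} (hc : Commute x y) (hx : IsPEl p x) (hy : ¬ p ∣ orderOf y) :
    Cfsg.IsPPart p (x * y) x :=
  ⟨y, rfl, hc, hx, hy⟩

/-- A common exponent producing the `p`-part. -/
theorem exists_pow_of_isPPart (hp : p.Prime) [Finite G] {g x : G} (h : Cfsg.IsPPart p g x) :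
    ∃ t : ℕ, g ^ t = x := by
  obtain ⟨y, rfl, hc, ⟨k, hk⟩, hy⟩ := h
  have hcop : Nat.Coprime (p ^ k) (orderOf y) :=
    Nat.Coprime.pow_left _ ((hp.coprime_iff_not_dvd).2 hy)
  obtain ⟨t, ht1, ht2⟩ := Nat.chineseRemainder hcop 1 0
  refine ⟨t, ?_⟩
  have e1 : x ^ t = x := by
    rw [← pow_mod_orderOf, hk, show t % p ^ k = 1 % p ^ k from ht1, ← hk, pow_mod_orderOf, pow_one]
  have e2 : y ^ t = 1 := orderOf_dvd_iff_pow_eq_one.1 (Nat.modEq_zero_iff_dvd.1 ht2)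
  rw [hc.mul_pow, e1, e2, mul_one]

theorem isPPart_unique (hp : p.Prime) [Finite G] {g x x' : G} (h : Cfsg.IsPPart p g x)
    (h' : Cfsg.IsPPart p g x') : x = x' := by
  obtain ⟨t, rfl⟩ := exists_pow_of_isPPart hp h
  obtain ⟨s, rfl⟩ := exists_pow_of_isPPart hp h'
  obtain ⟨y, hy, -, hx, hyr⟩ := h
  obtain ⟨y', hy', -, hx', hyr'⟩ := h'
  have eyy : (g ^ s)⁻¹ * g ^ t = y' * y⁻¹ := by
    have h1 : g ^ s = g * y'⁻¹ := eq_mul_inv_of_mul_eq hy'
    have h2 : g ^ t = g * y⁻¹ := eq_mul_inv_of_mul_eq hy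
    rw [h1, h2]; group
  obtain ⟨a, ha⟩ := IsPEl.pow_eq_one hx
  obtain ⟨b, hb⟩ := IsPEl.pow_eq_one hx'
  have hd1 : orderOf ((g ^ s)⁻¹ * g ^ t) ∣ p ^ (a + b) := by
    refine orderOf_dvd_of_pow_eq_one ?_
    rw [Commute.mul_pow ((((Commute.refl g).pow_left s).pow_right t).inv_left), inv_pow,
      pow_add]
    have e1 : (g ^ t) ^ (p ^ a * p ^ b) = 1 := by rw [pow_mul, ha, one_pow]
    have e2 : (g ^ s) ^ (p ^ a * p ^ b) = 1 := by rw [mul_comm, pow_mul, hb, one_pow]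
    rw [e1, e2, inv_one, mul_one]
  have hd2 : orderOf ((g ^ s)⁻¹ * g ^ t) ∣ orderOf y' * orderOf y := by
    rw [eyy]
    have hyg : Commute y g := by
      have : y = (g ^ t)⁻¹ * g := eq_inv_mul_of_mul_eq hy
      rw [this]; exact (((Commute.refl g).pow_left t).inv_left).mul_left (Commute.refl g)
    have hyg' : Commute y' y := by
      have : y' = (g ^ s)⁻¹ * g := eq_inv_mul_of_mul_eq hy'
      rw [this]; exact ((hyg.pow_right s).inv_right.symm).mul_left hyg.symm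
    have h3 := hyg'.inv_right.orderOf_mul_dvd_lcm
    rw [orderOf_inv] at h3
    exact h3.trans (Nat.lcm_dvd_mul _ _)
  have hcop : Nat.Coprime (p ^ (a + b)) (orderOf y' * orderOf y) :=
    Nat.Coprime.pow_left _ ((hp.coprime_iff_not_dvd).2 fun hd =>
      (hp.dvd_mul.1 hd).elim hyr' hyr)
  have h1 := Nat.eq_one_of_dvd_coprimes hcop hd1 hd2
  rw [orderOf_eq_one_iff, inv_mul_eq_one] at h1
  exact h1.symm

theorem exists_isPPart (hp : p.Prime) [Finite G] (g : G) : ∃ x, Cfsg.IsPPart p g x := by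
  have hn : orderOf g ≠ 0 := (orderOf_pos g).ne'
  set a := p ^ (orderOf g).factorization p with ha
  set b := orderOf g / a with hb
  have hab : a * b = orderOf g := Nat.ordProj_mul_ordCompl_eq_self _ _
  have hcop : Nat.Coprime a b :=
    Nat.Coprime.pow_left _ ((hp.coprime_iff_not_dvd).2 (Nat.not_dvd_ordCompl hp hn))
  obtain ⟨t, ht1, ht2⟩ := Nat.chineseRemainder hcop 1 0
  obtain ⟨s, hs1, hs2⟩ := Nat.chineseRemainder hcop 0 1
  refine ⟨g ^ t, g ^ s, ?_, ((Commute.refl g).pow_left _).pow_right _, ?_, ?_⟩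
  · rw [← pow_add]
    have hm : t + s ≡ 1 [MOD orderOf g] := by
      rw [← hab, ← Nat.modEq_and_modEq_iff_modEq_mul hcop]
      exact ⟨by simpa using ht1.add hs1, by simpa using ht2.add hs2⟩
    rw [(pow_eq_pow_iff_modEq).2 hm, pow_one]
  · refine isPEl_of_pow_eq_one hp (k := (orderOf g).factorization p) ?_
    rw [← pow_mul, ← ha, ← orderOf_dvd_iff_pow_eq_one, ← hab, mul_comm a b]
    exact Nat.mul_dvd_mul_right (Nat.modEq_zero_iff_dvd.1 ht2) a
  · intro hd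
    have h1 : orderOf (g ^ s) ∣ b := by
      refine orderOf_dvd_of_pow_eq_one ?_
      rw [← pow_mul, ← orderOf_dvd_iff_pow_eq_one, ← hab]
      exact Nat.mul_dvd_mul_right (Nat.modEq_zero_iff_dvd.1 hs1) b
    exact Nat.not_dvd_ordCompl hp hn (hd.trans h1)

theorem isPPart_conj (c : G) {g x : G} (h : Cfsg.IsPPart p g x) :
    Cfsg.IsPPart p (c * g * c⁻¹) (c * x * c⁻¹) := by
  obtain ⟨y, rfl, hc, hx, hy⟩ := h
  refine ⟨c * y * c⁻¹, by group, ?_, ?_, ?_⟩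
  · have := hc.map (MulAut.conj c)
    simpa using this
  · rwa [show c * x * c⁻¹ = MulAut.conj c x from rfl, MulEquiv.orderOf_eq]
  · rwa [show c * y * c⁻¹ = MulAut.conj c y from rfl, MulEquiv.orderOf_eq]

theorem exists_pow_eq_of_coprime (hp : p.Prime) {x : G} (hx : IsPEl p x) {m : ℕ} (hm : ¬ p ∣ m) :
    ∃ e : ℕ, (x ^ m) ^ e = x := by
  obtain ⟨k, hk⟩ := hx
  exact exists_pow_eq_self_of_coprime (n := m)
    (by rw [hk]; exact (Nat.Coprime.pow_left _ ((hp.coprime_iff_not_dvd).2 hm)).symm)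

/-- If a power prime to `p` of `g` commutes with `w`, so does the `p`-part of `g`. -/
theorem commute_pPart (hp : p.Prime) [Finite G] {g x w : G} (hx : Cfsg.IsPPart p g x) {m : ℕ}
    (hm : ¬ p ∣ m) (h : Commute (g ^ m) w) : Commute x w := by
  obtain ⟨t, ht⟩ := exists_pow_of_isPPart hp hx
  obtain ⟨y, -, -, hxp, -⟩ := hx
  obtain ⟨e, he⟩ := exists_pow_eq_of_coprime hp hxp hm
  rw [← he, ← ht, ← pow_mul g t, mul_comm t m, pow_mul]
  exact (h.pow_left t).pow_left e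

/-- Conjugacy of powers prime to `p` gives conjugacy of `p`-parts. -/
theorem isConj_pPart (hp : p.Prime) [Finite G] {g h x y c : G} (hx : Cfsg.IsPPart p g x)
    (hy : Cfsg.IsPPart p h y) {m : ℕ} (hm : ¬ p ∣ m) (hc : c * h ^ m * c⁻¹ = g ^ m) :
    IsConj x y := by
  have key : ∀ {g x : G}, Cfsg.IsPPart p g x → Cfsg.IsPPart p (g ^ m) (x ^ m) := by
    rintro g x ⟨z, rfl, hcz, hxp, hz⟩
    refine ⟨z ^ m, (hcz.mul_pow m).symm, (hcz.pow_left m).pow_right m, ?_, ?_⟩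
    · obtain ⟨k, hk⟩ := IsPEl.pow_eq_one hxp
      exact isPEl_of_pow_eq_one hp (k := k) (by rw [← pow_mul, mul_comm, pow_mul, hk, one_pow])
    · exact fun hd => hz (hd.trans (orderOf_pow_dvd m))
  have h1 : c * y ^ m * c⁻¹ = x ^ m := isPPart_unique hp (hc ▸ isPPart_conj c (key hy)) (key hx)
  obtain ⟨-, -, -, hxp, -⟩ := hx
  obtain ⟨-, -, -, hyp, -⟩ := hy
  obtain ⟨k, hk⟩ := hxp
  obtain ⟨l, hl⟩ := hyp
  obtain ⟨e, he1, he2⟩ : ∃ e : ℕ, (x ^ m) ^ e = x ∧ (y ^ m) ^ e = y := by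
    have hcop : Nat.Coprime m (p ^ (k + l)) :=
      (Nat.Coprime.pow_left _ ((hp.coprime_iff_not_dvd).2 hm)).symm
    obtain ⟨z, hz0, hz1⟩ := Nat.chineseRemainder hcop 0 1
    obtain ⟨e, he'⟩ := Nat.modEq_zero_iff_dvd.1 hz0
    have he : m * e ≡ 1 [MOD p ^ (k + l)] := by rw [← he']; exact hz1
    refine ⟨e, ?_, ?_⟩
    · rw [← pow_mul]
      nth_rw 2 [← pow_one x]
      exact pow_eq_pow_iff_modEq.2 (he.of_dvd (hk ▸ pow_dvd_pow p (Nat.le_add_right k l)))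
    · rw [← pow_mul]
      nth_rw 2 [← pow_one y]
      exact pow_eq_pow_iff_modEq.2 (he.of_dvd (hl ▸ pow_dvd_pow p (Nat.le_add_left l k)))
  refine (isConj_iff.2 ⟨c, ?_⟩).symm
  calc c * y * c⁻¹ = c * (y ^ m) ^ e * c⁻¹ := by rw [he2]
    _ = (x ^ m) ^ e := by rw [← h1, conj_pow]
    _ = x := he1

theorem isPEl_pPart {g x : G} (h : Cfsg.IsPPart p g x) : IsPEl p x := h.choose_spec.2.2.1

theorem pPart_commute {g x : G} (h : Cfsg.IsPPart p g x) : Commute x g := by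
  obtain ⟨y, rfl, hc, -, -⟩ := h
  exact (Commute.refl x).mul_right hc

/-- The element with given `p`-part is regular exactly when the `p`-part is trivial. -/
theorem isPPart_one_iff (hp : p.Prime) [Finite G] {g x : G} (h : Cfsg.IsPPart p g x) :
    ¬ p ∣ orderOf g ↔ x = 1 := by
  constructor
  · exact fun hg => isPPart_unique hp h (isPPart_of_regular hp hg)
  · rintro rfl
    obtain ⟨y, rfl, -, -, hy⟩ := h
    simpa using hy

end Cfsg.Agent.BrauerBlocksPPart
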