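import Mathlib
import Cfsg.Prelude.Def_Blocks
import Cfsg.Agent.Lib.BrauerBlocksVal

/-!
# The trace vanishing lemma

If an idempotent integral matrix `F` commutes with an integral matrix `T` of finite order and is
congruent to a relative trace from `⟨T ^ p⟩`, then `T * F` has trace zero.
-/

set_option autoImplicit false

namespace Cfsg.Agent.BrauerBlocksTrace

open Cfsg.Agent.BrauerBlocksVal Finset Matrix

variable {ι : Type*} [Fintype ι] [DecidableEq ι] {p : ℕ} {M : Ideal AlgInt}

/-- All entries are local integers. -/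
def IntM (M : Ideal AlgInt) (A : Matrix ι ι ℂ) : Prop := ∀ i j, Int' M (A i j)

/-- All entries are in the maximal ideal. -/
def SmM (M : Ideal AlgInt) (A : Matrix ι ι ℂ) : Prop := ∀ i j, Sm M (A i j)

omit [Fintype ι] [DecidableEq ι] in
theorem IntM.add {A B : Matrix ι ι ℂ} (hA : IntM M A) (hB : IntM M B) : IntM M (A + B) :=
  fun i j => (hA i j).add (hB i j)

omit [Fintype ι] [DecidableEq ι] in
theorem IntM.sub {A B : Matrix ι ι ℂ} (hA : IntM M A) (hB : IntM M B) : IntM M (A - B) :=
  fun i j => (hA i j).sub (hB i j)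

omit [Fintype ι] in
theorem intM_one : IntM M (1 : Matrix ι ι ℂ) := fun i j => by
  rcases eq_or_ne i j with rfl | h
  · simpa using int'_one
  · simpa [Matrix.one_apply_ne h] using int'_zero

omit [DecidableEq ι] in
theorem IntM.mul {A B : Matrix ι ι ℂ} (hA : IntM M A) (hB : IntM M B) : IntM M (A * B) :=
  fun i j => int'_sum _ fun k _ => (hA i k).mul (hB k j)

theorem IntM.pow {A : Matrix ι ι ℂ} (hA : IntM M A) : ∀ n : ℕ, IntM M (A ^ n)
  | 0 => by simpa using intM_one
  | n + 1 => by rw [pow_succ]; exact (hA.pow n).mul hA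

omit [Fintype ι] [DecidableEq ι] in
theorem IntM.smul {A : Matrix ι ι ℂ} (hA : IntM M A) {c : ℂ} (hc : Int' M c) :
    IntM M (c • A) :=
  fun i j => hc.mul (hA i j)

omit [Fintype ι] [DecidableEq ι] in
theorem intM_sum {κ : Type*} (s : Finset κ) {A : κ → Matrix ι ι ℂ} (h : ∀ k ∈ s, IntM M (A k)) :
    IntM M (∑ k ∈ s, A k) :=
  fun i j => by rw [Matrix.sum_apply]; exact int'_sum _ fun k hk => h k hk i j

omit [DecidableEq ι] in
theorem SmM.mul_left {A B : Matrix ι ι ℂ} (hA : IntM M A) (hB : SmM M B) : SmM M (A * B) :=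
  fun i j => sm_sum _ fun k _ => (hB k j).mul_left (hA i k)

omit [DecidableEq ι] in
theorem SmM.mul_right {A B : Matrix ι ι ℂ} (hA : SmM M A) (hB : IntM M B) : SmM M (A * B) :=
  fun i j => sm_sum _ fun k _ => (hA i k).mul_right (hB k j)

/-- An integral matrix congruent to the identity has an integral inverse. -/
theorem exists_inverse {u : Matrix ι ι ℂ} (hu : IntM M u) (h : SmM M (u - 1)) :
    ∃ v : Matrix ι ι ℂ, IntM M v ∧ v * u = 1 ∧ u * v = 1 := by
  let u' : Matrix ι ι (vs M) := Matrix.of fun i j => ⟨u i j, hu i j⟩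
  let q : vs M →+* IsLocalRing.ResidueField (vs M) := IsLocalRing.residue _
  have hq : u'.map q = 1 := by
    ext i j
    have h1 : Sm M ((u' i j : ℂ) - ((1 : Matrix ι ι (vs M)) i j : ℂ)) := by
      convert h i j using 2
      simp only [Matrix.sub_apply, u', Matrix.of_apply]
      congr 1
      rcases eq_or_ne i j with rfl | hne
      · simp
      · simp [Matrix.one_apply_ne hne]
    rw [Matrix.map_apply, show (1 : Matrix ι ι (IsLocalRing.ResidueField (vs M))) i j =
      q ((1 : Matrix ι ι (vs M)) i j) by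
        rcases eq_or_ne i j with rfl | hne
        · simp
        · simp [Matrix.one_apply_ne hne]]
    rw [← sub_eq_zero, ← map_sub, IsLocalRing.residue_eq_zero_iff,
      ValuationSubring.valuation_lt_one_iff]
    simpa [Sm] using h1
  have hdet : IsUnit u'.det := by
    by_contra hn
    have h1 := congrArg Matrix.det hq
    rw [← RingHom.mapMatrix_apply, ← RingHom.map_det, det_one] at h1
    exact one_ne_zero (h1.symm.trans
      ((IsLocalRing.residue_eq_zero_iff _).2 ((IsLocalRing.mem_maximalIdeal _).2 hn)))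
  have e : u = ((vs M).subtype.mapMatrix) u' := by ext i j; rfl
  refine ⟨((vs M).subtype.mapMatrix) u'⁻¹, fun i j => (u'⁻¹ i j).2, ?_, ?_⟩
  · rw [e, ← map_mul, Matrix.nonsing_inv_mul _ hdet, map_one]
  · rw [e, ← map_mul, Matrix.mul_nonsing_inv _ hdet, map_one]

section Periodic

variable {R : Type*} [Ring R]

theorem comm_inverse {T T' A : R} (h1 : T * T' = 1) (h2 : T' * T = 1) (h : Commute T A) :
    Commute T' A := by
  show T' * A = A * T'
  calc T' * A = T' * A * (T * T') := by rw [h1, mul_one]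
    _ = T' * (A * T) * T' := by simp only [mul_assoc]
    _ = T' * (T * A) * T' := by rw [h.eq]
    _ = T' * T * A * T' := by simp only [mul_assoc]
    _ = A * T' := by rw [h2, one_mul]

theorem pow_mul_pow_eq_one {T T' : R} (h1 : T * T' = 1) (h2 : T' * T = 1) (n : ℕ) :
    T ^ n * T' ^ n = 1 := by
  rw [← (show Commute T T' from h1.trans h2.symm).mul_pow, h1, one_pow]

theorem conj_pow_fixed {T T' Y : R} (h1 : T * T' = 1) (h2 : T' * T = 1) {n : ℕ}
    (hY : Commute (T ^ n) Y) : T ^ n * Y * T' ^ n = Y := by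
  rw [hY.eq, mul_assoc, pow_mul_pow_eq_one h1 h2, mul_one]

/-- The relative trace of an element fixed by `T ^ p` is fixed by `T`. -/
theorem commute_relTrace {T T' Y : R} (h1 : T * T' = 1) (h2 : T' * T = 1) {p : ℕ}
    (hY : Commute (T ^ p) Y) : Commute T (∑ i ∈ range p, T ^ i * Y * T' ^ i) := by
  set s := ∑ i ∈ range p, T ^ i * Y * T' ^ i with hs
  have h : T * s * T' = s := by
    have e : T * s * T' = ∑ i ∈ range p, T ^ (i + 1) * Y * T' ^ (i + 1) := by
      rw [hs, mul_sum, sum_mul]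
      refine sum_congr rfl fun i _ => ?_
      rw [pow_succ', pow_succ]
      simp only [mul_assoc]
    have e2 : ∑ i ∈ range (p + 1), T ^ i * Y * T' ^ i = s + T ^ p * Y * T' ^ p := sum_range_succ _ _
    rw [sum_range_succ', ← e, pow_zero, pow_zero, one_mul, mul_one, conj_pow_fixed h1 h2 hY] at e2
    exact add_right_cancel e2
  show T * s = s * T
  calc T * s = T * s * (T' * T) := by rw [h2, mul_one]
    _ = T * s * T' * T := by simp only [mul_assoc]
    _ = s * T := by rw [h]

theorem relTrace_reverse {T T' Y : R} (h1 : T * T' = 1) (h2 : T' * T = 1) {p : ℕ}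
    (hY : Commute (T ^ p) Y) :
    ∑ i ∈ range p, T' ^ i * Y * T ^ i = ∑ i ∈ range p, T ^ i * Y * T' ^ i := by
  have hg : ∀ i ≤ p, T' ^ i * Y * T ^ i = T ^ (p - i) * Y * T' ^ (p - i) := by
    intro i hi
    conv_lhs => rw [← conj_pow_fixed h1 h2 hY]
    have e1 : T' ^ i * T ^ p = T ^ (p - i) := by
      conv_lhs => rw [show p = i + (p - i) by omega, pow_add, ← mul_assoc,
        pow_mul_pow_eq_one h2 h1, one_mul]
    have e2 : T' ^ p * T ^ i = T' ^ (p - i) := by
      conv_lhs => rw [show p = (p - i) + i by omega, pow_add, mul_assoc,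
        pow_mul_pow_eq_one h2 h1, mul_one]
    rw [← e1, ← e2]
    simp only [mul_assoc]
  have e := sum_range_reflect (fun i => T ^ i * Y * T' ^ i) (p + 1)
  rw [sum_range_succ, sum_range_succ, conj_pow_fixed h1 h2 hY] at e
  simp only [Nat.add_sub_cancel, Nat.sub_self, pow_zero, one_mul, mul_one] at e
  rw [sum_congr rfl fun i hi => hg i (mem_range.1 hi).le]
  exact add_right_cancel e

end Periodic

/-- Replace a relative trace congruence by an equality. -/
theorem exists_exact {T T' F Y : Matrix ι ι ℂ} (h1 : T * T' = 1) (h2 : T' * T = 1)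
    (hT : IntM M T) (hT' : IntM M T') (hF : IntM M F) (hY : IntM M Y) (hFF : F * F = F)
    (hTF : Commute T F) (hTY : Commute (T ^ p) Y)
    (hcong : SmM M ((∑ i ∈ range p, T ^ i * Y * T' ^ i) - F)) :
    ∃ Y₁ : Matrix ι ι ℂ, IntM M Y₁ ∧ Commute (T ^ p) Y₁ ∧ F * Y₁ = Y₁ ∧ Y₁ * F = Y₁ ∧
      ∑ i ∈ range p, T ^ i * Y₁ * T' ^ i = F := by
  have hFT' : Commute T' F := comm_inverse h1 h2 hTF
  set s := ∑ i ∈ range p, T ^ i * (F * Y * F) * T' ^ i with hs
  have hs' : s = F * (∑ i ∈ range p, T ^ i * Y * T' ^ i) * F := by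
    rw [hs, mul_sum, sum_mul]
    refine sum_congr rfl fun i _ => ?_
    calc T ^ i * (F * Y * F) * T' ^ i = (T ^ i * F) * Y * (F * T' ^ i) := by simp only [mul_assoc]
      _ = (F * T ^ i) * Y * (T' ^ i * F) := by
          rw [(hTF.pow_left i).eq, ← (hFT'.pow_left i).eq]
      _ = _ := by simp only [mul_assoc]
  have hFs : F * s = s := by rw [hs', ← mul_assoc, ← mul_assoc, hFF]
  have hsF : s * F = s := by rw [hs', mul_assoc _ F F, hFF]
  have hsTr : Commute T s :=
    commute_relTrace h1 h2 (((hTF.pow_left p).mul_right hTY).mul_right (hTF.pow_left p))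
  have hsI : IntM M s := intM_sum _ fun i _ => ((hT.pow i).mul ((hF.mul hY).mul hF)).mul (hT'.pow i)
  set u := s + (1 - F) with hu
  have huI : IntM M u := hsI.add (intM_one.sub hF)
  have hsm : SmM M (u - 1) := by
    have e : u - 1 = F * ((∑ i ∈ range p, T ^ i * Y * T' ^ i) - F) * F := by
      rw [mul_sub, sub_mul, hFF, hFF, ← hs', hu]; abel
    rw [e]
    exact (hcong.mul_left hF).mul_right hF
  obtain ⟨v, hvI, hvu, huv⟩ := exists_inverse huI hsm
  have huF : u * F = s := by rw [hu, add_mul, hsF, sub_mul, one_mul, hFF, sub_self, add_zero]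
  have hFu : F * u = s := by rw [hu, mul_add, hFs, mul_sub, mul_one, hFF, sub_self, add_zero]
  have huT : Commute T u := hsTr.add_right ((Commute.one_right T).sub_right hTF)
  have hvT : Commute T v := (comm_inverse huv hvu huT.symm).symm
  have hvF : Commute v F := comm_inverse huv hvu (huF.trans hFu.symm)
  refine ⟨v * (F * Y * F), hvI.mul ((hF.mul hY).mul hF),
    ((hvT.pow_left p).mul_right (((hTF.pow_left p).mul_right hTY).mul_right (hTF.pow_left p))),
    ?_, ?_, ?_⟩
  · rw [← mul_assoc, ← hvF.eq, mul_assoc, ← mul_assoc F, ← mul_assoc F, hFF]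
  · rw [mul_assoc v, mul_assoc _ F F, hFF]
  · have e : ∀ i ∈ range p, T ^ i * (v * (F * Y * F)) * T' ^ i =
        v * (T ^ i * (F * Y * F) * T' ^ i) := by
      intro i _
      rw [← mul_assoc (T ^ i), (hvT.pow_left i).eq, mul_assoc v, mul_assoc v]
    rw [sum_congr rfl e, ← mul_sum, ← hs, ← huF, ← mul_assoc, hvu, one_mul]

/-- A nonzero vector can be scaled to have integral entries, one of them equal to one. -/
theorem exists_unimodular {v : ι → ℂ} (hv : v ≠ 0) :
    ∃ i : ι, v i ≠ 0 ∧ ∀ j, Int' M ((v i)⁻¹ * v j) := by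
  obtain ⟨k, hk⟩ : ∃ k, v k ≠ 0 := Function.ne_iff.1 hv
  obtain ⟨i, -, hi⟩ := exists_max_image univ (fun j => (vs M).valuation (v j)) ⟨k, mem_univ k⟩
  have hi0 : v i ≠ 0 := fun e => by
    have := hi k (mem_univ k)
    simp [e, hk] at this
  refine ⟨i, hi0, fun j => ?_⟩
  rw [int'_iff, map_mul, map_inv₀]
  calc ((vs M).valuation (v i))⁻¹ * (vs M).valuation (v j)
      ≤ ((vs M).valuation (v i))⁻¹ * (vs M).valuation (v i) :=
        mul_le_mul_right (hi j (mem_univ j)) _
    _ = 1 := inv_mul_cancel₀ (by simpa using hi0)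

theorem trace_eq_finrank {A : Matrix ι ι ℂ} (hA : A * A = A) :
    A.trace = (Module.finrank ℂ (LinearMap.range (Matrix.toLin' A)) : ℂ) := by
  have hp : LinearMap.IsProj (LinearMap.range (Matrix.toLin' A)) (Matrix.toLin' A) :=
    ⟨fun x => LinearMap.mem_range_self _ x, fun x hx => by
      obtain ⟨y, rfl⟩ := hx
      rw [← LinearMap.comp_apply, ← Matrix.toLin'_mul, hA]⟩
  rw [← hp.trace, Matrix.trace_toLin'_eq]

/-- Idempotents with integral congruent lifts `G`, `G'` have the same rank. -/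
theorem finrank_le {G G' P : Matrix ι ι ℂ} (hG' : IntM M G') (h : SmM M (G - G'))
    (hGP : Commute G P) (hPP : P * P = P) (hA : G * P * (G * P) = G * P) :
    Module.finrank ℂ (LinearMap.range (Matrix.toLin' (G * P))) ≤
      Module.finrank ℂ (LinearMap.range (Matrix.toLin' (G' * P))) := by
  set f : LinearMap.range (Matrix.toLin' (G * P)) →ₗ[ℂ] LinearMap.range (Matrix.toLin' (G' * P)) :=
    (Matrix.toLin' (G' * P)).rangeRestrict.comp (Submodule.subtype _) with hf
  refine LinearMap.finrank_le_finrank_of_injective (f := f) ?_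
  rw [injective_iff_map_eq_zero]
  rintro ⟨v, hv⟩ hfv
  have hv0 : (G' * P) *ᵥ v = 0 := congrArg Subtype.val hfv
  obtain ⟨y, rfl⟩ := hv
  refine Subtype.ext ?_
  show Matrix.toLin' (G * P) y = 0
  rw [Matrix.toLin'_apply] at hv0 ⊢
  by_contra hne
  set w := (G * P) *ᵥ y
  have hPw : P *ᵥ w = w := by
    rw [Matrix.mulVec_mulVec, ← mul_assoc, ← hGP.eq, mul_assoc, hPP]
  have hGw : G *ᵥ w = w := by
    have : (G * P) *ᵥ w = w := by rw [Matrix.mulVec_mulVec, hA]
    rwa [← Matrix.mulVec_mulVec, hPw] at this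
  have hG'w : G' *ᵥ w = 0 := by rwa [← Matrix.mulVec_mulVec, hPw] at hv0
  obtain ⟨i, hi, hint⟩ := exists_unimodular (M := M) hne
  have h1 : ((G - G') *ᵥ w) i = w i := by rw [Matrix.sub_mulVec, hGw, hG'w, sub_zero]
  have h2 : Sm M ((w i)⁻¹ * ((G - G') *ᵥ w) i) := by
    rw [Matrix.mulVec, dotProduct, mul_sum]
    refine sm_sum _ fun j _ => ?_
    rw [mul_left_comm]
    exact (h i j).mul_right (hint j)
  rw [h1, inv_mul_cancel₀ hi] at h2
  exact not_sm_one h2

theorem finrank_eq {G G' P : Matrix ι ι ℂ} (hG : IntM M G) (hG' : IntM M G') (h : SmM M (G - G'))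
    (hGP : Commute G P) (hG'P : Commute G' P) (hPP : P * P = P)
    (hA : G * P * (G * P) = G * P) (hA' : G' * P * (G' * P) = G' * P) :
    (G * P).trace = (G' * P).trace := by
  rw [trace_eq_finrank hA, trace_eq_finrank hA']
  have h' : SmM M (G' - G) := fun i j => by simpa using (h i j).neg
  exact_mod_cast le_antisymm (finrank_le hG' h hGP hPP hA) (finrank_le hG h' hG'P hPP hA')

theorem trace_eq_zero_aux {p : ℕ} (hM : IsPModular p M) {T T' F Y P : Matrix ι ι ℂ} {η : ℂ}
    (h1 : T * T' = 1) (h2 : T' * T = 1) (hT' : IntM M T') (hY : IntM M Y)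
    (hTY : Commute (T ^ p) Y) (hFY : F * Y = Y) (hYF : Y * F = Y)
    (htr : ∑ i ∈ range p, T ^ i * Y * T' ^ i = F)
    (hη : η ≠ 0) (hηi : IsIntegral ℤ η) (hPP : P * P = P) (hPT : Commute T P) (hPY : Commute Y P)
    (hTP : T ^ p * P = η • P) : (T * F * P).trace = 0 := by
  have hp : 0 < p := hM.1.pos
  obtain ⟨ζ, hζ⟩ := IsAlgClosed.exists_pow_nat_eq η hp
  have hε := Complex.isPrimitiveRoot_exp p hp.ne'
  set ε := Complex.exp (2 * Real.pi * Complex.I / p)
  have hεp : ε ^ p = 1 := hε.pow_eq_one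
  have hεI : Int' M ε := int'_of_isIntegral hM (hε.isIntegral hp)
  have hζI : Int' M ζ := int'_of_isIntegral hM (IsIntegral.of_pow hp (by rwa [hζ]))
  have hPT' : Commute T' P := comm_inverse h1 h2 hPT
  have hT'P : T' ^ p * P = η⁻¹ • P := by
    have := congrArg (fun A => T' ^ p * A) hTP
    simp only [← mul_assoc, pow_mul_pow_eq_one h2 h1, one_mul, mul_smul_comm] at this
    exact (inv_smul_smul₀ hη _).symm.trans (congrArg (η⁻¹ • ·) this.symm)
  -- the idempotents
  set Gm : ℕ → Matrix ι ι ℂ :=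
    fun m => Y * ∑ i ∈ range p, (ζ * ε ^ m) ^ i • T' ^ i with hGm
  have hGI : ∀ m, IntM M (Gm m) := fun m =>
    hY.mul (intM_sum _ fun i _ => (hT'.pow i).smul ((hζI.mul (hεI.pow m)).pow i))
  have hGsm : ∀ m, SmM M (Gm m - Gm 0) := by
    intro m
    simp only [hGm, ← mul_sub, ← sum_sub_distrib, ← sub_smul]
    refine SmM.mul_left hY fun i j => ?_
    rw [Matrix.sum_apply]
    refine sm_sum _ fun k _ => ?_
    have hs : Sm M (ε ^ m - ε ^ 0) := by
      rw [pow_zero]
      refine sm_sub_one_of_pow_pPow hM 1 ?_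
      rw [pow_one, ← pow_mul, mul_comm, pow_mul, hεp, one_pow]
    have hk := sm_pow_sub_pow (hζI.mul (hεI.pow m)) (hζI.mul (hεI.pow 0))
      (by rw [← mul_sub]; exact hs.mul_left hζI) k
    exact hk.mul_right ((hT'.pow k) i j)
  have hGP : ∀ m, Commute (Gm m) P := fun m =>
    hPY.mul_left (Commute.sum_left _ _ _ fun i _ => ((hPT'.pow_left i).smul_left _))
  have hidem : ∀ m, Gm m * P * (Gm m * P) = Gm m * P := by
    intro m
    set z := ζ * ε ^ m with hz
    have hzp : z ^ p = η := by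
      rw [hz, mul_pow, ← pow_mul, mul_comm m, pow_mul, hεp, one_pow, mul_one, hζ]
    set X := z • T' with hX
    have hQ : ∑ i ∈ range p, z ^ i • T' ^ i = ∑ i ∈ range p, X ^ i :=
      sum_congr rfl fun i _ => (smul_pow z T' i).symm
    set Q := ∑ i ∈ range p, X ^ i with hQdef
    have hXp : X ^ p * P = P := by
      rw [hX, smul_pow, smul_mul_assoc, hT'P, smul_smul, hzp, mul_inv_cancel₀ hη, one_smul]
    have hXQ : X * Q * P = Q * P := by
      have e : ∑ i ∈ range (p + 1), X ^ i = Q + X ^ p := sum_range_succ _ _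
      rw [sum_range_succ'] at e
      simp only [pow_succ', ← mul_sum, pow_zero] at e
      have e2 := congrArg (fun A => A * P) e
      simp only [add_mul, hXp, one_mul] at e2
      exact add_right_cancel e2
    have hXiQ : ∀ i, X ^ i * (Q * P) = Q * P := by
      intro i
      induction i with
      | zero => rw [pow_zero, one_mul]
      | succ i ih => rw [pow_succ, mul_assoc, ← mul_assoc X, hXQ, ih]
    have hYi : ∀ i, X ^ i * Y = T' ^ i * Y * T ^ i * X ^ i := by
      intro i
      rw [hX, smul_pow, smul_mul_assoc, mul_smul_comm, mul_assoc (T' ^ i * Y),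
        pow_mul_pow_eq_one h1 h2, mul_one]
    have hG : Gm m = Y * Q := by simp only [hGm, ← hz, hQ]
    have hc : Q * P * Y = Q * Y * P := by rw [mul_assoc, ← hPY.eq, ← mul_assoc]
    calc Gm m * P * (Gm m * P) = Gm m * (P * Gm m) * P := by simp only [mul_assoc]
      _ = Gm m * (Gm m * P) := by rw [← (hGP m).eq, mul_assoc (Gm m), mul_assoc (Gm m) P, hPP]
      _ = Y * ∑ i ∈ range p, T' ^ i * Y * T ^ i * (X ^ i * (Q * P)) := by
            rw [hG, mul_assoc Y Q, mul_assoc Y Q, sum_mul]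
            congr 1
            refine sum_congr rfl fun i _ => ?_
            rw [← mul_assoc, hYi]
            simp only [mul_assoc]
      _ = Gm m * P := by
            simp only [hXiQ, ← sum_mul, relTrace_reverse h1 h2 hTY, htr]
            rw [← mul_assoc, hYF, ← mul_assoc, hG]
  -- the traces are all equal
  set t : ℕ → ℂ := fun i => (Y * T' ^ i * P).trace with ht
  have hconst : ∀ m, ∑ i ∈ range p, (ζ * ε ^ m) ^ i * t i = ∑ i ∈ range p, ζ ^ i * t i := by
    intro m
    have h := finrank_eq (hGI m) (hGI 0) (hGsm m) (hGP m) (hGP 0) hPP (hidem m) (hidem 0)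
    simp only [hGm, mul_sum, sum_mul, trace_sum, mul_smul_comm, smul_mul_assoc, trace_smul,
      pow_zero, mul_one, smul_eq_mul] at h
    exact h
  have ht1 : t (p - 1) = 0 := by
    have hsum : ∑ m ∈ range p, (ε ^ m) * ∑ i ∈ range p, (ζ * ε ^ m) ^ i * t i = 0 := by
      simp only [hconst, ← sum_mul]
      rw [hε.geom_sum_eq_zero hM.1.one_lt, zero_mul]
    simp only [mul_sum] at hsum
    rw [sum_comm, sum_eq_single (p - 1)] at hsum
    · have e : ∀ m ∈ range p, ε ^ m * ((ζ * ε ^ m) ^ (p - 1) * t (p - 1)) =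
          ζ ^ (p - 1) * t (p - 1) := by
        intro m _
        have : ε ^ m * ε ^ (m * (p - 1)) = 1 := by
          rw [← pow_add, show m + m * (p - 1) = p * m by
            obtain ⟨q, rfl⟩ : ∃ q, p = q + 1 := ⟨p - 1, by omega⟩
            simp only [Nat.add_sub_cancel]; ring, pow_mul, hεp, one_pow]
        rw [mul_pow, ← pow_mul]
        linear_combination (ζ ^ (p - 1) * t (p - 1)) * this
      rw [sum_congr rfl e, sum_const, card_range, nsmul_eq_mul] at hsum
      have hζ0 : ζ ≠ 0 := fun e => hη (by rw [← hζ, e, zero_pow hp.ne'])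
      rcases mul_eq_zero.1 hsum with h | h
      · exact absurd (Nat.cast_eq_zero.1 h) hp.ne'
      · exact (mul_eq_zero.1 h).resolve_left (pow_ne_zero _ hζ0)
    · intro i hi hne
      have hne1 : ε ^ (i + 1) ≠ 1 := hε.pow_ne_one_of_pos_of_lt (by omega)
        (by have := mem_range.1 hi; omega)
      have e : ∀ m ∈ range p, ε ^ m * ((ζ * ε ^ m) ^ i * t i) =
          (ε ^ (i + 1)) ^ m * (ζ ^ i * t i) := by
        intro m _
        rw [mul_pow, ← pow_mul, ← pow_mul, show (i + 1) * m = m + m * i by ring, pow_add]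
        ring
      rw [sum_congr rfl e, ← sum_mul]
      have hgz : ∑ m ∈ range p, (ε ^ (i + 1)) ^ m = 0 := by
        have := geom_sum_mul (ε ^ (i + 1)) p
        rw [← pow_mul, mul_comm (i + 1) p, pow_mul, hεp, one_pow, sub_self, mul_eq_zero] at this
        exact this.resolve_right (sub_ne_zero.2 hne1)
      rw [hgz, zero_mul]
    · intro h; exact absurd (mem_range.2 (by omega)) h
  -- translate
  have hT1 : T' ^ (p - 1) * P = η⁻¹ • (T * P) := by
    have e : T' ^ (p - 1) = T * T' ^ p := by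
      conv_rhs => rw [show p = 1 + (p - 1) by omega, pow_add, pow_one, ← mul_assoc, h1, one_mul]
    rw [e, mul_assoc, hT'P, mul_smul_comm]
  have hYTP : (Y * T * P).trace = 0 := by
    simp only [ht] at ht1
    rw [mul_assoc, hT1, mul_smul_comm, trace_smul, smul_eq_mul, ← mul_assoc] at ht1
    exact (mul_eq_zero.1 ht1).resolve_left (inv_ne_zero hη)
  rw [← htr, mul_sum, sum_mul, trace_sum]
  refine sum_eq_zero fun i _ => ?_
  have e : T * (T ^ i * Y * T' ^ i) * P = T ^ i * (T * Y * P) * T' ^ i := by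
    calc T * (T ^ i * Y * T' ^ i) * P = (T * T ^ i) * Y * (T' ^ i * P) := by simp only [mul_assoc]
      _ = (T ^ i * T) * Y * (P * T' ^ i) := by
          rw [(hPT'.pow_left i).eq, ← pow_succ', ← pow_succ]
      _ = _ := by simp only [mul_assoc]
  rw [e, Matrix.trace_mul_comm, ← mul_assoc, pow_mul_pow_eq_one h2 h1, one_mul, mul_assoc,
    Matrix.trace_mul_comm, mul_assoc, ← hPT.eq, ← mul_assoc, hYTP]

/-- The main trace lemma. -/
theorem trace_mul_eq_zero (hM : IsPModular p M) {T T' F Y : Matrix ι ι ℂ} {N : ℕ} (hN : 0 < N)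
    (hTN : T ^ N = 1) (h1 : T * T' = 1) (h2 : T' * T = 1)
    (hT : IntM M T) (hT' : IntM M T') (hF : IntM M F) (hY : IntM M Y) (hFF : F * F = F)
    (hTF : Commute T F) (hTY : Commute (T ^ p) Y)
    (hcong : SmM M ((∑ i ∈ range p, T ^ i * Y * T' ^ i) - F)) :
    (T * F).trace = 0 := by
  obtain ⟨Z, hZ, hTZ, hFZ, hZF, htr⟩ := exists_exact h1 h2 hT hT' hF hY hFF hTF hTY hcong
  have hω := Complex.isPrimitiveRoot_exp N hN.ne'
  set ω := Complex.exp (2 * Real.pi * Complex.I / N)
  have hωN : ω ^ N = 1 := hω.pow_eq_one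
  have hω0 : ω ≠ 0 := hω.ne_zero hN.ne'
  have hωi : ω⁻¹ ^ N = 1 := by rw [inv_pow, hωN, inv_one]
  set S := T ^ p with hS
  set Pk : ℕ → Matrix ι ι ℂ :=
    fun k => (N : ℂ)⁻¹ • ∑ j ∈ range N, (ω⁻¹ ^ k • S) ^ j with hPk
  have hsum : ∑ k ∈ range N, Pk k = 1 := by
    simp only [hPk, ← smul_sum]
    rw [sum_comm, sum_eq_single 0]
    · simp only [pow_zero, sum_const, card_range]
      rw [← Nat.cast_smul_eq_nsmul ℂ, smul_smul, inv_mul_cancel₀ (Nat.cast_ne_zero.2 hN.ne'),
        one_smul]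
    · intro j hj hj0
      have e : ∀ k ∈ range N, (ω⁻¹ ^ k • S) ^ j = (ω⁻¹ ^ j) ^ k • S ^ j := fun k _ => by
        rw [smul_pow, ← pow_mul ω⁻¹, mul_comm k j, pow_mul]
      rw [sum_congr rfl e, ← sum_smul]
      have hne : ω⁻¹ ^ j ≠ 1 := by
        rw [inv_pow, ne_eq, inv_eq_one]
        exact hω.pow_ne_one_of_pos_of_lt hj0 (mem_range.1 hj)
      have hg : ∑ k ∈ range N, (ω⁻¹ ^ j) ^ k = 0 := by
        have := geom_sum_mul (ω⁻¹ ^ j) N
        rw [← pow_mul, mul_comm j N, pow_mul, hωi, one_pow, sub_self, mul_eq_zero] at this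
        exact this.resolve_right (sub_ne_zero.2 hne)
      rw [hg, zero_smul]
    · intro h; exact absurd (mem_range.2 hN) h
  have hcomm : ∀ {A : Matrix ι ι ℂ}, Commute S A → ∀ k, Commute A (Pk k) := fun {A} h k =>
    ((Commute.sum_right _ _ _ fun j _ => ((h.symm.smul_right _).pow_right j))).smul_right _
  have hSP : ∀ k, S * Pk k = (ω ^ k) • Pk k := by
    intro k
    set X := ω⁻¹ ^ k • S with hX
    have hXN : X ^ N = 1 := by
      rw [hX, smul_pow, ← pow_mul, mul_comm k, pow_mul, hωi, one_pow, one_smul, hS, ← pow_mul,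
        mul_comm, pow_mul, hTN, one_pow]
    have hXQ : X * ∑ j ∈ range N, X ^ j = ∑ j ∈ range N, X ^ j := by
      have e : ∑ i ∈ range (N + 1), X ^ i = (∑ j ∈ range N, X ^ j) + X ^ N := sum_range_succ _ _
      rw [sum_range_succ', hXN] at e
      simp only [pow_succ', ← mul_sum, pow_zero] at e
      exact add_right_cancel e
    have hS' : S = (ω ^ k) • X := by
      rw [hX, smul_smul, ← mul_pow, mul_inv_cancel₀ hω0, one_pow, one_smul]
    conv_lhs => rw [hS']
    simp only [hPk, ← hX]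
    rw [smul_mul_assoc, mul_smul_comm, hXQ]
  have hidem : ∀ k, Pk k * Pk k = Pk k := by
    intro k
    have e : ∀ j, (ω⁻¹ ^ k • S) ^ j * Pk k = Pk k := by
      intro j
      induction j with
      | zero => rw [pow_zero, one_mul]
      | succ j ih => rw [pow_succ, mul_assoc, smul_mul_assoc, hSP, smul_smul, ← mul_pow,
          inv_mul_cancel₀ hω0, one_pow, one_smul, ih]
    conv_lhs => lhs; rw [hPk]
    simp only [smul_mul_assoc, sum_mul, e, sum_const, card_range]
    rw [← Nat.cast_smul_eq_nsmul ℂ, smul_smul, inv_mul_cancel₀ (Nat.cast_ne_zero.2 hN.ne'),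
      one_smul]
  rw [← mul_one (T * F), ← hsum, mul_sum, trace_sum]
  refine sum_eq_zero fun k _ => ?_
  exact trace_eq_zero_aux hM h1 h2 hT' hZ hTZ hFZ hZF htr (pow_ne_zero _ hω0)
    ((hω.isIntegral hN).pow k) (hidem k) (hcomm ((Commute.refl T).pow_left p) k) (hcomm hTZ k)
    (hSP k)

end Cfsg.Agent.BrauerBlocksTrace
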