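import Mathlib
import Cfsg.Prelude.Def_Blocks
import Cfsg.Agent.Lib.BrauerBlocksBasic
import Cfsg.Agent.Lib.BrauerBlocksTrace
import Cfsg.Agent.Lib.BrauerBlocksPPart

/-!
# Vanishing of characters on idempotents without fixed support; block orthogonality
-/

set_option autoImplicit false

open scoped ComplexConjugate

namespace Cfsg.Agent.BrauerBlocksPerm

open Cfsg.Agent.BrauerBlocksVal Cfsg.Agent.CharBasic Cfsg.Agent.CharBasicOrth
  Cfsg.Agent.BrauerBlocksCentral Cfsg.Agent.BrauerBlocksBasic Cfsg.Agent.BrauerBlocksTrace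
  Cfsg.Agent.BrauerBlocksPPart

variable {p : ℕ} {M : Ideal AlgInt}

theorem modEq_of_pow_apply_eq {κ : Type*} (s : Equiv.Perm κ) (x : κ) {L : ℕ}
    (hL : ∀ n, (s ^ n) x = x ↔ L ∣ n) {a b : ℕ} (h : (s ^ a) x = (s ^ b) x) :
    a ≡ b [MOD L] := by
  rcases le_total a b with hab | hab
  · refine (Nat.modEq_iff_dvd' hab).2 ((hL _).1 ?_)
    refine (s ^ a).injective ?_
    rw [← Equiv.Perm.mul_apply, ← pow_add, Nat.add_sub_cancel' hab, h]
  · refine ((Nat.modEq_iff_dvd' hab).2 ((hL _).1 ?_)).symm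
    refine (s ^ b).injective ?_
    rw [← Equiv.Perm.mul_apply, ← pow_add, Nat.add_sub_cancel' hab, ← h]

/-- A function invariant under a permutation is, away from the points of period prime to `p`,
a relative trace of a function invariant under the `p`-th power. -/
theorem exists_relTrace {κ : Type*} [Finite κ] (hp : 0 < p) (s : Equiv.Perm κ) (F : κ → ℂ)
    (hF : ∀ x, F (s x) = F x) :
    ∃ Y : κ → ℂ, (∀ x, Y ((s ^ p) x) = Y x) ∧ (∀ x, Y x = 0 ∨ Y x = F x) ∧
      ∀ x, (∑ i ∈ Finset.range p, Y ((s ^ i)⁻¹ x)) = F x ∨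
        ((∑ i ∈ Finset.range p, Y ((s ^ i)⁻¹ x)) = 0 ∧ ∃ m, ¬ p ∣ m ∧ (s ^ m) x = x) := by
  classical
  set st : Setoid κ := Equiv.Perm.SameCycle.setoid s
  set r : κ → κ := fun x => (Quotient.mk st x).out with hr
  have hrel : ∀ x, s.SameCycle (r x) x := fun x => Quotient.mk_out (s := st) x
  have hrc : ∀ x y, s.SameCycle x y → r x = r y := fun x y h => by
    simp only [hr]; rw [Quotient.sound (s := st) h]
  have hk : ∀ x, ∃ k : ℕ, (s ^ k) (r x) = x := fun x => (hrel x).exists_nat_pow_eq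
  choose k hk using hk
  set L : κ → ℕ := fun x => Function.minimalPeriod s (r x) with hL
  have hLd : ∀ x n, (s ^ n) (r x) = r x ↔ L x ∣ n := fun x n => by
    rw [hL, ← Function.isPeriodicPt_iff_minimalPeriod_dvd, Function.IsPeriodicPt,
      Function.IsFixedPt, Equiv.Perm.coe_pow]
  have hmove : ∀ i x, r ((s ^ i) x) = r x ∧ L ((s ^ i) x) = L x ∧
      k ((s ^ i) x) ≡ i + k x [MOD L x] := by
    intro i x
    have e : r ((s ^ i) x) = r x :=
      (hrc _ _ (Equiv.Perm.sameCycle_pow_right.2 (Equiv.Perm.SameCycle.refl s x))).symm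
    refine ⟨e, by simp only [hL, e], ?_⟩
    refine modEq_of_pow_apply_eq s (r x) (hLd x) ?_
    rw [pow_add, Equiv.Perm.mul_apply, hk, ← e, hk]
  have hFi : ∀ i x, F ((s ^ i) x) = F x := by
    intro i
    induction i with
    | zero => simp
    | succ i ih => intro x; rw [pow_succ, Equiv.Perm.mul_apply, ih, hF]
  set Y : κ → ℂ := fun x => if p ∣ L x ∧ p ∣ k x then F x else 0 with hY
  have hmod : ∀ i x, p ∣ L x → k ((s ^ i) x) ≡ i + k x [MOD p] := fun i x h =>
    (hmove i x).2.2.of_dvd h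
  refine ⟨Y, fun x => ?_, fun x => ?_, fun x => ?_⟩
  · simp only [hY, (hmove p x).2.1, hFi]
    by_cases h : p ∣ L x
    · have h2 : p ∣ k ((s ^ p) x) ↔ p ∣ k x := by
        rw [(hmod p x h).dvd_iff dvd_rfl, Nat.dvd_add_right dvd_rfl]
      simp [h, h2]
    · simp [h]
  · simp only [hY]; split_ifs <;> simp
  · by_cases h : p ∣ L x
    · left
      have hxy : ∀ i, (s ^ i) ((s ^ i)⁻¹ x) = x := fun i => Equiv.apply_symm_apply (s ^ i) x
      have hLy : ∀ i, L ((s ^ i)⁻¹ x) = L x := fun i => by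
        rw [← (hmove i ((s ^ i)⁻¹ x)).2.1, hxy]
      have hFy : ∀ i, F ((s ^ i)⁻¹ x) = F x := fun i => by rw [← hFi i ((s ^ i)⁻¹ x), hxy]
      have hkd : ∀ i, p ∣ k ((s ^ i)⁻¹ x) ↔ k x ≡ i [MOD p] := fun i => by
        have h1 := hmod i ((s ^ i)⁻¹ x) (by rw [hLy]; exact h)
        rw [hxy] at h1
        refine ⟨fun hd => h1.trans ?_, fun hi => ?_⟩
        · simpa using (Nat.ModEq.refl i).add (Nat.modEq_zero_iff_dvd.2 hd)
        · refine Nat.modEq_zero_iff_dvd.1 ?_
          exact Nat.ModEq.add_left_cancel' i (by simpa using h1.symm.trans hi)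
      rw [Finset.sum_eq_single (k x % p)]
      · simp only [hY, hLy, hFy]
        rw [if_pos ⟨h, (hkd _).2 (Nat.mod_modEq _ _).symm⟩]
      · intro i hi hne
        simp only [hY]
        rw [if_neg]
        rintro ⟨-, hd⟩
        refine hne ?_
        have := (hkd i).1 hd
        rw [Nat.ModEq, Nat.mod_eq_of_lt (Finset.mem_range.1 hi)] at this
        exact this.symm
      · intro hn
        exact absurd (Finset.mem_range.2 (Nat.mod_lt _ hp)) hn
    · right
      refine ⟨Finset.sum_eq_zero fun i _ => ?_, L x, h, ?_⟩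
      · have : L ((s ^ i)⁻¹ x) = L x := by
          rw [← (hmove i ((s ^ i)⁻¹ x)).2.1, Equiv.Perm.coe_inv, Equiv.apply_symm_apply]
        simp only [hY]
        rw [if_neg (fun hc => h (this ▸ hc.1))]
      · have h1 := (hLd x (L x)).2 dvd_rfl
        calc (s ^ L x) x = (s ^ L x) ((s ^ k x) (r x)) := by rw [hk]
          _ = (s ^ k x) ((s ^ L x) (r x)) := by
              rw [← Equiv.Perm.mul_apply, ← pow_add, Nat.add_comm, pow_add, Equiv.Perm.mul_apply]
          _ = x := by rw [h1, hk]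

/-- The trace lemma for a permutation. -/
theorem sum_perm_eq_zero {ι : Type*} [Fintype ι] (hM : IsPModular p M) (σ : Equiv.Perm ι)
    (F : Matrix ι ι ℂ) (hF : IntM M F) (hFF : F * F = F)
    (hinv : ∀ a b, F (σ a) (σ b) = F a b)
    (hfix : ∀ a b m, ¬ p ∣ m → (σ ^ m) a = a → (σ ^ m) b = b → Sm M (F a b)) :
    ∑ a, F (σ.symm a) a = 0 := by
  classical
  obtain ⟨Y, hYp, hYv, hYs⟩ := exists_relTrace (p := p) hM.1.pos (Equiv.prodCongr σ σ)
    (fun x => F x.1 x.2) (fun x => hinv x.1 x.2)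
  let PM : Equiv.Perm ι → Matrix ι ι ℂ := fun τ => Matrix.of fun a b => if τ b = a then 1 else 0
  have hPm : ∀ (τ : Equiv.Perm ι) (A : Matrix ι ι ℂ) a c,
      (PM τ * A) a c = A (τ.symm a) c := fun τ A a c => by
    rw [Matrix.mul_apply, Finset.sum_eq_single (τ.symm a)]
    · simp [PM]
    · intro b _ hb
      have : τ b ≠ a := fun e => hb (by rw [← e, Equiv.symm_apply_apply])
      simp [PM, this]
    · simp
  have hmP : ∀ (τ : Equiv.Perm ι) (A : Matrix ι ι ℂ) a c,
      (A * PM τ) a c = A a (τ c) := fun τ A a c => by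
    rw [Matrix.mul_apply, Finset.sum_eq_single (τ c)]
    · simp [PM]
    · intro b _ hb; simp [PM, Ne.symm hb]
    · simp
  have hmul : ∀ τ τ' : Equiv.Perm ι, PM τ * PM τ' = PM (τ * τ') := fun τ τ' => by
    ext a c
    rw [hPm]
    simp [PM, Equiv.eq_symm_apply]
    congr
  have hone : PM 1 = 1 := by ext a b; simp [PM, Matrix.one_apply, eq_comm]; congr
  have hpow : ∀ (τ : Equiv.Perm ι) (n : ℕ), PM τ ^ n = PM (τ ^ n) := fun τ n => by
    induction n with
    | zero => rw [pow_zero, pow_zero, hone]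
    | succ n ih => rw [pow_succ, pow_succ, ih, hmul]
  have hintP : ∀ τ, IntM M (PM τ) := fun τ a b => by
    simp only [PM, Matrix.of_apply]; split_ifs
    exacts [int'_one, int'_zero]
  set Ym : Matrix ι ι ℂ := Matrix.of fun a b => Y (a, b) with hYm
  have hYI : IntM M Ym := fun a b => by
    rcases hYv (a, b) with h | h <;> simp only [hYm, Matrix.of_apply, h]
    exacts [int'_zero, hF a b]
  have hprod : ∀ n : ℕ, ∀ a b, ((Equiv.prodCongr σ σ) ^ n) (a, b) =
      ((σ ^ n) a, (σ ^ n) b) := by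
    intro n
    induction n with
    | zero => intro a b; rfl
    | succ n ih => intro a b; rw [pow_succ, pow_succ, Equiv.Perm.mul_apply]; exact ih _ _
  have h := trace_mul_eq_zero (T := PM σ) (T' := PM σ⁻¹) (F := F) (Y := Ym) (N := orderOf σ) hM
    (orderOf_pos σ) (by rw [hpow, pow_orderOf_eq_one, hone])
    (by rw [hmul, mul_inv_cancel, hone]) (by rw [hmul, inv_mul_cancel, hone])
    (hintP _) (hintP _) hF hYI hFF ?_ ?_ ?_
  · rw [Matrix.trace] at h
    simpa [Matrix.diag, hPm] using h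
  · ext a c
    rw [hPm, hmP, ← hinv (σ.symm a) c, Equiv.apply_symm_apply]
  · ext a c
    rw [hpow, hPm, hmP]
    simp only [hYm, Matrix.of_apply]
    conv_rhs => rw [show a = (σ ^ p) ((σ ^ p).symm a) by rw [Equiv.apply_symm_apply]]
    rw [← hprod, hYp]
  · intro a b
    rw [Matrix.sub_apply, Matrix.sum_apply]
    have hterm : ∀ i ∈ Finset.range p, (PM σ ^ i * Ym * PM σ⁻¹ ^ i) a b =
        Y (((Equiv.prodCongr σ σ) ^ i)⁻¹ (a, b)) := fun i _ => by
      have e : ((Equiv.prodCongr σ σ) ^ i)⁻¹ (a, b) = ((σ ^ i).symm a, (σ ^ i).symm b) := by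
        rw [Equiv.Perm.coe_inv, Equiv.symm_apply_eq, hprod, Equiv.apply_symm_apply,
          Equiv.apply_symm_apply]
      rw [e, hpow, hpow, hmP, hPm, inv_pow]
      rfl
    rw [Finset.sum_congr rfl hterm]
    rcases hYs (a, b) with h | ⟨h, m, hm, hfx⟩
    · rw [h, sub_self]; exact sm_zero
    · rw [h, zero_sub, sm_neg_iff]
      rw [hprod, Prod.mk.injEq] at hfx
      exact hfix a b m hm hfx.1 hfx.2

/-! ### Applications to the group algebra -/

section Group

variable {G : Type*} [Group G] [Fintype G]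

/-- The twisted translation of the group by a pair of elements. -/
def sigmaPerm (u h : G) : Equiv.Perm G := (Equiv.mulLeft u).trans (Equiv.mulRight h⁻¹)

omit [Fintype G] in
theorem sigmaPerm_pow (u h : G) : ∀ (m : ℕ) (v : G),
    ((sigmaPerm u h) ^ m) v = u ^ m * v * (h ^ m)⁻¹
  | 0, v => by simp
  | m + 1, v => by
    rw [pow_succ', Equiv.Perm.mul_apply, sigmaPerm_pow u h m v, pow_succ', pow_succ']
    simp [sigmaPerm, mul_assoc]

/-- The vanishing of the twisted regular trace of an idempotent. -/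
theorem sum_coeff_eq_zero (hM : IsPModular p M) {f : A G} (u h : G) (hI : IntA M f)
    (hff : f * f = f) (hu : ∀ g, f.coeff (u * g * u⁻¹) = f.coeff g)
    (hfix : ∀ a b : G, ∀ m, ¬ p ∣ m → u ^ m * a * (h ^ m)⁻¹ = a →
      u ^ m * b * (h ^ m)⁻¹ = b → Sm M (f.coeff (a * b⁻¹))) :
    ∑ a : G, f.coeff (u⁻¹ * a * h * a⁻¹) = 0 := by
  classical
  have := sum_perm_eq_zero (p := p) (M := M) hM (sigmaPerm u h)
    (Matrix.of fun a b => f.coeff (a * b⁻¹))
    (fun a b => hI _) ?_ ?_ ?_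
  · rw [← this]
    refine Finset.sum_congr rfl fun a _ => ?_
    simp [sigmaPerm, mul_assoc]
  · ext a c
    rw [Matrix.mul_apply]
    simp only [Matrix.of_apply]
    conv_rhs => rw [← hff, mul_coeff]
    refine Fintype.sum_equiv ((Equiv.inv G).trans (Equiv.mulLeft a)) _ _ fun b => ?_
    simp only [Equiv.trans_apply, Equiv.inv_apply, Equiv.coe_mulLeft]
    congr 2
    group
  · intro a b
    simp only [Matrix.of_apply]
    rw [← hu (a * b⁻¹)]
    congr 1
    simp [sigmaPerm, mul_assoc]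
  · intro a b m hm ha hb
    rw [sigmaPerm_pow] at ha hb
    exact hfix a b m hm ha hb

/-- An idempotent of the group algebra fixed by `u`, small on the elements commuting with the
`p`-part of `u`, has all character values at `u` equal to zero. -/
theorem tr_eq_zero (hM : IsPModular p M) {f : A G} (u : G) (hI : IntA M f)
    (hff : f * f = f) (hu : ∀ g, f.coeff (u * g * u⁻¹) = f.coeff g)
    (hfix : ∀ g : G, ∀ m, ¬ p ∣ m → Commute (u ^ m) g → Sm M (f.coeff g))
    (χ : Cfsg.IrrCharacter G) :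
    tr (χ : G → ℂ) (MonoidAlgebra.single u 1 * f) = 0 := by
  classical
  have hχ := classFun_irr χ
  have h0 : ∑ h : G, (χ : G → ℂ) h * ∑ a : G, f.coeff (u⁻¹ * a * h * a⁻¹) = 0 := by
    refine Finset.sum_eq_zero fun h _ => ?_
    rw [sum_coeff_eq_zero hM u h hI hff hu, mul_zero]
    intro a b m hm ha hb
    refine hfix _ m hm ?_
    have e1 : h ^ m = a⁻¹ * u ^ m * a := by
      have := mul_inv_eq_iff_eq_mul.1 ha
      rw [mul_assoc, this]; group
    have e2 : h ^ m = b⁻¹ * u ^ m * b := by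
      have := mul_inv_eq_iff_eq_mul.1 hb
      rw [mul_assoc, this]; group
    show u ^ m * (a * b⁻¹) = a * b⁻¹ * u ^ m
    calc u ^ m * (a * b⁻¹) = a * (a⁻¹ * u ^ m * a) * b⁻¹ := by group
      _ = a * (b⁻¹ * u ^ m * b) * b⁻¹ := by rw [← e1, ← e2]
      _ = a * b⁻¹ * u ^ m := by group
  simp only [Finset.mul_sum] at h0
  rw [Finset.sum_comm] at h0
  have h1 : ∀ a : G, ∑ h : G, (χ : G → ℂ) h * f.coeff (u⁻¹ * a * h * a⁻¹) =
      ∑ g : G, f.coeff g * (χ : G → ℂ) (u * g) := by
    intro a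
    symm
    refine Fintype.sum_equiv (((Equiv.mulLeft (a⁻¹ * u))).trans (Equiv.mulRight a)) _ _ fun g => ?_
    simp only [Equiv.trans_apply, Equiv.coe_mulLeft, Equiv.coe_mulRight]
    rw [show a⁻¹ * u * g * a = a⁻¹ * (u * g) * (a⁻¹)⁻¹ by group, hχ (u * g) a⁻¹,
      mul_comm, show u⁻¹ * a * (a⁻¹ * (u * g) * (a⁻¹)⁻¹) * a⁻¹ = g by group]
  rw [Finset.sum_congr rfl fun a _ => h1 a, Finset.sum_const, Finset.card_univ,
    nsmul_eq_mul, mul_eq_zero] at h0
  have h2 : ∑ g : G, f.coeff g * (χ : G → ℂ) (u * g) = 0 :=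
    h0.resolve_left (Nat.cast_ne_zero.2 Fintype.card_ne_zero)
  rw [← h2]
  conv_lhs => rw [sum_single_coeff f, Finset.mul_sum, tr_sum]
  refine Finset.sum_congr rfl fun g _ => ?_
  rw [MonoidAlgebra.single_mul_single, one_mul, tr_single]

/-- The product formula for irreducible characters. -/
theorem sum_conj_mul (χ : Cfsg.IrrCharacter G) (g h : G) :
    ∑ a : G, (χ : G → ℂ) (g * (a * h * a⁻¹)) =
      (Nat.card G : ℂ) * (χ : G → ℂ) h * (χ : G → ℂ) g / (χ : G → ℂ) 1 := by
  classical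
  set z : A G := ∑ a : G, MonoidAlgebra.single (a * h * a⁻¹) (1 : ℂ) with hz
  have hzC : IsC z := by
    intro w b
    simp only [hz, MonoidAlgebra.coeff_sum, Finsupp.finset_sum_apply, MonoidAlgebra.coeff_single,
      Finsupp.single_apply]
    refine Fintype.sum_equiv (Equiv.mulLeft b⁻¹) _ _ fun a => ?_
    simp only [Equiv.coe_mulLeft]
    congr 1
    apply propext
    constructor
    · intro e
      calc b⁻¹ * a * h * (b⁻¹ * a)⁻¹ = b⁻¹ * (a * h * a⁻¹) * b := by group
        _ = w := by rw [e]; group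
    · intro e
      calc a * h * a⁻¹ = b * (b⁻¹ * a * h * (b⁻¹ * a)⁻¹) * b⁻¹ := by group
        _ = _ := by rw [e]
  have h1 := tr_mul χ.2 hzC (MonoidAlgebra.single g (1 : ℂ))
  rw [hzC.comm, hz, Finset.mul_sum, tr_sum] at h1
  simp only [MonoidAlgebra.single_mul_single, one_mul, tr_single] at h1
  rw [h1, om, tr_sum]
  simp only [tr_single, one_mul, classFun_irr χ _ _, Finset.sum_const, Finset.card_univ,
    nsmul_eq_mul, Nat.card_eq_fintype_card]
  ring

theorem blockSum_eq_zero_of_not_isConj (hM : IsPModular p M) {B : Set (Cfsg.IrrCharacter G)}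
    (hB : IsPBlock M B) {g h x y : G} (hx : Cfsg.IsPPart p g x) (hy : Cfsg.IsPPart p h y)
    (hne : ¬ IsConj x y) :
    ∑ᶠ χ ∈ B, (χ : G → ℂ) g * (χ : G → ℂ) h⁻¹ = 0 := by
  classical
  have h0 := sum_coeff_eq_zero hM (f := idem B) g h (zr_idem hM hB).int (idem_idem B)
    (fun k => isC_idem B k g) fun a b m hm ha _ =>
      absurd (isConj_pPart hM.1 hx hy hm (c := a) (by
        have := mul_inv_eq_iff_eq_mul.1 ha
        rw [← this]; group)) hne
  simp only [coeff_idem, blockCoeff, finsum_mem_eq_finite_toFinset_sum _ (Set.toFinite B),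
    Finset.mul_sum] at h0
  rw [Finset.sum_comm] at h0
  rw [finsum_mem_eq_finite_toFinset_sum _ (Set.toFinite B)]
  refine Eq.trans (Finset.sum_congr rfl fun χ _ => ?_) h0
  have h1 := congrArg conj (sum_conj_mul χ g⁻¹ h)
  simp only [map_sum, map_mul, map_div₀, map_natCast] at h1
  rw [← Finset.mul_sum, ← Finset.mul_sum,
    show ∑ a : G, conj ((χ : G → ℂ) (g⁻¹ * a * h * a⁻¹)) =
      ∑ a : G, conj ((χ : G → ℂ) (g⁻¹ * (a * h * a⁻¹))) from
        Finset.sum_congr rfl fun a _ => by rw [show g⁻¹ * a * h * a⁻¹ = g⁻¹ * (a * h * a⁻¹) by group],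
    h1, conj_irr, conj_irr, conj_irr, inv_inv, inv_one]
  have h1' := isIrrCharacter_apply_one_ne_zero χ.2
  have h2 : (Nat.card G : ℂ) ≠ 0 := Nat.cast_ne_zero.2 Nat.card_pos.ne'
  field_simp

end Group

end Cfsg.Agent.BrauerBlocksPerm
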