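import Mathlib
import Cfsg.Prelude.Def_Blocks
import Cfsg.Agent.Lib.BrauerBlocksPerm

/-!
# Block orthogonality and independence of the chosen maximal ideal
-/

set_option autoImplicit false

open scoped ComplexConjugate

namespace Cfsg.Agent.BrauerBlocksOrth

open Cfsg.Agent.BrauerBlocksVal Cfsg.Agent.CharBasic Cfsg.Agent.CharBasicOrth
  Cfsg.Agent.BrauerBlocksCentral Cfsg.Agent.BrauerBlocksBasic Cfsg.Agent.BrauerBlocksPerm
  Cfsg.Agent.BrauerBlocksPPart

variable {G : Type*} [Group G] [Fintype G] {p : ℕ} {M : Ideal AlgInt}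

theorem orth_regular_singular (hM : IsPModular p M) {B : Set (Cfsg.IrrCharacter G)}
    (hB : IsPBlock M B) {x y : G} (hx : ¬ p ∣ orderOf x) (hy : p ∣ orderOf y) :
    ∑ᶠ χ ∈ B, (χ : G → ℂ) x * conj ((χ : G → ℂ) y) = 0 := by
  obtain ⟨z, hz⟩ := exists_isPPart hM.1 y
  have hne : ¬ IsConj (1 : G) z := fun hc => by
    have h1 : z = 1 := isConj_one_right.1 hc
    exact (isPPart_one_iff hM.1 hz).2 h1 hy
  have := blockSum_eq_zero_of_not_isConj hM hB (isPPart_of_regular hM.1 hx) hz hne
  simpa only [conj_irr] using this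

theorem orth_singular_regular (hM : IsPModular p M) {B : Set (Cfsg.IrrCharacter G)}
    (hB : IsPBlock M B) {x y : G} (hx : p ∣ orderOf x) (hy : ¬ p ∣ orderOf y) :
    ∑ᶠ χ ∈ B, (χ : G → ℂ) x * conj ((χ : G → ℂ) y) = 0 := by
  have h := congrArg conj (orth_regular_singular hM hB hy hx)
  rw [map_zero, finsum_mem_eq_finite_toFinset_sum _ (Set.toFinite B), map_sum] at h
  rw [finsum_mem_eq_finite_toFinset_sum _ (Set.toFinite B)]
  rw [← h]
  refine Finset.sum_congr rfl fun χ _ => ?_
  rw [map_mul, Complex.conj_conj, mul_comm]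

/-- Block idempotents live on `p`-regular elements. -/
theorem blockCoeff_eq_zero (hM : IsPModular p M) {B : Set (Cfsg.IrrCharacter G)}
    (hB : IsPBlock M B) {g : G} (hg : p ∣ orderOf g) : blockCoeff B g = 0 := by
  rw [blockCoeff, orth_regular_singular hM hB (x := 1) (by simp [hM.1.ne_one]) hg, mul_zero]

theorem regular_of_not_sm (hM : IsPModular p M) {B : Set (Cfsg.IrrCharacter G)}
    (hB : IsPBlock M B) {g : G} (hg : ¬ Sm M (blockCoeff B g)) : ¬ p ∣ orderOf g := fun h =>
  hg (by rw [blockCoeff_eq_zero hM hB h]; exact sm_zero)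

/-- Block idempotents are integral at every maximal ideal over `p`. -/
theorem int'_blockCoeff_of_modular (hM : IsPModular p M) {M' : Ideal AlgInt}
    (hM' : IsPModular p M') {B : Set (Cfsg.IrrCharacter G)} (hB : IsPBlock M' B) (g : G) :
    Int' M (blockCoeff B g) := by
  classical
  by_cases hg : p ∣ orderOf g
  · rw [blockCoeff_eq_zero hM' hB hg]; exact int'_zero
  have : Fact p.Prime := ⟨hM.1⟩
  obtain ⟨P⟩ : Nonempty (Sylow p G) := inferInstance
  set F : G → ℂ := fun h => ∑ᶠ χ ∈ B, (χ : G → ℂ) h * conj ((χ : G → ℂ) g) with hF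
  have hF0 : ∀ u : (P : Subgroup G), u ≠ 1 → F u = 0 := by
    intro u hu
    refine orth_singular_regular hM' hB ?_ hg
    obtain ⟨k, hk⟩ := isPEl_of_mem P.isPGroup' u.2
    rcases k with _ | k
    · exact absurd (Subtype.ext (orderOf_eq_one_iff.1 (by simpa using hk))) hu
    · rw [hk]; exact dvd_pow_self p (Nat.succ_ne_zero k)
  have hsum : ∑ u : (P : Subgroup G), F u = F 1 := by
    rw [Finset.sum_eq_single (1 : (P : Subgroup G)) (fun u _ hu => hF0 u hu) (by simp)]
    rfl
  set Ssum : ℂ := ∑ χ ∈ (Set.toFinite B).toFinset, conj ((χ : G → ℂ) g) *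
      Cfsg.classInner (fun u : (P : Subgroup G) => (χ : G → ℂ) u) (fun _ => 1) with hS
  have hSint : Int' M Ssum := by
    refine int'_sum _ fun χ _ => ?_
    refine (int'_of_isIntegral hM (isIntegral_conj (isIntegral_irr χ g))).mul ?_
    obtain ⟨n, hn⟩ := classInner_isCharacter (G := (P : Subgroup G))
      (isCharacter_comap (P : Subgroup G).subtype (isCharacter_of_isIrrCharacter χ.2))
      (⟨1, 1, by funext u; simp [Representation.character]⟩ :
        Cfsg.IsCharacter (P : Subgroup G) (fun _ => 1))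
    rw [show (fun u : (P : Subgroup G) => (χ : G → ℂ) u) =
      (χ : G → ℂ) ∘ (P : Subgroup G).subtype from rfl, hn]
    exact int'_natCast n
  have hval : (Nat.card (P : Subgroup G) : ℂ) * Ssum = F 1 := by
    rw [hS, Finset.mul_sum, ← hsum]
    simp only [hF, finsum_mem_eq_finite_toFinset_sum _ (Set.toFinite B)]
    rw [Finset.sum_comm]
    refine Finset.sum_congr rfl fun χ _ => ?_
    rw [mul_left_comm, card_mul_classInner, Finset.mul_sum]
    exact Finset.sum_congr rfl fun u _ => by simp [mul_comm]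
  rw [blockCoeff, show (∑ᶠ χ ∈ B, (χ : G → ℂ) 1 * conj ((χ : G → ℂ) g)) = F 1 from rfl, ← hval,
    ← mul_assoc]
  refine Int'.mul ?_ hSint
  have hidx : ¬ p ∣ (P : Subgroup G).index := P.not_dvd_index
  have hmul : (Nat.card (P : Subgroup G) : ℂ) * ((P : Subgroup G).index : ℂ) = (Nat.card G : ℂ) :=
    by exact_mod_cast (P : Subgroup G).card_mul_index
  have hP : (Nat.card (P : Subgroup G) : ℂ) ≠ 0 := Nat.cast_ne_zero.2 Nat.card_pos.ne'
  rw [show (Nat.card G : ℂ)⁻¹ * (Nat.card (P : Subgroup G) : ℂ) =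
    ((P : Subgroup G).index : ℂ)⁻¹ by rw [← hmul]; field_simp]
  exact int'_inv_natCast hM hidx

/-- The partition into blocks does not depend on the maximal ideal. -/
theorem sameBlock_of_modular (hM : IsPModular p M) {M' : Ideal AlgInt} (hM' : IsPModular p M')
    {χ ψ : Cfsg.IrrCharacter G} (h : SameBlock M (χ : G → ℂ) (ψ : G → ℂ)) :
    SameBlock M' (χ : G → ℂ) (ψ : G → ℂ) := by
  refine union_of_blocks hM (S := blockOf M' (χ : G → ℂ)) (fun g => ?_) h (mem_blockOf_self hM' χ)
  rw [coeff_idem]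
  exact int'_blockCoeff_of_modular hM hM' (isPBlock_blockOf χ) g

/-- Characters in different blocks are orthogonal on regular elements. -/
theorem regular_inner_eq_zero (hM : IsPModular p M) {χ ψ : Cfsg.IrrCharacter G}
    (h : ¬ SameBlock M (χ : G → ℂ) (ψ : G → ℂ)) :
    ∑ x ∈ Finset.univ.filter (fun x : G => ¬ p ∣ orderOf x),
      (χ : G → ℂ) x * conj ((ψ : G → ℂ) x) = 0 := by
  classical
  set B := blockOf M (χ : G → ℂ)
  have hB : IsPBlock M B := isPBlock_blockOf χ
  set s := (Set.toFinite B).toFinset with hs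
  set K : G → G → ℂ := fun x y => ∑ φ ∈ s, (φ : G → ℂ) x * conj ((φ : G → ℂ) y) with hK
  have hK0 : ∀ x y, ¬ (¬ p ∣ orderOf x ↔ ¬ p ∣ orderOf y) → K x y = 0 := by
    intro x y hxy
    simp only [hK, hs, ← finsum_mem_eq_finite_toFinset_sum]
    by_cases hx : p ∣ orderOf x
    · exact orth_singular_regular hM hB hx (by tauto)
    · exact orth_regular_singular hM hB hx (by tauto)
  have hrep : ∀ x, ∑ y, (χ : G → ℂ) y * K x y = (Nat.card G : ℂ) * (χ : G → ℂ) x := by
    intro x
    simp only [hK, Finset.mul_sum]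
    rw [Finset.sum_comm, Finset.sum_eq_single χ]
    · calc ∑ y, (χ : G → ℂ) y * ((χ : G → ℂ) x * conj ((χ : G → ℂ) y))
          = (χ : G → ℂ) x * ((Nat.card G : ℂ) * classInner (χ : G → ℂ) χ) := by
            rw [card_mul_classInner, Finset.mul_sum]
            exact Finset.sum_congr rfl fun y _ => by ring
        _ = _ := by rw [classInner_irr_self χ.2]; ring
    · intro φ _ hne
      calc ∑ y, (χ : G → ℂ) y * ((φ : G → ℂ) x * conj ((φ : G → ℂ) y))
          = (φ : G → ℂ) x * ((Nat.card G : ℂ) * classInner (χ : G → ℂ) φ) := by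
            rw [card_mul_classInner, Finset.mul_sum]
            exact Finset.sum_congr rfl fun y _ => by ring
        _ = _ := by rw [classInner_irr_ne χ.2 φ.2 (fun e => hne (Subtype.ext e).symm)]; ring
    · intro hn; exact absurd ((Set.Finite.mem_toFinset _).2 (mem_blockOf_self hM χ)) hn
  have hpsi : ∀ y, ∑ x, K x y * conj ((ψ : G → ℂ) x) = 0 := by
    intro y
    simp only [hK, Finset.sum_mul]
    rw [Finset.sum_comm]
    refine Finset.sum_eq_zero fun φ hφ => ?_
    have hne : φ ≠ ψ := fun e => h (e ▸ (Set.Finite.mem_toFinset _).1 hφ)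
    calc ∑ x, (φ : G → ℂ) x * conj ((φ : G → ℂ) y) * conj ((ψ : G → ℂ) x)
        = conj ((φ : G → ℂ) y) * ((Nat.card G : ℂ) * classInner (φ : G → ℂ) ψ) := by
          rw [card_mul_classInner, Finset.mul_sum]
          exact Finset.sum_congr rfl fun y _ => by ring
      _ = _ := by rw [classInner_irr_ne φ.2 ψ.2 (fun e => hne (Subtype.ext e))]; ring
  set R := Finset.univ.filter (fun x : G => ¬ p ∣ orderOf x) with hR
  refine (mul_eq_zero.1 ?_).resolve_left (Nat.cast_ne_zero.2 (Nat.card_pos (α := G)).ne' : (Nat.card G : ℂ) ≠ 0)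
  calc (Nat.card G : ℂ) * ∑ x ∈ R, (χ : G → ℂ) x * conj ((ψ : G → ℂ) x)
      = ∑ x ∈ R, ∑ y, (χ : G → ℂ) y * (K x y * conj ((ψ : G → ℂ) x)) := by
        rw [Finset.mul_sum]
        refine Finset.sum_congr rfl fun x _ => ?_
        simp only [← mul_assoc, ← Finset.sum_mul, hrep]
    _ = ∑ y ∈ R, ∑ x ∈ R, (χ : G → ℂ) y * (K x y * conj ((ψ : G → ℂ) x)) := by
        rw [Finset.sum_comm]
        refine (Finset.sum_subset (Finset.subset_univ R) fun y _ hy => ?_).symm
        refine Finset.sum_eq_zero fun x hx => ?_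
        rw [hK0 x y (fun e => hy (by simp only [hR, Finset.mem_filter, Finset.mem_univ, true_and] at hx ⊢; exact e.1 hx))]
        simp
    _ = ∑ y ∈ R, (χ : G → ℂ) y * ∑ x, K x y * conj ((ψ : G → ℂ) x) := by
        refine Finset.sum_congr rfl fun y hy => ?_
        rw [Finset.mul_sum]
        refine Finset.sum_subset (Finset.subset_univ R) fun x _ hx => ?_
        rw [hK0 x y (fun e => hx (by simp only [hR, Finset.mem_filter, Finset.mem_univ, true_and] at hy ⊢; exact e.2 hy))]
        simp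
    _ = 0 := by simp [hpsi]

end Cfsg.Agent.BrauerBlocksOrth
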