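import Cfsg.Agent.Lib.BlockTheoryBrauer

/-!
Induced blocks, Brauer's local criterion for their existence, and vanishing consequences of the
second main theorem.
-/

namespace Cfsg.Agent.BlockTheoryInduced

open Cfsg Cfsg.Agent.BlockTheoryLocalRing Cfsg.Agent.BlockTheoryRotation
open Cfsg.Agent.BlockTheoryCentre Cfsg.Agent.BlockTheoryIdem Cfsg.Agent.BlockTheoryBrauer
open scoped ComplexConjugate

attribute [local instance] Classical.propDecidable

variable {p : ℕ} {M : Ideal AlgInt} {G : Type*} [Group G] [Fintype G]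

/-- Congruence on class sums extends to integral central elements. -/
theorem ideal_linear_of_classSum (hM : IsPModular p M) (φ : MonoidAlgebra ℂ G →ₗ[ℂ] ℂ)
    (h : ∀ g, MemLocalIdeal M (φ (classSum g))) {z : MonoidAlgebra ℂ G} (hz : IsCen z)
    (hzi : IsInt M z) : MemLocalIdeal M (φ z) := by
  rw [hz.eq_sum_classSum, map_sum]
  refine ideal_sum hM fun C _ => ?_
  rw [map_smul, smul_eq_mul]
  exact ideal_mul_left hM (hzi _) (h _)

variable (H : Subgroup G) [Fintype H]

/-- The induced-block congruence on all integral central elements. -/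
theorem omega_res_congr (hM : IsPModular p M) (ξ : IrrCharacter H) (χ : IrrCharacter G)
    (h : ∀ g, MemLocalIdeal M (inducedCentralChar H (ξ : H → ℂ) g - centralChar (χ : G → ℂ) g))
    {z : MonoidAlgebra ℂ G} (hz : IsCen z) (hzi : IsInt M z) :
    MemLocalIdeal M (omega (ξ : H → ℂ) (res H z) - omega (χ : G → ℂ) z) := by
  refine ideal_linear_of_classSum hM ((omega (ξ : H → ℂ)).comp (res H) - omega (χ : G → ℂ))
    (fun g => ?_) hz hzi
  rw [LinearMap.sub_apply, LinearMap.comp_apply, omega_res_classSum,
    omega_classSum (irr_classFun χ)]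
  exact h g

/-- The congruence characterising the induced block is independent of the representatives. -/
theorem inducedBlock_congr (hM : IsPModular p M) {b : Set (IrrCharacter H)}
    {B : Set (IrrCharacter G)} (hind : IsInducedBlock M H b B) {ξ : IrrCharacter H} (hξ : ξ ∈ b)
    {χ : IrrCharacter G} (hχ : χ ∈ B) {z : MonoidAlgebra ℂ G} (hz : IsCen z) (hzi : IsInt M z) :
    MemLocalIdeal M (omega (ξ : H → ℂ) (res H z) - omega (χ : G → ℂ) z) :=
  omega_res_congr H hM ξ χ (fun g => hind.2.2 ξ hξ χ hχ g) hz hzi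

omit [Fintype G] [Fintype H] in
/-- A block induces at most one block. -/
theorem inducedBlock_unique (hM : IsPModular p M) {b : Set (IrrCharacter H)}
    {B B' : Set (IrrCharacter G)} (h : IsInducedBlock M H b B) (h' : IsInducedBlock M H b B') :
    B = B' := by
  obtain ⟨ξ, hξ⟩ := block_nonempty hM h.1
  obtain ⟨χ, hχ⟩ := block_nonempty hM h.2.1
  obtain ⟨χ', hχ'⟩ := block_nonempty hM h'.2.1
  refine block_eq_of_sameBlock hM h.2.1 h'.2.1 hχ hχ' fun g => ?_
  have := ideal_sub hM (h'.2.2 ξ hξ χ' hχ' g) (h.2.2 ξ hξ χ hχ g)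
  convert this using 1
  ring

/-- For `P ≤ H ≤ N(P)` the induced central character agrees with the Brauer central character. -/
theorem omega_res_sub_br (hM : IsPModular p M) {P : Subgroup G} (hP : IsPGroup p P) (hPH : P ≤ H)
    (hHN : H ≤ Subgroup.normalizer (P : Set G)) (ξ : IrrCharacter H) {z : MonoidAlgebra ℂ G}
    (hz : IsCen z) (hzi : IsInt M z) :
    MemLocalIdeal M (omega (ξ : H → ℂ) (res H z) - omega (ξ : H → ℂ) (res H (cut P z))) := by
  rw [← map_sub]
  haveI : (P.subgroupOf H).Normal := Subgroup.normal_subgroupOf_of_le_normalizer hHN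
  refine omega_ideal_of_vanish hM (P.subgroupOf H) (hP.comap_subtype)
    ((isCen_res H hz).sub (isCen_br H hHN hz))
    (IsInt.sub hM (isInt_res H hzi) (isInt_res H (isInt_cut hM P hzi))) (fun h hh => ?_) ξ
  have : (h : G) ∈ Subgroup.centralizer (P : Set G) := by
    refine Subgroup.mem_centralizer_iff.mpr fun u hu => ?_
    exact congrArg Subtype.val
      (Subgroup.mem_centralizer_iff.mp hh ⟨u, hPH hu⟩ (Subgroup.mem_subgroupOf.mpr hu))
  simp [coeff_cut, this]

/-- For `P C(P) ≤ H ≤ N(P)` every block of `H` induces a block of `G`. -/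
theorem inducedBlockDefined (hM : IsPModular p M) {P : Subgroup G} (hP : IsPGroup p P)
    (hPH : P ≤ H) (hCH : Subgroup.centralizer (P : Set G) ≤ H)
    (hHN : H ≤ Subgroup.normalizer (P : Set G)) {b : Set (IrrCharacter H)} (hb : IsPBlock M b) :
    InducedBlockDefined M H b := by
  obtain ⟨ξ, hξ⟩ := block_nonempty hM hb
  have hbrc : ∀ {z : MonoidAlgebra ℂ G}, IsCen z → IsCen (res H (cut P z)) :=
    fun hz => isCen_br H hHN hz
  obtain ⟨B, hB, hφ⟩ := exists_block_of_hom hM
    ((omega (ξ : H → ℂ)).comp ((res H).comp (cut P)))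
    (fun z hz hzi => omega_mem_localRing hM ξ (hbrc hz) (isInt_res H (isInt_cut hM P hzi)))
    (fun z w hz hw hzi hwi => by
      simp only [LinearMap.comp_apply]
      rw [← omega_mul ξ (hbrc hz), ← map_sub]
      exact omega_ideal_of_small hM ξ ((hbrc (hz.mul hw)).sub ((hbrc hz).mul (hbrc hw)))
        (br_mul H hM hP hCH hz hw hzi hwi))
    (by
      simp only [LinearMap.comp_apply, cut_one]
      have : res H (1 : MonoidAlgebra ℂ G) = 1 := by
        refine MonoidAlgebra.ext ?_
        ext h
        simp [MonoidAlgebra.one_def, Finsupp.single_apply, OneMemClass.coe_eq_one,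
          eq_comm (a := (1 : H)), eq_comm (a := (1 : G))]
      rw [this, omega_one, sub_self]
      exact ideal_zero hM)
  refine ⟨B, hb, hB, fun η hη χ hχ g => ?_⟩
  have hc := isCen_classSum g
  have hi := isInt_classSum hM g
  have h1 := omega_res_sub_br H hM hP hPH hHN η hc hi
  have h2 := omega_sub_mem hM (sameBlock_of_mem hM hb hη hξ) (hbrc hc)
    (isInt_res H (isInt_cut hM P hi))
  have h3 := hφ χ hχ (classSum g) hc hi
  simp only [LinearMap.comp_apply, omega_classSum (irr_classFun χ)] at h3
  rw [omega_res_classSum] at h1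
  have := ideal_add hM (ideal_add hM h1 h2) h3
  convert this using 1
  ring

omit [Fintype H] in
theorem isInt_idem_compl (hM : IsPModular p M) {B : Set (IrrCharacter G)} (hB : IsPBlock M B) :
    IsInt M (idem Bᶜ) := by
  have h := idem_union_of_disjoint (disjoint_compl_right (a := B))
  rw [Set.union_compl_self, idem_univ] at h
  rw [show idem Bᶜ = 1 - idem B from eq_sub_of_add_eq' h.symm]
  exact IsInt.sub hM (isInt_one hM) (isInt_idem hM hB)

theorem chiSum_incl_mul_single (χ : G → ℂ) (y : MonoidAlgebra ℂ H) (g : G) :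
    chiSum χ (incl H y * MonoidAlgebra.single g 1) =
      ∑ k : H, y.coeff k * χ ((k : G) * g) := by
  conv_lhs => rw [eq_sum_single y, map_sum, Finset.sum_mul, map_sum]
  refine Finset.sum_congr rfl fun k _ => ?_
  simp [incl, MonoidAlgebra.single_mul_single, chiSum_single]

/-- The idempotent form of the second main theorem. -/
theorem second_main_sum (hM : IsPModular p M) {b : Set (IrrCharacter H)}
    {B : Set (IrrCharacter G)} (hind : IsInducedBlock M H b B) (h : H)
    (hC : ∀ z : G, IsPPart p (h : G) z → Subgroup.centralizer ({z} : Set G) ≤ H)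
    (χ : IrrCharacter G) (hχ : χ ∉ B) :
    ∑ k : H, blockCoeff b k * (χ : G → ℂ) ((k : G) * (h : G)) = 0 := by
  obtain ⟨z, y, hzy, hcom, hz, hy⟩ := exists_pPart hM.1 (h : G)
  have hzH := hC z ⟨y, hzy, hcom, hz, hy⟩
  have hzmem : z ∈ H := hzH (Subgroup.mem_centralizer_singleton_iff.mpr rfl)
  have hymem : y ∈ H := by
    have : y = z⁻¹ * (h : G) := by rw [← hzy]; group
    rw [this]; exact mul_mem (inv_mem hzmem) h.2
  have := second_main hM H hind.1 Bᶜ (isInt_idem_compl hM hind.2.1) (fun ξ hξ => ?_) z
    ⟨y, hymem⟩ hz hcom hy hzH χ hχ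
  · have e : MonoidAlgebra.single z (1 : ℂ) * incl H (idem b) =
        incl H (idem b) * MonoidAlgebra.single z 1 := by
      have e1 : MonoidAlgebra.single z (1 : ℂ) = incl H (MonoidAlgebra.single ⟨z, hzmem⟩ 1) := by
        simp [incl]
      rw [e1, ← map_mul, ← map_mul, (isCen_idem b).comm]
    rw [e, mul_assoc, MonoidAlgebra.single_mul_single, one_mul, hzy,
      chiSum_incl_mul_single] at this
    exact this
  · obtain ⟨χ', hχ'⟩ := block_nonempty hM hind.2.1
    have h1 := inducedBlock_congr H hM hind hξ hχ' (isCen_idem Bᶜ)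
      (isInt_idem_compl hM hind.2.1)
    rwa [omega_idem, if_neg (fun h2 => h2 hχ'), sub_zero] at h1

/-- The block part of a class function through the block idempotent. -/
theorem sum_blockCoeff_mul (B : Set (IrrCharacter G)) {f : G → ℂ} (hf : IsClassFunction G f)
    (y : G) :
    ∑ k : G, blockCoeff B k * f (k * y) =
      ∑ χ : IrrCharacter G, if χ ∈ B then classInner f (χ : G → ℂ) * (χ : G → ℂ) y else 0 := by
  have e : ∑ k : G, blockCoeff B k * f (k * y) =
      chiSum f (idem B * MonoidAlgebra.single y 1) := by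
    conv_rhs => rw [eq_sum_single (idem B), Finset.sum_mul, map_sum]
    refine Finset.sum_congr rfl fun k _ => ?_
    rw [MonoidAlgebra.single_mul_single, chiSum_single, mul_one, coeff_idem]
  rw [e]
  conv_lhs => rw [CharBasicOrth.eq_sum_classInner hf]
  have h : ∀ w : MonoidAlgebra ℂ G,
      chiSum (∑ χ : IrrCharacter G, classInner f (χ : G → ℂ) • (χ : G → ℂ)) w =
        ∑ χ : IrrCharacter G, classInner f (χ : G → ℂ) * chiSum (χ : G → ℂ) w := by
    intro w
    simp only [chiSum_apply, Finset.sum_apply, Pi.smul_apply, smul_eq_mul, Finset.mul_sum]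
    rw [Finset.sum_comm]
    exact Finset.sum_congr rfl fun χ _ => Finset.sum_congr rfl fun g _ => by ring
  rw [h]
  refine Finset.sum_congr rfl fun χ _ => ?_
  rw [chiSum_idem_mul, chiSum_single, one_mul]
  split_ifs <;> simp

end Cfsg.Agent.BlockTheoryInduced
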