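import Mathlib
import Cfsg.Agent.Lib.ZStarPrincipal
import Cfsg.Agent.Lib.BlockTheoryInduced
import Cfsg.Agent.Lib.BrauerBlocksOrth
import Cfsg.Agent.S0923
import Cfsg.Agent.Lib.CharInducedBasic

/-!
# Characters on the section of a `p`-element and the principal block

A character outside the principal block averages to zero on `u * K` when `K` is the set of
`p`-regular elements of `C(u)`.  A block of a subgroup inducing a block of the group is principal
if and only if the induced block is (third main theorem for inducing blocks), and the resulting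
restriction on the section of a `p`-element.
-/

set_option autoImplicit false

open scoped ComplexConjugate

namespace Cfsg.Agent.ZStarSection

open Cfsg Cfsg.Agent.BlockTheoryLocalRing Cfsg.Agent.BlockTheoryRotation
  Cfsg.Agent.BlockTheoryCentre Cfsg.Agent.BlockTheoryIdem Cfsg.Agent.BlockPrincipal81
  Cfsg.Agent.ZStarPrincipal Cfsg.Agent.BlockTheoryBrauer

attribute [local instance] Classical.propDecidable

universe u

variable {G : Type u} [Group G] [Fintype G] {p : ℕ} {M : Ideal AlgInt}

/-- Outside the principal block characters average to zero on `u * K`, when `K` consists of the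
regular elements of the centralizer of `u`. -/
theorem apply_average_eq_zero [Fact p.Prime] (hM : IsPModular p M) {u : G}
    (hu : ∃ k, orderOf u = p ^ k) {K : Subgroup G} (hKC : ∀ k ∈ K, Commute u k)
    (hK : ¬ p ∣ Nat.card K) (hKn : ∀ g, Commute u g → ∀ k ∈ K, g * k * g⁻¹ ∈ K)
    (hreg : ∀ g, Commute u g → ¬ p ∣ orderOf g → g ∈ K)
    {χ : IrrCharacter G} (hχ : χ ∉ principalBlock M G) :
    ∑ k : K, (χ : G → ℂ) (u * k) = 0 := by
  set e := idem (principalBlock M G) with he
  have heb : IsPBlock M (principalBlock M G) := isPBlock_principal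
  set f := (1 - e) * avg K with hf
  have h1sq : (1 - e) * (1 - e) = 1 - e := by
    rw [mul_sub, sub_mul, sub_mul, one_mul, one_mul, mul_one, he, idem_sq]; abel
  have hecen : IsCen (1 - e) := isCen_one.sub (isCen_idem _)
  have hff : f * f = f := by
    rw [hf, mul_assoc, ← mul_assoc (avg K), ← hecen.comm (avg K), mul_assoc (1 - e) (avg K),
      ← mul_assoc, h1sq, avg_sq]
  have hfi : IsInt M f :=
    IsInt.mul hM (IsInt.sub hM (isInt_one hM) (isInt_idem hM heb)) (isInt_avg hM K hK)
  have hcomm : ∀ v : G, Commute u v →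
      MonoidAlgebra.single v 1 * f = f * MonoidAlgebra.single v 1 := by
    intro v hv
    rw [hf, ← mul_assoc, ← hecen.comm (MonoidAlgebra.single v 1), mul_assoc, mul_assoc,
      single_mul_avg K (hKn v hv)]
  have hpreg : ∀ k ∈ K, ¬ p ∣ orderOf k := fun k hk h =>
    hK (h.trans (Subgroup.orderOf_dvd_natCard K hk))
  have hconst : ∀ k ∈ K, MemLocalIdeal M (blockCoeff (principalBlock M G) k -
      blockCoeff (principalBlock M G) 1) := by
    intro k hk
    have := idem_translate hM hu hKC hK hKn (Commute.one_right u) hk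
    rwa [one_mul] at this
  have hzero : ∀ g, Commute u g → g ∉ K → blockCoeff (principalBlock M G) g = 0 := fun g hg hgK =>
    blockCoeff_eq_zero_of_dvd hM heb (by_contra fun hn => hgK (hreg g hg hn))
  -- the coefficient of the principal idempotent at `1`
  have hone : MemLocalIdeal M ((Nat.card K : ℂ) * blockCoeff (principalBlock M G) 1 - 1) := by
    have hQ : IsPGroup p (Subgroup.zpowers u) := by
      obtain ⟨j, hj⟩ := hu
      exact IsPGroup.iff_card.2 ⟨j, by rw [Nat.card_zpowers, hj]⟩
    have h1 := ideal_sum_sub_centralizer hM hQ (W := fun x => blockCoeff (principalBlock M G) x)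
      (fun v _ x => by
        have := isCen_idem (principalBlock M G) x v
        simpa only [coeff_idem] using this)
      (fun x => by simpa only [coeff_idem] using isInt_idem hM heb x)
    rw [sum_blockCoeff hM] at h1
    have h2 : ∑ x : Subgroup.centralizer (Subgroup.zpowers u : Set G),
        blockCoeff (principalBlock M G) x = ∑ k : K, blockCoeff (principalBlock M G) k := by
      rw [← Finset.sum_subtype (Finset.univ.filter fun x : G =>
        x ∈ Subgroup.centralizer (Subgroup.zpowers u : Set G)) (fun x => by simp)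
        (fun x => blockCoeff (principalBlock M G) x),
        ← Finset.sum_subtype (Finset.univ.filter fun x : G => x ∈ K) (fun x => by simp)
        (fun x => blockCoeff (principalBlock M G) x)]
      have hc : ∀ x : G, x ∈ Subgroup.centralizer (Subgroup.zpowers u : Set G) ↔ Commute u x := by
        intro x
        rw [Subgroup.zpowers_eq_closure, Subgroup.centralizer_closure,
          Subgroup.mem_centralizer_singleton_iff]
        exact eq_comm
      refine (Finset.sum_subset (fun x hx => ?_) fun x hx hx' => ?_).symm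
      · simp only [Finset.mem_filter, Finset.mem_univ, true_and] at hx ⊢
        exact (hc x).2 (hKC x hx)
      · simp only [Finset.mem_filter, Finset.mem_univ, true_and] at hx hx'
        exact hzero x ((hc x).1 hx) hx'
    rw [h2] at h1
    have h3 : MemLocalIdeal M (∑ k : K, (blockCoeff (principalBlock M G) k -
        blockCoeff (principalBlock M G) 1)) := ideal_sum hM fun k _ => hconst k k.2
    rw [Finset.sum_sub_distrib, Finset.sum_const, Finset.card_univ, nsmul_eq_mul,
      ← Nat.card_eq_fintype_card] at h3
    have := ideal_neg (ideal_add hM h1 h3)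
    convert this using 1
    ring
  have hK0 : (Nat.card K : ℂ) ≠ 0 := Nat.cast_ne_zero.2 Nat.card_pos.ne'
  have hbr : ∀ g, Commute u g → MemLocalIdeal M (f.coeff g) := by
    intro g hg
    have hcoef : f.coeff g = (Nat.card K : ℂ)⁻¹ * ∑ k : K,
        ((if g * (k : G)⁻¹ = 1 then (1 : ℂ) else 0) -
          blockCoeff (principalBlock M G) (g * (k : G)⁻¹)) := by
      rw [hf, avg, Algebra.mul_smul_comm, MonoidAlgebra.coeff_smul_apply, smul_eq_mul,
        Finset.mul_sum (a := 1 - e), MonoidAlgebra.coeff_sum, Finset.sum_apply']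
      congr 1
      refine Finset.sum_congr rfl fun k _ => ?_
      rw [MonoidAlgebra.coeff_mul_single_eq_coeff_mul (g * (k : G)⁻¹)
        (fun m' _ => eq_mul_inv_iff_mul_eq.symm), mul_one, MonoidAlgebra.coeff_sub, Finsupp.sub_apply,
        he, coeff_idem, MonoidAlgebra.one_def, MonoidAlgebra.coeff_single, Finsupp.single_apply]
      simp only [eq_comm]
    rw [hcoef]
    refine ideal_mul_left hM (inv_natCast_mem hM hK) ?_
    by_cases hgK : g ∈ K
    · have h1 : ∑ k : K, (if g * (k : G)⁻¹ = 1 then (1 : ℂ) else 0) = 1 := by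
        rw [Finset.sum_eq_single (⟨g, hgK⟩ : K)]
        · simp
        · intro k _ hne
          rw [if_neg]
          exact fun h => hne (Subtype.ext (mul_inv_eq_one.1 h).symm)
        · simp
      rw [Finset.sum_sub_distrib, h1]
      have h3 : MemLocalIdeal M (∑ k : K, (blockCoeff (principalBlock M G) (g * (k : G)⁻¹) -
          blockCoeff (principalBlock M G) 1)) :=
        ideal_sum hM fun k _ => hconst _ (mul_mem hgK (inv_mem k.2))
      rw [Finset.sum_sub_distrib, Finset.sum_const, Finset.card_univ, nsmul_eq_mul,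
        ← Nat.card_eq_fintype_card] at h3
      have := ideal_neg (ideal_add hM h3 hone)
      convert this using 1
      ring
    · rw [Finset.sum_eq_zero fun k _ => ?_]
      · exact ideal_zero hM
      · have hne : g * (k : G)⁻¹ ∉ K := fun h => hgK (by simpa using mul_mem h k.2)
        have hne1 : g * (k : G)⁻¹ ≠ 1 := fun h => hne (h ▸ K.one_mem)
        rw [if_neg hne1, hzero _ (hg.mul_right (hKC k k.2).inv_right) hne, sub_zero]
  have hs : ¬ p ∣ orderOf (1 : G) := by simpa using hM.1.ne_one
  have h0 : chiSum (χ : G → ℂ) (MonoidAlgebra.single u 1 * f * MonoidAlgebra.single (1 : G) 1) = 0 := by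
    rw [chiSum_eq_sum_classCoeff (irr_classFun χ)]
    refine Finset.sum_eq_zero fun C _ => ?_
    rw [classCoeff_single_mul_idem_eq_zero hM u 1 C.out hu (Commute.one_right u) hs f hff hfi
      (hcomm u (Commute.refl u)) (hcomm 1 (Commute.one_right u)) (Or.inr hbr), mul_zero]
  rw [hf, ← mul_assoc (MonoidAlgebra.single u 1), ← hecen.comm (MonoidAlgebra.single u 1),
    mul_assoc (1 - e), mul_assoc (1 - e), sub_mul, one_mul, map_sub, he, chiSum_idem_mul, if_neg hχ,
    sub_zero, chiSum_single_mul_avg, mul_eq_zero] at h0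
  refine Eq.trans ?_ (h0.resolve_left (inv_ne_zero hK0))
  exact Finset.sum_congr rfl fun k _ => by rw [mul_one]

theorem res_zReg (H : Subgroup G) [Fintype H] : res H (zReg p G) = zReg p H := by
  refine MonoidAlgebra.ext ?_
  ext h
  rw [coeff_res, coeff_zReg, coeff_zReg, Subgroup.orderOf_coe]

/-- A block inducing a block is principal if and only if the induced block is. -/
theorem principal_iff_of_induced [Fact p.Prime] (hM : IsPModular p M) {H : Subgroup G} [Fintype H]
    {b : Set (IrrCharacter H)} {B : Set (IrrCharacter G)} (hind : IsInducedBlock M H b B) :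
    b = principalBlock M H ↔ B = principalBlock M G := by
  have key : ∀ ξ ∈ b, ∀ χ ∈ B, MemLocalIdeal M
      (omega (ξ : H → ℂ) (zReg p H) - omega (χ : G → ℂ) (zReg p G)) := fun ξ hξ χ hχ => by
    have := BlockTheoryInduced.inducedBlock_congr H hM hind hξ hχ isCen_zReg (isInt_zReg hM)
    rwa [res_zReg] at this
  constructor
  · intro hb
    by_contra hB
    obtain ⟨χ, hχ⟩ := block_nonempty hM hind.2.1
    have hχ0 : χ ∉ principalBlock M G := fun h =>
      hB (block_eq_of_mem hM hind.2.1 isPBlock_principal hχ h)
    have h1 := key (oneChar H) (hb ▸ oneChar_mem hM) χ hχ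
    rw [omega_one_zReg, omega_zReg_eq_zero hM hχ0, sub_zero, natCast_mem_iff hM] at h1
    exact not_dvd_regCard h1
  · intro hB
    by_contra hb
    obtain ⟨ξ, hξ⟩ := block_nonempty hM hind.1
    have hξ0 : ξ ∉ principalBlock M H := fun h =>
      hb (block_eq_of_mem hM hind.1 isPBlock_principal hξ h)
    have h1 := ideal_neg (key ξ hξ (oneChar G) (hB ▸ oneChar_mem hM))
    rw [omega_one_zReg, omega_zReg_eq_zero hM hξ0, zero_sub, neg_neg, natCast_mem_iff hM] at h1
    exact not_dvd_regCard h1

/-- On the section of `x` the function `c ↦ χ (x * c)` lives in the principal block of `C(x)` when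
`χ` is in the principal block, and away from it otherwise. -/
theorem section_blockPart [hp : Fact p.Prime] (hM : IsPModular p M) {x : G}
    (hx : ∃ k, orderOf x = p ^ k) (χ : IrrCharacter G)
    [Fintype (Subgroup.centralizer ({x} : Set G))]
    (y : Subgroup.centralizer ({x} : Set G)) (hy : ¬ p ∣ orderOf y) :
    ∑ ψ : IrrCharacter (Subgroup.centralizer ({x} : Set G)),
      (if ψ ∈ principalBlock M (Subgroup.centralizer ({x} : Set G)) ↔ χ ∈ principalBlock M G then 0
        else classInner (fun c : Subgroup.centralizer ({x} : Set G) => (χ : G → ℂ) (x * (c : G))) (ψ : _ → ℂ) *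
          (ψ : _ → ℂ) y) = 0 := by
  rw [← Finset.sum_fiberwise Finset.univ (fun ψ : IrrCharacter (Subgroup.centralizer ({x} : Set G)) => blockOf M (ψ : (Subgroup.centralizer ({x} : Set G)) → ℂ))]
  refine Finset.sum_eq_zero fun b _ => ?_
  by_cases hne : ∃ φ : IrrCharacter (Subgroup.centralizer ({x} : Set G)), blockOf M (φ : (Subgroup.centralizer ({x} : Set G)) → ℂ) = b
  swap
  · refine Finset.sum_eq_zero fun ψ hψ => absurd ⟨ψ, (Finset.mem_filter.1 hψ).2⟩ hne
  obtain ⟨φ, hφ⟩ := hne
  have hb : IsPBlock M b := hφ ▸ isPBlock_blockOf φ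
  have hmem : ∀ ψ : IrrCharacter (Subgroup.centralizer ({x} : Set G)), blockOf M (ψ : (Subgroup.centralizer ({x} : Set G)) → ℂ) = b ↔ ψ ∈ b := fun ψ =>
    ⟨fun h => h ▸ self_mem_blockOf hM ψ, fun h => (eq_blockOf_of_mem hM hb h).symm⟩
  have hprin : ∀ ψ ∈ b, (ψ ∈ principalBlock M (Subgroup.centralizer ({x} : Set G)) ↔ b = principalBlock M (Subgroup.centralizer ({x} : Set G))) := fun ψ hψ =>
    ⟨fun h => block_eq_of_mem hM hb isPBlock_principal hψ h, fun h => h ▸ hψ⟩
  by_cases hmatch : b = principalBlock M (Subgroup.centralizer ({x} : Set G)) ↔ χ ∈ principalBlock M G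
  · refine Finset.sum_eq_zero fun ψ hψ => if_pos ?_
    rw [hprin ψ ((hmem ψ).1 (Finset.mem_filter.1 hψ).2)]
    exact hmatch
  · set B := blockOf M (χ : G → ℂ)
    have hnot : ¬ IsInducedBlock M (Subgroup.centralizer ({x} : Set G)) b B := fun hind => hmatch (by
      rw [principal_iff_of_induced hM hind]
      exact ⟨fun h => h ▸ self_mem_blockOf hM χ,
        fun h => block_eq_of_mem hM (isPBlock_blockOf χ) isPBlock_principal (self_mem_blockOf hM χ) h⟩)
    have h0 := S0923.result p M hM x hx B (isPBlock_blockOf χ) χ (self_mem_blockOf hM χ) b hb hnot y hy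
    simp only [blockPart] at h0
    rw [BlockTheoryIdem.finsum_mem_eq_sum] at h0
    refine Eq.trans ?_ h0
    rw [Finset.sum_filter]
    refine Finset.sum_congr rfl fun ψ _ => ?_
    by_cases hψ : ψ ∈ b
    · rw [if_pos ((hmem ψ).2 hψ), if_pos hψ, if_neg (fun h => hmatch ((hprin ψ hψ).symm.trans h))]
      exact congrArg (· * _) (Cfsg.Agent.CharInduced.inner_inst_irrel _ _ _ _)
    · rw [if_neg (fun h => hψ ((hmem ψ).1 h)), if_neg hψ]

end Cfsg.Agent.ZStarSection
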