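import Mathlib
import Cfsg.Agent.Lib.ZStarLocal
import Cfsg.Agent.Lib.ZStarSection
import Cfsg.Agent.Lib.ZStarQ16

/-!
# Quaternion Sylow subgroup of order 8 with all elements of order four conjugate
-/

set_option autoImplicit false

open scoped ComplexConjugate

namespace Cfsg.Agent.ZStarFused

open Cfsg Cfsg.Agent.ZStarLocal Cfsg.Agent.CharBasicOrth Cfsg.Agent.CharBasicDecomp
  Cfsg.Agent.CharInduced Cfsg.Agent.BlockTheoryCentre Cfsg.Agent.BlockPrincipal81

attribute [local instance] Classical.propDecidable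

universe u

variable {G : Type u} [Group G]

theorem trivIrr_mem {p : ℕ} {M : Ideal AlgInt} (hM : IsPModular p M) :
    trivIrr G ∈ principalBlock M G := oneChar_mem hM

/-- In a group with quaternion Sylow subgroup of order 8, every element of order divisible by four
has a power of order exactly four. -/
theorem exists_pow_order_four [Finite G] (g : G) (h : 4 ∣ orderOf g) :
    orderOf (g ^ (orderOf g / 4)) = 4 := by
  obtain ⟨m, hm⟩ := h
  have hpos := orderOf_pos g
  rw [hm, Nat.mul_div_cancel_left _ (by norm_num), orderOf_pow' g (by omega), hm,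
    Nat.gcd_eq_right (dvd_mul_left m 4), Nat.mul_div_cancel _ (by omega)]

theorem conj_pow_eq (y x : G) (k : ℕ) : (y⁻¹ * x * y) ^ k = y⁻¹ * x ^ k * y := by
  have := conj_pow (i := k) (a := y⁻¹) (b := x)
  rwa [inv_inv] at this

/-- Every element of order four is conjugate to `a`. -/
theorem isConj_a [Finite G] {S : Sylow 2 G} {a : G}
    (hfus : ∀ s ∈ (S : Subgroup G), orderOf s = 4 → IsConj a s) {g : G} (hg : orderOf g = 4) :
    IsConj a g := by
  have : Fact (Nat.Prime 2) := ⟨Nat.prime_two⟩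
  obtain ⟨T, hT⟩ := (IsPGroup.of_card (n := 2) (by rw [Nat.card_zpowers, hg]; norm_num) :
    IsPGroup 2 (Subgroup.zpowers g)).exists_le_sylow
  obtain ⟨x, rfl⟩ := MulAction.exists_smul_eq G S T
  have hx := hT (Subgroup.mem_zpowers g)
  rw [Sylow.coe_subgroup_smul, Subgroup.mem_pointwise_smul_iff_inv_smul_mem, ← map_inv,
    MulAut.smul_def, MulAut.conj_apply] at hx
  exact (hfus _ hx (by rw [ZStarBasic.orderOf_conj_eq, hg])).trans
    (isConj_iff.2 ⟨x, by group⟩)

/-- The class function which is four on the elements of order divisible by four: its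
constituents, and the principal block on those elements. -/
theorem fused_data [Fintype G] {M : Ideal AlgInt} (hM : IsPModular 2 M) {S : Sylow 2 G} {a b : G}
    (h : Gens (S : Subgroup G) a b 1)
    (hfus : ∀ s ∈ (S : Subgroup G), orderOf s = 4 → IsConj a s) :
    ∃ m : IrrCharacter G → ℤ, m (trivIrr G) = 1 ∧ (∑ χ, m χ * m χ) = 4 ∧
      (∀ χ, m χ ≠ 0 → χ ∈ principalBlock M G) ∧
      (∀ χ : IrrCharacter G, χ ∈ principalBlock M G → ∀ g, 4 ∣ orderOf g →
        (χ : G → ℂ) g = m χ) ∧
      ∀ g, ∑ χ : IrrCharacter G, (m χ : ℂ) * (χ : G → ℂ) g = if 4 ∣ orderOf g then 4 else 0 := by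
  have : Fact (Nat.Prime 2) := ⟨Nat.prime_two⟩
  have horda : orderOf a = 4 := h.order
  have hfin : IsOfFinOrder a := orderOf_pos_iff.1 (by rw [horda]; norm_num)
  have ha2 : a * a ≠ 1 := by
    have := h.z_ne_one
    rwa [pow_one, pow_two] at this
  let ω : ℂˣ := Units.mk0 Complex.I Complex.I_ne_zero
  have hω4 : ω ^ 4 = 1 := Units.ext (by simp [ω])
  set H := Subgroup.centralizer ({a} : Set G) with hH
  obtain ⟨ha, μ, ⟨e, he, hμa⟩, hμω, hbH, hconj, hNd⟩ :
      ∃ (ha : a ∈ H) (μ : H →* ℂˣ),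
        (∃ m, Odd m ∧ μ ⟨a, ha⟩ = ω ^ m) ∧ (∀ x, μ x ∈ Subgroup.zpowers ω) ∧ b ∉ H ∧
        (∀ x : H, (∃ k, orderOf x = 2 ^ k) →
          ∃ y : H, ((y * x * y⁻¹ : H) : G) ∈ Subgroup.zpowers a) ∧
        ∀ g ∈ Subgroup.normalizer (Subgroup.zpowers a : Set G), g ∈ H ∨ b * g ∈ H :=
    exists_linear h (Subgroup.mem_zpowers a) ha2 ω hω4
  let A : H := ⟨a, ha⟩
  have hμ4 : ∀ x : H, μ x ^ 4 = 1 := fun x => by
    obtain ⟨k, hk⟩ := Subgroup.mem_zpowers_iff.1 (hμω x)
    rw [← hk, ← zpow_natCast, ← zpow_mul, mul_comm, zpow_mul, zpow_natCast, hω4, one_zpow]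
  have hμA2 : μ A ^ 2 = -1 := by
    apply Units.ext
    show ((μ ⟨a, ha⟩ : ℂˣ) ^ 2 : ℂˣ).val = ((-1 : ℂˣ) : ℂ)
    rw [hμa, ← pow_mul, mul_comm, pow_mul, Units.val_pow_eq_pow_val]
    simp [ω, Complex.I_sq, he.neg_one_pow]
  have hneg : (-1 : ℂˣ) ≠ 1 := fun h1 => by
    have : ((-1 : ℂ)) = 1 := by simpa using congrArg Units.val h1
    norm_num at this
  have hcomm : ∀ x : H, Commute a (x : G) := fun x =>
    (Subgroup.mem_centralizer_singleton_iff.1 x.2).symm
  -- two-elements of `H` lie in `zpowers a`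
  have htwo : ∀ x : H, (∃ k, orderOf x = 2 ^ k) → ∃ i : ℕ, x = A ^ i := by
    intro x hx
    obtain ⟨y, hy⟩ := hconj x hx
    obtain ⟨i, hi⟩ := hfin.mem_powers_iff_mem_zpowers.2 hy
    refine ⟨i, Subtype.ext ?_⟩
    have hi' : a ^ i = (y : G) * x * (y : G)⁻¹ := by simpa using hi
    calc (x : G) = (y : G)⁻¹ * a ^ i * y := by rw [hi']; group
      _ = (y : G)⁻¹ * (y * a ^ i) := by
        rw [mul_assoc, ((hcomm y).pow_left i).eq]
      _ = ((A ^ i : H) : G) := by simp [A]
  have hkerodd : ∀ x : H, μ x = 1 → ¬ 2 ∣ orderOf x := by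
    rintro x hx ⟨m, hm⟩
    have hm0 : 0 < m := by have := orderOf_pos x; omega
    have ht : orderOf (x ^ m) = 2 := by
      rw [orderOf_pow' x hm0.ne', hm, Nat.gcd_eq_right (dvd_mul_left m 2), Nat.mul_div_cancel _ hm0]
    obtain ⟨i, hi⟩ := htwo _ ⟨1, by rw [ht, pow_one]⟩
    have hμi : μ A ^ i = 1 := by rw [← map_pow, ← hi, map_pow, hx, one_pow]
    have hAo : orderOf A = 4 := by rw [Subgroup.orderOf_mk, horda]
    rcases Nat.even_or_odd' i with ⟨k, rfl | rfl⟩
    · rcases Nat.even_or_odd' k with ⟨l, rfl | rfl⟩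
      · rw [hi, show 2 * (2 * l) = 4 * l by ring, pow_mul, ← hAo, pow_orderOf_eq_one, one_pow,
          orderOf_one] at ht
        omega
      · rw [pow_mul, hμA2, Odd.neg_one_pow ⟨l, rfl⟩] at hμi
        exact hneg hμi
    · apply hneg
      have h2 : (μ A ^ (2 * k + 1)) ^ 2 = 1 := by rw [hμi, one_pow]
      rwa [← pow_mul, mul_comm, pow_mul, hμA2, Odd.neg_one_pow ⟨k, rfl⟩] at h2
  have hoddker : ∀ x : H, ¬ 2 ∣ orderOf x → μ x = 1 := by
    intro x hx
    refine orderOf_eq_one_iff.1 (Nat.eq_one_of_dvd_coprimes ?_ (orderOf_map_dvd μ x)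
      (orderOf_dvd_of_pow_eq_one (hμ4 x)))
    exact Nat.Coprime.pow_right 2 (Nat.coprime_two_right.2 (by rwa [Nat.odd_iff, ← Nat.two_dvd_ne_zero]))
  have h4iff : ∀ x : H, μ x ^ 2 = if 4 ∣ orderOf x then -1 else 1 := by
    intro x
    by_cases h4 : 4 ∣ orderOf x
    · rw [if_pos h4]
      have hne : μ x ^ 2 ≠ 1 := by
        intro h1
        refine hkerodd (x ^ 2) (by rw [map_pow, h1]) ?_
        obtain ⟨m, hm⟩ := h4
        have := orderOf_pos x
        rw [orderOf_pow' x two_ne_zero, hm, Nat.gcd_eq_right (dvd_mul_of_dvd_left (by norm_num) m),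
          show 4 * m = 2 * m * 2 by ring, Nat.mul_div_cancel _ two_pos]
        exact dvd_mul_right 2 m
      apply Units.ext
      have h2 : ((μ x ^ 2 : ℂˣ) : ℂ) * ((μ x ^ 2 : ℂˣ) : ℂ) = 1 := by
        rw [← Units.val_mul, ← pow_add, hμ4, Units.val_one]
      have h3 : (((μ x ^ 2 : ℂˣ) : ℂ) - 1) * (((μ x ^ 2 : ℂˣ) : ℂ) + 1) = 0 := by linear_combination h2
      rcases mul_eq_zero.1 h3 with h5 | h5
      · exact absurd (Units.ext (by rw [sub_eq_zero.1 h5, Units.val_one])) hne
      · rw [eq_neg_of_add_eq_zero_left h5]; simp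
    · rw [if_neg h4]
      by_contra hne
      apply h4
      have h1 : orderOf (μ x) ∣ 2 ^ 2 := orderOf_dvd_of_pow_eq_one (hμ4 x)
      obtain ⟨k, hk, hk'⟩ := (Nat.dvd_prime_pow Nat.prime_two).1 h1
      have h2 : k = 2 := by
        by_contra hk2
        apply hne
        rw [← orderOf_dvd_iff_pow_eq_one, hk']
        exact (Nat.pow_dvd_pow 2 (show k ≤ 1 by omega))
      rw [h2] at hk'
      exact (dvd_of_eq hk'.symm).trans (orderOf_map_dvd μ x)
  -- the odd core
  let K : Subgroup G := μ.ker.map H.subtype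
  have hK_mem : ∀ x : H, (x : G) ∈ K ↔ μ x = 1 := fun x => by
    simp [K, MonoidHom.mem_ker]
  have hKH : ∀ k ∈ K, k ∈ H := fun k hk => by
    obtain ⟨x, -, rfl⟩ := hk; exact x.2
  have hKC : ∀ k ∈ K, Commute a k := fun k hk => hcomm ⟨k, hKH k hk⟩
  have hKodd : ¬ 2 ∣ Nat.card K := by
    intro h2
    obtain ⟨k, hk⟩ := exists_prime_orderOf_dvd_card' 2 h2
    refine hkerodd ⟨k, hKH k k.2⟩ ((hK_mem _).1 k.2) ?_
    rw [Subgroup.orderOf_mk, Subgroup.orderOf_coe, hk]
  have hmemH : ∀ g, Commute a g → g ∈ H := fun g hg =>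
    Subgroup.mem_centralizer_singleton_iff.2 hg.eq.symm
  have hKn : ∀ g, Commute a g → ∀ k ∈ K, g * k * g⁻¹ ∈ K := by
    intro g hg k hk
    refine (hK_mem (⟨g, hmemH g hg⟩ * ⟨k, hKH k hk⟩ * ⟨g, hmemH g hg⟩⁻¹)).2 ?_
    rw [map_mul, map_mul, map_inv, (hK_mem ⟨k, hKH k hk⟩).1 hk, mul_one, mul_inv_cancel]
  have hreg : ∀ g, Commute a g → ¬ 2 ∣ orderOf g → g ∈ K := fun g hg ho =>
    (hK_mem ⟨g, hmemH g hg⟩).2 (hoddker _ (by rwa [Subgroup.orderOf_mk]))
  -- conjugation by `b`
  have hbab : b * a * b⁻¹ = a⁻¹ := (h.inv b h.b_mem h.not_mem).1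
  have hbainv : b * a⁻¹ * b⁻¹ = a := by rw [← conj_inv, hbab, inv_inv]
  have hbK : ∀ k ∈ K, b * k * b⁻¹ ∈ K := by
    intro k hk
    refine hreg _ ?_ ?_
    · have h1 := (hKC k hk).inv_left.conj b
      rwa [hbainv] at h1
    · rw [ZStarBasic.orderOf_conj_eq]
      exact fun h2 => hKodd (h2.trans (Subgroup.orderOf_dvd_natCard K hk))
  -- elements of order divisible by four in `H`
  have hdec : ∀ x : H, 4 ∣ orderOf x → ∃ k ∈ K, (x : G) = a * k ∨ (x : G) = a⁻¹ * k := by
    intro x h4
    have hm : μ x ^ 2 = μ A ^ 2 := by rw [h4iff, if_pos h4, hμA2]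
    have h3 : (((μ x : ℂˣ) : ℂ) - μ A) * ((μ x : ℂ) + μ A) = 0 := by
      have := congrArg Units.val hm
      simp only [Units.val_pow_eq_pow_val] at this
      linear_combination this
    rcases mul_eq_zero.1 h3 with h5 | h5
    · refine ⟨a⁻¹ * x, (hK_mem (A⁻¹ * x)).2 ?_, Or.inl (by group)⟩
      rw [map_mul, map_inv, inv_mul_eq_one]
      exact Units.ext (sub_eq_zero.1 h5).symm
    · refine ⟨a * x, (hK_mem (A * x)).2 ?_, Or.inr (by group)⟩
      apply Units.ext
      have h6 := congrArg Units.val hμA2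
      rw [Units.val_pow_eq_pow_val, Units.val_neg, Units.val_one] at h6
      rw [map_mul, Units.val_mul, eq_neg_of_add_eq_zero_left h5, Units.val_one]
      linear_combination -h6
  -- the induced function
  let β : H → ℂ := fun x => 1 - ((μ x ^ 2 : ℂˣ) : ℂ)
  have hβ : ∀ x : H, β x = if 4 ∣ orderOf x then 2 else 0 := fun x => by
    show 1 - ((μ x ^ 2 : ℂˣ) : ℂ) = _
    rw [h4iff]
    split_ifs <;> simp; norm_num
  have hβg : IsGeneralizedCharacter H β :=
    ⟨fun _ => 1, fun x => ((μ x ^ 2 : ℂˣ) : ℂ), CharBasicDecomp.isCharacter_one,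
      isCharacter_linear ((powMonoidHom 2).comp μ), rfl⟩
  set F := indFun H β with hF
  have hH4 : ∀ x : H, orderOf x = 4 → (x : G) = a ∨ (x : G) = a⁻¹ := by
    intro x hx
    obtain ⟨i, rfl⟩ := htwo x ⟨2, hx⟩
    have hAo : orderOf A = 4 := by rw [Subgroup.orderOf_mk, horda]
    rw [SubgroupClass.coe_pow]
    show a ^ i = a ∨ a ^ i = a⁻¹
    have hmod := pow_mod_orderOf A i
    rw [hAo] at hmod
    have hcop : ¬ 2 ∣ i := by
      intro h2
      obtain ⟨k, rfl⟩ := h2
      have : orderOf (A ^ (2 * k)) ∣ 2 := orderOf_dvd_of_pow_eq_one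
        (by rw [← pow_mul, show 2 * k * 2 = 4 * k by ring, pow_mul, ← hAo, pow_orderOf_eq_one, one_pow])
      rw [hx] at this
      exact absurd this (by decide)
    have h13 : i % 4 = 1 ∨ i % 4 = 3 := by omega
    rcases h13 with h1 | h1
    · exact Or.inl (by rw [← pow_mod_orderOf, horda, h1, pow_one])
    · refine Or.inr (eq_inv_of_mul_eq_one_left ?_)
      rw [← pow_mod_orderOf, horda, h1, ← pow_succ]
      have h2 := pow_orderOf_eq_one a
      rwa [horda] at h2
  have hF4 : ∀ g, F g = if 4 ∣ orderOf g then 4 else 0 := by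
    intro g
    by_cases h4 : 4 ∣ orderOf g
    swap
    · rw [if_neg h4]
      refine ind_eq_zero_of_vanish H β g fun y x hy => ?_
      rw [hβ, if_neg]
      intro h1
      rw [← Subgroup.orderOf_coe, ← hy, show y⁻¹ * g * y = y⁻¹ * g * y⁻¹⁻¹ by rw [inv_inv],
        ZStarBasic.orderOf_conj_eq] at h1
      exact h4 h1
    rw [if_pos h4]
    obtain ⟨c, hc⟩ := isConj_iff.1 (isConj_a hfus (exists_pow_order_four g h4))
    set x := c⁻¹ * g * c with hx
    have hxpow : x ^ (orderOf g / 4) = a := by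
      rw [hx, conj_pow_eq, ← hc]; group
    have hxH : x ∈ H := by
      refine hmemH x ?_
      rw [← hxpow]
      exact (Commute.refl x).pow_left _
    have hxo : orderOf x = orderOf g := by
      rw [hx, show c⁻¹ * g * c = c⁻¹ * g * c⁻¹⁻¹ by rw [inv_inv], ZStarBasic.orderOf_conj_eq]
    have hconjF : F g = F x := by
      have := isClassFunction_ind H β g c⁻¹
      rw [inv_inv] at this
      exact this.symm
    rw [hconjF]
    have hin : ∀ y : G, (y ∈ H ∨ b * y ∈ H) → y⁻¹ * x * y ∈ H := by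
      intro y hy
      rcases hy with hy | hy
      · exact mul_mem (mul_mem (inv_mem hy) hxH) hy
      · have h1 : b * x * b⁻¹ ∈ H := by
          refine hmemH _ ?_
          have h2 := ((hcomm ⟨x, hxH⟩).inv_left).conj b
          rwa [hbainv] at h2
        rw [show y⁻¹ * x * y = (b * y)⁻¹ * (b * x * b⁻¹) * (b * y) by group]
        exact mul_mem (mul_mem (inv_mem hy) h1) hy
    have hout : ∀ y : G, y⁻¹ * x * y ∈ H → y ∈ H ∨ b * y ∈ H := by
      intro y hy
      refine hNd y ?_
      have h1 := hH4 (⟨_, hy⟩ ^ (orderOf g / 4)) (by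
        rw [← Subgroup.orderOf_coe, SubgroupClass.coe_pow, conj_pow_eq, hxpow,
          show y⁻¹ * a * y = y⁻¹ * a * y⁻¹⁻¹ by rw [inv_inv], ZStarBasic.orderOf_conj_eq, horda])
      rw [SubgroupClass.coe_pow, conj_pow_eq, hxpow] at h1
      refine inv_mem_iff.1 ?_
      rw [Subgroup.mem_normalizer_iff_map_conj_eq, MonoidHom.map_zpowers]
      show Subgroup.zpowers (y⁻¹ * a * y⁻¹⁻¹) = _
      rw [inv_inv]
      rcases h1 with h1 | h1 <;> rw [h1]
      exact Subgroup.zpowers_inv
    have hext : ∀ y : G, extendByZero H β (y⁻¹ * x * y) =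
        (if y ∈ H then (2 : ℂ) else 0) + (if b * y ∈ H then 2 else 0) := by
      intro y
      by_cases hy : y⁻¹ * x * y ∈ H
      · rw [ext_zero_of_mem β hy, hβ, if_pos (by
          rw [Subgroup.orderOf_mk, show y⁻¹ * x * y = y⁻¹ * x * y⁻¹⁻¹ by rw [inv_inv],
            ZStarBasic.orderOf_conj_eq, hxo]
          exact h4)]
        rcases hout y hy with h1 | h1
        · have h2 : b * y ∉ H := fun hb => hbH (by simpa using mul_mem hb (inv_mem h1))
          rw [if_pos h1, if_neg h2, add_zero]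
        · have h2 : y ∉ H := fun hb => hbH (by simpa using mul_mem h1 (inv_mem hb))
          rw [if_neg h2, if_pos h1, zero_add]
      · rw [ext_zero_of_not_mem β hy, if_neg (fun h1 => hy (hin y (Or.inl h1))),
          if_neg (fun h1 => hy (hin y (Or.inr h1))), add_zero]
    have hcount : (Finset.univ.filter fun y : G => y ∈ H).card = Nat.card H := by
      rw [← Fintype.card_subtype, ← Nat.card_eq_fintype_card]
    have hcount' : (Finset.univ.filter fun y : G => b * y ∈ H).card = Nat.card H := by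
      rw [← hcount]
      refine Finset.card_equiv (Equiv.mulLeft b) fun y => ?_
      simp
    rw [hF, indFun_apply, Finset.sum_congr rfl fun y _ => hext y, Finset.sum_add_distrib,
      Finset.sum_ite, Finset.sum_ite, Finset.sum_const_zero, Finset.sum_const_zero, Finset.sum_const,
      Finset.sum_const, hcount, hcount']
    simp only [add_zero, nsmul_eq_mul]
    have := card_subgroup_ne_zero H
    field_simp
    ring
  have hsum : ∑ x : H, ((μ x ^ 2 : ℂˣ) : ℂ) = 0 := by
    refine sum_hom_units_eq_zero ((Units.coeHom ℂ).comp ((powMonoidHom 2).comp μ)) fun h1 => ?_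
    have h2 : ((μ A ^ 2 : ℂˣ) : ℂ) = 1 := DFunLike.congr_fun h1 A
    rw [hμA2] at h2
    norm_num at h2
  have htriv : classInner F (fun _ => 1) = 1 := by
    rw [hF, inner_ind_left H β (fun _ _ => rfl), classInner]
    simp only [β, map_one, mul_one, Finset.sum_sub_distrib, hsum, sub_zero, Finset.sum_const,
      Finset.card_univ, nsmul_eq_mul, Nat.card_eq_fintype_card]
    field_simp
  have hnorm : classInner F F = 4 := by
    have : classInner F F = 4 * classInner F (fun _ => 1) := by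
      simp only [classInner, Finset.mul_sum]
      refine Finset.sum_congr rfl fun g _ => ?_
      rw [hF4, map_one]
      split_ifs <;> simp [Complex.conj_ofNat]; ring
    rw [this, htriv, mul_one]
  -- characters on the elements of order divisible by four
  have hval : ∀ χ : IrrCharacter G, χ ∈ principalBlock M G → ∀ x : H, 4 ∣ orderOf x →
      (χ : G → ℂ) x = (χ : G → ℂ) a := by
    intro χ hχ x hx
    have ha' : ∃ k, orderOf a = 2 ^ k := ⟨2, horda⟩
    obtain ⟨k, hk, h1 | h1⟩ := hdec x hx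
    · rw [h1, ZStarPrincipal.apply_eq_of_mem hM ha' hKC hKodd hKn hχ hk]
    · rw [h1]
      have h2 := irr_classFun χ (a⁻¹ * k) b
      rw [show b * (a⁻¹ * k) * b⁻¹ = (b * a⁻¹ * b⁻¹) * (b * k * b⁻¹) by group, hbainv] at h2
      rw [← h2, ZStarPrincipal.apply_eq_of_mem hM ha' hKC hKodd hKn hχ (hbK k hk)]
  obtain ⟨m, hm, hexp⟩ := exists_int_coeff (isGenChar_ind H hβg)
  rw [← hF] at hexp hm
  have hreal : ∀ χ : IrrCharacter G, conj ((χ : G → ℂ) a) = (χ : G → ℂ) a := by
    intro χ
    rw [← irr_inv, ← hbab]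
    exact irr_classFun χ a b
  refine ⟨m, ?_, ?_, ?_, ?_, fun g => ?_⟩
  · exact_mod_cast (hm (trivIrr G)).symm.trans htriv
  · have h3 := classInner_eq_sum (φ := F) (isClassFunction_ind H β)
    rw [← hF, hnorm] at h3
    simp only [hm, map_intCast] at h3
    exact_mod_cast h3.symm
  · intro χ hχm
    by_contra hχ
    apply hχm
    have hz : classInner F (χ : G → ℂ) = 0 := by
      rw [hF, inner_ind_left H β (irr_classFun χ), classInner]
      refine mul_eq_zero_of_right _ ?_
      have h0 := ZStarSection.apply_average_eq_zero hM ⟨2, horda⟩ hKC hKodd hKn hreg hχ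
      have h0' : ∑ k : K, (χ : G → ℂ) (a⁻¹ * k) = 0 := by
        refine Eq.trans ?_ h0
        let f : K → K := fun k => ⟨b * k * b⁻¹, hbK k k.2⟩
        have hf : Function.Injective f := fun p q e => Subtype.ext (by simpa [f] using congrArg Subtype.val e)
        refine Fintype.sum_equiv (Equiv.ofBijective f ⟨hf, Finite.injective_iff_surjective.1 hf⟩) _ _
          fun k => ?_
        show (χ : G → ℂ) (a⁻¹ * k) = (χ : G → ℂ) (a * (b * k * b⁻¹))
        rw [← irr_classFun χ (a⁻¹ * k) b,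
          show b * (a⁻¹ * (k : G)) * b⁻¹ = (b * a⁻¹ * b⁻¹) * (b * k * b⁻¹) by group, hbainv]
      -- split the support into the two cosets of `K`
      have hcoset : ∀ (y : H), ∑ x : H, (if μ x = μ y then conj ((χ : G → ℂ) x) else 0) =
          conj (∑ k : K, (χ : G → ℂ) ((y : G) * k)) := by
        intro y
        rw [map_sum, ← Finset.sum_filter]
        refine Finset.sum_bij' (fun x hx => (⟨((y⁻¹ * x : H) : G), (hK_mem _).2 (by
            rw [map_mul, map_inv, inv_mul_eq_one]; exact (Finset.mem_filter.1 hx).2.symm)⟩ : K))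
          (fun k _ => y * ⟨(k : G), hKH k k.2⟩) (fun _ _ => Finset.mem_univ _) (fun k _ => ?_)
          (fun x _ => Subtype.ext (by simp)) (fun k _ => Subtype.ext (by simp)) (fun x _ => by simp)
        rw [Finset.mem_filter, map_mul, (hK_mem ⟨(k : G), hKH k k.2⟩).1 k.2, mul_one]
        exact ⟨Finset.mem_univ _, rfl⟩
      have hne : μ A ≠ μ A⁻¹ := by
        intro h1
        rw [map_inv, eq_inv_iff_mul_eq_one, ← pow_two, hμA2] at h1
        exact hneg h1
      have hpt : ∀ x : H, β x * conj ((χ : G → ℂ) x) =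
          2 * ((if μ x = μ A then conj ((χ : G → ℂ) x) else 0) +
            (if μ x = μ A⁻¹ then conj ((χ : G → ℂ) x) else 0)) := by
        intro x
        rw [hβ]
        by_cases h4 : 4 ∣ orderOf x
        · rw [if_pos h4]
          obtain ⟨k, hk, h1 | h1⟩ := hdec x h4
          · have : μ x = μ A := by
              rw [show x = A * ⟨k, hKH k hk⟩ from Subtype.ext (by simpa [A] using h1), map_mul,
                (hK_mem ⟨k, hKH k hk⟩).1 hk, mul_one]
            rw [if_pos this, if_neg (fun h2 => hne (this.symm.trans h2)), add_zero]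
          · have : μ x = μ A⁻¹ := by
              rw [show x = A⁻¹ * ⟨k, hKH k hk⟩ from Subtype.ext (by simpa [A] using h1), map_mul,
                (hK_mem ⟨k, hKH k hk⟩).1 hk, mul_one]
            rw [if_neg (fun h2 => hne (h2.symm.trans this)), if_pos this, zero_add]
        · rw [if_neg h4, zero_mul, if_neg, if_neg, add_zero, mul_zero]
          · intro h1
            have := h4iff x
            rw [h1, if_neg h4, map_inv, inv_pow, hμA2, inv_eq_one] at this
            exact hneg this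
          · intro h1
            have := h4iff x
            rw [h1, if_neg h4, hμA2] at this
            exact hneg this
      rw [Finset.sum_congr rfl fun x _ => hpt x, ← Finset.mul_sum, Finset.sum_add_distrib, hcoset,
        hcoset]
      simp only [A, Subgroup.coe_inv]
      rw [h0, h0', map_zero, add_zero, mul_zero]
    exact_mod_cast (hm χ).symm.trans hz
  · intro χ hχ g hg
    have hmχ : (m χ : ℂ) = (χ : G → ℂ) a := by
      rw [← hm χ, hF, inner_ind_left H β (irr_classFun χ), classInner]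
      have : ∀ x : H, β x * conj ((χ : G → ℂ) x) = β x * (χ : G → ℂ) a := by
        intro x
        by_cases h4 : 4 ∣ orderOf x
        · rw [hval χ hχ x h4, hreal]
        · rw [hβ, if_neg h4, zero_mul, zero_mul]
      rw [Finset.sum_congr rfl fun x _ => this x, ← Finset.sum_mul, ← mul_assoc]
      have h1 : (Nat.card H : ℂ)⁻¹ * ∑ x : H, β x = 1 := by
        simp only [β, Finset.sum_sub_distrib, hsum, sub_zero, Finset.sum_const, Finset.card_univ,
          nsmul_eq_mul, Nat.card_eq_fintype_card, mul_one]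
        field_simp
      rw [h1, one_mul]
    rw [hmχ]
    obtain ⟨c, hc⟩ := isConj_iff.1 (isConj_a hfus (exists_pow_order_four g hg))
    have hxH : c⁻¹ * g * c ∈ H := by
      refine hmemH _ ?_
      rw [show a = (c⁻¹ * g * c) ^ (orderOf g / 4) by rw [conj_pow_eq, ← hc]; group]
      exact (Commute.refl _).pow_left _
    have hg' : (χ : G → ℂ) g = (χ : G → ℂ) ((⟨_, hxH⟩ : H) : G) := by
      have := irr_classFun χ g c⁻¹
      rw [inv_inv] at this
      exact this.symm
    rw [hg', hval χ hχ ⟨_, hxH⟩ (by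
      rw [Subgroup.orderOf_mk, show c⁻¹ * g * c = c⁻¹ * g * c⁻¹⁻¹ by rw [inv_inv],
        ZStarBasic.orderOf_conj_eq]
      exact hg)]
  · rw [← hF4 g]
    have := congrFun hexp g
    simp only [Finset.sum_apply, Pi.smul_apply, smul_eq_mul] at this
    exact this.symm

end Cfsg.Agent.ZStarFused
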