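/-
Permutation characters and products of them.
-/
import Mathlib
import Cfsg.Agent.Lib.CharInducedRep

set_option autoImplicit false

open Finset

namespace Cfsg.Agent.BrauerPermChar

open CharInduced

universe u v

variable {G : Type u} [Group G]

/-- The number of fixed points on the cosets of `H`. -/
noncomputable def permChar (H : Subgroup G) (g : G) : ℕ :=
  Nat.card {q : G ⧸ H // g • q = q}

section

variable [Fintype G]

theorem one_isClassFunction (H : Subgroup G) : IsClassFunction H (fun _ => (1 : ℂ)) :=
  fun _ _ => rfl

theorem permChar_cast (H : Subgroup G) (g : G) :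
    (permChar H g : ℂ) = indFun H (fun _ => 1) g := by
  classical
  have : Fintype (G ⧸ H) := Fintype.ofFinite _
  rw [ind_eq_sum_quotient H (one_isClassFunction H), permChar, Nat.card_eq_fintype_card,
    Fintype.card_subtype, ← Finset.sum_boole]
  refine Finset.sum_congr rfl fun q _ => ?_
  have hiff : g • q = q ↔ q.out⁻¹ * g * q.out ∈ H := by
    rw [← smul_inv_eq_iff_mem]
    constructor
    · intro h; rw [inv_smul_eq_iff, h]
    · intro h; rw [inv_smul_eq_iff] at h; exact h.symm
  by_cases h : g • q = q
  · rw [if_pos h, ext_zero_of_mem _ (hiff.1 h)]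
  · rw [if_neg h, ext_zero_of_not_mem _ (fun hm => h (hiff.2 hm))]

theorem ind_one_eq_permChar (H : Subgroup G) :
    indFun H (fun _ => 1) = fun g => (permChar H g : ℂ) :=
  funext fun g => (permChar_cast H g).symm

/-- The permutation character of an action is the sum over the orbits. -/
theorem fixed_card_eq_sum {X : Type v} [MulAction G X] [Finite X] (g : G)
    [Fintype (MulAction.orbitRel.Quotient G X)] :
    (Nat.card {z : X // g • z = z} : ℂ) =
      ∑ ω : MulAction.orbitRel.Quotient G X,
        indFun (MulAction.stabilizer G ω.out) (fun _ => 1) g := by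
  classical
  have := Fintype.ofFinite X
  have key : ∀ ω : MulAction.orbitRel.Quotient G X,
      indFun (MulAction.stabilizer G ω.out) (fun _ => 1) g =
        ((Finset.univ.filter fun z : X => g • z = z ∧ (Quotient.mk'' z : MulAction.orbitRel.Quotient G X) = ω).card : ℂ) := by
    intro ω
    rw [← permChar_cast, permChar, ← Fintype.card_subtype, ← Nat.card_eq_fintype_card]
    congr 1
    refine Nat.card_congr (Equiv.ofBijective
      (fun q => ⟨MulAction.ofQuotientStabilizer G ω.out q.1, ?_, ?_⟩) ⟨?_, ?_⟩)
    · rw [← MulAction.ofQuotientStabilizer_smul, q.2]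
    · obtain ⟨q, hq⟩ := q
      induction q using Quotient.inductionOn' with
      | h x =>
        show (Quotient.mk'' (x • ω.out) : MulAction.orbitRel.Quotient G X) = ω
        conv_rhs => rw [← Quotient.out_eq' ω]
        exact Quotient.sound' ⟨x, rfl⟩
    · intro a b h
      exact Subtype.ext (MulAction.injective_ofQuotientStabilizer G ω.out (congrArg Subtype.val h))
    · rintro ⟨z, hz, hzω⟩
      obtain ⟨x, hx⟩ : z ∈ MulAction.orbit G ω.out :=
        Quotient.exact' (hzω.trans (Quotient.out_eq' ω).symm)
      refine ⟨⟨(x : G ⧸ MulAction.stabilizer G ω.out), ?_⟩, Subtype.ext hx⟩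
      apply MulAction.injective_ofQuotientStabilizer G ω.out
      rw [MulAction.ofQuotientStabilizer_smul]
      show g • x • ω.out = x • ω.out
      simp only at hx
      rw [hx, hz]
  rw [Finset.sum_congr rfl fun ω _ => key ω, ← Nat.cast_sum]
  congr 1
  rw [Nat.card_eq_fintype_card, Fintype.card_subtype,
    Finset.card_eq_sum_card_fiberwise (f := fun z : X => (Quotient.mk'' z : MulAction.orbitRel.Quotient G X))
      (t := Finset.univ) (fun z _ => Finset.mem_univ _)]
  exact Finset.sum_congr rfl fun ω _ => by rw [Finset.filter_filter]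

/-- The product of two permutation characters. -/
theorem ind_one_mul_ind_one (H K : Subgroup G) :
    ∃ a : Subgroup G → ℕ, (∀ U, a U ≠ 0 → U ≤ H) ∧
      indFun H (fun _ => 1) * indFun K (fun _ => 1) =
        ∑ U : Subgroup G, (a U : ℂ) • indFun U (fun _ => 1) := by
  classical
  have : Fintype H := Fintype.ofFinite _
  have : Fintype (MulAction.orbitRel.Quotient H (G ⧸ K)) := Fintype.ofFinite _
  let V : MulAction.orbitRel.Quotient H (G ⧸ K) → Subgroup G := fun ω =>
    (MulAction.stabilizer H ω.out).map H.subtype
  refine ⟨fun U => (Finset.univ.filter fun ω => V ω = U).card, fun U hU => ?_, ?_⟩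
  · obtain ⟨ω, hω⟩ := Finset.card_ne_zero.1 hU
    rw [← (Finset.mem_filter.1 hω).2]
    exact Subgroup.map_subtype_le _
  · have h1 : (fun h : H => (1 : ℂ) * indFun K (fun _ => 1) (h : G)) =
        ∑ ω : MulAction.orbitRel.Quotient H (G ⧸ K),
          indFun (MulAction.stabilizer H ω.out) (fun _ => 1) := by
      funext h
      rw [one_mul, ← permChar_cast, Finset.sum_apply]
      exact fixed_card_eq_sum (X := G ⧸ K) h
    have h2 : indFun H (fun _ => 1) * indFun K (fun _ => 1) =
        ∑ ω, indFun (V ω) (fun _ => 1) := by
      rw [← ind_mul_res H _ (isClassFunction_ind K _), h1, ind_sum]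
      refine Finset.sum_congr rfl fun ω _ => ?_
      have hU : (V ω).subgroupOf H = MulAction.stabilizer H ω.out :=
        Subgroup.comap_map_eq_self_of_injective H.subtype_injective _
      rw [← ind_trans (Subgroup.map_subtype_le (MulAction.stabilizer H ω.out))]
      show indFun H _ = indFun H (indFun ((V ω).subgroupOf H) fun _ => 1)
      rw [hU]
    rw [h2, ← Finset.sum_fiberwise Finset.univ V]
    refine Finset.sum_congr rfl fun U _ => ?_
    rw [Finset.sum_congr rfl fun ω hω => by rw [(Finset.mem_filter.1 hω).2], Finset.sum_const,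
      Nat.cast_smul_eq_nsmul]

end

end Cfsg.Agent.BrauerPermChar
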