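/-
Quasi-elementary subgroups and the local form of Solomon's theorem.
-/
import Mathlib
import Cfsg.Agent.Lib.BrauerPermChar

set_option autoImplicit false

open Finset

namespace Cfsg.Agent.BrauerSolomon

open CharInduced BrauerPermChar

universe u

variable {G : Type u} [Group G]

/-- Subgroups with a cyclic normal `p`-complement. -/
def IsQuasiElem (p : ℕ) (H : Subgroup G) : Prop :=
  ∃ C : Subgroup G, C ≤ H ∧ H ≤ Subgroup.normalizer (C : Set G) ∧ IsCyclic C ∧
    Nat.Coprime (Nat.card C) p ∧ ∃ k : ℕ, C.relIndex H = p ^ k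

theorem IsQuasiElem.mono [Finite G] {p : ℕ} (hp : p.Prime) {H U : Subgroup G}
    (h : IsQuasiElem p H) (hU : U ≤ H) : IsQuasiElem p U := by
  obtain ⟨C, hCH, hHN, hcyc, hcop, k, hk⟩ := h
  refine ⟨C ⊓ U, inf_le_right, ?_, ?_, ?_, ?_⟩
  · intro u hu
    have hn := Subgroup.mem_normalizer_iff.1 (hHN (hU hu))
    rw [Subgroup.mem_normalizer_iff]
    intro x
    constructor
    · intro hx
      exact ⟨(hn x).1 hx.1, U.mul_mem (U.mul_mem hu hx.2) (U.inv_mem hu)⟩
    · intro hx
      refine ⟨(hn x).2 hx.1, ?_⟩
      have h1 : u⁻¹ * (u * x * u⁻¹) * u ∈ U := U.mul_mem (U.mul_mem (U.inv_mem hu) hx.2) hu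
      simpa [mul_assoc] using h1
  · exact isCyclic_of_injective (Subgroup.inclusion (inf_le_left : C ⊓ U ≤ C))
      (Subgroup.inclusion_injective inf_le_left)
  · exact hcop.coprime_dvd_left (Subgroup.card_dvd_of_le inf_le_left)
  · have h1 : (C ⊓ U).relIndex U = C.relIndex U := Subgroup.inf_relIndex_right C U
    have h2 : C.relIndex U ∣ C.relIndex H := by
      have : (C.subgroupOf H).Normal := Subgroup.normal_subgroupOf_iff_le_normalizer hCH |>.2 hHN
      have h3 := Subgroup.relIndex_dvd_index_of_normal (C.subgroupOf H) (U.subgroupOf H)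
      rwa [Subgroup.relIndex_subgroupOf hU] at h3
    rw [hk] at h2
    obtain ⟨j, -, hj⟩ := (Nat.dvd_prime_pow hp).1 h2
    exact ⟨j, h1.trans hj⟩

theorem exists_quasiElem [Finite G] (p : ℕ) (hp : p.Prime) (x : G) :
    ∃ H : Subgroup G, IsQuasiElem p H ∧ ¬ p ∣ permChar H x := by
  classical
  have := Fact.mk hp
  obtain ⟨k, m, hm, hord⟩ := Nat.exists_eq_pow_mul_and_not_dvd (isOfFinOrder_of_finite x).orderOf_pos.ne'
    p hp.ne_one
  set b := x ^ p ^ k with hb
  set a := x ^ m with ha
  set C := Subgroup.zpowers b with hC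
  set N := Subgroup.normalizer (C : Set G) with hN
  have hbord : orderOf b = m := by
    rw [hb, orderOf_pow, hord, Nat.gcd_mul_right_left, Nat.mul_div_cancel_left _ (pow_pos hp.pos k)]
  have hcomm : Commute x b := Commute.self_pow x _
  have hxN : x ∈ N := by
    rw [hN, Subgroup.mem_normalizer_iff]
    intro y
    have hy : ∀ y ∈ C, x * y * x⁻¹ = y := by
      intro y hy
      obtain ⟨i, rfl⟩ := Subgroup.mem_zpowers_iff.1 hy
      rw [(hcomm.zpow_right i).eq, mul_inv_cancel_right]
    constructor
    · intro h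
      rw [hy y h]; exact h
    · intro h
      have := hy _ h
      have h2 : x * y * x⁻¹ = y := by
        have h3 := congrArg (fun z => x⁻¹ * z * x) this
        simp only [mul_assoc, inv_mul_cancel, mul_one, inv_mul_cancel_left] at h3
        simpa [mul_assoc] using h3
      rwa [h2] at h
  have hCN : C ≤ N := Subgroup.le_normalizer
  let C' : Subgroup N := C.subgroupOf N
  have hC'n : C'.Normal := Subgroup.normal_in_normalizer
  -- the Sylow subgroup of the quotient containing the image of `x`
  have hxP : IsPGroup p (Subgroup.zpowers (QuotientGroup.mk' C' ⟨x, hxN⟩)) := by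
    intro z
    refine ⟨k, ?_⟩
    obtain ⟨i, hi⟩ := Subgroup.mem_zpowers_iff.1 z.2
    have h1 : (QuotientGroup.mk' C' ⟨x, hxN⟩) ^ p ^ k = 1 := by
      rw [← map_pow, QuotientGroup.mk'_apply, QuotientGroup.eq_one_iff]
      exact Subgroup.mem_zpowers b
    apply Subtype.ext
    rw [SubgroupClass.coe_pow, ← hi, ← zpow_natCast, ← zpow_mul, mul_comm, zpow_mul, zpow_natCast,
      h1, one_zpow]
    rfl
  obtain ⟨Q, hQ⟩ := hxP.exists_le_sylow
  let H' : Subgroup N := (Q : Subgroup (N ⧸ C')).comap (QuotientGroup.mk' C')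
  let H : Subgroup G := H'.map N.subtype
  have hC'H' : C' ≤ H' := fun c hc => by
    show QuotientGroup.mk' C' c ∈ (Q : Subgroup (N ⧸ C'))
    rw [QuotientGroup.mk'_apply, (QuotientGroup.eq_one_iff c).2 hc]
    exact one_mem _
  have hCH : C ≤ H := fun c hc => ⟨⟨c, hCN hc⟩, hC'H' hc, rfl⟩
  have hHN : H ≤ N := Subgroup.map_subtype_le H'
  have hHsub : H.subgroupOf N = H' := Subgroup.comap_map_eq_self_of_injective N.subtype_injective H'
  have hrel : C'.relIndex H' = Nat.card (Q : Subgroup (N ⧸ C')) := by
    have h1 := Subgroup.relIndex_ker H' (QuotientGroup.mk' C')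
    rw [QuotientGroup.ker_mk'] at h1
    rw [h1, Subgroup.map_comap_eq_self_of_surjective (QuotientGroup.mk'_surjective C')]
  obtain ⟨l, hl⟩ := IsPGroup.iff_card.1 Q.isPGroup'
  refine ⟨H, ⟨C, hCH, hHN, inferInstance, ?_, l, ?_⟩, ?_⟩
  · rw [hC, Nat.card_zpowers, hbord]
    exact (hp.coprime_iff_not_dvd.2 hm).symm
  · rw [← Subgroup.relIndex_subgroupOf hHN, hHsub]
    exact hrel.trans hl
  · -- fixed points
    let Y := {q : G ⧸ H // ∃ n : N, (n : G) = q}
    have hbY : ∀ q : Y, b • q.1 = q.1 := by
      rintro ⟨q, n, rfl⟩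
      rw [MulAction.Quotient.smul_mk, eq_comm, QuotientGroup.eq]
      refine hCH ?_
      have h1 := (Subgroup.mem_normalizer_iff.1 (inv_mem n.2) b).1 (Subgroup.mem_zpowers b)
      simpa [mul_assoc] using h1
    have hfix : ∀ q : G ⧸ H, x • q = q ↔ ((∃ n : N, (n : G) = q) ∧ a • q = q) := by
      intro q
      constructor
      · intro h
        refine ⟨?_, ?_⟩
        · induction q using QuotientGroup.induction_on with
          | H g =>
            rw [MulAction.Quotient.smul_mk, eq_comm, QuotientGroup.eq] at h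
            have hg : g⁻¹ * x * g ∈ H := by simpa [mul_assoc] using h
            refine ⟨⟨g, ?_⟩, rfl⟩
            -- conjugating `C` into `C`
            have hbC : g⁻¹ * b * g ∈ C := by
              have hbH : g⁻¹ * b * g ∈ H := by
                have h1 := H.pow_mem hg (p ^ k)
                have h2 := conj_pow (i := p ^ k) (a := g⁻¹) (b := x)
                rw [inv_inv] at h2
                rwa [h2] at h1
              obtain ⟨y, hy, hye⟩ := Subgroup.mem_map.1 hbH
              have hyord : orderOf y = m := by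
                rw [← Subgroup.orderOf_coe, show (y : G) = g⁻¹ * b * g from hye]
                have := orderOf_injective (MulAut.conj g⁻¹).toMonoidHom (MulAut.conj g⁻¹).injective b
                simpa [hbord] using this
              have hy1 : orderOf (QuotientGroup.mk' C' y) = 1 := by
                obtain ⟨j, hj⟩ := (IsPGroup.iff_orderOf.1 Q.isPGroup') ⟨_, hy⟩
                rw [← Subgroup.orderOf_coe] at hj
                have hd : orderOf (QuotientGroup.mk' C' y) ∣ m :=
                  hyord ▸ orderOf_map_dvd (QuotientGroup.mk' C') y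
                refine Nat.eq_one_of_dvd_coprimes
                  (Nat.Coprime.pow_left j (hp.coprime_iff_not_dvd.2 hm)) ?_ hd
                exact dvd_of_eq hj
              rw [orderOf_eq_one_iff, QuotientGroup.mk'_apply, QuotientGroup.eq_one_iff] at hy1
              rw [← hye]
              exact hy1
            rw [← inv_mem_iff, hN, Subgroup.mem_normalizer_iff]
            have hmap : C.map (MulAut.conj g⁻¹).toMonoidHom = C := by
              refine Subgroup.eq_of_le_of_card_ge ?_ ?_
              · rw [hC, MonoidHom.map_zpowers, Subgroup.zpowers_le]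
                simpa using hbC
              · rw [Subgroup.card_map_of_injective (MulAut.conj g⁻¹).injective]
            intro y
            constructor
            · intro hy
              rw [← hmap]
              exact ⟨y, hy, rfl⟩
            · intro hy
              rw [← hmap] at hy
              obtain ⟨z, hz, hze⟩ := hy
              rwa [(MulAut.conj g⁻¹).injective hze] at hz
        · have : x ∈ MulAction.stabilizer G q := h
          exact pow_mem this m
      · rintro ⟨⟨n, rfl⟩, h⟩
        have hsa : a ∈ MulAction.stabilizer G ((n : G) : G ⧸ H) := h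
        have hsb : b ∈ MulAction.stabilizer G ((n : G) : G ⧸ H) := hbY ⟨_, n, rfl⟩
        have hcop : Nat.Coprime m (p ^ k) := Nat.Coprime.pow_right k (hp.coprime_iff_not_dvd.2 hm).symm
        have hbez := Nat.gcd_eq_gcd_ab m (p ^ k)
        rw [hcop.gcd_eq_one] at hbez
        have : x = a ^ Nat.gcdA m (p ^ k) * b ^ Nat.gcdB m (p ^ k) := by
          rw [ha, hb, ← zpow_natCast, ← zpow_natCast, ← zpow_mul, ← zpow_mul, ← zpow_add, ← hbez]
          simp
        rw [← MulAction.mem_stabilizer_iff, this]
        exact mul_mem (zpow_mem hsa _) (zpow_mem hsb _)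
    have haN : a ∈ N := pow_mem hxN m
    let _ : MulAction (Subgroup.zpowers a) Y :=
      { smul := fun z q => ⟨(z : G) • q.1, by
          obtain ⟨q, n, rfl⟩ := q
          exact ⟨⟨(z : G), Subgroup.zpowers_le.2 haN z.2⟩ * n, rfl⟩⟩
        one_smul := fun q => Subtype.ext (one_smul G q.1)
        mul_smul := fun z w q => Subtype.ext (mul_smul (z : G) (w : G) q.1) }
    have haP : IsPGroup p (Subgroup.zpowers a) := by
      refine IsPGroup.of_card (n := k) ?_
      have hm0 : 0 < m := Nat.pos_of_ne_zero fun h => hm (h ▸ dvd_zero p)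
      rw [Nat.card_zpowers, ha, orderOf_pow, hord, Nat.gcd_mul_left_left, Nat.mul_div_cancel _ hm0]
    have hmod := haP.card_modEq_card_fixedPoints Y
    have hfixY : Nat.card (MulAction.fixedPoints (Subgroup.zpowers a) Y) = permChar H x := by
      refine Nat.card_congr ⟨fun q => ⟨q.1.1, (hfix _).2 ⟨q.1.2, ?_⟩⟩,
        fun q => ⟨⟨q.1, ((hfix _).1 q.2).1⟩, fun z => Subtype.ext ?_⟩, fun q => rfl, fun q => rfl⟩
      · exact congrArg Subtype.val (q.2 ⟨a, Subgroup.mem_zpowers a⟩)
      · show (z : G) • q.1 = q.1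
        rw [← MulAction.mem_stabilizer_iff]
        exact Subgroup.zpowers_le.2 (MulAction.mem_stabilizer_iff.2 ((hfix _).1 q.2).2) z.2
    have hY : Nat.card Y = (Q : Subgroup (N ⧸ C')).index := by
      rw [← Subgroup.index_comap_of_surjective (Q : Subgroup (N ⧸ C'))
        (QuotientGroup.mk'_surjective C')]
      show _ = Nat.card (N ⧸ H')
      have hrel' : ∀ u v : N, (QuotientGroup.leftRel H') u v →
          (QuotientGroup.leftRel H) (u : G) (v : G) := by
        intro u v h
        rw [QuotientGroup.leftRel_apply] at h ⊢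
        exact ⟨u⁻¹ * v, h, rfl⟩
      refine (Nat.card_congr (Equiv.ofBijective (fun q : N ⧸ H' =>
        (⟨Quotient.map' (fun n : N => (n : G)) hrel' q, ?_⟩ : Y)) ⟨?_, ?_⟩)).symm
      · induction q using QuotientGroup.induction_on with
        | H n => exact ⟨n, rfl⟩
      · intro q r h
        induction q using QuotientGroup.induction_on with
        | H u =>
          induction r using QuotientGroup.induction_on with
          | H v =>
            have h1 : ((u : G) : G ⧸ H) = ((v : G) : G ⧸ H) := congrArg Subtype.val h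
            rw [QuotientGroup.eq] at h1
            rw [QuotientGroup.eq, ← hHsub]
            exact h1
      · rintro ⟨q, n, rfl⟩
        exact ⟨(n : N ⧸ H'), rfl⟩
    rw [hY, hfixY] at hmod
    intro hd
    refine Q.not_dvd_index (Nat.dvd_of_mod_eq_zero ?_)
    rw [hmod, Nat.mod_eq_zero_of_dvd hd]

/-- Values of an integral combination of permutation characters of quasi-elementary subgroups. -/
def InSpan [Fintype G] (p : ℕ) (f : G → ℤ) : Prop :=
  ∃ a : Subgroup G → ℤ, (∀ H, a H ≠ 0 → IsQuasiElem p H) ∧
    f = ∑ H : Subgroup G, a H • fun g => (permChar H g : ℤ)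

section

variable [Fintype G] {p : ℕ}

theorem inSpan_zero : InSpan p (0 : G → ℤ) :=
  ⟨0, fun H h => absurd rfl h, by simp⟩

theorem inSpan_add {f g : G → ℤ} (hf : InSpan p f) (hg : InSpan p g) : InSpan p (f + g) := by
  obtain ⟨a, ha, rfl⟩ := hf
  obtain ⟨b, hb, rfl⟩ := hg
  refine ⟨a + b, fun H h => ?_, by simp only [Pi.add_apply, add_smul, Finset.sum_add_distrib]⟩
  by_cases h0 : a H = 0
  · exact hb H (by simpa [h0] using h)
  · exact ha H h0

theorem inSpan_zsmul {f : G → ℤ} (c : ℤ) (hf : InSpan p f) : InSpan p (c • f) := by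
  obtain ⟨a, ha, rfl⟩ := hf
  refine ⟨fun H => c * a H, fun H h => ha H (right_ne_zero_of_mul h), ?_⟩
  simp only [mul_smul, Finset.smul_sum]

theorem inSpan_sub {f g : G → ℤ} (hf : InSpan p f) (hg : InSpan p g) : InSpan p (f - g) := by
  have := inSpan_add hf (inSpan_zsmul (-1) hg)
  simpa [sub_eq_add_neg] using this

theorem inSpan_sum {ι : Type*} (s : Finset ι) (f : ι → G → ℤ) (h : ∀ i ∈ s, InSpan p (f i)) :
    InSpan p (∑ i ∈ s, f i) := by
  classical
  induction s using Finset.induction with
  | empty => simpa using inSpan_zero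
  | insert i s hi ih =>
    rw [Finset.sum_insert hi]
    exact inSpan_add (h i (Finset.mem_insert_self i s))
      (ih fun j hj => h j (Finset.mem_insert_of_mem hj))

theorem inSpan_permChar {H : Subgroup G} (h : IsQuasiElem p H) :
    InSpan p (fun g => (permChar H g : ℤ)) := by
  classical
  refine ⟨Pi.single H 1, fun U hU => ?_, ?_⟩
  · by_cases he : U = H
    · rw [he]; exact h
    · exact absurd (Pi.single_eq_of_ne he _) hU
  · rw [Finset.sum_eq_single H (fun U _ hne => by rw [Pi.single_eq_of_ne hne, zero_smul])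
      (fun h => absurd (Finset.mem_univ H) h), Pi.single_eq_same, one_smul]

theorem inSpan_mul (hp : p.Prime) {f g : G → ℤ} (hf : InSpan p f) (hg : InSpan p g) :
    InSpan p (f * g) := by
  classical
  obtain ⟨a, ha, rfl⟩ := hf
  obtain ⟨b, hb, rfl⟩ := hg
  rw [Finset.sum_mul_sum]
  refine inSpan_sum _ _ fun H _ => inSpan_sum _ _ fun K _ => ?_
  rw [smul_mul_smul_comm]
  by_cases h0 : a H = 0
  · rw [h0, zero_mul, zero_smul]; exact inSpan_zero
  obtain ⟨c, hc, he⟩ := ind_one_mul_ind_one H K
  have hprod : (fun x : G => (permChar H x : ℤ)) * (fun x : G => (permChar K x : ℤ)) =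
      ∑ U : Subgroup G, (c U : ℤ) • fun x : G => (permChar U x : ℤ) := by
    funext x
    have h1 := congrFun he x
    simp only [Pi.mul_apply, Finset.sum_apply, Pi.smul_apply, smul_eq_mul, ← permChar_cast] at h1
    simp only [Pi.mul_apply, Finset.sum_apply, Pi.smul_apply, smul_eq_mul]
    exact_mod_cast h1
  rw [hprod]
  refine inSpan_zsmul _ (inSpan_sum _ _ fun U _ => ?_)
  by_cases hU : c U = 0
  · rw [hU, Nat.cast_zero, zero_smul]; exact inSpan_zero
  · exact inSpan_zsmul _ (inSpan_permChar ((ha H h0).mono hp (hc U hU)))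

theorem inSpan_pow (hp : p.Prime) {f : G → ℤ} (hf : InSpan p f) :
    ∀ n : ℕ, 0 < n → InSpan p (f ^ n)
  | 0, h => absurd h (lt_irrefl 0)
  | 1, _ => by rw [pow_one]; exact hf
  | n + 2, _ => by
    rw [pow_succ]
    exact inSpan_mul hp (inSpan_pow hp hf (n + 1) (Nat.succ_pos n)) hf

/-- The local form of Solomon's theorem. -/
theorem exists_inSpan_const (hp : p.Prime) :
    ∃ m : ℤ, ¬ (p : ℤ) ∣ m ∧ InSpan (G := G) p (fun _ => m) := by
  classical
  have hne : ∀ x : G, ∃ u : G → ℤ, InSpan p u ∧ (p : ℤ) ∣ u x - 1 := by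
    intro x
    obtain ⟨H, hH, hd⟩ := exists_quasiElem p hp x
    refine ⟨(fun g => (permChar H g : ℤ)) ^ (p - 1),
      inSpan_pow hp (inSpan_permChar hH) _ (by have := hp.two_le; omega), ?_⟩
    have := Fact.mk hp
    rw [← ZMod.intCast_zmod_eq_zero_iff_dvd]
    have h0 : ((permChar H x : ℕ) : ZMod p) ≠ 0 := by
      rw [Ne, ZMod.natCast_eq_zero_iff]; exact hd
    simp [ZMod.pow_card_sub_one_eq_one h0]
  choose u hu hux using hne
  -- `1 - ∏ (1 - u x)` lies in the span
  have hA : ∀ s : Finset G, InSpan p (1 - ∏ x ∈ s, (1 - u x)) := by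
    intro s
    induction s using Finset.induction with
    | empty => simpa using inSpan_zero
    | insert i s hi ih =>
      rw [Finset.prod_insert hi]
      have := inSpan_add (inSpan_sub ih (inSpan_mul hp ih (hu i))) (hu i)
      convert this using 1
      ring
  set r : G → ℤ := 1 - ∏ x : G, (1 - u x) with hr
  have hr1 : ∀ g, ¬ (p : ℤ) ∣ r g := by
    intro g hd
    have h1 : (p : ℤ) ∣ ∏ x : G, (1 - u x g) :=
      dvd_trans ((dvd_sub_comm).1 (hux g)) (Finset.dvd_prod_of_mem _ (Finset.mem_univ g))
    have h2 : (p : ℤ) ∣ (1 : ℤ) := by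
      have := dvd_add hd h1
      simpa [hr, Finset.prod_apply] using this
    exact hp.one_lt.ne' (by exact_mod_cast Int.eq_one_of_dvd_one (Int.natCast_nonneg p) h2)
  have hB : ∀ s : Finset ℤ,
      InSpan p ((fun _ : G => ∏ v ∈ s, v) - ∏ v ∈ s, ((fun _ : G => v) - r)) := by
    intro s
    induction s using Finset.induction with
    | empty =>
      convert (inSpan_zero : InSpan (G := G) p 0) using 1
      funext g; simp
    | insert v s hv ih =>
      have := inSpan_add (inSpan_zsmul v ih)
        (inSpan_sub (inSpan_zsmul (∏ w ∈ s, w) (hA Finset.univ)) (inSpan_mul hp ih (hA Finset.univ)))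
      rw [← hr] at this
      convert this using 1
      funext g
      simp only [Finset.prod_insert hv, Pi.sub_apply, Pi.mul_apply, Pi.add_apply, Pi.smul_apply,
        smul_eq_mul, Finset.prod_apply]
      ring
  refine ⟨∏ v ∈ Finset.univ.image r, v, ?_, ?_⟩
  · intro hd
    obtain ⟨v, hv, hdv⟩ := (Nat.prime_iff_prime_int.1 hp).exists_mem_finset_dvd hd
    obtain ⟨g, -, rfl⟩ := Finset.mem_image.1 hv
    exact hr1 g hdv
  · have h := hB (Finset.univ.image r)
    have hz : (∏ v ∈ Finset.univ.image r, ((fun _ : G => v) - r)) = 0 := by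
      funext g
      rw [Finset.prod_apply]
      exact Finset.prod_eq_zero (Finset.mem_image_of_mem r (Finset.mem_univ g)) (sub_self _)
    rwa [hz, sub_zero] at h

/-- Solomon's theorem, complex-valued version. -/
theorem solomon (hp : p.Prime) :
    ∃ (m : ℤ) (a : Subgroup G → ℤ), ¬ (p : ℤ) ∣ m ∧ (∀ H, a H ≠ 0 → IsQuasiElem p H) ∧
      (fun _ : G => (m : ℂ)) = ∑ H : Subgroup G, (a H : ℂ) • indFun H (fun _ => 1) := by
  obtain ⟨m, hm, a, ha, he⟩ := exists_inSpan_const (G := G) hp
  refine ⟨m, a, hm, ha, funext fun g => ?_⟩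
  have h1 := congrFun he g
  simp only [Finset.sum_apply, Pi.smul_apply, smul_eq_mul] at h1
  simp only [Finset.sum_apply, Pi.smul_apply, smul_eq_mul, ← permChar_cast]
  exact_mod_cast h1

end

end Cfsg.Agent.BrauerSolomon
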