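/-
Characters of normal subgroups: conjugates, inertia groups, the Clifford theorem.
-/
import Mathlib
import Cfsg.Agent.Lib.CharBasicOrth
import Cfsg.Agent.Lib.CharInducedRep

set_option autoImplicit false

open scoped ComplexConjugate
open Finset

namespace Cfsg.Agent.CharInduced

open CharBasic CharBasicOrth

universe u

variable {G : Type u} [Group G]

theorem isClassFunction_irr {χ : G → ℂ} (h : IsIrrCharacter G χ) : IsClassFunction G χ :=
  CharBasic.isClassFunction_of_isCharacter (isCharacter_of_isIrrCharacter h)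

theorem isCharacter_res {χ : G → ℂ} (H : Subgroup G) (h : IsCharacter G χ) :
    IsCharacter H (fun x : H => χ x) :=
  isCharacter_comap H.subtype h

theorem isClassFunction_res {χ : G → ℂ} (H : Subgroup G) (h : IsClassFunction G χ) :
    IsClassFunction H (fun x : H => χ x) := fun a b => by
  simpa using h (a : G) (b : G)

section

variable [Fintype G]

/-- The coefficient of an irreducible character in a character is a natural number. -/
theorem coeff_nat {θ χ : G → ℂ} (hθ : IsCharacter G θ) (hχ : IsIrrCharacter G χ) :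
    ∃ n : ℕ, classInner θ χ = n :=
  classInner_isCharacter hθ (isCharacter_of_isIrrCharacter hχ)

theorem classInner_comm_of_isCharacter {a b : G → ℂ} (ha : IsCharacter G a)
    (hb : IsCharacter G b) : classInner a b = classInner b a := by
  obtain ⟨n, hn⟩ := classInner_isCharacter ha hb
  rw [← inner_conj_symm a b, hn, Complex.conj_natCast]

/-- Orthogonal characters have no common constituent. -/
theorem coeff_mul_eq_zero {a b : G → ℂ} (ha : IsCharacter G a) (hb : IsCharacter G b)
    (h : classInner a b = 0) {χ : G → ℂ} (hχ : IsIrrCharacter G χ) :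
    classInner a χ = 0 ∨ classInner b χ = 0 := by
  classical
  choose n hn using fun ψ : IrrCharacter G => coeff_nat ha ψ.2
  choose m hm using fun ψ : IrrCharacter G => coeff_nat hb ψ.2
  rw [classInner_eq_sum (CharBasic.isClassFunction_of_isCharacter ha)] at h
  simp only [hn, hm, Complex.conj_natCast, ← Nat.cast_mul, ← Nat.cast_sum, Nat.cast_eq_zero,
    Finset.sum_eq_zero_iff, Finset.mem_univ, true_implies, Nat.mul_eq_zero] at h
  rcases h ⟨χ, hχ⟩ with h1 | h1
  · left; rw [hn ⟨χ, hχ⟩, h1, Nat.cast_zero]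
  · right; rw [hm ⟨χ, hχ⟩, h1, Nat.cast_zero]

end

section Conjugates

variable (N : Subgroup G) [hN : N.Normal]

theorem conjFun_eq_comp (θ : N → ℂ) (g : G) :
    conjFun N θ g = θ ∘ (MulAut.conjNormal g).toMonoidHom := by
  funext n
  exact congrArg θ (Subtype.ext (MulAut.conjNormal_apply g n).symm)

theorem isIrrCharacter_conjFun {θ : N → ℂ} (hθ : IsIrrCharacter N θ) (g : G) :
    IsIrrCharacter N (conjFun N θ g) := by
  rw [conjFun_eq_comp]
  exact isIrrCharacter_comap _ (MulAut.conjNormal g).surjective hθ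

theorem isCharacter_conjFun {θ : N → ℂ} (hθ : IsCharacter N θ) (g : G) :
    IsCharacter N (conjFun N θ g) := by
  rw [conjFun_eq_comp]
  exact isCharacter_comap _ hθ

theorem conjFun_res {χ : G → ℂ} (hχ : IsClassFunction G χ) (g : G) :
    conjFun N (fun n : N => χ n) g = fun n : N => χ n := by
  funext n
  exact hχ n g

/-- The inertia group of a function on a normal subgroup. -/
def inertia (θ : N → ℂ) : Subgroup G where
  carrier := {g | conjFun N θ g = θ}
  one_mem' := conjFun_one N θ
  mul_mem' := fun {a b} (ha : conjFun N θ a = θ) (hb : conjFun N θ b = θ) => by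
    show conjFun N θ (a * b) = θ
    rw [← conjFun_conjFun, ha, hb]
  inv_mem' := fun {a} (ha : conjFun N θ a = θ) => by
    show conjFun N θ a⁻¹ = θ
    conv_lhs => rw [← ha]
    rw [conjFun_conjFun, mul_inv_cancel, conjFun_one]

theorem mem_inertia {θ : N → ℂ} {g : G} : g ∈ inertia N θ ↔ conjFun N θ g = θ := Iff.rfl

theorem mem_inertia_iff {θ : N → ℂ} {g : G} :
    g ∈ inertia N θ ↔ ∀ n : N, θ ⟨g * n * g⁻¹, hN.conj_mem n n.2 g⟩ = θ n := funext_iff

theorem le_inertia {θ : N → ℂ} (hθ : IsClassFunction N θ) : N ≤ inertia N θ :=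
  fun _ ha => conjFun_mem_eq N hθ ha

theorem conjFun_eq_iff {θ : N → ℂ} {a b : G} :
    conjFun N θ a = conjFun N θ b ↔ a * b⁻¹ ∈ inertia N θ := by
  constructor
  · intro h
    rw [mem_inertia, ← conjFun_conjFun, h, conjFun_conjFun, mul_inv_cancel, conjFun_one]
  · intro h
    calc conjFun N θ a = conjFun N (conjFun N θ (a * b⁻¹)) b := by
          rw [conjFun_conjFun, inv_mul_cancel_right]
      _ = conjFun N θ b := by rw [(mem_inertia N).1 h]

variable [Fintype G]

open scoped Classical in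
/-- The set of conjugates of a function on a normal subgroup. -/
noncomputable def orbitFin (θ : N → ℂ) : Finset (N → ℂ) := Finset.univ.image (conjFun N θ)

theorem mem_orbitFin {θ φ : N → ℂ} : φ ∈ orbitFin N θ ↔ ∃ g : G, conjFun N θ g = φ := by
  classical simp [orbitFin]

theorem self_mem_orbitFin (θ : N → ℂ) : θ ∈ orbitFin N θ :=
  (mem_orbitFin N).2 ⟨1, conjFun_one N θ⟩

theorem finsum_orbit (θ : N → ℂ) :
    (∑ᶠ ψ ∈ {ψ : N → ℂ | ∃ g : G, ψ = fun n : N => θ ⟨g * n * g⁻¹, hN.conj_mem n n.2 g⟩}, ψ) =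
      ∑ ψ ∈ orbitFin N θ, ψ := by
  classical
  rw [← finsum_mem_coe_finset]
  refine finsum_mem_congr (Set.ext fun ψ => ?_) fun _ _ => rfl
  simp only [Set.mem_setOf_eq, Finset.mem_coe, mem_orbitFin]
  exact ⟨fun ⟨g, h⟩ => ⟨g, h.symm⟩, fun ⟨g, h⟩ => ⟨g, h.symm⟩⟩

theorem sum_conjFun_eq (θ : N → ℂ) :
    ∑ x : G, conjFun N θ x = (Nat.card (inertia N θ) : ℂ) • ∑ ψ ∈ orbitFin N θ, ψ := by
  classical
  rw [← Finset.sum_fiberwise_of_maps_to (g := conjFun N θ) (t := orbitFin N θ)
    (fun x _ => (mem_orbitFin N).2 ⟨x, rfl⟩), Finset.smul_sum]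
  refine Finset.sum_congr rfl fun ψ hψ => ?_
  obtain ⟨b, rfl⟩ := (mem_orbitFin N).1 hψ
  have hc : (Finset.univ.filter fun x : G => conjFun N θ x = conjFun N θ b).card =
      Nat.card (inertia N θ) := by
    rw [← Fintype.card_subtype, ← Nat.card_eq_fintype_card]
    exact Nat.card_congr
      ⟨fun x => ⟨x.1 * b⁻¹, (conjFun_eq_iff N).1 x.2⟩,
        fun t => ⟨t.1 * b, (conjFun_eq_iff N).2 (by simp)⟩, fun x => by simp, fun t => by simp⟩
  rw [Finset.sum_congr rfl fun x hx => (Finset.mem_filter.1 hx).2, Finset.sum_const, hc,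
    Nat.cast_smul_eq_nsmul]

theorem res_ind_eq_orbit (θ : N → ℂ) :
    (fun n : N => indFun N θ (n : G)) =
      ((Nat.card (inertia N θ) : ℂ) / Nat.card N) • ∑ ψ ∈ orbitFin N θ, ψ := by
  rw [res_ind_normal, sum_conjFun_eq, smul_smul, div_eq_inv_mul]

theorem card_inertia_mul_card_orbit (θ : N → ℂ) :
    Nat.card (inertia N θ) * (orbitFin N θ).card = Nat.card G := by
  classical
  have hc : ∀ b : G, (Finset.univ.filter fun x : G => conjFun N θ x = conjFun N θ b).card =
      Nat.card (inertia N θ) := fun b => by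
    rw [← Fintype.card_subtype, ← Nat.card_eq_fintype_card]
    exact Nat.card_congr
      ⟨fun x => ⟨x.1 * b⁻¹, (conjFun_eq_iff N).1 x.2⟩,
        fun t => ⟨t.1 * b, (conjFun_eq_iff N).2 (by simp)⟩, fun x => by simp, fun t => by simp⟩
  have h := Finset.card_eq_sum_card_fiberwise (f := conjFun N θ) (t := orbitFin N θ)
    (s := (Finset.univ : Finset G)) (fun x _ => (mem_orbitFin N).2 ⟨x, rfl⟩)
  rw [Finset.card_univ, ← Nat.card_eq_fintype_card] at h
  rw [h, mul_comm, ← smul_eq_mul, ← Finset.sum_const]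
  refine Finset.sum_congr rfl fun ψ hψ => ?_
  obtain ⟨b, rfl⟩ := (mem_orbitFin N).1 hψ
  exact (hc b).symm

open scoped Classical in
theorem classInner_ind_ind [Fintype N] {θ φ : N → ℂ} (hθ : IsIrrCharacter N θ)
    (hφ : IsIrrCharacter N φ) :
    classInner (indFun N θ) (indFun N φ) =
      (Nat.card N : ℂ)⁻¹ * Nat.card {x : G // conjFun N θ x = φ} := by
  rw [inner_ind_ind_normal]
  congr 1
  rw [Finset.sum_congr rfl fun x _ => classInner_irr _ _ (isIrrCharacter_conjFun N hθ x) hφ,
    Finset.sum_boole, Nat.card_eq_fintype_card, Fintype.card_subtype]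

theorem classInner_ind_ind_eq_zero [Fintype N] {θ φ : N → ℂ} (hθ : IsIrrCharacter N θ)
    (hφ : IsIrrCharacter N φ) (h : φ ∉ orbitFin N θ) :
    classInner (indFun N θ) (indFun N φ) = 0 := by
  rw [classInner_ind_ind N hθ hφ]
  have : IsEmpty {x : G // conjFun N θ x = φ} := ⟨fun x => h ((mem_orbitFin N).2 ⟨x.1, x.2⟩)⟩
  simp

theorem classInner_ind_self [Fintype N] {θ : N → ℂ} (hθ : IsIrrCharacter N θ) :
    classInner (indFun N θ) (indFun N θ) = (Nat.card (inertia N θ) : ℂ) / Nat.card N := by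
  rw [classInner_ind_ind N hθ hθ, div_eq_inv_mul]
  rfl

theorem classInner_res_conjFun [Fintype N] {χ : G → ℂ} (hχ : IsClassFunction G χ) (θ : N → ℂ)
    (g : G) :
    classInner (fun n : N => χ n) (conjFun N θ g) = classInner (fun n : N => χ n) θ := by
  conv_lhs => rw [← conjFun_res N hχ g]
  exact inner_conjFun N _ θ g

/-- Two irreducible constituents of the restriction of an irreducible character are conjugate. -/
theorem mem_orbit_of_constituents [Fintype N] {χ : G → ℂ} (hχ : IsIrrCharacter G χ)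
    {θ φ : N → ℂ} (hθ : IsIrrCharacter N θ) (hφ : IsIrrCharacter N φ)
    (h1 : classInner (fun n : N => χ n) θ ≠ 0) (h2 : classInner (fun n : N => χ n) φ ≠ 0) :
    φ ∈ orbitFin N θ := by
  by_contra h
  rw [← inner_ind_right N θ (isClassFunction_irr hχ)] at h1
  rw [← inner_ind_right N φ (isClassFunction_irr hχ)] at h2
  have hθc := isCharacter_ind N (isCharacter_of_isIrrCharacter hθ)
  have hφc := isCharacter_ind N (isCharacter_of_isIrrCharacter hφ)
  have hχc := isCharacter_of_isIrrCharacter hχ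
  rw [classInner_comm_of_isCharacter hχc hθc] at h1
  rw [classInner_comm_of_isCharacter hχc hφc] at h2
  rcases coeff_mul_eq_zero hθc hφc (classInner_ind_ind_eq_zero N hθ hφ h) hχ with h3 | h3
  · exact h1 h3
  · exact h2 h3

/-- The Clifford theorem. -/
theorem clifford [Fintype N] {χ : G → ℂ} (hχ : IsIrrCharacter G χ) {θ : N → ℂ}
    (hθ : IsIrrCharacter N θ) (h : classInner (fun n : N => χ n) θ ≠ 0) :
    (fun n : N => χ n) = classInner (fun n : N => χ n) θ • ∑ ψ ∈ orbitFin N θ, ψ := by
  classical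
  have hcf := isClassFunction_irr hχ
  refine (eq_sum_classInner (isClassFunction_res N hcf)).trans ?_
  rw [Finset.smul_sum]
  refine Finset.sum_bij_ne_zero (fun ψ _ _ => (ψ : N → ℂ)) ?_ ?_ ?_ ?_
  · intro ψ _ hne
    exact mem_orbit_of_constituents N hχ hθ ψ.2 h fun h0 => hne (by rw [h0, zero_smul])
  · intro a _ _ b _ _ hab
    exact Subtype.ext hab
  · intro φ hφ _
    obtain ⟨g, rfl⟩ := (mem_orbitFin N).1 hφ
    refine ⟨⟨_, isIrrCharacter_conjFun N hθ g⟩, Finset.mem_univ _, ?_, rfl⟩
    rw [classInner_res_conjFun N hcf θ g]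
    exact smul_ne_zero h fun h0 => isIrrCharacter_apply_one_ne_zero
      (isIrrCharacter_conjFun N hθ g) (congrFun h0 1)
  · intro ψ _ hne
    obtain ⟨g, hg⟩ := (mem_orbitFin N).1 (mem_orbit_of_constituents N hχ hθ ψ.2 h
      fun h0 => hne (by rw [h0, zero_smul]))
    show classInner _ (ψ : N → ℂ) • (ψ : N → ℂ) = _
    rw [← hg, classInner_res_conjFun N hcf θ g]

theorem ind_eq_iff_mem_orbit [Fintype N] {θ φ : N → ℂ} (hθ : IsIrrCharacter N θ)
    (hφ : IsIrrCharacter N φ) : indFun N φ = indFun N θ ↔ φ ∈ orbitFin N θ := by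
  refine ⟨fun h => ?_, fun h => ?_⟩
  · by_contra hn
    have h0 := classInner_ind_ind_eq_zero N hθ hφ hn
    rw [h, classInner_ind_self N hθ, div_eq_zero_iff] at h0
    simp [Nat.card_pos.ne'] at h0
  · obtain ⟨g, rfl⟩ := (mem_orbitFin N).1 h
    exact ind_conjFun N θ g

end Conjugates

end Cfsg.Agent.CharInduced
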