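/-
The Clifford correspondence.
-/
import Mathlib
import Cfsg.Agent.Lib.CharBasicDecomp
import Cfsg.Agent.Lib.CharInducedClifford

set_option autoImplicit false

open scoped ComplexConjugate
open Finset

namespace Cfsg.Agent.CharInduced

open CharBasic CharBasicOrth CharBasicDecomp

universe u

variable {G : Type u} [Group G] [Fintype G]

/-- A character minus a constituent is again a character. -/
theorem isCharacter_sub_constituent {a χ : G → ℂ} (ha : IsCharacter G a)
    (hχ : IsIrrCharacter G χ) (h : classInner a χ ≠ 0) : IsCharacter G (a - χ) := by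
  classical
  rw [isCharacter_iff]
  have hac := CharBasic.isClassFunction_of_isCharacter ha
  have hχc := isClassFunction_irr hχ
  refine ⟨fun g x => by simp [hac g x, hχc g x], fun ψ => ?_⟩
  obtain ⟨n, hn⟩ := classInner_isCharacter ha (isCharacter_of_isIrrCharacter ψ.2)
  rw [inner_sub_left, hn, classInner_irr χ ψ hχ ψ.2]
  split_ifs with he
  · subst he
    rw [hn] at h
    have hn0 : n ≠ 0 := fun h0 => h (by rw [h0, Nat.cast_zero])
    exact ⟨n - 1, by rw [Nat.cast_sub (Nat.one_le_iff_ne_zero.2 hn0), Nat.cast_one]⟩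
  · exact ⟨n, sub_zero _⟩

theorem eq_of_constituent_of_apply_one_le {a χ : G → ℂ} (ha : IsCharacter G a)
    (hχ : IsIrrCharacter G χ) (h : classInner a χ ≠ 0) (hle : (a 1).re ≤ (χ 1).re) : a = χ := by
  have h1 := isCharacter_sub_constituent ha hχ h
  obtain ⟨n, hn⟩ := isCharacter_apply_one h1
  have hn0 : n = 0 := by
    have h2 := congrArg Complex.re hn
    simp only [Pi.sub_apply, Complex.sub_re, Complex.natCast_re] at h2
    have : (n : ℝ) ≤ 0 := by linarith
    exact Nat.le_zero.1 (by exact_mod_cast this)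
  rw [hn0, Nat.cast_zero] at hn
  exact sub_eq_zero.1 (isCharacter_eq_zero_of_apply_one h1 hn)

/-- Some irreducible constituent. -/
theorem exists_constituent {a : G → ℂ} (ha : IsCharacter G a) (ha0 : a ≠ 0) :
    ∃ χ : G → ℂ, IsIrrCharacter G χ ∧ classInner a χ ≠ 0 := by
  by_contra h
  push Not at h
  exact ha0 (eq_zero_of_forall_classInner (CharBasic.isClassFunction_of_isCharacter ha) h)

theorem isCharacter_ne_zero_of_apply_one {a : G → ℂ} {d : ℕ} (hd : 0 < d) (h : a 1 = d) :
    a ≠ 0 := fun h0 => by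
  rw [h0, Pi.zero_apply] at h
  exact hd.ne' (Nat.cast_eq_zero.1 h.symm)

section

variable (N T : Subgroup G) [hN : N.Normal] [Fintype N] [Fintype T] (hNT : N ≤ T)

omit [Fintype G] [Fintype T] [Fintype N] hN in
theorem toSubgroupOf_eq_comp (θ : N → ℂ) :
    (toSubgroupOf θ : N.subgroupOf T → ℂ) = θ ∘ (Subgroup.subgroupOfEquivOfLe hNT).toMonoidHom :=
  funext fun _ => rfl

omit [Fintype G] [Fintype T] [Fintype N] hN in
theorem isIrrCharacter_toSubgroupOf {θ : N → ℂ} (hNT : N ≤ T) (hθ : IsIrrCharacter N θ) :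
    IsIrrCharacter (N.subgroupOf T) (toSubgroupOf θ) := by
  rw [toSubgroupOf_eq_comp N T hNT]
  exact isIrrCharacter_comap _ (Subgroup.subgroupOfEquivOfLe hNT).surjective hθ

omit [Fintype G] hN in
/-- Reciprocity between a subgroup and an intermediate subgroup. -/
theorem inner_ind_subgroupOf (θ : N → ℂ) {ψ : T → ℂ} (hψ : IsClassFunction T ψ) :
    classInner (indFun (N.subgroupOf T) (toSubgroupOf θ)) ψ =
      classInner θ (fun n : N => ψ ⟨n, hNT n.2⟩) := by
  have : Fintype (N.subgroupOf T) := Fintype.ofFinite _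
  rw [inner_ind_left (N.subgroupOf T) (toSubgroupOf θ) hψ]
  exact classInner_congr_equiv (G := N) (Subgroup.subgroupOfEquivOfLe hNT) θ
    (fun n : N => ψ ⟨n, hNT n.2⟩)

variable {θ : N → ℂ} (hθ : IsIrrCharacter N θ)
  (hT : ∀ g : G, g ∈ T ↔ conjFun N θ g = θ)

omit [Fintype G] in
include hθ hT in
theorem res_inertia_eq {ψ : T → ℂ} (hψ : IsIrrCharacter T ψ)
    (h : classInner (fun n : N => ψ ⟨n, hNT n.2⟩) θ ≠ 0) :
    (fun n : N => ψ ⟨n, hNT n.2⟩) = classInner (fun n : N => ψ ⟨n, hNT n.2⟩) θ • θ := by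
  classical
  let e := Subgroup.subgroupOfEquivOfLe hNT
  have : Fintype (N.subgroupOf T) := Fintype.ofFinite _
  let θ' : N.subgroupOf T → ℂ := toSubgroupOf θ
  have hθ' : IsIrrCharacter (N.subgroupOf T) θ' := isIrrCharacter_toSubgroupOf N T hNT hθ
  have hin : classInner (fun x : N.subgroupOf T => ψ x) θ' =
      classInner (fun n : N => ψ ⟨n, hNT n.2⟩) θ :=
    classInner_congr_equiv (G := N) e (fun n : N => ψ ⟨n, hNT n.2⟩) θ
  have hcl := clifford (N.subgroupOf T) hψ hθ' (by rw [hin]; exact h)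
  have horb : orbitFin (N.subgroupOf T) θ' = {θ'} := by
    refine Finset.eq_singleton_iff_unique_mem.2 ⟨self_mem_orbitFin _ θ', fun φ hφ => ?_⟩
    obtain ⟨g, rfl⟩ := (mem_orbitFin _).1 hφ
    funext x
    exact congrFun ((hT g).1 g.2) ⟨(x : T), Subgroup.mem_subgroupOf.1 x.2⟩
  rw [horb, Finset.sum_singleton, hin] at hcl
  funext n
  have h1 := congrFun hcl (e.symm n)
  exact h1

include hθ hT in
/-- A constituent over `θ` of the inertia group induces to the irreducible character
containing it, with the same multiplicity over `θ`. -/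
theorem ind_inertia_eq {ψ : T → ℂ} (hψ : IsIrrCharacter T ψ)
    (h : classInner (fun n : N => ψ ⟨n, hNT n.2⟩) θ ≠ 0) {χ : G → ℂ}
    (hχ : IsIrrCharacter G χ) (hc : classInner (fun t : T => χ t) ψ ≠ 0) :
    indFun T ψ = χ ∧ classInner (fun n : N => χ n) θ =
      classInner (fun n : N => ψ ⟨n, hNT n.2⟩) θ := by
  classical
  have hχc := isCharacter_of_isIrrCharacter hχ
  have hψc := isCharacter_of_isIrrCharacter hψ
  have hres := isCharacter_res T hχc
  let f : N →* T := Subgroup.inclusion hNT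
  have hθc := isCharacter_of_isIrrCharacter hθ
  -- multiplicities
  have hdiff := isCharacter_comap f (isCharacter_sub_constituent hres hψ hc)
  obtain ⟨d, hd⟩ := classInner_isCharacter hdiff hθc
  obtain ⟨e, he⟩ := classInner_isCharacter (isCharacter_comap f hψc) hθc
  have hsplit : classInner (fun n : N => χ n) θ = (e : ℂ) + d := by
    rw [← hd, ← he, ← inner_add_left]
    congr 1
    funext n
    show χ n = ψ (f n) + (χ (f n : G) - ψ (f n))
    rw [add_sub_cancel]
    rfl
  have he' : classInner (fun n : N => ψ ⟨n, hNT n.2⟩) θ = (e : ℂ) := he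
  have he0 : e ≠ 0 := fun h0 => h (by rw [he', h0, Nat.cast_zero])
  have hne : classInner (fun n : N => χ n) θ ≠ 0 := by
    rw [hsplit, ← Nat.cast_add]
    exact Nat.cast_ne_zero.2 (by omega)
  -- degrees
  obtain ⟨t, ht, htθ⟩ := isIrrCharacter_apply_one hθ
  have hψ1 : ψ 1 = (e : ℂ) * t := by
    have h1 := congrFun (res_inertia_eq N T hNT hθ hT hψ h) 1
    simp only [Pi.smul_apply, smul_eq_mul, he', htθ] at h1
    exact h1
  have hχ1 : χ 1 = ((e : ℂ) + d) * ((orbitFin N θ).card * t) := by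
    have h1 := congrFun (clifford N hχ hθ hne) 1
    rw [hsplit, Pi.smul_apply, Finset.sum_apply, Finset.sum_congr rfl (g := fun _ => (t : ℂ))
      (fun φ hφ => by
        obtain ⟨g, rfl⟩ := (mem_orbitFin N).1 hφ
        show θ _ = _
        rw [← htθ]
        exact congrArg θ (Subtype.ext (by simp))), Finset.sum_const, nsmul_eq_mul,
      smul_eq_mul] at h1
    exact h1
  have hidx : T.index = (orbitFin N θ).card := by
    have hTi : T = inertia N θ := Subgroup.ext fun g => hT g
    have h1 := card_inertia_mul_card_orbit N θ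
    rw [← hTi, ← T.card_mul_index] at h1
    exact (Nat.eq_of_mul_eq_mul_left Nat.card_pos h1).symm
  have hle : (indFun T ψ 1).re ≤ (χ 1).re := by
    rw [ind_one_apply, hψ1, hχ1, hidx, ← Nat.cast_add]
    norm_cast
    calc (orbitFin N θ).card * (e * t) = e * ((orbitFin N θ).card * t) := by ring
      _ ≤ (e + d) * ((orbitFin N θ).card * t) := Nat.mul_le_mul_right _ (Nat.le_add_right e d)
  have hind : indFun T ψ = χ := by
    refine eq_of_constituent_of_apply_one_le (isCharacter_ind T hψc) hχ ?_ hle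
    rw [inner_ind_left T ψ (isClassFunction_irr hχ), ← inner_conj_symm]
    simpa using hc
  refine ⟨hind, ?_⟩
  have h2 := congrFun hind 1
  rw [ind_one_apply, hψ1, hχ1, hidx] at h2
  have hcard : ((orbitFin N θ).card : ℂ) * t ≠ 0 := by
    rw [← Nat.cast_mul]
    exact Nat.cast_ne_zero.2
      (Nat.mul_ne_zero (Finset.card_ne_zero_of_mem (self_mem_orbitFin N θ)) ht.ne')
  have h3 : (e : ℂ) + d = e := mul_right_cancel₀ hcard (by rw [← h2]; ring)
  rw [hsplit, h3, he']

include hθ hT in
theorem ind_inertia_irr {ψ : T → ℂ} (hψ : IsIrrCharacter T ψ)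
    (h : classInner (fun n : N => ψ ⟨n, hNT n.2⟩) θ ≠ 0) :
    IsIrrCharacter G (indFun T ψ) := by
  obtain ⟨m, hm, hm1⟩ := isIrrCharacter_apply_one hψ
  have hc := isCharacter_ind T (isCharacter_of_isIrrCharacter hψ)
  obtain ⟨χ, hχ, hne⟩ := exists_constituent hc (isCharacter_ne_zero_of_apply_one
    (d := T.index * m) (Nat.mul_pos (Nat.pos_of_ne_zero T.index_ne_zero_of_finite) hm)
    (by rw [ind_one_apply, hm1, Nat.cast_mul]))
  rw [inner_ind_left T ψ (isClassFunction_irr hχ), ← inner_conj_symm] at hne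
  rw [(ind_inertia_eq N T hNT hθ hT hψ h hχ (by simpa using hne)).1]
  exact hχ

include hθ hT in
theorem ind_inertia_injective {ψ ψ' : T → ℂ} (hψ : IsIrrCharacter T ψ)
    (hψ' : IsIrrCharacter T ψ')
    (h : classInner (fun n : N => ψ ⟨n, hNT n.2⟩) θ ≠ 0)
    (h' : classInner (fun n : N => ψ' ⟨n, hNT n.2⟩) θ ≠ 0)
    (he : indFun T ψ = indFun T ψ') : ψ = ψ' := by
  by_contra hne
  have hχ := ind_inertia_irr N T hNT hθ hT hψ h
  have hc : classInner (fun t : T => indFun T ψ t) ψ ≠ 0 := by
    rw [← inner_ind_right T ψ (isClassFunction_ind T ψ), classInner_irr_self hχ]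
    exact one_ne_zero
  have hc' : classInner (fun t : T => indFun T ψ t) ψ' ≠ 0 := by
    rw [← inner_ind_right T ψ' (isClassFunction_ind T ψ), ← he, classInner_irr_self hχ]
    exact one_ne_zero
  let f : N →* T := Subgroup.inclusion hNT
  have hθc := isCharacter_of_isIrrCharacter hθ
  have h1 := isCharacter_sub_constituent
    (isCharacter_res T (isCharacter_of_isIrrCharacter hχ)) hψ hc
  have hψ'' : classInner ((fun t : T => indFun T ψ t) - ψ) ψ' ≠ 0 := by
    rw [inner_sub_left, classInner_irr_ne hψ hψ' hne, sub_zero]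
    exact hc'
  obtain ⟨d, hd⟩ := classInner_isCharacter (isCharacter_comap f
    (isCharacter_sub_constituent h1 hψ' hψ'')) hθc
  obtain ⟨e', he'⟩ := classInner_isCharacter (isCharacter_comap f
    (isCharacter_of_isIrrCharacter hψ')) hθc
  have h2 := (ind_inertia_eq N T hNT hθ hT hψ h hχ hc).2
  have hdecomp : classInner (fun n : N => indFun T ψ n) θ =
      classInner (fun n : N => ψ ⟨n, hNT n.2⟩) θ + e' + d := by
    rw [← hd, ← he']
    show _ = classInner (fun n : N => ψ (f n)) θ + _ + _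
    rw [← inner_add_left, ← inner_add_left]
    congr 1
    funext n
    show indFun T ψ n =
      ψ (f n) + ψ' (f n) + (indFun T ψ (f n : G) - ψ (f n) - ψ' (f n))
    have : (f n : G) = n := rfl
    rw [this]
    ring
  rw [h2, add_assoc, left_eq_add, ← Nat.cast_add, Nat.cast_eq_zero] at hdecomp
  have he0 : e' ≠ 0 := fun h0 => h' (by
    show classInner (ψ' ∘ f) θ = 0
    rw [he', h0, Nat.cast_zero])
  omega

include hθ hT in
/-- Surjectivity in the Clifford correspondence. -/
theorem exists_inertia_constituent {χ : G → ℂ} (hχ : IsIrrCharacter G χ)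
    (hc : classInner (fun n : N => χ n) θ ≠ 0) :
    ∃ ψ : T → ℂ, IsIrrCharacter T ψ ∧ indFun T ψ = χ ∧
      classInner (fun n : N => ψ ⟨n, hNT n.2⟩) θ = classInner (fun n : N => χ n) θ := by
  classical
  have hres := isCharacter_res T (isCharacter_of_isIrrCharacter hχ)
  obtain ⟨ψ, hψ⟩ : ∃ ψ : IrrCharacter T, classInner (fun t : T => χ t) ψ ≠ 0 ∧
      classInner (fun n : N => (ψ : T → ℂ) ⟨n, hNT n.2⟩) θ ≠ 0 := by
    by_contra hno
    push Not at hno
    apply hc
    have hexp := eq_sum_classInner (CharBasic.isClassFunction_of_isCharacter hres)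
    have : (fun n : N => χ n) = ∑ ψ : IrrCharacter T,
        classInner (fun t : T => χ t) ψ • fun n : N => (ψ : T → ℂ) ⟨n, hNT n.2⟩ := by
      funext n
      have := congrFun hexp ⟨n, hNT n.2⟩
      simpa [Finset.sum_apply] using this
    rw [this, inner_sum_left, Finset.sum_eq_zero]
    intro ψ _
    rw [inner_smul_left]
    by_cases h0 : classInner (fun t : T => χ t) ψ = 0
    · rw [h0, zero_mul]
    · rw [hno ψ h0, mul_zero]
  obtain ⟨h1, h2⟩ := ind_inertia_eq N T hNT hθ hT ψ.2 hψ.2 hχ hψ.1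
  exact ⟨ψ, ψ.2, h1, h2.symm⟩

end

end Cfsg.Agent.CharInduced
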