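/-
Nilpotent groups are monomial; transport of induction through a subgroup.
-/
import Mathlib
import Cfsg.Agent.Lib.CharInducedCorr
import Cfsg.Agent.Lib.CharBasicLinear

set_option autoImplicit false

open scoped ComplexConjugate

namespace Cfsg.Agent.CharInduced

open CharBasic CharBasicOrth CharBasicDecomp

universe u

variable {G : Type u} [Group G]

/-- Inducing from a subgroup of a subgroup. -/
theorem ind_map_subtype [Fintype G] (T : Subgroup G) [Fintype T] (H : Subgroup T)
    (φ : H → ℂ) :
    indFun T (indFun H φ) = indFun (H.map T.subtype)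
      (φ ∘ (H.equivMapOfInjective T.subtype T.subtype_injective).symm) := by
  classical
  have hHT : H.map T.subtype ≤ T := Subgroup.map_subtype_le H
  rw [← ind_trans hHT]
  have h2 : (H.map T.subtype).subgroupOf T = H :=
    Subgroup.comap_map_eq_self_of_injective T.subtype_injective H
  congr 1
  funext t
  simp only [indFun_apply]
  have hc : Nat.card ((H.map T.subtype).subgroupOf T) = Nat.card H := by rw [h2]
  rw [hc]
  congr 1
  refine Finset.sum_congr rfl fun y _ => ?_
  rw [ext_zero_subgroupOf]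
  by_cases hy : y⁻¹ * t * y ∈ H
  · have hm : ((y⁻¹ * t * y : T) : G) ∈ H.map T.subtype := Subgroup.mem_map_of_mem T.subtype hy
    rw [ext_zero_of_mem φ hy, ext_zero_of_mem _ hm]
    show φ _ = φ _
    congr 1
    exact ((H.equivMapOfInjective T.subtype T.subtype_injective).symm_apply_eq.2 rfl).symm
  · rw [ext_zero_of_not_mem φ hy, ext_zero_of_not_mem]
    intro hm
    obtain ⟨z, hz, hze⟩ := Subgroup.mem_map.1 hm
    exact hy ((Subtype.ext hze : z = y⁻¹ * t * y) ▸ hz)

section Monomial

variable [Finite G] {n : ℕ} (ρ : Representation ℂ G (Fin n → ℂ))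

/-- The elements having a given vector as an eigenvector. -/
def eigenGroup (v : Fin n → ℂ) : Subgroup G where
  carrier := {b | ∃ w : ℂ, ρ b v = w • v}
  one_mem' := ⟨1, by rw [map_one, one_smul]; rfl⟩
  mul_mem' := fun {a b} ⟨w, hw⟩ ⟨z, hz⟩ => ⟨z * w, by
    rw [map_mul, Module.End.mul_apply, hz, map_smul, hw, smul_smul]⟩
  inv_mem' := fun {a} ⟨w, hw⟩ => ⟨w⁻¹, by
    have h1 : ρ a⁻¹ (ρ a v) = v := by
      rw [← Module.End.mul_apply, ← map_mul, inv_mul_cancel, map_one, Module.End.one_apply]
    rw [hw, map_smul] at h1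
    by_cases hw0 : w = 0
    · subst hw0
      rw [zero_smul] at h1
      rw [← h1]; simp
    · exact ((inv_smul_eq_iff₀ hw0).2 h1.symm).symm⟩

/-- An eigenvector gives a linear character. -/
theorem exists_hom_of_eigen (v : Fin n → ℂ) (hv : v ≠ 0) (A : Subgroup G)
    (hA : A ≤ eigenGroup ρ v) :
    ∃ lam : A →* ℂˣ, ∀ a : A, ρ a v = (lam a : ℂ) • v := by
  have hA' : ∀ a : A, ∃ w : ℂ, ρ a v = w • v := fun a => hA a.2
  choose w hw using hA'
  have h0 : ∀ a : A, w a ≠ 0 := by
    intro a h
    apply hv
    have h1 := hw a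
    rw [h, zero_smul] at h1
    have : ρ (a : G)⁻¹ (ρ a v) = v := by
      rw [← Module.End.mul_apply, ← map_mul, inv_mul_cancel, map_one, Module.End.one_apply]
    rw [← this, h1, map_zero]
  have hmul : ∀ a b : A, w (a * b) = w a * w b := by
    intro a b
    have h1 : ρ ((a * b : A) : G) v = (w a * w b) • v := by
      rw [Subgroup.coe_mul, map_mul, Module.End.mul_apply, hw b, map_smul, hw a, smul_smul,
        mul_comm]
    exact smul_left_injective ℂ hv ((hw _).symm.trans h1)
  exact ⟨MonoidHom.mk' (fun a => Units.mk0 (w a) (h0 a)) (fun a b => Units.ext (hmul a b)), hw⟩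

theorem classInner_res_linear_ne_zero (A : Subgroup G) [Fintype A] (v : Fin n → ℂ) (hv : v ≠ 0)
    (lam : A →* ℂˣ) (h : ∀ a : A, ρ a v = (lam a : ℂ) • v) :
    classInner (fun a : A => ρ.character a) (fun a => (lam a : ℂ)) ≠ 0 := by
  have h1 : (fun a : A => ρ.character a) = (repComap A.subtype ρ).character := rfl
  rw [h1, ← character_linRep lam, classInner_character]
  let F : Representation.IntertwiningMap (linRep lam) (repComap A.subtype ρ) :=
    ⟨(LinearMap.proj 0).smulRight v, fun a => by
      refine LinearMap.ext fun x => ?_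
      show ((lam a : ℂ) • x) 0 • v = ρ (a : G) (x 0 • v)
      rw [map_smul, h a, smul_smul, Pi.smul_apply, smul_eq_mul, mul_comm]⟩
  have hF : F ≠ 0 := by
    intro h0
    apply hv
    have := congrArg (fun f : Representation.IntertwiningMap (linRep lam)
      (repComap A.subtype ρ) => f (fun _ => (1 : ℂ))) h0
    have h2 : ((LinearMap.proj (R := ℂ) (φ := fun _ : Fin 1 => ℂ) 0).smulRight v)
        (fun _ => (1 : ℂ)) = 0 := this
    simpa using h2
  have : Nontrivial (Representation.IntertwiningMap (linRep lam) (repComap A.subtype ρ)) :=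
    ⟨⟨F, 0, hF⟩⟩
  exact Nat.cast_ne_zero.2 Module.finrank_pos.ne'

end Monomial

/-- Scalar elements. -/
def scalarSub {G : Type u} [Group G] [Fintype G] {n : ℕ} (ρ : Representation ℂ G (Fin n → ℂ)) :
    Subgroup G where
  carrier := {g | ∃ w : ℂ, ρ g = w • (LinearMap.id : (Fin n → ℂ) →ₗ[ℂ] (Fin n → ℂ))}
  one_mem' := ⟨1, by rw [map_one, one_smul]; rfl⟩
  mul_mem' := fun {a b} ⟨w, hw⟩ ⟨z, hz⟩ => ⟨w * z, by
    rw [map_mul, hw, hz]
    refine LinearMap.ext fun v => ?_
    simp [smul_smul, mul_comm]⟩
  inv_mem' := fun {a} ⟨w, hw⟩ => by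
    obtain ⟨k, hk⟩ : ∃ k : ℕ, a⁻¹ = a ^ k :=
      ⟨orderOf a - 1, (eq_inv_of_mul_eq_one_left (by
        rw [← pow_succ, Nat.sub_add_cancel (isOfFinOrder_of_finite a).orderOf_pos,
          pow_orderOf_eq_one])).symm⟩
    refine ⟨w ^ k, ?_⟩
    rw [hk, map_pow, hw]
    change (w • (1 : Module.End ℂ (Fin n → ℂ))) ^ k = _
    rw [_root_.smul_pow, one_pow]
    rfl

theorem scalarSub_normal {G : Type u} [Group G] [Fintype G] {n : ℕ}
    (ρ : Representation ℂ G (Fin n → ℂ)) : (scalarSub ρ).Normal :=
  ⟨fun a ⟨w, hw⟩ g => ⟨w, LinearMap.ext fun v => by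
    have hv : ρ g (ρ g⁻¹ v) = v := by
      rw [← Module.End.mul_apply, ← map_mul, mul_inv_cancel, map_one, Module.End.one_apply]
    rw [map_mul, map_mul, hw]
    simp [hv]⟩⟩

theorem exists_monomial_aux (N : ℕ) : ∀ {G : Type u} [Group G] [Fintype G] [Group.IsNilpotent G]
    (χ : G → ℂ), Nat.card G = N → IsIrrCharacter G χ →
      ∃ (H : Subgroup G) (lam : H →* ℂˣ), χ = indFun H (fun h => (lam h : ℂ)) := by
  induction N using Nat.strong_induction_on with
  | _ N ih =>
    intro G _ _ _ χ hN hχ
    classical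
    obtain ⟨n, ρ, hρ, he⟩ := hχ
    have hχirr : IsIrrCharacter G χ := ⟨n, ρ, hρ, he⟩
    have hnontriv := nontrivial_of_irreducible ρ
    have hSn := scalarSub_normal ρ
    set S := scalarSub ρ with hS
    by_cases hStop : S = ⊤
    · -- linear character
      obtain ⟨v, hv⟩ := exists_ne (0 : Fin n → ℂ)
      have hle : (⊤ : Subgroup G) ≤ eigenGroup ρ v := by
        rw [← hStop]
        rintro g ⟨w, hw⟩
        exact ⟨w, by rw [hw]; rfl⟩
      obtain ⟨lam, hlam⟩ := exists_hom_of_eigen ρ v hv ⊤ hle
      refine ⟨⊤, lam, ?_⟩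
      have hne := classInner_res_linear_ne_zero ρ ⊤ v hv lam hlam
      have hres : IsIrrCharacter (⊤ : Subgroup G) (fun a : (⊤ : Subgroup G) => χ a) :=
        isIrrCharacter_comap (Subgroup.topEquiv : (⊤ : Subgroup G) ≃* G).toMonoidHom
          (Subgroup.topEquiv : (⊤ : Subgroup G) ≃* G).surjective hχirr
      have heq : (fun a : (⊤ : Subgroup G) => χ a) = fun a => (lam a : ℂ) := by
        by_contra hd
        refine hne ?_
        rw [he]
        exact classInner_irr_ne hres (isIrrCharacter_linear lam) hd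
      funext g
      rw [← heq, indFun_apply, Finset.sum_congr rfl (g := fun _ => χ g) (fun x _ => ?_),
        Finset.sum_const, Finset.card_univ, ← Nat.card_eq_fintype_card, nsmul_eq_mul,
        Subgroup.card_top, inv_mul_cancel_left₀ (Nat.cast_ne_zero.2 Nat.card_pos.ne')]
      rw [ext_zero_of_mem _ (Subgroup.mem_top _)]
      exact classFunction_conj' (isClassFunction_irr hχirr) g x
    · have : S.Normal := hSn
      have hq : Nontrivial (G ⧸ S) := QuotientGroup.nontrivial_iff.2 hStop
      have : Group.IsNilpotent (G ⧸ S) := inferInstance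
      have : Nontrivial (Subgroup.center (G ⧸ S)) :=
        (Subgroup.nontrivial_iff_ne_bot _).2 (Group.IsNilpotent.center_ne_bot _)
      obtain ⟨c, hc⟩ := exists_ne (1 : Subgroup.center (G ⧸ S))
      obtain ⟨a, ha⟩ := QuotientGroup.mk'_surjective S (c : G ⧸ S)
      have haS : a ∉ S := fun h => hc (Subtype.ext (by
        rw [← ha]; exact (QuotientGroup.eq_one_iff a).2 h))
      have hcomm : ∀ g : G, g * a * g⁻¹ * a⁻¹ ∈ S := by
        intro g
        rw [← QuotientGroup.eq_one_iff, QuotientGroup.mk_mul, QuotientGroup.mk_mul,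
          QuotientGroup.mk_mul, QuotientGroup.mk_inv, QuotientGroup.mk_inv]
        have h1 : (a : G ⧸ S) = c := ha
        rw [h1, Subgroup.mem_center_iff.1 c.2 (g : G ⧸ S)]
        group
      let A : Subgroup G := S ⊔ Subgroup.zpowers a
      have hAn : A.Normal := by
        refine Subgroup.normalizer_eq_top_iff.1 (top_le_iff.1 ?_)
        intro g _
        have hsub : ∀ g : G, A ≤ A.comap (MulAut.conj g).toMonoidHom := by
          intro g
          refine sup_le (fun s hs => ?_) (Subgroup.zpowers_le.2 ?_)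
          · exact (le_sup_left : S ≤ A) (hSn.conj_mem s hs g)
          · show g * a * g⁻¹ ∈ A
            have h1 : g * a * g⁻¹ = g * a * g⁻¹ * a⁻¹ * a := by group
            rw [h1]
            exact A.mul_mem ((le_sup_left : S ≤ A) (hcomm g))
              ((le_sup_right : Subgroup.zpowers a ≤ A) (Subgroup.mem_zpowers a))
        rw [Subgroup.mem_normalizer_iff]
        intro x
        refine ⟨fun hx => hsub g hx, fun hx => ?_⟩
        have := hsub g⁻¹ hx
        simpa [mul_assoc] using this
      obtain ⟨μ, hμ⟩ := Module.End.exists_eigenvalue (ρ a)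
      obtain ⟨v, hv⟩ := hμ.exists_hasEigenvector
      have hle : A ≤ eigenGroup ρ v := by
        refine sup_le ?_ (Subgroup.zpowers_le.2 ⟨μ, hv.apply_eq_smul⟩)
        rintro g ⟨w, hw⟩
        exact ⟨w, by rw [hw]; rfl⟩
      obtain ⟨lam, hlam⟩ := exists_hom_of_eigen ρ v hv.2 A hle
      have hne := classInner_res_linear_ne_zero ρ A v hv.2 lam hlam
      rw [he] at hne
      let θ : A → ℂ := fun x => (lam x : ℂ)
      have hθ : IsIrrCharacter A θ := isIrrCharacter_linear lam
      let T := inertia A θ
      have hTlt : T ≠ ⊤ := by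
        intro hT
        apply haS
        have haA : a ∈ A := (le_sup_right : Subgroup.zpowers a ≤ A) (Subgroup.mem_zpowers a)
        have hcl := clifford A hχirr hθ hne
        have horb : orbitFin A θ = {θ} := by
          refine Finset.eq_singleton_iff_unique_mem.2 ⟨self_mem_orbitFin A θ, fun φ hφ => ?_⟩
          obtain ⟨g, rfl⟩ := (mem_orbitFin A).1 hφ
          exact (hT ▸ Subgroup.mem_top g : g ∈ T)
        rw [horb, Finset.sum_singleton] at hcl
        have h1 := congrFun hcl ⟨a, haA⟩
        have h2 := congrFun hcl 1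
        simp only [Pi.smul_apply, smul_eq_mul, θ, Subgroup.coe_one, map_one, Units.val_one,
          mul_one, ← he, Representation.char_one] at h1 h2
        refine (norm_eq_finrank_iff ρ a).1 ?_
        rw [h1, norm_mul, norm_linear, mul_one, ← h2, Complex.norm_natCast]
      have hAT : A ≤ T := le_inertia A (isClassFunction_irr hθ)
      obtain ⟨ψ, hψ, hψind, -⟩ :=
        exists_inertia_constituent A T hAT hθ (fun g => Iff.rfl) hχirr hne
      have hlt : Nat.card T < N := hN ▸ lt_of_le_of_ne (Subgroup.card_le_card_group T)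
        (fun h => hTlt ((Subgroup.card_eq_iff_eq_top T).1 h))
      obtain ⟨H, l, hl⟩ := ih _ hlt ψ rfl hψ
      refine ⟨H.map T.subtype,
        l.comp (H.equivMapOfInjective T.subtype T.subtype_injective).symm.toMonoidHom, ?_⟩
      rw [← hψind, hl, ind_map_subtype]
      rfl
/-- Every irreducible character of a finite nilpotent group is monomial. -/
theorem exists_monomial [Fintype G] [Group.IsNilpotent G] {χ : G → ℂ} (hχ : IsIrrCharacter G χ) :
    ∃ (H : Subgroup G) (lam : H →* ℂˣ), χ = indFun H (fun h => (lam h : ℂ)) :=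
  exists_monomial_aux _ χ rfl hχ

end Cfsg.Agent.CharInduced
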