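/-
The Brauer induction theorem and the characterisation of generalized characters.
-/
import Mathlib
import Cfsg.Agent.Lib.BrauerSolomon
import Cfsg.Agent.Lib.CharInducedMonomial

set_option autoImplicit false

open scoped ComplexConjugate
open Finset

namespace Cfsg.Agent.BrauerInduction

open CharBasic CharBasicOrth CharBasicDecomp CharInduced BrauerSolomon

universe u

/-! ### A lemma on invariant linear characters -/

theorem hom_eq_one_of_invariant {G : Type u} [Group G] [Finite G] (p : ℕ) [Fact p.Prime]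
    (C P : Subgroup G) [hC : C.Normal] (hP : IsPGroup p P) (hcop : Nat.Coprime (Nat.card C) p)
    (lam : C →* ℂˣ)
    (hinv : ∀ (g : G) (c : C), lam ⟨g * c * g⁻¹, hC.conj_mem (c : G) c.2 g⟩ = lam c)
    (hker : ∀ c : C, (c : G) ∈ Subgroup.centralizer (P : Set G) → lam c = 1) : lam = 1 := by
  ext c0
  rw [MonoidHom.one_apply, Units.val_one, Units.val_eq_one]
  let X := {c : C // lam c = lam c0}
  let _ : MulAction P X :=
    { smul := fun y x => ⟨⟨(y : G) * x.1 * (y : G)⁻¹, hC.conj_mem _ x.1.2 _⟩,
        (hinv (y : G) x.1).trans x.2⟩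
      one_smul := fun x => Subtype.ext (Subtype.ext (by
        change ((1 : P) : G) * x.1 * ((1 : P) : G)⁻¹ = x.1
        simp))
      mul_smul := fun y z x => Subtype.ext (Subtype.ext (by
        change ((y * z : P) : G) * x.1 * ((y * z : P) : G)⁻¹ =
          (y : G) * ((z : G) * x.1 * (z : G)⁻¹) * (y : G)⁻¹
        push_cast; group)) }
  have hX : Nat.card X = Nat.card lam.ker := Nat.card_congr
    ⟨fun c => ⟨c0⁻¹ * c.1, by simp [MonoidHom.mem_ker, c.2]⟩,
      fun k => ⟨c0 * k.1, by rw [map_mul, MonoidHom.mem_ker.1 k.2, mul_one]⟩,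
      fun c => by simp, fun k => by simp⟩
  have hdvd : ¬ p ∣ Nat.card X := by
    rw [hX]
    exact fun h => ((Nat.Prime.coprime_iff_not_dvd (Fact.out : p.Prime)).1 hcop.symm)
      (h.trans (Subgroup.card_subgroup_dvd_card lam.ker))
  have hne : (MulAction.fixedPoints P X).Nonempty := by
    by_contra h
    rw [Set.not_nonempty_iff_eq_empty] at h
    refine hdvd (Nat.dvd_of_mod_eq_zero ?_)
    rw [hP.card_modEq_card_fixedPoints X, h]
    simp
  obtain ⟨c1, hc1⟩ := hne
  rw [← c1.2]
  refine hker c1.1 ?_
  rw [Subgroup.mem_centralizer_iff]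
  intro y hy
  have := congrArg (fun z : X => ((z.1 : C) : G)) (hc1 ⟨y, hy⟩)
  exact mul_inv_eq_iff_eq_mul.1 this

/-! ### The span of induced characters -/

variable {G : Type u} [Group G]

theorem isElementary_congr {p : ℕ} {E E' : Type u} [Group E] [Group E'] (e : E ≃* E')
    (h : IsElementary p E) : IsElementary p E' := by
  obtain ⟨x, hx, hcop, k, hk⟩ := h
  refine ⟨e x, ?_, by rwa [MulEquiv.orderOf_eq], k, ?_⟩
  · rw [Subgroup.mem_center_iff]
    intro g
    obtain ⟨g, rfl⟩ := e.surjective g
    rw [← map_mul, ← map_mul, Subgroup.mem_center_iff.1 hx g]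
  · have : Subgroup.zpowers (e x) = (Subgroup.zpowers x).map e.toMonoidHom :=
      (MonoidHom.map_zpowers e.toMonoidHom x).symm
    rw [this, show e.toMonoidHom = (e : E →* E') from rfl, Subgroup.index_map_equiv]
    exact hk

theorem isElementary_top {p : ℕ} (h : IsElementary p G) : IsElementary p (⊤ : Subgroup G) :=
  isElementary_congr Subgroup.topEquiv.symm h

theorem IsElementary.subgroup [Finite G] {p : ℕ} (hp : p.Prime) (U : Subgroup G)
    (h : IsElementary p G) : IsElementary p U := by
  obtain ⟨x, hx, hcop, k, hk⟩ := h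
  have hn : (Subgroup.zpowers x).Normal := by
    refine ⟨fun n hn g => ?_⟩
    have hle : Subgroup.zpowers x ≤ Subgroup.center G := Subgroup.zpowers_le.2 hx
    rwa [Subgroup.mem_center_iff.1 (hle hn) g, mul_inv_cancel_right]
  have hcyc : IsCyclic ((Subgroup.zpowers x).subgroupOf U) := by
    refine isCyclic_of_injective
      ((U.subtype.comp ((Subgroup.zpowers x).subgroupOf U).subtype).codRestrict (Subgroup.zpowers x)
        (fun y => y.2)) ?_
    intro a b hab
    exact Subtype.ext (Subtype.ext (congrArg (Subtype.val : Subgroup.zpowers x → G) hab))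
  obtain ⟨y, hy⟩ := hcyc.exists_zpow_surjective
  have hgen : Subgroup.zpowers (y : U) = (Subgroup.zpowers x).subgroupOf U := by
    refine le_antisymm (Subgroup.zpowers_le.2 y.2) (fun z hz => ?_)
    obtain ⟨n, hn⟩ := hy ⟨z, hz⟩
    exact ⟨n, congrArg Subtype.val hn⟩
  refine ⟨(y : U), ?_, ?_, ?_⟩
  · rw [Subgroup.mem_center_iff]
    intro g
    obtain ⟨n, hn⟩ := Subgroup.mem_zpowers_iff.1 y.2
    apply Subtype.ext
    show (g : G) * ((y : U) : G) = ((y : U) : G) * g
    rw [show ((y : U) : G) = x ^ n from hn.symm, Subgroup.mem_center_iff.1 (zpow_mem hx n) g]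
  · refine hcop.coprime_dvd_left ?_
    rw [← Subgroup.orderOf_coe, ← Nat.card_zpowers x]
    exact Subgroup.orderOf_dvd_natCard _ y.2
  · have h2 := Subgroup.relIndex_dvd_index_of_normal (Subgroup.zpowers x) U
    rw [hk] at h2
    obtain ⟨j, -, hj⟩ := (Nat.dvd_prime_pow hp).1 h2
    exact ⟨j, by rw [hgen]; exact hj⟩

variable [Fintype G]

/-- Integral combinations of characters induced from subgroups satisfying `P`. -/
def indSpan (P : Subgroup G → Prop) : AddSubgroup (G → ℂ) :=
  AddSubgroup.closure {f | ∃ (H : Subgroup G) (φ : H → ℂ), P H ∧ IsCharacter H φ ∧ f = indFun H φ}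

theorem ind_mem_indSpan {P : Subgroup G → Prop} {H : Subgroup G} (hH : P H) {φ : H → ℂ}
    (hφ : IsCharacter H φ) : indFun H φ ∈ indSpan P :=
  AddSubgroup.subset_closure ⟨H, φ, hH, hφ, rfl⟩

theorem indSpan_mono {P Q : Subgroup G → Prop} (h : ∀ H, P H → Q H) : indSpan P ≤ indSpan Q :=
  AddSubgroup.closure_mono fun _ ⟨H, φ, hH, hφ, he⟩ => ⟨H, φ, h H hH, hφ, he⟩

theorem mul_mem_indSpan {P : Subgroup G → Prop} {f χ : G → ℂ} (hf : f ∈ indSpan P)
    (hχ : IsCharacter G χ) : f * χ ∈ indSpan P := by
  induction hf using AddSubgroup.closure_induction with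
  | mem x hx =>
    obtain ⟨H, φ, hH, hφ, rfl⟩ := hx
    rw [← ind_mul_res H φ (CharBasic.isClassFunction_of_isCharacter hχ)]
    exact ind_mem_indSpan hH (isCharacter_mul hφ (isCharacter_comap H.subtype hχ))
  | zero => rw [zero_mul]; exact zero_mem _
  | add x y _ _ hx hy => rw [add_mul]; exact add_mem hx hy
  | neg x _ hx => rw [neg_mul]; exact neg_mem hx

theorem ind_mem_indSpan_of_mem (T : Subgroup G) [Fintype T] {P' : Subgroup T → Prop}
    {P : Subgroup G → Prop} (hP : ∀ H, P' H → P (H.map T.subtype)) {f : T → ℂ}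
    (hf : f ∈ indSpan P') : indFun T f ∈ indSpan P := by
  induction hf using AddSubgroup.closure_induction with
  | mem x hx =>
    obtain ⟨H, φ, hH, hφ, rfl⟩ := hx
    rw [ind_map_subtype]
    exact ind_mem_indSpan (hP H hH)
      (isCharacter_comap (H.equivMapOfInjective T.subtype T.subtype_injective).symm.toMonoidHom hφ)
  | zero => rw [ind_zero]; exact zero_mem _
  | add x y _ _ hx hy => rw [ind_add]; exact add_mem hx hy
  | neg x _ hx => rw [ind_neg]; exact neg_mem hx

theorem isElementary_map_subtype (p : ℕ) (T : Subgroup G) (H : Subgroup T)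
    (h : IsElementary p H) : IsElementary p (H.map T.subtype) :=
  isElementary_congr (H.equivMapOfInjective T.subtype T.subtype_injective) h

omit [Fintype G] in
theorem one_mem_indSpan_aux (p : ℕ) (hp : p.Prime) (N : ℕ) :
    ∀ {G : Type u} [Group G] [Fintype G], Nat.card G = N →
      (∃ C : Subgroup G, C.Normal ∧ IsCyclic C ∧ Nat.Coprime (Nat.card C) p ∧
        ∃ k : ℕ, C.index = p ^ k) →
      (fun _ => (1 : ℂ)) ∈ indSpan (G := G) (fun H => IsElementary p H) := by
  induction N using Nat.strong_induction_on with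
  | _ N ih =>
    intro G _ _ hN hQE
    classical
    obtain ⟨C, hCn, hcyc, hcop, k, hk⟩ := hQE
    have := Fact.mk hp
    obtain ⟨Q⟩ : Nonempty (Sylow p G) := inferInstance
    set P : Subgroup G := ↑Q with hPdef
    have hP : IsPGroup p P := Q.isPGroup'
    obtain ⟨j, hj⟩ := IsPGroup.iff_card.1 hP
    have hCP : Nat.card C * Nat.card P = Nat.card G := by
      have h1 : Nat.card P ∣ p ^ k := by
        have h2 : Nat.card P ∣ Nat.card C * p ^ k := by
          rw [← hk, C.card_mul_index]; exact Subgroup.card_subgroup_dvd_card P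
        refine Nat.Coprime.dvd_of_dvd_mul_left ?_ h2
        rw [hj]; exact Nat.Coprime.pow_left j hcop.symm
      have h3 : p ^ k ∣ Nat.card P := by
        have h2 : p ^ k ∣ Nat.card G := hk ▸ Subgroup.index_dvd_card C
        exact Q.pow_dvd_card_of_pow_dvd_card h2
      rw [Nat.dvd_antisymm h1 h3, ← hk, C.card_mul_index]
    have hdisj : Disjoint C P :=
      Subgroup.disjoint_of_coprime_natCard (by rw [hj]; exact Nat.Coprime.pow_right j hcop)
    have hCcomm : ∀ a b : C, a * b = b * a := fun a b => IsCyclic.isMulCommutative.is_comm.comm a b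
    -- the central part
    set Z : Subgroup G := C ⊓ Subgroup.centralizer (P : Set G) with hZdef
    have hsup : C ⊔ P = ⊤ := by
      refine Subgroup.eq_top_of_card_eq _ (le_antisymm (Subgroup.card_le_card_group _) ?_)
      rw [← hCP]
      refine le_of_eq_of_le ?_ le_rfl
      exact (Nat.card_congr (Equiv.ofBijective
        (fun z : C × P => (⟨(z.1 : G) * z.2, Subgroup.mul_mem_sup z.1.2 z.2.2⟩ : (C ⊔ P : Subgroup G)))
        ⟨fun a b h => Subgroup.mul_injective_of_disjoint hdisj (congrArg Subtype.val h), fun g => by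
          obtain ⟨c, hc, y, hy, he⟩ := Subgroup.mem_sup_of_normal_left.1 g.2
          exact ⟨(⟨c, hc⟩, ⟨y, hy⟩), Subtype.ext he⟩⟩)).symm.trans (Nat.card_prod _ _) |>.symm
    have hZc : ∀ z ∈ Z, z ∈ Subgroup.center G := by
      intro z hz
      rw [Subgroup.mem_center_iff]
      intro g
      obtain ⟨c, hc, y, hy, rfl⟩ := Subgroup.mem_sup_of_normal_left.1 (hsup ▸ Subgroup.mem_top g)
      have h1 : c * z = z * c := congrArg Subtype.val (hCcomm ⟨c, hc⟩ ⟨z, hz.1⟩)
      have h2 : y * z = z * y := Subgroup.mem_centralizer_iff.1 hz.2 y hy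
      rw [mul_assoc, h2, ← mul_assoc, h1, mul_assoc]
    have hZn : Z.Normal := ⟨fun z hz g => by
      rwa [Subgroup.mem_center_iff.1 (hZc z hz) g, mul_inv_cancel_right]⟩
    set E : Subgroup G := Z ⊔ P with hEdef
    have hZP : Disjoint Z P := hdisj.mono_left inf_le_left
    have hcardE : Nat.card Z * Nat.card P = Nat.card E := by
      exact (Nat.card_prod _ _).symm.trans (Nat.card_congr (Equiv.ofBijective
        (fun z : Z × P => (⟨(z.1 : G) * z.2, Subgroup.mul_mem_sup z.1.2 z.2.2⟩ : (Z ⊔ P : Subgroup G)))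
        ⟨fun a b h => Subgroup.mul_injective_of_disjoint hZP (congrArg Subtype.val h), fun g => by
          obtain ⟨c, hc, y, hy, he⟩ := Subgroup.mem_sup_of_normal_left.1 g.2
          exact ⟨(⟨c, hc⟩, ⟨y, hy⟩), Subtype.ext he⟩⟩))
    have hEel : IsElementary p E := by
      have : IsCyclic Z := isCyclic_of_injective (Subgroup.inclusion (inf_le_left : Z ≤ C))
        (Subgroup.inclusion_injective inf_le_left)
      obtain ⟨z, hz⟩ := IsCyclic.exists_generator (α := Z)
      have hzE : (z : G) ∈ E := (le_sup_left : Z ≤ E) z.2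
      have hzp : Subgroup.zpowers (⟨z, hzE⟩ : E) = Z.subgroupOf E := by
        refine le_antisymm (Subgroup.zpowers_le.2 z.2) (fun w hw => ?_)
        obtain ⟨n, hn⟩ := hz ⟨w, hw⟩
        exact ⟨n, Subtype.ext (congrArg (Subtype.val : Z → G) hn)⟩
      refine ⟨⟨z, hzE⟩, ?_, ?_, j, ?_⟩
      · rw [Subgroup.mem_center_iff]
        intro g
        exact Subtype.ext (Subgroup.mem_center_iff.1 (hZc z z.2) g)
      · refine hcop.coprime_dvd_left ?_
        rw [Subgroup.orderOf_mk]
        exact Subgroup.orderOf_dvd_natCard _ z.2.1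
      · have h1 := (Z.subgroupOf E).card_mul_index
        rw [Nat.card_congr (Subgroup.subgroupOfEquivOfLe (le_sup_left : Z ≤ E)).toEquiv,
          ← hcardE] at h1
        rw [hzp, ← hj]
        exact Nat.eq_of_mul_eq_mul_left Nat.card_pos h1
    have hidx : E.index * Nat.card Z = Nat.card C := by
      have h1 := E.card_mul_index
      rw [← hcardE, ← hCP] at h1
      exact Nat.eq_of_mul_eq_mul_right (Nat.card_pos (α := P))
        (by rw [← h1]; ring)
    set ψ : G → ℂ := indFun E (fun _ => 1) with hψ
    have hψc : IsCharacter G ψ := isCharacter_ind E CharBasicDecomp.isCharacter_one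
    have hCE : ∀ c ∈ C, c ∈ E → c ∈ Z := by
      intro c hc hcE
      obtain ⟨z, hz, y, hy, he⟩ := Subgroup.mem_sup_of_normal_left.1 hcE
      have hy1 : y = 1 := Subgroup.disjoint_def.1 hdisj
        (by
          have : y = z⁻¹ * c := by rw [← he, inv_mul_cancel_left]
          rw [this]
          exact C.mul_mem (C.inv_mem hz.1) hc) hy
      rw [← he, hy1, mul_one]
      exact hz
    have hval : ∀ c : C, ψ c = if (c : G) ∈ Z then (E.index : ℂ) else 0 := by
      intro c
      by_cases hc : (c : G) ∈ Z
      · rw [if_pos hc]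
        have h1 : ∀ x : G, extendByZero E (fun _ => (1 : ℂ)) (x⁻¹ * c * x) = 1 := fun x => by
          have h2 : x⁻¹ * (c : G) * x = c := by
            rw [mul_assoc, ← Subgroup.mem_center_iff.1 (hZc c hc) x, inv_mul_cancel_left]
          rw [h2, ext_zero_of_mem _ ((le_sup_left : Z ≤ E) hc)]
        have hne := card_subgroup_ne_zero E
        rw [hψ, indFun_apply, Finset.sum_congr rfl fun x _ => h1 x, Finset.sum_const,
          Finset.card_univ, ← Nat.card_eq_fintype_card, nsmul_eq_mul, mul_one, ← E.card_mul_index,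
          Nat.cast_mul, inv_mul_cancel_left₀ hne]
      · rw [if_neg hc]
        refine ind_eq_zero_of_not_conj E _ _ fun x hx => hc ?_
        have h1 : x⁻¹ * (c : G) * x ∈ C := hCn.conj_mem' c c.2 x
        have h2 := hCE _ h1 hx
        have h3 : (c : G) = x * (x⁻¹ * c * x) * x⁻¹ := by group
        rw [h3, Subgroup.mem_center_iff.1 (hZc _ h2) x, mul_inv_cancel_right]
        exact h2
    have hinner : ∀ μ : C →* ℂˣ, classInner (fun c : C => ψ c) (fun c => (μ c : ℂ)) ≠ 0 →
        ∀ c : C, (c : G) ∈ Subgroup.centralizer (P : Set G) → μ c = 1 := by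
      intro μ hμ c1 hc1
      by_contra hne
      apply hμ
      simp only [classInner, hval]
      rw [mul_eq_zero]
      right
      set S := ∑ c : C, (if (c : G) ∈ Z then (E.index : ℂ) else 0) * conj (μ c : ℂ) with hS
      have h1 : S = conj (μ c1 : ℂ) * S := by
        rw [hS, Finset.mul_sum]
        symm
        refine Fintype.sum_equiv (Equiv.mulLeft c1) _ _ fun c => ?_
        have hiff : ((c1 * c : C) : G) ∈ Z ↔ (c : G) ∈ Z :=
          Z.mul_mem_cancel_left ⟨c1.2, hc1⟩
        simp only [Equiv.coe_mulLeft, map_mul, Units.val_mul, hiff]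
        ring
      by_contra hS0
      have h2 : conj (μ c1 : ℂ) = 1 := by
        have := mul_eq_right₀ hS0 |>.1 h1.symm
        exact this
      exact hne (Units.ext (by simpa using congrArg (starRingEnd ℂ) h2))
    have hone : classInner (fun c : C => ψ c) (fun _ => 1) = 1 := by
      simp only [classInner, hval, map_one, mul_one]
      rw [← Finset.sum_filter, Finset.sum_const]
      have : (Finset.univ.filter fun c : C => (c : G) ∈ Z).card = Nat.card Z := by
        rw [← Fintype.card_subtype, ← Nat.card_eq_fintype_card]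
        exact Nat.card_congr ⟨fun c => ⟨_, c.2⟩, fun z => ⟨⟨z, z.2.1⟩, z.2⟩, fun c => rfl, fun z => rfl⟩
      rw [this, nsmul_eq_mul, ← hidx, Nat.cast_mul]
      have h1 : (E.index : ℂ) ≠ 0 := Nat.cast_ne_zero.2 E.index_ne_zero_of_finite
      have h2 : (Nat.card Z : ℂ) ≠ 0 := Nat.cast_ne_zero.2 Nat.card_pos.ne'
      field_simp
    obtain ⟨m, hm, hsum⟩ := exists_mult hψc
    have hm1 : m (trivIrr G) = 1 := by
      have h1 := hm (trivIrr G)
      have : Fintype E := Fintype.ofFinite E
      rw [show ((trivIrr G : IrrCharacter G) : G → ℂ) = fun _ => (1 : ℂ) from rfl, hψ,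
        inner_ind_left E _ (fun _ _ => rfl), classInner_irr_self isIrrCharacter_one] at h1
      exact_mod_cast h1.symm
    have hother : ∀ χ : IrrCharacter G, χ ≠ trivIrr G → (m χ : ℂ) • (χ : G → ℂ) ∈
        indSpan (fun H => IsElementary p H) := by
      intro χ hχ
      by_cases hm0 : m χ = 0
      · rw [hm0, Nat.cast_zero, zero_smul]; exact zero_mem _
      rw [Nat.cast_smul_eq_nsmul]
      refine nsmul_mem ?_ _
      -- a linear constituent on `C`
      have hχc := isCharacter_of_isIrrCharacter χ.2
      have hres := isCharacter_res C hχc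
      obtain ⟨θ, hθ, hθne⟩ := exists_constituent hres (by
        obtain ⟨d, hd, hd1⟩ := isIrrCharacter_apply_one χ.2
        exact isCharacter_ne_zero_of_apply_one hd hd1)
      obtain ⟨lam, hlam⟩ := CharBasicLinear.exists_hom_of_comm hCcomm hθ
      choose n hn using fun η : IrrCharacter G =>
        classInner_isCharacter (isCharacter_res C (isCharacter_of_isIrrCharacter η.2))
          (isCharacter_of_isIrrCharacter hθ)
      have hdec : classInner (fun c : C => ψ c) θ = ((∑ η, m η * n η : ℕ) : ℂ) := by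
        have : (fun c : C => ψ c) = ∑ η : IrrCharacter G, (m η : ℂ) • fun c : C => (η : G → ℂ) c := by
          funext c
          have := congrFun hsum (c : G)
          simpa [Finset.sum_apply] using this
        rw [this, inner_sum_left, Nat.cast_sum]
        refine Finset.sum_congr rfl fun η _ => ?_
        rw [CharInduced.inner_smul_left, hn η, Nat.cast_mul]
      have hnχ : n χ ≠ 0 := fun h0 => hθne (by rw [hn χ, h0, Nat.cast_zero])
      have hψθ : classInner (fun c : C => ψ c) θ ≠ 0 := by
        rw [hdec]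
        refine Nat.cast_ne_zero.2 (Nat.pos_iff_ne_zero.1 ?_)
        exact lt_of_lt_of_le (Nat.pos_of_ne_zero (Nat.mul_ne_zero hm0 hnχ))
          (Finset.single_le_sum (fun η _ => Nat.zero_le (m η * n η)) (Finset.mem_univ χ))
      have hTlt : inertia C θ ≠ ⊤ := by
        intro hT
        have hlam1 : lam = 1 := by
          refine hom_eq_one_of_invariant p C P hP hcop lam (fun g c => ?_) (hinner lam ?_)
          · have h1 : conjFun C θ g = θ := (hT ▸ Subgroup.mem_top g : g ∈ inertia C θ)
            have h2 := congrFun h1 c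
            rw [hlam] at h2
            exact Units.ext h2
          · rw [hlam] at hψθ; exact hψθ
        have hθ1 : θ = fun _ => (1 : ℂ) := by
          rw [hlam, hlam1]; simp
        have hn1 : n (trivIrr G) = 1 := by
          have h1 := hn (trivIrr G)
          rw [hθ1, show ((trivIrr G : IrrCharacter G) : G → ℂ) = fun _ => (1 : ℂ) from rfl,
            classInner_irr_self isIrrCharacter_one] at h1
          exact_mod_cast h1.symm
        have h2 := hdec
        rw [hθ1, hone] at h2
        have h3 : (∑ η, m η * n η) = 1 := by exact_mod_cast h2.symm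
        have h4 : ∑ η ∈ ({χ, trivIrr G} : Finset (IrrCharacter G)), m η * n η ≤ ∑ η, m η * n η :=
          Finset.sum_le_sum_of_subset (Finset.subset_univ _)
        rw [Finset.sum_pair hχ, hm1, hn1, h3] at h4
        have := Nat.mul_ne_zero hm0 hnχ
        omega
      have hCT : C ≤ inertia C θ := le_inertia C (isClassFunction_irr hθ)
      obtain ⟨φ, hφ, hφind, -⟩ :=
        exists_inertia_constituent C (inertia C θ) hCT hθ (fun g => Iff.rfl) χ.2 hθne
      rw [← hφind]
      refine ind_mem_indSpan_of_mem _ (P' := fun H => IsElementary p H)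
        (fun H hH => isElementary_map_subtype p _ H hH) ?_
      have hlt : Nat.card (inertia C θ) < N := hN ▸ lt_of_le_of_ne (Subgroup.card_le_card_group _)
        (fun h => hTlt ((Subgroup.card_eq_iff_eq_top _).1 h))
      have h1 := ih _ hlt (G := inertia C θ) rfl ⟨C.subgroupOf (inertia C θ), inferInstance,
        isCyclic_of_injective (Subgroup.subgroupOfEquivOfLe hCT).toMonoidHom
          (Subgroup.subgroupOfEquivOfLe hCT).injective,
        by rwa [Nat.card_congr (Subgroup.subgroupOfEquivOfLe hCT).toEquiv], ?_⟩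
      · have h2 := mul_mem_indSpan h1 (isCharacter_of_isIrrCharacter hφ)
        rwa [show (fun _ => (1 : ℂ)) * φ = φ from funext fun _ => one_mul _] at h2
      · have h2 : C.relIndex (inertia C θ) ∣ p ^ k := hk ▸ Subgroup.relIndex_dvd_index_of_normal C _
        obtain ⟨i, -, hi⟩ := (Nat.dvd_prime_pow hp).1 h2
        exact ⟨i, hi⟩
    have hψmem : ψ ∈ indSpan (fun H => IsElementary p H) :=
      ind_mem_indSpan hEel CharBasicDecomp.isCharacter_one
    have hdiff : (fun _ => (1 : ℂ)) =
        ψ - ∑ η ∈ Finset.univ.erase (trivIrr G), (m η : ℂ) • (η : G → ℂ) := by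
      rw [eq_sub_iff_add_eq]
      conv_rhs => rw [hsum, ← Finset.add_sum_erase _ _ (Finset.mem_univ (trivIrr G)), hm1,
        Nat.cast_one, one_smul]
      rfl
    rw [hdiff]
    exact sub_mem hψmem (sum_mem fun η hη => hother η (Finset.ne_of_mem_erase hη))

/-- The local form of the Brauer induction theorem. -/
theorem exists_const_mem_indSpan (p : ℕ) (hp : p.Prime) :
    ∃ m : ℤ, ¬ (p : ℤ) ∣ m ∧
      (fun _ => (m : ℂ)) ∈ indSpan (G := G) (fun H => IsElementary p H) := by
  classical
  obtain ⟨m, a, hm, ha, he⟩ := solomon (G := G) hp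
  refine ⟨m, hm, ?_⟩
  rw [he]
  refine sum_mem fun H _ => ?_
  by_cases h0 : a H = 0
  · rw [h0, Int.cast_zero, zero_smul]; exact zero_mem _
  rw [Int.cast_smul_eq_zsmul]
  refine zsmul_mem ?_ _
  obtain ⟨C, hCH, hHN, hcyc, hcop, k, hk⟩ := ha H h0
  refine ind_mem_indSpan_of_mem H (P' := fun U => IsElementary p U)
    (fun U hU => isElementary_map_subtype p H U hU)
    (one_mem_indSpan_aux p hp _ rfl ⟨C.subgroupOf H,
      Subgroup.normal_subgroupOf_iff_le_normalizer hCH |>.2 hHN,
      isCyclic_of_injective (Subgroup.subgroupOfEquivOfLe hCH).toMonoidHom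
        (Subgroup.subgroupOfEquivOfLe hCH).injective,
      by rwa [Nat.card_congr (Subgroup.subgroupOfEquivOfLe hCH).toEquiv], k, hk⟩)

/-- Being elementary for some prime. -/
def IsSomeElementary (H : Subgroup G) : Prop := ∃ p : ℕ, p.Prime ∧ IsElementary p H

theorem one_mem_indSpan : (fun _ => (1 : ℂ)) ∈ indSpan (G := G) IsSomeElementary := by
  let I : AddSubgroup ℤ :=
    { carrier := {m | (fun _ => (m : ℂ)) ∈ indSpan (G := G) IsSomeElementary}
      zero_mem' := by
        show (fun _ => ((0 : ℤ) : ℂ)) ∈ indSpan (G := G) IsSomeElementary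
        rw [Int.cast_zero]
        exact zero_mem (indSpan (G := G) IsSomeElementary)
      add_mem' := fun {a b} (ha : (fun _ : G => (a : ℂ)) ∈ indSpan IsSomeElementary)
          (hb : (fun _ : G => (b : ℂ)) ∈ indSpan IsSomeElementary) => by
        show (fun _ => ((a + b : ℤ) : ℂ)) ∈ indSpan (G := G) IsSomeElementary
        have := add_mem ha hb
        simpa [Pi.add_def] using this
      neg_mem' := fun {a} (ha : (fun _ : G => (a : ℂ)) ∈ indSpan IsSomeElementary) => by
        show (fun _ => ((-a : ℤ) : ℂ)) ∈ indSpan (G := G) IsSomeElementary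
        have := neg_mem ha
        simpa [Pi.neg_def] using this }
  obtain ⟨d, hd⟩ := Int.subgroup_cyclic I
  rw [← AddSubgroup.zmultiples_eq_closure] at hd
  have hmem : ∀ m ∈ I, d ∣ m := fun m hm => Int.mem_zmultiples_iff.1 (hd ▸ hm)
  suffices h : d.natAbs = 1 by
    have h1 : (1 : ℤ) ∈ I := by
      rw [hd, Int.mem_zmultiples_iff]
      exact Int.natAbs_dvd.1 (by rw [h]; simp)
    have h2 : (fun _ => ((1 : ℤ) : ℂ)) ∈ indSpan (G := G) IsSomeElementary := h1
    simpa using h2
  by_contra h
  obtain ⟨p, hp, hpd⟩ := Nat.exists_prime_and_dvd h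
  obtain ⟨m, hm, hmm⟩ := exists_const_mem_indSpan (G := G) p hp
  refine hm ((Int.natCast_dvd.2 hpd).trans (hmem m ?_))
  exact indSpan_mono (fun H hH => ⟨p, hp, hH⟩) hmm

/-- A class function which is a generalized character on all elementary subgroups is one. -/
theorem isGeneralizedCharacter_of_elementary {θ : G → ℂ} (hθ : IsClassFunction G θ)
    (hE : ∀ (E : Subgroup G) (p : ℕ), p.Prime → IsElementary p E →
      IsGeneralizedCharacter E (fun e : E => θ e)) : IsGeneralizedCharacter G θ := by
  have key : ∀ f ∈ indSpan (G := G) IsSomeElementary, IsGeneralizedCharacter G (f * θ) := by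
    intro f hf
    induction hf using AddSubgroup.closure_induction with
    | mem x hx =>
      obtain ⟨H, φ, ⟨p, hp, hH⟩, hφ, rfl⟩ := hx
      rw [← ind_mul_res H φ hθ]
      obtain ⟨a, b, ha, hb, he⟩ := isGeneralizedCharacter_mul
        (isGeneralizedCharacter_of_isCharacter hφ) (hE H p hp hH)
      refine ⟨_, _, isCharacter_ind H ha, isCharacter_ind H hb, ?_⟩
      rw [← ind_sub, ← he]
      rfl
    | zero => rw [zero_mul]; exact isGeneralizedCharacter_zero
    | add x y _ _ hx hy => rw [add_mul]; exact isGeneralizedCharacter_add hx hy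
    | neg x _ hx => rw [neg_mul]; exact isGeneralizedCharacter_neg hx
  have := key _ one_mem_indSpan
  rwa [show (fun _ => (1 : ℂ)) * θ = θ from funext fun _ => one_mul _] at this

omit [Fintype G] in
theorem isNilpotent_of_isElementary [Finite G] {p : ℕ} (hp : p.Prime) (h : IsElementary p G) :
    Group.IsNilpotent G := by
  obtain ⟨x, hx, -, k, hk⟩ := h
  have := Fact.mk hp
  have hn : (Subgroup.zpowers x).Normal := by
    refine ⟨fun n hn g => ?_⟩
    have hle : Subgroup.zpowers x ≤ Subgroup.center G := Subgroup.zpowers_le.2 hx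
    rwa [Subgroup.mem_center_iff.1 (hle hn) g, mul_inv_cancel_right]
  have hQ : IsPGroup p (G ⧸ Subgroup.zpowers x) :=
    IsPGroup.of_card (n := k) (by rw [← hk]; rfl)
  have hnilQ : Group.IsNilpotent (G ⧸ Subgroup.zpowers x) := hQ.isNilpotent
  exact Subgroup.isNilpotent_of_ker_le_center (QuotientGroup.mk' (Subgroup.zpowers x))
    (by rw [QuotientGroup.ker_mk']; exact Subgroup.zpowers_le.2 hx)

/-- The Brauer induction theorem. -/
theorem brauer_induction {χ : G → ℂ} (hχ : IsCharacter G χ) :
    ∃ l : List ((E : Subgroup G) × ((E →* ℂˣ) × ℤ)),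
      (∀ t ∈ l, ∃ p : ℕ, p.Prime ∧ IsElementary p t.1) ∧
      χ = (l.map fun t => (t.2.2 : ℂ) • indFun t.1 (fun e => (t.2.1 e : ℂ))).sum := by
  classical
  let M : AddSubgroup (G → ℂ) := AddSubgroup.closure
    {f | ∃ (E : Subgroup G) (lam : E →* ℂˣ), (∃ p : ℕ, p.Prime ∧ IsElementary p E) ∧
      f = indFun E (fun e => (lam e : ℂ))}
  have hchar : ∀ (E : Subgroup G) (φ : E → ℂ), IsSomeElementary E → IsCharacter E φ →
      indFun E φ ∈ M := by
    intro E φ hE hφ
    obtain ⟨m, -, he⟩ := exists_mult hφ
    rw [he, ind_sum]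
    refine sum_mem fun η _ => ?_
    rw [ind_smul, Nat.cast_smul_eq_nsmul]
    refine nsmul_mem ?_ _
    obtain ⟨p, hp, hel⟩ := hE
    have : Group.IsNilpotent E := isNilpotent_of_isElementary hp hel
    have : Fintype E := Fintype.ofFinite E
    obtain ⟨H, lam, hl⟩ := exists_monomial η.2
    rw [hl, ind_map_subtype]
    exact AddSubgroup.subset_closure ⟨H.map E.subtype,
      lam.comp (H.equivMapOfInjective E.subtype E.subtype_injective).symm.toMonoidHom,
      ⟨p, hp, isElementary_map_subtype p E H (IsElementary.subgroup hp H hel)⟩, rfl⟩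
  have hle : indSpan (G := G) IsSomeElementary ≤ M := by
    refine (AddSubgroup.closure_le _).2 ?_
    rintro f ⟨H, φ, hH, hφ, rfl⟩
    exact hchar H φ hH hφ
  have hχM : χ ∈ M := by
    have := hle (mul_mem_indSpan one_mem_indSpan hχ)
    rwa [show (fun _ => (1 : ℂ)) * χ = χ from funext fun _ => one_mul _] at this
  clear hle hχ
  induction hχM using AddSubgroup.closure_induction with
  | mem f hf =>
    obtain ⟨E, lam, hE, rfl⟩ := hf
    exact ⟨[⟨E, lam, 1⟩], by simpa using hE, by simp⟩
  | zero => exact ⟨[], by simp, by simp⟩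
  | add x y _ _ hx hy =>
    obtain ⟨l₁, h₁, rfl⟩ := hx
    obtain ⟨l₂, h₂, rfl⟩ := hy
    exact ⟨l₁ ++ l₂, fun t ht => (List.mem_append.1 ht).elim (h₁ t) (h₂ t),
      by rw [List.map_append, List.sum_append]⟩
  | neg x _ hx =>
    obtain ⟨l, h, rfl⟩ := hx
    refine ⟨l.map fun t => ⟨t.1, t.2.1, -t.2.2⟩, ?_, ?_⟩
    · intro t ht
      obtain ⟨s, hs, rfl⟩ := List.mem_map.1 ht
      exact h s hs
    · rw [List.map_map]
      rename_i hmem
      clear h hmem
      induction l with
      | nil => simp
      | cons a l ih =>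
        simp only [List.map_cons, List.sum_cons, Function.comp_apply]
        rw [← ih, neg_add, Int.cast_neg, neg_smul]

end Cfsg.Agent.BrauerInduction
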