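/-
Fixed-point-free actions on abelian groups and the structure of Frobenius complements.
-/
import Mathlib
import Cfsg.Agent.Lib.FrobeniusBasic

open scoped Pointwise

namespace Cfsg.Agent.FrobeniusFPF

open Cfsg.Agent.FrobeniusBasic

/-- Fixed-point-free action. -/
def IsFPF (M W : Type*) [Group M] [Group W] [MulDistribMulAction M W] : Prop :=
  ∀ m : M, m ≠ 1 → ∀ w : W, m • w = w → w = 1

section abstract

variable {M W : Type*} [Group M] [Finite M] [CommGroup W] [MulDistribMulAction M W]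

theorem card_dvd_sub_one [Finite W] (h : IsFPF M W) : Nat.card M ∣ Nat.card W - 1 := by
  classical
  let _ : MulAction M {w : W // w ≠ 1} :=
    { smul := fun m w => ⟨m • (w : W), fun e => w.2 (by
        simpa using congrArg (fun z => m⁻¹ • z) e)⟩
      one_smul := fun w => Subtype.ext (one_smul M (w : W))
      mul_smul := fun a b w => Subtype.ext (mul_smul a b (w : W)) }
  have hc : Nat.card {w : W // w ≠ 1} = Nat.card W - 1 := by
    have := Fintype.ofFinite W
    simp [Nat.card_eq_fintype_card]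
  rw [← hc]
  refine card_dvd_of_free fun m w e => ?_
  by_contra hm
  exact w.2 (h m hm w (congrArg Subtype.val e))

theorem coprime_card [Finite W] (h : IsFPF M W) : (Nat.card M).Coprime (Nat.card W) := by
  refine Nat.Coprime.coprime_dvd_left (card_dvd_sub_one h) ?_
  rw [Nat.coprime_self_sub_left Nat.card_pos]
  exact Nat.coprime_one_left _

/-- The norm trick: a partition of `M` into `k + 1` non-trivial subgroups kills `w ^ k`. -/
theorem pow_eq_one_of_partition [Fintype M] (h : IsFPF M W) [Nontrivial M]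
    (𝒜 : Finset (Subgroup M)) (hne : ∀ B ∈ 𝒜, B ≠ ⊥)
    (hpart : ∀ m : M, m ≠ 1 → ∃! B, B ∈ 𝒜 ∧ m ∈ B) (k : ℕ) (hk : 𝒜.card = k + 1) (w : W) :
    w ^ k = 1 := by
  classical
  have hprod : ∀ B : Subgroup M, B ≠ ⊥ →
      (∏ m ∈ Finset.univ.filter (fun m : M => m ∈ B ∧ m ≠ 1), m • w) * w = 1 := by
    intro B hB
    obtain ⟨b, hb, hb1⟩ := B.bot_or_exists_ne_one.resolve_left hB
    set S := Finset.univ.filter (fun m : M => m ∈ B) with hS
    have hfix : b • (∏ m ∈ S, m • w) = ∏ m ∈ S, m • w := by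
      rw [Finset.smul_prod']
      refine Finset.prod_equiv (Equiv.mulLeft b) (fun m => ?_) (fun m _ => ?_)
      · simp [hS, B.mul_mem_cancel_left hb]
      · simp [mul_smul]
    have h1 := h b hb1 _ hfix
    have hins : S = insert 1 (Finset.univ.filter (fun m : M => m ∈ B ∧ m ≠ 1)) := by
      ext m
      by_cases hm : m = 1
      · simp [hS, hm, B.one_mem]
      · simp [hS, hm]
    rw [hins, Finset.prod_insert (by simp), one_smul, mul_comm] at h1
    exact h1
  have hbi : Finset.univ.filter (fun m : M => m ∈ (⊤ : Subgroup M) ∧ m ≠ 1) =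
      𝒜.biUnion (fun B => Finset.univ.filter (fun m : M => m ∈ B ∧ m ≠ 1)) := by
    ext m
    simp only [Finset.mem_filter, Finset.mem_univ, Subgroup.mem_top, true_and,
      Finset.mem_biUnion]
    exact ⟨fun hm => by obtain ⟨B, hB, -⟩ := hpart m hm; exact ⟨B, hB.1, hB.2, hm⟩,
      fun ⟨B, _, _, hm⟩ => hm⟩
  have hdisj : (𝒜 : Set (Subgroup M)).PairwiseDisjoint
      (fun B => Finset.univ.filter (fun m : M => m ∈ B ∧ m ≠ 1)) := by
    intro A hA B hB hAB
    simp only [Function.onFun, Finset.disjoint_left, Finset.mem_filter, Finset.mem_univ, true_and]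
    rintro m ⟨hmA, hm⟩ ⟨hmB, -⟩
    exact hAB ((hpart m hm).unique ⟨hA, hmA⟩ ⟨hB, hmB⟩)
  have hall := hprod ⊤ top_ne_bot
  rw [hbi, Finset.prod_biUnion hdisj] at hall
  have hpow : (∏ B ∈ 𝒜, ∏ m ∈ Finset.univ.filter (fun m : M => m ∈ B ∧ m ≠ 1), m • w) *
      w ^ (k + 1) = 1 := by
    rw [← hk, ← Finset.prod_const w, ← Finset.prod_mul_distrib]
    exact Finset.prod_eq_one fun B hB => hprod B (hne B hB)
  rw [pow_succ', ← mul_assoc, hall, one_mul] at hpow
  exact hpow

/-- A fixed-point-free group of order `p q` on a non-trivial abelian group is cyclic. -/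
theorem isCyclic_of_card_mul_prime [Finite W] [Nontrivial W] (h : IsFPF M W) {p q : ℕ}
    (hp : p.Prime) (hq : q.Prime) (hcard : Nat.card M = p * q) : IsCyclic M := by
  classical
  wlog hpq : p ≤ q generalizing p q
  · exact this hq hp (hcard.trans (mul_comm _ _)) (le_of_not_ge hpq)
  have := Fintype.ofFinite M
  by_contra hnc
  have := Fact.mk hp
  have := Fact.mk hq
  obtain ⟨x, hx⟩ := exists_prime_orderOf_dvd_card' (G := M) q (hcard ▸ dvd_mul_left q p)
  set Q := Subgroup.zpowers x with hQdef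
  have hQ : Nat.card Q = q := by rw [hQdef, Nat.card_zpowers, hx]
  have hQi : Q.index = p := by
    have := Q.index_mul_card
    rw [hQ, hcard] at this
    exact Nat.eq_of_mul_eq_mul_right hq.pos this
  have hQn : Q.Normal := Subgroup.normal_of_index_eq_minFac_card (by
    rw [hQi, hcard]
    have hne : p * q ≠ 1 := (Nat.one_lt_mul_iff.2 ⟨hp.pos, hq.pos, Or.inl hp.one_lt⟩).ne'
    have hm := Nat.minFac_prime hne
    rcases (Nat.Prime.dvd_mul hm).1 (Nat.minFac_dvd (p * q)) with e | e
    · exact ((Nat.prime_dvd_prime_iff_eq hm hp).1 e).symm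
    · refine le_antisymm ?_ (Nat.minFac_le_of_dvd hp.two_le (dvd_mul_right p q))
      rw [(Nat.prime_dvd_prime_iff_eq hm hq).1 e]
      exact hpq)
  have hord : ∀ z : M, z ∉ Q → orderOf z = p := by
    intro z hz
    have hz1 : z ≠ 1 := fun e => hz (e ▸ Q.one_mem)
    have hd : orderOf z ∣ p * q := hcard ▸ orderOf_dvd_natCard z
    have hpz : p ∣ orderOf z := by
      have h1 : orderOf (z : M ⧸ Q) ∣ p := by
        rw [← hQi, Subgroup.index_eq_card]
        exact orderOf_dvd_natCard _
      rcases (Nat.dvd_prime hp).1 h1 with e | e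
      · exact absurd ((QuotientGroup.eq_one_iff z).1 (orderOf_eq_one_iff.1 e)) hz
      · exact e ▸ orderOf_map_dvd (QuotientGroup.mk' Q) z
    obtain ⟨t, ht⟩ := hpz
    rw [ht] at hd
    rcases (Nat.dvd_prime hq).1 (Nat.dvd_of_mul_dvd_mul_left hp.pos hd) with e | e
    · rw [ht, e, mul_one]
    · exact absurd (isCyclic_of_orderOf_eq_card z (by rw [ht, e, hcard])) hnc
  set T : Finset M := Finset.univ.filter (fun z => z ∉ Q) with hT
  set Pf : Finset (Subgroup M) := T.image Subgroup.zpowers with hPf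
  have hmemPf : ∀ B ∈ Pf, Nat.card B = p ∧ B ≠ Q := by
    intro B hB
    obtain ⟨z, hz, rfl⟩ := Finset.mem_image.1 hB
    have hz' : z ∉ Q := (Finset.mem_filter.1 hz).2
    exact ⟨by rw [Nat.card_zpowers, hord z hz'], fun e => hz' (e ▸ Subgroup.mem_zpowers z)⟩
  have hzin : ∀ B ∈ Pf, ∀ m ∈ B, m ≠ 1 → m ∉ Q ∧ B = Subgroup.zpowers m := by
    intro B hB m hm hm1
    obtain ⟨z, hz, rfl⟩ := Finset.mem_image.1 hB
    have hz' : z ∉ Q := (Finset.mem_filter.1 hz).2
    have hc : Nat.card (Subgroup.zpowers z) = p := (hmemPf _ hB).1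
    have he : Subgroup.zpowers m = Subgroup.zpowers z := by
      refine Subgroup.eq_of_le_of_card_ge (Subgroup.zpowers_le.2 hm) ?_
      have := Subgroup.card_dvd_of_le (Subgroup.zpowers_le.2 hm)
      rw [hc] at this
      rcases (Nat.dvd_prime hp).1 this with e | e
      · exact absurd (Subgroup.zpowers_eq_bot.1 (Subgroup.card_eq_one.1 e)) hm1
      · rw [e, hc]
    exact ⟨fun hmQ => hz' ((he.symm.le.trans (Subgroup.zpowers_le.2 hmQ))
      (Subgroup.mem_zpowers z)), he.symm⟩
  have hQnot : Q ∉ Pf := fun hh => (hmemPf Q hh).2 rfl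
  have hcount : Pf.card * (p - 1) = q * (p - 1) := by
    have hU : T = Pf.biUnion (fun B => Finset.univ.filter (fun m : M => m ∈ B ∧ m ≠ 1)) := by
      ext m
      simp only [Finset.mem_biUnion, Finset.mem_filter, Finset.mem_univ, true_and, hT]
      constructor
      · intro hm
        exact ⟨Subgroup.zpowers m, Finset.mem_image.2 ⟨m, by simp [hT, hm], rfl⟩,
          Subgroup.mem_zpowers m, fun e => hm (e ▸ Q.one_mem)⟩
      · rintro ⟨B, hB, hm, hm1⟩
        exact (hzin B hB m hm hm1).1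
    have hTc : T.card = q * (p - 1) := by
      have h1 : T = Finset.univ \ Finset.univ.filter (fun z => z ∈ Q) := by ext; simp [hT]
      rw [h1, Finset.card_sdiff_of_subset (Finset.filter_subset _ _), Finset.card_univ,
        ← Nat.card_eq_fintype_card, hcard, ← Fintype.card_subtype, ← Nat.card_eq_fintype_card]
      have : Nat.card {z // z ∈ Q} = q := hQ
      rw [this, Nat.mul_sub, mul_one, mul_comm]
    rw [← hTc, hU, Finset.card_biUnion]
    · rw [← smul_eq_mul, ← Finset.sum_const]
      refine Finset.sum_congr rfl fun B hB => ?_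
      have h1 : Finset.univ.filter (fun m : M => m ∈ B ∧ m ≠ 1) =
          (Finset.univ.filter (fun m => m ∈ B)).erase 1 := by ext; simp [and_comm]
      rw [h1, Finset.card_erase_of_mem (by simp [B.one_mem]), ← Fintype.card_subtype,
        ← Nat.card_eq_fintype_card]
      exact congrArg (· - 1) (hmemPf B hB).1.symm
    · intro A hA B hB hAB
      simp only [Function.onFun, Finset.disjoint_left, Finset.mem_filter, Finset.mem_univ, true_and]
      rintro m ⟨hmA, hm⟩ ⟨hmB, -⟩
      exact hAB ((hzin A hA m hmA hm).2.trans (hzin B hB m hmB hm).2.symm)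
  have hk : Pf.card = q := Nat.eq_of_mul_eq_mul_right (by have := hp.two_le; omega) hcount
  have hnt : Nontrivial M := Finite.one_lt_card_iff_nontrivial.1 (by
    rw [hcard]; exact Nat.one_lt_mul_iff.2 ⟨hp.pos, hq.pos, Or.inl hp.one_lt⟩)
  have hall : ∀ w : W, w ^ q = 1 := by
    refine fun w => pow_eq_one_of_partition h (insert Q Pf) ?_ ?_ q ?_ w
    · intro B hB hbot
      rcases Finset.mem_insert.1 hB with e | hB
      · rw [hbot] at e
        rw [← e, Subgroup.card_bot] at hQ
        exact hq.ne_one hQ.symm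
      · have := (hmemPf B hB).1
        rw [hbot, Subgroup.card_bot] at this
        exact hp.ne_one this.symm
    · intro m hm
      by_cases hmQ : m ∈ Q
      · refine ⟨Q, ⟨Finset.mem_insert_self _ _, hmQ⟩, fun B ⟨hB, hmB⟩ => ?_⟩
        rcases Finset.mem_insert.1 hB with e | hB
        · exact e
        · exact absurd hmQ (hzin B hB m hmB hm).1
      · refine ⟨Subgroup.zpowers m, ⟨Finset.mem_insert_of_mem
          (Finset.mem_image.2 ⟨m, by simp [hT, hmQ], rfl⟩), Subgroup.mem_zpowers m⟩,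
          fun B ⟨hB, hmB⟩ => ?_⟩
        rcases Finset.mem_insert.1 hB with e | hB
        · exact absurd (e ▸ hmB) hmQ
        · exact (hzin B hB m hmB hm).2
    · rw [Finset.card_insert_of_notMem hQnot, hk]
  obtain ⟨w, hw⟩ := exists_ne (1 : W)
  apply hw
  refine orderOf_eq_one_iff.1 (Nat.Coprime.eq_one_of_dvd ?_ (orderOf_dvd_of_pow_eq_one (hall w)))
  refine (Nat.Coprime.coprime_dvd_right (orderOf_dvd_natCard w) ?_).symm
  exact (coprime_card h).coprime_dvd_left (hcard ▸ dvd_mul_left q p)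

theorem isFPF_subgroup (h : IsFPF M W) (L : Subgroup M) : IsFPF L W :=
  fun m hm w hw => h m (fun e => hm (Subtype.ext e)) w hw

/-- Two commuting elements of the same prime order generate the same subgroup. -/
theorem mem_zpowers_of_commute [Finite W] [Nontrivial W] (h : IsFPF M W) {p : ℕ} (hp : p.Prime)
    {d e : M} (hd : orderOf d = p) (he : orderOf e = p) (hc : Commute d e) :
    d ∈ Subgroup.zpowers e := by
  by_contra hne
  have := Fact.mk hp
  have hd' : d ^ p = 1 := hd ▸ pow_orderOf_eq_one d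
  have he' : e ^ p = 1 := he ▸ pow_orderOf_eq_one e
  set L : Subgroup M := Subgroup.zpowers d ⊔ Subgroup.zpowers e with hL
  have hLc : Nat.card L = p * p := by
    have hdisj : Subgroup.zpowers d ⊓ Subgroup.zpowers e = ⊥ := by
      have hcd : Nat.card (Subgroup.zpowers d) = p := by rw [Nat.card_zpowers, hd]
      have hdvd := Subgroup.card_dvd_of_le
        (inf_le_left : Subgroup.zpowers d ⊓ Subgroup.zpowers e ≤ Subgroup.zpowers d)
      rw [hcd] at hdvd
      rcases (Nat.dvd_prime hp).1 hdvd with h' | h'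
      · exact Subgroup.card_eq_one.1 h'
      · exfalso
        apply hne
        have : Subgroup.zpowers d ⊓ Subgroup.zpowers e = Subgroup.zpowers d :=
          Subgroup.eq_of_le_of_card_ge inf_le_left (by rw [h', hcd])
        exact (this ▸ inf_le_right : Subgroup.zpowers d ≤ Subgroup.zpowers e)
          (Subgroup.mem_zpowers d)
    have hn : Subgroup.zpowers d ≤ Subgroup.normalizer (Subgroup.zpowers e : Set M) := by
      rw [Subgroup.zpowers_le]
      refine Subgroup.centralizer_le_normalizer _ ?_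
      rw [Subgroup.mem_centralizer_iff]
      intro y hy
      obtain ⟨i, rfl⟩ := Subgroup.mem_zpowers_iff.1 hy
      exact (hc.zpow_right i).eq.symm
    have hmul : ((L : Set M)) = (Subgroup.zpowers d : Set M) * (Subgroup.zpowers e : Set M) :=
      Subgroup.coe_mul_of_left_le_normalizer_right _ _ hn
    have hinj : Function.Injective (fun z : Subgroup.zpowers d × Subgroup.zpowers e =>
        (z.1 : M) * z.2) := Subgroup.mul_injective_of_disjoint (disjoint_iff.2 hdisj)
    have hr : (L : Set M) = Set.range (fun z : Subgroup.zpowers d × Subgroup.zpowers e =>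
        (z.1 : M) * z.2) := by
      rw [hmul]; ext y; simp [Set.mem_mul, Subgroup.mem_zpowers_iff]
    have : Nat.card (L : Set M) = p * p := by
      rw [hr, Nat.card_range_of_injective hinj, Nat.card_prod, Nat.card_zpowers, Nat.card_zpowers,
        hd, he]
    exact this
  have hcyc := isCyclic_of_card_mul_prime (isFPF_subgroup h L) hp hp hLc
  have := (isCyclic_iff_exists_natCard_le_orderOf (α := L)).1 hcyc
  obtain ⟨⟨z, hz⟩, hzo⟩ := this
  have hz' : z ∈ Subgroup.zpowers d ⊔ Subgroup.zpowers e := hz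
  rw [← SetLike.mem_coe] at hz
  have hzp : z ^ p = 1 := by
    have hn : Subgroup.zpowers d ≤ Subgroup.normalizer (Subgroup.zpowers e : Set M) := by
      rw [Subgroup.zpowers_le]
      refine Subgroup.centralizer_le_normalizer _ ?_
      rw [Subgroup.mem_centralizer_iff]
      intro y hy
      obtain ⟨i, rfl⟩ := Subgroup.mem_zpowers_iff.1 hy
      exact (hc.zpow_right i).eq.symm
    rw [hL, Subgroup.coe_mul_of_left_le_normalizer_right _ _ hn] at hz
    obtain ⟨a, ha, b, hb, rfl⟩ := Set.mem_mul.1 hz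
    obtain ⟨i, rfl⟩ := Subgroup.mem_zpowers_iff.1 ha
    obtain ⟨j, rfl⟩ := Subgroup.mem_zpowers_iff.1 hb
    rw [(hc.zpow_zpow i j).mul_pow, ← zpow_natCast (d ^ i), ← zpow_natCast (e ^ j), ← zpow_mul,
      ← zpow_mul, mul_comm i, mul_comm j, zpow_mul, zpow_mul, zpow_natCast, zpow_natCast, hd',
      he', one_zpow, one_zpow, one_mul]
  rw [Subgroup.orderOf_mk, hLc] at hzo
  have := Nat.le_of_dvd hp.pos (orderOf_dvd_of_pow_eq_one hzp)
  have := hp.two_le
  nlinarith

end abstract

/-- A finite abelian group in which two elements of equal prime order generate the same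
subgroup is cyclic. -/
theorem isCyclic_of_unique_prime {A : Type*} [CommGroup A] [Finite A]
    (h : ∀ p : ℕ, p.Prime → ∀ d e : A, orderOf d = p → orderOf e = p → d ∈ Subgroup.zpowers e) :
    IsCyclic A := by
  classical
  obtain ⟨a, ha⟩ := Monoid.exists_orderOf_eq_exponent (G := A) Monoid.ExponentExists.of_finite
  refine ⟨a, fun b => ?_⟩
  by_contra hb
  set Z := Subgroup.zpowers a with hZ
  have hbZ : (b : A ⧸ Z) ≠ 1 := fun e => hb ((QuotientGroup.eq_one_iff b).1 e)
  have ho1 : orderOf (b : A ⧸ Z) ≠ 1 := fun e => hbZ (orderOf_eq_one_iff.1 e)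
  obtain ⟨p, hp, hpd⟩ := Nat.exists_prime_and_dvd ho1
  set c := b ^ (orderOf (b : A ⧸ Z) / p) with hc
  have hoc : orderOf (c : A ⧸ Z) = p := by
    rw [hc, QuotientGroup.mk_pow]
    exact orderOf_pow_orderOf_div (orderOf_pos _).ne' hpd
  have hcZ : c ∉ Z := fun hh => hp.ne_one (by
    rw [← hoc, (QuotientGroup.eq_one_iff c).2 hh, orderOf_one])
  have hcp : c ^ p ∈ Z := by
    rw [← QuotientGroup.eq_one_iff, QuotientGroup.mk_pow, ← hoc]
    exact pow_orderOf_eq_one _
  have hn : c ^ orderOf a = 1 := ha ▸ Monoid.pow_exponent_eq_one c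
  have hpn : p ∣ orderOf a := by
    rw [← hoc]
    refine orderOf_dvd_of_pow_eq_one ?_
    rw [← QuotientGroup.mk_pow, hn]
    rfl
  obtain ⟨i, hi⟩ := Subgroup.mem_zpowers_iff.1 hcp
  obtain ⟨m, hm⟩ := hpn
  have hm0 : m ≠ 0 := fun e => (orderOf_pos a).ne' (by rw [hm, e, mul_zero])
  have hdvd : (p : ℤ) ∣ i := by
    have h1 : a ^ (i * (m : ℤ)) = 1 := by
      rw [zpow_mul, hi, zpow_natCast, ← pow_mul, ← hm, hn]
    have h2 := orderOf_dvd_iff_zpow_eq_one.2 h1
    rw [hm, Nat.cast_mul] at h2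
    exact (mul_dvd_mul_iff_right (by exact_mod_cast hm0)).1 h2
  obtain ⟨j, rfl⟩ := hdvd
  have := Fact.mk hp
  have hd : orderOf (c * (a ^ j)⁻¹) = p := by
    refine orderOf_eq_prime ?_ ?_
    · rw [mul_pow, inv_pow, ← hi, ← zpow_natCast (a ^ j), ← zpow_mul, mul_comm j, mul_inv_cancel]
    · intro e
      apply hcZ
      rw [mul_inv_eq_one] at e
      rw [e]
      exact Z.zpow_mem (Subgroup.mem_zpowers a) j
  have he : orderOf (a ^ m) = p := by
    rw [orderOf_pow_of_dvd hm0 ⟨p, by rw [hm, mul_comm]⟩, hm,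
      Nat.mul_div_cancel _ (Nat.pos_of_ne_zero hm0)]
  have hmem := h p hp _ _ hd he
  apply hcZ
  have hmem' : c * (a ^ j)⁻¹ ∈ Z :=
    (Subgroup.zpowers_le.2 (Z.pow_mem (Subgroup.mem_zpowers a) m)) hmem
  simpa using Z.mul_mem hmem' (Z.zpow_mem (Subgroup.mem_zpowers a) j)

/-- An abelian group acting fixed-point-freely is cyclic. -/
theorem isCyclic_of_comm {M W : Type*} [Group M] [Finite M] [CommGroup W] [Finite W] [Nontrivial W]
    [MulDistribMulAction M W] (h : IsFPF M W) (hc : ∀ a b : M, a * b = b * a) : IsCyclic M := by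
  let _ : CommGroup M := { ‹Group M› with mul_comm := hc }
  exact isCyclic_of_unique_prime fun p hp d e hd he =>
    mem_zpowers_of_commute h hp hd he (hc d e)

section internal

variable {G : Type*} [Group G]

/-- Conjugation action of a subgroup on a subgroup it normalises. -/
@[instance_reducible]
def conjAction (A V : Subgroup G) (hAV : A ≤ Subgroup.normalizer (V : Set G)) :
    MulDistribMulAction A V where
  smul a v := ⟨(a : G) * v * (a : G)⁻¹, (Subgroup.mem_normalizer_iff.1 (hAV a.2) v).1 v.2⟩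
  one_smul v := Subtype.ext (by
    change ((1 : A) : G) * v * ((1 : A) : G)⁻¹ = v
    simp)
  mul_smul a b v := Subtype.ext (by
    change ((a * b : A) : G) * v * ((a * b : A) : G)⁻¹ =
      (a : G) * ((b : G) * v * (b : G)⁻¹) * (a : G)⁻¹
    push_cast; group)
  smul_mul a v w := Subtype.ext (by
    change (a : G) * ((v * w : V) : G) * (a : G)⁻¹ =
      (a : G) * v * (a : G)⁻¹ * ((a : G) * w * (a : G)⁻¹)
    push_cast; group)
  smul_one a := Subtype.ext (by
    change (a : G) * ((1 : V) : G) * (a : G)⁻¹ = ((1 : V) : G)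
    simp)

theorem isFPF_conjAction {A V : Subgroup G} (hAV : A ≤ Subgroup.normalizer (V : Set G))
    (hfpf : ∀ a ∈ A, a ≠ 1 → V ⊓ Subgroup.centralizer ({a} : Set G) = ⊥) :
    @IsFPF A V _ _ (conjAction A V hAV) := by
  intro a ha v hv
  have hv' : (a : G) * v * (a : G)⁻¹ = v := congrArg Subtype.val hv
  have hmem : (v : G) ∈ V ⊓ Subgroup.centralizer ({(a : G)} : Set G) := by
    refine ⟨v.2, ?_⟩
    show (v : G) ∈ Subgroup.centralizer ({(a : G)} : Set G)
    rw [Subgroup.mem_centralizer_iff]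
    rintro y rfl
    exact mul_inv_eq_iff_eq_mul.1 hv'
  rw [hfpf a a.2 (fun e => ha (Subtype.ext e)), Subgroup.mem_bot] at hmem
  exact Subtype.ext hmem

/-- Abelian fixed-point-free subgroups, and those of order a product of two primes, are cyclic. -/
theorem isCyclic_of_fpf [Finite G] (A V : Subgroup G) (hVc : IsMulCommutative V) (hV : V ≠ ⊥)
    (hAV : A ≤ Subgroup.normalizer (V : Set G))
    (hfpf : ∀ a ∈ A, a ≠ 1 → V ⊓ Subgroup.centralizer ({a} : Set G) = ⊥)
    (hA : IsMulCommutative A ∨ ∃ p q : ℕ, p.Prime ∧ q.Prime ∧ Nat.card A = p * q) : IsCyclic A := by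
  let _ : CommGroup V := { (inferInstance : Group V) with
    mul_comm := fun a b => hVc.is_comm.comm a b }
  have : Nontrivial V := (Subgroup.nontrivial_iff_ne_bot V).2 hV
  let _ := conjAction A V hAV
  have h : IsFPF A V := isFPF_conjAction hAV hfpf
  rcases hA with hA | ⟨p, q, hp, hq, hc⟩
  · exact isCyclic_of_comm h fun a b => hA.is_comm.comm a b
  · exact isCyclic_of_card_mul_prime h hp hq hc

variable [Finite G] {K H : Subgroup G} [K.Normal]

theorem coprime_of_fpf (hc : Subgroup.IsComplement' K H) (hK : K ≠ ⊥) (hH : H ≠ ⊥)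
    (hfpf : ∀ h ∈ H, h ≠ 1 → K ⊓ Subgroup.centralizer ({h} : Set G) = ⊥) :
    (Nat.card H).Coprime (Nat.card K) := by
  rw [← hc.index_eq_card]
  exact coprime_card_index (isFrobeniusComplement_of_fpf hc hK hH hfpf)

/-- A complement acting without fixed points normalises a non-trivial abelian subgroup. -/
theorem exists_abelian_invariant (hc : Subgroup.IsComplement' K H) (hK : K ≠ ⊥)
    (hfpf : ∀ h ∈ H, h ≠ 1 → K ⊓ Subgroup.centralizer ({h} : Set G) = ⊥) :
    ∃ V : Subgroup G, V ≤ K ∧ V ≠ ⊥ ∧ IsMulCommutative V ∧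
      H ≤ Subgroup.normalizer (V : Set G) := by
  classical
  obtain ⟨p, hp, hpK⟩ := Nat.exists_prime_and_dvd (n := Nat.card K) (by
    intro e; exact hK (Subgroup.card_eq_one.1 e))
  have := Fact.mk hp
  obtain ⟨P⟩ : Nonempty (Sylow p K) := inferInstance
  set PG : Subgroup G := (P : Subgroup K).map K.subtype with hPG
  by_cases hH : H = ⊥
  · obtain ⟨x, hx, hx1⟩ := K.bot_or_exists_ne_one.resolve_left hK
    exact ⟨Subgroup.zpowers x, Subgroup.zpowers_le.2 hx, by simpa using hx1, inferInstance,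
      hH ▸ bot_le⟩
  have hfc : Cfsg.IsFrobeniusComplement H := isFrobeniusComplement_of_fpf hc hK hH hfpf
  have hco : (Nat.card K).Coprime (Nat.card H) := (coprime_of_fpf hc hK hH hfpf).symm
  set N : Subgroup G := Subgroup.normalizer (PG : Set G) with hN
  have hfr : N ⊔ K = ⊤ := Sylow.normalizer_sup_eq_top P
  set KN : Subgroup N := K.subgroupOf N with hKN
  have : KN.Normal := Subgroup.Normal.subgroupOf ‹K.Normal› N
  have hidx : KN.index = Nat.card H := by
    rw [← hc.symm.index_eq_card]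
    have : K.relIndex (N ⊔ K) = K.relIndex N := Subgroup.relIndex_sup_right N K
    rw [hfr, Subgroup.relIndex_top_right] at this
    exact this.symm
  have hcardKN : Nat.card KN ∣ Nat.card K := by
    have : KN.map N.subtype ≤ K := by rintro _ ⟨y, hy, rfl⟩; exact hy
    rw [Nat.card_congr (KN.equivMapOfInjective _ N.subtype_injective).toEquiv]
    exact Subgroup.card_dvd_of_le this
  obtain ⟨L, hL⟩ := Subgroup.exists_right_complement'_of_coprime (N := KN)
    (by rw [hidx]; exact hco.coprime_dvd_left hcardKN)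
  have hLc : Nat.card L = Nat.card H := by rw [← hidx, hL.symm.index_eq_card]
  set LG : Subgroup G := L.map N.subtype with hLG
  have hLGc : Nat.card LG = Nat.card H := by
    rw [← hLc]
    exact (Nat.card_congr (L.equivMapOfInjective _ N.subtype_injective).toEquiv).symm
  obtain ⟨g, hg⟩ := exists_le_conj_of_card_dvd hfc LG (hLGc ▸ dvd_rfl)
  have hgeq : MulAut.conj g • H = LG := by
    refine (Subgroup.eq_of_le_of_card_ge hg ?_).symm
    rw [← Nat.card_congr (Subgroup.equivSMul (MulAut.conj g) H).toEquiv, hLGc]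
  set Z : Subgroup G := (Subgroup.center PG).map PG.subtype with hZ
  have hPGne : PG ≠ ⊥ := by
    rw [hPG, Ne, Subgroup.map_eq_bot_iff_of_injective _ K.subtype_injective]
    exact P.ne_bot_of_dvd_card hpK
  have hZne : Z ≠ ⊥ := by
    rw [hZ, Ne, Subgroup.map_eq_bot_iff_of_injective _ PG.subtype_injective]
    have : Nontrivial PG := (Subgroup.nontrivial_iff_ne_bot PG).2 hPGne
    have := (P.isPGroup'.map K.subtype).center_nontrivial
    exact (Subgroup.nontrivial_iff_ne_bot _).1 this
  have hZK : Z ≤ K := (Subgroup.map_subtype_le _).trans (Subgroup.map_subtype_le _)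
  have hNZ : N ≤ Subgroup.normalizer (Z : Set G) := by
    intro n hn
    have key : ∀ m : G, m ∈ N → ∀ z ∈ Z, m * z * m⁻¹ ∈ Z := by
      rintro m hm z ⟨u, hu, rfl⟩
      have hmu : m * (u : G) * m⁻¹ ∈ PG := (Subgroup.mem_normalizer_iff.1 hm u).1 u.2
      refine ⟨⟨_, hmu⟩, Subgroup.mem_center_iff.2 fun v => Subtype.ext ?_, rfl⟩
      have hv : m⁻¹ * (v : G) * m ∈ PG := by
        have := (Subgroup.mem_normalizer_iff.1 (N.inv_mem hm) (v : G)).1 v.2
        simpa using this
      have hcm : (m⁻¹ * (v : G) * m) * u = (u : G) * (m⁻¹ * (v : G) * m) :=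
        congrArg Subtype.val (Subgroup.mem_center_iff.1 hu ⟨_, hv⟩)
      change (v : G) * (m * u * m⁻¹) = m * u * m⁻¹ * v
      calc (v : G) * (m * u * m⁻¹) = m * ((m⁻¹ * (v : G) * m) * u) * m⁻¹ := by group
        _ = m * ((u : G) * (m⁻¹ * (v : G) * m)) * m⁻¹ := by rw [hcm]
        _ = m * u * m⁻¹ * v := by group
    rw [Subgroup.mem_normalizer_iff]
    refine fun z => ⟨key n hn z, fun hz => ?_⟩
    have := key n⁻¹ (N.inv_mem hn) _ hz
    simpa [mul_assoc] using this
  refine ⟨MulAut.conj g⁻¹ • Z, fun x hx => ?_, fun e => ?_, ?_, fun h hh => ?_⟩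
  · rw [mem_conj_smul_iff, inv_inv] at hx
    have := Subgroup.Normal.conj_mem' ‹K.Normal› _ (hZK hx) g
    simpa [mul_assoc] using this
  · exact hZne (MulAction.injective (MulAut.conj g⁻¹) (e.trans (Subgroup.smul_bot _).symm))
  · refine ⟨⟨fun a b => Subtype.ext ?_⟩⟩
    obtain ⟨a, ha⟩ := a
    obtain ⟨b, hb⟩ := b
    rw [mem_conj_smul_iff, inv_inv] at ha hb
    obtain ⟨u, hu, hu'⟩ := ha
    obtain ⟨v, -, hv'⟩ := hb
    have hcomm : v * u = u * v := Subgroup.mem_center_iff.1 hu v
    have h' : (PG.subtype u) * (PG.subtype v) = (PG.subtype v) * (PG.subtype u) := by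
      rw [← map_mul, ← map_mul, hcomm]
    rw [hu', hv'] at h'
    change a * b = b * a
    calc a * b = g⁻¹ * ((g * a * g⁻¹) * (g * b * g⁻¹)) * g := by group
      _ = g⁻¹ * ((g * b * g⁻¹) * (g * a * g⁻¹)) * g := by rw [h']
      _ = b * a := by group
  · have hn : g * h * g⁻¹ ∈ N := by
      have : g * h * g⁻¹ ∈ LG := by
        rw [← hgeq, mem_conj_smul_iff]
        simpa [mul_assoc] using hh
      exact Subgroup.map_subtype_le _ this
    rw [Subgroup.mem_normalizer_iff]
    intro y
    have := Subgroup.mem_normalizer_iff.1 (hNZ hn) (g * y * g⁻¹)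
    rw [mem_conj_smul_iff, mem_conj_smul_iff, inv_inv, this]
    have e : g * h * g⁻¹ * (g * y * g⁻¹) * (g * h * g⁻¹)⁻¹ = g * (h * y * h⁻¹) * g⁻¹ := by group
    rw [e]

/-- Abelian subgroups and subgroups of order `p q` of a complement are cyclic. -/
theorem isCyclic_of_le_complement (hc : Subgroup.IsComplement' K H) (hK : K ≠ ⊥)
    (hfpf : ∀ h ∈ H, h ≠ 1 → K ⊓ Subgroup.centralizer ({h} : Set G) = ⊥) (A : Subgroup G)
    (hAH : A ≤ H) (hA : IsMulCommutative A ∨ ∃ p q : ℕ, p.Prime ∧ q.Prime ∧ Nat.card A = p * q) :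
    IsCyclic A := by
  obtain ⟨V, hVK, hV, hVc, hHV⟩ := exists_abelian_invariant hc hK hfpf
  refine isCyclic_of_fpf A V hVc hV (hAH.trans hHV) (fun a ha ha1 => ?_) hA
  exact le_bot_iff.1 ((inf_le_inf_right _ hVK).trans (hfpf a (hAH ha) ha1).le)

theorem inv_involution (hfpf : ∀ h ∈ H, h ≠ 1 → K ⊓ Subgroup.centralizer ({h} : Set G) = ⊥)
    {s : G} (hs : s ∈ H) (hs2 : orderOf s = 2) :
    (∀ k ∈ K, s * k * s⁻¹ = k⁻¹) ∧ IsMulCommutative K := by
  have hs1 : s ≠ 1 := fun e => by simp [e] at hs2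
  have hss : s * s = 1 := by
    have := pow_orderOf_eq_one s
    rwa [hs2, pow_two] at this
  let φ : K →* K := (MulAut.conjNormal (H := K) s).toMonoidHom
  have hval : ∀ k : K, (φ k : G) = s * k * s⁻¹ := fun k => MulAut.conjNormal_apply s k
  have hf : MonoidHom.FixedPointFree φ := by
    intro k hk
    have h' : s * (k : G) * s⁻¹ = k := (hval k).symm.trans (congrArg Subtype.val hk)
    have hmem : (k : G) ∈ K ⊓ Subgroup.centralizer ({s} : Set G) := by
      refine ⟨k.2, ?_⟩
      show (k : G) ∈ Subgroup.centralizer ({s} : Set G)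
      rw [Subgroup.mem_centralizer_iff]
      rintro y rfl
      exact mul_inv_eq_iff_eq_mul.1 h'
    rw [hfpf s hs hs1, Subgroup.mem_bot] at hmem
    exact Subtype.ext hmem
  have hinv : Function.Involutive φ := fun k => by
    apply Subtype.ext
    rw [hval, hval]
    calc s * (s * (k : G) * s⁻¹) * s⁻¹ = (s * s) * k * (s * s)⁻¹ := by group
      _ = k := by rw [hss]; simp
  refine ⟨fun k hk => ?_, ⟨⟨fun a b => hf.commute_all_of_involutive hinv a b⟩⟩⟩
  have h' := congrFun (hf.coe_eq_inv_of_involutive hinv) ⟨k, hk⟩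
  exact (hval ⟨k, hk⟩).symm.trans (congrArg Subtype.val h')

theorem involution_unique (hK : K ≠ ⊥)
    (hfpf : ∀ h ∈ H, h ≠ 1 → K ⊓ Subgroup.centralizer ({h} : Set G) = ⊥) {s t : G} (hs : s ∈ H)
    (hs2 : orderOf s = 2) (ht : t ∈ H) (ht2 : orderOf t = 2) : t = s := by
  by_contra hne
  obtain ⟨k, hk, hk1⟩ := K.bot_or_exists_ne_one.resolve_left hK
  have hts : t * s ≠ 1 := by
    intro e
    apply hne
    have h2 : s * s = 1 := by
      have := pow_orderOf_eq_one s
      rwa [hs2, pow_two] at this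
    exact mul_right_cancel (e.trans h2.symm)
  have h1 := (inv_involution hfpf hs hs2).1 k hk
  have h2 := (inv_involution hfpf ht ht2).1 k⁻¹ (K.inv_mem hk)
  have hmem : k ∈ K ⊓ Subgroup.centralizer ({t * s} : Set G) := by
    refine ⟨hk, ?_⟩
    show k ∈ Subgroup.centralizer ({t * s} : Set G)
    rw [Subgroup.mem_centralizer_iff]
    rintro y rfl
    rw [inv_inv] at h2
    calc t * s * k = t * (s * k * s⁻¹) * s := by group
      _ = (t * k⁻¹ * t⁻¹) * (t * s) := by rw [h1]; group
      _ = k * (t * s) := by rw [h2]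
  rw [hfpf _ (H.mul_mem ht hs) hts, Subgroup.mem_bot] at hmem
  exact hk1 hmem

end internal

end Cfsg.Agent.FrobeniusFPF
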