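import Mathlib
import Cfsg.Prelude.Def_PLocal

/-! Elementary abelian subgroups of largest order, the Thompson subgroup, `omegaOne`, best offenders. -/

set_option autoImplicit false

namespace Cfsg.Agent.Offenders

open Cfsg

variable {G : Type*} [Group G] {H : Type*} [Group H] {p : ℕ}

theorem isMulCommutative_iff (A : Subgroup G) :
    IsMulCommutative A ↔ ∀ x ∈ A, ∀ y ∈ A, x * y = y * x := by
  constructor
  · intro h x hx y hy
    exact congrArg Subtype.val (h.is_comm.comm (⟨x, hx⟩ : A) ⟨y, hy⟩)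
  · intro h
    exact ⟨⟨fun a b => Subtype.ext (h a.1 a.2 b.1 b.2)⟩⟩

theorem ea_iff (A : Subgroup G) :
    IsElementaryAbelian p A ↔
      (∀ x ∈ A, ∀ y ∈ A, x * y = y * x) ∧ ∀ a ∈ A, a ^ p = 1 := by
  rw [IsElementaryAbelian, isMulCommutative_iff]

theorem ea_bot : IsElementaryAbelian p (⊥ : Subgroup G) := by
  rw [ea_iff]; simp

theorem ea_mono {A B : Subgroup G} (hB : IsElementaryAbelian p B) (h : A ≤ B) :
    IsElementaryAbelian p A := by
  rw [ea_iff] at *
  exact ⟨fun x hx y hy => hB.1 x (h hx) y (h hy), fun a ha => hB.2 a (h ha)⟩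

theorem ea_map {A : Subgroup G} (hA : IsElementaryAbelian p A) (f : G →* H) :
    IsElementaryAbelian p (A.map f) := by
  rw [ea_iff] at *
  refine ⟨?_, ?_⟩
  · rintro _ ⟨x, hx, rfl⟩ _ ⟨y, hy, rfl⟩
    rw [← map_mul, ← map_mul, hA.1 x hx y hy]
  · rintro _ ⟨x, hx, rfl⟩
    rw [← map_pow, hA.2 x hx, map_one]

theorem ea_comap {B : Subgroup H} (hB : IsElementaryAbelian p B) (f : G →* H)
    (hf : Function.Injective f) : IsElementaryAbelian p (B.comap f) := by
  rw [ea_iff] at *
  refine ⟨fun x hx y hy => hf ?_, fun a ha => hf ?_⟩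
  · rw [map_mul, map_mul, hB.1 _ hx _ hy]
  · rw [map_pow, hB.2 _ ha, map_one]

theorem ea_sup {A B : Subgroup G} (hA : IsElementaryAbelian p A)
    (hB : IsElementaryAbelian p B) (hc : ∀ a ∈ A, ∀ b ∈ B, a * b = b * a) :
    IsElementaryAbelian p (A ⊔ B) := by
  rw [ea_iff] at *
  have hcen : ∀ x ∈ A ⊔ B, ∀ y ∈ A ⊔ B, x * y = y * x := by
    have h1 : A ⊔ B ≤ Subgroup.centralizer ((A : Set G) ∪ (B : Set G)) := by
      refine sup_le ?_ ?_ <;> intro x hx <;> rw [Subgroup.mem_centralizer_iff] <;>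
        rintro y (hy | hy)
      · exact hA.1 y hy x hx
      · exact (hc x hx y hy).symm
      · exact hc y hy x hx
      · exact hB.1 y hy x hx
    intro x hx y hy
    have h2 : A ⊔ B ≤ Subgroup.centralizer {x} := by
      have hx' := Subgroup.mem_centralizer_iff.1 (h1 hx)
      refine sup_le ?_ ?_ <;> intro z hz <;>
        rw [Subgroup.mem_centralizer_singleton_iff]
      · exact hx' z (Or.inl hz)
      · exact hx' z (Or.inr hz)
    exact (Subgroup.mem_centralizer_singleton_iff.1 (h2 hy)).symm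
  refine ⟨hcen, fun a ha => ?_⟩
  let K : Subgroup G :=
    { carrier := {x | x ∈ A ⊔ B ∧ x ^ p = 1}
      one_mem' := ⟨one_mem _, one_pow _⟩
      mul_mem' := fun {x y} hx hy => ⟨mul_mem hx.1 hy.1, by
        rw [(show Commute x y from hcen x hx.1 y hy.1).mul_pow, hx.2, hy.2, one_mul]⟩
      inv_mem' := fun {x} hx => ⟨inv_mem hx.1, by rw [inv_pow, hx.2, inv_one]⟩ }
  have : A ⊔ B ≤ K :=
    sup_le (fun x hx => ⟨le_sup_left (α := Subgroup G) hx, hA.2 x hx⟩)
      (fun x hx => ⟨le_sup_right (α := Subgroup G) hx, hB.2 x hx⟩)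
  exact (this ha).2

theorem ea_zpowers {x : G} (hx : x ^ p = 1) : IsElementaryAbelian p (Subgroup.zpowers x) := by
  rw [ea_iff]
  refine ⟨?_, ?_⟩
  · rintro _ ⟨i, rfl⟩ _ ⟨j, rfl⟩
    show x ^ i * x ^ j = x ^ j * x ^ i
    rw [← zpow_add, ← zpow_add, add_comm]
  · rintro _ ⟨i, rfl⟩
    show (x ^ i) ^ p = 1
    rw [← zpow_natCast, ← zpow_mul, mul_comm, zpow_mul, zpow_natCast, hx, one_zpow]

theorem ea_isPGroup {A : Subgroup G} (hA : IsElementaryAbelian p A) : IsPGroup p A := by
  intro a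
  refine ⟨1, Subtype.ext ?_⟩
  rw [pow_one]
  exact hA.2 a.1 a.2

/-- Largest-order elementary abelian subgroups exist. -/
theorem exists_max [Finite G] (p : ℕ) : ∃ A, A ∈ maxElementaryAbelianSubgroups p G := by
  classical
  obtain ⟨A, hA, hmax⟩ := Set.exists_max_image {A : Subgroup G | IsElementaryAbelian p A}
    (fun A => Nat.card A) (Set.toFinite _) ⟨⊥, ea_bot⟩
  exact ⟨A, hA, hmax⟩

theorem max_le_thompson {A : Subgroup G} (hA : A ∈ maxElementaryAbelianSubgroups p G) :
    A ≤ thompsonSubgroup p G :=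
  le_sSup hA

theorem max_card_eq {A B : Subgroup G} (hA : A ∈ maxElementaryAbelianSubgroups p G)
    (hB : B ∈ maxElementaryAbelianSubgroups p G) : Nat.card A = Nat.card B :=
  le_antisymm (hB.2 A hA.1) (hA.2 B hB.1)

theorem max_of_card_le {A B : Subgroup G} (hA : A ∈ maxElementaryAbelianSubgroups p G)
    (hB : IsElementaryAbelian p B) (h : Nat.card A ≤ Nat.card B) :
    B ∈ maxElementaryAbelianSubgroups p G :=
  ⟨hB, fun C hC => (hA.2 C hC).trans h⟩

/-- An element of order dividing `p` centralising a largest elementary abelian subgroup lies in it. -/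
theorem mem_max_of_commute [Finite G] {A : Subgroup G}
    (hA : A ∈ maxElementaryAbelianSubgroups p G)
    {x : G} (hx : x ^ p = 1) (hc : ∀ a ∈ A, a * x = x * a) : x ∈ A := by
  have h1 : IsElementaryAbelian p (A ⊔ Subgroup.zpowers x) := by
    refine ea_sup hA.1 (ea_zpowers hx) ?_
    rintro a ha _ ⟨i, rfl⟩
    exact (Commute.zpow_right (hc a ha) i).eq
  have h2 := hA.2 _ h1
  have h3 : A = A ⊔ Subgroup.zpowers x := Subgroup.eq_of_le_of_card_ge le_sup_left h2
  rw [h3]
  exact le_sup_right (α := Subgroup G) (Subgroup.mem_zpowers x)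

theorem max_map_equiv {A : Subgroup G} (hA : A ∈ maxElementaryAbelianSubgroups p G)
    (e : G ≃* H) : A.map e.toMonoidHom ∈ maxElementaryAbelianSubgroups p H := by
  refine ⟨ea_map hA.1 _, fun B hB => ?_⟩
  have h1 := hA.2 _ (ea_comap hB e.toMonoidHom e.injective)
  have h2 : (B.comap e.toMonoidHom).map e.toMonoidHom = B :=
    Subgroup.map_comap_eq_self_of_surjective e.surjective B
  calc Nat.card B = Nat.card ((B.comap e.toMonoidHom).map e.toMonoidHom) := by rw [h2]
    _ = Nat.card (B.comap e.toMonoidHom) := Subgroup.card_map_of_injective e.injective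
    _ ≤ Nat.card A := h1
    _ = Nat.card (A.map e.toMonoidHom) := (Subgroup.card_map_of_injective e.injective).symm

theorem thompson_map_equiv (e : G ≃* H) :
    (thompsonSubgroup p G).map e.toMonoidHom = thompsonSubgroup p H := by
  apply le_antisymm
  · rw [Subgroup.map_le_iff_le_comap]
    refine sSup_le fun A hA => ?_
    rw [← Subgroup.map_le_iff_le_comap]
    exact max_le_thompson (max_map_equiv hA e)
  · refine sSup_le fun B hB => ?_
    have h := max_map_equiv hB e.symm
    intro b hb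
    exact ⟨e.symm b, max_le_thompson h ⟨b, hb, rfl⟩, by simp⟩

/-- `omegaOne` commutes with injective homomorphisms. -/
theorem omegaOne_map {f : G →* H} (hf : Function.Injective f) (K : Subgroup G) :
    (omegaOne p K).map f = omegaOne p (K.map f) := by
  rw [omegaOne, omegaOne, MonoidHom.map_closure]
  congr 1
  ext y
  constructor
  · rintro ⟨x, ⟨hx, hxp⟩, rfl⟩
    exact ⟨⟨x, hx, rfl⟩, by rw [← map_pow, hxp, map_one]⟩
  · rintro ⟨⟨x, hx, rfl⟩, hp⟩
    exact ⟨x, ⟨hx, hf (by rw [map_pow, hp, map_one])⟩, rfl⟩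

theorem omegaOne_le (K : Subgroup G) : omegaOne p K ≤ K :=
  (Subgroup.closure_le _).2 fun _ hx => hx.1

theorem mem_omegaOne {K : Subgroup G} {x : G} (hx : x ∈ K) (hp : x ^ p = 1) : x ∈ omegaOne p K :=
  Subgroup.subset_closure ⟨hx, hp⟩

theorem omegaOne_mono {K L : Subgroup G} (h : K ≤ L) : omegaOne p K ≤ omegaOne p L :=
  Subgroup.closure_mono fun _ hx => ⟨h hx.1, hx.2⟩

/-- `omegaOne` of a commutative subgroup is elementary abelian. -/
theorem omegaOne_ea {K : Subgroup G} (hK : ∀ x ∈ K, ∀ y ∈ K, x * y = y * x) :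
    IsElementaryAbelian p (omegaOne p K) := by
  rw [ea_iff]
  refine ⟨fun x hx y hy => hK x (omegaOne_le K hx) y (omegaOne_le K hy), fun a ha => ?_⟩
  let L : Subgroup G :=
    { carrier := {x | x ∈ K ∧ x ^ p = 1}
      one_mem' := ⟨one_mem _, one_pow _⟩
      mul_mem' := fun {x y} hx hy => ⟨mul_mem hx.1 hy.1, by
        rw [(show Commute x y from hK x hx.1 y hy.1).mul_pow, hx.2, hy.2, one_mul]⟩
      inv_mem' := fun {x} hx => ⟨inv_mem hx.1, by rw [inv_pow, hx.2, inv_one]⟩ }
  have : omegaOne p K ≤ L := (Subgroup.closure_le L).2 fun x hx => hx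
  exact (this ha).2

theorem map_centralizer_range {f : G →* H} (hf : Function.Injective f) (K : Subgroup G) :
    K.map f ⊓ Subgroup.centralizer ((K.map f : Subgroup H) : Set H) =
      (K ⊓ Subgroup.centralizer (K : Set G)).map f := by
  ext y
  constructor
  · rintro ⟨⟨x, hx, rfl⟩, hc⟩
    refine ⟨x, ⟨hx, ?_⟩, rfl⟩
    intro z hz
    apply hf
    rw [map_mul, map_mul]
    exact hc (f z) ⟨z, hz, rfl⟩
  · rintro ⟨x, ⟨hx, hc⟩, rfl⟩
    refine ⟨⟨x, hx, rfl⟩, ?_⟩
    rintro _ ⟨z, hz, rfl⟩
    rw [← map_mul, ← map_mul, hc z hz]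

/-- A subgroup of largest order among the elementary abelian subgroups contained in `U`. -/
def IsMaxIn (p : ℕ) (U A : Subgroup G) : Prop :=
  A ≤ U ∧ IsElementaryAbelian p A ∧
    ∀ B : Subgroup G, B ≤ U → IsElementaryAbelian p B → Nat.card B ≤ Nat.card A

theorem thompsonOf_eq (U : Subgroup G) :
    thompsonSubgroupOf p U = sSup {A | IsMaxIn p U A} := by
  apply le_antisymm
  · rw [thompsonSubgroupOf, Subgroup.map_le_iff_le_comap]
    refine sSup_le fun A hA => ?_
    rw [← Subgroup.map_le_iff_le_comap]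
    refine le_sSup ⟨Subgroup.map_subtype_le A, ea_map hA.1 _, fun B hB hBe => ?_⟩
    rw [Subgroup.card_map_of_injective U.subtype_injective]
    calc Nat.card B = Nat.card (B.subgroupOf U) :=
          (Nat.card_congr (Subgroup.subgroupOfEquivOfLe hB).toEquiv).symm
      _ ≤ Nat.card A := hA.2 _ (ea_comap hBe U.subtype U.subtype_injective)
  · refine sSup_le fun A ⟨hAU, hAe, hAmax⟩ => ?_
    have h : A.subgroupOf U ∈ maxElementaryAbelianSubgroups p U := by
      refine ⟨ea_comap hAe U.subtype U.subtype_injective, fun B hB => ?_⟩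
      rw [Nat.card_congr (Subgroup.subgroupOfEquivOfLe hAU).toEquiv,
        ← Subgroup.card_map_of_injective (K := B) U.subtype_injective]
      exact hAmax _ (Subgroup.map_subtype_le B) (ea_map hB _)
    rw [thompsonSubgroupOf]
    intro a ha
    exact ⟨⟨a, hAU ha⟩, max_le_thompson h ha, rfl⟩

theorem thompsonOf_le (U : Subgroup G) : thompsonSubgroupOf p U ≤ U :=
  Subgroup.map_subtype_le _

/-- If `U` contains every largest elementary abelian subgroup, `J(U) = J(G)`. -/
theorem thompsonOf_eq_thompson [Finite G] {U : Subgroup G}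
    (h : ∀ A ∈ maxElementaryAbelianSubgroups p G, A ≤ U) :
    thompsonSubgroupOf p U = thompsonSubgroup p G := by
  obtain ⟨A₀, hA₀⟩ := exists_max (G := G) p
  rw [thompsonOf_eq]
  apply le_antisymm
  · refine sSup_le fun A ⟨hAU, hAe, hAmax⟩ => ?_
    exact max_le_thompson (max_of_card_le hA₀ hAe (hAmax _ (h _ hA₀) hA₀.1))
  · exact sSup_le fun A hA => le_sSup ⟨h A hA, hA.1, fun B _ hB => hA.2 B hB⟩

theorem thompsonOf_map_conj (g : G) (U : Subgroup G) :
    (thompsonSubgroupOf p U).map (MulAut.conj g).toMonoidHom =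
      thompsonSubgroupOf p (U.map (MulAut.conj g).toMonoidHom) := by
  set c := (MulAut.conj g).toMonoidHom with hc
  let e : U ≃* U.map c := (MulAut.conj g).subgroupMap U
  rw [thompsonSubgroupOf, thompsonSubgroupOf, Subgroup.map_map,
    ← thompson_map_equiv e, Subgroup.map_map]
  rfl

/-- The Thompson subgroup of `G` is invariant under automorphisms. -/
theorem thompson_characteristic : (thompsonSubgroup p G).Characteristic :=
  Subgroup.characteristic_iff_map_eq.2 fun e => thompson_map_equiv e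

theorem exists_mem_sylow [Fact p.Prime] {A : Subgroup G} (hA : IsElementaryAbelian p A) :
    ∃ S : Sylow p G, A ≤ S :=
  (ea_isPGroup hA).exists_le_sylow

/-- A largest elementary abelian subgroup of a Sylow subgroup is largest in the whole group. -/
theorem maxIn_sylow [Finite G] [Fact p.Prime] {S : Sylow p G} {A : Subgroup G}
    (hA : IsMaxIn p (S : Subgroup G) A) : A ∈ maxElementaryAbelianSubgroups p G := by
  refine ⟨hA.2.1, fun B hB => ?_⟩
  obtain ⟨T, hT⟩ := exists_mem_sylow hB
  obtain ⟨g, hg⟩ := MulAction.exists_smul_eq G T S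
  have hBS : B.map (MulAut.conj g).toMonoidHom ≤ (S : Subgroup G) := by
    rintro _ ⟨b, hb, rfl⟩
    rw [← hg]
    exact Subgroup.smul_mem_pointwise_smul b (MulAut.conj g) (T : Subgroup G) (hT hb)
  have h := hA.2.2 _ hBS (ea_map hB _)
  rwa [Subgroup.card_map_of_injective (MulAut.conj g).injective] at h

theorem max_maxIn {U A : Subgroup G} (hA : A ∈ maxElementaryAbelianSubgroups p G) (h : A ≤ U) :
    IsMaxIn p U A :=
  ⟨h, hA.1, fun B _ hB => hA.2 B hB⟩

theorem thompsonOf_sylow_le [Finite G] [Fact p.Prime] (S : Sylow p G) :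
    thompsonSubgroupOf p (S : Subgroup G) ≤ thompsonSubgroup p G := by
  rw [thompsonOf_eq]
  exact sSup_le fun A hA => max_le_thompson (maxIn_sylow hA)

end Cfsg.Agent.Offenders
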