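import Cfsg.Agent.Lib.TransferTate

/-!
# Alperin's fusion theorem and Frobenius' normal `p`-complement theorem
-/

set_option linter.style.haveILetI false

namespace Cfsg.Agent.TransferAlperin

open Subgroup Cfsg.Agent.TransferPResidual Cfsg.Agent.TransferTate

variable {G : Type*} [Group G] {p : ℕ}

/-- The conjugate `g T g⁻¹`. -/
abbrev cj (g : G) (T : Subgroup G) : Subgroup G := T.map (MulAut.conj g).toMonoidHom

theorem mem_cj {g x : G} {T : Subgroup G} : x ∈ cj g T ↔ g⁻¹ * x * g ∈ T := by
  constructor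
  · rintro ⟨t, ht, rfl⟩
    simpa [mul_assoc] using ht
  · intro h
    exact ⟨g⁻¹ * x * g, h, by simp [mul_assoc]⟩

theorem conj_mem_cj {g x : G} {T : Subgroup G} (h : x ∈ T) : g * x * g⁻¹ ∈ cj g T :=
  ⟨x, h, rfl⟩

theorem cj_mul (g h : G) (T : Subgroup G) : cj (g * h) T = cj g (cj h T) := by
  ext x
  simp only [mem_cj, mul_inv_rev, mul_assoc]

theorem cj_one (T : Subgroup G) : cj 1 T = T := by
  ext x
  simp [mem_cj]

theorem cj_inv_cj (g : G) (T : Subgroup G) : cj g⁻¹ (cj g T) = T := by
  rw [← cj_mul, inv_mul_cancel, cj_one]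

theorem cj_cj_inv (g : G) (T : Subgroup G) : cj g (cj g⁻¹ T) = T := by
  rw [← cj_mul, mul_inv_cancel, cj_one]

theorem cj_mono (g : G) {S T : Subgroup G} (h : S ≤ T) : cj g S ≤ cj g T :=
  map_mono h

theorem cj_inj {g : G} {S T : Subgroup G} (h : cj g S = cj g T) : S = T := by
  rw [← cj_inv_cj g S, h, cj_inv_cj]

theorem card_cj (g : G) (T : Subgroup G) : Nat.card (cj g T) = Nat.card T :=
  card_map_of_injective (MulAut.conj g).injective

theorem isPGroup_cj {g : G} {T : Subgroup G} (h : IsPGroup p T) : IsPGroup p (cj g T) :=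
  h.map _

theorem cj_eq_self {g : G} {T : Subgroup G} (h : g ∈ normalizer (T : Set G)) : cj g T = T := by
  ext x
  have h' := mem_normalizer_iff.mp (inv_mem h) x
  rw [inv_inv] at h'
  rw [mem_cj]
  exact h'.symm

theorem mem_normalizer_of_cj_eq {g : G} {T : Subgroup G} (h : cj g T = T) :
    g ∈ normalizer (T : Set G) := by
  rw [mem_normalizer_iff]
  intro x
  constructor
  · intro hx
    rw [← h]
    exact conj_mem_cj hx
  · intro hx
    rw [← h, mem_cj] at hx
    simpa [mul_assoc] using hx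

theorem cj_normalizer (g : G) (T : Subgroup G) :
    cj g (normalizer (T : Set G)) = normalizer ((cj g T : Subgroup G) : Set G) := by
  refine le_antisymm ?_ ?_
  · intro x hx
    refine mem_normalizer_of_cj_eq ?_
    rw [← cj_mul, show x * g = g * (g⁻¹ * x * g) by group, cj_mul,
      cj_eq_self (mem_cj.mp hx)]
  · intro x hx
    refine mem_cj.mpr (mem_normalizer_of_cj_eq (cj_inj (g := g) ?_))
    rw [← cj_mul, show g * (g⁻¹ * x * g) = x * g by group, cj_mul, cj_eq_self hx]

theorem cj_centralizer_le (g : G) (T : Subgroup G) :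
    cj g (centralizer (T : Set G)) ≤ centralizer ((cj g T : Subgroup G) : Set G) := by
  intro x hx
  rw [mem_centralizer_iff]
  intro y hy
  have h := mem_centralizer_iff.mp (mem_cj.mp hx) (g⁻¹ * y * g) (mem_cj.mp hy)
  calc y * x = g * (g⁻¹ * y * g * (g⁻¹ * x * g)) * g⁻¹ := by group
    _ = g * (g⁻¹ * x * g * (g⁻¹ * y * g)) * g⁻¹ := by rw [h]
    _ = x * y := by group

theorem smul_coe_eq_cj (g : G) (P : Sylow p G) :
    ((g • P : Sylow p G) : Subgroup G) = cj g (P : Subgroup G) := rfl

/-- Among `p`-subgroups of `C`, one of largest order contains, up to conjugacy in `C`, all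
others. -/
theorem exists_cj_le_of_max [Finite G] [Fact p.Prime] {A B C : Subgroup G} (hA : IsPGroup p A)
    (hB : IsPGroup p B) (hAC : A ≤ C) (hBC : B ≤ C)
    (hmax : ∀ S : Subgroup G, S ≤ C → IsPGroup p S → Nat.card S ≤ Nat.card A) :
    ∃ d ∈ C, cj d B ≤ A := by
  obtain ⟨R, hR⟩ := (hA.comap_subtype (K := C)).exists_le_sylow
  obtain ⟨R₂, hR₂⟩ := (hB.comap_subtype (K := C)).exists_le_sylow
  obtain ⟨d, hd⟩ := MulAction.exists_smul_eq C R₂ R
  have hRA : (R : Subgroup C).map C.subtype = A := by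
    refine (eq_of_le_of_card_ge ?_ (hmax _ (map_subtype_le _) (R.isPGroup'.map _))).symm
    exact fun a ha => ⟨⟨a, hAC ha⟩, hR (mem_subgroupOf.mpr ha), rfl⟩
  refine ⟨d, d.2, ?_⟩
  rw [← hRA]
  rintro _ ⟨b, hb, rfl⟩
  refine ⟨d * ⟨b, hBC hb⟩ * d⁻¹, ?_, rfl⟩
  rw [← hd, smul_coe_eq_cj]
  exact conj_mem_cj (hR₂ (mem_subgroupOf.mpr hb))

/-! ### Fully normalized subgroups -/

/-- `T` is fully normalized with respect to `P`: every `p`-subgroup of `N(T)` can be moved into
`P` by an element of `N(T)`. -/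
def IsFullyNormalized (p : ℕ) (P T : Subgroup G) : Prop :=
  ∀ S : Subgroup G, S ≤ normalizer (T : Set G) → IsPGroup p S →
    ∃ c ∈ normalizer (T : Set G), cj c S ≤ P

theorem isFullyNormalized_self (P : Sylow p G) :
    IsFullyNormalized p (P : Subgroup G) (P : Subgroup G) := by
  intro S hS hSp
  refine ⟨1, one_mem _, ?_⟩
  rw [cj_one]
  have h := hSp.inf_normalizer_sylow P
  exact (le_inf le_rfl hS).trans (h.le.trans inf_le_right)

theorem exists_isFullyNormalized [Finite G] [Fact p.Prime] (P : Sylow p G) {T : Subgroup G}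
    (hT : IsPGroup p T) :
    ∃ a : G, cj a T ≤ (P : Subgroup G) ∧ IsFullyNormalized p (P : Subgroup G) (cj a T) := by
  set N := normalizer (T : Set G) with hN
  obtain ⟨R, hR⟩ := (hT.comap_subtype (K := N)).exists_le_sylow
  obtain ⟨Q, hQ⟩ := (R.isPGroup'.map N.subtype).exists_le_sylow
  obtain ⟨a, ha⟩ := MulAction.exists_smul_eq G Q P
  refine ⟨a, ?_, ?_⟩
  · rw [← ha, smul_coe_eq_cj]
    exact cj_mono a fun t ht => hQ ⟨⟨t, le_normalizer ht⟩, hR (mem_subgroupOf.mpr ht), rfl⟩
  · intro S hS hSp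
    rw [← cj_normalizer] at hS ⊢
    have hS' : cj a⁻¹ S ≤ N := by
      rw [← cj_inv_cj a N]
      exact cj_mono _ hS
    obtain ⟨R₂, hR₂⟩ := ((isPGroup_cj (g := a⁻¹) hSp).comap_subtype (K := N)).exists_le_sylow
    obtain ⟨d, hd⟩ := MulAction.exists_smul_eq N R₂ R
    refine ⟨a * d * a⁻¹, conj_mem_cj d.2, ?_⟩
    rw [← ha, smul_coe_eq_cj, cj_mul, cj_mul]
    refine cj_mono a ?_
    rintro _ ⟨s, hs, rfl⟩
    refine hQ ⟨d * ⟨s, hS' hs⟩ * d⁻¹, ?_, rfl⟩
    rw [← hd, smul_coe_eq_cj]
    exact conj_mem_cj (hR₂ (mem_subgroupOf.mpr hs))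

theorem card_le_of_isFullyNormalized [Finite G] {P T S : Subgroup G}
    (hT : IsFullyNormalized p P T) (hS : S ≤ normalizer (T : Set G)) (hSp : IsPGroup p S) :
    Nat.card S ≤ Nat.card (P ⊓ normalizer (T : Set G) : Subgroup G) := by
  obtain ⟨c, hc, hle⟩ := hT S hS hSp
  rw [← card_cj c S]
  refine card_le_of_le (le_inf hle ?_)
  rw [← cj_eq_self (T := T) hc] at hS
  intro x hx
  have h1 := mem_cj.mp hx
  rw [cj_eq_self hc] at hS
  have := mul_mem (mul_mem hc (hS h1)) (inv_mem hc)
  simpa [mul_assoc] using this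

/-- For fully normalized `T`, `N_P(T)` has index prime to `p` in `N(T)`. -/
theorem not_dvd_relIndex_of_isFullyNormalized [Finite G] [Fact p.Prime] (P : Sylow p G)
    {T : Subgroup G} (hT : IsFullyNormalized p (P : Subgroup G) T) :
    ¬ p ∣ ((P : Subgroup G) ⊓ normalizer (T : Set G)).relIndex (normalizer (T : Set G)) := by
  set N := normalizer (T : Set G)
  have hp' : IsPGroup p ((P : Subgroup G) ⊓ N : Subgroup G) := P.isPGroup'.to_inf_left
  obtain ⟨R, hR⟩ := (hp'.comap_subtype (K := N)).exists_le_sylow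
  have h1 := card_le_of_isFullyNormalized hT (map_subtype_le (R : Subgroup N))
    (R.isPGroup'.map _)
  have h2 : ((P : Subgroup G) ⊓ N).subgroupOf N = (R : Subgroup N) := by
    refine eq_of_le_of_card_ge hR ?_
    rw [card_map_of_injective N.subtype_injective] at h1
    refine h1.trans_eq ?_
    exact (Nat.card_congr (subgroupOfEquivOfLe inf_le_right).toEquiv).symm
  rw [relIndex, h2]
  exact R.not_dvd_index

/-- Frattini argument in `N(T)` for fully normalized `T`. -/
theorem exists_centralizer_mul_normalizer [Finite G] [Fact p.Prime] (P : Sylow p G)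
    {T : Subgroup G} (hT : IsFullyNormalized p (P : Subgroup G) T) {n : G}
    (hn : n ∈ normalizer (T : Set G)) :
    ∃ d ∈ centralizer (T : Set G),
      d * n ∈ normalizer (((P : Subgroup G) ⊓ centralizer (T : Set G) : Subgroup G) : Set G) := by
  set C := centralizer (T : Set G) with hC
  have hmax : ∀ S : Subgroup G, S ≤ C → IsPGroup p S →
      Nat.card S ≤ Nat.card ((P : Subgroup G) ⊓ C : Subgroup G) := by
    intro S hS hSp
    obtain ⟨c, hc, hle⟩ := hT S (hS.trans (centralizer_le_normalizer _)) hSp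
    rw [← card_cj c S]
    refine card_le_of_le (le_inf hle ((cj_mono c hS).trans ?_))
    refine (cj_centralizer_le c T).trans ?_
    rw [cj_eq_self hc]
  have hB : cj n ((P : Subgroup G) ⊓ C) ≤ C := by
    refine (cj_mono n inf_le_right).trans ((cj_centralizer_le n T).trans ?_)
    rw [cj_eq_self hn]
  obtain ⟨d, hd, hle⟩ := exists_cj_le_of_max P.isPGroup'.to_inf_left
    (isPGroup_cj P.isPGroup'.to_inf_left) inf_le_right hB hmax
  refine ⟨d, hd, mem_normalizer_of_cj_eq (eq_of_le_of_card_ge ?_ (card_cj _ _).ge)⟩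
  rw [cj_mul]
  exact hle

/-- A `p`-subgroup strictly inside `P` is strictly inside its normalizer in `P`. -/
theorem card_lt_card_inf_normalizer [Finite G] [Fact p.Prime] {P T : Subgroup G}
    (hP : IsPGroup p P) (hT : T < P) :
    Nat.card T < Nat.card (P ⊓ normalizer (T : Set G) : Subgroup G) := by
  haveI : Group.IsNilpotent P := hP.isNilpotent
  have h := normalizerCondition_of_isNilpotent (G := P)
  have hlt : T.subgroupOf P < ⊤ := by
    refine lt_of_le_of_ne le_top fun e => hT.not_ge ?_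
    exact subgroupOf_eq_top.mp e
  obtain ⟨x, hx, hxT⟩ := SetLike.exists_of_lt (h _ hlt)
  have hxN : (x : G) ∈ normalizer (T : Set G) := by
    rw [mem_normalizer_iff]
    intro y
    constructor
    · intro hy
      have := (mem_normalizer_iff.mp hx ⟨y, hT.le hy⟩).mp (mem_subgroupOf.mpr hy)
      exact mem_subgroupOf.mp this
    · intro hy
      have hyP : y ∈ P := by
        have := mul_mem (mul_mem (inv_mem x.2) (hT.le hy)) x.2
        simpa [mul_assoc] using this
      exact mem_subgroupOf.mp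
        ((mem_normalizer_iff.mp hx ⟨y, hyP⟩).mpr (mem_subgroupOf.mpr hy))
  refine lt_of_le_of_ne (card_le_of_le (le_inf hT.le le_normalizer)) fun e => hxT ?_
  have e' : T = P ⊓ normalizer (T : Set G) :=
    eq_of_le_of_card_ge (le_inf hT.le le_normalizer) e.ge
  rw [mem_subgroupOf, e']
  exact ⟨x.2, hxN⟩

/-! ### Alperin's theorem -/

/-- **Alperin's fusion theorem**, as an induction principle: a property of pairs `(T, g)`, with
`T` and `g T g⁻¹` in the Sylow subgroup `P`, that is closed under composition, inversion and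
restriction holds always if it holds for elements of normalizers of fully normalized subgroups,
assuming it for all larger subgroups. -/
theorem alperin_induction [Finite G] [Fact p.Prime] (P : Sylow p G) (Φ : Subgroup G → G → Prop)
    (trans : ∀ T g h, T ≤ (P : Subgroup G) → cj g T ≤ (P : Subgroup G) →
      cj h (cj g T) ≤ (P : Subgroup G) → Φ T g → Φ (cj g T) h → Φ T (h * g))
    (inv : ∀ T g, T ≤ (P : Subgroup G) → cj g T ≤ (P : Subgroup G) → Φ T g → Φ (cj g T) g⁻¹)
    (mono : ∀ S T g, S ≤ T → T ≤ (P : Subgroup G) → cj g T ≤ (P : Subgroup G) → Φ T g → Φ S g)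
    (base : ∀ T, T ≤ (P : Subgroup G) → IsFullyNormalized p (P : Subgroup G) T →
      (∀ S g, S ≤ (P : Subgroup G) → cj g S ≤ (P : Subgroup G) → Nat.card T < Nat.card S → Φ S g) →
      ∀ c ∈ normalizer (T : Set G), Φ T c) :
    ∀ T g, T ≤ (P : Subgroup G) → cj g T ≤ (P : Subgroup G) → Φ T g := by
  suffices key : ∀ (k : ℕ) T g, T ≤ (P : Subgroup G) → cj g T ≤ (P : Subgroup G) →
      Nat.card (P : Subgroup G) - Nat.card T = k → Φ T g from
    fun T g h1 h2 => key _ T g h1 h2 rfl
  intro k
  induction k using Nat.strong_induction_on with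
  | _ k ih =>
    intro T g hT hgT hk
    have ihS : ∀ T' : Subgroup G, Nat.card T' = Nat.card T →
        ∀ S g', S ≤ (P : Subgroup G) → cj g' S ≤ (P : Subgroup G) →
          Nat.card T' < Nat.card S → Φ S g' := by
      intro T' hT' S g' h1 h2 h3
      refine ih _ ?_ S g' h1 h2 rfl
      have := card_le_of_le h1
      omega
    -- moving to a fully normalized conjugate
    have claim : ∀ T' : Subgroup G, T' ≤ (P : Subgroup G) → Nat.card T' = Nat.card T → ∀ a,
        cj a T' ≤ (P : Subgroup G) → IsFullyNormalized p (P : Subgroup G) (cj a T') →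
        Φ T' a := by
      intro T' hT' hc a ha hfn
      rcases eq_or_lt_of_le hT' with he | hlt
      · subst he
        have hae : cj a (P : Subgroup G) = P := eq_of_le_of_card_ge ha (card_cj _ _).ge
        exact base _ le_rfl (isFullyNormalized_self P) (ihS _ hc) a (mem_normalizer_of_cj_eq hae)
      · have hS := card_lt_card_inf_normalizer P.isPGroup' hlt
        set S := (P : Subgroup G) ⊓ normalizer (T' : Set G) with hSdef
        obtain ⟨c, hc', hle⟩ := hfn (cj a S) (by
          rw [← cj_normalizer]; exact cj_mono a inf_le_right) (isPGroup_cj P.isPGroup'.to_inf_left)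
        rw [← cj_mul] at hle
        have h1 : Φ T' (c * a) :=
          mono T' S _ (le_inf hT' le_normalizer) inf_le_left hle
            (ihS T' hc S _ inf_le_left hle hS)
        have h2 : Φ (cj a T') c⁻¹ :=
          base _ ha hfn (ihS _ ((card_cj _ _).trans hc)) c⁻¹ (inv_mem hc')
        have e : cj (c * a) T' = cj a T' := by rw [cj_mul, cj_eq_self hc']
        have h3 := trans T' (c * a) c⁻¹ hT' (e ▸ ha)
          (by rw [e, cj_eq_self (inv_mem hc')]; exact ha) h1 (e.symm ▸ h2)
        rwa [inv_mul_cancel_left] at h3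
    obtain ⟨a, ha, hfn⟩ := exists_isFullyNormalized P (P.isPGroup'.to_le hT)
    have h1 := claim T hT rfl a ha hfn
    have e : cj (a * g⁻¹) (cj g T) = cj a T := by rw [cj_mul, cj_inv_cj]
    have h2 := claim (cj g T) hgT (card_cj _ _) (a * g⁻¹) (e.symm ▸ ha) (e.symm ▸ hfn)
    have h3 := inv _ _ hgT (e.symm ▸ ha) h2
    rw [e, mul_inv_rev, inv_inv] at h3
    have e2 : cj (g * a⁻¹) (cj a T) = cj g T := by rw [cj_mul, cj_inv_cj]
    have h4 := trans T a (g * a⁻¹) hT ha (e2.symm ▸ hgT) h1 h3
    rwa [inv_mul_cancel_right] at h4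

/-- Reduction of the base case: it suffices to treat tame intersections `T = P ∩ cPc⁻¹`. -/
theorem alperin_induction_tame [Finite G] [Fact p.Prime] (P : Sylow p G)
    (Φ : Subgroup G → G → Prop)
    (trans : ∀ T g h, T ≤ (P : Subgroup G) → cj g T ≤ (P : Subgroup G) →
      cj h (cj g T) ≤ (P : Subgroup G) → Φ T g → Φ (cj g T) h → Φ T (h * g))
    (inv : ∀ T g, T ≤ (P : Subgroup G) → cj g T ≤ (P : Subgroup G) → Φ T g → Φ (cj g T) g⁻¹)
    (mono : ∀ S T g, S ≤ T → T ≤ (P : Subgroup G) → cj g T ≤ (P : Subgroup G) → Φ T g → Φ S g)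
    (base : ∀ T, T ≤ (P : Subgroup G) → IsFullyNormalized p (P : Subgroup G) T →
      (∀ S g, S ≤ (P : Subgroup G) → cj g S ≤ (P : Subgroup G) → Nat.card T < Nat.card S → Φ S g) →
      ∀ c ∈ normalizer (T : Set G), (P : Subgroup G) ⊓ cj c (P : Subgroup G) = T → Φ T c) :
    ∀ T g, T ≤ (P : Subgroup G) → cj g T ≤ (P : Subgroup G) → Φ T g := by
  refine alperin_induction P Φ trans inv mono fun T hT hfn hbig c hc => ?_
  by_cases h : (P : Subgroup G) ⊓ cj c (P : Subgroup G) = T
  · exact base T hT hfn hbig c hc h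
  · set E := cj c⁻¹ ((P : Subgroup G) ⊓ cj c (P : Subgroup G)) with hE
    have hTE : T ≤ E := by
      conv_lhs => rw [← cj_eq_self (T := T) (inv_mem hc)]
      refine cj_mono _ (le_inf hT ?_)
      conv_lhs => rw [← cj_eq_self (T := T) hc]
      exact cj_mono c hT
    have hEP : E ≤ (P : Subgroup G) := by
      rw [hE]
      exact (cj_mono c⁻¹ inf_le_right).trans (cj_inv_cj c (P : Subgroup G)).le
    have hcE : cj c E ≤ (P : Subgroup G) := by
      rw [hE, cj_cj_inv]
      exact inf_le_left
    have hlt : T < E := by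
      refine lt_of_le_of_ne hTE fun e => h ?_
      have := congrArg (cj c) e
      rw [cj_eq_self hc, hE, cj_cj_inv] at this
      exact this.symm
    exact mono T E c hTE hEP hcE (hbig E c hEP hcE (Set.Finite.card_lt_card (Set.toFinite _) hlt))

/-- The Goldschmidt refinement: besides centralizers it suffices to treat fully normalized tame
intersections `T` with `C_P(T) ≤ T` in which `T` contains every normal `p`-subgroup of `N(T)`. -/
theorem alperin_induction_centric [Finite G] [Fact p.Prime] (P : Sylow p G)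
    (Φ : Subgroup G → G → Prop)
    (trans : ∀ T g h, T ≤ (P : Subgroup G) → cj g T ≤ (P : Subgroup G) →
      cj h (cj g T) ≤ (P : Subgroup G) → Φ T g → Φ (cj g T) h → Φ T (h * g))
    (inv : ∀ T g, T ≤ (P : Subgroup G) → cj g T ≤ (P : Subgroup G) → Φ T g → Φ (cj g T) g⁻¹)
    (mono : ∀ S T g, S ≤ T → T ≤ (P : Subgroup G) → cj g T ≤ (P : Subgroup G) → Φ T g → Φ S g)
    (cent : ∀ T, T ≤ (P : Subgroup G) → ∀ c ∈ centralizer (T : Set G), Φ T c)
    (base : ∀ T, T ≤ (P : Subgroup G) → IsFullyNormalized p (P : Subgroup G) T →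
      (P : Subgroup G) ⊓ centralizer (T : Set G) ≤ T →
      (∀ D : Subgroup G, D ≤ normalizer (T : Set G) →
        normalizer (T : Set G) ≤ normalizer (D : Set G) → IsPGroup p D → D ≤ T) →
      (∀ S g, S ≤ (P : Subgroup G) → cj g S ≤ (P : Subgroup G) → Nat.card T < Nat.card S → Φ S g) →
      ∀ c ∈ normalizer (T : Set G), (P : Subgroup G) ⊓ cj c (P : Subgroup G) = T → Φ T c) :
    ∀ T g, T ≤ (P : Subgroup G) → cj g T ≤ (P : Subgroup G) → Φ T g := by
  refine alperin_induction_tame P Φ trans inv mono fun T hT hfn hbig c hc htame => ?_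
  -- an element normalizing a strictly bigger subgroup of `P` is handled by induction
  have hext : ∀ D : Subgroup G, D ≤ (P : Subgroup G) → ¬ D ≤ T →
      ∀ n ∈ normalizer (T : Set G), n ∈ normalizer (D : Set G) → Φ T n := by
    intro D hD hnot n hnT hnD
    have hE : T ⊔ D ≤ (P : Subgroup G) := sup_le hT hD
    have he : cj n (T ⊔ D) = T ⊔ D := by
      rw [cj, Subgroup.map_sup, ← cj, ← cj, cj_eq_self hnT, cj_eq_self hnD]
    have hlt : T < T ⊔ D :=
      lt_of_le_of_ne le_sup_left fun e => hnot (e ▸ le_sup_right)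
    exact mono T _ n le_sup_left hE (he.le.trans hE)
      (hbig _ n hE (he.le.trans hE) (Set.Finite.card_lt_card (Set.toFinite _) hlt))
  by_cases hcen : (P : Subgroup G) ⊓ centralizer (T : Set G) ≤ T
  · by_cases hop : ∀ D : Subgroup G, D ≤ normalizer (T : Set G) →
        normalizer (T : Set G) ≤ normalizer (D : Set G) → IsPGroup p D → D ≤ T
    · exact base T hT hfn hcen hop hbig c hc htame
    · push Not at hop
      obtain ⟨D, hD1, hD2, hDp, hDn⟩ := hop
      obtain ⟨d, hd, hle⟩ := hfn D hD1 hDp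
      rw [cj_eq_self (hD2 hd)] at hle
      exact hext D hle hDn c hc (hD2 hc)
  · obtain ⟨d, hd, hdn⟩ := exists_centralizer_mul_normalizer P hfn hc
    have hdN : d ∈ normalizer (T : Set G) := centralizer_le_normalizer _ hd
    have hmem : d * c ∈ normalizer (T : Set G) := mul_mem hdN hc
    have h1 := hext _ inf_le_left hcen (d * c) hmem hdn
    have h2 := cent T hT d⁻¹ (inv_mem hd)
    have h3 := trans T (d * c) d⁻¹ hT (by rw [cj_eq_self hmem]; exact hT)
      (by rw [cj_eq_self hmem, cj_eq_self (inv_mem hdN)]; exact hT) h1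
      (by rw [cj_eq_self hmem]; exact h2)
    rwa [inv_mul_cancel_left] at h3

/-! ### Frobenius' normal `p`-complement theorem -/

/-- If for each subgroup `T` of `P` that is a fully normalized, centric, radical tame intersection
the group `N(T)/C(T)` is a `p`-group, then `G` has a normal `p`-complement. -/
theorem hasNormalPComplement_of_tame [Finite G] [hp : Fact p.Prime] (P : Sylow p G)
    (h : ∀ T : Subgroup G, T ≤ (P : Subgroup G) → IsFullyNormalized p (P : Subgroup G) T →
      (P : Subgroup G) ⊓ centralizer (T : Set G) ≤ T →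
      (∀ D : Subgroup G, D ≤ normalizer (T : Set G) →
        normalizer (T : Set G) ≤ normalizer (D : Set G) → IsPGroup p D → D ≤ T) →
      (∃ c ∈ normalizer (T : Set G), (P : Subgroup G) ⊓ cj c (P : Subgroup G) = T) →
      ∀ g ∈ normalizer (T : Set G), Nat.Coprime (orderOf g) p → g ∈ centralizer (T : Set G)) :
    Cfsg.HasNormalPComplement p G := by
  -- every fusion map inside `P` is induced by an element of `P`
  have key : ∀ T g, T ≤ (P : Subgroup G) → cj g T ≤ (P : Subgroup G) →
      ∃ z ∈ (P : Subgroup G), ∀ t ∈ T, z * t * z⁻¹ = g * t * g⁻¹ := by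
    refine alperin_induction_centric P
      (fun T g => ∃ z ∈ (P : Subgroup G), ∀ t ∈ T, z * t * z⁻¹ = g * t * g⁻¹) ?_ ?_ ?_ ?_ ?_
    · intro T g k _ _ _ ⟨z, hz, hzt⟩ ⟨w, hw, hwt⟩
      refine ⟨w * z, mul_mem hw hz, fun t ht => ?_⟩
      calc w * z * t * (w * z)⁻¹ = w * (z * t * z⁻¹) * w⁻¹ := by group
        _ = w * (g * t * g⁻¹) * w⁻¹ := by rw [hzt t ht]
        _ = k * (g * t * g⁻¹) * k⁻¹ := hwt _ (conj_mem_cj ht)
        _ = k * g * t * (k * g)⁻¹ := by group
    · intro T g _ _ ⟨z, hz, hzt⟩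
      refine ⟨z⁻¹, inv_mem hz, fun t ht => ?_⟩
      obtain ⟨s, hs, rfl⟩ := ht
      simp only [MulEquiv.toMonoidHom_eq_coe, MonoidHom.coe_coe, MulAut.conj_apply]
      calc z⁻¹ * (g * s * g⁻¹) * z⁻¹⁻¹ = z⁻¹ * (z * s * z⁻¹) * z⁻¹⁻¹ := by rw [hzt s hs]
        _ = g⁻¹ * (g * s * g⁻¹) * g⁻¹⁻¹ := by group
    · exact fun S T g hST _ _ ⟨z, hz, hzt⟩ => ⟨z, hz, fun t ht => hzt t (hST ht)⟩
    · intro T _ c hc
      refine ⟨1, one_mem _, fun t ht => ?_⟩
      rw [one_mul, inv_one, mul_one]
      exact (eq_mul_inv_of_mul_eq (mem_centralizer_iff.mp hc t ht)).trans (by group)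
    · intro T hT hfn hcen hop _ c hc htame
      set N := normalizer (T : Set G)
      have hK : (Cfsg.pResidual p N).map N.subtype ≤ centralizer (T : Set G) := by
        rw [map_le_iff_le_comap, pResidual_le_iff_coprime]
        intro g hg
        exact h T hT hfn hcen hop ⟨c, hc, htame⟩ g g.2 (by rwa [Subgroup.orderOf_coe])
      have hsup : ((P : Subgroup G) ⊓ N).subgroupOf N ⊔ Cfsg.pResidual p N = ⊤ :=
        sup_pResidual_eq_top (not_dvd_relIndex_of_isFullyNormalized P hfn)
      have hcm : (⟨c, hc⟩ : N) ∈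
          (((P : Subgroup G) ⊓ N).subgroupOf N ⊔ Cfsg.pResidual p N : Subgroup N) :=
        hsup.symm ▸ mem_top _
      obtain ⟨a, ha, b, hb, e⟩ := mem_sup_of_normal_right.mp hcm
      refine ⟨a, (mem_subgroupOf.mp ha).1, fun t ht => ?_⟩
      have e' : (a : G) * (b : G) = c := congrArg Subtype.val e
      have hbt := mem_centralizer_iff.mp (hK (mem_map_of_mem N.subtype hb)) t ht
      simp only [coe_subtype] at hbt
      rw [← e']
      calc (a : G) * t * (a : G)⁻¹ = a * (t * b * (b : G)⁻¹) * (a : G)⁻¹ := by group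
        _ = a * ((b : G) * t * (b : G)⁻¹) * (a : G)⁻¹ := by rw [hbt]
        _ = a * b * t * ((a : G) * b)⁻¹ := by group
  refine hasNormalPComplement_of_control P fun x hx g hg => ?_
  obtain ⟨z, hz, hzt⟩ := key (zpowers x) g (zpowers_le.mpr hx) (by
    rintro _ ⟨t, ⟨n, rfl⟩, rfl⟩
    simp only [MulEquiv.toMonoidHom_eq_coe, MonoidHom.coe_coe, map_zpow]
    exact zpow_mem hg n)
  exact ⟨z, hz, hzt x (mem_zpowers x)⟩

/-- If for each subgroup `T` of `P` that is fully normalized, centric and radical the group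
`N(T)/C(T)` is a `p`-group, then `G` has a normal `p`-complement. -/
theorem hasNormalPComplement_of_local [Finite G] [hp : Fact p.Prime] (P : Sylow p G)
    (h : ∀ T : Subgroup G, T ≤ (P : Subgroup G) → IsFullyNormalized p (P : Subgroup G) T →
      (P : Subgroup G) ⊓ centralizer (T : Set G) ≤ T →
      (∀ D : Subgroup G, D ≤ normalizer (T : Set G) →
        normalizer (T : Set G) ≤ normalizer (D : Set G) → IsPGroup p D → D ≤ T) →
      ∀ g ∈ normalizer (T : Set G), Nat.Coprime (orderOf g) p → g ∈ centralizer (T : Set G)) :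
    Cfsg.HasNormalPComplement p G :=
  hasNormalPComplement_of_tame P fun T hT hfn hcen hop _ => h T hT hfn hcen hop

theorem mem_centralizer_of_hasNormalPComplement [Finite G] [Fact p.Prime] {T : Subgroup G}
    (hT : IsPGroup p T) (h : Cfsg.HasNormalPComplement p (normalizer (T : Set G))) {g : G}
    (hg : g ∈ normalizer (T : Set G)) (hcop : Nat.Coprime (orderOf g) p) :
    g ∈ centralizer (T : Set G) := by
  set N := normalizer (T : Set G)
  have hm : (⟨g, hg⟩ : N) ∈ Cfsg.pResidual p N :=
    mem_pResidual_of_coprime (by rwa [orderOf_mk])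
  rw [mem_centralizer_iff]
  intro t ht
  have := le_centralizer_of_normal_pGroup h (Q := T.subgroupOf N) (hT.comap_subtype) hm
  exact congrArg Subtype.val
    (mem_centralizer_iff.mp this ⟨t, le_normalizer ht⟩ (mem_subgroupOf.mpr ht))

/-- **Frobenius' normal `p`-complement theorem**, centraliser version. -/
theorem hasNormalPComplement_iff_centralizer [Finite G] [Fact p.Prime] (P : Sylow p G) :
    Cfsg.HasNormalPComplement p G ↔ ∀ Q : Subgroup G, Q ≤ (P : Subgroup G) →
      ∀ g ∈ normalizer (Q : Set G), Nat.Coprime (orderOf g) p → g ∈ centralizer (Q : Set G) := by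
  refine ⟨fun h Q hQ g hg hc => ?_, fun h => ?_⟩
  · exact mem_centralizer_of_hasNormalPComplement (P.isPGroup'.to_le hQ)
      (hasNormalPComplement_subgroup _ h) hg hc
  · exact hasNormalPComplement_of_local P fun T hT _ _ _ g hg hc => h T hT g hg hc

/-- **Frobenius' normal `p`-complement theorem**: `G` has a normal `p`-complement iff all
`p`-local subgroups have one. -/
theorem hasNormalPComplement_iff_normalizer [Finite G] [Fact p.Prime] :
    Cfsg.HasNormalPComplement p G ↔ ∀ Q : Subgroup G, IsPGroup p Q → Q ≠ ⊥ →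
      Cfsg.HasNormalPComplement p (normalizer (Q : Set G)) := by
  refine ⟨fun h Q _ _ => hasNormalPComplement_subgroup _ h, fun h => ?_⟩
  obtain ⟨P⟩ : Nonempty (Sylow p G) := inferInstance
  refine hasNormalPComplement_of_local P fun T hT _ _ _ g hg hc => ?_
  rcases eq_or_ne T ⊥ with rfl | hne
  · rw [mem_centralizer_iff]
    intro t ht
    rw [mem_bot.mp ht, one_mul, mul_one]
  · exact mem_centralizer_of_hasNormalPComplement (P.isPGroup'.to_le hT)
      (h T (P.isPGroup'.to_le hT) hne) hg hc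

end Cfsg.Agent.TransferAlperin
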