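import Mathlib.GroupTheory.Sylow
import Mathlib.GroupTheory.Complement
import Mathlib.GroupTheory.Focal
import Mathlib.GroupTheory.IndexNormal
import Mathlib.GroupTheory.QuotientGroup.Basic
import Cfsg.Prelude.Def_Transfer
import Cfsg.Prelude.Def_Solvable

/-!
# `O^p(G)` and normal `p`-complements

Basic API for `Cfsg.pResidual` and `Cfsg.HasNormalPComplement`.
-/

set_option linter.style.haveILetI false

namespace Cfsg.Agent.TransferPResidual

open Subgroup

variable {G H : Type*} [Group G] [Group H] {p : ℕ}

/-- An element of order prime to `p` lies in `O^p(G)`. -/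
theorem mem_pResidual_of_coprime {g : G} (h : Nat.Coprime (orderOf g) p) :
    g ∈ Cfsg.pResidual p G :=
  subset_closure h

theorem pResidual_le_iff_coprime {K : Subgroup G} :
    Cfsg.pResidual p G ≤ K ↔ ∀ g : G, Nat.Coprime (orderOf g) p → g ∈ K :=
  closure_le K

theorem map_pResidual_le (f : G →* H) :
    (Cfsg.pResidual p G).map f ≤ Cfsg.pResidual p H := by
  rw [map_le_iff_le_comap, pResidual_le_iff_coprime]
  intro g hg
  exact mem_pResidual_of_coprime (hg.coprime_dvd_left (orderOf_map_dvd f g))

theorem map_pResidual_subtype_le (K : Subgroup G) :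
    (Cfsg.pResidual p K).map K.subtype ≤ Cfsg.pResidual p G :=
  map_pResidual_le K.subtype

theorem map_pResidual_mono {K L : Subgroup G} (h : K ≤ L) :
    (Cfsg.pResidual p K).map K.subtype ≤ (Cfsg.pResidual p L).map L.subtype := by
  have h1 := map_mono (f := L.subtype) (map_pResidual_le (p := p) (inclusion h))
  rw [map_map, subtype_comp_inclusion] at h1
  exact h1

theorem map_pResidual_equiv (e : G ≃* H) :
    (Cfsg.pResidual p G).map e.toMonoidHom = Cfsg.pResidual p H := by
  refine le_antisymm (map_pResidual_le _) ?_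
  intro x hx
  exact ⟨e.symm x, map_pResidual_le e.symm.toMonoidHom ⟨x, hx, rfl⟩, e.apply_symm_apply x⟩

instance pResidual_characteristic : (Cfsg.pResidual p G).Characteristic :=
  characteristic_iff_map_eq.mpr fun e => map_pResidual_equiv e

/-- A normal subgroup with `p`-group quotient contains `O^p(G)`. -/
theorem pResidual_le_of_isPGroup_quotient [hp : Fact p.Prime] {N : Subgroup G} [N.Normal]
    (h : IsPGroup p (G ⧸ N)) : Cfsg.pResidual p G ≤ N := by
  rw [pResidual_le_iff_coprime]
  intro g hg
  obtain ⟨k, hk⟩ := IsPGroup.iff_orderOf.mp h (g : G ⧸ N)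
  have h1 : Nat.Coprime (orderOf (g : G ⧸ N)) p :=
    hg.coprime_dvd_left (orderOf_map_dvd (QuotientGroup.mk' N) g)
  rcases k.eq_zero_or_pos with hk0 | hk0
  · rw [hk0, pow_zero, orderOf_eq_one_iff] at hk
    exact (QuotientGroup.eq_one_iff g).mp hk
  · rw [hk] at h1
    exact absurd ((Nat.coprime_pow_left_iff hk0 p p).mp h1)
      (fun h2 => hp.out.ne_one ((Nat.coprime_self p).mp h2))

/-- A homomorphism to a `p`-group kills `O^p(G)`. -/
theorem pResidual_le_ker [Fact p.Prime] (f : G →* H) (h : IsPGroup p H) :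
    Cfsg.pResidual p G ≤ f.ker :=
  pResidual_le_of_isPGroup_quotient
    ((h.to_subgroup f.range).of_equiv (QuotientGroup.quotientKerEquivRange f).symm)

/-- A prime-power power of any element lies in `O^p(G)`. -/
theorem exists_pow_mem_pResidual [Finite G] [hp : Fact p.Prime] (g : G) :
    ∃ k : ℕ, g ^ p ^ k ∈ Cfsg.pResidual p G := by
  obtain ⟨k, m, hm, hg⟩ :=
    Nat.exists_eq_pow_mul_and_not_dvd (orderOf_pos g).ne' p hp.out.ne_one
  refine ⟨k, mem_pResidual_of_coprime ?_⟩
  have h1 : orderOf (g ^ p ^ k) ∣ m :=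
    orderOf_dvd_of_pow_eq_one (by rw [← pow_mul, ← hg, pow_orderOf_eq_one])
  exact (((Nat.Prime.coprime_iff_not_dvd hp.out).mpr hm).symm).coprime_dvd_left h1

/-- `G / O^p(G)` is a `p`-group. -/
theorem isPGroup_quotient_pResidual [Finite G] [Fact p.Prime] :
    IsPGroup p (G ⧸ Cfsg.pResidual p G) := by
  intro x
  induction x using QuotientGroup.induction_on with
  | _ g =>
    obtain ⟨k, hk⟩ := exists_pow_mem_pResidual (p := p) g
    exact ⟨k, by rw [← QuotientGroup.mk_pow]; exact (QuotientGroup.eq_one_iff _).mpr hk⟩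

theorem pResidual_le_iff [Finite G] [Fact p.Prime] {N : Subgroup G} [N.Normal] :
    Cfsg.pResidual p G ≤ N ↔ IsPGroup p (G ⧸ N) := by
  refine ⟨fun h => ?_, pResidual_le_of_isPGroup_quotient⟩
  refine (isPGroup_quotient_pResidual (G := G) (p := p)).of_surjective
    (QuotientGroup.map _ N (MonoidHom.id G) h) ?_
  intro x
  induction x using QuotientGroup.induction_on with
  | _ g => exact ⟨g, rfl⟩

theorem index_pResidual [Finite G] [Fact p.Prime] :
    ∃ k : ℕ, (Cfsg.pResidual p G).index = p ^ k :=
  IsPGroup.iff_card.mp isPGroup_quotient_pResidual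

theorem pResidual_le_of_index [Fact p.Prime] {N : Subgroup G} [N.Normal] {k : ℕ}
    (h : N.index = p ^ k) : Cfsg.pResidual p G ≤ N :=
  pResidual_le_of_isPGroup_quotient (IsPGroup.of_card (n := k) h)

theorem sylow_sup_pResidual [Finite G] [hp : Fact p.Prime] (P : Sylow p G) :
    (P : Subgroup G) ⊔ Cfsg.pResidual p G = ⊤ := by
  rw [← index_eq_one]
  obtain ⟨k, hk⟩ := index_pResidual (G := G) (p := p)
  have h1 := index_dvd_of_le
    (le_sup_left : (P : Subgroup G) ≤ (P : Subgroup G) ⊔ Cfsg.pResidual p G)
  have h2 := index_dvd_of_le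
    (le_sup_right : Cfsg.pResidual p G ≤ (P : Subgroup G) ⊔ Cfsg.pResidual p G)
  rw [hk] at h2
  obtain ⟨i, -, hi⟩ := (Nat.dvd_prime_pow hp.out).mp h2
  rcases i.eq_zero_or_pos with h0 | h0
  · rw [hi, h0, pow_zero]
  · exact absurd (dvd_trans (hi ▸ dvd_pow_self p h0.ne') h1) P.not_dvd_index

theorem sup_pResidual_eq_top_of_sylow_le [Finite G] [Fact p.Prime] {K : Subgroup G}
    (P : Sylow p G) (h : (P : Subgroup G) ≤ K) : K ⊔ Cfsg.pResidual p G = ⊤ :=
  top_le_iff.mp ((sylow_sup_pResidual P).ge.trans (sup_le_sup_right h _))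

/-- A subgroup of index prime to `p` together with `O^p(G)` generates `G`. -/
theorem sup_pResidual_eq_top [Finite G] [hp : Fact p.Prime] {K : Subgroup G}
    (h : ¬ p ∣ K.index) : K ⊔ Cfsg.pResidual p G = ⊤ := by
  rw [← index_eq_one]
  obtain ⟨k, hk⟩ := index_pResidual (G := G) (p := p)
  have h2 := index_dvd_of_le (le_sup_right : Cfsg.pResidual p G ≤ K ⊔ Cfsg.pResidual p G)
  rw [hk] at h2
  obtain ⟨i, -, hi⟩ := (Nat.dvd_prime_pow hp.out).mp h2
  rcases i.eq_zero_or_pos with h0 | h0
  · rw [hi, h0, pow_zero]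
  · exact absurd (dvd_trans (hi ▸ dvd_pow_self p h0.ne') (index_dvd_of_le le_sup_left)) h

theorem map_pResidual_eq_of_surjective [Finite G] [Fact p.Prime] (f : G →* H)
    (hf : Function.Surjective f) :
    (Cfsg.pResidual p G).map f = Cfsg.pResidual p H := by
  refine le_antisymm (map_pResidual_le f) ?_
  haveI : ((Cfsg.pResidual p G).map f).Normal := Normal.map inferInstance f hf
  apply pResidual_le_of_isPGroup_quotient
  refine (isPGroup_quotient_pResidual (G := G) (p := p)).of_surjective
    (QuotientGroup.map _ _ f (le_comap_map f _)) ?_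
  intro x
  induction x using QuotientGroup.induction_on with
  | _ h =>
    obtain ⟨g, rfl⟩ := hf h
    exact ⟨g, rfl⟩

/-- `O^p(O^p(G)) = O^p(G)`. -/
theorem pResidual_pResidual : Cfsg.pResidual p (Cfsg.pResidual p G) = ⊤ := by
  apply map_injective (Cfsg.pResidual p G).subtype_injective
  rw [← MonoidHom.range_eq_map, range_subtype]
  refine le_antisymm (map_subtype_le _) ((pResidual_le_iff_coprime).mpr ?_)
  intro g hg
  exact ⟨⟨g, mem_pResidual_of_coprime hg⟩,
    mem_pResidual_of_coprime (by rwa [orderOf_mk]), rfl⟩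

/-- `O^p(G)` is contained in every subgroup containing all `p'`-elements; in particular in the
image of `O^p(K)` when `K` contains `O^p(G)`. -/
theorem map_pResidual_eq_of_le {K : Subgroup G} (h : Cfsg.pResidual p G ≤ K) :
    (Cfsg.pResidual p K).map K.subtype = Cfsg.pResidual p G := by
  refine le_antisymm (map_pResidual_subtype_le K) ((pResidual_le_iff_coprime).mpr ?_)
  intro g hg
  exact ⟨⟨g, h (mem_pResidual_of_coprime hg)⟩,
    mem_pResidual_of_coprime (by rwa [orderOf_mk]), rfl⟩

theorem pResidual_eq_bot_iff [Finite G] [Fact p.Prime] :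
    Cfsg.pResidual p G = ⊥ ↔ IsPGroup p G := by
  rw [← le_bot_iff, pResidual_le_iff]
  exact ⟨fun h => h.of_equiv QuotientGroup.quotientBot,
    fun h => h.of_equiv QuotientGroup.quotientBot.symm⟩

theorem pResidual_eq_top_iff [Finite G] [hp : Fact p.Prime] :
    Cfsg.pResidual p G = ⊤ ↔ ∀ N : Subgroup G, N.Normal → N.index ≠ p := by
  constructor
  · intro h N hN hi
    haveI := hN
    have h1 : Cfsg.pResidual p G ≤ N := pResidual_le_of_index (k := 1) (by rw [hi, pow_one])
    rw [h, top_le_iff] at h1
    rw [h1, index_top] at hi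
    exact hp.out.one_lt.ne hi
  · intro h
    by_contra hne
    obtain ⟨k, hk⟩ := index_pResidual (G := G) (p := p)
    cases k with
    | zero => exact hne (index_eq_one.mp (hk.trans (pow_zero p)))
    | succ k =>
      have hq : IsPGroup p (G ⧸ Cfsg.pResidual p G) := isPGroup_quotient_pResidual
      have hcard : Nat.card (G ⧸ Cfsg.pResidual p G) = p ^ (k + 1) := hk
      obtain ⟨M, hM⟩ := Sylow.exists_subgroup_card_pow_prime (G := G ⧸ Cfsg.pResidual p G) p
        (n := k) (hcard ▸ pow_dvd_pow p k.le_succ)
      have hMi : M.index = p := by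
        have := M.card_mul_index
        rw [hM, hcard, pow_succ] at this
        exact mul_left_cancel₀ (pow_pos hp.out.pos k).ne' this
      have hnM : M.Normal := by
        refine normal_of_index_eq_minFac_card ?_
        rw [hMi, hcard, hp.out.pow_minFac k.succ_ne_zero]
      refine h (M.comap (QuotientGroup.mk' _)) (hnM.comap _) ?_
      rw [index_comap_of_surjective _ (QuotientGroup.mk'_surjective _), hMi]

/-! ### Normal `p`-complements -/

/-- A normal complement to a Sylow `p`-subgroup is `O^p(G)`. -/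
theorem eq_pResidual_of_isComplement' [Finite G] [hp : Fact p.Prime] {P : Sylow p G}
    {N : Subgroup G} [N.Normal] (h : N.IsComplement' (P : Subgroup G)) :
    N = Cfsg.pResidual p G := by
  have hcard : Nat.card N = (P : Subgroup G).index :=
    h.index_eq_card.symm
  refine le_antisymm ?_ ?_
  · intro x hx
    refine mem_pResidual_of_coprime ?_
    refine Nat.Coprime.coprime_dvd_left (orderOf_dvd_natCard (⟨x, hx⟩ : N) |> fun h' => ?_)
      ((Nat.Prime.coprime_iff_not_dvd hp.out).mpr P.not_dvd_index).symm
    rwa [orderOf_mk, hcard] at h'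
  · obtain ⟨k, hk⟩ := IsPGroup.iff_card.mp P.isPGroup'
    exact pResidual_le_of_index (k := k) (h.symm.index_eq_card.trans hk)

theorem mem_iff_coprime_of_isComplement' [Finite G] [hp : Fact p.Prime] {P : Sylow p G}
    {N : Subgroup G} [N.Normal] (h : N.IsComplement' (P : Subgroup G)) (x : G) :
    x ∈ N ↔ Nat.Coprime (orderOf x) p := by
  refine ⟨fun hx => ?_, fun hx => ?_⟩
  · have h1 : orderOf x ∣ (P : Subgroup G).index := by
      rw [h.index_eq_card, ← orderOf_mk x hx]
      exact orderOf_dvd_natCard _
    exact ((Nat.Prime.coprime_iff_not_dvd hp.out).mpr P.not_dvd_index).symm.coprime_dvd_left h1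
  · rw [eq_pResidual_of_isComplement' h]
    exact mem_pResidual_of_coprime hx

/-- If `p ∤ |O^p(G)|` then `O^p(G)` is a complement to every Sylow `p`-subgroup. -/
theorem isComplement'_pResidual [Finite G] [hp : Fact p.Prime]
    (h : ¬ p ∣ Nat.card (Cfsg.pResidual p G)) (P : Sylow p G) :
    (Cfsg.pResidual p G).IsComplement' (P : Subgroup G) := by
  obtain ⟨n, hn⟩ := IsPGroup.iff_card.mp P.isPGroup'
  refine isComplement'_of_disjoint_and_mul_eq_univ ?_ ?_
  · rw [disjoint_iff]
    refine (disjoint_of_coprime_natCard ?_).eq_bot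
    rw [hn]
    exact Nat.Coprime.pow_right n ((Nat.Prime.coprime_iff_not_dvd hp.out).mpr h).symm
  · rw [← normal_mul, sup_comm, sylow_sup_pResidual, coe_top]

theorem hasNormalPComplement_iff_not_dvd [Finite G] [hp : Fact p.Prime] :
    Cfsg.HasNormalPComplement p G ↔ ¬ p ∣ Nat.card (Cfsg.pResidual p G) := by
  constructor
  · rintro ⟨P, N, hN, hc⟩
    rw [← eq_pResidual_of_isComplement' hc, ← hc.index_eq_card]
    exact P.not_dvd_index
  · intro h
    obtain ⟨P⟩ : Nonempty (Sylow p G) := inferInstance
    exact ⟨P, _, inferInstance, isComplement'_pResidual h P⟩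

/-- The complement exists for one Sylow subgroup iff it exists for all of them. -/
theorem hasNormalPComplement_iff_exists [Finite G] [Fact p.Prime] (P : Sylow p G) :
    Cfsg.HasNormalPComplement p G ↔
      ∃ N : Subgroup G, N.Normal ∧ N.IsComplement' (P : Subgroup G) :=
  ⟨fun h => ⟨_, inferInstance,
    isComplement'_pResidual (hasNormalPComplement_iff_not_dvd.mp h) P⟩,
   fun ⟨N, hN, hc⟩ => ⟨P, N, hN, hc⟩⟩

/-- `G` has a normal `p`-complement iff `O^p(G)` meets a Sylow `p`-subgroup trivially. -/
theorem hasNormalPComplement_iff_inf_eq_bot [Finite G] [hp : Fact p.Prime] (P : Sylow p G) :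
    Cfsg.HasNormalPComplement p G ↔ (P : Subgroup G) ⊓ Cfsg.pResidual p G = ⊥ := by
  constructor
  · intro h
    have := (isComplement'_pResidual (hasNormalPComplement_iff_not_dvd.mp h) P).disjoint
    rw [disjoint_iff] at this
    rwa [inf_comm]
  · intro h
    refine ⟨P, Cfsg.pResidual p G, inferInstance, isComplement'_of_disjoint_and_mul_eq_univ ?_ ?_⟩
    · rw [disjoint_iff, inf_comm, h]
    · rw [← normal_mul, sup_comm, sylow_sup_pResidual, coe_top]

/-- A normal subgroup of `p`-power index and order prime to `p` is a normal `p`-complement. -/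
theorem hasNormalPComplement_of_normal [Finite G] [Fact p.Prime] {N : Subgroup G} [N.Normal]
    (h1 : IsPGroup p (G ⧸ N)) (h2 : ¬ p ∣ Nat.card N) : Cfsg.HasNormalPComplement p G :=
  hasNormalPComplement_iff_not_dvd.mpr fun h =>
    h2 (h.trans (card_dvd_of_le (pResidual_le_of_isPGroup_quotient h1)))

theorem mem_pResidual_iff_coprime [Finite G] [Fact p.Prime] (h : Cfsg.HasNormalPComplement p G)
    (x : G) : x ∈ Cfsg.pResidual p G ↔ Nat.Coprime (orderOf x) p := by
  obtain ⟨P⟩ : Nonempty (Sylow p G) := inferInstance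
  exact mem_iff_coprime_of_isComplement'
    (isComplement'_pResidual (hasNormalPComplement_iff_not_dvd.mp h) P) x

/-- Normal `p`-complements are inherited along injective homomorphisms. -/
theorem hasNormalPComplement_of_injective [Finite G] [Fact p.Prime] (f : H →* G)
    (hf : Function.Injective f) (h : Cfsg.HasNormalPComplement p G) :
    Cfsg.HasNormalPComplement p H := by
  haveI := Finite.of_injective f hf
  rw [hasNormalPComplement_iff_not_dvd] at h ⊢
  intro hd
  refine h (hd.trans ?_)
  rw [← card_map_of_injective hf]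
  exact card_dvd_of_le (map_pResidual_le f)

theorem hasNormalPComplement_subgroup [Finite G] [Fact p.Prime] (K : Subgroup G)
    (h : Cfsg.HasNormalPComplement p G) : Cfsg.HasNormalPComplement p K :=
  hasNormalPComplement_of_injective K.subtype K.subtype_injective h

theorem hasNormalPComplement_mono [Finite G] [Fact p.Prime] {K L : Subgroup G} (hKL : K ≤ L)
    (h : Cfsg.HasNormalPComplement p L) : Cfsg.HasNormalPComplement p K :=
  hasNormalPComplement_of_injective (inclusion hKL) (inclusion_injective hKL) h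

theorem hasNormalPComplement_congr [Finite G] [Fact p.Prime] (e : G ≃* H) :
    Cfsg.HasNormalPComplement p G ↔ Cfsg.HasNormalPComplement p H := by
  haveI : Finite H := Finite.of_equiv G e.toEquiv
  exact ⟨hasNormalPComplement_of_injective e.symm.toMonoidHom e.symm.injective,
    hasNormalPComplement_of_injective e.toMonoidHom e.injective⟩

theorem hasNormalPComplement_of_surjective [Finite G] [Fact p.Prime] (f : G →* H)
    (hf : Function.Surjective f) (h : Cfsg.HasNormalPComplement p G) :
    Cfsg.HasNormalPComplement p H := by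
  haveI := Finite.of_surjective f hf
  rw [hasNormalPComplement_iff_not_dvd] at h ⊢
  intro hd
  refine h (hd.trans ?_)
  rw [← map_pResidual_eq_of_surjective f hf]
  exact card_map_dvd _ f

theorem hasNormalPComplement_quotient [Finite G] [Fact p.Prime] (N : Subgroup G) [N.Normal]
    (h : Cfsg.HasNormalPComplement p G) : Cfsg.HasNormalPComplement p (G ⧸ N) :=
  hasNormalPComplement_of_surjective _ (QuotientGroup.mk'_surjective N) h

theorem hasNormalPComplement_of_isPGroup [Finite G] [hp : Fact p.Prime] (h : IsPGroup p G) :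
    Cfsg.HasNormalPComplement p G := by
  rw [hasNormalPComplement_iff_not_dvd, pResidual_eq_bot_iff.mpr h, card_bot]
  exact hp.out.not_dvd_one

theorem hasNormalPComplement_of_not_dvd [Finite G] [Fact p.Prime] (h : ¬ p ∣ Nat.card G) :
    Cfsg.HasNormalPComplement p G :=
  hasNormalPComplement_iff_not_dvd.mpr fun hd => h (hd.trans (card_subgroup_dvd_card _))

/-- In a group with a normal `p`-complement, a normal `p`-subgroup commutes with `O^p(G)`. -/
theorem le_centralizer_of_normal_pGroup [Finite G] [Fact p.Prime]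
    (h : Cfsg.HasNormalPComplement p G) {Q : Subgroup G} [Q.Normal] (hQ : IsPGroup p Q) :
    Cfsg.pResidual p G ≤ centralizer (Q : Set G) := by
  intro k hk q hq
  refine commute_of_normal_of_disjoint Q _ inferInstance inferInstance ?_ q k hq hk
  obtain ⟨n, hn⟩ := IsPGroup.iff_card.mp hQ
  refine disjoint_of_coprime_natCard ?_
  rw [hn]
  exact Nat.Coprime.pow_left n ((Nat.Prime.coprime_iff_not_dvd Fact.out).mpr
    (hasNormalPComplement_iff_not_dvd.mp h))

/-! ### The abelian `p`-quotient `A^p(G) = O^p(G)G'` -/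

/-- The kernel of the transfer into `P/P*` is `O^p(G)G'`. -/
theorem ker_transferFocal_eq [Finite G] [hp : Fact p.Prime] (P : Sylow p G) :
    (P : Subgroup G).transferFocal.ker = Cfsg.pResidual p G ⊔ commutator G := by
  have hle : Cfsg.pResidual p G ⊔ commutator G ≤ (P : Subgroup G).transferFocal.ker :=
    sup_le (pResidual_le_ker _ (P.isPGroup'.to_quotient _)) (by
      open scoped IsMulCommutative in
      exact Abelianization.commutator_subset_ker (P : Subgroup G).transferFocal)
  refine le_antisymm (fun x hx => ?_) hle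
  have htop : (P : Subgroup G) ⊔ (Cfsg.pResidual p G ⊔ commutator G) = ⊤ :=
    top_le_iff.mp ((sylow_sup_pResidual P).ge.trans (sup_le_sup_left le_sup_left _))
  have hx' : x ∈ ((P : Subgroup G) ⊔ (Cfsg.pResidual p G ⊔ commutator G) : Subgroup G) :=
    htop ▸ mem_top x
  obtain ⟨a, ha, b, hb, rfl⟩ := mem_sup_of_normal_right.mp hx'
  refine mul_mem ?_ hb
  have h1 : a ∈ (P : Subgroup G).transferFocal.ker := by
    simpa using mul_mem hx (inv_mem (hle hb))
  have h2 : a ∈ (P : Subgroup G).focalSubgroup :=
    ker_transferFocal_inf_eq_focalSubgroup P ▸ ⟨h1, ha⟩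
  exact le_sup_right (a := Cfsg.pResidual p G) ((P : Subgroup G).focalSubgroup_le_commutator h2)

theorem inf_pResidual_sup_commutator [Finite G] [Fact p.Prime] (P : Sylow p G) :
    (Cfsg.pResidual p G ⊔ commutator G) ⊓ (P : Subgroup G) = (P : Subgroup G).focalSubgroup := by
  rw [← ker_transferFocal_eq, ker_transferFocal_inf_eq_focalSubgroup]

theorem inf_pResidual_le_focal [Finite G] [Fact p.Prime] (P : Sylow p G) :
    (P : Subgroup G) ⊓ Cfsg.pResidual p G ≤ (P : Subgroup G).focalSubgroup := by
  rw [← inf_pResidual_sup_commutator P, inf_comm]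
  exact inf_le_inf_right _ le_sup_left

end Cfsg.Agent.TransferPResidual
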