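/-
Thompson's normal p-complement theorem: for odd p, if N(J(P)) and C(Z(P)) have normal
p-complements, then so has G.
-/
import Mathlib
import Cfsg.Prelude.Def_PLocal
import Cfsg.Agent.Lib.HallCore
import Cfsg.Agent.Lib.Offenders
import Cfsg.Agent.Lib.PGroupsBasic
import Cfsg.Agent.Lib.CoprimeAction
import Cfsg.Agent.Lib.TransferPResidual
import Cfsg.Agent.Lib.TransferAlperin
import Cfsg.Agent.Lib.FrobeniusFPF

open scoped Pointwise commutatorElement

namespace Cfsg.Agent.FrobeniusThompson

universe u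

open Cfsg.Agent

/-! ### The two-dimensional step -/

/-- A transvection-like map and an automorphism of order prime to `p` commuting with its conjugate
commute (`p` odd). -/
theorem linear_core {p : ℕ} [Fact p.Prime] (hp : p ≠ 2) {W : Type*} [AddCommGroup W]
    [Module (ZMod p) W] (s : W →ₗ[ZMod p] W) (φ : W →ₗ[ZMod p] ZMod p) (v : W)
    (hv : v ≠ 0) (hφv : φ v = 0) (w₀ : W) (hw₀ : φ w₀ = 1)
    (n : ℕ) (hn : (n : ZMod p) ≠ 0) (hsn : ∀ w, (s ^ n) w = w)
    (hE : ∀ w, (2 * φ (s w)) • s v - φ w • s (s v) - φ (s (s w)) • v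
      - (φ (s v) * φ w) • s v + (φ (s v) * φ (s w)) • v = 0) :
    ∀ w, φ w • s v = φ (s w) • v := by
  have h2 : (2 : ZMod p) ≠ 0 := by
    intro h
    have h2' : ((2 : ℕ) : ZMod p) = 0 := by exact_mod_cast h
    rw [ZMod.natCast_eq_zero_iff] at h2'
    exact hp ((Nat.prime_dvd_prime_iff_eq Fact.out Nat.prime_two).1 h2')
  have hn1 : n ≠ 0 := fun h => hn (by simp [h])
  have eig : ∃ l : ZMod p, s v = l • v := by
    by_contra hne
    push Not at hne
    have ind : ∀ a b : ZMod p, a • s v + b • v = 0 → a = 0 ∧ b = 0 := by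
      intro a b h
      have ha : a = 0 := by
        by_contra ha
        apply hne (-(a⁻¹ * b))
        have hav : a • s v = -(b • v) := eq_neg_of_add_eq_zero_left h
        calc s v = a⁻¹ • (a • s v) := by rw [smul_smul, inv_mul_cancel₀ ha, one_smul]
          _ = (-(a⁻¹ * b)) • v := by rw [hav, smul_neg, smul_smul, neg_smul]
      rw [ha, zero_smul, zero_add] at h
      exact ⟨ha, (smul_eq_zero.1 h).resolve_right hv⟩
    have hc : φ (s v) = 0 := by
      have h := hE v
      rw [hφv] at h
      have h' : (2 * φ (s v)) • s v + (φ (s v) * φ (s v) - φ (s (s v))) • v = 0 := by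
        rw [← h]; simp only [zero_smul, mul_zero, sub_zero]; module
      exact (mul_eq_zero.1 (ind _ _ h').1).resolve_left h2
    have hq : ∀ w, φ w • s (s v) = (2 * φ (s w)) • s v - φ (s (s w)) • v := by
      intro w
      have h := hE w
      rw [hc] at h
      simp only [zero_mul, zero_smul, sub_zero, add_zero] at h
      linear_combination (norm := module) (-1 : ZMod p) • h
    set α := φ (s w₀) with hα
    set β := φ (s (s w₀)) with hβ
    have h1 := hq w₀
    rw [hw₀, one_smul, ← hα, ← hβ] at h1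
    have h3 := hq (s w₀)
    rw [← hα, ← hβ, h1] at h3
    have h4 : (2 * β - 2 * α * α) • s v + (α * β - φ (s (s (s w₀)))) • v = 0 := by
      linear_combination (norm := module) (-1 : ZMod p) • h3
    have hβα : β = α * α := by
      have h5 : 2 * (β - α * α) = 0 := by rw [← (ind _ _ h4).1]; ring
      exact sub_eq_zero.1 ((mul_eq_zero.1 h5).resolve_left h2)
    have key : ∀ k : ℕ, (s ^ k) v = (α ^ k) • v + ((k : ZMod p) * α ^ (k - 1)) • (s v - α • v) := by
      intro k
      induction k with
      | zero => simp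
      | succ k ih =>
        rw [pow_succ', Module.End.mul_apply, ih, map_add, map_smul, map_smul, map_sub, map_smul,
          h1, hβα]
        rcases k with _ | k
        · simp
        · simp only [Nat.cast_succ, Nat.add_sub_cancel]
          module
    have h5 := hsn v
    rw [key n] at h5
    have h6 : ((n : ZMod p) * α ^ (n - 1)) • s v
        + (α ^ n - (n : ZMod p) * α ^ (n - 1) * α - 1) • v = 0 := by
      linear_combination (norm := module) h5
    obtain ⟨e1, e2⟩ := ind _ _ h6
    have h7 : α ^ (n - 1) = 0 := (mul_eq_zero.1 e1).resolve_left hn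
    have h8 : α ^ n = 0 := by
      rw [← Nat.sub_add_cancel (Nat.one_le_iff_ne_zero.2 hn1), pow_succ, h7, zero_mul]
    rw [h8, e1, zero_mul, sub_zero, zero_sub, neg_eq_zero] at e2
    exact one_ne_zero e2
  obtain ⟨l, hl⟩ := eig
  have hc : φ (s v) = 0 := by rw [hl, map_smul, hφv, smul_zero]
  have hl2 : s (s v) = (l * l) • v := by rw [hl, map_smul, hl, smul_smul]
  have hψ : ∀ w, φ (s (s w)) = 2 * l * φ (s w) - l * l * φ w := by
    intro w
    have h := hE w
    rw [hc, hl2, hl] at h
    have h' : (2 * l * φ (s w) - l * l * φ w - φ (s (s w))) • v = 0 := by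
      linear_combination (norm := module) h
    exact (sub_eq_zero.1 ((smul_eq_zero.1 h').resolve_right hv)).symm
  have hlpow : ∀ k : ℕ, (s ^ k) v = (l ^ k) • v := by
    intro k
    induction k with
    | zero => simp
    | succ k ih => rw [pow_succ', Module.End.mul_apply, ih, map_smul, hl, smul_smul, ← pow_succ]
  have hln : l ^ n = 1 := by
    have h := hsn v
    rw [hlpow n] at h
    have h' : (l ^ n - 1) • v = 0 := by rw [sub_smul, one_smul, h, sub_self]
    exact sub_eq_zero.1 ((smul_eq_zero.1 h').resolve_right hv)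
  have hl0 : l ≠ 0 := fun h => by simp [h, zero_pow hn1] at hln
  intro w
  have key : ∀ k : ℕ, φ ((s ^ k) w) = l ^ k * φ w + k * l ^ (k - 1) * (φ (s w) - l * φ w) := by
    intro k
    induction k using Nat.twoStepInduction with
    | zero => simp
    | one => simp
    | more k ih1 ih2 =>
      rw [pow_succ' s (k + 1), Module.End.mul_apply, pow_succ' s k, Module.End.mul_apply, hψ]
      rw [pow_succ' s k, Module.End.mul_apply] at ih2
      rw [ih2, ih1]
      rcases k with _ | k
      · simp; ring
      · simp only [show k + 1 + 2 - 1 = k + 2 from rfl, show k + 1 + 1 - 1 = k + 1 from rfl,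
          Nat.add_sub_cancel]
        push_cast
        ring
  have h := key n
  rw [hsn w, hln, one_mul, left_eq_add] at h
  have h' : φ (s w) - l * φ w = 0 :=
    (mul_eq_zero.1 h).resolve_left (mul_ne_zero hn (pow_ne_zero _ hl0))
  rw [hl, smul_smul, sub_eq_zero.1 h', mul_comm]

/-- Additive form of the two-dimensional step. -/
theorem commute_additive {p : ℕ} [Fact p.Prime] (hp : p ≠ 2) {W : Type*} [AddCommGroup W]
    [Finite W] [Module (ZMod p) W] (A A' S : W →ₗ[ZMod p] W) (hA' : ∀ x, A (A' x) = x)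
    (k : ℕ) (hAk : ∀ x, (A ^ p ^ k) x = x) (n : ℕ) (hn : ¬ p ∣ n) (hSn : ∀ x, (S ^ n) x = x)
    (hcomm : ∀ x, A (S (A' (S x))) = S (A (S (A' x))))
    (C : AddSubgroup W) (hC : ∀ c ∈ C, A c = c) (hCi : Nat.card W ≤ p * Nat.card C) (w : W) :
    A (S w) = S (A w) := by
  classical
  set T : W →ₗ[ZMod p] W := A - 1 with hT
  by_cases hT0 : T = 0
  · have h1 : ∀ x : W, A x = x := fun x => by
      have h := LinearMap.congr_fun hT0 x
      simpa [hT, sub_eq_zero] using h
    rw [h1, h1]
  obtain ⟨x₀, hx₀⟩ : ∃ x, T x ≠ 0 := by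
    by_contra h
    push Not at h
    exact hT0 (LinearMap.ext h)
  set v := T x₀ with hv
  have hrange : ∀ x, ∃ c : ZMod p, c • v = T x := by
    let f : W →+ W := T.toAddMonoidHom
    have hker : Nat.card C ≤ Nat.card f.ker := by
      refine Nat.card_le_card_of_injective (fun c => ⟨(c : W), ?_⟩) ?_
      · simp [f, hT, AddMonoidHom.mem_ker, hC c c.2]
      · intro c d h
        exact Subtype.ext (congrArg Subtype.val h :)
    have hcr : Nat.card f.range ≤ p := by
      have h1 : Nat.card f.range * Nat.card f.ker = Nat.card W := by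
        rw [← AddSubgroup.index_ker, AddSubgroup.index_mul_card]
      have hpos : 0 < Nat.card f.ker := Nat.card_pos
      nlinarith
    intro x
    by_contra hne
    push Not at hne
    have hinj : Function.Injective (fun c : ZMod p =>
        (⟨c • v, ⟨c • x₀, by simp [f, hv]⟩⟩ : f.range)) := fun c d h =>
      smul_left_injective (ZMod p) hx₀ (congrArg Subtype.val h)
    have hb : Function.Bijective (fun c : ZMod p =>
        (⟨c • v, ⟨c • x₀, by simp [f, hv]⟩⟩ : f.range)) :=
      hinj.bijective_of_nat_card_le (by rw [Nat.card_zmod]; exact hcr)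
    obtain ⟨c, hc⟩ := hb.2 ⟨T x, ⟨x, rfl⟩⟩
    exact hne c (congrArg Subtype.val hc)
  choose φ₀ hφ₀ using hrange
  let φ : W →ₗ[ZMod p] ZMod p :=
    { toFun := φ₀
      map_add' := fun x y => smul_left_injective (ZMod p) hx₀ (by
        simp only [add_smul, hφ₀, map_add])
      map_smul' := fun c x => smul_left_injective (ZMod p) hx₀ (by
        simp only [RingHom.id_apply, smul_eq_mul, mul_smul, hφ₀, map_smul]) }
  have hAx : ∀ x, A x = x + φ x • v := fun x => by
    show A x = x + φ₀ x • v
    rw [hφ₀]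
    simp [hT]
  have hφv : φ v = 0 := by
    have hav : A v = (1 + φ v) • v := by rw [hAx, add_smul, one_smul]
    have hpow : ∀ j : ℕ, (A ^ j) v = ((1 + φ v) ^ j) • v := by
      intro j
      induction j with
      | zero => simp
      | succ j ih => rw [pow_succ', Module.End.mul_apply, ih, map_smul, hav, smul_smul, ← pow_succ]
    have h1 := hAk v
    rw [hpow] at h1
    have h2 : (1 + φ v) ^ p ^ k = 1 :=
      smul_left_injective (ZMod p) hx₀ (h1.trans (one_smul _ _).symm)
    rw [ZMod.pow_card_pow] at h2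
    simpa using h2
  have hφx : φ x₀ = 1 := smul_left_injective (ZMod p) hx₀ (by
    show φ₀ x₀ • v = (1 : ZMod p) • v
    rw [hφ₀, one_smul])
  have hinvA : ∀ x, A' x = x - φ x • v := by
    intro x
    have h1 : A (x - φ x • v) = x := by
      rw [map_sub, map_smul, hAx x, hAx v, hφv]
      simp
    have hinj : Function.Injective A := by
      refine Finite.injective_iff_surjective.2 fun y => ⟨A' y, hA' y⟩
    exact hinj ((hA' x).trans h1.symm)
  have hE : ∀ x, (2 * φ (S x)) • S v - φ x • S (S v) - φ (S (S x)) • v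
      - (φ (S v) * φ x) • S v + (φ (S v) * φ (S x)) • v = 0 := by
    intro x
    have h := hcomm x
    simp only [hinvA, hAx, map_add, map_sub, map_smul, smul_eq_mul] at h
    linear_combination (norm := module) (-1 : ZMod p) • h
  have hn' : (n : ZMod p) ≠ 0 := fun h => hn ((ZMod.natCast_eq_zero_iff n p).1 h)
  have key := linear_core hp S φ v hx₀ hφv x₀ hφx n hn' hSn hE w
  rw [hAx, hAx, map_add, map_smul, key]

theorem commute_on_elementary_aux {p : ℕ} [Fact p.Prime] (hp : p ≠ 2) {W : Type*} [CommGroup W]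
    [Finite W] [Module (ZMod p) (Additive W)] (a s : MulAut W) (k : ℕ) (ha : a ^ p ^ k = 1) (n : ℕ)
    (hn : ¬ p ∣ n) (hs : s ^ n = 1) (hcomm : a * s * a⁻¹ * s = s * (a * s * a⁻¹))
    (C : Subgroup W) (hC : ∀ c ∈ C, a c = c) (hCi : Nat.card W ≤ p * Nat.card C) (w : W) :
    a (s w) = s (a w) := by
  let L := fun b : MulAut W => (MonoidHom.toAdditive b.toMonoidHom).toZModLinearMap p
  have hL : ∀ (b : MulAut W) (x : Additive W), L b x = Additive.ofMul (b x.toMul) := fun b x => rfl
  have hpow : ∀ (b : MulAut W) (j : ℕ) (x : Additive W),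
      (L b ^ j) x = Additive.ofMul ((b ^ j) x.toMul) := by
    intro b j
    induction j with
    | zero => simp
    | succ j ih =>
      intro x
      rw [pow_succ', Module.End.mul_apply, ih, hL, toMul_ofMul, pow_succ' b j, MulAut.mul_apply]
  have h := commute_additive hp (L a) (L a⁻¹) (L s)
    (fun x => by rw [hL, hL, toMul_ofMul, MulAut.apply_inv_self, ofMul_toMul])
    k (fun x => by rw [hpow, ha]; simp) n hn (fun x => by rw [hpow, hs]; simp)
    (fun x => by
      have := DFunLike.congr_fun hcomm x.toMul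
      simp only [MulAut.mul_apply] at this
      simp only [hL, toMul_ofMul]
      exact congrArg Additive.ofMul this)
    (Subgroup.toAddSubgroup C) (fun c hc => by rw [hL, hC c.toMul hc, ofMul_toMul]) hCi
    (Additive.ofMul w)
  exact Additive.ofMul.injective h

/-- Multiplicative form: `a` centralises a subgroup of index at most `p` of the elementary abelian
group `W`, `s` has `p'`-order on `W` and commutes with its `a`-conjugate on `W`; then `a` and `s`
commute on `W`. -/
theorem commute_on_elementary {p : ℕ} [Fact p.Prime] (hp : p ≠ 2) {W : Type*} [CommGroup W]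
    [Finite W] (hW : ∀ w : W, w ^ p = 1) (a s : MulAut W) (k : ℕ) (ha : a ^ p ^ k = 1) (n : ℕ)
    (hn : ¬ p ∣ n) (hs : s ^ n = 1) (hcomm : a * s * a⁻¹ * s = s * (a * s * a⁻¹))
    (C : Subgroup W) (hC : ∀ c ∈ C, a c = c) (hCi : Nat.card W ≤ p * Nat.card C) (w : W) :
    a (s w) = s (a w) :=
  @commute_on_elementary_aux p _ hp W _ _ (AddCommGroup.zmodModule (fun x => by
    have := congrArg Additive.ofMul (hW x.toMul)
    simpa using this)) a s k ha n hn hs hcomm C hC hCi w

/-! ### Elementary preparations -/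

section prelim

variable {G : Type u} [Group G] {p : ℕ}

/-- The centre of a subgroup. -/
def zOf (P : Subgroup G) : Subgroup G := P ⊓ Subgroup.centralizer (P : Set G)

theorem map_isMaxIn {H : Type*} [Group H] (f : G →* H) (P : Subgroup G)
    (hf : Function.Injective (f.comp P.subtype)) (A : Subgroup G) :
    Offenders.IsMaxIn p P A → Offenders.IsMaxIn p (P.map f) (A.map f) := by
  rintro ⟨hAP, hAe, hAmax⟩
  have hcard : ∀ B : Subgroup G, B ≤ P → Nat.card (B.map f) = Nat.card B := by
    intro B hB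
    refine (Nat.card_eq_of_bijective (fun b : B => (⟨f b, b, b.2, rfl⟩ : B.map f)) ⟨?_, ?_⟩).symm
    · intro b c h
      have := @hf ⟨b, hB b.2⟩ ⟨c, hB c.2⟩ (congrArg Subtype.val h)
      exact Subtype.ext (congrArg (fun z : P => (z : G)) this)
    · rintro ⟨_, b, hb, rfl⟩
      exact ⟨⟨b, hb⟩, rfl⟩
  refine ⟨Subgroup.map_mono hAP, Offenders.ea_map hAe f, fun B hB hBe => ?_⟩
  have hB' : (B.comap f ⊓ P).map f = B := by
    refine le_antisymm ?_ ?_
    · rintro _ ⟨x, hx, rfl⟩; exact hx.1
    · intro y hy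
      obtain ⟨x, hx, rfl⟩ := hB hy
      exact ⟨x, ⟨hy, hx⟩, rfl⟩
  have hBe' : Cfsg.IsElementaryAbelian p (B.comap f ⊓ P) := by
    rw [Offenders.ea_iff] at hBe ⊢
    refine ⟨fun x hx y hy => ?_, fun x hx => ?_⟩
    · have := @hf ⟨x * y, P.mul_mem hx.2 hy.2⟩ ⟨y * x, P.mul_mem hy.2 hx.2⟩
        (by simp only [MonoidHom.comp_apply, Subgroup.coe_subtype, map_mul]; exact hBe.1 _ hx.1 _ hy.1)
      exact congrArg Subtype.val this
    · have := @hf ⟨x ^ p, P.pow_mem hx.2 p⟩ 1
        (by simp only [MonoidHom.comp_apply, Subgroup.coe_subtype, map_pow, map_one]; exact hBe.2 _ hx.1)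
      exact congrArg Subtype.val this
  calc Nat.card B = Nat.card (B.comap f ⊓ P : Subgroup G) := by
        conv_lhs => rw [← hB']
        exact hcard _ inf_le_right
    _ ≤ Nat.card A := hAmax _ inf_le_right hBe'
    _ = Nat.card (A.map f) := (hcard A hAP).symm

theorem exists_isMaxIn [Finite G] (P : Subgroup G) : ∃ A, Offenders.IsMaxIn p P A := by
  classical
  obtain ⟨A, hA, hmax⟩ := Set.exists_max_image
    {A : Subgroup G | A ≤ P ∧ Cfsg.IsElementaryAbelian p A}
    (fun A => Nat.card A) (Set.toFinite _) ⟨⊥, bot_le, Offenders.ea_bot⟩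
  exact ⟨A, hA.1, hA.2, fun B h1 h2 => hmax B ⟨h1, h2⟩⟩

theorem map_thompsonOf [Finite G] {H : Type*} [Group H] (f : G →* H) (P : Subgroup G)
    (hf : Function.Injective (f.comp P.subtype)) :
    (Cfsg.thompsonSubgroupOf p P).map f = Cfsg.thompsonSubgroupOf p (P.map f) := by
  obtain ⟨A₀, hA₀⟩ := exists_isMaxIn (p := p) P
  have h₀ := map_isMaxIn f P hf A₀ hA₀
  rw [Offenders.thompsonOf_eq, Offenders.thompsonOf_eq]
  refine le_antisymm ?_ (sSup_le fun B hB => ?_)
  · rw [Subgroup.map_le_iff_le_comap]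
    exact sSup_le fun A hA => Subgroup.map_le_iff_le_comap.1 (le_sSup (map_isMaxIn f P hf A hA))
  · obtain ⟨hBP, hBe, hBmax⟩ := hB
    have hmap : (B.comap f ⊓ P).map f = B := by
      refine le_antisymm ?_ ?_
      · rintro _ ⟨x, hx, rfl⟩; exact hx.1
      · intro y hy
        obtain ⟨x, hx, rfl⟩ := hBP hy
        exact ⟨x, ⟨hy, hx⟩, rfl⟩
    have hmax : Offenders.IsMaxIn p P (B.comap f ⊓ P) := by
      have hea : Cfsg.IsElementaryAbelian p (B.comap f ⊓ P) := by
        rw [Offenders.ea_iff] at hBe ⊢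
        refine ⟨fun x hx y hy => ?_, fun x hx => ?_⟩
        · have := @hf ⟨x * y, P.mul_mem hx.2 hy.2⟩ ⟨y * x, P.mul_mem hy.2 hx.2⟩
            (by simp only [MonoidHom.comp_apply, Subgroup.coe_subtype, map_mul]; exact hBe.1 _ hx.1 _ hy.1)
          exact congrArg Subtype.val this
        · have := @hf ⟨x ^ p, P.pow_mem hx.2 p⟩ 1
            (by simp only [MonoidHom.comp_apply, Subgroup.coe_subtype, map_pow, map_one]; exact hBe.2 _ hx.1)
          exact congrArg Subtype.val this
      refine ⟨inf_le_right, hea, fun C hC hCe => (hA₀.2.2 C hC hCe).trans ?_⟩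
      calc Nat.card A₀ = Nat.card (A₀.map f) := by
            refine Nat.card_eq_of_bijective
              (fun b : A₀ => (⟨f b, b, b.2, rfl⟩ : A₀.map f)) ⟨?_, ?_⟩
            · intro b c h
              have := @hf ⟨b, hA₀.1 b.2⟩ ⟨c, hA₀.1 c.2⟩ (congrArg Subtype.val h)
              exact Subtype.ext (congrArg (fun z : P => (z : G)) this)
            · rintro ⟨_, b, hb, rfl⟩
              exact ⟨⟨b, hb⟩, rfl⟩
        _ ≤ Nat.card B := hBmax _ h₀.1 h₀.2.1
        _ ≤ Nat.card (B.comap f ⊓ P : Subgroup G) := by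
            conv_lhs => rw [← hmap]
            exact Nat.le_of_dvd Nat.card_pos (Subgroup.card_map_dvd _ f)
    rw [← hmap]
    exact Subgroup.map_mono (le_sSup hmax)

theorem map_zOf {H : Type*} [Group H] (f : G →* H) (P : Subgroup G)
    (hf : Function.Injective (f.comp P.subtype)) : (zOf P).map f = zOf (P.map f) := by
  ext y
  constructor
  · rintro ⟨x, ⟨hx, hxc⟩, rfl⟩
    refine ⟨⟨x, hx, rfl⟩, ?_⟩
    rintro _ ⟨z, hz, rfl⟩
    rw [← map_mul, ← map_mul, hxc z hz]
  · rintro ⟨⟨x, hx, rfl⟩, hc⟩
    refine ⟨x, ⟨hx, fun z hz => ?_⟩, rfl⟩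
    have := @hf ⟨z * x, P.mul_mem hz hx⟩ ⟨x * z, P.mul_mem hx hz⟩
      (by simpa using hc (f z) ⟨z, hz, rfl⟩)
    exact congrArg Subtype.val this

theorem le_normalizer_of_conj {A B : Subgroup G} (h : ∀ a ∈ A, ∀ x ∈ B, a * x * a⁻¹ ∈ B) :
    A ≤ Subgroup.normalizer (B : Set G) := by
  intro a ha
  rw [Subgroup.mem_normalizer_iff]
  refine fun x => ⟨h a ha x, fun hx => ?_⟩
  have := h a⁻¹ (A.inv_mem ha) _ hx
  simpa [mul_assoc] using this

theorem normalizer_le_normalizer_thompsonOf (P : Subgroup G) :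
    Subgroup.normalizer (P : Set G) ≤
      Subgroup.normalizer (Cfsg.thompsonSubgroupOf p P : Set G) := by
  refine le_normalizer_of_conj fun g hg x hx => ?_
  have hP : P.map (MulAut.conj g).toMonoidHom = P := by
    ext y
    constructor
    · rintro ⟨z, hz, rfl⟩
      exact (Subgroup.mem_normalizer_iff.1 hg z).1 hz
    · intro hy
      refine ⟨g⁻¹ * y * g, ?_, by simp [mul_assoc]⟩
      exact (Subgroup.mem_normalizer_iff''.1 hg y).1 hy
  rw [← hP, ← Offenders.thompsonOf_map_conj]
  exact ⟨x, hx, rfl⟩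

theorem normalizer_le_normalizer_zOf (P : Subgroup G) :
    Subgroup.normalizer (P : Set G) ≤ Subgroup.normalizer (zOf P : Set G) := by
  refine le_normalizer_of_conj fun g hg x hx => ⟨(Subgroup.mem_normalizer_iff.1 hg x).1 hx.1, ?_⟩
  intro z hz
  have hz' : g⁻¹ * z * g ∈ P := (Subgroup.mem_normalizer_iff''.1 hg z).1 hz
  calc z * (g * x * g⁻¹) = g * ((g⁻¹ * z * g) * x) * g⁻¹ := by group
    _ = g * (x * (g⁻¹ * z * g)) * g⁻¹ := by rw [hx.2 _ hz']
    _ = g * x * g⁻¹ * z := by group

theorem thompsonOf_ne_bot [Finite G] [Fact p.Prime] {P : Subgroup G} (hP : IsPGroup p P)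
    (h : P ≠ ⊥) : Cfsg.thompsonSubgroupOf p P ≠ ⊥ := by
  intro hJ
  obtain ⟨A, hA⟩ := exists_isMaxIn (p := p) P
  have hAJ : A ≤ Cfsg.thompsonSubgroupOf p P := by
    rw [Offenders.thompsonOf_eq]; exact le_sSup hA
  rw [hJ, le_bot_iff] at hAJ
  obtain ⟨x, hx, hord⟩ := PGroupsBasic.exists_orderOf_eq_of_ne_bot hP h
  have := hA.2.2 (Subgroup.zpowers x) (Subgroup.zpowers_le.2 hx)
    (Offenders.ea_zpowers (hord ▸ pow_orderOf_eq_one x))
  rw [hAJ, Subgroup.card_bot, Nat.card_zpowers, hord] at this
  have := (Fact.out : p.Prime).two_le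
  omega

theorem zOf_ne_bot [Finite G] [Fact p.Prime] {P : Subgroup G} (hP : IsPGroup p P) (h : P ≠ ⊥) :
    zOf P ≠ ⊥ := by
  have : Nontrivial P := (Subgroup.nontrivial_iff_ne_bot P).2 h
  obtain ⟨⟨z, hz⟩, hz1⟩ := @exists_ne _ hP.center_nontrivial 1
  intro hbot
  have hmem : (z : G) ∈ zOf P :=
    ⟨z.2, fun y hy => congrArg Subtype.val (Subgroup.mem_center_iff.1 hz ⟨y, hy⟩)⟩
  rw [hbot, Subgroup.mem_bot] at hmem
  exact hz1 (Subtype.ext (Subtype.ext hmem))

/-- Transfer of the hypothesis through a homomorphism injective on a subgroup. -/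
theorem pNC_of_map_le {H : Type*} [Group H] [Finite G] [Fact p.Prime] (f : H →* G)
    (hf : Function.Injective f) (L : Subgroup H) (M : Subgroup G) (h : L.map f ≤ M)
    (hM : Cfsg.HasNormalPComplement p M) : Cfsg.HasNormalPComplement p L :=
  TransferPResidual.hasNormalPComplement_of_injective
    ((f.comp L.subtype).codRestrict M fun x => h ⟨x, x.2, rfl⟩)
    (fun _ _ e => Subtype.ext (hf (congrArg Subtype.val e))) hM

theorem pNC_of_image {H : Type*} [Group H] [Finite H] [Finite G] [Fact p.Prime] (f : G →* H)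
    (M : Subgroup G) (L : Subgroup H) (h : L ≤ M.map f)
    (hM : Cfsg.HasNormalPComplement p M) : Cfsg.HasNormalPComplement p L := by
  have h1 : Cfsg.HasNormalPComplement p (M.map f) :=
    TransferPResidual.hasNormalPComplement_of_surjective (f.subgroupMap M)
      (f.subgroupMap_surjective M) hM
  have : Finite (M.map f) := Finite.of_surjective _ (f.subgroupMap_surjective M)
  exact TransferPResidual.hasNormalPComplement_mono h h1

theorem pNC_of_quotient [Finite G] [hp : Fact p.Prime] (N : Subgroup G) [N.Normal]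
    (hN : ¬ p ∣ Nat.card N) (h : Cfsg.HasNormalPComplement p (G ⧸ N)) :
    Cfsg.HasNormalPComplement p G := by
  set f := QuotientGroup.mk' N
  rw [TransferPResidual.hasNormalPComplement_iff_not_dvd] at h ⊢
  intro hd
  have hle : Cfsg.pResidual p G ≤ (Cfsg.pResidual p (G ⧸ N)).comap f :=
    Subgroup.map_le_iff_le_comap.1 (TransferPResidual.map_pResidual_le f)
  have hc : Nat.card ((Cfsg.pResidual p (G ⧸ N)).comap f) =
      Nat.card (Cfsg.pResidual p (G ⧸ N)) * Nat.card N := (HallCore.card_comap_mk' N _).symm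
  have hd' := hd.trans (Subgroup.card_dvd_of_le hle)
  rw [hc] at hd'
  exact (hp.out.dvd_mul.1 hd').elim h hN

/-- Frattini: in a quotient by a normal `p'`-subgroup normalisers of `p`-subgroups lift. -/
theorem exists_mem_normalizer_of_map [Finite G] [Fact p.Prime] (N : Subgroup G) [N.Normal]
    (hN : ¬ p ∣ Nat.card N) {A : Subgroup G} (hA : IsPGroup p A) {x : G}
    (hx : QuotientGroup.mk' N x ∈ Subgroup.normalizer
      (A.map (QuotientGroup.mk' N) : Set (G ⧸ N))) :
    ∃ y ∈ Subgroup.normalizer (A : Set G), QuotientGroup.mk' N y = QuotientGroup.mk' N x := by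
  set f := QuotientGroup.mk' N
  have hsupeq : (A.map f).comap f = N ⊔ A := by
    rw [Subgroup.comap_map_eq, QuotientGroup.ker_mk', sup_comm]
  have hB : A.map (MulAut.conj x).toMonoidHom ≤ N ⊔ A := by
    rw [← hsupeq]
    rintro _ ⟨a, ha, rfl⟩
    show f (x * a * x⁻¹) ∈ A.map f
    rw [map_mul, map_mul, map_inv]
    exact (Subgroup.mem_normalizer_iff.1 hx (f a)).1 ⟨a, ha, rfl⟩
  have hcop : (Nat.card A).Coprime (Nat.card N) := by
    obtain ⟨k, hk⟩ := IsPGroup.iff_card.1 hA
    rw [hk]
    exact Nat.Coprime.pow_left k ((Fact.out : p.Prime).coprime_iff_not_dvd.2 hN)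
  obtain ⟨n, hn, hconj⟩ := CoprimeSZ.exists_conj_of_card_eq (N := N) (A := A)
    (B := A.map (MulAut.conj x).toMonoidHom)
    (by rw [Subgroup.normalizer_eq_top]; exact le_top) hcop
    (Or.inl (CoprimeAction.isSolvable_of_isPGroup hA)) hB
    (Subgroup.card_map_of_injective (MulAut.conj x).injective)
  rw [CoprimeSZ.conj_smul_eq_map] at hconj
  refine ⟨n⁻¹ * x, ?_, ?_⟩
  · refine CoprimeAction.mem_normalizer_of_conj_smul_eq ?_
    rw [CoprimeSZ.conj_smul_mul, CoprimeSZ.conj_smul_eq_map x, ← hconj,
      ← CoprimeSZ.conj_smul_eq_map, ← CoprimeSZ.conj_smul_mul, inv_mul_cancel, map_one, one_smul]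
  · rw [map_mul, map_inv, show f n = 1 from (QuotientGroup.eq_one_iff n).2 hn, inv_one, one_mul]

/-- A `p`-group normalising a non-trivial `p`-group fixes a non-identity element of it. -/
theorem exists_fixed [Finite G] [hp : Fact p.Prime] {B D : Subgroup G} (hB : IsPGroup p B)
    (hD : IsPGroup p D) (hBD : B ≤ Subgroup.normalizer (D : Set G)) (hne : D ≠ ⊥) :
    ∃ d ∈ D, d ≠ 1 ∧ ∀ b ∈ B, b * d * b⁻¹ = d := by
  let _ := FrobeniusFPF.conjAction B D hBD
  have h1 : p ∣ Nat.card D := by
    obtain ⟨k, hk⟩ := IsPGroup.iff_card.1 hD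
    rcases k with _ | k
    · exact absurd (Subgroup.card_eq_one.1 (by simpa using hk)) hne
    · rw [hk]; exact dvd_pow_self p k.succ_ne_zero
  obtain ⟨d, hd, hd1⟩ := hB.exists_fixed_point_of_prime_dvd_card_of_fixed_point D h1
    (a := (1 : D)) (MulAction.mem_fixedPoints.2 fun b => smul_one b)
  exact ⟨d, d.2, fun e => hd1 (Subtype.ext e).symm,
    fun b hb => congrArg Subtype.val (MulAction.mem_fixedPoints.1 hd ⟨b, hb⟩)⟩

/-- An elementary abelian group generated coprimely: choice of a hyperplane. -/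
theorem exists_hyperplane [Finite G] [Fact p.Prime] {A R : Subgroup G}
    (hA : Cfsg.IsElementaryAbelian p A) (hR : IsMulCommutative R)
    (hAR : A ≤ Subgroup.normalizer (R : Set G)) (hcop : (Nat.card A).Coprime (Nat.card R))
    (hne : ∃ a ∈ A, ∃ r ∈ R, a * r ≠ r * a) :
    ∃ B : Subgroup G, B ≤ A ∧ ∃ a ∈ A, A ≤ B ⊔ Subgroup.zpowers a ∧
      ∃ s ∈ R, (∀ b ∈ B, b * s = s * b) ∧ a * s ≠ s * a := by
  classical
  obtain ⟨B, hBS, hBmax⟩ := Set.exists_max_image {B : Subgroup G | B ≤ A ∧
    ∃ a ∈ A, ∃ r ∈ R, (∀ b ∈ B, b * r = r * b) ∧ a * r ≠ r * a}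
    (fun B => Nat.card B) (Set.toFinite _) ⟨⊥, bot_le, by
      obtain ⟨a, ha, r, hr, h⟩ := hne
      exact ⟨a, ha, r, hr, by simp, h⟩⟩
  obtain ⟨hBA, a, ha, r, hr, hrB, har⟩ := hBS
  have haB : a ∉ B := fun h => har (hrB a h)
  obtain ⟨hAc, hAp⟩ := (Offenders.ea_iff A).1 hA
  have hgen : ∀ c ∈ A, c ∉ B → ∀ x ∈ R, (∀ b ∈ B, b * x = x * b) → c * x = x * c →
      ∀ a' ∈ A, a' * x = x * a' := by
    intro c hc hcB x hx hxB hxc a' ha'
    by_contra hne'
    have hle : B ⊔ Subgroup.zpowers c ≤ Subgroup.centralizer ({x} : Set G) := by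
      refine sup_le ?_ (Subgroup.zpowers_le.2 ?_)
      · exact fun b hb => Subgroup.mem_centralizer_singleton_iff.2 (hxB b hb)
      · exact Subgroup.mem_centralizer_singleton_iff.2 hxc
    have := hBmax (B ⊔ Subgroup.zpowers c) ⟨sup_le hBA (Subgroup.zpowers_le.2 hc), a', ha', x, hx,
      fun b hb => Subgroup.mem_centralizer_singleton_iff.1 (hle hb), hne'⟩
    have heq : B = B ⊔ Subgroup.zpowers c := Subgroup.eq_of_le_of_card_ge le_sup_left this
    exact hcB (heq ▸ Subgroup.mem_sup_right (Subgroup.mem_zpowers c))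
  refine ⟨B, hBA, a, ha, ?_, r, hr, hrB, har⟩
  by_contra hle
  obtain ⟨c, hc, hcn⟩ := Set.not_subset.1 hle
  set D : Subgroup G := ⁅R, A⁆ ⊓ Subgroup.centralizer (B : Set G) with hD
  have hRA : ⁅R, A⁆ ≤ R := CoprimeAction.commutator_le_self_of_le_normalizer hAR
  have hDR : D ≤ R := inf_le_left.trans hRA
  have hAD : A ≤ Subgroup.normalizer (D : Set G) := by
    refine le_normalizer_of_conj fun x hx y hy => ⟨?_, ?_⟩
    · have hn : A ≤ Subgroup.normalizer ((⁅R, A⁆ : Subgroup G) : Set G) := by
        exact Subgroup.normalizer_commutator_ge_right R A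
      exact (Subgroup.mem_normalizer_iff.1 (hn hx) y).1 hy.1
    · intro b hb
      have hbx : b * x = x * b := hAc b (hBA hb) x hx
      calc b * (x * y * x⁻¹) = x * (b * y) * x⁻¹ := by
            rw [← mul_assoc, ← mul_assoc, hbx, mul_assoc x b y]
        _ = x * (y * b) * x⁻¹ := by rw [hy.2 b hb]
        _ = x * y * (x⁻¹ * b) := by
            rw [show x⁻¹ * b = b * x⁻¹ from (show Commute b x from hbx).inv_right.eq.symm]; group
        _ = x * y * x⁻¹ * b := by group
  set L : Subgroup G := Subgroup.zpowers a ⊔ Subgroup.zpowers c with hL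
  have hLA : L ≤ A := sup_le (Subgroup.zpowers_le.2 ha) (Subgroup.zpowers_le.2 hc)
  have hLB : ∀ l ∈ L, l ∈ B → l = 1 := by
    intro l hl hlB
    have hn : Subgroup.zpowers a ≤ Subgroup.normalizer (Subgroup.zpowers c : Set G) := by
      refine (Subgroup.zpowers_le.2 (Subgroup.centralizer_le_normalizer _ ?_))
      intro y hy
      exact hAc y (Subgroup.zpowers_le.2 hc hy) a ha
    rw [hL, ← SetLike.mem_coe, Subgroup.coe_mul_of_left_le_normalizer_right _ _ hn] at hl
    obtain ⟨x, hx, y, hy, rfl⟩ := Set.mem_mul.1 hl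
    have hord : ∀ z ∈ A, ∀ M : Subgroup G, z ∉ M → ∀ w ∈ Subgroup.zpowers z, w ∈ M → w = 1 := by
      intro z hz M hzM w hw hwM
      by_contra hw1
      have hz1 : z ≠ 1 := fun e => hzM (e ▸ M.one_mem)
      have hzo : orderOf z = p := orderOf_eq_prime (hAp z hz) hz1
      have hwo : orderOf w = p := by
        refine orderOf_eq_prime ?_ hw1
        exact hAp w (Subgroup.zpowers_le.2 hz hw)
      have : Subgroup.zpowers w = Subgroup.zpowers z :=
        Subgroup.eq_of_le_of_card_ge (Subgroup.zpowers_le.2 hw)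
          (by rw [Nat.card_zpowers, Nat.card_zpowers, hzo, hwo])
      exact hzM ((this ▸ Subgroup.zpowers_le.2 hwM : Subgroup.zpowers z ≤ M) (Subgroup.mem_zpowers z))
    have hy' : y = 1 := by
      refine hord c hc (B ⊔ Subgroup.zpowers a) hcn y hy ?_
      have : y = x⁻¹ * (x * y) := by group
      rw [this]
      exact mul_mem (inv_mem (Subgroup.mem_sup_right hx)) (Subgroup.mem_sup_left hlB)
    subst hy'
    rw [mul_one] at hlB ⊢
    exact hord a ha B haB x hx hlB
  have hDne : D ≠ ⊥ := by
    intro hbot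
    have hmem : r * a * r⁻¹ * a⁻¹ ∈ D := by
      refine ⟨Subgroup.commutator_mem_commutator hr ha, fun b hb => ?_⟩
      have h1 : Commute b r := hrB b hb
      have h2 : Commute b a := hAc b (hBA hb) a ha
      exact (((h1.mul_right h2).mul_right h1.inv_right).mul_right h2.inv_right).eq
    rw [hbot, Subgroup.mem_bot, mul_inv_eq_one, mul_inv_eq_iff_eq_mul] at hmem
    exact har hmem.symm
  have hfpf : ∀ l ∈ L, l ≠ 1 → D ⊓ Subgroup.centralizer ({l} : Set G) = ⊥ := by
    intro l hl hl1
    rw [Subgroup.eq_bot_iff_forall]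
    rintro x ⟨hxD, hxl⟩
    have hall := hgen l (hLA hl) (fun h => hl1 (hLB l hl h)) x (hDR hxD)
      (fun b hb => hxD.2 b hb) (Subgroup.mem_centralizer_singleton_iff.1 hxl).symm
    have hmem : x ∈ (R ⊓ Subgroup.centralizer (A : Set G)) ⊓ ⁅R, A⁆ :=
      ⟨⟨hDR hxD, fun a' ha' => hall a' ha'⟩, hxD.1⟩
    have : IsMulCommutative R := hR
    rwa [CoprimeAction.inf_centralizer_inf_commutator_eq_bot hAR hcop, Subgroup.mem_bot] at hmem
  have hcyc : IsCyclic L := FrobeniusFPF.isCyclic_of_fpf L D
    (PGroupsBasic.isMulCommutative_mono hR hDR) hDne (hLA.trans hAD) hfpf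
    (Or.inl (PGroupsBasic.isMulCommutative_mono hA.1 hLA))
  have hle' := PGroupsBasic.card_le_prime_of_isCyclic (p := p) hcyc
    ((Offenders.ea_iff L).1 (Offenders.ea_mono hA hLA)).2
  have hac : Subgroup.zpowers a = L := by
    refine Subgroup.eq_of_le_of_card_ge le_sup_left ?_
    rw [Nat.card_zpowers, orderOf_eq_prime (hAp a ha) fun e => haB (e ▸ B.one_mem)]
    exact hle'
  exact hcn ((le_sup_right : Subgroup.zpowers a ≤ B ⊔ Subgroup.zpowers a)
    (hac ▸ Subgroup.mem_sup_right (Subgroup.mem_zpowers c)))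

end prelim

/-! ### The final configuration -/

theorem centralizer_contradiction {G : Type u} [Group G] [Finite G] {p : ℕ} [hp : Fact p.Prime]
    (hodd : p ≠ 2) (U : Subgroup G) [U.Normal] (R : Subgroup (G ⧸ U)) [R.Normal]
    (hRcomm : IsMulCommutative R) (hRp : ¬ p ∣ Nat.card R) (V : Subgroup G) [V.Normal]
    (hVea : Cfsg.IsElementaryAbelian p V) (hVU : V ≤ U)
    (hCV : Subgroup.centralizer (V : Set G) = U) (P A : Subgroup G)
    (hP : IsPGroup p P) (hUP : U ≤ P) (hA : Offenders.IsMaxIn p P A)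
    (hact : ∃ a ∈ A, ∃ r ∈ R, (a : G ⧸ U) * r ≠ r * a) : False := by
  classical
  set f := QuotientGroup.mk' U with hf
  obtain ⟨hAP, hAe, hAmax⟩ := hA
  obtain ⟨hVc, hVp⟩ := (Offenders.ea_iff V).1 hVea
  obtain ⟨hAc, hAp⟩ := (Offenders.ea_iff A).1 hAe
  have hAfe : Cfsg.IsElementaryAbelian p (A.map f) := Offenders.ea_map hAe f
  have hcop : (Nat.card (A.map f)).Coprime (Nat.card R) := by
    obtain ⟨k, hk⟩ := IsPGroup.iff_card.1 (Offenders.ea_isPGroup hAfe)
    rw [hk]
    exact Nat.Coprime.pow_left k (hp.out.coprime_iff_not_dvd.2 hRp)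
  obtain ⟨B', hB'A, a', ha', hgen, s', hs', hs'B, hs'a⟩ :=
    exists_hyperplane hAfe hRcomm (by rw [Subgroup.normalizer_eq_top]; exact le_top) hcop (by
      obtain ⟨a, ha, r, hr, h⟩ := hact
      exact ⟨f a, ⟨a, ha, rfl⟩, r, hr, h⟩)
  obtain ⟨a, ha, rfl⟩ := ha'
  obtain ⟨s, rfl⟩ := QuotientGroup.mk'_surjective U s'
  set B := A ⊓ B'.comap f with hBdef
  have hBA : B ≤ A := inf_le_left
  have hA2 : ∀ x ∈ A, ∃ i : ℤ, x * a ^ i ∈ B := by
    intro x hx
    have hn : Subgroup.zpowers (f a) ≤ Subgroup.normalizer (B' : Set (G ⧸ U)) := by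
      refine Subgroup.zpowers_le.2 (Subgroup.centralizer_le_normalizer _ fun y hy => ?_)
      exact ((Offenders.ea_iff _).1 hAfe).1 y (hB'A hy) (f a) ⟨a, ha, rfl⟩
    have h := hgen (Subgroup.mem_map_of_mem f hx)
    rw [sup_comm, ← SetLike.mem_coe, Subgroup.coe_mul_of_left_le_normalizer_right _ _ hn] at h
    obtain ⟨u, hu, b', hb', hub⟩ := Set.mem_mul.1 h
    obtain ⟨i, rfl⟩ := Subgroup.mem_zpowers_iff.1 hu
    refine ⟨-i, A.mul_mem hx (A.zpow_mem ha _), ?_⟩
    show f (x * a ^ (-i)) ∈ B'
    have hcomm : f a ^ i * b' = b' * f a ^ i :=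
      (((Offenders.ea_iff _).1 hAfe).1 _ (Subgroup.zpow_mem _ (Subgroup.mem_map_of_mem f ha) i) _ (hB'A hb'))
    have hfx : f (x * a ^ (-i)) = b' := by
      rw [map_mul, map_zpow, ← hub, hcomm, zpow_neg, mul_inv_cancel_right]
    rw [hfx]
    exact hb'
  have hindex : Nat.card A ≤ p * Nat.card B := by
    have hsurj : Function.Surjective (fun z : B × Subgroup.zpowers a =>
        (⟨(z.1 : G) * z.2, A.mul_mem (hBA z.1.2) (Subgroup.zpowers_le.2 ha z.2.2)⟩ : A)) := by
      intro x
      obtain ⟨i, hi⟩ := hA2 x x.2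
      refine ⟨⟨⟨_, hi⟩, ⟨a ^ (-i), Subgroup.mem_zpowers_iff.2 ⟨-i, rfl⟩⟩⟩, Subtype.ext ?_⟩
      simp
    calc Nat.card A ≤ Nat.card (B × Subgroup.zpowers a) := Nat.card_le_card_of_surjective _ hsurj
      _ = Nat.card B * Nat.card (Subgroup.zpowers a) := Nat.card_prod _ _
      _ ≤ p * Nat.card B := by
          rw [Nat.card_zpowers, mul_comm]
          exact Nat.mul_le_mul_right _ (Nat.le_of_dvd hp.out.pos (orderOf_dvd_of_pow_eq_one (hAp a ha)))
  -- `W = C_V(B)`
  set W := V ⊓ Subgroup.centralizer (B : Set G) with hWdef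
  have hWV : W ≤ V := inf_le_left
  have hVconj : ∀ (x : G) {v : G}, v ∈ V → x * v * x⁻¹ ∈ V :=
    fun x v hv => Subgroup.Normal.conj_mem ‹V.Normal› v hv x
  have hUV : ∀ u ∈ U, ∀ v ∈ V, u * v * u⁻¹ = v := by
    intro u hu v hv
    rw [← hCV] at hu
    rw [← hu v hv, mul_inv_cancel_right]
  have hfb : ∀ b ∈ B, Commute (f b) (f s) := fun b hb => hs'B _ hb.2
  -- elements commuting with `B` modulo `U` normalise `W`
  have hWn : ∀ x : G, (∀ b ∈ B, Commute (f b) (f x)) → ∀ w ∈ W, x * w * x⁻¹ ∈ W := by
    intro x hx w hw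
    refine ⟨hVconj x hw.1, fun b hb => ?_⟩
    have hu : (x * b)⁻¹ * (b * x) ∈ U := by
      rw [← QuotientGroup.eq_one_iff]
      show f ((x * b)⁻¹ * (b * x)) = 1
      rw [map_mul, map_inv, map_mul, map_mul, (hx b hb).eq, inv_mul_cancel]
    have hbw : b * w * b⁻¹ = w := by rw [hw.2 b hb, mul_inv_cancel_right]
    have h2 : b * (x * w * x⁻¹) * b⁻¹ = x * w * x⁻¹ := by
      calc b * (x * w * x⁻¹) * b⁻¹
          = x * b * (((x * b)⁻¹ * (b * x)) * w * ((x * b)⁻¹ * (b * x))⁻¹) * (x * b)⁻¹ := by group
        _ = x * (b * w * b⁻¹) * x⁻¹ := by rw [hUV _ hu w hw.1]; group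
        _ = x * w * x⁻¹ := by rw [hbw]
    exact mul_inv_eq_iff_eq_mul.1 h2
  let S : Subgroup G :=
    { carrier := {x | ∀ b ∈ B, Commute (f b) (f x)}
      one_mem' := fun b _ => by simp
      mul_mem' := fun {x y} hx hy b hb => by rw [map_mul]; exact (hx b hb).mul_right (hy b hb)
      inv_mem' := fun {x} hx b hb => by rw [map_inv]; exact (hx b hb).inv_right }
  have hSW : S ≤ Subgroup.normalizer (W : Set G) := le_normalizer_of_conj hWn
  have hsS : s ∈ S := hfb
  have haS : a ∈ S := fun b hb => by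
    show f b * f a = f a * f b
    rw [← map_mul, ← map_mul, hAc b (hBA hb) a ha]
  let _ := FrobeniusFPF.conjAction S W hSW
  let θ : S →* MulAut W := MulDistribMulAction.toMulAut S W
  have hθ : ∀ (x : S) (w : W), (θ x w : G) = (x : G) * w * (x : G)⁻¹ := fun x w => rfl
  let _ : CommGroup W := { (inferInstance : Group W) with
    mul_comm := fun x y => Subtype.ext (hVc x (hWV x.2) y (hWV y.2)) }
  have hθU : ∀ x : S, (x : G) ∈ U → θ x = 1 := fun x hx => by
    ext w
    exact hUV _ hx w (hWV w.2)
  set n := orderOf (f s) with hn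
  have hnp : ¬ p ∣ n := fun h => hRp (h.trans (Subgroup.orderOf_dvd_natCard R hs'))
  -- `[a, s]` is trivial on `W`
  have hkey : ∀ w ∈ W, a * (s * w * s⁻¹) * a⁻¹ = s * (a * w * a⁻¹) * s⁻¹ := by
    have hcard : Nat.card W ≤ p * Nat.card (V ⊓ Subgroup.centralizer (A : Set G) : Subgroup G) := by
      have hsup : Cfsg.IsElementaryAbelian p (W ⊔ B) :=
        Offenders.ea_sup (Offenders.ea_mono hVea hWV) (Offenders.ea_mono hAe hBA)
          (fun w hw b hb => (hw.2 b hb).symm)
      have hle := hAmax _ (sup_le ((hWV.trans hVU).trans hUP) (hBA.trans hAP)) hsup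
      have hinter : W ⊓ B ≤ V ⊓ Subgroup.centralizer (A : Set G) := fun x hx =>
        ⟨hWV hx.1, fun y hy => hAc y hy x (hBA hx.2)⟩
      have hn' : W ≤ Subgroup.normalizer (B : Set G) :=
        le_trans (fun w hw => show w ∈ Subgroup.centralizer (B : Set G) from hw.2)
          (Subgroup.centralizer_le_normalizer _)
      have hprod : Nat.card W * Nat.card B ≤
          Nat.card (W ⊓ B : Subgroup G) * Nat.card (W ⊔ B : Subgroup G) := by
        have hcm := HallCore.card_mul_relIndex (inf_le_left : W ⊓ B ≤ W)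
        have hcm2 := HallCore.card_mul_relIndex (le_sup_right : B ≤ W ⊔ B)
        have hrel : (W ⊓ B).relIndex W ≤ B.relIndex (W ⊔ B) := by
          rw [Subgroup.inf_relIndex_left]
          exact Subgroup.relIndex_le_of_le_right le_sup_left Subgroup.index_ne_zero_of_finite
        calc Nat.card W * Nat.card B
            = Nat.card (W ⊓ B : Subgroup G) * (Nat.card B * (W ⊓ B).relIndex W) := by
              rw [← hcm]; ring
          _ ≤ Nat.card (W ⊓ B : Subgroup G) * (Nat.card B * B.relIndex (W ⊔ B)) :=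
              Nat.mul_le_mul_left _ (Nat.mul_le_mul_left _ hrel)
          _ = _ := by rw [hcm2]
      have h1 : Nat.card W * Nat.card B ≤
          (p * Nat.card (V ⊓ Subgroup.centralizer (A : Set G) : Subgroup G)) * Nat.card B := by
        refine hprod.trans ?_
        calc Nat.card (W ⊓ B : Subgroup G) * Nat.card (W ⊔ B : Subgroup G)
            ≤ Nat.card (V ⊓ Subgroup.centralizer (A : Set G) : Subgroup G) * (p * Nat.card B) :=
              Nat.mul_le_mul (Nat.le_of_dvd Nat.card_pos (Subgroup.card_dvd_of_le hinter))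
                (hle.trans hindex)
          _ = _ := by ring
      exact Nat.le_of_mul_le_mul_right h1 Nat.card_pos
    have hθn : θ ⟨s, hsS⟩ ^ n = 1 := by
      rw [← map_pow]
      refine hθU _ ?_
      show s ^ n ∈ U
      rw [← QuotientGroup.eq_one_iff, QuotientGroup.mk_pow]
      exact pow_orderOf_eq_one _
    obtain ⟨k, hk⟩ := hP ⟨a, hAP ha⟩
    have hθa : θ ⟨a, haS⟩ ^ p ^ k = 1 := by
      rw [← map_pow]
      refine hθU _ ?_
      show a ^ p ^ k ∈ U
      have : a ^ p ^ k = 1 := congrArg Subtype.val hk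
      rw [this]
      exact U.one_mem
    have hcomm : θ ⟨a, haS⟩ * θ ⟨s, hsS⟩ * (θ ⟨a, haS⟩)⁻¹ * θ ⟨s, hsS⟩ =
        θ ⟨s, hsS⟩ * (θ ⟨a, haS⟩ * θ ⟨s, hsS⟩ * (θ ⟨a, haS⟩)⁻¹) := by
      rw [← map_inv, ← map_mul, ← map_mul, ← map_mul, ← map_mul, ← inv_mul_eq_one, ← map_inv,
        ← map_mul]
      refine hθU _ ?_
      show (a * s * a⁻¹ * s)⁻¹ * (s * (a * s * a⁻¹)) ∈ U
      rw [← QuotientGroup.eq_one_iff]
      show f ((a * s * a⁻¹ * s)⁻¹ * (s * (a * s * a⁻¹))) = 1
      have hm : f (a * s * a⁻¹) ∈ R := by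
        rw [map_mul, map_mul, map_inv]
        exact Subgroup.Normal.conj_mem ‹R.Normal› _ hs' _
      have hc : f (a * s * a⁻¹) * f s = f s * f (a * s * a⁻¹) :=
        PGroupsBasic.comm_of_isMulCommutative hRcomm hm hs'
      rw [map_mul, map_inv, map_mul _ (a * s * a⁻¹) s, map_mul _ s (a * s * a⁻¹), hc,
        inv_mul_cancel]
    intro w hw
    have h := commute_on_elementary hodd
      (fun w : W => Subtype.ext (by push_cast; exact hVp w (hWV w.2)))
      (θ ⟨a, haS⟩) (θ ⟨s, hsS⟩) k hθa n hnp hθn hcomm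
      ((V ⊓ Subgroup.centralizer (A : Set G)).subgroupOf W)
      (fun c hc => Subtype.ext (by
        rw [hθ]
        show a * (c : G) * a⁻¹ = c
        rw [(Subgroup.mem_subgroupOf.1 hc).2 a ha, mul_inv_cancel_right]))
      (by
        rw [Nat.card_congr (Subgroup.subgroupOfEquivOfLe ?_).toEquiv]
        · exact hcard
        · exact fun x hx => ⟨hx.1, fun b hb => hx.2 b (hBA hb)⟩)
      ⟨w, hw⟩
    exact congrArg Subtype.val h
  -- hence `t = [a, s]` centralises `V`
  set t := a * s * a⁻¹ * s⁻¹ with ht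
  have htW : ∀ w ∈ W, t * w * t⁻¹ = w := by
    intro w hw
    have hz : a⁻¹ * (s⁻¹ * w * s) * a ∈ W := by
      have h1 : s⁻¹ * w * s ∈ W := (Subgroup.mem_normalizer_iff''.1 (hSW hsS) w).1 hw
      exact (Subgroup.mem_normalizer_iff''.1 (hSW haS) _).1 h1
    have h2 := hkey _ hz
    calc t * w * t⁻¹ = a * (s * (a⁻¹ * (s⁻¹ * w * s) * a) * s⁻¹) * a⁻¹ := by rw [ht]; group
      _ = s * (a * (a⁻¹ * (s⁻¹ * w * s) * a) * a⁻¹) * s⁻¹ := h2
      _ = w := by group
  have htR : f t ∈ R := by
    rw [ht, map_mul, map_mul, map_mul, map_inv, map_inv]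
    exact R.mul_mem (Subgroup.Normal.conj_mem ‹R.Normal› _ hs' _) (R.inv_mem hs')
  have htS : t ∈ S := mul_mem (mul_mem (mul_mem haS hsS) (inv_mem haS)) (inv_mem hsS)
  set m := orderOf (f t) with hm
  have hmp : ¬ p ∣ m := fun h => hRp (h.trans (Subgroup.orderOf_dvd_natCard R htR))
  have htm : t ^ m ∈ U := by
    rw [← QuotientGroup.eq_one_iff, QuotientGroup.mk_pow]
    exact pow_orderOf_eq_one _
  let δ : V →* V :=
    { toFun := fun v => ⟨(t * v * t⁻¹) * (v : G)⁻¹, V.mul_mem (hVconj t v.2) (V.inv_mem v.2)⟩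
      map_one' := Subtype.ext (by simp)
      map_mul' := fun x y => Subtype.ext (by
        push_cast
        calc (t * (↑x * ↑y) * t⁻¹) * ((x : G) * y)⁻¹
            = (t * x * t⁻¹) * ((t * y * t⁻¹ * (y : G)⁻¹) * (x : G)⁻¹) := by group
          _ = (t * x * t⁻¹) * ((x : G)⁻¹ * (t * y * t⁻¹ * (y : G)⁻¹)) := by
              rw [hVc (t * y * t⁻¹ * (y : G)⁻¹) (V.mul_mem (hVconj t y.2) (V.inv_mem y.2))
                (x : G)⁻¹ (V.inv_mem x.2)]
          _ = (t * x * t⁻¹ * (x : G)⁻¹) * (t * y * t⁻¹ * (y : G)⁻¹) := by group) }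
  have hδ : ∀ v : V, (δ v : G) = t * v * t⁻¹ * (v : G)⁻¹ := fun v => rfl
  have hδ2 : ∀ v : V, δ (δ v) = 1 → δ v = 1 := by
    intro v hv
    have hd : t * (δ v : G) * t⁻¹ = δ v := mul_inv_eq_one.1 (congrArg Subtype.val hv)
    have hv' : t * (v : G) * t⁻¹ = (δ v : G) * v := by rw [hδ]; group
    have hi : ∀ i : ℕ, t ^ i * (v : G) * (t ^ i)⁻¹ = (δ v : G) ^ i * v := by
      intro i
      induction i with
      | zero => simp
      | succ i ih =>
        have hdi : t * (δ v : G) ^ i * t⁻¹ = (δ v : G) ^ i := by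
          rw [← conj_pow, hd]
        calc t ^ (i + 1) * (v : G) * (t ^ (i + 1))⁻¹ = t * (t ^ i * v * (t ^ i)⁻¹) * t⁻¹ := by
              rw [pow_succ']; group
          _ = (t * (δ v : G) ^ i * t⁻¹) * (t * v * t⁻¹) := by rw [ih]; group
          _ = (δ v : G) ^ (i + 1) * v := by rw [hdi, hv', pow_succ]; group
    have h1 := hi m
    rw [hUV _ htm v v.2] at h1
    have h2 : (δ v : G) ^ m = 1 := mul_eq_right.1 h1.symm
    have h3 : orderOf (δ v : G) ∣ 1 := by
      have hcp : Nat.gcd p m = 1 := hp.out.coprime_iff_not_dvd.2 hmp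
      exact hcp ▸ Nat.dvd_gcd (orderOf_dvd_of_pow_eq_one (hVp _ (δ v).2)) (orderOf_dvd_of_pow_eq_one h2)
    exact Subtype.ext (orderOf_eq_one_iff.1 (Nat.dvd_one.1 h3))
  have htV : t ∈ Subgroup.centralizer (V : Set G) := by
    set D := δ.range.map V.subtype with hD
    have hDbot : D = ⊥ := by
      by_contra hne
      have hBD : B ≤ Subgroup.normalizer (D : Set G) := by
        refine le_normalizer_of_conj fun b hb x hx => ?_
        obtain ⟨_, ⟨v, rfl⟩, rfl⟩ := hx
        refine ⟨δ ⟨b * v * b⁻¹, hVconj b v.2⟩, ⟨_, rfl⟩, ?_⟩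
        show t * (b * v * b⁻¹) * t⁻¹ * (b * v * b⁻¹)⁻¹ = b * (t * v * t⁻¹ * (v : G)⁻¹) * b⁻¹
        have hu : (b * t)⁻¹ * (t * b) ∈ U := by
          rw [← QuotientGroup.eq_one_iff]
          show f ((b * t)⁻¹ * (t * b)) = 1
          rw [map_mul, map_inv, map_mul f b t, map_mul f t b, (htS b hb).eq, inv_mul_cancel]
        calc t * (b * v * b⁻¹) * t⁻¹ * (b * v * b⁻¹)⁻¹
            = (b * t) * (((b * t)⁻¹ * (t * b)) * v * ((b * t)⁻¹ * (t * b))⁻¹) * (b * t)⁻¹
                * (b * v * b⁻¹)⁻¹ := by group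
          _ = b * (t * v * t⁻¹ * (v : G)⁻¹) * b⁻¹ := by rw [hUV _ hu v v.2]; group
      obtain ⟨d, hd, hd1, hdfix⟩ := exists_fixed (hP.to_le (hBA.trans hAP))
        ((Offenders.ea_isPGroup hVea).to_le (Subgroup.map_subtype_le _)) hBD hne
      obtain ⟨_, ⟨v, rfl⟩, rfl⟩ := hd
      have hdW : V.subtype (δ v) ∈ W :=
        ⟨(δ v).2, fun b hb => mul_inv_eq_iff_eq_mul.1 (hdfix b hb)⟩
      have h := htW _ hdW
      apply hd1
      have h' : δ (δ v) = 1 := Subtype.ext (by
        show t * (δ v : G) * t⁻¹ * (δ v : G)⁻¹ = 1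
        rw [mul_inv_eq_one]
        exact h)
      show ((δ v : V) : G) = 1
      rw [hδ2 v h']
      rfl
    intro v hv
    have hmem : (δ ⟨v, hv⟩ : G) ∈ D := ⟨_, ⟨_, rfl⟩, rfl⟩
    rw [hDbot, Subgroup.mem_bot, hδ] at hmem
    exact (mul_inv_eq_iff_eq_mul.1 (mul_inv_eq_one.1 hmem)).symm
  rw [hCV] at htV
  apply hs'a
  have h1 : f t = 1 := (QuotientGroup.eq_one_iff t).2 htV
  rw [ht, map_mul, map_mul, map_mul, map_inv, map_inv, mul_inv_eq_one, mul_inv_eq_iff_eq_mul] at h1
  exact h1

/-! ### The induction -/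

theorem thompson_aux {p : ℕ} [hp : Fact p.Prime] (hodd : p ≠ 2) (n : ℕ) :
    ∀ (G : Type u) [Group G] [Finite G], Nat.card G < n → ∀ P : Sylow p G,
      Cfsg.HasNormalPComplement p
        (Subgroup.normalizer (Cfsg.thompsonSubgroupOf p (P : Subgroup G) : Set G)) →
      Cfsg.HasNormalPComplement p (Subgroup.centralizer (zOf (P : Subgroup G) : Set G)) →
      Cfsg.HasNormalPComplement p G := by
  induction n with
  | zero => intro G _ _ h; omega
  | succ n ih =>
    intro G _ _ hGn P hJ hZ
    classical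
    by_contra hG
    -- Step 0: proper subgroups containing `P` have normal `p`-complements
    have hsub : ∀ H : Subgroup G, (P : Subgroup G) ≤ H → H ≠ ⊤ →
        Cfsg.HasNormalPComplement p H := by
      intro H hPH hH
      have hlt : Nat.card H < n := by
        have : Nat.card H < Nat.card G := by
          refine lt_of_le_of_ne (Nat.le_of_dvd Nat.card_pos (Subgroup.card_subgroup_dvd_card H)) ?_
          exact fun e => hH (Subgroup.eq_top_of_card_eq H e)
        omega
      set P' := P.subtype hPH with hP'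
      have hmap : (P' : Subgroup H).map H.subtype = (P : Subgroup G) := by
        simp [hP', Subgroup.subgroupOf_map_subtype, hPH]
      have hinj : Function.Injective (H.subtype.comp (P' : Subgroup H).subtype) :=
        H.subtype_injective.comp (P' : Subgroup H).subtype_injective
      refine ih H hlt P' (pNC_of_map_le H.subtype H.subtype_injective _ _ ?_ hJ)
        (pNC_of_map_le H.subtype H.subtype_injective _ _ ?_ hZ)
      · refine (Subgroup.le_normalizer_map _).trans ?_
        rw [map_thompsonOf _ _ hinj, hmap]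
      · rintro _ ⟨x, hx, rfl⟩
        rw [← hmap, ← map_zOf _ _ hinj]
        rintro _ ⟨z, hz, rfl⟩
        rw [← map_mul, ← map_mul, hx z hz]
    -- Step 1: there is a non-trivial normal `p`-subgroup
    have hU : Cfsg.pCore p G ≠ ⊥ := by
      intro hcore
      have hloc := mt (TransferAlperin.hasNormalPComplement_iff_normalizer (p := p)).2 hG
      push Not at hloc
      obtain ⟨Q₀, hQ₀⟩ := hloc
      obtain ⟨Q, ⟨hQp, hQne, hQnc⟩, hQmax⟩ := Set.exists_max_image
        {Q : Subgroup G | IsPGroup p Q ∧ Q ≠ ⊥ ∧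
          ¬ Cfsg.HasNormalPComplement p (Subgroup.normalizer (Q : Set G))}
        (fun Q => (Nat.card (Subgroup.normalizer (Q : Set G))).factorization p)
        (Set.toFinite _) ⟨Q₀, hQ₀⟩
      obtain ⟨S⟩ : Nonempty (Sylow p (Subgroup.normalizer (Q : Set G))) := inferInstance
      obtain ⟨T, hT⟩ := (S.isPGroup'.map (Subgroup.normalizer (Q : Set G)).subtype).exists_le_sylow
      obtain ⟨g, hg⟩ := MulAction.exists_smul_eq G T P
      set c := (MulAut.conj g).toMonoidHom with hc
      set Q₁ := Q.map c with hQ₁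
      have hcinj : Function.Injective c := (MulAut.conj g).injective
      have hnorm : (Subgroup.normalizer (Q : Set G)).map c = Subgroup.normalizer (Q₁ : Set G) :=
        Subgroup.map_equiv_normalizer_eq _ _
      set N := Subgroup.normalizer (Q₁ : Set G) with hN
      have hQ₁ne : Q₁ ≠ ⊥ := by
        rw [hQ₁, Ne, Subgroup.map_eq_bot_iff_of_injective _ hcinj]; exact hQne
      have hQ₁p : IsPGroup p Q₁ := hQp.map c
      have hcardN : Nat.card N = Nat.card (Subgroup.normalizer (Q : Set G)) := by
        rw [← hnorm]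
        exact Subgroup.card_map_of_injective hcinj
      have hNnc : ¬ Cfsg.HasNormalPComplement p N := by
        intro h
        exact hQnc (pNC_of_map_le c hcinj _ N hnorm.le h)
      set S₁ := (((S : Subgroup _).map (Subgroup.normalizer (Q : Set G)).subtype)).map c with hS₁
      have hS₁P : S₁ ≤ (P : Subgroup G) := by
        rw [← hg, Sylow.coe_subgroup_smul, CoprimeSZ.conj_smul_eq_map]
        exact Subgroup.map_mono hT
      have hS₁N : S₁ ≤ N := hnorm ▸ Subgroup.map_mono (Subgroup.map_subtype_le _)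
      have hS₁card : Nat.card S₁ = p ^ (Nat.card N).factorization p := by
        rw [hS₁, Subgroup.card_map_of_injective hcinj,
          Subgroup.card_map_of_injective (Subgroup.subtype_injective _), S.card_eq_multiplicity,
          hcardN]
      have hS₁p : IsPGroup p S₁ := P.isPGroup'.to_le hS₁P
      -- `P ∩ N = S₁`
      have hPN : (P : Subgroup G) ⊓ N = S₁ := by
        refine (Subgroup.eq_of_le_of_card_ge (le_inf hS₁P hS₁N) ?_).symm
        obtain ⟨k, hk⟩ := IsPGroup.iff_card.1
          (P.isPGroup'.to_le (inf_le_left : (P : Subgroup G) ⊓ N ≤ P))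
        rw [hk, hS₁card]
        refine Nat.pow_le_pow_right hp.out.pos ?_
        have := Subgroup.card_dvd_of_le (inf_le_right : (P : Subgroup G) ⊓ N ≤ N)
        rw [hk] at this
        exact (hp.out.pow_dvd_iff_le_factorization Nat.card_pos.ne').1 this
      have hQ₁S : Q₁ ≤ S₁ := by
        have hQS : Q.subgroupOf (Subgroup.normalizer (Q : Set G)) ≤ (S : Subgroup _) := by
          have : (Q.subgroupOf (Subgroup.normalizer (Q : Set G))).Normal :=
            Subgroup.normal_in_normalizer
          have hQ'p : IsPGroup p (Q.subgroupOf (Subgroup.normalizer (Q : Set G))) :=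
            hQp.comap_subtype
          exact (HallCore.le_pCore hQ'p).trans (HallCore.pCore_le_sylow S)
        refine Subgroup.map_mono ?_
        intro x hx
        exact ⟨⟨x, Subgroup.le_normalizer hx⟩, hQS hx, rfl⟩
      have hQmax' : ∀ R : Subgroup G, IsPGroup p R → R ≠ ⊥ →
          (Nat.card N).factorization p < (Nat.card (Subgroup.normalizer (R : Set G))).factorization p →
          Cfsg.HasNormalPComplement p (Subgroup.normalizer (R : Set G)) := by
        intro R hR hRne hlt
        by_contra hnc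
        have := hQmax R ⟨hR, hRne, hnc⟩
        rw [hcardN] at hlt
        omega
      by_cases hSP : S₁ = (P : Subgroup G)
      · -- `P` normalises `Q₁`
        have hPN' : (P : Subgroup G) ≤ N := hSP ▸ hS₁N
        by_cases hNtop : N = ⊤
        · have : Q₁.Normal := Subgroup.normalizer_eq_top_iff.1 hNtop
          have := HallCore.le_pCore (p := p) hQ₁p
          rw [hcore] at this
          exact hQ₁ne (le_bot_iff.1 this)
        · exact hNnc (hsub N hPN' hNtop)
      · have hlt : S₁ < (P : Subgroup G) := lt_of_le_of_ne hS₁P hSP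
        have hgrow : S₁ < (P : Subgroup G) ⊓ Subgroup.normalizer (S₁ : Set G) := by
          refine lt_of_le_of_ne (le_inf hS₁P Subgroup.le_normalizer) fun e => ?_
          have h1 := PGroupsBasic.lt_normalizer P.isPGroup'
            (H := S₁.subgroupOf (P : Subgroup G))
            (fun h => hlt.not_ge (Subgroup.subgroupOf_eq_top.1 h))
          refine h1.not_ge fun x hx => ?_
          rw [Subgroup.mem_subgroupOf, e]
          refine ⟨x.2, ?_⟩
          show (x : G) ∈ Subgroup.normalizer (S₁ : Set G)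
          rw [Subgroup.mem_normalizer_iff]
          intro y
          constructor
          · intro hy
            exact (Subgroup.mem_normalizer_iff.1 hx ⟨y, hS₁P hy⟩).1 hy
          · intro hy
            have hyP : y ∈ (P : Subgroup G) := by
              have := (P : Subgroup G).mul_mem ((P : Subgroup G).mul_mem
                ((P : Subgroup G).inv_mem x.2) (hS₁P hy)) x.2
              simpa [mul_assoc] using this
            exact (Subgroup.mem_normalizer_iff.1 hx ⟨y, hyP⟩).2 hy
        have hS₁ne : S₁ ≠ ⊥ := fun e => hQ₁ne (le_bot_iff.1 (e ▸ hQ₁S))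
        have hJS : Cfsg.HasNormalPComplement p
            (Subgroup.normalizer (Cfsg.thompsonSubgroupOf p S₁ : Set G)) := by
          refine hQmax' _ (hS₁p.to_le (Offenders.thompsonOf_le S₁)) (thompsonOf_ne_bot hS₁p hS₁ne) ?_
          set X := (P : Subgroup G) ⊓ Subgroup.normalizer (S₁ : Set G) with hX
          obtain ⟨k, hk⟩ := IsPGroup.iff_card.1 (P.isPGroup'.to_le (inf_le_left : X ≤ P))
          have h2 : Nat.card S₁ < Nat.card X := by
            refine lt_of_le_of_ne (Nat.le_of_dvd Nat.card_pos (Subgroup.card_dvd_of_le hgrow.le)) ?_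
            exact fun e => hgrow.ne (Subgroup.eq_of_le_of_card_ge hgrow.le e.ge)
          rw [hS₁card, hk, Nat.pow_lt_pow_iff_right hp.out.one_lt] at h2
          have h3 : Nat.card X ∣
              Nat.card (Subgroup.normalizer (Cfsg.thompsonSubgroupOf p S₁ : Set G)) :=
            Subgroup.card_dvd_of_le (inf_le_right.trans (normalizer_le_normalizer_thompsonOf S₁))
          rw [hk] at h3
          have := (hp.out.pow_dvd_iff_le_factorization Nat.card_pos.ne').1 h3
          omega
        have hzle : zOf (P : Subgroup G) ≤ zOf S₁ := by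
          intro z hz
          refine ⟨?_, fun y hy => hz.2 y (hS₁P hy)⟩
          show z ∈ S₁
          rw [← hPN]
          refine ⟨hz.1, Subgroup.centralizer_le_normalizer _ fun y hy => hz.2 y (hS₁P (hQ₁S hy))⟩
        -- apply induction to `N`
        have hNtop : N ≠ ⊤ := by
          intro e
          rw [e, inf_top_eq] at hPN
          exact hSP hPN.symm
        have hltN : Nat.card N < n := by
          have : Nat.card N < Nat.card G := by
            refine lt_of_le_of_ne (Nat.le_of_dvd Nat.card_pos (Subgroup.card_subgroup_dvd_card N)) ?_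
            exact fun e => hNtop (Subgroup.eq_top_of_card_eq N e)
          omega
        let S' : Sylow p N := Sylow.ofCard (S₁.subgroupOf N) (by
          rw [Nat.card_congr (Subgroup.subgroupOfEquivOfLe hS₁N).toEquiv, hS₁card])
        have hmap : (S' : Subgroup N).map N.subtype = S₁ := by
          show (S₁.subgroupOf N).map N.subtype = S₁
          rw [Subgroup.subgroupOf_map_subtype, inf_eq_left.2 hS₁N]
        have hinj : Function.Injective (N.subtype.comp (S' : Subgroup N).subtype) :=
          N.subtype_injective.comp (S' : Subgroup N).subtype_injective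
        refine hNnc (ih N hltN S' (pNC_of_map_le N.subtype N.subtype_injective _ _ ?_ hJS)
          (pNC_of_map_le N.subtype N.subtype_injective _ _ ?_ hZ))
        · refine (Subgroup.le_normalizer_map _).trans ?_
          rw [map_thompsonOf _ _ hinj, hmap]
        · rintro _ ⟨x, hx, rfl⟩
          intro z hz
          have hz' := hzle hz
          rw [← hmap, ← map_zOf _ _ hinj] at hz'
          obtain ⟨y, hy, rfl⟩ := hz'
          rw [← map_mul, ← map_mul, hx y hy]
    -- Step 2: no normal `p'`-subgroup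
    have hO : ∀ N : Subgroup G, N.Normal → ¬ p ∣ Nat.card N → N = ⊥ := by
      intro N hNn hNp
      by_contra hNne
      set f := QuotientGroup.mk' N with hf
      have hsurj : Function.Surjective f := QuotientGroup.mk'_surjective N
      have hlt : Nat.card (G ⧸ N) < n := by
        have h1 := N.index_mul_card
        rw [Subgroup.index_eq_card] at h1
        have h2 := N.one_lt_card_iff_ne_bot.2 hNne
        have h3 : 0 < Nat.card (G ⧸ N) := Nat.card_pos
        nlinarith
      apply hG
      refine pNC_of_quotient N hNp ?_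
      set P' := P.mapSurjective hsurj
      have hP'eq : (P' : Subgroup (G ⧸ N)) = (P : Subgroup G).map f := rfl
      have hd : Disjoint (P : Subgroup G) N := by
        refine Subgroup.disjoint_of_coprime_natCard ?_
        obtain ⟨k, hk⟩ := IsPGroup.iff_card.1 P.isPGroup'
        rw [hk]
        exact Nat.Coprime.pow_left k (hp.out.coprime_iff_not_dvd.2 hNp)
      have hinj : Function.Injective (f.comp (P : Subgroup G).subtype) := by
        rw [injective_iff_map_eq_one]
        exact fun x hx => Subtype.ext (Subgroup.disjoint_def.1 hd x.2 ((QuotientGroup.eq_one_iff _).1 hx))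
      refine ih (G ⧸ N) hlt P' ?_ ?_
      · refine pNC_of_image f _ _ (fun y hy => ?_) hJ
        rw [hP'eq, ← map_thompsonOf _ _ hinj] at hy
        obtain ⟨x, rfl⟩ := hsurj y
        obtain ⟨z, hz, hzx⟩ := exists_mem_normalizer_of_map N hNp
          (P.isPGroup'.to_le (Offenders.thompsonOf_le _)) hy
        exact ⟨z, hz, hzx⟩
      · refine pNC_of_image f _ _ (fun y hy => ?_) hZ
        rw [hP'eq, ← map_zOf _ _ hinj] at hy
        obtain ⟨x, rfl⟩ := hsurj y
        obtain ⟨z, hz, hzx⟩ := exists_mem_normalizer_of_map N hNp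
          (P.isPGroup'.to_le (inf_le_left : zOf (P : Subgroup G) ≤ _))
          (Subgroup.centralizer_le_normalizer _ hy)
        refine ⟨z, fun u hu => ?_, hzx⟩
        have h1 : z * u * z⁻¹ * u⁻¹ ∈ (P : Subgroup G) :=
          (P : Subgroup G).mul_mem ((Subgroup.mem_normalizer_iff.1 hz u).1 hu).1
            ((P : Subgroup G).inv_mem hu.1)
        have h2 : z * u * z⁻¹ * u⁻¹ ∈ N := by
          rw [← QuotientGroup.eq_one_iff]
          show f (z * u * z⁻¹ * u⁻¹) = 1
          rw [map_mul, map_mul, map_mul, map_inv, map_inv, show f z = f x from hzx, ← hy (f u) ⟨u, hu, rfl⟩]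
          group
        have h3 := Subgroup.disjoint_def.1 hd h1 h2
        exact (mul_inv_eq_iff_eq_mul.1 (mul_inv_eq_one.1 h3)).symm
    -- Step 3: `G / U` has a normal `p`-complement
    set U := Cfsg.pCore p G with hUdef
    have : U.Normal := HallCore.pCore_normal p G
    have hUp : IsPGroup p U := HallCore.isPGroup_pCore p G
    have hUP : U ≤ (P : Subgroup G) := HallCore.pCore_le_sylow P
    have hPU : ¬ (P : Subgroup G) ≤ U := by
      intro h
      have hPn : (P : Subgroup G).Normal := (le_antisymm h hUP).symm ▸ ‹U.Normal›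
      have htop : Subgroup.normalizer (Cfsg.thompsonSubgroupOf p (P : Subgroup G) : Set G) = ⊤ := by
        refine top_le_iff.1 ?_
        rw [← Subgroup.normalizer_eq_top (H := (P : Subgroup G))]
        exact normalizer_le_normalizer_thompsonOf _
      rw [htop] at hJ
      exact hG ((TransferPResidual.hasNormalPComplement_congr Subgroup.topEquiv).1 hJ)
    set f := QuotientGroup.mk' U with hfdef
    have hsurj : Function.Surjective f := QuotientGroup.mk'_surjective U
    set P' := P.mapSurjective hsurj with hP'def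
    have hP'eq : (P' : Subgroup (G ⧸ U)) = (P : Subgroup G).map f := rfl
    have hP'ne : (P' : Subgroup (G ⧸ U)) ≠ ⊥ := by
      rw [hP'eq, Ne, Subgroup.map_eq_bot_iff, QuotientGroup.ker_mk']
      exact hPU
    have hcoreQ : Cfsg.pCore p (G ⧸ U) = ⊥ := HallCore.pCore_quotient_self p G
    have hXnorm : ∀ X : Subgroup (G ⧸ U), IsPGroup p X → X ≠ ⊥ →
        (P' : Subgroup (G ⧸ U)) ≤ Subgroup.normalizer (X : Set (G ⧸ U)) →
        Cfsg.HasNormalPComplement p (Subgroup.normalizer (X : Set (G ⧸ U))) := by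
      intro X hX hXne hPX
      have hne : Subgroup.normalizer (X : Set (G ⧸ U)) ≠ ⊤ := by
        intro e
        have : X.Normal := Subgroup.normalizer_eq_top_iff.1 e
        have := HallCore.le_pCore (p := p) hX
        rw [hcoreQ, le_bot_iff] at this
        exact hXne this
      set M := (Subgroup.normalizer (X : Set (G ⧸ U))).comap f
      refine pNC_of_image f M _ (Subgroup.map_comap_eq_self_of_surjective hsurj _).ge (hsub M ?_ ?_)
      · intro x hx
        exact hPX ⟨x, hx, rfl⟩
      · intro e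
        apply hne
        rw [← Subgroup.map_comap_eq_self_of_surjective hsurj (Subgroup.normalizer (X : Set (G ⧸ U)))]
        show M.map f = ⊤
        rw [e, ← MonoidHom.range_eq_map, MonoidHom.range_eq_top.2 hsurj]
    have hQnc : Cfsg.HasNormalPComplement p (G ⧸ U) := by
      have hlt : Nat.card (G ⧸ U) < n := by
        have h1 := U.index_mul_card
        rw [Subgroup.index_eq_card] at h1
        have h2 := U.one_lt_card_iff_ne_bot.2 hU
        have h3 : 0 < Nat.card (G ⧸ U) := Nat.card_pos
        nlinarith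
      refine ih (G ⧸ U) hlt P' ?_ ?_
      · exact hXnorm _ (P'.isPGroup'.to_le (Offenders.thompsonOf_le _))
          (thompsonOf_ne_bot P'.isPGroup' hP'ne)
          (Subgroup.le_normalizer.trans (normalizer_le_normalizer_thompsonOf _))
      · exact TransferPResidual.hasNormalPComplement_mono (Subgroup.centralizer_le_normalizer _)
          (hXnorm _ (P'.isPGroup'.to_le inf_le_left) (zOf_ne_bot P'.isPGroup' hP'ne)
            (Subgroup.le_normalizer.trans (normalizer_le_normalizer_zOf _)))
    set R := Cfsg.pResidual p (G ⧸ U) with hRdef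
    have hRp : ¬ p ∣ Nat.card R := TransferPResidual.hasNormalPComplement_iff_not_dvd.1 hQnc
    have hRc : R.IsComplement' (P' : Subgroup (G ⧸ U)) :=
      TransferPResidual.isComplement'_pResidual hRp P'
    have : R.Normal := by rw [hRdef]; infer_instance
    set K := R.comap f with hKdef
    have hpRK : Cfsg.pResidual p G ≤ K :=
      Subgroup.map_le_iff_le_comap.1 (TransferPResidual.map_pResidual_le f)
    -- Step 4: `C_G(U) ∩ K ≤ U`
    have hCK : Subgroup.centralizer (U : Set G) ⊓ K ≤ U := by
      set C := Subgroup.centralizer (U : Set G) ⊓ K with hC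
      have : C.Normal := inferInstance
      have hCnc : Cfsg.HasNormalPComplement p C := by
        obtain ⟨T⟩ : Nonempty (Sylow p C) := inferInstance
        have hTU : (T : Subgroup C).map C.subtype ≤ U := by
          intro x hx
          have h1 : IsPGroup p ((T : Subgroup C).map C.subtype) := T.isPGroup'.map _
          obtain ⟨k, hk⟩ := h1 ⟨x, hx⟩
          have hxk : x ^ p ^ k = 1 := congrArg Subtype.val hk
          have hfx : f x ∈ R := (Subgroup.map_subtype_le _ hx).2
          rw [← QuotientGroup.eq_one_iff]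
          show f x = 1
          refine orderOf_eq_one_iff.1 (Nat.dvd_one.1 ?_)
          have hcp : Nat.gcd (p ^ k) (Nat.card R) = 1 :=
            Nat.Coprime.pow_left k (hp.out.coprime_iff_not_dvd.2 hRp)
          exact hcp ▸ Nat.dvd_gcd (orderOf_dvd_of_pow_eq_one (by rw [← map_pow, hxk, map_one]))
            (Subgroup.orderOf_dvd_natCard R hfx)
        have hcen : Subgroup.normalizer ((T : Subgroup C) : Set C) ≤
            Subgroup.centralizer ((T : Subgroup C) : Set C) := by
          intro x _ y hy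
          have h := x.2.1 (y : G) (hTU ⟨y, hy, rfl⟩)
          exact Subtype.ext h
        exact ⟨T, _, inferInstance, MonoidHom.ker_transferSylow_isComplement' T hcen⟩
      have hbot : (Cfsg.pResidual p C).map C.subtype = ⊥ := by
        refine hO _ ?_ ?_
        · have := TransferPResidual.map_pResidual_subtype_le (p := p) C
          have hch : (Cfsg.pResidual p C).Characteristic :=
            Subgroup.characteristic_iff_map_eq.2 fun e => TransferPResidual.map_pResidual_equiv e
          exact ConjAct.normal_of_characteristic_of_normal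
        · rw [Subgroup.card_map_of_injective C.subtype_injective]
          exact TransferPResidual.hasNormalPComplement_iff_not_dvd.1 hCnc
      rw [Subgroup.map_eq_bot_iff_of_injective _ C.subtype_injective,
        TransferPResidual.pResidual_eq_bot_iff] at hbot
      exact HallCore.le_pCore hbot
    -- `P` is a maximal subgroup
    have hmaxP : ∀ H : Subgroup G, (P : Subgroup G) ≤ H → H ≠ ⊤ → H = (P : Subgroup G) := by
      intro H hPH hH
      have hHnc := hsub H hPH hH
      set O := (Cfsg.pResidual p H).map H.subtype with hOdef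
      have hOp : ¬ p ∣ Nat.card O := by
        rw [hOdef, Subgroup.card_map_of_injective H.subtype_injective]
        exact TransferPResidual.hasNormalPComplement_iff_not_dvd.1 hHnc
      have hdisj : Disjoint U O := by
        refine Subgroup.disjoint_of_coprime_natCard ?_
        obtain ⟨k, hk⟩ := IsPGroup.iff_card.1 hUp
        rw [hk]
        exact Nat.Coprime.pow_left k (hp.out.coprime_iff_not_dvd.2 hOp)
      have hOC : O ≤ Subgroup.centralizer (U : Set G) := by
        rintro _ ⟨x, hx, rfl⟩ u hu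
        have h1 : u * (x : G) * u⁻¹ * (x : G)⁻¹ ∈ U := by
          have : u * (x : G) * u⁻¹ * (x : G)⁻¹ = u * ((x : G) * u⁻¹ * (x : G)⁻¹) := by group
          rw [this]
          exact U.mul_mem hu (Subgroup.Normal.conj_mem ‹U.Normal› _ (U.inv_mem hu) _)
        have h2 : u * (x : G) * u⁻¹ * (x : G)⁻¹ ∈ O := by
          have : (Cfsg.pResidual p H).Normal := inferInstance
          have hu' : u ∈ H := hPH (hUP hu)
          exact ⟨⟨u, hu'⟩ * x * ⟨u, hu'⟩⁻¹ * x⁻¹,
            mul_mem (this.conj_mem x hx ⟨u, hu'⟩) (inv_mem hx), rfl⟩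
        have h3 := Subgroup.disjoint_def.1 hdisj h1 h2
        exact mul_inv_eq_iff_eq_mul.1 (mul_inv_eq_one.1 h3)
      have hOK : O ≤ K := (TransferPResidual.map_pResidual_subtype_le H).trans hpRK
      have hObot : O = ⊥ := by
        have hOU : O ≤ U := (le_inf hOC hOK).trans hCK
        rw [disjoint_iff, inf_eq_right.2 hOU] at hdisj
        exact hdisj
      rw [hOdef, Subgroup.map_eq_bot_iff_of_injective _ H.subtype_injective,
        TransferPResidual.pResidual_eq_bot_iff] at hObot
      exact P.is_maximal' hObot hPH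
    have hRmin : ∀ S : Subgroup (G ⧸ U), S ≤ R →
        (P' : Subgroup (G ⧸ U)) ≤ Subgroup.normalizer (S : Set (G ⧸ U)) → S = ⊥ ∨ S = R := by
      intro S hSR hPS
      set M := (S ⊔ (P' : Subgroup (G ⧸ U))).comap f
      have hPM : (P : Subgroup G) ≤ M := fun x hx => Subgroup.mem_sup_right ⟨x, hx, rfl⟩
      have hMmap : M.map f = S ⊔ (P' : Subgroup (G ⧸ U)) :=
        Subgroup.map_comap_eq_self_of_surjective hsurj _
      by_cases hM : M = ⊤
      · right
        rw [hM, ← MonoidHom.range_eq_map, MonoidHom.range_eq_top.2 hsurj] at hMmap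
        refine le_antisymm hSR fun r hr => ?_
        have h : r ∈ ((P' : Subgroup (G ⧸ U)) ⊔ S : Subgroup (G ⧸ U)) := by
          rw [sup_comm, ← hMmap]; trivial
        rw [← SetLike.mem_coe, Subgroup.coe_mul_of_left_le_normalizer_right _ _ hPS] at h
        obtain ⟨x, hx, y, hy, rfl⟩ := Set.mem_mul.1 h
        have hx1 : x = 1 := by
          refine Subgroup.disjoint_def.1 hRc.disjoint ?_ hx
          simpa using R.mul_mem hr (R.inv_mem (hSR hy))
        rw [hx1, one_mul]
        exact hy
      · left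
        rw [hmaxP M hPM hM, ← hP'eq] at hMmap
        have : S ≤ (P' : Subgroup (G ⧸ U)) := hMmap ▸ le_sup_left
        exact le_bot_iff.1 (hRc.disjoint hSR this |>.trans' le_rfl)
    have hRne : R ≠ ⊥ := by
      intro h
      have hQp : IsPGroup p (G ⧸ U) := TransferPResidual.pResidual_eq_bot_iff.1 h
      have h1 : IsPGroup p ((⊤ : Subgroup (G ⧸ U)).comap f) :=
        HallCore.isPGroup_comap_mk' hUp (hQp.to_subgroup _)
      rw [Subgroup.comap_top] at h1
      exact hG (TransferPResidual.hasNormalPComplement_of_isPGroup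
        (h1.of_equiv Subgroup.topEquiv))
    have hnormR : ∀ B : Subgroup (G ⧸ U), B ≤ Subgroup.normalizer (R : Set (G ⧸ U)) := fun B => by
      rw [Subgroup.normalizer_eq_top]; exact le_top
    have hRsolv : Group.IsSolvable R := by
      obtain ⟨q, hq, hqd⟩ := Nat.exists_prime_and_dvd (n := Nat.card R)
        (fun e => hRne (Subgroup.card_eq_one.1 e))
      have := Fact.mk hq
      have hcop : (Nat.card (P' : Subgroup (G ⧸ U))).Coprime (Nat.card R) := by
        obtain ⟨k, hk⟩ := IsPGroup.iff_card.1 P'.isPGroup'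
        rw [hk]
        exact Nat.Coprime.pow_left k (hp.out.coprime_iff_not_dvd.2 hRp)
      obtain ⟨T, hT⟩ := CoprimeAction.exists_invariant_sylow (hnormR (P' : Subgroup (G ⧸ U))) hcop
        (Or.inl (CoprimeAction.isSolvable_of_isPGroup P'.isPGroup')) q
      rcases hRmin _ (Subgroup.map_subtype_le (T : Subgroup R)) hT with h | h
      · exact absurd ((Subgroup.map_eq_bot_iff_of_injective _ R.subtype_injective).1 h)
          (T.ne_bot_of_dvd_card hqd)
      · have hq' : IsPGroup q ((T : Subgroup R).map R.subtype) := T.isPGroup'.map _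
        rw [h] at hq'
        exact CoprimeAction.isSolvable_of_isPGroup hq'
    have hRcomm : IsMulCommutative R := by
      rcases hRmin ⁅R, R⁆ (Subgroup.commutator_le_self R) (by
        rw [Subgroup.normalizer_eq_top]; exact le_top) with h | h
      · rw [Subgroup.commutator_eq_bot_iff_le_centralizer] at h
        exact PGroupsBasic.isMulCommutative_of_le_centralizer h
      · exfalso
        have : Nontrivial R := (Subgroup.nontrivial_iff_ne_bot R).2 hRne
        have hne := Group.IsSolvable.commutator_lt_top_of_nontrivial R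
        apply hne.ne
        apply Subgroup.map_injective R.subtype_injective
        rw [← MonoidHom.range_eq_map, R.range_subtype, commutator_def, Subgroup.map_commutator,
          ← MonoidHom.range_eq_map, R.range_subtype, h]
    -- Step 5: `C_G(U) ≤ U`
    have hCU : Subgroup.centralizer (U : Set G) ≤ U := by
      set C := Subgroup.centralizer (U : Set G)
      have hd : Disjoint (C.map f) R := by
        rw [Subgroup.disjoint_def]
        rintro _ ⟨x, hx, rfl⟩ hxR
        exact (QuotientGroup.eq_one_iff x).2 (hCK ⟨hx, hxR⟩)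
      have : (C.map f).Normal := Subgroup.Normal.map inferInstance f hsurj
      have hp' : IsPGroup p (C.map f) := by
        refine (TransferPResidual.isPGroup_quotient_pResidual).of_injective
          ((QuotientGroup.mk' R).comp (C.map f).subtype) ?_
        rw [injective_iff_map_eq_one]
        exact fun x hx => Subtype.ext
          (Subgroup.disjoint_def.1 hd x.2 ((QuotientGroup.eq_one_iff _).1 hx))
      have := HallCore.le_pCore (p := p) hp'
      rw [hcoreQ, le_bot_iff, Subgroup.map_eq_bot_iff, QuotientGroup.ker_mk'] at this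
      exact this
    have hZU : zOf (P : Subgroup G) ≤ U := fun z hz => hCU fun u hu => hz.2 u (hUP hu)
    have hCZ : Subgroup.centralizer (zOf (P : Subgroup G) : Set G) = (P : Subgroup G) := by
      refine hmaxP _ (fun x hx z hz => (hz.2 x hx).symm) fun h => ?_
      rw [h] at hZ
      exact hG ((TransferPResidual.hasNormalPComplement_congr Subgroup.topEquiv).1 hZ)
    -- the elementary abelian normal subgroup
    set V₀ := Subgroup.normalClosure (zOf (P : Subgroup G) : Set G)
    have hV₀ : V₀ ≤ U ⊓ Subgroup.centralizer (U : Set G) :=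
      Subgroup.normalClosure_le_normal fun z hz =>
        ⟨hZU hz, fun u hu => hz.2 u (hUP hu)⟩
    have hV₀c : ∀ x ∈ V₀, ∀ y ∈ V₀, x * y = y * x := fun x hx y hy =>
      (hV₀ hy).2 x (hV₀ hx).1
    set V := Cfsg.omegaOne p V₀ with hVdef
    have hVea : Cfsg.IsElementaryAbelian p V := Offenders.omegaOne_ea hV₀c
    have : V.Normal := by
      refine ⟨fun x hx g => ?_⟩
      have hcv : V₀.map (MulAut.conj g).toMonoidHom = V₀ := by
        ext y
        constructor
        · rintro ⟨z, hz, rfl⟩
          exact Subgroup.normalClosure_normal.conj_mem z hz g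
        · intro hy
          exact ⟨g⁻¹ * y * g, Subgroup.normalClosure_normal.conj_mem' y hy g, by simp [mul_assoc]⟩
      have hm := Offenders.omegaOne_map (p := p) (f := (MulAut.conj g).toMonoidHom)
        (MulAut.conj g).injective V₀
      rw [hcv] at hm
      rw [hVdef, ← hm]
      exact ⟨x, hx, rfl⟩
    have hVU : V ≤ U := (Offenders.omegaOne_le V₀).trans (hV₀.trans inf_le_left)
    have hCV : Subgroup.centralizer (V : Set G) = U := by
      refine le_antisymm ?_ fun u hu v hv => ((hV₀ (Offenders.omegaOne_le V₀ hv)).2 u hu).symm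
      have hnorm : (Subgroup.centralizer (V : Set G)).Normal := inferInstance
      refine HallCore.le_pCore (fun x => ?_)
      by_contra hx
      push Not at hx
      obtain ⟨q, hq, hqd, hqp⟩ : ∃ q, q.Prime ∧ q ∣ orderOf x ∧ q ≠ p := by
        by_contra h
        push Not at h
        have := Nat.eq_prime_pow_of_unique_prime_dvd (orderOf_pos x).ne' (fun hd1 hd2 => h _ hd1 hd2)
        exact hx _ (this ▸ pow_orderOf_eq_one x)
      set y := x ^ (orderOf x / q) with hy
      have hyo : orderOf y = q := orderOf_pow_orderOf_div (orderOf_pos x).ne' hqd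
      have hV₀p : IsPGroup p V₀ := hUp.to_le (hV₀.trans inf_le_left)
      have hcop : (Nat.card (Subgroup.zpowers (y : G))).Coprime (Nat.card V₀) := by
        obtain ⟨k, hk⟩ := IsPGroup.iff_card.1 hV₀p
        rw [hk, Nat.card_zpowers, Subgroup.orderOf_coe, hyo]
        exact Nat.Coprime.pow_right k ((Nat.coprime_primes hq hp.out).2 hqp)
      have : IsMulCommutative V₀ := PGroupsBasic.isMulCommutative_of_forall hV₀c
      have hcent := CoprimeAction.le_centralizer_of_prime_order_fixed
        (A := Subgroup.zpowers (y : G)) (V := V₀)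
        (by rw [Subgroup.normalizer_eq_top]; exact le_top) hcop (by
          intro v hv hvo a ha
          have hvp : orderOf v = p := by
            obtain ⟨k, hk⟩ := hV₀p ⟨v, hv⟩
            have hd := orderOf_dvd_of_pow_eq_one (congrArg Subtype.val hk : v ^ p ^ k = 1)
            exact (Nat.prime_dvd_prime_iff_eq hvo hp.out).1 (hvo.dvd_of_dvd_pow hd)
          have hvV : v ∈ V := Offenders.mem_omegaOne hv (hvp ▸ pow_orderOf_eq_one v)
          obtain ⟨i, rfl⟩ := Subgroup.mem_zpowers_iff.1 ha
          exact ((show Commute (y : G) v from (y.2 v hvV).symm).zpow_left i).eq)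
      have hyP : (y : G) ∈ (P : Subgroup G) := by
        rw [← hCZ]
        intro z hz
        exact hcent (Subgroup.mem_zpowers _) z (Subgroup.subset_normalClosure hz)
      obtain ⟨k, hk⟩ := P.isPGroup' ⟨y, hyP⟩
      have hk' : (y : G) ^ p ^ k = 1 := congrArg Subtype.val hk
      have hd := orderOf_dvd_of_pow_eq_one hk'
      rw [Subgroup.orderOf_coe, hyo] at hd
      exact hqp ((Nat.prime_dvd_prime_iff_eq hq hp.out).1 (hq.dvd_of_dvd_pow hd))
    -- some offender is not inside `U`
    obtain ⟨A, hA, hAU⟩ : ∃ A, Offenders.IsMaxIn p (P : Subgroup G) A ∧ ¬ A ≤ U := by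
      by_contra hall
      push Not at hall
      have hJeq : Cfsg.thompsonSubgroupOf p (P : Subgroup G) = Cfsg.thompsonSubgroupOf p U := by
        obtain ⟨A₀, hA₀⟩ := exists_isMaxIn (p := p) (P : Subgroup G)
        rw [Offenders.thompsonOf_eq, Offenders.thompsonOf_eq]
        congr 1
        ext A
        exact ⟨fun hA => ⟨hall A hA, hA.2.1, fun B hB hBe => hA.2.2 B (hB.trans hUP) hBe⟩,
          fun hA => ⟨hA.1.trans hUP, hA.2.1, fun B hB hBe =>
            (hA₀.2.2 B hB hBe).trans (hA.2.2 A₀ (hall A₀ hA₀) hA₀.2.1)⟩⟩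
      have htop : Subgroup.normalizer (Cfsg.thompsonSubgroupOf p (P : Subgroup G) : Set G) = ⊤ := by
        refine top_le_iff.1 ?_
        rw [hJeq, ← Subgroup.normalizer_eq_top (H := U)]
        exact normalizer_le_normalizer_thompsonOf _
      rw [htop] at hJ
      exact hG ((TransferPResidual.hasNormalPComplement_congr Subgroup.topEquiv).1 hJ)
    obtain ⟨a, haA, haU⟩ := Set.not_subset.1 hAU
    refine centralizer_contradiction hodd U R hRcomm hRp V hVea hVU hCV (P : Subgroup G) A
      P.isPGroup' hUP hA ?_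
    by_contra hno
    push Not at hno
    apply haU
    set D := (P' : Subgroup (G ⧸ U)) ⊓ Subgroup.centralizer (R : Set (G ⧸ U)) with hDdef
    have hmem : f a ∈ D := ⟨⟨a, hA.1 haA, rfl⟩, fun r hr => (hno a haA r hr).symm⟩
    have : D.Normal := by
      refine Subgroup.normalizer_eq_top_iff.1 (top_le_iff.1 ?_)
      rw [← hRc.sup_eq_top]
      refine sup_le (le_normalizer_of_conj fun r hr d hd => ?_)
        (le_normalizer_of_conj fun x hx d hd => ⟨?_, ?_⟩)
      · rw [hd.2 r hr, mul_inv_cancel_right]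
        exact hd
      · exact (P' : Subgroup (G ⧸ U)).mul_mem ((P' : Subgroup (G ⧸ U)).mul_mem hx hd.1)
          ((P' : Subgroup (G ⧸ U)).inv_mem hx)
      · exact (inferInstance : (Subgroup.centralizer (R : Set (G ⧸ U))).Normal).conj_mem d hd.2 x
    have h := HallCore.le_pCore (p := p) (P'.isPGroup'.to_le (inf_le_left : D ≤ _))
    rw [hcoreQ] at h
    exact (QuotientGroup.eq_one_iff a).1 (Subgroup.mem_bot.1 (h hmem))

/-- Thompson's normal `p`-complement theorem. -/
theorem hasNormalPComplement_of_thompson {G : Type u} [Group G] [Finite G] {p : ℕ}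
    [Fact p.Prime] (hp : p ≠ 2) (P : Sylow p G)
    (hJ : Cfsg.HasNormalPComplement p
      (Subgroup.normalizer (Cfsg.thompsonSubgroupOf p (P : Subgroup G) : Set G)))
    (hZ : Cfsg.HasNormalPComplement p (Subgroup.centralizer (zOf (P : Subgroup G) : Set G))) :
    Cfsg.HasNormalPComplement p G :=
  thompson_aux hp _ G (Nat.lt_succ_self _) P hJ hZ

end Cfsg.Agent.FrobeniusThompson
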