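import Mathlib
import Cfsg.Agent.Lib.FrobeniusThompson
import Cfsg.Agent.Lib.FrobeniusFPF
import Cfsg.Agent.Lib.CoprimeAction
import Cfsg.Agent.S0035

/-!
Finite groups with an abelian maximal subgroup, or with a nilpotent maximal subgroup of odd order.
-/

set_option autoImplicit false

namespace Cfsg.Agent.NilpotentMaximal

open scoped Pointwise commutatorElement

universe u

/-- A finite nilpotent group has a normal `p`-complement. -/
theorem hasNormalPComplement_of_isNilpotent {G : Type u} [Group G] [Finite G] (h : Group.IsNilpotent G)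
    (p : ℕ) [hp : Fact p.Prime] : Cfsg.HasNormalPComplement p G := by
  obtain ⟨P⟩ : Nonempty (Sylow p G) := inferInstance
  have := h
  have hall : ∀ (q : ℕ) [Fact q.Prime] (Q : Sylow q G), (Q : Subgroup G).Normal :=
    fun q hq Q => inferInstance
  set R := Cfsg.pPrimeCore p G
  have hRn : R.Normal := Subgroup.sSup_normal _ (fun N h => h.1)
  have hRc : ¬ p ∣ Nat.card R := by
    have : (Nat.card R).Coprime p :=
      HallCore.sSup_normal_prop (fun N : Subgroup G => (Nat.card N).Coprime p)
        (by simp) (fun A B _ hB hA' hB' => have := hB;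
          (hA'.mul_left hB').coprime_dvd_left (HallCore.card_sup_dvd A B))
    exact hp.out.coprime_iff_not_dvd.mp this.symm
  refine TransferPResidual.hasNormalPComplement_of_normal (N := R) ?_ hRc
  obtain ⟨k, hk⟩ : ∃ k, Nat.card (G ⧸ R) = p ^ k := by
    refine ⟨(Nat.card (G ⧸ R)).primeFactorsList.length,
      Nat.eq_prime_pow_of_unique_prime_dvd Nat.card_pos.ne' fun {q} hq hd => ?_⟩
    by_contra hqp
    have : Fact q.Prime := ⟨hq⟩
    obtain ⟨Q⟩ : Nonempty (Sylow q G) := inferInstance
    have hQR : (Q : Subgroup G) ≤ R := le_sSup (s := {N : Subgroup G | N.Normal ∧ (Nat.card N).Coprime p})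
      ⟨hall q Q, by
        rw [Q.card_eq_multiplicity]
        exact Nat.Coprime.pow_left _ ((Nat.coprime_primes hq hp.out).mpr hqp)⟩
    exact Q.not_dvd_index ((hd.trans (by rw [Subgroup.index_eq_card])).trans (Subgroup.index_dvd_of_le hQR))
  exact IsPGroup.of_card hk

/-- A subgroup between a maximal subgroup and the top, other than the top, is the maximal subgroup. -/
theorem eq_of_le {G : Type u} [Group G] {M K : Subgroup G} (hM : IsCoatom M) (h : M ≤ K) (hK : K ≠ ⊤) :
    K = M := (hM.le_iff.mp h).resolve_left hK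

theorem isSolvable_of_odd_nilpotent_maximal : ∀ (n : ℕ) (G : Type u) [Group G] [Finite G], Nat.card G = n →
    ∀ M : Subgroup G, IsCoatom M → Group.IsNilpotent M → Odd (Nat.card M) → Group.IsSolvable G := by
  intro n
  induction n using Nat.strong_induction_on with
  | _ n ih =>
    intro G _ _ hn M hM hnil hodd
    by_cases hcore : M.normalCore = ⊥
    swap
    · set N := M.normalCore
      have hker : (QuotientGroup.mk' N).ker ≤ M := by
        rw [QuotientGroup.ker_mk']; exact M.normalCore_le
      have hsurj := QuotientGroup.mk'_surjective N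
      have hlt : Nat.card (G ⧸ N) < n := by
        rw [← hn, Subgroup.card_eq_card_quotient_mul_card_subgroup N]
        exact lt_mul_of_one_lt_right Nat.card_pos ((Subgroup.one_lt_card_iff_ne_bot N).mpr hcore)
      have hcomap : (M.map (QuotientGroup.mk' N)).comap (QuotientGroup.mk' N) = M :=
        Subgroup.comap_map_eq_self hker
      have hmax : IsCoatom (M.map (QuotientGroup.mk' N)) := by
        refine ⟨fun h => hM.1 (by rw [← hcomap, h]; exact Subgroup.comap_top _), fun K hK => ?_⟩
        have hlt' : M < K.comap (QuotientGroup.mk' N) :=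
          lt_of_eq_of_lt hcomap.symm ((Subgroup.comap_lt_comap_of_surjective hsurj).mpr hK)
        rw [← Subgroup.map_comap_eq_self_of_surjective hsurj K, hM.2 _ hlt',
          Subgroup.map_top_of_surjective _ hsurj]
      have := hnil
      have hq := ih _ hlt (G ⧸ N) rfl _ hmax
        (Group.nilpotent_of_surjective _ ((QuotientGroup.mk' N).subgroupMap_surjective M))
        (hodd.of_dvd_nat (Subgroup.card_map_dvd M _))
      have hN : Group.IsSolvable N := CoprimeAction.isSolvable_of_le M.normalCore_le
      exact Group.isSolvable_of_ker_le_range N.subtype (QuotientGroup.mk' N) (by simp)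
    -- now `M` is corefree
    have := hnil
    have hMsol : Group.IsSolvable M := inferInstance
    let π : Finset ℕ := (Nat.card M).primeFactors
    have hprime : ∀ p : π, Fact (p : ℕ).Prime := fun p => ⟨Nat.prime_of_mem_primeFactors p.2⟩
    -- each prime of `M` has a normal complement in `G`, and its Sylow subgroup in `M` is a Sylow of `G`
    have key : ∀ p : π, Cfsg.HasNormalPComplement (p : ℕ) G ∧ ¬ (p : ℕ) ∣ M.index := by
      rintro ⟨p, hp⟩
      have : Fact p.Prime := ⟨Nat.prime_of_mem_primeFactors hp⟩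
      have hpM : p ∣ Nat.card M := Nat.dvd_of_mem_primeFactors hp
      have hp2 : p ≠ 2 := fun h => hodd.not_two_dvd_nat (h ▸ hpM)
      obtain ⟨P⟩ : Nonempty (Sylow p M) := inferInstance
      have hPn : (P : Subgroup M).Normal := inferInstance
      set P' := (P : Subgroup M).map M.subtype with hP'
      have hP'ne : P' ≠ ⊥ := by
        rw [hP', Ne, Subgroup.map_eq_bot_iff_of_injective _ M.subtype_injective]
        exact P.ne_bot_of_dvd_card hpM
      have hMP : M ≤ Subgroup.normalizer (P' : Set G) := by
        intro m hm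
        rw [Subgroup.mem_normalizer_iff]
        intro x
        constructor
        · rintro ⟨y, hy, rfl⟩
          exact ⟨⟨m, hm⟩ * y * ⟨m, hm⟩⁻¹, hPn.conj_mem y hy _, rfl⟩
        · rintro ⟨y, hy, hyx⟩
          refine ⟨⟨m, hm⟩⁻¹ * y * ⟨m, hm⟩, hPn.conj_mem' y hy _, ?_⟩
          simp only [map_mul, map_inv, hyx]
          simp [mul_assoc]
      have hnotnormal : ∀ X : Subgroup G, X ≤ M → X ≠ ⊥ → Subgroup.normalizer (X : Set G) ≠ ⊤ := by
        intro X hXM hX h
        have : X.Normal := Subgroup.normalizer_eq_top_iff.mp h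
        exact hX (le_bot_iff.mp (hcore ▸ Subgroup.normal_le_normalCore.mpr hXM))
      have hP'M : P' ≤ M := Subgroup.map_subtype_le _
      have hN : Subgroup.normalizer (P' : Set G) = M := eq_of_le hM hMP (hnotnormal P' hP'M hP'ne)
      -- `P'` is a Sylow subgroup of `G`
      obtain ⟨Q, hQ⟩ := (P.isPGroup'.map M.subtype).exists_le_sylow
      have hQP : P' = (Q : Subgroup G) := by
        by_contra hne
        have hlt : P' < (Q : Subgroup G) := lt_of_le_of_ne hQ hne
        have hnilQ := Q.isPGroup'.isNilpotent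
        have h1 := Group.normalizerCondition_of_isNilpotent (G := Q) (P'.subgroupOf Q)
          (lt_top_iff_ne_top.mpr fun h => hne (le_antisymm hQ (Subgroup.subgroupOf_eq_top.mp h)))
        obtain ⟨x, hx, hxP⟩ := SetLike.exists_of_lt h1
        apply hxP
        have hxN : (x : G) ∈ M := by
          rw [← hN, Subgroup.mem_normalizer_iff]
          intro y
          constructor
          · intro hy
            have hyQ : y ∈ (Q : Subgroup G) := hQ hy
            exact ((Subgroup.mem_normalizer_iff.mp hx) ⟨y, hyQ⟩).mp hy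
          · intro hy
            have hyQ : y ∈ (Q : Subgroup G) := by
              have := (Q : Subgroup G).mul_mem ((Q : Subgroup G).mul_mem ((Q : Subgroup G).inv_mem x.2) (hQ hy)) x.2
              simpa [mul_assoc] using this
            exact ((Subgroup.mem_normalizer_iff.mp hx) ⟨y, hyQ⟩).mpr hy
        have hsup : IsPGroup p ((Q : Subgroup G).subgroupOf M) := Q.isPGroup'.comap_subtype
        have heq := P.is_maximal' hsup (fun y hy => hQ ⟨y, hy, rfl⟩)
        rw [Subgroup.mem_subgroupOf]
        exact ⟨⟨x, hxN⟩, heq ▸ (x.2 : (⟨x, hxN⟩ : M) ∈ (Q : Subgroup G).subgroupOf M), rfl⟩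
      have hidx : ¬ p ∣ M.index := fun hd => by
        have := Q.not_dvd_index
        rw [← hQP] at this
        exact this (hd.trans (Subgroup.index_dvd_of_le hP'M))
      refine ⟨?_, hidx⟩
      have hNQ : Subgroup.normalizer ((Q : Subgroup G) : Set G) = M := hQP ▸ hN
      have hQM : (Q : Subgroup G) ≤ M := hQP ▸ hP'M
      have hQne : (Q : Subgroup G) ≠ ⊥ := hQP ▸ hP'ne
      refine FrobeniusThompson.hasNormalPComplement_of_thompson hp2 Q ?_ ?_
      · have hJ : Subgroup.normalizer (Cfsg.thompsonSubgroupOf p (Q : Subgroup G) : Set G) = M := by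
          refine eq_of_le hM (hNQ ▸ FrobeniusThompson.normalizer_le_normalizer_thompsonOf _) ?_
          refine hnotnormal _ (le_trans ?_ hQM) (FrobeniusThompson.thompsonOf_ne_bot Q.isPGroup' hQne)
          exact Subgroup.map_subtype_le _
        rw [hJ]
        exact hasNormalPComplement_of_isNilpotent hnil p
      · set Z := FrobeniusThompson.zOf (Q : Subgroup G)
        have hZ : Subgroup.normalizer (Z : Set G) = M := by
          refine eq_of_le hM (hNQ ▸ FrobeniusThompson.normalizer_le_normalizer_zOf _) ?_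
          exact hnotnormal _ (inf_le_left.trans hQM) (FrobeniusThompson.zOf_ne_bot Q.isPGroup' hQne)
        refine TransferPResidual.hasNormalPComplement_mono ?_ (hasNormalPComplement_of_isNilpotent hnil p)
        exact hZ ▸ Subgroup.centralizer_le_normalizer _
    -- the intersection of the complements
    let f : G →* ∀ p : π, G ⧸ Cfsg.pResidual (p : ℕ) G := MonoidHom.pi fun p => QuotientGroup.mk' _
    have hGf : Group.IsSolvable f.range := by
      have : ∀ p : π, Group.IsNilpotent (G ⧸ Cfsg.pResidual (p : ℕ) G) := fun p =>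
        have := hprime p
        TransferPResidual.isPGroup_quotient_pResidual.isNilpotent
      infer_instance
    have hmemN : ∀ x, x ∈ f.ker → ∀ p : π, x ∈ Cfsg.pResidual (p : ℕ) G := fun x hx p =>
      (QuotientGroup.eq_one_iff x).mp (congrFun (MonoidHom.mem_ker.mp hx) p)
    suffices hker : Group.IsSolvable f.ker by
      exact Group.isSolvable_of_ker_le_range f.ker.subtype f.rangeRestrict (by simp)
    set N := f.ker
    have hcop : (Nat.card M).Coprime (Nat.card N) := by
      refine Nat.coprime_of_dvd fun q hq hqM hqN => ?_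
      have hq' : q ∈ π := Nat.mem_primeFactors.mpr ⟨hq, hqM, Nat.card_pos.ne'⟩
      have : Fact q.Prime := ⟨hq⟩
      exact (TransferPResidual.hasNormalPComplement_iff_not_dvd.mp (key ⟨q, hq'⟩).1)
        (hqN.trans (Subgroup.card_dvd_of_le fun x hx => hmemN x hx ⟨q, hq'⟩))
    by_cases hN : N = ⊥
    · rw [hN]; infer_instance
    obtain ⟨q, hq, hqN⟩ := Nat.exists_prime_and_dvd
      (by rw [ne_eq, Subgroup.card_eq_one]; exact hN : Nat.card N ≠ 1)
    have : Fact q.Prime := ⟨hq⟩
    have hNn : N.Normal := inferInstance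
    obtain ⟨S, hS⟩ := CoprimeAction.exists_invariant_sylow (A := M) (K := N)
      (fun _ _ => by rw [Subgroup.normalizer_eq_top_iff.mpr hNn]; trivial) hcop (Or.inl hMsol) q
    set S' := (S : Subgroup N).map N.subtype
    have hSn : (S : Subgroup N) = ⊤ := by
      have hMS : M ≤ Subgroup.normalizer (S' : Set G) := hS
      have hS'ne : S' ≠ ⊥ := by
        rw [Ne, Subgroup.map_eq_bot_iff_of_injective _ N.subtype_injective]
        exact S.ne_bot_of_dvd_card hqN
      have htop : M ⊔ S' = ⊤ := by
        refine hM.2 _ (left_lt_sup.mpr fun h => hS'ne ?_)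
        have hS'c : Nat.card S' = 1 :=
          Nat.Coprime.eq_one_of_dvd (hcop.symm.coprime_dvd_left (Subgroup.card_dvd_of_le (Subgroup.map_subtype_le _)))
            (Subgroup.card_dvd_of_le h)
        exact Subgroup.card_eq_one.mp hS'c
      rw [Subgroup.eq_top_iff']
      intro x
      have hx : (x : G) ∈ (↑(S' ⊔ M) : Set G) := by rw [sup_comm, htop]; trivial
      rw [Subgroup.coe_mul_of_right_le_normalizer_left _ _ hMS] at hx
      obtain ⟨s, hs, m, hm, hsm⟩ := Set.mem_mul.mp hx
      have hm1 : m = 1 := by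
        have hmN : m ∈ N := by
          have : m = s⁻¹ * x := by rw [← hsm]; group
          rw [this]
          exact N.mul_mem (N.inv_mem (Subgroup.map_subtype_le _ hs)) x.2
        exact Subgroup.disjoint_def.mp (disjoint_iff.mpr (Subgroup.inf_eq_bot_of_coprime hcop)) hm hmN
      obtain ⟨s', hs', hs''⟩ := hs
      have : s' = x := Subtype.ext (by rw [← hsm, hm1, mul_one]; exact hs'')
      exact this ▸ hs'
    have : IsPGroup q (⊤ : Subgroup N) := hSn ▸ S.isPGroup'
    have := (this.of_equiv Subgroup.topEquiv).isNilpotent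
    infer_instance

theorem isSolvable_of_odd_nilpotent {G : Type u} [Group G] [Finite G] {M : Subgroup G} (hM : IsCoatom M)
    (hnil : Group.IsNilpotent M) (hodd : Odd (Nat.card M)) : Group.IsSolvable G :=
  isSolvable_of_odd_nilpotent_maximal _ G rfl M hM hnil hodd

/-- An abelian maximal subgroup forces derived length at most three. -/
theorem derivedSeries_three_eq_bot {G : Type u} [Group G] [Finite G] (A : Subgroup G) (hA : IsCoatom A)
    (hc : IsMulCommutative A) : derivedSeries G 3 = ⊥ := by
  classical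
  have hcomm : ∀ x ∈ A, ∀ y ∈ A, x * y = y * x := fun x hx y hy =>
    congrArg Subtype.val (hc.is_comm.comm (⟨x, hx⟩ : A) ⟨y, hy⟩)
  have hmono : ∀ X : Subgroup G, derivedSeries G 1 ≤ X → IsMulCommutative X → derivedSeries G 3 = ⊥ := by
    intro X hX hXc
    have h2 : derivedSeries G 2 = ⊥ := by
      rw [derivedSeries_succ, eq_bot_iff]
      refine (Subgroup.commutator_mono hX hX).trans ?_
      rw [Subgroup.commutator_le]
      intro a ha b hb
      rw [Subgroup.mem_bot, commutatorElement_eq_one_iff_mul_comm]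
      exact congrArg Subtype.val (hXc.is_comm.comm (⟨a, ha⟩ : X) ⟨b, hb⟩)
    rw [derivedSeries_succ, h2, Subgroup.commutator_bot_left]
  by_cases hAn : A.Normal
  · refine hmono A ?_ hc
    rw [derivedSeries_one]
    have hcyc : IsCyclic (G ⧸ A) := by
      by_cases hs : Subsingleton (G ⧸ A)
      · infer_instance
      rw [not_subsingleton_iff_nontrivial] at hs
      obtain ⟨g, hg⟩ := exists_ne (1 : G ⧸ A)
      refine ⟨g, fun y => ?_⟩
      have h1 : (Subgroup.zpowers g).comap (QuotientGroup.mk' A) = ⊤ := by
        refine hA.2 _ (lt_of_le_of_ne (QuotientGroup.le_comap_mk' A _) fun h => hg ?_)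
        obtain ⟨x, rfl⟩ := QuotientGroup.mk'_surjective A g
        have hxA : x ∈ A := by rw [h]; exact Subgroup.mem_zpowers _
        exact (QuotientGroup.eq_one_iff x).mpr hxA
      obtain ⟨y, rfl⟩ := QuotientGroup.mk'_surjective A y
      exact (h1 ▸ Subgroup.mem_top y : y ∈ (Subgroup.zpowers g).comap (QuotientGroup.mk' A))
    refine Subgroup.commutator_le.mpr fun a _ b _ => ?_
    rw [← QuotientGroup.eq_one_iff]
    have h : (a : G ⧸ A) * b = b * a := (IsCyclic.isMulCommutative (α := G ⧸ A)).is_comm.comm _ _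
    have he : ((⁅a, b⁆ : G) : G ⧸ A) = ⁅(a : G ⧸ A), (b : G ⧸ A)⁆ := rfl
    rw [he]
    exact commutatorElement_eq_one_iff_mul_comm.mpr h
  -- `A` is self-normalizing, so its conjugates meet exactly in the centre
  have hK : ∀ g : G, g ∉ A → ∀ x ∈ A, g⁻¹ * x * g ∈ A → x ∈ Subgroup.center G := by
    intro g hg x hx hxg
    have h1 : A ≤ Subgroup.centralizer {x} := fun a ha => by
      rw [Subgroup.mem_centralizer_iff]
      rintro _ rfl
      exact hcomm _ hx a ha
    rcases hA.le_iff.mp h1 with h | h
    · exact Subgroup.centralizer_eq_top_iff_subset.mp h rfl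
    · exfalso
      have h2 : MulAut.conj g • A ≤ A := by
        intro a ha
        rw [FrobeniusBasic.mem_conj_smul_iff] at ha
        rw [← h, Subgroup.mem_centralizer_iff]
        simp only [Set.mem_singleton_iff, forall_eq]
        have := hcomm _ hxg _ ha
        have e : x * a = g * ((g⁻¹ * x * g) * (g⁻¹ * a * g)) * g⁻¹ := by group
        rw [e, this]; group
      apply hg
      have hN : Subgroup.normalizer (A : Set G) = A :=
        eq_of_le hA Subgroup.le_normalizer fun h => hAn (Subgroup.normalizer_eq_top_iff.mp h)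
      have hgN : g ∈ Subgroup.normalizer (A : Set G) :=
        CoprimeAction.mem_normalizer_of_conj_smul_eq (Subgroup.eq_of_le_of_card_ge h2
          (le_of_eq (Nat.card_congr (Subgroup.equivSMul (MulAut.conj g) A).toEquiv)))
      rwa [hN] at hgN
  have hZA : Subgroup.center G ≤ A := by
    by_contra h
    apply hAn
    have htop : A ⊔ Subgroup.center G = ⊤ := hA.2 _ (left_lt_sup.mpr h)
    rw [← Subgroup.normalizer_eq_top_iff, eq_top_iff, ← htop, sup_le_iff]
    exact ⟨Subgroup.le_normalizer, Subgroup.center_le_normalizer _⟩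
  set f := QuotientGroup.mk' (Subgroup.center G) with hf
  have hsurj : Function.Surjective f := QuotientGroup.mk'_surjective _
  set Ab := A.map f with hAb
  have hcomap : Ab.comap f = A := Subgroup.comap_map_eq_self (by rw [hf, QuotientGroup.ker_mk']; exact hZA)
  have hAbtop : Ab ≠ ⊤ := fun h => hA.1 (by rw [← hcomap, h]; exact Subgroup.comap_top _)
  have hFrob : Cfsg.IsFrobeniusComplement Ab := by
    refine FrobeniusBasic.isFrobeniusComplement_of_ti ?_ hAbtop ?_
    · intro h
      apply hAn
      have : A = Subgroup.center G := by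
        rw [← hcomap, h, MonoidHom.comap_bot, hf, QuotientGroup.ker_mk']
      rw [this]; infer_instance
    · rintro gb xb ⟨x, hx, rfl⟩ hx1 hc
      obtain ⟨g, rfl⟩ := hsurj gb
      refine Subgroup.mem_map_of_mem f (by_contra fun hg => hx1 ?_)
      have hxg : g⁻¹ * x * g ∈ A := by
        rw [← hcomap, Subgroup.mem_comap]
        simpa using hc
      exact (QuotientGroup.eq_one_iff x).mpr (hK g hg x hx hxg)
  obtain ⟨K, -, hKn, hKc⟩ := S0035.result Ab hFrob
  have := hKn
  have hKne : K ≠ ⊥ := by
    intro h
    subst h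
    exact hAbtop (Subgroup.isComplement'_bot_left.mp hKc)
  obtain ⟨V, hVK, hV, hVc, hHV⟩ := FrobeniusFPF.exists_abelian_invariant hKc hKne
    (FrobeniusBasic.fpf_of_complement hFrob hKc.disjoint)
  -- the abelian invariant subgroup is the whole kernel
  have hVK' : V = K := by
    refine le_antisymm hVK fun k hk => ?_
    have htop : (V ⊔ Ab).comap f = ⊤ := by
      refine hA.2 _ (lt_of_le_of_ne (hcomap ▸ Subgroup.comap_mono le_sup_right) fun h => hV ?_)
      have hVA : V ≤ Ab := by
        intro v hv
        obtain ⟨x, rfl⟩ := hsurj v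
        exact Subgroup.mem_map_of_mem f (h ▸ Subgroup.mem_sup_left hv : x ∈ A)
      rw [eq_bot_iff]
      exact fun v hv => Subgroup.disjoint_def.mp hKc.disjoint (hVK hv) (hVA hv)
    have hk2 : k ∈ (↑(V ⊔ Ab) : Set (G ⧸ Subgroup.center G)) := by
      obtain ⟨x, rfl⟩ := hsurj k
      exact (htop ▸ Subgroup.mem_top x : x ∈ (V ⊔ Ab).comap f)
    rw [Subgroup.coe_mul_of_right_le_normalizer_left _ _ hHV] at hk2
    obtain ⟨v, hv, a, ha, hva⟩ := Set.mem_mul.mp hk2
    have : a = 1 := by
      refine Subgroup.disjoint_def.mp hKc.disjoint ?_ ha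
      have : a = v⁻¹ * k := by rw [← hva]; group
      rw [this]
      exact K.mul_mem (K.inv_mem (hVK hv)) hk
    rw [← hva, this, mul_one]
    exact hv
  subst hVK'
  have h1 : derivedSeries (G ⧸ Subgroup.center G) 1 ≤ V := by
    rw [derivedSeries_one]
    refine Subgroup.commutator_le.mpr fun a _ b _ => ?_
    obtain ⟨⟨⟨v, hv⟩, ⟨x, hx⟩⟩, rfl⟩ := hKc.2 a
    obtain ⟨⟨⟨w, hw⟩, ⟨y, hy⟩⟩, rfl⟩ := hKc.2 b
    rw [← QuotientGroup.eq_one_iff]
    have he : ∀ c d : G ⧸ Subgroup.center G, (((⁅c, d⁆ : G ⧸ Subgroup.center G)) : (G ⧸ Subgroup.center G) ⧸ V) =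
        ⁅((c : G ⧸ Subgroup.center G) : (G ⧸ Subgroup.center G) ⧸ V), (d : (G ⧸ Subgroup.center G) ⧸ V)⁆ :=
      fun c d => rfl
    rw [he, QuotientGroup.mk_mul, QuotientGroup.mk_mul, (QuotientGroup.eq_one_iff v).mpr hv,
      (QuotientGroup.eq_one_iff w).mpr hw, one_mul, one_mul, ← he]
    have hxy : x * y = y * x := by
      obtain ⟨a, ha, rfl⟩ := hx
      obtain ⟨b, hb, rfl⟩ := hy
      rw [← map_mul, ← map_mul, hcomm a ha b hb]
    rw [commutatorElement_eq_one_iff_mul_comm.mpr hxy]
    rfl
  have h2 : derivedSeries (G ⧸ Subgroup.center G) 2 = ⊥ := by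
    rw [derivedSeries_succ, eq_bot_iff]
    refine (Subgroup.commutator_mono h1 h1).trans (Subgroup.commutator_le.mpr fun a ha b hb => ?_)
    rw [Subgroup.mem_bot, commutatorElement_eq_one_iff_mul_comm]
    exact congrArg Subtype.val (hVc.is_comm.comm (⟨a, ha⟩ : V) ⟨b, hb⟩)
  have h3 : derivedSeries G 2 ≤ Subgroup.center G := by
    rw [← QuotientGroup.ker_mk' (Subgroup.center G), ← hf, ← Subgroup.map_eq_bot_iff, eq_bot_iff, ← h2]
    exact map_derivedSeries_le_derivedSeries f 2
  rw [derivedSeries_succ, eq_bot_iff]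
  refine (Subgroup.commutator_mono h3 le_rfl).trans (Subgroup.commutator_le.mpr fun a ha b _ => ?_)
  rw [Subgroup.mem_bot, commutatorElement_eq_one_iff_mul_comm]
  exact (Subgroup.mem_center_iff.mp ha b).symm

theorem isSolvable_of_abelian_maximal {G : Type u} [Group G] [Finite G] {A : Subgroup G} (hA : IsCoatom A)
    (hc : IsMulCommutative A) : Group.IsSolvable G :=
  (Group.isSolvable_def G).mpr ⟨3, derivedSeries_three_eq_bot A hA hc⟩

end Cfsg.Agent.NilpotentMaximal
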