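import Mathlib
import Cfsg.Agent.Lib.ZStarBasic
import Cfsg.Agent.Lib.BrauerInduction
import Cfsg.Agent.Lib.NilpotentMaximal
import Cfsg.Agent.Lib.BlockTheoryIdem

/-!
# Groups with a central solitary involution: splitting sums, and a sign twist of generalized
characters vanishing on the sections of elements of order four
-/

set_option autoImplicit false

open scoped ComplexConjugate

namespace Cfsg.Agent.ZStarSign

open Cfsg Cfsg.Agent.ZStarBasic Cfsg.Agent.CharBasic Cfsg.Agent.CharBasicOrth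
  Cfsg.Agent.CharBasicDecomp Cfsg.Agent.BlockTheoryCentre

attribute [local instance] Classical.propDecidable

universe u

variable {C : Type u} [Group C] {z : C}

theorem orderOf_mul_of_odd (hz : orderOf z = 2) (hc : z ∈ Subgroup.center C) {e : C}
    (he : ¬ 2 ∣ orderOf e) : orderOf (z * e) = 2 * orderOf e := by
  rw [Commute.orderOf_mul_eq_mul_orderOf_of_coprime (Subgroup.mem_center_iff.1 hc e).symm, hz]
  rw [hz]
  exact (Nat.coprime_two_left.2 (by rwa [Nat.odd_iff, ← Nat.two_dvd_ne_zero]))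

theorem odd_mul_of_even (hz : Solitary z) (hc : z ∈ Subgroup.center C) [Finite C] {e : C}
    (h2 : 2 ∣ orderOf e) (h4 : ¬ 4 ∣ orderOf e) : ¬ 2 ∣ orderOf (z * e) := by
  obtain ⟨m, hm⟩ := h2
  have hmodd : ¬ 2 ∣ m := fun ⟨k, hk⟩ => h4 ⟨k, by omega⟩
  have hm0 : 0 < m := by have := orderOf_pos e; omega
  have ht : orderOf (e ^ m) = 2 := by
    rw [orderOf_pow' e hm0.ne', hm, Nat.gcd_eq_right (dvd_mul_left m 2),
      Nat.mul_div_cancel _ hm0]
  have hem : e ^ m = z := hz.2 _ ht (Subgroup.mem_center_iff.1 hc _)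
  intro h
  have h1 : (z * e) ^ m = 1 := by
    rw [Commute.mul_pow (Subgroup.mem_center_iff.1 hc e).symm, hem]
    obtain ⟨k, hk⟩ : Odd m := Nat.not_even_iff_odd.1 fun he => hmodd he.two_dvd
    rw [hk, pow_succ, pow_mul, show z ^ 2 = 1 by rw [← hz.1, pow_orderOf_eq_one], one_pow, one_mul,
      IsolatedInv.sq_of_orderOf_two hz.1]
  exact hmodd (h.trans (orderOf_dvd_of_pow_eq_one h1))

/-- A sum supported away from the sections of elements of order four. -/
theorem sum_split [Fintype C] (hz : Solitary z) (hc : z ∈ Subgroup.center C) (f : C → ℂ)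
    (hf : ∀ e, 4 ∣ orderOf e → f e = 0) :
    ∑ e : C, f e = ∑ e : C, (if 2 ∣ orderOf e then 0 else f e + f (z * e)) := by
  have h1 : ∑ e : C, (if 2 ∣ orderOf e then f e else 0) =
      ∑ e : C, (if 2 ∣ orderOf e then 0 else f (z * e)) := by
    refine Fintype.sum_equiv (Equiv.mulLeft z) _ _ fun e => ?_
    simp only [Equiv.coe_mulLeft, ← mul_assoc, IsolatedInv.sq_of_orderOf_two hz.1, one_mul]
    by_cases h2 : 2 ∣ orderOf e
    · rw [if_pos h2]
      by_cases h4 : 4 ∣ orderOf e
      · rw [hf e h4, ite_self]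
      · rw [if_neg (odd_mul_of_even hz hc h2 h4)]
    · rw [if_neg h2, if_pos]
      rw [orderOf_mul_of_odd hz.1 hc h2]
      exact dvd_mul_right 2 _
  calc ∑ e : C, f e = ∑ e : C, ((if 2 ∣ orderOf e then f e else 0) +
        (if 2 ∣ orderOf e then 0 else f e)) := Finset.sum_congr rfl fun e _ => by split_ifs <;> simp
    _ = _ := by
      rw [Finset.sum_add_distrib, h1, ← Finset.sum_add_distrib]
      exact Finset.sum_congr rfl fun e _ => by split_ifs <;> ring

/-- A central involution acts on an irreducible character by a sign. -/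
theorem exists_sign [Finite C] (hz : orderOf z = 2) (hc : z ∈ Subgroup.center C)
    (ψ : IrrCharacter C) :
    ∃ ε : ℂ, (ε = 1 ∨ ε = -1) ∧ ∀ g : C, (ψ : C → ℂ) (z * g) = ε * (ψ : C → ℂ) g := by
  obtain ⟨n, ρ, hρi, hρ⟩ := ψ.2
  obtain ⟨ω, hω⟩ := exists_scalar_of_mem_center ρ hc
  have hmul : ∀ g : C, (ψ : C → ℂ) (z * g) = ω * (ψ : C → ℂ) g := fun g => by
    rw [← hρ]
    show LinearMap.trace ℂ _ (ρ (z * g)) = ω * LinearMap.trace ℂ _ (ρ g)
    rw [map_mul, hω, show ω • (LinearMap.id : (Fin n → ℂ) →ₗ[ℂ] (Fin n → ℂ)) * ρ g = ω • ρ g from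
      LinearMap.ext fun v => rfl, map_smul, smul_eq_mul]
  refine ⟨ω, ?_, hmul⟩
  have h1 : (ψ : C → ℂ) 1 = ω * (ω * (ψ : C → ℂ) 1) := by
    rw [← hmul, ← hmul, ← mul_assoc, IsolatedInv.sq_of_orderOf_two hz, one_mul]
  have h2 : (ω * ω - 1) * (ψ : C → ℂ) 1 = 0 := by linear_combination -h1
  have h3 := (mul_eq_zero.1 h2).resolve_right (isIrrCharacter_apply_one_ne_zero ψ.2)
  rcases mul_eq_zero.1 (show (ω - 1) * (ω + 1) = 0 by linear_combination h3) with h | h
  · exact Or.inl (sub_eq_zero.1 h)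
  · exact Or.inr (eq_neg_of_add_eq_zero_left h)

/-- In a nilpotent group, the projection to the odd part. -/
theorem exists_oddProj [Finite C] (hnil : Group.IsNilpotent C) :
    ∃ π : C →* C, (∀ e, ¬ 2 ∣ orderOf e → π e = e) ∧ ∀ e, orderOf e = 2 → π e = 1 := by
  have : Fact (Nat.Prime 2) := ⟨Nat.prime_two⟩
  obtain ⟨P, N, hN, hc⟩ := NilpotentMaximal.hasNormalPComplement_of_isNilpotent hnil 2
  have := hnil
  have hP : (P : Subgroup C).Normal := inferInstance
  refine ⟨N.subtype.comp ((hc.QuotientMulEquiv).toMonoidHom.comp (QuotientGroup.mk' (P : Subgroup C))),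
    fun e he => ?_, fun e he => ?_⟩
  · have heN : e ∈ N := by
      have h1 : orderOf (QuotientGroup.mk' N e) ∣ Nat.card (P : Subgroup C) := by
        refine dvd_trans (orderOf_dvd_natCard _) (dvd_of_eq ?_)
        rw [← Subgroup.index_eq_card, hc.symm.index_eq_card]
      obtain ⟨k, hk⟩ := IsPGroup.iff_card.1 P.isPGroup'
      rw [hk] at h1
      have h3 : orderOf (QuotientGroup.mk' N e) = 1 := by
        refine Nat.eq_one_of_dvd_coprimes ?_ (orderOf_map_dvd (QuotientGroup.mk' N) e) h1
        exact Nat.Coprime.pow_right k (Nat.coprime_two_right.2 (by rwa [Nat.odd_iff, ← Nat.two_dvd_ne_zero]))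
      rw [orderOf_eq_one_iff, QuotientGroup.mk'_apply, QuotientGroup.eq_one_iff] at h3
      exact h3
    show ((hc.QuotientMulEquiv (QuotientGroup.mk' (P : Subgroup C) e) : N) : C) = e
    have : hc.QuotientMulEquiv.symm ⟨e, heN⟩ = QuotientGroup.mk' (P : Subgroup C) e := rfl
    rw [← this, MulEquiv.apply_symm_apply]
  · show ((hc.QuotientMulEquiv (QuotientGroup.mk' (P : Subgroup C) e) : N) : C) = 1
    obtain ⟨T, hT⟩ := (IsPGroup.of_card (n := 1) (by rw [Nat.card_zpowers, he, pow_one]) :
      IsPGroup 2 (Subgroup.zpowers e)).exists_le_sylow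
    have : T = P := by
      have := Sylow.unique_of_normal P hP
      exact Subsingleton.elim _ _
    rw [show QuotientGroup.mk' (P : Subgroup C) e = 1 from (QuotientGroup.eq_one_iff e).2
      (this ▸ hT (Subgroup.mem_zpowers e)), map_one]
    rfl

/-- The sign twist: twice a generalized character on the section of `z`, zero elsewhere. -/
noncomputable def twist (h : C → ℂ) : C → ℂ := fun e => if 2 ∣ orderOf e then 2 * h e else 0

theorem isGeneralizedCharacter_twist [Fintype C] (hz : Solitary z) (hc : z ∈ Subgroup.center C)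
    {h : C → ℂ} (hh : IsGeneralizedCharacter C h) (h4 : ∀ e, 4 ∣ orderOf e → h e = 0)
    (hzh : ∀ e, h (z * e) = h e) : IsGeneralizedCharacter C (twist h) := by
  have hhc := isClassFunction_of_isGeneralizedCharacter hh
  refine BrauerInduction.isGeneralizedCharacter_of_elementary ?_ fun E p hp hE => ?_
  · intro g x
    simp only [twist, ZStarBasic.orderOf_conj_eq, hhc g x]
  by_cases hev : 2 ∣ Nat.card E
  swap
  · convert isGeneralizedCharacter_zero (G := E) using 1
    funext e
    simp only [twist, Pi.zero_apply]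
    rw [if_neg]
    intro h2
    exact hev ((h2.trans (dvd_of_eq (Subgroup.orderOf_coe e))).trans (orderOf_dvd_natCard e))
  have : Fact (Nat.Prime 2) := ⟨Nat.prime_two⟩
  obtain ⟨t, ht⟩ := exists_prime_orderOf_dvd_card' 2 hev
  have htz : (t : C) = z := hz.2 _ ((Subgroup.orderOf_coe t).trans ht)
    (Subgroup.mem_center_iff.1 hc _)
  have hzE : z ∈ E := htz ▸ t.2
  let zE : E := ⟨z, hzE⟩
  have hzs : Solitary zE := hz.subgroup E hzE
  have hzc : zE ∈ Subgroup.center E :=
    Subgroup.mem_center_iff.2 fun g => Subtype.ext (Subgroup.mem_center_iff.1 hc g)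
  obtain ⟨π, hπ1, hπ2⟩ := exists_oddProj (BrauerInduction.isNilpotent_of_isElementary hp hE)
  have hπz : π zE = 1 := hπ2 _ hzs.1
  let hE' : E → ℂ := fun e => h e
  have hhE : IsGeneralizedCharacter E hE' := isGeneralizedCharacter_comap E.subtype hh
  have hcoe : ∀ (k : ℕ) (e : E), k ∣ orderOf (e : C) ↔ k ∣ orderOf e := fun k e => by
    rw [Subgroup.orderOf_coe]
  rw [isGeneralizedCharacter_iff]
  refine ⟨fun g x => ?_, fun ψ => ?_⟩
  · show twist h ((x * g * x⁻¹ : E) : C) = twist h (g : C)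
    simp only [twist, Subgroup.coe_mul, Subgroup.coe_inv, ZStarBasic.orderOf_conj_eq, hhc (g : C) (x : C)]
  · obtain ⟨ε, hε, hψz⟩ := exists_sign hzs.1 hzc ψ
    obtain ⟨r, hr⟩ := classInner_isGeneralizedCharacter hhE
      (isGeneralizedCharacter_of_isCharacter
        (isCharacter_comap π (isCharacter_of_isIrrCharacter ψ.2)))
    have hεR : conj ε = ε := by rcases hε with h | h <;> simp [h]
    have h1 : classInner (fun e : E => twist h e) (ψ : E → ℂ) =
        ε * classInner hE' (fun e => (ψ : E → ℂ) (π e)) := by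
      rw [classInner, classInner, ← mul_assoc, mul_comm ε, mul_assoc]
      congr 1
      rw [sum_split hzs hzc _ (fun e he => by rw [twist, h4 _ ((hcoe 4 e).2 he)]; simp),
        sum_split hzs hzc (fun e : E => hE' e * conj ((ψ : E → ℂ) (π e)))
          (fun e he => by simp [hE', h4 _ ((hcoe 4 e).2 he)]), Finset.mul_sum]
      refine Finset.sum_congr rfl fun e _ => ?_
      by_cases he : 2 ∣ orderOf e
      · simp [he]
      · rw [if_neg he, if_neg he]
        have hze : 2 ∣ orderOf ((zE * e : E) : C) := by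
          rw [hcoe, orderOf_mul_of_odd hzs.1 hzc he]; exact dvd_mul_right 2 _
        have heC : ¬ 2 ∣ orderOf (e : C) := fun h => he ((hcoe 2 e).1 h)
        simp only [twist, if_neg heC, if_pos hze, zero_mul, zero_add, hE']
        rw [Subgroup.coe_mul, show ((zE : E) : C) = z from rfl, hzh, hψz, map_mul, hεR,
          map_mul, hπz, one_mul, hπ1 e he]
        ring
    rw [h1]
    rcases hε with rfl | rfl
    · exact ⟨r, by rw [one_mul]; exact hr⟩
    · refine ⟨-r, ?_⟩
      rw [Int.cast_neg, neg_one_mul]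
      exact congrArg Neg.neg hr

end Cfsg.Agent.ZStarSign
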