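import Mathlib
import Cfsg.Agent.Lib.ZStarFused
import Cfsg.Agent.Lib.ZStarSign
import Cfsg.Agent.Lib.BrauerBlocksOrth
import Cfsg.Agent.Lib.ClassAlgebraMod

/-!
# The principal block of a group with a central involution and quaternion Sylow subgroup of order 8
-/

set_option autoImplicit false

open scoped ComplexConjugate

namespace Cfsg.Agent.ZStarQ8Local

open Cfsg Cfsg.Agent.ZStarLocal Cfsg.Agent.ZStarBasic Cfsg.Agent.ZStarSign
  Cfsg.Agent.CharBasicOrth Cfsg.Agent.CharBasicDecomp Cfsg.Agent.BlockTheoryCentre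
  Cfsg.Agent.BlockPrincipal81 Cfsg.Agent.BlockTheoryIdem

attribute [local instance] Classical.propDecidable

universe u

variable {C : Type u} [Group C] [Fintype C]

/-- The sum over the elements of odd order. -/
noncomputable def oddSum (f : C → ℂ) : ℂ := ∑ g : C, if 2 ∣ orderOf g then 0 else f g

theorem oddSum_congr {f g : C → ℂ} (h : ∀ x, ¬ 2 ∣ orderOf x → f x = g x) : oddSum f = oddSum g :=
  Finset.sum_congr rfl fun x _ => by split_ifs with hx <;> [rfl; exact h x hx]

theorem oddSum_mul_sum {ι : Type*} (s : Finset ι) (c : ι → ℂ) (f : ι → C → ℂ) :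
    oddSum (fun g => ∑ i ∈ s, c i * f i g) = ∑ i ∈ s, c i * oddSum (f i) := by
  simp only [oddSum, Finset.mul_sum]
  rw [Finset.sum_comm]
  refine Finset.sum_congr rfl fun g _ => ?_
  split_ifs <;> simp

theorem oddSum_eq_filter (f : C → ℂ) :
    oddSum f = ∑ x ∈ Finset.univ.filter (fun x : C => ¬ 2 ∣ orderOf x), f x := by
  rw [oddSum, Finset.sum_filter]
  exact Finset.sum_congr rfl fun x _ => by split_ifs <;> rfl

/-- The exceptional family of the principal block. -/
structure LocalData (M : Ideal AlgInt) (z : C) (φ : Fin 4 → C → ℂ) : Prop where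
  gen : ∀ k, IsGeneralizedCharacter C (φ k)
  inv : ∀ k g, φ k (z * g) = φ k g
  four : ∀ k g, 4 ∣ orderOf g → φ k g = 1
  zero : ∀ g, φ 0 g = 1
  deg : ∀ k, ∃ f : ℤ, Odd f ∧ φ k 1 = f
  sum : ∀ g, ¬ 2 ∣ orderOf g → ∑ k, φ k g = 0
  gram : ∀ j k, (Nat.card C : ℂ)⁻¹ * oddSum (fun g => φ j g * conj (φ k g)) =
    ((if j = k then 1 else 0) - 1 / 4) / 2
  orth : ∀ k, ∀ ψ : IrrCharacter C, ψ ∉ principalBlock M C →
    oddSum (fun g => φ k g * conj ((ψ : C → ℂ) g)) = 0
  span : ∀ f : C → ℂ, IsClassFunction C f →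
    (∀ ψ : IrrCharacter C, ψ ∉ principalBlock M C → oddSum (fun g => f g * conj ((ψ : C → ℂ) g)) = 0) →
    ∀ y, ¬ 2 ∣ orderOf y →
      f y = ∑ k, 2 * ((Nat.card C : ℂ)⁻¹ * oddSum (fun g => f g * conj (φ k g))) * φ k y

theorem not_four_of_not_two {g : C} (h : ¬ 2 ∣ orderOf g) : ¬ 4 ∣ orderOf g :=
  fun h4 => h ((dvd_mul_right 2 2).trans h4)

theorem exists_localData {M : Ideal AlgInt} (hM : IsPModular 2 M) {S : Sylow 2 C} {a b : C}
    (h : Gens (S : Subgroup C) a b 1)
    (hfus : ∀ s ∈ (S : Subgroup C), orderOf s = 4 → IsConj a s)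
    (hc : a ^ 2 ∈ Subgroup.center C) : ∃ φ : Fin 4 → C → ℂ, LocalData M (a ^ 2) φ := by
  have : Fact (Nat.Prime 2) := ⟨Nat.prime_two⟩
  set z := a ^ 2 with hz
  have hsol : Solitary z := by simpa using h.solitary
  obtain ⟨m, hm1, hm2, hmB, hmval, hmF⟩ := ZStarFused.fused_data hM h hfus
  have hinvF : ∀ g, (4 ∣ orderOf (z * g) ↔ 4 ∣ orderOf g) := by
    intro g
    have key : ∀ g, 4 ∣ orderOf g → 4 ∣ orderOf (z * g) := by
      intro g hg
      by_contra hn
      by_cases h2 : 2 ∣ orderOf (z * g)
      · have h3 := odd_mul_of_even hsol hc h2 hn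
        rw [← mul_assoc, IsolatedInv.sq_of_orderOf_two hsol.1, one_mul] at h3
        exact not_four_of_not_two h3 hg
      · have h3 := orderOf_mul_of_odd hsol.1 hc h2
        rw [← mul_assoc, IsolatedInv.sq_of_orderOf_two hsol.1, one_mul] at h3
        rw [h3] at hg
        exact h2 (Nat.dvd_of_mul_dvd_mul_left two_pos hg)
    refine ⟨fun hg => ?_, key g⟩
    have := key _ hg
    rwa [← mul_assoc, IsolatedInv.sq_of_orderOf_two hsol.1, one_mul] at this
  let F : C → ℂ := fun g => ∑ χ : IrrCharacter C, (m χ : ℂ) * (χ : C → ℂ) g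
  have hFinner : ∀ χ : IrrCharacter C, classInner F (χ : C → ℂ) = m χ := by
    intro χ
    have : F = ∑ ψ : IrrCharacter C, (m ψ : ℂ) • (ψ : C → ℂ) := by
      funext g; simp [F, Finset.sum_apply]
    rw [this, classInner_sum_smul_irr]
  -- constituents are trivial on `z`
  have hsignone : ∀ χ : IrrCharacter C, m χ ≠ 0 → ∀ g, (χ : C → ℂ) (z * g) = (χ : C → ℂ) g := by
    intro χ hχ
    obtain ⟨ε, hε, hεχ⟩ := exists_sign hsol.1 hc χ
    rcases hε with rfl | rfl
    · exact fun g => by rw [hεχ, one_mul]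
    · exfalso
      apply hχ
      have h1 : classInner F (χ : C → ℂ) = -classInner F (χ : C → ℂ) := by
        simp only [classInner, ← mul_neg, ← Finset.sum_neg_distrib]
        congr 1
        refine Fintype.sum_equiv (Equiv.mulLeft z) _ _ fun g => ?_
        simp only [Equiv.coe_mulLeft, F, hmF, hinvF, hεχ, map_mul, map_neg, map_one]
        ring
      rw [hFinner] at h1
      have h2 : ((2 * m χ : ℤ) : ℂ) = 0 := by push_cast; linear_combination h1
      have h3 : (2 * m χ : ℤ) = 0 := Int.cast_eq_zero.1 h2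
      omega
  obtain ⟨s, hs, hts, hsign, hzero⟩ := ZStarQ16.exists_support m 3 le_rfl hm1 (by rw [hm2]; norm_num)
  obtain ⟨x, y, w, hxy, hxw, hyw, rfl⟩ := Finset.card_eq_three.1 hs
  have hxt : x ≠ trivIrr C := fun e => hts (by simp [e])
  have hyt : y ≠ trivIrr C := fun e => hts (by simp [e])
  have hwt : w ≠ trivIrr C := fun e => hts (by simp [e])
  let θ : Fin 4 → IrrCharacter C := ![trivIrr C, x, y, w]
  have hθinj : Function.Injective θ := by
    intro i j hij
    fin_cases i <;> fin_cases j <;>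
      simp_all [θ, hxy.symm, hxw.symm, hyw.symm, hxt.symm, hyt.symm, hwt.symm]
  have hθm : ∀ k, m (θ k) = 1 ∨ m (θ k) = -1 := by
    intro k
    fin_cases k
    exacts [Or.inl hm1, hsign x (by simp), hsign y (by simp), hsign w (by simp)]
  have hθne : ∀ k, m (θ k) ≠ 0 := fun k => by rcases hθm k with e | e <;> omega
  have hθB : ∀ k, θ k ∈ principalBlock M C := fun k => hmB _ (hθne k)
  have himage : ∀ χ : IrrCharacter C, m χ ≠ 0 → χ ∈ Finset.univ.image θ := by
    intro χ hχ
    rw [Finset.mem_image]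
    by_cases h1 : χ = trivIrr C
    · exact ⟨0, Finset.mem_univ _, h1.symm⟩
    · by_cases h2 : χ ∈ ({x, y, w} : Finset _)
      · simp only [Finset.mem_insert, Finset.mem_singleton] at h2
        rcases h2 with rfl | rfl | rfl
        exacts [⟨1, Finset.mem_univ _, rfl⟩, ⟨2, Finset.mem_univ _, rfl⟩, ⟨3, Finset.mem_univ _, rfl⟩]
      · exact absurd (hzero χ h2 h1) hχ
  have hsumθ : ∀ g, ∑ k, (m (θ k) : ℂ) * (θ k : C → ℂ) g = if 4 ∣ orderOf g then 4 else 0 := by
    intro g
    rw [← hmF g, ← Finset.sum_subset (Finset.subset_univ (Finset.univ.image θ)) (fun χ _ hχ => by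
      rw [show m χ = 0 from by_contra fun h0 => hχ (himage χ h0), Int.cast_zero, zero_mul]),
      Finset.sum_image (fun i _ j _ e => hθinj e)]
  have hcount : ∑ g : C, (if 4 ∣ orderOf g then (1 : ℂ) else 0) = (Nat.card C : ℂ) / 4 := by
    have h1 : classInner F (trivIrr C : C → ℂ) = 1 := by rw [hFinner, hm1]; norm_num
    simp only [classInner, F, hmF] at h1
    rw [eq_div_iff (by norm_num : (4 : ℂ) ≠ 0), Finset.sum_mul]
    have hne : (Nat.card C : ℂ) ≠ 0 := Nat.cast_ne_zero.2 Nat.card_pos.ne'
    rw [inv_mul_eq_iff_eq_mul₀ hne, mul_one] at h1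
    refine Eq.trans (Finset.sum_congr rfl fun g _ => ?_) h1
    show (if 4 ∣ orderOf g then (1 : ℂ) else 0) * 4 = (if 4 ∣ orderOf g then (4 : ℂ) else 0) * conj 1
    rw [map_one]
    split_ifs <;> simp
  set φ : Fin 4 → C → ℂ := fun k g => (m (θ k) : ℂ) * (θ k : C → ℂ) g with hφ
  have hinv : ∀ k g, φ k (z * g) = φ k g := fun k g => by
    simp only [hφ, hsignone _ (hθne k) g]
  have hfour : ∀ k g, 4 ∣ orderOf g → φ k g = 1 := by
    intro k g hg
    show (m (θ k) : ℂ) * _ = 1
    rw [hmval _ (hθB k) g hg]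
    rcases hθm k with e | e <;> simp [e]
  refine ⟨φ, fun k => ?_, hinv, hfour, fun g => ?_, fun k => ?_, fun g hg => ?_, fun j k => ?_,
    fun k ψ hψ => ?_, fun f hf hfo y hy => ?_⟩
  · exact isGeneralizedCharacter_zsmul
      (isGeneralizedCharacter_of_isCharacter (CharBasic.isCharacter_of_isIrrCharacter (θ k).2)) _
  · show (m (trivIrr C) : ℂ) * ((trivIrr C : IrrCharacter C) : C → ℂ) g = 1
    rw [hm1, Int.cast_one, one_mul]; rfl
  · obtain ⟨d, -, hd⟩ := CharBasic.isIrrCharacter_apply_one (θ k).2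
    refine ⟨m (θ k) * d, ?_, ?_⟩
    · -- congruent to the value at `a`
      have hao : orderOf a = 2 ^ 2 := h.order
      have h1 := ClassAlgebraMod.character_pElement_congr hM (θ k) hao
      rw [hmval _ (hθB k) a (by rw [hao]; norm_num), hd] at h1
      by_contra hev
      rw [Int.not_odd_iff_even] at hev
      obtain ⟨j, hj⟩ : 2 ∣ (d : ℕ) := by
        rcases hθm k with e | e <;> rw [e] at hev <;> (simp [even_iff_two_dvd] at hev; exact_mod_cast hev)
      have h2 : MemLocalIdeal M (m (θ k) : ℂ) := by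
        have := BlockTheoryLocalRing.ideal_add hM h1 ((BlockTheoryLocalRing.natCast_mem_iff hM).2 ⟨j, hj⟩)
        simpa using this
      have h3 : MemLocalIdeal M (1 : ℂ) := by
        rcases hθm k with e | e <;> rw [e] at h2
        · simpa using h2
        · simpa using BlockTheoryLocalRing.ideal_neg h2
      exact BlockTheoryLocalRing.one_not_ideal hM h3
    · show (m (θ k) : ℂ) * (θ k : C → ℂ) 1 = ((m (θ k) * d : ℤ) : ℂ)
      rw [hd]; push_cast; ring
  · rw [hsumθ, if_neg (not_four_of_not_two hg)]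
  · have h1 : ∑ g : C, φ j g * conj (φ k g) = if j = k then (Nat.card C : ℂ) else 0 := by
      have h0 := card_mul_classInner (φ j) (φ k)
      rw [← h0]
      have e1 : φ j = (m (θ j) : ℂ) • (θ j : C → ℂ) := rfl
      have e2 : φ k = (m (θ k) : ℂ) • (θ k : C → ℂ) := rfl
      rw [e1, e2, classInner_smul_left, classInner_smul_right, map_intCast, classInner_irrCharacter]
      by_cases hjk : j = k
      · subst hjk
        rw [if_pos rfl, if_pos rfl]
        rcases hθm j with e | e <;> rw [e] <;> norm_num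
      · rw [if_neg hjk, if_neg (fun e => hjk (hθinj e))]; ring
    have h2 : ∑ g : C, φ j g * conj (φ k g) =
        2 * oddSum (fun g => φ j g * conj (φ k g)) + (Nat.card C : ℂ) / 4 := by
      rw [← hcount]
      have hsplit : ∀ g : C, φ j g * conj (φ k g) =
          (if 4 ∣ orderOf g then 0 else φ j g * conj (φ k g)) + (if 4 ∣ orderOf g then 1 else 0) := by
        intro g
        split_ifs with h4
        · rw [hfour j g h4, hfour k g h4, map_one, mul_one, zero_add]
        · rw [add_zero]
      rw [Finset.sum_congr rfl fun g _ => hsplit g, Finset.sum_add_distrib]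
      congr 1
      rw [sum_split hsol hc _ (fun g hg => if_pos hg), oddSum, Finset.mul_sum]
      refine Finset.sum_congr rfl fun g _ => ?_
      split_ifs with h2' h4 h4' h4''
      · simp
      · exact absurd h4 (not_four_of_not_two h2')
      · exact absurd h4 (not_four_of_not_two h2')
      · exact absurd ((hinvF g).1 h4'') (not_four_of_not_two h2')
      · rw [hinv, hinv]; ring
    have hne : (Nat.card C : ℂ) ≠ 0 := Nat.cast_ne_zero.2 Nat.card_pos.ne'
    rw [h1] at h2
    field_simp
    split_ifs at h2 ⊢ <;> linear_combination -4 * h2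
  · have h0 := BrauerBlocksOrth.regular_inner_eq_zero hM (χ := θ k) (ψ := ψ) fun hs => hψ
      (mem_of_sameBlock hM isPBlock_principal (hθB k) hs)
    rw [← oddSum_eq_filter (fun g => (θ k : C → ℂ) g * conj ((ψ : C → ℂ) g))] at h0
    have := oddSum_mul_sum ({k} : Finset (Fin 4)) (fun _ => (m (θ k) : ℂ))
      (fun k g => (θ k : C → ℂ) g * conj ((ψ : C → ℂ) g))
    simp only [Finset.sum_singleton] at this
    rw [h0, mul_zero] at this
    rw [← this]
    exact oddSum_congr fun g _ => mul_assoc _ _ _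
  · -- expansion of the translation invariant extension of `f`
    let H : C → ℂ := fun g => if 4 ∣ orderOf g then 0 else if 2 ∣ orderOf g then f (z * g) else f g
    have hHc : IsClassFunction C H := by
      intro g x
      have hzx : z * (x * g * x⁻¹) = x * (z * g) * x⁻¹ := by
        rw [← mul_assoc x z g, Subgroup.mem_center_iff.1 hc x]; group
      simp only [H, orderOf_conj_eq, hzx, hf g x, hf (z * g) x]
    have hHinner : ∀ η : IrrCharacter C, ∀ ε : ℂ, (∀ g, (η : C → ℂ) (z * g) = ε * (η : C → ℂ) g) →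
        classInner H (η : C → ℂ) =
          (1 + conj ε) * ((Nat.card C : ℂ)⁻¹ * oddSum (fun g => f g * conj ((η : C → ℂ) g))) := by
      intro η ε hη
      rw [classInner, sum_split hsol hc _ (fun g hg => by simp [H, hg]), oddSum, Finset.mul_sum,
        Finset.mul_sum, Finset.mul_sum]
      refine Finset.sum_congr rfl fun g _ => ?_
      by_cases hg : 2 ∣ orderOf g
      · simp [hg]
      · have h4 : ¬ 4 ∣ orderOf g := not_four_of_not_two hg
        have h4z : ¬ 4 ∣ orderOf (z * g) := fun h' => h4 ((hinvF g).1 h')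
        have h2z : 2 ∣ orderOf (z * g) := by rw [orderOf_mul_of_odd hsol.1 hc hg]; exact dvd_mul_right _ _
        simp only [H, if_neg h4, if_neg hg, if_neg h4z, if_pos h2z, hη, map_mul]
        rw [← mul_assoc z z g, IsolatedInv.sq_of_orderOf_two hsol.1, one_mul]
        ring
    have hHy : H y = f y := by simp only [H, if_neg (not_four_of_not_two hy), if_neg hy]
    have hout : ∀ η : IrrCharacter C, η ∉ Finset.univ.image θ → classInner H (η : C → ℂ) = 0 := by
      intro η hη
      have hm0 : m η = 0 := by_contra fun h0 => hη (himage η h0)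
      obtain ⟨ε, hε, hεη⟩ := exists_sign hsol.1 hc η
      rw [hHinner η ε hεη]
      rcases hε with rfl | rfl
      swap
      · simp
      rw [hfo η, mul_zero, mul_zero]
      intro hηB
      -- such a character would have regular sum zero
      refine (ZStarPrincipal.mem_principal_iff hM η).1 hηB ?_
      have hne : (η : C → ℂ) ≠ ((trivIrr C : IrrCharacter C) : C → ℂ) := fun e =>
        hη (Finset.mem_image.2 ⟨0, Finset.mem_univ _, (Subtype.ext e).symm⟩)
      have h0 : ∑ g : C, (η : C → ℂ) g = 0 := by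
        have h0 := classInner_irr_ne η.2 (trivIrr C).2 hne
        rw [classInner, mul_eq_zero] at h0
        rcases h0 with h0 | h0
        · simp at h0
        · simpa [trivIrr] using h0
      rw [sum_split hsol hc _ (fun g hg => by rw [hmval η hηB g hg, hm0, Int.cast_zero])] at h0
      have : (2 : ℂ) * ZStarPrincipal.regSum 2 (η : C → ℂ) = 0 := by
        rw [← h0, ZStarPrincipal.regSum, Finset.mul_sum]
        refine Finset.sum_congr rfl fun g _ => ?_
        split_ifs
        · rw [mul_zero]
        · rw [hεη]; ring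
      exact (mul_eq_zero.1 this).resolve_left two_ne_zero
    have hexp := congrFun (eq_sum_classInner hHc) y
    simp only [Finset.sum_apply, Pi.smul_apply, smul_eq_mul] at hexp
    rw [← hHy, hexp, ← Finset.sum_subset (Finset.subset_univ (Finset.univ.image θ))
      (fun η _ hη => by rw [hout η hη, zero_mul]), Finset.sum_image (fun i _ j _ e => hθinj e)]
    refine Finset.sum_congr rfl fun k _ => ?_
    rw [hHinner (θ k) 1 (fun g => by rw [hsignone _ (hθne k), one_mul])]
    have hsq : (m (θ k) : ℂ) * (m (θ k) : ℂ) = 1 := by rcases hθm k with e | e <;> simp [e]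
    have e2 : oddSum (fun g => f g * conj (φ k g)) =
        (m (θ k) : ℂ) * oddSum (fun g => f g * conj ((θ k : C → ℂ) g)) := by
      have := oddSum_mul_sum ({k} : Finset (Fin 4)) (fun _ => (m (θ k) : ℂ))
        (fun k g => f g * conj ((θ k : C → ℂ) g))
      simp only [Finset.sum_singleton] at this
      rw [← this]
      refine oddSum_congr fun g _ => ?_
      simp only [hφ, map_mul, map_intCast]; ring
    rw [e2, map_one]
    simp only [hφ]
    linear_combination (-2 * (Nat.card C : ℂ)⁻¹ * oddSum (fun g => f g * conj ((θ k : C → ℂ) g)) *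
      (θ k : C → ℂ) y) * hsq

end Cfsg.Agent.ZStarQ8Local
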