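import Mathlib
import Cfsg.Agent.Lib.ZStarQ8Local
import Cfsg.Agent.Lib.ZStarCount
import Cfsg.Agent.Lib.ZStarCombinatorics
import Cfsg.Agent.Lib.CharInducedTI

/-!
# A quaternion Sylow subgroup of order 8: a nontrivial character with the involution in its kernel
-/

set_option autoImplicit false

open scoped ComplexConjugate

namespace Cfsg.Agent.ZStarQ8

open Cfsg Cfsg.Agent.ZStarLocal Cfsg.Agent.ZStarBasic Cfsg.Agent.ZStarSign Cfsg.Agent.ZStarQ8Local
  Cfsg.Agent.CharBasicOrth Cfsg.Agent.CharBasicDecomp Cfsg.Agent.CharInduced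
  Cfsg.Agent.BlockTheoryCentre Cfsg.Agent.BlockPrincipal81

attribute [local instance] Classical.propDecidable

universe u

variable {G : Type u} [Group G]

theorem exists_apply_eq [Fintype G] {S : Sylow 2 G} {a b : G}
    (h : Gens (S : Subgroup G) a b 1)
    (hfus : ∀ s ∈ (S : Subgroup G), orderOf s = 4 → IsConj a s) :
    ∃ χ : IrrCharacter G, (χ : G → ℂ) ≠ (fun _ => 1) ∧ (χ : G → ℂ) (a ^ 2) = (χ : G → ℂ) 1 := by
  have : Fact (Nat.Prime 2) := ⟨Nat.prime_two⟩
  obtain ⟨M, hM⟩ := ZStarCount.exists_isPModular 2 Nat.prime_two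
  set z := a ^ 2 with hz
  have hsol : Solitary z := by simpa using h.solitary
  obtain ⟨m, hm1, hm2, hmB, hmval, hmF⟩ := ZStarFused.fused_data hM h hfus
  set C := Subgroup.centralizer ({z} : Set G) with hC
  have hSC : (S : Subgroup G) ≤ C := fun s hs => Subgroup.mem_centralizer_singleton_iff.2
    (IsolatedInv.commute_of_isPGroup hsol.isolated S S.isPGroup' (pow_mem h.a_mem 2) hs).eq
  let aC : C := ⟨a, hSC h.a_mem⟩
  let bC : C := ⟨b, hSC h.b_mem⟩
  let SC : Sylow 2 C := S.subtype hSC
  have hzpow : ∀ x : C, x ∈ Subgroup.zpowers aC ↔ (x : G) ∈ Subgroup.zpowers a := by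
    intro x
    constructor
    · rintro ⟨k, rfl⟩
      exact ⟨k, by simp [aC]⟩
    · rintro ⟨k, hk⟩
      exact ⟨k, Subtype.ext (by simpa [aC] using hk)⟩
  have hC' : Gens (SC : Subgroup C) aC bC 1 :=
    { pos := le_rfl
      a_mem := h.a_mem
      b_mem := h.b_mem
      order := (Subgroup.orderOf_mk a _).trans h.order
      not_mem := fun hb => h.not_mem ((hzpow bC).1 hb)
      inv := fun s hs hsa => by
        obtain ⟨h1, h2⟩ := h.inv (s : G) hs (fun hh => hsa ((hzpow s).2 hh))
        exact ⟨Subtype.ext h1, Subtype.ext h2⟩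
      cover := fun s hs => (h.cover (s : G) hs).imp (fun hh => (hzpow s).2 hh)
        (fun hh => (hzpow (bC * s)).2 hh) }
  have hfusC : ∀ s ∈ (SC : Subgroup C), orderOf s = 4 → IsConj aC s := by
    intro s hs ho
    obtain ⟨g, hg⟩ := isConj_iff.1 (hfus (s : G) hs ((Subgroup.orderOf_coe s).trans ho))
    have hs2 : (s : G) ^ 2 = z := by
      refine hsol.2 _ ?_ ?_
      · rw [orderOf_pow' _ two_ne_zero, Subgroup.orderOf_coe, ho]; rfl
      · exact (Subgroup.mem_centralizer_singleton_iff.1 (pow_mem s.2 2) : _)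
    have hgC : g ∈ C := by
      refine Subgroup.mem_centralizer_singleton_iff.2 ?_
      have : g * z * g⁻¹ = z := by rw [hz, ← conj_pow, hg, hs2]
      exact mul_inv_eq_iff_eq_mul.1 this
    exact isConj_iff.2 ⟨⟨g, hgC⟩, Subtype.ext hg⟩
  have hzC : aC ^ 2 ∈ Subgroup.center C := Subgroup.mem_center_iff.2 fun g =>
    Subtype.ext (by simpa [aC] using Subgroup.mem_centralizer_singleton_iff.1 g.2)
  obtain ⟨φ, hφ⟩ := exists_localData hM hC' hfusC hzC
  set zC : C := aC ^ 2 with hzCdef
  have hzCcoe : (zC : G) = z := by simp [zC, aC, hz]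
  have hsolC : Solitary zC := by simpa using hC'.solitary
  have hNC : (Nat.card C : ℂ) ≠ 0 := Nat.cast_ne_zero.2 Nat.card_pos.ne'
  -- the generalized characters on the section of `z`
  let hk : Fin 3 → C → ℂ := fun k g => φ 0 g - φ k.succ g
  have hhgen : ∀ k, IsGeneralizedCharacter C (hk k) := fun k =>
    isGeneralizedCharacter_sub (hφ.gen 0) (hφ.gen k.succ)
  have hh4 : ∀ k g, 4 ∣ orderOf g → hk k g = 0 := fun k g hg => by
    simp only [hk, hφ.four _ g hg, sub_self]
  have hhinv : ∀ k g, hk k (zC * g) = hk k g := fun k g => by simp only [hk, hφ.inv]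
  let u : Fin 3 → C → ℂ := fun k => twist (hk k)
  have hugen : ∀ k, IsGeneralizedCharacter C (u k) := fun k =>
    isGeneralizedCharacter_twist hsolC hzC (hhgen k) (hh4 k) (hhinv k)
  set U : Fin 3 → G → ℂ := fun k => indFun C (u k) with hU
  have hU0 : ∀ k g, (¬ 2 ∣ orderOf g ∨ 4 ∣ orderOf g) → U k g = 0 := by
    intro k g hg
    refine ind_eq_zero_of_vanish C (u k) g fun y x hy => ?_
    have ho : orderOf x = orderOf g := by
      rw [← Subgroup.orderOf_coe, ← hy, show y⁻¹ * g * y = y⁻¹ * g * y⁻¹⁻¹ by rw [inv_inv],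
        orderOf_conj_eq]
    show twist (hk k) x = 0
    rw [twist]
    rcases hg with h2 | h4
    · rw [if_neg (ho.symm ▸ h2)]
    · rw [hh4 k x (ho.symm ▸ h4), mul_zero, ite_self]
  choose d hd hdexp using fun k => exists_int_coeff (isGenChar_ind C (hugen k))
  -- the restriction to the section
  let ϑ : IrrCharacter G → C → ℂ := fun χ c => (χ : G → ℂ) (z * (c : G))
  have hϑc : ∀ χ, IsClassFunction C (ϑ χ) := by
    intro χ g x
    have hx : (x : G) * z = z * x := Subgroup.mem_centralizer_singleton_iff.1 x.2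
    show (χ : G → ℂ) (z * ((x * g * x⁻¹ : C) : G)) = (χ : G → ℂ) (z * (g : G))
    rw [← irr_classFun χ (z * (g : G)) (x : G)]
    simp only [Subgroup.coe_mul, Subgroup.coe_inv, ← mul_assoc, hx]
  have hdval : ∀ k χ, (d k χ : ℂ) =
      2 * ((Nat.card C : ℂ)⁻¹ * oddSum (fun c => hk k c * conj (ϑ χ c))) := by
    intro k χ
    rw [← hd k χ, inner_ind_left C (u k) (irr_classFun χ), classInner, ← mul_assoc,
      mul_comm (2 : ℂ), mul_assoc]
    congr 1
    rw [sum_split hsolC hzC _ (fun e he => by
      show twist (hk k) e * _ = 0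
      rw [twist, hh4 k e he, mul_zero, ite_self, zero_mul]), oddSum, Finset.mul_sum]
    refine Finset.sum_congr rfl fun e _ => ?_
    by_cases he : 2 ∣ orderOf e
    · simp [he]
    · have hze : 2 ∣ orderOf (zC * e) := by
        rw [orderOf_mul_of_odd hsolC.1 hzC he]; exact dvd_mul_right 2 _
      simp only [u, twist, if_neg he, if_pos hze, hhinv, ϑ, Subgroup.coe_mul, hzCcoe]
      ring
  have hsection : ∀ χ y, ¬ 2 ∣ orderOf y →
      ∑ ψ : IrrCharacter C, (if ψ ∈ principalBlock M C ↔ χ ∈ principalBlock M G then 0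
        else classInner (ϑ χ) (ψ : C → ℂ) * (ψ : C → ℂ) y) = 0 := fun χ y hy =>
    ZStarSection.section_blockPart hM ⟨1, by rw [hsol.1, pow_one]⟩ χ y hy
  have hϑexp : ∀ χ y, ¬ 2 ∣ orderOf y → ϑ χ y = ∑ ψ : IrrCharacter C,
      (if ψ ∈ principalBlock M C ↔ χ ∈ principalBlock M G then
        classInner (ϑ χ) (ψ : C → ℂ) else 0) * (ψ : C → ℂ) y := by
    intro χ y hy
    have h1 := congrFun (eq_sum_classInner (hϑc χ)) y
    simp only [Finset.sum_apply, Pi.smul_apply, smul_eq_mul] at h1
    rw [h1, ← sub_eq_zero, ← Finset.sum_sub_distrib]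
    refine Eq.trans (Finset.sum_congr rfl fun ψ _ => ?_) (hsection χ y hy)
    split_ifs <;> ring
  -- rows outside the principal block vanish
  have hdB : ∀ k χ, d k χ ≠ 0 → χ ∈ principalBlock M G := by
    intro k χ hne
    by_contra hχ
    apply hne
    have h0 : oddSum (fun c => hk k c * conj (ϑ χ c)) = 0 := by
      rw [oddSum_congr (g := fun c => ∑ ψ : IrrCharacter C,
        (if ψ ∈ principalBlock M C ↔ χ ∈ principalBlock M G then
          conj (classInner (ϑ χ) (ψ : C → ℂ)) else 0) * (hk k c * conj ((ψ : C → ℂ) c))) fun c hc => ?_]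
      · rw [oddSum_mul_sum]
        refine Finset.sum_eq_zero fun ψ _ => ?_
        by_cases hψ : ψ ∈ principalBlock M C
        · rw [if_neg (fun hi => hχ (hi.1 hψ)), zero_mul]
        · refine mul_eq_zero_of_right _ ?_
          have e1 := hφ.orth 0 ψ hψ
          have e2 := hφ.orth k.succ ψ hψ
          calc oddSum (fun c => hk k c * conj ((ψ : C → ℂ) c))
              = oddSum (fun c => φ 0 c * conj ((ψ : C → ℂ) c)) -
                oddSum (fun c => φ k.succ c * conj ((ψ : C → ℂ) c)) := by
                rw [oddSum, oddSum, oddSum, ← Finset.sum_sub_distrib]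
                refine Finset.sum_congr rfl fun c _ => ?_
                split_ifs
                · rw [sub_zero]
                · simp only [hk]; ring
            _ = 0 := by rw [e1, e2, sub_zero]
      · rw [hϑexp χ c hc, map_sum, Finset.mul_sum]
        refine Finset.sum_congr rfl fun ψ _ => ?_
        rw [map_mul]
        split_ifs <;> (try simp only [map_zero, zero_mul, mul_zero]) <;> ring
    have := hdval k χ
    rw [h0, mul_zero, mul_zero] at this
    exact_mod_cast this
  -- the value at `z` in the principal block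
  choose f hfodd hf using fun k : Fin 3 => hφ.deg k.succ
  have hsumf : (∑ k : Fin 3, (f k : ℂ)) = -1 := by
    have h1 := hφ.sum 1 (by simp)
    rw [Fin.sum_univ_succ, hφ.zero] at h1
    simp only [hf] at h1
    linear_combination h1
  have hval : ∀ χ : IrrCharacter G, χ ∈ principalBlock M G →
      (χ : G → ℂ) z = -∑ k, (d k χ : ℂ) * (f k : ℂ) := by
    intro χ hχ
    have horth : ∀ ψ : IrrCharacter C, ψ ∉ principalBlock M C →
        oddSum (fun c => ϑ χ c * conj ((ψ : C → ℂ) c)) = 0 := by
      intro ψ hψ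
      rw [oddSum_congr (g := fun c => ∑ η : IrrCharacter C,
        (if η ∈ principalBlock M C ↔ χ ∈ principalBlock M G then
          classInner (ϑ χ) (η : C → ℂ) else 0) * ((η : C → ℂ) c * conj ((ψ : C → ℂ) c))) fun c hc => ?_]
      · rw [oddSum_mul_sum]
        refine Finset.sum_eq_zero fun η _ => ?_
        by_cases hη : η ∈ principalBlock M C
        · refine mul_eq_zero_of_right _ ?_
          rw [oddSum_eq_filter]
          exact BrauerBlocksOrth.regular_inner_eq_zero hM fun hs =>
            hψ (BlockTheoryIdem.mem_of_sameBlock hM isPBlock_principal hη hs)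
        · rw [if_neg (fun hi => hη (hi.2 hχ)), zero_mul]
      · rw [hϑexp χ c hc, Finset.sum_mul]
        exact Finset.sum_congr rfl fun η _ => mul_assoc _ _ _
    have h1 := hφ.span (ϑ χ) (hϑc χ) horth 1 (by simp)
    set e : Fin 4 → ℂ := fun k => 2 * ((Nat.card C : ℂ)⁻¹ * oddSum (fun c => ϑ χ c * conj (φ k c))) with he
    have hde : ∀ k : Fin 3, (d k χ : ℂ) = e 0 - e k.succ := by
      intro k
      have h2 : conj (d k χ : ℂ) = e 0 - e k.succ := by
        rw [hdval k χ]
        simp only [he, map_mul, map_inv₀, Complex.conj_natCast, map_ofNat, oddSum, map_sum,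
          ← mul_sub, ← Finset.sum_sub_distrib]
        congr 2
        refine Finset.sum_congr rfl fun c _ => ?_
        split_ifs
        · simp
        · simp only [hk, map_mul, map_sub, Complex.conj_conj]; ring
      rwa [map_intCast] at h2
    have hv1 : ϑ χ 1 = (χ : G → ℂ) z := by simp [ϑ]
    rw [hv1] at h1
    change (χ : G → ℂ) z = ∑ k, e k * φ k 1 at h1
    rw [h1, Fin.sum_univ_succ, hφ.zero]
    simp only [hf, hde, sub_mul, Finset.sum_sub_distrib]
    rw [← Finset.mul_sum, hsumf]
    ring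
  -- the relations
  have hd0 : ∀ k, d k (trivIrr G) = 1 := by
    intro k
    have h1 := hdval k (trivIrr G)
    have h2 : oddSum (fun c => hk k c * conj (ϑ (trivIrr G) c)) =
        oddSum (fun c => φ 0 c * conj (φ 0 c)) - oddSum (fun c => φ k.succ c * conj (φ 0 c)) := by
      rw [oddSum, oddSum, oddSum, ← Finset.sum_sub_distrib]
      refine Finset.sum_congr rfl fun c _ => ?_
      split_ifs
      · rw [sub_zero]
      · show (φ 0 c - φ k.succ c) * conj ((trivIrr G : IrrCharacter G).1 (z * (c : G))) = _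
        rw [hφ.zero c]
        show (1 - φ k.succ c) * conj 1 = _
        rw [map_one]; ring
    rw [h2, mul_sub, hφ.gram, hφ.gram, if_pos rfl, if_neg (Fin.succ_ne_zero k)] at h1
    have h3 : (d k (trivIrr G) : ℂ) = 1 := by rw [h1]; ring
    exact_mod_cast h3
  have hdd : ∀ k l, ∑ χ, d k χ * d l χ = if k = l then 4 else 2 := by
    intro k l
    have h1 : classInner (U k) (U l) = ∑ χ, ((d k χ : ℂ) * (d l χ : ℂ)) := by
      rw [classInner_eq_sum (isClassFunction_ind C (u k))]
      simp only [hU, hd, map_intCast]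
    have h2 : classInner (U k) (U l) = classInner (u k) (u l) := by
      refine classInner_ind_of_ti {g : G | g ∈ C ∧ 2 ∣ orderOf g ∧ ¬ 4 ∣ orderOf g} C ?_ (u k) (u l)
        (isClassFunction_of_isGeneralizedCharacter (hugen l)) ?_ ?_ ?_
      · rintro g hg t ⟨htC, ht2, ht4⟩ ⟨hgt, hgt2, hgt4⟩
        exfalso
        apply hg
        obtain ⟨j, hj⟩ := ht2
        have hj0 : 0 < j := by have := orderOf_pos t; omega
        have key : ∀ s ∈ C, orderOf s = 2 * j → s ^ j = z := by
          intro s hs ho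
          refine hsol.2 _ ?_ ((Subgroup.mem_centralizer_singleton_iff.1 (pow_mem hs j)) : _)
          rw [orderOf_pow' _ hj0.ne', ho, Nat.gcd_eq_right (dvd_mul_left j 2), Nat.mul_div_cancel _ hj0]
        have h3 := key _ hgt (by rw [orderOf_conj_eq, hj])
        rw [conj_pow, key t htC hj] at h3
        exact Subgroup.mem_centralizer_singleton_iff.2 (mul_inv_eq_iff_eq_mul.1 h3)
      · intro x hx
        show twist (hk k) x = 0
        rw [twist]
        by_cases h2 : 2 ∣ orderOf x
        · rw [if_pos h2, hh4, mul_zero]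
          by_contra h4
          exact hx ⟨x.2, by rwa [Subgroup.orderOf_coe], by rwa [Subgroup.orderOf_coe]⟩
        · rw [if_neg h2]
      · intro x hx
        show twist (hk l) x = 0
        rw [twist]
        by_cases h2 : 2 ∣ orderOf x
        · rw [if_pos h2, hh4, mul_zero]
          by_contra h4
          exact hx ⟨x.2, by rwa [Subgroup.orderOf_coe], by rwa [Subgroup.orderOf_coe]⟩
        · rw [if_neg h2]
      · show twist (hk k) 1 = 0
        rw [twist, if_neg (by simp)]
    have h3 : classInner (u k) (u l) = if k = l then 4 else 2 := by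
      rw [classInner, sum_split hsolC hzC _ (fun e he => by
        show twist (hk k) e * _ = 0
        rw [twist, hh4 k e he, mul_zero, ite_self, zero_mul])]
      have h4 : ∑ e : C, (if 2 ∣ orderOf e then 0 else
          u k e * conj (u l e) + u k (zC * e) * conj (u l (zC * e))) =
          4 * (oddSum (fun c => φ 0 c * conj (φ 0 c)) - oddSum (fun c => φ 0 c * conj (φ l.succ c)) -
            oddSum (fun c => φ k.succ c * conj (φ 0 c)) +
            oddSum (fun c => φ k.succ c * conj (φ l.succ c))) := by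
        simp only [oddSum, ← Finset.sum_sub_distrib, ← Finset.sum_add_distrib, Finset.mul_sum]
        refine Finset.sum_congr rfl fun e _ => ?_
        by_cases he : 2 ∣ orderOf e
        · simp [he]
        · have hze : 2 ∣ orderOf (zC * e) := by
            rw [orderOf_mul_of_odd hsolC.1 hzC he]; exact dvd_mul_right 2 _
          simp only [if_neg he, u, twist, if_pos hze, hhinv, hk, map_mul, map_sub, map_ofNat,
            zero_mul, zero_add]
          ring
      rw [h4, mul_left_comm, mul_add, mul_sub, mul_sub, hφ.gram, hφ.gram, hφ.gram, hφ.gram,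
        if_pos rfl, if_neg (Fin.succ_ne_zero k), if_neg (Fin.succ_ne_zero l).symm]
      simp only [Fin.succ_inj]
      split_ifs <;> ring
    have h5 : ((∑ χ, d k χ * d l χ : ℤ) : ℂ) = ((if k = l then 4 else 2 : ℤ) : ℂ) := by
      push_cast
      rw [← h1, h2, h3]
    exact_mod_cast h5
  have hexp : ∀ k g, U k g = ∑ χ, (d k χ : ℂ) * (χ : G → ℂ) g := by
    intro k g
    have := congrFun (hdexp k) g
    simp only [Finset.sum_apply, Pi.smul_apply, smul_eq_mul] at this
    exact this
  let F : G → ℂ := fun g => ∑ χ : IrrCharacter G, (m χ : ℂ) * (χ : G → ℂ) g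
  have hFeq : F = ∑ χ : IrrCharacter G, (m χ : ℂ) • (χ : G → ℂ) := by
    funext g; simp [F, Finset.sum_apply]
  have hFc : IsClassFunction G F := fun g x => by
    simp only [F, hmF, orderOf_conj_eq]
  have hFinner : ∀ χ : IrrCharacter G, classInner F (χ : G → ℂ) = m χ := fun χ => by
    rw [hFeq, classInner_sum_smul_irr]
  have hdc : ∀ k, ∑ χ, d k χ * m χ = 0 := by
    intro k
    have h1 : classInner (U k) F = ∑ χ, ((d k χ : ℂ) * (m χ : ℂ)) := by
      rw [classInner_eq_sum (isClassFunction_ind C (u k))]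
      simp only [hd, hFinner, map_intCast]
    have h2 : classInner (U k) F = 0 := by
      rw [classInner]
      refine mul_eq_zero_of_right _ (Finset.sum_eq_zero fun g _ => ?_)
      by_cases h4 : 4 ∣ orderOf g
      · rw [hU0 k g (Or.inr h4), zero_mul]
      · simp only [F, hmF, if_neg h4, map_zero, mul_zero]
    have h5 : ((∑ χ, d k χ * m χ : ℤ) : ℂ) = ((0 : ℤ) : ℂ) := by
      push_cast; rw [← h1, h2]
    exact_mod_cast h5
  have hprod : ∀ (f : G → ℂ), IsClassFunction G f → (∀ g, ¬ 2 ∣ orderOf g → f g = 0) →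
      ∑ χ : IrrCharacter G, classInner f (χ : G → ℂ) *
        ((χ : G → ℂ) z * (χ : G → ℂ) z / (χ : G → ℂ) 1) = 0 := by
    intro f hf h0
    refine ZStarCount.sum_coeff_eq_zero hf z z fun x y hx hy => h0 _ ?_
    obtain ⟨g₁, rfl⟩ := isConj_iff.1 hx
    obtain ⟨g₂, rfl⟩ := isConj_iff.1 hy
    exact Nat.two_dvd_ne_zero.2 (Nat.odd_iff.1
      (IsolatedInv.odd_orderOf_conj_mul_conj hsol.isolated g₁ g₂))
  have hmem : ∀ χ, (m χ ≠ 0 ∨ ∃ k, d k χ ≠ 0) → χ ∈ principalBlock M G :=
    fun χ hχ => hχ.elim (hmB χ) (fun ⟨k, hk'⟩ => hdB k χ hk')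
  refine Exists.imp (fun χ hc => ⟨fun e => hc.1 (Subtype.ext e), hc.2⟩)
    (ZStarCombinatorics.exists_apply_eq (o := trivIrr G) m d hm1 hm2 hd0 hdd hdc
    (fun χ hχ => ?_) (fun χ => (χ : G → ℂ) 1) (fun χ => (χ : G → ℂ) z) irr_one_ne_zero rfl
    (fun k => (f k : ℂ)) (fun χ hχ => hval χ (hmem χ hχ)) hsumf ?_ ?_ ?_ ?_)
  · -- parity
    have hao : orderOf a = 2 ^ 2 := h.order
    have hzo : orderOf z = 2 ^ 1 := by rw [hsol.1, pow_one]
    have hχB := hmem χ hχ
    have h1 := BlockTheoryLocalRing.ideal_sub hM (ClassAlgebraMod.character_pElement_congr hM χ hao)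
      (ClassAlgebraMod.character_pElement_congr hM χ hzo)
    rw [hmval χ hχB a (by rw [hao]; norm_num), hval χ hχB] at h1
    have h2 : MemLocalIdeal M ((m χ + ∑ k, d k χ * f k : ℤ) : ℂ) := by
      push_cast
      convert h1 using 1
      ring
    have h3 : (2 : ℤ) ∣ m χ + ∑ k, d k χ * f k := by
      rcases Int.natAbs_eq (m χ + ∑ k, d k χ * f k) with e | e <;> rw [e] at h2 ⊢
      · rw [Int.cast_natCast, BlockTheoryLocalRing.natCast_mem_iff hM] at h2
        exact_mod_cast h2
      · rw [Int.cast_neg, Int.cast_natCast] at h2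
        have h4 := BlockTheoryLocalRing.ideal_neg h2
        rw [neg_neg, BlockTheoryLocalRing.natCast_mem_iff hM] at h4
        exact Int.dvd_neg.2 (by exact_mod_cast h4)
    obtain ⟨q0, hq0⟩ := hfodd 0
    obtain ⟨q1, hq1⟩ := hfodd 1
    obtain ⟨q2, hq2⟩ := hfodd 2
    obtain ⟨r, hr⟩ := h3
    rw [Fin.sum_univ_three, hq0, hq1, hq2] at hr
    rw [Fin.sum_univ_three]
    exact ⟨r - d 0 χ * (q0 + 1) - d 1 χ * (q1 + 1) - d 2 χ * (q2 + 1), by linear_combination hr⟩
  · exact (hmF 1).trans (if_neg (by rw [orderOf_one]; decide))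
  · intro k
    rw [← hexp k 1]
    exact hU0 k 1 (Or.inl (by simp))
  · intro k
    have := hprod (U k) (isClassFunction_ind C (u k)) fun g hg => hU0 k g (Or.inl hg)
    simp only [hU, hd] at this
    exact this
  · have := hprod F hFc fun g hg => by
      simp only [F, hmF, if_neg (not_four_of_not_two hg)]
    simp only [hFinner] at this
    exact this

end Cfsg.Agent.ZStarQ8
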