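import Mathlib
import Cfsg.Agent.Lib.ZStarQ8
import Cfsg.Agent.Lib.ZStarQ16
import Cfsg.Agent.Lib.PGroupsCyclic

/-!
# The Brauer–Suzuki theorem

A solitary involution of a finite group without nontrivial normal subgroups of odd order is
central.
-/

set_option autoImplicit false

namespace Cfsg.Agent.BrauerSuzukiCore

open Cfsg Cfsg.Agent.ZStarBasic Cfsg.Agent.ZStarLocal

universe u

variable {G : Type u} [Group G]

/-- In the quaternion group of order eight, if the elements of order four are not all conjugate,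
one cyclic subgroup of order four is closed under fusion. -/
theorem exists_closed_four [Finite G] {S : Sylow 2 G} {a b : G}
    (h : Gens (S : Subgroup G) a b 1)
    (hnf : ¬ ∀ s ∈ (S : Subgroup G), orderOf s = 4 → IsConj a s) :
    ∃ t ∈ (S : Subgroup G), orderOf t = 4 ∧ t * t = a ^ 2 ∧
      ∀ s ∈ (S : Subgroup G), IsConj t s → s ∈ Subgroup.zpowers t := by
  have horda : orderOf a = 4 := h.order
  have ha4 : a ^ 4 = 1 := horda ▸ pow_orderOf_eq_one a
  have hz : orderOf (a ^ 2) = 2 := by simpa using h.orderOf_z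
  have hX : ∀ w ∈ Subgroup.zpowers a, w = 1 ∨ w = a ∨ w = a ^ 2 ∨ w = a⁻¹ := by
    intro w hw
    have hfin : IsOfFinOrder a := orderOf_pos_iff.1 (by rw [horda]; norm_num)
    obtain ⟨i, hi⟩ := hfin.mem_powers_iff_mem_zpowers.2 hw
    rw [← hi]
    show a ^ i = _ ∨ a ^ i = _ ∨ a ^ i = _ ∨ a ^ i = _
    rw [← pow_mod_orderOf, horda]
    have h3 : a ^ 3 = a⁻¹ := eq_inv_of_mul_eq_one_left (by rw [← pow_succ, ha4])
    have : i % 4 < 4 := Nat.mod_lt _ (by norm_num)
    interval_cases (i % 4)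
    · exact Or.inl (pow_zero a)
    · exact Or.inr (Or.inl (pow_one a))
    · exact Or.inr (Or.inr (Or.inl rfl))
    · exact Or.inr (Or.inr (Or.inr h3))
  have hout4 : ∀ s ∈ (S : Subgroup G), s ∉ Subgroup.zpowers a → orderOf s = 4 := by
    intro s hs hsa
    have h2 := (h.inv s hs hsa).2
    rw [pow_one, ← pow_two] at h2
    have hs4 : orderOf s ∣ 2 ^ 2 := orderOf_dvd_of_pow_eq_one (by
      rw [show (2 : ℕ) ^ 2 = 2 * 2 by norm_num, pow_mul, h2, ← pow_mul]; exact ha4)
    obtain ⟨k, hk, hk'⟩ := (Nat.dvd_prime_pow Nat.prime_two).1 hs4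
    rw [hk']
    by_contra hne
    have hk2 : k ≤ 1 := by
      by_contra hk2; exact hne (by rw [show k = 2 by omega]; norm_num)
    have : s ^ 2 = 1 := orderOf_dvd_iff_pow_eq_one.1 (by rw [hk']; exact Nat.pow_dvd_pow 2 hk2)
    rw [h2] at this
    rw [this, orderOf_one] at hz
    omega
  have hreal : ∀ s ∈ (S : Subgroup G), s ∉ Subgroup.zpowers a → IsConj s s⁻¹ := by
    intro s hs hsa
    obtain ⟨h1, h2⟩ := h.inv s hs hsa
    rw [pow_one, pow_two] at h2
    refine isConj_iff.2 ⟨a, eq_inv_of_mul_eq_one_left ?_⟩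
    rw [mul_inv_eq_iff_eq_mul] at h1
    calc a * s * a⁻¹ * s = a * s * (a⁻¹ * s) := by group
      _ = a * s * (s * a) := by rw [h1]
      _ = a * (s * s) * a := by group
      _ = a * (a * a) * a := by rw [h2]
      _ = a ^ 4 := by simp [pow_succ, mul_assoc]
      _ = 1 := ha4
  have hareal : IsConj a a⁻¹ := isConj_iff.2 ⟨b, (h.inv b h.b_mem h.not_mem).1⟩
  have hzin : ∀ s ∈ (S : Subgroup G), s ∉ Subgroup.zpowers a → a ^ 2 ∈ Subgroup.zpowers s := by
    intro s hs hsa
    have h2 := (h.inv s hs hsa).2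
    rw [pow_one] at h2
    exact h2 ▸ mul_mem (Subgroup.mem_zpowers s) (Subgroup.mem_zpowers s)
  by_cases hA : ∀ s ∈ (S : Subgroup G), IsConj a s → s ∈ Subgroup.zpowers a
  · exact ⟨a, h.a_mem, horda, (pow_two a).symm, hA⟩
  push Not at hA hnf
  obtain ⟨s₁, hs₁, hc₁, hs₁a⟩ := hA
  obtain ⟨t, ht, ht4, hta'⟩ := hnf
  have hta : t ∉ Subgroup.zpowers a := by
    intro hm
    rcases hX t hm with rfl | rfl | rfl | rfl
    · simp at ht4
    · exact hta' (IsConj.refl _)
    · omega
    · exact hta' hareal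
  refine ⟨t, ht, ht4, by simpa using (h.inv t ht hta).2, fun s hs hts => ?_⟩
  have hsa : s ∉ Subgroup.zpowers a := by
    intro hm
    have ho : orderOf s = 4 := by
      obtain ⟨c, rfl⟩ := isConj_iff.1 hts
      rw [orderOf_conj_eq, ht4]
    rcases hX s hm with rfl | rfl | rfl | rfl
    · simp at ho
    · exact hta' hts.symm
    · omega
    · exact hta' (hareal.trans hts.symm)
  have hquot : ∀ x ∈ (S : Subgroup G), x ∉ Subgroup.zpowers a → ∀ y ∈ (S : Subgroup G),
      y ∉ Subgroup.zpowers a → x⁻¹ * y ∈ Subgroup.zpowers a := by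
    intro x hx hxa y hy hya
    have := mul_mem (inv_mem ((h.cover x hx).resolve_left hxa)) ((h.cover y hy).resolve_left hya)
    simpa [mul_assoc] using this
  have hodd : ∀ x ∈ (S : Subgroup G), x ∉ Subgroup.zpowers a → ∀ y ∈ (S : Subgroup G),
      y ∉ Subgroup.zpowers a → y ∉ Subgroup.zpowers x → x⁻¹ * y = a ∨ x⁻¹ * y = a⁻¹ := by
    intro x hx hxa y hy hya hyx
    rcases hX _ (hquot x hx hxa y hy hya) with e | e | e | e
    · exact absurd (by rw [inv_mul_eq_one.1 e]; exact Subgroup.mem_zpowers y) hyx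
    · exact Or.inl e
    · refine absurd ?_ hyx
      rw [inv_mul_eq_iff_eq_mul.1 e]
      exact mul_mem (Subgroup.mem_zpowers x) (hzin x hx hxa)
    · exact Or.inr e
  have ht₁ : t ∉ Subgroup.zpowers s₁ := by
    intro hm
    have hs₁4 := hout4 s₁ hs₁ hs₁a
    have hfin : IsOfFinOrder s₁ := orderOf_pos_iff.1 (by rw [hs₁4]; norm_num)
    obtain ⟨i, hi⟩ := hfin.mem_powers_iff_mem_zpowers.2 hm
    have hi' : s₁ ^ (i % 4) = t := by rw [← hs₁4, pow_mod_orderOf]; exact hi
    have hlt : i % 4 < 4 := Nat.mod_lt _ (by norm_num)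
    interval_cases hi4 : (i % 4)
    · rw [pow_zero] at hi'; rw [← hi', orderOf_one] at ht4; omega
    · rw [pow_one] at hi'; exact hta' (hi' ▸ hc₁)
    · rw [pow_two, (h.inv s₁ hs₁ hs₁a).2, pow_one] at hi'
      rw [← hi'] at ht4; omega
    · refine hta' (hc₁.trans ?_)
      have : t = s₁⁻¹ := by
        rw [← hi']
        refine eq_inv_of_mul_eq_one_left ?_
        rw [← pow_succ, ← hs₁4.trans (show 4 = 3 + 1 from rfl)]
        exact pow_orderOf_eq_one s₁
      rw [this]
      exact hreal s₁ hs₁ hs₁a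
  by_contra hst
  have hs₁s : s ∉ Subgroup.zpowers s₁ := by
    intro hm
    have h1 := hodd s₁ hs₁ hs₁a t ht hta ht₁
    have h2 := hodd t ht hta s hs hsa hst
    -- `s` and `t` differ by an odd power of `a`
    have h3 : s₁⁻¹ * s = s₁⁻¹ * t * (t⁻¹ * s) := by group
    have : ∀ i : ℤ, s₁ ^ i = s → s₁ ^ i ∈ Subgroup.zpowers s₁ := fun i _ => Subgroup.zpow_mem_zpowers _ _
    obtain ⟨c, hc⟩ := isConj_iff.1 hts
    -- a conjugate of `t` in `zpowers s₁` makes `t` conjugate to `a`
    have hs4 : orderOf s = 4 := by rw [← hc, orderOf_conj_eq, ht4]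
    have hfin : IsOfFinOrder s₁ := orderOf_pos_iff.1 (by rw [hout4 s₁ hs₁ hs₁a]; norm_num)
    obtain ⟨i, hi⟩ := hfin.mem_powers_iff_mem_zpowers.2 hm
    have hi' : s₁ ^ (i % 4) = s := by rw [← hout4 s₁ hs₁ hs₁a, pow_mod_orderOf]; exact hi
    have hlt : i % 4 < 4 := Nat.mod_lt _ (by norm_num)
    interval_cases hi4 : (i % 4)
    · rw [pow_zero] at hi'; rw [← hi', orderOf_one] at hs4; omega
    · rw [pow_one] at hi'; exact hta' (hc₁.trans (hi' ▸ hts.symm))
    · rw [pow_two, (h.inv s₁ hs₁ hs₁a).2, pow_one] at hi'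
      rw [← hi'] at hs4; omega
    · refine hta' ((hc₁.trans (hreal s₁ hs₁ hs₁a)).trans (IsConj.trans ?_ hts.symm))
      rw [show s₁⁻¹ = s from ?_]
      rw [← hi']
      refine (eq_inv_of_mul_eq_one_left ?_).symm
      rw [← pow_succ, ← (hout4 s₁ hs₁ hs₁a).trans (show 4 = 3 + 1 from rfl)]
      exact pow_orderOf_eq_one s₁
  have h1 := hodd s₁ hs₁ hs₁a t ht hta ht₁
  have h2 := hodd s₁ hs₁ hs₁a s hs hsa hs₁s
  apply hst
  have h3 : t⁻¹ * s = (s₁⁻¹ * t)⁻¹ * (s₁⁻¹ * s) := by group
  have h4 : t⁻¹ * s = 1 ∨ t⁻¹ * s = a ^ 2 := by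
    rw [h3]
    rcases h1 with e | e <;> rcases h2 with e' | e' <;> rw [e, e']
    · exact Or.inl (inv_mul_cancel a)
    · refine Or.inr ?_
      calc a⁻¹ * a⁻¹ = a⁻¹ * a⁻¹ * a ^ 4 := by rw [ha4, mul_one]
        _ = a ^ 2 := by group
    · exact Or.inr (by rw [inv_inv, pow_two])
    · exact Or.inl (by group)
  rcases h4 with e | e
  · rw [← inv_mul_eq_one.1 e]; exact Subgroup.mem_zpowers t
  · rw [inv_mul_eq_iff_eq_mul.1 e]
    exact mul_mem (Subgroup.mem_zpowers t) (hzin t ht hta)

theorem mem_center_aux : ∀ (N : ℕ) {G : Type u} [Group G] [Finite G] (z : G), Nat.card G = N →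
    Solitary z → pPrimeCore 2 G = ⊥ → z ∈ Subgroup.center G := by
  intro N
  induction N using Nat.strong_induction_on with
  | _ N IH =>
    intro G _ _ z hN hz hO
    classical
    have := Fintype.ofFinite G
    have : Fact (Nat.Prime 2) := ⟨Nat.prime_two⟩
    have hIH : ∀ (K : Subgroup G) (hK : z ∈ K), K.Normal → K ≠ ⊤ →
        (⟨z, hK⟩ : K) ∈ Subgroup.center K := fun K hK hn htop =>
      IH _ (hN ▸ lt_of_le_of_ne (Subgroup.card_le_card_group K)
        (fun h => htop ((Subgroup.card_eq_iff_eq_top K).1 h))) _ rfl (hz.subgroup K hK)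
        (have := hn; pPrimeCore_normal_eq_bot hO K)
    obtain ⟨S, hS⟩ := (IsPGroup.of_card (n := 1) (by rw [Nat.card_zpowers, hz.1, pow_one]) :
      IsPGroup 2 (Subgroup.zpowers z)).exists_le_sylow
    have hzS : z ∈ (S : Subgroup G) := hS (Subgroup.mem_zpowers z)
    have huniq : ∀ t ∈ (S : Subgroup G), orderOf t = 2 → t = z := fun t ht hto =>
      hz.2 t hto (IsolatedInv.commute_of_isPGroup hz.isolated S S.isPGroup' hzS ht)
    by_cases hcyc : IsCyclic (S : Subgroup G)
    · have hmin : (Nat.card G).minFac = 2 := by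
        rw [Nat.minFac_eq_two_iff, ← hz.1]; exact orderOf_dvd_natCard z
      have hc := IsCyclic.isComplement' hmin hcyc
      have hodd : Odd (Nat.card (MonoidHom.transferSylow S
          (IsCyclic.normalizer_le_centralizer hmin hcyc)).ker) := by
        rw [← hc.index_eq_card]
        exact Nat.not_even_iff_odd.1 fun he => S.not_dvd_index he.two_dvd
      rw [eq_bot_of_normal_odd hO _ hodd, Subgroup.isComplement'_bot_left] at hc
      exact Subgroup.mem_center_iff.2 fun g =>
        (IsolatedInv.commute_of_isPGroup hz.isolated S S.isPGroup' hzS (hc ▸ Subgroup.mem_top g)).eq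
    have hord : ∀ H : Subgroup (S : Subgroup G), Nat.card H = 2 →
        H = Subgroup.zpowers ⟨z, hzS⟩ := by
      intro H hH
      obtain ⟨t, ht⟩ := exists_prime_orderOf_dvd_card' (G := H) 2 (by rw [hH])
      have htz : ((t : (S : Subgroup G)) : G) = z :=
        huniq _ (t : (S : Subgroup G)).2 (by rw [Subgroup.orderOf_coe, Subgroup.orderOf_coe, ht])
      symm
      refine Subgroup.eq_of_le_of_card_ge (Subgroup.zpowers_le.2 ?_) ?_
      · rw [show (⟨z, hzS⟩ : (S : Subgroup G)) = (t : (S : Subgroup G)) from Subtype.ext htz.symm]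
        exact t.2
      · rw [hH, Nat.card_zpowers, Subgroup.orderOf_mk, hz.1]
    rcases PGroupsCyclic.isCyclic_or_quaternion S.isPGroup'
      (fun H K hH hK => (hord H hH).trans (hord K hK).symm) with h | ⟨-, n, ⟨e⟩⟩
    · exact absurd h hcyc
    obtain ⟨n, rfl⟩ : ∃ k, n = k + 1 := by
      refine Nat.exists_eq_add_of_le' (Nat.one_le_iff_ne_zero.2 fun h0 => hcyc ?_)
      subst h0
      exact e.isCyclic.2 QuaternionGroup.quaternionGroup_one_isCyclic
    obtain ⟨a, b, h⟩ := exists_gens (S : Subgroup G) (n := n + 1) (by omega) e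
    have hza : z = a ^ 2 ^ (n + 1) := h.eq_of_involution hzS hz.1
    have hfin : ∀ χ : IrrCharacter G, (χ : G → ℂ) ≠ (fun _ => 1) →
        (χ : G → ℂ) z = (χ : G → ℂ) 1 → z ∈ Subgroup.center G :=
      mem_center_of_apply_eq hz.isolated hIH
    rcases Nat.eq_zero_or_pos n with rfl | hn
    swap
    · obtain ⟨χ, -, h1, -, -, h2, -⟩ := ZStarQ16.exceptional_pair h (by omega)
      exact hfin χ h1 (by rw [hza]; exact h2)
    by_cases hfus : ∀ s ∈ (S : Subgroup G), orderOf s = 4 → IsConj a s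
    · obtain ⟨χ, h1, h2⟩ := ZStarQ8.exists_apply_eq h hfus
      exact hfin χ h1 (by rw [hza]; simpa using h2)
    -- transfer
    obtain ⟨t, htS, ht4, htt, hclosed⟩ := exists_closed_four h hfus
    let X : Subgroup (S : Subgroup G) := Subgroup.zpowers ⟨t, htS⟩
    have hcardS : Nat.card (S : Subgroup G) = 8 := by
      rw [Nat.card_congr e.toEquiv, Nat.card_eq_fintype_card, QuaternionGroup.card]
      norm_num
    have hidx : X.index = 2 := by
      have h1 := X.card_mul_index
      rw [hcardS, Nat.card_zpowers, Subgroup.orderOf_mk, ht4] at h1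
      omega
    have hmemX : ∀ x : (S : Subgroup G), x ∈ X ↔ (x : G) ∈ Subgroup.zpowers t := by
      intro x
      constructor
      · rintro ⟨k, rfl⟩; exact ⟨k, by simp⟩
      · rintro ⟨k, hk⟩; exact ⟨k, Subtype.ext (by simpa using hk)⟩
    let ψ : (S : Subgroup G) →* ℤˣ :=
      { toFun := fun x => if x ∈ X then 1 else -1
        map_one' := if_pos X.one_mem
        map_mul' := fun x y => by
          by_cases hx : x ∈ X <;> by_cases hy : y ∈ X <;>
            simp [Subgroup.mul_mem_iff_of_index_two hidx, hx, hy] }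
    have hsmall : ∀ x : (S : Subgroup G), orderOf x ∣ 2 → x ∈ X := by
      intro x hx
      rcases (Nat.dvd_prime Nat.prime_two).1 hx with h1 | h1
      · rw [orderOf_eq_one_iff.1 h1]; exact X.one_mem
      · rw [hmemX, huniq x x.2 ((Subgroup.orderOf_coe x).trans h1), hza]
        simp only [zero_add, pow_one]
        rw [← htt]
        exact mul_mem (Subgroup.mem_zpowers t) (Subgroup.mem_zpowers t)
    have hreal : IsConj t t⁻¹ ∧ ∀ s ∈ Subgroup.zpowers t, ¬ orderOf s ∣ 2 → IsConj t s := by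
      have hr : IsConj t t⁻¹ := by
        by_cases hta : t ∈ Subgroup.zpowers a
        · refine isConj_iff.2 ⟨b, h.conj_of_mem_zpowers h.b_mem h.not_mem hta⟩
        · refine isConj_iff.2 ⟨a, eq_inv_of_mul_eq_one_left ?_⟩
          obtain ⟨h1, h2⟩ := h.inv t htS hta
          rw [mul_inv_eq_iff_eq_mul] at h1
          have ha4 : a ^ 4 = 1 := by
            have := pow_orderOf_eq_one a; rw [h.order] at this; exact this
          calc a * t * a⁻¹ * t = a * t * (a⁻¹ * t) := by group
            _ = a * t * (t * a) := by rw [h1]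
            _ = a * (t * t) * a := by group
            _ = a * (a * a) * a := by rw [h2]; simp [pow_two]
            _ = a ^ 4 := by simp [pow_succ, mul_assoc]
            _ = 1 := ha4
      refine ⟨hr, fun s hs hso => ?_⟩
      have hfin' : IsOfFinOrder t := orderOf_pos_iff.1 (by rw [ht4]; norm_num)
      obtain ⟨i, hi⟩ := hfin'.mem_powers_iff_mem_zpowers.2 hs
      have hi' : t ^ (i % 4) = s := by rw [← ht4, pow_mod_orderOf]; exact hi
      have hlt : i % 4 < 4 := Nat.mod_lt _ (by norm_num)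
      interval_cases hi4 : (i % 4)
      · rw [← hi', pow_zero, orderOf_one] at hso; exact absurd (one_dvd 2) hso
      · rw [← hi', pow_one]
      · refine absurd (orderOf_dvd_of_pow_eq_one ?_) hso
        rw [← hi', ← pow_mul, ← ht4.trans (show 4 = 2 * 2 from rfl), pow_orderOf_eq_one]
      · have : s = t⁻¹ := by
          rw [← hi']
          refine eq_inv_of_mul_eq_one_left ?_
          rw [← pow_succ, ← ht4.trans (show 4 = 3 + 1 from rfl), pow_orderOf_eq_one]
        rw [this]; exact hr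
    have hclosedX : ∀ x y : (S : Subgroup G), IsConj (x : G) y → x ∈ X → y ∈ X := by
      intro x y hxy hx
      have ho : orderOf y = orderOf x := by
        obtain ⟨c, hc⟩ := isConj_iff.1 hxy
        rw [← Subgroup.orderOf_coe, ← Subgroup.orderOf_coe x, ← hc, orderOf_conj_eq]
      by_cases h2 : orderOf x ∣ 2
      · exact hsmall y (ho.symm ▸ h2)
      · rw [hmemX] at hx ⊢
        exact hclosed y y.2 ((hreal.2 x hx (by rwa [Subgroup.orderOf_coe])).trans hxy)
    obtain ⟨f, hf⟩ := exists_hom_of_fusion_invariant S ψ fun x y hxy => by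
      show (if x ∈ X then (1 : ℤˣ) else -1) = if y ∈ X then 1 else -1
      by_cases hx : x ∈ X
      · rw [if_pos hx, if_pos (hclosedX x y hxy hx)]
      · rw [if_neg hx, if_neg (fun hy => hx (hclosedX y x hxy.symm hy))]
    have hzker : z ∈ f.ker := by
      rw [MonoidHom.mem_ker, show z = ((⟨z, hzS⟩ : (S : Subgroup G)) : G) from rfl, hf]
      show (if _ then (1 : ℤˣ) else -1) ^ _ = 1
      rw [if_pos (hsmall _ (by rw [Subgroup.orderOf_mk, hz.1])), one_pow]
    refine mem_center_of_normal hz.isolated f.ker hzker (hIH _ hzker inferInstance fun htop => ?_)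
    obtain ⟨y, hy⟩ : ∃ y : (S : Subgroup G), y ∉ X := by
      by_contra hall
      push Not at hall
      rw [Subgroup.index_eq_one.2 (Subgroup.eq_top_iff' X |>.2 hall)] at hidx
      omega
    have h1 : f (y : G) = 1 := MonoidHom.mem_ker.1 (htop ▸ Subgroup.mem_top _)
    rw [hf] at h1
    have hodd : Odd (S : Subgroup G).index :=
      Nat.not_even_iff_odd.1 fun he => S.not_dvd_index he.two_dvd
    rw [show ψ y = -1 from if_neg hy, hodd.neg_one_pow] at h1
    exact absurd h1 (by decide)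

/-- The Brauer–Suzuki theorem: a solitary involution is central when `O(G) = 1`. -/
theorem mem_center_of_solitary {G : Type u} [Group G] [Finite G] {z : G} (hz : Solitary z)
    (hO : pPrimeCore 2 G = ⊥) : z ∈ Subgroup.center G :=
  mem_center_aux _ z rfl hz hO

end Cfsg.Agent.BrauerSuzukiCore
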