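import Mathlib
import Cfsg.Agent.Lib.BrauerSuzukiCore
import Cfsg.Agent.S1181

/-!
# Glauberman's Z*-theorem
-/

set_option autoImplicit false

open scoped ComplexConjugate

namespace Cfsg.Agent.ZStarTheorem

open Cfsg Cfsg.Agent.ZStarBasic

universe u

variable {G : Type u} [Group G]

theorem isolated_conj {z : G} (hz : IsIsolatedInvolution z) (g : G) :
    IsIsolatedInvolution (g * z * g⁻¹) := by
  refine ⟨(orderOf_conj_eq g z).trans hz.1, fun x hx => ?_⟩
  have h1 := hx.conj g⁻¹
  have e1 : g⁻¹ * (g * z * g⁻¹) * g⁻¹⁻¹ = z := by group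
  have e2 : g⁻¹ * (x * (g * z * g⁻¹) * x⁻¹) * g⁻¹⁻¹ =
      (g⁻¹ * x * g) * z * (g⁻¹ * x * g)⁻¹ := by group
  rw [e1, e2] at h1
  have h2 := hz.2 _ h1
  calc x * (g * z * g⁻¹) * x⁻¹ = g * ((g⁻¹ * x * g) * z * (g⁻¹ * x * g)⁻¹) * g⁻¹ := by group
    _ = g * z * g⁻¹ := by rw [h2]

theorem notMem_pPrimeCore [Finite G] {z : G} (hz : orderOf z = 2) : z ∉ pPrimeCore 2 G := fun h => by
  have : Fact (Nat.Prime 2) := ⟨Nat.prime_two⟩
  have h2 := Subgroup.orderOf_dvd_natCard _ h
  rw [hz] at h2
  exact HallCore.not_dvd_card_pPrimeCore 2 G h2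

/-- From centrality modulo the odd core to membership of commutators in the odd core. -/
theorem commutator_mem_core [Finite G] {z : G} (hz : IsIsolatedInvolution z)
    (h : ∀ w : G ⧸ pPrimeCore 2 G, IsIsolatedInvolution w → w ∈ Subgroup.center _) (g : G) :
    z * g * z⁻¹ * g⁻¹ ∈ pPrimeCore 2 G := by
  have h1 := (S1181.result z hz (pPrimeCore 2 G) (notMem_pPrimeCore hz.1)).2
  have h2 := Subgroup.mem_center_iff.1 (h _ h1) (g : G ⧸ pPrimeCore 2 G)
  rw [← QuotientGroup.eq_one_iff]
  simp only [QuotientGroup.mk_mul, QuotientGroup.mk_inv]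
  rw [← h2, mul_inv_cancel_right, mul_inv_cancel]

theorem mem_center_aux : ∀ (N : ℕ) {G : Type u} [Group G] [Finite G] (z : G), Nat.card G = N →
    IsIsolatedInvolution z → pPrimeCore 2 G = ⊥ → z ∈ Subgroup.center G := by
  intro N
  induction N using Nat.strong_induction_on with
  | _ N IH =>
    intro G _ _ z hN hz hO
    classical
    have := Fintype.ofFinite G
    have : Fact (Nat.Prime 2) := ⟨Nat.prime_two⟩
    by_cases hsol : Solitary z
    · exact BrauerSuzukiCore.mem_center_of_solitary hsol hO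
    obtain ⟨t₀, ht₀, hc₀, hne₀⟩ : ∃ t, orderOf t = 2 ∧ Commute t z ∧ t ≠ z := by
      by_contra hnone
      exact hsol ⟨hz.1, fun t ht hc => by_contra fun hne => hnone ⟨t, ht, hc, hne⟩⟩
    by_contra hzc
    have hlt : ∀ K : Subgroup G, K ≠ ⊤ → Nat.card K < N := fun K hK =>
      hN ▸ lt_of_le_of_ne (Subgroup.card_le_card_group K)
        (fun h => hK ((Subgroup.card_eq_iff_eq_top K).1 h))
    have hIH : ∀ (K : Subgroup G) (hK : z ∈ K), K.Normal → K ≠ ⊤ →
        (⟨z, hK⟩ : K) ∈ Subgroup.center K := fun K hK hn htop =>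
      IH _ (hlt K htop) _ rfl (isolated_subgroup hz K hK)
        (have := hn; pPrimeCore_normal_eq_bot hO K)
    -- no involution is central
    have hnc : ∀ y : G, orderOf y = 2 → y ∉ Subgroup.center G := by
      intro y hy hyc
      have hyz : y ≠ z := fun e => hzc (e ▸ hyc)
      set Y := Subgroup.zpowers y with hY
      have hYn : Y.Normal := ⟨fun n hn g => by
        rwa [Subgroup.mem_center_iff.1 ((Subgroup.zpowers_le.2 hyc) hn) g, mul_inv_cancel_right]⟩
      have hY2 : ∀ w ∈ Y, w = 1 ∨ w = y := by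
        intro w hw
        obtain ⟨k, rfl⟩ := Subgroup.mem_zpowers_iff.1 hw
        rw [← zpow_mod_orderOf, hy]
        rcases Int.emod_two_eq_zero_or_one k with h | h <;> simp [h]
      have hzY : z ∉ Y := fun h => (hY2 z h).elim (IsolatedInv.ne_one_of_orderOf_two hz.1) hyz.symm
      have hcardY : Nat.card Y = 2 := by rw [hY, Nat.card_zpowers, hy]
      have hOQ : pPrimeCore 2 (G ⧸ Y) = ⊥ := by
        set Q := (pPrimeCore 2 (G ⧸ Y)).comap (QuotientGroup.mk' Y) with hQ
        have hQn : Q.Normal := (HallCore.pPrimeCore_normal 2 _).comap _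
        have hcard := HallCore.card_comap_mk' Y (pPrimeCore 2 (G ⧸ Y))
        rw [hcardY, ← hQ] at hcard
        obtain ⟨R⟩ : Nonempty (Sylow 2 Q) := inferInstance
        have hR : Nat.card (R : Subgroup Q) = 2 := by
          rw [R.card_eq_multiplicity, ← hcard, Nat.factorization_mul Nat.card_pos.ne' two_ne_zero,
            Finsupp.coe_add, Pi.add_apply, Nat.factorization_eq_zero_of_not_dvd
              (HallCore.not_dvd_card_pPrimeCore 2 _), Nat.Prime.factorization_self Nat.prime_two]
          norm_num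
        have hcyc : IsCyclic (R : Subgroup Q) := isCyclic_of_prime_card hR
        have hmin : (Nat.card Q).minFac = 2 := by
          rw [Nat.minFac_eq_two_iff, ← hcard]; exact dvd_mul_left 2 _
        have hcompl := IsCyclic.isComplement' hmin hcyc
        rw [eq_bot_of_normal_odd (pPrimeCore_normal_eq_bot hO Q)
          (MonoidHom.transferSylow R (IsCyclic.normalizer_le_centralizer hmin hcyc)).ker (by
          rw [← hcompl.index_eq_card]
          exact Nat.not_even_iff_odd.1 fun he => R.not_dvd_index he.two_dvd),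
          Subgroup.isComplement'_bot_left] at hcompl
        rw [← Subgroup.card_eq_one]
        rw [hcompl, Subgroup.card_top, ← hcard] at hR
        omega
      have h2 : Nat.card (G ⧸ Y) < N := by
        have h3 := Subgroup.card_eq_card_quotient_mul_card_subgroup Y
        rw [hcardY, hN] at h3
        have : 0 < Nat.card (G ⧸ Y) := Nat.card_pos
        omega
      have hc := IH _ h2 _ rfl (S1181.result z hz Y hzY).2 hOQ
      refine hzc (Subgroup.mem_center_iff.2 fun g => mul_inv_eq_iff_eq_mul.1 (hz.2 g ?_))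
      have h4 : (g * z * g⁻¹)⁻¹ * z ∈ Y := by
        rw [← QuotientGroup.eq]
        simp only [QuotientGroup.mk_mul, QuotientGroup.mk_inv]
        rw [Subgroup.mem_center_iff.1 hc (g : G ⧸ Y), mul_inv_cancel_right]
      have hcen : (g * z * g⁻¹)⁻¹ * z ∈ Subgroup.center G := Subgroup.zpowers_le.2 hyc h4
      rw [show g * z * g⁻¹ = z * ((g * z * g⁻¹)⁻¹ * z)⁻¹ by group]
      exact (Commute.refl z).mul_right (Subgroup.mem_center_iff.1 (inv_mem hcen) z)
    obtain ⟨M, hM⟩ := ZStarCount.exists_isPModular 2 Nat.prime_two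
    -- products with the conjugates of `z`
    have key : ∀ t : G, orderOf t = 2 → Commute t z → t ≠ z → ∀ χ : IrrCharacter G,
        χ ∈ principalBlock M G →
        (χ : G → ℂ) z * (χ : G → ℂ) t = (χ : G → ℂ) 1 * (χ : G → ℂ) (z * t) := by
      intro t ht htz htne χ hχ
      refine ZStarCount.mul_eq_of_forall_conj χ z t _ fun v hv => ?_
      obtain ⟨g, rfl⟩ := isConj_iff.1 hv
      by_cases hvz : g * z * g⁻¹ = z
      · rw [hvz]
      set v := g * z * g⁻¹ with hv'
      have hv2 : v * v = 1 := IsolatedInv.conj_sq hz.1 g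
      have ht2 : t * t = 1 := IsolatedInv.sq_of_orderOf_two ht
      have heven : Even (orderOf (v * t)) := by
        by_contra hodd
        obtain ⟨c, -, hc⟩ := IsolatedInv.exists_conj_of_odd hv2 ht2 (Nat.not_even_iff_odd.1 hodd)
        have e : c * v * c⁻¹ = (c * g) * z * (c * g)⁻¹ := by rw [hv']; group
        exact htne (hc ▸ e ▸ hz.2 (c * g) (e ▸ hc.symm ▸ htz.symm))
      obtain ⟨y, hyd, hy1, hy2, hyv, hyt⟩ := IsolatedInv.exists_central_of_even hv2 ht2 heven
      have hyo : orderOf y = 2 := orderOf_eq_prime (by rw [pow_two, hy2]) hy1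
      set C := Subgroup.centralizer ({y} : Set G) with hC
      have hCne : C ≠ ⊤ := fun h => hnc y hyo (Subgroup.mem_center_iff.2 fun x =>
        Subgroup.mem_centralizer_singleton_iff.1 (show x ∈ C by rw [h]; trivial))
      have hvC : v ∈ C := Subgroup.mem_centralizer_singleton_iff.2 hyv.eq.symm
      have htC : t ∈ C := Subgroup.mem_centralizer_singleton_iff.2 hyt.eq.symm
      have hd2 : (v * t) ^ 2 ∈ centralizerPPrimeCore 2 y := by
        have h1 := commutator_mem_core (isolated_subgroup (isolated_conj hz g) C hvC)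
          (fun w hw => IH _ ((Nat.card_le_card_of_surjective (QuotientGroup.mk' _)
            (QuotientGroup.mk'_surjective _)).trans_lt (hlt C hCne)) w rfl hw
            (HallCore.pPrimeCore_quotient_self 2 C)) ⟨t, htC⟩
        refine ⟨_, h1, ?_⟩
        simp only [map_mul, map_inv, Subgroup.coe_subtype]
        show v * t * v⁻¹ * t⁻¹ = (v * t) ^ 2
        rw [IsolatedInv.inv_eq_self_of_sq hv2, IsolatedInv.inv_eq_self_of_sq ht2, pow_two,
          mul_assoc (v * t)]
      obtain ⟨hKC, hKodd, hKn⟩ := ZStarPrincipal.centralizerPPrimeCore_spec (p := 2) y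
      obtain ⟨m, hm⟩ := heven
      rw [← two_mul] at hm
      have hm0 : 0 < m := by have := orderOf_pos (v * t); omega
      have hmodd : Odd m := by
        have h1 : orderOf ((v * t) ^ 2) = m := by
          rw [orderOf_pow' _ two_ne_zero, hm, Nat.gcd_eq_right (dvd_mul_right 2 m),
            Nat.mul_div_cancel_left _ two_pos]
        rw [← h1]
        exact Nat.not_even_iff_odd.1 fun he =>
          hKodd (he.two_dvd.trans (Subgroup.orderOf_dvd_natCard _ hd2))
      obtain ⟨q, hq⟩ := hmodd
      have hym : y = (v * t) ^ m := by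
        have hfin : IsOfFinOrder (v * t) := isOfFinOrder_of_finite _
        obtain ⟨i, hi⟩ := hfin.mem_powers_iff_mem_zpowers.2 hyd
        change (v * t) ^ i = y at hi
        have h1 : 2 * m ∣ i * 2 := by
          rw [← hm]
          exact orderOf_dvd_of_pow_eq_one (by rw [pow_mul, pow_two, hi, hy2])
        rw [mul_comm i 2] at h1
        obtain ⟨j, rfl⟩ := Nat.dvd_of_mul_dvd_mul_left two_pos h1
        have hpm : ((v * t) ^ m) ^ 2 = 1 := by rw [← pow_mul, mul_comm, ← hm, pow_orderOf_eq_one]
        rw [← hi]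
        show (v * t) ^ (m * j) = _
        rcases Nat.even_or_odd' j with ⟨l, rfl | rfl⟩
        · exact absurd (by rw [← hi]; show (v * t) ^ (m * (2 * l)) = 1; rw [pow_mul, pow_mul, hpm, one_pow]) hy1
        · rw [pow_mul, pow_succ, pow_mul, hpm, one_pow, one_mul]
      set h := (v * t) ^ (m + 1) with hh
      have hhK : h ∈ centralizerPPrimeCore 2 y := by
        rw [hh, show m + 1 = 2 * (q + 1) by omega, pow_mul]
        exact pow_mem hd2 _
      have hyh : y * h = v * t := by
        rw [hym, hh, ← pow_add, show m + (m + 1) = orderOf (v * t) + 1 by omega, pow_succ,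
          pow_orderOf_eq_one, one_mul]
      have hχd : (χ : G → ℂ) (v * t) = (χ : G → ℂ) y := by
        rw [← hyh]
        exact ZStarPrincipal.apply_eq_of_mem hM ⟨1, by rw [hyo, pow_one]⟩ hKC hKodd hKn hχ hhK
      rw [hχd]
      -- `y` is conjugate to `z * t`
      have hvy : v * y * (v * y) = 1 := by
        rw [hyv.mul_mul_mul_comm, hv2, hy2, one_mul]
      have hprod : v * y * t = h := by
        rw [← hyv.eq, mul_assoc, ← hyh, ← mul_assoc, hy2, one_mul]
      obtain ⟨c, -, hc⟩ := IsolatedInv.exists_conj_of_odd hvy ht2 (by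
        rw [hprod]
        exact Nat.not_even_iff_odd.1 fun he =>
          hKodd (he.two_dvd.trans (Subgroup.orderOf_dvd_natCard _ hhK)))
      set y' := g⁻¹ * y * g with hy'
      have hy'z : Commute y' z := by
        have h1 := hyv.conj g⁻¹
        rw [inv_inv, show g⁻¹ * v * g = z by rw [hv']; group] at h1
        exact h1
      have hconj : (c * g) * (z * y') * (c * g)⁻¹ = t := by
        refine Eq.trans ?_ hc
        rw [hy', hv']; group
      obtain ⟨c', -, hc'z, hc'⟩ := IsolatedInv.exists_commute_conj hz ⊤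
        (Subgroup.le_normalizer (Subgroup.mem_top z)) (Subgroup.mem_top (c * g))
        ((Commute.refl z).mul_left hy'z) htz hconj
      have h5 : (c' * g⁻¹) * y * (c' * g⁻¹)⁻¹ = z * t := by
        have e1 : c' * z * c'⁻¹ = z := by rw [hc'z.eq, mul_inv_cancel_right]
        calc (c' * g⁻¹) * y * (c' * g⁻¹)⁻¹ = c' * y' * c'⁻¹ := by rw [hy']; group
          _ = z * (c' * (z * y') * c'⁻¹) := by
            have hz2 := IsolatedInv.sq_of_orderOf_two hz.1
            calc c' * y' * c'⁻¹ = (z * z) * (c' * y' * c'⁻¹) := by rw [hz2, one_mul]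
              _ = z * ((c' * z * c'⁻¹) * (c' * y' * c'⁻¹)) := by rw [e1, mul_assoc]
              _ = z * (c' * (z * y') * c'⁻¹) := by group
          _ = z * t := by rw [hc']
      rw [← h5]
      exact (BlockTheoryCentre.irr_classFun χ y _).symm
    -- the contradiction
    have hz2 := IsolatedInv.sq_of_orderOf_two hz.1
    have ht2 := IsolatedInv.sq_of_orderOf_two ht₀
    set s := z * t₀ with hs
    have hs1 : s ≠ 1 := fun e => hne₀ (by
      rw [hs, mul_eq_one_iff_inv_eq, IsolatedInv.inv_eq_self_of_sq hz2] at e; exact e.symm)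
    have hso : orderOf s = 2 := orderOf_eq_prime (by
      rw [pow_two, hs, hc₀.mul_mul_mul_comm, hz2, ht2, one_mul]) hs1
    have hsz : Commute s z := (Commute.refl z).mul_left hc₀
    have hsne : s ≠ z := fun e => IsolatedInv.ne_one_of_orderOf_two ht₀ (mul_eq_left.1 e)
    have hzs : z * s = t₀ := by rw [hs, ← mul_assoc, hz2, one_mul]
    have hneg : ∀ χ : IrrCharacter G, χ ∈ principalBlock M G → (χ : G → ℂ) ≠ (fun _ => 1) →
        (χ : G → ℂ) t₀ + (χ : G → ℂ) s = 0 := by
      intro χ hχ hne
      have k1 := key t₀ ht₀ hc₀ hne₀ χ hχ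
      have k2 := key s hso hsz hsne χ hχ
      rw [hzs] at k2
      rw [← hs] at k1
      have hd := BlockTheoryCentre.irr_one_ne_zero χ
      have hzne : (χ : G → ℂ) z ≠ (χ : G → ℂ) 1 := fun e =>
        hzc (mem_center_of_apply_eq hz hIH χ hne e)
      have : ((χ : G → ℂ) z - (χ : G → ℂ) 1) * ((χ : G → ℂ) t₀ + (χ : G → ℂ) s) = 0 := by
        linear_combination k1 + k2
      exact (mul_eq_zero.1 this).resolve_left (sub_ne_zero.2 hzne)
    have horth : ∀ x : G, orderOf x = 2 → ∑ χ : IrrCharacter G,
        (if χ ∈ principalBlock M G then (χ : G → ℂ) 1 * (χ : G → ℂ) x else 0) = 0 := by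
      intro x hx
      refine Eq.trans (Finset.sum_congr rfl fun χ _ => ?_)
        (BlockTheoryIdem.weak_orthogonality hM BlockPrincipal81.isPBlock_principal (x := 1) (y := x)
          (by simp) (by rw [hx]))
      rw [← BlockTheoryCentre.irr_inv,
        IsolatedInv.inv_eq_self_of_sq (IsolatedInv.sq_of_orderOf_two hx)]
    have hsum := congrArg₂ (· + ·) (horth t₀ ht₀) (horth s hso)
    simp only [add_zero, ← Finset.sum_add_distrib] at hsum
    rw [Finset.sum_eq_single (BlockPrincipal81.oneChar G)] at hsum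
    · rw [if_pos (BlockPrincipal81.oneChar_mem hM), if_pos (BlockPrincipal81.oneChar_mem hM)] at hsum
      change (1 : ℂ) * 1 + 1 * 1 = 0 at hsum
      norm_num at hsum
    · intro χ _ hne
      by_cases hχ : χ ∈ principalBlock M G
      · rw [if_pos hχ, if_pos hχ, ← mul_add, hneg χ hχ fun e => hne (Subtype.ext e), mul_zero]
      · simp [hχ]
    · simp

theorem mem_center_of_isolated {G : Type u} [Group G] [Finite G] {z : G}
    (hz : IsIsolatedInvolution z) (hO : pPrimeCore 2 G = ⊥) : z ∈ Subgroup.center G :=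
  mem_center_aux _ z rfl hz hO

/-- Glauberman's Z*-theorem: an isolated involution is central modulo `O(G)`. -/
theorem commutator_mem [Finite G] {z : G} (hz : IsIsolatedInvolution z) (g : G) :
    z * g * z⁻¹ * g⁻¹ ∈ pPrimeCore 2 G :=
  commutator_mem_core hz (fun _ hw => mem_center_of_isolated hw
    (HallCore.pPrimeCore_quotient_self 2 G)) g

theorem odd_card_pPrimeCore [Finite G] : Odd (Nat.card (pPrimeCore 2 G)) :=
  Nat.coprime_two_right.1 (HallCore.coprime_card_pPrimeCore 2 G)

/-- The form with a normal subgroup of odd order. -/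
theorem exists_odd_normal [Finite G] {z : G} (hz : IsIsolatedInvolution z) :
    ∃ N : Subgroup G, N.Normal ∧ Odd (Nat.card N) ∧ ∀ g : G, z * g * z⁻¹ * g⁻¹ ∈ N :=
  ⟨pPrimeCore 2 G, HallCore.pPrimeCore_normal 2 G, odd_card_pPrimeCore, commutator_mem hz⟩

end Cfsg.Agent.ZStarTheorem
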