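import Mathlib
import Cfsg.Agent.Lib.SimpleSearch
import Cfsg.Agent.Lib.SimpleCentralizerKill
import Cfsg.Agent.Lib.Simple720
import Cfsg.Agent.Lib.ZStarTheorem
import Cfsg.Agent.Lib.PGroupsBasic

/-!
A simple group of order 7920: Sylow subgroups of order 11 and 5 are self-centralising, with
normalisers of order 55 and 20.
-/

set_option autoImplicit false
set_option linter.style.haveILetI false
set_option linter.unusedSectionVars false

namespace Cfsg.Agent.M11Order91

open Subgroup Cfsg.Agent.SimpleOrder Cfsg.Agent.SimpleOrderCheck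

section General

variable {G : Type*} [Group G] [Finite G]

theorem moved_dvd {α : Type*} [Finite α] [MulAction G α] {r : ℕ} [hr : Fact r.Prime] {g : G}
    {k : ℕ} (hg : g ^ r ^ k = 1) : r ∣ Nat.card α - Nat.card (MulAction.fixedBy α g) := by
  have hZ : IsPGroup r (Subgroup.zpowers g) := fun a => ⟨k, Subtype.ext (by
    obtain ⟨n, hn⟩ := Subgroup.mem_zpowers_iff.1 a.2
    show (a : G) ^ (r ^ k) = 1
    rw [← hn, ← zpow_natCast, ← zpow_mul, mul_comm, zpow_mul, zpow_natCast, hg, one_zpow])⟩
  have h := hZ.card_modEq_card_fixedPoints α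
  have e : MulAction.fixedPoints (Subgroup.zpowers g) α = MulAction.fixedBy α g := by
    ext a
    constructor
    · exact fun ha => ha ⟨g, Subgroup.mem_zpowers g⟩
    · rintro ha ⟨b, hb⟩
      obtain ⟨n, rfl⟩ := Subgroup.mem_zpowers_iff.1 hb
      exact MulAction.zpow_smul_eq_iff_period_dvd.2 (dvd_trans (by
        rw [MulAction.period_eq_one_iff.2 ha]; exact one_dvd _) dvd_rfl)
  rw [e] at h
  exact (Nat.modEq_iff_dvd' (Nat.card_le_card_of_injective _ Subtype.val_injective)).1 h.symm

theorem fixed_commute {α : Type*} [Finite α] [MulAction G α] {q : ℕ} [Fact q.Prime] (P : Subgroup G)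
    (hP : IsPGroup q P) {g : G} (hg : ∀ x ∈ P, g * x = x * g) :
    Nat.card (MulAction.fixedBy α g) % q =
      Nat.card {a : α // g • a = a ∧ ∀ x ∈ P, x • a = a} % q := by
  letI : MulAction P (MulAction.fixedBy α g) :=
    { smul := fun x a => ⟨(x : G) • (a : α), by
        show g • (x : G) • (a : α) = (x : G) • (a : α)
        rw [← mul_smul, hg x x.2, mul_smul, a.2]⟩
      one_smul := fun a => Subtype.ext (one_smul G (a : α))
      mul_smul := fun x y a => Subtype.ext (mul_smul (x : G) y (a : α)) }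
  have h := hP.card_modEq_card_fixedPoints (MulAction.fixedBy α g)
  refine h.trans ?_
  rw [Nat.card_congr
    { toFun := fun a : MulAction.fixedPoints P (MulAction.fixedBy α g) =>
        (⟨a.1.1, a.1.2, fun x hx => congrArg Subtype.val (a.2 ⟨x, hx⟩)⟩ :
          {a : α // g • a = a ∧ ∀ x ∈ P, x • a = a})
      invFun := fun a => ⟨⟨a.1, a.2.1⟩, fun x => Subtype.ext (a.2.2 x.1 x.2)⟩
      left_inv := fun _ => rfl
      right_inv := fun _ => rfl }]

/-- A Sylow subgroup whose normalizer lies in `M` fixes only the trivial coset of `M`. -/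
theorem mk_eq_one {q : ℕ} [Fact q.Prime] (P : Sylow q G) {M : Subgroup G}
    (hM : Subgroup.normalizer ((P : Subgroup G) : Set G) ≤ M) {a : G ⧸ M}
    (ha : ∀ x ∈ (P : Subgroup G), x • a = a) : a = ((1 : G) : G ⧸ M) := by
  obtain ⟨c, rfl⟩ := QuotientGroup.mk_surjective a
  have hPM : (P : Subgroup G) ≤ M := Subgroup.le_normalizer.trans hM
  have hQM : ((c⁻¹ • P : Sylow q G) : Subgroup G) ≤ M := by
    intro y hy
    rw [Sylow.coe_subgroup_smul, Subgroup.mem_pointwise_smul_iff_inv_smul_mem] at hy
    simp only [← map_inv, inv_inv, MulAut.smul_def, MulAut.conj_apply] at hy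
    have := ha _ hy
    rw [MulAction.Quotient.smul_mk, QuotientGroup.eq] at this
    have h2 := inv_mem this
    simpa [mul_assoc] using h2
  obtain ⟨m, hm⟩ := MulAction.exists_smul_eq ↥M ((c⁻¹ • P).subtype hQM) (P.subtype hPM)
  rw [Sylow.smul_subtype] at hm
  have hmP : ((m : G) * c⁻¹) • P = P := by
    rw [mul_smul]; exact Sylow.subtype_injective hm
  have hN : (m : G) * c⁻¹ ∈ M := hM (Sylow.smul_eq_iff_mem_normalizer.1 hmP)
  rw [QuotientGroup.eq, mul_one]
  have := mul_mem (inv_mem m.2) hN
  simpa [← mul_assoc] using this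

/-- Fixed points of an element centralising a Sylow subgroup on the cosets of an overgroup of its
normalizer. -/
theorem fixed_mod {q : ℕ} [hq : Fact q.Prime] (P : Sylow q G) {M : Subgroup G}
    (hM : Subgroup.normalizer ((P : Subgroup G) : Set G) ≤ M) {g : G}
    (hg : g ∈ Subgroup.centralizer ((P : Subgroup G) : Set G)) :
    Nat.card (MulAction.fixedBy (G ⧸ M) g) % q = 1 := by
  rw [fixed_commute (P : Subgroup G) P.2 fun x hx => (Subgroup.mem_centralizer_iff.1 hg x hx).symm]
  have hgM : g ∈ M := hM (Subgroup.centralizer_le_normalizer _ hg)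
  have hPM : (P : Subgroup G) ≤ M := Subgroup.le_normalizer.trans hM
  have : Nat.card {a : G ⧸ M // g • a = a ∧ ∀ x ∈ (P : Subgroup G), x • a = a} = 1 := by
    rw [Nat.card_eq_one_iff_unique]
    refine ⟨⟨fun a b => Subtype.ext ((mk_eq_one P hM a.2.2).trans (mk_eq_one P hM b.2.2).symm)⟩,
      ⟨⟨((1 : G) : G ⧸ M), ?_, fun x hx => ?_⟩⟩⟩
    · rw [MulAction.Quotient.smul_mk, QuotientGroup.eq]
      simpa using hgM
    · rw [MulAction.Quotient.smul_mk, QuotientGroup.eq]
      simpa using hPM hx
  rw [this, Nat.mod_eq_of_lt hq.out.one_lt]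

theorem eq_one_of_all_fixed [IsSimpleGroup G] {M : Subgroup G} (hM : M ≠ ⊤) {g : G}
    (h : Nat.card (MulAction.fixedBy (G ⧸ M) g) = M.index) : g = 1 := by
  have hall : ∀ a : G ⧸ M, g • a = a := by
    have hb : (MulAction.fixedBy (G ⧸ M) g) = Set.univ := by
      apply Set.eq_univ_of_univ_subset
      exact (Set.eq_of_subset_of_ncard_le (Set.subset_univ _) (by
        rw [Set.ncard_univ, ← Nat.card_coe_set_eq, h, Subgroup.index]) Set.finite_univ).ge
    intro a
    have : a ∈ MulAction.fixedBy (G ⧸ M) g := hb ▸ Set.mem_univ a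
    exact this
  have hker : g ∈ (MulAction.toPermHom G (G ⧸ M)).ker := Equiv.ext hall
  rw [← Subgroup.normalCore_eq_ker] at hker
  rcases eq_bot_or_top (Subgroup.normalCore_normal M) with h' | h'
  · rwa [h', Subgroup.mem_bot] at hker
  · exact absurd (top_le_iff.1 (h' ▸ Subgroup.normalCore_le M)) hM

end General

variable {G : Type*} [Group G] [Finite G] [IsSimpleGroup G] (hn : Nat.card G = 7920)

include hn in
theorem not_comm : ¬ IsMulCommutative G := not_comm_of_not_prime (hn ▸ by norm_num)

instance fact11 : Fact (Nat.Prime 11) := ⟨by norm_num⟩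
instance fact5 : Fact (Nat.Prime 5) := ⟨by norm_num⟩

include hn in
theorem card_eleven (P : Sylow 11 G) : Nat.card ↥(P : Subgroup G) = 11 :=
  sylow_card_of_once (by rw [hn]) (by rw [hn]; norm_num) P

include hn in
theorem card_five (P : Sylow 5 G) : Nat.card ↥(P : Subgroup G) = 5 :=
  sylow_card_of_once (by rw [hn]) (by rw [hn]; norm_num) P

include hn in
theorem data_eleven (P : Sylow 11 G) :
    (Nat.card (Sylow 11 G) = 12 ∧ 66 ≤ Nat.card ↥(centralizer ((P : Subgroup G) : Set G))) ∨
    (Nat.card (Sylow 11 G) = 45 ∧ Nat.card ↥(normalizer ((P : Subgroup G) : Set G)) = 176 ∧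
      Nat.card ↥(centralizer ((P : Subgroup G) : Set G)) = 88) ∨
    (Nat.card (Sylow 11 G) = 144 ∧ Nat.card ↥(normalizer ((P : Subgroup G) : Set G)) = 55 ∧
      Nat.card ↥(centralizer ((P : Subgroup G) : Set G)) = 11) := by
  have h := mem_cand (not_comm hn) (p := 11) (v := 1) (m := 720) Nat.one_pos
    (by rw [hn]; norm_num) (by norm_num)
  rw [hn] at h
  obtain ⟨e, he, hC, hN⟩ := exists_eList (not_comm hn) P (card_eleven hn P)
  rw [hn] at he hC hN
  rw [← hC, ← hN]
  have key : ∀ d ∈ cand 7920 11 720, ∀ e ∈ eList 7920 11 d,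
      (d = 12 ∧ 66 ≤ 7920 / d / e) ∨ (d = 45 ∧ 7920 / d = 176 ∧ 7920 / d / e = 88) ∨
        (d = 144 ∧ 7920 / d = 55 ∧ 7920 / d / e = 11) := by decide +kernel
  exact key _ h e he

include hn in
theorem normalizer_eleven (P : Sylow 11 G) :
    Nat.card ↥(normalizer ((P : Subgroup G) : Set G)) = 55 ∧
      Nat.card ↥(centralizer ((P : Subgroup G) : Set G)) = 11 ∧ Nat.card (Sylow 11 G) = 144 := by
  haveI : Fact (Nat.Prime 2) := ⟨Nat.prime_two⟩
  have hG := not_comm hn
  set N := normalizer ((P : Subgroup G) : Set G) with hNdef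
  set C := centralizer ((P : Subgroup G) : Set G) with hCdef
  have hN1 : N ≠ ⊤ := normalizer_ne_top hG (by rw [hn]; norm_num) P
  have hidx : N.index = Nat.card (Sylow 11 G) := P.card_eq_index_normalizer.symm
  rcases data_eleven hn P with ⟨hd, hc⟩ | ⟨hd, hN, hc⟩ | ⟨hd, hN, hc⟩
  · exfalso
    have h : Nat.card ↥C ∣ 11 * (N.index - 11).factorial :=
      (card_normalizer_dvd_of_index hG (by norm_num) P (card_eleven hn P) N hN1
      (by rw [hidx, hd]; norm_num)).2
    rw [hidx, hd] at h
    have := Nat.le_of_dvd (by norm_num) h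
    norm_num at this
    rw [← hCdef] at hc
    omega
  · exfalso
    rw [← hNdef] at hN
    -- a central involution of a Sylow `2`-subgroup of `N` centralising `P`
    obtain ⟨T⟩ : Nonempty (Sylow 2 ↥N) := inferInstance
    set T' := (T : Subgroup ↥N).map N.subtype with hT'
    have hT : Nat.card ↥T' = 16 := by
      rw [hT', Subgroup.card_map_of_injective N.subtype_injective,
        sylow_card_of_eq (k := 4) (m := 11) (by rw [hN]; norm_num) (by norm_num) T]
      norm_num
    have hCN : C ≤ N := Subgroup.centralizer_le_normalizer _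
    haveI hCn : (C.subgroupOf N).Normal := Subgroup.normal_subgroupOf_centralizer_normalizer _
    haveI : (((C.subgroupOf N)).subgroupOf (T : Subgroup ↥N)).Normal := inferInstance
    have hne : (C.subgroupOf N).subgroupOf (T : Subgroup ↥N) ≠ ⊥ := by
      intro h
      rw [Subgroup.subgroupOf_eq_bot] at h
      have hinj : Function.Injective (fun p : ↥(C.subgroupOf N) × ↥(T : Subgroup ↥N) =>
          (p.1 : ↥N) * (p.2 : ↥N)) := Subgroup.mul_injective_of_disjoint h
      have h' := Nat.card_le_card_of_injective _ hinj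
      rw [Nat.card_prod, Nat.card_congr (Subgroup.subgroupOfEquivOfLe hCN).toEquiv, hc, hN,
        sylow_card_of_eq (k := 4) (m := 11) (by rw [hN]; norm_num) (by norm_num) T] at h'
      norm_num at h'
    have hbot := PGroupsBasic.inf_center_ne_bot (p := 2) T.2 hne
    obtain ⟨t0, ht0, ht⟩ := PGroupsBasic.exists_orderOf_eq_of_ne_bot (p := 2) (T.2.to_subgroup _) hbot
    have htC : (((t0 : ↥N)) : G) ∈ C := (Subgroup.mem_inf.1 ht0).1
    set t : G := ((t0 : ↥N) : G) with htdef
    have htord : orderOf t = 2 := by rw [htdef, Subgroup.orderOf_coe, Subgroup.orderOf_coe, ht]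
    set H := centralizer ({t} : Set G) with hH
    have hPH : (P : Subgroup G) ≤ H := fun x hx => Subgroup.mem_centralizer_singleton_iff.2
      (Subgroup.mem_centralizer_iff.1 htC x hx)
    have hTH : T' ≤ H := by
      rintro _ ⟨u, hu, rfl⟩
      rw [Subgroup.mem_centralizer_singleton_iff]
      exact congrArg Subtype.val (congrArg Subtype.val
        (Subgroup.mem_center_iff.1 (Subgroup.mem_inf.1 ht0).2 ⟨u, hu⟩))
    have hNH : N ≤ H := by
      have hle : (P : Subgroup G) ⊔ T' ≤ N := sup_le Subgroup.le_normalizer (Subgroup.map_subtype_le _)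
      have : (P : Subgroup G) ⊔ T' = N := by
        refine Subgroup.eq_of_le_of_card_ge hle ?_
        rw [hN]
        refine Nat.le_of_dvd Nat.card_pos (Nat.Coprime.mul_dvd_of_dvd_of_dvd
          (by norm_num : Nat.Coprime 11 16) ?_ ?_)
        · exact (card_eleven hn P).symm.dvd.trans (Subgroup.card_dvd_of_le le_sup_left)
        · rw [← hT]; exact Subgroup.card_dvd_of_le le_sup_right
      rw [← this]; exact sup_le hPH hTH
    have ht1 : t ≠ 1 := fun h => by rw [h, orderOf_one] at htord; omega
    have hHtop : H ≠ ⊤ := by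
      intro h
      have hm : t ∈ Subgroup.center G := Subgroup.mem_center_iff.2 fun g =>
        Subgroup.mem_centralizer_singleton_iff.1 (h ▸ Subgroup.mem_top g : g ∈ H)
      rcases eq_bot_or_top (inferInstance : (Subgroup.center G).Normal) with hz | hz
      · rw [hz, Subgroup.mem_bot] at hm; exact ht1 hm
      · exact hG ⟨⟨fun a b => (Subgroup.mem_center_iff.1 (hz ▸ Subgroup.mem_top b) a)⟩⟩
    have hHN : H = N := by
      have h1 := Subgroup.relIndex_mul_index hNH
      rw [hidx, hd] at h1
      have h2 := SimpleCentralizerKill.relIndex_mod_of_normalizer_le P hNH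
      rw [← hNdef] at h2
      have key : ∀ r ∈ List.range 46, 45 % r = 0 → r % 11 = 1 → r = 1 ∨ r = 45 := by decide
      rcases key (N.relIndex H) (List.mem_range.2 (Nat.lt_succ_of_le
        (Nat.le_of_dvd (by norm_num) (Dvd.intro _ h1)))) (Nat.mod_eq_zero_of_dvd (Dvd.intro _ h1))
        h2 with h | h
      · exact le_antisymm (Subgroup.relIndex_eq_one.1 h) hNH
      · exact absurd (Subgroup.index_eq_one.1 (by rw [h] at h1; omega)) hHtop
    have hf := fixed_mod P (le_refl N) htC
    classical
    letI : Fintype (G ⧸ N) := Fintype.ofFinite _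
    have h4 := Simple720.four_dvd_moved (α := G ⧸ N) hG (w := t) (by rw [← htord]; exact pow_orderOf_eq_one t)
      
    have hcard : Nat.card (G ⧸ N) = 45 := by rw [← Subgroup.index, hidx, hd]
    rw [hcard] at h4
    have hle : Nat.card (MulAction.fixedBy (G ⧸ N) t) ≤ 45 :=
      (Nat.card_le_card_of_injective _ Subtype.val_injective).trans hcard.le
    have hf1 : Nat.card (MulAction.fixedBy (G ⧸ N) t) = 1 := by
      by_contra hne
      have hf45 : Nat.card (MulAction.fixedBy (G ⧸ N) t) = 45 := by omega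
      exact ht1 (eq_one_of_all_fixed hN1 (by rw [hf45, hidx, hd]))
    have hiso : Cfsg.IsIsolatedInvolution t := by
      refine ⟨htord, fun g hg => ?_⟩
      -- `t` fixes the coset of `g`
      have hmem : g⁻¹ * t * g ∈ N := by
        rw [← hHN, Subgroup.mem_centralizer_singleton_iff]
        have := (Commute.conj_iff g⁻¹).2 hg.symm
        simpa [mul_assoc] using this.symm.eq
      have e1 : t • ((g : G ⧸ N)) = (g : G ⧸ N) := by
        rw [MulAction.Quotient.smul_mk, QuotientGroup.eq]
        simpa [mul_assoc] using inv_mem hmem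
      have e2 : t • (((1 : G) : G ⧸ N)) = ((1 : G) : G ⧸ N) := by
        rw [MulAction.Quotient.smul_mk, QuotientGroup.eq]
        simpa using hCN htC
      obtain ⟨hs, -⟩ := Nat.card_eq_one_iff_unique.1 hf1
      have heq := congrArg Subtype.val (@Subsingleton.elim _ hs
        (⟨(g : G ⧸ N), e1⟩ : MulAction.fixedBy (G ⧸ N) t) ⟨((1 : G) : G ⧸ N), e2⟩)
      rw [QuotientGroup.eq, mul_one, inv_mem_iff, ← hHN, Subgroup.mem_centralizer_singleton_iff] at heq
      rw [heq, mul_inv_cancel_right]
    obtain ⟨K, hK, hKodd, hKc⟩ := ZStarTheorem.exists_odd_normal hiso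
    rcases eq_bot_or_top hK with h | h
    · apply hHtop
      rw [eq_top_iff]
      intro g _
      rw [Subgroup.mem_centralizer_singleton_iff]
      have := hKc g
      rw [h, Subgroup.mem_bot, mul_inv_eq_one, mul_inv_eq_iff_eq_mul] at this
      exact this.symm
    · rw [h, Subgroup.card_top, hn] at hKodd
      exact absurd hKodd (by decide)
  · exact ⟨hN, hc, hd⟩

include hn in
theorem card_centralizer_eleven {y : G} (hy : orderOf y = 11) :
    Nat.card ↥(centralizer ({y} : Set G)) = 11 := by
  obtain ⟨P, hle⟩ := (IsPGroup.of_card (G := ↥(Subgroup.zpowers y)) (p := 11) (n := 1)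
    (by rw [Nat.card_zpowers, hy, pow_one])).exists_le_sylow
  have he : Subgroup.zpowers y = (P : Subgroup G) :=
    Subgroup.eq_of_le_of_card_ge hle (by rw [card_eleven hn P, Nat.card_zpowers, hy])
  rw [← Subgroup.centralizer_closure, ← Subgroup.zpowers_eq_closure, he]
  exact (normalizer_eleven hn P).2.1

include hn in
/-- Elements commuting with an element of order 11 have order dividing 11. -/
theorem orderOf_dvd_eleven {g y : G} (hy : orderOf y = 11) (hc : Commute g y) : orderOf g ∣ 11 := by
  rw [← card_centralizer_eleven hn hy]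
  exact Subgroup.orderOf_dvd_natCard _ (Subgroup.mem_centralizer_singleton_iff.2 hc.eq)

include hn in
theorem eleven_not_dvd_centralizer {g : G} (hg : g ≠ 1) (ho : ¬ orderOf g ∣ 11) :
    ¬ 11 ∣ Nat.card ↥(centralizer ({g} : Set G)) := by
  intro h
  obtain ⟨⟨y, hy⟩, hy11⟩ := exists_prime_orderOf_dvd_card' 11 h
  rw [Subgroup.orderOf_mk] at hy11
  exact ho (orderOf_dvd_eleven hn hy11 (Subgroup.mem_centralizer_singleton_iff.1 hy).symm)

include hn in
/-- No element of order 2 or 3 centralises a Sylow 5-subgroup whose normaliser lies in a subgroup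
of index 11. -/
theorem index_eleven (P : Sylow 5 G) {M : Subgroup G} (hM : M.index = 11)
    (hNM : normalizer ((P : Subgroup G) : Set G) ≤ M) {g : G}
    (hg : g ∈ centralizer ((P : Subgroup G) : Set G)) {r : ℕ} (hr : r = 2 ∨ r = 3) (hgr : g ^ r = 1) :
    g = 1 := by
  have hM1 : M ≠ ⊤ := fun h => by rw [h, Subgroup.index_top] at hM; omega
  apply eq_one_of_all_fixed hM1
  have hf := fixed_mod P hNM hg
  have hle : Nat.card (MulAction.fixedBy (G ⧸ M) g) ≤ 11 :=
    (Nat.card_le_card_of_injective _ Subtype.val_injective).trans_eq hM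
  rcases hr with rfl | rfl
  · classical
    letI : Fintype (G ⧸ M) := Fintype.ofFinite _
    have h4 := Simple720.four_dvd_moved (α := G ⧸ M) (not_comm hn) (w := g) hgr 
    rw [← Subgroup.index, hM] at h4
    omega
  · haveI : Fact (Nat.Prime 3) := ⟨Nat.prime_three⟩
    have h3 := moved_dvd (α := G ⧸ M) (r := 3) (k := 1) (by rwa [pow_one])
    rw [← Subgroup.index, hM] at h3
    omega

include hn in
theorem index_options (P : Sylow 5 G) {M : Subgroup G} (hM : M ≠ ⊤)
    (hNM : normalizer ((P : Subgroup G) : Set G) ≤ M) :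
    M.index ∣ Nat.card (Sylow 5 G) ∧ Nat.card (Sylow 5 G) / M.index % 5 = 1 ∧
      iOK 7920 [11, 5] M.index = true := by
  have h1 := Subgroup.relIndex_mul_index hNM
  rw [show (normalizer ((P : Subgroup G) : Set G)).index = Nat.card (Sylow 5 G) from
    P.card_eq_index_normalizer.symm] at h1
  refine ⟨Dvd.intro_left _ h1, ?_, hn ▸ iOK_index (not_comm hn) [11, 5] M hM⟩
  rw [← h1, Nat.mul_div_cancel _ (Nat.pos_of_ne_zero Subgroup.index_ne_zero_of_finite)]
  exact SimpleCentralizerKill.relIndex_mod_of_normalizer_le P hNM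

include hn in
theorem centralizer_ne_top {g : G} (hg : g ≠ 1) : centralizer ({g} : Set G) ≠ ⊤ := by
  intro h
  have hm : g ∈ Subgroup.center G := Subgroup.mem_center_iff.2 fun x =>
    Subgroup.mem_centralizer_singleton_iff.1 (h ▸ Subgroup.mem_top x)
  rcases eq_bot_or_top (inferInstance : (Subgroup.center G).Normal) with hz | hz
  · rw [hz, Subgroup.mem_bot] at hm; exact hg hm
  · exact not_comm hn ⟨⟨fun a b => (Subgroup.mem_center_iff.1 (hz ▸ Subgroup.mem_top b) a)⟩⟩

include hn in
theorem data_five (P : Sylow 5 G) :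
    (Nat.card (Sylow 5 G) = 11 ∧ 3 ∣ Nat.card ↥(centralizer ((P : Subgroup G) : Set G))) ∨
    (Nat.card (Sylow 5 G) = 36 ∧ 11 ∣ Nat.card ↥(centralizer ((P : Subgroup G) : Set G))) ∨
    (Nat.card (Sylow 5 G) = 66 ∧ Nat.card ↥(normalizer ((P : Subgroup G) : Set G)) = 120 ∧
      (Nat.card ↥(centralizer ((P : Subgroup G) : Set G)) = 30 ∨
       Nat.card ↥(centralizer ((P : Subgroup G) : Set G)) = 60)) ∨
    (Nat.card (Sylow 5 G) = 396 ∧ Nat.card ↥(normalizer ((P : Subgroup G) : Set G)) = 20 ∧
      (Nat.card ↥(centralizer ((P : Subgroup G) : Set G)) = 5 ∨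
       Nat.card ↥(centralizer ((P : Subgroup G) : Set G)) = 10)) := by
  have h := mem_cand (not_comm hn) (p := 5) (v := 1) (m := 1584) Nat.one_pos
    (by rw [hn]; norm_num) (by norm_num)
  obtain ⟨e, he, hC, hN⟩ := exists_eList (not_comm hn) P (card_five hn P)
  have hi := iOK_index (not_comm hn) [11, 5] _ (normalizer_ne_top (not_comm hn) (by rw [hn]; norm_num) P)
  rw [hn] at he hC hN h hi
  rw [show (normalizer ((P : Subgroup G) : Set G)).index = Nat.card (Sylow 5 G) from
    P.card_eq_index_normalizer.symm] at hi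
  rw [← hC, ← hN]
  have key : ∀ d ∈ cand 7920 5 1584, iOK 7920 [11, 5] d = true → ∀ e ∈ eList 7920 5 d,
      (d = 11 ∧ 3 ∣ 7920 / d / e) ∨ (d = 36 ∧ 11 ∣ 7920 / d / e) ∨
      (d = 66 ∧ 7920 / d = 120 ∧ (7920 / d / e = 30 ∨ 7920 / d / e = 60)) ∨
      (d = 396 ∧ 7920 / d = 20 ∧ (7920 / d / e = 5 ∨ 7920 / d / e = 10)) := by decide +kernel
  exact key _ h hi e he

end Cfsg.Agent.M11Order91
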