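import Mathlib
import Cfsg.Agent.Lib.M11Order91Base

/-!
A simple group of order 7920: a Sylow subgroup of order 5 is self-centralising with normaliser of
order 20.
-/

set_option autoImplicit false
set_option linter.style.haveILetI false
set_option linter.unusedSectionVars false

namespace Cfsg.Agent.M11Order91

open Subgroup Cfsg.Agent.SimpleOrder Cfsg.Agent.SimpleOrderCheck

section General

variable {G : Type*} [Group G] [Finite G]

/-- An element normalising `C` normalises the only Sylow subgroup of `C`. -/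
theorem normalizes_of_unique {q : ℕ} [Fact q.Prime] {C : Subgroup G} (Q : Sylow q ↥C)
    (huniq : ∀ R : Sylow q ↥C, R = Q) {n : G} (hn : n ∈ normalizer (C : Set G)) :
    n ∈ normalizer ((((Q : Subgroup ↥C).map C.subtype) : Subgroup G) : Set G) := by
  set X := (Q : Subgroup ↥C).map C.subtype with hX
  rw [Subgroup.mem_normalizer_iff_map_conj_eq]
  have hle : X.map (MulAut.conj n).toMonoidHom ≤ C := by
    rintro _ ⟨x, hx, rfl⟩
    exact (Subgroup.mem_normalizer_iff.1 hn x).1 (Subgroup.map_subtype_le _ hx)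
  have hcard : Nat.card ↥((X.map (MulAut.conj n).toMonoidHom).subgroupOf C) = Nat.card ↥(Q : Subgroup ↥C) := by
    rw [Nat.card_congr (Subgroup.subgroupOfEquivOfLe hle).toEquiv,
      Subgroup.card_map_of_injective (MulAut.conj n).injective, hX,
      Subgroup.card_map_of_injective C.subtype_injective]
  have h := huniq (Sylow.ofCard _ (hcard.trans Q.card_eq_multiplicity))
  have h' : (X.map (MulAut.conj n).toMonoidHom).subgroupOf C = (Q : Subgroup ↥C) :=
    congrArg Sylow.toSubgroup h
  have h'' := congrArg (Subgroup.map C.subtype) h'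
  rw [Subgroup.map_subgroupOf_eq_of_le hle] at h''
  exact h''

/-- The number of Sylow subgroups of an overgroup, through the normaliser in it. -/
theorem relIndex_mod {q : ℕ} [hq : Fact q.Prime] (P : Sylow q G) {M : Subgroup G}
    (hPM : (P : Subgroup G) ≤ M) :
    (normalizer ((P : Subgroup G) : Set G)).relIndex M % q = 1 := by
  have h := card_sylow_modEq_one q ↥M
  rw [(P.subtype hPM).card_eq_index_normalizer] at h
  have e : normalizer (((P.subtype hPM : Sylow q ↥M) : Subgroup ↥M) : Set ↥M) =
      (normalizer ((P : Subgroup G) : Set G)).subgroupOf M := by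
    rw [Subgroup.subgroupOf_normalizer_eq hPM]
    rfl
  rw [Subgroup.relIndex, ← e]
  exact Eq.trans h (Nat.mod_eq_of_lt hq.out.one_lt)

theorem commute_of_normalizes {Q : Subgroup G} (hQ : Nat.card ↥Q = 3) {z : G} (hz : z ^ 5 = 1)
    (hn : z ∈ normalizer (Q : Set G)) {x : G} (hx : x ∈ Q) : z * x = x * z := by
  haveI : Fact (Nat.Prime 3) := ⟨Nat.prime_three⟩
  rcases eq_or_ne x 1 with rfl | hx1
  · simp
  have hgen : Subgroup.zpowers x = Q := by
    refine Subgroup.eq_of_le_of_card_ge (Subgroup.zpowers_le.2 hx) ?_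
    rw [hQ, Nat.card_zpowers, orderOf_eq_prime (PGroupsBasic.pow_eq_one_of_card hQ hx) hx1]
  have h3 : x ^ 3 = 1 := PGroupsBasic.pow_eq_one_of_card hQ hx
  have hm : z * x * z⁻¹ ∈ Q := (Subgroup.mem_normalizer_iff.1 hn x).1 hx
  rw [← hgen] at hm
  obtain ⟨n, hn'⟩ := Subgroup.mem_zpowers_iff.1 hm
  have hmod : x ^ n = x ^ (n % 3) := by
    conv_lhs => rw [← Int.mul_ediv_add_emod n 3, zpow_add, zpow_mul, zpow_ofNat, h3, one_zpow, one_mul]
  have hcases : n % 3 = 0 ∨ n % 3 = 1 ∨ n % 3 = 2 := by omega
  rw [hmod] at hn'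
  rcases hcases with h | h | h <;> rw [h] at hn'
  · rw [zpow_zero] at hn'
    exact absurd (conj_eq_one_iff.1 hn'.symm) hx1
  · rw [zpow_one] at hn'
    exact mul_inv_eq_iff_eq_mul.1 hn'.symm
  · have h2 : z * x * z⁻¹ = x⁻¹ := by
      rw [← hn', zpow_ofNat]
      exact eq_inv_of_mul_eq_one_left (by rw [← pow_succ, h3])
    have h4 : z ^ 2 * x * (z ^ 2)⁻¹ = x := by
      calc z ^ 2 * x * (z ^ 2)⁻¹ = z * (z * x * z⁻¹) * z⁻¹ := by rw [pow_two]; simp [mul_assoc]
        _ = z * x⁻¹ * z⁻¹ := by rw [h2]
        _ = (z * x * z⁻¹)⁻¹ := by simp [mul_assoc]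
        _ = x := by rw [h2, inv_inv]
    have h5 : Commute (z ^ 2) x := mul_inv_eq_iff_eq_mul.1 h4
    have h6 := h5.pow_left 3
    rwa [← pow_mul, show 2 * 3 = 5 + 1 from rfl, pow_succ, hz, one_mul] at h6

theorem card_five_elements {H : Type*} [Group H] [Finite H] {q n : ℕ} [Fact q.Prime]
    (hP : ∀ P : Sylow q H, Nat.card ↥(P : Subgroup H) = q) (hn : Nat.card (Sylow q H) = n) :
    Nat.card {y : H // orderOf y = q} = n * (q - 1) := by
  rw [SimpleSearch.card_orderOf hP, hn]

end General

variable {G : Type*} [Group G] [Finite G] [IsSimpleGroup G] (hn : Nat.card G = 7920)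

include hn in
theorem not_sixtysix (P : Sylow 5 G) (hd : Nat.card (Sylow 5 G) = 66)
    (hN : Nat.card ↥(normalizer ((P : Subgroup G) : Set G)) = 120)
    (hc : Nat.card ↥(centralizer ((P : Subgroup G) : Set G)) = 30 ∨
      Nat.card ↥(centralizer ((P : Subgroup G) : Set G)) = 60) : False := by
  haveI : Fact (Nat.Prime 2) := ⟨Nat.prime_two⟩
  haveI : Fact (Nat.Prime 3) := ⟨Nat.prime_three⟩
  set N := normalizer ((P : Subgroup G) : Set G) with hNdef
  set C := centralizer ((P : Subgroup G) : Set G) with hCdef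
  have hCN : C ≤ N := Subgroup.centralizer_le_normalizer _
  have hNC : N ≤ normalizer (C : Set G) := by
    intro n hn'
    rw [Subgroup.mem_normalizer_iff]
    intro c
    constructor
    · intro hc'
      rw [hCdef, Subgroup.mem_centralizer_iff] at hc' ⊢
      intro x hx
      have := hc' _ ((Subgroup.mem_normalizer_iff''.1 hn' x).1 hx)
      calc x * (n * c * n⁻¹) = n * ((n⁻¹ * x * n) * c) * n⁻¹ := by group
        _ = n * (c * (n⁻¹ * x * n)) * n⁻¹ := by rw [this]
        _ = n * c * n⁻¹ * x := by group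
    · intro hc'
      rw [hCdef, Subgroup.mem_centralizer_iff] at hc' ⊢
      intro x hx
      have := hc' _ ((Subgroup.mem_normalizer_iff.1 hn' x).1 hx)
      calc x * c = n⁻¹ * ((n * x * n⁻¹) * (n * c * n⁻¹)) * n := by group
        _ = n⁻¹ * ((n * c * n⁻¹) * (n * x * n⁻¹)) * n := by rw [this]
        _ = c * x := by group
  have hPC : (P : Subgroup G) ≤ C := by
    haveI : IsCyclic ↥(P : Subgroup G) := isCyclic_of_prime_card (card_five hn P)
    intro a ha
    rw [hCdef, Subgroup.mem_centralizer_iff]
    intro b hb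
    exact congrArg Subtype.val
      ((IsCyclic.isMulCommutative (α := ↥(P : Subgroup G))).is_comm.comm ⟨b, hb⟩ ⟨a, ha⟩)
  have hPn : ∀ x : ↥C, x ∈ (P : Subgroup G).subgroupOf C → ∀ y : ↥C, y * x = x * y := fun x hx y =>
    Subtype.ext (Subgroup.mem_centralizer_iff.1 y.2 (x : G) hx).symm
  have hP5 : Nat.card ↥((P : Subgroup G).subgroupOf C) = 5 := by
    rw [Nat.card_congr (Subgroup.subgroupOfEquivOfLe hPC).toEquiv, card_five hn P]
  -- overgroups of `N`
  have hover : ∀ X : Subgroup G, X ≠ ⊥ → X ≠ ⊤ → N ≤ normalizer (X : Set G) →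
      (normalizer (X : Set G)).index = 11 ∨ normalizer (X : Set G) = N := by
    intro X hX hX' hle
    have htop : normalizer (X : Set G) ≠ ⊤ := fun h => by
      rcases eq_bot_or_top (Subgroup.normalizer_eq_top_iff.1 h) with h' | h' <;> contradiction
    obtain ⟨h1, h2, h3⟩ := index_options hn P htop hle
    rw [hd] at h1 h2
    have key : ∀ d ∈ List.range 67, 66 % d = 0 → 66 / d % 5 = 1 → iOK 7920 [11, 5] d = true →
        d = 11 ∨ d = 66 := by decide +kernel
    rcases key _ (List.mem_range.2 (Nat.lt_succ_of_le (Nat.le_of_dvd (by norm_num) h1)))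
      (Nat.mod_eq_zero_of_dvd h1) h2 h3 with h | h
    · exact Or.inl h
    · right
      refine (Subgroup.eq_of_le_of_card_ge hle ?_).symm
      have hm := (normalizer (X : Set G)).card_mul_index
      rw [h, hn] at hm
      rw [hN]; omega
  by_cases h3u : Nat.card (Sylow 3 ↥C) = 1
  · -- a normal subgroup of order three
    obtain ⟨Q⟩ : Nonempty (Sylow 3 ↥C) := inferInstance
    obtain ⟨hs, -⟩ := Nat.card_eq_one_iff_unique.1 h3u
    have hQ : Nat.card ↥(Q : Subgroup ↥C) = 3 :=
      sylow_card_of_once (by rcases hc with h | h <;> rw [h])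
        (by rcases hc with h | h <;> rw [h] <;> norm_num) Q
    set X := (Q : Subgroup ↥C).map C.subtype with hX
    have hX3 : Nat.card ↥X = 3 := by rw [hX, Subgroup.card_map_of_injective C.subtype_injective, hQ]
    have hXb : X ≠ ⊥ := fun h => by rw [h, Subgroup.card_bot] at hX3; omega
    have hXt : X ≠ ⊤ := fun h => by rw [h, Subgroup.card_top, hn] at hX3; omega
    have hle : N ≤ normalizer (X : Set G) := fun n hn' =>
      normalizes_of_unique Q (fun R => @Subsingleton.elim _ hs R Q) (hNC hn')
    obtain ⟨⟨x, hxX⟩, hx3⟩ := exists_prime_orderOf_dvd_card' 3 (G := ↥X) (by rw [hX3])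
    rw [Subgroup.orderOf_mk] at hx3
    rcases hover X hXb hXt hle with h | h
    · have h1 := index_eleven hn P h hle (g := x) (Subgroup.map_subtype_le _ hxX) (Or.inr rfl)
        (by rw [← hx3]; exact pow_orderOf_eq_one x)
      rw [h1, orderOf_one] at hx3
      omega
    · -- the Sylow 3-subgroup above `X` is abelian
      obtain ⟨R, hR⟩ := (IsPGroup.of_card (G := ↥X) (p := 3) (n := 1) (by rw [hX3, pow_one])).exists_le_sylow
      have hR9 : Nat.card ↥(R : Subgroup G) = 3 ^ 2 :=
        sylow_card_of_eq (k := 2) (m := 880) (by rw [hn]; norm_num) (by norm_num) R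
      have hle' : (R : Subgroup G) ≤ normalizer (X : Set G) := by
        haveI := IsPGroup.isMulCommutative_of_card_eq_prime_sq hR9
        intro r hr
        rw [Subgroup.mem_normalizer_iff]
        intro y
        constructor
        · intro hy
          have := congrArg Subtype.val
            (IsMulCommutative.is_comm.comm (⟨r, hr⟩ : ↥(R : Subgroup G)) ⟨y, hR hy⟩)
          change r * y = y * r at this
          rwa [this, mul_inv_cancel_right]
        · intro hy
          have := congrArg Subtype.val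
            (IsMulCommutative.is_comm.comm (⟨r⁻¹, inv_mem hr⟩ : ↥(R : Subgroup G)) ⟨r * y * r⁻¹, hR hy⟩)
          change r⁻¹ * (r * y * r⁻¹) = r * y * r⁻¹ * r⁻¹ at this
          have h2 : y = r * y * r⁻¹ := by
            calc y = r⁻¹ * (r * y * r⁻¹) * r := by group
              _ = (r * y * r⁻¹ * r⁻¹) * r := by rw [this]
              _ = r * y * r⁻¹ := by group
          rw [h2]; exact hy
      have hdvd := Subgroup.card_dvd_of_le (h ▸ hle' : (R : Subgroup G) ≤ N)
      rw [hR9, hN] at hdvd
      norm_num at hdvd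
  · -- a normal four-subgroup
    have hc60 : Nat.card ↥C = 60 ∧ Nat.card (Sylow 3 ↥C) = 4 := by
      obtain ⟨Q⟩ : Nonempty (Sylow 3 ↥C) := inferInstance
      have hQ : Nat.card ↥(Q : Subgroup ↥C) = 3 :=
        sylow_card_of_once (by rcases hc with h | h <;> rw [h])
          (by rcases hc with h | h <;> rw [h] <;> norm_num) Q
      have h1 : Nat.card (Sylow 3 ↥C) % 3 = 1 := (card_sylow_modEq_one 3 ↥C).trans rfl
      set NQ := normalizer ((Q : Subgroup ↥C) : Set ↥C)
      have h15 : 15 ∣ Nat.card ↥NQ := by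
        refine Nat.Coprime.mul_dvd_of_dvd_of_dvd (by norm_num : Nat.Coprime 3 5) ?_ ?_
        · exact hQ.symm.dvd.trans (Subgroup.card_dvd_of_le Subgroup.le_normalizer)
        · refine hP5.symm.dvd.trans (Subgroup.card_dvd_of_le ?_)
          intro x hx
          rw [Subgroup.mem_normalizer_iff]
          intro y
          rw [← hPn x hx y, mul_inv_cancel_right]
      have hm := NQ.card_mul_index
      rw [show NQ.index = Nat.card (Sylow 3 ↥C) from Q.card_eq_index_normalizer.symm] at hm
      obtain ⟨k, hk⟩ := h15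
      rw [hk, mul_assoc] at hm
      rcases hc with h | h <;> rw [h] at hm
      · exfalso
        have h2 : k * Nat.card (Sylow 3 ↥C) = 2 := by omega
        have := Nat.le_of_dvd (by norm_num) (Dvd.intro_left _ h2)
        omega
      · refine ⟨h, ?_⟩
        have h2 : k * Nat.card (Sylow 3 ↥C) = 4 := by omega
        have := Nat.le_of_dvd (by norm_num) (Dvd.intro_left _ h2)
        omega
    obtain ⟨hc60, hn3⟩ := hc60
    classical
    haveI := Fintype.ofFinite ↥C
    set B : Finset ↥C := Finset.univ.filter fun g => g ^ 4 = 1 with hB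
    set E : Finset ↥C := Finset.univ.filter fun g => orderOf g = 3 with hE
    have hE8 : E.card = 8 := by
      rw [hE, ← Fintype.card_subtype, ← Nat.card_eq_fintype_card,
        card_five_elements (q := 3) (fun Q => sylow_card_of_once (by rw [hc60]) (by rw [hc60]; norm_num) Q) hn3]
    have hB4 : B.card ≤ 4 := by
      have hdisj : Disjoint B E := Finset.disjoint_left.2 fun g h1 h2 => by
        simp only [hB, hE, Finset.mem_filter, Finset.mem_univ, true_and] at h1 h2
        have := orderOf_dvd_of_pow_eq_one h1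
        rw [h2] at this
        norm_num at this
      have h12 : ∀ g ∈ B ∪ E, g ^ 12 = 1 := by
        intro g hg
        simp only [hB, hE, Finset.mem_union, Finset.mem_filter, Finset.mem_univ, true_and] at hg
        rcases hg with h | h
        · rw [show 12 = 4 * 3 from rfl, pow_mul, h, one_pow]
        · exact orderOf_dvd_iff_pow_eq_one.1 (h ▸ (by norm_num : 3 ∣ 12))
      have hinj : Function.Injective (fun p : ↥(B ∪ E) × ↥((P : Subgroup G).subgroupOf C) =>
          (p.1 : ↥C) * (p.2 : ↥C)) := by
        rintro ⟨⟨a, ha⟩, ⟨x, hx⟩⟩ ⟨⟨b, hb⟩, ⟨y, hy⟩⟩ h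
        change a * x = b * y at h
        have hpow := congrArg (fun w : ↥C => w ^ 12) h
        rw [Commute.mul_pow (hPn x hx a), Commute.mul_pow (hPn y hy b), h12 a ha, h12 b hb,
          one_mul, one_mul] at hpow
        have key : ∀ w : ↥C, w ∈ (P : Subgroup G).subgroupOf C → w = (w ^ 12) ^ 3 := fun w hw => by
          have h5 : w ^ 5 = 1 := PGroupsBasic.pow_eq_one_of_card hP5 hw
          rw [← pow_mul, show 12 * 3 = 5 * 7 + 1 from rfl, pow_succ, pow_mul, h5, one_pow, one_mul]
        have hxy : x = y := by rw [key x hx, key y hy, hpow]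
        subst hxy
        obtain rfl := mul_right_cancel h
        rfl
      have hle := Nat.card_le_card_of_injective _ hinj
      rw [Nat.card_prod, hP5, hc60, Nat.card_eq_fintype_card, Fintype.card_coe,
        Finset.card_union_of_disjoint hdisj, hE8] at hle
      omega
    obtain ⟨U⟩ : Nonempty (Sylow 2 ↥C) := inferInstance
    have hU4 : ∀ R : Sylow 2 ↥C, Nat.card ↥(R : Subgroup ↥C) = 4 := fun R => by
      rw [sylow_card_of_eq (k := 2) (m := 15) (by rw [hc60]; norm_num) (by norm_num) R]; norm_num
    have hUB : ∀ R : Sylow 2 ↥C, ∀ g : ↥C, g ∈ (R : Subgroup ↥C) ↔ g ^ 4 = 1 := by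
      intro R g
      have hsub : Finset.univ.filter (· ∈ (R : Subgroup ↥C)) ⊆ B := fun y hy => by
        simp only [Finset.mem_filter, Finset.mem_univ, true_and, hB] at hy ⊢
        have := orderOf_dvd_iff_pow_eq_one.1 (Subgroup.orderOf_dvd_natCard _ hy)
        rwa [hU4] at this
      have hfc : (Finset.univ.filter (· ∈ (R : Subgroup ↥C))).card = 4 := by
        rw [← Fintype.card_subtype, ← Nat.card_eq_fintype_card]
        exact hU4 R
      have heq := Finset.eq_of_subset_of_card_le hsub (hB4.trans hfc.ge)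
      have := Finset.ext_iff.1 heq g
      simpa [hB] using this
    set V := (U : Subgroup ↥C).map C.subtype with hV
    have hV4 : Nat.card ↥V = 4 := by rw [hV, Subgroup.card_map_of_injective C.subtype_injective, hU4]
    have hVb : V ≠ ⊥ := fun h => by rw [h, Subgroup.card_bot] at hV4; omega
    have hVt : V ≠ ⊤ := fun h => by rw [h, Subgroup.card_top, hn] at hV4; omega
    have hVC : V ≤ C := Subgroup.map_subtype_le _
    have hle : N ≤ normalizer (V : Set G) := fun n hn' =>
      normalizes_of_unique U (fun R => Sylow.ext (by ext g; rw [hUB R g, hUB U g])) (hNC hn')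
    obtain ⟨⟨v₀, hv₀⟩, hv2⟩ := exists_prime_orderOf_dvd_card' 2 (G := ↥V) (by rw [hV4]; norm_num)
    rw [Subgroup.orderOf_mk] at hv2
    rcases hover V hVb hVt hle with h | hNV
    · have h1 := index_eleven hn P h hle (g := v₀) (hVC hv₀) (Or.inl rfl)
        (by rw [← hv2]; exact pow_orderOf_eq_one v₀)
      rw [h1, orderOf_one] at hv2
      omega
    -- a central involution of a Sylow 2-subgroup inside `V`
    have hV2 : IsPGroup 2 ↥(V.subgroupOf N) := IsPGroup.of_card (n := 2) (by
      rw [Nat.card_congr (Subgroup.subgroupOfEquivOfLe (hVC.trans hCN)).toEquiv, hV4]; norm_num)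
    obtain ⟨T8, hT8⟩ := hV2.exists_le_sylow
    set U8 := (T8 : Subgroup ↥N).map N.subtype with hU8
    have hU8N : U8 ≤ N := Subgroup.map_subtype_le _
    have hU8c : Nat.card ↥U8 = 8 := by
      rw [hU8, Subgroup.card_map_of_injective N.subtype_injective,
        sylow_card_of_eq (k := 3) (m := 15) (by rw [hN]; norm_num) (by norm_num) T8]
      norm_num
    have hVU : V ≤ U8 := fun v hv =>
      ⟨⟨v, hCN (hVC hv)⟩, hT8 (Subgroup.mem_subgroupOf.2 hv), rfl⟩
    obtain ⟨T, hUT⟩ := (IsPGroup.of_card (G := ↥U8) (p := 2) (n := 3) (by rw [hU8c]; norm_num)).exists_le_sylow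
    have hT16 : Nat.card ↥(T : Subgroup G) = 16 := by
      rw [sylow_card_of_eq (k := 4) (m := 495) (by rw [hn]; norm_num) (by norm_num) T]; norm_num
    have hidx : (U8.subgroupOf (T : Subgroup G)).index = 2 := by
      have := (U8.subgroupOf (T : Subgroup G)).card_mul_index
      rw [Nat.card_congr (Subgroup.subgroupOfEquivOfLe hUT).toEquiv, hU8c, hT16] at this
      omega
    haveI hU8n : (U8.subgroupOf (T : Subgroup G)).Normal := Subgroup.normal_of_index_eq_two hidx
    obtain ⟨t, htT, htU⟩ : ∃ t ∈ (T : Subgroup G), t ∉ U8 := by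
      by_contra hcon
      push Not at hcon
      have := Subgroup.card_dvd_of_le (hcon : (T : Subgroup G) ≤ U8)
      rw [hT16, hU8c] at this
      norm_num at this
    have htN : t ∉ N := by
      intro htN
      have h1 : U8 ⊔ Subgroup.zpowers t ≤ N := sup_le hU8N (Subgroup.zpowers_le.2 htN)
      have h2 : U8 ⊔ Subgroup.zpowers t ≤ (T : Subgroup G) := sup_le hUT (Subgroup.zpowers_le.2 htT)
      have h3 := Subgroup.card_dvd_of_le h1
      have h4 := Subgroup.card_dvd_of_le h2
      rw [hN] at h3
      rw [hT16] at h4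
      have h5 : Nat.card ↥(U8 ⊔ Subgroup.zpowers t) ∣ 8 := Nat.dvd_gcd h3 h4
      have h6 := Subgroup.eq_of_le_of_card_ge (le_sup_left : U8 ≤ U8 ⊔ Subgroup.zpowers t)
        (by rw [hU8c]; exact Nat.le_of_dvd (by norm_num) h5)
      exact htU (h6 ▸ Subgroup.mem_sup_right (Subgroup.mem_zpowers t))
    have htnorm : ∀ u ∈ U8, ∀ a ∈ (T : Subgroup G), a * u * a⁻¹ ∈ U8 := fun u hu a ha =>
      Subgroup.mem_subgroupOf.1 (hU8n.conj_mem ⟨u, hUT hu⟩ (Subgroup.mem_subgroupOf.2 hu) ⟨a, ha⟩)
    have ht2 : t * t ∈ U8 :=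
      Subgroup.mem_subgroupOf.1 (Subgroup.mul_self_mem_of_index_two hidx ⟨t, htT⟩)
    set V' := V.map (MulAut.conj t).toMonoidHom with hV'
    have hV'U : V' ≤ U8 := by
      rintro _ ⟨v, hv, rfl⟩
      exact htnorm v (hVU hv) t htT
    set W := V ⊓ V' with hW
    have hUV : ∀ u ∈ U8, ∀ v ∈ V, u * v * u⁻¹ ∈ V := fun u hu v hv =>
      (Subgroup.mem_normalizer_iff.1 (hle (hU8N hu)) v).1 hv
    have hWn : ∀ a ∈ (T : Subgroup G), ∀ w ∈ W, a * w * a⁻¹ ∈ W := by
      have hU : ∀ a ∈ U8, ∀ w ∈ W, a * w * a⁻¹ ∈ W := by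
        rintro a ha w ⟨h1, h2⟩
        refine ⟨hUV a ha w h1, ?_⟩
        obtain ⟨v, hv, rfl⟩ := h2
        refine ⟨(t⁻¹ * a * t) * v * (t⁻¹ * a * t)⁻¹, hUV _ ?_ v hv, ?_⟩
        · have := htnorm a ha t⁻¹ (inv_mem htT)
          rwa [inv_inv] at this
        · simp [mul_assoc]
      have ht : ∀ w ∈ W, t * w * t⁻¹ ∈ W := by
        rintro w ⟨h1, h2⟩
        refine ⟨?_, ⟨w, h1, rfl⟩⟩
        obtain ⟨v, hv, rfl⟩ := h2
        have := hUV _ ht2 v hv
        simpa [mul_assoc] using this
      intro a ha w hw
      by_cases haU : a ∈ U8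
      · exact hU a haU w hw
      · have hau : a * t⁻¹ ∈ U8 := Subgroup.mem_subgroupOf.1
          ((Subgroup.mul_mem_iff_of_index_two hidx (a := ⟨a, ha⟩) (b := ⟨t⁻¹, inv_mem htT⟩)).2
            (iff_of_false (fun h => haU (Subgroup.mem_subgroupOf.1 h))
              (fun h => htU (inv_mem_iff.1 (Subgroup.mem_subgroupOf.1 h)))))
        have := hU _ hau _ (ht w hw)
        simpa [mul_assoc] using this
    have hWb : W.subgroupOf (T : Subgroup G) ≠ ⊥ := by
      intro h
      rw [Subgroup.subgroupOf_eq_bot] at h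
      have hdis : Disjoint V V' := by
        rw [disjoint_iff]
        have h2 : W ≤ (T : Subgroup G) := inf_le_left.trans (hVU.trans hUT)
        exact le_bot_iff.1 (fun w hw => h.le_bot ⟨hw, h2 hw⟩)
      have hinj : Function.Injective (fun p : ↥V × ↥V' =>
          (⟨(p.1 : G) * p.2, mul_mem (hVU p.1.2) (hV'U p.2.2)⟩ : ↥U8)) := fun p q hpq =>
        Subgroup.mul_injective_of_disjoint hdis (congrArg Subtype.val hpq)
      have := Nat.card_le_card_of_injective _ hinj
      rw [Nat.card_prod, hV', Subgroup.card_map_of_injective (f := (MulAut.conj t).toMonoidHom)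
        (MulAut.conj t).injective, hV4, hU8c] at this
      omega
    haveI : (W.subgroupOf (T : Subgroup G)).Normal := ⟨fun w hw a => hWn a a.2 w hw⟩
    have hWbot := PGroupsBasic.inf_center_ne_bot (p := 2) T.2 hWb
    obtain ⟨s0, hs0, hs⟩ := PGroupsBasic.exists_orderOf_eq_of_ne_bot (p := 2) (T.2.to_subgroup _) hWbot
    set s : G := (s0 : G) with hsdef
    have hsV : s ∈ V := (Subgroup.mem_subgroupOf.1 (Subgroup.mem_inf.1 hs0).1).1
    have hsord : orderOf s = 2 := by rw [hsdef, Subgroup.orderOf_coe, hs]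
    have hs1 : s ≠ 1 := fun h => by rw [h, orderOf_one] at hsord; omega
    set M := centralizer ({s} : Set G) with hMdef
    have hTM : (T : Subgroup G) ≤ M := fun a ha => by
      rw [hMdef, Subgroup.mem_centralizer_singleton_iff]
      exact congrArg Subtype.val (Subgroup.mem_center_iff.1 (Subgroup.mem_inf.1 hs0).2 ⟨a, ha⟩)
    have hPM : (P : Subgroup G) ≤ M := fun x hx => by
      rw [hMdef, Subgroup.mem_centralizer_singleton_iff]
      exact (Subgroup.mem_centralizer_iff.1 (hVC hsV) x hx)
    have h80 : 80 ∣ Nat.card ↥M := Nat.Coprime.mul_dvd_of_dvd_of_dvd (by norm_num : Nat.Coprime 16 5)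
      (hT16.symm.dvd.trans (Subgroup.card_dvd_of_le hTM))
      ((card_five hn P).symm.dvd.trans (Subgroup.card_dvd_of_le hPM))
    have hMidx : M.index = 11 ∨ M.index = 33 ∨ M.index = 99 := by
      have hi := hn ▸ iOK_index (not_comm hn) [11, 5] M (centralizer_ne_top hn hs1)
      have hdvd : M.index ∣ 99 := by
        obtain ⟨k, hk⟩ := h80
        have := M.card_mul_index
        rw [hk, hn] at this
        exact Dvd.intro_left k (Nat.eq_of_mul_eq_mul_left (by norm_num : 0 < 80) (by linarith))
      have key : ∀ d ∈ List.range 100, 99 % d = 0 → iOK 7920 [11, 5] d = true →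
          d = 11 ∨ d = 33 ∨ d = 99 := by decide +kernel
      exact key _ (List.mem_range.2 (Nat.lt_succ_of_le (Nat.le_of_dvd (by norm_num) hdvd)))
        (Nat.mod_eq_zero_of_dvd hdvd) hi
    have hU8M : U8 ≤ M := hUT.trans hTM
    have h40 : 40 ∣ Nat.card ↥(N ⊓ M) := Nat.Coprime.mul_dvd_of_dvd_of_dvd (by norm_num : Nat.Coprime 8 5)
      (hU8c.symm.dvd.trans (Subgroup.card_dvd_of_le (le_inf hU8N hU8M)))
      ((card_five hn P).symm.dvd.trans (Subgroup.card_dvd_of_le (le_inf Subgroup.le_normalizer hPM)))
    have hNM : Nat.card ↥(N ⊓ M) = 40 ∨ Nat.card ↥(N ⊓ M) = 120 := by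
      have hdvd := Subgroup.card_dvd_of_le (inf_le_left : N ⊓ M ≤ N)
      rw [hN] at hdvd
      obtain ⟨k, hk⟩ := h40
      rw [hk] at hdvd ⊢
      have hk3 : k ∣ 3 := Nat.dvd_of_mul_dvd_mul_left (by norm_num : 0 < 40) hdvd
      rcases (Nat.dvd_prime Nat.prime_three).1 hk3 with rfl | rfl <;> norm_num
    have hmul := M.card_mul_index
    rw [hn] at hmul
    have hrel := relIndex_mod P hPM
    have hrelc : Nat.card ↥(N ⊓ M) * N.relIndex M = Nat.card ↥M := by
      rw [← Subgroup.inf_relIndex_right, Subgroup.relIndex,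
        ← Nat.card_congr (Subgroup.subgroupOfEquivOfLe (inf_le_right : N ⊓ M ≤ M)).toEquiv]
      exact Subgroup.card_mul_index _
    rw [← hNdef] at hrel
    rcases hMidx with h | h | h <;> rw [h] at hmul <;> rcases hNM with h' | h' <;> rw [h'] at hrelc
    · omega
    · have hNle : N ≤ M := by
        have := Subgroup.eq_of_le_of_card_ge (inf_le_left : N ⊓ M ≤ N) (by rw [hN, h'])
        exact this ▸ inf_le_right
      exact hs1 (index_eleven hn P h hNle (g := s) (hVC hsV) (Or.inl rfl)
        (by rw [← hsord]; exact pow_orderOf_eq_one s))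
    · -- index 33
      have hM240 : Nat.card ↥M = 240 := by omega
      set P' := P.subtype hPM with hP'
      set K := normalizer ((P' : Subgroup ↥M) : Set ↥M) with hK
      have hKN : K = N.subgroupOf M := by
        rw [hK, hNdef, Subgroup.subgroupOf_normalizer_eq hPM]
        rfl
      have hK6 : K.index = 6 := by
        rw [hKN]
        show N.relIndex M = 6
        omega
      haveI : IsMulCommutative ↥V :=
        IsPGroup.isMulCommutative_of_card_eq_prime_sq (p := 2) (by rw [hV4]; norm_num)
      have hVM : V ≤ M := fun v hv => by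
        rw [hMdef, Subgroup.mem_centralizer_singleton_iff]
        exact congrArg Subtype.val (IsMulCommutative.is_comm.comm (⟨v, hv⟩ : ↥V) ⟨s, hsV⟩)
      -- every element of `V` is in the core of `K`
      have hcore : V.subgroupOf M ≤ K.normalCore := by
        intro v hv
        rw [Subgroup.mem_subgroupOf] at hv
        have hvC : v ∈ centralizer (((P' : Subgroup ↥M)) : Set ↥M) := by
          rw [Subgroup.mem_centralizer_iff]
          intro x hx
          exact Subtype.ext (Subgroup.mem_centralizer_iff.1 (hVC hv) (x : G) hx)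
        have hf := fixed_mod P' (le_refl K) hvC
        have hv4 : (v : ↥M) ^ 2 ^ 2 = 1 := by
          refine orderOf_dvd_iff_pow_eq_one.1 ?_
          rw [← Subgroup.orderOf_coe]
          exact (Subgroup.orderOf_dvd_natCard _ hv).trans (hV4 ▸ by norm_num)
        have hmv := moved_dvd (α := ↥M ⧸ K) hv4
        rw [← Subgroup.index, hK6] at hmv
        have hle6 : Nat.card (MulAction.fixedBy (↥M ⧸ K) v) ≤ 6 :=
          (Nat.card_le_card_of_injective _ Subtype.val_injective).trans hK6.le
        have hall : MulAction.fixedBy (↥M ⧸ K) v = Set.univ := by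
          apply Set.eq_univ_of_univ_subset
          exact (Set.eq_of_subset_of_ncard_le (Set.subset_univ _) (by
            rw [Set.ncard_univ, ← Nat.card_coe_set_eq, ← Subgroup.index, hK6]
            omega) Set.finite_univ).ge
        rw [Subgroup.normalCore_eq_ker]
        refine MonoidHom.mem_ker.2 (Equiv.ext fun a => ?_)
        have : a ∈ MulAction.fixedBy (↥M ⧸ K) v := hall ▸ Set.mem_univ a
        exact this
      have hK5 : ¬ 5 ∣ Nat.card ↥K.normalCore := by
        intro h5
        obtain ⟨⟨y, hy⟩, hy5⟩ := exists_prime_orderOf_dvd_card' 5 h5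
        rw [Subgroup.orderOf_mk] at hy5
        -- `y` generates `P'`, which would be normal
        have hyK : y ∈ K := K.normalCore_le hy
        have hP'5 : Nat.card ↥(P' : Subgroup ↥M) = 5 := by
          rw [hP']
          show Nat.card ↥((P : Subgroup G).subgroupOf M) = 5
          rw [Nat.card_congr (Subgroup.subgroupOfEquivOfLe hPM).toEquiv, card_five hn P]
        have hyP : y ∈ (P' : Subgroup ↥M) := by
          have hpg : IsPGroup 5 (Subgroup.zpowers y) := IsPGroup.of_card (n := 1) (by rw [Nat.card_zpowers, hy5, pow_one])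
          have h1 : IsPGroup 5 ↥((P' : Subgroup ↥M) ⊔ Subgroup.zpowers y) :=
            P'.2.to_sup_of_normal_left' hpg (Subgroup.zpowers_le.2 hyK)
          have h2 := P'.3 h1 le_sup_left
          rw [← h2]; exact Subgroup.mem_sup_right (Subgroup.mem_zpowers y)
        have hgen : Subgroup.zpowers y = (P' : Subgroup ↥M) :=
          Subgroup.eq_of_le_of_card_ge (Subgroup.zpowers_le.2 hyP) (by rw [hP'5, Nat.card_zpowers, hy5])
        have hPc : (P' : Subgroup ↥M) ≤ K.normalCore := hgen ▸ Subgroup.zpowers_le.2 hy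
        have htopK : K = ⊤ := by
          rw [eq_top_iff]
          intro m _
          rw [hK]
          have hQ : ((m • P' : Sylow 5 ↥M) : Subgroup ↥M) ≤ K := by
            rintro x hx
            rw [Sylow.coe_subgroup_smul] at hx
            obtain ⟨p, hp, rfl⟩ := hx
            exact K.normalCore_le ((Subgroup.normalCore_normal K).conj_mem p (hPc hp) m)
          have h1 : IsPGroup 5 ↥((P' : Subgroup ↥M) ⊔ ((m • P' : Sylow 5 ↥M) : Subgroup ↥M)) :=
            P'.2.to_sup_of_normal_left' (m • P').2 hQ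
          have h2 := P'.3 h1 le_sup_left
          have h3 : ((m • P' : Sylow 5 ↥M) : Subgroup ↥M) ≤ P' := h2 ▸ le_sup_right
          have h4 := (m • P').3 P'.2 h3
          exact Sylow.smul_eq_iff_mem_normalizer.1 (Sylow.ext h4.symm)
        rw [htopK, Subgroup.index_top] at hK6
        omega
      have hcoreV : K.normalCore ≤ V.subgroupOf M := by
        intro g hg
        have hd8 : orderOf g ∣ 8 := by
          have h1 := Subgroup.orderOf_dvd_natCard _ (K.normalCore_le hg)
          have h2 := Subgroup.orderOf_dvd_natCard _ hg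
          have hKc : Nat.card ↥K = 40 := by
            have := K.card_mul_index
            rw [hK6, hM240] at this
            omega
          rw [hKc] at h1
          have h5 : Nat.Coprime (orderOf g) 5 := by
            refine Nat.Coprime.symm ((Nat.Prime.coprime_iff_not_dvd (by norm_num)).2 ?_)
            exact fun h => hK5 (h.trans h2)
          exact h5.dvd_of_dvd_mul_right (show orderOf g ∣ 8 * 5 from h1)
        have hgC : (g : G) ∈ C := by
          rw [hCdef, Subgroup.mem_centralizer_iff]
          intro x hx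
          have hgN : (g : G) ∈ N := by
            have := K.normalCore_le hg
            rw [hKN] at this
            exact this
          -- the commutator lies in `P` and in the core
          set xm : ↥M := ⟨x, hPM hx⟩
          have hc1 : g * xm * g⁻¹ * xm⁻¹ ∈ K.normalCore := by
            rw [show g * xm * g⁻¹ * xm⁻¹ = g * (xm * g⁻¹ * xm⁻¹) by group]
            exact mul_mem hg ((Subgroup.normalCore_normal K).conj_mem _ (inv_mem hg) xm)
          have hc2 : (g : G) * x * (g : G)⁻¹ * x⁻¹ ∈ (P : Subgroup G) :=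
            mul_mem ((Subgroup.mem_normalizer_iff.1 hgN x).1 hx) (inv_mem hx)
          have hone : g * xm * g⁻¹ * xm⁻¹ = 1 := by
            by_contra hne
            apply hK5
            have h5 := Subgroup.orderOf_dvd_natCard _ hc2
            rw [card_five hn P] at h5
            have h6 : orderOf (g * xm * g⁻¹ * xm⁻¹) = 5 := by
              rw [← Subgroup.orderOf_coe]
              refine ((Nat.dvd_prime (by norm_num)).1 h5).resolve_left fun h => hne ?_
              exact Subtype.ext (orderOf_eq_one_iff.1 h)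
            exact h6 ▸ Subgroup.orderOf_dvd_natCard _ hc1
          have := congrArg Subtype.val (mul_inv_eq_one.1 hone)
          exact (mul_inv_eq_iff_eq_mul.1 this).symm
        have hg4 : (⟨(g : G), hgC⟩ : ↥C) ^ 4 = 1 := by
          refine orderOf_dvd_iff_pow_eq_one.1 ?_
          rw [← Subgroup.orderOf_coe]
          have h8 : orderOf (g : G) ∣ 8 := by rwa [Subgroup.orderOf_coe]
          have h60 := Subgroup.orderOf_dvd_natCard _ hgC
          rw [hc60] at h60
          exact (Nat.dvd_gcd h8 h60).trans (by norm_num)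
        exact Subgroup.mem_subgroupOf.2 ⟨⟨(g : G), hgC⟩, (hUB U _).2 hg4, rfl⟩
      have hMV : M ≤ normalizer (V : Set G) := by
        have heq : V.subgroupOf M = K.normalCore := le_antisymm hcore hcoreV
        haveI : (V.subgroupOf M).Normal := heq ▸ Subgroup.normalCore_normal K
        exact (Subgroup.normal_subgroupOf_iff_le_normalizer hVM).1 this
      have := Subgroup.card_dvd_of_le (hNV ▸ hMV)
      rw [hM240, hN] at this
      norm_num at this
    · omega
    · omega
    · omega

include hn in
theorem centralizer_five_ne_ten (P : Sylow 5 G) (hd : Nat.card (Sylow 5 G) = 396)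
    (hN : Nat.card ↥(normalizer ((P : Subgroup G) : Set G)) = 20)
    (hall : ∀ R : Sylow 5 G, Nat.card ↥(centralizer ((R : Subgroup G) : Set G)) = 5 ∨
      Nat.card ↥(centralizer ((R : Subgroup G) : Set G)) = 10) :
    Nat.card ↥(centralizer ((P : Subgroup G) : Set G)) ≠ 10 := by
  intro hc
  haveI : Fact (Nat.Prime 2) := ⟨Nat.prime_two⟩
  haveI : Fact (Nat.Prime 3) := ⟨Nat.prime_three⟩
  set N := normalizer ((P : Subgroup G) : Set G) with hNdef
  obtain ⟨⟨s, hsC⟩, hs⟩ := exists_prime_orderOf_dvd_card' 2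
    (G := ↥(centralizer ((P : Subgroup G) : Set G))) (by rw [hc]; norm_num)
  rw [Subgroup.orderOf_mk] at hs
  have hs1 : s ≠ 1 := fun h => by rw [h, orderOf_one] at hs; omega
  set M := centralizer ({s} : Set G) with hMdef
  have hNM : N ≤ M := SimpleCentralizerKill.normalizer_le_centralizer_of_two P (by norm_num)
    (card_five hn P) hc hs hsC
  have hPM : (P : Subgroup G) ≤ M := Subgroup.le_normalizer.trans hNM
  obtain ⟨h1, h2, h3⟩ := index_options hn P (centralizer_ne_top hn hs1) hNM
  rw [hd] at h1 h2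
  have key : ∀ d ∈ List.range 397, 396 % d = 0 → 396 / d % 5 = 1 → iOK 7920 [11, 5] d = true →
      d = 11 ∨ d = 36 ∨ d = 66 ∨ d = 396 := by decide +kernel
  have hmul := M.card_mul_index
  rw [hn] at hmul
  rcases key _ (List.mem_range.2 (Nat.lt_succ_of_le (Nat.le_of_dvd (by norm_num) h1)))
    (Nat.mod_eq_zero_of_dvd h1) h2 h3 with h | h | h | h <;> rw [h] at hmul
  · exact hs1 (index_eleven hn P h hNM hsC (Or.inl rfl) (by rw [← hs]; exact pow_orderOf_eq_one s))
  · exact eleven_not_dvd_centralizer hn hs1 (by rw [hs]; norm_num)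
      (by rw [show Nat.card ↥(centralizer ({s} : Set G)) = 220 by rw [← hMdef]; omega]; norm_num)
  swap
  · have h8 := SimpleCentralizerKill.eight_dvd_card_centralizer (not_comm hn) (by rw [hn]; norm_num) hs
    rw [← hMdef, show Nat.card ↥M = 20 by omega] at h8
    norm_num at h8
  -- index 66
  have hM : Nat.card ↥M = 120 := by omega
  have hsM : s ∈ M := Subgroup.mem_centralizer_singleton_iff.2 rfl
  set sm : ↥M := ⟨s, hsM⟩ with hsm
  have hsmc : ∀ m : ↥M, Commute m sm := fun m =>
    Subtype.ext (Subgroup.mem_centralizer_singleton_iff.1 m.2)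
  have hsm1 : sm ≠ 1 := fun h => hs1 (congrArg Subtype.val h)
  have hsm2 : sm * sm = 1 := Subtype.ext (by
    show s * s = 1
    rw [← pow_two, ← hs]; exact pow_orderOf_eq_one s)
  set P' := P.subtype hPM with hP'
  have hn5 : Nat.card (Sylow 5 ↥M) = 6 := by
    rw [P'.card_eq_index_normalizer]
    have e : normalizer (((P' : Sylow 5 ↥M) : Subgroup ↥M) : Set ↥M) = N.subgroupOf M := by
      rw [hNdef, Subgroup.subgroupOf_normalizer_eq hPM]
      rfl
    show (normalizer (((P' : Sylow 5 ↥M) : Subgroup ↥M) : Set ↥M)).index = 6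
    rw [e]
    have := (N.subgroupOf M).card_mul_index
    rw [Nat.card_congr (Subgroup.subgroupOfEquivOfLe hNM).toEquiv, hN, hM] at this
    omega
  have hQ3 : ∀ Q : Sylow 3 ↥M, Nat.card ↥(Q : Subgroup ↥M) = 3 := fun Q =>
    sylow_card_of_once (by rw [hM]) (by rw [hM]; norm_num) Q
  have hP5 : ∀ Q : Sylow 5 ↥M, Nat.card ↥(Q : Subgroup ↥M) = 5 := fun Q =>
    sylow_card_of_once (by rw [hM]) (by rw [hM]; norm_num) Q
  -- no element of order 3 commutes with one of order 5
  have h35 : ∀ x y : ↥M, orderOf x = 3 → orderOf y = 5 → ¬ Commute x y := by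
    intro x y hx hy hxy
    have hy' : orderOf (y : G) = 5 := by rw [Subgroup.orderOf_coe, hy]
    obtain ⟨R, hR⟩ := (IsPGroup.of_card (G := ↥(Subgroup.zpowers (y : G))) (p := 5) (n := 1)
      (by rw [Nat.card_zpowers, hy', pow_one])).exists_le_sylow
    have he : Subgroup.zpowers (y : G) = (R : Subgroup G) :=
      Subgroup.eq_of_le_of_card_ge hR (by rw [card_five hn R, Nat.card_zpowers, hy'])
    have hmem : (x : G) ∈ centralizer ((R : Subgroup G) : Set G) := by
      rw [← he, Subgroup.zpowers_eq_closure, Subgroup.centralizer_closure,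
        Subgroup.mem_centralizer_singleton_iff]
      exact congrArg Subtype.val hxy.eq
    have := Subgroup.orderOf_dvd_natCard _ hmem
    rw [Subgroup.orderOf_coe, hx] at this
    rcases hall R with h' | h' <;> rw [h'] at this <;> norm_num at this
  have hn3 : ∀ Q : Sylow 3 ↥M,
      Nat.card ↥(normalizer ((Q : Subgroup ↥M) : Set ↥M)) = 12 ∧ Nat.card (Sylow 3 ↥M) = 10 := by
    intro Q
    set NQ := normalizer ((Q : Subgroup ↥M) : Set ↥M)
    have h5 : ¬ 5 ∣ Nat.card ↥NQ := by
      intro h5
      obtain ⟨⟨y, hy⟩, hy5⟩ := exists_prime_orderOf_dvd_card' 5 h5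
      rw [Subgroup.orderOf_mk] at hy5
      obtain ⟨⟨x, hx⟩, hx3⟩ := exists_prime_orderOf_dvd_card' 3 (G := ↥(Q : Subgroup ↥M)) (by rw [hQ3])
      rw [Subgroup.orderOf_mk] at hx3
      exact h35 x y hx3 hy5 (commute_of_normalizes (hQ3 Q) (by rw [← hy5]; exact pow_orderOf_eq_one y) hy hx).symm
    have hmul' := NQ.card_mul_index
    rw [show NQ.index = Nat.card (Sylow 3 ↥M) from Q.card_eq_index_normalizer.symm, hM] at hmul'
    have hmod : Nat.card (Sylow 3 ↥M) % 3 = 1 := (card_sylow_modEq_one 3 ↥M).trans rfl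
    have h2d : 2 ∣ Nat.card ↥NQ := by
      have hmem : sm ∈ NQ := Subgroup.centralizer_le_normalizer _
        (Subgroup.mem_centralizer_iff.2 fun x _ => hsmc x)
      have ho := Subgroup.orderOf_dvd_natCard _ hmem
      rwa [← Subgroup.orderOf_coe, hsm, hs] at ho
    have key : ∀ a ∈ List.range 121, ∀ b ∈ List.range 121, a * b = 120 → b % 3 = 1 → a % 5 ≠ 0 →
        a % 2 = 0 → a % 3 = 0 → a = 12 ∧ b = 10 := by decide +kernel
    refine key _ (List.mem_range.2 ?_) _ (List.mem_range.2 ?_) hmul' hmod
      (fun h => h5 (Nat.dvd_of_mod_eq_zero h)) (Nat.mod_eq_zero_of_dvd h2d)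
      (Nat.mod_eq_zero_of_dvd ((hQ3 Q).symm.dvd.trans (Subgroup.card_dvd_of_le Subgroup.le_normalizer)))
    · exact Nat.lt_succ_of_le (Nat.le_of_dvd (by norm_num) (Dvd.intro _ hmul'))
    · exact Nat.lt_succ_of_le (Nat.le_of_dvd (by norm_num) (Dvd.intro_left _ hmul'))
  obtain ⟨Q⟩ : Nonempty (Sylow 3 ↥M) := inferInstance
  -- only `sm` among the involutions commutes with `Q`
  have hinvQ : ∀ w : ↥M, w * w = 1 → (∀ x ∈ (Q : Subgroup ↥M), w * x = x * w) → w = 1 ∨ w = sm := by
    intro w hw hwQ
    by_contra hne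
    push Not at hne
    set CQ := centralizer ((Q : Subgroup ↥M) : Set ↥M)
    have hsCQ : sm ∈ CQ := Subgroup.mem_centralizer_iff.2 fun x _ => hsmc x
    have hwCQ : w ∈ CQ := Subgroup.mem_centralizer_iff.2 fun x hx => (hwQ x hx).symm
    let S4 : Subgroup ↥M := Subgroup.closure {w, sm}
    have hS4 : S4 ≤ CQ := (Subgroup.closure_le _).2 (by rintro _ (rfl | rfl) <;> assumption)
    have h4 : 4 ∣ Nat.card ↥S4 := by
      have hS2 : IsPGroup 2 ↥S4 := PGroupsBasic.isPGroup_of_isElementaryAbelian
        (PGroupsBasic.isElementaryAbelian_closure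
          (fun a ha b hb => by
            rcases ha with rfl | rfl <;> rcases hb with rfl | rfl <;>
              first | rfl | exact (hsmc _).eq | exact (hsmc _).eq.symm)
          (fun a ha => by rcases ha with rfl | rfl <;> rw [pow_two] <;> assumption))
      obtain ⟨k, hk⟩ := IsPGroup.iff_card.1 hS2
      rw [hk]
      refine pow_dvd_pow 2 (m := 2) ?_
      by_contra hlt
      have h2 : Nat.card ↥S4 ≤ 2 := by
        rw [hk]
        calc 2 ^ k ≤ 2 ^ 1 := Nat.pow_le_pow_right (by norm_num) (by omega)
          _ = 2 := pow_one 2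
      have hinj : Function.Injective (![1, ⟨w, Subgroup.subset_closure (by simp)⟩,
          ⟨sm, Subgroup.subset_closure (by simp)⟩] : Fin 3 → ↥S4) := by
        intro i j hij
        have hij' := congrArg Subtype.val hij
        fin_cases i <;> fin_cases j <;> simp at hij' ⊢
        all_goals first
          | exact hne.1 hij' | exact hne.1 hij'.symm | exact hne.2 hij' | exact hne.2 hij'.symm
          | exact hsm1 hij' | exact hsm1 hij'.symm
      have := Nat.card_le_card_of_injective _ hinj
      rw [Nat.card_fin] at this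
      omega
    have h12 : 12 ∣ Nat.card ↥CQ := by
      refine Nat.Coprime.mul_dvd_of_dvd_of_dvd (by norm_num : Nat.Coprime 3 4) ?_
        (h4.trans (Subgroup.card_dvd_of_le hS4))
      refine (hQ3 Q).symm.dvd.trans (Subgroup.card_dvd_of_le ?_)
      haveI : IsCyclic ↥(Q : Subgroup ↥M) := isCyclic_of_prime_card (hQ3 Q)
      intro a ha
      exact Subgroup.mem_centralizer_iff.2 fun b hb => congrArg Subtype.val
        ((IsCyclic.isMulCommutative (α := ↥(Q : Subgroup ↥M))).is_comm.comm ⟨b, hb⟩ ⟨a, ha⟩)
    have hNQ : normalizer ((Q : Subgroup ↥M) : Set ↥M) ≤ CQ :=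
      (Subgroup.eq_of_le_of_card_ge (Subgroup.centralizer_le_normalizer _)
        (by rw [(hn3 Q).1]; exact Nat.le_of_dvd Nat.card_pos h12)).ge
    set K := (MonoidHom.transferSylow Q hNQ).ker with hKdef
    have hK40 : Nat.card ↥K = 40 := by
      have := (MonoidHom.ker_transferSylow_isComplement' Q hNQ).card_mul
      rw [hQ3, hM, ← hKdef] at this
      omega
    have hP'K : (P' : Subgroup ↥M) ≤ K := by
      intro x hx
      rw [hKdef, MonoidHom.mem_ker]
      have h5 : (MonoidHom.transferSylow Q hNQ x) ^ 5 = 1 := by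
        rw [← map_pow, PGroupsBasic.pow_eq_one_of_card (hP5 P') hx, map_one]
      have h3 : (MonoidHom.transferSylow Q hNQ x) ^ 3 = 1 := by
        have h' := pow_card_eq_one' (x := MonoidHom.transferSylow Q hNQ x)
        rwa [hQ3 Q] at h'
      have h31 := pow_gcd_eq_one.mpr ⟨h5, h3⟩
      rw [show Nat.gcd 5 3 = 1 from rfl, pow_one] at h31
      exact h31
    let PK : Sylow 5 ↥K := P'.subtype hP'K
    have hone : Nat.card (Sylow 5 ↥K) = 1 := by
      have h1 := card_sylow_dvd (G := ↥K) (p := 5) (k := 1) (m := 8) (by rw [hK40]; norm_num) (by norm_num)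
      have h2 : Nat.card (Sylow 5 ↥K) % 5 = 1 := (card_sylow_modEq_one 5 ↥K).trans rfl
      have key : ∀ a ∈ List.range 9, 8 % a = 0 → a % 5 = 1 → a = 1 := by decide
      exact key _ (List.mem_range.2 (Nat.lt_succ_of_le (Nat.le_of_dvd (by norm_num) h1)))
        (Nat.mod_eq_zero_of_dvd h1) h2
    obtain ⟨hsub, -⟩ := Nat.card_eq_one_iff_unique.1 hone
    have htop : normalizer ((P' : Subgroup ↥M) : Set ↥M) = ⊤ := by
      rw [eq_top_iff]
      intro m _
      have hm : m ∈ normalizer (K : Set ↥M) := by
        rw [Subgroup.normalizer_eq_top_iff.2 (MonoidHom.normal_ker _)]; trivial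
      have := normalizes_of_unique PK (fun R => @Subsingleton.elim _ hsub R PK) hm
      have e : ((PK : Subgroup ↥K).map K.subtype) = (P' : Subgroup ↥M) := by
        show ((P' : Subgroup ↥M).subgroupOf K).map K.subtype = _
        rw [Subgroup.map_subgroupOf_eq_of_le hP'K]
      rwa [e] at this
    have := P'.card_eq_index_normalizer
    rw [hn5] at this
    have h' : (normalizer ((P' : Subgroup ↥M) : Set ↥M)).index = 6 := this.symm
    rw [htop, Subgroup.index_top] at h'
    omega
  -- fixed cosets of `s`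
  classical
  have hmemM : ∀ g : G, g ∈ M ↔ g * s = s * g := fun g => Subgroup.mem_centralizer_singleton_iff
  set F := MulAction.fixedBy (G ⧸ M) s with hF
  have hf5 : Nat.card F % 5 = 1 := fixed_mod P hNM hsC
  have hfle : Nat.card F ≤ 66 :=
    (Nat.card_le_card_of_injective _ Subtype.val_injective).trans_eq h
  have hf4 : 4 ∣ 66 - Nat.card F := by
    letI : Fintype (G ⧸ M) := Fintype.ofFinite _
    have h4 := Simple720.four_dvd_moved (α := G ⧸ M) (not_comm hn) (w := s)
      (by rw [← hs]; exact pow_orderOf_eq_one s)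
    rwa [← Subgroup.index, h] at h4
  have fix_iff : ∀ a : G, s • ((a : G ⧸ M)) = (a : G ⧸ M) ↔ Commute (a⁻¹ * s * a) s := by
    intro a
    rw [MulAction.Quotient.smul_mk, QuotientGroup.eq, hmemM]
    constructor
    · intro h'
      have := (Commute.inv_left (show Commute ((s • a)⁻¹ * a) s from h'))
      simpa [mul_assoc] using this
    · intro h'
      have := h'.inv_left
      simpa [mul_assoc] using this.eq
  have hf3 : Nat.card F % 3 = 1 := by
    have hQG : IsPGroup 3 ↥((Q : Subgroup ↥M).map M.subtype) := Q.2.map _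
    have hcomm : ∀ x ∈ (Q : Subgroup ↥M).map M.subtype, s * x = x * s := by
      rintro _ ⟨y, -, rfl⟩
      exact congrArg Subtype.val (hsmc y).eq.symm
    have hfc := fixed_commute (α := G ⧸ M) _ hQG hcomm
    rw [← hF] at hfc
    rw [hfc]
    have : Nat.card {a : G ⧸ M // s • a = a ∧ ∀ x ∈ (Q : Subgroup ↥M).map M.subtype, x • a = a} = 1 := by
      rw [Nat.card_eq_one_iff_unique]
      refine ⟨⟨fun a b => ?_⟩, ⟨⟨((1 : G) : G ⧸ M), ?_, ?_⟩⟩⟩
      · have key : ∀ c : {a : G ⧸ M // s • a = a ∧ ∀ x ∈ (Q : Subgroup ↥M).map M.subtype, x • a = a},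
            c.1 = ((1 : G) : G ⧸ M) := by
          rintro ⟨c, hc1, hc2⟩
          obtain ⟨a, rfl⟩ := QuotientGroup.mk_surjective c
          -- the conjugate of `s` at `a` commutes with `s` and `Q`
          have hw : a * s * a⁻¹ ∈ M := by
            rw [hmemM]
            have h1 := ((Commute.conj_iff a).2 ((fix_iff a).1 hc1))
            simpa [mul_assoc] using h1.symm.eq
          rcases hinvQ ⟨a * s * a⁻¹, hw⟩ (Subtype.ext (by
              show a * s * a⁻¹ * (a * s * a⁻¹) = 1
              have : s * s = 1 := by rw [← pow_two, ← hs]; exact pow_orderOf_eq_one s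
              rw [show a * s * a⁻¹ * (a * s * a⁻¹) = a * (s * s) * a⁻¹ by group, this]; group))
            (fun x hx => Subtype.ext (by
              show a * s * a⁻¹ * (x : G) = (x : G) * (a * s * a⁻¹)
              have h1 := hc2 _ ⟨x, hx, rfl⟩
              rw [MulAction.Quotient.smul_mk, QuotientGroup.eq, hmemM] at h1
              have h2 := (Commute.conj_iff a).2 (show Commute (((x : G) • a)⁻¹ * a) s from h1).inv_left
              simpa [mul_assoc] using h2.eq.symm)) with h0 | h0
          · exact absurd (conj_eq_one_iff.1 (congrArg Subtype.val h0)) hs1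
          · have h1 : a * s * a⁻¹ = s := congrArg Subtype.val h0
            rw [QuotientGroup.eq, mul_one, inv_mem_iff, hmemM]
            exact mul_inv_eq_iff_eq_mul.1 h1
        exact Subtype.ext ((key a).trans (key b).symm)
      · rw [MulAction.Quotient.smul_mk, QuotientGroup.eq]
        simpa using hsM
      · rintro _ ⟨y, -, rfl⟩
        rw [MulAction.Quotient.smul_mk, QuotientGroup.eq]
        simpa using y.2
    rw [this]
  have hf46 : Nat.card F = 46 := by omega
  -- counting elements of `M`
  let I : Type _ := {w : ↥M // w * w = 1}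
  have hI : Nat.card F + 1 ≤ Nat.card I := by
    let φ : Option F → I := fun o => match o with
      | none => ⟨1, one_mul 1⟩
      | some a => ⟨⟨a.1.out * s * a.1.out⁻¹, by
          have ha : Commute (a.1.out⁻¹ * s * a.1.out) s := (fix_iff _).1 (by
            rw [QuotientGroup.out_eq']; exact a.2)
          rw [hmemM]
          have h1 := (Commute.conj_iff a.1.out).2 ha
          simpa [mul_assoc] using h1.symm.eq⟩, Subtype.ext (by
          show a.1.out * s * a.1.out⁻¹ * (a.1.out * s * a.1.out⁻¹) = 1
          have : s * s = 1 := by rw [← pow_two, ← hs]; exact pow_orderOf_eq_one s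
          rw [show a.1.out * s * a.1.out⁻¹ * (a.1.out * s * a.1.out⁻¹) = a.1.out * (s * s) * a.1.out⁻¹ by
            group, this]; group)⟩
    have hφ : Function.Injective φ := by
      intro o o' ho
      have hval := congrArg (fun w : I => ((w.1 : ↥M) : G)) ho
      match o, o' with
      | none, none => rfl
      | none, some b =>
        exact absurd (conj_eq_one_iff.1 hval.symm) hs1
      | some a, none =>
        exact absurd (conj_eq_one_iff.1 hval) hs1
      | some a, some b =>
        have e : a.1 = b.1 := by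
          rw [← QuotientGroup.out_eq' a.1, ← QuotientGroup.out_eq' b.1, QuotientGroup.eq, hmemM]
          change a.1.out * s * a.1.out⁻¹ = b.1.out * s * b.1.out⁻¹ at hval
          calc a.1.out⁻¹ * b.1.out * s = a.1.out⁻¹ * (b.1.out * s * b.1.out⁻¹) * b.1.out := by group
            _ = a.1.out⁻¹ * (a.1.out * s * a.1.out⁻¹) * b.1.out := by rw [hval]
            _ = s * (a.1.out⁻¹ * b.1.out) := by group
        rw [Subtype.ext e]
    have := Nat.card_le_card_of_injective φ hφ
    rwa [Finite.card_option] at this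
  let E : Type _ := {y : ↥M // orderOf y = 5} ⊕ {y : ↥M // orderOf y = 3}
  have hE : Nat.card E = 44 := by
    show Nat.card ({y : ↥M // orderOf y = 5} ⊕ {y : ↥M // orderOf y = 3}) = 44
    rw [Nat.card_sum, card_five_elements hP5 hn5, card_five_elements hQ3 (hn3 Q).2]
  let val : E → ↥M := Sum.elim Subtype.val Subtype.val
  have hval : ∀ e : E, orderOf (val e) = 5 ∨ orderOf (val e) = 3 := by
    rintro (y | y)
    · exact Or.inl y.2
    · exact Or.inr y.2
  have valinj : Function.Injective val := by
    rintro (⟨y, hy⟩ | ⟨y, hy⟩) (⟨w, hw⟩ | ⟨w, hw⟩) he <;> change y = w at he <;> subst he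
    · rfl
    · omega
    · omega
    · rfl
  have hodd : ∀ e : E, val e = (val e ^ 2) ^ 8 := fun e => by
    have h15 : val e ^ 15 = 1 := by
      apply orderOf_dvd_iff_pow_eq_one.1
      rcases hval e with h' | h' <;> rw [h'] <;> norm_num
    rw [← pow_mul, show 2 * 8 = 15 + 1 from rfl, pow_succ, h15, one_mul]
  let ψ : (E × Bool) ⊕ I → ↥M := Sum.elim (fun p => bif p.2 then val p.1 * sm else val p.1) Subtype.val
  have hsqE : ∀ p : E × Bool, (bif p.2 then val p.1 * sm else val p.1) ^ 2 = val p.1 ^ 2 := by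
    rintro ⟨e, _ | _⟩
    · rfl
    · show (val e * sm) ^ 2 = _
      rw [(hsmc _).mul_pow, pow_two sm, hsm2, mul_one]
  have hψ : Function.Injective ψ := by
    rintro (p | w) (q | w') he
    · have h2 := congrArg (fun x : ↥M => x ^ 2) he
      simp only [ψ, Sum.elim_inl, hsqE] at h2
      have heq : p.1 = q.1 := valinj (by rw [hodd p.1, hodd q.1, h2])
      obtain ⟨e, b⟩ := p
      obtain ⟨e', b'⟩ := q
      obtain rfl : e = e' := heq
      cases b <;> cases b' <;> simp [ψ] at he ⊢
      all_goals exact hsm1 he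
    · exfalso
      have h2 := congrArg (fun x : ↥M => x ^ 2) he
      simp only [ψ, Sum.elim_inl, Sum.elim_inr, hsqE] at h2
      rw [pow_two (w'.1), w'.2] at h2
      have := hodd p.1
      rw [h2, one_pow] at this
      rcases hval p.1 with h' | h' <;> rw [this, orderOf_one] at h' <;> omega
    · exfalso
      have h2 := congrArg (fun x : ↥M => x ^ 2) he.symm
      simp only [ψ, Sum.elim_inl, Sum.elim_inr, hsqE] at h2
      rw [pow_two (w.1), w.2] at h2
      have := hodd q.1
      rw [h2, one_pow] at this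
      rcases hval q.1 with h' | h' <;> rw [this, orderOf_one] at h' <;> omega
    · rw [show w = w' from Subtype.ext he]
  have := Nat.card_le_card_of_injective ψ hψ
  rw [Nat.card_sum, Nat.card_prod, hE, hM, Nat.card_eq_fintype_card (α := Bool), Fintype.card_bool] at this
  omega

include hn in
theorem normalizer_five (P : Sylow 5 G) :
    Nat.card ↥(normalizer ((P : Subgroup G) : Set G)) = 20 ∧
      Nat.card ↥(centralizer ((P : Subgroup G) : Set G)) = 5 ∧ Nat.card (Sylow 5 G) = 396 := by
  haveI : Fact (Nat.Prime 3) := ⟨Nat.prime_three⟩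
  have h396 : ∀ R : Sylow 5 G, Nat.card (Sylow 5 G) = 396 ∧
      Nat.card ↥(normalizer ((R : Subgroup G) : Set G)) = 20 ∧
      (Nat.card ↥(centralizer ((R : Subgroup G) : Set G)) = 5 ∨
       Nat.card ↥(centralizer ((R : Subgroup G) : Set G)) = 10) := by
    intro R
    rcases data_five hn R with ⟨hd, h3⟩ | ⟨hd, h11⟩ | ⟨hd, hN, hc⟩ | h
    · exfalso
      obtain ⟨⟨x, hxC⟩, hx⟩ := exists_prime_orderOf_dvd_card' 3 h3
      rw [Subgroup.orderOf_mk] at hx
      have := index_eleven hn R (M := normalizer ((R : Subgroup G) : Set G))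
        (R.card_eq_index_normalizer.symm.trans hd) le_rfl hxC (Or.inr rfl)
        (by rw [← hx]; exact pow_orderOf_eq_one x)
      rw [this, orderOf_one] at hx
      omega
    · exfalso
      obtain ⟨⟨y, hy⟩, hy11⟩ := exists_prime_orderOf_dvd_card' 11 h11
      rw [Subgroup.orderOf_mk] at hy11
      obtain ⟨⟨x, hx⟩, hx5⟩ := exists_prime_orderOf_dvd_card' 5 (G := ↥(R : Subgroup G))
        (by rw [card_five hn R])
      rw [Subgroup.orderOf_mk] at hx5
      have := orderOf_dvd_eleven hn hy11 (Subgroup.mem_centralizer_iff.1 hy x hx)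
      rw [hx5] at this
      norm_num at this
    · exact (not_sixtysix hn R hd hN hc).elim
    · exact h
  obtain ⟨hd, hN, hc⟩ := h396 P
  exact ⟨hN, hc.resolve_right (centralizer_five_ne_ten hn P hd hN fun R => (h396 R).2.2), hd⟩

end Cfsg.Agent.M11Order91
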