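import Mathlib
import Cfsg.Agent.Lib.M11Order91Five
import Cfsg.Agent.Lib.ZStarTheorem

/-!
A simple group of order 2520: the Sylow subgroups of order 5 and 7 are self-centralising, with
normalisers of order 20 and 21, and some involution centraliser has order divisible by 8.
-/

set_option autoImplicit false
set_option linter.style.haveILetI false
set_option linter.unusedSectionVars false

namespace Cfsg.Agent.A7Local29

open Subgroup Cfsg.Agent.SimpleOrder Cfsg.Agent.SimpleOrderCheck Cfsg.Agent.M11Order91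

variable {G : Type*} [Group G] [Finite G] [IsSimpleGroup G] (hn : Nat.card G = 2520)

instance fact7 : Fact (Nat.Prime 7) := ⟨by norm_num⟩
instance fact3 : Fact (Nat.Prime 3) := ⟨by norm_num⟩

include hn in
theorem not_comm : ¬ IsMulCommutative G := not_comm_of_not_prime (hn ▸ by norm_num)

include hn in
theorem centralizer_ne_top {g : G} (hg : g ≠ 1) : centralizer ({g} : Set G) ≠ ⊤ := by
  intro h
  have hm : g ∈ Subgroup.center G := Subgroup.mem_center_iff.2 fun x =>
    Subgroup.mem_centralizer_singleton_iff.1 (h ▸ Subgroup.mem_top x)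
  rcases eq_bot_or_top (inferInstance : (Subgroup.center G).Normal) with hz | hz
  · rw [hz, Subgroup.mem_bot] at hm; exact hg hm
  · exact not_comm hn ⟨⟨fun a b => (Subgroup.mem_center_iff.1 (hz ▸ Subgroup.mem_top b) a)⟩⟩

include hn in
/-- Every involution has a centraliser of order divisible by 8. -/
theorem eight_dvd {t : G} (ht : orderOf t = 2) :
    8 ∣ Nat.card ↥(centralizer ({t} : Set G)) := by
  haveI : Fact (Nat.Prime 2) := ⟨Nat.prime_two⟩
  obtain ⟨S, hS⟩ := (IsPGroup.of_card (G := Subgroup.zpowers t) (p := 2) (n := 1)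
    (by rw [Nat.card_zpowers, ht, pow_one])).exists_le_sylow
  have htS : t ∈ (S : Subgroup G) := hS (Subgroup.mem_zpowers t)
  have hS8 : Nat.card ↥(S : Subgroup G) = 8 := by
    rw [sylow_card_of_eq (k := 3) (m := 315) (by rw [hn]; norm_num) (by norm_num) S]; norm_num
  by_cases he : ∀ g ∈ (S : Subgroup G), g ^ 2 = 1
  · have hle : (S : Subgroup G) ≤ centralizer ({t} : Set G) := by
      intro g hg
      rw [Subgroup.mem_centralizer_singleton_iff]
      have h1 := he _ hg
      have h2 := he _ htS
      have h3 := he _ (mul_mem hg htS)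
      rw [pow_two] at h1 h2 h3
      calc g * t = (g * t)⁻¹ := (inv_eq_of_mul_eq_one_right h3).symm
        _ = t⁻¹ * g⁻¹ := mul_inv_rev g t
        _ = t * g := by rw [inv_eq_of_mul_eq_one_right h2, inv_eq_of_mul_eq_one_right h1]
    exact hS8 ▸ Subgroup.card_dvd_of_le hle
  · push Not at he
    obtain ⟨g, hg, hg2⟩ := he
    have hg4 : orderOf g = 4 ∨ orderOf g = 8 := by
      have hd : orderOf g ∣ 2 ^ 3 := by
        have := Subgroup.orderOf_dvd_natCard _ hg
        rwa [hS8] at this
      obtain ⟨k, hk, hk'⟩ := (Nat.dvd_prime_pow Nat.prime_two).1 hd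
      interval_cases k
      · exact absurd (show g ^ 2 = 1 by rw [orderOf_eq_one_iff.1 (show orderOf g = 1 by simpa using hk'), one_pow]) hg2
      · exact absurd (by rw [← (show orderOf g = 2 by simpa using hk')]; exact pow_orderOf_eq_one g) hg2
      · left; simpa using hk'
      · right; simpa using hk'
    classical
    obtain ⟨h, hh, hh4⟩ : ∃ h ∈ (S : Subgroup G), orderOf h = 4 := by
      rcases hg4 with h | h
      · exact ⟨g, hg, h⟩
      · refine ⟨g ^ 2, pow_mem hg 2, ?_⟩
        rw [orderOf_pow' g (by norm_num), h]; decide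
    set z : ↥(S : Subgroup G) := ⟨h, hh⟩ with hz
    have hz4 : orderOf z = 4 := by rw [← hh4, hz, Subgroup.orderOf_mk]
    set M : Subgroup ↥(S : Subgroup G) := Subgroup.zpowers z with hM
    have hidx : M.index = 2 := by
      have := M.card_mul_index
      rw [show Nat.card ↥M = 4 from (Nat.card_zpowers z).trans hz4, hS8] at this
      omega
    haveI : M.Normal := Subgroup.normal_of_index_eq_two hidx
    -- the only involution of `M` is central in `S`
    have huniq : ∀ w ∈ M, orderOf w = 2 → w = z ^ 2 := by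
      intro w hw hw2
      obtain ⟨i, hi⟩ := (mem_zpowers_iff_mem_range_orderOf).1 hw |> Finset.mem_image.1
      rw [hz4, Finset.mem_range] at hi
      obtain ⟨hi4, rfl⟩ := hi
      interval_cases i
      · simp at hw2
      · rw [pow_one, hz4] at hw2; omega
      · rfl
      · rw [orderOf_pow' z (by norm_num), hz4] at hw2; norm_num at hw2
    have hc2 : orderOf (z ^ 2) = 2 := by rw [orderOf_pow' z (by norm_num), hz4]; decide
    have hcen : ∀ s : ↥(S : Subgroup G), s * z ^ 2 * s⁻¹ = z ^ 2 := fun s =>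
      huniq _ (Subgroup.Normal.conj_mem inferInstance _ (pow_mem (Subgroup.mem_zpowers z) 2) s)
        (by rw [← MulAut.conj_apply, MulEquiv.orderOf_eq, hc2])
    by_contra hcon
    have hconj : ∀ a : G, a * t * a⁻¹ ∉ M.map (S : Subgroup G).subtype := by
      rintro a ⟨w, hwM, hwa⟩
      apply hcon
      have hw2 : orderOf w = 2 := by
        rw [← Subgroup.orderOf_coe, show ((w : ↥(S : Subgroup G)) : G) = a * t * a⁻¹ from hwa,
          ← MulAut.conj_apply, MulEquiv.orderOf_eq, ht]
      have hwz := huniq w hwM hw2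
      have hle : (S : Subgroup G).map (MulAut.conj a⁻¹).toMonoidHom ≤ centralizer ({t} : Set G) := by
        rintro _ ⟨s, hs, rfl⟩
        rw [Subgroup.mem_centralizer_singleton_iff, MulEquiv.coe_toMonoidHom, MulAut.conj_apply]
        have h0 := congrArg Subtype.val (hcen ⟨s, hs⟩)
        rw [← hwz] at h0
        change s * (w : G) * s⁻¹ = (w : G) at h0
        rw [show (w : G) = a * t * a⁻¹ from hwa, mul_inv_eq_iff_eq_mul] at h0
        calc a⁻¹ * s * a⁻¹⁻¹ * t = a⁻¹ * (s * (a * t * a⁻¹)) * a := by group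
          _ = a⁻¹ * (a * t * a⁻¹ * s) * a := by rw [h0]
          _ = t * (a⁻¹ * s * a⁻¹⁻¹) := by group
      have := Subgroup.card_dvd_of_le hle
      rwa [Subgroup.card_map_of_injective (MulAut.conj a⁻¹).injective, hS8] at this
    obtain ⟨N, hN, hN2, -⟩ := TransferThompson.thompson_transfer S (M.map (S : Subgroup G).subtype)
      (Subgroup.map_subtype_le M) (by
        rw [Subgroup.relIndex, Subgroup.subgroupOf,
          Subgroup.comap_map_eq_self_of_injective (S : Subgroup G).subtype_injective, hidx]) ht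
      htS hconj
    rcases eq_bot_or_top hN with rfl | rfl
    · rw [Subgroup.index_bot] at hN2; omega
    · simp at hN2

include hn in
theorem false_of_isolated {t : G} (ht : Cfsg.IsIsolatedInvolution t) : False := by
  obtain ⟨K, hK, hKodd, hKc⟩ := ZStarTheorem.exists_odd_normal ht
  rcases eq_bot_or_top hK with h | h
  · refine centralizer_ne_top hn (fun e => ?_) (eq_top_iff.2 fun g _ => ?_) (g := t)
    · have := ht.1; rw [e, orderOf_one] at this; omega
    · rw [Subgroup.mem_centralizer_singleton_iff]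
      have := hKc g
      rw [h, Subgroup.mem_bot, mul_inv_eq_one, mul_inv_eq_iff_eq_mul] at this
      exact this.symm
  · rw [h, Subgroup.card_top, hn] at hKodd
    exact absurd hKodd (by decide)

include hn in
theorem not_fifteen (P : Sylow 7 G) (hd : Nat.card (Sylow 7 G) = 15)
    (he : 2 ∣ Nat.card ↥(centralizer ((P : Subgroup G) : Set G))) : False := by
  haveI : Fact (Nat.Prime 2) := ⟨Nat.prime_two⟩
  obtain ⟨⟨c, hc⟩, hc2⟩ := exists_prime_orderOf_dvd_card' 2 he
  rw [Subgroup.orderOf_mk] at hc2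
  set N := normalizer ((P : Subgroup G) : Set G) with hN
  have hidx : N.index = 15 := P.card_eq_index_normalizer.symm.trans hd
  have hN1 : N ≠ ⊤ := fun h => by rw [h, Subgroup.index_top] at hidx; omega
  have hf := fixed_mod P (le_refl N) hc
  classical
  letI : Fintype (G ⧸ N) := Fintype.ofFinite _
  have h4 := Simple720.four_dvd_moved (α := G ⧸ N) (not_comm hn) (w := c)
    (by rw [← hc2]; exact pow_orderOf_eq_one c)
  rw [← Subgroup.index, hidx] at h4
  have hle : Nat.card (MulAction.fixedBy (G ⧸ N) c) ≤ 15 :=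
    (Nat.card_le_card_of_injective _ Subtype.val_injective).trans_eq hidx
  have h1 := eq_one_of_all_fixed hN1 (g := c) (by rw [hidx]; omega)
  rw [h1, orderOf_one] at hc2
  omega

include hn in
theorem not_thirty_six (P : Sylow 7 G) (hd : Nat.card (Sylow 7 G) = 36)
    (hC : Nat.card ↥(centralizer ((P : Subgroup G) : Set G)) = 35)
    (hC5 : ∀ R : Sylow 5 G, Nat.card ↥(centralizer ((R : Subgroup G) : Set G)) = 35) : False := by
  haveI : Fact (Nat.Prime 2) := ⟨Nat.prime_two⟩
  set N := normalizer ((P : Subgroup G) : Set G) with hN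
  set C := centralizer ((P : Subgroup G) : Set G) with hCdef
  have hidx : N.index = 36 := P.card_eq_index_normalizer.symm.trans hd
  have hN70 : Nat.card ↥N = 70 := by
    have := N.card_mul_index
    rw [hidx, hn] at this
    omega
  have hN1 : N ≠ ⊤ := fun h => by rw [h, Subgroup.index_top] at hidx; omega
  obtain ⟨⟨w, hwN⟩, hw2⟩ := exists_prime_orderOf_dvd_card' 2 (G := ↥N) (hN70 ▸ by norm_num)
  rw [Subgroup.orderOf_mk] at hw2
  have hP7 : Nat.card ↥(P : Subgroup G) = 7 :=
    sylow_card_of_once (by rw [hn]) (by rw [hn]; norm_num) P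
  -- `w` centralises no non-trivial element of `C`
  have hwc : ∀ c ∈ C, c * w = w * c → c = 1 := by
    intro c hc hcw
    by_contra hc1
    have hdvd : orderOf c ∣ 35 := hC ▸ Subgroup.orderOf_dvd_natCard _ hc
    obtain ⟨q, hq, hqd⟩ := Nat.exists_prime_and_dvd (n := orderOf c) (fun e => hc1 (orderOf_eq_one_iff.1 e))
    haveI := Fact.mk hq
    set y := c ^ (orderOf c / q)
    have hy : orderOf y = q := orderOf_pow_orderOf_div (orderOf_pos c).ne' hqd
    have hyw : Commute w y := (Commute.pow_right (Commute.symm hcw) _)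
    obtain ⟨R, hR⟩ := (IsPGroup.of_card (G := ↥(Subgroup.zpowers y)) (p := q) (n := 1)
      (by rw [Nat.card_zpowers, hy, pow_one])).exists_le_sylow
    have hq35 : q ∣ 35 := hqd.trans hdvd
    have hq' : q = 5 ∨ q = 7 := by
      rcases (Nat.Prime.dvd_mul hq).1 (show q ∣ 5 * 7 from hq35) with h | h
      · exact Or.inl ((Nat.prime_dvd_prime_iff_eq hq (by norm_num)).1 h)
      · exact Or.inr ((Nat.prime_dvd_prime_iff_eq hq (by norm_num)).1 h)
    have hwR : w ∈ centralizer ((R : Subgroup G) : Set G) := by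
      have he : Subgroup.zpowers y = (R : Subgroup G) := by
        refine Subgroup.eq_of_le_of_card_ge hR ?_
        rw [Nat.card_zpowers, hy]
        rcases hq' with rfl | rfl
        · rw [sylow_card_of_once (by rw [hn]) (by rw [hn]; norm_num) R]
        · rw [sylow_card_of_once (by rw [hn]) (by rw [hn]; norm_num) R]
      rw [← he, Subgroup.zpowers_eq_closure, Subgroup.centralizer_closure,
        Subgroup.mem_centralizer_singleton_iff]
      exact hyw.eq
    have h2 := Subgroup.orderOf_dvd_natCard _ hwR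
    rw [hw2] at h2
    rcases hq' with rfl | rfl
    · rw [hC5 R] at h2; norm_num at h2
    · rw [SimpleSearch.card_centralizer_congr R P, ← hCdef, hC] at h2; norm_num at h2
  -- elements of prime order of `C` fix one coset
  have hone : ∀ c ∈ C, c ≠ 1 → ∀ a : G ⧸ N, c • a = a → a = ((1 : G) : G ⧸ N) := by
    intro c hc hc1 a ha
    have hdvd : orderOf c ∣ 35 := hC ▸ Subgroup.orderOf_dvd_natCard _ hc
    obtain ⟨q, hq, hqd⟩ := Nat.exists_prime_and_dvd (n := orderOf c) (fun e => hc1 (orderOf_eq_one_iff.1 e))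
    set y := c ^ (orderOf c / q) with hy
    have hyq : orderOf y = q := orderOf_pow_orderOf_div (orderOf_pos c).ne' hqd
    have hyC : y ∈ C := pow_mem hc _
    have hya : y • a = a := by
      rw [hy]
      exact MulAction.mem_stabilizer_iff.1 (pow_mem (MulAction.mem_stabilizer_iff.2 ha :
        c ∈ MulAction.stabilizer G a) _)
    have hf := fixed_mod P (le_refl N) (g := y) hyC
    have hle : Nat.card (MulAction.fixedBy (G ⧸ N) y) ≤ 36 :=
      (Nat.card_le_card_of_injective _ Subtype.val_injective).trans_eq hidx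
    have hq35 : q ∣ 35 := hqd.trans hdvd
    have hq' : q = 5 ∨ q = 7 := by
      rcases (Nat.Prime.dvd_mul hq).1 (show q ∣ 5 * 7 from hq35) with h | h
      · exact Or.inl ((Nat.prime_dvd_prime_iff_eq hq (by norm_num)).1 h)
      · exact Or.inr ((Nat.prime_dvd_prime_iff_eq hq (by norm_num)).1 h)
    haveI := Fact.mk hq
    rcases hq' with rfl | rfl
    swap
    · -- an element of order seven of `C` generates `P`
      have hyP : Subgroup.zpowers y = (P : Subgroup G) := by
        have hle' : Subgroup.zpowers y ⊔ (P : Subgroup G) ≤ C := sup_le (Subgroup.zpowers_le.2 hyC)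
          (SimpleSearch.le_centralizer_self hP7)
        by_contra hne
        have hcop : Disjoint (Subgroup.zpowers y) (P : Subgroup G) := by
          rw [disjoint_iff]
          by_contra hb
          refine hne ?_
          haveI : Fact (Nat.Prime (Nat.card ↥(Subgroup.zpowers y))) := ⟨by rw [Nat.card_zpowers, hyq]; norm_num⟩
          rcases ((Subgroup.zpowers y ⊓ (P : Subgroup G)).subgroupOf (Subgroup.zpowers y)).eq_bot_or_eq_top_of_prime_card with e | e
          · exact absurd (by rwa [Subgroup.subgroupOf_eq_bot, disjoint_iff, inf_eq_left.2 inf_le_left] at e) hb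
          · rw [Subgroup.subgroupOf_eq_top] at e
            exact Subgroup.eq_of_le_of_card_ge (e.trans inf_le_right) (by rw [hP7, Nat.card_zpowers, hyq])
        have hinj := Subgroup.mul_injective_of_disjoint hcop
        have h49 : Nat.card (↥(Subgroup.zpowers y) × ↥(P : Subgroup G)) ≤ Nat.card ↥C :=
          Nat.card_le_card_of_injective (fun p => (⟨(p.1 : G) * (p.2 : G),
            mul_mem (hle' (le_sup_left (a := Subgroup.zpowers y) p.1.2))
              (hle' (le_sup_right (a := Subgroup.zpowers y) p.2.2))⟩ : ↥C))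
            fun a b h => hinj (congrArg Subtype.val h)
        rw [Nat.card_prod, Nat.card_zpowers, hyq, hP7, hC] at h49
        omega
      refine mk_eq_one P (le_refl N) fun u hu => ?_
      rw [← hyP] at hu
      exact MulAction.mem_stabilizer_iff.1 (Subgroup.zpowers_le.2
        (MulAction.mem_stabilizer_iff.2 hya : y ∈ MulAction.stabilizer G a) hu)
    have hm := moved_dvd (α := G ⧸ N) (r := 5) (k := 1) (g := y)
      (by rw [pow_one, ← hyq]; exact pow_orderOf_eq_one y)
    rw [← Subgroup.index, hidx] at hm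
    have hne36 : Nat.card (MulAction.fixedBy (G ⧸ N) y) ≠ 36 := fun h => by
      rw [eq_one_of_all_fixed hN1 (h.trans hidx.symm), orderOf_one] at hyq
      exact hq.one_lt.ne hyq
    have hf1 : Nat.card (MulAction.fixedBy (G ⧸ N) y) = 1 := by
      omega
    obtain ⟨hs, -⟩ := Nat.card_eq_one_iff_unique.1 hf1
    have hbase : y • ((1 : G) : G ⧸ N) = ((1 : G) : G ⧸ N) := by
      rw [MulAction.Quotient.smul_mk, QuotientGroup.eq]
      simpa [hN] using Subgroup.centralizer_le_normalizer _ hyC
    exact congrArg Subtype.val (@Subsingleton.elim _ hs (⟨a, hya⟩ : MulAction.fixedBy (G ⧸ N) y)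
      ⟨_, hbase⟩)
  classical
  letI : Fintype (G ⧸ N) := Fintype.ofFinite _
  letI : Fintype ↥C := Fintype.ofFinite _
  have h4 := Simple720.four_dvd_moved (α := G ⧸ N) (not_comm hn) (w := w)
    (by rw [← hw2]; exact pow_orderOf_eq_one w)
  rw [← Subgroup.index, hidx] at h4
  have hle : Nat.card (MulAction.fixedBy (G ⧸ N) w) ≤ 36 :=
    (Nat.card_le_card_of_injective _ Subtype.val_injective).trans_eq hidx
  have hbase : w • ((1 : G) : G ⧸ N) = ((1 : G) : G ⧸ N) := by
    rw [MulAction.Quotient.smul_mk, QuotientGroup.eq]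
    simpa using hwN
  set F := Finset.univ.filter fun a : G ⧸ N => w • a = a
  have hFcard : F.card = Nat.card (MulAction.fixedBy (G ⧸ N) w) := by
    rw [Nat.card_eq_fintype_card]
    exact (Fintype.card_subtype _).symm
  have hF1 : ((1 : G) : G ⧸ N) ∈ F := Finset.mem_filter.2 ⟨Finset.mem_univ _, hbase⟩
  have hF2 : (F.erase ((1 : G) : G ⧸ N)).card ≤ 1 := by
    rw [Finset.card_le_one]
    intro a ha b hb
    obtain ⟨ha1, haF⟩ := Finset.mem_erase.1 ha
    obtain ⟨hb1, hbF⟩ := Finset.mem_erase.1 hb
    have hwa := (Finset.mem_filter.1 haF).2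
    have hwb := (Finset.mem_filter.1 hbF).2
    -- the orbit map of `C` at `a` covers the other cosets
    have hinj : Function.Injective fun c : ↥C => (c : G) • a := by
      intro c d hcd
      by_contra hne
      refine ha1 (hone _ (mul_mem (inv_mem d.2) c.2) (fun e => hne (Subtype.ext
        (inv_mul_eq_one.1 e).symm)) a ?_)
      rw [mul_smul]
      exact (congrArg ((d : G)⁻¹ • ·) hcd).trans (inv_smul_smul _ _)
    have hsub : (Finset.univ.image fun c : ↥C => (c : G) • a) ⊆
        Finset.univ.erase ((1 : G) : G ⧸ N) := by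
      intro d hd
      obtain ⟨c, -, rfl⟩ := Finset.mem_image.1 hd
      refine Finset.mem_erase.2 ⟨fun e => ha1 ?_, Finset.mem_univ _⟩
      have hc' : ((c : G)⁻¹) • ((1 : G) : G ⧸ N) = ((1 : G) : G ⧸ N) := by
        rw [MulAction.Quotient.smul_mk, QuotientGroup.eq]
        simpa [hN] using Subgroup.centralizer_le_normalizer _ c.2
      rw [← inv_smul_smul (c : G) a, e, hc']
    have heq := Finset.eq_of_subset_of_card_le hsub (by
      rw [Finset.card_image_of_injective _ hinj, Finset.card_univ, Finset.card_erase_of_mem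
        (Finset.mem_univ _), Finset.card_univ, ← Nat.card_eq_fintype_card, ← Nat.card_eq_fintype_card,
        hC, ← Subgroup.index, hidx])
    obtain ⟨c, -, hc⟩ := Finset.mem_image.1 (heq.symm ▸ Finset.mem_erase.2 ⟨hb1, Finset.mem_univ b⟩)
    have hcC : w * (c : G) * w⁻¹ ∈ C := by
      haveI : (C.subgroupOf N).Normal := Subgroup.normal_subgroupOf_centralizer_normalizer _
      have := Subgroup.Normal.conj_mem (inferInstance : (C.subgroupOf N).Normal)
        ⟨(c : G), Subgroup.centralizer_le_normalizer _ c.2⟩ c.2 ⟨w, hwN⟩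
      exact this
    have hfix : ((c : G)⁻¹ * (w * (c : G) * w⁻¹)) • a = a := by
      have hwa' : w⁻¹ • a = a := inv_smul_eq_iff.2 hwa.symm
      rw [mul_smul, mul_smul, mul_smul, hwa', hc, hwb, inv_smul_eq_iff, hc]
    by_contra hab
    have hne : (c : G)⁻¹ * (w * (c : G) * w⁻¹) ≠ 1 := by
      intro e
      have hcw : (c : G) * w = w * (c : G) := by
        rw [inv_mul_eq_one, eq_mul_inv_iff_mul_eq] at e
        exact e
      have := hwc _ c.2 hcw
      rw [this, one_smul] at hc
      exact hab hc
    exact ha1 (hone _ (mul_mem (inv_mem c.2) hcC) hne a hfix)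
  rw [Finset.card_erase_of_mem hF1, hFcard] at hF2
  have hFpos := Finset.card_pos.2 ⟨_, hF1⟩
  rw [hFcard] at hFpos
  omega

include hn in
theorem not_two_five (P : Sylow 5 G) (hd : Nat.card (Sylow 5 G) = 126)
    (hC : Nat.card ↥(centralizer ((P : Subgroup G) : Set G)) = 10) : False := by
  haveI : Fact (Nat.Prime 2) := ⟨Nat.prime_two⟩
  obtain ⟨⟨t, htC⟩, ht⟩ := exists_prime_orderOf_dvd_card' 2
    (G := ↥(centralizer ((P : Subgroup G) : Set G))) (hC ▸ by norm_num)
  rw [Subgroup.orderOf_mk] at ht
  have hP5 : Nat.card ↥(P : Subgroup G) = 5 :=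
    sylow_card_of_once (by rw [hn]) (by rw [hn]; norm_num) P
  set H := centralizer ({t} : Set G) with hH
  set N := normalizer ((P : Subgroup G) : Set G) with hN
  have ht1 : t ≠ 1 := fun h => by rw [h, orderOf_one] at ht; omega
  have hNH : N ≤ H := SimpleCentralizerKill.normalizer_le_centralizer_of_two P (by norm_num) hP5
    (by rw [hC]) ht htC
  have hHtop : H ≠ ⊤ := centralizer_ne_top hn ht1
  have h1 := Subgroup.relIndex_mul_index hNH
  rw [show N.index = 126 from P.card_eq_index_normalizer.symm.trans hd] at h1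
  have h2 := SimpleCentralizerKill.relIndex_mod_of_normalizer_le P hNH
  rw [← hN] at h2
  have h8 : 8 ∣ Nat.card ↥H := eight_dvd hn ht
  have hi := iOK_index (not_comm hn) [7, 5] H hHtop
  rw [hn] at hi
  have hmul := H.card_mul_index
  rw [hn] at hmul
  have key : ∀ r ∈ List.range 127, ∀ i ∈ List.range 127, r * i = 126 → r % 5 = 1 →
      iOK 2520 [7, 5] i = true → 2520 / i % 8 = 0 → i = 21 ∨ i = 1 := by decide +kernel
  have hr0 : 0 < N.relIndex H := Nat.pos_of_ne_zero (fun e => by rw [e, zero_mul] at h1; omega)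
  have hi0 : 0 < H.index := Nat.pos_of_ne_zero Subgroup.index_ne_zero_of_finite
  rcases key (N.relIndex H) (List.mem_range.2 (Nat.lt_succ_of_le (Nat.le_of_dvd (by norm_num)
      (Dvd.intro _ h1)))) H.index (List.mem_range.2 (Nat.lt_succ_of_le (Nat.le_of_dvd (by norm_num)
      (Dvd.intro_left _ h1)))) h1 h2 hi
      (by rw [← hmul, Nat.mul_div_cancel _ hi0]; exact Nat.mod_eq_zero_of_dvd h8) with h | h
  · have hf := fixed_mod P hNH htC
    classical
    letI : Fintype (G ⧸ H) := Fintype.ofFinite _
    have h4 := Simple720.four_dvd_moved (α := G ⧸ H) (not_comm hn) (w := t)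
      (by rw [← ht]; exact pow_orderOf_eq_one t)
    rw [← Subgroup.index, h] at h4
    have hle : Nat.card (MulAction.fixedBy (G ⧸ H) t) ≤ 21 :=
      (Nat.card_le_card_of_injective _ Subtype.val_injective).trans_eq h
    have hne21 : Nat.card (MulAction.fixedBy (G ⧸ H) t) ≠ 21 := fun e =>
      ht1 (eq_one_of_all_fixed hHtop (e.trans h.symm))
    have hf1 : Nat.card (MulAction.fixedBy (G ⧸ H) t) = 1 := by omega
    refine false_of_isolated hn (t := t) ⟨ht, fun g hg => ?_⟩
    have hmem : g⁻¹ * t * g ∈ H := by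
      rw [Subgroup.mem_centralizer_singleton_iff]
      have := (Commute.conj_iff g⁻¹).2 hg.symm
      simpa [mul_assoc] using this.symm.eq
    have e1 : t • ((g : G ⧸ H)) = (g : G ⧸ H) := by
      rw [MulAction.Quotient.smul_mk, QuotientGroup.eq]
      simpa [mul_assoc] using inv_mem hmem
    have e2 : t • (((1 : G) : G ⧸ H)) = ((1 : G) : G ⧸ H) := by
      rw [MulAction.Quotient.smul_mk, QuotientGroup.eq]
      simpa using hNH (Subgroup.centralizer_le_normalizer _ htC)
    obtain ⟨hs, -⟩ := Nat.card_eq_one_iff_unique.1 hf1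
    have heq := congrArg Subtype.val (@Subsingleton.elim _ hs
      (⟨(g : G ⧸ H), e1⟩ : MulAction.fixedBy (G ⧸ H) t) ⟨((1 : G) : G ⧸ H), e2⟩)
    rw [QuotientGroup.eq, mul_one, inv_mem_iff, Subgroup.mem_centralizer_singleton_iff] at heq
    rw [heq, mul_inv_cancel_right]
  · exact hHtop (Subgroup.index_eq_one.1 h)

include hn in
theorem data : (∀ P : Sylow 5 G, Nat.card ↥(normalizer ((P : Subgroup G) : Set G)) = 20 ∧
      Nat.card ↥(centralizer ((P : Subgroup G) : Set G)) = 5) ∧
    (∀ P : Sylow 7 G, Nat.card ↥(normalizer ((P : Subgroup G) : Set G)) = 21 ∧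
      Nat.card ↥(centralizer ((P : Subgroup G) : Set G)) = 7) := by
  have hG := not_comm hn
  obtain ⟨a, ha, ha5, hA⟩ := SimpleSearch.exists_holds hG [5, 7] (q := 5) (by norm_num)
    (by rw [hn]) (by rw [hn]; norm_num)
  obtain ⟨b, hb, hb7, hB⟩ := SimpleSearch.exists_holds hG [5, 7] (q := 7) (by norm_num)
    (by rw [hn]) (by rw [hn]; norm_num)
  have hcomp : SimpleSearch.comp (Nat.card G) a b = true := by
    rw [SimpleSearch.comp, Bool.and_eq_true]
    exact ⟨SimpleSearch.comp1_eq_true (by rw [ha5, hb7]; norm_num) hA hB,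
      SimpleSearch.comp1_eq_true (by rw [ha5, hb7]; norm_num) hB hA⟩
  rw [hn] at ha hb hA hB hcomp
  have key : ∀ a ∈ SimpleSearch.opts 2520 [5, 7] 5, ∀ b ∈ SimpleSearch.opts 2520 [5, 7] 7,
      SimpleSearch.comp 2520 a b = true →
      (b = (7, 15, 2) ∨ b = (7, 15, 3) ∨ b = (7, 15, 6)) ∨ (a = (5, 36, 2) ∧ b = (7, 36, 2)) ∨
      (a = (5, 126, 2) ∧ b = (7, 120, 3)) ∨ (a = (5, 126, 4) ∧ b = (7, 120, 3)) := by
    decide +kernel
  rcases key a ha b hb hcomp with h | ⟨rfl, rfl⟩ | ⟨rfl, rfl⟩ | ⟨rfl, rfl⟩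
  · exfalso
    rcases h with rfl | rfl | rfl <;>
    · obtain ⟨P⟩ : Nonempty (Sylow 7 G) := inferInstance
      refine not_fifteen hn P hB.num ?_
      rw [hB.cent P]; decide
  · exfalso
    obtain ⟨P⟩ : Nonempty (Sylow 7 G) := inferInstance
    exact not_thirty_six hn P hB.num (hB.cent P) fun R => hA.cent R
  · exfalso
    obtain ⟨P⟩ : Nonempty (Sylow 5 G) := inferInstance
    exact not_two_five hn P hA.num (hA.cent P)
  · exact ⟨fun P => ⟨hA.norm P, hA.cent P⟩, fun P => ⟨hB.norm P, hB.cent P⟩⟩

include hn in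
theorem card_centralizer_five {z : G} (hz : orderOf z = 5) :
    Nat.card ↥(centralizer ({z} : Set G)) = 5 := by
  obtain ⟨P, hle⟩ := (IsPGroup.of_card (G := ↥(Subgroup.zpowers z)) (p := 5) (n := 1)
    (by rw [Nat.card_zpowers, hz, pow_one])).exists_le_sylow
  have he : Subgroup.zpowers z = (P : Subgroup G) := Subgroup.eq_of_le_of_card_ge hle (by
    rw [sylow_card_of_once (by rw [hn]) (by rw [hn]; norm_num) P, Nat.card_zpowers, hz])
  rw [← Subgroup.centralizer_closure, ← Subgroup.zpowers_eq_closure, he]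
  exact ((data hn).1 P).2

include hn in
theorem card_centralizer_seven {z : G} (hz : orderOf z = 7) :
    Nat.card ↥(centralizer ({z} : Set G)) = 7 := by
  obtain ⟨P, hle⟩ := (IsPGroup.of_card (G := ↥(Subgroup.zpowers z)) (p := 7) (n := 1)
    (by rw [Nat.card_zpowers, hz, pow_one])).exists_le_sylow
  have he : Subgroup.zpowers z = (P : Subgroup G) := Subgroup.eq_of_le_of_card_ge hle (by
    rw [sylow_card_of_once (by rw [hn]) (by rw [hn]; norm_num) P, Nat.card_zpowers, hz])
  rw [← Subgroup.centralizer_closure, ← Subgroup.zpowers_eq_closure, he]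
  exact ((data hn).2 P).2

include hn in
theorem no_product_seven {t y : G} (ht : orderOf t = 2) (hy : orderOf y = 7) :
    Nat.card {x : G // IsConj y (t * (x * t * x⁻¹))} = 0 := by
  refine (Nat.card_eq_zero).2 (Or.inl ⟨fun ⟨x, hx⟩ => ?_⟩)
  obtain ⟨c, hc⟩ := isConj_iff.1 hx
  set u := x * t * x⁻¹
  have ht2 : t * t = 1 := by rw [← pow_two, ← ht]; exact pow_orderOf_eq_one t
  have hu2 : u * u = 1 := by
    simp only [u]
    calc x * t * x⁻¹ * (x * t * x⁻¹) = x * (t * t) * x⁻¹ := by group
      _ = 1 := by rw [ht2]; group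
  set w := t * u
  have hw : orderOf w = 7 := by rw [← hc, ← MulAut.conj_apply, MulEquiv.orderOf_eq, hy]
  have hinv : t * w * t⁻¹ = w⁻¹ := by
    have e1 : t⁻¹ = t := inv_eq_of_mul_eq_one_left ht2
    have e2 : u⁻¹ = u := inv_eq_of_mul_eq_one_left hu2
    simp only [w]
    rw [mul_inv_rev, e1, e2, ← mul_assoc t t u, ht2, one_mul]
  obtain ⟨P, hle⟩ := (IsPGroup.of_card (G := ↥(Subgroup.zpowers w)) (p := 7) (n := 1)
    (by rw [Nat.card_zpowers, hw, pow_one])).exists_le_sylow
  have he : Subgroup.zpowers w = (P : Subgroup G) := Subgroup.eq_of_le_of_card_ge hle (by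
    rw [sylow_card_of_once (by rw [hn]) (by rw [hn]; norm_num) P, Nat.card_zpowers, hw])
  have htN : t ∈ normalizer ((P : Subgroup G) : Set G) := by
    rw [← he, Subgroup.mem_normalizer_iff]
    intro a
    have hz : ∀ k : ℤ, t * w ^ k * t⁻¹ = (w ^ k)⁻¹ := fun k => by
      rw [← conj_zpow, hinv, inv_zpow]
    constructor
    · rintro ⟨k, rfl⟩
      simp only [hz]
      exact inv_mem ⟨k, rfl⟩
    · rintro ⟨k, hk⟩
      refine ⟨-k, ?_⟩
      simp only at hk ⊢
      have : a = t⁻¹ * w ^ k * t := by rw [hk]; group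
      rw [this, zpow_neg, ← hz k]
      have e1 : t⁻¹ = t := inv_eq_of_mul_eq_one_left ht2
      rw [e1]
  have := Subgroup.orderOf_dvd_natCard _ htN
  rw [ht, ((data hn).2 P).1] at this
  norm_num at this

include hn in
/-- Some involution and some element of order 3, with centralisers of order divisible by 8 and 9. -/
theorem exists_three : ∃ x : G, orderOf x = 3 ∧ 9 ∣ Nat.card ↥(centralizer ({x} : Set G)) := by
  obtain ⟨R⟩ : Nonempty (Sylow 3 G) := inferInstance
  have hR : Nat.card ↥(R : Subgroup G) = 3 ^ 2 :=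
    sylow_card_of_eq (k := 2) (m := 280) (by rw [hn]; norm_num) (by norm_num) R
  haveI := IsPGroup.isMulCommutative_of_card_eq_prime_sq hR
  obtain ⟨⟨x, hx⟩, hx3⟩ := exists_prime_orderOf_dvd_card' 3 (G := ↥(R : Subgroup G))
    (by rw [hR]; norm_num)
  rw [Subgroup.orderOf_mk] at hx3
  have hle : (R : Subgroup G) ≤ centralizer ({x} : Set G) := fun r hr =>
    Subgroup.mem_centralizer_singleton_iff.2 (congrArg Subtype.val
      (IsMulCommutative.is_comm.comm (⟨r, hr⟩ : ↥(R : Subgroup G)) ⟨x, hx⟩))
  have h := Subgroup.card_dvd_of_le hle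
  rw [hR] at h
  exact ⟨x, hx3, h⟩

end Cfsg.Agent.A7Local29
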