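import Cfsg.Agent.Lib.M11Order91Table

/-!
Involutions and elements of order 3 in a simple group of order 7920.
-/

set_option autoImplicit false
set_option linter.style.haveILetI false
set_option linter.unusedSectionVars false

open scoped ComplexConjugate

namespace Cfsg.Agent.M11Order91

open Cfsg Cfsg.Agent.SimpleOrderCheck

attribute [local instance] Classical.propDecidable

/-- A primitive cube root of unity. -/
noncomputable def omega3 : ℂ := ⟨-(1 / 2), Real.sqrt 3 / 2⟩

theorem omega3_rel : omega3 * omega3 + omega3 + 1 = 0 := by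
  apply Complex.ext
  · simp [omega3]
    nlinarith [Real.mul_self_sqrt (show (0 : ℝ) ≤ 3 by norm_num)]
  · simp [omega3]
    ring

theorem normSq_eis (m n : ℤ) :
    Complex.normSq ((m : ℂ) + n * omega3) = ((m * m - m * n + n * n : ℤ) : ℝ) := by
  rw [Complex.normSq_apply]
  simp [omega3]
  nlinarith [Real.mul_self_sqrt (show (0 : ℝ) ≤ 3 by norm_num)]

theorem im_eis (m n : ℤ) : ((m : ℂ) + n * omega3).im = (n : ℝ) * (Real.sqrt 3 / 2) := by
  simp [omega3]

/-- The arithmetic of the column of an involution. -/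
theorem solve_column {a b c o z f k q : ℤ} {C : ℕ} (pa : a % 2 = 0) (pb : b % 2 = 0) (pc : c % 2 = 0)
    (pz : z % 2 = 0) (pf : f % 2 = 0) (pk : k % 2 = 1)
    (e1 : z = 1 - (a + b + c) + k) (e2 : 1 + o + z + z - f = 0)
    (e3 : 1 + 10 * (a + b + c) + 11 * o + 16 * (z + z) + 44 * f + 45 * k + 55 * q = 0)
    (e4 : 1 + (a * a + b * b + c * c) + o * o + (z * z + z * z) + f * f + k * k + q * q = (C : ℤ))
    (e5 : 720 - 72 * (a * a + b * b + c * c) + 16 * (k * k) - 45 * (z * z) = 0)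
    (hC : C ∈ ([8, 16, 24, 48, 72, 144] : List ℕ)) :
    z = 0 ∧ k = -3 ∧ f = 4 ∧ o = 3 ∧ q = -1 ∧ a ^ 2 = 4 ∧ b ^ 2 = 4 ∧ c ^ 2 = 4 ∧ a + b + c = -2 ∧ C = 48 := by
  have hCle : (C : ℤ) ≤ 144 := by
    simp only [List.mem_cons, List.mem_nil_iff, or_false] at hC
    rcases hC with rfl | rfl | rfl | rfl | rfl | rfl <;> norm_num
  obtain ⟨a', rfl⟩ : (2 : ℤ) ∣ a := Int.dvd_of_emod_eq_zero pa
  obtain ⟨b', rfl⟩ : (2 : ℤ) ∣ b := Int.dvd_of_emod_eq_zero pb
  obtain ⟨c', rfl⟩ : (2 : ℤ) ∣ c := Int.dvd_of_emod_eq_zero pc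
  set F : ℤ := a' * a' + b' * b' + c' * c' with hF
  have hE : 2 * a' * (2 * a') + 2 * b' * (2 * b') + 2 * c' * (2 * c') = 4 * F := by rw [hF]; ring
  rw [hE] at e4 e5
  have hF0 : 0 ≤ F := add_nonneg (add_nonneg (mul_self_nonneg _) (mul_self_nonneg _)) (mul_self_nonneg _)
  have n4 := mul_self_nonneg o
  have n5 := mul_self_nonneg z
  have n6 := mul_self_nonneg f
  have n7 := mul_self_nonneg k
  have n8 := mul_self_nonneg q
  have hsq : ∀ w : ℤ, w * w ≤ 144 → w ∈ Finset.Icc (-12 : ℤ) 12 := fun w hw =>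
    Finset.mem_Icc.2 ⟨by nlinarith, by nlinarith⟩
  have key1 : ∀ z ∈ Finset.Icc (-12 : ℤ) 12, ∀ k ∈ Finset.Icc (-12 : ℤ) 12, z % 2 = 0 → k % 2 = 1 →
      (720 + 16 * (k * k) - 45 * (z * z)) % 288 = 0 → 0 ≤ 720 + 16 * (k * k) - 45 * (z * z) →
      1 + (720 + 16 * (k * k) - 45 * (z * z)) / 72 + z * z + z * z + k * k ≤ 144 →
      z = 0 ∧ (k = -9 ∨ k = -3 ∨ k = 3 ∨ k = 9) := by decide +kernel
  obtain ⟨hz0, hk4⟩ := key1 z (hsq z (by omega)) k (hsq k (by omega)) pz pk (by omega) (by omega) (by omega)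
  subst hz0
  have key2 : ∀ k ∈ ([-9, -3, 3, 9] : List ℤ), ∀ f ∈ Finset.Icc (-12 : ℤ) 12,
      ∀ d ∈ ([8, 16, 24, 48, 72, 144] : List ℕ), f % 2 = 0 →
      1 + (720 + 16 * (k * k)) / 72 + (f - 1) * (f - 1) + f * f + k * k + (k + f) * (k + f) = (d : ℤ) →
      k = -3 ∧ f = 4 ∧ d = 48 := by decide +kernel
  have ho' : o = f - 1 := by omega
  have hq' : q = -(k + f) := by omega
  have hfm : f ∈ Finset.Icc (-12 : ℤ) 12 := hsq f (by omega)
  subst ho' hq'
  obtain ⟨hk', hf', hC48⟩ := key2 k (by simpa using hk4) f hfm C hC pf (by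
    rw [show (720 + 16 * (k * k)) / 72 = 4 * F by omega, ← e4]
    ring)
  subst hk' hf'
  have hF3 : F = 3 := by omega
  have h1 : ∀ w : ℤ, w * w ≤ 3 → w = -1 ∨ w = 0 ∨ w = 1 := fun w hw => by
    have : -1 ≤ w ∧ w ≤ 1 := ⟨by nlinarith, by nlinarith⟩
    omega
  have na := mul_self_nonneg a'
  have nb := mul_self_nonneg b'
  have nc := mul_self_nonneg c'
  rw [hF] at hF3
  refine ⟨rfl, rfl, rfl, by norm_num, by norm_num, ?_, ?_, ?_, by omega, hC48⟩ <;>
    rcases h1 a' (by omega) with rfl | rfl | rfl <;> rcases h1 b' (by omega) with rfl | rfl | rfl <;>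
      rcases h1 c' (by omega) with rfl | rfl | rfl <;>
        first | (exfalso; revert hF3; norm_num; done) | norm_num

variable {G : Type*} [Group G]

theorem char_order_three [Finite G] (χ : IrrCharacter G) {y : G} (hy : y ^ 3 = 1) :
    ∃ m n : ℤ, (χ : G → ℂ) y = (m : ℂ) + n * omega3 ∧ (3 : ℤ) ∣ m + n - (deg χ : ℤ) := by
  have hd : (χ : G → ℂ) 1 = (deg χ : ℂ) := ClassAlgebraVal.apply_one_eq_charDegree χ
  obtain ⟨d, ρ, -, hρ⟩ := χ.2
  obtain ⟨b, μ, -, hord, -, hpow⟩ := CharBasic.exists_rep_eigenbasis ρ y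
  have h3 : ∀ i, ∃ mn : ℤ × ℤ, μ i = (mn.1 : ℂ) + mn.2 * omega3 ∧ (3 : ℤ) ∣ mn.1 + mn.2 - 1 := by
    intro i
    have hc : μ i ^ 3 = 1 := by
      obtain ⟨k, hk⟩ := orderOf_dvd_of_pow_eq_one hy
      rw [hk, pow_mul, hord, one_pow]
    have hf : (μ i - 1) * (μ i - omega3) * (μ i + 1 + omega3) = 0 := by
      linear_combination hc + (-μ i + 1) * omega3_rel
    rcases mul_eq_zero.1 hf with h | h
    · rcases mul_eq_zero.1 h with h | h
      · exact ⟨(1, 0), by simp [sub_eq_zero.1 h], by norm_num⟩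
      · exact ⟨(0, 1), by simp [sub_eq_zero.1 h], by norm_num⟩
    · exact ⟨(-1, -1), by push_cast; linear_combination h, by norm_num⟩
  choose mn hmn using h3
  refine ⟨∑ i, (mn i).1, ∑ i, (mn i).2, ?_, ?_⟩
  · have := hpow 1
    rw [pow_one] at this
    rw [← hρ, this]
    push_cast
    rw [Finset.sum_mul, ← Finset.sum_add_distrib]
    exact Finset.sum_congr rfl fun i _ => by rw [pow_one, (hmn i).1]
  · have h1 : (ρ.character 1 : ℂ) = ((∑ _i : Fin (Module.finrank ℂ (Fin d → ℂ)), (1 : ℤ) : ℤ) : ℂ) := by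
      have := hpow 0
      rw [pow_zero] at this
      rw [this]
      simp
    have hdeg : (deg χ : ℤ) = ∑ _i : Fin (Module.finrank ℂ (Fin d → ℂ)), (1 : ℤ) := by
      have h2 : ((deg χ : ℤ) : ℂ) = ((∑ _i : Fin (Module.finrank ℂ (Fin d → ℂ)), (1 : ℤ) : ℤ) : ℂ) := by
        rw [← h1, hρ, hd, Int.cast_natCast]
      exact_mod_cast h2
    rw [hdeg, ← Finset.sum_add_distrib, ← Finset.sum_sub_distrib]
    exact Finset.dvd_sum fun i _ => (hmn i).2

theorem char_involution [Finite G] (χ : IrrCharacter G) {t : G} (ht : t * t = 1) :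
    ∃ z : ℤ, (χ : G → ℂ) t = (z : ℂ) ∧ (2 : ℤ) ∣ z - (deg χ : ℤ) := by
  have hd : (χ : G → ℂ) 1 = (deg χ : ℂ) := ClassAlgebraVal.apply_one_eq_charDegree χ
  obtain ⟨d, ρ, -, hρ⟩ := χ.2
  obtain ⟨b, μ, -, hord, -, hpow⟩ := CharBasic.exists_rep_eigenbasis ρ t
  have h2 : ∀ i, ∃ z : ℤ, μ i = (z : ℂ) ∧ (2 : ℤ) ∣ z - 1 := by
    intro i
    have hc : μ i ^ 2 = 1 := by
      obtain ⟨k, hk⟩ := orderOf_dvd_of_pow_eq_one (show t ^ 2 = 1 by rw [pow_two, ht])
      rw [hk, pow_mul, hord, one_pow]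
    rcases sq_eq_one_iff.1 hc with h | h
    · exact ⟨1, by simp [h], by norm_num⟩
    · exact ⟨-1, by simp [h], by norm_num⟩
  choose z hz using h2
  refine ⟨∑ i, z i, ?_, ?_⟩
  · have := hpow 1
    rw [pow_one] at this
    rw [← hρ, this]
    push_cast
    exact Finset.sum_congr rfl fun i _ => by rw [pow_one, (hz i).1]
  · have h1 : (ρ.character 1 : ℂ) = ((∑ _i : Fin (Module.finrank ℂ (Fin d → ℂ)), (1 : ℤ) : ℤ) : ℂ) := by
      have := hpow 0
      rw [pow_zero] at this
      rw [this]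
      simp
    have hdeg : (deg χ : ℤ) = ∑ _i : Fin (Module.finrank ℂ (Fin d → ℂ)), (1 : ℤ) := by
      have h2 : ((deg χ : ℤ) : ℂ) = ((∑ _i : Fin (Module.finrank ℂ (Fin d → ℂ)), (1 : ℤ) : ℤ) : ℂ) := by
        rw [← h1, hρ, hd, Int.cast_natCast]
      exact_mod_cast h2
    rw [hdeg, ← Finset.sum_sub_distrib]
    exact Finset.dvd_sum fun i _ => (hz i).2

section

variable [IsSimpleGroup G] [Fintype G] (hn : Nat.card G = 7920)

include hn in
theorem exists_eleven : ∃ y : G, orderOf y = 11 :=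
  exists_prime_orderOf_dvd_card' 11 (by rw [hn]; norm_num)

include hn in
/-- The centraliser of an element that is neither of order 5 nor of order 11 divides 144. -/
theorem centralizer_dvd {g : G} {r : ℕ} (hr : r.Prime) (hg : orderOf g = r) (h5 : r ≠ 5) (h11 : r ≠ 11) :
    Nat.card ↥(Subgroup.centralizer ({g} : Set G)) ∣ 144 := by
  have hdvd : Nat.card ↥(Subgroup.centralizer ({g} : Set G)) ∣ 55 * 144 := by
    have := Subgroup.card_subgroup_dvd_card (Subgroup.centralizer ({g} : Set G))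
    rwa [hn] at this
  refine Nat.Coprime.dvd_of_dvd_mul_left ?_ hdvd
  have hg1 : g ≠ 1 := fun e => by rw [e, orderOf_one] at hg; exact hr.ne_one hg.symm
  have e11 : ¬ 11 ∣ Nat.card ↥(Subgroup.centralizer ({g} : Set G)) := eleven_not_dvd_centralizer hn hg1
    (fun h => by
      rw [hg] at h
      exact h11 ((Nat.prime_dvd_prime_iff_eq hr (by norm_num)).1 h))
  have e5 : ¬ 5 ∣ Nat.card ↥(Subgroup.centralizer ({g} : Set G)) := by
    intro h
    obtain ⟨⟨x, hx⟩, hx5⟩ := exists_prime_orderOf_dvd_card' 5 h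
    rw [Subgroup.orderOf_mk] at hx5
    obtain ⟨R, hle⟩ := (IsPGroup.of_card (G := ↥(Subgroup.zpowers x)) (p := 5) (n := 1)
      (by rw [Nat.card_zpowers, hx5, pow_one])).exists_le_sylow
    have hc := centralizer_mem (card_five hn R) (normalizer_five hn R).2.1 x (hle (Subgroup.mem_zpowers x))
      (fun e => by rw [e, orderOf_one] at hx5; omega)
    have hmem : g ∈ Subgroup.centralizer ({x} : Set G) :=
      Subgroup.mem_centralizer_singleton_iff.2 (Subgroup.mem_centralizer_singleton_iff.1 hx).symm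
    have := Subgroup.orderOf_dvd_natCard _ hmem
    rw [hc, hg] at this
    exact h5 ((Nat.prime_dvd_prime_iff_eq hr (by norm_num)).1 this)
  rw [show (55 : ℕ) = 5 * 11 from rfl]
  exact Nat.Coprime.mul_right (((Nat.Prime.coprime_iff_not_dvd (by norm_num)).2 e5).symm)
    (((Nat.Prime.coprime_iff_not_dvd (by norm_num)).2 e11).symm)

include hn in
/-- An element of order 11 is not a product of two conjugates of an involution. -/
theorem no_product_eleven {t y : G} (ht : orderOf t = 2) (hy : orderOf y = 11) :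
    Nat.card {x : G // IsConj y (t * (x * t * x⁻¹))} = 0 := by
  refine (Nat.card_eq_zero).2 (Or.inl ⟨fun ⟨x, hx⟩ => ?_⟩)
  obtain ⟨c, hc⟩ := isConj_iff.1 hx
  set u := x * t * x⁻¹
  have ht2 : t * t = 1 := by rw [← pow_two, ← ht]; exact pow_orderOf_eq_one t
  have hu2 : u * u = 1 := by
    rw [show u * u = x * (t * t) * x⁻¹ by simp [u, mul_assoc], ht2]; group
  have htinv : t⁻¹ = t := inv_eq_of_mul_eq_one_left ht2
  have huinv : u⁻¹ = u := inv_eq_of_mul_eq_one_left hu2
  set s := c⁻¹ * t * c with hs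
  have hsy : s * y * s⁻¹ = y⁻¹ := by
    have e : y = c⁻¹ * (t * u) * c := by rw [← hc]; group
    rw [e, hs]
    simp only [mul_inv_rev, inv_inv, mul_assoc, mul_inv_cancel_left, inv_mul_cancel_left, htinv, huinv]
    rw [← mul_assoc t t, ht2, one_mul]
  have hso : orderOf s = 2 := by
    rw [← ht, hs]
    exact orderOf_injective (MulAut.conj c⁻¹).toMonoidHom (MulAut.conj c⁻¹).injective t ▸
      (by simp [MulAut.conj_apply])
  obtain ⟨P, hle⟩ := (IsPGroup.of_card (G := ↥(Subgroup.zpowers y)) (p := 11) (n := 1)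
    (by rw [Nat.card_zpowers, hy, pow_one])).exists_le_sylow
  have he : Subgroup.zpowers y = (P : Subgroup G) :=
    Subgroup.eq_of_le_of_card_ge hle (by rw [card_eleven hn P, Nat.card_zpowers, hy])
  have hsN : s ∈ Subgroup.normalizer ((P : Subgroup G) : Set G) := by
    rw [Subgroup.mem_normalizer_iff_map_conj_eq, ← he, MonoidHom.map_zpowers]
    change Subgroup.zpowers (s * y * s⁻¹) = _
    rw [hsy, Subgroup.zpowers_inv]
  have := Subgroup.orderOf_dvd_natCard _ hsN
  rw [hso, (normalizer_eleven hn P).1] at this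
  norm_num at this

/-- The values of the nontrivial characters at an involution. -/
structure InvolutionColumn (T : Table G) (t : G) where
  a : ℤ
  b : ℤ
  c : ℤ
  va : (T.ta : G → ℂ) t = (a : ℂ)
  vb : (T.tb : G → ℂ) t = (b : ℂ)
  vc : (T.tc : G → ℂ) t = (c : ℂ)
  sa : a ^ 2 = 4
  sb : b ^ 2 = 4
  sc : c ^ 2 = 4
  sum : a + b + c = -2
  v11 : (T.to11 : G → ℂ) t = 3
  v16 : (T.th : G → ℂ) t = 0
  v16' : (T.th' : G → ℂ) t = 0
  v44 : (T.t44 : G → ℂ) t = 4
  v45 : (T.t45 : G → ℂ) t = -3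
  v55 : (T.t55 : G → ℂ) t = -1
  card : Nat.card ↥(Subgroup.centralizer ({t} : Set G)) = 48

include hn in
theorem involution_column (T : Table G) {t : G} (ht : orderOf t = 2) : Nonempty (InvolutionColumn T t) := by
  have ht2 : t * t = 1 := by rw [← pow_two, ← ht]; exact pow_orderOf_eq_one t
  have ht1 : t ≠ 1 := fun e => by rw [e, orderOf_one] at ht; omega
  obtain ⟨a, ha, hap⟩ := char_involution T.ta ht2
  obtain ⟨b, hb, hbp⟩ := char_involution T.tb ht2
  obtain ⟨c, hc, hcp⟩ := char_involution T.tc ht2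
  obtain ⟨o, ho, hop⟩ := char_involution T.to11 ht2
  obtain ⟨z, hz, hzp⟩ := char_involution T.th ht2
  obtain ⟨f, hf, hfp⟩ := char_involution T.t44 ht2
  obtain ⟨k, hk, hkp⟩ := char_involution T.t45 ht2
  obtain ⟨q, hq, hqp⟩ := char_involution T.t55 ht2
  rw [T.dega.1] at hap
  rw [T.dega.2.1] at hbp
  rw [T.dega.2.2] at hcp
  rw [T.deg11] at hop
  rw [T.degth.1] at hzp
  rw [T.deg44] at hfp
  rw [T.deg45] at hkp
  rw [T.deg55] at hqp
  obtain ⟨hR, hR'⟩ := relation_eleven hn T t (by rw [ht]; norm_num)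
  have hz' : (T.th' : G → ℂ) t = (z : ℂ) := hR'.trans hz
  rw [ha, hb, hc, hz, hk] at hR
  have e1 : z = 1 - (a + b + c) + k := by exact_mod_cast hR
  have h5 := relation_five hn T t (by rw [ht]; norm_num)
  rw [ho, hz, hz', hf] at h5
  have e2 : 1 + o + z + z - f = 0 := by exact_mod_cast h5
  have h3 := relation_degree hn T ht1
  rw [ha, hb, hc, ho, hz, hz', hf, hk, hq] at h3
  have e3 : 1 + 10 * (a + b + c) + 11 * o + 16 * (z + z) + 44 * f + 45 * k + 55 * q = 0 := by exact_mod_cast h3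
  set C := Nat.card ↥(Subgroup.centralizer ({t} : Set G)) with hC
  have h4 := CharBasicOrth.sum_irr_mul_conj t t
  rw [if_pos (IsConj.refl t), T.expand, ha, hb, hc, ho, hz, hz', hf, hk, hq] at h4
  simp only [map_intCast, BlockPrincipal81.oneChar, map_one, mul_one] at h4
  have e4 : 1 + (a * a + b * b + c * c) + o * o + (z * z + z * z) + f * f + k * k + q * q = (C : ℤ) := by
    exact_mod_cast h4
  -- no element of order 11 is a product of two conjugates of `t`
  obtain ⟨y, hy⟩ := exists_eleven hn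
  obtain ⟨ya, yb, yc, yo, yf, yk, yq, yS⟩ := column_eleven hn T hy
  have h6 := ClassAlgebraVal.sum_irr_triple t t y
  rw [no_product_eleven hn ht hy, T.expand, ha, hb, hc, ho, hz, hz', hf, hk, hq, ya, yb, yc, yo, yf, yk, yq]
    at h6
  simp only [deg_apply, deg_one] at h6
  simp only [T.dega.1, T.dega.2.1, T.dega.2.2, T.deg11, T.degth.1, T.degth.2, T.deg44,
    T.deg45, T.deg55, BlockPrincipal81.oneChar, map_one, map_neg, map_zero, mul_one, mul_zero, zero_div,
    add_zero, Nat.cast_zero] at h6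
  have hS := congrArg conj yS
  simp only [map_add, map_neg, map_one] at hS
  have h6' : (720 - 72 * ((a : ℂ) * a + b * b + c * c) + 16 * (k * k) - 45 * (z * z)) = 0 := by
    push_cast at h6
    linear_combination 720 * h6 - 45 * (z : ℂ) * z * hS
  have e5 : 720 - 72 * (a * a + b * b + c * c) + 16 * (k * k) - 45 * (z * z) = 0 := by exact_mod_cast h6'
  have hC144 : C ∣ 144 := centralizer_dvd hn Nat.prime_two ht (by norm_num) (by norm_num)
  have hC8 : 8 ∣ C := SimpleCentralizerKill.eight_dvd_card_centralizer (not_comm hn) (by rw [hn]; norm_num) ht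
  have hCle : C ≤ 144 := Nat.le_of_dvd (by norm_num) hC144
  have hCmem : C ∈ ([8, 16, 24, 48, 72, 144] : List ℕ) := by
    have key : ∀ d ∈ List.range 145, 144 % d = 0 → d % 8 = 0 → d ∈ ([8, 16, 24, 48, 72, 144] : List ℕ) := by
      decide +kernel
    exact key _ (List.mem_range.2 (by omega)) (Nat.mod_eq_zero_of_dvd hC144) (Nat.mod_eq_zero_of_dvd hC8)
  obtain ⟨hz0, hk', hf', ho', hq', sa, sb, sc, hs', hC48⟩ := solve_column (a := a) (b := b) (c := c) (o := o)
    (z := z) (f := f) (k := k) (q := q) (C := C) (by omega) (by omega) (by omega) (by omega) (by omega) (by omega)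
    e1 e2 e3 e4 e5 hCmem
  subst hz0
  exact ⟨{
    a := a, b := b, c := c, va := ha, vb := hb, vc := hc
    sa := sa
    sb := sb
    sc := sc
    sum := hs'
    v11 := by rw [ho, ho']; norm_num
    v16 := by rw [hz]; norm_num
    v16' := by rw [hz']; norm_num
    v44 := by rw [hf, hf']; norm_num
    v45 := by rw [hk, hk']; norm_num
    v55 := by rw [hq, hq']; norm_num
    card := hC48 }⟩

include hn in
theorem card_centralizer_involution {t : G} (ht : orderOf t = 2) :
    Nat.card ↥(Subgroup.centralizer ({t} : Set G)) = 48 := by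
  obtain ⟨T⟩ := exists_table hn
  obtain ⟨V⟩ := involution_column hn T ht
  exact V.card

include hn in
/-- All involutions are conjugate. -/
theorem isConj_involution {t u : G} (ht : orderOf t = 2) (hu : orderOf u = 2) : IsConj t u := by
  by_contra hne
  obtain ⟨T⟩ := exists_table hn
  obtain ⟨V⟩ := involution_column hn T ht
  obtain ⟨W⟩ := involution_column hn T hu
  have h := CharBasicOrth.sum_irr_mul_conj t u
  rw [if_neg hne, T.expand, V.va, V.vb, V.vc, V.v11, V.v16, V.v16', V.v44, V.v45, V.v55, W.va, W.vb, W.vc,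
    W.v11, W.v16, W.v16', W.v44, W.v45, W.v55] at h
  simp only [BlockPrincipal81.oneChar, map_one, map_neg, map_zero, map_ofNat, map_intCast] at h
  have h' : (36 + (V.a * W.a + V.b * W.b + V.c * W.c) : ℤ) = 0 := by
    have h2 : ((36 + (V.a * W.a + V.b * W.b + V.c * W.c) : ℤ) : ℂ) = 0 := by
      push_cast
      linear_combination h
    exact_mod_cast h2
  nlinarith [sq_nonneg (V.a + W.a), sq_nonneg (V.b + W.b), sq_nonneg (V.c + W.c), V.sa, V.sb, V.sc,
    W.sa, W.sb, W.sc]

set_option maxHeartbeats 1600000 in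
include hn in
/-- An element of order 3 centralises more than a Sylow 3-subgroup. -/
theorem card_centralizer_three {y : G} (hy : orderOf y = 3) :
    Nat.card ↥(Subgroup.centralizer ({y} : Set G)) ≠ 9 := by
  intro h9
  have hy1 : y ≠ 1 := fun e => by rw [e, orderOf_one] at hy; omega
  have hy3 : y ^ 3 = 1 := by rw [← hy]; exact pow_orderOf_eq_one y
  obtain ⟨t, ht⟩ := exists_prime_orderOf_dvd_card' (G := G) 2 (by rw [hn]; norm_num)
  obtain ⟨T⟩ := exists_table hn
  obtain ⟨V⟩ := involution_column hn T ht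
  obtain ⟨a1, a2, va, pa⟩ := char_order_three T.ta hy3
  obtain ⟨b1, b2, vb, pb⟩ := char_order_three T.tb hy3
  obtain ⟨c1, c2, vc, pc⟩ := char_order_three T.tc hy3
  obtain ⟨o1, o2, vo, po⟩ := char_order_three T.to11 hy3
  obtain ⟨z1, z2, vz, pz⟩ := char_order_three T.th hy3
  obtain ⟨f1, f2, vf, pf⟩ := char_order_three T.t44 hy3
  obtain ⟨k1, k2, vk, -⟩ := char_order_three T.t45 hy3
  obtain ⟨q1, q2, vq, pq⟩ := char_order_three T.t55 hy3
  rw [T.dega.1] at pa
  rw [T.dega.2.1] at pb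
  rw [T.dega.2.2] at pc
  rw [T.deg11] at po
  rw [T.degth.1] at pz
  rw [T.deg44] at pf
  rw [T.deg55] at pq
  obtain ⟨hR, hR'⟩ := relation_eleven hn T y (by rw [hy]; norm_num)
  have h5 := relation_five hn T y (by rw [hy]; norm_num)
  have h3 := relation_degree hn T hy1
  rw [hR'] at h5 h3
  set N : ℤ → ℤ → ℤ := fun m n => m * m - m * n + n * n with hN
  clear_value N
  have h4 := CharBasicOrth.sum_irr_mul_conj y y
  rw [if_pos (IsConj.refl y), h9, T.expand, hR'] at h4
  simp only [Complex.mul_conj, va, vb, vc, vo, vz, vf, vk, vq, normSq_eis, BlockPrincipal81.oneChar,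
    map_one] at h4
  have hsum : 1 + (N a1 a2 + N b1 b2 + N c1 c2) + N o1 o2 + (N z1 z2 + N z1 z2) + N f1 f2 + N k1 k2 +
      N q1 q2 = 9 := by
    simp only [hN]
    exact_mod_cast h4
  have hnn : ∀ m n : ℤ, 0 ≤ N m n := fun m n => by
    simp only [hN]; nlinarith [sq_nonneg (2 * m - n), sq_nonneg n]
  have hpos : ∀ m n d : ℤ, 3 ∣ m + n - d → ¬ 3 ∣ d → 1 ≤ N m n := by
    intro m n d h1 h2
    have h0 := hnn m n
    by_contra hlt
    have hz : N m n = 0 := by omega
    simp only [hN] at hz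
    have hn0 : n = 0 := by nlinarith [sq_nonneg (2 * m - n), sq_nonneg n]
    subst hn0
    have hm0 : m = 0 := by nlinarith
    subst hm0
    exact h2 (by omega)
  have pa' := hpos _ _ _ pa (by norm_num)
  have pb' := hpos _ _ _ pb (by norm_num)
  have pc' := hpos _ _ _ pc (by norm_num)
  have po' := hpos _ _ _ po (by norm_num)
  have pz' := hpos _ _ _ pz (by norm_num)
  have pf' := hpos _ _ _ pf (by norm_num)
  have pq' := hpos _ _ _ pq (by norm_num)
  have pk' := hnn k1 k2
  have hNk : N k1 k2 = 0 := by omega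
  have hk0 : (T.t45 : G → ℂ) y = 0 := by
    rw [← Complex.normSq_eq_zero, vk, normSq_eis]
    simp only [hN] at hNk
    exact_mod_cast hNk
  have hsmall : ∀ m n : ℤ, N m n = 1 → -1 ≤ n ∧ n ≤ 1 ∧ (n = 0 → m * m = 1) := by
    intro m n h
    simp only [hN] at h
    refine ⟨by nlinarith [sq_nonneg (2 * m - n)], by nlinarith [sq_nonneg (2 * m - n)], fun e => ?_⟩
    subst e; linarith
  obtain ⟨lf, uf, mf⟩ := hsmall f1 f2 (by omega)
  obtain ⟨lz, uz, mz⟩ := hsmall z1 z2 (by omega)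
  -- the number of factorisations is real
  have h6 := ClassAlgebraVal.sum_irr_triple t t y
  rw [T.expand, V.va, V.vb, V.vc, V.v11, V.v16, V.v16', V.v44, V.v45, V.v55, hR', hk0] at h6
  simp only [deg_apply, deg_one] at h6
  simp only [T.dega.1, T.dega.2.1, T.dega.2.2, T.deg11, T.degth.1, T.degth.2, T.deg44,
    T.deg45, T.deg55, BlockPrincipal81.oneChar, map_one, map_zero, mul_zero, zero_mul, zero_div,
    add_zero] at h6
  push_cast at h6
  have sa : (V.a : ℂ) * V.a = 4 := by rw [← pow_two]; exact_mod_cast V.sa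
  have sb : (V.b : ℂ) * V.b = 4 := by rw [← pow_two]; exact_mod_cast V.sb
  have sc : (V.c : ℂ) * V.c = 4 := by rw [← pow_two]; exact_mod_cast V.sc
  rw [sa, sb, sc] at h6
  rw [hk0] at hR h3
  have cR := congrArg conj hR
  have c5 := congrArg conj h5
  have c3 := congrArg conj h3
  simp only [map_add, map_sub, map_mul, map_one, map_zero, map_ofNat] at cR c5 c3
  have hreal : (32 : ℂ) - 112 * conj ((T.th : G → ℂ) y) + 64 * conj ((T.t44 : G → ℂ) y) =
      55 * ((Nat.card ↥(Subgroup.centralizer ({y} : Set G)) : ℂ) *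
        (Nat.card {x : G // IsConj y (t * (x * t * x⁻¹))} : ℂ) / (Nat.card G : ℂ)) := by
    linear_combination 55 * h6 - 22 * cR - 45 * c5 - (1 / 55 : ℂ) * (c3 - 11 * c5 + 10 * cR) + (4 / 11 : ℂ) * cR
  have him := congrArg Complex.im hreal
  rw [← Nat.cast_mul] at him
  simp only [Complex.sub_im, Complex.add_im, Complex.mul_im, Complex.conj_re, Complex.conj_im,
    Complex.re_ofNat, Complex.im_ofNat, Complex.div_natCast_im, Complex.natCast_im, Complex.natCast_re,
    zero_mul, mul_zero, add_zero, zero_div, zero_sub, sub_zero, vz, vf, im_eis] at him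
  simp [omega3] at him
  have hs3 : (0 : ℝ) < Real.sqrt 3 / 2 := by positivity
  have hlin : ((7 * z2 - 4 * f2 : ℤ) : ℝ) = 0 := by
    have : ((7 * z2 - 4 * f2 : ℤ) : ℝ) * (16 * (Real.sqrt 3 / 2)) = 0 := by push_cast; linarith
    exact (mul_eq_zero.1 this).resolve_right (by positivity)
  have hlin' : 7 * z2 - 4 * f2 = 0 := by exact_mod_cast hlin
  obtain rfl : z2 = 0 := by omega
  obtain rfl : f2 = 0 := by omega
  have hz1 : z1 = 1 := by
    rcases mul_self_eq_one_iff.1 (mz rfl) with h | h <;> omega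
  have hf1 : f1 = -1 := by
    rcases mul_self_eq_one_iff.1 (mf rfl) with h | h <;> omega
  rw [vo, vz, vf, hz1, hf1] at h5
  have ho : (T.to11 : G → ℂ) y = ((-4 : ℤ) : ℂ) + (0 : ℤ) * omega3 := by
    rw [vo]
    push_cast at h5 ⊢
    linear_combination h5
  have hNo : ((N o1 o2 : ℤ) : ℝ) = ((16 : ℤ) : ℝ) := by
    simp only [hN]
    rw [← normSq_eis o1 o2, ← vo, ho, normSq_eis]
    norm_num
  have hNo' : N o1 o2 = 16 := by exact_mod_cast hNo
  omega

end

end Cfsg.Agent.M11Order91
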