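import Mathlib
import Cfsg.Agent.Lib.A7Local29
import Cfsg.Agent.Lib.M11Order91Local
import Cfsg.Agent.Lib.CharBasicDecomp

/-!
The irreducible characters of a simple group of order 2520, and the relations between their
values coming from the principal blocks at 5 and at 7.
-/

set_option autoImplicit false
set_option linter.style.haveILetI false
set_option linter.unusedSectionVars false

open scoped ComplexConjugate

namespace Cfsg.Agent.A7Table29

open Cfsg Cfsg.Agent.BlockPrime86 Cfsg.Agent.BlockPrincipal81 Cfsg.Agent.M11Order91 Cfsg.Agent.A7Local29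

attribute [local instance] Classical.propDecidable

variable {G : Type*} [Group G] [IsSimpleGroup G] [Fintype G] (hn : Nat.card G = 2520)

include hn in
theorem sum_deg_sq : ∑ χ : IrrCharacter G, deg χ ^ 2 = 2520 := by
  have h := CharBasicOrth.sum_sq_apply_one (G := G)
  simp only [deg_apply, hn] at h
  exact_mod_cast h

include hn in
theorem deg_dvd (χ : IrrCharacter G) : deg χ ∣ 2520 ∧ deg χ < 51 := by
  refine ⟨hn ▸ CharAverage.charDegree_dvd_card χ, ?_⟩
  have h : deg χ ^ 2 ≤ ∑ η : IrrCharacter G, deg η ^ 2 :=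
    Finset.single_le_sum (f := fun η => deg η ^ 2) (fun _ _ => Nat.zero_le _) (Finset.mem_univ χ)
  rw [sum_deg_sq hn] at h
  by_contra hlt
  have := Nat.pow_le_pow_left (Nat.le_of_not_lt hlt) 2
  omega

include hn in
theorem deg_ne_one {χ : IrrCharacter G} (hχ : χ ≠ oneChar G) : deg χ ≠ 1 := fun h => hχ <|
  Subtype.ext (DihedralStar68.linear_eq_one (A7Local29.not_comm hn) χ (by rw [deg_apply, h, Nat.cast_one]))

include hn in
/-- The principal 5-block: five characters of degree prime to 5, the relation and the values. -/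
theorem five_block :
    (∀ χ : IrrCharacter G, deg χ % 5 = 0 ∨ deg χ % 5 = 1 ∨ deg χ % 5 = 4) ∧
    (Finset.univ.filter fun χ : IrrCharacter G => deg χ % 5 ≠ 0).card = 5 ∧
    (∀ g : G, ¬ 5 ∣ orderOf g → ∑ χ : IrrCharacter G, (sgnMod 5 (deg χ) : ℂ) * (χ : G → ℂ) g = 0) ∧
    (∀ z : G, orderOf z = 5 → ∀ χ : IrrCharacter G, (χ : G → ℂ) z = (sgnMod 5 (deg χ) : ℂ)) := by
  haveI : Fact (Nat.Prime 5) := ⟨Nat.prime_five⟩
  obtain ⟨P⟩ : Nonempty (Sylow 5 G) := inferInstance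
  obtain ⟨hN, hC⟩ := (data hn).1 P
  obtain ⟨M, hM⟩ := ZStarCount.exists_isPModular 5 (Fact.out : Nat.Prime 5)
  haveI : Fintype ↥(P : Subgroup G) := Fintype.ofFinite _
  haveI : Fintype (↥(P : Subgroup G) →* ℂˣ) := Fintype.ofFinite _
  have hP : Nat.card ↥(P : Subgroup G) = 5 :=
    SimpleOrderCheck.sylow_card_of_once (by rw [hn]) (by rw [hn]; norm_num) P
  obtain ⟨X, Y, a, ε, h⟩ := prime_main hP (by norm_num) hM 4
    (relIndex_centralizer (a := 5) (b := 4) hN hC (by norm_num))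
  have hX : ∀ χ ∈ X, (deg χ % 5 = 1 ∨ deg χ % 5 = 4) ∧ a χ = sgnMod 5 (deg χ) := by
    intro χ hx
    have h2 : (deg χ : ℤ) % 5 = a χ % 5 := (h.valX χ hx).2.1
    rcases (h.valX χ hx).1 with e | e <;> rw [e] at h2 ⊢
    · have : deg χ % 5 = 1 := by omega
      simp [sgnMod, this]
    · have : deg χ % 5 = 4 := by omega
      simp [sgnMod, this]
  have hout : ∀ χ, χ ∉ X → χ ∉ Y → deg χ % 5 = 0 ∧ ∀ y ∈ (P : Subgroup G), y ≠ 1 → (χ : G → ℂ) y = 0 :=
    fun χ hx hy => by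
      obtain ⟨h1, h2⟩ := dvd_outside hP h (by norm_num) (by norm_num) (centralizer_mem hP hC)
        (by norm_num) hx hy
      exact ⟨Nat.mod_eq_zero_of_dvd h1, h2⟩
  obtain ⟨θ, hYone⟩ := Finset.card_eq_one.1 (h.cardY.trans (by norm_num))
  have hθ : θ ∈ Y := hYone ▸ Finset.mem_singleton_self θ
  have hθd : (deg θ % 5 = 1 ∨ deg θ % 5 = 4) ∧ sgnMod 5 (deg θ) = -ε := by
    have h2 : (deg θ : ℤ) % 5 = (ε * ((4 : ℕ) : ℤ)) % 5 := h.degY θ hθ
    rcases h.sign with e | e <;> rw [e] at h2 ⊢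
    · have : deg θ % 5 = 4 := by omega
      simp [sgnMod, this]
    · have : deg θ % 5 = 1 := by omega
      simp [sgnMod, this]
  have hmem : ∀ χ : IrrCharacter G, deg χ % 5 ≠ 0 ↔ χ ∈ X ∪ Y := by
    intro χ
    constructor
    · intro hd
      by_contra hc
      simp only [Finset.mem_union, not_or] at hc
      exact hd (hout χ hc.1 hc.2).1
    · intro hc
      rcases Finset.mem_union.1 hc with hx | hy
      · have := (hX χ hx).1; omega
      · rw [hYone, Finset.mem_singleton] at hy; subst hy; have := hθd.1; omega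
  refine ⟨fun χ => ?_, ?_, fun g hg => ?_, ?_⟩
  · by_cases hc : χ ∈ X ∪ Y
    · rcases Finset.mem_union.1 hc with hx | hy
      · exact Or.inr (hX χ hx).1
      · rw [hYone, Finset.mem_singleton] at hy; subst hy; exact Or.inr hθd.1
    · exact Or.inl (by by_contra e; exact hc ((hmem χ).1 e))
  · rw [show (Finset.univ.filter fun χ : IrrCharacter G => deg χ % 5 ≠ 0) = X ∪ Y from
      Finset.ext fun χ => by simp [hmem χ], Finset.card_union_of_disjoint h.disj, h.cardX, h.cardY]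
  · rw [← Finset.sum_subset (Finset.subset_univ (X ∪ Y)) fun χ _ hx => by
        have : deg χ % 5 = 0 := by by_contra e; exact hx ((hmem χ).1 e)
        simp [sgnMod, this],
      Finset.sum_union h.disj, hYone, Finset.sum_singleton, hθd.2,
      Finset.sum_congr rfl (g := fun χ => (a χ : ℂ) * (χ : G → ℂ) g) fun χ hx => by rw [(hX χ hx).2],
      ← h.regular θ hθ g hg]
    push_cast
    ring
  · intro z hz χ
    -- move `z` into `P`
    obtain ⟨R, hle⟩ := (IsPGroup.of_card (G := ↥(Subgroup.zpowers z)) (p := 5) (n := 1)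
      (by rw [Nat.card_zpowers, hz, pow_one])).exists_le_sylow
    obtain ⟨c, hc⟩ := MulAction.exists_smul_eq G R P
    have hyP : c * z * c⁻¹ ∈ (P : Subgroup G) := by
      rw [← hc]
      exact Subgroup.mem_map.2 ⟨z, hle (Subgroup.mem_zpowers z), rfl⟩
    have hy1 : c * z * c⁻¹ ≠ 1 := fun e => by
      rw [mul_inv_eq_one, mul_eq_left] at e
      rw [e, orderOf_one] at hz; omega
    rw [← CharBasic.isClassFunction_of_isCharacter (ClassAlgebraVal.irr_isCharacter χ) z c]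
    set y := c * z * c⁻¹
    have hxval : ∀ η ∈ X, (η : G → ℂ) y = (sgnMod 5 (deg η) : ℂ) := fun η hη => by
      rw [(h.valX η hη).2.2 y hyP hy1, (hX η hη).2]
    have hval0 : ∀ η, η ∉ X ∪ Y → (η : G → ℂ) y = (sgnMod 5 (deg η) : ℂ) := fun η hη => by
      simp only [Finset.mem_union, not_or] at hη
      obtain ⟨e, e'⟩ := hout η hη.1 hη.2
      rw [e' y hyP hy1]; simp [sgnMod, e]
    by_cases hx : χ ∈ X
    · exact hxval χ hx
    by_cases hy : χ ∈ Y
    · rw [hYone, Finset.mem_singleton] at hy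
      subst hy
      -- the degree-weighted column sum vanishes
      have ho := CharBasicOrth.sum_irr_mul_conj (1 : G) y
      rw [if_neg (fun e => hy1 (isConj_one_right.1 e))] at ho
      rw [← Finset.sum_subset (Finset.subset_univ (X ∪ Y)) fun η _ hη => by
        simp only [Finset.mem_union, not_or] at hη
        rw [(hout η hη.1 hη.2).2 y hyP hy1]; simp] at ho
      rw [Finset.sum_union h.disj, hYone, Finset.sum_singleton,
        Finset.sum_congr rfl (g := fun η => (a η : ℂ) * (η : G → ℂ) 1) fun η hη => by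
          rw [hxval η hη, map_intCast, (hX η hη).2, mul_comm],
        ← h.regular χ hθ 1 (by rw [orderOf_one]; norm_num), deg_apply] at ho
      have hd0 : (deg χ : ℂ) ≠ 0 := Nat.cast_ne_zero.2 (ClassAlgebraVal.charDegree_pos χ).ne'
      have h' : conj ((χ : G → ℂ) y) = -(ε : ℂ) := mul_left_cancel₀ hd0 (by linear_combination ho)
      have := congrArg conj h'
      rw [Complex.conj_conj] at this
      rw [this, hθd.2]; simp
    · exact hval0 χ (by simp [hx, hy])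

/-- The data of the principal 7-block. -/
structure Seven (G : Type*) [Group G] [Fintype G] where
  θ : IrrCharacter G
  θ' : IrrCharacter G
  x1 : IrrCharacter G
  x2 : IrrCharacter G
  ε : ℤ
  degθ : deg θ' = deg θ
  distinct : [oneChar G, x1, x2, θ, θ'].Nodup
  case : (deg θ = 10 ∧ deg x1 = 6 ∧ deg x2 = 15 ∧ ε = 1) ∨ (deg θ = 4 ∧ deg x1 = 20 ∧ deg x2 = 15 ∧ ε = -1)
  rest : ∀ χ, χ ∉ [oneChar G, x1, x2, θ, θ'] → deg χ % 7 = 0
  regular : ∀ g : G, ¬ 7 ∣ orderOf g → (θ' : G → ℂ) g = (θ : G → ℂ) g ∧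
    (ε : ℂ) * (θ : G → ℂ) g = 1 - (x1 : G → ℂ) g + (x2 : G → ℂ) g
  column : ∀ z : G, orderOf z = 7 → (x1 : G → ℂ) z = -1 ∧ (x2 : G → ℂ) z = 1 ∧
    conj ((θ : G → ℂ) z) + conj ((θ' : G → ℂ) z) = -(ε : ℂ) ∧
    ∀ χ, χ ∉ [oneChar G, x1, x2, θ, θ'] → (χ : G → ℂ) z = 0

include hn in
theorem exists_seven : Nonempty (Seven G) := by
  obtain ⟨P⟩ : Nonempty (Sylow 7 G) := inferInstance
  obtain ⟨hN, hC⟩ := (data hn).2 P
  obtain ⟨M, hM⟩ := ZStarCount.exists_isPModular 7 (Fact.out : Nat.Prime 7)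
  haveI : Fintype ↥(P : Subgroup G) := Fintype.ofFinite _
  haveI : Fintype (↥(P : Subgroup G) →* ℂˣ) := Fintype.ofFinite _
  have hP : Nat.card ↥(P : Subgroup G) = 7 :=
    SimpleOrderCheck.sylow_card_of_once (by rw [hn]) (by rw [hn]; norm_num) P
  obtain ⟨X, Y, a, ε, h⟩ := prime_main hP (by norm_num) hM 3
    (relIndex_centralizer (a := 7) (b := 3) hN hC (by norm_num))
  have hout : ∀ χ, χ ∉ X → χ ∉ Y → deg χ % 7 = 0 ∧ ∀ y ∈ (P : Subgroup G), y ≠ 1 → (χ : G → ℂ) y = 0 :=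
    fun χ hx hy => by
      obtain ⟨h1, h2⟩ := dvd_outside hP h (by norm_num) (by norm_num) (centralizer_mem hP hC)
        (by norm_num) hx hy
      exact ⟨Nat.mod_eq_zero_of_dvd h1, h2⟩
  have hX : ∀ χ ∈ X, (a χ = 1 ∧ deg χ % 7 = 1) ∨ (a χ = -1 ∧ deg χ % 7 = 6) := by
    intro χ hx
    have h2 : (deg χ : ℤ) % 7 = a χ % 7 := (h.valX χ hx).2.1
    rcases (h.valX χ hx).1 with e | e <;> rw [e] at h2
    · exact Or.inl ⟨e, by omega⟩
    · exact Or.inr ⟨e, by omega⟩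
  have h1X : oneChar G ∈ X := by
    rcases (h.block _).1 (oneChar_mem hM) with hx | hy
    · exact hx
    · exfalso
      have h2 : (deg (oneChar G) : ℤ) % 7 = (ε * ((3 : ℕ) : ℤ)) % 7 := h.degY _ hy
      rw [deg_one] at h2
      rcases h.sign with e | e <;> rw [e] at h2 <;> omega
  have ha1 : a (oneChar G) = 1 := by
    rcases hX _ h1X with ⟨e, -⟩ | ⟨-, e⟩
    · exact e
    · rw [deg_one] at e; omega
  obtain ⟨χ₁, χ₂, h12, hXe⟩ := Finset.card_eq_two.1 (show (X.erase (oneChar G)).card = 2 by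
    rw [Finset.card_erase_of_mem h1X, h.cardX])
  obtain ⟨θ, θ', hθne, hY⟩ := Finset.card_eq_two.1 (h.cardY.trans (by norm_num))
  have hθ : θ ∈ Y := by rw [hY]; simp
  have hθ' : θ' ∈ Y := by rw [hY]; simp
  have hdeq : deg θ' = deg θ := by
    have := h.agree θ' hθ' θ hθ 1 (by rw [orderOf_one]; norm_num)
    rw [deg_apply, deg_apply] at this
    exact_mod_cast this
  have hsum : ∀ g : G, ∑ χ ∈ X, (a χ : ℂ) * (χ : G → ℂ) g =
      1 + ((a χ₁ : ℂ) * (χ₁ : G → ℂ) g + (a χ₂ : ℂ) * (χ₂ : G → ℂ) g) := fun g => by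
    rw [← Finset.add_sum_erase _ _ h1X, hXe, Finset.sum_pair h12, ha1]
    simp [oneChar]
  have hm1 : χ₁ ∈ X.erase (oneChar G) := by rw [hXe]; simp
  have hm2 : χ₂ ∈ X.erase (oneChar G) := by rw [hXe]; simp
  obtain ⟨hn1, hx1⟩ := Finset.mem_erase.1 hm1
  obtain ⟨hn2, hx2⟩ := Finset.mem_erase.1 hm2
  -- the degrees
  have hdeg := h.regular θ hθ 1 (by rw [orderOf_one]; norm_num)
  rw [hsum] at hdeg
  simp only [deg_apply] at hdeg
  have hdeg' : ε * (deg θ : ℤ) = 1 + (a χ₁ * (deg χ₁ : ℤ) + a χ₂ * (deg χ₂ : ℤ)) := by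
    exact_mod_cast hdeg
  have hmod5 := (five_block hn).1
  have kX : ∀ d ∈ List.range 51, 2520 % d = 0 → (d % 5 = 0 ∨ d % 5 = 1 ∨ d % 5 = 4) →
      (d % 7 = 1 ∨ d % 7 = 6) → d = 1 ∨ d = 6 ∨ d = 15 ∨ d = 20 ∨ d = 36 := by decide +kernel
  have kY : ∀ d ∈ List.range 51, 2520 % d = 0 → (d % 5 = 0 ∨ d % 5 = 1 ∨ d % 5 = 4) →
      (d % 7 = 3 ∨ d % 7 = 4) → d = 4 ∨ d = 10 ∨ d = 24 ∨ d = 45 := by decide +kernel
  have hdX : ∀ χ ∈ X.erase (oneChar G), (deg χ = 15 ∧ a χ = 1) ∨ (deg χ = 36 ∧ a χ = 1) ∨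
      (deg χ = 6 ∧ a χ = -1) ∨ (deg χ = 20 ∧ a χ = -1) := by
    intro χ hχ
    obtain ⟨hne, hx⟩ := Finset.mem_erase.1 hχ
    have h1 := deg_ne_one hn hne
    have h5 := hmod5 χ
    rcases hX χ hx with ⟨e, h2⟩ | ⟨e, h2⟩ <;>
      rcases kX (deg χ) (List.mem_range.2 (deg_dvd hn χ).2) (Nat.mod_eq_zero_of_dvd (deg_dvd hn χ).1)
        h5 (by omega) with h3 | h3 | h3 | h3 | h3 <;> rw [e] <;> omega
  have hdY : deg θ = 4 ∨ deg θ = 10 ∨ deg θ = 24 ∨ deg θ = 45 := by
    refine kY (deg θ) (List.mem_range.2 (deg_dvd hn θ).2) (Nat.mod_eq_zero_of_dvd (deg_dvd hn θ).1)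
      (hmod5 θ) ?_
    have h2 : (deg θ : ℤ) % 7 = (ε * ((3 : ℕ) : ℤ)) % 7 := h.degY θ hθ
    rcases h.sign with e | e <;> rw [e] at h2 <;> omega
  have hcases : ∃ y1 y2, y1 ≠ y2 ∧ X.erase (oneChar G) = {y1, y2} ∧ a y1 = -1 ∧ a y2 = 1 ∧
      ((deg θ = 10 ∧ deg y1 = 6 ∧ deg y2 = 15 ∧ ε = 1) ∨
        (deg θ = 4 ∧ deg y1 = 20 ∧ deg y2 = 15 ∧ ε = -1)) := by
    rcases hdX χ₁ hm1 with ⟨e, e'⟩ | ⟨e, e'⟩ | ⟨e, e'⟩ | ⟨e, e'⟩ <;>
      rcases hdX χ₂ hm2 with ⟨f, f'⟩ | ⟨f, f'⟩ | ⟨f, f'⟩ | ⟨f, f'⟩ <;>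
      rw [e, e', f, f'] at hdeg' <;> rcases hdY with k | k | k | k <;> rw [k] at hdeg' <;>
      rcases h.sign with k' | k' <;> rw [k'] at hdeg' ⊢ <;> norm_num at hdeg' <;>
      first
        | exact ⟨χ₁, χ₂, h12, hXe, e', f', by omega⟩
        | exact ⟨χ₂, χ₁, h12.symm, by rw [hXe, Finset.pair_comm], f', e', by omega⟩
  clear hsum hdeg hdeg' hm1 hm2 hn1 hn2 hx1 hx2 hXe h12 χ₁ χ₂
  obtain ⟨x1, x2, h12, hXe, a1, a2, hcase⟩ := hcases
  have hm1 : x1 ∈ X.erase (oneChar G) := by rw [hXe]; simp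
  have hm2 : x2 ∈ X.erase (oneChar G) := by rw [hXe]; simp
  obtain ⟨hn1, hx1⟩ := Finset.mem_erase.1 hm1
  obtain ⟨hn2, hx2⟩ := Finset.mem_erase.1 hm2
  have hsum : ∀ g : G, ∑ χ ∈ X, (a χ : ℂ) * (χ : G → ℂ) g = 1 - (x1 : G → ℂ) g + (x2 : G → ℂ) g :=
    fun g => by
      rw [← Finset.add_sum_erase _ _ h1X, hXe, Finset.sum_pair h12, ha1, a1, a2]
      simp [oneChar]; ring
  have hlist : ∀ χ, χ ∉ [oneChar G, x1, x2, θ, θ'] → χ ∉ X ∧ χ ∉ Y := by
    intro χ hχ
    simp only [List.mem_cons, List.not_mem_nil, or_false, not_or] at hχ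
    refine ⟨fun hx => ?_, fun hy => ?_⟩
    · have := Finset.mem_erase.2 ⟨hχ.1, hx⟩
      rw [hXe] at this
      simp [hχ.2.1, hχ.2.2.1] at this
    · rw [hY] at hy; simp [hχ.2.2.2.1, hχ.2.2.2.2] at hy
  refine ⟨⟨θ, θ', x1, x2, ε, hdeq, ?_, hcase, fun χ hχ => (hout χ (hlist χ hχ).1 (hlist χ hχ).2).1,
    fun g hg => ⟨h.agree θ' hθ' θ hθ g hg, (h.regular θ hθ g hg).trans (hsum g)⟩, fun z hz => ?_⟩⟩
  · have hd : ∀ u ∈ X, ∀ w ∈ Y, u ≠ w := fun u hu w hw e =>
      Finset.disjoint_left.1 h.disj hu (e ▸ hw)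
    simp [hn1.symm, hn2.symm, h12, hθne, hd _ h1X _ hθ, hd _ h1X _ hθ', hd _ hx1 _ hθ,
      hd _ hx1 _ hθ', hd _ hx2 _ hθ, hd _ hx2 _ hθ']
  · obtain ⟨R, hle⟩ := (IsPGroup.of_card (G := ↥(Subgroup.zpowers z)) (p := 7) (n := 1)
      (by rw [Nat.card_zpowers, hz, pow_one])).exists_le_sylow
    obtain ⟨c, hc⟩ := MulAction.exists_smul_eq G R P
    have hyP : c * z * c⁻¹ ∈ (P : Subgroup G) := by
      rw [← hc]
      exact Subgroup.mem_map.2 ⟨z, hle (Subgroup.mem_zpowers z), rfl⟩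
    have hy1 : c * z * c⁻¹ ≠ 1 := fun e => by
      rw [mul_inv_eq_one, mul_eq_left] at e
      rw [e, orderOf_one] at hz; omega
    have hcl : ∀ χ : IrrCharacter G, (χ : G → ℂ) z = (χ : G → ℂ) (c * z * c⁻¹) := fun χ =>
      (CharBasic.isClassFunction_of_isCharacter (ClassAlgebraVal.irr_isCharacter χ) z c).symm
    simp only [hcl]
    set y := c * z * c⁻¹
    have v1 : (x1 : G → ℂ) y = -1 := by rw [(h.valX x1 hx1).2.2 y hyP hy1, a1]; simp
    have v2 : (x2 : G → ℂ) y = 1 := by rw [(h.valX x2 hx2).2.2 y hyP hy1, a2]; simp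
    have v0 : ∀ χ, χ ∉ X → χ ∉ Y → (χ : G → ℂ) y = 0 := fun χ hx hy => (hout χ hx hy).2 y hyP hy1
    refine ⟨v1, v2, ?_, fun χ hχ => v0 χ (hlist χ hχ).1 (hlist χ hχ).2⟩
    have ho := CharBasicOrth.sum_irr_mul_conj (1 : G) y
    rw [if_neg (fun e => hy1 (isConj_one_right.1 e))] at ho
    rw [← Finset.sum_subset (Finset.subset_univ (X ∪ Y)) fun η _ hη => by
      simp only [Finset.mem_union, not_or] at hη
      rw [v0 η hη.1 hη.2]; simp] at ho
    rw [Finset.sum_union h.disj, hY, Finset.sum_pair hθne, ← Finset.add_sum_erase _ _ h1X, hXe,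
      Finset.sum_pair h12, v1, v2] at ho
    simp only [deg_apply, hdeq, deg_one] at ho
    simp only [oneChar, map_neg, map_one, Nat.cast_one, mul_one] at ho
    have hr := h.regular θ hθ 1 (by rw [orderOf_one]; norm_num)
    rw [hsum, deg_apply, deg_apply, deg_apply] at hr
    push_cast at ho
    have hd0 : (deg θ : ℂ) ≠ 0 := Nat.cast_ne_zero.2 (ClassAlgebraVal.charDegree_pos θ).ne'
    exact mul_left_cancel₀ hd0 (by linear_combination ho + hr)

include hn in
theorem invol_value (χ : IrrCharacter G) {t : G} (ht : orderOf t = 2) :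
    ∃ a : ℤ, (χ : G → ℂ) t = a ∧ (4 : ℤ) ∣ (deg χ : ℤ) - a :=
  Simple720.exists_invol_value (Simple720.commutator_eq_top (A7Local29.not_comm hn))
    (ClassAlgebraVal.irr_isCharacter χ) (deg_apply χ) ht

include hn in
theorem case_ten (S : Seven G) : deg S.θ = 10 ∧ deg S.x1 = 6 ∧ deg S.x2 = 15 ∧ S.ε = 1 := by
  rcases S.case with h | ⟨hθ, h1, h2, hε⟩
  · exact h
  exfalso
  obtain ⟨t, ht⟩ := exists_prime_orderOf_dvd_card' (G := G) 2 (by rw [hn]; norm_num)
  obtain ⟨z, hz⟩ := exists_prime_orderOf_dvd_card' (G := G) 7 (by rw [hn]; norm_num)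
  obtain ⟨e, he, he4⟩ := invol_value hn S.θ ht
  obtain ⟨b, hb, hb4⟩ := invol_value hn S.x1 ht
  obtain ⟨a, ha, ha4⟩ := invol_value hn S.x2 ht
  rw [hθ] at he4; rw [h1] at hb4; rw [h2] at ha4
  obtain ⟨hθ', hreg⟩ := S.regular t (by rw [ht]; norm_num)
  rw [he] at hθ'
  rw [he, hb, ha, hε] at hreg
  obtain ⟨z1, z2, zS, z0⟩ := S.column z hz
  have hd := S.distinct
  simp only [List.nodup_cons, List.mem_cons, List.not_mem_nil, or_false, not_or, List.nodup_nil,
    not_false_eq_true, and_true] at hd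
  set F := ({oneChar G, S.x1, S.x2, S.θ, S.θ'} : Finset (IrrCharacter G))
  have hF : ∀ f : IrrCharacter G → ℂ, ∑ χ ∈ F, f χ =
      f (oneChar G) + f S.x1 + f S.x2 + f S.θ + f S.θ' := fun f => by
    simp only [F]
    rw [Finset.sum_insert (by simp [hd.1]), Finset.sum_insert (by simp [hd.2.1]),
      Finset.sum_insert (by simp [hd.2.2.1]), Finset.sum_pair hd.2.2.2]
    ring
  have h7 := ClassAlgebraVal.sum_irr_triple t t z
  rw [no_product_seven hn ht hz, ← Finset.sum_subset (Finset.subset_univ F) fun χ _ hχ => by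
    rw [z0 χ (by simpa [F] using hχ)]; simp, hF] at h7
  simp only [deg_apply, deg_one, S.degθ, hθ, h1, h2] at h7
  simp only [he, hθ', hb, ha, z1, z2, oneChar, map_one,
    map_neg, mul_one, Nat.cast_zero, mul_zero, zero_div, Nat.cast_one, div_one, one_mul,
    Nat.cast_ofNat] at h7
  rw [hε] at zS
  have e1 : ((60 + 4 * (a * a) - 3 * (b * b) + 15 * (e * e) : ℤ) : ℂ) = 0 := by
    push_cast at zS ⊢
    linear_combination 60 * h7 - 15 * ((e : ℂ) * e) * zS
  have e1' : 60 + 4 * (a * a) - 3 * (b * b) + 15 * (e * e) = 0 := by exact_mod_cast e1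
  have e2 : e = -(1 - b + a) := by
    have : ((-e : ℤ) : ℂ) = ((1 - b + a : ℤ) : ℂ) := by
      push_cast at hreg ⊢
      linear_combination hreg
    have := Int.cast_injective this
    omega
  set C := Nat.card ↥(Subgroup.centralizer ({t} : Set G)) with hC
  have h4 := CharBasicOrth.sum_irr_mul_conj t t
  rw [if_pos (IsConj.refl t)] at h4
  -- bounds
  have hbd : ∀ (η : IrrCharacter G) (m : ℤ), (η : G → ℂ) t = m → -(deg η : ℤ) ≤ m ∧ m ≤ deg η := by
    intro η m hm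
    obtain ⟨d, ρ, -, hρ⟩ := η.2
    obtain ⟨bb, μ, -, -, hnorm, hpow⟩ := CharBasic.exists_rep_eigenbasis ρ t
    have h1' := hpow 1
    simp only [pow_one] at h1'
    have hd' : (deg η : ℂ) = (d : ℂ) := by
      rw [← deg_apply, show (η : G → ℂ) 1 = ρ.character 1 by rw [hρ], Representation.char_one,
        Module.finrank_fintype_fun_eq_card, Fintype.card_fin]
    have hle : ‖((m : ℤ) : ℂ)‖ ≤ (deg η : ℝ) := by
      rw [← hm, show (η : G → ℂ) t = ρ.character t by rw [hρ], h1']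
      refine (norm_sum_le _ _).trans (le_of_eq ?_)
      rw [Finset.sum_congr rfl fun i _ => hnorm i, Finset.sum_const, Finset.card_univ,
        Fintype.card_fin, Module.finrank_fintype_fun_eq_card, Fintype.card_fin]
      have := Nat.cast_injective hd'
      rw [this]; simp
    rw [Complex.norm_intCast] at hle
    have := abs_le.1 (show |m| ≤ (deg η : ℤ) by exact_mod_cast hle)
    exact this
  have be := hbd _ _ he
  have bb' := hbd _ _ hb
  have ba := hbd _ _ ha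
  rw [hθ] at be; rw [h1] at bb'; rw [h2] at ba
  have key : ∀ e ∈ [(-4 : ℤ), 0, 4], ∀ a ∈ [(-13 : ℤ), -9, -5, -1, 3, 7, 11, 15],
      60 + 4 * (a * a) - 3 * ((1 + a + e) * (1 + a + e)) + 15 * (e * e) = 0 →
      a = 15 ∧ e = 4 := by decide +kernel
  have hbe : b = 1 + a + e := by omega
  obtain ⟨ha15, he4'⟩ := key e (by simp only [List.mem_cons, List.not_mem_nil, or_false]; omega) a
    (by simp only [List.mem_cons, List.not_mem_nil, or_false]; omega) (hbe ▸ e1')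
  have hb20 : b = 20 := by omega
  have hge : (658 : ℝ) ≤ C := by
    have hre := congrArg Complex.re h4
    rw [Complex.re_sum, Complex.natCast_re] at hre
    rw [← hre]
    refine le_trans (le_of_eq ?_) (Finset.sum_le_sum_of_subset_of_nonneg (Finset.subset_univ F)
      fun χ _ _ => by rw [Complex.mul_conj, Complex.ofReal_re]; exact Complex.normSq_nonneg _)
    have := congrArg Complex.re (hF fun χ => (χ : G → ℂ) t * conj ((χ : G → ℂ) t))
    rw [Complex.re_sum] at this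
    rw [this, hb, ha, he, hθ', ha15, he4', hb20]
    simp [oneChar]; norm_num
  have hge' : 658 ≤ C := by exact_mod_cast hge
  have hne := A7Local29.centralizer_ne_top hn (g := t) (fun e => by rw [e, orderOf_one] at ht; omega)
  have hi := SimpleOrderCheck.iOK_index (A7Local29.not_comm hn) [7, 5] _ hne
  rw [hn] at hi
  have hmul := (Subgroup.centralizer ({t} : Set G)).card_mul_index
  rw [hn] at hmul
  have hk : ∀ i ∈ List.range 4, SimpleOrderCheck.iOK 2520 [7, 5] i = false := by decide +kernel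
  have hi4 : (Subgroup.centralizer ({t} : Set G)).index < 4 := by
    by_contra hlt
    have := Nat.mul_le_mul hge' (Nat.le_of_not_lt hlt)
    rw [hC] at this
    omega
  rw [hk _ (List.mem_range.2 hi4)] at hi
  exact Bool.false_ne_true hi

/-- The characters: `c6`, `c15`, `c21`, `c35` named by degree, pairs of degree 10 and 14. -/
structure Table (G : Type*) [Group G] [Fintype G] where
  c6 : IrrCharacter G
  c15 : IrrCharacter G
  d : IrrCharacter G
  d' : IrrCharacter G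
  f : IrrCharacter G
  f' : IrrCharacter G
  c21 : IrrCharacter G
  c35 : IrrCharacter G
  expand : ∀ F : IrrCharacter G → ℂ, ∑ χ, F χ = F (oneChar G) + F c6 + F c15 + F d + F d' +
    F f + F f' + F c21 + F c35
  deg6 : deg c6 = 6
  deg15 : deg c15 = 15
  deg10 : deg d = 10 ∧ deg d' = 10
  deg14 : deg f = 14 ∧ deg f' = 14
  deg21 : deg c21 = 21
  deg35 : deg c35 = 35
  uniq : ∀ χ : IrrCharacter G, (deg χ = 6 → χ = c6) ∧ (deg χ = 15 → χ = c15) ∧
    (deg χ = 21 → χ = c21)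
  regular : ∀ g : G, ¬ 7 ∣ orderOf g → (d' : G → ℂ) g = (d : G → ℂ) g ∧
    (d : G → ℂ) g = 1 - (c6 : G → ℂ) g + (c15 : G → ℂ) g
  seven : ∀ z : G, orderOf z = 7 → (c6 : G → ℂ) z = -1 ∧ (c15 : G → ℂ) z = 1 ∧
    conj ((d : G → ℂ) z) + conj ((d' : G → ℂ) z) = -1 ∧
    (f : G → ℂ) z = 0 ∧ (f' : G → ℂ) z = 0 ∧ (c21 : G → ℂ) z = 0 ∧ (c35 : G → ℂ) z = 0

/-- Exchange the two characters of degree 14. -/
def Table.swap (T : Table G) : Table G where
  c6 := T.c6
  c15 := T.c15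
  d := T.d
  d' := T.d'
  f := T.f'
  f' := T.f
  c21 := T.c21
  c35 := T.c35
  expand F := by rw [T.expand F]; ring
  deg6 := T.deg6
  deg15 := T.deg15
  deg10 := T.deg10
  deg14 := T.deg14.symm
  deg21 := T.deg21
  deg35 := T.deg35
  uniq := T.uniq
  regular := T.regular
  seven z hz := by
    obtain ⟨h1, h2, h3, h4, h5, h6, h7⟩ := T.seven z hz
    exact ⟨h1, h2, h3, h5, h4, h6, h7⟩

include hn in
theorem exists_table : Nonempty (Table G) := by
  obtain ⟨S⟩ := exists_seven hn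
  obtain ⟨hθ, h1, h2, hε⟩ := case_ten hn S
  obtain ⟨hmod5, hcard5, -, -⟩ := five_block hn
  have hd := S.distinct
  simp only [List.nodup_cons, List.mem_cons, List.not_mem_nil, or_false, not_or, List.nodup_nil,
    not_false_eq_true, and_true] at hd
  set F := ({oneChar G, S.x1, S.x2, S.θ, S.θ'} : Finset (IrrCharacter G))
  set R := Finset.univ \ F with hRdef
  have hF : ∀ {M : Type} [AddCommMonoid M] (k : IrrCharacter G → M), ∑ χ ∈ F, k χ =
      k (oneChar G) + k S.x1 + k S.x2 + k S.θ + k S.θ' := fun {M} _ k => by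
    simp only [F]
    rw [Finset.sum_insert (by simp [hd.1]), Finset.sum_insert (by simp [hd.2.1]),
      Finset.sum_insert (by simp [hd.2.2.1]), Finset.sum_pair hd.2.2.2]
    abel
  have hR : ∀ χ ∈ R, deg χ ∈ ({14, 21, 35} : Finset ℕ) := by
    intro χ hχ
    have hnot : χ ∉ [oneChar G, S.x1, S.x2, S.θ, S.θ'] := by
      simpa [hRdef, F] using hχ
    have h0 := S.rest χ hnot
    have h1 := deg_ne_one hn (χ := χ) (fun e => hnot (e ▸ List.mem_cons_self))
    have key : ∀ d ∈ List.range 51, 2520 % d = 0 → (d % 5 = 0 ∨ d % 5 = 1 ∨ d % 5 = 4) →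
        d % 7 = 0 → d = 14 ∨ d = 21 ∨ d = 35 := by decide +kernel
    simpa using key (deg χ) (List.mem_range.2 (deg_dvd hn χ).2) (Nat.mod_eq_zero_of_dvd (deg_dvd hn χ).1)
      (hmod5 χ) h0
  set N : ℕ → ℕ := fun v => (R.filter fun χ => deg χ = v).card with hNdef
  have hsplit : ∀ H : ℕ → ℕ, ∑ χ : IrrCharacter G, H (deg χ) =
      H 1 + H 6 + H 15 + 2 * H 10 + (N 14 * H 14 + N 21 * H 21 + N 35 * H 35) := by
    intro H
    rw [← Finset.sum_sdiff (Finset.subset_univ F), ← hRdef, ← Finset.sum_fiberwise_of_maps_to' hR,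
      hF fun χ => H (deg χ)]
    simp [hNdef, S.degθ, hθ, h1, h2, deg_one]
    ring
  have e2 := (sum_deg_sq hn).symm.trans (hsplit fun d => d ^ 2)
  have e5 := hcard5
  rw [Finset.card_filter, hsplit fun d => if d % 5 ≠ 0 then 1 else 0] at e5
  norm_num at e5 e2
  obtain ⟨h14, h21, h35⟩ : N 14 = 2 ∧ N 21 = 1 ∧ N 35 = 1 := by
    generalize N 14 = A, N 21 = B, N 35 = C at e2 e5 ⊢
    have : A ≤ 3 := by omega
    interval_cases A <;> omega
  obtain ⟨f, f', hff, hf⟩ := Finset.card_eq_two.1 h14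
  obtain ⟨c21, h21'⟩ := Finset.card_eq_one.1 h21
  obtain ⟨c35, h35'⟩ := Finset.card_eq_one.1 h35
  have hmem : ∀ {χ : IrrCharacter G} {v : ℕ}, χ ∈ R.filter (fun χ => deg χ = v) → χ ∈ R ∧ deg χ = v :=
    fun h => Finset.mem_filter.1 h
  have mf := hmem (χ := f) (v := 14) (by rw [hf]; simp)
  have mf' := hmem (χ := f') (v := 14) (by rw [hf]; simp)
  have m21 := hmem (χ := c21) (v := 21) (by rw [h21']; simp)
  have m35 := hmem (χ := c35) (v := 35) (by rw [h35']; simp)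
  refine ⟨⟨S.x1, S.x2, S.θ, S.θ', f, f', c21, c35, fun H => ?_, h1, h2, ⟨hθ, S.degθ.trans hθ⟩,
    ⟨mf.2, mf'.2⟩, m21.2, m35.2, fun χ => ?_, fun g hg => ?_, fun z hz => ?_⟩⟩
  · rw [← Finset.sum_sdiff (Finset.subset_univ F), ← hRdef, hF H,
      ← Finset.sum_fiberwise_of_maps_to hR, Finset.sum_insert (by decide : (14 : ℕ) ∉ ({21, 35} : Finset ℕ)),
      Finset.sum_pair (by decide : (21 : ℕ) ≠ 35), hf, h21', h35', Finset.sum_pair hff,
      Finset.sum_singleton, Finset.sum_singleton]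
    ring
  · have hcases : χ = oneChar G ∨ χ = S.x1 ∨ χ = S.x2 ∨ χ = S.θ ∨ χ = S.θ' ∨ χ ∈ R := by
      by_cases hχ : χ ∈ F
      · simp only [F, Finset.mem_insert, Finset.mem_singleton] at hχ
        tauto
      · simp [hRdef, hχ]
    rcases hcases with rfl | rfl | rfl | rfl | rfl | hχ
    · simp [deg_one]
    · simp [h1]
    · simp [h2]
    · simp [hθ]
    · simp [S.degθ, hθ]
    · have := hR χ hχ
      simp only [Finset.mem_insert, Finset.mem_singleton] at this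
      refine ⟨fun e => by omega, fun e => by omega, fun e => ?_⟩
      have : χ ∈ R.filter fun χ => deg χ = 21 := Finset.mem_filter.2 ⟨hχ, e⟩
      rw [h21'] at this
      exact Finset.mem_singleton.1 this
  · obtain ⟨e1, e2⟩ := S.regular g hg
    rw [hε, Int.cast_one, one_mul] at e2
    exact ⟨e1, e2⟩
  · obtain ⟨z1, z2, zS, z0⟩ := S.column z hz
    rw [hε, Int.cast_one] at zS
    have hz0 : ∀ χ ∈ R, (χ : G → ℂ) z = 0 := fun χ hχ => z0 χ (by simpa [hRdef, F] using hχ)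
    exact ⟨z1, z2, zS, hz0 _ mf.1, hz0 _ mf'.1, hz0 _ m21.1, hz0 _ m35.1⟩

variable (T : Table G)

include hn in
theorem relation_five {g : G} (hg : ¬ 5 ∣ orderOf g) :
    1 + (T.c6 : G → ℂ) g - (T.f : G → ℂ) g - (T.f' : G → ℂ) g + (T.c21 : G → ℂ) g = 0 := by
  have h := (five_block hn).2.2.1 g hg
  rw [T.expand] at h
  simp only [deg_one, T.deg6, T.deg15, T.deg10.1, T.deg10.2, T.deg14.1, T.deg14.2, T.deg21, T.deg35,
    sgnMod] at h
  norm_num [oneChar] at h
  linear_combination h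

include hn in
theorem column_five {z : G} (hz : orderOf z = 5) :
    (T.c6 : G → ℂ) z = 1 ∧ (T.c15 : G → ℂ) z = 0 ∧ (T.d : G → ℂ) z = 0 ∧ (T.d' : G → ℂ) z = 0 ∧
      (T.f : G → ℂ) z = -1 ∧ (T.f' : G → ℂ) z = -1 ∧ (T.c21 : G → ℂ) z = 1 ∧
      (T.c35 : G → ℂ) z = 0 := by
  have h := (five_block hn).2.2.2 z hz
  simp only [h, T.deg6, T.deg15, T.deg10.1, T.deg10.2, T.deg14.1, T.deg14.2, T.deg21, T.deg35, sgnMod]
  norm_num

theorem relation_degree {g : G} (hg : g ≠ 1) :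
    1 + 6 * (T.c6 : G → ℂ) g + 15 * (T.c15 : G → ℂ) g + 10 * ((T.d : G → ℂ) g + (T.d' : G → ℂ) g) +
      14 * ((T.f : G → ℂ) g + (T.f' : G → ℂ) g) + 21 * (T.c21 : G → ℂ) g + 35 * (T.c35 : G → ℂ) g = 0 := by
  have ho := CharBasicOrth.sum_irr_mul_conj g (1 : G)
  rw [if_neg (fun hc => hg (isConj_one_left.1 hc)), T.expand] at ho
  simp only [deg_apply, deg_one, T.deg6, T.deg15, T.deg10.1, T.deg10.2, T.deg14.1, T.deg14.2, T.deg21,
    T.deg35, Complex.conj_natCast] at ho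
  norm_num [oneChar] at ho
  linear_combination ho

end Cfsg.Agent.A7Table29
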