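import Mathlib
import Cfsg.Agent.Lib.CharBasicDecomp

/-!
# Permutation characters and the permutation lemma on classes and characters
-/

set_option autoImplicit false

open scoped ComplexConjugate

namespace Cfsg.Agent.CharBasicPerm

open Cfsg.Agent.CharBasic Cfsg.Agent.CharBasicOrth Cfsg.Agent.CharBasicDecomp

universe u v

variable {G : Type u} [Group G]

/-- The permutation representation on functions. -/
def permRep (G : Type u) [Group G] (X : Type v) [MulAction G X] : Representation ℂ G (X → ℂ) where
  toFun g := LinearMap.funLeft ℂ ℂ (g⁻¹ • · : X → X)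
  map_one' := by ext φ x; simp
  map_mul' a b := by ext φ x; simp [mul_smul]

theorem character_permRep (X : Type v) [MulAction G X] [Finite X] :
    (permRep G X).character = fun g => (Nat.card (MulAction.fixedBy X g) : ℂ) := by
  classical
  have := Fintype.ofFinite X
  funext g
  rw [Representation.character, LinearMap.trace_eq_matrix_trace ℂ (Pi.basisFun ℂ X), Matrix.trace,
    Nat.card_eq_fintype_card, Fintype.card_subtype, Finset.card_filter, Nat.cast_sum]
  refine Finset.sum_congr rfl fun x _ => ?_
  simp only [LinearMap.toMatrix_apply, permRep, Matrix.diag_apply, Pi.basisFun_apply, MonoidHom.coe_mk,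
    OneHom.coe_mk, Pi.basisFun_repr, LinearMap.funLeft_apply, Pi.single_apply,
    MulAction.mem_fixedBy, Nat.cast_ite, Nat.cast_one, Nat.cast_zero, eq_comm]
  exact if_congr ⟨fun h => by rw [eq_inv_smul_iff]; exact h.symm,
    fun h => (eq_inv_smul_iff.1 h).symm⟩ rfl rfl

theorem isCharacter_fixedBy (X : Type v) [MulAction G X] [Finite X] :
    Cfsg.IsCharacter G (fun g => (Nat.card (MulAction.fixedBy X g) : ℂ)) := by
  rw [← character_permRep]
  exact isCharacter_of_rep _

theorem classInner_fixedBy_one [Fintype G] (X : Type v) [MulAction G X] [Finite X] :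
    Cfsg.classInner (fun g : G => (Nat.card (MulAction.fixedBy X g) : ℂ)) (fun _ => 1) =
      (Nat.card (MulAction.orbitRel.Quotient G X) : ℂ) := by
  classical
  have := Fintype.ofFinite X
  have := Fintype.ofFinite (MulAction.orbitRel.Quotient G X)
  have h := MulAction.sum_card_fixedBy_eq_card_orbits_mul_card_group (G := G) (X := X)
  refine mul_left_cancel₀ (Nat.cast_ne_zero.2 (Nat.card_pos (α := G)).ne' : (Nat.card G : ℂ) ≠ 0) ?_
  rw [card_mul_classInner]
  simp only [map_one, mul_one, ← Nat.cast_sum, ← Nat.cast_mul]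
  congr 1
  simp only [Nat.card_eq_fintype_card]
  rw [mul_comm]
  exact h

theorem classInner_fixedBy_self [Fintype G] (X : Type v) [MulAction G X] [Finite X] :
    Cfsg.classInner (fun g : G => (Nat.card (MulAction.fixedBy X g) : ℂ))
      (fun g => (Nat.card (MulAction.fixedBy X g) : ℂ)) =
      (Nat.card (MulAction.orbitRel.Quotient G (X × X)) : ℂ) := by
  rw [← classInner_fixedBy_one]
  refine congrArg _ (Finset.sum_congr rfl fun g _ => ?_)
  rw [map_natCast, map_one, mul_one, ← Nat.cast_mul, ← Nat.card_prod]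
  congr 1
  exact Nat.card_congr ((Equiv.Set.prod _ _).symm.trans (Equiv.setCongr (by
    ext p; simp [Prod.ext_iff])))

theorem sum_card_centralizer_filter [Fintype G] (p : ConjClasses G → Prop) [DecidablePred p] :
    ∑ g ∈ Finset.univ.filter (fun g => p (ConjClasses.mk g)),
        (Nat.card (Subgroup.centralizer ({g} : Set G)) : ℂ) =
      (Nat.card G : ℂ) * Nat.card {C : ConjClasses G // p C} := by
  classical
  have := Fintype.ofFinite (ConjClasses G)
  rw [← Finset.sum_fiberwise_of_maps_to (t := Finset.univ.filter p) (g := ConjClasses.mk)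
    (fun g hg => by simpa using hg)]
  rw [Nat.card_eq_fintype_card (α := {C : ConjClasses G // p C}), Fintype.card_subtype, mul_comm,
    ← nsmul_eq_mul, ← Finset.sum_const]
  refine Finset.sum_congr rfl fun C hC => ?_
  obtain ⟨h, rfl⟩ := ConjClasses.exists_rep C
  have hp : p (ConjClasses.mk h) := by simpa using hC
  have hcard : ∀ g, IsConj h g → Nat.card (Subgroup.centralizer ({g} : Set G)) =
      Nat.card (Subgroup.centralizer ({h} : Set G)) := by
    intro g hg
    have e : Nat.card {x : G // IsConj g x} = Nat.card {x : G // IsConj h x} :=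
      Nat.card_congr (Equiv.subtypeEquivRight fun x => ⟨fun e => hg.trans e, fun e => hg.symm.trans e⟩)
    have h1 := card_conj_mul_card_centralizer g
    rw [← card_conj_mul_card_centralizer h, e] at h1
    have : Nonempty {x : G // IsConj h x} := ⟨⟨h, IsConj.refl h⟩⟩
    exact Nat.eq_of_mul_eq_mul_left Nat.card_pos h1
  rw [Finset.filter_filter]
  have hs : Finset.univ.filter (fun g => p (ConjClasses.mk g) ∧ ConjClasses.mk g = ConjClasses.mk h) =
      Finset.univ.filter (fun g => IsConj h g) := Finset.filter_congr fun g _ => by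
    rw [ConjClasses.mk_eq_mk_iff_isConj]
    exact ⟨fun e => e.2.symm, fun e => ⟨(ConjClasses.mk_eq_mk_iff_isConj.2 e) ▸ hp, e.symm⟩⟩
  rw [hs, Finset.sum_congr rfl fun g hg => by rw [hcard g (Finset.mem_filter.1 hg).2],
    Finset.sum_const, ← Fintype.card_subtype, ← Nat.card_eq_fintype_card, nsmul_eq_mul,
    ← Nat.cast_mul, card_conj_mul_card_centralizer]

/-- The permutation lemma for classes and irreducible characters. -/
theorem card_fixed [Finite G] (t : G → G) (p : ConjClasses G → Prop)
    (hp : ∀ g, p (ConjClasses.mk g) ↔ IsConj (t g) g)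
    (σ : Cfsg.IrrCharacter G → Cfsg.IrrCharacter G)
    (hσ : ∀ (χ : Cfsg.IrrCharacter G) g, (σ χ : G → ℂ) g = (χ : G → ℂ) (t g)) :
    Nat.card {C : ConjClasses G // p C} = Nat.card {χ : Cfsg.IrrCharacter G // σ χ = χ} := by
  classical
  have := Fintype.ofFinite G
  have h1 : ∀ g, ∑ χ : Cfsg.IrrCharacter G, (χ : G → ℂ) (t g) * conj ((χ : G → ℂ) g) =
      if p (ConjClasses.mk g) then (Nat.card (Subgroup.centralizer ({g} : Set G)) : ℂ) else 0 := by
    intro g
    by_cases h : IsConj (t g) g
    · rw [if_pos ((hp g).2 h), ← (sum_irr_mul_conj g g).trans (if_pos (IsConj.refl g))]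
      refine Finset.sum_congr rfl fun χ _ => ?_
      rw [apply_eq_of_isConj (isClassFunction_of_isCharacter
        (isCharacter_of_isIrrCharacter χ.2)) h]
    · rw [if_neg fun e => h ((hp g).1 e), sum_irr_mul_conj, if_neg h]
  have h2 : ∑ χ : Cfsg.IrrCharacter G, Cfsg.classInner (σ χ : G → ℂ) χ =
      (Nat.card {C : ConjClasses G // p C} : ℂ) := by
    refine mul_left_cancel₀ (Nat.cast_ne_zero.2 (Nat.card_pos (α := G)).ne' : (Nat.card G : ℂ) ≠ 0) ?_
    rw [← sum_card_centralizer_filter p, Finset.mul_sum, Finset.sum_filter]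
    simp only [card_mul_classInner, hσ]
    rw [Finset.sum_comm]
    exact Finset.sum_congr rfl fun g _ => h1 g
  simp only [classInner_irrCharacter] at h2
  rw [Finset.sum_boole, ← Fintype.card_subtype, ← Nat.card_eq_fintype_card] at h2
  exact_mod_cast h2.symm

theorem card_conjugators [Fintype G] (x y : G) [Decidable (IsConj x y)] :
    Nat.card {b : G // b * x * b⁻¹ = y} =
      if IsConj x y then Nat.card (Subgroup.centralizer ({x} : Set G)) else 0 := by
  split_ifs with h
  · obtain ⟨c, rfl⟩ := isConj_iff.1 h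
    refine Nat.card_congr
      { toFun := fun b => ⟨c⁻¹ * b, ?_⟩
        invFun := fun z => ⟨c * z, ?_⟩
        left_inv := fun b => Subtype.ext (by simp)
        right_inv := fun z => Subtype.ext (by simp) }
    · rw [Subgroup.mem_centralizer_singleton_iff]
      have hb := b.2
      calc c⁻¹ * b * x = c⁻¹ * (b * x * (b : G)⁻¹) * b := by group
        _ = c⁻¹ * (c * x * c⁻¹) * b := by rw [hb]
        _ = x * (c⁻¹ * b) := by group
    · have hz := Subgroup.mem_centralizer_singleton_iff.1 z.2
      calc c * z * x * (c * z)⁻¹ = c * (z * x) * (z : G)⁻¹ * c⁻¹ := by group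
        _ = c * (x * z) * (z : G)⁻¹ * c⁻¹ := by rw [hz]
        _ = c * x * c⁻¹ := by group
  · have : IsEmpty {b : G // b * x * b⁻¹ = y} := ⟨fun b => h (isConj_iff.2 ⟨b, b.2⟩)⟩
    exact Nat.card_of_isEmpty

end Cfsg.Agent.CharBasicPerm
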