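import Mathlib
import Cfsg.Agent.Lib.A7Table29
import Cfsg.Agent.Lib.A7Geom29
import Cfsg.Agent.Lib.CharBasicPerm

/-!
A simple group of order 2520 has a subgroup of index 7, hence is the alternating group of degree 7.
-/

set_option autoImplicit false
set_option linter.style.haveILetI false
set_option linter.unusedSectionVars false

open scoped ComplexConjugate

namespace Cfsg.Agent.A7Main29

open Cfsg Cfsg.Agent.BlockPrime86 Cfsg.Agent.BlockPrincipal81 Cfsg.Agent.M11Order91 Cfsg.Agent.A7Local29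
  Cfsg.Agent.A7Table29

/-- The candidates for the centraliser order of an element of order three. -/
def cs : List ℤ := [9, 18, 36, 45, 63, 72, 90, 126, 180, 252, 315, 360, 504, 630, 1260, 2520]

theorem mem_cs : ∀ c ∈ List.range 2521, 2520 % c = 0 → c % 9 = 0 → (c : ℤ) ∈ cs := by decide +kernel

set_option synthInstance.maxSize 4000 in
set_option synthInstance.maxHeartbeats 400000 in
theorem solve_t : ∀ u ∈ [(-6 : ℤ), -2, 2, 6], ∀ a ∈ [(-13 : ℤ), -9, -5, -1, 3, 7, 11, 15],
    ∀ p ∈ [(-14 : ℤ), -10, -6, -2, 2, 6, 10, 14], ∀ q ∈ [(-14 : ℤ), -10, -6, -2, 2, 6, 10, 14],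
    ∀ b, b = 1 - u + a → ∀ r, r = p + q - 1 - u → ∀ s, s = u - a - p - q →
    ∀ C, C = 1 + u * u + a * a + 2 * (b * b) + p * p + q * q + r * r + s * s →
    ∀ T, T = 210 + 35 * (u * u) - 15 * (p * p + q * q) + 10 * (r * r) →
    210 - 35 * (u * u) + 14 * (a * a) - 21 * (b * b) = 0 → 2520 % C = 0 → C % 8 = 0 → 0 ≤ T →
    (12 * T) % (C * C) = 0 →
    C = 360 ∨ (a = -1 ∧ ((u = 2 ∧ p = 2 ∧ q = 2) ∨ (u = -2 ∧ p = -2 ∧ q = 2) ∨
      (u = -2 ∧ p = 2 ∧ q = -2))) := by
  simp only [forall_eq]
  decide +kernel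

set_option synthInstance.maxSize 4000 in
set_option synthInstance.maxHeartbeats 400000 in
theorem solve_two : ∀ v ∈ [(-6 : ℤ), -3, 0, 3, 6],
    ∀ a ∈ [(-15 : ℤ), -12, -9, -6, -3, 0, 3, 6, 9, 12, 15], ∀ c ∈ cs,
    ∀ b, b = 1 - v + a → ∀ r, r = a - 2 * v → ∀ s, s = 2 * v - 2 * a - 1 →
    ∀ W, W = c - (1 + v * v + a * a + 2 * (b * b) + r * r + s * s) →
    ∀ T5, T5 = 210 + 70 * v - 30 * b + 10 * r →
    ∀ T3, T3 = 210 + 70 * (v * v) - 14 * (a * a) - 84 * (b * b) + 30 * W + 10 * (r * r) - 6 * (s * s) →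
    0 ≤ W → 0 ≤ T5 → 0 ≤ T3 → 0 ≤ 210 + 35 * (v * v) - 15 * W + 10 * (r * r) →
    0 ≤ 210 + 140 * v + 14 * a + 168 * b + 60 * b + 10 * r + 6 * s →
    (12 * T5) % (5 * c) = 0 → (12 * T3) % (c * c) = 0 →
    ((v = 3 ∨ v = 0) ∧ 5 * T3 < c * T5) ∨ (v = -3 ∧ 0 < T3) := by
  simp only [forall_eq]
  decide +kernel

set_option synthInstance.maxSize 4000 in
set_option synthInstance.maxHeartbeats 400000 in
theorem solve_neg : ∀ v ∈ [(-6 : ℤ), -3, 0, 3, 6],
    ∀ a ∈ [(-15 : ℤ), -12, -9, -6, -3, 0, 3, 6, 9, 12, 15], ∀ i ∈ List.range 43,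
    ∀ r, r = (i : ℤ) - 21 → ∀ b, b = 1 - v + a → ∀ q, q = 2 * v - a - 1 → ∀ p, p = 1 + v + r - q →
    ∀ s, s = v - a - p - q →
    ∀ c, c = 1 + v * v + a * a + 2 * (b * b) + p * p + q * q + r * r + s * s → c ∈ cs →
    ∀ T5, T5 = 210 - 70 * v + 30 * p - 30 * q + 10 * r →
    ∀ T3, T3 = 210 - 70 * (v * v) - 14 * (a * a) + 84 * (b * b) - 30 * (p * p) + 30 * (q * q) +
      10 * (r * r) - 6 * (s * s) →
    0 ≤ T5 → 0 ≤ T3 → 0 ≤ 210 + 35 * (v * v) - 15 * (p * p + q * q) + 10 * (r * r) →
    0 ≤ 210 + 140 * v + 14 * a + 168 * b + 60 * (p + q) + 10 * r + 6 * s →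
    (12 * T5) % (5 * c) = 0 → (12 * T3) % (c * c) = 0 → False := by
  simp only [forall_eq]
  decide +kernel

attribute [local instance] Classical.propDecidable

section Counting

variable {G : Type*} [Group G] [Fintype G]

theorem card_conj_count (x : G) (P : G → Prop) :
    Nat.card {g : G // P (g * x * g⁻¹)} =
      Nat.card ↥(Subgroup.centralizer ({x} : Set G)) * Nat.card {y : G // IsConj x y ∧ P y} := by
  rw [Nat.card_eq_fintype_card (α := {g : G // P (g * x * g⁻¹)}),
    Nat.card_eq_fintype_card (α := {y : G // IsConj x y ∧ P y}), Fintype.card_subtype,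
    Fintype.card_subtype]
  rw [Finset.card_eq_sum_card_fiberwise (f := fun g => g * x * g⁻¹)
    (t := Finset.univ.filter fun y => IsConj x y ∧ P y) (fun g hg => by
      exact Finset.mem_filter.2 ⟨Finset.mem_univ _, isConj_iff.2 ⟨g, rfl⟩, (Finset.mem_filter.1 hg).2⟩)]
  rw [Finset.sum_congr rfl (g := fun _ => Nat.card ↥(Subgroup.centralizer ({x} : Set G))) fun y hy => by
    obtain ⟨-, hc, hp⟩ := Finset.mem_filter.1 hy
    have := CharBasicPerm.card_conjugators x y
    rw [if_pos hc, Nat.card_eq_fintype_card, Fintype.card_subtype] at this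
    rw [← this, Finset.filter_filter]
    refine congrArg Finset.card (Finset.filter_congr fun g _ => ⟨fun h => h.2, fun h => ⟨h ▸ hp, h⟩⟩)]
  rw [Finset.sum_const, smul_eq_mul, mul_comm]

theorem sq_dvd_count {t z : G} {m : ℕ}
    (hm : ∀ w, IsConj w z → Nat.card ↥(Subgroup.centralizer ({w} : Set G)) = m) :
    Nat.card ↥(Subgroup.centralizer ({t} : Set G)) ^ 2 ∣
      m * Nat.card {k : G // IsConj z (t * (k * t * k⁻¹))} := by
  set C := Nat.card ↥(Subgroup.centralizer ({t} : Set G))
  set S := Finset.univ.filter fun p : G × G => p.1 * t * p.1⁻¹ * (p.2 * t * p.2⁻¹) = z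
  have h1 : C ^ 2 ∣ S.card := by
    rw [Finset.card_eq_sum_card_image (fun p : G × G => (p.1 * t * p.1⁻¹, p.2 * t * p.2⁻¹)) S]
    refine Finset.dvd_sum fun y hy => ?_
    obtain ⟨p, hp, rfl⟩ := Finset.mem_image.1 hy
    obtain ⟨-, hpz⟩ := Finset.mem_filter.1 hp
    have e : (S.filter fun q => (q.1 * t * q.1⁻¹, q.2 * t * q.2⁻¹) = (p.1 * t * p.1⁻¹, p.2 * t * p.2⁻¹)) =
        (Finset.univ.filter fun g => g * t * g⁻¹ = p.1 * t * p.1⁻¹) ×ˢ
          (Finset.univ.filter fun g => g * t * g⁻¹ = p.2 * t * p.2⁻¹) := by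
      ext q
      simp only [S, Finset.mem_filter, Finset.mem_univ, true_and, Finset.mem_product, Prod.mk.injEq]
      constructor
      · rintro ⟨-, h⟩; exact h
      · rintro ⟨h, h'⟩; exact ⟨by rw [h, h', hpz], h, h'⟩
    have hc : ∀ g : G, (Finset.univ.filter fun k => k * t * k⁻¹ = g * t * g⁻¹).card = C := fun g => by
      have := CharBasicPerm.card_conjugators t (g * t * g⁻¹)
      rw [if_pos (isConj_iff.2 ⟨g, rfl⟩), Nat.card_eq_fintype_card, Fintype.card_subtype] at this
      exact this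
    rw [e, Finset.card_product, hc, hc, pow_two]
  have h2 : S.card = m * Nat.card {k : G // IsConj z (t * (k * t * k⁻¹))} := by
    rw [Nat.card_eq_fintype_card, Fintype.card_subtype,
      Finset.card_eq_sum_card_fiberwise (f := fun p : G × G => p.1⁻¹ * p.2)
        (t := Finset.univ.filter fun k => IsConj z (t * (k * t * k⁻¹))) (fun p hp => by
          obtain ⟨-, hpz⟩ := Finset.mem_filter.1 hp
          refine Finset.mem_filter.2 ⟨Finset.mem_univ _, isConj_iff.2 ⟨p.1⁻¹, ?_⟩⟩
          rw [← hpz]; group),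
      Finset.sum_congr rfl (g := fun _ => m) fun k hk => ?_, Finset.sum_const, smul_eq_mul, mul_comm]
    obtain ⟨-, hk⟩ := Finset.mem_filter.1 hk
    have := CharBasicPerm.card_conjugators (t * (k * t * k⁻¹)) z
    rw [if_pos hk.symm, hm _ hk.symm, Nat.card_eq_fintype_card, Fintype.card_subtype] at this
    rw [← this]
    refine Finset.card_bij (fun p _ => p.1) (fun p hp => ?_) (fun p hp p' hp' e => ?_) (fun g hg => ?_)
    · obtain ⟨hpS, rfl⟩ := Finset.mem_filter.1 hp
      obtain ⟨-, hpz⟩ := Finset.mem_filter.1 hpS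
      refine Finset.mem_filter.2 ⟨Finset.mem_univ _, ?_⟩
      rw [← hpz]; simp only [mul_inv_rev, inv_inv, mul_assoc, mul_inv_cancel, mul_one]
    · have h := (Finset.mem_filter.1 hp).2
      have h' := (Finset.mem_filter.1 hp').2
      rw [← h', e, mul_right_inj] at h
      exact Prod.ext e h
    · have hg := (Finset.mem_filter.1 hg).2
      refine ⟨(g, g * k), Finset.mem_filter.2 ⟨Finset.mem_filter.2 ⟨Finset.mem_univ _, ?_⟩, ?_⟩, rfl⟩
      · rw [← hg]; group
      · group
  rwa [h2] at h1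

end Counting

theorem tetra {G : Type*} [Group G] {t y : G} (ht : t * t = 1) (hy : y ^ 3 = 1)
    (hty : (t * y) ^ 3 = 1) : IsConj y (t * y) := by
  have e : y * t * y * t = t * y⁻¹ := by
    have h1 : y * t * y * t * (y * t⁻¹) = 1 := by
      have : (y * t) ^ 3 = 1 := by
        rw [show y * t = t⁻¹ * (t * y) * t⁻¹⁻¹ by group, conj_pow, hty]; group
      rw [inv_eq_of_mul_eq_one_left ht]
      rw [pow_succ, pow_two] at this
      simpa [mul_assoc] using this
    rw [mul_eq_one_iff_eq_inv] at h1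
    rw [h1, mul_inv_rev, inv_inv]
  refine isConj_iff.2 ⟨y * t * y⁻¹, ?_⟩
  have hy' : y⁻¹ * y⁻¹ = y := by
    rw [← mul_inv_rev, inv_eq_iff_mul_eq_one]
    rw [pow_succ, pow_two] at hy
    exact hy
  calc y * t * y⁻¹ * y * (y * t * y⁻¹)⁻¹ = (y * t * y * t⁻¹) * y⁻¹ := by group
    _ = t * y⁻¹ * y⁻¹ := by rw [inv_eq_of_mul_eq_one_left ht, e]
    _ = t * y := by rw [mul_assoc, hy']

variable {G : Type*} [Group G] [IsSimpleGroup G] [Fintype G] (hn : Nat.card G = 2520)

theorem abs_le_deg (χ : IrrCharacter G) (g : G) {m : ℤ} (hm : (χ : G → ℂ) g = m) :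
    -(deg χ : ℤ) ≤ m ∧ m ≤ deg χ := by
  obtain ⟨d, ρ, -, hρ⟩ := χ.2
  obtain ⟨b, μ, -, -, hnorm, hpow⟩ := CharBasic.exists_rep_eigenbasis ρ g
  have h1 := hpow 1
  simp only [pow_one] at h1
  have hd : (deg χ : ℂ) = (d : ℂ) := by
    rw [← deg_apply, show (χ : G → ℂ) 1 = ρ.character 1 by rw [hρ], Representation.char_one,
      Module.finrank_fintype_fun_eq_card, Fintype.card_fin]
  have hle : ‖((m : ℤ) : ℂ)‖ ≤ (deg χ : ℝ) := by
    rw [← hm, show (χ : G → ℂ) g = ρ.character g by rw [hρ], h1]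
    refine (norm_sum_le _ _).trans (le_of_eq ?_)
    rw [Finset.sum_congr rfl fun i _ => hnorm i, Finset.sum_const, Finset.card_univ,
      Fintype.card_fin, Module.finrank_fintype_fun_eq_card, Fintype.card_fin]
    have := Nat.cast_injective hd
    rw [this]; simp
  rw [Complex.norm_intCast] at hle
  exact abs_le.1 (show |m| ≤ (deg χ : ℤ) by exact_mod_cast hle)

/-- A character determined by its degree has integral values at elements of order three. -/
theorem three_value (χ : IrrCharacter G) (huniq : ∀ η : IrrCharacter G, deg η = deg χ → η = χ) {x : G}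
    (hx : orderOf x = 3) : ∃ m : ℤ, (χ : G → ℂ) x = (m : ℂ) ∧ (3 : ℤ) ∣ m - (deg χ : ℤ) := by
  obtain ⟨m, n, hm, h3⟩ := char_order_three χ (y := x) (by rw [← hx]; exact pow_orderOf_eq_one x)
  let η : IrrCharacter G := ⟨fun g => conj ((χ : G → ℂ) g), CharBasicDecomp.isIrrCharacter_conj χ.2⟩
  have hd : deg η = deg χ := by
    have h := deg_apply η
    have h' : ((η : G → ℂ) 1) = (deg χ : ℂ) := by
      show conj ((χ : G → ℂ) 1) = _
      rw [deg_apply, Complex.conj_natCast]
    rw [h] at h'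
    exact_mod_cast h'
  have hreal : conj ((χ : G → ℂ) x) = (χ : G → ℂ) x := by
    conv_rhs => rw [← huniq η hd]
  rw [Complex.conj_eq_iff_im, hm, im_eis] at hreal
  have hn0 : n = 0 := by
    rcases mul_eq_zero.1 hreal with h | h
    · exact_mod_cast h
    · exfalso
      have : Real.sqrt 3 ≠ 0 := Real.sqrt_ne_zero'.2 (by norm_num)
      exact this (by linarith)
  subst hn0
  exact ⟨m, by rw [hm]; simp, by simpa using h3⟩

/-- In dimension six, an element of order three of trace `-3` has no fixed vector. -/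
theorem false_of_minus_three (χ : IrrCharacter G) (hd : deg χ = 6) {t w : G} (ht : (χ : G → ℂ) t = 2)
    (hw : orderOf w = 3) (hwv : (χ : G → ℂ) w = -3) (hconj : IsConj w (t * w)) (ht2 : t * t = 1) :
    False := by
  obtain ⟨d, ρ, -, hρ⟩ := χ.2
  obtain ⟨b, μ, hb, hord, hnorm, hpow⟩ := CharBasic.exists_rep_eigenbasis ρ w
  rw [hw] at hord
  have hsum : ∑ i, μ i = -3 := by
    have := hpow 1
    simp only [pow_one] at this
    rw [← this, ← hwv, hρ]
  have hcard : (Module.finrank ℂ (Fin d → ℂ)) = 6 := by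
    have h1 : ((χ : G → ℂ) 1) = (6 : ℕ) := by rw [deg_apply, hd]
    rw [show (χ : G → ℂ) 1 = ρ.character 1 by rw [hρ], Representation.char_one] at h1
    exact_mod_cast h1
  have hre : ∀ i, (μ i).re = 1 ∨ (μ i).re = -(1 / 2) := by
    intro i
    have h := hord i
    have : (μ i - 1) * (μ i * μ i + μ i + 1) = 0 := by linear_combination h
    rcases mul_eq_zero.1 this with h' | h'
    · left; rw [sub_eq_zero.1 h']; simp
    · have him := congrArg Complex.im h'
      have hre := congrArg Complex.re h'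
      simp at him hre
      rcases eq_or_ne (μ i).im 0 with h0 | h0
      · exfalso; rw [h0] at hre; nlinarith [sq_nonneg ((μ i).re + 1 / 2)]
      · right
        have : (μ i).im * (2 * (μ i).re + 1) = 0 := by linarith
        rcases mul_eq_zero.1 this with e | e
        · exact absurd e h0
        · linarith
  have hne1 : ∀ i, μ i ≠ 1 := by
    intro i hi
    have hr := congrArg Complex.re hsum
    rw [Complex.re_sum, ← Finset.add_sum_erase _ _ (Finset.mem_univ i), hi] at hr
    have hle : -(1 / 2) * ((Finset.univ.erase i).card : ℝ) ≤ ∑ j ∈ Finset.univ.erase i, (μ j).re := by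
      have := Finset.card_nsmul_le_sum (Finset.univ.erase i) (fun j => (μ j).re) (-(1 / 2)) fun j _ => by
        rcases hre j with e | e <;> rw [e] <;> norm_num
      rw [nsmul_eq_mul] at this
      linarith
    have hc5 : (Finset.univ.erase i).card = 5 := by
      rw [Finset.card_erase_of_mem (Finset.mem_univ i), Finset.card_univ, Fintype.card_fin]; omega
    rw [hc5] at hle
    simp at hr hle
    linarith
  have hP : ρ 1 + ρ w + ρ (w ^ 2) = 0 := by
    refine b.ext fun i => ?_
    have h : μ i * μ i + μ i + 1 = 0 := by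
      have : (μ i - 1) * (μ i * μ i + μ i + 1) = 0 := by linear_combination hord i
      exact (mul_eq_zero.1 this).resolve_left (sub_ne_zero.2 (hne1 i))
    simp only [LinearMap.add_apply, map_one, Module.End.one_apply, pow_two, map_mul, Module.End.mul_apply,
      hb, map_smul, LinearMap.zero_apply, smul_smul]
    rw [show b i + μ i • b i + (μ i * μ i) • b i = (μ i * μ i + μ i + 1) • b i by
      rw [add_smul, add_smul, one_smul]; abel, h, zero_smul]
  have htr : ρ.character t + ρ.character (t * w) + ρ.character (t * w ^ 2) = 0 := by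
    have := congrArg (fun M => LinearMap.trace ℂ (Fin d → ℂ) (ρ t * M)) hP
    simp only [mul_add, mul_zero, map_add, map_zero, ← map_mul, mul_one] at this
    exact this
  rw [hρ] at htr
  have htw : (χ : G → ℂ) (t * w) = -3 := (ClassAlgebraVal.irr_conj χ hconj).symm.trans hwv
  have htw2 : (χ : G → ℂ) (t * w ^ 2) = -3 := by
    have hw3 : w ^ 3 = 1 := by rw [← hw]; exact pow_orderOf_eq_one w
    have e : t * w ^ 2 = (w * t)⁻¹ := by
      rw [mul_inv_rev, inv_eq_of_mul_eq_one_left ht2]
      congr 1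
      exact eq_inv_of_mul_eq_one_left (by rw [← pow_succ, hw3])
    have hc : IsConj (t * w) (w * t) := isConj_iff.2 ⟨t⁻¹, by group⟩
    rw [e, CharBasic.isCharacter_inv (ClassAlgebraVal.irr_isCharacter χ),
      (ClassAlgebraVal.irr_conj χ hc).symm, htw]
    simp [Complex.ext_iff]
  rw [ht, htw, htw2] at htr
  norm_num at htr

include hn in
theorem count_eq {a b c : G} {S : ℤ}
    (h : (210 : ℂ) * ∑ χ : IrrCharacter G,
      (χ : G → ℂ) a * (χ : G → ℂ) b * conj ((χ : G → ℂ) c) / (χ : G → ℂ) 1 = (S : ℂ)) :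
    12 * S = (Nat.card ↥(Subgroup.centralizer ({c} : Set G)) : ℤ) *
      (Nat.card {x : G // IsConj c (a * (x * b * x⁻¹))} : ℤ) := by
  rw [ClassAlgebraVal.sum_irr_triple, hn] at h
  push_cast at h
  have : ((12 * S : ℤ) : ℂ) = (((Nat.card ↥(Subgroup.centralizer ({c} : Set G)) : ℤ) *
      (Nat.card {x : G // IsConj c (a * (x * b * x⁻¹))} : ℤ) : ℤ) : ℂ) := by
    push_cast
    linear_combination (-12 : ℂ) * h
  exact_mod_cast this

include hn in
theorem exists_index_seven : ∃ M : Subgroup G, M.index = 7 := by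
  obtain ⟨T⟩ := exists_table hn
  obtain ⟨t, ht⟩ := exists_prime_orderOf_dvd_card' (G := G) 2 (by rw [hn]; norm_num)
  obtain ⟨z, hz⟩ := exists_prime_orderOf_dvd_card' (G := G) 5 (by rw [hn]; norm_num)
  obtain ⟨y, hy⟩ := exists_prime_orderOf_dvd_card' (G := G) 7 (by rw [hn]; norm_num)
  have ht2 : t * t = 1 := by rw [← pow_two, ← ht]; exact pow_orderOf_eq_one t
  have ht1 : t ≠ 1 := fun e => by rw [e, orderOf_one] at ht; omega
  -- the column of `t`
  obtain ⟨u, hu, hu4⟩ := invol_value hn T.c6 ht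
  obtain ⟨A, hA, hA4⟩ := invol_value hn T.c15 ht
  obtain ⟨B, hB, -⟩ := invol_value hn T.d ht
  obtain ⟨P, hPv, hP4⟩ := invol_value hn T.f ht
  obtain ⟨Q, hQv, hQ4⟩ := invol_value hn T.f' ht
  obtain ⟨R, hRv, -⟩ := invol_value hn T.c21 ht
  obtain ⟨S, hSv, -⟩ := invol_value hn T.c35 ht
  obtain ⟨hB', hBe⟩ := T.regular t (by rw [ht]; norm_num)
  rw [hB] at hB'
  rw [hB, hu, hA] at hBe
  have eB : B = 1 - u + A := by exact_mod_cast hBe
  have h5 := relation_five hn T (g := t) (by rw [ht]; norm_num)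
  rw [hu, hPv, hQv, hRv] at h5
  have e5 : 1 + u - P - Q + R = 0 := by exact_mod_cast h5
  have hdg := relation_degree T ht1
  rw [hu, hA, hB, hB', hPv, hQv, hRv, hSv] at hdg
  have ed : 1 + 6 * u + 15 * A + 10 * (B + B) + 14 * (P + Q) + 21 * R + 35 * S = 0 := by
    exact_mod_cast hdg
  set C := Nat.card ↥(Subgroup.centralizer ({t} : Set G)) with hC
  have h4 := CharBasicOrth.sum_irr_mul_conj t t
  rw [if_pos (IsConj.refl t), T.expand, hu, hA, hB, hB', hPv, hQv, hRv, hSv] at h4
  simp only [map_intCast, oneChar, map_one, mul_one] at h4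
  have eC : 1 + u * u + A * A + 2 * (B * B) + P * P + Q * Q + R * R + S * S = (C : ℤ) := by
    have : ((1 + u * u + A * A + 2 * (B * B) + P * P + Q * Q + R * R + S * S : ℤ) : ℂ) = ((C : ℤ) : ℂ) := by
      push_cast
      linear_combination h4
    exact_mod_cast this
  obtain ⟨y6, y15, yd, yf, yf', y21, y35⟩ := T.seven y hy
  have h7 : (210 : ℂ) * ∑ χ : IrrCharacter G,
      (χ : G → ℂ) t * (χ : G → ℂ) t * conj ((χ : G → ℂ) y) / (χ : G → ℂ) 1 =
      ((210 - 35 * (u * u) + 14 * (A * A) - 21 * (B * B) : ℤ) : ℂ) := by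
    rw [T.expand]
    simp only [deg_apply, deg_one, T.deg6, T.deg15, T.deg10.1, T.deg10.2, T.deg14.1, T.deg14.2,
      T.deg21, T.deg35]
    simp only [hu, hA, hB, hB', hPv, hQv, hRv, hSv, y6, y15, yf, yf', y21, y35, oneChar, map_one,
      map_neg, map_zero]
    push_cast
    linear_combination (21 : ℂ) * ((B : ℂ) * B) * yd
  have e7 := count_eq hn h7
  rw [no_product_seven hn ht hy] at e7
  obtain ⟨z6, z15, zd, zd', zf, zf', z21, z35⟩ := column_five hn T hz
  have hT : (210 : ℂ) * ∑ χ : IrrCharacter G,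
      (χ : G → ℂ) t * (χ : G → ℂ) t * conj ((χ : G → ℂ) z) / (χ : G → ℂ) 1 =
      ((210 + 35 * (u * u) - 15 * (P * P + Q * Q) + 10 * (R * R) : ℤ) : ℂ) := by
    rw [T.expand]
    simp only [deg_apply, deg_one, T.deg6, T.deg15, T.deg10.1, T.deg10.2, T.deg14.1, T.deg14.2,
      T.deg21, T.deg35]
    simp only [hu, hA, hB, hB', hPv, hQv, hRv, hSv, z6, z15, zd, zd', zf, zf', z21, z35, oneChar,
      map_one, map_neg, map_zero]
    push_cast
    ring
  have eT := count_eq hn hT
  rw [card_centralizer_five hn hz] at eT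
  have hsq := sq_dvd_count (t := t) (z := z) (m := 5) fun w hw => card_centralizer_five hn (by
    obtain ⟨c, hc⟩ := isConj_iff.1 hw
    rw [← hz, ← hc, ← MulAut.conj_apply, MulEquiv.orderOf_eq])
  rw [← hC] at hsq
  have hCd : (C : ℤ) ∣ 2520 := by
    have := Subgroup.card_subgroup_dvd_card (Subgroup.centralizer ({t} : Set G))
    rw [hn] at this
    exact_mod_cast this
  have hC8 : (8 : ℤ) ∣ C := by exact_mod_cast eight_dvd hn ht
  have bu := abs_le_deg T.c6 t hu
  have bA := abs_le_deg T.c15 t hA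
  have bP := abs_le_deg T.f t hPv
  have bQ := abs_le_deg T.f' t hQv
  rw [T.deg6] at hu4 bu
  rw [T.deg15] at hA4 bA
  rw [T.deg14.1] at hP4 bP
  rw [T.deg14.2] at hQ4 bQ
  rcases solve_t u (by simp only [List.mem_cons, List.not_mem_nil, or_false]; omega) A
      (by simp only [List.mem_cons, List.not_mem_nil, or_false]; omega) P
      (by simp only [List.mem_cons, List.not_mem_nil, or_false]; omega) Q
      (by simp only [List.mem_cons, List.not_mem_nil, or_false]; omega) B eB R (by omega) S (by omega)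
      C eC.symm _ rfl (by simp at e7; omega) (Int.emod_eq_zero_of_dvd hCd) (Int.emod_eq_zero_of_dvd hC8)
      (by
        have h0 : (0 : ℤ) ≤ ((5 : ℕ) : ℤ) * (Nat.card {x : G // IsConj z (t * (x * t * x⁻¹))} : ℤ) := by
          positivity
        omega)
      (Int.emod_eq_zero_of_dvd (by rw [eT, ← pow_two]; exact_mod_cast hsq)) with h360 | hsol
  · refine ⟨Subgroup.centralizer ({t} : Set G), ?_⟩
    have := (Subgroup.centralizer ({t} : Set G)).card_mul_index
    rw [hn, ← hC] at this
    have hC360 : C = 360 := by omega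
    rw [hC360] at this
    omega
  obtain ⟨hA1, hsol⟩ := hsol
  subst hA1
  -- normalise the pair of degree 14
  obtain ⟨T, hu, hA, hPQ⟩ : ∃ T' : A7Table29.Table G, (T'.c6 : G → ℂ) t = (u : ℂ) ∧
      (T'.c15 : G → ℂ) t = ((-1 : ℤ) : ℂ) ∧
      ((u = 2 ∧ (T'.f : G → ℂ) t = 2 ∧ (T'.f' : G → ℂ) t = 2) ∨
       (u = -2 ∧ (T'.f : G → ℂ) t = -2 ∧ (T'.f' : G → ℂ) t = 2)) := by
    rcases hsol with ⟨e, e1, e2⟩ | ⟨e, e1, e2⟩ | ⟨e, e1, e2⟩
    · exact ⟨T, hu, hA, Or.inl ⟨e, by rw [hPv, e1]; norm_num, by rw [hQv, e2]; norm_num⟩⟩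
    · exact ⟨T, hu, hA, Or.inr ⟨e, by rw [hPv, e1]; norm_num, by rw [hQv, e2]; norm_num⟩⟩
    · exact ⟨T.swap, hu, hA, Or.inr ⟨e, by show (T.f' : G → ℂ) t = _; rw [hQv, e2]; norm_num,
        by show (T.f : G → ℂ) t = _; rw [hPv, e1]; norm_num⟩⟩
  clear hB hB' hBe eB hRv hSv hPv hQv e5 ed h4 eC e7 hT eT hsq hsol bP bQ hP4 hQ4 hdg h5 yd y6 y15 yf yf' y21 y35 h7 z6 z15 zd zd' zf zf' z21 z35
  obtain ⟨hB', hB⟩ := T.regular t (by rw [ht]; norm_num)
  rw [hB] at hB'
  rw [hu, hA] at hB hB'
  have hR := relation_five hn T (g := t) (by rw [ht]; norm_num)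
  have hS := relation_degree T ht1
  rw [hu, hA, hB, hB'] at hS
  rw [hu] at hR
  obtain ⟨z6, z15, zd, zd', zf, zf', z21, z35⟩ := column_five hn T hz
  -- the column of an element of order three
  obtain ⟨x, hx, hx9⟩ := exists_three hn
  have hx1 : x ≠ 1 := fun e => by rw [e, orderOf_one] at hx; omega
  obtain ⟨v, hv, hv3⟩ := three_value T.c6 (fun η h => (T.uniq η).1 (h.trans T.deg6)) hx
  obtain ⟨a, ha, ha3⟩ := three_value T.c15 (fun η h => (T.uniq η).2.1 (h.trans T.deg15)) hx
  obtain ⟨r, hr, -⟩ := three_value T.c21 (fun η h => (T.uniq η).2.2 (h.trans T.deg21)) hx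
  have bv := abs_le_deg T.c6 x hv
  have ba := abs_le_deg T.c15 x ha
  have br := abs_le_deg T.c21 x hr
  rw [T.deg6] at hv3 bv
  rw [T.deg15] at ha3 ba
  rw [T.deg21] at br
  obtain ⟨hb', hb⟩ := T.regular x (by rw [hx]; norm_num)
  rw [hb] at hb'
  rw [hv, ha] at hb hb'
  have hpq := relation_five hn T (g := x) (by rw [hx]; norm_num)
  rw [hv, hr] at hpq
  have hs := relation_degree T hx1
  rw [hv, ha, hb, hb', hr] at hs
  have htx : ¬ IsConj x t := fun h => by
    obtain ⟨c, hc⟩ := isConj_iff.1 h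
    rw [← hc, ← MulAut.conj_apply, MulEquiv.orderOf_eq, hx] at ht
    omega
  have horth := CharBasicOrth.sum_irr_mul_conj x t
  rw [if_neg htx, T.expand, hu, hA, hB, hB', hv, ha, hb, hb', hr] at horth
  simp only [oneChar, map_one, map_sub, map_add, map_intCast] at horth
  have hself := CharBasicOrth.sum_irr_mul_conj x x
  rw [if_pos (IsConj.refl x), T.expand, hv, ha, hb, hb', hr] at hself
  simp only [oneChar, map_one, map_sub, map_add, map_intCast] at hself
  set c := Nat.card ↥(Subgroup.centralizer ({x} : Set G)) with hc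
  have hccs : (c : ℤ) ∈ cs := by
    have hd : c ∣ 2520 := hn ▸ Subgroup.card_subgroup_dvd_card _
    exact mem_cs c (List.mem_range.2 (Nat.lt_succ_of_le (Nat.le_of_dvd (by norm_num) hd)))
      (Nat.mod_eq_zero_of_dvd hd) (Nat.mod_eq_zero_of_dvd hx9)
  -- the four counts
  set N5 := Nat.card {g : G // IsConj z (t * (g * x * g⁻¹))}
  set N3 := Nat.card {g : G // IsConj x (t * (g * x * g⁻¹))}
  set NX := Nat.card {g : G // IsConj z (x * (g * x⁻¹ * g⁻¹))}
  set NT := Nat.card {g : G // IsConj x (t * (g * t * g⁻¹))}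
  have hd5 : c ∣ N5 := ⟨_, card_conj_count x fun y => IsConj z (t * y)⟩
  have hd3 : c ∣ N3 := ⟨_, card_conj_count x fun y => IsConj x (t * y)⟩
  have hxinv : ∀ χ : IrrCharacter G, (χ : G → ℂ) x⁻¹ = conj ((χ : G → ℂ) x) := fun χ =>
    CharBasic.isCharacter_inv (ClassAlgebraVal.irr_isCharacter χ) x
  have mv : v ∈ [(-6 : ℤ), -3, 0, 3, 6] := by
    simp only [List.mem_cons, List.not_mem_nil, or_false]; omega
  have ma : a ∈ [(-15 : ℤ), -12, -9, -6, -3, 0, 3, 6, 9, 12, 15] := by
    simp only [List.mem_cons, List.not_mem_nil, or_false]; omega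
  obtain ⟨rfl, hPv, hQv⟩ | ⟨rfl, hPv, hQv⟩ := hPQ
  · -- all involution values as in the alternating group
    have hRv : (T.c21 : G → ℂ) t = 1 := by
      rw [hPv, hQv] at hR; push_cast at hR; linear_combination hR
    have hSv : (T.c35 : G → ℂ) t = -1 := by
      rw [hPv, hQv, hRv] at hS; push_cast at hS; linear_combination hS / 35
    rw [hPv, hQv, hRv, hSv] at horth
    simp only [map_ofNat, map_neg, map_one] at horth
    have hs' : (T.c35 : G → ℂ) x = -(a : ℂ) - 1 - r := by linear_combination (hs + 14 * hpq) / 35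
    rw [hs'] at horth hself
    have er : r = a - 2 * v := by
      have : ((r : ℤ) : ℂ) = ((a - 2 * v : ℤ) : ℂ) := by
        push_cast at horth ⊢
        linear_combination horth / 4 + hpq / 2
      exact_mod_cast this
    subst er
    set W : ℤ := (c : ℤ) - (1 + v * v + a * a + 2 * ((1 - v + a) * (1 - v + a)) +
      (a - 2 * v) * (a - 2 * v) + (2 * v - 2 * a - 1) * (2 * v - 2 * a - 1))
    have hW : (T.f : G → ℂ) x * conj ((T.f : G → ℂ) x) + (T.f' : G → ℂ) x * conj ((T.f' : G → ℂ) x) =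
        (W : ℂ) := by
      simp only [W]
      simp only [map_neg, map_sub, map_one, map_intCast] at hself
      push_cast at hself ⊢
      linear_combination hself
    have hW0 : 0 ≤ W := by
      have h := congrArg Complex.re hW
      rw [Complex.mul_conj, Complex.mul_conj, Complex.add_re, Complex.ofReal_re, Complex.ofReal_re,
        Complex.intCast_re] at h
      have h1 := Complex.normSq_nonneg ((T.f : G → ℂ) x)
      have h2 := Complex.normSq_nonneg ((T.f' : G → ℂ) x)
      have : (0 : ℝ) ≤ (W : ℝ) := by linarith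
      exact_mod_cast this
    have hcpq : conj ((T.f : G → ℂ) x) + conj ((T.f' : G → ℂ) x) = ((1 - v + a : ℤ) : ℂ) := by
      rw [← map_add, show (T.f : G → ℂ) x + (T.f' : G → ℂ) x = ((1 - v + a : ℤ) : ℂ) by
        push_cast at hpq ⊢; linear_combination -hpq, map_intCast]
    have hE5 := count_eq hn (a := t) (b := x) (c := z)
      (S := 210 + 70 * v - 30 * (1 - v + a) + 10 * (a - 2 * v)) (by
      rw [T.expand]
      simp only [deg_apply, deg_one, T.deg6, T.deg15, T.deg10.1, T.deg10.2, T.deg14.1, T.deg14.2,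
        T.deg21, T.deg35]
      simp only [hu, hA, hB, hB', hPv, hQv, hRv, hSv, hv, ha, hb, hb', hr, hs', z6, z15, zd, zd', zf,
        zf', z21, z35, oneChar, map_one, map_neg, map_zero]
      push_cast at hpq ⊢
      linear_combination (30 : ℂ) * hpq)
    have hE3 := count_eq hn (a := t) (b := x) (c := x)
      (S := 210 + 70 * (v * v) - 14 * (a * a) - 84 * ((1 - v + a) * (1 - v + a)) + 30 * W +
        10 * ((a - 2 * v) * (a - 2 * v)) - 6 * ((2 * v - 2 * a - 1) * (2 * v - 2 * a - 1))) (by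
      rw [T.expand]
      simp only [deg_apply, deg_one, T.deg6, T.deg15, T.deg10.1, T.deg10.2, T.deg14.1, T.deg14.2,
        T.deg21, T.deg35]
      simp only [hu, hA, hB, hB', hPv, hQv, hRv, hSv, hv, ha, hb, hb', hr, hs', oneChar, map_one,
        map_neg, map_sub, map_add, map_intCast]
      push_cast
      linear_combination (30 : ℂ) * hW)
    have hEX := count_eq hn (a := x) (b := x⁻¹) (c := z)
      (S := 210 + 35 * (v * v) - 15 * W + 10 * ((a - 2 * v) * (a - 2 * v))) (by
      rw [T.expand]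
      simp only [hxinv, deg_apply, deg_one, T.deg6, T.deg15, T.deg10.1, T.deg10.2, T.deg14.1,
        T.deg14.2, T.deg21, T.deg35]
      simp only [hv, ha, hb, hb', hr, hs', z6, z15, zd, zd', zf, zf', z21, z35, oneChar, map_one,
        map_neg, map_sub, map_add, map_zero, map_intCast]
      push_cast
      linear_combination (-15 : ℂ) * hW)
    have hET := count_eq hn (a := t) (b := t) (c := x)
      (S := 210 + 140 * v + 14 * a + 168 * (1 - v + a) + 60 * (1 - v + a) + 10 * (a - 2 * v) +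
        6 * (2 * v - 2 * a - 1)) (by
      rw [T.expand]
      simp only [deg_apply, deg_one, T.deg6, T.deg15, T.deg10.1, T.deg10.2, T.deg14.1, T.deg14.2,
        T.deg21, T.deg35]
      simp only [hu, hA, hB, hB', hPv, hQv, hRv, hSv, hv, ha, hb, hb', hr, hs', oneChar, map_one,
        map_neg, map_sub, map_add, map_intCast]
      push_cast at hcpq ⊢
      linear_combination (60 : ℂ) * hcpq)
    rw [card_centralizer_five hn hz] at hE5 hEX
    rw [← hc] at hE3 hET
    change _ = _ * (N5 : ℤ) at hE5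
    change _ = _ * (N3 : ℤ) at hE3
    change _ = _ * (NX : ℤ) at hEX
    change _ = _ * (NT : ℤ) at hET
    have nn : (0 : ℤ) ≤ (c : ℤ) * (N3 : ℤ) ∧ (0 : ℤ) ≤ (c : ℤ) * (NT : ℤ) := by
      constructor <;> positivity
    rcases solve_two v mv a ma c hccs _ rfl _ rfl _ rfl W rfl _ rfl _ rfl hW0 (by omega) (by omega)
      (by omega) (by omega)
      (Int.emod_eq_zero_of_dvd (by rw [hE5]; exact mul_dvd_mul_left _ (Int.natCast_dvd_natCast.2 hd5)))
      (Int.emod_eq_zero_of_dvd (by rw [hE3]; exact mul_dvd_mul_left _ (Int.natCast_dvd_natCast.2 hd3)))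
      with ⟨hv', hlt⟩ | ⟨rfl, hpos⟩
    · -- two icosahedral subgroups share a tetrahedral one
      have hlt' : N3 < N5 := by
        have hc0 : (0 : ℤ) < c := by exact_mod_cast (Nat.card_pos : 0 < c)
        have : (c : ℤ) * (5 * (N3 : ℤ)) < (c : ℤ) * (5 * (N5 : ℤ)) := by
          have h1 := mul_lt_mul_of_pos_left hlt (show (0 : ℤ) < 12 by norm_num)
          linear_combination h1 - 5 * hE3 + (c : ℤ) * hE5
        have := lt_of_mul_lt_mul_left this hc0.le
        omega
      obtain ⟨n, ρ, hi, hρ⟩ := T.c6.2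
      haveI := hi
      have hρ' : ∀ g, ρ.character g = (T.c6 : G → ℂ) g := fun g => by rw [hρ]
      refine A7Geom29.exists_index_seven hn ht hx hv' ρ ?_ ?_ ?_ ?_ ?_
      · rw [hρ', deg_apply, T.deg6]; norm_num
      · rw [hρ', hu]; norm_num
      · rw [hρ', hv]
      · exact fun g hg => by rw [hρ']; exact (column_five hn T hg).1
      · have hle3 : c * Nat.card {y : G // IsConj x y ∧ orderOf (t * y) = 3} ≤ N3 := by
          rw [show N3 = _ from card_conj_count x fun y => IsConj x (t * y), ← hc]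
          refine Nat.mul_le_mul_left _ (Nat.card_le_card_of_injective
            (fun y => ⟨y.1, y.2.1, y.2.1.trans (tetra ht2 ?_ ?_)⟩) fun y y' e =>
              Subtype.ext (congrArg Subtype.val e :))
          · obtain ⟨k, hk⟩ := isConj_iff.1 y.2.1
            rw [← hk, conj_pow, show x ^ 3 = 1 by rw [← hx]; exact pow_orderOf_eq_one x]
            group
          · exact orderOf_dvd_iff_pow_eq_one.1 y.2.2.dvd
        have hle5 : N5 ≤ c * Nat.card {y : G // IsConj x y ∧ orderOf (t * y) = 5} := by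
          rw [show N5 = _ from card_conj_count x fun y => IsConj z (t * y), ← hc]
          refine Nat.mul_le_mul_left _ (Nat.card_le_card_of_injective
            (fun y => ⟨y.1, y.2.1, ?_⟩) fun y y' e => Subtype.ext (congrArg Subtype.val e :))
          obtain ⟨k, hk⟩ := isConj_iff.1 y.2.2
          rw [← hk, ← MulAut.conj_apply, MulEquiv.orderOf_eq, hz]
        exact Nat.lt_of_mul_lt_mul_left (lt_of_le_of_lt hle3 (lt_of_lt_of_le hlt' hle5))
    · -- trace `-3` is impossible
      exfalso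
      have hN3 : 0 < N3 := by
        rcases Nat.eq_zero_or_pos N3 with h | h
        · exfalso; have : (c : ℤ) * (N3 : ℤ) = 0 := by rw [h]; simp
          linarith [hE3, this, hpos]
        · exact h
      obtain ⟨⟨g, hg⟩⟩ := (Nat.card_pos_iff.1 hN3).1
      set w := g * x * g⁻¹
      have hxw : IsConj x w := isConj_iff.2 ⟨g, rfl⟩
      refine false_of_minus_three T.c6 T.deg6 (t := t) (w := w) (by rw [hu]; norm_num) ?_ ?_
        (hxw.symm.trans hg) ht2
      · show orderOf (g * x * g⁻¹) = 3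
        rw [← MulAut.conj_apply, MulEquiv.orderOf_eq, hx]
      · rw [← ClassAlgebraVal.irr_conj T.c6 hxw, hv]; norm_num
  · -- the twisted column does not occur
    exfalso
    have hRv : (T.c21 : G → ℂ) t = 1 := by
      rw [hPv, hQv] at hR; push_cast at hR; linear_combination hR
    have hSv : (T.c35 : G → ℂ) t = -1 := by
      rw [hPv, hQv, hRv] at hS; push_cast at hS; linear_combination hS / 35
    rw [hPv, hQv, hRv, hSv] at horth
    simp only [map_ofNat, map_neg, map_one] at horth
    have hs' : (T.c35 : G → ℂ) x = -(a : ℂ) - 1 - r := by linear_combination (hs + 14 * hpq) / 35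
    rw [hs'] at horth hself
    have hq : (T.f' : G → ℂ) x = ((2 * v - a - 1 : ℤ) : ℂ) := by
      push_cast at horth ⊢
      linear_combination horth / 4 - hpq / 2
    have hp : (T.f : G → ℂ) x = ((1 + v + r - (2 * v - a - 1) : ℤ) : ℂ) := by
      push_cast at hq ⊢
      linear_combination -hpq - hq
    rw [hp, hq] at hself
    set p : ℤ := 1 + v + r - (2 * v - a - 1) with hpdef
    set q : ℤ := 2 * v - a - 1 with hqdef
    set s : ℤ := v - a - p - q with hsdef
    have hs'' : (T.c35 : G → ℂ) x = (s : ℂ) := by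
      rw [hs', hsdef, hpdef, hqdef]; push_cast; ring
    have ec : (c : ℤ) = 1 + v * v + a * a + 2 * ((1 - v + a) * (1 - v + a)) + p * p + q * q + r * r +
        s * s := by
      have : ((c : ℤ) : ℂ) = ((1 + v * v + a * a + 2 * ((1 - v + a) * (1 - v + a)) + p * p + q * q +
          r * r + s * s : ℤ) : ℂ) := by
        rw [show s = -a - 1 - r by omega]
        simp only [map_neg, map_sub, map_one, map_intCast] at hself
        push_cast at hself ⊢
        linear_combination -hself
      exact_mod_cast this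
    have hE5 := count_eq hn (a := t) (b := x) (c := z)
      (S := 210 - 70 * v + 30 * p - 30 * q + 10 * r) (by
      rw [T.expand]
      simp only [deg_apply, deg_one, T.deg6, T.deg15, T.deg10.1, T.deg10.2, T.deg14.1, T.deg14.2,
        T.deg21, T.deg35]
      simp only [hu, hA, hB, hB', hPv, hQv, hRv, hSv, hv, ha, hb, hb', hr, hp, hq, hs'', z6, z15, zd,
        zd', zf, zf', z21, z35, oneChar, map_one, map_neg, map_zero]
      push_cast
      ring)
    have hE3 := count_eq hn (a := t) (b := x) (c := x)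
      (S := 210 - 70 * (v * v) - 14 * (a * a) + 84 * ((1 - v + a) * (1 - v + a)) - 30 * (p * p) +
        30 * (q * q) + 10 * (r * r) - 6 * (s * s)) (by
      rw [T.expand]
      simp only [deg_apply, deg_one, T.deg6, T.deg15, T.deg10.1, T.deg10.2, T.deg14.1, T.deg14.2,
        T.deg21, T.deg35]
      simp only [hu, hA, hB, hB', hPv, hQv, hRv, hSv, hv, ha, hb, hb', hr, hp, hq, hs'', oneChar,
        map_one, map_neg, map_sub, map_add, map_intCast]
      push_cast
      ring)
    have hEX := count_eq hn (a := x) (b := x⁻¹) (c := z)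
      (S := 210 + 35 * (v * v) - 15 * (p * p + q * q) + 10 * (r * r)) (by
      rw [T.expand]
      simp only [hxinv, deg_apply, deg_one, T.deg6, T.deg15, T.deg10.1, T.deg10.2, T.deg14.1,
        T.deg14.2, T.deg21, T.deg35]
      simp only [hv, ha, hb, hb', hr, hp, hq, hs'', z6, z15, zd, zd', zf, zf', z21, z35, oneChar,
        map_one, map_neg, map_sub, map_add, map_zero, map_intCast]
      push_cast
      ring)
    have hET := count_eq hn (a := t) (b := t) (c := x)
      (S := 210 + 140 * v + 14 * a + 168 * (1 - v + a) + 60 * (p + q) + 10 * r + 6 * s) (by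
      rw [T.expand]
      simp only [deg_apply, deg_one, T.deg6, T.deg15, T.deg10.1, T.deg10.2, T.deg14.1, T.deg14.2,
        T.deg21, T.deg35]
      simp only [hu, hA, hB, hB', hPv, hQv, hRv, hSv, hv, ha, hb, hb', hr, hp, hq, hs'', oneChar,
        map_one, map_neg, map_sub, map_add, map_intCast]
      push_cast
      ring)
    rw [card_centralizer_five hn hz] at hE5 hEX
    rw [← hc] at hE3 hET
    change _ = _ * (N5 : ℤ) at hE5
    change _ = _ * (N3 : ℤ) at hE3
    change _ = _ * (NX : ℤ) at hEX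
    change _ = _ * (NT : ℤ) at hET
    have nn : (0 : ℤ) ≤ (c : ℤ) * (N3 : ℤ) ∧ (0 : ℤ) ≤ (c : ℤ) * (NT : ℤ) := by
      constructor <;> positivity
    refine solve_neg v mv a ma (r + 21).toNat (List.mem_range.2 (by omega)) r (by omega) _ rfl q rfl
      p rfl s rfl c ec hccs _ rfl _ rfl (by omega) (by omega) (by omega) (by omega)
      (Int.emod_eq_zero_of_dvd ?_) (Int.emod_eq_zero_of_dvd ?_)
    · rw [hE5]; exact mul_dvd_mul_left _ (Int.natCast_dvd_natCast.2 hd5)
    · rw [hE3]; exact mul_dvd_mul_left _ (Int.natCast_dvd_natCast.2 hd3)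

include hn in
theorem nonempty_mulEquiv : Nonempty (G ≃* alternatingGroup (Fin 7)) := by
  obtain ⟨M, hM⟩ := exists_index_seven hn
  have hM1 : M ≠ ⊤ := fun h => by rw [h, Subgroup.index_top] at hM; omega
  obtain ⟨f, hf⟩ := SimpleOrder.exists_injective_alternating (A7Local29.not_comm hn) M hM1
  rw [hM] at f
  haveI : Finite G := inferInstance
  obtain ⟨g, hg⟩ : ∃ g : G →* alternatingGroup (Fin 7), Function.Injective g := by
    have := SimpleOrder.exists_injective_alternating (A7Local29.not_comm hn) M hM1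
    rwa [hM] at this
  refine ⟨MulEquiv.ofBijective g ((Nat.bijective_iff_injective_and_card _).2 ⟨hg, ?_⟩)⟩
  rw [hn, nat_card_alternatingGroup, Nat.card_eq_fintype_card, Fintype.card_fin]
  norm_num [Nat.factorial]

end Cfsg.Agent.A7Main29
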