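import Cfsg.Agent.Lib.PSLCard

/-!
Elements of `SL(2, F)`: normal forms up to conjugation, centralisers, orders.
-/

set_option autoImplicit false

namespace Cfsg.Agent.PSL2Elements

open Matrix
open scoped MatrixGroups

variable {F : Type*} [Field F]

/-! ### Basic matrices -/

/-- The element of `SL(2,F)` with the given entries. -/
def mk2 (a b c d : F) (h : a * d - b * c = 1) : SL(2, F) :=
  ⟨!![a, b; c, d], by rw [Matrix.det_fin_two_of]; exact h⟩

@[simp] theorem mk2_coe (a b c d : F) (h : a * d - b * c = 1) :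
    (mk2 a b c d h).1 = !![a, b; c, d] := rfl

theorem ext2 {A B : SL(2, F)} (h00 : A.1 0 0 = B.1 0 0) (h01 : A.1 0 1 = B.1 0 1)
    (h10 : A.1 1 0 = B.1 1 0) (h11 : A.1 1 1 = B.1 1 1) : A = B := by
  refine Subtype.ext ?_
  ext i j
  fin_cases i <;> fin_cases j <;> assumption

theorem det_eq (A : SL(2, F)) : A.1 0 0 * A.1 1 1 - A.1 0 1 * A.1 1 0 = 1 := by
  rw [← Matrix.det_fin_two]; exact A.2

theorem coe_mul' (A B : SL(2, F)) : (A * B).1 = A.1 * B.1 := rfl

theorem coe_one' : (1 : SL(2, F)).1 = 1 := rfl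

theorem coe_neg' (A : SL(2, F)) : (-A).1 = -A.1 := rfl

theorem coe_pow' (A : SL(2, F)) (n : ℕ) : (A ^ n).1 = A.1 ^ n :=
  Matrix.SpecialLinearGroup.coe_pow A n

theorem mul_apply2 (A B : SL(2, F)) (i j : Fin 2) :
    (A * B).1 i j = A.1 i 0 * B.1 0 j + A.1 i 1 * B.1 1 j := by
  rw [coe_mul', Matrix.mul_apply, Fin.sum_univ_two]

/-- The trace of an element of `SL(2,F)`. -/
def tr (A : SL(2, F)) : F := A.1 0 0 + A.1 1 1

theorem tr_eq (A : SL(2, F)) : tr A = A.1.trace := (Matrix.trace_fin_two _).symm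

theorem tr_conj (g A : SL(2, F)) : tr (g * A * g⁻¹) = tr A := by
  rw [tr_eq, tr_eq, coe_mul', Matrix.trace_mul_comm, ← coe_mul',
    ← mul_assoc, inv_mul_cancel, one_mul]

theorem tr_eq_of_isConj {A B : SL(2, F)} (h : IsConj A B) : tr A = tr B := by
  obtain ⟨g, rfl⟩ := isConj_iff.1 h
  exact (tr_conj g A).symm

theorem tr_neg (A : SL(2, F)) : tr (-A) = -tr A := by
  simp [tr, add_comm]

theorem tr_one : tr (1 : SL(2, F)) = 2 := by
  simp [tr, one_add_one_eq_two]

theorem inv_apply (A : SL(2, F)) :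
    (A⁻¹).1 0 0 = A.1 1 1 ∧ (A⁻¹).1 0 1 = -A.1 0 1 ∧ (A⁻¹).1 1 0 = -A.1 1 0 ∧
      (A⁻¹).1 1 1 = A.1 0 0 := by
  simp [SpecialLinearGroup.coe_inv, Matrix.adjugate_fin_two]

theorem tr_inv (A : SL(2, F)) : tr A⁻¹ = tr A := by
  obtain ⟨h1, -, -, h4⟩ := inv_apply A
  rw [tr, tr, h1, h4, add_comm]

/-- Upper unitriangular matrix. -/
def u (x : F) : SL(2, F) := mk2 1 x 0 1 (by ring)

/-- Diagonal matrix `diag(a, a⁻¹)`. -/
def d (a : Fˣ) : SL(2, F) := mk2 a 0 0 (a⁻¹ : Fˣ) (by simp)

/-- The Weyl element. -/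
def w : SL(2, F) := mk2 0 (-1) 1 0 (by ring)

/-- Companion matrix of `X² - tX + 1`. -/
def comp (t : F) : SL(2, F) := mk2 0 (-1) 1 t (by ring)

@[simp] theorem tr_u (x : F) : tr (u x) = 2 := by simp [tr, u, one_add_one_eq_two]

@[simp] theorem tr_d (a : Fˣ) : tr (d a) = a + (a : F)⁻¹ := by simp [tr, d]

@[simp] theorem tr_comp (t : F) : tr (comp t) = t := by simp [tr, comp]

@[simp] theorem tr_w : tr (w : SL(2, F)) = 0 := by simp [tr, w]

theorem u_zero : u (0 : F) = 1 := by apply ext2 <;> simp [u]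

theorem u_mul (x y : F) : u x * u y = u (x + y) := by
  apply ext2 <;> simp [u, add_comm]

theorem u_injective : Function.Injective (u : F → SL(2, F)) := fun x y h => by
  simpa [u] using congrArg (fun A : SL(2, F) => A.1 0 1) h

/-- `x ↦ u x` as a homomorphism. -/
def uHom : Multiplicative F →* SL(2, F) where
  toFun x := u x.toAdd
  map_one' := u_zero
  map_mul' x y := (u_mul _ _).symm

theorem uHom_injective : Function.Injective (uHom : Multiplicative F →* SL(2, F)) :=
  fun _ _ h => Multiplicative.toAdd.injective (u_injective h)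

theorem d_mul (a b : Fˣ) : d a * d b = d (a * b) := by
  apply ext2 <;> simp [d, mul_comm]

theorem d_one : d (1 : Fˣ) = 1 := by apply ext2 <;> simp [d]

theorem d_injective : Function.Injective (d : Fˣ → SL(2, F)) := fun a b h => by
  have := congrArg (fun A : SL(2, F) => A.1 0 0) h
  exact Units.ext (by simpa [d] using this)

/-- `a ↦ diag(a, a⁻¹)` as a homomorphism. -/
def dHom : Fˣ →* SL(2, F) where
  toFun := d
  map_one' := d_one
  map_mul' a b := (d_mul a b).symm

theorem dHom_injective : Function.Injective (dHom : Fˣ →* SL(2, F)) := d_injective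

theorem w_sq : (w : SL(2, F)) * w = -1 := by
  apply ext2 <;> simp [w]

theorem d_conj_u (a : Fˣ) (x : F) : d a * u x * (d a)⁻¹ = u ((a : F) ^ 2 * x) := by
  rw [mul_inv_eq_iff_eq_mul]
  apply ext2 <;> simp [u, d]
  field_simp

theorem w_conj_d (a : Fˣ) : w * d a * w⁻¹ = d a⁻¹ := by
  rw [mul_inv_eq_iff_eq_mul]
  apply ext2 <;> simp [w, d]

/-! ### Centre -/

theorem mem_center_iff_entries (A : SL(2, F)) :
    A ∈ Subgroup.center SL(2, F) ↔ A.1 0 1 = 0 ∧ A.1 1 0 = 0 ∧ A.1 0 0 = A.1 1 1 := by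
  rw [Subgroup.mem_center_iff]
  constructor
  · intro h
    have h1 := h (u 1)
    have h2 := h w
    have a1 := congrArg (fun B : SL(2, F) => B.1 0 0) h1
    have a2 := congrArg (fun B : SL(2, F) => B.1 0 1) h1
    have a3 := congrArg (fun B : SL(2, F) => B.1 0 0) h2
    simp [u, w, mul_apply2] at a1 a2 a3
    exact ⟨by linear_combination -a3 - a1, a1, by linear_combination -a2⟩
  · rintro ⟨h1, h2, h3⟩ B
    apply ext2 <;> simp only [mul_apply2, h1, h2, h3] <;> ring

theorem mem_center_iff (A : SL(2, F)) : A ∈ Subgroup.center SL(2, F) ↔ A = 1 ∨ A = -1 := by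
  rw [mem_center_iff_entries]
  constructor
  · rintro ⟨h1, h2, h3⟩
    have hd := det_eq A
    rw [h1, h2, ← h3, zero_mul, sub_zero] at hd
    rcases mul_self_eq_one_iff.1 hd with h | h
    · exact Or.inl (by apply ext2 <;> simp [h1, h2, ← h3, h])
    · exact Or.inr (by apply ext2 <;> simp [h1, h2, ← h3, h])
  · rintro (rfl | rfl) <;> simp

theorem not_mem_center_iff (A : SL(2, F)) :
    A ∉ Subgroup.center SL(2, F) ↔ A ≠ 1 ∧ A ≠ -1 := by
  rw [mem_center_iff, not_or]

theorem tr_sq_eq_four_of_mem_center {A : SL(2, F)} (h : A ∈ Subgroup.center SL(2, F)) :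
    tr A ^ 2 = 4 := by
  rcases (mem_center_iff A).1 h with rfl | rfl <;> simp [tr] <;> ring

theorem tr_w_ne (h2 : (2 : F) ≠ 0) : tr (w : SL(2, F)) ^ 2 ≠ 4 := by
  rw [tr_w]
  intro h
  exact h2 (mul_self_eq_zero.1 (by linear_combination -h))

/-! ### Cayley-Hamilton -/

theorem sq_eq (A : SL(2, F)) : A.1 * A.1 = tr A • A.1 - 1 := by
  have h := det_eq A
  ext i j
  fin_cases i <;> fin_cases j <;> simp [Matrix.mul_apply, Fin.sum_univ_two, tr] <;>
    grind

/-- An element commuting with a noncentral `A` is a linear combination of `1` and `A`. -/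
theorem exists_eq_of_commute {A : SL(2, F)} (hA : A ∉ Subgroup.center SL(2, F))
    {B : Matrix (Fin 2) (Fin 2) F} (h : B * A.1 = A.1 * B) :
    ∃ x y : F, B = x • (1 : Matrix (Fin 2) (Fin 2) F) + y • A.1 := by
  rw [mem_center_iff_entries] at hA
  have h00 := congrFun (congrFun h 0) 0
  have h01 := congrFun (congrFun h 0) 1
  have h10 := congrFun (congrFun h 1) 0
  simp [Matrix.mul_apply, Fin.sum_univ_two] at h00 h01 h10
  obtain ⟨y, hy01, hy10, hyd⟩ : ∃ y, B 0 1 = y * A.1 0 1 ∧ B 1 0 = y * A.1 1 0 ∧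
      B 1 1 - B 0 0 = y * (A.1 1 1 - A.1 0 0) := by
    by_cases hb : A.1 0 1 = 0
    · by_cases hc : A.1 1 0 = 0
      · have hne : A.1 1 1 - A.1 0 0 ≠ 0 := fun he => hA ⟨hb, hc, (sub_eq_zero.1 he).symm⟩
        refine ⟨(B 1 1 - B 0 0) / (A.1 1 1 - A.1 0 0), ?_, ?_, by field_simp⟩
        · have : B 0 1 * (A.1 1 1 - A.1 0 0) = 0 := by rw [hb] at h01; linear_combination h01
          rcases mul_eq_zero.1 this with e | e
          · rw [e, hb, mul_zero]
          · exact absurd e hne
        · have : B 1 0 * (A.1 1 1 - A.1 0 0) = 0 := by rw [hc] at h10; linear_combination -h10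
          rcases mul_eq_zero.1 this with e | e
          · rw [e, hc, mul_zero]
          · exact absurd e hne
      · refine ⟨B 1 0 / A.1 1 0, ?_, by field_simp, ?_⟩
        · have : B 0 1 * A.1 1 0 = 0 := by rw [hb] at h00; linear_combination h00
          rcases mul_eq_zero.1 this with e | e
          · rw [e, hb, mul_zero]
          · exact absurd e hc
        · field_simp
          linear_combination h10
    · refine ⟨B 0 1 / A.1 0 1, by field_simp, ?_, ?_⟩
      · field_simp
        linear_combination -h00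
      · field_simp
        linear_combination -h01
  refine ⟨B 0 0 - y * A.1 0 0, y, ?_⟩
  ext i j
  fin_cases i <;> fin_cases j <;> simp
  · exact hy01
  · exact hy10
  · linear_combination hyd

/-! ### Conjugacy -/

/-- A `2 × 2` intertwiner of determinant one gives conjugacy. -/
theorem isConj_of_intertwine {A B : SL(2, F)} (g : Matrix (Fin 2) (Fin 2) F) (hg : g.det = 1)
    (h : g * A.1 = B.1 * g) : IsConj A B := by
  refine isConj_iff.2 ⟨(⟨g, hg⟩ : SL(2, F)), mul_inv_eq_iff_eq_mul.2 (Subtype.ext h)⟩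

/-- If the form `x, y ↦ det[v, A v]` (with `v = (x, y)`) takes the value one, then `A` is
conjugate to the companion matrix of its trace. -/
theorem isConj_comp_of_rep {A : SL(2, F)} (x y : F)
    (h : A.1 1 0 * x ^ 2 + (A.1 1 1 - A.1 0 0) * x * y - A.1 0 1 * y ^ 2 = 1) :
    IsConj A (comp (tr A)) := by
  refine (isConj_of_intertwine
    !![x, A.1 0 0 * x + A.1 0 1 * y; y, A.1 1 0 * x + A.1 1 1 * y] ?_ ?_).symm
  · rw [Matrix.det_fin_two_of]
    linear_combination h
  · have hd := det_eq A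
    ext i j
    fin_cases i <;> fin_cases j <;>
      simp [comp, tr, Matrix.mul_apply, Fin.sum_univ_two]
    · linear_combination x * hd
    · linear_combination y * hd

/-- A nondegenerate binary quadratic form over a finite field represents every element. -/
theorem exists_rep [Finite F] (a b c k : F) (hdisc : b ^ 2 - 4 * a * c ≠ 0) (hk : k ≠ 0) :
    ∃ x y : F, a * x ^ 2 + b * x * y + c * y ^ 2 = k := by
  classical
  by_cases ha : a = 0
  · subst ha
    have hb : b ≠ 0 := fun hb => hdisc (by simp [hb])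
    exact ⟨(k - c) / b, 1, by field_simp; ring⟩
  by_cases h2 : (2 : F) = 0
  · have : CharP F 2 := CharTwo.of_one_ne_zero_of_two_eq_zero one_ne_zero h2
    obtain ⟨x, hx⟩ := FiniteField.isSquare_of_char_two (ringChar.eq F 2 ▸ rfl) (k / a)
    exact ⟨x, 0, by rw [pow_two x, ← hx]; field_simp; ring⟩
  have := Fintype.ofFinite F
  have hcharne : ringChar F ≠ 2 := fun h => h2 (by
    have : CharP F 2 := ringChar.of_eq h
    exact CharP.cast_eq_zero F 2)
  set δ := b ^ 2 - 4 * a * c with hδ
  have hne : -δ / (4 * a) ≠ 0 := by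
    have h4 : (4 : F) ≠ 0 := by
      rw [show (4 : F) = 2 * 2 by norm_num]; exact mul_ne_zero h2 h2
    exact div_ne_zero (neg_ne_zero.2 hdisc) (mul_ne_zero h4 ha)
  obtain ⟨X, Y, hXY⟩ : ∃ X Y : F, a * X ^ 2 + (-δ / (4 * a)) * Y ^ 2 = k := by
    obtain ⟨X, Y, hXY⟩ := FiniteField.exists_root_sum_quadratic
      (f := Polynomial.C a * Polynomial.X ^ 2)
      (g := Polynomial.C (-δ / (4 * a)) * Polynomial.X ^ 2 - Polynomial.C k)
      (by rw [Polynomial.degree_C_mul_X_pow 2 ha]; rfl)
      (by rw [Polynomial.degree_sub_C (by rw [Polynomial.degree_C_mul_X_pow 2 hne]; decide),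
        Polynomial.degree_C_mul_X_pow 2 hne]; rfl)
      (FiniteField.odd_card_of_char_ne_two hcharne)
    refine ⟨X, Y, ?_⟩
    simp at hXY
    linear_combination hXY
  refine ⟨X - b / (2 * a) * Y, Y, ?_⟩
  rw [← hXY, hδ, show (4 : F) = 2 * 2 by norm_num]
  field_simp
  ring

/-- Elements with the same trace `≠ ±2` are conjugate in `SL(2,q)`. -/
theorem isConj_comp [Finite F] {A : SL(2, F)} (h : tr A ^ 2 ≠ 4) : IsConj A (comp (tr A)) := by
  have hdisc : (A.1 1 1 - A.1 0 0) ^ 2 - 4 * A.1 1 0 * (-A.1 0 1) ≠ 0 := by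
    intro h0
    apply h
    rw [tr]
    linear_combination h0 + 4 * det_eq A
  obtain ⟨x, y, hxy⟩ := exists_rep _ _ _ 1 hdisc one_ne_zero
  exact isConj_comp_of_rep x y (by linear_combination hxy)

theorem isConj_of_tr_eq [Finite F] {A B : SL(2, F)} (h : tr A = tr B) (hA : tr A ^ 2 ≠ 4) :
    IsConj A B :=
  (isConj_comp hA).trans (by rw [h]; exact (isConj_comp (h ▸ hA)).symm)

theorem isConj_inv [Finite F] {A : SL(2, F)} (h : tr A ^ 2 ≠ 4) : IsConj A A⁻¹ :=
  isConj_of_tr_eq (tr_inv A).symm h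

theorem isConj_d_of_root [Finite F] {A : SL(2, F)} (h : tr A ^ 2 ≠ 4) {a : Fˣ}
    (ha : tr A = a + (a : F)⁻¹) : IsConj A (d a) :=
  isConj_of_tr_eq (by rw [ha, tr_d]) h

theorem isConj_u_of_tr_two {A : SL(2, F)} (h : tr A = 2) : ∃ x : F, IsConj A (u x) := by
  have hd := det_eq A
  rw [tr] at h
  by_cases hc : A.1 1 0 = 0
  · rw [hc, mul_zero, sub_zero] at hd
    have h00 : A.1 0 0 = 1 := by
      have : (A.1 0 0 - 1) * (A.1 0 0 - 1) = 0 := by linear_combination -hd + A.1 0 0 * h
      exact sub_eq_zero.1 (mul_self_eq_zero.1 this)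
    have h11 : A.1 1 1 = 1 := by linear_combination h - h00
    refine ⟨A.1 0 1, ?_⟩
    have he : A = u (A.1 0 1) := by apply ext2 <;> simp [u, h00, h11, hc]
    rw [← he]
  · -- fixed vector `((1 - A₁₁)/c, 1)`
    let p := (1 - A.1 1 1) / A.1 1 0
    refine ⟨-A.1 1 0, (isConj_of_intertwine !![p, -1; 1, 0] (by simp [Matrix.det_fin_two_of]) ?_).symm⟩
    ext i j
    fin_cases i <;> fin_cases j <;> simp [u, p, Matrix.mul_apply, Fin.sum_univ_two]
    · field_simp
      grind
    · field_simp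
      grind
    · field_simp
      ring

theorem u_conj_square (a : Fˣ) (x : F) : IsConj (u x) (u ((a : F) ^ 2 * x)) :=
  isConj_iff.2 ⟨d a, d_conj_u a x⟩

/-- The three kinds of non-central elements. -/
theorem trichotomy [Finite F] (A : SL(2, F)) :
    (∃ x : F, IsConj A (u x) ∨ IsConj A (-u x)) ∨
    (∃ a : Fˣ, (a : F) ^ 2 ≠ 1 ∧ IsConj A (d a)) ∨
    (∀ r : F, r ^ 2 - tr A * r + 1 ≠ 0) := by
  by_cases h2 : tr A = 2
  · obtain ⟨x, hx⟩ := isConj_u_of_tr_two h2
    exact Or.inl ⟨x, Or.inl hx⟩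
  by_cases h2' : tr A = -2
  · obtain ⟨x, hx⟩ := isConj_u_of_tr_two (A := -A) (by rw [tr_neg, h2', neg_neg])
    obtain ⟨g, hg⟩ := isConj_iff.1 hx
    refine Or.inl ⟨x, Or.inr (isConj_iff.2 ⟨g, ?_⟩)⟩
    rw [← hg, mul_neg, neg_mul, neg_neg]
  right
  have h4 : tr A ^ 2 ≠ 4 := fun h => by
    have : (tr A - 2) * (tr A + 2) = 0 := by linear_combination h
    rcases mul_eq_zero.1 this with e | e
    · exact h2 (sub_eq_zero.1 e)
    · exact h2' (eq_neg_of_add_eq_zero_left e)
  by_cases hr : ∃ r : F, r ^ 2 - tr A * r + 1 = 0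
  · obtain ⟨r, hr⟩ := hr
    have r0 : r ≠ 0 := by
      rintro rfl; simp at hr
    have htr : tr A = r + r⁻¹ := by field_simp; linear_combination -hr
    refine Or.inl ⟨Units.mk0 r r0, fun h1 => h4 ?_, isConj_d_of_root h4 (by simpa using htr)⟩
    rw [htr]
    rw [Units.val_mk0] at h1
    have : r⁻¹ = r := inv_eq_of_mul_eq_one_right (by linear_combination h1)
    rw [this]
    linear_combination 4 * h1
  · push Not at hr
    exact Or.inr hr

/-! ### Centralisers -/

theorem centralizer_d {a : Fˣ} (ha : (a : F) ^ 2 ≠ 1) :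
    Subgroup.centralizer ({d a} : Set SL(2, F)) = (dHom : Fˣ →* SL(2, F)).range := by
  ext B
  rw [Subgroup.mem_centralizer_singleton_iff, MonoidHom.mem_range]
  constructor
  · intro h
    have hne : (a : F) - (a : F)⁻¹ ≠ 0 := fun e => ha (by
      have := sub_eq_zero.1 e
      field_simp at this
      exact this)
    have h01 := congrArg (fun C : SL(2, F) => C.1 0 1) h
    have h10 := congrArg (fun C : SL(2, F) => C.1 1 0) h
    simp [d, mul_apply2] at h01 h10
    have b : B.1 0 1 = 0 := by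
      have : B.1 0 1 * ((a : F) - (a : F)⁻¹) = 0 := by linear_combination -h01
      exact (mul_eq_zero.1 this).resolve_right hne
    have c : B.1 1 0 = 0 := by
      have : B.1 1 0 * ((a : F) - (a : F)⁻¹) = 0 := by linear_combination h10
      exact (mul_eq_zero.1 this).resolve_right hne
    have hd := det_eq B
    rw [b, zero_mul, sub_zero] at hd
    refine ⟨Units.mk0 (B.1 0 0) (left_ne_zero_of_mul_eq_one hd), ?_⟩
    have h11 : (B.1 0 0)⁻¹ = B.1 1 1 := inv_eq_of_mul_eq_one_right hd
    apply ext2 <;> simp [dHom, d, b, c, h11]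
  · rintro ⟨c, rfl⟩
    change d c * d a = d a * d c
    rw [d_mul, d_mul, mul_comm]

theorem mem_centralizer_u {x : F} (hx : x ≠ 0) (B : SL(2, F)) :
    B ∈ Subgroup.centralizer ({u x} : Set SL(2, F)) ↔ ∃ y : F, B = u y ∨ B = -u y := by
  rw [Subgroup.mem_centralizer_singleton_iff]
  constructor
  · intro h
    have h00 := congrArg (fun C : SL(2, F) => C.1 0 0) h
    have h01 := congrArg (fun C : SL(2, F) => C.1 0 1) h
    simp [u, mul_apply2] at h00 h01
    have c : B.1 1 0 = 0 := by
      tauto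
    have e : B.1 0 0 = B.1 1 1 := by
      have : x * (B.1 0 0 - B.1 1 1) = 0 := by linear_combination h01
      exact sub_eq_zero.1 ((mul_eq_zero.1 this).resolve_left hx)
    have hd := det_eq B
    rw [c, mul_zero, sub_zero, ← e] at hd
    rcases mul_self_eq_one_iff.1 hd with h | h
    · exact ⟨B.1 0 1, Or.inl (by apply ext2 <;> simp [u, c, ← e, h])⟩
    · exact ⟨-B.1 0 1, Or.inr (by apply ext2 <;> simp [u, c, ← e, h])⟩
  · rintro ⟨y, rfl | rfl⟩
    · rw [u_mul, u_mul, add_comm]
    · rw [neg_mul, mul_neg, u_mul, u_mul, add_comm]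

/-- Centraliser of an element without eigenvalue in `F`: cyclic of order `q + 1`. -/
theorem centralizer_nonsplit [Finite F] {A : SL(2, F)}
    (hA : ∀ r : F, r ^ 2 - tr A * r + 1 ≠ 0) :
    IsCyclic (Subgroup.centralizer ({A} : Set SL(2, F))) ∧
      Nat.card (Subgroup.centralizer ({A} : Set SL(2, F))) = Nat.card F + 1 := by
  classical
  have := Fintype.ofFinite F
  set t := tr A with ht
  let f : Polynomial F := Polynomial.X ^ 2 - Polynomial.C t * Polynomial.X + 1
  have hfdeg : f.natDegree = 2 := by simp only [f]; compute_degree!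
  have hfm : f.Monic := by simp only [f]; monicity!
  have hirr : Irreducible f := by
    refine Polynomial.irreducible_of_degree_le_three_of_not_isRoot (by simp [hfdeg]) fun r hr => ?_
    simp [f, Polynomial.IsRoot] at hr
    exact hA r hr
  have : Fact (Irreducible f) := ⟨hirr⟩
  let K := AdjoinRoot f
  have : Module.Finite F K := hfm.finite_adjoinRoot
  have : Finite K := Module.finite_of_finite F
  have := Fintype.ofFinite K
  have hKcard : Nat.card K = Nat.card F ^ 2 := by
    rw [Module.natCard_eq_pow_finrank (K := F) (V := K),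
      (AdjoinRoot.powerBasis hirr.ne_zero).finrank, AdjoinRoot.powerBasis_dim, hfdeg]
  have hev : Polynomial.aeval A.1 f = 0 := by
    simp [f, pow_two, sq_eq, ← ht, Algebra.algebraMap_eq_smul_one]
  let φ : K →ₐ[F] Matrix (Fin 2) (Fin 2) F :=
    Ideal.Quotient.liftₐ (Ideal.span {f}) (Polynomial.aeval A.1) (fun g hg => by
      obtain ⟨c, rfl⟩ := Ideal.mem_span_singleton'.1 hg
      rw [map_mul, hev, mul_zero])
  have hφr : φ (AdjoinRoot.root f) = A.1 := Polynomial.aeval_X A.1
  let ι : F × F → K := fun z => algebraMap F K z.1 + algebraMap F K z.2 * AdjoinRoot.root f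
  have hφι : ∀ z, φ (ι z) = z.1 • (1 : Matrix (Fin 2) (Fin 2) F) + z.2 • A.1 := fun z => by
    simp [ι, hφr, Algebra.algebraMap_eq_smul_one]
  have hAc : A ∉ Subgroup.center SL(2, F) := fun hc => by
    rw [mem_center_iff_entries] at hc
    refine hA (A.1 0 0) ?_
    have hd := det_eq A
    rw [hc.1, zero_mul, sub_zero, ← hc.2.2] at hd
    rw [ht, tr, ← hc.2.2]
    linear_combination -hd
  have hιinj : Function.Injective ι := fun z z' h => by
    have h' := congrArg φ h
    rw [hφι, hφι] at h'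
    rw [mem_center_iff_entries] at hAc
    have e01 := congrFun (congrFun h' 0) 1
    have e10 := congrFun (congrFun h' 1) 0
    have e00 := congrFun (congrFun h' 0) 0
    have e11 := congrFun (congrFun h' 1) 1
    simp at e01 e10 e00 e11
    have h2 : z.2 = z'.2 := by
      by_contra hne
      have hs : z.2 - z'.2 ≠ 0 := sub_ne_zero.2 hne
      refine hAc ⟨?_, ?_, ?_⟩
      · have : (z.2 - z'.2) * A.1 0 1 = 0 := by grind
        exact (mul_eq_zero.1 this).resolve_left hs
      · have : (z.2 - z'.2) * A.1 1 0 = 0 := by grind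
        exact (mul_eq_zero.1 this).resolve_left hs
      · have : (z.2 - z'.2) * (A.1 0 0 - A.1 1 1) = 0 := by linear_combination e00 - e11
        exact sub_eq_zero.1 ((mul_eq_zero.1 this).resolve_left hs)
    refine Prod.ext ?_ h2
    rw [h2] at e00
    exact add_right_cancel e00
  have hιbij : Function.Bijective ι := by
    rw [Fintype.bijective_iff_injective_and_card]
    refine ⟨hιinj, ?_⟩
    rw [← Nat.card_eq_fintype_card, ← Nat.card_eq_fintype_card, hKcard, Nat.card_prod, sq]
  have hφinj : Function.Injective φ := φ.toRingHom.injective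
  set q := Fintype.card F with hq
  -- the Frobenius sends the root to the other root
  have hroot : (AdjoinRoot.root f) ^ 2 - algebraMap F K t * AdjoinRoot.root f + 1 = 0 := by
    have := AdjoinRoot.eval₂_root f
    simpa [f, AdjoinRoot.algebraMap_eq, K] using this
  let σ : K →ₐ[F] K := FiniteField.frobeniusAlgHom F K
  have hσ : ∀ z, σ z = z ^ q := fun z => rfl
  have hfrob : σ (AdjoinRoot.root f) = algebraMap F K t - AdjoinRoot.root f := by
    set r := AdjoinRoot.root f
    have h1 : (σ r) ^ 2 - algebraMap F K t * σ r + 1 = 0 := by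
      have := congrArg σ hroot
      simpa using this
    have h2 : (σ r - r) * (σ r - (algebraMap F K t - r)) = 0 := by
      linear_combination h1 - hroot
    refine sub_eq_zero.1 ((mul_eq_zero.1 h2).resolve_left fun he => ?_)
    rw [sub_eq_zero] at he
    have h1 : σ = 1 := AlgHom.ext fun z => by
      obtain ⟨⟨x, y⟩, rfl⟩ := hιbij.2 z
      simp only [ι, map_add, map_mul, AlgHom.commutes, he, r, AlgHom.one_apply]
    have h2 : orderOf σ = 2 := by
      rw [show σ = FiniteField.frobeniusAlgHom F K from rfl, FiniteField.orderOf_frobeniusAlgHom,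
        (AdjoinRoot.powerBasis hirr.ne_zero).finrank, AdjoinRoot.powerBasis_dim, hfdeg]
    rw [h1, orderOf_one] at h2
    omega
  have hnorm : ∀ z : K, algebraMap F K (φ z).det = z ^ (q + 1) := by
    intro z
    obtain ⟨⟨x, y⟩, rfl⟩ := hιbij.2 z
    rw [pow_succ', ← hσ, hφι]
    have hdet : (x • (1 : Matrix (Fin 2) (Fin 2) F) + y • A.1).det =
        x ^ 2 + t * x * y + y ^ 2 := by
      rw [Matrix.det_fin_two, ht, tr]
      simp
      linear_combination y ^ 2 * det_eq A
    rw [hdet]
    simp only [ι, map_add, map_mul, map_pow, AlgHom.commutes, hfrob]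
    linear_combination (algebraMap F K y) ^ 2 * hroot
  let μ : Subgroup Kˣ := (powMonoidHom (q + 1) : Kˣ →* Kˣ).ker
  have hμ : ∀ z : μ, (φ ((z : Kˣ) : K)).det = 1 := fun z => by
    apply (algebraMap F K).injective
    rw [hnorm, map_one, ← Units.val_pow_eq_pow_val]
    exact congrArg Units.val z.2
  let ψ : μ →* SL(2, F) :=
    { toFun := fun z => ⟨φ ((z : Kˣ) : K), hμ z⟩
      map_one' := Subtype.ext (by simp)
      map_mul' := fun a b => Subtype.ext (map_mul φ _ _) }
  have hψinj : Function.Injective ψ := fun a b h =>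
    Subtype.ext (Units.ext (hφinj (congrArg Subtype.val h)))
  have hrange : ψ.range = Subgroup.centralizer ({A} : Set SL(2, F)) := by
    ext B
    rw [Subgroup.mem_centralizer_singleton_iff, MonoidHom.mem_range]
    constructor
    · rintro ⟨z, rfl⟩
      refine Subtype.ext ?_
      change φ _ * A.1 = A.1 * φ _
      rw [← hφr, ← map_mul, ← map_mul, mul_comm]
    · intro h
      obtain ⟨x, y, hxy⟩ := exists_eq_of_commute hAc (congrArg Subtype.val h)
      have hz : ι (x, y) ≠ 0 := fun he => by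
        have := congrArg φ he
        rw [hφι, map_zero, ← hxy] at this
        have hd := B.2
        rw [this, Matrix.det_zero] at hd
        exact zero_ne_one hd
      refine ⟨⟨Units.mk0 _ hz, ?_⟩, Subtype.ext ((hφι (x, y)).trans hxy.symm)⟩
      refine Units.ext ?_
      rw [powMonoidHom_apply, Units.val_pow_eq_pow_val, Units.val_mk0, ← hnorm, hφι, ← hxy, B.2,
        map_one, Units.val_one]
  rw [← hrange]
  refine ⟨isCyclic_of_surjective ψ.rangeRestrict ψ.rangeRestrict_surjective, ?_⟩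
  rw [← Nat.card_congr (MonoidHom.ofInjective hψinj).toEquiv,
    IsCyclic.card_powMonoidHom_ker, PSLCard.card_units_field, hKcard, Nat.card_eq_fintype_card, ← hq]
  refine Nat.gcd_eq_right ⟨q - 1, ?_⟩
  rw [← Nat.sq_sub_sq q 1, one_pow]

theorem card_centralizer_d [Finite F] {a : Fˣ} (ha : (a : F) ^ 2 ≠ 1) :
    IsCyclic (Subgroup.centralizer ({d a} : Set SL(2, F))) ∧
      Nat.card (Subgroup.centralizer ({d a} : Set SL(2, F))) = Nat.card F - 1 := by
  rw [centralizer_d ha, ← Nat.card_congr (MonoidHom.ofInjective dHom_injective).toEquiv,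
    PSLCard.card_units_field]
  exact ⟨isCyclic_of_surjective dHom.rangeRestrict dHom.rangeRestrict_surjective, rfl⟩

theorem centralizer_conj {G : Type*} [Group G] (g a : G) :
    Subgroup.centralizer ({g * a * g⁻¹} : Set G) =
      (Subgroup.centralizer ({a} : Set G)).map (MulAut.conj g).toMonoidHom := by
  ext x
  simp only [Subgroup.mem_map, Subgroup.mem_centralizer_singleton_iff, MulEquiv.coe_toMonoidHom,
    MulAut.conj_apply]
  constructor
  · intro h
    refine ⟨g⁻¹ * x * g, ?_, by group⟩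
    apply mul_left_cancel (a := g)
    apply mul_right_cancel (b := g⁻¹)
    calc g * (g⁻¹ * x * g * a) * g⁻¹ = x * (g * a * g⁻¹) := by group
      _ = g * a * g⁻¹ * x := h
      _ = g * (a * (g⁻¹ * x * g)) * g⁻¹ := by group
  · rintro ⟨y, hy, rfl⟩
    calc g * y * g⁻¹ * (g * a * g⁻¹) = g * (y * a) * g⁻¹ := by group
      _ = g * (a * y) * g⁻¹ := by rw [hy]
      _ = g * a * g⁻¹ * (g * y * g⁻¹) := by group

/-- Centraliser of an element of trace `≠ ±2`: cyclic of order `q - 1` or `q + 1`. -/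
theorem centralizer_semisimple [Finite F] {A : SL(2, F)} (h : tr A ^ 2 ≠ 4) :
    IsCyclic (Subgroup.centralizer ({A} : Set SL(2, F))) ∧
      ((∃ r : F, r ^ 2 - tr A * r + 1 = 0) ∧
          Nat.card (Subgroup.centralizer ({A} : Set SL(2, F))) = Nat.card F - 1 ∨
        (∀ r : F, r ^ 2 - tr A * r + 1 ≠ 0) ∧
          Nat.card (Subgroup.centralizer ({A} : Set SL(2, F))) = Nat.card F + 1) := by
  rcases trichotomy A with ⟨x, hx⟩ | ⟨a, ha, hc⟩ | hns
  · exfalso
    apply h
    rcases hx with hx | hx <;> rw [tr_eq_of_isConj hx]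
    · rw [tr_u]; norm_num
    · rw [tr_neg, tr_u]; norm_num
  · have htr := tr_eq_of_isConj hc
    obtain ⟨g, hg⟩ := isConj_iff.1 hc.symm
    obtain ⟨h1, h2⟩ := card_centralizer_d ha
    let e := (Subgroup.centralizer ({d a} : Set SL(2, F))).equivMapOfInjective
      (MulAut.conj g).toMonoidHom (MulAut.conj g).injective
    rw [← hg, centralizer_conj]
    refine ⟨e.isCyclic.1 h1, Or.inl ⟨⟨a, ?_⟩, by rw [← h2]; exact (Nat.card_congr e.toEquiv).symm⟩⟩
    rw [tr_conj, tr_d]
    field_simp
    ring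
  · exact ⟨(centralizer_nonsplit hns).1, Or.inr ⟨hns, (centralizer_nonsplit hns).2⟩⟩

/-- An element `A ∉ Z` has trace `±2` exactly when it is conjugate to `± u x`. -/
theorem pow_char {A : SL(2, F)} (p : ℕ) [Fact p.Prime] [CharP F p] (h : tr A = 2) : A ^ p = 1 := by
  refine Subtype.ext ?_
  have hnil : (A.1 - 1) ^ 2 = 0 := by
    simp only [sq, sub_mul, mul_sub, mul_one, one_mul, sq_eq, h]
    module
  have hp : (A.1 - 1) ^ p = 0 := pow_eq_zero_of_le (Fact.out : p.Prime).two_le hnil
  rw [coe_pow', coe_one',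
    show A.1 = (A.1 - 1) + 1 by abel, add_pow_char_of_commute p (Commute.one_right _), hp]
  simp

theorem pow_card_sub_one_d [Finite F] (a : Fˣ) : d a ^ (Nat.card F - 1) = 1 := by
  change dHom a ^ (Nat.card F - 1) = 1
  rw [← map_pow, ← PSLCard.card_units_field, pow_card_eq_one', map_one]

/-- Every element of `SL(2,q)` has order dividing `q - 1`, `q + 1` or `2p`; more precisely. -/
theorem pow_trichotomy [Finite F] (p : ℕ) [Fact p.Prime] [CharP F p] (A : SL(2, F)) :
    (tr A = 2 ∧ A ^ p = 1) ∨ (tr A = -2 ∧ (-A) ^ p = 1) ∨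
      A ^ (Nat.card F - 1) = 1 ∨ A ^ (Nat.card F + 1) = 1 := by
  rcases trichotomy A with ⟨x, hx | hx⟩ | ⟨a, -, hc⟩ | hns
  · have := (tr_eq_of_isConj hx).trans (tr_u x)
    exact Or.inl ⟨this, pow_char p this⟩
  · have h1 := (tr_eq_of_isConj hx).trans (tr_neg _)
    rw [tr_u] at h1
    exact Or.inr (Or.inl ⟨h1, pow_char p (by rw [tr_neg, h1, neg_neg])⟩)
  · obtain ⟨g, hg⟩ := isConj_iff.1 hc.symm
    refine Or.inr (Or.inr (Or.inl ?_))
    rw [← hg, conj_pow, pow_card_sub_one_d, mul_one, mul_inv_cancel]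
  · refine Or.inr (Or.inr (Or.inr ?_))
    obtain ⟨-, hcard⟩ := centralizer_nonsplit hns
    have hmem : A ∈ Subgroup.centralizer ({A} : Set SL(2, F)) :=
      Subgroup.mem_centralizer_singleton_iff.2 rfl
    have := orderOf_dvd_natCard (⟨A, hmem⟩ : Subgroup.centralizer ({A} : Set SL(2, F)))
    rw [hcard, Subgroup.orderOf_mk] at this
    exact orderOf_dvd_iff_pow_eq_one.1 this

/-- An element of order prime to the characteristic has order dividing `q - 1` or `q + 1`. -/
theorem pow_of_coprime [Finite F] (p : ℕ) [Fact p.Prime] [CharP F p] (A : SL(2, F))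
    (h : (orderOf A).Coprime p) :
    A ^ (Nat.card F - 1) = 1 ∨ A ^ (Nat.card F + 1) = 1 := by
  rcases pow_trichotomy p A with ⟨-, h1⟩ | ⟨-, h1⟩ | h1 | h1
  · left
    have hd := orderOf_dvd_of_pow_eq_one h1
    have : orderOf A = 1 := Nat.eq_one_of_dvd_coprimes h dvd_rfl hd
    rw [orderOf_eq_one_iff.1 this, one_pow]
  · have h2 : A ^ (2 * p) = 1 := by
      rw [mul_comm, pow_mul]
      rcases neg_one_pow_eq_or SL(2, F) p with e | e <;>
        rw [neg_pow, e] at h1
      · rw [one_mul] at h1; rw [h1, one_pow]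
      · rw [neg_one_mul, neg_eq_iff_eq_neg] at h1; rw [h1, neg_one_sq]
    have hdvd : orderOf A ∣ 2 := by
      have hd := orderOf_dvd_of_pow_eq_one h2
      exact h.dvd_of_dvd_mul_right hd
    have hA2 : A ^ 2 = 1 := orderOf_dvd_iff_pow_eq_one.1 hdvd
    right
    rcases Nat.even_or_odd (Nat.card F + 1) with ⟨k, hk⟩ | hodd
    · rw [hk, ← two_mul, pow_mul, hA2, one_pow]
    · have hp2 : p = 2 := by
        by_contra hne
        have hodd' : Odd (Nat.card F) := by
          have := Fintype.ofFinite F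
          rw [Nat.card_eq_fintype_card]
          exact Nat.odd_iff.2 (FiniteField.odd_card_of_char_ne_two (by rwa [ringChar.eq F p]))
        exact (Nat.not_even_iff_odd.2 hodd) hodd'.add_one
      subst hp2
      have : orderOf A = 1 := Nat.eq_one_of_dvd_coprimes h dvd_rfl hdvd
      rw [orderOf_eq_one_iff.1 this, one_pow]
  · exact Or.inl h1
  · exact Or.inr h1

/-! ### Involutions -/

theorem eq_one_or_neg_one_of_sq_eq_one (h2 : (2 : F) ≠ 0) {A : SL(2, F)} (h : A ^ 2 = 1) :
    A = 1 ∨ A = -1 := by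
  rw [← mem_center_iff, mem_center_iff_entries]
  have hinv : A⁻¹ = A := inv_eq_of_mul_eq_one_right (by rw [← sq, h])
  obtain ⟨e00, e01, e10, -⟩ := inv_apply A
  rw [hinv] at e00 e01 e10
  refine ⟨?_, ?_, e00⟩
  · have : (2 : F) * A.1 0 1 = 0 := by linear_combination e01
    exact (mul_eq_zero.1 this).resolve_left h2
  · have : (2 : F) * A.1 1 0 = 0 := by linear_combination e10
    exact (mul_eq_zero.1 this).resolve_left h2

theorem sq_eq_neg_one_iff (A : SL(2, F)) (h2 : (2 : F) ≠ 0) : A ^ 2 = -1 ↔ tr A = 0 := by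
  refine Iff.trans Subtype.ext_iff ?_
  rw [coe_pow', sq, sq_eq, coe_neg', coe_one']
  constructor
  · intro h
    have h' : tr A • A.1 = 0 := by
      have := congrArg (· + (1 : Matrix (Fin 2) (Fin 2) F)) h
      simpa using this
    by_contra hne
    have hz := (smul_eq_zero.1 h').resolve_left hne
    have := A.2
    rw [hz, Matrix.det_zero] at this
    exact zero_ne_one this
  · intro h
    rw [h, zero_smul, zero_sub]

theorem isConj_w_of_tr_zero [Finite F] (h2 : (2 : F) ≠ 0) {A : SL(2, F)} (h : tr A = 0) :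
    IsConj A w :=
  isConj_of_tr_eq (by rw [h, tr_w]) (by rw [h, ← tr_w (F := F)]; exact tr_w_ne h2)

/-! ### Existence of non-split elements -/

theorem exists_nonsplit_trace [Finite F] : ∃ t : F, ∀ r : F, r ^ 2 - t * r + 1 ≠ 0 := by
  classical
  by_contra hc
  push Not at hc
  let g : F → F := fun r => r + r⁻¹
  have hs : Function.Surjective g := fun t => by
    obtain ⟨r, hr⟩ := hc t
    have r0 : r ≠ 0 := by rintro rfl; simp at hr
    exact ⟨r, by simp [g]; field_simp; linear_combination hr⟩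
  have hi := Finite.injective_iff_surjective.2 hs
  obtain ⟨r, hr⟩ := hc (0 : F)
  have r0 : r ≠ 0 := by rintro rfl; simp at hr
  exact r0 (hi (a₁ := r) (a₂ := 0) (by simp [g]; field_simp; linear_combination hr))

theorem exists_nonsplit [Finite F] : ∃ A : SL(2, F), ∀ r : F, r ^ 2 - tr A * r + 1 ≠ 0 := by
  obtain ⟨t, ht⟩ := exists_nonsplit_trace (F := F)
  exact ⟨comp t, by simpa using ht⟩

end Cfsg.Agent.PSL2Elements
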