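import Cfsg.Agent.Lib.PSLSimple
import Cfsg.Agent.Lib.PSL2Elements
import Cfsg.Agent.Lib.SimpleOrder

/-!
Small exceptional isomorphisms of `PSL(2,q)`, and a quaternion homomorphism.
-/

set_option autoImplicit false

namespace Cfsg.Agent.PSL2Small

open Matrix
open scoped MatrixGroups LinearAlgebra.Projectivization

section Quat

variable {G : Type*} [Group G]

/-- The homomorphism from `QuaternionGroup n` given by `c` and `x`. -/
def quatHom (n : ℕ) [NeZero n] (c x : G) (hc : c ^ (2 * n) = 1) (hx : x * x = c ^ n)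
    (hxc : x * c * x⁻¹ = c⁻¹) : QuaternionGroup n →* G where
  toFun g := match g with
    | .a i => c ^ i.val
    | .xa i => x * c ^ i.val
  map_one' := by rw [QuaternionGroup.one_def]; simp
  map_mul' := by
    have hmod : ∀ m : ℕ, c ^ (m % (2 * n)) = c ^ m := fun m => by
      conv_rhs => rw [← Nat.div_add_mod m (2 * n), pow_add, pow_mul, hc, one_pow, one_mul]
    have hval : ∀ i j : ZMod (2 * n), c ^ (i + j).val = c ^ i.val * c ^ j.val := fun i j => by
      rw [← pow_add, ZMod.val_add, hmod]
    have hsub : ∀ i j : ZMod (2 * n), c ^ (j - i).val = (c ^ i.val)⁻¹ * c ^ j.val := fun i j => by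
      rw [eq_inv_mul_iff_mul_eq, ← hval, add_sub_cancel]
    have hn : c ^ (n : ZMod (2 * n)).val = c ^ n := by
      rw [ZMod.val_natCast, hmod]
    have hcomm : ∀ m : ℕ, c ^ m * x = x * (c ^ m)⁻¹ := fun m => by
      have h1 : x * c ^ m * x⁻¹ = (c ^ m)⁻¹ := by rw [← conj_pow, hxc, inv_pow]
      calc c ^ m * x = (x * c ^ m * x⁻¹)⁻¹ * x := by rw [h1, inv_inv]
        _ = x * (c ^ m)⁻¹ := by group
    rintro (i | i) (j | j) <;>
      simp only [QuaternionGroup.a_mul_a, QuaternionGroup.a_mul_xa, QuaternionGroup.xa_mul_a,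
        QuaternionGroup.xa_mul_xa]
    · exact hval i j
    · rw [hsub, ← mul_assoc, ← mul_assoc, hcomm]
    · rw [hval, mul_assoc]
    · rw [add_sub_assoc, hval, hsub, hn, ← hx]
      simp only [mul_assoc]
      rw [← mul_assoc (c ^ i.val) x, hcomm]
      simp only [mul_assoc]

end Quat

section Action

variable {F : Type*} [Field F] [Finite F]

theorem card_projLine : Nat.card (ℙ F (Fin 2 → F)) = Nat.card F + 1 :=
  Projectivization.card_of_finrank_two F (Fin 2 → F) (by simp)

/-- `PSL(2,q)` as a permutation group of degree `q + 1`. -/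
theorem exists_perm_embedding (m : ℕ) (hm : Nat.card F + 1 = m) :
    ∃ f : ProjectiveSpecialLinearGroup (Fin 2) F →* Equiv.Perm (Fin m), Function.Injective f := by
  have : Finite (ℙ F (Fin 2 → F)) :=
    Nat.finite_of_card_ne_zero (by rw [card_projLine]; omega)
  let e : ℙ F (Fin 2 → F) ≃ Fin m :=
    (Finite.equivFin _).trans (finCongr (card_projLine.trans hm))
  exact ⟨e.permCongrHom.toMonoidHom.comp Projectivization.PSLAction.toPermHom,
    e.permCongrHom.injective.comp ProjectiveSpecialLinearGroup.toPermHom_injective⟩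

theorem iso_alternating_of_card (m : ℕ) (hm : Nat.card F + 1 = m)
    (hc : 2 * Nat.card (ProjectiveSpecialLinearGroup (Fin 2) F) = m.factorial) :
    Nonempty (ProjectiveSpecialLinearGroup (Fin 2) F ≃* alternatingGroup (Fin m)) := by
  obtain ⟨f, hf⟩ := exists_perm_embedding m hm
  have e := MonoidHom.ofInjective hf
  have h2 : f.range.index = 2 := by
    have h1 := f.range.card_mul_index
    rw [← Nat.card_congr e.toEquiv, Nat.card_perm, Nat.card_fin, ← hc, mul_comm] at h1
    exact Nat.eq_of_mul_eq_mul_right Nat.card_pos h1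
  exact ⟨e.trans (MulEquiv.subgroupCongr (Equiv.Perm.eq_alternatingGroup_of_index_eq_two h2))⟩

end Action

/-- A simple group of order 60 is `A₅`. -/
theorem iso_A5_of_simple_card {G : Type*} [Group G] [IsSimpleGroup G] (h : Nat.card G = 60) :
    Nonempty (G ≃* alternatingGroup (Fin 5)) := by
  have : Finite G := Nat.finite_of_card_ne_zero (by omega)
  have : Fact (Nat.Prime 2) := ⟨Nat.prime_two⟩
  have hG : ¬ IsMulCommutative G := SimpleOrder.not_comm_of_not_prime (by rw [h]; norm_num)
  have hd : 2 ∣ Nat.card G := by omega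
  have hn : Nat.card G = 2 ^ 2 * 15 := by omega
  obtain ⟨P⟩ : Nonempty (Sylow 2 G) := inferInstance
  have hne := SimpleOrder.normalizer_ne_top hG hd P
  have h5 := SimpleOrder.five_le_index hG _ hne
  have hdvd : Nat.card (Sylow 2 G) ∣ 15 := SimpleOrder.card_sylow_dvd hn (by norm_num)
  rw [P.card_eq_index_normalizer] at hdvd
  have h15 : (Subgroup.normalizer ((P : Subgroup G) : Set G)).index ≠ 15 := fun h15 => by
    refine SimpleOrder.not_normalizer_le_centralizer hG hd P ?_
    have hP : Nat.card (P : Subgroup G) = 2 ^ 2 := SimpleOrder.sylow_card_of_eq hn (by norm_num) P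
    have heq : (P : Subgroup G) = Subgroup.normalizer ((P : Subgroup G) : Set G) := by
      refine Subgroup.eq_of_le_of_card_ge Subgroup.le_normalizer ?_
      have := (Subgroup.normalizer ((P : Subgroup G) : Set G)).card_mul_index
      rw [h15, h] at this
      omega
    have hab : IsMulCommutative (P : Subgroup G) := IsPGroup.isMulCommutative_of_card_eq_prime_sq hP
    rw [← heq]
    exact Subgroup.le_centralizer_iff_isMulCommutative.2 hab
  have h5' : (Subgroup.normalizer ((P : Subgroup G) : Set G)).index = 5 := by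
    have hm : (Subgroup.normalizer ((P : Subgroup G) : Set G)).index ∈ Nat.divisors 15 :=
      Nat.mem_divisors.2 ⟨hdvd, by norm_num⟩
    rw [show Nat.divisors 15 = {1, 3, 5, 15} from rfl] at hm
    simp only [Finset.mem_insert, Finset.mem_singleton] at hm
    omega
  have hf' : ∃ g : G →* alternatingGroup (Fin 5), Function.Injective g := by
    rw [← h5']
    exact SimpleOrder.exists_injective_alternating hG _ hne
  obtain ⟨g, hg⟩ := hf'
  refine ⟨MulEquiv.ofBijective g ((Nat.bijective_iff_injective_and_card g).2 ⟨hg, ?_⟩)⟩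
  rw [h, nat_card_alternatingGroup, Nat.card_fin]
  rfl

theorem psl2_two (F : Type*) [Field F] [Finite F] (hF : Nat.card F = 2) :
    Nonempty (ProjectiveSpecialLinearGroup (Fin 2) F ≃* Equiv.Perm (Fin 3)) := by
  obtain ⟨f, hf⟩ := exists_perm_embedding (F := F) 3 (by omega)
  refine ⟨MulEquiv.ofBijective f ((Nat.bijective_iff_injective_and_card f).2 ⟨hf, ?_⟩)⟩
  rw [PSLCard.card_PSL2, hF, Nat.card_perm, Nat.card_fin]
  rfl

theorem sl2_two (F : Type*) [Field F] [Finite F] (hF : Nat.card F = 2) :
    Nonempty (SL(2, F) ≃* Equiv.Perm (Fin 3)) := by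
  obtain ⟨e⟩ := psl2_two F hF
  have hbij : Function.Bijective (QuotientGroup.mk' (Subgroup.center SL(2, F))) := by
    rw [Nat.bijective_iff_surjective_and_card]
    refine ⟨QuotientGroup.mk'_surjective _, ?_⟩
    rw [PSLCard.card_SL2, hF]
    exact ((Nat.card_congr e.toEquiv).trans (by rw [Nat.card_perm, Nat.card_fin]; rfl)).symm
  exact ⟨(MulEquiv.ofBijective _ hbij).trans e⟩

theorem psl2_three (F : Type*) [Field F] [Finite F] (hF : Nat.card F = 3) :
    Nonempty (ProjectiveSpecialLinearGroup (Fin 2) F ≃* alternatingGroup (Fin 4)) :=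
  iso_alternating_of_card 4 (by omega) (by rw [PSLCard.card_PSL2, hF]; rfl)

theorem psl2_four (F : Type*) [Field F] [Finite F] (hF : Nat.card F = 4) :
    Nonempty (ProjectiveSpecialLinearGroup (Fin 2) F ≃* alternatingGroup (Fin 5)) :=
  iso_alternating_of_card 5 (by omega) (by rw [PSLCard.card_PSL2, hF]; rfl)

theorem psl2_five (F : Type*) [Field F] [Finite F] (hF : Nat.card F = 5) :
    Nonempty (ProjectiveSpecialLinearGroup (Fin 2) F ≃* alternatingGroup (Fin 5)) := by
  have := PSLSimple.isSimpleGroup_PSL_fin' (F := F) (le_refl 2) (fun _ => by omega)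
  exact iso_A5_of_simple_card (by rw [PSLCard.card_PSL2, hF]; rfl)

/-- Quaternion generators of the Sylow 2-subgroup of `SL(2,3)`. -/
def q8Hom : QuaternionGroup 2 →* SL(2, ZMod 3) :=
  quatHom 2 PSL2Elements.w (PSL2Elements.mk2 1 1 1 (-1) (by decide))
    (by decide) (by decide) (by decide)

theorem q8Hom_spec :
    Function.Injective q8Hom ∧ ∀ A : SL(2, ZMod 3),
      (A.1 0 0 + A.1 1 1 = 0 ∨ A = 1 ∨ A = -1) ↔ ∃ i, q8Hom i = A := by
  constructor
  · exact fun a b => by revert a b; decide +kernel
  · decide +kernel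

theorem sl2_three (F : Type*) [Field F] [Finite F] (hF : Nat.card F = 3) :
    (∃ Q : Subgroup SL(2, F), Q.Normal ∧ Q.index = 3 ∧ Nonempty (Q ≃* QuaternionGroup 2)) ∧
      Nat.card (Subgroup.center SL(2, F)) = 2 := by
  have : Fact (Nat.Prime 3) := ⟨Nat.prime_three⟩
  let e : SL(2, ZMod 3) ≃* SL(2, F) :=
    PSLCard.slEquivOfCard (K := ZMod 3) (L := F) (by rw [hF, Nat.card_eq_fintype_card]; simp)
  obtain ⟨hinj, hspec⟩ := q8Hom_spec
  have hn : q8Hom.range.Normal := ⟨fun A hA g => by
    rw [MonoidHom.mem_range, ← hspec] at hA ⊢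
    rcases hA with h | rfl | rfl
    · exact Or.inl ((PSL2Elements.tr_conj g A).trans h)
    · simp
    · simp⟩
  refine ⟨⟨q8Hom.range.map e.toMonoidHom, hn.map _ e.surjective, ?_,
    ⟨((q8Hom.range.equivMapOfInjective _ e.injective).symm.trans
      (MonoidHom.ofInjective hinj).symm)⟩⟩, ?_⟩
  · rw [Subgroup.index_map_of_bijective (f := e.toMonoidHom) e.bijective]
    have h1 := q8Hom.range.card_mul_index
    rw [← Nat.card_congr (MonoidHom.ofInjective hinj).toEquiv, Nat.card_eq_fintype_card,
      QuaternionGroup.card, PSLCard.card_SL2, Nat.card_eq_fintype_card, ZMod.card] at h1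
    omega
  · rw [PSLCard.card_center_SL, hF]
    rfl

end Cfsg.Agent.PSL2Small
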