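import Mathlib

/-!
Orders of `GL n F`, `SL n F`, `PGL n F`, `PSL n F` over finite fields, and transport along
ring isomorphisms.
-/

set_option autoImplicit false

namespace Cfsg.Agent.PSLCard

open Matrix
open scoped MatrixGroups

section General

variable {ι : Type*} [Fintype ι] [DecidableEq ι] {R : Type*} [CommRing R]

/-- The range of `SL → GL` is the kernel of the determinant. -/
theorem range_toGL_eq_ker_det :
    (SpecialLinearGroup.toGL : SpecialLinearGroup ι R →* GL ι R).range =
      (GeneralLinearGroup.det : GL ι R →* Rˣ).ker := by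
  ext g
  constructor
  · rintro ⟨A, rfl⟩
    exact Units.ext (by simp)
  · intro hg
    refine ⟨⟨g.1, ?_⟩, Units.ext rfl⟩
    simpa [MonoidHom.mem_ker, Units.ext_iff] using hg

/-- The determinant `GL → Rˣ` is surjective when the index type is nonempty. -/
theorem det_surjective [Nonempty ι] :
    Function.Surjective (GeneralLinearGroup.det : GL ι R →* Rˣ) := by
  intro u
  obtain ⟨i₀⟩ := ‹Nonempty ι›
  have hd : (Matrix.diagonal (Function.update (1 : ι → R) i₀ (u : R))).det = u := by
    rw [Matrix.det_diagonal, Finset.prod_eq_single i₀] <;> simp +contextual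
  refine ⟨GeneralLinearGroup.mk'' _ (by rw [hd]; exact u.isUnit), Units.ext ?_⟩
  simpa using hd

theorem card_ker_det_eq :
    Nat.card (GeneralLinearGroup.det : GL ι R →* Rˣ).ker =
      Nat.card (SpecialLinearGroup ι R) := by
  rw [← range_toGL_eq_ker_det]
  exact (Nat.card_congr (MonoidHom.ofInjective SpecialLinearGroup.toGL_injective).toEquiv).symm

/-- `|SL_n| * |Rˣ| = |GL_n|`. -/
theorem card_SL_mul_card_units [Nonempty ι] :
    Nat.card (SpecialLinearGroup ι R) * Nat.card Rˣ = Nat.card (GL ι R) := by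
  rw [← card_ker_det_eq, ← Subgroup.card_mul_index (GeneralLinearGroup.det : GL ι R →* Rˣ).ker,
    Subgroup.index_ker, MonoidHom.range_eq_top.2 det_surjective, Subgroup.card_top]

end General

section Field

variable {ι : Type*} [Fintype ι] [DecidableEq ι] {F : Type*} [Field F]

/-- The centre of `GL n F` is the image of the scalars `Fˣ`. -/
theorem card_center_GL [Nonempty ι] : Nat.card (Subgroup.center (GL ι F)) = Nat.card Fˣ := by
  rw [GeneralLinearGroup.center_eq_range_scalar]
  have hinj : Function.Injective (GeneralLinearGroup.scalar ι : Fˣ →* GL ι F) := by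
    intro a b h
    obtain ⟨i⟩ := ‹Nonempty ι›
    have h' := congrArg (fun g : GL ι F => (g : Matrix ι ι F) i i) h
    exact Units.ext (by simpa using h')
  exact (Nat.card_congr (MonoidHom.ofInjective hinj).toEquiv).symm

theorem card_units_field (F : Type*) [Field F] [Finite F] : Nat.card Fˣ = Nat.card F - 1 := by
  classical
  let := Fintype.ofFinite F
  rw [Nat.card_eq_fintype_card, Nat.card_eq_fintype_card, Fintype.card_units]

theorem one_lt_card (F : Type*) [Field F] [Finite F] : 1 < Nat.card F :=
  Finite.one_lt_card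

/-- `|PGL_n(q)| = |SL_n(q)|`. -/
theorem card_PGL [Finite F] [Nonempty ι] :
    Nat.card (ProjGenLinGroup ι F) = Nat.card (SpecialLinearGroup ι F) := by
  have h1 : Nat.card (ProjGenLinGroup ι F) * Nat.card (Subgroup.center (GL ι F)) =
      Nat.card (GL ι F) := (Subgroup.card_eq_card_quotient_mul_card_subgroup _).symm
  rw [card_center_GL, ← card_SL_mul_card_units] at h1
  exact Nat.eq_of_mul_eq_mul_right Nat.card_pos h1

/-- The centre of `SL n F` has order the number of `n`-th roots of unity. -/
theorem card_center_SL [Finite F] (n : ℕ) [NeZero n] :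
    Nat.card (Subgroup.center (SpecialLinearGroup (Fin n) F)) = Nat.gcd n (Nat.card F - 1) := by
  have : Nonempty (Fin n) := ⟨0⟩
  rw [Nat.card_congr (SpecialLinearGroup.center_equiv_rootsOfUnity (n := Fin n) (R := F)).toEquiv,
    Fintype.card_fin, max_eq_left (NeZero.one_le), ← card_units_field F, Nat.gcd_comm,
    ← IsCyclic.card_powMonoidHom_ker Fˣ n]
  refine Nat.card_congr (Equiv.subtypeEquivRight fun x => ?_)
  simp [mem_rootsOfUnity]

/-- `|GL_n(q)|`. -/
theorem card_GL [Finite F] (n : ℕ) :
    Nat.card (GL (Fin n) F) = ∏ i : Fin n, (Nat.card F ^ n - Nat.card F ^ (i : ℕ)) := by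
  let := Fintype.ofFinite F
  rw [card_GL_field, Nat.card_eq_fintype_card]

/-- `(q-1) |SL_n(q)| = |GL_n(q)|`. -/
theorem card_SL [Finite F] (n : ℕ) [NeZero n] :
    (Nat.card F - 1) * Nat.card (SpecialLinearGroup (Fin n) F) =
      ∏ i : Fin n, (Nat.card F ^ n - Nat.card F ^ (i : ℕ)) := by
  have : Nonempty (Fin n) := ⟨0⟩
  rw [← card_GL, ← card_units_field, mul_comm, card_SL_mul_card_units]

theorem card_PSL_mul [Finite F] (n : ℕ) [NeZero n] :
    Nat.gcd n (Nat.card F - 1) * Nat.card (ProjectiveSpecialLinearGroup (Fin n) F) =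
      Nat.card (SpecialLinearGroup (Fin n) F) := by
  rw [← card_center_SL, mul_comm]
  exact (Subgroup.card_eq_card_quotient_mul_card_subgroup _).symm

/-- `|GL_2(q)| = (q^2-1)(q^2-q)`. -/
theorem card_GL2 [Finite F] :
    Nat.card (GL (Fin 2) F) = (Nat.card F ^ 2 - 1) * (Nat.card F ^ 2 - Nat.card F) := by
  rw [card_GL, Fin.prod_univ_two]
  simp

/-- `|SL_2(q)| = q (q^2 - 1)`. -/
theorem card_SL2 [Finite F] :
    Nat.card (SpecialLinearGroup (Fin 2) F) = Nat.card F * (Nat.card F ^ 2 - 1) := by
  have h := card_SL (F := F) 2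
  rw [← card_GL, card_GL2] at h
  have hq := one_lt_card F
  refine Nat.eq_of_mul_eq_mul_left (show 0 < Nat.card F - 1 by omega) ?_
  rw [h]
  have : Nat.card F ^ 2 - Nat.card F = Nat.card F * (Nat.card F - 1) := by
    rw [Nat.mul_sub, sq, mul_one]
  rw [this]; ring

/-- `|PGL_2(q)| = q (q^2 - 1)`. -/
theorem card_PGL2 [Finite F] :
    Nat.card (ProjGenLinGroup (Fin 2) F) = Nat.card F * (Nat.card F ^ 2 - 1) := by
  rw [card_PGL, card_SL2]

/-- `gcd(2,q-1) |PSL_2(q)| = q (q^2-1)`. -/
theorem card_PSL2_mul [Finite F] :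
    Nat.gcd 2 (Nat.card F - 1) * Nat.card (ProjectiveSpecialLinearGroup (Fin 2) F) =
      Nat.card F * (Nat.card F ^ 2 - 1) := by
  rw [card_PSL_mul, card_SL2]

theorem card_PSL2 [Finite F] :
    Nat.card (ProjectiveSpecialLinearGroup (Fin 2) F) =
      Nat.card F * (Nat.card F ^ 2 - 1) / Nat.gcd 2 (Nat.card F - 1) := by
  rw [← card_PSL2_mul, Nat.mul_div_cancel_left]
  exact Nat.gcd_pos_of_pos_left _ two_pos

theorem card_PSL2_odd [Finite F] (hq : Odd (Nat.card F)) :
    Nat.card (ProjectiveSpecialLinearGroup (Fin 2) F) =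
      Nat.card F * (Nat.card F ^ 2 - 1) / 2 := by
  rw [card_PSL2]
  obtain ⟨k, hk⟩ := hq
  rw [Nat.gcd_eq_left]
  exact ⟨k, by omega⟩

theorem card_PSL2_even [Finite F] (hq : Even (Nat.card F)) :
    Nat.card (ProjectiveSpecialLinearGroup (Fin 2) F) =
      Nat.card F * (Nat.card F ^ 2 - 1) := by
  rw [card_PSL2]
  obtain ⟨k, hk⟩ := hq
  have h1 := one_lt_card F
  have : Nat.gcd 2 (Nat.card F - 1) = 1 := by
    rcases Nat.prime_two.eq_one_or_self_of_dvd _ (Nat.gcd_dvd_left 2 (Nat.card F - 1)) with h | h
    · exact h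
    · have := Nat.gcd_dvd_right 2 (Nat.card F - 1)
      rw [h] at this
      omega
  rw [this, Nat.div_one]

end Field

section Transport

variable {ι κ : Type*} [Fintype ι] [DecidableEq ι] [Fintype κ] [DecidableEq κ]
  {R S : Type*} [CommRing R] [CommRing S]

/-- `SL` transported along a ring isomorphism. -/
def slEquiv (e : R ≃+* S) : SpecialLinearGroup ι R ≃* SpecialLinearGroup ι S where
  toFun := SpecialLinearGroup.map (e : R →+* S)
  invFun := SpecialLinearGroup.map (e.symm : S →+* R)
  left_inv A := by ext i j; simp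
  right_inv A := by ext i j; simp
  map_mul' := map_mul _

@[simp] theorem slEquiv_apply (e : R ≃+* S) (A : SpecialLinearGroup ι R) (i j : ι) :
    slEquiv e A i j = e (A i j) := rfl

/-- `PSL` transported along a ring isomorphism. -/
def pslEquiv (e : R ≃+* S) :
    ProjectiveSpecialLinearGroup ι R ≃* ProjectiveSpecialLinearGroup ι S :=
  QuotientGroup.congr _ _ (slEquiv e) (by
    ext x
    simp only [Subgroup.mem_map, MonoidHom.coe_coe]
    constructor
    · rintro ⟨y, hy, rfl⟩
      exact (MulEquivClass.apply_mem_center_iff (slEquiv e)).2 hy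
    · intro hx
      exact ⟨(slEquiv e).symm x, (MulEquivClass.apply_mem_center_iff (slEquiv e).symm).2 hx,
        by simp⟩)

/-- `GL` transported along a ring isomorphism. -/
def glEquiv (e : R ≃+* S) : GL ι R ≃* GL ι S :=
  Units.mapEquiv e.mapMatrix.toMulEquiv

/-- `PGL` transported along a ring isomorphism. -/
def pglEquiv (e : R ≃+* S) : ProjGenLinGroup ι R ≃* ProjGenLinGroup ι S :=
  QuotientGroup.congr _ _ (glEquiv e) (by
    ext x
    simp only [Subgroup.mem_map, MonoidHom.coe_coe]
    constructor
    · rintro ⟨y, hy, rfl⟩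
      exact (MulEquivClass.apply_mem_center_iff (glEquiv e)).2 hy
    · intro hx
      exact ⟨(glEquiv e).symm x, (MulEquivClass.apply_mem_center_iff (glEquiv e).symm).2 hx,
        by simp⟩)

/-- `SL` transported along a bijection of index types. -/
def slReindex (e : ι ≃ κ) : SpecialLinearGroup ι R ≃* SpecialLinearGroup κ R where
  toFun A := ⟨Matrix.reindex e e A.1, by rw [Matrix.det_reindex_self]; exact A.2⟩
  invFun A := ⟨Matrix.reindex e.symm e.symm A.1, by rw [Matrix.det_reindex_self]; exact A.2⟩
  left_inv A := Subtype.ext (by simp)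
  right_inv A := Subtype.ext (by simp)
  map_mul' A B := Subtype.ext (Matrix.submatrix_mul_equiv A.1 B.1 e.symm e.symm e.symm).symm

/-- Two finite fields of the same order give isomorphic `SL`. -/
noncomputable def slEquivOfCard {K L : Type*} [Field K] [Field L] [Finite K] [Finite L]
    (h : Nat.card K = Nat.card L) : SpecialLinearGroup ι K ≃* SpecialLinearGroup ι L :=
  letI := Fintype.ofFinite K
  letI := Fintype.ofFinite L
  slEquiv (FiniteField.ringEquivOfCardEq (by
    rwa [← Nat.card_eq_fintype_card, ← Nat.card_eq_fintype_card]))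

/-- Two finite fields of the same order give isomorphic `PSL`. -/
noncomputable def pslEquivOfCard {K L : Type*} [Field K] [Field L] [Finite K] [Finite L]
    (h : Nat.card K = Nat.card L) :
    ProjectiveSpecialLinearGroup ι K ≃* ProjectiveSpecialLinearGroup ι L :=
  letI := Fintype.ofFinite K
  letI := Fintype.ofFinite L
  pslEquiv (FiniteField.ringEquivOfCardEq (by
    rwa [← Nat.card_eq_fintype_card, ← Nat.card_eq_fintype_card]))

/-- Two finite fields of the same order give isomorphic `PGL`. -/
noncomputable def pglEquivOfCard {K L : Type*} [Field K] [Field L] [Finite K] [Finite L]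
    (h : Nat.card K = Nat.card L) :
    ProjGenLinGroup ι K ≃* ProjGenLinGroup ι L :=
  letI := Fintype.ofFinite K
  letI := Fintype.ofFinite L
  pglEquiv (FiniteField.ringEquivOfCardEq (by
    rwa [← Nat.card_eq_fintype_card, ← Nat.card_eq_fintype_card]))

end Transport

end Cfsg.Agent.PSLCard
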