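import Cfsg.Agent.Lib.PermBasic

/-!
Minimal normal subgroups: basic properties, decomposition as powers of a simple group,
and their role in primitive groups.
-/

set_option autoImplicit false

open MulAction

namespace Cfsg.Agent.PermMinimalNormal

universe u v

/-- `M` is a minimal normal subgroup. -/
def IsMinNormal {G : Type u} [Group G] (M : Subgroup G) : Prop :=
  M.Normal ∧ M ≠ ⊥ ∧ ∀ L : Subgroup G, L.Normal → L ≤ M → L = ⊥ ∨ L = M

variable {G : Type u} [Group G]

theorem exists_isMinNormal_le [Finite G] (N : Subgroup G) [hNn : N.Normal] (hN : N ≠ ⊥) :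
    ∃ M, M ≤ N ∧ IsMinNormal M := by
  induction hn : Nat.card N using Nat.strong_induction_on generalizing N hNn with
  | _ n ih =>
    by_cases h : ∀ L : Subgroup G, L.Normal → L ≤ N → L = ⊥ ∨ L = N
    · exact ⟨N, le_rfl, hNn, hN, h⟩
    · push Not at h
      obtain ⟨L, hLn, hLN, hL0, hLne⟩ := h
      have hlt : Nat.card L < n := by
        subst hn
        by_contra hh
        exact hLne (Subgroup.eq_of_le_of_card_ge hLN (not_lt.1 hh))
      obtain ⟨M, hM, hMmin⟩ := ih _ hlt L hL0 rfl
      exact ⟨M, hM.trans hLN, hMmin⟩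

theorem IsMinNormal.inf_eq_bot {M L : Subgroup G} (hM : IsMinNormal M) (hL : L.Normal)
    (h : ¬ M ≤ L) : M ⊓ L = ⊥ := by
  have := hM.1
  rcases hM.2.2 (M ⊓ L) (Subgroup.normal_inf_normal M L) inf_le_left with h' | h'
  · exact h'
  · exact absurd (inf_eq_left.1 h') h

theorem IsMinNormal.inf_eq_bot_of_ne {M L : Subgroup G} (hM : IsMinNormal M) (hL : IsMinNormal L)
    (h : M ≠ L) : M ⊓ L = ⊥ := by
  apply hM.inf_eq_bot hL.1
  intro hle
  rcases hL.2.2 M hM.1 hle with h' | h'
  · exact hM.2.1 h'
  · exact h h'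

theorem commute_of_inf_eq_bot {M L : Subgroup G} (hM : M.Normal) (hL : L.Normal)
    (h : M ⊓ L = ⊥) (x y : G) (hx : x ∈ M) (hy : y ∈ L) : x * y = y * x :=
  (Subgroup.commute_of_normal_of_disjoint M L hM hL (disjoint_iff.2 h) x y hx hy).eq

theorem le_centralizer_of_inf_eq_bot {M L : Subgroup G} (hM : M.Normal) (hL : L.Normal)
    (h : M ⊓ L = ⊥) : L ≤ Subgroup.centralizer (M : Set G) := fun y hy =>
  Subgroup.mem_centralizer_iff.2 fun x hx => commute_of_inf_eq_bot hM hL h x y hx hy

/-- An abelian minimal normal subgroup of a finite group is elementary abelian. -/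
theorem IsMinNormal.exists_prime_pow_eq_one [Finite G] {M : Subgroup G} (hM : IsMinNormal M)
    (hab : IsMulCommutative M) : ∃ p : ℕ, p.Prime ∧ ∀ m ∈ M, m ^ p = 1 := by
  have hcard : Nat.card M ≠ 1 := fun h => hM.2.1 (Subgroup.eq_bot_of_card_eq M h)
  obtain ⟨p, hp, hdvd⟩ := Nat.exists_prime_and_dvd hcard
  have : Fact p.Prime := ⟨hp⟩
  obtain ⟨m, hm⟩ := exists_prime_orderOf_dvd_card' p hdvd
  let E : Subgroup G :=
    { carrier := {x | x ∈ M ∧ x ^ p = 1}
      one_mem' := ⟨M.one_mem, one_pow p⟩
      mul_mem' := fun {x y} hx hy => ⟨M.mul_mem hx.1 hy.1, by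
        have hc : Commute x y := congrArg Subtype.val
          (hab.is_comm.comm (⟨x, hx.1⟩ : M) ⟨y, hy.1⟩)
        rw [hc.mul_pow, hx.2, hy.2, mul_one]⟩
      inv_mem' := fun {x} hx => ⟨M.inv_mem hx.1, by rw [inv_pow, hx.2, inv_one]⟩ }
  have hEn : E.Normal := ⟨fun x hx g => ⟨hM.1.conj_mem x hx.1 g, by
    rw [conj_pow, hx.2, mul_one, mul_inv_cancel]⟩⟩
  rcases hM.2.2 E hEn (fun x hx => hx.1) with h | h
  · exfalso
    have : (m : G) ∈ E := ⟨m.2, by
      rw [← hm, ← Subgroup.orderOf_coe]; exact pow_orderOf_eq_one _⟩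
    rw [h, Subgroup.mem_bot] at this
    rw [show m = 1 from Subtype.ext this, orderOf_one] at hm
    exact hp.one_lt.ne hm
  · exact ⟨p, hp, fun x hx => (h.symm ▸ hx : x ∈ E).2⟩

/-- Image of a minimal normal subgroup under an automorphism. -/
theorem IsMinNormal.map_mulEquiv {H : Type v} [Group H] {M : Subgroup G} (hM : IsMinNormal M)
    (e : G ≃* H) : IsMinNormal (M.map e.toMonoidHom) := by
  refine ⟨hM.1.map _ e.surjective, ?_, fun L hL hle => ?_⟩
  · rw [Ne, Subgroup.map_eq_bot_iff_of_injective _ e.injective]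
    exact hM.2.1
  · rcases hM.2.2 (L.comap e.toMonoidHom) (hL.comap _) (fun x hx => by
      obtain ⟨y, hy, hye⟩ := hle hx
      rwa [← e.injective hye]) with h | h
    · left
      rw [← Subgroup.map_comap_eq_self_of_surjective (f := e.toMonoidHom) e.surjective L, h, Subgroup.map_bot]
    · right
      rw [← Subgroup.map_comap_eq_self_of_surjective (f := e.toMonoidHom) e.surjective L, h]

/-- A finite group generated by a set of minimal normal subgroups is the direct product of some of
them, and these are simple. -/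
theorem exists_pi_mulEquiv [Finite G] (C : Set (Subgroup G)) (hC : ∀ S ∈ C, IsMinNormal S)
    (htop : sSup C = ⊤) :
    ∃ J : Finset (Subgroup G), (∀ S ∈ J, S ∈ C) ∧ (∀ S ∈ J, IsSimpleGroup S) ∧
      Nonempty (G ≃* ((i : ↥J) → ↥(i : Subgroup G))) := by
  classical
  have := Fintype.ofFinite (Subgroup G)
  let Indep : Finset (Subgroup G) → Prop := fun J =>
    (∀ S ∈ J, S ∈ C) ∧ ∀ S ∈ J, S ⊓ (J.erase S).sup id = ⊥
  obtain ⟨J, hJmem, hJmax⟩ := (Finset.univ.filter Indep).exists_max_image Finset.card
    ⟨∅, by simp [Indep]⟩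
  simp only [Finset.mem_filter, Finset.mem_univ, true_and] at hJmem hJmax
  obtain ⟨hJC, hJi⟩ := hJmem
  have supNormal : ∀ K : Finset (Subgroup G), (∀ S ∈ K, S ∈ C) → (K.sup id).Normal := by
    intro K
    induction K using Finset.induction_on with
    | empty => exact fun _ => (inferInstance : (⊥ : Subgroup G).Normal)
    | insert S K _ ih =>
      intro h
      rw [Finset.sup_insert, id]
      have := (hC S (h S (Finset.mem_insert_self _ _))).1
      have := ih fun T hT => h T (Finset.mem_insert_of_mem hT)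
      exact Subgroup.sup_normal _ _
  have hcover : ∀ S ∈ C, S ≤ J.sup id := by
    intro S hS
    by_contra hle
    have h0 : S ⊓ J.sup id = ⊥ := (hC S hS).inf_eq_bot (supNormal J hJC) hle
    have hSJ : S ∉ J := fun h => hle (Finset.le_sup (f := id) h)
    have hnew : Indep (insert S J) := by
      refine ⟨fun T hT => (Finset.mem_insert.1 hT).elim (fun h => h ▸ hS) (hJC T), fun T hT => ?_⟩
      rcases Finset.mem_insert.1 hT with rfl | hT
      · rw [Finset.erase_insert hSJ]; exact h0
      · have hne : T ≠ S := fun h => hSJ (h ▸ hT)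
        rw [Finset.erase_insert_of_ne hne.symm, Finset.sup_insert, Subgroup.eq_bot_iff_forall]
        rintro x ⟨hxT, hx⟩
        have := supNormal (J.erase T) fun U hU => hJC U (Finset.mem_of_mem_erase hU)
        obtain ⟨c, hc, y, hy, rfl⟩ := Subgroup.mem_sup_of_normal_right.1 hx
        have hyJ : y ∈ J.sup id :=
          (Finset.sup_mono (Finset.erase_subset _ _) : (J.erase T).sup id ≤ J.sup id) hy
        have hcD : c ∈ J.sup id := by
          have h1 : c * y ∈ J.sup id := Finset.le_sup (f := id) hT hxT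
          simpa using (J.sup id).mul_mem h1 ((J.sup id).inv_mem hyJ)
        have hc1 : c = 1 := by
          rw [← Subgroup.mem_bot, ← h0]; exact ⟨hc, hcD⟩
        subst hc1
        rw [one_mul] at hxT ⊢
        rw [← Subgroup.mem_bot, ← hJi T hT]
        exact ⟨hxT, hy⟩
    have := hJmax _ hnew
    rw [Finset.card_insert_of_notMem hSJ] at this
    omega
  have hsup : J.sup id = ⊤ := top_le_iff.1 (htop ▸ sSup_le hcover)
  let H : ↥J → Subgroup G := fun i => i
  have hcomm : Pairwise fun i j : ↥J =>
      ∀ x y : G, x ∈ H i → y ∈ H j → Commute x y := by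
    intro i j hij x y hx hy
    have hne : (i : Subgroup G) ≠ j := fun h => hij (Subtype.ext h)
    exact commute_of_inf_eq_bot (hC _ (hJC _ i.2)).1 (hC _ (hJC _ j.2)).1
      ((hC _ (hJC _ i.2)).inf_eq_bot_of_ne (hC _ (hJC _ j.2)) hne) x y hx hy
  have hindep : iSupIndep H := by
    intro i
    rw [disjoint_iff, eq_bot_iff, ← hJi i i.2]
    refine inf_le_inf_left _ (iSup₂_le fun j hji => ?_)
    exact Finset.le_sup (f := id) (Finset.mem_erase.2 ⟨fun h => hji (Subtype.ext h), j.2⟩)
  let φ := Subgroup.noncommPiCoprod (H := H) hcomm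
  have hinj : Function.Injective φ := Subgroup.injective_noncommPiCoprod_of_iSupIndep hindep
  have hsurj : Function.Surjective φ := by
    rw [← MonoidHom.range_eq_top, Subgroup.noncommPiCoprod_range, ← top_le_iff, ← hsup]
    exact Finset.sup_le fun S hS => le_iSup H ⟨S, hS⟩
  refine ⟨J, hJC, fun S hS => ?_, ⟨(MulEquiv.ofBijective φ ⟨hinj, hsurj⟩).symm⟩⟩
  have hSm := hC S (hJC S hS)
  have : Nontrivial S := (Subgroup.nontrivial_iff_ne_bot S).2 hSm.2.1
  refine ⟨fun K hK => ?_⟩
  have hKn : (K.map S.subtype).Normal := by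
    rw [← Subgroup.normalizer_eq_top_iff, ← top_le_iff, ← hsup]
    refine Finset.sup_le fun T hT => ?_
    intro t ht
    rw [Subgroup.mem_normalizer_iff]
    intro x
    have key : ∀ t ∈ T, ∀ x ∈ K.map S.subtype, t * x * t⁻¹ ∈ K.map S.subtype := by
      rintro t ht _ ⟨k, hk, rfl⟩
      by_cases hTS : T = S
      · subst hTS
        exact ⟨_, hK.conj_mem k hk ⟨t, ht⟩, rfl⟩
      · have := commute_of_inf_eq_bot (hC T (hJC T hT)).1 hSm.1
          ((hC T (hJC T hT)).inf_eq_bot_of_ne hSm hTS) t k ht k.2
        rw [Subgroup.coe_subtype, this, mul_assoc, mul_inv_cancel, mul_one]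
        exact ⟨k, hk, rfl⟩
    refine ⟨key t ht x, fun hx => ?_⟩
    have := key t⁻¹ (T.inv_mem ht) _ hx
    simpa [mul_assoc] using this
  rcases hSm.2.2 _ hKn (Subgroup.map_subtype_le K) with h | h
  · left
    rwa [Subgroup.map_eq_bot_iff_of_injective _ S.subtype_injective] at h
  · right
    apply Subgroup.map_injective S.subtype_injective
    rw [h, ← MonoidHom.range_eq_map, Subgroup.range_subtype]

/-- A finite group is isomorphic to a group living in `Type`. -/
theorem exists_small (H : Type u) [Group H] [Finite H] :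
    ∃ (T : Type) (_ : Group T), Nonempty (H ≃* T) := by
  exact ⟨Shrink.{0} H, inferInstance, ⟨(Shrink.mulEquiv.{0}).symm⟩⟩

/-- A minimal normal subgroup of a finite group is a power of a simple group. -/
theorem IsMinNormal.exists_simple_pow [Finite G] {N : Subgroup G} (hN : IsMinNormal N) :
    ∃ (T : Type) (_ : Group T) (m : ℕ), IsSimpleGroup T ∧ 0 < m ∧
      Nonempty (N ≃* (Fin m → T)) := by
  classical
  have := hN.1
  have : Nontrivial N := (Subgroup.nontrivial_iff_ne_bot N).2 hN.2.1
  obtain ⟨S, -, hS⟩ := exists_isMinNormal_le (G := N) ⊤ top_ne_bot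
  let C : Set (Subgroup N) :=
    Set.range fun g : G => S.map (MulAut.conjNormal (H := N) g).toMonoidHom
  have hC : ∀ X ∈ C, IsMinNormal X := by
    rintro _ ⟨g, rfl⟩
    exact hS.map_mulEquiv _
  have htop : sSup C = ⊤ := by
    let D := (sSup C).map N.subtype
    have hDn : D.Normal := by
      refine ⟨fun x hx g => ?_⟩
      obtain ⟨y, hy, rfl⟩ := hx
      refine ⟨MulAut.conjNormal (H := N) g y, ?_, by simp⟩
      have : (sSup C).map (MulAut.conjNormal (H := N) g).toMonoidHom ≤ sSup C := by
        rw [(Subgroup.gc_map_comap _).l_sSup]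
        refine iSup₂_le ?_
        rintro _ ⟨g', rfl⟩
        refine le_sSup ⟨g * g', ?_⟩
        simp only [map_mul, Subgroup.map_map]
        rfl
      exact this ⟨y, hy, rfl⟩
    rcases hN.2.2 D hDn (Subgroup.map_subtype_le _) with h | h
    · exfalso
      rw [Subgroup.map_eq_bot_iff_of_injective _ N.subtype_injective] at h
      have hle : S.map (MulAut.conjNormal (H := N) (1 : G)).toMonoidHom ≤ sSup C :=
        le_sSup ⟨1, rfl⟩
      rw [h, le_bot_iff, Subgroup.map_eq_bot_iff_of_injective _ (MulEquiv.injective _)] at hle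
      exact hS.2.1 hle
    · apply Subgroup.map_injective N.subtype_injective
      rw [← MonoidHom.range_eq_map, Subgroup.range_subtype]
      exact h
  obtain ⟨J, hJC, hJs, ⟨e⟩⟩ := exists_pi_mulEquiv C hC htop
  have hJne : J.Nonempty := by
    by_contra h
    rw [Finset.not_nonempty_iff_eq_empty] at h
    subst h
    have : IsEmpty (↥(∅ : Finset (Subgroup N))) := ⟨fun i => absurd i.2 (Finset.notMem_empty _)⟩
    have : Subsingleton N := e.toEquiv.subsingleton
    exact not_subsingleton N this
  obtain ⟨S₀, hS₀⟩ := hJne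
  obtain ⟨T, hT, ⟨eT⟩⟩ := exists_small ↥S₀
  have := hJs S₀ hS₀
  have : Nontrivial T := eT.toEquiv.nontrivial_congr.1 inferInstance
  refine ⟨T, hT, Fintype.card ↥J, IsSimpleGroup.isSimpleGroup_of_surjective
    (H := T) (f := eT.toMonoidHom) eT.surjective, Fintype.card_pos_iff.2 ⟨⟨S₀, hS₀⟩⟩, ⟨?_⟩⟩
  have hiso : ∀ i : ↥J, Nonempty ((i : Subgroup N) ≃* T) := by
    intro i
    obtain ⟨g, hg⟩ := hJC i i.2
    obtain ⟨g₀, hg₀⟩ := hJC S₀ hS₀
    exact ⟨(((MulEquiv.subgroupCongr hg).symm.trans
      (Subgroup.equivMapOfInjective _ _ (MulEquiv.injective _)).symm).trans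
      ((Subgroup.equivMapOfInjective S (MulAut.conjNormal (H := N) g₀).toMonoidHom
        (MulEquiv.injective _)).trans (MulEquiv.subgroupCongr hg₀))).trans eT⟩
  exact e.trans ((MulEquiv.piCongrRight fun i => (hiso i).some).trans
    (MulEquiv.arrowCongr (Fintype.equivFin _) (MulEquiv.refl T)))

/-! ### Minimal normal subgroups in transitive groups -/

variable {X : Type v} [MulAction G X] [FaithfulSMul G X]

omit [FaithfulSMul G X] in
/-- If a transitive subgroup and its semiregular transitive centralizing partner commute, the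
partner is regular. -/
theorem stabilizer_eq_bot_of_commuting [FaithfulSMul G X] (M L : Subgroup G) [IsPretransitive M X]
    (h : ∀ x ∈ M, ∀ y ∈ L, x * y = y * x) (a : X) : stabilizer L a = ⊥ := by
  rw [PermBasic.stabilizer_subgroup_eq_bot_iff']
  intro y hy ha
  exact PermBasic.eq_one_of_commute_transitive M (fun x hx => (h x hx y hy).symm) ha

/-- Two commuting transitive subgroups: the second is the full centralizer of the first. -/
theorem centralizer_eq_of_commuting [Nonempty X] (M L : Subgroup G) [IsPretransitive M X]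
    [IsPretransitive L X] (h : ∀ x ∈ M, ∀ y ∈ L, x * y = y * x) :
    Subgroup.centralizer (M : Set G) = L := by
  refine le_antisymm (fun c hc => ?_) fun y hy => ?_
  · let a : X := Classical.arbitrary X
    obtain ⟨y, hy⟩ := exists_smul_eq L a (c • a)
    have : (y : G)⁻¹ * c = 1 := by
      refine PermBasic.eq_one_of_commute_transitive (a := a) M (fun x hx => ?_) ?_
      · have e1 : Commute x c := (Subgroup.mem_centralizer_iff.1 hc) x hx
        have e2 : Commute x y := h x hx y y.2
        exact ((e2.inv_right).mul_right e1).symm.eq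
      · rw [mul_smul, ← hy, Subgroup.smul_def, inv_smul_smul]
    rw [inv_mul_eq_one] at this
    exact this ▸ y.2
  · exact Subgroup.mem_centralizer_iff.2 fun x hx => h x hx y hy

/-- Two commuting transitive subgroups are regular and isomorphic. -/
theorem nonempty_mulEquiv_of_commuting [Nonempty X] (M L : Subgroup G) [IsPretransitive M X]
    [IsPretransitive L X] (h : ∀ x ∈ M, ∀ y ∈ L, x * y = y * x) : Nonempty (M ≃* L) := by
  let a : X := Classical.arbitrary X
  have hL : stabilizer L a = ⊥ := stabilizer_eq_bot_of_commuting M L h a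
  have hM : stabilizer M a = ⊥ :=
    stabilizer_eq_bot_of_commuting L M (fun x hx y hy => (h y hy x hx).symm) a
  let e := (PermBasic.regularEquiv hM).trans (PermBasic.regularEquiv hL).symm
  have he : ∀ m : M, (e m : G) • a = (m : G) • a := fun m =>
    Equiv.apply_symm_apply (PermBasic.regularEquiv hL) (m • a)
  refine ⟨MulEquiv.mk (e.trans (Equiv.inv L)) fun m₁ m₂ => ?_⟩
  simp only [Equiv.toFun_as_coe, Equiv.trans_apply, Equiv.inv_apply]
  rw [← mul_inv_rev]
  congr 1
  apply (PermBasic.regularEquiv hL).injective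
  change (e (m₁ * m₂) : G) • a = ((e m₂ : G) * e m₁) • a
  rw [he, mul_smul, he, Subgroup.coe_mul, mul_smul, ← mul_smul (e m₂ : G),
    ← h m₁ m₁.2 _ (e m₂).2, mul_smul, he]

/-- In a faithful primitive group there are at most two minimal normal subgroups; if there are
two, they are regular, non-abelian and centralize each other. -/
theorem primitive_two_minNormal [IsPreprimitive G X] [Nonempty X] {M L : Subgroup G}
    (hM : IsMinNormal M) (hL : IsMinNormal L) (hne : M ≠ L) :
    IsPretransitive M X ∧ IsPretransitive L X ∧ Subgroup.centralizer (M : Set G) = L ∧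
      Subgroup.centralizer (L : Set G) = M ∧ ¬ IsMulCommutative M := by
  have := hM.1
  have := hL.1
  have hMt := PermBasic.isPretransitive_of_normal (X := X) M hM.2.1
  have hLt := PermBasic.isPretransitive_of_normal (X := X) L hL.2.1
  have hcomm : ∀ x ∈ M, ∀ y ∈ L, x * y = y * x := fun x hx y hy =>
    commute_of_inf_eq_bot hM.1 hL.1 (hM.inf_eq_bot_of_ne hL hne) x y hx hy
  refine ⟨hMt, hLt, centralizer_eq_of_commuting (X := X) M L hcomm,
    centralizer_eq_of_commuting (X := X) L M fun x hx y hy => (hcomm y hy x hx).symm, fun hab => ?_⟩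
  have h1 := PermBasic.centralizer_le_of_abelian_transitive (X := X) M hab
  rw [centralizer_eq_of_commuting (X := X) M L hcomm] at h1
  exact hL.2.1 (eq_bot_iff.2 (hM.inf_eq_bot_of_ne hL hne ▸ le_inf h1 le_rfl))

end Cfsg.Agent.PermMinimalNormal
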