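import Mathlib

/-!
General lemmas for working with small finite groups.
-/

namespace Cfsg.Agent.SmallGroupBasic

variable {G : Type*} [Group G]

set_option linter.unusedSectionVars false

theorem card_isConj_eq_index (x : G) :
    Nat.card {g : G // IsConj x g} = (Subgroup.centralizer ({x} : Set G)).index := by
  rw [Subgroup.index_eq_card]
  have key : ∀ a b : G, a⁻¹ * b ∈ Subgroup.centralizer ({x} : Set G) ↔
      a * x * a⁻¹ = b * x * b⁻¹ := by
    intro a b
    rw [Subgroup.mem_centralizer_singleton_iff]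
    constructor
    · intro h
      calc a * x * a⁻¹ = a * (x * (a⁻¹ * b)) * b⁻¹ := by group
        _ = a * ((a⁻¹ * b) * x) * b⁻¹ := by rw [h]
        _ = b * x * b⁻¹ := by group
    · intro h
      calc a⁻¹ * b * x = a⁻¹ * (b * x * b⁻¹) * b := by group
        _ = a⁻¹ * (a * x * a⁻¹) * b := by rw [h]
        _ = x * (a⁻¹ * b) := by group
  refine (Nat.card_congr (Equiv.ofBijective
    (fun q : G ⧸ Subgroup.centralizer ({x} : Set G) => (Quotient.liftOn' q
      (fun g => (⟨g * x * g⁻¹, isConj_iff.2 ⟨g, rfl⟩⟩ : {g : G // IsConj x g}))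
      (fun a b h => Subtype.ext ((key a b).1 (QuotientGroup.leftRel_apply.1 h)))))
    ⟨?_, ?_⟩)).symm
  · rintro ⟨a⟩ ⟨b⟩ h
    exact QuotientGroup.eq.2 ((key a b).2 (congrArg Subtype.val h))
  · rintro ⟨g, hg⟩
    obtain ⟨c, hc⟩ := isConj_iff.1 hg
    exact ⟨QuotientGroup.mk c, Subtype.ext hc⟩

theorem orderOf_conj (g x : G) : orderOf (g * x * g⁻¹) = orderOf x :=
  orderOf_injective (MulAut.conj g).toMonoidHom (MulAut.conj g).injective x

theorem IsConj.orderOf_eq' {x y : G} (h : IsConj x y) : orderOf y = orderOf x := by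
  obtain ⟨c, hc⟩ := isConj_iff.1 h
  rw [← hc, orderOf_conj]

theorem centralizer_zpowers (x : G) :
    Subgroup.centralizer ((Subgroup.zpowers x : Subgroup G) : Set G) =
      Subgroup.centralizer ({x} : Set G) := by
  rw [Subgroup.zpowers_eq_closure, Subgroup.centralizer_closure]

variable [Finite G] {p : ℕ} [hp : Fact p.Prime]

theorem eq_zpowers_of_mem {P : Subgroup G} (hP : Nat.card ↥P = p) {x : G} (hx : x ∈ P)
    (hx1 : x ≠ 1) : Subgroup.zpowers x = P := by
  refine Subgroup.eq_of_le_of_card_ge (Subgroup.zpowers_le.2 hx) ?_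
  rw [Nat.card_zpowers, hP]
  have h := (Subgroup.orderOf_coe (⟨x, hx⟩ : ↥P)) ▸ orderOf_dvd_natCard (⟨x, hx⟩ : ↥P)
  rw [hP] at h
  rcases hp.out.eq_one_or_self_of_dvd _ h with h' | h'
  · exact absurd (orderOf_eq_one_iff.1 h') hx1
  · exact h'.ge

theorem orderOf_of_mem {P : Subgroup G} (hP : Nat.card ↥P = p) {x : G} (hx : x ∈ P)
    (hx1 : x ≠ 1) : orderOf x = p := by
  rw [← Nat.card_zpowers, eq_zpowers_of_mem hP hx hx1, hP]

theorem exists_sylow_of_orderOf (hS : ∀ P : Sylow p G, Nat.card ↥(P : Subgroup G) = p) {x : G}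
    (hx : orderOf x = p) : ∃ P : Sylow p G, (P : Subgroup G) = Subgroup.zpowers x := by
  obtain ⟨P, hP⟩ := IsPGroup.exists_le_sylow (IsPGroup.of_card (p := p) (n := 1)
    (by rw [Nat.card_zpowers, hx, pow_one]) : IsPGroup p ↥(Subgroup.zpowers x))
  exact ⟨P, (Subgroup.eq_of_le_of_card_ge hP (by rw [hS, Nat.card_zpowers, hx])).symm⟩

/-- The elements of order `p` when the Sylow `p`-subgroups have order `p`. -/
theorem card_orderOf_eq (hS : ∀ P : Sylow p G, Nat.card ↥(P : Subgroup G) = p) :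
    Nat.card {g : G // orderOf g = p} = Nat.card (Sylow p G) * (p - 1) := by
  have hmem : ∀ (P : Sylow p G) (x : {x : ↥(P : Subgroup G) // x ≠ 1}),
      orderOf ((x.1 : G)) = p := fun P x =>
    orderOf_of_mem (hS P) x.1.2 (fun h => x.2 (Subtype.ext h))
  have e : (Σ P : Sylow p G, {x : ↥(P : Subgroup G) // x ≠ 1}) ≃ {g : G // orderOf g = p} := by
    refine Equiv.ofBijective (fun s => ⟨s.2.1.1, hmem s.1 s.2⟩) ⟨?_, ?_⟩
    · rintro ⟨P, x⟩ ⟨Q, y⟩ h
      have hxy : (x.1 : G) = y.1 := congrArg Subtype.val h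
      have hPQ : P = Q := Sylow.ext (by
        rw [← eq_zpowers_of_mem (hS P) x.1.2 (fun e => x.2 (Subtype.ext e)),
          ← eq_zpowers_of_mem (hS Q) y.1.2 (fun e => y.2 (Subtype.ext e)), hxy])
      subst hPQ
      exact congrArg (Sigma.mk P) (Subtype.ext (Subtype.ext hxy))
    · rintro ⟨g, hg⟩
      obtain ⟨P, hP⟩ := exists_sylow_of_orderOf hS hg
      have hgP : g ∈ (P : Subgroup G) := hP ▸ Subgroup.mem_zpowers g
      have hg1 : g ≠ 1 := by
        rintro rfl
        rw [orderOf_one] at hg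
        exact hp.out.ne_one hg.symm
      exact ⟨⟨P, ⟨⟨g, hgP⟩, fun e => hg1 (congrArg Subtype.val e)⟩⟩, rfl⟩
  classical
  have := Fintype.ofFinite (Sylow p G)
  rw [← Nat.card_congr e, Nat.card_sigma]
  have hone : ∀ P : Sylow p G, Nat.card {x : ↥(P : Subgroup G) // x ≠ 1} = p - 1 := by
    intro P
    have := Fintype.ofFinite ↥(P : Subgroup G)
    rw [Nat.card_eq_fintype_card, Fintype.card_subtype_compl, Fintype.card_subtype_eq,
      ← Nat.card_eq_fintype_card, hS]
  rw [Finset.sum_congr rfl (fun P _ => hone P), Finset.sum_const, smul_eq_mul, Finset.card_univ,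
    Nat.card_eq_fintype_card]

/-- If the centralizer of a Sylow subgroup of order `p` is itself, no element has order properly
divisible by `p`. -/
theorem orderOf_eq_of_dvd (hS : ∀ P : Sylow p G, Nat.card ↥(P : Subgroup G) = p)
    (hC : ∀ P : Sylow p G, Nat.card ↥(Subgroup.centralizer ((P : Subgroup G) : Set G)) = p)
    {g : G} (hg : p ∣ orderOf g) : orderOf g = p := by
  have hy : orderOf (g ^ (orderOf g / p)) = p :=
    orderOf_pow_orderOf_div (orderOf_pos g).ne' hg
  obtain ⟨P, hP⟩ := exists_sylow_of_orderOf hS hy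
  have hgC : g ∈ Subgroup.centralizer ((P : Subgroup G) : Set G) := by
    rw [hP, centralizer_zpowers, Subgroup.mem_centralizer_singleton_iff]
    exact (Commute.self_pow g _)
  have hle : Nat.card ↥(Subgroup.centralizer ((P : Subgroup G) : Set G)) = p := hC P
  refine orderOf_of_mem hle hgC ?_
  rintro rfl
  rw [orderOf_one, Nat.dvd_one] at hg
  exact hp.out.ne_one hg

/-- A group generated by a rotation and an inverting reflection. -/
theorem nonempty_dihedral_equiv {H : Type*} [Group H] [Finite H] {n : ℕ} [NeZero n]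
    (hH : Nat.card H = 2 * n) {x y : H} (hx : orderOf x = n) (hy : y * y = 1)
    (hyx : y * x * y = x⁻¹) (hny : y ∉ Subgroup.zpowers x) :
    Nonempty (H ≃* DihedralGroup n) := by
  have hxn : x ^ n = 1 := hx ▸ pow_orderOf_eq_one x
  have hpow : ∀ i j : ZMod n, x ^ (i + j).val = x ^ i.val * x ^ j.val := fun i j => by
    rw [← pow_add, ZMod.val_add, pow_eq_pow_iff_modEq, hx]
    exact Nat.mod_modEq _ _
  have hyinv : y⁻¹ = y := inv_eq_of_mul_eq_one_right hy
  have hxi : ∀ i : ℕ, y * x ^ i * y = (x ^ i)⁻¹ := by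
    intro i
    have h := congrArg (fun z => z ^ i) hyx
    simp only [inv_pow] at h
    rw [← h]
    have e : y * x * y = y * x * y⁻¹ := by rw [hyinv]
    rw [e, conj_pow, hyinv]
  have hsub : ∀ i j : ZMod n, x ^ (j - i).val = (x ^ i.val)⁻¹ * x ^ j.val := fun i j => by
    rw [eq_inv_mul_iff_mul_eq, ← hpow, add_sub_cancel]
  have hxy : ∀ i : ℕ, x ^ i * y = y * (x ^ i)⁻¹ := fun i => by
    rw [← hxi i, ← mul_assoc, ← mul_assoc, hy, one_mul]
  let φ : DihedralGroup n → H := fun d =>
    match d with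
    | .r i => x ^ i.val
    | .sr i => y * x ^ i.val
  have hmul : ∀ a b, φ (a * b) = φ a * φ b := by
    intro a b
    rcases a with i | i <;> rcases b with j | j
    · rw [DihedralGroup.r_mul_r]; exact hpow i j
    · rw [DihedralGroup.r_mul_sr]
      show y * x ^ (j - i).val = x ^ i.val * (y * x ^ j.val)
      rw [hsub, ← mul_assoc (x ^ i.val), hxy, mul_assoc]
    · rw [DihedralGroup.sr_mul_r]
      show y * x ^ (i + j).val = y * x ^ i.val * x ^ j.val
      rw [hpow, mul_assoc]
    · rw [DihedralGroup.sr_mul_sr]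
      show x ^ (j - i).val = y * x ^ i.val * (y * x ^ j.val)
      rw [hsub, ← hxi i.val]
      group
  have hinj : Function.Injective φ := by
    have hr : ∀ i j : ZMod n, x ^ i.val = x ^ j.val → i = j := fun i j h => by
      have := pow_injOn_Iio_orderOf (x := x) (hx.symm ▸ ZMod.val_lt i) (hx.symm ▸ ZMod.val_lt j) h
      exact ZMod.val_injective n this
    rintro (i | i) (j | j) h <;> simp only [φ] at h
    · exact congrArg _ (hr i j h)
    · exact absurd ((Subgroup.zpowers x).mul_mem_cancel_right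
        ((Subgroup.zpowers x).pow_mem (Subgroup.mem_zpowers x) j.val) |>.1
          (h ▸ (Subgroup.zpowers x).pow_mem (Subgroup.mem_zpowers x) i.val)) hny
    · exact absurd ((Subgroup.zpowers x).mul_mem_cancel_right
        ((Subgroup.zpowers x).pow_mem (Subgroup.mem_zpowers x) i.val) |>.1
          (h.symm ▸ (Subgroup.zpowers x).pow_mem (Subgroup.mem_zpowers x) j.val)) hny
    · exact congrArg _ (hr i j (mul_left_cancel h))
  exact ⟨(MulEquiv.ofBijective (MonoidHom.mk' φ hmul)
    ((Nat.bijective_iff_injective_and_card _).2 ⟨hinj, by rw [DihedralGroup.nat_card, hH]⟩)).symm⟩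

end Cfsg.Agent.SmallGroupBasic
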