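import Cfsg.Agent.Lib.SmallGroupBasic

/-!
Groups of order 24 without elements of order 6.
-/

namespace Cfsg.Agent.SmallGroupS4

open SmallGroupBasic

set_option linter.unusedSectionVars false

variable {G : Type*} [Group G] [Finite G]

theorem not_commute_of_orders (h6 : ∀ g : G, orderOf g ≠ 6) {a b : G} (ha : orderOf a = 2)
    (hb : orderOf b = 3) : ¬ Commute a b := fun hc =>
  h6 (a * b) (by rw [hc.orderOf_mul_eq_mul_orderOf_of_coprime (by rw [ha, hb]; norm_num), ha, hb])

theorem exists_orderOf_of_dvd {H : Subgroup G} (q : ℕ) (hq : q.Prime) (h : q ∣ Nat.card ↥H) :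
    ∃ x ∈ H, orderOf x = q := by
  have : Fact q.Prime := ⟨hq⟩
  obtain ⟨x, hx⟩ := exists_prime_orderOf_dvd_card' q h
  exact ⟨x, x.2, by rw [Subgroup.orderOf_coe, hx]⟩

theorem card_normalizer_of_sylow_four (h : Nat.card G = 24) (h6 : ∀ g : G, orderOf g ≠ 6) :
    Nat.card (Sylow 3 G) = 4 := by
  have : Fact (Nat.Prime 3) := ⟨by norm_num⟩
  obtain ⟨P⟩ : Nonempty (Sylow 3 G) := inferInstance
  have hn : Nat.card G = 3 ^ 1 * 8 := by rw [h]; norm_num
  have hPcard : Nat.card ↥(P : Subgroup G) = 3 := by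
    rw [P.card_eq_multiplicity, hn, Nat.factorization_mul (by norm_num) (by norm_num)]
    simp [Nat.factorization_eq_zero_of_not_dvd (show ¬ 3 ∣ 8 by norm_num), Nat.prime_three.factorization]
  have hidx : (P : Subgroup G).index = 8 := by
    have := (P : Subgroup G).card_mul_index; rw [hPcard, h] at this; omega
  have hd : Nat.card (Sylow 3 G) ∣ 8 := hidx ▸ P.card_dvd_index
  have hm : Nat.card (Sylow 3 G) % 3 = 1 % 3 := card_sylow_modEq_one 3 G
  have hle := Nat.le_of_dvd (by norm_num) hd
  by_contra hne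
  have h1 : Nat.card (Sylow 3 G) = 1 := by
    generalize Nat.card (Sylow 3 G) = n at hd hm hle hne
    interval_cases n <;> omega
  have hnorm : Subgroup.normalizer ((P : Subgroup G) : Set G) = ⊤ :=
    Subgroup.index_eq_one.1 (P.card_eq_index_normalizer.symm.trans h1)
  have key := Subgroup.card_dvd_of_injective _
    (QuotientGroup.kerLift_injective (P : Subgroup G).normalizerMonoidHom)
  rw [Subgroup.normalizerMonoidHom_ker, ← Subgroup.index, ← Subgroup.relIndex, hnorm,
    Subgroup.relIndex_top_right] at key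
  have hcy : IsCyclic ↥(P : Subgroup G) := isCyclic_of_prime_card hPcard
  rw [hcy.card_mulAut, hPcard, Nat.totient_prime (by norm_num)] at key
  have hC2 : 2 ∣ Nat.card ↥(Subgroup.centralizer ((P : Subgroup G) : Set G)) := by
    have hmul := (Subgroup.centralizer ((P : Subgroup G) : Set G)).card_mul_index
    rw [h] at hmul
    have : (Subgroup.centralizer ((P : Subgroup G) : Set G)).index ≤ 2 :=
      Nat.le_of_dvd (by norm_num) key
    interval_cases (Subgroup.centralizer ((P : Subgroup G) : Set G)).index <;> omega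
  obtain ⟨a, haC, ha⟩ := exists_orderOf_of_dvd 2 (by norm_num) hC2
  obtain ⟨b, hbP, hb⟩ := exists_orderOf_of_dvd (H := (P : Subgroup G)) 3 (by norm_num) (by rw [hPcard])
  exact not_commute_of_orders h6 ha hb (Subgroup.mem_centralizer_iff.1 haC b hbP).symm

theorem nonempty_equiv_perm_four (h : Nat.card G = 24) (h6 : ∀ g : G, orderOf g ≠ 6) :
    Nonempty (G ≃* Equiv.Perm (Fin 4)) := by
  have : Fact (Nat.Prime 3) := ⟨by norm_num⟩
  have h4 := card_normalizer_of_sylow_four h h6
  obtain ⟨P⟩ : Nonempty (Sylow 3 G) := inferInstance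
  have hcS : ∀ Q : Sylow 3 G, Nat.card ↥(Q : Subgroup G) = 3 := fun Q => by
    rw [Q.card_eq_multiplicity, h, show (24 : ℕ) = 3 ^ 1 * 8 by norm_num,
      Nat.factorization_mul (by norm_num) (by norm_num)]
    simp [Nat.factorization_eq_zero_of_not_dvd (show ¬ 3 ∣ 8 by norm_num), Nat.prime_three.factorization]
  have hN : Nat.card ↥(Subgroup.normalizer ((P : Subgroup G) : Set G)) = 6 := by
    have hmul := (Subgroup.normalizer ((P : Subgroup G) : Set G)).card_mul_index
    have hi := P.card_eq_index_normalizer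
    rw [h4] at hi
    rw [show (Subgroup.normalizer ((P : Subgroup G) : Set G)).index = 4 from hi.symm, h] at hmul
    omega
  let φ : G →* Equiv.Perm (Sylow 3 G) := MulAction.toPermHom G (Sylow 3 G)
  have hkle : φ.ker ≤ Subgroup.normalizer ((P : Subgroup G) : Set G) := by
    intro g hg
    exact Sylow.smul_eq_iff_mem_normalizer.1 (Equiv.ext_iff.1 (MonoidHom.mem_ker.1 hg) P)
  have hinj : Function.Injective φ := by
    rw [← MonoidHom.ker_eq_bot_iff, ← Subgroup.card_eq_one]
    have hk6 := Subgroup.card_dvd_of_le hkle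
    rw [hN] at hk6
    have hk3 : ¬ 3 ∣ Nat.card ↥φ.ker := by
      intro h3
      obtain ⟨x, hxk, hx⟩ := exists_orderOf_of_dvd 3 (by norm_num) h3
      obtain ⟨Q₀, hQ₀⟩ := exists_sylow_of_orderOf hcS hx
      have hall : ∀ g : {g : G // orderOf g = 3}, (g : G) ∈ φ.ker := by
        intro g
        obtain ⟨Q, hQ⟩ := exists_sylow_of_orderOf hcS g.2
        obtain ⟨c, hc⟩ := MulAction.exists_smul_eq G Q₀ Q
        have hgQ : (g : G) ∈ ((c • Q₀ : Sylow 3 G) : Subgroup G) := by
          rw [hc, hQ]; exact Subgroup.mem_zpowers _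
        rw [Sylow.coe_subgroup_smul, Subgroup.mem_pointwise_smul_iff_inv_smul_mem, hQ₀] at hgQ
        have hmem := (Subgroup.zpowers_le.2 hxk) hgQ
        have h2 := φ.normal_ker.conj_mem _ hmem c
        simpa [MulAut.smul_def, MulAut.conj_inv_apply, mul_assoc] using h2
      have hle : Nat.card {g : G // orderOf g = 3} ≤ Nat.card ↥φ.ker :=
        Nat.card_le_card_of_injective (fun g => ⟨g.1, hall g⟩)
          (fun a b e => Subtype.ext (congrArg (fun z : ↥φ.ker => (z : G)) e))
      rw [card_orderOf_eq hcS, h4] at hle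
      have := Nat.le_of_dvd (by norm_num) hk6
      omega
    have hk2 : ¬ 2 ∣ Nat.card ↥φ.ker := by
      intro h2
      obtain ⟨a, hak, ha⟩ := exists_orderOf_of_dvd 2 (by norm_num) h2
      obtain ⟨b, -, hb⟩ := exists_orderOf_of_dvd (H := (P : Subgroup G)) 3 (by norm_num)
        (by rw [hcS])
      have hk : Nat.card ↥φ.ker = 2 := by
        have := Nat.le_of_dvd (by norm_num) hk6
        generalize Nat.card ↥φ.ker = n at hk6 hk3 h2 this
        interval_cases n <;> omega
      refine not_commute_of_orders h6 ha hb ?_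
      have : Fact (Nat.Prime 2) := ⟨by norm_num⟩
      have ha1 : a ≠ 1 := by rintro rfl; simp at ha
      have hmem : b * a * b⁻¹ ∈ φ.ker := φ.normal_ker.conj_mem a hak b
      have hb1 : b * a * b⁻¹ ≠ 1 := by simpa using ha1
      have heq : b * a * b⁻¹ = a := by
        have h1 := eq_zpowers_of_mem hk hak ha1
        rw [← h1] at hmem
        obtain ⟨j, hj⟩ := Subgroup.mem_zpowers_iff.1 hmem
        rcases Int.emod_two_eq_zero_or_one j with hj' | hj'
        · exfalso
          apply hb1
          rw [← hj, ← zpow_mod_orderOf, ha]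
          simp [hj']
        · rw [← hj, ← zpow_mod_orderOf, ha]
          simp [hj']
      exact (mul_inv_eq_iff_eq_mul.1 heq).symm
    have := Nat.le_of_dvd (by norm_num) hk6
    generalize Nat.card ↥φ.ker = n at hk6 hk3 hk2 this
    interval_cases n <;> omega
  have := Fintype.ofFinite (Sylow 3 G)
  let e : Sylow 3 G ≃ Fin 4 := Fintype.equivFinOfCardEq (by rw [← Nat.card_eq_fintype_card, h4])
  exact ⟨MulEquiv.ofBijective (e.permCongrHom.toMonoidHom.comp φ)
    ((Nat.bijective_iff_injective_and_card _).2 ⟨e.permCongrHom.injective.comp hinj,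
      by rw [Nat.card_perm, Nat.card_fin, h]; rfl⟩)⟩

end Cfsg.Agent.SmallGroupS4
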