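import Cfsg.Agent.Lib.SimpleOrder
import Cfsg.Agent.Lib.SmallGroupBasic
import Cfsg.Agent.Lib.SmallGroupS4

/-!
The structure of a simple group of order 168.
-/

namespace Cfsg.Agent.Simple168

open SimpleOrder SmallGroupBasic

set_option linter.unusedSectionVars false

variable {G : Type*} [Group G] [Finite G] [IsSimpleGroup G] (h : Nat.card G = 168)
include h

theorem not_comm : ¬ IsMulCommutative G := not_comm_of_not_prime (by rw [h]; norm_num)

theorem card_normalizer_mul {p : ℕ} [Fact p.Prime] (P : Sylow p G) :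
    Nat.card (Sylow p G) * Nat.card ↥(Subgroup.normalizer ((P : Subgroup G) : Set G)) = 168 := by
  rw [P.card_eq_index_normalizer, mul_comm, ← h]
  exact Subgroup.card_mul_index _

theorem card_sylow_seven : Nat.card (Sylow 7 G) = 8 := by
  have : Fact (Nat.Prime 7) := ⟨by norm_num⟩
  have hn : Nat.card G = 7 ^ 1 * 24 := by rw [h]; norm_num
  have hm := card_sylow_mem hn (by norm_num)
  have hne := card_sylow_ne_one (not_comm h) (p := 7) (by rw [h]; norm_num)
  have hlist : (Nat.divisors 24).filter (fun d => d % 7 = 1) = {1, 8} := by decide +kernel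
  rw [hlist] at hm
  simp only [Finset.mem_insert, Finset.mem_singleton] at hm
  omega

theorem card_seven_data (P : Sylow 7 G) :
    haveI : Fact (Nat.Prime 7) := ⟨by norm_num⟩
    Nat.card ↥(P : Subgroup G) = 7 ∧
      Nat.card ↥(Subgroup.normalizer ((P : Subgroup G) : Set G)) = 21 ∧
      Nat.card ↥(Subgroup.centralizer ((P : Subgroup G) : Set G)) = 7 := by
  have : Fact (Nat.Prime 7) := ⟨by norm_num⟩
  have hP : Nat.card ↥(P : Subgroup G) = 7 :=
    sylow_card_of_eq (k := 1) (m := 24) (by rw [h]; norm_num) (by norm_num) P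
  have hN : Nat.card ↥(Subgroup.normalizer ((P : Subgroup G) : Set G)) = 21 := by
    have := card_normalizer_mul h P
    rw [card_sylow_seven h] at this
    omega
  obtain ⟨e, he1, he2, he3, ⟨c, hc⟩⟩ := exists_card_normalizer_eq (not_comm h) P hP
  rw [hN, hc] at he3
  refine ⟨hP, hN, ?_⟩
  have hle := Nat.le_of_dvd (by norm_num) he2
  rw [hc]
  interval_cases e <;> omega

theorem card_sylow_three : Nat.card (Sylow 3 G) = 28 := by
  have : Fact (Nat.Prime 3) := ⟨by norm_num⟩
  have : Fact (Nat.Prime 7) := ⟨by norm_num⟩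
  have hn : Nat.card G = 3 ^ 1 * 56 := by rw [h]; norm_num
  have hm := card_sylow_mem hn (by norm_num)
  have hne := card_sylow_ne_one (not_comm h) (p := 3) (by rw [h]; norm_num)
  have hlist : (Nat.divisors 56).filter (fun d => d % 3 = 1) = {1, 4, 7, 28} := by decide +kernel
  rw [hlist] at hm
  simp only [Finset.mem_insert, Finset.mem_singleton] at hm
  have h4 : Nat.card (Sylow 3 G) ≠ 4 := fun e => by
    have h5 := two_mul_card_dvd_factorial_sylow (not_comm h) (p := 3) (by rw [h]; norm_num)
    rw [e, h] at h5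
    norm_num [Nat.factorial] at h5
  suffices h7 : Nat.card (Sylow 3 G) ≠ 7 by omega
  intro h7
  obtain ⟨P⟩ : Nonempty (Sylow 7 G) := inferInstance
  obtain ⟨hP, hN, hC⟩ := card_seven_data h P
  -- every Sylow 3-subgroup normalizes every Sylow 7-subgroup
  have hS : ∀ Q : Sylow 3 G, Nat.card ↥(Q : Subgroup G) = 3 := fun Q => by
    have := sylow_card_of_eq hn (by norm_num) Q
    rwa [pow_one] at this
  have hall : ∀ (R : Sylow 7 G) (Q : Sylow 3 G),
      (Q : Subgroup G) ≤ Subgroup.normalizer ((R : Subgroup G) : Set G) := by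
    intro R
    obtain ⟨-, hNR, hCR⟩ := card_seven_data h R
    set K := Subgroup.normalizer ((R : Subgroup G) : Set G) with hK
    have hK1 : Nat.card (Sylow 3 ↥K) ≠ 1 := by
      intro h1
      obtain ⟨S⟩ : Nonempty (Sylow 3 ↥K) := inferInstance
      have hSK : Nat.card ↥(S : Subgroup ↥K) = 3 :=
        sylow_card_of_eq (k := 1) (m := 7) (by rw [hNR]; norm_num) (by norm_num) S
      have : Subsingleton (Sylow 3 ↥K) := (Nat.card_eq_one_iff_unique.1 h1).1
      have hSn : (S : Subgroup ↥K).Normal := S.normal_of_subsingleton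
      set R' := (R : Subgroup G).subgroupOf K
      have hRn : R'.Normal := by
        show ((R : Subgroup G).subgroupOf K).Normal
        exact Subgroup.normal_in_normalizer
      have hR' : Nat.card ↥R' = 7 := by
        rw [Nat.card_congr (Subgroup.subgroupOfEquivOfLe (Subgroup.le_normalizer)).toEquiv]
        exact (card_seven_data h R).1
      have hdis : Disjoint (S : Subgroup ↥K) R' := by
        refine Subgroup.disjoint_of_coprime_natCard ?_
        rw [hSK, hR']; norm_num
      have : (S : Subgroup ↥K).map K.subtype ≤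
          Subgroup.centralizer ((R : Subgroup G) : Set G) := by
        rintro _ ⟨s, hs, rfl⟩
        rw [Subgroup.mem_centralizer_iff]
        intro r hr
        exact congrArg Subtype.val
          (Subgroup.commute_of_normal_of_disjoint _ _ hRn hSn hdis.symm
            (⟨r, Subgroup.le_normalizer hr⟩ : ↥K) s (by exact hr) hs).eq
      have h3 := Subgroup.card_dvd_of_le this
      rw [Subgroup.card_map_of_injective K.subtype_injective, hSK, hCR] at h3
      norm_num at h3
    have hK7 : Nat.card (Sylow 3 ↥K) = 7 := by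
      have hm' := card_sylow_mem (G := ↥K) (k := 1) (m := 7) (p := 3) (by rw [hNR]; norm_num)
        (by norm_num)
      have : (Nat.divisors 7).filter (fun d => d % 3 = 1) = {1, 7} := by decide +kernel
      rw [this] at hm'
      simp only [Finset.mem_insert, Finset.mem_singleton] at hm'
      omega
    have hcardS : ∀ S : Sylow 3 ↥K, Nat.card ↥((S : Subgroup ↥K).map K.subtype) = 3 := fun S => by
      rw [Subgroup.card_map_of_injective K.subtype_injective]
      exact sylow_card_of_eq (k := 1) (m := 7) (by rw [hNR]; norm_num) (by norm_num) S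
    let f : Sylow 3 ↥K → Sylow 3 G := fun S => Sylow.ofCard ((S : Subgroup ↥K).map K.subtype)
      (by
        rw [hcardS, hn, Nat.factorization_mul (by norm_num) (by norm_num)]
        simp [Nat.factorization_eq_zero_of_not_dvd (show ¬ 3 ∣ 56 by norm_num),
          Nat.prime_three.factorization])
    have hfinj : Function.Injective f := fun S T he => by
      apply Sylow.ext
      exact Subgroup.map_injective K.subtype_injective
        (congrArg (fun Q : Sylow 3 G => (Q : Subgroup G)) he)
    have hfb : Function.Bijective f :=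
      (Nat.bijective_iff_injective_and_card f).2 ⟨hfinj, by rw [hK7, h7]⟩
    intro Q
    obtain ⟨S, rfl⟩ := hfb.2 Q
    exact Subgroup.map_subtype_le _
  obtain ⟨Q⟩ : Nonempty (Sylow 3 G) := inferInstance
  have hle : (Q : Subgroup G) ≤
      (Subgroup.normalizer ((P : Subgroup G) : Set G)).normalCore := by
    intro x hx b
    have hb : b⁻¹ • P = b⁻¹ • P := rfl
    have hxb := hall (b⁻¹ • P) Q hx
    rw [Sylow.coe_coe, ← Sylow.smul_eq_iff_mem_normalizer] at hxb
    rw [Sylow.coe_coe, ← Sylow.smul_eq_iff_mem_normalizer, mul_smul, mul_smul, hxb,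
      smul_inv_smul]
  rcases eq_bot_or_top (Subgroup.normalCore_normal
      (Subgroup.normalizer ((P : Subgroup G) : Set G))) with h' | h'
  · have := Subgroup.card_dvd_of_le (hle.trans h'.le)
    rw [hS, Subgroup.card_bot] at this
    norm_num at this
  · exact normalizer_ne_top (not_comm h) (by rw [h]; norm_num) P
      (top_le_iff.1 (h'.symm.le.trans (Subgroup.normalCore_le _)))

theorem card_three_data (P : Sylow 3 G) :
    haveI : Fact (Nat.Prime 3) := ⟨by norm_num⟩
    Nat.card ↥(P : Subgroup G) = 3 ∧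
      Nat.card ↥(Subgroup.normalizer ((P : Subgroup G) : Set G)) = 6 ∧
      Nat.card ↥(Subgroup.centralizer ((P : Subgroup G) : Set G)) = 3 := by
  have : Fact (Nat.Prime 3) := ⟨by norm_num⟩
  have hP : Nat.card ↥(P : Subgroup G) = 3 :=
    sylow_card_of_eq (k := 1) (m := 56) (by rw [h]; norm_num) (by norm_num) P
  have hN : Nat.card ↥(Subgroup.normalizer ((P : Subgroup G) : Set G)) = 6 := by
    have := card_normalizer_mul h P
    rw [card_sylow_three h] at this
    omega
  obtain ⟨e, he1, he2, he3, -⟩ := exists_card_normalizer_eq (not_comm h) P hP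
  rw [hN] at he3
  refine ⟨hP, hN, ?_⟩
  have hle := Nat.le_of_dvd (by norm_num) he2
  interval_cases e <;> omega

theorem card_sylow_two : Nat.card (Sylow 2 G) = 21 := by
  have : Fact (Nat.Prime 2) := ⟨by norm_num⟩
  have : Fact (Nat.Prime 3) := ⟨by norm_num⟩
  have hn : Nat.card G = 2 ^ 3 * 21 := by rw [h]; norm_num
  have hm := card_sylow_mem hn (by norm_num)
  have hlist : (Nat.divisors 21).filter (fun d => d % 2 = 1) = {1, 3, 7, 21} := by decide +kernel
  rw [hlist] at hm
  simp only [Finset.mem_insert, Finset.mem_singleton] at hm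
  have h13 : ∀ i, i = 1 ∨ i = 3 → Nat.card (Sylow 2 G) ≠ i := fun i hi e => by
    have h5 := two_mul_card_dvd_factorial_sylow (not_comm h) (p := 2) (by rw [h]; norm_num)
    rw [e, h] at h5
    rcases hi with rfl | rfl <;> norm_num [Nat.factorial] at h5
  have h1' := h13 1 (Or.inl rfl)
  have h3' := h13 3 (Or.inr rfl)
  suffices h7 : Nat.card (Sylow 2 G) ≠ 7 by omega
  intro h7
  obtain ⟨T⟩ : Nonempty (Sylow 2 G) := inferInstance
  set K := Subgroup.normalizer ((T : Subgroup G) : Set G) with hK
  have hKcard : Nat.card ↥K = 24 := by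
    have := card_normalizer_mul h T
    rw [h7, ← hK] at this
    omega
  obtain ⟨r, hrK, hr⟩ := SmallGroupS4.exists_orderOf_of_dvd (H := K) 3 (by norm_num) (by rw [hKcard]; norm_num)
  obtain ⟨R₀, hR₀⟩ := exists_sylow_of_orderOf (p := 3) (fun Q => (card_three_data h Q).1) hr
  obtain ⟨-, hN0, hC0⟩ := card_three_data h R₀
  have hT : Nat.card ↥(T : Subgroup G) = 8 := sylow_card_of_eq hn (by norm_num) T
  have hRK : (R₀ : Subgroup G) ≤ K := hR₀ ▸ Subgroup.zpowers_le.2 hrK
  have hcop : (T : Subgroup G) ⊓ (R₀ : Subgroup G) = ⊥ := disjoint_iff.1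
    (Subgroup.disjoint_of_coprime_natCard (by rw [hT, (card_three_data h R₀).1]; norm_num))
  have hfix : ∀ t ∈ (T : Subgroup G), t • R₀ = R₀ → t = 1 := by
    intro t ht hst
    have htN := Sylow.smul_eq_iff_mem_normalizer.1 hst
    have htC : t ∈ Subgroup.centralizer ((R₀ : Subgroup G) : Set G) := by
      rw [Subgroup.mem_centralizer_iff]
      intro x hx
      have h1 : x * t * x⁻¹ * t⁻¹ ∈ (T : Subgroup G) :=
        mul_mem ((Subgroup.mem_normalizer_iff.1 (hRK hx) t).1 ht) (inv_mem ht)
      have h2 : x * t * x⁻¹ * t⁻¹ ∈ (R₀ : Subgroup G) := by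
        have h3 := (Subgroup.mem_normalizer_iff.1 htN x⁻¹).1 (inv_mem hx)
        have e : x * t * x⁻¹ * t⁻¹ = x * (t * x⁻¹ * t⁻¹) := by group
        rw [e]; exact mul_mem hx h3
      have h4 : x * t * x⁻¹ * t⁻¹ ∈ (T : Subgroup G) ⊓ (R₀ : Subgroup G) := ⟨h1, h2⟩
      rw [hcop, Subgroup.mem_bot] at h4
      calc x * t = (x * t * x⁻¹ * t⁻¹) * (t * x) := by group
        _ = t * x := by rw [h4, one_mul]
    by_contra ht1
    have h1 := eq_zpowers_of_mem hC0 htC ht1
    have h2 := Subgroup.card_dvd_of_le (Subgroup.zpowers_le.2 ht)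
    rw [h1, hC0, hT] at h2
    norm_num at h2
  have hTK : (T : Subgroup G) ≤ K := Subgroup.le_normalizer
  let g : ↥(T : Subgroup G) → Sylow 3 ↥K := fun t => (⟨t.1, hTK t.2⟩ : ↥K) • R₀.subtype hRK
  have hginj : Function.Injective g := by
    intro a b hab
    have hb' := congrArg (fun S => (⟨b.1, hTK b.2⟩ : ↥K)⁻¹ • S) hab
    simp only [g, smul_smul, inv_mul_cancel, one_smul] at hb'
    have h2 := hfix ((b : G)⁻¹ * a) (mul_mem (inv_mem b.2) a.2) ?_
    · exact Subtype.ext (inv_mul_eq_one.1 h2).symm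
    · rw [Sylow.smul_eq_iff_mem_normalizer] at hb' ⊢
      rw [← Sylow.coe_coe, Subgroup.mem_normalizer_iff]
      intro x
      rw [← Sylow.coe_coe, Subgroup.mem_normalizer_iff] at hb'
      constructor
      · intro hx
        exact (hb' ⟨x, hRK hx⟩).1 hx
      · intro hx
        have hxK : x ∈ K := by
          have hc : (b : G)⁻¹ * a ∈ K := mul_mem (inv_mem (hTK b.2)) (hTK a.2)
          have := mul_mem (mul_mem (inv_mem hc) (hRK hx)) hc
          simpa [mul_assoc] using this
        exact (hb' ⟨x, hxK⟩).2 hx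
  have hle := Nat.card_le_card_of_injective g hginj
  rw [hT] at hle
  have hm' := card_sylow_mem (G := ↥K) (k := 1) (m := 8) (p := 3) (by rw [hKcard]; norm_num)
    (by norm_num)
  have : (Nat.divisors 8).filter (fun d => d % 3 = 1) = {1, 4} := by decide +kernel
  rw [this] at hm'
  simp only [Finset.mem_insert, Finset.mem_singleton] at hm'
  omega

theorem card_sylow_two_subgroup (T : Sylow 2 G) : Nat.card ↥(T : Subgroup G) = 8 :=
  haveI : Fact (Nat.Prime 2) := ⟨by norm_num⟩
  sylow_card_of_eq (k := 3) (m := 21) (by rw [h]; norm_num) (by norm_num) T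

theorem normalizer_sylow_two (T : Sylow 2 G) :
    Subgroup.normalizer ((T : Subgroup G) : Set G) = (T : Subgroup G) := by
  have : Fact (Nat.Prime 2) := ⟨by norm_num⟩
  refine (Subgroup.eq_of_le_of_card_ge Subgroup.le_normalizer ?_).symm
  have := card_normalizer_mul h T
  rw [card_sylow_two h] at this
  rw [card_sylow_two_subgroup h T]
  omega

theorem sylow_two_not_comm (T : Sylow 2 G) :
    ∃ a ∈ (T : Subgroup G), ∃ b ∈ (T : Subgroup G), a * b ≠ b * a := by
  have : Fact (Nat.Prime 2) := ⟨by norm_num⟩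
  by_contra hc
  push Not at hc
  refine not_normalizer_le_centralizer (not_comm h) (p := 2) (by rw [h]; norm_num) T ?_
  rw [normalizer_sylow_two h T]
  intro a ha
  rw [Subgroup.mem_centralizer_iff]
  exact fun b hb => hc b hb a ha

theorem orderOf_eq_three {g : G} (hg : 3 ∣ orderOf g) : orderOf g = 3 :=
  haveI : Fact (Nat.Prime 3) := ⟨by norm_num⟩
  orderOf_eq_of_dvd (fun P => (card_three_data h P).1) (fun P => (card_three_data h P).2.2) hg

theorem orderOf_eq_seven {g : G} (hg : 7 ∣ orderOf g) : orderOf g = 7 :=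
  haveI : Fact (Nat.Prime 7) := ⟨by norm_num⟩
  orderOf_eq_of_dvd (fun P => (card_seven_data h P).1) (fun P => (card_seven_data h P).2.2) hg

theorem orderOf_cases (g : G) :
    orderOf g = 1 ∨ orderOf g = 2 ∨ orderOf g = 3 ∨ orderOf g = 4 ∨ orderOf g = 7 := by
  have hd : orderOf g ∣ 168 := h ▸ orderOf_dvd_natCard g
  by_cases h3 : 3 ∣ orderOf g
  · have := orderOf_eq_three h h3; omega
  by_cases h7 : 7 ∣ orderOf g
  · have := orderOf_eq_seven h h7; omega
  have h8 : orderOf g ∣ 8 := by
    have hc : Nat.Coprime (orderOf g) 21 := by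
      rw [show (21 : ℕ) = 3 * 7 by norm_num]
      exact Nat.Coprime.mul_right ((Nat.prime_three.coprime_iff_not_dvd.2 h3).symm)
        (((by norm_num : Nat.Prime 7).coprime_iff_not_dvd.2 h7).symm)
    exact hc.dvd_of_dvd_mul_left (show orderOf g ∣ 21 * 8 by simpa using hd)
  have hle := Nat.le_of_dvd (by norm_num) h8
  have hpos := orderOf_pos g
  suffices orderOf g ≠ 8 by
    generalize orderOf g = n at h8 hle hpos h3 h7 this
    interval_cases n <;> omega
  intro he
  have : Fact (Nat.Prime 2) := ⟨by norm_num⟩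
  obtain ⟨T, hT⟩ := IsPGroup.exists_le_sylow (IsPGroup.of_card (p := 2) (n := 3)
    (by rw [Nat.card_zpowers, he]; norm_num) : IsPGroup 2 ↥(Subgroup.zpowers g))
  have hTe := Subgroup.eq_of_le_of_card_ge hT
    (by rw [card_sylow_two_subgroup h T, Nat.card_zpowers, he])
  obtain ⟨a, ha, b, hb, hab⟩ := sylow_two_not_comm h T
  rw [← hTe] at ha hb
  obtain ⟨i, rfl⟩ := Subgroup.mem_zpowers_iff.1 ha
  obtain ⟨j, rfl⟩ := Subgroup.mem_zpowers_iff.1 hb
  exact hab (Commute.zpow_zpow_self g i j).eq

theorem orderOf_ne_six (g : G) : orderOf g ≠ 6 := by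
  have := orderOf_cases h g; omega

theorem card_centralizer_dvd_eight {z : G} (hz : orderOf z = 2) :
    Nat.card ↥(Subgroup.centralizer ({z} : Set G)) ∣ 8 := by
  have key : ∀ q : ℕ, q.Prime → q ≠ 2 →
      ¬ q ∣ Nat.card ↥(Subgroup.centralizer ({z} : Set G)) := by
    intro q hq hq2 hd
    obtain ⟨x, hxC, hx⟩ := SmallGroupS4.exists_orderOf_of_dvd q hq hd
    have hc : Commute z x := (Subgroup.mem_centralizer_singleton_iff.1 hxC).symm
    have ho := hc.orderOf_mul_eq_mul_orderOf_of_coprime
      (by rw [hz, hx]; exact (Nat.coprime_primes Nat.prime_two hq).2 (Ne.symm hq2))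
    rw [hz, hx] at ho
    rcases orderOf_cases h (z * x) with e | e | e | e | e <;> rw [e] at ho <;>
      have := hq.two_le <;> omega
  have hd : Nat.card ↥(Subgroup.centralizer ({z} : Set G)) ∣ 21 * 8 := by
    rw [show 21 * 8 = 168 from rfl, ← h]
    exact Subgroup.card_subgroup_dvd_card _
  refine Nat.Coprime.dvd_of_dvd_mul_left ?_ hd
  rw [show (21 : ℕ) = 3 * 7 by norm_num]
  exact Nat.Coprime.mul_right
    ((Nat.prime_three.coprime_iff_not_dvd.2 (key 3 (by norm_num) (by norm_num))).symm)
    (((by norm_num : Nat.Prime 7).coprime_iff_not_dvd.2 (key 7 (by norm_num) (by norm_num))).symm)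

theorem centralizer_eq_sylow {z : G} (hz : orderOf z = 2) (T : Sylow 2 G) (hzT : z ∈ (T : Subgroup G))
    (hc : ∀ t ∈ (T : Subgroup G), t * z = z * t) :
    Subgroup.centralizer ({z} : Set G) = (T : Subgroup G) := by
  refine (Subgroup.eq_of_le_of_card_ge (fun t ht => ?_) ?_).symm
  · exact Subgroup.mem_centralizer_singleton_iff.2 (hc t ht)
  · rw [card_sylow_two_subgroup h T]
    exact Nat.le_of_dvd (by norm_num) (card_centralizer_dvd_eight h hz)

/-- Each Sylow 2-subgroup is generated by a rotation of order 4 and an inverting involution. -/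
theorem exists_dihedral_gens (T : Sylow 2 G) :
    ∃ x y, x ∈ (T : Subgroup G) ∧ y ∈ (T : Subgroup G) ∧ orderOf x = 4 ∧
      y ∉ Subgroup.zpowers x ∧ y * x * y⁻¹ = x⁻¹ ∧
      Subgroup.centralizer ({x ^ 2} : Set G) = (T : Subgroup G) := by
  have hT := card_sylow_two_subgroup h T
  obtain ⟨a, ha, b, hb, hab⟩ := sylow_two_not_comm h T
  obtain ⟨x, hxT, hx⟩ : ∃ x ∈ (T : Subgroup G), orderOf x = 4 := by
    by_contra hc
    push Not at hc
    have hsq : ∀ t ∈ (T : Subgroup G), t * t = 1 := by
      intro t ht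
      have h8 : orderOf t ∣ 8 := by
        have := orderOf_dvd_natCard (⟨t, ht⟩ : ↥(T : Subgroup G))
        rwa [hT, ← Subgroup.orderOf_coe] at this
      have h4 := hc t ht
      rcases orderOf_cases h t with e | e | e | e | e
      · rw [orderOf_eq_one_iff.1 e, one_mul]
      · rw [← sq, ← e, pow_orderOf_eq_one]
      · rw [e] at h8; norm_num at h8
      · exact absurd e h4
      · rw [e] at h8; norm_num at h8
    apply hab
    have e1 := hsq _ (mul_mem ha hb)
    have ea := hsq a ha
    have eb := hsq b hb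
    calc a * b = (b * b) * (a * b) * (a * a) := by rw [ea, eb, one_mul, mul_one]
      _ = b * ((b * a) * (b * a)) * a := by group
      _ = b * a := by rw [hsq _ (mul_mem hb ha), mul_one]
  set X := Subgroup.zpowers x with hX
  have hXT : X ≤ (T : Subgroup G) := Subgroup.zpowers_le.2 hxT
  obtain ⟨y, hyT, hyX⟩ : ∃ y ∈ (T : Subgroup G), y ∉ X := by
    by_contra hc
    push Not at hc
    have := Subgroup.card_dvd_of_le (show (T : Subgroup G) ≤ X from hc)
    rw [hT, hX, Nat.card_zpowers, hx] at this
    norm_num at this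
  have hidx : (X.subgroupOf (T : Subgroup G)).index = 2 := by
    have hm := (X.subgroupOf (T : Subgroup G)).card_mul_index
    rw [Nat.card_congr (Subgroup.subgroupOfEquivOfLe hXT).toEquiv, hX, Nat.card_zpowers, hx, hT] at hm
    rw [hX]; omega
  have hnorm : ∀ t ∈ (T : Subgroup G), ∀ u ∈ X, t * u * t⁻¹ ∈ X := by
    intro t ht u hu
    exact (Subgroup.normal_of_index_eq_two hidx).conj_mem ⟨u, hXT hu⟩ hu ⟨t, ht⟩
  have hx4 : x ^ 4 = 1 := hx ▸ pow_orderOf_eq_one x
  have hpm : ∀ t ∈ (T : Subgroup G), t * x * t⁻¹ = x ∨ t * x * t⁻¹ = x⁻¹ := by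
    intro t ht
    obtain ⟨j, hj⟩ := Subgroup.mem_zpowers_iff.1 (hnorm t ht x (Subgroup.mem_zpowers x))
    have hord : orderOf (t * x * t⁻¹) = 4 := by rw [orderOf_conj, hx]
    rw [← hj, ← zpow_mod_orderOf, hx] at hord ⊢
    have h0 : 0 ≤ j % (4 : ℕ) := Int.emod_nonneg _ (by norm_num)
    have h4 : j % (4 : ℕ) < 4 := Int.emod_lt_of_pos _ (by norm_num)
    generalize j % (4 : ℕ) = k at h0 h4 hord
    interval_cases k
    · simp at hord
    · left; exact zpow_one x
    · exfalso
      have := orderOf_dvd_of_pow_eq_one (n := 2) (show (x ^ (2 : ℤ)) ^ 2 = 1 by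
        rw [zpow_ofNat, ← pow_mul]; exact hx4)
      rw [hord] at this; norm_num at this
    · right
      refine eq_inv_of_mul_eq_one_left ?_
      rw [zpow_ofNat, ← pow_succ]; exact hx4
  have hy : y * x * y⁻¹ = x⁻¹ := by
    refine (hpm y hyT).resolve_left fun hyc => hab ?_
    have hgen : ∀ t ∈ (T : Subgroup G), Commute t x := fun t ht => by
      rcases hpm t ht with e | e
      · exact mul_inv_eq_iff_eq_mul.1 e
      · exfalso
        have htX : t ∉ X := fun hm => by
          obtain ⟨j, rfl⟩ := Subgroup.mem_zpowers_iff.1 hm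
          rw [(Commute.zpow_self x j).eq, mul_inv_cancel_right] at e
          have : x ^ 2 = 1 := by rw [sq]; nth_rw 2 [e]; exact mul_inv_cancel x
          have := orderOf_dvd_of_pow_eq_one this
          rw [hx] at this; norm_num at this
        have htyX : t * y⁻¹ ∈ X := by
          have := (Subgroup.mul_mem_iff_of_index_two hidx
            (a := ⟨t, ht⟩) (b := (⟨y, hyT⟩ : ↥(T : Subgroup G))⁻¹)).2
            (iff_of_false (by simpa [Subgroup.mem_subgroupOf] using htX)
              (by simpa [Subgroup.mem_subgroupOf] using hyX))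
          simpa [Subgroup.mem_subgroupOf] using this
        obtain ⟨j, hj⟩ := Subgroup.mem_zpowers_iff.1 htyX
        have htj : t = x ^ j * y := by rw [hj, inv_mul_cancel_right]
        have e2 : t * x * t⁻¹ = x := by
          rw [htj]
          calc x ^ j * y * x * (x ^ j * y)⁻¹ = x ^ j * (y * x * y⁻¹) * (x ^ j)⁻¹ := by group
            _ = x := by rw [hyc]; group
        rw [e2] at e
        have : x ^ 2 = 1 := by rw [sq]; nth_rw 2 [e]; exact mul_inv_cancel x
        have := orderOf_dvd_of_pow_eq_one this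
        rw [hx] at this; norm_num at this
    have hgy : ∀ t ∈ (T : Subgroup G), ∃ j : ℤ, t = x ^ j ∨ t = x ^ j * y := fun t ht => by
      by_cases htX : t ∈ X
      · obtain ⟨j, hj⟩ := Subgroup.mem_zpowers_iff.1 htX
        exact ⟨j, Or.inl hj.symm⟩
      · have := (Subgroup.mul_mem_iff_of_index_two hidx
            (a := ⟨t, ht⟩) (b := (⟨y, hyT⟩ : ↥(T : Subgroup G))⁻¹)).2
            (iff_of_false (by simpa [Subgroup.mem_subgroupOf] using htX)
              (by simpa [Subgroup.mem_subgroupOf] using hyX))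
        obtain ⟨j, hj⟩ := Subgroup.mem_zpowers_iff.1
          (show t * y⁻¹ ∈ X by simpa [Subgroup.mem_subgroupOf] using this)
        exact ⟨j, Or.inr (by rw [hj, inv_mul_cancel_right])⟩
    have hxy : Commute y x := hgen y hyT
    obtain ⟨i, hi⟩ := hgy a ha
    obtain ⟨j, hj⟩ := hgy b hb
    have h1 : Commute (x ^ i) (x ^ j) := Commute.zpow_zpow_self x i j
    have h2 : Commute (x ^ i) y := (hxy.symm).zpow_left i
    have h3 : Commute y (x ^ j) := hxy.zpow_right j
    rcases hi with rfl | rfl <;> rcases hj with rfl | rfl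
    · exact h1.eq
    · exact (h1.mul_right h2).eq
    · exact (h1.mul_left h3).eq
    · exact ((h1.mul_right h2).mul_left (h3.mul_right (Commute.refl y))).eq
  have hx2 : orderOf (x ^ 2) = 2 := by rw [orderOf_pow' x (by norm_num), hx]; norm_num
  refine ⟨x, y, hxT, hyT, hx, hyX, hy, centralizer_eq_sylow h hx2 T (pow_mem hxT 2) fun t ht => ?_⟩
  have hinv : x⁻¹ ^ 2 = x ^ 2 := by
    rw [inv_pow, inv_eq_iff_mul_eq_one, ← pow_add]
    exact hx4
  have e : t * x ^ 2 * t⁻¹ = x ^ 2 := by
    rw [← conj_pow]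
    rcases hpm t ht with e | e <;> rw [e]
    exact hinv
  exact mul_inv_eq_iff_eq_mul.1 e

end Cfsg.Agent.Simple168
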