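/-
Burnside: character values on classes of coprime size, prime power classes, two primes.
-/
import Mathlib
import Cfsg.Agent.Lib.CharBasicInt
import Cfsg.Agent.Lib.CharBasicDecomp

set_option autoImplicit false

open scoped ComplexConjugate
open Polynomial

namespace Cfsg.Agent.CharInduced

open CharBasic CharBasicOrth CharBasicInt CharBasicDecomp

universe u v

/-- An average of roots of unity which is an algebraic integer is zero or of norm one. -/
theorem average_eq_zero_of_integral {ι : Type*} [Fintype ι] {m : ℕ} (hm : 0 < m) (μ : ι → ℂ)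
    (hμ : ∀ i, μ i ^ m = 1) (hint : IsIntegral ℤ ((∑ i, μ i) / (Fintype.card ι : ℂ)))
    (hlt : ‖(∑ i, μ i) / (Fintype.card ι : ℂ)‖ < 1) :
    (∑ i, μ i) / (Fintype.card ι : ℂ) = 0 := by
  classical
  set α := (∑ i, μ i) / (Fintype.card ι : ℂ) with hα
  let L := algebraicClosure ℚ ℂ
  have hmem : ∀ i, μ i ∈ L := fun i => by
    rw [mem_algebraicClosure_iff]
    exact (IsIntegral.of_pow hm (by rw [hμ i]; exact isIntegral_one)).isAlgebraic
  have hLalg : Algebra.IsAlgebraic ℚ L := ⟨fun x => by
    rw [← isAlgebraic_algebraMap_iff (R := ℚ) (S := L) (A := ℂ) (algebraMap L ℂ).injective]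
    exact mem_algebraicClosure_iff.1 x.2⟩
  let a : L := (∑ i, (⟨μ i, hmem i⟩ : L)) / (Fintype.card ι : L)
  have ha : (a : ℂ) = α := by
    simp [a, hα, IntermediateField.coe_sum]
  have hintQ : IsIntegral ℚ α := hint.tower_top
  have hminQ : minpoly ℚ a = minpoly ℚ α := by
    rw [← ha]
    exact (minpoly.algebraMap_eq (A := ℚ) (B := L) (B' := ℂ)
      (algebraMap L ℂ).injective a).symm
  have hroot : ∀ z ∈ ((minpoly ℚ α).map (algebraMap ℚ ℂ)).roots, ‖z‖ ≤ 1 := by
    intro z hz
    have hz' : z ∈ (minpoly ℚ a).rootSet ℂ := by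
      rw [hminQ, Polynomial.rootSet_def, Finset.mem_coe, Multiset.mem_toFinset]
      exact hz
    rw [← Algebra.IsAlgebraic.range_eval_eq_rootSet_minpoly (F := ℚ) (K := L) ℂ a] at hz'
    obtain ⟨φ, rfl⟩ := hz'
    have hφ : ∀ i, ‖φ (⟨μ i, hmem i⟩ : L)‖ = 1 := fun i => by
      refine Complex.norm_eq_one_of_pow_eq_one ?_ hm.ne'
      rw [← map_pow, show (⟨μ i, hmem i⟩ : L) ^ m = 1 from Subtype.ext (by simp [hμ i]), map_one]
    show ‖φ a‖ ≤ 1
    simp only [a, map_div₀, map_sum, map_natCast]
    rw [norm_div, Complex.norm_natCast]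
    refine div_le_one_of_le₀ ((norm_sum_le _ _).trans ?_) (Nat.cast_nonneg _)
    simp [hφ]
  set P := (minpoly ℚ α).map (algebraMap ℚ ℂ) with hP
  have hmon : P.Monic := (minpoly.monic hintQ).map _
  have hspl : P.Splits := IsAlgClosed.splits P
  have hαroot : α ∈ P.roots := by
    rw [Polynomial.mem_roots hmon.ne_zero, Polynomial.IsRoot, hP, Polynomial.eval_map,
      ← Polynomial.aeval_def, minpoly.aeval]
  have hcoef : ‖P.coeff 0‖ < 1 := by
    rw [Polynomial.Splits.coeff_zero_eq_prod_roots_of_monic hspl hmon, norm_mul, norm_pow, norm_neg,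
      norm_one, one_pow, one_mul, ← Multiset.cons_erase hαroot, Multiset.prod_cons, norm_mul]
    refine lt_of_le_of_lt (mul_le_of_le_one_right (norm_nonneg _) ?_) hlt
    have hs : ∀ z ∈ P.roots.erase α, ‖z‖ ≤ 1 := fun z hz => hroot z (Multiset.mem_of_mem_erase hz)
    revert hs
    generalize P.roots.erase α = s
    induction s using Multiset.induction with
    | empty => simp
    | cons b s ih =>
      intro hs
      rw [Multiset.prod_cons, norm_mul]
      exact mul_le_one₀ (hs b (Multiset.mem_cons_self b s)) (norm_nonneg _)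
        (ih fun z hz => hs z (Multiset.mem_cons_of_mem hz))
  have hZ : minpoly ℚ α = (minpoly ℤ α).map (algebraMap ℤ ℚ) :=
    minpoly.isIntegrallyClosed_eq_field_fractions' ℚ hint
  have hcoef' : P.coeff 0 = ((minpoly ℤ α).coeff 0 : ℂ) := by
    rw [hP, hZ, Polynomial.coeff_map, Polynomial.coeff_map]
    simp
  rw [hcoef', Complex.norm_intCast] at hcoef
  have h0 : (minpoly ℤ α).coeff 0 = 0 := by
    have : |(minpoly ℤ α).coeff 0| < 1 := by exact_mod_cast hcoef
    exact Int.abs_lt_one_iff.1 this
  refine (minpoly.coeff_zero_eq_zero hintQ).1 ?_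
  rw [hZ, Polynomial.coeff_map, h0, map_zero]

section

variable {G : Type u} [Group G] [Finite G] {V : Type v} [AddCommGroup V] [Module ℂ V]
  [FiniteDimensional ℂ V]

theorem character_eq_zero_or_norm_eq (ρ : Representation ℂ G V) [ρ.IsIrreducible] (g : G)
    (hcop : Nat.Coprime (Module.finrank ℂ V) (Subgroup.centralizer ({g} : Set G)).index) :
    ρ.character g = 0 ∨ ‖ρ.character g‖ = (Module.finrank ℂ V : ℝ) := by
  have := Fintype.ofFinite G
  have hpos := finrank_pos_of_irreducible ρ
  have hn : (Module.finrank ℂ V : ℂ) ≠ 0 := Nat.cast_ne_zero.2 hpos.ne'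
  obtain ⟨b, μ, -, h2, -, h4⟩ := exists_rep_eigenbasis ρ g
  have hχ : ρ.character g = ∑ i, μ i := by simpa using h4 1
  have hbez := Nat.gcd_eq_gcd_ab (Module.finrank ℂ V)
    (Subgroup.centralizer ({g} : Set G)).index
  rw [hcop.gcd_eq_one] at hbez
  set s := Nat.gcdA (Module.finrank ℂ V) (Subgroup.centralizer ({g} : Set G)).index
  set t := Nat.gcdB (Module.finrank ℂ V) (Subgroup.centralizer ({g} : Set G)).index
  have hbez' : (1 : ℂ) = (Module.finrank ℂ V : ℂ) * s +
      ((Subgroup.centralizer ({g} : Set G)).index : ℂ) * t := by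
    have := congrArg (fun k : ℤ => (k : ℂ)) hbez
    push_cast at this
    exact this
  have hint : IsIntegral ℤ (ρ.character g / (Module.finrank ℂ V : ℂ)) := by
    have h : ρ.character g / (Module.finrank ℂ V : ℂ) = (s : ℂ) * ρ.character g +
        (t : ℂ) * (((Subgroup.centralizer ({g} : Set G)).index : ℂ) * ρ.character g /
          (Module.finrank ℂ V : ℂ)) := by
      conv_lhs => rw [← one_mul (ρ.character g), hbez']
      field_simp
    rw [h]
    exact ((isIntegral_algebraMap (x := s)).mul (isIntegral_character ρ g)).add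
      ((isIntegral_algebraMap (x := t)).mul (isIntegral_classSum ρ g))
  by_cases hlt : ‖ρ.character g‖ < (Module.finrank ℂ V : ℝ)
  · left
    have h := average_eq_zero_of_integral (isOfFinOrder_of_finite g).orderOf_pos μ h2
    simp only [Fintype.card_fin, ← hχ] at h
    have h0 := h hint (by
      rw [norm_div, Complex.norm_natCast, div_lt_one (Nat.cast_pos.2 hpos)]
      exact hlt)
    exact (div_eq_zero_iff.1 h0).resolve_right hn
  · right
    exact le_antisymm (norm_character_le ρ g) (not_lt.1 hlt)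

/-- The subgroup of elements acting as scalars. -/
def scalarSubgroup (ρ : Representation ℂ G V) : Subgroup G where
  carrier := {g | ∃ w : ℂ, ρ g = w • (LinearMap.id : V →ₗ[ℂ] V)}
  one_mem' := ⟨1, by rw [map_one, one_smul]; rfl⟩
  mul_mem' := fun {a b} ⟨w, hw⟩ ⟨z, hz⟩ => ⟨w * z, by
    rw [map_mul, hw, hz]
    refine LinearMap.ext fun v => ?_
    simp [smul_smul, mul_comm]⟩
  inv_mem' := fun {a} ⟨w, hw⟩ => by
    obtain ⟨k, hk⟩ : ∃ k : ℕ, a⁻¹ = a ^ k :=
      ⟨orderOf a - 1, (eq_inv_of_mul_eq_one_left (by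
        rw [← pow_succ, Nat.sub_add_cancel (isOfFinOrder_of_finite a).orderOf_pos,
          pow_orderOf_eq_one])).symm⟩
    refine ⟨w ^ k, ?_⟩
    rw [hk, map_pow, hw]
    change (w • (1 : Module.End ℂ V)) ^ k = _
    rw [_root_.smul_pow, one_pow]
    rfl

theorem scalarSubgroup_normal (ρ : Representation ℂ G V) : (scalarSubgroup ρ).Normal := by
  refine ⟨fun a ⟨w, hw⟩ g => ⟨w, ?_⟩⟩
  refine LinearMap.ext fun v => ?_
  have hv : ρ g (ρ g⁻¹ v) = v := by
    rw [← Module.End.mul_apply, ← map_mul, mul_inv_cancel, map_one, Module.End.one_apply]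
  rw [map_mul, map_mul, hw]
  simp [hv]

theorem not_norm_eq_of_simple [IsSimpleGroup G] (hab : ¬ ∀ a b : G, a * b = b * a)
    (ρ : Representation ℂ G V) [ρ.IsIrreducible] (hρ : ρ.character ≠ fun _ => 1) (g : G)
    (hg : g ≠ 1) : ‖ρ.character g‖ ≠ (Module.finrank ℂ V : ℝ) := by
  intro h
  have hgS : g ∈ scalarSubgroup ρ := (norm_eq_finrank_iff ρ g).1 h
  rcases (scalarSubgroup_normal ρ).eq_bot_or_eq_top with hS | hS
  · exact hg (Subgroup.mem_bot.1 (hS ▸ hgS))
  have hsc : ∀ a : G, ∃ w : ℂ, ρ a = w • (LinearMap.id : V →ₗ[ℂ] V) := fun a =>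
    (hS ▸ Subgroup.mem_top a : a ∈ scalarSubgroup ρ)
  rcases (MonoidHom.normal_ker ρ).eq_bot_or_eq_top with hK | hK
  · refine hab fun a b => (MonoidHom.ker_eq_bot_iff ρ).1 hK ?_
    obtain ⟨w, hw⟩ := hsc a
    obtain ⟨z, hz⟩ := hsc b
    rw [map_mul, map_mul, hw, hz]
    refine LinearMap.ext fun v => ?_
    simp [smul_smul, mul_comm]
  · have hone : ∀ a : G, ρ.character a = (Module.finrank ℂ V : ℂ) := fun a =>
      (character_eq_finrank_iff ρ a).2 (MonoidHom.mem_ker.1 (hK ▸ Subgroup.mem_top a))
    have := Fintype.ofFinite G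
    have h1 := classInner_character_irreducible_self ρ
    rw [show ρ.character = fun _ => (Module.finrank ℂ V : ℂ) from funext hone, classInner,
      Finset.sum_const, Finset.card_univ, ← Nat.card_eq_fintype_card, Complex.conj_natCast,
      nsmul_eq_mul, inv_mul_cancel_left₀ (Nat.cast_ne_zero.2 Nat.card_pos.ne'), ← Nat.cast_mul,
      Nat.cast_eq_one, mul_eq_one] at h1
    exact hρ (funext fun a => by rw [hone a, h1.1, Nat.cast_one])

end

theorem prime_card_of_simple_comm {G : Type u} [Group G] [Finite G] [IsSimpleGroup G]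
    (hab : ∀ a b : G, a * b = b * a) : (Nat.card G).Prime := by
  let _ : CommGroup G := { ‹Group G› with mul_comm := hab }
  exact IsSimpleGroup.prime_card

/-- Burnside: a finite simple group with a class of prime power size has prime order. -/
theorem prime_card_of_class_prime_pow {G : Type u} [Group G] [Finite G] [IsSimpleGroup G]
    (p k : ℕ) (hp : p.Prime) (g : G) (hg : g ≠ 1)
    (hclass : (Subgroup.centralizer ({g} : Set G)).index = p ^ k) : (Nat.card G).Prime := by
  classical
  by_cases hab : ∀ a b : G, a * b = b * a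
  · exact prime_card_of_simple_comm hab
  exfalso
  have := Fintype.ofFinite G
  have hsum := sum_irr_mul_conj g (1 : G)
  rw [if_neg fun h => hg (isConj_one_left.1 h)] at hsum
  have hterm : ∀ χ : IrrCharacter G, χ ≠ trivIrr G →
      ∃ z : ℂ, IsIntegral ℤ z ∧ (χ : G → ℂ) g * conj ((χ : G → ℂ) 1) = (p : ℂ) * z := by
    intro χ hχ
    obtain ⟨n, ρ, hρ, he⟩ := χ.2
    have hd : (χ : G → ℂ) 1 = Module.finrank ℂ (Fin n → ℂ) := by rw [← he, Representation.char_one]
    rw [hd, Complex.conj_natCast, ← he]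
    by_cases hdvd : p ∣ Module.finrank ℂ (Fin n → ℂ)
    · obtain ⟨c, hc⟩ := hdvd
      refine ⟨(c : ℂ) * ρ.character g,
        (isIntegral_algebraMap (x := (c : ℤ))).mul (isIntegral_character ρ g), ?_⟩
      rw [hc]
      push_cast
      ring
    · refine ⟨0, isIntegral_zero, ?_⟩
      have hcop : Nat.Coprime (Module.finrank ℂ (Fin n → ℂ))
          (Subgroup.centralizer ({g} : Set G)).index := by
        rw [hclass]
        exact Nat.Coprime.pow_right k ((hp.coprime_iff_not_dvd.2 hdvd).symm)
      have hne : ρ.character ≠ fun _ => 1 := fun h => hχ (Subtype.ext (he ▸ h))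
      rw [(character_eq_zero_or_norm_eq ρ g hcop).resolve_right
        (not_norm_eq_of_simple hab ρ hne g hg), zero_mul, mul_zero]
  rw [← Finset.add_sum_erase _ _ (Finset.mem_univ (trivIrr G))] at hsum
  have h1 : ((trivIrr G : IrrCharacter G) : G → ℂ) g *
      conj (((trivIrr G : IrrCharacter G) : G → ℂ) 1) = 1 := by
    simp [trivIrr]
  rw [h1] at hsum
  choose z hz hz' using fun χ : {χ : IrrCharacter G // χ ≠ trivIrr G} => hterm χ.1 χ.2
  rw [Finset.sum_subtype (p := fun χ : IrrCharacter G => χ ≠ trivIrr G) _ (fun χ => by simp)] at hsum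
  simp only [hz'] at hsum
  rw [← Finset.mul_sum] at hsum
  have hint : IsIntegral ℤ (∑ χ, z χ) := IsIntegral.sum _ fun χ _ => hz χ
  have hpinv : (((1 : ℕ) : ℂ) / (p : ℕ)) = - ∑ χ, z χ := by
    rw [Nat.cast_one, div_eq_iff (Nat.cast_ne_zero.2 hp.ne_zero)]
    linear_combination hsum
  exact hp.not_dvd_one (dvd_of_isIntegral_div hp.ne_zero (hpinv ▸ hint.neg))

theorem solvable_of_card_two_primes_aux (p q : ℕ) (hp : p.Prime) (hq : q.Prime) (N : ℕ) :
    ∀ (a b : ℕ) {G : Type u} [Group G] [Finite G], Nat.card G = N → N = p ^ a * q ^ b →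
      Group.IsSolvable G := by
  induction N using Nat.strong_induction_on with
  | _ N ih =>
    intro a b G _ _ hN hab
    have hdiv : ∀ d, d ∣ Nat.card G → ∃ i j, d = p ^ i * q ^ j := by
      intro d hd
      rw [hN, hab] at hd
      obtain ⟨y, z, hy, hz, rfl⟩ := Nat.dvd_mul.1 hd
      obtain ⟨i, -, rfl⟩ := (Nat.dvd_prime_pow hp).1 hy
      obtain ⟨j, -, rfl⟩ := (Nat.dvd_prime_pow hq).1 hz
      exact ⟨i, j, rfl⟩
    rcases subsingleton_or_nontrivial G with hs | hnt
    · infer_instance
    by_cases hsimple : IsSimpleGroup G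
    · suffices hpr : (Nat.card G).Prime by
        have := Fact.mk hpr
        have hcyc : IsCyclic G := isCyclic_of_prime_card rfl
        exact Group.isSolvable_of_comm fun x y => IsCyclic.isMulCommutative.is_comm.comm x y
      obtain ⟨r, hr, hrdvd⟩ := Nat.exists_prime_and_dvd
        (Finite.one_lt_card (α := G)).ne'
      have := Fact.mk hr
      obtain ⟨P⟩ : Nonempty (Sylow r G) := inferInstance
      have hPne : (P : Subgroup G) ≠ ⊥ := fun h => by
        have := P.not_dvd_index
        rw [h, Subgroup.index_bot] at this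
        exact this hrdvd
      have : Nontrivial (P : Subgroup G) := (Subgroup.nontrivial_iff_ne_bot _).2 hPne
      have hPg : IsPGroup r (P : Subgroup G) := P.isPGroup'
      have := hPg.center_nontrivial
      obtain ⟨z, hz⟩ := exists_ne (1 : Subgroup.center (P : Subgroup G))
      have hz1 : ((z : (P : Subgroup G)) : G) ≠ 1 := fun h => hz (Subtype.ext (Subtype.ext h))
      have hle : (P : Subgroup G) ≤ Subgroup.centralizer ({((z : (P : Subgroup G)) : G)} : Set G) := by
        intro x hx
        rw [Subgroup.mem_centralizer_iff]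
        rintro y rfl
        exact (congrArg Subtype.val (Subgroup.mem_center_iff.1 z.2 ⟨x, hx⟩)).symm
      have hidx := Subgroup.index_dvd_of_le hle
      obtain ⟨i, j, hij⟩ := hdiv _ (Subgroup.index_dvd_card
        (Subgroup.centralizer ({((z : (P : Subgroup G)) : G)} : Set G)))
      have hnd : ¬ r ∣ p ^ i * q ^ j := fun h =>
        P.not_dvd_index ((hij ▸ h : r ∣ _).trans hidx)
      have hrd : r ∣ p ^ a * q ^ b := hab ▸ hN ▸ hrdvd
      rcases (Nat.Prime.dvd_mul hr).1 hrd with h | h
      · have hrp := (Nat.prime_dvd_prime_iff_eq hr hp).1 (hr.dvd_of_dvd_pow h)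
        subst hrp
        have hi : i = 0 := by
          by_contra hi
          exact hnd (dvd_mul_of_dvd_left (dvd_pow_self r hi) _)
        subst hi
        rw [pow_zero, one_mul] at hij
        exact prime_card_of_class_prime_pow q j hq _ hz1 hij
      · have hrq := (Nat.prime_dvd_prime_iff_eq hr hq).1 (hr.dvd_of_dvd_pow h)
        subst hrq
        have hj : j = 0 := by
          by_contra hj
          exact hnd (dvd_mul_of_dvd_right (dvd_pow_self r hj) _)
        subst hj
        rw [pow_zero, mul_one] at hij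
        exact prime_card_of_class_prime_pow p i hp _ hz1 hij
    · obtain ⟨K, hK, hK1, hK2⟩ : ∃ K : Subgroup G, K.Normal ∧ K ≠ ⊥ ∧ K ≠ ⊤ := by
        by_contra hc
        push Not at hc
        refine hsimple ⟨fun K hK => ?_⟩
        by_cases h : K = ⊥
        · exact Or.inl h
        · exact Or.inr (hc K hK h)
      obtain ⟨i, j, hij⟩ := hdiv _ (Subgroup.card_subgroup_dvd_card K)
      have hKlt : Nat.card K < N := by
        rw [← hN]
        refine lt_of_le_of_ne (Subgroup.card_le_card_group K) fun h => hK2 ?_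
        exact (Subgroup.card_eq_iff_eq_top K).1 h
      have h1 := K.card_eq_card_quotient_mul_card_subgroup
      have hQlt : Nat.card (G ⧸ K) < N := by
        rw [← hN, h1]
        exact lt_mul_of_one_lt_right Nat.card_pos (K.one_lt_card_iff_ne_bot.2 hK1)
      obtain ⟨i', j', hij'⟩ := hdiv _ ⟨Nat.card K, h1⟩
      have hsK : Group.IsSolvable K := ih _ hKlt i j rfl hij
      have hsQ : Group.IsSolvable (G ⧸ K) := ih _ hQlt i' j' rfl hij'
      exact Group.isSolvable_of_ker_le_range K.subtype (QuotientGroup.mk' K) (by simp)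

theorem solvable_of_card_two_primes {G : Type u} [Group G] [Finite G] (p q a b : ℕ)
    (hp : p.Prime) (hq : q.Prime) (hcard : Nat.card G = p ^ a * q ^ b) : Group.IsSolvable G :=
  solvable_of_card_two_primes_aux p q hp hq _ a b hcard rfl

end Cfsg.Agent.CharInduced
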