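import Mathlib

set_option autoImplicit false

/-!
An isomorphism of two finite groups of the same order from two labelled permutation actions.
-/

namespace Cfsg.Agent.IsoGraph

variable {A B : Type*} [Group A] [Finite A] [Group B] [Finite B]
variable {X Y K : Type*} [MulAction B Y]

/-- Pairs of elements acting in the same way on a common labelling. -/
def graphSubgroup (act : A → X → X) (hact : ∀ a b x, act (a * b) x = act a (act b x))
    (hone : ∀ x, act 1 x = x) (lab : K → X) (pt : K → Y) : Subgroup (A × B) :=
  let M : Submonoid (A × B) :=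
    { carrier := {x : A × B | ∀ k, ∃ l, act x.1 (lab k) = lab l ∧ x.2 • pt k = pt l}
      one_mem' := fun k => ⟨k, hone _, one_smul _ _⟩
      mul_mem' := fun {x y} hx hy k => by
        obtain ⟨l, h1, h2⟩ := hy k
        obtain ⟨m, h3, h4⟩ := hx l
        exact ⟨m, by rw [Prod.fst_mul, hact, h1, h3], by rw [Prod.snd_mul, mul_smul, h2, h4]⟩ }
  { M with
    inv_mem' := fun {x} hx => by
      have h : x⁻¹ = x ^ (orderOf x - 1) := by
        refine inv_eq_of_mul_eq_one_right ?_
        rw [← pow_succ', Nat.sub_add_cancel (orderOf_pos x), pow_orderOf_eq_one]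
      rw [h]
      exact M.pow_mem hx _ }

theorem mem_graphSubgroup {act : A → X → X} {hact : ∀ a b x, act (a * b) x = act a (act b x)}
    {hone : ∀ x, act 1 x = x} {lab : K → X} {pt : K → Y} {x : A × B} :
    x ∈ graphSubgroup act hact hone lab pt ↔
      ∀ k, ∃ l, act x.1 (lab k) = lab l ∧ x.2 • pt k = pt l :=
  Iff.rfl

/-- Two groups of equal order are isomorphic if a generating set of one is matched, on a labelled
set on which it acts faithfully, by elements of the other. -/
theorem nonempty_equiv (hcard : Nat.card A = Nat.card B)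
    (act : A → X → X) (hact : ∀ a b x, act (a * b) x = act a (act b x))
    (hone : ∀ x, act 1 x = x) (lab : K → X) (pt : K → Y) (hlab : Function.Injective lab)
    (hfaith : ∀ b : B, (∀ k, b • pt k = pt k) → b = 1)
    (S : Set B) (hS : Subgroup.closure S = ⊤)
    (hgen : ∀ b ∈ S, ∃ a : A, ∀ k, ∃ l, act a (lab k) = lab l ∧ b • pt k = pt l) :
    Nonempty (A ≃* B) := by
  let R := graphSubgroup (B := B) act hact hone lab pt
  let p₁ : R →* A := (MonoidHom.fst A B).comp R.subtype
  let p₂ : R →* B := (MonoidHom.snd A B).comp R.subtype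
  have h1 : Function.Injective p₁ := by
    rw [injective_iff_map_eq_one]
    rintro ⟨⟨a, b⟩, hr⟩ (ha : a = 1)
    subst ha
    have : b = 1 := hfaith b fun k => by
      obtain ⟨l, h, h'⟩ := hr k
      rw [hone] at h
      exact h'.trans (by rw [hlab h])
    exact Subtype.ext (Prod.ext rfl this)
  have h2 : Function.Surjective p₂ := by
    rw [← MonoidHom.range_eq_top, eq_top_iff, ← hS, Subgroup.closure_le]
    intro b hb
    obtain ⟨a, ha⟩ := hgen b hb
    exact ⟨⟨(a, b), ha⟩, rfl⟩
  have e1 := Nat.card_le_card_of_injective p₁ h1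
  have e2 := Nat.card_le_card_of_surjective p₂ h2
  have b1 : Function.Bijective p₁ :=
    (Nat.bijective_iff_injective_and_card p₁).2 ⟨h1, by omega⟩
  have b2 : Function.Bijective p₂ :=
    (Nat.bijective_iff_surjective_and_card p₂).2 ⟨h2, by omega⟩
  exact ⟨(MulEquiv.ofBijective p₁ b1).symm.trans (MulEquiv.ofBijective p₂ b2)⟩

end Cfsg.Agent.IsoGraph
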