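import Cfsg.Prelude.Def_Classical
import Cfsg.Agent.Lib.PSLCard

/-!
Generation of `SL n F` by transvections, perfectness, simplicity of `PSL n F`.
-/

set_option autoImplicit false

namespace Cfsg.Agent.PSLSimple

open Matrix Matrix.SpecialLinearGroup
open scoped MatrixGroups commutatorElement LinearAlgebra.Projectivization Pointwise

variable {ι : Type*} [Fintype ι] [DecidableEq ι] {F : Type*} [Field F]

/-- Action of an elementary transvection on a column vector. -/
theorem transvection_mulVec {i j : ι} (hij : i ≠ j) (c : F) (w : ι → F) :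
    (SpecialLinearGroup.transvection hij c).1 *ᵥ w = w + Pi.single i (c * w j) := by
  rw [SpecialLinearGroup.transvection_coe, Matrix.add_mulVec, Matrix.one_mulVec,
    Matrix.single_mulVec]
  congr 1

theorem mulVec_mul (A B : SpecialLinearGroup ι F) (w : ι → F) :
    (A * B).1 *ᵥ w = A.1 *ᵥ (B.1 *ᵥ w) :=
  (Matrix.mulVec_mulVec w A.1 B.1).symm

/-- `diag(a, a⁻¹)` in coordinates `i, j` as a product of six transvections. -/
theorem diag2n_decompose {i j : ι} (hij : i ≠ j) {a : F} (ha : a ≠ 0) :
    diag2n hij a ha = SpecialLinearGroup.transvection hij a *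
      SpecialLinearGroup.transvection hij.symm (-a⁻¹) *
      SpecialLinearGroup.transvection hij a *
      SpecialLinearGroup.transvection hij (-1) *
      SpecialLinearGroup.transvection hij.symm 1 *
      SpecialLinearGroup.transvection hij (-1) := by
  refine Subtype.ext <| Matrix.ext_iff_mulVec.2 fun w => ?_
  ext k
  simp only [mulVec_mul, transvection_mulVec,
    diag2n_coe, Matrix.mulVec_diagonal]
  by_cases hki : k = i
  · subst hki
    simp [hij, hij.symm]
    field_simp
    ring
  · by_cases hkj : k = j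
    · subst hkj
      simp [hij, hki]
      field_simp
      ring
    · simp [hki, hkj]

/-- `SL ι F` is generated by elementary transvections. -/
theorem transvection_induction [Nontrivial ι] (P : SpecialLinearGroup ι F → Prop)
    (htransvec : ∀ (i j : ι) (h : i ≠ j) (c : F), P (SpecialLinearGroup.transvection h c))
    (hmul : ∀ A B, P A → P B → P (A * B)) (A : SpecialLinearGroup ι F) : P A := by
  refine diagonal_transvection_induction' P A (fun i j hij c hc => ?_) htransvec hmul
  rw [diag2n_decompose hij hc]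
  refine hmul _ _ (hmul _ _ (hmul _ _ (hmul _ _ (hmul _ _ ?_ ?_) ?_) ?_) ?_) ?_
  all_goals exact htransvec _ _ _ _

/-- A subgroup containing all elementary transvections is everything. -/
theorem eq_top_of_transvection_mem [Nontrivial ι] (H : Subgroup (SpecialLinearGroup ι F))
    (h : ∀ (i j : ι) (hij : i ≠ j) (c : F), SpecialLinearGroup.transvection hij c ∈ H) :
    H = ⊤ :=
  (Subgroup.eq_top_iff' H).2 fun A =>
    transvection_induction (fun A => A ∈ H) h (fun _ _ => H.mul_mem) A

/-- `[t_ik(a), t_kj(b)] = t_ij(ab)`. -/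
theorem commutator_transvection {i j k : ι} (hik : i ≠ k) (hkj : k ≠ j) (hij : i ≠ j) (a b : F) :
    ⁅SpecialLinearGroup.transvection hik a, SpecialLinearGroup.transvection hkj b⁆ =
      SpecialLinearGroup.transvection hij (a * b) := by
  refine Subtype.ext <| Matrix.ext_iff_mulVec.2 fun w => ?_
  ext l
  simp only [commutatorElement_def, SpecialLinearGroup.transvection_inv,
    mulVec_mul, transvection_mulVec]
  by_cases hli : l = i
  · subst hli
    simp [hik, hkj.symm, hij, hij.symm, hik.symm, hkj]
    ring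
  · by_cases hlk : l = k
    · subst hlk
      simp [hli, hij.symm, hkj.symm, hkj]
    · simp [hli, hlk]

theorem exists_third (h3 : 3 ≤ Fintype.card ι) (i j : ι) : ∃ k, k ≠ i ∧ k ≠ j := by
  classical
  by_contra hc
  have hsub : (Finset.univ : Finset ι) ⊆ {i, j} := fun k _ => by
    simp only [Finset.mem_insert, Finset.mem_singleton]
    by_contra hk
    push Not at hk
    exact hc ⟨k, hk.1, hk.2⟩
  have := (Finset.card_le_card hsub).trans Finset.card_le_two
  simp at this
  omega

theorem transvection_mem_commutatorSet (h3 : 3 ≤ Fintype.card ι) {i j : ι} (hij : i ≠ j) (c : F) :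
    SpecialLinearGroup.transvection hij c ∈ commutatorSet (SpecialLinearGroup ι F) := by
  obtain ⟨k, hki, hkj⟩ := exists_third h3 i j
  exact ⟨SpecialLinearGroup.transvection hki.symm c, SpecialLinearGroup.transvection hkj 1,
    by rw [commutator_transvection hki.symm hkj hij, mul_one]⟩

/-- `SL ι F` is perfect for `|ι| ≥ 3`. -/
theorem commutator_SL_eq_top (h3 : 3 ≤ Fintype.card ι) :
    commutator (SpecialLinearGroup ι F) = ⊤ := by
  haveI : Nontrivial ι := Fintype.one_lt_card_iff_nontrivial.1 (by omega)
  refine eq_top_of_transvection_mem _ fun i j hij c => ?_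
  rw [commutator_eq_closure]
  exact Subgroup.subset_closure (transvection_mem_commutatorSet h3 hij c)

theorem exists_sq_ne_one (hF : 4 ≤ Nat.card F) : ∃ a : F, a ≠ 0 ∧ a ^ 2 ≠ 1 := by
  classical
  have : Finite F := (Nat.card_pos_iff.1 (by omega)).2
  let := Fintype.ofFinite F
  by_contra hc
  push Not at hc
  have hsub : (Finset.univ : Finset F) ⊆ {0, 1, -1} := fun a _ => by
    by_cases ha : a = 0
    · simp [ha]
    · rcases sq_eq_one_iff.1 (hc a ha) with h | h <;> simp [h]
  have := (Finset.card_le_card hsub).trans Finset.card_le_three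
  rw [Finset.card_univ, ← Nat.card_eq_fintype_card] at this
  omega

/-- `SL_n(F)` is perfect except `SL_2(2)`, `SL_2(3)`. -/
theorem commutator_SL_fin_eq_top {n : ℕ} (hn : 2 ≤ n)
    (h2 : n = 2 → ∃ a : F, a ≠ 0 ∧ a ^ 2 ≠ 1) :
    commutator (SpecialLinearGroup (Fin n) F) = ⊤ := by
  rcases eq_or_lt_of_le hn with rfl | hlt
  · obtain ⟨a, ha, ha2⟩ := h2 rfl
    exact SL2.commutator_eq_top ha ha2
  · exact commutator_SL_eq_top (by simp; omega)

theorem commutator_PSL_eq_top (hperf : commutator (SpecialLinearGroup ι F) = ⊤) :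
    commutator (ProjectiveSpecialLinearGroup ι F) = ⊤ := by
  have : Group.IsPerfect (SpecialLinearGroup ι F) := ⟨hperf⟩
  have : Group.IsPerfect (ProjectiveSpecialLinearGroup ι F) := inferInstance
  exact this.commutator_eq_top

theorem iSup_iwasawaT_eq_top [Nontrivial ι] :
    iSup (PSL.iwasawaT (F := F) (ι := ι)) = ⊤ := by
  rw [← Subgroup.map_iSup]
  have h : (⨆ p : ℙ F (ι → F), lineStab (F := F) p.submodule) = ⊤ := by
    refine eq_top_of_transvection_mem _ fun i j hij c => ?_
    refine Subgroup.mem_iSup_of_mem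
      (Projectivization.mk F (Pi.single i 1 : ι → F) (Pi.single_ne_zero_iff.2 one_ne_zero)) ?_
    rw [Projectivization.submodule_mk]
    exact SL2Gen.transvection_mem_lineStab hij c
  rw [h]
  exact Subgroup.map_top_of_surjective _ (QuotientGroup.mk'_surjective _)

/-- The Iwasawa structure of `PSL ι F` on the projective space. -/
noncomputable abbrev iwasawa [Nontrivial ι] :
    MulAction.IwasawaStructure (ProjectiveSpecialLinearGroup ι F) (ℙ F (ι → F)) where
  T := PSL.iwasawaT
  is_comm p := by
    have hSL : IsMulCommutative (lineStab (F := F) (ι := ι) p.submodule) := by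
      rw [← Projectivization.mk_rep p, Projectivization.submodule_mk]
      exact lineStab_isMulCommutative_of_span p.rep p.rep_nonzero
    exact Subgroup.map_isMulCommutative _ _
  is_conj g p := by
    obtain ⟨g', rfl⟩ := QuotientGroup.mk_surjective g
    rw [Matrix.ProjectiveSpecialLinearGroup.smul_proj_mk]
    change Subgroup.map _ _ = _
    rw [PSL.smul_submodule, Matrix.SpecialLinearGroup.lineStab_smul, PSL.iwasawaT_map_conj]
  is_generator := iSup_iwasawaT_eq_top

/-- `PSL ι F` is simple whenever `SL ι F` is perfect. -/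
theorem isSimpleGroup_PSL [Nontrivial ι] (hperf : commutator (SpecialLinearGroup ι F) = ⊤) :
    IsSimpleGroup (ProjectiveSpecialLinearGroup ι F) := by
  haveI : Nontrivial (ProjectiveSpecialLinearGroup ι F) := SL2Simple.PSL_nontrivial
  exact MulAction.IwasawaStructure.isSimpleGroup (commutator_PSL_eq_top hperf) iwasawa inferInstance

theorem isSimpleGroup_PSL_fin {n : ℕ} (hn : 2 ≤ n)
    (h2 : n = 2 → ∃ a : F, a ≠ 0 ∧ a ^ 2 ≠ 1) :
    IsSimpleGroup (ProjectiveSpecialLinearGroup (Fin n) F) := by
  haveI : Nontrivial (Fin n) := Fin.nontrivial_iff_two_le.2 hn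
  exact isSimpleGroup_PSL (commutator_SL_fin_eq_top hn h2)

/-- `PSL_n(F)` is simple for a finite field with `q ≥ 4` when `n = 2`. -/
theorem isSimpleGroup_PSL_fin' {n : ℕ} (hn : 2 ≤ n) (h2 : n = 2 → 4 ≤ Nat.card F) :
    IsSimpleGroup (ProjectiveSpecialLinearGroup (Fin n) F) :=
  isSimpleGroup_PSL_fin hn fun h => exists_sq_ne_one (h2 h)

theorem not_isMulCommutative_PSL [Nontrivial ι]
    (hperf : commutator (SpecialLinearGroup ι F) = ⊤) :
    ¬ ∀ a b : ProjectiveSpecialLinearGroup ι F, a * b = b * a := by
  intro hc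
  haveI : Nontrivial (ProjectiveSpecialLinearGroup ι F) := SL2Simple.PSL_nontrivial
  have h1 := commutator_PSL_eq_top hperf
  have h2 : commutator (ProjectiveSpecialLinearGroup ι F) = ⊥ := by
    rw [commutator_eq_closure, Subgroup.closure_eq_bot_iff]
    rintro x ⟨a, b, rfl⟩
    exact commutatorElement_eq_one_iff_mul_comm.2 (hc a b)
  exact bot_ne_top (h2.symm.trans h1)

theorem not_isMulCommutative_PSL_fin {n : ℕ} (hn : 2 ≤ n) (h2 : n = 2 → 4 ≤ Nat.card F) :
    ¬ ∀ a b : ProjectiveSpecialLinearGroup (Fin n) F, a * b = b * a := by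
  haveI : Nontrivial (Fin n) := Fin.nontrivial_iff_two_le.2 hn
  exact not_isMulCommutative_PSL (commutator_SL_fin_eq_top hn fun h => exists_sq_ne_one (h2 h))

/-- The groups of `Cfsg.IsPSL` are simple. -/
theorem isSimpleGroup_of_isPSL {G : Type*} [Group G] (h : Cfsg.IsPSL G) : IsSimpleGroup G := by
  obtain ⟨F, iF, iFin, n, hn, h2, ⟨e⟩⟩ := h
  haveI := isSimpleGroup_PSL_fin' (F := F) hn fun h => by
    rw [Nat.card_eq_fintype_card]; exact h2 h
  exact e.isSimpleGroup

/-- The groups of `Cfsg.IsPSL` are not commutative. -/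
theorem not_comm_of_isPSL {G : Type*} [Group G] (h : Cfsg.IsPSL G) :
    ¬ ∀ a b : G, a * b = b * a := by
  obtain ⟨F, iF, iFin, n, hn, h2, ⟨e⟩⟩ := h
  intro hc
  refine not_isMulCommutative_PSL_fin (F := F) hn (fun h => by
    rw [Nat.card_eq_fintype_card]; exact h2 h) fun a b => ?_
  apply e.symm.injective
  rw [map_mul, map_mul]
  exact hc _ _

end Cfsg.Agent.PSLSimple
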