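import Mathlib
import Cfsg.Prelude.Def_Solvable
import Cfsg.Agent.Lib.SimpleOrderCheck
import Cfsg.Agent.Lib.PrimeCycle
import Cfsg.Agent.Lib.AltTwoCycles
import Cfsg.Agent.Lib.Simple168
import Cfsg.Agent.Lib.PSL2Small
import Cfsg.Agent.Lib.PermMinimalNormal
import Cfsg.Agent.Lib.PSLCard
import Cfsg.Agent.S0144
import Cfsg.Agent.S0256

/-!
Simple subgroups of the alternating group of degree eight.
-/

set_option autoImplicit false

namespace Cfsg.Agent.A8Subgroups

open Equiv
open scoped MatrixGroups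

/-- Whether the Sylow criterion excludes the order. -/
def killAny (n : ℕ) : Bool :=
  let qs := [3, 5, 7].filter fun q => decide (n % q = 0) && decide (n / q % q ≠ 0)
  [2, 3, 5, 7].any fun p => (List.range 7).any fun v => SimpleOrderCheck.kill n qs p v

/-- Whether a proper subgroup of index `i` is arithmetically allowed. -/
def idxOK (n i : ℕ) : Bool :=
  SimpleOrderCheck.iOK n ([3, 5, 7].filter fun q => decide (n % q = 0) && decide (n / q % q ≠ 0)) i

/-- What survives. -/
def allowed : List (ℕ × ℕ) :=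
  [(60, 5), (60, 6), (60, 7), (60, 8), (168, 7), (168, 8), (288, 8), (360, 6), (360, 7), (360, 8),
    (576, 8), (720, 8), (1344, 8), (2520, 7), (2520, 8), (2880, 8), (20160, 8)]

theorem table : ∀ x : Fin 7, ∀ y : Fin 3, ∀ z : Fin 2, ∀ w : Fin 2, ∀ i : Fin 4,
    let n := 2 ^ (x : ℕ) * 3 ^ (y : ℕ) * 5 ^ (z : ℕ) * 7 ^ (w : ℕ)
    Nat.primeFactorsList n = [n] ∨ n = 1 ∨ killAny n = true ∨ idxOK n (5 + i) = false ∨
      (n, 5 + (i : ℕ)) ∈ allowed := by decide +kernel

theorem split_dvd {n : ℕ} (h : n ∣ 20160) : ∃ (x : Fin 7) (y : Fin 3) (z : Fin 2) (w : Fin 2),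
    n = 2 ^ (x : ℕ) * 3 ^ (y : ℕ) * 5 ^ (z : ℕ) * 7 ^ (w : ℕ) := by
  obtain ⟨a, b, ha, hb, rfl⟩ := Nat.dvd_mul.1 (show n ∣ (2 ^ 6 * 3 ^ 2 * 5 ^ 1) * 7 ^ 1 by norm_num; exact h)
  obtain ⟨c, d, hc, hd, rfl⟩ := Nat.dvd_mul.1 ha
  obtain ⟨e, f, he, hf, rfl⟩ := Nat.dvd_mul.1 hc
  obtain ⟨x, hx, rfl⟩ := (Nat.dvd_prime_pow Nat.prime_two).1 he
  obtain ⟨y, hy, rfl⟩ := (Nat.dvd_prime_pow Nat.prime_three).1 hf
  obtain ⟨z, hz, rfl⟩ := (Nat.dvd_prime_pow Nat.prime_five).1 hd
  obtain ⟨w, hw, rfl⟩ := (Nat.dvd_prime_pow (show Nat.Prime 7 by norm_num)).1 hb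
  exact ⟨⟨x, by omega⟩, ⟨y, by omega⟩, ⟨z, by omega⟩, ⟨w, by omega⟩, rfl⟩

variable {G : Type*} [Group G] [Finite G]

/-- A subgroup of index 8 together with 5 forces the whole alternating group. -/
theorem card_of_index_eight [IsSimpleGroup G] (hG : ¬ IsMulCommutative G) (K : Subgroup G)
    (hK : K.index = 8) (h5 : 5 ∣ Nat.card G) : Nat.card G = 20160 := by
  classical
  have hne : K ≠ ⊤ := fun h => by rw [h, Subgroup.index_top] at hK; omega
  let e : G ⧸ K ≃ Fin 8 := (Finite.equivFin (G ⧸ K)).trans (finCongr (hK ▸ K.index_eq_card.symm))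
  let φ : G →* Perm (Fin 8) := e.permCongrHom.toMonoidHom.comp (MulAction.toPermHom G (G ⧸ K))
  have hφ : ∀ g q, φ g (e q) = e (g • q) := fun g q => by simp [φ, Equiv.permCongr_apply]
  have hinj : Function.Injective φ := by
    rw [← MonoidHom.ker_eq_bot_iff]
    rcases SimpleOrder.eq_bot_or_top φ.normal_ker with h | h
    · exact h
    · exfalso
      refine hne ((Subgroup.eq_top_iff' K).2 fun g => ?_)
      have : φ g = 1 := MonoidHom.mem_ker.1 (h ▸ Subgroup.mem_top g)
      have h1 := hφ g ((1 : G) : G ⧸ K)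
      rw [this, Perm.one_apply, EmbeddingLike.apply_eq_iff_eq, MulAction.Quotient.smul_coe,
        smul_eq_mul, mul_one, eq_comm, QuotientGroup.eq] at h1
      simpa using h1
  haveI : MulAction.IsPretransitive φ.range (Fin 8) := ⟨fun a b => by
    obtain ⟨g, hg⟩ := MulAction.exists_smul_eq G (e.symm a) (e.symm b)
    exact ⟨⟨φ g, g, rfl⟩, show φ g a = b by
      rw [← e.apply_symm_apply a, hφ, hg, e.apply_symm_apply]⟩⟩
  haveI := Fact.mk Nat.prime_five
  obtain ⟨g, hg⟩ := exists_prime_orderOf_dvd_card' 5 h5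
  have ho : orderOf (φ g) = 5 := by rw [orderOf_injective φ hinj, hg]
  have hcyc : (φ g).IsCycle ∧ (φ g).support.card = 5 := by
    have h := Equiv.Perm.isCycle_of_prime_order (σ := φ g) (by rw [ho]; norm_num)
      (by rw [ho]; exact lt_of_le_of_lt (Finset.card_le_univ _) (by simp))
    exact ⟨h, h.orderOf.symm.trans ho⟩
  have hprim := PrimeCycle.isPreprimitive_of_prime_cycle φ.range ⟨g, rfl⟩ hcyc.1
    (by rw [hcyc.2]; norm_num) (by rw [hcyc.2]; simp)
  have hA := PrimeCycle.alternatingGroup_le φ.range hprim ⟨g, rfl⟩ hcyc.1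
    (by rw [hcyc.2]; norm_num) (by rw [hcyc.2]; simp)
  have hle : φ.range ≤ alternatingGroup (Fin 8) := by
    rintro _ ⟨x, rfl⟩
    rw [Perm.mem_alternatingGroup]
    exact AltTwoCycles.hom_eq_one hG (Perm.sign.comp φ) x
  rw [Nat.card_congr (MonoidHom.ofInjective hinj).toEquiv, le_antisymm hle hA,
    nat_card_alternatingGroup, Nat.card_fin]
  rfl

theorem zmod2_cases : ∀ c : ZMod 2, c = 0 ∨ c = 1 := by decide

/-- A transvection. -/
def tv (v w : Fin 4 → ZMod 2) (h : ∑ i, w i * v i = 0) : SL(4, ZMod 2) :=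
  ⟨1 + Matrix.replicateCol Unit v * Matrix.replicateRow Unit w, by
    rw [Matrix.det_one_add_replicateCol_mul_replicateRow]; simp [dotProduct, h]⟩

theorem tv_mulVec (v w : Fin 4 → ZMod 2) (h : ∑ i, w i * v i = 0) (x : Fin 4 → ZMod 2) :
    (tv v w h).1.mulVec x = x + (∑ i, w i * x i) • v := by
  ext j
  simp [tv, Matrix.mulVec, dotProduct, Matrix.mul_apply, Matrix.add_apply, add_mul,
    Finset.sum_add_distrib, Matrix.one_apply, Finset.mul_sum, Finset.sum_mul, mul_assoc, mul_left_comm]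
  exact Finset.sum_congr rfl fun _ _ => by ring

theorem exists_functional : ∀ v u : Fin 4 → ZMod 2, v ≠ 0 → u ≠ 0 → v ≠ u →
    ∃ w : Fin 4 → ZMod 2, (∑ i, w i * v i = 1) ∧ ∑ i, w i * (u + v) i = 0 := by decide +kernel

theorem exists_perp : ∀ v : Fin 4 → ZMod 2, v ≠ 0 →
    ∃ w : Fin 4 → ZMod 2, w ≠ 0 ∧ ∑ i, w i * v i = 0 := by decide +kernel

/-- `SL(4,2)` moves any nonzero vector to any other. -/
theorem exists_move (v u : Fin 4 → ZMod 2) (hv : v ≠ 0) (hu : u ≠ 0) :
    ∃ g : SL(4, ZMod 2), g.1.mulVec v = u := by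
  by_cases h : v = u
  · exact ⟨1, by simp [h]⟩
  obtain ⟨w, h1, h2⟩ := exists_functional v u hv hu h
  refine ⟨tv (u + v) w h2, ?_⟩
  rw [tv_mulVec, h1, one_smul, ← add_assoc, add_comm v u, add_assoc, ZModModule.add_self, add_zero]

/-- The action of `SL(4,2)` on vectors. -/
@[reducible] def vecAction : MulAction SL(4, ZMod 2) (Fin 4 → ZMod 2) where
  smul g v := g.1.mulVec v
  one_smul := Matrix.one_mulVec
  mul_smul g h v := (Matrix.mulVec_mulVec v g.1 h.1).symm

theorem card_SL42 : Nat.card SL(4, ZMod 2) = 20160 := by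
  haveI : Fact (Nat.Prime 2) := ⟨Nat.prime_two⟩
  obtain ⟨e⟩ := S0256.equiv_sl
  rw [← Nat.card_congr e.toEquiv, nat_card_alternatingGroup, Nat.card_fin]
  rfl

/-- The stabiliser of a nonzero vector has order 1344. -/
theorem card_stab (v : Fin 4 → ZMod 2) (hv : v ≠ 0) :
    Nat.card {g : SL(4, ZMod 2) // g.1.mulVec v = v} = 1344 := by
  letI := vecAction
  have horb : MulAction.orbit SL(4, ZMod 2) v = {u | u ≠ 0} := by
    ext u
    refine ⟨?_, fun hu => exists_move v u hv hu⟩
    rintro ⟨g, rfl⟩ h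
    refine hv ?_
    calc v = (g⁻¹ * g) • v := by rw [inv_mul_cancel, one_smul]
      _ = g⁻¹ • (g • v) := mul_smul _ _ _
      _ = 0 := by rw [show g • v = 0 from h]; exact Matrix.mulVec_zero _
  have h := (MulAction.stabilizer SL(4, ZMod 2) v).card_mul_index
  rw [card_SL42, MulAction.index_stabilizer, horb] at h
  have h15 : ({u : Fin 4 → ZMod 2 | u ≠ 0}).ncard = 15 := by
    rw [Set.ncard_eq_toFinset_card']
    decide
  rw [h15] at h
  show Nat.card (MulAction.stabilizer SL(4, ZMod 2) v) = 1344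
  omega

/-- No simple subgroup of `A₈` has order 1344. -/
theorem card_ne_1344 [IsSimpleGroup G] (hG : ¬ IsMulCommutative G)
    (f : G →* alternatingGroup (Fin 8)) (hf : Function.Injective f) : Nat.card G ≠ 1344 := by
  intro hcard
  haveI : Fact (Nat.Prime 2) := ⟨Nat.prime_two⟩
  obtain ⟨e⟩ := S0256.result (F := ZMod 2) (ZMod.card 2)
  have hz : Subgroup.center SL(4, ZMod 2) = ⊥ := by
    rw [← Subgroup.card_eq_one, PSLCard.card_center_SL, Nat.card_zmod]; rfl
  let π : SL(4, ZMod 2) ≃* Matrix.ProjectiveSpecialLinearGroup (Fin 4) (ZMod 2) :=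
    MulEquiv.ofBijective (QuotientGroup.mk' _)
      ⟨by rw [← MonoidHom.ker_eq_bot_iff, QuotientGroup.ker_mk', hz],
        QuotientGroup.mk'_surjective _⟩
  let ψ : G →* SL(4, ZMod 2) := (π.trans e).symm.toMonoidHom.comp f
  have hψ : Function.Injective ψ := (π.trans e).symm.injective.comp hf
  letI : MulAction G (Fin 4 → ZMod 2) := @MulAction.compHom _ _ _ _ vecAction _ ψ
  have hs : ∀ (g : G) v, g • v = (ψ g).1.mulVec v := fun _ _ => rfl
  obtain ⟨S⟩ : Nonempty (Sylow 2 G) := inferInstance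
  -- a vector fixed by a Sylow 2-subgroup
  obtain ⟨v, hv, hfix⟩ : ∃ v : Fin 4 → ZMod 2, v ≠ 0 ∧ ∀ g ∈ (S : Subgroup G), g • v = v := by
    have h0 : (0 : Fin 4 → ZMod 2) ∈ MulAction.fixedPoints (S : Subgroup G) (Fin 4 → ZMod 2) :=
      fun g => (hs g.1 0).trans (Matrix.mulVec_zero _)
    obtain ⟨v, hv, hne⟩ := S.2.exists_fixed_point_of_prime_dvd_card_of_fixed_point
      (Fin 4 → ZMod 2) (by rw [Nat.card_eq_fintype_card]; decide) h0
    exact ⟨v, fun h => hne h.symm, fun g hg => hv ⟨g, hg⟩⟩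
  set K := MulAction.stabilizer G v with hK
  have hle : (S : Subgroup G) ≤ K := fun g hg => hfix g hg
  have hidx : K.index ∣ 21 := by
    refine (Subgroup.index_dvd_of_le hle).trans (dvd_of_eq ?_)
    exact SimpleOrder.sylow_index_of_eq (k := 6) (m := 21) (by rw [hcard]; norm_num) (by norm_num) S
  have h15 : K.index < 16 := by
    rw [hK, MulAction.index_stabilizer]
    refine lt_of_lt_of_eq (Set.ncard_lt_ncard (t := Set.univ) ?_) ?_
    · rw [Set.ssubset_univ_iff, Set.ne_univ_iff_exists_notMem]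
      refine ⟨0, fun ⟨g, hg⟩ => hv ?_⟩
      calc v = (g⁻¹ * g) • v := by rw [inv_mul_cancel, one_smul]
        _ = g⁻¹ • (g • v) := mul_smul _ _ _
        _ = 0 := by rw [show g • v = 0 from hg, hs]; exact Matrix.mulVec_zero _
    · rw [Set.ncard_univ, Nat.card_eq_fintype_card]; rfl
  have htop : K = ⊤ := by
    by_contra hne
    have h5 := SimpleOrder.five_le_index hG K hne
    have h := SimpleOrder.two_mul_card_dvd_factorial_index hG K hne
    have : K.index = 7 := by
      have hd : K.index ∈ Nat.divisors 21 := Nat.mem_divisors.2 ⟨hidx, by norm_num⟩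
      rw [show Nat.divisors 21 = {1, 3, 7, 21} from rfl] at hd
      simp only [Finset.mem_insert, Finset.mem_singleton] at hd
      omega
    rw [this, hcard] at h
    norm_num [Nat.factorial] at h
  -- the image is the whole stabiliser
  have hsurj : ∀ t : SL(4, ZMod 2), t.1.mulVec v = v → ∃ g, ψ g = t := by
    intro t ht
    let j : G → {g : SL(4, ZMod 2) // g.1.mulVec v = v} := fun g =>
      ⟨ψ g, (hs g v).symm.trans (show g ∈ K from htop ▸ Subgroup.mem_top g)⟩
    have hj : Function.Bijective j := (Nat.bijective_iff_injective_and_card j).2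
      ⟨fun a b h => hψ (congrArg Subtype.val h), by rw [hcard, card_stab v hv]⟩
    obtain ⟨g, hg⟩ := hj.2 ⟨t, ht⟩
    exact ⟨g, congrArg Subtype.val hg⟩
  have hfixall : ∀ g : G, g • v = v := fun g => (show g ∈ K from htop ▸ Subgroup.mem_top g)
  have hadd : ∀ (g : G) (a b : Fin 4 → ZMod 2), g • (a + b) = g • a + g • b := fun g a b => by
    rw [hs, hs, hs]; exact Matrix.mulVec_add _ _ _
  let M : Subgroup G :=
    { carrier := {g | ∀ x, g • x = x ∨ g • x = x + v}
      one_mem' := fun x => Or.inl (one_smul _ _)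
      mul_mem' := fun {a b} ha hb x => by
        rw [mul_smul]
        rcases hb x with h | h <;> rw [h]
        · exact ha x
        · rw [hadd, hfixall]
          rcases ha x with h' | h' <;> rw [h']
          · exact Or.inr rfl
          · left; rw [add_assoc, ZModModule.add_self, add_zero]
      inv_mem' := fun {a} ha x => by
        rcases ha (a⁻¹ • x) with h | h <;> rw [smul_inv_smul] at h
        · exact Or.inl h.symm
        · right
          conv_rhs => rw [h, add_assoc, ZModModule.add_self, add_zero] }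
  have hMn : M.Normal := ⟨fun m hm g x => by
    rw [mul_smul, mul_smul]
    rcases hm (g⁻¹ • x) with h | h <;> rw [h]
    · exact Or.inl (smul_inv_smul g x)
    · rw [hadd, smul_inv_smul, hfixall]; exact Or.inr rfl⟩
  obtain ⟨w, hw, hwv⟩ := exists_perp v hv
  obtain ⟨g, hg⟩ := hsurj (tv v w hwv) (by rw [tv_mulVec, hwv, zero_smul, add_zero])
  have hgM : g ∈ M := by
    intro x
    rw [hs, hg, tv_mulVec]
    rcases zmod2_cases (∑ i, w i * x i) with h | h <;> rw [h]
    · left; simp
    · right; simp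
  rcases SimpleOrder.eq_bot_or_top hMn with h | h
  · rw [h, Subgroup.mem_bot] at hgM
    refine hw (funext fun i => ?_)
    have := tv_mulVec v w hwv (Pi.single i 1)
    rw [← hg, hgM, map_one, Matrix.SpecialLinearGroup.coe_one, Matrix.one_mulVec,
      left_eq_add] at this
    simpa [Pi.single_apply, Finset.sum_ite_eq', hv] using this
  · refine hG ⟨⟨fun a b => hψ (Subtype.ext (Matrix.ext_of_mulVec_single fun i => ?_))⟩⟩
    show (ψ (a * b)).1.mulVec _ = (ψ (b * a)).1.mulVec _
    rw [← hs, ← hs, mul_smul, mul_smul]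
    have ha : a ∈ M := h ▸ Subgroup.mem_top a
    have hb : b ∈ M := h ▸ Subgroup.mem_top b
    rcases ha (Pi.single i 1) with h1 | h1 <;> rcases hb (Pi.single i 1) with h2 | h2 <;>
      simp only [h1, h2, hadd, hfixall]

/-- Orders of simple subgroups of `A₈`. -/
theorem card_cases [IsSimpleGroup G] (hG : ¬ IsMulCommutative G)
    (f : G →* alternatingGroup (Fin 8)) (hf : Function.Injective f)
    (K : Subgroup G) (hK : K ≠ ⊤) (hidx : K.index ≤ 8) :
    (Nat.card G = 60 ∧ K.index ≠ 8) ∨ (Nat.card G = 168) ∨ (Nat.card G = 360 ∧ K.index ≠ 8) ∨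
      (Nat.card G = 2520 ∧ K.index = 7) ∨ Nat.card G = 20160 := by
  have hdvd : Nat.card G ∣ 20160 := by
    have := Subgroup.card_dvd_of_injective f hf
    rwa [nat_card_alternatingGroup, Nat.card_fin] at this
  have h5 := SimpleOrder.five_le_index hG K hK
  have hnp : ¬ (Nat.card G).Prime := fun h => hG (haveI := Fact.mk h
    (isCyclic_of_prime_card (p := Nat.card G) rfl).isMulCommutative)
  have h1 : Nat.card G ≠ 1 := fun h => by
    haveI := (Nat.card_eq_one_iff_unique.1 h).1
    exact hG ⟨⟨fun a b => Subsingleton.elim _ _⟩⟩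
  obtain ⟨x, y, z, w, hn⟩ := split_dvd hdvd
  have ht := table x y z w ⟨K.index - 5, by omega⟩
  simp only [show 5 + (K.index - 5) = K.index by omega] at ht
  rw [← hn] at ht
  have hmem : (Nat.card G, K.index) ∈ allowed := by
    rcases ht with h | h | h | h | h
    · exfalso
      have : Nat.card G ∈ (Nat.card G).primeFactorsList := by rw [h]; simp
      exact hnp (Nat.prime_of_mem_primeFactorsList this)
    · exact absurd h h1
    · exfalso
      simp only [killAny, List.any_eq_true] at h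
      obtain ⟨p, -, v, -, h⟩ := h
      exact SimpleOrderCheck.card_ne_of_kill hG _ p v h rfl
    · rw [idxOK, SimpleOrderCheck.iOK_index hG _ K hK] at h
      exact absurd h (by simp)
    · exact h
  have hsol : ∀ a b, Nat.card G ≠ 2 ^ a * 3 ^ b := fun a b h => by
    haveI : Group.IsSolvable G := S0144.result 2 3 a b Nat.prime_two Nat.prime_three h
    exact hG ⟨⟨fun u v => IsSimpleGroup.comm_iff_isSolvable.2 inferInstance u v⟩⟩
  have h8 : K.index = 8 → 5 ∣ Nat.card G → Nat.card G = 20160 := fun h h5 =>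
    card_of_index_eight hG K h h5
  have h1344 := card_ne_1344 hG f hf
  simp only [allowed, List.mem_cons, List.not_mem_nil, or_false, Prod.mk.injEq] at hmem
  rcases hmem with h | h | h | h | h | h | h | h | h | h | h | h | h | h | h | h | h
  all_goals first
    | omega
    | exact absurd h.1 (hsol 5 2)
    | exact absurd h.1 (hsol 6 2)
    | exact absurd h.1 h1344
    | (have := h8 h.2 (by rw [h.1]; norm_num); omega)

end Cfsg.Agent.A8Subgroups

namespace Cfsg.Agent.A8Subgroups

open Equiv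
open scoped MatrixGroups

set_option synthInstance.maxSize 1024 in
theorem exists_functional_fix : ∀ v w u : Fin 4 → ZMod 2, v ≠ 0 → w ≠ 0 → u ≠ 0 → w ≠ v → u ≠ v →
    w ≠ u → ∃ f : Fin 4 → ZMod 2, (∑ i, f i * v i = 0) ∧ (∑ i, f i * w i = 1) ∧
      ∑ i, f i * (u + w) i = 0 := by decide +kernel

theorem toGL_bijective : Function.Bijective
    (Matrix.SpecialLinearGroup.toGL : SL(4, ZMod 2) → GL (Fin 4) (ZMod 2)) := by
  haveI : Fact (Nat.Prime 2) := ⟨Nat.prime_two⟩
  refine ⟨Matrix.SpecialLinearGroup.toGL_injective, fun g => ?_⟩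
  have hd : g.1.det = 1 := (zmod2_cases g.1.det).resolve_left
    (Matrix.det_ne_zero_of_left_inverse (B := g⁻¹.1) (by simp))
  refine ⟨⟨g.1, hd⟩, Units.ext ?_⟩
  simp [Matrix.SpecialLinearGroup.toGL]

theorem exists_glEquiv : Nonempty (GL (Fin 4) (ZMod 2) ≃* alternatingGroup (Fin 8)) := by
  obtain ⟨e⟩ := S0256.equiv_sl
  exact ⟨(MulEquiv.ofBijective _ toGL_bijective).symm.trans e.symm⟩

theorem card_stab_pair (v w : Fin 4 → ZMod 2) (hv : v ≠ 0) (hw : w ≠ 0) (hwv : w ≠ v) :
    Nat.card {g : SL(4, ZMod 2) // g.1.mulVec v = v ∧ g.1.mulVec w = w} = 96 := by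
  letI := vecAction
  set K := MulAction.stabilizer SL(4, ZMod 2) v with hK
  have horb : MulAction.orbit K w = ({u | u ≠ 0 ∧ u ≠ v} : Set (Fin 4 → ZMod 2)) := by
    ext u
    constructor
    · rintro ⟨⟨g, hg⟩, rfl⟩
      refine ⟨fun h => hw ?_, fun h => hwv ?_⟩
      · calc w = (g⁻¹ * g) • w := by rw [inv_mul_cancel, one_smul]
          _ = g⁻¹ • (g • w) := mul_smul _ _ _
          _ = 0 := by rw [show g • w = 0 from h]; exact Matrix.mulVec_zero _
      · calc w = (g⁻¹ * g) • w := by rw [inv_mul_cancel, one_smul]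
          _ = g⁻¹ • (g • w) := mul_smul _ _ _
          _ = g⁻¹ • (g • v) := by rw [show g • w = v from h, show g • v = v from hg]
          _ = v := by rw [← mul_smul, inv_mul_cancel, one_smul]
    · rintro ⟨hu, huv⟩
      by_cases h : w = u
      · exact ⟨1, (one_smul K w).trans h⟩
      obtain ⟨f, h0, h1, h2⟩ := exists_functional_fix v w u hv hw hu hwv huv h
      refine ⟨⟨tv (u + w) f h2, ?_⟩, ?_⟩
      · show (tv (u + w) f h2).1.mulVec v = v
        rw [tv_mulVec, h0, zero_smul, add_zero]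
      · show (tv (u + w) f h2).1.mulVec w = u
        rw [tv_mulVec, h1, one_smul, ← add_assoc, add_comm w u, add_assoc, ZModModule.add_self,
          add_zero]
  have hcard : ({u : Fin 4 → ZMod 2 | u ≠ 0 ∧ u ≠ v}).ncard = 14 := by
    have h15 : ({u : Fin 4 → ZMod 2 | u ≠ 0}).ncard = 15 := by
      rw [Set.ncard_eq_toFinset_card']; decide
    rw [show {u : Fin 4 → ZMod 2 | u ≠ 0 ∧ u ≠ v} = {u | u ≠ 0} \ {v} from rfl,
      Set.ncard_sdiff_singleton_of_mem (show v ∈ {u : Fin 4 → ZMod 2 | u ≠ 0} from hv), h15]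
  have h := (MulAction.stabilizer K w).card_mul_index
  rw [MulAction.index_stabilizer, horb, hcard, show Nat.card K = 1344 from card_stab v hv] at h
  rw [show Nat.card {g : SL(4, ZMod 2) // g.1.mulVec v = v ∧ g.1.mulVec w = w} =
      Nat.card (MulAction.stabilizer K w) from Nat.card_congr
        { toFun := fun g => ⟨⟨g.1, g.2.1⟩, g.2.2⟩
          invFun := fun g => ⟨g.1.1, g.1.2, g.2⟩
          left_inv := fun _ => rfl
          right_inv := fun _ => rfl }]
  omega

end Cfsg.Agent.A8Subgroups
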