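import Cfsg.Agent.Lib.SimpleZassenhausData
import Mathlib.GroupTheory.SpecificGroups.Alternating.Simple
import Mathlib.GroupTheory.Perm.Cycle.Type

/-! Simple groups of order 360 are isomorphic to each other, hence to `A₆`. -/

namespace Cfsg.Agent.Simple360

open SimpleOrder SimpleZassenhaus SimpleZassenhausData

theorem exists_mul_eq_one_three : ∀ s : ZMod 3, s ≠ 0 → ∃ u, s * u = 1 := by decide

theorem eq_zero_of_sq_add_sq : ∀ a b : ZMod 3, b * b + a * a = 0 → ((a, b) : V360) = 0 := by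
  decide

variable {G : Type*} [Group G] [Finite G] [IsSimpleGroup G]

/-- A homomorphism from a non-abelian simple group to a commutative group is trivial. -/
theorem hom_comm_eq_one (hG : ¬ IsMulCommutative G) {A : Type*} [CommGroup A] (f : G →* A)
    (g : G) : f g = 1 := by
  rcases eq_bot_or_top (MonoidHom.normal_ker f) with h | h
  · exact absurd ⟨⟨fun a b => (MonoidHom.ker_eq_bot_iff f).1 h (by
      rw [map_mul, map_mul, mul_comm])⟩⟩ hG
  · exact MonoidHom.mem_ker.1 (h ▸ Subgroup.mem_top g)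

theorem card_sylow (h : Nat.card G = 360) :
    (∀ P : Sylow 3 G, Nat.card ↥(P : Subgroup G) = 9) ∧ Nat.card (Sylow 3 G) = 10 ∧
      ∀ P : Sylow 3 G,
        Nat.card ↥(Subgroup.normalizer ((P : Subgroup G) : Set G)) = 36 := by
  have hG : ¬ IsMulCommutative G := not_comm_of_not_prime (by rw [h]; norm_num)
  have : Fact (Nat.Prime 3) := ⟨Nat.prime_three⟩
  have hn : Nat.card G = 3 ^ 2 * 40 := by norm_num [h]
  have hP : ∀ P : Sylow 3 G, Nat.card ↥(P : Subgroup G) = 9 := fun P =>
    (sylow_card_of_eq hn (by decide) P).trans (by norm_num)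
  have hN : ∀ P : Sylow 3 G,
      Nat.card ↥(Subgroup.normalizer ((P : Subgroup G) : Set G)) * Nat.card (Sylow 3 G) = 360 :=
    fun P => (congrArg (_ * ·) P.card_eq_index_normalizer).trans
      ((Subgroup.card_mul_index _).trans h)
  have hd : 3 ∣ Nat.card G := by rw [h]; norm_num
  obtain ⟨P⟩ : Nonempty (Sylow 3 G) := inferInstance
  have hmem := card_sylow_mem hn (by decide : ¬ 3 ∣ 40)
  have h5 : 5 ≤ Nat.card (Sylow 3 G) :=
    (five_le_index hG _ (normalizer_ne_top hG hd P)).trans_eq P.card_eq_index_normalizer.symm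
  have hset : (Nat.divisors 40).filter (fun d => d % 3 = 1) = {1, 4, 10, 40} := by decide
  rw [hset] at hmem
  simp only [Finset.mem_insert, Finset.mem_singleton] at hmem
  have h10 : Nat.card (Sylow 3 G) = 10 := by
    rcases hmem with h1 | h1 | h1 | h1
    · omega
    · omega
    · exact h1
    · exfalso
      refine not_normalizer_le_centralizer hG hd P ?_
      have hNP : Subgroup.normalizer ((P : Subgroup G) : Set G) = (P : Subgroup G) := by
        refine (Subgroup.eq_of_le_of_card_ge Subgroup.le_normalizer ?_).symm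
        have := hN P
        rw [h1] at this
        rw [hP]
        omega
      rw [hNP]
      have hcomm : IsMulCommutative ↥(P : Subgroup G) :=
        IsPGroup.isMulCommutative_of_card_eq_prime_sq (p := 3) ((hP P).trans (by norm_num))
      exact Subgroup.le_centralizer _
  refine ⟨hP, h10, fun Q => ?_⟩
  have := hN Q
  rw [h10] at this
  omega

theorem comm_sylow (h : Nat.card G = 360) (P : Sylow 3 G) {x y : G} (hx : x ∈ (P : Subgroup G))
    (hy : y ∈ (P : Subgroup G)) : x * y = y * x := by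
  have : Fact (Nat.Prime 3) := ⟨Nat.prime_three⟩
  have hcomm : IsMulCommutative ↥(P : Subgroup G) :=
    IsPGroup.isMulCommutative_of_card_eq_prime_sq (p := 3)
      (((card_sylow h).1 P).trans (by norm_num))
  exact (Subgroup.le_centralizer _ hy) x hx

/-- Two Sylow 3-subgroups meet trivially. -/
theorem inter_eq_bot (h : Nat.card G = 360) (P Q : Sylow 3 G) (hPQ : Q ≠ P) :
    (P : Subgroup G) ⊓ Q = ⊥ := by
  classical
  have : Fact (Nat.Prime 3) := ⟨Nat.prime_three⟩
  obtain ⟨hP, h10, hN⟩ := card_sylow h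
  have hG : ¬ IsMulCommutative G := not_comm_of_not_prime (by rw [h]; norm_num)
  by_contra hne
  set Z := (P : Subgroup G) ⊓ Q with hZ
  set N := Subgroup.normalizer (Z : Set G) with hNZ
  have hle : ∀ R : Sylow 3 G, Z ≤ R → (R : Subgroup G) ≤ N := fun R hR y hy => by
    rw [hNZ, Subgroup.mem_normalizer_iff]
    intro z
    constructor
    · intro hz
      rwa [comm_sylow h R hy (hR hz), mul_inv_cancel_right]
    · intro hz
      have hzR : y * z * y⁻¹ ∈ (R : Subgroup G) := hR hz
      have hzR' : z ∈ (R : Subgroup G) := by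
        have := mul_mem (mul_mem (inv_mem hy) hzR) hy
        simpa [mul_assoc] using this
      rwa [comm_sylow h R hy hzR', mul_inv_cancel_right] at hz
  have hPN := hle P inf_le_left
  have hQN := hle Q inf_le_right
  have hNtop : N ≠ ⊤ := by
    intro ht
    rcases eq_bot_or_top (Subgroup.normalizer_eq_top_iff.1 ht) with h' | h'
    · exact hne h'
    · have h1 : Nat.card ↥Z ≤ Nat.card ↥(P : Subgroup G) :=
        Nat.le_of_dvd Nat.card_pos (Subgroup.card_dvd_of_le inf_le_left)
      rw [h', Subgroup.card_top, h, hP] at h1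
      omega
  have hidx : 6 ≤ N.index := le_index hG (fun i hi => by rw [h]; interval_cases i <;> decide) N hNtop
  have hmul := N.card_mul_index
  rw [h] at hmul
  have h9 : 9 ∣ Nat.card ↥N := hP P ▸ Subgroup.card_dvd_of_le hPN
  have hs : Nat.card (Sylow 3 ↥N) ≠ 1 := by
    intro h1
    have := (Nat.card_eq_one_iff_unique.1 h1).1
    have hh := Subsingleton.elim (Sylow.subtype P hPN) (Sylow.subtype Q hQN)
    exact hPQ (Sylow.subtype_injective hh).symm
  have hdvd : Nat.card (Sylow 3 ↥N) ∣ Nat.card ↥N / 9 := by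
    have hh := (Sylow.subtype P hPN).card_dvd_index
    have hc : Nat.card ↥((Sylow.subtype P hPN : Sylow 3 ↥N) : Subgroup ↥N) = 9 := by
      rw [Sylow.coe_subtype, Nat.card_congr (Subgroup.subgroupOfEquivOfLe hPN).toEquiv, hP]
    have hh' := ((Sylow.subtype P hPN : Sylow 3 ↥N) : Subgroup ↥N).card_mul_index
    rw [hc] at hh'
    rw [← hh', Nat.mul_div_cancel_left _ (by norm_num)]
    exact hh
  have hmod := card_sylow_modEq_one 3 ↥N
  obtain ⟨c, hc⟩ := h9
  rw [hc, Nat.mul_div_cancel_left _ (by norm_num : 0 < 9)] at hdvd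
  rw [hc] at hmul
  have hc6 : c ≤ 6 := by nlinarith
  have hc4 : c = 4 ∧ Nat.card (Sylow 3 ↥N) = 4 := by
    have hle' : Nat.card (Sylow 3 ↥N) ≤ c := Nat.le_of_dvd (by
      rcases Nat.eq_zero_or_pos c with rfl | hc0
      · simp at hmul
      · exact hc0) hdvd
    rw [Nat.ModEq] at hmod
    have h0 : Nat.card (Sylow 3 ↥N) ≠ 0 := Nat.card_pos.ne'
    generalize Nat.card (Sylow 3 ↥N) = n at *
    interval_cases c <;> interval_cases n <;> omega
  -- `P` is self-normalizing in `N`
  have hodd : ∀ u : G, u ∈ N → u ∈ Subgroup.normalizer ((P : Subgroup G) : Set G) →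
      u ∈ (P : Subgroup G) := by
    intro u huN huP
    have h1 := (Sylow.subtype P hPN).card_eq_index_normalizer
    rw [hc4.2] at h1
    set M := Subgroup.normalizer (((Sylow.subtype P hPN : Sylow 3 ↥N) : Subgroup ↥N) : Set ↥N)
    have h2 := M.card_mul_index
    rw [show M.index = 4 from h1.symm, hc, hc4.1] at h2
    have h3 : ((Sylow.subtype P hPN : Sylow 3 ↥N) : Subgroup ↥N) = M := by
      refine Subgroup.eq_of_le_of_card_ge Subgroup.le_normalizer ?_
      rw [Sylow.coe_subtype, Nat.card_congr (Subgroup.subgroupOfEquivOfLe hPN).toEquiv, hP]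
      omega
    have h4 : (⟨u, huN⟩ : ↥N) ∈ M := by
      rw [Subgroup.mem_normalizer_iff]
      intro z
      simp only [Sylow.coe_subtype, Subgroup.mem_subgroupOf, Subgroup.coe_mul, Subgroup.coe_inv]
      exact Subgroup.mem_normalizer_iff.1 huP z
    rw [← h3, Sylow.coe_subtype, Subgroup.mem_subgroupOf] at h4
    exact h4
  -- the stabilizer of `Q` in the normalizer of `P` has even order
  set NP := Subgroup.normalizer ((P : Subgroup G) : Set G)
  have horb : (MulAction.orbit ↥NP Q).ncard * Nat.card ↥(MulAction.stabilizer ↥NP Q) = 36 := by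
    rw [← MulAction.index_stabilizer, mul_comm, Subgroup.card_mul_index, hN P]
  have horb9 : (MulAction.orbit ↥NP Q).ncard ≤ 9 := by
    have hsub : MulAction.orbit ↥NP Q ⊆ {P}ᶜ := by
      rintro _ ⟨g, rfl⟩ hg
      exact hPQ (by
        have hgP : (g : G) • P = P := Sylow.smul_eq_iff_mem_normalizer.2 g.2
        have hg' : (g : G) • Q = P := hg
        exact smul_left_cancel (g : G) (hg'.trans hgP.symm))
    have := Set.ncard_le_ncard hsub (Set.toFinite _)
    rwa [Set.ncard_compl, Set.ncard_singleton, h10] at this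
  set S := MulAction.stabilizer ↥NP Q
  obtain ⟨u, hu⟩ : ∃ u : ↥S, orderOf u = 2 := by
    refine exists_prime_orderOf_dvd_card' 2 ?_
    by_contra h2
    have hd36 : Nat.card ↥S ∣ 36 := Dvd.intro_left _ horb
    have hd9 : Nat.card ↥S ∣ 9 := by
      have hco : Nat.Coprime (Nat.card ↥S) 4 :=
        (Nat.Coprime.pow_right 2 (Nat.prime_two.coprime_iff_not_dvd.2 h2).symm)
      exact hco.dvd_of_dvd_mul_left hd36
    have hS4 : 4 ≤ Nat.card ↥S := by nlinarith
    have hS9 : Nat.card ↥S = 9 := by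
      have := Nat.le_of_dvd (by norm_num) hd9
      interval_cases hh : Nat.card ↥S <;> omega
    have hPle : (P : Subgroup G) = S.map NP.subtype := by
      symm
      refine Subgroup.eq_of_le_of_card_ge ?_ ?_
      · rintro _ ⟨⟨y, hy⟩, hyS, rfl⟩
        have hyord : IsPGroup 3 ↥(Subgroup.zpowers y) := by
          have h1 : orderOf (⟨y, hy⟩ : ↥NP) ∣ 9 := hS9 ▸ (Subgroup.orderOf_coe
            (⟨_, hyS⟩ : ↥S)) ▸ orderOf_dvd_natCard (⟨_, hyS⟩ : ↥S)
          rw [← Subgroup.orderOf_coe] at h1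
          obtain ⟨j, -, hj⟩ := (Nat.dvd_prime_pow Nat.prime_three).1
            (show orderOf y ∣ 3 ^ 2 by simpa using h1)
          exact IsPGroup.of_card (n := j) (by rw [Nat.card_zpowers, hj])
        have hyP : Subgroup.zpowers y ≤ (P : Subgroup G) := fun z hz =>
          ((hyord.inf_normalizer_sylow P).le ⟨hz, Subgroup.zpowers_le.2 hy hz⟩).2
        exact hyP (Subgroup.mem_zpowers y)
      · rw [hP, ← Nat.card_congr (S.equivMapOfInjective NP.subtype NP.subtype_injective).toEquiv,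
          hS9]
    have hPQn : (P : Subgroup G) ≤ Subgroup.normalizer ((Q : Subgroup G) : Set G) := by
      intro y hy
      rw [hPle] at hy
      obtain ⟨y', hy', rfl⟩ := hy
      exact Sylow.smul_eq_iff_mem_normalizer.1 hy'
    have hle' : (P : Subgroup G) ≤ Q := fun z hz =>
      ((P.2.inf_normalizer_sylow Q).le ⟨hz, hPQn hz⟩).2
    exact hPQ (Sylow.ext (P.3 Q.2 hle'))
  set v : G := ((u : ↥NP) : G)
  have hv : orderOf v = 2 := by rw [Subgroup.orderOf_coe, Subgroup.orderOf_coe, hu]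
  have hvQ : v ∈ Subgroup.normalizer ((Q : Subgroup G) : Set G) :=
    Sylow.smul_eq_iff_mem_normalizer.1 u.2
  have hvP : v ∈ NP := (u : ↥NP).2
  have hvN : v ∈ N := by
    rw [hNZ, Subgroup.mem_normalizer_iff]
    intro z
    show (z ∈ (P : Subgroup G) ∧ z ∈ (Q : Subgroup G)) ↔
      (v * z * v⁻¹ ∈ (P : Subgroup G) ∧ v * z * v⁻¹ ∈ (Q : Subgroup G))
    rw [← Subgroup.mem_normalizer_iff.1 hvP z, ← Subgroup.mem_normalizer_iff.1 hvQ z]
  have := Subgroup.orderOf_dvd_natCard _ (hodd v hvN hvP)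
  rw [hv, hP] at this
  omega

/-- Coordinates for a simple group of order 360. -/
theorem nonempty_coord (h : Nat.card G = 360) : Nonempty (Coord J360 4 G) := by
  classical
  have : Fact (Nat.Prime 3) := ⟨Nat.prime_three⟩
  have : Fintype (Sylow 3 G) := Fintype.ofFinite _
  obtain ⟨hP, h10, hN⟩ := card_sylow h
  have hG : ¬ IsMulCommutative G := not_comm_of_not_prime (by rw [h]; norm_num)
  have hd3 : 3 ∣ Nat.card G := by rw [h]; norm_num
  obtain ⟨P⟩ : Nonempty (Sylow 3 G) := inferInstance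
  obtain ⟨Q₀, hQ₀⟩ : ∃ Q : Sylow 3 G, Q ≠ P := by
    have : Nontrivial (Sylow 3 G) := Finite.one_lt_card_iff_nontrivial.1 (by omega)
    exact exists_ne P
  set NP := Subgroup.normalizer ((P : Subgroup G) : Set G) with hNP
  have hcomm := fun {x y : G} (hx : x ∈ (P : Subgroup G)) (hy : y ∈ (P : Subgroup G)) =>
    comm_sylow h P hx hy
  have hfree : ∀ y ∈ (P : Subgroup G), y • Q₀ = Q₀ → y = 1 := by
    intro y hy hyQ
    have h2 : y ∈ (P : Subgroup G) ⊓ (Q₀ : Subgroup G) := ⟨hy, ((P.2.inf_normalizer_sylow Q₀).le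
      ⟨hy, Sylow.smul_eq_iff_mem_normalizer.1 hyQ⟩).2⟩
    rw [inter_eq_bot h P Q₀ hQ₀] at h2
    exact Subgroup.mem_bot.1 h2
  have hfix : ∀ y ∈ (P : Subgroup G), y • P = P := fun y hy =>
    Sylow.smul_eq_iff_mem_normalizer.2 (Subgroup.le_normalizer hy)
  let pt : Option ↥(P : Subgroup G) → Sylow 3 G := fun o => o.elim P fun y => (y : G) • Q₀
  have hpt : Function.Bijective pt := by
    refine (Nat.bijective_iff_injective_and_card pt).2 ⟨?_, by rw [h10, Finite.card_option, hP]⟩
    rintro (_ | a) (_ | b) e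
    · rfl
    · exact absurd ((smul_left_cancel (b : G)) ((hfix b b.2).trans e)).symm hQ₀
    · exact absurd ((smul_left_cancel (a : G)) ((hfix a a.2).trans e.symm)).symm hQ₀
    · have h1 := hfree ((b : G)⁻¹ * a) (mul_mem (inv_mem b.2) a.2)
        (by rw [mul_smul]; exact inv_smul_eq_iff.2 e)
      rw [inv_mul_eq_one] at h1
      rw [Subtype.ext h1]
  -- the two-point stabilizer
  set D := MulAction.stabilizer G P ⊓ MulAction.stabilizer G Q₀ with hD
  have hDP : ∀ {δ : G}, δ ∈ D → δ • P = P := fun hδ => hδ.1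
  have hDQ : ∀ {δ : G}, δ ∈ D → δ • Q₀ = Q₀ := fun hδ => hδ.2
  have hDN : D ≤ NP := fun δ hδ => Sylow.smul_eq_iff_mem_normalizer.1 (hDP hδ)
  have hD4 : Nat.card ↥D = 4 := by
    have hbij : Function.Bijective (fun z : ↥(P : Subgroup G) × ↥D =>
        (⟨(z.1 : G) * z.2, mul_mem (Subgroup.le_normalizer z.1.2) (hDN z.2.2)⟩ : ↥NP)) := by
      constructor
      · rintro ⟨a, δ⟩ ⟨b, ε⟩ e
        simp only [Subtype.mk.injEq] at e
        have h1 : (b : G)⁻¹ * a ∈ D := by
          rw [show (b : G)⁻¹ * a = ε * (δ : G)⁻¹ by rw [eq_mul_inv_iff_mul_eq, mul_assoc, e]; group]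
          exact mul_mem ε.2 (inv_mem δ.2)
        have h2 := hfree _ (mul_mem (inv_mem b.2) a.2) (hDQ h1)
        rw [inv_mul_eq_one] at h2
        rw [h2] at e
        exact Prod.ext (Subtype.ext h2.symm) (Subtype.ext (mul_left_cancel e))
      · rintro ⟨g, hg⟩
        have hgP : g • P = P := Sylow.smul_eq_iff_mem_normalizer.2 hg
        obtain ⟨_ | b, hb⟩ := hpt.2 (g • Q₀)
        · exact absurd (smul_left_cancel g (hb.symm.trans hgP.symm)) hQ₀
        · refine ⟨⟨b, ⟨(b : G)⁻¹ * g, ?_, ?_⟩⟩, by simp⟩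
          · show ((b : G)⁻¹ * g) • P = P
            rw [mul_smul, hgP, hfix _ (inv_mem b.2)]
          · show ((b : G)⁻¹ * g) • Q₀ = Q₀
            rw [mul_smul, inv_smul_eq_iff]; exact hb.symm
    have := Nat.card_eq_of_bijective _ hbij
    rw [Nat.card_prod, hP, hN P] at this
    omega
  have hconj : ∀ {g y : G}, g ∈ D → y ∈ (P : Subgroup G) → g * y * g⁻¹ ∈ (P : Subgroup G) :=
    fun hg hy => (Subgroup.mem_normalizer_iff.1 (hDN hg) _).1 hy
  have hptδ : ∀ {δ : G} (hδ : δ ∈ D) (y : ↥(P : Subgroup G)),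
      δ • pt (some y) = pt (some ⟨δ * y * δ⁻¹, hconj hδ y.2⟩) := by
    intro δ hδ y
    show δ • (y : G) • Q₀ = (δ * y * δ⁻¹) • Q₀
    conv_rhs => rw [← hDQ hδ]
    rw [smul_smul, smul_smul, inv_mul_cancel_right]
  -- elements of `D` centralizing `P` are trivial
  have hfaith : ∀ δ ∈ D, (∀ y ∈ (P : Subgroup G), δ * y * δ⁻¹ = y) → δ = 1 := by
    intro δ hδ hc
    have hker : δ ∈ (MulAction.toPermHom G (Sylow 3 G)).ker := by
      rw [MonoidHom.mem_ker]
      ext R : 1
      obtain ⟨o, rfl⟩ := hpt.2 R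
      rcases o with _ | y
      · exact hDP hδ
      · exact (hptδ hδ y).trans (by simp [hc _ y.2])
    have hbot : (MulAction.toPermHom G (Sylow 3 G)).ker = (⊥ : Subgroup G) := by
      refine (eq_bot_or_top (MonoidHom.normal_ker _)).resolve_right fun ht => ?_
      refine normalizer_ne_top hG hd3 P (top_le_iff.1 fun g _ => ?_)
      have hg : g ∈ (MulAction.toPermHom G (Sylow 3 G)).ker := ht ▸ Subgroup.mem_top g
      exact Sylow.smul_eq_iff_mem_normalizer.1 (Equiv.ext_iff.1 (MonoidHom.mem_ker.1 hg) P)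
    rwa [hbot, Subgroup.mem_bot] at hker
  -- involutions in `D` invert `P`
  have hinv : ∀ δ ∈ D, orderOf δ = 2 → ∀ y ∈ (P : Subgroup G), δ * y * δ⁻¹ = y⁻¹ := by
    intro δ hδ hord
    have hδ2 : δ * δ = 1 := by
      rw [← sq, ← hord]; exact pow_orderOf_eq_one δ
    let T : Subgroup G := (P : Subgroup G) ⊓ Subgroup.centralizer {δ}
    have hT : ∀ {y}, y ∈ T ↔ y ∈ (P : Subgroup G) ∧ δ * y * δ⁻¹ = y := by
      intro y
      rw [Subgroup.mem_inf, Subgroup.mem_centralizer_singleton_iff, mul_inv_eq_iff_eq_mul]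
      exact and_congr_right fun _ => eq_comm
    have hT1 : T = ⊥ := by
      by_contra hTne
      have hdvd : Nat.card ↥T ∣ 3 ^ 2 := by
        rw [show 3 ^ 2 = 9 from rfl, ← hP P]; exact Subgroup.card_dvd_of_le inf_le_left
      obtain ⟨j, hj, hjc⟩ := (Nat.dvd_prime_pow Nat.prime_three).1 hdvd
      interval_cases j
      · exact hTne (Subgroup.card_eq_one.1 hjc)
      · -- an odd permutation
        let σ := MulAction.toPermHom G (Sylow 3 G) δ
        have hsgn : Equiv.Perm.sign σ = 1 :=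
          hom_comm_eq_one hG (Equiv.Perm.sign.comp (MulAction.toPermHom G (Sylow 3 G))) δ
        have hσne : σ ≠ 1 := by
          intro e
          have := hfaith δ hδ fun y hy => by
            have h1 := hptδ hδ ⟨y, hy⟩
            have h2 : δ • pt (some ⟨y, hy⟩) = pt (some ⟨y, hy⟩) :=
              Equiv.ext_iff.1 e (pt (some ⟨y, hy⟩))
            exact (congrArg Subtype.val (Option.some.inj (hpt.1 (h2.symm.trans h1)))).symm
          rw [this, orderOf_one] at hord
          omega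
        have hσ2 : orderOf σ = 2 := by
          refine orderOf_eq_prime ?_ hσne
          rw [← map_pow, sq, hδ2, map_one]
        obtain ⟨n, hn⟩ := Equiv.Perm.cycleType_prime_order (σ := σ) (by rw [hσ2]; exact Nat.prime_two)
        rw [hσ2] at hn
        have hsupp : σ.support.card = 6 := by
          let g : {y : ↥(P : Subgroup G) // (y : G) ∉ T} → {R : Sylow 3 G // R ∈ σ.support} :=
            fun y => ⟨pt (some y.1), Equiv.Perm.mem_support.2 fun e => y.2 (hT.2 ⟨y.1.2, by
              have h1 := hptδ hδ y.1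
              exact congrArg Subtype.val (Option.some.inj (hpt.1 (h1.symm.trans e)))⟩)⟩
          have hg : Function.Bijective g := by
            refine ⟨fun a b e => Subtype.ext (Option.some.inj (hpt.1 (congrArg Subtype.val e))), ?_⟩
            rintro ⟨R, hR⟩
            obtain ⟨o, rfl⟩ := hpt.2 R
            rw [Equiv.Perm.mem_support] at hR
            rcases o with _ | y
            · exact absurd (hDP hδ) hR
            · refine ⟨⟨y, fun hy => hR ?_⟩, rfl⟩
              exact (hptδ hδ y).trans (by simp [(hT.1 hy).2])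
          have h1 := Nat.card_eq_of_bijective g hg
          rw [Nat.card_eq_finsetCard] at h1
          rw [← h1]
          have h2 : Nat.card {y : ↥(P : Subgroup G) // (y : G) ∈ T} = 3 := by
            exact (Nat.card_congr
              (Equiv.subtypeSubtypeEquivSubtype (fun {y} hy => (hT.1 hy).1))).trans
              (hjc.trans (pow_one 3))
          have h3 := Nat.card_congr (Equiv.sumCompl fun y : ↥(P : Subgroup G) => (y : G) ∈ T)
          rw [Nat.card_sum, h2, hP] at h3
          omega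
        rw [← Equiv.Perm.sum_cycleType, hn, Multiset.sum_replicate, smul_eq_mul] at hsupp
        have hn3 : n + 1 = 3 := by omega
        rw [Equiv.Perm.sign_of_cycleType, hn, hn3] at hsgn
        exact absurd hsgn (by decide)
      · have : δ = 1 := hfaith δ hδ fun y hy => (hT.1 (by
          rw [show T = (P : Subgroup G) from Subgroup.eq_of_le_of_card_ge inf_le_left
            (by rw [hP, hjc]; norm_num)]
          exact hy)).2
        rw [this, orderOf_one] at hord
        omega
    intro y hy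
    have hy' := hconj hδ hy
    have h1 : y * (δ * y * δ⁻¹) ∈ T := hT.2 ⟨mul_mem hy hy', by
      rw [show δ * (y * (δ * y * δ⁻¹)) * δ⁻¹ = (δ * y * δ⁻¹) * ((δ * δ) * y * (δ * δ)⁻¹) by group,
        hδ2, one_mul, inv_one, mul_one, hcomm hy' hy]⟩
    rw [hT1, Subgroup.mem_bot] at h1
    exact (inv_eq_of_mul_eq_one_right h1).symm
  -- `D` is cyclic
  obtain ⟨d, hdD, hd2⟩ : ∃ d ∈ D, d * d ≠ 1 := by
    by_contra hcon
    push Not at hcon
    have hord : ∀ δ ∈ D, δ ≠ 1 → orderOf δ = 2 := fun δ hδ h1 =>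
      orderOf_eq_prime (by rw [sq]; exact hcon δ hδ) h1
    have : Fintype ↥D := Fintype.ofFinite _
    obtain ⟨a, ha⟩ : ∃ a : ↥D, a ≠ 1 := by
      have : Nontrivial ↥D := Finite.one_lt_card_iff_nontrivial.1 (by omega)
      exact exists_ne 1
    obtain ⟨b, -, hb⟩ : ∃ b ∈ (Finset.univ : Finset ↥D), b ∉ ({1, a} : Finset ↥D) := by
      refine Finset.exists_mem_notMem_of_card_lt_card ?_
      rw [Finset.card_univ, ← Nat.card_eq_fintype_card, hD4]
      exact lt_of_le_of_lt Finset.card_le_two (by norm_num)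
    simp only [Finset.mem_insert, Finset.mem_singleton, not_or] at hb
    refine hb.2 (Subtype.ext ?_)
    have ha' := hord a a.2 fun e => ha (Subtype.ext e)
    have hb' := hord b b.2 fun e => hb.1 (Subtype.ext e)
    have h1 : (a : G)⁻¹ * b = 1 := hfaith _ (mul_mem (inv_mem a.2) b.2) fun y hy => by
      have e1 := hinv b b.2 hb' y hy
      have e2 := hinv a a.2 ha' y hy
      have e3 : (a : G)⁻¹ * y⁻¹ * a = y := by rw [← e2]; group
      rw [show (a : G)⁻¹ * b * y * ((a : G)⁻¹ * b)⁻¹ = (a : G)⁻¹ * (b * y * (b : G)⁻¹) * a by group,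
        e1, e3]
    exact (inv_mul_eq_one.1 h1).symm
  have hd4 : d ^ 4 = 1 := by
    rw [← hD4]
    exact Subtype.ext_iff.1 (pow_card_eq_one' (x := (⟨d, hdD⟩ : ↥D)))
  have hdd : ∀ y ∈ (P : Subgroup G), (d * d) * y * (d * d)⁻¹ = y⁻¹ :=
    hinv _ (mul_mem hdD hdD) (orderOf_eq_prime (by rw [← sq, ← pow_mul]; exact hd4) hd2)
  -- the coordinates
  obtain ⟨⟨v₀, hv₀P⟩, hv₀⟩ : ∃ y : ↥(P : Subgroup G), orderOf y = 3 :=
    exists_prime_orderOf_dvd_card' 3 (by rw [hP]; norm_num)
  have hv₀3 : v₀ ^ 3 = 1 := by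
    rw [← hv₀]; exact Subtype.ext_iff.1 (pow_orderOf_eq_one (⟨v₀, hv₀P⟩ : ↥(P : Subgroup G)))
  have hv₀ne : v₀ ≠ 1 := fun e => by
    have : (⟨v₀, hv₀P⟩ : ↥(P : Subgroup G)) = 1 := Subtype.ext e
    rw [this, orderOf_one] at hv₀
    omega
  set v₁ := d * v₀ * d⁻¹ with hv₁def
  have hv₁P : v₁ ∈ (P : Subgroup G) := hconj hdD hv₀P
  have hv₁3 : v₁ ^ 3 = 1 := by rw [hv₁def, conj_pow, hv₀3, mul_one, mul_inv_cancel]
  have hdv₁ : d * v₁ * d⁻¹ = v₀⁻¹ := by
    rw [← hdd v₀ hv₀P, hv₁def]; group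
  have hc01 : Commute v₀ v₁ := hcomm hv₀P hv₁P
  let pw : G → ZMod 3 → G := fun v a => v ^ a.val
  have hpw : ∀ {v : G}, v ^ 3 = 1 → ∀ a b, pw v (a + b) = pw v a * pw v b := by
    intro v hv a b
    show v ^ (a + b).val = v ^ a.val * v ^ b.val
    rw [ZMod.val_add, ← pow_add]
    exact (pow_eq_pow_mod (a.val + b.val) hv).symm
  have hpneg : ∀ {v : G}, v ^ 3 = 1 → ∀ a, pw v (-a) = (pw v a)⁻¹ := by
    intro v hv a
    refine (inv_eq_of_mul_eq_one_right ?_).symm
    rw [← hpw hv, add_neg_cancel]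
    exact pow_zero v
  have hpmul : ∀ {v : G}, v ^ 3 = 1 → ∀ a b, pw v (a * b) = (pw v a) ^ b.val := by
    intro v hv a b
    show v ^ (a * b).val = (v ^ a.val) ^ b.val
    rw [ZMod.val_mul, ← pow_mul]
    exact (pow_eq_pow_mod (a.val * b.val) hv).symm
  let x : V360 → G := fun t => pw v₀ t.1 * pw v₁ t.2
  have hxP : ∀ t, x t ∈ (P : Subgroup G) := fun t => mul_mem (pow_mem hv₀P _) (pow_mem hv₁P _)
  have hx : ∀ s t, x (s + t) = x s * x t := by
    intro s t
    simp only [x, Prod.fst_add, Prod.snd_add, hpw hv₀3, hpw hv₁3]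
    exact (hc01.pow_pow _ _).mul_mul_mul_comm _ _
  have hdx : ∀ t, d * x t * d⁻¹ = x (J360 t) := by
    intro t
    show d * (v₀ ^ t.1.val * v₁ ^ t.2.val) * d⁻¹ = pw v₀ (-t.2) * pw v₁ t.1
    rw [hpneg hv₀3]
    show _ = (v₀ ^ t.2.val)⁻¹ * v₁ ^ t.1.val
    rw [show d * (v₀ ^ t.1.val * v₁ ^ t.2.val) * d⁻¹ =
      d * v₀ ^ t.1.val * d⁻¹ * (d * v₁ ^ t.2.val * d⁻¹) by group, ← conj_pow, ← conj_pow, hdv₁,
      ← hv₁def, inv_pow]
    exact ((hc01.symm.pow_pow _ _).inv_right).eq
  have hx1 : ∀ t, x t = 1 → t = 0 := by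
    rintro ⟨a, b⟩ e
    have e' : x (-b, a) = 1 := by
      rw [show ((-b, a) : V360) = J360 (a, b) from rfl, ← hdx, e]; group
    have h1 : pw v₁ b = (pw v₀ a)⁻¹ := (inv_eq_of_mul_eq_one_right e).symm
    have h2 : pw v₁ a = pw v₀ b := by
      have h := (inv_eq_of_mul_eq_one_right e').symm
      rwa [hpneg hv₀3, inv_inv] at h
    have h3 : pw v₁ (b * b + a * a) = 1 := by
      rw [hpw hv₁3, hpmul hv₁3, hpmul hv₁3, h1, h2, inv_pow, ← hpmul hv₀3, ← hpmul hv₀3,
        mul_comm a b, inv_mul_cancel]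
    have hv₁ne : v₁ ≠ 1 := fun e => hv₀ne (by
      have : d⁻¹ * v₁ * d = v₀ := by rw [hv₁def]; group
      rw [← this, e]; group)
    have h4 : b * b + a * a = 0 := by
      by_contra hne'
      refine hv₁ne ?_
      obtain ⟨u, hu⟩ := exists_mul_eq_one_three _ hne'
      have h5 : pw v₁ 1 = 1 := by rw [← hu, hpmul hv₁3, h3, one_pow]
      simpa [pw, ZMod.val_one] using h5
    exact eq_zero_of_sq_add_sq a b h4
  have hxi : Function.Injective x := by
    intro s t e
    have h1 : x (s + -t) = 1 := by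
      rw [hx, e, ← hx, add_neg_cancel]
      simp [x, pw]
    exact eq_of_sub_eq_zero (by rw [sub_eq_add_neg]; exact hx1 _ h1)
  have hV : Fintype.card V360 = 9 := rfl
  exact SimpleZassenhaus.exists_coord (p := 3) hG (by norm_num) data360.hJm (r := (1, 0))
    data360.hfree hd3 (by rw [h10, hV]) P Q₀ hQ₀ (fun Q hQ => inter_eq_bot h P Q hQ)
    (by rw [hN, hV]) x hx hxi hxP d (hDN hdD) (hDQ hdD) hdx

theorem nonempty_equiv_model (h : Nat.card G = 360) :
    Nonempty (G ≃* model J360 w360) := by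
  obtain ⟨C⟩ := nonempty_coord h
  exact exists_equiv_model data360 C

omit [Group G] [Finite G] [IsSimpleGroup G] in
theorem card_alternating_six : Nat.card ↥(alternatingGroup (Fin 6)) = 360 := by
  have := nat_card_alternatingGroup (α := Fin 6)
  rw [this, Nat.card_eq_fintype_card, Fintype.card_fin]
  rfl

theorem nonempty_equiv_alternating (h : Nat.card G = 360) :
    Nonempty (G ≃* alternatingGroup (Fin 6)) := by
  have : IsSimpleGroup ↥(alternatingGroup (Fin 6)) := alternatingGroup.isSimpleGroup (by simp)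
  obtain ⟨e⟩ := nonempty_equiv_model h
  obtain ⟨f⟩ := nonempty_equiv_model (G := ↥(alternatingGroup (Fin 6))) card_alternating_six
  exact ⟨e.trans f.symm⟩

end Cfsg.Agent.Simple360
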