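import Cfsg.Agent.Lib.SimplePSLOrder
import Cfsg.Agent.Lib.Simple168
import Cfsg.Agent.Lib.PSLCard
import Cfsg.Agent.Lib.PSLSimple

/-!
Simple groups of order `p (p ^ 2 - 1) / 2` are `PSL(2,p)` for `p = 7, 11, 13, 17, 19, 23`.
-/

namespace Cfsg.Agent.SimplePSLApply

open SimpleOrder SimplePSLOrder

set_option synthInstance.maxSize 2000

theorem card_sylow_eq {G : Type*} [Group G] [Finite G] [IsSimpleGroup G]
    (hG : ¬ IsMulCommutative G) {p m : ℕ} [hp : Fact p.Prime] (hm : 2 * m = p - 1)
    (hcard : Nat.card G = p * m * (p + 1))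
    (hdiv : ∀ j < m * (p + 1) / p + 1, m * (p + 1) % (1 + p * j) = 0 → j = 0 ∨ j = 1) :
    Nat.card (Sylow p G) = p + 1 := by
  have hp2 := hp.out.two_le
  have hm0 : 0 < m := by
    rcases Nat.eq_zero_or_pos m with rfl | h
    · rw [mul_zero, zero_mul] at hcard; exact absurd hcard (Nat.card_pos).ne'
    · exact h
  have hnd : ¬ p ∣ m * (p + 1) := by
    intro h
    rcases hp.out.dvd_mul.1 h with h' | h'
    · exact absurd (Nat.le_of_dvd hm0 h') (by omega)
    · exact hp.out.not_dvd_one ((Nat.dvd_add_right dvd_rfl).1 h')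
  have hn : Nat.card G = p ^ 1 * (m * (p + 1)) := by rw [pow_one, hcard, mul_assoc]
  have hd : p ∣ Nat.card G := ⟨m * (p + 1), by rw [hcard, mul_assoc]⟩
  have h1 := card_sylow_dvd hn hnd
  have h2 : Nat.card (Sylow p G) % p = 1 :=
    Eq.trans (card_sylow_modEq_one p G) (Nat.mod_eq_of_lt hp.out.one_lt)
  have h3 := Nat.mod_add_div (Nat.card (Sylow p G)) p
  rw [h2] at h3
  rcases hdiv (Nat.card (Sylow p G) / p)
      (Nat.lt_succ_of_le (Nat.div_le_div_right (Nat.le_of_dvd (Nat.mul_pos hm0 (by omega)) h1)))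
      (by rw [h3]; exact Nat.mod_eq_zero_of_dvd h1) with h | h
  · exfalso
    rw [h] at h3
    exact card_sylow_ne_one hG hd (by omega)
  · rw [h] at h3; omega

theorem equiv_model {H : Type*} [Group H] [Finite H] [IsSimpleGroup H]
    {p m : ℕ} [hp : Fact p.Prime] {g : ZMod p} {exc : Bool} (D : Data p m g exc) (h5 : 5 ≤ p)
    (hdiv : ∀ j < m * (p + 1) / p + 1, m * (p + 1) % (1 + p * j) = 0 → j = 0 ∨ j = 1)
    (hexc : exc = true → p = 7) (hH : Nat.card H = p * m * (p + 1)) :
    Nonempty (H ≃* model p m) := by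
  have hnp : ¬ (p * m * (p + 1)).Prime :=
    Nat.not_prime_mul (fun h => by have := Nat.eq_one_of_mul_eq_one_right h; omega) (by omega)
  have hnc : ¬ IsMulCommutative H := not_comm_of_not_prime (hH ▸ hnp)
  obtain ⟨C⟩ := exists_coord hnc D.hm D.hroots hH (card_sylow_eq hnc D.hm hH hdiv)
  refine exists_equiv_model D C fun he a d ha hd hd0 hd1 hcomm => ?_
  have hp7 := hexc he
  have hm3 : m = 3 := by have := D.hm; omega
  subst hp7 hm3
  have h168 : Nat.card H = 168 := hH
  obtain ⟨s, b, hs, hse⟩ := C.affine d hd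
  have hb : b = 0 := by
    rw [hse] at hd0; simpa [aff] using hd0
  subst hb
  have hd3 : d ^ 3 = 1 := C.inj (Equiv.ext fun x => by
    rw [map_pow, map_one, pow_succ, pow_succ, pow_one, Equiv.Perm.mul_apply,
      Equiv.Perm.mul_apply, hse, aff_aff, aff_aff]
    rw [show s * s * s = s ^ 3 by ring, hs]
    simp [aff_one_zero])
  have : Fact (Nat.Prime 3) := ⟨by norm_num⟩
  have hord : orderOf d = 3 := orderOf_eq_prime hd3 hd1
  obtain ⟨Q, hQ⟩ := SmallGroupBasic.exists_sylow_of_orderOf
    (fun Q => (Simple168.card_three_data h168 Q).1) hord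
  have hle : (Q : Subgroup H) ≤ Subgroup.centralizer ((Q : Subgroup H) : Set H) := by
    intro y hy
    rw [hQ] at hy ⊢
    rw [SmallGroupBasic.centralizer_zpowers, Subgroup.mem_centralizer_singleton_iff]
    obtain ⟨j, rfl⟩ := Subgroup.mem_zpowers_iff.1 hy
    exact (Commute.zpow_self d j).eq
  have heq := Subgroup.eq_of_le_of_card_ge hle
    (by rw [(Simple168.card_three_data h168 Q).1, (Simple168.card_three_data h168 Q).2.2])
  have haQ : a ∈ Subgroup.zpowers d := by
    rw [← hQ, heq, hQ, SmallGroupBasic.centralizer_zpowers, Subgroup.mem_centralizer_singleton_iff]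
    exact hcomm.eq
  obtain ⟨j, hj⟩ := Subgroup.mem_zpowers_iff.1 haQ
  have hfix : C.φ a none = none := by
    rw [← hj, map_zpow]
    exact Equiv.Perm.zpow_apply_eq_self_of_apply_eq_self hd j
  rw [ha] at hfix
  cases hfix

/-- The general statement, given the finite data for `p`. -/
theorem nonempty_equiv {G F : Type*} [Group G] [Finite G] [IsSimpleGroup G] [Field F] [Finite F]
    {p m : ℕ} [hp : Fact p.Prime] {g : ZMod p} {exc : Bool} (D : Data p m g exc) (h5 : 5 ≤ p)
    (hdiv : ∀ j < m * (p + 1) / p + 1, m * (p + 1) % (1 + p * j) = 0 → j = 0 ∨ j = 1)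
    (hexc : exc = true → p = 7)
    (hcard : Nat.card G = p * m * (p + 1)) (hF : Nat.card F = p) :
    Nonempty (G ≃* Matrix.ProjectiveSpecialLinearGroup (Fin 2) F) := by
  have hsimp := Cfsg.Agent.PSLSimple.isSimpleGroup_PSL_fin' (F := F) (n := 2) le_rfl
    (fun _ => by omega)
  have hcard' : Nat.card (Matrix.ProjectiveSpecialLinearGroup (Fin 2) F) = p * m * (p + 1) := by
    rw [Cfsg.Agent.PSLCard.card_PSL2_odd (hF.symm ▸ hp.out.odd_of_ne_two (by omega)), hF]
    have := D.hm
    have e : p ^ 2 - 1 = 2 * m * (p + 1) := by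
      rw [this, show p ^ 2 - 1 = (p + 1) * (p - 1) by
        simpa using Nat.sq_sub_sq p 1, mul_comm]
    rw [e, show p * (2 * m * (p + 1)) = 2 * (p * m * (p + 1)) by ring]
    omega
  obtain ⟨e⟩ := equiv_model D h5 hdiv hexc hcard
  obtain ⟨e'⟩ := equiv_model D h5 hdiv hexc hcard'
  exact ⟨e.trans e'.symm⟩

theorem fact_prime_seven : Fact (Nat.Prime 7) := ⟨by norm_num⟩

attribute [local instance] fact_prime_seven

theorem data_seven : Data 7 3 (3 : ZMod 7) true := by
  refine ⟨?_, ?_, ?_, ?_, ?_, ?_, ?_, ?_⟩ <;> decide +kernel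

theorem iso_seven {G F : Type*} [Group G] [Finite G] [IsSimpleGroup G] [Field F] [Finite F]
    (h : Nat.card G = 168) (hF : Nat.card F = 7) :
    Nonempty (G ≃* Matrix.ProjectiveSpecialLinearGroup (Fin 2) F) :=
  nonempty_equiv data_seven (by norm_num) (by decide +kernel) (fun _ => rfl) h hF

theorem fact_prime_eleven : Fact (Nat.Prime 11) := ⟨by norm_num⟩

attribute [local instance] fact_prime_eleven

theorem data_eleven : Data 11 5 (2 : ZMod 11) false := by
  refine ⟨?_, ?_, ?_, ?_, ?_, ?_, ?_, ?_⟩ <;> decide +kernel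

theorem iso_eleven {G F : Type*} [Group G] [Finite G] [IsSimpleGroup G] [Field F] [Finite F]
    (h : Nat.card G = 660) (hF : Nat.card F = 11) :
    Nonempty (G ≃* Matrix.ProjectiveSpecialLinearGroup (Fin 2) F) :=
  nonempty_equiv data_eleven (by norm_num) (by decide +kernel) (by simp) h hF

theorem fact_prime_thirteen : Fact (Nat.Prime 13) := ⟨by norm_num⟩

attribute [local instance] fact_prime_thirteen

theorem data_thirteen : Data 13 6 (2 : ZMod 13) false := by
  refine ⟨?_, ?_, ?_, ?_, ?_, ?_, ?_, ?_⟩ <;> decide +kernel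

theorem iso_thirteen {G F : Type*} [Group G] [Finite G] [IsSimpleGroup G] [Field F] [Finite F]
    (h : Nat.card G = 1092) (hF : Nat.card F = 13) :
    Nonempty (G ≃* Matrix.ProjectiveSpecialLinearGroup (Fin 2) F) :=
  nonempty_equiv data_thirteen (by norm_num) (by decide +kernel) (by simp) h hF

theorem fact_prime_seventeen : Fact (Nat.Prime 17) := ⟨by norm_num⟩

attribute [local instance] fact_prime_seventeen

theorem data_seventeen : Data 17 8 (3 : ZMod 17) false := by
  refine ⟨?_, ?_, ?_, ?_, ?_, ?_, ?_, ?_⟩ <;> decide +kernel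

theorem iso_seventeen {G F : Type*} [Group G] [Finite G] [IsSimpleGroup G] [Field F] [Finite F]
    (h : Nat.card G = 2448) (hF : Nat.card F = 17) :
    Nonempty (G ≃* Matrix.ProjectiveSpecialLinearGroup (Fin 2) F) :=
  nonempty_equiv data_seventeen (by norm_num) (by decide +kernel) (by simp) h hF

theorem fact_prime_nineteen : Fact (Nat.Prime 19) := ⟨by norm_num⟩

attribute [local instance] fact_prime_nineteen

theorem data_nineteen : Data 19 9 (2 : ZMod 19) false := by
  refine ⟨?_, ?_, ?_, ?_, ?_, ?_, ?_, ?_⟩ <;> decide +kernel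

theorem iso_nineteen {G F : Type*} [Group G] [Finite G] [IsSimpleGroup G] [Field F] [Finite F]
    (h : Nat.card G = 3420) (hF : Nat.card F = 19) :
    Nonempty (G ≃* Matrix.ProjectiveSpecialLinearGroup (Fin 2) F) :=
  nonempty_equiv data_nineteen (by norm_num) (by decide +kernel) (by simp) h hF

theorem fact_prime_twentythree : Fact (Nat.Prime 23) := ⟨by norm_num⟩

attribute [local instance] fact_prime_twentythree

theorem data_twentythree : Data 23 11 (5 : ZMod 23) false := by
  refine ⟨?_, ?_, ?_, ?_, ?_, ?_, ?_, ?_⟩ <;> decide +kernel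

theorem iso_twentythree {G F : Type*} [Group G] [Finite G] [IsSimpleGroup G] [Field F] [Finite F]
    (h : Nat.card G = 6072) (hF : Nat.card F = 23) :
    Nonempty (G ≃* Matrix.ProjectiveSpecialLinearGroup (Fin 2) F) :=
  nonempty_equiv data_twentythree (by norm_num) (by decide +kernel) (by simp) h hF

end Cfsg.Agent.SimplePSLApply
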