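import Mathlib
import Cfsg.Prelude.Def_Local

set_option autoImplicit false
set_option linter.style.haveILetI false

namespace Cfsg.Agent.ComponentsBasic

open Subgroup Cfsg

variable {G : Type*} [Group G] {G' : Type*} [Group G']

/-! ### Perfect subgroups, commutators -/

/-- Three subgroup consequence: if `⁅⁅M, L⁆, L⁆ = ⊥` and `L` is perfect then `L` centralises `M`. -/
theorem commutator_eq_bot_of_perfect {L M : Subgroup G} (hL : ⁅L, L⁆ = L)
    (h : ⁅⁅M, L⁆, L⁆ = ⊥) : ⁅L, M⁆ = ⊥ := by
  have h' : ⁅⁅L, M⁆, L⁆ = ⊥ := by rwa [commutator_comm L M]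
  have := commutator_commutator_eq_bot_of_rotate (H₁ := L) (H₂ := L) (H₃ := M) h' h
  rwa [hL] at this

theorem perfect_le_derivedSeries {H : Subgroup G} (hH : ⁅H, H⁆ = H) (n : ℕ) :
    H ≤ derivedSeries G n := by
  induction n with
  | zero => simp
  | succ n ih => rw [derivedSeries_succ, ← hH]; exact commutator_mono ih ih

theorem perfect_le_of_quotient_solvable {H : Subgroup G} (hH : ⁅H, H⁆ = H) (N : Subgroup G)
    [N.Normal] [Group.IsSolvable (G ⧸ N)] : H ≤ N := by
  have h2 : ⁅H.map (QuotientGroup.mk' N), H.map (QuotientGroup.mk' N)⁆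
      = H.map (QuotientGroup.mk' N) := by rw [← map_commutator, hH]
  obtain ⟨n, hn⟩ := ((Group.isSolvable_def _).mp ‹Group.IsSolvable (G ⧸ N)› : ∃ n, derivedSeries (G ⧸ N) n = ⊥)
  have := perfect_le_derivedSeries h2 n
  rw [hn, le_bot_iff, Subgroup.map_eq_bot_iff, QuotientGroup.ker_mk'] at this
  exact this

theorem perfect_eq_bot_of_le_solvable {H S : Subgroup G} (hH : ⁅H, H⁆ = H)
    [Group.IsSolvable S] (h : H ≤ S) : H = ⊥ := by
  have h2 : ⁅H.subgroupOf S, H.subgroupOf S⁆ = H.subgroupOf S := by
    apply map_injective S.subtype_injective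
    rw [map_commutator, map_subgroupOf_eq_of_le h, hH]
  obtain ⟨n, hn⟩ := ((Group.isSolvable_def _).mp ‹Group.IsSolvable S› : ∃ n, derivedSeries S n = ⊥)
  have := perfect_le_derivedSeries h2 n
  rw [hn, le_bot_iff, subgroupOf_eq_bot, disjoint_iff, inf_eq_left.mpr h] at this
  exact this

open scoped IsMulCommutative in
theorem isSolvable_of_commutative {H : Type*} [Group H] [IsMulCommutative H] :
    Group.IsSolvable H := inferInstance

/-- If `M` is normalised by `H` then `⁅M, H⁆ ≤ M`. -/
theorem commutator_le_left_of_normalizes {H M : Subgroup G}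
    (h : H ≤ normalizer (M : Set G)) : ⁅M, H⁆ ≤ M :=
  le_normalizer_iff_commutator_le_left.mp h

theorem le_normalizer_of_normal_subgroupOf {H K : Subgroup G} (hle : H ≤ K)
    (hN : (H.subgroupOf K).Normal) : K ≤ normalizer (H : Set G) :=
  (normal_subgroupOf_iff_le_normalizer hle).mp hN

theorem isPerfect_sSup (S : Set (Subgroup G)) (h : ∀ K ∈ S, ⁅K, K⁆ = K) :
    ⁅sSup S, sSup S⁆ = sSup S := by
  refine le_antisymm (commutator_le_self _) (sSup_le fun K hK => ?_)
  rw [← h K hK]
  exact commutator_mono (le_sSup hK) (le_sSup hK)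

/-! ### Subnormal subgroups -/

theorem isSubnormal_of_le {H K : Subgroup G} (hH : H.IsSubnormal) :
    (H.subgroupOf K).IsSubnormal := hH.subgroupOf

theorem isSubnormal_map_subtype {K : Subgroup G} {H : Subgroup K} (hK : K.IsSubnormal)
    (hH : H.IsSubnormal) : (H.map K.subtype).IsSubnormal :=
  Subgroup.IsSubnormal.trans' hH hK

theorem isSubnormal_map_normal {K : Subgroup G} [K.Normal] {H : Subgroup K}
    (hH : H.IsSubnormal) : (H.map K.subtype).IsSubnormal :=
  Subgroup.IsSubnormal.trans' hH (Normal.isSubnormal inferInstance)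

theorem isSubnormal_map_mulEquiv (e : G ≃* G') {H : Subgroup G} (hH : H.IsSubnormal) :
    (H.map e.toMonoidHom).IsSubnormal :=
  hH.map e.surjective

theorem isSubnormal_conj {H : Subgroup G} (hH : H.IsSubnormal) (g : G) :
    (H.map (MulAut.conj g).toMonoidHom).IsSubnormal :=
  isSubnormal_map_mulEquiv (MulAut.conj g) hH

/-- The image of a subgroup containing-normal pair. -/
theorem isSubnormal_of_le_normalizer {H K : Subgroup G} (hle : H ≤ K) (hK : K.IsSubnormal)
    (hn : K ≤ normalizer (H : Set G)) : H.IsSubnormal :=
  .step H K hle hK ((normal_subgroupOf_iff_le_normalizer hle).mpr hn)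

theorem isSubnormal_map_hom_of_surjective {f : G →* G'} (hf : Function.Surjective f)
    {H : Subgroup G} (hH : H.IsSubnormal) : (H.map f).IsSubnormal := hH.map hf

theorem isSubnormal_sup_normal {H : Subgroup G} (hH : H.IsSubnormal) (N : Subgroup G) [N.Normal] :
    (H ⊔ N).IsSubnormal := by
  have := (hH.map (QuotientGroup.mk'_surjective N)).comap (QuotientGroup.mk' N)
  rwa [comap_map_eq, QuotientGroup.ker_mk'] at this

/-! ### Quasisimple groups -/

theorem isQuasisimple_center_ne_top {K : Type*} [Group K] (h : IsQuasisimple K) :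
    center K ≠ ⊤ := by
  intro hc
  haveI := h.2.toNontrivial
  obtain ⟨x, hx⟩ := exists_ne (1 : K ⧸ center K)
  obtain ⟨g, rfl⟩ := QuotientGroup.mk'_surjective (center K) x
  exact hx ((QuotientGroup.eq_one_iff g).mpr (hc ▸ mem_top g))

theorem isQuasisimple_nontrivial {K : Type*} [Group K] (h : IsQuasisimple K) : Nontrivial K := by
  by_contra hn
  rw [not_nontrivial_iff_subsingleton] at hn
  exact isQuasisimple_center_ne_top h (Subsingleton.elim _ _)

theorem isQuasisimple_not_solvable {K : Type*} [Group K] (h : IsQuasisimple K) :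
    ¬ Group.IsSolvable K := by
  haveI := isQuasisimple_nontrivial h
  haveI := h.1
  exact Group.IsPerfect.not_isSolvable K

theorem isQuasisimple_not_commutative {K : Type*} [Group K] (h : IsQuasisimple K) :
    ¬ IsMulCommutative K := by
  haveI := isQuasisimple_nontrivial h
  haveI := h.1
  exact Group.IsPerfect.not_isMulCommutative K

theorem quotient_center_not_commutative {K : Type*} [Group K] (h : IsQuasisimple K) :
    ¬ IsMulCommutative (K ⧸ center K) := by
  haveI := h.2.toNontrivial
  haveI := h.1
  exact Group.IsPerfect.not_isMulCommutative _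

/-- A normal subgroup of a quasisimple group is central or everything. -/
theorem normal_le_center_or_eq_top {K : Type*} [Group K] (h : IsQuasisimple K)
    (N : Subgroup K) [N.Normal] : N ≤ center K ∨ N = ⊤ := by
  haveI := h.2
  haveI := h.1
  rcases (Normal.map (f := QuotientGroup.mk' (center K)) inferInstance
    (QuotientGroup.mk'_surjective _) : (N.map (QuotientGroup.mk' (center K))).Normal).eq_bot_or_eq_top
    with h1 | h1
  · left
    rwa [Subgroup.map_eq_bot_iff, QuotientGroup.ker_mk'] at h1
  · right
    have h2 : N ⊔ center K = ⊤ := by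
      have := congrArg (comap (QuotientGroup.mk' (center K))) h1
      rwa [comap_map_eq, QuotientGroup.ker_mk', comap_top] at this
    have h3 : commutator K ≤ N := by
      apply Normal.commutator_le_of_self_sup_commutative_eq_top h2
      infer_instance
    rwa [Group.IsPerfect.commutator_eq_top, top_le_iff] at h3

/-- A subnormal subgroup of a quasisimple group is central or everything. -/
theorem isSubnormal_le_center_or_eq_top {K : Type*} [Group K] (h : IsQuasisimple K)
    {H : Subgroup K} (hH : H.IsSubnormal) : H ≤ center K ∨ H = ⊤ := by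
  rcases hH.lt_normal with h1 | ⟨N, hN, hle, hlt⟩
  · exact .inr h1
  · haveI := hN
    rcases normal_le_center_or_eq_top h N with h2 | h2
    · exact .inl (hle.trans h2)
    · exact absurd h2 hlt.ne

theorem isQuasisimple_of_normal_le_center {K : Type*} [Group K] (hp : Group.IsPerfect K)
    (hnt : Nontrivial K) (h : ∀ N : Subgroup K, N.Normal → N ≤ center K ∨ N = ⊤) :
    IsQuasisimple K := by
  refine ⟨hp, ?_⟩
  haveI := hp
  haveI : Nontrivial (K ⧸ center K) := by
    rw [QuotientGroup.nontrivial_iff]
    intro hc
    exact Group.IsPerfect.not_isMulCommutative K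
      ((commutator_eq_bot_iff K).mp ((commutator_eq_bot_iff_center_eq_top K).mpr hc))
  refine ⟨fun N hN => ?_⟩
  have hsurj := QuotientGroup.mk'_surjective (center K)
  rcases h (N.comap (QuotientGroup.mk' (center K))) (hN.comap _) with h1 | h1
  · left
    rw [← map_comap_eq_self_of_surjective hsurj N, Subgroup.map_eq_bot_iff, QuotientGroup.ker_mk']
    exact h1
  · right
    rw [← map_comap_eq_self_of_surjective hsurj N, h1, map_top_of_surjective _ hsurj]

theorem isQuasisimple_iff {K : Type*} [Group K] : IsQuasisimple K ↔
    Group.IsPerfect K ∧ Nontrivial K ∧ ∀ N : Subgroup K, N.Normal → N ≤ center K ∨ N = ⊤ :=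
  ⟨fun h => ⟨h.1, isQuasisimple_nontrivial h, fun N hN => by
      haveI := hN; exact normal_le_center_or_eq_top h N⟩,
    fun h => isQuasisimple_of_normal_le_center h.1 h.2.1 h.2.2⟩

theorem isQuasisimple_of_surjective {K K' : Type*} [Group K] [Group K'] (f : K →* K')
    (hf : Function.Surjective f) [Nontrivial K'] (h : IsQuasisimple K) : IsQuasisimple K' := by
  haveI := h.1
  refine isQuasisimple_of_normal_le_center (Group.IsPerfect.ofSurjective hf) inferInstance
    fun N hN => ?_
  rcases normal_le_center_or_eq_top h (N.comap f) with h1 | h1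
  · left
    intro x hx
    obtain ⟨y, rfl⟩ := hf x
    rw [mem_center_iff]
    intro z
    obtain ⟨w, rfl⟩ := hf z
    rw [← map_mul, ← map_mul, mem_center_iff.mp (h1 (mem_comap.mpr hx)) w]
  · right
    rw [← map_comap_eq_self_of_surjective hf N, h1, map_top_of_surjective _ hf]

theorem isQuasisimple_of_mulEquiv {K K' : Type*} [Group K] [Group K'] (e : K ≃* K')
    (h : IsQuasisimple K) : IsQuasisimple K' := by
  haveI := isQuasisimple_nontrivial h
  haveI : Nontrivial K' := e.symm.toEquiv.nontrivial
  exact isQuasisimple_of_surjective e.toMonoidHom e.surjective h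

theorem isQuasisimple_congr {K K' : Type*} [Group K] [Group K'] (e : K ≃* K') :
    IsQuasisimple K ↔ IsQuasisimple K' :=
  ⟨isQuasisimple_of_mulEquiv e, isQuasisimple_of_mulEquiv e.symm⟩

theorem isQuasisimple_of_simple {K : Type*} [Group K] (hs : IsSimpleGroup K)
    (hc : ¬ IsMulCommutative K) : IsQuasisimple K := by
  haveI := hs
  have hp : Group.IsPerfect K := by
    refine ⟨?_⟩
    rcases (inferInstance : (commutator K).Normal).eq_bot_or_eq_top with h | h
    · exact absurd ((commutator_eq_bot_iff K).mp h) hc
    · exact h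
  refine isQuasisimple_of_normal_le_center hp inferInstance fun N hN => ?_
  rcases hN.eq_bot_or_eq_top with h | h
  · exact .inl (h ▸ bot_le)
  · exact .inr h

/-- The centre of a subgroup, inside the ambient group. -/
theorem map_center_subtype (K : Subgroup G) :
    (center K).map K.subtype = K ⊓ centralizer (K : Set G) := by
  ext x
  simp only [mem_map, coe_subtype, mem_inf, mem_centralizer_iff, mem_center_iff, SetLike.mem_coe]
  constructor
  · rintro ⟨y, hy, rfl⟩
    exact ⟨y.2, fun g hg => congrArg Subtype.val (hy ⟨g, hg⟩)⟩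
  · rintro ⟨hx, h⟩
    exact ⟨⟨x, hx⟩, fun g => Subtype.ext (h g g.2), rfl⟩

theorem isQuasisimple_perfect {L : Subgroup G} (h : IsQuasisimple L) : ⁅L, L⁆ = L := by
  haveI := h.1
  exact Subgroup.commutator_eq_self

theorem isQuasisimple_ne_bot {L : Subgroup G} (h : IsQuasisimple L) : L ≠ ⊥ := by
  haveI := isQuasisimple_nontrivial h
  exact (nontrivial_iff_ne_bot L).mp inferInstance

theorem isQuasisimple_not_le_solvable {L S : Subgroup G} (h : IsQuasisimple L)
    [Group.IsSolvable S] : ¬ L ≤ S :=
  fun hle => isQuasisimple_ne_bot h (perfect_eq_bot_of_le_solvable (isQuasisimple_perfect h) hle)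

theorem isQuasisimple_map_of_injective {L : Subgroup G} (f : G →* G') (hf : Function.Injective f)
    (h : IsQuasisimple L) : IsQuasisimple (L.map f) :=
  isQuasisimple_of_mulEquiv (L.equivMapOfInjective f hf) h

/-! ### Components -/

theorem IsComponent.perfect {L : Subgroup G} (h : IsComponent L) : ⁅L, L⁆ = L :=
  isQuasisimple_perfect h.2

theorem IsComponent.ne_bot {L : Subgroup G} (h : IsComponent L) : L ≠ ⊥ :=
  isQuasisimple_ne_bot h.2

theorem IsComponent.not_isSolvable {L : Subgroup G} (h : IsComponent L) :
    ¬ Group.IsSolvable L :=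
  isQuasisimple_not_solvable h.2

theorem isComponent_map_mulEquiv (e : G ≃* G') {L : Subgroup G} (h : IsComponent L) :
    IsComponent (L.map e.toMonoidHom) :=
  ⟨isSubnormal_map_mulEquiv e h.1, isQuasisimple_map_of_injective _ e.injective h.2⟩

theorem isComponent_conj {L : Subgroup G} (h : IsComponent L) (g : G) :
    IsComponent (L.map (MulAut.conj g).toMonoidHom) :=
  isComponent_map_mulEquiv (MulAut.conj g) h

/-- A component contained in `H` is a component of `H`. -/
theorem isComponent_subgroupOf {L H : Subgroup G} (h : IsComponent L) (hle : L ≤ H) :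
    IsComponent (L.subgroupOf H) :=
  ⟨h.1.subgroupOf, isQuasisimple_of_mulEquiv (subgroupOfEquivOfLe hle).symm h.2⟩

/-- A component of a subnormal subgroup is a component of the group. -/
theorem isComponent_map_subtype {H : Subgroup G} (hH : H.IsSubnormal) {L : Subgroup H}
    (h : IsComponent L) : IsComponent (L.map H.subtype) :=
  ⟨isSubnormal_map_subtype hH h.1, isQuasisimple_map_of_injective _ H.subtype_injective h.2⟩

theorem isComponent_subgroupOf_iff {L H : Subgroup G} (hH : H.IsSubnormal) (hle : L ≤ H) :
    IsComponent (L.subgroupOf H) ↔ IsComponent L :=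
  ⟨fun h => map_subgroupOf_eq_of_le hle ▸ isComponent_map_subtype hH h,
    fun h => isComponent_subgroupOf h hle⟩

theorem isComponent_top_iff : IsComponent (⊤ : Subgroup G) ↔ IsQuasisimple G :=
  ⟨fun h => isQuasisimple_of_mulEquiv topEquiv h.2,
    fun h => ⟨.top, isQuasisimple_of_mulEquiv topEquiv.symm h⟩⟩

/-- Basic dichotomy for a normal subgroup. -/
theorem component_le_or_commute_normal {L : Subgroup G} (hL : IsComponent L) (M : Subgroup G)
    [M.Normal] : L ≤ M ∨ ⁅L, M⁆ = ⊥ := by
  by_cases hLM : L ≤ M
  · exact .inl hLM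
  right
  have hc : ⁅L, L ⊓ M⁆ = ⊥ := by
    rw [commutator_comm, commutator_eq_bot_iff_le_centralizer]
    have hn : ((L ⊓ M).subgroupOf L).Normal := by
      rw [inf_comm, inf_subgroupOf_right]; infer_instance
    rcases normal_le_center_or_eq_top hL.2 ((L ⊓ M).subgroupOf L) with h | h
    · have h2 := map_mono (f := L.subtype) h
      rw [map_subgroupOf_eq_of_le inf_le_left, map_center_subtype] at h2
      exact h2.trans inf_le_right
    · exact absurd ((subgroupOf_eq_top.mp h).trans inf_le_right) hLM
  have key : ∀ {K : Subgroup G}, K.IsSubnormal → L ≤ K → ⁅L, M ⊓ K⁆ = ⊥ → ⁅L, M⁆ = ⊥ := by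
    intro K hK
    induction hK with
    | top => intro _ h; rwa [inf_top_eq] at h
    | step H K h_le hSubn hN ih =>
      intro hLH h
      refine ih (hLH.trans h_le) (commutator_eq_bot_of_perfect (IsComponent.perfect hL) ?_)
      have h1 : ⁅M ⊓ K, L⁆ ≤ M ⊓ H := by
        refine le_inf ((commutator_mono inf_le_left le_rfl).trans (commutator_le_left M L)) ?_
        exact (commutator_mono inf_le_right hLH).trans
          (le_normalizer_iff_commutator_le_right.mp (le_normalizer_of_normal_subgroupOf h_le hN))
      rw [← le_bot_iff]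
      refine (commutator_mono h1 le_rfl).trans ?_
      rw [commutator_comm, h]
  exact key hL.1 le_rfl (by rwa [inf_comm])

/-- A component and a subnormal subgroup: contained or commuting. -/
theorem component_le_or_commute {L H : Subgroup G} (hL : IsComponent L) (hH : H.IsSubnormal) :
    L ≤ H ∨ ⁅L, H⁆ = ⊥ := by
  induction hH with
  | top => exact .inl le_top
  | step H K h_le hSubn hN ih =>
    rcases ih with h | h
    · haveI := hN
      rcases component_le_or_commute_normal (isComponent_subgroupOf hL h) (H.subgroupOf K)
        with h1 | h1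
      · left
        have := map_mono (f := K.subtype) h1
        rwa [map_subgroupOf_eq_of_le h, map_subgroupOf_eq_of_le h_le] at this
      · right
        have := congrArg (Subgroup.map K.subtype) h1
        rwa [map_commutator, map_subgroupOf_eq_of_le h, map_subgroupOf_eq_of_le h_le,
          Subgroup.map_bot] at this
    · right
      rw [← le_bot_iff, ← h]
      exact commutator_mono le_rfl h_le

/-- A component commutes with every solvable subnormal subgroup. -/
theorem component_commute_solvable {L H : Subgroup G} (hL : IsComponent L) (hH : H.IsSubnormal)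
    [Group.IsSolvable H] : ⁅L, H⁆ = ⊥ :=
  (component_le_or_commute hL hH).resolve_left (isQuasisimple_not_le_solvable hL.2)

theorem component_eq_of_le {L K : Subgroup G} (hL : IsComponent L) (hK : IsComponent K)
    (hle : L ≤ K) : L = K := by
  have hn := (isComponent_subgroupOf hL hle)
  rcases isSubnormal_le_center_or_eq_top hK.2 hn.1 with h | h
  · exfalso
    haveI : Group.IsSolvable (center K) := isSolvable_of_commutative
    exact isQuasisimple_ne_bot hn.2 (perfect_eq_bot_of_le_solvable (isQuasisimple_perfect hn.2)
      (S := center K) (h := h))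
  · exact le_antisymm hle (subgroupOf_eq_top.mp h)

/-- Distinct components commute. -/
theorem components_commute {L K : Subgroup G} (hL : IsComponent L) (hK : IsComponent K)
    (hne : L ≠ K) : ⁅L, K⁆ = ⊥ :=
  (component_le_or_commute hL hK.1).resolve_left fun h => hne (component_eq_of_le hL hK h)

theorem component_le_normalizer {L K : Subgroup G} (hL : IsComponent L) (hK : IsComponent K) :
    L ≤ normalizer (K : Set G) := by
  by_cases h : L = K
  · exact h ▸ le_normalizer
  · rw [le_normalizer_iff_commutator_le_right, components_commute hL hK h]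
    exact bot_le

/-! ### The layer -/

theorem component_le_layer {L : Subgroup G} (hL : IsComponent L) : L ≤ layer G := le_sSup hL

theorem layer_map_mulEquiv (e : G ≃* G') : (layer G).map e.toMonoidHom = layer G' := by
  apply le_antisymm
  · rw [map_le_iff_le_comap]
    refine sSup_le fun L hL => ?_
    rw [← map_le_iff_le_comap]
    exact component_le_layer (isComponent_map_mulEquiv e hL)
  · refine sSup_le fun L hL => ?_
    have := map_mono (f := e.toMonoidHom)
      (component_le_layer (isComponent_map_mulEquiv e.symm hL))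
    rwa [map_map, show e.toMonoidHom.comp e.symm.toMonoidHom = MonoidHom.id _ by ext; simp,
      map_id] at this

instance layer_characteristic : (layer G).Characteristic :=
  characteristic_iff_map_eq.mpr fun e => layer_map_mulEquiv e

instance layer_normal : (layer G).Normal := inferInstance

theorem layer_perfect : ⁅layer G, layer G⁆ = layer G :=
  isPerfect_sSup _ fun _ hK => IsComponent.perfect hK

theorem layer_le_normalizer_component {L : Subgroup G} (hL : IsComponent L) :
    layer G ≤ normalizer (L : Set G) :=
  sSup_le fun _ hK => component_le_normalizer hK hL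

theorem component_normal_in_layer {L : Subgroup G} (hL : IsComponent L) :
    (L.subgroupOf (layer G)).Normal :=
  normal_subgroupOf_of_le_normalizer (layer_le_normalizer_component hL)

theorem layer_commute_solvable {H : Subgroup G} (hH : H.IsSubnormal) [Group.IsSolvable H] :
    ⁅layer G, H⁆ = ⊥ := by
  rw [commutator_eq_bot_iff_le_centralizer]
  exact sSup_le fun L hL =>
    commutator_eq_bot_iff_le_centralizer.mp (component_commute_solvable hL hH)

theorem layer_le_of_normal_of_forall {N : Subgroup G}
    (h : ∀ L : Subgroup G, IsComponent L → L ≤ N) : layer G ≤ N := sSup_le h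

theorem layer_eq_bot_iff : layer G = ⊥ ↔ ¬ HasComponent G := by
  constructor
  · rintro h ⟨K, hK⟩
    exact IsComponent.ne_bot hK (le_bot_iff.mp (h ▸ component_le_layer hK))
  · intro h
    exact sSup_eq_bot.mpr fun K hK => absurd ⟨K, hK⟩ h

/-- The layer of a subnormal subgroup. -/
theorem layer_map_subtype {H : Subgroup G} (hH : H.IsSubnormal) :
    (layer H).map H.subtype = sSup {L : Subgroup G | IsComponent L ∧ L ≤ H} := by
  apply le_antisymm
  · rw [map_le_iff_le_comap]
    refine sSup_le fun L hL => ?_
    rw [← map_le_iff_le_comap]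
    exact le_sSup ⟨isComponent_map_subtype hH hL, map_subtype_le L⟩
  · refine sSup_le fun L ⟨hL, hle⟩ => ?_
    rw [← map_subgroupOf_eq_of_le hle]
    exact map_mono (component_le_layer (isComponent_subgroupOf hL hle))

theorem layer_map_subtype_le {H : Subgroup G} (hH : H.IsSubnormal) :
    (layer H).map H.subtype ≤ layer G := by
  rw [layer_map_subtype hH]
  exact sSup_le fun L hL => component_le_layer hL.1

end Cfsg.Agent.ComponentsBasic
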