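import Mathlib
import Cfsg.Prelude.Def_Local
import Cfsg.Agent.Lib.ComponentsBasic

set_option autoImplicit false
set_option linter.style.haveILetI false

namespace Cfsg.Agent.ComponentsCores

open Subgroup Cfsg

variable {G : Type*} [Group G] {G' : Type*} [Group G']

/-! ### Elementary core facts needed for the subnormal versions -/

theorem le_fitting {N : Subgroup G} [N.Normal] (h : Group.IsNilpotent N) :
    N ≤ fittingSubgroup G := le_sSup ⟨inferInstance, h⟩

theorem le_pCore' {p : ℕ} {N : Subgroup G} [N.Normal] (h : IsPGroup p N) : N ≤ pCore p G :=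
  le_sSup ⟨inferInstance, h⟩

theorem le_pPrimeCore' {p : ℕ} {N : Subgroup G} [N.Normal] (h : (Nat.card N).Coprime p) :
    N ≤ pPrimeCore p G := le_sSup ⟨inferInstance, h⟩

instance fittingSubgroup_normal : (fittingSubgroup G).Normal :=
  Subgroup.sSup_normal _ (fun _ h => h.1)

theorem card_map_mulEquiv (e : G ≃* G') (N : Subgroup G) :
    Nat.card (N.map e.toMonoidHom) = Nat.card N :=
  (Nat.card_congr (e.subgroupMap N).toEquiv).symm

theorem pCore_map_le (e : G ≃* G') (p : ℕ) : (pCore p G).map e.toMonoidHom ≤ pCore p G' := by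
  rw [map_le_iff_le_comap]
  refine sSup_le fun N hN => ?_
  rw [← map_le_iff_le_comap]
  exact le_sSup ⟨hN.1.map _ e.surjective, hN.2.of_equiv (e.subgroupMap N)⟩

theorem pPrimeCore_map_le (e : G ≃* G') (p : ℕ) :
    (pPrimeCore p G).map e.toMonoidHom ≤ pPrimeCore p G' := by
  rw [map_le_iff_le_comap]
  refine sSup_le fun N hN => ?_
  rw [← map_le_iff_le_comap]
  exact le_sSup ⟨hN.1.map _ e.surjective, by rw [card_map_mulEquiv]; exact hN.2⟩

theorem fitting_map_le (e : G ≃* G') :
    (fittingSubgroup G).map e.toMonoidHom ≤ fittingSubgroup G' := by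
  rw [map_le_iff_le_comap]
  refine sSup_le fun N hN => ?_
  rw [← map_le_iff_le_comap]
  exact le_sSup ⟨hN.1.map _ e.surjective,
    (Group.isNilpotent_congr (e.subgroupMap N)).mp hN.2⟩

theorem fitting_map_mulEquiv (e : G ≃* G') :
    (fittingSubgroup G).map e.toMonoidHom = fittingSubgroup G' := by
  refine le_antisymm (fitting_map_le e) ?_
  have := map_mono (f := e.toMonoidHom) (fitting_map_le e.symm)
  rwa [map_map, show e.toMonoidHom.comp e.symm.toMonoidHom = MonoidHom.id _ by ext; simp,
    map_id] at this

theorem pCore_map_mulEquiv (e : G ≃* G') (p : ℕ) :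
    (pCore p G).map e.toMonoidHom = pCore p G' := by
  refine le_antisymm (pCore_map_le e p) ?_
  have := map_mono (f := e.toMonoidHom) (pCore_map_le e.symm p)
  rwa [map_map, show e.toMonoidHom.comp e.symm.toMonoidHom = MonoidHom.id _ by ext; simp,
    map_id] at this

theorem pPrimeCore_map_mulEquiv (e : G ≃* G') (p : ℕ) :
    (pPrimeCore p G).map e.toMonoidHom = pPrimeCore p G' := by
  refine le_antisymm (pPrimeCore_map_le e p) ?_
  have := map_mono (f := e.toMonoidHom) (pPrimeCore_map_le e.symm p)
  rwa [map_map, show e.toMonoidHom.comp e.symm.toMonoidHom = MonoidHom.id _ by ext; simp,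
    map_id] at this

instance fittingSubgroup_characteristic : (fittingSubgroup G).Characteristic :=
  characteristic_iff_map_eq.mpr fun e => fitting_map_mulEquiv e

instance pCore_characteristic {p : ℕ} : (pCore p G).Characteristic :=
  characteristic_iff_map_eq.mpr fun e => pCore_map_mulEquiv e p

instance pPrimeCore_characteristic {p : ℕ} : (pPrimeCore p G).Characteristic :=
  characteristic_iff_map_eq.mpr fun e => pPrimeCore_map_mulEquiv e p

theorem isPGroup_pCore [Finite G] (p : ℕ) : IsPGroup p (pCore p G) := by
  have hS := Set.toFinite {N : Subgroup G | N.Normal ∧ IsPGroup p N}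
  have key : ∀ S : Finset (Subgroup G), (∀ N ∈ S, N.Normal ∧ IsPGroup p N) →
      (S.sup id).Normal ∧ IsPGroup p (S.sup id : Subgroup G) := by
    intro S
    induction S using Finset.cons_induction with
    | empty => intro _; exact ⟨normal_bot, IsPGroup.of_bot⟩
    | cons a S ha ih =>
      intro h
      simp only [Finset.mem_cons, forall_eq_or_imp] at h
      rw [Finset.sup_cons, id]
      haveI := h.1.1
      haveI := (ih h.2).1
      exact ⟨inferInstance, h.1.2.to_sup_of_normal_right (ih h.2).2⟩
  have := (key hS.toFinset (by simp)).2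
  rwa [show hS.toFinset.sup id = pCore p G by
    rw [Finset.sup_id_eq_sSup, Set.Finite.coe_toFinset]; rfl] at this

theorem pPrimeCore_coprime [Finite G] (p : ℕ) : (Nat.card (pPrimeCore p G)).Coprime p := by
  have hS := Set.toFinite {N : Subgroup G | N.Normal ∧ (Nat.card N).Coprime p}
  have key : ∀ S : Finset (Subgroup G), (∀ N ∈ S, N.Normal ∧ (Nat.card N).Coprime p) →
      (S.sup id).Normal ∧ (Nat.card (S.sup id : Subgroup G)).Coprime p := by
    intro S
    induction S using Finset.cons_induction with
    | empty => intro _; exact ⟨normal_bot, by simp⟩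
    | cons a S ha ih =>
      intro h
      simp only [Finset.mem_cons, forall_eq_or_imp] at h
      rw [Finset.sup_cons, id]
      haveI := h.1.1
      haveI := (ih h.2).1
      refine ⟨inferInstance, (Nat.Coprime.mul_left h.1.2 (ih h.2).2).coprime_dvd_left ?_⟩
      have h1 := card_mul_index ((S.sup id).subgroupOf (a ⊔ S.sup id))
      rw [← h1, ← relIndex, relIndex_sup_right, mul_comm (Nat.card a),
        Nat.card_congr (subgroupOfEquivOfLe le_sup_right).toEquiv]
      exact mul_dvd_mul_left _ (relIndex_dvd_card _ _)
  have := (key hS.toFinset (by simp)).2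
  rwa [show hS.toFinset.sup id = pPrimeCore p G by
    rw [Finset.sup_id_eq_sSup, Set.Finite.coe_toFinset]; rfl] at this

/-- Conjugation by a normalising element, as an automorphism of the subgroup. -/
def conjAutOfNormalizer (H : Subgroup G) (g : G) (hg : g ∈ normalizer (H : Set G)) : ↥H ≃* ↥H where
  toFun x := ⟨g * x * g⁻¹, (mem_normalizer_iff.mp hg x).mp x.2⟩
  invFun x := ⟨g⁻¹ * x * g, (mem_normalizer_iff.mp hg _).mpr (by simp [mul_assoc])⟩
  left_inv x := by simp [mul_assoc]
  right_inv x := by simp [mul_assoc]
  map_mul' x y := by simp [mul_assoc]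

/-- A characteristic subgroup of `H` is normalised by the normaliser of `H`. -/
theorem normalizer_le_normalizer_map_subtype (H : Subgroup G) (C : Subgroup H)
    [C.Characteristic] :
    normalizer (H : Set G) ≤ normalizer (C.map H.subtype : Set G) := by
  have key : ∀ g ∈ normalizer (H : Set G), ∀ x ∈ C.map H.subtype,
      g * x * g⁻¹ ∈ C.map H.subtype := by
    rintro g hg _ ⟨y, hy, rfl⟩
    refine ⟨conjAutOfNormalizer H g hg y, ?_, rfl⟩
    show conjAutOfNormalizer H g hg y ∈ C
    rw [← characteristic_iff_map_eq.mp (inferInstance : C.Characteristic) (conjAutOfNormalizer H g hg)]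
    exact mem_map_of_mem _ hy
  intro g hg
  rw [mem_normalizer_iff]
  refine fun x => ⟨key g hg x, fun hx => ?_⟩
  have h2 := key g⁻¹ (inv_mem hg) _ hx
  simpa [mul_assoc] using h2

theorem map_subtype_normal_subgroupOf {H K : Subgroup G} (hN : (H.subgroupOf K).Normal)
    (hle : H ≤ K) (C : Subgroup H) [C.Characteristic] :
    ((C.map H.subtype).subgroupOf K).Normal :=
  normal_subgroupOf_of_le_normalizer
    ((ComponentsBasic.le_normalizer_of_normal_subgroupOf hle hN).trans
      (normalizer_le_normalizer_map_subtype H C))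

/-! ### Subnormal nilpotent / p / p' subgroups -/

theorem nilpotent_of_le {A B : Subgroup G} (h : A ≤ B) (hB : Group.IsNilpotent B) :
    Group.IsNilpotent A := by
  haveI := hB
  exact (Group.isNilpotent_congr (subgroupOfEquivOfLe h)).mp inferInstance

theorem isNilpotent_map_subtype_iff {H : Subgroup G} (C : Subgroup H) :
    Group.IsNilpotent (C.map H.subtype) ↔ Group.IsNilpotent C :=
  (Group.isNilpotent_congr (C.equivMapOfInjective _ H.subtype_injective)).symm

theorem pCore_map_subtype_le [Finite G] {p : ℕ} {K : Subgroup G} (hK : K.IsSubnormal) :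
    (pCore p K).map K.subtype ≤ pCore p G := by
  induction hK with
  | top =>
    have h := pCore_map_mulEquiv (topEquiv (G := G)) p
    exact h.le
  | step H K h_le hSubn hN ih =>
    haveI := map_subtype_normal_subgroupOf hN h_le (pCore p H)
    have hle : (pCore p H).map H.subtype ≤ K := (map_subtype_le _).trans h_le
    have h1 : ((pCore p H).map H.subtype).subgroupOf K ≤ pCore p K := le_pCore'
      ((((isPGroup_pCore p).map H.subtype)).of_equiv (subgroupOfEquivOfLe hle).symm)
    have h2 := map_mono (f := K.subtype) h1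
    rw [map_subgroupOf_eq_of_le hle] at h2
    exact h2.trans ih

theorem pPrimeCore_map_subtype_le [Finite G] {p : ℕ} {K : Subgroup G} (hK : K.IsSubnormal) :
    (pPrimeCore p K).map K.subtype ≤ pPrimeCore p G := by
  induction hK with
  | top =>
    have h := pPrimeCore_map_mulEquiv (topEquiv (G := G)) p
    exact h.le
  | step H K h_le hSubn hN ih =>
    haveI := map_subtype_normal_subgroupOf hN h_le (pPrimeCore p H)
    have hle : (pPrimeCore p H).map H.subtype ≤ K := (map_subtype_le _).trans h_le
    have h1 : ((pPrimeCore p H).map H.subtype).subgroupOf K ≤ pPrimeCore p K := by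
      apply le_pPrimeCore'
      rw [Nat.card_congr (subgroupOfEquivOfLe hle).toEquiv,
        ← Nat.card_congr ((pPrimeCore p H).equivMapOfInjective _ H.subtype_injective).toEquiv]
      exact pPrimeCore_coprime p
    have h2 := map_mono (f := K.subtype) h1
    rw [map_subgroupOf_eq_of_le hle] at h2
    exact h2.trans ih

theorem subnormal_pGroup_le_pCore [Finite G] {p : ℕ} {H : Subgroup G} (hH : H.IsSubnormal)
    (h : IsPGroup p H) : H ≤ pCore p G := by
  have h1 : pCore p H = ⊤ := top_le_iff.mp (le_pCore' (h.of_equiv topEquiv.symm))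
  have := pCore_map_subtype_le (p := p) hH
  rwa [h1, ← MonoidHom.range_eq_map, range_subtype] at this

theorem subnormal_coprime_le_pPrimeCore [Finite G] {p : ℕ} {H : Subgroup G} (hH : H.IsSubnormal)
    (h : (Nat.card H).Coprime p) : H ≤ pPrimeCore p G := by
  have h1 : pPrimeCore p H = ⊤ := top_le_iff.mp
    (le_pPrimeCore' (by rw [Nat.card_congr topEquiv.toEquiv]; exact h))
  have := pPrimeCore_map_subtype_le (p := p) hH
  rwa [h1, ← MonoidHom.range_eq_map, range_subtype] at this

/-- `O_p(H) = O_p(G) ⊓ H` for subnormal `H`. -/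
theorem pCore_map_subtype_eq [Finite G] {p : ℕ} {H : Subgroup G} (hH : H.IsSubnormal) :
    (pCore p H).map H.subtype = pCore p G ⊓ H := by
  refine le_antisymm (le_inf (pCore_map_subtype_le hH) (map_subtype_le _)) ?_
  rw [← subgroupOf_map_subtype]
  exact map_mono (le_pCore' ((isPGroup_pCore p).comap_of_injective _ H.subtype_injective))

theorem pPrimeCore_map_subtype_eq [Finite G] {p : ℕ} {H : Subgroup G} (hH : H.IsSubnormal) :
    (pPrimeCore p H).map H.subtype = pPrimeCore p G ⊓ H := by
  refine le_antisymm (le_inf (pPrimeCore_map_subtype_le hH) (map_subtype_le _)) ?_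
  rw [← subgroupOf_map_subtype]
  refine map_mono (le_pPrimeCore' ?_)
  rw [← inf_subgroupOf_right, Nat.card_congr (subgroupOfEquivOfLe inf_le_right).toEquiv]
  exact (pPrimeCore_coprime p).coprime_dvd_left (card_dvd_of_le inf_le_left)

end Cfsg.Agent.ComponentsCores
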