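import Mathlib
import Cfsg.Prelude.Def_Solvable
import Cfsg.Prelude.Def_Local
import Cfsg.Prelude.Def_OddOrderLocal
import Cfsg.Agent.Lib.HallCore

/-!
# Solvable, π-separable and p-solvable groups

Minimal normal subgroups, `C(F(G)) ≤ F(G)`, π-separability, Hall–Higman 1.2.3.
-/

set_option autoImplicit false

namespace Cfsg.Agent.HallSolvable

open scoped Pointwise
open Subgroup Cfsg.Agent.HallCore
open scoped commutatorElement

variable {G : Type*} [Group G] {H : Type*} [Group H]

/-! ### Generalities on quotients -/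

theorem mk'_surjective' (N : Subgroup G) [N.Normal] :
    Function.Surjective (QuotientGroup.mk' N) := QuotientGroup.mk'_surjective N

theorem card_quotient_lt [Finite G] {N : Subgroup G} [N.Normal] (h : N ≠ ⊥) :
    Nat.card (G ⧸ N) < Nat.card G := by
  have h1 : Nat.card G = Nat.card N * N.index := (N.card_mul_index).symm
  rw [← Subgroup.index_eq_card, h1]
  exact lt_mul_of_one_lt_left (Nat.pos_of_ne_zero Subgroup.index_ne_zero_of_finite)
    (N.one_lt_card_iff_ne_bot.mpr h)

theorem card_subgroup_lt [Finite G] {K : Subgroup G} (h : K ≠ ⊤) : Nat.card K < Nat.card G := by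
  rw [← K.card_mul_index]
  exact lt_mul_of_one_lt_right Nat.card_pos (Subgroup.one_lt_index_of_ne_top h)

theorem map_mk'_eq_bot {N K : Subgroup G} [N.Normal] :
    K.map (QuotientGroup.mk' N) = ⊥ ↔ K ≤ N := by
  rw [Subgroup.map_eq_bot_iff, QuotientGroup.ker_mk']

theorem comap_mk'_map {N K : Subgroup G} [N.Normal] :
    (K.map (QuotientGroup.mk' N)).comap (QuotientGroup.mk' N) = K ⊔ N := by
  rw [Subgroup.comap_map_eq, QuotientGroup.ker_mk']

theorem comap_mk'_map_of_le {N K : Subgroup G} [N.Normal] (h : N ≤ K) :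
    (K.map (QuotientGroup.mk' N)).comap (QuotientGroup.mk' N) = K := by
  rw [comap_mk'_map, sup_eq_left.mpr h]

theorem index_map_mk'_of_le {N K : Subgroup G} [N.Normal] (h : N ≤ K) :
    (K.map (QuotientGroup.mk' N)).index = K.index :=
  Subgroup.index_map_eq _ (mk'_surjective' N) (by rwa [QuotientGroup.ker_mk'])

/-! ### Minimal normal subgroups -/

/-- `N` is a minimal normal subgroup of `G`. -/
def IsMinNormal (N : Subgroup G) : Prop :=
  N.Normal ∧ N ≠ ⊥ ∧ ∀ K : Subgroup G, K.Normal → K ≤ N → K = ⊥ ∨ K = N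

theorem IsMinNormal.normal {N : Subgroup G} (h : IsMinNormal N) : N.Normal := h.1

theorem IsMinNormal.ne_bot {N : Subgroup G} (h : IsMinNormal N) : N ≠ ⊥ := h.2.1

theorem IsMinNormal.eq_of_le {N K : Subgroup G} (h : IsMinNormal N) [hK : K.Normal]
    (hle : K ≤ N) (hne : K ≠ ⊥) : K = N :=
  (h.2.2 K hK hle).resolve_left hne

theorem IsMinNormal.le_or_inf_eq_bot {N K : Subgroup G} (h : IsMinNormal N) [K.Normal] :
    N ≤ K ∨ N ⊓ K = ⊥ := by
  have := h.1
  rcases h.2.2 (N ⊓ K) inferInstance inf_le_left with h0 | h1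
  · exact Or.inr h0
  · exact Or.inl (inf_eq_left.mp h1)

/-- Every nontrivial normal subgroup contains a minimal normal subgroup. -/
theorem exists_minNormal_le [Finite G] {M : Subgroup G} [hM : M.Normal] (h : M ≠ ⊥) :
    ∃ N : Subgroup G, IsMinNormal N ∧ N ≤ M := by
  obtain ⟨N, hN⟩ := (Set.toFinite {K : Subgroup G | K.Normal ∧ K ≠ ⊥ ∧ K ≤ M}).exists_minimal
    ⟨M, hM, h, le_rfl⟩
  refine ⟨N, ⟨hN.1.1, hN.1.2.1, fun K hK hle => ?_⟩, hN.1.2.2⟩
  by_cases hKb : K = ⊥
  · exact Or.inl hKb
  · exact Or.inr (le_antisymm hle (hN.le_of_le ⟨hK, hKb, hle.trans hN.1.2.2⟩ hle))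

theorem exists_minNormal [Finite G] [Nontrivial G] : ∃ N : Subgroup G, IsMinNormal N :=
  let ⟨N, h, _⟩ := exists_minNormal_le (M := (⊤ : Subgroup G)) (by simp)
  ⟨N, h⟩

theorem IsMinNormal.map_of_characteristic {N : Subgroup G} (h : IsMinNormal N)
    (K : Subgroup N) [hK : K.Characteristic] : K = ⊥ ∨ K = ⊤ := by
  have := h.1
  rcases h.2.2 (K.map N.subtype) inferInstance (Subgroup.map_subtype_le K) with h0 | h1
  · exact Or.inl ((Subgroup.map_eq_bot_iff_of_injective K N.subtype_injective).mp h0)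
  · refine Or.inr (Subgroup.map_injective N.subtype_injective ?_)
    rw [h1, ← MonoidHom.range_eq_map, N.range_subtype]

theorem IsMinNormal.commutative_of_solvable {N : Subgroup G} (h : IsMinNormal N)
    [Group.IsSolvable N] : IsMulCommutative N := by
  have : Nontrivial N := (Subgroup.nontrivial_iff_ne_bot N).mpr h.ne_bot
  rcases h.map_of_characteristic (commutator N) with h0 | h1
  · refine ⟨⟨fun a b => ?_⟩⟩
    have hab : ⁅a, b⁆ ∈ commutator N :=
      Subgroup.commutator_mem_commutator (Subgroup.mem_top a) (Subgroup.mem_top b)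
    rw [h0, Subgroup.mem_bot] at hab
    exact commutatorElement_eq_one_iff_mul_comm.mp hab
  · exact absurd h1 (Group.IsSolvable.commutator_lt_top_of_nontrivial (G := N)).ne

/-- A solvable minimal normal subgroup is an elementary abelian `p`-group. -/
theorem IsMinNormal.exists_prime [Finite G] {N : Subgroup G} (h : IsMinNormal N)
    [Group.IsSolvable N] :
    ∃ p : ℕ, p.Prime ∧ Cfsg.IsElementaryAbelian p N ∧ IsPGroup p N := by
  have hcomm := h.commutative_of_solvable
  have hne : Nat.card N ≠ 1 := (N.one_lt_card_iff_ne_bot.mpr h.ne_bot).ne'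
  set p := (Nat.card N).minFac
  have hp : p.Prime := Nat.minFac_prime hne
  let K : Subgroup N :=
    { carrier := {x | x ^ p = 1}
      mul_mem' := fun {a b} ha hb => by
        have hc : Commute a b := hcomm.is_comm.comm a b
        simp only [Set.mem_ofPred_eq] at ha hb ⊢
        rw [hc.mul_pow, ha, hb, one_mul]
      one_mem' := by simp
      inv_mem' := fun {a} ha => by
        simp only [Set.mem_ofPred_eq] at ha ⊢
        rw [inv_pow, ha, inv_one] }
  have hK : K.Characteristic := by
    refine Subgroup.characteristic_iff_comap_le.mpr fun e x hx => ?_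
    have hx' : e x ^ p = 1 := hx
    exact e.injective (show e (x ^ p) = e 1 by rw [map_pow, hx', map_one])
  have : Fact p.Prime := ⟨hp⟩
  obtain ⟨x, hx⟩ := exists_prime_orderOf_dvd_card' p (Nat.card N).minFac_dvd
  rcases h.map_of_characteristic K with h0 | h1
  · exfalso
    have hxK : x ∈ K := (orderOf_dvd_iff_pow_eq_one.mp (dvd_of_eq hx) : x ^ p = 1)
    rw [h0, Subgroup.mem_bot] at hxK
    rw [hxK, orderOf_one] at hx
    exact hp.ne_one hx.symm
  · have hall : ∀ y : N, y ^ p = 1 := fun y => by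
      have hy : y ∈ K := by rw [h1]; trivial
      exact hy
    refine ⟨p, hp, ⟨hcomm, fun a ha => ?_⟩, fun y => ⟨1, by rw [pow_one]; exact hall y⟩⟩
    exact congrArg Subtype.val (hall ⟨a, ha⟩)

/-- In a solvable group a minimal normal subgroup is an elementary abelian `p`-group. -/
theorem IsMinNormal.card_eq_pow [Finite G] {N : Subgroup G} (h : IsMinNormal N)
    [Group.IsSolvable N] :
    ∃ p k : ℕ, p.Prime ∧ 0 < k ∧ Nat.card N = p ^ k ∧ Cfsg.IsElementaryAbelian p N := by
  obtain ⟨p, hp, hel, hpg⟩ := h.exists_prime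
  have : Fact p.Prime := ⟨hp⟩
  obtain ⟨k, hk⟩ := IsPGroup.iff_card.mp hpg
  refine ⟨p, k, hp, ?_, hk, hel⟩
  rcases Nat.eq_zero_or_pos k with rfl | hk0
  · exact absurd (N.card_eq_one.mp (by simpa using hk)) h.ne_bot
  · exact hk0

/-! ### `C(F(G)) ≤ F(G)` -/

instance fitting_normal_inst (G : Type*) [Group G] : (Cfsg.fittingSubgroup G).Normal :=
  Subgroup.sSup_normal _ (fun _ h => h.1)

theorem le_fitting {N : Subgroup G} [hN : N.Normal] [h : Group.IsNilpotent N] :
    N ≤ Cfsg.fittingSubgroup G :=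
  le_sSup ⟨hN, h⟩

/-- A subgroup `L` with `[L,L] ≤ Z` and `[L,Z] = 1` is nilpotent. -/
theorem isNilpotent_of_commutator_le {L Z : Subgroup G} (hLL : ⁅L, L⁆ ≤ Z)
    (hZ : Z ≤ Subgroup.centralizer (L : Set G)) : Group.IsNilpotent L := by
  have hker : commutator L ≤ Subgroup.center L := by
    intro x hx
    have h1 : (x : G) ∈ ⁅L, L⁆ := by
      rw [← Subgroup.map_subtype_commutator]
      exact ⟨x, hx, rfl⟩
    rw [Subgroup.mem_center_iff]
    intro y
    exact Subtype.ext ((hZ (hLL h1)) y y.2)
  have : Group.IsNilpotent (Abelianization L) := inferInstance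
  exact Subgroup.isNilpotent_of_ker_le_center (Abelianization.of (G := L))
    (by rw [Abelianization.ker_of]; exact hker)

/-- In a solvable group the Fitting subgroup contains its centralizer. -/
theorem centralizer_fitting_le [Finite G] [Group.IsSolvable G] :
    Subgroup.centralizer (Cfsg.fittingSubgroup G : Set G) ≤ Cfsg.fittingSubgroup G := by
  set F := Cfsg.fittingSubgroup G
  set C := Subgroup.centralizer (F : Set G)
  set q := QuotientGroup.mk' (C ⊓ F)
  by_contra hle
  have hne : C.map q ≠ ⊥ := by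
    rw [Ne, map_mk'_eq_bot]
    exact fun h => hle (h.trans inf_le_right)
  have : (C.map q).Normal := Subgroup.Normal.map inferInstance q (mk'_surjective' _)
  obtain ⟨M, hM, hMC⟩ := exists_minNormal_le hne
  have := hM.commutative_of_solvable
  have := hM.normal
  set L := M.comap q
  have hCle : (C.map q).comap q = C := comap_mk'_map_of_le inf_le_left
  have hLC : L ≤ C := by
    rw [← hCle]
    exact Subgroup.comap_mono hMC
  have hLL : ⁅L, L⁆ ≤ C ⊓ F := by
    rw [Subgroup.commutator_le]
    intro a ha b hb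
    rw [← QuotientGroup.ker_mk' (C ⊓ F), MonoidHom.mem_ker, map_commutatorElement,
      commutatorElement_eq_one_iff_mul_comm]
    exact congrArg Subtype.val
      (IsMulCommutative.is_comm.comm (⟨q a, ha⟩ : M) ⟨q b, hb⟩)
  have hZ : C ⊓ F ≤ Subgroup.centralizer (L : Set G) := by
    intro z hz x hx
    exact ((hLC hx) z hz.2).symm
  have := isNilpotent_of_commutator_le hLL hZ
  have hL : L ≤ C ⊓ F := le_inf hLC le_fitting
  refine hM.ne_bot ?_
  rw [← Subgroup.map_comap_eq_self_of_surjective (mk'_surjective' (C ⊓ F)) M]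
  exact map_mk'_eq_bot.mpr hL

/-! ### π-separable groups -/

/-- The index `n` is a π-number or a π'-number. -/
def Piece (π : Set ℕ) (n : ℕ) : Prop := PiNat π n ∨ PiNat πᶜ n

theorem Piece.of_dvd {π : Set ℕ} {m n : ℕ} (h : Piece π n) (hmn : m ∣ n) : Piece π m :=
  h.imp (fun h => h.of_dvd hmn) (fun h => h.of_dvd hmn)

/-- `G` is π-separable: it has a chain of normal subgroups from `⊥` to `⊤` whose indices are
π-numbers or π'-numbers. -/
def IsPiSeparable (π : Set ℕ) (G : Type*) [Group G] : Prop :=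
  ∃ (n : ℕ) (H : ℕ → Subgroup G), H 0 = ⊥ ∧ H n = ⊤ ∧ Monotone H ∧ (∀ i, (H i).Normal) ∧
    ∀ i < n, Piece π ((H i).relIndex (H (i + 1)))

section PiSep

variable {π : Set ℕ}

theorem relIndex_eq_card_map {N : Subgroup G} [N.Normal] (K : Subgroup G) :
    N.relIndex K = Nat.card (K.map (QuotientGroup.mk' N)) := by
  rw [← Subgroup.relIndex_bot_left, ← Subgroup.relIndex_comap, MonoidHom.comap_bot,
    QuotientGroup.ker_mk']

theorem isPiSeparable_of_piece (h : Piece π (Nat.card G)) : IsPiSeparable π G := by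
  refine ⟨1, fun i => if i = 0 then ⊥ else ⊤, if_pos rfl, if_neg one_ne_zero, ?_, ?_, ?_⟩
  · intro i j hij
    by_cases hi : i = 0
    · simp [hi]
    · have : j ≠ 0 := by omega
      simp [hi, this]
  · intro i
    by_cases hi : i = 0
    · simp only [hi, if_true]; infer_instance
    · simp only [hi, if_false]; infer_instance
  · intro i hi
    obtain rfl : i = 0 := by omega
    simpa using h

theorem isPiSeparable_of_subsingleton [Subsingleton G] : IsPiSeparable π G :=
  isPiSeparable_of_piece (Or.inl (by rw [Nat.card_of_subsingleton (1 : G)]; exact piNat_one π))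

theorem IsPiSeparable.compl (h : IsPiSeparable π G) : IsPiSeparable πᶜ G := by
  obtain ⟨n, K, h0, hn, hm, hN, hp⟩ := h
  refine ⟨n, K, h0, hn, hm, hN, fun i hi => ?_⟩
  rcases hp i hi with h | h
  · exact Or.inr (by rwa [compl_compl])
  · exact Or.inl h

theorem IsPiSeparable.to_subgroup (h : IsPiSeparable π G) (U : Subgroup G) :
    IsPiSeparable π U := by
  obtain ⟨n, K, h0, hn, hm, hN, hp⟩ := h
  refine ⟨n, fun i => (K i).subgroupOf U, by simp [h0], by simp [hn],
    fun i j hij => Subgroup.comap_mono (hm hij), fun i => ?_, fun i hi => (hp i hi).of_dvd ?_⟩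
  · exact Subgroup.Normal.subgroupOf (hN i) U
  · simp only [Subgroup.subgroupOf]
    rw [Subgroup.relIndex_comap, Subgroup.map_comap_eq, Subgroup.range_subtype]
    have := hN i
    rw [relIndex_eq_card_map, relIndex_eq_card_map]
    exact Subgroup.card_dvd_of_le (Subgroup.map_mono inf_le_right)

theorem IsPiSeparable.of_surjective (h : IsPiSeparable π G) {f : G →* H}
    (hf : Function.Surjective f) : IsPiSeparable π H := by
  obtain ⟨n, K, h0, hn, hm, hN, hp⟩ := h
  refine ⟨n, fun i => (K i).map f, by simp [h0], ?_,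
    fun i j hij => Subgroup.map_mono (hm hij), fun i => (hN i).map f hf,
    fun i hi => (hp i hi).of_dvd ?_⟩
  · simp only [hn]; exact Subgroup.map_top_of_surjective f hf
  · rw [Subgroup.relIndex_map_map]
    have := hN i
    refine dvd_trans ?_ (dvd_refl _)
    have hle : K (i + 1) ⊔ f.ker = (K i ⊔ f.ker) ⊔ K (i + 1) := by
      rw [sup_comm (K i) f.ker, sup_assoc, sup_eq_right.mpr (hm (Nat.le_succ i)), sup_comm]
    have : (K i ⊔ f.ker).Normal := inferInstance
    rw [hle, sup_comm (K i ⊔ f.ker) (K (i + 1)), Subgroup.relIndex_sup_right]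
    exact Subgroup.relIndex_dvd_of_le_left _ le_sup_left

theorem IsPiSeparable.of_equiv (h : IsPiSeparable π G) (e : G ≃* H) : IsPiSeparable π H :=
  h.of_surjective (f := e.toMonoidHom) e.surjective

theorem IsPiSeparable.to_quotient (h : IsPiSeparable π G) (N : Subgroup G) [N.Normal] :
    IsPiSeparable π (G ⧸ N) :=
  h.of_surjective (mk'_surjective' N)

/-- A nontrivial π-separable group has a nontrivial normal π- or π'-subgroup. -/
theorem IsPiSeparable.exists_core_ne_bot [Nontrivial G] (h : IsPiSeparable π G) :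
    Cfsg.piCore π G ≠ ⊥ ∨ Cfsg.piCore πᶜ G ≠ ⊥ := by
  obtain ⟨n, K, h0, hn, hm, hN, hp⟩ := h
  classical
  have hex : ∃ i, K i ≠ ⊥ := ⟨n, by rw [hn]; exact top_ne_bot⟩
  set i := Nat.find hex
  have hi : K i ≠ ⊥ := Nat.find_spec hex
  have hi0 : i ≠ 0 := fun h => hi (by rw [h, h0])
  have hin : i ≤ n := Nat.find_le (by rw [hn]; exact top_ne_bot)
  obtain ⟨j, hj⟩ := Nat.exists_eq_succ_of_ne_zero hi0
  have hjb : K j = ⊥ := by
    by_contra hc
    have := Nat.find_le (h := hex) hc
    omega
  have hpc := hp j (by omega)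
  rw [hjb, Subgroup.relIndex_bot_left, show j + 1 = i by omega] at hpc
  have := hN i
  rcases hpc with h | h
  · exact Or.inl fun hb => hi (le_bot_iff.mp (hb ▸ le_piCore h))
  · exact Or.inr fun hb => hi (le_bot_iff.mp (hb ▸ le_piCore h))

theorem IsPiSeparable.exists_minNormal_piece [Finite G] [Nontrivial G] (h : IsPiSeparable π G) :
    ∃ N : Subgroup G, IsMinNormal N ∧ Piece π (Nat.card N) := by
  rcases h.exists_core_ne_bot with h0 | h0
  · obtain ⟨N, hN, hle⟩ := exists_minNormal_le h0
    exact ⟨N, hN, Or.inl ((piNat_card_piCore _ G).of_dvd (Subgroup.card_dvd_of_le hle))⟩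
  · obtain ⟨N, hN, hle⟩ := exists_minNormal_le h0
    exact ⟨N, hN, Or.inr ((piNat_card_piCore _ G).of_dvd (Subgroup.card_dvd_of_le hle))⟩

theorem IsPiSeparable.of_quotient_piece {N : Subgroup G} [N.Normal]
    (hN : Piece π (Nat.card N)) (h : IsPiSeparable π (G ⧸ N)) : IsPiSeparable π G := by
  obtain ⟨n, K, h0, hn, hm, hK, hp⟩ := h
  refine ⟨n + 1, fun i => if i = 0 then ⊥ else (K (i - 1)).comap (QuotientGroup.mk' N),
    if_pos rfl, ?_, ?_, ?_, ?_⟩
  · simp [hn]
  · intro i j hij
    by_cases hi : i = 0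
    · simp [hi]
    · have : j ≠ 0 := by omega
      simp only [hi, this, if_false]
      exact Subgroup.comap_mono (hm (by omega))
  · intro i
    by_cases hi : i = 0
    · simp only [hi, if_true]; infer_instance
    · simp only [hi, if_false]; exact (hK _).comap _
  · intro i hi
    by_cases hi0 : i = 0
    · subst hi0
      simp only [if_true, Nat.zero_add, one_ne_zero, if_false, Nat.sub_self, h0,
        MonoidHom.comap_bot, QuotientGroup.ker_mk', Subgroup.relIndex_bot_left]
      exact hN
    · simp only [hi0, Nat.succ_ne_zero, if_false, Nat.add_sub_cancel]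
      rw [Subgroup.relIndex_comap, Subgroup.map_comap_eq_self_of_surjective (mk'_surjective' N)]
      have := hp (i - 1) (by omega)
      rwa [show i - 1 + 1 = i by omega] at this

/-- Criterion: π-separable iff every nontrivial quotient has a nontrivial normal π- or
π'-subgroup. -/
theorem isPiSeparable_of_forall [Finite G]
    (h : ∀ N : Subgroup G, N.Normal → N ≠ ⊤ → ∃ M : Subgroup G, M.Normal ∧ N < M ∧
      Piece π (N.relIndex M)) : IsPiSeparable π G := by
  suffices ∀ (k : ℕ) (N : Subgroup G) [N.Normal], N.index ≤ k → IsPiSeparable π (G ⧸ N) from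
    (this _ ⊥ le_rfl).of_equiv QuotientGroup.quotientBot
  intro k
  induction k with
  | zero => exact fun N _ hk => absurd (Nat.le_zero.mp hk) Subgroup.index_ne_zero_of_finite
  | succ k ih =>
    intro N _ hk
    by_cases hN : N = ⊤
    · subst hN
      have : Subsingleton (G ⧸ (⊤ : Subgroup G)) := QuotientGroup.subsingleton_quotient_top
      exact isPiSeparable_of_subsingleton
    · obtain ⟨M, hM, hlt, hp⟩ := h N ‹_› hN
      have hidx : M.index < N.index := Subgroup.index_strictAnti hlt
      have e := QuotientGroup.quotientQuotientEquivQuotient N M hlt.le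
      refine IsPiSeparable.of_quotient_piece (N := M.map (QuotientGroup.mk' N)) ?_
        ((ih M (by omega)).of_equiv e.symm)
      rwa [← relIndex_eq_card_map]

/-- Extensions of π-separable groups are π-separable. -/
theorem IsPiSeparable.extension [Finite G] (N : Subgroup G) [N.Normal]
    (hN : IsPiSeparable π N) (hQ : IsPiSeparable π (G ⧸ N)) : IsPiSeparable π G := by
  refine isPiSeparable_of_forall fun M hM hMt => ?_
  by_cases hle : N ≤ M
  · have hsep : IsPiSeparable π (G ⧸ M) :=
      hQ.of_surjective (f := QuotientGroup.map N M (MonoidHom.id G) hle)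
        (QuotientGroup.map_surjective_of_surjective N M (MonoidHom.id G) (mk'_surjective' M) hle)
    have : Nontrivial (G ⧸ M) := QuotientGroup.nontrivial_iff.mpr hMt
    obtain ⟨L, hL, hp⟩ := hsep.exists_minNormal_piece
    have := hL.normal
    refine ⟨L.comap (QuotientGroup.mk' M), inferInstance, ?_, ?_⟩
    · refine lt_of_le_of_ne (QuotientGroup.le_comap_mk' M L) fun heq => hL.ne_bot ?_
      rw [← Subgroup.map_comap_eq_self_of_surjective (mk'_surjective' M) L, ← heq,
        QuotientGroup.map_mk'_self]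
    · rwa [relIndex_eq_card_map, Subgroup.map_comap_eq_self_of_surjective (mk'_surjective' M)]
  · set q := QuotientGroup.mk' M
    set A := N.map q
    have : A.Normal := Subgroup.Normal.map inferInstance q (mk'_surjective' M)
    have hA : IsPiSeparable π A :=
      hN.of_surjective (f := q.subgroupMap N) (q.subgroupMap_surjective N)
    have : Nontrivial A := (Subgroup.nontrivial_iff_ne_bot A).mpr
      (fun h => hle (map_mk'_eq_bot.mp h))
    have key : ∀ ρ : Set ℕ, Cfsg.piCore ρ A ≠ ⊥ →
        ∃ L : Subgroup G, L.Normal ∧ M < L ∧ PiNat ρ (M.relIndex L) := by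
      intro ρ hρ
      have := piCore_characteristic ρ A
      set B := (Cfsg.piCore ρ A).map A.subtype
      have hB : B ≠ ⊥ := fun h => hρ
        ((Subgroup.map_eq_bot_iff_of_injective _ A.subtype_injective).mp h)
      refine ⟨B.comap q, inferInstance, ?_, ?_⟩
      · refine lt_of_le_of_ne (QuotientGroup.le_comap_mk' M B) fun heq => hB ?_
        rw [← Subgroup.map_comap_eq_self_of_surjective (mk'_surjective' M) B, ← heq,
          QuotientGroup.map_mk'_self]
      · rw [relIndex_eq_card_map, Subgroup.map_comap_eq_self_of_surjective (mk'_surjective' M)]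
        exact (piNat_card_piCore ρ A).of_dvd (Subgroup.card_map_dvd _ _)
    rcases hA.exists_core_ne_bot with h0 | h0
    · obtain ⟨L, h1, h2, h3⟩ := key π h0
      exact ⟨L, h1, h2, Or.inl h3⟩
    · obtain ⟨L, h1, h2, h3⟩ := key _ h0
      exact ⟨L, h1, h2, Or.inr h3⟩

theorem piece_pow {p : ℕ} (hp : p.Prime) (π : Set ℕ) (k : ℕ) : Piece π (p ^ k) := by
  by_cases h : p ∈ π
  · exact Or.inl fun q hq hd =>
      ((Nat.prime_dvd_prime_iff_eq hq hp).mp (hq.dvd_of_dvd_pow hd)) ▸ h
  · exact Or.inr fun q hq hd =>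
      ((Nat.prime_dvd_prime_iff_eq hq hp).mp (hq.dvd_of_dvd_pow hd)) ▸ h

/-- Finite solvable groups are π-separable. -/
theorem isPiSeparable_of_solvable [Finite G] [Group.IsSolvable G] (π : Set ℕ) :
    IsPiSeparable π G := by
  refine isPiSeparable_of_forall fun N hN hNt => ?_
  have : Nontrivial (G ⧸ N) := QuotientGroup.nontrivial_iff.mpr hNt
  obtain ⟨L, hL⟩ := exists_minNormal (G := G ⧸ N)
  obtain ⟨p, k, hp, -, hk, -⟩ := hL.card_eq_pow
  have := hL.normal
  refine ⟨L.comap (QuotientGroup.mk' N), inferInstance, ?_, ?_⟩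
  · refine lt_of_le_of_ne (QuotientGroup.le_comap_mk' N L) fun heq => hL.ne_bot ?_
    rw [← Subgroup.map_comap_eq_self_of_surjective (mk'_surjective' N) L, ← heq,
      QuotientGroup.map_mk'_self]
  · rw [relIndex_eq_card_map, Subgroup.map_comap_eq_self_of_surjective (mk'_surjective' N), hk]
    exact piece_pow hp π k

end PiSep

/-! ### `IsPSolvable` -/

theorem relIndex_ne_zero' [Finite G] (A B : Subgroup G) : A.relIndex B ≠ 0 := by
  rw [Subgroup.relIndex]
  exact Subgroup.index_ne_zero_of_finite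

theorem isPSolvable_iff [Finite G] (p : ℕ) [hp : Fact p.Prime] :
    Cfsg.IsPSolvable p G ↔ IsPiSeparable {p} G := by
  constructor
  · rintro ⟨n, K, h0, hn, hm, hN, hpc⟩
    refine ⟨n, fun i => K ⟨min i n, by omega⟩, by simpa using h0, ?_,
      fun i j hij => hm (by simp only [Fin.mk_le_mk]; omega), fun i => hN _, fun i hi => ?_⟩
    · simp only [le_refl, min_self]
      exact hn
    · have h1 : (⟨min i n, by omega⟩ : Fin (n + 1)) = (⟨i, hi⟩ : Fin n).castSucc :=
        Fin.ext (by simp; omega)
      have h2 : (⟨min (i + 1) n, by omega⟩ : Fin (n + 1)) = (⟨i, hi⟩ : Fin n).succ :=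
        Fin.ext (by simp; omega)
      simp only [h1, h2]
      rcases hpc ⟨i, hi⟩ with h | h
      · exact Or.inl ((piNat_singleton_iff hp.out (relIndex_ne_zero' _ _)).mpr h)
      · exact Or.inr ((piNat_compl_singleton_iff hp.out).mpr h)
  · rintro ⟨n, K, h0, hn, hm, hN, hpc⟩
    refine ⟨n, fun i => K i, by simpa using h0, by simpa using hn, fun i j hij => hm hij,
      fun i => hN i, fun i => ?_⟩
    rcases hpc i i.2 with h | h
    · exact Or.inl ((piNat_singleton_iff hp.out (relIndex_ne_zero' _ _)).mp h)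
    · exact Or.inr ((piNat_compl_singleton_iff hp.out).mp h)

theorem isPSolvable_of_solvable [Finite G] [Group.IsSolvable G] (p : ℕ) [Fact p.Prime] :
    Cfsg.IsPSolvable p G :=
  (isPSolvable_iff p).mpr (isPiSeparable_of_solvable _)

theorem isPSolvable_subgroup [Finite G] {p : ℕ} [Fact p.Prime] (h : Cfsg.IsPSolvable p G)
    (U : Subgroup G) : Cfsg.IsPSolvable p U :=
  (isPSolvable_iff p).mpr (((isPSolvable_iff p).mp h).to_subgroup U)

theorem isPSolvable_of_surjective [Finite G] {p : ℕ} [Fact p.Prime] (h : Cfsg.IsPSolvable p G)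
    {f : G →* H} (hf : Function.Surjective f) : Cfsg.IsPSolvable p H :=
  have := Finite.of_surjective f hf
  (isPSolvable_iff p).mpr (((isPSolvable_iff p).mp h).of_surjective hf)

theorem isPSolvable_quotient [Finite G] {p : ℕ} [Fact p.Prime] (h : Cfsg.IsPSolvable p G)
    (N : Subgroup G) [N.Normal] : Cfsg.IsPSolvable p (G ⧸ N) :=
  isPSolvable_of_surjective h (mk'_surjective' N)

theorem isPSolvable_extension [Finite G] {p : ℕ} [Fact p.Prime] (N : Subgroup G) [N.Normal]
    (hN : Cfsg.IsPSolvable p N) (hQ : Cfsg.IsPSolvable p (G ⧸ N)) : Cfsg.IsPSolvable p G :=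
  (isPSolvable_iff p).mpr
    (IsPiSeparable.extension N ((isPSolvable_iff p).mp hN) ((isPSolvable_iff p).mp hQ))

/-! ### Hall–Higman Lemma 1.2.3 -/

/-- If `G` is π-separable with `O_{π'}(G) = 1` then `C(O_π(G)) ≤ O_π(G)`. -/
theorem centralizer_piCore_le [Finite G] {π : Set ℕ} (hG : IsPiSeparable π G)
    (h : Cfsg.piCore πᶜ G = ⊥) :
    Subgroup.centralizer (Cfsg.piCore π G : Set G) ≤ Cfsg.piCore π G := by
  set P := Cfsg.piCore π G
  set C := Subgroup.centralizer (P : Set G)
  set Z := C ⊓ P
  set q := QuotientGroup.mk' Z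
  have hZπ : PiNat π (Nat.card Z) :=
    (piNat_card_piCore π G).of_dvd (Subgroup.card_dvd_of_le inf_le_right)
  by_contra hle
  set A := C.map q
  have hAn : A.Normal := Subgroup.Normal.map inferInstance q (mk'_surjective' Z)
  have hAne : A ≠ ⊥ := fun h0 => hle ((map_mk'_eq_bot.mp h0).trans inf_le_right)
  have : Nontrivial A := (Subgroup.nontrivial_iff_ne_bot A).mpr hAne
  have hA : IsPiSeparable π A := (hG.to_quotient Z).to_subgroup A
  have lift : ∀ ρ : Set ℕ, Cfsg.piCore ρ A ≠ ⊥ → ∃ L : Subgroup G, L.Normal ∧ Z ≤ L ∧ L ≤ C ∧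
      ¬ L ≤ Z ∧ PiNat ρ (Z.relIndex L) := by
    intro ρ hρ
    have := piCore_characteristic ρ A
    set B := (Cfsg.piCore ρ A).map A.subtype
    have hB : B ≠ ⊥ := fun h => hρ
      ((Subgroup.map_eq_bot_iff_of_injective _ A.subtype_injective).mp h)
    have hBA : B ≤ A := Subgroup.map_subtype_le _
    refine ⟨B.comap q, inferInstance, QuotientGroup.le_comap_mk' Z B, ?_, ?_, ?_⟩
    · have := Subgroup.comap_mono (f := q) hBA
      rwa [show A.comap q = C from comap_mk'_map_of_le inf_le_left] at this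
    · intro hL
      apply hB
      rw [← Subgroup.map_comap_eq_self_of_surjective (mk'_surjective' Z) B]
      exact map_mk'_eq_bot.mpr hL
    · rw [relIndex_eq_card_map, Subgroup.map_comap_eq_self_of_surjective (mk'_surjective' Z)]
      exact (piNat_card_piCore ρ A).of_dvd (Subgroup.card_map_dvd _ _)
  rcases hA.exists_core_ne_bot with h0 | h0
  · obtain ⟨L, hLn, hZL, hLC, hLZ, hidx⟩ := lift π h0
    refine hLZ (le_inf hLC (le_piCore ?_))
    rw [← card_mul_relIndex hZL]
    exact hZπ.mul hidx
  · obtain ⟨L, hLn, hZL, hLC, hLZ, hidx⟩ := lift _ h0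
    set Z' := Z.subgroupOf L
    have hcard : Nat.card Z' = Nat.card Z :=
      Nat.card_congr (Subgroup.subgroupOfEquivOfLe hZL).toEquiv
    have hcop : (Nat.card Z').Coprime Z'.index := by
      rw [hcard]
      exact PiNat.coprime hZπ hidx
    obtain ⟨K, hK⟩ := Subgroup.exists_right_complement'_of_coprime hcop
    have hcen : Z' ≤ Subgroup.center L := by
      intro z hz
      rw [Subgroup.mem_center_iff]
      intro y
      exact Subtype.ext (((hLC y.2) z hz.2).symm)
    have hKn : K.Normal := by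
      refine ⟨fun k hk g => ?_⟩
      obtain ⟨⟨z, k'⟩, hzk⟩ := hK.2 g
      have hzk' : (z : L) * k' = g := hzk
      rw [← hzk']
      have hz := Subgroup.mem_center_iff.mp (hcen z.2)
      have : (z : L) * k' * k * (z * k' : L)⁻¹ = k' * k * (k' : L)⁻¹ := by
        rw [show (z : L) * k' * k * (z * k' : L)⁻¹ = z * (k' * k * (k' : L)⁻¹) * (z : L)⁻¹ by group,
          ← hz ((k' : L) * k * (k' : L)⁻¹), mul_inv_cancel_right]
      rw [this]
      exact K.mul_mem (K.mul_mem k'.2 hk) (K.inv_mem k'.2)
    have hKπ : PiNat πᶜ (Nat.card K) := by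
      rw [← hK.symm.index_eq_card]
      exact hidx
    have hK1 : K = ⊥ := by
      have h1 : (Cfsg.piCore πᶜ L).map L.subtype = ⊥ := by
        rw [map_subtype_piCore, h, bot_inf_eq]
      rw [Subgroup.map_eq_bot_iff_of_injective _ L.subtype_injective] at h1
      exact le_bot_iff.mp (h1 ▸ le_piCore hKπ)
    rw [hK1, Subgroup.isComplement'_bot_right, Subgroup.subgroupOf_eq_top] at hK
    exact hLZ hK

/-- A `p`-solvable group with `O_{p'}(G) = 1` has `C(O_p(G)) ≤ O_p(G)`. -/
theorem centralizer_pCore_le [Finite G] {p : ℕ} [Fact p.Prime] (hG : Cfsg.IsPSolvable p G)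
    (h : Cfsg.pPrimeCore p G = ⊥) :
    Subgroup.centralizer (Cfsg.pCore p G : Set G) ≤ Cfsg.pCore p G := by
  rw [pCore_eq_piCore p G]
  exact centralizer_piCore_le ((isPSolvable_iff p).mp hG) (pPrimeCore_eq_piCore p G ▸ h)

/-- A `p`-solvable group is `p`-constrained. -/
theorem isPConstrained_of_isPSolvable [Finite G] {p : ℕ} [Fact p.Prime]
    (hG : Cfsg.IsPSolvable p G) : Cfsg.IsPConstrained p G := by
  unfold Cfsg.IsPConstrained
  set U := Cfsg.pPrimePCore p G
  intro P
  set N := Cfsg.pPrimeCore p G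
  set q := QuotientGroup.mk' N
  set P' := (P : Subgroup U).map U.subtype
  set Q := Cfsg.pCore p (G ⧸ N)
  have hPQ : P'.map q ≤ Q := by
    rw [Subgroup.map_le_iff_le_comap]
    exact Subgroup.map_subtype_le _
  have hQP : P'.map q = Q := by
    refine Subgroup.eq_of_le_of_card_ge hPQ ?_
    obtain ⟨k, hk⟩ := relIndex_pPrimePCore p G
    have hQ : Nat.card Q = p ^ k := by
      rw [← hk, relIndex_eq_card_map, map_pPrimePCore]
    have hdisj : P' ⊓ N = ⊥ := by
      obtain ⟨j, hj⟩ := IsPGroup.iff_card.mp (P.2.map U.subtype)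
      refine disjoint_iff.mp (Subgroup.disjoint_of_coprime_natCard ?_)
      rw [hj]
      exact Nat.Coprime.pow_left _ (coprime_card_pPrimeCore p G).symm
    have hcard : Nat.card (P'.map q) = Nat.card P' := by
      rw [← relIndex_eq_card_map, ← Subgroup.inf_relIndex_right, inf_comm, hdisj,
        Subgroup.relIndex_bot_left]
    rw [hcard, hQ, Subgroup.card_map_of_injective U.subtype_injective,
      Sylow.card_eq_multiplicity]
    refine Nat.pow_le_pow_right (Fact.out : p.Prime).pos ?_
    refine (Nat.Prime.pow_dvd_iff_le_factorization Fact.out Nat.card_pos.ne').mp ?_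
    rw [← hk, ← card_mul_relIndex (pPrimeCore_le_pPrimePCore p G)]
    exact dvd_mul_left _ _
  intro x hx
  refine centralizer_pCore_le (isPSolvable_quotient hG N) (pPrimeCore_quotient_self p G) ?_
  intro y hy
  rw [show Cfsg.pCore p (G ⧸ N) = P'.map q from hQP.symm] at hy
  obtain ⟨z, hz, rfl⟩ := hy
  rw [← map_mul, ← map_mul, hx z hz]

end Cfsg.Agent.HallSolvable
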