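import Mathlib
import Cfsg.Prelude.Def_Solvable
import Cfsg.Prelude.Def_Local
import Cfsg.Prelude.Def_OddOrderLocal
import Cfsg.Agent.Lib.HallCore
import Cfsg.Agent.Lib.HallSolvable

/-!
# Hall's theorems for solvable and π-separable groups

Existence, conjugacy and containment of Hall π-subgroups.
-/

set_option autoImplicit false

namespace Cfsg.Agent.HallTheorem

open scoped Pointwise
open Subgroup Cfsg.Agent.HallCore Cfsg.Agent.HallSolvable

variable {G : Type*} [Group G]

/-! ### Conjugation -/

theorem conj_smul_eq_map (g : G) (H : Subgroup G) :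
    MulAut.conj g • H = H.map (MulAut.conj g).toMonoidHom := rfl

theorem card_conj_smul (g : G) (H : Subgroup G) :
    Nat.card ↥(MulAut.conj g • H) = Nat.card H := by
  rw [conj_smul_eq_map]
  exact Subgroup.card_map_of_injective (MulAut.conj g).injective

theorem index_conj_smul (g : G) (H : Subgroup G) :
    (MulAut.conj g • H).index = H.index := by
  rw [conj_smul_eq_map]
  exact Subgroup.index_map_of_bijective (MulAut.conj g).bijective H

theorem conj_smul_normal (g : G) (N : Subgroup G) [hN : N.Normal] : MulAut.conj g • N = N := by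
  ext x
  rw [Subgroup.mem_pointwise_smul_iff_inv_smul_mem]
  constructor
  · intro hx
    simpa [MulAut.smul_def, mul_assoc] using hN.conj_mem _ hx g
  · intro hx
    simpa [MulAut.smul_def] using hN.conj_mem x hx g⁻¹

theorem map_conj_smul {H : Type*} [Group H] (f : G →* H) (g : G) (K : Subgroup G) :
    (MulAut.conj g • K).map f = MulAut.conj (f g) • K.map f := by
  rw [conj_smul_eq_map, conj_smul_eq_map, Subgroup.map_map, Subgroup.map_map]
  congr 1
  ext x
  simp

/-! ### Conjugacy of complements of an abelian normal Hall subgroup -/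

section Abelian

open MulAction MulOpposite
open scoped IsMulCommutative

/-- The class of a transversal in `A.QuotientDiff`. -/
noncomputable def mkQD [Finite G] (A : Subgroup G) [IsMulCommutative A] (T : A.LeftTransversal) :
    A.QuotientDiff :=
  Quotient.mk'' T

theorem smul_mkQD [Finite G] {A : Subgroup G} [A.Normal] [IsMulCommutative A] (g : G)
    (T : A.LeftTransversal) : g • mkQD A T = mkQD A (op g⁻¹ • T) :=
  rfl

theorem le_stabilizer_transversal [Finite G] {A : Subgroup G} [A.Normal] [IsMulCommutative A]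
    {K : Subgroup G} (hK : IsComplement' K A) :
    K ≤ stabilizer G (mkQD A (⟨(K : Set G), hK⟩ : A.LeftTransversal)) := by
  intro k hk
  rw [mem_stabilizer_iff, smul_mkQD]
  congr 1
  apply Subtype.ext
  change op k⁻¹ • (K : Set G) = K
  ext x
  rw [Set.mem_smul_set_iff_inv_smul_mem]
  simp only [← op_inv, inv_inv, op_smul_eq_mul, SetLike.mem_coe]
  exact K.mul_mem_cancel_right hk

/-- Two complements of an abelian normal subgroup of coprime order and index are conjugate by an
element of that subgroup. -/
theorem complements_conj_of_abelian [Finite G] {A : Subgroup G} [A.Normal] [IsMulCommutative A]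
    (hA : (Nat.card A).Coprime A.index) {H K : Subgroup G} (hH : IsComplement' A H)
    (hK : IsComplement' A K) : ∃ a ∈ A, MulAut.conj a • H = K := by
  set α : A.QuotientDiff := mkQD A (⟨(H : Set G), hH.symm⟩ : A.LeftTransversal)
  set β : A.QuotientDiff := mkQD A (⟨(K : Set G), hK.symm⟩ : A.LeftTransversal)
  have key : ∀ (L : Subgroup G) (γ : A.QuotientDiff), IsComplement' A L → L ≤ stabilizer G γ →
      L = stabilizer G γ := by
    intro L γ hL hle
    refine Subgroup.eq_of_le_of_card_ge hle (le_of_eq ?_)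
    rw [← hL.symm.index_eq_card,
      ← (Subgroup.isComplement'_stabilizer_of_coprime (α := γ) hA).symm.index_eq_card]
  have h1 := key H α hH (le_stabilizer_transversal hH.symm)
  have h2 := key K β hK (le_stabilizer_transversal hK.symm)
  obtain ⟨⟨a, ha⟩, hab⟩ := Subgroup.exists_smul_eq hA α β
  refine ⟨a, ha, ?_⟩
  have hab' : a • α = β := hab
  rw [h1, h2, ← hab', MulAction.stabilizer_smul_eq_stabilizer_map_conj]
  rfl

end Abelian

/-- `|U ⊔ N| = |U| |N|` for `N` normal of order coprime to that of `U`. -/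
theorem card_sup_of_coprime [Finite G] {N U : Subgroup G} [N.Normal]
    (h : (Nat.card N).Coprime (Nat.card U)) :
    Nat.card ↥(U ⊔ N) = Nat.card U * Nat.card N := by
  rw [← card_mul_relIndex (le_sup_right : N ≤ U ⊔ N), Subgroup.relIndex_sup_right,
    ← Subgroup.inf_relIndex_right, disjoint_iff.mp (Subgroup.disjoint_of_coprime_natCard h),
    Subgroup.relIndex_bot_left, mul_comm]

/-- Relative conjugacy: `U N = V N` with `N` abelian normal of order coprime to `|U|`. -/
theorem conj_of_sup_eq [Finite G] {N U V : Subgroup G} [N.Normal] [IsMulCommutative N]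
    (hU : (Nat.card N).Coprime (Nat.card U)) (hV : (Nat.card N).Coprime (Nat.card V))
    (h : U ⊔ N = V ⊔ N) : ∃ n ∈ N, MulAut.conj n • U = V := by
  set W := U ⊔ N
  set N' := N.subgroupOf W
  have hcN : Nat.card N' = Nat.card N :=
    Nat.card_congr (Subgroup.subgroupOfEquivOfLe le_sup_right).toEquiv
  have : IsMulCommutative N' := by
    refine ⟨⟨fun a b => ?_⟩⟩
    have := IsMulCommutative.is_comm.comm (⟨a.1.1, a.2⟩ : N) ⟨b.1.1, b.2⟩
    exact Subtype.ext (Subtype.ext (congrArg (fun t : N => (t : G)) this))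
  have hcompl : ∀ X : Subgroup G, X ≤ W → (Nat.card N).Coprime (Nat.card X) →
      Nat.card W = Nat.card X * Nat.card N → IsComplement' N' (X.subgroupOf W) := by
    intro X hX hc hW
    have hcX : Nat.card (X.subgroupOf W) = Nat.card X :=
      Nat.card_congr (Subgroup.subgroupOfEquivOfLe hX).toEquiv
    refine Subgroup.isComplement'_of_coprime ?_ (by rwa [hcN, hcX])
    rw [hcN, hcX, hW, mul_comm]
  have hcU := hcompl U le_sup_left hU (card_sup_of_coprime hU)
  have hcV := hcompl V (h ▸ le_sup_left) hV (h ▸ card_sup_of_coprime hV)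
  have hcop : (Nat.card N').Coprime N'.index := by
    rw [hcU.symm.index_eq_card, hcN,
      Nat.card_congr (Subgroup.subgroupOfEquivOfLe (le_sup_left : U ≤ W)).toEquiv]
    exact hU
  obtain ⟨⟨a, ha⟩, haN, hab⟩ := complements_conj_of_abelian hcop hcU hcV
  refine ⟨a, haN, ?_⟩
  have h2 := congrArg (Subgroup.map W.subtype) hab
  rw [map_conj_smul] at h2
  rwa [Subgroup.map_subgroupOf_eq_of_le le_sup_left,
    Subgroup.map_subgroupOf_eq_of_le (h ▸ le_sup_left)] at h2

/-! ### Hall subgroups -/

section Hall

variable {π : Set ℕ}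

theorem isPiHall_iff {H : Subgroup G} :
    Cfsg.IsPiHall π H ↔ PiNat π (Nat.card H) ∧ PiNat πᶜ H.index :=
  ⟨fun h => ⟨h.1, fun q hq hd hmem => h.2 q hq hmem hd⟩,
    fun h => ⟨h.1, fun q hq hmem hd => h.2 q hq hd hmem⟩⟩

theorem isPiHall_conj {H : Subgroup G} (h : Cfsg.IsPiHall π H) (g : G) :
    Cfsg.IsPiHall π (MulAut.conj g • H) := by
  rw [isPiHall_iff] at h ⊢
  rwa [card_conj_smul, index_conj_smul]

/-- Any two π-Hall subgroups have equal orders. -/
theorem card_eq_of_isPiHall [Finite G] {H K : Subgroup G} (hH : Cfsg.IsPiHall π H)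
    (hK : Cfsg.IsPiHall π K) : Nat.card H = Nat.card K := by
  rw [isPiHall_iff] at hH hK
  have h1 : Nat.card H * H.index = Nat.card K * K.index := by
    rw [H.card_mul_index, K.card_mul_index]
  exact Nat.dvd_antisymm
    ((PiNat.coprime hH.1 hK.2).dvd_of_dvd_mul_right ⟨H.index, h1.symm⟩)
    ((PiNat.coprime hK.1 hH.2).dvd_of_dvd_mul_right ⟨K.index, h1⟩)

theorem isPiHall_of_card_eq [Finite G] {H K : Subgroup G} (hH : Cfsg.IsPiHall π H)
    (h : Nat.card K = Nat.card H) : Cfsg.IsPiHall π K := by
  have hi : K.index = H.index := by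
    have := H.card_mul_index.trans K.card_mul_index.symm
    rw [h] at this
    exact (Nat.eq_of_mul_eq_mul_left Nat.card_pos this).symm
  rw [isPiHall_iff] at hH ⊢
  rwa [h, hi]

/-- A π-subgroup contains a π-Hall subgroup only if equal to it. -/
theorem eq_of_isPiHall_le [Finite G] {H U : Subgroup G} (hH : Cfsg.IsPiHall π H) (hle : H ≤ U)
    (hU : PiNat π (Nat.card U)) : H = U := by
  rw [isPiHall_iff] at hH
  refine Subgroup.eq_of_le_of_card_ge hle (Nat.le_of_dvd Nat.card_pos ?_)
  exact (PiNat.coprime hU hH.2).dvd_of_dvd_mul_right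
    (by rw [H.card_mul_index]; exact Subgroup.card_subgroup_dvd_card U)

theorem piNat_card_comap {N : Subgroup G} [N.Normal] {M : Subgroup (G ⧸ N)}
    (hN : PiNat π (Nat.card N)) (hM : PiNat π (Nat.card M)) :
    PiNat π (Nat.card (M.comap (QuotientGroup.mk' N))) := by
  rw [← card_comap_mk']
  exact hM.mul hN

/-- Image of a Hall subgroup in a quotient. -/
theorem isPiHall_map [Finite G] {H : Subgroup G} (hH : Cfsg.IsPiHall π H) {L : Type*} [Group L]
    {f : G →* L} (hf : Function.Surjective f) : Cfsg.IsPiHall π (H.map f) := by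
  rw [isPiHall_iff] at hH ⊢
  exact ⟨hH.1.of_dvd (Subgroup.card_map_dvd _ _), hH.2.of_dvd (Subgroup.index_map_dvd H hf)⟩

/-- The intersection of a Hall subgroup with a normal subgroup is a Hall subgroup of it. -/
theorem isPiHall_subgroupOf [Finite G] {H : Subgroup G} (hH : Cfsg.IsPiHall π H)
    (N : Subgroup G) [N.Normal] : Cfsg.IsPiHall π (H.subgroupOf N) := by
  rw [isPiHall_iff] at hH ⊢
  refine ⟨hH.1.of_dvd (card_subgroupOf_dvd H N), hH.2.of_dvd ?_⟩
  rw [show (H.subgroupOf N).index = H.relIndex N from rfl]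
  rw [← Subgroup.inf_relIndex_right]
  have h1 : Nat.card ↥(H ⊓ N) * (H ⊓ N).relIndex N = Nat.card N := card_mul_relIndex inf_le_right
  have h2 : Nat.card ↥(H ⊓ N) * (H ⊓ N).relIndex H = Nat.card H := card_mul_relIndex inf_le_left
  have h3 : (H ⊓ N).relIndex H = N.relIndex (H ⊔ N) := by
    rw [Subgroup.relIndex_sup_right, Subgroup.inf_relIndex_left]
  have h4 : Nat.card N * N.relIndex (H ⊔ N) = Nat.card ↥(H ⊔ N) := card_mul_relIndex le_sup_right
  have h5 : (H ⊓ N).relIndex N * Nat.card H = Nat.card ↥(H ⊔ N) := by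
    rw [← h4, ← h3, ← h2, ← h1]; ring
  have h6 : Nat.card H * H.relIndex (H ⊔ N) = Nat.card ↥(H ⊔ N) := card_mul_relIndex le_sup_left
  have h7 : (H ⊓ N).relIndex N = H.relIndex (H ⊔ N) := by
    refine Nat.eq_of_mul_eq_mul_left (Nat.card_pos (α := H)) ?_
    rw [h6, mul_comm, h5]
  rw [h7]
  exact ⟨(H ⊔ N).index, (Subgroup.relIndex_mul_index le_sup_left).symm⟩

/-- The hypothesis under which Hall π-subgroups of a π-separable group are conjugate:
all π'-subgroups are solvable. -/
def ComplSolvable (π : Set ℕ) (G : Type*) [Group G] : Prop :=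
  ∀ U : Subgroup G, PiNat πᶜ (Nat.card U) → Group.IsSolvable U

theorem complSolvable_of_solvable [Group.IsSolvable G] (π : Set ℕ) : ComplSolvable π G :=
  fun _ _ => inferInstance

theorem complSolvable_compl_singleton {p : ℕ} (hp : p.Prime) [Finite G] :
    ComplSolvable {p}ᶜ G := by
  intro U hU
  rw [compl_compl] at hU
  obtain ⟨k, hk⟩ := (piNat_singleton_iff hp Nat.card_pos.ne').mp hU
  have : Fact p.Prime := ⟨hp⟩
  have : Group.IsNilpotent U := (IsPGroup.of_card hk).isNilpotent
  infer_instance

theorem ComplSolvable.to_quotient [Finite G] (h : ComplSolvable π G) (N : Subgroup G) [N.Normal]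
    (hN : Piece π (Nat.card N)) : ComplSolvable π (G ⧸ N) := by
  intro U hU
  set q := QuotientGroup.mk' N
  set L := U.comap q
  have hmap : L.map q = U :=
    Subgroup.map_comap_eq_self_of_surjective (QuotientGroup.mk'_surjective N) U
  rcases hN with hN | hN
  · set N' := N.subgroupOf L
    have hNL : N ≤ L := QuotientGroup.le_comap_mk' N U
    have hidx : N'.index = Nat.card U := by
      rw [show N'.index = N.relIndex L from rfl, relIndex_eq_card_map, hmap]
    have hcN : Nat.card N' = Nat.card N :=
      Nat.card_congr (Subgroup.subgroupOfEquivOfLe hNL).toEquiv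
    obtain ⟨K, hK⟩ := Subgroup.exists_right_complement'_of_coprime (N := N')
      (by rw [hcN, hidx]; exact PiNat.coprime hN hU)
    have hKc : PiNat πᶜ (Nat.card (K.map L.subtype)) := by
      rw [Subgroup.card_map_of_injective L.subtype_injective, ← hK.symm.index_eq_card, hidx]
      exact hU
    have := h _ hKc
    have hKU : (K.map L.subtype).map q = U := by
      refine le_antisymm ?_ fun y hy => ?_
      · rw [← hmap]; exact Subgroup.map_mono (Subgroup.map_subtype_le K)
      · rw [← hmap] at hy
        obtain ⟨x, hx, rfl⟩ := hy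
        obtain ⟨⟨n, k⟩, hnk⟩ := hK.2 ⟨x, hx⟩
        have hx' : ((n : L) : G) * ((k : L) : G) = x := congrArg Subtype.val hnk
        refine ⟨(k : L), ⟨k, k.2, rfl⟩, ?_⟩
        have hn1 : q ((n : L) : G) = 1 := (QuotientGroup.eq_one_iff _).mpr n.2
        rw [← hx', map_mul, hn1, one_mul]
    rw [← hKU]
    exact Group.isSolvable_of_surjective (q.subgroupMap_surjective (K.map L.subtype))
  · have := h L (piNat_card_comap hN hU)
    rw [← hmap]
    exact Group.isSolvable_of_surjective (q.subgroupMap_surjective L)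

universe u

/-- Existence of Hall π-subgroups in π-separable groups. -/
theorem exists_isPiHall {G : Type u} [Group G] [Finite G] (hG : IsPiSeparable π G) :
    ∃ H : Subgroup G, Cfsg.IsPiHall π H := by
  induction hn : Nat.card G using Nat.strong_induction_on generalizing G with
  | _ n ih =>
    rcases subsingleton_or_nontrivial G with h | h
    · refine ⟨⊥, isPiHall_iff.mpr ⟨?_, ?_⟩⟩
      · simpa using piNat_one π
      · rw [Subgroup.index_bot, Nat.card_of_subsingleton (1 : G)]
        exact piNat_one _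
    obtain ⟨N, hN, hpiece⟩ := hG.exists_minNormal_piece
    have := hN.normal
    set q := QuotientGroup.mk' N
    obtain ⟨K, hK⟩ := ih _ (hn ▸ card_quotient_lt hN.ne_bot) (hG.to_quotient N) rfl
    rw [isPiHall_iff] at hK
    set M := K.comap q
    have hMi : M.index = K.index :=
      Subgroup.index_comap_of_surjective K (QuotientGroup.mk'_surjective N)
    rcases hpiece with hNπ | hNπ
    · exact ⟨M, isPiHall_iff.mpr ⟨piNat_card_comap hNπ hK.1, hMi ▸ hK.2⟩⟩
    · set N' := N.subgroupOf M
      have hNM : N ≤ M := QuotientGroup.le_comap_mk' N K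
      have hidx : N'.index = Nat.card K := by
        rw [show N'.index = N.relIndex M from rfl, relIndex_eq_card_map,
          Subgroup.map_comap_eq_self_of_surjective (QuotientGroup.mk'_surjective N)]
      have hcN : Nat.card N' = Nat.card N :=
        Nat.card_congr (Subgroup.subgroupOfEquivOfLe hNM).toEquiv
      obtain ⟨C, hC⟩ := Subgroup.exists_right_complement'_of_coprime (N := N')
        (by rw [hcN, hidx]; exact (PiNat.coprime hK.1 hNπ).symm)
      refine ⟨C.map M.subtype, isPiHall_iff.mpr ⟨?_, ?_⟩⟩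
      · rw [Subgroup.card_map_of_injective M.subtype_injective, ← hC.symm.index_eq_card, hidx]
        exact hK.1
      · rw [Subgroup.index_map_subtype, hC.index_eq_card, hcN, hMi]
        exact hNπ.mul hK.2

/-- In a π-separable group whose π'-subgroups are solvable, every π-subgroup is contained in a
Hall π-subgroup. -/
theorem exists_isPiHall_ge {G : Type u} [Group G] [Finite G] (hG : IsPiSeparable π G)
    (hs : ComplSolvable π G) {U : Subgroup G} (hU : PiNat π (Nat.card U)) :
    ∃ H : Subgroup G, Cfsg.IsPiHall π H ∧ U ≤ H := by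
  induction hn : Nat.card G using Nat.strong_induction_on generalizing G with
  | _ n ih =>
    rcases subsingleton_or_nontrivial G with h | h
    · obtain ⟨H, hH⟩ := exists_isPiHall hG
      exact ⟨H, hH, fun x _ => by rw [Subsingleton.elim x 1]; exact H.one_mem⟩
    obtain ⟨N, hN, hpiece⟩ := hG.exists_minNormal_piece
    have := hN.normal
    set q := QuotientGroup.mk' N
    obtain ⟨K, hK, hUK⟩ := ih _ (hn ▸ card_quotient_lt hN.ne_bot) (hG.to_quotient N)
      (hs.to_quotient N hpiece) (U := U.map q) (hU.of_dvd (Subgroup.card_map_dvd _ _)) rfl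
    set M := K.comap q
    have hUM : U ≤ M := Subgroup.map_le_iff_le_comap.mp hUK
    have hMi : M.index = K.index :=
      Subgroup.index_comap_of_surjective K (QuotientGroup.mk'_surjective N)
    rcases hpiece with hNπ | hNπ
    · refine ⟨M, ?_, hUM⟩
      rw [isPiHall_iff] at hK ⊢
      exact ⟨piNat_card_comap hNπ hK.1, hMi ▸ hK.2⟩
    · have := hs N hNπ
      have := hN.commutative_of_solvable
      obtain ⟨H, hH⟩ := exists_isPiHall hG
      -- replace `H` by a conjugate with `H N = M`
      have hHπ := (isPiHall_iff.mp hH)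
      have hNM : N ≤ M := QuotientGroup.le_comap_mk' N K
      obtain ⟨C, hC⟩ : ∃ C : Subgroup G, Cfsg.IsPiHall π C ∧ C ⊔ N = M := by
        set N' := N.subgroupOf M
        have hidx : N'.index = Nat.card K := by
          rw [show N'.index = N.relIndex M from rfl, relIndex_eq_card_map,
            Subgroup.map_comap_eq_self_of_surjective (QuotientGroup.mk'_surjective N)]
        have hcN : Nat.card N' = Nat.card N :=
          Nat.card_congr (Subgroup.subgroupOfEquivOfLe hNM).toEquiv
        have hK' := isPiHall_iff.mp hK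
        obtain ⟨C, hC⟩ := Subgroup.exists_right_complement'_of_coprime (N := N')
          (by rw [hcN, hidx]; exact (PiNat.coprime hK'.1 hNπ).symm)
        refine ⟨C.map M.subtype, isPiHall_iff.mpr ⟨?_, ?_⟩, ?_⟩
        · rw [Subgroup.card_map_of_injective M.subtype_injective, ← hC.symm.index_eq_card, hidx]
          exact hK'.1
        · rw [Subgroup.index_map_subtype, hC.index_eq_card, hcN, hMi]
          exact hNπ.mul hK'.2
        · rw [← Subgroup.map_subgroupOf_eq_of_le hNM, ← Subgroup.map_sup, hC.symm.sup_eq_top,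
            ← MonoidHom.range_eq_map, M.range_subtype]
      obtain ⟨hC1, hC2⟩ := hC
      set V := C ⊓ (U ⊔ N)
      have hUV : U ⊔ N = V ⊔ N := by
        refine le_antisymm ?_ (sup_le inf_le_right le_sup_right)
        intro x hx
        have hxM : x ∈ C ⊔ N := hC2 ▸ sup_le hUM hNM hx
        obtain ⟨c, hc, m, hm, rfl⟩ := Subgroup.mem_sup_of_normal_right.mp hxM
        refine Subgroup.mul_mem_sup ⟨hc, ?_⟩ hm
        simpa using (U ⊔ N).mul_mem hx ((U ⊔ N).inv_mem (Subgroup.mem_sup_right hm))
      have hcopU : (Nat.card N).Coprime (Nat.card U) := (PiNat.coprime hU hNπ).symm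
      have hcopV : (Nat.card N).Coprime (Nat.card V) :=
        ((PiNat.coprime (isPiHall_iff.mp hC1).1 hNπ).coprime_dvd_left
          (Subgroup.card_dvd_of_le inf_le_left)).symm
      obtain ⟨m, -, hmU⟩ := conj_of_sup_eq hcopU hcopV hUV
      refine ⟨MulAut.conj m⁻¹ • C, isPiHall_conj hC1 _, ?_⟩
      have h1 : MulAut.conj m • U ≤ C := hmU ▸ inf_le_left
      rw [map_inv]
      exact Subgroup.pointwise_smul_subset_iff.mp h1

/-- In a π-separable group whose π'-subgroups are solvable, Hall π-subgroups are conjugate. -/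
theorem isPiHall_conjugate {G : Type u} [Group G] [Finite G] (hG : IsPiSeparable π G)
    (hs : ComplSolvable π G) {H K : Subgroup G} (hH : Cfsg.IsPiHall π H)
    (hK : Cfsg.IsPiHall π K) : ∃ g : G, MulAut.conj g • H = K := by
  induction hn : Nat.card G using Nat.strong_induction_on generalizing G with
  | _ n ih =>
    rcases subsingleton_or_nontrivial G with h | h
    · exact ⟨1, Subsingleton.elim _ _⟩
    obtain ⟨N, hN, hpiece⟩ := hG.exists_minNormal_piece
    have := hN.normal
    set q := QuotientGroup.mk' N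
    have hsur : Function.Surjective q := QuotientGroup.mk'_surjective N
    obtain ⟨g', hg'⟩ := ih _ (hn ▸ card_quotient_lt hN.ne_bot) (hG.to_quotient N)
      (hs.to_quotient N hpiece) (isPiHall_map hH hsur) (isPiHall_map hK hsur) rfl
    obtain ⟨g, rfl⟩ := hsur g'
    set H' := MulAut.conj g • H
    have hH' : Cfsg.IsPiHall π H' := isPiHall_conj hH g
    have hsup : H' ⊔ N = K ⊔ N := by
      have h1 := congrArg (Subgroup.comap q) hg'
      rw [← map_conj_smul, comap_mk'_map, comap_mk'_map] at h1
      exact h1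
    rcases hpiece with hNπ | hNπ
    · refine ⟨g, ?_⟩
      have h1 : H' = H' ⊔ N := eq_of_isPiHall_le hH' le_sup_left
        (piNat_card_sup (B := N) hH'.1 hNπ)
      have h2 : K = K ⊔ N := eq_of_isPiHall_le hK le_sup_left (piNat_card_sup (B := N) hK.1 hNπ)
      show H' = K
      rw [h1, h2, hsup]
    · have := hs N hNπ
      have := hN.commutative_of_solvable
      obtain ⟨m, -, hm⟩ := conj_of_sup_eq (PiNat.coprime (π := π) hH'.1 hNπ).symm
        (PiNat.coprime (π := π) hK.1 hNπ).symm hsup
      refine ⟨m * g, ?_⟩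
      rw [map_mul, mul_smul]
      exact hm

/-- Containment in a conjugate of a given Hall subgroup. -/
theorem le_conj_isPiHall {G : Type u} [Group G] [Finite G] (hG : IsPiSeparable π G)
    (hs : ComplSolvable π G) {U H : Subgroup G} (hU : PiNat π (Nat.card U))
    (hH : Cfsg.IsPiHall π H) : ∃ g : G, U ≤ MulAut.conj g • H := by
  obtain ⟨K, hK, hUK⟩ := exists_isPiHall_ge hG hs hU
  obtain ⟨g, hg⟩ := isPiHall_conjugate hG hs hH hK
  exact ⟨g, hg ▸ hUK⟩

/-! ### Solvable groups -/

theorem exists_isPiHall_of_solvable {G : Type u} [Group G] [Finite G] [Group.IsSolvable G]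
    (π : Set ℕ) : ∃ H : Subgroup G, Cfsg.IsPiHall π H :=
  exists_isPiHall (isPiSeparable_of_solvable π)

theorem isPiHall_conjugate_of_solvable {G : Type u} [Group G] [Finite G] [Group.IsSolvable G]
    {H K : Subgroup G} (hH : Cfsg.IsPiHall π H) (hK : Cfsg.IsPiHall π K) :
    ∃ g : G, MulAut.conj g • H = K :=
  isPiHall_conjugate (isPiSeparable_of_solvable π) (complSolvable_of_solvable π) hH hK

theorem exists_isPiHall_ge_of_solvable {G : Type u} [Group G] [Finite G] [Group.IsSolvable G]
    {U : Subgroup G} (hU : PiNat π (Nat.card U)) :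
    ∃ H : Subgroup G, Cfsg.IsPiHall π H ∧ U ≤ H :=
  exists_isPiHall_ge (isPiSeparable_of_solvable π) (complSolvable_of_solvable π) hU

theorem card_isPiHall_of_eq [Finite G] {H : Subgroup G} {m n : ℕ} (hG : Nat.card G = m * n)
    (hmn : m.Coprime n) (hH : Cfsg.IsPiHall {q | q ∣ m} H) : Nat.card H = m := by
  rw [isPiHall_iff] at hH
  have h1 : Nat.card H * H.index = m * n := by rw [H.card_mul_index, hG]
  have hm : m.Coprime H.index :=
    PiNat.coprime (π := {q | q ∣ m}) (fun q _ hd => hd) hH.2
  have hn : (Nat.card H).Coprime n := by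
    refine Nat.coprime_of_dvd fun q hq h2 h3 => ?_
    exact hq.not_dvd_one (hmn ▸ Nat.dvd_gcd (hH.1 q hq h2) h3)
  exact Nat.dvd_antisymm (hn.dvd_of_dvd_mul_right ⟨H.index, h1.symm⟩)
    (hm.dvd_of_dvd_mul_right ⟨n, h1⟩)

theorem isPiHall_of_card [Finite G] {H : Subgroup G} {m n : ℕ} (hG : Nat.card G = m * n)
    (hmn : m.Coprime n) (hH : Nat.card H = m) : Cfsg.IsPiHall {q | q ∣ m} H := by
  rw [isPiHall_iff]
  refine ⟨fun q _ hd => show q ∣ m from hH ▸ hd, fun q hq hd hqm => ?_⟩
  have h1 : H.index = n := by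
    have := H.card_mul_index
    rw [hH, hG] at this
    refine Nat.eq_of_mul_eq_mul_left ?_ this
    rw [← hH]; exact Nat.card_pos
  exact hq.not_dvd_one (hmn ▸ Nat.dvd_gcd hqm (h1 ▸ hd))

end Hall

end Cfsg.Agent.HallTheorem
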