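import Mathlib
import Cfsg.Prelude.Def_OddOrder
import Cfsg.Prelude.Def_OddOrderLocal
import Cfsg.Prelude.Def_ClassificationStages
import Cfsg.Agent.Lib.HallTheorem
import Cfsg.Agent.Lib.FrobeniusBasic

/-!
Glue for the Odd Order Theorem: minimal counterexamples, alignment of type P data with a given
complement, and the parabolic configuration.
-/

set_option autoImplicit false

namespace Cfsg.Agent.FTGlue54

open scoped Pointwise

universe u

/-- A solvable extension of a solvable group is solvable. -/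
theorem solvable_of_normal {G : Type u} [Group G] (N : Subgroup G) [N.Normal]
    (h1 : Group.IsSolvable N) (h2 : Group.IsSolvable (G ⧸ N)) : Group.IsSolvable G := by
  haveI := h1
  haveI := h2
  exact solvable_of_ker_le_range N.subtype (QuotientGroup.mk' N) (by simp)

/-- A non-solvable group of odd order yields a minimal simple group of odd order. -/
theorem solvable_of_no_minSimple
    (h : ∀ (H : Type u) [Group H] [Finite H], ¬ Cfsg.IsMinSimpleOddOrder H)
    (G : Type u) [Group G] [Finite G] (hG : Odd (Nat.card G)) : Group.IsSolvable G := by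
  suffices H : ∀ n (G : Type u) [Group G] [Finite G], Nat.card G = n → Odd n → Group.IsSolvable G from
    H _ G rfl hG
  intro n
  induction n using Nat.strong_induction_on with
  | _ n ih =>
    intro G _ _ hn hodd
    subst hn
    by_contra hns
    have hsub : ∀ H : Subgroup G, H ≠ ⊤ → Group.IsSolvable H := fun H hH =>
      ih _ (lt_of_le_of_ne (Nat.le_of_dvd Nat.card_pos H.card_subgroup_dvd_card)
        fun e => hH (H.eq_top_of_card_eq e)) H rfl (hodd.of_dvd_nat H.card_subgroup_dvd_card)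
    have hnab : ¬ IsMulCommutative G := fun hc => hns (isSolvable_of_comm fun a b => hc.is_comm.comm a b)
    haveI : Nontrivial G := by
      by_contra hnt
      rw [not_nontrivial_iff_subsingleton] at hnt
      exact hnab ⟨⟨fun a b => Subsingleton.elim _ _⟩⟩
    refine h G ⟨hodd, ⟨fun N hN => ?_⟩, hnab, hsub⟩
    by_contra hne
    push Not at hne
    haveI := hN
    refine hns (solvable_of_normal N (hsub N hne.2) ?_)
    have hlt : Nat.card (G ⧸ N) < Nat.card G := by
      have h1 := N.card_mul_index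
      have h2 : 1 < Nat.card N := N.one_lt_card_iff_ne_bot.2 hne.1
      rw [← Subgroup.index_eq_card, ← h1]
      exact lt_mul_left (Nat.pos_of_ne_zero N.index_ne_zero_of_finite) h2
    exact ih _ hlt (G ⧸ N) rfl (hodd.of_dvd_nat (Subgroup.card_quotient_dvd_card N))

variable {G : Type u} [Group G]

/-- In a finite cyclic group subgroups meeting trivially have coprime orders. -/
theorem coprime_of_inf_eq_bot [Finite G] {A B W : Subgroup G} (hW : IsCyclic W) (hA : A ≤ W)
    (hB : B ≤ W) (h : A ⊓ B = ⊥) : (Nat.card A).Coprime (Nat.card B) := by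
  classical
  refine Nat.coprime_of_dvd fun r hr hrA hrB => ?_
  haveI := Fact.mk hr
  obtain ⟨a, ha⟩ := exists_prime_orderOf_dvd_card' (G := A) r hrA
  obtain ⟨b, hb⟩ := exists_prime_orderOf_dvd_card' (G := B) r hrB
  rw [← Subgroup.orderOf_coe] at ha hb
  let a' : W := ⟨a.1, hA a.2⟩
  let b' : W := ⟨b.1, hB b.2⟩
  have ha' : orderOf a' = r := by rw [← Subgroup.orderOf_coe]; exact ha
  have hb' : orderOf b' = r := by rw [← Subgroup.orderOf_coe]; exact hb
  haveI := hW
  have hz : Subgroup.zpowers a' = Subgroup.zpowers b' := by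
    have key : ∀ z : W, z ^ r = 1 → z ∈ Subgroup.zpowers b' := by
      intro z hz
      haveI := Fintype.ofFinite W
      by_contra hzn
      have h1 := IsCyclic.card_pow_eq_one_le (α := W) hr.pos
      have h2 : (insert z ((Finset.univ : Finset W).filter (· ∈ Subgroup.zpowers b'))) ⊆
          (Finset.univ.filter fun x : W => x ^ r = 1) := by
        intro x hx
        rcases Finset.mem_insert.1 hx with rfl | hx
        · simpa using hz
        · obtain ⟨k, rfl⟩ := Subgroup.mem_zpowers_iff.1 (Finset.mem_filter.1 hx).2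
          refine Finset.mem_filter.2 ⟨Finset.mem_univ _, ?_⟩
          rw [← hb', ← zpow_natCast, ← zpow_mul, mul_comm, zpow_mul, zpow_natCast,
            pow_orderOf_eq_one, one_zpow]
      have h3 := (Finset.card_le_card h2).trans h1
      rw [Finset.card_insert_of_notMem (by simp [hzn])] at h3
      have h4 : ((Finset.univ : Finset W).filter (· ∈ Subgroup.zpowers b')).card = r := by
        rw [← hb', ← Nat.card_zpowers, Nat.card_eq_fintype_card, Fintype.card_subtype]
      omega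
    exact Subgroup.eq_of_le_of_card_ge (Subgroup.zpowers_le.2 (key a' (by rw [← ha', pow_orderOf_eq_one])))
      (by simp only [Nat.card_zpowers, ha', hb', le_refl])
  obtain ⟨k, hk⟩ := Subgroup.mem_zpowers_iff.1 (hz ▸ Subgroup.mem_zpowers a')
  have hab : a.1 ∈ B := by
    have := congrArg Subtype.val hk
    rw [← this]
    exact B.zpow_mem b.2 k
  have ha1 : a.1 = 1 := by
    rw [← Subgroup.mem_bot, ← h]
    exact ⟨a.2, hab⟩
  rw [ha1, orderOf_one] at ha
  exact hr.one_lt.ne ha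

theorem ne_card_of_selfNormalizing [Finite G] {W₁ W₂ : Subgroup G}
    (h : Cfsg.IsSelfNormalizingCyclic W₁ W₂) : Nat.card W₁ ≠ Nat.card W₂ := by
  obtain ⟨h1, -, h3, -, hc, -⟩ := h
  intro he
  have hco := coprime_of_inf_eq_bot hc le_sup_left le_sup_right h3
  rw [← he, Nat.coprime_self] at hco
  exact h1 (Subgroup.card_eq_one.1 hco)

theorem isComplement'_subgroupOf {A B M : Subgroup G} (h : Cfsg.IsComplIn A B M) :
    Subgroup.IsComplement' (A.subgroupOf M) (B.subgroupOf M) := by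
  obtain ⟨hA, hB, hd, hp⟩ := h
  refine Subgroup.isComplement'_of_disjoint_and_mul_eq_univ ?_ ?_
  · rw [Subgroup.disjoint_def]
    intro x hxA hxB
    have : (x : G) ∈ A ⊓ B := ⟨hxA, hxB⟩
    rw [hd, Subgroup.mem_bot] at this
    exact Subtype.ext this
  · refine Set.eq_univ_of_forall fun m => ?_
    obtain ⟨a, ha, b, hb, hm⟩ := hp m m.2
    exact Set.mem_mul.2 ⟨⟨a, hA ha⟩, ha, ⟨b, hB hb⟩, hb, Subtype.ext hm.symm⟩

theorem card_of_isComplIn {A B M : Subgroup G} (h : Cfsg.IsComplIn A B M) :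
    Nat.card A * Nat.card B = Nat.card M := by
  rw [← (isComplement'_subgroupOf h).card_mul,
    Nat.card_congr (Subgroup.subgroupOfEquivOfLe h.1).toEquiv,
    Nat.card_congr (Subgroup.subgroupOfEquivOfLe h.2.1).toEquiv]

theorem map_conj_of_mem {M : Subgroup G} {m : G} (hm : m ∈ M) :
    M.map (MulAut.conj m).toMonoidHom = M := by
  refine le_antisymm ?_ fun x hx => ⟨m⁻¹ * x * m, M.mul_mem (M.mul_mem (M.inv_mem hm) hx) hm, by
    simp [mul_assoc]⟩
  rintro _ ⟨x, hx, rfl⟩
  exact M.mul_mem (M.mul_mem hm hx) (M.inv_mem hm)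

theorem map_conj_subgroupOf {M : Subgroup G} (N : Subgroup M) [N.Normal] {m : G} (hm : m ∈ M) :
    (N.map M.subtype).map (MulAut.conj m).toMonoidHom = N.map M.subtype := by
  have key : ∀ m ∈ M, (N.map M.subtype).map (MulAut.conj m).toMonoidHom ≤ N.map M.subtype := by
    rintro m hm _ ⟨_, ⟨x, hx, rfl⟩, rfl⟩
    exact ⟨_, Subgroup.Normal.conj_mem ‹N.Normal› x hx ⟨m, hm⟩, by simp⟩
  refine le_antisymm (key m hm) fun x hx =>
    ⟨m⁻¹ * x * m, key m⁻¹ (M.inv_mem hm) ⟨x, hx, by simp⟩, by simp [mul_assoc]⟩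

/-- Type P data can be chosen with any given complement of the derived subgroup. -/
theorem exists_typePWith_of_compl [Finite G] {S W₁ W₁' U' W₂' W₂ : Subgroup G}
    (hs : Group.IsSolvable S) (hP : Cfsg.IsTypePWith S W₁' U' W₂')
    (hc : Cfsg.IsComplIn ⁅S, S⁆ W₁ S) (hW : Cfsg.IsSelfNormalizingCyclic W₁ W₂) (hW₂S : W₂ ≤ S) :
    ∃ U, Cfsg.IsTypePWith S W₁ U W₂ := by
  classical
  haveI := hs
  have hW₁S : W₁ ≤ S := hc.2.1
  have hW₁'S : W₁' ≤ S := hP.W₁_compl.2.1
  have hcard : Nat.card W₁ = Nat.card W₁' := by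
    have h1 := card_of_isComplIn hc
    have h2 := card_of_isComplIn hP.W₁_compl
    exact Nat.eq_of_mul_eq_mul_left Nat.card_pos (h1.trans h2.symm)
  let π : Set ℕ := {r | r ∣ Nat.card W₁'}
  have hH' : Cfsg.IsPiHall π (W₁'.subgroupOf S) := by
    refine ⟨fun r _ h => ?_, fun r hr h1 h2 => ?_⟩
    · rwa [Nat.card_congr (Subgroup.subgroupOfEquivOfLe hW₁'S).toEquiv] at h
    · exact hr.one_lt.ne' (Nat.eq_one_of_dvd_coprimes hP.W₁_hall h1 h2)
  have hH : Cfsg.IsPiHall π (W₁.subgroupOf S) := HallTheorem.isPiHall_of_card_eq hH' (by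
    rw [Nat.card_congr (Subgroup.subgroupOfEquivOfLe hW₁'S).toEquiv,
      Nat.card_congr (Subgroup.subgroupOfEquivOfLe hW₁S).toEquiv, hcard])
  obtain ⟨⟨m, hm⟩, hconj⟩ := HallTheorem.isPiHall_conjugate_of_solvable hH' hH
  set φ := (MulAut.conj m).toMonoidHom with hφ
  have hφinj : Function.Injective φ := (MulAut.conj m).injective
  have hW₁eq : W₁'.map φ = W₁ := by
    have h1 := congrArg (Subgroup.map S.subtype) hconj
    rw [Subgroup.map_subgroupOf_eq_of_le hW₁S, HallTheorem.conj_smul_eq_map, Subgroup.map_map] at h1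
    rw [← h1]
    conv_lhs => rw [← Subgroup.map_subgroupOf_eq_of_le hW₁'S, Subgroup.map_map]
    rfl
  have hSS : ⁅S, S⁆.map φ = ⁅S, S⁆ := by rw [Subgroup.map_commutator, map_conj_of_mem hm]
  have hF : (Cfsg.fittingHallOf S).map φ = Cfsg.fittingHallOf S := map_conj_subgroupOf _ hm
  have hW₂'c : ∀ x ∈ W₁, x ≠ 1 → ⁅S, S⁆ ⊓ Subgroup.centralizer ({x} : Set G) = W₂'.map φ := by
    intro x hx hx1
    obtain ⟨y, hy, rfl⟩ := hW₁eq.symm ▸ hx
    have hy1 : y ≠ 1 := fun h => hx1 (by rw [h, map_one])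
    conv_lhs => rw [← hSS]
    rw [← hP.W₂_centralizer y hy hy1, Subgroup.map_inf _ _ _ hφinj]
    congr 1
    ext z
    rw [Subgroup.mem_centralizer_singleton_iff]
    constructor
    · intro hz
      have e : φ ((MulAut.conj m).symm z) = z := (MulAut.conj m).apply_symm_apply z
      refine ⟨(MulAut.conj m).symm z, ?_, e⟩
      refine Subgroup.mem_centralizer_singleton_iff.2 (hφinj ?_)
      rw [map_mul, map_mul, e]
      exact hz
    · rintro ⟨w, hw, rfl⟩
      rw [← map_mul, ← map_mul, Subgroup.mem_centralizer_singleton_iff.1 hw]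
  obtain ⟨hW1ne, hW2ne, hW12, hWcomm, hWcyc, hWnorm⟩ := hW
  obtain ⟨x, hx, hx1⟩ := Subgroup.bot_or_exists_ne_one W₁ |>.resolve_left hW1ne
  set C := W₂'.map φ with hC
  have hCd : C ≤ ⁅S, S⁆ := by rw [← hW₂'c x hx hx1]; exact inf_le_left
  have hCcomm : ∀ a ∈ W₁, ∀ b ∈ C, a * b = b * a := by
    rintro _ ha _ ⟨b, hb, rfl⟩
    obtain ⟨a, ha', rfl⟩ := hW₁eq.symm ▸ ha
    rw [← map_mul, ← map_mul, hP.selfNormalizing.2.2.2.1 a ha' b hb]
  have hsup : W₁ ⊔ C = (W₁' ⊔ W₂').map φ := by rw [Subgroup.map_sup, hW₁eq]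
  have hcoW : (Nat.card W₁).Coprime (Nat.card W₂) :=
    coprime_of_inf_eq_bot hWcyc le_sup_left le_sup_right hW12
  have hle : W₂ ≤ C := by
    intro y hy
    obtain ⟨a, ha, b, hb, rfl⟩ := hc.2.2.2 y (hW₂S hy)
    have hxy := hWcomm x hx (a * b) hy
    have hxb : x * b = b * x := by
      haveI := hWcyc
      exact congrArg Subtype.val (IsCyclic.commGroup.mul_comm (⟨x, Subgroup.mem_sup_left hx⟩ : ↥(W₁ ⊔ W₂))
        ⟨b, Subgroup.mem_sup_left hb⟩)
    have hax : x * a = a * x := by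
      have h1 : x * a * b = a * x * b := by rw [mul_assoc, hxy, mul_assoc, ← hxb, mul_assoc]
      exact mul_right_cancel h1
    have haC : a ∈ C := by
      rw [← hW₂'c x hx hx1]
      exact ⟨ha, Subgroup.mem_centralizer_singleton_iff.2 hax.symm⟩
    have hab : a * b = b * a := (hCcomm b hb a haC).symm
    have hpow := Subgroup.pow_mem _ hb (Nat.card W₂)
    have hy1 : a ^ Nat.card W₂ * b ^ Nat.card W₂ = 1 := by
      rw [← Commute.mul_pow hab]
      exact congrArg Subtype.val (pow_card_eq_one' (G := W₂) (x := ⟨a * b, hy⟩))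
    have hb1 : b ^ Nat.card W₂ = 1 := by
      rw [← Subgroup.mem_bot, ← hc.2.2.1]
      refine ⟨?_, hpow⟩
      rw [eq_inv_of_mul_eq_one_right hy1]
      exact Subgroup.inv_mem _ (Subgroup.pow_mem _ ha _)
    have hb2 : b ^ Nat.card W₁ = 1 :=
      congrArg Subtype.val (pow_card_eq_one' (G := W₁) (x := ⟨b, hb⟩))
    have : b = 1 := by
      rw [← orderOf_eq_one_iff]
      exact Nat.eq_one_of_dvd_coprimes hcoW (orderOf_dvd_of_pow_eq_one hb2) (orderOf_dvd_of_pow_eq_one hb1)
    rwa [this, mul_one]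
  obtain ⟨y, hy, hy1⟩ := Subgroup.bot_or_exists_ne_one W₂ |>.resolve_left hW2ne
  have hxy : x * y ∈ (↑(W₁ ⊔ W₂) : Set G) \ (↑W₁ ∪ ↑W₂) := by
    refine ⟨Subgroup.mul_mem _ (Subgroup.mem_sup_left hx) (Subgroup.mem_sup_right hy), ?_⟩
    rintro (h | h)
    · have : y ∈ W₁ ⊓ W₂ := ⟨by simpa using W₁.mul_mem (W₁.inv_mem hx) h, hy⟩
      rw [hW12] at this
      exact hy1 this
    · have : x ∈ W₁ ⊓ W₂ := ⟨hx, by simpa [mul_assoc] using W₂.mul_mem h (W₂.inv_mem hy)⟩
      rw [hW12] at this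
      exact hx1 this
  have hge : C ≤ W₂ := by
    intro z hz
    have hzW : z ∈ W₁ ⊔ W₂ := by
      rw [← hWnorm {x * y} (Set.singleton_subset_iff.2 hxy) (Set.singleton_nonempty _)]
      refine Subgroup.centralizer_le_normalizer _ ?_
      rw [Subgroup.mem_centralizer_singleton_iff]
      have h1 : z ∈ W₁ ⊔ C := Subgroup.mem_sup_right hz
      have h2 : x * y ∈ W₁ ⊔ C :=
        Subgroup.mul_mem _ (Subgroup.mem_sup_left hx) (Subgroup.mem_sup_right (hle hy))
      rw [hsup] at h1 h2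
      obtain ⟨z', hz', e1⟩ := h1
      obtain ⟨w', hw', e2⟩ := h2
      haveI := hP.selfNormalizing.2.2.2.2.1
      have e := congrArg Subtype.val
        (IsCyclic.commGroup.mul_comm (⟨z', hz'⟩ : ↥(W₁' ⊔ W₂')) ⟨w', hw'⟩)
      rw [← e1, ← e2, ← map_mul, ← map_mul]
      exact congrArg φ e
    have hn : W₁ ≤ Subgroup.normalizer (W₂ : Set G) :=
      le_trans (fun a ha => Subgroup.mem_centralizer_iff.2 fun b hb => (hWcomm a ha b hb).symm)
        (Subgroup.centralizer_le_normalizer _)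
    rw [← SetLike.mem_coe, Subgroup.coe_mul_of_left_le_normalizer_right _ _ hn] at hzW
    obtain ⟨a, ha, b, hb, rfl⟩ := hzW
    have : a ∈ ⁅S, S⁆ ⊓ W₁ := ⟨by
      simpa [mul_assoc] using Subgroup.mul_mem _ (hCd hz) (Subgroup.inv_mem _ (hCd (hle hb))), ha⟩
    rw [hc.2.2.1, Subgroup.mem_bot] at this
    simpa [this] using hb
  have hCW : C = W₂ := le_antisymm hge hle
  refine ⟨U'.map φ, ⟨hW1ne, ?_, ?_, hc, ?_, ?_, ?_, hP.H_not_cyclic, hP.derived_two_le,
    hP.fitting_eq, hP.fitting_le, ?_, fun a ha ha1 => (hW₂'c a ha ha1).trans hCW,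
    ⟨hW1ne, hW2ne, hW12, hWcomm, hWcyc, hWnorm⟩⟩⟩
  · haveI := hP.W₁_cyclic
    rw [← hW₁eq]
    exact isCyclic_of_surjective _ (W₁'.equivMapOfInjective φ hφinj).surjective
  · have : W₁.relIndex S = W₁'.relIndex S := by
      have h1 := (W₁.subgroupOf S).card_mul_index
      have h2 := (W₁'.subgroupOf S).card_mul_index
      rw [Nat.card_congr (Subgroup.subgroupOfEquivOfLe hW₁S).toEquiv] at h1
      rw [Nat.card_congr (Subgroup.subgroupOfEquivOfLe hW₁'S).toEquiv, ← hcard] at h2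
      exact Nat.eq_of_mul_eq_mul_left Nat.card_pos (h1.trans h2.symm)
    rw [this, hcard]
    exact hP.W₁_hall
  · haveI := hP.U_nilpotent
    exact Group.nilpotent_of_mulEquiv (U'.equivMapOfInjective φ hφinj)
  · rw [← hW₁eq]
    exact (Subgroup.map_mono hP.U_normal).trans (Subgroup.le_normalizer_map φ)
  · obtain ⟨h1, h2, h3, h4⟩ := hP.U_compl
    refine ⟨h1, hSS ▸ Subgroup.map_mono h2, ?_, fun s hs' => ?_⟩
    · rw [← hF, ← Subgroup.map_inf _ _ _ hφinj, h3, Subgroup.map_bot]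
    · obtain ⟨s, hs'', rfl⟩ := hSS.symm ▸ hs'
      obtain ⟨a, ha, b, hb, rfl⟩ := h4 s hs''
      exact ⟨φ a, hF ▸ Subgroup.mem_map_of_mem φ ha, φ b, Subgroup.mem_map_of_mem φ hb, map_mul φ a b⟩
  · rw [← hCW]
    exact (Subgroup.map_mono hP.W₂_le).trans (le_of_eq (by
      rw [Subgroup.map_inf _ _ _ hφinj, Subgroup.map_commutator, hSS, hF]))

/-- The parabolic configuration. -/
theorem isParabolicType_of [Finite G] (hodd : Odd (Nat.card G)) {p q : ℕ} (hp : p.Prime)
    (hq : q.Prime) (hqp : q < p) (hqG : q ∣ Nat.card G)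
    (hcop : Nat.Coprime ((p ^ q - 1) / (p - 1)) (p - 1)) {U P P₀ Q : Subgroup G}
    (hP : Cfsg.IsElementaryAbelian p P) (hPc : Nat.card P = p ^ q) (hUcyc : IsCyclic U)
    (hUc : Nat.card U * (p - 1) = p ^ q - 1)
    (hfpf : ∀ u ∈ U, u ≠ 1 → ∀ x ∈ P, u * x = x * u → x = 1)
    (hUP : U ≤ Subgroup.normalizer (P : Set G)) (hP₀ : P₀ ≤ P) (hP₀c : Nat.card P₀ = p)
    (hQ : Cfsg.IsElementaryAbelian q Q) (hP₀Q : P₀ ≤ Subgroup.normalizer (Q : Set G))
    {y : G} (hy : y ∈ Q)
    (hyU : P₀.map (MulAut.conj y).toMonoidHom ≤ Subgroup.normalizer (U : Set G)) :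
    Cfsg.IsParabolicType p q G := by
  classical
  have hpG : p ∣ Nat.card G := hP₀c ▸ P₀.card_subgroup_dvd_card
  have h2 : ∀ r : ℕ, r ∣ Nat.card G → r ≠ 2 := fun r hr h => by
    subst h
    exact absurd (hodd.of_dvd_nat hr) (by decide)
  have hp1 : 0 < p - 1 := by have := hp.two_le; omega
  have hUcard : Nat.card U = (p ^ q - 1) / (p - 1) := by rw [← hUc, Nat.mul_div_cancel _ hp1]
  have hPne : P ≠ ⊥ := fun h => by
    rw [h, Subgroup.card_bot] at hPc
    exact (Nat.one_lt_pow hq.ne_zero hp.one_lt).ne hPc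
  have hUne : U ≠ ⊥ := fun h => by
    rw [h, Subgroup.card_bot, one_mul] at hUc
    have : p ^ 2 ≤ p ^ q := Nat.pow_le_pow_right hp.pos hq.two_le
    have : p < p ^ 2 := by nlinarith [hp.two_le]
    omega
  refine ⟨hp, hq, h2 p hpG, h2 q hqG, hqp, hcop, U ⊔ P, U, P, le_sup_left, le_sup_right, rfl, ?_⟩
  set H := U ⊔ P
  haveI hn : (P.subgroupOf H).Normal := Subgroup.normal_subgroupOf_of_le_normalizer
    (sup_le hUP Subgroup.le_normalizer)
  have hd : P ⊓ U = ⊥ := by
    rw [Subgroup.eq_bot_iff_forall]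
    intro u hu
    by_contra hu1
    obtain ⟨x, hx, hx1⟩ := Subgroup.bot_or_exists_ne_one P |>.resolve_left hPne
    haveI := hP.1
    exact hx1 (hfpf u hu.2 hu1 x hx
      (congrArg Subtype.val (mul_comm' (⟨u, hu.1⟩ : P) ⟨x, hx⟩)))
  have hc : Subgroup.IsComplement' (P.subgroupOf H) (U.subgroupOf H) :=
    isComplement'_subgroupOf ⟨le_sup_right, le_sup_left, hd, fun m hm => by
      rw [← SetLike.mem_coe] at hm
      have : (↑(U ⊔ P) : Set G) = (U : Set G) * P :=
        Subgroup.coe_mul_of_left_le_normalizer_right _ _ hUP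
      rw [this] at hm
      obtain ⟨a, ha, b, hb, rfl⟩ := hm
      exact ⟨a * b * a⁻¹, (Subgroup.mem_normalizer_iff.1 (hUP ha) b).1 hb, a, ha, by simp⟩⟩
  have hne : ∀ {A : Subgroup G}, A ≤ H → A ≠ ⊥ → A.subgroupOf H ≠ ⊥ := fun hA hne h => hne (by
    rw [← Subgroup.map_subgroupOf_eq_of_le hA, h, Subgroup.map_bot])
  have hfrob := FrobeniusBasic.isFrobeniusComplement_of_fpf hc (hne le_sup_right hPne)
    (hne le_sup_left hUne) fun h hh h1 => by
      rw [Subgroup.eq_bot_iff_forall]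
      intro k hk
      refine Subtype.ext (hfpf h.1 hh (fun e => h1 (Subtype.ext e)) k.1 hk.1 ?_)
      exact (congrArg Subtype.val (Subgroup.mem_centralizer_singleton_iff.1 hk.2)).symm
  refine ⟨hfrob, FrobeniusBasic.frobeniusKernel_eq hfrob hc, hP, hPc, hUcyc, hUcard, P₀, hP₀, hP₀c,
    Q, hQ.1, fun z => ⟨1, by rw [pow_one]; exact Subtype.ext (hQ.2 z.1 z.2)⟩,
    fun a ha z hz => (Subgroup.mem_normalizer_iff.1 (hP₀Q ha) z).1 hz, y, hy, hyU⟩

end Cfsg.Agent.FTGlue54
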