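import Mathlib
import Cfsg.Agent.Lib.CoprimeAction

/-!
Two counting lemmas on coprime actions: a fixed-point-free element of prime order divides the order minus
one, and `p` subgroups of order `p` with pairwise independent fixed points force a large group.
-/

set_option autoImplicit false
set_option linter.unusedSectionVars false
set_option linter.style.haveILetI false

open scoped Pointwise

namespace Cfsg.Agent.PF12CaseIII

universe u

variable {G : Type u} [Group G] [Finite G]

theorem dvd_card_sub_one {X : Subgroup G} {z : G} {q : ℕ} (hq : q.Prime) (hzo : orderOf z = q)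
    (hz : z ∈ Subgroup.normalizer (X : Set G)) (hfix : ∀ y ∈ X, y * z = z * y → y = 1) :
    q ∣ Nat.card X - 1 := by
  haveI := Fact.mk hq
  set Z := Subgroup.zpowers z with hZ
  have hP : IsPGroup q Z := IsPGroup.of_card (n := 1) (by rw [Nat.card_zpowers, hzo, pow_one])
  have hmem : ∀ (g : Z) (y : X), (g : G) * y * (g : G)⁻¹ ∈ X := fun g y =>
    (Subgroup.mem_normalizer_iff.1 (Subgroup.zpowers_le.2 hz g.2) _).1 y.2
  letI : MulAction Z X :=
    { smul := fun g y => ⟨(g : G) * y * (g : G)⁻¹, hmem g y⟩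
      one_smul := fun y => Subtype.ext (show ((1 : Z) : G) * y * ((1 : Z) : G)⁻¹ = y by simp)
      mul_smul := fun g g' y => Subtype.ext (show ((g * g' : Z) : G) * y * ((g * g' : Z) : G)⁻¹ =
        (g : G) * ((g' : G) * y * (g' : G)⁻¹) * (g : G)⁻¹ by rw [Subgroup.coe_mul]; group) }
  have h := hP.card_modEq_card_fixedPoints X
  have hfp : MulAction.fixedPoints Z X = {(1 : X)} := by
    ext y
    refine ⟨fun hy => ?_, fun hy g => ?_⟩
    · have h1 : z * (y : G) * z⁻¹ = y := congrArg Subtype.val (hy ⟨z, Subgroup.mem_zpowers z⟩)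
      exact Subtype.ext (hfix y y.2 (mul_inv_eq_iff_eq_mul.1 h1).symm)
    · rw [Set.mem_singleton_iff] at hy
      subst hy
      exact Subtype.ext (show (g : G) * ((1 : X) : G) * (g : G)⁻¹ = ((1 : X) : G) by simp)
  rw [hfp, show Nat.card ({(1 : X)} : Set X) = 1 by simp] at h
  exact (Nat.modEq_iff_dvd' Nat.card_pos).1 h.symm

/-- If the `p` lines `⟨a z^i⟩` all have non-trivial fixed points on the abelian `w`-group `R` and `z` has
none, then `R` has order at least `w ^ p`. -/
theorem pow_le_card_of_lines {R : Subgroup G} {a z : G} {p w : ℕ} (hp : p.Prime)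
    (hR : ∀ u ∈ R, ∀ v ∈ R, u * v = v * u)
    (hzo : orderOf z = p) (haz : Commute a z)
    (ha : a ∈ Subgroup.normalizer (R : Set G)) (hz : z ∈ Subgroup.normalizer (R : Set G))
    (hfix : ∀ v ∈ R, Commute z v → v = 1)
    (hw : ∀ v ∈ R, v ≠ 1 → w ≤ orderOf v)
    (hlines : ∀ i < p, ∃ v ∈ R, v ≠ 1 ∧ Commute (a * z ^ i) v) :
    w ^ p ≤ Nat.card R := by
  have hsep : ∀ m t : ℕ, m < t → t < p → ∀ v ∈ R, Commute (a * z ^ m) v → Commute (a * z ^ t) v → v = 1 := by
    intro m t hmt ht v hv h1 h2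
    refine hfix v hv ?_
    have h3 : Commute (z ^ (t - m)) v := by
      have e : z ^ (t - m) = (a * z ^ m)⁻¹ * (a * z ^ t) := by
        rw [mul_inv_rev, mul_assoc, inv_mul_cancel_left, ← pow_sub_mul_pow z hmt.le,
          (Commute.pow_pow_self z (t - m) m).eq, inv_mul_cancel_left]
      rw [e]
      exact h1.inv_left.mul_left h2
    obtain ⟨r, hr⟩ := exists_pow_eq_self_of_coprime (x := z) (n := t - m) (by
      rw [hzo]
      exact ((Nat.Prime.coprime_iff_not_dvd hp).2 (Nat.not_dvd_of_pos_of_lt (by omega) (by omega))).symm)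
    rw [← hr]
    exact h3.pow_left r
  suffices H : ∀ m ≤ p, ∃ U : Subgroup G, U ≤ R ∧ w ^ m ≤ Nat.card U ∧ a ∈ Subgroup.normalizer (U : Set G) ∧
      z ∈ Subgroup.normalizer (U : Set G) ∧
      ∀ v ∈ U, ∀ t, m ≤ t → t < p → Commute (a * z ^ t) v → v = 1 by
    obtain ⟨U, hU, hc, -⟩ := H p le_rfl
    exact hc.trans (Subgroup.card_le_of_le hU)
  intro m hm
  induction m with
  | zero =>
    refine ⟨⊥, bot_le, by simp, ?_, ?_, fun v hv _ _ _ _ => Subgroup.mem_bot.1 hv⟩ <;>
      · rw [Subgroup.mem_normalizer_iff]; intro y; rw [Subgroup.mem_bot, Subgroup.mem_bot]; exact (conj_eq_one_iff).symm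
  | succ m ih =>
    obtain ⟨U, hU, hc, haU, hzU, hprop⟩ := ih (by omega)
    set g := a * z ^ m with hg
    set T := R ⊓ Subgroup.centralizer ({g} : Set G) with hT
    have hnT : ∀ b : G, b ∈ Subgroup.normalizer (R : Set G) → Commute b g → b ∈ Subgroup.normalizer (T : Set G) := by
      intro b hb hbg
      refine CoprimeAction.le_normalizer_inf (A := Subgroup.zpowers b) (Subgroup.zpowers_le.2 hb) ?_
        (Subgroup.mem_zpowers b)
      rw [Subgroup.zpowers_le]
      exact Subgroup.le_normalizer (Subgroup.mem_centralizer_singleton_iff.2 hbg.eq)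
    have hag : Commute a g := (Commute.refl a).mul_right (haz.pow_right m)
    have hzg : Commute z g := haz.symm.mul_right ((Commute.refl z).pow_right m)
    have hgU : g ∈ Subgroup.normalizer (U : Set G) := Subgroup.mul_mem _ haU (Subgroup.pow_mem _ hzU m)
    have hTU : T ≤ Subgroup.normalizer (U : Set G) := fun c hc => by
      rw [Subgroup.mem_normalizer_iff]
      intro v
      refine ⟨fun hv => ?_, fun hv => ?_⟩
      · rwa [hR c hc.1 v (hU hv), mul_inv_cancel_right]
      · have hvR : v ∈ R := by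
          have h1 := R.mul_mem (R.mul_mem (R.inv_mem hc.1) (hU hv)) hc.1
          simpa [mul_assoc] using h1
        rwa [hR c hc.1 v hvR, mul_inv_cancel_right] at hv
    refine ⟨U ⊔ T, sup_le hU inf_le_left, ?_, ?_, ?_, ?_⟩
    · obtain ⟨v₀, hv₀R, hv₀1, hv₀⟩ := hlines m (by omega)
      have hwT : w ≤ Nat.card T := (hw v₀ hv₀R hv₀1).trans (Nat.le_of_dvd Nat.card_pos
        (Subgroup.orderOf_dvd_natCard T ⟨hv₀R, Subgroup.mem_centralizer_singleton_iff.2 hv₀.eq.symm⟩))
      have hinj : Function.Injective (fun uv : U × T => (⟨uv.1 * uv.2,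
          Subgroup.mul_mem _ (Subgroup.mem_sup_left uv.1.2) (Subgroup.mem_sup_right uv.2.2)⟩ : ↥(U ⊔ T))) := by
        rintro ⟨u, c⟩ ⟨u', c'⟩ h
        have h1 : (u : G) * c = u' * c' := congrArg Subtype.val h
        have h2 : (u' : G)⁻¹ * u = c' * (c : G)⁻¹ := by
          rw [eq_mul_inv_iff_mul_eq, mul_assoc, h1, inv_mul_cancel_left]
        have h3 : (u' : G)⁻¹ * u = 1 := hprop _ (U.mul_mem (U.inv_mem u'.2) u.2) m le_rfl (by omega) (by
          rw [h2]
          exact (Subgroup.mem_centralizer_singleton_iff.1 (T.mul_mem c'.2 (T.inv_mem c.2)).2).symm)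
        have hu : u = u' := Subtype.ext (inv_mul_eq_one.1 h3).symm
        subst hu
        exact Prod.ext rfl (Subtype.ext (mul_left_cancel h1))
      calc w ^ (m + 1) = w ^ m * w := pow_succ w m
        _ ≤ Nat.card U * Nat.card T := Nat.mul_le_mul hc hwT
        _ = Nat.card (U × T) := (Nat.card_prod _ _).symm
        _ ≤ _ := Nat.card_le_card_of_injective _ hinj
    · exact CoprimeAction.mem_normalizer_of_conj_smul_eq (by
        rw [Subgroup.smul_sup, CoprimeSZ.conj_smul_eq_self haU,
          CoprimeSZ.conj_smul_eq_self (hnT a ha hag)])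
    · exact CoprimeAction.mem_normalizer_of_conj_smul_eq (by
        rw [Subgroup.smul_sup, CoprimeSZ.conj_smul_eq_self hzU,
          CoprimeSZ.conj_smul_eq_self (hnT z hz hzg)])
    · intro v hv t hmt ht hvt
      rw [← SetLike.mem_coe, Subgroup.coe_mul_of_right_le_normalizer_left _ _ hTU] at hv
      obtain ⟨u, hu, c, hcT, rfl⟩ := Set.mem_mul.1 hv
      have hucR : u * c ∈ R := R.mul_mem (hU hu) hcT.1
      have hgt : Commute (a * z ^ t) g :=
        (hag.mul_left (hzg.pow_left t))
      have hcg : g * c = c * g := (Subgroup.mem_centralizer_singleton_iff.1 hcT.2).symm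
      have e : g * (u * c) * g⁻¹ * (u * c)⁻¹ = g * u * g⁻¹ * u⁻¹ := by
        calc g * (u * c) * g⁻¹ * (u * c)⁻¹ = g * u * g⁻¹ * (g * c * g⁻¹) * c⁻¹ * u⁻¹ := by group
          _ = g * u * g⁻¹ * u⁻¹ := by rw [hcg]; group
      have hu' : g * u * g⁻¹ * u⁻¹ ∈ U :=
        U.mul_mem ((Subgroup.mem_normalizer_iff.1 hgU u).1 hu) (U.inv_mem hu)
      have h1 : Commute (a * z ^ t) (g * u * g⁻¹ * u⁻¹) := by
        rw [← e]
        exact ((hgt.mul_right hvt).mul_right hgt.inv_right).mul_right hvt.inv_right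
      have h2 := hprop _ hu' t (by omega) ht h1
      rw [← e] at h2
      have h3 : Commute g (u * c) := mul_inv_eq_iff_eq_mul.1 (mul_inv_eq_one.1 h2)
      exact hsep m t (by omega) ht _ hucR h3 hvt

end Cfsg.Agent.PF12CaseIII
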