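import Mathlib
import Cfsg.Agent.Lib.CoprimeAction

/-!
Generation by centralisers of noncyclic groups, Thompson's A×B lemma.
-/

namespace Cfsg.Agent.CoprimeGen

open scoped Pointwise commutatorElement
open Cfsg.Agent.CoprimeSZ Cfsg.Agent.CoprimeAction

variable {G : Type*} [Group G]

/-- The subgroup generated by two commuting elements, as the range of a homomorphism. -/
def pairSubgroup (a b : G) (hab : Commute a b) : Subgroup G :=
  ((Subgroup.zpowers a).subtype.noncommCoprod (Subgroup.zpowers b).subtype (by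
    rintro ⟨x, m, rfl⟩ ⟨y, n, rfl⟩
    exact hab.zpow_zpow m n)).range

theorem mem_pairSubgroup_iff {a b : G} {hab : Commute a b} {x : G} :
    x ∈ pairSubgroup a b hab ↔ ∃ m n : ℤ, a ^ m * b ^ n = x := by
  constructor
  · rintro ⟨⟨⟨u, m, rfl⟩, ⟨v, n, rfl⟩⟩, rfl⟩
    exact ⟨m, n, rfl⟩
  · rintro ⟨m, n, rfl⟩
    exact ⟨⟨⟨a ^ m, m, rfl⟩, ⟨b ^ n, n, rfl⟩⟩, rfl⟩

theorem pairSubgroup_le {a b : G} {hab : Commute a b} {H : Subgroup G} (ha : a ∈ H) (hb : b ∈ H) :
    pairSubgroup a b hab ≤ H := by
  intro x hx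
  obtain ⟨m, n, rfl⟩ := mem_pairSubgroup_iff.1 hx
  exact mul_mem (zpow_mem ha m) (zpow_mem hb n)

theorem left_mem_pairSubgroup (a b : G) (hab : Commute a b) : a ∈ pairSubgroup a b hab :=
  mem_pairSubgroup_iff.2 ⟨1, 0, by simp⟩

theorem right_mem_pairSubgroup (a b : G) (hab : Commute a b) : b ∈ pairSubgroup a b hab :=
  mem_pairSubgroup_iff.2 ⟨0, 1, by simp⟩

theorem card_pairSubgroup_dvd [Finite G] (a b : G) (hab : Commute a b) :
    Nat.card (pairSubgroup a b hab) ∣ orderOf a * orderOf b := by
  rw [← Nat.card_zpowers a, ← Nat.card_zpowers b, ← Nat.card_prod]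
  exact Subgroup.card_range_dvd _

theorem isSolvable_pairSubgroup (a b : G) (hab : Commute a b) :
    Group.IsSolvable (pairSubgroup a b hab) := by
  have : IsMulCommutative (pairSubgroup a b hab) := by
    refine ⟨⟨?_⟩⟩
    rintro ⟨x, hx⟩ ⟨y, hy⟩
    obtain ⟨m, n, rfl⟩ := mem_pairSubgroup_iff.1 hx
    obtain ⟨m', n', rfl⟩ := mem_pairSubgroup_iff.1 hy
    apply Subtype.ext
    change Commute (a ^ m * b ^ n) (a ^ m' * b ^ n')
    exact Commute.mul_left ((Commute.refl a).zpow_zpow m m' |>.mul_right (hab.zpow_zpow m n'))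
      ((hab.symm.zpow_zpow n m').mul_right ((Commute.refl b).zpow_zpow n n'))
  exact Group.isSolvable_of_comm fun x y => mul_comm' x y

/-- The `p`-th power of a `CommGroup` element is built from fixed points of two commuting
automorphisms of order dividing `p` and their combinations. -/
theorem pow_mem_of_fixed {M : Type*} [CommGroup M] (α β : MulAut M) (hαβ : Commute α β) (p : ℕ)
    (hp : 0 < p) (hα : α ^ p = 1) (hβ : β ^ p = 1) (S : Subgroup M)
    (hS1 : ∀ i < p, ∀ y, (α * β ^ i) y = y → y ∈ S)
    (hS2 : ∀ j, 0 < j → j < p → ∀ y, (β ^ j) y = y → y ∈ S) (v : M) : v ^ p ∈ S := by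
  have hshift : ∀ γ : MulAut M, γ ^ p = 1 → ∀ v : M,
      γ (∏ j ∈ Finset.range p, (γ ^ j) v) = ∏ j ∈ Finset.range p, (γ ^ j) v := by
    intro γ hγ v
    rw [map_prod]
    obtain ⟨q, rfl⟩ : ∃ q, p = q + 1 := ⟨p - 1, by omega⟩
    have h2 : ∀ j, γ ((γ ^ j) v) = (γ ^ (j + 1)) v := fun j => by
      rw [pow_succ']; rfl
    simp only [h2]
    have h1 : (γ ^ (q + 1)) v = (γ ^ 0) v := by simp [hγ]
    rw [Finset.prod_range_succ, h1, Finset.prod_range_succ' (fun j => (γ ^ j) v) q]
  have hall : (∏ i ∈ Finset.range p, ∏ j ∈ Finset.range p, ((α * β ^ i) ^ j) v) ∈ S := by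
    refine Subgroup.prod_mem _ fun i hi => hS1 i (Finset.mem_range.1 hi) _ ?_
    refine hshift _ ?_ v
    rw [(hαβ.pow_right i).mul_pow, hα, ← pow_mul, mul_comm i p, pow_mul, hβ, one_pow, one_mul]
  rw [Finset.prod_comm] at hall
  obtain ⟨q, rfl⟩ : ∃ q, p = q + 1 := ⟨p - 1, by omega⟩
  rw [Finset.prod_range_succ' (fun j => ∏ i ∈ Finset.range (q + 1), ((α * β ^ i) ^ j) v) q] at hall
  simp only [pow_zero, MulAut.one_apply, Finset.prod_const, Finset.card_range] at hall
  refine (Subgroup.mul_mem_cancel_left _ (Subgroup.prod_mem _ fun j hj => ?_)).1 hall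
  have hj' : j + 1 < q + 1 := by
    have := Finset.mem_range.1 hj
    omega
  refine hS2 (j + 1) (Nat.succ_pos _) hj' _ ?_
  have hexp : ∀ i, ((α * β ^ i) ^ (j + 1)) v = (α ^ (j + 1)) (((β ^ (j + 1)) ^ i) v) := fun i => by
    rw [(hαβ.pow_right i).mul_pow, ← pow_mul, mul_comm i, pow_mul]; rfl
  simp only [hexp]
  rw [← map_prod (α ^ (j + 1))]
  have hcomm : Commute (β ^ (j + 1)) (α ^ (j + 1)) := (hαβ.pow_pow _ _).symm
  change ((β ^ (j + 1)) * (α ^ (j + 1))) _ = _
  rw [hcomm.eq]
  change (α ^ (j + 1)) ((β ^ (j + 1)) _) = _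
  rw [hshift _ (by rw [← pow_mul, mul_comm, pow_mul, hβ, one_pow]) v]

variable [Finite G]

/-- `a` and `b` generate an elementary abelian group of order `p^2` normalising `K`. -/
structure IsPairAction (p : ℕ) (a b : G) (K : Subgroup G) : Prop where
  comm : Commute a b
  pow_left : a ^ p = 1
  pow_right : b ^ p = 1
  right_ne : b ≠ 1
  left_not_mem : a ∉ Subgroup.zpowers b
  mem_left : a ∈ Subgroup.normalizer (K : Set G)
  mem_right : b ∈ Subgroup.normalizer (K : Set G)

theorem IsPairAction.mono {p : ℕ} {a b : G} {K K' : Subgroup G} (h : IsPairAction p a b K)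
    (hK : pairSubgroup a b h.comm ≤ Subgroup.normalizer (K' : Set G)) :
    IsPairAction p a b K' :=
  { h with
    mem_left := hK (left_mem_pairSubgroup a b h.comm)
    mem_right := hK (right_mem_pairSubgroup a b h.comm) }

/-- The elements `a b^i`, and `b^j` (`0<j<p`) are nontrivial. -/
theorem IsPairAction.ne_one {p : ℕ} [hp : Fact p.Prime] {a b : G} {K : Subgroup G}
    (h : IsPairAction p a b K) :
    (∀ i : ℕ, a * b ^ i ≠ 1) ∧ ∀ j, 0 < j → j < p → b ^ j ≠ 1 := by
  refine ⟨fun i hi => ?_, fun j hj hjp hb => ?_⟩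
  · apply h.left_not_mem
    rw [eq_inv_of_mul_eq_one_left hi]
    exact inv_mem (pow_mem (Subgroup.mem_zpowers b) i)
  · have hord : orderOf b = p := orderOf_eq_prime h.pow_right h.right_ne
    have := Nat.le_of_dvd hj (hord ▸ orderOf_dvd_of_pow_eq_one hb)
    omega

/-- Abelian step: if `H` contains the fixed points and `⁅P,P⁆`, then `P ≤ H`. -/
private theorem pair_step {p : ℕ} [hp : Fact p.Prime] {a b : G} {P H : Subgroup G}
    (h : IsPairAction p a b P) (hpK : ¬ p ∣ Nat.card P)
    (hfix : ∀ e ∈ pairSubgroup a b h.comm, e ≠ 1 → P ⊓ Subgroup.centralizer {e} ≤ H)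
    (hD : ⁅P, P⁆ ≤ H) : P ≤ H := by
  set N := Subgroup.normalizer (P : Set G)
  let α' : MulAut (Abelianization P) :=
    (P.normalizerMonoidHom ⟨a, h.mem_left⟩).abelianizationCongr
  let θ : N →* MulAut (Abelianization P) :=
    { toFun := fun n => (P.normalizerMonoidHom n).abelianizationCongr
      map_one' := by
        apply MulEquiv.ext
        intro x
        induction x using QuotientGroup.induction_on with
        | H z => simp only [map_one]; rfl
      map_mul' := fun x y => by
        apply MulEquiv.ext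
        intro m
        induction m using QuotientGroup.induction_on with
        | H z => simp only [map_mul]; rfl }
  have hθ : ∀ (g : N) (x : P), θ g (Abelianization.of x) =
      Abelianization.of ⟨g * x * (g : G)⁻¹, conj_mem g.2 x.2⟩ := fun g x => rfl
  let S : Subgroup (Abelianization P) := (H.subgroupOf P).map Abelianization.of
  have hgood : ∀ g : N, g ∈ (pairSubgroup a b h.comm).subgroupOf N → (g : G) ≠ 1 →
      ∀ y, θ g y = y → y ∈ S := by
    intro g hg hg1 y hy
    induction y using QuotientGroup.induction_on with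
    | H z =>
      have h1 := hθ g z
      change θ g (Abelianization.of z) = Abelianization.of z at hy
      rw [hy] at h1
      have h2 : z⁻¹ * ⟨g * z * (g : G)⁻¹, conj_mem g.2 z.2⟩ ∈ _root_.commutator P := by
        rw [← Abelianization.ker_of, MonoidHom.mem_ker, map_mul, map_inv, ← h1, inv_mul_cancel]
      have h3 : (z : G)⁻¹ * g * z * (g : G)⁻¹ ∈ ⁅P, P⁆ := by
        rw [← Subgroup.map_subtype_commutator]
        exact ⟨_, h2, by simp [mul_assoc]⟩
      have hgN : (g : G) ∈ Subgroup.normalizer ((⁅P, P⁆ : Subgroup G) : Set G) := by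
        refine mem_normalizer_of_conj_smul_eq ?_
        rw [conj_smul_eq_map, Subgroup.map_commutator, ← conj_smul_eq_map, conj_smul_eq_self g.2]
      have hDle : ⁅P, P⁆ ≤ P := Subgroup.commutator_le_self P
      have hcop : (orderOf (g : G)).Coprime (Nat.card (⁅P, P⁆ : Subgroup G)) := by
        refine Nat.Coprime.coprime_dvd_right (Subgroup.card_dvd_of_le hDle) ?_
        refine Nat.Coprime.coprime_dvd_left (m := orderOf (g : G)) (k := p * p) ?_
          (Nat.Coprime.mul_left ?_ ?_)
        · refine dvd_trans (Subgroup.orderOf_dvd_natCard _ (show (g : G) ∈ _ from hg))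
            ((card_pairSubgroup_dvd a b h.comm).trans (mul_dvd_mul ?_ ?_))
          · exact orderOf_dvd_of_pow_eq_one h.pow_left
          · exact orderOf_dvd_of_pow_eq_one h.pow_right
        all_goals exact (Nat.Prime.coprime_iff_not_dvd hp.out).2 hpK
      obtain ⟨c, hc, hzc⟩ := exists_fixed_mem_coset_zpowers hgN hcop (z : G) h3
      have hcP : c ∈ P := by
        have := P.mul_mem z.2 (hDle hzc)
        simpa using this
      refine ⟨⟨c, hcP⟩, hfix g hg hg1 ⟨hcP, ?_⟩, ?_⟩
      · exact Subgroup.mem_centralizer_singleton_iff.2 hc.symm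
      · have h4 : z⁻¹ * ⟨c, hcP⟩ ∈ _root_.commutator P := by
          rw [← Subgroup.map_subtype_commutator] at hzc
          obtain ⟨w, hw, hwz⟩ := hzc
          have : w = z⁻¹ * ⟨c, hcP⟩ := Subtype.ext hwz
          rwa [← this]
        rw [← Abelianization.ker_of, MonoidHom.mem_ker, map_mul, map_inv, inv_mul_eq_one] at h4
        exact h4.symm
  have hpow : ∀ v : Abelianization P, v ^ p ∈ S := by
    intro v
    obtain ⟨hne1, hne2⟩ := h.ne_one
    set a' : N := ⟨a, h.mem_left⟩
    set b' : N := ⟨b, h.mem_right⟩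
    have hab : Commute a' b' := Subtype.ext h.comm.eq
    refine pow_mem_of_fixed (θ a') (θ b') (hab.map θ) p hp.out.pos
      (by rw [← map_pow, show a' ^ p = 1 from Subtype.ext h.pow_left, map_one])
      (by rw [← map_pow, show b' ^ p = 1 from Subtype.ext h.pow_right, map_one]) S ?_ ?_ v
    · intro i _ y hy
      rw [← map_pow, ← map_mul] at hy
      exact hgood _ (mul_mem (show a ∈ _ from left_mem_pairSubgroup a b h.comm)
        (pow_mem (show b ∈ _ from right_mem_pairSubgroup a b h.comm) i)) (hne1 i) y hy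
    · intro j hj hjp y hy
      rw [← map_pow] at hy
      exact hgood _ (pow_mem (show b ∈ _ from right_mem_pairSubgroup a b h.comm) j)
        (hne2 j hj hjp) y hy
  have hcop : (Nat.card (Abelianization P)).Coprime p := by
    refine ((Nat.Prime.coprime_iff_not_dvd hp.out).2 fun hd => hpK ?_).symm
    exact hd.trans (Subgroup.card_quotient_dvd_card _)
  intro x hx
  obtain ⟨v, hv⟩ : ∃ v, v ^ p = Abelianization.of (⟨x, hx⟩ : P) :=
    ⟨_, (powCoprime hcop).apply_symm_apply _⟩
  have hvS := hpow v
  rw [hv] at hvS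
  obtain ⟨w, hw, hwx⟩ := hvS
  have : (⟨x, hx⟩ : P)⁻¹ * w ∈ _root_.commutator P := by
    rw [← Abelianization.ker_of, MonoidHom.mem_ker, map_mul, map_inv, hwx, inv_mul_cancel]
  have h2 : x⁻¹ * (w : G) ∈ H := hD (by
    rw [← Subgroup.map_subtype_commutator]
    exact ⟨_, this, rfl⟩)
  have h3 := H.mul_mem hw (H.inv_mem h2)
  simpa using h3

/-- A nilpotent-type descent: generation for `q`-groups. -/
private theorem pair_pgroup {p : ℕ} [hp : Fact p.Prime] {q : ℕ} [hq : Fact q.Prime] {a b : G}
    (H : Subgroup G) (hab : Commute a b) (n : ℕ) :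
    ∀ P : Subgroup G, Nat.card P ≤ n → IsPGroup q P → ¬ p ∣ Nat.card P →
      IsPairAction p a b P →
      (∀ e ∈ pairSubgroup a b hab, e ≠ 1 → P ⊓ Subgroup.centralizer {e} ≤ H) → P ≤ H := by
  induction n with
  | zero => intro P hP; exact absurd hP (by simp [Nat.card_pos.ne'])
  | succ n ih =>
    intro P hP hq' hpK h hfix
    by_cases hP1 : P = ⊥
    · rw [hP1]; exact bot_le
    have hDle : ⁅P, P⁆ ≤ P := Subgroup.commutator_le_self P
    have : Nontrivial P := (Subgroup.nontrivial_iff_ne_bot P).2 hP1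
    have := hq'.isNilpotent
    have hDne : ⁅P, P⁆ ≠ P := by
      intro heq
      apply (Group.IsSolvable.commutator_lt_top_of_nontrivial P).ne
      apply Subgroup.map_injective P.subtype_injective
      rw [Subgroup.map_subtype_commutator, ← MonoidHom.range_eq_map, Subgroup.range_subtype]
      exact heq
    have hlt : Nat.card (⁅P, P⁆ : Subgroup G) < Nat.card P :=
      lt_of_le_of_ne (Subgroup.card_le_of_le hDle)
        (fun hc => hDne (Subgroup.eq_of_le_of_card_ge hDle hc.ge))
    have hn : ∀ e ∈ pairSubgroup a b hab, e ∈ Subgroup.normalizer ((⁅P, P⁆ : Subgroup G) : Set G) := by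
      intro e he
      refine mem_normalizer_of_conj_smul_eq ?_
      rw [conj_smul_eq_map, Subgroup.map_commutator, ← conj_smul_eq_map,
        conj_smul_eq_self (pairSubgroup_le h.mem_left h.mem_right he)]
    exact pair_step h hpK hfix (ih _ (by omega) (hq'.to_le hDle)
      (fun hd => hpK (hd.trans (Subgroup.card_dvd_of_le hDle))) (h.mono hn)
      fun e he he1 => le_trans (inf_le_inf_right _ hDle) (hfix e he he1))

/-- **Generation by centralisers**: a group of type `p × p` acting on a `p'`-group. -/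
theorem le_of_pair_centralizers {p : ℕ} [hp : Fact p.Prime] {a b : G} {K H : Subgroup G}
    (h : IsPairAction p a b K) (hpK : ¬ p ∣ Nat.card K)
    (hfix : ∀ e ∈ pairSubgroup a b h.comm, e ≠ 1 → K ⊓ Subgroup.centralizer {e} ≤ H) : K ≤ H := by
  have hE : pairSubgroup a b h.comm ≤ Subgroup.normalizer (K : Set G) :=
    pairSubgroup_le h.mem_left h.mem_right
  have hcop : (Nat.card (pairSubgroup a b h.comm)).Coprime (Nat.card K) := by
    refine Nat.Coprime.coprime_dvd_left
      ((card_pairSubgroup_dvd a b h.comm).trans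
        (mul_dvd_mul (orderOf_dvd_of_pow_eq_one h.pow_left)
          (orderOf_dvd_of_pow_eq_one h.pow_right))) (Nat.Coprime.mul_left ?_ ?_)
    all_goals exact (Nat.Prime.coprime_iff_not_dvd hp.out).2 hpK
  have hdvd : Nat.card K ∣ Nat.card (K ⊓ H : Subgroup G) := by
    rw [← Nat.factorization_le_iff_dvd Nat.card_pos.ne' Nat.card_pos.ne']
    intro q
    by_cases hq : q.Prime
    swap
    · simp [Nat.factorization_eq_zero_of_not_prime _ hq]
    have := Fact.mk hq
    obtain ⟨Q, hQ⟩ := exists_invariant_sylow hE hcop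
      (Or.inl (isSolvable_pairSubgroup a b h.comm)) q
    have hle : (Q : Subgroup K).map K.subtype ≤ K := Subgroup.map_subtype_le _
    have h1 : (Q : Subgroup K).map K.subtype ≤ H :=
      pair_pgroup H h.comm _ _ le_rfl (Q.2.map K.subtype)
        (fun hd => hpK (hd.trans (Subgroup.card_dvd_of_le hle))) (h.mono hQ)
        (fun e he he1 => le_trans (inf_le_inf_right _ hle) (hfix e he he1))
    have h2 := Subgroup.card_dvd_of_le (le_inf hle h1)
    rw [card_map_sylow Q] at h2
    exact (Nat.Prime.pow_dvd_iff_le_factorization hq Nat.card_pos.ne').1 h2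
  exact inf_eq_left.1 (Subgroup.eq_of_le_of_card_ge inf_le_left (Nat.le_of_dvd Nat.card_pos hdvd))

/-- In a finite noncyclic abelian subgroup there is a `p × p` pair. -/
theorem exists_pair_of_not_isCyclic (A : Subgroup G) [IsMulCommutative A] (hA : ¬ IsCyclic A) :
    ∃ p : ℕ, p.Prime ∧ p ∣ Nat.card A ∧ ∃ a ∈ A, ∃ b ∈ A, Commute a b ∧ a ^ p = 1 ∧ b ^ p = 1 ∧
      b ≠ 1 ∧ a ∉ Subgroup.zpowers b := by
  by_contra hcon
  push_neg at hcon
  apply hA
  classical
  letI : CommGroup A := { (inferInstance : Group A) with mul_comm := fun x y => mul_comm' x y }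
  have := Fintype.ofFinite A
  have hker : ∀ p : ℕ, p.Prime → Nat.card (powMonoidHom p : A →* A).ker ≤ p := by
    intro p hp
    by_cases hbot : (powMonoidHom p : A →* A).ker = ⊥
    · rw [hbot, Subgroup.card_bot]; exact hp.one_lt.le
    obtain ⟨⟨b, hb⟩, hb'⟩ := Subgroup.ne_bot_iff_exists_ne_one.1 hbot
    have hb1 : b ≠ 1 := fun h' => hb' (Subtype.ext h')
    have hord : orderOf b = p := by
      have := Fact.mk hp
      exact orderOf_eq_prime hb hb1
    have hpd : p ∣ Nat.card A := hord ▸ orderOf_dvd_natCard b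
    have hle : (powMonoidHom p : A →* A).ker ≤ Subgroup.zpowers b := by
      intro a ha
      have h1 : (a : G) ∈ Subgroup.zpowers (b : G) :=
        hcon p hp hpd a a.2 b b.2 (congrArg Subtype.val (mul_comm a b))
          (congrArg Subtype.val (show a ^ p = 1 from ha))
          (congrArg Subtype.val (show b ^ p = 1 from hb)) (fun hb' => hb1 (Subtype.ext hb'))
      obtain ⟨n, hn⟩ := h1
      exact ⟨n, Subtype.ext hn⟩
    exact (Subgroup.card_le_of_le hle).trans (by rw [Nat.card_zpowers, hord])
  have hbound : ∀ n : ℕ, 0 < n → Nat.card (powMonoidHom n : A →* A).ker ≤ n := by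
    intro n hn
    induction n using Nat.strong_induction_on with
    | _ n ih =>
    rcases Nat.eq_or_lt_of_le (Nat.one_le_iff_ne_zero.2 hn.ne') with h1 | h1
    · subst h1
      have : (powMonoidHom 1 : A →* A).ker = ⊥ := by ext x; simp
      rw [this, Subgroup.card_bot]
    · have hp := Nat.minFac_prime h1.ne'
      set p := n.minFac
      obtain ⟨m, hm⟩ : p ∣ n := Nat.minFac_dvd n
      have hm0 : 0 < m := by
        rcases Nat.eq_zero_or_pos m with h | h
        · simp [h] at hm; omega
        · exact h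
      have hmn : m < n := by rw [hm]; exact lt_mul_of_one_lt_left hm0 hp.one_lt
      let f : (powMonoidHom n : A →* A).ker →* (powMonoidHom p : A →* A).ker :=
        ((powMonoidHom m).comp (powMonoidHom n : A →* A).ker.subtype).codRestrict _ (fun x => by
          rw [MonoidHom.mem_ker]
          change ((x : A) ^ m) ^ p = 1
          rw [← pow_mul, mul_comm m p, ← hm]
          exact x.2)
      rw [← f.ker.index_mul_card, Subgroup.index_ker]
      calc Nat.card f.range * Nat.card f.ker ≤ p * m := by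
            refine Nat.mul_le_mul ((Subgroup.card_le_card_group f.range).trans (hker p hp)) ?_
            refine le_trans ?_ (ih m hmn hm0)
            refine Nat.card_le_card_of_injective
              (fun x => ⟨x.1.1, congrArg Subtype.val (show f x.1 = 1 from x.2)⟩) ?_
            intro x y hxy
            exact Subtype.ext (Subtype.ext (congrArg (fun z : (powMonoidHom m : A →* A).ker => (z : A)) hxy))
        _ = n := hm.symm
  refine isCyclic_of_card_pow_eq_one_le fun n hn => ?_
  refine le_trans (le_of_eq ?_) (hbound n hn)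
  rw [Nat.card_eq_fintype_card, Fintype.card_subtype]
  simp [MonoidHom.mem_ker]

/-- **Generation by centralisers**: a noncyclic abelian group acting coprimely. -/
theorem le_of_centralizers {A K H : Subgroup G} [IsMulCommutative A] (hA : ¬ IsCyclic A)
    (hAK : A ≤ Subgroup.normalizer (K : Set G)) (hcop : (Nat.card A).Coprime (Nat.card K))
    (hfix : ∀ a ∈ A, a ≠ 1 → K ⊓ Subgroup.centralizer {a} ≤ H) : K ≤ H := by
  obtain ⟨p, hp, hpd, a, ha, b, hb, hab, hap, hbp, hb1, hna⟩ := exists_pair_of_not_isCyclic A hA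
  have := Fact.mk hp
  refine le_of_pair_centralizers (p := p) (a := a) (b := b)
    ⟨hab, hap, hbp, hb1, hna, hAK ha, hAK hb⟩
    (fun hd => hp.one_lt.ne' (Nat.eq_one_of_dvd_coprimes hcop hpd hd))
    (fun e he he1 => hfix e (pairSubgroup_le ha hb he) he1)

/-- `K = ⟨C_K(a) : a ∈ A^#⟩`. -/
theorem iSup_centralizer_eq {A K : Subgroup G} [IsMulCommutative A] (hA : ¬ IsCyclic A)
    (hAK : A ≤ Subgroup.normalizer (K : Set G)) (hcop : (Nat.card A).Coprime (Nat.card K)) :
    (⨆ a ∈ {a : G | a ∈ A ∧ a ≠ 1}, K ⊓ Subgroup.centralizer {a}) = K := by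
  refine le_antisymm (iSup₂_le fun a _ => inf_le_left) (le_of_centralizers hA hAK hcop ?_)
  intro a ha ha1
  exact le_iSup₂ (f := fun a (_ : a ∈ {a : G | a ∈ A ∧ a ≠ 1}) =>
    K ⊓ Subgroup.centralizer ({a} : Set G)) a ⟨ha, ha1⟩

/-- If `P ≤ [P, L]` inside a nilpotent `L`, then `P` is trivial. -/
theorem eq_bot_of_le_commutator {P L : Subgroup G} [Group.IsNilpotent L] (hPL : P ≤ L)
    (h : P ≤ ⁅P, L⁆) : P = ⊥ := by
  obtain ⟨n, hn⟩ := (Subgroup.isNilpotent_iff_lowerCentralSeries (S := L)).1 inferInstance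
  have h2 : ∀ k, P ≤ L.lowerCentralSeries k := by
    intro k
    induction k with
    | zero => exact hPL
    | succ k ih => exact h.trans (Subgroup.commutator_mono ih le_rfl)
  exact le_bot_iff.1 (hn ▸ h2 n)

/-- **Thompson's A×B lemma.** -/
theorem le_centralizer_of_prod_action {p : ℕ} [hp : Fact p.Prime] {A B P : Subgroup G}
    (hP : IsPGroup p P) (hB : IsPGroup p B) (hA : ¬ p ∣ Nat.card A)
    (hAP : A ≤ Subgroup.normalizer (P : Set G)) (hBP : B ≤ Subgroup.normalizer (P : Set G))
    (hAB : A ≤ Subgroup.centralizer (B : Set G))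
    (hfix : P ⊓ Subgroup.centralizer (B : Set G) ≤ Subgroup.centralizer (A : Set G)) :
    A ≤ Subgroup.centralizer (P : Set G) := by
  obtain ⟨n, hn⟩ : ∃ n, Nat.card P ≤ n := ⟨_, le_rfl⟩
  induction n generalizing P with
  | zero => exact absurd hn (by simp [Nat.card_pos.ne'])
  | succ n ih =>
    have hsub : ∀ Q : Subgroup G, Q ≤ P → Q ≠ P → A ≤ Subgroup.normalizer (Q : Set G) →
        B ≤ Subgroup.normalizer (Q : Set G) → A ≤ Subgroup.centralizer (Q : Set G) := by
      intro Q hQ hne hAQ hBQ
      refine ih (hP.to_le hQ) hAQ hBQ (le_trans (inf_le_inf_right _ hQ) hfix) ?_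
      have := Subgroup.card_le_of_le hQ
      have : Nat.card Q ≠ Nat.card P := fun he => hne (Subgroup.eq_of_le_of_card_ge hQ he.ge)
      omega
    have hcop : (Nat.card A).Coprime (Nat.card P) := by
      obtain ⟨m, hm⟩ := IsPGroup.iff_card.1 hP
      rw [hm]
      exact Nat.Coprime.pow_right _ ((Nat.Prime.coprime_iff_not_dvd hp.out).2 hA).symm
    have hsolv : Group.IsSolvable A ∨ Group.IsSolvable P := Or.inr (isSolvable_of_isPGroup hP)
    by_cases hfull : ⁅P, A⁆ = P
    swap
    · -- `[P,A]` is proper, hence centralised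
      have hle := commutator_le_self_of_le_normalizer hAP
      have hBn : B ≤ Subgroup.normalizer ((⁅P, A⁆ : Subgroup G) : Set G) := by
        intro b hb
        refine mem_normalizer_of_conj_smul_eq ?_
        rw [conj_smul_eq_map, Subgroup.map_commutator, ← conj_smul_eq_map, ← conj_smul_eq_map,
          conj_smul_eq_self (hBP hb),
          conj_smul_eq_self (Subgroup.centralizer_le_normalizer (A : Set G) (by
            rw [Subgroup.mem_centralizer_iff]
            intro a ha
            exact (Subgroup.mem_centralizer_iff.1 (hAB ha) b hb).symm))]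
      have h1 := hsub _ hle hfull (Subgroup.normalizer_commutator_ge_right P A) hBn
      refine le_centralizer_of_commutator_commutator_eq_bot hAP hcop hsolv ?_
      rw [Subgroup.commutator_comm]
      exact Subgroup.commutator_eq_bot_iff_le_centralizer.2 h1
    by_cases hP1 : P = ⊥
    · intro a _
      rw [Subgroup.mem_centralizer_iff]
      intro x hx
      rw [hP1, SetLike.mem_coe, Subgroup.mem_bot] at hx
      simp [hx]
    -- now `[P,B]` is proper
    have hPB : ⁅P, B⁆ ≠ P := by
      intro heq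
      have hL : IsPGroup p (P ⊔ B : Subgroup G) := hP.to_sup_of_normal_left' hB hBP
      have := hL.isNilpotent
      exact hP1 (eq_bot_of_le_commutator (L := P ⊔ B) le_sup_left
        (le_trans heq.ge (Subgroup.commutator_mono le_rfl le_sup_right)))
    have hAn : A ≤ Subgroup.normalizer ((⁅P, B⁆ : Subgroup G) : Set G) := by
      intro a ha
      refine mem_normalizer_of_conj_smul_eq ?_
      rw [conj_smul_eq_map, Subgroup.map_commutator, ← conj_smul_eq_map, ← conj_smul_eq_map,
        conj_smul_eq_self (hAP ha),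
        conj_smul_eq_self (Subgroup.centralizer_le_normalizer (B : Set G) (hAB ha))]
    have h1 := hsub _ (commutator_le_self_of_le_normalizer hBP) hPB hAn
      (Subgroup.normalizer_commutator_ge_right P B)
    have h2 : ⁅⁅A, P⁆, B⁆ = ⊥ := by
      refine Subgroup.commutator_commutator_eq_bot_of_rotate ?_ ?_
      · rw [Subgroup.commutator_comm]
        exact Subgroup.commutator_eq_bot_iff_le_centralizer.2 h1
      · have : ⁅B, A⁆ = ⊥ := by
          rw [Subgroup.commutator_comm]
          exact Subgroup.commutator_eq_bot_iff_le_centralizer.2 hAB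
        rw [this, Subgroup.commutator_bot_left]
    rw [Subgroup.commutator_comm A P, hfull, Subgroup.commutator_eq_bot_iff_le_centralizer] at h2
    exact Subgroup.le_centralizer_iff.1 (le_trans (le_inf le_rfl h2) hfix)

end Cfsg.Agent.CoprimeGen
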