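import Mathlib

/-!
# A coprime element fixing all elements of order p of a p-subgroup centralizes it (p odd)
-/

set_option autoImplicit false

namespace Cfsg.Agent.OmegaCoprime

variable {G : Type*} [Group G]

open Subgroup

/-- If `a` conjugates `x` to `x * c` and `c` to itself, `c` a `p`-element and `a` of order prime to
`p`, then `c = 1`. -/
theorem eq_one_of_fixed_comm {p : ℕ} [hp : Fact p.Prime] {a x c : G}
    (ha : (orderOf a).Coprime p) (hx : a * x * a⁻¹ = x * c) (hc : a * c * a⁻¹ = c)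
    (hcp : ∃ k, c ^ p ^ k = 1) : c = 1 := by
  have h : ∀ n : ℕ, a ^ n * x * (a ^ n)⁻¹ = x * c ^ n := by
    intro n
    induction n with
    | zero => simp
    | succ n ih =>
      have hcn : a * c ^ n * a⁻¹ = c ^ n := by rw [← conj_pow, hc]
      calc a ^ (n + 1) * x * (a ^ (n + 1))⁻¹ = a * (a ^ n * x * (a ^ n)⁻¹) * a⁻¹ := by
            rw [pow_succ']; group
        _ = a * x * a⁻¹ * (a * c ^ n * a⁻¹) := by rw [ih]; group
        _ = x * c ^ (n + 1) := by rw [hx, hcn, pow_succ', mul_assoc]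
  have h1 := h (orderOf a)
  rw [pow_orderOf_eq_one] at h1
  obtain ⟨k, hk⟩ := hcp
  have h2 : c ^ orderOf a = 1 := by simpa using h1.symm
  have h3 : c ^ Nat.gcd (orderOf a) (p ^ k) = 1 := pow_gcd_eq_one.mpr ⟨h2, hk⟩
  rwa [(Nat.Coprime.pow_right k ha).gcd_eq_one, pow_one] at h3

/-- The key step: if `a` fixes all commutators `x⁻¹ a x a⁻¹`, it centralizes the `p`-subgroup. -/
theorem commute_of_fixed_comms {p : ℕ} [hp : Fact p.Prime] {P : Subgroup G} (hP : IsPGroup p P)
    {a : G} (hn : ∀ x ∈ P, a * x * a⁻¹ ∈ P) (ha : (orderOf a).Coprime p)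
    (h : ∀ x ∈ P, Commute a (x⁻¹ * (a * x * a⁻¹))) : ∀ x ∈ P, Commute a x := by
  intro x hx
  have hc : x⁻¹ * (a * x * a⁻¹) ∈ P := mul_mem (inv_mem hx) (hn x hx)
  obtain ⟨k, hk⟩ := hP ⟨_, hc⟩
  have h1 : x⁻¹ * (a * x * a⁻¹) = 1 :=
    eq_one_of_fixed_comm ha (x := x) (by group) (by rw [(h x hx).eq]; group)
      ⟨k, by simpa [Subtype.ext_iff] using hk⟩
  rw [inv_mul_eq_one] at h1
  exact (mul_inv_eq_iff_eq_mul.mp h1.symm)

/-- A nontrivial finite `p`-group has a proper subgroup containing all commutators and all `p`-th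
powers. -/
theorem exists_lt_of_pGroup [Finite G] {p : ℕ} [hp : Fact p.Prime] {P : Subgroup G}
    (hP : IsPGroup p P) (hne : P ≠ ⊥) :
    ∃ M : Subgroup G, M < P ∧ (∀ x ∈ P, x ^ p ∈ M) ∧
      (∀ x ∈ P, ∀ y ∈ P, x * y * x⁻¹ * y⁻¹ ∈ M) := by
  obtain ⟨n, hn⟩ := IsPGroup.iff_card.mp hP
  have hn0 : n ≠ 0 := by
    rintro rfl
    exact hne (Subgroup.card_eq_one.mp (by simpa using hn))
  obtain ⟨M, hM⟩ := Sylow.exists_subgroup_card_pow_prime (G := P) p
    (n := n - 1) (hn ▸ pow_dvd_pow p (by omega))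
  have hi : M.index = p := by
    have h1 := M.card_mul_index
    rw [hM, hn] at h1
    have h2 : p ^ n = p ^ (n - 1) * p := by
      rw [← pow_succ]; congr 1; omega
    exact mul_left_cancel₀ (pow_ne_zero _ hp.out.ne_zero) (h1.trans h2)
  have hMn : M.Normal := Subgroup.normal_of_index_eq_minFac_card (by
    rw [hi, hn, Nat.Prime.pow_minFac hp.out hn0])
  have hcardq : Nat.card (P ⧸ M) = p := hi
  have : IsCyclic (P ⧸ M) := isCyclic_of_prime_card hcardq
  refine ⟨M.map P.subtype, ?_, ?_, ?_⟩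
  · refine lt_of_le_of_ne (Subgroup.map_subtype_le M) fun heq => ?_
    have : Nat.card (M.map P.subtype) = Nat.card P := by rw [heq]
    rw [Subgroup.card_map_of_injective P.subtype_injective, hM, hn] at this
    have := Nat.pow_right_injective hp.out.two_le this
    omega
  · intro x hx
    refine ⟨⟨x, hx⟩ ^ p, ?_, rfl⟩
    show _ ∈ M
    rw [← QuotientGroup.eq_one_iff, QuotientGroup.mk_pow, ← hcardq]
    exact pow_card_eq_one'
  · intro x hx y hy
    refine ⟨⟨x, hx⟩ * ⟨y, hy⟩ * ⟨x, hx⟩⁻¹ * ⟨y, hy⟩⁻¹, ?_, rfl⟩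
    show _ ∈ M
    rw [← QuotientGroup.eq_one_iff]
    have := (IsCyclic.isMulCommutative (α := P ⧸ M)).is_comm.comm ((⟨x, hx⟩ : P) : P ⧸ M) (⟨y, hy⟩ : P)
    simp only [QuotientGroup.mk_mul, QuotientGroup.mk_inv]
    rw [this]
    group

/-- `(x y)^n = x^n y^n z^(n choose 2)` when `y x = x y z` and `z` commutes with `x` and `y`. -/
theorem mul_pow_class_two {x y z : G} (h : y * x = x * y * z) (hx : Commute z x) (hy : Commute z y)
    (n : ℕ) : (x * y) ^ n = x ^ n * y ^ n * z ^ n.choose 2 := by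
  have hyn : ∀ n : ℕ, y ^ n * x = x * y ^ n * z ^ n := by
    intro n
    induction n with
    | zero => simp
    | succ n ih =>
      calc y ^ (n + 1) * x = y ^ n * (y * x) := by rw [pow_succ]; group
        _ = (y ^ n * x) * y * z := by rw [h]; group
        _ = x * y ^ n * (z ^ n * y) * z := by rw [ih]; group
        _ = x * y ^ n * (y * z ^ n) * z := by rw [(hy.pow_left n).eq]
        _ = x * y ^ (n + 1) * z ^ (n + 1) := by rw [pow_succ y, pow_succ z]; group
  induction n with
  | zero => simp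
  | succ n ih =>
    have hc : (n + 1).choose 2 = n + n.choose 2 := by
      rw [Nat.choose_succ_succ', Nat.choose_one_right]
    have hcomm : Commute (z ^ n.choose 2) (x * y) :=
      (hx.pow_left _).mul_right (hy.pow_left _)
    calc (x * y) ^ (n + 1) = x ^ n * y ^ n * (z ^ n.choose 2 * (x * y)) := by
          rw [pow_succ, ih]; group
      _ = x ^ n * (y ^ n * x) * y * z ^ n.choose 2 := by rw [hcomm.eq]; group
      _ = x ^ n * x * y ^ n * (z ^ n * y) * z ^ n.choose 2 := by rw [hyn]; group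
      _ = x ^ n * x * y ^ n * (y * z ^ n) * z ^ n.choose 2 := by rw [(hy.pow_left n).eq]
      _ = x ^ (n + 1) * y ^ (n + 1) * z ^ (n + 1).choose 2 := by
          rw [hc, pow_add, pow_succ x, pow_succ y]; group

/-- A coprime element fixing all elements of order `p` (`p` odd) of a `p`-subgroup that it
normalizes centralizes the subgroup. -/
theorem commute_of_forall_pow_eq_one [Finite G] {p : ℕ} [hp : Fact p.Prime] (hp2 : p ≠ 2)
    {a : G} (ha : (orderOf a).Coprime p) (P : Subgroup G) (hP : IsPGroup p P)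
    (hn : ∀ x ∈ P, a * x * a⁻¹ ∈ P) (h : ∀ x ∈ P, x ^ p = 1 → Commute a x) :
    ∀ x ∈ P, Commute a x := by
  induction hk : Nat.card P using Nat.strong_induction_on generalizing P with
  | _ k ih =>
    have hsmall : ∀ Q : Subgroup G, Q < P → (∀ x ∈ Q, a * x * a⁻¹ ∈ Q) → ∀ x ∈ Q, Commute a x := by
      intro Q hQ hQn
      refine ih _ ?_ Q (hP.to_le hQ.le) hQn (fun x hx => h x (hQ.le hx)) rfl
      rw [← hk]
      exact Set.ncard_lt_ncard (s := (Q : Set G)) (t := (P : Set G)) hQ
    apply commute_of_fixed_comms hP hn ha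
    let S : Set G := {c | ∃ x ∈ P, c = x⁻¹ * (a * x * a⁻¹)}
    have hSP : closure S ≤ P := by
      rw [closure_le]
      rintro c ⟨x, hx, rfl⟩
      exact mul_mem (inv_mem hx) (hn x hx)
    by_cases htop : closure S < P
    · intro x hx
      refine hsmall _ htop ?_ _ (subset_closure ⟨x, hx, rfl⟩)
      intro y hy
      have : closure S ≤ (closure S).comap (MulAut.conj a).toMonoidHom := by
        rw [closure_le]
        rintro c ⟨x, hx, rfl⟩
        exact subset_closure ⟨a * x * a⁻¹, hn x hx, by simp; group⟩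
      simpa using this hy
    have hgen : closure S = P := eq_of_le_of_not_lt hSP htop
    by_cases hne : P = ⊥
    · intro x hx
      rw [hne, Subgroup.mem_bot] at hx
      subst hx
      simp
    obtain ⟨M, hMP, hMpow, hMcomm⟩ := exists_lt_of_pGroup hP hne
    let D : Set G := {c | (∃ x ∈ P, c = x ^ p) ∨ ∃ x ∈ P, ∃ y ∈ P, c = x * y * x⁻¹ * y⁻¹}
    have hDM : closure D ≤ M := by
      rw [closure_le]
      rintro c (⟨x, hx, rfl⟩ | ⟨x, hx, y, hy, rfl⟩)
      · exact hMpow x hx
      · exact hMcomm x hx y hy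
    have hDn : ∀ c ∈ closure D, a * c * a⁻¹ ∈ closure D := by
      have : closure D ≤ (closure D).comap (MulAut.conj a).toMonoidHom := by
        rw [closure_le]
        rintro c (⟨x, hx, rfl⟩ | ⟨x, hx, y, hy, rfl⟩)
        · exact subset_closure (Or.inl ⟨_, hn x hx, by simp [conj_pow]⟩)
        · exact subset_closure (Or.inr ⟨_, hn x hx, _, hn y hy, by simp [mul_assoc]⟩)
      intro c hc
      simpa using this hc
    have hfix : ∀ c ∈ closure D, Commute a c := hsmall _ (hDM.trans_lt hMP) hDn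
    -- elements of D are central in P
    have hcen : ∀ c ∈ closure D, ∀ y ∈ P, Commute c y := by
      intro c hc y hy
      have hCP : P ≤ Subgroup.centralizer ({c} : Set G) := by
        rw [← hgen, closure_le]
        rintro _ ⟨x, hx, rfl⟩
        have hcP : c ∈ P := (hDM.trans hMP.le) hc
        have h2 : x * c * x⁻¹ ∈ closure D := by
          have h3 : x * c * x⁻¹ * c⁻¹ ∈ closure D :=
            subset_closure (Or.inr ⟨x, hx, c, hcP, rfl⟩)
          simpa [mul_assoc] using mul_mem h3 hc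
        have h4 : a * (x * c * x⁻¹) * a⁻¹ = x * c * x⁻¹ := by rw [(hfix _ h2).eq]; group
        have h5 : a * c * a⁻¹ = c := by rw [(hfix _ hc).eq]; group
        have h6 : (a * x * a⁻¹) * c * (a * x * a⁻¹)⁻¹ = x * c * x⁻¹ := by
          conv_rhs => rw [← h4]
          conv_lhs => arg 1; arg 2; rw [← h5]
          group
        rw [SetLike.mem_coe, Subgroup.mem_centralizer_singleton_iff]
        calc x⁻¹ * (a * x * a⁻¹) * c
            = x⁻¹ * ((a * x * a⁻¹) * c * (a * x * a⁻¹)⁻¹) * (a * x * a⁻¹) := by group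
          _ = c * (x⁻¹ * (a * x * a⁻¹)) := by rw [h6]; group
      exact (Subgroup.mem_centralizer_singleton_iff.mp (hCP hy)).symm
    intro x hx
    have hy : a * x * a⁻¹ ∈ P := hn x hx
    set y := a * x * a⁻¹ with hydef
    have hxp : x ^ p ∈ closure D := subset_closure (Or.inl ⟨x, hx, rfl⟩)
    have hyp : y ^ p = x ^ p := by
      rw [hydef, conj_pow, (hfix _ hxp).eq]; group
    set z := y * x⁻¹ * y⁻¹ * x with hz
    have hzD : z ∈ closure D := by
      have : y * x⁻¹ * y⁻¹ * x⁻¹⁻¹ ∈ closure D :=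
        Subgroup.subset_closure (Or.inr ⟨y, hy, x⁻¹, inv_mem hx, rfl⟩)
      simpa [hz] using this
    have hzx : Commute z x⁻¹ := (hcen z hzD x hx).inv_right
    have hzy : Commute z y := hcen z hzD y hy
    have hrel : y * x⁻¹ = x⁻¹ * y * z := by
      have : y * x⁻¹ * y⁻¹ * x = z := rfl
      have h1 : y * x⁻¹ = z * (x⁻¹ * y) := by rw [← this]; group
      rw [h1, (hzx.mul_right hzy).eq]
    have hzp : z ^ p = 1 := by
      have h1 : (y * x⁻¹ * y⁻¹) ^ p = y * (x⁻¹) ^ p * y⁻¹ := conj_pow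
      have h2 : y * x⁻¹ * y⁻¹ = z * x⁻¹ := by rw [hz]; group
      rw [h2, hzx.mul_pow] at h1
      have h3 : Commute (x ^ p) y := hcen _ hxp y hy
      have h4 : y * (x⁻¹) ^ p * y⁻¹ = (x⁻¹) ^ p := by
        rw [inv_pow, h3.inv_left.symm.eq]; group
      rw [h4] at h1
      simpa using h1
    have hwp : (x⁻¹ * y) ^ p = 1 := by
      rw [mul_pow_class_two hrel hzx hzy p, hyp, inv_pow]
      have : z ^ p.choose 2 = 1 := by
        obtain ⟨m, hm⟩ : p ∣ p.choose 2 :=
          hp.out.dvd_choose_self (by norm_num) (lt_of_le_of_ne hp.out.two_le (Ne.symm hp2))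
        rw [hm, pow_mul, hzp, one_pow]
      rw [this]
      group
    exact h _ (mul_mem (inv_mem hx) hy) hwp

end Cfsg.Agent.OmegaCoprime
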