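import Cfsg.Agent.Lib.BGSigmaCore
import Cfsg.Agent.Lib.CoprimeGen
import Cfsg.Agent.Lib.OmegaCoprime

/-!
Centralizers of `α'`-subgroups and primes outside `σ` (Bender-Glauberman 10.3-10.5).
-/

set_option autoImplicit false
set_option linter.style.haveILetI false

namespace Cfsg.Agent.BGSigma

open Subgroup
open Cfsg.Agent.BGUnique
open scoped commutatorElement Pointwise

universe u

variable {G : Type u} [Group G] [Finite G]

section basic

variable {p : ℕ} [hp : Fact p.Prime]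

theorem card_le_of_pRankLE {k : ℕ} {P E : Subgroup G} (h : Cfsg.PRankLE p k P) (hEP : E ≤ P)
    (hE : Cfsg.IsElementaryAbelian p E) : Nat.card E ≤ p ^ k := by
  have h1 := h (E.subgroupOf P) ⟨⟨fun u v => Subtype.ext (Subtype.ext
    (PGroupsBasic.comm_of_isMulCommutative hE.1 u.2 v.2))⟩⟩
    fun u hu => Subtype.ext (by rw [SubgroupClass.coe_pow]; exact hE.2 _ hu)
  rwa [Nat.card_congr (subgroupOfEquivOfLe hEP).toEquiv] at h1

theorem mem_of_pRankLE {k : ℕ} {P E : Subgroup G} (h : Cfsg.PRankLE p k P) (hEP : E ≤ P)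
    (hE : Cfsg.IsElementaryAbelian p E) (hEc : p ^ k ≤ Nat.card E) {y : G} (hy : y ∈ P)
    (hyp : y ^ p = 1) (hc : ∀ e ∈ E, Commute e y) : y ∈ E := by
  have hEy : Cfsg.IsElementaryAbelian p (E ⊔ zpowers y) := by
    refine PGroupsBasic.isElementaryAbelian_sup hE (PGroupsBasic.isElementaryAbelian_zpowers hyp) ?_
    rintro a ha b hb
    obtain ⟨i, rfl⟩ := mem_zpowers_iff.1 hb
    exact ((hc a ha).zpow_right i).eq.symm
  have h1 := card_le_of_pRankLE h (sup_le hEP (zpowers_le.2 hy)) hEy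
  rw [eq_of_le_of_card_ge (H := E) le_sup_left (h1.trans hEc)]
  exact mem_sup_right (mem_zpowers y)

/-- An odd-order subgroup of rank one has cyclic Sylow subgroups. -/
theorem isZGroup_of_rankLE_one (hG : Cfsg.IsMinSimpleOddOrder G) {H : Subgroup G} (h : Cfsg.RankLE 1 H) : IsZGroup H := by
  refine ⟨fun q hq S => by_contra fun hnc => ?_⟩
  haveI := Fact.mk hq
  obtain ⟨E, hES, hE, hEc⟩ := exists_elementary_sq_of_noncyclic hG (B := (S : Subgroup H).map H.subtype)
    (S.isPGroup'.map _) fun hc => hnc (((S : Subgroup H).equivMapOfInjective _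
      H.subtype_injective).isCyclic.2 hc)
  have h1 := card_le_of_pRankLE (h q hq) (hES.trans (map_subtype_le _)) hE
  rw [hEc] at h1
  have := (Nat.pow_le_pow_iff_right hq.one_lt).1 h1
  omega

theorem exists_central_prime {P : Subgroup G} (hP : IsPGroup p P) (hne : P ≠ ⊥) :
    ∃ z ∈ P, orderOf z = p ∧ ∀ y ∈ P, Commute z y := by
  haveI : Nontrivial P := (nontrivial_iff_ne_bot P).2 hne
  haveI := hP.center_nontrivial
  obtain ⟨z, hz, hzo⟩ := PGroupsBasic.exists_orderOf_eq_of_ne_bot (p := p) (hP.to_subgroup (center P))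
    (H := center P) ((nontrivial_iff_ne_bot _).1 inferInstance)
  exact ⟨z, z.2, by rwa [Subgroup.orderOf_coe], fun y hy =>
    (congrArg Subtype.val ((mem_center_iff.1 hz) ⟨y, hy⟩)).symm⟩

end basic

variable (hG : Cfsg.IsMinSimpleOddOrder G) {M : Subgroup G} (hM : IsCoatom M)
include hG hM

theorem dvd_alphaCore {q : ℕ} (hq : q.Prime) (h : q ∣ Nat.card (Cfsg.alphaCore M)) :
    q ∈ Cfsg.alpha M := (hall_alpha hG hM).1.2.1 q hq h

/-- BG 10.3. -/
theorem centralizer_alpha_unique {X : Subgroup G} (hXM : X ≤ M)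
    (hXα : ∀ q : ℕ, q.Prime → q ∣ Nat.card X → q ∉ Cfsg.alpha M)
    (hr : ¬ Cfsg.RankLE 1 ↥(Cfsg.alphaCore M ⊓ centralizer (X : Set G))) :
    Cfsg.InUniqueMaximal (M ⊓ centralizer (X : Set G)) := by
  have hne : M ⊓ centralizer (X : Set G) ≠ ⊤ := fun h => hM.1 (top_le_iff.1 (h ▸ inf_le_left))
  haveI := isSolvable_of_ne_top hG hM.1
  unfold Cfsg.RankLE at hr
  push Not at hr
  obtain ⟨q, hq, hr⟩ := hr
  haveI := Fact.mk hq
  obtain ⟨E, hEC, hE, hEc⟩ := pow_le_of_not_pRankLE hr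
  obtain ⟨B, hBE, hBc⟩ := BGSCNUniqueMain.exists_sub_card hE (k := 2) hEc
  have hBel := PGroupsBasic.isElementaryAbelian_mono hE hBE
  have hBp := PGroupsBasic.isPGroup_of_isElementaryAbelian hBel
  have hBA : B ≤ Cfsg.alphaCore M := hBE.trans (hEC.trans inf_le_left)
  have hαM : Cfsg.alphaCore M ≤ M := map_subtype_le _
  have hBX : ∀ b ∈ B, ∀ x ∈ X, Commute x b := fun b hb x hx =>
    mem_centralizer_iff.1 (hEC (hBE hb)).2 x hx
  have hBle : B ≤ M ⊓ centralizer (X : Set G) :=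
    le_inf (hBA.trans hαM) (hBE.trans (hEC.trans inf_le_right))
  have hB0 : B ≠ ⊥ := by
    rintro rfl
    rw [card_bot] at hBc
    exact absurd hBc.symm (Nat.one_lt_pow two_ne_zero hq.one_lt).ne'
  have hqd : q ∣ Nat.card (Cfsg.alphaCore M) :=
    (dvd_card_of_ne_bot hBp hB0).trans (card_dvd_of_le hBA)
  have hqα := dvd_alphaCore hG hM hq hqd
  have hBnc := not_isCyclic_of_sq_le hBel hBc.ge
  by_cases h3 : Cfsg.PRankLE q 2 ↥(centralizer (B : Set G))
  swap
  · obtain ⟨F, hFC, -, hF⟩ := exists_unique_sub_of_rank hG h3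
    refine unique_mono (unique_of_le_centralizer hG hF ?_ le_rfl hBel.1 hBp hBnc) hBle hne
    exact fun b hb => mem_centralizer_iff.2 fun f hf => (mem_centralizer_iff.1 (hFC hf) b hb).symm
  have hcop : (Nat.card X).Coprime (Nat.card (Cfsg.alphaCore M)) :=
    Nat.coprime_of_dvd fun r hr' h1 h2 => hXα r hr' h1 (dvd_alphaCore hG hM hr' h2)
  have hXn : X ≤ normalizer (Cfsg.alphaCore M : Set G) := hXM.trans (le_normalizer_core _ M)
  have hXB : X ≤ normalizer (B : Set G) := fun x hx =>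
    centralizer_le_normalizer _ (mem_centralizer_iff.2 fun b hb => ((hBX b hb x hx).eq).symm)
  haveI hαs : Group.IsSolvable (Cfsg.alphaCore M) :=
    isSolvable_of_ne_top hG fun h => hM.1 (top_le_iff.1 (h ▸ hαM))
  obtain ⟨S, hBS, hXS⟩ := CoprimeAction.exists_invariant_sylow_ge hXn hcop (Or.inr hαs) hBA hBp hXB
  set P : Subgroup G := (S : Subgroup ↥(Cfsg.alphaCore M)).map (Cfsg.alphaCore M).subtype with hP
  have hPM : P ≤ M := (map_subtype_le _).trans hαM
  have hPmax : IsMaxP q P M := by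
    refine ⟨hPM, S.isPGroup'.map _, fun Q hPQ hQM hQ => ?_⟩
    refine (isMaxP_sylow (Cfsg.alphaCore M) S).eq_of_le Q hPQ ?_ hQ
    intro y hy
    have hle : Q.subgroupOf M ≤ Cfsg.piCore (Cfsg.alpha M) M := by
      refine le_of_prime_not_dvd fun r hr' hd hdi => ?_
      obtain ⟨n, hn⟩ := IsPGroup.iff_card.1 hQ
      have hd' := hd.trans (HallCore.card_subgroupOf_dvd Q M)
      rw [hn] at hd'
      have hrq := (Nat.prime_dvd_prime_iff_eq hr' hq).1 (hr'.dvd_of_dvd_pow hd')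
      subst hrq
      refine (hall_alpha hG hM).1.2.2 r hr' hqα ?_
      rwa [relIndex, Cfsg.alphaCore, subgroupOf_map_subtype_self]
    exact ⟨⟨y, hQM hy⟩, hle hy, rfl⟩
  have hXP : X ≤ centralizer (P : Set G) := by
    refine CoprimeGen.le_centralizer_of_prod_action (p := q) (B := B) (S.isPGroup'.map _) hBp
      (fun hd => hXα q hq hd hqα) hXS (hBS.trans le_normalizer)
      (fun x hx => mem_centralizer_iff.2 fun b hb => ((hBX b hb x hx).eq).symm) ?_
    intro y hy
    refine mem_centralizer_iff.2 fun x hx => ?_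
    have hcq : (orderOf x).Coprime q :=
      (hq.coprime_iff_not_dvd.2 fun hd =>
        hXα q hq (hd.trans (orderOf_dvd_natCard X hx)) hqα).symm
    refine (OmegaCoprime.commute_of_forall_pow_eq_one (prime_ne_two hG (hqd.trans
      (card_subgroup_dvd_card _))) hcq (P ⊓ centralizer (B : Set G))
      ((S.isPGroup'.map _).to_le inf_le_left) (fun w hw => ⟨?_, ?_⟩) (fun w hw hwq => ?_) y hy).eq
    · exact (mem_normalizer_iff.1 (hXS hx) w).1 hw.1
    · refine mem_centralizer_iff.2 fun b hb => ?_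
      exact ((((hBX b hb x hx).symm).mul_right (mem_centralizer_iff.1 hw.2 b hb)).mul_right
        (hBX b hb x hx).symm.inv_right).eq
    · refine hBX w (mem_of_pRankLE h3 ?_ hBel hBc.ge hw.2 hwq fun b hb =>
        mem_centralizer_iff.1 hw.2 b hb) x hx
      exact fun b hb => mem_centralizer_iff.2 fun c hc =>
        PGroupsBasic.comm_of_isMulCommutative hBel.1 hc hb
  have hP0 : P ≠ ⊤ := fun h => hM.1 (top_le_iff.1 (h ▸ hPM))
  refine unique_mono (unique_of_rank hG hP0 (pRankLE_of_isMaxP hPmax hqα.2)) (le_inf hPM ?_) hne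
  exact fun y hy => mem_centralizer_iff.2 fun x hx => (mem_centralizer_iff.1 (hXP hx) y hy).symm

theorem outside_alpha {p : ℕ} (hp : p.Prime) (h : p ∉ Cfsg.sigma M) : Cfsg.PRankLE p 2 M :=
  rank_outside_alpha hG hM hp fun hα => h (alpha_subset hG hM hα)

theorem not_normalizer_le {p : ℕ} [Fact p.Prime] (hpM : p ∣ Nat.card M) (hp : p ∉ Cfsg.sigma M)
    (P : Sylow p M) : ¬ normalizer (((P : Subgroup M).map M.subtype : Subgroup G) : Set G) ≤ M :=
  fun h => hp ⟨Fact.out, hpM, P, h⟩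

/-- BG 10.4 (a). -/
theorem exists_central_element {p : ℕ} [hp : Fact p.Prime] (hpM : p ∣ Nat.card M)
    (hp' : p ∉ Cfsg.sigma M) (P : Sylow p M) :
    ∃ x : G, x ∈ ((center ↥(P : Subgroup M)).map (P : Subgroup M).subtype).map M.subtype ∧
      orderOf x = p ∧ IsZGroup ↥(Cfsg.alphaCore M ⊓ centralizer ({x} : Set G)) ∧
      ¬ (centralizer ({x} : Set G) ≤ M ∧
        ∀ L : Subgroup G, IsCoatom L → centralizer ({x} : Set G) ≤ L → L = M) := by
  set P' := (P : Subgroup M).map M.subtype with hP'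
  have hmem : ∀ x : G, x ∈ ((center ↥(P : Subgroup M)).map (P : Subgroup M).subtype).map M.subtype ↔
      x ∈ P' ∧ ∀ y ∈ P', Commute x y := by
    intro x
    constructor
    · rintro ⟨_, ⟨z, hz, rfl⟩, rfl⟩
      refine ⟨mem_map_of_mem _ z.2, ?_⟩
      rintro _ ⟨y, hy, rfl⟩
      exact (congrArg (fun w : ↥(P : Subgroup M) => ((w : M) : G))
        ((mem_center_iff.1 hz) ⟨y, hy⟩)).symm
    · rintro ⟨⟨z, hz, rfl⟩, hc⟩
      exact ⟨z, ⟨⟨z, hz⟩, mem_center_iff.2 fun y => Subtype.ext (Subtype.ext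
        (hc _ (mem_map_of_mem _ y.2)).eq.symm), rfl⟩, rfl⟩
  have hP0 : P' ≠ ⊥ := fun h =>
    P.ne_bot_of_dvd_card hpM ((map_eq_bot_iff_of_injective _ M.subtype_injective).1 h)
  obtain ⟨z, hzP, hzo, hzc⟩ := exists_central_prime (P.isPGroup'.map M.subtype) hP0
  have key : ∃ x : G, (x ∈ P' ∧ ∀ y ∈ P', Commute x y) ∧ orderOf x = p ∧
      ¬ (centralizer ({x} : Set G) ≤ M ∧
        ∀ L : Subgroup G, IsCoatom L → centralizer ({x} : Set G) ≤ L → L = M) := by
    by_contra hall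
    push Not at hall
    refine not_normalizer_le hG hM hpM hp' P fun g hg => ?_
    have hgP : g * z * g⁻¹ ∈ P' := (mem_normalizer_iff.1 hg z).1 hzP
    have hgc : ∀ y ∈ P', Commute (g * z * g⁻¹) y := fun y hy => by
      have h1 : g⁻¹ * y * g ∈ P' := by
        have h0 := (mem_normalizer_iff.1 (inv_mem hg) y).1 hy
        rwa [inv_inv] at h0
      calc g * z * g⁻¹ * y = g * (z * (g⁻¹ * y * g)) * g⁻¹ := by group
        _ = g * ((g⁻¹ * y * g) * z) * g⁻¹ := by rw [(hzc _ h1).eq]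
        _ = y * (g * z * g⁻¹) := by group
    obtain ⟨h1, h2⟩ := hall z ⟨hzP, hzc⟩ hzo
    obtain ⟨h3, -⟩ := hall _ ⟨hgP, hgc⟩ ((MulEquiv.orderOf_eq (MulAut.conj g) z).trans hzo)
    refine mem_of_conj_eq hG hM (g := g) ?_
    have h5 : M = MulAut.conj g⁻¹ • M := (h2 _ (isCoatom_conj _ hM) fun w hw => by
      rw [mem_pointwise_smul_iff_inv_smul_mem, map_inv, inv_inv, MulAut.smul_def, MulAut.conj_apply]
      refine h3 (mem_centralizer_singleton_iff.2 ?_)
      have hw' := mem_centralizer_singleton_iff.1 hw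
      calc g * w * g⁻¹ * (g * z * g⁻¹) = g * (w * z) * g⁻¹ := by group
        _ = g * (z * w) * g⁻¹ := by rw [hw']
        _ = g * z * g⁻¹ * (g * w * g⁻¹) := by group).symm
    conv_lhs => rw [h5]
    rw [← mul_smul, ← map_mul, mul_inv_cancel, map_one, one_smul]
  obtain ⟨x, hxP, hxo, hxnu⟩ := key
  refine ⟨x, (hmem x).2 hxP, hxo, isZGroup_of_rankLE_one hG (by_contra fun hr => hxnu ?_), hxnu⟩
  have hxM : x ∈ M := map_subtype_le _ hxP.1
  have hX : centralizer ((zpowers x : Subgroup G) : Set G) = centralizer ({x} : Set G) := by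
    rw [zpowers_eq_closure, centralizer_closure]
  have hu := centralizer_alpha_unique hG hM (zpowers_le.2 hxM)
    (fun q hq hd => by
      rw [Nat.card_zpowers, hxo] at hd
      rw [(Nat.prime_dvd_prime_iff_eq hq hp.out).1 hd]
      exact fun hα => hp' (alpha_subset hG hM hα))
    (by rwa [hX])
  rw [hX] at hu
  have hx1 : x ≠ 1 := fun h => hp.out.one_lt.ne' (by rw [← hxo, h, orderOf_one])
  refine ⟨le_of_unique hu hM inf_le_left inf_le_right (BGTransitivity.centralizer_ne_top hG hx1),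
    fun L hL hxL => eq_of_unique hu hL (inf_le_right.trans hxL) hM inf_le_left⟩

/-- BG 10.4 (b), second part. -/
theorem maximal_of_rank_two {p : ℕ} [hp : Fact p.Prime] (hp' : p ∉ Cfsg.sigma M) {A : Subgroup G}
    (hAM : A ≤ M) (hA : Cfsg.IsElementaryAbelian p A) (hAc : Nat.card A = p ^ 2) {B : Subgroup G}
    (hB : Cfsg.IsElementaryAbelian p B) (hAB : A ≤ B) : B = A := by
  by_contra hne
  have hlt : Nat.card A < Nat.card B :=
    lt_of_le_of_ne (card_le_of_le hAB) fun h => hne (eq_of_le_of_card_ge hAB h.ge).symm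
  have hB3 : ¬ Cfsg.PRankLE p 2 B := fun h => by
    have := card_le_of_pRankLE h le_rfl hB
    omega
  obtain ⟨F, hFB, -, hF⟩ := exists_unique_sub_of_rank hG hB3
  have hAu := unique_of_le_centralizer hG hF
    (fun a ha => mem_centralizer_iff.2 fun f hf =>
      PGroupsBasic.comm_of_isMulCommutative hB.1 (hFB hf) (hAB ha)) le_rfl hA.1
    (PGroupsBasic.isPGroup_of_isElementaryAbelian hA) (not_isCyclic_of_sq_le hA hAc.ge)
  obtain ⟨P, hP, hAP⟩ := exists_isMaxP_ge (PGroupsBasic.isPGroup_of_isElementaryAbelian hA) hAM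
  obtain ⟨S, hS⟩ := hP.exists_sylow
  have hP0 : P ≠ ⊤ := fun h => hM.1 (top_le_iff.1 (h ▸ hP.le))
  have hPu := unique_mono hAu hAP hP0
  refine hp' ⟨hp.out, ?_, S, ?_⟩
  · exact ((hAc ▸ dvd_pow_self p two_ne_zero : p ∣ Nat.card A)).trans (card_dvd_of_le hAM)
  · rw [hS]
    exact le_of_unique hPu hM hP.le le_normalizer (normalizer_ne_top' hG (unique_ne_bot hG hPu) hP0)

/-- BG 10.4 (b), first part. -/
theorem not_ideal {p : ℕ} [hp : Fact p.Prime] (hp' : p ∉ Cfsg.sigma M)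
    (hr1 : ¬ Cfsg.PRankLE p 1 M) : ¬ Cfsg.IsIdealPrime p G := by
  rintro ⟨-, -, hid⟩
  obtain ⟨E, hEM, hE, hEc⟩ := pow_le_of_not_pRankLE hr1
  obtain ⟨A, hAE, hAc⟩ := BGSCNUniqueMain.exists_sub_card hE (k := 2) hEc
  have hA := PGroupsBasic.isElementaryAbelian_mono hE hAE
  obtain ⟨S, hS⟩ := (PGroupsBasic.isPGroup_of_isElementaryAbelian hA).exists_le_sylow
  obtain ⟨B, -, hB, hAB⟩ := hid S A hS hA hAc
  exact hAB.ne' (maximal_of_rank_two hG hM hp' (hAE.trans hEM) hA hAc hB hAB.le)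

/-- BG 10.5. -/
theorem order_p_normalizer_le {p : ℕ} [hp : Fact p.Prime] (hp' : p ∉ Cfsg.sigma M) {X : Subgroup G}
    (hX : Nat.card X = p) (hNX : normalizer (X : Set G) ≤ M) :
    (Cfsg.PRankLE p 2 M ∧ ¬ Cfsg.PRankLE p 1 M) ∧ ¬ Cfsg.IsIdealPrime p G ∧
      ∃ A : Subgroup G, Cfsg.IsElementaryAbelian p A ∧ Nat.card A = p ^ 2 ∧ X ≤ A := by
  have hr2 := outside_alpha hG hM hp.out hp'
  have hXM : X ≤ M := le_normalizer.trans hNX
  have hXel := PGroupsBasic.isElementaryAbelian_of_card_eq_prime hX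
  have hXp := PGroupsBasic.isPGroup_of_isElementaryAbelian hXel
  have hpM : p ∣ Nat.card M := hX ▸ card_dvd_of_le hXM
  obtain ⟨P, hP, hXP⟩ := exists_isMaxP_ge hXp hXM
  obtain ⟨S, hS⟩ := hP.exists_sylow
  have hP0 : P ≠ ⊥ := by
    rintro rfl
    rw [le_bot_iff] at hXP
    rw [hXP, card_bot] at hX
    exact hp.out.one_lt.ne hX
  obtain ⟨z, hzP, hzo, hzc⟩ := exists_central_prime hP.isPGroup hP0
  have hz : z ^ p = 1 := hzo ▸ pow_orderOf_eq_one z
  have hX1 : ∀ {x : G}, x ∈ X → x ^ p = 1 := fun hx => hXel.2 _ hx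
  have hzX : Cfsg.IsElementaryAbelian p (X ⊔ zpowers z) := by
    refine PGroupsBasic.isElementaryAbelian_sup hXel (PGroupsBasic.isElementaryAbelian_zpowers hz) ?_
    rintro a ha b hb
    obtain ⟨i, rfl⟩ := mem_zpowers_iff.1 hb
    exact ((hzc a (hXP ha)).symm.zpow_right i).eq.symm
  have hzXM : X ⊔ zpowers z ≤ M := sup_le hXM (zpowers_le.2 (hP.le hzP))
  have hr1 : ¬ Cfsg.PRankLE p 1 M := by
    intro h
    refine not_normalizer_le hG hM hpM hp' S ?_
    rw [hS]
    refine le_trans (fun g hg => ?_) hNX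
    have hgz : g * z * g⁻¹ ∈ P := (mem_normalizer_iff.1 hg z).1 hzP
    have he : ∀ Y : Subgroup G, Y ≤ P → Nat.card Y = p → Y = zpowers z := by
      intro Y hY hYc
      have hYel : Cfsg.IsElementaryAbelian p (Y ⊔ zpowers z) := by
        refine PGroupsBasic.isElementaryAbelian_sup
          (PGroupsBasic.isElementaryAbelian_of_card_eq_prime hYc)
          (PGroupsBasic.isElementaryAbelian_zpowers hz) ?_
        rintro a ha b hb
        obtain ⟨i, rfl⟩ := mem_zpowers_iff.1 hb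
        exact ((hzc a (hY ha)).symm.zpow_right i).eq.symm
      have h1 := card_le_of_pRankLE h
        (sup_le (hY.trans hP.le) (zpowers_le.2 (hP.le hzP))) hYel
      rw [pow_one] at h1
      have h2 := eq_of_le_of_card_ge (H := Y) le_sup_left (h1.trans hYc.ge)
      have h3 := eq_of_le_of_card_ge (H := zpowers z) le_sup_right
        (h1.trans (by rw [Nat.card_zpowers, hzo]))
      rw [h2, ← h3]
    have h1 : MulAut.conj g • X = X := by
      have hsub : MulAut.conj g • X ≤ P := by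
        rintro _ ⟨x, hx, rfl⟩
        exact (mem_normalizer_iff.1 hg x).1 (hXP hx)
      rw [he _ hsub (by rw [CoprimeSZ.card_conj_smul, hX]), ← he X hXP hX]
    rw [mem_normalizer_iff]
    intro x
    conv_rhs => rw [← h1]
    exact (smul_mem_pointwise_smul_iff (a := MulAut.conj g) (S := X) (x := x)).symm
  refine ⟨⟨hr2, hr1⟩, not_ideal hG hM hp' hr1, ?_⟩
  obtain ⟨E, hEP, hE, hEc⟩ : ∃ E : Subgroup G, E ≤ P ∧ Cfsg.IsElementaryAbelian p E ∧
      p ^ 2 ≤ Nat.card E := by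
    obtain ⟨E, hEM, hE, hEc⟩ := pow_le_of_not_pRankLE hr1
    obtain ⟨m, -, hm⟩ := exists_conj_maxP hP hEM (PGroupsBasic.isPGroup_of_isElementaryAbelian hE)
    exact ⟨MulAut.conj m • E, hm, PGroupsBasic.isElementaryAbelian_map_hom hE _,
      by rw [CoprimeSZ.card_conj_smul]; exact hEc⟩
  by_cases hc : ∀ a ∈ E, ∀ b ∈ X, Commute a b
  · have hel := PGroupsBasic.isElementaryAbelian_sup hE hXel fun a ha b hb => (hc a ha b hb).eq.symm
    exact ⟨E ⊔ X, hel, le_antisymm
      (card_le_of_pRankLE hr2 (sup_le (hEP.trans hP.le) hXM) hel)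
      (hEc.trans (card_le_of_le le_sup_left)), le_sup_right⟩
  · refine ⟨X ⊔ zpowers z, hzX, le_antisymm (card_le_of_pRankLE hr2 hzXM hzX) ?_, le_sup_left⟩
    have hne : z ∉ X := fun hzmem => hc fun a ha b hb => by
      have hXz : zpowers z = X := eq_of_le_of_card_ge (zpowers_le.2 hzmem)
        (by rw [Nat.card_zpowers, hzo, hX])
      rw [← hXz] at hb
      obtain ⟨i, rfl⟩ := mem_zpowers_iff.1 hb
      exact (hzc a (hEP ha)).symm.zpow_right i
    obtain ⟨j, hj⟩ := IsPGroup.iff_card.1 (PGroupsBasic.isPGroup_of_isElementaryAbelian hzX)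
    have h1 : Nat.card X < Nat.card ↥(X ⊔ zpowers z) :=
      lt_of_le_of_ne (card_le_of_le le_sup_left) fun h =>
        hne ((eq_of_le_of_card_ge le_sup_left h.ge).symm ▸ mem_sup_right (mem_zpowers z))
    rw [hX, hj] at h1
    rw [hj]
    refine Nat.pow_le_pow_right hp.out.pos ?_
    by_contra hj2
    interval_cases j <;> simp at h1 <;> have := hp.out.one_lt <;> omega

end Cfsg.Agent.BGSigma
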