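import Cfsg.Agent.Lib.BGSCNUnique

/-!
The proof of Bender-Glauberman 9.6: `SCN₃` subgroups are uniqueness subgroups.
-/

set_option autoImplicit false
set_option linter.style.haveILetI false

namespace Cfsg.Agent.BGSCNUniqueMain

open Subgroup
open Cfsg.Agent.BGUnique
open Cfsg.Agent.BGFittingUnique
open scoped commutatorElement Pointwise

universe u

variable {G : Type u} [Group G] [Finite G]

omit [Finite G] in
theorem commutator_mul_left (x y t : G) : ⁅x * y, t⁆ = x * ⁅y, t⁆ * x⁻¹ * ⁅x, t⁆ := by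
  rw [commutatorElement_def, commutatorElement_def, commutatorElement_def]; group

omit [Finite G] in
theorem commutator_inv_left (x t : G) : ⁅x⁻¹, t⁆ = x⁻¹ * ⁅x, t⁆⁻¹ * x := by
  rw [commutatorElement_def, commutatorElement_def]; group

theorem le_normalizer_commutator' {L V S : Subgroup G} (hV : L ≤ normalizer (V : Set G))
    (hS : L ≤ normalizer (S : Set G)) : L ≤ normalizer ((⁅V, S⁆ : Subgroup G) : Set G) := by
  refine CoprimeAction.le_normalizer_of_conj_mem fun g hg x hx => ?_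
  have hle : ⁅V, S⁆ ≤ (⁅V, S⁆ : Subgroup G).comap (MulAut.conj g).toMonoidHom := by
    rw [commutator_le]
    intro a ha b hb
    rw [mem_comap, map_commutatorElement]
    exact commutator_mem_commutator ((mem_normalizer_iff.1 (hV hg) a).1 ha)
      ((mem_normalizer_iff.1 (hS hg) b).1 hb)
  exact hle hx

/-- An elementary abelian subgroup of order at least `p ^ k` contains one of order `p ^ k`. -/
theorem exists_sub_card {p : ℕ} [Fact p.Prime] {E : Subgroup G} (hE : Cfsg.IsElementaryAbelian p E)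
    {k : ℕ} (h : p ^ k ≤ Nat.card E) : ∃ B : Subgroup G, B ≤ E ∧ Nat.card B = p ^ k := by
  obtain ⟨j, hj⟩ := IsPGroup.iff_card.1 (PGroupsBasic.isPGroup_of_isElementaryAbelian hE)
  obtain ⟨K, hK⟩ := Sylow.exists_subgroup_card_pow_prime (G := E) p (n := k)
    (hj ▸ pow_dvd_pow p ((Nat.pow_le_pow_iff_right (Fact.out : p.Prime).one_lt).1 (hj ▸ h)))
  exact ⟨K.map E.subtype, map_subtype_le K, by rw [card_map_of_injective E.subtype_injective, hK]⟩

/-- The standing situation: `A` abelian of rank three in `M`, and `R` a normal `q`-subgroup of `M`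
of rank three, `q ≠ p`. -/
structure Ctx (p q : ℕ) (M R A E : Subgroup G) : Prop where
  simple : Cfsg.IsMinSimpleOddOrder G
  qne : q ≠ p
  q_odd : q ≠ 2
  coatom : IsCoatom M
  Rp : IsPGroup q R
  Rle : R ≤ M
  Mnorm : M ≤ normalizer (R : Set G)
  Rrank : ¬ Cfsg.PRankLE q 2 R
  qU : ∀ F : Subgroup G, IsMulCommutative F → IsPGroup q F → ¬ Cfsg.PRankLE q 2 F →
    Cfsg.InUniqueMaximal F
  Ap : IsPGroup p A
  Ac : IsMulCommutative A
  AM : A ≤ M
  tr : Cfsg.TransitivityHypothesis A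
  EA : E ≤ A
  Ee : Cfsg.IsElementaryAbelian p E
  Ecard : Nat.card E = p ^ 3

variable {p q : ℕ} [hp : Fact p.Prime] [hq : Fact q.Prime] {M R A E : Subgroup G}

/-- Invariant subgroups of order prime to `p` of a proper subgroup lie in its core. -/
theorem le_coreOf_of_tr (h : Ctx p q M R A E) {X Y : Subgroup G} (hX : X ≠ ⊤) (hAX : A ≤ X)
    (hYX : Y ≤ X) (hAY : A ≤ normalizer (Y : Set G)) (hY : (Nat.card Y).Coprime p) :
    Y ≤ coreOf p X := by
  have hA0 : A ≠ ⊥ := h.tr.1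
  have hmem : Y ∈ Cfsg.invSubgroups X A (Cfsg.primesNotDvd (Nat.card A)) := by
    refine ⟨hYX, fun r hr hd => ⟨hr, fun hrA => ?_⟩, hAY⟩
    obtain ⟨n, hn⟩ := IsPGroup.iff_card.1 h.Ap
    rw [hn] at hrA
    have hrp := (Nat.prime_dvd_prime_iff_eq hr hp.out).1 (hr.dvd_of_dvd_pow hrA)
    exact (hp.out.coprime_iff_not_dvd.1 hY.symm) (hrp ▸ hd)
  refine (le_sSup hmem).trans ((h.tr.2.2 X hX hAX).le.trans ?_)
  refine le_coreOf (BGTransitivity.piCoreOf_le _ _)
    (le_normalizer.trans (BGTransitivity.normalizer_le_normalizer_piCoreOf _ _)) ?_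
  refine (hp.out.coprime_iff_not_dvd.2 fun hd => ?_).symm
  exact (BGTransitivity.piNat_card_piCoreOf _ X p hp.out hd).2 (dvd_card_of_ne_bot h.Ap hA0)

theorem A_le_centralizer (h : Ctx p q M R A E) {b : G} (hb : b ∈ E) :
    A ≤ centralizer ({b} : Set G) := fun a ha => mem_centralizer_singleton_iff.2
  (PGroupsBasic.comm_of_isMulCommutative h.Ac ha (h.EA hb))

/-- Elements of `M` centralizing `B` normalize the fixed points of `B`. -/
theorem mem_normalizer_of_commute (h : Ctx p q M R A E) {B : Subgroup G} {v : G}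
    (hvW : v ∈ BGRankTwo.wSub q h.q_odd R) (hBv : ∀ b ∈ B, Commute b v)
    (hfix : ∀ w ∈ BGRankTwo.wSub q h.q_odd R, (∀ b ∈ B, Commute b w) → w ∈ zpowers v)
    {d : G} (hdM : d ∈ M) (hdB : ∀ b ∈ B, Commute b d) : d ∈ normalizer (zpowers v : Set G) := by
  have key : ∀ d ∈ M, (∀ b ∈ B, Commute b d) → ∀ x ∈ zpowers v, d * x * d⁻¹ ∈ zpowers v := by
    intro d hdM hdB x hx
    obtain ⟨i, rfl⟩ := mem_zpowers_iff.1 hx
    rw [← conj_zpow]
    refine zpow_mem (hfix _ ((mem_normalizer_iff.1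
      (BGRankTwo.normalizer_le_wSub R (h.Mnorm hdM)) v).1 hvW) fun b hb => ?_) i
    exact (((hdB b hb).mul_right (hBv b hb)).mul_right (hdB b hb).inv_right)
  rw [mem_normalizer_iff]
  refine fun x => ⟨key d hdM hdB x, fun hx => ?_⟩
  simpa [mul_assoc] using key d⁻¹ (inv_mem hdM) (fun b hb => (hdB b hb).inv_right) _ hx

/-- For a bad `b`, the fixed points on `wSub` are `⟨v⟩`. -/
theorem fixed_le_of_bad (h : Ctx p q M R A E) {v b : G} (hvW : v ∈ BGRankTwo.wSub q h.q_odd R)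
    (hv1 : v ≠ 1) (hb1 : b ≠ 1) (hbad : ¬ centralizer ({b} : Set G) ≤ M) (hbv : Commute b v) :
    ∀ w ∈ BGRankTwo.wSub q h.q_odd R, Commute b w → w ∈ zpowers v := by
  intro w hw hbw
  set F := BGRankTwo.wSub q h.q_odd R ⊓ centralizer ({b} : Set G) with hF
  have hcyc : IsCyclic F := by
    by_contra hnc
    exact hbad (BGSCNUnique.centralizer_le_of_noncyclic h.simple h.q_odd h.Rp h.Rrank h.qU h.coatom
      h.Rle h.Mnorm hb1 hnc)
  have hcard := PGroupsBasic.card_le_prime_of_isCyclic hcyc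
    (fun a ha => BGRankTwo.pow_eq_one_of_mem_wSub (ha.1 : a ∈ BGRankTwo.wSub q h.q_odd R))
  have hle : zpowers v ≤ F := zpowers_le.2 ⟨hvW, mem_centralizer_singleton_iff.2 hbv.eq.symm⟩
  have heq : zpowers v = F := eq_of_le_of_card_ge hle (by
    rw [Nat.card_zpowers, orderOf_eq_prime (BGRankTwo.pow_eq_one_of_mem_wSub hvW) hv1]; exact hcard)
  exact heq.ge ⟨hw, mem_centralizer_singleton_iff.2 hbw.eq.symm⟩

/-- The facts about `O_{p'}(C(b))` for a bad `b ∈ B`. -/
theorem bad_facts (h : Ctx p q M R A E) {B : Subgroup G} {v b : G} (hBE : B ≤ E)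
    (hvW : v ∈ BGRankTwo.wSub q h.q_odd R) (hv1 : v ≠ 1) (hBv : ∀ b ∈ B, Commute b v)
    (hfix : ∀ w ∈ BGRankTwo.wSub q h.q_odd R, (∀ b ∈ B, Commute b w) → w ∈ zpowers v)
    (hDM : BGTransitivity.centCore A ≤ M) (hb : b ∈ B) (hb1 : b ≠ 1)
    (hbad : ¬ centralizer ({b} : Set G) ≤ M) :
    v ∈ coreOf p (centralizer ({b} : Set G)) ∧
    (∀ Q : Subgroup G, IsPGroup q Q → Q ≤ centralizer ({b} : Set G) → v ∈ Q → IsCyclic Q) ∧
    ∀ Q : Subgroup G, IsPGroup q Q → A ≤ normalizer (Q : Set G) →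
      Q ≤ coreOf p (centralizer ({b} : Set G)) →
      ∃ Q₁ : Subgroup G, Q ≤ Q₁ ∧ v ∈ Q₁ ∧ IsPGroup q Q₁ ∧ IsCyclic Q₁ ∧
        Nat.card Q₁ = q ^ (Nat.card (coreOf p (centralizer ({b} : Set G)))).factorization q ∧
        Q₁ ≤ coreOf p (centralizer ({b} : Set G)) := by
  set X := centralizer ({b} : Set G) with hX
  set S := coreOf p X with hS
  have hXne : X ≠ ⊤ := BGTransitivity.centralizer_ne_top h.simple hb1
  have hAX : A ≤ X := A_le_centralizer h (hBE hb)
  have hvq := BGRankTwo.pow_eq_one_of_mem_wSub hvW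
  have hvo : orderOf v = q := orderOf_eq_prime hvq hv1
  have hAv : A ≤ normalizer (zpowers v : Set G) := fun a ha =>
    mem_normalizer_of_commute h hvW hBv hfix (h.AM ha) fun c hc =>
      PGroupsBasic.comm_of_isMulCommutative h.Ac (h.EA (hBE hc)) ha
  have hvX : zpowers v ≤ X := zpowers_le.2 (mem_centralizer_singleton_iff.2 (hBv b hb).eq.symm)
  have hvp : IsPGroup q (zpowers v) := IsPGroup.of_card (n := 1) (by rw [Nat.card_zpowers, hvo, pow_one])
  have hvS : v ∈ S := le_coreOf_of_tr h hXne hAX hvX hAv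
    (by rw [Nat.card_zpowers, hvo]; exact (Nat.coprime_primes hq.out hp.out).2 h.qne) (mem_zpowers v)
  have hbE : b ^ p = 1 := h.Ee.2 b (hBE hb)
  have hcyc : ∀ Q : Subgroup G, IsPGroup q Q → Q ≤ X → v ∈ Q → IsCyclic Q := by
    intro Q hQ hQX hvQ
    by_contra hnc
    exact hbad (BGSCNUnique.centralizer_le_of_qgroup h.simple h.q_odd h.Rp h.Rrank h.qU h.coatom
      h.Rle h.Mnorm h.qne hbE hb1 (h.AM (h.EA (hBE hb))) hvW hv1
      (fixed_le_of_bad h hvW hv1 hb1 hbad (hBv b hb)) (hBv b hb) hQ hQX hvQ hnc)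
  refine ⟨hvS, hcyc, fun Q hQ hAQ hQS => ?_⟩
  have hAS : A ≤ normalizer (S : Set G) := hAX.trans (le_normalizer.trans (le_normalizer_coreOf p X))
  have hcop : (Nat.card A).Coprime (Nat.card S) := by
    obtain ⟨n, hn⟩ := IsPGroup.iff_card.1 h.Ap
    rw [hn]; exact (coprime_coreOf p X).symm.pow_left n
  haveI : Group.IsSolvable A := CoprimeAction.isSolvable_of_isPGroup h.Ap
  obtain ⟨S₁, hQS₁, hAS₁⟩ := CoprimeAction.exists_invariant_sylow_ge (p := q) hAS hcop
    (Or.inl inferInstance) hQS hQ hAQ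
  obtain ⟨S₂, hvS₂, hAS₂⟩ := CoprimeAction.exists_invariant_sylow_ge (p := q) hAS hcop
    (Or.inl inferInstance) (zpowers_le.2 hvS) hvp hAv
  obtain ⟨c, hc, hcS⟩ := CoprimeAction.invariant_sylow_conj hAS hcop (Or.inl inferInstance)
    S₂ S₁ hAS₂ hAS₁
  have hcD : (c : G) ∈ BGTransitivity.centCore A :=
    BGTransitivity.le_centCore_of_centralizing h.simple h.tr (zpowers_le.2 hc)
      (fun r hr hd => ⟨hr, fun hrA => by
        have h1 := hd.trans (card_dvd_of_le (zpowers_le.2 c.2 : zpowers (c : G) ≤ S))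
        exact hr.one_lt.ne' (Nat.eq_one_of_dvd_coprimes hcop hrA h1)⟩) (mem_zpowers _)
  have hcn := mem_normalizer_of_commute h hvW hBv hfix (hDM hcD) fun x hx =>
    (hc x (h.EA (hBE hx)) : x * (c : G) = c * x)
  obtain ⟨y, hy, hyv⟩ := hvS₂ ((mem_normalizer_iff.1 (inv_mem hcn) v).1 (mem_zpowers v))
  refine ⟨(S₁ : Subgroup S).map S.subtype, hQS₁, ?_, S₁.isPGroup'.map _, ?_,
    CoprimeAction.card_map_sylow S₁, map_subtype_le _⟩
  swap
  · refine hcyc _ (S₁.isPGroup'.map _) ((map_subtype_le _).trans (coreOf_le p X)) ?_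
    refine ⟨c * y * c⁻¹, ?_, ?_⟩
    · rw [← hcS]
      show c * y * c⁻¹ ∈ MulAut.conj c • (S₂ : Subgroup S)
      exact ⟨y, hy, rfl⟩
    · rw [map_mul, map_mul, map_inv, hyv]; simp [mul_assoc]
  · refine ⟨c * y * c⁻¹, ?_, ?_⟩
    · rw [← hcS]
      show c * y * c⁻¹ ∈ MulAut.conj c • (S₂ : Subgroup S)
      exact ⟨y, hy, rfl⟩
    · rw [map_mul, map_mul, map_inv, hyv]; simp [mul_assoc]

theorem good_case (h : Ctx p q M R A E) {B : Subgroup G} {v b g : G} (hBE : B ≤ E)
    (hvW : v ∈ BGRankTwo.wSub q h.q_odd R) (hv1 : v ≠ 1) (hBv : ∀ b ∈ B, Commute b v)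
    (hfix : ∀ w ∈ BGRankTwo.wSub q h.q_odd R, (∀ b ∈ B, Commute b w) → w ∈ zpowers v)
    (hDM : BGTransitivity.centCore A ≤ M) (hb : b ∈ B) (hb1 : b ≠ 1)
    (hbad : ¬ centralizer ({b} : Set G) ≤ M)
    (hg : g ∈ E) (hgv : ¬ Commute g v) (hgM : centralizer ({g} : Set G) ≤ M) :
    coreOf p (centralizer ({b} : Set G)) ≤ M := by
  obtain ⟨hvS, hcyc, hsyl⟩ := bad_facts h hBE hvW hv1 hBv hfix hDM hb hb1 hbad
  set X := centralizer ({b} : Set G) with hX
  set S := coreOf p X with hS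
  have hXne : X ≠ ⊤ := BGTransitivity.centralizer_ne_top h.simple hb1
  have hAX : A ≤ X := A_le_centralizer h (hBE hb)
  have hSne : S ≠ ⊤ := fun e => hXne (top_le_iff.1 (e ▸ coreOf_le p X))
  haveI := isSolvable_of_ne_top h.simple hSne
  have hvq := BGRankTwo.pow_eq_one_of_mem_wSub hvW
  have hvo : orderOf v = q := orderOf_eq_prime hvq hv1
  have hAS : A ≤ normalizer (S : Set G) := hAX.trans (le_normalizer.trans (le_normalizer_coreOf p X))
  by_cases hO : Oc q S = ⊥
  · exfalso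
    have hcent : ∀ r : ℕ, r.Prime → r ∣ Nat.card (Cfsg.fittingOf S) →
        ∀ y ∈ zpowers v, ∀ x ∈ Oc r S, Commute x y := by
      intro r hr _ y hy x hx
      haveI := Fact.mk hr
      by_cases hrq : r = q
      · subst hrq
        rw [hO, mem_bot] at hx
        rw [hx]; exact Commute.one_left _
      set V := Oc r S with hV
      haveI : Group.IsSolvable V := CoprimeAction.isSolvable_of_isPGroup (isPGroup_Oc r S)
      have hgn : g ∈ normalizer (V : Set G) :=
        normalizer_le_Oc r S (hAS (h.EA hg))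
      have hvn : v ∈ normalizer (V : Set G) := le_normalizer_Oc r S hvS
      have hgvz : g * v * g⁻¹ ∈ zpowers v := (mem_normalizer_iff.1 (mem_normalizer_of_commute h hvW hBv
        hfix (h.AM (h.EA hg)) fun c hc =>
          PGroupsBasic.comm_of_isMulCommutative h.Ee.1 (hBE hc) hg) v).1 (mem_zpowers v)
      have hVS : V ≤ S := Oc_le r S
      have hres := BGSCNUnique.le_centralizer_of_fixed_le (p := p) (q := q) _ G V rfl g v hvq
        (h.Ee.2 g hg) hgvz hgv hgn hvn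
        (coprime_card_of_qgroup (isPGroup_Oc r S) fun hd =>
          hrq ((Nat.prime_dvd_prime_iff_eq hr hq.out).1 hd))
        ((coprime_coreOf p X).coprime_dvd_left (card_dvd_of_le hVS))
        (fun c hc hgc => by
          have hcM : c ∈ M := hgM (mem_centralizer_singleton_iff.2 hgc.eq.symm)
          have hvR : v ∈ R := BGRankTwo.wSub_le R hvW
          have h1 : ⁅c, v⁆ ∈ R ⊓ V := by
            refine mem_inf.2 ⟨?_, ?_⟩
            · rw [commutatorElement_def]
              exact mul_mem ((mem_normalizer_iff.1 (h.Mnorm hcM) v).1 hvR) (inv_mem hvR)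
            · rw [commutatorElement_def, mul_assoc, mul_assoc, ← mul_assoc v]
              exact mul_mem hc ((mem_normalizer_iff.1 hvn _).1 (inv_mem hc))
          rw [inf_eq_bot_of_coprime (coprime_of_qgroups (Ne.symm hrq) h.Rp (isPGroup_Oc r S)),
            mem_bot, commutatorElement_eq_one_iff_mul_comm] at h1
          exact Eq.symm h1)
      obtain ⟨i, rfl⟩ := mem_zpowers_iff.1 hy
      exact ((hres x hx).zpow_left i).symm
    have h1 : zpowers v ≤ Cfsg.fittingOf S :=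
      (le_inf (zpowers_le.2 hvS) (le_centralizer_fittingOf hcent)).trans centralizer_fittingOf_le
    have h2 := qgroup_le_Oc (q := q) h1
      (IsPGroup.of_card (n := 1) (by rw [Nat.card_zpowers, hvo, pow_one])) (mem_zpowers v)
    rw [hO, mem_bot] at h2
    exact hv1 h2
  · obtain ⟨Q₁, hQ₁, hvQ₁, hQ₁p, hQ₁c, -, -⟩ := hsyl (Oc q S) (isPGroup_Oc q S)
      (hAS.trans (normalizer_le_Oc q S)) (Oc_le q S)
    haveI := hQ₁c
    have huniq : ∀ x ∈ Q₁, x ^ q = 1 → x ∈ zpowers v := by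
      intro x hx hxq
      set F := closure ({v, x} : Set G) with hF
      have hFQ : F ≤ Q₁ := by
        rw [hF, closure_le]
        rintro w (rfl | rfl) <;> assumption
      haveI : IsCyclic F :=
        isCyclic_of_injective (inclusion hFQ) (inclusion_injective hFQ)
      have hFexp : ∀ a ∈ F, a ^ q = 1 := by
        letI := hQ₁c.commGroup
        have hFe := PGroupsBasic.isElementaryAbelian_closure (p := q) (S := ({v, x} : Set G))
          (fun a ha c hc => by
            have ha' : a ∈ Q₁ := hFQ (subset_closure ha)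
            have hc' : c ∈ Q₁ := hFQ (subset_closure hc)
            exact congrArg Subtype.val (mul_comm (⟨a, ha'⟩ : Q₁) ⟨c, hc'⟩))
          (by rintro a (rfl | rfl) <;> assumption)
        exact hFe.2
      have hcard := PGroupsBasic.card_le_prime_of_isCyclic (p := q) inferInstance hFexp
      have heq : zpowers v = F := eq_of_le_of_card_ge (zpowers_le.2 (subset_closure (by simp)))
        (by rw [Nat.card_zpowers, hvo]; exact hcard)
      exact heq.ge (subset_closure (by simp))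
    have hvO : v ∈ Oc q S := by
      obtain ⟨x, hx⟩ := exists_prime_orderOf_dvd_card' (G := Oc q S) q
        (dvd_card_of_ne_bot (isPGroup_Oc q S) hO)
      have hxo : orderOf (x : G) = q := by rw [Subgroup.orderOf_coe, hx]
      have hxv := huniq x (hQ₁ x.2) (orderOf_dvd_iff_pow_eq_one.1 hxo.dvd)
      have heq : zpowers (x : G) = zpowers v := eq_of_le_of_card_ge (zpowers_le.2 hxv)
        (by rw [Nat.card_zpowers, Nat.card_zpowers, hxo, hvo])
      exact zpowers_le.2 x.2 (heq.ge (mem_zpowers v))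
    have hconj : ∀ s ∈ S, ∀ x ∈ zpowers v, s * x * s⁻¹ ∈ zpowers v := by
      intro s hs x hx
      refine huniq _ (hQ₁ ((mem_normalizer_iff.1 (le_normalizer_Oc q S hs) x).1
        ((zpowers_le.2 hvO) hx))) ?_
      obtain ⟨i, rfl⟩ := mem_zpowers_iff.1 hx
      rw [conj_pow, ← zpow_natCast, zpow_comm, zpow_natCast, hvq, one_zpow, mul_one, mul_inv_cancel]
    intro s hs
    refine BGSCNUnique.centralizer_le h.simple h.q_odd h.Rp h.Rrank h.qU h.coatom h.Rle h.Mnorm hvW hv1 ?_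
    rw [mem_normalizer_iff]
    refine fun x => ⟨hconj s hs x, fun hx => ?_⟩
    simpa [mul_assoc] using hconj s⁻¹ (inv_mem hs) _ hx

/-- In the remaining case `v` normalizes `⁅Y, a₀⁆` for a maximal invariant `r`-subgroup `Y`. -/
theorem bad_case (h : Ctx p q M R A E) {B : Subgroup G} {v a₀ : G} (hBE : B ≤ E)
    (hBc : Nat.card B = p ^ 2)
    (hvW : v ∈ BGRankTwo.wSub q h.q_odd R) (hv1 : v ≠ 1) (hBv : ∀ b ∈ B, Commute b v)
    (hfix : ∀ w ∈ BGRankTwo.wSub q h.q_odd R, (∀ b ∈ B, Commute b w) → w ∈ zpowers v)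
    (hDM : BGTransitivity.centCore A ≤ M) (ha₀B : a₀ ∈ B)
    (hall : ∀ b ∈ B, b ∉ zpowers a₀ → ¬ centralizer ({b} : Set G) ≤ M)
    {r : ℕ} [Fact r.Prime] (hrp : r ≠ p) (hrq : r ≠ q) {Y : Subgroup G}
    (hY : Y ∈ BGTransitivity.maxInv A r)
    (hconj : ∀ Q ∈ BGTransitivity.maxInv A r, ∃ k ∈ BGTransitivity.centCore A,
      Q = MulAut.conj k • Y) :
    v ∈ normalizer ((⁅Y, zpowers a₀⁆ : Subgroup G) : Set G) := by
  set T0 := zpowers a₀ with hT0
  have hT0B : T0 ≤ B := zpowers_le.2 ha₀B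
  have hT0A : T0 ≤ A := hT0B.trans (hBE.trans h.EA)
  have hvq := BGRankTwo.pow_eq_one_of_mem_wSub hvW
  have hvo : orderOf v = q := orderOf_eq_prime hvq hv1
  have hAv : A ≤ normalizer (zpowers v : Set G) := fun a ha =>
    mem_normalizer_of_commute h hvW hBv hfix (h.AM ha) fun c hc =>
      PGroupsBasic.comm_of_isMulCommutative h.Ac (h.EA (hBE hc)) ha
  have hYp := BGTransitivity.isPGroup_of_mem hY
  have hAY := BGTransitivity.normalizes_of_mem hY
  haveI : Group.IsSolvable A := CoprimeAction.isSolvable_of_isPGroup h.Ap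
  haveI : Group.IsSolvable T0 := CoprimeAction.isSolvable_of_le hT0A
  have hTr : ∀ Z : Subgroup G, IsPGroup r Z → (Nat.card T0).Coprime (Nat.card Z) := fun Z hZ =>
    coprime_of_qgroups (Ne.symm hrp) (h.Ap.to_le hT0A) hZ
  have hvT0 : v ∈ centralizer (T0 : Set G) := fun t ht => (hBv t (hT0B ht)).eq
  -- the pieces
  have hpiece : ∀ b ∈ B, b ∉ T0 →
      v ∈ normalizer ((⁅Y ⊓ centralizer ({b} : Set G), T0⁆ : Subgroup G) : Set G) := by
    intro b hb hbT
    have hb1 : b ≠ 1 := fun e => hbT (e ▸ one_mem T0)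
    have hbad := hall b hb hbT
    obtain ⟨hvS, hcyc, hsyl⟩ := bad_facts h hBE hvW hv1 hBv hfix hDM hb hb1 hbad
    set X := centralizer ({b} : Set G) with hX
    set S := coreOf p X with hS
    have hXne : X ≠ ⊤ := BGTransitivity.centralizer_ne_top h.simple hb1
    have hAX : A ≤ X := A_le_centralizer h (hBE hb)
    have hSX : S ≤ X := coreOf_le p X
    have hXS : X ≤ normalizer (S : Set G) := le_normalizer.trans (le_normalizer_coreOf p X)
    set N := coreOf q S with hN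
    have hNS : N ≤ S := coreOf_le q S
    have hXN : X ≤ normalizer (N : Set G) := hXS.trans (le_normalizer_coreOf q S)
    set Yb := Y ⊓ X with hYb
    have hAYb : A ≤ normalizer (Yb : Set G) := fun a ha =>
      CoprimeAction.le_normalizer_inf (A := A) hAY (hAX.trans le_normalizer) ha
    have hYbp : IsPGroup r Yb := hYp.to_le inf_le_left
    have hYbS : Yb ≤ S := le_coreOf_of_tr h hXne hAX inf_le_right hAYb
      (coprime_card_of_qgroup hYbp fun hd => hrp ((Nat.prime_dvd_prime_iff_eq Fact.out hp.out).1 hd))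
    -- `⁅Y_b, a₀⁆ ≤ N`
    have hcomm : ⁅Yb, T0⁆ ≤ Yb ⊓ N := by
      have hle : ⁅Yb, T0⁆ ≤ Yb :=
        CoprimeAction.commutator_le_self_of_le_normalizer (hT0A.trans hAYb)
      refine le_inf hle ?_
      set X₀ := S ⊔ T0 with hX₀
      have hX₀X : X₀ ≤ X := sup_le hSX (hT0A.trans hAX)
      have hX₀ne : X₀ ≠ ⊤ := fun e => hXne (top_le_iff.1 (e ▸ hX₀X))
      haveI := isSolvable_of_ne_top h.simple hX₀ne
      haveI : (S.subgroupOf X₀).Normal := normal_subgroupOf_of_le_normalizer (hX₀X.trans hXS)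
      have hqS : ∀ x : X₀, x ^ q = 1 → (x : G) ∈ S := by
        intro x hxq
        set f := QuotientGroup.mk' (S.subgroupOf X₀) with hf
        obtain ⟨s, hs, t, ht, hst⟩ := mem_sup_of_normal_left.1
          (show x ∈ S.subgroupOf X₀ ⊔ T0.subgroupOf X₀ by
            rw [← subgroupOf_sup le_sup_left le_sup_right, subgroupOf_self]; trivial)
        have h1 : f x = f t := by
          rw [← hst, map_mul, show f s = 1 from (QuotientGroup.eq_one_iff s).2 hs, one_mul]
        have h2 : orderOf (f x) ∣ q := orderOf_dvd_of_pow_eq_one (by rw [← map_pow, hxq, map_one])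
        have h3 : orderOf (f x) ∣ p := by
          rw [h1]
          refine (orderOf_map_dvd f t).trans (orderOf_dvd_of_pow_eq_one (Subtype.ext ?_))
          rw [SubgroupClass.coe_pow]
          exact h.Ee.2 _ (hBE (hT0B ht))
        have h4 : f x = 1 := orderOf_eq_one_iff.1
          (Nat.eq_one_of_dvd_coprimes ((Nat.coprime_primes hq.out hp.out).2 h.qne) h2 h3)
        exact (QuotientGroup.eq_one_iff x).1 h4
      have hrank : Cfsg.PRankLE q 2 X₀ := by
        intro F hF hFq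
        set F' := F.map X₀.subtype with hF'
        have hF'e : Cfsg.IsElementaryAbelian q F' := PGroupsBasic.isElementaryAbelian_map_hom ⟨hF, hFq⟩ _
        have hF'S : F' ≤ S := by
          rintro _ ⟨x, hx, rfl⟩
          exact hqS x (hFq x hx)
        obtain ⟨S₁, hS₁⟩ := ((PGroupsBasic.isPGroup_of_isElementaryAbelian hF'e).comap_of_injective _
          S.subtype_injective).exists_le_sylow
        obtain ⟨Q₁, -, -, -, hQ₁c, hQ₁card, hQ₁S⟩ := hsyl ⊥ IsPGroup.of_bot
          (by rw [normalizer_eq_top_iff.mpr inferInstance]; exact le_top) bot_le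
        obtain ⟨S₂, hS₂⟩ := CoprimeAction.exists_sylow_map_eq hQ₁S hQ₁card
        haveI := hQ₁c
        haveI : IsCyclic (S₂ : Subgroup S) := isCyclic_of_surjective
          (((S₂ : Subgroup S).equivMapOfInjective _ S.subtype_injective).trans
            (MulEquiv.subgroupCongr hS₂)).symm (MulEquiv.surjective _)
        haveI : IsCyclic (S₁ : Subgroup S) :=
          isCyclic_of_surjective (S₂.equiv S₁) (MulEquiv.surjective _)
        haveI : IsCyclic ↥(F'.subgroupOf S) :=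
          isCyclic_of_injective (inclusion hS₁) (inclusion_injective hS₁)
        have := PGroupsBasic.card_le_prime_of_isCyclic (p := q) (A := F'.subgroupOf S) inferInstance
          fun a ha => Subtype.ext (by rw [SubgroupClass.coe_pow]; exact hF'e.2 _ ha)
        rw [Nat.card_congr (subgroupOfEquivOfLe hF'S).toEquiv,
          card_map_of_injective X₀.subtype_injective] at this
        exact this.trans (Nat.le_self_pow two_ne_zero q)
      have hder := BGRankTwo.commutator_le_pPrimePCore (p := q) h.q_odd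
        (odd_card_subgroup h.simple X₀) hrank
      haveI := HallCore.pPrimeCore_normal q X₀
      rw [commutator_le]
      intro y hy t ht
      have hc : ⁅y, t⁆ ∈ Yb := hle (commutator_mem_commutator hy ht)
      set c : X₀ := ⁅(⟨y, mem_sup_left (hYbS hy)⟩ : X₀), ⟨t, mem_sup_right ht⟩⁆ with hcdef
      have hcc : (c : G) = ⁅y, t⁆ := rfl
      have hc1 := mem_comap.1 (hder (commutator_mem_commutator (mem_top _) (mem_top _) : c ∈ commutator X₀))
      obtain ⟨k, hk⟩ := HallCore.isPGroup_pCore q _ ⟨_, hc1⟩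
      have hk' : c ^ q ^ k ∈ Cfsg.pPrimeCore q X₀ := by
        refine (QuotientGroup.eq_one_iff (N := Cfsg.pPrimeCore q X₀) _).1 ?_
        rw [← QuotientGroup.mk'_apply, map_pow]
        exact congrArg Subtype.val hk
      obtain ⟨i, hi⟩ := hYbp ⟨_, hc⟩
      have hcord : orderOf c ∣ r ^ i := orderOf_dvd_of_pow_eq_one (Subtype.ext (by
        rw [SubgroupClass.coe_pow, hcc]; simpa using congrArg Subtype.val hi))
      obtain ⟨m, hm⟩ := exists_pow_eq_self_of_coprime (x := c) (n := q ^ k)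
        ((((Nat.coprime_primes Fact.out hq.out).2 hrq).pow i k).coprime_dvd_left hcord).symm
      have hcO : c ∈ Cfsg.pPrimeCore q X₀ := hm ▸ pow_mem hk' m
      have hle2 : coreOf q X₀ ⊓ S ≤ N := le_coreOf inf_le_right
        (fun s hs => CoprimeAction.le_normalizer_inf (A := S)
          ((le_sup_left : S ≤ X₀).trans (le_normalizer.trans (le_normalizer_coreOf q X₀)))
          le_normalizer hs)
        ((coprime_coreOf q X₀).coprime_dvd_left (card_dvd_of_le inf_le_left))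
      exact hle2 ⟨⟨c, hcO, hcc⟩, hYbS hc⟩
    -- an invariant Sylow subgroup of `N` normalized by `v`
    set A₁ := A ⊔ zpowers v with hA₁
    have hA₁X : A₁ ≤ X := sup_le hAX (zpowers_le.2 (hSX hvS))
    haveI : Group.IsSolvable A₁ :=
      isSolvable_of_ne_top h.simple fun e => hXne (top_le_iff.1 (e ▸ hA₁X))
    haveI : ((zpowers v).subgroupOf A₁).Normal :=
      normal_subgroupOf_of_le_normalizer (sup_le hAv le_normalizer)
    have hA₁card : Nat.card A₁ ∣ Nat.card A * q := by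
      have h1 := HallCore.card_sup_dvd (A.subgroupOf A₁) ((zpowers v).subgroupOf A₁)
      rw [← subgroupOf_sup le_sup_left le_sup_right, subgroupOf_self, card_top,
        Nat.card_congr (subgroupOfEquivOfLe le_sup_left).toEquiv,
        Nat.card_congr (subgroupOfEquivOfLe le_sup_right).toEquiv, Nat.card_zpowers, hvo] at h1
      exact h1
    obtain ⟨nA, hnA⟩ := IsPGroup.iff_card.1 h.Ap
    have hcopN : (Nat.card A).Coprime (Nat.card N) := by
      rw [hnA]
      exact ((coprime_coreOf p X).coprime_dvd_left (card_dvd_of_le hNS)).symm.pow_left nA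
    have hcopA₁ : (Nat.card A₁).Coprime (Nat.card N) :=
      ((hcopN.mul_left (coprime_coreOf q S).symm)).coprime_dvd_left hA₁card
    obtain ⟨S₁, hS₁⟩ := CoprimeAction.exists_invariant_sylow (A := A₁) (K := N)
      (hA₁X.trans hXN) hcopA₁ (Or.inl inferInstance) r
    have hAN : A ≤ normalizer (N : Set G) := hAX.trans hXN
    have hYn : A ≤ normalizer ((Yb ⊓ N : Subgroup G) : Set G) := fun a ha =>
      CoprimeAction.le_normalizer_inf (A := A) hAYb hAN ha
    obtain ⟨S₂, hS₂le, hS₂⟩ := CoprimeAction.exists_invariant_sylow_ge (p := r) hAN hcopN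
      (Or.inl inferInstance) (U := Yb ⊓ N) inf_le_right (hYbp.to_le inf_le_left) hYn
    have hS₂eq : (S₂ : Subgroup N).map N.subtype = Yb ⊓ N := by
      refine (eq_of_le_of_card_ge hS₂le ?_).symm
      obtain ⟨Q, hQ, hle⟩ := BGTransitivity.exists_maxInv_ge (A := A) (S₂.isPGroup'.map N.subtype) hS₂
      obtain ⟨k, hk, rfl⟩ := hconj Q hQ
      have hkX : k ∈ X := mem_centralizer_singleton_iff.2
        (((BGTransitivity.piCoreOf_le _ _ hk) b (h.EA (hBE hb))).symm)
      rw [← CoprimeSZ.card_conj_smul k (Yb ⊓ N)]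
      refine card_le_of_le fun x hx => CoprimeSZ.mem_conj_smul.2 (mem_inf.2 ⟨mem_inf.2 ⟨
        CoprimeSZ.mem_conj_smul.1 (hle hx), ?_⟩, ?_⟩)
      · exact mul_mem (mul_mem (inv_mem hkX) (hSX (hNS (map_subtype_le _ hx)))) hkX
      · simpa using (mem_normalizer_iff.1 (hXN (inv_mem hkX)) x).1 (map_subtype_le _ hx)
    obtain ⟨c, hc, hcS⟩ := CoprimeAction.invariant_sylow_conj hAN hcopN (Or.inl inferInstance)
      S₁ S₂ (le_sup_left.trans hS₁) hS₂
    have hcD : (c : G) ∈ BGTransitivity.centCore A :=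
      BGTransitivity.le_centCore_of_centralizing h.simple h.tr (zpowers_le.2 hc)
        (fun s hs hd => ⟨hs, fun hsA => hs.one_lt.ne' (Nat.eq_one_of_dvd_coprimes hcopN hsA
          (hd.trans (card_dvd_of_le (zpowers_le.2 c.2 : zpowers (c : G) ≤ N))))⟩) (mem_zpowers _)
    have hcn := mem_normalizer_of_commute h hvW hBv hfix (hDM hcD) fun x hx =>
      (hc x (h.EA (hBE hx)) : x * (c : G) = c * x)
    have hvN : v ∈ normalizer ((Yb ⊓ N : Subgroup G) : Set G) := by
      rw [← hS₂eq]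
      have hv' : (c : G)⁻¹ * v * c ∈ normalizer (((S₁ : Subgroup N).map N.subtype : Subgroup G) : Set G) :=
        hS₁ (mem_sup_right (by simpa using (mem_normalizer_iff.1 (inv_mem hcn) v).1 (mem_zpowers v)))
      have hmap : (S₂ : Subgroup N).map N.subtype =
          MulAut.conj (c : G) • (S₁ : Subgroup N).map N.subtype := by
        rw [← hcS]
        change (MulAut.conj c • (S₁ : Subgroup N)).map N.subtype = _
        ext x
        rw [CoprimeSZ.mem_conj_smul]
        constructor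
        · rintro ⟨_, ⟨y, hy, rfl⟩, rfl⟩
          exact ⟨y, hy, by simp [mul_assoc]⟩
        · rintro ⟨y, hy, hyx⟩
          refine ⟨c * y * c⁻¹, ⟨y, hy, rfl⟩, ?_⟩
          rw [map_mul, map_mul, map_inv, hyx]; simp [mul_assoc]
      rw [hmap, mem_normalizer_iff]
      intro x
      rw [CoprimeSZ.mem_conj_smul, CoprimeSZ.mem_conj_smul,
        (mem_normalizer_iff.1 hv' ((c : G)⁻¹ * x * c))]
      constructor <;> intro h' <;> convert h' using 1 <;> group
    -- identify `⁅Y_b, T0⁆`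
    have heq : ⁅Yb, T0⁆ = ⁅Yb ⊓ N, T0⁆ := by
      refine le_antisymm ?_ (commutator_mono inf_le_left le_rfl)
      rw [← CoprimeAction.commutator_commutator_eq (hT0A.trans hAYb) (hTr Yb hYbp)
        (Or.inl inferInstance)]
      exact commutator_mono hcomm le_rfl
    rw [heq]
    have hvT : v ∈ normalizer (T0 : Set G) := centralizer_le_normalizer _ hvT0
    exact le_normalizer_commutator' (L := zpowers v) (V := Yb ⊓ N) (S := T0)
      (zpowers_le.2 hvN) (zpowers_le.2 hvT) (mem_zpowers v)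
  -- the pieces generate
  set Y₀ := ⁅Y, T0⁆ with hY₀
  set K := ⨆ b : {b : G // b ∈ B ∧ b ∉ T0}, ⁅Y ⊓ centralizer ({b.1} : Set G), T0⁆ with hK
  have hY₀Y : Y₀ ≤ Y := CoprimeAction.commutator_le_self_of_le_normalizer (hT0A.trans hAY)
  have hKY₀ : K ≤ Y₀ := iSup_le fun b => commutator_mono inf_le_left le_rfl
  have hgen : Y₀ ≤ K := by
    by_contra hne
    set P₀ := K.subgroupOf Y₀ with hP₀
    obtain ⟨M₀, hM₀, hKM₀⟩ := PGroupsBasic.exists_isCoatom_ge (G := Y₀) (H := P₀)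
      fun e => hne (subgroupOf_eq_top.1 e)
    haveI := PGroupsBasic.normal_of_isCoatom (hYp.to_le hY₀Y) hM₀
    set M₁ := M₀.map Y₀.subtype with hM₁
    have hM₁Y : M₁ ≤ Y₀ := map_subtype_le _
    have hnorm : ∀ x ∈ Y₀, ∀ m ∈ M₁, x * m * x⁻¹ ∈ M₁ := by
      rintro x hx _ ⟨m, hm, rfl⟩
      exact ⟨⟨x, hx⟩ * m * ⟨x, hx⟩⁻¹, Subgroup.Normal.conj_mem inferInstance m hm _, rfl⟩
    let H' : Subgroup G :=
      { carrier := {y | y ∈ Y₀ ∧ ∀ t ∈ T0, ⁅y, t⁆ ∈ M₁}
        one_mem' := ⟨one_mem _, fun t _ => by rw [commutatorElement_one_left]; exact one_mem _⟩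
        mul_mem' := fun {x y} hx hy => ⟨mul_mem hx.1 hy.1, fun t ht => by
          rw [commutator_mul_left]
          exact mul_mem (hnorm x hx.1 _ (hy.2 t ht)) (hx.2 t ht)⟩
        inv_mem' := fun {x} hx => ⟨inv_mem hx.1, fun t ht => by
          rw [commutator_inv_left]
          simpa using hnorm x⁻¹ (inv_mem hx.1) _ (inv_mem (hx.2 t ht))⟩ }
    have hBY₀ : B ≤ normalizer (Y₀ : Set G) :=
      le_normalizer_commutator' ((hBE.trans h.EA).trans hAY) (fun x hx =>
        centralizer_le_normalizer _ fun t ht =>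
          PGroupsBasic.comm_of_isMulCommutative h.Ac (hT0A ht) (h.EA (hBE hx)))
    have hBe := PGroupsBasic.isElementaryAbelian_mono h.Ee hBE
    haveI := hBe.1
    have hgen' : Y₀ ≤ H' := by
      refine CoprimeGen.le_of_centralizers (A := B) (not_isCyclic_of_sq_le hBe hBc.ge) hBY₀
        (coprime_of_qgroups (Ne.symm hrp) (PGroupsBasic.isPGroup_of_isElementaryAbelian hBe)
          (hYp.to_le hY₀Y)) ?_
      rintro b hb hb1 y ⟨hy, hyb⟩
      refine ⟨hy, fun t ht => ?_⟩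
      by_cases hbT : b ∈ T0
      · have heq : zpowers b = T0 := by
          refine eq_of_le_of_card_ge (zpowers_le.2 hbT) ?_
          rw [hT0, Nat.card_zpowers, Nat.card_zpowers,
            orderOf_eq_prime (h.Ee.2 b (hBE hb)) hb1]
          exact Nat.le_of_dvd hp.out.pos (orderOf_dvd_of_pow_eq_one (h.Ee.2 a₀ (hBE ha₀B)))
        obtain ⟨i, rfl⟩ := mem_zpowers_iff.1 (heq.ge ht)
        have hcy : Commute y (b ^ i) :=
          (show Commute y b from mem_centralizer_singleton_iff.1 hyb).zpow_right i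
        rw [commutatorElement_eq_one_iff_mul_comm.2 hcy.eq]
        exact one_mem _
      · have hc : ⁅y, t⁆ ∈ K := le_iSup (fun b : {b : G // b ∈ B ∧ b ∉ T0} =>
            ⁅Y ⊓ centralizer ({b.1} : Set G), T0⁆) ⟨b, hb, hbT⟩
            (commutator_mem_commutator ⟨hY₀Y hy, hyb⟩ ht)
        exact ⟨⟨_, hKY₀ hc⟩, hKM₀ hc, rfl⟩
    have hcomm2 : ⁅Y₀, T0⁆ = Y₀ := CoprimeAction.commutator_commutator_eq (hT0A.trans hAY)
      (hTr Y hYp) (Or.inl inferInstance)
    have hle : Y₀ ≤ M₁ := by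
      rw [← hcomm2, commutator_le]
      exact fun y hy t ht => (hgen' hy).2 t ht
    refine hM₀.1 (top_le_iff.1 fun y _ => ?_)
    obtain ⟨m, hm, hmy⟩ := hle y.2
    rwa [Y₀.subtype_injective hmy] at hm
  rw [le_antisymm hgen hKY₀]
  have hconjK : ∀ w ∈ zpowers v, ∀ x ∈ K, w * x * w⁻¹ ∈ K := by
    intro w hw x hx
    have hle : K ≤ K.comap (MulAut.conj w).toMonoidHom := by
      refine iSup_le fun b x hx => ?_
      exact le_iSup (fun b : {b : G // b ∈ B ∧ b ∉ T0} =>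
        ⁅Y ⊓ centralizer ({b.1} : Set G), T0⁆) b
        ((mem_normalizer_iff.1 (zpowers_le.2 (hpiece b.1 b.2.1 b.2.2) hw) x).1 hx)
    exact hle hx
  rw [mem_normalizer_iff]
  refine fun x => ⟨hconjK v (mem_zpowers v) x, fun hx => ?_⟩
  simpa [mul_assoc] using hconjK v⁻¹ (inv_mem (mem_zpowers v)) _ hx

/-- The core of 9.6. -/
theorem unique_of_ctx (h : Ctx p q M R A E)
    (hqinv : BGTransitivity.centCore A ≤ M → ∀ Y : Subgroup G, IsPGroup q Y →
      A ≤ normalizer (Y : Set G) → Y ≤ M) :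
    Cfsg.InUniqueMaximal A := by
  have hG := h.simple
  have hp2 : p ≠ 2 := prime_ne_two hG ((dvd_card_of_ne_bot h.Ap h.tr.1).trans (card_subgroup_dvd_card A))
  set W := BGRankTwo.wSub q h.q_odd R with hW
  have hWR : W ≤ R := BGRankTwo.wSub_le R
  have hWp : IsPGroup q W := h.Rp.to_le hWR
  have hEM : E ≤ M := h.EA.trans h.AM
  have hEW : E ≤ normalizer (W : Set G) :=
    fun x hx => BGRankTwo.normalizer_le_wSub R (h.Mnorm (hEM hx))
  have hEp := PGroupsBasic.isPGroup_of_isElementaryAbelian h.Ee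
  -- a plane with all centralizers in `M` finishes the proof
  by_contra hAU
  have hnogood : ∀ B : Subgroup G, B ≤ E → Nat.card B = p ^ 2 →
      ∃ b ∈ B, b ≠ 1 ∧ ¬ centralizer ({b} : Set G) ≤ M := by
    intro B hBE hBc
    by_contra hall
    push Not at hall
    have hBe := PGroupsBasic.isElementaryAbelian_mono h.Ee hBE
    exact hAU (unique_mono (unique_of_centralizers hG h.coatom (hBE.trans hEM) hBe.1
      (PGroupsBasic.isPGroup_of_isElementaryAbelian hBe) (not_isCyclic_of_sq_le hBe hBc.ge) hall)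
      (hBE.trans h.EA) (BGTransitivity.qgroup_ne_top hG h.Ap))
  have hfixB : ∀ B : Subgroup G, B ≤ E → Nat.card B = p ^ 2 → ∀ v ∈ W, v ≠ 1 →
      (∀ b ∈ B, Commute b v) → ∀ w ∈ W, (∀ b ∈ B, Commute b w) → w ∈ zpowers v := by
    intro B hBE hBc v hv hv1 hBv w hw hBw
    obtain ⟨b, hb, hb1, hbad⟩ := hnogood B hBE hBc
    exact fixed_le_of_bad h hv hv1 hb1 hbad (hBv b hb) w hw (hBw b hb)
  have hplane : ∀ D : Subgroup G, E ≤ normalizer (D : Set G) → ¬ W ≤ D →
      ∃ B : Subgroup G, B ≤ E ∧ Nat.card B = p ^ 2 ∧ ∃ v ∈ W, v ∉ D ∧ ∀ b ∈ B, Commute b v := by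
    intro D hD hWD
    obtain ⟨B', hB'E, hB'c, v, hv, hvD, hvC⟩ :=
      S1480.exists_fixed_outside h.qne E W D h.Ee hWp hEW hD hWD
    rw [h.Ecard] at hB'c
    obtain ⟨B, hBB', hBc⟩ := exists_sub_card (PGroupsBasic.isElementaryAbelian_mono h.Ee hB'E) (k := 2)
      (by
        have : p ^ 2 * p ≤ Nat.card B' * p := by rw [mul_comm (Nat.card B'), ← pow_succ]; exact hB'c
        exact Nat.le_of_mul_le_mul_right this hp.out.pos)
    exact ⟨B, hBB'.trans hB'E, hBc, v, hv, hvD, fun b hb => hvC b (hBB' hb)⟩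
  obtain ⟨U₀, hU₀W, -, -, hU₀c, -⟩ := BGSCNUnique.wSub_facts hG h.q_odd h.Rp h.Rrank
  have hWbig : ∀ v : G, v ^ q = 1 → ¬ W ≤ zpowers v := by
    intro v hv hle
    have h1 := card_le_of_le (hU₀W.trans hle)
    rw [hU₀c, Nat.card_zpowers] at h1
    have h2 := Nat.le_of_dvd hq.out.pos (orderOf_dvd_of_pow_eq_one hv)
    have := hq.out.one_lt
    nlinarith
  obtain ⟨B₁, hB₁E, hB₁c, v₁, hv₁, hv₁1, hB₁v⟩ := hplane ⊥
    (by rw [normalizer_eq_top_iff.mpr inferInstance]; exact le_top)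
    (fun hle => hWbig 1 (one_pow q) (by rwa [zpowers_one_eq_bot]))
  have hv₁1' : v₁ ≠ 1 := fun e => hv₁1 (e ▸ one_mem _)
  have hfix₁ := hfixB B₁ hB₁E hB₁c v₁ hv₁ hv₁1' hB₁v
  have hEv₁ : E ≤ normalizer (zpowers v₁ : Set G) := fun x hx =>
    mem_normalizer_of_commute h hv₁ hB₁v hfix₁ (hEM hx) fun b hb =>
      PGroupsBasic.comm_of_isMulCommutative h.Ee.1 (hB₁E hb) hx
  obtain ⟨B₂, hB₂E, hB₂c, v₂, hv₂, hv₂D, hB₂v⟩ := hplane (zpowers v₁) hEv₁
    (hWbig v₁ (BGRankTwo.pow_eq_one_of_mem_wSub hv₁))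
  have hv₂1 : v₂ ≠ 1 := fun e => hv₂D (e ▸ one_mem _)
  have hfix₂ := hfixB B₂ hB₂E hB₂c v₂ hv₂ hv₂1 hB₂v
  have hzeq : v₁ ∈ zpowers v₂ → False := fun hmem => hv₂D (by
    have heq : zpowers v₁ = zpowers v₂ := eq_of_le_of_card_ge (zpowers_le.2 hmem) (by
      rw [Nat.card_zpowers, Nat.card_zpowers,
        orderOf_eq_prime (BGRankTwo.pow_eq_one_of_mem_wSub hv₂) hv₂1,
        orderOf_eq_prime (BGRankTwo.pow_eq_one_of_mem_wSub hv₁) hv₁1'])
    exact heq.ge (mem_zpowers v₂))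
  have hne : B₁ ≠ B₂ := fun e => hv₂D (hfix₁ v₂ hv₂ fun b hb => hB₂v b (e ▸ hb))
  have hfull : ∀ {B : Subgroup G}, B ≤ E → Nat.card B = p ^ 2 → ∀ g ∈ E, g ∉ B →
      B ⊔ zpowers g = E := by
    intro B hBE hBc g hg hgB
    refine eq_of_le_of_card_ge (sup_le hBE (zpowers_le.2 hg)) ?_
    obtain ⟨j, hj⟩ := IsPGroup.iff_card.1 (hEp.to_le (sup_le hBE (zpowers_le.2 hg)))
    have hlt : Nat.card B < Nat.card ↥(B ⊔ zpowers g) :=
      lt_of_le_of_ne (card_le_of_le le_sup_left) fun e =>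
        hgB ((eq_of_le_of_card_ge le_sup_left e.ge).ge (mem_sup_right (mem_zpowers g)))
    rw [hBc, hj, Nat.pow_lt_pow_iff_right hp.out.one_lt] at hlt
    rw [h.Ecard, hj]
    exact Nat.pow_le_pow_right hp.out.pos hlt
  have hCE₁ : ∀ g ∈ E, g ∉ B₁ → ¬ Commute g v₁ := by
    intro g hg hgB hgc
    have hle : E ≤ centralizer ({v₁} : Set G) := by
      rw [← hfull hB₁E hB₁c g hg hgB]
      exact sup_le (fun b hb => mem_centralizer_singleton_iff.2 (hB₁v b hb).eq)
        (zpowers_le.2 (mem_centralizer_singleton_iff.2 hgc.eq))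
    exact hzeq (hfix₂ v₁ hv₁ fun b hb => mem_centralizer_singleton_iff.1 (hle (hB₂E hb)))
  have hCE₂ : ∀ g ∈ E, g ∉ B₂ → ¬ Commute g v₂ := by
    intro g hg hgB hgc
    have hle : E ≤ centralizer ({v₂} : Set G) := by
      rw [← hfull hB₂E hB₂c g hg hgB]
      exact sup_le (fun b hb => mem_centralizer_singleton_iff.2 (hB₂v b hb).eq)
        (zpowers_le.2 (mem_centralizer_singleton_iff.2 hgc.eq))
    exact hv₂D (hfix₁ v₂ hv₂ fun b hb => mem_centralizer_singleton_iff.1 (hle (hB₁E hb)))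
  -- a common element
  have hinf : B₁ ⊓ B₂ ≠ ⊥ := by
    intro hbot
    -- `B₁ × B₂` would embed in `E`
    let φ : B₁ × B₂ → E := fun x => ⟨(x.1 : G) * x.2, mul_mem (hB₁E x.1.2) (hB₂E x.2.2)⟩
    have hφ : Function.Injective φ := by
      rintro ⟨a, b⟩ ⟨c, d⟩ he
      have he' : (a : G) * b = c * d := congrArg Subtype.val he
      have h1 : (c : G)⁻¹ * a = d * (b : G)⁻¹ := by
        rw [inv_mul_eq_iff_eq_mul, ← mul_assoc, ← he', mul_inv_cancel_right]
      have h2 : (c : G)⁻¹ * a ∈ B₁ ⊓ B₂ :=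
        mem_inf.2 ⟨mul_mem (inv_mem c.2) a.2, h1 ▸ mul_mem d.2 (inv_mem b.2)⟩
      rw [hbot, mem_bot, inv_mul_eq_one] at h2
      have hca : c = a := Subtype.ext h2
      subst hca
      exact Prod.ext rfl (Subtype.ext (mul_left_cancel he'))
    have h3 := Nat.card_le_card_of_injective φ hφ
    rw [Nat.card_prod, hB₁c, hB₂c, h.Ecard, ← pow_add] at h3
    exact absurd ((Nat.pow_le_pow_iff_right hp.out.one_lt).1 h3) (by omega)
  obtain ⟨a₀, ha₀, ha₀1⟩ := (B₁ ⊓ B₂).bot_or_exists_ne_one.resolve_left hinf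
  have ha₀M : centralizer ({a₀} : Set G) ≤ M := by
    refine BGSCNUnique.centralizer_le_of_noncyclic hG h.q_odd h.Rp h.Rrank h.qU h.coatom h.Rle h.Mnorm ha₀1
      fun hcyc => ?_
    have hcard := PGroupsBasic.card_le_prime_of_isCyclic hcyc
      (fun a ha => BGRankTwo.pow_eq_one_of_mem_wSub (ha.1 : a ∈ BGRankTwo.wSub q h.q_odd R))
    have hle : zpowers v₁ ≤ W ⊓ centralizer ({a₀} : Set G) :=
      zpowers_le.2 ⟨hv₁, mem_centralizer_singleton_iff.2 (hB₁v a₀ ha₀.1).eq.symm⟩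
    have heq := eq_of_le_of_card_ge hle (by
      rw [Nat.card_zpowers, orderOf_eq_prime (BGRankTwo.pow_eq_one_of_mem_wSub hv₁) hv₁1']
      exact hcard)
    exact hv₂D (heq.ge ⟨hv₂, mem_centralizer_singleton_iff.2 (hB₂v a₀ ha₀.2).eq.symm⟩)
  have hDM : BGTransitivity.centCore A ≤ M := fun d hd => ha₀M (mem_centralizer_singleton_iff.2
    ((BGTransitivity.piCoreOf_le _ _ hd) a₀ (h.EA (hB₁E ha₀.1))).symm)
  -- reduce to invariant subgroups
  refine hAU (unique_of_invariant hG hp2 h.coatom h.AM h.Ap h.tr.1 fun Y hY hAY => ?_)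
  haveI : Group.IsSolvable A := CoprimeAction.isSolvable_of_isPGroup h.Ap
  have hgood : ∀ {B : Subgroup G} {v g : G}, B ≤ E → Nat.card B = p ^ 2 → v ∈ W → v ≠ 1 →
      (∀ b ∈ B, Commute b v) → g ∈ E → ¬ Commute g v → centralizer ({g} : Set G) ≤ M → Y ≤ M := by
    intro B v g hBE hBc hv hv1 hBv hg hgv hgM
    have hBe := PGroupsBasic.isElementaryAbelian_mono h.Ee hBE
    haveI := hBe.1
    refine CoprimeGen.le_of_centralizers (A := B) (not_isCyclic_of_sq_le hBe hBc.ge)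
      ((hBE.trans h.EA).trans hAY) (by rw [hBc]; exact hY.symm.pow_left 2) fun b hb hb1 => ?_
    by_cases hbad : centralizer ({b} : Set G) ≤ M
    · exact inf_le_right.trans hbad
    · refine le_trans (le_coreOf_of_tr h (BGTransitivity.centralizer_ne_top hG hb1)
        (A_le_centralizer h (hBE hb)) inf_le_right ?_
        (hY.coprime_dvd_left (card_dvd_of_le inf_le_left)))
        (good_case h hBE hv hv1 hBv (hfixB B hBE hBc v hv hv1 hBv) hDM hb hb1 hbad hg hgv hgM)
      exact fun a ha => CoprimeAction.le_normalizer_inf (A := A) hAY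
        ((A_le_centralizer h (hBE hb)).trans le_normalizer) ha
  by_cases hA₁ : ∃ g ∈ E, g ∉ B₁ ∧ centralizer ({g} : Set G) ≤ M
  · obtain ⟨g, hg, hgB, hgM⟩ := hA₁
    exact hgood hB₁E hB₁c hv₁ hv₁1' hB₁v hg (hCE₁ g hg hgB) hgM
  by_cases hA₂ : ∃ g ∈ E, g ∉ B₂ ∧ centralizer ({g} : Set G) ≤ M
  · obtain ⟨g, hg, hgB, hgM⟩ := hA₂
    exact hgood hB₂E hB₂c hv₂ hv₂1 hB₂v hg (hCE₂ g hg hgB) hgM
  push Not at hA₁ hA₂
  -- `B₁ ∩ B₂ = ⟨a₀⟩`
  have hline : ∀ b ∈ B₁, b ∈ B₂ → b ∈ zpowers a₀ := by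
    intro b hb₁ hb₂
    by_contra hb
    obtain ⟨he, hc⟩ := BGSCNUnique.plane_facts hG (h.Ee.2 a₀ (hB₁E ha₀.1)) (h.Ee.2 b (hB₁E hb₁))
      (PGroupsBasic.comm_of_isMulCommutative h.Ee.1 (hB₁E ha₀.1) (hB₁E hb₁)) ha₀1 hb
    have hle₁ : closure ({a₀, b} : Set G) ≤ B₁ := by
      rw [closure_le]; rintro x (rfl | rfl); exacts [ha₀.1, hb₁]
    have hle₂ : closure ({a₀, b} : Set G) ≤ B₂ := by
      rw [closure_le]; rintro x (rfl | rfl); exacts [ha₀.2, hb₂]
    exact hne ((eq_of_le_of_card_ge hle₁ (hB₁c.le.trans hc)).symm.trans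
      (eq_of_le_of_card_ge hle₂ (hB₂c.le.trans hc)))
  refine le_of_invariant_qgroups h.Ap hY hAY fun r hr hrp Q hQ hAQ _ => ?_
  haveI := Fact.mk hr
  by_cases hrq : r = q
  · subst hrq
    exact hqinv hDM Q hQ hAQ
  have hrA : ¬ r ∣ Nat.card A := by
    obtain ⟨n, hn⟩ := IsPGroup.iff_card.1 h.Ap
    rw [hn]
    exact fun hd => hrp ((Nat.prime_dvd_prime_iff_eq hr hp.out).1 (hr.dvd_of_dvd_pow hd))
  have hZ : ¬ Cfsg.RankLE 2 ↥(A ⊓ centralizer (A : Set G)) := by
    rw [inf_eq_left.2 (PGroupsBasic.le_centralizer_of_isMulCommutative h.Ac)]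
    intro hle
    have h1 := hle p hp.out (E.subgroupOf A) ⟨⟨fun u v => Subtype.ext (Subtype.ext
      (PGroupsBasic.comm_of_isMulCommutative h.Ee.1 u.2 v.2))⟩⟩
      fun u hu => Subtype.ext (by rw [SubgroupClass.coe_pow]; exact h.Ee.2 _ hu)
    rw [Nat.card_congr (subgroupOfEquivOfLe h.EA).toEquiv, h.Ecard] at h1
    exact absurd ((Nat.pow_le_pow_iff_right hp.out.one_lt).1 h1) (by omega)
  obtain ⟨Y₁, hY₁, hQY₁⟩ := BGTransitivity.exists_maxInv_ge (A := A) hQ hAQ
  refine hQY₁.trans ?_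
  have hconj : ∀ Q ∈ BGTransitivity.maxInv A r, ∃ k ∈ BGTransitivity.centCore A,
      Q = MulAut.conj k • Y₁ :=
    fun Q hQ => BGTransitivity.conj_of_rank_three hG h.tr hrA hZ hY₁ hQ
  have hn₁ := bad_case h hB₁E hB₁c hv₁ hv₁1' hB₁v hfix₁ hDM ha₀.1
    (fun b hb hbT => hA₂ b (hB₁E hb) fun hb₂ => hbT (hline b hb hb₂)) hrp hrq hY₁ hconj
  have hn₂ := bad_case h hB₂E hB₂c hv₂ hv₂1 hB₂v hfix₂ hDM ha₀.2
    (fun b hb hbT => hA₁ b (hB₂E hb) fun hb₁ => hbT (hline b hb₁ hb)) hrp hrq hY₁ hconj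
  have hY₁p := BGTransitivity.isPGroup_of_mem hY₁
  have hT0Y : zpowers a₀ ≤ normalizer (Y₁ : Set G) :=
    (zpowers_le.2 (h.EA (hB₁E ha₀.1))).trans (BGTransitivity.normalizes_of_mem hY₁)
  by_cases hbot : ⁅Y₁, zpowers a₀⁆ = ⊥
  · refine le_trans (fun y hy => ?_) ha₀M
    have h1 : ⁅y, a₀⁆ ∈ ⁅Y₁, zpowers a₀⁆ := commutator_mem_commutator hy (mem_zpowers a₀)
    rw [hbot, mem_bot] at h1
    exact mem_centralizer_singleton_iff.2 (commutatorElement_eq_one_iff_mul_comm.1 h1)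
  set N := normalizer ((⁅Y₁, zpowers a₀⁆ : Subgroup G) : Set G) with hN
  have hNne : N ≠ ⊤ := BGTransitivity.normalizer_ne_top hG hbot (BGTransitivity.qgroup_ne_top hG
    (hY₁p.to_le (CoprimeAction.commutator_le_self_of_le_normalizer hT0Y)))
  have hnc : ¬ IsCyclic ↥(W ⊓ N) := by
    intro hcyc
    have hcard := PGroupsBasic.card_le_prime_of_isCyclic hcyc
      (fun a ha => BGRankTwo.pow_eq_one_of_mem_wSub (ha.1 : a ∈ BGRankTwo.wSub q h.q_odd R))
    have heq := eq_of_le_of_card_ge (zpowers_le.2 ⟨hv₁, hn₁⟩ : zpowers v₁ ≤ W ⊓ N) (by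
      rw [Nat.card_zpowers, orderOf_eq_prime (BGRankTwo.pow_eq_one_of_mem_wSub hv₁) hv₁1']
      exact hcard)
    exact hv₂D (heq.ge ⟨hv₂, hn₂⟩)
  obtain ⟨T, hTW, hT, hTc⟩ := exists_elementary_sq_of_noncyclic hG (p := q)
    (hWp.to_le inf_le_left) hnc
  have hNM : N ≤ M := le_of_unique
    (BGSCNUnique.unique_in_wSub hG h.q_odd h.Rp h.Rrank h.qU (hTW.trans inf_le_left) hT hTc.ge)
    h.coatom ((hTW.trans inf_le_left).trans (hWR.trans h.Rle)) (hTW.trans inf_le_right) hNne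
  exact le_trans (Subgroup.normalizer_commutator_ge_left Y₁ (zpowers a₀)) hNM

/-- Theorem 9.6: `SCN₃(P)` consists of uniqueness subgroups. -/
theorem unique_of_SCN (hG : Cfsg.IsMinSimpleOddOrder G) (P : Sylow p G) {A : Subgroup G}
    (hA : Cfsg.IsSCN (P : Subgroup G) A) (hA3 : ¬ Cfsg.PRankLE p 2 A) :
    Cfsg.InUniqueMaximal A := by
  have hAp : IsPGroup p A := P.isPGroup'.to_le hA.1
  have hAc := isMulCommutative_of_SCN hA
  have hA0 : A ≠ ⊥ := fun e => hA3 (e ▸ fun F _ _ => by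
    rw [Subsingleton.elim F ⊥, Subgroup.card_bot]; exact Nat.one_le_pow _ _ hp.out.pos)
  have hpA := dvd_card_of_ne_bot hAp hA0
  have hp2 := prime_ne_two hG (hpA.trans (card_subgroup_dvd_card A))
  have hP0 : (P : Subgroup G) ≠ ⊥ := fun e => hA0 (le_bot_iff.1 (e ▸ hA.1))
  obtain ⟨M, hM, hNM⟩ := exists_coatom_ge (normalizer_thomY_ne_top hG P.isPGroup' hP0)
  have hPM : (P : Subgroup G) ≤ M :=
    (le_normalizer.trans (GlaubermanZJ.normalizer_le_thomY _)).trans hNM
  haveI := isSolvable_of_ne_top hG hM.1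
  by_cases hall : ∀ s : ℕ, s.Prime → Cfsg.PRankLE s 2 ↥(Oc s M)
  · exfalso
    have hF : commutator M ≤ Cfsg.fittingSubgroup M :=
      BGRankTwo.commutator_le_fitting (odd_card_subgroup hG M) fun s hs =>
        BGRankTwo.pRankLE_of_injective
          ((Cfsg.pCore s M).equivMapOfInjective M.subtype M.subtype_injective).toMonoidHom
          (MulEquiv.injective _) (hall s hs)
    have hPF : (P : Subgroup G) ≤ Cfsg.fittingOf M := by
      refine (BGSCNUnique.le_commutator_of_normalizer_W hG hp2 P hPM hNM).trans ?_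
      rw [← map_subtype_commutator]
      exact map_mono hF
    exact hA3 (BGRankTwo.pRankLE_mono (hA.1.trans (qgroup_le_Oc hPF P.isPGroup')) (hall p hp.out))
  push Not at hall
  obtain ⟨q, hq', hrank⟩ := hall
  haveI := Fact.mk hq'
  have hqF : ¬ Cfsg.PRankLE q 2 ↥(Cfsg.fittingOf M) := fun hle =>
    hrank (BGRankTwo.pRankLE_mono (Oc_le_fittingOf hq' M) hle)
  have hqU : ∀ F : Subgroup G, IsMulCommutative F → IsPGroup q F → ¬ Cfsg.PRankLE q 2 F →
      Cfsg.InUniqueMaximal F := fun F hFc hFp hF3 =>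
    unique_of_fitting_rank_three hG hM hqF hFp hFc hF3
  by_cases hqp : q = p
  · subst hqp
    exact hqU A hAc hAp hA3
  obtain ⟨E₀, hE₀A, hE₀, hE₀3⟩ := pow_le_of_not_pRankLE hA3
  obtain ⟨E, hEE₀, hEc⟩ := exists_sub_card hE₀ hE₀3
  have htr := S1396.result hG p (hpA.trans (card_subgroup_dvd_card A)) A hAp hAc
    (Or.inr ⟨P, hA, fun hle => hA3 fun F hF hFp => (hle F hF hFp).trans
      (Nat.pow_le_pow_right hp.out.pos (by omega))⟩)
  have hq2 : q ≠ 2 := by
    obtain ⟨F, hFR, hF, hF3⟩ := pow_le_of_not_pRankLE hrank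
    refine prime_ne_two hG ((dvd_card_of_ne_bot (PGroupsBasic.isPGroup_of_isElementaryAbelian hF)
      fun e => ?_).trans (card_subgroup_dvd_card F))
    rw [e, card_bot] at hF3
    have := Nat.one_lt_pow (by omega : (2 : ℕ) + 1 ≠ 0) hq'.one_lt
    omega
  have hctx : Ctx p q M (Oc q M) A E :=
    { simple := hG, qne := hqp, q_odd := hq2, coatom := hM, Rp := isPGroup_Oc q M,
      Rle := Oc_le q M, Mnorm := le_normalizer_Oc q M, Rrank := hrank, qU := hqU, Ap := hAp,
      Ac := hAc, AM := hA.1.trans hPM, tr := htr, EA := hEE₀.trans hE₀A,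
      Ee := PGroupsBasic.isElementaryAbelian_mono hE₀ hEE₀, Ecard := hEc }
  refine unique_of_ctx hctx fun hDM Y hY hAY => ?_
  have hqA : ¬ q ∣ Nat.card A := by
    obtain ⟨n, hn⟩ := IsPGroup.iff_card.1 hAp
    rw [hn]
    exact fun hd => hqp ((Nat.prime_dvd_prime_iff_eq hq' hp.out).1 (hq'.dvd_of_dvd_pow hd))
  have hZ : ¬ Cfsg.RankLE 2 ↥(A ⊓ centralizer (A : Set G)) := by
    rw [inf_eq_left.2 (PGroupsBasic.le_centralizer_of_isMulCommutative hAc)]
    exact fun hle => hA3 (hle p hp.out)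
  haveI : (A.subgroupOf (P : Subgroup G)).Normal := normal_subgroupOf_of_le_normalizer hA.2.1
  obtain ⟨-, hsub, -⟩ := BGTransitivity.theorem_7_5 hG htr hqA (P := (P : Subgroup G))
    (BGTransitivity.qgroup_ne_top hG P.isPGroup')
    (fun r hr' hd => by
      obtain ⟨n, hn⟩ := IsPGroup.iff_card.1 P.isPGroup'
      rw [hn] at hd
      rw [(Nat.prime_dvd_prime_iff_eq hr' hp.out).1 (hr'.dvd_of_dvd_pow hd)]
      exact hpA) hA.1 (Subgroup.Normal.isSubnormal inferInstance)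
    (fun Q₁ h₁ Q₂ h₂ => BGTransitivity.conj_of_rank_three hG htr hqA hZ h₁ h₂)
  obtain ⟨Q₀, hQ₀, hRQ₀⟩ := BGTransitivity.exists_maxInv_ge (A := (P : Subgroup G)) (q := q)
    (isPGroup_Oc q M) (hPM.trans (le_normalizer_Oc q M))
  obtain ⟨F, hFR, hF, hF3⟩ := pow_le_of_not_pRankLE hrank
  have hFU := hqU F hF.1 (PGroupsBasic.isPGroup_of_isElementaryAbelian hF) fun hle => by
    have h1 := hle (⊤ : Subgroup F) ⟨⟨fun u v => Subtype.ext (Subtype.ext
      (PGroupsBasic.comm_of_isMulCommutative hF.1 u.1.2 v.1.2))⟩⟩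
      fun u _ => Subtype.ext (by rw [SubgroupClass.coe_pow]; exact hF.2 _ u.2)
    rw [card_top] at h1
    exact absurd ((Nat.pow_le_pow_iff_right hq'.one_lt).1 (hF3.trans h1)) (by omega)
  have hQ₀M : Q₀ ≤ M := le_of_unique hFU hM (hFR.trans (Oc_le q M)) (hFR.trans hRQ₀)
    (BGTransitivity.qgroup_ne_top hG (BGTransitivity.isPGroup_of_mem hQ₀))
  obtain ⟨Q₁, hQ₁, hYQ₁⟩ := BGTransitivity.exists_maxInv_ge (A := A) hY hAY
  obtain ⟨k, hk, rfl⟩ := BGTransitivity.conj_of_rank_three hG htr hqA hZ (hsub hQ₀) hQ₁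
  intro y hy
  have h1 := hQ₀M (CoprimeSZ.mem_conj_smul.1 (hYQ₁ hy))
  have h2 := mul_mem (mul_mem (hDM hk) h1) (inv_mem (hDM hk))
  simpa [mul_assoc] using h2

/-- Every abelian `p`-subgroup of rank three is a uniqueness subgroup. -/
theorem unique_of_abelian (hG : Cfsg.IsMinSimpleOddOrder G) {B : Subgroup G}
    (hBc : IsMulCommutative B) (hBp : IsPGroup p B) (hB3 : ¬ Cfsg.PRankLE p 2 B) :
    Cfsg.InUniqueMaximal B := by
  have hB0 : B ≠ ⊥ := fun e => hB3 (e ▸ fun F _ _ => by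
    rw [Subsingleton.elim F ⊥, Subgroup.card_bot]; exact Nat.one_le_pow _ _ hp.out.pos)
  have hp2 := prime_ne_two hG ((dvd_card_of_ne_bot hBp hB0).trans (card_subgroup_dvd_card B))
  obtain ⟨P, hBP⟩ := hBp.exists_le_sylow
  obtain ⟨A, hA, hA3⟩ := exists_SCN_three hp2 P.isPGroup' fun hle =>
    hB3 (BGRankTwo.pRankLE_mono hBP hle)
  exact unique_of_abelian_rank_three hG (isMulCommutative_of_SCN hA) (P.isPGroup'.to_le hA.1) hA3
    (unique_of_SCN hG P hA hA3) hBc hBp hB3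

end Cfsg.Agent.BGSCNUniqueMain
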