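import Cfsg.Agent.Lib.BGExcNormal
import Cfsg.Agent.S1403
import Cfsg.Agent.S1406

/-!
Bender-Glauberman 12.4: an elementary abelian `A ≤ M` of order `p ^ 2` none of whose subgroups of
order `p` has `M` as only maximal subgroup over its normaliser.
-/

set_option autoImplicit false
set_option linter.style.haveILetI false

namespace Cfsg.Agent.BGExc

open Subgroup
open Cfsg.Agent.BGUnique
open Cfsg.Agent.BGSigma
open scoped commutatorElement Pointwise

universe u

variable {G : Type u} [Group G] [Finite G]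

theorem exists_sub_card_prime {p : ℕ} [hp : Fact p.Prime] {A : Subgroup G} {b : G}
    (hA : Cfsg.IsElementaryAbelian p A) (hb : b ∈ A) (hb1 : b ≠ 1) :
    zpowers b ≤ A ∧ Nat.card (zpowers b) = p := by
  refine ⟨zpowers_le.2 hb, ?_⟩
  rw [Nat.card_zpowers, PGroupsBasic.orderOf_eq_of_pow_eq_one (hA.2 b hb) hb1]

theorem centralizer_zpowers (b : G) :
    centralizer ((zpowers b : Subgroup G) : Set G) = centralizer ({b} : Set G) := by
  rw [zpowers_eq_closure, centralizer_closure]

/-- The hypothesis of BG 12.4 (b). -/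
structure NoUnique (p : ℕ) (M A : Subgroup G) : Prop where
  coatom : IsCoatom M
  le : A ≤ M
  elem : Cfsg.IsElementaryAbelian p A
  card : Nat.card A = p ^ 2
  other : ∀ X : Subgroup G, X ≤ A → Nat.card X = p →
    ∃ L : Subgroup G, IsCoatom L ∧ L ≠ M ∧ normalizer (X : Set G) ≤ L

namespace NoUnique

variable (hG : Cfsg.IsMinSimpleOddOrder G) {p : ℕ} [hp : Fact p.Prime] {M A : Subgroup G}
  (h : NoUnique p M A)
include hG h

omit hG in
theorem no_unique {X Y : Subgroup G} (hXA : X ≤ A) (hXc : Nat.card X = p)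
    (hY : Cfsg.InUniqueMaximal Y) (hYM : Y ≤ M) (hYN : Y ≤ normalizer (X : Set G)) : False := by
  obtain ⟨L, hL, hne, hle⟩ := h.other X hXA hXc
  exact hne (eq_of_unique hY hL (hYN.trans hle) h.coatom hYM)

theorem rankLE : Cfsg.RankLE 2 ↥(centralizer (A : Set G)) := by
  by_contra hr
  have h1 : ¬ Cfsg.RankLE 1 A := fun hr1 => by
    have h2 := card_le_of_pRankLE (hr1 p hp.out) le_rfl h.elem
    rw [h.card, Nat.pow_le_pow_iff_right hp.out.one_lt] at h2
    omega
  have hU := Cfsg.Agent.S1403.result hG A (fun ht => h.coatom.1 (top_le_iff.1 (ht ▸ h.le))) h1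
    (Or.inr hr)
  obtain ⟨b, hb, hb1⟩ := A.bot_or_exists_ne_one.resolve_left (ne_bot_of_sq h.card)
  obtain ⟨hbA, hbc⟩ := exists_sub_card_prime h.elem hb hb1
  exact no_unique h hbA hbc hU h.le
    ((PGroupsBasic.le_centralizer_of_isMulCommutative h.elem.1).trans
      ((Subgroup.centralizer_le (SetLike.coe_subset_coe.2 hbA)).trans (centralizer_le_normalizer _)))

theorem rank : Cfsg.PRankLE p 2 ↥(centralizer (A : Set G)) := rankLE hG h p hp.out

theorem not_alpha : p ∉ Cfsg.alpha M := by
  intro hα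
  have hM := h.coatom
  obtain ⟨P, hP, hAP⟩ := exists_isMaxP_ge (PGroupsBasic.isPGroup_of_isElementaryAbelian h.elem) h.le
  obtain ⟨z, hz, hzo, hzc⟩ := exists_central_prime hP.isPGroup
    (ne_bot_of_le_ne_bot (ne_bot_of_sq h.card) hAP)
  have hzA : z ∈ A := mem_of_centralizer h.elem h.card (rank hG h)
    (mem_centralizer_iff.2 fun a ha => ((hzc a (hAP ha)).eq).symm) (hzo ▸ pow_orderOf_eq_one z)
  have hz1 : z ≠ 1 := fun h0 => hp.out.one_lt.ne' (by rw [← hzo, h0, orderOf_one])
  obtain ⟨hZA, hZc⟩ := exists_sub_card_prime h.elem hzA hz1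
  refine no_unique h hZA hZc (unique_of_rank hG (fun ht => hM.1 (top_le_iff.1 (ht ▸ hP.le)))
    (pRankLE_of_isMaxP hP hα.2)) hP.le ?_
  intro y hy
  refine centralizer_le_normalizer _ ?_
  rw [centralizer_zpowers, mem_centralizer_singleton_iff]
  exact ((hzc y hy).eq).symm

/-- Commutator of `A` with an invariant subgroup of `M` fixed by some `b ∈ A^#`. -/
theorem commutator_fixed_eq_bot {q : ℕ} (hq : q.Prime) (hqp : q ≠ p) (hqM : q ∈ Cfsg.sigma M)
    (hconj : ∀ L : Subgroup G, IsCoatom L → p ∈ Cfsg.sigma L → q ∈ Cfsg.sigma L →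
      ∃ g : G, L = MulAut.conj g • M)
    {Z : Subgroup G} (hZ : IsPGroup q Z) (hZM : Z ≤ M) (hAZ : A ≤ normalizer (Z : Set G)) {b : G}
    (hb : b ∈ A) (hb1 : b ≠ 1) (hZb : Z ≤ centralizer ({b} : Set G)) : ⁅Z, A⁆ = ⊥ := by
  haveI := Fact.mk hq
  obtain ⟨hbA, hbc⟩ := exists_sub_card_prime h.elem hb hb1
  obtain ⟨L, hL, hne, hNL⟩ := h.other _ hbA hbc
  have hCL : centralizer ({b} : Set G) ≤ L := by
    rw [← centralizer_zpowers]; exact (centralizer_le_normalizer _).trans hNL
  have hCA : centralizer (A : Set G) ≤ L := le_trans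
    (Subgroup.centralizer_le (Set.singleton_subset_iff.2 hb)) hCL
  have hAL : A ≤ L := (PGroupsBasic.le_centralizer_of_isMulCommutative h.elem.1).trans hCA
  have hZL : Z ≤ L := hZb.trans hCL
  have hle : ⁅Z, A⁆ ≤ Z := le_normalizer_iff_commutator_le_left.1 hAZ
  have hAp := PGroupsBasic.isPGroup_of_isElementaryAbelian h.elem
  by_cases hpL : p ∈ Cfsg.sigma L
  · have hσ : ⁅Z, A⁆ ≤ Cfsg.sigmaCore L := by
      refine (commutator_mono hZL (pgroup_le_sigmaCore hG hL hpL hAp hAL)).trans ?_
      rw [← le_normalizer_iff_commutator_le_right]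
      exact le_normalizer_sigmaCore L
    by_contra hne0
    have hqL : q ∈ Cfsg.sigma L := sigma_of_dvd hG hL hq
      ((dvd_card_of_ne_bot (hZ.to_le hle) hne0).trans (card_dvd_of_le hσ))
    obtain ⟨g, hg⟩ := hconj L hL hpL hqL
    subst hg
    exact hne (eq_of_fusion hG h.coatom (sigma_of_conj hpL) hAp (ne_bot_of_sq h.card) h.le hAL hCA)
  · have hexc : IsExc p L A (zpowers b) := ⟨hL, hpL, hAL, h.elem, h.card, hbA, hbc, hNL⟩
    have hσ := IsExc.commutator_le_sigmaCore hG hexc hq hqp hZ hZL hAZ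
    by_contra hne0
    have hqL : q ∈ Cfsg.sigma L := sigma_of_dvd hG hL hq
      ((dvd_card_of_ne_bot (hZ.to_le hle) hne0).trans (card_dvd_of_le hσ))
    refine hne0 (le_bot_iff.1 ?_)
    rw [← IsExc.inf_eq_bot_of_share hG hexc h.coatom h.le (Ne.symm hne) hqL hqM]
    exact le_inf hσ (hle.trans hZM)

/-- `A` centralises each invariant `q`-subgroup of `M`, `q ∈ σ(M) ∖ {p}`. -/
theorem le_centralizer {q : ℕ} (hq : q.Prime) (hqp : q ≠ p) (hqM : q ∈ Cfsg.sigma M)
    (hconj : ∀ L : Subgroup G, IsCoatom L → p ∈ Cfsg.sigma L → q ∈ Cfsg.sigma L →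
      ∃ g : G, L = MulAut.conj g • M)
    {Q : Subgroup G} (hQ : IsPGroup q Q) (hQM : Q ≤ M) (hAQ : A ≤ normalizer (Q : Set G)) :
    Q ≤ centralizer (A : Set G) := by
  haveI := Fact.mk hq
  haveI : IsMulCommutative A := h.elem.1
  have hcop : (Nat.card A).Coprime (Nat.card Q) := by
    obtain ⟨i, hi⟩ := IsPGroup.iff_card.1 hQ
    rw [hi, h.card]
    exact Nat.coprime_pow_primes _ _ hp.out hq (Ne.symm hqp)
  refine CoprimeGen.le_of_centralizers (A := A) (not_isCyclic_of_sq_le h.elem h.card.ge) hAQ hcop ?_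
  intro b hb hb1
  have hAb : A ≤ normalizer (centralizer ({b} : Set G) : Set G) := by
    refine le_trans ?_ le_normalizer
    exact fun a ha => mem_centralizer_singleton_iff.2
      (PGroupsBasic.comm_of_isMulCommutative h.elem.1 ha hb)
  have h1 := commutator_fixed_eq_bot hG h hq hqp hqM hconj (hQ.to_le inf_le_left)
    (inf_le_left.trans hQM) (CoprimeAction.le_normalizer_inf hAQ hAb) hb hb1
    (inf_le_right : Q ⊓ centralizer ({b} : Set G) ≤ _)
  exact le_centralizer_iff.1 (CoprimeExtra.commutator_eq_bot_iff.1 h1)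

/-- `M_α = 1`. -/
theorem alphaCore_eq_bot : Cfsg.alphaCore M = ⊥ := by
  by_contra hne
  have hM := h.coatom
  obtain ⟨q, hq, hd⟩ := Nat.exists_prime_and_dvd (fun h0 => hne (eq_bot_of_card_eq _ h0))
  haveI := Fact.mk hq
  have hqα := (hall_alpha hG hM).1.2.1 q hq hd
  have hqp : q ≠ p := fun h0 => not_alpha hG h (h0 ▸ hqα)
  have hqM : q ∈ Cfsg.sigma M := alpha_subset hG hM hqα
  have hαM : Cfsg.alphaCore M ≤ M := map_subtype_le _
  have hAp := PGroupsBasic.isPGroup_of_isElementaryAbelian h.elem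
  have hcop : (Nat.card A).Coprime (Nat.card (Cfsg.alphaCore M)) := by
    rw [h.card]
    exact (hp.out.coprime_iff_not_dvd.2 fun hd' =>
      not_alpha hG h ((hall_alpha hG hM).1.2.1 p hp.out hd')).pow_left 2
  have hAα : A ≤ normalizer (Cfsg.alphaCore M : Set G) := h.le.trans (le_normalizer_core _ M)
  obtain ⟨S, hAS⟩ := CoprimeAction.exists_invariant_sylow hAα hcop
    (Or.inl (CoprimeAction.isSolvable_of_isPGroup hAp)) q
  have hS := isMaxP_sylow (Cfsg.alphaCore M) S
  set Q := (S : Subgroup ↥(Cfsg.alphaCore M)).map (Cfsg.alphaCore M).subtype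
  have hQM : IsMaxP q Q M := by
    refine ⟨hS.le.trans hαM, hS.isPGroup, fun R hQR hRM hR => hS.eq_of_le R hQR ?_ hR⟩
    intro y hy
    have hle : R.subgroupOf M ≤ Cfsg.piCore (Cfsg.alpha M) M := by
      refine le_of_prime_not_dvd fun r hr' hd' hdi => ?_
      obtain ⟨n, hn⟩ := IsPGroup.iff_card.1 hR
      have hd'' := hd'.trans (HallCore.card_subgroupOf_dvd R M)
      rw [hn] at hd''
      have hrq := (Nat.prime_dvd_prime_iff_eq hr' hq).1 (hr'.dvd_of_dvd_pow hd'')
      subst hrq
      refine (hall_alpha hG hM).1.2.2 r hr' hqα ?_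
      rwa [relIndex, Cfsg.alphaCore, subgroupOf_map_subtype_self]
    exact ⟨⟨y, hRM hy⟩, hle hy, rfl⟩
  have hQA := le_centralizer hG h hq hqp hqM
    (fun L hL _ hqL => eq_conj_of_alpha hG hM hL hqα hqL) hQM.isPGroup hQM.le hAS
  exact pRankLE_of_isMaxP hQM hqα.2 (BGRankTwo.pRankLE_mono hQA (rankLE hG h q hq))

theorem rankLE_M : Cfsg.RankLE 2 M := by
  intro q hq
  by_contra hr
  haveI := Fact.mk hq
  have h1 := (hall_alpha hG h.coatom).1.2.2 q hq ⟨hq, hr⟩
  rw [alphaCore_eq_bot hG h, relIndex_bot_left] at h1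
  exact h1 (dvd_card_of_not_pRankLE hr)

theorem derived_nilpotent : Group.IsNilpotent ↥⁅M, M⁆ := by
  haveI := isSolvable_of_ne_top hG h.coatom.1
  haveI : Group.IsNilpotent ↥(commutator M) := (Cfsg.Agent.S1451.result (odd_card_subgroup hG M)
    (Or.inl (rankLE_M hG h))).1
  rw [← Subgroup.map_subtype_commutator]
  exact Group.nilpotent_of_mulEquiv (equivMapOfInjective _ M.subtype M.subtype_injective)

theorem sigmaCore_nilpotent : Group.IsNilpotent (Cfsg.sigmaCore M) :=
  ComponentsCores.nilpotent_of_le (sigmaCore_le_commutator hG h.coatom) (derived_nilpotent hG h)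

/-- Either `A` is normal in `M` or the Sylow `p`-subgroups of `M` over `A` are abelian. -/
theorem normal_or_commute {P : Subgroup G} (hP : IsMaxP p P M) (hAP : A ≤ P) :
    (normalizer (A : Set G) = M ∧ P ≤ centralizer (A : Set G)) ∨ IsMulCommutative P := by
  refine or_iff_not_imp_right.2 fun hnc => ?_
  have hM := h.coatom
  haveI := isSolvable_of_ne_top hG hM.1
  set T := ⁅P, P⁆ ⊓ centralizer (P : Set G) ⊓ A with hT
  have hTA : T ≤ A := inf_le_right
  have hTne : T ≠ ⊥ := by
    have hne : commutator P ≠ ⊥ := by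
      intro h0
      refine hnc (PGroupsBasic.isMulCommutative_of_forall fun x hx y hy => ?_)
      have h1 : ⁅(⟨x, hx⟩ : P), (⟨y, hy⟩ : P)⁆ ∈ commutator P :=
        commutator_mem_commutator (mem_top _) (mem_top _)
      rw [h0, mem_bot, commutatorElement_eq_one_iff_mul_comm] at h1
      exact congrArg Subtype.val h1
    obtain ⟨w, hw, hwo⟩ := PGroupsBasic.exists_orderOf_eq_of_ne_bot (p := p)
      (hP.isPGroup.to_subgroup _) (PGroupsBasic.inf_center_ne_bot hP.isPGroup hne)
    have hwc : (w : G) ∈ centralizer (P : Set G) := mem_centralizer_iff.2 fun y hy =>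
      congrArg Subtype.val ((mem_center_iff.1 hw.2) ⟨y, hy⟩)
    have hw' : (w : G) ∈ T := by
      refine ⟨⟨?_, hwc⟩, mem_of_centralizer h.elem h.card (rank hG h)
        (Subgroup.centralizer_le (SetLike.coe_subset_coe.2 hAP) hwc)
        (by rw [← SubgroupClass.coe_pow, ← hwo, pow_orderOf_eq_one]; rfl)⟩
      rw [← Subgroup.map_subtype_commutator]
      exact mem_map_of_mem _ hw.1
    intro h0
    rw [h0, mem_bot] at hw'
    exact hp.out.one_lt.ne' (by rw [← hwo, ← Subgroup.orderOf_coe, hw', orderOf_one])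
  have hchar : ∀ e : MulAut P, ∀ t : P, (t : G) ∈ T → ((e t : P) : G) ∈ T := by
    intro e t ht
    have hc : ∀ u : P, t * u = u * t := fun u => Subtype.ext
      ((mem_centralizer_iff.1 ht.1.2 u u.2).symm)
    have hec : ((e t : P) : G) ∈ centralizer (P : Set G) := mem_centralizer_iff.2 fun y hy => by
      have h1 := congrArg e (hc (e.symm ⟨y, hy⟩))
      rw [map_mul, map_mul, MulEquiv.apply_symm_apply] at h1
      exact (congrArg Subtype.val h1).symm
    refine ⟨⟨?_, hec⟩, mem_of_centralizer h.elem h.card (rank hG h)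
      (Subgroup.centralizer_le (SetLike.coe_subset_coe.2 hAP) hec) ?_⟩
    · have h1 : t ∈ commutator P := by
        have := ht.1.1
        rw [← Subgroup.map_subtype_commutator] at this
        obtain ⟨u, hu, hut⟩ := this
        rwa [← P.subtype_injective hut]
      rw [← Subgroup.map_subtype_commutator]
      exact mem_map_of_mem _ ((characteristic_iff_map_le.1 inferInstance e) (mem_map_of_mem _ h1))
    · have ht1 : t ^ p = 1 := Subtype.ext (by rw [SubgroupClass.coe_pow]; exact h.elem.2 _ ht.2)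
      rw [← SubgroupClass.coe_pow, ← map_pow, ht1, map_one]; rfl
  obtain ⟨S, hS⟩ := hP.exists_sylow
  have hMT : M ≤ normalizer (T : Set G) := by
    subst hS
    set S' := (S : Subgroup M)
    have hTS : T ≤ S'.map M.subtype := (inf_le_left.trans inf_le_left).trans (commutator_le_self _)
    let η : S' ≃* S'.map M.subtype := equivMapOfInjective _ M.subtype M.subtype_injective
    set T' : Subgroup S' := T.comap (M.subtype.comp S'.subtype) with hT'
    haveI : T'.Characteristic := by
      rw [characteristic_iff_le_comap]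
      intro e t ht
      have h1 := hchar ((η.symm.trans e).trans η) (η t) ht
      simpa [T', η] using h1
    have hle : T'.map S'.subtype ≤ ⁅S', S'⁆ := by
      rintro _ ⟨t, ht, rfl⟩
      have h1 : ((t : M) : G) ∈ (⁅S', S'⁆ : Subgroup M).map M.subtype := by
        rw [map_commutator]; exact ht.1.1
      obtain ⟨u, hu, hut⟩ := h1
      rwa [M.subtype_injective hut] at hu
    have hn := (Cfsg.Agent.S1451.result (odd_card_subgroup hG M)
      (Or.inl (rankLE_M hG h))).2.1 p S T' inferInstance hle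
    have hTeq : (T'.map S'.subtype).map M.subtype = T := by
      ext x
      constructor
      · rintro ⟨_, ⟨t, ht, rfl⟩, rfl⟩; exact ht
      · intro hx
        obtain ⟨s, hs, rfl⟩ := hTS hx
        exact ⟨s, ⟨⟨s, hs⟩, hx, rfl⟩, rfl⟩
    rw [← hTeq]
    intro x hx
    rw [← normalizer_eq_top_iff] at hn
    exact le_normalizer_map M.subtype ⟨⟨x, hx⟩, hn.ge (mem_top _), rfl⟩
  have hNT := normalizer_eq_of_normal hG hM (hTA.trans h.le) hTne hMT
  obtain ⟨i, hi2, hi⟩ := (Nat.dvd_prime_pow hp.out).1 (h.card ▸ card_dvd_of_le hTA)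
  interval_cases i
  · exact absurd (eq_bot_of_card_eq T (by rwa [pow_zero] at hi)) hTne
  · obtain ⟨L, hL, hne, hle⟩ := h.other T hTA (by rwa [pow_one] at hi)
    rw [hNT] at hle
    exact absurd ((hle.eq_or_lt).resolve_right fun hlt => hL.1 (hM.2 L hlt)).symm hne
  · have hTeq : T = A := eq_of_le_of_card_ge hTA (by rw [hi, h.card])
    refine ⟨hTeq ▸ hNT, le_centralizer_iff.1 ?_⟩
    rw [← hTeq]
    exact inf_le_left.trans inf_le_right

/-- A `p`-subgroup of `M` over `A` centralises `A`. -/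
theorem pgroup_le_centralizer {Y : Subgroup G} (hY : IsPGroup p Y) (hYM : Y ≤ M) (hAY : A ≤ Y) :
    Y ≤ centralizer (A : Set G) := by
  obtain ⟨P, hP, hYP⟩ := exists_isMaxP_ge hY hYM
  rcases normal_or_commute hG h hP (hAY.trans hYP) with ⟨-, h1⟩ | h1
  · exact hYP.trans h1
  · exact fun y hy => mem_centralizer_iff.2 fun a ha =>
      PGroupsBasic.comm_of_isMulCommutative h1 (hYP (hAY ha)) (hYP hy)

theorem normalizer_maxP_le {Y : Subgroup G} (hY : IsPGroup p Y) (hYM : Y ≤ M) (hAY : A ≤ Y) :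
    normalizer (Y : Set G) ≤ normalizer (A : Set G) :=
  normalizer_le_of_omega h.elem hAY fun _ hx hxp => mem_of_centralizer h.elem h.card (rank hG h)
    (pgroup_le_centralizer hG h hY hYM hAY hx) hxp

theorem normalizer_ne_top : normalizer (A : Set G) ≠ ⊤ :=
  BGTransitivity.normalizer_ne_top hG (ne_bot_of_sq h.card)
    (fun ht => h.coatom.1 (top_le_iff.1 (ht ▸ h.le)))

/-- For `p ∈ σ(M)`, `C(A) ≤ M`. -/
theorem centralizer_le_of_sigma (hσ : p ∈ Cfsg.sigma M) : centralizer (A : Set G) ≤ M := by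
  have hM := h.coatom
  obtain ⟨P, hP, hn, hmax⟩ := exists_normal_sylow hG hM (sigmaCore_nilpotent hG h) hσ
  have hAP := hmax A (PGroupsBasic.isPGroup_of_isElementaryAbelian h.elem) h.le
  have hMA : M ≤ normalizer (A : Set G) := hn.trans (normalizer_maxP_le hG h hP.isPGroup hP.le hAP)
  exact (centralizer_le_normalizer _).trans (normalizer_eq_of_normal hG hM h.le (ne_bot_of_sq h.card) hMA).le

/-- `p ∈ σ(M)`. -/
theorem mem_sigma : p ∈ Cfsg.sigma M := by
  by_contra hpσ
  have hM := h.coatom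
  have hAp := PGroupsBasic.isPGroup_of_isElementaryAbelian h.elem
  haveI := isSolvable_of_ne_top hG hM.1
  obtain ⟨P, hP, hAP⟩ := exists_isMaxP_ge hAp h.le
  have hPN : normalizer (P : Set G) ≤ normalizer (A : Set G) :=
    normalizer_maxP_le hG h hP.isPGroup hP.le hAP
  have hPC := pgroup_le_centralizer hG h hP.isPGroup hP.le hAP
  have hnot := not_normalizer_le_maxP hpσ hP (dvd_card_of_sq h.le h.card)
  refine hnot (hPN.trans ?_)
  -- a sigma prime `q` with a normal Sylow subgroup inside `C(A)`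
  obtain ⟨q, hq, hqd⟩ := Nat.exists_prime_and_dvd
    (fun h0 => sigmaCore_ne_bot hG hM (eq_bot_of_card_eq _ h0))
  haveI := Fact.mk hq
  have hqσ := sigma_of_dvd hG hM hq hqd
  have hqp : q ≠ p := fun h0 => hpσ (h0 ▸ hqσ)
  obtain ⟨Q, hQ, hQn, hQmax⟩ := exists_normal_sylow hG hM (sigmaCore_nilpotent hG h) hqσ
  have hQC : Q ≤ centralizer (A : Set G) := le_centralizer hG h hq hqp hqσ
    (fun L hL _ hqL => eq_conj_of_normal_sylow hG hM hL hqσ hqL hQ hQn) hQ.isPGroup hQ.le
    (h.le.trans hQn)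
  have hQtop := isMaxP_top_of_sigma hqσ hQ
  have hQne : Q ≠ ⊥ := by
    obtain ⟨S, rfl⟩ := hQ.exists_sylow
    exact fun h0 => S.ne_bot_of_dvd_card hqσ.2.1
      ((map_eq_bot_iff_of_injective _ M.subtype_injective).1 h0)
  have hNQ : normalizer (Q : Set G) = M := normalizer_eq_of_normal hG hM hQ.le hQne hQn
  -- `M = D N_M(A)` with `D = O_{q'}(M')`
  set N := M ⊓ normalizer (A : Set G) with hN
  have hMnil := derived_nilpotent hG h
  set D := (Cfsg.pPrimeCore q ↥⁅M, M⁆).map ⁅M, M⁆.subtype with hD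
  haveI : (Cfsg.pPrimeCore q ↥⁅M, M⁆).Characteristic := HallCore.pPrimeCore_characteristic q _
  have hMD : M ≤ normalizer (D : Set G) := (normalizer_commutator_ge_left M M).trans
    (ComponentsCores.normalizer_le_normalizer_map_subtype ⁅M, M⁆ _)
  have hQN : Q ≤ N := le_inf hQ.le (hQC.trans (centralizer_le_normalizer _))
  have hM'le : ⁅M, M⁆ ≤ D ⊔ Q := by
    refine le_of_sylows fun ℓ hℓ _ => ?_
    haveI := Fact.mk hℓ
    obtain ⟨T, hT, hNT, -, -⟩ := exists_sylow_of_nilpotent hMnil ℓ
    refine ⟨T, hT, ?_⟩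
    by_cases hℓq : ℓ = q
    · subst hℓq
      exact (hQmax T hT.isPGroup (hT.le.trans (commutator_le_self M))).trans le_sup_right
    · haveI : (T.subgroupOf ⁅M, M⁆).Normal :=
        normal_subgroupOf_of_le_normalizer (le_normalizer.trans hNT)
      have h1 : T.subgroupOf ⁅M, M⁆ ≤ Cfsg.pPrimeCore q ↥⁅M, M⁆ := by
        refine HallCore.le_pPrimeCore ?_
        obtain ⟨i, hi⟩ := IsPGroup.iff_card.1
          (hT.isPGroup.comap_of_injective _ ⁅M, M⁆.subtype_injective)
        rw [show Nat.card ↥(T.subgroupOf ⁅M, M⁆) = ℓ ^ i from hi]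
        exact ((Nat.coprime_primes hℓ hq).2 hℓq).pow_left i
      rw [← map_subgroupOf_eq_of_le hT.le]
      exact (map_mono h1).trans le_sup_left
  have hMle : M ≤ D ⊔ N := by
    intro m hm
    set W := ⁅M, M⁆ ⊔ A with hW
    have hWM : W ≤ M := sup_le (commutator_le_self M) h.le
    have hMW : M ≤ normalizer (W : Set G) := CoprimeAction.le_normalizer_of_conj_mem fun e he w hw => by
      have h1 : ⁅e, w⁆ ∈ W := mem_sup_left (commutator_mem_commutator he (hWM hw))
      simpa [commutatorElement_def] using mul_mem h1 hw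
    obtain ⟨PW, hPW, hAPW⟩ := exists_isMaxP_ge hAp (le_sup_right : A ≤ W)
    have hPe : IsMaxP p (MulAut.conj m • PW) W := by
      have h1 := isMaxP_conj m hPW
      rwa [CoprimeSZ.conj_smul_eq_self (hMW hm)] at h1
    obtain ⟨n, hn, hnle⟩ := exists_conj_maxP hPW hPe.le hPe.isPGroup
    have heq : MulAut.conj n • MulAut.conj m • PW = PW := eq_of_le_of_card_ge hnle
      (by rw [CoprimeSZ.card_conj_smul, CoprimeSZ.card_conj_smul])
    have hnm : n * m ∈ normalizer (A : Set G) :=
      normalizer_maxP_le hG h hPW.isPGroup (hPW.le.trans hWM) hAPW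
        (CoprimeAction.mem_normalizer_of_conj_smul_eq (by rwa [CoprimeSZ.conj_smul_mul]))
    rw [show m = n⁻¹ * (n * m) by group]
    refine mul_mem ?_ (mem_sup_right ⟨mul_mem (hWM hn) hm, hnm⟩)
    exact (sup_le (hM'le.trans (sup_le le_sup_left (hQN.trans le_sup_right)))
      ((le_inf h.le le_normalizer : A ≤ N).trans le_sup_right) : W ≤ D ⊔ N) (inv_mem hn)
  -- `Q ≤ N'`
  have hQd : Q ≤ ⁅N, N⁆ := by
    have hDM : D ≤ M := (map_subtype_le _).trans (commutator_le_self M)
    haveI : (D.subgroupOf M).Normal := normal_subgroupOf_of_le_normalizer hMD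
    set π := QuotientGroup.mk' (D.subgroupOf M)
    have htop : (N.subgroupOf M).map π = ⊤ := by
      rw [← top_le_iff, ← map_top_of_surjective π (QuotientGroup.mk'_surjective _)]
      rintro _ ⟨x, -, rfl⟩
      have hx : (x : G) ∈ D ⊔ N := hMle x.2
      have hND : N ≤ normalizer (D : Set G) := inf_le_left.trans hMD
      rw [← SetLike.mem_coe, Subgroup.coe_mul_of_right_le_normalizer_left D N hND] at hx
      obtain ⟨d, hd, n, hn, hdn⟩ := hx
      refine ⟨⟨n, hn.1⟩, hn, QuotientGroup.eq.2 ?_⟩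
      show ((⟨n, hn.1⟩ : M)⁻¹ * x : M).1 ∈ D
      rw [coe_mul, coe_inv, ← hdn]
      have h1 := (mem_normalizer_iff.1 (inv_mem (hND hn)) d).1 hd
      simpa [mul_assoc] using h1
    have hsub : ⁅M, M⁆ ≤ D ⊔ ⁅N, N⁆ := by
      intro x hx
      rw [← Subgroup.map_subtype_commutator] at hx
      obtain ⟨y, hy, rfl⟩ := hx
      have h1 : π y ∈ (⁅N.subgroupOf M, N.subgroupOf M⁆ : Subgroup M).map π := by
        rw [map_commutator, htop]
        have : π y ∈ (commutator M).map π := mem_map_of_mem π hy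
        rwa [_root_.commutator_def, map_commutator,
          map_top_of_surjective π (QuotientGroup.mk'_surjective _)] at this
      obtain ⟨z, hz, hzy⟩ := h1
      have hz' : (z : G) ∈ ⁅N, N⁆ := by
        have := mem_map_of_mem M.subtype hz
        rwa [map_commutator, map_subgroupOf_eq_of_le (inf_le_left : N ≤ M)] at this
      have h2' : z⁻¹ * y ∈ D.subgroupOf M := QuotientGroup.eq.1 hzy
      have h2 : ((z : G)⁻¹ * (y : G)) ∈ D := h2'
      have h3 : (y : G) = z * ((z : G)⁻¹ * y) := by group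
      show (y : G) ∈ _
      rw [h3]
      exact mul_mem (mem_sup_right hz') (mem_sup_left h2)
    obtain ⟨S, hS⟩ : ∃ S, IsMaxP q S ⁅N, N⁆ := ⟨_, isMaxP_sylow _ default⟩
    have hSQ : S ≤ Q := hQmax S hS.isPGroup (hS.le.trans ((commutator_le_self N).trans inf_le_left))
    set X := D ⊔ ⁅N, N⁆
    have hXN : ⁅N, N⁆ ≤ normalizer (D : Set G) :=
      ((commutator_le_self N).trans inf_le_left).trans hMD
    haveI : (D.subgroupOf X).Normal := normal_subgroupOf_of_le_normalizer (sup_le le_normalizer hXN)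
    have hcard : Nat.card X ∣ Nat.card ↥⁅N, N⁆ * Nat.card D := by
      have := HallCore.card_sup_dvd (⁅N, N⁆.subgroupOf X) (D.subgroupOf X)
      rw [← subgroupOf_sup le_sup_right le_sup_left, subgroupOf_eq_top.2 (sup_comm _ _).le,
        card_top] at this
      rwa [Nat.card_congr (subgroupOfEquivOfLe (le_sup_right : ⁅N, N⁆ ≤ X)).toEquiv,
        Nat.card_congr (subgroupOfEquivOfLe (le_sup_left : D ≤ X)).toEquiv] at this
    obtain ⟨n, hn⟩ := IsPGroup.iff_card.1 hQ.isPGroup
    have hQM' : Q ≤ ⁅M, M⁆ := le_commutator hG hM hqσ hQ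
    have hd1 : q ^ n ∣ Nat.card ↥⁅N, N⁆ := by
      have h1 := (hn ▸ card_dvd_of_le (hQM'.trans hsub)).trans hcard
      refine (Nat.Coprime.pow_left n ?_).dvd_of_dvd_mul_right h1
      rw [hD, card_map_of_injective ⁅M, M⁆.subtype_injective]
      exact (HallCore.coprime_card_pPrimeCore q _).symm
    obtain ⟨S', hS'⟩ := hS.exists_sylow
    have hd2 : Nat.card Q ≤ Nat.card S := by
      rw [hn, ← hS', card_map_of_injective ⁅N, N⁆.subtype_injective]
      exact Nat.le_of_dvd Nat.card_pos (S'.pow_dvd_card_of_pow_dvd_card hd1)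
    rw [← eq_of_le_of_card_ge hSQ hd2]
    exact hS.le
  -- `W = C(A) N`, with derived group nilpotent
  set C := centralizer (A : Set G) with hC
  set W := C ⊔ N with hW
  have hWA : W ≤ normalizer (A : Set G) := sup_le (centralizer_le_normalizer _) inf_le_right
  have hAW : A ≤ W :=
    (PGroupsBasic.le_centralizer_of_isMulCommutative h.elem.1).trans le_sup_left
  have hWne : W ≠ ⊤ := fun ht => normalizer_ne_top hG h (top_le_iff.1 (ht ▸ hWA))
  haveI := isSolvable_of_ne_top hG hWne
  have hNA : N ≤ normalizer (C : Set G) :=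
    CoprimeTools.le_normalizer_centralizer_of_le (inf_le_right : N ≤ normalizer (A : Set G))
  haveI : (C.subgroupOf W).Normal :=
    normal_subgroupOf_of_le_normalizer (sup_le le_normalizer hNA)
  have hrW : ∀ r : ℕ, r.Prime → Cfsg.PRankLE r 2 ↥(Cfsg.pCore r W) := by
    intro r hr
    haveI := Fact.mk hr
    haveI := HallCore.pCore_normal r W
    have hle : Cfsg.pCore r W ≤ C.subgroupOf W := by
      obtain ⟨i, hi⟩ := IsPGroup.iff_card.1 (HallCore.isPGroup_pCore r W)
      by_cases hrp : r = p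
      · subst hrp
        refine le_of_prime_not_dvd fun s hs hd hdi => ?_
        rw [hi] at hd
        have hsr := (Nat.prime_dvd_prime_iff_eq hs hr).1 (hs.dvd_of_dvd_pow hd)
        subst hsr
        have hidx : (C.subgroupOf W).index = C.relIndex N := by
          rw [← relIndex_subgroupOf (le_sup_right : N ≤ W),
            ← relIndex_sup_right (H := N.subgroupOf W) (K := C.subgroupOf W),
            ← subgroupOf_sup le_sup_right le_sup_left, subgroupOf_eq_top.2 (sup_comm _ _).le,
            relIndex_top_right]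
        rw [hidx] at hdi
        obtain ⟨Pn, hPn, hAPn⟩ := exists_isMaxP_ge hAp (le_inf h.le le_normalizer : A ≤ N)
        have hPnC := pgroup_le_centralizer hG h hPn.isPGroup (hPn.le.trans inf_le_left) hAPn
        obtain ⟨Sn, hSn⟩ := hPn.exists_sylow
        refine Sn.not_dvd_index (hdi.trans (index_dvd_of_le fun x hx => ?_))
        exact hPnC (hSn ▸ mem_map_of_mem _ hx)
      · haveI : (A.subgroupOf W).Normal := normal_subgroupOf_of_le_normalizer hWA
        have hbot : ⁅A.subgroupOf W, Cfsg.pCore r W⁆ = ⊥ := by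
          refine eq_bot_of_card_eq _ (Nat.eq_one_of_dvd_coprimes ?_
            (card_dvd_of_le (commutator_le_inf _ _ |>.trans inf_le_left))
            (card_dvd_of_le (commutator_le_inf _ _ |>.trans inf_le_right)))
          rw [Nat.card_congr (subgroupOfEquivOfLe hAW).toEquiv, h.card, hi]
          exact Nat.coprime_pow_primes _ _ hp.out hr (Ne.symm hrp)
        intro x hx
        have h1 := Subgroup.commutator_eq_bot_iff_le_centralizer.1
          ((Subgroup.commutator_comm _ _).trans hbot) hx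
        exact mem_centralizer_iff.2 fun a ha =>
          congrArg Subtype.val (mem_centralizer_iff.1 h1 (⟨a, hAW ha⟩ : W) ha)
    refine BGRankTwo.pRankLE_mono hle ?_
    exact BGRankTwo.pRankLE_of_injective
      ((W.subtype.comp (C.subgroupOf W).subtype).codRestrict C fun x => x.2)
      (fun a b hab => Subtype.ext (Subtype.ext (congrArg (fun w : C => (w : G)) hab)))
      (rankLE hG h r hr)
  have hF := BGRankTwo.commutator_le_fitting (odd_card_subgroup hG W) hrW
  haveI hFnil : Group.IsNilpotent (Cfsg.fittingSubgroup W) :=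
    ComponentsFitting.fittingSubgroup_isNilpotent
  set F := (Cfsg.fittingSubgroup W).map W.subtype with hFdef
  have hFn : Group.IsNilpotent F :=
    Group.nilpotent_of_mulEquiv (equivMapOfInjective _ W.subtype W.subtype_injective)
  obtain ⟨T, hT, hNT, hTmax, -⟩ := exists_sylow_of_nilpotent hFn q
  have hQF : Q ≤ F := by
    refine hQd.trans ((commutator_mono (le_sup_right : N ≤ W) (le_sup_right : N ≤ W)).trans ?_)
    rw [← Subgroup.map_subtype_commutator]
    exact map_mono hF
  have hTQ : T = Q := hQtop.eq_of_le T (hTmax Q hQ.isPGroup hQF) le_top hT.isPGroup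
  have hWM : W ≤ M := by
    rw [← hNQ, ← hTQ]
    exact le_trans (le_normalizer.trans
      (ComponentsCores.normalizer_le_normalizer_map_subtype W _)) hNT
  have hCM : C ≤ M := le_sup_left.trans hWM
  intro n hn
  have hQmaxC : IsMaxP q Q C :=
    ⟨hQC, hQ.isPGroup, fun R hQR _ hR => hQtop.eq_of_le R hQR le_top hR⟩
  have hnC : MulAut.conj n • Q ≤ C := by
    have hnC' : n ∈ normalizer (C : Set G) := CoprimeTools.le_normalizer_centralizer_of_le
      (le_refl (normalizer (A : Set G))) hn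
    rw [← CoprimeSZ.conj_smul_eq_self hnC']
    exact pointwise_smul_le_pointwise_smul_iff.2 hQC
  obtain ⟨c, hc, hcle⟩ := exists_conj_maxP hQmaxC hnC (hQ.isPGroup.map _)
  have heq : MulAut.conj c • MulAut.conj n • Q = Q := eq_of_le_of_card_ge hcle
    (by rw [CoprimeSZ.card_conj_smul, CoprimeSZ.card_conj_smul])
  have h1 : c * n ∈ M := hNQ ▸ CoprimeAction.mem_normalizer_of_conj_smul_eq
    (by rwa [CoprimeSZ.conj_smul_mul])
  simpa using mul_mem (inv_mem (hCM hc)) h1

end NoUnique

end Cfsg.Agent.BGExc
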