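import Mathlib
import Cfsg.Prelude.Def_Local
import Cfsg.Agent.Lib.ComponentsBasic
import Cfsg.Agent.Lib.ComponentsCores

set_option autoImplicit false
set_option linter.style.haveILetI false

namespace Cfsg.Agent.ComponentsFitting

open Subgroup Cfsg
open Cfsg.Agent.ComponentsBasic Cfsg.Agent.ComponentsCores

variable {G : Type*} [Group G] {G' : Type*} [Group G']

theorem pCore_le_fitting [Finite G] {p : ℕ} (hp : p.Prime) : pCore p G ≤ fittingSubgroup G :=
  haveI := Fact.mk hp
  le_fitting (isPGroup_pCore p).isNilpotent

theorem commute_pCore [Finite G] {p q : ℕ} (hp : p.Prime) (hq : q.Prime) (hne : p ≠ q) (x y : G)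
    (hx : x ∈ pCore p G) (hy : y ∈ pCore q G) : Commute x y := by
  haveI := Fact.mk hp
  haveI := Fact.mk hq
  exact commute_of_normal_of_disjoint _ _ inferInstance inferInstance
    (IsPGroup.disjoint_of_ne p q hne _ _ (isPGroup_pCore p) (isPGroup_pCore q)) x y hx hy

theorem fittingSubgroup_eq_iSup [Finite G] :
    fittingSubgroup G = ⨆ p : (Nat.card G).primeFactors, pCore p G := by
  refine le_antisymm (sSup_le fun N ⟨hN, hnil⟩ => ?_)
    (iSup_le fun p => pCore_le_fitting (Nat.prime_of_mem_primeFactors p.2))
  set K := ⨆ p : (Nat.card G).primeFactors, pCore p G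
  have h : Nat.card N ∣ Nat.card (K.subgroupOf N) := by
    refine (Nat.dvd_iff_prime_pow_dvd_dvd _ _).mpr fun q k hq hd => ?_
    haveI := Fact.mk hq
    rcases Nat.eq_zero_or_pos k with rfl | hk
    · simp
    obtain ⟨P⟩ := (inferInstance : Nonempty (Sylow q N))
    haveI : (P : Subgroup N).Normal := inferInstance
    haveI : (P : Subgroup N).Characteristic := P.characteristic_of_normal inferInstance
    haveI : ((P : Subgroup N).map N.subtype).Normal := inferInstance
    have hmem : q ∈ (Nat.card G).primeFactors :=
      Nat.mem_primeFactors.mpr ⟨hq, ((dvd_pow_self q hk.ne').trans hd).trans (card_subgroup_dvd_card N),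
        Nat.card_pos.ne'⟩
    have hle : (P : Subgroup N).map N.subtype ≤ K :=
      (le_pCore' (P.2.map N.subtype)).trans (le_iSup (fun p : (Nat.card G).primeFactors => pCore p G) ⟨q, hmem⟩)
    exact (P.pow_dvd_card_of_pow_dvd_card hd).trans (card_dvd_of_le (map_le_iff_le_comap.mp hle))
  have h2 : K.subgroupOf N = ⊤ := (card_eq_iff_eq_top _).mp
    (Nat.dvd_antisymm (card_subgroup_dvd_card _) h)
  exact subgroupOf_eq_top.mp h2

/-- Fitting's theorem. -/
instance fittingSubgroup_isNilpotent [Finite G] : Group.IsNilpotent (fittingSubgroup G) := by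
  have hcomm : Pairwise fun i j : (Nat.card G).primeFactors =>
      ∀ x y : G, x ∈ pCore (i : ℕ) G → y ∈ pCore (j : ℕ) G → Commute x y :=
    fun i j hne => commute_pCore (Nat.prime_of_mem_primeFactors i.2)
      (Nat.prime_of_mem_primeFactors j.2) (fun h => hne (Subtype.ext h))
  haveI : ∀ i : (Nat.card G).primeFactors, Group.IsNilpotent (pCore (i : ℕ) G) := fun i =>
    haveI := Fact.mk (Nat.prime_of_mem_primeFactors i.2)
    (isPGroup_pCore _).isNilpotent
  rw [fittingSubgroup_eq_iSup, ← noncommPiCoprod_range (hcomm := hcomm)]
  exact nilpotent_of_surjective _ (MonoidHom.rangeRestrict_surjective _)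

theorem fitting_map_subtype_le [Finite G] {K : Subgroup G} (hK : K.IsSubnormal) :
    (fittingSubgroup K).map K.subtype ≤ fittingSubgroup G := by
  induction hK with
  | top => exact (fitting_map_mulEquiv (topEquiv (G := G))).le
  | step H K h_le hSubn hN ih =>
    haveI := map_subtype_normal_subgroupOf hN h_le (fittingSubgroup H)
    have hle : (fittingSubgroup H).map H.subtype ≤ K := (map_subtype_le _).trans h_le
    have h1 : ((fittingSubgroup H).map H.subtype).subgroupOf K ≤ fittingSubgroup K := le_fitting
      ((Group.isNilpotent_congr (subgroupOfEquivOfLe hle)).mpr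
        ((isNilpotent_map_subtype_iff _).mpr inferInstance))
    have h2 := map_mono (f := K.subtype) h1
    rw [map_subgroupOf_eq_of_le hle] at h2
    exact h2.trans ih

/-- A subnormal nilpotent subgroup lies in the Fitting subgroup. -/
theorem subnormal_nilpotent_le_fitting [Finite G] {H : Subgroup G} (hH : H.IsSubnormal)
    (h : Group.IsNilpotent H) : H ≤ fittingSubgroup G := by
  have h1 : fittingSubgroup H = ⊤ :=
    top_le_iff.mp (le_fitting (Group.isNilpotent_top.mpr h))
  have := fitting_map_subtype_le hH
  rwa [h1, ← MonoidHom.range_eq_map, range_subtype] at this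

/-- `F(H) = F(G) ⊓ H` for subnormal `H`. -/
theorem fitting_map_subtype_eq [Finite G] {H : Subgroup G} (hH : H.IsSubnormal) :
    (fittingSubgroup H).map H.subtype = fittingSubgroup G ⊓ H := by
  refine le_antisymm (le_inf (fitting_map_subtype_le hH) (map_subtype_le _)) ?_
  rw [← subgroupOf_map_subtype]
  refine map_mono (le_fitting ?_)
  rw [← inf_subgroupOf_right, Group.isNilpotent_congr (subgroupOfEquivOfLe inf_le_right)]
  exact nilpotent_of_le inf_le_left inferInstance

theorem fittingSubgroup_eq_top_iff [Finite G] : fittingSubgroup G = ⊤ ↔ Group.IsNilpotent G := by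
  refine ⟨fun h => ?_, fun h => top_le_iff.mp (le_fitting (Group.isNilpotent_top.mpr h))⟩
  rw [← Group.isNilpotent_top, ← h]
  infer_instance

/-! ### The layer commutes with the Fitting subgroup -/

theorem layer_commute_fitting [Finite G] : ⁅layer G, fittingSubgroup G⁆ = ⊥ :=
  layer_commute_solvable (Normal.isSubnormal inferInstance)

theorem component_commute_fitting [Finite G] {L : Subgroup G} (hL : IsComponent L) :
    ⁅L, fittingSubgroup G⁆ = ⊥ :=
  component_commute_solvable hL (Normal.isSubnormal inferInstance)

theorem layer_le_centralizer_fitting [Finite G] :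
    layer G ≤ centralizer (fittingSubgroup G : Set G) :=
  commutator_eq_bot_iff_le_centralizer.mp layer_commute_fitting

/-! ### The generalised Fitting subgroup -/

theorem fitting_le_gen : fittingSubgroup G ≤ generalizedFittingSubgroup G := le_sup_right

theorem layer_le_gen : layer G ≤ generalizedFittingSubgroup G := le_sup_left

theorem component_le_gen {L : Subgroup G} (hL : IsComponent L) :
    L ≤ generalizedFittingSubgroup G := (component_le_layer hL).trans layer_le_gen

theorem gen_map_mulEquiv (e : G ≃* G') :
    (generalizedFittingSubgroup G).map e.toMonoidHom = generalizedFittingSubgroup G' := by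
  unfold generalizedFittingSubgroup
  rw [Subgroup.map_sup, layer_map_mulEquiv, fitting_map_mulEquiv]

instance gen_characteristic : (generalizedFittingSubgroup G).Characteristic :=
  characteristic_iff_map_eq.mpr fun e => gen_map_mulEquiv e

instance gen_normal : (generalizedFittingSubgroup G).Normal := inferInstance

theorem gen_eq_fitting_iff [Finite G] :
    generalizedFittingSubgroup G = fittingSubgroup G ↔ layer G = ⊥ := by
  refine ⟨fun h => ?_, fun h => by simp [generalizedFittingSubgroup, h]⟩
  refine sSup_eq_bot.mpr fun L hL => absurd ?_ (isQuasisimple_not_le_solvable (S := fittingSubgroup G) hL.2)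
  exact h ▸ component_le_gen hL

open scoped IsMulCommutative in
/-- A minimal non-central subnormal piece of `C(F*)` would give a component. -/
theorem centralizer_gen_le [Finite G] :
    centralizer (generalizedFittingSubgroup G : Set G) ≤ generalizedFittingSubgroup G := by
  set X := generalizedFittingSubgroup G
  set C := centralizer (X : Set G)
  by_contra hCX
  set Z := C ⊓ X
  haveI hCn : C.Normal := inferInstance
  let P : Subgroup G → Prop := fun S => S.IsSubnormal ∧ S ≤ C ∧ Z ≤ S ∧ ¬ S ≤ Z
  obtain ⟨S, ⟨hS, hSC, hZS, hSZ⟩, hmin⟩ :=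
    (Set.toFinite {S : Subgroup G | P S}).exists_minimal
      ⟨C, hCn.isSubnormal, le_rfl, inf_le_left, fun h => hCX (h.trans inf_le_right)⟩
  set Z' := Z.subgroupOf S
  have hZc : Z' ≤ center S := by
    intro z hz
    rw [mem_center_iff]
    intro s
    ext
    exact ((mem_centralizer_iff.mp (hSC s.2)) z hz.2).symm
  haveI : IsMulCommutative Z' := ⟨⟨fun a b => Subtype.ext ((mem_center_iff.mp (hZc b.2)) a)⟩⟩
  haveI : Z'.Normal := Subgroup.normal_subgroupOf
  -- the dichotomy for normal subgroups of S
  have hP : ∀ N : Subgroup S, N.Normal → N ≤ Z' ∨ N ⊔ Z' = ⊤ := by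
    intro N hN
    by_cases h : N ≤ Z'
    · exact .inl h
    right
    haveI := hN
    have hZ'map : Z'.map S.subtype = Z := map_subgroupOf_eq_of_le hZS
    have hPM : P ((N ⊔ Z').map S.subtype) := by
      refine ⟨isSubnormal_map_subtype hS (Normal.isSubnormal inferInstance),
        (map_subtype_le _).trans hSC, hZ'map ▸ map_mono le_sup_right, fun hle => h ?_⟩
      intro x hx
      exact mem_subgroupOf.mpr (hle (mem_map_of_mem _ (mem_sup_left hx)))
    have h2 := hmin hPM (map_subtype_le _)
    rw [eq_top_iff]
    intro x _
    obtain ⟨y, hy, hxy⟩ := h2 x.2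
    rwa [← S.subtype_injective hxy]
  -- nilpotent subnormal subgroups of S are in Z'
  have hnil : ∀ N : Subgroup S, N.IsSubnormal → Group.IsNilpotent N → N ≤ Z' := by
    intro N hN hn x hx
    refine mem_subgroupOf.mpr ⟨hSC x.2, fitting_le_gen ?_⟩
    exact subnormal_nilpotent_le_fitting (isSubnormal_map_subtype hS hN)
      ((isNilpotent_map_subtype_iff N).mpr hn) (mem_map_of_mem _ hx)
  have hne : ¬ (⊤ : Subgroup S) ≤ Z' := fun h => hSZ fun x hx => h (mem_top ⟨x, hx⟩)
  have hD : commutator S ⊔ Z' = ⊤ := by
    refine (hP _ inferInstance).resolve_left fun h => hne (hnil _ .top ?_)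
    rw [Group.isNilpotent_top]
    apply of_quotient_center_nilpotent
    haveI : IsMulCommutative (S ⧸ center S) :=
      Normal.quotient_commutative_iff_commutator_le.mpr (h.trans hZc)
    infer_instance
  set D := commutator S
  have hDD : ⁅D, D⁆ = D := by
    rcases hP ⁅D, D⁆ inferInstance with h | h
    · exfalso
      apply hne
      rw [← hD]
      refine sup_le (hnil D (Normal.isSubnormal inferInstance) ?_) le_rfl
      apply of_quotient_center_nilpotent
      haveI : IsMulCommutative (D ⧸ center D) := by
        refine Normal.quotient_commutative_iff_commutator_le.mpr fun x hx => ?_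
        rw [mem_center_iff]
        intro y
        have hx2 : (x : S) ∈ ⁅D, D⁆ := by
          rw [← map_subtype_commutator]; exact mem_map_of_mem _ hx
        exact Subtype.ext (mem_center_iff.mp (hZc (h hx2)) y)
      infer_instance
    · exact le_antisymm (commutator_le_self _)
        (Normal.commutator_le_of_self_sup_commutative_eq_top h inferInstance)
  have hq : IsQuasisimple D := by
    refine isQuasisimple_of_normal_le_center (isPerfect_iff.mpr hDD) ?_ fun N hN => ?_
    · rw [nontrivial_iff_ne_bot]
      intro h
      rw [h, bot_sup_eq] at hD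
      exact hne hD.ge
    · haveI : (N.map D.subtype).Normal := by
        rw [← normalizer_eq_top_iff, eq_top_iff, ← hD]
        refine sup_le ?_ ((hZc.trans fun z hz => ?_))
        · have h2 := le_normalizer_map (H := N) D.subtype
          rw [normalizer_eq_top_iff.mpr hN, ← MonoidHom.range_eq_map, range_subtype] at h2
          exact h2
        · rw [mem_normalizer_iff]
          intro y
          rw [← mem_center_iff.mp hz y, mul_inv_cancel_right]
      rcases hP (N.map D.subtype) inferInstance with h | h
      · left
        intro x hx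
        rw [mem_center_iff]
        intro y
        exact Subtype.ext (mem_center_iff.mp (hZc (h (mem_map_of_mem _ hx))) y)
      · right
        have h2 : D ≤ N.map D.subtype :=
          Normal.commutator_le_of_self_sup_commutative_eq_top h inferInstance
        rw [eq_top_iff]
        intro x _
        obtain ⟨y, hy, hxy⟩ := h2 x.2
        rwa [← D.subtype_injective hxy]
  have hcomp : IsComponent (D.map S.subtype) :=
    isComponent_map_subtype hS ⟨Normal.isSubnormal inferInstance, hq⟩
  apply hne
  rw [← hD]
  refine sup_le (fun x hx => mem_subgroupOf.mpr ⟨hSC x.2, ?_⟩) le_rfl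
  exact component_le_gen hcomp (mem_map_of_mem _ hx)

theorem centralizer_fitting_le_of_layer_eq_bot [Finite G] (h : layer G = ⊥) :
    centralizer (fittingSubgroup G : Set G) ≤ fittingSubgroup G := by
  have := centralizer_gen_le (G := G)
  rwa [gen_eq_fitting_iff.mpr h] at this

theorem layer_eq_bot_of_isSolvable [Group.IsSolvable G] : layer G = ⊥ :=
  layer_eq_bot_iff.mpr fun ⟨_, hK⟩ => IsComponent.not_isSolvable hK inferInstance

theorem centralizer_fitting_le_of_solvable [Finite G] [Group.IsSolvable G] :
    centralizer (fittingSubgroup G : Set G) ≤ fittingSubgroup G :=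
  centralizer_fitting_le_of_layer_eq_bot layer_eq_bot_of_isSolvable

theorem gen_map_subtype_le [Finite G] {H : Subgroup G} (hH : H.IsSubnormal) :
    (generalizedFittingSubgroup H).map H.subtype ≤ generalizedFittingSubgroup G := by
  unfold generalizedFittingSubgroup
  rw [Subgroup.map_sup]
  exact sup_le_sup (layer_map_subtype_le hH) (fitting_map_subtype_le hH)

theorem gen_ne_bot [Finite G] [Nontrivial G] : generalizedFittingSubgroup G ≠ ⊥ := by
  intro h
  have := centralizer_gen_le (G := G)
  rw [h] at this
  obtain ⟨x, hx⟩ := exists_ne (1 : G)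
  exact hx (mem_bot.mp (this (mem_centralizer_iff.mpr fun y hy => by simp_all)))

end Cfsg.Agent.ComponentsFitting
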