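import Mathlib
import Cfsg.Prelude.Def_OddOrderLocal
import Cfsg.Agent.Lib.HallCore
import Cfsg.Agent.Lib.ComponentsFitting

/-!
The subgroup `M_F` (largest normal nilpotent Hall subgroup) and coprime elements in nilpotent groups.
-/

set_option autoImplicit false

namespace Cfsg.Agent.FittingHallBasic

open Cfsg
open scoped commutatorElement

variable {G : Type*} [Group G]

theorem commute_of_coprime_orderOf {N : Type*} [Group N] [Finite N] [h : Group.IsNilpotent N]
    {a b : N} (hab : (orderOf a).Coprime (orderOf b)) : Commute a b := by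
  revert a b
  refine Group.nilpotent_center_quotient_ind
    (P := fun M [Group M] [Group.IsNilpotent M] => ∀ {a b : M}, (orderOf a).Coprime (orderOf b) → Commute a b)
    N ?_ ?_
  · intro M _ _ a b _
    exact Subsingleton.elim _ _
  · intro N _ _ ih a b hab
    let q := QuotientGroup.mk' (Subgroup.center N)
    have hc : q ⁅a, b⁆ = 1 := by
      rw [map_commutatorElement]
      exact commutatorElement_eq_one_iff_mul_comm.mpr
        (ih ((hab.coprime_dvd_left (orderOf_map_dvd q a)).coprime_dvd_right (orderOf_map_dvd q b))).eq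
    have hcen : ⁅a, b⁆ ∈ Subgroup.center N := (QuotientGroup.eq_one_iff _).mp hc
    have hcomm : ∀ x : N, x * ⁅a, b⁆ = ⁅a, b⁆ * x := Subgroup.mem_center_iff.mp hcen
    have key : ∀ x y c : N, (∀ z : N, z * c = c * z) → x * y * x⁻¹ = c * y →
        c ^ orderOf y = 1 := by
      intro x y c hc hxy
      have h1 : (x * y * x⁻¹) ^ orderOf y = 1 := by
        have : x * y * x⁻¹ = MulAut.conj x y := rfl
        rw [this, ← map_pow, pow_orderOf_eq_one, map_one]
      rw [hxy, ((show Commute y c from hc y).symm).mul_pow, pow_orderOf_eq_one, mul_one] at h1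
      exact h1
    have h1 : ⁅a, b⁆ ^ orderOf b = 1 := key a b _ hcomm (by rw [commutatorElement_def]; group)
    have h2 : ⁅a, b⁆⁻¹ ^ orderOf a = 1 := by
      refine key b a _ (fun z => (Commute.inv_right (hcomm z)).eq) ?_
      rw [commutatorElement_def]
      group
    rw [inv_pow, inv_eq_one] at h2
    have h3 := pow_gcd_eq_one.mpr ⟨h2, h1⟩
    rw [hab, pow_one] at h3
    exact commutatorElement_eq_one_iff_mul_comm.mp h3

theorem le_fittingHall {N : Subgroup G} (hn : N.Normal) (hnil : Group.IsNilpotent N)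
    (hc : (Nat.card N).Coprime N.index) : N ≤ fittingHall G :=
  le_sSup ⟨hn, hnil, hc⟩

theorem fittingHall_le_fitting : fittingHall G ≤ fittingSubgroup G :=
  sSup_le_sSup fun _ h => ⟨h.1, h.2.1⟩

theorem fittingHall_isNilpotent [Finite G] : Group.IsNilpotent (fittingHall G) :=
  ComponentsCores.nilpotent_of_le fittingHall_le_fitting inferInstance

theorem fittingHall_coprime_index [Finite G] :
    (Nat.card (fittingHall G)).Coprime (fittingHall G).index := by
  have key : ∀ p : ℕ, p.Prime → p ∣ Nat.card (fittingHall G) → ¬ p ∣ (fittingHall G).index := by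
    intro p hp hd hdi
    have hcomp : ∀ N : Subgroup G, (N.Normal ∧ Group.IsNilpotent N ∧ (Nat.card N).Coprime N.index) →
        ¬ p ∣ Nat.card N := by
      intro N hN hpN
      have hle : N ≤ fittingHall G := le_fittingHall hN.1 hN.2.1 hN.2.2
      exact hp.not_dvd_one (hN.2.2 ▸ Nat.dvd_gcd hpN (hdi.trans (Subgroup.index_dvd_of_le hle)))
    have hP : HallCore.PiNat {p}ᶜ (Nat.card (fittingHall G)) := by
      have hle : fittingHall G ≤
          sSup {N : Subgroup G | N.Normal ∧ HallCore.PiNat {p}ᶜ (Nat.card N)} :=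
        sSup_le_sSup fun N hN =>
          ⟨hN.1, fun q _ hqN hqp => hcomp N hN (Set.mem_singleton_iff.mp hqp ▸ hqN)⟩
      exact (HallCore.sSup_normal_prop (fun N : Subgroup G => HallCore.PiNat {p}ᶜ (Nat.card N))
        (by simpa using HallCore.piNat_one ({p}ᶜ : Set ℕ))
        (fun _ B _ _ hA hB => HallCore.piNat_card_sup (B := B) hA hB)).of_dvd
          (Subgroup.card_dvd_of_le hle)
    exact hP p hp hd rfl
  rw [Nat.coprime_iff_gcd_eq_one]
  by_contra h
  obtain ⟨p, hp, hpd⟩ := Nat.exists_prime_and_dvd h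
  exact key p hp (hpd.trans (Nat.gcd_dvd_left _ _)) (hpd.trans (Nat.gcd_dvd_right _ _))

theorem fittingHallOf_le (M : Subgroup G) : fittingHallOf M ≤ M := Subgroup.map_subtype_le _

theorem fittingOf_le (M : Subgroup G) : fittingOf M ≤ M := Subgroup.map_subtype_le _

theorem fittingHallOf_le_fittingOf (M : Subgroup G) : fittingHallOf M ≤ fittingOf M :=
  Subgroup.map_mono fittingHall_le_fitting

theorem fittingOf_isNilpotent [Finite G] (M : Subgroup G) : Group.IsNilpotent (fittingOf M) :=
  (ComponentsCores.isNilpotent_map_subtype_iff _).mpr inferInstance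

theorem le_normalizer_fittingHallOf (M : Subgroup G) :
    M ≤ Subgroup.normalizer (fittingHallOf M : Set G) := by
  intro m hm
  have key : ∀ m ∈ M, ∀ x ∈ fittingHallOf M, m * x * m⁻¹ ∈ fittingHallOf M := by
    rintro m hm _ ⟨x, hx, rfl⟩
    exact ⟨⟨m, hm⟩ * x * ⟨m, hm⟩⁻¹, (fittingHall_normal M).conj_mem x hx _, rfl⟩
  rw [Subgroup.mem_normalizer_iff]
  intro x
  refine ⟨key m hm x, fun hx => ?_⟩
  simpa [mul_assoc] using key m⁻¹ (M.inv_mem hm) _ hx

theorem card_fittingHallOf (M : Subgroup G) :
    Nat.card (fittingHallOf M) = Nat.card (fittingHall M) :=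
  Nat.card_congr ((fittingHall M).equivMapOfInjective _ M.subtype_injective).toEquiv.symm

theorem relIndex_fittingHallOf (M : Subgroup G) :
    (fittingHallOf M).relIndex M = (fittingHall M).index := by
  rw [Subgroup.relIndex]
  congr 1
  exact Subgroup.comap_map_eq_self_of_injective M.subtype_injective _

theorem fittingHallOf_coprime [Finite G] (M : Subgroup G) :
    (Nat.card (fittingHallOf M)).Coprime ((fittingHallOf M).relIndex M) := by
  rw [card_fittingHallOf, relIndex_fittingHallOf]
  exact fittingHall_coprime_index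

/-- The cardinality of a complement: if `B` is a complement of the normalized subgroup `A` in `C`. -/
theorem card_compl_eq_relIndex {A B C : Subgroup G} (h : IsComplIn A B C) :
    A.relIndex C = Nat.card B := by
  obtain ⟨hA, hB, hinf, hmul⟩ := h
  have hf : Function.Injective (fun b : B => (Quotient.mk'' ⟨(b : G)⁻¹, C.inv_mem (hB b.2)⟩ :
      ↥C ⧸ A.subgroupOf C)) := by
    intro b b' hbb
    have := QuotientGroup.eq.mp hbb
    rw [Subgroup.mem_subgroupOf] at this
    simp only [Subgroup.coe_mul, InvMemClass.coe_inv, inv_inv] at this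
    have hb : (b : G) * (b' : G)⁻¹ ∈ A ⊓ B := ⟨this, B.mul_mem b.2 (B.inv_mem b'.2)⟩
    rw [hinf, Subgroup.mem_bot, mul_inv_eq_one] at hb
    exact Subtype.ext hb
  have hs : Function.Surjective (fun b : B => (Quotient.mk'' ⟨(b : G)⁻¹, C.inv_mem (hB b.2)⟩ :
      ↥C ⧸ A.subgroupOf C)) := by
    intro c
    obtain ⟨⟨c, hc⟩, rfl⟩ := QuotientGroup.mk_surjective c
    obtain ⟨a, ha, b, hb, hab⟩ := hmul c⁻¹ (C.inv_mem hc)
    refine ⟨⟨b, hb⟩, QuotientGroup.eq.mpr ?_⟩
    rw [Subgroup.mem_subgroupOf]
    simp only [Subgroup.coe_mul, InvMemClass.coe_inv, inv_inv]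
    have : b * c = a⁻¹ := by
      have hb' : b = a⁻¹ * c⁻¹ := by rw [hab]; group
      rw [hb']
      group
    rw [this]
    exact A.inv_mem ha
  exact (Nat.card_eq_of_bijective _ ⟨hf, hs⟩).symm

end Cfsg.Agent.FittingHallBasic
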