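import Cfsg.Agent.Lib.HallHigmanRep
import Cfsg.Agent.Lib.CoprimeAction
import Cfsg.Agent.Lib.PGroupsBasic
import Cfsg.Agent.Lib.FittingHallBasic

/-!
A coprime element of prime order acting without fixed points on a nilpotent group `V`: in a group of
odd order, its commutators with a normalised `q`-group centralise `V`.
-/

set_option autoImplicit false
set_option linter.style.haveILetI false

namespace Cfsg.Agent.BGCoprimeFPF

open Subgroup
open scoped commutatorElement

universe u

variable {G : Type u} [Group G] [Finite G]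

/-- The action of the automorphisms of `W` on `W ⧸ N` for a characteristic subgroup `N`. -/
noncomputable def quotAut {W : Type u} [Group W] (N : Subgroup W) [N.Normal] [N.Characteristic] :
    MulAut W →* MulAut (W ⧸ N) where
  toFun e := QuotientGroup.congr N N e (characteristic_iff_map_eq.1 inferInstance e)
  map_one' := by ext ⟨x⟩; rfl
  map_mul' e f := by ext ⟨x⟩; rfl

theorem commutator_centralizes_sylow {ℓ p q : ℕ} [Fact ℓ.Prime] (hp : p.Prime) (hq : q.Prime)
    (hp2 : p ≠ 2) (hq2 : q ≠ 2) (hpq : p ≠ q) (hℓq : ℓ ≠ q) (hℓp : ℓ ≠ p) {W R : Subgroup G} {a : G}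
    (hap : a ^ p = 1) (hW : IsPGroup ℓ W) (hR : IsPGroup q R)
    (hRW : R ≤ normalizer (W : Set G)) (haW : a ∈ normalizer (W : Set G))
    (haR : a ∈ normalizer (R : Set G)) (hfix : W ⊓ centralizer {a} = ⊥) :
    ⁅R, zpowers a⁆ ≤ centralizer (W : Set G) := by
  haveI := Fact.mk hq
  set N := frattini (W : Type u) with hN
  set H := R ⊔ zpowers a with hH
  have hHW : H ≤ normalizer (W : Set G) := sup_le hRW (zpowers_le.2 haW)
  let _ : CommGroup (W ⧸ N) :=
    { (inferInstance : Group (W ⧸ N)) with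
      mul_comm := fun x y => by
        induction x using QuotientGroup.induction_on with | _ x => ?_
        induction y using QuotientGroup.induction_on with | _ y => ?_
        rw [← QuotientGroup.mk_mul, ← QuotientGroup.mk_mul, QuotientGroup.eq]
        have h1 := PGroupsBasic.commutator_le_frattini hW
          (commutator_mem_commutator (mem_top y⁻¹) (mem_top x⁻¹))
        convert h1 using 1
        rw [commutatorElement_def]; group }
  have hexp : ∀ v : W ⧸ N, v ^ ℓ = 1 := fun v => by
    induction v using QuotientGroup.induction_on with | _ x => ?_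
    rw [← QuotientGroup.mk_pow, QuotientGroup.eq_one_iff]
    exact PGroupsBasic.pow_mem_frattini hW x
  let φ : H →* MulAut (W ⧸ N) := (quotAut N).comp (HallHigman.actOn hHW)
  let a' : H := ⟨a, mem_sup_right (mem_zpowers a)⟩
  have haR' : a' ∈ normalizer ((R.subgroupOf H : Subgroup H) : Set H) := by
    rw [mem_normalizer_iff]
    exact fun g => mem_normalizer_iff.1 haR (g : G)
  have hfixq : ∀ v : W ⧸ N, φ a' v = v → v = 1 := by
    intro v hv
    induction v using QuotientGroup.induction_on with | _ k => ?_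
    have hv' : (HallHigman.actOn hHW a' k : W)⁻¹ * k ∈ N := QuotientGroup.eq.1 hv
    set D := N.map W.subtype with hD
    have haD : a ∈ normalizer (D : Set G) :=
      ComponentsCores.normalizer_le_normalizer_map_subtype W N haW
    have hcard : (orderOf a).Coprime (Nat.card D) := by
      obtain ⟨i, hi⟩ := (hW.to_le (map_subtype_le N : D ≤ W)).exists_card_eq
      rw [hi]
      exact (((Nat.coprime_primes hp Fact.out).2 (Ne.symm hℓp)).pow_right i).coprime_dvd_left
        (orderOf_dvd_of_pow_eq_one hap)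
    obtain ⟨c, hc, hkc⟩ := CoprimeAction.exists_fixed_mem_coset_zpowers haD hcard (k : G) (by
      have h1 : ((HallHigman.actOn hHW a' k : W)⁻¹ * k : W)⁻¹ ∈ N := inv_mem hv'
      refine ⟨_, h1, ?_⟩
      simp only [mul_inv_rev, inv_inv, coe_subtype, MulMemClass.coe_mul, InvMemClass.coe_inv,
        HallHigman.actOn_coe]
      simp [a', mul_assoc])
    have hcW : c ∈ W := by
      have := W.mul_mem k.2 (map_subtype_le N hkc)
      simpa using this
    have hc1 : c ∈ W ⊓ centralizer {a} := ⟨hcW, mem_centralizer_singleton_iff.2 hc.symm⟩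
    rw [hfix, mem_bot] at hc1
    rw [hc1, mul_one] at hkc
    obtain ⟨y, hy, hyk⟩ := hkc
    rw [QuotientGroup.eq_one_iff]
    have : y = k⁻¹ := Subtype.ext hyk
    simpa [this] using hy
  -- Theorem B kills the commutators on the Frattini quotient
  set x := φ a' with hx
  set Q := (R.subgroupOf H).map φ with hQ
  have hxQ : x ∈ normalizer (Q : Set (MulAut (W ⧸ N))) := le_normalizer_map φ ⟨a', haR', rfl⟩
  have hxp : x ^ p ^ 1 = 1 := by
    rw [pow_one, hx, ← map_pow, show a' ^ p = 1 from Subtype.ext hap, map_one]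
  have hQx : Q ≤ centralizer {x ^ p ^ (1 - 1)} := by
    by_contra hnc
    obtain ⟨hE, -⟩ := HallHigman.exceptional_of_norm_trivial hexp (MonoidHom.id _) hp hq hpq hℓq
      le_rfl hxp hxQ ((hR.comap_of_injective _ H.subtype_injective).map φ) (fun u _ h => h) hnc
      (fun v => HallHigman.norm_trivial_of_fpf (MonoidHom.id (MulAut (W ⧸ N))) hxp hfixq v)
    exact hq2 (HallHigman.Exceptional.odd hE hp hp2 hq).1
  simp only [Nat.sub_self, pow_zero, pow_one] at hQx
  have hker : ∀ g ∈ ⁅R, zpowers a⁆, ∃ hg : g ∈ H, φ ⟨g, hg⟩ = 1 := by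
    have hle : ⁅R.subgroupOf H, zpowers a'⁆ ≤ φ.ker := by
      rw [commutator_le]
      intro r hr b hb
      obtain ⟨i, rfl⟩ := mem_zpowers_iff.1 hb
      rw [MonoidHom.mem_ker, map_commutatorElement, map_zpow, commutatorElement_eq_one_iff_mul_comm]
      exact ((show Commute (φ r) x from mem_centralizer_singleton_iff.1 (hQx ⟨r, hr, rfl⟩)).zpow_right i)
    intro g hg
    have hmap : ⁅R, zpowers a⁆ = (⁅R.subgroupOf H, zpowers a'⁆).map H.subtype := by
      rw [map_commutator, map_subgroupOf_eq_of_le le_sup_left, MonoidHom.map_zpowers]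
      rfl
    rw [hmap] at hg
    obtain ⟨g', hg', rfl⟩ := hg
    exact ⟨g'.2, hle hg'⟩
  have hCR : ⁅R, zpowers a⁆ ≤ R :=
    le_normalizer_iff_commutator_le_left.1 (zpowers_le.2 haR)
  refine CoprimeAction.le_centralizer_of_frattini (hCR.trans hRW) ?_ ?_
  · obtain ⟨i, hi⟩ := (hR.to_le hCR).exists_card_eq
    obtain ⟨j, hj⟩ := (hW.to_subgroup (frattini W)).exists_card_eq
    rw [hi, hj]
    exact Nat.coprime_pow_primes _ _ hq Fact.out (Ne.symm hℓq)
  · intro g hg k hk
    obtain ⟨hgH, h1⟩ := hker g hg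
    have h2 : φ ⟨g, hgH⟩ (QuotientGroup.mk (⟨k, hk⟩ : W)⁻¹) = QuotientGroup.mk (⟨k, hk⟩ : W)⁻¹ := by
      rw [h1]; rfl
    have h3 : (HallHigman.actOn hHW ⟨g, hgH⟩ (⟨k, hk⟩ : W)⁻¹)⁻¹ * (⟨k, hk⟩ : W)⁻¹ ∈ N :=
      QuotientGroup.eq.1 h2
    refine ⟨_, h3, ?_⟩
    simp only [mul_inv_rev, coe_subtype, MulMemClass.coe_mul, InvMemClass.coe_inv,
      HallHigman.actOn_coe]
    group

/-- If `a` of prime order `p` fixes no nontrivial element of the nilpotent group `V`, then `[R, a]`
centralises `V` for every `q`-group `R` normalised by `a`, `q` odd. -/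
theorem commutator_centralizes {p q : ℕ} (hp : p.Prime) (hq : q.Prime) (hp2 : p ≠ 2) (hq2 : q ≠ 2) (hpq : p ≠ q)
    {V R : Subgroup G} {a : G} (hap : a ^ p = 1) (hVn : Group.IsNilpotent V)
    (hpV : ¬ p ∣ Nat.card V) (hqV : ¬ q ∣ Nat.card V) (hR : IsPGroup q R)
    (hRV : R ≤ normalizer (V : Set G)) (haV : a ∈ normalizer (V : Set G))
    (haR : a ∈ normalizer (R : Set G)) (hfix : V ⊓ centralizer {a} = ⊥) :
    ⁅R, zpowers a⁆ ≤ centralizer (V : Set G) := by
  rw [le_centralizer_iff]
  set C := centralizer ((⁅R, zpowers a⁆ : Subgroup G) : Set G) with hC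
  have htop : C.subgroupOf V = ⊤ := by
    refine eq_top_of_le_card _ (Nat.le_of_dvd Nat.card_pos ?_)
    refine (Nat.dvd_iff_prime_pow_dvd_dvd _ _).2 fun ℓ k hℓ hk => ?_
    rcases Nat.eq_zero_or_pos k with rfl | hk0
    · simp
    haveI := Fact.mk hℓ
    have hℓV : ℓ ∣ Nat.card V := (dvd_pow_self ℓ hk0.ne').trans hk
    obtain ⟨S⟩ : Nonempty (Sylow ℓ V) := inferInstance
    haveI := hVn
    have hSn : (S : Subgroup V).Normal := Sylow.normal_of_normalizerCondition Group.normalizerCondition_of_isNilpotent S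
    haveI hSc : (S : Subgroup V).Characteristic := S.characteristic_of_normal hSn
    have hN := ComponentsCores.normalizer_le_normalizer_map_subtype V (S : Subgroup V)
    have hle := commutator_centralizes_sylow hp hq hp2 hq2 hpq (ℓ := ℓ) (fun h => hqV (h ▸ hℓV))
      (fun h => hpV (h ▸ hℓV)) hap (W := (S : Subgroup V).map V.subtype) (S.isPGroup'.map _) hR
      (hRV.trans hN) (hN haV) haR
      (le_bot_iff.1 (hfix ▸ inf_le_inf_right _ (map_subtype_le _)))
    rw [le_centralizer_iff] at hle
    have hSC : (S : Subgroup V) ≤ C.subgroupOf V := fun s hs => hle ⟨s, hs, rfl⟩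
    exact (S.pow_dvd_card_of_pow_dvd_card hk).trans (card_dvd_of_le hSC)
  exact subgroupOf_eq_top.1 htop

end Cfsg.Agent.BGCoprimeFPF
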