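import Cfsg.Agent.Lib.BGUniqueBasic
import Cfsg.Agent.Lib.OmegaCoprime

/-!
Uniqueness subgroups inside the Fitting subgroup of a maximal subgroup (Bender-Glauberman 9.4, 9.5).
-/

set_option autoImplicit false
set_option linter.style.haveILetI false

namespace Cfsg.Agent.BGFittingUnique

open Subgroup
open Cfsg.Agent.BGUnique
open scoped commutatorElement Pointwise

universe u

variable {G : Type u} [Group G] [Finite G]

theorem isSubnormal_of_nilpotent {X : Type u} [Group X] [Finite X] [Group.IsNilpotent X] :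
    ∀ (n : ℕ) (H : Subgroup X), H.index = n → H.IsSubnormal := by
  intro n
  induction n using Nat.strong_induction_on with
  | _ n ih =>
  intro H hn
  by_cases hH : H = ⊤
  · subst hH
    exact Subgroup.Normal.isSubnormal inferInstance
  have hlt := normalizerCondition_of_isNilpotent (G := X) H (lt_top_iff_ne_top.2 hH)
  haveI : (H.subgroupOf (normalizer (H : Set X))).Normal := normal_in_normalizer
  refine Subgroup.IsSubnormal.trans hlt.le (Subgroup.Normal.isSubnormal inferInstance)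
    (ih _ ?_ _ rfl)
  rw [← hn, ← relIndex_mul_index hlt.le]
  refine lt_mul_left (Nat.pos_of_ne_zero index_ne_zero_of_finite) ?_
  have h1 : H.relIndex (normalizer (H : Set X)) ≠ 1 := fun h => hlt.not_ge (relIndex_eq_one.1 h)
  have h0 : H.relIndex (normalizer (H : Set X)) ≠ 0 := HallSolvable.relIndex_ne_zero' _ _
  omega

/-- `O_q(X)` as a subgroup of `G`. -/
abbrev Oc (q : ℕ) (X : Subgroup G) : Subgroup G := (Cfsg.pCore q X).map X.subtype

omit [Finite G] in
theorem Oc_le (q : ℕ) (X : Subgroup G) : Oc q X ≤ X := map_subtype_le _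

omit [Finite G] in
theorem normalizer_le_Oc (q : ℕ) (X : Subgroup G) :
    normalizer (X : Set G) ≤ normalizer (Oc q X : Set G) :=
  haveI := HallCore.pCore_characteristic q X
  ComponentsCores.normalizer_le_normalizer_map_subtype X (Cfsg.pCore q X)

omit [Finite G] in
theorem le_normalizer_Oc (q : ℕ) (X : Subgroup G) : X ≤ normalizer (Oc q X : Set G) :=
  le_normalizer.trans (normalizer_le_Oc q X)

theorem isPGroup_Oc (q : ℕ) (X : Subgroup G) : IsPGroup q (Oc q X) :=
  (HallCore.isPGroup_pCore q X).map _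

theorem le_Oc {q : ℕ} {X Y : Subgroup G} (hY : Y ≤ X) (hn : X ≤ normalizer (Y : Set G))
    (hp : IsPGroup q Y) : Y ≤ Oc q X := by
  haveI : (Y.subgroupOf X).Normal := normal_subgroupOf_of_le_normalizer hn
  intro y hy
  exact ⟨⟨y, hY hy⟩, HallCore.le_pCore (N := Y.subgroupOf X)
    (hp.comap_of_injective _ X.subtype_injective) hy, rfl⟩

theorem le_coreOf {q : ℕ} {X Y : Subgroup G} (hY : Y ≤ X) (hn : X ≤ normalizer (Y : Set G))
    (hc : (Nat.card Y).Coprime q) : Y ≤ coreOf q X := by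
  haveI : (Y.subgroupOf X).Normal := normal_subgroupOf_of_le_normalizer hn
  intro y hy
  exact ⟨⟨y, hY hy⟩, HallCore.le_pPrimeCore (N := Y.subgroupOf X)
    (hc.coprime_dvd_left (HallCore.card_subgroupOf_dvd Y X)) hy, rfl⟩

omit [Finite G] in
theorem fittingOf_le (X : Subgroup G) : Cfsg.fittingOf X ≤ X := map_subtype_le _

theorem normalizer_le_fittingOf (X : Subgroup G) :
    normalizer (X : Set G) ≤ normalizer (Cfsg.fittingOf X : Set G) := by
  exact ComponentsCores.normalizer_le_normalizer_map_subtype X _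

theorem Oc_le_fittingOf {q : ℕ} (hq : q.Prime) (X : Subgroup G) : Oc q X ≤ Cfsg.fittingOf X :=
  map_mono (ComponentsFitting.pCore_le_fitting hq)

theorem fittingOf_isNilpotent (X : Subgroup G) : Group.IsNilpotent ↥(Cfsg.fittingOf X) := by
  haveI : Group.IsNilpotent ↥(Cfsg.fittingSubgroup X) :=
    ComponentsFitting.fittingSubgroup_isNilpotent
  exact Group.nilpotent_of_surjective ((Cfsg.fittingSubgroup X).equivMapOfInjective _
    X.subtype_injective).toMonoidHom (MulEquiv.surjective _)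

theorem mem_Oc_of_mem_fittingOf {q : ℕ} [Fact q.Prime] {X : Subgroup G} {x : G}
    (hx : x ∈ Cfsg.fittingOf X) {i : ℕ} (hi : orderOf x = q ^ i) : x ∈ Oc q X := by
  obtain ⟨y, hy, rfl⟩ := hx
  exact ⟨y, BGRankTwo.mem_pCore_of_mem_fitting hy
    ((orderOf_injective X.subtype X.subtype_injective y).symm.trans hi), rfl⟩

theorem qgroup_le_Oc {q : ℕ} [Fact q.Prime] {X Y : Subgroup G} (hY : Y ≤ Cfsg.fittingOf X)
    (hp : IsPGroup q Y) : Y ≤ Oc q X := fun y hy => by
  obtain ⟨i, hi⟩ := IsPGroup.iff_orderOf.1 hp ⟨y, hy⟩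
  rw [Subgroup.orderOf_mk] at hi
  exact mem_Oc_of_mem_fittingOf (hY hy) hi

theorem centralizer_fittingOf_le {X : Subgroup G} [Group.IsSolvable X] :
    X ⊓ centralizer (Cfsg.fittingOf X : Set G) ≤ Cfsg.fittingOf X := fun x hx =>
  ⟨⟨x, hx.1⟩, HallSolvable.centralizer_fitting_le fun y hy =>
    Subtype.ext (hx.2 y ⟨y, hy, rfl⟩), rfl⟩

/-- Centralizing every `O_s(X)` means centralizing `F(X)`. -/
theorem le_centralizer_fittingOf {X Y : Subgroup G}
    (h : ∀ s : ℕ, s.Prime → s ∣ Nat.card (Cfsg.fittingOf X) → ∀ y ∈ Y, ∀ x ∈ Oc s X, Commute x y) :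
    Y ≤ centralizer (Cfsg.fittingOf X : Set G) := by
  intro y hy
  suffices hle : Cfsg.fittingOf X ≤ centralizer ({y} : Set G) from fun x hx =>
    mem_centralizer_singleton_iff.1 (hle hx)
  refine BGRankTwo.le_of_sylow_le fun s hs x hx ⟨i, hi⟩ => ?_
  haveI := Fact.mk hs
  by_cases h0 : i = 0
  · rw [h0, pow_zero, orderOf_eq_one_iff] at hi
    rw [hi]; exact one_mem _
  refine mem_centralizer_singleton_iff.2 (h s hs ?_ y hy x (mem_Oc_of_mem_fittingOf hx hi)).eq
  exact (dvd_pow_self s h0).trans (hi ▸ orderOf_dvd_natCard _ hx)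

theorem coprime_card_of_qgroup {q n : ℕ} [Fact q.Prime] {Y : Subgroup G} (hY : IsPGroup q Y)
    (hq : ¬ q ∣ n) : (Nat.card Y).Coprime n := by
  obtain ⟨k, hk⟩ := IsPGroup.iff_card.1 hY
  rw [hk]
  exact ((Nat.Prime.coprime_iff_not_dvd Fact.out).2 hq).pow_left k

theorem coprime_of_qgroups {q r : ℕ} [Fact q.Prime] [Fact r.Prime] (hqr : q ≠ r) {Y Z : Subgroup G}
    (hY : IsPGroup q Y) (hZ : IsPGroup r Z) : (Nat.card Y).Coprime (Nat.card Z) := by
  refine coprime_card_of_qgroup hY fun h => ?_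
  obtain ⟨k, hk⟩ := IsPGroup.iff_card.1 hZ
  rw [hk] at h
  exact hqr ((Nat.prime_dvd_prime_iff_eq Fact.out Fact.out).1 ((Fact.out : q.Prime).dvd_of_dvd_pow h))

omit [Finite G] in
/-- Two subgroups normalizing each other and meeting trivially commute. -/
theorem commute_of_normalize {X Y : Subgroup G} (hXY : X ≤ normalizer (Y : Set G))
    (hYX : Y ≤ normalizer (X : Set G)) (hd : X ⊓ Y = ⊥) {x y : G} (hx : x ∈ X) (hy : y ∈ Y) :
    Commute x y := by
  have h1 : ⁅x, y⁆ ∈ X ⊓ Y := by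
    refine mem_inf.2 ⟨?_, ?_⟩
    · rw [commutatorElement_def, mul_assoc, mul_assoc, ← mul_assoc y]
      exact mul_mem hx ((mem_normalizer_iff.1 (hYX hy) _).1 (inv_mem hx))
    · rw [commutatorElement_def]
      exact mul_mem ((mem_normalizer_iff.1 (hXY hx) y).1 hy) (inv_mem hy)
  rw [hd, mem_bot, commutatorElement_eq_one_iff_mul_comm] at h1
  exact h1

theorem commute_Oc {q r : ℕ} [Fact q.Prime] [Fact r.Prime] (hqr : q ≠ r) {X : Subgroup G} {x y : G}
    (hx : x ∈ Oc q X) (hy : y ∈ Oc r X) : Commute x y :=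
  commute_of_normalize ((Oc_le q X).trans (le_normalizer_Oc r X))
    ((Oc_le r X).trans (le_normalizer_Oc q X))
    (inf_eq_bot_of_coprime (coprime_of_qgroups hqr (isPGroup_Oc q X) (isPGroup_Oc r X))) hx hy

/-- If the commutators of `x` and `a` lie in a `q`-group centralized by `a`, a `q'`-element `a`
commutes with `x`. -/
theorem commute_of_comm_mem {q : ℕ} [Fact q.Prime] {a x : G} {Q : Subgroup G} (hQ : IsPGroup q Q)
    (ha : (orderOf a).Coprime q) (hc : ∀ z ∈ Q, Commute a z) (hxa : ⁅x⁻¹, a⁆ ∈ Q) : Commute a x := by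
  obtain ⟨k, hk⟩ := hQ ⟨_, hxa⟩
  have h1 : ⁅x⁻¹, a⁆ = 1 := OmegaCoprime.eq_one_of_fixed_comm ha (x := x)
    (by rw [commutatorElement_def]; group) (mul_inv_eq_iff_eq_mul.2 (hc _ hxa).eq)
    ⟨k, by simpa using congrArg Subtype.val hk⟩
  exact (Commute.inv_left_iff.1 (commutatorElement_eq_one_iff_mul_comm.1 h1 : Commute x⁻¹ a)).symm

theorem orderOf_coprime_of_mem {q s : ℕ} [Fact q.Prime] [Fact s.Prime] (h : s ≠ q) {Y : Subgroup G}
    (hY : IsPGroup s Y) {y : G} (hy : y ∈ Y) : (orderOf y).Coprime q :=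
  (coprime_card_of_qgroup hY fun hd => h ((Nat.prime_dvd_prime_iff_eq Fact.out Fact.out).1 hd)).coprime_dvd_left
    (orderOf_dvd_natCard Y hy)

/-- A normal `r'`-subgroup of the normalizer of an `r`-subgroup of a solvable group lies in
`O_{r'}`. -/
theorem le_pPrimeCore_of_local {X : Type u} [Group X] [Finite X] [Group.IsSolvable X] {r : ℕ}
    [Fact r.Prime] {R Y : Subgroup X} (hR : IsPGroup r R) (hY : (Nat.card Y).Coprime r)
    (hYR : Y ≤ normalizer (R : Set X)) (hRY : R ≤ normalizer (Y : Set X))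
    (hC : centralizer (R : Set X) ≤ normalizer (Y : Set X)) : Y ≤ Cfsg.pPrimeCore r X := by
  haveI := HallCore.pPrimeCore_normal r X
  set O := Cfsg.pPrimeCore r X with hO
  set π := QuotientGroup.mk' O with hπ
  haveI := HallCore.pCore_normal r (X ⧸ O)
  set W := Cfsg.pCore r (X ⧸ O) with hW
  have hWp : IsPGroup r W := HallCore.isPGroup_pCore r _
  have hYb : (Nat.card (Y.map π)).Coprime r := hY.coprime_dvd_left (card_map_dvd _ _)
  have hCW : centralizer (W : Set (X ⧸ O)) ≤ W := PConstrained.centralizer_pCore_quotient_le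
    (HallSolvable.isPConstrained_of_isPSolvable (HallSolvable.isPSolvable_of_solvable r))
  have hcop' : ∀ Z : Subgroup (X ⧸ O), IsPGroup r Z → (Nat.card (Y.map π)).Coprime (Nat.card Z) := by
    intro Z hZ
    obtain ⟨n, hn⟩ := IsPGroup.iff_card.1 hZ
    rw [hn]; exact hYb.pow_right n
  have hWn : normalizer (W : Set (X ⧸ O)) = ⊤ := normalizer_eq_top_iff.mpr inferInstance
  haveI : Group.IsSolvable R := CoprimeAction.isSolvable_of_isPGroup hR
  have hfix : W ⊓ centralizer (R.map π : Set (X ⧸ O)) ≤ centralizer (Y.map π : Set (X ⧸ O)) := by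
    rintro w ⟨hwW, hwC⟩
    obtain ⟨k, rfl⟩ := QuotientGroup.mk'_surjective O w
    obtain ⟨c, hc, hck⟩ := CoprimeAction.exists_fixed_mem_coset (A := R) (D := O)
      (by rw [normalizer_eq_top_iff.mpr inferInstance]; exact le_top)
      (by
        obtain ⟨n, hn⟩ := IsPGroup.iff_card.1 hR
        rw [hn]; exact (HallCore.coprime_card_pPrimeCore r X).symm.pow_left n)
      (Or.inl inferInstance) k (fun a ha => by
        rw [← QuotientGroup.eq_one_iff (N := O), ← QuotientGroup.mk'_apply, map_mul, map_mul, map_mul,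
          map_inv, map_inv]
        have h := hwC (π a) (mem_map_of_mem π ha)
        rw [mul_assoc ((π k)⁻¹), h, ← mul_assoc, inv_mul_cancel, one_mul,
          mul_inv_cancel])
    have hkc : π k = π c := (QuotientGroup.eq.2 hck)
    rw [hkc] at hwW ⊢
    rintro _ ⟨y, hy, rfl⟩
    have h1 : π (c * y * c⁻¹) * (π y)⁻¹ ∈ W ⊓ Y.map π := by
      refine mem_inf.2 ⟨?_, mul_mem (mem_map_of_mem π ((mem_normalizer_iff.1 (hC hc) y).1 hy))
        (inv_mem (mem_map_of_mem π hy))⟩
      rw [map_mul, map_mul, map_inv, mul_assoc, mul_assoc, ← mul_assoc (π y)]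
      exact mul_mem hwW ((inferInstance : W.Normal).conj_mem _ (inv_mem hwW) _)
    rw [inf_eq_bot_of_coprime (hcop' W hWp).symm, mem_bot, mul_inv_eq_one, map_mul, map_mul,
      map_inv, mul_inv_eq_iff_eq_mul] at h1
    exact h1.symm
  have hYRb : Y.map π ≤ centralizer (R.map π : Set (X ⧸ O)) := fun y hy x hx =>
    (commute_of_normalize ((map_mono hRY).trans (le_normalizer_map π))
      ((map_mono hYR).trans (le_normalizer_map π))
      (inf_eq_bot_of_coprime (hcop' _ (hR.map π)).symm) hx hy).eq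
  have h := CoprimeGen.le_centralizer_of_prod_action hWp (hR.map π)
    (Nat.Prime.coprime_iff_not_dvd Fact.out |>.1 hYb.symm) (by rw [hWn]; exact le_top)
    (by rw [hWn]; exact le_top) hYRb hfix
  have h2 : Y.map π = ⊥ := by
    have h3 : Y.map π ≤ W := h.trans hCW
    rw [← inf_eq_left.2 h3]
    exact inf_eq_bot_of_coprime (hcop' W hWp)
  intro y hy
  have h4 : π y = 1 := mem_bot.1 (h2 ▸ mem_map_of_mem π hy)
  exact (QuotientGroup.eq_one_iff y).1 h4

/-- In a solvable `X` whose Fitting subgroup is a `π`-group, a `q`-subgroup `Q` normalized by the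
centralizers of `r`-subgroups `R r` centralizing `O_q(X)` lies in `O_q(X)`. -/
theorem le_Oc_of_locals {π : Set ℕ} {X Q : Subgroup G} [Group.IsSolvable X] {q : ℕ} [Fact q.Prime]
    (hX : ∀ s : ℕ, s.Prime → s ∉ π → Oc s X = ⊥) {R : ℕ → Subgroup G} (hQ : IsPGroup q Q)
    (hQX : Q ≤ X) {r₀ : ℕ} (hr₀ : r₀.Prime) (hr₀π : r₀ ∈ π) (hr₀q : r₀ ≠ q)
    (hR : ∀ r : ℕ, r.Prime → r ∈ π → r ≠ q → R r ≤ X ∧ IsPGroup r (R r) ∧
      X ⊓ centralizer (R r : Set G) ≤ normalizer (Q : Set G) ∧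
      (∀ a ∈ R r, ∀ y ∈ Q, Commute a y) ∧ ∀ a ∈ R r, ∀ y ∈ Oc q X, Commute a y) :
    Q ≤ Oc q X := by
  set T := X ⊓ ⨅ r : {r : ℕ // r.Prime ∧ r ∈ π ∧ r ≠ q}, coreOf r.1 X with hT
  have hTn : X ≤ normalizer (T : Set G) := by
    intro x hx
    have key : ∀ g ∈ X, ∀ t ∈ T, g * t * g⁻¹ ∈ T := fun g hg t ht =>
      mem_inf.2 ⟨mul_mem (mul_mem hg (mem_inf.1 ht).1) (inv_mem hg), mem_iInf.2 fun r =>
        CoprimeAction.conj_mem (le_normalizer_coreOf r.1 X (le_normalizer hg))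
          (mem_iInf.1 (mem_inf.1 ht).2 r)⟩
    rw [mem_normalizer_iff]
    refine fun t => ⟨key x hx t, fun h => ?_⟩
    simpa [mul_assoc] using key x⁻¹ (inv_mem hx) _ h
  have hTX : T ≤ X := inf_le_left
  -- `Q ≤ T`
  have hQT : Q ≤ T := fun y hy => mem_inf.2 ⟨hQX hy, mem_iInf.2 fun ⟨r, hr, hrπ, hrq⟩ => by
    haveI := Fact.mk hr
    obtain ⟨h1, h2, h3, h4, -⟩ := hR r hr hrπ hrq
    have hle := le_pPrimeCore_of_local (R := (R r).subgroupOf X) (Y := Q.subgroupOf X) (r := r)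
      (h2.comap_of_injective _ X.subtype_injective)
      ((coprime_card_of_qgroup hQ fun h => hrq ((Nat.prime_dvd_prime_iff_eq Fact.out hr).1 h).symm).coprime_dvd_left
        (HallCore.card_subgroupOf_dvd Q X))
      (fun y hy => centralizer_le_normalizer _ fun a ha => Subtype.ext (h4 a ha y hy).eq)
      (fun a ha => centralizer_le_normalizer _ fun y hy => Subtype.ext (h4 a ha y hy).eq.symm)
      (fun c hc => by
        have h := h3 ⟨c.2, fun a ha => congrArg Subtype.val (hc ⟨a, h1 ha⟩ ha)⟩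
        rw [mem_normalizer_iff] at h ⊢
        exact fun y => h y)
    exact (map_subgroupOf_eq_of_le hQX).ge.trans (map_mono hle) hy⟩
  -- the order of `T`
  have hTcop : ∀ r : ℕ, r.Prime → r ∈ π → r ≠ q → (Nat.card T).Coprime r := fun r hr hrπ hrq =>
    (coprime_coreOf r X).coprime_dvd_left (card_dvd_of_le fun t ht =>
      mem_iInf.1 (mem_inf.1 ht).2 ⟨r, hr, hrπ, hrq⟩)
  -- `C_T(O_q(X)) ≤ O_q(X)`
  have hCT : T ⊓ centralizer (Oc q X : Set G) ≤ Oc q X := by
    have hF : T ⊓ Cfsg.fittingOf X ≤ Oc q X := by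
      refine BGRankTwo.le_of_sylow_le fun s hs x hx ⟨i, hi⟩ => ?_
      haveI := Fact.mk hs
      have hxs := mem_Oc_of_mem_fittingOf hx.2 hi
      by_cases hsq : s = q
      · exact hsq ▸ hxs
      by_cases hsπ : s ∈ π
      · have h1 : orderOf x = 1 := Nat.eq_one_of_dvd_coprimes
          ((hTcop s hs hsπ hsq).pow_right i) (orderOf_dvd_natCard T hx.1) (dvd_of_eq hi)
        rw [orderOf_eq_one_iff.1 h1]; exact one_mem _
      · rw [hX s hs hsπ, mem_bot] at hxs
        rw [hxs]; exact one_mem _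
    refine le_trans (le_inf inf_le_left ?_) hF
    refine le_trans (le_inf (inf_le_left.trans hTX) ?_) centralizer_fittingOf_le
    refine le_centralizer_fittingOf fun s hs _ t ht x hx => ?_
    haveI := Fact.mk hs
    by_cases hsq : s = q
    · subst hsq
      exact ht.2 x hx
    by_cases hsπ : s ∈ π
    · refine (commute_of_normalize (hTX.trans (le_normalizer_Oc s X)) ((Oc_le s X).trans hTn)
        (inf_eq_bot_of_coprime ?_) ht.1 hx).symm
      obtain ⟨n, hn⟩ := IsPGroup.iff_card.1 (isPGroup_Oc s X)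
      rw [hn]; exact (hTcop s hs hsπ hsq).pow_right n
    · rw [hX s hs hsπ, mem_bot] at hx
      rw [hx]; exact Commute.one_left _
  -- `R r₀` centralizes `T`
  haveI := Fact.mk hr₀
  obtain ⟨h1, h2, h3, h4, h5⟩ := hR r₀ hr₀ hr₀π hr₀q
  have hTC : T ≤ X ⊓ centralizer (R r₀ : Set G) := fun t ht => ⟨hTX ht, fun a ha => by
    have haC : a ∈ centralizer (Oc q X : Set G) := fun y hy => (h5 a ha y hy).eq.symm
    have hmem : ⁅t⁻¹, a⁆ ∈ T ⊓ centralizer (Oc q X : Set G) := by
      refine mem_inf.2 ⟨?_, ?_⟩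
      · rw [commutatorElement_def, inv_inv, mul_assoc, mul_assoc, ← mul_assoc a]
        exact mul_mem (inv_mem ht) ((mem_normalizer_iff.1 (hTn (h1 ha)) t).1 ht)
      · rw [commutatorElement_def, inv_inv]
        refine mul_mem ?_ (inv_mem haC)
        exact (mem_normalizer_iff.1 (BGRankTwo.normalizer_le_normalizer_centralizer _
          (le_normalizer_Oc q X (hTX (inv_mem ht)))) a).1 haC |> fun h => by simpa using h
    exact (commute_of_comm_mem (isPGroup_Oc q X) (orderOf_coprime_of_mem hr₀q h2 ha)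
      (fun z hz => h5 a ha z hz) (hCT hmem)).eq⟩
  have hTQ : T ≤ normalizer (Q : Set G) := hTC.trans h3
  -- descend to `O_q`
  haveI : (T.subgroupOf X).Normal := normal_subgroupOf_of_le_normalizer hTn
  intro y hy
  have hyT := le_Oc hQT hTQ hQ hy
  obtain ⟨t, ht, rfl⟩ := hyT
  refine ⟨⟨t, hTX t.2⟩, ?_, rfl⟩
  have h6 := HallCore.map_subtype_pCore (p := q) (T.subgroupOf X)
  let e : T.subgroupOf X ≃* T := subgroupOfEquivOfLe hTX
  have h7 : e.symm t ∈ Cfsg.pCore q (T.subgroupOf X) := by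
    have := HallCore.map_equiv_pCore_le (p := q) e.symm
    exact this (mem_map_of_mem _ ht)
  exact (h6.le ⟨_, h7, rfl⟩).1

theorem commute_image {M X Y A : Subgroup G} {π : Set ℕ} {As Z : ℕ → Subgroup G}
    (hMF : M ≤ normalizer (Cfsg.fittingOf M : Set G)) (hAM : A ≤ M) (hAF : A ≤ Cfsg.fittingOf M)
    (hAs : ∀ s, As s = A ⊓ Oc s M) (hAsp : ∀ s, IsPGroup s (As s))
    (hCAs : ∀ s, s ∈ π → centralizer (As s : Set G) ≤ M)
    (hZA : ∀ s, s.Prime → Z s ≤ A) (hZO : ∀ s, Z s ≤ Oc s M)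
    (hZn : ∀ s, M ≤ normalizer (Z s : Set G)) (hCZ : ∀ s, s ∈ π → centralizer (Z s : Set G) ≤ M)
    (hV : ∀ Y : Subgroup G, Y ≤ M → A ≤ normalizer (Y : Set G) →
      (∀ s, s ∈ π → ¬ s ∣ Nat.card Y) → Y = ⊥)
    (hAX : A ≤ X) (hYX : Y ≤ X) (hAY : A ≤ normalizer (Y : Set G))
    (hYπ' : ∀ s, s ∈ π → ¬ s ∣ Nat.card Y)
    (O : Subgroup X) [O.Normal] (hOcop : ∀ s, s ∈ π → ¬ s ∣ Nat.card O)
    {q r : ℕ} (hq : q.Prime) (hqπ : q ∈ π) (hrπ : r ∈ π) (hr : r.Prime) (hrq : r ≠ q)
    (y : X) (hy : (y : G) ∈ Y) :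
    ∀ w ∈ Cfsg.pCore q (X ⧸ O), Commute w (QuotientGroup.mk' O y) := by
  set f := QuotientGroup.mk' O with hf
  haveI := Fact.mk hq
  haveI := HallCore.pCore_normal q (X ⧸ O)
  set W := Cfsg.pCore q (X ⧸ O) with hW
  have hWn : normalizer (W : Set (X ⧸ O)) = ⊤ := normalizer_eq_top_iff.mpr inferInstance
  haveI := Fact.mk hr
  have hsubX : ∀ s, As s ≤ X := fun s => (hAs s).le.trans (inf_le_left.trans hAX)
  have hstep : ((As r).subgroupOf X).map f ≤ centralizer (W : Set (X ⧸ O)) := by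
    refine CoprimeGen.le_centralizer_of_prod_action (HallCore.isPGroup_pCore q _)
      (((hAsp q).comap_of_injective _ X.subtype_injective).map f) ?_
      (by rw [hWn]; exact le_top) (by rw [hWn]; exact le_top) ?_ ?_
    · intro hd
      have h1 := hd.trans ((card_map_dvd _ f).trans (HallCore.card_subgroupOf_dvd (As r) X))
      obtain ⟨n, hn⟩ := IsPGroup.iff_card.1 (hAsp r)
      rw [hn] at h1
      exact hrq ((Nat.prime_dvd_prime_iff_eq hq hr).1 (hq.dvd_of_dvd_pow h1)).symm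
    · rintro _ ⟨a, ha, rfl⟩ _ ⟨b, hb, rfl⟩
      exact ((show Commute b a from
        Subtype.ext (commute_Oc hrq.symm ((hAs q).le hb).2 ((hAs r).le ha).2).eq).map f).eq
    · rintro w ⟨hwW, hwC⟩
      obtain ⟨k, rfl⟩ := QuotientGroup.mk'_surjective O w
      haveI : Group.IsSolvable ↥((As q).subgroupOf X) :=
        CoprimeAction.isSolvable_of_isPGroup ((hAsp q).comap_of_injective _ X.subtype_injective)
      obtain ⟨c, hc, hck⟩ := CoprimeAction.exists_fixed_mem_coset (A := (As q).subgroupOf X)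
        (D := O) (by rw [normalizer_eq_top_iff.mpr inferInstance]; exact le_top)
        (coprime_card_of_qgroup ((hAsp q).comap_of_injective _ X.subtype_injective)
          (hOcop q hqπ)) (Or.inl inferInstance) k (fun a ha => by
          rw [← QuotientGroup.eq_one_iff (N := O), ← QuotientGroup.mk'_apply, map_mul, map_mul,
            map_mul, map_inv, map_inv]
          have h := hwC (f a) (mem_map_of_mem f ha)
          rw [mul_assoc ((f k)⁻¹), h, ← mul_assoc, inv_mul_cancel, one_mul,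
            mul_inv_cancel])
      have hkc : f k = f c := QuotientGroup.eq.2 hck
      rw [hkc] at hwW ⊢
      have hcM : (c : G) ∈ M := hCAs q hqπ fun a ha =>
        congrArg Subtype.val (hc ⟨a, hsubX q ha⟩ ha)
      rintro _ ⟨a, ha, rfl⟩
      -- the commutator lies in `F` and maps into `W`
      have haF : (a : G) ∈ Cfsg.fittingOf M := hAF ((hAs r).le ha).1
      have hgF : ((⁅c⁻¹, a⁆ : X) : G) ∈ Cfsg.fittingOf M := by
        show (c : G)⁻¹ * a * (c : G)⁻¹⁻¹ * (a : G)⁻¹ ∈ Cfsg.fittingOf M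
        refine mul_mem ?_ (inv_mem haF)
        exact (mem_normalizer_iff.1 (hMF (inv_mem hcM)) _).1 haF
      have hgW : f ⁅c⁻¹, a⁆ ∈ W := by
        rw [map_commutatorElement, map_inv, commutatorElement_def, inv_inv, mul_assoc,
          mul_assoc, ← mul_assoc (f a)]
        exact mul_mem (inv_mem hwW) ((inferInstance : W.Normal).conj_mem _ hwW _)
      -- replace it by its `q`-part
      set g : X := ⁅c⁻¹, a⁆ with hg
      obtain ⟨i, hi⟩ := GlaubermanStable.exists_pow_coprime (p := q) g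
      have hgi : f g ^ q ^ i = 1 := by
        obtain ⟨j, hj⟩ := HallCore.isPGroup_pCore q _ ⟨f g ^ q ^ i, pow_mem hgW _⟩
        have h1 : orderOf (f g ^ q ^ i) ∣ q ^ j :=
          orderOf_dvd_of_pow_eq_one (by simpa using congrArg Subtype.val hj)
        have h2 : orderOf (f g ^ q ^ i) ∣ orderOf (g ^ q ^ i) := by
          rw [← map_pow]; exact orderOf_map_dvd f _
        exact orderOf_eq_one_iff.1 (Nat.eq_one_of_dvd_coprimes (hi.pow_right j) h2 h1)
      obtain ⟨m, hm⟩ := exists_pow_eq_self_of_coprime (x := f g) (n := orderOf (g ^ q ^ i))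
        ((hi.symm.pow_left i).coprime_dvd_left (orderOf_dvd_of_pow_eq_one hgi)).symm
      set g' : X := (g ^ orderOf (g ^ q ^ i)) ^ m with hg'
      have hg'O : (g' : G) ∈ Oc q M := by
        have h1 : g' ^ q ^ i = 1 := by
          rw [hg', ← pow_mul, ← pow_mul, show orderOf (g ^ q ^ i) * (m * q ^ i) =
            q ^ i * orderOf (g ^ q ^ i) * m by ring, pow_mul, pow_mul, pow_orderOf_eq_one, one_pow]
        obtain ⟨j, -, hj⟩ := (Nat.dvd_prime_pow hq).1
          (orderOf_dvd_of_pow_eq_one (x := (g' : G)) (n := q ^ i)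
            (by rw [← SubgroupClass.coe_pow, h1, OneMemClass.coe_one]))
        exact mem_Oc_of_mem_fittingOf (by
          rw [hg', SubgroupClass.coe_pow, SubgroupClass.coe_pow]
          exact pow_mem (pow_mem hgF _) m) hj
      have hfg' : f g' = f g := by
        rw [hg', map_pow, map_pow]
        exact hm
      have hca : Commute (f a) (f g) := by
        rw [← hfg']
        exact (show Commute a g' from Subtype.ext (commute_Oc hrq ((hAs r).le ha).2 hg'O).eq).map f
      obtain ⟨j, hj⟩ := HallCore.isPGroup_pCore q _ ⟨f g, hgW⟩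
      have hg1 : f g = 1 := OmegaCoprime.eq_one_of_fixed_comm
        ((orderOf_coprime_of_mem hrq (hAsp r) ha).coprime_dvd_left
          ((orderOf_map_dvd f a).trans (Subgroup.orderOf_coe a).symm.dvd))
        (x := f c) (by rw [hg, map_commutatorElement, map_inv, commutatorElement_def]; group)
        (mul_inv_eq_iff_eq_mul.2 hca.eq) ⟨j, by simpa using congrArg Subtype.val hj⟩
      have h3 : Commute (f c)⁻¹ (f a) := commutatorElement_eq_one_iff_mul_comm.1 (by
        rw [← map_inv, ← map_commutatorElement]; exact hg1)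
      exact (Commute.inv_left_iff.1 h3).eq.symm
  -- `Y = [Y, Z r] C_Y(Z r)` and `C_Y(Z r)` is trivial
  have hZrA : Z r ≤ A := hZA r hr
  have hCY : Y ⊓ centralizer (Z r : Set G) = ⊥ := by
    refine hV _ (inf_le_right.trans (hCZ r hrπ)) ?_ fun s hs hd =>
      hYπ' s hs (hd.trans (card_dvd_of_le inf_le_left))
    exact fun a ha => CoprimeAction.le_normalizer_inf (A := A) hAY
      ((hAM.trans (hZn r)).trans (BGRankTwo.normalizer_le_normalizer_centralizer _)) ha
  have hcop : (Nat.card (Z r)).Coprime (Nat.card Y) :=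
    coprime_card_of_qgroup ((isPGroup_Oc r M).to_le (hZO r)) (hYπ' r hrπ)
  haveI : Group.IsSolvable (Z r) :=
    CoprimeAction.isSolvable_of_isPGroup ((isPGroup_Oc r M).to_le (hZO r))
  have h := CoprimeAction.commutator_sup_centralizer_eq (hZrA.trans hAY) hcop (Or.inl inferInstance)
  rw [hCY, sup_bot_eq] at h
  haveI : (centralizer (W : Set (X ⧸ O))).Normal := normal_centralizer
  have hle : Y ≤ ((centralizer (W : Set (X ⧸ O))).comap f).map X.subtype := by
    rw [← h, commutator_le]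
    intro u hu z hz
    have hzX : z ∈ X := hAX (hZrA hz)
    refine ⟨⁅(⟨u, hYX hu⟩ : X), ⟨z, hzX⟩⁆, ?_, rfl⟩
    have hzC : f ⟨z, hzX⟩ ∈ centralizer (W : Set (X ⧸ O)) :=
      hstep (mem_map_of_mem f (show (⟨z, hzX⟩ : X) ∈ (As r).subgroupOf X from
        (hAs r).ge ⟨hZrA hz, hZO r hz⟩))
    rw [SetLike.mem_coe, mem_comap, map_commutatorElement, commutatorElement_def]
    exact mul_mem (Subgroup.Normal.conj_mem inferInstance _ hzC _) (inv_mem hzC)
  obtain ⟨y', hy', hyy⟩ := hle hy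
  rw [show y' = y from X.subtype_injective hyy] at hy'
  exact fun w hw => (hy' w hw : w * f y = f y * w)

variable (hG : Cfsg.IsMinSimpleOddOrder G)
include hG

theorem normalizer_eq_of_normal {M D : Subgroup G} (hM : IsCoatom M) (hD : D ≠ ⊥)
    (hD' : D ≠ ⊤) (hMD : M ≤ normalizer (D : Set G)) : normalizer (D : Set G) = M := by
  by_contra hne
  exact BGTransitivity.normalizer_ne_top hG hD hD' (hM.2 _ (lt_of_le_of_ne hMD (Ne.symm hne)))

theorem normalizer_Oc_eq {M : Subgroup G} (hM : IsCoatom M) {q : ℕ} (h : Oc q M ≠ ⊥) :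
    normalizer (Oc q M : Set G) = M :=
  normalizer_le_of_coatom hG hM h (Oc_le q M) (le_normalizer_Oc q M)

theorem fittingOf_ne_bot {H : Subgroup G} (hH : H ≠ ⊤) (h0 : H ≠ ⊥) : Cfsg.fittingOf H ≠ ⊥ := by
  haveI := isSolvable_of_ne_top hG hH
  intro h
  have hle := centralizer_fittingOf_le (X := H)
  rw [h, show centralizer ((⊥ : Subgroup G) : Set G) = ⊤ from top_le_iff.1 fun x _ y hy => by
    rw [SetLike.mem_coe, mem_bot] at hy; rw [hy, one_mul, mul_one], inf_top_eq] at hle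
  exact h0 (le_bot_iff.1 hle)

/-- Theorem 9.4 (b). -/
theorem unique_of_fitting_pgroup {M : Subgroup G} (hM : IsCoatom M) {p : ℕ} [Fact p.Prime]
    (hF : IsPGroup p (Cfsg.fittingOf M)) (hF0 : Cfsg.fittingOf M ≠ ⊥) {P : Subgroup G}
    (hP : IsMaxP p P M) : IsMaxP p P ⊤ ∧ ∀ A : Subgroup G, Cfsg.IsSCN P A → ¬ Cfsg.PRankLE p 2 A →
      A ≤ Cfsg.fittingOf M ∧ Cfsg.InUniqueMaximal A := by
  haveI := isSolvable_of_ne_top hG hM.1
  set F := Cfsg.fittingOf M with hFdef
  have hp2 : p ≠ 2 := prime_ne_two hG ((dvd_card_of_ne_bot hF hF0).trans (card_subgroup_dvd_card F))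
  have hMF : M ≤ normalizer (F : Set G) := le_normalizer.trans (normalizer_le_fittingOf M)
  have hNF := normalizer_le_of_coatom hG hM hF0 (fittingOf_le M) hMF
  have hO : coreOf p M = ⊥ := by
    have hle : coreOf p M ≤ F := by
      refine le_trans (le_inf (coreOf_le p M) (show coreOf p M ≤ centralizer (F : Set G) from
        fun x hx y hy => ?_)) centralizer_fittingOf_le
      refine (commute_of_normalize ((fittingOf_le M).trans (le_normalizer.trans (le_normalizer_coreOf p M)))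
        ((coreOf_le p M).trans hMF) (inf_eq_bot_of_coprime ?_) hy hx).eq
      obtain ⟨n, hn⟩ := IsPGroup.iff_card.1 hF
      rw [hn]; exact (coprime_coreOf p M).symm.pow_left n
    rw [← inf_eq_left.2 hle]
    refine inf_eq_bot_of_coprime ?_
    obtain ⟨n, hn⟩ := IsPGroup.iff_card.1 hF
    rw [hn]; exact (coprime_coreOf p M).pow_right n
  have hFP : F ≤ P := by
    obtain ⟨S, hS⟩ := hP.exists_sylow
    rw [← hS]
    exact (qgroup_le_Oc le_rfl hF).trans (map_mono (HallCore.pCore_le_sylow S))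
  have hP0 : P ≠ ⊥ := fun h => hF0 (le_bot_iff.1 (h ▸ hFP))
  have hNW : normalizer (GlaubermanZJ.thomY 0 P : Set G) = M := by
    have h := sup_W hG hp2 hM.1 hP
    rw [hO, bot_sup_eq] at h
    exact normalizer_le_of_coatom hG hM (GlaubermanZJ.thomY_ne_bot (Or.inl rfl) hP.isPGroup hP0)
      ((GlaubermanZJ.thomY_le P).trans hP.le) (h.trans inf_le_left)
  have hPG : IsMaxP p P ⊤ := by
    by_contra h
    obtain ⟨Q, hPQ, -, hQ⟩ := card_lt_of_not_max hP.isPGroup le_top h
    have h1 := lt_inf_normalizer hQ hPQ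
    exact h1.ne' (hP.eq_of_le _ h1.le
      (inf_le_right.trans ((GlaubermanZJ.normalizer_le_thomY P).trans hNW.le)) (hQ.to_le inf_le_left))
  refine ⟨hPG, fun A hA hA3 => ?_⟩
  have hAp : IsPGroup p A := hP.isPGroup.to_le hA.1
  have hAc := isMulCommutative_of_SCN hA
  have hAM : A ≤ M := hA.1.trans hP.le
  have hAF : A ≤ F := by
    obtain ⟨S, hS⟩ := hP.exists_sylow
    have h2 := S1457.result (odd_card_subgroup hG M) p S (A.subgroupOf M)
      (fun a ha => by
        obtain ⟨b, hb, hba⟩ := hS.ge (hA.1 ha)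
        exact M.subtype_injective hba ▸ hb)
      ⟨⟨fun u v => Subtype.ext (Subtype.ext
        (PGroupsBasic.comm_of_isMulCommutative hAc u.2 v.2))⟩⟩
      (fun s hs => by
        have := hA.2.1 (hS.le (mem_map_of_mem M.subtype hs))
        rw [mem_normalizer_iff] at this ⊢
        exact fun t => this t)
    haveI := HallCore.pPrimePCore_normal p M
    have h3 : IsPGroup p (Cfsg.pPrimePCore p M) := by
      obtain ⟨k, hk⟩ := HallCore.relIndex_pPrimePCore p M
      rw [show Cfsg.pPrimeCore p M = ⊥ from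
        (map_eq_bot_iff_of_injective _ M.subtype_injective).1 hO, relIndex_bot_left] at hk
      exact IsPGroup.of_card hk
    intro a ha
    exact Oc_le_fittingOf Fact.out M ⟨⟨a, hAM ha⟩, HallCore.le_pCore h3 (h2 ha), rfl⟩
  have hA0 : A ≠ ⊥ := fun h => hA3 (h ▸ fun E _ _ => by
    rw [Subsingleton.elim E ⊥, Subgroup.card_bot]
    exact Nat.one_le_pow _ _ (Fact.out : p.Prime).pos)
  have hpA := dvd_card_of_ne_bot hAp hA0
  obtain ⟨SG, hSG⟩ := hPG.exists_sylow_top
  have htr := S1396.result hG p (hpA.trans (card_subgroup_dvd_card A)) A hAp hAc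
    (Or.inr ⟨SG, by rw [hSG]; exact hA, fun h => hA3 fun E hE hEp => (h E hE hEp).trans
      (Nat.pow_le_pow_right (Fact.out : p.Prime).pos (by omega))⟩)
  refine ⟨hAF, unique_of_invariant hG hp2 hM hAM hAp hA0 fun Y hY hAY => ?_⟩
  refine (le_bot_iff.1 ?_ : Y = ⊥).le.trans bot_le
  refine le_of_invariant_qgroups hAp hY hAY fun q hq hqp Q hQ hAQ _ => ?_
  haveI := Fact.mk hq
  have hqA : ¬ q ∣ Nat.card A := by
    obtain ⟨n, hn⟩ := IsPGroup.iff_card.1 hAp
    rw [hn]
    exact fun h => hqp ((Nat.prime_dvd_prime_iff_eq hq Fact.out).1 (hq.dvd_of_dvd_pow h))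
  have hZ : ¬ Cfsg.RankLE 2 ↥(A ⊓ centralizer (A : Set G)) := by
    rw [inf_eq_left.2 (PGroupsBasic.le_centralizer_of_isMulCommutative hAc)]
    exact fun h => hA3 (h p Fact.out)
  haveI : (A.subgroupOf F).Normal := normal_subgroupOf_of_le_normalizer (hFP.trans hA.2.1)
  obtain ⟨huniq, hsub, -⟩ := BGTransitivity.theorem_7_5 hG htr hqA (P := F)
    (BGTransitivity.qgroup_ne_top hG hF)
    (fun r hr' hd => by
      obtain ⟨n, hn⟩ := IsPGroup.iff_card.1 hF
      rw [hn] at hd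
      rw [(Nat.prime_dvd_prime_iff_eq hr' Fact.out).1 (hr'.dvd_of_dvd_pow hd)]
      exact hpA) hAF (Subgroup.Normal.isSubnormal inferInstance)
    (fun Q₁ h₁ Q₂ h₂ => BGTransitivity.conj_of_rank_three hG htr hqA hZ h₁ h₂)
  obtain ⟨Q₀, hQ₀, -⟩ := BGTransitivity.exists_maxInv_ge (A := F) (q := q) (R := ⊥)
    IsPGroup.of_bot (by rw [normalizer_eq_top_iff.mpr inferInstance]; exact le_top)
  have hcore : BGTransitivity.coprimeCore A (centralizer (F : Set G)) = ⊥ := by
    have hle : centralizer (F : Set G) ≤ F := le_trans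
      (le_inf ((centralizer_le_normalizer _).trans hNF.le) le_rfl) centralizer_fittingOf_le
    by_contra hne
    obtain ⟨n, hn⟩ := IsPGroup.iff_card.1
      (hF.to_le ((BGTransitivity.piCoreOf_le _ _).trans hle) :
        IsPGroup p ↥(BGTransitivity.coprimeCore A (centralizer (F : Set G))))
    have hh := BGTransitivity.piNat_card_piCoreOf (Cfsg.primesNotDvd (Nat.card A))
      (centralizer (F : Set G)) p Fact.out (dvd_card_of_ne_bot (IsPGroup.of_card hn) hne)
    exact hh.2 hpA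
  have hMQ : M ≤ normalizer (Q₀ : Set G) := by
    intro m hm
    obtain ⟨k, hk, hQk⟩ := huniq Q₀ hQ₀ _ (BGTransitivity.maxInv_conj (hMF hm) hQ₀)
    rw [hcore, mem_bot] at hk
    rw [hk, map_one, one_smul] at hQk
    exact CoprimeAction.mem_normalizer_of_conj_smul_eq hQk
  have hQ₀0 : Q₀ = ⊥ := by
    by_contra hne
    have hN := normalizer_eq_of_normal hG hM hne
      (BGTransitivity.qgroup_ne_top hG (BGTransitivity.isPGroup_of_mem hQ₀)) hMQ
    exact hne (le_bot_iff.1 (hO ▸ le_coreOf (le_normalizer.trans hN.le) hMQ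
      (coprime_card_of_qgroup (BGTransitivity.isPGroup_of_mem hQ₀)
        fun h => hqp ((Nat.prime_dvd_prime_iff_eq hq Fact.out).1 h))))
  obtain ⟨Q₁, hQ₁, hQQ₁⟩ := BGTransitivity.exists_maxInv_ge (A := A) hQ hAQ
  exact hQQ₁.trans (BGTransitivity.eq_bot_of_maxInv_bot (hQ₀0 ▸ hsub hQ₀) hQ₁).le

/-- Theorem 9.4 (a). -/
theorem unique_of_fitting_not_pgroup {M : Subgroup G} (hM : IsCoatom M) {p : ℕ} [Fact p.Prime]
    {A₀ : Subgroup G} (hA₀ : A₀ ≤ Cfsg.fittingOf M) (hA₀e : Cfsg.IsElementaryAbelian p A₀)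
    (hA₀3 : p ^ 3 ≤ Nat.card A₀) (hFnp : ¬ IsPGroup p (Cfsg.fittingOf M)) :
    Cfsg.InUniqueMaximal (Cfsg.fittingOf M ⊓ centralizer (A₀ : Set G)) := by
  have hp : p.Prime := Fact.out
  haveI := isSolvable_of_ne_top hG hM.1
  set F := Cfsg.fittingOf M with hFdef
  set A := F ⊓ centralizer (A₀ : Set G) with hA
  set π : Set ℕ := {r | r.Prime ∧ r ∣ Nat.card F} with hπ
  set Z : ℕ → Subgroup G := fun s => Oc s M ⊓ centralizer (Oc s M : Set G) with hZ
  set As : ℕ → Subgroup G := fun s => A ⊓ Oc s M with hAs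
  have hFM : F ≤ M := fittingOf_le M
  have hAM : A ≤ M := inf_le_left.trans hFM
  have hMF : M ≤ normalizer (F : Set G) := le_normalizer.trans (normalizer_le_fittingOf M)
  have hA₀p := PGroupsBasic.isPGroup_of_isElementaryAbelian hA₀e
  have hA₀O : A₀ ≤ Oc p M := qgroup_le_Oc hA₀ hA₀p
  have hA₀A : A₀ ≤ A := le_inf hA₀ (PGroupsBasic.le_centralizer_of_isMulCommutative hA₀e.1)
  have hA₀0 : A₀ ≠ ⊥ := fun h => by
    rw [h, card_bot] at hA₀3
    exact absurd ((one_lt_pow₀ hp.one_lt (by omega : (3 : ℕ) ≠ 0)).trans_le hA₀3) (lt_irrefl _)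
  have hpπ : p ∈ π := ⟨hp, (dvd_card_of_ne_bot hA₀p hA₀0).trans (card_dvd_of_le hA₀)⟩
  have hOne : ∀ s, s ∈ π → Oc s M ≠ ⊥ := by
    rintro s ⟨hs, hd⟩ h0
    haveI := Fact.mk hs
    obtain ⟨x, hx⟩ := exists_prime_orderOf_dvd_card' (G := F) s hd
    have := mem_Oc_of_mem_fittingOf (X := M) x.2 (i := 1) (by rw [pow_one, Subgroup.orderOf_coe, hx])
    rw [h0, mem_bot] at this
    rw [show x = 1 from Subtype.ext this, orderOf_one] at hx
    exact hs.one_lt.ne hx
  have hOA : ∀ s, s.Prime → s ≠ p → Oc s M ≤ A := fun s hs hsp => by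
    haveI := Fact.mk hs
    exact le_inf (Oc_le_fittingOf hs M) fun x hx a ha => (commute_Oc hsp hx (hA₀O ha)).eq.symm
  have hZA : ∀ s, s.Prime → Z s ≤ A := fun s hs => by
    by_cases hsp : s = p
    · subst hsp
      exact le_inf (inf_le_left.trans (Oc_le_fittingOf hs M))
        fun x hx a ha => (hx.2 a (hA₀O ha))
    · exact inf_le_left.trans (hOA s hs hsp)
  have hZn : ∀ s, M ≤ normalizer (Z s : Set G) := fun s x hx =>
    CoprimeAction.le_normalizer_inf (A := M) (le_normalizer_Oc s M)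
      ((le_normalizer_Oc s M).trans (BGRankTwo.normalizer_le_normalizer_centralizer _)) hx
  have hZ0 : ∀ s, s ∈ π → Z s ≠ ⊥ := by
    intro s hs h0
    haveI := Fact.mk hs.1
    haveI : Nontrivial (Oc s M) := (nontrivial_iff_ne_bot _).mpr (hOne s hs)
    haveI := (isPGroup_Oc s M).center_nontrivial
    obtain ⟨z, hz⟩ := exists_ne (1 : center (Oc s M))
    have hmem : ((z : Oc s M) : G) ∈ Z s :=
      ⟨(z : Oc s M).2, fun y hy => congrArg Subtype.val (mem_center_iff.1 z.2 ⟨y, hy⟩)⟩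
    rw [h0, mem_bot] at hmem
    exact hz (Subtype.ext (Subtype.ext hmem))
  have hCZ : ∀ s, s ∈ π → centralizer (Z s : Set G) ≤ M := fun s hs =>
    (centralizer_le_normalizer _).trans
      (normalizer_le_of_coatom hG hM (hZ0 s hs) (inf_le_left.trans (Oc_le s M)) (hZn s)).le
  have hCAs : ∀ s, s ∈ π → centralizer (As s : Set G) ≤ M := fun s hs =>
    (centralizer_le (fun z hz => ⟨hZA s hs.1 hz, hz.1⟩ : Z s ≤ As s)).trans (hCZ s hs)
  have hAsp : ∀ s, IsPGroup s (As s) := fun s => (isPGroup_Oc s M).to_le inf_le_right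
  have hex : ∀ q : ℕ, ∃ r, r ∈ π ∧ r ≠ q := by
    intro q
    by_cases hpq : p = q
    · subst hpq
      by_contra hne
      push Not at hne
      refine hFnp (IsPGroup.of_card (n := (Nat.card F).primeFactorsList.length) ?_)
      exact Nat.eq_prime_pow_of_unique_prime_dvd Nat.card_pos.ne' fun {d} hd hdvd => hne d ⟨hd, hdvd⟩
    · exact ⟨p, hpπ, hpq⟩
  -- `A × B` on `O_p(M)`
  have hprod : ∀ Y : Subgroup G, Y ≤ M → ¬ p ∣ Nat.card Y →
      Y ≤ centralizer (As p : Set G) → Y ≤ centralizer (Oc p M : Set G) := by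
    intro Y hYM hYp hYc
    refine CoprimeGen.le_centralizer_of_prod_action (isPGroup_Oc p M) (hAsp p) hYp
      (hYM.trans (le_normalizer_Oc p M)) (inf_le_right.trans le_normalizer) hYc ?_
    intro x hx y hy
    have hxA : x ∈ As p := ⟨⟨Oc_le_fittingOf hp M hx.1, fun a ha => hx.2 a ⟨hA₀A ha, hA₀O ha⟩⟩, hx.1⟩
    exact (hYc hy x hxA).symm
  -- invariant `π'`-subgroups of `M` are trivial
  have hV : ∀ Y : Subgroup G, Y ≤ M → A ≤ normalizer (Y : Set G) →
      (∀ s, s ∈ π → ¬ s ∣ Nat.card Y) → Y = ⊥ := by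
    intro Y hYM hAY hYπ
    have hYF : Y ⊓ F = ⊥ := inf_eq_bot_of_coprime (Nat.coprime_of_dvd fun s hs h1 h2 =>
      hYπ s ⟨hs, h2⟩ h1)
    have hcomm : ∀ a ∈ A, ∀ y ∈ Y, Commute a y := fun a ha y hy => by
      have h1 : ⁅a, y⁆ ∈ Y ⊓ F := by
        refine mem_inf.2 ⟨?_, ?_⟩
        · rw [commutatorElement_def]
          exact mul_mem ((mem_normalizer_iff.1 (hAY ha) y).1 hy) (inv_mem hy)
        · rw [commutatorElement_def, mul_assoc, mul_assoc, ← mul_assoc y]
          exact mul_mem ha.1 ((mem_normalizer_iff.1 (hMF (hYM hy)) _).1 (inv_mem ha.1))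
      rw [hYF, mem_bot, commutatorElement_eq_one_iff_mul_comm] at h1
      exact h1
    have hle : Y ≤ centralizer (F : Set G) := le_centralizer_fittingOf fun s hs hd y hy x hx => by
      haveI := Fact.mk hs
      by_cases hsp : s = p
      · subst hsp
        exact hprod Y hYM (hYπ s hpπ) (fun y hy a ha => (hcomm a ha.1 y hy).eq) hy x hx
      · exact hcomm x (hOA s hs hsp hx) y hy
    have h2 : Y ≤ Y ⊓ F := le_inf le_rfl ((le_inf hYM hle).trans centralizer_fittingOf_le)
    exact le_bot_iff.1 (hYF ▸ h2)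
  have hA0 : A ≠ ⊥ := fun h => hA₀0 (le_bot_iff.1 (h ▸ hA₀A))
  have hdvd : ∀ r, r.Prime → (r ∣ Nat.card A ↔ r ∈ π) := fun r hr => by
    haveI := Fact.mk hr
    refine ⟨fun h => ⟨hr, h.trans (card_dvd_of_le inf_le_left)⟩, fun h => ?_⟩
    exact (dvd_card_of_ne_bot ((isPGroup_Oc r M).to_le inf_le_left) (hZ0 r h)).trans
      (card_dvd_of_le (hZA r hr))
  -- the transitivity hypothesis
  have htr : Cfsg.TransitivityHypothesis A := by
    refine ⟨hA0, fun h => hM.1 (top_le_iff.1 (h ▸ hAM)), fun X hX hAX => ?_⟩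
    set π' := Cfsg.primesNotDvd (Nat.card A) with hπ'
    refine le_antisymm (sSup_le fun Y hY => ?_) (le_sSup ⟨BGTransitivity.piCoreOf_le _ _,
      BGTransitivity.piNat_card_piCoreOf _ _, hAX.trans (le_normalizer.trans
        (BGTransitivity.normalizer_le_normalizer_piCoreOf _ _))⟩)
    obtain ⟨hYX, hYπ, hAY⟩ := hY
    have hYπ' : ∀ s, s ∈ π → ¬ s ∣ Nat.card Y := fun s hs hd =>
      (hYπ s hs.1 hd).2 ((hdvd s hs.1).2 hs)
    haveI := isSolvable_of_ne_top hG hX
    set O := Cfsg.piCore π' X with hO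
    set f := QuotientGroup.mk' O with hf
    have hOcop : ∀ s, s ∈ π → ¬ s ∣ Nat.card O := fun s hs hd =>
      (HallCore.piNat_card_piCore π' X s hs.1 hd).2 ((hdvd s hs.1).2 hs)
    -- for `q ∈ π`, `Y` centralizes `O_q`
    have hkey : ∀ q : ℕ, q.Prime → q ∈ π → ∀ y : X, (y : G) ∈ Y →
        ∀ w ∈ Cfsg.pCore q (X ⧸ O), Commute w (f y) := by
      intro q hq hqπ y hy
      obtain ⟨r, hrπ, hrq⟩ := hex q
      exact commute_image hMF hAM inf_le_left (fun _ => rfl) hAsp hCAs hZA (fun _ => inf_le_left)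
        hZn hCZ hV hAX hYX hAY hYπ' O hOcop hq hqπ hrπ hrπ.1 hrq y hy
    -- so the image of `Y` centralizes the Fitting subgroup of the quotient
    intro y hy
    have h1 : f ⟨y, hYX hy⟩ ∈ Cfsg.fittingSubgroup (X ⧸ O) := by
      refine HallSolvable.centralizer_fitting_le fun z hz => ?_
      rw [SetLike.mem_coe, ComponentsFitting.fittingSubgroup_eq_iSup] at hz
      have hle : (⨆ q : (Nat.card (X ⧸ O)).primeFactors, Cfsg.pCore q (X ⧸ O)) ≤
          centralizer ({f ⟨y, hYX hy⟩} : Set (X ⧸ O)) := by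
        refine iSup_le fun q w hw => mem_centralizer_singleton_iff.2 ?_
        have hq := Nat.prime_of_mem_primeFactors q.2
        haveI := Fact.mk hq
        by_cases hqπ : (q : ℕ) ∈ π
        · exact (hkey q hq hqπ ⟨y, hYX hy⟩ hy w hw).eq
        · have h0 : Cfsg.pCore (q : ℕ) (X ⧸ O) ≤ Cfsg.piCore π' (X ⧸ O) := by
            haveI := HallCore.pCore_normal (q : ℕ) (X ⧸ O)
            refine HallCore.le_piCore fun s hs hd => ?_
            obtain ⟨n, hn⟩ := IsPGroup.iff_card.1 (HallCore.isPGroup_pCore (q : ℕ) (X ⧸ O))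
            rw [hn] at hd
            rw [(Nat.prime_dvd_prime_iff_eq hs hq).1 (hs.dvd_of_dvd_pow hd)]
            exact ⟨hq, fun h => hqπ ((hdvd _ hq).1 h)⟩
          have h2 : Cfsg.piCore π' (X ⧸ O) = ⊥ := HallCore.piCore_quotient_self
          have := h0 hw
          rw [h2, mem_bot] at this
          rw [this, one_mul, mul_one]
      exact mem_centralizer_singleton_iff.1 (hle hz)
    have h2 : f ⟨y, hYX hy⟩ = 1 := by
      by_contra hne
      set z := f ⟨y, hYX hy⟩ with hz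
      obtain ⟨s, hs, hsd⟩ := Nat.exists_prime_and_dvd (fun h => hne (orderOf_eq_one_iff.1 h) :
        orderOf z ≠ 1)
      haveI := Fact.mk hs
      have hd : orderOf z ∣ Nat.card Y := by
        refine (orderOf_map_dvd f _).trans ?_
        rw [Subgroup.orderOf_mk]; exact orderOf_dvd_natCard Y hy
      have hsπ : s ∉ π := fun h => hYπ' s h (hsd.trans hd)
      have hzs : orderOf (z ^ (orderOf z / s)) = s := orderOf_pow_orderOf_div (orderOf_pos z).ne' hsd
      have h3 := BGRankTwo.mem_pCore_of_mem_fitting (pow_mem h1 (orderOf z / s))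
        (i := 1) (by rw [pow_one, hzs])
      have h4 : Cfsg.pCore s (X ⧸ O) ≤ Cfsg.piCore π' (X ⧸ O) := by
        haveI := HallCore.pCore_normal s (X ⧸ O)
        refine HallCore.le_piCore fun t ht hdt => ?_
        obtain ⟨n, hn⟩ := IsPGroup.iff_card.1 (HallCore.isPGroup_pCore s (X ⧸ O))
        rw [hn] at hdt
        rw [(Nat.prime_dvd_prime_iff_eq ht hs).1 (ht.dvd_of_dvd_pow hdt)]
        exact ⟨hs, fun h => hsπ ((hdvd _ hs).1 h)⟩
      have h5 := h4 h3
      rw [show Cfsg.piCore π' (X ⧸ O) = ⊥ from HallCore.piCore_quotient_self, mem_bot] at h5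
      rw [h5, orderOf_one] at hzs
      exact hs.one_lt.ne hzs
    exact ⟨⟨y, hYX hy⟩, (QuotientGroup.eq_one_iff _).1 h2, rfl⟩
  -- invariant `q`-subgroups for `q ∉ π`
  have hCA : centralizer (A : Set G) ≤ M := (centralizer_le (hZA p hp)).trans (hCZ p hpπ)
  have hcent : BGTransitivity.centCore A = ⊥ := by
    refine hV _ ((BGTransitivity.piCoreOf_le _ _).trans hCA)
      (BGTransitivity.le_normalizer_piCoreOf _ (le_normalizer.trans
        (BGRankTwo.normalizer_le_normalizer_centralizer A))) fun s hs hd =>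
      (BGTransitivity.piNat_card_piCoreOf _ _ s hs.1 hd).2 ((hdvd s hs.1).2 hs)
  have hmax : ∀ q, q.Prime → q ∉ π → ∀ Q : Subgroup G, IsPGroup q Q →
      A ≤ normalizer (Q : Set G) → Q = ⊥ := by
    intro q hq hqπ Q hQ hAQ
    haveI := Fact.mk hq
    have hqA : ¬ q ∣ Nat.card A := fun h => hqπ ((hdvd q hq).1 h)
    have hZ3 : ¬ Cfsg.RankLE 2 ↥(A ⊓ centralizer (A : Set G)) := fun h => by
      have hle : A₀ ≤ A ⊓ centralizer (A : Set G) :=
        le_inf hA₀A fun a ha x hx => ((hx : x ∈ A).2 a ha).symm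
      have h1 := h p hp (A₀.subgroupOf _) ⟨⟨fun u v => Subtype.ext (Subtype.ext
        (PGroupsBasic.comm_of_isMulCommutative hA₀e.1 u.2 v.2))⟩⟩
        fun u hu => Subtype.ext (by rw [SubgroupClass.coe_pow]; exact hA₀e.2 _ hu)
      rw [Nat.card_congr (subgroupOfEquivOfLe hle).toEquiv] at h1
      exact absurd ((Nat.pow_le_pow_iff_right hp.one_lt).1 (hA₀3.trans h1)) (by omega)
    have hcj : ∀ Q₁ ∈ BGTransitivity.maxInv A q, ∀ Q₂ ∈ BGTransitivity.maxInv A q, Q₂ = Q₁ := by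
      intro Q₁ h₁ Q₂ h₂
      obtain ⟨k, hk, rfl⟩ := BGTransitivity.conj_of_rank_three hG htr hqA hZ3 h₁ h₂
      rw [hcent, mem_bot] at hk
      rw [hk, map_one, one_smul]
    haveI := fittingOf_isNilpotent M
    obtain ⟨-, hsub, -⟩ := BGTransitivity.theorem_7_5 hG htr hqA (P := F)
      (fun h => hM.1 (top_le_iff.1 (h ▸ hFM)))
      (fun r hr hd => (hdvd r hr).2 ⟨hr, hd⟩) inf_le_left (isSubnormal_of_nilpotent _ _ rfl)
      (fun Q₁ h₁ Q₂ h₂ => BGTransitivity.conj_of_rank_three hG htr hqA hZ3 h₁ h₂)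
    obtain ⟨Q₀, hQ₀, -⟩ := BGTransitivity.exists_maxInv_ge (A := F) (q := q) (R := ⊥)
      IsPGroup.of_bot (by rw [normalizer_eq_top_iff.mpr inferInstance]; exact le_top)
    have hMQ : M ≤ normalizer (Q₀ : Set G) := fun m hm =>
      CoprimeAction.mem_normalizer_of_conj_smul_eq
        (hcj _ (hsub hQ₀) _ (hsub (BGTransitivity.maxInv_conj (hMF hm) hQ₀)))
    have hQ₀0 : Q₀ = ⊥ := by
      by_contra hne
      have hN := normalizer_eq_of_normal hG hM hne
        (BGTransitivity.qgroup_ne_top hG (BGTransitivity.isPGroup_of_mem hQ₀)) hMQ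
      refine hne (hV Q₀ (le_normalizer.trans hN.le)
        (BGTransitivity.normalizes_of_mem (hsub hQ₀)) fun s hs hd => hqπ ?_)
      obtain ⟨n, hn⟩ := IsPGroup.iff_card.1 (BGTransitivity.isPGroup_of_mem hQ₀)
      rw [hn] at hd
      exact (Nat.prime_dvd_prime_iff_eq hs.1 hq).1 (hs.1.dvd_of_dvd_pow hd) ▸ hs
    obtain ⟨Q₁, hQ₁, hQQ₁⟩ := BGTransitivity.exists_maxInv_ge (A := A) hQ hAQ
    rw [hcj _ (hsub hQ₀) _ hQ₁, hQ₀0] at hQQ₁
    exact le_bot_iff.1 hQQ₁
  -- another maximal subgroup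
  refine unique_intro hM hAM fun H hH hAH => ?_
  haveI := isSolvable_of_ne_top hG hH.1
  have hHπ : ∀ s : ℕ, s.Prime → s ∉ π → Oc s H = ⊥ := fun s hs hsπ =>
    hmax s hs hsπ _ (isPGroup_Oc s H) (hAH.trans (le_normalizer_Oc s H))
  have hMπ : ∀ s : ℕ, s.Prime → s ∉ π → Oc s M = ⊥ := fun s hs hsπ => by
    haveI := Fact.mk hs
    by_contra hne
    exact hsπ ⟨hs, (dvd_card_of_ne_bot (isPGroup_Oc s M) hne).trans
      (card_dvd_of_le (Oc_le_fittingOf hs M))⟩
  -- (1) `O_q(H) ≤ M`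
  have h1 : ∀ q, q ∈ π → Oc q H ≤ M := by
    intro q hqπ
    haveI := Fact.mk hqπ.1
    obtain ⟨r, hrπ, hrq⟩ := hex q
    haveI := Fact.mk hrπ.1
    have hZrp : IsPGroup r (Z r) := (isPGroup_Oc r M).to_le inf_le_left
    have h := CoprimeGen.le_centralizer_of_prod_action (A := Z r) (B := As q) (isPGroup_Oc q H)
      (hAsp q) (fun hd => by
        obtain ⟨n, hn⟩ := IsPGroup.iff_card.1 hZrp
        rw [hn] at hd
        exact hrq ((Nat.prime_dvd_prime_iff_eq hqπ.1 hrπ.1).1 (hqπ.1.dvd_of_dvd_pow hd)).symm)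
      ((hZA r hrπ.1).trans (hAH.trans (le_normalizer_Oc q H)))
      ((inf_le_left : As q ≤ A).trans (hAH.trans (le_normalizer_Oc q H)))
      (fun z hz b hb => (commute_Oc hrq.symm hb.2 hz.1).eq) ?_
    · exact le_trans (show Oc q H ≤ centralizer (Z r : Set G) from fun x hx z hz => (h hz x hx).symm)
        (hCZ r hrπ)
    · rintro x ⟨hxH, hxC⟩ z hz
      exact (commute_of_normalize (X := Z r) (Y := Oc q H ⊓ M)
        ((le_inf ((hZA r hrπ.1).trans (hAH.trans (le_normalizer_Oc q H)))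
          ((hZA r hrπ.1).trans (hAM.trans le_normalizer))).trans (fun a ha =>
            CoprimeAction.le_normalizer_inf (A := normalizer (Oc q H : Set G) ⊓ normalizer (M : Set G))
              inf_le_left inf_le_right ha))
        (inf_le_right.trans (hZn r))
        (inf_eq_bot_of_coprime (coprime_of_qgroups hrq hZrp ((isPGroup_Oc q H).to_le inf_le_left)))
        hz ⟨hxH, hCAs q hqπ hxC⟩).eq
  -- (2) `O_q(H)` centralizes `O_r(M)`
  have h2 : ∀ q r, q ∈ π → r ∈ π → r ≠ q → ∀ x ∈ Oc r M, ∀ y ∈ Oc q H, Commute x y := by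
    intro q r hqπ hrπ hrq
    haveI := Fact.mk hqπ.1
    haveI := Fact.mk hrπ.1
    have hAr : ∀ a ∈ As r, ∀ y ∈ Oc q H, Commute a y := by
      intro a ha y hy
      refine commute_of_comm_mem (Q := Oc q M) (isPGroup_Oc q M)
        (orderOf_coprime_of_mem hrq (hAsp r) ha) (fun z hz => commute_Oc hrq ha.2 hz) ?_
      have hFO : ⁅y⁻¹, a⁆ ∈ Oc q H ⊓ F := by
        rw [commutatorElement_def]
        refine mem_inf.2 ⟨?_, mul_mem ((mem_normalizer_iff.1 (hMF (inv_mem (h1 q hqπ hy))) a).1 ha.1.1)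
          (inv_mem ha.1.1)⟩
        rw [inv_inv, mul_assoc, mul_assoc, ← mul_assoc a]
        exact mul_mem (inv_mem hy) ((mem_normalizer_iff.1 (le_normalizer_Oc q H (hAH ha.1)) y).1 hy)
      exact qgroup_le_Oc inf_le_right ((isPGroup_Oc q H).to_le inf_le_left) hFO
    intro x hx y hy
    by_cases hrp : r = p
    · subst hrp
      refine hprod _ (h1 q hqπ) (fun hd => ?_) (fun u hu a ha => (hAr a ha u hu).eq) hy x hx
      obtain ⟨n, hn⟩ := IsPGroup.iff_card.1 (isPGroup_Oc q H)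
      rw [hn] at hd
      exact hrq ((Nat.prime_dvd_prime_iff_eq hrπ.1 hqπ.1).1 (hrπ.1.dvd_of_dvd_pow hd))
    · exact hAr x ⟨hOA r hrπ.1 hrp hx, hx⟩ y hy
  have hH0 : H ≠ ⊥ := fun h => hA0 (le_bot_iff.1 (h ▸ hAH))
  have hle : ∀ r, r ∈ π → Oc r M ≤ H := by
    intro r hrπ
    haveI := Fact.mk hrπ.1
    by_cases hrp : r ≠ p
    · exact (hOA r hrπ.1 hrp).trans hAH
    push Not at hrp
    subst hrp
    obtain ⟨q, hqπ, hqr, hne⟩ : ∃ q, q ∈ π ∧ q ≠ r ∧ Oc q H ≠ ⊥ := by
      by_contra hno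
      push Not at hno
      obtain ⟨s, hsπ, hsr⟩ := hex r
      haveI := Fact.mk hsπ.1
      have hsH : Oc s M ≤ H := (hOA s hsπ.1 hsr).trans hAH
      have hc : Oc s M ≤ centralizer (Cfsg.fittingOf H : Set G) :=
        le_centralizer_fittingOf fun t ht _ x hx z hz => by
          by_cases htπ : t ∈ π
          · by_cases htr' : t = r
            · subst htr'
              exact (h2 t s htπ hsπ hsr x hx z hz).symm
            · rw [hno t htπ htr', mem_bot] at hz
              rw [hz]; exact Commute.one_left _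
          · rw [hHπ t ht htπ, mem_bot] at hz
            rw [hz]; exact Commute.one_left _
      have hs2 : Oc s M ≤ Oc s H :=
        qgroup_le_Oc ((le_inf hsH hc).trans centralizer_fittingOf_le) (isPGroup_Oc s M)
      exact hOne s hsπ (le_bot_iff.1 (hno s hsπ hsr ▸ hs2))
    refine le_trans (fun x hx => ?_) (normalizer_Oc_eq hG hH hne).le
    exact centralizer_le_normalizer _ fun y hy => (h2 q r hqπ hrπ hqr.symm x hx y hy).eq.symm
  obtain ⟨q, hqπ, -⟩ := hex 0
  haveI := Fact.mk hqπ.1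
  obtain ⟨r₀, hr₀π, hr₀q⟩ := hex q
  have hN : ∀ s, s ∈ π → normalizer (Oc s M : Set G) = M := fun s hs =>
    normalizer_Oc_eq hG hM (hOne s hs)
  have hMH : ∀ s, s ∈ π → Oc s M ≤ Oc s H := by
    intro s hs
    haveI := Fact.mk hs.1
    obtain ⟨t, ht, hts⟩ := hex s
    refine le_Oc_of_locals hHπ (R := fun r => Oc r M) (isPGroup_Oc s M) (hle s hs) ht.1 ht hts
      fun r hr hrπ hrs => ?_
    haveI := Fact.mk hr
    exact ⟨hle r hrπ, isPGroup_Oc r M,
      (inf_le_right.trans ((centralizer_le_normalizer _).trans (hN r hrπ).le)).trans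
        (le_normalizer_Oc s M),
      fun a ha y hy => commute_Oc hrs ha hy, fun a ha y hy => h2 s r hs hrπ hrs a ha y hy⟩
  have hNH : ∀ s, s ∈ π → normalizer (Oc s H : Set G) = H := fun s hs =>
    normalizer_Oc_eq hG hH fun h => hOne s hs (le_bot_iff.1 (h ▸ hMH s hs))
  have hHM : Oc q H ≤ Oc q M := by
    refine le_Oc_of_locals hMπ (R := fun r => Oc r H) (isPGroup_Oc q H) (h1 q hqπ) hr₀π.1 hr₀π hr₀q
      fun r hr hrπ hrq => ?_
    haveI := Fact.mk hr
    exact ⟨h1 r hrπ, isPGroup_Oc r H,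
      (inf_le_right.trans ((centralizer_le_normalizer _).trans (hNH r hrπ).le)).trans
        (le_normalizer_Oc q H),
      fun a ha y hy => commute_Oc hrq ha hy,
      fun a ha y hy => (h2 r q hrπ hqπ hrq.symm y hy a ha).symm⟩
  rw [← hNH q hqπ, ← le_antisymm (hMH q hqπ) hHM, hN q hqπ]

/-- Theorem 9.5. -/
theorem unique_of_fitting_rank_three {M : Subgroup G} (hM : IsCoatom M) {p : ℕ} [Fact p.Prime]
    (hF : ¬ Cfsg.PRankLE p 2 ↥(Cfsg.fittingOf M)) {A : Subgroup G} (hAp : IsPGroup p A)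
    (hAc : IsMulCommutative A) (hA3 : ¬ Cfsg.PRankLE p 2 A) : Cfsg.InUniqueMaximal A := by
  obtain ⟨E, hEF, hE, hE3⟩ := pow_le_of_not_pRankLE hF
  have hE3' : ∀ B : Subgroup G, E ≤ B → ¬ Cfsg.PRankLE p 2 B := fun B hEB h => by
    have h1 := h (E.subgroupOf B) ⟨⟨fun u v => Subtype.ext (Subtype.ext
      (PGroupsBasic.comm_of_isMulCommutative hE.1 u.2 v.2))⟩⟩
      fun u hu => Subtype.ext (by rw [SubgroupClass.coe_pow]; exact hE.2 _ hu)
    rw [Nat.card_congr (subgroupOfEquivOfLe hEB).toEquiv] at h1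
    exact absurd ((Nat.pow_le_pow_iff_right (Fact.out : p.Prime).one_lt).1 (hE3.trans h1)) (by omega)
  obtain ⟨B, hBc, hBp, hB3, hBU⟩ : ∃ B : Subgroup G, IsMulCommutative B ∧ IsPGroup p B ∧
      ¬ Cfsg.PRankLE p 2 B ∧ Cfsg.InUniqueMaximal B := by
    have hE0 : E ≠ ⊥ := fun h => hE3' ⊥ h.le fun S _ _ => by
      rw [Subsingleton.elim S ⊥, Subgroup.card_bot]
      exact Nat.one_le_pow _ _ (Fact.out : p.Prime).pos
    by_cases hFp : IsPGroup p ↥(Cfsg.fittingOf M)
    · obtain ⟨P, hP, hEP⟩ := exists_isMaxP_ge (PGroupsBasic.isPGroup_of_isElementaryAbelian hE)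
        (hEF.trans (fittingOf_le M))
      have hp2 : p ≠ 2 := prime_ne_two hG ((dvd_card_of_ne_bot
        (PGroupsBasic.isPGroup_of_isElementaryAbelian hE) hE0).trans (card_subgroup_dvd_card E))
      obtain ⟨B, hB, hB3⟩ := exists_SCN_three hp2 hP.isPGroup (hE3' P hEP)
      exact ⟨B, isMulCommutative_of_SCN hB, hP.isPGroup.to_le hB.1, hB3,
        ((unique_of_fitting_pgroup hG hM hFp (fun h => hE0 (le_bot_iff.1 (h ▸ hEF))) hP).2 B hB hB3).2⟩
    · refine ⟨E, hE.1, PGroupsBasic.isPGroup_of_isElementaryAbelian hE, hE3' E le_rfl, ?_⟩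
      exact unique_of_le_centralizer hG (unique_of_fitting_not_pgroup hG hM hEF hE hE3 hFp)
        (fun e he x hx => ((hx : x ∈ Cfsg.fittingOf M ⊓ centralizer (E : Set G)).2 e he).symm)
        le_rfl hE.1 (PGroupsBasic.isPGroup_of_isElementaryAbelian hE)
        (not_isCyclic_of_sq_le hE (le_trans (Nat.pow_le_pow_right (Fact.out : p.Prime).pos
          (by omega)) hE3))
  exact unique_of_abelian_rank_three hG hBc hBp hB3 hBU hAc hAp hA3

end Cfsg.Agent.BGFittingUnique
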