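import Mathlib

/-!
Elementary coprime-action facts used in the odd order local analysis block:
stabilised series, the normalizer trick `C_H(C_H(A)) ≤ C_H(A)`, and the fact that for `p` odd a
`p'`-group centralizing all elements of order `p` of a `p`-group centralizes it.
-/

set_option autoImplicit false

open scoped commutatorElement

namespace Cfsg.Agent.OddLocalBase

variable {G : Type*} [Group G]

theorem conj_pow_eq (a x y : G) (hx : a * x * a⁻¹ = x * y) (hy : a * y = y * a) (n : ℕ) :
    a ^ n * x * (a ^ n)⁻¹ = x * y ^ n := by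
  induction n with
  | zero => simp
  | succ n ih =>
    have hc : Commute a (y ^ n) := Commute.pow_right hy n
    have h1 : a ^ (n + 1) * x * (a ^ (n + 1))⁻¹ = a * (a ^ n * x * (a ^ n)⁻¹) * a⁻¹ := by
      rw [pow_succ' a n, mul_inv_rev]; simp only [mul_assoc]
    rw [h1, ih]
    calc a * (x * y ^ n) * a⁻¹ = (a * x * a⁻¹) * (a * y ^ n * a⁻¹) := by group
      _ = (x * y) * y ^ n := by rw [hx, hc.eq, mul_inv_cancel_right]
      _ = x * y ^ (n + 1) := by rw [mul_assoc, pow_succ']

/-- If `a` commutes with `x⁻¹ * a * x * a⁻¹` and the orders are coprime then `a` commutes with `x`. -/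
theorem comm_of_coprime_fixed (a x : G) (hc : (orderOf (x⁻¹ * a * x * a⁻¹)).Coprime (orderOf a))
    (hy : a * (x⁻¹ * a * x * a⁻¹) = (x⁻¹ * a * x * a⁻¹) * a) : a * x = x * a := by
  set y := x⁻¹ * a * x * a⁻¹ with hyd
  have hx : a * x * a⁻¹ = x * y := by rw [hyd]; group
  have h := conj_pow_eq a x y hx hy (orderOf a)
  rw [pow_orderOf_eq_one, one_mul, inv_one, mul_one, left_eq_mul] at h
  have h1 : y = 1 := by
    rw [← orderOf_eq_one_iff]
    exact Nat.Coprime.eq_one_of_dvd hc (orderOf_dvd_of_pow_eq_one h)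
  rw [h1, mul_one] at hx
  calc a * x = (a * x * a⁻¹) * a := by group
    _ = x * a := by rw [hx]

theorem conj_mem_of_le_normalizer {H A : Subgroup G} (hA : A ≤ Subgroup.normalizer (H : Set G))
    {a x : G} (ha : a ∈ A) (hx : x ∈ H) : a * x * a⁻¹ ∈ H :=
  (Subgroup.mem_normalizer_iff.1 (hA ha) x).1 hx

theorem comm_mem_of_le_normalizer {H A : Subgroup G} (hA : A ≤ Subgroup.normalizer (H : Set G))
    {a x : G} (ha : a ∈ A) (hx : x ∈ H) : x⁻¹ * a * x * a⁻¹ ∈ H := by
  have := H.mul_mem (H.inv_mem hx) (conj_mem_of_le_normalizer hA ha hx)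
  simpa [mul_assoc] using this

theorem orderOf_coprime_of_mem {H A : Subgroup G} (hcop : (Nat.card A).Coprime (Nat.card H))
    {a y : G} (ha : a ∈ A) (hy : y ∈ H) : (orderOf y).Coprime (orderOf a) := by
  have h1 : orderOf y ∣ Nat.card H := Subgroup.orderOf_dvd_natCard H hy
  have h2 : orderOf a ∣ Nat.card A := Subgroup.orderOf_dvd_natCard A ha
  exact (Nat.Coprime.coprime_dvd_right h1 (Nat.Coprime.coprime_dvd_left h2 hcop)).symm

/-- If `a` fixes a subgroup `K` elementwise and `x` normalizes `K`, then `x⁻¹ a x a⁻¹` centralizes `K`. -/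
theorem comm_mem_centralizer {K : Subgroup G} {a x : G}
    (hK : ∀ k ∈ K, a * k = k * a) (hx : x ∈ Subgroup.normalizer (K : Set G)) :
    x⁻¹ * a * x * a⁻¹ ∈ Subgroup.centralizer (K : Set G) := by
  intro k hk
  set k' := x * k * x⁻¹ with hk'
  have hk'm : k' ∈ K := (Subgroup.mem_normalizer_iff.1 hx k).1 hk
  have h1 : a * k' = k' * a := hK k' hk'm
  have h2 : a * k = k * a := hK k hk
  have h3 : a⁻¹ * k = k * a⁻¹ := ((show Commute a k from h2).inv_left).eq
  symm
  calc x⁻¹ * a * x * a⁻¹ * k = x⁻¹ * a * x * (a⁻¹ * k) := by group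
    _ = x⁻¹ * a * x * (k * a⁻¹) := by rw [h3]
    _ = x⁻¹ * (a * k') * x * a⁻¹ := by rw [hk']; group
    _ = x⁻¹ * (k' * a) * x * a⁻¹ := by rw [h1]
    _ = k * (x⁻¹ * a * x * a⁻¹) := by rw [hk']; group

/-- Thompson: coprime `A` acting on nilpotent `H` with `C_H(C_H(A)) ≤ C_H(A)` acts trivially. -/
theorem le_centralizer_of_centralizer_le [Finite G] (H A : Subgroup G) (hH : Group.IsNilpotent H)
    (hA : A ≤ Subgroup.normalizer (H : Set G)) (hcop : (Nat.card A).Coprime (Nat.card H))
    (hC : H ⊓ Subgroup.centralizer ((H ⊓ Subgroup.centralizer (A : Set G) : Subgroup G) : Set G)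
      ≤ H ⊓ Subgroup.centralizer (A : Set G)) :
    A ≤ Subgroup.centralizer (H : Set G) := by
  set C := H ⊓ Subgroup.centralizer (A : Set G) with hCd
  have hCH : C.subgroupOf H = ⊤ := by
    by_contra hne
    have hlt : C.subgroupOf H < Subgroup.normalizer ((C.subgroupOf H : Subgroup H) : Set H) :=
      Group.normalizerCondition_of_isNilpotent _ (lt_top_iff_ne_top.2 hne)
    obtain ⟨x, hx, hxC⟩ := SetLike.exists_of_lt hlt
    apply hxC
    have hxN : (x : G) ∈ Subgroup.normalizer (C : Set G) := by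
      rw [Subgroup.mem_normalizer_iff]
      intro c
      constructor
      · intro hc
        have := (Subgroup.mem_normalizer_iff.1 hx ⟨c, hc.1⟩).1 (by simpa [Subgroup.mem_subgroupOf] using hc)
        simpa [Subgroup.mem_subgroupOf] using this
      · intro hc
        have hcH : c ∈ H := by
          have := H.mul_mem (H.mul_mem (H.inv_mem x.2) hc.1) x.2
          simpa [mul_assoc] using this
        exact (Subgroup.mem_normalizer_iff.1 hx ⟨c, hcH⟩).2 (by simpa [Subgroup.mem_subgroupOf] using hc)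
    refine ⟨x.2, fun a ha => ?_⟩
    have hyC : (x : G)⁻¹ * a * x * a⁻¹ ∈ C :=
      hC ⟨comm_mem_of_le_normalizer hA ha x.2,
        comm_mem_centralizer (fun k hk => hk.2 a ha) hxN⟩
    exact comm_of_coprime_fixed a x (orderOf_coprime_of_mem hcop ha hyC.1) (hyC.2 a ha)
  intro a ha h hh
  have : (⟨h, hh⟩ : H) ∈ C.subgroupOf H := hCH ▸ Subgroup.mem_top _
  exact ((Subgroup.mem_subgroupOf.1 this).2 a ha).symm

theorem mul_pow_of_central (g h : G) (hcg : Commute ⁅h, g⁆ g) (hch : Commute ⁅h, g⁆ h) (n : ℕ) :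
    (g * h) ^ n = g ^ n * h ^ n * ⁅h, g⁆ ^ (n.choose 2) := by
  set c := ⁅h, g⁆ with hc
  have hhg : h * g = c * g * h := by rw [hc, commutatorElement_def]; group
  have hpg : ∀ m : ℕ, h ^ m * g = g * h ^ m * c ^ m := by
    intro m
    induction m with
    | zero => simp
    | succ m ih =>
      calc h ^ (m + 1) * g = h * (h ^ m * g) := by rw [pow_succ' h m, mul_assoc]
        _ = h * (g * h ^ m * c ^ m) := by rw [ih]
        _ = (h * g) * h ^ m * c ^ m := by group
        _ = (c * g * h) * h ^ m * c ^ m := by rw [hhg]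
        _ = (g * c * h) * h ^ m * c ^ m := by rw [hcg.eq]
        _ = g * (c * h ^ (m + 1)) * c ^ m := by rw [pow_succ' h m]; simp only [mul_assoc]
        _ = g * (h ^ (m + 1) * c) * c ^ m := by rw [(hch.pow_right (m + 1)).eq]
        _ = g * h ^ (m + 1) * c ^ (m + 1) := by rw [pow_succ' c m]; simp only [mul_assoc]
  induction n with
  | zero => simp
  | succ n ih =>
    have e : (n + 1).choose 2 = n + n.choose 2 := by
      rw [Nat.choose_succ_succ', Nat.choose_one_right]
    calc (g * h) ^ (n + 1) = g ^ n * h ^ n * c ^ (n.choose 2) * (g * h) := by rw [pow_succ, ih]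
      _ = g ^ n * h ^ n * ((g * h) * c ^ (n.choose 2)) := by
          rw [mul_assoc (g ^ n * h ^ n), ((hcg.mul_right hch).pow_left (n.choose 2)).eq]
      _ = g ^ n * (h ^ n * g) * (h * c ^ (n.choose 2)) := by group
      _ = g ^ n * (g * h ^ n * c ^ n) * (h * c ^ (n.choose 2)) := by rw [hpg]
      _ = g ^ n * g * h ^ n * (c ^ n * h) * c ^ (n.choose 2) := by group
      _ = g ^ n * g * h ^ n * (h * c ^ n) * c ^ (n.choose 2) := by rw [(hch.pow_left n).eq]
      _ = g ^ (n + 1) * h ^ (n + 1) * c ^ ((n + 1).choose 2) := by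
          rw [e, pow_add c, pow_succ g n, pow_succ h n]; simp only [mul_assoc]

theorem pow_commutatorElement (g h : G) (hcg : Commute ⁅g, h⁆ g) (n : ℕ) :
    ⁅g ^ n, h⁆ = ⁅g, h⁆ ^ n := by
  induction n with
  | zero => simp
  | succ n ih =>
    calc ⁅g ^ (n + 1), h⁆ = g ^ n * ⁅g, h⁆ * (g ^ n)⁻¹ * ⁅g ^ n, h⁆ := by
          simp only [commutatorElement_def, pow_succ g n]; group
      _ = ⁅g, h⁆ * ⁅g, h⁆ ^ n := by
          rw [← (hcg.pow_right n).eq, mul_inv_cancel_right, ih]
      _ = ⁅g, h⁆ ^ (n + 1) := (pow_succ' _ _).symm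

/-- A nontrivial finite `p`-group has a proper subgroup containing all commutators and `p`-th powers,
invariant under all automorphisms. -/
theorem exists_proper_pow_comm {H : Type*} [Group H] [Finite H] [Nontrivial H] {p : ℕ}
    [Fact p.Prime] (hH : IsPGroup p H) :
    ∃ K : Subgroup H, K ≠ ⊤ ∧ commutator H ≤ K ∧ (∀ h : H, h ^ p ∈ K) ∧ K.Characteristic := by
  have hnil : Group.IsNilpotent H := hH.isNilpotent
  have hD : commutator H ≠ ⊤ := by
    intro htop
    obtain ⟨n, hn⟩ := (Group.isSolvable_def H).1 inferInstance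
    have : ∀ m, derivedSeries H m = ⊤ := by
      intro m
      induction m with
      | zero => rfl
      | succ m ih => rw [derivedSeries_succ, ih]; exact htop
    rw [this n] at hn
    exact top_ne_bot hn
  refine ⟨commutator H ⊔ Subgroup.closure (Set.range fun h : H => h ^ p), ?_, le_sup_left,
    fun h => Subgroup.mem_sup_right (Subgroup.subset_closure ⟨h, rfl⟩), ?_⟩
  · intro htop
    have : Nontrivial (H ⧸ commutator H) := by
      rw [← not_subsingleton_iff_nontrivial]
      intro hs
      exact hD (QuotientGroup.subgroup_eq_top_of_subsingleton (commutator H) hs)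
    let f : Abelianization H →* Abelianization H := powMonoidHom p
    have hsurj : Function.Surjective f := by
      intro z
      obtain ⟨h, rfl⟩ := QuotientGroup.mk_surjective z
      have hmem : h ∈ commutator H ⊔ Subgroup.closure (Set.range fun h : H => h ^ p) :=
        htop ▸ Subgroup.mem_top h
      have hle : commutator H ⊔ Subgroup.closure (Set.range fun h : H => h ^ p) ≤
          f.range.comap Abelianization.of := by
        refine sup_le (fun d hd => ⟨1, ?_⟩) ((Subgroup.closure_le _).2 ?_)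
        · rw [map_one]
          exact ((QuotientGroup.eq_one_iff d).2 hd).symm
        · rintro _ ⟨u, rfl⟩
          exact ⟨Abelianization.of u, (map_pow _ u p).symm⟩
      exact hle hmem
    have hinj : Function.Injective f := Finite.injective_iff_surjective.2 hsurj
    have hP : IsPGroup p (Abelianization H) := hH.to_quotient _
    have : Nontrivial (Abelianization H) := this
    obtain ⟨k, hk0, hk⟩ := hP.nontrivial_iff_card.1 this
    obtain ⟨z, hz⟩ := exists_prime_orderOf_dvd_card' (G := Abelianization H) p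
      (hk ▸ dvd_pow_self p hk0.ne')
    have : z = 1 := hinj (by simpa [f, powMonoidHom] using orderOf_dvd_iff_pow_eq_one.1 hz.dvd)
    rw [this, orderOf_one] at hz
    exact (Fact.out : p.Prime).ne_one hz.symm
  · rw [Subgroup.characteristic_iff_map_le]
    intro φ
    rw [Subgroup.map_sup]
    refine sup_le_sup ?_ ?_
    · exact Subgroup.characteristic_iff_map_le.1 inferInstance φ
    · rw [MonoidHom.map_closure]
      refine Subgroup.closure_mono ?_
      rintro _ ⟨_, ⟨u, rfl⟩, rfl⟩
      exact ⟨φ u, (map_pow φ u p).symm⟩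

theorem le_normalizer_map_characteristic {H A : Subgroup G}
    (hA : A ≤ Subgroup.normalizer (H : Set G)) (K : Subgroup H) [K.Characteristic] :
    A ≤ Subgroup.normalizer ((K.map H.subtype : Subgroup G) : Set G) := by
  intro a ha
  rw [Subgroup.mem_normalizer_iff]
  have key : ∀ b : G, b ∈ Subgroup.normalizer (H : Set G) → ∀ c ∈ K.map H.subtype,
      b * c * b⁻¹ ∈ K.map H.subtype := by
    intro b hb c hc
    obtain ⟨k, hk, rfl⟩ := hc
    let φ : H ≃* H :=
      { toFun := fun u => ⟨b * u * b⁻¹, (Subgroup.mem_normalizer_iff.1 hb u).1 u.2⟩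
        invFun := fun u => ⟨b⁻¹ * u * b, by
          have := (Subgroup.mem_normalizer_iff.1 ((Subgroup.normalizer (H : Set G)).inv_mem hb) u).1 u.2
          simpa using this⟩
        left_inv := fun u => Subtype.ext (show b⁻¹ * (b * u * b⁻¹) * b = (u : G) by group)
        right_inv := fun u => Subtype.ext (show b * (b⁻¹ * u * b) * b⁻¹ = (u : G) by group)
        map_mul' := fun u v => Subtype.ext
          (show b * (u * v : G) * b⁻¹ = b * u * b⁻¹ * (b * v * b⁻¹) by group) }
    refine ⟨φ k, ?_, rfl⟩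
    exact Subgroup.characteristic_iff_map_le.1 inferInstance φ ⟨k, hk, rfl⟩
  intro c
  refine ⟨key a (hA ha) c, fun hc => ?_⟩
  have := key a⁻¹ ((Subgroup.normalizer (H : Set G)).inv_mem (hA ha)) _ hc
  simpa [mul_assoc] using this

/-- For `p` odd, a `p'`-group centralizing every element of order `p` of a `p`-group centralizes it. -/
theorem centralizes_of_fix_prime_order [Finite G] (p : ℕ) [Fact p.Prime] (hp : p ≠ 2) (A : Subgroup G)
    (hcop : (Nat.card A).Coprime p) :
    ∀ H : Subgroup G, IsPGroup p H → A ≤ Subgroup.normalizer (H : Set G) →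
      (∀ x ∈ H, orderOf x = p → A ≤ Subgroup.centralizer ({x} : Set G)) →
      A ≤ Subgroup.centralizer (H : Set G) := by
  intro H
  induction H using WellFoundedLT.induction with
  | ind H ih =>
  intro hH hA hfix
  have hp' : p.Prime := Fact.out
  rcases subsingleton_or_nontrivial H with hs | hnt
  · intro a ha h hh
    have : h = 1 := congrArg Subtype.val (Subsingleton.elim (⟨h, hh⟩ : H) 1)
    simp [this]
  obtain ⟨K0, hK0, hcomm, hpow, hchar⟩ := exists_proper_pow_comm hH
  set K := K0.map H.subtype with hKd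
  have hKH : K ≤ H := Subgroup.map_subtype_le K0
  have hfixsub : ∀ L : Subgroup G, L < H → A ≤ Subgroup.normalizer (L : Set G) →
      A ≤ Subgroup.centralizer (L : Set G) := fun L hL hAL =>
    ih L hL (hH.to_le hL.le) hAL (fun x hx => hfix x (hL.le hx))
  have hKlt : K < H := by
    refine lt_of_le_of_ne hKH fun he => hK0 ?_
    rw [Subgroup.eq_top_iff']
    intro h
    obtain ⟨k, hk, hkh⟩ := (he.symm.le h.2 : (h : G) ∈ K)
    rwa [Subtype.ext hkh] at hk
  have hAK := hfixsub K hKlt (le_normalizer_map_characteristic hA K0)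
  have hcopH : (Nat.card A).Coprime (Nat.card H) := by
    obtain ⟨n, hn⟩ := IsPGroup.iff_card.1 hH
    rw [hn]; exact hcop.pow_right n
  intro a ha x hx
  set y := x⁻¹ * a * x * a⁻¹ with hyd
  have hyH : y ∈ H := comm_mem_of_le_normalizer hA ha hx
  suffices hy : a * y = y * a from
    (comm_of_coprime_fixed a x (orderOf_coprime_of_mem hcopH ha hyH) hy).symm
  have hxN : x ∈ Subgroup.normalizer (K : Set G) := by
    rw [Subgroup.mem_normalizer_iff]
    have hmem : ∀ u ∈ H, ∀ k ∈ K, u * k * u⁻¹ ∈ K := by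
      intro u hu k hk
      obtain ⟨k, hk, rfl⟩ := hk
      refine ⟨⁅(⟨u, hu⟩ : H), k⁆ * k, K0.mul_mem (hcomm
        (Subgroup.commutator_mem_commutator (Subgroup.mem_top _) (Subgroup.mem_top _))) hk, ?_⟩
      simp [commutatorElement_def]
    intro k
    refine ⟨hmem x hx k, fun hk => ?_⟩
    have := hmem x⁻¹ (H.inv_mem hx) _ hk
    simpa [mul_assoc] using this
  set Z := H ⊓ Subgroup.centralizer (K : Set G) with hZd
  have hyZ : y ∈ Z := ⟨hyH, comm_mem_centralizer (fun k hk => (hAK ha k hk).symm) hxN⟩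
  rcases lt_or_eq_of_le (inf_le_left : Z ≤ H) with hlt | heq
  · have hAZ : A ≤ Subgroup.normalizer (Z : Set G) := by
      intro b hb
      rw [Subgroup.mem_normalizer_iff]
      have hmem : ∀ b ∈ A, ∀ z ∈ Z, b * z * b⁻¹ ∈ Z := by
        intro b hb z hz
        refine ⟨conj_mem_of_le_normalizer hA hb hz.1, fun k hk => ?_⟩
        have h1 : k * z = z * k := hz.2 k hk
        have h2 : k * b = b * k := hAK hb k hk
        have h3 : k * b⁻¹ = b⁻¹ * k := (Commute.inv_right (show Commute k b from h2)).eq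
        calc k * (b * z * b⁻¹) = b * (k * z) * b⁻¹ := by simp only [← mul_assoc, h2]
          _ = b * z * (k * b⁻¹) := by rw [h1]; simp only [mul_assoc]
          _ = b * z * b⁻¹ * k := by rw [h3]; simp only [mul_assoc]
      intro z
      refine ⟨hmem b hb z, fun hz => ?_⟩
      have := hmem b⁻¹ (A.inv_mem hb) _ hz
      simpa [mul_assoc] using this
    exact (hfixsub Z hlt hAZ ha y hyZ).symm
  · have hcent : ∀ k ∈ K, ∀ h ∈ H, k * h = h * k := fun k hk h hh => (heq.symm.le hh : h ∈ Z).2 k hk
    set g := x⁻¹ with hg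
    set h := a * x * a⁻¹ with hh
    have hgH : g ∈ H := H.inv_mem hx
    have hhH : h ∈ H := conj_mem_of_le_normalizer hA ha hx
    have hyeq : y = g * h := by rw [hyd, hg, hh]; group
    have hpowK : ∀ u ∈ H, u ^ p ∈ K := fun u hu => ⟨(⟨u, hu⟩ : H) ^ p, hpow _, rfl⟩
    have hcK : ⁅h, g⁆ ∈ K := ⟨⁅(⟨h, hhH⟩ : H), ⟨g, hgH⟩⁆, hcomm
      (Subgroup.commutator_mem_commutator (Subgroup.mem_top _) (Subgroup.mem_top _)), rfl⟩
    have hcp : ⁅h, g⁆ ^ p = 1 := by
      rw [← pow_commutatorElement h g (hcent _ hcK h hhH) p, commutatorElement_eq_one_iff_mul_comm]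
      exact hcent _ (hpowK h hhH) g hgH
    have hyp : y ^ p = 1 := by
      rw [hyeq, mul_pow_of_central g h (hcent _ hcK g hgH) (hcent _ hcK h hhH) p]
      obtain ⟨m, hm⟩ : p ∣ p.choose 2 := hp'.dvd_choose_self (by norm_num)
        (lt_of_le_of_ne hp'.two_le (Ne.symm hp))
      rw [hm, pow_mul, hcp, one_pow, mul_one, hg, inv_pow, hh, conj_pow]
      have : a * x ^ p = x ^ p * a := (hAK ha (x ^ p) (hpowK x hx)).symm
      rw [this, mul_inv_cancel_right, inv_mul_cancel]
    rcases eq_or_ne y 1 with h1 | h1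
    · simp [h1]
    · exact (hfix y hyH (orderOf_eq_prime hyp h1) ha y rfl).symm

end Cfsg.Agent.OddLocalBase
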