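import Mathlib
import Cfsg.Prelude.Def_Local
import Cfsg.Agent.Lib.OddLocalBase
import Cfsg.Agent.Lib.HallCore

/-!
A p'-group `L` normalised by a p-group `E`, both acting on a p-group `W`, such that `L` fixes the
fixed points of `E` on `W`: for `p` odd `L` centralises `W` (by averaging in the Baer abelian group
of a minimal counterexample). Consequence: in a p-constrained group, the p'-subgroups normalised by
an abelian p-subgroup `E` that contains all p-elements of its centraliser lie in the p'-core.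
-/

set_option autoImplicit false

open scoped commutatorElement

namespace Cfsg.Agent.PConstrainedSignal

open OddLocalBase

/-- Class-two group `W` re-structured as an abelian group (Baer). -/
structure BaerW (W : Type*) (h : ℕ) where
  val : W

section Baer

variable {W : Type*} [Group W]

theorem comm_mul_left (hc : ∀ a b c : W, Commute ⁅a, b⁆ c) (a b c : W) :
    ⁅a * b, c⁆ = ⁅a, c⁆ * ⁅b, c⁆ := by
  have : ⁅a * b, c⁆ = a * ⁅b, c⁆ * a⁻¹ * ⁅a, c⁆ := by
    simp only [commutatorElement_def]; group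
  rw [this, ← (hc b c a).eq, mul_inv_cancel_right, (hc b c _).eq]

theorem comm_mul_right (hc : ∀ a b c : W, Commute ⁅a, b⁆ c) (a b c : W) :
    ⁅a, b * c⁆ = ⁅a, b⁆ * ⁅a, c⁆ := by
  have : ⁅a, b * c⁆ = ⁅a, b⁆ * (b * ⁅a, c⁆ * b⁻¹) := by
    simp only [commutatorElement_def]; group
  rw [this, ← (hc a c b).eq, mul_inv_cancel_right]

theorem comm_central {c : W} (hc : ∀ x, Commute c x) (z : W) : ⁅c, z⁆ = 1 ∧ ⁅z, c⁆ = 1 :=
  ⟨commutatorElement_eq_one_iff_mul_comm.2 (hc z).eq,
    commutatorElement_eq_one_iff_mul_comm.2 (hc z).symm.eq⟩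

/-- The Baer group. -/
@[instance_reducible]
noncomputable def baerAddCommGroup (h : ℕ) (hc : ∀ a b c : W, Commute ⁅a, b⁆ c)
    (hh : ∀ a b : W, ⁅a, b⁆ ^ (2 * h) = ⁅a, b⁆) : AddCommGroup (BaerW W h) :=
  letI : Zero (BaerW W h) := ⟨⟨1⟩⟩
  letI : Add (BaerW W h) := ⟨fun x y => ⟨x.val * y.val * ⁅y.val, x.val⁆ ^ h⟩⟩
  letI : Neg (BaerW W h) := ⟨fun x => ⟨x.val⁻¹⟩⟩
  { add_assoc := fun ⟨x⟩ ⟨y⟩ ⟨z⟩ => by
      show BaerW.mk _ = BaerW.mk _
      congr 1
      show x * y * ⁅y, x⁆ ^ h * z * ⁅z, x * y * ⁅y, x⁆ ^ h⁆ ^ h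
        = x * (y * z * ⁅z, y⁆ ^ h) * ⁅y * z * ⁅z, y⁆ ^ h, x⁆ ^ h
      have cz : ∀ a b w : W, Commute (⁅a, b⁆ ^ h) w := fun a b w => (hc a b w).pow_left h
      rw [comm_mul_right hc z (x * y), comm_mul_right hc z x,
        (comm_central (cz y x) z).2, mul_one, comm_mul_left hc (y * z), comm_mul_left hc y,
        (comm_central (cz z y) x).1, mul_one, (hc z x _).mul_pow, (hc y x _).mul_pow]
      set P := ⁅y, x⁆ ^ h with hP
      set Q := ⁅z, x⁆ ^ h with hQ
      set R := ⁅z, y⁆ ^ h with hR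
      calc x * y * P * z * (Q * R) = x * y * (P * z) * (Q * R) := by group
        _ = x * y * (z * P) * (Q * R) := by rw [(cz y x z).eq]
        _ = x * y * z * (P * Q * R) := by group
        _ = x * y * z * (R * (P * Q)) := by rw [(cz z y (P * Q)).eq]
        _ = x * (y * z * R) * (P * Q) := by group
    zero_add := fun ⟨x⟩ => by
      show BaerW.mk (1 * x * ⁅x, (1 : W)⁆ ^ h) = BaerW.mk x
      simp
    add_zero := fun ⟨x⟩ => by
      show BaerW.mk (x * 1 * ⁅(1 : W), x⁆ ^ h) = BaerW.mk x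
      simp
    neg_add_cancel := fun ⟨x⟩ => by
      show BaerW.mk _ = BaerW.mk _
      congr 1
      show x⁻¹ * x * ⁅x, x⁻¹⁆ ^ h = 1
      simp [commutatorElement_def]
    add_comm := fun ⟨x⟩ ⟨y⟩ => by
      show BaerW.mk _ = BaerW.mk _
      congr 1
      show x * y * ⁅y, x⁆ ^ h = y * x * ⁅x, y⁆ ^ h
      have hinv : ⁅x, y⁆ ^ h = (⁅y, x⁆ ^ h)⁻¹ := by rw [← commutatorElement_inv y x, inv_pow]
      have h2 : ⁅y, x⁆ ^ h * ⁅y, x⁆ ^ h = ⁅y, x⁆ := by rw [← pow_add, ← two_mul, hh]
      rw [hinv, eq_mul_inv_iff_mul_eq, mul_assoc, h2, ← (hc y x (x * y)).eq, commutatorElement_def]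
      group
    nsmul := nsmulRec
    zsmul := zsmulRec }

end Baer

variable {G : Type*} [Group G]

/-- Membership closure under conjugation gives membership in the normalizer. -/
theorem mem_normalizer_of_forall {K : Subgroup G} {A : Subgroup G}
    (h : ∀ a ∈ A, ∀ k ∈ K, a * k * a⁻¹ ∈ K) : A ≤ Subgroup.normalizer (K : Set G) := by
  intro a ha
  rw [Subgroup.mem_normalizer_iff]
  intro k
  refine ⟨h a ha k, fun hk => ?_⟩
  have := h a⁻¹ (A.inv_mem ha) _ hk
  simpa [mul_assoc] using this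

theorem normalizes_inf_centralizer {W K A : Subgroup G} (hW : A ≤ Subgroup.normalizer (W : Set G))
    (hK : A ≤ Subgroup.normalizer (K : Set G)) :
    A ≤ Subgroup.normalizer ((W ⊓ Subgroup.centralizer (K : Set G) : Subgroup G) : Set G) := by
  refine mem_normalizer_of_forall fun a ha z hz => ⟨conj_mem_of_le_normalizer hW ha hz.1, fun k hk => ?_⟩
  have hk' : a⁻¹ * k * a ∈ K := by
    have := conj_mem_of_le_normalizer hK (A.inv_mem ha) hk
    simpa using this
  have h1 : a⁻¹ * k * a * z = z * (a⁻¹ * k * a) := hz.2 _ hk'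
  calc k * (a * z * a⁻¹) = a * (a⁻¹ * k * a * z) * a⁻¹ := by group
    _ = a * (z * (a⁻¹ * k * a)) * a⁻¹ := by rw [h1]
    _ = a * z * a⁻¹ * k := by group

theorem centralizes_of_fixes_fixed_points [Finite G] (p : ℕ) [Fact p.Prime] (hp : p ≠ 2)
    (L E : Subgroup G) (hL : (Nat.card L).Coprime p) (hE : IsPGroup p E)
    (hEL : E ≤ Subgroup.normalizer (L : Set G)) :
    ∀ W : Subgroup G, IsPGroup p W → L ≤ Subgroup.normalizer (W : Set G) →
      E ≤ Subgroup.normalizer (W : Set G) →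
      (∀ z ∈ W, (∀ e ∈ E, e * z = z * e) → ∀ l ∈ L, l * z = z * l) →
      L ≤ Subgroup.centralizer (W : Set G) := by
  classical
  intro W
  induction W using WellFoundedLT.induction with
  | ind W ih =>
  intro hW hLW hEW hfix
  have hp' : p.Prime := Fact.out
  rcases subsingleton_or_nontrivial W with hs | hnt
  · intro a ha h hh
    have : h = 1 := congrArg Subtype.val (Subsingleton.elim (⟨h, hh⟩ : W) 1)
    simp [this]
  have hsub : ∀ Z : Subgroup G, Z < W → L ≤ Subgroup.normalizer (Z : Set G) →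
      E ≤ Subgroup.normalizer (Z : Set G) → L ≤ Subgroup.centralizer (Z : Set G) :=
    fun Z hZ h1 h2 => ih Z hZ (hW.to_le hZ.le) h1 h2 (fun z hz => hfix z (hZ.le hz))
  obtain ⟨K0, hK0, hcomm, hpow, hchar⟩ := exists_proper_pow_comm hW
  set K := K0.map W.subtype with hKd
  have hKW : K ≤ W := Subgroup.map_subtype_le K0
  have hKlt : K < W := by
    refine lt_of_le_of_ne hKW fun he => hK0 ?_
    rw [Subgroup.eq_top_iff']
    intro h
    obtain ⟨k, hk, hkh⟩ := (he.symm.le h.2 : (h : G) ∈ K)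
    rwa [Subtype.ext hkh] at hk
  have hLK := hsub K hKlt (le_normalizer_map_characteristic hLW K0)
    (le_normalizer_map_characteristic hEW K0)
  have hcommK : ∀ u ∈ W, ∀ v ∈ W, ⁅u, v⁆ ∈ K := fun u hu v hv => ⟨⁅(⟨u, hu⟩ : W), ⟨v, hv⟩⁆,
    hcomm (Subgroup.commutator_mem_commutator (Subgroup.mem_top _) (Subgroup.mem_top _)), rfl⟩
  have hpowK : ∀ u ∈ W, u ^ p ∈ K := fun u hu => ⟨(⟨u, hu⟩ : W) ^ p, hpow _, rfl⟩
  have hnorm : ∀ N : Subgroup G, K ≤ N → N ≤ W → W ≤ Subgroup.normalizer (N : Set G) := by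
    intro N hKN hNW
    refine mem_normalizer_of_forall fun u hu k hk => ?_
    have h1 : ⁅u, k⁆ * k ∈ N := N.mul_mem (hKN (hcommK u hu k (hNW hk))) hk
    simpa [commutatorElement_def] using h1
  have hcopW : (Nat.card L).Coprime (Nat.card W) := by
    obtain ⟨n, hn⟩ := IsPGroup.iff_card.1 hW
    rw [hn]; exact hL.pow_right n
  -- a proper subgroup containing all `x⁻¹ l x l⁻¹` finishes the proof
  have hdone : ∀ Z : Subgroup G, Z < W → L ≤ Subgroup.normalizer (Z : Set G) →
      E ≤ Subgroup.normalizer (Z : Set G) →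
      (∀ l ∈ L, ∀ x ∈ W, x⁻¹ * l * x * l⁻¹ ∈ Z) → L ≤ Subgroup.centralizer (W : Set G) := by
    intro Z hZ h1 h2 hy l hl x hx
    exact (comm_of_coprime_fixed l x
      (orderOf_coprime_of_mem hcopW hl (hZ.le (hy l hl x hx)))
      (hsub Z hZ h1 h2 hl _ (hy l hl x hx)).symm).symm
  rcases lt_or_eq_of_le (inf_le_left : W ⊓ Subgroup.centralizer (K : Set G) ≤ W) with hlt | heqK
  · exact hdone _ hlt (normalizes_inf_centralizer hLW (le_normalizer_map_characteristic hLW K0))
      (normalizes_inf_centralizer hEW (le_normalizer_map_characteristic hEW K0))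
      fun l hl x hx => ⟨comm_mem_of_le_normalizer hLW hl hx,
        comm_mem_centralizer (fun k hk => (hLK hl k hk).symm) (hnorm K le_rfl hKW hx)⟩
  have hKcent : ∀ k ∈ K, ∀ u ∈ W, Commute k u := fun k hk u hu => (heqK.symm.le hu).2 k hk
  let hc : ∀ a b c : W, Commute ⁅a, b⁆ c := fun a b c =>
    Subtype.ext (hKcent _ (hcommK a a.2 b b.2) c c.2).eq
  have hexp : ∀ a b : W, ⁅a, b⁆ ^ p = 1 := by
    intro a b
    rw [← pow_commutatorElement a b (hc a b a) p, commutatorElement_eq_one_iff_mul_comm]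
    exact Subtype.ext (hKcent _ (hpowK a a.2) b b.2).eq
  have hh : ∀ a b : W, ⁅a, b⁆ ^ (2 * ((p + 1) / 2)) = ⁅a, b⁆ := by
    intro a b
    have : 2 * ((p + 1) / 2) = p + 1 := by
      have := (hp'.eq_two_or_odd).resolve_left hp
      omega
    rw [this, pow_succ, hexp, one_mul]
  letI inst : AddCommGroup (BaerW W ((p + 1) / 2)) := baerAddCommGroup _ hc hh
  let B := BaerW W ((p + 1) / 2)
  have hval0 : ((0 : BaerW W ((p + 1) / 2)).val : G) = 1 := rfl
  have hvaladd : ∀ x y : BaerW W ((p + 1) / 2), ((x + y).val : G)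
      = x.val * y.val * ⁅(y.val : G), (x.val : G)⁆ ^ ((p + 1) / 2) := fun _ _ => rfl
  have hBcard : Nat.card B = Nat.card W :=
    Nat.card_congr ⟨BaerW.val, BaerW.mk, fun _ => rfl, fun _ => rfl⟩
  have : Finite B := Nat.finite_of_card_ne_zero (hBcard ▸ Nat.card_pos.ne')
  let conjB : ∀ g : G, g ∈ Subgroup.normalizer (W : Set G) → (BaerW W ((p + 1) / 2) →+ BaerW W ((p + 1) / 2)) := fun g hg =>
    AddMonoidHom.mk'
      (fun x => ⟨⟨g * x.val * g⁻¹, (Subgroup.mem_normalizer_iff.1 hg _).1 x.val.2⟩⟩)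
      (fun ⟨x⟩ ⟨y⟩ => by
        refine congrArg BaerW.mk (Subtype.ext ?_)
        show g * (((⟨x⟩ : BaerW W ((p + 1) / 2)) + ⟨y⟩).val : G) * g⁻¹ = _
        rw [hvaladd]
        refine Eq.trans ?_ (hvaladd _ _).symm
        dsimp only
        have e : ⁅g * y * g⁻¹, g * x * g⁻¹⁆ = g * ⁅(y : G), (x : G)⁆ * g⁻¹ := by
          simp only [commutatorElement_def]; group
        rw [e, conj_pow]
        group)
  let vG : BaerW W ((p + 1) / 2) → G := fun b => (b.val : G)
  have hvG_inj : Function.Injective vG := fun ⟨a⟩ ⟨b⟩ hab => congrArg BaerW.mk (Subtype.ext hab)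
  have hconjB : ∀ (g : G) (hg : g ∈ Subgroup.normalizer (W : Set G)) b, vG (conjB g hg b) = g * vG b * g⁻¹ := fun _ _ _ => rfl
  have : Fintype L := Fintype.ofFinite L
  set n := Fintype.card L with hn
  let Nm : BaerW W ((p + 1) / 2) →+ BaerW W ((p + 1) / 2) := ∑ l : L, conjB l (hLW l.2)
  let μ : BaerW W ((p + 1) / 2) →+ BaerW W ((p + 1) / 2) := Nm - n • AddMonoidHom.id B
  have hNm : ∀ b l (hl : l ∈ L), conjB l (hLW hl) (Nm b) = Nm b := by
    intro b l hl
    simp only [Nm, AddMonoidHom.finsetSum_apply, map_sum]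
    refine Fintype.sum_equiv (Equiv.mulLeft (⟨l, hl⟩ : L)) _ _ fun u => hvG_inj ?_
    simp only [hconjB, Equiv.coe_mulLeft, Subgroup.coe_mul]
    group
  have hsmul : ∀ (b : B) (m : ℕ), vG (m • b) = vG b ^ m := by
    intro b m
    induction m with
    | zero => rw [zero_nsmul, pow_zero]; exact hval0
    | succ m ihm =>
      rw [succ_nsmul, pow_succ]
      rw [show vG (m • b + b) = vG (m • b) * vG b * ⁅vG b, vG (m • b)⁆ ^ ((p + 1) / 2) from hvaladd _ _]
      rw [ihm, commutatorElement_eq_one_iff_mul_comm.2 (Commute.self_pow (vG b) m).eq, one_pow,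
        mul_one]
  have hμfix : ∀ b, (∀ l ∈ L, l * vG b = vG b * l) → μ b = 0 := by
    intro b hb
    have : ∀ l : L, conjB l (hLW l.2) b = b := fun l => hvG_inj (by
      rw [hconjB _ (hLW l.2), hb l l.2, mul_inv_cancel_right])
    show Nm b - n • b = 0
    simp [Nm, AddMonoidHom.finsetSum_apply, this, hn]
  have hμμ : ∀ b, μ (μ b) = -(n • μ b) := by
    intro b
    have h1 : μ (Nm b) = 0 := by
      apply hμfix
      intro l hl
      have := congrArg vG (hNm b l hl)
      rw [hconjB _ (hLW hl)] at this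
      calc l * vG (Nm b) = l * vG (Nm b) * l⁻¹ * l := by group
        _ = vG (Nm b) * l := by rw [this]
    have hb : μ b = Nm b - n • b := rfl
    conv_lhs => rw [hb]
    rw [map_sub, map_nsmul, h1, zero_sub]
  have hncop : ∀ x ∈ W, (n : ℕ).Coprime (orderOf x) := fun x hx => by
    rw [hn, ← Nat.card_eq_fintype_card]
    exact Nat.Coprime.coprime_dvd_right (Subgroup.orderOf_dvd_natCard W hx) hcopW
  by_cases hT : μ.range = ⊥
  · intro l hl x hx
    set b : B := ⟨⟨x, hx⟩⟩
    have h0 : μ b = 0 := by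
      have : μ b ∈ μ.range := ⟨b, rfl⟩
      rwa [hT, AddSubgroup.mem_bot] at this
    have h1 : Nm b = n • b := sub_eq_zero.1 h0
    have h2 := congrArg vG (hNm b l hl)
    rw [h1, hconjB _ (hLW hl), hsmul] at h2
    have h3 : Commute l (x ^ n) := by
      show l * x ^ n = x ^ n * l
      calc l * x ^ n = l * vG b ^ n * l⁻¹ * l := by group; rfl
        _ = x ^ n * l := by rw [h2]
    obtain ⟨m, hm⟩ := exists_pow_eq_self_of_coprime (hncop x hx)
    have := h3.pow_right m
    rw [hm] at this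
    exact this.eq.symm
  exfalso
  have hmaps : ∀ e ∈ E, ∀ he : e ∈ Subgroup.normalizer (W : Set G), ∀ b,
      conjB e he (μ b) = μ (conjB e he b) := by
    intro e he' he b
    have hb : ∀ c, μ c = Nm c - n • c := fun c => rfl
    rw [hb, hb, map_sub, map_nsmul]
    congr 1
    simp only [Nm, AddMonoidHom.finsetSum_apply, map_sum]
    refine Fintype.sum_equiv
      ⟨fun l => ⟨e * l * e⁻¹, conj_mem_of_le_normalizer hEL he' l.2⟩,
       fun l => ⟨e⁻¹ * l * e, by simpa using conj_mem_of_le_normalizer hEL (E.inv_mem he') l.2⟩,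
       fun l => Subtype.ext (show e⁻¹ * (e * (l : G) * e⁻¹) * e = l by group),
       fun l => Subtype.ext (show e * (e⁻¹ * (l : G) * e) * e⁻¹ = l by group)⟩
      _ _ fun l => hvG_inj ?_
    simp only [hconjB, Equiv.coe_fn_mk]
    group
  let T := μ.range
  let act : MulAction E T :=
    { smul := fun e t => ⟨conjB e (hEW e.2) t.1, by
        obtain ⟨b, hb⟩ := t.2
        exact ⟨conjB e (hEW e.2) b, by rw [← hb, hmaps e e.2 (hEW e.2) b]⟩⟩
      one_smul := fun t => Subtype.ext (hvG_inj (by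
        show (1 : G) * vG t.1 * (1 : G)⁻¹ = _; simp))
      mul_smul := fun e f t => Subtype.ext (hvG_inj (by
        show ((e * f : E) : G) * vG t.1 * ((e * f : E) : G)⁻¹
          = (e : G) * ((f : G) * vG t.1 * (f : G)⁻¹) * (e : G)⁻¹
        simp only [Subgroup.coe_mul]; group)) }
  have hdvd : p ∣ Nat.card T := by
    obtain ⟨k, hk⟩ := IsPGroup.iff_card.1 hW
    have h1 : Nat.card T ∣ p ^ k := hk ▸ hBcard ▸ AddSubgroup.card_addSubgroup_dvd_card T
    obtain ⟨j, -, hj⟩ := (Nat.dvd_prime_pow hp').1 h1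
    have hj0 : j ≠ 0 := by
      intro h0
      rw [h0, pow_zero] at hj
      exact hT (AddSubgroup.card_eq_one.1 hj)
    exact hj ▸ dvd_pow_self p hj0
  have h0fix : (0 : T) ∈ MulAction.fixedPoints E T := by
    intro e
    refine Subtype.ext (hvG_inj ?_)
    show (e : G) * vG ((0 : T) : BaerW W ((p + 1) / 2)) * (e : G)⁻¹ = _
    have : vG ((0 : T) : BaerW W ((p + 1) / 2)) = 1 := hval0
    rw [this]; simp
  obtain ⟨t, htfix, ht0⟩ := hE.exists_fixed_point_of_prime_dvd_card_of_fixed_point T hdvd h0fix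
  have hfixt : ∀ e ∈ E, e * vG t.1 = vG t.1 * e := by
    intro e he
    have := congrArg (fun s : T => vG s.1) (htfix ⟨e, he⟩)
    have h' : e * vG t.1 * e⁻¹ = vG t.1 := this
    calc e * vG t.1 = e * vG t.1 * e⁻¹ * e := by group
      _ = vG t.1 * e := by rw [h']
  have h1 := hμfix t.1 (hfix (vG t.1) t.1.val.2 hfixt)
  obtain ⟨b, hb⟩ := t.2
  rw [← hb, hμμ, neg_eq_zero, hb] at h1
  have h2 := congrArg vG h1
  rw [hsmul] at h2
  have h3 : vG t.1 ^ n = 1 := h2.trans hval0
  obtain ⟨m, hm⟩ := exists_pow_eq_self_of_coprime (hncop (vG t.1) t.1.val.2)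
  rw [h3, one_pow] at hm
  exact ht0 (Subtype.ext (hvG_inj (hval0.trans hm)))

/-- The case `p = 2`: if the commutators `[E, P]` are central in `P E` then the conclusion holds. -/
theorem centralizes_of_class_two [Finite G] (p : ℕ) [Fact p.Prime] (L E P : Subgroup G)
    (hL : (Nat.card L).Coprime p) (hP : IsPGroup p P)
    (hEL : E ≤ Subgroup.normalizer (L : Set G)) (hLP : L ≤ Subgroup.normalizer (P : Set G))
    (hEP : E ≤ Subgroup.normalizer (P : Set G))
    (hC : ∀ x, (∀ z ∈ P, x * z = z * x) → x ∈ P)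
    (hfix : ∀ z ∈ P, (∀ e ∈ E, e * z = z * e) → ∀ l ∈ L, l * z = z * l)
    (h2 : ∀ e ∈ E, ∀ z ∈ P, (∀ w ∈ P, Commute ⁅e, z⁆ w) ∧ ∀ f ∈ E, Commute ⁅e, z⁆ f) :
    L ≤ Subgroup.centralizer (P : Set G) := by
  have hcop : (Nat.card L).Coprime (Nat.card P) := by
    obtain ⟨n, hn⟩ := IsPGroup.iff_card.1 hP
    rw [hn]; exact hL.pow_right n
  have hinf : ∀ x, x ∈ L → x ∈ P → x = 1 := fun x h1 h2 => by
    rw [← orderOf_eq_one_iff]
    exact Nat.eq_one_of_dvd_coprimes hcop (Subgroup.orderOf_dvd_natCard L h1)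
      (Subgroup.orderOf_dvd_natCard P h2)
  have hcl : ∀ e ∈ E, ∀ z ∈ P, ∀ l ∈ L, Commute l ⁅e, z⁆ := by
    intro e he z hz l hl
    have hmem : ⁅e, z⁆ ∈ P := by
      have := P.mul_mem (conj_mem_of_le_normalizer hEP he hz) (P.inv_mem hz)
      simpa [commutatorElement_def] using this
    exact hfix _ hmem (fun f hf => ((h2 e he z hz).2 f hf).symm.eq) l hl
  have hEcomm : ∀ e ∈ E, ∀ l ∈ L, e * l = l * e := by
    intro e he l hl
    set m := l⁻¹ * e * l * e⁻¹ with hm
    have hmL : m ∈ L := by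
      have := L.mul_mem (L.inv_mem hl) (conj_mem_of_le_normalizer hEL he hl)
      simpa [hm, mul_assoc] using this
    have hm1 : ∀ z ∈ P, m * z = z * m := by
      intro z hz
      set c1 := ⁅e⁻¹, z⁆ with hc1
      set z2 := l * z * l⁻¹ with hz2
      have hz2P : z2 ∈ P := conj_mem_of_le_normalizer hLP hl hz
      set c2 := ⁅e, z2⁆ with hc2
      have hc1l : Commute l c1 := hcl _ (E.inv_mem he) z hz l hl
      have hc2l : Commute l c2 := hcl _ he z2 hz2P l hl
      have hc1e : Commute c1 e := (h2 _ (E.inv_mem he) z hz).2 e he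
      set c := c1 * c2 with hc
      have hcl' : Commute l c := hc1l.mul_right hc2l
      have key : m * z * m⁻¹ = c * z := by
        calc m * z * m⁻¹ = l⁻¹ * (e * (l * (e⁻¹ * z * e) * l⁻¹) * e⁻¹) * l := by rw [hm]; group
          _ = l⁻¹ * (e * (l * (c1 * z) * l⁻¹) * e⁻¹) * l := by
              rw [hc1, commutatorElement_def]; group
          _ = l⁻¹ * (e * (c1 * z2) * e⁻¹) * l := by
              rw [hz2, ← mul_assoc l c1 z, hc1l.eq]; group
          _ = l⁻¹ * (c1 * (e * z2 * e⁻¹)) * l := by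
              rw [← mul_assoc e c1 z2, ← hc1e.eq]; group
          _ = l⁻¹ * (c * z2) * l := by
              rw [hc, hc2, commutatorElement_def]; group
          _ = c * z := by
              rw [← mul_assoc l⁻¹ c z2, (hcl'.inv_left).eq, hz2]; group
      set y := z⁻¹ * m * z * m⁻¹ with hy
      have hyc : y = z⁻¹ * c * z := by
        calc y = z⁻¹ * (m * z * m⁻¹) := by rw [hy]; group
          _ = z⁻¹ * c * z := by rw [key]; group
      have hcz : Commute c z := ((h2 _ (E.inv_mem he) z hz).1 z hz).mul_left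
        ((h2 e he z2 hz2P).1 z hz)
      have hyc' : y = c := by rw [hyc, mul_assoc, hcz.eq, inv_mul_cancel_left]
      refine comm_of_coprime_fixed m z
        (orderOf_coprime_of_mem hcop hmL (comm_mem_of_le_normalizer hLP hmL hz)) ?_
      rw [← hy, hyc']
      exact (hcl _ (E.inv_mem he) z hz m hmL).mul_right (hcl _ he z2 hz2P m hmL)
    have h1 := hinf m hmL (hC m hm1)
    calc e * l = l * (l⁻¹ * e * l * e⁻¹) * e := by group
      _ = l * e := by rw [← hm, h1, mul_one]
  intro l hl z hz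
  set y := z⁻¹ * l * z * l⁻¹ with hy
  have hyP : y ∈ P := comm_mem_of_le_normalizer hLP hl hz
  refine (comm_of_coprime_fixed l z (orderOf_coprime_of_mem hcop hl hyP) ?_).symm
  refine hfix y hyP (fun e he => ?_) l hl
  set c := ⁅e, z⁆ with hc
  have h1 : Commute l c := hcl e he z hz l hl
  calc e * y = (e * z * e⁻¹)⁻¹ * (e * l * e⁻¹) * (e * z * e⁻¹) * (e * l * e⁻¹)⁻¹ * e := by
        rw [hy]; group
    _ = (c * z)⁻¹ * l * (c * z) * l⁻¹ * e := by
        rw [show e * z * e⁻¹ = c * z by rw [hc, commutatorElement_def]; group,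
          show e * l * e⁻¹ = l by rw [hEcomm e he l hl, mul_inv_cancel_right]]
    _ = z⁻¹ * (c⁻¹ * (l * c)) * z * l⁻¹ * e := by group
    _ = y * e := by rw [h1.eq, inv_mul_cancel_left, hy]

/-- The core statement: a normal self-centralizing `p`-subgroup admits no nontrivial `E`-invariant
`p'`-subgroups, if `C_P(E) ≤ E`. -/
theorem eq_bot_of_self_centralizing [Finite G] (p : ℕ) [Fact p.Prime] (P : Subgroup G) [hPn : P.Normal]
    (hP : IsPGroup p P) (hC : Subgroup.centralizer (P : Set G) ≤ P) (E : Subgroup G) (hE : IsPGroup p E)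
    (hfull : ∀ z ∈ P, (∀ e ∈ E, e * z = z * e) → z ∈ E) (L : Subgroup G)
    (hL : (Nat.card L).Coprime p) (hEL : E ≤ Subgroup.normalizer (L : Set G))
    (h2 : p = 2 → ∀ e ∈ E, ∀ z ∈ P, (∀ w ∈ P, Commute ⁅e, z⁆ w) ∧ ∀ f ∈ E, Commute ⁅e, z⁆ f) :
    L = ⊥ := by
  have hN : ∀ K : Subgroup G, K ≤ Subgroup.normalizer (P : Set G) := fun K => by
    rw [Subgroup.normalizer_eq_top]; exact le_top
  have hcop : (Nat.card L).Coprime (Nat.card P) := by
    obtain ⟨n, hn⟩ := IsPGroup.iff_card.1 hP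
    rw [hn]; exact hL.pow_right n
  have hinf : L ⊓ P = ⊥ := by
    rw [← Subgroup.card_eq_one]
    exact Nat.eq_one_of_dvd_coprimes hcop (Subgroup.card_dvd_of_le inf_le_left)
      (Subgroup.card_dvd_of_le inf_le_right)
  have hfix : ∀ z ∈ P, (∀ e ∈ E, e * z = z * e) → ∀ l ∈ L, l * z = z * l := by
    intro z hz hze l hl
    have h1 : ⁅z, l⁆ ∈ L := by
      have := L.mul_mem (conj_mem_of_le_normalizer hEL (hfull z hz hze) hl) (L.inv_mem hl)
      simpa [commutatorElement_def] using this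
    have h2 : ⁅z, l⁆ ∈ P := by
      have := P.mul_mem hz (hPn.conj_mem _ (P.inv_mem hz) l)
      simpa [commutatorElement_def, mul_assoc] using this
    have : ⁅z, l⁆ ∈ L ⊓ P := ⟨h1, h2⟩
    rw [hinf, Subgroup.mem_bot, commutatorElement_eq_one_iff_mul_comm] at this
    exact this.symm
  have hLC : L ≤ Subgroup.centralizer (P : Set G) := by
    by_cases hp : p = 2
    · exact centralizes_of_class_two p L E P hL hP hEL (hN L) (hN E)
        (fun x hx => hC fun z hz => (hx z hz).symm) hfix (h2 hp)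
    · exact centralizes_of_fixes_fixed_points p hp L E hL hE hEL P hP (hN L) (hN E) hfix
  exact le_bot_iff.1 (hinf ▸ le_inf le_rfl (hLC.trans hC))

theorem commute_of_class_le_two {S : Type*} [Group S] [Group.IsNilpotent S]
    (h : Group.nilpotencyClass S ≤ 2) (a b c : S) : ⁅⁅a, b⁆, c⁆ = 1 := by
  have h1 : (⊤ : Subgroup S).lowerCentralSeries 2 = ⊥ :=
    le_bot_iff.1 (Subgroup.lowerCentralSeries_nilpotencyClass (G := S) ▸
      Subgroup.lowerCentralSeries_antitone _ h)
  have h2 : ⁅⁅a, b⁆, c⁆ ∈ (⊤ : Subgroup S).lowerCentralSeries 2 := by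
    refine Subgroup.commutator_mem_commutator ?_ (Subgroup.mem_top c)
    exact Subgroup.commutator_mem_commutator (Subgroup.mem_top a) (Subgroup.mem_top b)
  rwa [h1, Subgroup.mem_bot] at h2

/-- In a `p`-constrained group, a `p'`-subgroup normalised by an abelian `p`-subgroup `E` that
contains all `p`-elements of its centralizer lies in the `p'`-core. -/
theorem le_pPrimeCore_of_pConstrained [Finite G] (p : ℕ) [Fact p.Prime]
    (hG : Cfsg.IsPConstrained p G)
    (h2 : p = 2 → ∀ S : Sylow p G, ∀ a ∈ (S : Subgroup G), ∀ b ∈ (S : Subgroup G),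
      ∀ c ∈ (S : Subgroup G), ⁅⁅a, b⁆, c⁆ = 1)
    (E : Subgroup G) (hE : IsPGroup p E)
    (hEfull : ∀ x ∈ Subgroup.centralizer (E : Set G), IsPGroup p (Subgroup.zpowers x) → x ∈ E)
    (L : Subgroup G) (hL : (Nat.card L).Coprime p) (hEL : E ≤ Subgroup.normalizer (L : Set G)) :
    L ≤ Cfsg.pPrimeCore p G := by
  have hp' : p.Prime := Fact.out
  have hOn : (Cfsg.pPrimeCore p G).Normal := HallCore.pPrimeCore_normal p G
  have hHn : (Cfsg.pPrimePCore p G).Normal := HallCore.pPrimePCore_normal p G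
  set O := Cfsg.pPrimeCore p G with hO
  set H := Cfsg.pPrimePCore p G with hH
  set π := QuotientGroup.mk' O with hπ
  have hπs : Function.Surjective π := QuotientGroup.mk'_surjective O
  set Pb := Cfsg.pCore p (G ⧸ O) with hPb
  have hPbp : IsPGroup p Pb := HallCore.isPGroup_pCore p _
  have : Pb.Normal := HallCore.pCore_normal p _
  have hmemH : ∀ x, x ∈ H ↔ π x ∈ Pb := fun x => Iff.rfl
  -- Sylow subgroups map onto a group containing the core
  have hlift : ∀ S : Sylow p G, ∀ z ∈ Pb, ∃ s ∈ (S : Subgroup G), s ∈ H ∧ π s = z := by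
    intro S z hz
    have h1 : Pb ≤ ((S.mapSurjective hπs : Sylow p (G ⧸ O)) : Subgroup (G ⧸ O)) :=
      HallCore.pCore_le_sylow _
    have h3 := h1 hz
    rw [Sylow.coe_mapSurjective] at h3
    obtain ⟨s, hs, rfl⟩ := h3
    exact ⟨s, hs, hz, rfl⟩
  have hOS : ∀ S : Subgroup G, IsPGroup p S → ∀ x ∈ S, x ∈ O → x = 1 := by
    intro S hS x hxS hxO
    obtain ⟨k, hk⟩ := IsPGroup.iff_orderOf.1 hS ⟨x, hxS⟩
    rw [Subgroup.orderOf_mk] at hk
    rw [← orderOf_eq_one_iff]
    exact Nat.eq_one_of_dvd_coprimes ((HallCore.coprime_card_pPrimeCore p G).symm.pow_left k)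
      hk.dvd (Subgroup.orderOf_dvd_natCard O hxO)
  -- the image of `O_{p',p}` is self-centralizing
  have hC : Subgroup.centralizer (Pb : Set (G ⧸ O)) ≤ Pb := by
    intro xb hxb
    obtain ⟨x, rfl⟩ := hπs xb
    obtain ⟨S⟩ : Nonempty (Sylow p G) := inferInstance
    obtain ⟨P0, hP0⟩ :=
      (S.isPGroup'.to_le (inf_le_left : (S : Subgroup G) ⊓ H ≤ S)).comap_subtype (K := H)
        |>.exists_le_sylow
    set Q := (P0 : Subgroup H).map H.subtype with hQ
    have hQp : IsPGroup p Q := P0.isPGroup'.map _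
    have hQH : Q ≤ H := Subgroup.map_subtype_le _
    have hQsurj : ∀ z ∈ Pb, ∃ q ∈ Q, π q = z := by
      intro z hz
      obtain ⟨s, hs, hsH, rfl⟩ := hlift S z hz
      exact ⟨s, ⟨⟨s, hsH⟩, hP0 (show (⟨s, hsH⟩ : H) ∈ ((S : Subgroup G) ⊓ H).comap H.subtype from
        ⟨hs, hsH⟩), rfl⟩, rfl⟩
    have hx : x ∈ Subgroup.normalizer (Q : Set G) ⊔ H := by
      rw [hQ, Sylow.normalizer_sup_eq_top P0]; exact Subgroup.mem_top x
    rw [Subgroup.mem_sup_of_normal_right] at hx
    obtain ⟨n, hn, h, hh, rfl⟩ := hx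
    obtain ⟨q, hq, hqh⟩ := hQsurj (π h) ((hmemH h).1 hh)
    have hy : n * q ∈ Subgroup.normalizer (Q : Set G) :=
      Subgroup.mul_mem _ hn (Subgroup.le_normalizer hq)
    have hπy : π (n * q) = π (n * h) := by rw [map_mul, map_mul, hqh]
    suffices hyC : n * q ∈ Subgroup.centralizer (Q : Set G) by
      rw [← hπy]
      exact (hmemH _).1 (hG P0 hyC)
    intro u hu
    have hc : ⁅n * q, u⁆ ∈ Q := by
      have := Q.mul_mem ((Subgroup.mem_normalizer_iff.1 hy u).1 hu) (Q.inv_mem hu)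
      simpa [commutatorElement_def] using this
    have hcO : ⁅n * q, u⁆ ∈ O := by
      rw [← QuotientGroup.eq_one_iff]
      show π ⁅n * q, u⁆ = 1
      rw [map_commutatorElement, commutatorElement_eq_one_iff_mul_comm, hπy]
      exact (hxb (π u) ((hmemH u).1 (hQH hu))).symm
    exact (commutatorElement_eq_one_iff_mul_comm.1 (hOS Q hQp _ hc hcO)).symm
  -- transfer the hypotheses to the quotient
  obtain ⟨S, hES⟩ := hE.exists_le_sylow
  have hEb : IsPGroup p (E.map π) := hE.map π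
  have hELb : E.map π ≤ Subgroup.normalizer ((L.map π : Subgroup (G ⧸ O)) : Set (G ⧸ O)) :=
    (Subgroup.map_mono hEL).trans (Subgroup.le_normalizer_map π)
  have hLb : (Nat.card (L.map π)).Coprime p :=
    Nat.Coprime.coprime_dvd_left (Subgroup.card_map_dvd _ _) hL
  have hfull : ∀ z ∈ Pb, (∀ e ∈ E.map π, e * z = z * e) → z ∈ E.map π := by
    intro z hz hze
    obtain ⟨s, hs, -, rfl⟩ := hlift S z hz
    refine ⟨s, hEfull s (fun e he => ?_) (S.isPGroup'.to_le (Subgroup.zpowers_le.2 hs)), rfl⟩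
    refine commutatorElement_eq_one_iff_mul_comm.1 (hOS S S.isPGroup' _ ?_ ?_)
    · rw [commutatorElement_def]
      exact Subgroup.mul_mem _ (Subgroup.mul_mem _ (Subgroup.mul_mem _ (hES he) hs)
        (Subgroup.inv_mem _ (hES he))) (Subgroup.inv_mem _ hs)
    · rw [← QuotientGroup.eq_one_iff]
      show π ⁅e, s⁆ = 1
      rw [map_commutatorElement, commutatorElement_eq_one_iff_mul_comm]
      exact hze _ (Subgroup.mem_map_of_mem π he)
  have key := eq_bot_of_self_centralizing p Pb hPbp hC (E.map π) hEb hfull (L.map π) hLb hELb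
    (fun hp2 e he z hz => by
      obtain ⟨e, heE, rfl⟩ := he
      obtain ⟨s, hs, -, rfl⟩ := hlift S z hz
      have key : ∀ t ∈ (S : Subgroup G), Commute ⁅π e, π s⁆ (π t) := by
        intro t ht
        show ⁅π e, π s⁆ * π t = π t * ⁅π e, π s⁆
        rw [← commutatorElement_eq_one_iff_mul_comm, ← map_commutatorElement,
          ← map_commutatorElement, h2 hp2 S e (hES heE) s hs t ht, map_one]
      constructor
      · intro w hw
        obtain ⟨t, ht, -, rfl⟩ := hlift S w hw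
        exact key t ht
      · rintro _ ⟨f, hf, rfl⟩
        exact key f (hES hf))
  intro l hl
  rw [← QuotientGroup.eq_one_iff]
  have : π l ∈ L.map π := Subgroup.mem_map_of_mem π hl
  rwa [key, Subgroup.mem_bot] at this

end Cfsg.Agent.PConstrainedSignal
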