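import Mathlib
import Cfsg.Prelude.Def_OddOrderLocal
import Cfsg.Agent.Lib.HallCore
import Cfsg.Agent.Lib.CoprimeGen
import Cfsg.Agent.Lib.ComponentsCores
import Cfsg.Agent.Lib.PGroupsBasic
import Cfsg.Agent.S1480

/-!
Consequences of the transitivity hypothesis in a minimal simple group of odd order
(Bender-Glauberman, section 7).
-/

set_option autoImplicit false

namespace Cfsg.Agent.BGTransitivity

open Cfsg
open Cfsg.Agent.HallCore
open scoped Pointwise

variable {G : Type*} [Group G] [Finite G]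

/-- `O_{π(A)'}(X)`. -/
abbrev coprimeCore (A X : Subgroup G) : Subgroup G := piCoreOf (primesNotDvd (Nat.card A)) X

/-- `O_{π(A)'}(C_G(A))`. -/
abbrev centCore (A : Subgroup G) : Subgroup G := coprimeCore A (Subgroup.centralizer (A : Set G))

omit [Finite G] in
theorem piCoreOf_le (π : Set ℕ) (X : Subgroup G) : piCoreOf π X ≤ X := Subgroup.map_subtype_le _

theorem piNat_card_piCoreOf (π : Set ℕ) (X : Subgroup G) : PiNat π (Nat.card (piCoreOf π X)) := by
  rw [piCoreOf, Subgroup.card_map_of_injective X.subtype_injective]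
  exact piNat_card_piCore π X

omit [Finite G] in
theorem normalizer_le_normalizer_piCoreOf (π : Set ℕ) (X : Subgroup G) :
    Subgroup.normalizer (X : Set G) ≤ Subgroup.normalizer (piCoreOf π X : Set G) :=
  haveI := piCore_characteristic π X
  ComponentsCores.normalizer_le_normalizer_map_subtype X (piCore π X)

omit [Finite G] in
theorem le_normalizer_piCoreOf (π : Set ℕ) {A X : Subgroup G}
    (h : A ≤ Subgroup.normalizer (X : Set G)) : A ≤ Subgroup.normalizer (piCoreOf π X : Set G) :=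
  h.trans (normalizer_le_normalizer_piCoreOf π X)

theorem le_piCoreOf {π : Set ℕ} {X Y : Subgroup G} (hY : Y ≤ X) (hn : X ≤ Subgroup.normalizer (Y : Set G))
    (hπ : PiNat π (Nat.card Y)) : Y ≤ piCoreOf π X := by
  haveI : (Y.subgroupOf X).Normal := Subgroup.normal_subgroupOf_of_le_normalizer hn
  intro y hy
  refine ⟨⟨y, hY hy⟩, le_piCore (N := Y.subgroupOf X) ?_ hy, rfl⟩
  exact hπ.of_dvd (card_subgroupOf_dvd Y X)

theorem card_coprime {A Y : Subgroup G} (h : PiNat (primesNotDvd (Nat.card A)) (Nat.card Y)) :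
    (Nat.card A).Coprime (Nat.card Y) :=
  Nat.coprime_of_dvd fun p hp h1 h2 => (h p hp h2).2 h1

theorem piNat_of_qgroup {n q : ℕ} [Fact q.Prime] {Y : Subgroup G} (hY : IsPGroup q Y) (hq : ¬ q ∣ n) :
    PiNat (primesNotDvd n) (Nat.card Y) := by
  obtain ⟨m, hm⟩ := IsPGroup.iff_card.1 hY
  intro r hr hrd
  rw [hm] at hrd
  have : r = q := (Nat.prime_dvd_prime_iff_eq hr Fact.out).1 (hr.dvd_of_dvd_pow hrd)
  exact ⟨hr, this ▸ hq⟩

theorem piNat_singleton_iff_isPGroup {q : ℕ} [Fact q.Prime] {Y : Subgroup G} :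
    (∀ p : ℕ, p.Prime → p ∣ Nat.card Y → p ∈ ({q} : Set ℕ)) ↔ IsPGroup q Y :=
  isPGroup_iff_piNat.symm

section simple

variable (hG : IsMinSimpleOddOrder G)
include hG

theorem normalizer_ne_top {D : Subgroup G} (hD : D ≠ ⊥) (hD' : D ≠ ⊤) :
    Subgroup.normalizer (D : Set G) ≠ ⊤ := by
  intro h
  haveI := hG.2.1
  rcases (Subgroup.normalizer_eq_top_iff.mp h).eq_bot_or_eq_top with h' | h'
  · exact hD h'
  · exact hD' h'

theorem center_eq_bot : Subgroup.center G = ⊥ := by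
  haveI := hG.2.1
  rcases (inferInstance : (Subgroup.center G).Normal).eq_bot_or_eq_top with h | h
  · exact h
  · exact absurd ⟨⟨fun a b => (Subgroup.mem_center_iff.mp (h ▸ Subgroup.mem_top a) b).symm⟩⟩ hG.2.2.1

theorem centralizer_ne_top {e : G} (he : e ≠ 1) : Subgroup.centralizer ({e} : Set G) ≠ ⊤ := by
  intro h
  apply he
  have : e ∈ Subgroup.center G := Subgroup.mem_center_iff.mpr fun g =>
    Subgroup.mem_centralizer_singleton_iff.mp (h ▸ Subgroup.mem_top g)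
  rwa [center_eq_bot hG, Subgroup.mem_bot] at this

theorem not_solvable : ¬ Group.IsSolvable G := by
  intro h
  haveI := hG.2.1
  exact hG.2.2.1 ⟨⟨IsSimpleGroup.comm_iff_isSolvable.mpr h⟩⟩

theorem qgroup_ne_top {q : ℕ} [Fact q.Prime] {Y : Subgroup G} (hY : IsPGroup q Y) : Y ≠ ⊤ := by
  intro h
  apply not_solvable hG
  haveI := hY.isNilpotent
  haveI : Group.IsSolvable Y := inferInstance
  exact Group.isSolvable_of_surjective (f := Y.subtype) fun g => ⟨⟨g, h ▸ Subgroup.mem_top g⟩, rfl⟩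

end simple

variable {A : Subgroup G} {q : ℕ} [Fact q.Prime]

/-- Centralized `π(A)'`-subgroups lie in `O_{π(A)'}(C_G(A))`. -/
theorem le_centCore_of_centralizing (hG : IsMinSimpleOddOrder G) (hA : TransitivityHypothesis A)
    {Y : Subgroup G} (hY : Y ≤ Subgroup.centralizer (A : Set G))
    (hπ : PiNat (primesNotDvd (Nat.card A)) (Nat.card Y)) : Y ≤ centCore A := by
  set N := Subgroup.normalizer (A : Set G) with hN
  have hNtop : N ≠ ⊤ := normalizer_ne_top hG hA.1 hA.2.1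
  have hAY : A ≤ Subgroup.normalizer (Y : Set G) := fun a ha =>
    Subgroup.centralizer_le_normalizer _ fun y hy => (hY hy a ha).symm
  have h1 : Y ≤ coprimeCore A N := by
    rw [coprimeCore, ← hA.2.2 N hNtop Subgroup.le_normalizer]
    exact le_sSup ⟨hY.trans (Subgroup.centralizer_le_normalizer _), hπ, hAY⟩
  have hcent : coprimeCore A N ≤ Subgroup.centralizer (A : Set G) := by
    intro x hx a ha
    have hx' : a * x * a⁻¹ * x⁻¹ ∈ A ⊓ coprimeCore A N := by
      refine ⟨?_, ?_⟩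
      · have := CoprimeAction.conj_mem (piCoreOf_le _ _ hx : x ∈ N) (A.inv_mem ha)
        have h2 := A.mul_mem ha this
        simpa [mul_assoc] using h2
      · exact Subgroup.mul_mem _ (CoprimeAction.conj_mem
          (le_normalizer_piCoreOf _ (Subgroup.le_normalizer.trans Subgroup.le_normalizer) ha) hx)
          (Subgroup.inv_mem _ hx)
    rw [Subgroup.inf_eq_bot_of_coprime (card_coprime (piNat_card_piCoreOf _ N)), Subgroup.mem_bot] at hx'
    exact mul_inv_eq_iff_eq_mul.mp (mul_inv_eq_one.mp hx')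
  refine h1.trans (le_piCoreOf hcent ?_ (piNat_card_piCoreOf _ N))
  exact (Subgroup.centralizer_le_normalizer _).trans
    (Subgroup.le_normalizer.trans (normalizer_le_normalizer_piCoreOf _ N))

omit [Finite G] in
theorem inf_centralizer_le {X : Subgroup G} (A : Subgroup G) :
    coprimeCore A X ⊓ Subgroup.centralizer (A : Set G) ≤ Subgroup.centralizer (A : Set G) := inf_le_right

theorem coprimeCore_inf_le_centCore (hG : IsMinSimpleOddOrder G) (hA : TransitivityHypothesis A)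
    (X : Subgroup G) : coprimeCore A X ⊓ Subgroup.centralizer (A : Set G) ≤ centCore A :=
  le_centCore_of_centralizing hG hA inf_le_right
    ((piNat_card_piCoreOf _ X).of_dvd (Subgroup.card_dvd_of_le inf_le_left))

/-- The maximal `A`-invariant `q`-subgroups. -/
abbrev maxInv (A : Subgroup G) (q : ℕ) : Set (Subgroup G) := maxInvSubgroups ⊤ A {q}

theorem isPGroup_of_mem {Q : Subgroup G} (h : Q ∈ maxInv A q) : IsPGroup q Q :=
  piNat_singleton_iff_isPGroup.1 h.1.2.1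

theorem normalizes_of_mem {Q : Subgroup G} (h : Q ∈ maxInv A q) :
    A ≤ Subgroup.normalizer (Q : Set G) := h.1.2.2

theorem exists_maxInv_ge {R : Subgroup G} (hR : IsPGroup q R)
    (hAR : A ≤ Subgroup.normalizer (R : Set G)) : ∃ Q ∈ maxInv A q, R ≤ Q := by
  obtain ⟨Q, hRQ, hQ⟩ := Finite.exists_le_maximal
    (p := fun Y : Subgroup G => Y ∈ invSubgroups ⊤ A ({q} : Set ℕ))
    (a := R) ⟨le_top, piNat_singleton_iff_isPGroup.2 hR, hAR⟩
  exact ⟨Q, ⟨hQ.1, fun S hS hQS => le_antisymm (hQ.2 hS hQS) hQS⟩, hRQ⟩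

theorem conj_mem_normalizer {A Q : Subgroup G} {c : G} (hc : c ∈ Subgroup.normalizer (A : Set G))
    (hQ : A ≤ Subgroup.normalizer (Q : Set G)) :
    A ≤ Subgroup.normalizer ((MulAut.conj c • Q : Subgroup G) : Set G) := by
  refine CoprimeAction.le_normalizer_of_conj_mem fun a ha y hy => ?_
  rw [CoprimeSZ.mem_conj_smul] at hy ⊢
  have h := CoprimeAction.conj_mem (hQ (CoprimeAction.conj_mem' hc ha)) hy
  simpa [mul_assoc] using h

theorem invSubgroups_conj {π : Set ℕ} {Q : Subgroup G} {c : G}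
    (hc : c ∈ Subgroup.normalizer (A : Set G)) (h : Q ∈ invSubgroups ⊤ A π) :
    MulAut.conj c • Q ∈ invSubgroups ⊤ A π :=
  ⟨le_top, fun p hp hd => h.2.1 p hp (by rwa [CoprimeSZ.card_conj_smul] at hd),
    conj_mem_normalizer hc h.2.2⟩

theorem maxInv_conj {Q : Subgroup G} {c : G} (hc : c ∈ Subgroup.normalizer (A : Set G))
    (h : Q ∈ maxInv A q) : MulAut.conj c • Q ∈ maxInv A q := by
  refine ⟨invSubgroups_conj hc h.1, fun R hR hle => ?_⟩
  have h2 := h.2 _ (invSubgroups_conj (Subgroup.inv_mem _ hc) hR) (by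
    intro y hy
    rw [CoprimeSZ.mem_conj_smul]
    simpa using hle ((CoprimeSZ.mem_conj_smul).2 (by simpa [mul_assoc] using hy) :
      c * y * c⁻¹ ∈ MulAut.conj c • Q))
  rw [← h2, ← CoprimeSZ.conj_smul_mul, mul_inv_cancel, map_one, one_smul]

theorem centCore_le_normalizer (A : Subgroup G) : centCore A ≤ Subgroup.normalizer (A : Set G) :=
  (piCoreOf_le _ _).trans (Subgroup.centralizer_le_normalizer _)

theorem qgroup_le_coprimeCore (hA : TransitivityHypothesis A) (hqA : ¬ q ∣ Nat.card A)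
    {X Y : Subgroup G} (hX : X ≠ ⊤) (hAX : A ≤ X) (hYX : Y ≤ X) (hY : IsPGroup q Y)
    (hAY : A ≤ Subgroup.normalizer (Y : Set G)) : Y ≤ coprimeCore A X := by
  rw [coprimeCore, ← hA.2.2 X hX hAX]
  exact le_sSup ⟨hYX, piNat_of_qgroup hY hqA, hAY⟩

/-- Two invariant `q`-subgroups of a proper subgroup over `A` are embedded in one maximal one,
up to `centCore A`. -/
theorem exists_common (hG : IsMinSimpleOddOrder G) (hA : TransitivityHypothesis A)
    (hqA : ¬ q ∣ Nat.card A) {H R R' : Subgroup G} (hH : H ≠ ⊤) (hAH : A ≤ H)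
    (hR : IsPGroup q R) (hAR : A ≤ Subgroup.normalizer (R : Set G)) (hRH : R ≤ H)
    (hR' : IsPGroup q R') (hAR' : A ≤ Subgroup.normalizer (R' : Set G)) (hR'H : R' ≤ H) :
    ∃ c ∈ centCore A, ∃ Q ∈ maxInv A q, MulAut.conj c • R ≤ Q ∧ R' ≤ Q := by
  set O := coprimeCore A H with hO
  have hAO : A ≤ Subgroup.normalizer (O : Set G) :=
    le_normalizer_piCoreOf _ (hAH.trans Subgroup.le_normalizer)
  have hcop : (Nat.card A).Coprime (Nat.card O) := card_coprime (piNat_card_piCoreOf _ H)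
  haveI := hG.2.2.2 H hH
  have hsol : Group.IsSolvable A ∨ Group.IsSolvable O :=
    Or.inr (CoprimeAction.isSolvable_of_le (piCoreOf_le _ _))
  obtain ⟨T, hRT, hAT⟩ := CoprimeAction.exists_invariant_sylow_ge (p := q) hAO hcop hsol
    (qgroup_le_coprimeCore hA hqA hH hAH hRH hR hAR) hR hAR
  obtain ⟨T', hR'T', hAT'⟩ := CoprimeAction.exists_invariant_sylow_ge (p := q) hAO hcop hsol
    (qgroup_le_coprimeCore hA hqA hH hAH hR'H hR' hAR') hR' hAR'
  obtain ⟨c, hc, hcT⟩ := CoprimeAction.invariant_sylow_conj hAO hcop hsol T T' hAT hAT'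
  obtain ⟨Q, hQ, hT'Q⟩ := exists_maxInv_ge (T'.isPGroup'.map O.subtype) hAT'
  refine ⟨c, coprimeCore_inf_le_centCore hG hA H ⟨c.2, hc⟩, Q, hQ, ?_, hR'T'.trans hT'Q⟩
  refine le_trans ?_ hT'Q
  have h : MulAut.conj c • (T : Subgroup O) = (T' : Subgroup O) := by
    rw [← hcT]; rfl
  intro x hx
  rw [CoprimeSZ.mem_conj_smul] at hx
  obtain ⟨t, ht, htx⟩ := hRT hx
  refine ⟨c * t * c⁻¹, ?_, ?_⟩
  · rw [SetLike.mem_coe, ← h, CoprimeSZ.mem_conj_smul]
    have : c⁻¹ * (c * t * c⁻¹) * c = t := by group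
    rw [this]
    exact ht
  · simp only [Subgroup.coe_subtype] at htx ⊢
    push_cast
    rw [htx]
    group

theorem eq_bot_of_conj_eq_bot {R : Subgroup G} {c : G} (h : MulAut.conj c • R = ⊥) : R = ⊥ := by
  apply Subgroup.eq_bot_of_card_eq
  rw [← CoprimeSZ.card_conj_smul c, h, Subgroup.card_bot]

theorem card_lt_normalizer_inf {Q D : Subgroup G} (hQ : IsPGroup q Q) (hDQ : D < Q) :
    Nat.card D < Nat.card ↥(Q ⊓ Subgroup.normalizer (D : Set G)) := by
  haveI := hQ.isNilpotent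
  have hlt : D.subgroupOf Q < ⊤ := by
    rw [lt_top_iff_ne_top, Ne, Subgroup.subgroupOf_eq_top]
    exact not_le_of_gt hDQ
  obtain ⟨g, hg, hgD⟩ := SetLike.exists_of_lt (normalizerCondition_of_isNilpotent (G := Q) _ hlt)
  have hgN : (g : G) ∈ Subgroup.normalizer (D : Set G) := by
    rw [Subgroup.mem_normalizer_iff]
    intro x
    constructor
    · intro hx
      have := (Subgroup.mem_normalizer_iff.mp hg ⟨x, hDQ.le hx⟩).mp (by simpa [Subgroup.mem_subgroupOf] using hx)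
      simpa [Subgroup.mem_subgroupOf] using this
    · intro hx
      have hxQ : x ∈ Q := by
        have := Q.mul_mem (Q.mul_mem (Q.inv_mem g.2) (hDQ.le hx)) g.2
        simpa [mul_assoc] using this
      have := (Subgroup.mem_normalizer_iff.mp hg ⟨x, hxQ⟩).mpr (by simpa [Subgroup.mem_subgroupOf] using hx)
      simpa [Subgroup.mem_subgroupOf] using this
  refine Set.ncard_lt_ncard (s := (D : Set G)) ?_ (Set.toFinite _)
  refine ⟨fun x hx => ⟨hDQ.le hx, Subgroup.le_normalizer hx⟩, fun h => hgD ?_⟩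
  exact h ⟨g.2, hgN⟩

theorem maxInv_conj_of_inf (hG : IsMinSimpleOddOrder G) (hA : TransitivityHypothesis A)
    (hqA : ¬ q ∣ Nat.card A) (n : ℕ) : ∀ Q Q' : Subgroup G, Q ∈ maxInv A q → Q' ∈ maxInv A q →
      Q ⊓ Q' ≠ ⊥ → Nat.card G ≤ Nat.card ↥(Q ⊓ Q') + n →
      ∃ k ∈ centCore A, Q' = MulAut.conj k • Q := by
  induction n with
  | zero =>
    intro Q Q' hQ _ _ hn
    exact absurd (Subgroup.eq_top_of_le_card _ (by simpa using hn)) fun h =>
      qgroup_ne_top hG (isPGroup_of_mem hQ) (top_le_iff.mp (h ▸ inf_le_left))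
  | succ n ih =>
    intro Q Q' hQ hQ' hD hn
    set D := Q ⊓ Q' with hDdef
    by_cases h1 : D = Q
    · exact ⟨1, one_mem _, by
        rw [map_one, one_smul]
        exact hQ.2 _ hQ'.1 (inf_eq_left.mp h1)⟩
    have h1' : D < Q := lt_of_le_of_ne inf_le_left h1
    have h2' : D < Q' := by
      refine lt_of_le_of_ne inf_le_right fun h2 => h1 ?_
      have := hQ'.2 _ hQ.1 (inf_eq_right.mp h2)
      rw [hDdef, this, inf_idem]
    have hAD : A ≤ Subgroup.normalizer (D : Set G) :=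
      CoprimeAction.le_normalizer_inf (normalizes_of_mem hQ) (normalizes_of_mem hQ')
    set H := Subgroup.normalizer (D : Set G) with hHdef
    have hH : H ≠ ⊤ := normalizer_ne_top hG hD
      (qgroup_ne_top hG ((isPGroup_of_mem hQ).to_le inf_le_left))
    obtain ⟨c, hc, S, hS, hRS, hR'S⟩ := exists_common (q := q) hG hA hqA hH hAD
      ((isPGroup_of_mem hQ).to_le inf_le_left)
      (CoprimeAction.le_normalizer_inf (normalizes_of_mem hQ) (hAD.trans Subgroup.le_normalizer))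
      (inf_le_right : Q ⊓ H ≤ H)
      ((isPGroup_of_mem hQ').to_le inf_le_left)
      (CoprimeAction.le_normalizer_inf (normalizes_of_mem hQ') (hAD.trans Subgroup.le_normalizer))
      (inf_le_right : Q' ⊓ H ≤ H)
    have hbig : Nat.card D < Nat.card ↥(Q' ⊓ S) :=
      (card_lt_normalizer_inf (isPGroup_of_mem hQ') h2').trans_le
        (Subgroup.card_le_of_le (le_inf inf_le_left hR'S))
    have hbig' : Nat.card D < Nat.card ↥(MulAut.conj c • Q ⊓ S) := by
      refine (card_lt_normalizer_inf (isPGroup_of_mem hQ) h1').trans_le ?_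
      rw [← CoprimeSZ.card_conj_smul c]
      exact Subgroup.card_le_of_le (le_inf (Subgroup.pointwise_smul_le_pointwise_smul_iff.mpr inf_le_left) hRS)
    have hpos : 1 < Nat.card D := by
      by_contra h
      exact hD (Subgroup.eq_bot_of_card_le D (by omega))
    obtain ⟨k1, hk1, hk1eq⟩ := ih (MulAut.conj c • Q) S (maxInv_conj (centCore_le_normalizer A hc) hQ) hS
      (fun h => by rw [h, Subgroup.card_bot] at hbig'; omega) (by omega)
    obtain ⟨k2, hk2, hk2eq⟩ := ih Q' S hQ' hS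
      (fun h => by rw [h, Subgroup.card_bot] at hbig; omega) (by omega)
    refine ⟨k2⁻¹ * (k1 * c), mul_mem (inv_mem hk2) (mul_mem hk1 hc), ?_⟩
    rw [CoprimeSZ.conj_smul_mul, CoprimeSZ.conj_smul_mul, ← hk1eq, hk2eq, ← CoprimeSZ.conj_smul_mul,
      inv_mul_cancel, map_one, one_smul]

/-- BG Lemma 7.2. -/
theorem conj_of_meet (hG : IsMinSimpleOddOrder G) (hA : TransitivityHypothesis A)
    (hqA : ¬ q ∣ Nat.card A) {Q₁ Q₂ H : Subgroup G} (h₁ : Q₁ ∈ maxInv A q) (h₂ : Q₂ ∈ maxInv A q)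
    (hH : H ≠ ⊤) (hAH : A ≤ H) (hm₁ : H ⊓ Q₁ ≠ ⊥) (hm₂ : H ⊓ Q₂ ≠ ⊥) :
    ∃ k ∈ centCore A, Q₂ = MulAut.conj k • Q₁ := by
  have hnH : A ≤ Subgroup.normalizer (H : Set G) := hAH.trans Subgroup.le_normalizer
  obtain ⟨c, hc, S, hS, hRS, hR'S⟩ := exists_common (q := q) hG hA hqA hH hAH
    ((isPGroup_of_mem h₁).to_le inf_le_right)
    (CoprimeAction.le_normalizer_inf hnH (normalizes_of_mem h₁)) (inf_le_left : H ⊓ Q₁ ≤ H)
    ((isPGroup_of_mem h₂).to_le inf_le_right)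
    (CoprimeAction.le_normalizer_inf hnH (normalizes_of_mem h₂)) (inf_le_left : H ⊓ Q₂ ≤ H)
  have hcQ := maxInv_conj (centCore_le_normalizer A hc) h₁
  obtain ⟨k1, hk1, hk1eq⟩ := maxInv_conj_of_inf hG hA hqA (Nat.card G) (MulAut.conj c • Q₁) S hcQ hS
    (fun h => hm₁ (eq_bot_of_conj_eq_bot (c := c) (le_bot_iff.mp
      (h ▸ le_inf (Subgroup.pointwise_smul_le_pointwise_smul_iff.mpr inf_le_right) hRS))))
    (Nat.le_add_left _ _)
  obtain ⟨k2, hk2, hk2eq⟩ := maxInv_conj_of_inf hG hA hqA (Nat.card G) Q₂ S h₂ hS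
    (fun h => hm₂ (le_bot_iff.mp (h ▸ le_inf inf_le_right hR'S))) (Nat.le_add_left _ _)
  refine ⟨k2⁻¹ * (k1 * c), mul_mem (inv_mem hk2) (mul_mem hk1 hc), ?_⟩
  rw [CoprimeSZ.conj_smul_mul, CoprimeSZ.conj_smul_mul, ← hk1eq, hk2eq, ← CoprimeSZ.conj_smul_mul,
    inv_mul_cancel, map_one, one_smul]

omit [Finite G] in
theorem exists_elementary_of_not_rankLE {k : ℕ} {Z : Subgroup G} (h : ¬ RankLE k ↥Z) :
    ∃ p : ℕ, p.Prime ∧ ∃ E : Subgroup G, E ≤ Z ∧ IsElementaryAbelian p E ∧ p ^ k < Nat.card E := by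
  by_contra hcon
  apply h
  intro p hp B hBc hBp
  by_contra hlt
  refine hcon ⟨p, hp, B.map Z.subtype, Subgroup.map_subtype_le B,
    PGroupsBasic.isElementaryAbelian_map_hom ⟨hBc, hBp⟩ Z.subtype, ?_⟩
  rw [Subgroup.card_map_of_injective Z.subtype_injective]
  omega

theorem eq_bot_of_maxInv_bot (hb : (⊥ : Subgroup G) ∈ maxInv A q) {Q : Subgroup G}
    (hQ : Q ∈ maxInv A q) : Q = ⊥ := hb.2 Q hQ.1 bot_le

/-- A rank two or three subgroup of `Z(A)` has a large subgroup with fixed points in `Q`. -/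
theorem exists_fixed_in {p : ℕ} [Fact p.Prime] (hqA : ¬ q ∣ Nat.card A) {E Q : Subgroup G}
    (hE : IsElementaryAbelian p E) (hEA : E ≤ A) (hE1 : 1 < Nat.card E) (hQ : Q ∈ maxInv A q)
    (hQne : Q ≠ ⊥) :
    ∃ B : Subgroup G, B ≤ E ∧ Nat.card E ≤ p * Nat.card B ∧
      Q ⊓ Subgroup.centralizer (B : Set G) ≠ ⊥ := by
  have hqp : q ≠ p := by
    rintro rfl
    rcases (PGroupsBasic.isPGroup_of_isElementaryAbelian hE).card_eq_or_dvd with h | h
    · omega
    · exact hqA (h.trans (Subgroup.card_dvd_of_le hEA))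
  obtain ⟨B, hB, hc, v, hv, hv1, hvB⟩ := Cfsg.Agent.S1480.exists_fixed_outside hqp E Q ⊥ hE
    (isPGroup_of_mem hQ) (hEA.trans (normalizes_of_mem hQ))
    (fun a _ => Subgroup.mem_normalizer_iff.mpr fun x => by
      simp [Subgroup.mem_bot]) (fun h => hQne (le_bot_iff.mp h))
  exact ⟨B, hB, hc, fun h => hv1 (h ▸ ⟨hv, hvB⟩)⟩

omit [Finite G] in
theorem exists_ne_one_of_card {B : Subgroup G} [Finite B] (h : 1 < Nat.card B) : ∃ e ∈ B, e ≠ 1 :=
  B.bot_or_exists_ne_one.resolve_left fun hb => by rw [hb, Subgroup.card_bot] at h; omega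

/-- BG Lemma 7.3. -/
theorem conj_of_rank_three (hG : IsMinSimpleOddOrder G) (hA : TransitivityHypothesis A)
    (hqA : ¬ q ∣ Nat.card A) (hZ : ¬ RankLE 2 ↥(A ⊓ Subgroup.centralizer (A : Set G)))
    {Q₁ Q₂ : Subgroup G} (h₁ : Q₁ ∈ maxInv A q) (h₂ : Q₂ ∈ maxInv A q) :
    ∃ k ∈ centCore A, Q₂ = MulAut.conj k • Q₁ := by
  by_cases hb : (⊥ : Subgroup G) ∈ maxInv A q
  · refine ⟨1, one_mem _, ?_⟩
    rw [map_one, one_smul, eq_bot_of_maxInv_bot hb h₁, eq_bot_of_maxInv_bot hb h₂]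
  obtain ⟨p, hp, E, hEZ, hE, hEc⟩ := exists_elementary_of_not_rankLE hZ
  haveI := Fact.mk hp
  have hEA : E ≤ A := hEZ.trans inf_le_left
  have hE1 : 1 < Nat.card E := (Nat.one_lt_pow two_ne_zero hp.one_lt).trans hEc
  obtain ⟨B₁, hB₁, hc₁, hf₁⟩ := exists_fixed_in (p := p) hqA hE hEA hE1 h₁ (fun h => hb (h ▸ h₁))
  obtain ⟨B₂, hB₂, hc₂, hf₂⟩ := exists_fixed_in (p := p) hqA hE hEA hE1 h₂ (fun h => hb (h ▸ h₂))
  have hidx : ∀ B : Subgroup G, B ≤ E → Nat.card E ≤ p * Nat.card B → B.relIndex E ≤ p := by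
    intro B hB hc
    rw [← HallCore.card_mul_relIndex hB, mul_comm p] at hc
    exact Nat.le_of_mul_le_mul_left hc Nat.card_pos
  obtain ⟨e, he, he1⟩ : ∃ e ∈ B₁ ⊓ B₂, e ≠ 1 := by
    refine (B₁ ⊓ B₂).bot_or_exists_ne_one.resolve_left fun h => ?_
    have h3 := (Subgroup.relIndex_inf_le (H := B₁) (K := B₂) (L := E)).trans
      (Nat.mul_le_mul (hidx B₁ hB₁ hc₁) (hidx B₂ hB₂ hc₂))
    rw [h, Subgroup.relIndex_bot_left, ← pow_two] at h3
    omega
  have hA_e : A ≤ Subgroup.centralizer ({e} : Set G) := fun a ha =>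
    Subgroup.mem_centralizer_singleton_iff.mpr ((hEZ (hB₁ he.1)).2 a ha)
  have hcb : ∀ B : Subgroup G, e ∈ B →
      Subgroup.centralizer (B : Set G) ≤ Subgroup.centralizer ({e} : Set G) :=
    fun B h => Subgroup.centralizer_le (Set.singleton_subset_iff.mpr h)
  exact conj_of_meet hG hA hqA h₁ h₂ (centralizer_ne_top hG he1) hA_e
    (fun h => hf₁ (le_bot_iff.mp (h ▸ le_inf (inf_le_right.trans (hcb _ he.1)) inf_le_left)))
    (fun h => hf₂ (le_bot_iff.mp (h ▸ le_inf (inf_le_right.trans (hcb _ he.2)) inf_le_left)))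

/-- BG Lemma 7.4. -/
theorem conj_of_rank_two (hG : IsMinSimpleOddOrder G) (hA : TransitivityHypothesis A)
    (hqA : ¬ q ∣ Nat.card A) (hZ : ¬ RankLE 1 ↥(A ⊓ Subgroup.centralizer (A : Set G)))
    (hqC : q ∣ Nat.card (Subgroup.centralizer (A : Set G)))
    {Q₁ Q₂ : Subgroup G} (h₁ : Q₁ ∈ maxInv A q) (h₂ : Q₂ ∈ maxInv A q) :
    ∃ k ∈ centCore A, Q₂ = MulAut.conj k • Q₁ := by
  obtain ⟨x, hx⟩ := exists_prime_orderOf_dvd_card' q hqC
  have hx' : orderOf (x : G) = q := by rw [Subgroup.orderOf_coe, hx]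
  have hxq : IsPGroup q ↥(Subgroup.zpowers (x : G)) :=
    IsPGroup.of_card (n := 1) (by rw [Nat.card_zpowers, hx', pow_one])
  have hxA : A ≤ Subgroup.normalizer (Subgroup.zpowers (x : G) : Set G) := fun a ha =>
    Subgroup.centralizer_le_normalizer _ fun y hy => by
      obtain ⟨k, rfl⟩ := hy
      exact ((show Commute a (x : G) from x.2 a ha).zpow_right k).symm.eq
  obtain ⟨Q₀, h₀, hQ₀⟩ := exists_maxInv_ge hxq hxA
  have hxne : (x : G) ≠ 1 := fun h => by
    rw [h, orderOf_one] at hx'; exact (Fact.out : q.Prime).one_lt.ne hx'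
  have hb : (⊥ : Subgroup G) ∉ maxInv A q := fun h => hxne (Subgroup.mem_bot.mp
    (eq_bot_of_maxInv_bot h h₀ ▸ hQ₀ (Subgroup.mem_zpowers _)))
  obtain ⟨p, hp, E, hEZ, hE, hEc⟩ := exists_elementary_of_not_rankLE hZ
  haveI := Fact.mk hp
  rw [pow_one] at hEc
  have hEA : E ≤ A := hEZ.trans inf_le_left
  have key : ∀ Q ∈ maxInv A q, ∃ k ∈ centCore A, Q₀ = MulAut.conj k • Q := by
    intro Q hQ
    obtain ⟨B, hB, hc, hf⟩ := exists_fixed_in (p := p) hqA hE hEA (hp.one_lt.trans hEc) hQ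
      (fun h => hb (h ▸ hQ))
    obtain ⟨e, he, he1⟩ := exists_ne_one_of_card (B := B) (by
      by_contra h
      have : p * Nat.card B ≤ p * 1 := Nat.mul_le_mul_left p (Nat.not_lt.mp h)
      omega)
    refine conj_of_meet hG hA hqA hQ h₀ (centralizer_ne_top hG he1)
      (fun a ha => Subgroup.mem_centralizer_singleton_iff.mpr ((hEZ (hB he)).2 a ha)) ?_ ?_
    · exact fun h => hf (le_bot_iff.mp (h ▸ le_inf
        (inf_le_right.trans (Subgroup.centralizer_le (Set.singleton_subset_iff.mpr he))) inf_le_left))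
    · refine fun h => hxne (Subgroup.mem_bot.mp (h ▸ ⟨?_, hQ₀ (Subgroup.mem_zpowers _)⟩))
      exact Subgroup.mem_centralizer_singleton_iff.mpr (x.2 e (hEA (hB he))).symm
  obtain ⟨k1, hk1, e1⟩ := key Q₁ h₁
  obtain ⟨k2, hk2, e2⟩ := key Q₂ h₂
  refine ⟨k2⁻¹ * k1, mul_mem (inv_mem hk2) hk1, ?_⟩
  rw [CoprimeSZ.conj_smul_mul, ← e1, e2, ← CoprimeSZ.conj_smul_mul, inv_mul_cancel, map_one, one_smul]

/-! ### BG Theorem 7.5 -/

theorem card_coprime_of_primes {A X Y : Subgroup G}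
    (hX : ∀ r : ℕ, r.Prime → r ∣ Nat.card X → r ∣ Nat.card A)
    (hY : PiNat (primesNotDvd (Nat.card A)) (Nat.card Y)) : (Nat.card X).Coprime (Nat.card Y) :=
  Nat.coprime_of_dvd fun r hr h1 h2 => (hY r hr h2).2 (hX r hr h1)

theorem centCore_inf_eq (hG : IsMinSimpleOddOrder G) (hA : TransitivityHypothesis A)
    {P : Subgroup G} (hAP : A ≤ P) :
    centCore A ⊓ Subgroup.centralizer (P : Set G) = coprimeCore A (Subgroup.centralizer (P : Set G)) := by
  have hCPA : Subgroup.centralizer (P : Set G) ≤ Subgroup.centralizer (A : Set G) :=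
    Subgroup.centralizer_le hAP
  apply le_antisymm
  · refine le_piCoreOf inf_le_right ?_
      ((piNat_card_piCoreOf _ _).of_dvd (Subgroup.card_dvd_of_le inf_le_left))
    exact CoprimeAction.le_normalizer_inf
      (le_normalizer_piCoreOf _ (hCPA.trans Subgroup.le_normalizer)) Subgroup.le_normalizer
  · exact le_inf (le_centCore_of_centralizing hG hA ((piCoreOf_le _ _).trans hCPA)
      (piNat_card_piCoreOf _ _)) (piCoreOf_le _ _)

/-- The transitivity statement relative to an invariant subgroup `X`. -/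
def TransOn (A X : Subgroup G) (q : ℕ) : Prop :=
  (∃ Q ∈ maxInv A q, X ≤ Subgroup.normalizer (Q : Set G)) ∧
    ∀ Q₁ ∈ maxInv A q, ∀ Q₂ ∈ maxInv A q, X ≤ Subgroup.normalizer (Q₁ : Set G) →
      X ≤ Subgroup.normalizer (Q₂ : Set G) →
      ∃ k ∈ centCore A ⊓ Subgroup.centralizer (X : Set G), Q₂ = MulAut.conj k • Q₁

omit [Finite G] in
theorem conj_smul_of_mem_normalizer {Q : Subgroup G} {g : G}
    (h : g ∈ Subgroup.normalizer (Q : Set G)) : MulAut.conj g • Q = Q := CoprimeSZ.conj_smul_eq_self h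

theorem mem_maxInv_of_le {X Q : Subgroup G} (hAX : A ≤ X) (hQ : Q ∈ maxInv A q)
    (hXQ : X ≤ Subgroup.normalizer (Q : Set G)) : Q ∈ maxInv X q :=
  ⟨⟨le_top, hQ.1.2.1, hXQ⟩, fun R hR h => hQ.2 R ⟨le_top, hR.2.1, hAX.trans hR.2.2⟩ h⟩

/-- BG 7.5(c). -/
theorem maxInv_subset (hG : IsMinSimpleOddOrder G) (hA : TransitivityHypothesis A)
    (hqA : ¬ q ∣ Nat.card A) {P : Subgroup G} (hP : P ≠ ⊤)
    (hPπ : ∀ r : ℕ, r.Prime → r ∣ Nat.card P → r ∣ Nat.card A) (hAP : A ≤ P)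
    (hex : ∃ Q ∈ maxInv A q, P ≤ Subgroup.normalizer (Q : Set G)) :
    maxInv P q ⊆ maxInv A q := by
  intro Y hY
  by_cases hY1 : Y = ⊥
  · obtain ⟨Q, hQ, hPQ⟩ := hex
    have := hY.2 Q ⟨le_top, hQ.1.2.1, hPQ⟩ (hY1 ▸ bot_le)
    exact this ▸ hQ
  have hYq : IsPGroup q Y := isPGroup_of_mem hY
  refine ⟨⟨le_top, hY.1.2.1, hAP.trans hY.1.2.2⟩, fun R hR hYR => ?_⟩
  have hRq : IsPGroup q R := piNat_singleton_iff_isPGroup.1 hR.2.1
  by_contra hne
  have hlt : Y < R := lt_of_le_of_ne hYR (Ne.symm hne)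
  set H := Subgroup.normalizer (Y : Set G) with hHdef
  have hH : H ≠ ⊤ := normalizer_ne_top hG hY1 (qgroup_ne_top hG hYq)
  have hPH : P ≤ H := hY.1.2.2
  set R' := R ⊓ H with hR'def
  have hR'O : R' ≤ coprimeCore A H := qgroup_le_coprimeCore hA hqA hH (hAP.trans hPH) inf_le_right
    (hRq.to_le inf_le_left)
    (CoprimeAction.le_normalizer_inf hR.2.2 ((hAP.trans hPH).trans Subgroup.le_normalizer))
  have hYR' : Y ≤ R' := le_inf hYR Subgroup.le_normalizer
  obtain ⟨T, hYT, hPT⟩ := CoprimeAction.exists_invariant_sylow_ge (p := q) (A := P)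
    (K := coprimeCore A H) (le_normalizer_piCoreOf _ (hPH.trans Subgroup.le_normalizer))
    (card_coprime_of_primes hPπ (piNat_card_piCoreOf _ _)) (Or.inl (hG.2.2.2 P hP))
    (hYR'.trans hR'O) hYq hY.1.2.2
  have hTY := hY.2 _ ⟨le_top, piNat_singleton_iff_isPGroup.2 (T.isPGroup'.map _), hPT⟩ hYT
  have hcard : Nat.card R' ≤ Nat.card Y := by
    rw [← hTY, CoprimeAction.card_map_sylow T]
    obtain ⟨m, hm⟩ := IsPGroup.iff_card.1 (hRq.to_le (inf_le_left : R' ≤ R))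
    have hd := Subgroup.card_dvd_of_le hR'O
    rw [hm, Nat.Prime.pow_dvd_iff_le_factorization Fact.out Nat.card_pos.ne'] at hd
    rw [hm]
    exact Nat.pow_le_pow_right (Fact.out : q.Prime).pos hd
  exact absurd hcard (not_le_of_gt (card_lt_normalizer_inf hRq hlt))

theorem transOn_step (hG : IsMinSimpleOddOrder G) (hA : TransitivityHypothesis A)
    {X Y : Subgroup G} (hY : Y ≠ ⊤) (hXY : X ≤ Y) (hAX : A ≤ X)
    (hn : Y ≤ Subgroup.normalizer (X : Set G))
    (hYπ : ∀ r : ℕ, r.Prime → r ∣ Nat.card Y → r ∣ Nat.card A)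
    (hqA : ¬ q ∣ Nat.card A) (hX : TransOn A X q) : TransOn A Y q := by
  have hmaxY : ∀ g ∈ Y, ∀ Q ∈ maxInv A q, X ≤ Subgroup.normalizer (Q : Set G) →
      MulAut.conj g • Q ∈ maxInv A q := fun g hg Q hQ hXQ =>
    maxInv_subset hG hA hqA (fun h => hY (top_le_iff.mp (h ▸ hXY)))
      (fun r hr hd => hYπ r hr (hd.trans (Subgroup.card_dvd_of_le hXY))) hAX hX.1
      (maxInv_conj (hn hg) (mem_maxInv_of_le hAX hQ hXQ))
  let _ : MulAction G (Subgroup G) := MulAction.compHom _ (MulAut.conj : G →* MulAut G)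
  set K := centCore A ⊓ Subgroup.centralizer (X : Set G) with hK
  have hKeq : K = coprimeCore A (Subgroup.centralizer (X : Set G)) := centCore_inf_eq hG hA hAX
  have hYK : Y ≤ Subgroup.normalizer (K : Set G) := by
    rw [hKeq]
    refine le_normalizer_piCoreOf _ (hn.trans ?_)
    intro g hg
    refine CoprimeAction.le_normalizer_of_conj_mem (A := Subgroup.normalizer (X : Set G)) ?_ hg
    intro a ha b hb x hx
    have h := hb _ (CoprimeAction.conj_mem' ha hx)
    calc x * (a * b * a⁻¹) = a * (a⁻¹ * x * a * b) * a⁻¹ := by group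
      _ = a * (b * (a⁻¹ * x * a)) * a⁻¹ := by rw [h]
      _ = a * b * a⁻¹ * x := by group
  have hcop : (Nat.card Y).Coprime (Nat.card K) := by
    rw [hKeq]
    exact card_coprime_of_primes hYπ (piNat_card_piCoreOf _ _)
  have hsol : Group.IsSolvable Y ∨ Group.IsSolvable K := Or.inl (hG.2.2.2 Y hY)
  obtain ⟨⟨Q₀, hQ₀, hXQ₀⟩, htrans⟩ := hX
  have hKc : ∀ k ∈ K, k ∈ centCore A := fun k hk => hk.1
  obtain ⟨k, hk, hfix⟩ := CoprimeAction.exists_fixed_point (Ω := Subgroup G) hYK hcop hsol Q₀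
    (fun a ha => by
      obtain ⟨k, hk, hkeq⟩ := htrans Q₀ hQ₀ (MulAut.conj a • Q₀) (hmaxY a ha Q₀ hQ₀ hXQ₀) hXQ₀
        (conj_mem_normalizer (hn ha) hXQ₀)
      exact ⟨k, hk, hkeq.symm⟩)
  refine ⟨⟨MulAut.conj k • Q₀, maxInv_conj (centCore_le_normalizer A (hKc k hk)) hQ₀, fun a ha =>
    CoprimeAction.mem_normalizer_of_conj_smul_eq (hfix a ha)⟩, ?_⟩
  intro Q₁ h₁ Q₂ h₂ hY₁ hY₂
  obtain ⟨k, hk, hkeq⟩ := htrans Q₁ h₁ Q₂ h₂ (hXY.trans hY₁) (hXY.trans hY₂)
  obtain ⟨c, hc, hceq⟩ := CoprimeAction.exists_centralizer_smul_eq (Ω := Subgroup G) hYK hcop hsol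
    (x := Q₁) (y := Q₂) (fun a ha => conj_smul_of_mem_normalizer (hY₁ ha))
    (fun a ha => conj_smul_of_mem_normalizer (hY₂ ha)) ⟨k, hk, hkeq.symm⟩
  exact ⟨c, ⟨hKc c hc.1, hc.2⟩, hceq.symm⟩

theorem transOn_of_subnormal (hG : IsMinSimpleOddOrder G) (hA : TransitivityHypothesis A)
    (hqA : ¬ q ∣ Nat.card A) {P : Subgroup G} (hP : P ≠ ⊤)
    (hPπ : ∀ r : ℕ, r.Prime → r ∣ Nat.card P → r ∣ Nat.card A) (hAP : A ≤ P)
    (hsn : (A.subgroupOf P).IsSubnormal)
    (htr : ∀ Q₁ ∈ maxInv A q, ∀ Q₂ ∈ maxInv A q, ∃ k ∈ centCore A, Q₂ = MulAut.conj k • Q₁) :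
    TransOn A P q := by
  have key : ∀ S : Subgroup P, S.IsSubnormal → A ≤ S.map P.subtype →
      TransOn A (S.map P.subtype) q → TransOn A P q := by
    intro S hS
    induction hS with
    | top =>
      intro _ h
      rwa [← MonoidHom.range_eq_map, Subgroup.range_subtype] at h
    | step S T hle _ hN ih =>
      intro hAS hT
      have hmap : S.map P.subtype ≤ T.map P.subtype := Subgroup.map_mono hle
      refine ih (hAS.trans hmap) (transOn_step hG hA
        (fun h => hP (top_le_iff.mp (h ▸ Subgroup.map_subtype_le T))) hmap hAS ?_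
        (fun r hr hd => hPπ r hr (hd.trans (Subgroup.card_dvd_of_le (Subgroup.map_subtype_le T))))
        hqA hT)
      exact (Subgroup.map_mono (ComponentsBasic.le_normalizer_of_normal_subgroupOf hle hN)).trans
        (Subgroup.le_normalizer_map P.subtype)
  have hAA : (A.subgroupOf P).map P.subtype = A := Subgroup.map_subgroupOf_eq_of_le hAP
  refine key _ hsn hAA.ge ?_
  rw [hAA]
  obtain ⟨Q, hQ, -⟩ := exists_maxInv_ge (A := A) (R := ⊥) (q := q) IsPGroup.of_bot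
    (fun a _ => Subgroup.mem_normalizer_iff.mpr fun x => by simp [Subgroup.mem_bot])
  refine ⟨⟨Q, hQ, normalizes_of_mem hQ⟩, fun Q₁ h₁ Q₂ h₂ _ _ => ?_⟩
  obtain ⟨k, hk, hkeq⟩ := htr Q₁ h₁ Q₂ h₂
  exact ⟨k, ⟨hk, piCoreOf_le _ _ hk⟩, hkeq⟩

theorem theorem_7_5 (hG : IsMinSimpleOddOrder G) (hA : TransitivityHypothesis A)
    (hqA : ¬ q ∣ Nat.card A) {P : Subgroup G} (hP : P ≠ ⊤)
    (hPπ : ∀ r : ℕ, r.Prime → r ∣ Nat.card P → r ∣ Nat.card A) (hAP : A ≤ P)
    (hsn : (A.subgroupOf P).IsSubnormal)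
    (htr : ∀ Q₁ ∈ maxInv A q, ∀ Q₂ ∈ maxInv A q, ∃ k ∈ centCore A, Q₂ = MulAut.conj k • Q₁) :
    (∀ Q₁ ∈ maxInv P q, ∀ Q₂ ∈ maxInv P q,
        ∃ k ∈ coprimeCore A (Subgroup.centralizer (P : Set G)), Q₂ = MulAut.conj k • Q₁) ∧
    maxInv P q ⊆ maxInv A q ∧
    ∀ Q ∈ maxInv P q,
      P ⊓ ⁅Subgroup.normalizer (P : Set G), Subgroup.normalizer (P : Set G)⁆ ≤
          ⁅Subgroup.normalizer (Q : Set G), Subgroup.normalizer (Q : Set G)⁆ ∧
      Subgroup.normalizer (P : Set G) = coprimeCore A (Subgroup.centralizer (P : Set G)) ⊔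
        (Subgroup.normalizer (P : Set G) ⊓ Subgroup.normalizer (Q : Set G)) := by
  have hT := transOn_of_subnormal hG hA hqA hP hPπ hAP hsn htr
  have hsub := maxInv_subset hG hA hqA hP hPπ hAP hT.1
  set O := coprimeCore A (Subgroup.centralizer (P : Set G)) with hOdef
  have hOeq : centCore A ⊓ Subgroup.centralizer (P : Set G) = O := centCore_inf_eq hG hA hAP
  have htrP : ∀ Q₁ ∈ maxInv P q, ∀ Q₂ ∈ maxInv P q, ∃ k ∈ O, Q₂ = MulAut.conj k • Q₁ := by
    intro Q₁ h₁ Q₂ h₂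
    rw [← hOeq]
    exact hT.2 Q₁ (hsub h₁) Q₂ (hsub h₂) h₁.1.2.2 h₂.1.2.2
  refine ⟨htrP, hsub, fun Q hQ => ?_⟩
  set N := Subgroup.normalizer (P : Set G) with hNdef
  set M := N ⊓ Subgroup.normalizer (Q : Set G) with hMdef
  have hON : O ≤ N := (piCoreOf_le _ _).trans (Subgroup.centralizer_le_normalizer _)
  have hNO : N ≤ Subgroup.normalizer (O : Set G) := by
    refine le_normalizer_piCoreOf _ ?_
    refine CoprimeAction.le_normalizer_of_conj_mem ?_
    intro a ha b hb x hx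
    have h := hb _ (CoprimeAction.conj_mem' ha hx)
    calc x * (a * b * a⁻¹) = a * (a⁻¹ * x * a * b) * a⁻¹ := by group
      _ = a * (b * (a⁻¹ * x * a)) * a⁻¹ := by rw [h]
      _ = a * b * a⁻¹ * x := by group
  have hfr : N = O ⊔ M := by
    refine le_antisymm (fun g hg => ?_) (sup_le hON inf_le_left)
    obtain ⟨k, hk, hkeq⟩ := htrP Q hQ _ (maxInv_conj hg hQ)
    have hkg : k⁻¹ * g ∈ M := by
      refine ⟨N.mul_mem (N.inv_mem (hON hk)) hg, ?_⟩
      apply CoprimeAction.mem_normalizer_of_conj_smul_eq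
      rw [CoprimeSZ.conj_smul_mul, hkeq, ← CoprimeSZ.conj_smul_mul, inv_mul_cancel, map_one, one_smul]
    have h := Subgroup.mul_mem_sup hk hkg
    rwa [mul_inv_cancel_left] at h
  refine ⟨?_, hfr⟩
  -- the quotient of `M` by its derived subgroup separates `π` and `π'` elements
  have hMO : M ≤ Subgroup.normalizer (O : Set G) := inf_le_left.trans hNO
  have hd : ⁅N, N⁆ ≤ O ⊔ ⁅M, M⁆ := by
    haveI : ((O.subgroupOf N)).Normal := Subgroup.normal_subgroupOf_of_le_normalizer hNO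
    let π := QuotientGroup.mk' (O.subgroupOf N)
    have hsurj : (M.subgroupOf N).map π = ⊤ := by
      rw [eq_top_iff]
      rintro y -
      obtain ⟨⟨g, hg⟩, rfl⟩ := QuotientGroup.mk'_surjective _ y
      have hg' : g ∈ (↑(O ⊔ M) : Set G) := hfr ▸ hg
      rw [Subgroup.coe_mul_of_right_le_normalizer_left O M hMO] at hg'
      obtain ⟨o, ho, m, hm, rfl⟩ := Set.mem_mul.mp hg'
      refine ⟨⟨m, hm.1⟩, hm, ?_⟩
      show π ⟨m, hm.1⟩ = π ⟨o * m, hg⟩
      have : (⟨o * m, hg⟩ : N) = ⟨o, hON ho⟩ * ⟨m, hm.1⟩ := rfl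
      rw [this, map_mul, (show π ⟨o, hON ho⟩ = 1 from (QuotientGroup.eq_one_iff _).mpr ho), one_mul]
    intro x hx
    rw [← Subgroup.map_subtype_commutator] at hx
    obtain ⟨y, hy, rfl⟩ := hx
    have hy' : π y ∈ (⁅M.subgroupOf N, M.subgroupOf N⁆).map π := by
      rw [Subgroup.map_commutator, hsurj, ← Subgroup.map_top_of_surjective π (QuotientGroup.mk'_surjective _),
        ← Subgroup.map_commutator]
      exact ⟨y, hy, rfl⟩
    obtain ⟨z, hz, hzy⟩ := hy'
    have hzO : z⁻¹ * y ∈ O.subgroupOf N := QuotientGroup.eq.mp hzy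
    have hzM : (z : G) ∈ ⁅M, M⁆ := by
      have h := Subgroup.mem_map_of_mem N.subtype hz
      rwa [Subgroup.map_commutator, Subgroup.map_subgroupOf_eq_of_le inf_le_left] at h
    have h := Subgroup.mul_mem_sup (S := ⁅M, M⁆) (T := O) hzM (show (z : G)⁻¹ * y ∈ O from hzO)
    rw [mul_inv_cancel_left, sup_comm] at h
    exact h
  intro x hx
  have hxd : x ∈ (↑(O ⊔ ⁅M, M⁆) : Set G) := hd hx.2
  rw [Subgroup.coe_mul_of_right_le_normalizer_left O ⁅M, M⁆
    ((Subgroup.commutator_le_self M).trans hMO)] at hxd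
  obtain ⟨o, ho, m, hm, hom⟩ := Set.mem_mul.mp hxd
  have hxM : x ∈ M := ⟨Subgroup.le_normalizer hx.1, hQ.1.2.2 hx.1⟩
  have hoM : o ∈ M := by
    have := M.mul_mem hxM (M.inv_mem (Subgroup.commutator_le_self M hm))
    rwa [← hom, mul_inv_cancel_right] at this
  have hox : Abelianization.of (⟨o, hoM⟩ : M) = Abelianization.of ⟨x, hxM⟩ := by
    have hm' : (⟨m, Subgroup.commutator_le_self M hm⟩ : M) ∈ commutator M := by
      rw [← Subgroup.map_subtype_commutator] at hm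
      obtain ⟨y, hy, rfl⟩ := hm
      exact hy
    have hx' : (⟨x, hxM⟩ : M) = ⟨o, hoM⟩ * ⟨m, Subgroup.commutator_le_self M hm⟩ := Subtype.ext hom.symm
    rw [hx', map_mul, (show Abelianization.of (⟨m, Subgroup.commutator_le_self M hm⟩ : M) = 1 from
      (QuotientGroup.eq_one_iff _).mpr hm'), mul_one]
  have hone : Abelianization.of (⟨x, hxM⟩ : M) = 1 := by
    rw [← orderOf_eq_one_iff]
    refine Nat.eq_one_of_dvd_coprimes (card_coprime_of_primes hPπ (piNat_card_piCoreOf _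
      (Subgroup.centralizer (P : Set G)))) ?_ ?_
    · exact (orderOf_map_dvd _ _).trans (by rw [Subgroup.orderOf_mk]; exact Subgroup.orderOf_dvd_natCard _ hx.1)
    · rw [← hox]
      exact (orderOf_map_dvd _ _).trans (by rw [Subgroup.orderOf_mk]; exact Subgroup.orderOf_dvd_natCard _ ho)
  have hxc : (⟨x, hxM⟩ : M) ∈ commutator M := (QuotientGroup.eq_one_iff _).mp hone
  have h := Subgroup.mem_map_of_mem M.subtype hxc
  rw [Subgroup.map_subtype_commutator] at h
  exact Subgroup.commutator_mono inf_le_right inf_le_right h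

end Cfsg.Agent.BGTransitivity
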