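import Mathlib
import Cfsg.Prelude.Def_Local
import Cfsg.Agent.Lib.HallCore
import Cfsg.Agent.Lib.HallSolvable

/-!
# Climbing the upper p-series
-/

set_option autoImplicit false

namespace Cfsg.Agent.PLengthSteps

open Subgroup Cfsg.Agent.HallCore

variable {G : Type*} [Group G] {p : ℕ}

theorem upperPSeries_succ (n : ℕ) (A : Subgroup G) :
    A ≤ (Cfsg.upperPSeries p G (n + 1)).1 ↔
      (Even n → A.map (QuotientGroup.mk' (Cfsg.upperPSeries p G n).1) ≤
        Cfsg.pPrimeCore p (G ⧸ (Cfsg.upperPSeries p G n).1)) ∧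
      (¬ Even n → A.map (QuotientGroup.mk' (Cfsg.upperPSeries p G n).1) ≤
        Cfsg.pCore p (G ⧸ (Cfsg.upperPSeries p G n).1)) := by
  by_cases h : Even n <;>
    simp [Cfsg.upperPSeries, h, Subgroup.map_le_iff_le_comap]

theorem upperPSeries_le_succ (n : ℕ) :
    (Cfsg.upperPSeries p G n).1 ≤ (Cfsg.upperPSeries p G (n + 1)).1 := by
  rw [upperPSeries_succ, QuotientGroup.map_mk'_self]
  exact ⟨fun _ => bot_le, fun _ => bot_le⟩

theorem upperPSeries_mono : Monotone fun n => (Cfsg.upperPSeries p G n).1 :=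
  monotone_nat_of_le_succ upperPSeries_le_succ

/-- A normal subgroup lying above the `n`-th term (`n` even) with index prime to `p` lies in the
next term. -/
theorem le_succ_of_coprime [Finite G] {n : ℕ} (hn : Even n) (A : Subgroup G) [A.Normal]
    (h : ((Cfsg.upperPSeries p G n).1.relIndex A).Coprime p) :
    A ≤ (Cfsg.upperPSeries p G (n + 1)).1 := by
  rw [upperPSeries_succ]
  refine ⟨fun _ => ?_, fun h' => absurd hn h'⟩
  have : (A.map (QuotientGroup.mk' (Cfsg.upperPSeries p G n).1)).Normal :=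
    Subgroup.Normal.map inferInstance _ (QuotientGroup.mk'_surjective _)
  apply le_pPrimeCore
  rwa [← HallSolvable.relIndex_eq_card_map]

/-- A normal subgroup lying above the `n`-th term (`n` odd) with index a power of `p` lies in the
next term. -/
theorem le_succ_of_pow [Finite G] [hp : Fact p.Prime] {n : ℕ} (hn : ¬ Even n) (A : Subgroup G)
    [A.Normal] {k : ℕ} (h : (Cfsg.upperPSeries p G n).1.relIndex A ∣ p ^ k) :
    A ≤ (Cfsg.upperPSeries p G (n + 1)).1 := by
  rw [upperPSeries_succ]
  refine ⟨fun h' => absurd h' hn, fun _ => ?_⟩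
  have : (A.map (QuotientGroup.mk' (Cfsg.upperPSeries p G n).1)).Normal :=
    Subgroup.Normal.map inferInstance _ (QuotientGroup.mk'_surjective _)
  apply le_pCore
  rw [HallSolvable.relIndex_eq_card_map] at h
  obtain ⟨j, -, hj⟩ := (Nat.dvd_prime_pow hp.out).mp h
  exact IsPGroup.of_card hj

/-- If `O_{p',p}(G)` has index prime to `p`, then `G` has `p`-length at most one. -/
theorem pLengthLE_one [Finite G] [Fact p.Prime] (h : ((Cfsg.pPrimePCore p G).index).Coprime p) :
    Cfsg.PLengthLE p 1 G := by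
  have h1 : Cfsg.pPrimeCore p G ≤ (Cfsg.upperPSeries p G 1).1 :=
    le_succ_of_coprime (n := 0) (by decide) _
      ((coprime_card_pPrimeCore p G).coprime_dvd_left (Subgroup.relIndex_dvd_card _ _))
  have h2 : Cfsg.pPrimePCore p G ≤ (Cfsg.upperPSeries p G 2).1 := by
    obtain ⟨k, hk⟩ := relIndex_pPrimePCore p G
    refine le_succ_of_pow (n := 1) (by decide) _ (k := k) ?_
    rw [← hk]
    exact Subgroup.relIndex_dvd_of_le_left _ h1
  have h3 : (⊤ : Subgroup G) ≤ (Cfsg.upperPSeries p G 3).1 := by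
    refine le_succ_of_coprime (n := 2) (by decide) ⊤ (h.coprime_dvd_left ?_)
    rw [Subgroup.relIndex_top_right]
    exact Subgroup.index_dvd_of_le h2
  exact top_le_iff.mp h3

end Cfsg.Agent.PLengthSteps
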