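import Mathlib
import Cfsg.Prelude.Def_Solvable
import Cfsg.Prelude.Def_Local
import Cfsg.Agent.Lib.HallCore
import Cfsg.Agent.Lib.HallSolvable
import Cfsg.Agent.Lib.PLengthSteps

/-!
# p-constraint and the upper p-series
-/

set_option autoImplicit false

namespace Cfsg.Agent.HallConstrained

open scoped Pointwise
open Subgroup Cfsg.Agent.HallCore Cfsg.Agent.HallSolvable

variable {G : Type*} [Group G] {p : ℕ} [hp : Fact p.Prime]

/-- A Sylow `p`-subgroup of `O_{p',p}(G)`, as a subgroup of `G`. -/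
abbrev sylImg (P : Sylow p ↥(Cfsg.pPrimePCore p G)) : Subgroup G :=
  (P : Subgroup ↥(Cfsg.pPrimePCore p G)).map (Cfsg.pPrimePCore p G).subtype

theorem sylImg_inf_pPrimeCore [Finite G] (P : Sylow p ↥(Cfsg.pPrimePCore p G)) :
    sylImg P ⊓ Cfsg.pPrimeCore p G = ⊥ := by
  obtain ⟨j, hj⟩ := IsPGroup.iff_card.mp (P.2.map (Cfsg.pPrimePCore p G).subtype)
  refine disjoint_iff.mp (Subgroup.disjoint_of_coprime_natCard ?_)
  rw [hj]
  exact Nat.Coprime.pow_left _ (coprime_card_pPrimeCore p G).symm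

theorem sylImg_map [Finite G] (P : Sylow p ↥(Cfsg.pPrimePCore p G)) :
    (sylImg P).map (QuotientGroup.mk' (Cfsg.pPrimeCore p G)) =
      Cfsg.pCore p (G ⧸ Cfsg.pPrimeCore p G) := by
  set N := Cfsg.pPrimeCore p G with hN
  set q := QuotientGroup.mk' N
  have hle : (sylImg P).map q ≤ Cfsg.pCore p (G ⧸ N) := by
    rw [Subgroup.map_le_iff_le_comap]
    exact Subgroup.map_subtype_le _
  refine Subgroup.eq_of_le_of_card_ge hle ?_
  obtain ⟨k, hk⟩ := relIndex_pPrimePCore p G
  have hQ : Nat.card (Cfsg.pCore p (G ⧸ N)) = p ^ k := by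
    rw [← hk, relIndex_eq_card_map, map_pPrimePCore]
  have hcard : Nat.card ((sylImg P).map q) = Nat.card (sylImg P) := by
    rw [← relIndex_eq_card_map, ← Subgroup.inf_relIndex_right, inf_comm, hN,
      sylImg_inf_pPrimeCore, Subgroup.relIndex_bot_left]
  rw [hcard, hQ, Subgroup.card_map_of_injective (Cfsg.pPrimePCore p G).subtype_injective,
    Sylow.card_eq_multiplicity]
  refine Nat.pow_le_pow_right hp.out.pos ?_
  refine (Nat.Prime.pow_dvd_iff_le_factorization hp.out Nat.card_pos.ne').mp ?_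
  rw [← hk, ← card_mul_relIndex (pPrimeCore_le_pPrimePCore p G)]
  exact dvd_mul_left _ _

theorem sylImg_sup [Finite G] (P : Sylow p ↥(Cfsg.pPrimePCore p G)) :
    sylImg P ⊔ Cfsg.pPrimeCore p G = Cfsg.pPrimePCore p G := by
  rw [← comap_mk'_map, sylImg_map]
  rfl

/-- Centralizers lift: `C_{Ḡ}(O_p(Ḡ))` is the image of `C_G(P)`. -/
theorem map_centralizer_sylImg [Finite G] (P : Sylow p ↥(Cfsg.pPrimePCore p G)) :
    (Subgroup.centralizer (sylImg P : Set G)).map (QuotientGroup.mk' (Cfsg.pPrimeCore p G)) =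
      Subgroup.centralizer
        (Cfsg.pCore p (G ⧸ Cfsg.pPrimeCore p G) : Set (G ⧸ Cfsg.pPrimeCore p G)) := by
  set N := Cfsg.pPrimeCore p G with hN
  set q := QuotientGroup.mk' N
  rw [← sylImg_map P]
  refine le_antisymm ?_ ?_
  · rintro _ ⟨c, hc, rfl⟩ _ ⟨y, hy, rfl⟩
    rw [← map_mul, ← map_mul, hc y hy]
  · intro x hx
    obtain ⟨g, rfl⟩ := QuotientGroup.mk'_surjective N x
    have htop := P.normalizer_sup_eq_top
    obtain ⟨m, hm, u, hu, rfl⟩ := Subgroup.mem_sup_of_normal_right.mp (htop.ge (Subgroup.mem_top g))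
    rw [← sylImg_sup P] at hu
    obtain ⟨y, hy, n, hn, rfl⟩ := Subgroup.mem_sup_of_normal_right.mp hu
    have hqn : q n = 1 := (QuotientGroup.eq_one_iff n).mpr hn
    refine ⟨m * y, ?_, by rw [map_mul, map_mul, map_mul, hqn, mul_one]⟩
    have hmy : m * y ∈ Subgroup.normalizer (sylImg P : Set G) :=
      mul_mem hm (Subgroup.le_normalizer hy)
    intro z hz
    have hc : q (m * y) * q z * (q (m * y))⁻¹ = q z := by
      have h1 := hx (q z) ⟨z, hz, rfl⟩
      rw [map_mul, map_mul, hqn, mul_one, ← map_mul] at h1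
      rw [← h1, mul_inv_cancel_right]
    have h2 : (m * y) * z * (m * y)⁻¹ * z⁻¹ ∈ sylImg P ⊓ N := by
      refine ⟨Subgroup.mul_mem _ ((Subgroup.mem_normalizer_iff.mp hmy z).mp hz)
        (Subgroup.inv_mem _ (show z ∈ sylImg P from hz)), ?_⟩
      refine (QuotientGroup.eq_one_iff _).mp ?_
      show q ((m * y) * z * (m * y)⁻¹ * z⁻¹) = 1
      rw [map_mul, map_mul _ (m * y * z), map_mul _ (m * y), map_inv, map_inv, hc, mul_inv_cancel]
    rw [hN, sylImg_inf_pPrimeCore, Subgroup.mem_bot, mul_inv_eq_one, mul_inv_eq_iff_eq_mul] at h2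
    exact h2.symm

/-- `p`-constraint in terms of the quotient by `O_{p'}(G)`. -/
theorem isPConstrained_iff [Finite G] :
    Cfsg.IsPConstrained p G ↔
      Subgroup.centralizer
          (Cfsg.pCore p (G ⧸ Cfsg.pPrimeCore p G) : Set (G ⧸ Cfsg.pPrimeCore p G)) ≤
        Cfsg.pCore p (G ⧸ Cfsg.pPrimeCore p G) := by
  have hone : ∀ P : Sylow p ↥(Cfsg.pPrimePCore p G),
      Subgroup.centralizer (sylImg P : Set G) ≤ Cfsg.pPrimePCore p G ↔
        Subgroup.centralizer
            (Cfsg.pCore p (G ⧸ Cfsg.pPrimeCore p G) : Set (G ⧸ Cfsg.pPrimeCore p G)) ≤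
          Cfsg.pCore p (G ⧸ Cfsg.pPrimeCore p G) := by
    intro P
    rw [← map_centralizer_sylImg P, Subgroup.map_le_iff_le_comap]
    rfl
  constructor
  · intro h
    obtain ⟨P⟩ : Nonempty (Sylow p ↥(Cfsg.pPrimePCore p G)) := inferInstance
    exact (hone P).mp (h P)
  · exact fun h P => (hone P).mpr h

omit hp in
theorem centralizer_pCore_le_of_quotient_bot [Finite G] {K : Type*} [Group K]
    (e : G ≃* K) (h : Subgroup.centralizer (Cfsg.pCore p G : Set G) ≤ Cfsg.pCore p G) :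
    Subgroup.centralizer (Cfsg.pCore p K : Set K) ≤ Cfsg.pCore p K := by
  intro x hx
  rw [← map_equiv_pCore e]
  refine ⟨e.symm x, h fun y hy => ?_, e.apply_symm_apply x⟩
  apply e.injective
  rw [map_mul, map_mul, e.apply_symm_apply]
  exact hx (e y) (by rw [← map_equiv_pCore e]; exact ⟨y, hy, rfl⟩)

/-- `p`-constraint of a group with trivial `O_{p'}`. -/
theorem isPConstrained_iff_of_bot [Finite G] (h : Cfsg.pPrimeCore p G = ⊥) :
    Cfsg.IsPConstrained p G ↔
      Subgroup.centralizer (Cfsg.pCore p G : Set G) ≤ Cfsg.pCore p G := by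
  rw [isPConstrained_iff]
  have e : G ≃* G ⧸ Cfsg.pPrimeCore p G :=
    (QuotientGroup.quotientBot).symm.trans (QuotientGroup.quotientMulEquivOfEq h.symm)
  exact ⟨centralizer_pCore_le_of_quotient_bot e.symm, centralizer_pCore_le_of_quotient_bot e⟩

theorem isPConstrained_iff_quotient [Finite G] :
    Cfsg.IsPConstrained p G ↔ Cfsg.IsPConstrained p (G ⧸ Cfsg.pPrimeCore p G) := by
  rw [isPConstrained_iff, isPConstrained_iff_of_bot (pPrimeCore_quotient_self p G)]

/-! ### The upper p-series -/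

omit hp in
theorem upperPSeries_zero : (Cfsg.upperPSeries p G 0).1 = ⊥ := by
  simp [Cfsg.upperPSeries]

omit hp in
theorem upperPSeries_odd (k : ℕ) :
    (Cfsg.upperPSeries p G (2 * k + 1)).1 =
      (Cfsg.pPrimeCore p (G ⧸ (Cfsg.upperPSeries p G (2 * k)).1)).comap (QuotientGroup.mk' _) := by
  have he : Even (2 * k) := ⟨k, two_mul k⟩
  conv_lhs => unfold Cfsg.upperPSeries
  simp only [he, if_true]

omit hp in
theorem upperPSeries_even (k : ℕ) :
    (Cfsg.upperPSeries p G (2 * k + 2)).1 =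
      (Cfsg.pCore p (G ⧸ (Cfsg.upperPSeries p G (2 * k + 1)).1)).comap (QuotientGroup.mk' _) := by
  have he : ¬ Even (2 * k + 1) := by simp [parity_simps]
  conv_lhs => unfold Cfsg.upperPSeries
  simp only [he, if_false]

omit hp in
theorem upperPSeries_le_succ (n : ℕ) :
    (Cfsg.upperPSeries p G n).1 ≤ (Cfsg.upperPSeries p G (n + 1)).1 := by
  obtain ⟨k, rfl | rfl⟩ := Nat.even_or_odd' n
  · rw [upperPSeries_odd]; exact QuotientGroup.le_comap_mk' _ _
  · rw [upperPSeries_even]; exact QuotientGroup.le_comap_mk' _ _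

omit hp in
theorem upperPSeries_mono : Monotone fun n => (Cfsg.upperPSeries p G n).1 :=
  monotone_nat_of_le_succ fun n => upperPSeries_le_succ n

omit hp in
theorem pPrimeCore_quotient_upperPSeries [Finite G] (k : ℕ) :
    Cfsg.pPrimeCore p (G ⧸ (Cfsg.upperPSeries p G (2 * k + 1)).1) = ⊥ := by
  set V := (Cfsg.upperPSeries p G (2 * k)).1
  set U := (Cfsg.upperPSeries p G (2 * k + 1)).1
  have hVU : V ≤ U := upperPSeries_le_succ _
  have hmap : U.map (QuotientGroup.mk' V) = Cfsg.pPrimeCore p (G ⧸ V) := by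
    simp only [U, upperPSeries_odd]
    exact Subgroup.map_comap_eq_self_of_surjective (QuotientGroup.mk'_surjective _) _
  have e : (G ⧸ V) ⧸ Cfsg.pPrimeCore p (G ⧸ V) ≃* G ⧸ U :=
    (QuotientGroup.quotientMulEquivOfEq hmap.symm).trans
      (QuotientGroup.quotientQuotientEquivQuotient V U hVU)
  rw [← map_equiv_pPrimeCore e, pPrimeCore_quotient_self, Subgroup.map_bot]

end Cfsg.Agent.HallConstrained
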