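import Mathlib
import Cfsg.Agent.Lib.HallCore
import Cfsg.Agent.Lib.HallConstrained

/-!
Consequences of `p`-length at most one.
-/

set_option autoImplicit false

open scoped commutatorElement

namespace Cfsg.Agent.PLengthOne

variable {G : Type*} [Group G] [Finite G] {p : ℕ} [Fact p.Prime]

omit [Fact p.Prime] [Finite G] in
theorem comap_pCore_quotient_congr (N : Subgroup G) [N.Normal] (h : N = Cfsg.pPrimeCore p G) :
    (Cfsg.pCore p (G ⧸ N)).comap (QuotientGroup.mk' N) = Cfsg.pPrimePCore p G := by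
  subst h
  rfl

theorem upperPSeries_one : (Cfsg.upperPSeries p G 1).1 = Cfsg.pPrimeCore p G := by
  have h := HallConstrained.upperPSeries_odd (p := p) (G := G) 0
  simp only [Nat.mul_zero, Nat.zero_add] at h
  apply le_antisymm
  · refine HallCore.le_pPrimeCore (hN := (Cfsg.upperPSeries p G 1).2) ?_
    rw [h, ← HallCore.card_comap_mk']
    refine Nat.Coprime.mul_left (HallCore.coprime_card_pPrimeCore p _) ?_
    rw [show Nat.card ↥(Cfsg.upperPSeries p G 0).1 = 1 from Subgroup.card_eq_one.2 HallConstrained.upperPSeries_zero]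
    exact Nat.coprime_one_left p
  · rw [h]
    exact Subgroup.map_le_iff_le_comap.1
      (HallCore.map_pPrimeCore_le (QuotientGroup.mk'_surjective _))

theorem upperPSeries_two : (Cfsg.upperPSeries p G 2).1 = Cfsg.pPrimePCore p G := by
  have h := HallConstrained.upperPSeries_even (p := p) (G := G) 0
  simp only [Nat.mul_zero, Nat.zero_add] at h
  rw [h]
  exact comap_pCore_quotient_congr _ upperPSeries_one

/-- `p`-length at most one: `O_{p',p}(G)` has index prime to `p`. -/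
theorem index_coprime (h : Cfsg.PLengthLE p 1 G) : (Cfsg.pPrimePCore p G).index.Coprime p := by
  have h3 := HallConstrained.upperPSeries_odd (p := p) (G := G) 1
  have h' : (Cfsg.upperPSeries p G (2 * 1 + 1)).1 = ⊤ := h
  rw [h'] at h3
  rw [← upperPSeries_two, Subgroup.index_eq_card]
  show (Nat.card (G ⧸ (Cfsg.upperPSeries p G (2 * 1)).1)).Coprime p
  have h4 : Cfsg.pPrimeCore p (G ⧸ (Cfsg.upperPSeries p G (2 * 1)).1) = ⊤ := by
    rw [← Subgroup.map_comap_eq_self_of_surjective (QuotientGroup.mk'_surjective _)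
      (Cfsg.pPrimeCore p (G ⧸ (Cfsg.upperPSeries p G (2 * 1)).1)), ← h3,
      ← MonoidHom.range_eq_map, MonoidHom.range_eq_top.2 (QuotientGroup.mk'_surjective _)]
  exact HallCore.pPrimeCore_eq_top_iff.1 h4

theorem le_pPrimePCore (h : Cfsg.PLengthLE p 1 G) {S : Subgroup G} (hS : IsPGroup p S) :
    S ≤ Cfsg.pPrimePCore p G := by
  intro s hs
  rw [← QuotientGroup.eq_one_iff]
  obtain ⟨k, hk⟩ := IsPGroup.iff_orderOf.1 hS ⟨s, hs⟩
  rw [Subgroup.orderOf_mk] at hk
  rw [← orderOf_eq_one_iff]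
  refine Nat.eq_one_of_dvd_coprimes ((index_coprime h).pow_right k) ?_ ?_
  · rw [Subgroup.index_eq_card]
    exact orderOf_dvd_natCard _
  · exact hk ▸ orderOf_map_dvd (QuotientGroup.mk' _) s

theorem sylow_sup_eq (h : Cfsg.PLengthLE p 1 G) (S : Sylow p G) :
    (S : Subgroup G) ⊔ Cfsg.pPrimeCore p G = Cfsg.pPrimePCore p G := by
  refine le_antisymm (sup_le (le_pPrimePCore h S.isPGroup')
    (HallCore.pPrimeCore_le_pPrimePCore p G)) fun z hz => ?_
  have := HallCore.pPrimeCore_normal p G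
  have h1 : Cfsg.pCore p (G ⧸ Cfsg.pPrimeCore p G) ≤
      ((S.mapSurjective (QuotientGroup.mk'_surjective (Cfsg.pPrimeCore p G)) :
        Sylow p (G ⧸ Cfsg.pPrimeCore p G)) : Subgroup (G ⧸ Cfsg.pPrimeCore p G)) :=
    HallCore.pCore_le_sylow _
  have h2 := h1 hz
  rw [Sylow.coe_mapSurjective] at h2
  obtain ⟨s, hs, hsz⟩ := h2
  have h3 : s⁻¹ * z ∈ Cfsg.pPrimeCore p G := QuotientGroup.eq.1 hsz
  have := Subgroup.mul_mem _ (Subgroup.mem_sup_left (T := Cfsg.pPrimeCore p G) hs)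
    (Subgroup.mem_sup_right h3)
  simpa using this

/-- The Frattini argument: every element is `n * o` with `n` normalizing `S`, `o ∈ O_{p'}(G)`. -/
theorem exists_normalizer_mul (h : Cfsg.PLengthLE p 1 G) (S : Sylow p G) (x : G) :
    ∃ n ∈ Subgroup.normalizer ((S : Subgroup G) : Set G), ∃ o ∈ Cfsg.pPrimeCore p G, n * o = x := by
  have := HallCore.pPrimePCore_normal p G
  have hO := HallCore.pPrimeCore_normal p G
  have h1 := Sylow.normalizer_sup_eq_top' (N := Cfsg.pPrimePCore p G) S (le_pPrimePCore h S.isPGroup')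
  obtain ⟨n, hn, u, hu, rfl⟩ := Subgroup.mem_sup_of_normal_right.1 (h1 ▸ Subgroup.mem_top x)
  rw [← sylow_sup_eq h S] at hu
  obtain ⟨s, hs, o, ho, rfl⟩ := Subgroup.mem_sup_of_normal_right.1 hu
  exact ⟨n * s, Subgroup.mul_mem _ hn (Subgroup.le_normalizer hs), o, ho, mul_assoc n s o⟩

theorem eq_one_of_mem_of_mem {S : Subgroup G} (hS : IsPGroup p S) {x : G} (hx : x ∈ S)
    (hxO : x ∈ Cfsg.pPrimeCore p G) : x = 1 := by
  obtain ⟨k, hk⟩ := IsPGroup.iff_orderOf.1 hS ⟨x, hx⟩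
  rw [Subgroup.orderOf_mk] at hk
  rw [← orderOf_eq_one_iff]
  exact Nat.eq_one_of_dvd_coprimes ((HallCore.coprime_card_pPrimeCore p G).symm.pow_left k)
    hk.dvd (Subgroup.orderOf_dvd_natCard _ hxO)

/-- If `y` and `o y o⁻¹` both lie in a `p`-group and `o ∈ O_{p'}(G)` then `o` centralizes `y`. -/
theorem commute_of_conj_mem {S : Subgroup G} (hS : IsPGroup p S) {o y : G}
    (ho : o ∈ Cfsg.pPrimeCore p G) (hy : y ∈ S) (hoy : o * y * o⁻¹ ∈ S) : Commute o y := by
  have hn := HallCore.pPrimeCore_normal p G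
  have h1 : ⁅o, y⁆ ∈ S := by
    rw [commutatorElement_def]; exact S.mul_mem hoy (S.inv_mem hy)
  have h2 : ⁅o, y⁆ ∈ Cfsg.pPrimeCore p G := by
    have := Subgroup.mul_mem _ ho (hn.conj_mem _ (Subgroup.inv_mem _ ho) y)
    simpa [commutatorElement_def, mul_assoc] using this
  exact commutatorElement_eq_one_iff_mul_comm.1 (eq_one_of_mem_of_mem hS h1 h2)

omit [Finite G] in
/-- In a subgroup `U`, if `s⁻¹ k ∈ [U,U]` with `s`, `k` of coprime orders then `s ∈ [U,U]`. -/
theorem mem_commutator_of_coprime {U : Subgroup G} {s k : G} (hs : s ∈ U) (hk : k ∈ U)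
    (hcop : (orderOf s).Coprime (orderOf k)) (h : s⁻¹ * k ∈ ⁅U, U⁆) : s ∈ ⁅U, U⁆ := by
  rw [← Subgroup.map_subtype_commutator] at h ⊢
  obtain ⟨c, hc, hce⟩ := h
  have hc' : (⟨s, hs⟩ : U)⁻¹ * ⟨k, hk⟩ ∈ commutator U := by
    convert (show c ∈ commutator U from hc) using 1
    exact Subtype.ext hce.symm
  refine ⟨⟨s, hs⟩, ?_, rfl⟩
  show (⟨s, hs⟩ : U) ∈ commutator U
  have heq : ((⟨s, hs⟩ : U) : U ⧸ commutator U) = ((⟨k, hk⟩ : U) : U ⧸ commutator U) :=
    QuotientGroup.eq.2 hc'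
  rw [← QuotientGroup.eq_one_iff, ← orderOf_eq_one_iff]
  refine Nat.eq_one_of_dvd_coprimes hcop ?_ ?_
  · exact (orderOf_map_dvd (QuotientGroup.mk' _) (⟨s, hs⟩ : U)).trans (Subgroup.orderOf_mk s hs).dvd
  · rw [heq]
    exact (orderOf_map_dvd (QuotientGroup.mk' _) (⟨k, hk⟩ : U)).trans (Subgroup.orderOf_mk k hk).dvd

omit [Finite G] in
/-- If `G = U K` with `K` normal then `G' ≤ [U,U] K`. -/
theorem commutator_le_sup {U K : Subgroup G} [K.Normal] (h : U ⊔ K = ⊤) :
    commutator G ≤ ⁅U, U⁆ ⊔ K := by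
  have hmap : U.map (QuotientGroup.mk' K) = ⊤ := by
    have := congrArg (Subgroup.map (QuotientGroup.mk' K)) h
    rwa [Subgroup.map_sup, QuotientGroup.map_mk'_self, sup_bot_eq, ← MonoidHom.range_eq_map,
      MonoidHom.range_eq_top.2 (QuotientGroup.mk'_surjective _)] at this
  intro g hg
  have h1 : QuotientGroup.mk' K g ∈ (⁅U, U⁆).map (QuotientGroup.mk' K) := by
    rw [Subgroup.map_commutator, hmap]
    have := Subgroup.mem_map_of_mem (QuotientGroup.mk' K) hg
    rw [commutator_def, Subgroup.map_commutator] at this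
    exact Subgroup.commutator_mono le_top le_top this
  obtain ⟨u, hu, hug⟩ := h1
  have h3 : u⁻¹ * g ∈ K := QuotientGroup.eq.1 hug
  have := Subgroup.mul_mem _ (Subgroup.mem_sup_left (T := K) hu) (Subgroup.mem_sup_right h3)
  simpa using this

end Cfsg.Agent.PLengthOne
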