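import Cfsg.Agent.Lib.BGSigmaBasic
import Cfsg.Agent.Lib.FittingHallBasic

/-!
The cores `M_α` and `M_σ` of a maximal subgroup (Bender-Glauberman 10.2).
-/

set_option autoImplicit false
set_option linter.style.haveILetI false

namespace Cfsg.Agent.BGSigma

open Subgroup
open Cfsg.Agent.BGUnique
open Cfsg.Agent.HallCore
open scoped commutatorElement Pointwise

universe u

/-! ### General facts -/

section general

variable {X : Type u} [Group X] [Finite X]

theorem le_of_prime_not_dvd {A B : Subgroup X} [B.Normal]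
    (h : ∀ q : ℕ, q.Prime → q ∣ Nat.card A → ¬ q ∣ B.index) : A ≤ B := by
  intro a ha
  rw [← QuotientGroup.eq_one_iff, ← orderOf_eq_one_iff]
  by_contra hne
  obtain ⟨q, hq, hd⟩ := Nat.exists_prime_and_dvd hne
  refine h q hq ?_ ?_
  · exact (hd.trans (orderOf_map_dvd (QuotientGroup.mk' B) a)).trans (orderOf_dvd_natCard A ha)
  · rw [index_eq_card]; exact hd.trans (orderOf_dvd_natCard _)

theorem pRankLE_quotient {p k : ℕ} [Fact p.Prime] {N : Subgroup X} [N.Normal]
    (hN : (Nat.card N).Coprime p) (hr : Cfsg.PRankLE p k X) : Cfsg.PRankLE p k (X ⧸ N) := by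
  intro E hEc hEp
  set π := QuotientGroup.mk' N with hπ
  have hEel : Cfsg.IsElementaryAbelian p E := ⟨hEc, hEp⟩
  obtain ⟨T, hT, hTE⟩ := GlaubermanStable.exists_isPGroup_map_eq' (π := π)
    (QuotientGroup.mk'_surjective _) E (PGroupsBasic.isPGroup_of_isElementaryAbelian hEel)
  have hker : (Nat.card π.ker).Coprime p := by
    rw [hπ, QuotientGroup.ker_mk']; exact hN
  have hinj : Set.InjOn π T := GlaubermanQuotient.injOn_of_coprime hT hker
  have hT1 : IsMulCommutative T := PGroupsBasic.isMulCommutative_of_forall fun a ha b hb =>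
    hinj (T.mul_mem ha hb) (T.mul_mem hb ha) (by
      rw [map_mul, map_mul]
      exact PGroupsBasic.comm_of_isMulCommutative hEc (hTE ▸ mem_map_of_mem π ha)
        (hTE ▸ mem_map_of_mem π hb))
  have hT2 : ∀ a ∈ T, a ^ p = 1 := fun a ha => hinj (T.pow_mem ha p) T.one_mem (by
    rw [map_pow, map_one]; exact hEp _ (hTE ▸ mem_map_of_mem π ha))
  refine le_trans ?_ (hr T hT1 hT2)
  rw [← hTE]
  exact Nat.card_le_card_of_surjective _ (π.subgroupMap_surjective T)

theorem pRankLE_of_not_dvd {p k : ℕ} [Fact p.Prime] (h : ¬ p ∣ Nat.card X) :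
    Cfsg.PRankLE p k X := fun E hEc hEp => by
  by_contra hE
  have hne : E ≠ ⊥ := by
    rintro rfl
    rw [card_bot] at hE
    exact hE (Nat.one_le_pow _ _ (Fact.out : p.Prime).pos)
  exact h ((dvd_card_of_ne_bot (PGroupsBasic.isPGroup_of_isElementaryAbelian (A := E) ⟨hEc, hEp⟩)
    hne).trans (card_subgroup_dvd_card E))

/-- The derived group of `X / O_π(X)` is nilpotent if `p`-ranks outside `π` are at most two. -/
theorem commutator_quotient_le_fitting [Group.IsSolvable X] (hodd : Odd (Nat.card X)) {π : Set ℕ}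
    (hr : ∀ q : ℕ, q.Prime → q ∉ π → Cfsg.PRankLE q 2 X) :
    commutator (X ⧸ Cfsg.piCore π X) ≤ Cfsg.fittingSubgroup (X ⧸ Cfsg.piCore π X) := by
  refine BGRankTwo.commutator_le_fitting (hodd.of_dvd_nat (card_quotient_dvd_card _)) fun q hq => ?_
  haveI := Fact.mk hq
  by_cases hqπ : q ∈ π
  · have hb : Cfsg.pCore q (X ⧸ Cfsg.piCore π X) = ⊥ := by
      haveI := pCore_normal q (X ⧸ Cfsg.piCore π X)
      rw [← le_bot_iff, ← piCore_quotient_self (π := π) (G := X)]
      refine le_piCore fun r hr hd => ?_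
      obtain ⟨n, hn⟩ := IsPGroup.iff_card.1 (isPGroup_pCore q (X ⧸ Cfsg.piCore π X))
      rw [hn] at hd
      exact (Nat.prime_dvd_prime_iff_eq hr hq).1 (hr.dvd_of_dvd_pow hd) ▸ hqπ
    rw [hb]
    exact pRankLE_of_not_dvd (by rw [card_bot]; exact hq.not_dvd_one)
  · refine BGRankTwo.pRankLE_of_injective (Cfsg.pCore q _).subtype (subtype_injective _)
      (pRankLE_quotient ?_ (hr q hq hqπ))
    exact (hq.coprime_iff_not_dvd.2 fun hd => hqπ (piNat_card_piCore π X q hq hd)).symm

/-- A `π`-core is a Hall subgroup when `π`-Sylows lie in the derived group. -/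
theorem not_dvd_index_piCore [Group.IsSolvable X] (hodd : Odd (Nat.card X)) {π₀ π : Set ℕ}
    (hr : ∀ q : ℕ, q.Prime → q ∉ π₀ → Cfsg.PRankLE q 2 X) (hsub : π₀ ⊆ π) {q : ℕ} [Fact q.Prime]
    (hq : q ∈ π) (S : Sylow q X) (hS : (S : Subgroup X) ≤ commutator X) :
    ¬ q ∣ (Cfsg.piCore π X).index := by
  set O := Cfsg.piCore π₀ X with hO
  set W := (Cfsg.pCore q (X ⧸ O)).comap (QuotientGroup.mk' O) with hW
  haveI : (Cfsg.pCore q (X ⧸ O)).Normal := pCore_normal q _
  have hSW : (S : Subgroup X) ≤ W := by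
    intro x hx
    obtain ⟨i, hi⟩ := IsPGroup.iff_orderOf.1 S.isPGroup' ⟨x, hx⟩
    rw [Subgroup.orderOf_mk] at hi
    obtain ⟨j, -, hj⟩ := (Nat.dvd_prime_pow (Fact.out : q.Prime)).1
      (hi ▸ orderOf_map_dvd (QuotientGroup.mk' O) x)
    refine BGRankTwo.mem_pCore_of_mem_fitting ?_ hj
    refine commutator_quotient_le_fitting hodd hr ?_
    have h1 : (commutator X).map (QuotientGroup.mk' O) ≤ commutator (X ⧸ O) := by
      rw [commutator_def, commutator_def, map_commutator]
      exact commutator_mono le_top le_top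
    exact h1 (mem_map_of_mem _ (hS hx))
  have hWπ : PiNat π (Nat.card W) := by
    rw [hW, ← card_comap_mk']
    refine PiNat.mul ?_ ?_ <;> first
      | exact (piNat_card_piCore π₀ X).mono hsub
      | (intro r hr' hd
         obtain ⟨n, hn⟩ := IsPGroup.iff_card.1 (isPGroup_pCore q (X ⧸ O))
         rw [hn] at hd
         exact (Nat.prime_dvd_prime_iff_eq hr' Fact.out).1 (hr'.dvd_of_dvd_pow hd) ▸ hq)
  intro hd
  exact S.not_dvd_index (hd.trans (index_dvd_of_le (hSW.trans (le_piCore hWπ))))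

/-- The largest prime divisor of an odd group of rank at most two has a normal Sylow subgroup. -/
theorem sylow_normal_of_largest [Group.IsSolvable X] (hodd : Odd (Nat.card X))
    (hr : ∀ q : ℕ, q.Prime → Cfsg.PRankLE q 2 X) {r : ℕ} [Fact r.Prime]
    (hmax : ∀ q : ℕ, q.Prime → q ∣ Nat.card X → q ≤ r) (R : Sylow r X) :
    (R : Subgroup X).Normal := by
  set W : Subgroup X := ⨅ q : {q : ℕ // q.Prime ∧ q ∣ Nat.card X ∧ q ≠ r},
    Cfsg.pPrimeCore q X with hW
  haveI : W.Normal := normal_iInf_normal fun q => pPrimeCore_normal _ X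
  have hRW : (R : Subgroup X) ≤ W := by
    refine le_iInf fun q => ?_
    haveI := pPrimeCore_normal (q : ℕ) X
    haveI := Fact.mk q.2.1
    refine le_of_prime_not_dvd fun s hs hd hdi => ?_
    obtain ⟨n, hn⟩ := IsPGroup.iff_card.1 R.isPGroup'
    rw [hn] at hd
    have hsr := (Nat.prime_dvd_prime_iff_eq hs Fact.out).1 (hs.dvd_of_dvd_pow hd)
    subst hsr
    have hq2 : (q : ℕ) ≠ 2 := fun h =>
      Nat.not_even_iff_odd.2 hodd (even_iff_two_dvd.2 (h ▸ q.2.2.1))
    exact q.2.2.2 (le_antisymm (hmax _ q.2.1 q.2.2.1)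
      (BGRankTwo.prime_le_of_dvd_index hq2 hodd (hr _ q.2.1) hs hdi))
  have hWp : IsPGroup r W := by
    rw [isPGroup_iff_piNat]
    intro s hs hd
    by_contra hne
    have hs' : s.Prime ∧ s ∣ Nat.card X ∧ s ≠ r := ⟨hs, hd.trans (card_subgroup_dvd_card W), hne⟩
    exact (hs.coprime_iff_not_dvd.1 (coprime_card_pPrimeCore s X).symm)
      (hd.trans (card_dvd_of_le (iInf_le _ (⟨s, hs'⟩ : {q : ℕ // q.Prime ∧ q ∣ Nat.card X ∧ q ≠ r}))))
  rw [← R.is_maximal' hWp hRW]
  infer_instance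

end general

/-! ### The cores of a maximal subgroup -/

variable {G : Type u} [Group G] [Finite G]

theorem card_core (π : Set ℕ) (M : Subgroup G) :
    Nat.card ↥((Cfsg.piCore π M).map M.subtype) = Nat.card (Cfsg.piCore π M) :=
  card_map_of_injective M.subtype_injective

omit [Finite G] in
theorem subgroupOf_map_subtype_self (M : Subgroup G) (K : Subgroup M) :
    (K.map M.subtype).subgroupOf M = K := comap_map_eq_self_of_injective M.subtype_injective K

omit [Finite G] in
theorem le_normalizer_core (π : Set ℕ) (M : Subgroup G) :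
    M ≤ normalizer ((Cfsg.piCore π M).map M.subtype : Set G) :=
  haveI := piCore_characteristic π M
  le_normalizer.trans (ComponentsCores.normalizer_le_normalizer_map_subtype M (Cfsg.piCore π M))

variable (hG : Cfsg.IsMinSimpleOddOrder G) {M : Subgroup G} (hM : IsCoatom M)
include hG hM

theorem alpha_subset : Cfsg.alpha M ⊆ Cfsg.sigma M := fun q hq =>
  haveI := Fact.mk hq.1
  alpha_subset_sigma hG hM hq

theorem rank_outside_alpha {q : ℕ} (hq : q.Prime) (h : q ∉ Cfsg.alpha M) : Cfsg.PRankLE q 2 M :=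
  by_contra fun hr => h ⟨hq, hr⟩

theorem sylow_le_commutator {q : ℕ} [Fact q.Prime] (hq : q ∈ Cfsg.sigma M) (S : Sylow q M) :
    (S : Subgroup M) ≤ commutator M := by
  have h := le_commutator hG hM hq (isMaxP_sylow M S)
  intro x hx
  have h2 : (x : G) ∈ ⁅M, M⁆ := h ⟨x, hx, rfl⟩
  rw [← Subgroup.map_subtype_commutator] at h2
  obtain ⟨y, hy, hyx⟩ := h2
  exact Subtype.ext hyx ▸ hy

theorem not_dvd_index_of_sigma {q : ℕ} [Fact q.Prime] (hq : q ∈ Cfsg.sigma M) :
    ¬ q ∣ M.index := by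
  obtain ⟨P, hP⟩ : ∃ P, IsMaxP q P M := ⟨_, isMaxP_sylow M default⟩
  obtain ⟨S, hS⟩ := (isMaxP_top_of_sigma hq hP).exists_sylow_top
  exact fun hd => S.not_dvd_index (hd.trans (index_dvd_of_le (hS ▸ hP.le)))

/-- BG 10.2 (a), (b): the cores are Hall subgroups. -/
theorem hall_core {π : Set ℕ} (h₁ : Cfsg.alpha M ⊆ π) (h₂ : π ⊆ Cfsg.sigma M) :
    Cfsg.IsPiHallOf π ((Cfsg.piCore π M).map M.subtype) M ∧
      Cfsg.IsPiHall π ((Cfsg.piCore π M).map M.subtype) := by
  haveI := isSolvable_of_ne_top hG hM.1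
  have hc : ∀ q : ℕ, q.Prime → q ∣ Nat.card ↥((Cfsg.piCore π M).map M.subtype) → q ∈ π :=
    fun q hq hd => piNat_card_piCore π M q hq (card_core π M ▸ hd)
  have hi : ∀ q : ℕ, q.Prime → q ∈ π → ¬ q ∣ ((Cfsg.piCore π M).map M.subtype).relIndex M := by
    intro q hq hqπ
    haveI := Fact.mk hq
    rw [relIndex, subgroupOf_map_subtype_self]
    exact not_dvd_index_piCore (odd_card_subgroup hG M)
      (fun r hr h => rank_outside_alpha hG hM hr h) h₁ hqπ default
      (sylow_le_commutator hG hM (h₂ hqπ) default)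
  refine ⟨⟨map_subtype_le _, hc, hi⟩, hc, fun q hq hqπ hd => ?_⟩
  haveI := Fact.mk hq
  rw [← relIndex_mul_index (map_subtype_le (Cfsg.piCore π M))] at hd
  rcases hq.dvd_mul.1 hd with h | h
  · exact hi q hq hqπ h
  · exact not_dvd_index_of_sigma hG hM (h₂ hqπ) h

theorem hall_alpha : Cfsg.IsPiHallOf (Cfsg.alpha M) (Cfsg.alphaCore M) M ∧
    Cfsg.IsPiHall (Cfsg.alpha M) (Cfsg.alphaCore M) :=
  hall_core hG hM le_rfl (alpha_subset hG hM)

theorem hall_sigma : Cfsg.IsPiHallOf (Cfsg.sigma M) (Cfsg.sigmaCore M) M ∧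
    Cfsg.IsPiHall (Cfsg.sigma M) (Cfsg.sigmaCore M) :=
  hall_core hG hM (alpha_subset hG hM) le_rfl

theorem alphaCore_le_sigmaCore : Cfsg.alphaCore M ≤ Cfsg.sigmaCore M :=
  map_mono (le_piCore ((piNat_card_piCore _ _).mono (alpha_subset hG hM)))

theorem sigmaCore_le_commutator : Cfsg.sigmaCore M ≤ ⁅M, M⁆ := by
  rw [← Subgroup.map_subtype_commutator]
  refine map_mono (le_of_prime_not_dvd fun q hq hd hdi => ?_)
  haveI := Fact.mk hq
  exact (default : Sylow q M).not_dvd_index
    (hdi.trans (index_dvd_of_le (sylow_le_commutator hG hM (piNat_card_piCore _ M q hq hd) default)))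

theorem commutator_quotient_nilpotent :
    Group.IsNilpotent ↥((commutator M).map (QuotientGroup.mk' (Cfsg.piCore (Cfsg.alpha M) M))) := by
  haveI := isSolvable_of_ne_top hG hM.1
  set O := Cfsg.piCore (Cfsg.alpha M) M with hO
  have h : (commutator M).map (QuotientGroup.mk' O) ≤ Cfsg.fittingSubgroup (↥M ⧸ O) := by
    refine le_trans ?_ (commutator_quotient_le_fitting (odd_card_subgroup hG M)
      fun r hr h => rank_outside_alpha hG hM hr h)
    rw [commutator_def, commutator_def, map_commutator]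
    exact commutator_mono le_top le_top
  exact ComponentsCores.nilpotent_of_le h inferInstance

theorem rankLE_quotient : Cfsg.RankLE 2 (↥M ⧸ Cfsg.piCore (Cfsg.alpha M) M) := by
  intro q hq
  haveI := Fact.mk hq
  by_cases hqα : q ∈ Cfsg.alpha M
  · refine pRankLE_of_not_dvd ?_
    rw [← index_eq_card, ← subgroupOf_map_subtype_self M (Cfsg.piCore (Cfsg.alpha M) M)]
    exact (hall_alpha hG hM).1.2.2 q hq hqα
  · exact pRankLE_quotient
      (hq.coprime_iff_not_dvd.2 fun hd => hqα (piNat_card_piCore _ M q hq hd)).symm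
      (rank_outside_alpha hG hM hq hqα)

/-- BG 10.2 (e). -/
theorem sigmaCore_ne_bot : Cfsg.sigmaCore M ≠ ⊥ := by
  intro h0
  haveI := isSolvable_of_ne_top hG hM.1
  have hσ : ∀ q : ℕ, q.Prime → q ∉ Cfsg.sigma M := by
    intro q hq hqσ
    have h1 := (hall_sigma hG hM).1.2.2 q hq hqσ
    rw [h0, relIndex_bot_left] at h1
    exact h1 hqσ.2.1
  have hr : ∀ q : ℕ, q.Prime → Cfsg.PRankLE q 2 M := fun q hq =>
    rank_outside_alpha hG hM hq fun h => hσ q hq (alpha_subset hG hM h)
  obtain ⟨r, hr', hmax⟩ := (Nat.card M).primeFactors.exists_max_image id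
    (Nat.nonempty_primeFactors.2 (one_lt_card_iff_ne_bot M |>.2 (coatom_ne_bot hG hM)))
  simp only [id] at hmax
  rw [Nat.mem_primeFactors] at hr'
  haveI : Fact r.Prime := ⟨hr'.1⟩
  have hn := sylow_normal_of_largest (odd_card_subgroup hG M) hr (fun q hq hd =>
    hmax q (Nat.mem_primeFactors.2 ⟨hq, hd, Nat.card_pos.ne'⟩)) (default : Sylow r M)
  refine hσ r hr'.1 ⟨hr'.1, hr'.2.1, default, ?_⟩
  set R := ((default : Sylow r M) : Subgroup M) with hR
  have hne : R.map M.subtype ≠ ⊥ := fun h => by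
    have := (default : Sylow r M).ne_bot_of_dvd_card hr'.2.1
    exact this (map_eq_bot_iff_of_injective _ M.subtype_injective |>.1 h)
  refine (normalizer_le_of_coatom hG hM hne (map_subtype_le _) ?_).le
  refine le_trans ?_ (le_normalizer_map M.subtype)
  rw [normalizer_eq_top_iff.2 hn, ← MonoidHom.range_eq_map, range_subtype]

omit hG hM in
/-- A normal Hall `σ`-subgroup is `M_σ`. -/
theorem eq_sigmaCore {N : Subgroup G} (hN : M ≤ normalizer (N : Set G))
    (h : Cfsg.IsPiHallOf (Cfsg.sigma M) N M) : N = Cfsg.sigmaCore M := by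
  haveI := normal_subgroupOf_of_le_normalizer hN
  obtain ⟨hle, hc, hi⟩ := h
  rw [← map_subgroupOf_eq_of_le hle]
  refine congrArg _ (le_antisymm (le_piCore fun q hq hd => hc q hq
    (hd.trans (card_subgroupOf_dvd N M))) (le_of_prime_not_dvd fun q hq hd => ?_))
  exact hi q hq (piNat_card_piCore _ M q hq hd)

end Cfsg.Agent.BGSigma
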