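import Mathlib
import Cfsg.Prelude.Def_Solvable
import Cfsg.Prelude.Def_Local
import Cfsg.Prelude.Def_OddOrderLocal
import Cfsg.Agent.Lib.HallCore
import Cfsg.Agent.Lib.HallSolvable
import Cfsg.Agent.Lib.HallConstrained

/-!
# The upper p-series and p-length
-/

set_option autoImplicit false

namespace Cfsg.Agent.HallPLength

open scoped Pointwise
open Subgroup Cfsg.Agent.HallCore Cfsg.Agent.HallSolvable Cfsg.Agent.HallConstrained

variable {G : Type*} [Group G] {H : Type*} [Group H]

/-- The preimage of `O_π(G/T)`. -/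
noncomputable def step (π : Set ℕ) (T : Subgroup G) [T.Normal] : Subgroup G :=
  (Cfsg.piCore π (G ⧸ T)).comap (QuotientGroup.mk' T)

theorem step_normal (π : Set ℕ) (T : Subgroup G) [T.Normal] : (step π T).Normal :=
  Subgroup.Normal.comap inferInstance _

theorem le_step_self (π : Set ℕ) (T : Subgroup G) [T.Normal] : T ≤ step π T :=
  QuotientGroup.le_comap_mk' T _

theorem piNat_relIndex_step [Finite G] (π : Set ℕ) (T : Subgroup G) [T.Normal] :
    PiNat π (T.relIndex (step π T)) := by
  rw [relIndex_eq_card_map, step,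
    Subgroup.map_comap_eq_self_of_surjective (QuotientGroup.mk'_surjective T)]
  exact piNat_card_piCore π _

theorem le_step_iff [Finite G] {π : Set ℕ} {T W : Subgroup G} [T.Normal] [hW : W.Normal] :
    W ≤ step π T ↔ PiNat π (T.relIndex W) := by
  have : (W.map (QuotientGroup.mk' T)).Normal := hW.map _ (QuotientGroup.mk'_surjective T)
  rw [step, ← Subgroup.map_le_iff_le_comap, le_piCore_iff, relIndex_eq_card_map]

/-- The primes used at position `n` of the upper p-series. -/
def piOf (p n : ℕ) : Set ℕ := if Even n then {p}ᶜ else {p}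

variable {p : ℕ}

/-- The `n`-th term of the upper p-series. -/
abbrev term (p : ℕ) (G : Type*) [Group G] (n : ℕ) : Subgroup G := (Cfsg.upperPSeries p G n).1

theorem term_succ [Finite G] [Fact p.Prime] (n : ℕ) :
    term p G (n + 1) = step (piOf p n) (term p G n) := by
  obtain ⟨k, rfl | rfl⟩ := Nat.even_or_odd' n
  · have he : Even (2 * k) := ⟨k, two_mul k⟩
    rw [term, upperPSeries_odd, pPrimeCore_eq_piCore, step, piOf, if_pos he]
  · have he : ¬ Even (2 * k + 1) := by simp [parity_simps]
    rw [term, upperPSeries_even, pCore_eq_piCore, step, piOf, if_neg he]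

theorem relIndex_map_dvd {f : G →* H} (T W : Subgroup G) [T.Normal] :
    (T.map f).relIndex (W.map f) ∣ T.relIndex W := by
  rw [Subgroup.relIndex_map_map]
  have : T ⊔ f.ker = f.ker ⊔ T := sup_comm _ _
  calc (T ⊔ f.ker).relIndex (W ⊔ f.ker)
      = (T ⊔ f.ker).relIndex (W ⊔ (T ⊔ f.ker)) := by
        rw [← Subgroup.inf_relIndex_right]
        rw [← Subgroup.inf_relIndex_right (H := T ⊔ f.ker) (K := W ⊔ (T ⊔ f.ker))]
        rw [Subgroup.inf_relIndex_right, Subgroup.inf_relIndex_right]
        rw [show W ⊔ (T ⊔ f.ker) = (W ⊔ f.ker) ⊔ (T ⊔ f.ker) by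
          rw [this, sup_assoc W f.ker, ← sup_assoc f.ker f.ker, sup_idem]]
        rw [Subgroup.relIndex_sup_right]
    _ = (T ⊔ f.ker).relIndex W := Subgroup.relIndex_sup_right _ _
    _ ∣ T.relIndex W := Subgroup.relIndex_dvd_of_le_left _ le_sup_left

theorem map_step_le [Finite G] [Finite H] {f : G →* H} (hf : Function.Surjective f) {π : Set ℕ}
    {T : Subgroup G} [T.Normal] {T' : Subgroup H} [T'.Normal] (h : T.map f ≤ T') :
    (step π T).map f ≤ step π T' := by
  have : ((step π T).map f).Normal := (step_normal π T).map f hf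
  rw [le_step_iff]
  exact (piNat_relIndex_step π T).of_dvd
    ((Subgroup.relIndex_dvd_of_le_left _ h).trans (relIndex_map_dvd T _))

theorem map_term_le [Finite G] [Fact p.Prime] {f : G →* H} (hf : Function.Surjective f) (n : ℕ) :
    (term p G n).map f ≤ term p H n := by
  have := Finite.of_surjective f hf
  induction n with
  | zero => simp [term, upperPSeries_zero]
  | succ n ih => rw [term_succ, term_succ]; exact map_step_le hf ih

theorem term_subgroupOf_le [Finite G] [Fact p.Prime] (U : Subgroup G) (n : ℕ) :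
    (term p G n).subgroupOf U ≤ term p U n := by
  induction n with
  | zero => simp [term, upperPSeries_zero]
  | succ n ih =>
    rw [term_succ, term_succ]
    have := step_normal (piOf p n) (term p G n)
    rw [le_step_iff]
    refine (piNat_relIndex_step (piOf p n) (term p G n)).of_dvd
      ((Subgroup.relIndex_dvd_of_le_left _ ih).trans ?_)
    simp only [Subgroup.subgroupOf]
    rw [Subgroup.relIndex_comap, Subgroup.map_comap_eq, Subgroup.range_subtype,
      relIndex_eq_card_map, relIndex_eq_card_map]
    exact Subgroup.card_dvd_of_le (Subgroup.map_mono inf_le_right)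

theorem comap_step [Finite G] {f : G →* H} (hf : Function.Surjective f) (π : Set ℕ)
    (T' : Subgroup H) [T'.Normal] :
    step π (T'.comap f) = (step π T').comap f := by
  have := Finite.of_surjective f hf
  refine le_antisymm ?_ ?_
  · rw [← Subgroup.map_le_iff_le_comap]
    exact map_step_le hf (Subgroup.map_comap_le f T')
  · have : ((step π T').comap f).Normal := (step_normal π T').comap f
    rw [le_step_iff, Subgroup.relIndex_comap, Subgroup.map_comap_eq_self_of_surjective hf]
    exact piNat_relIndex_step π T'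

theorem term_two_normal (p : ℕ) (G : Type*) [Group G] (n : ℕ) : (term p G n).Normal :=
  (Cfsg.upperPSeries p G n).2

/-- The upper p-series of `G/T₂` is the upper p-series of `G` shifted by two. -/
theorem term_add_two [Finite G] [Fact p.Prime] (n : ℕ) :
    term p G (n + 2) =
      (term p (G ⧸ term p G 2) n).comap (QuotientGroup.mk' (term p G 2)) := by
  induction n with
  | zero =>
    rw [show term p (G ⧸ term p G 2) 0 = ⊥ from upperPSeries_zero, MonoidHom.comap_bot,
      QuotientGroup.ker_mk']
  | succ n ih =>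
    have hp : piOf p (n + 2) = piOf p n := by simp [piOf, parity_simps]
    rw [show n + 1 + 2 = (n + 2) + 1 by ring, term_succ (n + 2), term_succ n,
      ← comap_step (QuotientGroup.mk'_surjective _), hp]
    congr 1

/-! ### p-length -/

theorem pLengthLE_iff {k : ℕ} : Cfsg.PLengthLE p k G ↔ term p G (2 * k + 1) = ⊤ := Iff.rfl

theorem term_le_term {m n : ℕ} (h : m ≤ n) : term p G m ≤ term p G n :=
  upperPSeries_mono h

theorem pLengthLE_mono {k l : ℕ} (h : k ≤ l) (hk : Cfsg.PLengthLE p k G) :
    Cfsg.PLengthLE p l G :=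
  pLengthLE_iff.mpr (top_le_iff.mp ((pLengthLE_iff.mp hk).ge.trans (term_le_term (by omega))))

theorem pLengthLE_zero_iff [Finite G] [hp : Fact p.Prime] :
    Cfsg.PLengthLE p 0 G ↔ (Nat.card G).Coprime p := by
  rw [pLengthLE_iff, show 2 * 0 + 1 = 0 + 1 from rfl, term_succ,
    ← top_le_iff, le_step_iff, piOf, if_pos ⟨0, rfl⟩, piNat_compl_singleton_iff hp.out,
    show term p G 0 = ⊥ from upperPSeries_zero]
  simp

theorem pLengthLE_succ_iff [Finite G] [Fact p.Prime] {k : ℕ} :
    Cfsg.PLengthLE p (k + 1) G ↔ Cfsg.PLengthLE p k (G ⧸ term p G 2) := by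
  rw [pLengthLE_iff, pLengthLE_iff, show 2 * (k + 1) + 1 = 2 * k + 1 + 2 by ring, term_add_two]
  refine ⟨fun h => ?_, fun h => by rw [h, Subgroup.comap_top]⟩
  rw [← Subgroup.map_comap_eq_self_of_surjective (QuotientGroup.mk'_surjective (term p G 2))
    (term p (G ⧸ term p G 2) (2 * k + 1)), h,
    Subgroup.map_top_of_surjective _ (QuotientGroup.mk'_surjective _)]

theorem pLengthLE_of_surjective [Finite G] [Fact p.Prime] {k : ℕ} {f : G →* H}
    (hf : Function.Surjective f) (h : Cfsg.PLengthLE p k G) : Cfsg.PLengthLE p k H := by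
  rw [pLengthLE_iff] at h ⊢
  have := map_term_le (p := p) hf (2 * k + 1)
  rw [h, Subgroup.map_top_of_surjective f hf] at this
  exact top_le_iff.mp this

theorem pLengthLE_subgroup [Finite G] [Fact p.Prime] {k : ℕ} (h : Cfsg.PLengthLE p k G)
    (U : Subgroup G) : Cfsg.PLengthLE p k U := by
  rw [pLengthLE_iff] at h ⊢
  have := term_subgroupOf_le (p := p) U (2 * k + 1)
  rw [h, Subgroup.top_subgroupOf] at this
  exact top_le_iff.mp this

/-- In a `p`-solvable group the centre of a Sylow `p`-subgroup lies in `O_{p',p}(G)`. -/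
theorem center_sylow_le_term_two [Finite G] [Fact p.Prime] (h : Cfsg.IsPSolvable p G)
    (S : Sylow p G) {z : G} (hz : z ∈ (S : Subgroup G))
    (hc : ∀ s ∈ (S : Subgroup G), s * z = z * s) : z ∈ term p G 2 := by
  rw [show (2 : ℕ) = 2 * 0 + 2 from rfl, term, upperPSeries_even, Subgroup.mem_comap]
  refine centralizer_pCore_le (isPSolvable_quotient h _) (pPrimeCore_quotient_upperPSeries 0) ?_
  intro y hy
  obtain ⟨s, hs, rfl⟩ :=
    pCore_le_sylow (S.mapSurjective (QuotientGroup.mk'_surjective _)) hy
  rw [← map_mul, ← map_mul, hc s hs]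

universe u

/-- The p-length is at most the nilpotency class of a Sylow subgroup. -/
theorem pLengthLE_of_class_le {p : ℕ} [Fact p.Prime] :
    ∀ (c : ℕ) {G : Type u} [Group G] [Finite G], Cfsg.IsPSolvable p G → ∀ S : Sylow p G,
      Group.nilpotencyClass ↥(S : Subgroup G) ≤ c → Cfsg.PLengthLE p c G := by
  intro c
  induction c with
  | zero =>
    intro G _ _ _ S hc
    have : Group.IsNilpotent ↥(S : Subgroup G) := S.2.isNilpotent
    have : Subsingleton ↥(S : Subgroup G) :=
      Group.nilpotencyClass_zero_iff_subsingleton.mp (Nat.le_zero.mp hc)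
    rw [pLengthLE_zero_iff, Nat.coprime_comm, Nat.Prime.coprime_iff_not_dvd Fact.out]
    intro hd
    exact S.ne_bot_of_dvd_card hd ((S : Subgroup G).eq_bot_of_subsingleton)
  | succ c ih =>
    intro G _ _ hsol S hc
    rw [pLengthLE_succ_iff]
    have hq := QuotientGroup.mk'_surjective (term p G 2)
    refine ih (isPSolvable_quotient hsol _) (S.mapSurjective hq) ?_
    rw [Sylow.coe_mapSurjective]
    have : Group.IsNilpotent ↥(S : Subgroup G) := S.2.isNilpotent
    set f := (QuotientGroup.mk' (term p G 2)).subgroupMap (S : Subgroup G)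
    have hker : Subgroup.center ↥(S : Subgroup G) ≤ f.ker := by
      intro z hz
      refine Subtype.ext ((QuotientGroup.eq_one_iff _).mpr ?_)
      exact center_sylow_le_term_two hsol S z.2 fun s hs =>
        congrArg Subtype.val (Subgroup.mem_center_iff.mp hz ⟨s, hs⟩)
    refine (Group.nilpotencyClass_le_of_surjective (QuotientGroup.lift _ f hker) ?_).trans ?_
    · intro y
      obtain ⟨x, rfl⟩ := (QuotientGroup.mk' (term p G 2)).subgroupMap_surjective _ y
      exact ⟨QuotientGroup.mk x, rfl⟩
    · rw [Group.nilpotencyClass_quotient_center]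
      omega

end Cfsg.Agent.HallPLength
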