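import Mathlib
import Cfsg.Agent.Lib.PGroupsBasic

namespace Cfsg.Agent.MaxClassTwo

open Subgroup
open scoped commutatorElement

variable {X : Type*} [Group X] [Finite X] {p : ℕ} [hp : Fact p.Prime]

omit [Finite X] in
theorem eq_center_of_cyclic_quotient (h : IsCyclic (X ⧸ center X)) (a b : X) : a * b = b * a :=
  (MonoidHom.isMulCommutative_of_isCyclic_of_ker_le_center (QuotientGroup.mk' (center X))
    (QuotientGroup.ker_mk' _).le).is_comm.comm a b

omit [Finite X] in
theorem nilpotencyClass_le_one_of_comm [Group.IsNilpotent X] (h : ∀ a b : X, a * b = b * a) :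
    Group.nilpotencyClass X ≤ 1 := by
  let : CommGroup X := { (inferInstance : Group X) with mul_comm := h }
  exact CommGroup.nilpotencyClass_le_one

/-- A group of order `p ^ n`, `2 ≤ n`, has class at most `n - 1`. -/
theorem nilpotencyClass_le : ∀ (n : ℕ) (X : Type*) [Group X] [Finite X], Nat.card X = p ^ n →
    2 ≤ n → Group.nilpotencyClass X ≤ n - 1 := by
  intro n
  induction n using Nat.strong_induction_on with
  | _ n ih =>
  intro X _ _ hX hn
  have hP : IsPGroup p X := IsPGroup.of_card hX
  have : Group.IsNilpotent X := hP.isNilpotent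
  by_cases hc : ∀ a b : X, a * b = b * a
  · exact (nilpotencyClass_le_one_of_comm hc).trans (by omega)
  have : Nontrivial X := Finite.one_lt_card_iff_nontrivial.mp (hX ▸ one_lt_pow' hp.out.one_lt (by omega))
  rw [Group.nilpotencyClass_eq_quotient_center_plus_one]
  obtain ⟨m, hm⟩ := IsPGroup.iff_card.mp (hP.to_quotient (center X))
  have hm2 : 2 ≤ m := by
    by_contra hlt
    refine hc (eq_center_of_cyclic_quotient ?_)
    obtain rfl | rfl : m = 0 ∨ m = 1 := by omega
    · have : Subsingleton (X ⧸ center X) := (Nat.card_eq_one_iff_unique.mp hm).1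
      infer_instance
    · exact isCyclic_of_prime_card (hm.trans (pow_one p))
  obtain ⟨k, hk, hk'⟩ := IsPGroup.nontrivial_iff_card (hP.to_subgroup (center X)) |>.mp hP.center_nontrivial
  have hmn : k + m = n := by
    have h := card_mul_index (center X)
    rw [hk', show (center X).index = p ^ m from hm, hX, ← pow_add] at h
    exact Nat.pow_right_injective hp.out.two_le h
  have := ih m (by omega) (X ⧸ center X) hm hm2
  omega

/-- Maximal class forces a centre of order `p` and a quotient of maximal class. -/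
theorem center_of_maxClass {n : ℕ} (hn : 3 ≤ n) (hX : Nat.card X = p ^ n)
    (hc : Group.nilpotencyClass X = n - 1) :
    Nat.card (center X) = p ∧ Nat.card (X ⧸ center X) = p ^ (n - 1) ∧
      Group.nilpotencyClass (X ⧸ center X) = n - 2 ∧ ¬ ∀ a b : X, a * b = b * a := by
  have hP : IsPGroup p X := IsPGroup.of_card hX
  have : Group.IsNilpotent X := hP.isNilpotent
  have hnc : ¬ ∀ a b : X, a * b = b * a := fun h => by
    have := nilpotencyClass_le_one_of_comm h; omega
  have : Nontrivial X := Finite.one_lt_card_iff_nontrivial.mp (hX ▸ one_lt_pow' hp.out.one_lt (by omega))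
  rw [Group.nilpotencyClass_eq_quotient_center_plus_one] at hc
  obtain ⟨m, hm⟩ := IsPGroup.iff_card.mp (hP.to_quotient (center X))
  obtain ⟨k, hk, hk'⟩ := IsPGroup.nontrivial_iff_card (hP.to_subgroup (center X)) |>.mp hP.center_nontrivial
  have hmn : k + m = n := by
    have h := card_mul_index (center X)
    rw [hk', show (center X).index = p ^ m from hm, hX, ← pow_add] at h
    exact Nat.pow_right_injective hp.out.two_le h
  have hm2 : 2 ≤ m := by
    by_contra hlt
    refine hnc (eq_center_of_cyclic_quotient ?_)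
    obtain rfl | rfl : m = 0 ∨ m = 1 := by omega
    · have : Subsingleton (X ⧸ center X) := (Nat.card_eq_one_iff_unique.mp hm).1
      infer_instance
    · exact isCyclic_of_prime_card (hm.trans (pow_one p))
  have := nilpotencyClass_le (p := p) m (X ⧸ center X) hm hm2
  obtain rfl : m = n - 1 := by omega
  obtain rfl : k = 1 := by omega
  exact ⟨hk'.trans (pow_one p), hm, by omega, hnc⟩

/-- A `p`-group with a self-centralizing subgroup of order `p ^ 2` has maximal class. -/
theorem class_of_self_centralizing : ∀ (n : ℕ) (X : Type*) [Group X] [Finite X],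
    Nat.card X = p ^ n → ∀ A : Subgroup X, Nat.card A = p ^ 2 →
      centralizer (A : Set X) = A → Group.nilpotencyClass X = n - 1 := by
  intro n
  induction n using Nat.strong_induction_on with
  | _ n ih =>
  intro X _ _ hX A hA hC
  have hP : IsPGroup p X := IsPGroup.of_card hX
  have : Group.IsNilpotent X := hP.isNilpotent
  have hn2 : 2 ≤ n :=
    (Nat.pow_dvd_pow_iff_le_right hp.out.one_lt).mp (hA ▸ hX ▸ card_subgroup_dvd_card A)
  have : Nontrivial X := Finite.one_lt_card_iff_nontrivial.mp (hX ▸ one_lt_pow' hp.out.one_lt (by omega))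
  have hAc : IsMulCommutative A := ⟨⟨IsPGroup.commutative_of_card_eq_prime_sq hA⟩⟩
  by_cases hAZ : A ≤ center X
  · have htop : A = ⊤ := by
      rw [← hC, eq_top_iff]
      exact fun x _ => mem_centralizer_iff.mpr fun a ha => (mem_center_iff.mp (hAZ ha) x).symm
    rw [htop, card_top, hX] at hA
    obtain rfl : n = 2 := Nat.pow_right_injective hp.out.two_le hA
    have hcomm : ∀ a b : X, a * b = b * a := fun a b =>
      (mem_center_iff.mp (hAZ (htop ▸ mem_top b)) a)
    have h1 := nilpotencyClass_le_one_of_comm hcomm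
    have h2 : Group.nilpotencyClass X ≠ 0 := fun h =>
      not_subsingleton X (Group.nilpotencyClass_zero_iff_subsingleton.mp h)
    omega
  have hZA : center X < A := lt_of_le_not_ge (hC ▸ center_le_centralizer _) hAZ
  have hZ : Nat.card (center X) = p := by
    obtain ⟨k, hk, hk'⟩ := IsPGroup.nontrivial_iff_card (hP.to_subgroup (center X)) |>.mp
      hP.center_nontrivial
    have hlt : Nat.card (center X) < p ^ 2 := hA ▸ Nat.lt_of_le_of_ne
      (card_le_of_le hZA.le) fun h => hZA.ne (eq_of_le_of_card_ge hZA.le h.ge)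
    rw [hk'] at hlt ⊢
    obtain rfl : k = 1 := by
      have := (Nat.pow_lt_pow_iff_right hp.out.one_lt).mp hlt; omega
    exact pow_one p
  obtain ⟨a, haA, haZ⟩ := SetLike.exists_of_lt hZA
  set q := QuotientGroup.mk' (center X) with hq
  set Ā := A.map q with hĀ
  have hQ : Nat.card (X ⧸ center X) = p ^ (n - 1) := by
    have h := card_mul_index (center X)
    rw [hZ, hX, ← Nat.sub_add_cancel (by omega : 1 ≤ n), pow_succ'] at h
    exact Nat.eq_of_mul_eq_mul_left hp.out.pos h
  set D := centralizer (Ā : Set (X ⧸ center X)) with hD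
  set D' := D.comap q with hD'
  have hcA : ∀ d ∈ D', ∀ b ∈ A, ⁅d, b⁆ ∈ center X := by
    intro d hd b hb
    rw [← QuotientGroup.eq_one_iff, show ((⁅d, b⁆ : X) : X ⧸ center X) = ⁅q d, q b⁆ from map_commutatorElement q d b,
      commutatorElement_eq_one_iff_mul_comm]
    exact (mem_centralizer_iff.mp hd _ ⟨b, hb, rfl⟩).symm
  let f : D' →* center X :=
    { toFun := fun d => ⟨⁅(d : X), a⁆, hcA d d.2 a haA⟩
      map_one' := Subtype.ext (commutatorElement_one_left a)
      map_mul' := fun d e => Subtype.ext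
        (PGroupsBasic.commutatorElement_mul_left_of_central (hcA e e.2 a haA)) }
  have hAD : A ≤ D' := by
    intro x hx
    rw [hD', mem_comap, mem_centralizer_iff]
    rintro _ ⟨b, hb, rfl⟩
    rw [← map_mul, ← map_mul, PGroupsBasic.comm_of_isMulCommutative hAc hb hx]
  have hker : f.ker ≤ A.subgroupOf D' := by
    intro d hd
    rw [mem_subgroupOf, ← hC, mem_centralizer_iff]
    have hda : (d : X) * a = a * d :=
      commutatorElement_eq_one_iff_mul_comm.mp (congrArg Subtype.val hd)
    have hgen : center X ⊔ zpowers a = A := by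
      refine eq_of_le_of_card_ge (sup_le hZA.le (zpowers_le.mpr haA)) ?_
      have h1 : center X < center X ⊔ zpowers a :=
        lt_of_le_of_ne le_sup_left fun h => haZ (h ▸ mem_sup_right (mem_zpowers a))
      obtain ⟨k, hk⟩ := IsPGroup.iff_card.mp (hP.to_subgroup (center X ⊔ zpowers a))
      have h2 : Nat.card (center X) < Nat.card (center X ⊔ zpowers a : Subgroup X) :=
        Nat.lt_of_le_of_ne (card_le_of_le h1.le) fun h => h1.ne (eq_of_le_of_card_ge h1.le h.ge)
      rw [hZ, hk] at h2
      rw [hA, hk]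
      refine Nat.pow_le_pow_right hp.out.pos ?_
      have := (Nat.pow_lt_pow_iff_right hp.out.one_lt).mp ((pow_one p).trans_lt h2)
      omega
    have hle : center X ⊔ zpowers a ≤ centralizer ({(d : X)} : Set X) :=
      sup_le (center_le_centralizer _) (zpowers_le.mpr (mem_centralizer_singleton_iff.mpr hda.symm))
    intro b hb
    exact mem_centralizer_singleton_iff.mp (hle (hgen.symm ▸ hb))
  have hD'card : Nat.card D' ≤ p ^ 3 := by
    rw [← f.ker.card_mul_index, index_ker]
    refine le_trans (Nat.mul_le_mul ((card_le_of_le hker).trans (Nat.le_of_eq ?_))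
      ((Nat.card_le_card_of_injective _ (subtype_injective f.range)).trans hZ.le)) (Nat.le_of_eq (pow_succ p 2).symm)
    rw [Nat.card_congr (subgroupOfEquivOfLe hAD).toEquiv, hA]
  have hDD : Nat.card D' = p * Nat.card D := by
    have h1 := card_mul_index D'
    rw [hD', index_comap_of_surjective _ (QuotientGroup.mk'_surjective _), hX,
      ← Nat.sub_add_cancel (by omega : 1 ≤ n), pow_succ', ← hQ, ← D.card_mul_index, ← mul_assoc] at h1
    exact Nat.eq_of_mul_eq_mul_right (Nat.pos_of_ne_zero index_ne_zero_of_finite) h1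
  have hĀcard : Nat.card Ā = p := by
    have h := card_mul_index ((center X).subgroupOf A)
    rw [Nat.card_congr (subgroupOfEquivOfLe hZA.le).toEquiv, hZ, hA, sq] at h
    rw [hĀ, ← relIndex_bot_left, ← Subgroup.map_bot q, relIndex_map_map, hq, QuotientGroup.ker_mk',
      bot_sup_eq, sup_eq_left.mpr hZA.le]
    exact Nat.eq_of_mul_eq_mul_left hp.out.pos h
  have hn3 : 3 ≤ n := by
    rcases hn2.lt_or_eq with h | rfl
    · omega
    · exfalso
      have : A = ⊤ := eq_top_of_card_eq _ (by rw [hA, hX])
      exact hAZ fun x hx => mem_center_iff.mpr fun y =>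
        PGroupsBasic.comm_of_isMulCommutative hAc (this ▸ mem_top y) hx
  have hQP : IsPGroup p (X ⧸ center X) := hP.to_quotient _
  have hĀD : Ā ≤ D := map_le_iff_le_comap.mpr hAD
  have hDcard : Nat.card D = p ^ 2 := by
    obtain ⟨k, hk⟩ := IsPGroup.iff_card.mp (hQP.to_subgroup D)
    have hle : k ≤ 2 := by
      rw [hDD, hk, ← pow_succ'] at hD'card
      have := (Nat.pow_le_pow_iff_right hp.out.one_lt).mp hD'card; omega
    have hge : 1 ≤ k := by
      have := card_le_of_le hĀD
      rw [hĀcard, hk] at this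
      exact (Nat.pow_le_pow_iff_right hp.out.one_lt).mp ((pow_one p).trans_le this)
    rcases hle.lt_or_eq with hlt | rfl
    · exfalso
      obtain rfl : k = 1 := by omega
      have hDĀ : Ā = D := eq_of_le_of_card_ge hĀD (by rw [hk, hĀcard, pow_one])
      have hZQ : center (X ⧸ center X) ≤ D := center_le_centralizer _
      have hne : center (X ⧸ center X) ≠ ⊥ := by
        have : Nontrivial (X ⧸ center X) :=
          Finite.one_lt_card_iff_nontrivial.mp (hQ ▸ one_lt_pow' hp.out.one_lt (by omega))
        exact (have := hQP.isNilpotent; Group.IsNilpotent.center_ne_bot _)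
      have hDZ : D ≤ center (X ⧸ center X) :=
        (PGroupsBasic.le_or_inf_eq_bot (hk.trans (pow_one p)) _).resolve_right fun h =>
          hne (le_bot_iff.mp (h ▸ le_inf hZQ le_rfl))
      have htop : D = ⊤ := eq_top_iff.mpr fun x _ => mem_centralizer_iff.mpr fun b hb =>
        (mem_center_iff.mp (hDZ (hĀD hb)) x).symm
      rw [htop, card_top, hQ] at hk
      have := Nat.pow_right_injective hp.out.two_le hk
      omega
    · exact hk
  have hDc : centralizer (D : Set (X ⧸ center X)) = D :=
    le_antisymm (centralizer_le hĀD) (PGroupsBasic.le_centralizer_of_isMulCommutative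
      ⟨⟨IsPGroup.commutative_of_card_eq_prime_sq hDcard⟩⟩)
  have := ih (n - 1) (by omega) (X ⧸ center X) hQ D hDcard hDc
  rw [Group.nilpotencyClass_eq_quotient_center_plus_one]
  omega

/-- For a non-abelian `p`-group with an abelian subgroup `A` of index `p` we have
`|A| = |X'| |Z(X)|`; moreover `X'` is the set of commutators `[y, a]`. -/
theorem abelian_index_prime (hP : IsPGroup p X) (A : Subgroup X) (hA : IsMulCommutative A)
    (hAi : A.index = p) (hnc : ¬ ∀ a b : X, a * b = b * a) {y : X} (hy : y ∉ A) :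
    center X ≤ A ∧ (∀ a ∈ A, ⁅y, a⁆ ∈ commutator X) ∧
      (∀ z ∈ commutator X, ∃ a ∈ A, ⁅y, a⁆ = z) ∧
      Nat.card (commutator X) * Nat.card (center X) = Nat.card A := by
  have hAn : A.Normal := PGroupsBasic.normal_of_index_eq hP hAi
  have hAcomm := fun {a b : X} => PGroupsBasic.comm_of_isMulCommutative hA (x := a) (y := b)
  have htop : ∀ w, w ∉ A → A ⊔ zpowers w = ⊤ := fun w hw =>
    (PGroupsBasic.isCoatom_of_index_eq hAi).2 _
      (lt_of_le_of_ne le_sup_left fun h => hw (h.symm ▸ mem_sup_right (mem_zpowers w)))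
  have hzle : center X ≤ A := by
    intro z hz
    by_contra hzA
    refine hnc fun a b => ?_
    have hle : A ⊔ zpowers z ≤ centralizer ((A ⊔ zpowers z : Subgroup X) : Set X) := by
      rw [le_centralizer_iff_isMulCommutative, sup_eq_closure]
      refine isMulCommutative_closure ?_
      rintro u (hu | hu) v (hv | hv)
      · exact hAcomm hu hv
      · obtain ⟨k, rfl⟩ := mem_zpowers_iff.mp hv; exact mem_center_iff.mp (zpow_mem hz k) u
      · obtain ⟨k, rfl⟩ := mem_zpowers_iff.mp hu; exact (mem_center_iff.mp (zpow_mem hz k) v).symm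
      · obtain ⟨k, rfl⟩ := mem_zpowers_iff.mp hu
        exact (mem_center_iff.mp (zpow_mem hz k) v).symm
    rw [htop z hzA] at hle
    exact (mem_centralizer_iff.mp (hle (mem_top b))) a (mem_top a)
  have hmem : ∀ a ∈ A, ⁅y, a⁆ ∈ A := fun a ha => by
    rw [commutatorElement_def]; exact A.mul_mem (hAn.conj_mem a ha y) (A.inv_mem ha)
  let d : A →* A :=
    { toFun := fun a => ⟨⁅y, (a : X)⁆, hmem a a.2⟩
      map_one' := Subtype.ext (commutatorElement_one_right y)
      map_mul' := fun a b => Subtype.ext (by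
        have h1 := hAcomm (hmem b b.2) (A.inv_mem a.2)
        show ⁅y, (a : X) * b⁆ = ⁅y, (a : X)⁆ * ⁅y, (b : X)⁆
        calc ⁅y, (a : X) * b⁆ = ⁅y, (a : X)⁆ * ((a : X) * (⁅y, (b : X)⁆ * (a : X)⁻¹)) := by
              simp [commutatorElement_def, mul_assoc]
          _ = ⁅y, (a : X)⁆ * ((a : X) * ((a : X)⁻¹ * ⁅y, (b : X)⁆)) := by rw [h1]
          _ = _ := by group) }
  set D := d.range.map A.subtype with hD
  have hDA : D ≤ A := map_subtype_le _
  have hDn : D.Normal := by
    rw [← normalizer_eq_top_iff, eq_top_iff, ← htop y hy]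
    refine sup_le ((PGroupsBasic.le_centralizer_of_isMulCommutative
      (PGroupsBasic.isMulCommutative_mono hA hDA) |> fun _ => ?_)) (zpowers_le.mpr ?_)
    · intro a ha
      rw [mem_normalizer_iff]
      intro z
      constructor
      · intro hz; rwa [hAcomm ha (hDA hz), mul_inv_cancel_right]
      · intro hz
        have h1 := hAcomm ha (hDA hz)
        have h2 : a * z * a⁻¹ = z := by
                    calc a * z * a⁻¹ = a⁻¹ * (a * ((a * z * a⁻¹))) := by group
            _ = a⁻¹ * ((a * z * a⁻¹) * a) := by rw [h1]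
            _ = z := by group
        rwa [h2] at hz
    · rw [mem_normalizer_iff_map_conj_eq]
      refine eq_of_le_of_card_ge ?_ (Nat.card_congr (D.equivMapOfInjective _ (MulAut.conj y).injective).toEquiv).le
      rintro _ ⟨_, ⟨_, ⟨a, rfl⟩, rfl⟩, rfl⟩
      refine ⟨d ⟨y * a * y⁻¹, hAn.conj_mem a a.2 y⟩, ⟨_, rfl⟩, ?_⟩
      show ⁅y, y * (a : X) * y⁻¹⁆ = y * ⁅y, (a : X)⁆ * y⁻¹
      simp [commutatorElement_def, mul_assoc]
  have hcle : commutator X ≤ D := by
    refine (Subgroup.Normal.quotient_commutative_iff_commutator_le).mp ?_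
    have h1 : closure ((QuotientGroup.mk' D) '' (A : Set X) ∪ {QuotientGroup.mk' D y}) = ⊤ := by
      rw [← top_le_iff, ← map_top_of_surjective _ (QuotientGroup.mk'_surjective D), ← htop y hy,
        Subgroup.map_sup, MonoidHom.map_zpowers]
      exact sup_le (fun z hz => subset_closure (Or.inl hz))
        (zpowers_le.mpr (subset_closure (Or.inr rfl)))
    have hcomm := isMulCommutative_closure
      (k := (QuotientGroup.mk' D) '' (A : Set X) ∪ {QuotientGroup.mk' D y}) (by
        have hyA : ∀ a ∈ A, QuotientGroup.mk' D y * QuotientGroup.mk' D a =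
            QuotientGroup.mk' D a * QuotientGroup.mk' D y := by
          intro a ha
          rw [← commutatorElement_eq_one_iff_mul_comm, ← map_commutatorElement]
          exact (QuotientGroup.eq_one_iff _).mpr ⟨d ⟨a, ha⟩, ⟨_, rfl⟩, rfl⟩
        rintro u (⟨a, ha, rfl⟩ | hu) v (⟨b, hb, rfl⟩ | hv)
        · rw [← map_mul, hAcomm ha hb, map_mul]
        · rw [Set.mem_singleton_iff.mp hv]; exact (hyA a ha).symm
        · rw [Set.mem_singleton_iff.mp hu]; exact hyA b hb
        · rw [Set.mem_singleton_iff.mp hu, Set.mem_singleton_iff.mp hv])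
    exact ⟨⟨fun u v => PGroupsBasic.comm_of_isMulCommutative hcomm (h1 ▸ mem_top u) (h1 ▸ mem_top v)⟩⟩
  have hle : D ≤ commutator X := by
    rintro _ ⟨_, ⟨a, rfl⟩, rfl⟩
    exact commutator_mem_commutator (mem_top y) (mem_top (a : X))
  refine ⟨hzle, fun a _ => commutator_mem_commutator (mem_top y) (mem_top a), fun z hz => ?_, ?_⟩
  · obtain ⟨_, ⟨a, rfl⟩, rfl⟩ := hcle hz
    exact ⟨a, a.2, rfl⟩
  · have hker : d.ker = (center X).subgroupOf A := by
      ext a
      rw [MonoidHom.mem_ker, mem_subgroupOf, mem_center_iff]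
      constructor
      · intro ha g
        have h1 : y * a = a * y := commutatorElement_eq_one_iff_mul_comm.mp (congrArg Subtype.val ha)
        have h2 : A ⊔ zpowers y ≤ centralizer ({(a : X)} : Set X) :=
          sup_le (fun b hb => mem_centralizer_singleton_iff.mpr (hAcomm hb a.2))
            (zpowers_le.mpr (mem_centralizer_singleton_iff.mpr h1))
        exact mem_centralizer_singleton_iff.mp (h2 (htop y hy ▸ mem_top g))
      · intro ha
        exact Subtype.ext (commutatorElement_eq_one_iff_mul_comm.mpr (ha y))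
    have h1 := card_mul_index d.ker
    rw [index_ker, hker, Nat.card_congr (subgroupOfEquivOfLe hzle).toEquiv] at h1
    rw [← h1, le_antisymm hcle hle, hD, card_map_of_injective A.subtype_injective, mul_comm]

/-- A 2-group of maximal class has a cyclic subgroup of index 2. -/
theorem exists_cyclic_index_two : ∀ (n : ℕ) (X : Type*) [Group X] [Finite X],
    Nat.card X = 2 ^ n → 3 ≤ n → Group.nilpotencyClass X = n - 1 →
    ∃ C : Subgroup X, IsCyclic C ∧ C.index = 2 := by
  intro n
  induction n using Nat.strong_induction_on with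
  | _ n ih =>
  intro X _ _ hX hn hc
  have : Fact (Nat.Prime 2) := ⟨Nat.prime_two⟩
  obtain ⟨hZ, hQ, hQc, hnc⟩ := center_of_maxClass hn hX hc
  have hP : IsPGroup 2 X := IsPGroup.of_card hX
  rcases hn.lt_or_eq with h4 | rfl
  · obtain ⟨C₀, hC₀, hC₀i⟩ := ih (n - 1) (by omega) (X ⧸ center X) hQ (by omega) (by omega)
    set q := QuotientGroup.mk' (center X) with hq
    set C := C₀.comap q with hC
    have hCi : C.index = 2 := by
      rw [hC, index_comap_of_surjective _ (QuotientGroup.mk'_surjective _), hC₀i]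
    have hCc : IsMulCommutative C := by
      refine MonoidHom.isMulCommutative_of_isCyclic_of_ker_le_center (q.subgroupComap C₀) ?_
      intro x hx
      have h1 : (x : X) ∈ center X := (QuotientGroup.eq_one_iff _).mp (congrArg Subtype.val hx)
      exact mem_center_iff.mpr fun g => Subtype.ext (mem_center_iff.mp h1 g)
    by_contra hno
    have hCn : ¬ IsCyclic C := fun h => hno ⟨C, h, hCi⟩
    obtain ⟨y, hy⟩ : ∃ y, y ∉ C := by
      by_contra h
      push Not at h
      rw [show C = ⊤ from eq_top_iff.mpr fun x _ => h x, index_top] at hCi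
      omega
    obtain ⟨-, hin, hout, hcard⟩ := abelian_index_prime hP C hCc hCi hnc hy
    obtain ⟨g, hg⟩ := hC₀.exists_ofOrder_eq_natCard
    have hC₀card : Nat.card C₀ = 2 ^ (n - 2) := by
      have h := card_mul_index C₀
      rw [hC₀i, hQ, show n - 1 = n - 2 + 1 by omega, pow_succ] at h
      exact Nat.eq_of_mul_eq_mul_right two_pos h
    obtain ⟨c, hc'⟩ := QuotientGroup.mk'_surjective (center X) (g : X ⧸ center X)
    have hcC : c ∈ C := by rw [hC, mem_comap, hq, hc']; exact g.2
    have hgen : zpowers (q c) = C₀ := by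
      refine eq_of_le_of_card_ge (zpowers_le.mpr hcC) ?_
      rw [Nat.card_zpowers, hq, hc', Subgroup.orderOf_coe, hg]
    have hCc' : Nat.card C = 2 ^ (n - 1) := by
      have h := card_mul_index C
      rw [hCi, hX, show n = n - 1 + 1 by omega, pow_succ] at h
      exact Nat.eq_of_mul_eq_mul_right two_pos h
    have hcpow : c ^ 2 ^ (n - 2) = 1 := by
      obtain ⟨k, hk⟩ := IsPGroup.iff_orderOf.mp hP c
      have hdvd := Subgroup.orderOf_dvd_natCard _ hcC
      rw [hk, hCc', Nat.pow_dvd_pow_iff_le_right one_lt_two] at hdvd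
      rcases hdvd.lt_or_eq with hlt | rfl
      · exact orderOf_dvd_iff_pow_eq_one.mp (hk ▸ pow_dvd_pow 2 (by omega))
      · exact absurd (isCyclic_of_orderOf_eq_card ⟨c, hcC⟩ (by rw [orderOf_mk, hk, hCc'])) hCn
    set S₀ := zpowers (q c ^ 2) with hS₀
    have hqn : orderOf (q c) = 2 ^ (n - 2) := by rw [← Nat.card_zpowers, hgen, hC₀card]
    have hS₀n : S₀.Normal := ⟨fun z hz w => by
      obtain ⟨k, rfl⟩ := mem_zpowers_iff.mp hz
      have hw : w * q c * w⁻¹ ∈ C₀ :=
        (PGroupsBasic.normal_of_index_eq (hP.to_quotient _) hC₀i).conj_mem _ (hgen ▸ mem_zpowers _) w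
      rw [← hgen] at hw
      obtain ⟨r, hr⟩ := mem_zpowers_iff.mp hw
      refine mem_zpowers_iff.mpr ⟨r * k, ?_⟩
      rw [← conj_zpow, ← conj_pow, ← hr, ← zpow_natCast, ← zpow_natCast, ← zpow_mul, ← zpow_mul,
        ← zpow_mul]
      ring_nf⟩
    have hS₀i : S₀.index ≤ 2 ^ 2 := by
      have h := card_mul_index S₀
      have ho : orderOf (q c ^ 2) = 2 ^ (n - 3) := by
        rw [orderOf_pow_of_dvd two_ne_zero (hqn ▸ dvd_pow_self 2 (by omega)), hqn,
          show n - 2 = n - 3 + 1 by omega, pow_succ, Nat.mul_div_cancel _ two_pos]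
      rw [Nat.card_zpowers, ho, hQ, show n - 1 = n - 3 + 2 by omega, pow_add] at h
      exact (Nat.eq_of_mul_eq_mul_left (pow_pos two_pos _) h).le
    have hS : ∀ z ∈ commutator X, z ^ 2 ^ (n - 3) = 1 := by
      intro z hz
      have h1 : q z ∈ commutator (X ⧸ center X) := by
        rw [_root_.commutator_def, ← map_top_of_surjective q (QuotientGroup.mk'_surjective _),
          ← Subgroup.map_commutator]
        exact ⟨z, hz, rfl⟩
      obtain ⟨k, hk⟩ := mem_zpowers_iff.mp (PGroupsBasic.commutator_le_of_index_le_sq (hP.to_quotient _) hS₀i h1)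
      have h2 : (c ^ (2 * k))⁻¹ * z ∈ center X := by
        refine (QuotientGroup.eq_one_iff _).mp ?_
        show q ((c ^ (2 * k))⁻¹ * z) = 1
        rw [map_mul, map_inv, map_zpow, ← hk, zpow_mul, show ((2 : ℤ)) = ((2 : ℕ) : ℤ) from rfl,
          zpow_natCast, inv_mul_cancel]
      have h3 : Commute (c ^ (2 * k)) ((c ^ (2 * k))⁻¹ * z) := mem_center_iff.mp h2 _
      have h4 : ((c ^ (2 * k))⁻¹ * z) ^ 2 ^ (n - 3) = 1 := by
        rw [show n - 3 = (n - 4) + 1 by omega, pow_succ', pow_mul,
          PGroupsBasic.pow_eq_one_of_card hZ h2, one_pow]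
      calc z ^ 2 ^ (n - 3) = (c ^ (2 * k) * ((c ^ (2 * k))⁻¹ * z)) ^ 2 ^ (n - 3) := by
            rw [mul_inv_cancel_left]
        _ = (c ^ (2 * k)) ^ 2 ^ (n - 3) := by rw [h3.mul_pow, h4, mul_one]
        _ = (c ^ 2 ^ (n - 2)) ^ k := by
          rw [← zpow_natCast, ← zpow_mul, ← zpow_natCast c, ← zpow_mul]
          congr 1
          rw [show n - 2 = (n - 3) + 1 by omega]
          push_cast
          ring
        _ = 1 := by rw [hcpow, one_zpow]
    have hmax : ∀ z ∈ commutator X, z ∈ zpowers ⁅y, c⁆ := by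
      intro z hz
      obtain ⟨a, ha, rfl⟩ := hout z hz
      have h1 : q a ∈ zpowers (q c) := hgen.symm ▸ ha
      obtain ⟨k, hk⟩ := mem_zpowers_iff.mp h1
      have h2 : (c ^ k)⁻¹ * a ∈ center X := by
        refine (QuotientGroup.eq_one_iff _).mp ?_
        show q ((c ^ k)⁻¹ * a) = 1
        rw [map_mul, map_inv, map_zpow, hk, inv_mul_cancel]
      let φ : C →* X :=
        { toFun := fun a => ⁅y, (a : X)⁆
          map_one' := commutatorElement_one_right y
          map_mul' := fun a b => by
            have hm : ⁅y, (b : X)⁆ ∈ C := by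
              rw [commutatorElement_def]
              exact C.mul_mem ((PGroupsBasic.normal_of_index_eq hP hCi).conj_mem _ b.2 y)
                (C.inv_mem b.2)
            have h1 := PGroupsBasic.comm_of_isMulCommutative hCc hm (C.inv_mem a.2)
            show ⁅y, (a : X) * b⁆ = _
            calc ⁅y, (a : X) * b⁆ = ⁅y, (a : X)⁆ * ((a : X) * (⁅y, (b : X)⁆ * (a : X)⁻¹)) := by
                  simp [commutatorElement_def, mul_assoc]
              _ = ⁅y, (a : X)⁆ * ((a : X) * ((a : X)⁻¹ * ⁅y, (b : X)⁆)) := by rw [h1]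
              _ = _ := by group }
      refine mem_zpowers_iff.mpr ⟨k, ?_⟩
      have hz2 : ⁅y, (c ^ k)⁻¹ * a⁆ = 1 :=
        commutatorElement_eq_one_iff_mul_comm.mpr (mem_center_iff.mp h2 y)
      have h5 : ⁅y, (c ^ k * ((c ^ k)⁻¹ * a))⁆ = ⁅y, c⁆ ^ k := by
        have := φ.map_mul (⟨c, hcC⟩ ^ k) ⟨(c ^ k)⁻¹ * a, C.mul_mem (C.inv_mem (C.zpow_mem hcC k)) ha⟩
        rw [map_zpow] at this
        simpa [φ, hz2] using this
      rw [mul_inv_cancel_left] at h5
      exact h5.symm
    have hyc := hin c hcC
    have h6 : Nat.card (commutator X) ≤ 2 ^ (n - 3) :=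
      (card_le_of_le (fun z hz => hmax z hz)).trans
        (by rw [Nat.card_zpowers]; exact orderOf_le_of_pow_eq_one (pow_pos two_pos _) (hS _ hyc))
    rw [hZ, hCc', show n - 1 = n - 3 + 2 by omega, pow_add] at hcard
    have := Nat.pow_pos (a := 2) (n := n - 3) two_pos
    nlinarith
  · by_cases h : ∀ x : X, x ^ 2 = 1
    · exfalso
      refine hnc fun a b => ?_
      have hinv : ∀ x : X, x⁻¹ = x := fun x => inv_eq_of_mul_eq_one_right (by rw [← sq]; exact h x)
      calc a * b = (a * b)⁻¹ := (hinv _).symm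
        _ = b * a := by rw [mul_inv_rev, hinv, hinv]
    · push Not at h
      obtain ⟨x, hx⟩ := h
      refine ⟨zpowers x, inferInstance, ?_⟩
      obtain ⟨k, hk⟩ := IsPGroup.iff_orderOf.mp hP x
      have hdvd := orderOf_dvd_natCard x
      rw [hk, hX, Nat.pow_dvd_pow_iff_le_right one_lt_two] at hdvd
      have h2 : 2 ≤ k := by
        by_contra h2
        exact hx (orderOf_dvd_iff_pow_eq_one.mp (hk ▸ (pow_dvd_pow 2 (by omega : k ≤ 1)).trans (pow_one 2).dvd))
      have h3 : k ≠ 3 := fun h3 => hnc fun a b => by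
        have : IsCyclic X := isCyclic_of_orderOf_eq_card x (by rw [hk, hX, h3])
        exact (IsCyclic.isMulCommutative (α := X)).is_comm.comm a b
      have h := card_mul_index (zpowers x)
      rw [Nat.card_zpowers, hk, hX, show k = 2 by omega] at h
      omega

theorem structure_of_maxClass {n : ℕ} (hn : 3 ≤ n) (hX : Nat.card X = 2 ^ n)
    (hc : Group.nilpotencyClass X = n - 1) :
    ∃ C : Subgroup X, IsCyclic C ∧ C.index = 2 ∧ Nat.card (commutator X) = 2 ^ (n - 2) ∧
      center X ≤ commutator X ∧ center X ≤ C ∧ ∀ y, y ∉ C → y ^ 2 ∈ center X := by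
  have : Fact (Nat.Prime 2) := ⟨Nat.prime_two⟩
  obtain ⟨C, hC, hCi⟩ := exists_cyclic_index_two n X hX hn hc
  obtain ⟨hZ, -, -, hnc⟩ := center_of_maxClass hn hX hc
  have hP : IsPGroup 2 X := IsPGroup.of_card hX
  have hCc : IsMulCommutative C := IsCyclic.isMulCommutative
  obtain ⟨y, hy⟩ : ∃ y, y ∉ C := by
    by_contra h
    push Not at h
    rw [show C = ⊤ from eq_top_iff.mpr fun x _ => h x, index_top] at hCi
    omega
  obtain ⟨hzC, -, -, hcard⟩ := abelian_index_prime hP C hCc hCi hnc hy
  have hCcard : Nat.card C = 2 ^ (n - 1) := by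
    have h := card_mul_index C
    rw [hCi, hX, show n = n - 1 + 1 by omega, pow_succ] at h
    exact Nat.eq_of_mul_eq_mul_right two_pos h
  rw [hZ, hCcard, show n - 1 = n - 2 + 1 by omega, pow_succ] at hcard
  refine ⟨C, hC, hCi, Nat.eq_of_mul_eq_mul_right two_pos hcard, ?_, hzC, fun w hw => ?_⟩
  · rcases PGroupsBasic.le_or_inf_eq_bot hZ (commutator X) with h | h
    · exact h
    · have hne : commutator X ≠ ⊥ := fun h2 => hnc fun a b => by
        have := commutator_mem_commutator (mem_top a) (mem_top b)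
        rw [← _root_.commutator_def, h2, mem_bot] at this
        exact commutatorElement_eq_one_iff_mul_comm.mp this
      exact absurd (inf_comm (commutator X) (center X) ▸ h) (PGroupsBasic.inf_center_ne_bot hP hne)
  · have hw2 : w ^ 2 ∈ C := hCi ▸ @Subgroup.pow_index_mem _ _ C (PGroupsBasic.normal_of_index_eq hP hCi) w
    have htop : C ⊔ zpowers w = ⊤ := (PGroupsBasic.isCoatom_of_index_eq hCi).2 _
      (lt_of_le_of_ne le_sup_left fun h => hw (h.symm ▸ mem_sup_right (mem_zpowers w)))
    rw [mem_center_iff]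
    intro g
    have h2 : C ⊔ zpowers w ≤ centralizer ({w ^ 2} : Set X) :=
      sup_le (fun b hb => mem_centralizer_singleton_iff.mpr
          (PGroupsBasic.comm_of_isMulCommutative hCc hb hw2))
        (zpowers_le.mpr (mem_centralizer_singleton_iff.mpr (by rw [← pow_succ, ← pow_succ'])))
    exact mem_centralizer_singleton_iff.mp (h2 (htop ▸ mem_top g))

theorem isKleinFour_abelianization {n : ℕ} (hn : 3 ≤ n) (hX : Nat.card X = 2 ^ n)
    (hc : Group.nilpotencyClass X = n - 1) : IsKleinFour (X ⧸ commutator X) := by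
  have : Fact (Nat.Prime 2) := ⟨Nat.prime_two⟩
  obtain ⟨C, hC, hCi, hcard, hzd, -, hsq⟩ := structure_of_maxClass hn hX hc
  have hP : IsPGroup 2 X := IsPGroup.of_card hX
  have hCn : C.Normal := PGroupsBasic.normal_of_index_eq hP hCi
  have hdC : commutator X ≤ C :=
    PGroupsBasic.commutator_le_of_index_le_sq hP (hCi.le.trans (by norm_num))
  have h4 : Nat.card (X ⧸ commutator X) = 4 := by
    have h := card_mul_index (commutator X)
    rw [hcard, hX, show n = n - 2 + 2 by omega, pow_add, show n - 2 + 2 - 2 = n - 2 by omega] at h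
    exact (Nat.eq_of_mul_eq_mul_left (pow_pos two_pos _) h).trans (by norm_num)
  have hrel : ((commutator X).subgroupOf C).index = 2 := by
    have h := card_mul_index ((commutator X).subgroupOf C)
    rw [Nat.card_congr (subgroupOfEquivOfLe hdC).toEquiv, hcard] at h
    have h' := card_mul_index C
    rw [← h, hCi, hX, show n = n - 2 + 2 by omega, pow_add, show n - 2 + 2 - 2 = n - 2 by omega,
      mul_assoc] at h'
    have := Nat.eq_of_mul_eq_mul_left (pow_pos two_pos _) h'
    omega
  have : Nontrivial (X ⧸ commutator X) := Finite.one_lt_card_iff_nontrivial.mp (by omega)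
  refine ⟨h4, (Monoid.exponent_eq_prime_iff (G := X ⧸ commutator X) (p := 2) Nat.prime_two).mpr ?_⟩
  · intro g hg
    refine orderOf_eq_prime ?_ hg
    obtain ⟨x, rfl⟩ := QuotientGroup.mk_surjective g
    rw [← QuotientGroup.mk_pow, QuotientGroup.eq_one_iff]
    by_cases hx : x ∈ C
    · exact hrel ▸ Subgroup.pow_index_mem ((commutator X).subgroupOf C) ⟨x, hx⟩
    · exact hzd (hsq x hx)

/-- Taussky's criterion. -/
theorem class_of_isKleinFour : ∀ (n : ℕ) (X : Type*) [Group X] [Finite X],
    Nat.card X = 2 ^ n → 3 ≤ n → IsKleinFour (X ⧸ commutator X) →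
      Group.nilpotencyClass X = n - 1 := by
  intro n
  induction n using Nat.strong_induction_on with
  | _ n ih =>
  intro X _ _ hX hn hK
  have : Fact (Nat.Prime 2) := ⟨Nat.prime_two⟩
  have hP : IsPGroup 2 X := IsPGroup.of_card hX
  have : Group.IsNilpotent X := hP.isNilpotent
  have hdcard : Nat.card (commutator X) = 2 ^ (n - 2) := by
    have h := card_mul_index (commutator X)
    rw [show (commutator X).index = 4 from IsKleinFour.card_four, hX,
      show n = n - 2 + 2 by omega, pow_add] at h
    exact Nat.eq_of_mul_eq_mul_right (by norm_num) h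
  have hne : commutator X ≠ ⊥ := fun h => by
    rw [h, card_bot] at hdcard
    exact absurd hdcard (Nat.one_lt_pow (by omega) one_lt_two).ne
  have hnc : ¬ ∀ a b : X, a * b = b * a := fun h => hne (by
    rw [_root_.commutator_def, commutator_eq_bot_iff_le_centralizer]
    exact fun a _ => mem_centralizer_iff.mpr fun b _ => h b a)
  have : Nontrivial X := Finite.one_lt_card_iff_nontrivial.mp (hX ▸ Nat.one_lt_pow (by omega) one_lt_two)
  obtain ⟨z, hzm, hz⟩ := PGroupsBasic.exists_orderOf_eq_of_ne_bot
    (hP.to_subgroup _) (PGroupsBasic.inf_center_ne_bot hP hne)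
  set Z₀ := zpowers z with hZ₀
  have hZ₀n : Z₀.Normal := PGroupsBasic.normal_of_le_center (zpowers_le.mpr hzm.2)
  have hQ : Nat.card (X ⧸ Z₀) = 2 ^ (n - 1) := by
    have h := card_mul_index Z₀
    rw [Nat.card_zpowers, hz, hX, show n = n - 1 + 1 by omega, pow_succ'] at h
    exact Nat.eq_of_mul_eq_mul_left two_pos h
  rcases hn.lt_or_eq with h4 | rfl
  · have hd : (commutator X).map (QuotientGroup.mk' Z₀) = commutator (X ⧸ Z₀) := by
      rw [_root_.commutator_def, Subgroup.map_commutator,
        map_top_of_surjective _ (QuotientGroup.mk'_surjective _)]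
      rfl
    have hKQ : IsKleinFour ((X ⧸ Z₀) ⧸ commutator (X ⧸ Z₀)) := by
      have e := (QuotientGroup.quotientQuotientEquivQuotient Z₀ (commutator X)
        (zpowers_le.mpr hzm.1)).symm.trans (QuotientGroup.quotientMulEquivOfEq hd)
      exact ⟨(Nat.card_congr e.toEquiv).symm.trans IsKleinFour.card_four,
        (Monoid.exponent_eq_of_mulEquiv e).symm.trans IsKleinFour.exponent_two⟩
    have hcl := ih (n - 1) (by omega) (X ⧸ Z₀) hQ (by omega) hKQ
    obtain ⟨C₀, hC₀, hC₀i⟩ := exists_cyclic_index_two (n - 1) (X ⧸ Z₀) hQ (by omega) hcl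
    set C := C₀.comap (QuotientGroup.mk' Z₀) with hC
    have hCi : C.index = 2 := by
      rw [hC, index_comap_of_surjective _ (QuotientGroup.mk'_surjective _), hC₀i]
    have hCc : IsMulCommutative C := by
      refine MonoidHom.isMulCommutative_of_isCyclic_of_ker_le_center
        ((QuotientGroup.mk' Z₀).subgroupComap C₀) ?_
      intro x hx
      have h1 : (x : X) ∈ center X :=
        zpowers_le.mpr hzm.2 ((QuotientGroup.eq_one_iff _).mp (congrArg Subtype.val hx))
      exact mem_center_iff.mpr fun g => Subtype.ext (mem_center_iff.mp h1 g)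
    obtain ⟨y, hy⟩ : ∃ y, y ∉ C := by
      by_contra h
      push Not at h
      rw [show C = ⊤ from eq_top_iff.mpr fun x _ => h x, index_top] at hCi
      omega
    obtain ⟨-, -, -, hcard⟩ := abelian_index_prime hP C hCc hCi hnc hy
    have hCcard : Nat.card C = 2 ^ (n - 1) := by
      have h := card_mul_index C
      rw [hCi, hX, show n = n - 1 + 1 by omega, pow_succ] at h
      exact Nat.eq_of_mul_eq_mul_right two_pos h
    rw [hdcard, hCcard, show n - 1 = n - 2 + 1 by omega, pow_succ] at hcard
    have hZ : Z₀ = center X := eq_of_le_of_card_ge (zpowers_le.mpr hzm.2)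
      (by rw [Nat.card_zpowers, hz, Nat.eq_of_mul_eq_mul_left (pow_pos two_pos _) hcard])
    rw [Group.nilpotencyClass_eq_quotient_center_plus_one]
    have hcl' : Group.nilpotencyClass (X ⧸ center X) = Group.nilpotencyClass (X ⧸ Z₀) :=
      le_antisymm
        (Group.nilpotencyClass_le_of_surjective (QuotientGroup.quotientMulEquivOfEq hZ).toMonoidHom
          (QuotientGroup.quotientMulEquivOfEq hZ).surjective)
        (Group.nilpotencyClass_le_of_surjective (QuotientGroup.quotientMulEquivOfEq hZ).symm.toMonoidHom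
          (QuotientGroup.quotientMulEquivOfEq hZ).symm.surjective)
    omega
  · have h1 := nilpotencyClass_le (p := 2) 3 X hX (by norm_num)
    rcases (Nat.eq_or_lt_of_le h1) with h | h
    · exact h
    · exact absurd (fun a b => (Group.IsNilpotent.nilpotencyClass_le_one_iff.mp (by omega)).is_comm.comm a b) hnc

/-- The central quotient of a 2-group of maximal class is dihedral. -/
theorem quotient_center_dihedral {n : ℕ} (hn : 3 ≤ n) (hX : Nat.card X = 2 ^ n)
    (hc : Group.nilpotencyClass X = n - 1) :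
    Nonempty (X ⧸ center X ≃* DihedralGroup (2 ^ (n - 2))) := by
  have : Fact (Nat.Prime 2) := ⟨Nat.prime_two⟩
  obtain ⟨C, hC, hCi, -, -, hzC, hsq⟩ := structure_of_maxClass hn hX hc
  obtain ⟨hZ, hQ, -, -⟩ := center_of_maxClass hn hX hc
  have hP : IsPGroup 2 X := IsPGroup.of_card hX
  obtain ⟨g, hg⟩ := hC.exists_generator
  obtain ⟨y, hy⟩ : ∃ y, y ∉ C := by
    by_contra h
    push Not at h
    rw [show C = ⊤ from eq_top_iff.mpr fun x _ => h x, index_top] at hCi
    omega
  set q := QuotientGroup.mk' (center X) with hq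
  set c := q (g : X) with hcdef
  set t := q y with htdef
  have ht2 : t * t = 1 := by
    rw [← map_mul, ← sq]; exact (QuotientGroup.eq_one_iff _).mpr (hsq y hy)
  have htc : t * c * (t * c) = 1 := by
    rw [← map_mul, ← map_mul, ← sq]
    refine (QuotientGroup.eq_one_iff _).mpr (hsq _ fun h => hy ?_)
    exact (C.mul_mem_cancel_right g.2).mp h
  have hCmap : C.map q = zpowers c := by
    refine le_antisymm ?_ (zpowers_le.mpr ⟨g, g.2, rfl⟩)
    rintro _ ⟨x, hx, rfl⟩
    obtain ⟨k, hk⟩ := mem_zpowers_iff.mp (hg ⟨x, hx⟩)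
    exact mem_zpowers_iff.mpr ⟨k, by rw [hcdef, ← map_zpow]; exact congrArg q (congrArg Subtype.val hk)⟩
  have hord : c ^ (2 ^ (n - 2)) = 1 := by
    have h1 : Nat.card (zpowers c) ∣ 2 ^ (n - 2) := by
      rw [← hCmap]
      have h2 := card_mul_index ((center X).subgroupOf C)
      rw [Nat.card_congr (subgroupOfEquivOfLe hzC).toEquiv, hZ] at h2
      have h3 := card_mul_index C
      rw [← h2, hCi, hX, show n = n - 2 + 1 + 1 by omega, pow_succ, pow_succ'] at h3
      have h4 := Nat.eq_of_mul_eq_mul_left two_pos (Nat.eq_of_mul_eq_mul_right two_pos h3)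
      rw [← relIndex_bot_left, ← Subgroup.map_bot q, relIndex_map_map, hq, QuotientGroup.ker_mk',
        bot_sup_eq, sup_eq_left.mpr hzC]
      exact h4.dvd.trans (pow_dvd_pow 2 (by omega))
    rw [Nat.card_zpowers] at h1
    exact orderOf_dvd_iff_pow_eq_one.mp h1
  have hinv : t * c * t = c⁻¹ := by
    rw [← mul_eq_one_iff_eq_inv]
    simpa [mul_assoc] using htc
  have hconj : ∀ k : ℤ, t * c ^ k * t = c ^ (-k) := by
    intro k
    have ht : t⁻¹ = t := inv_eq_of_mul_eq_one_right ht2
    calc t * c ^ k * t = t * c ^ k * t⁻¹ := by rw [ht]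
      _ = (t * c * t⁻¹) ^ k := (conj_zpow).symm
      _ = c ^ (-k) := by rw [ht, hinv, inv_zpow, zpow_neg]
  let φ : ZMod (2 ^ (n - 2)) →+ Additive (X ⧸ center X) :=
    ZMod.lift _ ⟨zmultiplesHom _ (Additive.ofMul c), by
      simp only [zmultiplesHom_apply, natCast_zsmul]
      exact congrArg Additive.ofMul hord⟩
  let e : ZMod (2 ^ (n - 2)) → X ⧸ center X := fun i => (φ i).toMul
  have hadd : ∀ i j, e (i + j) = e i * e j := fun i j => by simp [e]
  have hneg : ∀ i, e (-i) = (e i)⁻¹ := fun i => by simp [e]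
  have hint : ∀ k : ℤ, e (k : ZMod (2 ^ (n - 2))) = c ^ k := fun k => by
    simp [e, φ, ZMod.lift_coe]
  have hte : ∀ i, t * e i * t = (e i)⁻¹ := by
    intro i
    obtain ⟨k, rfl⟩ := ZMod.intCast_surjective i
    rw [hint, hconj, zpow_neg]
  have hte' : ∀ i, t * e i = e (-i) * t := fun i => by
    rw [hneg, ← hte, mul_assoc _ t t, ht2, mul_one]
  let f : DihedralGroup (2 ^ (n - 2)) →* X ⧸ center X :=
    MonoidHom.mk' (fun
      | .r i => e i
      | .sr i => t * e i) (by
      rintro (i | i) (j | j)
      · rw [DihedralGroup.r_mul_r]; exact hadd i j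
      · rw [DihedralGroup.r_mul_sr]
        show t * e (j - i) = e i * (t * e j)
        rw [sub_eq_neg_add, hadd, ← mul_assoc, hte', neg_neg, mul_assoc]
      · rw [DihedralGroup.sr_mul_r]
        show t * e (i + j) = t * e i * e j
        rw [hadd, mul_assoc]
      · rw [DihedralGroup.sr_mul_sr]
        show e (j - i) = t * e i * (t * e j)
        rw [hte' i, mul_assoc, ← mul_assoc t t, ht2, one_mul, ← hadd, neg_add_eq_sub])
  have hsurj : Function.Surjective f := by
    rw [← MonoidHom.range_eq_top]
    have hcr : zpowers c ≤ f.range :=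
      zpowers_le.mpr ⟨.r 1, show e 1 = c by simpa using hint 1⟩
    have htop : C ⊔ zpowers y = ⊤ := (PGroupsBasic.isCoatom_of_index_eq hCi).2 _
      (lt_of_le_of_ne le_sup_left fun h => hy (h.symm ▸ mem_sup_right (mem_zpowers y)))
    rw [← top_le_iff, ← map_top_of_surjective q (QuotientGroup.mk'_surjective _), ← htop,
      Subgroup.map_sup, MonoidHom.map_zpowers, hCmap]
    exact sup_le hcr (zpowers_le.mpr ⟨.sr 0, show t * e 0 = t by simp [e]⟩)
  have : NeZero (2 ^ (n - 2)) := ⟨(pow_pos two_pos _).ne'⟩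
  refine ⟨(MulEquiv.ofBijective f ((Nat.bijective_iff_surjective_and_card f).mpr ⟨hsurj, ?_⟩)).symm⟩
  rw [DihedralGroup.nat_card, hQ, show n - 1 = n - 2 + 1 by omega, pow_succ']

end Cfsg.Agent.MaxClassTwo
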