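import Mathlib
import Cfsg.Prelude.Def_PLocal
import Cfsg.Agent.Lib.PGroupsBasic
import Cfsg.Agent.Lib.MaxClassTwo

/-! Uniserial actions inside `p`-groups and the lower central series of a group of maximal class. -/

set_option autoImplicit false

namespace Cfsg.Agent.PGroupsUniserial

open Subgroup Cfsg.Agent.PGroupsBasic
open scoped commutatorElement

variable {L : Type*} [Group L] {p : ℕ}

theorem commutator_le_of_le_normalizer {H G : Subgroup L} (h : G ≤ normalizer (H : Set L)) :
    ⁅H, G⁆ ≤ H := by
  rw [commutator_le]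
  intro a ha g hg
  rw [show ⁅a, g⁆ = a * (g * a⁻¹ * g⁻¹) by rw [commutatorElement_def]; group]
  exact mul_mem ha ((mem_normalizer_iff.mp (h hg) _).mp (inv_mem ha))

theorem le_normalizer_commutator (H G : Subgroup L) : G ≤ normalizer ((⁅H, G⁆ : Subgroup L) : Set L) :=
  normalizer_commutator_ge_right H G

theorem le_normalizer_iter (N G : Subgroup L) (hGN : G ≤ normalizer (N : Set L)) :
    ∀ i, G ≤ normalizer ((Cfsg.iterCommutator N G i : Subgroup L) : Set L)
  | 0 => hGN
  | i + 1 => le_normalizer_commutator (Cfsg.iterCommutator N G i) G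

theorem iter_le (N G : Subgroup L) (hGN : G ≤ normalizer (N : Set L)) :
    ∀ i, Cfsg.iterCommutator N G i ≤ N
  | 0 => le_rfl
  | i + 1 => (commutator_le_of_le_normalizer (le_normalizer_iter N G hGN i)).trans
      (iter_le N G hGN i)

theorem map_iter {M : Type*} [Group M] (f : L →* M) (N G : Subgroup L) :
    ∀ i, (Cfsg.iterCommutator N G i).map f = Cfsg.iterCommutator (N.map f) (G.map f) i
  | 0 => rfl
  | i + 1 => by
    rw [Cfsg.iterCommutator, Cfsg.iterCommutator, map_commutator, map_iter f N G i]

variable [Finite L] [hp : Fact p.Prime]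

theorem commutator_lt (hL : IsPGroup p L) {H G : Subgroup L} (h : G ≤ normalizer (H : Set L))
    (hH : H ≠ ⊥) : ⁅H, G⁆ < H := by
  refine lt_of_le_of_ne (commutator_le_of_le_normalizer h) fun he => hH ?_
  haveI := hL.isNilpotent
  rw [eq_bot_iff, ← Subgroup.lowerCentralSeries_nilpotencyClass (G := L)]
  have key : ∀ k, H ≤ (⊤ : Subgroup L).lowerCentralSeries k := by
    intro k
    induction k with
    | zero => exact le_top
    | succ k ih => exact he.symm.le.trans (commutator_mono ih le_top)
  exact key _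

theorem mul_le_card_of_lt (hL : IsPGroup p L) {H K : Subgroup L} (h : H < K) :
    Nat.card H * p ≤ Nat.card K := by
  obtain ⟨a, ha⟩ := IsPGroup.iff_card.mp (hL.to_subgroup H)
  obtain ⟨b, hb⟩ := IsPGroup.iff_card.mp (hL.to_subgroup K)
  rw [ha, hb, ← pow_succ]
  refine Nat.pow_le_pow_right hp.out.pos (Nat.succ_le_of_lt (lt_of_not_ge fun hba => h.ne ?_))
  exact eq_of_le_of_card_ge h.le (by rw [ha, hb]; exact Nat.pow_le_pow_right hp.out.pos hba)

/-- The iterated commutator chain has terms of small order. -/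
theorem card_iter_le (hL : IsPGroup p L) {N G : Subgroup L} (hGN : G ≤ normalizer (N : Set L))
    {n : ℕ} (hn : Nat.card N = p ^ n) :
    ∀ i, Nat.card (Cfsg.iterCommutator N G i) ≤ p ^ (n - i)
  | 0 => hn.le
  | i + 1 => by
    by_cases h : Cfsg.iterCommutator N G i = ⊥
    · rw [show Cfsg.iterCommutator N G (i + 1) = ⊥ by
        rw [Cfsg.iterCommutator, h, commutator_bot_left]]
      simpa using Nat.one_le_pow _ _ hp.out.pos
    · have h1 := mul_le_card_of_lt hL (commutator_lt hL (le_normalizer_iter N G hGN i) h)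
      have h2 := h1.trans (card_iter_le hL hGN hn i)
      rcases Nat.lt_or_ge i n with hi | hi
      · rw [show n - i = n - (i + 1) + 1 by omega, pow_succ] at h2
        exact Nat.le_of_mul_le_mul_right h2 hp.out.pos
      · rw [Nat.sub_eq_zero_of_le hi, pow_zero] at h2
        have h3 : 2 ≤ Nat.card (⁅Cfsg.iterCommutator N G i, G⁆ : Subgroup L) * p :=
          le_mul_of_one_le_of_le Nat.card_pos hp.out.two_le
        omega

theorem iter_eq_bot (hL : IsPGroup p L) {N G : Subgroup L} (hGN : G ≤ normalizer (N : Set L))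
    {n : ℕ} (hn : Nat.card N = p ^ n) : Cfsg.iterCommutator N G n = ⊥ :=
  eq_bot_of_card_le _ ((card_iter_le hL hGN hn n).trans (by simp))

theorem card_iter (hL : IsPGroup p L) {N G : Subgroup L} (hGN : G ≤ normalizer (N : Set L))
    {n : ℕ} (hn : Nat.card N = p ^ n) (hne : Cfsg.iterCommutator N G (n - 1) ≠ ⊥ ∨ n = 0) :
    ∀ i ≤ n, Nat.card (Cfsg.iterCommutator N G i) = p ^ (n - i) := by
  have key : ∀ d i, i + d + 1 = n → p ^ (n - i) ≤ Nat.card (Cfsg.iterCommutator N G i) := by
    intro d
    induction d with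
    | zero =>
      intro i hi
      obtain ⟨a, ha⟩ := IsPGroup.iff_card.mp (hL.to_subgroup (Cfsg.iterCommutator N G i))
      have hne' : Cfsg.iterCommutator N G i ≠ ⊥ := by
        rw [show i = n - 1 by omega]
        exact hne.resolve_right (by omega)
      have ha0 : a ≠ 0 := fun h0 => hne' (eq_bot_of_card_eq _ (by simpa [h0] using ha))
      rw [ha, show n - i = 1 by omega]
      exact Nat.pow_le_pow_right hp.out.pos (by omega)
    | succ d ih =>
      intro i hi
      have h1 := ih (i + 1) (by omega)
      have hne' : Cfsg.iterCommutator N G i ≠ ⊥ := fun h => by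
        rw [Cfsg.iterCommutator, h, commutator_bot_left, card_bot] at h1
        exact absurd h1 (not_le.mpr (Nat.one_lt_pow (by omega) hp.out.one_lt))
      have h2 := mul_le_card_of_lt hL (commutator_lt hL (le_normalizer_iter N G hGN i) hne')
      refine le_trans ?_ h2
      rw [show n - i = n - (i + 1) + 1 by omega, pow_succ]
      exact Nat.mul_le_mul_right _ h1
  intro i hi
  refine le_antisymm (card_iter_le hL hGN hn i) ?_
  rcases Nat.lt_or_ge i n with h | h
  · exact key (n - i - 1) i (by omega)
  · rw [Nat.sub_eq_zero_of_le h, pow_zero]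
    exact Nat.card_pos

/-- The chain terms are contained in every normal subgroup of `L` inside `N` of the right order. -/
theorem iter_le_of_normal (hL : IsPGroup p L) {N G : Subgroup L} [N.Normal]
    {n : ℕ} (hn : Nat.card N = p ^ n) : ∀ i ≤ n, ∀ M : Subgroup L, M.Normal → M ≤ N →
      Nat.card M = p ^ (n - i) → Cfsg.iterCommutator N G i ≤ M := by
  intro i
  induction i with
  | zero => intro _ M _ hMN hM; exact (eq_of_le_of_card_ge hMN (by rw [hM, hn]; rfl)).symm.le
  | succ i ih =>
    intro hi M hMn hMN hM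
    have hpow : p ^ (n - i) = Nat.card M * p := by
      rw [hM, ← pow_succ, show n - (i + 1) + 1 = n - i by omega]
    obtain ⟨M', hM', hMM', hM'N, hcard⟩ := exists_normal_card hL hMN 1 (by
      rw [hM, pow_one, ← pow_succ, hn]
      exact Nat.pow_le_pow_right hp.out.pos (by omega))
    rw [pow_one, ← hpow] at hcard
    haveI : (M'.map (QuotientGroup.mk' M)).Normal :=
      Subgroup.Normal.map hM' _ (QuotientGroup.mk'_surjective M)
    have hq : Nat.card (M'.map (QuotientGroup.mk' M)) = p := by
      have h1 := (card_mul_index ((QuotientGroup.mk' M).comp M'.subtype).ker)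
      rw [index_ker, MonoidHom.range_comp, range_subtype, ← MonoidHom.comap_ker, QuotientGroup.ker_mk',
        show M.comap M'.subtype = M.subgroupOf M' from rfl,
        Nat.card_congr (subgroupOfEquivOfLe hMM').toEquiv, hcard, hpow] at h1
      exact Nat.eq_of_mul_eq_mul_left Nat.card_pos h1
    have hc := le_center_of_card_eq_prime (hL.to_quotient M) hq
    refine (commutator_mono (ih (by omega) M' hM' hM'N hcard) le_top).trans ?_
    rw [commutator_le]
    intro a ha g _
    rw [← QuotientGroup.eq_one_iff, ← QuotientGroup.mk'_apply, map_commutatorElement,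
      commutatorElement_eq_one_iff_commute]
    exact (mem_center_iff.mp (hc (mem_map_of_mem _ ha)) _).symm

theorem iter_normal (hL : IsPGroup p L) {N G : Subgroup L} [N.Normal] {n : ℕ}
    (hn : Nat.card N = p ^ n) (hne : Cfsg.iterCommutator N G (n - 1) ≠ ⊥ ∨ n = 0)
    (i : ℕ) (hi : i ≤ n) : (Cfsg.iterCommutator N G i).Normal := by
  obtain ⟨M, hM, hMN, hMc⟩ := exists_normal_card_pow hL N (n - i)
    (hn ▸ Nat.pow_le_pow_right hp.out.pos (Nat.sub_le n i))
  have h : Cfsg.iterCommutator N G i = M := eq_of_le_of_card_ge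
    (iter_le_of_normal hL hn i hi M hM hMN hMc)
    (by rw [hMc, card_iter hL ((normalizer_eq_top N).symm ▸ le_top) hn hne i hi])
  exact h ▸ hM

/-- In a uniserial chain every invariant subgroup is a term. -/
theorem eq_iter_of_invariant (hL : IsPGroup p L) {N G : Subgroup L} [N.Normal] {n : ℕ}
    (hn : Nat.card N = p ^ n) (hne : Cfsg.iterCommutator N G (n - 1) ≠ ⊥ ∨ n = 0)
    {H : Subgroup L} (hHN : H ≤ N) (hH : G ≤ normalizer (H : Set L)) :
    ∃ i ≤ n, H = Cfsg.iterCommutator N G i := by
  have hGN : G ≤ normalizer (N : Set L) := (normalizer_eq_top N).symm ▸ le_top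
  set T := Cfsg.iterCommutator N G with hT
  have hTn : T n = ⊥ := iter_eq_bot hL hGN hn
  obtain ⟨i, hi, hHi, hmax⟩ : ∃ i ≤ n, H ≤ T i ∧ ∀ j ≤ n, H ≤ T j → j ≤ i := by
    classical
    have hne' : ((Finset.range (n + 1)).filter fun j => H ≤ T j).Nonempty := ⟨0, Finset.mem_filter.mpr ⟨Finset.mem_range.mpr (by omega), hHN⟩⟩
    obtain ⟨i, hi, hmax⟩ := Finset.exists_max_image _ id hne'
    simp only [Finset.mem_filter, Finset.mem_range] at hi hmax
    exact ⟨i, by omega, hi.2, fun j hj hjH => hmax j ⟨by omega, hjH⟩⟩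
  refine ⟨i, hi, le_antisymm hHi ?_⟩
  rcases Nat.eq_or_lt_of_le hi with rfl | hin
  · exact hTn.le.trans bot_le
  have hcard := card_iter hL hGN hn hne
  have hnot : ¬ H ≤ T (i + 1) := fun h => by have := hmax (i + 1) hin h; omega
  have hTle : T (i + 1) ≤ T i := commutator_le_of_le_normalizer (le_normalizer_iter N G hGN i)
  have h0 : T i ≤ H ⊔ T (i + 1) := by
    refine (eq_of_le_of_card_ge (sup_le hHi hTle) ?_).symm.le
    have h1 := mul_le_card_of_lt hL
      (lt_of_le_of_ne (le_sup_right : T (i + 1) ≤ H ⊔ T (i + 1)) fun h => hnot (h ▸ le_sup_left))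
    rwa [hcard _ hin, ← pow_succ, show n - (i + 1) + 1 = n - i by omega, ← hcard i hi] at h1
  have key : ∀ j, i + 1 ≤ j → j ≤ n → T i ≤ H ⊔ T j := by
    intro j hij
    induction j, hij using Nat.le_induction with
    | base => exact fun _ => h0
    | succ j hij ih =>
      intro hj
      have h1 := ih (by omega)
      haveI := iter_normal hL hn hne j (by omega)
      haveI := iter_normal hL hn hne (j + 1) hj
      have h2 : T (i + 1) ≤ H ⊔ T (j + 1) := by
        refine (commutator_mono h1 le_rfl).trans (commutator_le.mpr ?_)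
        intro x hx g hg
        obtain ⟨a, ha, t, ht, rfl⟩ := mem_sup_of_normal_right.mp hx
        rw [show ⁅a * t, g⁆ = a * ⁅t, g⁆ * a⁻¹ * ⁅a, g⁆ by simp only [commutatorElement_def]; group]
        exact mul_mem (mem_sup_right (Normal.conj_mem ‹(T (j + 1)).Normal› _
          (commutator_mem_commutator ht hg) a))
          (mem_sup_left (commutator_le_of_le_normalizer hH (commutator_mem_commutator ha hg)))
      exact h0.trans (sup_le le_sup_left h2)
  have h := key n hin le_rfl
  rwa [hTn, sup_bot_eq] at h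

/-- The uniserial action criterion. -/
theorem uniserial (hL : IsPGroup p L) {N G : Subgroup L} [N.Normal] {n : ℕ}
    (hn : Nat.card N = p ^ n) :
    (∀ H : Subgroup L, H ≤ N → G ≤ normalizer (H : Set L) → H ≠ ⊥ → (⁅H, G⁆).relIndex H = p) ↔
      Cfsg.iterCommutator N G (n - 1) ≠ ⊥ ∨ n = 0 := by
  have hGN : G ≤ normalizer (N : Set L) := (normalizer_eq_top N).symm ▸ le_top
  have hrel : ∀ H : Subgroup L, G ≤ normalizer (H : Set L) →
      Nat.card (⁅H, G⁆ : Subgroup L) * (⁅H, G⁆).relIndex H = Nat.card H := fun H h => by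
    have := relIndex_mul_relIndex ⊥ _ H bot_le (commutator_le_of_le_normalizer h)
    rwa [relIndex_bot_left, relIndex_bot_left] at this
  constructor
  · intro huni
    rcases Nat.eq_zero_or_pos n with hn0 | hn0
    · exact Or.inr hn0
    have key : ∀ i, i < n → Nat.card (Cfsg.iterCommutator N G i) = p ^ (n - i) := by
      intro i
      induction i with
      | zero => exact fun _ => hn
      | succ i ih =>
        intro hi
        have h1 := ih (by omega)
        have hne : Cfsg.iterCommutator N G i ≠ ⊥ := fun h => by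
          rw [h, card_bot] at h1
          exact (Nat.one_lt_pow (by omega) hp.out.one_lt).ne h1
        have h2 := hrel _ (le_normalizer_iter N G hGN i)
        rw [huni _ (iter_le N G hGN i) (le_normalizer_iter N G hGN i) hne, h1,
          show n - i = n - (i + 1) + 1 by omega, pow_succ] at h2
        exact Nat.eq_of_mul_eq_mul_right hp.out.pos h2
    refine Or.inl fun h => ?_
    have h1 := key (n - 1) (by omega)
    rw [h, card_bot, show n - (n - 1) = 1 by omega, pow_one] at h1
    exact hp.out.one_lt.ne h1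
  · intro hne H hHN hH hH0
    obtain ⟨i, hi, rfl⟩ := eq_iter_of_invariant hL hn hne hHN hH
    have hin : i < n := lt_of_le_of_ne hi fun h => hH0 (h ▸ iter_eq_bot hL hGN hn)
    have h2 := hrel _ (le_normalizer_iter N G hGN i)
    rw [show (⁅Cfsg.iterCommutator N G i, G⁆ : Subgroup L) = Cfsg.iterCommutator N G (i + 1) from rfl,
      card_iter hL hGN hn hne i hi, card_iter hL hGN hn hne (i + 1) hin,
      show n - i = n - (i + 1) + 1 by omega, pow_succ] at h2
    exact Nat.eq_of_mul_eq_mul_left (pow_pos hp.out.pos _) h2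

/-- In a group of maximal class the `r`-th term of the lower central series has index `p ^ r`. -/
theorem index_lowerCentralSeries {n : ℕ} (hc : Nat.card L = p ^ n)
    (hcl : Group.nilpotencyClass L = n - 1) {r : ℕ} (hr : 2 ≤ r) (hrn : r ≤ n) :
    ((⊤ : Subgroup L).lowerCentralSeries (r - 1)).index = p ^ r := by
  have hL : IsPGroup p L := IsPGroup.of_card hc
  haveI := hL.isNilpotent
  set γ := (⊤ : Subgroup L).lowerCentralSeries with hγ
  have hsq : p ^ 2 ≤ (γ 1).index := by
    by_contra hlt
    obtain ⟨a, ha⟩ := IsPGroup.iff_card.mp (hL.to_quotient (γ 1))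
    rw [← index_eq_card] at ha
    rw [ha, not_le] at hlt
    have ha1 : a ≤ 1 := Nat.le_of_lt_succ ((Nat.pow_lt_pow_iff_right hp.out.one_lt).mp hlt)
    have hcyc : IsCyclic (L ⧸ γ 1) := by
      obtain rfl | rfl : a = 0 ∨ a = 1 := by omega
      · haveI : Subsingleton (L ⧸ γ 1) := (Nat.card_eq_one_iff_unique.mp ha).1
        infer_instance
      · exact isCyclic_of_prime_card (ha.trans (pow_one p))
    obtain ⟨g, hg⟩ := hcyc.exists_generator
    obtain ⟨x, rfl⟩ := QuotientGroup.mk'_surjective (γ 1) g
    have hle : γ 1 ≤ frattini L := top_lowerCentralSeries_one.le.trans (commutator_le_frattini hL)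
    have htop : zpowers x ⊔ frattini L = ⊤ := by
      rw [eq_top_iff]
      intro y _
      obtain ⟨m, hm⟩ := mem_zpowers_iff.mp (hg (QuotientGroup.mk' _ y))
      rw [← map_zpow, QuotientGroup.mk'_eq_mk'] at hm
      obtain ⟨z, hz, hzy⟩ := hm
      rw [← hzy]
      exact mul_mem (mem_sup_left (zpow_mem (mem_zpowers x) m)) (mem_sup_right (hle hz))
    have hx : zpowers x = ⊤ := frattini_nongenerating htop
    have hcomm : ∀ a b : L, a * b = b * a := fun a b => by
      obtain ⟨s, rfl⟩ := mem_zpowers_iff.mp (hx ▸ mem_top a)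
      obtain ⟨t, rfl⟩ := mem_zpowers_iff.mp (hx ▸ mem_top b)
      exact ((Commute.refl x).zpow_zpow s t).eq
    have := Cfsg.Agent.MaxClassTwo.nilpotencyClass_le_one_of_comm (X := L) hcomm
    have hbot : γ 1 = ⊥ := Subgroup.lowerCentralSeries_eq_bot_iff_nilpotencyClass_le.mpr this
    rw [hbot, index_bot, hc] at ha
    have := Nat.pow_right_injective hp.out.two_le ha
    omega
  have hstep : ∀ i, i + 1 ≤ n - 1 → (γ i).index * p ≤ (γ (i + 1)).index := by
    intro i hi
    have hne : γ i ≠ ⊥ := fun h => by
      have := Subgroup.lowerCentralSeries_eq_bot_iff_nilpotencyClass_le.mp h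
      omega
    have hlt : γ (i + 1) < γ i :=
      commutator_lt hL ((normalizer_eq_top (γ i)).symm ▸ le_top) hne
    have h1 := mul_le_card_of_lt hL hlt
    have h2 := card_mul_index (γ i)
    have h3 := card_mul_index (γ (i + 1))
    refine Nat.le_of_mul_le_mul_left ?_ (Nat.card_pos (α := γ (i + 1)))
    rw [h3, ← h2, ← mul_assoc, mul_comm (Nat.card (γ i)), mul_right_comm]
    calc Nat.card (γ (i + 1)) * p * (γ i).index ≤ Nat.card (γ i) * (γ i).index :=
          Nat.mul_le_mul_right _ h1
      _ = (γ i).index * Nat.card (γ i) := mul_comm _ _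
  have hlow : ∀ i, 1 ≤ i → i ≤ n - 1 → p ^ (i + 1) ≤ (γ i).index := by
    intro i hi
    induction i, hi using Nat.le_induction with
    | base => exact fun _ => hsq
    | succ i hi ih =>
      intro hin
      rw [pow_succ]
      exact (Nat.mul_le_mul_right p (ih (by omega))).trans (hstep i hin)
  have hup : ∀ d i, i + d = n - 1 → (γ i).index * p ^ d ≤ p ^ n := by
    intro d
    induction d with
    | zero =>
      intro i _
      rw [pow_zero, mul_one, ← hc, ← card_mul_index (γ i)]
      exact Nat.le_mul_of_pos_left _ Nat.card_pos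
    | succ d ih =>
      intro i hi
      rw [pow_succ', ← mul_assoc]
      exact (Nat.mul_le_mul_right _ (hstep i (by omega))).trans (ih (i + 1) (by omega))
  refine le_antisymm ?_ (le_of_eq_of_le (by rw [show r - 1 + 1 = r by omega]) (hlow _ (by omega) (by omega)))
  have := hup (n - r) (r - 1) (by omega)
  refine Nat.le_of_mul_le_mul_right ?_ (pow_pos hp.out.pos (n - r))
  rw [← pow_add, show r + (n - r) = n by omega]
  exact this

theorem eq_lowerCentralSeries_of_index {n : ℕ} (hc : Nat.card L = p ^ n)
    (hcl : Group.nilpotencyClass L = n - 1) (N : Subgroup L) [N.Normal] {r : ℕ} (hr : 2 ≤ r)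
    (hN : N.index = p ^ r) : N = (⊤ : Subgroup L).lowerCentralSeries (r - 1) := by
  have hL : IsPGroup p L := IsPGroup.of_card hc
  haveI := hL.isNilpotent
  have hrn : r ≤ n := (Nat.pow_le_pow_iff_right hp.out.one_lt).mp
    (hN ▸ hc ▸ Nat.le_of_dvd Nat.card_pos (index_dvd_card N))
  haveI := (hL.to_quotient N).isNilpotent
  have hq : Nat.card (L ⧸ N) = p ^ r := by rw [← index_eq_card, hN]
  have hbot := Subgroup.lowerCentralSeries_eq_bot_iff_nilpotencyClass_le.mpr
    (Cfsg.Agent.MaxClassTwo.nilpotencyClass_le r (L ⧸ N) hq hr)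
  rw [← map_top_of_surjective _ (QuotientGroup.mk'_surjective N), ← map_lowerCentralSeries,
    Subgroup.map_eq_bot_iff, QuotientGroup.ker_mk'] at hbot
  refine (eq_of_le_of_card_ge hbot ?_).symm
  have h1 := card_mul_index N
  rw [← card_mul_index ((⊤ : Subgroup L).lowerCentralSeries (r - 1)),
    index_lowerCentralSeries hc hcl hr hrn, hN] at h1
  exact (Nat.eq_of_mul_eq_mul_right (pow_pos hp.out.pos r) h1).le

end Cfsg.Agent.PGroupsUniserial
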