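import Cfsg.Prelude.Def_Local
import Cfsg.Agent.Lib.PLengthOne
import Cfsg.Agent.Lib.PLengthSteps
import Cfsg.Agent.Lib.HallCore

/-!
# Lifting `p`-length one
-/

set_option autoImplicit false

namespace Cfsg.Agent.BGPLength

variable {G : Type*} [Group G] [Finite G] {G' : Type*} [Group G'] [Finite G'] {p : ℕ}
  [Fact p.Prime]

/-- `p`-length one lifts through a kernel of order prime to `p`. -/
theorem of_surjective (φ : G →* G') (hφ : Function.Surjective φ)
    (hker : (Nat.card φ.ker).Coprime p) (h : Cfsg.PLengthLE p 1 G') : Cfsg.PLengthLE p 1 G := by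
  have hn' := HallCore.pPrimeCore_normal p G'
  have hpn' := HallCore.pPrimePCore_normal p G'
  set O' := (Cfsg.pPrimeCore p G').comap φ with hO'
  have hO'n : O'.Normal := hn'.comap φ
  have hO'c : (Nat.card O').Coprime p := by
    have hk : (φ.subgroupComap (Cfsg.pPrimeCore p G')).ker = φ.ker.subgroupOf O' := by
      ext x
      rw [MonoidHom.mem_ker, Subgroup.mem_subgroupOf, MonoidHom.mem_ker, Subtype.ext_iff]
      rfl
    have h2 := (φ.subgroupComap (Cfsg.pPrimeCore p G')).ker.index_mul_card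
    rw [Subgroup.index_ker, MonoidHom.range_eq_top.2 (MonoidHom.subgroupComap_surjective_of_surjective
      φ _ hφ), Subgroup.card_top, hk,
      Nat.card_congr (Subgroup.subgroupOfEquivOfLe (show φ.ker ≤ O' from Subgroup.ker_le_comap φ _)).toEquiv] at h2
    rw [← h2]
    exact Nat.Coprime.mul_left (HallCore.coprime_card_pPrimeCore p G') hker
  have hO'le : O' ≤ Cfsg.pPrimeCore p G := HallCore.le_pPrimeCore hO'c
  set J := (Cfsg.pPrimePCore p G').comap φ
  have hJn : J.Normal := hpn'.comap φ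
  have hJ : J ≤ Cfsg.pPrimePCore p G := by
    have hn := HallCore.pPrimeCore_normal p G
    have : (J.map (QuotientGroup.mk' (Cfsg.pPrimeCore p G))).Normal :=
      hJn.map _ (QuotientGroup.mk'_surjective _)
    refine Subgroup.map_le_iff_le_comap.1 (HallCore.le_pCore (p := p) ?_)
    rintro ⟨_, z, hz, rfl⟩
    obtain ⟨k, hk⟩ := HallCore.isPGroup_pCore p (G' ⧸ Cfsg.pPrimeCore p G')
      ⟨QuotientGroup.mk' _ (φ z), hz⟩
    refine ⟨k, Subtype.ext ?_⟩
    have h1 : φ (z ^ p ^ k) ∈ Cfsg.pPrimeCore p G' := by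
      rw [map_pow, ← QuotientGroup.eq_one_iff]
      exact congrArg Subtype.val hk
    show (QuotientGroup.mk' (Cfsg.pPrimeCore p G) z) ^ p ^ k = 1
    rw [← map_pow]
    exact (QuotientGroup.eq_one_iff _).2 (hO'le h1)
  refine PLengthSteps.pLengthLE_one ((PLengthOne.index_coprime h).coprime_dvd_left ?_)
  rw [← Subgroup.index_comap_of_surjective _ hφ]
  exact Subgroup.index_dvd_of_le hJ

theorem of_equiv (e : G ≃* G') (h : Cfsg.PLengthLE p 1 G') : Cfsg.PLengthLE p 1 G :=
  of_surjective e.toMonoidHom e.surjective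
    (by rw [(MonoidHom.ker_eq_bot_iff _).2 e.injective, Subgroup.card_bot]; exact Nat.coprime_one_left p) h

/-- With trivial `O_{p'}` all `p`-subgroups of a group of `p`-length one lie in `O_p`. -/
theorem le_pCore_of_pPrimeCore_eq_bot (h : Cfsg.PLengthLE p 1 G)
    (h1 : Cfsg.pPrimeCore p G = ⊥) {S : Subgroup G} (hS : IsPGroup p S) : S ≤ Cfsg.pCore p G := by
  refine (PLengthOne.le_pPrimePCore h hS).trans ?_
  have hn := HallCore.pPrimePCore_normal p G
  refine HallCore.le_pCore (p := p) ?_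
  rintro ⟨z, hz⟩
  obtain ⟨k, hk⟩ := HallCore.isPGroup_pCore p (G ⧸ Cfsg.pPrimeCore p G) ⟨QuotientGroup.mk' _ z, hz⟩
  refine ⟨k, Subtype.ext ?_⟩
  have h2 : z ^ p ^ k ∈ Cfsg.pPrimeCore p G := by
    rw [← QuotientGroup.eq_one_iff]
    exact congrArg Subtype.val hk
  rw [h1, Subgroup.mem_bot] at h2
  exact h2

/-- If `O_p` holds every `p`-subgroup the `p`-length is at most one. -/
theorem of_le_pCore (h : ∀ S : Subgroup G, IsPGroup p S → S ≤ Cfsg.pCore p G) :
    Cfsg.PLengthLE p 1 G := by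
  obtain ⟨S⟩ : Nonempty (Sylow p G) := inferInstance
  refine PLengthSteps.pLengthLE_one (((Nat.Prime.coprime_iff_not_dvd Fact.out).2 ?_).symm)
  intro hd
  exact S.not_dvd_index (hd.trans (Subgroup.index_dvd_of_le
    ((h _ S.2).trans (HallCore.pCore_le_pPrimePCore p G))))

end Cfsg.Agent.BGPLength
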