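import Mathlib
import Cfsg.Agent.Lib.CoprimeGen

/-!
Further coprime action facts: hyperplane generation, Sylow subgroups of fixed points,
containment in complements, elementary facts on `[K,A]`.
-/

namespace Cfsg.Agent.CoprimeExtra

open scoped Pointwise commutatorElement
open Cfsg.Agent.CoprimeSZ Cfsg.Agent.CoprimeAction Cfsg.Agent.CoprimeGen

variable {G : Type*} [Group G] [Finite G]

/-- One step down: if `A/B` is not cyclic, `C_K(B)` is generated by the `C_K(⟨B,a⟩)`. -/
theorem centralizer_inf_le_of_not_isCyclic {A B K H : Subgroup G} [IsMulCommutative A]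
    (hBA : B ≤ A) (hnc : ¬ IsCyclic (A ⧸ B.subgroupOf A))
    (hAK : A ≤ Subgroup.normalizer (K : Set G)) (hcop : (Nat.card A).Coprime (Nat.card K))
    (hfix : ∀ a ∈ A, a ∉ B → K ⊓ Subgroup.centralizer (B : Set G) ⊓ Subgroup.centralizer {a} ≤ H) :
    K ⊓ Subgroup.centralizer (B : Set G) ≤ H := by
  set K' := K ⊓ Subgroup.centralizer (B : Set G) with hK'
  set L := Subgroup.centralizer (B : Set G) with hL
  have hcommA : ∀ x ∈ A, ∀ y ∈ A, x * y = y * x := fun x hx y hy =>
    congrArg Subtype.val (mul_comm' (⟨x, hx⟩ : A) ⟨y, hy⟩)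
  have hAL : A ≤ L := fun a ha =>
    Subgroup.mem_centralizer_iff.2 fun b hb => hcommA b (hBA hb) a ha
  have hBL : B ≤ L := hBA.trans hAL
  have hBn : (B.subgroupOf L).Normal := by
    refine Subgroup.normal_subgroupOf_of_le_normalizer ?_
    exact Subgroup.centralizer_le_normalizer _
  set π := QuotientGroup.mk' (B.subgroupOf L)
  set A₁ := A.subgroupOf L with hA₁
  set K₁ := K'.subgroupOf L with hK₁
  have hA₁c : Nat.card A₁ = Nat.card A :=
    Nat.card_congr (Subgroup.subgroupOfEquivOfLe hAL).toEquiv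
  have hK₁c : Nat.card K₁ = Nat.card K' :=
    Nat.card_congr (Subgroup.subgroupOfEquivOfLe inf_le_right).toEquiv
  have hcop₁ : (Nat.card A₁).Coprime (Nat.card K₁) := by
    rw [hA₁c, hK₁c]; exact coprime_of_le_right inf_le_left hcop
  have hnorm : A ≤ Subgroup.normalizer (K' : Set G) :=
    le_normalizer_inf hAK (hAL.trans Subgroup.le_normalizer)
  have hAK₁ : A₁ ≤ Subgroup.normalizer (K₁ : Set L) :=
    le_normalizer_of_conj_mem fun a ha k hk => conj_mem (K := K') (a := (a : G)) (k := (k : G)) (hnorm ha) hk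
  have hA₁comm : IsMulCommutative A₁ :=
    ⟨⟨fun x y => Subtype.ext (Subtype.ext (hcommA _ x.2 _ y.2))⟩⟩
  set Ā := A₁.map π
  have hĀ : IsMulCommutative Ā := by
    refine ⟨⟨?_⟩⟩
    rintro ⟨_, x, hx, rfl⟩ ⟨_, y, hy, rfl⟩
    apply Subtype.ext
    change π x * π y = π y * π x
    rw [← map_mul, ← map_mul]
    exact congrArg π (Subtype.ext (hcommA _ hx _ hy))
  have hnc' : ¬ IsCyclic Ā := by
    intro hc
    apply hnc
    let f : A →* Ā := (π.subgroupMap A₁).comp (Subgroup.subgroupOfEquivOfLe hAL).symm.toMonoidHom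
    have hf : Function.Surjective f :=
      (π.subgroupMap_surjective A₁).comp (Subgroup.subgroupOfEquivOfLe hAL).symm.surjective
    have hker : f.ker = B.subgroupOf A := by
      ext a
      constructor
      · intro ha
        exact (QuotientGroup.eq_one_iff ((Subgroup.subgroupOfEquivOfLe hAL).symm a : L)).1
          (congrArg Subtype.val ha)
      · intro ha
        exact Subtype.ext ((QuotientGroup.eq_one_iff _).2 ha)
    let e := (QuotientGroup.quotientMulEquivOfEq hker).symm.trans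
      (QuotientGroup.quotientKerEquivOfSurjective f hf)
    exact isCyclic_of_surjective e.symm.toMonoidHom e.symm.surjective
  set H₁ := (H ⊓ K').subgroupOf L with hH₁
  have key : K₁.map π ≤ H₁.map π := by
    refine le_of_centralizers (A := Ā) hnc' ?_ ?_ ?_
    · exact le_trans (Subgroup.map_mono hAK₁) (Subgroup.le_normalizer_map π)
    · exact (hcop₁.coprime_dvd_left (Subgroup.card_map_dvd _ _)).coprime_dvd_right
        (Subgroup.card_map_dvd _ _)
    · rintro _ ⟨a, ha, rfl⟩ ha1
      have haB : (a : G) ∉ B := fun h => ha1 ((QuotientGroup.eq_one_iff a).2 h)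
      have hz : Subgroup.zpowers a ≤ A₁ := Subgroup.zpowers_le.2 ha
      have h1 := map_inf_centralizer_eq π (A := Subgroup.zpowers a) (K := K₁)
        (hz.trans hAK₁) (coprime_of_le_left hz hcop₁) (Or.inl (isSolvable_zpowers a))
      rw [MonoidHom.map_zpowers] at h1
      refine le_trans ?_ (le_trans h1.ge (Subgroup.map_mono ?_))
      · refine inf_le_inf_left _ ?_
        rw [← Subgroup.centralizer_closure, ← Subgroup.zpowers_eq_closure]
      · intro x hx
        have hxK : (x : G) ∈ K' := hx.1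
        refine ⟨hfix a ha haB ⟨hxK, ?_⟩, hxK⟩
        exact Subgroup.mem_centralizer_singleton_iff.2
          (congrArg Subtype.val
            (Subgroup.mem_centralizer_iff.1 hx.2 a (Subgroup.mem_zpowers a))).symm
  intro x hx
  obtain ⟨y, hy, hyx⟩ := key (Subgroup.mem_map_of_mem π
    (show (⟨x, hx.2⟩ : L) ∈ K₁ from hx))
  have h2 : y⁻¹ * ⟨x, hx.2⟩ ∈ B.subgroupOf L := QuotientGroup.eq.1 hyx
  have h3 : ((y : G))⁻¹ * x ∈ B ⊓ K' := ⟨h2, K'.mul_mem (K'.inv_mem hy.2) hx⟩
  rw [Subgroup.inf_eq_bot_of_coprime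
    ((hcop.coprime_dvd_left (Subgroup.card_dvd_of_le hBA)).coprime_dvd_right
      (Subgroup.card_dvd_of_le inf_le_left)), Subgroup.mem_bot, inv_mul_eq_one] at h3
  exact h3 ▸ hy.1

/-- **Generation by hyperplane centralisers**: `K = ⟨C_K(B) : B ≤ A, A/B cyclic⟩`. -/
theorem le_of_cyclic_quotient_centralizers {A K H : Subgroup G} [IsMulCommutative A]
    (hAK : A ≤ Subgroup.normalizer (K : Set G)) (hcop : (Nat.card A).Coprime (Nat.card K))
    (hfix : ∀ B : Subgroup G, B ≤ A → IsCyclic (A ⧸ B.subgroupOf A) →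
      K ⊓ Subgroup.centralizer (B : Set G) ≤ H) : K ≤ H := by
  suffices ∀ n, ∀ B : Subgroup G, B ≤ A → Nat.card A ≤ Nat.card B + n →
      K ⊓ Subgroup.centralizer (B : Set G) ≤ H by
    have := this (Nat.card A) ⊥ bot_le (by omega)
    refine le_trans (le_inf le_rfl ?_) this
    intro x _
    rw [Subgroup.mem_centralizer_iff]
    intro y hy
    rw [SetLike.mem_coe, Subgroup.mem_bot] at hy
    simp [hy]
  intro n
  induction n with
  | zero =>
    intro B hB hcard
    obtain rfl := Subgroup.eq_of_le_of_card_ge hB (by omega)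
    refine hfix B le_rfl ?_
    have : Subsingleton (B ⧸ B.subgroupOf B) := by
      rw [Subgroup.subgroupOf_self]
      exact QuotientGroup.subsingleton_quotient_top
    infer_instance
  | succ n ih =>
    intro B hB hcard
    by_cases hc : IsCyclic (A ⧸ B.subgroupOf A)
    · exact hfix B hB hc
    refine centralizer_inf_le_of_not_isCyclic hB hc hAK hcop fun a ha haB => ?_
    set B' := B ⊔ Subgroup.zpowers a with hB'
    have hBB' : B ≤ B' := le_sup_left
    have hne : B ≠ B' := fun h =>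
      haB (h ▸ Subgroup.mem_sup_right (Subgroup.mem_zpowers a))
    have hlt : Nat.card B < Nat.card B' := by
      refine lt_of_le_of_ne (Subgroup.card_le_of_le hBB') fun h => hne ?_
      exact Subgroup.eq_of_le_of_card_ge hBB' h.ge
    refine le_trans ?_ (ih B' (sup_le hB (Subgroup.zpowers_le.2 ha)) (by omega))
    rw [inf_assoc]
    refine inf_le_inf_left _ fun x hx => ?_
    rw [Subgroup.mem_centralizer_iff]
    intro y hy
    have hy' : B' ≤ Subgroup.centralizer ({x} : Set G) := by
      refine sup_le (fun z hz => ?_) ?_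
      · exact Subgroup.mem_centralizer_singleton_iff.2
          (Subgroup.mem_centralizer_iff.1 hx.1 z hz)
      · rw [Subgroup.zpowers_le, Subgroup.mem_centralizer_singleton_iff]
        exact (Subgroup.mem_centralizer_singleton_iff.1 hx.2).symm
    exact Subgroup.mem_centralizer_singleton_iff.1 (hy' hy)

/-- A subgroup of order coprime to `|N|` inside `N ⊔ H` lies in a conjugate of `H`. -/
theorem exists_le_conj_of_le_sup {N H U : Subgroup G}
    (hHN : H ≤ Subgroup.normalizer (N : Set G)) (hU : U ≤ N ⊔ H)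
    (hcop : (Nat.card H).Coprime (Nat.card N)) (hcopU : (Nat.card U).Coprime (Nat.card N))
    (hsolv : Group.IsSolvable H ∨ Group.IsSolvable N) :
    ∃ n ∈ N, U ≤ MulAut.conj n • H := by
  have hmul : ((N ⊔ H : Subgroup G) : Set G) = (N : Set G) * H :=
    Subgroup.coe_mul_of_right_le_normalizer_left N H hHN
  set V := N ⊔ U with hV
  have hUN : U ≤ Subgroup.normalizer (N : Set G) :=
    hU.trans (sup_le Subgroup.le_normalizer hHN)
  have hsplit : ∀ {v : G}, v ∈ V → ∃ n ∈ N, ∃ h ∈ H ⊓ V, v = n * h := by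
    intro v hv
    have h1 : v ∈ ((N ⊔ H : Subgroup G) : Set G) := sup_le le_sup_left hU hv
    rw [hmul] at h1
    obtain ⟨n, hn, h, hh, rfl⟩ := h1
    refine ⟨n, hn, h, ⟨hh, ?_⟩, rfl⟩
    have := V.mul_mem (V.inv_mem (Subgroup.mem_sup_left hn)) hv
    simpa [inv_mul_cancel_left] using this
  have hVeq : V = N ⊔ (H ⊓ V) := by
    refine le_antisymm (fun v hv => ?_) (sup_le le_sup_left inf_le_right)
    obtain ⟨n, hn, h, hh, rfl⟩ := hsplit hv
    exact mul_mem (Subgroup.mem_sup_left hn) (Subgroup.mem_sup_right hh)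
  have hHV : (Nat.card (H ⊓ V : Subgroup G)).Coprime (Nat.card N) :=
    coprime_of_le_left inf_le_left hcop
  have hcard : ∀ {X : Subgroup G}, X ≤ Subgroup.normalizer (N : Set G) →
      (Nat.card X).Coprime (Nat.card N) →
      Nat.card (N ⊔ X : Subgroup G) = Nat.card N * Nat.card X := by
    intro X hX hX'
    have hbot : N ⊓ X = ⊥ := Subgroup.inf_eq_bot_of_coprime hX'.symm
    rw [← Nat.card_prod]
    refine (Nat.card_congr (Equiv.ofBijective
      (fun z : N × X => (⟨z.1 * z.2, mul_mem (Subgroup.mem_sup_left z.1.2)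
        (Subgroup.mem_sup_right z.2.2)⟩ : (N ⊔ X : Subgroup G))) ⟨?_, ?_⟩)).symm
    · rintro ⟨a, b⟩ ⟨a', b'⟩ h
      have h1 : (a : G) * b = a' * b' := congrArg Subtype.val h
      have h2 : (a' : G)⁻¹ * a = b' * (b : G)⁻¹ := by
        rw [eq_mul_inv_iff_mul_eq, mul_assoc, h1, inv_mul_cancel_left]
      have h3 : (a' : G)⁻¹ * a ∈ N ⊓ X :=
        ⟨N.mul_mem (N.inv_mem a'.2) a.2, h2 ▸ X.mul_mem b'.2 (X.inv_mem b.2)⟩
      rw [hbot, Subgroup.mem_bot] at h3
      have ha : a = a' := Subtype.ext (inv_mul_eq_one.1 h3).symm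
      subst ha
      exact Prod.ext rfl (Subtype.ext (mul_left_cancel h1))
    · rintro ⟨v, hv⟩
      have h1 : v ∈ ((N ⊔ X : Subgroup G) : Set G) := hv
      rw [Subgroup.coe_mul_of_right_le_normalizer_left N X hX] at h1
      obtain ⟨n, hn, x, hx, rfl⟩ := h1
      exact ⟨⟨⟨n, hn⟩, ⟨x, hx⟩⟩, rfl⟩
  have hc : Nat.card U = Nat.card (H ⊓ V : Subgroup G) := by
    refine Nat.eq_of_mul_eq_mul_left (Nat.card_pos (α := N)) ?_
    rw [← hcard hUN hcopU, ← hcard (le_trans inf_le_left hHN) hHV, ← hVeq]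
  have hUle : U ≤ N ⊔ (H ⊓ V) := hVeq ▸ le_sup_right
  obtain ⟨n, hn, h⟩ := exists_conj_of_card_eq (le_trans inf_le_left hHN) hHV
    (hsolv.imp (fun h => @isSolvable_of_le _ _ _ _ inf_le_left h) id) hUle hc
  exact ⟨n, hn, h ▸ Subgroup.pointwise_smul_le_pointwise_smul_iff.2 inf_le_left⟩

variable {A K : Subgroup G}

/-- `C_P(A)` is a Sylow subgroup of `C_K(A)` for an invariant Sylow `P`. -/
theorem card_sylow_inf_centralizer {p : ℕ} [hp : Fact p.Prime]
    (hAK : A ≤ Subgroup.normalizer (K : Set G)) (hcop : (Nat.card A).Coprime (Nat.card K))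
    (hsolv : Group.IsSolvable A ∨ Group.IsSolvable K) (P : Sylow p K)
    (hP : A ≤ Subgroup.normalizer ((P : Subgroup K).map K.subtype : Set G)) :
    Nat.card ((P : Subgroup K).map K.subtype ⊓ Subgroup.centralizer (A : Set G) : Subgroup G) =
      p ^ (Nat.card (K ⊓ Subgroup.centralizer (A : Set G) : Subgroup G)).factorization p := by
  set C := Subgroup.centralizer (A : Set G) with hC
  set P' := (P : Subgroup K).map K.subtype
  obtain ⟨R⟩ := (inferInstance : Nonempty (Sylow p (K ⊓ C : Subgroup G)))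
  set R' := (R : Subgroup (K ⊓ C : Subgroup G)).map (K ⊓ C).subtype with hR'
  have hR'le : R' ≤ K ⊓ C := Subgroup.map_subtype_le _
  have hR'A : A ≤ Subgroup.normalizer (R' : Set G) := by
    refine le_normalizer_of_conj_mem fun a ha r hr => ?_
    rw [mem_centralizer_iff_conj.1 (hR'le hr).2 a ha]
    exact hr
  obtain ⟨Q, hRQ, hQ⟩ := exists_invariant_sylow_ge hAK hcop hsolv (hR'le.trans inf_le_left)
    (R.2.map _) hR'A
  obtain ⟨c, hc, hcQ⟩ := invariant_sylow_conj hAK hcop hsolv Q P hQ hP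
  have h1 : MulAut.conj (c : G) • R' ≤ P' ⊓ C := by
    refine le_inf ?_ (conj_smul_le_of_mem (hR'le.trans inf_le_right) hc)
    refine (Subgroup.pointwise_smul_le_pointwise_smul_iff.2 hRQ).trans (le_of_eq ?_)
    change MulAut.conj (K.subtype c) • (Q : Subgroup K).map K.subtype = _
    rw [← map_conj_smul]
    exact congrArg (fun X : Sylow p K => (X : Subgroup K).map K.subtype) hcQ
  have h2 := Subgroup.card_dvd_of_le h1
  rw [card_conj_smul, hR', card_map_sylow] at h2
  have hle : P' ⊓ C ≤ K ⊓ C := inf_le_inf_right _ (Subgroup.map_subtype_le _)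
  obtain ⟨m, hm⟩ := IsPGroup.iff_card.1 ((P.2.map K.subtype).to_le (inf_le_left : P' ⊓ C ≤ P'))
  have h3 := Subgroup.card_dvd_of_le hle
  rw [hm] at h2 h3 ⊢
  congr 1
  exact le_antisymm ((Nat.Prime.pow_dvd_iff_le_factorization hp.out Nat.card_pos.ne').1 h3)
    ((Nat.pow_dvd_pow_iff_le_right hp.out.one_lt).1 h2)

omit [Finite G] in
/-- `[K,A]` is normal in `K` and `A`-invariant. -/
theorem le_normalizer_commutator : K ⊔ A ≤ Subgroup.normalizer ((⁅K, A⁆ : Subgroup G) : Set G) :=
  sup_le (Subgroup.normalizer_commutator_ge_left K A) (Subgroup.normalizer_commutator_ge_right K A)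

omit [Finite G] in
/-- `[K,A] = 1` iff `A` centralises `K`. -/
theorem commutator_eq_bot_iff : ⁅K, A⁆ = ⊥ ↔ A ≤ Subgroup.centralizer (K : Set G) := by
  rw [Subgroup.commutator_comm]
  exact Subgroup.commutator_eq_bot_iff_le_centralizer

end Cfsg.Agent.CoprimeExtra
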