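import Mathlib

/-!
# Linear algebra behind the Hall-Higman degree bound

* a commutant bound: an endomorphism killed by a product of `j` linear factors commutes with a
  space of endomorphisms of dimension at least `(dim W)^2 / j`;
* Burnside's theorem on the span of an irreducible set of endomorphisms;
* the counting argument: if `X` permutes the lines of a twisted group algebra basis of `End W`
  semiregularly and `1 + X + ... + X^(m-1) = 0`, then `dim W < m`.
-/

set_option autoImplicit false

namespace Cfsg.Agent.HallHigman

open Module Polynomial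
open scoped Function

variable {K W : Type*} [Field K] [AddCommGroup W] [Module K W]

/-- The endomorphisms commuting with `n`. -/
def comm (n : Module.End K W) : Submodule K (Module.End K W) where
  carrier := {f | f * n = n * f}
  zero_mem' := by simp
  add_mem' := fun {a b} ha hb => by
    simp only [Set.mem_ofPred_eq] at ha hb ⊢
    rw [add_mul, mul_add, ha, hb]
  smul_mem' := fun c {a} ha => by
    simp only [Set.mem_ofPred_eq] at ha ⊢
    rw [smul_mul_assoc, mul_smul_comm, ha]

theorem mem_comm {n f : Module.End K W} : f ∈ comm n ↔ f * n = n * f := Iff.rfl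

/-- If `n` is killed by `j` linear factors then its commutant has dimension at least
`(dim W)^2 / j`. -/
theorem sq_finrank_le_comm (L : List K) :
    ∀ {W : Type*} [AddCommGroup W] [Module K W] [FiniteDimensional K W] (n : Module.End K W),
      (L.map fun c => n - c • 1).prod = 0 →
        finrank K W ^ 2 ≤ L.length * finrank K (comm n) := by
  induction L with
  | nil =>
    intro W _ _ _ n h
    simp only [List.map_nil, List.prod_nil] at h
    have : Subsingleton W := ⟨fun a b => by
      rw [← Module.End.one_apply (R := K) a, ← Module.End.one_apply (R := K) b, h]; rfl⟩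
    simp [Module.finrank_zero_of_subsingleton]
  | cons c L ih =>
    intro W _ _ _ n h
    rw [List.map_cons, List.prod_cons] at h
    set g : Module.End K W := n - c • 1 with hg
    set T : Submodule K W := LinearMap.range g
    have hgn : Commute g n := by
      refine Commute.sub_left (Commute.refl n) ?_
      exact (Commute.one_left n).smul_left c
    have hmaps : ∀ w ∈ T, n w ∈ T := by
      rintro _ ⟨v, rfl⟩
      exact ⟨n v, LinearMap.congr_fun hgn.eq v⟩
    set n₁ : Module.End K T := n.restrict hmaps
    have hres : ∀ (L' : List K) (w : T),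
        ((((L'.map fun d => n₁ - d • 1).prod) w : T) : W) =
          (L'.map fun d => n - d • 1).prod (w : W) := by
      intro L'
      induction L' with
      | nil => intro w; rfl
      | cons d L' ih' =>
        intro w
        simp only [List.map_cons, List.prod_cons, Module.End.mul_apply]
        rw [← ih']
        rfl
    have hn₁ : (L.map fun d => n₁ - d • 1).prod = 0 := by
      refine LinearMap.ext fun w => Subtype.ext ?_
      rw [hres]
      obtain ⟨v, hv⟩ := w.2
      rw [← hv, ← Module.End.mul_apply]
      have hc : Commute g (L.map fun d => n - d • 1).prod := by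
        refine Commute.list_prod_right _ _ fun x hx => ?_
        obtain ⟨d, -, rfl⟩ := List.mem_map.mp hx
        exact hgn.sub_right ((Commute.one_right g).smul_right d)
      rw [← hc.eq, h]
      rfl
    have ih₁ := ih n₁ hn₁
    let R : comm n →ₗ[K] Module.End K T :=
      { toFun := fun f => (f : Module.End K W).restrict (p := T) (q := T) (by
          rintro _ ⟨v, rfl⟩
          refine ⟨(f : Module.End K W) v, ?_⟩
          have hf := LinearMap.congr_fun (mem_comm.mp f.2) v
          simp only [Module.End.mul_apply] at hf
          simp only [g, LinearMap.sub_apply, LinearMap.smul_apply, Module.End.one_apply, map_sub,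
            map_smul, hf])
        map_add' := fun _ _ => rfl
        map_smul' := fun _ _ => rfl }
    have hrange : comm n₁ ≤ LinearMap.range R := by
      intro ψ hψ
      obtain ⟨π, hπ⟩ := T.exists_isCompl
      let pT : W →ₗ[K] T := Submodule.linearProjOfIsCompl T π hπ
      obtain ⟨s, hs⟩ := g.rangeRestrict.exists_rightInverse_of_surjective
        g.range_rangeRestrict
      -- `φ = ψ` on `T`, extended to a complement through a section of `g`
      let g₀ : W →ₗ[K] T := g.rangeRestrict
      let idc : Module.End K W := 1 - T.subtype ∘ₗ pT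
      let φ : Module.End K W := T.subtype ∘ₗ ψ ∘ₗ pT + s ∘ₗ ψ ∘ₗ g₀ ∘ₗ idc
      have hφT : ∀ w : T, φ (w : W) = (ψ w : W) := by
        intro w
        have h1 : pT (w : W) = w := Submodule.linearProjOfIsCompl_apply_left hπ w
        simp only [φ, idc, LinearMap.add_apply, LinearMap.comp_apply, LinearMap.sub_apply,
          Module.End.one_apply, h1, Submodule.subtype_apply, sub_self, map_zero, add_zero]
      have hψg : ∀ w : T, g (ψ w : W) = (ψ (g₀ w) : W) := by
        intro w
        have h1 : n (ψ w : W) = ((ψ (n₁ w) : T) : W) :=
          congrArg Subtype.val (LinearMap.congr_fun (mem_comm.mp hψ) w).symm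
        have h2 : g₀ (w : W) = n₁ w - c • w := Subtype.ext rfl
        rw [h2, map_sub, map_smul]
        simp only [g, LinearMap.sub_apply, LinearMap.smul_apply, Module.End.one_apply, h1]
        rfl
      have hgs : ∀ w : T, g (s w) = (w : W) := fun w =>
        congrArg Subtype.val (LinearMap.congr_fun hs w)
      have hφ : φ ∈ comm n := by
        have key : φ * g = g * φ := by
          refine LinearMap.ext fun w => ?_
          simp only [Module.End.mul_apply]
          have hw : φ (g w) = (ψ (g₀ w) : W) := hφT (g₀ w)
          rw [hw]
          simp only [φ, LinearMap.add_apply, LinearMap.comp_apply, Submodule.subtype_apply,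
            map_add, hψg, hgs]
          have h3 : g₀ ((pT w : T) : W) + g₀ (idc w) = g₀ w := by
            rw [← map_add]
            simp [idc]
          rw [← Submodule.coe_add, ← map_add, h3]
        rw [mem_comm]
        have h4 : n = g + c • 1 := by simp [g]
        rw [h4, mul_add φ, add_mul g, key, mul_smul_comm, smul_mul_assoc, one_mul, mul_one]
      exact ⟨⟨φ, hφ⟩, LinearMap.ext fun w => Subtype.ext (hφT w)⟩
    have hker : (finrank K W - finrank K T) ^ 2 ≤ finrank K (LinearMap.ker R) := by
      let J : ((W ⧸ T) →ₗ[K] LinearMap.ker g) →ₗ[K] LinearMap.ker R :=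
        { toFun := fun u => ⟨⟨(LinearMap.ker g).subtype ∘ₗ u ∘ₗ T.mkQ, by
              refine mem_comm.mpr (LinearMap.ext fun w => ?_)
              set z := u (T.mkQ w) with hz
              have h1 : n (z : W) = c • (z : W) := by
                have h0 : g (z : W) = 0 := LinearMap.mem_ker.mp z.2
                simp only [g, LinearMap.sub_apply, LinearMap.smul_apply, Module.End.one_apply,
                  sub_eq_zero] at h0
                exact h0
              have h2 : T.mkQ (n w) = c • T.mkQ w := by
                have : T.mkQ (g w) = 0 := (Submodule.Quotient.mk_eq_zero T).mpr ⟨w, rfl⟩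
                simpa [g, sub_eq_zero] using this
              simp only [Module.End.mul_apply, LinearMap.comp_apply, h2, map_smul,
                Submodule.subtype_apply, SetLike.val_smul, ← hz, h1]⟩, by
              refine LinearMap.mem_ker.mpr (LinearMap.ext fun w => Subtype.ext ?_)
              show ((u (T.mkQ (w : W))) : W) = 0
              rw [show T.mkQ (w : W) = 0 from (Submodule.Quotient.mk_eq_zero T).mpr w.2, map_zero]
              rfl⟩
          map_add' := fun _ _ => rfl
          map_smul' := fun _ _ => rfl }
      have hJ : Function.Injective J := by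
        intro u v huv
        refine LinearMap.ext fun y => ?_
        obtain ⟨w, rfl⟩ := T.mkQ_surjective y
        exact Subtype.ext (LinearMap.congr_fun
          (congrArg Subtype.val (congrArg Subtype.val huv)) w)
      have h1 := LinearMap.finrank_le_finrank_of_injective hJ
      rw [Module.finrank_linearMap, Submodule.finrank_quotient] at h1
      have h2 : finrank K T + finrank K (LinearMap.ker g) = finrank K W :=
        g.finrank_range_add_finrank_ker
      rwa [show finrank K (LinearMap.ker g) = finrank K W - finrank K T by omega, ← sq] at h1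
    have hdim := R.finrank_range_add_finrank_ker
    have hle : finrank K (comm n₁) ≤ finrank K (LinearMap.range R) :=
      Submodule.finrank_mono hrange
    have hTW : finrank K T ≤ finrank K W := Submodule.finrank_le T
    obtain ⟨a, ha⟩ : ∃ a, finrank K W = a + finrank K T := ⟨_, (Nat.sub_add_cancel hTW).symm⟩
    rw [ha, Nat.add_sub_cancel] at hker
    rw [ha, List.length_cons]
    rcases Nat.eq_zero_or_pos L.length with hL | hL
    · have : finrank K T = 0 := by simpa [hL] using ih₁
      rw [this, add_zero, hL]; omega
    · refine Nat.le_of_mul_le_mul_left ?_ hL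
      generalize L.length = l at *
      generalize finrank K T = t at *
      generalize finrank K (comm n) = C at *
      generalize finrank K (LinearMap.range R) = r at *
      generalize finrank K (LinearMap.ker R) = k at *
      generalize finrank K (comm n₁) = C₁ at *
      zify at *
      nlinarith [sq_nonneg ((l : ℤ) * a - t), mul_nonneg (Int.natCast_nonneg l) (Int.natCast_nonneg l)]

/-- Burnside: if only `⊥` and `⊤` are invariant under a set of endomorphisms of a finite dimensional
space over an algebraically closed field, the algebra they generate is everything. -/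
theorem adjoin_eq_top_of_irreducible [IsAlgClosed K] [FiniteDimensional K W] [Nontrivial W]
    (s : Set (Module.End K W))
    (hirr : ∀ U : Submodule K W, (∀ f ∈ s, ∀ w ∈ U, f w ∈ U) → U = ⊥ ∨ U = ⊤) :
    Algebra.adjoin K s = ⊤ := by
  set A := Algebra.adjoin K s
  have : IsSimpleModule A W := by
    refine { eq_bot_or_eq_top := fun U => ?_ }
    rcases hirr (U.restrictScalars K) fun f hf w hw => U.smul_mem (⟨f, Algebra.subset_adjoin hf⟩ : A) hw
      with h | h
    · exact Or.inl (((Submodule.restrictScalars_eq_bot_iff K A W).mp h))
    · exact Or.inr (((Submodule.restrictScalars_eq_top_iff K A W).mp h))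
  have : Module.Finite (Module.End A W) W :=
    Module.Finite.of_restrictScalars_finite K (Module.End A W) W
  refine top_le_iff.mp fun f _ => ?_
  let f' : Module.End (Module.End A W) W :=
    { toFun := f
      map_add' := map_add f
      map_smul' := fun φ w => by
        obtain ⟨t, ht⟩ := (IsSimpleModule.algebraMap_end_bijective_of_isAlgClosed K).2 φ
        subst ht
        simp only [RingHom.id_apply, Module.End.smul_def, Module.algebraMap_end_apply, map_smul] }
  obtain ⟨a, ha⟩ := Module.Finite.toModuleEnd_moduleEnd_surjective f'
  have : (a : Module.End K W) = f := LinearMap.ext fun w => LinearMap.congr_fun ha w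
  exact this ▸ a.2

/-- The main count. -/
theorem dim_lt_of_semiregular_basis [IsAlgClosed K] [FiniteDimensional K W] [Nontrivial W]
    {ι : Type*} [Finite ι] (o : ι) (b : Basis ι K (Module.End K W))
    (X : Module.End K W) (m : ℕ) (hm : 2 ≤ m) (hXm : X ^ m = 1)
    (hN : ∑ k ∈ Finset.range m, X ^ k = 0)
    (π : Equiv.Perm ι) (hπm : π ^ m = 1) (hπo : π o = o)
    (hfree : ∀ i, i ≠ o → ∀ k, 0 < k → k < m → (π ^ k) i ≠ i)
    (a : ι → K) (ha : ∀ i, a i ≠ 0) (hconj : ∀ i, X * b i = a i • (b (π i) * X)) :
    Nat.card ι = finrank K W ^ 2 ∧ finrank K W < m ∧ m ∣ finrank K W ^ 2 - 1 := by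
  classical
  have : Fintype ι := Fintype.ofFinite ι
  have hcard : Nat.card ι = finrank K W ^ 2 := by
    rw [Nat.card_eq_fintype_card, ← Module.finrank_eq_card_basis b, Module.finrank_linearMap, sq]
  -- orbit representatives
  let e := Fintype.equivFin ι
  let R : Finset ι := Finset.univ.filter fun i => i ≠ o ∧ ∀ k, e i ≤ e ((π ^ k) i)
  have hπne : ∀ i, i ≠ o → ∀ k : ℕ, (π ^ k) i ≠ o := by
    intro i hi k h
    refine hi ((π ^ k).injective ?_)
    rw [h]
    clear h
    induction k with
    | zero => rfl
    | succ k ih => rw [pow_succ, Equiv.Perm.mul_apply, hπo, ← ih]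
  have hmod : ∀ k i, (π ^ k) i = (π ^ (k % m)) i := by
    intro k i
    conv_lhs => rw [← Nat.mod_add_div k m, pow_add, pow_mul, hπm, one_pow, mul_one]
  have hrep : ∀ i, i ≠ o → ∃ k < m, (π ^ k) i ∈ R := by
    intro i hi
    obtain ⟨k, hk, hmin⟩ := Finset.exists_min_image (Finset.range m) (fun k => e ((π ^ k) i))
      ⟨0, Finset.mem_range.mpr (by omega)⟩
    refine ⟨k, Finset.mem_range.mp hk, Finset.mem_filter.mpr ⟨Finset.mem_univ _, hπne i hi k,
      fun l => ?_⟩⟩
    have := hmin ((l + k) % m) (Finset.mem_range.mpr (Nat.mod_lt _ (by omega)))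
    rw [← hmod, pow_add, Equiv.Perm.mul_apply] at this
    exact this
  have hinj : ∀ r ∈ R, ∀ r' ∈ R, ∀ k < m, ∀ l < m, (π ^ k) r = (π ^ l) r' → r = r' ∧ k = l := by
    intro r hr r' hr' k hk l hl h
    obtain ⟨-, hro, hrmin⟩ := Finset.mem_filter.mp hr
    obtain ⟨-, hr'o, hr'min⟩ := Finset.mem_filter.mp hr'
    have h1 : (π ^ (m - l + k)) r = r' := by
      rw [pow_add, Equiv.Perm.mul_apply, h, ← Equiv.Perm.mul_apply, ← pow_add,
        Nat.sub_add_cancel hl.le, hπm, Equiv.Perm.one_apply]
    have h2 : (π ^ (m - k + l)) r' = r := by
      rw [pow_add, Equiv.Perm.mul_apply, ← h, ← Equiv.Perm.mul_apply, ← pow_add,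
        Nat.sub_add_cancel hk.le, hπm, Equiv.Perm.one_apply]
    have heq : r = r' := e.injective (le_antisymm (h1 ▸ hrmin _) (h2 ▸ hr'min _))
    refine ⟨heq, ?_⟩
    subst heq
    rcases lt_trichotomy k l with hkl | hkl | hkl
    · refine absurd ?_ (hfree r hro (l - k) (by omega) (by omega))
      refine (π ^ k).injective ?_
      rw [← Equiv.Perm.mul_apply, ← pow_add, Nat.add_sub_cancel' hkl.le, h]
    · exact hkl
    · refine absurd ?_ (hfree r hro (k - l) (by omega) (by omega))
      refine (π ^ l).injective ?_
      rw [← Equiv.Perm.mul_apply, ← pow_add, Nat.add_sub_cancel' hkl.le, h]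
  have hRcard : m * R.card + 1 = Nat.card ι := by
    have h1 : (Finset.range m ×ˢ R).image (fun x => (π ^ x.1) x.2) = Finset.univ.erase o := by
      refine Finset.Subset.antisymm ?_ ?_
      · intro i hi
        obtain ⟨⟨k, r⟩, hkr, rfl⟩ := Finset.mem_image.mp hi
        obtain ⟨-, hr⟩ := Finset.mem_product.mp hkr
        exact Finset.mem_erase.mpr ⟨hπne r (Finset.mem_filter.mp hr).2.1 k, Finset.mem_univ _⟩
      · intro i hi
        obtain ⟨k, hk, hkR⟩ := hrep i (Finset.mem_erase.mp hi).1
        refine Finset.mem_image.mpr ⟨((m - k) % m, (π ^ k) i), Finset.mem_product.mpr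
          ⟨Finset.mem_range.mpr (Nat.mod_lt _ (by omega)), hkR⟩, ?_⟩
        rw [← hmod, ← Equiv.Perm.mul_apply, ← pow_add, Nat.sub_add_cancel hk.le, hπm,
          Equiv.Perm.one_apply]
    have h2 := congrArg Finset.card h1
    rw [Finset.card_image_of_injOn ?_, Finset.card_product, Finset.card_range,
      Finset.card_erase_of_mem (Finset.mem_univ o), Finset.card_univ] at h2
    · have : 0 < Fintype.card ι := Fintype.card_pos_iff.mpr ⟨o⟩
      rw [Nat.card_eq_fintype_card]; omega
    · rintro ⟨k, r⟩ hkr ⟨l, r'⟩ hlr h
      simp only [Finset.coe_product, Set.mem_prod, Finset.mem_coe, Finset.mem_range] at hkr hlr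
      obtain ⟨h1, h2⟩ := hinj r hkr.2 r' hlr.2 k hkr.1 l hlr.1 h
      rw [h1, h2]
  -- fixed endomorphisms are determined by their coordinates on `R` and `o`
  have hfix : finrank K (comm X) ≤ R.card + 1 := by
    have hcoord : ∀ f ∈ comm X, ∀ i, b.repr f (π i) = a i * b.repr f i := by
      intro f hf i
      have h1 : X * f = (∑ j, (b.repr f j * a j) • b (π j)) * X := by
        conv_lhs => rw [← b.sum_repr f]
        rw [Finset.mul_sum, Finset.sum_mul]
        refine Finset.sum_congr rfl fun j _ => ?_
        rw [mul_smul_comm, hconj, smul_smul, smul_mul_assoc]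
      rw [← mem_comm.mp hf] at h1
      have h2 : f = ∑ j, (b.repr f j * a j) • b (π j) := by
        have hu : IsUnit X := (isUnit_pow_iff (by omega : m ≠ 0)).mp (hXm ▸ isUnit_one)
        exact hu.mul_right_cancel h1
      rw [← Equiv.sum_comp π.symm] at h2
      simp only [Equiv.apply_symm_apply] at h2
      conv_lhs => rw [h2, b.repr_sum_self]
      rw [Equiv.symm_apply_apply, mul_comm]
    let E : comm X →ₗ[K] (↥(insert o R) → K) :=
      { toFun := fun f i => b.repr (f : Module.End K W) i
        map_add' := fun f g => by funext i; simp
        map_smul' := fun c f => by funext i; simp }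
    have hE : Function.Injective E := by
      rw [injective_iff_map_eq_zero]
      intro f hf
      have h0 : ∀ i, i ∈ insert o R → b.repr (f : Module.End K W) i = 0 := fun i hi =>
        congrFun hf ⟨i, hi⟩
      have hback : ∀ k i, b.repr (f : Module.End K W) ((π ^ k) i) = 0 →
          b.repr (f : Module.End K W) i = 0 := by
        intro k
        induction k with
        | zero => intro i h; simpa using h
        | succ k ih =>
          intro i h
          rw [pow_succ, Equiv.Perm.mul_apply] at h
          have h5 := ih _ h
          rw [hcoord _ f.2] at h5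
          exact (mul_eq_zero.mp h5).resolve_left (ha i)
      refine Subtype.ext (b.repr.injective (Finsupp.ext fun i => ?_))
      rw [ZeroMemClass.coe_zero, map_zero, Finsupp.zero_apply]
      by_cases hi : i = o
      · exact h0 i (hi ▸ Finset.mem_insert_self o R)
      · obtain ⟨k, -, hk⟩ := hrep i hi
        exact hback k i (h0 _ (Finset.mem_insert_of_mem hk))
    refine (LinearMap.finrank_le_finrank_of_injective hE).trans ?_
    rw [Module.finrank_fintype_fun_eq_card, Fintype.card_coe]
    exact Finset.card_insert_le o R
  -- the lower bound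
  let P : K[X] := ∑ k ∈ Finset.range m, Polynomial.X ^ k
  have hP : P.Monic := monic_geom_sum_X (by omega)
  have hPdeg : P.natDegree ≤ m - 1 := by
    refine natDegree_sum_le_of_forall_le _ _ fun k hk => ?_
    rw [natDegree_X_pow]
    have := Finset.mem_range.mp hk
    omega
  have hprod := prod_multiset_X_sub_C_of_monic_of_roots_card_eq hP
    (IsAlgClosed.card_roots_eq_natDegree (p := P))
  have hL : ((P.roots.toList).map fun c => X - c • 1).prod = 0 := by
    have h1 := congrArg (aeval X) hprod
    rw [← Multiset.prod_map_toList, map_list_prod, List.map_map] at h1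
    have h2 : aeval X P = 0 := by simp [P, hN]
    rw [← h2, ← h1]
    refine congrArg List.prod (List.map_congr_left fun c _ => ?_)
    simp [Algebra.algebraMap_eq_smul_one]
  have hlow := sq_finrank_le_comm P.roots.toList X hL
  rw [Multiset.length_toList, IsAlgClosed.card_roots_eq_natDegree (p := P)] at hlow
  set D := finrank K W
  rw [hcard] at hRcard
  have hD : 0 < D := Module.finrank_pos
  refine ⟨hcard, ?_, ⟨R.card, by omega⟩⟩
  by_contra hge
  push Not at hge
  have h1 : D ^ 2 ≤ (m - 1) * (R.card + 1) :=
    hlow.trans (Nat.mul_le_mul hPdeg hfix)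
  obtain ⟨m', rfl⟩ : ∃ m', m = m' + 1 := ⟨m - 1, by omega⟩
  rw [Nat.add_sub_cancel] at h1
  nlinarith [Nat.pow_le_pow_left hge 2]

end Cfsg.Agent.HallHigman
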