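import Mathlib
import Cfsg.Agent.Lib.CoprimeAction
import Cfsg.Agent.Lib.HallHigmanLinear

/-!
# The degree bound of Hall and Higman (Theorem B)

Let `x` have order dividing `p ^ e` and normalise a `q`-subgroup `Q` of class at most two with
`[Q, x₀] = Q`, `x₀ = x ^ p ^ (e - 1)`. If `ρ` is a representation, non-trivial on `Q`, over an
algebraically closed field in which `q ≠ 0`, and `1 + ρ x + ... + ρ x ^ (p ^ e - 1) = 0`, then we
are in the exceptional case: `Q` is non-abelian and there are `a, j` with `q ^ j < p ^ a` and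
`p ^ a ∣ q ^ (2 * j) - 1`.
-/

set_option autoImplicit false

namespace Cfsg.Agent.HallHigman

open Module
open scoped commutatorElement

/-! ### The operator core -/

section core

variable {K W : Type*} [Field K] [AddCommGroup W] [Module K W]
variable {Q : Type*} [Group Q] (r : Q →* Module.End K W)

/-- The elements acting as scalars. -/
def scal : Subgroup Q where
  carrier := {u | ∃ c : K, r u = c • 1}
  one_mem' := ⟨1, by rw [map_one, one_smul]⟩
  mul_mem' := fun {a b} ⟨c, hc⟩ ⟨d, hd⟩ => ⟨c * d, by rw [map_mul, hc, hd, smul_one_mul, smul_smul]⟩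
  inv_mem' := fun {a} ⟨c, hc⟩ => by
    rcases eq_or_ne c 0 with rfl | hne
    · rw [zero_smul] at hc
      refine ⟨0, ?_⟩
      have h1 : r a⁻¹ * r a = 1 := by rw [← map_mul, inv_mul_cancel, map_one]
      rw [hc, mul_zero] at h1
      rw [zero_smul, ← mul_one (r a⁻¹), ← h1, mul_zero]
    · refine ⟨c⁻¹, ?_⟩
      have h1 : r a⁻¹ * r a = 1 := by rw [← map_mul, inv_mul_cancel, map_one]
      rw [hc, mul_smul_comm, mul_one] at h1
      rw [← h1, smul_smul, inv_mul_cancel₀ hne, one_smul]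

theorem mem_scal {u : Q} : u ∈ scal r ↔ ∃ c : K, r u = c • 1 := Iff.rfl

theorem r_conj_of_scal {u g : Q} (hg : g ∈ scal r) : r (u * g * u⁻¹) = r g := by
  obtain ⟨c, hc⟩ := hg
  rw [map_mul, map_mul, hc, mul_smul_comm, mul_one, smul_mul_assoc, ← map_mul, mul_inv_cancel,
    map_one]

instance scal_normal : (scal r).Normal :=
  ⟨fun g hg u => by
    obtain ⟨c, hc⟩ := hg
    exact ⟨c, by rw [r_conj_of_scal r ⟨c, hc⟩, hc]⟩⟩

variable {X : Module.End K W} {α : MulAut Q}

theorem pow_intertwine (hint : ∀ u, X * r u = r (α u) * X) (k : ℕ) (u : Q) :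
    X ^ k * r u = r ((α ^ k) u) * X ^ k := by
  induction k generalizing u with
  | zero => simp
  | succ k ih =>
    rw [pow_succ, mul_assoc, hint, ← mul_assoc, ih, mul_assoc, pow_succ, MulAut.mul_apply]

variable [Finite Q]

theorem eq_one_of_abelian_fpf {m : ℕ} (hm : 1 ≤ m) (hN : ∑ k ∈ Finset.range m, X ^ k = 0)
    (hint : ∀ u, X * r u = r (α u) * X) (hcomm : ∀ u v, r u * r v = r v * r u)
    (hQK : (Nat.card Q : K) ≠ 0)
    (hfpf : ∀ k, 0 < k → k < m → ∀ u, r ((α ^ k) u) = r u → r u = 1) (v : Q) : r v = 1 := by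
  classical
  have : Fintype Q := Fintype.ofFinite Q
  set S : Module.End K W := ∑ u, r u
  have hSabs : ∀ w, r w * S = S := by
    intro w
    rw [Finset.mul_sum]
    simp only [← map_mul]
    exact Equiv.sum_comp (Equiv.mulLeft w) fun u => r u
  have hcast : ((Fintype.card Q : ℕ) : K) ≠ 0 := by rwa [← Nat.card_eq_fintype_card]
  let T : ℕ → Module.End K W := fun k => ∑ u, r (u * (α ^ k) u⁻¹)
  have hT : ∀ k, 0 < k → k < m → T k = S := by
    intro k hk0 hkm
    have : Finite ↥(Set.range r) := (Set.finite_range r).to_subtype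
    let φ : ↥(Set.range r) → ↥(Set.range r) := fun y =>
      ⟨r (y.2.choose * (α ^ k) y.2.choose⁻¹), _, rfl⟩
    have hinj : Function.Injective φ := by
      intro y z hyz
      set a := y.2.choose
      set b := z.2.choose
      have h1 : r (a * (α ^ k) a⁻¹) = r (b * (α ^ k) b⁻¹) := congrArg Subtype.val hyz
      rw [map_mul, map_mul] at h1
      have h2 : r ((α ^ k) (b⁻¹ * a)) = r (b⁻¹ * a) := by
        calc r ((α ^ k) (b⁻¹ * a)) = r b⁻¹ * (r b * r ((α ^ k) b⁻¹)) * r ((α ^ k) a) := by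
              rw [← mul_assoc (r b⁻¹), ← map_mul, inv_mul_cancel, map_one, one_mul, ← map_mul,
                ← map_mul]
          _ = r (b⁻¹ * a) := by
              rw [← h1]
              simp only [← map_mul]
              congr 1
              simp [mul_assoc]
      have h3 := hfpf k hk0 hkm _ h2
      refine Subtype.ext ?_
      calc (y : Module.End K W) = r a := y.2.choose_spec.symm
        _ = r b * r (b⁻¹ * a) := by rw [← map_mul, mul_inv_cancel_left]
        _ = (z : Module.End K W) := by rw [h3, mul_one]; exact z.2.choose_spec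
    have habs : ∀ w, r w * T k = T k := by
      intro w
      obtain ⟨y, hy⟩ := (Finite.injective_iff_surjective.mp hinj) ⟨r w, w, rfl⟩
      set a := y.2.choose
      have h1 : r (a * (α ^ k) a⁻¹) = r w := congrArg Subtype.val hy
      rw [← h1, Finset.mul_sum]
      refine Eq.trans (Finset.sum_congr rfl fun u _ => ?_)
        (Equiv.sum_comp (Equiv.mulLeft a) fun u => r (u * (α ^ k) u⁻¹))
      rw [Equiv.coe_mulLeft, mul_inv_rev, map_mul (α ^ k), map_mul, map_mul, map_mul, map_mul,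
        mul_assoc, mul_assoc]
      congr 1
      rw [← mul_assoc, hcomm ((α ^ k) a⁻¹) u, mul_assoc, hcomm ((α ^ k) a⁻¹)]
      rw [map_mul]
    have h1 : S * T k = Fintype.card Q • T k := by
      rw [Finset.sum_mul, Finset.sum_congr rfl fun u _ => habs u, Finset.sum_const,
        Finset.card_univ]
    have h2 : T k * S = Fintype.card Q • S := by
      rw [Finset.sum_mul, Finset.sum_congr rfl fun u _ => hSabs _, Finset.sum_const,
        Finset.card_univ]
    have h3 : S * T k = T k * S := by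
      simp only [S, T, Finset.sum_mul, Finset.mul_sum]
      rw [Finset.sum_comm]
      exact Finset.sum_congr rfl fun u _ => Finset.sum_congr rfl fun w _ => hcomm _ _
    rw [h1, h2, ← Nat.cast_smul_eq_nsmul K, ← Nat.cast_smul_eq_nsmul K] at h3
    exact smul_right_injective _ hcast h3
  have key : S = Fintype.card Q • (1 : Module.End K W) := by
    have h1 : ∑ k ∈ Finset.range m, T k * X ^ k = 0 := by
      have h2 : ∀ k, T k * X ^ k = ∑ u, r u * X ^ k * r u⁻¹ := by
        intro k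
        rw [Finset.sum_mul]
        refine Finset.sum_congr rfl fun u _ => ?_
        rw [mul_assoc, pow_intertwine r hint, ← mul_assoc, ← map_mul]
      rw [Finset.sum_congr rfl fun k _ => h2 k, Finset.sum_comm]
      refine Finset.sum_eq_zero fun u _ => ?_
      rw [← Finset.sum_mul, ← Finset.mul_sum, hN, mul_zero, zero_mul]
    obtain ⟨m', rfl⟩ : ∃ m', m = m' + 1 := ⟨m - 1, by omega⟩
    rw [Finset.sum_range_succ'] at h1 hN
    rw [Finset.sum_congr rfl fun k hk => by
      rw [hT (k + 1) (by omega) (by have := Finset.mem_range.mp hk; omega)]] at h1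
    rw [← Finset.mul_sum, eq_neg_of_add_eq_zero_left hN, pow_zero, mul_neg, mul_one] at h1
    simp only [T, mul_one, pow_zero, MulAut.one_apply, mul_inv_cancel, map_one, Finset.sum_const,
      Finset.card_univ] at h1
    exact neg_add_eq_zero.mp h1
  have h := hSabs v
  rw [key, mul_smul_comm, mul_one, ← Nat.cast_smul_eq_nsmul K, ← Nat.cast_smul_eq_nsmul K] at h
  exact smul_right_injective _ hcast h

/-- The core count: `Q` irreducible of class two, `x` semiregular modulo scalars. -/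
theorem core [IsAlgClosed K] [FiniteDimensional K W] [Nontrivial W]
    (m : ℕ) (hm : 2 ≤ m) (hXm : X ^ m = 1) (hαm : α ^ m = 1)
    (hint : ∀ u, X * r u = r (α u) * X) (hQK : (Nat.card Q : K) ≠ 0)
    (hirr : ∀ U : Submodule K W, (∀ u, ∀ w ∈ U, r u w ∈ U) → (∀ w ∈ U, X w ∈ U) → U = ⊥ ∨ U = ⊤)
    (hcomm : ∀ u v : Q, ⁅u, v⁆ ∈ scal r) (hnd : ∀ u : Q, u ∉ scal r → ∃ v : Q, r ⁅v, u⁆ ≠ 1)
    (hfpf : ∀ k, 0 < k → k < m → ∀ u, (α ^ k) u * u⁻¹ ∈ scal r → u ∈ scal r)
    (hN : ∑ k ∈ Finset.range m, X ^ k = 0) :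
    (scal r).index = finrank K W ^ 2 ∧ finrank K W < m ∧ m ∣ finrank K W ^ 2 - 1 := by
  classical
  have : Fintype Q := Fintype.ofFinite Q
  have hcast : ((Fintype.card Q : ℕ) : K) ≠ 0 := by rwa [← Nat.card_eq_fintype_card]
  have hXu : IsUnit X := (isUnit_pow_iff (by omega : m ≠ 0)).mp (hXm ▸ isUnit_one)
  have hru : ∀ u, r u * r u⁻¹ = 1 := fun u => by rw [← map_mul, mul_inv_cancel, map_one]
  have hr0 : ∀ u, r u ≠ 0 := fun u h => by
    have := hru u
    rw [h, zero_mul] at this
    exact zero_ne_one this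
  have hsc : ∀ {c d : K}, c • (1 : Module.End K W) = d • 1 → c = d := fun {c d} h =>
    smul_left_injective K (one_ne_zero (α := Module.End K W)) h
  -- averaging over conjugates
  have havg : ∀ g, g ∉ scal r → ∑ u, r (u * g * u⁻¹) = 0 := by
    intro g hg
    choose β hβ using fun u => hcomm u g
    have hconj : ∀ u, r (u * g * u⁻¹) = β u • r g := by
      intro u
      rw [show u * g * u⁻¹ = ⁅u, g⁆ * g by simp [commutatorElement_def], map_mul, hβ,
        smul_one_mul]
    let f : Q →* K :=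
      { toFun := β
        map_one' := hsc (by rw [← hβ, commutatorElement_one_left, map_one, one_smul])
        map_mul' := fun u w => by
          refine smul_left_injective K (hr0 g) ?_
          show β (u * w) • r g = (β u * β w) • r g
          rw [← hconj, show u * w * g * (u * w)⁻¹ = u * (w * g * w⁻¹) * u⁻¹ by group, map_mul,
            map_mul, hconj, mul_smul_comm, smul_mul_assoc, ← map_mul, ← map_mul, hconj, smul_smul,
            mul_comm] }
    have hf : f ≠ 1 := by
      intro h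
      obtain ⟨u, hu⟩ := hnd g hg
      refine hu ?_
      rw [hβ, show β u = 1 from DFunLike.congr_fun h u, one_smul]
    rw [Finset.sum_congr rfl fun u _ => hconj u, ← Finset.sum_smul]
    have := sum_hom_units_eq_zero f hf
    rw [show ∑ u, β u = ∑ u, f u from rfl, this, zero_smul]
  have havg' : ∀ g, g ∈ scal r → ∑ u, r (u * g * u⁻¹) = Fintype.card Q • r g := by
    intro g hg
    rw [Finset.sum_congr rfl fun u _ => r_conj_of_scal r hg, Finset.sum_const, Finset.card_univ]
  -- the intertwiners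
  let Y : ℕ → Module.End K W := fun k => ∑ u, r (u * (α ^ k) u⁻¹)
  let S : ℕ → Module.End K W := fun k => Y k * X ^ k
  have hS : ∀ k, S k = ∑ u, r u * X ^ k * r u⁻¹ := by
    intro k
    simp only [S, Y, Finset.sum_mul]
    refine Finset.sum_congr rfl fun u _ => ?_
    rw [mul_assoc, pow_intertwine r hint, ← mul_assoc, ← map_mul]
  have hSQ : ∀ k v, r v * S k = S k * r v := by
    intro k v
    rw [hS, Finset.mul_sum, Finset.sum_mul]
    refine Eq.trans (Finset.sum_congr rfl fun u _ => ?_)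
      (Equiv.sum_comp (Equiv.mulLeft v) fun u => r u * X ^ k * r u⁻¹ * r v)
    rw [Equiv.coe_mulLeft, mul_inv_rev, map_mul, map_mul]
    simp only [mul_assoc]
    rw [← map_mul r v⁻¹ v, inv_mul_cancel, map_one, mul_one]
  have hSX : ∀ k, X * S k = S k * X := by
    intro k
    rw [hS, Finset.mul_sum, Finset.sum_mul]
    refine Eq.trans (Finset.sum_congr rfl fun u _ => ?_)
      (Equiv.sum_comp α.toEquiv fun u => r u * X ^ k * r u⁻¹ * X)
    show X * (r u * X ^ k * r u⁻¹) = r (α u) * X ^ k * r (α u)⁻¹ * X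
    rw [← map_inv, ← mul_assoc, ← mul_assoc, hint]
    simp only [mul_assoc]
    rw [← hint, ← mul_assoc X, ← pow_succ', pow_succ, mul_assoc]
  have hSS : S 1 * S (m - 1) =
      (Fintype.card Q * (Finset.univ.filter fun t => t ∈ scal r).card : ℕ) •
        (1 : Module.End K W) := by
    rw [hS, hS, Finset.sum_mul]
    simp only [Finset.mul_sum]
    have h1 : ∀ u, ∑ w, r u * X ^ 1 * r u⁻¹ * (r w * X ^ (m - 1) * r w⁻¹) =
        ∑ t, r (u * ((α ^ 1) t * t⁻¹) * u⁻¹) := by
      intro u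
      refine Eq.trans ((Equiv.sum_comp (Equiv.mulLeft u) _).symm) ?_
      refine Finset.sum_congr rfl fun t _ => ?_
      rw [Equiv.coe_mulLeft, mul_inv_rev, map_mul, map_mul]
      calc r u * X ^ 1 * r u⁻¹ * (r u * r t * X ^ (m - 1) * (r t⁻¹ * r u⁻¹))
          = r u * (X ^ 1 * (r u⁻¹ * r u) * r t) * X ^ (m - 1) * (r t⁻¹ * r u⁻¹) := by
            simp only [mul_assoc]
        _ = r u * r ((α ^ 1) t) * (X ^ 1 * X ^ (m - 1)) * (r t⁻¹ * r u⁻¹) := by
            rw [← map_mul r u⁻¹ u, inv_mul_cancel, map_one, mul_one, pow_intertwine r hint]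
            simp only [mul_assoc]
        _ = _ := by
            rw [← pow_add, show 1 + (m - 1) = m by omega, hXm, mul_one, map_mul, map_mul, map_mul]
            simp only [mul_assoc]
    rw [Finset.sum_congr rfl fun u _ => h1 u, Finset.sum_comm,
      ← Finset.sum_filter_add_sum_filter_not Finset.univ fun t => t ∈ scal r]
    have hz : ∑ t ∈ Finset.univ.filter (fun t => t ∉ scal r),
        ∑ u, r (u * ((α ^ 1) t * t⁻¹) * u⁻¹) = 0 := by
      refine Finset.sum_eq_zero fun t ht => havg _ fun h => ?_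
      exact (Finset.mem_filter.mp ht).2 (hfpf 1 one_pos (by omega) t h)
    rw [hz, add_zero, mul_comm, mul_smul]
    rw [Finset.sum_congr rfl (g := fun _ => Fintype.card Q • (1 : Module.End K W)) ?_,
      Finset.sum_const]
    intro t ht
    obtain ⟨c, hc⟩ := (Finset.mem_filter.mp ht).2
    have hα : r (α t) = c • 1 := by
      refine hXu.mul_right_cancel ?_
      rw [← hint, hc, mul_smul_comm, mul_one, smul_one_mul]
    have hg : r ((α ^ 1) t * t⁻¹) = 1 := by
      rw [pow_one, map_mul, hα, ← hc, hru]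
    rw [havg' _ ⟨1, by rw [hg, one_smul]⟩, hg]
  -- `S (m - 1)` is a non-zero scalar, so `X` lies in the span of `Q`
  obtain ⟨s, hs⟩ : ∃ s : K, S (m - 1) = s • 1 := by
    obtain ⟨s, hs⟩ := Module.End.exists_eigenvalue (S (m - 1))
    refine ⟨s, ?_⟩
    have hinv : ∀ f : Module.End K W, f * S (m - 1) = S (m - 1) * f →
        ∀ w ∈ Module.End.eigenspace (S (m - 1)) s, f w ∈ Module.End.eigenspace (S (m - 1)) s := by
      intro f hf w hw
      rw [Module.End.mem_eigenspace_iff] at hw ⊢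
      rw [← Module.End.mul_apply, ← hf, Module.End.mul_apply, hw, map_smul]
    rcases hirr _ (fun u => hinv _ (hSQ _ u)) (hinv _ (hSX _)) with h | h
    · exact absurd h hs
    · refine LinearMap.ext fun w => ?_
      exact Module.End.mem_eigenspace_iff.mp (h ▸ Submodule.mem_top)
  have hs0 : s ≠ 0 := by
    intro h0
    rw [hs, h0, zero_smul, mul_zero, ← Nat.cast_smul_eq_nsmul K, eq_comm, smul_eq_zero] at hSS
    refine hSS.elim (fun h => ?_) one_ne_zero
    rw [Nat.cast_mul, mul_eq_zero] at h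
    refine h.elim hcast fun h' => hcast ?_
    have hd : (Finset.univ.filter fun t => t ∈ scal r).card ∣ Fintype.card Q := by
      rw [← Fintype.card_subtype, ← Nat.card_eq_fintype_card, ← Nat.card_eq_fintype_card]
      exact (scal r).card_subgroup_dvd_card
    obtain ⟨d, hd⟩ := hd
    rw [hd, Nat.cast_mul, h', zero_mul]
  have hXeq : X = s⁻¹ • Y (m - 1) := by
    have h1 : Y (m - 1) = s • X := by
      calc Y (m - 1) = Y (m - 1) * (X ^ (m - 1) * X) := by
            rw [← pow_succ, show m - 1 + 1 = m by omega, hXm, mul_one]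
        _ = s • X := by rw [← mul_assoc]; show S (m - 1) * X = _; rw [hs, smul_one_mul]
    rw [h1, smul_smul, inv_mul_cancel₀ hs0, one_smul]
  -- basis indexed by `Q / scal`
  let bf : Q ⧸ scal r → Module.End K W := fun i => r i.out
  have hout : ∀ u : Q, ∃ c : K, r u = c • bf (u : Q ⧸ scal r) := by
    intro u
    obtain ⟨⟨c, a, ha⟩, hc⟩ := QuotientGroup.mk_out_eq_mul (scal r) u
    refine ⟨a⁻¹, ?_⟩
    have h1 : bf (u : Q ⧸ scal r) = a • r u := by
      show r (u : Q ⧸ scal r).out = _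
      rw [hc, map_mul, ha, mul_smul_comm, mul_one]
    have ha0 : a ≠ 0 := fun h => hr0 c (by rw [ha, h, zero_smul])
    rw [h1, smul_smul, inv_mul_cancel₀ ha0, one_smul]
  have hindep : LinearIndependent K bf := by
    rw [Fintype.linearIndependent_iff]
    intro g hg j
    have h1 : ∑ i, g i • ∑ u, r (u * (i.out * (Quotient.out j)⁻¹) * u⁻¹) = 0 := by
      simp only [Finset.smul_sum]
      rw [Finset.sum_comm]
      refine Finset.sum_eq_zero fun u _ => ?_
      calc ∑ i, g i • r (u * (i.out * (Quotient.out j)⁻¹) * u⁻¹)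
          = r u * (∑ i, g i • bf i) * (r (Quotient.out j)⁻¹ * r u⁻¹) := by
            rw [Finset.mul_sum, Finset.sum_mul]
            refine Finset.sum_congr rfl fun i _ => ?_
            simp only [bf, map_mul, mul_smul_comm, smul_mul_assoc, mul_assoc]
        _ = 0 := by rw [hg, mul_zero, zero_mul]
    rw [Finset.sum_eq_single j] at h1
    · rw [mul_inv_cancel, havg' _ (scal r).one_mem, map_one, ← Nat.cast_smul_eq_nsmul K,
        smul_smul, smul_eq_zero] at h1
      exact (mul_eq_zero.mp (h1.resolve_right one_ne_zero)).resolve_right hcast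
    · intro i _ hij
      rw [havg, smul_zero]
      intro hmem
      refine hij ?_
      rw [← QuotientGroup.out_eq' i, ← QuotientGroup.out_eq' j, ← div_eq_one, ← QuotientGroup.mk_div,
        QuotientGroup.eq_one_iff, div_eq_mul_inv]
      exact hmem
    · exact fun h => absurd (Finset.mem_univ j) h
  have hspan : ⊤ ≤ Submodule.span K (Set.range bf) := by
    have hA : Algebra.adjoin K (Set.range r) = ⊤ := by
      refine adjoin_eq_top_of_irreducible _ fun U hU => hirr U (fun u w hw => hU _ ⟨u, rfl⟩ w hw) ?_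
      intro w hw
      rw [hXeq, LinearMap.smul_apply, LinearMap.sum_apply]
      exact U.smul_mem _ (U.sum_mem fun u _ => hU _ ⟨_, rfl⟩ w hw)
    rw [← Algebra.top_toSubmodule, ← hA, Algebra.adjoin_eq_span, Submodule.span_le]
    have hcl : Submonoid.closure (Set.range r) ≤ MonoidHom.mrange r :=
      Submonoid.closure_le.mpr (Set.range_subset_iff.mpr fun u => ⟨u, rfl⟩)
    intro f hf
    obtain ⟨u, rfl⟩ := hcl hf
    obtain ⟨c, hc⟩ := hout u
    rw [SetLike.mem_coe, hc]
    exact Submodule.smul_mem _ _ (Submodule.subset_span ⟨_, rfl⟩)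
  let b := Basis.mk hindep hspan
  have hα : (scal r).map α.toMonoidHom = scal r := by
    refine Subgroup.eq_of_le_of_card_ge ?_ (le_of_eq ?_)
    · rintro _ ⟨t, ⟨c, hc⟩, rfl⟩
      refine ⟨c, hXu.mul_right_cancel ?_⟩
      show r (α t) * X = _
      rw [← hint, hc, mul_smul_comm, mul_one, smul_one_mul]
    · exact (Subgroup.card_map_of_injective (f := α.toMonoidHom) α.injective).symm
  let π : Equiv.Perm (Q ⧸ scal r) := (QuotientGroup.congr _ _ α hα).toEquiv
  have hπk : ∀ k (u : Q), (π ^ k) (u : Q ⧸ scal r) = (((α ^ k) u : Q) : Q ⧸ scal r) := by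
    intro k
    induction k with
    | zero => intro u; rfl
    | succ k ih =>
      intro u
      rw [pow_succ, pow_succ, Equiv.Perm.mul_apply, MulAut.mul_apply]
      exact ih (α u)
  have hres := dim_lt_of_semiregular_basis ((1 : Q) : Q ⧸ scal r) b X m hm hXm hN π ?_ ?_ ?_
    (fun i => (hout (α i.out)).choose) ?_ ?_
  · exact hres
  · refine Equiv.ext fun i => ?_
    obtain ⟨u, rfl⟩ := QuotientGroup.mk_surjective i
    rw [hπk, hαm]
    rfl
  · have := hπk 1 1
    rwa [pow_one, pow_one, map_one] at this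
  · intro i hi k hk0 hkm h
    obtain ⟨u, rfl⟩ := QuotientGroup.mk_surjective i
    rw [hπk, ← div_eq_one, ← QuotientGroup.mk_div, QuotientGroup.eq_one_iff, div_eq_mul_inv] at h
    exact hi ((QuotientGroup.eq_one_iff u).mpr (hfpf k hk0 hkm u h))
  · intro i h0
    have := (hout (α i.out)).choose_spec
    rw [show (hout (α i.out)).choose = 0 from h0, zero_smul] at this
    exact hr0 _ this
  · intro i
    have hπi : π i = ((α i.out : Q) : Q ⧸ scal r) := by
      have := hπk 1 i.out
      rwa [pow_one, pow_one, QuotientGroup.out_eq'] at this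
    rw [Basis.mk_apply, Basis.mk_apply, hπi]
    show X * r i.out = _
    rw [hint]
    exact (congrArg (fun f => f * X) (hout (α i.out)).choose_spec).trans (smul_mul_assoc _ _ _)

end core

/-! ### Restriction to a subspace -/

/-- The elements preserving `U`. -/
def preserving {G K W : Type*} [Group G] [Finite G] [Field K] [AddCommGroup W] [Module K W]
    (ρ : Representation K G W) (U : Submodule K W) : Subgroup G where
  carrier := {g | ∀ w ∈ U, ρ g w ∈ U}
  one_mem' := fun w hw => by simpa using hw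
  mul_mem' := fun {a b} ha hb w hw => by
    rw [map_mul, Module.End.mul_apply]; exact ha _ (hb w hw)
  inv_mem' := fun {a} ha => by
    show ∀ w ∈ U, ρ a⁻¹ w ∈ U
    obtain ⟨n, hn⟩ : ∃ n : ℕ, a⁻¹ = a ^ n := ⟨orderOf a - 1, by
      rw [inv_eq_iff_mul_eq_one, ← pow_succ', Nat.sub_add_cancel (orderOf_pos a), pow_orderOf_eq_one]⟩
    rw [hn]
    clear hn
    induction n with
    | zero => intro w hw; simpa using hw
    | succ n ih => intro w hw; rw [pow_succ, map_mul, Module.End.mul_apply]; exact ih _ (ha w hw)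

/-- The representation on an invariant subspace. -/
def subRep {G K W : Type*} [Group G] [Finite G] [Field K] [AddCommGroup W] [Module K W]
    (ρ : Representation K G W) (U : Submodule K W) :
    Representation K ↥(preserving ρ U) U where
  toFun g := (ρ (g : G)).restrict g.2
  map_one' := LinearMap.ext fun w => Subtype.ext (by simp)
  map_mul' a b := LinearMap.ext fun w => Subtype.ext (by
    show ρ ((a : G) * b) w = _; rw [map_mul]; rfl)

/-- The representation on the quotient by an invariant subspace. -/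
def quotRep {G K W : Type*} [Group G] [Finite G] [Field K] [AddCommGroup W] [Module K W]
    (ρ : Representation K G W) (U : Submodule K W) :
    Representation K ↥(preserving ρ U) (W ⧸ U) where
  toFun g := U.mapQ U (ρ (g : G)) g.2
  map_one' := Submodule.linearMap_qext _ (LinearMap.ext fun w => by simp)
  map_mul' a b := Submodule.linearMap_qext _ (LinearMap.ext fun w => by
    show Submodule.Quotient.mk (ρ ((a : G) * b) w) = _; rw [map_mul]; rfl)

/-- A representation, read on the image group. -/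
def imageRep {K G W : Type*} [Field K] [Group G] [AddCommGroup W] [Module K W]
    (ρ : Representation K G W) : Representation K (G ⧸ ρ.ker) W :=
  QuotientGroup.lift ρ.ker ρ fun _ hg => hg

theorem imageRep_mk {K G W : Type*} [Field K] [Group G] [AddCommGroup W] [Module K W]
    (ρ : Representation K G W) (g : G) : imageRep ρ (QuotientGroup.mk' ρ.ker g) = ρ g := rfl

theorem imageRep_injective {K G W : Type*} [Field K] [Group G] [AddCommGroup W] [Module K W]
    (ρ : Representation K G W) : Function.Injective (imageRep ρ) := by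
  rw [injective_iff_map_eq_one]
  intro a ha
  obtain ⟨g, rfl⟩ := QuotientGroup.mk'_surjective ρ.ker a
  exact (QuotientGroup.eq_one_iff g).mpr ha

/-! ### Theorem B -/

/-- The exceptional numerical configuration. -/
def Exceptional (p q e : ℕ) : Prop :=
  ∃ a j, 1 ≤ a ∧ a ≤ e ∧ 0 < j ∧ q ^ j < p ^ a ∧ p ^ a ∣ (q ^ j) ^ 2 - 1

/-- The hypotheses of Theorem B. -/
structure HHData {K G W : Type*} [Field K] [Group G] [AddCommGroup W] [Module K W]
    (p q e : ℕ) (ρ : Representation K G W) (x : G) (Q : Subgroup G) : Prop where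
  hp : p.Prime
  hq : q.Prime
  hpq : p ≠ q
  hqK : (q : K) ≠ 0
  he : 1 ≤ e
  hxe : x ^ p ^ e = 1
  hxQ : x ∈ Subgroup.normalizer (Q : Set G)
  hQ : IsPGroup q Q
  hcl : ⁅⁅Q, Q⁆, Q⁆ = ⊥
  hgen : ⁅Q, Subgroup.zpowers (x ^ p ^ (e - 1))⁆ = Q
  hN : ∑ k ∈ Finset.range (p ^ e), ρ x ^ k = 0
  hnt : ∃ u ∈ Q, ρ u ≠ 1

variable {K G W : Type*} [Field K] [Group G] [AddCommGroup W] [Module K W]
variable {p q e : ℕ} {ρ : Representation K G W} {x : G} {Q : Subgroup G}

/-- Pulling the hypotheses back along an injective homomorphism. -/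
theorem HHData.pullback (h : HHData p q e ρ x Q) {H W' : Type*} [Group H] [AddCommGroup W']
    [Module K W'] {ψ : H →* G} (hψ : Function.Injective ψ) (σ : Representation K H W') {f : ℕ}
    (hf : f < e) {x' : H} (hx' : ψ x' = x ^ p ^ f) (hQr : Q ≤ ψ.range)
    (hN : ∑ k ∈ Finset.range (p ^ (e - f)), σ x' ^ k = 0)
    (hnt : ∃ u, ψ u ∈ Q ∧ σ u ≠ 1) :
    HHData p q (e - f) σ x' (Q.comap ψ) := by
  have hmap : (Q.comap ψ).map ψ = Q := Subgroup.map_comap_eq_self hQr
  refine ⟨h.hp, h.hq, h.hpq, h.hqK, by omega, ?_, ?_, ?_, ?_, ?_, hN, hnt⟩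
  · apply hψ
    rw [map_pow, hx', ← pow_mul, ← pow_add, Nat.add_sub_cancel' hf.le, h.hxe, map_one]
  · rw [Subgroup.mem_normalizer_iff]
    intro g
    rw [Subgroup.mem_comap, Subgroup.mem_comap, map_mul, map_mul, map_inv, hx']
    exact Subgroup.mem_normalizer_iff.mp (pow_mem h.hxQ _) (ψ g)
  · exact h.hQ.comap_of_injective ψ hψ
  · apply Subgroup.map_injective hψ
    rw [Subgroup.map_commutator, Subgroup.map_commutator, hmap, h.hcl, Subgroup.map_bot]
  · apply Subgroup.map_injective hψ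
    rw [Subgroup.map_commutator, hmap, MonoidHom.map_zpowers, map_pow, hx', ← pow_mul, ← pow_add,
      show f + (e - f - 1) = e - 1 by omega]
    exact h.hgen

omit [Field K] in
theorem comap_isMulCommutative {H : Type*} [Group H] {ψ : H →* G} (hψ : Function.Injective ψ)
    (hc : IsMulCommutative Q) : IsMulCommutative (Q.comap ψ) := by
  refine ⟨⟨fun a b => Subtype.ext (hψ ?_)⟩⟩
  rw [Subgroup.coe_mul, Subgroup.coe_mul, map_mul, map_mul]
  exact congrArg Subtype.val (hc.is_comm.comm (⟨_, a.2⟩ : Q) ⟨_, b.2⟩)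

theorem HHData.map_mk (h : HHData p q e ρ x Q) :
    HHData p q e (imageRep ρ)
      (QuotientGroup.mk' ρ.ker x) (Q.map (QuotientGroup.mk' ρ.ker)) := by
  have hlift : ∀ g : G, (imageRep ρ)
      (QuotientGroup.mk' ρ.ker g) = ρ g := fun g => imageRep_mk ρ g
  refine ⟨h.hp, h.hq, h.hpq, h.hqK, h.he, ?_, ?_, h.hQ.map _, ?_, ?_, ?_, ?_⟩
  · rw [← map_pow, h.hxe, map_one]
  · exact Subgroup.le_normalizer_map _ ⟨x, h.hxQ, rfl⟩
  · rw [← Subgroup.map_commutator, ← Subgroup.map_commutator, h.hcl, Subgroup.map_bot]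
  · rw [← map_pow, ← MonoidHom.map_zpowers, ← Subgroup.map_commutator, h.hgen]
  · simp only [hlift]
    exact h.hN
  · obtain ⟨u, hu, hu1⟩ := h.hnt
    exact ⟨_, ⟨u, hu, rfl⟩, by rw [hlift]; exact hu1⟩

/-- Every non-trivial power of `x` has `x ^ p ^ (e - 1)` among its powers. -/
theorem exists_pow_eq_top_power {p e : ℕ} (hp : p.Prime) {x : G} (hx : x ^ p ^ e = 1) {k : ℕ}
    (hk0 : 0 < k) (hk : k < p ^ e) : ∃ l : ℕ, (x ^ k) ^ l = x ^ p ^ (e - 1) := by
  obtain ⟨i, k', hk', rfl⟩ := Nat.exists_eq_pow_mul_and_not_dvd hk0.ne' p hp.ne_one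
  have hie : i < e := by
    by_contra h
    push Not at h
    have : p ^ e ≤ p ^ i * k' := (Nat.pow_le_pow_right hp.pos h).trans
      (Nat.le_mul_of_pos_right _ (Nat.pos_of_ne_zero fun h0 => hk' (h0 ▸ dvd_zero p)))
    omega
  have hg : Nat.gcd k' (p ^ e) = 1 := Nat.Coprime.pow_right e (hp.coprime_iff_not_dvd.mpr hk').symm
  obtain ⟨l, -, hl⟩ := Nat.exists_mul_mod_eq_gcd (n := k') (k := p ^ e)
    (by rw [hg]; exact Nat.one_lt_pow (by omega) hp.one_lt)
  rw [hg] at hl
  refine ⟨l * p ^ (e - 1 - i), ?_⟩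
  rw [← pow_mul, show p ^ i * k' * (l * p ^ (e - 1 - i)) = (k' * l) * (p ^ i * p ^ (e - 1 - i)) by
    ring, ← pow_add, show i + (e - 1 - i) = e - 1 by omega, pow_mul]
  congr 1
  conv_lhs => rw [← Nat.mod_add_div (k' * l) (p ^ e), hl, pow_add, pow_one, pow_mul, hx, one_pow,
    mul_one]

variable [Finite G]

theorem HHData.coprime_x0 (h : HHData p q e ρ x Q) {A : Subgroup G} (hA : A ≤ Q) :
    (Nat.card (Subgroup.zpowers (x ^ p ^ (e - 1)))).Coprime (Nat.card A) := by
  have := Fact.mk h.hq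
  obtain ⟨k, hk⟩ := IsPGroup.iff_card.mp (h.hQ.to_le hA)
  rw [Nat.card_zpowers, hk]
  have hd : orderOf (x ^ p ^ (e - 1)) ∣ p := orderOf_dvd_of_pow_eq_one (by
    rw [← pow_mul, ← pow_succ, Nat.sub_add_cancel h.he, h.hxe])
  exact ((Nat.coprime_primes h.hp h.hq).mpr h.hpq).coprime_dvd_left hd |>.pow_right k

theorem HHData.card_ne_zero (h : HHData p q e ρ x Q) {A : Subgroup G} (hA : A ≤ Q) :
    (Nat.card A : K) ≠ 0 := by
  have := Fact.mk h.hq
  obtain ⟨k, hk⟩ := IsPGroup.iff_card.mp (h.hQ.to_le hA)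
  rw [hk, Nat.cast_pow]
  exact pow_ne_zero _ h.hqK

/-- The centre of `Q`. -/
abbrev ctr (Q : Subgroup G) : Subgroup G := Q ⊓ Subgroup.centralizer (Q : Set G)

omit [Finite G] in
theorem ctr_comm : IsMulCommutative (ctr Q) :=
  ⟨⟨fun a b => Subtype.ext ((Subgroup.mem_centralizer_iff.mp b.2.2 _ a.2.1))⟩⟩

omit [Finite G] in
theorem mem_normalizer_centralizer {a : G} {B : Subgroup G}
    (ha : a ∈ Subgroup.normalizer (B : Set G)) :
    a ∈ Subgroup.normalizer (Subgroup.centralizer (B : Set G) : Set G) := by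
  rw [Subgroup.mem_normalizer_iff]
  intro c
  simp only [Subgroup.mem_centralizer_iff, SetLike.mem_coe]
  constructor
  · intro hc y hy
    have h1 := hc _ (Cfsg.Agent.CoprimeAction.conj_mem' ha hy)
    calc y * (a * c * a⁻¹) = a * ((a⁻¹ * y * a) * c) * a⁻¹ := by group
      _ = a * c * a⁻¹ * y := by rw [h1]; group
  · intro hc y hy
    have h1 := hc _ (Cfsg.Agent.CoprimeAction.conj_mem ha hy)
    calc y * c = a⁻¹ * ((a * y * a⁻¹) * (a * c * a⁻¹)) * a := by group
      _ = c * y := by rw [h1]; group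

omit [Finite G] in
theorem HHData.x_mem_normalizer_ctr (h : HHData p q e ρ x Q) :
    x ∈ Subgroup.normalizer (ctr Q : Set G) :=
  Cfsg.Agent.CoprimeAction.le_normalizer_inf (A := Subgroup.zpowers x) (H := Q)
    (K := Subgroup.centralizer (Q : Set G)) (Subgroup.zpowers_le.mpr h.hxQ)
    (Subgroup.zpowers_le.mpr (mem_normalizer_centralizer h.hxQ))
    (Subgroup.mem_zpowers x)

/-- An abelian invariant subgroup on which `x₀` is fixed point free is trivial. -/
theorem HHData.eq_bot_of_fpf (h : HHData p q e ρ x Q) (hfaith : Function.Injective ρ)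
    {B : Subgroup G} (hBQ : B ≤ Q) (hBab : IsMulCommutative B)
    (hBn : x ∈ Subgroup.normalizer (B : Set G))
    (hfix : ∀ b ∈ B, b * x ^ p ^ (e - 1) = x ^ p ^ (e - 1) * b → b = 1) : B = ⊥ := by
  refine (Subgroup.eq_bot_iff_forall B).mpr fun b hb => hfaith ?_
  rw [map_one]
  let α : MulAut B := Subgroup.normalizerMonoidHom B ⟨x, hBn⟩
  refine eq_one_of_abelian_fpf (X := ρ x) (α := α) (ρ.comp B.subtype)
    (Nat.one_le_pow _ _ h.hp.pos) h.hN ?_ ?_ (h.card_ne_zero hBQ) ?_ ⟨b, hb⟩
  · intro u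
    show ρ x * ρ u = ρ (x * u * x⁻¹) * ρ x
    rw [← map_mul, ← map_mul, inv_mul_cancel_right]
  · intro u w
    show ρ u * ρ w = ρ w * ρ u
    rw [← map_mul, ← map_mul]
    exact congrArg ρ (congrArg Subtype.val (hBab.is_comm.comm u w))
  · intro k hk0 hk u hu
    have h1 : ((α ^ k) u : B) = u := Subtype.ext (hfaith hu)
    rw [← map_pow] at h1
    have h2 : x ^ k * u * (x ^ k)⁻¹ = u := congrArg Subtype.val h1
    obtain ⟨l, hl⟩ := exists_pow_eq_top_power h.hp h.hxe hk0 hk
    have h3 : (u : G) = 1 := by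
      refine hfix u u.2 (Eq.symm ?_)
      rw [← hl]
      exact (Commute.pow_left (mul_inv_eq_iff_eq_mul.mp h2 : Commute (x ^ k) (u : G)) l).eq
    show ρ u = 1
    rw [h3, map_one]

theorem HHData.x0_comm_ctr (h : HHData p q e ρ x Q) (hfaith : Function.Injective ρ) {a : G}
    (ha : a ∈ ctr Q) : Commute (x ^ p ^ (e - 1)) a := by
  set x0 := x ^ p ^ (e - 1) with hx0
  have hAn := h.x_mem_normalizer_ctr
  have hAab := ctr_comm (Q := Q)
  have hle : ⁅ctr Q, Subgroup.zpowers x0⁆ ≤ ctr Q :=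
    Cfsg.Agent.CoprimeAction.commutator_le_self_of_le_normalizer
      (Subgroup.zpowers_le.mpr (pow_mem hAn _))
  have hB : ⁅ctr Q, Subgroup.zpowers x0⁆ = ⊥ := by
    refine h.eq_bot_of_fpf hfaith (hle.trans inf_le_left) ?_ ?_ ?_
    · exact ⟨⟨fun a b => Subtype.ext (Subgroup.mem_centralizer_iff.mp (hle b.2).2 _ (hle a.2).1)⟩⟩
    · rw [Subgroup.mem_normalizer_iff_map_conj_eq, Subgroup.map_commutator,
        MonoidHom.map_zpowers, Subgroup.mem_normalizer_iff_map_conj_eq.mp hAn]
      congr 2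
      show x * x0 * x⁻¹ = x0
      rw [hx0, ← pow_succ', pow_succ, mul_inv_cancel_right]
    · intro b hb hbx
      have h1 := Cfsg.Agent.CoprimeAction.inf_centralizer_inf_commutator_eq_bot
        (A := Subgroup.zpowers x0) (V := ctr Q) (Subgroup.zpowers_le.mpr (pow_mem hAn _))
        (h.coprime_x0 inf_le_left)
      have hmem : b ∈ (ctr Q ⊓ Subgroup.centralizer (Subgroup.zpowers x0 : Set G)) ⊓
          ⁅ctr Q, Subgroup.zpowers x0⁆ := by
        refine ⟨⟨hle hb, Subgroup.mem_centralizer_iff.mpr fun y hy => ?_⟩, hb⟩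
        obtain ⟨l, rfl⟩ := Subgroup.mem_zpowers_iff.mp hy
        exact (Commute.zpow_left (hbx.symm : Commute x0 b) l).eq
      rwa [h1, Subgroup.mem_bot] at hmem
  exact Subgroup.mem_centralizer_iff.mp (Subgroup.commutator_eq_bot_iff_le_centralizer.mp hB ha) x0
    (Subgroup.mem_zpowers x0)

theorem HHData.not_comm (h : HHData p q e ρ x Q) (hfaith : Function.Injective ρ) :
    ¬ IsMulCommutative Q := by
  intro hc
  obtain ⟨u, hu, hu1⟩ := h.hnt
  refine hu1 ?_
  have hQA : Q ≤ ctr Q := le_inf le_rfl fun a ha => Subgroup.mem_centralizer_iff.mpr fun b hb =>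
    congrArg Subtype.val (hc.is_comm.comm (⟨b, hb⟩ : Q) ⟨a, ha⟩)
  have : ⁅Q, Subgroup.zpowers (x ^ p ^ (e - 1))⁆ = ⊥ := by
    rw [Subgroup.commutator_eq_bot_iff_le_centralizer]
    intro a ha
    refine Subgroup.mem_centralizer_iff.mpr fun y hy => ?_
    obtain ⟨l, rfl⟩ := Subgroup.mem_zpowers_iff.mp hy
    exact (Commute.zpow_left (h.x0_comm_ctr hfaith (hQA ha)) l).eq
  rw [h.hgen] at this
  rw [this, Subgroup.mem_bot] at hu
  rw [hu, map_one]

omit [Finite G] in
theorem HHData.comm_le_ctr (h : HHData p q e ρ x Q) : ⁅Q, Q⁆ ≤ ctr Q :=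
  le_inf Q.commutator_le_self (Subgroup.commutator_eq_bot_iff_le_centralizer.mp h.hcl)

/-- An element of `Q` fixed by `x₀` modulo the centre is central. -/
theorem HHData.mem_ctr_of_fixed (h : HHData p q e ρ x Q) (hfaith : Function.Injective ρ) {u : G}
    (hu : u ∈ Q) (hfix : x ^ p ^ (e - 1) * u * (x ^ p ^ (e - 1))⁻¹ * u⁻¹ ∈ ctr Q) : u ∈ ctr Q := by
  set x0 := x ^ p ^ (e - 1)
  have hxA : x0 ∈ Subgroup.normalizer (ctr Q : Set G) := pow_mem h.x_mem_normalizer_ctr _
  have hx0n : x0 ∈ Subgroup.normalizer (Q : Set G) := pow_mem h.hxQ _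
  have hk : u⁻¹ * x0 * u * x0⁻¹ ∈ ctr Q := by
    have e1 : u⁻¹ * x0 * u * x0⁻¹ = u⁻¹ * ((x0 * u * x0⁻¹ * u⁻¹) * u) := by group
    rw [e1, ← Subgroup.mem_centralizer_iff.mp hfix.2 u hu, inv_mul_cancel_left]
    exact hfix
  obtain ⟨c, hxc, hc2⟩ := Cfsg.Agent.CoprimeAction.exists_fixed_mem_coset_zpowers hxA
    (by rw [← Nat.card_zpowers]; exact h.coprime_x0 inf_le_left) u hk
  have hcQ : c ∈ Q := by
    have := Q.mul_mem hu hc2.1
    rwa [mul_inv_cancel_left] at this
  have hcc : c ∈ Subgroup.centralizer (Q : Set G) := by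
    suffices hle : ⁅Q, Subgroup.zpowers x0⁆ ≤ Subgroup.centralizer {c} by
      rw [h.hgen] at hle
      exact Subgroup.mem_centralizer_iff.mpr fun y hy =>
        Subgroup.mem_centralizer_singleton_iff.mp (hle hy)
    rw [Subgroup.commutator_le]
    intro w hw z hz
    rw [Subgroup.mem_centralizer_singleton_iff]
    obtain ⟨i, rfl⟩ := mem_powers_iff_mem_zpowers.2 hz
    show ⁅w, x0 ^ i⁆ * c = c * ⁅w, x0 ^ i⁆
    set z := x0 ^ i
    have hwz : z * w * z⁻¹ ∈ Q := Cfsg.Agent.CoprimeAction.conj_mem (pow_mem hx0n i) hw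
    have eA : ⁅w, c⁆ ∈ ctr Q := h.comm_le_ctr (Subgroup.commutator_mem_commutator hw hcQ)
    have hzc : z * c * z⁻¹ = c := by
      rw [mul_inv_eq_iff_eq_mul]; exact (Commute.pow_left hxc i).eq
    have hzA : z * ⁅w, c⁆ * z⁻¹ = ⁅w, c⁆ := by
      rw [mul_inv_eq_iff_eq_mul]; exact ((h.x0_comm_ctr hfaith eA).pow_left i).eq
    have e2 : ⁅z * w * z⁻¹, c⁆ = ⁅w, c⁆ := by
      have := map_commutatorElement (MulAut.conj z).toMonoidHom w c
      simp only [MulEquiv.coe_toMonoidHom, MulAut.conj_apply, hzA, hzc] at this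
      exact this.symm
    have e3 : ⁅w, z⁆ = w * (z * w * z⁻¹)⁻¹ := by simp only [commutatorElement_def]; group
    -- `⁅·, c⁆` takes equal values on `w` and `z w z⁻¹`
    have f1 : w * c = ⁅w, c⁆ * c * w := by simp only [commutatorElement_def]; group
    have f2 : z * w * z⁻¹ * c = ⁅w, c⁆ * c * (z * w * z⁻¹) := by
      rw [← e2]; simp only [commutatorElement_def]; group
    have hb : ∀ g ∈ Q, g * ⁅w, c⁆ = ⁅w, c⁆ * g := fun g hg =>
      Subgroup.mem_centralizer_iff.mp eA.2 g hg
    have f3 : (z * w * z⁻¹)⁻¹ * (⁅w, c⁆ * c) = c * (z * w * z⁻¹)⁻¹ := by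
      rw [inv_mul_eq_iff_eq_mul, ← mul_assoc, eq_mul_inv_iff_mul_eq]
      exact f2.symm
    have f4 : ⁅w, c⁆ * ((z * w * z⁻¹)⁻¹ * c) = c * (z * w * z⁻¹)⁻¹ := by
      rw [← f3, ← mul_assoc, ← hb _ (Q.inv_mem hwz), mul_assoc]
    rw [e3]
    refine mul_left_cancel (a := ⁅w, c⁆) ?_
    calc ⁅w, c⁆ * (w * (z * w * z⁻¹)⁻¹ * c) = w * (⁅w, c⁆ * ((z * w * z⁻¹)⁻¹ * c)) := by
          rw [← mul_assoc w ⁅w, c⁆, hb w hw]; simp only [mul_assoc]
      _ = ⁅w, c⁆ * (c * (w * (z * w * z⁻¹)⁻¹)) := by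
          rw [f4, ← mul_assoc w c, f1]; simp only [mul_assoc]
  have := (ctr Q).mul_mem (⟨hcQ, hcc⟩ : c ∈ ctr Q) ((ctr Q).inv_mem hc2)
  rwa [mul_inv_rev, inv_inv, mul_inv_cancel_left] at this

theorem HHData.exceptional_of_scalar [IsAlgClosed K] [FiniteDimensional K W]
    (h : HHData p q e ρ x Q) (hfaith : Function.Injective ρ)
    (hirr : ∀ U : Submodule K W, (∀ u ∈ Q, ∀ w ∈ U, ρ u w ∈ U) → (∀ w ∈ U, ρ x w ∈ U) →
      U = ⊥ ∨ U = ⊤)
    (hscal : ∀ a ∈ ctr Q, ∃ c : K, ρ a = c • 1) :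
    ∃ j, 0 < j ∧ q ^ j < p ^ e ∧ p ^ e ∣ (q ^ j) ^ 2 - 1 ∧
      Nat.card Q = (q ^ j) ^ 2 * Nat.card (ctr Q) := by
  have hqf := Fact.mk h.hq
  have : Nontrivial W := by
    obtain ⟨u, _, hu⟩ := h.hnt
    rcases subsingleton_or_nontrivial W with hs | hs
    · exact absurd (Subsingleton.elim _ _) hu
    · exact hs
  let r : Q →* Module.End K W := ρ.comp Q.subtype
  let α : MulAut Q := Subgroup.normalizerMonoidHom Q ⟨x, h.hxQ⟩
  have hαk : ∀ (k : ℕ) (u : Q), (((α ^ k) u : Q) : G) = x ^ k * u * (x ^ k)⁻¹ := by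
    intro k u
    rw [← map_pow]
    rfl
  have hmemA : ∀ u : Q, u ∈ scal r → (u : G) ∈ ctr Q := by
    rintro u ⟨c, hc⟩
    refine ⟨u.2, Subgroup.mem_centralizer_iff.mpr fun y _ => hfaith ?_⟩
    change ρ (u : G) = c • 1 at hc
    rw [map_mul, map_mul, hc, mul_smul_comm, mul_one, smul_one_mul]
  have h2m : 2 ≤ p ^ e := h.hp.two_le.trans (Nat.le_self_pow (by have := h.he; omega) p)
  obtain ⟨h1, h2, h3⟩ := core r (X := ρ x) (α := α) (p ^ e) h2m
    (by rw [← map_pow, h.hxe, map_one])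
    (MulEquiv.ext fun u => Subtype.ext (by rw [hαk, h.hxe]; simp))
    (fun u => by
      show ρ x * ρ u = ρ (x * u * x⁻¹) * ρ x
      rw [← map_mul, ← map_mul, inv_mul_cancel_right])
    (h.card_ne_zero le_rfl) (fun U h1 h2 => hirr U (fun u hu => h1 ⟨u, hu⟩) h2)
    (fun u w => hscal _ (h.comm_le_ctr (Subgroup.commutator_mem_commutator u.2 w.2)))
    (fun u hu => by
      by_contra hall
      push Not at hall
      refine hu (hscal _ ⟨u.2, Subgroup.mem_centralizer_iff.mpr fun y hy => ?_⟩)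
      exact commutatorElement_eq_one_iff_mul_comm.mp
        (hfaith ((hall ⟨y, hy⟩).trans (map_one ρ).symm)))
    (fun k hk0 hk u hu => by
      refine hscal _ (h.mem_ctr_of_fixed hfaith u.2 ?_)
      have h1 := hmemA _ hu
      rw [Subgroup.coe_mul, Subgroup.coe_inv, hαk] at h1
      obtain ⟨l, hl⟩ := exists_pow_eq_top_power h.hp h.hxe hk0 hk
      rw [← hl]
      clear hl
      induction l with
      | zero => simp
      | succ l ihl =>
        have h2 : (x ^ k) ^ (l + 1) * u * ((x ^ k) ^ (l + 1))⁻¹ * (u : G)⁻¹ =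
            (x ^ k) * ((x ^ k) ^ l * u * ((x ^ k) ^ l)⁻¹ * (u : G)⁻¹) *
              (x ^ k)⁻¹ * (x ^ k * u * (x ^ k)⁻¹ * (u : G)⁻¹) := by
          rw [pow_succ']; group
        show (x ^ k) ^ (l + 1) * (u : G) * ((x ^ k) ^ (l + 1))⁻¹ * (u : G)⁻¹ ∈ ctr Q
        rw [h2]
        exact (ctr Q).mul_mem
          (Cfsg.Agent.CoprimeAction.conj_mem (pow_mem h.x_mem_normalizer_ctr k) ihl) h1)
    h.hN
  obtain ⟨k, hk⟩ := IsPGroup.iff_card.mp h.hQ
  obtain ⟨i, -, hij⟩ := (Nat.dvd_prime_pow h.hq).mp (hk ▸ (scal r).index_dvd_card)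
  obtain ⟨j, -, hD⟩ := (Nat.dvd_prime_pow h.hq).mp
    ((dvd_pow_self (finrank K W) two_ne_zero).trans ((h1.symm.trans hij).dvd))
  refine ⟨j, Nat.pos_of_ne_zero fun hj0 => h.not_comm hfaith ?_, hD ▸ h2, hD ▸ h3, ?_⟩
  swap
  · have hmap : (scal r).map Q.subtype = ctr Q := by
      refine le_antisymm ?_ fun a ha => ⟨⟨a, ha.1⟩, hscal a ha, rfl⟩
      rintro _ ⟨u, hu, rfl⟩
      exact hmemA u hu
    rw [← hD, ← h1, ← hmap, Subgroup.card_map_of_injective Q.subtype_injective,
      Subgroup.index_mul_card]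
  rw [hj0, pow_zero] at hD
  rw [hD, one_pow, Subgroup.index_eq_one] at h1
  exact ⟨⟨fun a b => Subtype.ext
    (Subgroup.mem_centralizer_iff.mp (hmemA b (h1 ▸ Subgroup.mem_top b)).2 _ a.2)⟩⟩

/-- A commutative group of operators has a common eigenvector. -/
theorem exists_eigencharacter [IsAlgClosed K] [FiniteDimensional K W] [Nontrivial W]
    {A : Type*} [Group A] (r : A →* Module.End K W) (hc : ∀ a b, r a * r b = r b * r a) :
    ∃ (l : A →* K) (w : W), w ≠ 0 ∧ ∀ a, r a w = l a • w := by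
  classical
  let P : ℕ → Prop := fun d => ∃ U : Submodule K W, U ≠ ⊥ ∧ finrank K U = d ∧
    ∀ a, ∀ w ∈ U, r a w ∈ U
  have hP : ∃ d, P d := ⟨_, ⊤, top_ne_bot, rfl, fun _ _ _ => Submodule.mem_top⟩
  obtain ⟨U, hU0, hUd, hUinv⟩ := Nat.find_spec hP
  have hsc : ∀ a, ∃ c : K, ∀ w ∈ U, r a w = c • w := by
    intro a
    have : Nontrivial U := Submodule.nontrivial_iff_ne_bot.mpr hU0
    obtain ⟨c, hcc⟩ := Module.End.exists_eigenvalue ((r a).restrict (hUinv a))
    refine ⟨c, fun w hw => ?_⟩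
    set U' := U ⊓ Module.End.eigenspace (r a) c
    have hU'inv : ∀ b, ∀ w ∈ U', r b w ∈ U' := by
      intro b w hw
      refine ⟨hUinv b w hw.1, ?_⟩
      have h1 := Module.End.mem_eigenspace_iff.mp hw.2
      rw [SetLike.mem_coe, Module.End.mem_eigenspace_iff, ← Module.End.mul_apply, hc,
        Module.End.mul_apply, h1, map_smul]
    have hU'0 : U' ≠ ⊥ := by
      obtain ⟨v, hv⟩ := hcc.exists_hasEigenvector
      refine (Submodule.ne_bot_iff _).mpr ⟨(v : W), ⟨v.2, ?_⟩, fun h => hv.2 (Subtype.ext h)⟩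
      exact Module.End.mem_eigenspace_iff.mpr (congrArg Subtype.val hv.apply_eq_smul)
    have hle : finrank K U ≤ finrank K U' := hUd ▸ Nat.find_min' hP ⟨U', hU'0, rfl, hU'inv⟩
    exact Module.End.mem_eigenspace_iff.mp
      ((Submodule.eq_of_le_of_finrank_le inf_le_left hle).symm.le hw).2
  choose c hcs using hsc
  obtain ⟨w, hw, hw0⟩ := (Submodule.ne_bot_iff _).mp hU0
  refine ⟨{ toFun := c, map_one' := ?_, map_mul' := fun a b => ?_ }, w, hw0, fun a => hcs a w hw⟩
  · have := hcs 1 w hw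
    rw [map_one, Module.End.one_apply] at this
    exact smul_left_injective K hw0 (this.symm.trans (one_smul K w).symm)
  · have := hcs (a * b) w hw
    rw [map_mul, Module.End.mul_apply, hcs b w hw, map_smul, hcs a w hw, smul_smul, mul_comm] at this
    exact smul_left_injective K hw0 this.symm

/-- Descent to an eigenspace of a non-scalar central element. -/
theorem HHData.exists_descent [IsAlgClosed K] [FiniteDimensional K W]
    (h : HHData p q e ρ x Q) (hfaith : Function.Injective ρ)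
    (hirr : ∀ U : Submodule K W, (∀ u ∈ Q, ∀ w ∈ U, ρ u w ∈ U) → (∀ w ∈ U, ρ x w ∈ U) →
      U = ⊥ ∨ U = ⊤)
    {a0 : G} (ha0A : a0 ∈ ctr Q) (ha0 : ∀ c : K, ρ a0 ≠ c • 1) :
    ∃ (U : Submodule K W) (f : ℕ), U ≠ ⊤ ∧ f < e ∧ (∀ u ∈ Q, ∀ w ∈ U, ρ u w ∈ U) ∧
      (∀ w ∈ U, ρ (x ^ p ^ f) w ∈ U) ∧ (∃ u ∈ Q, ∃ w ∈ U, ρ u w ≠ w) ∧
      (∀ w ∈ U, ∑ j ∈ Finset.range (p ^ (e - f)), (ρ (x ^ p ^ f) ^ j) w = 0) ∧
      ∃ l : ↥(ctr Q) →* K, U ≠ ⊥ ∧
        (∀ w, w ∈ U ↔ ∀ a : ↥(ctr Q), ρ (a : G) w = l a • w) ∧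
        ∀ a b : ↥(ctr Q), (b : G) = x ^ p ^ f * a * (x ^ p ^ f)⁻¹ → l b = l a := by
  classical
  have : Nontrivial W := by
    rcases subsingleton_or_nontrivial W with hs | hs
    · exact absurd (Subsingleton.elim _ _) (ha0 1)
    · exact hs
  set A := ctr Q
  have hAn := h.x_mem_normalizer_ctr
  obtain ⟨l, wv, hwv, hl⟩ := exists_eigencharacter (ρ.comp A.subtype) fun a b => by
    show ρ a * ρ b = ρ b * ρ a
    rw [← map_mul, ← map_mul]
    exact congrArg ρ (congrArg Subtype.val ((ctr_comm (Q := Q)).is_comm.comm a b))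
  let αA : MulAut A := Subgroup.normalizerMonoidHom A ⟨x, hAn⟩
  have hαA : ∀ (k : ℕ) (a : A), (((αA ^ k) a : A) : G) = x ^ k * a * (x ^ k)⁻¹ := by
    intro k a
    rw [← map_pow]
    rfl
  let τ : (↥A →* K) → (↥A →* K) := fun χ => χ.comp αA.toMonoidHom
  have hτ : ∀ (k : ℕ) a, (τ^[k] l) a = l ((αA ^ k) a) := by
    intro k
    induction k with
    | zero => intro a; rfl
    | succ k ihk =>
      intro a
      rw [Function.iterate_succ_apply', pow_succ, MulAut.mul_apply]
      exact ihk (αA a)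
  set per := Function.minimalPeriod τ l
  have hper0 : Function.IsPeriodicPt τ (p ^ (e - 1)) l := by
    refine MonoidHom.ext fun a => ?_
    rw [hτ]
    congr 1
    refine Subtype.ext ?_
    rw [hαA, mul_inv_eq_iff_eq_mul]
    exact (h.x0_comm_ctr hfaith a.2).eq
  obtain ⟨f, hf, hperf⟩ := (Nat.dvd_prime_pow h.hp).mp hper0.minimalPeriod_dvd
  change per = p ^ f at hperf
  let Wl : Submodule K W := ⨅ a : A, LinearMap.ker (ρ (a : G) - l a • 1)
  have hmemW : ∀ w, w ∈ Wl ↔ ∀ a : A, ρ (a : G) w = l a • w := by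
    intro w
    simp [Wl, sub_eq_zero]
  have hWlQ : ∀ u ∈ Q, ∀ w ∈ Wl, ρ u w ∈ Wl := by
    intro u hu w hw
    rw [hmemW] at hw ⊢
    intro a
    rw [← Module.End.mul_apply, ← map_mul, ← Subgroup.mem_centralizer_iff.mp a.2.2 u hu,
      map_mul, Module.End.mul_apply, hw, map_smul]
  have hWlx : ∀ k, per ∣ k → ∀ w ∈ Wl, ρ (x ^ k) w ∈ Wl := by
    intro k hk w hw
    rw [hmemW] at hw ⊢
    intro a
    have hfix : Function.IsPeriodicPt τ k l := Function.isPeriodicPt_iff_minimalPeriod_dvd.mpr hk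
    obtain ⟨b, rfl⟩ := (αA ^ k).surjective a
    have h1 : l ((αA ^ k) b) = l b := by
      rw [← hτ]
      exact DFunLike.congr_fun hfix b
    rw [← Module.End.mul_apply, ← map_mul, hαA, inv_mul_cancel_right, map_mul,
      Module.End.mul_apply, hw, map_smul, h1]
  have hWl0 : Wl ≠ ⊥ := (Submodule.ne_bot_iff _).mpr ⟨wv, (hmemW wv).mpr hl, hwv⟩
  have hWltop : Wl ≠ ⊤ := fun ht => ha0 (l ⟨a0, ha0A⟩) (LinearMap.ext fun w => by
    simpa using (hmemW w).mp (ht ▸ Submodule.mem_top) ⟨a0, ha0A⟩)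
  refine ⟨Wl, f, hWltop, by have := h.he; omega, hWlQ, hWlx _ (hperf ▸ dvd_rfl), ?_, ?_, l, hWl0,
    hmemW, fun a b hab => ?_⟩
  rotate_left 2
  · have hb : b = (αA ^ p ^ f) a := Subtype.ext (hab.trans (hαA _ a).symm)
    have hfix : Function.IsPeriodicPt τ (p ^ f) l :=
      Function.isPeriodicPt_iff_minimalPeriod_dvd.mpr (hperf ▸ dvd_rfl)
    rw [hb, ← hτ]
    exact DFunLike.congr_fun hfix a
  · by_contra hno
    push Not at hno
    let F : Submodule K W := ⨅ u : Q, LinearMap.ker (ρ (u : G) - 1)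
    have hmemF : ∀ w, w ∈ F ↔ ∀ u ∈ Q, ρ u w = w := by
      intro w
      simp [F, sub_eq_zero]
    have h1 : ∀ u ∈ Q, ∀ w ∈ F, ρ u w ∈ F := fun u hu w hw => by
      rw [(hmemF w).mp hw u hu]; exact hw
    have h2 : ∀ w ∈ F, ρ x w ∈ F := by
      intro w hw
      rw [hmemF] at hw ⊢
      intro u hu
      have hu' : x⁻¹ * u * x ∈ Q := Cfsg.Agent.CoprimeAction.conj_mem' h.hxQ hu
      conv_rhs => rw [← hw _ hu']
      rw [← Module.End.mul_apply, ← Module.End.mul_apply, ← map_mul, ← map_mul]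
      congr 2
      group
    rcases hirr F h1 h2 with hF | hF
    · exact hWl0 (le_bot_iff.mp fun w hw => hF ▸ (hmemF w).mpr fun u hu => hno u hu w hw)
    · obtain ⟨u, hu, hu1⟩ := h.hnt
      exact hu1 (LinearMap.ext fun w => (hmemF w).mp (hF ▸ Submodule.mem_top) u hu)
  · intro w hw
    have : Fintype A := Fintype.ofFinite A
    have hnonfix : ∀ k, ¬ per ∣ k → ∑ a : A, l a⁻¹ • ρ a (ρ (x ^ k) w) = 0 := by
      intro k hk
      obtain ⟨b, hb⟩ : ∃ b, l ((αA ^ k) b) ≠ l b := by
        by_contra hall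
        push Not at hall
        refine hk (Function.isPeriodicPt_iff_minimalPeriod_dvd.mp ?_)
        exact MonoidHom.ext fun b => (hτ k b).trans (hall b)
      set T := ∑ a : A, l a⁻¹ • ρ a (ρ (x ^ k) w)
      set c := (αA ^ k) b
      have h2 : ∑ a : A, l a⁻¹ • ρ a (ρ c (ρ (x ^ k) w)) = l c • T := by
        rw [Finset.smul_sum]
        refine Eq.trans (Finset.sum_congr rfl fun a _ => ?_)
          (Equiv.sum_comp (Equiv.mulRight c) fun a => l c • l a⁻¹ • ρ a (ρ (x ^ k) w))
        rw [Equiv.coe_mulRight, ← Module.End.mul_apply (ρ a), ← map_mul, smul_smul, ← map_mul]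
        congr 1
        rw [mul_inv_rev, mul_inv_cancel_left]
      have h3 : ρ c (ρ (x ^ k) w) = l b • ρ (x ^ k) w := by
        rw [← Module.End.mul_apply, ← map_mul, hαA, inv_mul_cancel_right, map_mul,
          Module.End.mul_apply, (hmemW w).mp hw, map_smul]
      simp only [h3, map_smul] at h2
      rw [← sub_eq_zero, Finset.sum_congr rfl fun a _ => smul_comm (l a⁻¹) (l b) _,
        ← Finset.smul_sum, ← sub_smul, smul_eq_zero, sub_eq_zero] at h2
      exact h2.resolve_left (Ne.symm hb)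
    have hfixk : ∀ k, per ∣ k →
        ∑ a : A, l a⁻¹ • ρ a (ρ (x ^ k) w) = Fintype.card A • ρ (x ^ k) w := by
      intro k hk
      rw [Finset.sum_congr rfl (g := fun _ => ρ (x ^ k) w) ?_, Finset.sum_const, Finset.card_univ]
      intro a _
      rw [(hmemW _).mp (hWlx k hk w hw) a, smul_smul, ← map_mul, inv_mul_cancel, map_one, one_smul]
    have h0 : ∑ k ∈ Finset.range (p ^ e), ∑ a : A, l a⁻¹ • ρ a (ρ (x ^ k) w) = 0 := by
      rw [Finset.sum_comm]
      refine Finset.sum_eq_zero fun a _ => ?_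
      have := LinearMap.congr_fun h.hN w
      simp only [LinearMap.sum_apply, ← map_pow, LinearMap.zero_apply] at this
      rw [← Finset.smul_sum, ← map_sum, this, map_zero, smul_zero]
    rw [← Finset.sum_filter_add_sum_filter_not _ fun k => per ∣ k,
      Finset.sum_eq_zero (s := Finset.filter (fun k => ¬ per ∣ k) _)
        (fun k hk => hnonfix k (Finset.mem_filter.mp hk).2), add_zero,
      Finset.sum_congr rfl fun k hk => hfixk k (Finset.mem_filter.mp hk).2,
      ← Finset.smul_sum, ← Nat.cast_smul_eq_nsmul K, smul_eq_zero] at h0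
    have hA' : ((Fintype.card A : ℕ) : K) ≠ 0 := by
      rw [← Nat.card_eq_fintype_card]; exact h.card_ne_zero inf_le_left
    refine Eq.trans ?_ (h0.resolve_left hA')
    have hpf := pow_pos h.hp.pos f
    refine Finset.sum_bij' (fun j _ => p ^ f * j) (fun k _ => k / p ^ f) ?_ ?_ ?_ ?_ ?_
    · intro j hj
      refine Finset.mem_filter.mpr ⟨Finset.mem_range.mpr ?_, hperf ▸ dvd_mul_right _ _⟩
      rw [show p ^ e = p ^ f * p ^ (e - f) by rw [← pow_add, Nat.add_sub_cancel' (by omega)]]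
      exact Nat.mul_lt_mul_of_pos_left (Finset.mem_range.mp hj) hpf
    · intro k hk
      obtain ⟨hk1, -⟩ := Finset.mem_filter.mp hk
      refine Finset.mem_range.mpr ((Nat.div_lt_iff_lt_mul hpf).mpr ?_)
      rw [← pow_add, Nat.sub_add_cancel (by omega)]
      exact Finset.mem_range.mp hk1
    · intro j _
      exact Nat.mul_div_cancel_left _ hpf
    · intro k hk
      exact Nat.mul_div_cancel' (hperf ▸ (Finset.mem_filter.mp hk).2)
    · intro j _
      rw [← map_pow, ← pow_mul]

/-- An element of order prime to the characteristic trivial on `U` and `W/U` is trivial. -/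
theorem eq_one_of_unipotent {T : Module.End K W} {n : ℕ} (hn : (n : K) ≠ 0) (hT : T ^ n = 1)
    (U : Submodule K W) (h1 : ∀ w ∈ U, T w = w) (h2 : ∀ w, T w - w ∈ U) : T = 1 := by
  set f := T - 1
  have hf2 : f * f = 0 := LinearMap.ext fun w => by
    show T (T w - w) - (T w - w) = 0
    rw [h1 _ (h2 w), sub_self]
  have hpow : ∀ k : ℕ, T ^ k = 1 + k • f := by
    intro k
    induction k with
    | zero => simp
    | succ k ihk =>
      rw [pow_succ, ihk, show T = 1 + f from (add_sub_cancel 1 T).symm, mul_add,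
        mul_one, add_mul, one_mul, smul_mul_assoc, hf2, smul_zero, add_zero, add_smul,
        one_smul, add_assoc]
  have := hpow n
  rw [hT, left_eq_add, ← Nat.cast_smul_eq_nsmul K, smul_eq_zero] at this
  exact sub_eq_zero.mp (this.resolve_left hn)

universe u v

theorem degree_bound_aux {K : Type*} [Field K] [IsAlgClosed K] {p q : ℕ} (n : ℕ) :
    ∀ (G : Type u) [Group G] [Finite G] (W : Type v) [AddCommGroup W] [Module K W]
      [FiniteDimensional K W] (ρ : Representation K G W) (x : G) (Q : Subgroup G) (e : ℕ),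
      finrank K W ≤ n → HHData p q e ρ x Q → Exceptional p q e ∧ ¬ IsMulCommutative Q := by
  induction n with
  | zero =>
    intro G _ _ W _ _ _ ρ x Q e hn h
    obtain ⟨u, -, hu⟩ := h.hnt
    have : Subsingleton W := Module.finrank_zero_iff.mp (Nat.le_zero.mp hn)
    exact absurd (Subsingleton.elim _ _) hu
  | succ n ih =>
    intro G _ _ W _ _ _ ρ x Q e hn h
    have hqf := Fact.mk h.hq
    by_cases hirr : ∀ U : Submodule K W, (∀ u ∈ Q, ∀ w ∈ U, ρ u w ∈ U) →
        (∀ w ∈ U, ρ x w ∈ U) → U = ⊥ ∨ U = ⊤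
    swap
    · -- reducible: pass to an invariant subspace or the quotient
      push Not at hirr
      obtain ⟨U, hUQ, hUx, hU0, hU1⟩ := hirr
      set H := preserving ρ U
      let x' : H := ⟨x, hUx⟩
      have hx' : H.subtype x' = x ^ p ^ 0 := by rw [pow_zero, pow_one]; rfl
      have hQr : Q ≤ H.subtype.range := fun u hu => ⟨⟨u, hUQ u hu⟩, rfl⟩
      have hab : ¬ IsMulCommutative (Q.comap H.subtype) → ¬ IsMulCommutative Q :=
        mt (comap_isMulCommutative H.subtype_injective)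
      have hdim := U.finrank_quotient_add_finrank
      have hUpos : 0 < finrank K U := by
        rw [Nat.pos_iff_ne_zero]
        exact fun h0 => hU0 (Submodule.finrank_eq_zero.mp h0)
      have hUlt : finrank K U < finrank K W := Submodule.finrank_lt hU1
      by_cases hs : ∃ u : H, (u : G) ∈ Q ∧ subRep ρ U u ≠ 1
      · refine (ih H U (subRep ρ U) x' _ (e - 0) (by omega)
          (h.pullback H.subtype_injective (subRep ρ U) h.he hx' hQr ?_ hs)).imp_right hab
        refine LinearMap.ext fun w => Subtype.ext ?_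
        have := LinearMap.congr_fun h.hN (w : W)
        rw [LinearMap.sum_apply, LinearMap.zero_apply] at this
        rw [LinearMap.sum_apply, Submodule.coe_sum]
        simp only [← map_pow] at this ⊢
        exact this
      · by_cases hq' : ∃ u : H, (u : G) ∈ Q ∧ quotRep ρ U u ≠ 1
        · refine (ih H (W ⧸ U) (quotRep ρ U) x' _ (e - 0) (by omega)
            (h.pullback H.subtype_injective (quotRep ρ U) h.he hx' hQr ?_ hq')).imp_right hab
          refine Submodule.linearMap_qext _ (LinearMap.ext fun w => ?_)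
          have := congrArg (Submodule.Quotient.mk (p := U)) (LinearMap.congr_fun h.hN w)
          rw [LinearMap.sum_apply, ← Submodule.mkQ_apply, map_sum] at this
          rw [LinearMap.comp_apply, LinearMap.sum_apply]
          simp only [← map_pow] at this ⊢
          exact this
        · push Not at hs hq'
          obtain ⟨u, hu, hu1⟩ := h.hnt
          obtain ⟨j, hj⟩ := h.hQ ⟨u, hu⟩
          have hj' : u ^ q ^ j = 1 := congrArg Subtype.val hj
          refine absurd (eq_one_of_unipotent (n := q ^ j) ?_ ?_ U ?_ ?_) hu1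
          · rw [Nat.cast_pow]; exact pow_ne_zero _ h.hqK
          · rw [← map_pow, hj', map_one]
          · intro w hw
            exact congrArg Subtype.val (LinearMap.congr_fun (hs ⟨u, hUQ u hu⟩ hu) ⟨w, hw⟩)
          · intro w
            exact (Submodule.Quotient.eq U).mp
              (LinearMap.congr_fun (hq' ⟨u, hUQ u hu⟩ hu) (Submodule.Quotient.mk w))
    -- irreducible: replace `G` by its image
    let π := QuotientGroup.mk' ρ.ker
    have h' := h.map_mk
    have hfaith : Function.Injective (imageRep ρ) := imageRep_injective ρ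
    have hirr' : ∀ U : Submodule K W, (∀ u ∈ Q.map π, ∀ w ∈ U, imageRep ρ u w ∈ U) →
        (∀ w ∈ U, imageRep ρ (π x) w ∈ U) → U = ⊥ ∨ U = ⊤ :=
      fun U h1 h2 => hirr U (fun u hu => h1 (π u) ⟨u, hu, rfl⟩) h2
    refine ⟨?_, fun hc => h'.not_comm hfaith ⟨⟨?_⟩⟩⟩
    · by_cases hscal : ∀ a ∈ ctr (Q.map π), ∃ c : K, imageRep ρ a = c • 1
      · obtain ⟨j, hj, hlt, hdvd, -⟩ := h'.exceptional_of_scalar hfaith hirr' hscal
        exact ⟨e, j, h.he, le_rfl, hj, hlt, hdvd⟩
      · push Not at hscal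
        obtain ⟨a0, ha0A, ha0⟩ := hscal
        obtain ⟨U, f, hUtop, hfe, hUQ, hUx, hUnt, hUN, -⟩ := h'.exists_descent hfaith hirr' ha0A ha0
        set H := preserving (imageRep ρ) U
        let x' : H := ⟨π x ^ p ^ f, hUx⟩
        have hlt : finrank K U < finrank K W := Submodule.finrank_lt hUtop
        obtain ⟨u, hu, w, hw, hne⟩ := hUnt
        obtain ⟨⟨a, j, ha1, ha2, hj⟩, -⟩ := ih H U (subRep _ U) x' _ (e - f) (by omega)
          (h'.pullback H.subtype_injective (subRep _ U) hfe (x' := x') rfl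
            (fun v hv => ⟨⟨v, hUQ v hv⟩, rfl⟩)
            (LinearMap.ext fun w => Subtype.ext (by
              rw [LinearMap.sum_apply, Submodule.coe_sum]
              have := hUN (w : W) w.2
              simp only [← map_pow] at this ⊢
              exact this))
            ⟨⟨u, hUQ u hu⟩, hu, fun hf => hne
              (congrArg Subtype.val (LinearMap.congr_fun hf ⟨w, hw⟩))⟩)
        exact ⟨a, j, ha1, ha2.trans (Nat.sub_le _ _), hj⟩
    · rintro ⟨_, a, ha, rfl⟩ ⟨_, b, hb, rfl⟩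
      refine Subtype.ext ?_
      show π a * π b = π b * π a
      rw [← map_mul, ← map_mul]
      exact congrArg π (congrArg Subtype.val (hc.is_comm.comm (⟨a, ha⟩ : Q) ⟨b, hb⟩))

/-- **Theorem B of Hall and Higman**, on a `q`-subgroup of class two. -/
theorem HHData.degree_bound [IsAlgClosed K] [FiniteDimensional K W] (h : HHData p q e ρ x Q) :
    Exceptional p q e ∧ ¬ IsMulCommutative Q :=
  degree_bound_aux _ G W ρ x Q e le_rfl h

/-- For odd `p` the exceptional configuration forces `q = 2` and `p ^ a = 2 ^ j + 1`. -/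
theorem Exceptional.odd {p q e : ℕ} (h : Exceptional p q e) (hp : p.Prime) (hp2 : p ≠ 2)
    (hq : q.Prime) : q = 2 ∧ ∃ a j, 1 ≤ a ∧ a ≤ e ∧ 0 < j ∧ p ^ a = 2 ^ j + 1 := by
  obtain ⟨a, j, ha1, hae, hj, hlt, hdvd⟩ := h
  set D := q ^ j with hD
  have hD2 : 2 ≤ D := hq.two_le.trans (Nat.le_self_pow (by omega) q)
  have hsq : D ^ 2 - 1 = (D + 1) * (D - 1) := by
    rw [← Nat.sq_sub_sq D 1, one_pow]
  rw [hsq] at hdvd
  have hodd : Odd (p ^ a) := (hp.odd_of_ne_two hp2).pow
  have hd : p ^ a ∣ D + 1 := by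
    by_cases hpd : p ∣ D - 1
    · exfalso
      have hn : ¬ p ∣ D + 1 := by
        intro h1
        have h2 : p ∣ 2 := by
          have := Nat.dvd_sub h1 hpd
          rwa [show D + 1 - (D - 1) = 2 by omega] at this
        exact hp2 ((Nat.prime_dvd_prime_iff_eq hp Nat.prime_two).mp h2)
      have := (Nat.Coprime.pow_left a (hp.coprime_iff_not_dvd.mpr hn)).dvd_of_dvd_mul_left hdvd
      have := Nat.le_of_dvd (by omega) this
      omega
    · exact (Nat.Coprime.pow_left a (hp.coprime_iff_not_dvd.mpr hpd)).dvd_of_dvd_mul_right hdvd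
  have heq : p ^ a = D + 1 := le_antisymm (Nat.le_of_dvd (by omega) hd) (by omega)
  have hq2 : q = 2 := by
    have hev : Even D := by
      rw [heq, Nat.odd_add_one, Nat.not_odd_iff_even] at hodd
      exact hodd
    rw [hD, Nat.even_pow] at hev
    exact (Nat.Prime.even_iff hq).mp hev.1
  refine ⟨hq2, a, j, ha1, hae, hj, ?_⟩
  rw [heq, hD, hq2]

end Cfsg.Agent.HallHigman
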