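import Mathlib
import Cfsg.Prelude.Def_Transfer
import Cfsg.Agent.Lib.CoprimeAction
import Cfsg.Agent.Lib.HallHigmanB

/-!
# Hall-Higman on elementary abelian groups

Conversion of an action on a finite abelian group of exponent `ℓ` into a representation over an
algebraically closed field, the reduction to a minimal `q`-subgroup, and Theorem B in group terms.
-/

set_option autoImplicit false

namespace Cfsg.Agent.HallHigman

open Module
open scoped commutatorElement

theorem exists_rep_aux {G M : Type*} [Group G] [AddCommGroup M] [Finite M] {ℓ : ℕ} [Fact ℓ.Prime]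
    [Module (ZMod ℓ) M] (ψ : G →* AddMonoid.End M) :
    ∃ (n : ℕ) (ρ : Representation (AlgebraicClosure (ZMod ℓ)) G
        (Fin n → AlgebraicClosure (ZMod ℓ))),
      (∀ g, ρ g = 1 ↔ ∀ v, ψ g v = v) ∧
      ∀ (x : G) (m : ℕ), ∑ k ∈ Finset.range m, ρ x ^ k = 0 ↔
        ∀ v : M, ∑ k ∈ Finset.range m, ψ (x ^ k) v = 0 := by
  classical
  let K := AlgebraicClosure (ZMod ℓ)
  let L : G →* Module.End (ZMod ℓ) M :=
    { toFun := fun g => AddMonoidHom.toZModLinearMap ℓ (ψ g)
      map_one' := LinearMap.ext fun v => by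
        show (ψ 1) v = v
        rw [map_one]
        rfl
      map_mul' := fun a b => LinearMap.ext fun v => by
        show (ψ (a * b)) v = (ψ a) ((ψ b) v)
        rw [map_mul]
        rfl }
  let bV := Module.finBasis (ZMod ℓ) M
  let n := Module.finrank (ZMod ℓ) M
  let Φ : Module.End (ZMod ℓ) M →+* Module.End K (Fin n → K) :=
    (((Matrix.toLinAlgEquiv' (R := K) (n := Fin n)).toRingEquiv.toRingHom).comp
      (algebraMap (ZMod ℓ) K).mapMatrix).comp (LinearMap.toMatrixAlgEquiv bV).toRingEquiv.toRingHom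
  have hΦ : Function.Injective Φ := by
    intro A B h
    have h1 := (Matrix.toLinAlgEquiv' (R := K) (n := Fin n)).injective h
    exact (LinearMap.toMatrixAlgEquiv bV).injective
      (Matrix.map_injective (algebraMap (ZMod ℓ) K).injective h1)
  refine ⟨n, (Φ.toMonoidHom).comp L, fun g => ?_, fun x m => ?_⟩
  · show Φ (L g) = 1 ↔ _
    rw [← map_one Φ, hΦ.eq_iff]
    exact ⟨fun h v => LinearMap.congr_fun h v, fun h => LinearMap.ext h⟩
  · have h1 : ∑ k ∈ Finset.range m, ((Φ.toMonoidHom).comp L) x ^ k =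
        Φ (∑ k ∈ Finset.range m, L (x ^ k)) := by
      rw [map_sum]
      refine Finset.sum_congr rfl fun k _ => ?_
      rw [← map_pow]
      rfl
    rw [h1, ← map_zero Φ, hΦ.eq_iff, LinearMap.ext_iff]
    simp only [LinearMap.sum_apply, LinearMap.zero_apply]
    rfl

/-- An action on an abelian group of prime exponent as a representation over an algebraically
closed field. -/
theorem exists_rep {G V : Type*} [Group G] [CommGroup V] [Finite V] {ℓ : ℕ} [Fact ℓ.Prime]
    (hV : ∀ v : V, v ^ ℓ = 1) (φ : G →* MulAut V) :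
    ∃ (n : ℕ) (ρ : Representation (AlgebraicClosure (ZMod ℓ)) G
        (Fin n → AlgebraicClosure (ZMod ℓ))),
      (∀ g, ρ g = 1 ↔ φ g = 1) ∧
      ∀ (x : G) (m : ℕ), ∑ k ∈ Finset.range m, ρ x ^ k = 0 ↔
        ∀ v : V, ∏ k ∈ Finset.range m, φ (x ^ k) v = 1 := by
  let ψ : G →* AddMonoid.End (Additive V) :=
    { toFun := fun g => MonoidHom.toAdditive (φ g).toMonoidHom
      map_one' := by rw [map_one]; rfl
      map_mul' := fun a b => by rw [map_mul]; rfl }
  obtain ⟨n, ρ, h1, h2⟩ := @exists_rep_aux G (Additive V) _ _ _ ℓ _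
    (AddCommGroup.zmodModule fun v => hV v.toMul) ψ
  refine ⟨n, ρ, fun g => (h1 g).trans ?_, fun x m => (h2 x m).trans ?_⟩
  · rw [MulEquiv.ext_iff]
    exact ⟨fun h v => Additive.ofMul.injective (h (Additive.ofMul v)),
      fun h v => congrArg Additive.ofMul (h v.toMul)⟩
  · have h3 : ∀ v : V, ∑ k ∈ Finset.range m, ψ (x ^ k) (Additive.ofMul v) =
        Additive.ofMul (∏ k ∈ Finset.range m, φ (x ^ k) v) := by
      intro v
      rw [ofMul_prod]
      rfl
    constructor
    · intro h v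
      exact Additive.ofMul.injective ((h3 v).symm.trans (h (Additive.ofMul v)))
    · intro h v
      have := h3 v.toMul
      rw [h v.toMul] at this
      exact this

variable {G : Type*} [Group G] [Finite G]

/-- A minimal `x`-invariant subgroup not centralised by `x₀` has class two and equals `[Q₁, x₀]`. -/
theorem exists_class_two {q : ℕ} [Fact q.Prime] {Q : Subgroup G} (hQ : IsPGroup q Q) {x x₀ : G}
    (hx₀ : x₀ ∈ Subgroup.zpowers x) (hxQ : x ∈ Subgroup.normalizer (Q : Set G))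
    (hcop : (orderOf x₀).Coprime q) (hnc : ¬ Q ≤ Subgroup.centralizer {x₀}) :
    ∃ Q₁ : Subgroup G, Q₁ ≤ Q ∧ x ∈ Subgroup.normalizer (Q₁ : Set G) ∧ ⁅⁅Q₁, Q₁⁆, Q₁⁆ = ⊥ ∧
      ⁅Q₁, Subgroup.zpowers x₀⁆ = Q₁ ∧ ¬ Q₁ ≤ Subgroup.centralizer {x₀} := by
  classical
  let P : ℕ → Prop := fun d => ∃ U : Subgroup G, Nat.card U = d ∧ U ≤ Q ∧
    x ∈ Subgroup.normalizer (U : Set G) ∧ ¬ U ≤ Subgroup.centralizer {x₀}
  have hP : ∃ d, P d := ⟨_, Q, rfl, le_rfl, hxQ, hnc⟩
  obtain ⟨U, hUd, hUQ, hxU, hU⟩ := Nat.find_spec hP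
  have hmin : ∀ W : Subgroup G, W ≤ U → x ∈ Subgroup.normalizer (W : Set G) →
      ¬ W ≤ Subgroup.centralizer {x₀} → W = U := fun W hWU hxW hW =>
    Subgroup.eq_of_le_of_card_ge hWU (hUd ▸ Nat.find_min' hP ⟨W, rfl, hWU.trans hUQ, hxW, hW⟩)
  set X := Subgroup.zpowers x₀
  have hcent : ∀ {W : Subgroup G}, W ≤ Subgroup.centralizer {x₀} ↔
      W ≤ Subgroup.centralizer (X : Set G) := by
    intro W
    rw [← Subgroup.centralizer_closure, ← Subgroup.zpowers_eq_closure]
  have hXU : X ≤ Subgroup.normalizer (U : Set G) := by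
    rw [Subgroup.zpowers_le]
    exact (Subgroup.zpowers_le.mpr hxU) hx₀
  have hxX : X.map (MulAut.conj x : G →* G) = X := by
    obtain ⟨k, rfl⟩ := Subgroup.mem_zpowers_iff.mp hx₀
    rw [show X = Subgroup.zpowers (x ^ k) from rfl, MonoidHom.map_zpowers]
    congr 1
    show x * x ^ k * x⁻¹ = x ^ k
    rw [← zpow_one_add, add_comm, zpow_add_one, mul_inv_cancel_right]
  have hcopU : (Nat.card X).Coprime (Nat.card U) := by
    obtain ⟨k, hk⟩ := IsPGroup.iff_card.mp (hQ.to_le hUQ)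
    rw [Nat.card_zpowers, hk]
    exact hcop.pow_right k
  have hsol : Group.IsSolvable X ∨ Group.IsSolvable U :=
    Or.inl (Cfsg.Agent.CoprimeAction.isSolvable_zpowers x₀)
  -- `U = [U, x₀]`
  have hLU : ⁅U, X⁆ = U := by
    have hle : ⁅U, X⁆ ≤ U := Cfsg.Agent.CoprimeAction.commutator_le_self_of_le_normalizer hXU
    refine hmin _ hle ?_ fun h => hU ?_
    · rw [Subgroup.mem_normalizer_iff_map_conj_eq, Subgroup.map_commutator, hxX,
        Subgroup.mem_normalizer_iff_map_conj_eq.mp hxU]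
    · rw [hcent] at h ⊢
      rw [Subgroup.le_centralizer_iff]
      refine Cfsg.Agent.CoprimeAction.le_centralizer_of_commutator_commutator_eq_bot hXU hcopU
        hsol ?_
      exact Subgroup.commutator_eq_bot_iff_le_centralizer.mpr h
  refine ⟨U, hUQ, hxU, ?_, hLU, hU⟩
  -- `U'` is centralised by `x₀`
  have hU0 : U ≠ ⊥ := fun h => hU (h ▸ bot_le)
  have hUnil : Group.IsNilpotent U := (hQ.to_le hUQ).isNilpotent
  have hder : ⁅U, U⁆ ≤ U := U.commutator_le_self
  have hlt : ⁅U, U⁆ ≠ U := by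
    intro h
    have : Nontrivial U := (Subgroup.nontrivial_iff_ne_bot U).mpr hU0
    have hsolU : Group.IsSolvable U := inferInstance
    refine (Group.IsSolvable.commutator_lt_top_of_nontrivial (G := U)).ne ?_
    apply Subgroup.map_injective U.subtype_injective
    rw [commutator_def, Subgroup.map_commutator, ← MonoidHom.range_eq_map, Subgroup.range_subtype]
    exact h
  have hc : ⁅U, U⁆ ≤ Subgroup.centralizer {x₀} := by
    by_contra hno
    refine hlt (hmin _ hder ?_ hno)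
    rw [Subgroup.mem_normalizer_iff_map_conj_eq, Subgroup.map_commutator,
      Subgroup.mem_normalizer_iff_map_conj_eq.mp hxU]
  rw [hcent] at hc
  have h1 : ⁅⁅X, ⁅U, U⁆⁆, U⁆ = ⊥ := by
    rw [Subgroup.commutator_comm X, Subgroup.commutator_eq_bot_iff_le_centralizer.mpr hc,
      Subgroup.commutator_bot_left]
  have h2 : ⁅⁅⁅U, U⁆, U⁆, X⁆ = ⊥ := by
    refine eq_bot_iff.mpr ((Subgroup.commutator_mono ?_ le_rfl).trans
      (le_of_eq (Subgroup.commutator_eq_bot_iff_le_centralizer.mpr hc)))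
    exact Subgroup.commutator_mono hder le_rfl
  have h3 := Subgroup.commutator_commutator_eq_bot_of_rotate h1 h2
  rw [hLU, Subgroup.commutator_comm] at h3
  exact h3

/-- Theorem B for an element `x` acting on an abelian group of exponent `ℓ`. -/
theorem exceptional_of_norm_trivial {V : Type*} [CommGroup V] [Finite V] {ℓ : ℕ} [Fact ℓ.Prime]
    (hV : ∀ v : V, v ^ ℓ = 1) (φ : G →* MulAut V) {p q e : ℕ} (hp : p.Prime) (hq : q.Prime)
    (hpq : p ≠ q) (hℓq : ℓ ≠ q) (he : 1 ≤ e) {x : G} (hxe : x ^ p ^ e = 1) {Q : Subgroup G}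
    (hxQ : x ∈ Subgroup.normalizer (Q : Set G)) (hQ : IsPGroup q Q)
    (hfaith : ∀ u ∈ Q, φ u = 1 → u = 1) (hnc : ¬ Q ≤ Subgroup.centralizer {x ^ p ^ (e - 1)})
    (hN : ∀ v : V, ∏ k ∈ Finset.range (p ^ e), φ (x ^ k) v = 1) :
    Exceptional p q e ∧ ¬ IsMulCommutative Q := by
  have := Fact.mk hq
  obtain ⟨n, ρ, hρ, hρN⟩ := exists_rep hV φ
  have hcop : (orderOf (x ^ p ^ (e - 1))).Coprime q := by
    have hd : orderOf (x ^ p ^ (e - 1)) ∣ p := orderOf_dvd_of_pow_eq_one (by
      rw [← pow_mul, ← pow_succ, Nat.sub_add_cancel he, hxe])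
    exact ((Nat.coprime_primes hp hq).mpr hpq).coprime_dvd_left hd
  obtain ⟨Q₁, hle, hx₁, hcl, hgen, hnc₁⟩ :=
    exists_class_two hQ (Subgroup.npow_mem_zpowers x _) hxQ hcop hnc
  have hqK : (q : AlgebraicClosure (ZMod ℓ)) ≠ 0 := by
    rw [Ne, CharP.cast_eq_zero_iff (AlgebraicClosure (ZMod ℓ)) ℓ,
      Nat.prime_dvd_prime_iff_eq Fact.out hq]
    exact hℓq
  have hnt : ∃ u ∈ Q₁, ρ u ≠ 1 := by
    by_contra h
    push Not at h
    refine hnc₁ fun u hu => ?_
    rw [hfaith u (hle hu) ((hρ u).mp (h u hu))]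
    exact Subgroup.one_mem _
  have hdat : HHData p q e ρ x Q₁ :=
    ⟨hp, hq, hpq, hqK, he, hxe, hx₁, hQ.to_le hle, hcl, hgen, (hρN x _).mpr hN, hnt⟩
  refine ⟨hdat.degree_bound.1, fun hc => hdat.degree_bound.2 ⟨⟨fun a b => ?_⟩⟩⟩
  refine Subtype.ext ?_
  show (a : G) * b = b * a
  exact congrArg Subtype.val (hc.is_comm.comm (⟨_, hle a.2⟩ : Q) ⟨_, hle b.2⟩)

omit [Finite G] in
/-- Without fixed points of `x` every norm is trivial. -/
theorem norm_trivial_of_fpf {V : Type*} [CommGroup V] (φ : G →* MulAut V) {x : G} {m : ℕ}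
    (hxm : x ^ m = 1) (hfix : ∀ v : V, φ x v = v → v = 1) (v : V) :
    ∏ k ∈ Finset.range m, φ (x ^ k) v = 1 := by
  refine hfix _ ?_
  rw [map_prod]
  simp only [← MulAut.mul_apply, ← map_mul, ← pow_succ']
  rcases m with _ | m
  · simp
  · rw [Finset.prod_range_succ, hxm, Finset.prod_range_succ' (fun k => φ (x ^ k) v), pow_zero]

/-- The action of a subgroup normalising `V`. -/
def actOn {V H : Subgroup G} (h : H ≤ Subgroup.normalizer (V : Set G)) : H →* MulAut V :=
  (Subgroup.normalizerMonoidHom V).comp (Subgroup.inclusion h)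

omit [Finite G] in
theorem actOn_coe {V H : Subgroup G} (h : H ≤ Subgroup.normalizer (V : Set G)) (g : H) (v : V) :
    ((actOn h g v : V) : G) = g * v * (g : G)⁻¹ := rfl

omit [Finite G] in
theorem actOn_eq_one {V H : Subgroup G} (h : H ≤ Subgroup.normalizer (V : Set G)) (g : H) :
    actOn h g = 1 ↔ (g : G) ∈ Subgroup.centralizer (V : Set G) := by
  rw [Subgroup.mem_centralizer_iff]
  constructor
  · intro hg v hv
    have h1 : ((actOn h g ⟨v, hv⟩ : V) : G) = v := by rw [hg]; rfl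
    rw [actOn_coe, mul_inv_eq_iff_eq_mul] at h1
    exact h1.symm
  · intro hg
    refine MulEquiv.ext fun v => Subtype.ext ?_
    rw [actOn_coe, mul_inv_eq_iff_eq_mul]
    exact (hg v v.2).symm

/-- Theorem B in group terms: `x` without fixed points on the elementary abelian group `V`. -/
theorem exceptional_of_no_fixed {ℓ p q e : ℕ} (hl : ℓ.Prime) (hp : p.Prime) (hq : q.Prime)
    (hpq : p ≠ q) (hℓq : ℓ ≠ q) (he : 1 ≤ e) {V Q : Subgroup G} {x : G} (hxe : x ^ p ^ e = 1)
    (hV : Cfsg.IsElementaryAbelian ℓ V) (hxV : x ∈ Subgroup.normalizer (V : Set G))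
    (hQV : Q ≤ Subgroup.normalizer (V : Set G)) (hxQ : x ∈ Subgroup.normalizer (Q : Set G))
    (hQ : IsPGroup q Q) (hfaith : Q ⊓ Subgroup.centralizer (V : Set G) = ⊥)
    (hnc : ¬ Q ≤ Subgroup.centralizer {x ^ p ^ (e - 1)})
    (hfix : V ⊓ Subgroup.centralizer {x} = ⊥) :
    Exceptional p q e ∧ ¬ IsMulCommutative Q := by
  have := Fact.mk hl
  set H := Q ⊔ Subgroup.zpowers x
  have hHV : H ≤ Subgroup.normalizer (V : Set G) := sup_le hQV (Subgroup.zpowers_le.mpr hxV)
  let x' : H := ⟨x, Subgroup.mem_sup_right (Subgroup.mem_zpowers x)⟩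
  have hQH : Q ≤ H := le_sup_left
  set Q' := Q.subgroupOf H
  let _ : CommGroup V := { (inferInstance : Group V) with mul_comm := hV.1.is_comm.comm }
  have h1 : x' ∈ Subgroup.normalizer (Q' : Set H) := by
    rw [Subgroup.mem_normalizer_iff]
    exact fun g => Subgroup.mem_normalizer_iff.mp hxQ (g : G)
  have h2 : ∀ u ∈ Q', actOn hHV u = 1 → u = 1 := fun u hu h0 => by
    have : (u : G) ∈ Q ⊓ Subgroup.centralizer (V : Set G) := ⟨hu, (actOn_eq_one hHV u).mp h0⟩
    rw [hfaith, Subgroup.mem_bot] at this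
    exact Subtype.ext this
  have h3 : ¬ Q' ≤ Subgroup.centralizer {x' ^ p ^ (e - 1)} := fun h0 => hnc fun u hu =>
    Subgroup.mem_centralizer_singleton_iff.mpr (congrArg Subtype.val
      (Subgroup.mem_centralizer_singleton_iff.mp (h0 (show (⟨u, hQH hu⟩ : H) ∈ Q' from hu))))
  have h4 := norm_trivial_of_fpf (actOn hHV) (m := p ^ e) (x := x') (Subtype.ext hxe) fun v hv => by
    have h5 : x * (v : G) * x⁻¹ = v := congrArg Subtype.val hv
    have : (v : G) ∈ V ⊓ Subgroup.centralizer {x} := ⟨v.2,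
      Subgroup.mem_centralizer_singleton_iff.mpr (mul_inv_eq_iff_eq_mul.mp h5).symm⟩
    rw [hfix, Subgroup.mem_bot] at this
    exact Subtype.ext this
  obtain ⟨hE, hab⟩ := exceptional_of_norm_trivial (V := V) (fun v => Subtype.ext (hV.2 v v.2))
    (actOn hHV) hp hq hpq hℓq he (x := x') (Subtype.ext hxe) h1 hQ.comap_subtype h2 h3 h4
  refine ⟨hE, fun hc => hab ⟨⟨fun a b => ?_⟩⟩⟩
  refine Subtype.ext (Subtype.ext ?_)
  show ((a : H) : G) * (b : H) = ((b : H) : G) * (a : H)
  exact congrArg Subtype.val (hc.is_comm.comm (⟨_, a.2⟩ : Q) ⟨_, b.2⟩)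

/-- Exponent one cannot be exceptional for `p = 2`. -/
theorem Exceptional.ne_two {p q : ℕ} (h : Exceptional p q 1) (hq : q.Prime) : p ≠ 2 := by
  rintro rfl
  obtain ⟨a, j, ha1, ha, hj, hlt, -⟩ := h
  obtain rfl : a = 1 := by omega
  have := hq.two_le.trans (Nat.le_self_pow (by omega : j ≠ 0) q)
  omega

end Cfsg.Agent.HallHigman
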