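import Mathlib
import Cfsg.Agent.Lib.CoprimeAction
import Cfsg.Agent.Lib.HallHigmanB
import Cfsg.Agent.Lib.HallHigmanRep

/-!
# No exceptional case for fixed point free elements of odd prime power order

If `x` has order dividing `p ^ e` with `p` odd and is fixed point free on `V` and on the
`q`-subgroup `Q`, then `x ^ p ^ (e - 1)` acts trivially on the image of `Q` (Shult, Gross).
-/

set_option autoImplicit false

namespace Cfsg.Agent.HallHigman

open Module
open scoped commutatorElement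

/-! ### Arithmetic -/

/-- The expansion of `(1 + P * c) ^ n`. -/
theorem exists_one_add_pow (c : ℕ) {P : ℕ} (n : ℕ) :
    ∃ t, (1 + P * c) ^ n = 1 + P * (n * c) + P ^ 2 * t := by
  induction n with
  | zero => exact ⟨0, by simp⟩
  | succ n ih =>
    obtain ⟨t, ht⟩ := ih
    exact ⟨n * c * c + t * (1 + P * c), by rw [pow_succ, ht]; ring⟩

/-- The expansion of `(1 + P * c) ^ n` to second order. -/
theorem exists_one_add_pow_two (c : ℕ) {P : ℕ} (n : ℕ) :
    ∃ t, (1 + P * c) ^ n = 1 + P * (n * c) + P ^ 2 * (n.choose 2 * c ^ 2) + P ^ 3 * t := by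
  induction n with
  | zero => exact ⟨0, by simp⟩
  | succ n ih =>
    obtain ⟨t, ht⟩ := ih
    refine ⟨n.choose 2 * c ^ 3 + t * (1 + P * c), ?_⟩
    rw [Nat.choose_succ_succ', Nat.choose_one_right, pow_succ, ht]
    ring

/-- Lifting the exponent for `y = 1 + p ^ a * c`. -/
theorem exists_pow_prime_pow {p a c : ℕ} (hp : p.Prime) (hp2 : p ≠ 2) (ha : 1 ≤ a) (hc : ¬ p ∣ c)
    (g : ℕ) : ∃ c', ¬ p ∣ c' ∧ (1 + p ^ a * c) ^ p ^ g = 1 + p ^ (a + g) * c' := by
  induction g with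
  | zero => exact ⟨c, hc, by simp⟩
  | succ g ih =>
    obtain ⟨c', hc', h⟩ := ih
    obtain ⟨t, ht⟩ := exists_one_add_pow_two c' (P := p ^ (a + g)) p
    obtain ⟨u, hu⟩ : p ∣ p.choose 2 :=
      hp.dvd_choose_self two_ne_zero (lt_of_le_of_ne hp.two_le (Ne.symm hp2))
    obtain ⟨v, hv⟩ : ∃ v, a + g = v + 1 := ⟨a + g - 1, by omega⟩
    refine ⟨c' + p * (p ^ v * (u * c' ^ 2)) + p * (p ^ (2 * v) * p ^ 0 * t), fun hd => hc' ?_, ?_⟩
    · rw [add_assoc, ← Nat.dvd_add_iff_left (dvd_add (dvd_mul_right _ _) (dvd_mul_right _ _))] at hd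
      exact hd
    · rw [pow_succ, pow_mul, h, ht, hu, show a + (g + 1) = v + 1 + 1 by omega, hv]
      ring

/-- If `p ^ a = 2 ^ j + 1` then `2 ^ (2 * j * i) ≡ 1` modulo `p ^ (a + f)` forces `p ^ f ≤ i`. -/
theorem two_pow_bound {p a j f d : ℕ} (hp : p.Prime) (hp2 : p ≠ 2) (ha : 1 ≤ a)
    (heq : p ^ a = 2 ^ j + 1) (hd0 : 0 < d) (hd : p ^ (a + f) ∣ 2 ^ d - 1) :
    2 * j * p ^ f ≤ d := by
  have hp3 : 3 ≤ p := lt_of_le_of_ne hp.two_le (Ne.symm hp2)
  have hpa : p ≤ p ^ a := Nat.le_self_pow (by omega) p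
  have hj : 1 ≤ j := by
    rcases Nat.eq_zero_or_pos j with h | h
    · subst h; rw [pow_zero] at heq; omega
    · exact h
  have hmod : ∀ n, p ^ a ∣ n → n < p ^ a → n = 0 := fun n h1 h2 => Nat.eq_zero_of_dvd_of_lt h1 h2
  have hy : 2 ^ (2 * j) = 1 + p ^ a * (2 ^ j - 1) := by
    have h1 : 2 ^ j * 2 ^ j = 2 ^ (2 * j) := by rw [← pow_add]; ring_nf
    have h2 : 1 ≤ 2 ^ j := Nat.one_le_two_pow
    zify [h2] at *
    rw [heq, ← h1]
    ring
  have hc : ¬ p ∣ 2 ^ j - 1 := by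
    intro h
    have h1 : p ∣ 2 ^ j + 1 := heq ▸ dvd_pow_self p (by omega)
    have h2 : p ∣ 2 := by
      have := Nat.dvd_sub h1 h
      rwa [show 2 ^ j + 1 - (2 ^ j - 1) = 2 by
        have := Nat.one_le_two_pow (n := j); omega] at this
    exact hp2 ((Nat.prime_dvd_prime_iff_eq hp Nat.prime_two).mp h2)
  -- `2 * j` divides `d`
  obtain ⟨i, r, hr, rfl⟩ : ∃ i r, r < 2 * j ∧ d = 2 * j * i + r :=
    ⟨d / (2 * j), d % (2 * j), Nat.mod_lt _ (by omega), (Nat.div_add_mod d (2 * j)).symm⟩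
  have hda : p ^ a ∣ 2 ^ (2 * j * i + r) - 1 :=
    (pow_dvd_pow p (Nat.le_add_right a f)).trans hd
  have hr0 : r = 0 := by
    have h1 : p ^ a ∣ 2 ^ r - 1 := by
      obtain ⟨t, ht⟩ := exists_one_add_pow (2 ^ j - 1) (P := p ^ a) i
      rw [pow_add, pow_mul, hy, ht] at hda
      have h2 : (1 + p ^ a * (i * (2 ^ j - 1)) + (p ^ a) ^ 2 * t) * 2 ^ r - 1 =
          p ^ a * ((i * (2 ^ j - 1) + p ^ a * t) * 2 ^ r) + (2 ^ r - 1) := by
        have := Nat.one_le_two_pow (n := r)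
        zify [this]
        rw [Nat.cast_sub (le_trans this (Nat.le_mul_of_pos_left _ (by positivity)))]
        push_cast
        ring
      rw [h2] at hda
      exact (Nat.dvd_add_right (dvd_mul_right _ _)).mp hda
    by_contra hr'
    rcases Nat.lt_or_ge j r with h | h
    · -- `2 ^ r = 2 ^ (r - j) * 2 ^ j`
      obtain ⟨s, rfl⟩ : ∃ s, r = j + s := ⟨r - j, by omega⟩
      have hs : 2 ^ s ≤ 2 ^ (j - 1) := Nat.pow_le_pow_right two_pos (by omega)
      have hs1 : 1 ≤ 2 ^ s := Nat.one_le_two_pow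
      have hj' : 2 ^ j = 2 * 2 ^ (j - 1) := by rw [← pow_succ', Nat.sub_add_cancel hj]
      have h3 : p ^ a ∣ 2 ^ s + 1 := by
        have h4 : p ^ a * 2 ^ s = (2 ^ (j + s) - 1) + (2 ^ s + 1) := by
          rw [heq, pow_add]
          have : 1 ≤ 2 ^ j * 2 ^ s := Nat.one_le_iff_ne_zero.mpr (by positivity)
          rw [add_mul, one_mul]
          omega
        exact (Nat.dvd_add_right h1).mp (h4 ▸ dvd_mul_right _ _)
      have := Nat.le_of_dvd (by omega) h3
      omega
    · have hle : 2 ^ r ≤ 2 ^ j := Nat.pow_le_pow_right two_pos h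
      have h2 : 2 ≤ 2 ^ r := Nat.le_self_pow hr' 2
      have := hmod _ h1 (by omega)
      omega
  subst hr0
  rw [add_zero] at hd hd0 ⊢
  have hi : i ≠ 0 := by rintro rfl; simp at hd0
  refine Nat.mul_le_mul_left _ ?_
  obtain ⟨g, i', hi', rfl⟩ := Nat.exists_eq_pow_mul_and_not_dvd hi p hp.ne_one
  by_contra hlt
  push Not at hlt
  have hg : g < f := by
    by_contra hge
    push Not at hge
    have := (Nat.pow_le_pow_right hp.pos hge).trans
      (Nat.le_mul_of_pos_right (p ^ g) (Nat.pos_of_ne_zero (show i' ≠ 0 from fun h => hi' (h ▸ dvd_zero p))))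
    omega
  obtain ⟨c', hc', hg'⟩ := exists_pow_prime_pow (p := p) (a := a) (c := 2 ^ j - 1) hp hp2 ha hc g
  obtain ⟨t, ht⟩ := exists_one_add_pow c' (P := p ^ (a + g)) i'
  rw [pow_mul, hy, pow_mul, hg', ht, add_assoc, Nat.add_sub_cancel_left] at hd
  have h1 : p ^ (a + g) * p ∣ p ^ (a + g) * (i' * c' + p ^ (a + g) * t) := by
    refine dvd_trans ?_ (dvd_trans hd (dvd_of_eq (by ring)))
    rw [← pow_succ]
    exact pow_dvd_pow p (by omega)
  have h2 := Nat.dvd_of_mul_dvd_mul_left (pow_pos hp.pos _) h1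
  rw [← Nat.dvd_add_iff_left ((dvd_pow_self p (by omega : a + g ≠ 0)).mul_right t)] at h2
  rcases hp.dvd_mul.mp h2 with h3 | h3
  · exact hi' h3
  · exact hc' h3

/-- A permutation whose non-trivial powers fix only `o` has order dividing `card - 1`. -/
theorem dvd_card_sub_one {ι : Type*} [Finite ι] {o : ι} {m : ℕ} (hm : 0 < m) (π : Equiv.Perm ι)
    (hπm : π ^ m = 1) (hπo : π o = o) (hfree : ∀ i, i ≠ o → ∀ k, 0 < k → k < m → (π ^ k) i ≠ i) :
    m ∣ Nat.card ι - 1 := by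
  classical
  have : Fintype ι := Fintype.ofFinite ι
  let H := Subgroup.zpowers π
  have hmod : ∀ h : H, ∃ k < m, (h : Equiv.Perm ι) = π ^ k := by
    rintro ⟨h, hh⟩
    obtain ⟨k, rfl⟩ := mem_powers_iff_mem_zpowers.2 hh
    refine ⟨k % m, Nat.mod_lt _ hm, ?_⟩
    show π ^ k = π ^ (k % m)
    conv_lhs => rw [← Nat.mod_add_div k m, pow_add, pow_mul, hπm, one_pow, mul_one]
  by_cases hne : ∃ i, i ≠ o
  swap
  · push Not at hne
    have : Subsingleton ι := ⟨fun a b => (hne a).trans (hne b).symm⟩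
    rw [Nat.card_eq_fintype_card, Fintype.card_le_one_iff_subsingleton.mpr this |>.antisymm
      (Fintype.card_pos_iff.mpr ⟨o⟩)]
    exact dvd_zero m
  obtain ⟨i₀, hi₀⟩ := hne
  have hord : orderOf π = m := by
    refine Nat.dvd_antisymm (orderOf_dvd_of_pow_eq_one hπm) ?_
    by_contra hnd
    refine hfree i₀ hi₀ (orderOf π % m) ?_ (Nat.mod_lt _ hm) ?_
    · exact Nat.pos_of_ne_zero fun h => hnd (Nat.dvd_of_mod_eq_zero h)
    · have : π ^ (orderOf π % m) = 1 := by
        have h1 := pow_orderOf_eq_one π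
        conv_lhs at h1 => rw [← Nat.mod_add_div (orderOf π) m, pow_add, pow_mul, hπm, one_pow,
          mul_one]
        exact h1
      rw [this]; rfl
  let S := {i : ι // i ≠ o}
  have hsub : ∀ h : H, ∀ i : S, (h : Equiv.Perm ι) i.1 ≠ o := fun h i hh => i.2 <| by
    apply (h : Equiv.Perm ι).injective
    rw [hh]
    obtain ⟨k, -, hk⟩ := hmod h
    rw [hk]
    exact (Function.IsFixedPt.perm_pow (hπo : Function.IsFixedPt π o) k).symm
  let _ : MulAction H S :=
    { smul := fun h i => ⟨(h : Equiv.Perm ι) i.1, hsub h i⟩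
      one_smul := fun i => Subtype.ext rfl
      mul_smul := fun a b i => Subtype.ext rfl }
  have hstab : ∀ i : S, MulAction.stabilizer H i = ⊥ := by
    intro i
    rw [Subgroup.eq_bot_iff_forall]
    intro h hh
    obtain ⟨k, hk, he⟩ := hmod h
    rcases Nat.eq_zero_or_pos k with h0 | h0
    · exact Subtype.ext (by rw [he, h0, pow_zero]; rfl)
    · exact absurd (he ▸ congrArg Subtype.val (MulAction.mem_stabilizer_iff.mp hh))
        (hfree i.1 i.2 k h0 hk)
  have hcard : Nat.card S = Nat.card ι - 1 := by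
    rw [Nat.card_eq_fintype_card, Nat.card_eq_fintype_card, Fintype.card_subtype_compl,
      Fintype.card_subtype_eq]
  rw [← hcard, Nat.card_congr (MulAction.selfEquivSigmaOrbits H S), Nat.card_sigma]
  refine Finset.dvd_sum fun ω _ => ?_
  rw [Nat.card_congr (MulAction.orbitEquivQuotientStabilizer H ω.out), hstab, ← Subgroup.index,
    Subgroup.index_bot, Nat.card_zpowers, hord]

/-! ### An irreducible constituent -/

universe w

variable {K G : Type*} [Field K] [Group G] [Finite G] {p q e : ℕ} {x : G} {Q : Subgroup G}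

theorem exists_irreducible_aux (hG : Q ⊔ Subgroup.zpowers x = ⊤) (A : Set G) (c : G → K) (n : ℕ) :
    ∀ (W : Type w) [AddCommGroup W] [Module K W] [FiniteDimensional K W] (ρ : Representation K G W),
      finrank K W ≤ n → HHData p q e ρ x Q → (∀ a ∈ A, ρ a = c a • 1) →
      ∃ (U : Type w) (_ : AddCommGroup U) (_ : Module K U) (_ : FiniteDimensional K U)
        (σ : Representation K G U), HHData p q e σ x Q ∧
        (∀ X : Submodule K U, (∀ u ∈ Q, ∀ w ∈ X, σ u w ∈ X) → (∀ w ∈ X, σ x w ∈ X) →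
          X = ⊥ ∨ X = ⊤) ∧ ∀ a ∈ A, σ a = c a • 1 := by
  induction n with
  | zero =>
    intro W _ _ _ ρ hn h _
    obtain ⟨u, -, hu⟩ := h.hnt
    have : Subsingleton W := Module.finrank_zero_iff.mp (Nat.le_zero.mp hn)
    exact absurd (Subsingleton.elim _ _) hu
  | succ n ih =>
    intro W _ _ _ ρ hn h hA
    by_cases hirr : ∀ X : Submodule K W, (∀ u ∈ Q, ∀ w ∈ X, ρ u w ∈ X) →
        (∀ w ∈ X, ρ x w ∈ X) → X = ⊥ ∨ X = ⊤
    · exact ⟨W, ‹_›, ‹_›, ‹_›, ρ, h, hirr, hA⟩
    push Not at hirr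
    obtain ⟨X, hXQ, hXx, hX0, hX1⟩ := hirr
    have hall : ∀ g : G, ∀ w ∈ X, ρ g w ∈ X := by
      have hle : (⊤ : Subgroup G) ≤ preserving ρ X :=
        hG ▸ sup_le hXQ (Subgroup.zpowers_le.mpr hXx)
      exact fun g => hle (Subgroup.mem_top g)
    let σs : Representation K G X :=
      { toFun := fun g => (ρ g).restrict (hall g)
        map_one' := LinearMap.ext fun w => Subtype.ext (by simp)
        map_mul' := fun a b => LinearMap.ext fun w => Subtype.ext (by simp) }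
    let σq : Representation K G (W ⧸ X) :=
      { toFun := fun g => X.mapQ X (ρ g) (hall g)
        map_one' := Submodule.linearMap_qext _ (LinearMap.ext fun w => by simp)
        map_mul' := fun a b => Submodule.linearMap_qext _ (LinearMap.ext fun w => by simp) }
    have hdim := X.finrank_quotient_add_finrank
    have hpos : 0 < finrank K X :=
      Nat.pos_of_ne_zero fun h0 => hX0 (Submodule.finrank_eq_zero.mp h0)
    have hlt : finrank K X < finrank K W := Submodule.finrank_lt hX1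
    by_cases hs : ∃ u ∈ Q, σs u ≠ 1
    · refine ih X σs (by omega) ⟨h.hp, h.hq, h.hpq, h.hqK, h.he, h.hxe, h.hxQ, h.hQ, h.hcl, h.hgen,
        ?_, hs⟩ fun a ha => LinearMap.ext fun w => Subtype.ext ?_
      · refine LinearMap.ext fun w => Subtype.ext ?_
        have := LinearMap.congr_fun h.hN (w : W)
        rw [LinearMap.sum_apply, LinearMap.zero_apply] at this
        rw [LinearMap.sum_apply, Submodule.coe_sum]
        simp only [← map_pow] at this ⊢
        exact this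
      · show ρ a w = _
        rw [hA a ha]
        rfl
    · by_cases hq' : ∃ u ∈ Q, σq u ≠ 1
      · refine ih (W ⧸ X) σq (by omega) ⟨h.hp, h.hq, h.hpq, h.hqK, h.he, h.hxe, h.hxQ, h.hQ, h.hcl,
          h.hgen, ?_, hq'⟩ fun a ha => Submodule.linearMap_qext _ (LinearMap.ext fun w => ?_)
        · refine Submodule.linearMap_qext _ (LinearMap.ext fun w => ?_)
          have := congrArg (Submodule.Quotient.mk (p := X)) (LinearMap.congr_fun h.hN w)
          rw [LinearMap.sum_apply, ← Submodule.mkQ_apply, map_sum] at this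
          rw [LinearMap.comp_apply, LinearMap.sum_apply]
          simp only [← map_pow] at this ⊢
          exact this
        · show Submodule.Quotient.mk (ρ a w) = _
          rw [hA a ha]
          rfl
      · push Not at hs hq'
        obtain ⟨u, hu, hu1⟩ := h.hnt
        obtain ⟨j, hj⟩ := h.hQ ⟨u, hu⟩
        have hj' : u ^ q ^ j = 1 := congrArg Subtype.val hj
        refine absurd (eq_one_of_unipotent (n := q ^ j) ?_ ?_ X ?_ ?_) hu1
        · rw [Nat.cast_pow]; exact pow_ne_zero _ h.hqK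
        · rw [← map_pow, hj', map_one]
        · intro w hw
          exact congrArg Subtype.val (LinearMap.congr_fun (hs u hu) ⟨w, hw⟩)
        · intro w
          exact (Submodule.Quotient.eq X).mp (LinearMap.congr_fun (hq' u hu) (Submodule.Quotient.mk w))

/-- An irreducible constituent on which `Q` is non-trivial, keeping the scalar elements. -/
theorem HHData.exists_irreducible {W : Type w} [AddCommGroup W] [Module K W] [FiniteDimensional K W]
    {ρ : Representation K G W} (h : HHData p q e ρ x Q) (hG : Q ⊔ Subgroup.zpowers x = ⊤)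
    (A : Set G) (c : G → K) (hA : ∀ a ∈ A, ρ a = c a • 1) :
    ∃ (U : Type w) (_ : AddCommGroup U) (_ : Module K U) (_ : FiniteDimensional K U)
      (σ : Representation K G U), HHData p q e σ x Q ∧
      (∀ X : Submodule K U, (∀ u ∈ Q, ∀ w ∈ X, σ u w ∈ X) → (∀ w ∈ X, σ x w ∈ X) →
        X = ⊥ ∨ X = ⊤) ∧ ∀ a ∈ A, σ a = c a • 1 :=
  exists_irreducible_aux hG A c _ W ρ le_rfl h hA

/-! ### The contradiction -/

/-- The odd case of the core count. -/
theorem odd_case {p q a j : ℕ} (hp : p.Prime) (hp2 : p ≠ 2) (hq : q.Prime) (hj : 0 < j)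
    (hlt : q ^ j < p ^ a) (hdvd : p ^ a ∣ (q ^ j) ^ 2 - 1) : q = 2 ∧ p ^ a = q ^ j + 1 := by
  set D := q ^ j with hD
  have hD2 : 2 ≤ D := hq.two_le.trans (Nat.le_self_pow (by omega) q)
  rw [show D ^ 2 - 1 = (D + 1) * (D - 1) by rw [← Nat.sq_sub_sq D 1, one_pow]] at hdvd
  have hodd : Odd (p ^ a) := (hp.odd_of_ne_two hp2).pow
  have hd : p ^ a ∣ D + 1 := by
    by_cases hpd : p ∣ D - 1
    · exfalso
      have hn : ¬ p ∣ D + 1 := by
        intro h1
        have h2 := Nat.dvd_sub h1 hpd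
        rw [show D + 1 - (D - 1) = 2 by omega] at h2
        exact hp2 ((Nat.prime_dvd_prime_iff_eq hp Nat.prime_two).mp h2)
      have h3 := (Nat.Coprime.pow_left a (hp.coprime_iff_not_dvd.mpr hn)).dvd_of_dvd_mul_left hdvd
      have := Nat.le_of_dvd (by omega) h3
      omega
    · exact (Nat.Coprime.pow_left a (hp.coprime_iff_not_dvd.mpr hpd)).dvd_of_dvd_mul_right hdvd
  have heq : p ^ a = D + 1 := le_antisymm (Nat.le_of_dvd (by omega) hd) (by omega)
  refine ⟨?_, heq⟩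
  rw [heq, Nat.odd_add_one, Nat.not_odd_iff_even, hD, Nat.even_pow] at hodd
  exact (Nat.Prime.even_iff hq).mp hodd.1

variable {W : Type*} [AddCommGroup W] [Module K W] {ρ : Representation K G W}

/-- An element fixed by some `x ^ k` modulo the centre is central. -/
theorem HHData.mem_ctr_of_fixed_pow (h : HHData p q e ρ x Q) (hfaith : Function.Injective ρ) {k : ℕ}
    (hk0 : 0 < k) (hk : k < p ^ e) {u : G} (hu : u ∈ Q)
    (hfix : x ^ k * u * (x ^ k)⁻¹ * u⁻¹ ∈ ctr Q) : u ∈ ctr Q := by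
  refine h.mem_ctr_of_fixed hfaith hu ?_
  obtain ⟨l, hl⟩ := exists_pow_eq_top_power h.hp h.hxe hk0 hk
  rw [← hl]
  clear hl
  induction l with
  | zero => simp
  | succ l ihl =>
    rw [show (x ^ k) ^ (l + 1) * u * ((x ^ k) ^ (l + 1))⁻¹ * u⁻¹ =
      (x ^ k) * ((x ^ k) ^ l * u * ((x ^ k) ^ l)⁻¹ * u⁻¹) * (x ^ k)⁻¹ *
        (x ^ k * u * (x ^ k)⁻¹ * u⁻¹) by rw [pow_succ']; group]
    exact (ctr Q).mul_mem
      (Cfsg.Agent.CoprimeAction.conj_mem (pow_mem h.x_mem_normalizer_ctr k) ihl) hfix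

theorem HHData.mul_ctr_comm (h : HHData p q e ρ x Q) {u y : G} (hu : u ∈ Q) (hy : y ∈ Q) :
    ⁅u, y⁆ ∈ ctr Q :=
  h.comm_le_ctr (Subgroup.commutator_mem_commutator hu hy)

/-- No faithful irreducible configuration with `x` fixed point free on `Q`. -/
theorem HHData.false_of_fpf [IsAlgClosed K] [FiniteDimensional K W] (h : HHData p q e ρ x Q)
    (hp2 : p ≠ 2) (hfaith : Function.Injective ρ)
    (hirr : ∀ U : Submodule K W, (∀ u ∈ Q, ∀ w ∈ U, ρ u w ∈ U) → (∀ w ∈ U, ρ x w ∈ U) →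
      U = ⊥ ∨ U = ⊤)
    (hfpf : ∀ u ∈ Q, x * u = u * x → u = 1) : False := by
  classical
  have hqf := Fact.mk h.hq
  by_cases hscal : ∀ a ∈ ctr Q, ∃ c : K, ρ a = c • 1
  · refine h.not_comm hfaith ⟨⟨fun a b => Subtype.ext ?_⟩⟩
    have hz := h.mul_ctr_comm a.2 b.2
    obtain ⟨c, hc⟩ := hscal _ hz
    exact commutatorElement_eq_one_iff_mul_comm.mp (hfpf _ hz.1 (hfaith (by
      rw [map_mul, map_mul, hc, mul_smul_comm, mul_one, smul_one_mul])))
  push Not at hscal
  obtain ⟨a0, ha0A, ha0⟩ := hscal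
  obtain ⟨U, f, -, hfe, hUQ, hUx, hUnt, hUN, l, hU0, hmemU, hlper⟩ :=
    h.exists_descent hfaith hirr ha0A ha0
  have hAn := h.x_mem_normalizer_ctr
  let αA : MulAut (ctr Q) := Subgroup.normalizerMonoidHom (ctr Q) ⟨x, hAn⟩
  have hαA : ∀ (k : ℕ) (a : ctr Q), (((αA ^ k) a : ctr Q) : G) = x ^ k * a * (x ^ k)⁻¹ := by
    intro k a
    rw [← map_pow]
    rfl
  have hαAm : αA ^ p ^ e = 1 := MulEquiv.ext fun a => Subtype.ext (by rw [hαA, h.hxe]; simp)
  -- the translates of `l` separate the centre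
  have hsep : ∀ a : ctr Q, (∀ k, l ((αA ^ k) a) = 1) → a = 1 := by
    intro a ha
    let F : Submodule K W :=
      ⨅ b : {b : ctr Q // ∀ k, l ((αA ^ k) b) = 1}, LinearMap.ker (ρ ((b : ctr Q) : G) - 1)
    have hmemF : ∀ w, w ∈ F ↔ ∀ b : ctr Q, (∀ k, l ((αA ^ k) b) = 1) → ρ (b : G) w = w := by
      intro w
      simp [F, sub_eq_zero]
    have h1 : ∀ u ∈ Q, ∀ w ∈ F, ρ u w ∈ F := by
      intro u hu w hw
      rw [hmemF] at hw ⊢
      intro b hb
      rw [← Module.End.mul_apply, ← map_mul, ← Subgroup.mem_centralizer_iff.mp b.2.2 u hu,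
        map_mul, Module.End.mul_apply, hw b hb]
    have h2 : ∀ w ∈ F, ρ x w ∈ F := by
      intro w hw
      rw [hmemF] at hw ⊢
      intro b hb
      set b' := (αA ^ (p ^ e - 1)) b
      have hb' : ∀ k, l ((αA ^ k) b') = 1 := fun k => by
        show l ((αA ^ k) ((αA ^ (p ^ e - 1)) b)) = 1
        rw [← MulAut.mul_apply, ← pow_add]
        exact hb _
      have hbb' : (b : G) * x = x * b' := by
        show (b : G) * x = x * ((αA ^ (p ^ e - 1)) b : ctr Q)
        rw [hαA, ← mul_assoc, ← mul_assoc, ← pow_succ', Nat.sub_add_cancel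
          (Nat.one_le_pow _ _ h.hp.pos), h.hxe, one_mul]
        rw [show (x ^ (p ^ e - 1))⁻¹ = x from inv_eq_of_mul_eq_one_right (by
          rw [← pow_succ, Nat.sub_add_cancel (Nat.one_le_pow _ _ h.hp.pos), h.hxe])]
      rw [← Module.End.mul_apply, ← map_mul, hbb', map_mul, Module.End.mul_apply, hw b' hb']
    rcases hirr F h1 h2 with hF | hF
    · obtain ⟨w, hw, hw0⟩ := (Submodule.ne_bot_iff _).mp hU0
      refine absurd (Submodule.mem_bot K |>.mp (hF ▸ (hmemF w).mpr fun b hb => ?_)) hw0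
      have hb0 := hb 0
      rw [pow_zero, MulAut.one_apply] at hb0
      rw [(hmemU w).mp hw b, hb0, one_smul]
    · exact Subtype.ext (hfaith (LinearMap.ext fun w => by
        rw [(hmemF w).mp (hF ▸ Submodule.mem_top) a ha, Subgroup.coe_one, map_one]
        rfl))
  have hper : ∀ a : ctr Q, (αA ^ p ^ f) a = a := by
    intro a
    refine mul_inv_eq_one.mp (hsep _ fun k => ?_)
    rw [map_mul, map_mul, map_inv, ← MulAut.mul_apply, ← pow_add, add_comm k, pow_add,
      MulAut.mul_apply, hlper ((αA ^ k) a) _ (hαA _ _), ← map_mul, mul_inv_cancel, map_one]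
  -- the subgroup `R`
  let cm : Q → Q → ctr Q := fun u y => ⟨⁅(u : G), (y : G)⁆, h.mul_ctr_comm u.2 y.2⟩
  have hcm : ∀ u v y, cm (u * v) y = cm v y * cm u y := by
    intro u v y
    refine Subtype.ext ?_
    show ⁅(u : G) * v, (y : G)⁆ = ⁅(v : G), (y : G)⁆ * ⁅(u : G), (y : G)⁆
    rw [show ⁅(u : G) * v, (y : G)⁆ = u * ⁅(v : G), (y : G)⁆ * (u : G)⁻¹ * ⁅(u : G), (y : G)⁆ by
      simp only [commutatorElement_def]; group,
      Subgroup.mem_centralizer_iff.mp (h.mul_ctr_comm v.2 y.2).2 u u.2, mul_inv_cancel_right]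
  let R : Subgroup Q :=
    { carrier := {u | ∀ y, l (cm u y) = 1}
      mul_mem' := fun {a b} ha hb y => by rw [hcm, map_mul, ha, hb, mul_one]
      one_mem' := fun y => by
        rw [show cm 1 y = 1 from Subtype.ext (commutatorElement_one_left _), map_one]
      inv_mem' := fun {a} ha y => by
        have h1 := hcm a⁻¹ a y
        rw [inv_mul_cancel, show cm 1 y = 1 from Subtype.ext (commutatorElement_one_left _)] at h1
        have h2 := congrArg l h1
        rw [map_one, map_mul, ha, one_mul] at h2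
        exact h2.symm }
  have hctrR : ∀ u : Q, (u : G) ∈ ctr Q → u ∈ R := by
    intro u hu y
    rw [show cm u y = 1 from Subtype.ext (commutatorElement_eq_one_iff_mul_comm.mpr
      ((Subgroup.mem_centralizer_iff.mp hu.2 y y.2).symm)), map_one]
  have hRn : R.Normal := ⟨fun g hg u => by
    have h1 : u * g * u⁻¹ = ⁅u, g⁆ * g := by simp [commutatorElement_def]
    rw [h1]
    exact R.mul_mem (hctrR _ (h.mul_ctr_comm u.2 g.2)) hg⟩
  -- the representation of `Q ⊔ ⟨x'⟩` on `U`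
  set H := Q ⊔ Subgroup.zpowers (x ^ p ^ f)
  have hHU : H ≤ preserving ρ U := sup_le hUQ (Subgroup.zpowers_le.mpr hUx)
  let σ0 : Representation K H U := (subRep ρ U).comp (Subgroup.inclusion hHU)
  have hQH : Q ≤ H := le_sup_left
  let x' : H := ⟨x ^ p ^ f, Subgroup.mem_sup_right (Subgroup.mem_zpowers _)⟩
  set Q2 := Q.comap H.subtype
  have hd0 : HHData p q (e - f) σ0 x' Q2 := by
    refine h.pullback H.subtype_injective σ0 hfe rfl (fun u hu => ⟨⟨u, hQH hu⟩, rfl⟩) ?_ ?_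
    · refine LinearMap.ext fun w => Subtype.ext ?_
      rw [LinearMap.sum_apply, Submodule.coe_sum]
      have := hUN (w : W) w.2
      simp only [← map_pow] at this ⊢
      exact this
    · obtain ⟨u, hu, w, hw, hne⟩ := hUnt
      exact ⟨⟨u, hQH hu⟩, hu, fun hf => hne
        (congrArg Subtype.val (LinearMap.congr_fun hf ⟨w, hw⟩))⟩
  have hHtop : Q2 ⊔ Subgroup.zpowers x' = ⊤ := by
    apply Subgroup.map_injective H.subtype_injective
    rw [Subgroup.map_sup, MonoidHom.map_zpowers,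
      Subgroup.map_comap_eq_self (by rw [Subgroup.range_subtype]; exact hQH),
      ← MonoidHom.range_eq_map, Subgroup.range_subtype]
    rfl
  let cA : H → K := fun a => if ha : (a : G) ∈ ctr Q then l ⟨a, ha⟩ else 0
  obtain ⟨V, _, _, _, σ, hd, hirrV, hσA⟩ := hd0.exists_irreducible hHtop
    {a : H | (a : G) ∈ ctr Q} cA (fun a ha => LinearMap.ext fun w => Subtype.ext (by
      show ρ (a : G) w = (cA a • w : U)
      rw [show cA a = l ⟨a, ha⟩ from dif_pos ha, Submodule.coe_smul]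
      exact (hmemU w).mp w.2 ⟨a, ha⟩))
  have hVn : Nontrivial V := by
    obtain ⟨u, _, hu⟩ := hd.hnt
    rcases subsingleton_or_nontrivial V with hs | hs
    · exact absurd (Subsingleton.elim _ _) hu
    · exact hs
  have hσA' : ∀ a : H, ∀ ha : (a : G) ∈ ctr Q, σ a = l ⟨a, ha⟩ • 1 := fun a ha => by
    rw [hσA a ha, show cA a = l ⟨a, ha⟩ from dif_pos ha]
  let π := QuotientGroup.mk' σ.ker
  have hd' := hd.map_mk
  have hfV := imageRep_injective σ
  -- the centre of the image of `Q` is the image of `R`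
  let ι : Q → H := fun u => ⟨u, hQH u.2⟩
  have hcomm1 : ∀ u y : Q, σ ⁅ι y, ι u⁆ = 1 ↔ l (cm y u) = 1 := by
    intro u y
    rw [hσA' ⁅ι y, ι u⁆ (h.mul_ctr_comm y.2 u.2)]
    constructor
    · intro hc
      exact smul_left_injective K (one_ne_zero (α := Module.End K V)) (hc.trans (one_smul K _).symm)
    · intro hc
      show l (cm y u) • (1 : Module.End K V) = 1
      rw [hc, one_smul]
  have hinv1 : ∀ u y : Q, l (cm u y) = 1 ↔ l (cm y u) = 1 := by
    intro u y
    rw [show cm u y = (cm y u)⁻¹ from Subtype.ext (commutatorElement_inv _ _).symm]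
    have h1 : l (cm y u)⁻¹ * l (cm y u) = 1 := by rw [← map_mul, inv_mul_cancel, map_one]
    constructor
    · intro hh; rwa [hh, one_mul] at h1
    · intro hh; rwa [hh, mul_one] at h1
  have hctr' : ∀ u : Q, π (ι u) ∈ ctr (Q2.map π) ↔ u ∈ R := by
    intro u
    constructor
    · intro hu y
      refine (hinv1 u y).mpr ((hcomm1 u y).mp ?_)
      show ⁅ι y, ι u⁆ ∈ σ.ker
      refine (QuotientGroup.eq_one_iff _).mp ?_
      show π ⁅ι y, ι u⁆ = 1
      rw [map_commutatorElement, commutatorElement_eq_one_iff_mul_comm]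
      exact Subgroup.mem_centralizer_iff.mp hu.2 _ ⟨ι y, y.2, rfl⟩
    · intro hu
      refine ⟨⟨ι u, u.2, rfl⟩, Subgroup.mem_centralizer_iff.mpr ?_⟩
      rintro _ ⟨y, hy, rfl⟩
      rw [← commutatorElement_eq_one_iff_mul_comm, ← map_commutatorElement]
      exact (QuotientGroup.eq_one_iff _).mpr ((hcomm1 u ⟨y, hy⟩).mpr ((hinv1 u _).mp (hu ⟨y, hy⟩)))
  -- the centre of the image is scalar
  let r : Q2 →* Module.End K V := σ.comp Q2.subtype
  set D2 := (scal r).map Q2.subtype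
  set x0 := x' ^ p ^ (e - f - 1)
  have hx0G : (x0 : G) = x ^ p ^ (e - 1) := by
    show (x ^ p ^ f) ^ p ^ (e - f - 1) = _
    rw [← pow_mul, ← pow_add, show f + (e - f - 1) = e - 1 by omega]
  have hscal' : ∀ a ∈ ctr (Q2.map π), ∃ c : K, imageRep σ a = c • 1 := by
    intro a ha
    obtain ⟨u, hu, rfl⟩ := ha.1
    have hx0u : π (u⁻¹ * x0 * u * x0⁻¹) = 1 := by
      have hc := hd'.x0_comm_ctr hfV ha
      simp only [← map_pow] at hc
      rw [map_mul, map_mul, map_mul, map_inv, map_inv, mul_assoc ((π u)⁻¹), hc.eq,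
        inv_mul_cancel_left, mul_inv_cancel]
    have hD2 : ∀ v, v ∈ D2 ↔ v ∈ Q2 ∧ ∃ c : K, σ v = c • 1 := by
      intro v
      constructor
      · rintro ⟨w, hw, rfl⟩; exact ⟨w.2, hw⟩
      · rintro ⟨hv, hc⟩; exact ⟨⟨v, hv⟩, hc, rfl⟩
    have hx0n : x0 ∈ Subgroup.normalizer (D2 : Set H) := by
      rw [← Subgroup.zpowers_le]
      refine Cfsg.Agent.CoprimeAction.le_normalizer_of_conj_mem fun g hg v hv => ?_
      obtain ⟨hvQ, c, hc⟩ := (hD2 v).mp hv
      refine (hD2 _).mpr ⟨Cfsg.Agent.CoprimeAction.conj_mem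
        ((Subgroup.zpowers_le.mpr (pow_mem hd.hxQ _)) hg) hvQ, c, ?_⟩
      rw [map_mul, map_mul, hc, mul_smul_comm, mul_one, smul_mul_assoc, ← map_mul, mul_inv_cancel,
        map_one]
    have hk : u⁻¹ * x0 * u * x0⁻¹ ∈ D2 := by
      refine (hD2 _).mpr ⟨?_, 1, by rw [one_smul]; exact (QuotientGroup.eq_one_iff _).mp hx0u⟩
      rw [show u⁻¹ * x0 * u * x0⁻¹ = u⁻¹ * (x0 * u * x0⁻¹) by group]
      exact Q2.mul_mem (Q2.inv_mem hu) (Cfsg.Agent.CoprimeAction.conj_mem (pow_mem hd.hxQ _) hu)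
    obtain ⟨c, hxc, hc2⟩ := Cfsg.Agent.CoprimeAction.exists_fixed_mem_coset_zpowers hx0n
      (by rw [← Nat.card_zpowers]; exact hd.coprime_x0 (fun v hv => ((hD2 v).mp hv).1)) u hk
    obtain ⟨hc2Q, d, hd2⟩ := (hD2 _).mp hc2
    have hcQ : (c : G) ∈ Q := by
      have := Q2.mul_mem hu hc2Q
      rwa [mul_inv_cancel_left] at this
    have hcA : (c : G) ∈ ctr Q := by
      refine h.mem_ctr_of_fixed hfaith hcQ ?_
      rw [← hx0G, show (x0 : G) * c * (x0 : G)⁻¹ = (c : G) from by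
        rw [mul_inv_eq_iff_eq_mul]; exact congrArg Subtype.val hxc, mul_inv_cancel]
      exact (ctr Q).one_mem
    have hu' : u = c * (u⁻¹ * c)⁻¹ := by group
    obtain ⟨d', hd3⟩ : ∃ d', σ (u⁻¹ * c)⁻¹ = d' • 1 := (scal (σ : H →* Module.End K V)).inv_mem ⟨d, hd2⟩
    refine ⟨l ⟨c, hcA⟩ * d', ?_⟩
    show σ u = _
    rw [hu', map_mul, hσA' c hcA, hd3, smul_one_mul, smul_smul]
  obtain ⟨j, hj, hlt, hdvd, hcard⟩ := hd'.exceptional_of_scalar hfV
    (fun X h1 h2 => hirrV X (fun u hu => h1 (π u) ⟨u, hu, rfl⟩) h2) hscal'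
  obtain ⟨rfl, heq⟩ := odd_case h.hp hp2 h.hq hj hlt hdvd
  -- the index of `R`
  have hRidx : R.index = (2 ^ j) ^ 2 := by
    let g : Q →* Q2.map π :=
      (π.subgroupMap Q2).comp ((Subgroup.inclusion hQH).codRestrict Q2 fun u => u.2)
    have hgs : Function.Surjective g := by
      rintro ⟨_, v, hv, rfl⟩
      exact ⟨⟨v, hv⟩, rfl⟩
    have hR : R = ((ctr (Q2.map π)).subgroupOf (Q2.map π)).comap g := by
      ext u
      exact (hctr' u).symm
    rw [hR, Subgroup.index_comap_of_surjective _ hgs]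
    have h1 := Subgroup.card_mul_index ((ctr (Q2.map π)).subgroupOf (Q2.map π))
    rw [Nat.card_congr (Subgroup.subgroupOfEquivOfLe inf_le_left).toEquiv, hcard,
      mul_comm ((2 ^ j) ^ 2)] at h1
    exact Nat.eq_of_mul_eq_mul_left Nat.card_pos h1
  -- `Q / A` embeds into the blocks, and fills them
  let αQ : MulAut Q := Subgroup.normalizerMonoidHom Q ⟨x, h.hxQ⟩
  have hαQ : ∀ (k : ℕ) (u : Q), (((αQ ^ k) u : Q) : G) = x ^ k * u * (x ^ k)⁻¹ := by
    intro k u
    rw [← map_pow]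
    rfl
  have hcmα : ∀ (k : ℕ) u y, cm ((αQ ^ k) u) ((αQ ^ k) y) = (αA ^ k) (cm u y) := by
    intro k u y
    refine Subtype.ext ?_
    rw [hαA]
    show ⁅((αQ ^ k) u : G), ((αQ ^ k) y : G)⁆ = _
    rw [hαQ, hαQ]
    exact (map_commutatorElement (MulAut.conj (x ^ k)).toMonoidHom _ _).symm
  have hlk : ∀ (k : ℕ) (a : ctr Q), l ((αA ^ k) a) = l ((αA ^ (k % p ^ f)) a) := by
    intro k a
    conv_lhs => rw [← Nat.mod_add_div k (p ^ f), pow_add, pow_mul, MulAut.mul_apply]
    congr 2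
    induction k / p ^ f with
    | zero => rfl
    | succ n ihn => rw [pow_succ, MulAut.mul_apply, hper, ihn]
  let Ψ : Q →* (Fin (p ^ f) → Q ⧸ R) :=
    { toFun := fun u k => (((αQ ^ (k : ℕ)) u : Q) : Q ⧸ R)
      map_one' := funext fun k => by simp
      map_mul' := fun a b => funext fun k => by simp }
  set AQ := (ctr Q).subgroupOf Q
  have hker : Ψ.ker = AQ := by
    ext u
    constructor
    · intro hu
      refine ⟨u.2, Subgroup.mem_centralizer_iff.mpr fun y hy => ?_⟩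
      have h1 : cm u ⟨y, hy⟩ = 1 := by
        refine hsep _ fun k => ?_
        rw [hlk, ← hcmα]
        have h2 := congrFun hu (⟨k % p ^ f, Nat.mod_lt _ (pow_pos h.hp.pos f)⟩ : Fin (p ^ f))
        exact (QuotientGroup.eq_one_iff _).mp h2 _
      exact (commutatorElement_eq_one_iff_mul_comm.mp (congrArg Subtype.val h1)).symm
    · intro hu
      refine funext fun k => (QuotientGroup.eq_one_iff _).mpr (hctrR _ ?_)
      rw [hαQ]
      exact Cfsg.Agent.CoprimeAction.conj_mem (pow_mem hAn _) hu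
  have : AQ.Normal := hker ▸ Ψ.normal_ker
  obtain ⟨d, hd2⟩ : ∃ d, AQ.index = 2 ^ d := by
    obtain ⟨k, hk⟩ := IsPGroup.iff_card.mp h.hQ
    obtain ⟨i, -, hi⟩ := (Nat.dvd_prime_pow h.hq).mp (hk ▸ AQ.index_dvd_card)
    exact ⟨i, hi⟩
  have hd0' : 0 < d := by
    refine Nat.pos_of_ne_zero fun h0 => h.not_comm hfaith ?_
    rw [h0, pow_zero, Subgroup.index_eq_one] at hd2
    exact ⟨⟨fun a b => Subtype.ext (Subgroup.mem_centralizer_iff.mp
      ((hd2 ▸ Subgroup.mem_top b : b ∈ AQ).2) _ a.2)⟩⟩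
  have hdd : p ^ e ∣ 2 ^ d - 1 := by
    rw [← hd2, Subgroup.index_eq_card]
    have hmap : AQ.map αQ.toMonoidHom = AQ := by
      refine Subgroup.eq_of_le_of_card_ge ?_ (le_of_eq
        (Subgroup.card_map_of_injective (f := αQ.toMonoidHom) αQ.injective).symm)
      rintro _ ⟨t, ht, rfl⟩
      have := hαQ 1 t
      rw [pow_one, pow_one] at this
      show ((αQ t : Q) : G) ∈ ctr Q
      rw [this]
      exact Cfsg.Agent.CoprimeAction.conj_mem hAn ht
    let π' : Equiv.Perm (Q ⧸ AQ) := (QuotientGroup.congr _ _ αQ hmap).toEquiv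
    have hπk : ∀ k (u : Q), (π' ^ k) (u : Q ⧸ AQ) = (((αQ ^ k) u : Q) : Q ⧸ AQ) := by
      intro k
      induction k with
      | zero => intro u; rfl
      | succ k ih =>
        intro u
        rw [pow_succ, pow_succ, Equiv.Perm.mul_apply, MulAut.mul_apply]
        exact ih (αQ u)
    refine dvd_card_sub_one (o := ((1 : Q) : Q ⧸ AQ)) (pow_pos h.hp.pos e) π' ?_ ?_ ?_
    · refine Equiv.ext fun i => ?_
      obtain ⟨u, rfl⟩ := QuotientGroup.mk_surjective i
      rw [hπk, show (αQ ^ p ^ e) u = u from Subtype.ext (by rw [hαQ, h.hxe]; simp)]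
      rfl
    · have := hπk 1 1
      rwa [pow_one, pow_one, map_one] at this
    · intro i hi k hk0 hkm hik
      obtain ⟨u, rfl⟩ := QuotientGroup.mk_surjective i
      rw [hπk, ← div_eq_one, ← QuotientGroup.mk_div, QuotientGroup.eq_one_iff, div_eq_mul_inv] at hik
      refine hi ((QuotientGroup.eq_one_iff u).mpr (h.mem_ctr_of_fixed_pow hfaith hk0 hkm u.2 ?_))
      have : ((((αQ ^ k) u) * u⁻¹ : Q) : G) ∈ ctr Q := hik
      rwa [Subgroup.coe_mul, Subgroup.coe_inv, hαQ] at this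
  rw [show p ^ e = p ^ ((e - f) + f) by rw [Nat.sub_add_cancel hfe.le]] at hdd
  have hbound := two_pow_bound h.hp hp2 (by omega) heq hd0' hdd
  have hrange : Ψ.range = ⊤ := by
    refine Subgroup.eq_top_of_card_eq _ (le_antisymm (Subgroup.card_le_card_group _) ?_)
    rw [← Subgroup.index_ker, hker, hd2, Nat.card_fun, Nat.card_fin, ← Subgroup.index_eq_card,
      hRidx, ← pow_mul, ← pow_mul]
    exact Nat.pow_le_pow_right two_pos (le_trans (le_of_eq (by ring)) hbound)
  obtain ⟨u, hu⟩ : ∃ u, u ∉ R := by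
    by_contra hall
    push Not at hall
    rw [show R = ⊤ from eq_top_iff.mpr fun u _ => hall u, Subgroup.index_top] at hRidx
    have : 2 ≤ 2 ^ j := Nat.le_self_pow (by omega) 2
    nlinarith
  obtain ⟨y, hy⟩ : ∃ y, l (cm u y) ≠ 1 := not_forall.mp hu
  let tgt : Fin (p ^ f) → Q ⧸ R := fun k => if (k : ℕ) = 0 then (u : Q ⧸ R) else 1
  obtain ⟨v, hv⟩ : tgt ∈ Ψ.range := hrange ▸ Subgroup.mem_top tgt
  let _ : CommGroup (ctr Q) :=
    { (inferInstance : Group (ctr Q)) with mul_comm := (ctr_comm (Q := Q)).is_comm.comm }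
  set N := ∏ k ∈ Finset.range (p ^ f), (αA ^ k) (cm v y) with hN
  have hNfix : αA N = N := by
    rw [hN, map_prod]
    obtain ⟨m, hm⟩ : ∃ m, p ^ f = m + 1 := ⟨p ^ f - 1, by
      have := Nat.one_le_pow f p h.hp.pos; omega⟩
    rw [hm, Finset.prod_range_succ' (fun k => (αA ^ k) (cm v y)), Finset.prod_range_succ]
    simp only [← MulAut.mul_apply, ← pow_succ']
    rw [← hm, hper, pow_zero, MulAut.one_apply]
  have hN1 : N = 1 := by
    refine Subtype.ext (hfpf _ N.2.1 ?_)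
    have := hαA 1 N
    rw [pow_one, pow_one, hNfix, eq_mul_inv_iff_mul_eq] at this
    exact this.symm
  have := congrArg l hN1
  rw [hN, map_prod, map_one, Finset.prod_eq_single 0] at this
  · rw [pow_zero, MulAut.one_apply] at this
    refine hy ?_
    have h0 := congrFun hv (⟨0, pow_pos h.hp.pos f⟩ : Fin (p ^ f))
    have h1 : ((v : Q) : Q ⧸ R) = (u : Q ⧸ R) := by
      simpa [Ψ, tgt] using h0
    have h2 : u⁻¹ * v ∈ R := QuotientGroup.eq.mp h1.symm
    have h3 := hcm u (u⁻¹ * v) y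
    rw [mul_inv_cancel_left] at h3
    rw [h3, map_mul, h2 y, one_mul] at this
    exact this
  · intro k hk hk0
    rw [← hcmα]
    have h0 := congrFun hv (⟨k, Finset.mem_range.mp hk⟩ : Fin (p ^ f))
    simp only [tgt, hk0, if_false] at h0
    exact (QuotientGroup.eq_one_iff _).mp h0 _
  · exact fun h0 => absurd (Finset.mem_range.mpr (pow_pos h.hp.pos f)) h0

omit [Field K] in
/-- Fixed point freeness passes to homomorphic images (coprime action). -/
theorem fpf_map {G' : Type*} [Group G'] (f : G →* G')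
    (hxQ : x ∈ Subgroup.normalizer (Q : Set G)) (hcop : (orderOf x).Coprime (Nat.card Q))
    (hfpf : ∀ u ∈ Q, x * u = u * x → u = 1) :
    ∀ y ∈ Q.map f, f x * y = y * f x → y = 1 := by
  rintro _ ⟨u, hu, rfl⟩ hcomm
  set D := Q ⊓ f.ker
  have hD : x ∈ Subgroup.normalizer (D : Set G) := by
    have h := Cfsg.Agent.CoprimeAction.le_normalizer_inf (A := Subgroup.zpowers x) (H := Q)
      (K := f.ker) (Subgroup.zpowers_le.mpr hxQ) Subgroup.le_normalizer_of_normal
    exact h (Subgroup.mem_zpowers x)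
  have hk : u⁻¹ * x * u * x⁻¹ ∈ D := by
    refine ⟨?_, ?_⟩
    · rw [show u⁻¹ * x * u * x⁻¹ = u⁻¹ * (x * u * x⁻¹) by group]
      exact Q.mul_mem (Q.inv_mem hu) (Cfsg.Agent.CoprimeAction.conj_mem hxQ hu)
    · show f (u⁻¹ * x * u * x⁻¹) = 1
      rw [map_mul, map_mul, map_mul, map_inv, map_inv,
        mul_assoc ((f u)⁻¹), hcomm, inv_mul_cancel_left, mul_inv_cancel]
  obtain ⟨c, hxc, hc⟩ := Cfsg.Agent.CoprimeAction.exists_fixed_mem_coset_zpowers hD
    (hcop.coprime_dvd_right (Subgroup.card_dvd_of_le inf_le_left)) u hk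
  have hcQ : c ∈ Q := by
    have := Q.mul_mem hu hc.1
    rwa [mul_inv_cancel_left] at this
  rw [hfpf c hcQ hxc, mul_one] at hc
  have h1 : f u⁻¹ = 1 := hc.2
  rwa [map_inv, inv_eq_one] at h1

omit [Field K] in
theorem coprime_orderOf_card (hp : p.Prime) (hq : q.Prime) (hpq : p ≠ q) (hxe : x ^ p ^ e = 1)
    (hQ : IsPGroup q Q) : (orderOf x).Coprime (Nat.card Q) := by
  have := Fact.mk hq
  obtain ⟨k, hk⟩ := IsPGroup.iff_card.mp hQ
  rw [hk]
  exact (((Nat.coprime_primes hp hq).mpr hpq).pow e k).coprime_dvd_left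
    (orderOf_dvd_of_pow_eq_one hxe)

omit [Field K] in
theorem fpf_faithful {V : Type*} [CommGroup V] [Finite V] {l : ℕ} [Fact l.Prime]
    (hV : ∀ v : V, v ^ l = 1) (φ : G →* MulAut V) (hφ : Function.Injective φ) (hp : p.Prime)
    (hp2 : p ≠ 2) (hq : q.Prime) (hpq : p ≠ q) (hlq : l ≠ q) (he : 1 ≤ e) (hxe : x ^ p ^ e = 1)
    (hxQ : x ∈ Subgroup.normalizer (Q : Set G)) (hQ : IsPGroup q Q)
    (hfQ : ∀ u ∈ Q, x * u = u * x → u = 1) (hfV : ∀ v : V, φ x v = v → v = 1) :
    Q ≤ Subgroup.centralizer {x ^ p ^ (e - 1)} := by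
  by_contra hnc
  have := Fact.mk hq
  obtain ⟨d, ρ, hρ, hρN⟩ := exists_rep hV φ
  have hcop : (orderOf (x ^ p ^ (e - 1))).Coprime q :=
    ((Nat.coprime_primes hp hq).mpr hpq).coprime_dvd_left (orderOf_dvd_of_pow_eq_one (by
      rw [← pow_mul, ← pow_succ, Nat.sub_add_cancel he, hxe]))
  obtain ⟨Q₁, hle, hx₁, hcl, hgen, hnc₁⟩ :=
    exists_class_two hQ (Subgroup.npow_mem_zpowers x _) hxQ hcop hnc
  have hqK : (q : AlgebraicClosure (ZMod l)) ≠ 0 := by
    rw [Ne, CharP.cast_eq_zero_iff (AlgebraicClosure (ZMod l)) l,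
      Nat.prime_dvd_prime_iff_eq Fact.out hq]
    exact hlq
  have hnt : ∃ u ∈ Q₁, ρ u ≠ 1 := by
    by_contra h
    push Not at h
    refine hnc₁ fun u hu => ?_
    rw [hφ (((hρ u).mp (h u hu)).trans (map_one φ).symm)]
    exact Subgroup.one_mem _
  have hdat : HHData p q e ρ x Q₁ :=
    ⟨hp, hq, hpq, hqK, he, hxe, hx₁, hQ.to_le hle, hcl, hgen,
      (hρN x _).mpr (norm_trivial_of_fpf φ hxe hfV), hnt⟩
  set H := Q₁ ⊔ Subgroup.zpowers x
  have hQH : Q₁ ≤ H := le_sup_left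
  let x' : H := ⟨x, Subgroup.mem_sup_right (Subgroup.mem_zpowers x)⟩
  obtain ⟨u, hu, hu1⟩ := hnt
  have hdH := hdat.pullback H.subtype_injective (ρ.comp H.subtype) (f := 0) (x' := x') he
    (by rw [pow_zero, pow_one]; rfl) (fun v hv => ⟨⟨v, hQH hv⟩, rfl⟩)
    (by rw [Nat.sub_zero]; exact hdat.hN) ⟨⟨u, hQH hu⟩, hu, hu1⟩
  rw [Nat.sub_zero] at hdH
  have hHtop : Q₁.comap H.subtype ⊔ Subgroup.zpowers x' = ⊤ := by
    apply Subgroup.map_injective H.subtype_injective
    rw [Subgroup.map_sup, MonoidHom.map_zpowers,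
      Subgroup.map_comap_eq_self (by rw [Subgroup.range_subtype]; exact hQH),
      ← MonoidHom.range_eq_map, Subgroup.range_subtype]
    rfl
  obtain ⟨U, _, _, _, σ, hd, hirr, -⟩ :=
    hdH.exists_irreducible hHtop ∅ (fun _ => 0) (fun a ha => ha.elim)
  refine (hd.map_mk).false_of_fpf hp2 (imageRep_injective σ)
    (fun X h1 h2 => hirr X (fun v hv => h1 _ ⟨v, hv, rfl⟩) h2) ?_
  refine fpf_map (QuotientGroup.mk' σ.ker) hd.hxQ
    (coprime_orderOf_card hp hq hpq hd.hxe hd.hQ) fun v hv hxv => Subtype.ext ?_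
  exact hfQ v (hle hv) (congrArg Subtype.val hxv)

omit [Field K] in
/-- **Shult, Gross:** for odd `p`, an element of order `p ^ e` fixed point free on `V` and on the
`q`-group `Q` has its power of order `p` centralising the image of `Q`. -/
theorem fpf_trivial {V : Type*} [CommGroup V] [Finite V] {l : ℕ} [Fact l.Prime]
    (hV : ∀ v : V, v ^ l = 1) (φ : G →* MulAut V) (hp : p.Prime)
    (hp2 : p ≠ 2) (hq : q.Prime) (hpq : p ≠ q) (hlq : l ≠ q) (he : 1 ≤ e) (hxe : x ^ p ^ e = 1)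
    (hxQ : x ∈ Subgroup.normalizer (Q : Set G)) (hQ : IsPGroup q Q)
    (hfQ : ∀ u ∈ Q, x * u = u * x → u = 1) (hfV : ∀ v : V, φ x v = v → v = 1) :
    ∀ u ∈ Q, φ (u * x ^ p ^ (e - 1)) = φ (x ^ p ^ (e - 1) * u) := by
  intro u hu
  let π := QuotientGroup.mk' φ.ker
  let ψ : G ⧸ φ.ker →* MulAut V := QuotientGroup.kerLift φ
  have h := fpf_faithful hV ψ (QuotientGroup.kerLift_injective φ) hp hp2 hq hpq hlq he (x := π x)
    (Q := Q.map π) (by rw [← map_pow, hxe, map_one]) (Subgroup.le_normalizer_map π ⟨x, hxQ, rfl⟩)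
    (hQ.map π) (fpf_map π hxQ (coprime_orderOf_card hp hq hpq hxe hQ) hfQ) hfV
  have h1 := Subgroup.mem_centralizer_singleton_iff.mp (h ⟨u, hu, rfl⟩)
  rw [← map_pow, ← map_mul, ← map_mul] at h1
  exact congrArg ψ h1

end Cfsg.Agent.HallHigman
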