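import Cfsg.Agent.Lib.HallHigmanRep
import Cfsg.Agent.Lib.HallHigmanFPF
import Cfsg.Agent.Lib.CoprimeAction

/-!
# Elements of odd prime order without fixed points on a module
-/

set_option autoImplicit false

namespace Cfsg.Agent.HallHigman

open Subgroup
open scoped commutatorElement

/-- An element of odd prime order without fixed points on a module commutes modulo the kernel
with every invariant `q`-group, `q` odd. -/
theorem commute_map_of_no_fixed {G : Type*} [Group G] [Finite G] {V : Type*} [CommGroup V]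
    [Finite V] {ℓ : ℕ} [Fact ℓ.Prime] (hV : ∀ v : V, v ^ ℓ = 1) (φ : G →* MulAut V) {r q : ℕ}
    (hr : r.Prime) (hr2 : r ≠ 2) (hq : q.Prime) (hq2 : q ≠ 2) (hrq : r ≠ q) (hℓq : ℓ ≠ q) {x : G}
    (hxr : x ^ r = 1) {Q : Subgroup G} (hxQ : x ∈ normalizer (Q : Set G)) (hQ : IsPGroup q Q)
    (hfix : ∀ v : V, φ x v = v → v = 1) {u : G} (hu : u ∈ Q) :
    φ u * φ x = φ x * φ u := by
  by_contra hne
  set x' : φ.range := ⟨φ x, x, rfl⟩
  have hnc : ¬ Q.map φ.rangeRestrict ≤ centralizer {x' ^ r ^ (1 - 1)} := fun h => hne (by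
    have := mem_centralizer_singleton_iff.mp (h (mem_map_of_mem _ hu))
    rw [Nat.sub_self, pow_zero, pow_one] at this
    exact congrArg Subtype.val this)
  have hmem : x' ∈ normalizer (Q.map φ.rangeRestrict : Set φ.range) := by
    have := le_normalizer_map φ.rangeRestrict (mem_map_of_mem φ.rangeRestrict hxQ)
    exact this
  obtain ⟨⟨a, j, ha1, ha, hj, hlt, hdvd⟩, -⟩ := exceptional_of_norm_trivial (G := φ.range) (V := V)
    hV φ.range.subtype hr hq hrq hℓq le_rfl
    (x := x') (Subtype.ext (by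
      show (φ x) ^ r ^ 1 = 1
      rw [pow_one, ← map_pow, hxr, map_one])) hmem (hQ.map _)
    (fun w _ hw => Subtype.ext hw) hnc
    (norm_trivial_of_fpf φ.range.subtype (Subtype.ext (by
      show (φ x) ^ r ^ 1 = 1
      rw [pow_one, ← map_pow, hxr, map_one])) hfix)
  exact hq2 (odd_case hr hr2 hq hj hlt hdvd).1

/-- A subgroup of odd prime order without fixed points on an elementary abelian group commutes,
modulo the centralizer, with every invariant solvable subgroup of odd coprime order. -/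
theorem commutator_le_centralizer_of_no_fixed {X : Type*} [Group X] [Finite X]
    {G K R V : Subgroup X} {ℓ : ℕ} (hℓ : ℓ.Prime) (hV : Cfsg.IsElementaryAbelian ℓ V)
    (hGV : G ≤ normalizer (V : Set X)) (hKG : K ≤ G) (hRG : R ≤ G)
    (hRK : R ≤ normalizer (K : Set X)) (hR : (Nat.card R).Prime) (hR2 : Nat.card R ≠ 2)
    (hKodd : Odd (Nat.card K)) (hKℓ : ¬ ℓ ∣ Nat.card K)
    (hcop : (Nat.card R).Coprime (Nat.card K)) (hsolv : Group.IsSolvable R ∨ Group.IsSolvable K)
    (hCV : V ⊓ centralizer (R : Set X) = ⊥) : ⁅R, K⁆ ≤ centralizer (V : Set X) := by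
  classical
  have := Fact.mk hℓ
  let _ : CommGroup V := { (inferInstance : Group V) with mul_comm := hV.1.is_comm.comm }
  set φ := actOn hGV with hφ
  have : IsCyclic R := isCyclic_of_prime_card (hp := ⟨hR⟩) rfl
  obtain ⟨g, hg⟩ := IsCyclic.exists_generator (α := R)
  have hord : (g : X) ^ Nat.card R = 1 := by
    rw [← coe_pow, pow_card_eq_one', coe_one]
  set x : G := ⟨g, hRG g.2⟩
  have hfix : ∀ v : V, φ x v = v → v = 1 := fun v hv => by
    have h1 : (g : X) * v * (g : X)⁻¹ = v := congrArg Subtype.val hv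
    have h2 : (v : X) ∈ V ⊓ centralizer (R : Set X) := ⟨v.2, mem_centralizer_iff.mpr fun y hy => by
      obtain ⟨k, hk⟩ := mem_zpowers_iff.mp (hg ⟨y, hy⟩)
      have hy' : y = (g : X) ^ k := by rw [← coe_zpow, hk]
      rw [hy']
      exact ((show Commute (g : X) v from mul_inv_eq_iff_eq_mul.mp h1).zpow_left k).eq⟩
    rw [hCV, mem_bot] at h2
    exact Subtype.ext h2
  set S : Subgroup G := (centralizer {φ x}).comap φ
  have hKS : K ≤ S.map G.subtype := by
    refine le_of_eq (eq_of_le_of_card_ge (K := K) (inf_le_left : K ⊓ S.map G.subtype ≤ K) ?_).symm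
      |>.trans inf_le_right
    refine Nat.le_of_dvd Nat.card_pos ((Nat.factorization_le_iff_dvd Nat.card_pos.ne'
      Nat.card_pos.ne').mp fun q => ?_)
    by_cases hqp : q.Prime
    swap
    · simp [Nat.factorization_eq_zero_of_not_prime _ hqp]
    by_cases hqd : q ∣ Nat.card K
    swap
    · simp [Nat.factorization_eq_zero_of_not_dvd hqd]
    have := Fact.mk hqp
    obtain ⟨Q, hQ⟩ := CoprimeAction.exists_invariant_sylow hRK hcop hsolv q
    set Q' := (Q : Subgroup K).map K.subtype
    have hQK : Q' ≤ K := map_subtype_le _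
    have hQ'c : Nat.card Q' = q ^ (Nat.card K).factorization q := by
      rw [card_map_of_injective K.subtype_injective, Sylow.card_eq_multiplicity]
    have hQS : Q' ≤ K ⊓ S.map G.subtype := by
      refine le_inf hQK fun u hu => ⟨⟨u, hKG (hQK hu)⟩, ?_, rfl⟩
      show φ _ ∈ centralizer {φ x}
      rw [mem_centralizer_singleton_iff]
      refine commute_map_of_no_fixed (fun v => Subtype.ext (hV.2 v v.2)) φ hR hR2 hqp
        (fun h => ?_) (fun h => ?_) (fun h => ?_) (Q := Q'.subgroupOf G) (x := x)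
        (Subtype.ext hord) ?_ ((IsPGroup.of_card hQ'c).comap_subtype) hfix
        (mem_subgroupOf.mpr hu)
      · subst h
        exact (Nat.not_odd_iff_even.mpr (even_iff_two_dvd.mpr hqd)) hKodd
      · exact hR.one_lt.ne' (Nat.eq_one_of_dvd_coprimes hcop dvd_rfl (h ▸ hqd))
      · exact hKℓ (h ▸ hqd)
      · rw [mem_normalizer_iff]
        exact fun w => mem_normalizer_iff.mp (hQ g.2) (w : X)
    refine (Nat.Prime.pow_dvd_iff_le_factorization hqp Nat.card_pos.ne').mp ?_
    rw [← hQ'c]
    exact card_dvd_of_le hQS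
  rw [commutator_le]
  intro y hy k hk
  obtain ⟨k', hk', rfl⟩ := hKS hk
  have h1 : φ ⁅(⟨y, hRG hy⟩ : G), k'⁆ = 1 := by
    rw [map_commutatorElement, commutatorElement_eq_one_iff_mul_comm]
    obtain ⟨i, hi⟩ := mem_zpowers_iff.mp (hg ⟨y, hy⟩)
    have : (⟨y, hRG hy⟩ : G) = x ^ i := Subtype.ext (by
      rw [coe_zpow]; show y = (g : X) ^ i; rw [← coe_zpow, hi])
    rw [this, map_zpow]
    exact ((show Commute (φ x) (φ k') from
      (mem_centralizer_singleton_iff.mp hk').symm).zpow_left i).eq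
  exact (actOn_eq_one hGV _).mp h1

end Cfsg.Agent.HallHigman
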