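import Cfsg.Prelude.Def_Solvable
import Cfsg.Agent.Lib.CoprimeAction
import Cfsg.Agent.Lib.CoprimeExtra
import Cfsg.Agent.Lib.HallSolvable
import Cfsg.Agent.S3769

/-!
# Fixed point free prime operators in odd solvable groups

If `R` of prime order normalises `Q` and `L`, the orders are coprime and odd, and `R` fixes only the
identity of the solvable group `L`, then `[R, Q]` centralises `L`.
-/

set_option autoImplicit false

open scoped commutatorElement

namespace Cfsg.Agent.BGThreeBase

universe u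

variable {X : Type u} [Group X]

/-- The order of a product with a normalising subgroup of coprime order. -/
theorem card_sup [Finite X] {A B : Subgroup X} (hBA : B ≤ Subgroup.normalizer (A : Set X))
    (hcop : (Nat.card A).Coprime (Nat.card B)) :
    Nat.card ↥(A ⊔ B) = Nat.card A * Nat.card B := by
  have hd : A ⊓ B = ⊥ := HallCore.disjoint_of_coprime_card hcop
  rw [← Nat.card_prod]
  refine (Nat.card_eq_of_bijective (fun y : A × B =>
    (⟨(y.1 : X) * y.2, Subgroup.mul_mem_sup y.1.2 y.2.2⟩ : ↥(A ⊔ B))) ⟨fun a b e => ?_, fun x => ?_⟩).symm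
  · exact Subgroup.mul_injective_of_disjoint (disjoint_iff.2 hd) (congrArg Subtype.val e)
  · have hx := x.2
    rw [← SetLike.mem_coe, Subgroup.coe_mul_of_right_le_normalizer_left A B hBA] at hx
    obtain ⟨a, ha, b, hb, e⟩ := hx
    exact ⟨(⟨a, ha⟩, ⟨b, hb⟩), Subtype.ext e⟩

theorem relIndex_sup [Finite X] {A B : Subgroup X} (hBA : B ≤ Subgroup.normalizer (A : Set X))
    (hcop : (Nat.card A).Coprime (Nat.card B)) : A.relIndex (A ⊔ B) = Nat.card B := by
  have h := HallCore.card_mul_relIndex (le_sup_left : A ≤ A ⊔ B)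
  rw [card_sup hBA hcop] at h
  exact Nat.eq_of_mul_eq_mul_left Nat.card_pos h

/-- `R` fixed point free on the abelian elementary group `V`: `[R, Q]` centralises it. -/
theorem fpf_elementary [Finite X] [Group.IsSolvable X] {V Q R : Subgroup X} {l : ℕ} (hl : l.Prime)
    (hV : Cfsg.IsElementaryAbelian l V) (hR : (Nat.card R).Prime)
    (hRQ : R ≤ Subgroup.normalizer (Q : Set X)) (hQV : Q ≤ Subgroup.normalizer (V : Set X))
    (hRV : R ≤ Subgroup.normalizer (V : Set X)) (hQo : Odd (Nat.card Q)) (hRo : Odd (Nat.card R))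
    (hQR : (Nat.card Q).Coprime (Nat.card R)) (hVQ : (Nat.card V).Coprime (Nat.card Q))
    (hVR : (Nat.card V).Coprime (Nat.card R))
    (hfix : V ⊓ Subgroup.centralizer (R : Set X) = ⊥) :
    ⁅R, Q⁆ ≤ Subgroup.centralizer (V : Set X) := by
  by_cases hV1 : V = ⊥
  · intro x _ v hv
    rw [hV1] at hv
    rw [Subgroup.mem_bot.1 hv, one_mul, mul_one]
  have hlV : l ∣ Nat.card V := by
    obtain ⟨⟨v, hv⟩, hv1⟩ := @exists_ne _ ((Subgroup.nontrivial_iff_ne_bot V).2 hV1) 1
    have h1 : orderOf v = l := (orderOf_eq_prime_iff (p := l) (hp := ⟨hl⟩)).2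
      ⟨hV.2 v hv, fun e => hv1 (Subtype.ext e)⟩
    rw [← h1, ← Subgroup.orderOf_mk v hv]
    exact orderOf_dvd_natCard _
  have hcard := card_sup hRQ hQR
  refine Cfsg.Agent.S3769.result (Q ⊔ R) inferInstance ?_ V hl hV ?_ (sup_le hQV hRV) Q R le_sup_left
    (sup_le Subgroup.le_normalizer hRQ) (by rw [relIndex_sup hRQ hQR]; exact hQR) le_sup_right hR
    (HallCore.disjoint_of_coprime_card hQR) rfl hfix
  · rw [hcard]; exact hQo.mul hRo
  · rw [hcard]
    intro h
    exact hl.ne_one (Nat.eq_one_of_dvd_coprimes (hVQ.mul_right hVR) hlV h)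

private theorem fpf_core (n : ℕ) : ∀ (X : Type u) [Group X] [Finite X] [Group.IsSolvable X]
    (L Q R : Subgroup X) [L.Normal], Nat.card L ≤ n → (Nat.card R).Prime →
    R ≤ Subgroup.normalizer (Q : Set X) → Odd (Nat.card Q) → Odd (Nat.card R) →
    (Nat.card Q).Coprime (Nat.card R) → (Nat.card L).Coprime (Nat.card Q) →
    (Nat.card L).Coprime (Nat.card R) → L ⊓ Subgroup.centralizer (R : Set X) = ⊥ →
    ⁅R, Q⁆ ≤ Subgroup.centralizer (L : Set X) := by
  induction n using Nat.strong_induction_on with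
  | _ n ih =>
    intro X _ _ _ L Q R _ hn hR hRQ hQo hRo hQR hLQ hLR hfix
    by_cases hL1 : L = ⊥
    · intro x _ v hv
      rw [hL1] at hv
      rw [Subgroup.mem_bot.1 hv, one_mul, mul_one]
    obtain ⟨N, hN, hNL⟩ := HallSolvable.exists_minNormal_le hL1
    have := hN.normal
    obtain ⟨l, hl, hel, -⟩ := hN.exists_prime
    have hnorm : ∀ (A B : Subgroup X) [B.Normal], A ≤ Subgroup.normalizer (B : Set X) := fun A B _ => by
      rw [Subgroup.normalizer_eq_top]; exact le_top
    have hNQ : (Nat.card N).Coprime (Nat.card Q) :=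
      hLQ.coprime_dvd_left (Subgroup.card_dvd_of_le hNL)
    have hNR : (Nat.card N).Coprime (Nat.card R) :=
      hLR.coprime_dvd_left (Subgroup.card_dvd_of_le hNL)
    have hfixN : N ⊓ Subgroup.centralizer (R : Set X) = ⊥ :=
      le_bot_iff.1 ((inf_le_inf_right _ hNL).trans hfix.le)
    have hDN := fpf_elementary hl hel hR hRQ (hnorm _ _) (hnorm _ _) hQo hRo hQR hNQ hNR hfixN
    set f := QuotientGroup.mk' N with hf
    have hsurj : Function.Surjective f := QuotientGroup.mk'_surjective N
    have hmapcard : ∀ A : Subgroup X, A ⊓ N = ⊥ → Nat.card (A.map f) = Nat.card A := by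
      intro A hA
      refine (Nat.card_eq_of_bijective (f.subgroupMap A) ⟨?_, f.subgroupMap_surjective A⟩).symm
      rw [← MonoidHom.ker_eq_bot_iff, eq_bot_iff]
      intro a ha
      have h1 : f (a : X) = 1 := congrArg Subtype.val (MonoidHom.mem_ker.1 ha)
      have h2 : (a : X) ∈ A ⊓ N := ⟨a.2, (QuotientGroup.eq_one_iff _).1 h1⟩
      rw [hA, Subgroup.mem_bot] at h2
      exact Subgroup.mem_bot.2 (Subtype.ext h2)
    have hRc := hmapcard R (HallCore.disjoint_of_coprime_card hNR.symm)
    have hQc := hmapcard Q (HallCore.disjoint_of_coprime_card hNQ.symm)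
    have hLc : Nat.card (L.map f) * Nat.card N = Nat.card L := HallCore.card_map_mk'_mul N L hNL
    have : (L.map f).Normal := Subgroup.Normal.map inferInstance f hsurj
    have hlt : Nat.card (L.map f) < n := by
      have h1 : 1 < Nat.card N := N.one_lt_card_iff_ne_bot.2 hN.ne_bot
      have h2 : 0 < Nat.card (L.map f) := Nat.card_pos
      nlinarith
    have hdvd : Nat.card (L.map f) ∣ Nat.card L := Dvd.intro _ hLc
    have key := ih _ hlt (X ⧸ N) (L.map f) (Q.map f) (R.map f) le_rfl (hRc.symm ▸ hR)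
      ((Subgroup.map_mono hRQ).trans (Subgroup.le_normalizer_map f)) (hQc.symm ▸ hQo) (hRc.symm ▸ hRo)
      (by rw [hQc, hRc]; exact hQR) (by rw [hQc]; exact hLQ.coprime_dvd_left hdvd)
      (by rw [hRc]; exact hLR.coprime_dvd_left hdvd)
      (by rw [← CoprimeAction.map_inf_centralizer_eq f (hnorm R L) hLR.symm (Or.inr inferInstance),
        hfix, Subgroup.map_bot])
    have hDQ : ⁅R, Q⁆ ≤ Q := by
      rw [Subgroup.commutator_comm]
      exact CoprimeAction.commutator_le_self_of_le_normalizer hRQ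
    refine CoprimeAction.le_centralizer_of_commutator_commutator_eq_bot (hnorm _ L)
      (CoprimeAction.coprime_of_le_left hDQ hLQ.symm) (Or.inr inferInstance) ?_
    rw [Subgroup.commutator_eq_bot_iff_le_centralizer]
    refine le_trans (?_ : ⁅L, ⁅R, Q⁆⁆ ≤ N) (fun v hv d hd => ((hDN hd) v hv).symm)
    rw [Subgroup.commutator_le]
    intro m hm d hd
    rw [← QuotientGroup.eq_one_iff]
    show f ⁅m, d⁆ = 1
    rw [map_commutatorElement, commutatorElement_eq_one_iff_mul_comm]
    refine key ?_ _ (Subgroup.mem_map_of_mem f hm)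
    rw [← Subgroup.map_commutator]
    exact Subgroup.mem_map_of_mem f hd

/-- A prime order operator without fixed points on `L` forces `[R, Q]` to centralise `L`. -/
theorem fpf_centralizes [Finite X] [Group.IsSolvable X] {L Q R : Subgroup X}
    (hR : (Nat.card R).Prime) (hRQ : R ≤ Subgroup.normalizer (Q : Set X))
    (hQL : Q ≤ Subgroup.normalizer (L : Set X)) (hRL : R ≤ Subgroup.normalizer (L : Set X))
    (hQo : Odd (Nat.card Q)) (hRo : Odd (Nat.card R))
    (hQR : (Nat.card Q).Coprime (Nat.card R)) (hLQ : (Nat.card L).Coprime (Nat.card Q))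
    (hLR : (Nat.card L).Coprime (Nat.card R))
    (hfix : L ⊓ Subgroup.centralizer (R : Set X) = ⊥) :
    ⁅R, Q⁆ ≤ Subgroup.centralizer (L : Set X) := by
  set N := Subgroup.normalizer (L : Set X)
  have hLN : L ≤ N := Subgroup.le_normalizer
  have hc : ∀ {A : Subgroup X}, A ≤ N → Nat.card (A.subgroupOf N) = Nat.card A := fun h =>
    Nat.card_congr (Subgroup.subgroupOfEquivOfLe h).toEquiv
  have : (L.subgroupOf N).Normal := Subgroup.normal_in_normalizer
  have key := fpf_core (Nat.card (L.subgroupOf N)) N (L.subgroupOf N) (Q.subgroupOf N) (R.subgroupOf N)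
    le_rfl (by rw [hc hRL]; exact hR)
    (fun x hx => Subgroup.mem_normalizer_iff.2 fun y => Subgroup.mem_normalizer_iff.1 (hRQ hx) (y : X))
    (by rw [hc hQL]; exact hQo) (by rw [hc hRL]; exact hRo) (by rw [hc hQL, hc hRL]; exact hQR)
    (by rw [hc hLN, hc hQL]; exact hLQ) (by rw [hc hLN, hc hRL]; exact hLR)
    (by
      rw [eq_bot_iff]
      rintro y ⟨hy1, hy2⟩
      have h : (y : X) ∈ L ⊓ Subgroup.centralizer (R : Set X) := ⟨hy1, fun r hr =>
        congrArg Subtype.val (hy2 ⟨r, hRL hr⟩ hr)⟩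
      rw [hfix, Subgroup.mem_bot] at h
      exact Subgroup.mem_bot.2 (Subtype.ext h))
  rw [Subgroup.commutator_le]
  intro a ha b hb v hv
  exact congrArg Subtype.val (key (Subgroup.commutator_mem_commutator
    (show (⟨a, hRL ha⟩ : N) ∈ R.subgroupOf N from ha)
    (show (⟨b, hQL hb⟩ : N) ∈ Q.subgroupOf N from hb)) ⟨v, hLN hv⟩ hv)

end Cfsg.Agent.BGThreeBase
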