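import Cfsg.Prelude.Def_Transfer
import Cfsg.Agent.Lib.BGThreeBase
import Cfsg.Agent.Lib.PGroupsBasic
import Cfsg.Agent.Lib.CoprimeGen
import Cfsg.Agent.Lib.CoprimeExtra

/-!
# The last configuration of Bender–Glauberman 3.6

`V` elementary abelian, `U` a `q`-group, `P₀` a `p`-group and `R` of prime order; all of odd order.
-/

set_option autoImplicit false

open scoped commutatorElement Pointwise

namespace Cfsg.Agent.BGThreeSixEnd

variable {X : Type*} [Group X] [Finite X]

/-- The configuration. -/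
structure Conf (p q r : ℕ) (V U P R : Subgroup X) : Prop where
  hp : p.Prime
  hq : q.Prime
  hr : r.Prime
  hpq : p ≠ q
  hrp : r ≠ p
  hrq : r ≠ q
  hodd : Odd (Nat.card X)
  hRc : Nat.card R = r
  hV : Cfsg.IsElementaryAbelian p V
  hVp : IsPGroup p V
  hUp : IsPGroup q U
  hPp : IsPGroup p P
  hP1 : P ≠ ⊥
  hUV : U ≤ Subgroup.normalizer (V : Set X)
  hPV : P ≤ Subgroup.normalizer (V : Set X)
  hRV : R ≤ Subgroup.normalizer (V : Set X)
  hPU : P ≤ Subgroup.normalizer (U : Set X)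
  hRU : R ≤ Subgroup.normalizer (U : Set X)
  hRP : R ≤ Subgroup.normalizer (P : Set X)
  hfaith : ∀ z ∈ U ⊔ P, z ∈ Subgroup.centralizer (V : Set X) → z = 1
  hCVU : V ⊓ Subgroup.centralizer (U : Set X) = ⊥
  hPR : P ⊓ Subgroup.centralizer (R : Set X) = ⊥
  hUR : U ⊓ Subgroup.centralizer (R : Set X) ≠ ⊥
  hUnc : ¬ IsCyclic U
  hVcyc : IsCyclic ↥(V ⊓ Subgroup.centralizer (R : Set X))
  hUcyc : IsCyclic ↥(U ⊓ Subgroup.centralizer (R : Set X))
  hUexp : ∀ x ∈ U, x ^ q = 1
  hcomm : ⁅U, P⁆ = U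
  hmin : ∀ U₁ : Subgroup X, U₁ < U → P ⊔ R ≤ Subgroup.normalizer (U₁ : Set X) → ⁅U₁, P⁆ = ⊥

variable {p q r : ℕ} {V U P R : Subgroup X}

theorem coprime_of_primes {a b : ℕ} (ha : a.Prime) (hb : b.Prime) (hne : a ≠ b) {A B : Subgroup X}
    (hA : IsPGroup a A) (hB : IsPGroup b B) : (Nat.card A).Coprime (Nat.card B) := by
  have := Fact.mk ha
  have := Fact.mk hb
  obtain ⟨i, hi⟩ := IsPGroup.iff_card.1 hA
  obtain ⟨j, hj⟩ := IsPGroup.iff_card.1 hB
  rw [hi, hj]
  exact Nat.Coprime.pow _ _ ((Nat.coprime_primes ha hb).2 hne)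

theorem Conf.Rp (h : Conf p q r V U P R) : IsPGroup r R := by
  have := Fact.mk h.hr
  exact IsPGroup.of_card (n := 1) (by rw [h.hRc, pow_one])

theorem Conf.copVR (h : Conf p q r V U P R) : (Nat.card V).Coprime (Nat.card R) :=
  coprime_of_primes h.hp h.hr h.hrp.symm h.hVp h.Rp

theorem Conf.copVU (h : Conf p q r V U P R) : (Nat.card V).Coprime (Nat.card U) :=
  coprime_of_primes h.hp h.hq h.hpq h.hVp h.hUp

theorem Conf.copUR (h : Conf p q r V U P R) : (Nat.card U).Coprime (Nat.card R) :=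
  coprime_of_primes h.hq h.hr h.hrq.symm h.hUp h.Rp

theorem Conf.odd (h : Conf p q r V U P R) (A : Subgroup X) : Odd (Nat.card A) :=
  h.hodd.of_dvd_nat A.card_subgroup_dvd_card

theorem Conf.solvable (h : Conf p q r V U P R) : ∀ {A : Subgroup X}, IsPGroup p A →
    Group.IsSolvable A := fun hA => by
  have := Fact.mk h.hp
  exact CoprimeAction.isSolvable_of_isPGroup hA

theorem Conf.cardCV (h : Conf p q r V U P R) :
    Nat.card ↥(V ⊓ Subgroup.centralizer (R : Set X)) ≤ p := by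
  have := Fact.mk h.hp
  exact PGroupsBasic.card_le_prime_of_isCyclic h.hVcyc fun a ha => h.hV.2 a ha.1

theorem Conf.cardCU (h : Conf p q r V U P R) :
    Nat.card ↥(U ⊓ Subgroup.centralizer (R : Set X)) ≤ q := by
  have := Fact.mk h.hq
  exact PGroupsBasic.card_le_prime_of_isCyclic h.hUcyc fun a ha => h.hUexp a ha.1

/-- A proper invariant subgroup of `U` is centralised by `P`. -/
theorem Conf.fixed (h : Conf p q r V U P R) {U₁ : Subgroup X} (hlt : U₁ < U)
    (hP : P ≤ Subgroup.normalizer (U₁ : Set X)) (hR : R ≤ Subgroup.normalizer (U₁ : Set X)) :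
    P ≤ Subgroup.centralizer (U₁ : Set X) := by
  have h1 := h.hmin U₁ hlt (sup_le hP hR)
  rwa [Subgroup.commutator_comm, Subgroup.commutator_eq_bot_iff_le_centralizer] at h1

/-- The case of nonabelian `U`. -/
theorem nonabelian [Group.IsSolvable X] (h : Conf p q r V U P R)
    (hcl : ∀ a ∈ U, ∀ b ∈ U, ∀ c ∈ U, ⁅a, b⁆ * c = c * ⁅a, b⁆)
    (hna : ¬ ∀ a ∈ U, ∀ b ∈ U, a * b = b * a) : False := by
  have := Fact.mk h.hp
  have := Fact.mk h.hq
  have hVab := h.hV.1
  set Z := U ⊓ Subgroup.centralizer (U : Set X) with hZdef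
  have hZU : Z ≤ U := inf_le_left
  have hZn : ∀ {A : Subgroup X}, A ≤ Subgroup.normalizer (U : Set X) →
      A ≤ Subgroup.normalizer (Z : Set X) := fun {A} hA => CoprimeAction.le_normalizer_inf hA
        (fun a ha => by
          refine CoprimeAction.le_normalizer_of_conj_mem (B := Subgroup.centralizer (U : Set X))
            (A := A) (fun a ha b hb => ?_) ha
          intro u hu
          have h1 := hb _ (CoprimeAction.conj_mem' (hA ha) hu)
          calc u * (a * b * a⁻¹) = a * ((a⁻¹ * u * a) * b) * a⁻¹ := by group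
            _ = a * (b * (a⁻¹ * u * a)) * a⁻¹ := by rw [h1]
            _ = _ := by group)
  have hUZ : U ≤ Subgroup.centralizer (Z : Set X) := fun u hu z hz => (hz.2 u hu).symm
  have hUnormZ : U ≤ Subgroup.normalizer (Z : Set X) := hZn Subgroup.le_normalizer
  have hlt : Z < U := by
    refine lt_of_le_of_ne hZU fun e => hna fun a ha b hb => ?_
    have h1 : b ∈ Z := e ▸ hb
    exact h1.2 a ha
  set C := U ⊓ Subgroup.centralizer (R : Set X)
  -- `C` is not contained in `Z`
  have hCZ : ¬ C ≤ Z := by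
    intro hle
    have hY : P ⊔ R ⊔ U ≤ Subgroup.normalizer (Z : Set X) :=
      sup_le (sup_le (hZn h.hPU) (hZn h.hRU)) hUnormZ
    set Y := Subgroup.normalizer (Z : Set X) with hYdef
    have hPY : P ≤ Y := le_sup_left.trans (le_sup_left.trans hY)
    have hRY : R ≤ Y := le_sup_right.trans (le_sup_left.trans hY)
    have hUY : U ≤ Y := le_sup_right.trans hY
    have : (Z.subgroupOf Y).Normal := Subgroup.normal_in_normalizer
    set f := QuotientGroup.mk' (Z.subgroupOf Y) with hfdef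
    set Ub := (U.subgroupOf Y).map f
    set Pb := (P.subgroupOf Y).map f
    set Rb := (R.subgroupOf Y).map f
    have hc : ∀ {A : Subgroup X}, A ≤ Y → Nat.card ((A.subgroupOf Y).map f) ∣ Nat.card A := by
      intro A hA
      rw [← Nat.card_congr (Subgroup.subgroupOfEquivOfLe hA).toEquiv]
      exact Subgroup.card_map_dvd _ f
    have hn : ∀ {A B : Subgroup X}, A ≤ Subgroup.normalizer (B : Set X) →
        A.subgroupOf Y ≤ Subgroup.normalizer ((B.subgroupOf Y : Subgroup Y) : Set Y) :=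
      fun hAB x hx => Subgroup.mem_normalizer_iff.2 fun y => Subgroup.mem_normalizer_iff.1 (hAB hx) (y : X)
    have hRb : (Nat.card Rb).Prime := by
      rcases (Nat.dvd_prime h.hr).1 (h.hRc ▸ hc hRY) with h1 | h1
      · exfalso
        have h2 : R.subgroupOf Y ≤ Z.subgroupOf Y :=
          HallSolvable.map_mk'_eq_bot.1 (Subgroup.card_eq_one.1 h1)
        have h3 : R ≤ U := fun x hx => hZU (h2 (show (⟨x, hRY hx⟩ : Y) ∈ R.subgroupOf Y from hx))
        have h4 := Nat.dvd_gcd (Subgroup.card_dvd_of_le h3) (dvd_refl (Nat.card R))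
        rw [h.copUR, h.hRc, Nat.dvd_one] at h4
        exact h.hr.ne_one h4
      · rw [h1]; exact h.hr
    have hfix : Ub ⊓ Subgroup.centralizer (Rb : Set (Y ⧸ Z.subgroupOf Y)) = ⊥ := by
      rw [← CoprimeAction.map_inf_centralizer_eq f (hn h.hRU)
        (by rw [Nat.card_congr (Subgroup.subgroupOfEquivOfLe hRY).toEquiv,
          Nat.card_congr (Subgroup.subgroupOfEquivOfLe hUY).toEquiv]; exact h.copUR.symm)
        (Or.inr inferInstance), HallSolvable.map_mk'_eq_bot]
      rintro y ⟨hy1, hy2⟩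
      exact hle ⟨hy1, fun t ht => congrArg Subtype.val (hy2 ⟨t, hRY ht⟩ ht)⟩
    have hPc : IsPGroup p Pb := (h.hPp.comap_of_injective Y.subtype Y.subtype_injective).map _
    have key := BGThreeBase.fpf_centralizes (L := Ub) (Q := Pb) (R := Rb) hRb
      ((Subgroup.map_mono (hn h.hRP)).trans (Subgroup.le_normalizer_map f))
      ((Subgroup.map_mono (hn h.hPU)).trans (Subgroup.le_normalizer_map f))
      ((Subgroup.map_mono (hn h.hRU)).trans (Subgroup.le_normalizer_map f))
      ((h.odd P).of_dvd_nat (hc hPY)) ((h.odd R).of_dvd_nat (hc hRY))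
      ((coprime_of_primes h.hp h.hr h.hrp.symm h.hPp h.Rp).coprime_dvd_left (hc hPY) |>.coprime_dvd_right (hc hRY))
      ((coprime_of_primes h.hq h.hp h.hpq.symm h.hUp h.hPp).coprime_dvd_left (hc hUY) |>.coprime_dvd_right (hc hPY))
      (h.copUR.coprime_dvd_left (hc hUY) |>.coprime_dvd_right (hc hRY)) hfix
    have hPRP : P ≤ ⁅R, P⁆ := by
      have h1 := CoprimeAction.commutator_sup_centralizer_eq h.hRP
        (coprime_of_primes h.hr h.hp h.hrp h.Rp h.hPp) (Or.inr (h.solvable h.hPp))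
      rw [h.hPR, sup_bot_eq, Subgroup.commutator_comm] at h1
      exact h1.ge
    refine hlt.not_ge ?_
    rw [← h.hcomm]
    refine (Subgroup.commutator_mono le_rfl hPRP).trans ?_
    rw [Subgroup.commutator_le]
    intro u hu d hd
    have h1 : ⁅R.subgroupOf Y, P.subgroupOf Y⁆.map Y.subtype = ⁅R, P⁆ := by
      rw [Subgroup.map_commutator, Subgroup.map_subgroupOf_eq_of_le hRY, Subgroup.map_subgroupOf_eq_of_le hPY]
    rw [← h1] at hd
    obtain ⟨d', hd', rfl⟩ := hd
    have h2 := key (show f d' ∈ ⁅Rb, Pb⁆ by rw [← Subgroup.map_commutator]; exact Subgroup.mem_map_of_mem f hd')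
      (f ⟨u, hUY hu⟩) (Subgroup.mem_map_of_mem f hu)
    rw [← commutatorElement_eq_one_iff_mul_comm, ← map_commutatorElement] at h2
    exact Subgroup.mem_subgroupOf.1 ((QuotientGroup.eq_one_iff _).1 h2)
  obtain ⟨u, huC, huZ⟩ := SetLike.not_le_iff_exists.1 hCZ
  -- `R` has no fixed points on `Z`
  have hZR : Z ⊓ Subgroup.centralizer (R : Set X) = ⊥ := by
    by_contra hne
    have hle : Z ⊓ Subgroup.centralizer (R : Set X) ≤ C := inf_le_inf_right _ hZU
    obtain ⟨j, hj⟩ := IsPGroup.iff_card.1 (h.hUp.to_le (hle.trans inf_le_left))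
    have h1 : q ≤ Nat.card ↥(Z ⊓ Subgroup.centralizer (R : Set X)) := by
      rw [hj]
      rcases Nat.eq_zero_or_pos j with rfl | hj0
      · exact absurd (Subgroup.card_eq_one.1 (by rw [hj, pow_zero])) hne
      · exact Nat.le_self_pow hj0.ne' q
    have h2 := Subgroup.eq_of_le_of_card_ge hle (h.cardCU.trans h1)
    exact huZ ((h2 ▸ huC : u ∈ Z ⊓ Subgroup.centralizer (R : Set X))).1
  have hRnZ : R ≤ Subgroup.normalizer (Z : Set X) := hZn h.hRU
  have hRZ : ⁅Z, R⁆ = Z := by
    have h1 := CoprimeAction.commutator_sup_centralizer_eq hRnZ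
      (h.copUR.symm.coprime_dvd_right (Subgroup.card_dvd_of_le hZU)) (Or.inr inferInstance)
    rwa [hZR, sup_bot_eq] at h1
  -- the translates of `C_V(R)` under `Z`
  set E := Subgroup.closure {y : X | ∃ z ∈ Z, ∃ v ∈ V ⊓ Subgroup.centralizer (R : Set X), z * v * z⁻¹ = y}
  have hZV : Z ≤ Subgroup.normalizer (V : Set X) := hZU.trans h.hUV
  have hEV : E ≤ V := by
    rw [Subgroup.closure_le]
    rintro _ ⟨z, hz, v, hv, rfl⟩
    exact CoprimeAction.conj_mem (hZV hz) hv.1
  have hEn : ∀ {A : Subgroup X}, (∀ a ∈ A, ∀ z ∈ Z, ∀ v ∈ V ⊓ Subgroup.centralizer (R : Set X),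
      a * (z * v * z⁻¹) * a⁻¹ ∈ E) → A ≤ Subgroup.normalizer (E : Set X) := by
    intro A hA
    refine CoprimeAction.le_normalizer_of_conj_mem fun a ha b hb => ?_
    have : E ≤ E.comap (MulAut.conj a).toMonoidHom := by
      show Subgroup.closure _ ≤ _
      rw [Subgroup.closure_le]
      rintro _ ⟨z, hz, v, hv, rfl⟩
      exact hA a ha z hz v hv
    exact this hb
  have hZE : Z ≤ Subgroup.normalizer (E : Set X) := hEn fun a ha z hz v hv =>
    Subgroup.subset_closure ⟨a * z, Z.mul_mem ha hz, v, hv, by group⟩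
  have hRE : R ≤ Subgroup.normalizer (E : Set X) := hEn fun a ha z hz v hv =>
    Subgroup.subset_closure ⟨a * z * a⁻¹, CoprimeAction.conj_mem (hRnZ ha) hz, v, hv, by
      calc a * z * a⁻¹ * v * (a * z * a⁻¹)⁻¹ = a * z * (a⁻¹ * v * a) * z⁻¹ * a⁻¹ := by group
        _ = a * (z * v * z⁻¹) * a⁻¹ := by
          rw [show a⁻¹ * v * a = v by
            simpa using CoprimeAction.mem_centralizer_iff_conj.1 hv.2 a⁻¹ (R.inv_mem ha)]
          group⟩
  have hcopA : (Nat.card ↥(Z ⊔ R)).Coprime (Nat.card V) := by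
    rw [BGThreeBase.card_sup hRnZ (h.copUR.coprime_dvd_left (Subgroup.card_dvd_of_le hZU))]
    exact Nat.Coprime.mul_left (h.copVU.symm.coprime_dvd_left (Subgroup.card_dvd_of_le hZU)) h.copVR.symm
  obtain ⟨W, hWV, hWn, hEW, hEWV⟩ : ∃ W : Subgroup X, W ≤ V ∧
      Z ⊔ R ≤ Subgroup.normalizer (W : Set X) ∧ E ⊓ W = ⊥ ∧ E ⊔ W = V := by
    -- a complement of `E` in the elementary abelian group `V`
    have hne : Nonempty {W : Subgroup X // W ≤ V ∧ E ⊓ W = ⊥} := ⟨⟨⊥, bot_le, inf_bot_eq _⟩⟩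
    obtain ⟨W₀, hW₀⟩ := Finite.exists_max
      fun W : {W : Subgroup X // W ≤ V ∧ E ⊓ W = ⊥} => Nat.card W.1
    have hW₀top : E ⊔ W₀.1 = V := by
      refine le_antisymm (sup_le hEV W₀.2.1) fun v hv => ?_
      by_contra hvn
      have hvW : v ∉ W₀.1 := fun hh => hvn ((le_sup_right : W₀.1 ≤ E ⊔ W₀.1) hh)
      have hcomm : ∀ a ∈ V, ∀ b ∈ V, a * b = b * a := fun a ha b hb =>
        PGroupsBasic.comm_of_isMulCommutative hVab ha hb
      have hv1 : v ≠ 1 := fun e => hvW (e ▸ one_mem _)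
      have hov : orderOf v = p := PGroupsBasic.orderOf_eq_of_pow_eq_one (h.hV.2 v hv) hv1
      let W₁ : {W : Subgroup X // W ≤ V ∧ E ⊓ W = ⊥} := ⟨W₀.1 ⊔ Subgroup.zpowers v,
        sup_le W₀.2.1 (Subgroup.zpowers_le.2 hv), by
          rw [eq_bot_iff]
          rintro e ⟨heE, heW⟩
          have hn : Subgroup.zpowers v ≤ Subgroup.normalizer (W₀.1 : Set X) :=
            Subgroup.zpowers_le.2 (CoprimeAction.le_normalizer_of_conj_mem (A := V) (B := W₀.1)
              (fun a ha b hb => by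
                rw [hcomm a ha b (W₀.2.1 hb), mul_inv_cancel_right]; exact hb) hv)
          replace heW : e ∈ ((W₀.1 ⊔ Subgroup.zpowers v : Subgroup X) : Set X) := heW
          rw [Subgroup.coe_mul_of_right_le_normalizer_left _ _ hn] at heW
          obtain ⟨w, hw, t, ht, rfl⟩ := heW
          obtain ⟨i, rfl⟩ := Subgroup.mem_zpowers_iff.1 ht
          have h1 : v ^ i ∈ E ⊔ W₀.1 := by
            have h2 : w⁻¹ * (w * v ^ i) ∈ E ⊔ W₀.1 :=
              (E ⊔ W₀.1).mul_mem ((le_sup_right : W₀.1 ≤ E ⊔ W₀.1) (inv_mem hw))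
                ((le_sup_left : E ≤ E ⊔ W₀.1) heE)
            rwa [inv_mul_cancel_left] at h2
          have h3 : v ^ i = 1 := by
            by_contra hne
            refine hvn ?_
            have h4 : Subgroup.zpowers (v ^ i) = Subgroup.zpowers v := by
              refine Subgroup.eq_of_le_of_card_ge (Subgroup.zpowers_le.2 ht) ?_
              rw [Nat.card_zpowers, Nat.card_zpowers, hov,
                PGroupsBasic.orderOf_eq_of_pow_eq_one (h.hV.2 _ (V.zpow_mem hv i)) hne]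
            exact (Subgroup.zpowers_le.2 h1) (h4.ge (Subgroup.mem_zpowers v))
          simp only [h3, mul_one] at heE ⊢
          have h5 : w ∈ E ⊓ W₀.1 := ⟨heE, hw⟩
          rwa [W₀.2.2] at h5⟩
      have h6 := Subgroup.eq_of_le_of_card_ge (le_sup_left : W₀.1 ≤ W₁.1) (hW₀ W₁)
      exact hvW (h6.ge ((le_sup_right : Subgroup.zpowers v ≤ _) (Subgroup.mem_zpowers v)))
    exact CoprimeAction.exists_invariant_complement (sup_le hZV h.hRV)
      (hcopA.coprime_dvd_right (Subgroup.card_dvd_of_le hEV)) hEV (sup_le hZE hRE) W₀.2.1 W₀.2.2 hW₀top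
  have hWZ : Z ≤ Subgroup.centralizer (W : Set X) := by
    rw [← hRZ, Subgroup.commutator_comm]
    refine BGThreeBase.fpf_centralizes (h.hRc ▸ h.hr) hRnZ (le_sup_left.trans hWn)
      (le_sup_right.trans hWn) (h.odd _) (h.odd _)
      (h.copUR.coprime_dvd_left (Subgroup.card_dvd_of_le hZU))
      ((h.copVU.coprime_dvd_right (Subgroup.card_dvd_of_le hZU)).coprime_dvd_left (Subgroup.card_dvd_of_le hWV))
      (h.copVR.coprime_dvd_left (Subgroup.card_dvd_of_le hWV)) ?_
    rw [eq_bot_iff]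
    rintro w ⟨hw, hwR⟩
    have h1 : w ∈ E ⊓ W := ⟨Subgroup.subset_closure ⟨1, one_mem _, w, ⟨hWV hw, hwR⟩, by group⟩, hw⟩
    rwa [hEW] at h1
  have hcomm : ∀ a ∈ V, ∀ b ∈ V, a * b = b * a := fun a ha b hb =>
    PGroupsBasic.comm_of_isMulCommutative hVab ha hb
  have hVZE : ⁅V, Z⁆ ≤ E := by
    rw [Subgroup.commutator_le]
    intro v hv z hz
    have hv' : v ∈ E ⊔ W := hEWV.ge hv
    have hn : W ≤ Subgroup.normalizer (E : Set X) :=
      CoprimeAction.le_normalizer_of_conj_mem fun a ha b hb => by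
        rw [hcomm a (hWV ha) b (hEV hb), mul_inv_cancel_right]; exact hb
    rw [← SetLike.mem_coe, Subgroup.coe_mul_of_right_le_normalizer_left _ _ hn] at hv'
    obtain ⟨e, he, w, hw, rfl⟩ := hv'
    have hwz : w * z = z * w := hWZ hz w hw
    rw [show ⁅e * w, z⁆ = e * (z * e⁻¹ * z⁻¹) by
      rw [commutatorElement_def]
      calc e * w * z * (e * w)⁻¹ * z⁻¹ = e * (w * z) * w⁻¹ * e⁻¹ * z⁻¹ := by group
        _ = _ := by rw [hwz]; group]
    exact E.mul_mem he (CoprimeAction.conj_mem (hZE hz) (E.inv_mem he))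
  -- `u` acts as a power map on `E`
  obtain ⟨i, hi⟩ : ∃ i : ℤ, ∀ v ∈ V ⊓ Subgroup.centralizer (R : Set X), u * v * u⁻¹ = v ^ i := by
    have := h.hVcyc
    let φ : ↥(V ⊓ Subgroup.centralizer (R : Set X)) →* ↥(V ⊓ Subgroup.centralizer (R : Set X)) :=
      { toFun := fun v => ⟨u * v * u⁻¹, CoprimeAction.conj_mem (h.hUV huC.1) v.2.1,
          Subgroup.mul_mem _ (Subgroup.mul_mem _ huC.2 v.2.2) (Subgroup.inv_mem _ huC.2)⟩
        map_one' := Subtype.ext (by simp)
        map_mul' := fun a b => Subtype.ext (by simp [mul_assoc]) }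
    obtain ⟨i, hi⟩ := MonoidHom.map_cyclic φ
    exact ⟨i, fun v hv => congrArg Subtype.val (hi ⟨v, hv⟩)⟩
  have hscal : ∀ y ∈ E, u * y * u⁻¹ = y ^ i := by
    intro y hy
    induction hy using Subgroup.closure_induction with
    | mem y hy =>
      obtain ⟨z, hz, v, hv, rfl⟩ := hy
      have e : u * z = z * u := hz.2 u huC.1
      rw [conj_zpow, ← hi v hv]
      calc u * (z * v * z⁻¹) * u⁻¹ = (u * z) * v * (u * z)⁻¹ := by group
        _ = _ := by rw [e]; group
    | one => simp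
    | mul a b ha hb iha ihb =>
      rw [(show Commute a b from hcomm a (hEV ha) b (hEV hb)).mul_zpow, ← iha, ← ihb]; group
    | inv a _ iha => rw [inv_zpow, ← iha]; group
  -- conclusion
  refine huZ ⟨huC.1, fun a ha => ?_⟩
  rw [← commutatorElement_eq_one_iff_mul_comm]
  have hmem : ⁅a, u⁆ ∈ U := by
    rw [commutatorElement_def]
    exact U.mul_mem (U.mul_mem (U.mul_mem ha huC.1) (U.inv_mem ha)) (U.inv_mem huC.1)
  refine h.hfaith _ ((le_sup_left : U ≤ U ⊔ P) hmem) ?_
  have hcz : ⁅a, u⁆ ∈ Z := ⟨hmem, fun w hw => (hcl a ha u huC.1 w hw).symm⟩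
  have hCvz : ⁅V, Z⁆ ≤ Subgroup.centralizer ({⁅a, u⁆} : Set X) := by
    intro y hy
    rw [Subgroup.mem_centralizer_singleton_iff]
    have hn : a ∈ Subgroup.normalizer ((⁅V, Z⁆ : Subgroup X) : Set X) := by
      refine (CoprimeAction.le_normalizer_of_conj_mem (A := U) (B := ⁅V, Z⁆) fun g hg b hb => ?_) ha
      have hle : ⁅V, Z⁆ ≤ ⁅V, Z⁆.comap (MulAut.conj g).toMonoidHom := by
        rw [Subgroup.commutator_le]
        intro v hv z hz
        show g * ⁅v, z⁆ * g⁻¹ ∈ ⁅V, Z⁆
        rw [conjugate_commutatorElement]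
        refine Subgroup.commutator_mem_commutator (CoprimeAction.conj_mem (h.hUV hg) hv) ?_
        rw [hz.2 g hg, mul_inv_cancel_right]
        exact hz
      exact hle hb
    have hu' : ∀ w ∈ ⁅V, Z⁆, u * w * u⁻¹ = w ^ i := fun w hw => hscal w (hVZE hw)
    -- `u⁻¹` as the inverse power map
    set y' := a⁻¹ * y * a
    have hy' : y' ∈ ⁅V, Z⁆ := CoprimeAction.conj_mem' hn hy
    have e1 : a * (u * y' * u⁻¹) * a⁻¹ = u * y * u⁻¹ := by
      rw [hu' y' hy', hu' y hy, ← conj_zpow]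
      congr 1
      simp only [y']
      group
    -- hence `a u a⁻¹ u⁻¹` fixes `u y u⁻¹`; apply at the preimage
    have e2 : ⁅a, u⁆ * (u * y * u⁻¹) * ⁅a, u⁆⁻¹ = u * y * u⁻¹ := by
      conv_rhs => rw [← e1]
      simp only [y', commutatorElement_def]
      group
    have e3 : ⁅a, u⁆ * u = u * ⁅a, u⁆ := (hcz.2 u huC.1).symm
    have e4 : u * (⁅a, u⁆ * y * ⁅a, u⁆⁻¹) * u⁻¹ = u * y * u⁻¹ := by
      conv_rhs => rw [← e2]
      calc u * (⁅a, u⁆ * y * ⁅a, u⁆⁻¹) * u⁻¹ = (u * ⁅a, u⁆) * y * (u * ⁅a, u⁆)⁻¹ := by group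
        _ = _ := by rw [← e3]; group
    have e5 : ⁅a, u⁆ * y * ⁅a, u⁆⁻¹ = y := mul_left_cancel (mul_right_cancel e4)
    calc y * ⁅a, u⁆ = ⁅a, u⁆ * y * ⁅a, u⁆⁻¹ * ⁅a, u⁆ := by rw [e5]
      _ = _ := by group
  intro v hv
  have hdec := CoprimeAction.commutator_sup_centralizer_eq hZV
    (h.copVU.symm.coprime_dvd_left (Subgroup.card_dvd_of_le hZU)) (Or.inr (h.solvable h.hVp))
  have hle : V ≤ Subgroup.centralizer ({⁅a, u⁆} : Set X) :=
    hdec.ge.trans (sup_le hCvz fun w hw => Subgroup.mem_centralizer_singleton_iff.2 (hw.2 _ hcz).symm)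
  exact Subgroup.mem_centralizer_singleton_iff.1 (hle hv)

theorem smul_eq_of_mem_normalizer {g : X} {H : Subgroup X}
    (hg : g ∈ Subgroup.normalizer (H : Set X)) : MulAut.conj g • H = H := by
  ext x
  rw [CoprimeSZ.mem_conj_smul]
  exact (Subgroup.mem_normalizer_iff''.1 hg x).symm

theorem normalizer_le_normalizer_centralizer (B : Subgroup X) :
    Subgroup.normalizer (B : Set X) ≤
      Subgroup.normalizer ((Subgroup.centralizer (B : Set X) : Subgroup X) : Set X) := by
  refine CoprimeAction.le_normalizer_of_conj_mem fun a ha b hb y hy => ?_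
  have h1 := hb _ (CoprimeAction.conj_mem' ha hy)
  calc y * (a * b * a⁻¹) = a * ((a⁻¹ * y * a) * b) * a⁻¹ := by group
    _ = a * (b * (a⁻¹ * y * a)) * a⁻¹ := by rw [h1]
    _ = _ := by group

/-- `V` is generated by the fixed points of the subgroups of index `q` of abelian `U`. -/
theorem le_cyclic_generation (h : Conf p q r V U P R) [IsMulCommutative U] {H : Subgroup X}
    (hfix : ∀ B : Subgroup X, B ≤ U → q * Nat.card B = Nat.card U →
      V ⊓ Subgroup.centralizer (B : Set X) ≤ H) : V ≤ H := by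
  have := Fact.mk h.hq
  refine CoprimeExtra.le_of_cyclic_quotient_centralizers h.hUV h.copVU.symm fun B hB hcyc => ?_
  have hexp : ∀ z : ↥U ⧸ B.subgroupOf U, z ^ q = 1 := by
    intro z
    induction z using QuotientGroup.induction_on with
    | H u =>
      rw [← QuotientGroup.mk_pow, show u ^ q = 1 from Subtype.ext (h.hUexp u u.2), QuotientGroup.mk_one]
  obtain ⟨g, hg⟩ := hcyc.exists_generator
  have hdvd : Nat.card (↥U ⧸ B.subgroupOf U) ∣ q := by
    rw [← orderOf_eq_card_of_forall_mem_zpowers hg]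
    exact orderOf_dvd_of_pow_eq_one (hexp g)
  have hmul := (B.subgroupOf U).card_eq_card_quotient_mul_card_subgroup
  rw [Nat.card_congr (Subgroup.subgroupOfEquivOfLe hB).toEquiv] at hmul
  rcases (Nat.dvd_prime h.hq).1 hdvd with h1 | h1
  · rw [h1, one_mul] at hmul
    rw [Subgroup.eq_of_le_of_card_ge hB hmul.le, h.hCVU]
    exact bot_le
  · exact hfix B hB (by rw [hmul, h1])

/-- A `p`-group normalising a subgroup of order `p` centralises it. -/
theorem centralizes_card_prime (hp : p.Prime) {A T : Subgroup X} (hA : IsPGroup p A)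
    (hT : Nat.card T = p) (hAT : A ≤ Subgroup.normalizer (T : Set X)) :
    A ≤ Subgroup.centralizer (T : Set X) := by
  have := Fact.mk hp
  intro a ha x hx
  by_cases hx1 : x = 1
  · simp [hx1]
  letI : MulAction A X := MulAction.compHom X (MulAut.conj.comp A.subtype)
  have hsub : MulAction.orbit A x ⊆ (T : Set X) \ {1} := by
    rintro _ ⟨b, rfl⟩
    refine ⟨CoprimeAction.conj_mem (hAT b.2) hx, fun h1 => hx1 ?_⟩
    exact conj_eq_one_iff.1 (show (b : X) * x * (b : X)⁻¹ = 1 from h1)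
  obtain ⟨k, hk⟩ := hA.card_orbit x
  have h1 : (MulAction.orbit A x).ncard ≤ ((T : Set X) \ {1}).ncard :=
    Set.ncard_le_ncard hsub (Set.toFinite _)
  rw [Set.ncard_diff_singleton_of_mem T.one_mem, ← Nat.card_coe_set_eq, hk, ← Nat.card_coe_set_eq] at h1
  have hk0 : k = 0 := by
    by_contra hne
    have h2 := Nat.le_self_pow hne p
    rw [SetLike.coe_sort_coe, hT] at h1
    have := hp.two_le
    omega
  rw [hk0, pow_zero] at hk
  have hsingle : MulAction.orbit A x = {x} := by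
    obtain ⟨y, hy⟩ := Set.ncard_eq_one.1 ((Nat.card_coe_set_eq _).symm.trans hk)
    have : x ∈ MulAction.orbit A x := MulAction.mem_orbit_self x
    rw [hy] at this ⊢
    rw [Set.mem_singleton_iff.1 this]
  have h3 : a * x * a⁻¹ = x := by
    have : a * x * a⁻¹ ∈ MulAction.orbit A x := ⟨⟨a, ha⟩, rfl⟩
    rw [hsingle] at this
    exact this
  exact (mul_inv_eq_iff_eq_mul.1 h3).symm

/-- The case of abelian `U`. -/
theorem abelian [Group.IsSolvable X] (h : Conf p q r V U P R)
    (hab : ∀ a ∈ U, ∀ b ∈ U, a * b = b * a) : False := by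
  classical
  have := Fact.mk h.hp
  have := Fact.mk h.hq
  have hVab := h.hV.1
  have hUab : IsMulCommutative U := PGroupsBasic.isMulCommutative_of_forall hab
  have hcommV : ∀ a ∈ V, ∀ b ∈ V, a * b = b * a := fun a ha b hb =>
    PGroupsBasic.comm_of_isMulCommutative hVab ha hb
  -- `P` fixes no nontrivial element of `U`
  have hUP : U ⊓ Subgroup.centralizer (P : Set X) = ⊥ := by
    have h1 := CoprimeAction.inf_centralizer_inf_commutator_eq_bot (V := U) h.hPU
      (coprime_of_primes h.hp h.hq h.hpq h.hPp h.hUp)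
    rw [h.hcomm, inf_eq_left.2 inf_le_left] at h1
    exact h1
  set T : Subgroup X → Subgroup X := fun W => V ⊓ Subgroup.centralizer (W : Set X) with hT
  set S : Set (Subgroup X) := {W | W ≤ U ∧ q * Nat.card W = Nat.card U ∧ T W ≠ ⊥} with hS
  have hWne : ∀ W ∈ S, W < U := by
    intro W hW
    refine lt_of_le_of_ne hW.1 fun e => ?_
    have h1 := hW.2.1
    rw [e] at h1
    have h2 := Nat.card_pos (α := U)
    have h3 := h.hq.two_le
    nlinarith
  have hsup : ∀ W ∈ S, ∀ W' ∈ S, W' ≠ W → W ⊔ W' = U := by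
    intro W hW W' hW' hne
    have hle : W ⊔ W' ≤ U := sup_le hW.1 hW'.1
    refine Subgroup.eq_of_le_of_card_ge hle ?_
    obtain ⟨c, hc⟩ := Subgroup.card_dvd_of_le (le_sup_left : W ≤ W ⊔ W')
    have h1 : Nat.card W * c ∣ Nat.card W * q := by
      rw [← hc, mul_comm (Nat.card W), hW.2.1]
      exact Subgroup.card_dvd_of_le hle
    rcases (Nat.dvd_prime h.hq).1 (Nat.dvd_of_mul_dvd_mul_left Nat.card_pos h1) with h2 | h2
    · refine absurd ?_ hne
      have h3 : W = W ⊔ W' := Subgroup.eq_of_le_of_card_ge le_sup_left (by rw [hc, h2, mul_one])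
      refine Subgroup.eq_of_le_of_card_ge (h3 ▸ le_sup_right) ?_
      have := hW.2.1.trans hW'.2.1.symm
      exact (Nat.eq_of_mul_eq_mul_left h.hq.pos this).le
    · rw [hc, h2, mul_comm, hW.2.1]
  have hUT : ∀ W, W ≤ U → U ≤ Subgroup.normalizer (T W : Set X) := by
    intro W hW
    refine CoprimeAction.le_normalizer_inf h.hUV fun u hu => normalizer_le_normalizer_centralizer W
      (Subgroup.centralizer_le_normalizer _ fun w hw => hab w (hW hw) u hu)
  -- decomposition of `V` by a member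
  have hTcomm : ∀ W ∈ S, ∀ W' ∈ S, W' ≠ W → T W' ≤ ⁅V, W⁆ := by
    intro W hW W' hW' hne
    have hd := CoprimeAction.commutator_sup_centralizer_eq (hW.1.trans (hUT W' hW'.1))
      (h.copVU.symm.coprime_dvd_left (Subgroup.card_dvd_of_le hW.1) |>.coprime_dvd_right
        (Subgroup.card_dvd_of_le inf_le_left)) (Or.inr (h.solvable (h.hVp.to_le inf_le_left)))
    have h0 : T W' ⊓ Subgroup.centralizer (W : Set X) = ⊥ := by
      rw [eq_bot_iff, ← h.hCVU, ← hsup W hW W' hW' hne]
      intro x hx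
      refine ⟨hx.1.1, ?_⟩
      have h2 : W ⊔ W' ≤ Subgroup.centralizer ({x} : Set X) :=
        sup_le (fun w hw => Subgroup.mem_centralizer_singleton_iff.2 (hx.2 w hw))
          (fun w hw => Subgroup.mem_centralizer_singleton_iff.2 (hx.1.2 w hw))
      exact fun w hw => Subgroup.mem_centralizer_singleton_iff.1 (h2 hw)
    rw [h0, sup_bot_eq] at hd
    rw [← hd]
    exact Subgroup.commutator_mono inf_le_left le_rfl
  have hTfit : ∀ W ∈ S, T W ⊓ ⁅V, W⁆ = ⊥ := fun W hW =>
    CoprimeAction.inf_centralizer_inf_commutator_eq_bot (V := V) (hW.1.trans h.hUV)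
      (h.copVU.symm.coprime_dvd_left (Subgroup.card_dvd_of_le hW.1))
  -- conjugation preserves `S`
  have hconj : ∀ g ∈ Subgroup.normalizer (U : Set X) ⊓ Subgroup.normalizer (V : Set X), ∀ W ∈ S,
      MulAut.conj g • W ∈ S := by
    intro g hg W hW
    refine ⟨?_, by rw [CoprimeSZ.card_conj_smul, hW.2.1], ?_⟩
    · intro x hx
      rw [CoprimeSZ.mem_conj_smul] at hx
      have h1 := CoprimeAction.conj_mem hg.1 (hW.1 hx)
      simpa [mul_assoc] using h1
    · intro hbot
      refine hW.2.2 (eq_bot_iff.2 fun x hx => ?_)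
      have h1 : g * x * g⁻¹ ∈ T (MulAut.conj g • W) := by
        refine ⟨CoprimeAction.conj_mem hg.2 hx.1, fun y hy => ?_⟩
        rw [SetLike.mem_coe, CoprimeSZ.mem_conj_smul] at hy
        have h2 := hx.2 _ hy
        calc y * (g * x * g⁻¹) = g * ((g⁻¹ * y * g) * x) * g⁻¹ := by group
          _ = g * (x * (g⁻¹ * y * g)) * g⁻¹ := by rw [h2]
          _ = _ := by group
      rw [hbot, Subgroup.mem_bot, conj_eq_one_iff] at h1
      exact h1
  have hRS : ∀ a ∈ R, ∀ W ∈ S, MulAut.conj a • W ∈ S := fun a ha =>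
    hconj a ⟨h.hRU ha, h.hRV ha⟩
  have hPS : ∀ a ∈ P, ∀ W ∈ S, MulAut.conj a • W ∈ S := fun a ha =>
    hconj a ⟨h.hPU ha, h.hPV ha⟩
  -- a moved member has a regular orbit under `R`
  have hreg : ∀ W : Subgroup X, ¬ R ≤ Subgroup.normalizer (W : Set X) →
      Function.Injective fun a : R => MulAut.conj (a : X) • W := by
    intro W hW a b hab'
    by_contra hne
    refine hW ?_
    have h1 : ((b : X)⁻¹ * a) ∈ R ⊓ Subgroup.normalizer (W : Set X) := by
      refine ⟨R.mul_mem (R.inv_mem b.2) a.2, CoprimeAction.mem_normalizer_of_conj_smul_eq ?_⟩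
      rw [CoprimeSZ.conj_smul_mul, show MulAut.conj (a : X) • W = MulAut.conj (b : X) • W from hab',
        ← CoprimeSZ.conj_smul_mul, inv_mul_cancel, map_one, one_smul]
    rcases (Nat.dvd_prime h.hr).1 (h.hRc ▸ Subgroup.card_dvd_of_le
      (inf_le_left : R ⊓ Subgroup.normalizer (W : Set X) ≤ R)) with h2 | h2
    · rw [Subgroup.card_eq_one.1 h2, Subgroup.mem_bot, inv_mul_eq_one] at h1
      exact absurd (Subtype.ext h1.symm) hne
    · exact (Subgroup.eq_of_le_of_card_ge inf_le_left (h.hRc.le.trans h2.ge)).ge.trans inf_le_right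
  -- the orbit sum
  letI : CommGroup V := { (inferInstance : Group V) with mul_comm := fun x y => mul_comm' x y }
  letI := Fintype.ofFinite R
  let φ : V →* V := ∏ a : R, CoprimeAction.conjHom V (a : X) (h.hRV a.2)
  have hφC : ∀ v : V, ((φ v : V) : X) ∈ V ⊓ Subgroup.centralizer (R : Set X) := by
    intro v
    refine ⟨(φ v).2, CoprimeAction.mem_centralizer_iff_conj.2 fun b hb => ?_⟩
    have key : CoprimeAction.conjHom V b (h.hRV hb) (φ v) = φ v := by
      simp only [φ, MonoidHom.finsetProd_apply, map_prod]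
      refine Fintype.prod_equiv (Equiv.mulLeft ⟨b, hb⟩) _ _ fun a => ?_
      ext
      simp [CoprimeAction.conjHom, mul_assoc]
    exact congrArg Subtype.val key
  have hφW : ∀ W ∈ S, ∀ W' ∈ S, (∀ a ∈ R, MulAut.conj a • W' ≠ W) → ∀ v : V, (v : X) ∈ T W' →
      ((φ v : V) : X) ∈ ⁅V, W⁆ := by
    intro W hW W' hW' hne v hv
    have : φ v ∈ (⁅V, W⁆).subgroupOf V := by
      rw [MonoidHom.finsetProd_apply]
      refine Subgroup.prod_mem _ fun a _ => ?_
      refine hTcomm W hW _ (hRS a a.2 W' hW') (hne a a.2) ⟨?_, fun y hy => ?_⟩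
      · exact CoprimeAction.conj_mem (h.hRV a.2) v.2
      · rw [SetLike.mem_coe, CoprimeSZ.mem_conj_smul] at hy
        have h2 := hv.2 _ hy
        show y * ((a : X) * v * (a : X)⁻¹) = (a : X) * v * (a : X)⁻¹ * y
        calc y * ((a : X) * v * (a : X)⁻¹) = (a : X) * (((a : X)⁻¹ * y * a) * v) * (a : X)⁻¹ := by group
          _ = (a : X) * (v * ((a : X)⁻¹ * y * a)) * (a : X)⁻¹ := by rw [h2]
          _ = _ := by group
    exact this
  have hφid : ∀ W ∈ S, ¬ R ≤ Subgroup.normalizer (W : Set X) → ∀ v : V, (v : X) ∈ T W →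
      ((v⁻¹ * φ v : V) : X) ∈ ⁅V, W⁆ := by
    intro W hW hmv v hv
    have : v⁻¹ * φ v ∈ (⁅V, W⁆).subgroupOf V := by
      rw [MonoidHom.finsetProd_apply, ← Finset.mul_prod_erase _ _ (Finset.mem_univ (1 : R)),
        show CoprimeAction.conjHom V ((1 : R) : X) (h.hRV (1 : R).2) v = v from
          Subtype.ext (by simp [CoprimeAction.conjHom]), inv_mul_cancel_left]
      refine Subgroup.prod_mem _ fun a ha => ?_
      refine hTcomm W hW _ (hRS a a.2 W hW) (fun e => ?_) ⟨?_, fun y hy => ?_⟩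
      · exact Finset.ne_of_mem_erase ha (hreg W hmv (e.trans (by simp)))
      · exact CoprimeAction.conj_mem (h.hRV a.2) v.2
      · rw [SetLike.mem_coe, CoprimeSZ.mem_conj_smul] at hy
        have h2 := hv.2 _ hy
        show y * ((a : X) * v * (a : X)⁻¹) = (a : X) * v * (a : X)⁻¹ * y
        calc y * ((a : X) * v * (a : X)⁻¹) = (a : X) * (((a : X)⁻¹ * y * a) * v) * (a : X)⁻¹ := by group
          _ = (a : X) * (v * ((a : X)⁻¹ * y * a)) * (a : X)⁻¹ := by rw [h2]
          _ = _ := by group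
    exact this
  have hinj : ∀ W ∈ S, ¬ R ≤ Subgroup.normalizer (W : Set X) → ∀ v : V, (v : X) ∈ T W → φ v = 1 →
      v = 1 := by
    intro W hW hmv v hv hv1
    have h1 := hφid W hW hmv v hv
    rw [hv1, mul_one] at h1
    have h2 : (v : X) ∈ T W ⊓ ⁅V, W⁆ := ⟨hv, by
      have h3 := Subgroup.inv_mem _ h1
      simpa using h3⟩
    rw [hTfit W hW, Subgroup.mem_bot] at h2
    exact Subtype.ext h2
  have hTcard : ∀ W ∈ S, ¬ R ≤ Subgroup.normalizer (W : Set X) → Nat.card (T W) = p ∧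
      ∀ c ∈ V ⊓ Subgroup.centralizer (R : Set X), ∃ v : V, (v : X) ∈ T W ∧ ((φ v : V) : X) = c := by
    intro W hW hmv
    let ψ : T W → ↥(V ⊓ Subgroup.centralizer (R : Set X)) := fun v => ⟨_, hφC ⟨v, v.2.1⟩⟩
    have hψ : Function.Injective ψ := by
      intro a b hab'
      have h1 : φ (⟨a, a.2.1⟩ * (⟨b, b.2.1⟩ : V)⁻¹) = 1 := by
        rw [map_mul, map_inv, show φ ⟨a, a.2.1⟩ = φ ⟨b, b.2.1⟩ from
          Subtype.ext (congrArg Subtype.val hab' :), mul_inv_cancel]
      have h2 := hinj W hW hmv _ ((T W).mul_mem a.2 ((T W).inv_mem b.2)) h1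
      rw [mul_inv_eq_one] at h2
      exact Subtype.ext (congrArg Subtype.val h2 :)
    have h1 := (Nat.card_le_card_of_injective ψ hψ).trans h.cardCV
    obtain ⟨j, hj⟩ := IsPGroup.iff_card.1 (h.hVp.to_le (inf_le_left : T W ≤ V))
    have h2 : p ≤ Nat.card (T W) := by
      rw [hj]
      rcases Nat.eq_zero_or_pos j with rfl | hj0
      · exact absurd (Subgroup.card_eq_one.1 (by rw [hj, pow_zero])) hW.2.2
      · exact Nat.le_self_pow hj0.ne' p
    refine ⟨le_antisymm h1 h2, fun c hc => ?_⟩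
    have hbij := hψ.bijective_of_nat_card_le (h.cardCV.trans h2)
    obtain ⟨v, hv⟩ := hbij.2 ⟨c, hc⟩
    exact ⟨⟨v, v.2.1⟩, v.2, congrArg Subtype.val hv⟩
  -- the moved members form one orbit
  have horb : ∀ W ∈ S, ∀ W' ∈ S, ¬ R ≤ Subgroup.normalizer (W : Set X) →
      ¬ R ≤ Subgroup.normalizer (W' : Set X) → ∃ a ∈ R, MulAut.conj a • W' = W := by
    intro W hW W' hW' hmv hmv'
    by_contra hne
    push Not at hne
    obtain ⟨x, hx, hx1⟩ := (T W').ne_bot_iff_exists_ne_one.1 hW'.2.2 |>.elim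
      fun x hx => (⟨x.1, x.2, fun e => hx (Subtype.ext e)⟩ : ∃ x, x ∈ T W' ∧ x ≠ 1)
    obtain ⟨v, hv, hvx⟩ := (hTcard W hW hmv).2 _ (hφC ⟨x, hx.1⟩)
    have h1 := hφid W hW hmv v hv
    have h2 : ((φ ⟨x, hx.1⟩ : V) : X) ∈ ⁅V, W⁆ := hφW W hW W' hW' hne _ hx
    rw [Subgroup.coe_mul, Subgroup.coe_inv, hvx] at h1
    have h3 : (v : X) ∈ T W ⊓ ⁅V, W⁆ := by
      refine ⟨hv, ?_⟩
      have h4 := (⁅V, W⁆).mul_mem h2 ((⁅V, W⁆).inv_mem h1)
      simpa [mul_assoc] using h4
    rw [hTfit W hW, Subgroup.mem_bot] at h3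
    have hv1 : v = 1 := Subtype.ext h3
    rw [hv1, map_one, Subgroup.coe_one] at hvx
    exact hx1 (congrArg Subtype.val (hinj W' hW' hmv' ⟨x, hx.1⟩ hx (Subtype.ext hvx.symm)))
  letI : MulAction P (Subgroup X) := MulAction.compHom _ (MulAut.conj.comp P.subtype)
  by_cases hex : ∃ W ∈ S, R ≤ Subgroup.normalizer (W : Set X)
  · obtain ⟨W, hW, hRW⟩ := hex
    set O := MulAction.orbit P W with hO
    have hOS : O ⊆ S := by
      rintro _ ⟨g, rfl⟩
      exact hPS g g.2 W hW
    have honly : ∀ W' ∈ O, R ≤ Subgroup.normalizer (W' : Set X) → W' = W := by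
      rintro _ ⟨g, rfl⟩ hfix
      have hD : R ≤ Subgroup.normalizer ((P ⊓ Subgroup.normalizer (W : Set X) : Subgroup X) : Set X) :=
        CoprimeAction.le_normalizer_inf h.hRP (hRW.trans Subgroup.le_normalizer)
      obtain ⟨c, hc, hcD⟩ := CoprimeAction.exists_fixed_mem_coset hD
        ((coprime_of_primes h.hr h.hp h.hrp h.Rp h.hPp).coprime_dvd_right
          (Subgroup.card_dvd_of_le inf_le_left)) (Or.inr (h.solvable (h.hPp.to_le inf_le_left)))
        (g : X) (fun a ha => by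
          refine ⟨?_, CoprimeAction.mem_normalizer_of_conj_smul_eq ?_⟩
          · exact (show (g : X)⁻¹ * a * g * a⁻¹ = (g : X)⁻¹ * (a * g * a⁻¹) by group) ▸
              P.mul_mem (P.inv_mem g.2) (CoprimeAction.conj_mem (h.hRP ha) g.2)
          · have e1 : MulAut.conj a⁻¹ • W = W :=
              smul_eq_of_mem_normalizer (hRW (R.inv_mem ha))
            have e2 : MulAut.conj a • (MulAut.conj (g : X) • W) = MulAut.conj (g : X) • W :=
              smul_eq_of_mem_normalizer (hfix ha)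
            rw [CoprimeSZ.conj_smul_mul, e1, CoprimeSZ.conj_smul_mul, CoprimeSZ.conj_smul_mul,
              e2, ← CoprimeSZ.conj_smul_mul, inv_mul_cancel, map_one, one_smul])
      have hcP : c ∈ P ⊓ Subgroup.centralizer (R : Set X) := by
        refine ⟨?_, hc⟩
        have := P.mul_mem g.2 hcD.1
        rwa [mul_inv_cancel_left] at this
      rw [h.hPR, Subgroup.mem_bot] at hcP
      rw [hcP, mul_one] at hcD
      have := (Subgroup.inv_mem_iff _).1 hcD.2
      exact smul_eq_of_mem_normalizer this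
    have hone : ∃ W₁ ∈ O, W₁ ≠ W := by
      by_contra hall
      push Not at hall
      have hPW : P ≤ Subgroup.normalizer (W : Set X) := fun g hg =>
        CoprimeAction.mem_normalizer_of_conj_smul_eq (hall _ ⟨⟨g, hg⟩, rfl⟩)
      have h1 : W ≤ U ⊓ Subgroup.centralizer (P : Set X) :=
        le_inf hW.1 (Subgroup.le_centralizer_iff.1 (h.fixed (hWne W hW) hPW hRW))
      rw [hUP, le_bot_iff] at h1
      have h2 := hW.2.1
      rw [h1, Subgroup.card_bot, mul_one] at h2
      exact h.hUnc (isCyclic_of_prime_card h2.symm)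
    obtain ⟨W₁, hW₁, hne₁⟩ := hone
    have hmv₁ : ¬ R ≤ Subgroup.normalizer (W₁ : Set X) := fun h1 => hne₁ (honly W₁ hW₁ h1)
    have hOR : ∀ a ∈ R, ∀ W' ∈ O, MulAut.conj a • W' ∈ O := by
      rintro a ha _ ⟨g, rfl⟩
      refine ⟨⟨a * g * a⁻¹, CoprimeAction.conj_mem (h.hRP ha) g.2⟩, ?_⟩
      show MulAut.conj (a * g * a⁻¹) • W = MulAut.conj a • (MulAut.conj (g : X) • W)
      rw [CoprimeSZ.conj_smul_mul, smul_eq_of_mem_normalizer (hRW (R.inv_mem ha)),
        CoprimeSZ.conj_smul_mul]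
    have hOeq : O = insert W (Set.range fun a : R => MulAut.conj (a : X) • W₁) := by
      ext W'
      constructor
      · intro hW'
        by_cases h1 : W' = W
        · exact Or.inl h1
        · obtain ⟨a, ha, e⟩ := horb W' (hOS hW') W₁ (hOS hW₁)
            (fun h2 => h1 (honly W' hW' h2)) hmv₁
          exact Or.inr ⟨⟨a, ha⟩, e⟩
      · rintro (rfl | ⟨a, rfl⟩)
        · exact MulAction.mem_orbit_self _
        · exact hOR a a.2 W₁ hW₁
    have hcard : O.ncard = r + 1 := by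
      rw [hOeq, Set.ncard_insert_of_notMem ?_ (Set.toFinite _),
        Set.ncard_range_of_injective (hreg W₁ hmv₁), h.hRc]
      rintro ⟨a, ha⟩
      refine hne₁ ?_
      have h1 : MulAut.conj (a : X)⁻¹ • W = W :=
        smul_eq_of_mem_normalizer (hRW (R.inv_mem a.2))
      rw [← h1, ← ha, ← CoprimeSZ.conj_smul_mul, inv_mul_cancel, map_one, one_smul]
    have hdvd : O.ncard ∣ Nat.card P := by
      rw [hO, ← MulAction.index_stabilizer]
      exact Subgroup.index_dvd_card _
    rw [hcard] at hdvd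
    have h3 := (h.odd P).of_dvd_nat hdvd
    have h4 : Odd r := h.hRc ▸ h.odd R
    obtain ⟨m, hm⟩ := h3
    obtain ⟨n, hn⟩ := h4
    omega
  · push Not at hex
    have hSne : S.Nonempty := by
      by_contra hemp
      rw [Set.not_nonempty_iff_eq_empty] at hemp
      refine h.hP1 (eq_bot_iff.2 fun g hg => Subgroup.mem_bot.2 (h.hfaith g (le_sup_right (a := U) hg) ?_))
      have hV1 : V ≤ ⊥ := le_cyclic_generation h fun B hB hq' => by
        by_contra hne
        have : B ∈ S := ⟨hB, hq', fun e => hne e.le⟩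
        rw [hemp] at this
        exact this
      intro v hv
      rw [Subgroup.mem_bot.1 (hV1 hv), one_mul, mul_one]
    obtain ⟨W₁, hW₁⟩ := hSne
    have hSeq : S = Set.range fun a : R => MulAut.conj (a : X) • W₁ := by
      ext W'
      constructor
      · intro hW'
        obtain ⟨a, ha, e⟩ := horb W' hW' W₁ hW₁ (hex W' hW') (hex W₁ hW₁)
        exact ⟨⟨a, ha⟩, e⟩
      · rintro ⟨a, rfl⟩
        exact hRS a a.2 W₁ hW₁
    let Ω : SubMulAction P (Subgroup X) := { carrier := S, smul_mem' := fun g W hW => hPS g g.2 W hW }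
    have hΩ : Nat.card Ω = r := by
      show Nat.card ↥S = r
      rw [Nat.card_coe_set_eq, hSeq, Set.ncard_range_of_injective (hreg W₁ (hex W₁ hW₁)), h.hRc]
    obtain ⟨⟨W₀, hW₀⟩, hfix⟩ := h.hPp.nonempty_fixed_point_of_prime_not_dvd_card Ω
      (by rw [hΩ, Nat.prime_dvd_prime_iff_eq h.hp h.hr]; exact h.hrp.symm)
    have hPall : ∀ W ∈ S, P ≤ Subgroup.normalizer (W : Set X) := by
      intro W hW g hg
      refine CoprimeAction.mem_normalizer_of_conj_smul_eq ?_
      obtain ⟨a, ha, e⟩ := horb W hW W₀ hW₀ (hex W hW) (hex W₀ hW₀)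
      have h1 : MulAut.conj (a⁻¹ * g * a) • W₀ = W₀ :=
        congrArg Subtype.val (hfix ⟨_, CoprimeAction.conj_mem' (h.hRP ha) hg⟩ :)
      calc MulAut.conj g • W = MulAut.conj a • (MulAut.conj (a⁻¹ * g * a) • W₀) := by
            rw [← e, ← CoprimeSZ.conj_smul_mul, ← CoprimeSZ.conj_smul_mul]
            congr 2
            group
        _ = W := by rw [h1, e]
    refine h.hP1 (eq_bot_iff.2 fun g hg => Subgroup.mem_bot.2 (h.hfaith g (le_sup_right (a := U) hg) ?_))
    have hVC : V ≤ Subgroup.centralizer ({g} : Set X) := le_cyclic_generation h fun B hB hq' => by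
      by_cases h1 : T B = ⊥
      · exact (le_of_eq h1).trans bot_le
      have hBS : B ∈ S := ⟨hB, hq', h1⟩
      have hnT : P ≤ Subgroup.normalizer (T B : Set X) :=
        CoprimeAction.le_normalizer_inf h.hPV
          ((hPall B hBS).trans (normalizer_le_normalizer_centralizer B))
      intro x hx
      rw [Subgroup.mem_centralizer_singleton_iff]
      exact centralizes_card_prime h.hp h.hPp (hTcard B hBS (hex B hBS)).1 hnT hg x hx
    intro v hv
    exact Subgroup.mem_centralizer_singleton_iff.1 (hVC hv)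

/-- The configuration is impossible. -/
theorem false_of_conf [Group.IsSolvable X] (h : Conf p q r V U P R)
    (hcl : ∀ a ∈ U, ∀ b ∈ U, ∀ c ∈ U, ⁅a, b⁆ * c = c * ⁅a, b⁆) : False := by
  by_cases hab : ∀ a ∈ U, ∀ b ∈ U, a * b = b * a
  · exact abelian h hab
  · exact nonabelian h hcl hab

end Cfsg.Agent.BGThreeSixEnd
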