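import Cfsg.Prelude.Def_Local
import Cfsg.Agent.Lib.BGThreeSixEnd
import Cfsg.Agent.Lib.BGPLength
import Cfsg.Agent.Lib.HallSolvable
import Cfsg.Agent.Lib.ComponentsCores
import Cfsg.Agent.Lib.ComponentsFitting
import Cfsg.Agent.S3736

/-!
# Bender–Glauberman 3.6, the reduction
-/

set_option autoImplicit false

open scoped commutatorElement Pointwise

namespace Cfsg.Agent.BGThreeSixRed

universe u

variable {X : Type u} [Group X]

theorem le_normalizer_sup {A B C : Subgroup X} (hB : A ≤ Subgroup.normalizer (B : Set X))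
    (hC : A ≤ Subgroup.normalizer (C : Set X)) :
    A ≤ Subgroup.normalizer ((B ⊔ C : Subgroup X) : Set X) := by
  refine CoprimeAction.le_normalizer_of_conj_mem fun a ha b hb => ?_
  have h : B ⊔ C ≤ (B ⊔ C).comap (MulAut.conj a).toMonoidHom :=
    sup_le (fun x hx => (le_sup_left : B ≤ B ⊔ C) (CoprimeAction.conj_mem (hB ha) hx))
      (fun x hx => (le_sup_right : C ≤ B ⊔ C) (CoprimeAction.conj_mem (hC ha) hx))
  exact h hb

theorem normal_of_sup_top {A B N : Subgroup X} (h : A ⊔ B = ⊤)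
    (hA : A ≤ Subgroup.normalizer (N : Set X)) (hB : B ≤ Subgroup.normalizer (N : Set X)) :
    N.Normal :=
  Subgroup.normalizer_eq_top_iff.1 (top_unique (h.ge.trans (sup_le hA hB)))

/-- Elements normalising a cyclic subgroup induce commuting automorphisms of it. -/
theorem commutator_le_centralizer_of_cyclic {F A B : Subgroup X} (hF : IsCyclic F)
    (hA : A ≤ Subgroup.normalizer (F : Set X)) (hB : B ≤ Subgroup.normalizer (F : Set X)) :
    ⁅A, B⁆ ≤ Subgroup.centralizer (F : Set X) := by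
  have key : ∀ g ∈ Subgroup.normalizer (F : Set X), ∃ i : ℤ, ∀ x ∈ F, g * x * g⁻¹ = x ^ i := by
    intro g hg
    let φ : F →* F :=
      { toFun := fun x => ⟨g * x * g⁻¹, CoprimeAction.conj_mem hg x.2⟩
        map_one' := Subtype.ext (by simp)
        map_mul' := fun a b => Subtype.ext (by simp [mul_assoc]) }
    obtain ⟨i, hi⟩ := MonoidHom.map_cyclic φ
    exact ⟨i, fun x hx => congrArg Subtype.val (hi ⟨x, hx⟩)⟩
  rw [Subgroup.commutator_le]
  intro a ha b hb x hx
  obtain ⟨i, hi⟩ := key a (hA ha)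
  obtain ⟨j, hj⟩ := key b (hB hb)
  set z := (a * b * a⁻¹ * b⁻¹)⁻¹ * x * (a * b * a⁻¹ * b⁻¹) with hz
  have hab : ∀ y ∈ F, a * (b * y * b⁻¹) * a⁻¹ = b * (a * y * a⁻¹) * b⁻¹ := by
    intro y hy
    rw [hj y hy, hi _ (F.zpow_mem hy j), hi y hy, hj _ (F.zpow_mem hy i), ← zpow_mul, ← zpow_mul,
      mul_comm]
  have hy : a⁻¹ * b⁻¹ * x * b * a ∈ F := by
    have h1 := CoprimeAction.conj_mem' (hB hb) hx
    have h2 := CoprimeAction.conj_mem' (hA ha) h1
    simpa [mul_assoc] using h2
  have h := hab _ hy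
  rw [commutatorElement_def]
  have e : (a * b * a⁻¹ * b⁻¹) * x * (a * b * a⁻¹ * b⁻¹)⁻¹ = x := by
    calc (a * b * a⁻¹ * b⁻¹) * x * (a * b * a⁻¹ * b⁻¹)⁻¹
        = a * (b * (a⁻¹ * b⁻¹ * x * b * a) * b⁻¹) * a⁻¹ := by group
      _ = b * (a * (a⁻¹ * b⁻¹ * x * b * a) * a⁻¹) * b⁻¹ := h
      _ = x := by group
  exact (mul_inv_eq_iff_eq_mul.1 e).symm

variable [Finite X] {p : ℕ} [Fact p.Prime]

/-- `O_{p'}(H/N)` pulled back and split over the `p`-group `N`. -/
theorem core_compl {H N : Subgroup X} [N.Normal] [H.Normal] (hNH : N ≤ H) (hNp : IsPGroup p N) :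
    ∃ Q ≤ H, (Nat.card Q).Coprime p ∧ (N ⊔ Q).Normal ∧
      (Q = ⊥ → Cfsg.pPrimeCore p ↥(H.map (QuotientGroup.mk' N)) = ⊥) ∧
      (∀ V : Subgroup X, V.Normal → V ≤ H → IsPGroup p V → ⁅V, Q⁆ ≤ N) ∧
      ∀ S ≤ H, (Nat.card S).Coprime p → H ≤ Subgroup.normalizer ((N ⊔ S : Subgroup X) : Set X) →
        S ≤ N ⊔ Q := by
  set f := QuotientGroup.mk' N with hf
  have hfs : Function.Surjective f := QuotientGroup.mk'_surjective N
  set L := H.map f
  have : L.Normal := Subgroup.Normal.map inferInstance f hfs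
  have := HallCore.pPrimeCore_characteristic p L
  set Kb := (Cfsg.pPrimeCore p L).map L.subtype with hKb
  have : Kb.Normal := ConjAct.normal_of_characteristic_of_normal
  have hKbc : (Nat.card Kb).Coprime p := by
    rw [Subgroup.card_map_of_injective L.subtype_injective]
    exact HallCore.coprime_card_pPrimeCore p L
  set K := Kb.comap f
  have hKn : K.Normal := Subgroup.Normal.comap inferInstance f
  have hKH : K ≤ H := by
    refine (Subgroup.comap_mono (Subgroup.map_subtype_le _)).trans ?_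
    rw [Subgroup.comap_map_eq, QuotientGroup.ker_mk', sup_eq_left.2 hNH]
  have hNK : N ≤ K := fun x hx => by
    show f x ∈ Kb
    rw [show f x = 1 from (QuotientGroup.eq_one_iff x).2 hx]
    exact one_mem _
  have hcard : Nat.card (N.subgroupOf K) = Nat.card N :=
    Nat.card_congr (Subgroup.subgroupOfEquivOfLe hNK).toEquiv
  have hidx : (N.subgroupOf K).index = Nat.card Kb := by
    have h1 := HallCore.card_comap_mk' N Kb
    have h2 := (N.subgroupOf K).card_mul_index
    rw [hcard] at h2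
    have h3 : Nat.card N * (N.subgroupOf K).index = Nat.card N * Nat.card Kb := by
      rw [h2, ← h1, mul_comm]
    exact Nat.eq_of_mul_eq_mul_left Nat.card_pos h3
  obtain ⟨j, hj⟩ := IsPGroup.iff_card.1 hNp
  obtain ⟨Q', hQ'⟩ := Subgroup.exists_right_complement'_of_coprime (N := N.subgroupOf K)
    (by rw [hcard, hidx, hj]; exact hKbc.symm.pow_left j)
  have hsup : N ⊔ Q'.map K.subtype = K := by
    have h1 := congrArg (Subgroup.map K.subtype) hQ'.sup_eq_top
    rwa [Subgroup.map_sup, Subgroup.map_subgroupOf_eq_of_le hNK, ← MonoidHom.range_eq_map,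
      Subgroup.range_subtype] at h1
  have hQc : Nat.card (Q'.map K.subtype) = Nat.card Kb := by
    rw [Subgroup.card_map_of_injective K.subtype_injective, ← hidx, hQ'.symm.index_eq_card]
  have hQK : Q'.map K.subtype ≤ K := Subgroup.map_subtype_le _
  refine ⟨Q'.map K.subtype, hQK.trans hKH, hQc ▸ hKbc, hsup.symm ▸ hKn, fun hQ => ?_, ?_, ?_⟩
  · refine Subgroup.card_eq_one.1 ?_
    have h1 : Nat.card Kb = 1 := by rw [← hQc, hQ, Subgroup.card_bot]
    rwa [hKb, Subgroup.card_map_of_injective L.subtype_injective] at h1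
  · intro V hV hVH hVp
    have : (V.map f).Normal := hV.map f hfs
    rw [Subgroup.commutator_le]
    intro v hv x hx
    rw [← QuotientGroup.eq_one_iff]
    have h1 : f ⁅v, x⁆ ∈ ⁅V.map f, Kb⁆ := by
      rw [map_commutatorElement]
      exact Subgroup.commutator_mem_commutator (Subgroup.mem_map_of_mem f hv) (hQK hx)
    have h2 : ⁅V.map f, Kb⁆ ≤ ⊥ := by
      refine (Subgroup.commutator_le_inf _ _).trans (le_of_eq ?_)
      obtain ⟨i, hi⟩ := IsPGroup.iff_card.1 (hVp.map f)
      exact Subgroup.inf_eq_bot_of_coprime (by rw [hi]; exact hKbc.symm.pow_left i)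
    exact Subgroup.mem_bot.1 (h2 h1)
  · intro S hSH hSc hn
    rw [hsup]
    refine Subgroup.map_le_iff_le_comap.1 ?_
    have hSL : S.map f ≤ L := Subgroup.map_mono hSH
    have hNS : (N ⊔ S).map f = S.map f := by
      rw [Subgroup.map_sup, (Subgroup.map_eq_bot_iff _).2 (QuotientGroup.ker_mk' N).ge, bot_sup_eq]
    have : ((S.map f).subgroupOf L).Normal := by
      refine Subgroup.normal_subgroupOf_of_le_normalizer ?_
      rw [← hNS]
      exact (Subgroup.map_mono hn).trans (Subgroup.le_normalizer_map f)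
    have h1 : (S.map f).subgroupOf L ≤ Cfsg.pPrimeCore p L := by
      refine HallCore.le_pPrimeCore ?_
      rw [Nat.card_congr (Subgroup.subgroupOfEquivOfLe hSL).toEquiv]
      exact hSc.coprime_dvd_left (Subgroup.card_map_dvd S f)
    rw [← Subgroup.map_subgroupOf_eq_of_le hSL]
    exact Subgroup.map_mono h1

/-- The induction hypothesis of 3.6. -/
def IH (p m : ℕ) : Prop :=
  ∀ {Y : Type u} [Group Y] [Finite Y] [Group.IsSolvable Y] (H R R₀ : Subgroup Y), Nat.card Y < m →
    Odd (Nat.card Y) → R ≤ Subgroup.normalizer (H : Set Y) → (Nat.card H).Coprime (Nat.card R) →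
    R₀ ≤ R → (Nat.card R₀).Prime → IsZGroup ↥(H ⊓ Subgroup.centralizer (R₀ : Set Y)) →
    Cfsg.PLengthLE p 1 ↥⁅H, R⁆

/-- The hypotheses. -/
structure Setting (H R R₀ : Subgroup X) : Prop where
  odd : Odd (Nat.card X)
  hn : H.Normal
  top : H ⊔ R = ⊤
  cop : (Nat.card H).Coprime (Nat.card R)
  le : R₀ ≤ R
  prime : (Nat.card R₀).Prime
  hZ : IsZGroup ↥(H ⊓ Subgroup.centralizer (R₀ : Set X))

theorem sub [Group.IsSolvable X] (ih : IH.{u} p (Nat.card X)) (hodd : Odd (Nat.card X))
    {H R₀ H₁ R₁ : Subgroup X} (hZ : IsZGroup ↥(H ⊓ Subgroup.centralizer (R₀ : Set X)))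
    (hprime : (Nat.card R₀).Prime) (hH : H₁ ≤ H) (hR : R₁ ≤ Subgroup.normalizer (H₁ : Set X))
    (hcop : (Nat.card H₁).Coprime (Nat.card R₁)) (hR₀ : R₀ ≤ R₁)
    (hlt : Nat.card H₁ * Nat.card R₁ < Nat.card X) : Cfsg.PLengthLE p 1 ↥⁅H₁, R₁⁆ := by
  set Y := H₁ ⊔ R₁
  have hHY : H₁ ≤ Y := le_sup_left
  have hRY : R₁ ≤ Y := le_sup_right
  have hc : ∀ {A : Subgroup X}, A ≤ Y → Nat.card (A.subgroupOf Y) = Nat.card A := fun h =>
    Nat.card_congr (Subgroup.subgroupOfEquivOfLe h).toEquiv
  have key := ih (H₁.subgroupOf Y) (R₁.subgroupOf Y) (R₀.subgroupOf Y)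
    (by rw [BGThreeBase.card_sup hR hcop]; exact hlt)
    (hodd.of_dvd_nat Y.card_subgroup_dvd_card)
    (fun x hx => Subgroup.mem_normalizer_iff.2 fun y => Subgroup.mem_normalizer_iff.1 (hR hx) (y : X))
    (by rw [hc hHY, hc hRY]; exact hcop) (fun x hx => hR₀ hx)
    (by rw [hc (hR₀.trans hRY)]; exact hprime)
    (by
      let φ : ↥(H₁.subgroupOf Y ⊓ Subgroup.centralizer (R₀.subgroupOf Y : Set Y)) →*
          ↥(H ⊓ Subgroup.centralizer (R₀ : Set X)) :=
        { toFun := fun y => ⟨((y : Y) : X), hH y.2.1, fun t ht =>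
            congrArg Subtype.val (y.2.2 ⟨t, hRY (hR₀ ht)⟩ ht)⟩
          map_one' := rfl
          map_mul' := fun a b => rfl }
      exact IsZGroup.of_injective (f := φ) fun a b hab =>
        Subtype.ext (Subtype.ext (congrArg Subtype.val hab :)))
  have hmap : ⁅H₁.subgroupOf Y, R₁.subgroupOf Y⁆.map Y.subtype = ⁅H₁, R₁⁆ := by
    rw [Subgroup.map_commutator, Subgroup.map_subgroupOf_eq_of_le hHY, Subgroup.map_subgroupOf_eq_of_le hRY]
  exact BGPLength.of_equiv ((MulEquiv.subgroupCongr hmap.symm).trans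
    (Subgroup.equivMapOfInjective _ Y.subtype Y.subtype_injective).symm) key

theorem quot [Group.IsSolvable X] (ih : IH.{u} p (Nat.card X)) {H R R₀ : Subgroup X}
    (S : Setting H R R₀) (hHR : ⁅H, R⁆ = H) {N : Subgroup X} [N.Normal] (hNH : N ≤ H) (hN : N ≠ ⊥) :
    Cfsg.PLengthLE p 1 ↥(H.map (QuotientGroup.mk' N)) := by
  have := S.hn
  set f := QuotientGroup.mk' N
  have hlt : Nat.card (X ⧸ N) < Nat.card X := by
    rw [N.card_eq_card_quotient_mul_card_subgroup]
    exact lt_mul_of_one_lt_right Nat.card_pos ((Subgroup.one_lt_card_iff_ne_bot N).2 hN)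
  have hR₀ : (Nat.card (R₀.map f)).Prime := by
    rcases (Nat.dvd_prime S.prime).1 (Subgroup.card_map_dvd R₀ f) with h1 | h1
    · exfalso
      have h2 : R₀ ≤ N := HallSolvable.map_mk'_eq_bot.1 (Subgroup.card_eq_one.1 h1)
      have h3 := Nat.dvd_gcd (Subgroup.card_dvd_of_le (h2.trans hNH)) (Subgroup.card_dvd_of_le S.le)
      rw [S.cop, Nat.dvd_one] at h3
      exact S.prime.ne_one h3
    · rw [h1]; exact S.prime
  have key := ih (H.map f) (R.map f) (R₀.map f) hlt (S.odd.of_dvd_nat N.card_quotient_dvd_card)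
    ((Subgroup.map_mono (Subgroup.normalizer_eq_top_iff.2 S.hn ▸ le_top)).trans
      (Subgroup.le_normalizer_map f))
    ((S.cop.coprime_dvd_left (Subgroup.card_map_dvd _ f)).coprime_dvd_right (Subgroup.card_map_dvd _ f))
    (Subgroup.map_mono S.le) hR₀
    (by
      rw [← CoprimeAction.map_inf_centralizer_eq f
        (Subgroup.normalizer_eq_top_iff.2 S.hn ▸ le_top)
        ((S.cop.coprime_dvd_right (Subgroup.card_dvd_of_le S.le)).symm) (Or.inr inferInstance)]
      have := S.hZ
      exact IsZGroup.of_surjective (MonoidHom.subgroupMap_surjective f _))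
  exact BGPLength.of_equiv (MulEquiv.subgroupCongr (by rw [← Subgroup.map_commutator, hHR])) key

theorem kill [Group.IsSolvable X] (ih : IH.{u} p (Nat.card X)) {H R R₀ : Subgroup X}
    (S : Setting H R R₀) (hHR : ⁅H, R⁆ = H) {V N : Subgroup X} [V.Normal] [N.Normal]
    (hVH : V ≤ H) (hVp : IsPGroup p V) (hNV : N ≤ V) (hN : N ≠ ⊥)
    (hQ : ∀ Q ≤ H, (Nat.card Q).Coprime p → ⁅V, Q⁆ ≤ N → (V ⊔ Q).Normal → Q = ⊥) :
    Cfsg.PLengthLE p 1 H := by
  have := S.hn
  have hNH := hNV.trans hVH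
  have hL := quot ih S hHR hNH hN
  set f := QuotientGroup.mk' N
  obtain ⟨Q, hQH, hQc, hQn, hQ0, hQV, -⟩ := core_compl (H := H) hNH (hVp.to_le hNV)
  have hQb : Q = ⊥ := hQ Q hQH hQc (hQV V inferInstance hVH hVp) (by
    have : V ⊔ Q = V ⊔ (N ⊔ Q) := by rw [← sup_assoc, sup_eq_left.2 hNV]
    rw [this]
    exact Subgroup.sup_normal V (N ⊔ Q))
  refine BGPLength.of_le_pCore fun T hT => ?_
  set φ := f.subgroupMap H
  have h1 := BGPLength.le_pCore_of_pPrimeCore_eq_bot hL (hQ0 hQb) (hT.map φ)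
  refine (Subgroup.map_le_iff_le_comap.1 h1).trans ?_
  have := HallCore.pCore_normal p ↥(H.map f)
  refine HallCore.le_pCore ((HallCore.isPGroup_pCore p _).comap_of_ker_isPGroup φ ?_)
  refine (hVp.to_le hNV).of_injective
    { toFun := fun x : φ.ker => (⟨((x : H) : X), (QuotientGroup.eq_one_iff _).1
        (congrArg Subtype.val x.2 :)⟩ : N)
      map_one' := rfl
      map_mul' := fun a b => rfl } ?_
  intro a b hab
  exact Subtype.ext (Subtype.ext (congrArg Subtype.val hab :))

/-- The step of the induction. -/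
theorem step [Group.IsSolvable X] (ih : IH.{u} p (Nat.card X)) {H R R₀ : Subgroup X}
    (S : Setting H R R₀) (hHR : ⁅H, R⁆ = H) : Cfsg.PLengthLE p 1 H := by
  classical
  have hp : p.Prime := Fact.out
  have := S.hn
  have hnH : ∀ A : Subgroup X, A ≤ Subgroup.normalizer (H : Set X) := fun A =>
    Subgroup.normalizer_eq_top_iff.2 S.hn ▸ le_top
  have hsolv : ∀ A : Subgroup X, Group.IsSolvable A := fun A => inferInstance
  -- `O_{p'}(H) = 1`
  have := HallCore.pPrimeCore_characteristic p H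
  have hNn : ((Cfsg.pPrimeCore p H).map H.subtype).Normal := ConjAct.normal_of_characteristic_of_normal
  by_cases hop : Cfsg.pPrimeCore p H = ⊥
  swap
  · set N := (Cfsg.pPrimeCore p H).map H.subtype with hN
    have hNH : N ≤ H := Subgroup.map_subtype_le _
    have hL := quot ih S hHR hNH fun e => hop ((Subgroup.map_eq_bot_iff_of_injective _ H.subtype_injective).1 e)
    refine BGPLength.of_surjective _ (MonoidHom.subgroupMap_surjective (QuotientGroup.mk' N) H) ?_ hL
    refine Nat.Coprime.coprime_dvd_left ?_ (HallCore.coprime_card_pPrimeCore p H)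
    refine Subgroup.card_dvd_of_le fun x hx => ?_
    obtain ⟨y, hy, e⟩ := (QuotientGroup.eq_one_iff (x : X)).1 (congrArg Subtype.val hx :)
    rwa [show x = y from Subtype.ext e.symm]
  -- `V = O_p(H)`
  have := HallCore.pCore_characteristic p H
  set V := (Cfsg.pCore p H).map H.subtype with hV
  have hVn : V.Normal := ConjAct.normal_of_characteristic_of_normal
  have hVH : V ≤ H := Subgroup.map_subtype_le _
  have hVp : IsPGroup p V := (HallCore.isPGroup_pCore p H).map _
  obtain ⟨nV, hnV⟩ := IsPGroup.iff_card.1 hVp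
  have hcopV : ∀ {A : Subgroup X}, (Nat.card A).Coprime p → (Nat.card A).Coprime (Nat.card V) :=
    fun hA => by rw [hnV]; exact hA.pow_right nV
  have hnV' : ∀ A : Subgroup X, A ≤ Subgroup.normalizer (V : Set X) := fun A =>
    Subgroup.normalizer_eq_top_iff.2 hVn ▸ le_top
  have hCV : H ⊓ Subgroup.centralizer (V : Set X) ≤ V := by
    rintro x ⟨hxH, hxC⟩
    refine ⟨⟨x, hxH⟩, HallSolvable.centralizer_pCore_le (HallSolvable.isPSolvable_of_solvable p) hop
      (fun y hy => Subtype.ext (hxC (y : X) ⟨y, hy, rfl⟩)), rfl⟩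
  have hVmax : ∀ T ≤ H, IsPGroup p T → H ≤ Subgroup.normalizer (T : Set X) → T ≤ V := by
    intro T hT hTp hn
    have : (T.subgroupOf H).Normal := Subgroup.normal_subgroupOf_of_le_normalizer hn
    rw [← Subgroup.map_subgroupOf_eq_of_le hT]
    exact Subgroup.map_mono (HallCore.le_pCore (hTp.comap_of_injective _ H.subtype_injective))
  have hfaith : ∀ Q ≤ H, (Nat.card Q).Coprime p → Q ≤ Subgroup.centralizer (V : Set X) → Q = ⊥ := by
    intro Q hQ hQc hQV
    exact eq_bot_iff.2 ((le_inf le_rfl ((le_inf hQ hQV).trans hCV)).trans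
      (Subgroup.inf_eq_bot_of_coprime (hcopV hQc)).le)
  -- `V` is elementary abelian
  have := frattini_characteristic (G := ↥V)
  set Φ := (frattini ↥V).map V.subtype with hΦ
  have : Φ.Normal := ConjAct.normal_of_characteristic_of_normal
  by_cases hΦ1 : Φ = ⊥
  swap
  · refine kill ih S hHR hVH hVp (Subgroup.map_subtype_le _) hΦ1 fun Q hQH hQc hQV _ => hfaith Q hQH hQc ?_
    exact CoprimeAction.le_centralizer_of_frattini (hnV' Q) ((hcopV hQc).coprime_dvd_right (frattini ↥V).card_subgroup_dvd_card)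
      fun a ha k hk => (Subgroup.commutator_comm V Q ▸ hQV) (Subgroup.commutator_mem_commutator ha hk)
  have hfr : frattini ↥V = ⊥ := (Subgroup.map_eq_bot_iff_of_injective _ V.subtype_injective).1 hΦ1
  have hVE : Cfsg.IsElementaryAbelian p V :=
    ⟨PGroupsBasic.isMulCommutative_of_forall fun a ha b hb =>
      congrArg Subtype.val (PGroupsBasic.commute_of_frattini_eq_bot hVp hfr ⟨a, ha⟩ ⟨b, hb⟩ :),
      fun a ha => congrArg Subtype.val (PGroupsBasic.pow_eq_one_of_frattini_eq_bot hVp hfr ⟨a, ha⟩ :)⟩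
  have hVab := hVE.1
  -- an `R`-invariant complement of `V` in `O_{p,p'}(H)`
  obtain ⟨Q, hQH, hQc, hKn, -, -, hQmax⟩ := core_compl (H := H) (N := V) hVH hVp
  set K := V ⊔ Q with hK
  have hRV : R ≤ Subgroup.normalizer (V : Set X) := hnV' R
  obtain ⟨n, hn, hnfix⟩ : ∃ n ∈ V, R ≤ Subgroup.normalizer ((MulAut.conj n • Q : Subgroup X) : Set X) := by
    let _ : MulAction X (Subgroup X) := MulAction.compHom _ (MulAut.conj : X →* MulAut X)
    obtain ⟨n, hn, hfix⟩ := CoprimeAction.exists_fixed_point (K := V) (A := R) hRV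
      (S.cop.symm.coprime_dvd_right (Subgroup.card_dvd_of_le hVH)) (Or.inr (hsolv V)) Q
      (fun a ha => by
        have hle : MulAut.conj a • Q ≤ V ⊔ Q := by
          intro x hx
          rw [CoprimeSZ.mem_conj_smul] at hx
          have h1 := CoprimeAction.conj_mem (a := a)
            ((Subgroup.normalizer_eq_top_iff.2 hKn).symm ▸ Subgroup.mem_top a)
            ((le_sup_right : Q ≤ V ⊔ Q) hx)
          simpa [mul_assoc] using h1
        obtain ⟨m, hm, hmQ⟩ := CoprimeExtra.exists_le_conj_of_le_sup (hnV' Q) hle (hcopV hQc)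
          (by rw [CoprimeSZ.card_conj_smul]; exact hcopV hQc) (Or.inr (hsolv V))
        exact ⟨m, hm, (Subgroup.eq_of_le_of_card_ge hmQ
          (by rw [CoprimeSZ.card_conj_smul, CoprimeSZ.card_conj_smul])).symm⟩)
    exact ⟨n, hn, fun a ha => CoprimeAction.mem_normalizer_of_conj_smul_eq (hfix a ha)⟩
  set U := MulAut.conj n • Q with hU
  have hUH : U ≤ H := fun x hx => by
    rw [hU, CoprimeSZ.mem_conj_smul] at hx
    have h1 := H.mul_mem (H.mul_mem (hVH hn) (hQH hx)) (H.inv_mem (hVH hn))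
    simpa [mul_assoc] using h1
  have hUc : (Nat.card U).Coprime p := by rw [hU, CoprimeSZ.card_conj_smul]; exact hQc
  have hKU : K = V ⊔ U := by
    refine le_antisymm (sup_le le_sup_left fun x hx => ?_) (sup_le le_sup_left fun x hx => ?_)
    · have h1 : n * x * n⁻¹ ∈ U := CoprimeSZ.conj_mul_mem_conj_smul hx
      have h2 := (V ⊔ U).mul_mem ((V ⊔ U).mul_mem (Subgroup.mem_sup_left (V.inv_mem hn))
        (Subgroup.mem_sup_right h1)) (Subgroup.mem_sup_left hn)
      simpa [mul_assoc] using h2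
    · rw [hU, CoprimeSZ.mem_conj_smul] at hx
      have h2 := (V ⊔ Q).mul_mem ((V ⊔ Q).mul_mem (Subgroup.mem_sup_left hn)
        (Subgroup.mem_sup_right hx)) (Subgroup.mem_sup_left (V.inv_mem hn))
      simpa [mul_assoc] using h2
  have hVU : V ⊓ U = ⊥ := by rw [inf_comm]; exact Subgroup.inf_eq_bot_of_coprime (hcopV hUc)
  -- `C_V(U) = 1`
  by_cases hCVU : V ⊓ Subgroup.centralizer (U : Set X) = ⊥
  swap
  · have e : V ⊓ Subgroup.centralizer (U : Set X) = V ⊓ Subgroup.centralizer (K : Set X) := by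
      refine le_antisymm (fun x hx => ⟨hx.1, ?_⟩)
        (inf_le_inf_left _ (Subgroup.centralizer_le (hKU ▸ le_sup_right : U ≤ K)))
      have h1 : K ≤ Subgroup.centralizer ({x} : Set X) := hKU ▸ sup_le
        (fun v hv => Subgroup.mem_centralizer_singleton_iff.2
          (PGroupsBasic.comm_of_isMulCommutative hVab hv hx.1))
        (fun w hw => Subgroup.mem_centralizer_singleton_iff.2 (hx.2 w hw))
      exact fun w hw => Subgroup.mem_centralizer_singleton_iff.1 (h1 hw)
    have hn' : (V ⊓ Subgroup.centralizer (U : Set X)).Normal := by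
      rw [e]
      exact Subgroup.normalizer_eq_top_iff.1 (top_unique (CoprimeAction.le_normalizer_inf
        ((Subgroup.normalizer_eq_top_iff.2 hVn).ge)
        (((Subgroup.normalizer_eq_top_iff.2 hKn).ge).trans
          (BGThreeSixEnd.normalizer_le_normalizer_centralizer K))))
    refine kill ih S hHR hVH hVp inf_le_left hCVU fun T hTH hTc hTV hTn => hfaith T hTH hTc ?_
    have hTK : T ≤ V ⊔ U := hKU ▸ hQmax T hTH hTc ((Subgroup.normalizer_eq_top_iff.2 hTn).symm ▸ le_top)
    obtain ⟨m, hm, hmU⟩ := CoprimeExtra.exists_le_conj_of_le_sup (hnV' U) hTK (hcopV hUc) (hcopV hTc)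
      (Or.inr (hsolv V))
    have hTC : T ≤ Subgroup.centralizer ((V ⊓ Subgroup.centralizer (U : Set X) : Subgroup X) : Set X) := by
      intro t ht x hx
      have h1 := hmU ht
      rw [CoprimeSZ.mem_conj_smul] at h1
      have h2 : m⁻¹ * t * m * x = x * (m⁻¹ * t * m) := hx.2 _ h1
      have h3 : m * x = x * m := PGroupsBasic.comm_of_isMulCommutative hVab hm hx.1
      calc x * t = x * (m * (m⁻¹ * t * m) * m⁻¹) := by group
        _ = m * (x * (m⁻¹ * t * m)) * m⁻¹ := by rw [← mul_assoc, ← mul_assoc, ← h3]; group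
        _ = m * ((m⁻¹ * t * m) * x) * m⁻¹ := by rw [h2]
        _ = t * (m * x * m⁻¹) := by group
        _ = t * x := by rw [h3, mul_inv_cancel_right]
    refine CoprimeAction.le_centralizer_of_commutator_commutator_eq_bot (hnV' T) (hcopV hTc)
      (Or.inr (hsolv V)) ?_
    rw [eq_bot_iff, Subgroup.commutator_le]
    intro x hx t ht
    rw [Subgroup.mem_bot, commutatorElement_eq_one_iff_mul_comm]
    exact hTC ht x (hTV hx)
  -- `M = N_H(U)` complements `V`
  set M := H ⊓ Subgroup.normalizer (U : Set X) with hM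
  have hUM : U ≤ M := le_inf hUH Subgroup.le_normalizer
  have hRM : R ≤ Subgroup.normalizer (M : Set X) :=
    CoprimeAction.le_normalizer_inf (hnH R) (hnfix.trans Subgroup.le_normalizer)
  have hVM : V ⊓ M = ⊥ := by
    rw [eq_bot_iff, ← hCVU]
    rintro x ⟨hxV, -, hxU⟩
    refine ⟨hxV, fun w hw => ?_⟩
    have h1 : ⁅x, w⁆ ∈ V ⊓ U := by
      constructor
      · rw [commutatorElement_def, mul_assoc, mul_assoc, ← mul_assoc w]
        exact V.mul_mem hxV (hVn.conj_mem _ (V.inv_mem hxV) w)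
      · rw [commutatorElement_def]
        exact U.mul_mem (CoprimeAction.conj_mem hxU hw) (U.inv_mem hw)
    rw [hVU, Subgroup.mem_bot, commutatorElement_eq_one_iff_mul_comm] at h1
    exact h1.symm
  have hHVM : ∀ h ∈ H, ∃ v ∈ V, ∃ m ∈ M, h = v * m := by
    intro h hh
    have hle : MulAut.conj h • U ≤ V ⊔ U := by
      intro x hx
      rw [CoprimeSZ.mem_conj_smul] at hx
      have h1 := CoprimeAction.conj_mem (a := h)
        ((Subgroup.normalizer_eq_top_iff.2 hKn).symm ▸ Subgroup.mem_top h) (hKU ▸ Subgroup.mem_sup_right hx : h⁻¹ * x * h ∈ K)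
      rw [hKU] at h1
      simpa [mul_assoc] using h1
    obtain ⟨m, hm, hmU⟩ := CoprimeExtra.exists_le_conj_of_le_sup (hnV' U) hle (hcopV hUc)
      (by rw [CoprimeSZ.card_conj_smul]; exact hcopV hUc) (Or.inr (hsolv V))
    have e := Subgroup.eq_of_le_of_card_ge hmU (le_of_eq (by simp only [CoprimeSZ.card_conj_smul]))
    refine ⟨m, hm, m⁻¹ * h, ⟨H.mul_mem (H.inv_mem (hVH hm)) hh,
      CoprimeAction.mem_normalizer_of_conj_smul_eq ?_⟩, by group⟩
    rw [CoprimeSZ.conj_smul_mul, e, ← CoprimeSZ.conj_smul_mul, inv_mul_cancel, map_one, one_smul]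
  have hHeq : H = V ⊔ M := le_antisymm (fun h hh => by
    obtain ⟨v, hv, m, hm, rfl⟩ := hHVM h hh
    exact (V ⊔ M).mul_mem (Subgroup.mem_sup_left hv) (Subgroup.mem_sup_right hm)) (sup_le hVH inf_le_left)
  have hHn : ∀ T : Subgroup X, M ≤ Subgroup.normalizer (T : Set X) →
      H ≤ Subgroup.normalizer ((V ⊔ T : Subgroup X) : Set X) := by
    intro T hT
    rw [hHeq]
    exact sup_le ((le_sup_left : V ≤ V ⊔ T).trans Subgroup.le_normalizer)
      (le_normalizer_sup (hnV' M) hT)
  have hded : ∀ T ≤ M, ∀ x ∈ V ⊔ T, x ∈ M → x ∈ T := by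
    intro T hT x hx hxM
    have h0 : x ∈ ((V ⊔ T : Subgroup X) : Set X) := hx
    rw [Subgroup.coe_mul_of_right_le_normalizer_left _ _ (hnV' T)] at h0
    obtain ⟨v, hv, t, ht, rfl⟩ := h0
    have h1 : v ∈ V ⊓ M := ⟨hv, by simpa using M.mul_mem hxM (M.inv_mem (hT ht))⟩
    rw [hVM, Subgroup.mem_bot] at h1
    simpa [h1] using ht
  have hUmax : ∀ T ≤ M, (Nat.card T).Coprime p → M ≤ Subgroup.normalizer (T : Set X) → T ≤ U := by
    intro T hT hTc hn' x hx
    exact hded U hUM x (hKU ▸ hQmax T (hT.trans inf_le_left) hTc (hHn T hn') hx) (hT hx)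
  have hOpM : ∀ T ≤ M, IsPGroup p T → M ≤ Subgroup.normalizer (T : Set X) → T = ⊥ := by
    intro T hT hTp hn'
    have h1 := hVmax (V ⊔ T) (sup_le hVH (hT.trans inf_le_left))
      (hVp.to_sup_of_normal_left hTp) (hHn T hn')
    exact eq_bot_iff.2 (hVM ▸ le_inf (le_sup_right.trans h1) hT)
  have hCMU : M ⊓ Subgroup.centralizer (U : Set X) ≤ U := by
    have h1 : Cfsg.piCore ({p}ᶜ)ᶜ M = ⊥ := by
      rw [compl_compl, ← HallCore.pCore_eq_piCore]
      have := HallCore.pCore_characteristic p M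
      refine (Subgroup.map_eq_bot_iff_of_injective _ M.subtype_injective).1 (hOpM _
        (Subgroup.map_subtype_le _) ((HallCore.isPGroup_pCore p M).map _)
        (Subgroup.le_normalizer.trans (ComponentsCores.normalizer_le_normalizer_map_subtype M _)))
    have h2 : (Cfsg.piCore {p}ᶜ M).map M.subtype ≤ U := by
      rw [← HallCore.pPrimeCore_eq_piCore]
      have := HallCore.pPrimeCore_characteristic p M
      refine hUmax _ (Subgroup.map_subtype_le _) ?_
        (Subgroup.le_normalizer.trans (ComponentsCores.normalizer_le_normalizer_map_subtype M _))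
      rw [Subgroup.card_map_of_injective M.subtype_injective]
      exact HallCore.coprime_card_pPrimeCore p M
    rintro x ⟨hxM, hxC⟩
    refine h2 ⟨⟨x, hxM⟩, HallSolvable.centralizer_piCore_le (HallSolvable.isPiSeparable_of_solvable _) h1
      (fun y hy => Subtype.ext (hxC (y : X) (h2 ⟨y, hy, rfl⟩))), rfl⟩
  have hMR : ⁅M, R⁆ = M := by
    have hle : ⁅M, R⁆ ≤ M := CoprimeAction.commutator_le_self_of_le_normalizer hRM
    set W := V ⊔ ⁅M, R⁆ with hW
    have hWn : W.Normal := normal_of_sup_top S.top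
      (hHn _ (Subgroup.normalizer_commutator_ge_left M R))
      (le_normalizer_sup hRV (Subgroup.normalizer_commutator_ge_right M R))
    refine le_antisymm hle fun x hx => hded _ hle x ?_ hx
    refine (?_ : ⁅H, R⁆ ≤ W) (hHR.ge (inf_le_left (b := Subgroup.normalizer (U : Set X)) hx))
    rw [Subgroup.commutator_le]
    intro h hh a ha
    obtain ⟨v, hv, m, hm, rfl⟩ := hHVM h hh
    rw [show ⁅v * m, a⁆ = v * ⁅m, a⁆ * v⁻¹ * ⁅v, a⁆ by rw [commutatorElement_def, commutatorElement_def, commutatorElement_def]; group]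
    refine W.mul_mem (hWn.conj_mem _ (Subgroup.mem_sup_right (Subgroup.commutator_mem_commutator hm ha)) v)
      (Subgroup.mem_sup_left ?_)
    rw [commutatorElement_def, mul_assoc, mul_assoc, ← mul_assoc a]
    exact V.mul_mem hv (hVn.conj_mem _ (V.inv_mem hv) a)
  -- an invariant Sylow subgroup of `M`
  have hRMc : (Nat.card R).Coprime (Nat.card M) :=
    S.cop.symm.coprime_dvd_right (Subgroup.card_dvd_of_le inf_le_left)
  obtain ⟨P₁, hRP⟩ := CoprimeAction.exists_invariant_sylow (A := R) (K := M) hRM hRMc (Or.inr (hsolv M)) p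
  set P := (P₁ : Subgroup M).map M.subtype with hPdef
  have hPM : P ≤ M := Subgroup.map_subtype_le _
  have hPp : IsPGroup p P := P₁.2.map _
  by_cases hP1 : P = ⊥
  · have hMc : (Nat.card M).Coprime p := by
      refine ((Nat.Prime.coprime_iff_not_dvd hp).2 fun hd => ?_).symm
      have h1 : Nat.card P = 1 := by rw [hP1, Subgroup.card_bot]
      rw [hPdef, Subgroup.card_map_of_injective M.subtype_injective] at h1
      exact P₁.not_dvd_index (by
        have h2 := (P₁ : Subgroup M).card_mul_index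
        rw [h1, one_mul] at h2
        rwa [h2])
    refine BGPLength.of_le_pCore fun T hT => ?_
    have hT' : T.map H.subtype ≤ V := by
      intro x hx
      have hxH : x ∈ H := Subgroup.map_subtype_le T hx
      have hle : V ⊔ T.map H.subtype ≤ V ⊔ M := sup_le le_sup_left ((Subgroup.map_subtype_le T).trans hHeq.le)
      obtain ⟨i, hi⟩ := IsPGroup.iff_card.1 (hVp.to_sup_of_normal_left (hT.map H.subtype))
      have h1 := Subgroup.card_dvd_of_le hle
      rw [BGThreeBase.card_sup (hnV' M) (hcopV hMc).symm, hi] at h1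
      have h2 : p ^ i ∣ Nat.card V := (hMc.symm.pow_left i).dvd_of_dvd_mul_right h1
      rw [← hi] at h2
      have h3 := Subgroup.eq_of_le_of_card_ge (le_sup_left : V ≤ V ⊔ T.map H.subtype)
        (Nat.le_of_dvd Nat.card_pos h2)
      exact h3.ge (Subgroup.mem_sup_right hx)
    exact (Subgroup.map_le_map_iff_of_injective H.subtype_injective).1 hT'
  exfalso
  have hPc : ∀ T ≤ M, (Nat.card T).Coprime p → P ⊓ T = ⊥ := by
    intro T _ hTc
    obtain ⟨i, hi⟩ := IsPGroup.iff_card.1 hPp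
    exact Subgroup.inf_eq_bot_of_coprime (by rw [hi]; exact hTc.symm.pow_left i)
  have hPU : P ≤ Subgroup.normalizer (U : Set X) := hPM.trans inf_le_right
  have hnotC : ¬ P ≤ Subgroup.centralizer (U : Set X) := fun hle => hP1 (by
    rw [eq_bot_iff, ← hPc U hUM hUc]
    exact le_inf le_rfl ((le_inf hPM hle).trans hCMU))
  have cyc : ∀ R' : Subgroup X, R₀ ≤ R' → ¬ U ≤ Subgroup.centralizer (R' : Set X) := by
    intro R' hR' hUC'
    have hUZ : IsZGroup ↥U := by
      have := S.hZ
      exact IsZGroup.of_injective (f := Subgroup.inclusion (le_inf hUH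
        (hUC'.trans (Subgroup.centralizer_le hR')))) (Subgroup.inclusion_injective _)
    set F := (Cfsg.fittingSubgroup ↥U).map U.subtype with hF
    have hFc : IsCyclic ↥F := by
      have h1 : Group.IsNilpotent ↥(Cfsg.fittingSubgroup ↥U) := ComponentsFitting.fittingSubgroup_isNilpotent
      have h2 : IsZGroup ↥(Cfsg.fittingSubgroup ↥U) := inferInstance
      have h3 : IsCyclic ↥(Cfsg.fittingSubgroup ↥U) := inferInstance
      exact isCyclic_of_surjective _ ((Cfsg.fittingSubgroup ↥U).equivMapOfInjective _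
        U.subtype_injective).surjective
    have hnF : Subgroup.normalizer (U : Set X) ≤ Subgroup.normalizer (F : Set X) :=
      ComponentsCores.normalizer_le_normalizer_map_subtype U _
    have hMF : M ≤ Subgroup.centralizer (F : Set X) :=
      hMR.ge.trans (commutator_le_centralizer_of_cyclic hFc (inf_le_right.trans hnF) (hnfix.trans hnF))
    have hUF : U ≤ F := fun x hx => ⟨⟨x, hx⟩, HallSolvable.centralizer_fitting_le
      (fun y hy => Subtype.ext (hMF (hUM hx) (y : X) ⟨y, hy, rfl⟩)), rfl⟩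
    exact hnotC ((hPM.trans hMF).trans (Subgroup.centralizer_le hUF))
  have hR₀n : ∀ {A : Subgroup X}, R ≤ Subgroup.normalizer (A : Set X) →
      R₀ ≤ Subgroup.normalizer (A : Set X) := fun hA => S.le.trans hA
  have hcopH : ∀ {A B : Subgroup X}, A ≤ H → B ≤ R → (Nat.card A).Coprime (Nat.card B) := fun hA hB =>
    (S.cop.coprime_dvd_left (Subgroup.card_dvd_of_le hA)).coprime_dvd_right (Subgroup.card_dvd_of_le hB)
  have hPH : P ≤ H := hPM.trans inf_le_left
  have hfixV : V ⊓ Subgroup.centralizer (R₀ : Set X) ≠ ⊥ := by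
    intro hbot
    refine cyc R₀ le_rfl (Subgroup.le_centralizer_iff.1 ?_)
    have h1 := BGThreeBase.fpf_centralizes S.prime (hR₀n hnfix) (hnV' U) (hnV' R₀)
      (S.odd.of_dvd_nat U.card_subgroup_dvd_card) (S.odd.of_dvd_nat R₀.card_subgroup_dvd_card)
      (hcopH hUH S.le) (hcopV hUc).symm (hcopH hVH S.le) hbot
    have h2 : ⁅U, R₀⁆ ≤ U := CoprimeAction.commutator_le_self_of_le_normalizer (hR₀n hnfix)
    rw [Subgroup.commutator_comm] at h1
    have h3 := hfaith ⁅U, R₀⁆ (h2.trans hUH)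
      (hUc.coprime_dvd_left (Subgroup.card_dvd_of_le h2)) h1
    rw [Subgroup.commutator_comm, Subgroup.commutator_eq_bot_iff_le_centralizer] at h3
    exact h3
  have hPfix : ∀ R' : Subgroup X, R₀ ≤ R' → P ⊓ Subgroup.centralizer (R' : Set X) = ⊥ := by
    intro R' hR'
    by_contra hne
    obtain ⟨x, hxP, hxo⟩ := PGroupsBasic.exists_orderOf_eq_of_ne_bot
      (p := p) (hPp.to_le inf_le_left) hne
    obtain ⟨y, hy, hyo⟩ := PGroupsBasic.exists_orderOf_eq_of_ne_bot
      (p := p) (hVp.to_le inf_le_left) hfixV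
    have hxC : x ∈ Subgroup.centralizer (R₀ : Set X) := Subgroup.centralizer_le hR' hxP.2
    have hA : Subgroup.zpowers x ⊔ Subgroup.zpowers y ≤
        (V ⊔ Subgroup.zpowers x) ⊓ (H ⊓ Subgroup.centralizer (R₀ : Set X)) :=
      sup_le (Subgroup.zpowers_le.2 ⟨Subgroup.mem_sup_right (Subgroup.mem_zpowers x), hPH hxP.1, hxC⟩)
        (Subgroup.zpowers_le.2 ⟨Subgroup.mem_sup_left hy.1, hVH hy.1, hy.2⟩)
    set A := Subgroup.zpowers x ⊔ Subgroup.zpowers y with hAdef
    have hxp : IsPGroup p (Subgroup.zpowers x) := hPp.to_le (Subgroup.zpowers_le.2 hxP.1)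
    have hAp : IsPGroup p A := (hVp.to_sup_of_normal_left hxp).to_le (hA.trans inf_le_left)
    have hAc : IsCyclic ↥A := by
      have := S.hZ
      have h1 : IsZGroup ↥A := IsZGroup.of_injective
        (f := Subgroup.inclusion (hA.trans inf_le_right)) (Subgroup.inclusion_injective _)
      have h2 : Group.IsNilpotent ↥A := hAp.isNilpotent
      infer_instance
    have hAab : ∀ a ∈ A, ∀ b ∈ A, a * b = b * a := fun a ha b hb => by
      let _ := hAc.commGroup
      exact congrArg Subtype.val (mul_comm (⟨a, ha⟩ : A) ⟨b, hb⟩)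
    have hAe : ∀ a ∈ A, a ^ p = 1 := by
      intro a ha
      have hel : Cfsg.IsElementaryAbelian p A := PGroupsBasic.isElementaryAbelian_sup
        (PGroupsBasic.isElementaryAbelian_zpowers (by rw [← hxo, pow_orderOf_eq_one]))
        (PGroupsBasic.isElementaryAbelian_zpowers (by rw [← hyo, pow_orderOf_eq_one]))
        (Subgroup.zpowers_le.2 fun b hb => hAab b ((le_sup_right : _ ≤ A) hb) x
          (Subgroup.mem_sup_left (Subgroup.mem_zpowers x)))
      exact hel.2 a ha
    have h2 := Subgroup.eq_of_le_of_card_ge (le_sup_right : Subgroup.zpowers y ≤ A) (by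
      rw [Nat.card_zpowers, hyo]
      exact PGroupsBasic.card_le_prime_of_isCyclic hAc hAe)
    have h3 : x ∈ V ⊓ M := ⟨(Subgroup.zpowers_le.2 hy.1)
      (h2.ge (Subgroup.mem_sup_left (Subgroup.mem_zpowers x))), hPM hxP.1⟩
    rw [hVM, Subgroup.mem_bot] at h3
    rw [h3, orderOf_one] at hxo
    exact hp.ne_one hxo.symm
  have hPR : ∀ R' : Subgroup X, R₀ ≤ R' → R' ≤ R → ⁅P, R'⁆ = P := by
    intro R' h1 h2
    have h3 := CoprimeAction.commutator_sup_centralizer_eq (h2.trans hRP)
      (hcopH hPH h2).symm (Or.inr (hsolv P))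
    rwa [hPfix R' h1, sup_bot_eq] at h3
  -- the induction hypothesis on subgroups containing `V`
  have small : ∀ (R' U' : Subgroup X), R₀ ≤ R' → R' ≤ R → U' ≤ U →
      P ≤ Subgroup.normalizer (U' : Set X) → R' ≤ Subgroup.normalizer (U' : Set X) →
      Nat.card ↥(V ⊔ (U' ⊔ P)) * Nat.card R' < Nat.card X → P ≤ Subgroup.centralizer (U' : Set X) := by
    intro R' U' h0 hR' hU' hPn hRn hlt
    set H₁ := V ⊔ (U' ⊔ P) with hH₁
    have hVH₁ : V ≤ H₁ := le_sup_left
    have hPH₁ : P ≤ H₁ := le_sup_right.trans le_sup_right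
    have hU'H₁ : U' ≤ H₁ := le_sup_left.trans le_sup_right
    have hH₁H : H₁ ≤ H := sup_le hVH (sup_le (hU'.trans hUH) hPH)
    have hRH₁ : R' ≤ Subgroup.normalizer (H₁ : Set X) :=
      le_normalizer_sup (hnV' R') (le_normalizer_sup hRn (hR'.trans hRP))
    have hpl := sub ih S.odd S.hZ S.prime hH₁H hRH₁ (hcopH hH₁H hR') h0 hlt
    set N₁ := ⁅H₁, R'⁆
    have hN₁ : N₁ ≤ H₁ := CoprimeAction.commutator_le_self_of_le_normalizer hRH₁
    have hn₁ : ∀ (C : Subgroup N₁) [C.Characteristic],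
        H₁ ≤ Subgroup.normalizer ((C.map N₁.subtype : Subgroup X) : Set X) := fun C _ =>
      (Subgroup.normalizer_commutator_ge_left H₁ R').trans
        (ComponentsCores.normalizer_le_normalizer_map_subtype N₁ C)
    have := HallCore.pPrimeCore_characteristic p N₁
    have := HallCore.pCore_characteristic p N₁
    have hop₁ : Cfsg.pPrimeCore p N₁ = ⊥ := by
      set B := (Cfsg.pPrimeCore p N₁).map N₁.subtype with hB
      have hBH₁ : B ≤ H₁ := (Subgroup.map_subtype_le _).trans hN₁
      have hBc : (Nat.card B).Coprime p := by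
        rw [Subgroup.card_map_of_injective N₁.subtype_injective]
        exact HallCore.coprime_card_pPrimeCore p N₁
      refine (Subgroup.map_eq_bot_iff_of_injective _ N₁.subtype_injective).1 (hfaith B (hBH₁.trans hH₁H) hBc ?_)
      refine Subgroup.commutator_eq_bot_iff_le_centralizer.1 (eq_bot_iff.2 ?_)
      rw [← Subgroup.inf_eq_bot_of_coprime (hcopV hBc), Subgroup.commutator_le]
      intro b hb v hv
      refine ⟨?_, ?_⟩
      · rw [commutatorElement_def, mul_assoc, mul_assoc, ← mul_assoc v]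
        exact B.mul_mem hb (CoprimeAction.conj_mem (hn₁ _ (hVH₁ hv)) (B.inv_mem hb))
      · rw [commutatorElement_def]
        exact V.mul_mem (hVn.conj_mem v hv b) (V.inv_mem hv)
    have hPN : P ≤ (Cfsg.pCore p N₁).map N₁.subtype := by
      have hle : P ≤ N₁ := (hPR R' h0 hR').ge.trans (Subgroup.commutator_mono hPH₁ le_rfl)
      rw [← Subgroup.map_subgroupOf_eq_of_le hle]
      exact Subgroup.map_mono (BGPLength.le_pCore_of_pPrimeCore_eq_bot hpl hop₁
        (hPp.comap_of_injective _ N₁.subtype_injective))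
    set O := (Cfsg.pCore p N₁).map N₁.subtype
    have hU'O : O ⊓ U' = ⊥ := by
      obtain ⟨i, hi⟩ := IsPGroup.iff_card.1 ((HallCore.isPGroup_pCore p N₁).map N₁.subtype)
      exact Subgroup.inf_eq_bot_of_coprime
        (by rw [hi]; exact (hUc.coprime_dvd_left (Subgroup.card_dvd_of_le hU')).symm.pow_left i)
    refine Subgroup.commutator_eq_bot_iff_le_centralizer.1 (eq_bot_iff.2 ?_)
    rw [← hU'O, Subgroup.commutator_le]
    intro x hx w hw
    refine ⟨?_, ?_⟩
    · rw [commutatorElement_def, mul_assoc, mul_assoc, ← mul_assoc w]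
      exact O.mul_mem (hPN hx) (CoprimeAction.conj_mem (hn₁ _ (hU'H₁ hw)) (O.inv_mem (hPN hx)))
    · rw [commutatorElement_def]
      exact U'.mul_mem (CoprimeAction.conj_mem (hPn hx) hw) (U'.inv_mem hw)
  have hcardX : Nat.card X = Nat.card H * Nat.card R := by
    rw [← BGThreeBase.card_sup (hnH R) S.cop, S.top, Subgroup.card_top]
  -- `R = R₀`
  have hReq : R₀ = R := by
    by_contra hne
    refine hnotC (small R₀ U le_rfl S.le le_rfl hPU (hR₀n hnfix) ?_)
    have h1 : Nat.card R₀ < Nat.card R := lt_of_le_of_ne (Subgroup.card_le_of_le S.le)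
      fun h => hne (Subgroup.eq_of_le_of_card_ge S.le h.ge)
    rw [hcardX]
    exact lt_of_le_of_lt (Nat.mul_le_mul_right _ (Subgroup.card_le_of_le
      (sup_le hVH (sup_le hUH hPH)))) (Nat.mul_lt_mul_of_pos_left h1 Nat.card_pos)
  subst hReq
  -- `M = U P`
  have hsmallU : ∀ U' ≤ U, P ≤ Subgroup.normalizer (U' : Set X) →
      R₀ ≤ Subgroup.normalizer (U' : Set X) → V ⊔ (U' ⊔ P) ≠ H →
      P ≤ Subgroup.centralizer (U' : Set X) := by
    intro U' hU' hPn hRn hne
    refine small R₀ U' le_rfl le_rfl hU' hPn hRn ?_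
    rw [hcardX]
    refine Nat.mul_lt_mul_of_pos_right (lt_of_le_of_ne (Subgroup.card_le_of_le
      (sup_le hVH (sup_le (hU'.trans hUH) hPH))) fun h => hne ?_) Nat.card_pos
    exact Subgroup.eq_of_le_of_card_ge (sup_le hVH (sup_le (hU'.trans hUH) hPH)) h.ge
  have hHUP : V ⊔ (U ⊔ P) = H := by
    by_contra hne
    exact hnotC (hsmallU U le_rfl hPU hnfix hne)
  have hproper : ∀ U' < U, P ≤ Subgroup.normalizer (U' : Set X) →
      R₀ ≤ Subgroup.normalizer (U' : Set X) → P ≤ Subgroup.centralizer (U' : Set X) := by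
    intro U' hlt hPn hRn
    refine hsmallU U' hlt.le hPn hRn fun e => hlt.not_ge fun x hx => ?_
    have h1 : x ∈ U' ⊔ P := hded _ (sup_le (hlt.le.trans hUM) hPM) x
      (e.ge (hUH hx)) (hUM hx)
    rw [sup_comm] at h1
    have h2 : x ∈ ((P ⊔ U' : Subgroup X) : Set X) := h1
    rw [Subgroup.coe_mul_of_left_le_normalizer_right _ _ hPn] at h2
    obtain ⟨a, ha, b, hb, rfl⟩ := h2
    have h3 : a ∈ P ⊓ U := ⟨ha, by simpa using U.mul_mem hx (U.inv_mem (hlt.le hb))⟩
    rw [hPc U hUM hUc, Subgroup.mem_bot] at h3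
    simpa [h3] using hb
  -- `U` is a `q`-group
  set r := Nat.card R₀ with hr
  set B := P ⊔ R₀ with hB
  have hBU : B ≤ Subgroup.normalizer (U : Set X) := sup_le hPU hnfix
  have hPRc : (Nat.card P).Coprime r := hcopH hPH le_rfl
  have hBc : Nat.card B = Nat.card P * r := BGThreeBase.card_sup hRP hPRc
  obtain ⟨i, hi⟩ := IsPGroup.iff_card.1 hPp
  have hBcop : (Nat.card B).Coprime (Nat.card U) := by
    rw [hBc, hi]
    exact Nat.Coprime.mul_left (hUc.symm.pow_left i) (hcopH hUH le_rfl).symm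
  have hU1 : U ≠ ⊥ := fun e => hnotC fun x _ y hy => by
    rw [e, SetLike.mem_coe, Subgroup.mem_bot] at hy
    simp [hy]
  obtain ⟨q, hq, hUq⟩ : ∃ q, q.Prime ∧ IsPGroup q U := by
    by_contra hno
    push Not at hno
    refine hnotC (Subgroup.le_centralizer_iff.1 ?_)
    have hsyl : ∀ q : ℕ, q.Prime → ∀ T : Sylow q U, B ≤ Subgroup.normalizer
        ((T : Subgroup U).map U.subtype : Set X) →
        (T : Subgroup U).map U.subtype ≤ Subgroup.centralizer (P : Set X) := by
      intro q hq T hT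
      refine Subgroup.le_centralizer_iff.1 (hproper _ (lt_of_le_of_ne (Subgroup.map_subtype_le _)
        fun e => hno q hq ?_) (le_sup_left.trans hT) (le_sup_right.trans hT))
      rw [← e]
      exact T.2.map _
    have key : ∀ q : ℕ, q.Prime → ∀ k, q ^ k ∣ Nat.card U →
        q ^ k ∣ Nat.card ↥(U ⊓ Subgroup.centralizer (P : Set X)) := by
      intro q hq k hk
      have := Fact.mk hq
      obtain ⟨T, hT⟩ := CoprimeAction.exists_invariant_sylow (A := B) (K := U) hBU hBcop (Or.inr (hsolv U)) q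
      refine dvd_trans ?_ (Subgroup.card_dvd_of_le (le_inf (Subgroup.map_subtype_le _) (hsyl q hq T hT)))
      rw [Subgroup.card_map_of_injective U.subtype_injective, T.card_eq_multiplicity]
      exact Nat.pow_dvd_pow q ((hq.pow_dvd_iff_le_factorization Nat.card_pos.ne').1 hk)
    have hdvd : Nat.card U ∣ Nat.card ↥(U ⊓ Subgroup.centralizer (P : Set X)) :=
      Nat.dvd_iff_prime_pow_dvd_dvd _ _ |>.2 fun q k hq hk => key q hq k hk
    exact (Subgroup.eq_of_le_of_card_ge inf_le_left (Nat.le_of_dvd Nat.card_pos hdvd)).ge.trans inf_le_right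
  have := Fact.mk hq
  obtain ⟨jU, hjU⟩ := IsPGroup.iff_card.1 hUq
  have hjU0 : jU ≠ 0 := fun e => hU1 (Subgroup.card_eq_one.1 (by rw [hjU, e, pow_zero]))
  have hqdvd : q ∣ Nat.card U := hjU ▸ dvd_pow_self q hjU0
  have hpq : p ≠ q := fun e => hq.ne_one (Nat.eq_one_of_dvd_coprimes hUc hqdvd (e ▸ dvd_rfl))
  have hrq : r ≠ q := fun e => hq.ne_one
    (Nat.eq_one_of_dvd_coprimes (hcopH hUH le_rfl) hqdvd (hr ▸ e ▸ dvd_rfl))
  have hrp : r ≠ p := by
    intro e
    obtain ⟨x, hx, hxo⟩ := PGroupsBasic.exists_orderOf_eq_of_ne_bot (p := p) hPp hP1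
    exact hp.ne_one (Nat.eq_one_of_dvd_coprimes hPRc (hxo ▸ Subgroup.orderOf_dvd_natCard _ hx)
      (e ▸ dvd_rfl))
  have hq2 : q ≠ 2 := fun e => by
    have h1 := (S.odd.of_dvd_nat U.card_subgroup_dvd_card).of_dvd_nat hqdvd
    rw [e] at h1
    exact absurd h1 (by decide)
  obtain ⟨hcomm, hel, -, hexp⟩ := Cfsg.Agent.S3736.result B P U hUq hBU le_sup_left
    (sup_le Subgroup.le_normalizer hRP) (hi ▸ ((Nat.coprime_primes hp hq).2 hpq).pow_left i)
    (fun e => hnotC (by
      rwa [Subgroup.commutator_comm, Subgroup.commutator_eq_bot_iff_le_centralizer] at e))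
    (fun U' hlt hn' => by
      rw [Subgroup.commutator_comm, Subgroup.commutator_eq_bot_iff_le_centralizer]
      exact hproper U' hlt (le_sup_left.trans hn') (le_sup_right.trans hn'))
  have hUR : U ⊓ Subgroup.centralizer (R₀ : Set X) ≠ ⊥ := by
    intro hbot
    refine hnotC ((hPR R₀ le_rfl le_rfl).ge.trans ?_)
    rw [Subgroup.commutator_comm]
    exact BGThreeBase.fpf_centralizes S.prime hRP hPU hnfix
      (S.odd.of_dvd_nat P.card_subgroup_dvd_card) (S.odd.of_dvd_nat R₀.card_subgroup_dvd_card)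
      hPRc (by rw [hi]; exact hUc.pow_right i) (hcopH hUH le_rfl) hbot
  have hexp' := hexp hq2
  have hcycsub : ∀ {A : Subgroup X}, IsPGroup q A → A ≤ H →
      IsCyclic ↥(A ⊓ Subgroup.centralizer (R₀ : Set X)) := by
    intro A hA hAH
    have := S.hZ
    have h1 : IsZGroup ↥(A ⊓ Subgroup.centralizer (R₀ : Set X)) := IsZGroup.of_injective
      (f := Subgroup.inclusion (inf_le_inf_right _ hAH)) (Subgroup.inclusion_injective _)
    have h2 : Group.IsNilpotent ↥(A ⊓ Subgroup.centralizer (R₀ : Set X)) :=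
      (hA.to_le inf_le_left).isNilpotent
    infer_instance
  refine BGThreeSixEnd.false_of_conf (p := p) (q := q) (r := r) (V := V) (U := U) (P := P) (R := R₀)
    { hp := hp, hq := hq, hr := S.prime, hpq := hpq, hrp := hrp, hrq := hrq, hodd := S.odd,
      hRc := rfl, hV := hVE, hVp := hVp, hUp := hUq, hPp := hPp, hP1 := hP1,
      hUV := hnV' U, hPV := hnV' P, hRV := hnV' R₀, hPU := hPU, hRU := hnfix, hRP := hRP,
      hfaith := ?_, hCVU := hCVU, hPR := hPfix R₀ le_rfl, hUR := hUR, hUnc := ?_,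
      hVcyc := ?_, hUcyc := hcycsub hUq hUH, hUexp := hexp', hcomm := hcomm,
      hmin := fun U' hlt hn' => by
        rw [Subgroup.commutator_comm, Subgroup.commutator_eq_bot_iff_le_centralizer]
        exact hproper U' hlt (le_sup_left.trans hn') (le_sup_right.trans hn') } ?_
  · intro z hz hzC
    have hzM : z ∈ M := sup_le hUM hPM hz
    have h1 : z ∈ V ⊓ M := ⟨hCV ⟨hzM.1, hzC⟩, hzM⟩
    rwa [hVM, Subgroup.mem_bot] at h1
  · intro hcy
    refine cyc R₀ le_rfl ?_
    have h1 := PGroupsBasic.card_le_prime_of_isCyclic (p := q) hcy hexp'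
    obtain ⟨x, hx, hxo⟩ := PGroupsBasic.exists_orderOf_eq_of_ne_bot (p := q) (hUq.to_le inf_le_left) hUR
    have h2 := Subgroup.eq_of_le_of_card_ge (Subgroup.zpowers_le.2 hx.1)
      (by rw [Nat.card_zpowers, hxo]; exact h1)
    rw [← h2]
    exact Subgroup.zpowers_le.2 hx.2
  · have := S.hZ
    have h1 : IsZGroup ↥(V ⊓ Subgroup.centralizer (R₀ : Set X)) := IsZGroup.of_injective
      (f := Subgroup.inclusion (inf_le_inf_right _ hVH)) (Subgroup.inclusion_injective _)
    have h2 : Group.IsNilpotent ↥(V ⊓ Subgroup.centralizer (R₀ : Set X)) :=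
      (hVp.to_le inf_le_left).isNilpotent
    infer_instance
  · intro a ha b hb c hc
    rcases hel with hel | hel
    · rw [commutatorElement_eq_one_iff_mul_comm.2
        (PGroupsBasic.comm_of_isMulCommutative hel.1 ha hb), one_mul, mul_one]
    · have h1 : ⁅(⟨a, ha⟩ : U), ⟨b, hb⟩⁆ ∈ Subgroup.center U :=
        hel.2.2.le (Subgroup.commutator_mem_commutator (Subgroup.mem_top _) (Subgroup.mem_top _))
      exact (congrArg Subtype.val (Subgroup.mem_center_iff.1 h1 ⟨c, hc⟩) :).symm

theorem all (p : ℕ) [Fact p.Prime] : ∀ m, IH.{u} p m := by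
  intro m
  induction m with
  | zero => intro Y _ _ _ H R R₀ hlt; omega
  | succ m ihm =>
    intro Y _ _ _ H R R₀ hlt hodd hR hcop hle hprime hZ
    by_cases hlt' : Nat.card Y < m
    · exact ihm H R R₀ hlt' hodd hR hcop hle hprime hZ
    have hm : m = Nat.card Y := by omega
    subst hm
    have hmul : Nat.card H * Nat.card R = Nat.card ↥(H ⊔ R) := (BGThreeBase.card_sup hR hcop).symm
    by_cases htop : H ⊔ R = ⊤
    swap
    · refine sub (H := H) ihm hodd hZ hprime le_rfl hR hcop hle ?_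
      rw [hmul]
      exact lt_of_le_of_ne (Nat.le_of_dvd Nat.card_pos (H ⊔ R).card_subgroup_dvd_card)
        fun h => htop (Subgroup.eq_top_of_card_eq _ h)
    have hn : H.Normal := normal_of_sup_top htop Subgroup.le_normalizer hR
    have hle1 : ⁅H, R⁆ ≤ H := CoprimeAction.commutator_le_self_of_le_normalizer hR
    by_cases hHR : ⁅H, R⁆ = H
    · exact BGPLength.of_equiv (MulEquiv.subgroupCongr hHR)
        (step ihm ⟨hodd, hn, htop, hcop, hle, hprime, hZ⟩ hHR)
    · have h1 := sub ihm hodd hZ hprime hle1 (Subgroup.normalizer_commutator_ge_right H R)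
        (hcop.coprime_dvd_left (Subgroup.card_dvd_of_le hle1)) hle (by
          rw [← Subgroup.card_top (G := Y), ← htop, ← hmul]
          exact Nat.mul_lt_mul_of_pos_right (lt_of_le_of_ne (Subgroup.card_le_of_le hle1)
            fun h => hHR (Subgroup.eq_of_le_of_card_ge hle1 h.ge)) Nat.card_pos)
      have hc2 := CoprimeAction.commutator_commutator_eq hR hcop.symm
        (Or.inr (inferInstance : Group.IsSolvable H))
      exact BGPLength.of_equiv (MulEquiv.subgroupCongr hc2.symm) h1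

end Cfsg.Agent.BGThreeSixRed
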