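import Cfsg.Agent.Lib.BGSigmaCore
import Cfsg.Agent.Lib.PLengthOne
import Cfsg.Agent.S1410

/-!
Sylow normalizers in a minimal simple group of odd order (Bender-Glauberman 10.7).
-/

set_option autoImplicit false
set_option linter.style.haveILetI false
open Cfsg Cfsg.Agent Subgroup
open scoped commutatorElement

namespace Cfsg.Agent.BGSylowNormalizer

universe u

variable {G : Type u} [Group G] [Finite G] {p : ℕ} [Fact p.Prime]

theorem mem_normalizer_of_forall {Q : Subgroup G} {g : G} (h : ∀ q ∈ Q, g * q * g⁻¹ ∈ Q) :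
    g ∈ normalizer (Q : Set G) := by
  have he : Q.map (MulAut.conj g).toMonoidHom = Q := by
    refine eq_of_le_of_card_ge ?_ (card_map_of_injective (MulAut.conj g).injective).ge
    rintro _ ⟨q, hq, rfl⟩
    simpa using h q hq
  refine mem_normalizer_iff.2 fun x => ⟨h x, fun hx => ?_⟩
  rw [← he] at hx
  obtain ⟨q, hq, hqx⟩ := hx
  have : q = x := by simpa using hqx
  exact this ▸ hq

theorem exists_setup (hG : Cfsg.IsMinSimpleOddOrder G) (P : Sylow p G)
    (hP : (P : Subgroup G) ≠ ⊥) :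
    ∃ M : Subgroup G, IsCoatom M ∧ p ∈ Cfsg.sigma M ∧
      normalizer ((P : Subgroup G) : Set G) ≤ M ∧ Cfsg.PLengthLE p 1 M := by
  have hne : (P : Subgroup G) ≠ ⊤ := by
    intro ht
    have hGp : IsPGroup p G := by
      have h := P.isPGroup'
      rw [ht] at h
      exact h.of_equiv topEquiv
    haveI := hG.2.1
    haveI : Group.IsNilpotent G := hGp.isNilpotent
    exact (Group.IsSolvable.commutator_lt_top_of_nontrivial G).ne (BGSigma.commutator_eq_top hG)
  obtain ⟨M, hM, hNM⟩ :=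
    BGUnique.exists_coatom_ge (BGTransitivity.normalizer_ne_top hG hP hne)
  have hPM : (P : Subgroup G) ≤ M := le_normalizer.trans hNM
  refine ⟨M, hM, ⟨Fact.out, ?_, P.subtype hPM, ?_⟩, hNM, S1410.result hG p M hM.1⟩
  · exact (BGUnique.dvd_card_of_ne_bot P.isPGroup' hP).trans (card_dvd_of_le hPM)
  · rwa [Sylow.coe_subtype, map_subgroupOf_eq_of_le hPM]

theorem exists_conj_le {R : Subgroup G} (hR : IsPGroup p R) (P : Sylow p G) :
    ∃ g : G, ∀ r ∈ R, g * r * g⁻¹ ∈ (P : Subgroup G) := by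
  obtain ⟨T, hT⟩ := hR.exists_le_sylow
  obtain ⟨g, hg⟩ := MulAction.exists_smul_eq G T P
  refine ⟨g, fun r hr => ?_⟩
  rw [← hg, Sylow.coe_subgroup_smul]
  exact ⟨r, hT hr, rfl⟩

/-- Fusion in a Sylow subgroup is controlled by its normalizer. -/
theorem fusion_normalizer (hG : Cfsg.IsMinSimpleOddOrder G) (P : Sylow p G) {Q : Subgroup G}
    (hQ : Q ≤ P) {x : G} (hx : ∀ q ∈ Q, x * q * x⁻¹ ∈ (P : Subgroup G)) :
    ∃ y ∈ normalizer ((P : Subgroup G) : Set G), ∀ q ∈ Q, x * q * x⁻¹ = y * q * y⁻¹ := by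
  by_cases hQ1 : Q = ⊥
  · refine ⟨1, one_mem _, fun q hq => ?_⟩
    rw [hQ1, mem_bot] at hq
    simp [hq]
  obtain ⟨M, hM, hσ, hNM, hpl⟩ := exists_setup hG P (ne_bot_of_le_ne_bot hQ1 hQ)
  have hPM : (P : Subgroup G) ≤ M := le_normalizer.trans hNM
  obtain ⟨m, hm, c, hc, rfl⟩ := BGSigma.fusion hG hM hσ (X := Q) (P.isPGroup'.to_le hQ) hQ1
    (hQ.trans hPM) (g := x) (by
      rintro _ ⟨q, hq, rfl⟩
      exact hPM (hx q hq))
  have hxq : ∀ q ∈ Q, m * c * q * (m * c)⁻¹ = m * q * m⁻¹ := fun q hq => by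
    have h := (mem_centralizer_iff.1 hc) q hq
    calc m * c * q * (m * c)⁻¹ = m * (c * q) * c⁻¹ * m⁻¹ := by group
      _ = m * (q * c) * c⁻¹ * m⁻¹ := by rw [h]
      _ = m * q * m⁻¹ := by group
  obtain ⟨n, hn, o, ho, hno⟩ := PLengthOne.exists_normalizer_mul hpl (P.subtype hPM) ⟨m, hm⟩
  have hnP : (n : G) ∈ normalizer ((P : Subgroup G) : Set G) := by
    refine mem_normalizer_of_forall fun q hq => ?_
    exact (mem_normalizer_iff.1 hn ⟨q, hPM hq⟩).1 hq
  refine ⟨n, hnP, fun q hq => ?_⟩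
  have hm' : m = (n : G) * o := (congrArg Subtype.val hno).symm
  have h1 : (o : G) * q * (o : G)⁻¹ ∈ (P : Subgroup G) := by
    have h2 := (mem_normalizer_iff.1 (inv_mem hnP) _).1 (hx q hq)
    rw [hxq q hq, hm'] at h2
    convert h2 using 1
    group
  have hc' : Commute (o : M) ⟨q, hPM (hQ hq)⟩ :=
    PLengthOne.commute_of_conj_mem (P.subtype hPM).isPGroup' ho (hQ hq) h1
  have hoq : (o : G) * q = q * o := congrArg Subtype.val hc'.eq
  rw [hxq q hq, hm']
  calc (n : G) * o * q * ((n : G) * o)⁻¹ = n * ((o : G) * q) * (o : G)⁻¹ * (n : G)⁻¹ := by group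
    _ = n * (q * (o : G)) * (o : G)⁻¹ * (n : G)⁻¹ := by rw [hoq]
    _ = n * q * (n : G)⁻¹ := by group

/-- A Sylow subgroup lies in the derived subgroup of its normalizer. -/
theorem le_commutator_normalizer (hG : Cfsg.IsMinSimpleOddOrder G) (P : Sylow p G) :
    (P : Subgroup G) ≤
      ⁅normalizer ((P : Subgroup G) : Set G), normalizer ((P : Subgroup G) : Set G)⁆ := by
  by_cases hP : (P : Subgroup G) = ⊥
  · rw [hP]; exact bot_le
  obtain ⟨M, hM, hσ, hNM, hpl⟩ := exists_setup hG P hP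
  have hPM : (P : Subgroup G) ≤ M := le_normalizer.trans hNM
  set S : Sylow p M := P.subtype hPM with hS
  set U : Subgroup M := normalizer ((S : Subgroup M) : Set M) with hU
  set K := Cfsg.pPrimeCore p M with hK
  haveI : K.Normal := HallCore.pPrimeCore_normal p M
  have htop : U ⊔ K = ⊤ := top_le_iff.1 fun z _ => by
    obtain ⟨n, hn, o, ho, rfl⟩ := PLengthOne.exists_normalizer_mul hpl S z
    exact mul_mem_sup hn ho
  have hSU : ∀ s ∈ (S : Subgroup M), s ∈ ⁅U, U⁆ := by
    intro s hs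
    have h1 := PLengthOne.commutator_le_sup htop (BGSigma.sylow_le_commutator hG hM hσ S hs)
    rw [sup_comm] at h1
    obtain ⟨k, hk, v, hv, hkv⟩ := mem_sup_of_normal_left.1 h1
    have hsU : s ∈ U := le_normalizer hs
    have hvU : v ∈ U := commutator_le.2
      (fun f hf g hg => mul_mem (mul_mem (mul_mem hf hg) (inv_mem hf)) (inv_mem hg)) hv
    have hkU : k ∈ U := by
      rw [show k = s * v⁻¹ by rw [← hkv, mul_inv_cancel_right]]
      exact mul_mem hsU (inv_mem hvU)
    refine PLengthOne.mem_commutator_of_coprime hsU hkU ?_ ?_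
    · obtain ⟨j, hj⟩ := IsPGroup.iff_orderOf.1 S.isPGroup' ⟨s, hs⟩
      rw [orderOf_mk] at hj
      rw [hj]
      exact Nat.Coprime.pow_left j (Nat.Coprime.coprime_dvd_right (Subgroup.orderOf_dvd_natCard _ hk)
        (HallCore.coprime_card_pPrimeCore p M).symm)
    · rw [show s⁻¹ * k = v⁻¹ by rw [← hkv]; group]
      exact inv_mem hv
  have hUN : U.map M.subtype ≤ normalizer ((P : Subgroup G) : Set G) := by
    refine le_trans (le_normalizer_map M.subtype) (le_of_eq ?_)
    rw [hS, Sylow.coe_subtype, map_subgroupOf_eq_of_le hPM]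
  intro x hx
  have h2 : x ∈ (⁅U, U⁆).map M.subtype := ⟨⟨x, hPM hx⟩, hSU ⟨x, hPM hx⟩ hx, rfl⟩
  rw [map_commutator] at h2
  exact commutator_mono hUN hUN h2

/-- `N' ≤ P'[P,V] V'` for `N = PV`, with `P` normal in `N`. -/
theorem commutator_le_of_isComplIn {P V N : Subgroup G} (hV : Cfsg.IsComplIn P V N)
    (hn : N ≤ normalizer (P : Set G)) :
    ⁅N, N⁆ ≤ (⁅P, P⁆ ⊔ ⁅P, V⁆) ⊔ ⁅V, V⁆ := by
  obtain ⟨hPN, hVN, -, hdec⟩ := hV
  set R := ⁅P, P⁆ ⊔ ⁅P, V⁆ with hR
  have hnP : ∀ a ∈ P, ∀ r ∈ ⁅P, P⁆ ⊔ ⁅P, V⁆, a * r * a⁻¹ ∈ R := by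
    intro a ha r hr
    have h1 : P ≤ normalizer ((⁅P, P⁆ : Subgroup G) : Set G) := PGroupsUniserial.le_normalizer_commutator P P
    have h2 : P ≤ normalizer ((⁅P, V⁆ : Subgroup G) : Set G) := by
      rw [commutator_comm P V]; exact PGroupsUniserial.le_normalizer_commutator V P
    have h3 : R ≤ comap (MulAut.conj a).toMonoidHom R := by
      refine sup_le (fun z hz => ?_) fun z hz => ?_
      · exact mem_comap.2 (mem_sup_left ((mem_normalizer_iff.1 (h1 ha) z).1 hz))
      · exact mem_comap.2 (mem_sup_right ((mem_normalizer_iff.1 (h2 ha) z).1 hz))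
    exact h3 hr
  have hVP : ∀ v ∈ V, ∀ a ∈ P, v * a * v⁻¹ ∈ P := fun v hv a ha =>
    (mem_normalizer_iff.1 (hn (hVN hv)) a).1 ha
  rw [commutator_le]
  intro f hf g hg
  obtain ⟨a, ha, v, hv, rfl⟩ := hdec f hf
  obtain ⟨b, hb, w, hw, rfl⟩ := hdec g hg
  have e1 : ⁅a * v, b * w⁆ = a * ⁅v, b⁆ * a⁻¹ * ⁅a * b, ⁅v, w⁆⁆ * ⁅v, w⁆ * ⁅a, b⁆ *
      (b * ⁅a, w⁆ * b⁻¹) := by
    simp only [commutatorElement_def]; group
  rw [e1]
  have hc : ⁅v, w⁆ ∈ V :=
    mul_mem (mul_mem (mul_mem hv hw) (inv_mem hv)) (inv_mem hw)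
  refine mul_mem (mul_mem (mul_mem (mul_mem (mem_sup_left (hnP a ha _ ?_)) (mem_sup_left ?_)) ?_)
    (mem_sup_left ?_)) (mem_sup_left (hnP b hb _ ?_))
  · exact mem_sup_right (by rw [commutator_comm]; exact commutator_mem_commutator hv hb)
  · exact mem_sup_right (commutator_mem_commutator (mul_mem ha hb) hc)
  · exact mem_sup_right (commutator_mem_commutator hv hw)
  · exact mem_sup_left (commutator_mem_commutator ha hb)
  · exact mem_sup_right (commutator_mem_commutator ha hw)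

/-- A Sylow subgroup is `[P,V]` for a complement `V` in its normalizer. -/
theorem eq_commutator_compl (hG : Cfsg.IsMinSimpleOddOrder G) (P : Sylow p G) {V : Subgroup G}
    (hV : Cfsg.IsComplIn (P : Subgroup G) V (normalizer ((P : Subgroup G) : Set G))) :
    (P : Subgroup G) = ⁅(P : Subgroup G), V⁆ := by
  have hVn : V ≤ normalizer ((P : Subgroup G) : Set G) := hV.2.1
  have hXP : ⁅(P : Subgroup G), V⁆ ≤ P := commutator_le.2 fun a ha v hv => by
    have := mul_mem ha ((mem_normalizer_iff.1 (hVn hv) _).1 (inv_mem ha))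
    simpa [commutatorElement_def, mul_assoc] using this
  have hPP : ⁅(P : Subgroup G), (P : Subgroup G)⁆ ≤ P :=
    commutator_le.2 fun f hf g hg => mul_mem (mul_mem (mul_mem hf hg) (inv_mem hf)) (inv_mem hg)
  set X := ⁅(P : Subgroup G), V⁆ with hX
  have hXn : (P : Subgroup G) ≤ normalizer (X : Set G) := by
    rw [hX, commutator_comm]; exact PGroupsUniserial.le_normalizer_commutator V _
  have hVV : ⁅V, V⁆ ≤ V :=
    commutator_le.2 fun f hf g hg => mul_mem (mul_mem (mul_mem hf hg) (inv_mem hf)) (inv_mem hg)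
  have hgen : (P : Subgroup G) ≤ ⁅(P : Subgroup G), (P : Subgroup G)⁆ ⊔ X := by
    intro x hx
    have h1 := commutator_le_of_isComplIn hV le_rfl (le_commutator_normalizer hG P hx)
    have hn : ⁅V, V⁆ ≤ normalizer ((⁅(P : Subgroup G), (P : Subgroup G)⁆ ⊔ X : Subgroup G) : Set G) := by
      intro v hv
      have hv1 : v ∈ normalizer ((⁅(P : Subgroup G), (P : Subgroup G)⁆ : Subgroup G) : Set G) := by
        refine mem_normalizer_of_forall fun z hz => ?_
        have hvP := hVn (hVV hv)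
        have h2 : ⁅(P : Subgroup G), (P : Subgroup G)⁆ ≤
            comap (MulAut.conj v).toMonoidHom ⁅(P : Subgroup G), (P : Subgroup G)⁆ := by
          rw [← map_le_iff_le_comap, map_commutator]
          refine commutator_mono ?_ ?_ <;>
          · rintro _ ⟨a, ha, rfl⟩
            exact (mem_normalizer_iff.1 hvP a).1 ha
        exact h2 hz
      have hv2 : v ∈ normalizer (X : Set G) :=
        PGroupsUniserial.le_normalizer_commutator (P : Subgroup G) V (hVV hv)
      refine mem_normalizer_of_forall fun z hz => ?_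
      have h3 : (⁅(P : Subgroup G), (P : Subgroup G)⁆ ⊔ X : Subgroup G) ≤
          comap (MulAut.conj v).toMonoidHom (⁅(P : Subgroup G), (P : Subgroup G)⁆ ⊔ X) :=
        sup_le (fun a ha => mem_comap.2 (mem_sup_left ((mem_normalizer_iff.1 hv1 a).1 ha)))
          fun a ha => mem_comap.2 (mem_sup_right ((mem_normalizer_iff.1 hv2 a).1 ha))
      exact h3 hz
    obtain ⟨r, hr, w, hw, hrw⟩ := (Set.ext_iff.1
      (Subgroup.coe_mul_of_right_le_normalizer_left _ _ hn) x).1 h1
    have hwP : w ∈ (P : Subgroup G) := by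
      rw [show w = r⁻¹ * x by rw [← hrw]; group]
      exact mul_mem (inv_mem (sup_le hPP hXP hr)) hx
    have : w ∈ (P : Subgroup G) ⊓ V := ⟨hwP, hVV hw⟩
    rw [hV.2.2.1, mem_bot] at this
    simp only [this, mul_one] at hrw
    exact hrw ▸ hr
  refine le_antisymm ?_ hXP
  set Xs := X.subgroupOf (P : Subgroup G) with hXs
  haveI : Xs.Normal := normal_subgroupOf_of_le_normalizer hXn
  haveI : Group.IsNilpotent (P : Subgroup G) := P.isPGroup'.isNilpotent
  have htop : commutator (P : Subgroup G) ⊔ Xs = ⊤ := by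
    refine (map_injective (P : Subgroup G).subtype_injective) ?_
    rw [Subgroup.map_sup, map_subtype_commutator, map_subgroupOf_eq_of_le hXP,
      ← MonoidHom.range_eq_map, range_subtype]
    exact le_antisymm (sup_le hPP hXP) hgen
  have hq : commutator ((P : Subgroup G) ⧸ Xs) = ⊤ := by
    have := congrArg (Subgroup.map (QuotientGroup.mk' Xs)) htop
    rw [Subgroup.map_sup, QuotientGroup.map_mk'_self, sup_bot_eq, ← MonoidHom.range_eq_map,
      MonoidHom.range_eq_top.2 (QuotientGroup.mk'_surjective _), _root_.commutator_def,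
      map_commutator, ← MonoidHom.range_eq_map,
      MonoidHom.range_eq_top.2 (QuotientGroup.mk'_surjective _)] at this
    rw [_root_.commutator_def]; exact this
  have hsub : Xs = ⊤ := by
    by_contra hne
    haveI : Nontrivial ((P : Subgroup G) ⧸ Xs) := QuotientGroup.nontrivial_iff.2 hne
    exact (Group.IsSolvable.commutator_lt_top_of_nontrivial _).ne hq
  exact subgroupOf_eq_top.1 hsub

end Cfsg.Agent.BGSylowNormalizer
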