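import Cfsg.Agent.Lib.BGExcTI
import Cfsg.Agent.Lib.BGCoprimeFPF
import Cfsg.Agent.Lib.BGFittingUnique
import Cfsg.Agent.S1394
import Cfsg.Agent.S1395
import Cfsg.Agent.S1411

/-!
Transitivity applied to a maximal elementary abelian `A` of order `p ^ 2`: when `q` divides `|C(A)|`,
`A ≤ N(Q)'` for every maximal `A`-invariant `q`-subgroup `Q`.
-/

set_option autoImplicit false
set_option linter.style.haveILetI false

namespace Cfsg.Agent.BGExc

open Subgroup
open Cfsg.Agent.BGUnique
open Cfsg.Agent.BGSigma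
open scoped commutatorElement Pointwise

universe u

theorem le_derived_normalizer {G : Type u} [Group G] [Finite G] (hG : Cfsg.IsMinSimpleOddOrder G)
    {p : ℕ} [hp : Fact p.Prime] {A : Subgroup G} (hA : Cfsg.IsElementaryAbelian p A)
    (hAc : Nat.card A = p ^ 2) (hr : Cfsg.PRankLE p 2 ↥(centralizer (A : Set G))) {q : ℕ}
    (hq : q.Prime) (hqp : q ≠ p) (hqC : q ∣ Nat.card (centralizer (A : Set G))) {Q : Subgroup G}
    (hQ : Q ∈ BGTransitivity.maxInv A q) :
    A ≤ ⁅normalizer (Q : Set G), normalizer (Q : Set G)⁆ := by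
  haveI := Fact.mk hq
  have hAp := PGroupsBasic.isPGroup_of_isElementaryAbelian hA
  have hTH := transitivityHypothesis hG hA hAc hr
  have hqA : ¬ q ∣ Nat.card A := by
    rw [hAc]; exact fun h => hqp ((Nat.prime_dvd_prime_iff_eq hq hp.out).1 (hq.dvd_of_dvd_pow h))
  have hrank : ¬ Cfsg.RankLE 1 ↥(A ⊓ centralizer (A : Set G)) := by
    intro h
    have h1 := card_le_of_pRankLE (h p hp.out)
      (le_inf le_rfl (PGroupsBasic.le_centralizer_of_isMulCommutative hA.1)) hA
    rw [hAc, Nat.pow_le_pow_iff_right hp.out.one_lt] at h1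
    omega
  obtain ⟨S, hAS⟩ := hAp.exists_le_sylow
  have hSne : (S : Subgroup G) ≠ ⊤ := BGTransitivity.qgroup_ne_top hG S.isPGroup'
  have hSπ : ∀ r : ℕ, r.Prime → r ∣ Nat.card (S : Subgroup G) → r ∣ Nat.card A := by
    intro r hr' hd
    obtain ⟨n, hn⟩ := IsPGroup.iff_card.1 S.isPGroup'
    rw [hn] at hd
    rw [(Nat.prime_dvd_prime_iff_eq hr' hp.out).1 (hr'.dvd_of_dvd_pow hd)]
    exact dvd_card_of_sq le_rfl hAc
  haveI : Group.IsNilpotent (S : Subgroup G) := S.isPGroup'.isNilpotent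
  have htr := Cfsg.Agent.S1394.result hG A hTH hrank q hq hqA hqC
  obtain ⟨-, -, hsub, hd⟩ := Cfsg.Agent.S1395.result hG A hTH q hq hqA (S : Subgroup G) hSne hSπ hAS
    (BGFittingUnique.isSubnormal_of_nilpotent _ _ rfl) htr
  obtain ⟨Q₀, hQ₀, -⟩ := BGTransitivity.exists_maxInv_ge (q := q) (A := (S : Subgroup G))
    (R := ⊥) IsPGroup.of_bot (fun x _ => mem_normalizer_iff.2 fun y => by simp [mem_bot])
  -- `S ≤ N(S)'`
  have hSd : (S : Subgroup G) ≤
      ⁅normalizer ((S : Subgroup G) : Set G), normalizer ((S : Subgroup G) : Set G)⁆ := by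
    set N := normalizer ((S : Subgroup G) : Set G) with hN
    haveI : ((S : Subgroup G).subgroupOf N).Normal := normal_in_normalizer
    have hco : (Nat.card (S : Subgroup G)).Coprime ((S : Subgroup G).relIndex N) := by
      obtain ⟨n, hn⟩ := IsPGroup.iff_card.1 S.isPGroup'
      rw [hn]
      exact (hp.out.coprime_iff_not_dvd.2 fun h =>
        S.not_dvd_index (h.trans (Dvd.intro _ (relIndex_mul_index le_normalizer)))).pow_left n
    obtain ⟨B, hB⟩ := exists_right_complement'_of_coprime (N := (S : Subgroup G).subgroupOf N) (by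
      rwa [Nat.card_congr (subgroupOfEquivOfLe (le_normalizer : (S : Subgroup G) ≤ N)).toEquiv])
    have hV : Cfsg.IsComplIn (S : Subgroup G) (B.map N.subtype) N := by
      refine BGTypeBasic.isComplIn_of_card le_normalizer (map_subtype_le _) ?_ ?_
      · rw [card_map_of_injective N.subtype_injective, ← hB.symm.index_eq_card]
        exact hco
      · rw [card_map_of_injective N.subtype_injective, ← hB.symm.index_eq_card]
        exact HallCore.card_mul_relIndex le_normalizer
    exact (Cfsg.Agent.S1411.result hG p S _ hV).2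
  have hA₀ : A ≤ ⁅normalizer (Q₀ : Set G), normalizer (Q₀ : Set G)⁆ :=
    fun a ha => (hd Q₀ hQ₀).1 ⟨hAS ha, hSd (hAS ha)⟩
  obtain ⟨k, hk, hkQ⟩ := htr Q₀ (hsub hQ₀) Q hQ
  have hkA : MulAut.conj k • A = A := CoprimeSZ.conj_smul_eq_self
    (BGTransitivity.centCore_le_normalizer A hk)
  rw [← hkA, hkQ, ← CoprimeSZ.conj_smul_eq_map, BGTypeBasic.conj_smul_normalizer,
    CoprimeSZ.conj_smul_eq_map, CoprimeSZ.conj_smul_eq_map k (normalizer (Q₀ : Set G)),
    ← map_commutator]
  exact map_mono hA₀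

end Cfsg.Agent.BGExc
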