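import Mathlib

/-! Commutator identities for an abelian group `A` acting on `B` trivially on `[B, B]`
(Glauberman's replacement lemma), with no bound on the class of `B`. -/

set_option autoImplicit false

namespace Cfsg.Agent.GlaubermanClassFree

open Subgroup
open scoped commutatorElement

variable {G : Type*} [Group G] {A B : Subgroup G}

theorem comm_le_left (hAB : A ≤ normalizer (B : Set G)) : ⁅B, A⁆ ≤ B := by
  rw [commutator_le]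
  intro b hb a ha
  rw [commutatorElement_def, mul_assoc b a, mul_assoc]
  exact mul_mem hb ((mem_normalizer_iff.mp (hAB ha) _).mp (inv_mem hb))

theorem der_le_self : ⁅⁅B, B⁆, B⁆ ≤ ⁅B, B⁆ :=
  commutator_mono (commutator_le_self B) le_rfl

theorem comm_der (hc : ⁅⁅B, B⁆, A⁆ = ⊥) : ⁅⁅B, A⁆, ⁅B, B⁆⁆ = ⊥ := by
  refine commutator_commutator_eq_bot_of_rotate ?_ ?_
  · rw [commutator_comm A ⁅B, B⁆, hc, commutator_bot_left]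
  · exact le_bot_iff.mp (hc ▸ commutator_mono der_le_self le_rfl)

theorem der_comm_central (hAB : A ≤ normalizer (B : Set G)) (hc : ⁅⁅B, B⁆, A⁆ = ⊥) :
    ⁅⁅⁅B, A⁆, ⁅B, A⁆⁆, B⁆ = ⊥ := by
  have hle := comm_le_left hAB
  have h1 : ⁅⁅B, B⁆, ⁅B, A⁆⁆ = ⊥ := by rw [commutator_comm, comm_der hc]
  refine commutator_commutator_eq_bot_of_rotate ?_ ?_
  · exact le_bot_iff.mp (h1 ▸ commutator_mono (commutator_mono hle le_rfl) le_rfl)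
  · exact le_bot_iff.mp (h1 ▸ commutator_mono (commutator_mono le_rfl hle) le_rfl)

theorem der_commute (hc : ⁅⁅B, B⁆, A⁆ = ⊥) {t a : G} (ht : t ∈ ⁅B, B⁆) (ha : a ∈ A) :
    Commute t a :=
  commutatorElement_eq_one_iff_commute.mp
    (mem_bot.mp (hc ▸ commutator_mem_commutator ht ha))

theorem der_commute_comm (hc : ⁅⁅B, B⁆, A⁆ = ⊥) {t u : G} (ht : t ∈ ⁅B, B⁆)
    (hu : u ∈ ⁅B, A⁆) : Commute t u :=
  (commutatorElement_eq_one_iff_commute.mp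
    (mem_bot.mp (comm_der hc ▸ commutator_mem_commutator hu ht))).symm

theorem central (hAB : A ≤ normalizer (B : Set G)) (hc : ⁅⁅B, B⁆, A⁆ = ⊥) {u v y : G}
    (hu : u ∈ ⁅B, A⁆) (hv : v ∈ ⁅B, A⁆) (hy : y ∈ B) : Commute ⁅u, v⁆ y :=
  commutatorElement_eq_one_iff_commute.mp (mem_bot.mp (der_comm_central hAB hc ▸
    commutator_mem_commutator (commutator_mem_commutator hu hv) hy))

theorem conj_der {x t : G} (hx : x ∈ B) (ht : t ∈ ⁅B, B⁆) : x * t * x⁻¹ ∈ ⁅B, B⁆ := by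
  have h : ⁅x, t⁆ ∈ ⁅B, B⁆ := commutator_mem_commutator hx (commutator_le_self B ht)
  simpa [commutatorElement_def] using mul_mem h ht

/-- The hypotheses on `x`: the double commutators `[x, a, b]` centralize `A`. -/
structure Hyp (A B : Subgroup G) (x : G) : Prop where
  comm : ∀ a ∈ A, ∀ b ∈ A, a * b = b * a
  norm : A ≤ normalizer (B : Set G)
  der : ⁅⁅B, B⁆, A⁆ = ⊥
  xB : x ∈ B
  cc : ∀ a ∈ A, ∀ b ∈ A, ∀ y ∈ A, Commute ⁅⁅x, a⁆, b⁆ y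

section

variable {x : G} (h : Hyp A B x)
include h

theorem u_mem {a : G} (ha : a ∈ A) : ⁅x, a⁆ ∈ ⁅B, A⁆ := commutator_mem_commutator h.xB ha

theorem u_memB {a : G} (ha : a ∈ A) : ⁅x, a⁆ ∈ B := comm_le_left h.norm (u_mem h ha)

theorem c_mem {a b : G} (ha : a ∈ A) (hb : b ∈ A) : ⁅⁅x, a⁆, b⁆ ∈ ⁅B, A⁆ :=
  commutator_mem_commutator (u_memB h ha) hb

theorem u_commute {a c : G} (ha : a ∈ A) (hcA : ∀ y ∈ A, Commute c y) (hcB : c ∈ B) :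
    Commute ⁅x, a⁆ c := by
  have ht : ⁅c⁻¹, x⁻¹⁆ ∈ ⁅B, B⁆ := commutator_mem_commutator (inv_mem hcB) (inv_mem h.xB)
  have h1 : a * (x⁻¹ * c * x) * a⁻¹ = x⁻¹ * c * x := by
    have he : x⁻¹ * c * x = c * ⁅c⁻¹, x⁻¹⁆ := by rw [commutatorElement_def]; group
    rw [he, ← ((hcA a ha).mul_left (der_commute h.der ht ha)).eq, mul_inv_cancel_right]
  have h2 : a⁻¹ * c * a = c := by
    rw [← (hcA a⁻¹ (inv_mem ha)).eq, inv_mul_cancel_right]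
  have h3 : ⁅x, a⁆ * c * ⁅x, a⁆⁻¹ = c := by
    rw [show ⁅x, a⁆ * c * ⁅x, a⁆⁻¹ = x * (a * (x⁻¹ * (a⁻¹ * c * a) * x) * a⁻¹) * x⁻¹ by
      rw [commutatorElement_def]; group, h2, h1]
    group
  exact mul_inv_eq_iff_eq_mul.mp h3

theorem u_mul {a b : G} (ha : a ∈ A) (hb : b ∈ A) :
    ⁅x, a * b⁆ = ⁅⁅x, b⁆, a⁆⁻¹ * ⁅x, a⁆ * ⁅x, b⁆ := by
  have hc := u_commute h ha (h.cc b hb a ha) (comm_le_left h.norm (c_mem h hb ha))
  have h1 : ⁅x, a * b⁆ = ⁅x, a⁆ * ⁅⁅x, b⁆, a⁆⁻¹ * ⁅x, b⁆ := by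
    rw [commutatorElement_def ⁅x, b⁆ a, commutatorElement_def, commutatorElement_def,
      commutatorElement_def]
    group
  rw [h1, hc.inv_right.eq]

theorem e_eq {a b : G} (ha : a ∈ A) (hb : b ∈ A) :
    ⁅⁅x, a⁆, ⁅x, b⁆⁆ = ⁅x, ⁅⁅x, a⁆, b⁆⁆ := by
  obtain ⟨u, hu⟩ : ∃ u, ⁅x, a⁆ = u := ⟨_, rfl⟩
  obtain ⟨v, hv⟩ : ∃ v, ⁅x, b⁆ = v := ⟨_, rfl⟩
  obtain ⟨c, hc⟩ : ∃ c, ⁅u, b⁆ = c := ⟨_, rfl⟩
  rw [hu, hv, hc]
  have hcD : c ∈ ⁅B, A⁆ := hc ▸ hu ▸ c_mem h ha hb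
  have hcA : ∀ y ∈ A, Commute c y := hc ▸ hu ▸ h.cc a ha b hb
  have huB : u ∈ B := hu ▸ u_memB h ha
  have hz : ⁅u, x⁆ ∈ ⁅B, B⁆ := commutator_mem_commutator huB h.xB
  have hz' : x⁻¹ * ⁅u, x⁆ * x ∈ ⁅B, B⁆ := by simpa using conj_der (inv_mem h.xB) hz
  have hzW : Commute ⁅u, x⁆ (x * c * b * x⁻¹) := by
    have := ((der_commute_comm h.der hz' hcD).mul_right (der_commute h.der hz' hb)).map
      (MulAut.conj x).toMonoidHom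
    simpa [mul_assoc] using this
  have hvc : Commute v c := hv ▸ u_commute h hb hcA (comm_le_left h.norm hcD)
  have h1 : u * (x * b * x⁻¹) * u⁻¹ = ⁅u, x⁆ * (x * c * b * x⁻¹) * ⁅u, x⁆⁻¹ := by
    rw [← hc, commutatorElement_def u x, commutatorElement_def u b]; group
  rw [hzW.eq, mul_inv_cancel_right] at h1
  have h2 : u * (x * b * x⁻¹) * u⁻¹ = ⁅u, v⁆ * v * c * b := by
    rw [← hv, ← hc, commutatorElement_def u b, commutatorElement_def x b,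
      commutatorElement_def u _]
    group
  have h3 : x * c * b * x⁻¹ = ⁅x, c⁆ * c * v * b := by
    rw [← hv, commutatorElement_def x b, commutatorElement_def x c]; group
  rw [h2, h3, mul_assoc ⁅x, c⁆, ← hvc.eq, ← mul_assoc ⁅x, c⁆] at h1
  exact mul_right_cancel (mul_right_cancel (mul_right_cancel h1))

theorem e_symm {a b : G} (ha : a ∈ A) (hb : b ∈ A) :
    ⁅⁅x, b⁆, a⁆ = ⁅⁅x, a⁆, ⁅x, b⁆⁆ * ⁅⁅x, a⁆, b⁆ ∧
      ⁅⁅x, a⁆, ⁅x, b⁆⁆⁻¹ = ⁅⁅x, a⁆, ⁅x, b⁆⁆ := by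
  obtain ⟨e, he⟩ : ∃ e, ⁅⁅x, a⁆, ⁅x, b⁆⁆ = e := ⟨_, rfl⟩
  rw [he]
  have hcB : ⁅⁅x, a⁆, b⁆ ∈ B := comm_le_left h.norm (c_mem h ha hb)
  have heZ : ∀ y ∈ B, Commute e y := fun y hy =>
    he ▸ central h.norm h.der (u_mem h ha) (u_mem h hb) hy
  have h1 : ⁅⁅x, b⁆, a⁆ = e * ⁅⁅x, a⁆, b⁆ := by
    have h2 : ⁅x, a * b⁆ = ⁅x, b * a⁆ := by rw [h.comm a ha b hb]
    rw [u_mul h ha hb, u_mul h hb ha] at h2
    have h3 : ⁅⁅x, a⁆, b⁆⁻¹ = ⁅⁅x, b⁆, a⁆⁻¹ * e := by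
      rw [← he, commutatorElement_def ⁅x, a⁆ ⁅x, b⁆]
      refine mul_right_cancel (b := ⁅x, b⁆ * ⁅x, a⁆) ?_
      simp only [← mul_assoc, inv_mul_cancel_right]
      exact h2.symm
    calc ⁅⁅x, b⁆, a⁆ = e * (⁅⁅x, b⁆, a⁆⁻¹ * e)⁻¹ := by group
      _ = e * ⁅⁅x, a⁆, b⁆ := by rw [← h3, inv_inv]
  refine ⟨h1, ?_⟩
  have h4 := e_eq h hb ha
  have h5 := e_eq h ha hb
  rw [← commutatorElement_inv, he, h1] at h4
  rw [he] at h5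
  refine h4.trans ?_
  have h6 : Commute e ⁅x, ⁅⁅x, a⁆, b⁆⁆ := by rw [← h5]
  calc ⁅x, e * ⁅⁅x, a⁆, b⁆⁆ = (x * e) * (⁅⁅x, a⁆, b⁆ * x⁻¹ * ⁅⁅x, a⁆, b⁆⁻¹) * e⁻¹ := by
        rw [commutatorElement_def x]; group
    _ = e * ⁅x, ⁅⁅x, a⁆, b⁆⁆ * e⁻¹ := by
        rw [← (heZ x h.xB).eq, commutatorElement_def x]; group
    _ = e := by rw [h6.eq, mul_inv_cancel_right, ← h5]

theorem e_sq {a b : G} (ha : a ∈ A) (hb : b ∈ A) : ⁅⁅x, a⁆, ⁅x, b⁆⁆ ^ 2 = 1 := by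
  rw [pow_two]
  nth_rewrite 1 [← (e_symm h ha hb).2]
  exact inv_mul_cancel _

end

end Cfsg.Agent.GlaubermanClassFree
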