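import Mathlib
import Cfsg.Prelude.Def_PLocal
import Cfsg.Agent.Lib.Offenders

/-! Timmesfeld replacement, supermodularity of `|B| |C_V(B)|`, Thompson replacement. -/

set_option autoImplicit false

namespace Cfsg.Agent.OffendersReplace

open Cfsg
open scoped commutatorElement

variable {G : Type*} [Group G] {p : ℕ}

/-- Fixed points `C_V(B)` inside `G`. -/
def fixedIn (V B : Subgroup G) : Subgroup G := V ⊓ Subgroup.centralizer (B : Set G)

theorem fixedIn_antitone (V : Subgroup G) {B C : Subgroup G} (h : B ≤ C) :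
    fixedIn V C ≤ fixedIn V B :=
  inf_le_inf_left _ (Subgroup.centralizer_le (fun _ hx => h hx))

theorem fixedIn_sup (V B C : Subgroup G) :
    fixedIn V (B ⊔ C) = fixedIn V B ⊓ fixedIn V C := by
  apply le_antisymm
  · exact le_inf (fixedIn_antitone V le_sup_left) (fixedIn_antitone V le_sup_right)
  · rintro x ⟨⟨hxV, hB⟩, _, hC⟩
    refine ⟨hxV, ?_⟩
    have : B ⊔ C ≤ Subgroup.centralizer {x} := by
      refine sup_le ?_ ?_ <;> intro z hz <;> rw [Subgroup.mem_centralizer_singleton_iff]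
      · exact hB z hz
      · exact hC z hz
    intro z hz
    exact Subgroup.mem_centralizer_singleton_iff.1 (this hz)

theorem card_sup_mul_card_inf [Finite G] (B C : Subgroup G)
    (h : B ≤ Subgroup.normalizer (C : Set G)) :
    Nat.card ↥(B ⊔ C) * Nat.card ↥(B ⊓ C) = Nat.card B * Nat.card C := by
  have := Subgroup.normal_subgroupOf_of_le_normalizer h
  have := Subgroup.normal_subgroupOf_sup_of_le_normalizer h
  have e := QuotientGroup.quotientInfEquivProdNormalizerQuotient B C h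
  have h1 : C.relIndex B = C.relIndex (B ⊔ C) := Nat.card_congr e.toEquiv
  have h2 : Nat.card C * C.relIndex (B ⊔ C) = Nat.card ↥(B ⊔ C) := by
    have := Subgroup.card_mul_index (C.subgroupOf (B ⊔ C))
    rwa [Nat.card_congr (Subgroup.subgroupOfEquivOfLe (le_sup_right : C ≤ B ⊔ C)).toEquiv] at this
  have h3 : Nat.card ↥(B ⊓ C) * C.relIndex B = Nat.card B := by
    have := Subgroup.card_mul_index (C.subgroupOf B)
    rwa [show C.subgroupOf B = (B ⊓ C).subgroupOf B from (Subgroup.inf_subgroupOf_left C B).symm,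
      Nat.card_congr (Subgroup.subgroupOfEquivOfLe (inf_le_left : B ⊓ C ≤ B)).toEquiv,
      show ((B ⊓ C).subgroupOf B) = C.subgroupOf B from Subgroup.inf_subgroupOf_left C B] at this
  rw [← h2, ← h3, h1]
  ring

theorem le_normalizer_of_commute {B C : Subgroup G}
    (h : ∀ b ∈ B, ∀ c ∈ C, b * c = c * b) : B ≤ Subgroup.normalizer (C : Set G) := by
  refine Subgroup.le_normalizer_iff.2 fun b hb c hc => ?_
  rw [h b hb c hc, mul_inv_cancel_right]; exact hc

theorem normalizer_of_commutator_le {A B : Subgroup G} (hB : B ≤ A) (h : ⁅A, A⁆ ≤ B) :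
    A ≤ Subgroup.normalizer (B : Set G) := by
  refine Subgroup.le_normalizer_iff.2 fun a ha b hb => ?_
  have h1 := h (Subgroup.commutator_mem_commutator ha (hB hb))
  have h2 := mul_mem h1 hb
  rw [commutatorElement_def] at h2
  group at h2 ⊢
  exact h2

/-- `A` maximises `|B| |C_V(B)|` among its subgroups. -/
def Maximizes (V A : Subgroup G) : Prop :=
  ∀ B : Subgroup G, B ≤ A →
    Nat.card B * Nat.card ↥(fixedIn V B) ≤ Nat.card A * Nat.card ↥(fixedIn V A)

/-- `B` is a subgroup of `A` attaining the maximum. -/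
def Attains (V A B : Subgroup G) : Prop :=
  B ≤ A ∧ Nat.card B * Nat.card ↥(fixedIn V B) = Nat.card A * Nat.card ↥(fixedIn V A)

theorem attains_self (V A : Subgroup G) : Attains V A A := ⟨le_rfl, rfl⟩

theorem fixedIn_kernel_sup (V A B : Subgroup G) :
    fixedIn V (B ⊔ (A ⊓ Subgroup.centralizer (V : Set G))) = fixedIn V B := by
  rw [fixedIn_sup, inf_eq_left]
  exact fun x hx => ⟨hx.1, fun k hk => ((Subgroup.mem_centralizer_iff.1 hk.2) x hx.1).symm⟩

theorem kernel_le_of_attains [Finite G] {V A B : Subgroup G} (hA : Maximizes V A)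
    (hB : Attains V A B) : A ⊓ Subgroup.centralizer (V : Set G) ≤ B := by
  have h := hA _ (sup_le hB.1 (inf_le_left : A ⊓ Subgroup.centralizer (V : Set G) ≤ A))
  rw [fixedIn_kernel_sup, ← hB.2] at h
  have := Subgroup.eq_of_le_of_card_ge (le_sup_left : B ≤ _)
    (Nat.le_of_mul_le_mul_right h Nat.card_pos)
  exact le_sup_right.trans this.ge

/-- Supermodularity: the maximisers are closed under intersection and join. -/
theorem attains_inf [Finite G] {V A B C : Subgroup G}
    (hV : ∀ x ∈ V, ∀ y ∈ V, x * y = y * x)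
    (hab : ⁅A, A⁆ ≤ Subgroup.centralizer (V : Set G)) (hA : Maximizes V A)
    (hB : Attains V A B) (hC : Attains V A C) :
    Attains V A (B ⊓ C) ∧ Attains V A (B ⊔ C) ∧
      fixedIn V (B ⊓ C) = fixedIn V B ⊔ fixedIn V C := by
  have hn : B ≤ Subgroup.normalizer (C : Set G) :=
    hB.1.trans (normalizer_of_commutator_le hC.1
      ((le_inf (Subgroup.commutator_le_self A) hab).trans (kernel_le_of_attains hA hC)))
  have hbc := card_sup_mul_card_inf B C hn
  have hfix := card_sup_mul_card_inf (fixedIn V B) (fixedIn V C)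
    (le_normalizer_of_commute fun x hx y hy => hV x hx.1 y hy.1)
  rw [← fixedIn_sup] at hfix
  have hle : fixedIn V B ⊔ fixedIn V C ≤ fixedIn V (B ⊓ C) :=
    sup_le (fixedIn_antitone V inf_le_left) (fixedIn_antitone V inf_le_right)
  have hcard := Subgroup.card_le_of_le hle
  have h1 := hA (B ⊓ C) (inf_le_left.trans hB.1)
  have h2 := hA (B ⊔ C) (sup_le hB.1 hC.1)
  set m := Nat.card A * Nat.card ↥(fixedIn V A) with hm
  have hmpos : 0 < m := Nat.mul_pos Nat.card_pos Nat.card_pos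
  have h3 : (Nat.card ↥(B ⊓ C) * Nat.card ↥(fixedIn V B ⊔ fixedIn V C)) *
      (Nat.card ↥(B ⊔ C) * Nat.card ↥(fixedIn V (B ⊔ C))) = m * m := by
    have e1 : Nat.card ↥(B ⊓ C) * Nat.card ↥(B ⊔ C) *
        (Nat.card ↥(fixedIn V B ⊔ fixedIn V C) * Nat.card ↥(fixedIn V (B ⊔ C))) =
        Nat.card B * Nat.card C * (Nat.card ↥(fixedIn V B) * Nat.card ↥(fixedIn V C)) := by
      rw [mul_comm (Nat.card ↥(B ⊓ C)), hbc, hfix]
    calc _ = Nat.card ↥(B ⊓ C) * Nat.card ↥(B ⊔ C) *
        (Nat.card ↥(fixedIn V B ⊔ fixedIn V C) * Nat.card ↥(fixedIn V (B ⊔ C))) := by ring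
      _ = _ := e1
      _ = (Nat.card B * Nat.card ↥(fixedIn V B)) * (Nat.card C * Nat.card ↥(fixedIn V C)) := by ring
      _ = m * m := by rw [hB.2, hC.2]
  have h1' : Nat.card ↥(B ⊓ C) * Nat.card ↥(fixedIn V B ⊔ fixedIn V C) ≤ m :=
    (Nat.mul_le_mul_left _ hcard).trans h1
  have hsup : Nat.card ↥(B ⊔ C) * Nat.card ↥(fixedIn V (B ⊔ C)) = m := by
    refine le_antisymm h2 (Nat.le_of_mul_le_mul_left ?_ hmpos)
    rw [← h3]
    exact Nat.mul_le_mul_right _ h1'
  have hinf : Nat.card ↥(B ⊓ C) * Nat.card ↥(fixedIn V B ⊔ fixedIn V C) = m := by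
    rw [hsup] at h3
    exact Nat.eq_of_mul_eq_mul_right hmpos h3
  have hfull : Nat.card ↥(B ⊓ C) * Nat.card ↥(fixedIn V (B ⊓ C)) = m :=
    le_antisymm h1 (hinf ▸ Nat.mul_le_mul_left _ hcard)
  refine ⟨⟨inf_le_left.trans hB.1, hfull⟩, ⟨sup_le hB.1 hC.1, hsup⟩, ?_⟩
  exact (Subgroup.eq_of_le_of_card_ge hle
    (Nat.le_of_mul_le_mul_left (hfull.trans hinf.symm).le Nat.card_pos)).symm

/-- `[u, A]` for a single element `u`. -/
def elemComm (u : G) (A : Subgroup G) : Subgroup G :=
  Subgroup.closure {x | ∃ a ∈ A, x = ⁅u, a⁆}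

theorem elemComm_le {V A : Subgroup G} (hAV : A ≤ Subgroup.normalizer (V : Set G)) {u : G}
    (hu : u ∈ V) : elemComm u A ≤ V := by
  refine (Subgroup.closure_le _).2 ?_
  rintro x ⟨a, ha, rfl⟩
  exact (Subgroup.le_normalizer_iff_commutator_le_left.1 hAV) (Subgroup.commutator_mem_commutator hu ha)

theorem attains_elem [Finite G] {V A : Subgroup G}
    (hV : ∀ x ∈ V, ∀ y ∈ V, x * y = y * x) (hAV : A ≤ Subgroup.normalizer (V : Set G))
    (hab : ⁅A, A⁆ ≤ Subgroup.centralizer (V : Set G)) (hA : Maximizes V A) {u : G} (hu : u ∈ V) :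
    Attains V A (A ⊓ Subgroup.centralizer (elemComm u A : Set G)) ∧
      fixedIn V (A ⊓ Subgroup.centralizer (elemComm u A : Set G)) =
        elemComm u A ⊔ fixedIn V A := by
  set X := elemComm u A with hX
  set Au := A ⊓ Subgroup.centralizer (X : Set G) with hAu
  set C := fixedIn V A with hC
  set W := X ⊔ C with hW
  have hXV : X ≤ V := elemComm_le hAV hu
  have hWfix : W ≤ fixedIn V Au :=
    sup_le (le_inf hXV fun x hx y hy => (hy.2 x hx).symm) (fixedIn_antitone V inf_le_left)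
  have conjV : ∀ a ∈ A, ∀ v ∈ V, a * v * a⁻¹ ∈ V := fun a ha v hv =>
    (Subgroup.mem_normalizer_iff.1 (hAV ha) v).1 hv
  have comm_act : ∀ a ∈ A, ∀ c ∈ A, ∀ v ∈ V,
      a * (c * v * c⁻¹) * a⁻¹ = c * (a * v * a⁻¹) * c⁻¹ := by
    intro a ha c hc v hv
    have h := hab (Subgroup.commutator_mem_commutator ha hc) (c * (a * v * a⁻¹) * c⁻¹)
      (conjV c hc _ (conjV a ha v hv))
    rw [commutatorElement_def] at h
    calc a * (c * v * c⁻¹) * a⁻¹
        = (a * c * a⁻¹ * c⁻¹) * (c * (a * v * a⁻¹) * c⁻¹) * (a * c * a⁻¹ * c⁻¹)⁻¹ := by group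
      _ = c * (a * v * a⁻¹) * c⁻¹ := by rw [← h, mul_inv_cancel_right]
  have key : ∀ a ∈ A, ∀ b ∈ A, ⁅u, a⁆⁻¹ * ⁅u, b⁆ ∈ C → a⁻¹ * b ∈ Au := by
    intro a ha b hb hz
    refine ⟨A.mul_mem (A.inv_mem ha) hb, ?_⟩
    have hcl : X ≤ Subgroup.centralizer {a⁻¹ * b} := by
      refine (Subgroup.closure_le _).2 ?_
      rintro _ ⟨c, hc, rfl⟩
      rw [SetLike.mem_coe, Subgroup.mem_centralizer_singleton_iff]
      set z := ⁅u, a⁆⁻¹ * ⁅u, b⁆ with hzd
      have hz' : z = (a * u * a⁻¹) * (b * u * b⁻¹)⁻¹ := by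
        rw [hzd, commutatorElement_def, commutatorElement_def]; group
      have hw : ⁅u, c⁆ = u * (c * u * c⁻¹)⁻¹ := by rw [commutatorElement_def]; group
      have hzc : c * z * c⁻¹ = z := by
        have := (Subgroup.mem_centralizer_iff.1 hz.2) c hc
        rw [this, mul_inv_cancel_right]
      have heq : a * ⁅u, c⁆ * a⁻¹ = b * ⁅u, c⁆ * b⁻¹ := by
        have e1 : a * ⁅u, c⁆ * a⁻¹ = (a * u * a⁻¹) * (c * (a * u * a⁻¹) * c⁻¹)⁻¹ := by
          rw [← comm_act a ha c hc u hu, hw]; group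
        have e2 : b * ⁅u, c⁆ * b⁻¹ = (b * u * b⁻¹) * (c * (b * u * b⁻¹) * c⁻¹)⁻¹ := by
          rw [← comm_act b hb c hc u hu, hw]; group
        have ea : a * u * a⁻¹ = z * (b * u * b⁻¹) := by rw [hz', inv_mul_cancel_right]
        have hy := conjV b hb u hu
        rw [e1, e2, ea]
        generalize b * u * b⁻¹ = y at hy
        have hy' := conjV c hc y hy
        rw [show c * (z * y) * c⁻¹ = (c * z * c⁻¹) * (c * y * c⁻¹) by group, hzc]
        generalize c * y * c⁻¹ = y' at hy'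
        have h1 : z * (y * y'⁻¹) = (y * y'⁻¹) * z :=
          hV z hz.1 _ (mul_mem hy (inv_mem hy'))
        calc z * y * (z * y')⁻¹ = z * (y * y'⁻¹) * z⁻¹ := by group
          _ = y * y'⁻¹ := by rw [h1, mul_inv_cancel_right]
      generalize ⁅u, c⁆ = w at heq ⊢
      have e := congrArg (fun t => a⁻¹ * t * b) heq
      group at e ⊢
      exact e
    exact fun x hx => (Subgroup.mem_centralizer_singleton_iff.1 (hcl hx))
  let φ : A → ↥W ⧸ C.subgroupOf W := fun a =>
    QuotientGroup.mk (⟨⁅u, (a : G)⁆, le_sup_left (α := Subgroup G)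
      (Subgroup.subset_closure ⟨a, a.2, rfl⟩)⟩ : W)
  have hφ : ∀ a b : A, φ a = φ b → (a : A ⧸ Au.subgroupOf A) = b := by
    intro a b hab'
    rw [QuotientGroup.eq]
    exact key a a.2 b b.2 ((QuotientGroup.eq (s := C.subgroupOf W)).1 hab')
  have hcard : Au.relIndex A ≤ C.relIndex W := by
    refine Nat.card_le_card_of_injective (fun q => φ q.out) fun q q' h => ?_
    have := hφ _ _ h
    rwa [QuotientGroup.out_eq', QuotientGroup.out_eq'] at this
  have eA : Nat.card A = Nat.card Au * Au.relIndex A := by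
    have := Subgroup.card_mul_index (Au.subgroupOf A)
    rwa [Nat.card_congr (Subgroup.subgroupOfEquivOfLe (inf_le_left : Au ≤ A)).toEquiv, eq_comm]
      at this
  have eW : Nat.card W = Nat.card C * C.relIndex W := by
    have := Subgroup.card_mul_index (C.subgroupOf W)
    rwa [Nat.card_congr (Subgroup.subgroupOfEquivOfLe (le_sup_right : C ≤ W)).toEquiv, eq_comm]
      at this
  have h1 : Nat.card A * Nat.card C ≤ Nat.card Au * Nat.card W := by
    rw [eA, eW]
    calc Nat.card Au * Au.relIndex A * Nat.card C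
        ≤ Nat.card Au * C.relIndex W * Nat.card C :=
          Nat.mul_le_mul_right _ (Nat.mul_le_mul_left _ hcard)
      _ = Nat.card Au * (Nat.card C * C.relIndex W) := by ring
  have h2 : Nat.card Au * Nat.card W ≤ Nat.card Au * Nat.card ↥(fixedIn V Au) :=
    Nat.mul_le_mul_left _ (Subgroup.card_le_of_le hWfix)
  have h3 := hA Au inf_le_left
  refine ⟨⟨inf_le_left, le_antisymm h3 (h1.trans h2)⟩, ?_⟩
  exact (Subgroup.eq_of_le_of_card_ge hWfix
    (Nat.le_of_mul_le_mul_left (h3.trans h1) Nat.card_pos)).symm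

theorem centralizer_sup (X Y : Subgroup G) :
    Subgroup.centralizer ((X ⊔ Y : Subgroup G) : Set G) =
      Subgroup.centralizer (X : Set G) ⊓ Subgroup.centralizer (Y : Set G) := by
  refine le_antisymm (le_inf (Subgroup.centralizer_le fun _ h => le_sup_left (α := Subgroup G) h)
    (Subgroup.centralizer_le fun _ h => le_sup_right (α := Subgroup G) h)) ?_
  rw [Subgroup.le_centralizer_iff]
  exact sup_le (Subgroup.le_centralizer_iff.1 inf_le_left)
    (Subgroup.le_centralizer_iff.1 inf_le_right)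

/-- Timmesfeld replacement. -/
theorem attains_commutator [Finite G] {V A U : Subgroup G}
    (hV : ∀ x ∈ V, ∀ y ∈ V, x * y = y * x) (hAV : A ≤ Subgroup.normalizer (V : Set G))
    (hab : ⁅A, A⁆ ≤ Subgroup.centralizer (V : Set G)) (hA : Maximizes V A) (hU : U ≤ V) :
    Attains V A (A ⊓ Subgroup.centralizer ((⁅U, A⁆ : Subgroup G) : Set G)) ∧
      fixedIn V (A ⊓ Subgroup.centralizer ((⁅U, A⁆ : Subgroup G) : Set G)) =
        ⁅U, A⁆ ⊔ fixedIn V A := by
  classical
  haveI : Fintype G := Fintype.ofFinite G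
  have key : ∀ s : Finset G, (∀ u ∈ s, u ∈ U) →
      Attains V A (A ⊓ Subgroup.centralizer ((s.sup fun u => elemComm u A : Subgroup G) : Set G)) ∧
        fixedIn V (A ⊓ Subgroup.centralizer
          ((s.sup fun u => elemComm u A : Subgroup G) : Set G)) =
          (s.sup fun u => elemComm u A) ⊔ fixedIn V A := by
    intro s
    induction s using Finset.induction_on with
    | empty =>
      intro _
      have h : A ⊓ Subgroup.centralizer (((⊥ : Subgroup G)) : Set G) = A := by
        refine inf_eq_left.2 fun a _ z hz => ?_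
        rw [(Subgroup.mem_bot.1 hz), one_mul, mul_one]
      rw [Finset.sup_empty, h, bot_sup_eq]
      exact ⟨attains_self V A, rfl⟩
    | insert u s _ ih =>
      intro hs
      obtain ⟨h1, h1'⟩ := ih fun x hx => hs x (Finset.mem_insert_of_mem hx)
      obtain ⟨h2, h2'⟩ := attains_elem hV hAV hab hA (hU (hs u (Finset.mem_insert_self u s)))
      obtain ⟨h3, -, h3'⟩ := attains_inf hV hab hA h2 h1
      rw [h1', h2', sup_sup_sup_comm, sup_idem] at h3'
      rw [Finset.sup_insert, centralizer_sup,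
        inf_inf_distrib_left]
      exact ⟨h3, h3'⟩
  have hs : ((Finset.univ.filter fun u => u ∈ U).sup fun u => elemComm u A) = ⁅U, A⁆ := by
    apply le_antisymm
    · refine Finset.sup_le fun u hu => (Subgroup.closure_le _).2 ?_
      rintro _ ⟨a, ha, rfl⟩
      exact Subgroup.commutator_mem_commutator (Finset.mem_filter.1 hu).2 ha
    · rw [Subgroup.commutator_le]
      intro u hu a ha
      exact Finset.le_sup (f := fun u => elemComm u A)
        (Finset.mem_filter.2 ⟨Finset.mem_univ u, hu⟩) (Subgroup.subset_closure ⟨a, ha, rfl⟩)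
  have := key (Finset.univ.filter fun u => u ∈ U) fun u hu => (Finset.mem_filter.1 hu).2
  rwa [hs] at this

/-- A group acting as a finite `p`-group on a `p`-group stabilises no nontrivial `M ≤ [M, A]`. -/
theorem eq_bot_of_le_commutator [Finite G] [hp : Fact p.Prime] {V A M : Subgroup G}
    (hVp : IsPGroup p V) (hAV : A ≤ Subgroup.normalizer (V : Set G))
    (hAp : ∀ a ∈ A, ∃ k : ℕ, a ^ (p ^ k) ∈ Subgroup.centralizer (V : Set G))
    (hMV : M ≤ V) (hM : M ≤ ⁅M, A⁆) : M = ⊥ := by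
  let θ : A →* MulAut V := V.normalizerMonoidHom.comp (Subgroup.inclusion hAV)
  let P := θ.range
  have hP : IsPGroup p P := by
    rintro ⟨_, a, rfl⟩
    obtain ⟨k, hk⟩ := hAp a a.2
    refine ⟨k, Subtype.ext ?_⟩
    rw [SubmonoidClass.coe_pow]
    show (θ a) ^ (p ^ k) = 1
    rw [← map_pow]
    refine MulEquiv.ext fun v => Subtype.ext ?_
    show ((a ^ (p ^ k) : A) : G) * v * ((a ^ (p ^ k) : A) : G)⁻¹ = v
    rw [SubmonoidClass.coe_pow]
    rw [← hk v v.2, mul_inv_cancel_right]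
  let S := SemidirectProduct V P P.subtype
  haveI : Finite S := Finite.of_equiv _ SemidirectProduct.equivProd.symm
  have hS : IsPGroup p S := by
    obtain ⟨i, hi⟩ := hVp.exists_card_eq
    obtain ⟨j, hj⟩ := hP.exists_card_eq
    refine IsPGroup.of_card (n := i + j) ?_
    rw [Nat.card_congr SemidirectProduct.equivProd, Nat.card_prod, hi, hj, pow_add]
  let inl : V →* S := SemidirectProduct.inl
  let M' : Subgroup S := (M.subgroupOf V).map inl
  have hM' : M' ≤ ⁅M', (⊤ : Subgroup S)⁆ := by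
    have : M ≤ ((⁅M', (⊤ : Subgroup S)⁆).comap inl).map V.subtype := by
      refine hM.trans ?_
      rw [Subgroup.commutator_le]
      intro m hm a ha
      refine ⟨⟨⁅m, a⁆, Subgroup.le_normalizer_iff_commutator_le_left.1 hAV
        (Subgroup.commutator_mem_commutator (hMV hm) ha)⟩, ?_, rfl⟩
      have e : inl ⟨⁅m, a⁆, Subgroup.le_normalizer_iff_commutator_le_left.1 hAV
          (Subgroup.commutator_mem_commutator (hMV hm) ha)⟩ =
          ⁅inl ⟨m, hMV hm⟩, (SemidirectProduct.inr ⟨θ ⟨a, ha⟩, ⟨a, ha⟩, rfl⟩ : S)⁆ := by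
        have e' : (⟨⁅m, a⁆, Subgroup.le_normalizer_iff_commutator_le_left.1 hAV
          (Subgroup.commutator_mem_commutator (hMV hm) ha)⟩ : V) =
            ⟨m, hMV hm⟩ * θ ⟨a, ha⟩ (⟨m, hMV hm⟩⁻¹ : V) := by
          refine Subtype.ext ?_
          show ⁅m, a⁆ = m * (a * m⁻¹ * a⁻¹)
          rw [commutatorElement_def]; group
        rw [e', map_mul, commutatorElement_def]
        show inl _ * SemidirectProduct.inl ((P.subtype ⟨θ ⟨a, ha⟩, ⟨a, ha⟩, rfl⟩) _) = _
        rw [SemidirectProduct.inl_aut, map_inv, map_inv]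
        simp only [inl]
        group
      rw [SetLike.mem_coe, Subgroup.mem_comap, e]
      exact Subgroup.commutator_mem_commutator ⟨⟨m, hMV hm⟩, hm, rfl⟩ trivial
    rintro _ ⟨v, hv, rfl⟩
    obtain ⟨w, hw, hwv⟩ := this hv
    rwa [← Subtype.ext hwv]
  obtain ⟨n, hn⟩ := (Subgroup.isNilpotent_iff_lowerCentralSeries (⊤ : Subgroup S)).1
    (hS.to_subgroup (⊤ : Subgroup S)).isNilpotent
  have hi : ∀ i, M' ≤ (⊤ : Subgroup S).lowerCentralSeries i := by
    intro i
    induction i with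
    | zero => exact le_top
    | succ i ih => exact hM'.trans (Subgroup.commutator_mono ih le_rfl)
  have hbot : M' = ⊥ := le_bot_iff.1 (hn ▸ hi n)
  rw [eq_bot_iff]
  intro m hm
  have : inl ⟨m, hMV hm⟩ ∈ M' := ⟨_, hm, rfl⟩
  rw [hbot, Subgroup.mem_bot] at this
  have h2 := congrArg Subtype.val (SemidirectProduct.inl_injective
    (this.trans (map_one inl).symm))
  simpa using h2

theorem fixedIn_eq_inf [Finite G] {V A : Subgroup G} (hV : IsElementaryAbelian p V)
    (hA : A ∈ maxElementaryAbelianSubgroups p G) : fixedIn V A = V ⊓ A := by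
  refine le_antisymm (fun x hx => ⟨hx.1, Offenders.mem_max_of_commute hA (hV.2 x hx.1) hx.2⟩) ?_
  exact fun x hx => ⟨hx.1, fun a ha => (Offenders.ea_iff A).1 hA.1 |>.1 a ha x hx.2⟩

theorem ea_sup_fixedIn {V B : Subgroup G} (hV : IsElementaryAbelian p V)
    (hB : IsElementaryAbelian p B) : IsElementaryAbelian p (B ⊔ fixedIn V B) :=
  Offenders.ea_sup hB (Offenders.ea_mono hV inf_le_left) fun b hb v hv => hv.2 b hb

theorem max_bestOffender [Finite G] {V A : Subgroup G} (hV : IsElementaryAbelian p V)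
    (hA : A ∈ maxElementaryAbelianSubgroups p G) : IsBestOffenderOn p V A := by
  refine ⟨fun B hB => ?_, ?_, fun a ha => ?_⟩
  · show _ * Nat.card ↥(fixedIn V B) ≤ _ * Nat.card ↥(fixedIn V A)
    have hBe := Offenders.ea_mono hA.1 hB
    have hc : B ≤ Subgroup.normalizer (fixedIn V B : Set G) :=
      le_normalizer_of_commute fun b hb v hv => hv.2 b hb
    rw [← card_sup_mul_card_inf B (fixedIn V B) hc]
    refine Nat.mul_le_mul (hA.2 _ (ea_sup_fixedIn hV hBe)) (Subgroup.card_le_of_le ?_)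
    rw [fixedIn_eq_inf hV hA]
    exact le_inf (inf_le_right.trans inf_le_left) (inf_le_left.trans hB)
  · rw [Subgroup.commutator_le]
    intro a ha b hb
    rw [commutatorElement_eq_one_iff_mul_comm.2 ((Offenders.ea_iff A).1 hA.1 |>.1 a ha b hb)]
    exact one_mem _
  · rw [hA.1.2 a ha]; exact one_mem _

/-- Thompson replacement: `[V,A] C_A([V,A])`. -/
theorem replacement [Finite G] [Fact p.Prime] {V A : Subgroup G} (hV : IsElementaryAbelian p V)
    (hAV : A ≤ Subgroup.normalizer (V : Set G)) (hA : A ∈ maxElementaryAbelianSubgroups p G) :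
    (⁅V, A⁆ ⊔ (A ⊓ Subgroup.centralizer ((⁅V, A⁆ : Subgroup G) : Set G))) ∈
        maxElementaryAbelianSubgroups p G ∧
      ⁅⁅V, ⁅V, A⁆ ⊔ (A ⊓ Subgroup.centralizer ((⁅V, A⁆ : Subgroup G) : Set G))⁆,
        ⁅V, A⁆ ⊔ (A ⊓ Subgroup.centralizer ((⁅V, A⁆ : Subgroup G) : Set G))⁆ = ⊥ ∧
      (⁅V, A⁆ ≠ ⊥ →
        ⁅V, ⁅V, A⁆ ⊔ (A ⊓ Subgroup.centralizer ((⁅V, A⁆ : Subgroup G) : Set G))⁆ ≠ ⊥) := by
  have hVc := ((Offenders.ea_iff V).1 hV).1
  obtain ⟨hmax, hab, hpow⟩ := max_bestOffender hV hA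
  obtain ⟨hatt, hfix⟩ := attains_commutator hVc hAV hab hmax le_rfl
  set B := A ⊓ Subgroup.centralizer ((⁅V, A⁆ : Subgroup G) : Set G) with hB
  set X := ⁅V, A⁆ with hX
  have hXV : X ≤ V := Subgroup.le_normalizer_iff_commutator_le_left.1 hAV
  have hBA : B ≤ A := inf_le_left
  have hBea := Offenders.ea_mono hA.1 hBA
  have hVA : V ⊓ A ≤ B := le_inf inf_le_right fun v hv x hx => hVc x (hXV hx) v hv.1
  have hsup : B ⊔ fixedIn V B = X ⊔ B := by
    rw [hfix, fixedIn_eq_inf hV hA, sup_left_comm, sup_eq_left.2 hVA]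
  have hcard : Nat.card A ≤ Nat.card ↥(X ⊔ B) := by
    have h := card_sup_mul_card_inf B (fixedIn V B)
      (le_normalizer_of_commute fun b hb v hv => hv.2 b hb)
    rw [hsup] at h
    have h2 : Nat.card ↥(B ⊓ fixedIn V B) ≤ Nat.card ↥(fixedIn V A) := by
      rw [fixedIn_eq_inf hV hA]
      exact Subgroup.card_le_of_le (le_inf (inf_le_right.trans inf_le_left)
        (inf_le_left.trans hBA))
    have h3 : Nat.card A * Nat.card ↥(fixedIn V A) ≤
        Nat.card ↥(X ⊔ B) * Nat.card ↥(fixedIn V A) := by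
      rw [← hatt.2, ← h]
      exact Nat.mul_le_mul_left _ h2
    exact Nat.le_of_mul_le_mul_right h3 Nat.card_pos
  refine ⟨Offenders.max_of_card_le hA (hsup ▸ ea_sup_fixedIn hV hBea) hcard, ?_, ?_⟩
  · have h1 : ⁅V, X ⊔ B⁆ ≤ X := by
      rw [Subgroup.commutator_le]
      intro v hv
      have hsub : X ⊔ B ≤ X ⊔ B ⊓ A := by rw [inf_eq_left.2 hBA]
      intro w hw
      have hn : B ≤ Subgroup.normalizer (X : Set G) :=
        le_normalizer_of_commute fun b hb x hx => (hb.2 x hx).symm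
      rw [sup_comm] at hw
      rw [← SetLike.mem_coe, Subgroup.coe_mul_of_left_le_normalizer_right _ _ hn] at hw
      obtain ⟨b, hb, x, hx, rfl⟩ := hw
      have e : ⁅v, b * x⁆ = ⁅v, b⁆ * (b * ⁅v, x⁆ * b⁻¹) := by
        simp only [commutatorElement_def]; group
      rw [e, commutatorElement_eq_one_iff_mul_comm.2 (hVc v hv x (hXV hx)), mul_one,
        mul_inv_cancel, mul_one]
      exact Subgroup.commutator_mem_commutator hv (hBA hb)
    rw [eq_bot_iff]
    refine (Subgroup.commutator_mono h1 le_rfl).trans ?_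
    rw [← eq_bot_iff, Subgroup.commutator_eq_bot_iff_le_centralizer, Subgroup.le_centralizer_iff]
    exact sup_le (fun x hx y hy => hVc y (hXV hy) x (hXV hx)) inf_le_right
  · intro hne h0
    apply hne
    have hBV : B ≤ Subgroup.centralizer (V : Set G) :=
      Subgroup.le_centralizer_iff.1 (Subgroup.commutator_eq_bot_iff_le_centralizer.1
        (le_bot_iff.1 ((Subgroup.commutator_mono le_rfl le_sup_right).trans h0.le)))
    have hV' : V ≤ X ⊔ fixedIn V A :=
      hfix ▸ le_inf le_rfl (Subgroup.le_centralizer_iff.1 hBV)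
    refine eq_bot_of_le_commutator (Offenders.ea_isPGroup hV) hAV
      (fun a ha => ⟨1, by rw [pow_one]; exact hpow a ha⟩) hXV ?_
    rw [hX, Subgroup.commutator_le]
    intro v hv a ha
    have hn : X ≤ Subgroup.normalizer (fixedIn V A : Set G) :=
      le_normalizer_of_commute fun x hx y hy => hVc x (hXV hx) y hy.1
    have hv' := hV' hv
    rw [← SetLike.mem_coe, Subgroup.coe_mul_of_left_le_normalizer_right _ _ hn] at hv'
    obtain ⟨x, hx, c, hc, rfl⟩ := hv'
    have e : ⁅x * c, a⁆ = x * ⁅c, a⁆ * x⁻¹ * ⁅x, a⁆ := by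
      simp only [commutatorElement_def]; group
    rw [e, commutatorElement_eq_one_iff_mul_comm.2 (hc.2 a ha).symm, mul_one, mul_inv_cancel,
      one_mul]
    exact Subgroup.commutator_mem_commutator hx ha

end Cfsg.Agent.OffendersReplace
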