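import Mathlib
import Cfsg.Prelude.Def_PLocal
import Cfsg.Agent.Lib.OmegaCoprime
import Cfsg.Agent.Lib.OffendersReplace
import Cfsg.Agent.Lib.GlaubermanClassFree

/-! Glauberman's replacement theorem, for odd `p` (the data and counting step also cover
an abelian `B`, and need no bound on the class of `B`). -/

set_option autoImplicit false

namespace Cfsg.Agent.GlaubermanReplace

open Subgroup
open scoped commutatorElement

variable {G : Type*} [Group G]

/-- The standing data of the replacement construction. -/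
structure Data (A B : Subgroup G) (x : G) : Prop where
  comm : ∀ a ∈ A, ∀ b ∈ A, a * b = b * a
  derA : ⁅B, B⁆ ≤ A
  norm : A ≤ normalizer (B : Set G)
  xB : x ∈ B
  xnA : x ∉ normalizer (A : Set G)
  u_norm : ∀ a ∈ A, ⁅x, a⁆ ∈ normalizer (A : Set G)

section

variable {A B : Subgroup G} {x : G} (h : Data A B x)
include h

theorem der_commA {t a : G} (ht : t ∈ ⁅B, B⁆) (ha : a ∈ A) : Commute t a :=
  h.comm t (h.derA ht) a ha

theorem conjB {a y : G} (ha : a ∈ A) (hy : y ∈ B) : a * y * a⁻¹ ∈ B :=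
  (mem_normalizer_iff.mp (h.norm ha) y).mp hy

theorem u_memB {a : G} (ha : a ∈ A) : ⁅x, a⁆ ∈ B := by
  rw [commutatorElement_def, mul_assoc x a, mul_assoc]
  exact mul_mem h.xB (conjB h ha (inv_mem h.xB))

theorem u_commute {a c : G} (ha : a ∈ A) (hcA : c ∈ A) (hcB : c ∈ B) :
    Commute ⁅x, a⁆ c := by
  have ht : ⁅c⁻¹, x⁻¹⁆ ∈ ⁅B, B⁆ := commutator_mem_commutator (inv_mem hcB) (inv_mem h.xB)
  have h1 : a * (x⁻¹ * c * x) * a⁻¹ = x⁻¹ * c * x := by
    have he : x⁻¹ * c * x = c * ⁅c⁻¹, x⁻¹⁆ := by rw [commutatorElement_def]; group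
    rw [he, show a * (c * ⁅c⁻¹, x⁻¹⁆) = (c * ⁅c⁻¹, x⁻¹⁆) * a from
      h.comm a ha _ (mul_mem hcA (h.derA ht)), mul_inv_cancel_right]
  have h2 : a⁻¹ * c * a = c := by
    rw [h.comm _ (inv_mem ha) c hcA, inv_mul_cancel_right]
  have h3 : ⁅x, a⁆ * c * ⁅x, a⁆⁻¹ = c := by
    rw [show ⁅x, a⁆ * c * ⁅x, a⁆⁻¹ = x * (a * (x⁻¹ * (a⁻¹ * c * a) * x) * a⁻¹) * x⁻¹ by
      rw [commutatorElement_def]; group, h2, h1]
    group
  exact mul_inv_eq_iff_eq_mul.mp h3

theorem c_mem {a b : G} (ha : a ∈ A) (hb : b ∈ A) : ⁅⁅x, a⁆, b⁆ ∈ A ⊓ B := by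
  refine mem_inf.mpr ⟨?_, ?_⟩
  · rw [commutatorElement_def ⁅x, a⁆ b]
    exact mul_mem ((mem_normalizer_iff.mp (h.u_norm a ha) b).mp hb) (inv_mem hb)
  · rw [show ⁅⁅x, a⁆, b⁆ = ⁅x, a⁆ * (b * ⁅x, a⁆⁻¹ * b⁻¹) by
      rw [commutatorElement_def ⁅x, a⁆ b]; group]
    exact mul_mem (u_memB h ha) (conjB h hb (inv_mem (u_memB h ha)))

theorem u_mul {a b : G} (ha : a ∈ A) (hb : b ∈ A) :
    ⁅x, a * b⁆ = ⁅⁅x, b⁆, a⁆⁻¹ * ⁅x, a⁆ * ⁅x, b⁆ := by
  have hd := c_mem h hb ha
  have hc := u_commute h ha hd.1 hd.2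
  have h1 : ⁅x, a * b⁆ = ⁅x, a⁆ * ⁅⁅x, b⁆, a⁆⁻¹ * ⁅x, b⁆ := by
    rw [commutatorElement_def ⁅x, b⁆ a, commutatorElement_def, commutatorElement_def,
      commutatorElement_def]
    group
  rw [h1, hc.inv_right.eq]

theorem toHyp : Cfsg.Agent.GlaubermanClassFree.Hyp A B x where
  comm := h.comm
  norm := h.norm
  der := le_bot_iff.mp ((commutator_le).mpr fun t ht a ha =>
    mem_bot.mpr (commutatorElement_eq_one_iff_commute.mpr (der_commA h ht ha)))
  xB := h.xB
  cc := fun a ha b hb y hy => h.comm _ (c_mem h ha hb).1 y hy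

theorem commute_u [Finite G] {p : ℕ} [hp : Fact p.Prime] (hp2 : p ≠ 2 ∨ IsMulCommutative B)
    (hB : IsPGroup p B) {a b : G} (ha : a ∈ A) (hb : b ∈ A) :
    Commute ⁅x, a⁆ ⁅x, b⁆ ∧ ⁅⁅x, b⁆, a⁆ = ⁅⁅x, a⁆, b⁆ := by
  obtain ⟨e, he⟩ : ∃ e, ⁅⁅x, a⁆, ⁅x, b⁆⁆ = e := ⟨_, rfl⟩
  have heB : e ∈ ⁅B, B⁆ := he ▸ commutator_mem_commutator (u_memB h ha) (u_memB h hb)
  obtain ⟨h1, hsym⟩ := Cfsg.Agent.GlaubermanClassFree.e_symm (toHyp h) ha hb
  rw [he] at h1 hsym
  have he1 : e = 1 := by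
    rcases hp2 with hp2 | hBc
    · obtain ⟨k, hk⟩ := IsPGroup.iff_orderOf.mp hB ⟨e, commutator_le_self B heB⟩
      rw [orderOf_mk] at hk
      have hodd : Odd (orderOf e) := hk ▸ (hp.out.odd_of_ne_two hp2).pow
      have h2 : orderOf e ∣ 2 := orderOf_dvd_of_pow_eq_one (by
        rw [pow_two]
        nth_rewrite 1 [← hsym]
        exact inv_mul_cancel e)
      rcases (Nat.dvd_prime Nat.prime_two).mp h2 with h3 | h3
      · exact orderOf_eq_one_iff.mp h3
      · rw [h3] at hodd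
        exact absurd hodd (by decide)
    · rw [← he, commutatorElement_eq_one_iff_commute]
      exact congrArg Subtype.val
        (hBc.is_comm.comm (⟨_, u_memB h ha⟩ : B) ⟨_, u_memB h hb⟩)
  subst he1
  exact ⟨commutatorElement_eq_one_iff_commute.mp he, by rw [h1, one_mul]⟩

theorem u_pow_eq_one {a : G} (ha : a ∈ A) {n : ℕ} (hn : Odd n) (hA : ∀ y ∈ A, y ^ n = 1) :
    ⁅x, a⁆ ^ n = 1 := by
  obtain ⟨u, hu⟩ : ∃ u, ⁅x, a⁆ = u := ⟨_, rfl⟩
  have huB : u ∈ B := hu ▸ u_memB h ha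
  have hz : a⁻¹ * u⁻¹ * a * u ∈ A ⊓ B := by
    refine mem_inf.mpr ⟨?_, ?_⟩
    · rw [show a⁻¹ * u⁻¹ * a * u = a⁻¹ * (u⁻¹ * a * u⁻¹⁻¹) by group]
      exact mul_mem (inv_mem ha)
        ((mem_normalizer_iff.mp (inv_mem (hu ▸ h.u_norm a ha)) a).mp ha)
    · refine mul_mem ?_ huB
      simpa using conjB h (inv_mem ha) (inv_mem huB)
  have hzu : Commute (a⁻¹ * u⁻¹ * a * u) u := (hu ▸ u_commute h ha hz.1 hz.2).symm
  have h1 := Cfsg.Agent.OmegaCoprime.mul_pow_class_two (x := u) (y := a)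
    (z := a⁻¹ * u⁻¹ * a * u) (by group) hzu (h.comm _ hz.1 a ha) n
  have h2 : n.choose 2 = n * ((n - 1) / 2) := by
    obtain ⟨m, rfl⟩ := hn
    rw [Nat.choose_two_right, Nat.mul_div_assoc _ (by simp)]
  rw [show u * a = x * a * x⁻¹ by rw [← hu, commutatorElement_def]; group, conj_pow, hA a ha,
    h2, pow_mul, hA _ hz.1] at h1
  rw [hu]
  simpa using h1.symm

/-- The counting step, relative to a subgroup `A₀` of `A`. -/
theorem exists_image [Finite G] {p : ℕ} [Fact p.Prime] (hp2 : p ≠ 2 ∨ IsMulCommutative B)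
    (hB : IsPGroup p B)
    {A0 : Subgroup G} (hA0 : A0 ≤ A)
    (hMA : closure ((fun a => ⁅x, a⁆) '' (A0 : Set G)) ⊓ A ≤ A0) :
    ∃ R : Subgroup G, (∀ a ∈ R, ∀ b ∈ R, a * b = b * a) ∧ Nat.card R = Nat.card A0 ∧
      R = closure ((fun a => ⁅x, a⁆) '' (A0 : Set G) ∪ {a | a ∈ A0 ∧ ⁅x, a⁆ ∈ A}) := by
  set S := (fun a => ⁅x, a⁆) '' (A0 : Set G) with hS
  set M := closure S with hM
  have hSc : ∀ s ∈ S, ∀ t ∈ S, s * t = t * s := by
    rintro _ ⟨a, ha, rfl⟩ _ ⟨b, hb, rfl⟩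
    exact (commute_u h hp2 hB (hA0 ha) (hA0 hb)).1
  have hMc : ∀ s ∈ M, ∀ t ∈ M, s * t = t * s := by
    have h1 : S ⊆ centralizer S := fun s hs t ht => hSc t ht s hs
    have h2 : M ≤ centralizer S := (closure_le _).mpr h1
    have h3 : M ≤ centralizer (M : Set G) := by
      rw [le_centralizer_iff, hM, closure_le]
      exact fun s hs => mem_centralizer_iff.mpr fun t ht =>
        (mem_centralizer_iff.mp (h2 ht) s hs).symm
    exact fun s hs t ht => (mem_centralizer_iff.mp (h3 hs) t ht).symm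
  haveI hN : (A.subgroupOf M).Normal := ⟨fun n hn g => by
    have : g * n = n * g := Subtype.ext (hMc g g.2 n n.2)
    rwa [this, mul_inv_cancel_right]⟩
  have humem : ∀ a : A0, ⁅x, (a : G)⁆ ∈ M := fun a => subset_closure ⟨a, a.2, rfl⟩
  let φ : A0 →* M ⧸ A.subgroupOf M :=
    MonoidHom.mk' (fun a => QuotientGroup.mk' _ ⟨⁅x, (a : G)⁆, humem a⟩) fun a b => by
      rw [← map_mul, QuotientGroup.mk'_eq_mk']
      refine ⟨⟨(⁅x, ((a * b : A0) : G)⁆)⁻¹ * (⁅x, (a : G)⁆ * ⁅x, (b : G)⁆),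
        mul_mem (inv_mem (humem _)) (mul_mem (humem a) (humem b))⟩, ?_, ?_⟩
      · rw [mem_subgroupOf]
        have hd := (c_mem h (hA0 b.2) (hA0 a.2)).1
        have hd' := c_mem h (hA0 b.2) (hA0 a.2)
        have h2 : Commute (⁅x, (a : G)⁆ * ⁅x, (b : G)⁆) ⁅⁅x, (b : G)⁆, (a : G)⁆ :=
          (u_commute h (hA0 a.2) hd'.1 hd'.2).mul_left (u_commute h (hA0 b.2) hd'.1 hd'.2)
        change (⁅x, (a : G) * b⁆)⁻¹ * (⁅x, (a : G)⁆ * ⁅x, (b : G)⁆) ∈ A
        rw [u_mul h (hA0 a.2) (hA0 b.2), mul_assoc, mul_inv_rev, inv_inv, mul_assoc,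
          ← h2.eq, inv_mul_cancel_left]
        exact hd
      · exact Subtype.ext (mul_inv_cancel_left _ _)
  have hsurj : Function.Surjective φ := by
    intro q
    obtain ⟨⟨m, hm⟩, rfl⟩ := QuotientGroup.mk'_surjective _ q
    change QuotientGroup.mk' _ (⟨m, hm⟩ : M) ∈ φ.range
    induction hm using closure_induction with
    | mem y hy => obtain ⟨a, ha, rfl⟩ := hy; exact ⟨⟨a, ha⟩, rfl⟩
    | one => exact one_mem _
    | mul y z hy hz ihy ihz => exact mul_mem ihy ihz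
    | inv y hy ihy => exact inv_mem ihy
  set K := φ.ker.map A0.subtype with hK
  have hKiff : ∀ a, a ∈ K ↔ a ∈ A0 ∧ ⁅x, a⁆ ∈ A := by
    intro a
    constructor
    · rintro ⟨b, hb, rfl⟩
      exact ⟨b.2, mem_subgroupOf.mp ((QuotientGroup.eq_one_iff _).mp hb)⟩
    · rintro ⟨ha, hu⟩
      exact ⟨⟨a, ha⟩, (QuotientGroup.eq_one_iff _).mpr (mem_subgroupOf.mpr hu), rfl⟩
  have hKset : {a | a ∈ A0 ∧ ⁅x, a⁆ ∈ A} = (K : Set G) := Set.ext fun a => (hKiff a).symm
  have hKA : ∀ a ∈ K, a ∈ A := fun a ha => hA0 ((hKiff a).mp ha).1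
  have hKM : K ≤ centralizer (M : Set G) := by
    rw [le_centralizer_iff, hM, closure_le]
    rintro _ ⟨b, hb, rfl⟩
    refine mem_centralizer_iff.mpr fun a ha => ?_
    obtain ⟨ha0, hua⟩ := (hKiff a).mp ha
    have h1 := (commute_u h hp2 hB (hA0 ha0) (hA0 hb)).2
    rw [commutatorElement_eq_one_iff_commute.mpr (h.comm _ hua b (hA0 hb))] at h1
    exact (commutatorElement_eq_one_iff_commute.mp h1).symm
  refine ⟨M ⊔ K, ?_, ?_, by rw [hKset, Subgroup.closure_union, closure_eq]⟩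
  · have h1 : M ⊔ K ≤ centralizer ((M ⊔ K : Subgroup G) : Set G) := by
      refine sup_le ?_ ?_
      · rw [le_centralizer_iff]
        exact sup_le (fun s hs => mem_centralizer_iff.mpr fun t ht => hMc t ht s hs) hKM
      · rw [le_centralizer_iff]
        exact sup_le (le_centralizer_iff.mp hKM)
          (fun s hs => mem_centralizer_iff.mpr fun t ht => h.comm t (hKA t ht) s (hKA s hs))
    exact fun a ha b hb => (mem_centralizer_iff.mp (h1 ha) b hb).symm
  · have h1 : M ⊓ K = M ⊓ A := by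
      refine le_antisymm (inf_le_inf_left _ hKA) fun y hy => ⟨hy.1, (hKiff y).mpr ⟨hMA hy, ?_⟩⟩
      refine h.derA (commutator_mem_commutator h.xB ?_)
      have hMB : M ≤ B := (closure_le _).mpr fun s ⟨a, ha, hs⟩ => hs ▸ u_memB h (hA0 ha)
      exact hMB hy.1
    have h2 := Cfsg.Agent.OffendersReplace.card_sup_mul_card_inf K M
      (Cfsg.Agent.OffendersReplace.le_normalizer_of_commute
        fun k hk m hm => ((mem_centralizer_iff.mp (hKM hk)) m hm).symm)
    rw [sup_comm, inf_comm, h1] at h2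
    have h3 : Nat.card K * (A.subgroupOf M).index = Nat.card A0 := by
      rw [← card_mul_index φ.ker, index_ker, MonoidHom.range_eq_top.mpr hsurj, card_top,
        card_map_of_injective A0.subtype_injective]
      rfl
    have h4 : Nat.card (M ⊓ A : Subgroup G) * (A.subgroupOf M).index = Nat.card M := by
      rw [← card_mul_index (A.subgroupOf M), ← inf_subgroupOf_left A M,
        Nat.card_congr (subgroupOfEquivOfLe (inf_le_left : M ⊓ A ≤ M)).toEquiv]
    refine Nat.eq_of_mul_eq_mul_right (Nat.card_pos (α := (M ⊓ A : Subgroup G))) ?_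
    rw [h2, ← h3, ← h4]
    ring

end

/-- **Glauberman replacement.** -/
theorem replacement [Finite G] {p : ℕ} [hp : Fact p.Prime] (hp2 : p ≠ 2) {A B : Subgroup G}
    (hP : IsPGroup p (A ⊔ B : Subgroup G)) (hA : IsMulCommutative A) (hB2 : ⁅⁅B, B⁆, B⁆ = ⊥)
    (hBA : ⁅B, B⁆ ≤ A) (hAB : A ≤ normalizer (B : Set G))
    (hBnA : ¬ B ≤ normalizer (A : Set G)) :
    ∃ As : Subgroup G, IsMulCommutative As ∧ Nat.card As = Nat.card A ∧ A ⊓ B < As ⊓ B ∧
      As ≤ normalizer (A : Set G) ∧ As ≤ normalClosure (A : Set G) ∧ As ≤ A ⊔ B ∧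
      (∀ n : ℕ, (∀ a ∈ A, a ^ n = 1) → ∀ a ∈ As, a ^ n = 1) ∧
      Nat.card (Cfsg.omegaOne p A) ≤ Nat.card (Cfsg.omegaOne p As) := by
  have hcomm : ∀ a ∈ A, ∀ b ∈ A, a * b = b * a := fun a ha b hb =>
    congrArg Subtype.val (hA.is_comm.comm (⟨a, ha⟩ : A) ⟨b, hb⟩)
  -- the element `x`
  obtain ⟨x, hxB, hxn, hxu⟩ : ∃ x ∈ B, x ∉ normalizer (A : Set G) ∧
      ∀ a ∈ A, ⁅x, a⁆ ∈ normalizer (A : Set G) := by
    set H := A ⊔ B with hH
    obtain ⟨m, hm⟩ : ∃ m, H.lowerCentralSeries m = ⊥ :=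
      (Subgroup.isNilpotent_iff_lowerCentralSeries H).mp hP.isNilpotent
    by_contra hno
    push Not at hno
    have key : ∀ i, ∃ x ∈ B, x ∉ normalizer (A : Set G) ∧ x ∈ H.lowerCentralSeries i := by
      intro i
      induction i with
      | zero =>
        obtain ⟨x, hx, hxn⟩ := SetLike.not_le_iff_exists.mp hBnA
        exact ⟨x, hx, hxn, by rw [Subgroup.lowerCentralSeries_zero]; exact mem_sup_right hx⟩
      | succ i ih =>
        obtain ⟨x, hx, hxn, hxi⟩ := ih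
        obtain ⟨a, ha, hau⟩ := hno x hx hxn
        refine ⟨⁅x, a⁆, ?_, hau, ?_⟩
        · rw [commutatorElement_def, mul_assoc x a, mul_assoc]
          exact mul_mem hx ((mem_normalizer_iff.mp (hAB ha) _).mp (inv_mem hx))
        · rw [Subgroup.lowerCentralSeries_succ]
          exact commutator_mem_commutator hxi (mem_sup_left ha)
    obtain ⟨x, -, hxn, hxm⟩ := key m
    rw [hm, mem_bot] at hxm
    exact hxn (hxm ▸ one_mem _)
  have h : Data A B x := ⟨hcomm, hBA, hAB, hxB, hxn, hxu⟩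
  have hBp : IsPGroup p B := hP.to_le le_sup_right
  obtain ⟨R, hRc, hRcard, hReq⟩ := exists_image h (Or.inl hp2) hBp le_rfl inf_le_right
  set e := Monoid.exponent A with he
  have heodd : Odd e := by
    obtain ⟨k, hk⟩ := IsPGroup.iff_card.mp (hP.to_le (le_sup_left : A ≤ A ⊔ B))
    exact ((hp.out.odd_of_ne_two hp2).pow (n := k)).of_dvd_nat (hk ▸ Group.exponent_dvd_nat_card)
  have hApow : ∀ a ∈ A, a ^ e = 1 := fun a ha =>
    congrArg Subtype.val (Monoid.pow_exponent_eq_one (⟨a, ha⟩ : A))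
  have hRmem : ∀ a ∈ R, a ^ e = 1 := by
    intro a ha
    have ha' := ha
    rw [hReq] at ha'
    induction ha' using closure_induction with
    | mem y hy =>
      rcases hy with ⟨b, hb, rfl⟩ | ⟨hy, -⟩
      · exact u_pow_eq_one h hb heodd hApow
      · exact hApow y hy
    | one => exact one_pow _
    | mul y z hy hz ihy ihz =>
      rw [← hReq] at hy hz
      rw [Commute.mul_pow (hRc y hy z hz), ihy hy, ihz hz, one_mul]
    | inv y hy ihy =>
      rw [← hReq] at hy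
      rw [inv_pow, ihy hy, inv_one]
  have hRle : ∀ T : Subgroup G, (∀ a ∈ A, ⁅x, a⁆ ∈ T) → (∀ a ∈ A, ⁅x, a⁆ ∈ A → a ∈ T) → R ≤ T := by
    intro T h1 h2
    rw [hReq, closure_le]
    rintro y (⟨a, ha, rfl⟩ | ⟨ha, hu⟩)
    · exact h1 a ha
    · exact h2 y ha hu
  refine ⟨R, ⟨⟨fun a b => Subtype.ext (hRc a a.2 b b.2)⟩⟩, hRcard, ?_,
    hRle _ hxu (fun a ha _ => Subgroup.le_normalizer ha), ?_,
    hRle _ (fun a ha => mem_sup_right (u_memB h ha)) (fun a ha _ => mem_sup_left ha), ?_, ?_⟩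
  · have hle : A ⊓ B ≤ R ⊓ B := by
      refine le_inf (fun c hc => ?_) inf_le_right
      rw [hReq]
      exact subset_closure (Or.inr ⟨hc.1, hBA (commutator_mem_commutator hxB hc.2)⟩)
    refine lt_of_le_of_ne hle fun heq => hxn ?_
    refine mem_normalizer_iff.mpr fun y => ?_
    have hcl : ∀ a ∈ A, x * a * x⁻¹ ∈ A := by
      intro a ha
      have hu : ⁅x, a⁆ ∈ A := by
        have : ⁅x, a⁆ ∈ R ⊓ B := ⟨by rw [hReq]; exact subset_closure (Or.inl ⟨a, ha, rfl⟩),
          u_memB h ha⟩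
        exact (heq ▸ this : ⁅x, a⁆ ∈ A ⊓ B).1
      have := mul_mem hu ha
      rwa [commutatorElement_def, inv_mul_cancel_right] at this
    refine ⟨hcl y, fun hy => ?_⟩
    have hmap : A.map (MulAut.conj x).toMonoidHom = A := by
      refine eq_of_le_of_card_ge ?_ (card_map_of_injective (MulAut.conj x).injective).ge
      rintro _ ⟨a, ha, rfl⟩
      exact hcl a ha
    rw [← hmap] at hy
    obtain ⟨a, ha, hae⟩ := hy
    exact ((MulAut.conj x).injective hae) ▸ ha
  · refine hRle _ (fun a ha => ?_) (fun a ha _ => subset_normalClosure ha)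
    rw [commutatorElement_def]
    exact mul_mem (normalClosure_normal.conj_mem a (subset_normalClosure ha) x)
      (inv_mem (subset_normalClosure ha))
  · intro n hn a ha
    obtain ⟨m, hm⟩ := Monoid.exponent_dvd_of_forall_pow_eq_one
      (G := A) (n := n) fun a => Subtype.ext (hn a a.2)
    rw [hm, pow_mul, hRmem a ha, one_pow]
  · -- the count for the elements of order `p`
    set O := Cfsg.omegaOne p A with hO
    have hOA : O ≤ A := (closure_le _).mpr fun y hy => hy.1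
    have hOpow : ∀ a ∈ O, a ^ p = 1 := by
      intro a ha
      induction ha using closure_induction with
      | mem y hy => exact hy.2
      | one => exact one_pow _
      | mul y z hy hz ihy ihz =>
        rw [Commute.mul_pow (hcomm y (hOA hy) z (hOA hz)), ihy, ihz, one_mul]
      | inv y _ ihy => rw [inv_pow, ihy, inv_one]
    have hupow : ∀ a ∈ O, ⁅x, a⁆ ^ p = 1 := by
      intro a ha
      have haA := hOA ha
      obtain ⟨u, hu⟩ : ∃ u, ⁅x, a⁆ = u := ⟨_, rfl⟩
      have hz := c_mem h haA haA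
      have hzu : Commute ⁅u, a⁆ u := (hu ▸ u_commute h haA hz.1 hz.2).symm
      have hza : Commute ⁅u, a⁆ a := hu ▸ hcomm _ hz.1 a haA
      have hcen : ∀ i : ℕ, u * a ^ i = ⁅u, a⁆ ^ i * a ^ i * u := by
        intro i
        induction i with
        | zero => simp
        | succ i ih =>
          calc u * a ^ (i + 1) = ⁅u, a⁆ ^ i * a ^ i * (u * a) := by
                rw [pow_succ, ← mul_assoc, ih]; group
            _ = ⁅u, a⁆ ^ i * (a ^ i * ⁅u, a⁆) * a * u := by rw [commutatorElement_def]; group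
            _ = ⁅u, a⁆ ^ (i + 1) * a ^ (i + 1) * u := by
                rw [← (hza.pow_right i).eq, pow_succ, pow_succ a]; group
      have hzp : ⁅u, a⁆ ^ p = 1 := by
        have := hcen p
        rw [hOpow a ha, mul_one, mul_one] at this
        exact mul_right_cancel (by rw [one_mul]; exact this.symm)
      have hau : a * u = u * a * ⁅u, a⁆⁻¹ := by
        have h1 : u * a = ⁅u, a⁆ * (a * u) := by rw [commutatorElement_def]; group
        have h2 : Commute ⁅u, a⁆ (a * u) := hza.mul_right hzu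
        rw [h1, h2.eq, mul_inv_cancel_right]
      have h1 := Cfsg.Agent.OmegaCoprime.mul_pow_class_two hau hzu.inv_left hza.inv_left p
      obtain ⟨k, hk⟩ := Nat.Prime.dvd_choose_self hp.out two_ne_zero
        (lt_of_le_of_ne hp.out.two_le (Ne.symm hp2))
      rw [show u * a = x * a * x⁻¹ by rw [← hu, commutatorElement_def]; group, conj_pow,
        hOpow a ha, hk, pow_mul, inv_pow, hzp] at h1
      rw [hu]
      simpa using h1.symm
    have hMpow : ∀ y ∈ closure ((fun a => ⁅x, a⁆) '' (O : Set G)), y ^ p = 1 := by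
      intro y hy
      have hsub : closure ((fun a => ⁅x, a⁆) '' (O : Set G)) ≤ R := by
        rw [hReq]
        exact closure_mono (Set.subset_union_of_subset_left (Set.image_mono hOA) _)
      induction hy using closure_induction with
      | mem y hy => obtain ⟨a, ha, rfl⟩ := hy; exact hupow a ha
      | one => exact one_pow _
      | mul y z hy hz ihy ihz =>
        rw [Commute.mul_pow (hRc y (hsub hy) z (hsub hz)), ihy, ihz, one_mul]
      | inv y _ ihy => rw [inv_pow, ihy, inv_one]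
    obtain ⟨R0, -, hR0card, hR0eq⟩ := exists_image h (Or.inl hp2) hBp hOA
      (fun y hy => subset_closure ⟨hy.2, hMpow y hy.1⟩)
    rw [← hR0card]
    refine card_le_of_le ?_
    rw [hR0eq, closure_le]
    rintro y (⟨a, ha, rfl⟩ | ⟨ha, hu⟩)
    · exact subset_closure ⟨by rw [hReq]; exact subset_closure (Or.inl ⟨a, hOA ha, rfl⟩),
        hupow a ha⟩
    · exact subset_closure ⟨by rw [hReq]; exact subset_closure (Or.inr ⟨hOA ha, hu⟩), hOpow y ha⟩

end Cfsg.Agent.GlaubermanReplace
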