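import Mathlib
import Cfsg.Prelude.Def_Solvable

set_option autoImplicit false

namespace Cfsg.Agent.CentralSylow

/-- Burnside for a central Sylow subgroup. -/
lemma central_sylow {p : ℕ} [Fact p.Prime] {C : Type*} [Group C] [Finite C] (Z : Subgroup C)
    (hZc : Z ≤ Subgroup.center C) (hZp : IsPGroup p Z) (hind : ¬ p ∣ Z.index) :
    ∃ O : Subgroup C, Cfsg.pPrimeCore p C = O ∧ O.Normal ∧ (Nat.card O).Coprime p ∧
      O.IsComplement' Z ∧ ∀ x : C, (orderOf x).Coprime p → x ∈ O := by
  let P : Sylow p C := hZp.toSylow hind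
  have hP : Subgroup.normalizer ((P : Subgroup C) : Set C) ≤ Subgroup.centralizer ((P : Subgroup C) : Set C) := by
    intro g _
    rw [Subgroup.mem_centralizer_iff]
    intro h hh
    exact ((Subgroup.mem_center_iff.1 (hZc hh)) g).symm
  have hc : (MonoidHom.transferSylow P hP).ker.IsComplement' Z :=
    MonoidHom.ker_transferSylow_isComplement' P hP
  set O := (MonoidHom.transferSylow P hP).ker
  have hn : O.Normal := MonoidHom.normal_ker _
  have hind' : O.index = Nat.card Z := hc.symm.index_eq_card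
  have hcard : Nat.card O = Z.index := hc.index_eq_card.symm
  have hco : (Nat.card O).Coprime p := by
    rw [hcard]
    exact ((Fact.out : p.Prime).coprime_iff_not_dvd.2 hind).symm
  have hmem : ∀ x : C, (orderOf x).Coprime p → x ∈ O := by
    intro x hx
    haveI := hn
    rw [← QuotientGroup.eq_one_iff, ← orderOf_eq_one_iff]
    obtain ⟨k, hk⟩ := IsPGroup.iff_card.1 hZp
    have h1 : orderOf (x : C ⧸ O) ∣ p ^ k := by
      rw [← hk, ← hind']
      exact orderOf_dvd_natCard _
    have h2 : orderOf (x : C ⧸ O) ∣ orderOf x := orderOf_map_dvd (QuotientGroup.mk' O) x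
    exact Nat.eq_one_of_dvd_coprimes (hx.pow_right k) h2 h1
  refine ⟨O, le_antisymm (sSup_le ?_) (le_sSup ⟨hn, hco⟩), hn, hco, hc, hmem⟩
  rintro N ⟨-, hN⟩ x hx
  refine hmem x (Nat.Coprime.coprime_dvd_left ?_ hN)
  exact Subgroup.orderOf_dvd_natCard _ hx


/-- A normal subgroup meets a Sylow subgroup in a Sylow subgroup. -/
lemma not_dvd_relIndex_normal {p : ℕ} [Fact p.Prime] {G : Type*} [Group G] [Finite G]
    (S : Sylow p G) (C : Subgroup G) [C.Normal] : ¬ p ∣ ((S : Subgroup G) ⊓ C).relIndex C := by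
  intro h
  apply S.not_dvd_index
  refine h.trans ?_
  obtain ⟨e, he⟩ := C.relIndex_dvd_index_of_normal (S : Subgroup G)
  have h1 := Subgroup.relIndex_mul_index (inf_le_right : (S : Subgroup G) ⊓ C ≤ C)
  have h2 := Subgroup.relIndex_mul_index (inf_le_left : (S : Subgroup G) ⊓ C ≤ S)
  rw [Subgroup.inf_relIndex_left] at h2
  rw [← h2, he, mul_comm (C.relIndex (S : Subgroup G)) e, ← mul_assoc,
    mul_comm (C.relIndex (S : Subgroup G)) _] at h1
  exact ⟨e, (mul_right_cancel₀ (ne_zero_of_dvd_ne_zero Nat.card_pos.ne' (Subgroup.relIndex_dvd_card _ _)) h1).symm⟩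

end Cfsg.Agent.CentralSylow
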