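import Mathlib
import Cfsg.Prelude.Def_LocalStructure
import Cfsg.Agent.Lib.HallCore
import Cfsg.Agent.Lib.TransferPResidual
import Cfsg.Agent.Lib.CentralSylow

/-! Small general lemmas for the local-structure statements (helper57). -/

set_option autoImplicit false

namespace Cfsg.Agent.LocalBasics

open Subgroup
open scoped Pointwise

variable {G : Type*} [Group G] {p : ℕ}

/-- A normal subgroup meets a Sylow subgroup in a Sylow subgroup. -/
theorem exists_sylow_inf [Finite G] [Fact p.Prime] (T : Sylow p G) (N : Subgroup G) [N.Normal] :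
    ∃ Q : Sylow p ↥N, (Q : Subgroup ↥N) = (T : Subgroup G).subgroupOf N := by
  have h1 : IsPGroup p ↥((T : Subgroup G).subgroupOf N) := T.isPGroup'.comap_subtype
  have h2 : ¬ p ∣ ((T : Subgroup G).subgroupOf N).index := by
    have h3 := CentralSylow.not_dvd_relIndex_normal T N
    rw [Subgroup.inf_relIndex_right] at h3
    exact h3
  exact ⟨h1.toSylow h2, IsPGroup.toSylow_coe _ _⟩

/-- The image in `G` of a normal subgroup of `M` is normalized by `M`. -/
theorem le_normalizer_map_normal (M : Subgroup G) (N : Subgroup ↥M) [N.Normal] :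
    M ≤ normalizer ((N.map M.subtype : Subgroup G) : Set G) := by
  have h := le_normalizer_map (H := N) M.subtype
  rw [normalizer_eq_top] at h
  rwa [← MonoidHom.range_eq_map, range_subtype] at h

theorem conj_mem_of_le_normalizer {X K : Subgroup G} (h : X ≤ normalizer (K : Set G)) {x : G}
    (hx : x ∈ X) {k : G} (hk : k ∈ K) : x * k * x⁻¹ ∈ K :=
  (mem_normalizer_iff.mp (h hx) k).mp hk

theorem le_normalizer_of_conj {X K : Subgroup G} (h : ∀ x ∈ X, ∀ k ∈ K, x * k * x⁻¹ ∈ K) :
    X ≤ normalizer (K : Set G) := by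
  intro x hx
  rw [mem_normalizer_iff]
  refine fun k => ⟨h x hx k, fun hk => ?_⟩
  simpa [mul_assoc] using h x⁻¹ (X.inv_mem hx) _ hk

theorem le_normalizer_inf {X A B : Subgroup G} (hA : X ≤ normalizer (A : Set G))
    (hB : X ≤ normalizer (B : Set G)) : X ≤ normalizer ((A ⊓ B : Subgroup G) : Set G) :=
  le_normalizer_of_conj fun _ hx _ hk =>
    ⟨conj_mem_of_le_normalizer hA hx hk.1, conj_mem_of_le_normalizer hB hx hk.2⟩

theorem le_normalizer_sup {X A B : Subgroup G} (hA : X ≤ normalizer (A : Set G))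
    (hB : X ≤ normalizer (B : Set G)) : X ≤ normalizer ((A ⊔ B : Subgroup G) : Set G) := by
  refine le_normalizer_of_conj fun x hx k hk => ?_
  have h1 : A ⊔ B ≤ (A ⊔ B).comap (MulAut.conj x).toMonoidHom :=
    sup_le (fun a ha => mem_sup_left (conj_mem_of_le_normalizer hA hx ha))
      (fun b hb => mem_sup_right (conj_mem_of_le_normalizer hB hx hb))
  exact h1 hk

theorem le_normalizer_centralizer {X A : Subgroup G} (hA : X ≤ normalizer (A : Set G)) :
    X ≤ normalizer ((centralizer (A : Set G) : Subgroup G) : Set G) := by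
  refine le_normalizer_of_conj fun x hx c hc a ha => ?_
  have h1 : x⁻¹ * a * x⁻¹⁻¹ ∈ A := conj_mem_of_le_normalizer hA (X.inv_mem hx) ha
  rw [inv_inv] at h1
  have h2 := hc _ h1
  calc a * (x * c * x⁻¹) = x * (x⁻¹ * a * x * c) * x⁻¹ := by simp [mul_assoc]
    _ = x * (c * (x⁻¹ * a * x)) * x⁻¹ := by rw [h2]
    _ = x * c * x⁻¹ * a := by simp [mul_assoc]

theorem centralizer_le_normalizer (A : Subgroup G) :
    centralizer (A : Set G) ≤ normalizer (A : Set G) :=
  le_normalizer_of_conj fun c hc a ha => by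
    rw [← hc a ha]; simpa using ha

theorem normal_subgroupOf_of_le {A X : Subgroup G} (h : X ≤ normalizer (A : Set G)) :
    (A.subgroupOf X).Normal :=
  ⟨fun a ha x => conj_mem_of_le_normalizer h x.2 ha⟩

theorem le_normalizer_of_normal {A : Subgroup G} [hA : A.Normal] (X : Subgroup G) :
    X ≤ normalizer (A : Set G) :=
  le_normalizer_of_conj fun x _ a ha => hA.conj_mem a ha x

/-! ### `pCoreOf` -/

theorem pCoreOf_le (p : ℕ) (H : Subgroup G) : Cfsg.pCoreOf p H ≤ H :=
  map_subtype_le _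

theorem le_normalizer_pCoreOf (p : ℕ) (H : Subgroup G) :
    H ≤ normalizer ((Cfsg.pCoreOf p H : Subgroup G) : Set G) :=
  le_normalizer_map_normal H (Cfsg.pCore p ↥H)

theorem isPGroup_pCoreOf [Finite G] (p : ℕ) (H : Subgroup G) : IsPGroup p ↥(Cfsg.pCoreOf p H) :=
  (HallCore.isPGroup_pCore p ↥H).map _

theorem le_pCoreOf {A H : Subgroup G} (hAH : A ≤ H) (hn : H ≤ normalizer (A : Set G))
    (hA : IsPGroup p A) : A ≤ Cfsg.pCoreOf p H := by
  have := normal_subgroupOf_of_le hn
  have h1 : A.subgroupOf H ≤ Cfsg.pCore p ↥H :=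
    HallCore.le_pCore (hA.comap_subtype (K := H))
  have h2 := map_mono (f := H.subtype) h1
  rwa [map_subgroupOf_eq_of_le hAH] at h2

theorem pCoreOf_top (p : ℕ) [Finite G] : Cfsg.pCoreOf p (⊤ : Subgroup G) = Cfsg.pCore p G :=
  HallCore.map_equiv_pCore (p := p) Subgroup.topEquiv

theorem pCoreOf_subgroupOf (p : ℕ) (H : Subgroup G) :
    (Cfsg.pCoreOf p H).subgroupOf H = Cfsg.pCore p ↥H :=
  comap_map_eq_self_of_injective H.subtype_injective _

theorem pCoreOf_inf_le [Finite G] (p : ℕ) {H K : Subgroup G} (hKH : K ≤ H) :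
    Cfsg.pCoreOf p H ⊓ K ≤ Cfsg.pCoreOf p K :=
  le_pCoreOf inf_le_right
    (le_normalizer_inf (hKH.trans (le_normalizer_pCoreOf p H)) le_normalizer)
    ((isPGroup_pCoreOf p H).to_le inf_le_left)

theorem pCoreOf_le_of_subnormal [Finite G] (p : ℕ) {K : Subgroup G} (hK : K.IsSubnormal) :
    Cfsg.pCoreOf p K ≤ Cfsg.pCore p G := by
  induction hK with
  | top => exact (pCoreOf_top p).le
  | step K L hKL hL hN ih =>
    refine le_trans ?_ ih
    refine le_pCoreOf ((pCoreOf_le p K).trans hKL) ?_ (isPGroup_pCoreOf p K)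
    refine le_normalizer_of_conj fun x hx k hk => ?_
    have hKn : ∀ a ∈ K, ∀ y ∈ L, y * a * y⁻¹ ∈ K := fun a ha y hy =>
      hN.conj_mem ⟨a, hKL ha⟩ ha ⟨y, hy⟩
    let e : ↥K ≃* ↥K :=
      { toFun := fun a => ⟨x * a * x⁻¹, hKn a a.2 x hx⟩
        invFun := fun a => ⟨x⁻¹ * a * x, by simpa using hKn a a.2 x⁻¹ (L.inv_mem hx)⟩
        left_inv := fun a => Subtype.ext (by simp [mul_assoc])
        right_inv := fun a => Subtype.ext (by simp [mul_assoc])
        map_mul' := fun a b => Subtype.ext (by simp [mul_assoc]) }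
    obtain ⟨a, ha, rfl⟩ := hk
    exact ⟨e a, (HallCore.map_equiv_pCore (p := p) e).le ⟨a, ha, rfl⟩, rfl⟩

theorem le_pCore_of_subnormal [Finite G] {A : Subgroup G} (hA : A.IsSubnormal) (hp : IsPGroup p A) :
    A ≤ Cfsg.pCore p G :=
  (le_pCoreOf le_rfl le_normalizer hp).trans (pCoreOf_le_of_subnormal p hA)

/-! ### `p`-closed groups -/

theorem isPClosed_iff [Finite G] [Fact p.Prime] :
    Cfsg.IsPClosed p G ↔ ∃ P : Sylow p G, (P : Subgroup G).Normal := by
  refine ⟨fun h => ⟨default, h _⟩, fun ⟨P, hP⟩ Q => ?_⟩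
  have := Sylow.unique_of_normal P hP
  rwa [Subsingleton.elim Q P]

theorem isPClosed_iff_pCore [Finite G] [Fact p.Prime] :
    Cfsg.IsPClosed p G ↔ ∀ P : Sylow p G, (P : Subgroup G) ≤ Cfsg.pCore p G := by
  refine ⟨fun h P => HallCore.le_pCore (hN := h P) P.isPGroup', fun h P => ?_⟩
  rw [show (P : Subgroup G) = Cfsg.pCore p G from le_antisymm (h P) (HallCore.pCore_le_sylow P)]
  infer_instance

theorem sylow_le_pCore {N : Subgroup G} [Finite G] [Fact p.Prime] [hn : N.Normal]
    (hN : Cfsg.IsPClosed p ↥N) {P : Subgroup G} (hP : IsPGroup p P) (hPN : P ≤ N) :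
    P ≤ Cfsg.pCore p G := by
  obtain ⟨Q, hQ⟩ := (hP.comap_subtype (K := N)).exists_le_sylow
  have h1 := (isPClosed_iff_pCore.mp hN Q)
  have h2 := map_mono (f := N.subtype) (hQ.trans h1)
  change (P.subgroupOf N).map N.subtype ≤ _ at h2
  rw [map_subgroupOf_eq_of_le hPN, HallCore.map_subtype_pCore] at h2
  exact h2.trans inf_le_left

end Cfsg.Agent.LocalBasics
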