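import Mathlib
import Cfsg.Prelude.Def_PLocal
import Cfsg.Prelude.Def_LocalEven
import Cfsg.Prelude.Def_TwoFusion
import Cfsg.Agent.Lib.GlaubermanReplace
import Cfsg.Agent.Lib.HallCore
import Cfsg.Agent.Lib.LocalBasics
import Cfsg.Agent.Lib.OmegaCoprime
import Cfsg.Agent.Lib.TransferAlperin

/-!
# Glauberman's ZJ theorem

For a subgroup `D` and `n = 0` or `n = p` we look at the abelian subgroups of `D` of largest order
among those with `a ^ n = 1`; `thomY n D` is the centre of the subgroup they generate.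
-/

set_option autoImplicit false

namespace Cfsg.Agent.GlaubermanZJ

open Subgroup
open scoped commutatorElement

variable {G H : Type*} [Group G] [Group H] {p n : ℕ}

/-- `A` is an abelian subgroup of `D` of exponent dividing `n`. -/
structure IsFam (n : ℕ) (D A : Subgroup G) : Prop where
  le : A ≤ D
  comm : ∀ a ∈ A, ∀ b ∈ A, a * b = b * a
  pow : ∀ a ∈ A, a ^ n = 1

/-- The members of largest order. -/
def maxFam (n : ℕ) (D : Subgroup G) : Set (Subgroup G) :=
  {A | IsFam n D A ∧ ∀ B, IsFam n D B → Nat.card B ≤ Nat.card A}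

/-- The subgroup generated by them. -/
def thomJ (n : ℕ) (D : Subgroup G) : Subgroup G := sSup (maxFam n D)

/-- Its centre. -/
def thomY (n : ℕ) (D : Subgroup G) : Subgroup G :=
  thomJ n D ⊓ centralizer (thomJ n D : Set G)

theorem thomJ_le (D : Subgroup G) : thomJ n D ≤ D := sSup_le fun _ hA => hA.1.le

theorem thomY_le (D : Subgroup G) : thomY n D ≤ D := inf_le_left.trans (thomJ_le D)

theorem le_thomJ {D A : Subgroup G} (hA : A ∈ maxFam n D) : A ≤ thomJ n D := le_sSup hA

theorem thomY_comm {D A : Subgroup G} (hA : A ∈ maxFam n D) {y : G} (hy : y ∈ thomY n D)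
    {a : G} (ha : a ∈ A) : a * y = y * a :=
  mem_centralizer_iff.mp hy.2 a (le_thomJ hA ha)

theorem thomY_isComm {D : Subgroup G} {y z : G} (hy : y ∈ thomY n D) (hz : z ∈ thomY n D) :
    y * z = z * y :=
  mem_centralizer_iff.mp hz.2 y hy.1

theorem exists_maxFam [Finite G] (n : ℕ) (D : Subgroup G) : (maxFam n D).Nonempty := by
  obtain ⟨A, hA, hmax⟩ := Set.exists_max_image {A : Subgroup G | IsFam n D A}
    (fun A => Nat.card A) (Set.toFinite _)
    ⟨⊥, ⟨bot_le, fun a ha b hb => by rw [mem_bot.mp ha, mem_bot.mp hb],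
      fun a ha => by rw [mem_bot.mp ha, one_pow]⟩⟩
  exact ⟨A, hA, hmax⟩

/-- A member of largest order contains every element that could be added to it. -/
theorem mem_of_commute [Finite G] {D A : Subgroup G} (hA : A ∈ maxFam n D) {b : G} (hb : b ∈ D)
    (hbn : b ^ n = 1) (hc : ∀ a ∈ A, a * b = b * a) : b ∈ A := by
  have hcl : A ⊔ zpowers b ≤ centralizer ((A ⊔ zpowers b : Subgroup G) : Set G) := by
    refine sup_le ?_ ?_
    · rw [le_centralizer_iff]
      refine sup_le (fun a ha => mem_centralizer_iff.mpr fun c hc' => hA.1.comm c hc' a ha) ?_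
      rw [zpowers_le]
      exact mem_centralizer_iff.mpr hc
    · rw [zpowers_le]
      have h1 : A ⊔ zpowers b ≤ centralizer ({b} : Set G) :=
        sup_le (fun a ha => mem_centralizer_singleton_iff.mpr (hc a ha))
          (zpowers_le.mpr (mem_centralizer_singleton_iff.mpr rfl))
      exact mem_centralizer_iff.mpr fun c hc' => mem_centralizer_singleton_iff.mp (h1 hc')
  have hfam : IsFam n D (A ⊔ zpowers b) := by
    have hcomm : ∀ x ∈ A ⊔ zpowers b, ∀ y ∈ A ⊔ zpowers b, x * y = y * x :=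
      fun x hx y hy => (mem_centralizer_iff.mp (hcl hx) y hy).symm
    refine ⟨sup_le hA.1.le (zpowers_le.mpr hb), hcomm, fun x hx => ?_⟩
    have hx' := hx
    rw [← Subgroup.closure_eq A, zpowers_eq_closure, ← Subgroup.closure_union] at hx'
    have hle : Subgroup.closure ((A : Set G) ∪ {b}) = A ⊔ zpowers b := by
      rw [Subgroup.closure_union, Subgroup.closure_eq, zpowers_eq_closure]
    induction hx' using closure_induction with
    | mem y hy =>
      rcases hy with hy | hy
      · exact hA.1.pow y hy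
      · rw [Set.mem_singleton_iff.mp hy, hbn]
    | one => exact one_pow _
    | mul y z hy hz ihy ihz =>
      rw [hle] at hy hz
      rw [Commute.mul_pow (hcomm y hy z hz), ihy hy, ihz hz, one_mul]
    | inv y hy ihy =>
      rw [hle] at hy
      rw [inv_pow, ihy hy, inv_one]
  have := eq_of_le_of_card_ge (le_sup_left : A ≤ A ⊔ zpowers b) (hA.2 _ hfam)
  rw [this]
  exact mem_sup_right (mem_zpowers b)

/-! ### Equivariance -/

theorem isFam_map_iff {f : G →* H} (hf : Function.Injective f) {D A : Subgroup G} :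
    IsFam n (D.map f) (A.map f) ↔ IsFam n D A := by
  constructor
  · rintro ⟨h1, h2, h3⟩
    refine ⟨(map_le_map_iff_of_injective hf).mp h1, fun a ha b hb => hf ?_, fun a ha => hf ?_⟩
    · rw [map_mul, map_mul]
      exact h2 _ (mem_map_of_mem f ha) _ (mem_map_of_mem f hb)
    · rw [map_pow, map_one]
      exact h3 _ (mem_map_of_mem f ha)
  · rintro ⟨h1, h2, h3⟩
    refine ⟨map_mono h1, ?_, ?_⟩
    · rintro _ ⟨a, ha, rfl⟩ _ ⟨b, hb, rfl⟩
      rw [← map_mul, h2 a ha b hb, map_mul]
    · rintro _ ⟨a, ha, rfl⟩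
      rw [← map_pow, h3 a ha, map_one]

theorem maxFam_map {f : G →* H} (hf : Function.Injective f) (D : Subgroup G) :
    maxFam n (D.map f) = (Subgroup.map f) '' maxFam n D := by
  have hpre : ∀ B : Subgroup H, B ≤ D.map f → B = (B.comap f).map f := fun B hB =>
    (map_comap_eq_self (hB.trans (map_le_range f D))).symm
  ext B
  constructor
  · rintro ⟨hB, hmax⟩
    have he := hpre B hB.le
    rw [he] at hB
    refine ⟨B.comap f, ⟨(isFam_map_iff hf).mp hB, fun A hA => ?_⟩, he.symm⟩
    have := hmax _ ((isFam_map_iff hf).mpr hA)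
    rwa [card_map_of_injective hf, he, card_map_of_injective hf] at this
  · rintro ⟨A, ⟨hA, hmax⟩, rfl⟩
    refine ⟨(isFam_map_iff hf).mpr hA, fun B hB => ?_⟩
    have he := hpre B hB.le
    rw [he] at hB ⊢
    rw [card_map_of_injective hf, card_map_of_injective hf]
    exact hmax _ ((isFam_map_iff hf).mp hB)

theorem thomJ_map {f : G →* H} (hf : Function.Injective f) (D : Subgroup G) :
    thomJ n (D.map f) = (thomJ n D).map f := by
  refine le_antisymm (sSup_le ?_) ?_
  · rw [maxFam_map hf]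
    rintro _ ⟨A, hA, rfl⟩
    exact map_mono (le_thomJ hA)
  · rw [map_le_iff_le_comap]
    exact sSup_le fun A hA => map_le_iff_le_comap.mp
      (le_sSup (by rw [maxFam_map hf]; exact ⟨A, hA, rfl⟩))

theorem inf_centralizer_map {f : G →* H} (hf : Function.Injective f) (J : Subgroup G) :
    J.map f ⊓ centralizer (J.map f : Set H) = (J ⊓ centralizer (J : Set G)).map f := by
  ext y
  constructor
  · rintro ⟨⟨x, hx, rfl⟩, hc⟩
    refine ⟨x, ⟨hx, mem_centralizer_iff.mpr fun a ha => hf ?_⟩, rfl⟩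
    rw [map_mul, map_mul]
    exact mem_centralizer_iff.mp hc _ (mem_map_of_mem f ha)
  · rintro ⟨x, ⟨hx, hc⟩, rfl⟩
    refine ⟨mem_map_of_mem f hx, mem_centralizer_iff.mpr ?_⟩
    rintro _ ⟨a, ha, rfl⟩
    rw [← map_mul, mem_centralizer_iff.mp hc a ha, map_mul]

theorem thomY_map {f : G →* H} (hf : Function.Injective f) (D : Subgroup G) :
    thomY n (D.map f) = (thomY n D).map f := by
  rw [thomY, thomJ_map hf, inf_centralizer_map hf, thomY]

theorem map_eq_map_of_injOn {K : Subgroup G} {f : G →* H} (D : Subgroup G) (hK : K ≤ D) :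
    K.map f = (K.subgroupOf D).map (f.comp D.subtype) := by
  rw [← Subgroup.map_map, map_subgroupOf_eq_of_le hK]

theorem thomY_map_of_injOn {f : G →* H} (D : Subgroup G) (hf : Set.InjOn f D) :
    thomY n (D.map f) = (thomY n D).map f := by
  have h2 : Function.Injective (f.comp D.subtype) :=
    fun a b hab => Subtype.ext (hf a.2 b.2 hab)
  have hD : (⊤ : Subgroup D).map D.subtype = D := by
    rw [← MonoidHom.range_eq_map, range_subtype]
  conv_lhs => rw [← hD, Subgroup.map_map, thomY_map h2]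
  conv_rhs => rw [← hD, thomY_map D.subtype_injective, Subgroup.map_map]

theorem normalizer_le_thomJ (D : Subgroup G) :
    normalizer (D : Set G) ≤ normalizer (thomJ n D : Set G) := fun g hg => by
  refine TransferAlperin.mem_normalizer_of_cj_eq ?_
  have h := thomJ_map (n := n) (f := (MulAut.conj g).toMonoidHom) (MulAut.conj g).injective D
  rw [show D.map (MulAut.conj g).toMonoidHom = D from TransferAlperin.cj_eq_self hg] at h
  exact h.symm

theorem normalizer_le_thomY (D : Subgroup G) :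
    normalizer (D : Set G) ≤ normalizer (thomY n D : Set G) := fun g hg => by
  refine TransferAlperin.mem_normalizer_of_cj_eq ?_
  have h := thomY_map (n := n) (f := (MulAut.conj g).toMonoidHom) (MulAut.conj g).injective D
  rw [show D.map (MulAut.conj g).toMonoidHom = D from TransferAlperin.cj_eq_self hg] at h
  exact h.symm

theorem thomY_ne_bot [Finite G] [hp : Fact p.Prime] (hn : n = 0 ∨ n = p) {D : Subgroup G}
    (hD : IsPGroup p D) (hne : D ≠ ⊥) : thomY n D ≠ ⊥ := by
  haveI : Nontrivial D := (nontrivial_iff_ne_bot D).mpr hne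
  haveI := hD.center_nontrivial
  obtain ⟨k, hk⟩ := IsPGroup.iff_card.mp (hD.to_subgroup (Subgroup.center D))
  have hd : p ∣ Nat.card (Subgroup.center D) := by
    have h1 : 1 < Nat.card (Subgroup.center D) := Finite.one_lt_card
    rw [hk] at h1 ⊢
    exact dvd_pow_self p (by rintro rfl; simp at h1)
  obtain ⟨z, hz⟩ := exists_prime_orderOf_dvd_card' p hd
  set w : G := ((z : D) : G) with hw
  have hwc : ∀ d ∈ D, d * w = w * d := fun d hd =>
    congrArg Subtype.val (mem_center_iff.mp z.2 ⟨d, hd⟩)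
  have hwn : w ^ n = 1 := by
    rcases hn with rfl | rfl
    · exact pow_zero w
    · rw [hw, ← SubgroupClass.coe_pow, ← SubgroupClass.coe_pow, ← hz, pow_orderOf_eq_one]
      rfl
  have hwne : w ≠ 1 := by
    intro h
    have : z = 1 := Subtype.ext (Subtype.ext h)
    rw [this, orderOf_one] at hz
    exact hp.out.one_lt.ne hz
  obtain ⟨A, hA⟩ := exists_maxFam n D
  intro hbot
  refine hwne (mem_bot.mp (hbot ▸ (?_ : w ∈ thomY n D)))
  exact ⟨le_thomJ hA (mem_of_commute hA (z : D).2 hwn fun a ha => hwc a (hA.1.le ha)),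
    mem_centralizer_iff.mpr fun a ha => hwc a (thomJ_le D ha)⟩

/-! ### The link with the Thompson subgroups -/

theorem maxFam_zero_top (P : Type*) [Group P] :
    Cfsg.maxAbelianSubgroups P = maxFam 0 (⊤ : Subgroup P) := by
  ext A
  constructor
  · rintro ⟨h, hmax⟩
    refine ⟨⟨le_top, fun a ha b hb => congrArg Subtype.val (h.is_comm.comm (⟨a, ha⟩ : A) ⟨b, hb⟩),
      fun a _ => pow_zero a⟩, fun B hB => hmax B ⟨⟨fun a b => Subtype.ext (hB.comm a a.2 b b.2)⟩⟩⟩
  · rintro ⟨h, hmax⟩
    refine ⟨⟨⟨fun a b => Subtype.ext (h.comm a a.2 b b.2)⟩⟩, fun B hB => hmax B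
      ⟨le_top, fun a ha b hb => congrArg Subtype.val (hB.is_comm.comm (⟨a, ha⟩ : B) ⟨b, hb⟩),
        fun a _ => pow_zero a⟩⟩

theorem maxFam_prime_top (p : ℕ) (P : Type*) [Group P] :
    Cfsg.maxElementaryAbelianSubgroups p P = maxFam p (⊤ : Subgroup P) := by
  ext A
  constructor
  · rintro ⟨⟨h, hpow⟩, hmax⟩
    refine ⟨⟨le_top, fun a ha b hb => congrArg Subtype.val (h.is_comm.comm (⟨a, ha⟩ : A) ⟨b, hb⟩),
      hpow⟩, fun B hB => hmax B ⟨⟨⟨fun a b => Subtype.ext (hB.comm a a.2 b b.2)⟩⟩, hB.pow⟩⟩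
  · rintro ⟨h, hmax⟩
    refine ⟨⟨⟨⟨fun a b => Subtype.ext (h.comm a a.2 b b.2)⟩⟩, h.pow⟩, fun B hB => hmax B
      ⟨le_top, fun a ha b hb => congrArg Subtype.val (hB.1.is_comm.comm (⟨a, ha⟩ : B) ⟨b, hb⟩),
        hB.2⟩⟩

theorem thompsonSubgroupAOf_eq (D : Subgroup G) : Cfsg.thompsonSubgroupAOf D = thomJ 0 D := by
  have h := thomJ_map (n := 0) D.subtype_injective (⊤ : Subgroup D)
  rw [← MonoidHom.range_eq_map, range_subtype] at h
  rw [h, Cfsg.thompsonSubgroupAOf, Cfsg.thompsonSubgroupA, maxFam_zero_top]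
  rfl

theorem thompsonSubgroupOf_eq (p : ℕ) (D : Subgroup G) :
    Cfsg.thompsonSubgroupOf p D = thomJ p D := by
  have h := thomJ_map (n := p) D.subtype_injective (⊤ : Subgroup D)
  rw [← MonoidHom.range_eq_map, range_subtype] at h
  rw [h, Cfsg.thompsonSubgroupOf, Cfsg.thompsonSubgroup, maxFam_prime_top]
  rfl

theorem centerThompsonAOf_eq (D : Subgroup G) : Cfsg.centerThompsonAOf D = thomY 0 D := by
  rw [Cfsg.centerThompsonAOf, thompsonSubgroupAOf_eq, thomY]

theorem centerThompsonOf_eq (p : ℕ) (D : Subgroup G) :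
    Cfsg.centerThompsonOf p D = thomY p D := by
  rw [Cfsg.centerThompsonOf, thompsonSubgroupOf_eq, thomY]

theorem omegaOne_map {f : G →* H} (hf : Function.Injective f) (p : ℕ) (K : Subgroup G) :
    Cfsg.omegaOne p (K.map f) = (Cfsg.omegaOne p K).map f := by
  rw [Cfsg.omegaOne, Cfsg.omegaOne, MonoidHom.map_closure]
  congr 1
  ext y
  constructor
  · rintro ⟨⟨x, hx, rfl⟩, hy⟩
    rw [← map_pow, ← map_one f] at hy
    exact ⟨x, ⟨hx, hf hy⟩, rfl⟩
  · rintro ⟨x, ⟨hx, hxp⟩, rfl⟩
    exact ⟨mem_map_of_mem f hx, by rw [← map_pow, hxp, map_one]⟩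

theorem omegaCenterThompson_map_eq (p : ℕ) (D : Subgroup G) :
    (Cfsg.omegaCenterThompson p D).map D.subtype = Cfsg.omegaOne p (thomY p D) := by
  rw [← centerThompsonOf_eq, Cfsg.omegaCenterThompson, ← omegaOne_map D.subtype_injective]
  congr 1
  exact (inf_centralizer_map D.subtype_injective _).symm

theorem normalizer_le_omegaOne (p : ℕ) (K : Subgroup G) :
    normalizer (K : Set G) ≤ normalizer (Cfsg.omegaOne p K : Set G) := fun g hg => by
  refine TransferAlperin.mem_normalizer_of_cj_eq ?_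
  have h := omegaOne_map (f := (MulAut.conj g).toMonoidHom) (MulAut.conj g).injective p K
  rw [show K.map (MulAut.conj g).toMonoidHom = K from TransferAlperin.cj_eq_self hg] at h
  exact h.symm

theorem omegaOne_ne_bot [Finite G] [hp : Fact p.Prime] {K : Subgroup G} (hK : IsPGroup p K)
    (hne : K ≠ ⊥) : Cfsg.omegaOne p K ≠ ⊥ := by
  obtain ⟨z, hz⟩ := exists_prime_orderOf_dvd_card' p
    ((hK.card_eq_or_dvd).resolve_left fun h => hne (card_eq_one.mp h))
  intro h
  have h1 : (z : G) ∈ Cfsg.omegaOne p K :=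
    subset_closure ⟨z.2, by rw [← SubgroupClass.coe_pow, ← hz, pow_orderOf_eq_one]; rfl⟩
  rw [h, mem_bot] at h1
  rw [show z = 1 from Subtype.ext h1, orderOf_one] at hz
  exact hp.out.one_lt.ne hz

/-! ### Stability -/

/-- The preimage of `O_p (G / C(B))`. -/
def actCore (p : ℕ) (B : Subgroup G) [B.Normal] : Subgroup G :=
  (Cfsg.pCore p (G ⧸ centralizer (B : Set G))).comap (QuotientGroup.mk' _)

instance actCore_normal (p : ℕ) (B : Subgroup G) [B.Normal] : (actCore p B).Normal := by
  haveI := HallCore.pCore_normal p (G ⧸ centralizer (B : Set G))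
  exact Normal.comap inferInstance _

theorem centralizer_le_actCore (p : ℕ) (B : Subgroup G) [B.Normal] :
    centralizer (B : Set G) ≤ actCore p B :=
  QuotientGroup.le_comap_mk' _ _

theorem mem_actCore_of_quadratic {B : Subgroup G} [B.Normal] (hst : Cfsg.IsPStableOn p B)
    {A : Subgroup G} (hA : ∀ a ∈ A, ∀ b ∈ A, a * b = b * a)
    (hB : B ≤ normalizer (A : Set G)) {a : G} (ha : a ∈ A) : a ∈ actCore p B := by
  refine hst a ?_
  have h1 : ⁅B, zpowers a⁆ ≤ A := commutator_le.mpr fun b hb c hc => by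
    have hcA : c ∈ A := zpowers_le.mpr ha hc
    rw [commutatorElement_def]
    exact mul_mem ((mem_normalizer_iff.mp (hB hb) c).mp hcA) (inv_mem hcA)
  refine le_bot_iff.mp ((commutator_mono h1 (zpowers_le.mpr ha)).trans ?_)
  exact commutator_le.mpr fun b hb c hc =>
    mem_bot.mpr (commutatorElement_eq_one_iff_commute.mpr (hA b hb c hc))

theorem isPStableOn_of_isNormalizerPStable [Finite G] (hst : Cfsg.IsNormalizerPStable p G)
    (B : Subgroup G) [hBn : B.Normal] (hB : IsPGroup p B) : Cfsg.IsPStableOn p B := by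
  intro g hg
  set N := normalizer (B : Set G) with hN
  set C := centralizer (B : Set G) with hC
  have hgN : g ∈ N := by rw [hN, normalizer_eq_top]; trivial
  have h1 := hst B hB g hgN hg
  let f : N ⧸ C.subgroupOf N →* G ⧸ C :=
    QuotientGroup.map _ _ N.subtype (fun x hx => hx)
  have hf : Function.Surjective f := by
    intro q
    obtain ⟨x, rfl⟩ := QuotientGroup.mk'_surjective C q
    exact ⟨QuotientGroup.mk' _ ⟨x, by rw [hN, normalizer_eq_top]; trivial⟩, rfl⟩
  exact HallCore.map_pCore_le hf (mem_map_of_mem f h1)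

/-- Frattini: `G = C(B) N(P ∩ L)` for `L` the preimage of `O_p (G / C(B))`. -/
theorem centralizer_sup_normalizer [Finite G] [Fact p.Prime] (P : Sylow p G) (B : Subgroup G)
    [B.Normal] :
    centralizer (B : Set G) ⊔ normalizer (((P : Subgroup G) ⊓ actCore p B : Subgroup G) : Set G)
      = ⊤ := by
  set L := actCore p B with hL
  set C := centralizer (B : Set G) with hC
  obtain ⟨Q, hQ⟩ := LocalBasics.exists_sylow_inf P L
  have hQm : (Q : Subgroup L).map L.subtype = (P : Subgroup G) ⊓ L := by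
    rw [hQ, subgroupOf_map_subtype]
  have hfr := Sylow.normalizer_sup_eq_top Q
  rw [hQm] at hfr
  refine top_le_iff.mp (hfr.ge.trans (sup_le le_sup_right ?_))
  intro l hl
  have hπ := QuotientGroup.mk'_surjective C
  have h1 : QuotientGroup.mk' C l ∈ ((P.mapSurjective hπ : Sylow p (G ⧸ C)) : Subgroup (G ⧸ C)) :=
    HallCore.pCore_le_sylow _ hl
  rw [Sylow.coe_mapSurjective] at h1
  obtain ⟨x, hx, hxe⟩ := h1
  obtain ⟨c, hc, hce⟩ := (QuotientGroup.mk'_eq_mk' C).mp hxe
  have hxL : x ∈ L := by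
    change QuotientGroup.mk' C x ∈ Cfsg.pCore p (G ⧸ C)
    rw [hxe]
    exact hl
  rw [← hce]
  exact mul_mem (mem_sup_right (Subgroup.le_normalizer ⟨hx, hxL⟩)) (mem_sup_left hc)

/-- An element commutes past a commutator central in the subgroup generated by the two. -/
theorem commutator_pow_eq_one {b c : G} (h : Commute b ⁅b, c⁆) {n : ℕ} (hb : b ^ n = 1) :
    ⁅b, c⁆ ^ n = 1 := by
  have key : ∀ i : ℕ, b ^ i * c = ⁅b, c⁆ ^ i * c * b ^ i := by
    intro i
    induction i with
    | zero => simp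
    | succ i ih =>
      calc b ^ (i + 1) * c = b * (b ^ i * c) := by rw [pow_succ', mul_assoc]
        _ = (b * ⁅b, c⁆ ^ i) * c * b ^ i := by rw [ih]; group
        _ = ⁅b, c⁆ ^ i * (⁅b, c⁆ * c * b) * b ^ i := by
          rw [(h.pow_right i).eq, commutatorElement_def b c]; group
        _ = ⁅b, c⁆ ^ (i + 1) * c * b ^ (i + 1) := by rw [pow_succ, pow_succ' b]; group
  have := key n
  rw [hb, one_mul, mul_one] at this
  exact mul_right_cancel (by rw [one_mul]; exact this.symm)

theorem commutator_lt_of_pGroup [Finite G] [Fact p.Prime] {B : Subgroup G} (hB : IsPGroup p B)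
    (hne : B ≠ ⊥) : ⁅B, B⁆ < B := by
  refine lt_of_le_of_ne (commutator_le_self B) fun h => hne ?_
  obtain ⟨m, hm⟩ : ∃ m, B.lowerCentralSeries m = ⊥ :=
    (Subgroup.isNilpotent_iff_lowerCentralSeries B).mp hB.isNilpotent
  have : ∀ i, B.lowerCentralSeries i = B := by
    intro i
    induction i with
    | zero => exact Subgroup.lowerCentralSeries_zero _
    | succ i ihi => rw [Subgroup.lowerCentralSeries_succ, ihi, h]
  exact (this m).symm.trans hm

/-- A strongly closed subgroup is normalized by the Sylow subgroup. -/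
theorem le_normalizer_of_isStronglyClosed {D P : Subgroup G} (hD : Cfsg.IsStronglyClosed D P) :
    P ≤ normalizer (D : Set G) :=
  LocalBasics.le_normalizer_of_conj fun x hx d hd =>
    hD.2 d hd x (mul_mem (mul_mem hx (hD.1 hd)) (inv_mem hx))

/-- **Glauberman's ZJ theorem.** -/
theorem thomY_normal [Finite G] [hp : Fact p.Prime] (hp2 : p ≠ 2) (hn : n = 0 ∨ n = p)
    (hst : ∀ (B : Subgroup G) [B.Normal], IsPGroup p B → Cfsg.IsPStableOn p B)
    (hc : centralizer (Cfsg.pCore p G : Set G) ≤ Cfsg.pCore p G)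
    (P : Sylow p G) (D : Subgroup G) (hD : Cfsg.IsStronglyClosed D (P : Subgroup G)) :
    (thomY n D).Normal := by
  set Y := thomY n D with hYdef
  have hYP : Y ≤ (P : Subgroup G) := (thomY_le D).trans hD.1
  have hPY : (P : Subgroup G) ≤ normalizer (Y : Set G) :=
    (le_normalizer_of_isStronglyClosed hD).trans (normalizer_le_thomY D)
  haveI hQn := HallCore.pCore_normal p G
  have hQp : IsPGroup p (Cfsg.pCore p G) := HallCore.isPGroup_pCore p G
  have hQP : Cfsg.pCore p G ≤ (P : Subgroup G) := HallCore.pCore_le_sylow P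
  have hYQ : Y ≤ Cfsg.pCore p G := by
    intro y hy
    have h1 := mem_actCore_of_quadratic (hst _ hQp) (A := Y)
      (fun a ha b hb => thomY_isComm ha hb) (hQP.trans hPY) hy
    have h2 : IsPGroup p (actCore p (Cfsg.pCore p G)) :=
      HallCore.isPGroup_comap_mk' (hQp.to_le hc) (HallCore.isPGroup_pCore p _)
    exact HallCore.le_pCore h2 h1
  suffices key : ∀ (k : ℕ) (B : Subgroup G), Nat.card B = k → B.Normal → IsPGroup p B →
      (B ⊓ Y).Normal by
    simpa [inf_eq_right.mpr hYQ] using key _ _ rfl hQn hQp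
  intro k
  induction k using Nat.strong_induction_on with
  | _ k ih =>
  intro B hk hBn hBp
  have hsmall : ∀ B' : Subgroup G, B' < B → B'.Normal → (B' ⊓ Y).Normal := fun B' hlt hn' =>
    ih _ (hk ▸ Set.Finite.card_lt_card (Set.toFinite _) hlt) B' rfl hn' (hBp.to_le hlt.le)
  by_contra hbad
  have hBne : B ≠ ⊥ := by
    rintro rfl
    exact hbad (by rw [bot_inf_eq]; infer_instance)
  have hBP : B ≤ (P : Subgroup G) := (HallCore.le_pCore hBp).trans hQP
  set Z := B ⊓ Y with hZdef
  -- `B` is generated by the conjugates of `Z`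
  have hgen : normalClosure (Z : Set G) = B := by
    have hle : normalClosure (Z : Set G) ≤ B := normalClosure_le_normal (inf_le_left (b := Y))
    refine eq_of_le_of_not_lt hle fun hlt => hbad ?_
    have h1 : normalClosure (Z : Set G) ⊓ Y = Z :=
      le_antisymm (inf_le_inf_right _ hle) (le_inf subset_normalClosure inf_le_right)
    rw [← h1]
    exact hsmall _ hlt normalClosure_normal
  have hBD : B ≤ D := by
    rw [← hgen, normalClosure, closure_le]
    intro x hx
    obtain ⟨z, hz, hzx⟩ := Group.mem_conjugatesOfSet_iff.mp hx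
    obtain ⟨g, rfl⟩ := isConj_iff.mp hzx
    exact hD.2 z (thomY_le D hz.2) g (hBP (hBn.conj_mem z hz.1 g))
  -- the derived group of `B`
  have hder : ⁅B, B⁆ < B := commutator_lt_of_pGroup hBp hBne
  set K := ⁅B, B⁆ ⊓ Y with hKdef
  haveI hKn : K.Normal := hsmall _ hder inferInstance
  have hZB : ⁅Z, B⁆ ≤ K := by
    refine le_inf (commutator_mono inf_le_left le_rfl) (commutator_le.mpr fun z hz b hb => ?_)
    rw [commutatorElement_def, mul_assoc z, mul_assoc]
    exact mul_mem hz.2 ((mem_normalizer_iff.mp (hPY (hBP hb)) _).mp (inv_mem hz.2))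
  have hBK : ⁅B, B⁆ ≤ K := by
    rw [← QuotientGroup.ker_mk' K, ← Subgroup.map_eq_bot_iff, map_commutator,
      commutator_eq_bot_iff_le_centralizer, map_le_iff_le_comap]
    set M := (centralizer ((B.map (QuotientGroup.mk' K) : Subgroup (G ⧸ K)) : Set (G ⧸ K))).comap
      (QuotientGroup.mk' K) with hM
    haveI : (B.map (QuotientGroup.mk' K)).Normal :=
      hBn.map _ (QuotientGroup.mk'_surjective K)
    haveI : M.Normal := Normal.comap inferInstance _
    conv_lhs => rw [← hgen]
    refine normalClosure_le_normal fun z hz => ?_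
    refine mem_comap.mpr (mem_centralizer_iff.mpr ?_)
    rintro _ ⟨b, hb, rfl⟩
    have h1 : QuotientGroup.mk' K ⁅z, b⁆ = 1 :=
      (QuotientGroup.eq_one_iff _).mpr (hZB (commutator_mem_commutator hz hb))
    rw [map_commutatorElement, commutatorElement_eq_one_iff_commute] at h1
    exact h1.eq.symm
  have hKZ : K ≤ Z := inf_le_inf_right _ hder.le
  -- class two
  have hcls : ⁅⁅B, B⁆, B⁆ = ⊥ := by
    rw [commutator_eq_bot_iff_le_centralizer]
    refine hBK.trans ?_
    rw [le_centralizer_iff]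
    haveI : (centralizer (K : Set G)).Normal := normal_centralizer
    conv_lhs => rw [← hgen]
    exact normalClosure_le_normal fun z hz =>
      mem_centralizer_iff.mpr fun t ht => thomY_isComm ht.2 hz.2
  have hcomB : ∀ t ∈ ⁅B, B⁆, ∀ b ∈ B, Commute b t := fun t ht b hb =>
    mem_centralizer_iff.mp (commutator_eq_bot_iff_le_centralizer.mp hcls ht) b hb
  -- the elements of `B` killed by `n`
  set B1 := closure {b : G | b ∈ B ∧ b ^ n = 1} with hB1
  have hB1B : B1 ≤ B := (closure_le _).mpr fun b hb => hb.1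
  have hB1pow : ∀ b ∈ B1, b ^ n = 1 := by
    intro b hb
    induction hb using closure_induction with
    | mem x hx => exact hx.2
    | one => exact one_pow _
    | mul x y hx hy ihx ihy =>
      rcases hn with hn0 | hnp
      · rw [hn0]; exact pow_zero _
      · rw [hnp] at ihx ihy ⊢
        have hxB := hB1B hx
        have hyB := hB1B hy
        have hzK : ⁅y⁻¹, x⁻¹⁆ ∈ ⁅B, B⁆ :=
          commutator_mem_commutator (inv_mem hyB) (inv_mem hxB)
        have hz : ⁅y⁻¹, x⁻¹⁆ ^ p = 1 :=
          commutator_pow_eq_one (hcomB _ hzK _ (inv_mem hyB)) (by rw [inv_pow, ihy, inv_one])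
        obtain ⟨j, hj⟩ := Nat.Prime.dvd_choose_self hp.out two_ne_zero
          (lt_of_le_of_ne hp.out.two_le (Ne.symm hp2))
        rw [OmegaCoprime.mul_pow_class_two (z := ⁅y⁻¹, x⁻¹⁆)
          (by rw [commutatorElement_def]; group) (hcomB _ hzK _ hxB).symm (hcomB _ hzK _ hyB).symm,
          ihx, ihy, hj, pow_mul, hz, one_pow, one_mul, one_mul]
    | inv x _ ih => rw [inv_pow, ih, inv_one]
  have hB1iff : ∀ b, b ∈ B1 ↔ b ∈ B ∧ b ^ n = 1 :=
    fun b => ⟨fun h => ⟨hB1B h, hB1pow b h⟩, fun h => subset_closure h⟩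
  haveI hB1n : B1.Normal := ⟨fun b hb g => (hB1iff _).mpr
    ⟨hBn.conj_mem b (hB1B hb) g, by rw [conj_pow, hB1pow b hb, mul_one, mul_inv_cancel]⟩⟩
  have hB1p : IsPGroup p B1 := hBp.to_le hB1B
  have hB1A : ∀ A ∈ maxFam n D, ⁅B1, B1⁆ ≤ A := by
    intro A hA
    refine commutator_le.mpr fun b hb c hc' => ?_
    have ht := commutator_mem_commutator (hB1B hb) (hB1B hc')
    have htY : ⁅b, c⁆ ∈ Y := (hBK ht).2
    exact mem_of_commute hA (thomY_le D htY)
      (commutator_pow_eq_one (hcomB _ ht b (hB1B hb)) (hB1pow b hb))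
      fun a ha => thomY_comm hA htY ha
  have hB1cls : ⁅⁅B1, B1⁆, B1⁆ = ⊥ :=
    le_bot_iff.mp (hcls ▸ commutator_mono (commutator_mono hB1B hB1B) hB1B)
  -- the action kernels of `B1` and `B`
  set L := actCore p B with hLdef
  have hLB1 : actCore p B1 ≤ L := by
    set C := centralizer (B : Set G) with hC
    have hCC : ∀ c ∈ centralizer (B1 : Set G), ∃ i, c ^ p ^ i ∈ C := by
      intro c hc'
      obtain ⟨i, m, hm, hcm⟩ :=
        Nat.exists_eq_pow_mul_and_not_dvd (orderOf_pos c).ne' p hp.out.ne_one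
      refine ⟨i, mem_centralizer_iff.mpr fun b hb => ?_⟩
      have hcop : (orderOf (c ^ p ^ i)).Coprime p := by
        rw [orderOf_pow_of_dvd (pow_ne_zero _ hp.out.ne_zero) (hcm ▸ dvd_mul_right _ _), hcm,
          Nat.mul_div_cancel_left _ (pow_pos hp.out.pos i)]
        exact (hp.out.coprime_iff_not_dvd.mpr hm).symm
      refine (OmegaCoprime.commute_of_forall_pow_eq_one hp2 hcop B hBp
        (fun x hx => hBn.conj_mem x hx _) (fun x hx hxp => ?_) b hb).symm.eq
      have hx1 : x ∈ B1 := by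
        refine (hB1iff x).mpr ⟨hx, ?_⟩
        rcases hn with hn0 | hnp
        · rw [hn0]; exact pow_zero x
        · rw [hnp]; exact hxp
      have hci : c ^ p ^ i ∈ centralizer (B1 : Set G) := pow_mem hc' _
      exact (mem_centralizer_iff.mp hci x hx1).symm
    refine map_le_iff_le_comap.mp ?_
    haveI : ((actCore p B1).map (QuotientGroup.mk' C)).Normal :=
      (actCore_normal p B1).map _ (QuotientGroup.mk'_surjective C)
    refine HallCore.le_pCore ?_
    rintro ⟨_, g, hg, rfl⟩
    obtain ⟨i, hi⟩ := HallCore.isPGroup_pCore p (G ⧸ centralizer (B1 : Set G)) ⟨_, hg⟩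
    have hi' : g ^ p ^ i ∈ centralizer (B1 : Set G) := by
      rw [← QuotientGroup.eq_one_iff]
      exact congrArg Subtype.val hi
    obtain ⟨j, hj⟩ := hCC _ hi'
    refine ⟨i + j, Subtype.ext ?_⟩
    rw [SubgroupClass.coe_pow, OneMemClass.coe_one]
    change (QuotientGroup.mk' C g) ^ p ^ (i + j) = 1
    rw [← map_pow, QuotientGroup.mk'_apply, QuotientGroup.eq_one_iff, pow_add, pow_mul]
    exact hj
  have hAL : ∀ A ∈ maxFam n D, B1 ≤ normalizer (A : Set G) → A ≤ L := fun A hA hnA a ha =>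
    hLB1 (mem_actCore_of_quadratic (hst B1 hB1p) hA.1.comm hnA ha)
  -- replacement inside `D`
  have hrep : ∀ A ∈ maxFam n D, ¬ B1 ≤ normalizer (A : Set G) →
      ∃ As ∈ maxFam n D, A ⊓ B1 < As ⊓ B1 ∧ As ≤ normalizer (A : Set G) := by
    intro A hA hnot
    obtain ⟨As, hc1, hcard, hlt, hnorm, -, hle, hpow, -⟩ :=
      GlaubermanReplace.replacement hp2 (A := A) (B := B1)
        (P.isPGroup'.to_le (sup_le (hA.1.le.trans hD.1) (hB1B.trans hBP)))
        ⟨⟨fun a b => Subtype.ext (hA.1.comm a a.2 b b.2)⟩⟩ hB1cls (hB1A A hA)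
        (le_normalizer_of_normal : A ≤ normalizer (B1 : Set G)) hnot
    refine ⟨As, ⟨⟨hle.trans (sup_le hA.1.le (hB1B.trans hBD)),
      fun a ha b hb => congrArg Subtype.val (hc1.is_comm.comm (⟨a, ha⟩ : As) ⟨b, hb⟩),
      hpow n hA.1.pow⟩, fun A' hA' => hcard ▸ hA.2 A' hA'⟩, hlt, hnorm⟩
  obtain ⟨A0, hA0, hA0max⟩ := Set.exists_max_image (maxFam n D)
    (fun A => Nat.card (A ⊓ B1 : Subgroup G)) (Set.toFinite _) (exists_maxFam n D)
  have hA0L : A0 ≤ L := hAL A0 hA0 <| by
    by_contra h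
    obtain ⟨As, hAs, hlt, -⟩ := hrep A0 hA0 h
    exact absurd (hA0max As hAs) (not_le.mpr (Set.Finite.card_lt_card (Set.toFinite _) hlt))
  -- Frattini
  set PL := (P : Subgroup G) ⊓ L with hPL
  set DL := D ⊓ L with hDL
  have hN : normalizer (PL : Set G) ≤ normalizer (DL : Set G) := by
    refine LocalBasics.le_normalizer_of_conj fun g hg d hd => ?_
    have h1 : g * d * g⁻¹ ∈ PL := (mem_normalizer_iff.mp hg d).mp ⟨hD.1 hd.1, hd.2⟩
    exact ⟨hD.2 d hd.1 g h1.1, h1.2⟩
  have hnormal : ∀ X : Subgroup G, X ≤ B → normalizer (DL : Set G) ≤ normalizer (X : Set G) →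
      X.Normal := by
    intro X hXB hX
    rw [← normalizer_eq_top_iff, ← top_le_iff, ← centralizer_sup_normalizer P B]
    exact sup_le (OffendersReplace.le_normalizer_of_commute fun c hc' x hx =>
      (mem_centralizer_iff.mp hc' x (hXB hx)).symm) (hN.trans hX)
  have hfam : ∀ A ∈ maxFam n D, A ≤ L → A ∈ maxFam n DL := fun A hA hle =>
    ⟨⟨le_inf hA.1.le hle, hA.1.comm, hA.1.pow⟩,
      fun A' hA' => hA.2 A' ⟨hA'.le.trans inf_le_left, hA'.comm, hA'.pow⟩⟩
  have hfam' : ∀ A ∈ maxFam n DL, A ∈ maxFam n D := fun A hA =>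
    ⟨⟨hA.1.le.trans inf_le_left, hA.1.comm, hA.1.pow⟩,
      fun A' hA' => (hA0.2 A' hA').trans (hA.2 A0 (hfam A0 hA0 hA0L).1)⟩
  have hJle : thomJ n DL ≤ thomJ n D := sSup_le fun A hA => le_thomJ (hfam' A hA)
  by_cases hall : ∀ A ∈ maxFam n D, A ≤ L
  · have hJeq : thomJ n DL = thomJ n D :=
      le_antisymm hJle (sSup_le fun A hA => le_thomJ (hfam A hA (hall A hA)))
    refine hbad (hnormal Z inf_le_left ?_)
    have hYeq : thomY n DL = Y := by rw [hYdef, thomY, thomY, hJeq]
    exact LocalBasics.le_normalizer_inf (le_normalizer_of_normal)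
      (hYeq ▸ normalizer_le_thomY DL)
  · -- `B` centralizes `J(DL)`
    set X := B ⊓ centralizer (thomJ n DL : Set G) with hX
    haveI hXn : X.Normal := hnormal X inf_le_left (LocalBasics.le_normalizer_inf
      le_normalizer_of_normal (LocalBasics.le_normalizer_centralizer (normalizer_le_thomJ DL)))
    have hBX : B ≤ centralizer (thomJ n DL : Set G) := by
      conv_lhs => rw [← hgen]
      refine (normalClosure_le_normal (N := X) fun z hz => ⟨hz.1, ?_⟩).trans inf_le_right
      exact centralizer_le hJle hz.2.2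
    push Not at hall
    obtain ⟨A1, ⟨hA1, hA1L⟩, hA1max⟩ := Set.exists_max_image {A ∈ maxFam n D | ¬ A ≤ L}
      (fun A => Nat.card (A ⊓ B1 : Subgroup G)) (Set.toFinite _)
      (by obtain ⟨A, hA, hA'⟩ := hall; exact ⟨A, hA, hA'⟩)
    have hnot : ¬ B1 ≤ normalizer (A1 : Set G) := fun h => hA1L (hAL A1 hA1 h)
    obtain ⟨As, hAs, hlt, hAsN⟩ := hrep A1 hA1 hnot
    have hAsL : As ≤ L := by
      by_contra h
      exact absurd (hA1max As ⟨hAs, h⟩) (not_le.mpr (Set.Finite.card_lt_card (Set.toFinite _) hlt))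
    refine hnot (fun b hb => hAsN (mem_of_commute hAs (hBD (hB1B hb)) (hB1pow b hb) fun a ha => ?_))
    exact mem_centralizer_iff.mp (hBX (hB1B hb)) a (le_thomJ (hfam As hAs hAsL) ha)

/-- For `D = P` the subgroup is even characteristic. -/
theorem thomY_characteristic [Finite G] [hp : Fact p.Prime] (hp2 : p ≠ 2) (hn : n = 0 ∨ n = p)
    (hst : ∀ (B : Subgroup G) [B.Normal], IsPGroup p B → Cfsg.IsPStableOn p B)
    (hc : centralizer (Cfsg.pCore p G : Set G) ≤ Cfsg.pCore p G) (P : Sylow p G) :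
    (thomY n (P : Subgroup G)).Characteristic := by
  have hN := thomY_normal hp2 hn hst hc P (P : Subgroup G) ⟨le_rfl, fun _ _ _ h => h⟩
  rw [characteristic_iff_map_eq]
  intro φ
  have hφP : ∃ Q : Sylow p G, (Q : Subgroup G) = (P : Subgroup G).map φ.toMonoidHom :=
    ⟨P.mapSurjective φ.surjective, Sylow.coe_mapSurjective _ _⟩
  obtain ⟨Q, hQ⟩ := hφP
  obtain ⟨g, hg⟩ := MulAction.exists_smul_eq G P Q
  rw [← thomY_map φ.injective, ← hQ, ← hg, TransferAlperin.smul_coe_eq_cj,
    TransferAlperin.cj, thomY_map (MulAut.conj g).injective]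
  exact TransferAlperin.cj_eq_self (by rw [normalizer_eq_top]; trivial)

end Cfsg.Agent.GlaubermanZJ
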