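import Mathlib
import Cfsg.Prelude.Def_PLocal
import Cfsg.Prelude.Def_Local
import Cfsg.Prelude.Def_LocalEven
import Cfsg.Agent.Lib.GlaubermanZJ
import Cfsg.Agent.Lib.CoprimeSZ
import Cfsg.Agent.Lib.CoprimeAction
import Cfsg.Agent.Lib.Offenders

/-!
# Handling `p`-stability

Lifting through normal `p'`-subgroups, passing to subgroups, and going from elementary abelian
normal subgroups to all normal `p`-subgroups.
-/

set_option autoImplicit false

namespace Cfsg.Agent.GlaubermanStable

open Subgroup GlaubermanZJ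
open scoped commutatorElement

universe u v

variable {G : Type u} {X : Type v} [Group G] [Group X] {p : ℕ}

theorem exists_pow_coprime [Finite G] [hp : Fact p.Prime] (g : G) :
    ∃ i, (orderOf (g ^ p ^ i)).Coprime p := by
  obtain ⟨i, m, hm, hgm⟩ :=
    Nat.exists_eq_pow_mul_and_not_dvd (orderOf_pos g).ne' p hp.out.ne_one
  refine ⟨i, ?_⟩
  rw [orderOf_pow_of_dvd (pow_ne_zero _ hp.out.ne_zero) (hgm ▸ dvd_mul_right _ _), hgm,
    Nat.mul_div_cancel_left _ (pow_pos hp.out.pos i)]
  exact (hp.out.coprime_iff_not_dvd.mpr hm).symm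

theorem coprime_pow {g : G} (hg : (orderOf g).Coprime p) (n : ℕ) :
    (orderOf (g ^ n)).Coprime p := hg.coprime_dvd_left (orderOf_pow_dvd n)

/-- A quadratic element of order prime to `p` centralizes. -/
theorem mem_centralizer_of_quadratic [Fact p.Prime] {B : Subgroup G} [hBn : B.Normal]
    (hB : IsPGroup p B) {a h : G} (hq : ⁅⁅B, zpowers a⁆, zpowers a⁆ = ⊥) (hh : h ∈ zpowers a)
    (hcop : (orderOf h).Coprime p) : h ∈ centralizer (B : Set G) := by
  refine mem_centralizer_iff.mpr fun x hx => ?_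
  refine (OmegaCoprime.commute_of_fixed_comms hB (fun y hy => hBn.conj_mem y hy h) hcop
    (fun y hy => ?_) x hx).eq.symm
  have h1 : ⁅y⁻¹, h⁆ ∈ ⁅B, zpowers a⁆ := commutator_mem_commutator (inv_mem hy) hh
  have h2 := mem_centralizer_iff.mp (commutator_eq_bot_iff_le_centralizer.mp hq h1) h hh
  have he : y⁻¹ * (h * y * h⁻¹) = ⁅y⁻¹, h⁆ := by rw [commutatorElement_def]; group
  rw [he]
  exact h2

theorem exists_pow_mem_centralizer [Finite G] {B : Subgroup G} [B.Normal] {g : G}
    (hg : g ∈ actCore p B) : ∃ i, g ^ p ^ i ∈ centralizer (B : Set G) := by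
  obtain ⟨i, hi⟩ := HallCore.isPGroup_pCore p (G ⧸ centralizer (B : Set G)) ⟨_, hg⟩
  refine ⟨i, ?_⟩
  rw [← QuotientGroup.eq_one_iff]
  exact congrArg Subtype.val hi

theorem le_actCore {B D : Subgroup G} [Finite G] [B.Normal] [hD : D.Normal]
    (h : ∀ g ∈ D, ∃ i, g ^ p ^ i ∈ centralizer (B : Set G)) : D ≤ actCore p B := by
  refine map_le_iff_le_comap.mp ?_
  haveI : (D.map (QuotientGroup.mk' (centralizer (B : Set G)))).Normal :=
    hD.map _ (QuotientGroup.mk'_surjective _)
  refine HallCore.le_pCore ?_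
  rintro ⟨_, g, hg, rfl⟩
  obtain ⟨i, hi⟩ := h g hg
  refine ⟨i, Subtype.ext ?_⟩
  rw [SubgroupClass.coe_pow, OneMemClass.coe_one]
  change (QuotientGroup.mk' (centralizer (B : Set G)) g) ^ p ^ i = 1
  rw [← map_pow, QuotientGroup.mk'_apply, QuotientGroup.eq_one_iff]
  exact hi

/-- From elementary abelian to arbitrary normal `p`-subgroups, for a class closed under
quotients. -/
theorem isPStableOn_of_elementary [hp : Fact p.Prime] (𝒞 : ∀ (Y : Type u) [Group Y], Prop)
    (hquot : ∀ (Y : Type u) [Group Y] [Finite Y] (N : Subgroup Y) [N.Normal],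
      IsPGroup p N → 𝒞 Y → 𝒞 (Y ⧸ N))
    (hV : ∀ (Y : Type u) [Group Y] [Finite Y], 𝒞 Y → ∀ (V : Subgroup Y) [V.Normal],
      Cfsg.IsElementaryAbelian p V → Cfsg.IsPStableOn p V) :
    ∀ (Y : Type u) [Group Y] [Finite Y], 𝒞 Y → ∀ (P : Subgroup Y) [P.Normal],
      IsPGroup p P → Cfsg.IsPStableOn p P := by
  suffices key : ∀ (k : ℕ) (Y : Type u) [Group Y] [Finite Y], 𝒞 Y → ∀ (P : Subgroup Y) [P.Normal],
      Nat.card P = k → IsPGroup p P → Cfsg.IsPStableOn p P from
    fun Y _ _ hY P _ hP => key _ Y hY P rfl hP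
  intro k
  induction k using Nat.strong_induction_on with
  | _ k ih =>
  intro Y _ _ hY P hPn hk hP a ha
  rcases eq_or_ne P ⊥ with rfl | hne
  · have h1 : a ∈ centralizer ((⊥ : Subgroup Y) : Set Y) := mem_centralizer_iff.mpr fun x hx => by
      rw [SetLike.mem_coe, mem_bot] at hx
      rw [hx, one_mul, mul_one]
    exact centralizer_le_actCore p _ h1
  set V := Cfsg.omegaOne p (P ⊓ centralizer (P : Set Y)) with hVdef
  have hVP : V ≤ P := (closure_le _).mpr fun y hy => hy.1.1
  haveI hVn : V.Normal := by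
    rw [← normalizer_eq_top_iff, ← top_le_iff, ← normalizer_eq_top_iff.mpr
      (inferInstance : (P ⊓ centralizer (P : Set Y)).Normal)]
    exact normalizer_le_omegaOne p _
  have hVea : Cfsg.IsElementaryAbelian p V :=
    Offenders.omegaOne_ea fun x hx y hy => (hx.2 y hy.1).symm
  have hVne : V ≠ ⊥ := by
    refine omegaOne_ne_bot (hP.to_le inf_le_left) fun h => ?_
    haveI : Nontrivial P := (nontrivial_iff_ne_bot P).mpr hne
    haveI := hP.center_nontrivial
    obtain ⟨z, hz⟩ := exists_ne (1 : Subgroup.center P)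
    have h1 : ((z : P) : Y) ∈ P ⊓ centralizer (P : Set Y) :=
      ⟨(z : P).2, mem_centralizer_iff.mpr fun y hy =>
        congrArg Subtype.val (mem_center_iff.mp z.2 ⟨y, hy⟩)⟩
    rw [h, mem_bot] at h1
    exact hz (Subtype.ext (Subtype.ext h1))
  set π := QuotientGroup.mk' V with hπ
  haveI hPb : (P.map π).Normal := hPn.map _ (QuotientGroup.mk'_surjective V)
  have haV : a ∈ actCore p V := by
    refine hV Y hY V hVea a (le_bot_iff.mp ?_)
    rw [← ha]
    exact commutator_mono (commutator_mono hVP le_rfl) le_rfl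
  have hlt : Nat.card (P.map π) < k := by
    rw [← hk, ← HallCore.card_map_mk'_mul V P hVP]
    exact lt_mul_of_one_lt_right Nat.card_pos
      (Finite.one_lt_card_iff_nontrivial.mpr ((nontrivial_iff_ne_bot V).mpr hVne))
  have hab : π a ∈ actCore p (P.map π) := by
    refine ih _ hlt _ (hquot Y V (hP.to_le hVP) hY) (P.map π) rfl (hP.map π) (π a) ?_
    rw [← MonoidHom.map_zpowers, ← map_commutator, ← map_commutator, ha, Subgroup.map_bot]
  haveI : ((actCore p (P.map π)).comap π).Normal := Normal.comap inferInstance _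
  refine le_actCore (D := actCore p V ⊓ (actCore p (P.map π)).comap π) (fun g hg => ?_) ⟨haV, hab⟩
  obtain ⟨i, hi⟩ := exists_pow_mem_centralizer hg.1
  obtain ⟨j, hj⟩ := exists_pow_mem_centralizer (show π g ∈ actCore p (P.map π) from hg.2)
  obtain ⟨l, hl⟩ := exists_pow_coprime (p := p) g
  refine ⟨i + j + l, ?_⟩
  have hcop : (orderOf (g ^ p ^ (i + j + l))).Coprime p := by
    rw [show p ^ (i + j + l) = p ^ l * p ^ (i + j) by ring, pow_mul]
    exact coprime_pow hl _
  have hcV : g ^ p ^ (i + j + l) ∈ centralizer (V : Set Y) := by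
    rw [show p ^ (i + j + l) = p ^ i * p ^ (j + l) by ring, pow_mul]
    exact pow_mem hi _
  have hcP : π (g ^ p ^ (i + j + l)) ∈ centralizer ((P.map π : Subgroup (Y ⧸ V)) : Set (Y ⧸ V)) := by
    rw [map_pow, show p ^ (i + j + l) = p ^ j * p ^ (i + l) by ring, pow_mul]
    exact pow_mem hj _
  set h := g ^ p ^ (i + j + l)
  refine mem_centralizer_iff.mpr fun x hx => ?_
  refine (OmegaCoprime.commute_of_fixed_comms hP (fun y hy => hPn.conj_mem y hy h) hcop
    (fun y hy => ?_) x hx).eq.symm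
  have h1 : y⁻¹ * (h * y * h⁻¹) ∈ V := by
    rw [← QuotientGroup.eq_one_iff]
    change π (y⁻¹ * (h * y * h⁻¹)) = 1
    rw [map_mul, map_mul, map_mul, map_inv, map_inv,
      ← mem_centralizer_iff.mp hcP (π y) (mem_map_of_mem π hy)]
    group
  exact (mem_centralizer_iff.mp hcV _ h1).symm

/-! ### Lifting through a normal `p'`-subgroup -/

theorem inf_eq_bot_of_isPGroup [Finite G] [hp : Fact p.Prime] {A K : Subgroup G}
    (hA : IsPGroup p A) (hK : (Nat.card K).Coprime p) : A ⊓ K = ⊥ := by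
  obtain ⟨k, hk⟩ := IsPGroup.iff_card.mp hA
  exact (disjoint_of_coprime_natCard (hk ▸ hK.symm.pow_left k)).eq_bot

/-- A `p`-subgroup of a quotient is the image of a `p`-subgroup. -/
theorem exists_isPGroup_map_eq [Finite G] [Fact p.Prime] {π : G →* X}
    (hπ : Function.Surjective π) (P : Sylow p G) (B : Subgroup X) (hBn : B.Normal)
    (hB : IsPGroup p B) : ((P : Subgroup G) ⊓ B.comap π).map π = B := by
  refine le_antisymm ((map_mono inf_le_right).trans (map_comap_eq_self_of_surjective hπ B).le) ?_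
  intro b hb
  haveI : Finite X := Finite.of_surjective π hπ
  have h1 : b ∈ ((P.mapSurjective hπ : Sylow p X) : Subgroup X) :=
    HallCore.pCore_le_sylow _ (HallCore.le_pCore (hN := hBn) hB hb)
  rw [Sylow.coe_mapSurjective] at h1
  obtain ⟨x, hx, rfl⟩ := h1
  exact ⟨x, ⟨hx, hb⟩, rfl⟩

theorem exists_isPGroup_map_eq' [Finite G] [Fact p.Prime] {π : G →* X}
    (hπ : Function.Surjective π) (B : Subgroup X) (hB : IsPGroup p B) :
    ∃ A : Subgroup G, IsPGroup p A ∧ A.map π = B := by
  obtain ⟨Q⟩ : Nonempty (Sylow p ↥(B.comap π)) := inferInstance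
  have hf : Function.Surjective (π.subgroupComap B) := by
    rintro ⟨b, hb⟩
    obtain ⟨g, rfl⟩ := hπ b
    exact ⟨⟨g, hb⟩, rfl⟩
  refine ⟨(Q : Subgroup (B.comap π)).map (B.comap π).subtype, Q.isPGroup'.map _, ?_⟩
  haveI : Finite X := Finite.of_surjective π hπ
  have hT : ((Q.mapSurjective hf : Sylow p B) : Subgroup B) = ⊤ :=
    ((Q.mapSurjective hf).is_maximal' (hB.of_equiv topEquiv.symm) le_top).symm
  rw [Sylow.coe_mapSurjective] at hT
  conv_rhs => rw [← range_subtype B, MonoidHom.range_eq_map, ← hT, Subgroup.map_map]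
  rw [Subgroup.map_map]
  rfl

/-- `N(Ā)` is the image of `N(A)`. -/
theorem exists_mem_normalizer_lift [Finite G] [hp : Fact p.Prime] {π : G →* X}
    (hK : (Nat.card π.ker).Coprime p) {A : Subgroup G} (hA : IsPGroup p A) {y : G}
    (hy : π y ∈ normalizer ((A.map π : Subgroup X) : Set X)) :
    ∃ r ∈ π.ker, r * y ∈ normalizer (A : Set G) := by
  have hle : A.map (MulAut.conj y).toMonoidHom ≤ π.ker ⊔ A := by
    rintro _ ⟨a, ha, rfl⟩
    obtain ⟨b, hb, hbe⟩ := (mem_normalizer_iff.mp hy (π a)).mp ⟨a, ha, rfl⟩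
    rw [← map_inv, ← map_mul, ← map_mul] at hbe
    have h1 : y * a * y⁻¹ * b⁻¹ ∈ π.ker := by
      rw [MonoidHom.mem_ker, map_mul _ _ b⁻¹, map_inv _ b, hbe, mul_inv_cancel]
    change y * a * y⁻¹ ∈ π.ker ⊔ A
    simpa using mul_mem (mem_sup_left h1) (mem_sup_right hb : b ∈ π.ker ⊔ A)
  obtain ⟨k, hk⟩ := IsPGroup.iff_card.mp hA
  obtain ⟨r, hr, he⟩ := CoprimeSZ.exists_conj_of_card_eq (N := π.ker)
    (le_normalizer_of_normal : A ≤ normalizer (π.ker : Set G)) (hk ▸ hK.symm.pow_left k)
    (Or.inl (CoprimeAction.isSolvable_of_isPGroup hA)) hle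
    (card_map_of_injective (MulAut.conj y).injective)
  rw [CoprimeSZ.conj_smul_eq_map] at he
  refine ⟨r⁻¹, inv_mem hr, TransferAlperin.mem_normalizer_of_cj_eq ?_⟩
  rw [TransferAlperin.cj_mul]
  change TransferAlperin.cj r⁻¹ (A.map (MulAut.conj y).toMonoidHom) = A
  rw [← he]
  exact TransferAlperin.cj_inv_cj r A

/-- `p`-stability of `G` gives stability on the normal `p`-subgroups of `G / O_{p'}(G)`. -/
theorem isPStableOn_quotient_of_isPStable [Finite G] [hp : Fact p.Prime]
    (hs : Cfsg.IsPStable p G) (B : Subgroup (G ⧸ Cfsg.pPrimeCore p G)) [hBn : B.Normal]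
    (hB : IsPGroup p B) : Cfsg.IsPStableOn p B := by
  set K := Cfsg.pPrimeCore p G with hKdef
  set π := QuotientGroup.mk' K with hπdef
  intro a ha
  have hπ : Function.Surjective π := QuotientGroup.mk'_surjective K
  have hker : (Nat.card π.ker).Coprime p := by
    rw [hπdef, QuotientGroup.ker_mk']
    exact HallCore.coprime_card_pPrimeCore p G
  obtain ⟨P0⟩ : Nonempty (Sylow p G) := inferInstance
  set PB := (P0 : Subgroup G) ⊓ B.comap π with hPB
  have hPBmap : PB.map π = B := exists_isPGroup_map_eq hπ P0 B hBn hB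
  have hPBp : IsPGroup p PB := P0.isPGroup'.to_inf_left
  -- the `p`-part of `a`
  obtain ⟨y0, hy0⟩ := hπ a
  obtain ⟨r, hr, hyN⟩ := exists_mem_normalizer_lift hker hPBp (y := y0)
    (by rw [hPBmap, normalizer_eq_top]; trivial)
  have hya : π (r * y0) = π y0 := by rw [map_mul, MonoidHom.mem_ker.mp hr, one_mul]
  set y := r * y0
  rw [← hy0, ← hya] at ha ⊢
  obtain ⟨i, hi⟩ := exists_pow_coprime (p := p) (π y)
  have hci := mem_centralizer_of_quadratic hB ha (pow_mem (mem_zpowers _) _) hi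
  obtain ⟨j, m, hm, hym⟩ :=
    Nat.exists_eq_pow_mul_and_not_dvd (orderOf_pos y).ne' p hp.out.ne_one
  set e := m ^ Nat.totient (p ^ i) with he
  have hmdvd : m ∣ e := dvd_pow_self m (Nat.totient_pos.mpr (pow_pos hp.out.pos i)).ne'
  set y1 := y ^ e with hy1
  have hy1p : IsPGroup p (zpowers y1) := by
    rintro ⟨_, n, rfl⟩
    refine ⟨j, Subtype.ext ?_⟩
    rw [SubgroupClass.coe_pow, OneMemClass.coe_one, ← zpow_natCast, ← zpow_mul, mul_comm,
      zpow_mul, zpow_natCast, hy1, ← pow_mul]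
    have h1 : orderOf y ∣ e * p ^ j := by
      rw [hym, mul_comm]
      exact Nat.mul_dvd_mul_right hmdvd _
    rw [orderOf_dvd_iff_pow_eq_one.mp h1, one_zpow]
  have hy1N : y1 ∈ normalizer (PB : Set G) := pow_mem hyN _
  have hmk : (QuotientGroup.mk (π y) : (G ⧸ K) ⧸ centralizer (B : Set (G ⧸ K))) =
      QuotientGroup.mk (π y1) := by
    rw [hy1, map_pow, ← QuotientGroup.mk'_apply, ← QuotientGroup.mk'_apply, map_pow]
    conv_lhs => rw [← pow_one (QuotientGroup.mk' _ (π y))]
    rw [pow_eq_pow_iff_modEq]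
    refine ((Nat.ModEq.pow_totient
      ((Nat.Coprime.pow_right i ((hp.out.coprime_iff_not_dvd.mpr hm).symm)))).symm).of_dvd ?_
    refine orderOf_dvd_of_pow_eq_one ?_
    rw [← map_pow, QuotientGroup.mk'_apply, QuotientGroup.eq_one_iff]
    exact hci
  have hA : ∀ b ∈ zpowers y1, ∀ x ∈ PB, b * x * b⁻¹ ∈ PB := fun b hb x hx =>
    (mem_normalizer_iff.mp (zpowers_le.mpr hy1N hb) x).mp hx
  have hquad : ⁅⁅PB, zpowers y1⁆, zpowers y1⁆ = ⊥ := by
    have hcl : ∀ S : Subgroup G, S ≤ PB → ⁅S, zpowers y1⁆ ≤ PB := fun S hS =>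
      commutator_le.mpr fun x hx b hb => by
        rw [commutatorElement_def, mul_assoc x, mul_assoc]
        exact mul_mem (hS hx) (hA b hb _ (inv_mem (hS hx)))
    have h1 : ⁅⁅PB, zpowers y1⁆, zpowers y1⁆ ≤ π.ker := by
      rw [← Subgroup.map_eq_bot_iff, map_commutator, map_commutator, MonoidHom.map_zpowers, hPBmap]
      refine le_bot_iff.mp ((commutator_mono (commutator_mono le_rfl ?_) ?_).trans ha.le) <;>
      · rw [zpowers_le, hy1, map_pow]
        exact pow_mem (mem_zpowers _) _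
    rw [← le_bot_iff, ← inf_eq_bot_of_isPGroup hPBp hker]
    exact le_inf (hcl _ (hcl _ le_rfl)) h1
  have hPBU : PB ≤ Cfsg.pPrimePCore p G := fun x hx =>
    HallCore.le_pCore hB (show π x ∈ B from hx.2)
  have hKPB : (K ⊔ PB).Normal := by
    have : K ⊔ PB = B.comap π := by
      rw [← hPBmap, Subgroup.comap_map_eq, hπdef, QuotientGroup.ker_mk', sup_comm]
    rw [this]
    exact hBn.comap _
  set N := normalizer (PB : Set G) with hN
  set C := (centralizer (PB : Set G)).subgroupOf N with hC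
  have hconc := hs.2.2 (zpowers y1) PB hy1p hPBp hA hPBU hKPB hquad
    (mem_map_of_mem (QuotientGroup.mk' C)
      (show (⟨y1, hy1N⟩ : N) ∈ (zpowers y1).subgroupOf N from mem_zpowers y1))
  let f : N ⧸ C →* (G ⧸ K) ⧸ centralizer (B : Set (G ⧸ K)) :=
    QuotientGroup.map _ _ (π.comp N.subtype) (fun x hx => by
      rw [mem_comap, ← hPBmap, mem_centralizer_iff]
      rintro _ ⟨z, hz, rfl⟩
      change π z * π (x : G) = π (x : G) * π z
      rw [← map_mul, ← map_mul, mem_centralizer_iff.mp (mem_subgroupOf.mp hx) z hz])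
  have hf : Function.Surjective f := by
    intro q
    obtain ⟨z, rfl⟩ := QuotientGroup.mk'_surjective _ q
    obtain ⟨w, rfl⟩ := hπ z
    obtain ⟨r', hr', hwN⟩ := exists_mem_normalizer_lift hker hPBp (y := w)
      (by rw [hPBmap, normalizer_eq_top]; trivial)
    refine ⟨QuotientGroup.mk' _ ⟨r' * w, hwN⟩, ?_⟩
    change QuotientGroup.mk' (centralizer (B : Set (G ⧸ K))) (π (r' * w)) = _
    rw [map_mul π, MonoidHom.mem_ker.mp hr', one_mul]
  rw [hmk]
  exact HallCore.map_pCore_le hf (mem_map_of_mem f hconc)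

/-! ### Heredity of the normalizer form -/

theorem isNormalizerPStable_subgroup [Finite G] (hst : Cfsg.IsNormalizerPStable p G)
    (H : Subgroup G) : Cfsg.IsNormalizerPStable p H := by
  intro P hP g hg hq
  set P' := P.map H.subtype with hP'
  set N := normalizer (P : Set H)
  set C := (centralizer (P : Set H)).subgroupOf N
  set N' := normalizer (P' : Set G)
  set C' := (centralizer (P' : Set G)).subgroupOf N'
  have hg' : (g : G) ∈ N' := le_normalizer_map H.subtype (mem_map_of_mem _ hg)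
  have hq' : ⁅⁅P', zpowers (g : G)⁆, zpowers (g : G)⁆ = ⊥ := by
    rw [hP', show (g : G) = H.subtype g from rfl, ← MonoidHom.map_zpowers, ← map_commutator,
      ← map_commutator, hq, Subgroup.map_bot]
  have h1 := hst P' (hP.map _) g hg' hq'
  let f : N ⧸ C →* N' ⧸ C' :=
    QuotientGroup.map C C' ((H.subtype.comp N.subtype).codRestrict N'
      (fun x => le_normalizer_map H.subtype (mem_map_of_mem _ x.2))) (fun x hx => by
      refine mem_subgroupOf.mpr (mem_centralizer_iff.mpr ?_)
      rintro _ ⟨z, hz, rfl⟩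
      exact congrArg Subtype.val (mem_centralizer_iff.mp hx z hz))
  have hf : Function.Injective f := by
    rw [injective_iff_map_eq_one]
    intro q hq1
    obtain ⟨x, rfl⟩ := QuotientGroup.mk'_surjective C q
    refine (QuotientGroup.eq_one_iff x).mpr (mem_centralizer_iff.mpr fun z hz => ?_)
    have h0 : ((H.subtype.comp N.subtype).codRestrict N'
        (fun y => le_normalizer_map H.subtype (mem_map_of_mem _ y.2)) x) ∈ C' :=
      (QuotientGroup.eq_one_iff _).mp hq1
    have h2 := mem_centralizer_iff.mp (mem_subgroupOf.mp h0) (z : G)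
      (mem_map_of_mem H.subtype hz)
    exact Subtype.ext h2
  haveI : ((Cfsg.pCore p (N' ⧸ C')).comap f).Normal := Normal.comap inferInstance _
  exact HallCore.le_pCore
    ((HallCore.isPGroup_pCore p _).comap_of_injective f hf) h1

theorem isNormalizerPStable_of_surjective [Finite G] [hp : Fact p.Prime] {π : G →* X}
    (hπ : Function.Surjective π) (hK : (Nat.card π.ker).Coprime p)
    (hst : Cfsg.IsNormalizerPStable p G) : Cfsg.IsNormalizerPStable p X := by
  haveI : Finite X := Finite.of_surjective π hπ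
  intro P hP z hz hq
  obtain ⟨A, hA, rfl⟩ := exists_isPGroup_map_eq' hπ P hP
  obtain ⟨y0, rfl⟩ := hπ z
  obtain ⟨r, hr, hyN⟩ := exists_mem_normalizer_lift hK hA hz
  have hya : π (r * y0) = π y0 := by rw [map_mul, MonoidHom.mem_ker.mp hr, one_mul]
  set y := r * y0
  have hcl : ∀ S : Subgroup G, S ≤ A → ⁅S, zpowers y⁆ ≤ A := fun S hS =>
    commutator_le.mpr fun x hx b hb => by
      rw [commutatorElement_def, mul_assoc x, mul_assoc]
      exact mul_mem (hS hx)
        ((mem_normalizer_iff.mp (zpowers_le.mpr hyN hb) _).mp (inv_mem (hS hx)))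
  have hquad : ⁅⁅A, zpowers y⁆, zpowers y⁆ = ⊥ := by
    rw [← le_bot_iff, ← inf_eq_bot_of_isPGroup hA hK]
    refine le_inf (hcl _ (hcl _ le_rfl)) ?_
    rw [← Subgroup.map_eq_bot_iff, map_commutator, map_commutator, MonoidHom.map_zpowers, hya]
    exact hq
  have h1 := hst A hA y hyN hquad
  set N := normalizer (A : Set G)
  set C := (centralizer (A : Set G)).subgroupOf N
  set N' := normalizer ((A.map π : Subgroup X) : Set X)
  set C' := (centralizer ((A.map π : Subgroup X) : Set X)).subgroupOf N'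
  let f : N ⧸ C →* N' ⧸ C' :=
    QuotientGroup.map C C' ((π.comp N.subtype).codRestrict N'
      (fun x => le_normalizer_map π (mem_map_of_mem _ x.2))) (fun x hx => by
      refine mem_subgroupOf.mpr (mem_centralizer_iff.mpr ?_)
      rintro _ ⟨w, hw, rfl⟩
      change π w * π (x : G) = π (x : G) * π w
      rw [← map_mul, ← map_mul, mem_centralizer_iff.mp (mem_subgroupOf.mp hx) w hw])
  have hf : Function.Surjective f := by
    intro q
    obtain ⟨⟨w, hw⟩, rfl⟩ := QuotientGroup.mk'_surjective C' q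
    obtain ⟨w0, rfl⟩ := hπ w
    obtain ⟨r', hr', hwN⟩ := exists_mem_normalizer_lift hK hA hw
    refine ⟨QuotientGroup.mk' _ ⟨r' * w0, hwN⟩, congrArg (QuotientGroup.mk' C') (Subtype.ext ?_)⟩
    change π (r' * w0) = π w0
    rw [map_mul, MonoidHom.mem_ker.mp hr', one_mul]
  have h2 := HallCore.map_pCore_le hf (mem_map_of_mem f h1)
  convert h2 using 1
  exact congrArg (QuotientGroup.mk' C') (Subtype.ext hya.symm)

end Cfsg.Agent.GlaubermanStable
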