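import Mathlib
import Cfsg.Agent.Lib.HallCore
import Cfsg.Agent.Lib.HallSolvable
import Cfsg.Agent.Lib.CoprimeSZ
import Cfsg.Agent.Lib.CoprimeAction

/-! Consequences of `p`-constraint. -/

set_option autoImplicit false

open Subgroup Cfsg
open scoped Pointwise

namespace Cfsg.Agent.PConstrained

variable {G : Type*} [Group G] [Finite G] {p : ℕ} [hp : Fact p.Prime]

theorem coprime_card_of_isPGroup {H : Subgroup G} (hH : IsPGroup p H) {K : Subgroup G}
    (hK : (Nat.card K).Coprime p) : (Nat.card H).Coprime (Nat.card K) := by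
  obtain ⟨n, hn⟩ := IsPGroup.iff_card.1 hH
  rw [hn]; exact hK.symm.pow_left n

/-- A Sylow subgroup of `O_{p',p}(G)` covers `O_p(G/O_{p'}(G))`. -/
theorem map_sylow_pPrimePCore : ∀ P : Sylow p ↥(pPrimePCore p G),
    ((P : Subgroup ↥(pPrimePCore p G)).map (pPrimePCore p G).subtype).map
        (QuotientGroup.mk' (pPrimeCore p G)) = pCore p (G ⧸ pPrimeCore p G) := by
  set U := pPrimePCore p G
  set N := pPrimeCore p G
  intro P
  set P' := (P : Subgroup U).map U.subtype
  have hPQ : P'.map (QuotientGroup.mk' N) ≤ pCore p (G ⧸ N) := by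
    rw [map_le_iff_le_comap]; exact map_subtype_le _
  refine eq_of_le_of_card_ge hPQ ?_
  obtain ⟨k, hk⟩ := HallCore.relIndex_pPrimePCore p G
  have hQ : Nat.card (pCore p (G ⧸ N)) = p ^ k := by
    rw [← hk, HallSolvable.relIndex_eq_card_map, HallCore.map_pPrimePCore]
  have hdisj : P' ⊓ N = ⊥ := inf_eq_bot_of_coprime
    (coprime_card_of_isPGroup (P.2.map U.subtype) (HallCore.coprime_card_pPrimeCore p G))
  have hcard : Nat.card (P'.map (QuotientGroup.mk' N)) = Nat.card P' := by
    rw [← HallSolvable.relIndex_eq_card_map, ← inf_relIndex_right, inf_comm, hdisj, relIndex_bot_left]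
  rw [hcard, hQ, card_map_of_injective U.subtype_injective, Sylow.card_eq_multiplicity]
  refine Nat.pow_le_pow_right (Fact.out : p.Prime).pos ?_
  refine (Nat.Prime.pow_dvd_iff_le_factorization Fact.out Nat.card_pos.ne').mp ?_
  rw [← hk, ← HallCore.card_mul_relIndex (HallCore.pPrimeCore_le_pPrimePCore p G)]
  exact dvd_mul_left _ _

/-- In `G/O_{p'}(G)` for a `p`-constrained `G`, `C(O_p) ≤ O_p`. -/
theorem centralizer_pCore_quotient_le (h : IsPConstrained p G) :
    centralizer (pCore p (G ⧸ pPrimeCore p G) : Set (G ⧸ pPrimeCore p G)) ≤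
      pCore p (G ⧸ pPrimeCore p G) := by
  set U := pPrimePCore p G
  set N := pPrimeCore p G
  set q := QuotientGroup.mk' N
  obtain ⟨P⟩ : Nonempty (Sylow p U) := inferInstance
  set P' := (P : Subgroup U).map U.subtype
  have hQ : P'.map q = pCore p (G ⧸ N) := map_sylow_pPrimePCore P
  intro xb hxb
  obtain ⟨x, rfl⟩ := QuotientGroup.mk'_surjective N xb
  have hfix : ∀ y ∈ P', (x * y * x⁻¹)⁻¹ * y ∈ N := by
    intro y hy
    have h1 := mem_centralizer_iff.mp hxb (q y) (hQ ▸ mem_map_of_mem q hy)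
    rw [← QuotientGroup.eq_one_iff]
    show q ((x * y * x⁻¹)⁻¹ * y) = 1
    rw [map_mul, map_inv, map_mul, map_mul, map_inv]
    change (q x * q y * (q x)⁻¹)⁻¹ * q y = 1
    have h1' : q y * q x = q x * q y := h1
    rw [← h1']
    group
  have hN' : P' ≤ normalizer (N : Set G) := by rw [normalizer_eq_top_iff.2 inferInstance]; exact le_top
  have hcop := coprime_card_of_isPGroup (P.2.map U.subtype) (HallCore.coprime_card_pPrimeCore p G)
  have hB : P'.map (MulAut.conj x).toMonoidHom ≤ N ⊔ P' := by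
    rintro _ ⟨y, hy, rfl⟩
    have : (MulAut.conj x).toMonoidHom y = y * ((x * y * x⁻¹)⁻¹ * y)⁻¹ := by simp
    rw [this]
    exact mul_mem (mem_sup_right hy) (mem_sup_left (inv_mem (hfix y hy)))
  obtain ⟨n, hn, hnP⟩ := CoprimeSZ.exists_conj_of_card_eq hN' hcop
    (Or.inl (CoprimeAction.isSolvable_of_isPGroup (P.2.map U.subtype))) hB
    (card_map_of_injective (MulAut.conj x).injective)
  rw [CoprimeSZ.conj_smul_eq_map] at hnP
  set z := n⁻¹ * x with hz
  have hqz : q z = q x := by
    have : q n = 1 := (QuotientGroup.eq_one_iff n).mpr hn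
    simp [hz, this]
  have hzC : z ∈ centralizer (P' : Set G) := by
    refine mem_centralizer_iff.mpr fun y hy => ?_
    have hy1 : z * y * z⁻¹ ∈ P' := by
      have : MulAut.conj x y ∈ P'.map (MulAut.conj n).toMonoidHom := hnP ▸ mem_map_of_mem _ hy
      obtain ⟨w, hw, he⟩ := this
      have e2 : n * w * n⁻¹ = x * y * x⁻¹ := by simpa using he
      have : z * y * z⁻¹ = w := by
        calc z * y * z⁻¹ = n⁻¹ * (x * y * x⁻¹) * n := by simp only [hz]; group
          _ = w := by rw [← e2]; group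
      rwa [this]
    have h2 : (z * y * z⁻¹)⁻¹ * y = 1 := by
      have hP : (z * y * z⁻¹)⁻¹ * y ∈ P' := mul_mem (inv_mem hy1) hy
      have hN2 : (z * y * z⁻¹)⁻¹ * y ∈ N := by
        rw [← QuotientGroup.eq_one_iff]
        show q ((z * y * z⁻¹)⁻¹ * y) = 1
        have h1 : q ((x * y * x⁻¹)⁻¹ * y) = 1 := (QuotientGroup.eq_one_iff _).mpr (hfix y hy)
        simpa [map_mul, map_inv, hqz] using h1
      have : (z * y * z⁻¹)⁻¹ * y ∈ P' ⊓ N := ⟨hP, hN2⟩
      rwa [inf_eq_bot_of_coprime hcop, mem_bot] at this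
    rw [inv_mul_eq_one, mul_inv_eq_iff_eq_mul] at h2
    exact h2.symm
  have : z ∈ U := h P hzC
  show q x ∈ _
  rw [← hqz]
  exact this

end Cfsg.Agent.PConstrained
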