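import Mathlib
import Cfsg.Agent.Lib.GlaubermanStable
import Cfsg.Agent.Lib.PConstrained

/-! The ZJ theorem modulo `O_{p'}`. -/

set_option autoImplicit false

namespace Cfsg.Agent.GlaubermanQuotient

open Subgroup GlaubermanZJ GlaubermanStable

universe u

variable {G X : Type u} [Group G] [Group X] {p n : ℕ}

theorem injOn_of_coprime [Finite G] [Fact p.Prime] {π : G →* X} {A : Subgroup G}
    (hA : IsPGroup p A) (hK : (Nat.card π.ker).Coprime p) : Set.InjOn π A := by
  intro a ha b hb hab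
  have h : a⁻¹ * b ∈ A ⊓ π.ker := mem_inf.mpr ⟨mul_mem (inv_mem ha) hb, by
    rw [MonoidHom.mem_ker, map_mul, map_inv, hab, inv_mul_cancel]⟩
  rw [inf_eq_bot_of_isPGroup hA hK, mem_bot, inv_mul_eq_one] at h
  exact h

/-- The image of a strongly closed subgroup modulo a normal `p'`-subgroup is strongly closed. -/
theorem isStronglyClosed_map [Finite G] [hp : Fact p.Prime] {π : G →* X}
    (hπ : Function.Surjective π) (P : Sylow p G) {D : Subgroup G}
    (hD : Cfsg.IsStronglyClosed D (P : Subgroup G)) :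
    Cfsg.IsStronglyClosed (D.map π) ((P : Subgroup G).map π) := by
  refine ⟨map_mono hD.1, ?_⟩
  rintro _ ⟨d, hd, rfl⟩ z hz
  obtain ⟨g, rfl⟩ := hπ z
  rw [← map_inv, ← map_mul, ← map_mul] at hz
  set M := (P : Subgroup G) ⊔ π.ker with hM
  have heM : g * d * g⁻¹ ∈ M := by
    obtain ⟨x, hx, hxe⟩ := hz
    have h1 : x⁻¹ * (g * d * g⁻¹) ∈ π.ker := by
      rw [MonoidHom.mem_ker, map_mul, map_inv, hxe, inv_mul_cancel]
    rw [← mul_inv_cancel_left x (g * d * g⁻¹)]
    exact mul_mem (mem_sup_left hx) (mem_sup_right h1)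
  have hdp : IsPGroup p (zpowers (g * d * g⁻¹)) := by
    have h1 : zpowers (g * d * g⁻¹) ≤ (P : Subgroup G).map (MulAut.conj g).toMonoidHom :=
      zpowers_le.mpr ⟨d, hD.1 hd, rfl⟩
    exact (P.isPGroup'.map _).to_le h1
  obtain ⟨m, hm, hle⟩ := TransferAlperin.exists_cj_le_of_max P.isPGroup' hdp
    (le_sup_left : (P : Subgroup G) ≤ M) (zpowers_le.mpr heM) (fun S _ hSp => by
      obtain ⟨R, hR⟩ := hSp.exists_le_sylow
      refine (card_le_of_le hR).trans (le_of_eq ?_)
      rw [R.card_eq_multiplicity, P.card_eq_multiplicity])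
  obtain ⟨x, hx, k, hk, rfl⟩ := mem_sup_of_normal_right.mp hm
  have h1 : (x * k) * (g * d * g⁻¹) * (x * k)⁻¹ ∈ (P : Subgroup G) :=
    hle (TransferAlperin.conj_mem_cj (mem_zpowers _))
  have h2 : (k * g) * d * (k * g)⁻¹ ∈ (P : Subgroup G) := by
    have := mul_mem (mul_mem (inv_mem hx) h1) hx
    convert this using 1
    group
  refine ⟨(k * g) * d * (k * g)⁻¹, hD.2 d hd (k * g) h2, ?_⟩
  simp [MonoidHom.mem_ker.mp hk]

/-- `G = K N(A)` when the image of the `p`-subgroup `A` is normal modulo the `p'`-group `K`. -/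
theorem sup_normalizer_eq_top [Finite G] [Fact p.Prime] {π : G →* X}
    (hK : (Nat.card π.ker).Coprime p) {A : Subgroup G} (hA : IsPGroup p A)
    (hn : (A.map π).Normal) : π.ker ⊔ normalizer (A : Set G) = ⊤ := by
  refine top_le_iff.mp fun y _ => ?_
  obtain ⟨r, hr, hry⟩ := exists_mem_normalizer_lift hK hA (y := y)
    (by rw [normalizer_eq_top_iff.mpr hn]; trivial)
  rw [← inv_mul_cancel_left r y]
  exact mul_mem (mem_sup_left (inv_mem hr)) (mem_sup_right hry)

/-- The ZJ theorem for `p`-constrained groups: `G = O_{p'}(G) N(Y)`. -/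
theorem sup_normalizer_thomY [Finite G] [hp : Fact p.Prime] (hp2 : p ≠ 2)
    (hn : n = 0 ∨ n = p)
    (hst : ∀ (B : Subgroup (G ⧸ Cfsg.pPrimeCore p G)) [B.Normal],
      IsPGroup p B → Cfsg.IsPStableOn p B)
    (hc : Cfsg.IsPConstrained p G) (P : Sylow p G) {D : Subgroup G}
    (hD : Cfsg.IsStronglyClosed D (P : Subgroup G)) :
    Cfsg.pPrimeCore p G ⊔ normalizer (thomY n D : Set G) = ⊤ := by
  set π := QuotientGroup.mk' (Cfsg.pPrimeCore p G) with hπdef
  have hπ : Function.Surjective π := QuotientGroup.mk'_surjective _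
  have hK : (Nat.card π.ker).Coprime p := by
    rw [hπdef, QuotientGroup.ker_mk']
    exact HallCore.coprime_card_pPrimeCore p G
  have hDp : IsPGroup p D := P.isPGroup'.to_le hD.1
  have hnorm := thomY_normal (n := n) hp2 hn hst (PConstrained.centralizer_pCore_quotient_le hc)
    (P.mapSurjective hπ) (D.map π)
    (by rw [Sylow.coe_mapSurjective]; exact isStronglyClosed_map hπ P hD)
  rw [thomY_map_of_injOn D (injOn_of_coprime hDp hK)] at hnorm
  have := sup_normalizer_eq_top hK (hDp.to_le (thomY_le D)) hnorm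
  rwa [hπdef, QuotientGroup.ker_mk'] at this

end Cfsg.Agent.GlaubermanQuotient
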