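import Mathlib

/-!
Finite groups of odd order in `GL₂(F)`, `char F = p` odd: if the group acts irreducibly then its
order is prime to `p`. Elementary counting over the partition of the determinant-one part by
centralizers.
-/

set_option autoImplicit false

open scoped Pointwise

namespace Cfsg.Agent.OddGL2

variable {F : Type*} [Field F]

/-- The traceless coordinates of a 2×2 matrix are parallel. -/
def Par (x y : Matrix (Fin 2) (Fin 2) F) : Prop :=
  x 0 1 * y 1 0 = x 1 0 * y 0 1 ∧ x 0 1 * (y 1 1 - y 0 0) = (x 1 1 - x 0 0) * y 0 1 ∧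
    x 1 0 * (y 1 1 - y 0 0) = (x 1 1 - x 0 0) * y 1 0

/-- The matrix is scalar. -/
def IsScal (x : Matrix (Fin 2) (Fin 2) F) : Prop :=
  x 0 1 = 0 ∧ x 1 0 = 0 ∧ x 1 1 - x 0 0 = 0

theorem eq_mk {x y : Matrix (Fin 2) (Fin 2) F} (h1 : x 0 0 = y 0 0) (h2 : x 0 1 = y 0 1)
    (h3 : x 1 0 = y 1 0) (h4 : x 1 1 = y 1 1) : x = y := by
  ext i j
  fin_cases i <;> fin_cases j <;> assumption

theorem commute_iff_par (x y : Matrix (Fin 2) (Fin 2) F) : x * y = y * x ↔ Par x y := by
  constructor
  · intro h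
    have e00 := congrFun (congrFun h 0) 0
    have e01 := congrFun (congrFun h 0) 1
    have e10 := congrFun (congrFun h 1) 0
    simp only [Matrix.mul_apply, Fin.sum_univ_two] at e00 e01 e10
    refine ⟨?_, ?_, ?_⟩
    · linear_combination e00
    · linear_combination e01
    · linear_combination -e10
  · rintro ⟨h1, h2, h3⟩
    apply eq_mk <;> simp only [Matrix.mul_apply, Fin.sum_univ_two]
    · linear_combination h1
    · linear_combination h2
    · linear_combination -h3
    · linear_combination -h1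

theorem exists_factor {g x : Matrix (Fin 2) (Fin 2) F} (hg : ¬ IsScal g) (h : Par x g) :
    ∃ l : F, x 0 1 = l * g 0 1 ∧ x 1 0 = l * g 1 0 ∧ x 1 1 - x 0 0 = l * (g 1 1 - g 0 0) := by
  obtain ⟨h1, h2, h3⟩ := h
  by_cases hb : g 0 1 = 0
  · by_cases hc : g 1 0 = 0
    · have hd : g 1 1 - g 0 0 ≠ 0 := fun hd => hg ⟨hb, hc, hd⟩
      refine ⟨(x 1 1 - x 0 0) / (g 1 1 - g 0 0), ?_, ?_, by field_simp⟩ <;> field_simp
      · linear_combination h2
      · linear_combination h3
    · refine ⟨x 1 0 / g 1 0, ?_, by field_simp, ?_⟩ <;> field_simp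
      · linear_combination h1
      · linear_combination -h3
  · refine ⟨x 0 1 / g 0 1, by field_simp, ?_, ?_⟩ <;> field_simp
    · linear_combination -h1
    · linear_combination -h2

theorem commute_of_commute_nonscalar {g x y : Matrix (Fin 2) (Fin 2) F} (hg : ¬ IsScal g)
    (hx : x * g = g * x) (hy : y * g = g * y) : x * y = y * x := by
  obtain ⟨l, l1, l2, l3⟩ := exists_factor hg ((commute_iff_par x g).1 hx)
  obtain ⟨m, m1, m2, m3⟩ := exists_factor hg ((commute_iff_par y g).1 hy)
  rw [commute_iff_par]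
  refine ⟨?_, ?_, ?_⟩ <;> simp only [l1, l2, l3, m1, m2, m3] <;> ring

theorem ch_identity (x : Matrix (Fin 2) (Fin 2) F) :
    x * x = (x 0 0 + x 1 1) • x - (x 0 0 * x 1 1 - x 0 1 * x 1 0) • 1 := by
  apply eq_mk <;> simp [Matrix.mul_apply, Fin.sum_univ_two] <;> ring

theorem not_isScal_of_ne (p : ℕ) [Fact p.Prime] [CharP F p] {x : Matrix (Fin 2) (Fin 2) F}
    (hdet : x 0 0 * x 1 1 - x 0 1 * x 1 0 = 1) (h1 : x ≠ 1) (h2 : x ≠ -1) : ¬ IsScal x := by
  rintro ⟨a, b, c⟩
  rw [a, b, zero_mul, sub_zero, sub_eq_zero.1 c] at hdet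
  rcases mul_self_eq_one_iff.1 hdet with h | h
  · exact h1 (eq_mk (by simpa using h) (by simpa using a) (by simpa using b)
      (by rw [sub_eq_zero.1 c]; simpa using h))
  · exact h2 (eq_mk (by simpa using h) (by simpa using a) (by simpa using b)
      (by rw [sub_eq_zero.1 c]; simpa using h))

theorem pow_p_of_trace (p : ℕ) [Fact p.Prime] [CharP F p] (hp : p ≠ 2) {x : Matrix (Fin 2) (Fin 2) F}
    (hdet : x 0 0 * x 1 1 - x 0 1 * x 1 0 = 1) (e : F) (he : e * e = 1)
    (htr : x 0 0 + x 1 1 = 2 * e) : x ^ p = e • 1 := by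
  have hp' : p.Prime := Fact.out
  have hsq : (x - e • 1) * (x - e • 1) = 0 := by
    have h1 := ch_identity x
    rw [hdet, htr, one_smul] at h1
    rw [sub_mul, mul_sub, mul_sub, h1, smul_mul_smul_comm, mul_smul_comm, smul_mul_assoc, one_mul,
      one_mul, mul_one, he, one_smul, two_mul e, add_smul]
    abel
  have h2 : (x - e • 1) ^ p = 0 := by
    obtain ⟨k, hk⟩ := Nat.exists_eq_add_of_le hp'.two_le
    rw [hk, pow_add, sq, hsq, zero_mul]
  have hc : Commute x (e • (1 : Matrix (Fin 2) (Fin 2) F)) := (Commute.one_right x).smul_right e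
  rw [sub_pow_char_of_commute p hc, smul_pow, one_pow, sub_eq_zero] at h2
  rw [h2]
  congr 1
  obtain ⟨k, hk⟩ := hp'.odd_of_ne_two hp
  rw [hk, pow_succ, pow_mul, sq, he, one_pow, one_mul]

theorem trace_of_pow_p (p : ℕ) [Fact p.Prime] [CharP F p] {x : Matrix (Fin 2) (Fin 2) F}
    (h : x ^ p = 1) : x 0 0 + x 1 1 = 2 := by
  have h0 : (x - 1) ^ p = 0 := by
    rw [sub_pow_char_of_commute p (Commute.one_right x), one_pow, h, sub_self]
  have h1 : IsNilpotent (Matrix.trace (x - 1)) :=
    Matrix.isNilpotent_trace_of_isNilpotent ⟨p, h0⟩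
  have h2 := h1.eq_zero
  simp only [Matrix.trace, Fin.sum_univ_two, Matrix.diag_apply, Matrix.sub_apply,
    Matrix.one_apply_eq] at h2
  linear_combination h2

/-- If `n g n⁻¹` commutes with a semisimple determinant one `g` then it is `g` or `g⁻¹`. -/
theorem eq_or_mul_eq_one {g g' : Matrix (Fin 2) (Fin 2) F} (h2 : (2 : F) ≠ 0)
    (hdet : g 0 0 * g 1 1 - g 0 1 * g 1 0 = 1) (hdet' : g' 0 0 * g' 1 1 - g' 0 1 * g' 1 0 = 1)
    (htr : g' 0 0 + g' 1 1 = g 0 0 + g 1 1)
    (hdisc : (g 0 0 + g 1 1) ^ 2 ≠ 4) (hg : ¬ IsScal g) (hc : g' * g = g * g') :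
    g' = g ∨ g' * g = 1 := by
  obtain ⟨l, l1, l2, l3⟩ := exists_factor hg ((commute_iff_par g' g).1 hc)
  have hl : (l * l - 1) * ((g 0 0 + g 1 1) ^ 2 - 4) = 0 := by
    linear_combination (-(g' 1 1 - g' 0 0) - l * (g 1 1 - g 0 0)) * l3
      - 4 * g' 1 0 * l1 - 4 * l * g 0 1 * l2
      + (g' 0 0 + g' 1 1 + g 0 0 + g 1 1) * htr - 4 * hdet' + 4 * l * l * hdet
  rcases mul_eq_zero.1 hl with h | h
  · rcases mul_self_eq_one_iff.1 (sub_eq_zero.1 h) with rfl | rfl
    · left
      apply eq_mk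
      · exact mul_left_cancel₀ h2 (by linear_combination htr - l3)
      · linear_combination l1
      · linear_combination l2
      · exact mul_left_cancel₀ h2 (by linear_combination htr + l3)
    · right
      have e00 : g' 0 0 = g 1 1 := mul_left_cancel₀ h2 (by linear_combination htr - l3)
      have e11 : g' 1 1 = g 0 0 := mul_left_cancel₀ h2 (by linear_combination htr + l3)
      apply eq_mk <;> simp [Matrix.mul_apply, Fin.sum_univ_two, e00, e11, l1, l2] <;>
        first
          | ring1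
          | linear_combination hdet
          | linear_combination -hdet
  · exact absurd (sub_eq_zero.1 h) hdisc

section counting

variable {S : Type*} [Group S]

/-- Counting the conjugates of the non-identity elements of a TI subgroup. -/
theorem card_conjSet [Finite S] (A : Subgroup S)
    (hTI : ∀ g a : S, a ∈ A → a ≠ 1 → g * a * g⁻¹ ∈ A → g ∈ Subgroup.normalizer (A : Set S)) :
    Nat.card {x : S | ∃ g a : S, a ∈ A ∧ a ≠ 1 ∧ x = g * a * g⁻¹}
        * Nat.card (Subgroup.normalizer (A : Set S)) = Nat.card S * (Nat.card A - 1) := by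
  classical
  set X := {x : S | ∃ g a : S, a ∈ A ∧ a ≠ 1 ∧ x = g * a * g⁻¹}
  set N := Subgroup.normalizer (A : Set S)
  have hcard : Nat.card {a : A // a ≠ 1} = Nat.card A - 1 := by
    have := Fintype.ofFinite A
    simp [Nat.card_eq_fintype_card, Fintype.card_subtype_compl]
  rw [← Nat.card_prod, ← hcard, ← Nat.card_prod]
  choose gx ax haA ha1 hx using fun x : X => x.2
  have hmem : ∀ (x : X) (n : N), (n : S)⁻¹ * ax x * n ∈ A := fun x n => by
    have := (Subgroup.mem_normalizer_iff.1 (N.inv_mem n.2) (ax x)).1 (haA x)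
    simpa using this
  let f : X × N → S × {a : A // a ≠ 1} := fun xn => (gx xn.1 * xn.2,
    ⟨⟨(xn.2 : S)⁻¹ * ax xn.1 * xn.2, hmem xn.1 xn.2⟩, fun h => ha1 xn.1 (by
      have h' : (xn.2 : S)⁻¹ * ax xn.1 * xn.2 = 1 := congrArg Subtype.val h
      calc ax xn.1 = (xn.2 : S) * ((xn.2 : S)⁻¹ * ax xn.1 * xn.2) * (xn.2 : S)⁻¹ := by group
        _ = 1 := by rw [h']; group)⟩)
  refine Nat.card_congr (Equiv.ofBijective f ⟨?_, ?_⟩)
  · rintro ⟨x, n⟩ ⟨y, m⟩ h
    have h1 : gx x * n = gx y * m := congrArg Prod.fst h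
    have h2 : (n : S)⁻¹ * ax x * n = (m : S)⁻¹ * ax y * m :=
      congrArg (fun q : S × {a : A // a ≠ 1} => ((q.2 : A) : S)) h
    have hxy : x = y := by
      refine Subtype.ext ?_
      rw [hx x, hx y]
      calc gx x * ax x * (gx x)⁻¹ = (gx x * n) * ((n : S)⁻¹ * ax x * n) * (gx x * n)⁻¹ := by group
        _ = (gx y * m) * ((m : S)⁻¹ * ax y * m) * (gx y * m)⁻¹ := by rw [h1, h2]
        _ = gx y * ax y * (gx y)⁻¹ := by group
    subst hxy
    exact Prod.ext rfl (Subtype.ext (mul_left_cancel h1))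
  · rintro ⟨g, ⟨⟨a, haAm⟩, ha⟩⟩
    have hane : a ≠ 1 := fun h => ha (Subtype.ext h)
    let x : X := ⟨g * a * g⁻¹, g, a, haAm, hane, rfl⟩
    have hx' : g * a * g⁻¹ = gx x * ax x * (gx x)⁻¹ := hx x
    have hconj : ((gx x)⁻¹ * g) * a * ((gx x)⁻¹ * g)⁻¹ = ax x := by
      calc ((gx x)⁻¹ * g) * a * ((gx x)⁻¹ * g)⁻¹ = (gx x)⁻¹ * (g * a * g⁻¹) * gx x := by group
        _ = ax x := by rw [hx']; group
    refine ⟨(x, ⟨(gx x)⁻¹ * g, hTI _ a haAm hane (hconj.symm ▸ haA x)⟩),
      Prod.ext (by simp [f]) (Subtype.ext (Subtype.ext ?_))⟩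
    show ((gx x)⁻¹ * g)⁻¹ * ax x * ((gx x)⁻¹ * g) = a
    rw [← hconj]; group

theorem eq_one_of_conj_inv [Finite S] (hodd : Odd (Nat.card S)) {n t : S} (h : n * t * n⁻¹ = t⁻¹) :
    t = 1 := by
  have hc : Commute (n ^ 2) t := by
    show n ^ 2 * t = t * n ^ 2
    calc n ^ 2 * t = n * (n * t * n⁻¹) * n := by rw [sq]; group
      _ = n * t⁻¹ * n⁻¹ * n ^ 2 := by rw [h, sq]; group
      _ = (n * t * n⁻¹)⁻¹ * n ^ 2 := by group
      _ = t * n ^ 2 := by rw [h, inv_inv]
  have h2 : ∀ x : S, (orderOf x).Coprime 2 := fun x => by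
    rw [Nat.coprime_two_right]
    exact Odd.of_dvd_nat hodd (orderOf_dvd_natCard x)
  obtain ⟨m, hm⟩ := exists_pow_eq_self_of_coprime (x := n) (n := 2) (h2 n).symm
  have hnt : Commute n t := by rw [← hm]; exact hc.pow_left m
  rw [hnt.eq, mul_inv_cancel_right] at h
  have : t ^ 2 = 1 := by rw [sq]; nth_rw 1 [h]; exact inv_mul_cancel t
  rw [← orderOf_eq_one_iff]
  exact Nat.eq_one_of_dvd_coprimes (h2 t) dvd_rfl (orderOf_dvd_of_pow_eq_one this)

/-- The counting argument. -/
theorem sylow_normal [Finite S] (p : ℕ) [Fact p.Prime] (hodd : Odd (Nat.card S))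
    (hCA : ∀ g x y : S, g ≠ 1 → Commute x g → Commute y g → Commute x y)
    (hss : ∀ g n : S, g ^ p ≠ 1 → Commute (n * g * n⁻¹) g → n * g * n⁻¹ = g ∨ n * g * n⁻¹ = g⁻¹)
    (hunip : ∀ g x : S, g ^ p = 1 → g ≠ 1 → Commute x g → x ^ p = 1)
    (habel : ∀ g n m : S, g ^ p = 1 → g ≠ 1 → Commute (n * g * n⁻¹) g → Commute (m * g * m⁻¹) g →
      Commute (n * m * n⁻¹ * m⁻¹) g)
    (P : Sylow p S) : (P : Subgroup S).Normal := by
  classical
  have hp : p.Prime := Fact.out
  by_cases hbot : (P : Subgroup S) = ⊥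
  · rw [hbot]; infer_instance
  by_contra hnn
  have := (Subgroup.nontrivial_iff_ne_bot _).2 hbot
  have := P.isPGroup'.center_nontrivial
  obtain ⟨z, hz⟩ := exists_ne (1 : Subgroup.center (P : Subgroup S))
  -- an element of order `p` in the centre
  obtain ⟨k, hk0, hk⟩ := (P.isPGroup'.to_subgroup (Subgroup.center (P : Subgroup S))).nontrivial_iff_card.1 this
  obtain ⟨z0, hz0⟩ := exists_prime_orderOf_dvd_card' (G := Subgroup.center (P : Subgroup S)) p
    (hk ▸ dvd_pow_self p hk0.ne')
  set g : S := ((z0 : (P : Subgroup S)) : S) with hg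
  have hgo : orderOf g = p := by rw [hg, Subgroup.orderOf_coe, Subgroup.orderOf_coe, hz0]
  have hgp : g ^ p = 1 := hgo ▸ pow_orderOf_eq_one g
  have hg1 : g ≠ 1 := fun h => hp.ne_one (by rw [← hgo, h, orderOf_one])
  have hPg : ∀ x ∈ (P : Subgroup S), Commute x g := fun x hx =>
    congrArg Subtype.val (Subgroup.mem_center_iff.1 z0.2 ⟨x, hx⟩)
  set U : Subgroup S := Subgroup.centralizer ({g} : Set S) with hU
  have hmemU : ∀ x, x ∈ U ↔ Commute x g := fun x => Subgroup.mem_centralizer_singleton_iff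
  have hUp : IsPGroup p U := fun x => ⟨1, Subtype.ext (by
    simpa using hunip g x hgp hg1 ((hmemU x).1 x.2))⟩
  have hPU : (P : Subgroup S) = U :=
    (P.is_maximal' hUp fun x hx => (hmemU x).2 (hPg x hx)).symm
  rw [hPU] at hnn
  -- centralizers of non-identity elements form a TI family
  have hsame : ∀ a b : S, a ≠ 1 → b ≠ 1 → Commute a b →
      Subgroup.centralizer ({a} : Set S) = Subgroup.centralizer ({b} : Set S) := by
    intro a b ha hb hab
    ext x
    simp only [Subgroup.mem_centralizer_singleton_iff]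
    exact ⟨fun hx => hCA a x b ha hx hab.symm, fun hx => hCA b x a hb hx hab⟩
  have hTI : ∀ t : S, t ≠ 1 → ∀ n a : S, a ∈ Subgroup.centralizer ({t} : Set S) → a ≠ 1 →
      n * a * n⁻¹ ∈ Subgroup.centralizer ({t} : Set S) →
      n ∈ Subgroup.normalizer ((Subgroup.centralizer ({t} : Set S) : Subgroup S) : Set S) := by
    intro t ht n a ha ha1 hna
    have h1 := hsame a t ha1 ht (Subgroup.mem_centralizer_singleton_iff.1 ha)
    have hna1 : n * a * n⁻¹ ≠ 1 := fun h => ha1 (by
      calc a = n⁻¹ * (n * a * n⁻¹) * n := by group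
        _ = 1 := by rw [h]; group)
    have h2 := hsame _ t hna1 ht (Subgroup.mem_centralizer_singleton_iff.1 hna)
    rw [Subgroup.mem_normalizer_iff]
    intro x
    conv_lhs => rw [← h1, Subgroup.mem_centralizer_singleton_iff]
    rw [← h2, Subgroup.mem_centralizer_singleton_iff]
    exact (Commute.conj_iff (h := n) (a := x) (b := a)).symm
  have hmemN : ∀ n ∈ Subgroup.normalizer (U : Set S), Commute (n * g * n⁻¹) g := fun n hn =>
    (hmemU _).1 ((Subgroup.mem_normalizer_iff.1 hn g).1 ((hmemU g).2 (Commute.refl g)))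
  have hss' : ∀ t : S, t ^ p ≠ 1 →
      Subgroup.normalizer ((Subgroup.centralizer ({t} : Set S) : Subgroup S) : Set S)
        = Subgroup.centralizer ({t} : Set S) := by
    intro t ht
    refine le_antisymm (fun n hn => ?_) Subgroup.le_normalizer
    have h1 : Commute (n * t * n⁻¹) t := Subgroup.mem_centralizer_singleton_iff.1
      ((Subgroup.mem_normalizer_iff.1 hn t).1 (Subgroup.mem_centralizer_singleton_iff.2 rfl))
    rw [Subgroup.mem_centralizer_singleton_iff]
    rcases hss t n ht h1 with h | h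
    · calc n * t = n * t * n⁻¹ * n := by group
        _ = t * n := by rw [h]
    · exact absurd (by rw [eq_one_of_conj_inv hodd h, one_pow]) ht
  -- sizes
  have hodd3 : ∀ A : Subgroup S, A ≠ ⊥ → 3 ≤ Nat.card A := by
    intro A hA
    have h1 : Nat.card A ≠ 1 := fun h => hA (Subgroup.card_eq_one.1 h)
    have h2 : Odd (Nat.card A) := Odd.of_dvd_nat hodd A.card_subgroup_dvd_card
    obtain ⟨r, hr⟩ := h2
    omega
  set N := Subgroup.normalizer (U : Set S) with hN
  set u := Nat.card U
  set s := Nat.card S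
  have hU3 : 3 ≤ u := hodd3 U fun h => hg1 (by
    have : g ∈ U := (hmemU g).2 (Commute.refl g)
    rwa [h, Subgroup.mem_bot] at this)
  set XU := {x : S | x ≠ 1 ∧ x ^ p = 1}
  have hXU : {x : S | ∃ h a : S, a ∈ U ∧ a ≠ 1 ∧ x = h * a * h⁻¹} = XU := by
    ext x
    constructor
    · rintro ⟨h, a, ha, ha1, rfl⟩
      refine ⟨fun he => ha1 ?_, ?_⟩
      · calc a = h⁻¹ * (h * a * h⁻¹) * h := by group
          _ = 1 := by rw [he]; group
      · rw [conj_pow, hunip g a hgp hg1 ((hmemU a).1 ha), mul_one, mul_inv_cancel]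
    · rintro ⟨hx1, hxp⟩
      have hxP : IsPGroup p (Subgroup.zpowers x) :=
        IsPGroup.of_card (n := 1) (by rw [Nat.card_zpowers, pow_one, orderOf_eq_prime hxp hx1])
      obtain ⟨Q, hQ⟩ := hxP.exists_le_sylow
      obtain ⟨h, hh⟩ := MulAction.exists_smul_eq S P Q
      have hxQ : x ∈ (Q : Subgroup S) := hQ (Subgroup.mem_zpowers x)
      rw [← hh, Sylow.coe_subgroup_smul, hPU, Subgroup.mem_pointwise_smul_iff_inv_smul_mem] at hxQ
      refine ⟨h, h⁻¹ * x * h, ?_, fun he => hx1 ?_, by group⟩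
      · simpa [MulAut.smul_def, mul_assoc] using hxQ
      · calc x = h * (h⁻¹ * x * h) * h⁻¹ := by group
          _ = 1 := by rw [he]; group
  have hUcount : Nat.card XU * Nat.card N = s * (u - 1) := hXU ▸ card_conjSet U (hTI g hg1)
  let XT : S → Set S := fun t =>
    {x : S | ∃ h a : S, a ∈ Subgroup.centralizer ({t} : Set S) ∧ a ≠ 1 ∧ x = h * a * h⁻¹}
  have hTcount : ∀ t : S, t ^ p ≠ 1 →
      Nat.card (XT t) * Nat.card (Subgroup.centralizer ({t} : Set S))
        = s * (Nat.card (Subgroup.centralizer ({t} : Set S)) - 1) := by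
    intro t ht
    have h := card_conjSet _ (hTI t (fun h => ht (by rw [h, one_pow])))
    rwa [hss' t ht] at h
  have hXTss : ∀ t : S, t ^ p ≠ 1 → ∀ x ∈ XT t, x ≠ 1 ∧ x ^ p ≠ 1 := by
    rintro t ht _ ⟨h, a, ha, ha1, rfl⟩
    refine ⟨fun he => ha1 ?_, fun he => ht ?_⟩
    · calc a = h⁻¹ * (h * a * h⁻¹) * h := by group
        _ = 1 := by rw [he]; group
    · rw [conj_pow] at he
      have hap : a ^ p = 1 := by
        calc a ^ p = h⁻¹ * (h * a ^ p * h⁻¹) * h := by group
          _ = 1 := by rw [he]; group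
      exact hunip a t hap ha1 (Subgroup.mem_centralizer_singleton_iff.1 ha).symm
  have hT3 : ∀ t : S, t ^ p ≠ 1 → 3 ≤ Nat.card (Subgroup.centralizer ({t} : Set S)) := fun t ht =>
    hodd3 _ fun h => ht (by
      have : t ∈ Subgroup.centralizer ({t} : Set S) := Subgroup.mem_centralizer_singleton_iff.2 rfl
      rw [h, Subgroup.mem_bot] at this
      rw [this, one_pow])
  have hbig : ∀ (X A c : ℕ), 3 ≤ c → X * c = A * (c - 1) → 2 * A ≤ 3 * X := by
    intro X A c hc h
    obtain ⟨e, rfl⟩ : ∃ e, c = e + 3 := ⟨c - 3, by omega⟩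
    rw [show e + 3 - 1 = e + 2 by omega] at h
    by_contra hlt
    nlinarith
  have hsub : ∀ X Y : Set S, Disjoint X Y → (∀ x ∈ X ∪ Y, x ≠ 1) →
      Nat.card X + Nat.card Y + 1 ≤ s := by
    intro X Y hXY hne
    rw [Nat.card_coe_set_eq, Nat.card_coe_set_eq, ← Set.ncard_union_eq hXY (Set.toFinite _) (Set.toFinite _),
      ← Set.ncard_insert_of_notMem (a := (1 : S)) (fun h => hne 1 h rfl) (Set.toFinite _)]
    exact Set.ncard_le_card _
  have hspos : 0 < s := Nat.card_pos
  have hNU : U ≤ N := Subgroup.le_normalizer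
  have hNtop : Nat.card N ≠ s := fun h => hnn (by
    have : N = ⊤ := Subgroup.eq_top_of_card_eq _ h
    exact Subgroup.normalizer_eq_top_iff.1 this)
  -- there is a semisimple element
  obtain ⟨t, ht⟩ : ∃ t : S, t ^ p ≠ 1 := by
    by_contra hno
    push Not at hno
    refine hnn ?_
    have htop : (⊤ : Subgroup S) = (P : Subgroup S) := P.is_maximal'
      (fun x => ⟨1, Subtype.ext (by simpa using hno x)⟩) le_top
    rw [← hPU, ← htop]; infer_instance
  set c := Nat.card (Subgroup.centralizer ({t} : Set S)) with hc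
  have hT := hTcount t ht
  have hT2 := hbig _ _ _ (hT3 t ht) hT
  have hUTd : Disjoint XU (XT t) := Set.disjoint_left.2 fun x hx hx' => (hXTss t ht x hx').2 hx.2
  -- every semisimple element is conjugate into `C(t)`
  have hall : ∀ x : S, x ^ p ≠ 1 → x ∈ XT t := by
    intro x hx
    by_contra hxt
    have hd : Disjoint (XT t) (XT x) := by
      refine Set.disjoint_left.2 ?_
      rintro _ ⟨h, a, ha, ha1, rfl⟩ ⟨h', b, hb, hb1, he⟩
      apply hxt
      have hx1 : x ≠ 1 := fun h => hx (by rw [h, one_pow])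
      have ht1 : t ≠ 1 := fun h => ht (by rw [h, one_pow])
      -- `x` commutes with `b`, a conjugate of `a`
      set k := h'⁻¹ * h
      have hb' : b = k * a * k⁻¹ := by
        calc b = h'⁻¹ * (h' * b * h'⁻¹) * h' := by group
          _ = k * a * k⁻¹ := by rw [← he]; simp only [k]; group
      refine ⟨k, k⁻¹ * x * k, ?_, fun h1 => hx1 ?_, by group⟩
      · have hxb : Commute x b := (Subgroup.mem_centralizer_singleton_iff.1 hb :).symm
        have h1 : Commute (k⁻¹ * x * k) a := by
          have := (Commute.conj_iff (h := k⁻¹) (a := x) (b := b)).2 hxb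
          rw [hb'] at this
          simpa [mul_assoc] using this
        rw [← hsame a t ha1 ht1 (Subgroup.mem_centralizer_singleton_iff.1 ha),
          Subgroup.mem_centralizer_singleton_iff]
        exact h1
      · calc x = k * (k⁻¹ * x * k) * k⁻¹ := by group
          _ = 1 := by rw [h1]; group
    have := hsub (XT t) (XT x) hd (by
      rintro y (hy | hy)
      · exact (hXTss t ht y hy).1
      · exact (hXTss x hx y hy).1)
    have := hbig _ _ _ (hT3 x hx) (hTcount x hx)
    omega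
  have htotal : Nat.card XU + Nat.card (XT t) + 1 = s := by
    refine le_antisymm (hsub _ _ hUTd ?_) ?_
    · rintro y (hy | hy)
      · exact hy.1
      · exact (hXTss t ht y hy).1
    · rw [Nat.card_coe_set_eq, Nat.card_coe_set_eq,
        ← Set.ncard_union_eq hUTd (Set.toFinite _) (Set.toFinite _)]
      calc s = (Set.univ : Set S).ncard := (Set.ncard_univ S).symm
        _ ≤ (insert 1 (XU ∪ XT t)).ncard := Set.ncard_le_ncard (fun y _ => by
            by_cases hy : y = 1
            · exact Or.inl hy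
            · by_cases hyp : y ^ p = 1
              · exact Or.inr (Or.inl ⟨hy, hyp⟩)
              · exact Or.inr (Or.inr (hall y hyp))) (Set.toFinite _)
        _ ≤ _ := Set.ncard_insert_le _ _
  -- the complement of `U` in `N`
  set UN := U.subgroupOf N
  have hUNn : UN.Normal := Subgroup.normal_subgroupOf_of_le_normalizer le_rfl
  have hUNc : Nat.card UN = u := Nat.card_congr (Subgroup.subgroupOfEquivOfLe hNU).toEquiv
  obtain ⟨a, ha⟩ := IsPGroup.iff_card.1 hUp
  have hpd : ¬ p ∣ UN.index := fun h => by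
    have h1 : UN.index ∣ U.index := Subgroup.relIndex_dvd_index_of_le hNU
    exact (hPU ▸ P.not_dvd_index) (h.trans h1)
  obtain ⟨K, hK⟩ := Subgroup.exists_right_complement'_of_coprime (N := UN) (by
    rw [hUNc, show u = p ^ a from ha]
    exact ((Nat.Prime.coprime_iff_not_dvd hp).2 hpd).pow_left a)
  have hNcard : Nat.card N = u * Nat.card K := by rw [← hUNc, hK.card_mul_card]
  obtain ⟨m, hcm⟩ : Nat.card K ∣ c := by
    by_cases hK1 : K = ⊥
    · rw [hK1, Subgroup.card_bot]; exact one_dvd _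
    obtain ⟨k0, hk0⟩ := K.ne_bot_iff_exists_ne_one.1 hK1
    have hKp : ¬ p ∣ Nat.card K := fun h => hpd (by rw [hK.symm.index_eq_card]; exact h)
    have hkS : ((k0 : N) : S) ^ p ≠ 1 := by
      intro h
      have h1 : (k0 : K) ^ p = 1 := Subtype.ext (Subtype.ext (by simpa using h))
      have h2 := (Nat.dvd_prime hp).1 (orderOf_dvd_of_pow_eq_one h1)
      rcases h2 with h2 | h2
      · exact hk0 (orderOf_eq_one_iff.1 h2)
      · exact hKp (h2 ▸ orderOf_dvd_natCard k0)
    obtain ⟨h, b, hb, hb1, hkb⟩ := hall _ hkS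
    have hle : (K.map N.subtype) ≤ Subgroup.centralizer ({((k0 : N) : S)} : Set S) := by
      rintro _ ⟨x, hx, rfl⟩
      rw [Subgroup.mem_centralizer_singleton_iff]
      have hmem : x * k0 * x⁻¹ * (k0 : N)⁻¹ ∈ UN ⊓ K := by
        refine ⟨?_, K.mul_mem (K.mul_mem (K.mul_mem hx k0.2) (K.inv_mem hx)) (K.inv_mem k0.2)⟩
        show ((x * k0 * x⁻¹ * (k0 : N)⁻¹ : N) : S) ∈ U
        simp only [Subgroup.coe_mul, Subgroup.coe_inv]
        exact (hmemU _).2 (habel g _ _ hgp hg1 (hmemN _ x.2) (hmemN _ (k0 : N).2))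
      rw [hK.disjoint.eq_bot, Subgroup.mem_bot] at hmem
      have h3 : x * k0 = k0 * x := by
        calc x * k0 = (x * k0 * x⁻¹ * (k0 : N)⁻¹) * (k0 * x) := by group
          _ = k0 * x := by rw [hmem, one_mul]
      exact congrArg Subtype.val h3
    have hce : Subgroup.centralizer ({((k0 : N) : S)} : Set S)
        = (Subgroup.centralizer ({b} : Set S)).map (MulAut.conj h).toMonoidHom := by
      ext y
      rw [Subgroup.mem_centralizer_singleton_iff, hkb]
      constructor
      · intro hy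
        refine ⟨h⁻¹ * y * h, Subgroup.mem_centralizer_singleton_iff.2 ?_, by simp [mul_assoc]⟩
        have h5 : Commute y (h * b * h⁻¹) := hy
        have h6 := (Commute.conj_iff (h := h⁻¹)).2 h5
        have h7 : h⁻¹ * (h * b * h⁻¹) * h⁻¹⁻¹ = b := by group
        rw [h7, inv_inv] at h6
        exact h6
      · rintro ⟨y', hy', rfl⟩
        exact (Commute.conj_iff (h := h)).2 (Subgroup.mem_centralizer_singleton_iff.1 hy')
    have := Subgroup.card_dvd_of_le hle
    rwa [Subgroup.card_map_of_injective N.subtype_injective, hce,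
      Subgroup.card_map_of_injective (MulEquiv.injective _),
      hsame b t hb1 (fun h => ht (by rw [h, one_pow])) (Subgroup.mem_centralizer_singleton_iff.1 hb),
      ← hc] at this
  have hKpos : 0 < Nat.card K := Nat.card_pos
  rw [hNcard] at hUcount hNtop
  have hc3 := hT3 t ht
  rw [← hc] at hT
  have hUcount' : (Nat.card XU : ℤ) * ((u : ℤ) * Nat.card K) = s * ((u : ℤ) - 1) := by
    have := congrArg (Nat.cast : ℕ → ℤ) hUcount
    push_cast [Nat.cast_sub (by omega : 1 ≤ u)] at this
    exact this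
  have hT' : (Nat.card (XT t) : ℤ) * c = s * ((c : ℤ) - 1) := by
    have := congrArg (Nat.cast : ℕ → ℤ) hT
    push_cast [Nat.cast_sub (by omega : 1 ≤ c)] at this
    exact this
  have htot' : (Nat.card XU : ℤ) + Nat.card (XT t) + 1 = s := by exact_mod_cast htotal
  have hc' : (c : ℤ) = Nat.card K * m := by exact_mod_cast hcm
  have hkey : (s : ℤ) * ((u : ℤ) * m - m - u) + u * Nat.card K * m = 0 := by
    linear_combination (u : ℤ) * Nat.card K * m * htot' - (m : ℤ) * hUcount' - (u : ℤ) * hT'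
      + ((Nat.card (XT t) : ℤ) * u - s * u) * hc'
  rcases Nat.eq_zero_or_pos m with hm | hm
  · rw [hm, mul_zero] at hcm; omega
  rcases eq_or_lt_of_le (Nat.succ_le_iff.2 hm) with h | h
  · apply hNtop
    have h' : (m : ℤ) = 1 := by exact_mod_cast h.symm
    rw [h'] at hkey
    have : (s : ℤ) = u * Nat.card K := by linear_combination -hkey
    exact_mod_cast this.symm
  · have h1 : (2 : ℤ) ≤ m := by exact_mod_cast h
    have h2 : (3 : ℤ) ≤ u := by exact_mod_cast hU3
    have h3 : (0 : ℤ) ≤ (u : ℤ) * m - m - u := by nlinarith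
    have h4 : (0 : ℤ) < u * Nat.card K * m := by positivity
    have h5 : (0 : ℤ) ≤ (s : ℤ) * ((u : ℤ) * m - m - u) := mul_nonneg (by positivity) h3
    omega

end counting

open scoped MatrixGroups in
/-- An irreducible finite subgroup of odd order of `GL₂(F)` has order prime to `p = char F`. -/
theorem not_dvd_card (p : ℕ) [Fact p.Prime] [CharP F p] (hp : p ≠ 2)
    (H : Subgroup (GL (Fin 2) F)) [Finite H] (hodd : Odd (Nat.card H))
    (hirr : ∀ v : Fin 2 → F, v ≠ 0 →
      ∃ g ∈ H, (g : Matrix (Fin 2) (Fin 2) F).mulVec v ∉ Submodule.span F {v}) :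
    ¬ p ∣ Nat.card H := by
  classical
  intro hdvd
  have hp' : p.Prime := Fact.out
  have h2F : (2 : F) ≠ 0 := fun h => hp ((Nat.prime_dvd_prime_iff_eq hp' Nat.prime_two).1
    ((CharP.cast_eq_zero_iff F p 2).1 (by exact_mod_cast h)))
  let δ : H →* Fˣ := Matrix.GeneralLinearGroup.det.comp H.subtype
  set S := δ.ker with hS
  let mat : S →* Matrix (Fin 2) (Fin 2) F :=
    (Units.coeHom _).comp (H.subtype.comp S.subtype)
  have hminj : Function.Injective mat := fun a b h => Subtype.ext (Subtype.ext (Units.ext h))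
  have hdet : ∀ x : S, mat x 0 0 * mat x 1 1 - mat x 0 1 * mat x 1 0 = 1 := fun x => by
    have h1 : Matrix.GeneralLinearGroup.det ((x : H) : GL (Fin 2) F) = 1 := x.2
    have h2 := congrArg Units.val h1
    rw [Matrix.GeneralLinearGroup.val_det_apply, Units.val_one, Matrix.det_fin_two] at h2
    exact h2
  have hSodd : Odd (Nat.card S) := Odd.of_dvd_nat hodd S.card_subgroup_dvd_card
  have hne1 : ∀ x : S, mat x = -1 → False := fun x hx => by
    have h2 : x ^ 2 = 1 := hminj (by rw [map_pow, hx, map_one, sq, neg_mul_neg, one_mul])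
    have h3 : orderOf x ∣ 2 := orderOf_dvd_of_pow_eq_one h2
    have h4 : Odd (orderOf x) := Odd.of_dvd_nat hSodd (orderOf_dvd_natCard x)
    rcases (Nat.dvd_prime Nat.prime_two).1 h3 with h5 | h5
    · rw [orderOf_eq_one_iff.1 h5, map_one] at hx
      have := congrFun (congrFun hx 0) 0
      simp only [Matrix.one_apply_eq, Matrix.neg_apply] at this
      exact h2F (by linear_combination this)
    · rw [h5] at h4; exact absurd h4 (by decide)
  have hns : ∀ x : S, x ≠ 1 → ¬ IsScal (mat x) := fun x hx =>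
    not_isScal_of_ne p (hdet x) (fun h => hx (hminj (h.trans (map_one mat).symm))) (hne1 x)
  have hcomm : ∀ x y : S, mat x * mat y = mat y * mat x ↔ Commute x y := fun x y => by
    rw [← map_mul, ← map_mul]; exact ⟨fun h => hminj h, congrArg mat⟩
  have htr : ∀ x : S, x ^ p = 1 ↔ mat x 0 0 + mat x 1 1 = 2 := fun x => by
    constructor
    · intro h
      exact trace_of_pow_p p (by rw [← map_pow, h, map_one])
    · intro h
      refine hminj ?_
      rw [map_pow, map_one, pow_p_of_trace p hp (hdet x) 1 (one_mul 1) (by rw [h, mul_one]),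
        one_smul]
  have hdisc : ∀ x : S, x ^ p ≠ 1 → (mat x 0 0 + mat x 1 1) ^ 2 ≠ 4 := by
    intro x hx h
    have h' : (mat x 0 0 + mat x 1 1 - 2) * (mat x 0 0 + mat x 1 1 + 2) = 0 := by
      linear_combination h
    rcases mul_eq_zero.1 h' with h1 | h1
    · exact hx ((htr x).2 (sub_eq_zero.1 h1))
    · exact hne1 (x ^ p) (by
        rw [map_pow, pow_p_of_trace p hp (hdet x) (-1) (by norm_num) (by linear_combination h1),
          neg_one_smul])
  have hpar : ∀ x g : S, g ^ p = 1 → g ≠ 1 → Commute x g → x ^ p = 1 := by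
    intro x g hgp hg hxg
    by_contra hxp
    obtain ⟨l, l1, l2, l3⟩ := exists_factor (hns g hg) ((commute_iff_par _ _).1 ((hcomm x g).2 hxg))
    apply hdisc x hxp
    linear_combination ((mat x 1 1 - mat x 0 0) + l * (mat g 1 1 - mat g 0 0)) * l3
      + 4 * mat x 1 0 * l1 + 4 * l * mat g 0 1 * l2 + 4 * hdet x - 4 * l * l * hdet g
      + l * l * (mat g 0 0 + mat g 1 1 + 2) * (htr g).1 hgp
  have hconjtr : ∀ n g : S, mat (n * g * n⁻¹) 0 0 + mat (n * g * n⁻¹) 1 1
      = mat g 0 0 + mat g 1 1 := by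
    intro n g
    have h : Matrix.trace (mat (n * g * n⁻¹)) = Matrix.trace (mat g) := by
      rw [map_mul, Matrix.trace_mul_comm, ← map_mul]
      congr 2
      group
    simpa [Matrix.trace, Fin.sum_univ_two] using h
  have hpconj : ∀ n g : S, g ^ p = 1 → (n * g * n⁻¹) ^ p = 1 := fun n g h => by
    rw [conj_pow, h, mul_one, mul_inv_cancel]
  -- scalar by which a normalizing element acts on `g - 1`
  have hscal : ∀ x g : S, x ^ p = 1 → g ^ p = 1 → g ≠ 1 → Commute x g →
      ∃ l : F, mat x = 1 + l • (mat g - 1) := by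
    intro x g hxp hgp hg hxg
    obtain ⟨l, l1, l2, l3⟩ := exists_factor (hns g hg) ((commute_iff_par _ _).1 ((hcomm x g).2 hxg))
    have t1 := (htr x).1 hxp
    have t2 := (htr g).1 hgp
    refine ⟨l, eq_mk ?_ ?_ ?_ ?_⟩ <;>
      simp only [Matrix.add_apply, Matrix.smul_apply, Matrix.sub_apply, smul_eq_mul,
        Matrix.one_apply_eq, ne_eq, zero_ne_one, one_ne_zero, not_false_eq_true,
        Matrix.one_apply_ne, sub_zero, zero_add]
    · exact mul_left_cancel₀ h2F (by linear_combination t1 - l * t2 - l3)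
    · exact l1
    · exact l2
    · exact mul_left_cancel₀ h2F (by linear_combination t1 - l * t2 + l3)
  have hCA : ∀ g x y : S, g ≠ 1 → Commute x g → Commute y g → Commute x y := fun g x y hg hx hy =>
    (hcomm x y).1 (commute_of_commute_nonscalar (hns g hg) ((hcomm x g).2 hx) ((hcomm y g).2 hy))
  obtain ⟨P⟩ : Nonempty (Sylow p S) := inferInstance
  have hPn : (P : Subgroup S).Normal := by
    refine sylow_normal p hSodd hCA ?_ (fun g x h1 h2 h3 => hpar x g h1 h2 h3) ?_ P
    · intro g n hgp hc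
      have hg : g ≠ 1 := fun h => hgp (by rw [h, one_pow])
      rcases eq_or_mul_eq_one h2F (hdet g) (hdet _) (hconjtr n g) (hdisc g hgp) (hns g hg)
        ((hcomm _ g).2 hc) with h | h
      · exact Or.inl (hminj h)
      · exact Or.inr (eq_inv_of_mul_eq_one_left (hminj (by rw [map_mul, h, map_one])))
    · intro g n m hgp hg hn hm
      obtain ⟨a, ha⟩ := hscal _ g (hpconj n g hgp) hgp hg hn
      obtain ⟨b, hb⟩ := hscal _ g (hpconj m g hgp) hgp hg hm
      set G' := mat g - 1 with hG'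
      have key : ∀ (k : S) (e : F), mat (k * g * k⁻¹) = 1 + e • G' → mat k * G' = e • (G' * mat k) := by
        intro k e he
        have h1 : mat k * mat g = mat (k * g * k⁻¹) * mat k := by
          rw [← map_mul, ← map_mul]; congr 1; group
        rw [he] at h1
        rw [hG', mul_sub, h1, mul_one, add_mul, one_mul, smul_mul_assoc, add_sub_cancel_left]
      have hab : a * b ≠ 0 := by
        have hne : ∀ (k : S) (e : F), mat (k * g * k⁻¹) = 1 + e • G' → e ≠ 0 := by
          intro k e he h0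
          rw [h0, zero_smul, add_zero] at he
          apply hg
          have h1 : k * g * k⁻¹ = 1 := hminj (he.trans (map_one mat).symm)
          calc g = k⁻¹ * (k * g * k⁻¹) * k := by group
            _ = 1 := by rw [h1]; group
        exact mul_ne_zero (hne n a ha) (hne m b hb)
      have k2 : ∀ (u w : S) (eu ew : F), mat u * G' = eu • (G' * mat u) →
          mat w * G' = ew • (G' * mat w) → mat (u * w) * G' = (ew * eu) • (G' * mat (u * w)) := by
        intro u w eu ew hu hw
        rw [map_mul, mul_assoc, hw, mul_smul_comm, ← mul_assoc, hu, smul_mul_assoc, smul_smul,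
          mul_assoc]
      have e1 := k2 n m a b (key n a ha) (key m b hb)
      have e2 := k2 m n b a (key m b hb) (key n a ha)
      have e3 : (a * b) • (mat ((m * n)⁻¹) * G') = G' * mat ((m * n)⁻¹) := by
        have h1 := congrArg (fun z => mat ((m * n)⁻¹) * z * mat ((m * n)⁻¹)) e2
        simp only [mul_smul_comm, smul_mul_assoc] at h1
        rw [← mul_assoc (mat (m * n)⁻¹) (mat (m * n)), ← map_mul, inv_mul_cancel, map_one, one_mul,
          ← mul_assoc (mat (m * n)⁻¹) G', mul_assoc _ (mat (m * n)), ← map_mul, mul_inv_cancel,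
          map_one, mul_one] at h1
        exact h1.symm
      have h4 : mat (n * m * n⁻¹ * m⁻¹) * G' = G' * mat (n * m * n⁻¹ * m⁻¹) := by
        refine smul_right_injective _ hab ?_
        show (a * b) • _ = (a * b) • _
        rw [show n * m * n⁻¹ * m⁻¹ = (n * m) * (m * n)⁻¹ by group, map_mul mat (n * m), mul_assoc,
          ← mul_smul_comm, e3, ← mul_assoc, e1, smul_mul_assoc, mul_assoc, mul_comm b a]
      rw [← hcomm]
      rw [hG', mul_sub, mul_one, sub_mul, one_mul, sub_left_inj] at h4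
      exact h4
  have : (P : Subgroup S).Characteristic := P.characteristic_of_normal hPn
  have hSn : ((P : Subgroup S).map S.subtype).Normal := inferInstance
  -- `p ∣ |S|`
  obtain ⟨x, hx⟩ := exists_prime_orderOf_dvd_card' (G := H) p hdvd
  have hxS : x ∈ S := by
    rw [hS, MonoidHom.mem_ker]
    have h1 : ((δ x : Fˣ) : F) ^ p = 1 := by
      rw [← Units.val_pow_eq_pow_val, ← map_pow, ← hx, pow_orderOf_eq_one, map_one, Units.val_one]
    have h2 : (((δ x : Fˣ) : F) - 1) ^ p = 0 := by rw [sub_pow_char, one_pow, h1, sub_self]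
    exact Units.ext (sub_eq_zero.1 ((pow_eq_zero_iff hp'.ne_zero).1 h2))
  set x' : S := ⟨x, hxS⟩
  have hx' : orderOf x' = p := by
    rw [← hx]; exact Subgroup.orderOf_mk x hxS
  have hxP : x' ∈ (P : Subgroup S) := by
    obtain ⟨Q, hQ⟩ := (IsPGroup.of_card (p := p) (n := 1) (G := Subgroup.zpowers x')
      (by rw [Nat.card_zpowers, hx', pow_one])).exists_le_sylow
    have : Subsingleton (Sylow p S) := by
      have := Sylow.unique_of_normal P hPn
      exact inferInstance
    rw [Subsingleton.elim P Q]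
    exact hQ (Subgroup.mem_zpowers x')
  have hxp : x' ^ p = 1 := hx' ▸ pow_orderOf_eq_one x'
  have hx1 : x' ≠ 1 := fun h => hp'.ne_one (by rw [← hx', h, orderOf_one])
  -- `P` is abelian: it centralizes a non-identity central element
  have hPab : ∀ y ∈ (P : Subgroup S), Commute y x' := by
    intro y hy
    have := (Subgroup.nontrivial_iff_ne_bot (P : Subgroup S)).2 (fun h => hx1 (by
      rwa [h, Subgroup.mem_bot] at hxP))
    have := P.isPGroup'.center_nontrivial
    obtain ⟨z, hz⟩ := exists_ne (1 : Subgroup.center (P : Subgroup S))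
    have hz1 : ((z : (P : Subgroup S)) : S) ≠ 1 := fun h => hz (Subtype.ext (Subtype.ext h))
    exact hCA _ y x' hz1 (congrArg Subtype.val (Subgroup.mem_center_iff.1 z.2 ⟨y, hy⟩))
      (congrArg Subtype.val (Subgroup.mem_center_iff.1 z.2 ⟨x', hxP⟩))
  -- the fixed vector
  obtain ⟨v, hv0, hv⟩ : ∃ v : Fin 2 → F, v ≠ 0 ∧ (mat x' - 1).mulVec v = 0 := by
    apply Matrix.exists_mulVec_eq_zero_iff.2
    rw [Matrix.det_fin_two]
    simp only [Matrix.sub_apply, Matrix.one_apply_eq, ne_eq, zero_ne_one, one_ne_zero,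
      not_false_eq_true, Matrix.one_apply_ne, sub_zero]
    linear_combination hdet x' - (htr x').1 hxp
  obtain ⟨h, hhH, hw⟩ := hirr v hv0
  set w := (h : Matrix (Fin 2) (Fin 2) F).mulVec v with hwd
  obtain ⟨y, hy, hyh⟩ : (⟨h, hhH⟩ : H)⁻¹ * x * ⟨h, hhH⟩ ∈ (P : Subgroup S).map S.subtype := by
    have := hSn.conj_mem x ⟨x', hxP, rfl⟩ (⟨h, hhH⟩ : H)⁻¹
    simpa using this
  have hyp : y ^ p = 1 := by
    apply Subtype.ext
    have : ((y : S) : H) = (⟨h, hhH⟩ : H)⁻¹ * x * ⟨h, hhH⟩ := hyh
    simp only [SubmonoidClass.coe_pow, OneMemClass.coe_one, this]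
    have hxx : x ^ p = 1 := hx ▸ pow_orderOf_eq_one x
    have := congrArg (fun u => (⟨h, hhH⟩ : H)⁻¹ * u * ⟨h, hhH⟩) hxx
    rw [← inv_inv (⟨h, hhH⟩ : H)] at this ⊢
    rw [inv_inv (⟨h, hhH⟩ : H)⁻¹, conj_pow]
    simpa using this
  obtain ⟨l, hl⟩ := hscal y x' hyp hxp hx1 (hPab y hy)
  have hyv : (mat y).mulVec v = v := by
    rw [hl, Matrix.add_mulVec, Matrix.one_mulVec, Matrix.smul_mulVec, hv, smul_zero, add_zero]
  have hhy : (h : Matrix (Fin 2) (Fin 2) F) * mat y = mat x' * (h : Matrix (Fin 2) (Fin 2) F) := by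
    have h1 : (⟨h, hhH⟩ : H) * ((y : S) : H) = x * ⟨h, hhH⟩ := by
      rw [show ((y : S) : H) = (⟨h, hhH⟩ : H)⁻¹ * x * ⟨h, hhH⟩ from hyh]; group
    exact congrArg (fun u : H => ((u : GL (Fin 2) F) : Matrix (Fin 2) (Fin 2) F)) h1
  have hw0 : (mat x' - 1).mulVec w = 0 := by
    rw [hwd, Matrix.sub_mulVec, Matrix.one_mulVec, Matrix.mulVec_mulVec, ← hhy,
      ← Matrix.mulVec_mulVec, hyv, sub_self]
  -- two independent vectors killed by `x' - 1`
  refine hns x' hx1 ?_
  have hind : v 0 * w 1 - v 1 * w 0 ≠ 0 := by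
    intro h0
    apply hw
    rw [Submodule.mem_span_singleton]
    by_cases hv0' : v 0 = 0
    · have hv1 : v 1 ≠ 0 := fun h1 => hv0 (funext fun i => by fin_cases i <;> assumption)
      refine ⟨w 1 / v 1, funext fun i => ?_⟩
      fin_cases i <;> simp [hv0'] at h0 ⊢ <;> first | (field_simp) | skip
      rcases h0 with h0 | h0
      · exact absurd h0 hv1
      · exact h0.symm
    · refine ⟨w 0 / v 0, funext fun i => ?_⟩
      fin_cases i <;> simp <;> field_simp
      linear_combination -h0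
  have ev0 := congrFun hv 0
  have ev1 := congrFun hv 1
  have ew0 := congrFun hw0 0
  have ew1 := congrFun hw0 1
  simp [Matrix.mulVec, dotProduct, Fin.sum_univ_two] at ev0 ev1 ew0 ew1
  have a00 : mat x' 0 0 - 1 = 0 := by
    refine (mul_eq_zero.1 (?_ : (mat x' 0 0 - 1) * (v 0 * w 1 - v 1 * w 0) = 0)).resolve_right hind
    linear_combination w 1 * ev0 - v 1 * ew0
  have a01 : mat x' 0 1 = 0 := by
    refine (mul_eq_zero.1 (?_ : mat x' 0 1 * (v 0 * w 1 - v 1 * w 0) = 0)).resolve_right hind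
    linear_combination v 0 * ew0 - w 0 * ev0
  have a10 : mat x' 1 0 = 0 := by
    refine (mul_eq_zero.1 (?_ : mat x' 1 0 * (v 0 * w 1 - v 1 * w 0) = 0)).resolve_right hind
    linear_combination w 1 * ev1 - v 1 * ew1
  have a11 : mat x' 1 1 - 1 = 0 := by
    refine (mul_eq_zero.1 (?_ : (mat x' 1 1 - 1) * (v 0 * w 1 - v 1 * w 0) = 0)).resolve_right hind
    linear_combination v 0 * ew1 - w 0 * ev1
  exact ⟨a01, a10, by linear_combination a11 - a00⟩

end Cfsg.Agent.OddGL2
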