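import Mathlib

namespace Cfsg.Agent.ClassTwoPow

open Subgroup
open scoped commutatorElement

variable {G : Type*} [Group G]

/-- In the presence of a central commutator, powers commute past with a commutator factor. -/
theorem pow_mul_comm_central {x y : G} (hc : ⁅y, x⁆ ∈ center G) (n : ℕ) :
    y ^ n * x = ⁅y, x⁆ ^ n * x * y ^ n := by
  induction n with
  | zero => simp
  | succ n ih =>
    have h1 : y * x = ⁅y, x⁆ * x * y := by rw [commutatorElement_def]; group
    have hc' : ∀ g, g * ⁅y, x⁆ = ⁅y, x⁆ * g := mem_center_iff.mp hc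
    have hcn : ∀ g, g * ⁅y, x⁆ ^ n = ⁅y, x⁆ ^ n * g := mem_center_iff.mp (pow_mem hc n)
    calc y ^ (n + 1) * x = y ^ n * (⁅y, x⁆ * x * y) := by rw [pow_succ, mul_assoc, h1]
      _ = ⁅y, x⁆ * (y ^ n * x) * y := by
        rw [← mul_assoc, ← mul_assoc, hc' (y ^ n), mul_assoc ⁅y, x⁆ (y ^ n) x]
      _ = ⁅y, x⁆ ^ (n + 1) * x * y ^ (n + 1) := by
        rw [ih, pow_succ' ⁅y, x⁆, pow_succ y]; simp only [mul_assoc]

/-- `(xy)^n = [y,x]^C(n,2) x^n y^n` when `[y,x]` is central. -/
theorem mul_pow_central {x y : G} (hc : ⁅y, x⁆ ∈ center G) (n : ℕ) :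
    (x * y) ^ n = ⁅y, x⁆ ^ (n.choose 2) * x ^ n * y ^ n := by
  induction n with
  | zero => simp
  | succ n ih =>
    have h2 := pow_mul_comm_central hc n
    have hcn : ∀ g, g * ⁅y, x⁆ ^ n = ⁅y, x⁆ ^ n * g := mem_center_iff.mp (pow_mem hc n)
    rw [pow_succ, ih, show (n + 1).choose 2 = n.choose 2 + n by
      rw [Nat.choose_succ_succ, Nat.choose_one_right, add_comm]]
    calc ⁅y, x⁆ ^ n.choose 2 * x ^ n * y ^ n * (x * y)
        = ⁅y, x⁆ ^ n.choose 2 * (x ^ n * (y ^ n * x)) * y := by simp only [mul_assoc]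
      _ = ⁅y, x⁆ ^ n.choose 2 * ((⁅y, x⁆ ^ n * x ^ n) * (x * y ^ n)) * y := by
        rw [h2, mul_assoc (⁅y, x⁆ ^ n), ← mul_assoc (x ^ n), hcn]
      _ = ⁅y, x⁆ ^ (n.choose 2 + n) * x ^ (n + 1) * y ^ (n + 1) := by
        rw [pow_add, pow_succ, pow_succ]; simp only [mul_assoc]

theorem mul_pow_prime_central {x y : G} {p : ℕ} (hp : p.Prime) (hp2 : p ≠ 2)
    (hc : ⁅y, x⁆ ∈ center G) (ho : ⁅y, x⁆ ^ p = 1) : (x * y) ^ p = x ^ p * y ^ p := by
  obtain ⟨k, hk⟩ := Nat.Prime.dvd_choose_self hp two_ne_zero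
    (lt_of_le_of_ne hp.two_le (Ne.symm hp2))
  rw [mul_pow_central hc, hk, pow_mul, ho, one_pow, one_mul]

theorem commutator_pow_left {x y : G} (hc : ⁅y, x⁆ ∈ center G) (n : ℕ) :
    ⁅y ^ n, x⁆ = ⁅y, x⁆ ^ n := by
  rw [commutatorElement_def, pow_mul_comm_central hc n]; group

theorem commutatorElement_mem_center (h2 : ⁅commutator G, (⊤ : Subgroup G)⁆ = ⊥) (a b : G) :
    ⁅a, b⁆ ∈ center G := by
  rw [commutator_eq_bot_iff_le_centralizer, coe_top, centralizer_univ] at h2
  exact h2 (commutator_mem_commutator (mem_top a) (mem_top b))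

/-- In a group of class two and for odd `p` the elements of order dividing `p` form a subgroup. -/
theorem pow_eq_one_of_mem_closure {p : ℕ} [hp : Fact p.Prime] (hp2 : p ≠ 2)
    (h2 : ⁅commutator G, (⊤ : Subgroup G)⁆ = ⊥) {g : G}
    (hg : g ∈ closure {x : G | x ^ p = 1}) : g ^ p = 1 := by
  induction hg using closure_induction with
  | mem z hz => exact hz
  | one => simp
  | mul a b _ _ ha hb =>
    have hc := commutatorElement_mem_center h2 b a
    rw [mul_pow_prime_central hp.out hp2 hc, ha, hb, one_mul]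
    rw [← commutator_pow_left hc, hb, commutatorElement_one_left]
  | inv a _ ha => rw [inv_pow, ha, inv_one]

/-- In a finite `p`-group, maximal subgroups are normal with quotient of prime order. -/
theorem coatom_normal_index {P : Type*} [Group P] [Finite P] {p : ℕ} [hp : Fact p.Prime]
    (hP : IsPGroup p P) {K : Subgroup P} (hK : IsCoatom K) : K.Normal ∧ K.index = p := by
  have : Group.IsNilpotent P := hP.isNilpotent
  have hn : K.Normal := NormalizerCondition.normal_of_coatom K Group.normalizerCondition_of_isNilpotent hK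
  refine ⟨hn, ?_⟩
  obtain ⟨n, hn'⟩ := hP.index K
  rcases n with _ | n
  · exact absurd (index_eq_one.mp (hn'.trans (pow_zero p))) hK.1
  · have : Finite (P ⧸ K) := inferInstance
    have hd : p ∣ Nat.card (P ⧸ K) := by
      rw [show Nat.card (P ⧸ K) = p ^ (n + 1) from hn']; exact dvd_pow_self p n.succ_ne_zero
    obtain ⟨q, hq⟩ := exists_prime_orderOf_dvd_card' p hd
    obtain ⟨x, rfl⟩ := QuotientGroup.mk'_surjective K q
    set L := (zpowers (QuotientGroup.mk' K x)).comap (QuotientGroup.mk' K) with hL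
    have hKL : K ≤ L := by
      intro k hk
      rw [hL, mem_comap, show QuotientGroup.mk' K k = 1 from (QuotientGroup.eq_one_iff k).mpr hk]
      exact one_mem _
    have hne : K ≠ L := by
      intro h
      have hx : x ∈ L := mem_zpowers _
      rw [← h, ← QuotientGroup.eq_one_iff] at hx
      rw [show QuotientGroup.mk' K x = (x : P ⧸ K) from rfl, hx, orderOf_one] at hq
      exact hp.out.one_lt.ne hq
    have htop := hK.2 L (lt_of_le_of_ne hKL hne)
    have hsurj : (zpowers (QuotientGroup.mk' K x)) = ⊤ :=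
      comap_injective (QuotientGroup.mk'_surjective K) (by rw [← hL, htop, comap_top])
    have := Nat.card_zpowers (QuotientGroup.mk' K x)
    rw [hsurj, card_top, hq] at this
    exact this

theorem pow_mem_frattini {P : Type*} [Group P] [Finite P] {p : ℕ} [Fact p.Prime]
    (hP : IsPGroup p P) (x : P) : x ^ p ∈ frattini P := by
  simp only [frattini, Order.radical, mem_iInf, Set.mem_setOf_eq]
  intro K hK
  obtain ⟨hn, hi⟩ := coatom_normal_index hP hK
  exact hi ▸ pow_index_mem K x

end Cfsg.Agent.ClassTwoPow
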