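import Mathlib
import Cfsg.Agent.Lib.ClassTwoPow

namespace Cfsg.Agent.ClassThreePow

open Subgroup
open scoped commutatorElement

variable {G : Type*} [Group G]

/-- Moving a power past an element in class three. -/
theorem pow_mul_comm {x y : G} (he : ⁅y, ⁅y, x⁆⁆ ∈ center G) (n : ℕ) :
    y ^ n * x = ⁅y, ⁅y, x⁆⁆ ^ (n.choose 2) * ⁅y, x⁆ ^ n * x * y ^ n := by
  induction n with
  | zero => simp
  | succ n ih =>
    set g := ⁅y, x⁆ with hg
    set f := ⁅y, g⁆ with hf
    have h1 : y * x = g * x * y := by rw [hg, commutatorElement_def]; group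
    have h2 : y * g ^ n = f ^ n * g ^ n * y := by
      have h3 : ⁅g, y⁆ ∈ center G := by rw [← commutatorElement_inv]; exact inv_mem he
      have h4 := ClassTwoPow.pow_mul_comm_central h3 n
      have h5 : ⁅g, y⁆ = f⁻¹ := (commutatorElement_inv y g).symm
      rw [h5, inv_pow] at h4
      have hc : ∀ a, a * f ^ n = f ^ n * a := mem_center_iff.mp (pow_mem he n)
      rw [mul_assoc (f ^ n), h4, mul_assoc _ y, mul_inv_cancel_left]
    have hc : ∀ a, a * f ^ n.choose 2 = f ^ n.choose 2 * a := mem_center_iff.mp (pow_mem he _)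
    rw [show (n + 1).choose 2 = n.choose 2 + n by
      rw [Nat.choose_succ_succ, Nat.choose_one_right, add_comm]]
    calc y ^ (n + 1) * x = y * (y ^ n * x) := by rw [pow_succ', mul_assoc]
      _ = y * (f ^ n.choose 2 * g ^ n * x * y ^ n) := by rw [ih]
      _ = f ^ n.choose 2 * (y * g ^ n) * x * y ^ n := by simp only [← mul_assoc]; rw [hc y]
      _ = f ^ n.choose 2 * (f ^ n * g ^ n * y) * x * y ^ n := by rw [h2]
      _ = f ^ n.choose 2 * f ^ n * g ^ n * (y * x) * y ^ n := by simp only [mul_assoc]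
      _ = f ^ (n.choose 2 + n) * g ^ (n + 1) * x * y ^ (n + 1) := by
        rw [h1, pow_add, pow_succ g, pow_succ' y]; simp only [mul_assoc]

/-- The sum of the first `n` squares (from zero). -/
def sqSum : ℕ → ℕ
  | 0 => 0
  | n + 1 => sqSum n + n * n

theorem six_mul_sqSum (n : ℕ) : (6 * sqSum n : ℤ) = n * ((n - 1) * (2 * n - 1)) := by
  induction n with
  | zero => simp [sqSum]
  | succ n ih => simp only [sqSum, Nat.cast_add, Nat.cast_mul, Nat.cast_one]; linear_combination ih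

theorem prime_dvd_sqSum {p : ℕ} (hp : p.Prime) (h3 : 3 < p) : p ∣ sqSum p := by
  have h : (p : ℤ) ∣ (6 * sqSum p : ℕ) := ⟨((p : ℤ) - 1) * (2 * p - 1), by
    push_cast; exact six_mul_sqSum p⟩
  refine ((hp.dvd_mul).mp (Int.natCast_dvd_natCast.mp h)).resolve_left fun h6 => ?_
  rcases (hp.dvd_mul).mp (show p ∣ 2 * 3 from h6) with h2 | h2
  · have := Nat.le_of_dvd (by norm_num) h2; omega
  · have := Nat.le_of_dvd (by norm_num) h2; omega

/-- The power formula in class three. -/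
theorem mul_pow {x y : G} (he : ⁅y, ⁅y, x⁆⁆ ∈ center G) (hh : ⁅x, ⁅y, x⁆⁆ ∈ center G) (n : ℕ) :
    (x * y) ^ n = ⁅y, ⁅y, x⁆⁆ ^ (n.choose 3) * ⁅x, ⁅y, x⁆⁆ ^ sqSum n * ⁅y, x⁆ ^ (n.choose 2) *
      x ^ n * y ^ n := by
  induction n with
  | zero => simp [sqSum]
  | succ n ih =>
    set g := ⁅y, x⁆ with hg
    set f := ⁅y, g⁆ with hf
    set h := ⁅x, g⁆ with hhdef
    have hcf : ∀ (k : ℕ) a, a * f ^ k = f ^ k * a := fun k => mem_center_iff.mp (pow_mem he k)
    have hch : ∀ (k : ℕ) a, a * h ^ k = h ^ k * a := fun k => mem_center_iff.mp (pow_mem hh k)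
    have h2 : x ^ n * g ^ n = h ^ (n * n) * g ^ n * x ^ n := by
      have h3 : ∀ k : ℕ, x ^ k * g = h ^ k * g * x ^ k := ClassTwoPow.pow_mul_comm_central hh
      have h4 : ∀ m : ℕ, x ^ n * g ^ m = h ^ (n * m) * g ^ m * x ^ n := by
        intro m
        induction m with
        | zero => simp
        | succ m ihm =>
          calc x ^ n * g ^ (m + 1) = (x ^ n * g ^ m) * g := by rw [pow_succ, mul_assoc]
            _ = h ^ (n * m) * g ^ m * (x ^ n * g) := by rw [ihm]; simp only [mul_assoc]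
            _ = h ^ (n * m) * (g ^ m * h ^ n) * g * x ^ n := by rw [h3]; simp only [mul_assoc]
            _ = h ^ (n * m) * (h ^ n * g ^ m) * g * x ^ n := by rw [hch]
            _ = h ^ (n * (m + 1)) * g ^ (m + 1) * x ^ n := by
              rw [Nat.mul_succ, pow_add, pow_succ g]; simp only [mul_assoc]
      exact h4 n
    rw [pow_succ, ih, sqSum, Nat.choose_succ_succ n 2, Nat.choose_succ_succ n 1,
      Nat.choose_one_right, add_comm (n.choose 2) (n.choose 3), add_comm n (n.choose 2)]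
    set A := n.choose 3
    set B := n.choose 2
    set S := sqSum n
    calc f ^ A * h ^ S * g ^ B * x ^ n * y ^ n * (x * y)
        = f ^ A * h ^ S * g ^ B * x ^ n * (y ^ n * x) * y := by simp only [mul_assoc]
      _ = f ^ A * h ^ S * g ^ B * (x ^ n * f ^ B) * g ^ n * x * y ^ n * y := by
        rw [pow_mul_comm he n]; simp only [mul_assoc]; rfl
      _ = f ^ A * h ^ S * g ^ B * f ^ B * (x ^ n * g ^ n) * x * y ^ n * y := by
        rw [hcf]; simp only [mul_assoc]
      _ = f ^ A * h ^ S * (g ^ B * f ^ B) * h ^ (n * n) * g ^ n * x ^ n * x * y ^ n * y := by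
        rw [h2]; simp only [mul_assoc]
      _ = f ^ A * (h ^ S * f ^ B) * (g ^ B * h ^ (n * n)) * g ^ n * x ^ n * x * y ^ n * y := by
        rw [hcf]; simp only [mul_assoc]
      _ = f ^ A * (f ^ B * h ^ S) * (h ^ (n * n) * g ^ B) * g ^ n * x ^ n * x * y ^ n * y := by
        rw [hcf B (h ^ S), hch (n * n) (g ^ B)]
      _ = f ^ (A + B) * h ^ (S + n * n) * g ^ (B + n) * x ^ (n + 1) * y ^ (n + 1) := by
        rw [pow_add, pow_add, pow_add, pow_succ, pow_succ]; simp only [mul_assoc]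

theorem mul_pow_prime {x y : G} {p : ℕ} (hp : p.Prime) (h3 : 3 < p)
    (he : ⁅y, ⁅y, x⁆⁆ ∈ center G) (hh : ⁅x, ⁅y, x⁆⁆ ∈ center G) (hf : ⁅y, ⁅y, x⁆⁆ ^ p = 1)
    (hh' : ⁅x, ⁅y, x⁆⁆ ^ p = 1) (hg : ⁅y, x⁆ ^ p = 1) : (x * y) ^ p = x ^ p * y ^ p := by
  obtain ⟨a, ha⟩ := Nat.Prime.dvd_choose_self hp two_ne_zero (show 2 < p by omega)
  obtain ⟨b, hb⟩ := Nat.Prime.dvd_choose_self hp (show (3 : ℕ) ≠ 0 by norm_num) h3
  obtain ⟨c, hc⟩ := prime_dvd_sqSum hp h3
  rw [mul_pow he hh, ha, hb, hc, pow_mul, pow_mul, pow_mul, hf, hh', hg, one_pow, one_pow, one_pow,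
    one_mul, one_mul, one_mul]

theorem triple_mem_center (h : ⁅⁅commutator G, (⊤ : Subgroup G)⁆, (⊤ : Subgroup G)⁆ = ⊥)
    (a b c : G) : ⁅c, ⁅a, b⁆⁆ ∈ center G := by
  rw [commutator_eq_bot_iff_le_centralizer, coe_top, centralizer_univ] at h
  rw [← commutatorElement_inv]
  exact inv_mem (h (commutator_mem_commutator
    (commutator_mem_commutator (mem_top a) (mem_top b)) (mem_top c)))

theorem pow_eq_one_of_mem_closure {p : ℕ} [hp : Fact p.Prime] (h3 : 3 < p)
    (h : ⁅⁅commutator G, (⊤ : Subgroup G)⁆, (⊤ : Subgroup G)⁆ = ⊥) {g : G}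
    (hg : g ∈ closure {x : G | x ^ p = 1}) : g ^ p = 1 := by
  induction hg using closure_induction with
  | mem z hz => exact hz
  | one => simp
  | mul a b _ _ ha hb =>
    have he := triple_mem_center h b a b
    have hh := triple_mem_center h b a a
    have hf : ⁅b, ⁅b, a⁆⁆ ^ p = 1 := by
      rw [← ClassTwoPow.commutator_pow_left he, hb, commutatorElement_one_left]
    have hh' : ⁅a, ⁅b, a⁆⁆ ^ p = 1 := by
      rw [← ClassTwoPow.commutator_pow_left hh, ha, commutatorElement_one_left]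
    have hg' : ⁅b, a⁆ ^ p = 1 := by
      have h1 := pow_mul_comm he p
      obtain ⟨k, hk⟩ := Nat.Prime.dvd_choose_self hp.out two_ne_zero (show 2 < p by omega)
      rw [hb, hk, pow_mul, hf, one_pow, one_mul, one_mul, mul_one] at h1
      simpa using h1.symm
    rw [mul_pow_prime hp.out h3 he hh hf hh' hg', ha, hb, one_mul]
  | inv a _ ha => rw [inv_pow, ha, inv_one]

end Cfsg.Agent.ClassThreePow
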