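import Mathlib
import Cfsg.Agent.Lib.PGroupsBasic
import Cfsg.Agent.Lib.ClassTwoPow
import Cfsg.Agent.Lib.ClassThreePow

namespace Cfsg.Agent.RankTwoOdd

open Subgroup
open scoped commutatorElement

variable {G : Type*} [Group G] [Finite G] {p : ℕ} [hp : Fact p.Prime]

/-- A maximal normal elementary abelian subgroup contains every element of order `p` in its
centralizer (`p` odd). -/
theorem mem_of_mem_centralizer (hp2 : p ≠ 2) (hG : IsPGroup p G) {A : Subgroup G} [A.Normal]
    (hA : Cfsg.IsElementaryAbelian p A)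
    (hmax : ∀ B : Subgroup G, B.Normal → Cfsg.IsElementaryAbelian p B → A ≤ B → B = A)
    {x : G} (hxC : x ∈ centralizer (A : Set G)) (hxp : x ^ p = 1) : x ∈ A := by
  by_contra hxA
  set C := centralizer (A : Set G) with hC
  have hCn : C.Normal := normal_centralizer
  let S : Set (Subgroup G) := {E | Cfsg.IsElementaryAbelian p E ∧ A < E ∧ E ≤ C ∧
    Nat.card E = Nat.card A * p}
  have hAC : A ≤ C := PGroupsBasic.le_centralizer_of_isMulCommutative hA.1
  have hne : S.Nonempty := by
    refine ⟨A ⊔ zpowers x, PGroupsBasic.isElementaryAbelian_sup hA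
      (PGroupsBasic.isElementaryAbelian_zpowers hxp) ?_, lt_of_le_of_ne le_sup_left fun h =>
        hxA (h.symm ▸ mem_sup_right (mem_zpowers x)), sup_le hAC (zpowers_le.mpr hxC), ?_⟩
    · rw [le_centralizer_iff, zpowers_le]
      exact hxC
    · exact PGroupsBasic.card_sup_zpowers (orderOf_eq_prime hxp fun h => hxA (h ▸ A.one_mem)) hxA
  obtain ⟨E, hES, hEmax⟩ := Set.exists_max_image S
    (fun E => Nat.card (normalizer (E : Set G))) (Set.toFinite _) hne
  obtain ⟨hEel, hAE, hEC, hEcard⟩ := hES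
  set N := normalizer (E : Set G) with hN
  have hNtop : N ≠ ⊤ := fun h => hAE.ne' (hmax E (normalizer_eq_top_iff.mp h) hEel hAE.le)
  set N2 := normalizer (N : Set G) with hN2
  have hlt : N < N2 := PGroupsBasic.lt_normalizer hG hNtop
  set W := closure (⋃ g ∈ N2, (fun e => g * e * g⁻¹) '' (E : Set G)) with hW
  have hconjN : ∀ g ∈ N2, ∀ e ∈ E, g * e * g⁻¹ ∈ N := fun g hg e he =>
    (mem_normalizer_iff.mp hg e).mp (le_normalizer he)
  have hEW : E ≤ W := fun e he => subset_closure (Set.mem_biUnion N2.one_mem ⟨e, he, by simp⟩)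
  have hWN : W ≤ N := by
    rw [hW, closure_le]
    simp only [Set.iUnion_subset_iff, Set.image_subset_iff]
    exact fun g hg e he => hconjN g hg e he
  have hWC : W ≤ C := by
    rw [hW, closure_le]
    simp only [Set.iUnion_subset_iff, Set.image_subset_iff]
    exact fun g _ e he => hCn.conj_mem e (hEC he) g
  have hgen : ∀ g ∈ N2, ∀ n ∈ N, ∀ e ∈ E, ∃ e' ∈ E, n * (g * e * g⁻¹) * n⁻¹ = g * e' * g⁻¹ := by
    intro g hg n hn e he
    have h1 : g⁻¹ * n * g ∈ N := by
      simpa using (mem_normalizer_iff.mp (N2.inv_mem hg) n).mp hn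
    refine ⟨g⁻¹ * n * g * e * (g⁻¹ * n * g)⁻¹, (mem_normalizer_iff.mp h1 e).mp he, ?_⟩
    group
  have hinter : ∀ g ∈ N2, ∀ w, w ∈ E → g * w * g⁻¹ ∈ E → w ∈ A ∨ ∀ v ∈ E, g * v * g⁻¹ ∈ E := by
    intro g hg w hw hgw
    by_cases hwA : w ∈ A
    · exact Or.inl hwA
    refine Or.inr fun v hv => ?_
    have hsup : A ⊔ zpowers w = E := by
      refine eq_of_le_of_card_ge (sup_le hAE.le (zpowers_le.mpr hw)) ?_
      rw [hEcard, PGroupsBasic.card_sup_zpowers
        (orderOf_eq_prime (hEel.2 w hw) fun h => hwA (h ▸ A.one_mem)) hwA]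
    have h2 : A ⊔ zpowers w ≤ E.comap (MulAut.conj g).toMonoidHom :=
      sup_le (fun a ha => hAE.le (‹A.Normal›.conj_mem a ha g)) (zpowers_le.mpr hgw)
    exact h2 (hsup.symm ▸ hv)
  have hcomm : ∀ g ∈ N2, ∀ h ∈ N2, ∀ a ∈ E, ∀ b ∈ E, ⁅g * a * g⁻¹, h * b * h⁻¹⁆ ∈ A := by
    intro g hg h hh a ha b hb
    set k := g⁻¹ * h with hk
    have hk2 : k ∈ N2 := N2.mul_mem (N2.inv_mem hg) hh
    suffices h0 : ⁅a, k * b * k⁻¹⁆ ∈ A by
      have := ‹A.Normal›.conj_mem _ h0 g
      convert this using 1
      simp [hk, commutatorElement_def, mul_assoc]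
    set c := k * b * k⁻¹ with hcdef
    have hm1 : ⁅a, c⁆ ∈ E := by
      rw [commutatorElement_def, mul_assoc, mul_assoc, ← mul_assoc c]
      exact E.mul_mem ha ((mem_normalizer_iff.mp (hconjN k hk2 b hb) _).mp (E.inv_mem ha))
    obtain ⟨e', he', hee⟩ := hgen k hk2 a (le_normalizer ha) b hb
    set w := e' * b⁻¹ with hw
    have hwE : w ∈ E := E.mul_mem he' (E.inv_mem hb)
    have h3 : k * w * k⁻¹ = ⁅a, c⁆ := by
      rw [hw, commutatorElement_def, hee, hcdef]
      group
    rcases hinter k hk2 w hwE (h3 ▸ hm1) with h4 | h4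
    · rw [← h3]; exact ‹A.Normal›.conj_mem w h4 k
    · rw [commutatorElement_eq_one_iff_mul_comm.mpr
        (PGroupsBasic.comm_of_isMulCommutative hEel.1 ha (h4 b hb))]
      exact A.one_mem
  -- `W` is central over `A`, so of class two and exponent `p`
  have hWA : ∀ u ∈ W, ∀ v ∈ W, ⁅u, v⁆ ∈ A := by
    have h1 : IsMulCommutative (W.map (QuotientGroup.mk' A)) := by
      rw [hW, MonoidHom.map_closure]
      refine isMulCommutative_closure ?_
      rintro _ ⟨u, hu, rfl⟩ _ ⟨v, hv, rfl⟩
      simp only [Set.mem_iUnion, Set.mem_image, exists_prop] at hu hv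
      obtain ⟨g, hg, a, ha, rfl⟩ := hu
      obtain ⟨h, hh, b, hb, rfl⟩ := hv
      rw [← commutatorElement_eq_one_iff_mul_comm, ← map_commutatorElement]
      exact (QuotientGroup.eq_one_iff _).mpr (hcomm g hg h hh a ha b hb)
    intro u hu v hv
    refine (QuotientGroup.eq_one_iff _).mp ?_
    show QuotientGroup.mk' A ⁅u, v⁆ = 1
    rw [map_commutatorElement, commutatorElement_eq_one_iff_mul_comm]
    exact PGroupsBasic.comm_of_isMulCommutative h1 ⟨u, hu, rfl⟩ ⟨v, hv, rfl⟩
  have hW2 : ⁅commutator W, (⊤ : Subgroup W)⁆ = ⊥ := by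
    rw [commutator_eq_bot_iff_le_centralizer, coe_top, centralizer_univ, _root_.commutator_def,
      Subgroup.commutator_le]
    intro u _ v _
    rw [mem_center_iff]
    intro w
    exact Subtype.ext ((mem_centralizer_iff.mp (hWC w.2) _ (hWA u u.2 v v.2)).symm)
  have hWp : ∀ w ∈ W, w ^ p = 1 := by
    intro w hw
    have hle : W ≤ (closure {z : W | z ^ p = 1}).map W.subtype := by
      conv_lhs => rw [hW]
      rw [closure_le]
      intro z hz
      have hz' : z ∈ W := subset_closure hz
      simp only [Set.mem_iUnion, Set.mem_image, exists_prop] at hz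
      obtain ⟨g, hg, e, he, rfl⟩ := hz
      refine ⟨⟨g * e * g⁻¹, hz'⟩, subset_closure (Subtype.ext ?_), rfl⟩
      simp [hEel.2 e he]
    obtain ⟨z, hz, rfl⟩ := hle hw
    exact congrArg Subtype.val (ClassTwoPow.pow_eq_one_of_mem_closure hp2 hW2 hz)
  -- find a larger normalizer
  have hWN2 : W ≤ N2 := hWN.trans hlt.le
  have hAW : A < W := hAE.trans_le hEW
  have hWn : ∀ n ∈ N2, ∀ w ∈ W, n * w * n⁻¹ ∈ W := by
    intro n hn
    have h1 : W ≤ W.comap (MulAut.conj n).toMonoidHom := by
      conv_lhs => rw [hW]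
      rw [closure_le]
      intro z hz
      simp only [Set.mem_iUnion, Set.mem_image, exists_prop] at hz
      obtain ⟨g, hg, e, he, rfl⟩ := hz
      exact subset_closure (Set.mem_biUnion (N2.mul_mem hn hg) ⟨e, he, by simp [mul_assoc]⟩)
    exact fun w hw => h1 hw
  have hn1 : (A.subgroupOf N2).Normal := ‹A.Normal›.subgroupOf N2
  have hn2 : (W.subgroupOf N2).Normal := ⟨fun w hw n => hWn n n.2 w hw⟩
  obtain ⟨E', hE'n, hAE', hE'W, hE'card⟩ := PGroupsBasic.exists_normal_succ (hG.to_subgroup N2)
    (M := A.subgroupOf N2) (N := W.subgroupOf N2)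
    (lt_of_le_of_ne (comap_mono hAW.le) fun h => hAW.ne (by
      have := congrArg (Subgroup.map N2.subtype) h
      rwa [map_subgroupOf_eq_of_le (hAW.le.trans hWN2), map_subgroupOf_eq_of_le hWN2] at this))
  set F := E'.map N2.subtype with hF
  have hFW : F ≤ W := (map_mono hE'W).trans_eq (map_subgroupOf_eq_of_le hWN2)
  have hAF : A ≤ F := (map_subgroupOf_eq_of_le (hAW.le.trans hWN2)).ge.trans (map_mono hAE')
  have hFcard : Nat.card F = Nat.card A * p := by
    rw [hF, card_map_of_injective N2.subtype_injective, hE'card,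
      Nat.card_congr (subgroupOfEquivOfLe (hAW.le.trans hWN2)).toEquiv]
  have hAF' : A < F := lt_of_le_of_ne hAF fun h => by
    rw [← h] at hFcard
    have := Nat.card_pos (α := A)
    have := hp.out.two_le
    nlinarith
  obtain ⟨f, hfF, hfA⟩ := SetLike.exists_of_lt hAF'
  have hFsup : A ⊔ zpowers f = F := by
    refine eq_of_le_of_card_ge (sup_le hAF (zpowers_le.mpr hfF)) ?_
    rw [hFcard, PGroupsBasic.card_sup_zpowers
      (orderOf_eq_prime (hWp f (hFW hfF)) fun h => hfA (h ▸ A.one_mem)) hfA]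
  have hFel : Cfsg.IsElementaryAbelian p F := hFsup ▸ PGroupsBasic.isElementaryAbelian_sup hA
    (PGroupsBasic.isElementaryAbelian_zpowers (hWp f (hFW hfF))) (by
      rw [le_centralizer_iff, zpowers_le]; exact hWC (hFW hfF))
  have hN2F : N2 ≤ normalizer (F : Set G) := by
    intro n hn
    rw [mem_normalizer_iff_map_conj_eq]
    refine eq_of_le_of_card_ge ?_
      (Nat.card_congr (F.equivMapOfInjective _ (MulAut.conj n).injective).toEquiv).le
    rintro _ ⟨_, ⟨z, hz, rfl⟩, rfl⟩
    exact ⟨⟨n, hn⟩ * z * ⟨n, hn⟩⁻¹, hE'n.conj_mem z hz _, rfl⟩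
  have h5 := hEmax F ⟨hFel, hAF', hFW.trans hWC, hFcard⟩
  have h6 : Nat.card N < Nat.card N2 :=
    Nat.lt_of_le_of_ne (card_le_of_le hlt.le) fun h => hlt.ne (eq_of_le_of_card_ge hlt.le h.ge)
  exact absurd (h6.trans_le ((card_le_of_le hN2F).trans h5)) (lt_irrefl _)

theorem exists_maximal_normal (p : ℕ) :
    ∃ A : Subgroup G, A.Normal ∧ Cfsg.IsElementaryAbelian p A ∧
      ∀ B : Subgroup G, B.Normal → Cfsg.IsElementaryAbelian p B → A ≤ B → B = A := by
  obtain ⟨A, ⟨hn, hA⟩, hmax⟩ := (Set.toFinite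
    {A : Subgroup G | A.Normal ∧ Cfsg.IsElementaryAbelian p A}).exists_maximal
    ⟨⊥, inferInstance, PGroupsBasic.isElementaryAbelian_bot⟩
  exact ⟨A, hn, hA, fun B hB1 hB2 h => le_antisymm (hmax ⟨hB1, hB2⟩ h) h⟩

/-- The centralizer of a normal subgroup of order at most `p ^ 2` has index at most `p`. -/
theorem index_centralizer_le (hG : IsPGroup p G) (A : Subgroup G) [A.Normal]
    (hA : Cfsg.IsElementaryAbelian p A) (hcard : Nat.card A ≤ p ^ 2) :
    (centralizer (A : Set G)).index ≤ p := by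
  by_cases hz : A ≤ center G
  · have : centralizer (A : Set G) = ⊤ := by
      rw [eq_top_iff]
      exact fun g _ => mem_centralizer_iff.mpr fun a ha => (mem_center_iff.mp (hz ha) g).symm
    rw [this, index_top]; exact hp.out.pos
  have hne : A ≠ ⊥ := fun h => hz (h ▸ bot_le)
  set Z := A ⊓ center G with hZ
  have hZn : Z.Normal := PGroupsBasic.normal_of_le_center inf_le_right
  have hZne : Z ≠ ⊥ := PGroupsBasic.inf_center_ne_bot hG hne
  have hZA : Z < A := lt_of_le_of_ne inf_le_left fun h => hz (h ▸ inf_le_right)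
  obtain ⟨i, hi⟩ := IsPGroup.iff_card.mp (hG.to_subgroup Z)
  obtain ⟨j, hj⟩ := IsPGroup.iff_card.mp (hG.to_subgroup A)
  have h1 : 1 ≤ i := by
    by_contra h
    exact hZne (eq_bot_of_card_eq _ (by rw [hi, show i = 0 by omega, pow_zero]))
  have h2 : i < j := (Nat.pow_lt_pow_iff_right hp.out.one_lt).mp (hi ▸ hj ▸
    Nat.lt_of_le_of_ne (card_le_of_le hZA.le) fun h => hZA.ne (eq_of_le_of_card_ge hZA.le h.ge))
  have h3 : j ≤ 2 := (Nat.pow_le_pow_iff_right hp.out.one_lt).mp (hj ▸ hcard)
  obtain rfl : i = 1 := by omega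
  obtain rfl : j = 2 := by omega
  rw [pow_one] at hi
  obtain ⟨a, haA, haZ⟩ := SetLike.exists_of_lt hZA
  have hAcard : Nat.card (A.map (QuotientGroup.mk' Z)) = p := by
    have h := card_mul_index (Z.subgroupOf A)
    rw [Nat.card_congr (subgroupOfEquivOfLe hZA.le).toEquiv, hi, hj, sq] at h
    rw [← relIndex_bot_left, ← Subgroup.map_bot (QuotientGroup.mk' Z), relIndex_map_map,
      QuotientGroup.ker_mk', bot_sup_eq, sup_eq_left.mpr hZA.le]
    exact Nat.eq_of_mul_eq_mul_left hp.out.pos h
  have hcen : A.map (QuotientGroup.mk' Z) ≤ center (G ⧸ Z) := by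
    have : (A.map (QuotientGroup.mk' Z)).Normal :=
      Subgroup.Normal.map inferInstance _ (QuotientGroup.mk'_surjective Z)
    exact PGroupsBasic.le_center_of_card_eq_prime (hG.to_quotient Z) hAcard
  have hmem : ∀ g : G, ⁅g, a⁆ ∈ Z := fun g => by
    refine (QuotientGroup.eq_one_iff _).mp ?_
    show QuotientGroup.mk' Z ⁅g, a⁆ = 1
    rw [map_commutatorElement, commutatorElement_eq_one_iff_mul_comm]
    exact mem_center_iff.mp (hcen ⟨a, haA, rfl⟩) _
  let f : G →* Z :=
    { toFun := fun g => ⟨⁅g, a⁆, hmem g⟩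
      map_one' := Subtype.ext (commutatorElement_one_left a)
      map_mul' := fun g h => Subtype.ext
        (PGroupsBasic.commutatorElement_mul_left_of_central (hmem h).2) }
  have hker : f.ker ≤ centralizer (A : Set G) := by
    intro g hg
    have hga : g * a = a * g := commutatorElement_eq_one_iff_mul_comm.mp (congrArg Subtype.val hg)
    have hsup : Z ⊔ zpowers a = A := by
      refine eq_of_le_of_card_ge (sup_le hZA.le (zpowers_le.mpr haA)) ?_
      rw [PGroupsBasic.card_sup_zpowers
        (orderOf_eq_prime (hA.2 a haA) fun h => haZ (h ▸ Z.one_mem)) haZ, hi, hj, sq]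
    have hle : Z ⊔ zpowers a ≤ centralizer ({g} : Set G) :=
      sup_le (inf_le_right.trans (center_le_centralizer _))
        (zpowers_le.mpr (mem_centralizer_singleton_iff.mpr hga.symm))
    intro b hb
    exact mem_centralizer_singleton_iff.mp (hle (hsup.symm ▸ hb))
  refine (Nat.le_of_dvd (Nat.pos_of_ne_zero index_ne_zero_of_finite) (index_dvd_of_le hker)).trans ?_
  rw [index_ker]
  exact (Nat.card_le_card_of_injective _ (subtype_injective f.range)).trans hi.le

/-- Without normal elementary abelian subgroups of order `p ^ 3` the rank is at most two. -/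
theorem rank_le_two (hp2 : p ≠ 2) (hG : IsPGroup p G)
    (h : ∀ A : Subgroup G, A.Normal → Cfsg.IsElementaryAbelian p A → Nat.card A ≠ p ^ 3)
    (E : Subgroup G) (hE : Cfsg.IsElementaryAbelian p E) : Nat.card E ≤ p ^ 2 := by
  obtain ⟨A, hAn, hA, hmax⟩ := exists_maximal_normal (G := G) p
  have hA2 : Nat.card A ≤ p ^ 2 := by
    obtain ⟨k, hk⟩ := IsPGroup.iff_card.mp (hG.to_subgroup A)
    rw [hk]
    refine Nat.pow_le_pow_right hp.out.pos ?_
    by_contra hk2
    obtain ⟨L, hLn, hLA, hL⟩ := PGroupsBasic.exists_normal_card_pow hG A 3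
      (hk ▸ Nat.pow_le_pow_right hp.out.pos (by omega))
    exact h L hLn (PGroupsBasic.isElementaryAbelian_mono hA hLA) hL
  set C := centralizer (A : Set G) with hC
  have hin : E ⊓ C ≤ A := fun e he => mem_of_mem_centralizer hp2 hG hA hmax he.2 (hE.2 e he.1)
  have hCn : C.Normal := normal_centralizer
  have hidx : C.relIndex E ≤ p :=
    (Nat.le_of_dvd (Nat.pos_of_ne_zero index_ne_zero_of_finite)
      (relIndex_dvd_index_of_normal C E)).trans (index_centralizer_le hG A hA hA2)
  have hcard : Nat.card E = Nat.card (E ⊓ C : Subgroup G) * C.relIndex E := by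
    rw [← (C.subgroupOf E).card_mul_index, ← inf_subgroupOf_left,
      Nat.card_congr (subgroupOfEquivOfLe inf_le_left).toEquiv]
    congr 1
    rw [inf_subgroupOf_left]; rfl
  by_cases hAE : A ≤ E
  · have hEC : E ≤ C := fun e he => mem_centralizer_iff.mpr fun a ha =>
      PGroupsBasic.comm_of_isMulCommutative hE.1 (hAE ha) he
    exact (card_le_of_le (fun e he => hin ⟨he, hEC he⟩)).trans hA2
  · have hlt : E ⊓ C < A := lt_of_le_of_ne hin fun heq => hAE (heq ▸ inf_le_left)
    obtain ⟨k, hk⟩ := IsPGroup.iff_card.mp (hG.to_subgroup (E ⊓ C : Subgroup G))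
    have hk1 : Nat.card (E ⊓ C : Subgroup G) < p ^ 2 :=
      lt_of_lt_of_le (Nat.lt_of_le_of_ne (card_le_of_le hlt.le) fun hh =>
        hlt.ne (eq_of_le_of_card_ge hlt.le hh.ge)) hA2
    rw [hk] at hk1
    have := (Nat.pow_lt_pow_iff_right hp.out.one_lt).mp hk1
    rw [hcard, hk, sq]
    refine Nat.mul_le_mul ?_ hidx
    calc p ^ k ≤ p ^ 1 := Nat.pow_le_pow_right hp.out.pos (by omega)
      _ = p := pow_one p

/-- For `p > 3`, in a group of rank at most two the elements of order dividing `p` generate a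
subgroup of exponent dividing `p`. -/
theorem omega_exponent (h3 : 3 < p) (hG : IsPGroup p G)
    (hrk : ∀ E : Subgroup G, Cfsg.IsElementaryAbelian p E → Nat.card E ≤ p ^ 2) {g : G}
    (hg : g ∈ closure {x : G | x ^ p = 1}) : g ^ p = 1 := by
  have hp2 : p ≠ 2 := by omega
  obtain ⟨A, hAn, hA, hmax⟩ := exists_maximal_normal (G := G) p
  have hA2 := hrk A hA
  set C := centralizer (A : Set G) with hC
  have hCn : C.Normal := normal_centralizer
  have hinC : ∀ x, x ^ p = 1 → x ∈ C → x ∈ A := fun x hx hxC =>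
    mem_of_mem_centralizer hp2 hG hA hmax hxC hx
  by_cases hall : ∀ x : G, x ^ p = 1 → x ∈ C
  · exact hA.2 g ((closure_le _).mpr (fun x hx => hinC x hx (hall x hx)) hg)
  push Not at hall
  obtain ⟨x, hxp, hxC⟩ := hall
  have hCi := index_centralizer_le hG A hA hA2
  set T := A ⊔ zpowers x with hT
  have hxA : x ∉ A := fun h => hxC (PGroupsBasic.le_centralizer_of_isMulCommutative hA.1 h)
  have hTcard : Nat.card T = Nat.card A * p :=
    PGroupsBasic.card_sup_zpowers (orderOf_eq_prime hxp fun h => hxA (h ▸ A.one_mem)) hxA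
  -- a subgroup of exponent `p` containing `T` equals `T`
  have hexp : ∀ S : Subgroup G, T ≤ S → (∀ s ∈ S, s ^ p = 1) → S = T := by
    intro S hTS hS
    refine (eq_of_le_of_card_ge hTS ?_).symm
    rw [hTcard, ← (C.subgroupOf S).card_mul_index]
    refine Nat.mul_le_mul ?_ ?_
    · rw [← inf_subgroupOf_left, Nat.card_congr (subgroupOfEquivOfLe inf_le_left).toEquiv]
      exact card_le_of_le fun s hs => hinC s (hS s hs.1) hs.2
    · exact (Nat.le_of_dvd (Nat.pos_of_ne_zero index_ne_zero_of_finite)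
        (relIndex_dvd_index_of_normal C S)).trans hCi
  -- every element of order `p` normalizing `T` lies in `T`
  have habsorb : ∀ y, y ^ p = 1 → y ∈ normalizer (T : Set G) → y ∈ T := by
    intro y hy hyN
    set S := T ⊔ zpowers y with hSdef
    set T' := T.subgroupOf S with hT'
    have hSN : S ≤ normalizer (T : Set G) := sup_le le_normalizer (zpowers_le.mpr hyN)
    have hT'n : T'.Normal := (normal_subgroupOf_iff_le_normalizer le_sup_left).mpr hSN
    by_contra hyT
    have hSp := hG.to_subgroup S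
    have hcle : ∀ M : Subgroup S, M.Normal → M ≠ ⊥ → ⁅M, (⊤ : Subgroup S)⁆ ≤ M ∧
        Nat.card (⁅M, (⊤ : Subgroup S)⁆ : Subgroup S) < Nat.card M := by
      intro M hMn hMb
      have := hMn
      obtain ⟨k, hk⟩ := IsPGroup.iff_card.mp (hSp.to_subgroup M)
      rcases k with _ | k
      · exact absurd (eq_bot_of_card_eq _ (hk.trans (pow_zero p))) hMb
      obtain ⟨L, hLn, hLM, hLcard⟩ := PGroupsBasic.exists_normal_card_pow hSp M k
        (hk ▸ Nat.pow_le_pow_right hp.out.pos k.le_succ)
      have hMq : M.map (QuotientGroup.mk' L) ≤ center (S ⧸ L) := by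
        have : (M.map (QuotientGroup.mk' L)).Normal :=
          Subgroup.Normal.map hMn _ (QuotientGroup.mk'_surjective L)
        refine PGroupsBasic.le_center_of_card_eq_prime (hSp.to_quotient L) ?_
        have h := card_mul_index (L.subgroupOf M)
        rw [Nat.card_congr (subgroupOfEquivOfLe hLM).toEquiv, hLcard, hk, pow_succ] at h
        rw [← relIndex_bot_left, ← Subgroup.map_bot (QuotientGroup.mk' L), relIndex_map_map,
          QuotientGroup.ker_mk', bot_sup_eq, sup_eq_left.mpr hLM]
        exact Nat.eq_of_mul_eq_mul_left (pow_pos hp.out.pos _) h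
      have hle : ⁅M, (⊤ : Subgroup S)⁆ ≤ L := by
        rw [Subgroup.commutator_le]
        intro m hm s _
        refine (QuotientGroup.eq_one_iff _).mp ?_
        show QuotientGroup.mk' L ⁅m, s⁆ = 1
        rw [map_commutatorElement, commutatorElement_eq_one_iff_mul_comm]
        exact (mem_center_iff.mp (hMq ⟨m, hm, rfl⟩) _).symm
      exact ⟨hle.trans hLM, (card_le_of_le hle).trans_lt
        (hLcard ▸ hk ▸ Nat.pow_lt_pow_right hp.out.one_lt k.lt_succ_self)⟩
    have htop : T' ⊔ zpowers (⟨y, mem_sup_right (mem_zpowers y)⟩ : S) = ⊤ := by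
      refine map_injective S.subtype_injective ?_
      rw [Subgroup.map_sup, MonoidHom.map_zpowers, map_subgroupOf_eq_of_le le_sup_left,
        ← MonoidHom.range_eq_map, range_subtype]
      rfl
    set L₁ := ⁅T', (⊤ : Subgroup S)⁆ with hL₁
    have hder : commutator S ≤ L₁ := by
      refine (Subgroup.Normal.quotient_commutative_iff_commutator_le).mp ?_
      have hc : T'.map (QuotientGroup.mk' L₁) ≤ center (S ⧸ L₁) := by
        rintro _ ⟨t, ht, rfl⟩
        rw [mem_center_iff]
        intro w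
        obtain ⟨s, rfl⟩ := QuotientGroup.mk'_surjective L₁ w
        refine (commutatorElement_eq_one_iff_mul_comm.mp ?_).symm
        rw [← map_commutatorElement]
        exact (QuotientGroup.eq_one_iff _).mpr (commutator_mem_commutator ht (mem_top s))
      have hcomm : IsMulCommutative (closure ((T'.map (QuotientGroup.mk' L₁) : Set (S ⧸ L₁)) ∪
          {QuotientGroup.mk' L₁ ⟨y, mem_sup_right (mem_zpowers y)⟩})) := by
        refine isMulCommutative_closure ?_
        rintro u (hu | hu) v (hv | hv)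
        · exact (mem_center_iff.mp (hc hu) v).symm
        · exact (mem_center_iff.mp (hc hu) v).symm
        · exact mem_center_iff.mp (hc hv) u
        · rw [Set.mem_singleton_iff.mp hu, Set.mem_singleton_iff.mp hv]
      have h1 : closure ((T'.map (QuotientGroup.mk' L₁) : Set (S ⧸ L₁)) ∪
          {QuotientGroup.mk' L₁ ⟨y, mem_sup_right (mem_zpowers y)⟩}) = ⊤ := by
        rw [← top_le_iff]
        refine ((map_top_of_surjective _ (QuotientGroup.mk'_surjective L₁)).symm.trans
          (congrArg (Subgroup.map (QuotientGroup.mk' L₁)) htop.symm)).trans_le ?_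
        rw [Subgroup.map_sup, MonoidHom.map_zpowers]
        exact sup_le (fun z hz => subset_closure (Or.inl hz))
          (zpowers_le.mpr (subset_closure (Or.inr rfl)))
      exact ⟨⟨fun u v => PGroupsBasic.comm_of_isMulCommutative hcomm (h1 ▸ mem_top u) (h1 ▸ mem_top v)⟩⟩
    have hbot : ⁅⁅L₁, (⊤ : Subgroup S)⁆, (⊤ : Subgroup S)⁆ = ⊥ := by
      by_contra hne
      have hne2 : ⁅L₁, (⊤ : Subgroup S)⁆ ≠ ⊥ := fun h => hne (by rw [h]; exact commutator_bot_left _)
      have hne1 : L₁ ≠ ⊥ := fun h => hne2 (by rw [h]; exact commutator_bot_left _)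
      have hne0 : T' ≠ ⊥ := fun h => hne1 (by rw [hL₁, h]; exact commutator_bot_left _)
      have hTT : Nat.card T' ≤ p ^ 3 := by
        rw [hT', Nat.card_congr (subgroupOfEquivOfLe le_sup_left).toEquiv, hTcard, pow_succ]
        exact Nat.mul_le_mul_right _ hA2
      have c1 := (hcle T' hT'n hne0).2
      have c2 := (hcle L₁ (commutator_normal _ _) hne1).2
      have c3 := (hcle _ (commutator_normal _ _) hne2).2
      obtain ⟨e0, he0⟩ := IsPGroup.iff_card.mp (hSp.to_subgroup T')
      obtain ⟨e1, he1⟩ := IsPGroup.iff_card.mp (hSp.to_subgroup L₁)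
      obtain ⟨e2, he2⟩ := IsPGroup.iff_card.mp (hSp.to_subgroup ⁅L₁, (⊤ : Subgroup S)⁆)
      obtain ⟨e3, he3⟩ := IsPGroup.iff_card.mp
        (hSp.to_subgroup ⁅⁅L₁, (⊤ : Subgroup S)⁆, (⊤ : Subgroup S)⁆)
      rw [he0] at c1 hTT
      rw [hL₁] at he1
      rw [he1] at c1
      rw [← hL₁] at he1
      rw [he1, he2] at c2
      rw [he2, he3] at c3
      have d1 := (Nat.pow_lt_pow_iff_right hp.out.one_lt).mp c1
      have d2 := (Nat.pow_lt_pow_iff_right hp.out.one_lt).mp c2
      have d3 := (Nat.pow_lt_pow_iff_right hp.out.one_lt).mp c3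
      have d0 := (Nat.pow_le_pow_iff_right hp.out.one_lt).mp hTT
      exact hne (eq_bot_of_card_eq _ (by rw [he3, show e3 = 0 by omega, pow_zero]))
    have hcl : ⁅⁅commutator S, (⊤ : Subgroup S)⁆, (⊤ : Subgroup S)⁆ = ⊥ :=
      le_bot_iff.mp ((commutator_mono (commutator_mono hder le_rfl) le_rfl).trans hbot.le)
    have hS : ∀ s ∈ S, s ^ p = 1 := by
      intro s hs
      have hgen : S ≤ (closure {z : S | z ^ p = 1}).map S.subtype := by
        have hA' : A ≤ S := le_sup_left.trans le_sup_left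
        conv_lhs => rw [hSdef, hT]
        refine sup_le (sup_le (fun a ha => ?_) (zpowers_le.mpr ?_)) (zpowers_le.mpr ?_)
        · exact ⟨⟨a, hA' ha⟩, subset_closure (Subtype.ext (hA.2 a ha)), rfl⟩
        · exact ⟨⟨x, mem_sup_left (mem_sup_right (mem_zpowers x))⟩,
            subset_closure (Subtype.ext hxp), rfl⟩
        · exact ⟨⟨y, mem_sup_right (mem_zpowers y)⟩, subset_closure (Subtype.ext hy), rfl⟩
      obtain ⟨z, hz, rfl⟩ := hgen hs
      exact congrArg Subtype.val (ClassThreePow.pow_eq_one_of_mem_closure h3 hcl hz)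
    exact hyT (hexp S le_sup_left hS ▸ mem_sup_right (mem_zpowers y))
  have hTn : normalizer (T : Set G) = ⊤ := by
    by_contra hne
    set N := normalizer (T : Set G) with hN
    have hlt := PGroupsBasic.lt_normalizer hG hne
    apply hlt.not_ge
    intro g hg
    rw [hN, mem_normalizer_iff_map_conj_eq]
    refine eq_of_le_of_card_ge ?_
      (Nat.card_congr (T.equivMapOfInjective _ (MulAut.conj g).injective).toEquiv).le
    rw [map_le_iff_le_comap]
    refine sup_le (fun a ha => mem_sup_left (hAn.conj_mem a ha g)) (zpowers_le.mpr ?_)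
    refine habsorb _ ?_ ?_
    · show (MulAut.conj g x) ^ p = 1
      rw [← map_pow, hxp, map_one]
    · exact (mem_normalizer_iff.mp hg x).mp (le_normalizer (mem_sup_right (mem_zpowers x)))
  have hgT : g ∈ T := (closure_le _).mpr (fun z hz => habsorb z hz (hTn ▸ mem_top z)) hg
  have hTn' : T.Normal := normalizer_eq_top_iff.mp hTn
  obtain rfl | hne := eq_or_ne p 0
  · omega
  -- `T` has exponent `p`
  have hTc : ⁅commutator T, (⊤ : Subgroup T)⁆ = ⊥ := by
    have hTp := hG.to_subgroup T
    have hAT : (A.subgroupOf T).index = p := by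
      have h := card_mul_index (A.subgroupOf T)
      rw [Nat.card_congr (subgroupOfEquivOfLe le_sup_left).toEquiv, hTcard] at h
      exact Nat.eq_of_mul_eq_mul_left Nat.card_pos h
    have h1 : commutator T ≤ A.subgroupOf T :=
      PGroupsBasic.commutator_le_of_index_le_sq hTp (hAT.le.trans (Nat.le_self_pow two_ne_zero p))
    rw [commutator_eq_bot_iff_le_centralizer, coe_top, centralizer_univ]
    by_contra hnle
    have hcT : Nat.card (commutator T) ≤ p := by
      by_contra hgt
      obtain ⟨k, hk⟩ := IsPGroup.iff_card.mp (hTp.to_subgroup (commutator T))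
      have h2 : p ^ 2 ≤ Nat.card (commutator T) := by
        rw [hk] at hgt ⊢
        refine Nat.pow_le_pow_right hp.out.pos ?_
        by_contra hk2
        exact hgt ((Nat.pow_le_pow_right hp.out.pos (by omega : k ≤ 1)).trans (pow_one p).le)
      have h3' : (commutator T).index ≤ p := by
        have h := card_mul_index (commutator T)
        have h4 : Nat.card T ≤ p ^ 2 * p := hTcard ▸ Nat.mul_le_mul_right _ hA2
        have h5 : p ^ 2 * (commutator T).index ≤ p ^ 2 * p :=
          (Nat.mul_le_mul_right _ h2).trans (h.le.trans h4)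
        exact Nat.le_of_mul_le_mul_left h5 (pow_pos hp.out.pos 2)
      have : Group.IsNilpotent T := hTp.isNilpotent
      refine hnle ?_
      have hfr : commutator T ≤ frattini T := PGroupsBasic.commutator_le_frattini hTp
      obtain ⟨z, hz⟩ : ∃ z : T, zpowers z ⊔ commutator T = ⊤ := by
        by_cases htop : commutator T = ⊤
        · exact ⟨1, by rw [htop, sup_top_eq]⟩
        · obtain ⟨z, hz⟩ : ∃ z, z ∉ commutator T := by
            by_contra hh; push Not at hh; exact htop (eq_top_iff.mpr fun z _ => hh z)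
          refine ⟨z, ?_⟩
          have hc : IsCoatom (commutator T) := PGroupsBasic.isCoatom_of_index_eq (p := p) (by
            obtain ⟨j, hj⟩ := hTp.index (commutator T)
            rcases j with _ | j
            · exact absurd (index_eq_one.mp (hj.trans (pow_zero p))) htop
            · rw [hj] at h3' ⊢
              exact le_antisymm h3' (Nat.le_self_pow j.succ_ne_zero p))
          exact hc.2 _ (lt_of_le_of_ne le_sup_right fun hh => hz (hh.symm ▸ mem_sup_left (mem_zpowers z)))
      have hgenz : zpowers z = ⊤ := frattini_nongenerating (top_le_iff.mp (hz.ge.trans (sup_le_sup_left hfr _)))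
      intro u _
      rw [mem_center_iff]
      intro v
      obtain ⟨i, rfl⟩ := mem_zpowers_iff.mp (hgenz.symm ▸ mem_top u)
      obtain ⟨j, rfl⟩ := mem_zpowers_iff.mp (hgenz.symm ▸ mem_top v)
      rw [← zpow_add, ← zpow_add, add_comm]
    rcases hcT.lt_or_eq with hl | hl
    · obtain ⟨k, hk⟩ := IsPGroup.iff_card.mp (hTp.to_subgroup (commutator T))
      rw [hk] at hl
      have := (Nat.pow_lt_pow_iff_right hp.out.one_lt).mp (hl.trans_eq (pow_one p).symm)
      exact hnle (by rw [eq_bot_of_card_eq (commutator T) (by rw [hk, show k = 0 by omega, pow_zero])]; exact bot_le)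
    · exact hnle (PGroupsBasic.le_center_of_card_eq_prime hTp hl)
  have hgen : T ≤ (closure {z : T | z ^ p = 1}).map T.subtype := by
    conv_lhs => rw [hT]
    refine sup_le (fun a ha => ⟨⟨a, mem_sup_left ha⟩, subset_closure (Subtype.ext (hA.2 a ha)), rfl⟩)
      (zpowers_le.mpr ⟨⟨x, mem_sup_right (mem_zpowers x)⟩, subset_closure (Subtype.ext hxp), rfl⟩)
  obtain ⟨z, hz, rfl⟩ := hgen hgT
  exact congrArg Subtype.val (ClassTwoPow.pow_eq_one_of_mem_closure hp2 hTc hz)

end Cfsg.Agent.RankTwoOdd
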