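import Mathlib
import Cfsg.Prelude.Def_OddOrderLocal
import Cfsg.Agent.Lib.OddGL2
import Cfsg.Agent.Lib.RankTwoOdd
import Cfsg.Agent.Lib.OmegaCoprime
import Cfsg.Agent.Lib.CoprimeGen
import Cfsg.Agent.Lib.HallSolvable
import Cfsg.Agent.Lib.GlaubermanQuotient
import Cfsg.Agent.Lib.PConstrained
import Cfsg.Agent.Lib.PLengthSteps
import Cfsg.Agent.Lib.ComponentsFitting

/-!
A solvable group of odd order acting on a `p`-group of rank at most two (`p` odd): the elements of
order prime to `p` in the derived group centralize it.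
-/

set_option autoImplicit false

namespace Cfsg.Agent.BGRankTwo

open Subgroup
open scoped commutatorElement Matrix

universe u v

section matrices

variable {F : Type v} [Field F] {p : ℕ} [Fact p.Prime] [CharP F p]

theorem det_eq_one_of_mem_commutator {S : Type u} [Group S] (f : S →* Matrix (Fin 2) (Fin 2) F)
    {c : S} (hc : c ∈ commutator S) :
    f c 0 0 * f c 1 1 - f c 0 1 * f c 1 0 = 1 := by
  let δ : S →* Fˣ := MonoidHom.toHomUnits (Matrix.detMonoidHom.comp f)
  have h1 : δ c = 1 := Abelianization.commutator_subset_ker δ hc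
  have h2 : (f c).det = 1 := congrArg Units.val h1
  rwa [Matrix.det_fin_two] at h2

/-- A group of odd order prime to `p` with a faithful representation of degree two is abelian. -/
theorem mat_commute (hp : p ≠ 2) : ∀ (n : ℕ) (S : Type u) [Group S] [Finite S] [Group.IsSolvable S],
    Nat.card S = n → Odd (Nat.card S) → (Nat.card S).Coprime p →
    ∀ f : S →* Matrix (Fin 2) (Fin 2) F, Function.Injective f → ∀ a b : S, Commute a b := by
  intro n
  induction n using Nat.strong_induction_on with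
  | _ n ih =>
  intro S _ _ _ hn hodd hcop f hf a b
  by_cases hbot : commutator S = ⊥
  · have h1 : ⁅a, b⁆ ∈ commutator S := commutator_mem_commutator (mem_top a) (mem_top b)
    rw [hbot, mem_bot] at h1
    exact commutatorElement_eq_one_iff_mul_comm.mp h1
  have hnt : Nontrivial S := by
    by_contra h
    rw [not_nontrivial_iff_subsingleton] at h
    exact hbot (Subsingleton.elim _ _)
  have hne : commutator S ≠ ⊤ := (Group.IsSolvable.commutator_lt_top_of_nontrivial S).ne
  have hab : ∀ x y : commutator S, Commute x y :=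
    ih _ (hn ▸ HallSolvable.card_subgroup_lt hne) (commutator S) rfl
      (hodd.of_dvd_nat (card_subgroup_dvd_card _))
      (hcop.coprime_dvd_left (card_subgroup_dvd_card _)) (f.comp (commutator S).subtype)
      (hf.comp (commutator S).subtype_injective)
  obtain ⟨g, hgc, hg1⟩ := (commutator S).bot_or_exists_ne_one.resolve_left hbot
  have h2F : (2 : F) ≠ 0 := fun h => hp ((Nat.prime_dvd_prime_iff_eq Fact.out Nat.prime_two).1
    ((CharP.cast_eq_zero_iff F p 2).1 (by exact_mod_cast h)))
  have hdet := det_eq_one_of_mem_commutator f hgc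
  have hord2 : (orderOf g).Coprime 2 := Nat.coprime_two_right.2 (hodd.of_dvd_nat (orderOf_dvd_natCard g))
  have hordp : (orderOf g).Coprime p := hcop.coprime_dvd_left (orderOf_dvd_natCard g)
  have hsq : ∀ m : ℕ, (g ^ m) ^ 2 = 1 → g ^ m = 1 := fun m h => orderOf_eq_one_iff.1
    (Nat.eq_one_of_dvd_coprimes (hord2.coprime_dvd_left (orderOf_pow_dvd m)) dvd_rfl
      (orderOf_dvd_of_pow_eq_one h))
  have hgp : g ^ p ≠ 1 := fun h => hg1 (orderOf_eq_one_iff.1
    (Nat.eq_one_of_dvd_coprimes hordp dvd_rfl (orderOf_dvd_of_pow_eq_one h)))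
  have hneg : ∀ m : ℕ, f (g ^ m) = -1 → g ^ m = 1 := fun m h => hsq m
    (hf (by rw [map_pow f (g ^ m) 2, h, map_one, sq, neg_mul_neg, one_mul]))
  have hns : ¬ OddGL2.IsScal (f g) := by
    refine OddGL2.not_isScal_of_ne p hdet (fun h => hg1 (hf (h.trans (map_one f).symm))) fun h => ?_
    exact hg1 (by simpa using hneg 1 (by rwa [pow_one]))
  have hdisc : (f g 0 0 + f g 1 1) ^ 2 ≠ 4 := by
    intro h
    have h' : (f g 0 0 + f g 1 1 - 2) * (f g 0 0 + f g 1 1 + 2) = 0 := by linear_combination h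
    rcases mul_eq_zero.1 h' with h1 | h1
    · refine hgp (hf ?_)
      rw [map_pow, map_one, OddGL2.pow_p_of_trace p hp hdet 1 (one_mul 1)
        (by rw [sub_eq_zero.1 h1, mul_one]), one_smul]
    · refine hgp (hneg p ?_)
      rw [map_pow, OddGL2.pow_p_of_trace p hp hdet (-1) (by norm_num) (by linear_combination h1),
        neg_one_smul]
  have hcent : ∀ n : S, Commute n g := by
    intro m
    have hg' : m * g * m⁻¹ ∈ commutator S := Subgroup.Normal.conj_mem inferInstance g hgc m
    have hcomm : Commute (m * g * m⁻¹) g :=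
      congrArg Subtype.val (hab ⟨_, hg'⟩ ⟨g, hgc⟩).eq
    have htr : f (m * g * m⁻¹) 0 0 + f (m * g * m⁻¹) 1 1 = f g 0 0 + f g 1 1 := by
      have h : Matrix.trace (f (m * g * m⁻¹)) = Matrix.trace (f g) := by
        rw [map_mul, map_mul, Matrix.trace_mul_cycle, ← map_mul, inv_mul_cancel, map_one, one_mul]
      simpa [Matrix.trace_fin_two] using h
    rcases OddGL2.eq_or_mul_eq_one h2F hdet (det_eq_one_of_mem_commutator f hg') htr hdisc hns
      (by rw [← map_mul, ← map_mul, hcomm.eq]) with h | h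
    · exact (mul_inv_eq_iff_eq_mul.1 (hf h) : m * g = g * m)
    · refine absurd (OddGL2.eq_one_of_conj_inv hodd (n := m) (t := g) ?_) hg1
      exact eq_inv_of_mul_eq_one_left (hf (by rw [map_mul, h, map_one]))
  refine hf ?_
  rw [map_mul, map_mul]
  exact OddGL2.commute_of_commute_nonscalar hns (by rw [← map_mul, ← map_mul, (hcent a).eq])
    (by rw [← map_mul, ← map_mul, (hcent b).eq])

/-- In odd order, commutators in a faithful representation of degree two have order dividing `p`. -/
theorem mat_commutator_pow (hp : p ≠ 2) {S : Type u} [Group S] [Finite S] [Group.IsSolvable S]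
    (hodd : Odd (Nat.card S)) (f : S →* Matrix (Fin 2) (Fin 2) F) (hf : Function.Injective f)
    {c : S} (hc : c ∈ commutator S) : c ^ p = 1 := by
  classical
  by_cases hdvd : p ∣ Nat.card S
  swap
  · have hcop : (Nat.card S).Coprime p :=
      ((Nat.Prime.coprime_iff_not_dvd Fact.out).2 hdvd).symm
    have hab := mat_commute hp _ S rfl hodd hcop f hf
    have : commutator S ≤ (⊥ : Subgroup S) := by
      rw [_root_.commutator_def, commutator_le]
      intro a _ b _
      rw [mem_bot, commutatorElement_eq_one_iff_mul_comm]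
      exact (hab a b).eq
    rw [mem_bot.1 (this hc), one_pow]
  let u : S →* (Matrix (Fin 2) (Fin 2) F)ˣ := f.toHomUnits
  have hu : Function.Injective u := fun x y h => hf (congrArg Units.val h)
  haveI : Finite u.range := Finite.of_surjective _ u.rangeRestrict_surjective
  have hcard : Nat.card u.range = Nat.card S :=
    Nat.card_congr (MonoidHom.ofInjective hu).toEquiv.symm
  have hnirr : ¬ ∀ v : Fin 2 → F, v ≠ 0 → ∃ g ∈ u.range,
      (g : Matrix (Fin 2) (Fin 2) F).mulVec v ∉ Submodule.span F {v} := fun h =>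
    OddGL2.not_dvd_card p hp u.range (hcard ▸ hodd) h (hcard ▸ hdvd)
  push Not at hnirr
  obtain ⟨v, hv, hinv⟩ := hnirr
  have hex : ∀ g : S, ∃ l : F, l • v = (f g).mulVec v := fun g =>
    Submodule.mem_span_singleton.1 (hinv (u g) ⟨g, rfl⟩)
  choose l hl using hex
  let χ : S →* F :=
    { toFun := l
      map_one' := by
        refine smul_left_injective F hv ?_
        show l 1 • v = (1 : F) • v
        rw [hl, map_one, Matrix.one_mulVec, one_smul]
      map_mul' := fun a b => by
        refine smul_left_injective F hv ?_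
        show l (a * b) • v = (l a * l b) • v
        rw [hl, map_mul, ← Matrix.mulVec_mulVec, ← hl b, Matrix.mulVec_smul, ← hl a, smul_smul,
          mul_comm] }
  have hχ : l c = 1 := congrArg Units.val (Abelianization.commutator_subset_ker χ.toHomUnits hc :
    χ.toHomUnits c = 1)
  have hfix : (f c - 1).mulVec v = 0 := by
    rw [Matrix.sub_mulVec, Matrix.one_mulVec, ← hl, hχ, one_smul, sub_self]
  have hdet := det_eq_one_of_mem_commutator f hc
  have h0 : (f c - 1).det = 0 := Matrix.exists_mulVec_eq_zero_iff.1 ⟨v, hv, hfix⟩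
  rw [Matrix.det_fin_two] at h0
  simp only [Matrix.sub_apply, Matrix.one_apply_eq, Matrix.one_apply_ne (show (0 : Fin 2) ≠ 1 by decide),
    Matrix.one_apply_ne (show (1 : Fin 2) ≠ 0 by decide), sub_zero] at h0
  refine hf ?_
  rw [map_pow, map_one, OddGL2.pow_p_of_trace p hp hdet 1 (one_mul 1)
    (by linear_combination hdet - h0), one_smul]

end matrices

section action

variable {p : ℕ} [Fact p.Prime]

/-- Commutators act with order dividing `p` on an elementary abelian group of order at most `p ^ 2`. -/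
theorem action_pow (hp : p ≠ 2) {Y : Type u} [Group Y] [Finite Y] [Group.IsSolvable Y]
    (hodd : Odd (Nat.card Y)) {V : Type v} [CommGroup V] [Finite V] (hV : ∀ x : V, x ^ p = 1)
    (hcard : Nat.card V ≤ p ^ 2) (φ : Y →* MulAut V) {c : Y} (hc : c ∈ commutator Y) :
    φ c ^ p = 1 := by
  have hp' : p.Prime := Fact.out
  obtain ⟨k, hk⟩ := IsPGroup.iff_card.1
    (fun x => ⟨1, by rw [pow_one]; exact hV x⟩ : IsPGroup p V)
  have hk2 : k ≤ 2 := (Nat.pow_le_pow_iff_right hp'.one_lt).1 (hk ▸ hcard)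
  rcases Nat.lt_or_ge k 2 with hlt | hge
  · -- `V` is cyclic, so its automorphisms commute
    have hcyc : IsCyclic V := by
      interval_cases k
      · haveI : Subsingleton V := (Nat.card_eq_one_iff_unique.1 (by rw [hk, pow_zero])).1
        infer_instance
      · exact isCyclic_of_prime_card (by rw [hk, pow_one])
    obtain ⟨g, hg⟩ := hcyc.exists_generator
    have hcomm : ∀ a b : MulAut V, a * b = b * a := by
      intro a b
      obtain ⟨i, hi⟩ := mem_zpowers_iff.1 (hg (a g))
      obtain ⟨j, hj⟩ := mem_zpowers_iff.1 (hg (b g))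
      have key : (a * b) g = (b * a) g := by
        rw [MulAut.mul_apply, MulAut.mul_apply, ← hi, ← hj, map_zpow, map_zpow, ← hi, ← hj,
          ← zpow_mul, ← zpow_mul, mul_comm]
      refine MulEquiv.ext fun x => ?_
      obtain ⟨m, rfl⟩ := mem_zpowers_iff.1 (hg x)
      rw [map_zpow, map_zpow, key]
    have : commutator Y ≤ φ.ker := by
      rw [_root_.commutator_def, commutator_le]
      intro a _ b _
      rw [MonoidHom.mem_ker, map_commutatorElement, commutatorElement_eq_one_iff_mul_comm]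
      exact hcomm _ _
    rw [show φ c = 1 from this hc, one_pow]
  obtain rfl : k = 2 := le_antisymm hk2 hge
  have instM : Module (ZMod p) (Additive V) :=
    AddCommGroup.zmodModule fun x => congrArg Additive.ofMul (hV x.toMul)
  haveI : Module.Finite (ZMod p) (Additive V) := Module.Finite.of_finite
  have hfr : Module.finrank (ZMod p) (Additive V) = 2 := by
    have h1 : Nat.card (Additive V) = Nat.card (ZMod p) ^ Module.finrank (ZMod p) (Additive V) :=
      Module.natCard_eq_pow_finrank (K := ZMod p) (V := Additive V)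
    rw [Nat.card_zmod, show Nat.card (Additive V) = Nat.card V from rfl, hk] at h1
    exact (Nat.pow_right_injective hp'.two_le h1).symm
  let b := Module.finBasisOfFinrankEq (ZMod p) (Additive V) hfr
  let lin : MulAut V →* Module.End (ZMod p) (Additive V) :=
    { toFun := fun a => AddMonoidHom.toZModLinearMap p (MonoidHom.toAdditive a.toMonoidHom)
      map_one' := LinearMap.ext fun x => by
        show Additive.ofMul ((1 : MulAut V) x.toMul) = x
        rfl
      map_mul' := fun a a' => LinearMap.ext fun x => by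
        show Additive.ofMul ((a * a') x.toMul) = Additive.ofMul (a (a' x.toMul))
        rfl }
  let f : MulAut V →* Matrix (Fin 2) (Fin 2) (ZMod p) :=
    (LinearMap.toMatrixAlgEquiv b).toRingEquiv.toRingHom.toMonoidHom.comp lin
  have hlin : Function.Injective lin := fun a a' h => MulEquiv.ext fun x =>
    congrArg Additive.toMul (LinearMap.congr_fun h (Additive.ofMul x))
  have hfinj : Function.Injective f := (LinearMap.toMatrixAlgEquiv b).injective.comp hlin
  haveI : Group.IsSolvable φ.range :=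
    Group.isSolvable_of_surjective (f := φ.rangeRestrict) φ.rangeRestrict_surjective
  have hroddd : Odd (Nat.card φ.range) :=
    hodd.of_dvd_nat (card_dvd_of_surjective φ.rangeRestrict φ.rangeRestrict_surjective)
  have hmem : φ.rangeRestrict c ∈ commutator φ.range := by
    have h1 : (commutator Y).map φ.rangeRestrict ≤ commutator φ.range := by
      rw [_root_.commutator_def, map_commutator, _root_.commutator_def]
      exact commutator_mono le_top le_top
    exact h1 (mem_map_of_mem _ hc)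
  exact congrArg Subtype.val (mat_commutator_pow hp hroddd (f.comp φ.range.subtype)
    (hfinj.comp φ.range.subtype_injective) hmem)

end action

section key

variable {G : Type u} [Group G] {p : ℕ}

theorem comm_pow {a r c : G} (h : a * r * a⁻¹ = c * r) (hca : Commute c a) :
    ∀ n : ℕ, a ^ n * r * (a ^ n)⁻¹ = c ^ n * r := by
  intro n
  induction n with
  | zero => simp
  | succ n ih =>
    calc a ^ (n + 1) * r * (a ^ (n + 1))⁻¹ = a * (a ^ n * r * (a ^ n)⁻¹) * a⁻¹ := by
          rw [pow_succ']; group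
      _ = a * c ^ n * r * a⁻¹ := by rw [ih]; group
      _ = c ^ n * (a * r * a⁻¹) := by rw [← (hca.pow_left n).eq]; group
      _ = c ^ (n + 1) * r := by rw [h, pow_succ]; group

/-- `{x ∈ Z₂(R) : x ^ p = 1}`, a subgroup for odd `p`. -/
def wSub (p : ℕ) [Fact p.Prime] (hp2 : p ≠ 2) (R : Subgroup G) : Subgroup G where
  carrier := {x | x ∈ R ∧ x ^ p = 1 ∧ ∀ r ∈ R, x * r * x⁻¹ * r⁻¹ ∈ R ⊓ centralizer (R : Set G)}
  one_mem' := ⟨one_mem _, one_pow _, fun r _ => by simp⟩
  mul_mem' := by
    rintro x y ⟨hx, hxp, hxc⟩ ⟨hy, hyp, hyc⟩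
    refine ⟨mul_mem hx hy, ?_, fun r hr => ?_⟩
    · set c := y⁻¹ * x⁻¹ * y * x with hc
      have hcm : y * x * y⁻¹ * x⁻¹ ∈ R ⊓ centralizer (R : Set G) := hyc x hx
      set d := y * x * y⁻¹ * x⁻¹ with hd
      have hcd : c = x⁻¹ * y⁻¹ * d * (y * x) := by rw [hc, hd]; group
      have hc' : c = d := by
        have h1 : (y * x) * d = d * (y * x) := hcm.2 _ (mul_mem hy hx)
        rw [hcd, mul_assoc, ← h1]; group
      have hdx : Commute d x := (hcm.2 x hx).symm
      have hdy : Commute d y := (hcm.2 y hy).symm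
      have hdp : d ^ p = 1 := by
        have h1 := comm_pow (a := y) (r := x) (c := d) (by rw [hd]; group) hdy p
        rw [hyp, one_mul, inv_one, mul_one] at h1
        exact mul_eq_right.1 h1.symm
      have h2 := OmegaCoprime.mul_pow_class_two (x := x) (y := y) (z := d)
        (by rw [← hc', hc]; group) hdx hdy p
      obtain ⟨t, ht⟩ : p ∣ p.choose 2 := Nat.Prime.dvd_choose_self Fact.out two_ne_zero
        (lt_of_le_of_ne (Fact.out : p.Prime).two_le (Ne.symm hp2))
      rw [h2, hxp, hyp, one_mul, one_mul, ht, pow_mul, hdp, one_pow]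
    · have h1 : x * y * r * (x * y)⁻¹ * r⁻¹
          = (x * (y * r * y⁻¹ * r⁻¹) * x⁻¹) * (x * r * x⁻¹ * r⁻¹) := by group
      rw [h1, (hyc r hr).2 x hx, mul_inv_cancel_right]
      exact mul_mem (hyc r hr) (hxc r hr)
  inv_mem' := by
    rintro x ⟨hx, hxp, hxc⟩
    refine ⟨inv_mem hx, by rw [inv_pow, hxp, inv_one], fun r hr => ?_⟩
    have h1 : x⁻¹ * r * x⁻¹⁻¹ * r⁻¹ = x⁻¹ * (x * r * x⁻¹ * r⁻¹)⁻¹ * x := by group
    have h2 : x⁻¹ * (x * r * x⁻¹ * r⁻¹)⁻¹ = (x * r * x⁻¹ * r⁻¹)⁻¹ * x⁻¹ :=
      (inv_mem (hxc r hr)).2 _ (inv_mem hx)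
    rw [h1, h2, inv_mul_cancel_right]
    exact inv_mem (hxc r hr)

variable [Fact p.Prime] {hp2 : p ≠ 2}

theorem wSub_le (R : Subgroup G) : wSub p hp2 R ≤ R := fun _ h => h.1

theorem pow_eq_one_of_mem_wSub {R : Subgroup G} {x : G} (h : x ∈ wSub p hp2 R) : x ^ p = 1 := h.2.1

theorem commutator_mem_wSub {R : Subgroup G} {x y : G} (hx : x ∈ wSub p hp2 R)
    (hy : y ∈ wSub p hp2 R) :
    x * y * x⁻¹ * y⁻¹ ∈ wSub p hp2 R ⊓ centralizer (R : Set G) :=
  Subgroup.mem_inf.2 ⟨Subgroup.mul_mem _ (Subgroup.mul_mem _ (Subgroup.mul_mem _ hx hy)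
    (Subgroup.inv_mem _ hx)) (Subgroup.inv_mem _ hy), (hx.2.2 y hy.1).2⟩

theorem normalizer_le_wSub (R : Subgroup G) :
    normalizer (R : Set G) ≤ normalizer (wSub p hp2 R : Set G) := by
  refine CoprimeAction.le_normalizer_of_conj_mem ?_
  intro g hg x hx
  have hgR : ∀ r ∈ R, g * r * g⁻¹ ∈ R := fun r hr => (mem_normalizer_iff.1 hg r).1 hr
  have hgR' : ∀ r ∈ R, g⁻¹ * r * g ∈ R := fun r hr => by
    simpa using (mem_normalizer_iff.1 (inv_mem hg) r).1 hr
  refine ⟨hgR x hx.1, by rw [conj_pow, hx.2.1, mul_one, mul_inv_cancel], fun r hr => ?_⟩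
  have h := hx.2.2 _ (hgR' r hr)
  have h1 : g * x * g⁻¹ * r * (g * x * g⁻¹)⁻¹ * r⁻¹
      = g * (x * (g⁻¹ * r * g) * x⁻¹ * (g⁻¹ * r * g)⁻¹) * g⁻¹ := by group
  rw [h1]
  refine ⟨hgR _ h.1, fun s hs => ?_⟩
  have h2 := h.2 _ (hgR' s hs)
  calc s * (g * (x * (g⁻¹ * r * g) * x⁻¹ * (g⁻¹ * r * g)⁻¹) * g⁻¹)
      = g * ((g⁻¹ * s * g) * (x * (g⁻¹ * r * g) * x⁻¹ * (g⁻¹ * r * g)⁻¹)) * g⁻¹ := by group
    _ = g * ((x * (g⁻¹ * r * g) * x⁻¹ * (g⁻¹ * r * g)⁻¹) * (g⁻¹ * s * g)) * g⁻¹ := by rw [h2]
    _ = _ := by group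

theorem normalizer_le_normalizer_centralizer (B : Subgroup G) :
    normalizer (B : Set G) ≤ normalizer (centralizer (B : Set G) : Set G) := by
  refine CoprimeAction.le_normalizer_of_conj_mem ?_
  intro g hg x hx b hb
  have hb' : g⁻¹ * b * g ∈ B := by simpa using (mem_normalizer_iff.1 (inv_mem hg) b).1 hb
  calc b * (g * x * g⁻¹) = g * ((g⁻¹ * b * g) * x) * g⁻¹ := by group
    _ = g * (x * (g⁻¹ * b * g)) * g⁻¹ := by rw [hx _ hb']
    _ = g * x * g⁻¹ * b := by group

/-- A normal elementary abelian subgroup of order at most `p ^ 2` of `R` lies in `wSub`. -/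
theorem map_le_wSub [Finite G] {R : Subgroup G} (hR : IsPGroup p R) (A : Subgroup R) [A.Normal]
    (hA : Cfsg.IsElementaryAbelian p A) (hcard : Nat.card A ≤ p ^ 2) :
    A.map R.subtype ≤ wSub p hp2 R := by
  rintro _ ⟨a, ha, rfl⟩
  refine ⟨a.2, congrArg Subtype.val (hA.2 a ha), fun r hr => ?_⟩
  set K : Subgroup R := ⁅A, (⊤ : Subgroup R)⁆ with hK
  have hKA : K ≤ A := commutator_le_left A ⊤
  have hKc : K ≤ center R := by
    by_cases hK0 : K = ⊥
    · rw [hK0]; exact bot_le
    have hlt : K < A := lt_of_le_of_ne hKA fun h => hK0 (by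
      haveI : Group.IsNilpotent R := hR.isNilpotent
      haveI : Group.IsNilpotent (⊤ : Subgroup R) := inferInstance
      rw [h]
      exact CoprimeGen.eq_bot_of_le_commutator (L := (⊤ : Subgroup R)) le_top (by rw [← hK, h]))
    obtain ⟨i, hi⟩ := IsPGroup.iff_card.1 (hR.to_subgroup K)
    obtain ⟨j, hj⟩ := IsPGroup.iff_card.1 (hR.to_subgroup A)
    have h1 : Nat.card K < Nat.card A := Set.Finite.card_lt_card (Set.toFinite _) hlt
    have h2 : i < j := (Nat.pow_lt_pow_iff_right (Fact.out : p.Prime).one_lt).1 (hi ▸ hj ▸ h1)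
    have h3 : j ≤ 2 := (Nat.pow_le_pow_iff_right (Fact.out : p.Prime).one_lt).1 (hj ▸ hcard)
    have h4 : i ≠ 0 := fun h => hK0 (eq_bot_of_card_eq _ (by rw [hi, h, pow_zero]))
    refine PGroupsBasic.le_center_of_card_eq_prime hR (N := K) ?_
    rw [hi, show i = 1 by omega, pow_one]
  have hm : ⁅a, (⟨r, hr⟩ : R)⁆ ∈ K := commutator_mem_commutator ha (mem_top _)
  have hmc := mem_center_iff.1 (hKc hm)
  refine ⟨(⁅a, (⟨r, hr⟩ : R)⁆).2, fun s hs => congrArg Subtype.val (hmc ⟨s, hs⟩)⟩

/-- A `p'`-element `c` of `A` that acts trivially on all elementary abelian `A`-groups of order at most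
`p ^ 2` centralizes every `p`-group of rank at most two normalized by `A`. -/
theorem commute_of_small_trivial [Finite G] (hp2 : p ≠ 2) {R A : Subgroup G} (hR : IsPGroup p R)
    (hr : Cfsg.PRankLE p 2 R) (hA : A ≤ normalizer (R : Set G)) (c : A)
    (hcop : (orderOf (c : G)).Coprime p)
    (htriv : ∀ {V : Type u} [CommGroup V] [Finite V], (∀ v : V, v ^ p = 1) → Nat.card V ≤ p ^ 2 →
      ∀ φ : A →* MulAut V, ∀ v : V, φ c v = v) :
    ∀ x ∈ R, Commute (c : G) x := by
  have hp' : p.Prime := Fact.out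
  obtain ⟨y, hyA⟩ := c
  simp only at hcop ⊢
  set W := wSub p hp2 R with hW
  set Z := W ⊓ centralizer (R : Set G) with hZ
  have hWR : W ≤ R := wSub_le R
  have hAW : A ≤ normalizer (W : Set G) := hA.trans (normalizer_le_wSub R)
  have hAZ : ∀ a ∈ A, ∀ z ∈ Z, a * z * a⁻¹ ∈ Z := fun a ha z hz =>
    ⟨(mem_normalizer_iff.1 (hAW ha) z).1 hz.1, fun r hr => by
      have h := hz.2 _ (show a⁻¹ * r * a ∈ R by
        simpa using (mem_normalizer_iff.1 (inv_mem (hA ha)) r).1 hr)
      calc r * (a * z * a⁻¹) = a * ((a⁻¹ * r * a) * z) * a⁻¹ := by group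
        _ = a * (z * (a⁻¹ * r * a)) * a⁻¹ := by rw [h]
        _ = a * z * a⁻¹ * r := by group⟩
  -- the maximal normal elementary abelian subgroup
  obtain ⟨A₁, hA₁n, hA₁, hA₁max⟩ := RankTwoOdd.exists_maximal_normal (G := R) p
  haveI := hA₁n
  have hA₁2 : Nat.card A₁ ≤ p ^ 2 := hr A₁ hA₁.1 hA₁.2
  set B := A₁.map R.subtype with hB
  have hBW : B ≤ W := map_le_wSub hR A₁ hA₁ hA₁2
  have hin : ∀ x ∈ R, x ∈ centralizer (B : Set G) → x ^ p = 1 → x ∈ B := by
    intro x hx hxc hxp
    refine ⟨⟨x, hx⟩, RankTwoOdd.mem_of_mem_centralizer hp2 hR hA₁ hA₁max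
      (fun a ha => Subtype.ext (hxc _ (mem_map_of_mem _ ha))) (Subtype.ext (by simpa using hxp)), rfl⟩
  -- the action on the two sections
  set ψ : A →* MulAut W := W.normalizerMonoidHom.comp (inclusion hAW) with hψ
  have hψv : ∀ (a : A) (w : W), ((ψ a w : W) : G) = a * w * (a : G)⁻¹ := fun a w => rfl
  set c : A := ⟨y, hyA⟩ with hcdef
  have hZcard : Nat.card Z ≤ p ^ 2 := by
    have h1 : Z ≤ R := inf_le_left.trans hWR
    rw [← Nat.card_congr (subgroupOfEquivOfLe h1).toEquiv]
    refine hr _ ⟨⟨fun a b => ?_⟩⟩ fun a ha => Subtype.ext (by simpa using (ha.1 : (a : G) ∈ W).2.1)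
    exact Subtype.ext (Subtype.ext ((b.2 : ((b : R) : G) ∈ Z).2 _ a.1.2))
  have hyZ : ∀ z ∈ Z, y * z * y⁻¹ = z := by
    letI : CommGroup Z := { (inferInstance : Group Z) with
      mul_comm := fun a b => Subtype.ext (b.2.2 _ (hWR a.2.1)) }
    let φ : A →* MulAut Z := MonoidHom.mk' (fun a =>
      { toFun := fun z => ⟨a * z * (a : G)⁻¹, hAZ a a.2 z z.2⟩
        invFun := fun z => ⟨(a : G)⁻¹ * z * a, by simpa using hAZ _ (inv_mem a.2) z z.2⟩
        left_inv := fun z => Subtype.ext
          (show (a : G)⁻¹ * ((a : G) * z * (a : G)⁻¹) * a = z by group)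
        right_inv := fun z => Subtype.ext
          (show (a : G) * ((a : G)⁻¹ * z * a) * (a : G)⁻¹ = z by group)
        map_mul' := fun z w => Subtype.ext
          (show (a : G) * (z * w : G) * (a : G)⁻¹
            = (a : G) * z * (a : G)⁻¹ * ((a : G) * w * (a : G)⁻¹) by group) })
      (fun a b => MulEquiv.ext fun z => Subtype.ext
        (show ((a * b : A) : G) * z * ((a * b : A) : G)⁻¹
          = (a : G) * ((b : G) * z * (b : G)⁻¹) * (a : G)⁻¹ by rw [Subgroup.coe_mul]; group))
    intro z hz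
    exact congrArg Subtype.val (htriv (V := Z)
      (fun v => Subtype.ext (by simpa using (v.2.1 : (v : G) ∈ W).2.1)) hZcard φ ⟨z, hz⟩)
  have hyW : ∀ x ∈ W, x⁻¹ * (y * x * y⁻¹) ∈ Z := by
    rcases eq_or_ne R ⊥ with hR0 | hR0
    · intro x hx
      have : x = 1 := mem_bot.1 (hR0 ▸ hWR hx)
      subst this
      simpa using one_mem Z
    set N := Z.subgroupOf W with hN
    haveI : N.Normal := ⟨fun n hn g => by
      have h : (g : G) * n = n * g := (hn : (n : G) ∈ Z).2 _ (hWR g.2)
      have : g * n * g⁻¹ = n := Subtype.ext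
        (show (g : G) * n * (g : G)⁻¹ = n by rw [h, mul_inv_cancel_right])
      rwa [this]⟩
    letI : CommGroup (W ⧸ N) := { (inferInstance : Group (W ⧸ N)) with
      mul_comm := fun a b => by
        obtain ⟨a, rfl⟩ := QuotientGroup.mk_surjective a
        obtain ⟨b, rfl⟩ := QuotientGroup.mk_surjective b
        rw [← commutatorElement_eq_one_iff_mul_comm, ← QuotientGroup.mk'_apply,
          ← QuotientGroup.mk'_apply, ← map_commutatorElement, QuotientGroup.mk'_apply,
          QuotientGroup.eq_one_iff]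
        exact commutator_mem_wSub a.2 b.2 }
    have hmap : ∀ a : A, N.map (ψ a).toMonoidHom = N := by
      intro a
      refine le_antisymm (map_le_iff_le_comap.2 fun u hu => ?_) fun u hu => ?_
      · exact hAZ a a.2 u hu
      · refine ⟨(ψ a).symm u, ?_, (ψ a).apply_symm_apply u⟩
        have h1 : (ψ a).symm u = ψ a⁻¹ u := by
          rw [map_inv]; rfl
        rw [h1]
        exact hAZ _ (a⁻¹).2 u hu
    let φ : A →* MulAut (W ⧸ N) := MonoidHom.mk' (fun a => QuotientGroup.congr N N (ψ a) (hmap a))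
      (fun a b => MulEquiv.ext fun x => by
        obtain ⟨x, rfl⟩ := QuotientGroup.mk_surjective x
        show ((ψ (a * b) x : W) : W ⧸ N) = ((ψ a (ψ b x) : W) : W ⧸ N)
        rw [map_mul]; rfl)
    have hcard : Nat.card (W ⧸ N) ≤ p ^ 2 := by
      set W' := W.subgroupOf R with hW'
      set C := centralizer (A₁ : Set R) with hC
      haveI : C.Normal := normal_centralizer
      have h1 : W' ⊓ C ≤ A₁ := fun x hx =>
        RankTwoOdd.mem_of_mem_centralizer hp2 hR hA₁ hA₁max hx.2
          (Subtype.ext (by simpa using (hx.1 : (x : G) ∈ W).2.1))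
      have h2 : C.relIndex W' ≤ p := (Nat.le_of_dvd (Nat.pos_of_ne_zero index_ne_zero_of_finite)
        (relIndex_dvd_index_of_normal C W')).trans
          (RankTwoOdd.index_centralizer_le hR A₁ hA₁ hA₁2)
      have h3 : Nat.card W' = Nat.card (W' ⊓ C : Subgroup R) * C.relIndex W' := by
        rw [← (C.subgroupOf W').card_mul_index, ← inf_subgroupOf_left,
          Nat.card_congr (subgroupOfEquivOfLe inf_le_left).toEquiv]
        congr 1
        rw [inf_subgroupOf_left]; rfl
      have h4 : Nat.card W ≤ p ^ 2 * p := by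
        rw [← Nat.card_congr (subgroupOfEquivOfLe hWR).toEquiv, ← hW', h3]
        exact Nat.mul_le_mul ((card_le_of_le h1).trans hA₁2) h2
      haveI : Nontrivial R := (nontrivial_iff_ne_bot R).2 hR0
      haveI := hR.center_nontrivial
      obtain ⟨z, hz⟩ := exists_ne (1 : center R)
      obtain ⟨m, hm⟩ := IsPGroup.iff_card.1 (hR.to_subgroup (center R))
      have hm0 : m ≠ 0 := fun h => hz ((Nat.card_eq_one_iff_unique.1
        (by rw [hm, h, pow_zero])).1.elim _ _)
      obtain ⟨z₀, hz₀⟩ := exists_prime_orderOf_dvd_card' (G := center R) p (hm ▸ dvd_pow_self p hm0)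
      have hz₀p : ((z₀ : R) : G) ^ p = 1 := by
        rw [← SubgroupClass.coe_pow, ← SubgroupClass.coe_pow, ← hz₀, pow_orderOf_eq_one]; rfl
      have hz₀Z : ((z₀ : R) : G) ∈ Z := by
        have hcomm : ∀ r ∈ R, r * ((z₀ : R) : G) = ((z₀ : R) : G) * r := fun r hr =>
          congrArg Subtype.val (mem_center_iff.1 z₀.2 ⟨r, hr⟩)
        refine ⟨⟨(z₀ : R).2, hz₀p, fun r hr => ?_⟩, hcomm⟩
        rw [← hcomm r hr, mul_inv_cancel_right, mul_inv_cancel]
        exact one_mem _
      have h5 : p ≤ Nat.card Z := by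
        have : p ∣ Nat.card Z := by
          have h := orderOf_dvd_natCard Z hz₀Z
          rwa [Subgroup.orderOf_coe, Subgroup.orderOf_coe, hz₀] at h
        exact Nat.le_of_dvd Nat.card_pos this
      have h6 := N.card_eq_card_quotient_mul_card_subgroup
      rw [hN, Nat.card_congr (subgroupOfEquivOfLe (inf_le_left : Z ≤ W)).toEquiv] at h6
      rw [h6] at h4
      exact Nat.le_of_mul_le_mul_right (((Nat.mul_le_mul_left _ h5).trans h4)) hp'.pos
    intro x hx
    have h := htriv (V := W ⧸ N) (fun v => by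
      obtain ⟨v, rfl⟩ := QuotientGroup.mk_surjective v
      rw [← QuotientGroup.mk_pow,
        show v ^ p = 1 from Subtype.ext (by simpa using (v.2 : (v : G) ∈ W).2.1), QuotientGroup.mk_one])
      hcard φ ((⟨x, hx⟩ : W) : W ⧸ N)
    have h' : ((ψ c ⟨x, hx⟩ : W) : W ⧸ N) = ((⟨x, hx⟩ : W) : W ⧸ N) := h
    have h2 := QuotientGroup.eq.1 h'.symm
    exact h2
  have hWc : ∀ x ∈ W, Commute y x :=
    OmegaCoprime.commute_of_fixed_comms (hR.to_le hWR) (fun x hx => (mem_normalizer_iff.1 (hAW hyA) x).1 hx)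
      hcop fun x hx => mul_inv_eq_iff_eq_mul.1 (hyZ _ (hyW x hx))
  -- on `C_R(B)` and then on `R`
  set P := R ⊓ centralizer (B : Set G) with hP
  have hyB : zpowers y ≤ centralizer (B : Set G) :=
    zpowers_le.2 fun b hb => (hWc b (hBW hb)).eq.symm
  have hyBn : y ∈ normalizer (B : Set G) :=
    centralizer_le_normalizer _ (hyB (mem_zpowers y))
  have hyP : ∀ x ∈ P, y * x * y⁻¹ ∈ P := fun x hx => by
    refine (mem_normalizer_iff.1 ?_ x).1 hx
    exact CoprimeAction.le_normalizer_inf (A := zpowers y)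
      (zpowers_le.2 (hA hyA))
      ((zpowers_le.2 hyBn).trans (normalizer_le_normalizer_centralizer B))
      (mem_zpowers y)
  have hPc := OmegaCoprime.commute_of_forall_pow_eq_one hp2 hcop P (hR.to_le inf_le_left) hyP
    (fun x hx hxp => hWc x (hBW (hin x hx.1 hx.2 hxp)))
  have hyR : zpowers y ≤ centralizer (R : Set G) := by
    refine CoprimeGen.le_centralizer_of_prod_action hR (hR.to_le (map_subtype_le A₁)) ?_
      (zpowers_le.2 (hA hyA)) ((map_subtype_le A₁).trans le_normalizer) hyB ?_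
    · rw [Nat.card_zpowers]
      exact (Nat.Prime.coprime_iff_not_dvd hp').1 hcop.symm
    · intro x hx z hz
      obtain ⟨i, rfl⟩ := mem_zpowers_iff.1 hz
      exact ((hPc x hx).zpow_left i).eq
  exact fun x hx => (hyR (mem_zpowers y) x hx).symm

/-- The `p'`-elements of the derived group of an odd order solvable group normalizing a `p`-group
of rank at most two centralize it. -/
theorem commute_of_mem_commutator [Finite G] (hp2 : p ≠ 2) {R A : Subgroup G} (hR : IsPGroup p R)
    (hr : Cfsg.PRankLE p 2 R) (hA : A ≤ normalizer (R : Set G)) (hodd : Odd (Nat.card A))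
    [Group.IsSolvable A] {y : G} (hy : y ∈ ⁅A, A⁆) (hcop : (orderOf y).Coprime p) :
    ∀ x ∈ R, Commute y x := by
  rw [← map_subtype_commutator] at hy
  obtain ⟨c, hc, rfl⟩ := hy
  refine commute_of_small_trivial hp2 hR hr hA c hcop ?_
  intro V _ _ hV hcard φ v
  have h1 : orderOf (φ c) ∣ p := orderOf_dvd_of_pow_eq_one (action_pow hp2 hodd hV hcard φ hc)
  have h2 : orderOf (φ c) ∣ orderOf (A.subtype c) := by
    rw [show orderOf (A.subtype c) = orderOf c from Subgroup.orderOf_coe c]
    exact orderOf_map_dvd φ c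
  rw [orderOf_eq_one_iff.1 (Nat.eq_one_of_dvd_coprimes hcop h2 h1)]
  rfl

/-- An odd order solvable group acting faithfully on a `p`-group of rank at most two has a `p`-group
as derived group. -/
theorem isPGroup_commutator [Finite G] (hp2 : p ≠ 2) {R A : Subgroup G} (hR : IsPGroup p R)
    (hr : Cfsg.PRankLE p 2 R) (hA : A ≤ normalizer (R : Set G)) (hodd : Odd (Nat.card A))
    [Group.IsSolvable A] (hfaith : A ⊓ centralizer (R : Set G) = ⊥) : IsPGroup p ↥⁅A, A⁆ := by
  rintro ⟨y, hy⟩
  obtain ⟨i, hi⟩ := GlaubermanStable.exists_pow_coprime (p := p) y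
  refine ⟨i, Subtype.ext ?_⟩
  have h := commute_of_mem_commutator hp2 hR hr hA hodd (pow_mem hy (p ^ i)) hi
  have h2 : y ^ p ^ i ∈ A ⊓ centralizer (R : Set G) :=
    mem_inf.mpr ⟨pow_mem (commutator_le_self A hy) _, fun x hx => (h x hx).eq.symm⟩
  rw [hfaith, mem_bot] at h2
  simpa using h2

end key

section solvable

variable {G : Type u} [Group G] [Finite G] {p : ℕ} [Fact p.Prime]

/-- The rank bound passes to `O_p(G/O_{p'}(G))`. -/
theorem pRankLE_pCore_quotient (hr : Cfsg.PRankLE p 2 G) :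
    Cfsg.PRankLE p 2 ↥(Cfsg.pCore p (G ⧸ Cfsg.pPrimeCore p G)) := by
  haveI := HallCore.pPrimeCore_normal p G
  intro E hEc hEp
  set π := QuotientGroup.mk' (Cfsg.pPrimeCore p G) with hπ
  set E' := E.map (Cfsg.pCore p (G ⧸ Cfsg.pPrimeCore p G)).subtype with hE'
  have hE'p : IsPGroup p E' :=
    ((HallCore.isPGroup_pCore p _).to_subgroup E).map _
  obtain ⟨T, hT, hTE⟩ := GlaubermanStable.exists_isPGroup_map_eq' (π := π)
    (QuotientGroup.mk'_surjective _) E' hE'p
  have hker : (Nat.card π.ker).Coprime p := by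
    rw [hπ, QuotientGroup.ker_mk']; exact HallCore.coprime_card_pPrimeCore p G
  have hinj : Set.InjOn π T := GlaubermanQuotient.injOn_of_coprime hT hker
  have hE'el : Cfsg.IsElementaryAbelian p E' := PGroupsBasic.isElementaryAbelian_map_hom ⟨hEc, hEp⟩ _
  have hT1 : IsMulCommutative T := PGroupsBasic.isMulCommutative_of_forall fun a ha b hb =>
    hinj (T.mul_mem ha hb) (T.mul_mem hb ha) (by
      rw [map_mul, map_mul]
      exact PGroupsBasic.comm_of_isMulCommutative hE'el.1 (hTE ▸ mem_map_of_mem π ha)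
        (hTE ▸ mem_map_of_mem π hb))
  have hT2 : ∀ a ∈ T, a ^ p = 1 := fun a ha => hinj (T.pow_mem ha p) T.one_mem (by
    rw [map_pow, map_one]; exact hE'el.2 _ (hTE ▸ mem_map_of_mem π ha))
  have h1 : Nat.card E' ≤ Nat.card T := by
    rw [← hTE]
    exact Nat.card_le_card_of_surjective _ (π.subgroupMap_surjective T)
  rw [hE', Subgroup.card_map_of_injective (Cfsg.pCore p _).subtype_injective] at h1
  exact h1.trans (hr T hT1 hT2)

/-- In an odd order solvable group of `p`-rank at most two, `G' ≤ O_{p',p}(G)`. -/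
theorem commutator_le_pPrimePCore [Group.IsSolvable G] (hp2 : p ≠ 2) (hodd : Odd (Nat.card G))
    (hr : Cfsg.PRankLE p 2 G) : commutator G ≤ Cfsg.pPrimePCore p G := by
  haveI := HallCore.pPrimeCore_normal p G
  set X := G ⧸ Cfsg.pPrimeCore p G with hX
  set Q := Cfsg.pCore p X with hQ
  haveI : Q.Normal := HallCore.pCore_normal p X
  have hoddX : Odd (Nat.card X) := hodd.of_dvd_nat (card_quotient_dvd_card _)
  have hC : centralizer (Q : Set X) ≤ Q := PConstrained.centralizer_pCore_quotient_le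
    (HallSolvable.isPConstrained_of_isPSolvable (HallSolvable.isPSolvable_of_solvable p))
  have hp : IsPGroup p (commutator X) := by
    rintro ⟨y, hy⟩
    obtain ⟨i, hi⟩ := GlaubermanStable.exists_pow_coprime (p := p) y
    refine ⟨i, Subtype.ext ?_⟩
    haveI : Group.IsSolvable (⊤ : Subgroup X) := inferInstance
    have hc := commute_of_mem_commutator hp2 (A := ⊤) (HallCore.isPGroup_pCore p X)
      (pRankLE_pCore_quotient hr) (by rw [normalizer_eq_top_iff.mpr inferInstance])
      (by rwa [Subgroup.card_top]) (y := y ^ p ^ i) (pow_mem (show y ∈ ⁅(⊤ : Subgroup X), ⊤⁆ from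
        _root_.commutator_def X ▸ hy) _) hi
    have h1 : y ^ p ^ i ∈ Q := hC fun x hx => (hc x hx).eq.symm
    obtain ⟨j, hj⟩ := HallCore.isPGroup_pCore p X ⟨_, h1⟩
    simpa using orderOf_eq_one_iff.1 (Nat.eq_one_of_dvd_coprimes (hi.pow_right j) dvd_rfl
      (orderOf_dvd_of_pow_eq_one (by simpa using congrArg Subtype.val hj)))
  intro x hx
  have h1 : QuotientGroup.mk' (Cfsg.pPrimeCore p G) x ∈ commutator X := by
    have h2 : (commutator G).map (QuotientGroup.mk' (Cfsg.pPrimeCore p G)) ≤ commutator X := by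
      rw [_root_.commutator_def, map_commutator, _root_.commutator_def]
      exact commutator_mono le_top le_top
    exact h2 (mem_map_of_mem _ hx)
  exact HallCore.le_pCore hp h1

/-- An odd order solvable group of `p`-rank at most two has `p`-length at most one. -/
theorem index_pPrimePCore_coprime [Group.IsSolvable G] (hp2 : p ≠ 2) (hodd : Odd (Nat.card G))
    (hr : Cfsg.PRankLE p 2 G) : (Cfsg.pPrimePCore p G).index.Coprime p := by
  obtain ⟨S⟩ : Nonempty (Sylow p G) := inferInstance
  haveI := HallCore.pPrimePCore_normal p G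
  set U := Cfsg.pPrimePCore p G with hU
  have hn : ((S : Subgroup G) ⊔ U).Normal :=
    PGroupsBasic.normal_of_commutator_le ((commutator_le_pPrimePCore hp2 hodd hr).trans le_sup_right)
  haveI : ((S : Subgroup G) ⊔ U).Normal := hn
  haveI := HallCore.pPrimeCore_normal p G
  set π := QuotientGroup.mk' (Cfsg.pPrimeCore p G) with hπ
  have h1 : IsPGroup p (((S : Subgroup G) ⊔ U).map π) := by
    rw [Subgroup.map_sup]
    have hUp : IsPGroup p (U.map π) := by
      rw [hU, HallCore.map_pPrimePCore]; exact HallCore.isPGroup_pCore p _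
    haveI : (U.map π).Normal := Subgroup.Normal.map inferInstance _ (QuotientGroup.mk'_surjective _)
    exact IsPGroup.to_sup_of_normal_right (S.isPGroup'.map π) hUp
  haveI : (((S : Subgroup G) ⊔ U).map π).Normal := hn.map _ (QuotientGroup.mk'_surjective _)
  have h2 : (S : Subgroup G) ≤ U := fun s hs =>
    HallCore.le_pCore h1 (mem_map_of_mem π (mem_sup_left hs))
  exact ((Nat.Prime.coprime_iff_not_dvd Fact.out).2 fun hd =>
    S.not_dvd_index (hd.trans (index_dvd_of_le h2))).symm

theorem pLengthLE_one [Group.IsSolvable G] (hp2 : p ≠ 2) (hodd : Odd (Nat.card G))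
    (hr : Cfsg.PRankLE p 2 G) : Cfsg.PLengthLE p 1 G :=
  PLengthSteps.pLengthLE_one (index_pPrimePCore_coprime hp2 hodd hr)

/-- A prime other than `p` acting faithfully on a small elementary abelian `p`-group is less than `p`. -/
theorem prime_lt_of_action (hp2 : p ≠ 2) {q : ℕ} (hq : q.Prime) (hq2 : q ≠ 2) (hqp : q ≠ p)
    {V : Type v} [CommGroup V] [Finite V] (hV : ∀ x : V, x ^ p = 1) (hcard : Nat.card V ≤ p ^ 2)
    (a : MulAut V) (haq : a ^ q = 1) (ha : a ≠ 1) : q < p := by
  haveI := Fact.mk hq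
  have hp' : p.Prime := Fact.out
  have hH : IsPGroup q (zpowers a) := IsPGroup.of_card (n := 1)
    (by rw [pow_one, Nat.card_zpowers]; exact orderOf_eq_prime haq ha)
  have hfix := hH.card_modEq_card_fixedPoints V
  let F : Subgroup V := a.toMonoidHom.eqLocus (MonoidHom.id V)
  have hFset : MulAction.fixedPoints (zpowers a) V = (F : Set V) := by
    ext x
    constructor
    · intro h
      exact h ⟨a, mem_zpowers a⟩
    · intro h g
      have h' : a ∈ MulAction.stabilizer (MulAut V) x := h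
      exact (zpowers_le.2 h') g.2
  rw [hFset] at hfix
  have hVp : IsPGroup p V := fun x => ⟨1, by rw [pow_one]; exact hV x⟩
  obtain ⟨k, hk⟩ := IsPGroup.iff_card.1 hVp
  obtain ⟨j, hj⟩ := IsPGroup.iff_card.1 (hVp.to_subgroup F)
  have hne : F ≠ ⊤ := fun h => ha (MulEquiv.ext fun x => (h ▸ mem_top x : x ∈ F))
  have hjk : j < k := (Nat.pow_lt_pow_iff_right hp'.one_lt).1
    (hj ▸ hk ▸ HallSolvable.card_subgroup_lt hne)
  have hk2 : k ≤ 2 := (Nat.pow_le_pow_iff_right hp'.one_lt).1 (hk ▸ hcard)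
  have hcast : Nat.card ((F : Set V) : Set V) = Nat.card F := rfl
  rw [hcast, hk, hj] at hfix
  have hd : q ∣ p ^ k - p ^ j :=
    (Nat.modEq_iff_dvd' (Nat.pow_le_pow_right hp'.pos hjk.le)).1 hfix.symm
  rw [show p ^ k - p ^ j = p ^ j * (p ^ (k - j) - 1) by
    rw [Nat.mul_sub, mul_one, ← pow_add, Nat.add_sub_cancel' hjk.le]] at hd
  have hd' : q ∣ p ^ (k - j) - 1 := by
    refine (Nat.Coprime.dvd_of_dvd_mul_left ?_ hd)
    exact ((Nat.coprime_primes hq hp').2 hqp).pow_right j
  have hdd : q ∣ (p + 1) * (p - 1) := by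
    rw [← Nat.sq_sub_sq, one_pow]
    rcases (show k - j = 1 ∨ k - j = 2 by omega) with h | h <;> rw [h] at hd'
    · exact hd'.trans (by rw [pow_one]; simpa using Nat.sub_dvd_pow_sub_pow p 1 2)
    · exact hd'
  rcases hq.dvd_mul.1 hdd with h | h
  · have hpodd : Odd p := hp'.odd_of_ne_two hp2
    obtain ⟨m, hm⟩ := h
    rcases Nat.lt_or_ge 1 m with h' | h'
    · have := hp'.two_le
      nlinarith
    · interval_cases m
      · omega
      · obtain ⟨u, rfl⟩ := hpodd
        obtain ⟨w, rfl⟩ := hq.odd_of_ne_two hq2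
        omega
  · have := hp'.two_le
    have := Nat.le_of_dvd (by omega) h
    omega

/-- In an odd order solvable group of `p`-rank at most two every prime divisor of the index of
`O_{p'}` is at most `p`. -/
theorem prime_le_of_dvd_index [Group.IsSolvable G] (hp2 : p ≠ 2) (hodd : Odd (Nat.card G))
    (hr : Cfsg.PRankLE p 2 G) {q : ℕ} (hq : q.Prime) (hd : q ∣ (Cfsg.pPrimeCore p G).index) :
    q ≤ p := by
  by_cases hqp : q = p
  · omega
  haveI := Fact.mk hq
  haveI := HallCore.pPrimeCore_normal p G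
  set X := G ⧸ Cfsg.pPrimeCore p G with hX
  rw [Subgroup.index_eq_card] at hd
  obtain ⟨y, hy⟩ := exists_prime_orderOf_dvd_card' (G := X) q hd
  have hoddX : Odd (Nat.card X) := hodd.of_dvd_nat (card_quotient_dvd_card _)
  have hq2 : q ≠ 2 := by
    rintro rfl
    exact Nat.not_even_iff_odd.2 hoddX (even_iff_two_dvd.2 (hy ▸ orderOf_dvd_natCard y))
  set Q := Cfsg.pCore p X with hQ
  haveI : Q.Normal := HallCore.pCore_normal p X
  have hC : centralizer (Q : Set X) ≤ Q := PConstrained.centralizer_pCore_quotient_le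
    (HallSolvable.isPConstrained_of_isPSolvable (HallSolvable.isPSolvable_of_solvable p))
  by_contra hlt
  have hc := commute_of_small_trivial hp2 (A := zpowers y) (HallCore.isPGroup_pCore p X)
    (pRankLE_pCore_quotient hr) (by rw [normalizer_eq_top_iff.mpr inferInstance]; exact le_top)
    ⟨y, mem_zpowers y⟩ (by simpa [hy] using (Nat.coprime_primes hq Fact.out).2 hqp) (by
      intro V _ _ hV hcard φ v
      by_cases h1 : φ ⟨y, mem_zpowers y⟩ = 1
      · rw [h1]; rfl
      · exact absurd (prime_lt_of_action hp2 hq hq2 hqp hV hcard _ (by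
          rw [← map_pow, show (⟨y, mem_zpowers y⟩ : zpowers y) ^ q = 1 from
            Subtype.ext (by simp [← hy, pow_orderOf_eq_one]), map_one]) h1) (by omega))
  have hyQ : y ∈ Q := hC fun x hx => (hc x hx).eq.symm
  obtain ⟨j, hj⟩ := HallCore.isPGroup_pCore p X ⟨y, hyQ⟩
  have h2 : orderOf y ∣ p ^ j := orderOf_dvd_of_pow_eq_one (by simpa using congrArg Subtype.val hj)
  rw [hy] at h2
  exact hqp ((Nat.prime_dvd_prime_iff_eq hq Fact.out).1 (hq.dvd_of_dvd_pow h2))

end solvable

section fitting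

variable {G : Type u} [Group G] [Finite G]

theorem le_of_sylow_le {H C : Subgroup G}
    (h : ∀ (q : ℕ), q.Prime → ∀ x ∈ H, (∃ i, orderOf x = q ^ i) → x ∈ C) : H ≤ C := by
  have hdvd : Nat.card H ∣ Nat.card (H ⊓ C : Subgroup G) := by
    rw [← Nat.factorization_le_iff_dvd Nat.card_pos.ne' Nat.card_pos.ne']
    intro q
    by_cases hq : q.Prime
    swap
    · simp [Nat.factorization_eq_zero_of_not_prime _ hq]
    have := Fact.mk hq
    obtain ⟨S⟩ : Nonempty (Sylow q H) := inferInstance
    have hle : (S : Subgroup H).map H.subtype ≤ H ⊓ C := by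
      rintro _ ⟨x, hx, rfl⟩
      obtain ⟨i, hi⟩ := IsPGroup.iff_orderOf.1 S.isPGroup' ⟨x, hx⟩
      rw [Subgroup.orderOf_mk] at hi
      exact ⟨x.2, h q hq _ x.2 ⟨i, by rw [← hi]; exact Subgroup.orderOf_coe x⟩⟩
    have h2 := Subgroup.card_dvd_of_le hle
    rw [Subgroup.card_map_of_injective H.subtype_injective, S.card_eq_multiplicity] at h2
    exact (Nat.Prime.pow_dvd_iff_le_factorization hq Nat.card_pos.ne').1 h2
  exact inf_eq_left.1 (Subgroup.eq_of_le_of_card_ge inf_le_left (Nat.le_of_dvd Nat.card_pos hdvd))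

/-- A `q`-element of the Fitting subgroup lies in `O_q`. -/
theorem mem_pCore_of_mem_fitting {q : ℕ} [Fact q.Prime] {x : G}
    (hx : x ∈ Cfsg.fittingSubgroup G) {i : ℕ} (hi : orderOf x = q ^ i) : x ∈ Cfsg.pCore q G := by
  set F := Cfsg.fittingSubgroup G with hF
  haveI : Group.IsNilpotent F := ComponentsFitting.fittingSubgroup_isNilpotent
  have hz : IsPGroup q (zpowers (⟨x, hx⟩ : F)) :=
    IsPGroup.of_card (n := i) (by rw [Nat.card_zpowers, Subgroup.orderOf_mk, hi])
  obtain ⟨S, hS⟩ := hz.exists_le_sylow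
  have hSn : (S : Subgroup F).Normal :=
    ((Group.isNilpotent_of_finite_tfae (G := F)).out 0 3 rfl rfl).mp inferInstance q ‹_› S
  haveI := Sylow.characteristic_of_normal S hSn
  haveI : ((S : Subgroup F).map F.subtype).Normal := inferInstance
  exact HallCore.le_pCore (S.isPGroup'.map F.subtype)
    (show x ∈ (S : Subgroup F).map F.subtype from ⟨⟨x, hx⟩, hS (mem_zpowers _), rfl⟩)

theorem commute_pCore_of_mem_commutator [Group.IsSolvable G] (hodd : Odd (Nat.card G)) {q : ℕ}
    (hq : q.Prime) (hr : Cfsg.PRankLE q 2 ↥(Cfsg.pCore q G)) {y : G} (hy : y ∈ commutator G)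
    (hcop : (orderOf y).Coprime q) : ∀ x ∈ Cfsg.pCore q G, Commute y x := by
  haveI := Fact.mk hq
  haveI : (Cfsg.pCore q G).Normal := HallCore.pCore_normal q G
  by_cases hq2 : q = 2
  · subst hq2
    have h : Cfsg.pCore 2 G = ⊥ := by
      obtain ⟨k, hk⟩ := IsPGroup.iff_card.1 (HallCore.isPGroup_pCore 2 G)
      have h1 : Odd (2 ^ k) := hk ▸ hodd.of_dvd_nat (card_subgroup_dvd_card _)
      rcases k with _ | k
      · exact eq_bot_of_card_eq _ (by rw [hk, pow_zero])
      · exact absurd h1 (Nat.not_odd_iff_even.2 (Nat.even_pow.2 ⟨even_two, by omega⟩))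
    intro x hx
    rw [h, mem_bot] at hx
    rw [hx]
    exact Commute.one_right y
  haveI : Group.IsSolvable (⊤ : Subgroup G) := inferInstance
  exact commute_of_mem_commutator hq2 (A := ⊤) (HallCore.isPGroup_pCore q G) hr
    (by rw [normalizer_eq_top_iff.mpr inferInstance]) (by rwa [Subgroup.card_top])
    (show y ∈ ⁅(⊤ : Subgroup G), ⊤⁆ from _root_.commutator_def G ▸ hy) hcop

/-- `G' ≤ F(G)` if the `p'`-elements of `G'` centralize every `O_p(G)`. -/
theorem commutator_le_fitting_of_centralize [Group.IsSolvable G]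
    (hcent : ∀ q : ℕ, q.Prime → ∀ y ∈ commutator G, (orderOf y).Coprime q →
      ∀ x ∈ Cfsg.pCore q G, Commute y x) :
    commutator G ≤ Cfsg.fittingSubgroup G := by
  refine le_of_sylow_le fun p hp x hx ⟨i, hi⟩ => ?_
  haveI := Fact.mk hp
  let S : Type := {q : ℕ // q.Prime ∧ q ≠ p}
  let K : Subgroup G := commutator G ⊓ ⨅ q : S, centralizer (Cfsg.pCore q.1 G : Set G)
  have hxK : x ∈ K := by
    refine mem_inf.2 ⟨hx, ?_⟩
    rw [Subgroup.mem_iInf]
    exact fun q z hz => (hcent q.1 q.2.1 x hx (hi ▸ ((Nat.coprime_primes hp q.2.1).2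
      q.2.2.symm).pow_left i) z hz).eq.symm
  haveI hKn : K.Normal := by
    refine ⟨fun k hk g => mem_inf.2 ⟨Subgroup.Normal.conj_mem inferInstance k hk.1 g, ?_⟩⟩
    have h2 := Subgroup.mem_iInf.1 (mem_inf.1 hk).2
    rw [Subgroup.mem_iInf]
    intro q
    haveI : (Cfsg.pCore q.1 G).Normal := HallCore.pCore_normal q.1 G
    exact (normal_centralizer (H := Cfsg.pCore q.1 G)).conj_mem k (h2 q) g
  -- the `p'`-elements of `K` are central in `K`
  have hcentral : ∀ y ∈ K, (orderOf y).Coprime p → ∀ k ∈ K, k * y = y * k := by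
    intro y hy hcop k hk
    have hyall : ∀ q : ℕ, q.Prime → y ∈ centralizer (Cfsg.pCore q G : Set G) := by
      intro q hq
      by_cases hqp : q = p
      · subst hqp
        exact fun z hz => (hcent q hq y hy.1 hcop z hz).eq.symm
      · have h2 := Subgroup.mem_iInf.1 (mem_inf.1 hy).2
        exact h2 ⟨q, hq, hqp⟩
    have hyF : y ∈ Cfsg.fittingSubgroup G := by
      refine HallSolvable.centralizer_fitting_le fun z hz => ?_
      rw [SetLike.mem_coe, ComponentsFitting.fittingSubgroup_eq_iSup] at hz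
      have hle : (⨆ q : (Nat.card G).primeFactors, Cfsg.pCore q G) ≤ centralizer ({y} : Set G) :=
        iSup_le fun q w hw => mem_centralizer_singleton_iff.2
          (hyall q (Nat.prime_of_mem_primeFactors q.2) w hw)
      exact mem_centralizer_singleton_iff.1 (hle hz)
    have hle : zpowers y ≤ centralizer ({k} : Set G) := le_of_sylow_le fun q hq w hw ⟨j, hj⟩ => by
      by_cases hj0 : j = 0
      · rw [hj0, pow_zero, orderOf_eq_one_iff] at hj
        rw [hj]; exact one_mem _
      haveI := Fact.mk hq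
      have hqp : q ≠ p := by
        rintro rfl
        obtain ⟨m, rfl⟩ := mem_zpowers_iff.1 hw
        have h1 : orderOf (y ^ m) ∣ orderOf y := by
          rw [← Nat.card_zpowers, ← Nat.card_zpowers]
          exact Subgroup.card_dvd_of_le (zpowers_le.2 hw)
        exact hq.one_lt.ne' (Nat.eq_one_of_dvd_coprimes hcop
          ((hj ▸ dvd_pow_self q hj0).trans h1) dvd_rfl)
      have hwQ := mem_pCore_of_mem_fitting ((zpowers_le.2 hyF) hw) hj
      have h2 := Subgroup.mem_iInf.1 (mem_inf.1 hk).2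
      exact mem_centralizer_singleton_iff.2 (h2 ⟨q, hq, hqp⟩ w hwQ)
    exact (mem_centralizer_singleton_iff.1 (hle (mem_zpowers y))).symm
  have hnil : Group.IsNilpotent K := by
    apply Group.of_quotient_center_nilpotent
    have hq : IsPGroup p (K ⧸ center K) := by
      intro w
      obtain ⟨w, rfl⟩ := QuotientGroup.mk_surjective w
      obtain ⟨m, hm⟩ := GlaubermanStable.exists_pow_coprime (p := p) (w : G)
      refine ⟨m, ?_⟩
      rw [← QuotientGroup.mk_pow, QuotientGroup.eq_one_iff, mem_center_iff]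
      exact fun k => Subtype.ext (hcentral _ (K.pow_mem w.2 _) hm k k.2)
    exact hq.isNilpotent
  exact (le_sSup (show K ∈ {N : Subgroup G | N.Normal ∧ Group.IsNilpotent N} from ⟨hKn, hnil⟩) :
    K ≤ Cfsg.fittingSubgroup G) hxK

/-- In an odd order solvable group whose `O_q` have rank at most two, `G' ≤ F(G)`. -/
theorem commutator_le_fitting [Group.IsSolvable G] (hodd : Odd (Nat.card G))
    (hr : ∀ q : ℕ, q.Prime → Cfsg.PRankLE q 2 ↥(Cfsg.pCore q G)) :
    commutator G ≤ Cfsg.fittingSubgroup G :=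
  commutator_le_fitting_of_centralize fun q hq _ hy hcop =>
    commute_pCore_of_mem_commutator hodd hq (hr q hq) hy hcop

end fitting

theorem pRankLE_of_injective {p k : ℕ} {H : Type v} {G : Type u} [Group H] [Group G] (f : H →* G)
    (hf : Function.Injective f) (h : Cfsg.PRankLE p k G) : Cfsg.PRankLE p k H := by
  intro A hA hp
  rw [← Subgroup.card_map_of_injective hf]
  haveI := hA
  refine h _ inferInstance ?_
  rintro _ ⟨a, ha, rfl⟩
  rw [← map_pow, hp a ha, map_one]

theorem pRankLE_mono {p k : ℕ} {G : Type u} [Group G] {H K : Subgroup G} (hle : H ≤ K)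
    (h : Cfsg.PRankLE p k K) : Cfsg.PRankLE p k H :=
  pRankLE_of_injective (inclusion hle) (inclusion_injective hle) h

end Cfsg.Agent.BGRankTwo
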