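import Cfsg.Agent.Lib.BGExcMain
import Cfsg.Agent.Lib.BGExcTransfer
import Cfsg.Agent.Lib.BGRankTwo

/-!
Bender-Glauberman 11.4 and 11.7 for an exceptional pair: `M_σ A` is normal in `M`; maximal subgroups
over `A` sharing a sigma prime with `M`.
-/

set_option autoImplicit false
set_option linter.style.haveILetI false

namespace Cfsg.Agent.BGExc

open Subgroup
open Cfsg.Agent.BGUnique
open Cfsg.Agent.BGSigma
open scoped commutatorElement Pointwise

universe u

variable {G : Type u} [Group G] [Finite G]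

namespace IsExc

variable (hG : Cfsg.IsMinSimpleOddOrder G) {p : ℕ} [hp : Fact p.Prime] {M A A₀ : Subgroup G}
  (h : IsExc p M A A₀)
include hG h

/-- Frattini argument in a complement of `M_σ` containing `A`. -/
theorem frattini_compl {E : Subgroup G} (hE : Cfsg.IsComplIn E (Cfsg.sigmaCore M) M) (hAE : A ≤ E) :
    E ≤ (⁅E, E⁆ ⊔ A) ⊔ (E ⊓ normalizer (A : Set G)) := by
  set W := ⁅E, E⁆ ⊔ A with hW
  have hWE : W ≤ E := sup_le (commutator_le_self E) hAE
  have hEW : E ≤ normalizer (W : Set G) := CoprimeAction.le_normalizer_of_conj_mem fun e he w hw => by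
    have h1 : ⁅e, w⁆ ∈ W := mem_sup_left (commutator_mem_commutator he (hWE hw))
    simpa [commutatorElement_def] using mul_mem h1 hw
  obtain ⟨P, hP, hAP⟩ := exists_isMaxP_ge (isPGroup h) (le_sup_right : A ≤ W)
  intro e he
  have hPe : IsMaxP p (MulAut.conj e • P) W := by
    have h1 := isMaxP_conj e hP
    rwa [CoprimeSZ.conj_smul_eq_self (hEW he)] at h1
  obtain ⟨n, hn, hnle⟩ := exists_conj_maxP hP hPe.le hPe.isPGroup
  have heq : MulAut.conj n • MulAut.conj e • P = P := eq_of_le_of_card_ge hnle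
    (by rw [CoprimeSZ.card_conj_smul, CoprimeSZ.card_conj_smul])
  have hne : n * e ∈ normalizer (A : Set G) :=
    normalizer_maxP_le hG h hP.isPGroup (hP.le.trans (hWE.trans hE.1)) hAP
      (CoprimeAction.mem_normalizer_of_conj_smul_eq (by rwa [CoprimeSZ.conj_smul_mul]))
  rw [show e = n⁻¹ * (n * e) by group]
  exact mul_mem (mem_sup_left (inv_mem hn)) (mem_sup_right ⟨mul_mem (hWE hn) he, hne⟩)

/-- The heart of BG 11.7: `A` centralises the Sylow subgroups of `E'` for primes other than `p`. -/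
theorem commutator_derived_eq_bot {E : Subgroup G} (hE : Cfsg.IsComplIn E (Cfsg.sigmaCore M) M)
    (hAE : A ≤ E) {q : ℕ} (hq : q.Prime) (hqp : q ≠ p) {T : Subgroup G}
    (hT : IsMaxP q T ⁅E, E⁆) : ⁅T, A⁆ = ⊥ := by
  haveI := Fact.mk hq
  by_contra hR0
  set R := ⁅T, A⁆ with hRdef
  have hTne : T ≠ ⊥ := fun h0 => hR0 (by rw [hRdef, h0, commutator_bot_left])
  have hM := h.coatom
  have hDE : ⁅E, E⁆ ≤ E := commutator_le_self E
  have hTE : T ≤ E := hT.le.trans hDE
  have hqσ : q ∉ Cfsg.sigma M := not_sigma_of_compl hG hM hE hq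
    ((dvd_card_of_ne_bot hT.isPGroup hTne).trans (card_dvd_of_le hTE))
  have hqG : q ∣ Nat.card G := (dvd_card_of_ne_bot hT.isPGroup hTne).trans (card_subgroup_dvd_card T)
  have hq2 : q ≠ 2 := prime_ne_two hG hqG
  have hp2 : p ≠ 2 := prime_ne_two hG ((dvd_card_of_sq le_rfl h.card).trans (card_subgroup_dvd_card A))
  obtain ⟨T₀, hT₀, hNT₀, hT₀max, hT₀c⟩ := exists_sylow_of_nilpotent (derived_nilpotent hG hM hE) q
  have hTT₀ : T = T₀ := (hT.eq_of_le T₀ (hT₀max T hT.isPGroup hT.le) hT₀.le hT₀.isPGroup).symm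
  subst hTT₀
  have hEN : E ≤ normalizer ((⁅E, E⁆ : Subgroup G) : Set G) := normalizer_commutator_ge_left E E
  have hET : E ≤ normalizer (T : Set G) := hEN.trans hNT₀
  have hRT : R ≤ T := le_normalizer_iff_commutator_le_left.1 (hAE.trans hET)
  have hRp : IsPGroup q R := hT.isPGroup.to_le hRT
  have hRM : R ≤ M := hRT.trans (hTE.trans hE.1)
  have hRσ : R ≤ centralizer (Cfsg.sigmaCore M : Set G) :=
    commutator_le_centralizer hG h hq hqp hqσ hT.isPGroup (hTE.trans hE.1) (hAE.trans hET)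
  -- `R` is normal in `M`
  have hDR : ⁅E, E⁆ ≤ normalizer (R : Set G) := by
    refine le_of_sylows fun ℓ hℓ _ => ?_
    haveI := Fact.mk hℓ
    obtain ⟨S, hS⟩ : ∃ S, IsMaxP ℓ S ⁅E, E⁆ := ⟨_, isMaxP_sylow _ default⟩
    refine ⟨S, hS, ?_⟩
    by_cases hℓq : ℓ = q
    · subst hℓq
      exact (hT₀max S hS.isPGroup hS.le).trans (normalizer_commutator_ge_left T A)
    · exact (hT₀c ℓ hℓ hℓq S hS.isPGroup hS.le).trans
        ((Subgroup.centralizer_le (SetLike.coe_subset_coe.2 hRT)).trans (centralizer_le_normalizer _))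
  have hMR : M ≤ normalizer (R : Set G) := by
    rw [← BGTypeBasic.sup_eq_of_isComplIn hE, sup_le_iff]
    refine ⟨(frattini_compl hG h hE hAE).trans (sup_le (sup_le hDR ?_) ?_), ?_⟩
    · exact normalizer_commutator_ge_right T A
    · exact CoprimeTools.le_normalizer_commutator_of_le (inf_le_left.trans hET) inf_le_right
    · exact (le_centralizer_iff.1 hRσ).trans (centralizer_le_normalizer _)
  have hNR : normalizer (R : Set G) = M := normalizer_eq_of_normal hG hM hRM hR0 hMR
  -- coprimality and the place of the `q`-elements of `E`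
  haveI : Group.IsSolvable E := isSolvable_of_ne_top hG fun h0 => hM.1 (top_le_iff.1 (h0 ▸ hE.1))
  have hEodd := odd_card_subgroup hG E
  have hcopTA : (Nat.card A).Coprime (Nat.card T) := by
    obtain ⟨i, hi⟩ := IsPGroup.iff_card.1 hT.isPGroup
    rw [hi, h.card]
    exact Nat.coprime_pow_primes _ _ hp.out hq (Ne.symm hqp)
  have hsA : Group.IsSolvable A := CoprimeAction.isSolvable_of_isPGroup (isPGroup h)
  have hpq : p < q := by
    rcases Nat.lt_or_gt_of_ne hqp with hlt | hgt
    swap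
    · exact hgt
    exfalso
    haveI := HallCore.pPrimeCore_normal q E
    set O := Cfsg.pPrimeCore q E
    have hAO : A.subgroupOf E ≤ O := le_of_prime_not_dvd fun s hs hd hdi => by
      have hd' := hd.trans (HallCore.card_subgroupOf_dvd A E)
      rw [h.card] at hd'
      have hsp : s = p := (Nat.prime_dvd_prime_iff_eq hs hp.out).1 (hs.dvd_of_dvd_pow hd')
      have := BGRankTwo.prime_le_of_dvd_index hq2 hEodd (rankLE_compl hG hM hE q hq) hs hdi
      omega
    have h1 : ⁅T.subgroupOf E, A.subgroupOf E⁆ ≤ O :=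
      (commutator_mono le_top hAO).trans (commutator_le_right ⊤ O)
    have h2 : ⁅T.subgroupOf E, A.subgroupOf E⁆ ≤ T.subgroupOf E := by
      rw [← le_normalizer_iff_commutator_le_left]
      haveI : (T.subgroupOf E).Normal := normal_subgroupOf_of_le_normalizer hET
      rw [normalizer_eq_top]
      exact le_top
    have hbot : ⁅T.subgroupOf E, A.subgroupOf E⁆ = ⊥ := by
      refine eq_bot_of_card_eq _ (Nat.eq_one_of_dvd_coprimes ?_ (card_dvd_of_le h1) (card_dvd_of_le h2))
      obtain ⟨i, hi⟩ := IsPGroup.iff_card.1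
        (hT.isPGroup.comap_of_injective E.subtype E.subtype_injective)
      have hco := (HallCore.coprime_card_pPrimeCore q E).pow_right i
      rwa [← hi] at hco
    refine hR0 ?_
    have := congrArg (Subgroup.map E.subtype) hbot
    rwa [map_commutator, map_subgroupOf_eq_of_le hTE, map_subgroupOf_eq_of_le hAE,
      Subgroup.map_bot] at this
  haveI := HallCore.pPrimeCore_normal p E
  set K := (Cfsg.pPrimeCore p E).map E.subtype with hK
  have hKE : K ≤ E := map_subtype_le _
  have hqK : ∀ X : Subgroup G, IsPGroup q X → X ≤ E → X ≤ K := by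
    intro X hX hXE
    have hle : X.subgroupOf E ≤ Cfsg.pPrimeCore p E := le_of_prime_not_dvd fun s hs hd hdi => by
      have hd' := hd.trans (HallCore.card_subgroupOf_dvd X E)
      obtain ⟨i, hi⟩ := IsPGroup.iff_card.1 hX
      rw [hi] at hd'
      have hsq : s = q := (Nat.prime_dvd_prime_iff_eq hs hq).1 (hs.dvd_of_dvd_pow hd')
      have := BGRankTwo.prime_le_of_dvd_index hp2 hEodd (rankLE_compl hG hM hE p hp.out) hs hdi
      omega
    rw [← map_subgroupOf_eq_of_le hXE]
    exact map_mono hle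
  have hcK : (Nat.card A).Coprime (Nat.card K) := by
    rw [hK, card_map_of_injective E.subtype_injective, h.card]
    exact (HallCore.coprime_card_pPrimeCore p E).symm.pow_left 2
  have hAK : A ≤ normalizer (K : Set G) := by
    haveI : (Cfsg.pPrimeCore p E).Characteristic := HallCore.pPrimeCore_characteristic p E
    exact hAE.trans (le_normalizer.trans
      (ComponentsCores.normalizer_le_normalizer_map_subtype E (Cfsg.pPrimeCore p E)))
  obtain ⟨SQ, hTQ, hAQ⟩ := CoprimeAction.exists_invariant_sylow_ge hAK hcK (Or.inl hsA)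
    (hqK T hT.isPGroup hTE) hT.isPGroup (hAE.trans hET)
  have hQK := isMaxP_sylow K SQ
  set Q := (SQ : Subgroup K).map K.subtype with hQdef
  have hQE : IsMaxP q Q E := ⟨hQK.le.trans hKE, hQK.isPGroup,
    fun X hQX hXE hX => hQK.eq_of_le X hQX (hqK X hX hXE) hX⟩
  have hQM : IsMaxP q Q M := sylow_compl hG hM hE hqσ hQE
  have hcopQA : (Nat.card A).Coprime (Nat.card Q) := hcK.coprime_dvd_right (card_dvd_of_le hQK.le)
  have hRQ : ⁅Q, A⁆ = R := by
    refine le_antisymm ?_ (commutator_mono hTQ le_rfl)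
    have h1 : ⁅Q, A⁆ ≤ T := hT₀max _ (hQE.isPGroup.to_le (le_normalizer_iff_commutator_le_left.1 hAQ))
      (commutator_mono hQE.le hAE)
    rw [← CoprimeAction.commutator_commutator_eq hAQ hcopQA (Or.inl hsA)]
    exact commutator_mono h1 le_rfl
  have hRQle : R ≤ Q := hRT.trans hTQ
  have hQnR : Q ≤ normalizer (R : Set G) := hQM.le.trans hMR
  have hdvdM : q ∣ Nat.card M :=
    (dvd_card_of_ne_bot hT.isPGroup hTne).trans (card_dvd_of_le (hTE.trans hE.1))
  have hQno : ¬ normalizer (Q : Set G) ≤ M := not_normalizer_le_maxP hqσ hQM hdvdM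
  have hMq : Cfsg.PRankLE q 2 M := outside_alpha hG hM hq hqσ
  -- a central element of order `q` in `R`
  obtain ⟨z, hzR, hzQ, hzo⟩ : ∃ z ∈ R, (∀ y ∈ Q, Commute z y) ∧ orderOf z = q := by
    haveI : (R.subgroupOf Q).Normal := normal_subgroupOf_of_le_normalizer hQnR
    have hne : R.subgroupOf Q ≠ ⊥ := fun h0 =>
      hR0 ((disjoint_iff.1 (subgroupOf_eq_bot.1 h0)).symm.trans (inf_eq_left.2 hRQle)).symm
    obtain ⟨w, hw, hwo⟩ := PGroupsBasic.exists_orderOf_eq_of_ne_bot (p := q)
      (hQE.isPGroup.to_subgroup _) (PGroupsBasic.inf_center_ne_bot hQE.isPGroup hne)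
    exact ⟨w, hw.1, fun y hy => (congrArg Subtype.val ((mem_center_iff.1 hw.2) ⟨y, hy⟩)).symm,
      by rwa [Subgroup.orderOf_coe]⟩
  have hzp : z ^ q = 1 := hzo ▸ pow_orderOf_eq_one z
  set Z := zpowers z with hZ
  have hZR : Z ≤ R := zpowers_le.2 hzR
  have hZc : Nat.card Z = q := by rw [hZ, Nat.card_zpowers, hzo]
  have hZne : Z ≠ ⊥ := fun h0 => by rw [h0, card_bot] at hZc; exact hq.one_lt.ne hZc
  have hZel : Cfsg.IsElementaryAbelian q Z := PGroupsBasic.isElementaryAbelian_zpowers hzp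
  have hZom : ∀ Y : Subgroup G, Z ≤ Y → (∀ x ∈ Y, x ^ q = 1 → x ∈ Z) →
      normalizer (Y : Set G) ≤ normalizer (Z : Set G) := fun Y h1 h2 => normalizer_le_of_omega hZel h1 h2
  have hzcen : ∀ B : Subgroup G, B ≤ Q → z ∈ centralizer (B : Set G) := fun B hB =>
    mem_centralizer_iff.2 fun b hb => ((hzQ b (hB hb)).eq).symm
  have hQnc : ¬ IsCyclic Q := by
    intro hc
    haveI := hc
    letI := IsCyclic.commGroup (α := Q)
    -- the elements of order `q` of `Q` lie in `Z`
    have hall : ∀ x ∈ Q, x ^ q = 1 → x ∈ Z := by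
      intro x hx hxq
      have hle := card_le_of_le (sup_le (zpowers_le.2 hx) (hZR.trans hRQle))
      have hel := PGroupsBasic.isElementaryAbelian_sup (PGroupsBasic.isElementaryAbelian_zpowers hxq) hZel
        (fun a ha b hb => (congrArg Subtype.val
          (mul_comm (⟨a, zpowers_le.2 hx ha⟩ : Q) ⟨b, hRQle (hZR hb)⟩)).symm)
      have h1 : Cfsg.PRankLE q 1 Q := fun B hB hBp => by
        rw [← pow_one q]
        simpa using PGroupsBasic.card_le_prime_of_isCyclic (A := B) inferInstance hBp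
      have h2 := card_le_of_pRankLE h1 (sup_le (zpowers_le.2 hx) (hZR.trans hRQle)) hel
      rw [pow_one] at h2
      rw [eq_of_le_of_card_ge (H := Z) le_sup_right (h2.trans hZc.ge)]
      exact mem_sup_left (mem_zpowers x)
    refine hQno ((hZom Q (hZR.trans hRQle) hall).trans (le_of_eq ?_))
    refine normalizer_eq_of_normal hG hM (hZR.trans hRM) hZne ?_
    exact hMR.trans (hZom R hZR fun x hx => hall x (hRQle hx))
  obtain ⟨B, hBQ, hB, hBc⟩ := exists_elementary_sq_of_noncyclic hG hQE.isPGroup hQnc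
  have hQrank : Cfsg.PRankLE q 2 Q := BGRankTwo.pRankLE_mono hQM.le hMq
  have hzB : z ∈ B := mem_of_pRankLE hQrank hBQ hB hBc.ge (hRQle hzR) hzp fun b hb =>
    (hzQ b (hBQ hb)).symm
  have hZB : Z ≤ B := zpowers_le.2 hzB
  have hinf : ¬ B ≤ R → ∀ x ∈ R, x ∈ B → x ∈ Z := by
    intro hBR x hxR hxB
    have hlt : Nat.card ↥(R ⊓ B) < q ^ 2 := hBc ▸ lt_of_le_of_ne (card_le_of_le inf_le_right)
      fun h0 => hBR (eq_of_le_of_card_ge inf_le_right h0.ge ▸ inf_le_left)
    obtain ⟨i, -, hi⟩ := (Nat.dvd_prime_pow hq).1 (hBc ▸ card_dvd_of_le (inf_le_right : R ⊓ B ≤ B))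
    rw [hi, Nat.pow_lt_pow_iff_right hq.one_lt] at hlt
    rw [eq_of_le_of_card_ge (le_inf hZR hZB : Z ≤ R ⊓ B) (by
      rw [hi, hZc]
      exact le_trans (Nat.pow_le_pow_right hq.pos (by omega : i ≤ 1)) (pow_one q).le)]
    exact ⟨hxR, hxB⟩
  -- `N(Z) = M`
  have hNZ : normalizer (Z : Set G) = M := by
    refine normalizer_eq_of_normal hG hM (hZR.trans hRM) hZne ?_
    by_cases hcent : ∀ x ∈ Q, (∀ y ∈ Q, Commute x y) → x ^ q = 1 → x ∈ Z
    · by_cases hab : ∀ x ∈ Q, ∀ y ∈ Q, Commute x y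
      · exact hMR.trans (hZom R hZR fun x hx hxq => hcent x (hRQle hx) (hab x (hRQle hx)) hxq)
      have hEZ : E ≤ normalizer (Z : Set G) := by
        refine le_normalizer_of_char hG hM hE hQE ?_ ?_
        · have hne : commutator Q ≠ ⊥ := by
            intro h0
            refine hab fun x hx y hy => ?_
            have h1 : ⁅(⟨x, hx⟩ : Q), (⟨y, hy⟩ : Q)⁆ ∈ commutator Q :=
              commutator_mem_commutator (mem_top _) (mem_top _)
            rw [h0, mem_bot, commutatorElement_eq_one_iff_mul_comm] at h1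
            exact congrArg Subtype.val h1
          obtain ⟨w, hw, hwo⟩ := PGroupsBasic.exists_orderOf_eq_of_ne_bot (p := q)
            (hQE.isPGroup.to_subgroup _) (PGroupsBasic.inf_center_ne_bot hQE.isPGroup hne)
          have hwZ : (w : G) ∈ Z := hcent _ w.2 (fun y hy => (congrArg Subtype.val
            ((mem_center_iff.1 hw.2) ⟨y, hy⟩)).symm)
            (by rw [← SubgroupClass.coe_pow, ← hwo, pow_orderOf_eq_one]; rfl)
          have hw1 : (w : G) ≠ 1 := fun h0 => hq.one_lt.ne'
            (by rw [← hwo, ← Subgroup.orderOf_coe, h0, orderOf_one])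
          rw [← eq_zpowers_of_card hZc hwZ hw1, zpowers_le, ← Subgroup.map_subtype_commutator]
          exact mem_map_of_mem _ hw.1
        · intro e t ht
          have ht' : ∀ u : Q, Commute t u := fun u => Subtype.ext (by
            obtain ⟨i, hi⟩ := mem_zpowers_iff.1 ht
            show (t : G) * u = u * t
            rw [← hi]
            exact ((hzQ u u.2).zpow_left i).eq)
          refine hcent _ (e t).2 (fun y hy => ?_) ?_
          · have h1 := (ht' (e.symm ⟨y, hy⟩)).map (e : Q →* Q)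
            show ((e t : Q) : G) * y = y * ((e t : Q) : G)
            simpa using congrArg Subtype.val h1.eq
          · have ht1 : t ^ q = 1 := Subtype.ext (by
              rw [SubgroupClass.coe_pow]; exact hZel.2 _ ht)
            rw [← SubgroupClass.coe_pow, ← map_pow, ht1, map_one]; rfl
      rw [← BGTypeBasic.sup_eq_of_isComplIn hE]
      refine sup_le hEZ ((le_centralizer_iff.1 (hZR.trans hRσ)).trans (centralizer_le_normalizer _))
    · push Not at hcent
      obtain ⟨x, hxQ, hxc, hxq, hxZ⟩ := hcent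
      have hxB : x ∈ B := mem_of_pRankLE hQrank hBQ hB hBc.ge hxQ hxq fun b hb =>
        (hxc b (hBQ hb)).symm
      have hx1 : x ≠ 1 := fun h0 => hxZ (h0 ▸ one_mem Z)
      have hsup := sup_eq_of_sq hBc hZB (zpowers_le.2 hxB) hZc
        (by rw [Nat.card_zpowers, PGroupsBasic.orderOf_eq_of_pow_eq_one hxq hx1])
        (fun he => hxZ (he ▸ mem_zpowers x))
      have hBcen : B ≤ centralizer (Q : Set G) := by
        rw [← hsup, sup_le_iff]
        exact ⟨zpowers_le.2 (mem_centralizer_iff.2 fun y hy => ((hzQ y hy).eq).symm),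
          zpowers_le.2 (mem_centralizer_iff.2 fun y hy => ((hxc y hy).eq).symm)⟩
      have hBom : ∀ w ∈ Q, w ^ q = 1 → w ∈ B := fun w hw hwq =>
        mem_of_pRankLE hQrank hBQ hB hBc.ge hw hwq fun b hb =>
          ((mem_centralizer_iff.1 (hBcen hb)) w hw).symm
      by_cases hBR : B ≤ R
      · exfalso
        refine hQno ((normalizer_le_of_omega hB hBQ hBom).trans (le_of_eq ?_))
        exact normalizer_eq_of_normal hG hM (hBR.trans hRM)
          (fun h0 => by rw [h0, card_bot] at hBc; exact (Nat.one_lt_pow two_ne_zero hq.one_lt).ne hBc)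
          (hMR.trans (normalizer_le_of_omega hB hBR fun w hw => hBom w (hRQle hw)))
      exact hMR.trans (hZom R hZR fun w hw hwq => hinf hBR w hw (hBom w (hRQle hw) hwq))
  -- so `(M, Z ≤ B)` is exceptional for `q`
  have hexc : IsExc q M B Z := ⟨hM, hqσ, hBQ.trans hQM.le, hB, hBc, hZB, hZc, hNZ.le⟩
  have hBom : ∀ w ∈ Q, w ^ q = 1 → w ∈ B := fun w hw hwq =>
    mem_of_pow_eq_one hG hexc hQM.isPGroup hQM.le hBQ hw hwq
  have hBR : ¬ B ≤ R := fun hBR => hQno ((normalizer_le_of_omega hB hBQ hBom).trans (le_of_eq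
    (normalizer_eq_of_normal hG hM (hBR.trans hRM)
      (fun h0 => by rw [h0, card_bot] at hBc; exact (Nat.one_lt_pow two_ne_zero hq.one_lt).ne hBc)
      (hMR.trans (normalizer_le_of_omega hB hBR fun w hw => hBom w (hRQle hw))))))
  have hAB : A ≤ normalizer (B : Set G) := hAQ.trans (normalizer_le_of_omega hB hBQ hBom)
  -- `q` divides the order of `C(A)`
  have hqC : q ∣ Nat.card (centralizer (A : Set G)) := by
    by_contra hnd
    have hfix : Q ⊓ centralizer (A : Set G) = ⊥ := by
      by_contra hne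
      exact hnd ((dvd_card_of_ne_bot (hQE.isPGroup.to_le inf_le_left) hne).trans
        (card_dvd_of_le inf_le_right))
    have := CoprimeTools.commutator_eq_self hAQ hcopQA (Or.inl hsA) hfix
    exact hBR (hBQ.trans (this ▸ hRQ ▸ le_rfl))
  have hnotcen : ¬ A ≤ centralizer (Q : Set G) := fun h0 => hR0 (by
    rw [← hRQ]; exact CoprimeExtra.commutator_eq_bot_iff.2 h0)
  have hD : ⁅B, A⁆ = Z := by
    have hle : ⁅B, A⁆ ≤ Z := fun x hx => hinf hBR x
      (hRQ ▸ commutator_mono hBQ le_rfl hx) (le_normalizer_iff_commutator_le_left.1 hAB hx)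
    refine eq_of_le_of_card_ge hle ?_
    rcases (Nat.dvd_prime hq).1 (hZc ▸ card_dvd_of_le hle) with h1 | h1
    swap
    · rw [h1, hZc]
    exfalso
    have hBA := CoprimeExtra.commutator_eq_bot_iff.1 (eq_bot_of_card_eq _ h1)
    refine hnotcen fun a ha => mem_centralizer_iff.2 fun x hx => ?_
    have hco : (orderOf a).Coprime q :=
      ((Nat.coprime_primes hp.out hq).2 (Ne.symm hqp)).coprime_dvd_left
        (orderOf_dvd_of_pow_eq_one (h.elem.2 a ha))
    exact ((OmegaCoprime.commute_of_forall_pow_eq_one hq2 hco Q hQE.isPGroup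
      (fun w hw => (mem_normalizer_iff.1 (hAQ ha) w).1 hw)
      (fun w hw hwq => (mem_centralizer_iff.1 (hBA ha) w (hBom w hw hwq)).symm) x hx).eq).symm
  obtain ⟨Qs, hQs, hQQs⟩ := BGTransitivity.exists_maxInv_ge (q := q) (A := A) hQE.isPGroup hAQ
  have hQsp := BGTransitivity.isPGroup_of_mem hQs
  have hAN := le_derived_normalizer hG h.elem h.card (rank hG h) hq hqp hqC hQs
  have hNne : normalizer (Qs : Set G) ≠ ⊤ := BGTransitivity.normalizer_ne_top hG
    (ne_bot_of_le_ne_bot hTne (hTQ.trans hQQs)) (BGTransitivity.qgroup_ne_top hG hQsp)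
  by_cases hr : Cfsg.PRankLE q 2 Qs
  · haveI := isSolvable_of_ne_top hG hNne
    refine hnotcen fun a ha => mem_centralizer_iff.2 fun x hx => ?_
    exact ((BGRankTwo.commute_of_mem_commutator hq2 hQsp hr le_rfl (odd_card_subgroup hG _) (hAN ha)
      (((Nat.coprime_primes hp.out hq).2 (Ne.symm hqp)).coprime_dvd_left
        (orderOf_dvd_of_pow_eq_one (h.elem.2 a ha))) x (hQQs hx)).eq).symm
  · have hBs : B ≤ Qs := hBQ.trans hQQs
    have hB₀ : Cfsg.IsElementaryAbelian q (B.subgroupOf Qs) :=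
      PGroupsBasic.isElementaryAbelian_comap_injective hB Qs.subtype_injective
    have hB₀c : Nat.card (B.subgroupOf Qs) = q ^ 2 := by
      rw [← hBc]; exact Nat.card_congr (subgroupOfEquivOfLe hBs).toEquiv
    have hB₀max : ∀ C : Subgroup Qs, Cfsg.IsElementaryAbelian q C → B.subgroupOf Qs ≤ C →
        C = B.subgroupOf Qs := by
      intro C hC hle
      have := maximal_of_rank_two hG hM hqσ (hBQ.trans hQM.le) hB hBc
        (PGroupsBasic.isElementaryAbelian_map_hom hC Qs.subtype)
        (by rw [← map_subgroupOf_eq_of_le hBs]; exact map_mono hle)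
      apply Subgroup.map_injective Qs.subtype_injective
      rw [this, map_subgroupOf_eq_of_le hBs]
    obtain ⟨hnT, -, ⟨hWel, hWc⟩, hTc, hTi⟩ :=
      Cfsg.Agent.S1453.result q hq2 hQsp hr _ hB₀ hB₀c hB₀max
    set W := closure {x : Qs | x ∈ Subgroup.upperCentralSeries Qs 2 ∧ x ^ q = 1} with hW
    set U := centralizer (W : Set Qs) with hU
    haveI : U.Characteristic := hTc
    haveI : U.Normal := inferInstance
    -- `N(Qs)'` acts trivially on `Qs / U`
    have hcyc : IsCyclic (Qs ⧸ U) := isCyclic_of_prime_card (p := q) hTi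
    let φ : normalizer (Qs : Set G) →* MulAut (Qs ⧸ U) :=
      (BGCoprimeFPF.quotAut U).comp (normalizerMonoidHom Qs)
    have hφ : ∀ a ∈ A, ∀ x : Qs, a * (x : G) * a⁻¹ * (x : G)⁻¹ ∈ U.map Qs.subtype := by
      intro a ha x
      have ha' := hAN ha
      rw [← Subgroup.map_subtype_commutator] at ha'
      obtain ⟨c, hc, rfl⟩ := ha'
      have hker : commutator (normalizer (Qs : Set G)) ≤ φ.ker := by
        haveI := hcyc
        rw [_root_.commutator_def, Subgroup.commutator_le]
        intro u _ v _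
        rw [MonoidHom.mem_ker, map_commutatorElement, commutatorElement_eq_one_iff_mul_comm]
        exact (IsCyclic.mulAutMulEquiv (Qs ⧸ U)).injective (by rw [map_mul, map_mul, mul_comm])
      have h1 : φ c (QuotientGroup.mk x⁻¹) = QuotientGroup.mk x⁻¹ := by
        rw [MonoidHom.mem_ker.1 (hker hc)]; rfl
      have h2 : ((normalizerMonoidHom Qs c) x⁻¹)⁻¹ * x⁻¹ ∈ U := QuotientGroup.eq.1 h1
      refine ⟨_, h2, ?_⟩
      show (((normalizerMonoidHom Qs c) x⁻¹ : Qs) : G)⁻¹ * (x : G)⁻¹ = _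
      rw [show (((normalizerMonoidHom Qs c) x⁻¹ : Qs) : G) = c * (x : G)⁻¹ * (c : G)⁻¹ from rfl]
      show _ = (c : G) * (x : G) * (c : G)⁻¹ * (x : G)⁻¹
      group
    have hBU : ⁅A, B⁆ ≤ U.map Qs.subtype := by
      rw [Subgroup.commutator_le]
      intro a ha b hb
      simpa [commutatorElement_def] using hφ a ha ⟨b, hBs hb⟩
    rw [commutator_comm, hD] at hBU
    obtain ⟨z', hz', hz'e⟩ := hBU (mem_zpowers z)
    refine hnT ?_
    have hCz : centralizer ({z} : Set G) ≤ M := by
      refine le_trans ?_ hNZ.le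
      rw [hZ, zpowers_eq_closure, ← centralizer_closure]
      exact centralizer_le_normalizer _
    have hWB : W.map Qs.subtype = B := by
      refine eq_of_le_of_card_ge (fun w hw => ?_)
        (by rw [hBc, card_map_of_injective Qs.subtype_injective, hWc])
      obtain ⟨v, hv, rfl⟩ := hw
      have hvc : (v : G) ∈ centralizer ({z} : Set G) :=
        mem_centralizer_singleton_iff.2 (by
          have h1 := congrArg Subtype.val (mem_centralizer_iff.1 hz' v hv)
          rw [← hz'e]
          exact h1)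
      have hvQ : (v : G) ∈ Q := by
        have h1 : Qs ⊓ M = Q := hQM.eq_of_le _ (le_inf hQQs hQM.le) inf_le_right (hQsp.to_le inf_le_left)
        rw [← h1]
        exact ⟨v.2, hCz hvc⟩
      exact hBom _ hvQ (congrArg Subtype.val (hWel.2 v hv))
    intro b hb
    have hbW : b ∈ W := by
      have h1 : (b : G) ∈ W.map Qs.subtype := hWB.ge hb
      obtain ⟨v, hv, hvb⟩ := h1
      rwa [← Qs.subtype_injective hvb]
    exact mem_centralizer_iff.2 fun v hv => PGroupsBasic.comm_of_isMulCommutative hWel.1 hv hbW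

theorem derived_le_centralizer {E : Subgroup G} (hE : Cfsg.IsComplIn E (Cfsg.sigmaCore M) M)
    (hAE : A ≤ E) : ⁅E, E⁆ ≤ centralizer (A : Set G) := by
  refine le_of_sylows fun ℓ hℓ _ => ?_
  haveI := Fact.mk hℓ
  obtain ⟨T, hT, hN, -, -⟩ := exists_sylow_of_nilpotent (derived_nilpotent hG h.coatom hE) ℓ
  refine ⟨T, hT, ?_⟩
  by_cases hℓp : ℓ = p
  · subst hℓp
    have hAT : A ≤ normalizer (T : Set G) :=
      (hAE.trans (normalizer_commutator_ge_left E E)).trans hN
    have hU : IsPGroup ℓ ↥(T ⊔ A) := IsPGroup.to_sup_of_normal_left' hT.isPGroup (isPGroup h) hAT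
    obtain ⟨P, hP, hle⟩ := exists_isMaxP_ge hU
      (sup_le (hT.le.trans ((commutator_le_self E).trans hE.1)) h.le)
    exact fun t ht => mem_centralizer_iff.2 fun a ha => PGroupsBasic.comm_of_isMulCommutative
      (isMulCommutative_maxP hG h hP) (hle (mem_sup_right ha)) (hle (mem_sup_left ht))
  · exact le_centralizer_iff.1 (CoprimeExtra.commutator_eq_bot_iff.1
      (commutator_derived_eq_bot hG h hE hAE hℓ hℓp hT))

theorem le_normalizer_compl {E : Subgroup G} (hE : Cfsg.IsComplIn E (Cfsg.sigmaCore M) M)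
    (hAE : A ≤ E) : E ≤ normalizer (A : Set G) :=
  (frattini_compl hG h hE hAE).trans (sup_le (sup_le
    ((derived_le_centralizer hG h hE hAE).trans (centralizer_le_normalizer _)) le_normalizer)
    inf_le_right)

/-- BG 11.7. -/
theorem le_normalizer_sup :
    M ≤ normalizer ((Cfsg.sigmaCore M ⊔ A : Subgroup G) : Set G) := by
  obtain ⟨P, hP, hAP⟩ := exists_isMaxP_ge (isPGroup h) h.le
  obtain ⟨E, hE, hPE⟩ := exists_compl hG h.coatom hP h.not_sigma
  conv_lhs => rw [← BGTypeBasic.sup_eq_of_isComplIn hE]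
  refine sup_le ?_ (le_sup_left.trans le_normalizer)
  intro e he
  refine CoprimeAction.mem_normalizer_of_conj_smul_eq ?_
  rw [smul_sup, CoprimeSZ.conj_smul_eq_self (le_normalizer_compl hG h hE (hAP.trans hPE) he),
    CoprimeSZ.conj_smul_eq_self (le_normalizer_sigmaCore M (hE.1 he))]

/-- For an `A`-invariant `q`-subgroup `Z` of `M`, `[Z, A] ≤ M_σ`. -/
theorem commutator_le_sigmaCore {q : ℕ} (hq : q.Prime) (hqp : q ≠ p) {Z : Subgroup G}
    (hZ : IsPGroup q Z) (hZM : Z ≤ M) (hAZ : A ≤ normalizer (Z : Set G)) :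
    ⁅Z, A⁆ ≤ Cfsg.sigmaCore M := by
  haveI := Fact.mk hq
  have hXZ : ⁅Z, A⁆ ≤ Z := le_normalizer_iff_commutator_le_left.1 hAZ
  have hXW : ⁅Z, A⁆ ≤ Cfsg.sigmaCore M ⊔ A := by
    refine le_trans (commutator_mono hZM (le_sup_right : A ≤ Cfsg.sigmaCore M ⊔ A)) ?_
    rw [← le_normalizer_iff_commutator_le_right]
    exact le_normalizer_sup hG h
  by_cases hqσ : q ∈ Cfsg.sigma M
  · exact pgroup_le_sigmaCore hG h.coatom hqσ (hZ.to_le hXZ) (hXZ.trans hZM)
  rcases eq_or_ne ⁅Z, A⁆ ⊥ with h0 | hne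
  · exact h0.le.trans bot_le
  exfalso
  set W := Cfsg.sigmaCore M ⊔ A
  haveI : ((Cfsg.sigmaCore M).subgroupOf W).Normal := normal_subgroupOf_of_le_normalizer
    (sup_le le_normalizer (h.le.trans (le_normalizer_sigmaCore M)))
  have h1 : Nat.card W ∣ Nat.card A * Nat.card (Cfsg.sigmaCore M) := by
    have := HallCore.card_sup_dvd (A.subgroupOf W) ((Cfsg.sigmaCore M).subgroupOf W)
    rw [← subgroupOf_sup le_sup_right le_sup_left, subgroupOf_eq_top.2 (sup_comm _ _).le, card_top]
      at this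
    rwa [Nat.card_congr (subgroupOfEquivOfLe (le_sup_right : A ≤ W)).toEquiv,
      Nat.card_congr (subgroupOfEquivOfLe (le_sup_left : Cfsg.sigmaCore M ≤ W)).toEquiv] at this
  rcases hq.dvd_mul.1 (((dvd_card_of_ne_bot (hZ.to_le hXZ) hne).trans (card_dvd_of_le hXW)).trans h1)
    with h2 | h2
  · rw [h.card] at h2
    exact hqp ((Nat.prime_dvd_prime_iff_eq hq hp.out).1 (hq.dvd_of_dvd_pow h2))
  · exact hqσ (sigma_of_dvd hG h.coatom hq h2)

/-- BG 11.4. -/
theorem inf_eq_bot_of_share {H : Subgroup G} (hH : IsCoatom H) (hAH : A ≤ H) (hne : H ≠ M) {q : ℕ}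
    (hqM : q ∈ Cfsg.sigma M) (hqH : q ∈ Cfsg.sigma H) : Cfsg.sigmaCore M ⊓ H = ⊥ := by
  haveI := Fact.mk hqM.1
  obtain ⟨Q, hQ, hn, -⟩ := exists_normal_sylow hG h.coatom (nilpotent hG h) hqM
  obtain ⟨g, rfl⟩ := eq_conj_of_normal_sylow hG h.coatom hH hqM hqH hQ hn
  exact sigmaCore_inf_conj hG h.elem h.card h.coatom h.not_sigma h.le (centralizer_le h)
    (fun hg => hne (CoprimeSZ.conj_smul_eq_self (le_normalizer hg))) hAH

end IsExc

end Cfsg.Agent.BGExc
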