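import Cfsg.Agent.Lib.BGSigmaBasic
import Cfsg.Agent.S1416
import Cfsg.Agent.S1417

/-!
Primes outside sigma of a maximal subgroup and nilpotent subgroups for such primes
(Bender-Glauberman 12.10 (a), (c)).
-/

set_option autoImplicit false
set_option linter.style.haveILetI false

namespace Cfsg.Agent.BGTau62

open Subgroup
open Cfsg.Agent.BGUnique

universe u

variable {G : Type u} [Group G] [Finite G] {p : ℕ} [hp : Fact p.Prime] {M : Subgroup G}

omit [Finite G] hp in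
theorem card_le_of_pRankLE {k : ℕ} {E : Subgroup G} (h : Cfsg.PRankLE p k M) (hEM : E ≤ M)
    (hE : Cfsg.IsElementaryAbelian p E) : Nat.card E ≤ p ^ k := by
  rw [← Nat.card_congr (subgroupOfEquivOfLe hEM).toEquiv]
  exact h _ ⟨⟨fun a b => Subtype.ext (Subtype.ext
    (PGroupsBasic.comm_of_isMulCommutative hE.1 a.2 b.2))⟩⟩
    fun a ha => Subtype.ext (by rw [SubgroupClass.coe_pow]; exact hE.2 _ ha)

omit [Finite G] hp in
theorem not_pRankLE_one {E : Subgroup G} (hEM : E ≤ M) (hE : Cfsg.IsElementaryAbelian p E)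
    (hp1 : p.Prime) (h2 : Nat.card E = p ^ 2) : ¬ Cfsg.PRankLE p 1 M := fun h => by
  have h1 := card_le_of_pRankLE h hEM hE
  rw [h2] at h1
  exact absurd h1 (not_le.2 (Nat.pow_lt_pow_right hp1.one_lt (by norm_num)))

variable (hG : Cfsg.IsMinSimpleOddOrder G) (hM : IsCoatom M)
include hG

theorem pRankLE_two (hM : IsCoatom M) (hσ : p ∉ Cfsg.sigma M) : Cfsg.PRankLE p 2 M :=
  by_contra fun h => hσ (BGSigma.alpha_subset_sigma hG hM ⟨hp.out, h⟩)

include hM

theorem mem_tau2 (hσ : p ∉ Cfsg.sigma M) (h1 : ¬ Cfsg.PRankLE p 1 M) : p ∈ Cfsg.tau2 M :=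
  ⟨hp.out, hσ, pRankLE_two hG hM hσ, h1⟩

theorem exists_elementary_sq (ht : p ∈ Cfsg.tau2 M) :
    ∃ A : Subgroup G, A ≤ M ∧ Cfsg.IsElementaryAbelian p A ∧ Nat.card A = p ^ 2 := by
  obtain ⟨E, hEM, hE, hc⟩ := pow_le_of_not_pRankLE ht.2.2.2
  exact ⟨E, hEM, hE, le_antisymm (card_le_of_pRankLE ht.2.2.1 hEM hE) hc⟩

omit hM in
theorem isCyclic_of_pRankLE_one (h : Cfsg.PRankLE p 1 M) {P : Subgroup G} (hP : IsPGroup p P)
    (hPM : P ≤ M) : IsCyclic P := by
  by_contra hnc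
  obtain ⟨E, hEP, hE, hc⟩ := exists_elementary_sq_of_noncyclic hG hP hnc
  exact not_pRankLE_one (hEP.trans hPM) hE hp.out hc h

theorem mem_tau13 (hσ : p ∉ Cfsg.sigma M) (h1 : Cfsg.PRankLE p 1 M) (hpM : p ∣ Nat.card M) :
    p ∈ Cfsg.tau1 M ∪ Cfsg.tau3 M := by
  by_cases h : p ∣ Nat.card ↥⁅M, M⁆
  · exact Or.inr ⟨hp.out, hσ, h, h1⟩
  · exact Or.inl ⟨hp.out, hσ, hpM, h, h1⟩

/-- For `p` outside sigma the `p`-subgroups of `M` are abelian. -/
theorem isMulCommutative_of_pgroup (hσ : p ∉ Cfsg.sigma M) {P : Subgroup G} (hP : IsPGroup p P)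
    (hPM : P ≤ M) : IsMulCommutative P := by
  by_cases h1 : Cfsg.PRankLE p 1 M
  · haveI := isCyclic_of_pRankLE_one hG h1 hP hPM
    infer_instance
  · obtain ⟨Q, hQ, hPQ⟩ := exists_isMaxP_ge hP hPM
    obtain ⟨S, rfl⟩ := hQ.exists_sylow
    have ht := mem_tau2 hG hM hσ h1
    obtain ⟨A, hA⟩ := exists_elementary_sq hG hM ht
    have hS := ((S1417.result hG M hM p ht A hA).2.1 S).1
    refine PGroupsBasic.isMulCommutative_mono ?_ hPQ
    refine PGroupsBasic.isMulCommutative_of_forall ?_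
    rintro _ ⟨x, hx, rfl⟩ _ ⟨y, hy, rfl⟩
    rw [← map_mul, ← map_mul, PGroupsBasic.comm_of_isMulCommutative hS hx hy]

/-- BG 12.10 (a). -/
theorem isMulCommutative_of_nilpotent {N : Subgroup G} (hNM : N ≤ M) (hn : Group.IsNilpotent N)
    (hN : ∀ q : ℕ, q.Prime → q ∣ Nat.card N → q ∉ Cfsg.sigma M) : IsMulCommutative N := by
  obtain ⟨e⟩ := ((Group.isNilpotent_of_finite_tfae (G := N)).out 0 4).1 hn
  refine ⟨⟨fun a b => e.symm.injective ?_⟩⟩
  rw [map_mul, map_mul]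
  funext q P
  haveI := Fact.mk (Nat.prime_of_mem_primeFactors q.2)
  have hc := isMulCommutative_of_pgroup hG hM
    (hN q (Nat.prime_of_mem_primeFactors q.2) (Nat.dvd_of_mem_primeFactors q.2))
    (P.isPGroup'.map N.subtype) ((map_subtype_le _).trans hNM)
  exact Subtype.ext (Subtype.ext (PGroupsBasic.comm_of_isMulCommutative hc
    (mem_map_of_mem _ (e.symm a q P).2) (mem_map_of_mem _ (e.symm b q P).2)))

/-- BG 12.10 (c). -/
theorem normalizer_le_of_noncyclic (hσ : p ∈ Cfsg.sigma M) {P : Subgroup G} (hP : IsPGroup p P)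
    (hPM : P ≤ M) (hnc : ¬ IsCyclic P) : normalizer (P : Set G) ≤ M := by
  obtain ⟨A, hAP, hA, hA2⟩ := exists_elementary_sq_of_noncyclic hG hP hnc
  have hC := (S1416.result hG M hM p A ⟨hAP.trans hPM, hA, hA2⟩).1
  rw [BGSigma.normalizer_eq hG hM hσ hP (fun h => hnc (h ▸ inferInstance)) hPM]
  exact sup_le inf_le_left ((centralizer_le hAP).trans hC)

end Cfsg.Agent.BGTau62
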