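import Cfsg.Agent.Lib.BGSCNUniqueMain
import Cfsg.Agent.Lib.PLengthOne

/-!
Sigma primes of a maximal subgroup (Bender-Glauberman 10.1): fusion control by sigma primes.
-/

set_option autoImplicit false
set_option linter.style.haveILetI false

namespace Cfsg.Agent.BGSigma

open Subgroup
open Cfsg.Agent.BGUnique
open scoped commutatorElement Pointwise

universe u

variable {G : Type u} [Group G] [Finite G]

/-! ### Uniqueness from rank three -/

theorem exists_unique_sub_of_rank (hG : Cfsg.IsMinSimpleOddOrder G) {p : ℕ} [Fact p.Prime]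
    {L : Subgroup G} (h : ¬ Cfsg.PRankLE p 2 L) :
    ∃ F : Subgroup G, F ≤ L ∧ IsPGroup p F ∧ Cfsg.InUniqueMaximal F := by
  obtain ⟨F, hFL, hF, hFc⟩ := BGUnique.pow_le_of_not_pRankLE h
  refine ⟨F, hFL, PGroupsBasic.isPGroup_of_isElementaryAbelian hF,
    BGSCNUniqueMain.unique_of_abelian hG hF.1
      (PGroupsBasic.isPGroup_of_isElementaryAbelian hF) fun hle => ?_⟩
  have h1 := hle (⊤ : Subgroup F) ⟨⟨fun u v => Subtype.ext (Subtype.ext
    (PGroupsBasic.comm_of_isMulCommutative hF.1 u.1.2 v.1.2))⟩⟩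
    fun u _ => Subtype.ext (by rw [SubgroupClass.coe_pow]; exact hF.2 _ u.2)
  rw [card_top] at h1
  have h2 := (Nat.pow_le_pow_iff_right (Fact.out : p.Prime).one_lt).1 (hFc.trans h1)
  omega

theorem unique_of_rank (hG : Cfsg.IsMinSimpleOddOrder G) {p : ℕ} [Fact p.Prime] {L : Subgroup G}
    (hL : L ≠ ⊤) (h : ¬ Cfsg.PRankLE p 2 L) : Cfsg.InUniqueMaximal L := by
  obtain ⟨F, hFL, -, hF⟩ := exists_unique_sub_of_rank hG h
  exact unique_mono hF hFL hL

theorem dvd_card_of_not_pRankLE {p k : ℕ} [Fact p.Prime] {L : Subgroup G}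
    (h : ¬ Cfsg.PRankLE p k L) : p ∣ Nat.card L := by
  obtain ⟨F, hFL, hF, hFc⟩ := BGUnique.pow_le_of_not_pRankLE h
  have hne : F ≠ ⊥ := by
    rintro rfl
    rw [card_bot] at hFc
    exact absurd hFc (Nat.one_lt_pow (Nat.succ_ne_zero k) (Fact.out : p.Prime).one_lt).not_ge
  exact (dvd_card_of_ne_bot (PGroupsBasic.isPGroup_of_isElementaryAbelian hF) hne).trans
    (card_dvd_of_le hFL)

theorem pRankLE_of_isMaxP {p : ℕ} [Fact p.Prime] {X P : Subgroup G}
    (hP : IsMaxP p P X) (h : ¬ Cfsg.PRankLE p 2 X) :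
    ¬ Cfsg.PRankLE p 2 P := fun hle => h (BGUnique.pRankLE_of_sylow_le hP hle)

/-! ### Maximal subgroups -/

section maximal

variable (hG : Cfsg.IsMinSimpleOddOrder G)
include hG

theorem coatom_ne_bot {M : Subgroup G} (hM : IsCoatom M) : M ≠ ⊥ := by
  rintro rfl
  haveI := hG.2.1
  have hcyc : IsCyclic G := by
    obtain ⟨g, hg⟩ := exists_ne (1 : G)
    refine isCyclic_iff_exists_zpowers_eq_top.2 ⟨g, hM.2 _ (bot_lt_iff_ne_bot.2 fun h => hg ?_)⟩
    exact zpowers_eq_bot.1 h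
  obtain ⟨g, hg⟩ := hcyc.exists_generator
  exact hG.2.2.1 ⟨⟨fun a b => by
    obtain ⟨i, rfl⟩ := mem_zpowers_iff.1 (hg a)
    obtain ⟨j, rfl⟩ := mem_zpowers_iff.1 (hg b)
    rw [← zpow_add, add_comm, zpow_add]⟩⟩

theorem normalizer_coatom {M : Subgroup G} (hM : IsCoatom M) : normalizer (M : Set G) = M :=
  normalizer_le_of_coatom hG hM (coatom_ne_bot hG hM) le_rfl le_normalizer

theorem mem_of_conj_eq {M : Subgroup G} (hM : IsCoatom M) {g : G}
    (h : MulAut.conj g • M = M) : g ∈ M := by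
  rw [← normalizer_coatom hG hM, mem_normalizer_iff]
  intro x
  conv_rhs => rw [← h]
  exact (smul_mem_pointwise_smul_iff (a := MulAut.conj g) (S := M) (x := x)).symm

theorem normalizer_ne_top' {X : Subgroup G} (hX : X ≠ ⊥) (hX' : X ≠ ⊤) :
    normalizer (X : Set G) ≠ ⊤ := BGTransitivity.normalizer_ne_top hG hX hX'

theorem commutator_eq_top : commutator G = ⊤ := by
  haveI := hG.2.1
  rcases (inferInstance : (commutator G).Normal).eq_bot_or_eq_top with h | h
  · refine absurd ⟨⟨fun a b => ?_⟩⟩ hG.2.2.1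
    have h1 : ⁅a, b⁆ ∈ commutator G :=
      commutator_mem_commutator (mem_top a) (mem_top b)
    rw [h, mem_bot] at h1
    exact commutatorElement_eq_one_iff_mul_comm.1 h1
  · exact h

end maximal

/-! ### Conjugates -/

omit [Finite G] in
theorem conj_le_normalizer {X : Subgroup G} {g : G} (hg : g ∈ normalizer (X : Set G)) :
    MulAut.conj g • X = X :=
  BGTransitivity.conj_smul_of_mem_normalizer hg

omit [Finite G] in
theorem isMaxP_conj {p : ℕ} {P M : Subgroup G} (g : G) (h : IsMaxP p P M) :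
    IsMaxP p (MulAut.conj g • P) (MulAut.conj g • M) := by
  refine ⟨pointwise_smul_le_pointwise_smul_iff.2 h.le, h.isPGroup.map _, fun Q hPQ hQM hQ => ?_⟩
  have h1 := h.eq_of_le ((MulAut.conj g)⁻¹ • Q) (pointwise_smul_subset_iff.1 hPQ) ?_ (hQ.map _)
  · rw [← h1, smul_inv_smul]
  · exact pointwise_smul_le_pointwise_smul_iff (a := MulAut.conj g).1 (by rwa [smul_inv_smul])

theorem isMaxP_card {p : ℕ} [Fact p.Prime] {P Q M : Subgroup G} (hP : IsMaxP p P M)
    (hQ : IsMaxP p Q M) : Nat.card P = Nat.card Q := by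
  obtain ⟨S, rfl⟩ := hP.exists_sylow
  obtain ⟨T, rfl⟩ := hQ.exists_sylow
  rw [card_map_of_injective M.subtype_injective, card_map_of_injective M.subtype_injective]
  exact Nat.card_congr (S.equiv T).toEquiv

theorem exists_conj_maxP {p : ℕ} [Fact p.Prime] {P Q M : Subgroup G} (hP : IsMaxP p P M)
    (hQM : Q ≤ M) (hQ : IsPGroup p Q) : ∃ m ∈ M, MulAut.conj m • Q ≤ P := by
  obtain ⟨S, rfl⟩ := hP.exists_sylow
  obtain ⟨T, hT⟩ := (hQ.comap_of_injective M.subtype M.subtype_injective).exists_le_sylow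
  obtain ⟨m, hm⟩ := MulAction.exists_smul_eq M T S
  refine ⟨m, m.2, ?_⟩
  rintro x ⟨y, hy, rfl⟩
  refine ⟨m * ⟨y, hQM hy⟩ * m⁻¹, ?_, rfl⟩
  rw [← hm, Sylow.coe_subgroup_smul]
  exact ⟨⟨y, hQM hy⟩, hT hy, rfl⟩

/-! ### Sigma primes -/

section sigma

variable {p : ℕ} [hp : Fact p.Prime] {M : Subgroup G}

theorem normalizer_le_of_sigma (hp' : p ∈ Cfsg.sigma M) {P : Subgroup G} (hP : IsMaxP p P M) :
    normalizer (P : Set G) ≤ M := by
  obtain ⟨-, -, S, hS⟩ := hp'
  obtain ⟨T, rfl⟩ := hP.exists_sylow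
  obtain ⟨m, hm⟩ := MulAction.exists_smul_eq M S T
  have he : (T : Subgroup M).map M.subtype =
      MulAut.conj (m : G) • ((S : Subgroup M).map M.subtype) := by
    rw [← hm, Sylow.coe_subgroup_smul]
    ext x
    constructor
    · rintro ⟨_, ⟨y, hy, rfl⟩, rfl⟩
      exact ⟨y, ⟨y, hy, rfl⟩, rfl⟩
    · rintro ⟨_, ⟨y, hy, rfl⟩, rfl⟩
      exact ⟨_, ⟨y, hy, rfl⟩, rfl⟩
  rw [he]
  intro g hg
  have h1 : (m : G)⁻¹ * g * m ∈ normalizer (((S : Subgroup M).map M.subtype : Subgroup G) : Set G) := by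
    rw [mem_normalizer_iff] at hg ⊢
    intro x
    rw [← smul_mem_pointwise_smul_iff (a := MulAut.conj (m : G)) (x := x)]
    conv_rhs => rw [← smul_mem_pointwise_smul_iff (a := MulAut.conj (m : G))]
    rw [hg]
    simp [MulAut.smul_def, mul_assoc]
  have h2 := M.mul_mem (M.mul_mem m.2 (hS h1)) (M.inv_mem m.2)
  simpa [mul_assoc] using h2

theorem isMaxP_top_of_sigma (hp' : p ∈ Cfsg.sigma M) {P : Subgroup G} (hP : IsMaxP p P M) :
    IsMaxP p P ⊤ := by
  refine ⟨le_top, hP.isPGroup, fun Q hPQ _ hQ => by_contra fun hne => ?_⟩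
  have h1 := lt_inf_normalizer hQ (lt_of_le_of_ne hPQ (Ne.symm hne))
  exact h1.ne' (hP.eq_of_le _ h1.le (inf_le_right.trans (normalizer_le_of_sigma hp' hP))
    (hQ.to_le inf_le_left))

theorem alpha_subset_sigma (hG : Cfsg.IsMinSimpleOddOrder G) (hM : IsCoatom M)
    (h : p ∈ Cfsg.alpha M) : p ∈ Cfsg.sigma M := by
  refine ⟨hp.out, dvd_card_of_not_pRankLE h.2, default, ?_⟩
  have hmax := isMaxP_sylow M (default : Sylow p M)
  have hne : (((default : Sylow p M) : Subgroup M).map M.subtype : Subgroup G) ≠ ⊤ :=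
    fun ht => hM.1 (top_le_iff.1 (ht ▸ hmax.le))
  have hU := unique_of_rank hG hne (pRankLE_of_isMaxP hmax h.2)
  exact le_of_unique hU hM hmax.le le_normalizer (normalizer_ne_top' hG (unique_ne_bot hG hU) hne)

variable (hG : Cfsg.IsMinSimpleOddOrder G)
include hG

/-- `C(X)` is transitive on the conjugates of `M` containing the `p`-subgroup `X`, `p ∈ σ(M)`. -/
theorem conj_transitive (hM : IsCoatom M) (hp' : p ∈ Cfsg.sigma M) :
    ∀ (n : ℕ) (X : Subgroup G), Nat.card G - Nat.card X = n → IsPGroup p X → X ≠ ⊥ → ∀ a b : G,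
      X ≤ MulAut.conj a • M → X ≤ MulAut.conj b • M →
      ∃ c ∈ centralizer (X : Set G), MulAut.conj c • MulAut.conj a • M = MulAut.conj b • M := by
  intro n
  induction n using Nat.strong_induction_on with
  | _ n ih =>
  intro X hn hXp hX1 a b ha hb
  obtain ⟨P, hPM⟩ := exists_isMaxP_ge (isMaxP_sylow M (default : Sylow p M)).isPGroup
    (isMaxP_sylow M (default : Sylow p M)).le
  have hP := hPM.1
  have hPtop := isMaxP_top_of_sigma hp' hP
  -- the Sylow case
  by_cases hXtop : IsMaxP p X ⊤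
  · refine ⟨1, one_mem _, ?_⟩
    rw [map_one, one_smul]
    have hXa : IsMaxP p X (MulAut.conj a • M) :=
      ⟨ha, hXp, fun Q hXQ _ hQ => hXtop.eq_of_le Q hXQ le_top hQ⟩
    have hXb : IsMaxP p X (MulAut.conj b • M) :=
      ⟨hb, hXp, fun Q hXQ _ hQ => hXtop.eq_of_le Q hXQ le_top hQ⟩
    have hPa := isMaxP_conj a⁻¹ hXa
    have hPb := isMaxP_conj b⁻¹ hXb
    rw [map_inv, inv_smul_smul] at hPa hPb
    obtain ⟨m, hm, hmle⟩ := exists_conj_maxP hPb hPa.le hPa.isPGroup
    have heq : MulAut.conj m • ((MulAut.conj a)⁻¹ • X) = (MulAut.conj b)⁻¹ • X := by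
      refine Subgroup.eq_of_le_of_card_ge hmle ?_
      simp only [← map_inv, CoprimeSZ.card_conj_smul]
      exact le_rfl
    have h2 : MulAut.conj (b * m * a⁻¹) • X = X := by
      rw [map_mul, map_mul, mul_smul, mul_smul, map_inv, heq, smul_inv_smul]
    have h3 : b * m * a⁻¹ ∈ normalizer (X : Set G) := by
      rw [mem_normalizer_iff]
      intro x
      conv_rhs => rw [← h2]
      exact (smul_mem_pointwise_smul_iff (a := MulAut.conj (b * m * a⁻¹)) (S := X) (x := x)).symm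
    have h4 : b * m * a⁻¹ ∈ MulAut.conj a • M := by
      have hXa' := normalizer_le_of_sigma hp' hPa
      rw [mem_pointwise_smul_iff_inv_smul_mem]
      refine hXa' ?_
      rw [mem_normalizer_iff] at h3 ⊢
      intro x
      simp only [mem_pointwise_smul_iff_inv_smul_mem, inv_inv, MulAut.smul_def,
        ← map_inv, MulAut.conj_apply]
      rw [h3]
      group
    rw [mem_pointwise_smul_iff_inv_smul_mem, ← map_inv, MulAut.smul_def, MulAut.conj_apply] at h4
    have h5 : a⁻¹ * b * m ∈ M := by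
      convert h4 using 1; group
    have h6 : a⁻¹ * b ∈ M := by
      have := M.mul_mem h5 (M.inv_mem hm)
      simpa [mul_assoc] using this
    rw [show b = a * (a⁻¹ * b) by group, map_mul, mul_smul,
      conj_le_normalizer (le_normalizer h6)]
  -- the general case
  have hXne : X ≠ ⊤ := fun h => hM.1 (by
    have h1 : MulAut.conj a • M = ⊤ := top_le_iff.1 (h ▸ ha)
    exact (isCoatom_conj a hM).1 h1 |>.elim)
  have hL : normalizer (X : Set G) ≠ ⊤ := normalizer_ne_top' hG hX1 hXne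
  haveI := isSolvable_of_ne_top hG hL
  set L := normalizer (X : Set G) with hLdef
  -- every member gives a bigger p-subgroup of L
  have grow : ∀ d : G, X ≤ MulAut.conj d • M →
      ∃ Y : Subgroup G, X < Y ∧ IsPGroup p Y ∧ Y ≤ L ⊓ MulAut.conj d • M := by
    intro d hd
    obtain ⟨Q, hQ, hXQ⟩ := exists_isMaxP_ge hXp hd
    have hQt : IsMaxP p Q ⊤ := by
      have h1 := isMaxP_conj d⁻¹ hQ
      rw [map_inv, inv_smul_smul] at h1
      have h2 := isMaxP_conj d (isMaxP_top_of_sigma hp' h1)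
      rw [smul_inv_smul] at h2
      refine ⟨le_top, hQ.isPGroup, fun R hR _ hRp => h2.eq_of_le R hR ?_ hRp⟩
      exact fun r _ => mem_pointwise_smul_iff_inv_smul_mem.2 (mem_top _)
    have hlt : X < Q := lt_of_le_of_ne hXQ fun h => hXtop (h ▸ hQt)
    exact ⟨Q ⊓ normalizer (X : Set G), lt_inf_normalizer hQ.isPGroup hlt,
      hQ.isPGroup.to_le inf_le_left, le_inf inf_le_right (inf_le_left.trans hQ.le)⟩
  obtain ⟨Y₀, hY₀, hY₀p, hY₀L⟩ := grow a ha
  obtain ⟨R, hR, hY₀R⟩ := exists_isMaxP_ge hY₀p (hY₀L.trans inf_le_left)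
  have hXR : X < R := hY₀.trans_le hY₀R
  obtain ⟨h₀, -, hRh⟩ := exists_conj_maxP hPtop le_top hR.isPGroup
  have hR0 : R ≤ MulAut.conj h₀⁻¹ • M := by
    rw [map_inv]
    exact subset_pointwise_smul_iff.2 (by simpa using hRh.trans hP.le)
  have hlt_card : ∀ Y : Subgroup G, X < Y → Nat.card G - Nat.card Y < n := by
    intro Y hY
    have h1 := Set.ncard_lt_ncard (SetLike.coe_ssubset_coe.2 hY) (Set.toFinite _)
    have h2 := card_le_card_group Y
    rw [← Nat.card_coe_set_eq, ← Nat.card_coe_set_eq, SetLike.coe_sort_coe,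
      SetLike.coe_sort_coe] at h1
    omega
  -- the stabiliser covers L modulo C(X)
  have stab : ∀ l ∈ L, ∃ c ∈ centralizer (X : Set G),
      MulAut.conj c • MulAut.conj h₀⁻¹ • M = MulAut.conj l • MulAut.conj h₀⁻¹ • M := by
    intro l hl
    by_cases hr : Cfsg.PRankLE p 2 R
    · have hrL : Cfsg.PRankLE p 2 L := BGUnique.pRankLE_of_sylow_le hR hr
      have hpL : p ∣ Nat.card L := (dvd_card_of_ne_bot hXp hX1).trans (card_dvd_of_le le_normalizer)
      have hp2 : p ≠ 2 := prime_ne_two hG (hpL.trans (card_subgroup_dvd_card L))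
      obtain ⟨S, hS⟩ := hR.exists_sylow
      obtain ⟨ν, hν, o, ho, hno⟩ := PLengthOne.exists_normalizer_mul
        (BGRankTwo.pLengthLE_one hp2 (odd_card_subgroup hG L) hrL) S ⟨l, hl⟩
      have hνR : (ν : G) ∈ normalizer (R : Set G) := by
        rw [← hS]
        exact (le_normalizer_map L.subtype) ⟨ν, hν, rfl⟩
      have hRν : R ≤ MulAut.conj ((ν : G) * h₀⁻¹) • M := by
        rw [map_mul, mul_smul]
        refine le_trans (le_of_eq (conj_le_normalizer hνR).symm) ?_
        exact pointwise_smul_le_pointwise_smul_iff.2 hR0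
      obtain ⟨c, hc, hcc⟩ := ih _ (hlt_card R hXR) R rfl hR.isPGroup
        (ne_bot_of_le_ne_bot hX1 hXR.le) _ _ hR0 hRν
      have hoX : (o : G) ∈ centralizer (X : Set G) := by
        rw [mem_centralizer_iff]
        intro x hx
        have hXn : (X.subgroupOf L).Normal := normal_in_normalizer
        have hXc : X.subgroupOf L ≤ Cfsg.pCore p L :=
          HallCore.le_pCore (hXp.comap_of_injective _ L.subtype_injective)
        have := HallCore.commute_pCore_pPrimeCore (x := ⟨x, le_normalizer hx⟩) (hXc hx) ho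
        exact congrArg Subtype.val this.eq
      have hoν : (ν : G) * o * (ν : G)⁻¹ ∈ centralizer (X : Set G) := by
        rw [mem_centralizer_iff] at hoX ⊢
        intro x hx
        have hνX : (ν : G)⁻¹ * x * ν ∈ X := by
          simpa using (mem_normalizer_iff.1 (inv_mem ν.2) x).1 hx
        calc x * ((ν : G) * o * (ν : G)⁻¹) = ν * (((ν : G)⁻¹ * x * ν) * o) * (ν : G)⁻¹ := by group
          _ = ν * ((o : G) * ((ν : G)⁻¹ * x * ν)) * (ν : G)⁻¹ := by rw [hoX _ hνX]
          _ = (ν : G) * o * (ν : G)⁻¹ * x := by group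
      refine ⟨(ν : G) * o * (ν : G)⁻¹ * c,
        mul_mem hoν (centralizer_le hXR.le hc), ?_⟩
      have hl' : l = (ν : G) * o := (congrArg Subtype.val hno).symm
      rw [map_mul, mul_smul, hcc, ← mul_smul, ← map_mul, ← mul_smul, ← map_mul, hl']
      congr 2
      group
    · refine ⟨1, one_mem _, ?_⟩
      have hRne : R ≠ ⊤ := fun h => hL (top_le_iff.1 (h ▸ hR.le))
      have hle := le_of_unique (unique_of_rank hG hRne hr) (isCoatom_conj _ hM) hR0 hR.le hL
      rw [map_one, one_smul, conj_le_normalizer (le_normalizer (hle hl))]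
  -- every member is in the L-orbit of h₀⁻¹ • M
  have orbit : ∀ d : G, X ≤ MulAut.conj d • M → ∃ c ∈ centralizer (X : Set G),
      MulAut.conj c • MulAut.conj h₀⁻¹ • M = MulAut.conj d • M := by
    intro d hd
    obtain ⟨Y, hXY, hYp, hYle⟩ := grow d hd
    obtain ⟨l, hl, hlY⟩ := exists_conj_maxP hR (hYle.trans inf_le_left) hYp
    have hlX : MulAut.conj l • X = X := conj_le_normalizer hl
    have hXY' : X < MulAut.conj l • Y := by
      conv_lhs => rw [← hlX]
      exact lt_of_le_of_ne (pointwise_smul_le_pointwise_smul_iff.2 hXY.le)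
        fun h => hXY.ne (smul_left_cancel _ h)
    have hYd : MulAut.conj l • Y ≤ MulAut.conj (l * d) • M := by
      rw [map_mul, mul_smul]
      exact pointwise_smul_le_pointwise_smul_iff.2 (hYle.trans inf_le_right)
    obtain ⟨c, hc, hcc⟩ := ih _ (hlt_card _ hXY') _ rfl (hYp.map _)
      (ne_bot_of_le_ne_bot hX1 hXY'.le) _ _ (hlY.trans hR0) hYd
    have hl' : l⁻¹ * c ∈ L :=
      mul_mem (inv_mem hl) (centralizer_le_normalizer _ (centralizer_le hXY'.le hc))
    obtain ⟨c', hc', hcc'⟩ := stab _ hl'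
    refine ⟨c', hc', ?_⟩
    rw [hcc', map_mul, mul_smul, hcc, map_mul, mul_smul, map_inv, inv_smul_smul]
  obtain ⟨c₁, hc₁, h₁⟩ := orbit a ha
  obtain ⟨c₂, hc₂, h₂⟩ := orbit b hb
  refine ⟨c₂ * c₁⁻¹, mul_mem hc₂ (inv_mem hc₁), ?_⟩
  rw [← h₁, map_mul, mul_smul, map_inv, inv_smul_smul, h₂]

/-- BG 10.1 (a). -/
theorem fusion (hM : IsCoatom M) (hp' : p ∈ Cfsg.sigma M) {X : Subgroup G} (hXp : IsPGroup p X)
    (hX1 : X ≠ ⊥) (hXM : X ≤ M) {g : G} (hg : MulAut.conj g • X ≤ M) :
    ∃ m ∈ M, ∃ c ∈ centralizer (X : Set G), g = m * c := by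
  obtain ⟨c, hc, h⟩ := conj_transitive hG hM hp' _ X rfl hXp hX1 1 g⁻¹
    (by rw [map_one, one_smul]; exact hXM)
    (by rw [map_inv]; exact subset_pointwise_smul_iff.2 (by simpa using hg))
  rw [map_one, one_smul] at h
  refine ⟨g * c, mem_of_conj_eq hG hM ?_, c⁻¹, inv_mem hc, by group⟩
  rw [map_mul, mul_smul, h, ← mul_smul, ← map_mul, mul_inv_cancel, map_one, one_smul]

/-- BG 10.1 (d). -/
theorem normalizer_eq (hM : IsCoatom M) (hp' : p ∈ Cfsg.sigma M) {X : Subgroup G}
    (hXp : IsPGroup p X) (hX1 : X ≠ ⊥) (hXM : X ≤ M) :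
    normalizer (X : Set G) = (M ⊓ normalizer (X : Set G)) ⊔ centralizer (X : Set G) := by
  refine le_antisymm (fun n hn => ?_) (sup_le inf_le_right (centralizer_le_normalizer _))
  obtain ⟨m, hm, c, hc, rfl⟩ := fusion hG hM hp' hXp hX1 hXM
    (g := n) (le_of_eq_of_le (conj_le_normalizer hn) hXM)
  refine mul_mem_sup ⟨hm, ?_⟩ hc
  have := mul_mem hn (inv_mem (centralizer_le_normalizer (X : Set G) hc))
  simpa using this

/-- Sylow subgroups for sigma primes lie in the derived subgroup. -/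
theorem le_commutator (hM : IsCoatom M) (hp' : p ∈ Cfsg.sigma M) {P : Subgroup G}
    (hP : IsMaxP p P M) : P ≤ ⁅M, M⁆ := by
  obtain ⟨S, hS⟩ := (isMaxP_top_of_sigma hp' hP).exists_sylow_top
  have h2 : P.focalSubgroup ≤ ⁅P, M⁆ := by
    refine FocalControl.focalSubgroup_le_commutator_of_control P M fun x hx u hu => ?_
    by_cases hx1 : x = 1
    · exact ⟨1, one_mem _, by simp [hx1]⟩
    obtain ⟨m, hm, c, hc, rfl⟩ := fusion hG hM hp' (X := zpowers x)
      (hP.isPGroup.to_le (zpowers_le.2 hx)) (by simpa using hx1) (zpowers_le.2 (hP.le hx)) (g := u)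
      (by
        rintro y ⟨z, hz, rfl⟩
        obtain ⟨i, rfl⟩ := mem_zpowers_iff.1 (show z ∈ zpowers x from hz)
        have := zpow_mem (hP.le hu) i
        rw [conj_zpow] at this
        exact this)
    refine ⟨m, hm, ?_⟩
    have := (mem_centralizer_iff.1 hc) x (mem_zpowers x)
    calc m * x * m⁻¹ = m * (c * x * c⁻¹) * m⁻¹ := by rw [← this]; group
      _ = m * c * x * (m * c)⁻¹ := by group
  refine le_trans ?_ (h2.trans (commutator_mono hP.le le_rfl))
  rw [← hS, ← Subgroup.commutator_inf_eq_focalSubgroup (P := S), commutator_eq_top hG]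
  exact le_inf le_top le_rfl

end sigma

end Cfsg.Agent.BGSigma
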