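import Mathlib
import Cfsg.Prelude.Def_Transfer

/-!
# Coprime action inside a group, as needed for signalizer functors

Fixed points in invariant cosets, invariant Sylow subgroups, and generation of a `p'`-group by the
centralizers of the hyperplanes of an elementary abelian `p`-group acting on it.
-/

set_option autoImplicit false

namespace Cfsg.Agent.SignalizerCoprime

variable {G : Type*} [Group G]

theorem mem_normalizer_conj {X : Subgroup G} {a x : G}
    (ha : a ∈ Subgroup.normalizer (X : Set G)) (hx : x ∈ X) : a * x * a⁻¹ ∈ X :=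
  (Subgroup.mem_normalizer_iff.1 ha x).1 hx

theorem le_normalizer_of_forall [Finite G] {A X : Subgroup G}
    (h : ∀ a ∈ A, ∀ x ∈ X, a * x * a⁻¹ ∈ X) : A ≤ Subgroup.normalizer (X : Set G) := by
  intro a ha
  refine Subgroup.mem_normalizer_iff.2 fun x => ⟨h a ha x, fun hx => ?_⟩
  simpa [mul_assoc] using h a⁻¹ (inv_mem ha) _ hx

theorem forall_conj_mem {A X : Subgroup G} (h : A ≤ Subgroup.normalizer (X : Set G)) :
    ∀ a ∈ A, ∀ x ∈ X, a * x * a⁻¹ ∈ X :=
  fun _ ha _ hx => mem_normalizer_conj (h ha) hx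

theorem centralizer_le_normalizer (X : Subgroup G) :
    Subgroup.centralizer (X : Set G) ≤ Subgroup.normalizer (X : Set G) := by
  intro g hg
  have key : ∀ x ∈ X, g * x * g⁻¹ = x := fun x hx => by
    rw [← hg x hx, mul_inv_cancel_right]
  refine Subgroup.mem_normalizer_iff.2 fun x => ⟨fun hx => ?_, fun hx => ?_⟩
  · rwa [key x hx]
  · have h1 := key _ hx
    have h2 : g * x * g⁻¹ = x := by simpa using h1
    rwa [h2] at hx

theorem le_normalizer_inf {A X Y : Subgroup G} (hX : A ≤ Subgroup.normalizer (X : Set G))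
    (hY : A ≤ Subgroup.normalizer (Y : Set G)) :
    A ≤ Subgroup.normalizer ((X ⊓ Y : Subgroup G) : Set G) := by
  intro a ha
  refine Subgroup.mem_normalizer_iff.2 fun x => ?_
  simp only [Subgroup.mem_inf, Subgroup.mem_normalizer_iff.1 (hX ha) x,
    Subgroup.mem_normalizer_iff.1 (hY ha) x]

theorem le_normalizer_sup [Finite G] {A X Y : Subgroup G}
    (hX : A ≤ Subgroup.normalizer (X : Set G)) (hY : A ≤ Subgroup.normalizer (Y : Set G)) :
    A ≤ Subgroup.normalizer ((X ⊔ Y : Subgroup G) : Set G) := by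
  refine le_normalizer_of_forall fun a ha x hx => ?_
  have h : X ⊔ Y ≤ (X ⊔ Y).comap (MulAut.conj a).toMonoidHom :=
    sup_le (fun z hz => Subgroup.mem_sup_left (mem_normalizer_conj (hX ha) hz))
      (fun z hz => Subgroup.mem_sup_right (mem_normalizer_conj (hY ha) hz))
  exact h hx

theorem le_normalizer_iSup [Finite G] {ι : Sort*} {A : Subgroup G} {X : ι → Subgroup G}
    (hX : ∀ i, A ≤ Subgroup.normalizer (X i : Set G)) :
    A ≤ Subgroup.normalizer ((⨆ i, X i : Subgroup G) : Set G) := by
  refine le_normalizer_of_forall fun a ha x hx => ?_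
  have h : (⨆ i, X i) ≤ (⨆ i, X i).comap (MulAut.conj a).toMonoidHom :=
    iSup_le fun i z hz => Subgroup.mem_iSup_of_mem i (mem_normalizer_conj (hX i ha) hz)
  exact h hx

theorem le_normalizer_commutator [Finite G] {A X Y : Subgroup G}
    (hX : A ≤ Subgroup.normalizer (X : Set G)) (hY : A ≤ Subgroup.normalizer (Y : Set G)) :
    A ≤ Subgroup.normalizer ((⁅X, Y⁆ : Subgroup G) : Set G) := by
  refine le_normalizer_of_forall fun a ha x hx => ?_
  have h : (⁅X, Y⁆ : Subgroup G) ≤ (⁅X, Y⁆ : Subgroup G).comap (MulAut.conj a).toMonoidHom := by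
    rw [Subgroup.commutator_le]
    intro g₁ h₁ g₂ h₂
    have := Subgroup.commutator_mem_commutator (mem_normalizer_conj (hX ha) h₁)
      (mem_normalizer_conj (hY ha) h₂)
    simpa [commutatorElement_def, mul_assoc] using this
  exact h hx

theorem le_normalizer_centralizer {A X : Subgroup G} (hX : A ≤ Subgroup.normalizer (X : Set G)) :
    A ≤ Subgroup.normalizer (Subgroup.centralizer (X : Set G) : Set G) := by
  intro a ha
  refine Subgroup.mem_normalizer_iff.2 fun x => ⟨fun hx y hy => ?_, fun hx y hy => ?_⟩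
  · have := hx _ ((Subgroup.mem_normalizer_iff''.1 (hX ha) y).1 hy)
    calc y * (a * x * a⁻¹) = a * ((a⁻¹ * y * a) * x) * a⁻¹ := by group
      _ = a * (x * (a⁻¹ * y * a)) * a⁻¹ := by rw [this]
      _ = a * x * a⁻¹ * y := by group
  · have := hx _ (mem_normalizer_conj (hX ha) hy)
    calc y * x = a⁻¹ * (a * y * a⁻¹ * (a * x * a⁻¹)) * a := by group
      _ = a⁻¹ * (a * x * a⁻¹ * (a * y * a⁻¹)) * a := by rw [this]
      _ = x * y := by group

/-- The conjugation action of a subgroup on a set of subgroups stable under it. -/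
@[reducible]
def conjSubgroupAction (A : Subgroup G) (p : Subgroup G → Prop)
    (hp : ∀ a ∈ A, ∀ R, p R → p (R.map (MulAut.conj a).toMonoidHom)) :
    MulAction ↥A {R : Subgroup G // p R} where
  smul a R := ⟨R.1.map (MulAut.conj (a : G)).toMonoidHom, hp a a.2 _ R.2⟩
  one_smul R := by
    apply Subtype.ext
    change R.1.map (MulAut.conj ((1 : ↥A) : G)).toMonoidHom = R.1
    ext x
    simp [Subgroup.mem_map]
  mul_smul a b R := by
    apply Subtype.ext
    change R.1.map (MulAut.conj ((a * b : ↥A) : G)).toMonoidHom =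
      (R.1.map (MulAut.conj (b : G)).toMonoidHom).map (MulAut.conj (a : G)).toMonoidHom
    rw [Subgroup.map_map]
    congr 1
    ext x
    simp [mul_assoc]

variable [Finite G] {p : ℕ} [hp : Fact p.Prime]

/-- Fixed points in invariant cosets: if the `p`-group `P` normalizes the `p'`-subgroup `K` and
fixes the coset `Kx`, it centralizes some element of it. -/
theorem exists_fixed_in_coset {P K : Subgroup G} (hP : IsPGroup p P)
    (hK : ¬ p ∣ Nat.card K) (hn : P ≤ Subgroup.normalizer (K : Set G)) {x : G}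
    (hx : ∀ g ∈ P, g * x * g⁻¹ * x⁻¹ ∈ K) :
    ∃ y ∈ K, ∀ g ∈ P, g * (y * x) = y * x * g := by
  let S := {z : G // z * x⁻¹ ∈ K}
  have hcl : ∀ g ∈ P, ∀ z : G, z * x⁻¹ ∈ K → g * z * g⁻¹ * x⁻¹ ∈ K := by
    intro g hg z hz
    have := mul_mem (mem_normalizer_conj (hn hg) hz) (hx g hg)
    simpa [mul_assoc] using this
  letI : MulAction ↥P S :=
    { smul := fun g z => ⟨(g : G) * z.1 * (g : G)⁻¹, hcl g g.2 z.1 z.2⟩
      one_smul := fun z => Subtype.ext (by
        change ((1 : ↥P) : G) * z.1 * ((1 : ↥P) : G)⁻¹ = z.1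
        simp)
      mul_smul := fun g h z => Subtype.ext (by
        change ((g * h : ↥P) : G) * z.1 * ((g * h : ↥P) : G)⁻¹ =
          (g : G) * ((h : G) * z.1 * (h : G)⁻¹) * (g : G)⁻¹
        simp [mul_assoc]) }
  have hcard : Nat.card S = Nat.card K :=
    Nat.card_congr
      { toFun := fun z => ⟨z.1 * x⁻¹, z.2⟩
        invFun := fun k => ⟨k.1 * x, by simpa using k.2⟩
        left_inv := fun z => by simp
        right_inv := fun k => by simp }
  obtain ⟨z, hz⟩ := hP.nonempty_fixed_point_of_prime_not_dvd_card S (hcard ▸ hK)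
  refine ⟨z.1 * x⁻¹, z.2, fun g hg => ?_⟩
  have h1 : g * z.1 * g⁻¹ = z.1 := congrArg Subtype.val (hz ⟨g, hg⟩)
  rw [inv_mul_cancel_right]
  exact mul_inv_eq_iff_eq_mul.1 h1

theorem isPGroup_zpowers {a : G} (ha : a ^ p = 1) : IsPGroup p ↥(Subgroup.zpowers a) := by
  rcases (Nat.dvd_prime hp.out).1 (orderOf_dvd_of_pow_eq_one ha) with h | h
  · exact IsPGroup.of_card (n := 0) (by rw [Nat.card_zpowers, h, pow_zero])
  · exact IsPGroup.of_card (n := 1) (by rw [Nat.card_zpowers, h, pow_one])

theorem isPGroup_of_elementaryAbelian {A : Subgroup G} (hA : Cfsg.IsElementaryAbelian p A) :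
    IsPGroup p A := fun a => ⟨1, Subtype.ext (by simpa using hA.2 a a.2)⟩

omit [Finite G] hp in
theorem elementaryAbelian_of_le {A B : Subgroup G} (hA : Cfsg.IsElementaryAbelian p A)
    (h : B ≤ A) : Cfsg.IsElementaryAbelian p B := by
  haveI := hA.1
  refine ⟨⟨⟨fun a b => Subtype.ext ?_⟩⟩, fun a ha => hA.2 a (h ha)⟩
  have h2 := congrArg Subtype.val (mul_comm' (⟨a.1, h a.2⟩ : ↥A) ⟨b.1, h b.2⟩)
  exact h2

omit [Finite G] hp in
theorem comm_of_mem {A : Subgroup G} (hA : Cfsg.IsElementaryAbelian p A) {a b : G} (ha : a ∈ A)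
    (hb : b ∈ A) : a * b = b * a := by
  haveI := hA.1
  exact congrArg Subtype.val (mul_comm' (⟨a, ha⟩ : ↥A) ⟨b, hb⟩)

theorem card_zpowers_of_mem {A : Subgroup G} (hA : Cfsg.IsElementaryAbelian p A) {a : G}
    (ha : a ∈ A) (ha1 : a ≠ 1) : Nat.card (Subgroup.zpowers a) = p := by
  rw [Nat.card_zpowers]
  exact orderOf_eq_prime (hA.2 a ha) ha1

omit hp in
/-- The order of a join is at most the product, when one factor normalizes the other. -/
theorem card_sup_dvd_mul {X Y : Subgroup G} (h : Y ≤ Subgroup.normalizer (X : Set G)) :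
    Nat.card ↥(X ⊔ Y) ∣ Nat.card X * Nat.card Y := by
  set K := X ⊔ Y
  have hKN : K ≤ Subgroup.normalizer (X : Set G) := sup_le Subgroup.le_normalizer h
  haveI hn : (X.subgroupOf K).Normal :=
    Subgroup.normal_subgroupOf_of_le_normalizer hKN
  have hsurj : Function.Surjective
      ((QuotientGroup.mk' (X.subgroupOf K)).comp (Subgroup.inclusion (le_sup_right : Y ≤ K))) := by
    intro q
    obtain ⟨⟨k, hk⟩, rfl⟩ := QuotientGroup.mk'_surjective _ q
    have hk' : k ∈ (↑(Y ⊔ X) : Set G) := by rw [sup_comm]; exact hk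
    rw [Subgroup.coe_mul_of_left_le_normalizer_right Y X h] at hk'
    obtain ⟨y, hy, x, hx, rfl⟩ := Set.mem_mul.1 hk'
    refine ⟨⟨y, hy⟩, ?_⟩
    rw [MonoidHom.comp_apply, QuotientGroup.mk'_apply, QuotientGroup.mk'_apply, QuotientGroup.eq,
      Subgroup.mem_subgroupOf]
    simpa using hx
  rw [← Subgroup.card_mul_index (X.subgroupOf K),
    Nat.card_congr (Subgroup.subgroupOfEquivOfLe (le_sup_left : X ≤ K)).toEquiv]
  exact mul_dvd_mul_left _ (Subgroup.card_dvd_of_surjective _ hsurj)

/-- Among the `q`-Sylow subgroups of an invariant `p'`-subgroup one is invariant. -/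
theorem exists_invariant_sylow {A X : Subgroup G} (hA : IsPGroup p A)
    (hX : A ≤ Subgroup.normalizer (X : Set G)) (hXp : ¬ p ∣ Nat.card X) (q : ℕ) [Fact q.Prime] :
    ∃ R : Subgroup G, R ≤ X ∧ Nat.card R = q ^ (Nat.card X).factorization q ∧
      A ≤ Subgroup.normalizer (R : Set G) := by
  let P : Subgroup G → Prop := fun R => R ≤ X ∧ Nat.card R = q ^ (Nat.card X).factorization q
  have hP : ∀ a ∈ A, ∀ R, P R → P (R.map (MulAut.conj a).toMonoidHom) := by
    intro a ha R hR
    refine ⟨?_, ?_⟩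
    · rintro _ ⟨x, hx, rfl⟩
      exact mem_normalizer_conj (hX ha) (hR.1 hx)
    · rw [Subgroup.card_map_of_injective (MulAut.conj a).injective]
      exact hR.2
  letI := conjSubgroupAction A P hP
  let e : Sylow q ↥X ≃ {R : Subgroup G // P R} :=
    { toFun := fun S => ⟨(S : Subgroup ↥X).map X.subtype, Subgroup.map_subtype_le _, by
        rw [Subgroup.card_map_of_injective X.subtype_injective]
        exact S.card_eq_multiplicity⟩
      invFun := fun R => Sylow.ofCard (R.1.subgroupOf X) (by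
        rw [Nat.card_congr (Subgroup.subgroupOfEquivOfLe R.2.1).toEquiv]
        exact R.2.2)
      left_inv := fun S => Sylow.ext (by
        rw [Sylow.coe_ofCard, Subgroup.subgroupOf,
          Subgroup.comap_map_eq_self_of_injective X.subtype_injective])
      right_inv := fun R => Subtype.ext (by
        change ((Sylow.ofCard (R.1.subgroupOf X) _ : Sylow q ↥X) : Subgroup ↥X).map X.subtype = R.1
        rw [Sylow.coe_ofCard, Subgroup.map_subgroupOf_eq_of_le R.2.1]) }
  have hnd : ¬ p ∣ Nat.card {R : Subgroup G // P R} := by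
    rw [← Nat.card_congr e]
    intro h
    exact hXp (h.trans (((default : Sylow q ↥X).card_dvd_index).trans (Subgroup.index_dvd_card _)))
  obtain ⟨R, hR⟩ := hA.nonempty_fixed_point_of_prime_not_dvd_card _ hnd
  refine ⟨R.1, R.2.1, R.2.2, le_normalizer_of_forall fun a ha x hx => ?_⟩
  have h1 : R.1.map (MulAut.conj a).toMonoidHom = R.1 := congrArg Subtype.val (hR ⟨a, ha⟩)
  rw [← h1]
  exact ⟨x, hx, rfl⟩

/-- A `p'`-subgroup is generated by invariant Sylow subgroups. -/
theorem le_of_invariant_sylow_le {A X S : Subgroup G} (hA : IsPGroup p A)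
    (hX : A ≤ Subgroup.normalizer (X : Set G)) (hXp : ¬ p ∣ Nat.card X)
    (h : ∀ R : Subgroup G, R ≤ X → A ≤ Subgroup.normalizer (R : Set G) →
      (∃ q : ℕ, q.Prime ∧ IsPGroup q R) → R ≤ S) : X ≤ S := by
  suffices hsuff : Nat.card X ∣ Nat.card ↥(X ⊓ S) by
    exact inf_eq_left.1 (Subgroup.eq_of_le_of_card_ge inf_le_left
      (Nat.le_of_dvd Nat.card_pos hsuff))
  rw [← Nat.factorization_prime_le_iff_dvd Nat.card_pos.ne' Nat.card_pos.ne']
  intro q hq
  haveI := Fact.mk hq
  obtain ⟨R, hRX, hRc, hRA⟩ := exists_invariant_sylow hA hX hXp q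
  have hle : R ≤ X ⊓ S := le_inf hRX (h R hRX hRA ⟨q, hq, IsPGroup.of_card hRc⟩)
  have hdvd := Subgroup.card_dvd_of_le hle
  rw [hRc] at hdvd
  exact (Nat.Prime.pow_dvd_iff_le_factorization hq Nat.card_pos.ne').1 hdvd

/-! ### Averaging and generation -/

omit [Finite G] hp in
/-- In a commutative group, `v ^ p` is a product of sums over the lines of `ZMod p × ZMod p`. -/
theorem averaging {p : ℕ} [Fact p.Prime] {V : Type*} [CommGroup V] (f : ZMod p → ZMod p → V) :
    (f 0 0) ^ p * ∏ i : ZMod p, ∏ k : ZMod p, f i k =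
      (∏ k : ZMod p, f 0 k) * ∏ j : ZMod p, ∏ i : ZMod p, f i (i * j) := by
  classical
  rw [Finset.prod_comm (f := fun j i => f i (i * j)),
    ← Finset.mul_prod_erase Finset.univ (fun i => ∏ k, f i k) (Finset.mem_univ (0 : ZMod p)),
    ← Finset.mul_prod_erase Finset.univ (fun i => ∏ j, f i (i * j)) (Finset.mem_univ (0 : ZMod p))]
  have h0 : ∏ j : ZMod p, f 0 (0 * j) = (f 0 0) ^ p := by simp
  have h1 : ∀ i ∈ Finset.univ.erase (0 : ZMod p),
      ∏ j : ZMod p, f i (i * j) = ∏ k : ZMod p, f i k := by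
    intro i hi
    exact Fintype.prod_equiv (Equiv.mulLeft₀ i (Finset.ne_of_mem_erase hi)) _ _ fun _ => rfl
  rw [h0, Finset.prod_congr rfl h1]
  exact mul_left_comm _ _ _

/-- For commuting `b₁`, `b₂` of order dividing `p` generating a group of order `p²`, an invariant
solvable `p'`-subgroup is generated by its centralizers of the non-identity elements
`b₁ ^ i * b₂ ^ j`. -/
theorem le_of_two_gen_solvable {b1 b2 : G} (h1 : b1 ^ p = 1) (h2 : b2 ^ p = 1)
    (h12 : b1 * b2 = b2 * b1) (hb2 : b2 ≠ 1) (hind : b1 ∉ Subgroup.zpowers b2) (S : Subgroup G) :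
    ∀ X : Subgroup G, b1 ∈ Subgroup.normalizer (X : Set G) → b2 ∈ Subgroup.normalizer (X : Set G) →
      ¬ p ∣ Nat.card X → Group.IsSolvable ↥X →
      (∀ e ∈ Subgroup.zpowers b1 ⊔ Subgroup.zpowers b2, e ≠ 1 →
        X ⊓ Subgroup.centralizer {e} ≤ S) → X ≤ S := by
  intro X
  induction' hn : Nat.card X using Nat.strong_induction_on with n ih generalizing X
  intro hb1X hb2X hXp hXs hS
  subst hn
  by_cases hX1 : X = ⊥
  · exact hX1 ▸ bot_le
  set E := Subgroup.zpowers b1 ⊔ Subgroup.zpowers b2 with hE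
  have hEX : E ≤ Subgroup.normalizer (X : Set G) :=
    sup_le (Subgroup.zpowers_le.2 hb1X) (Subgroup.zpowers_le.2 hb2X)
  set D : Subgroup G := ⁅X, X⁆ with hD
  have hDX : D ≤ X := by
    rw [hD, Subgroup.commutator_le]
    intro g₁ hg₁ g₂ hg₂
    rw [commutatorElement_def]
    exact mul_mem (mul_mem (mul_mem hg₁ hg₂) (inv_mem hg₁)) (inv_mem hg₂)
  have hmapD : (commutator ↥X).map X.subtype = D := X.map_subtype_commutator
  have hDlt : Nat.card D < Nat.card X := by
    haveI : Nontrivial ↥X := (Subgroup.nontrivial_iff_ne_bot X).2 hX1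
    rw [← hmapD, Subgroup.card_map_of_injective X.subtype_injective]
    refine lt_of_le_of_ne (Subgroup.card_le_card_group _) fun heq => ?_
    exact ne_of_lt (Group.IsSolvable.commutator_lt_top_of_nontrivial ↥X)
      (Subgroup.card_eq_iff_eq_top _ |>.1 heq)
  have hEN : E ≤ Subgroup.normalizer (D : Set G) := le_normalizer_commutator hEX hEX
  have hDp : ¬ p ∣ Nat.card D := fun h => hXp (h.trans (Subgroup.card_dvd_of_le hDX))
  have hDS : D ≤ S :=
    ih _ hDlt D rfl (hEN (Subgroup.mem_sup_left (Subgroup.mem_zpowers b1)))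
      (hEN (Subgroup.mem_sup_right (Subgroup.mem_zpowers b2))) hDp
      (solvable_of_solvable_injective (Subgroup.inclusion_injective hDX))
      fun e he he1 => (inf_le_inf_right _ hDX).trans (hS e he he1)
  intro x hx
  let ab : ↥X →* Abelianization ↥X := Abelianization.of
  let cj : ↥E → G → G := fun g y => (g : G) * y * (g : G)⁻¹
  let φ : (g : G) → g ∈ E → Abelianization ↥X := fun g hg =>
    ab ⟨g * x * g⁻¹, mem_normalizer_conj (hEX hg) hx⟩
  have hmem : ∀ i k : ℕ, b1 ^ i * b2 ^ k ∈ E := fun i k =>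
    mul_mem (Subgroup.mem_sup_left (pow_mem (Subgroup.mem_zpowers _) i))
      (Subgroup.mem_sup_right (pow_mem (Subgroup.mem_zpowers _) k))
  let f : ZMod p → ZMod p → Abelianization ↥X := fun i k => φ _ (hmem i.val k.val)
  -- the endomorphism induced by an element of `E`
  have hconj : ∀ g ∈ E, ∃ T : Abelianization ↥X →* Abelianization ↥X,
      ∀ y : ↥X, ∀ h : g * (y : G) * g⁻¹ ∈ X, T (ab y) = ab ⟨g * (y : G) * g⁻¹, h⟩ := by
    intro g hg
    let θ : ↥X →* ↥X :=
      { toFun := fun y => ⟨g * (y : G) * g⁻¹, mem_normalizer_conj (hEX hg) y.2⟩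
        map_one' := by simp
        map_mul' := fun a b => by simp [mul_assoc] }
    exact ⟨Abelianization.lift (ab.comp θ), fun y h => by
      change Abelianization.lift (ab.comp θ) (Abelianization.of y) = _
      rw [Abelianization.lift_apply_of]
      rfl⟩
  let Simg : Subgroup (Abelianization ↥X) := (S.subgroupOf X).map ab
  -- fixed points of a single element lift
  have hlift : ∀ e ∈ E, e ≠ 1 → ∀ y : ↥X,
      (∀ h : e * (y : G) * e⁻¹ ∈ X, ab ⟨e * (y : G) * e⁻¹, h⟩ = ab y) → ab y ∈ Simg := by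
    intro e he he1 y hy
    have hep : e ^ p = 1 := by
      have hcomm : Commute b1 b2 := h12
      have hle : E ≤ (Subgroup.zpowers b1 ⊔ Subgroup.zpowers b2) := le_rfl
      have hcl : ∀ z ∈ E, z ^ p = 1 ∧ Commute z b1 ∧ Commute z b2 := by
        intro z hz
        have hz' : z ∈ (↑(Subgroup.zpowers b1 ⊔ Subgroup.zpowers b2) : Set G) := hle hz
        rw [Subgroup.coe_mul_of_left_le_normalizer_right] at hz'
        · obtain ⟨u, ⟨i, rfl⟩, w, ⟨j, rfl⟩, rfl⟩ := Set.mem_mul.1 hz'
          refine ⟨?_, ?_, ?_⟩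
          · rw [((hcomm.zpow_zpow i j)).mul_pow, ← zpow_natCast, ← zpow_natCast, ← zpow_mul,
              ← zpow_mul, mul_comm i, mul_comm j, zpow_mul, zpow_mul, zpow_natCast, zpow_natCast,
              h1, h2, one_zpow, one_zpow, one_mul]
          · exact (Commute.zpow_self b1 i).mul_left (hcomm.symm.zpow_left j)
          · exact (hcomm.zpow_left i).mul_left (Commute.zpow_self b2 j)
        · refine Subgroup.zpowers_le.2 (Subgroup.mem_normalizer_iff.2 fun z => ?_)
          constructor
          · rintro ⟨j, rfl⟩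
            refine ⟨j, ?_⟩
            simp [(hcomm.zpow_right j).eq]
          · rintro ⟨j, hj⟩
            refine ⟨j, ?_⟩
            have hz : z = b1⁻¹ * b2 ^ j * b1 := by
              simp only at hj
              rw [hj]; group
            simp [hz, mul_assoc, (hcomm.zpow_right j).eq.symm]
      exact (hcl e he).1
    have hP := isPGroup_zpowers hep
    have hfix : ∀ g ∈ Subgroup.zpowers e, g * (y : G) * g⁻¹ * (y : G)⁻¹ ∈ D := by
      intro g hg
      have hstab : ∀ n : ℕ, e ^ n * (y : G) * (e ^ n)⁻¹ * (y : G)⁻¹ ∈ D := by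
        intro n
        induction n with
        | zero => simp
        | succ n ihn =>
          have hy' : e * (y : G) * e⁻¹ * (y : G)⁻¹ ∈ D := by
            have hmm := hy (mem_normalizer_conj (hEX he) y.2)
            have hmem' : (⟨e * (y : G) * e⁻¹, mem_normalizer_conj (hEX he) y.2⟩ : ↥X) * y⁻¹ ∈
                commutator ↥X := by
              rw [← Abelianization.ker_of, MonoidHom.mem_ker, map_mul, map_inv]
              exact mul_inv_eq_one.2 hmm
            rw [← hmapD]
            exact ⟨_, hmem', rfl⟩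
          have := mul_mem (mem_normalizer_conj (hEN he) ihn) hy'
          simpa [pow_succ', mul_assoc] using this
      obtain ⟨n, rfl⟩ := (mem_powers_iff_mem_zpowers.2 hg)
      exact hstab n
    obtain ⟨d, hd, hd'⟩ := exists_fixed_in_coset hP hDp
      ((Subgroup.zpowers_le.2 he).trans hEN) hfix
    refine ⟨⟨d * (y : G), mul_mem (hDX hd) y.2⟩, ?_, ?_⟩
    · exact hS e he he1 ⟨mul_mem (hDX hd) y.2, Subgroup.mem_centralizer_singleton_iff.2
        (hd' e (Subgroup.mem_zpowers e)).symm⟩
    · rw [← hmapD] at hd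
      obtain ⟨d', hd'c, rfl⟩ := hd
      have : ab d' = 1 := by
        rw [← MonoidHom.mem_ker, Abelianization.ker_of]
        exact hd'c
      calc ab ⟨X.subtype d' * (y : G), _⟩ = ab (d' * y) := rfl
        _ = ab y := by rw [map_mul, this, one_mul]
  -- products over orbits are fixed
  have hpow : ∀ b : G, b ^ p = 1 → ∀ i j : ZMod p, b ^ (i + j).val = b ^ i.val * b ^ j.val := by
    intro b hb i j
    rw [← pow_add, ZMod.val_add]
    exact pow_mod_natCard_aux hb _
  have hshift : ∀ g : G, g ∈ E → ∀ F : ZMod p → G, ∀ hF : ∀ i, F i ∈ E, ∀ s : ZMod p,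
      (∀ i, g * F i = F (i + s)) → g ≠ 1 → (∏ i, φ (F i) (hF i)) ∈ Simg := by
    intro g hg F hF s hgF hg1
    obtain ⟨T, hT⟩ := hconj g hg
    obtain ⟨y, hy⟩ : ∃ y : ↥X, ab y = ∏ i, φ (F i) (hF i) :=
      ⟨_, (QuotientGroup.mk'_surjective _ _).choose_spec⟩
    rw [← hy]
    refine hlift g hg hg1 y fun h => ?_
    rw [← hT y h, hy, map_prod]
    refine Fintype.prod_equiv (Equiv.addRight s) _ _ fun i => ?_
    change T (ab ⟨F i * x * (F i)⁻¹, _⟩) = ab ⟨F (i + s) * x * (F (i + s))⁻¹, _⟩
    rw [hT _ (mem_normalizer_conj (hEX hg) (mem_normalizer_conj (hEX (hF i)) hx))]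
    exact congrArg ab (Subtype.ext (by simp [← hgF, mul_assoc]))
  have hline : ∀ j : ZMod p, (∏ i : ZMod p, f i (i * j)) ∈ Simg := by
    intro j
    have hpow' : ∀ i : ZMod p, (b1 * b2 ^ j.val) ^ i.val = b1 ^ i.val * b2 ^ (i * j).val := by
      intro i
      rw [((show Commute b1 b2 from h12).pow_right _).mul_pow, ← pow_mul, ZMod.val_mul,
        pow_mod_natCard_aux h2, mul_comm j.val]
    refine hshift (b1 * b2 ^ j.val) (by simpa using hmem 1 j.val) _ (fun i => hmem i.val (i * j).val)
      1 (fun i => ?_) ?_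
    · rw [← hpow', ← hpow']
      have hb : (b1 * b2 ^ j.val) ^ p = 1 := by
        rw [((show Commute b1 b2 from h12).pow_right _).mul_pow, ← pow_mul, mul_comm j.val, pow_mul,
          h1, h2, one_pow, one_mul]
      rw [hpow _ hb, ZMod.val_one, pow_one, ← pow_succ', ← pow_succ]
    · intro h
      apply hind
      have : b1 = (b2 ^ j.val)⁻¹ := eq_inv_of_mul_eq_one_left h
      rw [this]
      exact inv_mem (pow_mem (Subgroup.mem_zpowers _) _)
  have hcol : ∀ i : ZMod p, (∏ k : ZMod p, f i k) ∈ Simg := by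
    intro i
    refine hshift b2 (Subgroup.mem_sup_right (Subgroup.mem_zpowers b2)) _
      (fun k => hmem i.val k.val) 1 (fun k => ?_) hb2
    rw [hpow _ h2, ZMod.val_one, pow_one, ← mul_assoc, ← mul_assoc,
      ((show Commute b1 b2 from h12).pow_left i.val).eq.symm, mul_assoc, mul_assoc, ← pow_succ,
      ← pow_succ']
  have hf00 : f 0 0 = ab ⟨x, hx⟩ := congrArg ab (Subtype.ext (by simp))
  have havg := averaging f
  have hxp : (ab ⟨x, hx⟩) ^ p ∈ Simg := by
    rw [← hf00, eq_mul_inv_of_mul_eq havg]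
    exact mul_mem (mul_mem (hcol 0) (prod_mem fun j _ => hline j))
      (inv_mem (prod_mem fun i _ => hcol i))
  have hcop : p.Coprime (orderOf (ab ⟨x, hx⟩)) :=
    Nat.Coprime.coprime_dvd_right ((orderOf_map_dvd ab _).trans (orderOf_dvd_natCard _))
      ((Nat.Prime.coprime_iff_not_dvd hp.out).2 hXp)
  obtain ⟨m, hm⟩ := exists_pow_eq_self_of_coprime hcop
  have habx : ab ⟨x, hx⟩ ∈ Simg := hm ▸ pow_mem hxp m
  obtain ⟨y, hy, hye⟩ := habx
  have hker : (⟨x, hx⟩ : ↥X) * y⁻¹ ∈ commutator ↥X := by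
    rw [← Abelianization.ker_of, MonoidHom.mem_ker, map_mul, map_inv]
    exact mul_inv_eq_one.2 hye.symm
  have h3 : x * (y : G)⁻¹ ∈ S := hDS (hmapD ▸ ⟨_, hker, rfl⟩)
  simpa using mul_mem h3 (show (y : G) ∈ S from hy)
where
  pow_mod_natCard_aux {b : G} (hb : b ^ p = 1) (n : ℕ) : b ^ (n % p) = b ^ n := by
    conv_rhs => rw [← Nat.div_add_mod n p, pow_add, pow_mul, hb, one_pow, one_mul]

/-- An invariant `p'`-subgroup is generated by its centralizers of hyperplanes of a noncyclic
elementary abelian group. -/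
theorem le_of_hyperplane_centralizers_le {B X S : Subgroup G}
    (hB : Cfsg.IsElementaryAbelian p B) (hB2 : p ^ 2 ≤ Nat.card B)
    (hX : B ≤ Subgroup.normalizer (X : Set G)) (hXp : ¬ p ∣ Nat.card X)
    (h : ∀ D : Subgroup G, D ≤ B → D.relIndex B = p →
      X ⊓ Subgroup.centralizer (D : Set G) ≤ S) : X ≤ S := by
  have hBp := isPGroup_of_elementaryAbelian hB
  have main : ∀ m : ℕ, ∀ D : Subgroup G, D ≤ B → D ≠ B → D.relIndex B = m →
      X ⊓ Subgroup.centralizer (D : Set G) ≤ S := by
    intro m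
    induction' m using Nat.strong_induction_on with m ih
    intro D hDB hne hm
    obtain ⟨k, hk⟩ := IsPGroup.iff_card.1 hBp
    obtain ⟨i, -, hi⟩ := (Nat.dvd_prime_pow hp.out).1
      (hk ▸ hm ▸ (D.relIndex_dvd_card B) : m ∣ p ^ k)
    rcases i with _ | _ | i
    · exact absurd (le_antisymm hDB (Subgroup.relIndex_eq_one.1 (hm.trans hi))) hne
    · exact h D hDB (by rw [hm, hi, pow_one])
    · obtain ⟨b1, hb1, hb1D⟩ := SetLike.exists_of_lt (lt_of_le_of_ne hDB hne)
      set D1 := D ⊔ Subgroup.zpowers b1 with hD1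
      have hD1B : D1 ≤ B := sup_le hDB (Subgroup.zpowers_le.2 hb1)
      have hBN : ∀ K : Subgroup G, K ≤ B → B ≤ Subgroup.normalizer (K : Set G) := fun K hK =>
        le_normalizer_of_forall fun a ha z hz => by
          rw [comm_of_mem hB ha (hK hz), mul_inv_cancel_right]
          exact hz
      have hcard : ∀ b ∈ B, b ≠ 1 →
          Nat.card ↥(D ⊔ Subgroup.zpowers b) ∣ Nat.card D * p := fun b hb hb1 => by
        have := card_sup_dvd_mul (X := D) (Y := Subgroup.zpowers b)
          ((Subgroup.zpowers_le.2 hb).trans (hBN D hDB))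
        rwa [card_zpowers_of_mem hB hb hb1] at this
      have hrel : Nat.card D * m = Nat.card B := by
        rw [← hm, ← Subgroup.relIndex_bot_left, ← Subgroup.relIndex_bot_left]
        exact Subgroup.relIndex_mul_relIndex _ _ _ bot_le hDB
      have hnotB : ∀ b ∈ B, b ≠ 1 → D ⊔ Subgroup.zpowers b ≠ B := by
        intro b hb hb0 heq
        have h1 := Nat.le_of_dvd (Nat.mul_pos Nat.card_pos hp.out.pos) (hcard b hb hb0)
        rw [heq, ← hrel, hi] at h1
        have h2 := Nat.le_of_mul_le_mul_left h1 Nat.card_pos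
        have : p ^ 2 ≤ p ^ (i + 1 + 1) := Nat.pow_le_pow_right hp.out.pos (by omega)
        have := hp.out.two_le
        nlinarith
      have hb10 : b1 ≠ 1 := fun h => hb1D (h ▸ one_mem D)
      obtain ⟨b2, hb2, hb2D⟩ := SetLike.exists_of_lt
        (lt_of_le_of_ne hD1B (hnotB b1 hb1 hb10))
      have hb20 : b2 ≠ 1 := fun h => hb2D (h ▸ one_mem D1)
      have hind : b1 ∉ Subgroup.zpowers b2 := by
        intro hc
        apply hb2D
        have heq : Subgroup.zpowers b1 = Subgroup.zpowers b2 :=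
          Subgroup.eq_of_le_of_card_ge (Subgroup.zpowers_le.2 hc)
            (by rw [card_zpowers_of_mem hB hb1 hb10, card_zpowers_of_mem hB hb2 hb20])
        exact Subgroup.mem_sup_right (heq ▸ Subgroup.mem_zpowers b2)
      set Y := X ⊓ Subgroup.centralizer (D : Set G) with hY
      have hYB : B ≤ Subgroup.normalizer (Y : Set G) :=
        le_normalizer_inf hX (le_normalizer_centralizer (hBN D hDB))
      have hYp : ¬ p ∣ Nat.card Y := fun h => hXp (h.trans (Subgroup.card_dvd_of_le inf_le_left))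
      have hEB : Subgroup.zpowers b1 ⊔ Subgroup.zpowers b2 ≤ B :=
        sup_le (Subgroup.zpowers_le.2 hb1) (Subgroup.zpowers_le.2 hb2)
      have hstep : ∀ e ∈ Subgroup.zpowers b1 ⊔ Subgroup.zpowers b2, e ≠ 1 →
          Y ⊓ Subgroup.centralizer {e} ≤ S := by
        intro e he he1 z hz
        have heD : e ∉ D := by
          intro heD
          have he' : e ∈ (↑(Subgroup.zpowers b1 ⊔ Subgroup.zpowers b2) : Set G) := he
          rw [Subgroup.coe_mul_of_left_le_normalizer_right _ _
            ((Subgroup.zpowers_le.2 hb1).trans (hBN _ (Subgroup.zpowers_le.2 hb2)))] at he'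
          obtain ⟨u, hu, w, hw, rfl⟩ := Set.mem_mul.1 he'
          have hwD1 : w ∈ D1 := by
            have h1 : u⁻¹ * (u * w) ∈ D1 :=
              mul_mem (inv_mem (Subgroup.mem_sup_right hu)) (Subgroup.mem_sup_left heD)
            simpa using h1
          by_cases hw1 : w = 1
          · subst hw1
            rw [mul_one] at he1 heD
            apply hb1D
            have heq : Subgroup.zpowers u = Subgroup.zpowers b1 :=
              Subgroup.eq_of_le_of_card_ge (Subgroup.zpowers_le.2 hu)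
                (by rw [card_zpowers_of_mem hB hb1 hb10,
                  card_zpowers_of_mem hB (Subgroup.zpowers_le.2 hb1 hu) he1])
            exact (Subgroup.zpowers_le.2 heD) (heq ▸ Subgroup.mem_zpowers b1)
          · apply hb2D
            have heq : Subgroup.zpowers w = Subgroup.zpowers b2 :=
              Subgroup.eq_of_le_of_card_ge (Subgroup.zpowers_le.2 hw)
                (by rw [card_zpowers_of_mem hB hb2 hb20,
                  card_zpowers_of_mem hB (Subgroup.zpowers_le.2 hb2 hw) hw1])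
            exact (Subgroup.zpowers_le.2 hwD1) (heq ▸ Subgroup.mem_zpowers b2)
        set D' := D ⊔ Subgroup.zpowers e with hD'
        have hD'B : D' ≤ B := sup_le hDB (Subgroup.zpowers_le.2 (hEB he))
        have hlt : D'.relIndex B < m := by
          have hDD' : Nat.card D < Nat.card D' := by
            refine lt_of_le_of_ne (Subgroup.card_le_of_le le_sup_left) fun hc => heD ?_
            rw [Subgroup.eq_of_le_of_card_ge (le_sup_left : D ≤ D') hc.ge]
            exact Subgroup.mem_sup_right (Subgroup.mem_zpowers e)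
          have h2 : Nat.card D' * D'.relIndex B = Nat.card B := by
            rw [← Subgroup.relIndex_bot_left, ← Subgroup.relIndex_bot_left]
            exact Subgroup.relIndex_mul_relIndex _ _ _ bot_le hD'B
          have h3 : 0 < D'.relIndex B :=
            Nat.pos_of_ne_zero fun h0 => (Nat.card_pos (α := ↥B)).ne' (by rw [← h2, h0, mul_zero])
          nlinarith
        refine ih _ hlt D' hD'B (hnotB e (hEB he) he1) rfl ⟨hz.1.1, ?_⟩
        have hzc : D' ≤ Subgroup.centralizer {z} := by
          refine sup_le (fun d hd => ?_) (Subgroup.zpowers_le.2 ?_)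
          · exact Subgroup.mem_centralizer_singleton_iff.2 (hz.1.2 d hd)
          · exact Subgroup.mem_centralizer_singleton_iff.2
              (Subgroup.mem_centralizer_singleton_iff.1 hz.2).symm
        exact fun d hd => Subgroup.mem_centralizer_singleton_iff.1 (hzc hd)
      refine le_of_invariant_sylow_le (IsPGroup.to_le hBp hEB) (hEB.trans hYB) hYp
        fun R hRY hRN hRq => ?_
      obtain ⟨q, hq, hRq⟩ := hRq
      haveI := Fact.mk hq
      haveI : Group.IsNilpotent ↥R := hRq.isNilpotent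
      refine le_of_two_gen_solvable (hB.2 b1 hb1) (hB.2 b2 hb2) (comm_of_mem hB hb1 hb2) hb20
        hind S R (hRN (Subgroup.mem_sup_left (Subgroup.mem_zpowers b1)))
        (hRN (Subgroup.mem_sup_right (Subgroup.mem_zpowers b2)))
        (fun hd => hYp (hd.trans (Subgroup.card_dvd_of_le hRY))) inferInstance ?_
      exact fun e he he1 => (inf_le_inf_right _ hRY).trans (hstep e he he1)
  have hbot : (⊥ : Subgroup G) ≠ B := by
    intro h
    rw [← h, Subgroup.card_bot] at hB2
    have := hp.out.two_le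
    nlinarith
  intro x hx
  exact main _ ⊥ bot_le hbot rfl ⟨hx, fun d hd => by
    rw [Subgroup.mem_bot.1 hd, one_mul, mul_one]⟩

/-- An invariant `p'`-subgroup is generated by the centralizers of the non-identity elements of a
noncyclic elementary abelian group. -/
theorem le_of_centralizers_le {B X S : Subgroup G}
    (hB : Cfsg.IsElementaryAbelian p B) (hB2 : p ^ 2 ≤ Nat.card B)
    (hX : B ≤ Subgroup.normalizer (X : Set G)) (hXp : ¬ p ∣ Nat.card X)
    (h : ∀ b ∈ B, b ≠ 1 → X ⊓ Subgroup.centralizer {b} ≤ S) : X ≤ S := by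
  refine le_of_hyperplane_centralizers_le hB hB2 hX hXp fun D hDB hD => ?_
  obtain ⟨d, hd, hd1⟩ : ∃ d ∈ D, d ≠ 1 := by
    by_contra hcon
    push Not at hcon
    rw [(Subgroup.eq_bot_iff_forall D).2 hcon, Subgroup.relIndex_bot_left] at hD
    rw [hD] at hB2
    have := hp.out.two_le
    nlinarith
  exact (inf_le_inf_left _ (Subgroup.centralizer_le (Set.singleton_subset_iff.2 hd))).trans
    (h d (hDB hd) hd1)

end Cfsg.Agent.SignalizerCoprime
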