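import Mathlib
import Cfsg.Prelude.Def_Amalgam
import Cfsg.Agent.Lib.SignalizerCoprime
import Cfsg.Agent.Lib.HallCore
import Cfsg.Agent.Lib.HallSolvable
import Cfsg.Agent.Lib.ComponentsFitting

/-!
# Group lemmas for the solvable signalizer functor theorem

Commuting by mutual normalisation, the prime components `pCoreOf q M` of the Fitting subgroup of
a solvable subgroup, and centralisation criteria for coprime actions.
-/

set_option autoImplicit false

namespace Cfsg.Agent.SFTGroup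

open Cfsg.Agent.SignalizerCoprime

variable {G : Type*} [Group G]

theorem commute_of_normalize {X Y : Subgroup G} (h : X ⊓ Y = ⊥) {x y : G} (hx : x ∈ X)
    (hy : y ∈ Y) (hxY : x ∈ Subgroup.normalizer (Y : Set G))
    (hyX : y ∈ Subgroup.normalizer (X : Set G)) : x * y = y * x := by
  have h1 : x * y * x⁻¹ * y⁻¹ ∈ X ⊓ Y := by
    refine Subgroup.mem_inf.2 ⟨?_, mul_mem (mem_normalizer_conj hxY hy) (inv_mem hy)⟩
    have := X.mul_mem hx (mem_normalizer_conj hyX (X.inv_mem hx))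
    simpa [mul_assoc] using this
  rw [h, Subgroup.mem_bot, mul_inv_eq_one, mul_inv_eq_iff_eq_mul] at h1
  exact h1

theorem commute_subgroups {X Y : Subgroup G} (h : X ⊓ Y = ⊥)
    (hXY : X ≤ Subgroup.normalizer (Y : Set G)) (hYX : Y ≤ Subgroup.normalizer (X : Set G)) :
    X ≤ Subgroup.centralizer (Y : Set G) := fun _ hx _ hy =>
  (commute_of_normalize h hx hy (hXY hx) (hYX hy)).symm

theorem mem_centralizer_singleton {a x : G} :
    x ∈ Subgroup.centralizer ({a} : Set G) ↔ x * a = a * x :=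
  Subgroup.mem_centralizer_singleton_iff

theorem conj_eq_iff_commute {a x : G} : a * x * a⁻¹ = x ↔ x * a = a * x := by
  rw [mul_inv_eq_iff_eq_mul, eq_comm]

variable [Finite G]

theorem inf_eq_bot_of_primes {q s : ℕ} [Fact q.Prime] [Fact s.Prime] {X Y : Subgroup G}
    (hX : IsPGroup q X) (hY : IsPGroup s Y) (hqs : q ≠ s) : X ⊓ Y = ⊥ :=
  disjoint_iff.1 (IsPGroup.disjoint_of_ne q s hqs X Y hX hY)

/-- An element of a `q`-group and a `q'`-group is trivial. -/
theorem inf_eq_bot_of_not_dvd {q : ℕ} [hq : Fact q.Prime] {X Y : Subgroup G} (hX : IsPGroup q X)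
    (hY : ¬ q ∣ Nat.card Y) : X ⊓ Y = ⊥ := by
  obtain ⟨k, hk⟩ := IsPGroup.iff_card.1 hX
  refine Subgroup.inf_eq_bot_of_coprime ?_
  rw [hk]
  exact Nat.Coprime.pow_left k ((Nat.Prime.coprime_iff_not_dvd hq.out).2 hY)

theorem not_dvd_card_of_isPGroup {q p : ℕ} [Fact q.Prime] [hp : Fact p.Prime] {X : Subgroup G}
    (hX : IsPGroup q X) (hne : q ≠ p) : ¬ p ∣ Nat.card X := by
  obtain ⟨k, hk⟩ := IsPGroup.iff_card.1 hX
  rw [hk]
  intro h
  exact hne ((Nat.prime_dvd_prime_iff_eq hp.out Fact.out).1 (hp.out.dvd_of_dvd_pow h)).symm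

/-- In an `s`-group every proper subgroup is properly contained in its normalizer. -/
theorem exists_normalizer_grows {s : ℕ} [Fact s.Prime] {U C : Subgroup G} (hU : IsPGroup s U)
    (hCU : C ≤ U) (hne : C ≠ U) :
    ∃ n ∈ U, n ∉ C ∧ n ∈ Subgroup.normalizer (C : Set G) := by
  haveI : Group.IsNilpotent ↥U := hU.isNilpotent
  have hlt : C.subgroupOf U < ⊤ :=
    lt_top_iff_ne_top.2 fun h => hne (le_antisymm hCU (Subgroup.subgroupOf_eq_top.1 h))
  obtain ⟨⟨n, hnU⟩, hnN, hnC⟩ :=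
    SetLike.exists_of_lt (Group.normalizerCondition_of_isNilpotent (G := ↥U) _ hlt)
  refine ⟨n, hnU, fun h => hnC (Subgroup.mem_subgroupOf.2 h), ?_⟩
  refine Subgroup.mem_normalizer_iff.2 fun y => ⟨fun hy => ?_, fun hy => ?_⟩
  · exact (Subgroup.mem_normalizer_iff.1 hnN ⟨y, hCU hy⟩).1 hy
  · have hyU : y ∈ U := by
      have := U.mul_mem (U.mul_mem (U.inv_mem hnU) (hCU hy)) hnU
      simpa [mul_assoc] using this
    exact (Subgroup.mem_normalizer_iff.1 hnN ⟨y, hyU⟩).2 hy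

/-- If `x` normalises the `s`-group `U`, has order prime to `s` and centralises a subgroup `C`
containing its centraliser in `U`, then `x` centralises `U`. -/
theorem centralizes_of_self_centralizing {s : ℕ} [hs : Fact s.Prime] {U C : Subgroup G}
    (hU : IsPGroup s U) {x : G} (hx : ¬ s ∣ orderOf x)
    (hxU : x ∈ Subgroup.normalizer (U : Set G)) (hCU : C ≤ U) (hxC : ∀ c ∈ C, c * x = x * c)
    (hCC : U ⊓ Subgroup.centralizer (C : Set G) ≤ C) : ∀ u ∈ U, u * x = x * u := by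
  set C' := U ⊓ Subgroup.centralizer ({x} : Set G) with hC'
  have hCC' : C ≤ C' := le_inf hCU fun c hc => mem_centralizer_singleton.2 (hxC c hc)
  by_cases h : C' = U
  · intro u hu
    exact mem_centralizer_singleton.1 ((h.ge hu).2)
  obtain ⟨n, hnU, hnC, hnN⟩ := exists_normalizer_grows hU inf_le_left h
  exfalso
  set k := n⁻¹ * (x * n * x⁻¹) with hk
  have hkU : k ∈ U := mul_mem (inv_mem hnU) (mem_normalizer_conj hxU hnU)
  have hkC : k ∈ C := hCC ⟨hkU, fun c hc => by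
    have hc' : n * c * n⁻¹ ∈ C' := mem_normalizer_conj hnN (hCC' hc)
    have h1 : (n * c * n⁻¹) * x = x * (n * c * n⁻¹) := mem_centralizer_singleton.1 hc'.2
    have h2 : x * (n * c * n⁻¹) * x⁻¹ = n * c * n⁻¹ := by rw [← h1, mul_inv_cancel_right]
    have h3 : x * c * x⁻¹ = c := by rw [← hxC c hc, mul_inv_cancel_right]
    have h4 : x * (n * c * n⁻¹) * x⁻¹ = (x * n * x⁻¹) * c * (x * n * x⁻¹)⁻¹ := by
      conv_rhs => rw [← h3]
      group
    rw [h2] at h4
    rw [hk]
    calc c * (n⁻¹ * (x * n * x⁻¹)) = n⁻¹ * (n * c * n⁻¹) * (x * n * x⁻¹) := by group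
      _ = n⁻¹ * ((x * n * x⁻¹) * c * (x * n * x⁻¹)⁻¹) * (x * n * x⁻¹) := by rw [← h4]
      _ = n⁻¹ * (x * n * x⁻¹) * c := by group⟩
  have hkx : Commute k x := hxC k hkC
  have hiter : ∀ i : ℕ, x ^ i * n * (x ^ i)⁻¹ = n * k ^ i := by
    intro i
    induction i with
    | zero => simp
    | succ i ih =>
      have h1 : x * n = n * k * x := by rw [hk]; group
      rw [pow_succ', show x * x ^ i * n * (x * x ^ i)⁻¹ = x * (x ^ i * n * (x ^ i)⁻¹) * x⁻¹ by group,
        ih, show x * (n * k ^ i) * x⁻¹ = (x * n) * k ^ i * x⁻¹ by group, h1,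
        show n * k * x * k ^ i * x⁻¹ = n * k * (x * k ^ i) * x⁻¹ by group,
        ((hkx.symm).pow_right i).eq, pow_succ']
      group
  have h0 := hiter (orderOf x)
  rw [pow_orderOf_eq_one, one_mul, inv_one, mul_one] at h0
  have hk1 : k ^ orderOf x = 1 := mul_eq_left.1 h0.symm
  obtain ⟨e, he⟩ := IsPGroup.iff_orderOf.1 hU ⟨k, hkU⟩
  rw [Subgroup.orderOf_mk] at he
  have hcop : (orderOf k).Coprime (orderOf x) := by
    rw [he]; exact Nat.Coprime.pow_left e ((Nat.Prime.coprime_iff_not_dvd hs.out).2 hx)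
  have hk0 : k = 1 :=
    orderOf_eq_one_iff.1 (Nat.eq_one_of_dvd_coprimes hcop dvd_rfl (orderOf_dvd_of_pow_eq_one hk1))
  apply hnC
  refine ⟨hnU, mem_centralizer_singleton.2 ?_⟩
  rw [hk, inv_mul_eq_one] at hk0
  exact conj_eq_iff_commute.1 hk0.symm

/-- A subgroup is contained in any subgroup containing a Sylow subgroup for each prime. -/
theorem le_of_sylow_le {X S : Subgroup G}
    (h : ∀ q : ℕ, q.Prime → ∃ P : Sylow q X, (P : Subgroup X).map X.subtype ≤ S) : X ≤ S := by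
  suffices hsuff : Nat.card X ∣ Nat.card ↥(X ⊓ S) from
    inf_eq_left.1 (Subgroup.eq_of_le_of_card_ge inf_le_left
      (Nat.le_of_dvd Nat.card_pos hsuff))
  rw [← Nat.factorization_prime_le_iff_dvd Nat.card_pos.ne' Nat.card_pos.ne']
  intro q hq
  haveI := Fact.mk hq
  obtain ⟨P, hP⟩ := h q hq
  have hdvd := Subgroup.card_dvd_of_le (le_inf (Subgroup.map_subtype_le _) hP :
    (P : Subgroup X).map X.subtype ≤ X ⊓ S)
  rw [Subgroup.card_map_of_injective X.subtype_injective, P.card_eq_multiplicity] at hdvd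
  exact (Nat.Prime.pow_dvd_iff_le_factorization hq Nat.card_pos.ne').1 hdvd

/-! ### The components `pCoreOf q M` -/

section comps

variable {q : ℕ} [hq : Fact q.Prime] {M : Subgroup G}

omit [Finite G] hq in
theorem oq_le (q : ℕ) (M : Subgroup G) : Cfsg.pCoreOf q M ≤ M := Subgroup.map_subtype_le _

omit hq in
theorem oq_isPGroup (q : ℕ) (M : Subgroup G) : IsPGroup q ↥(Cfsg.pCoreOf q M) :=
  (HallCore.isPGroup_pCore q ↥M).map M.subtype

omit [Finite G] hq in
theorem conj_mem_map_of_characteristic {K : Subgroup ↥M} [hK : K.Characteristic] {g : G}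
    (hg : g ∈ Subgroup.normalizer (M : Set G)) {x : G} (hx : x ∈ K.map M.subtype) :
    g * x * g⁻¹ ∈ K.map M.subtype := by
  obtain ⟨⟨y, hy⟩, hyK, rfl⟩ := hx
  let e : ↥M ≃* ↥M :=
    { toFun := fun z => ⟨g * z * g⁻¹, mem_normalizer_conj hg z.2⟩
      invFun := fun z => ⟨g⁻¹ * z * g, by simpa using mem_normalizer_conj (inv_mem hg) z.2⟩
      left_inv := fun z => Subtype.ext (by simp [mul_assoc])
      right_inv := fun z => Subtype.ext (by simp [mul_assoc])
      map_mul' := fun a b => Subtype.ext (by simp [mul_assoc]) }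
  refine ⟨e ⟨y, hy⟩, ?_, rfl⟩
  exact (Subgroup.characteristic_iff_map_eq.1 hK e).le ⟨_, hyK, rfl⟩

omit hq in
theorem normalizer_le_normalizer_oq (q : ℕ) (M : Subgroup G) :
    Subgroup.normalizer (M : Set G) ≤ Subgroup.normalizer (Cfsg.pCoreOf q M : Set G) := by
  haveI := HallCore.pCore_characteristic q ↥M
  exact le_normalizer_of_forall fun g hg x hx => conj_mem_map_of_characteristic hg hx

omit hq in
theorem le_normalizer_oq (q : ℕ) (M : Subgroup G) :
    M ≤ Subgroup.normalizer (Cfsg.pCoreOf q M : Set G) :=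
  Subgroup.le_normalizer.trans (normalizer_le_normalizer_oq q M)

omit hq in
theorem le_oq {N : Subgroup G} (hNM : N ≤ M) (hMN : M ≤ Subgroup.normalizer (N : Set G))
    (hN : IsPGroup q N) : N ≤ Cfsg.pCoreOf q M := by
  haveI : (N.subgroupOf M).Normal := Subgroup.normal_subgroupOf_of_le_normalizer hMN
  have h : N.subgroupOf M ≤ Cfsg.pCore q ↥M :=
    HallCore.le_pCore (hN.of_equiv (Subgroup.subgroupOfEquivOfLe hNM).symm)
  intro x hx
  exact ⟨⟨x, hNM hx⟩, h (Subgroup.mem_subgroupOf.2 hx), rfl⟩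

/-- A normal `q`-subgroup of a normal subgroup lies in the `q`-component. -/
theorem le_oq_of_normal_chain {N H : Subgroup G} (hNH : N ≤ H) (hHM : H ≤ M)
    (hMH : M ≤ Subgroup.normalizer (H : Set G)) (hHN : H ≤ Subgroup.normalizer (N : Set G))
    (hN : IsPGroup q N) : N ≤ Cfsg.pCoreOf q M :=
  (le_oq hNH hHN hN).trans (le_oq ((oq_le q H).trans hHM)
    (hMH.trans (normalizer_le_normalizer_oq q H)) (oq_isPGroup q H))

/-- The `q`-part of the Fitting subgroup lies in the `q`-component. -/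
theorem mem_oq_of_mem_fitting (q : ℕ) [Fact q.Prime] {x : ↥M}
    (hx : x ∈ Cfsg.fittingSubgroup ↥M) (hxq : ∃ k, orderOf x = q ^ k) :
    (x : G) ∈ Cfsg.pCoreOf q M := by
  set F := Cfsg.fittingSubgroup ↥M with hF
  haveI : Group.IsNilpotent ↥F := ComponentsFitting.fittingSubgroup_isNilpotent
  let P : Sylow q ↥F := default
  haveI hPn : (P : Subgroup ↥F).Normal :=
    P.normal_of_normalizerCondition Group.normalizerCondition_of_isNilpotent
  haveI : (P : Subgroup ↥F).Characteristic := P.characteristic_of_normal hPn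
  haveI : ((P : Subgroup ↥F).map F.subtype).Normal := inferInstance
  have hxF : (⟨x, hx⟩ : ↥F) ∈ (P : Subgroup ↥F) := by
    obtain ⟨k, hk⟩ := hxq
    have hp : IsPGroup q (Subgroup.zpowers (⟨x, hx⟩ : ↥F)) :=
      IsPGroup.of_card (n := k) (by rw [Nat.card_zpowers, Subgroup.orderOf_mk, hk])
    obtain ⟨Q, hQ⟩ := hp.exists_le_sylow
    haveI : Unique (Sylow q ↥F) := Sylow.unique_of_normal P hPn
    rw [Subsingleton.elim P Q]
    exact hQ (Subgroup.mem_zpowers _)
  have h : (P : Subgroup ↥F).map F.subtype ≤ Cfsg.pCore q ↥M :=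
    HallCore.le_pCore (P.2.map F.subtype)
  exact ⟨x, h ⟨⟨x, hx⟩, hxF, rfl⟩, rfl⟩

end comps

theorem exists_oq_ne_bot {M : Subgroup G} (hM : Group.IsSolvable ↥M) (hne : M ≠ ⊥) :
    ∃ q : ℕ, q.Prime ∧ Cfsg.pCoreOf q M ≠ ⊥ := by
  haveI := hM
  haveI : Nontrivial ↥M := (Subgroup.nontrivial_iff_ne_bot M).2 hne
  obtain ⟨N, hN⟩ := HallSolvable.exists_minNormal (G := ↥M)
  obtain ⟨q, hq, hqN⟩ := hN.exists_prime
  haveI := hN.normal
  refine ⟨q, hq, fun h => hN.ne_bot ?_⟩
  haveI := Fact.mk hq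
  have h1 : N ≤ Cfsg.pCore q ↥M := HallCore.le_pCore hqN.2
  have h2 : (Cfsg.pCore q ↥M).map M.subtype = ⊥ := h
  rw [Subgroup.map_eq_bot_iff_of_injective _ M.subtype_injective] at h2
  exact le_bot_iff.1 (h2 ▸ h1)

/-- The Fitting subgroup of `M` is generated by the components. -/
theorem fitting_le_of_oq_le {M S : Subgroup G} (h : ∀ q : ℕ, q.Prime → Cfsg.pCoreOf q M ≤ S) :
    (Cfsg.fittingSubgroup ↥M).map M.subtype ≤ S := by
  refine le_of_sylow_le fun q hq => ⟨default, ?_⟩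
  haveI := Fact.mk hq
  rintro _ ⟨⟨y, hy⟩, hyP, rfl⟩
  obtain ⟨x, hx, rfl⟩ := hy
  refine h q hq (mem_oq_of_mem_fitting q hx ?_)
  obtain ⟨k, hk⟩ := IsPGroup.iff_orderOf.1 (default : Sylow q ↥((Cfsg.fittingSubgroup ↥M).map
    M.subtype)).2 ⟨_, hyP⟩
  exact ⟨k, by simpa [Subgroup.orderOf_coe] using hk⟩

/-- In a solvable group an element commuting with all components lies in their join. -/
theorem mem_fitting_of_commute {M : Subgroup G} (hM : Group.IsSolvable ↥M) {x : G} (hxM : x ∈ M)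
    (h : ∀ q : ℕ, q.Prime → ∀ y ∈ Cfsg.pCoreOf q M, y * x = x * y) :
    (⟨x, hxM⟩ : ↥M) ∈ Cfsg.fittingSubgroup ↥M := by
  haveI := hM
  refine HallSolvable.centralizer_fitting_le fun y hy => Subtype.ext ?_
  have hle : (Cfsg.fittingSubgroup ↥M).map M.subtype ≤ Subgroup.centralizer ({x} : Set G) :=
    fitting_le_of_oq_le fun q hq z hz => mem_centralizer_singleton.2 (h q hq z hz)
  exact mem_centralizer_singleton.1 (hle ⟨y, hy, rfl⟩)

/-- In a solvable group a `q`-subgroup commuting with all components lies in the `q`-component. -/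
theorem le_oq_of_commute {M X : Subgroup G} {q : ℕ} [Fact q.Prime] (hM : Group.IsSolvable ↥M)
    (hXM : X ≤ M) (hX : IsPGroup q X)
    (h : ∀ t : ℕ, t.Prime → X ≤ Subgroup.centralizer (Cfsg.pCoreOf t M : Set G)) :
    X ≤ Cfsg.pCoreOf q M := by
  intro x hx
  refine mem_oq_of_mem_fitting q (x := ⟨x, hXM hx⟩)
    (mem_fitting_of_commute hM (hXM hx) fun t ht y hy => h t ht hx y hy) ?_
  obtain ⟨k, hk⟩ := IsPGroup.iff_orderOf.1 hX ⟨x, hx⟩
  exact ⟨k, by simpa [Subgroup.orderOf_mk] using hk⟩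

/-- An element of prime order acting coprimely on a solvable group and centralising all
components centralises it. -/
theorem centralizes_of_comps {p : ℕ} [hp : Fact p.Prime] {M : Subgroup G}
    (hM : Group.IsSolvable ↥M) (hMp : ¬ p ∣ Nat.card M) {a : G} (hap : a ^ p = 1)
    (ha : a ∈ Subgroup.normalizer (M : Set G))
    (h : ∀ q : ℕ, q.Prime → ∀ y ∈ Cfsg.pCoreOf q M, y * a = a * y) :
    M ≤ Subgroup.centralizer ({a} : Set G) := by
  intro m hm
  set k := m⁻¹ * (a * m * a⁻¹) with hk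
  have hkM : k ∈ M := mul_mem (inv_mem hm) (mem_normalizer_conj ha hm)
  have hkF : (⟨k, hkM⟩ : ↥M) ∈ Cfsg.fittingSubgroup ↥M := by
    refine mem_fitting_of_commute hM hkM fun q hq y hy => ?_
    have h1 : m * y * m⁻¹ ∈ Cfsg.pCoreOf q M := mem_normalizer_conj (le_normalizer_oq q M hm) hy
    have h2 : a * (m * y * m⁻¹) * a⁻¹ = m * y * m⁻¹ := conj_eq_iff_commute.2 (h q hq _ h1)
    have h3 : a * y * a⁻¹ = y := conj_eq_iff_commute.2 (h q hq y hy)
    have h4 : a * (m * y * m⁻¹) * a⁻¹ = (a * m * a⁻¹) * y * (a * m * a⁻¹)⁻¹ := by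
      conv_rhs => rw [← h3]
      group
    rw [h2] at h4
    rw [hk]
    calc y * (m⁻¹ * (a * m * a⁻¹)) = m⁻¹ * (m * y * m⁻¹) * (a * m * a⁻¹) := by group
      _ = m⁻¹ * ((a * m * a⁻¹) * y * (a * m * a⁻¹)⁻¹) * (a * m * a⁻¹) := by rw [← h4]
      _ = m⁻¹ * (a * m * a⁻¹) * y := by group
  have hka : Commute a k := by
    have hle : (Cfsg.fittingSubgroup ↥M).map M.subtype ≤ Subgroup.centralizer ({a} : Set G) :=
      fitting_le_of_oq_le fun q hq z hz => mem_centralizer_singleton.2 (h q hq z hz)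
    exact (mem_centralizer_singleton.1 (hle ⟨_, hkF, rfl⟩)).symm
  have hiter : ∀ i : ℕ, a ^ i * m * (a ^ i)⁻¹ = m * k ^ i := by
    intro i
    induction i with
    | zero => simp
    | succ i ih =>
      have h1 : a * m = m * k * a := by rw [hk]; group
      rw [pow_succ', show a * a ^ i * m * (a * a ^ i)⁻¹ = a * (a ^ i * m * (a ^ i)⁻¹) * a⁻¹ by group,
        ih, show a * (m * k ^ i) * a⁻¹ = (a * m) * k ^ i * a⁻¹ by group, h1,
        show m * k * a * k ^ i * a⁻¹ = m * k * (a * k ^ i) * a⁻¹ by group,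
        (hka.pow_right i).eq, pow_succ']
      group
  have h0 := hiter p
  rw [hap, one_mul, inv_one, mul_one] at h0
  have hk1 : k ^ p = 1 := mul_eq_left.1 h0.symm
  have hord : orderOf k ∣ Nat.card M := by
    rw [← Subgroup.orderOf_mk k hkM]
    exact orderOf_dvd_natCard _
  rcases (Nat.dvd_prime hp.out).1 (orderOf_dvd_of_pow_eq_one hk1) with h5 | h5
  · rw [orderOf_eq_one_iff, hk, inv_mul_eq_one] at h5
    exact mem_centralizer_singleton.2 (conj_eq_iff_commute.1 h5.symm)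
  · exact absurd (h5 ▸ hord) hMp

end Cfsg.Agent.SFTGroup
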