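import Mathlib
import Cfsg.Prelude.Def_Balance
import Cfsg.Agent.Lib.SFTGroup
import Cfsg.Agent.Lib.CoprimeAction
import Cfsg.Agent.Lib.HallTheorem

/-!
# Quotients by an invariant subgroup, and joins of invariant π-subgroups

If an elementary abelian `p`-group `A` acts on the solvable `p'`-group `H`, two `A`-invariant
π-subgroups of `H` normalised by `C_H(A)` generate a π-group.
-/

set_option autoImplicit false

namespace Cfsg.Agent.SFTSigma

open Cfsg.Agent.SignalizerCoprime Cfsg.Agent.HallCore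
open scoped Pointwise

universe u

variable {G : Type u} [Group G]

theorem mem_map_conj {U : Subgroup G} {c x : G} :
    x ∈ U.map (MulAut.conj c).toMonoidHom ↔ c⁻¹ * x * c ∈ U := by
  constructor
  · rintro ⟨u, hu, rfl⟩
    simpa [mul_assoc] using hu
  · intro h
    exact ⟨_, h, by simp [mul_assoc]⟩

theorem map_conj_eq_of_mem_normalizer {U : Subgroup G} {c : G}
    (hc : c ∈ Subgroup.normalizer (U : Set G)) : U.map (MulAut.conj c).toMonoidHom = U := by
  ext x
  rw [mem_map_conj]
  exact ((Subgroup.mem_normalizer_iff''.1 hc) x).symm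

theorem mem_normalizer_of_map_conj_eq {U : Subgroup G} {c : G}
    (h : U.map (MulAut.conj c).toMonoidHom = U) : c ∈ Subgroup.normalizer (U : Set G) := by
  refine Subgroup.mem_normalizer_iff''.2 fun x => ?_
  conv_lhs => rw [← h]
  exact mem_map_conj

variable [Finite G]

/-! ### The quotient by a subgroup inside its normalizer -/

/-- The projection of `N(V)` onto `N(V)/V`. -/
abbrev proj (V : Subgroup G) :
    ↥(Subgroup.normalizer (V : Set G)) →*
      ↥(Subgroup.normalizer (V : Set G)) ⧸ V.subgroupOf (Subgroup.normalizer (V : Set G)) :=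
  QuotientGroup.mk' _

/-- The image of a subgroup of `N(V)` in `N(V)/V`. -/
abbrev img (V X : Subgroup G) :
    Subgroup (↥(Subgroup.normalizer (V : Set G)) ⧸ V.subgroupOf (Subgroup.normalizer (V : Set G))) :=
  (X.subgroupOf (Subgroup.normalizer (V : Set G))).map (proj V)

omit [Finite G] in
theorem mem_img {V X : Subgroup G} {y} :
    y ∈ img V X ↔ ∃ x : ↥(Subgroup.normalizer (V : Set G)), (x : G) ∈ X ∧ proj V x = y := by
  simp [img, Subgroup.mem_map, Subgroup.mem_subgroupOf]

theorem card_img_mul {V X : Subgroup G} (hVX : V ≤ X)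
    (hXN : X ≤ Subgroup.normalizer (V : Set G)) :
    Nat.card (img V X) * Nat.card V = Nat.card X := by
  have h := card_map_mk'_mul (V.subgroupOf (Subgroup.normalizer (V : Set G)))
    (X.subgroupOf (Subgroup.normalizer (V : Set G))) (fun z hz => hVX hz)
  rwa [Nat.card_congr (Subgroup.subgroupOfEquivOfLe hXN).toEquiv,
    Nat.card_congr (Subgroup.subgroupOfEquivOfLe (Subgroup.le_normalizer (H := V))).toEquiv] at h

theorem card_img_dvd {V X : Subgroup G} (hXN : X ≤ Subgroup.normalizer (V : Set G)) :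
    Nat.card (img V X) ∣ Nat.card X :=
  (Subgroup.card_map_dvd _ _).trans
    (Nat.card_congr (Subgroup.subgroupOfEquivOfLe hXN).toEquiv).dvd

omit [Finite G] in
theorem proj_eq_one {V : Subgroup G} {x : ↥(Subgroup.normalizer (V : Set G))} :
    proj V x = 1 ↔ (x : G) ∈ V := by
  simp [proj, QuotientGroup.eq_one_iff, Subgroup.mem_subgroupOf]

omit [Finite G] in
theorem img_le_normalizer {V X Y : Subgroup G}
    (h : Y ≤ Subgroup.normalizer (X : Set G)) :
    ∀ y ∈ img V Y, ∀ x ∈ img V X, y * x * y⁻¹ ∈ img V X := by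
  intro y hy x hx
  obtain ⟨y', hy', rfl⟩ := mem_img.1 hy
  obtain ⟨x', hx', rfl⟩ := mem_img.1 hx
  exact mem_img.2 ⟨y' * x' * y'⁻¹, by simpa using mem_normalizer_conj (h hy') hx', by simp⟩

theorem elementaryAbelian_img {p : ℕ} {A V : Subgroup G} (hA : Cfsg.IsElementaryAbelian p A) :
    Cfsg.IsElementaryAbelian p (img V A) := by
  refine ⟨⟨⟨fun a b => Subtype.ext ?_⟩⟩, fun a ha => ?_⟩
  · obtain ⟨a', ha', ha2⟩ := mem_img.1 a.2
    obtain ⟨b', hb', hb2⟩ := mem_img.1 b.2
    simp only [Subgroup.coe_mul]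
    rw [← ha2, ← hb2, ← map_mul, ← map_mul]
    exact congrArg _ (Subtype.ext (comm_of_mem hA ha' hb'))
  · obtain ⟨a', ha', rfl⟩ := mem_img.1 ha
    rw [← map_pow, proj_eq_one]
    simp [hA.2 _ ha']

/-- Fixed points in the quotient by a `p'`-subgroup lift. -/
theorem exists_lift {p : ℕ} [Fact p.Prime] {A V : Subgroup G} (hA : IsPGroup p A)
    (hAV : A ≤ Subgroup.normalizer (V : Set G)) (hVp : ¬ p ∣ Nat.card V)
    {x : ↥(Subgroup.normalizer (V : Set G))}
    (hx : ∀ a : ↥(Subgroup.normalizer (V : Set G)), (a : G) ∈ A →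
      proj V a * proj V x = proj V x * proj V a) :
    ∃ v ∈ V, ∀ a ∈ A, a * (v * (x : G)) = v * (x : G) * a := by
  refine exists_fixed_in_coset hA hVp hAV fun g hg => ?_
  have h := hx ⟨g, hAV hg⟩ hg
  have h2 : proj V (⟨g, hAV hg⟩ * x * (⟨g, hAV hg⟩ : ↥(Subgroup.normalizer (V : Set G)))⁻¹ *
      x⁻¹) = 1 := by
    rw [map_mul, map_mul, map_mul, map_inv, map_inv, h]
    group
  simpa using proj_eq_one.1 h2

/-! ### Counting -/

theorem card_sup_coprime {V U : Subgroup G} (hUV : U ≤ Subgroup.normalizer (V : Set G))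
    (h : (Nat.card V).Coprime (Nat.card U)) :
    Nat.card ↥(V ⊔ U) = Nat.card V * Nat.card U :=
  Nat.dvd_antisymm (card_sup_dvd_mul hUV)
    (h.mul_dvd_of_dvd_of_dvd (Subgroup.card_dvd_of_le le_sup_left)
      (Subgroup.card_dvd_of_le le_sup_right))

/-- Two π-subgroups of π'-index in a solvable subgroup are conjugate in it. -/
theorem hall_conj {H U W : Subgroup G} (hH : Group.IsSolvable ↥H) (hU : U ≤ H) (hW : W ≤ H)
    {π : Set ℕ} (hπ : PiNat π (Nat.card U)) (hWU : Nat.card W = Nat.card U) {m : ℕ}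
    (hcard : Nat.card H = Nat.card U * m) (hm : PiNat πᶜ m) :
    ∃ k ∈ H, U.map (MulAut.conj k).toMonoidHom = W := by
  haveI := hH
  have h1 : Nat.card (U.subgroupOf H) = Nat.card U :=
    Nat.card_congr (Subgroup.subgroupOfEquivOfLe hU).toEquiv
  have hidx : (U.subgroupOf H).index = m := by
    have h2 := (U.subgroupOf H).card_mul_index
    rw [h1, hcard] at h2
    exact Nat.eq_of_mul_eq_mul_left Nat.card_pos h2
  have hH1 : Cfsg.IsPiHall π (U.subgroupOf H) :=
    HallTheorem.isPiHall_iff.2 ⟨by rwa [h1], by rwa [hidx]⟩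
  have hH2 : Cfsg.IsPiHall π (W.subgroupOf H) := HallTheorem.isPiHall_of_card_eq hH1 (by
    rw [h1, ← hWU]
    exact Nat.card_congr (Subgroup.subgroupOfEquivOfLe hW).toEquiv)
  obtain ⟨k, hk⟩ := HallTheorem.isPiHall_conjugate_of_solvable hH1 hH2
  refine ⟨k, k.2, ?_⟩
  have h3 := congrArg (Subgroup.map H.subtype) hk
  rw [HallTheorem.map_conj_smul, Subgroup.map_subgroupOf_eq_of_le hU,
    Subgroup.map_subgroupOf_eq_of_le hW] at h3
  exact h3

/-- Two invariant π-subgroups normalised by the fixed points generate a π-group. -/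
theorem piNat_card_sup_invariant {p : ℕ} [hp : Fact p.Prime] {σ : Set ℕ} :
    ∀ (n : ℕ) {G : Type u} [Group G] [Finite G] {A H X Y : Subgroup G}, Nat.card H = n →
      Cfsg.IsElementaryAbelian p A → A ≤ Subgroup.normalizer (H : Set G) → ¬ p ∣ Nat.card H →
      Group.IsSolvable ↥H → X ≤ H → Y ≤ H → A ≤ Subgroup.normalizer (X : Set G) →
      A ≤ Subgroup.normalizer (Y : Set G) →
      H ⊓ Subgroup.centralizer (A : Set G) ≤ Subgroup.normalizer (X : Set G) →
      H ⊓ Subgroup.centralizer (A : Set G) ≤ Subgroup.normalizer (Y : Set G) →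
      PiNat σ (Nat.card X) → PiNat σ (Nat.card Y) → PiNat σ (Nat.card ↥(X ⊔ Y)) := by
  intro n
  induction n using Nat.strong_induction_on with
  | _ n ih =>
  intro G _ _ A H X Y hn hA hAH hHp hH hXH hYH hAX hAY hCX hCY hX hY
  subst hn
  have hle : X ⊔ Y ≤ H := sup_le hXH hYH
  by_cases hlt : X ⊔ Y = H
  swap
  · have h1 : Nat.card ↥(X ⊔ Y) < Nat.card H := lt_of_le_of_ne (Subgroup.card_le_of_le hle)
      fun h => hlt (Subgroup.eq_of_le_of_card_ge hle h.ge)
    exact ih _ h1 rfl hA (le_normalizer_sup hAX hAY)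
      (fun h => hHp (h.trans (Subgroup.card_dvd_of_le hle)))
      (@CoprimeAction.isSolvable_of_le _ _ _ _ hle hH) le_sup_left le_sup_right hAX hAY
      ((inf_le_inf_right _ hle).trans hCX) ((inf_le_inf_right _ hle).trans hCY) hX hY
  rw [hlt]
  by_cases hH1 : H = ⊥
  · rw [hH1, Subgroup.card_bot]; exact piNat_one σ
  -- a minimal normal invariant subgroup
  let S : Set (Subgroup G) := {K | K ≤ H ∧ K ≠ ⊥ ∧ H ⊔ A ≤ Subgroup.normalizer (K : Set G)}
  have hHS : H ∈ S := ⟨le_rfl, hH1, sup_le Subgroup.le_normalizer hAH⟩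
  obtain ⟨V, hV⟩ := (Set.toFinite S).exists_minimal ⟨H, hHS⟩
  obtain ⟨hVH, hV1, hVN⟩ := hV.prop
  have hmin : ∀ K : Subgroup G, K ≤ V → K ≠ ⊥ → H ⊔ A ≤ Subgroup.normalizer (K : Set G) →
      K = V := fun K hKV hK1 hKN => le_antisymm hKV (hV.2 ⟨hKV.trans hVH, hK1, hKN⟩ hKV)
  haveI hVs : Group.IsSolvable ↥V := @CoprimeAction.isSolvable_of_le _ _ _ _ hVH hH
  have hVc : ∀ x ∈ V, ∀ y ∈ V, x * y = y * x := by
    have hbot : (⁅V, V⁆ : Subgroup G) = ⊥ := by
      by_contra h1
      haveI : Nontrivial ↥V := (Subgroup.nontrivial_iff_ne_bot V).2 hV1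
      have h2 : (⁅V, V⁆ : Subgroup G) = V :=
        hmin _ (Subgroup.le_normalizer_iff_commutator_le_left.1 Subgroup.le_normalizer) h1
          (le_normalizer_commutator hVN hVN)
      rw [← V.map_subtype_commutator] at h2
      have h3 := congrArg (fun K : Subgroup G => Nat.card K) h2
      simp only [Subgroup.card_map_of_injective V.subtype_injective] at h3
      exact ne_of_lt (Group.IsSolvable.commutator_lt_top_of_nontrivial ↥V)
        ((Subgroup.card_eq_iff_eq_top _).1 h3)
    intro x hx y hy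
    exact (commutatorElement_eq_one_iff_mul_comm.1
      (by simpa [hbot] using Subgroup.commutator_mem_commutator hx hy))
  have hVcard : Nat.card V ≠ 1 := fun h => hV1 (Subgroup.card_eq_one.1 h)
  obtain ⟨v, hv, hvV⟩ := Nat.exists_prime_and_dvd hVcard
  haveI := Fact.mk hv
  have hVexp : ∀ x ∈ V, x ^ v = 1 := by
    let Ω := Subgroup.closure {x : G | x ∈ V ∧ x ^ v = 1}
    have hΩV : Ω ≤ V := (Subgroup.closure_le _).2 fun x hx => hx.1
    have hΩ : Ω = V := by
      refine hmin _ hΩV ?_ (le_normalizer_of_forall fun g hg x hx => ?_)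
      · obtain ⟨z, hz⟩ := exists_prime_orderOf_dvd_card' v hvV
        intro h
        have hz1 : (z : G) ∈ Ω := Subgroup.subset_closure
          ⟨z.2, by rw [← SubmonoidClass.coe_pow, ← hz, pow_orderOf_eq_one]; rfl⟩
        rw [h, Subgroup.mem_bot] at hz1
        rw [show z = 1 from Subtype.ext hz1, orderOf_one] at hz
        exact hv.one_lt.ne hz
      · have h : Ω ≤ Ω.comap (MulAut.conj g).toMonoidHom := (Subgroup.closure_le _).2 fun y hy =>
          Subgroup.subset_closure ⟨mem_normalizer_conj (hVN hg) hy.1, by simp [hy.2]⟩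
        exact h hx
    intro x hx
    have hxΩ : x ∈ Ω := hΩ.ge hx
    clear hx
    induction hxΩ using Subgroup.closure_induction with
    | mem y hy => exact hy.2
    | one => exact one_pow _
    | mul y z hy hz ihy ihz => rw [(show Commute y z from hVc y (hΩV hy) z (hΩV hz)).mul_pow, ihy, ihz, one_mul]
    | inv y _ ihy => rw [inv_pow, ihy, inv_one]
  have hVgrp : IsPGroup v ↥V := fun x => ⟨1, Subtype.ext (by simpa using hVexp x x.2)⟩
  have hVp : ¬ p ∣ Nat.card V := fun h => hHp (h.trans (Subgroup.card_dvd_of_le hVH))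
  -- pass to the quotient
  have hAN : A ≤ Subgroup.normalizer (V : Set G) := le_sup_right.trans hVN
  have hHN : H ≤ Subgroup.normalizer (V : Set G) := le_sup_left.trans hVN
  have hcardH := card_img_mul hVH hHN
  set L := Subgroup.normalizer (V : Set G)
  have hlt' : Nat.card (img V H) < Nat.card H := by
    rw [← hcardH]
    exact lt_mul_of_one_lt_right Nat.card_pos
      (lt_of_le_of_ne Nat.card_pos (Ne.symm hVcard))
  haveI := hH
  have hC : ∀ Z : Subgroup G, H ⊓ Subgroup.centralizer (A : Set G) ≤ Subgroup.normalizer (Z : Set G) →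
      img V H ⊓ Subgroup.centralizer (img V A : Set _) ≤
        Subgroup.normalizer (img V Z : Set _) := by
    intro Z hZ
    refine le_normalizer_of_forall fun y hy z hz => ?_
    obtain ⟨y', hy', rfl⟩ := mem_img.1 hy.1
    obtain ⟨w, hw, hfix⟩ := exists_lift (isPGroup_of_elementaryAbelian hA) hAN hVp (x := y')
      fun a ha => hy.2 _ (mem_img.2 ⟨a, ha, rfl⟩)
    have hwN : w ∈ L := Subgroup.le_normalizer hw
    have hmem : w * (y' : G) ∈ H ⊓ Subgroup.centralizer (A : Set G) :=
      ⟨mul_mem (hVH hw) hy', fun a ha => hfix a ha⟩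
    have heq : proj V (⟨w, hwN⟩ * y') = proj V y' := by
      rw [map_mul, proj_eq_one.2 hw, one_mul]
    rw [← heq]
    refine img_le_normalizer (X := Z) (Y := Subgroup.normalizer (Z : Set G)) le_rfl _ ?_ z hz
    exact mem_img.2 ⟨⟨w, hwN⟩ * y', hZ hmem, rfl⟩
  have hquot : PiNat σ (Nat.card (img V H)) := by
    have hsup : img V X ⊔ img V Y = img V H := by
      rw [← Subgroup.map_sup, ← Subgroup.subgroupOf_sup (hXH.trans hHN) (hYH.trans hHN), hlt]
    rw [← hsup]
    have hsol : Group.IsSolvable ↥(img V H) := by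
      haveI : Group.IsSolvable ↥(H.subgroupOf L) :=
        Group.isSolvable_of_isSolvable_injective
          (f := (Subgroup.subgroupOfEquivOfLe hHN).toMonoidHom) (MulEquiv.injective _)
      exact Group.isSolvable_of_surjective (f := (proj V).subgroupMap (H.subgroupOf L))
        (MonoidHom.subgroupMap_surjective _ _)
    exact ih _ hlt' rfl (elementaryAbelian_img hA) (le_normalizer_of_forall (img_le_normalizer hAH))
      (fun h => hHp (h.trans (card_img_dvd hHN))) hsol
      (Subgroup.map_mono fun x hx => hXH hx) (Subgroup.map_mono fun x hx => hYH hx)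
      (le_normalizer_of_forall (img_le_normalizer hAX))
      (le_normalizer_of_forall (img_le_normalizer hAY)) (hC X hCX) (hC Y hCY)
      (hX.of_dvd (card_img_dvd (hXH.trans hHN))) (hY.of_dvd (card_img_dvd (hYH.trans hHN)))
  by_cases hvσ : v ∈ σ
  · rw [← hcardH]
    refine hquot.mul ?_
    obtain ⟨k, hk⟩ := IsPGroup.iff_card.1 hVgrp
    rw [hk]
    exact PiNat.pow (fun t ht htv => ((Nat.prime_dvd_prime_iff_eq ht hv).1 htv).symm ▸ hvσ) k
  -- `V` is a Hall subgroup
  exfalso
  have hVσ : PiNat σᶜ (Nat.card V) := by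
    obtain ⟨k, hk⟩ := IsPGroup.iff_card.1 hVgrp
    rw [hk]
    exact PiNat.pow (fun t ht htv => ((Nat.prime_dvd_prime_iff_eq ht hv).1 htv).symm ▸ hvσ) k
  have hcop : (Nat.card (img V H)).Coprime (Nat.card V) := hquot.coprime hVσ
  obtain ⟨K0, hK0⟩ := HallTheorem.exists_isPiHall_of_solvable (G := ↥H) σ
  set K1 := K0.map H.subtype with hK1
  have hK1H : K1 ≤ H := Subgroup.map_subtype_le _
  have hK1c : Nat.card K1 = Nat.card (img V H) := by
    rw [hK1, Subgroup.card_map_of_injective H.subtype_injective]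
    obtain ⟨h1, h2⟩ := HallTheorem.isPiHall_iff.1 hK0
    have h3 := K0.card_mul_index.trans hcardH.symm
    refine Nat.dvd_antisymm ((h1.coprime hVσ).dvd_of_dvd_mul_right ⟨_, h3.symm⟩)
      ((hquot.coprime h2).dvd_of_dvd_mul_right ⟨Nat.card V, h3⟩)
  letI : MulAction G (Subgroup G) := MulAction.compHom (Subgroup G) (MulAut.conj : G →* MulAut G)
  have hsmul : ∀ (g : G) (U : Subgroup G), g • U = U.map (MulAut.conj g).toMonoidHom :=
    fun g U => rfl
  have hcopA : ∀ Z : Subgroup G, Z ≤ H → (Nat.card A).Coprime (Nat.card Z) := by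
    intro Z hZ
    obtain ⟨k, hk⟩ := IsPGroup.iff_card.1 (isPGroup_of_elementaryAbelian hA)
    rw [hk]
    exact Nat.Coprime.pow_left k ((Nat.Prime.coprime_iff_not_dvd hp.out).2
      fun h => hHp (h.trans (Subgroup.card_dvd_of_le hZ)))
  have hAsol : Group.IsSolvable ↥A := by
    haveI := hA.1
    exact Group.isSolvable_of_comm fun x y => mul_comm' x y
  obtain ⟨k, hk, hkfix⟩ := CoprimeAction.exists_fixed_point hAH (hcopA H le_rfl) (Or.inl hAsol) K1
    fun a ha => by
      obtain ⟨k, hk, hk'⟩ := hall_conj hH hK1H (W := K1.map (MulAut.conj a).toMonoidHom)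
        (by rintro _ ⟨x, hx, rfl⟩; exact mem_normalizer_conj (hAH ha) (hK1H hx))
        (hK1c ▸ hquot) (Subgroup.card_map_of_injective (MulAut.conj a).injective)
        (hK1c ▸ hcardH.symm) hVσ
      exact ⟨k, hk, hk'⟩
  set K := K1.map (MulAut.conj k).toMonoidHom with hK
  have hKH : K ≤ H := by
    rintro _ ⟨x, hx, rfl⟩
    exact mul_mem (mul_mem hk (hK1H hx)) (inv_mem hk)
  have hKc : Nat.card K = Nat.card (img V H) := by
    rw [hK, Subgroup.card_map_of_injective (MulAut.conj k).injective, hK1c]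
  have hAK : ∀ a ∈ A, a ∈ Subgroup.normalizer (K : Set G) := fun a ha =>
    mem_normalizer_of_map_conj_eq (hkfix a ha)
  have hHeq : V ⊔ K = H := by
    refine Subgroup.eq_of_le_of_card_ge (sup_le hVH hKH) ?_
    rw [card_sup_coprime (hKH.trans hHN) (by rw [hKc]; exact hcop.symm), hKc, mul_comm, hcardH]
  -- each of `X`, `Y` lies in `K`
  have key : ∀ Z : Subgroup G, Z ≤ H → A ≤ Subgroup.normalizer (Z : Set G) →
      H ⊓ Subgroup.centralizer (A : Set G) ≤ Subgroup.normalizer (Z : Set G) →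
      PiNat σ (Nat.card Z) → Z ≤ K := by
    intro Z hZH hAZ hCZ hZ
    set W := V ⊔ Z with hW
    have hWH : W ≤ H := sup_le hVH hZH
    have hWc : Nat.card W = Nat.card V * Nat.card Z :=
      card_sup_coprime (hZH.trans hHN) (hZ.coprime hVσ).symm
    set KZ := K ⊓ W with hKZ
    have hKZσ : PiNat σ (Nat.card KZ) :=
      hquot.of_dvd (hKc ▸ Subgroup.card_dvd_of_le inf_le_left)
    have hWK : W = V ⊔ KZ := by
      refine le_antisymm (fun w hw => ?_) (sup_le le_sup_left inf_le_right)
      have hw' : w ∈ V ⊔ K := hHeq.ge (hWH hw)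
      rw [← SetLike.mem_coe,
        Subgroup.coe_mul_of_right_le_normalizer_left _ _ (hKH.trans hHN)] at hw'
      obtain ⟨x, hx, y, hy, rfl⟩ := Set.mem_mul.1 hw'
      refine mul_mem (Subgroup.mem_sup_left hx) (Subgroup.mem_sup_right ⟨hy, ?_⟩)
      simpa using mul_mem (inv_mem (Subgroup.mem_sup_left (T := Z) hx)) hw
    have hKZc : Nat.card KZ = Nat.card Z := by
      refine Nat.eq_of_mul_eq_mul_left (Nat.card_pos (α := ↥V)) ?_
      rw [← hWc, ← card_sup_coprime (inf_le_left.trans (hKH.trans hHN))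
        (hKZσ.coprime hVσ).symm, ← hWK]
    obtain ⟨c, hc, hc'⟩ := CoprimeAction.exists_centralizer_smul_eq (A := A) (K := W)
      (le_normalizer_sup hAN hAZ) (hcopA W hWH) (Or.inl hAsol) (x := Z) (y := KZ)
      (fun a ha => map_conj_eq_of_mem_normalizer (hAZ ha))
      (fun a ha => map_conj_eq_of_mem_normalizer
        (le_normalizer_inf (fun b hb => hAK b hb) (le_normalizer_sup hAN hAZ) ha))
      (hall_conj (@CoprimeAction.isSolvable_of_le _ _ _ _ hWH hH) le_sup_right inf_le_right hZ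
        hKZc (hWc.trans (mul_comm _ _)) hVσ)
    have hfix : c • Z = Z := map_conj_eq_of_mem_normalizer (hCZ ⟨hWH hc.1, hc.2⟩)
    rw [hfix] at hc'
    exact hc'.le.trans inf_le_left
  have hXYK : H ≤ K := hlt ▸ sup_le (key X hXH hAX hCX hX) (key Y hYH hAY hCY hY)
  have hKeq : Nat.card K = Nat.card H := by rw [le_antisymm hKH hXYK]
  rw [hKc] at hKeq
  exact absurd hKeq hlt'.ne

end Cfsg.Agent.SFTSigma
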