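import Mathlib
import Cfsg.Agent.Lib.BGSigmaBasic
import Cfsg.Agent.Lib.BGSCNUniqueMain
import Cfsg.Agent.Lib.FittingHallBasic
import Cfsg.Agent.Lib.SFTSigma

/-!
Elementary facts on the standard factorisation `M = K U M_σ` of a maximal subgroup of a minimal
simple group of odd order (Bender-Glauberman, section 15), independent of sections 11-14.
-/

set_option autoImplicit false
set_option linter.style.haveILetI false

namespace Cfsg.Agent.BGFinal72

open Subgroup Cfsg.Agent.HallCore Cfsg.Agent.BGUnique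

universe u

variable {G : Type u} [Group G] [Finite G]

/-- The primes outside `σ(M)` and `κ(M)`. -/
def restPrimes (M : Subgroup G) : Set ℕ :=
  {q | q.Prime ∧ q ∉ Cfsg.kappa M ∧ q ∉ Cfsg.sigma M}

omit [Finite G] in
theorem sigmaCore_le (M : Subgroup G) : Cfsg.sigmaCore M ≤ M := map_subtype_le _

omit [Finite G] in
theorem le_normalizer_sigmaCore (M : Subgroup G) :
    M ≤ normalizer (Cfsg.sigmaCore M : Set G) :=
  BGTransitivity.le_normalizer_piCoreOf (Cfsg.sigma M) M.le_normalizer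

theorem piNat_sigmaCore (M : Subgroup G) : PiNat (Cfsg.sigma M) (Nat.card (Cfsg.sigmaCore M)) :=
  BGTransitivity.piNat_card_piCoreOf (Cfsg.sigma M) M

omit [Finite G] in
theorem kappa_sigma_disjoint {M : Subgroup G} {q : ℕ} (h : q ∈ Cfsg.kappa M) :
    q ∉ Cfsg.sigma M :=
  h.2.2.1

omit [Finite G] in
theorem card_mul_relIndex {A B : Subgroup G} (h : A ≤ B) :
    Nat.card A * A.relIndex B = Nat.card B := by
  rw [relIndex, ← Nat.card_congr (subgroupOfEquivOfLe h).toEquiv]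
  exact (A.subgroupOf B).card_mul_index

theorem compl_card {A B C : Subgroup G} (h : Cfsg.IsComplIn A B C) :
    Nat.card A * Nat.card B = Nat.card C := by
  rw [← FittingHallBasic.card_compl_eq_relIndex h]
  exact card_mul_relIndex h.1

/-- Schur-Zassenhaus inside a subgroup. -/
theorem exists_complIn {N C : Subgroup G} (hNC : N ≤ C) (hn : C ≤ normalizer (N : Set G))
    (hc : (Nat.card N).Coprime (N.relIndex C)) :
    ∃ E : Subgroup G, Cfsg.IsComplIn N E C ∧ Cfsg.IsComplIn E N C := by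
  haveI : (N.subgroupOf C).Normal := normal_subgroupOf_of_le_normalizer hn
  obtain ⟨H, hH⟩ := exists_right_complement'_of_coprime (N := N.subgroupOf C) (by
    rw [Nat.card_congr (subgroupOfEquivOfLe hNC).toEquiv]; exact hc)
  have hinf : H.map C.subtype ⊓ N = ⊥ := by
    rw [eq_bot_iff]
    rintro _ ⟨⟨x, hx, rfl⟩, hxs⟩
    have : x ∈ N.subgroupOf C ⊓ H := ⟨hxs, hx⟩
    rw [hH.disjoint.eq_bot, mem_bot] at this
    simp [this]
  refine ⟨H.map C.subtype, ⟨hNC, map_subtype_le _, inf_comm N _ ▸ hinf, fun c hc' => ?_⟩,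
    ⟨map_subtype_le _, hNC, hinf, fun c hc' => ?_⟩⟩
  · obtain ⟨⟨s, h⟩, hsh⟩ := hH.2 ⟨c, hc'⟩
    exact ⟨_, s.2, _, ⟨h, h.2, rfl⟩, (congrArg Subtype.val hsh).symm⟩
  · obtain ⟨⟨h, s⟩, hhs⟩ := hH.symm.2 ⟨c, hc'⟩
    exact ⟨_, ⟨h, h.2, rfl⟩, _, s.2, (congrArg Subtype.val hhs).symm⟩

theorem coprime_relIndex_of_hall {π : Set ℕ} {N C : Subgroup G} (h : Cfsg.IsPiHallOf π N C) :
    (Nat.card N).Coprime (N.relIndex C) :=
  Nat.coprime_of_dvd fun q hq h1 h2 => h.2.2 q hq (h.2.1 q hq h1) h2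

variable {M K U : Subgroup G}

theorem K_le (h : Cfsg.IsSigmaDecomposition M K U) : K ≤ M := h.hall.1

omit [Finite G] in
theorem U_le (h : Cfsg.IsSigmaDecomposition M K U) : U ≤ M := h.compl.1

theorem piNat_K (h : Cfsg.IsSigmaDecomposition M K U) : PiNat (Cfsg.kappa M) (Nat.card K) :=
  h.hall.2.1

theorem coprime_K_sigma (h : Cfsg.IsSigmaDecomposition M K U) :
    (Nat.card (Cfsg.sigmaCore M)).Coprime (Nat.card K) :=
  Nat.coprime_of_dvd fun q hq h1 h2 => (piNat_K h q hq h2).2.2.1 (piNat_sigmaCore M q hq h1)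

theorem card_K_sigma (h : Cfsg.IsSigmaDecomposition M K U) :
    Nat.card ↥(K ⊔ Cfsg.sigmaCore M) = Nat.card K * Nat.card (Cfsg.sigmaCore M) := by
  rw [sup_comm, mul_comm]
  exact SFTSigma.card_sup_coprime ((K_le h).trans (le_normalizer_sigmaCore M)) (coprime_K_sigma h)

theorem card_eq (h : Cfsg.IsSigmaDecomposition M K U) :
    Nat.card U * (Nat.card K * Nat.card (Cfsg.sigmaCore M)) = Nat.card M := by
  rw [← card_K_sigma h]
  exact compl_card h.compl

/-- The primes of `U` lie outside `σ(M)` and `κ(M)`, and `U` is a Hall subgroup for these primes. -/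
theorem hall_U (hσ : Cfsg.IsPiHallOf (Cfsg.sigma M) (Cfsg.sigmaCore M) M)
    (h : Cfsg.IsSigmaDecomposition M K U) : Cfsg.IsPiHallOf (restPrimes M) U M := by
  have hK0 : 0 < Nat.card K := Nat.card_pos
  have hS0 : 0 < Nat.card (Cfsg.sigmaCore M) := Nat.card_pos
  have e1 : (Cfsg.sigmaCore M).relIndex M = Nat.card U * Nat.card K := by
    refine Nat.eq_of_mul_eq_mul_left hS0 ?_
    rw [card_mul_relIndex hσ.1, ← card_eq h]; ring
  have e2 : K.relIndex M = Nat.card U * Nat.card (Cfsg.sigmaCore M) := by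
    refine Nat.eq_of_mul_eq_mul_left hK0 ?_
    rw [card_mul_relIndex h.hall.1, ← card_eq h]; ring
  have e3 : U.relIndex M = Nat.card K * Nat.card (Cfsg.sigmaCore M) := by
    refine Nat.eq_of_mul_eq_mul_left (Nat.card_pos : 0 < Nat.card U) ?_
    rw [card_mul_relIndex (U_le h), ← card_eq h]
  refine ⟨U_le h, fun q hq hd => ⟨hq, fun hκ => ?_, fun hs => ?_⟩, fun q hq hr hd => ?_⟩
  · exact h.hall.2.2 q hq hκ (e2 ▸ hd.mul_right _)
  · exact hσ.2.2 q hq hs (e1 ▸ hd.mul_right _)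
  · rw [e3] at hd
    rcases (Nat.Prime.dvd_mul hq).1 hd with hd | hd
    · exact hr.2.1 (piNat_K h q hq hd)
    · exact hr.2.2 (piNat_sigmaCore M q hq hd)

theorem U_prime (hσ : Cfsg.IsPiHallOf (Cfsg.sigma M) (Cfsg.sigmaCore M) M)
    (h : Cfsg.IsSigmaDecomposition M K U) {q : ℕ} (hq : q.Prime) (hd : q ∣ Nat.card U) :
    q ∉ Cfsg.sigma M ∧ q ∉ Cfsg.kappa M :=
  ⟨((hall_U hσ h).2.1 q hq hd).2.2, ((hall_U hσ h).2.1 q hq hd).2.1⟩

theorem coprime_U_sigma (hσ : Cfsg.IsPiHallOf (Cfsg.sigma M) (Cfsg.sigmaCore M) M)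
    (h : Cfsg.IsSigmaDecomposition M K U) :
    (Nat.card (Cfsg.sigmaCore M)).Coprime (Nat.card U) :=
  Nat.coprime_of_dvd fun q hq h1 h2 => (U_prime hσ h hq h2).1 (piNat_sigmaCore M q hq h1)

theorem card_U_sigma (hσ : Cfsg.IsPiHallOf (Cfsg.sigma M) (Cfsg.sigmaCore M) M)
    (h : Cfsg.IsSigmaDecomposition M K U) :
    Nat.card ↥(U ⊔ Cfsg.sigmaCore M) = Nat.card U * Nat.card (Cfsg.sigmaCore M) := by
  rw [sup_comm, mul_comm]
  exact SFTSigma.card_sup_coprime ((U_le h).trans (le_normalizer_sigmaCore M)) (coprime_U_sigma hσ h)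

/-- With `K = 1` the factor `U` is a complement of `M_σ`. -/
theorem compl_of_K_bot (h : Cfsg.IsSigmaDecomposition M K U) (hK : K = ⊥) :
    Cfsg.IsComplIn U (Cfsg.sigmaCore M) M := by
  have := h.compl
  rwa [hK, bot_sup_eq] at this

theorem kappa_empty_of_K_bot (h : Cfsg.IsSigmaDecomposition M K U) (hK : K = ⊥) :
    Cfsg.kappa M = ∅ :=
  Set.eq_empty_iff_forall_notMem.2 fun q hq => h.hall.2.2 q hq.1 hq (by
    rw [hK, relIndex_bot_left]; exact hq.2.1)

theorem K_ne_bot_of_kappa (h : Cfsg.IsSigmaDecomposition M K U) (hk : (Cfsg.kappa M).Nonempty) :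
    K ≠ ⊥ :=
  fun hK => hk.ne_empty (kappa_empty_of_K_bot h hK)

/-- A subgroup of `M` without `κ(M)`-primes lies in the normal subgroup `U M_σ`. -/
theorem le_U_sigma (hσ : Cfsg.IsPiHallOf (Cfsg.sigma M) (Cfsg.sigmaCore M) M)
    (h : Cfsg.IsSigmaDecomposition M K U)
    (hn : M ≤ normalizer ((U ⊔ Cfsg.sigmaCore M : Subgroup G) : Set G)) {Y : Subgroup G}
    (hY : Y ≤ M) (hYk : ∀ q : ℕ, q.Prime → q ∣ Nat.card Y → q ∉ Cfsg.kappa M) :
    Y ≤ U ⊔ Cfsg.sigmaCore M := by
  set N := U ⊔ Cfsg.sigmaCore M with hN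
  have hNM : N ≤ M := sup_le (U_le h) (sigmaCore_le M)
  haveI : (N.subgroupOf M).Normal := normal_subgroupOf_of_le_normalizer hn
  have hidx : (N.subgroupOf M).index = Nat.card K := by
    refine Nat.eq_of_mul_eq_mul_left (Nat.card_pos : 0 < Nat.card N) ?_
    show Nat.card N * N.relIndex M = _
    rw [card_mul_relIndex hNM, hN, card_U_sigma hσ h, ← card_eq h]; ring
  intro y hy
  have hcop : (orderOf (⟨y, hY hy⟩ : M)).Coprime (N.subgroupOf M).index := by
    rw [hidx, orderOf_mk]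
    exact Nat.coprime_of_dvd fun q hq h1 h2 =>
      hYk q hq (h1.trans (Y.orderOf_dvd_natCard hy)) (piNat_K h q hq h2)
  have h1 : ((⟨y, hY hy⟩ : M) : M ⧸ N.subgroupOf M) = 1 := by
    rw [← orderOf_eq_one_iff]
    refine Nat.eq_one_of_dvd_coprimes hcop (orderOf_map_dvd (QuotientGroup.mk' _) _) ?_
    rw [index_eq_card]
    exact orderOf_dvd_natCard _
  exact mem_subgroupOf.1 ((QuotientGroup.eq_one_iff _).1 h1)

section simple

variable (hG : Cfsg.IsMinSimpleOddOrder G)
include hG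

/-- `M_F ≤ M_σ`: a normal Sylow subgroup of `M` has normalizer `M`. -/
theorem fittingHallOf_le_sigmaCore (hM : IsCoatom M) :
    Cfsg.fittingHallOf M ≤ Cfsg.sigmaCore M := by
  set F := Cfsg.fittingHallOf M
  have hFM : F ≤ M := FittingHallBasic.fittingHallOf_le M
  refine BGTransitivity.le_piCoreOf hFM (FittingHallBasic.le_normalizer_fittingHallOf M) ?_
  intro q hq hd
  haveI := Fact.mk hq
  haveI : Group.IsNilpotent ↥F :=
    (ComponentsCores.isNilpotent_map_subtype_iff _).mpr FittingHallBasic.fittingHall_isNilpotent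
  obtain ⟨S⟩ : Nonempty (Sylow q ↥F) := inferInstance
  haveI hSn : (S : Subgroup ↥F).Normal := inferInstance
  haveI hSc : (S : Subgroup ↥F).Characteristic := Sylow.characteristic_of_normal S hSn
  set P := (S : Subgroup ↥F).map F.subtype
  have hPF : P ≤ F := map_subtype_le _
  have hPN : M ≤ normalizer (P : Set G) := (FittingHallBasic.le_normalizer_fittingHallOf M).trans
    (ComponentsCores.normalizer_le_normalizer_map_subtype F _)
  have hPcard : Nat.card P = q ^ (Nat.card F).factorization q := by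
    rw [card_map_of_injective F.subtype_injective]
    exact S.card_eq_multiplicity
  have hP1 : P ≠ ⊥ := by
    intro e
    rw [e, card_bot] at hPcard
    exact (Nat.one_lt_pow (hq.factorization_pos_of_dvd Nat.card_pos.ne' hd).ne' hq.one_lt).ne hPcard
  have hNP : normalizer (P : Set G) ≤ M := by
    refine le_of_eq (((eq_or_lt_of_le hPN).resolve_right fun hlt => ?_).symm)
    exact BGSigma.normalizer_ne_top' hG hP1 (fun e => hM.1 (top_le_iff.1 (e ▸ hPF.trans hFM)))
      (hM.2 _ hlt)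
  refine ⟨hq, hd.trans (card_dvd_of_le hFM), ?_⟩
  obtain ⟨T, hT⟩ := (S.isPGroup'.map F.subtype |>.comap_of_injective M.subtype
    M.subtype_injective).exists_le_sylow
  refine ⟨T, le_trans (le_of_eq ?_) hNP⟩
  suffices hPT : P = (T : Subgroup M).map M.subtype by rw [hPT]
  refine eq_of_le_of_card_ge ?_ ?_
  · rw [← map_subgroupOf_eq_of_le (hPF.trans hFM)]
    exact map_mono hT
  · rw [card_map_of_injective M.subtype_injective, hPcard, T.card_eq_multiplicity]
    refine Nat.pow_le_pow_right hq.pos (le_of_eq ?_)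
    rw [← card_mul_relIndex hFM, Nat.factorization_mul Nat.card_pos.ne'
      (fun e => Nat.card_pos.ne' (by rw [← card_mul_relIndex hFM, e, mul_zero])), Finsupp.add_apply]
    have : ¬ q ∣ F.relIndex M := fun h2 => hq.not_dvd_one
      ((FittingHallBasic.fittingHallOf_coprime M).gcd_eq_one ▸ Nat.dvd_gcd hd h2)
    rw [Nat.factorization_eq_zero_of_not_dvd this, add_zero]

/-- `M_σ ≤ M'`. -/
theorem sigmaCore_le_commutator (hM : IsCoatom M) : Cfsg.sigmaCore M ≤ ⁅M, M⁆ := by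
  refine le_of_qgroups fun q hq => ?_
  haveI := Fact.mk hq
  obtain ⟨S⟩ : Nonempty (Sylow q ↥(Cfsg.sigmaCore M)) := inferInstance
  set Q := (S : Subgroup ↥(Cfsg.sigmaCore M)).map (Cfsg.sigmaCore M).subtype
  have hQc : Nat.card Q = q ^ (Nat.card (Cfsg.sigmaCore M)).factorization q := by
    rw [card_map_of_injective (Cfsg.sigmaCore M).subtype_injective]
    exact S.card_eq_multiplicity
  refine ⟨Q, map_subtype_le _, ?_, hQc⟩
  by_cases hQ : Q = ⊥
  · rw [hQ]; exact bot_le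
  obtain ⟨P, hP, hQP⟩ := exists_isMaxP_ge (M := M) (S.isPGroup'.map _)
    ((map_subtype_le (S : Subgroup ↥(Cfsg.sigmaCore M))).trans (sigmaCore_le M))
  refine hQP.trans (BGSigma.le_commutator hG hM (piNat_sigmaCore M q hq ?_) hP)
  exact (dvd_card_of_ne_bot (S.isPGroup'.map _) hQ).trans (card_dvd_of_le (map_subtype_le _))

/-- `M' < M`. -/
theorem commutator_lt (hM : IsCoatom M) : ⁅M, M⁆ < M := by
  haveI := isSolvable_of_ne_top hG hM.1
  haveI : Nontrivial ↥M := (nontrivial_iff_ne_bot M).2 (BGSigma.coatom_ne_bot hG hM)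
  have h := Subgroup.map_lt_map_iff_of_injective M.subtype_injective |>.2
    (Group.IsSolvable.commutator_lt_top_of_nontrivial ↥M)
  rwa [map_subtype_commutator, ← MonoidHom.range_eq_map, M.range_subtype] at h

/-- A prime element of `M` outside `σ ∪ κ` with a fixed point on `M_σ` belongs to a prime of rank two. -/
theorem mem_tau2_of_fixed (hM : IsCoatom M) {q : ℕ} (hq : q.Prime) (hs : q ∉ Cfsg.sigma M)
    (hk : q ∉ Cfsg.kappa M) {x : G} (hxM : x ∈ M) (hx : orderOf x = q) {y : G}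
    (hy : y ∈ Cfsg.sigmaCore M) (hy1 : y ≠ 1) (hxy : x * y = y * x) : q ∈ Cfsg.tau2 M := by
  haveI := Fact.mk hq
  have hr2 : Cfsg.PRankLE q 2 M := by_contra fun h => hs (BGSigma.alpha_subset_sigma hG hM ⟨hq, h⟩)
  refine ⟨hq, hs, hr2, fun hr1 => hk ⟨hq, hx ▸ M.orderOf_dvd_natCard hxM, hs, fun P => ?_⟩⟩
  refine ⟨?_, ?_⟩
  · by_contra hnc
    have hnc' : ¬ IsCyclic ↥((P : Subgroup M).map M.subtype) := fun h =>
      hnc (((P : Subgroup M).equivMapOfInjective _ M.subtype_injective).isCyclic.2 h)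
    obtain ⟨E, hEP, hE, hEc⟩ := exists_elementary_sq_of_noncyclic hG (P.isPGroup'.map _) hnc'
    have hEM : E ≤ M := hEP.trans (map_subtype_le _)
    have h1 := hr1 (E.subgroupOf M) ⟨⟨fun u v => Subtype.ext (Subtype.ext
      (PGroupsBasic.comm_of_isMulCommutative hE.1 (x := ((u : M) : G)) u.2 v.2))⟩⟩
      (fun u hu => Subtype.ext (by rw [SubgroupClass.coe_pow]; exact hE.2 _ hu))
    rw [Nat.card_congr (subgroupOfEquivOfLe hEM).toEquiv, hEc, pow_one] at h1
    exact absurd h1 (by nlinarith [hq.two_le])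
  · obtain ⟨T, hT⟩ := (IsPGroup.of_card (G := zpowers (⟨x, hxM⟩ : M)) (p := q) (n := 1)
      (by rw [Nat.card_zpowers, orderOf_mk, hx, pow_one])).exists_le_sylow
    obtain ⟨m, hm⟩ := MulAction.exists_smul_eq M T P
    refine ⟨m * ⟨x, hxM⟩ * m⁻¹, ?_, ?_, (m : G) * y * (m : G)⁻¹, ?_, ?_, ?_⟩
    · rw [← hm, Sylow.coe_subgroup_smul]
      exact ⟨⟨x, hxM⟩, hT (mem_zpowers _), rfl⟩
    · intro e
      rw [conj_eq_one_iff] at e
      have : x = 1 := congrArg Subtype.val e
      rw [this, orderOf_one] at hx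
      exact hq.one_lt.ne hx
    · exact (mem_normalizer_iff.1 (le_normalizer_sigmaCore M m.2) y).1 hy
    · intro e
      exact hy1 (conj_eq_one_iff.1 e)
    · simp only [Subgroup.coe_mul, Subgroup.coe_inv]
      calc (m : G) * x * (m : G)⁻¹ * ((m : G) * y * (m : G)⁻¹) = m * (x * y) * (m : G)⁻¹ := by group
        _ = m * (y * x) * (m : G)⁻¹ := by rw [hxy]
        _ = _ := by group

/-- A prime dividing the order of an element of `U` with a fixed point lies in `τ₂`. -/
theorem orderOf_tau2 (hM : IsCoatom M) (hσ : Cfsg.IsPiHallOf (Cfsg.sigma M) (Cfsg.sigmaCore M) M)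
    (h : Cfsg.IsSigmaDecomposition M K U) {u : G} (hu : u ∈ U) {y : G}
    (hy : y ∈ Cfsg.sigmaCore M) (hy1 : y ≠ 1) (huy : u * y = y * u) :
    ∀ q : ℕ, q.Prime → q ∣ orderOf u → q ∈ Cfsg.tau2 M := by
  intro q hq hd
  have hx : orderOf (u ^ (orderOf u / q)) = q :=
    orderOf_pow_orderOf_div (orderOf_pos u).ne' hd
  exact mem_tau2_of_fixed hG hM hq (U_prime hσ h hq (hd.trans (U.orderOf_dvd_natCard hu))).1
    (U_prime hσ h hq (hd.trans (U.orderOf_dvd_natCard hu))).2 (M.pow_mem (U_le h hu) _) hx hy hy1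
    ((show Commute u y from huy).pow_left _)

end simple

end Cfsg.Agent.BGFinal72
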