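import Mathlib
import Cfsg.Prelude.Def_OddOrderLocal
import Cfsg.Agent.Lib.HallCore
import Cfsg.Agent.Lib.ComponentsCores

/-!
Transport of the types of maximal subgroups and of the sets attached to them along group isomorphisms
(in particular along conjugation).
-/

set_option autoImplicit false

namespace Cfsg.Agent.BGTypeConj

open Cfsg
open scoped Pointwise

universe u

variable {G G' : Type u} [Group G] [Group G']

theorem mem_map_iff (e : G ≃* G') {M : Subgroup G} {x : G} :
    e x ∈ M.map e.toMonoidHom ↔ x ∈ M :=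
  Subgroup.mem_map_iff_mem e.injective

theorem map_symm_map (e : G ≃* G') (M : Subgroup G) :
    (M.map e.toMonoidHom).map e.symm.toMonoidHom = M := by
  ext x
  rw [Subgroup.mem_map_equiv, Subgroup.mem_map_equiv]
  simp

theorem map_eq_bot_iff (e : G ≃* G') (M : Subgroup G) : M.map e.toMonoidHom = ⊥ ↔ M = ⊥ :=
  Subgroup.map_eq_bot_iff_of_injective M e.injective

theorem map_eq_top_iff (e : G ≃* G') (M : Subgroup G) : M.map e.toMonoidHom = ⊤ ↔ M = ⊤ := by
  rw [← Subgroup.map_top_of_surjective e.toMonoidHom e.surjective]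
  exact (Subgroup.map_injective e.injective).eq_iff

theorem map_inf_equiv (e : G ≃* G') (A B : Subgroup G) :
    (A ⊓ B).map e.toMonoidHom = A.map e.toMonoidHom ⊓ B.map e.toMonoidHom :=
  Subgroup.map_inf _ _ _ e.injective

theorem card_map (e : G ≃* G') (A : Subgroup G) : Nat.card (A.map e.toMonoidHom) = Nat.card A :=
  Subgroup.card_map_of_injective e.injective

theorem relIndex_map (e : G ≃* G') (A B : Subgroup G) :
    (A.map e.toMonoidHom).relIndex (B.map e.toMonoidHom) = A.relIndex B :=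
  Subgroup.relIndex_map_map_of_injective A B e.injective

/-- The isomorphism from a subgroup onto its image. -/
noncomputable def mapEquiv (e : G ≃* G') (M : Subgroup G) : ↥M ≃* ↥(M.map e.toMonoidHom) :=
  M.equivMapOfInjective e.toMonoidHom e.injective

theorem centralizer_map (e : G ≃* G') (S : Set G) :
    (Subgroup.centralizer S).map e.toMonoidHom = Subgroup.centralizer (e '' S) := by
  ext y
  rw [Subgroup.mem_map_equiv, Subgroup.mem_centralizer_iff, Subgroup.mem_centralizer_iff]
  constructor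
  · rintro h _ ⟨s, hs, rfl⟩
    have := congrArg e (h s hs)
    simpa using this
  · intro h s hs
    apply e.injective
    simpa using h _ ⟨s, hs, rfl⟩

theorem coe_map (e : G ≃* G') (H : Subgroup G) :
    (e '' (H : Set G)) = ((H.map e.toMonoidHom : Subgroup G') : Set G') := rfl

theorem centralizer_singleton_map (e : G ≃* G') (x : G) :
    (Subgroup.centralizer ({x} : Set G)).map e.toMonoidHom = Subgroup.centralizer ({e x} : Set G') := by
  rw [centralizer_map, Set.image_singleton]

theorem normalizer_map (e : G ≃* G') (S : Set G) :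
    (Subgroup.normalizer S).map e.toMonoidHom = Subgroup.normalizer (e '' S) := by
  ext y
  rw [Subgroup.mem_map_equiv, Subgroup.mem_set_normalizer_iff, Subgroup.mem_set_normalizer_iff]
  have key : ∀ z : G', z ∈ e '' S ↔ e.symm z ∈ S := fun z =>
    ⟨by rintro ⟨s, hs, rfl⟩; simpa using hs, fun h => ⟨_, h, e.apply_symm_apply z⟩⟩
  constructor
  · intro h z
    rw [key, key, map_mul, map_mul, map_inv]
    exact h (e.symm z)
  · intro h n
    have := h (e n)
    rw [key, key, map_mul, map_mul, map_inv, e.symm_apply_apply] at this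
    exact this

/-! ### Fitting and Hall cores -/

theorem fittingHall_map_le (e : G ≃* G') :
    (fittingHall G).map e.toMonoidHom ≤ fittingHall G' := by
  rw [Subgroup.map_le_iff_le_comap, fittingHall]
  refine sSup_le fun A hA => ?_
  rw [← Subgroup.map_le_iff_le_comap]
  obtain ⟨hn, hnil, hco⟩ := hA
  refine le_sSup ⟨hn.map _ e.surjective, ?_, ?_⟩
  · have := hnil
    exact Group.nilpotent_of_mulEquiv (A.equivMapOfInjective e.toMonoidHom e.injective)
  · rw [card_map, ← Subgroup.relIndex_top_right, ← Subgroup.map_top_of_surjective e.toMonoidHom e.surjective,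
      relIndex_map, Subgroup.relIndex_top_right]
    exact hco

theorem fittingHall_map (e : G ≃* G') : (fittingHall G).map e.toMonoidHom = fittingHall G' := by
  refine le_antisymm (fittingHall_map_le e) ?_
  have h := Subgroup.map_mono (f := e.toMonoidHom) (fittingHall_map_le e.symm)
  have h2 := map_symm_map e.symm (fittingHall G')
  rw [MulEquiv.symm_symm] at h2
  rw [h2] at h
  exact h

theorem map_subtype_map (e : G ≃* G') (M : Subgroup G) (N : Subgroup M) :
    (N.map (mapEquiv e M).toMonoidHom).map (M.map e.toMonoidHom).subtype =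
      (N.map M.subtype).map e.toMonoidHom := by
  rw [Subgroup.map_map, Subgroup.map_map]
  rfl

theorem fittingHallOf_map (e : G ≃* G') (M : Subgroup G) :
    fittingHallOf (M.map e.toMonoidHom) = (fittingHallOf M).map e.toMonoidHom := by
  unfold fittingHallOf
  rw [← map_subtype_map, fittingHall_map (mapEquiv e M)]

theorem fittingOf_map (e : G ≃* G') (M : Subgroup G) :
    fittingOf (M.map e.toMonoidHom) = (fittingOf M).map e.toMonoidHom := by
  unfold fittingOf
  rw [← map_subtype_map, ComponentsCores.fitting_map_mulEquiv (mapEquiv e M)]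

theorem commutator_map (e : G ≃* G') (A B : Subgroup G) :
    ⁅A.map e.toMonoidHom, B.map e.toMonoidHom⁆ = ⁅A, B⁆.map e.toMonoidHom :=
  (Subgroup.map_commutator A B _).symm

theorem isComplIn_map (e : G ≃* G') {A B M : Subgroup G} (h : IsComplIn A B M) :
    IsComplIn (A.map e.toMonoidHom) (B.map e.toMonoidHom) (M.map e.toMonoidHom) := by
  obtain ⟨h1, h2, h3, h4⟩ := h
  refine ⟨Subgroup.map_mono h1, Subgroup.map_mono h2, ?_, ?_⟩
  · rw [← map_inf_equiv, h3, Subgroup.map_bot]
  · rintro _ ⟨m, hm, rfl⟩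
    obtain ⟨a, ha, b, hb, rfl⟩ := h4 m hm
    exact ⟨_, Subgroup.mem_map_of_mem _ ha, _, Subgroup.mem_map_of_mem _ hb, map_mul _ _ _⟩

theorem isCyclic_map (e : G ≃* G') (A : Subgroup G) :
    IsCyclic (A.map e.toMonoidHom) ↔ IsCyclic A :=
  (A.equivMapOfInjective e.toMonoidHom e.injective).isCyclic.symm

theorem isMulCommutative_of_equiv (e : G ≃* G') (h : IsMulCommutative G) : IsMulCommutative G' :=
  ⟨⟨fun a b => e.symm.injective (by rw [map_mul, map_mul]; exact h.is_comm.comm _ _)⟩⟩

theorem isMulCommutative_map (e : G ≃* G') (A : Subgroup G) :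
    IsMulCommutative (A.map e.toMonoidHom) ↔ IsMulCommutative A :=
  ⟨isMulCommutative_of_equiv (A.equivMapOfInjective e.toMonoidHom e.injective).symm,
    isMulCommutative_of_equiv (A.equivMapOfInjective e.toMonoidHom e.injective)⟩

theorem rankLE_of_equiv (e : G ≃* G') {k : ℕ} (h : RankLE k G) : RankLE k G' := by
  intro p hp A hA hpow
  rw [← card_map e.symm A]
  refine h p hp _ ((isMulCommutative_map e.symm A).2 hA) ?_
  rintro _ ⟨a, ha, rfl⟩
  rw [← map_pow, hpow a ha, map_one]

theorem isTISubset_map (e : G ≃* G') {X : Set G} (h : IsTISubset X) : IsTISubset (e '' X) := by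
  rintro g hg _ ⟨x, hx, rfl⟩ hgx
  obtain ⟨y, hy, hyx⟩ := hgx
  have hg' : e.symm g ∉ Subgroup.normalizer X := fun h' => hg (by
    rw [← normalizer_map, Subgroup.mem_map_equiv]; exact h')
  rw [h _ hg' x hx (by
    have : e (e.symm g * x * (e.symm g)⁻¹) = e y := by simp [hyx]
    rwa [e.injective this]), map_one]

/-! ### Types -/

theorem isOfTypeF_of_equiv (e : G ≃* G') (h : IsOfTypeF G) : IsOfTypeF G' := by
  obtain ⟨hsol, hodd, hb, ht, U, hU, hc, ⟨U₁, h1, h2, h3, h4⟩, U₀, h5, h6, h7⟩ := h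
  refine ⟨?_, ?_, ?_, ?_, U.map e.toMonoidHom, ?_, ?_, ⟨U₁.map e.toMonoidHom, Subgroup.map_mono h1,
    ?_, (isMulCommutative_map e U₁).2 h3, ?_⟩, U₀.map e.toMonoidHom, Subgroup.map_mono h5, ?_, ?_⟩
  · have := hsol
    exact Group.isSolvable_of_surjective (f := e.toMonoidHom) e.surjective
  · rwa [← Nat.card_congr e.toEquiv]
  · rwa [← fittingHall_map e, Ne, map_eq_bot_iff]
  · rwa [← fittingHall_map e, Ne, map_eq_top_iff]
  · rwa [Ne, map_eq_bot_iff]
  · rw [← fittingHall_map e]
    refine Subgroup.isComplement'_of_disjoint_and_mul_eq_univ ?_ ?_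
    · rw [disjoint_iff, ← map_inf_equiv, disjoint_iff.1 hc.disjoint, Subgroup.map_bot]
    · refine Set.eq_univ_of_forall fun y => ?_
      obtain ⟨⟨⟨a, ha⟩, ⟨b, hb'⟩⟩, hab⟩ := hc.2 (e.symm y)
      refine ⟨e a, Subgroup.mem_map_of_mem _ ha, e b, Subgroup.mem_map_of_mem _ hb', ?_⟩
      simp only at hab ⊢
      rw [← map_mul, hab, e.apply_symm_apply]
  · rw [← coe_map, ← normalizer_map]
    exact Subgroup.map_mono h2
  · intro x hx hx1
    rw [← fittingHall_map e] at hx
    obtain ⟨x, hx, rfl⟩ := hx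
    show U.map e.toMonoidHom ⊓ Subgroup.centralizer ({e x} : Set G') ≤ _
    rw [← centralizer_singleton_map, ← map_inf_equiv]
    exact Subgroup.map_mono (h4 x hx (fun e' => hx1 (by rw [e', map_one])))
  · rw [← Monoid.exponent_eq_of_mulEquiv (U₀.equivMapOfInjective e.toMonoidHom e.injective),
      ← Monoid.exponent_eq_of_mulEquiv (U.equivMapOfInjective e.toMonoidHom e.injective), h6]
  · rintro _ ⟨u, hu, rfl⟩ hu1 y hy hcomm
    rw [← fittingHall_map e] at hy
    obtain ⟨x, hx, rfl⟩ := hy
    rw [← map_mul, ← map_mul] at hcomm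
    rw [h7 u hu (fun e' => hu1 (by rw [e', map_one])) x hx (e.injective hcomm), map_one]

theorem isOfTypeF_map (e : G ≃* G') {M : Subgroup G} (h : IsOfTypeF ↥M) :
    IsOfTypeF ↥(M.map e.toMonoidHom) :=
  isOfTypeF_of_equiv (mapEquiv e M) h

theorem isSelfNormalizingCyclic_map (e : G ≃* G') {W₁ W₂ : Subgroup G}
    (h : IsSelfNormalizingCyclic W₁ W₂) :
    IsSelfNormalizingCyclic (W₁.map e.toMonoidHom) (W₂.map e.toMonoidHom) := by
  obtain ⟨h1, h2, h3, h4, h5, h6⟩ := h
  refine ⟨by rwa [Ne, map_eq_bot_iff], by rwa [Ne, map_eq_bot_iff], ?_, ?_, ?_, ?_⟩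
  · rw [← map_inf_equiv, h3, Subgroup.map_bot]
  · rintro _ ⟨a, ha, rfl⟩ _ ⟨b, hb, rfl⟩
    rw [← map_mul, ← map_mul, h4 a ha b hb]
  · rwa [← Subgroup.map_sup, isCyclic_map]
  · intro X hX hXne
    have hX' : X = e '' (e ⁻¹' X) := (Set.image_preimage_eq X e.surjective).symm
    rw [hX', ← normalizer_map, ← Subgroup.map_sup, h6 (e ⁻¹' X) ?_ ?_]
    · intro x hx
      obtain ⟨hx1, hx2⟩ := hX hx
      rw [← Subgroup.map_sup] at hx1
      refine ⟨(mem_map_iff e).1 hx1, fun h => hx2 ?_⟩
      rcases h with h | h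
      · exact Or.inl ((mem_map_iff e).2 h)
      · exact Or.inr ((mem_map_iff e).2 h)
    · obtain ⟨x, hx⟩ := hXne
      exact ⟨e.symm x, by simpa using hx⟩

theorem isTypePWith_map (e : G ≃* G') {M W₁ U W₂ : Subgroup G} (h : IsTypePWith M W₁ U W₂) :
    IsTypePWith (M.map e.toMonoidHom) (W₁.map e.toMonoidHom) (U.map e.toMonoidHom)
      (W₂.map e.toMonoidHom) where
  W₁_ne := by rw [Ne, map_eq_bot_iff]; exact h.W₁_ne
  W₁_cyclic := (isCyclic_map e W₁).2 h.W₁_cyclic
  W₁_hall := by rw [card_map, relIndex_map]; exact h.W₁_hall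
  W₁_compl := by rw [commutator_map]; exact isComplIn_map e h.W₁_compl
  U_nilpotent := by
    have := h.U_nilpotent
    exact Group.nilpotent_of_mulEquiv (U.equivMapOfInjective e.toMonoidHom e.injective)
  U_normal := by
    rw [← coe_map, ← normalizer_map]
    exact Subgroup.map_mono h.U_normal
  U_compl := by rw [commutator_map, fittingHallOf_map]; exact isComplIn_map e h.U_compl
  H_not_cyclic := by rw [fittingHallOf_map, isCyclic_map]; exact h.H_not_cyclic
  derived_two_le := by
    rw [commutator_map, commutator_map, fittingHallOf_map, ← coe_map, ← centralizer_map,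
      ← map_inf_equiv, ← Subgroup.map_sup]
    exact Subgroup.map_mono h.derived_two_le
  fitting_eq := by
    rw [fittingHallOf_map, fittingOf_map, ← coe_map, ← centralizer_map,
      ← map_inf_equiv, ← Subgroup.map_sup, h.fitting_eq]
  fitting_le := by
    rw [commutator_map, fittingOf_map]
    exact Subgroup.map_mono h.fitting_le
  W₂_le := by
    rw [commutator_map, commutator_map, fittingHallOf_map, ← map_inf_equiv]
    exact Subgroup.map_mono h.W₂_le
  W₂_centralizer := by
    rintro _ ⟨x, hx, rfl⟩ hx1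
    show _ ⊓ Subgroup.centralizer ({e x} : Set G') = _
    rw [commutator_map, ← centralizer_singleton_map, ← map_inf_equiv,
      h.W₂_centralizer x hx (fun e' => hx1 (by rw [e', map_one]))]
  selfNormalizing := isSelfNormalizingCyclic_map e h.selfNormalizing

theorem isOfTypeI_map (e : G ≃* G') {M : Subgroup G} (h : IsOfTypeI M) :
    IsOfTypeI (M.map e.toMonoidHom) := by
  refine ⟨isOfTypeF_map e h.1, ?_⟩
  rw [fittingHallOf_map]
  rcases h.2 with hTI | ⟨hc, hr, hr1⟩ | ⟨hexp, p, hp, hpd, hcyc⟩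
  · exact Or.inl (isTISubset_map e hTI)
  · refine Or.inr (Or.inl ⟨(isMulCommutative_map e _).2 hc, ?_, fun h1 => hr1 ?_⟩)
    · exact rankLE_of_equiv ((fittingHallOf M).equivMapOfInjective e.toMonoidHom e.injective) hr
    · exact rankLE_of_equiv ((fittingHallOf M).equivMapOfInjective e.toMonoidHom e.injective).symm h1
  · refine Or.inr (Or.inr ⟨fun q hq hd => ?_, p, hp, by rwa [card_map], ?_⟩)
    · rw [card_map] at hd
      rw [← Monoid.exponent_eq_of_mulEquiv (QuotientGroup.congr (fittingHall ↥M)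
        (fittingHall ↥(M.map e.toMonoidHom)) (mapEquiv e M) (fittingHall_map (mapEquiv e M)))]
      exact hexp q hq hd
    · have hc := (isCyclic_map (mapEquiv e M) _).2 hcyc
      rw [ComponentsCores.pPrimeCore_map_mulEquiv] at hc
      exact hc

theorem map_symm_iff (e : G ≃* G') {P : Subgroup G → Prop} {P' : Subgroup G' → Prop}
    (h : ∀ M, P M → P' (M.map e.toMonoidHom)) (h' : ∀ M, P' M → P (M.map e.symm.toMonoidHom))
    (M : Subgroup G) : P' (M.map e.toMonoidHom) ↔ P M :=
  ⟨fun hM => map_symm_map e M ▸ h' _ hM, h M⟩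

theorem isOfTypeI_map_iff (e : G ≃* G') (M : Subgroup G) :
    IsOfTypeI (M.map e.toMonoidHom) ↔ IsOfTypeI M :=
  map_symm_iff e (fun _ => isOfTypeI_map e) (fun _ => isOfTypeI_map e.symm) M

theorem isOfTypeII_map (e : G ≃* G') {M : Subgroup G} (h : IsOfTypeII M) :
    IsOfTypeII (M.map e.toMonoidHom) := by
  obtain ⟨W₁, U, W₂, hd, hU, hp, hTI, hc, hN, hF, hF'⟩ := h
  refine ⟨_, _, _, isTypePWith_map e hd, by rwa [Ne, map_eq_bot_iff], by rwa [card_map], ?_,
    (isMulCommutative_map e U).2 hc, ?_, ?_, ?_⟩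
  · rw [fittingOf_map]; exact isTISubset_map e hTI
  · rw [← coe_map, ← normalizer_map, Subgroup.map_le_map_iff_of_injective e.injective]
    exact hN
  · rw [commutator_map]; exact isOfTypeF_map e hF
  · rw [commutator_map, fittingHallOf_map, fittingHallOf_map, hF']

theorem isOfTypeII_map_iff (e : G ≃* G') (M : Subgroup G) :
    IsOfTypeII (M.map e.toMonoidHom) ↔ IsOfTypeII M :=
  map_symm_iff e (fun _ => isOfTypeII_map e) (fun _ => isOfTypeII_map e.symm) M

theorem isOfTypeIII_map (e : G ≃* G') {M : Subgroup G} (h : IsOfTypeIII M) :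
    IsOfTypeIII (M.map e.toMonoidHom) := by
  obtain ⟨W₁, U, W₂, hd, hU, hp, hTI, hc, hN⟩ := h
  refine ⟨_, _, _, isTypePWith_map e hd, by rwa [Ne, map_eq_bot_iff], by rwa [card_map], ?_,
    (isMulCommutative_map e U).2 hc, ?_⟩
  · rw [fittingOf_map]; exact isTISubset_map e hTI
  · rw [← coe_map, ← normalizer_map, Subgroup.map_le_map_iff_of_injective e.injective]
    exact hN

theorem isOfTypeIII_map_iff (e : G ≃* G') (M : Subgroup G) :
    IsOfTypeIII (M.map e.toMonoidHom) ↔ IsOfTypeIII M :=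
  map_symm_iff e (fun _ => isOfTypeIII_map e) (fun _ => isOfTypeIII_map e.symm) M

theorem isOfTypeIV_map (e : G ≃* G') {M : Subgroup G} (h : IsOfTypeIV M) :
    IsOfTypeIV (M.map e.toMonoidHom) := by
  obtain ⟨W₁, U, W₂, hd, hU, hp, hTI, hc, hN⟩ := h
  refine ⟨_, _, _, isTypePWith_map e hd, by rwa [Ne, map_eq_bot_iff], by rwa [card_map], ?_,
    fun h' => hc ((isMulCommutative_map e U).1 h'), ?_⟩
  · rw [fittingOf_map]; exact isTISubset_map e hTI
  · rw [← coe_map, ← normalizer_map, Subgroup.map_le_map_iff_of_injective e.injective]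
    exact hN

theorem isOfTypeIV_map_iff (e : G ≃* G') (M : Subgroup G) :
    IsOfTypeIV (M.map e.toMonoidHom) ↔ IsOfTypeIV M :=
  map_symm_iff e (fun _ => isOfTypeIV_map e) (fun _ => isOfTypeIV_map e.symm) M

theorem isOfTypeV_map (e : G ≃* G') {M : Subgroup G} (h : IsOfTypeV M) :
    IsOfTypeV (M.map e.toMonoidHom) := by
  obtain ⟨W₁, U, W₂, hd, hU, hcase⟩ := h
  refine ⟨_, _, _, isTypePWith_map e hd, by rwa [map_eq_bot_iff], ?_⟩
  rw [fittingHallOf_map]
  set H := fittingHallOf M
  let f : ↥H ≃* ↥(H.map e.toMonoidHom) := H.equivMapOfInjective e.toMonoidHom e.injective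
  rcases hcase with hTI | ⟨p, hp, hd1, hd2, hcyc⟩ | ⟨p, hp, hd1, hd2, hd3, hcyc⟩
  · exact Or.inl (isTISubset_map e hTI)
  · refine Or.inr (Or.inl ⟨p, hp, by rwa [card_map], by rwa [card_map], ?_⟩)
    rw [← ComponentsCores.pPrimeCore_map_mulEquiv f]
    exact (isCyclic_map f _).2 hcyc
  · refine Or.inr (Or.inr ⟨p, hp, by rwa [card_map], ?_, by rwa [card_map], ?_⟩)
    · rw [← ComponentsCores.pCore_map_mulEquiv f, card_map f]
      exact hd2
    · rw [← ComponentsCores.pPrimeCore_map_mulEquiv f]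
      exact (isCyclic_map f _).2 hcyc

theorem isOfTypeV_map_iff (e : G ≃* G') (M : Subgroup G) :
    IsOfTypeV (M.map e.toMonoidHom) ↔ IsOfTypeV M :=
  map_symm_iff e (fun _ => isOfTypeV_map e) (fun _ => isOfTypeV_map e.symm) M

/-! ### The sets attached to a maximal subgroup -/

theorem typeCore_map (e : G ≃* G') (M : Subgroup G) :
    typeCore (M.map e.toMonoidHom) = (typeCore M).map e.toMonoidHom := by
  classical
  unfold typeCore
  rw [isOfTypeIII_map_iff, isOfTypeIV_map_iff, commutator_map, fittingHallOf_map]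
  split <;> rfl

theorem image_typeA1 (e : G ≃* G') (M : Subgroup G) :
    e '' typeA1 M = typeA1 (M.map e.toMonoidHom) := by
  ext y
  simp only [typeA1, typeCore_map, Set.mem_image, Set.mem_sdiff, SetLike.mem_coe,
    Set.mem_singleton_iff, Subgroup.mem_map_equiv]
  constructor
  · rintro ⟨x, ⟨hx, hx1⟩, rfl⟩
    exact ⟨by simpa using hx, by simpa using hx1⟩
  · rintro ⟨hy, hy1⟩
    exact ⟨e.symm y, ⟨hy, by simpa using hy1⟩, e.apply_symm_apply y⟩

theorem mem_typeA_map_iff (e : G ≃* G') (M : Subgroup G) (x : G) :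
    e x ∈ typeA (M.map e.toMonoidHom) ↔ x ∈ typeA M := by
  classical
  unfold typeA
  simp only [isOfTypeI_map_iff, commutator_map, fittingHallOf_map, typeCore_map]
  split <;>
  · simp only [Set.mem_ofPred_eq, mem_map_iff, map_eq_one_iff e e.injective, ne_eq]
    refine and_congr_right fun _ => and_congr_right fun _ => ⟨?_, ?_⟩
    · rintro ⟨y, hy, hy1, hc⟩
      obtain ⟨z, hz, rfl⟩ := hy
      change e x * e z = e z * e x at hc
      rw [← map_mul, ← map_mul] at hc
      exact ⟨z, hz, fun h => hy1 (by rw [h, map_one]), e.injective hc⟩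
    · rintro ⟨z, hz, hz1, hc⟩
      exact ⟨e z, Subgroup.mem_map_of_mem _ hz, fun h => hz1 ((map_eq_one_iff e e.injective).1 h),
        by rw [← map_mul, ← map_mul, hc]⟩

theorem image_typeA (e : G ≃* G') (M : Subgroup G) :
    e '' typeA M = typeA (M.map e.toMonoidHom) := by
  ext y
  obtain ⟨x, rfl⟩ := e.surjective y
  rw [e.injective.mem_set_image, mem_typeA_map_iff]

theorem mem_typeA1_map_iff (e : G ≃* G') (M : Subgroup G) (x : G) :
    e x ∈ typeA1 (M.map e.toMonoidHom) ↔ x ∈ typeA1 M := by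
  rw [← image_typeA1, e.injective.mem_set_image]

end Cfsg.Agent.BGTypeConj
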