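import Mathlib
import Cfsg.Prelude.Def_OddOrderLocal
import Cfsg.Agent.Lib.FittingHallBasic
import Cfsg.Agent.Lib.CoprimeSZ

/-!
Elementary facts about the five types of maximal subgroups (Bender-Glauberman, section 16): the types
I, P are exclusive, II, III/IV, V are exclusive, and type P data is unique up to conjugation.
No hypothesis on the ambient group is used.
-/

set_option autoImplicit false

namespace Cfsg.Agent.BGTypeBasic

open Cfsg
open scoped Pointwise commutatorElement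

variable {G : Type*} [Group G]

theorem conj_smul_eq_map (g : G) (H : Subgroup G) :
    MulAut.conj g • H = H.map (MulAut.conj g).toMonoidHom := rfl

theorem mem_conj_smul {g x : G} {H : Subgroup G} :
    x ∈ MulAut.conj g • H ↔ g⁻¹ * x * g ∈ H := by
  rw [Subgroup.mem_pointwise_smul_iff_inv_smul_mem, ← map_inv]
  simp [MulAut.smul_def]

theorem conj_mem_conj_smul {g x : G} {H : Subgroup G} (hx : x ∈ H) :
    g * x * g⁻¹ ∈ MulAut.conj g • H := by
  rw [mem_conj_smul]; simpa [mul_assoc] using hx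

theorem conj_smul_le_self {M : Subgroup G} {g : G} (hg : g ∈ M) : MulAut.conj g • M = M := by
  ext x
  rw [mem_conj_smul, M.mul_mem_cancel_right hg, M.mul_mem_cancel_left (M.inv_mem hg)]

theorem conj_smul_normalizer (g : G) (H : Subgroup G) :
    Subgroup.normalizer ((MulAut.conj g • H : Subgroup G) : Set G)
      = MulAut.conj g • Subgroup.normalizer (H : Set G) := by
  rw [conj_smul_eq_map, conj_smul_eq_map, Subgroup.map_equiv_normalizer_eq]

theorem conj_smul_centralizer (g : G) (S : Set G) :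
    Subgroup.centralizer ((fun x => g * x * g⁻¹) '' S) = MulAut.conj g • Subgroup.centralizer S := by
  ext x
  rw [mem_conj_smul, Subgroup.mem_centralizer_iff, Subgroup.mem_centralizer_iff]
  constructor
  · intro h s hs
    have := h _ ⟨s, hs, rfl⟩
    have h2 := congrArg (fun t => g⁻¹ * t * g) this
    simpa [mul_assoc] using h2
  · rintro h _ ⟨s, hs, rfl⟩
    have := h s hs
    have h2 := congrArg (fun t => g * t * g⁻¹) this
    simpa [mul_assoc] using h2

/-! ### Complements -/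

theorem isComplIn_swap {A B M : Subgroup G} (h : IsComplIn A B M) : IsComplIn B A M := by
  obtain ⟨hA, hB, hinf, hmul⟩ := h
  refine ⟨hB, hA, by rw [inf_comm, hinf], fun m hm => ?_⟩
  obtain ⟨a, ha, b, hb, hab⟩ := hmul m⁻¹ (M.inv_mem hm)
  exact ⟨b⁻¹, B.inv_mem hb, a⁻¹, A.inv_mem ha, by rw [← mul_inv_rev, ← hab, inv_inv]⟩

theorem le_normalizer_derived (M : Subgroup G) :
    M ≤ Subgroup.normalizer ((⁅M, M⁆ : Subgroup G) : Set G) :=
  Subgroup.normalizer_commutator_ge_left M M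

theorem sup_eq_of_isComplIn {A B M : Subgroup G} (h : IsComplIn A B M) : A ⊔ B = M := by
  refine le_antisymm (sup_le h.1 h.2.1) fun m hm => ?_
  obtain ⟨a, ha, b, hb, rfl⟩ := h.2.2.2 m hm
  exact Subgroup.mul_mem_sup ha hb

theorem isComplement'_subgroupOf {A B M : Subgroup G} (h : IsComplIn A B M) :
    Subgroup.IsComplement' (A.subgroupOf M) (B.subgroupOf M) := by
  obtain ⟨hA, hB, hinf, hmul⟩ := h
  refine Subgroup.isComplement'_of_disjoint_and_mul_eq_univ ?_ ?_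
  · rw [disjoint_iff, ← le_bot_iff]
    rintro x ⟨hxA, hxB⟩
    have : (x : G) ∈ A ⊓ B := ⟨hxA, hxB⟩
    rw [hinf] at this
    exact Subtype.ext this
  · refine Set.eq_univ_of_forall fun x => ?_
    obtain ⟨a, ha, b, hb, hab⟩ := hmul x x.2
    exact ⟨⟨a, hA ha⟩, ha, ⟨b, hB hb⟩, hb, Subtype.ext hab.symm⟩

theorem card_mul_of_isComplIn {A B M : Subgroup G} (h : IsComplIn A B M) :
    Nat.card A * Nat.card B = Nat.card M := by
  rw [← (isComplement'_subgroupOf h).card_mul,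
    Nat.card_congr (Subgroup.subgroupOfEquivOfLe h.1).toEquiv,
    Nat.card_congr (Subgroup.subgroupOfEquivOfLe h.2.1).toEquiv]

theorem relIndex_of_isComplIn [Finite G] {A B M : Subgroup G} (h : IsComplIn A B M) :
    A.relIndex M = Nat.card B ∧ B.relIndex M = Nat.card A :=
  ⟨FittingHallBasic.card_compl_eq_relIndex h,
    FittingHallBasic.card_compl_eq_relIndex (isComplIn_swap h)⟩

theorem isComplIn_conj {A B M : Subgroup G} (h : IsComplIn A B M) (g : G) :
    IsComplIn (MulAut.conj g • A) (MulAut.conj g • B) (MulAut.conj g • M) := by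
  obtain ⟨hA, hB, hinf, hmul⟩ := h
  refine ⟨Subgroup.pointwise_smul_le_pointwise_smul_iff.2 hA,
    Subgroup.pointwise_smul_le_pointwise_smul_iff.2 hB, ?_, fun m hm => ?_⟩
  · rw [← le_bot_iff]
    rintro x ⟨hxA, hxB⟩
    have : g⁻¹ * x * g ∈ A ⊓ B := ⟨mem_conj_smul.1 hxA, mem_conj_smul.1 hxB⟩
    rw [hinf, Subgroup.mem_bot] at this
    rw [Subgroup.mem_bot]
    calc x = g * (g⁻¹ * x * g) * g⁻¹ := by group
      _ = 1 := by rw [this]; group
  · obtain ⟨a, ha, b, hb, hab⟩ := hmul _ (mem_conj_smul.1 hm)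
    refine ⟨g * a * g⁻¹, conj_mem_conj_smul ha, g * b * g⁻¹, conj_mem_conj_smul hb, ?_⟩
    calc m = g * (g⁻¹ * m * g) * g⁻¹ := by group
      _ = g * a * g⁻¹ * (g * b * g⁻¹) := by rw [hab]; group

theorem isComplIn_of_card [Finite G] {A B M : Subgroup G} (hA : A ≤ M) (hB : B ≤ M)
    (hc : (Nat.card A).Coprime (Nat.card B)) (hm : Nat.card A * Nat.card B = Nat.card M) :
    IsComplIn A B M := by
  have hinf := Subgroup.inf_eq_bot_of_coprime hc
  refine ⟨hA, hB, hinf, ?_⟩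
  have h' : Subgroup.IsComplement' (A.subgroupOf M) (B.subgroupOf M) := by
    refine Subgroup.isComplement'_of_coprime ?_ ?_
    · rw [Nat.card_congr (Subgroup.subgroupOfEquivOfLe hA).toEquiv,
        Nat.card_congr (Subgroup.subgroupOfEquivOfLe hB).toEquiv, hm]
    · rw [Nat.card_congr (Subgroup.subgroupOfEquivOfLe hA).toEquiv,
        Nat.card_congr (Subgroup.subgroupOfEquivOfLe hB).toEquiv]
      exact hc
  intro m hm
  obtain ⟨⟨⟨a, ha⟩, ⟨b, hb⟩⟩, hab⟩ := h'.2 ⟨m, hm⟩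
  exact ⟨a, ha, b, hb, (congrArg Subtype.val hab).symm⟩

/-- Two complements of a normalized coprime subgroup are conjugate by an element of it. -/
theorem isComplIn_conjugate [Finite G] {A B B' M : Subgroup G} (hM : M ≤ Subgroup.normalizer (A : Set G))
    (hc : (Nat.card A).Coprime (Nat.card B)) (hs : Group.IsSolvable B ∨ Group.IsSolvable A)
    (h : IsComplIn A B M) (h' : IsComplIn A B' M) : ∃ a ∈ A, MulAut.conj a • B = B' := by
  refine CoprimeSZ.exists_conj_of_card_eq (h.2.1.trans hM) hc.symm hs ?_ ?_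
  · rw [sup_eq_of_isComplIn h]; exact h'.2.1
  · exact Nat.eq_of_mul_eq_mul_left Nat.card_pos
      ((card_mul_of_isComplIn h').trans (card_mul_of_isComplIn h).symm)

/-- A `p`-element of `M` is conjugate in `M` into any subgroup of index prime to `p`. -/
theorem exists_conj_mem_of_not_dvd_relIndex [Finite G] {W M : Subgroup G} {p : ℕ}
    [hp : Fact p.Prime] (hd : ¬ p ∣ W.relIndex M) {u : G} (hu : u ∈ M)
    (hup : IsPGroup p (Subgroup.zpowers u)) :
    ∃ m ∈ M, m⁻¹ * u * m ∈ W := by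
  let a : ↥M := ⟨u, hu⟩
  obtain ⟨k, hk⟩ := hup ⟨u, Subgroup.mem_zpowers u⟩
  have hk' : a ^ p ^ k = 1 := Subtype.ext (by simpa [a] using congrArg Subtype.val hk)
  have hap : IsPGroup p (Subgroup.zpowers a) := by
    rintro ⟨x, j, rfl⟩
    refine ⟨k, Subtype.ext ?_⟩
    show (a ^ j) ^ p ^ k = 1
    rw [← zpow_natCast, ← zpow_mul, mul_comm, zpow_mul, zpow_natCast, hk', one_zpow]
  obtain ⟨c, hc⟩ := hap.nonempty_fixed_point_of_prime_not_dvd_card (↥M ⧸ W.subgroupOf M) (by exact hd)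
  induction c using QuotientGroup.induction_on with
  | H m =>
    have h1 : QuotientGroup.mk (a * m) = (QuotientGroup.mk m : ↥M ⧸ W.subgroupOf M) :=
      hc ⟨a, Subgroup.mem_zpowers a⟩
    refine ⟨m, m.2, ?_⟩
    have := QuotientGroup.eq.mp h1.symm
    rw [Subgroup.mem_subgroupOf] at this
    simpa [a, mul_assoc] using this

/-! ### Facts on type P data -/

variable {M W₁ U W₂ : Subgroup G}

theorem typeP_W₁_le (h : IsTypePWith M W₁ U W₂) : W₁ ≤ M := h.W₁_compl.2.1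

theorem typeP_U_le (h : IsTypePWith M W₁ U W₂) : U ≤ M :=
  h.U_compl.2.1.trans (Subgroup.commutator_le_self _)

theorem typeP_W₂_le_fittingHallOf (h : IsTypePWith M W₁ U W₂) : W₂ ≤ fittingHallOf M :=
  h.W₂_le.trans inf_le_left

theorem typeP_fittingHallOf_le_derived (h : IsTypePWith M W₁ U W₂) : fittingHallOf M ≤ ⁅M, M⁆ :=
  h.U_compl.1

variable [Finite G]

theorem typeP_card_U_coprime (h : IsTypePWith M W₁ U W₂) :
    (Nat.card (fittingHallOf M)).Coprime (Nat.card U) := by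
  rw [← FittingHallBasic.card_compl_eq_relIndex h.U_compl]
  refine (FittingHallBasic.fittingHallOf_coprime M).coprime_dvd_right ?_
  exact ⟨_, (Subgroup.relIndex_mul_relIndex _ _ _ h.U_compl.1 (Subgroup.commutator_le_self _)).symm⟩

theorem typeP_card_W₁_coprime (h : IsTypePWith M W₁ U W₂) :
    (Nat.card ↥⁅M, M⁆).Coprime (Nat.card W₁) := by
  rw [← (relIndex_of_isComplIn h.W₁_compl).2]
  exact h.W₁_hall.symm

theorem typeP_W₁_isSolvable (h : IsTypePWith M W₁ U W₂) : Group.IsSolvable W₁ := by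
  haveI := h.W₁_cyclic
  exact Group.isSolvable_of_comm fun a b => IsMulCommutative.is_comm.comm a b

theorem typeP_U_isSolvable (h : IsTypePWith M W₁ U W₂) : Group.IsSolvable U := by
  haveI := h.U_nilpotent
  infer_instance

theorem typeP_U_eq_bot_iff (h : IsTypePWith M W₁ U W₂) : U = ⊥ ↔ ⁅M, M⁆ = fittingHallOf M := by
  constructor
  · intro hU
    rw [← sup_eq_of_isComplIn h.U_compl, hU, sup_bot_eq]
  · intro hM
    rw [← le_bot_iff, ← h.U_compl.2.2.1]
    exact le_inf (hM ▸ h.U_compl.2.1) le_rfl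

/-- Type P data is unique up to conjugation in `M`. -/
theorem typeP_W_conj {W₁' U' W₂' : Subgroup G} (h : IsTypePWith M W₁ U W₂)
    (h' : IsTypePWith M W₁' U' W₂') :
    ∃ m ∈ M, MulAut.conj m • W₁ = W₁' ∧ MulAut.conj m • W₂ = W₂' := by
  obtain ⟨m, hm, hmW⟩ := isComplIn_conjugate (le_normalizer_derived M)
    (typeP_card_W₁_coprime h) (Or.inl (typeP_W₁_isSolvable h)) h.W₁_compl h'.W₁_compl
  have hmM : m ∈ M := Subgroup.commutator_le_self _ hm
  refine ⟨m, hmM, hmW, ?_⟩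
  obtain ⟨x, hx, hx1⟩ := W₁.bot_or_exists_ne_one.resolve_left h.W₁_ne
  have hx' : m * x * m⁻¹ ∈ W₁' := hmW ▸ conj_mem_conj_smul hx
  have hx1' : m * x * m⁻¹ ≠ 1 := fun he => hx1 (by
    have := congrArg (fun t => m⁻¹ * t * m) he
    simpa [mul_assoc] using this)
  have h2 := h'.W₂_centralizer _ hx' hx1'
  rw [← h.W₂_centralizer x hx hx1, Subgroup.smul_inf, ← conj_smul_centralizer, Set.image_singleton]
  rw [show MulAut.conj m • ⁅M, M⁆ = ⁅M, M⁆ from conj_smul_le_self hm]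
  exact h2

theorem typeP_U_conj {W₁' U' W₂' : Subgroup G} (h : IsTypePWith M W₁ U W₂)
    (h' : IsTypePWith M W₁' U' W₂') :
    ∃ m ∈ M, MulAut.conj m • U = U' := by
  obtain ⟨m, hm, hmU⟩ := isComplIn_conjugate
    ((Subgroup.commutator_le_self _).trans (FittingHallBasic.le_normalizer_fittingHallOf M))
    (typeP_card_U_coprime h) (Or.inl (typeP_U_isSolvable h)) h.U_compl h'.U_compl
  exact ⟨m, FittingHallBasic.fittingHallOf_le M hm, hmU⟩

theorem typeP_normalizer_U_le_iff {W₁' U' W₂' : Subgroup G} (h : IsTypePWith M W₁ U W₂)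
    (h' : IsTypePWith M W₁' U' W₂') :
    Subgroup.normalizer (U : Set G) ≤ M ↔ Subgroup.normalizer (U' : Set G) ≤ M := by
  obtain ⟨m, hm, rfl⟩ := typeP_U_conj h h'
  rw [conj_smul_normalizer]
  conv_rhs => rw [← conj_smul_le_self hm, Subgroup.pointwise_smul_le_pointwise_smul_iff]

/-! ### Exclusivity -/

theorem not_isOfTypeF_of_typeP (h : IsTypePWith M W₁ U W₂) : ¬ IsOfTypeF ↥M := by
  rintro ⟨-, -, -, -, V, -, hV, -, ⟨V₀, hV₀, hexp, hfpf⟩⟩
  obtain ⟨p, hp, hpW⟩ := Nat.exists_prime_and_dvd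
    (fun h1 => h.W₁_ne (W₁.eq_bot_of_card_eq h1))
  haveI := Fact.mk hp
  have hpH : ¬ p ∣ Nat.card (fittingHall ↥M) := fun hd => by
    rw [← FittingHallBasic.card_fittingHallOf] at hd
    exact hp.not_dvd_one ((typeP_card_W₁_coprime h) ▸ Nat.dvd_gcd
      (hd.trans (Subgroup.card_dvd_of_le h.U_compl.1)) hpW)
  have hpV : p ∣ Nat.card V := by
    have h1 : p ∣ Nat.card ↥M := hpW.trans (Subgroup.card_dvd_of_le (typeP_W₁_le h))
    rw [← hV.card_mul] at h1
    exact (hp.dvd_mul.mp h1).resolve_left hpH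
  have hpV₀ : p ∣ Nat.card V₀ := by
    refine (dvd_trans ?_ (hexp ▸ Group.exponent_dvd_nat_card (G := V₀)) : p ∣ _)
    obtain ⟨v, hv⟩ := exists_prime_orderOf_dvd_card' (G := V) p hpV
    exact hv ▸ Monoid.order_dvd_exponent v
  obtain ⟨u, hu⟩ := exists_prime_orderOf_dvd_card' (G := V₀) p hpV₀
  have hu1 : (u : ↥M) ≠ 1 := fun he => hp.ne_one (by
    rw [← hu, ← Subgroup.orderOf_coe, he, orderOf_one])
  have hup : IsPGroup p (Subgroup.zpowers ((u : ↥M) : G)) := by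
    refine IsPGroup.of_card (n := 1) ?_
    rw [Nat.card_zpowers, Subgroup.orderOf_coe, Subgroup.orderOf_coe, hu, pow_one]
  have hnd : ¬ p ∣ W₁.relIndex M := fun hd =>
    hp.not_dvd_one (h.W₁_hall ▸ Nat.dvd_gcd hpW hd)
  obtain ⟨m, hm, hw⟩ := exists_conj_mem_of_not_dvd_relIndex hnd (u : ↥M).2 hup
  have hw1 : m⁻¹ * ((u : ↥M) : G) * m ≠ 1 := fun he => hu1 (Subtype.ext (by
    have := congrArg (fun t => m * t * m⁻¹) he
    simpa [mul_assoc] using this))
  obtain ⟨y, hy, hy1⟩ := W₂.bot_or_exists_ne_one.resolve_left h.selfNormalizing.2.1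
  have hyH := typeP_W₂_le_fittingHallOf h hy
  rw [← h.W₂_centralizer _ hw hw1] at hy
  have hc := Subgroup.mem_centralizer_singleton_iff.mp hy.2
  obtain ⟨⟨y', hy'M⟩, hy'H, hyy'⟩ := hyH
  simp only [Subgroup.coe_subtype] at hyy'
  subst hyy'
  have hz : (⟨m, hm⟩ * ⟨y', hy'M⟩ * ⟨m, hm⟩⁻¹ : ↥M) ∈ fittingHall ↥M :=
    (fittingHall_normal _).conj_mem _ hy'H _
  have hcomm : (u : ↥M) * (⟨m, hm⟩ * ⟨y', hy'M⟩ * ⟨m, hm⟩⁻¹) =
      ⟨m, hm⟩ * ⟨y', hy'M⟩ * ⟨m, hm⟩⁻¹ * u := by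
    apply Subtype.ext
    simp only [Subgroup.coe_mul, InvMemClass.coe_inv]
    have h2 := congrArg (fun t => m * t * m⁻¹) hc
    simp only [mul_assoc, inv_mul_cancel_left, mul_inv_cancel_left, mul_inv_cancel, mul_one] at h2 ⊢
    first
    | exact h2
    | exact h2.symm
  have := hfpf u u.2 hu1 _ hz hcomm
  apply hy1
  have h3 := congrArg (fun t : ↥M => m⁻¹ * (t : G) * m) this
  simpa [mul_assoc] using h3

theorem not_typeI_of_typeP (h : IsTypePWith M W₁ U W₂) : ¬ IsOfTypeI M :=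
  fun hI => not_isOfTypeF_of_typeP h hI.1

theorem not_typeI_of_isOfTypeP (h : IsOfTypeP M) : ¬ IsOfTypeI M := by
  obtain ⟨W₁, U, W₂, h⟩ := h
  exact not_typeI_of_typeP h

omit [Finite G] in
theorem isOfTypeP_of_typeII (h : IsOfTypeII M) : IsOfTypeP M := by
  obtain ⟨W₁, U, W₂, h, -⟩ := h; exact ⟨W₁, U, W₂, h⟩

omit [Finite G] in
theorem isOfTypeP_of_typeIII (h : IsOfTypeIII M) : IsOfTypeP M := by
  obtain ⟨W₁, U, W₂, h, -⟩ := h; exact ⟨W₁, U, W₂, h⟩

omit [Finite G] in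
theorem isOfTypeP_of_typeIV (h : IsOfTypeIV M) : IsOfTypeP M := by
  obtain ⟨W₁, U, W₂, h, -⟩ := h; exact ⟨W₁, U, W₂, h⟩

omit [Finite G] in
theorem isOfTypeP_of_typeV (h : IsOfTypeV M) : IsOfTypeP M := by
  obtain ⟨W₁, U, W₂, h, -⟩ := h; exact ⟨W₁, U, W₂, h⟩

theorem derived_ne_of_typeII (h : IsOfTypeII M) : ⁅M, M⁆ ≠ fittingHallOf M := by
  obtain ⟨W₁, U, W₂, h, hU, -⟩ := h
  exact fun he => hU ((typeP_U_eq_bot_iff h).2 he)

theorem derived_ne_of_typeIII_or_IV (h : IsOfTypeIII M ∨ IsOfTypeIV M) :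
    ⁅M, M⁆ ≠ fittingHallOf M := by
  rcases h with ⟨W₁, U, W₂, h, hU, -⟩ | ⟨W₁, U, W₂, h, hU, -⟩ <;>
    exact fun he => hU ((typeP_U_eq_bot_iff h).2 he)

theorem derived_eq_of_typeV (h : IsOfTypeV M) : ⁅M, M⁆ = fittingHallOf M := by
  obtain ⟨W₁, U, W₂, h, hU, -⟩ := h
  exact (typeP_U_eq_bot_iff h).1 hU

theorem not_typeII_of_typeV (h : IsOfTypeV M) : ¬ IsOfTypeII M :=
  fun h2 => derived_ne_of_typeII h2 (derived_eq_of_typeV h)

theorem not_typeIII_or_IV_of_typeV (h : IsOfTypeV M) : ¬ (IsOfTypeIII M ∨ IsOfTypeIV M) :=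
  fun h2 => derived_ne_of_typeIII_or_IV h2 (derived_eq_of_typeV h)

theorem not_typeIII_or_IV_of_typeII (h : IsOfTypeII M) : ¬ (IsOfTypeIII M ∨ IsOfTypeIV M) := by
  obtain ⟨W₁, U, W₂, hd, -, -, -, -, hN, -⟩ := h
  rintro (⟨W₁', U', W₂', h', -, -, -, -, hN'⟩ | ⟨W₁', U', W₂', h', -, -, -, -, hN'⟩) <;>
    exact hN ((typeP_normalizer_U_le_iff hd h').2 hN')

theorem typeCore_of_typeIII_or_IV (h : IsOfTypeIII M ∨ IsOfTypeIV M) : typeCore M = ⁅M, M⁆ :=
  if_pos h

omit [Finite G] in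
theorem typeCore_of_not (h : ¬ (IsOfTypeIII M ∨ IsOfTypeIV M)) : typeCore M = fittingHallOf M :=
  if_neg h

end Cfsg.Agent.BGTypeBasic
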