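import Cfsg.Agent.Lib.BGSigmaCore
import Cfsg.Agent.Lib.BGTypeBasic

/-!
Setup for Bender-Glauberman section 16: the standard factorisation of a maximal subgroup, and
elementary consequences of the Hall property of the sigma core.
-/

set_option autoImplicit false

namespace Cfsg.Agent.BGTypeSetup

open Cfsg
open BGTypeBasic FittingHallBasic
open scoped Pointwise commutatorElement

variable {G : Type*} [Group G] [Finite G]

/-! ### Generalities -/

theorem le_normalizer_sigmaCore (M : Subgroup G) :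
    M ≤ Subgroup.normalizer (sigmaCore M : Set G) := BGSigma.le_normalizer_core _ M

omit [Finite G] in
theorem sigmaCore_le (M : Subgroup G) : sigmaCore M ≤ M := Subgroup.map_subtype_le _

theorem conj_mem_sigmaCore {M : Subgroup G} {m x : G} (hm : m ∈ M) (hx : x ∈ sigmaCore M) :
    m * x * m⁻¹ ∈ sigmaCore M :=
  (Subgroup.mem_normalizer_iff.mp (le_normalizer_sigmaCore M hm) x).mp hx

theorem conj_mem_fittingHallOf {M : Subgroup G} {m x : G} (hm : m ∈ M) (hx : x ∈ fittingHallOf M) :
    m * x * m⁻¹ ∈ fittingHallOf M :=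
  (Subgroup.mem_normalizer_iff.mp (le_normalizer_fittingHallOf M hm) x).mp hx

omit [Finite G] in
theorem fittingHallOf_subgroupOf (M : Subgroup G) :
    (fittingHallOf M).subgroupOf M = fittingHall ↥M :=
  Subgroup.comap_map_eq_self_of_injective M.subtype_injective _

theorem coprime_of_primes {m n : ℕ} (h : ∀ q : ℕ, q.Prime → q ∣ m → q ∣ n → False) : m.Coprime n := by
  rw [Nat.coprime_iff_gcd_eq_one]
  by_contra hne
  obtain ⟨q, hq, hd⟩ := Nat.exists_prime_and_dvd hne
  exact h q hq (hd.trans (Nat.gcd_dvd_left _ _)) (hd.trans (Nat.gcd_dvd_right _ _))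

/-- An element of `M` of order coprime to the relative index of a normal subgroup lies in it. -/
theorem mem_of_orderOf_coprime_relIndex {N M : Subgroup G} (hn : M ≤ Subgroup.normalizer (N : Set G))
    {a : G} (ha : a ∈ M) (hc : (orderOf a).Coprime (N.relIndex M)) : a ∈ N := by
  haveI := Subgroup.normal_subgroupOf_of_le_normalizer hn
  have h1 : orderOf (QuotientGroup.mk' (N.subgroupOf M) ⟨a, ha⟩) ∣ 1 := by
    rw [← hc.gcd_eq_one]
    refine Nat.dvd_gcd ?_ (orderOf_dvd_natCard _)
    exact (orderOf_map_dvd _ _).trans (by rw [Subgroup.orderOf_mk])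
  rw [Nat.dvd_one, orderOf_eq_one_iff, QuotientGroup.mk'_apply, QuotientGroup.eq_one_iff] at h1
  exact h1

/-- A subgroup of order coprime to the relative index of a normalized subgroup lies in it. -/
theorem le_of_card_coprime_relIndex {N M A : Subgroup G} (hn : M ≤ Subgroup.normalizer (N : Set G))
    (hA : A ≤ M) (hc : (Nat.card A).Coprime (N.relIndex M)) : A ≤ N := fun _ ha =>
  mem_of_orderOf_coprime_relIndex hn (hA ha)
    (hc.coprime_dvd_left (Subgroup.orderOf_dvd_natCard _ ha))

/-! ### Maximal subgroups -/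

variable {M : Subgroup G} (hG : IsMinSimpleOddOrder G) (hM : IsCoatom M)
include hG hM

theorem sigmaCore_hall : IsPiHallOf (sigma M) (sigmaCore M) M ∧ IsPiHall (sigma M) (sigmaCore M) :=
  BGSigma.hall_sigma hG hM

theorem mem_sigma_of_dvd {q : ℕ} (hq : q.Prime) (hd : q ∣ Nat.card (sigmaCore M)) : q ∈ sigma M :=
  (sigmaCore_hall hG hM).1.2.1 q hq hd

theorem not_mem_sigma_of_dvd_relIndex {q : ℕ} (hq : q.Prime)
    (hd : q ∣ (sigmaCore M).relIndex M) : q ∉ sigma M :=
  fun h => (sigmaCore_hall hG hM).1.2.2 q hq h hd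

theorem sigmaCore_coprime :
    (Nat.card (sigmaCore M)).Coprime ((sigmaCore M).relIndex M) :=
  coprime_of_primes fun _ hq h1 h2 =>
    not_mem_sigma_of_dvd_relIndex hG hM hq h2 (mem_sigma_of_dvd hG hM hq h1)

theorem sigmaCore_coprime_index : (Nat.card (sigmaCore M)).Coprime (sigmaCore M).index :=
  coprime_of_primes fun q hq h1 h2 =>
    (sigmaCore_hall hG hM).2.2 q hq ((sigmaCore_hall hG hM).2.1 q hq h1) h2

theorem sigma_element_mem {a : G} (ha : a ∈ M)
    (h : ∀ q : ℕ, q.Prime → q ∣ orderOf a → q ∈ sigma M) : a ∈ sigmaCore M :=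
  mem_of_orderOf_coprime_relIndex (le_normalizer_sigmaCore M) ha
    (coprime_of_primes fun q hq h1 h2 => not_mem_sigma_of_dvd_relIndex hG hM hq h2 (h q hq h1))

theorem derived_lt : ⁅M, M⁆ < M := by
  refine lt_of_le_of_ne (Subgroup.commutator_le_self M) fun h => ?_
  haveI := BGUnique.isSolvable_of_ne_top hG hM.1
  haveI : Nontrivial M := (Subgroup.nontrivial_iff_ne_bot M).mpr (BGSigma.coatom_ne_bot hG hM)
  refine (IsSolvable.commutator_lt_top_of_nontrivial M).ne ?_
  rw [← Subgroup.map_subtype_commutator] at h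
  refine Subgroup.map_injective M.subtype_injective ?_
  rw [h, ← MonoidHom.range_eq_map, Subgroup.range_subtype]

theorem normalizer_eq_of_normal {D : Subgroup G} (hD : D ≠ ⊥) (hDM : D ≤ M)
    (hn : M ≤ Subgroup.normalizer (D : Set G)) : Subgroup.normalizer (D : Set G) = M :=
  BGUnique.normalizer_le_of_coatom hG hM hD hDM hn

omit hM in
theorem odd_card (H : Subgroup G) : Odd (Nat.card H) := BGUnique.odd_card_subgroup hG H

/-! ### The standard factorisation -/

variable {K U : Subgroup G} (hKU : IsSigmaDecomposition M K U)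
include hKU

omit hG hM in
theorem K_le : K ≤ M := hKU.hall.1

omit hG hM in
theorem U_le : U ≤ M := hKU.compl.1

omit hG hM hKU [Finite G] in
theorem not_mem_sigma_of_kappa {q : ℕ} (h : q ∈ kappa M) : q ∉ sigma M := h.2.2.1

theorem coprime_K_sigmaCore : (Nat.card K).Coprime (Nat.card (sigmaCore M)) :=
  coprime_of_primes fun q hq h1 h2 =>
    not_mem_sigma_of_kappa (hKU.hall.2.1 q hq h1) (mem_sigma_of_dvd hG hM hq h2)

theorem K_inf_sigmaCore : K ⊓ sigmaCore M = ⊥ :=
  Subgroup.inf_eq_bot_of_coprime (coprime_K_sigmaCore hG hM hKU)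

theorem card_K_sup_sigmaCore :
    Nat.card ↥(sigmaCore M ⊔ K) = Nat.card (sigmaCore M) * Nat.card K := by
  refine (card_mul_of_isComplIn (A := sigmaCore M) (B := K) ⟨le_sup_left, le_sup_right, ?_, ?_⟩).symm
  · rw [inf_comm, K_inf_sigmaCore hG hM hKU]
  · intro m hm
    rw [← SetLike.mem_coe, Subgroup.coe_mul_of_right_le_normalizer_left _ _
      ((K_le hKU).trans (le_normalizer_sigmaCore M))] at hm
    obtain ⟨a, ha, b, hb, hab⟩ := Set.mem_mul.mp hm
    exact ⟨a, ha, b, hb, hab.symm⟩

theorem card_decomp :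
    Nat.card U * (Nat.card (sigmaCore M) * Nat.card K) = Nat.card M := by
  rw [← card_K_sup_sigmaCore hG hM hKU, sup_comm]
  exact card_mul_of_isComplIn hKU.compl

theorem relIndex_sigmaCore :
    (sigmaCore M).relIndex M = Nat.card U * Nat.card K :=
  Nat.eq_of_mul_eq_mul_left (Nat.card_pos (α := sigmaCore M)) <| by
    rw [HallCore.card_mul_relIndex (sigmaCore_le M), ← card_decomp hG hM hKU]; ring

theorem relIndex_K : K.relIndex M = Nat.card U * Nat.card (sigmaCore M) :=
  Nat.eq_of_mul_eq_mul_left (Nat.card_pos (α := K)) <| by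
    rw [HallCore.card_mul_relIndex (K_le hKU), ← card_decomp hG hM hKU]; ring

theorem U_primes {q : ℕ} (hq : q.Prime) (hd : q ∣ Nat.card U) : q ∉ sigma M ∧ q ∉ kappa M :=
  ⟨not_mem_sigma_of_dvd_relIndex hG hM hq (relIndex_sigmaCore hG hM hKU ▸ dvd_mul_of_dvd_left hd _),
    fun h => hKU.hall.2.2 q hq h (relIndex_K hG hM hKU ▸ dvd_mul_of_dvd_left hd _)⟩

theorem coprime_U_sigmaCore : (Nat.card U).Coprime (Nat.card (sigmaCore M)) :=
  coprime_of_primes fun _ hq h1 h2 => (U_primes hG hM hKU hq h1).1 (mem_sigma_of_dvd hG hM hq h2)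

theorem coprime_U_K : (Nat.card U).Coprime (Nat.card K) :=
  coprime_of_primes fun q hq h1 h2 => (U_primes hG hM hKU hq h1).2 (hKU.hall.2.1 q hq h2)

theorem compl_of_K_bot (hK : K = ⊥) : IsComplIn (sigmaCore M) U M := by
  subst hK
  have h := isComplIn_swap hKU.compl
  rwa [bot_sup_eq] at h

theorem U_ne_bot_of_K_bot (hK : K = ⊥) : U ≠ ⊥ := fun hU => by
  have h := sup_eq_of_isComplIn (compl_of_K_bot hG hM hKU hK)
  rw [hU, sup_bot_eq] at h
  exact (derived_lt hG hM).not_ge
    (le_of_eq_of_le h.symm (BGSigma.sigmaCore_le_commutator hG hM))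

theorem kappa_eq_empty_iff : kappa M = ∅ ↔ K = ⊥ := by
  constructor
  · intro h
    by_contra hne
    obtain ⟨q, hq, hd⟩ := Nat.exists_prime_and_dvd (fun h1 => hne (K.eq_bot_of_card_eq h1))
    exact Set.eq_empty_iff_forall_notMem.mp h q (hKU.hall.2.1 q hq hd)
  · intro h
    refine Set.eq_empty_iff_forall_notMem.mpr fun q hq => ?_
    subst h
    have hnd := hKU.hall.2.2 q hq.1 hq
    rw [Subgroup.relIndex_bot_left] at hnd
    exact hnd hq.2.1

theorem kappa_nonempty_iff : (kappa M).Nonempty ↔ K ≠ ⊥ := by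
  rw [Set.nonempty_iff_ne_empty, Ne, kappa_eq_empty_iff hG hM hKU]

omit hG hM in
/-- Conjugating a standard factorisation inside `M` gives another one. -/
theorem decomp_conj {m : G} (hm : m ∈ M) :
    IsSigmaDecomposition M (MulAut.conj m • K) (MulAut.conj m • U) := by
  have hMm := conj_smul_le_self hm
  have hS : MulAut.conj m • sigmaCore M = sigmaCore M :=
    BGSigma.conj_le_normalizer (le_normalizer_sigmaCore M hm)
  refine ⟨?_, ?_, ?_, ?_⟩
  · haveI := hKU.cyclic
    exact (Subgroup.equivSMul (MulAut.conj m) K).isCyclic.mp inferInstance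
  · obtain ⟨h1, h2, h3⟩ := hKU.hall
    refine ⟨hMm ▸ Subgroup.pointwise_smul_le_pointwise_smul_iff.2 h1, fun q hq hd => ?_, fun q hq hk hd => ?_⟩
    · exact h2 q hq (by rwa [← Nat.card_congr (Subgroup.equivSMul (MulAut.conj m) K).toEquiv] at hd)
    · refine h3 q hq hk ?_
      rw [← hMm] at hd
      rwa [Subgroup.relIndex_pointwise_smul] at hd
  · have h := isComplIn_conj hKU.compl m
    rwa [hMm, Subgroup.smul_sup, hS] at h
  · rw [conj_smul_normalizer]
    exact Subgroup.pointwise_smul_le_pointwise_smul_iff.2 hKU.normal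

end Cfsg.Agent.BGTypeSetup
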