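import Mathlib
import Cfsg.Agent.Lib.CharBasicDecomp
import Cfsg.Agent.Lib.BlockTheoryIdem
import Cfsg.Agent.Lib.ClassAlgebraVal

/-!
# Sums of characters over `p`-regular elements, without induction theorems

The sum of a character over the elements of order prime to `p` is a rational integer divisible by the
`p'`-part of the group order.
-/

set_option autoImplicit false

open scoped ComplexConjugate

namespace Cfsg.Agent.BlockContribPrime

universe u v

variable {G : Type u} [Group G]

/-- Averaging a character over one factor of a product with an abelian group gives an integral value. -/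
theorem isIntegral_avg {A : Type*} [CommGroup A] [Fintype A] {R : Type*} [Group R] [Fintype R]
    (f : A × R →* G) {χ : G → ℂ} (hχ : Cfsg.IsCharacter G χ) (a : A) :
    IsIntegral ℤ ((Nat.card R : ℂ)⁻¹ * ∑ r : R, χ (f (a, r))) := by
  set avg : A → ℂ := fun a => (Nat.card R : ℂ)⁻¹ * ∑ r : R, χ (f (a, r)) with havg
  have hcl : Cfsg.IsClassFunction A avg := fun g h => by rw [mul_comm h g, mul_inv_cancel_right]
  have hψ : Cfsg.IsCharacter (A × R) (χ ∘ f) := CharBasic.isCharacter_comap f hχ
  have h := congrFun (CharBasicOrth.eq_sum_classInner hcl) a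
  show IsIntegral ℤ (avg a)
  rw [h, Finset.sum_apply]
  refine IsIntegral.sum _ fun lam _ => ?_
  rw [Pi.smul_apply, smul_eq_mul]
  have hlam := CharBasic.isCharacter_of_isIrrCharacter lam.2
  obtain ⟨n, hn⟩ := CharBasicOrth.classInner_isCharacter hψ
    (CharBasic.isCharacter_comap (MonoidHom.fst A R) hlam)
  have heq : Cfsg.classInner avg (lam : A → ℂ) = (n : ℂ) := by
    rw [← hn]
    simp only [Cfsg.classInner, havg, Nat.card_prod, Fintype.sum_prod_type, Function.comp_apply,
      MonoidHom.coe_fst, Finset.mul_sum, Finset.sum_mul]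
    refine Finset.sum_congr rfl fun b _ => Finset.sum_congr rfl fun r _ => ?_
    push_cast
    rw [mul_inv]; ring
  rw [heq]
  exact (isIntegral_algebraMap (x := (n : ℤ))).mul (CharBasic.isCharacter_integral hlam a)

open scoped Classical in
/-- The average of a character over a coset `y R` of a subgroup centralizing `y`. -/
theorem isIntegral_avg_coset [Fintype G] {χ : G → ℂ} (hχ : Cfsg.IsCharacter G χ) (y : G)
    (R : Subgroup G) (hy : ∀ r ∈ R, Commute y r) :
    IsIntegral ℤ ((Nat.card R : ℂ)⁻¹ * ∑ r : R, χ (y * r)) := by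
  let f : Subgroup.zpowers y × R →* G :=
    MonoidHom.noncommCoprod (Subgroup.zpowers y).subtype R.subtype fun a r => by
      obtain ⟨k, hk⟩ := Subgroup.mem_zpowers_iff.1 a.2
      show Commute (a : G) (r : G)
      rw [← hk]
      exact (hy r r.2).zpow_left k
  letI : CommGroup (Subgroup.zpowers y) := IsCyclic.commGroup
  exact isIntegral_avg f hχ ⟨y, Subgroup.mem_zpowers y⟩

section Sylow

variable {C : Type v} [Group C] [Fintype C]

open scoped Classical in
/-- A class function with integral averages over all `q`-subgroups has integral average over the set of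
`q`-elements, weighted by the `q`-part of the group order. -/
theorem isIntegral_sum_qElements {q : ℕ} (hq : q.Prime) (F : C → ℂ) (hF : Cfsg.IsClassFunction C F)
    (hint : ∀ c, IsIntegral ℤ (F c))
    (havg : ∀ R : Subgroup C, IsPGroup q R → IsIntegral ℤ ((Nat.card R : ℂ)⁻¹ * ∑ r : R, F r)) :
    IsIntegral ℤ (((q : ℂ) ^ (Nat.card C).factorization q)⁻¹ *
      ∑ u ∈ Finset.univ.filter (fun u : C => ∃ k, orderOf u = q ^ k), F u) := by
  have : Fact q.Prime := ⟨hq⟩
  set b := (Nat.card C).factorization q with hb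
  obtain ⟨Q⟩ : Nonempty (Sylow q C) := inferInstance
  set U := Finset.univ.filter (fun u : C => ∃ k, orderOf u = q ^ k) with hU
  set X := C ⧸ (Q : Subgroup C) with hX
  let w : C → ℕ := fun u => Nat.card (MulAction.fixedBy X u)
  let T : ℕ → ℂ := fun k => ∑ u ∈ U, F u * (w u : ℂ) ^ k
  have hq0 : (q : ℂ) ^ b ≠ 0 := pow_ne_zero _ (Nat.cast_ne_zero.2 hq.ne_zero)
  -- higher moments
  have hT : ∀ k : ℕ, IsIntegral ℤ (((q : ℂ) ^ b)⁻¹ * T (k + 1)) := by
    intro k
    set Y := Fin (k + 1) → X with hY
    let z : Y → ℂ := fun t => (Nat.card (MulAction.stabilizer C t) : ℂ)⁻¹ *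
      ∑ r : MulAction.stabilizer C t, F r
    have hstabp : ∀ t : Y, IsPGroup q (MulAction.stabilizer C t) := by
      intro t
      obtain ⟨c, hc⟩ := QuotientGroup.mk_surjective (t 0)
      intro r
      have h1 : (r : C) • t 0 = t 0 := congrFun (MulAction.mem_stabilizer_iff.1 r.2) 0
      rw [← hc] at h1
      have h2 : ((r : C) * c)⁻¹ * c ∈ (Q : Subgroup C) := QuotientGroup.eq.1 h1
      obtain ⟨n, hn⟩ := Q.isPGroup' ⟨_, (Q : Subgroup C).inv_mem h2⟩
      refine ⟨n, Subtype.ext ?_⟩
      have h3 : (c⁻¹ * ((r : C) * c)) ^ q ^ n = 1 := by simpa using congrArg Subtype.val hn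
      rw [← mul_assoc, show c⁻¹ * (r : C) * c = c⁻¹ * (r : C) * c⁻¹⁻¹ by rw [inv_inv], conj_pow,
        mul_inv_eq_one, mul_eq_left] at h3
      simpa using h3
    have hsum : T (k + 1) = ∑ t : Y, (Nat.card (MulAction.stabilizer C t) : ℂ) * z t := by
      have h1 : ∀ u : C, ((w u : ℂ)) ^ (k + 1) = ∑ t : Y, if u • t = t then 1 else 0 := by
        intro u
        rw [Finset.sum_boole, ← Fintype.card_subtype, ← Nat.card_eq_fintype_card, ← Nat.cast_pow]
        congr 1
        have e : {t : Y // u • t = t} ≃ (Fin (k + 1) → MulAction.fixedBy X u) :=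
          (Equiv.subtypeEquivRight fun t => funext_iff).trans
            (Equiv.subtypePiEquivPi (p := fun _ x => u • x = x))
        rw [Nat.card_congr e, Nat.card_fun, Nat.card_fin]
      simp only [T, h1, Finset.mul_sum, mul_ite, mul_one, mul_zero]
      rw [Finset.sum_comm]
      refine Finset.sum_congr rfl fun t _ => ?_
      have hc : (Nat.card (MulAction.stabilizer C t) : ℂ) ≠ 0 := Nat.cast_ne_zero.2 Nat.card_pos.ne'
      rw [← Finset.sum_filter]
      simp only [z]
      rw [← mul_assoc, mul_inv_cancel₀ hc, one_mul]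
      refine (Finset.sum_subtype _ (fun u => ?_) F)
      simp only [hU, Finset.mem_filter, Finset.mem_univ, true_and, MulAction.mem_stabilizer_iff]
      refine ⟨fun h => h.2, fun h => ⟨?_, h⟩⟩
      obtain ⟨j, hj⟩ := IsPGroup.iff_orderOf.1 (hstabp t) ⟨u, h⟩
      exact ⟨j, by rw [← hj, ← Subgroup.orderOf_coe]⟩
    rw [hsum, ← Finset.sum_fiberwise (Finset.univ : Finset Y) (Quotient.mk (MulAction.orbitRel C Y)),
      Finset.mul_sum]
    refine IsIntegral.sum _ fun O _ => ?_
    obtain ⟨t, rfl⟩ := Quotient.exists_rep O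
    have hfib : ∀ s ∈ Finset.univ.filter (fun s : Y => Quotient.mk (MulAction.orbitRel C Y) s =
        Quotient.mk (MulAction.orbitRel C Y) t),
        (Nat.card (MulAction.stabilizer C s) : ℂ) * z s = (Nat.card (MulAction.stabilizer C t) : ℂ) * z t := by
      intro s hs
      obtain ⟨g, hg⟩ : s ∈ MulAction.orbit C t := Quotient.exact (Finset.mem_filter.1 hs).2
      have hg' : g • t = s := hg
      subst hg'
      let e : MulAction.stabilizer C t ≃ MulAction.stabilizer C (g • t) :=
        { toFun := fun r => ⟨g * r * g⁻¹, by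
            have := MulAction.mem_stabilizer_iff.1 r.2
            rw [MulAction.mem_stabilizer_iff, mul_smul, mul_smul, inv_smul_smul, this]⟩
          invFun := fun r => ⟨g⁻¹ * r * g, by
            have := MulAction.mem_stabilizer_iff.1 r.2
            rw [MulAction.mem_stabilizer_iff, mul_smul, mul_smul, this, inv_smul_smul]⟩
          left_inv := fun r => Subtype.ext (show g⁻¹ * (g * r * g⁻¹) * g = r by group)
          right_inv := fun r => Subtype.ext (show g * (g⁻¹ * r * g) * g⁻¹ = r by group) }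
      have hsumF : ∑ r : MulAction.stabilizer C (g • t), F r = ∑ r : MulAction.stabilizer C t, F r :=
        (Fintype.sum_equiv e _ _ fun r => (hF (r : C) g).symm).symm
      simp only [z, hsumF, ← Nat.card_congr e]
    rw [Finset.sum_congr rfl hfib, Finset.sum_const, nsmul_eq_mul, ← mul_assoc ((Finset.card _ : ℕ) : ℂ)]
    have hcard : (Finset.univ.filter (fun s : Y => Quotient.mk (MulAction.orbitRel C Y) s =
        Quotient.mk (MulAction.orbitRel C Y) t)).card * Nat.card (MulAction.stabilizer C t) = Nat.card C := by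
      have h4 := MulAction.card_orbit_mul_card_stabilizer_eq_card_group C t
      simp only [← Nat.card_eq_fintype_card] at h4
      rw [← h4]
      congr 1
      rw [Nat.card_eq_fintype_card, ← Fintype.card_subtype]
      exact (Fintype.card_congr (Equiv.subtypeEquivRight fun s => Quotient.eq))
    rw [← Nat.cast_mul, hcard, ← mul_assoc]
    refine IsIntegral.mul ?_ (show IsIntegral ℤ (z t) by convert havg _ (hstabp t) using 4)
    have : (Nat.card C : ℂ) = (q : ℂ) ^ b * (Nat.card C / q ^ b : ℕ) := by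
      exact_mod_cast (Nat.ordProj_mul_ordCompl_eq_self (Nat.card C) q).symm
    rw [this, ← mul_assoc, inv_mul_cancel₀ hq0, one_mul]
    exact isIntegral_algebraMap (x := ((Nat.card C / q ^ b : ℕ) : ℤ))
  -- the weights are congruent to a unit
  have hNq : ¬ q ∣ Nat.card X := Q.not_dvd_index
  have hcop : IsCoprime (q : ℤ) (Nat.card X : ℤ) :=
    Int.isCoprime_iff_nat_coprime.2 (by simpa using hq.coprime_iff_not_dvd.2 hNq)
  obtain ⟨e, c, hec⟩ := hcop
  have hdiv : ∀ u ∈ U, (q : ℤ) ^ b ∣ (1 - c * (w u : ℤ)) ^ b := by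
    intro u hu
    refine pow_dvd_pow_of_dvd ?_ b
    obtain ⟨k, hk⟩ := (Finset.mem_filter.1 hu).2
    have hP : IsPGroup q (Subgroup.zpowers u) :=
      IsPGroup.of_card (n := k) (by rw [Nat.card_zpowers, hk])
    have h1 := hP.card_modEq_card_fixedPoints X
    have h2 : MulAction.fixedPoints (Subgroup.zpowers u) X = MulAction.fixedBy X u := by
      ext x
      rw [MulAction.mem_fixedPoints, MulAction.mem_fixedBy]
      refine ⟨fun h => h ⟨u, Subgroup.mem_zpowers u⟩, fun h g => ?_⟩
      obtain ⟨j, hj⟩ := Subgroup.mem_zpowers_iff.1 g.2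
      show (g : C) • x = x
      rw [← hj]
      exact MulAction.mem_stabilizer_iff.1 (Subgroup.zpow_mem _ (MulAction.mem_stabilizer_iff.2 h) j)
    rw [h2] at h1
    have h3 : (q : ℤ) ∣ (w u : ℤ) - (Nat.card X : ℤ) := Int.modEq_iff_dvd.1 (Int.natCast_modEq_iff.2 h1)
    have : 1 - c * (w u : ℤ) = e * q - c * ((w u : ℤ) - Nat.card X) := by linear_combination -hec
    rw [this]
    exact dvd_sub (dvd_mul_left _ _) (h3.mul_left c)
  choose! d hd using hdiv
  have hexp : ∑ u ∈ U, F u * (((q : ℤ) ^ b * d u : ℤ) : ℂ) =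
      ∑ k ∈ Finset.range (b + 1), (b.choose k : ℂ) * (-(c : ℂ)) ^ k * T k := by
    simp only [T, Finset.mul_sum]
    rw [Finset.sum_comm]
    refine Finset.sum_congr rfl fun u hu => ?_
    rw [← hd u hu]
    push_cast
    rw [sub_eq_neg_add, add_pow, Finset.mul_sum]
    refine Finset.sum_congr rfl fun k _ => ?_
    rw [one_pow, ← neg_mul, mul_pow]
    ring
  rw [Finset.sum_range_succ'] at hexp
  have hT0 : ∑ u ∈ U, F u = T 0 := by simp [T]
  have hrew : ((q : ℂ) ^ b)⁻¹ * ∑ u ∈ U, F u =
      ∑ u ∈ U, F u * (d u : ℂ) -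
        ∑ k ∈ Finset.range b, (b.choose (k + 1) : ℂ) * (-(c : ℂ)) ^ (k + 1) * (((q : ℂ) ^ b)⁻¹ * T (k + 1)) := by
    rw [hT0]
    refine mul_left_cancel₀ hq0 ?_
    rw [mul_sub, ← mul_assoc, mul_inv_cancel₀ hq0, one_mul, Finset.mul_sum, Finset.mul_sum, eq_sub_iff_add_eq]
    simp only [Nat.choose_zero_right, Nat.cast_one, pow_zero, one_mul] at hexp
    rw [add_comm]
    calc (∑ k ∈ Finset.range b, (q : ℂ) ^ b * ((b.choose (k + 1) : ℂ) * (-(c : ℂ)) ^ (k + 1) * (((q : ℂ) ^ b)⁻¹ * T (k + 1)))) + T 0
        = (∑ k ∈ Finset.range b, (b.choose (k + 1) : ℂ) * (-(c : ℂ)) ^ (k + 1) * T (k + 1)) + T 0 := by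
          refine congrArg (· + T 0) (Finset.sum_congr rfl fun k _ => ?_)
          field_simp
      _ = ∑ u ∈ U, F u * (((q : ℤ) ^ b * d u : ℤ) : ℂ) := hexp.symm
      _ = _ := Finset.sum_congr rfl fun u _ => by push_cast; ring
  rw [hrew]
  refine IsIntegral.sub (IsIntegral.sum _ fun u _ => (hint u).mul (isIntegral_algebraMap (x := d u))) (IsIntegral.sum _ fun k _ => ?_)
  exact ((isIntegral_algebraMap (x := ((b.choose (k + 1) : ℕ) : ℤ))).mul
    (((isIntegral_algebraMap (x := c)).neg).pow _)).mul (hT k)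

end Sylow

variable [Fintype G]

open scoped Classical in
/-- The sum of a function over the `p`-regular elements. -/
noncomputable def regSum (p : ℕ) (F : G → ℂ) : ℂ :=
  ∑ g ∈ Finset.univ.filter (fun g : G => ¬ p ∣ orderOf g), F g

theorem isIntegral_regSum_div_qPart {p q : ℕ} (hp : p.Prime) (hq : q.Prime) (hqp : q ≠ p)
    {χ : G → ℂ} (hχ : Cfsg.IsCharacter G χ) :
    IsIntegral ℤ (((q : ℂ) ^ (Nat.card G).factorization q)⁻¹ * regSum p χ) := by
  classical
  set b := (Nat.card G).factorization q with hb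
  have hqp' : ∀ k, ¬ p ∣ q ^ k := fun k h => hqp
    ((Nat.prime_dvd_prime_iff_eq hp hq).1 (hp.dvd_of_dvd_pow h)).symm
  set Y := Finset.univ.filter (fun y : G => ¬ p ∣ orderOf y ∧ ¬ q ∣ orderOf y) with hY
  let T : G → ℂ := fun y => ∑ u ∈ Finset.univ.filter
    (fun u : G => (∃ k, orderOf u = q ^ k) ∧ Commute u y), χ (u * y)
  have hdec : regSum p χ = ∑ y ∈ Y, T y := by
    simp only [regSum, T]
    rw [Finset.sum_sigma']
    symm
    refine Finset.sum_bij (fun a _ => a.2 * a.1) ?_ ?_ ?_ (fun a _ => rfl)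
    · intro a ha
      simp only [hY, Finset.mem_sigma, Finset.mem_filter, Finset.mem_univ, true_and] at ha ⊢
      obtain ⟨⟨h1, h2⟩, ⟨k, hk⟩, hc⟩ := ha
      rw [hc.orderOf_mul_eq_mul_orderOf_of_coprime
        (by rw [hk]; exact (hq.coprime_iff_not_dvd.2 h2).pow_left k)]
      exact fun h => (hp.dvd_mul.1 h).elim (fun h => hqp' k (hk ▸ h)) h1
    · intro a ha a' ha' heq
      simp only [hY, Finset.mem_sigma, Finset.mem_filter, Finset.mem_univ, true_and] at ha ha'
      have := BlockTheoryIdem.pPart_unique hq (g := a.2 * a.1) ⟨a.1, rfl, ha.2.2, ha.2.1, ha.1.2⟩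
        ⟨a'.1, heq.symm, ha'.2.2, ha'.2.1, ha'.1.2⟩
      obtain ⟨a1, a2⟩ := a
      obtain ⟨a1', a2'⟩ := a'
      simp only at this heq
      subst this
      rw [mul_left_cancel heq]
    · intro g hg
      obtain ⟨x, y, hxy, hc, hx, hy⟩ := BlockTheoryIdem.exists_pPart hq g
      refine ⟨⟨y, x⟩, ?_, hxy⟩
      simp only [hY, Finset.mem_sigma, Finset.mem_filter, Finset.mem_univ, true_and] at hg ⊢
      refine ⟨⟨fun h => hg ?_, hy⟩, hx, hc⟩
      rw [← hxy, hc.orderOf_mul_eq_mul_orderOf_of_coprime
        (by obtain ⟨k, hk⟩ := hx; rw [hk]; exact (hq.coprime_iff_not_dvd.2 hy).pow_left k)]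
      exact h.mul_left _
  have hTint : ∀ y : G, IsIntegral ℤ (((q : ℂ) ^ (Nat.card (Subgroup.centralizer ({y} : Set G))).factorization q)⁻¹ * T y) := by
    intro y
    set C := Subgroup.centralizer ({y} : Set G) with hC
    have hcy : ∀ c : C, Commute (c : G) y := fun c => Subgroup.mem_centralizer_singleton_iff.1 c.2
    have h := isIntegral_sum_qElements hq (fun c : C => χ (y * c)) ?_ (fun c => CharBasic.isCharacter_integral hχ _) ?_
    · convert h using 2
      refine Finset.sum_bij' (fun u hu => (⟨u, Subgroup.mem_centralizer_singleton_iff.2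
        (Finset.mem_filter.1 hu).2.2.eq⟩ : C)) (fun c _ => (c : G)) ?_ ?_ ?_ ?_ ?_
      · intro u hu
        obtain ⟨k, hk⟩ := (Finset.mem_filter.1 hu).2.1
        exact Finset.mem_filter.2 ⟨Finset.mem_univ _, k, by rw [← hk, ← Subgroup.orderOf_coe]⟩
      · intro c hc
        obtain ⟨k, hk⟩ := (Finset.mem_filter.1 hc).2
        exact Finset.mem_filter.2 ⟨Finset.mem_univ _, ⟨k, by rw [Subgroup.orderOf_coe, hk]⟩, hcy c⟩
      · intros; rfl
      · intros; rfl
      · intro u hu
        exact congrArg χ ((Finset.mem_filter.1 hu).2.2).eq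
    · intro g h
      have h1 : (h : G) * (y * g) * (h : G)⁻¹ = y * ((h * g * h⁻¹ : C) : G) := by
        push_cast
        rw [← mul_assoc, (hcy h).eq]; group
      show χ (y * ((h * g * h⁻¹ : C) : G)) = χ (y * g)
      rw [← h1, CharBasic.isClassFunction_of_isCharacter hχ]
    · intro R _
      have h2 := isIntegral_avg_coset hχ y (R.map C.subtype) (by
        rintro r ⟨r', -, rfl⟩; exact (hcy r').symm)
      rw [Subgroup.card_map_of_injective Subtype.val_injective] at h2
      convert h2 using 2
      exact Fintype.sum_equiv (R.equivMapOfInjective C.subtype Subtype.val_injective).toEquiv _ _ fun r => rfl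
  rw [hdec, Finset.mul_sum, ← Finset.sum_fiberwise Y ConjClasses.mk]
  refine IsIntegral.sum _ fun D _ => ?_
  rcases (Y.filter fun y => ConjClasses.mk y = D).eq_empty_or_nonempty with he | ⟨y₀, hy₀⟩
  · rw [he, Finset.sum_empty]; exact isIntegral_zero
  obtain ⟨hy₀Y, rfl⟩ := Finset.mem_filter.1 hy₀
  have hfilt : (Y.filter fun y => ConjClasses.mk y = ConjClasses.mk y₀) = Finset.univ.filter (IsConj y₀) := by
    ext y
    simp only [hY, Finset.mem_filter, Finset.mem_univ, true_and, ConjClasses.mk_eq_mk_iff_isConj] at hy₀Y ⊢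
    refine ⟨fun h => h.2.symm, fun h => ⟨?_, h.symm⟩⟩
    obtain ⟨x, rfl⟩ := isConj_iff.1 h
    rwa [show x * y₀ * x⁻¹ = MulAut.conj x y₀ from rfl, MulEquiv.orderOf_eq]
  have hinv : ∀ y ∈ Finset.univ.filter (IsConj y₀), T y = T y₀ := by
    intro y hy
    obtain ⟨x, rfl⟩ := isConj_iff.1 (Finset.mem_filter.1 hy).2
    symm
    refine Finset.sum_equiv (MulAut.conj x).toEquiv (fun u => ?_) (fun u _ => ?_)
    · simp only [Finset.mem_filter, Finset.mem_univ, true_and, MulEquiv.toEquiv_eq_coe, MulEquiv.coe_toEquiv,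
        MulEquiv.orderOf_eq]
      rw [show x * y₀ * x⁻¹ = MulAut.conj x y₀ from rfl]
      refine and_congr_right' ⟨fun h => h.map (MulAut.conj x), fun h => ?_⟩
      have h' := h.map (MulAut.conj x).symm
      simpa [mul_assoc] using h'
    · show χ (u * y₀) = χ (x * u * x⁻¹ * (x * y₀ * x⁻¹))
      rw [show x * u * x⁻¹ * (x * y₀ * x⁻¹) = x * (u * y₀) * x⁻¹ by group,
        CharBasic.isClassFunction_of_isCharacter hχ]
  rw [hfilt, ← Finset.mul_sum, Finset.sum_congr rfl hinv, Finset.sum_const, nsmul_eq_mul]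
  set e := (Nat.card (Subgroup.centralizer ({y₀} : Set G))).factorization q with he
  set i := (Subgroup.centralizer ({y₀} : Set G)).index with hi
  have hcard : (Finset.univ.filter (IsConj y₀)).card = i := by
    have h3 := CharBasicOrth.card_conj_mul_card_centralizer y₀
    rw [← (Subgroup.centralizer ({y₀} : Set G)).index_mul_card] at h3
    rw [hi, ← Nat.eq_of_mul_eq_mul_right Nat.card_pos h3, Nat.card_eq_fintype_card, Fintype.card_subtype]
  have hbe : b = i.factorization q + e := by
    rw [hb, ← (Subgroup.centralizer ({y₀} : Set G)).index_mul_card,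
      Nat.factorization_mul Subgroup.index_ne_zero_of_finite Nat.card_pos.ne']
    rfl
  have hi2 : (i : ℂ) = (q : ℂ) ^ i.factorization q * (i / q ^ i.factorization q : ℕ) := by
    exact_mod_cast (Nat.ordProj_mul_ordCompl_eq_self i q).symm
  have hq0 : (q : ℂ) ≠ 0 := Nat.cast_ne_zero.2 hq.ne_zero
  have : ((q : ℂ) ^ b)⁻¹ * ((i : ℂ) * T y₀) =
      (i / q ^ i.factorization q : ℕ) * (((q : ℂ) ^ e)⁻¹ * T y₀) := by
    rw [hi2, hbe, pow_add]
    field_simp
  rw [hcard, this]
  exact (isIntegral_algebraMap (x := ((i / q ^ i.factorization q : ℕ) : ℤ))).mul (hTint y₀)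

/-- Sums of a character over the generators of a cyclic subgroup are rational integers. -/
theorem exists_int_sum_generators {χ : G → ℂ} (hχ : Cfsg.IsCharacter G χ)
    [DecidableEq (Subgroup G)] : ∀ g : G,
    ∃ z : ℤ, ∑ h ∈ Finset.univ.filter (fun h : G => Subgroup.zpowers h = Subgroup.zpowers g), χ h = (z : ℂ) := by
  classical
  intro g
  induction hn : orderOf g using Nat.strong_induction_on generalizing g with
  | _ n ih =>
    set H := Subgroup.zpowers g with hH
    set S := Finset.univ.filter (fun h : G => h ∈ H) with hS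
    obtain ⟨m, hm⟩ := ClassAlgebraVal.exists_sum_subgroup hχ H
    have hm' : ∑ h ∈ S, χ h = ((Nat.card H * m : ℕ) : ℂ) := by
      rw [Finset.sum_subtype S (p := fun h : G => h ∈ H) (by simp [hS]) χ]
      have := congrArg conj hm
      simpa using this
    have hsplit := Finset.add_sum_erase (S.image Subgroup.zpowers)
      (fun K => ∑ h ∈ S.filter (fun h => Subgroup.zpowers h = K), χ h)
      (Finset.mem_image.2 ⟨g, by simp [hS, hH], rfl⟩ : H ∈ S.image Subgroup.zpowers)
    rw [Finset.sum_fiberwise_of_maps_to (fun h hh => Finset.mem_image_of_mem _ hh), hm'] at hsplit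
    have hrest : ∀ K ∈ (S.image Subgroup.zpowers).erase H,
        ∃ z : ℤ, ∑ h ∈ S.filter (fun h => Subgroup.zpowers h = K), χ h = (z : ℂ) := by
      intro K hK
      obtain ⟨hne, hK'⟩ := Finset.mem_erase.1 hK
      obtain ⟨k, hk, rfl⟩ := Finset.mem_image.1 hK'
      have hle : Subgroup.zpowers k ≤ H := Subgroup.zpowers_le.2 (Finset.mem_filter.1 hk).2
      have heq : S.filter (fun h => Subgroup.zpowers h = Subgroup.zpowers k) =
          Finset.univ.filter (fun h : G => Subgroup.zpowers h = Subgroup.zpowers k) := by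
        ext h
        simp only [hS, Finset.mem_filter, Finset.mem_univ, true_and]
        exact ⟨fun e => e.2, fun e => ⟨hle (e ▸ Subgroup.mem_zpowers h), e⟩⟩
      rw [heq]
      refine ih _ ?_ k rfl
      rw [← hn, ← Nat.card_zpowers, ← Nat.card_zpowers]
      refine lt_of_le_of_ne (Subgroup.card_le_of_le hle) fun e => hne ?_
      exact Subgroup.eq_of_le_of_card_ge hle e.ge
    choose! z hz using hrest
    rw [Finset.sum_congr rfl hz] at hsplit
    refine ⟨(Nat.card H * m : ℕ) - ∑ K ∈ (S.image Subgroup.zpowers).erase H, z K, ?_⟩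
    have heq : S.filter (fun h => Subgroup.zpowers h = H) =
        Finset.univ.filter (fun h : G => Subgroup.zpowers h = H) := by
      ext h
      simp only [hS, Finset.mem_filter, Finset.mem_univ, true_and]
      exact ⟨fun e => e.2, fun e => ⟨e ▸ Subgroup.mem_zpowers h, e⟩⟩
    rw [heq] at hsplit
    push_cast at hsplit ⊢
    linear_combination hsplit

/-- The sum of a character over the `p`-regular elements is a rational integer. -/
theorem exists_int_regSum (p : ℕ) {χ : G → ℂ} (hχ : Cfsg.IsCharacter G χ) :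
    ∃ z : ℤ, regSum p χ = (z : ℂ) := by
  classical
  rw [regSum]
  set S := Finset.univ.filter (fun g : G => ¬ p ∣ orderOf g) with hS
  have hfib : ∀ K ∈ S.image Subgroup.zpowers,
      ∃ z : ℤ, ∑ h ∈ S.filter (fun h => Subgroup.zpowers h = K), χ h = (z : ℂ) := by
    intro K hK
    obtain ⟨g, hg, rfl⟩ := Finset.mem_image.1 hK
    obtain ⟨z, hz⟩ := exists_int_sum_generators hχ g
    refine ⟨z, ?_⟩
    rw [← hz]
    refine Finset.sum_congr ?_ fun _ _ => rfl
    ext h
    simp only [hS, Finset.mem_filter, Finset.mem_univ, true_and] at hg ⊢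
    refine ⟨fun e => e.2, fun e => ⟨?_, e⟩⟩
    rw [← Nat.card_zpowers, e, Nat.card_zpowers]
    exact hg
  choose! z hz using hfib
  refine ⟨∑ K ∈ S.image Subgroup.zpowers, z K, ?_⟩
  rw [← Finset.sum_fiberwise_of_maps_to (g := Subgroup.zpowers) (t := S.image Subgroup.zpowers)
    (fun h hh => Finset.mem_image_of_mem _ hh), Int.cast_sum]
  exact Finset.sum_congr rfl hz

/-- The `p'`-part of the group order divides the sum of a character over the `p`-regular elements. -/
theorem exists_dvd_regSum {p : ℕ} (hp : p.Prime) {χ : G → ℂ} (hχ : Cfsg.IsCharacter G χ) :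
    ∃ z : ℤ, regSum p χ = ((Nat.card G / p ^ (Nat.card G).factorization p : ℕ) : ℂ) * (z : ℂ) := by
  obtain ⟨S, hS⟩ := exists_int_regSum p hχ
  set m := Nat.card G / p ^ (Nat.card G).factorization p with hm
  suffices h : (m : ℤ) ∣ S by
    obtain ⟨z, hz⟩ := h
    exact ⟨z, by rw [hS, hz]; push_cast; ring⟩
  rw [Int.natCast_dvd]
  have hm0 : m ≠ 0 := (Nat.ordCompl_pos p Nat.card_pos.ne').ne'
  rcases eq_or_ne S.natAbs 0 with h0 | h0
  · rw [h0]; exact dvd_zero _
  rw [← Nat.factorization_le_iff_dvd hm0 h0]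
  intro q
  by_cases hq : q.Prime
  swap
  · simp [Nat.factorization_eq_zero_of_not_prime, hq]
  by_cases hqp : q = p
  · subst hqp
    rw [hm, Nat.factorization_eq_zero_of_not_dvd (Nat.not_dvd_ordCompl hq Nat.card_pos.ne')]
    exact Nat.zero_le _
  have hint := isIntegral_regSum_div_qPart hp hq hqp hχ
  rw [hS] at hint
  have h1 : q ^ (Nat.card G).factorization q ∣ S.natAbs := by
    refine ClassAlgebraVal.dvd_of_integral (pow_ne_zero _ hq.ne_zero)
      (z := (S.sign : ℂ) * (((q : ℂ) ^ (Nat.card G).factorization q)⁻¹ * (S : ℂ))) ?_ ?_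
    · exact (isIntegral_algebraMap (x := S.sign)).mul hint
    · have hq0 : (q : ℂ) ^ (Nat.card G).factorization q ≠ 0 := pow_ne_zero _ (Nat.cast_ne_zero.2 hq.ne_zero)
      have hs : (S.natAbs : ℂ) = (S.sign : ℂ) * (S : ℂ) := by
        rw [← Int.cast_natCast, ← Int.sign_mul_self, Int.cast_mul]
      rw [hs, Nat.cast_pow]
      field_simp
  calc m.factorization q ≤ (Nat.card G).factorization q :=
        (Nat.factorization_le_iff_dvd hm0 Nat.card_pos.ne').2 (Nat.ordCompl_dvd _ _) q
    _ ≤ S.natAbs.factorization q := (hq.pow_dvd_iff_le_factorization h0).1 h1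

open scoped Classical in
/-- Separation of `p`-regular classes: the coefficient attached to `y` and a subgroup of its centralizer. -/
noncomputable def sepCoeff (y : G) (P : Subgroup G) (χ : G → ℂ) : ℂ :=
  (Nat.card P : ℂ)⁻¹ * ∑ u : P, conj (χ (y * u))

theorem isIntegral_sepCoeff {χ : G → ℂ} (hχ : Cfsg.IsCharacter G χ) (y : G) (P : Subgroup G)
    (hy : ∀ u ∈ P, Commute y u) : IsIntegral ℤ (sepCoeff y P χ) := by
  classical
  have h := isIntegral_avg_coset (CharBasicDecomp.isCharacter_conj hχ) y P hy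
  exact h

open scoped Classical in
/-- The combination of irreducible characters with the separating coefficients is, on `p`-regular
elements, a multiple of the indicator of the class of `y`. -/
theorem sum_sepCoeff_mul {p : ℕ} (hp : p.Prime) {y z : G} (hy : ¬ p ∣ orderOf y) (hz : ¬ p ∣ orderOf z)
    (P : Subgroup G) (hP : IsPGroup p P) (hyP : ∀ u ∈ P, Commute y u) :
    ∑ χ : Cfsg.IrrCharacter G, sepCoeff y P (χ : G → ℂ) * (χ : G → ℂ) z =
      if IsConj y z then (Nat.card (Subgroup.centralizer ({y} : Set G)) : ℂ) / Nat.card P else 0 := by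
  simp only [sepCoeff, Finset.mul_sum, Finset.sum_mul, mul_assoc]
  rw [Finset.sum_comm, Finset.sum_eq_single (1 : P)]
  · rw [← Finset.mul_sum, OneMemClass.coe_one, mul_one]
    have h := CharBasicOrth.sum_irr_mul_conj z y
    rw [Finset.sum_congr rfl fun χ _ => mul_comm (conj _) _, h]
    split_ifs with h1 h2 h2
    · have : Nat.card (Subgroup.centralizer ({z} : Set G)) = Nat.card (Subgroup.centralizer ({y} : Set G)) := by
        have e1 := CharBasicOrth.card_conj_mul_card_centralizer z
        have e2 := CharBasicOrth.card_conj_mul_card_centralizer y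
        have e3 : Nat.card {g : G // IsConj z g} = Nat.card {g : G // IsConj y g} :=
          Nat.card_congr (Equiv.subtypeEquivRight fun g => ⟨fun e => h2.trans e, fun e => h1.trans e⟩)
        rw [e3] at e1
        have : Nonempty {g : G // IsConj y g} := ⟨⟨y, IsConj.refl y⟩⟩
        exact Nat.eq_of_mul_eq_mul_left Nat.card_pos (e1.trans e2.symm)
      rw [this]; ring
    · exact absurd h1.symm h2
    · exact absurd h2.symm h1
    · ring
  · intro u _ hu
    rw [← Finset.mul_sum]
    have h := CharBasicOrth.sum_irr_mul_conj z (y * u)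
    rw [Finset.sum_congr rfl fun χ _ => mul_comm (conj _) _, h, if_neg, mul_zero]
    intro hc
    have : Fact p.Prime := ⟨hp⟩
    obtain ⟨k, hk⟩ := IsPGroup.iff_orderOf.1 hP u
    rw [← Subgroup.orderOf_coe] at hk
    obtain ⟨x, hx⟩ := isConj_iff.1 hc
    have hord : orderOf (y * u) = orderOf z := by
      rw [← hx, show x * z * x⁻¹ = MulAut.conj x z from rfl, MulEquiv.orderOf_eq]
    rw [(hyP u u.2).orderOf_mul_eq_mul_orderOf_of_coprime
      (by rw [hk]; exact (hp.coprime_iff_not_dvd.2 hy).symm.pow_right k), hk] at hord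
    have hk0 : k ≠ 0 := by
      rintro rfl
      exact hu (Subtype.ext (orderOf_eq_one_iff.1 (by simpa using hk)))
    exact hz (hord ▸ (dvd_pow_self p hk0).mul_left _)
  · simp

end Cfsg.Agent.BlockContribPrime
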