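import Mathlib
import Cfsg.Prelude.Def_BlockRank
import Cfsg.Agent.Lib.BlockTheoryIdem
import Cfsg.Agent.Lib.BlockContribPrime
import Cfsg.Agent.Lib.ClassAlgebraMod

/-!
# The contribution matrix of a block

For a block `B` of defect `d` the numbers `m χ ψ = p ^ d * ⟨χ restricted to p-regular elements, ψ⟩` are
rational integers, `m χ ψ` is divisible by `p ^ (height of ψ)`, exactly when `χ` has height zero, and the
matrix satisfies `m * m = p ^ d • m`.  This gives the Brauer–Feit bounds on `k(B)` and on heights.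
-/

set_option autoImplicit false

open scoped ComplexConjugate

namespace Cfsg.Agent.BlockContrib

open Cfsg BlockTheoryLocalRing BlockTheoryCentre BlockTheoryIdem BlockContribPrime ClassAlgebraVal

attribute [local instance] Classical.propDecidable

variable {p : ℕ} {M : Ideal AlgInt} {G : Type*} [Group G]

/-! ### Numerical invariants -/

/-- The least exponent of `p` in the degrees of the members of `B`. -/
noncomputable def minExp (p : ℕ) (B : Set (IrrCharacter G)) : ℕ :=
  sInf ((fun χ : IrrCharacter G => (charDegree (χ : G → ℂ)).factorization p) '' B)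

theorem blockDefect_eq (B : Set (IrrCharacter G)) :
    blockDefect p B = (Nat.card G).factorization p - minExp p B := rfl

theorem blockHeight_eq (B : Set (IrrCharacter G)) (χ : IrrCharacter G) :
    blockHeight p B (χ : G → ℂ) = (charDegree (χ : G → ℂ)).factorization p - minExp p B := rfl

theorem minExp_le {B : Set (IrrCharacter G)} {χ : IrrCharacter G} (hχ : χ ∈ B) :
    minExp p B ≤ (charDegree (χ : G → ℂ)).factorization p :=
  Nat.sInf_le ⟨χ, hχ, rfl⟩

theorem exp_eq_add {B : Set (IrrCharacter G)} {χ : IrrCharacter G} (hχ : χ ∈ B) :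
    (charDegree (χ : G → ℂ)).factorization p = minExp p B + blockHeight p B (χ : G → ℂ) := by
  rw [blockHeight_eq]; have := minExp_le (p := p) hχ; omega

theorem exists_height_zero (hM : IsPModular p M) {B : Set (IrrCharacter G)} (hB : IsPBlock M B) :
    ∃ φ ∈ B, blockHeight p B (φ : G → ℂ) = 0 := by
  obtain ⟨φ, hφ, h⟩ := Nat.sInf_mem
    ((block_nonempty hM hB).image fun χ : IrrCharacter G => (charDegree (χ : G → ℂ)).factorization p)
  refine ⟨φ, hφ, ?_⟩
  rw [blockHeight_eq, minExp]
  exact Nat.sub_eq_zero_of_le h.le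

theorem minExp_add_defect [Finite G] (hM : IsPModular p M) {B : Set (IrrCharacter G)}
    (hB : IsPBlock M B) : minExp p B + blockDefect p B = (Nat.card G).factorization p := by
  obtain ⟨φ, hφ, h⟩ := exists_height_zero hM hB
  have h1 := ClassAlgebraOmega.factorization_charDegree_le φ p
  rw [blockDefect_eq]
  have := exp_eq_add (p := p) hφ
  omega

variable [Fintype G]

/-- The part prime to `p` of the group order. -/
noncomputable def cofactor (p : ℕ) (G : Type*) [Group G] : ℕ :=
  Nat.card G / p ^ (Nat.card G).factorization p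

omit [Fintype G] in
theorem pow_mul_cofactor (p : ℕ) : p ^ (Nat.card G).factorization p * cofactor p G = Nat.card G :=
  Nat.ordProj_mul_ordCompl_eq_self _ _

theorem cofactor_not_dvd (hp : p.Prime) : ¬ p ∣ cofactor p G :=
  Nat.not_dvd_ordCompl hp Nat.card_pos.ne'

/-! ### Pairings on `p`-regular elements -/

/-- The unnormalised pairing of two functions on the `p`-regular elements. -/
noncomputable def pair (p : ℕ) (f f' : G → ℂ) : ℂ := regSum p fun g => conj (f g) * f' g

theorem regSum_eq (p : ℕ) (f : G → ℂ) :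
    regSum p f = ∑ g : G, if ¬ p ∣ orderOf g then f g else 0 := by
  rw [regSum, ← Finset.sum_filter]

theorem pair_comm (χ ψ : IrrCharacter G) : pair p (χ : G → ℂ) ψ = pair p (ψ : G → ℂ) χ := by
  simp only [pair, regSum_eq]
  refine Fintype.sum_equiv (Equiv.inv G) _ _ fun g => ?_
  simp only [Equiv.inv_apply, orderOf_inv, irr_inv, Complex.conj_conj]
  split_ifs <;> ring

/-- The class decomposition of a pairing divided by the degree. -/
theorem pair_div_eq (f : G → ℂ) (hf : IsClassFunction G f) (ψ : IrrCharacter G) :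
    pair p f ψ / (ψ : G → ℂ) 1 = ∑ C : ConjClasses G,
      if ¬ p ∣ orderOf C.out then conj (f C.out) * centralChar (ψ : G → ℂ) C.out else 0 := by
  rw [pair, regSum_eq, ← Finset.sum_fiberwise (Finset.univ : Finset G) ConjClasses.mk, Finset.sum_div]
  refine Finset.sum_congr rfl fun C _ => ?_
  have hfib : Finset.univ.filter (fun g => ConjClasses.mk g = C) =
      Finset.univ.filter (IsConj C.out) := by
    ext g; simp [isConj_out]
  have hterm : ∀ g ∈ Finset.univ.filter (IsConj C.out),
      (if ¬ p ∣ orderOf g then conj (f g) * (ψ : G → ℂ) g else 0) =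
        if ¬ p ∣ orderOf C.out then conj (f C.out) * (ψ : G → ℂ) C.out else 0 := by
    intro g hg
    obtain ⟨x, rfl⟩ := isConj_iff.1 (Finset.mem_filter.1 hg).2
    rw [irr_classFun ψ, hf, show x * C.out * x⁻¹ = MulAut.conj x C.out from rfl, MulEquiv.orderOf_eq]
  rw [hfib, Finset.sum_congr rfl hterm, Finset.sum_const, nsmul_eq_mul]
  have hcard : (Finset.univ.filter (IsConj C.out)).card =
      (Subgroup.centralizer ({C.out} : Set G)).index := by
    rw [index_centralizer_eq, Nat.card_eq_fintype_card, Fintype.card_subtype]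
  rw [hcard, centralChar]
  split_ifs <;> ring

theorem isIntegral_pair_div (χ ψ : IrrCharacter G) :
    IsIntegral ℤ (pair p (χ : G → ℂ) ψ / (ψ : G → ℂ) 1) := by
  rw [pair_div_eq _ (irr_classFun χ)]
  refine IsIntegral.sum _ fun C _ => ?_
  by_cases hC : p ∣ orderOf C.out
  · rw [if_neg (not_not.2 hC)]; exact isIntegral_zero
  · rw [if_pos hC, ← irr_inv]
    exact (CharBasic.isCharacter_integral (irr_isCharacter χ) _).mul
      (ClassAlgebraOmega.isIntegral_centralChar ψ.2 _)

/-- The pairing divided by the degree only depends on the block modulo the ideal. -/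
theorem pair_div_congr (hM : IsPModular p M) (χ : IrrCharacter G) {ψ φ : IrrCharacter G}
    (h : SameBlock M (ψ : G → ℂ) φ) :
    MemLocalIdeal M (pair p (χ : G → ℂ) ψ / (ψ : G → ℂ) 1 - pair p (χ : G → ℂ) φ / (φ : G → ℂ) 1) := by
  rw [pair_div_eq _ (irr_classFun χ), pair_div_eq _ (irr_classFun χ), ← Finset.sum_sub_distrib]
  refine ideal_sum hM fun C _ => ?_
  by_cases hC : p ∣ orderOf C.out
  · rw [if_neg (not_not.2 hC), if_neg (not_not.2 hC), sub_zero]; exact ideal_zero hM
  · rw [if_pos hC, if_pos hC, ← mul_sub, ← irr_inv]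
    exact ideal_mul_left hM (of_isIntegral hM (CharBasic.isCharacter_integral (irr_isCharacter χ) _)) (h _)

/-- The weighted kernel of a block against a function on the `p`-regular elements. -/
theorem regSum_kernel (hM : IsPModular p M) {B : Set (IrrCharacter G)} (hB : IsPBlock M B) (f : G → ℂ)
    {g : G} (hg : ¬ p ∣ orderOf g) :
    regSum p (fun h => f h * ∑ ψ : IrrCharacter G, if ψ ∈ B then (ψ : G → ℂ) g * conj ((ψ : G → ℂ) h) else 0) =
      ∑ ψ : IrrCharacter G, if ψ ∈ B then (ψ : G → ℂ) g * ((Nat.card G : ℂ) * classInner f ψ) else 0 := by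
  rw [regSum_eq]
  calc ∑ h : G, (if ¬ p ∣ orderOf h then f h * ∑ ψ : IrrCharacter G, (if ψ ∈ B then (ψ : G → ℂ) g * conj ((ψ : G → ℂ) h) else 0) else 0)
      = ∑ h : G, f h * ∑ ψ : IrrCharacter G, (if ψ ∈ B then (ψ : G → ℂ) g * conj ((ψ : G → ℂ) h) else 0) := by
        refine Finset.sum_congr rfl fun h _ => ?_
        by_cases hh : p ∣ orderOf h
        · rw [if_neg (not_not.2 hh), weak_orthogonality hM hB hg hh, mul_zero]
        · rw [if_pos hh]
    _ = _ := by
      simp only [Finset.mul_sum]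
      rw [Finset.sum_comm]
      refine Finset.sum_congr rfl fun ψ _ => ?_
      split_ifs
      · rw [CharBasicOrth.card_mul_classInner, Finset.mul_sum]
        exact Finset.sum_congr rfl fun h _ => by ring
      · simp

/-- Expansion of a member on the `p`-regular elements. -/
theorem sum_pair_mul (hM : IsPModular p M) {B : Set (IrrCharacter G)} (hB : IsPBlock M B)
    {φ : IrrCharacter G} (hφ : φ ∈ B) {g : G} (hg : ¬ p ∣ orderOf g) :
    (∑ ψ : IrrCharacter G, if ψ ∈ B then pair p (ψ : G → ℂ) φ * (ψ : G → ℂ) g else 0) =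
      (Nat.card G : ℂ) * (φ : G → ℂ) g := by
  have h := regSum_kernel hM hB (φ : G → ℂ) hg
  have hr : (∑ ψ : IrrCharacter G, if ψ ∈ B then (ψ : G → ℂ) g * ((Nat.card G : ℂ) * classInner (φ : G → ℂ) ψ) else 0) =
      (Nat.card G : ℂ) * (φ : G → ℂ) g := by
    rw [Finset.sum_eq_single φ]
    · rw [if_pos hφ, CharBasicOrth.classInner_irr_self φ.2]; ring
    · intro ψ _ hne
      rw [CharBasicOrth.classInner_irr_ne φ.2 ψ.2 fun e => hne (Subtype.ext e.symm)]
      simp
    · simp
  rw [← hr, ← h, regSum_eq]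
  simp only [pair, regSum_eq, Finset.mul_sum, Finset.sum_mul]
  calc (∑ ψ : IrrCharacter G, if ψ ∈ B then ∑ h : G, (if ¬ p ∣ orderOf h then conj ((ψ : G → ℂ) h) * (φ : G → ℂ) h else 0) * (ψ : G → ℂ) g else 0)
      = ∑ ψ : IrrCharacter G, ∑ h : G, if ¬ p ∣ orderOf h then (φ : G → ℂ) h * (if ψ ∈ B then (ψ : G → ℂ) g * conj ((ψ : G → ℂ) h) else 0) else 0 := by
        refine Finset.sum_congr rfl fun ψ _ => ?_
        by_cases hψ : ψ ∈ B
        · simp only [if_pos hψ]
          refine Finset.sum_congr rfl fun h _ => ?_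
          split_ifs <;> ring
        · simp [hψ]
    _ = _ := by
        rw [Finset.sum_comm]
        refine Finset.sum_congr rfl fun h _ => ?_
        split_ifs <;> simp

/-- The pairing vanishes between a block and the characters outside it. -/
theorem pair_eq_zero (hM : IsPModular p M) {B : Set (IrrCharacter G)} (hB : IsPBlock M B)
    {χ ψ : IrrCharacter G} (hχ : χ ∈ B) (hψ : ψ ∉ B) : pair p (χ : G → ℂ) ψ = 0 := by
  have hψ0 : ∀ g : G, ¬ p ∣ orderOf g →
      (∑ ξ : IrrCharacter G, if ξ ∈ B then (ξ : G → ℂ) g * ((Nat.card G : ℂ) * classInner (ψ : G → ℂ) ξ) else 0) = 0 := by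
    intro g _
    refine Finset.sum_eq_zero fun ξ _ => ?_
    split_ifs with h
    · rw [CharBasicOrth.classInner_irr_ne ψ.2 ξ.2 fun e => hψ ((Subtype.ext e : ψ = ξ) ▸ h)]; ring
    · rfl
  have key : (Nat.card G : ℂ) * pair p (χ : G → ℂ) ψ = 0 := by
    simp only [pair, regSum_eq, Finset.mul_sum]
    calc ∑ g : G, (Nat.card G : ℂ) * (if ¬ p ∣ orderOf g then conj ((χ : G → ℂ) g) * (ψ : G → ℂ) g else 0)
        = ∑ g : G, ∑ h : G, if ¬ p ∣ orderOf g then (if ¬ p ∣ orderOf h then
            conj ((χ : G → ℂ) h) * ((ψ : G → ℂ) g * ∑ ξ : IrrCharacter G, if ξ ∈ B then (ξ : G → ℂ) h * conj ((ξ : G → ℂ) g) else 0) else 0) else 0 := by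
          refine Finset.sum_congr rfl fun g _ => ?_
          by_cases hg : p ∣ orderOf g
          · simp [hg]
          have h1 := congrArg conj (regSum_kernel hM hB (χ : G → ℂ) hg)
          rw [regSum_eq, map_sum, map_sum, Finset.sum_eq_single χ
            (fun ξ _ hne => by
              rw [CharBasicOrth.classInner_irr_ne χ.2 ξ.2 fun e => hne (Subtype.ext e.symm)]; simp)
            (by simp), if_pos hχ, CharBasicOrth.classInner_irr_self χ.2] at h1
          simp only [mul_one, map_mul, map_natCast] at h1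
          rw [if_pos hg, mul_comm (conj ((χ : G → ℂ) g)), ← mul_assoc, mul_comm ((Nat.card G : ℂ)),
            mul_assoc, mul_comm (Nat.card G : ℂ), ← h1, Finset.mul_sum]
          refine Finset.sum_congr rfl fun h _ => ?_
          rw [if_pos hg]
          by_cases hh : p ∣ orderOf h
          · simp [hh]
          · rw [if_pos hh, if_pos hh, map_mul, map_sum]
            rw [mul_left_comm]
            congr 2
            refine Finset.sum_congr rfl fun ξ _ => ?_
            by_cases hξ : ξ ∈ B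
            · simp only [if_pos hξ, map_mul, Complex.conj_conj]; ring
            · simp [hξ]
      _ = ∑ h : G, (if ¬ p ∣ orderOf h then conj ((χ : G → ℂ) h) * (regSum p fun g =>
            (ψ : G → ℂ) g * ∑ ξ : IrrCharacter G, if ξ ∈ B then (ξ : G → ℂ) h * conj ((ξ : G → ℂ) g) else 0) else 0) := by
          rw [Finset.sum_comm]
          refine Finset.sum_congr rfl fun h _ => ?_
          rw [regSum_eq]
          by_cases hh : p ∣ orderOf h
          · simp [hh]
          · rw [if_pos hh, Finset.mul_sum]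
            refine Finset.sum_congr rfl fun g _ => ?_
            by_cases hg : p ∣ orderOf g <;> simp [hg, hh]
      _ = 0 := by
          refine Finset.sum_eq_zero fun h _ => ?_
          by_cases hh : p ∣ orderOf h
          · simp [hh]
          · rw [if_pos hh, regSum_kernel hM hB (ψ : G → ℂ) hh, hψ0 h hh, mul_zero]
  exact (mul_eq_zero.1 key).resolve_left (Nat.cast_ne_zero.2 Nat.card_pos.ne')

/-! ### The integral matrix -/

/-- The contribution of a pair of members of `B`, as a rational integer. -/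
noncomputable def contrib (p : ℕ) (B : Set (IrrCharacter G)) (χ ψ : IrrCharacter G) : ℤ :=
  Classical.epsilon fun z : ℤ => pair p (χ : G → ℂ) ψ = (cofactor p G : ℂ) * (p : ℂ) ^ minExp p B * (z : ℂ)

theorem exists_contrib (hp : p.Prime) {B : Set (IrrCharacter G)} (χ : IrrCharacter G) {ψ : IrrCharacter G}
    (hψ : ψ ∈ B) : ∃ k : ℤ, pair p (χ : G → ℂ) ψ =
      (cofactor p G : ℂ) * (p : ℂ) ^ minExp p B * (((p : ℤ) ^ blockHeight p B (ψ : G → ℂ) * k : ℤ) : ℂ) := by
  have hchar : IsCharacter G (fun g => conj ((χ : G → ℂ) g) * (ψ : G → ℂ) g) :=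
    CharBasicDecomp.isCharacter_mul (CharBasicDecomp.isCharacter_conj (irr_isCharacter χ)) (irr_isCharacter ψ)
  obtain ⟨z, hz⟩ := exists_dvd_regSum hp hchar
  have hz' : pair p (χ : G → ℂ) ψ = (cofactor p G : ℂ) * (z : ℂ) := hz
  set n := charDegree (ψ : G → ℂ) with hn
  have hn0 : n ≠ 0 := (charDegree_pos ψ).ne'
  have hdvd : n ∣ cofactor p G * z.natAbs := by
    refine dvd_of_integral hn0 (z := (z.sign : ℂ) * (pair p (χ : G → ℂ) ψ / (ψ : G → ℂ) 1))
      ((isIntegral_algebraMap (x := z.sign)).mul (isIntegral_pair_div χ ψ)) ?_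
    rw [hz', apply_one_eq_charDegree ψ, ← hn]
    have hs : (z.natAbs : ℂ) = (z.sign : ℂ) * (z : ℂ) := by
      rw [← Int.cast_natCast, ← Int.sign_mul_self, Int.cast_mul]
    have hnC : (n : ℂ) ≠ 0 := Nat.cast_ne_zero.2 hn0
    push_cast
    rw [hs]
    field_simp
  have h2 : p ^ n.factorization p ∣ z.natAbs :=
    ((hp.coprime_iff_not_dvd.2 (cofactor_not_dvd (G := G) hp)).pow_left _).dvd_of_dvd_mul_left
      ((Nat.ordProj_dvd n p).trans hdvd)
  obtain ⟨k, hk⟩ : ((p : ℤ) ^ n.factorization p) ∣ z := by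
    rw [← Nat.cast_pow, Int.natCast_dvd]; exact h2
  refine ⟨k, ?_⟩
  rw [hz', hk, hn, exp_eq_add (p := p) hψ]
  push_cast
  rw [pow_add]; ring

theorem pair_eq_contrib (hp : p.Prime) {B : Set (IrrCharacter G)} (χ : IrrCharacter G) {ψ : IrrCharacter G}
    (hψ : ψ ∈ B) :
    pair p (χ : G → ℂ) ψ = (cofactor p G : ℂ) * (p : ℂ) ^ minExp p B * (contrib p B χ ψ : ℂ) :=
  Classical.epsilon_spec (p := fun z : ℤ => pair p (χ : G → ℂ) ψ =
    (cofactor p G : ℂ) * (p : ℂ) ^ minExp p B * (z : ℂ))
    (let ⟨_, hk⟩ := exists_contrib hp χ hψ; ⟨_, hk⟩)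

theorem scale_ne_zero (hp : p.Prime) (B : Set (IrrCharacter G)) :
    (cofactor p G : ℂ) * (p : ℂ) ^ minExp p B ≠ 0 := by
  refine mul_ne_zero (Nat.cast_ne_zero.2 fun h => ?_) (pow_ne_zero _ (Nat.cast_ne_zero.2 hp.ne_zero))
  exact cofactor_not_dvd (G := G) hp (h ▸ dvd_zero p)

theorem height_dvd_contrib (hp : p.Prime) {B : Set (IrrCharacter G)} (χ : IrrCharacter G) {ψ : IrrCharacter G}
    (hψ : ψ ∈ B) : (p : ℤ) ^ blockHeight p B (ψ : G → ℂ) ∣ contrib p B χ ψ := by
  obtain ⟨k, hk⟩ := exists_contrib hp χ hψ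
  rw [pair_eq_contrib hp χ hψ] at hk
  exact ⟨k, by exact_mod_cast mul_left_cancel₀ (scale_ne_zero hp B) hk⟩

theorem contrib_comm (hp : p.Prime) {B : Set (IrrCharacter G)} {χ ψ : IrrCharacter G}
    (hχ : χ ∈ B) (hψ : ψ ∈ B) : contrib p B χ ψ = contrib p B ψ χ := by
  have h := pair_comm (p := p) χ ψ
  rw [pair_eq_contrib hp χ hψ, pair_eq_contrib hp ψ hχ] at h
  exact_mod_cast mul_left_cancel₀ (scale_ne_zero hp B) h

omit [Fintype G] in
theorem intCast_mem_iff (hM : IsPModular p M) (k : ℤ) : MemLocalIdeal M (k : ℂ) ↔ (p : ℤ) ∣ k := by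
  rw [Int.natCast_dvd, ← natCast_mem_iff hM]
  rcases Int.natAbs_eq k with h | h <;> rw [h] <;>
    simp only [Int.cast_neg, Int.cast_natCast, Int.natAbs_neg, Int.natAbs_natCast]
  exact ⟨fun e => neg_neg ((k.natAbs : ℕ) : ℂ) ▸ ideal_neg e, ideal_neg⟩

/-- The pairing over the degree lies in the ideal exactly when an extra factor `p` divides. -/
theorem pair_div_mem_iff (hM : IsPModular p M) {B : Set (IrrCharacter G)} (χ : IrrCharacter G)
    {ψ : IrrCharacter G} (hψ : ψ ∈ B) :
    MemLocalIdeal M (pair p (χ : G → ℂ) ψ / (ψ : G → ℂ) 1) ↔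
      (p : ℤ) ^ (blockHeight p B (ψ : G → ℂ) + 1) ∣ contrib p B χ ψ := by
  have hp := hM.1
  obtain ⟨k, hk⟩ := height_dvd_contrib hp χ hψ
  set n := charDegree (ψ : G → ℂ) with hn
  set r := n / p ^ n.factorization p with hr
  have hn0 : n ≠ 0 := (charDegree_pos ψ).ne'
  have hr0 : ¬ p ∣ r := Nat.not_dvd_ordCompl hp hn0
  have hnr : (n : ℂ) = (p : ℂ) ^ n.factorization p * (r : ℂ) := by
    exact_mod_cast (Nat.ordProj_mul_ordCompl_eq_self n p).symm
  have hp0 : (p : ℂ) ≠ 0 := Nat.cast_ne_zero.2 hp.ne_zero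
  have hrC : (r : ℂ) ≠ 0 := Nat.cast_ne_zero.2 fun h => hr0 (h ▸ dvd_zero p)
  have hval : pair p (χ : G → ℂ) ψ / (ψ : G → ℂ) 1 = ((cofactor p G : ℂ) * (r : ℂ)⁻¹) * (k : ℂ) := by
    rw [pair_eq_contrib hp χ hψ, hk, apply_one_eq_charDegree ψ, ← hn, hnr, hn, exp_eq_add (p := p) hψ]
    push_cast
    rw [pow_add]
    field_simp
  rw [hval, hk, pow_succ, mul_dvd_mul_iff_left (pow_ne_zero _ (by exact_mod_cast hp.ne_zero)), ← intCast_mem_iff hM]
  have hu : MemLocalRing M ((cofactor p G : ℂ) * (r : ℂ)⁻¹) :=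
    (localRing hM).mul_mem (natCast_mem (localRing hM) _) (inv_natCast_mem hM hr0)
  have hu' : MemLocalRing M ((cofactor p G : ℂ)⁻¹ * (r : ℂ)) :=
    (localRing hM).mul_mem (inv_natCast_mem hM (cofactor_not_dvd hp)) (natCast_mem (localRing hM) _)
  refine ⟨fun h => ?_, fun h => ideal_mul_left hM hu h⟩
  have h' := ideal_mul_left hM hu' h
  have hc : (cofactor p G : ℂ) ≠ 0 := left_ne_zero_of_mul (scale_ne_zero (G := G) hp B)
  convert h' using 1
  field_simp

/-- Divisibility by an extra `p` does not depend on the column. -/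
theorem contrib_extra_congr (hM : IsPModular p M) {B : Set (IrrCharacter G)} (hB : IsPBlock M B)
    (χ : IrrCharacter G) {ψ φ : IrrCharacter G} (hψ : ψ ∈ B) (hφ : φ ∈ B) :
    (p : ℤ) ^ (blockHeight p B (ψ : G → ℂ) + 1) ∣ contrib p B χ ψ ↔
      (p : ℤ) ^ (blockHeight p B (φ : G → ℂ) + 1) ∣ contrib p B χ φ := by
  rw [← pair_div_mem_iff hM χ hψ, ← pair_div_mem_iff hM χ hφ]
  have h := pair_div_congr hM χ (sameBlock_of_mem hM hB hψ hφ)
  constructor
  · intro h1; simpa using ideal_sub hM h1 h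
  · intro h1; simpa using ideal_add hM h h1

omit [Fintype G] in
/-- A Sylow subgroup of a centralizer, as a subgroup of the group. -/
noncomputable def centSylow [Finite G] (p : ℕ) (y : G) : Subgroup G :=
  ((default : Sylow p ↥(Subgroup.centralizer ({y} : Set G))) : Subgroup ↥(Subgroup.centralizer ({y} : Set G))).map
    (Subgroup.centralizer ({y} : Set G)).subtype

theorem centSylow_commute (y : G) : ∀ u ∈ centSylow p y, Commute y u := by
  rintro u ⟨u', -, rfl⟩
  exact (Subgroup.mem_centralizer_singleton_iff.1 u'.2).symm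

theorem isPGroup_centSylow (y : G) : IsPGroup p (centSylow p y) :=
  ((default : Sylow p ↥(Subgroup.centralizer ({y} : Set G))).isPGroup').map _

theorem exists_centSylow_quot (hp : p.Prime) (y : G) : ∃ N : ℕ, ¬ p ∣ N ∧
    (Nat.card (Subgroup.centralizer ({y} : Set G)) : ℂ) / Nat.card (centSylow p y) = (N : ℂ) := by
  have : Fact p.Prime := ⟨hp⟩
  set S := (default : Sylow p ↥(Subgroup.centralizer ({y} : Set G)))
  refine ⟨(S : Subgroup ↥(Subgroup.centralizer ({y} : Set G))).index, S.not_dvd_index, ?_⟩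
  rw [centSylow, Subgroup.card_map_of_injective Subtype.val_injective,
    div_eq_iff (Nat.cast_ne_zero.2 Nat.card_pos.ne'), ← Nat.cast_mul, Subgroup.index_mul_card]

/-- Some member of `B` has pairing over the degree outside the ideal. -/
theorem exists_not_mem (hM : IsPModular p M) {B : Set (IrrCharacter G)} (hB : IsPBlock M B)
    {ψ : IrrCharacter G} (hψ : ψ ∈ B) :
    ∃ χ ∈ B, ¬ MemLocalIdeal M (pair p (χ : G → ℂ) ψ / (ψ : G → ℂ) 1) := by
  by_contra hcon
  push Not at hcon
  choose N hN hNq using exists_centSylow_quot (p := p) (G := G) hM.1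
  let e : ConjClasses G → ℂ := fun C =>
    if ¬ p ∣ orderOf C.out then blockCoeff B C.out * (N C.out : ℂ)⁻¹ else 0
  let r : IrrCharacter G → ℂ := fun ξ =>
    ∑ C : ConjClasses G, e C * conj (sepCoeff C.out (centSylow p C.out) (ξ : G → ℂ))
  have hrR : ∀ ξ, MemLocalRing M (r ξ) := by
    intro ξ
    refine (localRing hM).sum_mem fun C _ => ?_
    have hint : IsIntegral ℤ (conj (sepCoeff C.out (centSylow p C.out) (ξ : G → ℂ))) :=
      (isIntegral_sepCoeff (irr_isCharacter ξ) _ _ (centSylow_commute _)).map (starRingEnd ℂ).toIntAlgHom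
    refine (localRing hM).mul_mem ?_ (of_isIntegral hM hint)
    simp only [e]
    by_cases hC : p ∣ orderOf C.out
    · rw [if_neg (not_not.2 hC)]; exact (localRing hM).zero_mem
    · rw [if_pos hC]; exact (localRing hM).mul_mem (blockCoeff_mem hM hB _) (inv_natCast_mem hM (hN _))
  have hexp : ∀ g : G, ¬ p ∣ orderOf g →
      ∑ ξ : IrrCharacter G, r ξ * conj ((ξ : G → ℂ) g) = blockCoeff B g := by
    intro g hg
    simp only [r, Finset.sum_mul]
    rw [Finset.sum_comm, Finset.sum_eq_single (ConjClasses.mk g)]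
    · set C := ConjClasses.mk g
      have hCg : IsConj C.out g := (isConj_out C).1 rfl
      have hCreg : ¬ p ∣ orderOf C.out := by
        obtain ⟨x, hx⟩ := isConj_iff.1 hCg
        rw [← hx, show x * C.out * x⁻¹ = MulAut.conj x C.out from rfl, MulEquiv.orderOf_eq] at hg
        exact hg
      have h := congrArg conj (sum_sepCoeff_mul hM.1 hCreg hg (centSylow p C.out) (isPGroup_centSylow _) (centSylow_commute _))
      rw [if_pos hCg, hNq, map_natCast, map_sum] at h
      simp only [map_mul] at h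
      simp only [mul_assoc, ← Finset.mul_sum, h, e, if_pos hCreg]
      have hN0 : (N C.out : ℂ) ≠ 0 := Nat.cast_ne_zero.2 fun h => hN C.out (h ▸ dvd_zero p)
      rw [inv_mul_cancel₀ hN0, mul_one]
      have hcl : blockCoeff B C.out = blockCoeff B g :=
        CharBasic.apply_eq_of_isConj (χ := blockCoeff B) (isCen_idem B) hCg
      exact hcl
    · intro C _ hC
      by_cases hCreg : p ∣ orderOf C.out
      · simp [e, hCreg]
      have h := congrArg conj (sum_sepCoeff_mul hM.1 hCreg hg (centSylow p C.out) (isPGroup_centSylow _) (centSylow_commute _))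
      rw [if_neg (fun hc => hC ((isConj_out C).2 hc).symm), map_zero, map_sum] at h
      simp only [map_mul] at h
      simp only [mul_assoc, ← Finset.mul_sum, h, mul_zero]
    · simp
  have h1 : (1 : ℂ) = ∑ ξ : IrrCharacter G, r ξ * (pair p (ξ : G → ℂ) ψ / (ψ : G → ℂ) 1) := by
    have h := omega_idem B ψ
    rw [if_pos hψ, omega_apply, chiSum_apply] at h
    rw [← h]
    simp only [coeff_idem, pair, regSum_eq, Finset.sum_div, Finset.mul_sum]
    rw [Finset.sum_comm]
    refine Finset.sum_congr rfl fun g _ => ?_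
    by_cases hg : p ∣ orderOf g
    · simp [hg, blockCoeff_eq_zero_of_dvd hM hB hg]
    · rw [← hexp g hg]
      simp only [if_pos hg, Finset.sum_mul, Finset.mul_sum]
      exact Finset.sum_congr rfl fun ξ _ => by ring
  refine one_not_ideal hM (h1 ▸ ideal_sum hM fun ξ _ => ideal_mul_left hM (hrR ξ) ?_)
  by_cases hξ : ξ ∈ B
  · exact hcon ξ hξ
  · rw [pair_comm, pair_eq_zero hM hB hψ hξ, zero_div]; exact ideal_zero hM

/-- A height-zero row is divisible exactly by the powers given by the heights. -/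
theorem contrib_not_dvd (hM : IsPModular p M) {B : Set (IrrCharacter G)} (hB : IsPBlock M B)
    {φ : IrrCharacter G} (hφ : φ ∈ B) (hφ0 : blockHeight p B (φ : G → ℂ) = 0)
    {ψ : IrrCharacter G} (hψ : ψ ∈ B) :
    ¬ (p : ℤ) ^ (blockHeight p B (ψ : G → ℂ) + 1) ∣ contrib p B φ ψ := by
  obtain ⟨χ, hχ, hne⟩ := exists_not_mem hM hB hφ
  rw [pair_div_mem_iff hM χ hφ, hφ0, zero_add, pow_one, contrib_comm hM.1 hχ hφ] at hne
  have hχ0 : blockHeight p B (χ : G → ℂ) = 0 := by
    by_contra h
    exact hne ((dvd_pow_self _ h).trans (height_dvd_contrib hM.1 φ hχ))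
  intro hd
  refine hne ?_
  have := (contrib_extra_congr hM hB φ hψ hχ).1 hd
  rwa [hχ0, zero_add, pow_one] at this

theorem contrib_ne_zero (hM : IsPModular p M) {B : Set (IrrCharacter G)} (hB : IsPBlock M B)
    {φ : IrrCharacter G} (hφ : φ ∈ B) (hφ0 : blockHeight p B (φ : G → ℂ) = 0)
    {ψ : IrrCharacter G} (hψ : ψ ∈ B) : contrib p B φ ψ ≠ 0 :=
  fun h => contrib_not_dvd hM hB hφ hφ0 hψ (h ▸ dvd_zero _)

/-- Rows of positive height carry an extra factor `p`. -/
theorem contrib_extra_of_height_pos (hM : IsPModular p M) {B : Set (IrrCharacter G)} (hB : IsPBlock M B)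
    {χ : IrrCharacter G} (hχ : χ ∈ B) (hh : 0 < blockHeight p B (χ : G → ℂ))
    {ψ : IrrCharacter G} (hψ : ψ ∈ B) :
    (p : ℤ) ^ (blockHeight p B (ψ : G → ℂ) + 1) ∣ contrib p B χ ψ := by
  obtain ⟨φ, hφ, hφ0⟩ := exists_height_zero hM hB
  rw [contrib_extra_congr hM hB χ hψ hφ, hφ0, zero_add, pow_one, contrib_comm hM.1 hχ hφ]
  exact (dvd_pow_self _ hh.ne').trans (height_dvd_contrib hM.1 φ hχ)

/-- The matrix is `p ^ d` times an idempotent. -/
theorem sum_contrib_mul (hM : IsPModular p M) {B : Set (IrrCharacter G)} (hB : IsPBlock M B)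
    {χ φ : IrrCharacter G} (hχ : χ ∈ B) (hφ : φ ∈ B) :
    ∑ ψ ∈ Finset.univ.filter (· ∈ B), contrib p B χ ψ * contrib p B ψ φ =
      (p : ℤ) ^ blockDefect p B * contrib p B χ φ := by
  set c := (cofactor p G : ℂ) * (p : ℂ) ^ minExp p B with hc
  have hc0 : c ≠ 0 := scale_ne_zero hM.1 B
  have hG : (Nat.card G : ℂ) = c * (p : ℂ) ^ blockDefect p B := by
    have h := pow_mul_cofactor (G := G) p
    rw [← minExp_add_defect hM hB, pow_add] at h
    rw [hc, ← h]; push_cast; ring
  have h2 : ∑ ψ ∈ Finset.univ.filter (· ∈ B), pair p (χ : G → ℂ) ψ * pair p (ψ : G → ℂ) φ =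
      (Nat.card G : ℂ) * pair p (χ : G → ℂ) φ := by
    rw [Finset.sum_filter, pair, regSum_eq, Finset.mul_sum]
    calc (∑ ψ : IrrCharacter G, if ψ ∈ B then pair p (χ : G → ℂ) ψ * pair p (ψ : G → ℂ) φ else 0)
        = ∑ g : G, if ¬ p ∣ orderOf g then conj ((χ : G → ℂ) g) *
            (∑ ψ : IrrCharacter G, if ψ ∈ B then pair p (ψ : G → ℂ) φ * (ψ : G → ℂ) g else 0) else 0 := by
          calc (∑ ψ : IrrCharacter G, if ψ ∈ B then pair p (χ : G → ℂ) ψ * pair p (ψ : G → ℂ) φ else 0)
              = ∑ ψ : IrrCharacter G, ∑ g : G, if ¬ p ∣ orderOf g then conj ((χ : G → ℂ) g) *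
                  (if ψ ∈ B then pair p (ψ : G → ℂ) φ * (ψ : G → ℂ) g else 0) else 0 := by
                refine Finset.sum_congr rfl fun ψ _ => ?_
                by_cases hψ : ψ ∈ B
                · rw [if_pos hψ, pair, regSum_eq, Finset.sum_mul]
                  refine Finset.sum_congr rfl fun g _ => ?_
                  simp only [if_pos hψ]
                  split_ifs <;> ring
                · simp [hψ]
            _ = _ := by
              rw [Finset.sum_comm]
              refine Finset.sum_congr rfl fun g _ => ?_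
              by_cases hg : p ∣ orderOf g
              · simp [hg]
              · simp only [if_pos hg, Finset.mul_sum]
      _ = _ := by
          refine Finset.sum_congr rfl fun g _ => ?_
          by_cases hg : p ∣ orderOf g
          · simp [hg]
          · rw [if_pos hg, if_pos hg, sum_pair_mul hM hB hφ hg]; ring
  rw [pair_eq_contrib hM.1 χ hφ, ← hc, hG, Finset.sum_congr rfl fun ψ hψ => by
    rw [pair_eq_contrib hM.1 χ (Finset.mem_filter.1 hψ).2, pair_eq_contrib hM.1 ψ hφ, ← hc]] at h2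
  have h3 : c * c * (∑ ψ ∈ Finset.univ.filter (· ∈ B), (contrib p B χ ψ : ℂ) * (contrib p B ψ φ : ℂ)) =
      c * c * ((p : ℂ) ^ blockDefect p B * (contrib p B χ φ : ℂ)) := by
    rw [Finset.mul_sum]
    calc _ = ∑ ψ ∈ Finset.univ.filter (· ∈ B), c * (contrib p B χ ψ : ℂ) * (c * (contrib p B ψ φ : ℂ)) :=
          Finset.sum_congr rfl fun ψ _ => by ring
      _ = _ := by rw [h2]; ring
  exact_mod_cast mul_left_cancel₀ (mul_ne_zero hc0 hc0) h3

theorem sum_contrib_sq (hM : IsPModular p M) {B : Set (IrrCharacter G)} (hB : IsPBlock M B)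
    {χ : IrrCharacter G} (hχ : χ ∈ B) :
    ∑ ψ ∈ Finset.univ.filter (· ∈ B), contrib p B χ ψ ^ 2 =
      (p : ℤ) ^ blockDefect p B * contrib p B χ χ := by
  rw [← sum_contrib_mul hM hB hχ hχ]
  refine Finset.sum_congr rfl fun ψ hψ => ?_
  rw [pow_two, contrib_comm hM.1 (Finset.mem_filter.1 hψ).2 hχ]

theorem contrib_self_pos (hp : p.Prime) {B : Set (IrrCharacter G)} {χ : IrrCharacter G} (hχ : χ ∈ B) :
    0 < contrib p B χ χ := by
  have h : pair p (χ : G → ℂ) χ = ((∑ g : G, if ¬ p ∣ orderOf g then ‖(χ : G → ℂ) g‖ ^ 2 else 0 : ℝ) : ℂ) := by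
    rw [pair, regSum_eq, Complex.ofReal_sum]
    refine Finset.sum_congr rfl fun g _ => ?_
    split_ifs <;> simp [Complex.conj_mul']
  have hpos : 0 < ∑ g : G, if ¬ p ∣ orderOf g then ‖(χ : G → ℂ) g‖ ^ 2 else 0 := by
    refine Finset.sum_pos' (fun g _ => by split_ifs <;> positivity) ⟨1, Finset.mem_univ _, ?_⟩
    rw [orderOf_one, if_pos (by simpa using hp.ne_one)]
    have := irr_one_ne_zero χ
    positivity
  rw [pair_eq_contrib hp χ hχ] at h
  have h' := congrArg Complex.re h
  rw [show (cofactor p G : ℂ) * (p : ℂ) ^ minExp p B * (contrib p B χ χ : ℂ) =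
    (((cofactor p G : ℝ) * (p : ℝ) ^ minExp p B * (contrib p B χ χ : ℝ) : ℝ) : ℂ) by push_cast; ring,
    Complex.ofReal_re, Complex.ofReal_re] at h'
  by_contra hle
  push Not at hle
  have hle' : (contrib p B χ χ : ℝ) ≤ 0 := by exact_mod_cast hle
  have : (cofactor p G : ℝ) * (p : ℝ) ^ minExp p B * (contrib p B χ χ : ℝ) ≤ 0 :=
    mul_nonpos_of_nonneg_of_nonpos (by positivity) hle'
  linarith

theorem contrib_self_le (hM : IsPModular p M) {B : Set (IrrCharacter G)} (hB : IsPBlock M B)
    {χ : IrrCharacter G} (hχ : χ ∈ B) : contrib p B χ χ ≤ (p : ℤ) ^ blockDefect p B := by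
  have h := sum_contrib_sq hM hB hχ
  have h1 : contrib p B χ χ ^ 2 ≤ ∑ ψ ∈ Finset.univ.filter (· ∈ B), contrib p B χ ψ ^ 2 :=
    Finset.single_le_sum (f := fun ψ => contrib p B χ ψ ^ 2) (fun ψ _ => sq_nonneg _) (by simp [hχ])
  rw [h, pow_two] at h1
  exact le_of_mul_le_mul_right h1 (contrib_self_pos hM.1 hχ)

/-- The off-diagonal part of a row is small. -/
theorem four_mul_sum_erase_le (hM : IsPModular p M) {B : Set (IrrCharacter G)} (hB : IsPBlock M B)
    {χ : IrrCharacter G} (hχ : χ ∈ B) :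
    4 * ∑ ψ ∈ (Finset.univ.filter (· ∈ B)).erase χ, contrib p B χ ψ ^ 2 ≤ (p : ℤ) ^ (2 * blockDefect p B) := by
  have h := sum_contrib_sq hM hB hχ
  rw [← Finset.add_sum_erase _ _ (show χ ∈ Finset.univ.filter (· ∈ B) by simp [hχ])] at h
  rw [pow_mul', eq_sub_of_add_eq' h]
  nlinarith [sq_nonneg (2 * contrib p B χ χ - (p : ℤ) ^ blockDefect p B)]

end Cfsg.Agent.BlockContrib
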