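import Mathlib
import Cfsg.Agent.Lib.BlockContrib
import Cfsg.Agent.Lib.CharBasicDecomp

/-!
# Characters scaled on the `p`-regular elements
-/

set_option autoImplicit false

open scoped ComplexConjugate

namespace Cfsg.Agent.BrauerBlocksRegFun

open Cfsg BlockTheoryLocalRing BlockTheoryCentre BlockTheoryIdem BlockContribPrime BlockContrib
  ClassAlgebraVal

variable {p : ℕ} {G : Type*} [Group G] [Fintype G]

/-- The function `c • χ` on the regular elements, zero elsewhere. -/
noncomputable def regFun (p : ℕ) (c : ℂ) (χ : G → ℂ) : G → ℂ :=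
  fun x => if p ∣ orderOf x then 0 else c * χ x

omit [Fintype G] in
theorem isClassFunction_regFun (c : ℂ) (χ : IrrCharacter G) [Finite G] :
    IsClassFunction G (regFun p c (χ : G → ℂ)) := fun g h => by
  unfold regFun
  rw [show orderOf (h * g * h⁻¹) = orderOf g from MulEquiv.orderOf_eq (MulAut.conj h) g,
    irr_classFun χ g h]

theorem classInner_regFun (c : ℂ) (χ ψ : IrrCharacter G) :
    classInner (regFun p c (χ : G → ℂ)) (ψ : G → ℂ) =
      c * (Nat.card G : ℂ)⁻¹ * pair p (χ : G → ℂ) ψ := by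
  rw [pair_comm, pair, regSum_eq, classInner, mul_assoc, Finset.mul_sum, Finset.mul_sum,
    Finset.mul_sum]
  refine Finset.sum_congr rfl fun g _ => ?_
  unfold regFun
  split_ifs <;> ring

/-- The coefficient of the scaled character in terms of the contribution. -/
theorem classInner_regFun_eq (hp : p.Prime) {B : Set (IrrCharacter G)} (c : ℂ) (χ : IrrCharacter G)
    {ψ : IrrCharacter G} (hψ : ψ ∈ B) :
    classInner (regFun p c (χ : G → ℂ)) (ψ : G → ℂ) =
      c * ((p : ℂ) ^ (Nat.card G).factorization p)⁻¹ * (p : ℂ) ^ minExp p B *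
        (contrib p B χ ψ : ℂ) := by
  have hG : (Nat.card G : ℂ) = (p : ℂ) ^ (Nat.card G).factorization p * (cofactor p G : ℂ) := by
    exact_mod_cast (pow_mul_cofactor (G := G) p).symm
  have hc : (cofactor p G : ℂ) ≠ 0 :=
    Nat.cast_ne_zero.2 fun h => cofactor_not_dvd (G := G) hp (h ▸ dvd_zero p)
  have hp0 : (p : ℂ) ^ (Nat.card G).factorization p ≠ 0 :=
    pow_ne_zero _ (Nat.cast_ne_zero.2 hp.ne_zero)
  rw [classInner_regFun, pair_eq_contrib hp χ hψ, hG]
  field_simp

/-- Integrality of the scaled coefficient. -/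
theorem exists_int_regFun (hp : p.Prime) (χ ψ : IrrCharacter G) :
    ∃ z : ℤ, classInner (regFun p ((p ^ (Nat.card G).factorization p : ℕ) : ℂ) (χ : G → ℂ))
      (ψ : G → ℂ) = (z : ℂ) := by
  refine ⟨(p : ℤ) ^ minExp p ({ψ} : Set (IrrCharacter G)) * contrib p {ψ} χ ψ, ?_⟩
  rw [classInner_regFun_eq hp _ χ (Set.mem_singleton ψ)]
  push_cast
  rw [mul_inv_cancel₀ (pow_ne_zero _ (Nat.cast_ne_zero.2 hp.ne_zero)), one_mul]

/-- The scaled coefficient in a block. -/
theorem classInner_regFun_block (hp : p.Prime) {B : Set (IrrCharacter G)} (χ : IrrCharacter G)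
    {ψ : IrrCharacter G} (hψ : ψ ∈ B) :
    classInner (regFun p ((p ^ (Nat.card G).factorization p : ℕ) : ℂ) (χ : G → ℂ)) (ψ : G → ℂ) =
      (((p : ℤ) ^ minExp p B * contrib p B χ ψ : ℤ) : ℂ) := by
  rw [classInner_regFun_eq hp _ χ hψ]
  push_cast
  rw [mul_inv_cancel₀ (pow_ne_zero _ (Nat.cast_ne_zero.2 hp.ne_zero)), one_mul]

/-- A modular maximal ideal exists. -/
theorem exists_isPModular (hp : p.Prime) : ∃ M : Ideal AlgInt, IsPModular p M := by
  have hne : Ideal.span {(p : AlgInt)} ≠ ⊤ := fun h => by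
    obtain ⟨u, hu⟩ := isUnit_iff_exists_inv.1 (Ideal.span_singleton_eq_top.1 h)
    have hu' : (p : ℂ) * (u : ℂ) = 1 := by simpa using congrArg Subtype.val hu
    have : (p : ℕ) ∣ 1 := ClassAlgebraVal.dvd_of_integral hp.ne_zero (z := (u : ℂ)) u.2
      (by rw [Nat.cast_one, ← hu', mul_comm])
    exact hp.ne_one (Nat.dvd_one.1 this)
  obtain ⟨M, hM, hle⟩ := Ideal.exists_le_maximal _ hne
  exact ⟨M, hp, hM, hle (Ideal.mem_span_singleton_self _)⟩

theorem regFun_eq_zero_of_not_mem {M : Ideal AlgInt} (hM : IsPModular p M)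
    {B : Set (IrrCharacter G)} (hB : IsPBlock M B) (c : ℂ) {χ ψ : IrrCharacter G} (hχ : χ ∈ B)
    (hψ : ψ ∉ B) : classInner (regFun p c (χ : G → ℂ)) (ψ : G → ℂ) = 0 := by
  rw [classInner_regFun, pair_eq_zero hM hB hχ hψ, mul_zero]

end Cfsg.Agent.BrauerBlocksRegFun
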