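import Cfsg.Agent.Lib.PFInvDade

/-!
Peterfalvi, Section 7 (7.6)-(7.9): the adjoint of the Dade map for `A = K \ {1}`, `K` normal in `L`, and coherent
sets of characters induced from `K`.
-/

set_option autoImplicit false

open Cfsg Cfsg.Agent.CharBasic Cfsg.Agent.CharBasicOrth Cfsg.Agent.CharBasicDecomp Cfsg.Agent.DadeMap
open Cfsg.Agent.PFInvDade Cfsg.Agent.CoherenceBasic
open Cfsg.Agent.CharInduced hiding conjFun conjFun_conjFun conjFun_one
open scoped ComplexConjugate Classical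

namespace Cfsg.Agent.PFCoherentDade

universe u

variable {G : Type u} [Group G] {A : Set G} {L : Subgroup G} {H : G → Subgroup G}

/-- The hypothesis (7.6): `K` normal in `L` and `A = K \ {1}`, under the Dade hypothesis. -/
structure Setup (A : Set G) (L : Subgroup G) (H : G → Subgroup G) (K : Subgroup ↥L) : Prop where
  dade : DadeHypothesis A L H
  normal : K.Normal
  mem_iff : ∀ a : ↥L, (a : G) ∈ A ↔ a ∈ K ∧ a ≠ 1

variable [Fintype G] [Fintype ↥L] {K : Subgroup ↥L}

/-- The character induced from the principal character of `K`. -/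
noncomputable def ind1 (K : Subgroup ↥L) : ↥L → ℂ := indFun K (fun _ => 1)

omit [Fintype G] in
theorem ind1_one : ind1 K 1 = (K.index : ℂ) := by rw [ind1, ind_one_apply, mul_one]

omit [Fintype G] in
theorem ind1_coe [K.Normal] (a : ↥K) : ind1 K a = (K.index : ℂ) := by
  have hK : (Nat.card K : ℂ) ≠ 0 := card_subgroup_ne_zero K
  rw [ind1, indFun_apply]
  have h : ∀ x : ↥L, extendByZero K (fun _ : ↥K => (1 : ℂ)) (x⁻¹ * (a : ↥L) * x) = 1 := fun x =>
    ext_zero_of_mem (fun _ : ↥K => (1 : ℂ))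
      (by simpa using (inferInstance : K.Normal).conj_mem _ a.2 x⁻¹)
  simp only [h, Finset.sum_const, Finset.card_univ, nsmul_eq_mul, mul_one]
  rw [← Nat.card_eq_fintype_card, ← Subgroup.card_mul_index K, Nat.cast_mul, ← mul_assoc,
    inv_mul_cancel₀ hK, one_mul]

/-- The integer degree of a character. -/
theorem exists_deg {θ : ↥K → ℂ} (hθ : IsIrrCharacter ↥K θ) : ∃ d : ℕ, 0 < d ∧ θ 1 = d := by
  obtain ⟨n, hn, he⟩ := isIrrCharacter_apply_one hθ
  exact ⟨n, hn, he⟩

omit [Fintype G] in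
theorem isChar_ind {θ : ↥K → ℂ} (hθ : IsIrrCharacter ↥K θ) : IsCharacter ↥L (indFun K θ) :=
  isCharacter_ind K (isCharacter_of_isIrrCharacter hθ)

omit [Fintype G] in
theorem mem_induced {θ : ↥K → ℂ} (hθ : IsIrrCharacter ↥K θ) (h1 : θ ≠ fun _ => 1) :
    indFun K θ ∈ inducedIrrAbove K ⊥ :=
  ⟨θ, hθ, h1, fun a ha => by rw [Subgroup.mem_bot, OneMemClass.coe_eq_one] at ha; rw [ha], rfl⟩

omit [Fintype G] in
theorem inner_ind_ind1 [K.Normal] {θ : ↥K → ℂ} (hθ : IsIrrCharacter ↥K θ) (h1 : θ ≠ fun _ => 1) :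
    classInner (indFun K θ) (ind1 K) = 0 := by
  rw [inner_ind_left K θ (χ := ind1 K) (isClassFunction_ind K _)]
  have e : (fun h : ↥K => ind1 K (h : ↥L)) = (K.index : ℂ) • fun _ : ↥K => (1 : ℂ) := by
    funext h
    simp [ind1_coe]
  rw [e, CharBasicOrth.classInner_smul_right, classInner_irr_ne hθ isIrrCharacter_one h1, mul_zero]

omit [Fintype G] in
theorem ind_eq_zero_off [K.Normal] (θ : ↥K → ℂ) {a : ↥L} (ha : a ∉ K) : indFun K θ a = 0 :=
  ind_normal_eq_zero K θ ha

/-- `Ind θ − θ(1) Ind 1`, a class function supported in `A`. -/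
noncomputable def tdiff (θ : ↥K → ℂ) : ↥L → ℂ := indFun K θ - θ 1 • ind1 K

omit [Fintype G] in
theorem tdiff_class (θ : ↥K → ℂ) : IsClassFunction ↥L (tdiff θ) := by
  intro g h
  simp only [tdiff, Pi.sub_apply, Pi.smul_apply]
  rw [isClassFunction_ind K _ g h, show ind1 K (h * g * h⁻¹) = ind1 K g from isClassFunction_ind K _ g h]

omit [Fintype G] in
theorem tdiff_supp (hS : Setup A L H K) (θ : ↥K → ℂ) (a : ↥L) (ha : (a : G) ∉ A) : tdiff θ a = 0 := by
  haveI := hS.normal
  by_cases h1 : a = 1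
  · subst h1
    simp only [tdiff, Pi.sub_apply, Pi.smul_apply, smul_eq_mul]
    rw [ind1_one, ind_one_apply]
    ring
  · have hK : a ∉ K := fun h => ha ((hS.mem_iff a).2 ⟨h, h1⟩)
    simp [tdiff, ind1, ind_eq_zero_off _ hK]

/-- The coefficient `(χ, τ(Ind θ − θ(1) Ind 1))`. -/
noncomputable def coeff (A : Set G) (L : Subgroup G) [Fintype ↥L] (H : G → Subgroup G) (K : Subgroup ↥L)
    (χ : G → ℂ) (θ : ↥K → ℂ) : ℂ :=
  classInner χ (dadeIsometry A L H (tdiff θ))

theorem coeff_principal (χ : G → ℂ) : coeff A L H K χ (fun _ => 1) = 0 := by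
  have h0 : tdiff (K := K) (fun _ => (1 : ℂ)) = 0 := by
    funext a; simp [tdiff, ind1]
  have hd : dadeIsometry A L H (0 : ↥L → ℂ) = 0 := by
    funext g; simp only [dadeIsometry]; split_ifs <;> rfl
  rw [coeff, h0, hd, classInner]
  simp

section local_formulas

variable (hS : Setup A L H K) {χ : G → ℂ} (hχ : IsClassFunction G χ)

include hS hχ in
theorem coeff_eq (θ : ↥K → ℂ) :
    coeff A L H K χ θ = classInner (fun h : ↥K => invDade A L H χ h) θ -
      conj (θ 1) * classInner (fun h : ↥K => invDade A L H χ h) (fun _ => 1) := by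
  haveI := hS.normal
  rw [coeff, inner_eq_dade hS.dade (tdiff_class θ) (tdiff_supp hS θ) hχ, tdiff,
    CharBasicOrth.classInner_sub_right, CharBasicOrth.classInner_smul_right, ind1,
    inner_ind_right K θ (invDade_isClassFunction hS.dade hχ),
    inner_ind_right K _ (invDade_isClassFunction hS.dade hχ)]

include hS hχ in
theorem principal_coeff :
    (Nat.card K : ℂ) * classInner (fun h : ↥K => invDade A L H χ h) (fun _ => 1) =
      - ∑ θ : IrrCharacter ↥K, coeff A L H K χ θ * (θ : ↥K → ℂ) 1 := by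
  haveI := hS.normal
  set f : ↥K → ℂ := fun h => invDade A L H χ h with hf
  have hfc : IsClassFunction ↥K f := fun a b =>
    invDade_isClassFunction hS.dade hχ (a : ↥L) (b : ↥L)
  have h1 := congrFun (eq_sum_classInner hfc) 1
  have h0 : f 1 = 0 := invDade_one hS.dade χ
  rw [h0] at h1
  simp only [Finset.sum_apply, Pi.smul_apply, smul_eq_mul] at h1
  have hd : ∀ θ : IrrCharacter ↥K, classInner f (θ : ↥K → ℂ) =
      coeff A L H K χ θ + (θ : ↥K → ℂ) 1 * classInner f (fun _ => 1) := by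
    intro θ
    obtain ⟨d, -, hd⟩ := exists_deg θ.2
    rw [coeff_eq hS hχ, hd, map_natCast]
    ring
  simp only [hd, add_mul, Finset.sum_add_distrib, mul_right_comm _ (classInner f fun _ => 1),
    ← Finset.sum_mul, ← sq, sum_sq_apply_one] at h1
  linear_combination -h1

include hS hχ in
theorem invDade_value (a : ↥K) (ha : a ≠ 1) :
    invDade A L H χ a = ∑ θ : IrrCharacter ↥K, coeff A L H K χ θ * (θ : ↥K → ℂ) a := by
  haveI := hS.normal
  set f : ↥K → ℂ := fun h => invDade A L H χ h with hf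
  have hfc : IsClassFunction ↥K f := fun a b =>
    invDade_isClassFunction hS.dade hχ (a : ↥L) (b : ↥L)
  have h1 := congrFun (eq_sum_classInner hfc) a
  simp only [Finset.sum_apply, Pi.smul_apply, smul_eq_mul] at h1
  have hd : ∀ θ : IrrCharacter ↥K, classInner f (θ : ↥K → ℂ) =
      coeff A L H K χ θ + (θ : ↥K → ℂ) 1 * classInner f (fun _ => 1) := by
    intro θ
    obtain ⟨d, -, hd⟩ := exists_deg θ.2
    rw [coeff_eq hS hχ, hd, map_natCast]
    ring
  have h2 : ∑ θ : IrrCharacter ↥K, (θ : ↥K → ℂ) a * (θ : ↥K → ℂ) 1 = 0 := by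
    have h := sum_irr_mul_conj a (1 : ↥K)
    rw [if_neg (fun h => ha (isConj_one_left.1 h))] at h
    rw [← h]
    refine Finset.sum_congr rfl fun θ _ => ?_
    obtain ⟨d, -, hd⟩ := exists_deg θ.2
    rw [hd, map_natCast]
  show f a = _
  rw [h1]
  simp only [hd, add_mul, Finset.sum_add_distrib]
  have : ∀ θ : IrrCharacter ↥K, (θ : ↥K → ℂ) 1 * classInner f (fun _ => 1) * (θ : ↥K → ℂ) a =
      classInner f (fun _ => 1) * ((θ : ↥K → ℂ) a * (θ : ↥K → ℂ) 1) := fun θ => by ring
  rw [Finset.sum_congr rfl fun θ _ => this θ, ← Finset.mul_sum, h2, mul_zero, add_zero]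

include hS hχ in
/-- (7.7): the norm of the adjoint. -/
theorem invDade_norm :
    (K.index : ℂ) * classInner (invDade A L H χ) (invDade A L H χ) =
      ∑ θ : IrrCharacter ↥K, coeff A L H K χ θ * conj (coeff A L H K χ θ) -
        (∑ θ : IrrCharacter ↥K, coeff A L H K χ θ * (θ : ↥K → ℂ) 1) *
          conj (∑ θ : IrrCharacter ↥K, coeff A L H K χ θ * (θ : ↥K → ℂ) 1) / (Nat.card K : ℂ) := by
  haveI := hS.normal
  set ρ := invDade A L H χ with hρ
  set f : ↥K → ℂ := fun h => ρ h with hf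
  have hfc : IsClassFunction ↥K f := fun a b =>
    invDade_isClassFunction hS.dade hχ (a : ↥L) (b : ↥L)
  have hK : (Nat.card K : ℂ) ≠ 0 := card_subgroup_ne_zero K
  have hsum : ∑ x : ↥L, ρ x * conj (ρ x) = ∑ h : ↥K, f h * conj (f h) := by
    have h2 : ∑ h : ↥K, f h * conj (f h) = ∑ x ∈ Finset.univ.filter (fun x : ↥L => x ∈ K), ρ x * conj (ρ x) :=
      (Finset.sum_subtype (p := fun x : ↥L => x ∈ K) _ (fun x => by simp) (fun x => ρ x * conj (ρ x))).symm
    rw [h2, Finset.sum_filter]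
    refine Finset.sum_congr rfl fun x _ => ?_
    split_ifs with h
    · rfl
    · rw [hρ, invDade_eq_zero x (fun hx => h ((hS.mem_iff x).1 hx).1), zero_mul]
  have hnorm : (K.index : ℂ) * classInner ρ ρ = classInner f f := by
    simp only [classInner, hsum]
    rw [← Subgroup.card_mul_index K, Nat.cast_mul]
    have hi : (K.index : ℂ) ≠ 0 := Nat.cast_ne_zero.2 Subgroup.index_ne_zero_of_finite
    field_simp
  rw [hnorm, classInner_eq_sum hfc]
  have hd : ∀ θ : IrrCharacter ↥K, classInner f (θ : ↥K → ℂ) =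
      coeff A L H K χ θ + (θ : ↥K → ℂ) 1 * classInner f (fun _ => 1) := by
    intro θ
    obtain ⟨d, -, hd⟩ := exists_deg θ.2
    rw [coeff_eq hS hχ, hd, map_natCast]
    ring
  simp only [hd, map_add, map_mul]
  set x₀ := classInner f (fun _ => 1) with hx₀
  set S := ∑ θ : IrrCharacter ↥K, coeff A L H K χ θ * (θ : ↥K → ℂ) 1 with hSdef
  have hx : x₀ = - S / (Nat.card K : ℂ) := by
    rw [eq_div_iff hK, mul_comm]; exact principal_coeff hS hχ
  have hdc : ∀ θ : IrrCharacter ↥K, conj ((θ : ↥K → ℂ) 1) = (θ : ↥K → ℂ) 1 := fun θ => by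
    obtain ⟨d, -, hd⟩ := exists_deg θ.2
    rw [hd, map_natCast]
  have hexp : ∀ θ : IrrCharacter ↥K,
      (coeff A L H K χ θ + (θ : ↥K → ℂ) 1 * x₀) * (conj (coeff A L H K χ θ) + conj ((θ : ↥K → ℂ) 1) * conj x₀) =
        coeff A L H K χ θ * conj (coeff A L H K χ θ) + conj x₀ * (coeff A L H K χ θ * (θ : ↥K → ℂ) 1) +
        x₀ * conj (coeff A L H K χ θ * (θ : ↥K → ℂ) 1) + x₀ * conj x₀ * ((θ : ↥K → ℂ) 1 ^ 2) := fun θ => by
    rw [map_mul, hdc]; ring
  rw [Finset.sum_congr rfl fun θ _ => hexp θ]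
  simp only [Finset.sum_add_distrib, ← Finset.mul_sum, ← map_sum, sum_sq_apply_one, ← hSdef]
  rw [hx]
  simp only [map_neg, map_div₀, map_natCast]
  field_simp
  ring

end local_formulas

/-- (7.8): `K`, `S`, a coherent extension `ν`, and an irreducible `ζ ∈ S` of degree `|L : K|`. -/
structure CohSetup (A : Set G) (L : Subgroup G) [Fintype ↥L] (H : G → Subgroup G) (K : Subgroup ↥L)
    (ν : (↥L → ℂ) → (G → ℂ)) (ζ : ↥L → ℂ) : Prop extends Setup A L H K where
  iso : IsLinearIsometryOn (zspan (inducedIrrAbove K ⊥)) ν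
  ext : ∀ α ∈ zspanOn (inducedIrrAbove K ⊥) {1}ᶜ, ν α = dadeIsometry A L H α
  mem : ζ ∈ inducedIrrAbove K ⊥
  irr : IsIrrCharacter ↥L ζ
  deg : ζ 1 = (K.index : ℂ)
  conj_ne : conjFun ζ ≠ ζ

/-- `β = τ(Ind 1 − ζ)`. -/
noncomputable def beta (A : Set G) (L : Subgroup G) [Fintype ↥L] (H : G → Subgroup G) (K : Subgroup ↥L)
    (ζ : ↥L → ℂ) : G → ℂ :=
  dadeIsometry A L H (ind1 K - ζ)

section coherent

variable {ν : (↥L → ℂ) → (G → ℂ)} {ζ : ↥L → ℂ} (hC : CohSetup A L H K ν ζ)

include hC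

theorem zeta_mem_K (a : ↥L) (ha : a ∉ K) : ζ a = 0 := by
  haveI := hC.normal
  obtain ⟨θ, -, -, -, rfl⟩ := hC.mem
  exact ind_eq_zero_off θ ha

theorem bdiff_class : IsClassFunction ↥L (ind1 K - ζ) := by
  intro g h
  simp only [Pi.sub_apply]
  rw [show ind1 K (h * g * h⁻¹) = ind1 K g from isClassFunction_ind K _ g h,
    isClassFunction_of_isCharacter (isCharacter_of_isIrrCharacter hC.irr) g h]

theorem bdiff_supp (a : ↥L) (ha : (a : G) ∉ A) : (ind1 K - ζ) a = 0 := by
  haveI := hC.normal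
  by_cases h1 : a = 1
  · subst h1; simp [ind1_one, hC.deg]
  · have hK : a ∉ K := fun h => ha ((hC.mem_iff a).2 ⟨h, h1⟩)
    simp [ind1, ind_eq_zero_off _ hK, zeta_mem_K hC a hK]

theorem beta_class : IsClassFunction G (beta A L H K ζ) := dade_isClassFunction hC.dade (bdiff_class hC)

theorem beta_gen : IsGeneralizedCharacter G (beta A L H K ζ) :=
  DadeGenChar.dade_gen hC.dade
    (isGeneralizedCharacter_sub
      (isGeneralizedCharacter_of_isCharacter (isCharacter_ind K CharBasicDecomp.isCharacter_one))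
      (isGeneralizedCharacter_of_isCharacter (isCharacter_of_isIrrCharacter hC.irr)))
    (bdiff_supp hC)

theorem nu_gen {θ : ↥K → ℂ} (hθ : IsIrrCharacter ↥K θ) (h1 : θ ≠ fun _ => 1) :
    IsGeneralizedCharacter G (ν (indFun K θ)) :=
  hC.iso.2.2.2 _ (subset_zspan (mem_induced hθ h1))

theorem nu_class {θ : ↥K → ℂ} (hθ : IsIrrCharacter ↥K θ) (h1 : θ ≠ fun _ => 1) :
    IsClassFunction G (ν (indFun K θ)) :=
  isClassFunction_of_isGeneralizedCharacter (nu_gen hC hθ h1)

theorem sub_zeta_mem {θ : ↥K → ℂ} (hθ : IsIrrCharacter ↥K θ) (h1 : θ ≠ fun _ => 1) :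
    indFun K θ - θ 1 • ζ ∈ zspanOn (inducedIrrAbove K ⊥) {1}ᶜ := by
  obtain ⟨d, -, hd⟩ := exists_deg hθ
  refine mem_zspanOn_one (zspan_sub (subset_zspan (mem_induced hθ h1)) ?_) ?_
  · rw [hd]; exact zspan_natCast_smul d (subset_zspan hC.mem)
  · simp [ind_one_apply, hC.deg, mul_comm]

/-- `τ(Ind θ − θ(1) Ind 1) = ν(Ind θ) − θ(1) ν ζ − θ(1) β`. -/
theorem dade_tdiff {θ : ↥K → ℂ} (hθ : IsIrrCharacter ↥K θ) (h1 : θ ≠ fun _ => 1) :
    dadeIsometry A L H (tdiff θ) = ν (indFun K θ) - θ 1 • (ν ζ + beta A L H K ζ) := by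
  obtain ⟨d, -, hd⟩ := exists_deg hθ
  have hu : IsLinearIsometryOn (zspanOn (inducedIrrAbove K ⊥) Set.univ) ν := iso_univ hC.iso
  have e1 := hC.ext _ (sub_zeta_mem hC hθ h1)
  rw [hd, span_map_sub hC.iso (subset_zspan (mem_induced hθ h1))
    (zspan_natCast_smul d (subset_zspan hC.mem)), span_map_natCast_smul hC.iso d (subset_zspan hC.mem)] at e1
  have e2 : tdiff θ = (indFun K θ - (d : ℂ) • ζ) - (d : ℂ) • (ind1 K - ζ) := by
    rw [tdiff, hd, smul_sub]; abel
  funext g
  have e3 : dadeIsometry A L H (tdiff θ) g =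
      dadeIsometry A L H (indFun K θ - (d : ℂ) • ζ) g - (d : ℂ) * dadeIsometry A L H (ind1 K - ζ) g := by
    rw [e2]
    simp only [dadeIsometry]
    split_ifs <;> simp
  rw [e3, ← e1, hd]
  simp only [beta, Pi.sub_apply, Pi.smul_apply, Pi.add_apply, smul_eq_mul]
  ring

/-- The coherent coefficient formula. -/
theorem coeff_coherent (χ : G → ℂ) {θ : ↥K → ℂ} (hθ : IsIrrCharacter ↥K θ) (h1 : θ ≠ fun _ => 1) :
    coeff A L H K χ θ =
      classInner χ (ν (indFun K θ)) - θ 1 * (classInner χ (ν ζ) + classInner χ (beta A L H K ζ)) := by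
  obtain ⟨d, -, hd⟩ := exists_deg hθ
  rw [coeff, dade_tdiff hC hθ h1, CharBasicOrth.classInner_sub_right, CharBasicOrth.classInner_smul_right,
    CharBasicOrth.classInner_add_right, hd, map_natCast]

/-- `∑ θ(1) θ(a) = 0` over the nonprincipal characters, up to the principal one. -/
theorem sum_deg_mul (a : ↥K) :
    ∑ θ ∈ Finset.univ.erase (trivIrr ↥K), (θ : ↥K → ℂ) 1 * (θ : ↥K → ℂ) a =
      (if a = 1 then (Nat.card K : ℂ) else 0) - 1 := by
  have hd : ∀ θ : IrrCharacter ↥K, (θ : ↥K → ℂ) 1 = conj ((θ : ↥K → ℂ) 1) := fun θ => by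
    obtain ⟨d, -, hd⟩ := exists_deg θ.2; rw [hd, map_natCast]
  have h : ∑ θ : IrrCharacter ↥K, (θ : ↥K → ℂ) 1 * (θ : ↥K → ℂ) a = if a = 1 then (Nat.card K : ℂ) else 0 := by
    split_ifs with ha
    · subst ha
      rw [← sum_sq_apply_one]
      exact Finset.sum_congr rfl fun θ _ => by ring
    · have h := sum_irr_mul_conj a (1 : ↥K)
      rw [if_neg (fun h => ha (isConj_one_left.1 h))] at h
      rw [← h]
      exact Finset.sum_congr rfl fun θ _ => by rw [← hd θ]; ring
  rw [← h, ← Finset.add_sum_erase _ _ (Finset.mem_univ (trivIrr ↥K))]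
  simp [trivIrr]

/-- (7.8): a class function orthogonal to the image of `ν` has constant adjoint on `A`. -/
theorem invDade_orthogonal {χ : G → ℂ} (hχ : IsClassFunction G χ)
    (horth : ∀ φ ∈ inducedIrrAbove K ⊥, classInner χ (ν φ) = 0) (a : ↥L) (ha : (a : G) ∈ A) :
    invDade A L H χ a = classInner χ (beta A L H K ζ) := by
  obtain ⟨haK, ha1⟩ := (hC.mem_iff a).1 ha
  have ha1' : (⟨a, haK⟩ : ↥K) ≠ 1 := fun h => ha1 (congrArg Subtype.val h)
  rw [show invDade A L H χ a = invDade A L H χ ((⟨a, haK⟩ : ↥K) : ↥L) from rfl,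
    invDade_value hC.toSetup hχ _ ha1', ← Finset.add_sum_erase _ _ (Finset.mem_univ (trivIrr ↥K))]
  have h0 : coeff A L H K χ ((trivIrr ↥K : IrrCharacter ↥K) : ↥K → ℂ) = 0 := coeff_principal χ
  rw [h0, zero_mul, zero_add]
  have h : ∀ θ ∈ Finset.univ.erase (trivIrr ↥K), coeff A L H K χ θ * (θ : ↥K → ℂ) ⟨a, haK⟩ =
      - classInner χ (beta A L H K ζ) * ((θ : ↥K → ℂ) 1 * (θ : ↥K → ℂ) ⟨a, haK⟩) := by
    intro θ hθ
    have h1 : (θ : ↥K → ℂ) ≠ fun _ => 1 := fun h => Finset.ne_of_mem_erase hθ (Subtype.ext h)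
    rw [coeff_coherent hC χ θ.2 h1, horth _ (mem_induced θ.2 h1), horth _ hC.mem]
    ring
  rw [Finset.sum_congr rfl h, ← Finset.mul_sum, sum_deg_mul hC, if_neg ha1']
  ring

/-- The inner products `(ζ, Ind θ)`. -/
theorem zeta_inner (θ : ↥K → ℂ) :
    classInner ζ (indFun K θ) = classInner (fun h : ↥K => ζ h) θ :=
  inner_ind_right K θ (isClassFunction_of_isCharacter (isCharacter_of_isIrrCharacter hC.irr))

theorem zeta_principal : classInner (fun h : ↥K => ζ h) (fun _ => 1) = 0 := by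
  haveI := hC.normal
  rw [← zeta_inner hC]
  obtain ⟨θ, hθ, h1, -, rfl⟩ := hC.mem
  exact inner_ind_ind1 hθ h1

theorem res_zeta_class : IsClassFunction ↥K (fun h : ↥K => ζ h) := fun a b => by
  exact isClassFunction_of_isCharacter (isCharacter_of_isIrrCharacter hC.irr) (a : ↥L) (b : ↥L)

theorem sum_zeta_deg :
    ∑ θ : IrrCharacter ↥K, classInner (fun h : ↥K => ζ h) θ * (θ : ↥K → ℂ) 1 = (K.index : ℂ) := by
  have h := congrFun (eq_sum_classInner (res_zeta_class hC)) 1
  simp only [Finset.sum_apply, Pi.smul_apply, smul_eq_mul] at h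
  rw [← h]
  exact hC.deg

theorem sum_zeta_sq :
    ∑ θ : IrrCharacter ↥K, classInner (fun h : ↥K => ζ h) θ * conj (classInner (fun h : ↥K => ζ h) θ) =
      (K.index : ℂ) := by
  haveI := hC.normal
  rw [← classInner_eq_sum (res_zeta_class hC)]
  have hsum : ∑ x : ↥L, ζ x * conj (ζ x) = ∑ h : ↥K, ζ h * conj (ζ h) := by
    have h2 : ∑ h : ↥K, ζ h * conj (ζ h) = ∑ x ∈ Finset.univ.filter (fun x : ↥L => x ∈ K), ζ x * conj (ζ x) :=
      (Finset.sum_subtype (p := fun x : ↥L => x ∈ K) _ (fun x => by simp) (fun x => ζ x * conj (ζ x))).symm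
    rw [h2, Finset.sum_filter]
    refine Finset.sum_congr rfl fun x _ => ?_
    split_ifs with h
    · rfl
    · rw [zeta_mem_K hC x h, zero_mul]
  have h1 := classInner_irr_self hC.irr
  simp only [classInner] at h1 ⊢
  rw [hsum, ← Subgroup.card_mul_index K, Nat.cast_mul] at h1
  have hK : (Nat.card K : ℂ) ≠ 0 := card_subgroup_ne_zero K
  have hi : (K.index : ℂ) ≠ 0 := Nat.cast_ne_zero.2 Subgroup.index_ne_zero_of_finite
  field_simp at h1 ⊢
  linear_combination h1

/-- (7.8): the norm of the adjoint of `ν ζ`, exactly. -/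
theorem invDade_nu_norm :
    classInner (invDade A L H (ν ζ)) (invDade A L H (ν ζ)) =
      1 - (K.index : ℂ) / (Nat.card K : ℂ) -
        2 * (1 + classInner (ν ζ) (beta A L H K ζ)) / (Nat.card K : ℂ) +
        (1 + classInner (ν ζ) (beta A L H K ζ)) ^ 2 * ((Nat.card K : ℂ) - 1) /
          ((Nat.card K : ℂ) * (K.index : ℂ)) := by
  haveI := hC.normal
  obtain ⟨θ₀, hθ₀, h₀, -, hζ⟩ := hC.mem
  have hνcl : IsClassFunction G (ν ζ) := hζ ▸ nu_class hC hθ₀ h₀
  obtain ⟨b, hb⟩ := classInner_isGeneralizedCharacter (hζ ▸ nu_gen hC hθ₀ h₀ : IsGeneralizedCharacter G (ν ζ))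
    (beta_gen hC)
  have h11 : classInner (ν ζ) (ν ζ) = 1 := by
    rw [hC.iso.2.2.1 _ (subset_zspan hC.mem) _ (subset_zspan hC.mem), classInner_irr_self hC.irr]
  set k : ℂ := 1 + classInner (ν ζ) (beta A L H K ζ) with hk
  have hkc : conj k = k := by rw [hk, hb, map_add, map_one, map_intCast]
  set z : IrrCharacter ↥K → ℂ := fun θ => classInner (fun h : ↥K => ζ h) θ with hz
  set d : IrrCharacter ↥K → ℂ := fun θ => if θ = trivIrr ↥K then 0 else (θ : ↥K → ℂ) 1 with hd
  have hc : ∀ θ : IrrCharacter ↥K, coeff A L H K (ν ζ) θ = z θ - k * d θ := by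
    intro θ
    by_cases h : θ = trivIrr ↥K
    · subst h
      rw [show coeff A L H K (ν ζ) ((trivIrr ↥K : IrrCharacter ↥K) : ↥K → ℂ) = 0 from coeff_principal _]
      simp only [hd, if_true, mul_zero, sub_zero, hz]
      exact (zeta_principal hC).symm
    · have h1 : (θ : ↥K → ℂ) ≠ fun _ => 1 := fun e => h (Subtype.ext e)
      rw [coeff_coherent hC _ θ.2 h1, h11,
        hC.iso.2.2.1 _ (subset_zspan hC.mem) _ (subset_zspan (mem_induced θ.2 h1)), zeta_inner hC]
      simp only [hd, if_neg h, hz, hk]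
      ring
  have hdc : ∀ θ, conj (d θ) = d θ := fun θ => by
    obtain ⟨n, -, hn⟩ := exists_deg θ.2
    simp only [hd]; split_ifs <;> simp [hn]
  have s2 : ∑ θ, d θ * d θ = (Nat.card K : ℂ) - 1 := by
    rw [← Finset.add_sum_erase _ _ (Finset.mem_univ (trivIrr ↥K))]
    simp only [hd, if_true, mul_zero, zero_add]
    rw [Finset.sum_congr rfl fun θ hθ => by rw [if_neg (Finset.ne_of_mem_erase hθ)], sum_deg_mul hC,
      if_pos rfl]
  have s3 : ∑ θ, d θ * (θ : ↥K → ℂ) 1 = (Nat.card K : ℂ) - 1 := by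
    rw [← Finset.add_sum_erase _ _ (Finset.mem_univ (trivIrr ↥K))]
    simp only [hd, if_true, zero_mul, zero_add]
    rw [Finset.sum_congr rfl fun θ hθ => by rw [if_neg (Finset.ne_of_mem_erase hθ)], sum_deg_mul hC,
      if_pos rfl]
  have s4 : ∑ θ, z θ * d θ = (K.index : ℂ) := by
    rw [← sum_zeta_deg hC]
    refine Finset.sum_congr rfl fun θ _ => ?_
    simp only [hd]
    split_ifs with h
    · subst h
      simp only [hz]
      rw [show classInner (fun h : ↥K => ζ h) ((trivIrr ↥K : IrrCharacter ↥K) : ↥K → ℂ) = 0 from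
        zeta_principal hC]
      simp
    · rfl
  have s1 : ∑ θ, z θ * conj (z θ) = (K.index : ℂ) := sum_zeta_sq hC
  have s5 : ∑ θ, conj (z θ) * d θ = (K.index : ℂ) := by
    have := congrArg (starRingEnd ℂ) s4
    rw [map_sum, map_natCast] at this
    rw [← this]
    exact Finset.sum_congr rfl fun θ _ => by rw [map_mul, hdc]
  have s6 : ∑ θ, z θ * (θ : ↥K → ℂ) 1 = (K.index : ℂ) := sum_zeta_deg hC
  have hn := invDade_norm hC.toSetup hνcl
  simp only [hc, map_sub, map_mul, hkc, hdc, sub_mul, mul_sub, Finset.sum_sub_distrib] at hn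
  have t1 : ∑ θ, z θ * (k * d θ) = k * (K.index : ℂ) := by
    rw [← s4, Finset.mul_sum]; exact Finset.sum_congr rfl fun θ _ => by ring
  have t2 : ∑ θ, k * d θ * conj (z θ) = k * (K.index : ℂ) := by
    rw [← s5, Finset.mul_sum]; exact Finset.sum_congr rfl fun θ _ => by ring
  have t3 : ∑ θ, k * d θ * (k * d θ) = k ^ 2 * ((Nat.card K : ℂ) - 1) := by
    rw [← s2, Finset.mul_sum]; exact Finset.sum_congr rfl fun θ _ => by ring
  have t4 : ∑ θ, k * d θ * (θ : ↥K → ℂ) 1 = k * ((Nat.card K : ℂ) - 1) := by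
    rw [← s3, Finset.mul_sum]; exact Finset.sum_congr rfl fun θ _ => by ring
  rw [t1, t2, t3, t4, s1, s6] at hn
  simp only [map_natCast, map_sub, map_mul, hkc, map_one] at hn
  have hK : (Nat.card K : ℂ) ≠ 0 := card_subgroup_ne_zero K
  have hi : (K.index : ℂ) ≠ 0 := Nat.cast_ne_zero.2 Subgroup.index_ne_zero_of_finite
  field_simp at hn ⊢
  linear_combination hn

/-- (7.8)(b): if `2 |L : K| < |K|`, the norm of the adjoint of `ν ζ` is at least `1 − e / h`. -/
theorem one_sub_le_norm_invDade_nu (he : 2 * K.index < Nat.card K) :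
    1 - (K.index : ℝ) / (Nat.card K : ℝ) ≤
      (classInner (invDade A L H (ν ζ)) (invDade A L H (ν ζ))).re := by
  obtain ⟨θ₀, hθ₀, h₀, -, hζ⟩ := hC.mem
  obtain ⟨b, hb⟩ := classInner_isGeneralizedCharacter (hζ ▸ nu_gen hC hθ₀ h₀ : IsGeneralizedCharacter G (ν ζ))
    (beta_gen hC)
  have key : ((1 - (K.index : ℝ) / (Nat.card K : ℝ) - 2 * (1 + (b : ℝ)) / (Nat.card K : ℝ) +
      (1 + (b : ℝ)) ^ 2 * ((Nat.card K : ℝ) - 1) / ((Nat.card K : ℝ) * (K.index : ℝ)) : ℝ) : ℂ) =
      classInner (invDade A L H (ν ζ)) (invDade A L H (ν ζ)) := by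
    rw [invDade_nu_norm hC, hb]; push_cast; ring
  rw [← key, Complex.ofReal_re]
  have hi : (0 : ℝ) < K.index := by exact_mod_cast Nat.pos_of_ne_zero Subgroup.index_ne_zero_of_finite
  have hK : (0 : ℝ) < Nat.card K := by exact_mod_cast Nat.card_pos
  have h2 : 2 * (K.index : ℝ) ≤ (Nat.card K : ℝ) - 1 := by
    have : ((2 * K.index + 1 : ℕ) : ℝ) ≤ (Nat.card K : ℕ) := by exact_mod_cast he
    push_cast at this; linarith
  have hk : (0 : ℝ) ≤ (1 + (b : ℝ)) ^ 2 - (1 + (b : ℝ)) := by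
    have h' : (0 : ℤ) ≤ (1 + b) ^ 2 - (1 + b) := by linarith [Int.le_self_sq (1 + b)]
    exact_mod_cast h'
  have e : (1 + (b : ℝ)) ^ 2 * ((Nat.card K : ℝ) - 1) / ((Nat.card K : ℝ) * (K.index : ℝ)) -
      2 * (1 + (b : ℝ)) / (Nat.card K : ℝ) =
      ((1 + (b : ℝ)) ^ 2 * ((Nat.card K : ℝ) - 1 - 2 * K.index) + 2 * K.index * ((1 + (b : ℝ)) ^ 2 - (1 + b))) /
        ((Nat.card K : ℝ) * (K.index : ℝ)) := by
    field_simp; ring
  have : 0 ≤ ((1 + (b : ℝ)) ^ 2 * ((Nat.card K : ℝ) - 1 - 2 * K.index) +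
      2 * K.index * ((1 + (b : ℝ)) ^ 2 - (1 + b))) / ((Nat.card K : ℝ) * (K.index : ℝ)) :=
    div_nonneg (add_nonneg (mul_nonneg (sq_nonneg _) (by linarith)) (by positivity)) (by positivity)
  linarith

/-- (7.8)(a): `(β, 1) = 1`. -/
theorem beta_inner_one : classInner (beta A L H K ζ) (fun _ => 1) = 1 := by
  haveI := hC.normal
  rw [beta, inner_dade_eq hC.dade (bdiff_class hC) (bdiff_supp hC) (fun g h => rfl)]
  have h1 : classInner (ind1 K - ζ) (invDade A L H fun _ => 1) = classInner (ind1 K - ζ) (fun _ => 1) := by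
    simp only [classInner]
    congr 1
    refine Finset.sum_congr rfl fun a _ => ?_
    by_cases ha : (a : G) ∈ A
    · rw [invDade_const 1 a ha]
    · rw [bdiff_supp hC a ha, zero_mul, zero_mul]
  rw [h1, CharBasicOrth.classInner_sub_left, ind1, inner_ind_left K _ (fun g h => rfl),
    classInner_irr_self isIrrCharacter_one]
  have hne : ζ ≠ fun _ => (1 : ℂ) := fun h => hC.conj_ne (by rw [h]; funext x; simp [conjFun])
  rw [classInner_irr_ne hC.irr isIrrCharacter_one hne, sub_zero]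

theorem conj_zeta_mem : conjFun ζ ∈ inducedIrrAbove K ⊥ := by
  obtain ⟨θ, hθ, h1, -, hζ⟩ := hC.mem
  have e : conjFun ζ = indFun K (fun h => conj (θ h)) := by
    funext x
    simp only [conjFun, hζ, indFun_apply, map_mul, map_inv₀, map_natCast, map_sum, ext_zero_conj]
  rw [e]
  refine mem_induced (conjFun_isIrr hθ) fun h => h1 ?_
  funext x
  have := congrArg (starRingEnd ℂ) (congrFun h x)
  simpa using this

/-- `ν` commutes with complex conjugation on `ζ`, and its values on `S` are orthogonal to the principal character. -/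
theorem nu_conj (hodd : Odd (Nat.card G)) :
    conjFun (ν ζ) = ν (conjFun ζ) ∧ ∀ φ ∈ inducedIrrAbove K ⊥, classInner (ν φ) (fun _ => 1) = 0 := by
  set ζ' := conjFun ζ with hζ'
  have hm := conj_zeta_mem hC
  have hz := subset_zspan hC.mem
  have hz' := subset_zspan hm
  have hirr' : IsIrrCharacter ↥L ζ' := conjFun_isIrr hC.irr
  have h11 : classInner (ν ζ) (ν ζ) = 1 := by rw [hC.iso.2.2.1 _ hz _ hz, classInner_irr_self hC.irr]
  have h22 : classInner (ν ζ') (ν ζ') = 1 := by rw [hC.iso.2.2.1 _ hz' _ hz', classInner_irr_self hirr']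
  have h12 : classInner (ν ζ) (ν ζ') = 0 := by
    rw [hC.iso.2.2.1 _ hz _ hz', classInner_irr_ne hC.irr hirr' hC.conj_ne.symm]
  have h21 : classInner (ν ζ') (ν ζ) = 0 := by
    rw [hC.iso.2.2.1 _ hz' _ hz, classInner_irr_ne hirr' hC.irr hC.conj_ne]
  have g1 : IsGeneralizedCharacter G (ν ζ) := hC.iso.2.2.2 _ hz
  have g2 : IsGeneralizedCharacter G (ν ζ') := hC.iso.2.2.2 _ hz'
  have s1 : SignedIrr (ν ζ) := si_of_norm_one g1 h11
  have s2 : SignedIrr (ν ζ') := si_of_norm_one g2 h22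
  have hsub : ζ - ζ' ∈ zspanOn (inducedIrrAbove K ⊥) {1}ᶜ :=
    mem_zspanOn_one (zspan_sub hz hz') (by
      simp [hζ', conjFun_apply_one (isCharacter_of_isIrrCharacter hC.irr)])
  have e : ν ζ - ν ζ' = dadeIsometry A L H (ζ - ζ') := by
    rw [← span_map_sub hC.iso hz hz', hC.ext _ hsub]
  have hΔ : conjFun (ν ζ - ν ζ') = -(ν ζ - ν ζ') := by
    rw [e, ← dade_conjFun, show conjFun (ζ - ζ') = -(ζ - ζ') from funext fun x => by simp [hζ', conjFun]]
    funext g; simp only [dadeIsometry, Pi.neg_apply]; split_ifs <;> simp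
  have hc1 : IsGeneralizedCharacter G (conjFun (ν ζ)) := by
    obtain ⟨a, b, ha, hb, hab⟩ := g1
    exact ⟨conjFun a, conjFun b, isCharacter_conj ha, isCharacter_conj hb, by
      funext x; simp [hab, conjFun]⟩
  have hcs : SignedIrr (conjFun (ν ζ)) := si_of_norm_one hc1 (by rw [classInner_conjFun, h11, map_one])
  -- neither is real
  have hreal : ∀ f : G → ℂ, SignedIrr f → conjFun f = f → f = (fun _ => 1) ∨ f = (fun _ => -1) := by
    intro f hf hfr
    rcases hf with h | h
    · exact Or.inl (Cfsg.Agent.S0161.real_eq_one hodd h fun g => by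
        rw [isCharacter_inv (isCharacter_of_isIrrCharacter h) g]; exact congrFun hfr g)
    · right
      have h1 := Cfsg.Agent.S0161.real_eq_one hodd h fun g => by
        rw [isCharacter_inv (isCharacter_of_isIrrCharacter h) g]
        have := congrFun hfr g
        simp only [conjFun] at this
        simp [this]
      funext g
      have := congrFun h1 g
      simp only [Pi.neg_apply] at this
      rw [← this, neg_neg]
  have hlead : conjFun (ν ζ) = ν ζ' ∧ classInner (ν ζ) (fun _ => 1) = 0 := by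
    have key : classInner (conjFun (ν ζ)) (ν ζ - ν ζ') = -1 := by
      have h := classInner_conjFun (ν ζ) (ν ζ - ν ζ')
      rw [hΔ, CharBasicOrth.classInner_neg_right, CharBasicOrth.classInner_sub_right (ν ζ), h11, h12,
        sub_zero, map_one] at h
      linear_combination -h
    rcases si_cases hcs s2 with h | ⟨ε, hε, he, -⟩
    · exfalso
      rw [CharBasicOrth.classInner_sub_right, h, sub_zero] at key
      rcases si_cases hcs s1 with h' | ⟨ε, hε, he, he'⟩
      · rw [h'] at key; norm_num at key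
      rw [key] at he'
      have hε1 : ε = -1 := by exact_mod_cast he'.symm
      subst hε1
      rcases s1 with h' | h'
      · have hneg := congrFun he 1
        simp only [conjFun, Pi.smul_apply, smul_eq_mul] at hneg
        obtain ⟨n, hn0, hn⟩ := isIrrCharacter_apply_one h'
        rw [hn] at hneg
        push_cast at hneg
        rw [map_natCast] at hneg
        have : (n : ℂ) = 0 := by linear_combination hneg / 2
        simp only [Nat.cast_eq_zero] at this
        omega
      · have hneg := congrFun he 1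
        simp only [conjFun, Pi.smul_apply, smul_eq_mul] at hneg
        obtain ⟨n, hn0, hn⟩ := isIrrCharacter_apply_one h'
        simp only [Pi.neg_apply] at hn
        rw [show ν ζ 1 = -(n : ℂ) by rw [← hn, neg_neg]] at hneg
        push_cast at hneg
        rw [map_neg, map_natCast] at hneg
        have : (n : ℂ) = 0 := by linear_combination (-1/2 : ℂ) * hneg
        simp only [Nat.cast_eq_zero] at this
        omega
    · have h0 : classInner (conjFun (ν ζ)) (ν ζ) = 0 := by
        have h := h21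
        rw [he, CharBasicOrth.classInner_smul_left, mul_eq_zero] at h
        rcases h with h | h
        · rcases hε with rfl | rfl <;> norm_num at h
        · exact h
      have hε1 : ε = 1 := by
        rw [CharBasicOrth.classInner_sub_right, h0, he, CharBasicOrth.classInner_smul_right,
          si_self hcs, mul_one, Complex.conj_ofReal] at key
        have : (ε : ℂ) = 1 := by linear_combination -key
        exact_mod_cast this
      subst hε1
      have hc : conjFun (ν ζ) = ν ζ' := by simpa using he.symm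
      refine ⟨hc, ?_⟩
      rcases si_cases s1 (Or.inl isIrrCharacter_one : SignedIrr (fun _ : G => (1 : ℂ))) with h | ⟨δ, hδ, hδe, -⟩
      · exact h
      · exfalso
        have hfix : conjFun (ν ζ) = ν ζ := by
          have hg : ν ζ = fun _ => (δ : ℂ) := funext fun g => by
            have := congrFun hδe g
            simp only [Pi.smul_apply, smul_eq_mul] at this
            rcases hδ with rfl | rfl <;> push_cast at this ⊢ <;> first | linear_combination -this | linear_combination this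
          rw [hg]; funext g; simp [conjFun]
        rw [hc] at hfix
        rw [hfix, h11] at h12
        norm_num at h12
  refine ⟨hlead.1, fun φ hφ => ?_⟩
  obtain ⟨θ, hθ, h1, -, rfl⟩ := hφ
  obtain ⟨d, -, hd⟩ := exists_deg hθ
  haveI := hC.normal
  have hmem := sub_zeta_mem hC hθ h1
  have e1 := hC.ext _ hmem
  rw [hd, span_map_sub hC.iso (subset_zspan (mem_induced hθ h1))
    (zspan_natCast_smul d hz), span_map_natCast_smul hC.iso d hz] at e1
  have hsupp : ∀ x : ↥L, (x : G) ∉ A → (indFun K θ - (d : ℂ) • ζ) x = 0 := by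
    intro x hx
    by_cases hx1 : x = 1
    · subst hx1; simp [ind_one_apply, hd, hC.deg, mul_comm]
    · have hK : x ∉ K := fun h => hx ((hC.mem_iff x).2 ⟨h, hx1⟩)
      simp [ind_eq_zero_off θ hK, zeta_mem_K hC x hK]
  have hcls : IsClassFunction ↥L (indFun K θ - (d : ℂ) • ζ) := fun g h => by
    simp [isClassFunction_ind K _ g h,
      isClassFunction_of_isCharacter (isCharacter_of_isIrrCharacter hC.irr) g h]
  have h2 := congrArg (fun f => classInner f (fun _ : G => (1 : ℂ))) e1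
  simp only [CharBasicOrth.classInner_sub_left, CharBasicOrth.classInner_smul_left, hlead.2, mul_zero,
    sub_zero] at h2
  rw [h2, inner_dade_eq hC.dade hcls hsupp (fun g h => rfl)]
  have h3 : classInner (indFun K θ - (d : ℂ) • ζ) (invDade A L H fun _ => 1) =
      classInner (indFun K θ - (d : ℂ) • ζ) (fun _ => 1) := by
    simp only [classInner]
    congr 1
    refine Finset.sum_congr rfl fun a _ => ?_
    by_cases ha : (a : G) ∈ A
    · rw [invDade_const 1 a ha]
    · rw [hsupp a ha, zero_mul, zero_mul]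
  have hne : ζ ≠ fun _ => (1 : ℂ) := fun h => hC.conj_ne (by rw [h]; funext x; simp [conjFun])
  rw [h3, CharBasicOrth.classInner_sub_left, CharBasicOrth.classInner_smul_left,
    inner_ind_left K θ (fun g h => rfl), classInner_irr_ne hθ isIrrCharacter_one h1,
    classInner_irr_ne hC.irr isIrrCharacter_one hne, mul_zero, sub_zero]

/-- `(β, ν (Ind θ)) = θ(1) ((β, ν ζ) + 1) − (ζ, Ind θ)`. -/
theorem beta_inner_nu {θ : ↥K → ℂ} (hθ : IsIrrCharacter ↥K θ) (h1 : θ ≠ fun _ => 1) :
    classInner (beta A L H K ζ) (ν (indFun K θ)) =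
      θ 1 * (classInner (beta A L H K ζ) (ν ζ) + 1) - classInner ζ (indFun K θ) := by
  haveI := hC.normal
  obtain ⟨d, -, hd⟩ := exists_deg hθ
  have hmem := sub_zeta_mem hC hθ h1
  have e1 := hC.ext _ hmem
  rw [hd, span_map_sub hC.iso (subset_zspan (mem_induced hθ h1))
    (zspan_natCast_smul d (subset_zspan hC.mem)), span_map_natCast_smul hC.iso d (subset_zspan hC.mem)] at e1
  have h2 := congrArg (fun f => classInner (beta A L H K ζ) f) e1
  simp only [CharBasicOrth.classInner_sub_right, CharBasicOrth.classInner_smul_right, map_natCast, beta] at h2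
  have hcls : IsClassFunction ↥L (indFun K θ - (d : ℂ) • ζ) := fun g h => by
    simp [isClassFunction_ind K _ g h,
      isClassFunction_of_isCharacter (isCharacter_of_isIrrCharacter hC.irr) g h]
  rw [inner_dade_dade hC.dade (bdiff_class hC) (bdiff_supp hC) hcls,
    CharBasicOrth.classInner_sub_left, CharBasicOrth.classInner_sub_right,
    CharBasicOrth.classInner_sub_right, CharBasicOrth.classInner_smul_right,
    CharBasicOrth.classInner_smul_right, map_natCast, classInner_irr_self hC.irr] at h2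
  have a1 : classInner (ind1 K) (indFun K θ) = 0 := by
    rw [← CharBasicOrth.conj_classInner, inner_ind_ind1 hθ h1, map_zero]
  have a2 : classInner (ind1 K) ζ = 0 := by
    obtain ⟨θ₀, hθ₀, h₀, -, rfl⟩ := hC.mem
    rw [← CharBasicOrth.conj_classInner, inner_ind_ind1 hθ₀ h₀, map_zero]
  rw [a1, a2] at h2
  rw [hd, beta]
  linear_combination h2

/-- `β + ν ζ` is a real function. -/
theorem beta_add_nu_real (hodd : Odd (Nat.card G)) :
    conjFun (beta A L H K ζ + ν ζ) = beta A L H K ζ + ν ζ := by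
  have h1 : conjFun (beta A L H K ζ) = dadeIsometry A L H (ind1 K - conjFun ζ) := by
    rw [beta, ← dade_conjFun]
    congr 1
    funext x
    have he : ∀ y : ↥L, conj (extendByZero K (fun _ : ↥K => (1 : ℂ)) y) =
        extendByZero K (fun _ : ↥K => (1 : ℂ)) y := fun y => by
      rw [ext_zero_eq_dite]; split_ifs <;> simp
    simp only [conjFun, Pi.sub_apply, map_sub, ind1, indFun_apply, map_mul, map_inv₀, map_natCast,
      map_sum, he]
  have hm := conj_zeta_mem hC
  have hsub : ζ - conjFun ζ ∈ zspanOn (inducedIrrAbove K ⊥) {1}ᶜ :=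
    mem_zspanOn_one (zspan_sub (subset_zspan hC.mem) (subset_zspan hm)) (by
      simp [conjFun_apply_one (isCharacter_of_isIrrCharacter hC.irr)])
  have e := hC.ext _ hsub
  rw [span_map_sub hC.iso (subset_zspan hC.mem) (subset_zspan hm)] at e
  funext g
  have h2 := congrFun h1 g
  have h3 := congrFun (nu_conj hC hodd).1 g
  have h4 := congrFun e g
  have h5 : dadeIsometry A L H (ind1 K - conjFun ζ) g =
      dadeIsometry A L H (ind1 K - ζ) g + dadeIsometry A L H (ζ - conjFun ζ) g := by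
    simp only [dadeIsometry]; split_ifs <;> simp
  simp only [conjFun, Pi.add_apply, Pi.sub_apply, map_add, beta] at h2 h3 h4 ⊢
  linear_combination h2 + h3 + h5 - h4

/-- (7.8)(a): if `2 |L : K| < |K|` then `β − 1 + ν ζ` minus its component along the image of `ν` has norm at
most `|L : K| − 1`, in the form of Bessel's inequality for a family orthogonal to `1` and to the image. -/
theorem bessel_beta (hodd : Odd (Nat.card G)) (he : 2 * K.index < Nat.card K) {κ : Type*} (s : Finset κ)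
    (y : κ → G → ℂ) (N c : κ → ℝ) (hN : ∀ k ∈ s, 0 < N k)
    (horth : ∀ k ∈ s, ∀ k' ∈ s, k ≠ k' → classInner (y k) (y k') = 0)
    (hyy : ∀ k ∈ s, classInner (y k) (y k) = N k) (hy1 : ∀ k ∈ s, classInner (y k) (fun _ => 1) = 0)
    (hyν : ∀ k ∈ s, ∀ φ ∈ inducedIrrAbove K ⊥, classInner (y k) (ν φ) = 0)
    (hc : ∀ k ∈ s, classInner (beta A L H K ζ) (y k) = c k) :
    ∑ k ∈ s, c k ^ 2 / N k ≤ (K.index : ℝ) - 1 := by
  haveI := hC.normal
  obtain ⟨θ₀, hθ₀, h₀, -, hζ⟩ := hC.mem
  have gν : IsGeneralizedCharacter G (ν ζ) := hζ ▸ nu_gen hC hθ₀ h₀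
  obtain ⟨b, hb⟩ := classInner_isGeneralizedCharacter (beta_gen hC) gν
  set a : ℂ := classInner (beta A L H K ζ) (ν ζ) + 1 with ha
  have hac : conj a = a := by rw [ha, hb, map_add, map_one, map_intCast]
  have hi : (K.index : ℂ) ≠ 0 := Nat.cast_ne_zero.2 Subgroup.index_ne_zero_of_finite
  set E := Finset.univ.erase (trivIrr ↥K) with hE
  have hne : ∀ θ ∈ E, (θ : ↥K → ℂ) ≠ fun _ => 1 := fun θ hθ h => Finset.ne_of_mem_erase hθ (Subtype.ext h)
  set X : G → ℂ := ((K.index : ℂ)⁻¹) • ∑ θ ∈ E, (θ : ↥K → ℂ) 1 • ν (indFun K θ) with hX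
  have hdc : ∀ θ : IrrCharacter ↥K, conj ((θ : ↥K → ℂ) 1) = (θ : ↥K → ℂ) 1 := fun θ => by
    obtain ⟨d, -, hd⟩ := exists_deg θ.2; rw [hd, map_natCast]
  -- inner products with X
  have hXin : ∀ θ : ↥K → ℂ, IsIrrCharacter ↥K θ → θ ≠ (fun _ => 1) →
      classInner X (ν (indFun K θ)) = θ 1 := by
    intro θ hθ h1
    rw [hX, CharBasicOrth.classInner_smul_left, CharBasicOrth.classInner_sum_left]
    have hterm : ∀ φ ∈ E, classInner ((φ : ↥K → ℂ) 1 • ν (indFun K φ)) (ν (indFun K θ)) =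
        (φ : ↥K → ℂ) 1 * conj (classInner (fun h : ↥K => indFun K θ h) φ) := by
      intro φ hφ
      rw [CharBasicOrth.classInner_smul_left, hC.iso.2.2.1 _ (subset_zspan (mem_induced φ.2 (hne φ hφ))) _
        (subset_zspan (mem_induced hθ h1)), inner_ind_left K _ (isClassFunction_ind K _),
        ← CharBasicOrth.conj_classInner]
    rw [Finset.sum_congr rfl hterm]
    have hres : IsClassFunction ↥K (fun h : ↥K => indFun K θ h) := fun u v => by
      exact isClassFunction_ind K θ (u : ↥L) (v : ↥L)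
    have h2 := congrFun (eq_sum_classInner hres) 1
    simp only [Finset.sum_apply, Pi.smul_apply, smul_eq_mul, Subgroup.coe_one, ind_one_apply] at h2
    rw [← Finset.add_sum_erase _ _ (Finset.mem_univ (trivIrr ↥K))] at h2
    have h0 : classInner (fun h : ↥K => indFun K θ h) ((trivIrr ↥K : IrrCharacter ↥K) : ↥K → ℂ) = 0 := by
      show classInner (fun h : ↥K => indFun K θ h) (fun _ => 1) = 0
      rw [← inner_ind_right K _ (isClassFunction_ind K θ)]
      exact inner_ind_ind1 hθ h1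
    rw [h0, zero_mul, zero_add] at h2
    have h2' := congrArg (starRingEnd ℂ) h2
    obtain ⟨d, -, hd⟩ := exists_deg hθ
    simp only [map_mul, map_natCast, map_sum, hdc, hd] at h2'
    rw [show ∑ φ ∈ E, (φ : ↥K → ℂ) 1 * conj (classInner (fun h : ↥K => indFun K θ h) φ) =
        (K.index : ℂ) * θ 1 from (Finset.sum_congr rfl fun φ _ => mul_comm _ _).trans (hd ▸ h2'.symm),
      ← mul_assoc, inv_mul_cancel₀ hi, one_mul]
  have hXz : classInner X (ν ζ) = 1 := by
    have : θ₀ 1 = 1 := by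
      have := hC.deg
      rw [hζ, ind_one_apply] at this
      exact mul_left_cancel₀ hi (this.trans (mul_one _).symm)
    rw [hζ, hXin _ hθ₀ h₀, this]
  have hXX : classInner X X = ((Nat.card K : ℂ) - 1) / (K.index : ℂ) := by
    conv_lhs => arg 2; rw [hX]
    rw [CharBasicOrth.classInner_smul_right, CharBasicOrth.classInner_sum_right, map_inv₀, map_natCast]
    have hterm : ∀ φ ∈ E, classInner X ((φ : ↥K → ℂ) 1 • ν (indFun K φ)) =
        (φ : ↥K → ℂ) 1 * (φ : ↥K → ℂ) 1 := fun φ hφ => by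
      rw [CharBasicOrth.classInner_smul_right, hdc, hXin _ φ.2 (hne φ hφ)]
    rw [Finset.sum_congr rfl hterm, sum_deg_mul hC, if_pos rfl]
    ring
  have hX1 : classInner X (fun _ => 1) = 0 := by
    rw [hX, CharBasicOrth.classInner_smul_left, CharBasicOrth.classInner_sum_left,
      Finset.sum_eq_zero (fun φ hφ => by
        rw [CharBasicOrth.classInner_smul_left, (nu_conj hC hodd).2 _ (mem_induced φ.2 (hne φ hφ)), mul_zero]),
      mul_zero]
  have h1X : classInner (fun _ => 1) X = 0 := by rw [← CharBasicOrth.conj_classInner, hX1, map_zero]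
  have hz1 : classInner (ν ζ) (fun _ => 1) = 0 := (nu_conj hC hodd).2 _ hC.mem
  have h1z : classInner (fun _ => 1) (ν ζ) = 0 := by rw [← CharBasicOrth.conj_classInner, hz1, map_zero]
  have hzX : classInner (ν ζ) X = 1 := by rw [← CharBasicOrth.conj_classInner, hXz, map_one]
  have hzz : classInner (ν ζ) (ν ζ) = 1 := by
    rw [hC.iso.2.2.1 _ (subset_zspan hC.mem) _ (subset_zspan hC.mem), classInner_irr_self hC.irr]
  have hb1 : classInner (beta A L H K ζ) (fun _ => 1) = 1 := beta_inner_one hC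
  have h1b : classInner (fun _ => 1) (beta A L H K ζ) = 1 := by
    rw [← CharBasicOrth.conj_classInner, hb1, map_one]
  have hbz : classInner (beta A L H K ζ) (ν ζ) = a - 1 := by rw [ha]; ring
  have hzb : classInner (ν ζ) (beta A L H K ζ) = a - 1 := by
    rw [← CharBasicOrth.conj_classInner, hbz, map_sub, hac, map_one]
  have hbX : classInner (beta A L H K ζ) X = a * (((Nat.card K : ℂ) - 1) / (K.index : ℂ)) - 1 := by
    conv_lhs => arg 2; rw [hX]
    rw [CharBasicOrth.classInner_smul_right, CharBasicOrth.classInner_sum_right, map_inv₀, map_natCast]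
    have hterm : ∀ φ ∈ E, classInner (beta A L H K ζ) ((φ : ↥K → ℂ) 1 • ν (indFun K φ)) =
        a * ((φ : ↥K → ℂ) 1 * (φ : ↥K → ℂ) 1) -
          classInner (fun h : ↥K => ζ h) φ * (φ : ↥K → ℂ) 1 := fun φ hφ => by
      rw [CharBasicOrth.classInner_smul_right, hdc, beta_inner_nu hC φ.2 (hne φ hφ), zeta_inner hC, ← ha]
      ring
    rw [Finset.sum_congr rfl hterm, Finset.sum_sub_distrib, ← Finset.mul_sum, sum_deg_mul hC, if_pos rfl]
    have := sum_zeta_deg hC
    rw [← Finset.add_sum_erase _ _ (Finset.mem_univ (trivIrr ↥K)),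
      show classInner (fun h : ↥K => ζ h) ((trivIrr ↥K : IrrCharacter ↥K) : ↥K → ℂ) = 0 from zeta_principal hC,
      zero_mul, zero_add] at this
    rw [this, mul_sub, inv_mul_cancel₀ hi]
    ring
  have hXb : classInner X (beta A L H K ζ) = a * (((Nat.card K : ℂ) - 1) / (K.index : ℂ)) - 1 := by
    rw [← CharBasicOrth.conj_classInner, hbX, map_sub, map_mul, map_div₀, map_sub, hac, map_natCast,
      map_natCast, map_one]
  have hbb : classInner (beta A L H K ζ) (beta A L H K ζ) = (K.index : ℂ) + 1 := by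
    rw [beta, inner_dade_dade hC.dade (bdiff_class hC) (bdiff_supp hC) (bdiff_class hC),
      CharBasicOrth.classInner_sub_left, CharBasicOrth.classInner_sub_right,
      CharBasicOrth.classInner_sub_right, classInner_irr_self hC.irr]
    have a2 : classInner ζ (ind1 K) = 0 := by rw [hζ]; exact inner_ind_ind1 hθ₀ h₀
    have a3 : classInner (ind1 K) ζ = 0 := by rw [← CharBasicOrth.conj_classInner, a2, map_zero]
    have a4 : classInner (ind1 K) (ind1 K) = (K.index : ℂ) := by
      rw [show classInner (ind1 K) (ind1 K) = classInner (indFun K fun _ => (1 : ℂ)) (ind1 K) from rfl,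
        inner_ind_left K _ (χ := ind1 K) (isClassFunction_ind K _),
        show (fun h : ↥K => ind1 K (h : ↥L)) = (K.index : ℂ) • fun _ : ↥K => (1 : ℂ) from
          funext fun h => by simp [ind1_coe],
        CharBasicOrth.classInner_smul_right, classInner_irr_self isIrrCharacter_one, map_natCast, mul_one]
    rw [a2, a3, a4]; ring
  set Γ : G → ℂ := beta A L H K ζ - (fun _ => 1) + ν ζ - a • X with hΓ
  have hΓΓ : classInner Γ Γ =
      (K.index : ℂ) - 1 + 2 * a - a ^ 2 * (((Nat.card K : ℂ) - 1) / (K.index : ℂ)) := by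
    simp only [hΓ, CharBasicOrth.classInner_sub_left, CharBasicOrth.classInner_sub_right,
      CharBasicOrth.classInner_add_left, CharBasicOrth.classInner_add_right,
      CharBasicOrth.classInner_smul_left, CharBasicOrth.classInner_smul_right, hbb, hb1, h1b, hbz, hzb,
      hbX, hXb, hz1, h1z, hX1, h1X, hzX, hXz, hzz, hXX, classInner_irr_self isIrrCharacter_one, hac]
    ring
  have hΓle : (classInner Γ Γ).re ≤ (K.index : ℝ) - 1 := by
    have hq : a = ((1 + b : ℤ) : ℂ) := by rw [ha, hb]; push_cast; ring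
    rw [hΓΓ, hq]
    have hcast : ((K.index : ℂ) - 1 + 2 * ((1 + b : ℤ) : ℂ) -
        ((1 + b : ℤ) : ℂ) ^ 2 * (((Nat.card K : ℂ) - 1) / (K.index : ℂ))) =
        (((K.index : ℝ) - 1 + 2 * ((1 + b : ℤ) : ℝ) -
          ((1 + b : ℤ) : ℝ) ^ 2 * (((Nat.card K : ℝ) - 1) / (K.index : ℝ)) : ℝ) : ℂ) := by push_cast; ring
    rw [hcast, Complex.ofReal_re]
    have h2 : (2 : ℝ) ≤ ((Nat.card K : ℝ) - 1) / (K.index : ℝ) := by
      rw [le_div_iff₀ (by exact_mod_cast Nat.pos_of_ne_zero Subgroup.index_ne_zero_of_finite)]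
      have : ((2 * K.index + 1 : ℕ) : ℝ) ≤ (Nat.card K : ℕ) := by exact_mod_cast he
      push_cast at this; linarith
    have h3 : ((1 + b : ℤ) : ℝ) ≤ ((1 + b : ℤ) : ℝ) ^ 2 := by exact_mod_cast Int.le_self_sq (1 + b)
    nlinarith [sq_nonneg ((1 + b : ℤ) : ℝ)]
  have hΓy : ∀ k ∈ s, classInner Γ (y k) = c k := by
    intro k hk
    have hflip : ∀ f : G → ℂ, classInner (y k) f = 0 → classInner f (y k) = 0 := fun f hf => by
      rw [← CharBasicOrth.conj_classInner, hf, map_zero]
    have hXy : classInner X (y k) = 0 := by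
      rw [hX, CharBasicOrth.classInner_smul_left, CharBasicOrth.classInner_sum_left,
        Finset.sum_eq_zero (fun φ hφ => by
          rw [CharBasicOrth.classInner_smul_left, hflip _ (hyν k hk _ (mem_induced φ.2 (hne φ hφ))),
            mul_zero]), mul_zero]
    simp only [hΓ, CharBasicOrth.classInner_sub_left, CharBasicOrth.classInner_add_left,
      CharBasicOrth.classInner_smul_left, hc k hk, hflip _ (hy1 k hk), hflip _ (hyν k hk _ hC.mem), hXy]
    ring
  -- Bessel
  set T : G → ℂ := ∑ k ∈ s, ((c k / N k : ℝ) : ℂ) • y k with hT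
  have hΓT : classInner Γ T = ((∑ k ∈ s, c k ^ 2 / N k : ℝ) : ℂ) := by
    rw [hT, CharBasicOrth.classInner_sum_right]
    push_cast
    refine Finset.sum_congr rfl fun k hk => ?_
    rw [CharBasicOrth.classInner_smul_right, map_div₀, Complex.conj_ofReal, Complex.conj_ofReal, hΓy k hk]
    ring
  have hTT : classInner T T = ((∑ k ∈ s, c k ^ 2 / N k : ℝ) : ℂ) := by
    conv_lhs => rw [hT]
    rw [CharBasicOrth.classInner_sum_left]
    push_cast
    refine Finset.sum_congr rfl fun k hk => ?_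
    rw [CharBasicOrth.classInner_smul_left, CharBasicOrth.classInner_sum_right, Finset.sum_eq_single k]
    · rw [CharBasicOrth.classInner_smul_right, map_div₀, Complex.conj_ofReal, Complex.conj_ofReal, hyy k hk]
      have : (N k : ℂ) ≠ 0 := Complex.ofReal_ne_zero.mpr (hN k hk).ne'
      push_cast
      field_simp
    · intro k' hk' hne
      rw [CharBasicOrth.classInner_smul_right, horth k hk k' hk' (Ne.symm hne), mul_zero]
    · exact fun h => absurd hk h
  have hTΓ : classInner T Γ = ((∑ k ∈ s, c k ^ 2 / N k : ℝ) : ℂ) := by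
    rw [← CharBasicOrth.conj_classInner, hΓT, Complex.conj_ofReal]
  clear_value Γ T
  have h0 := classInner_self_nonneg (Γ - T)
  rw [CharBasicOrth.classInner_sub_left, CharBasicOrth.classInner_sub_right,
    CharBasicOrth.classInner_sub_right, hΓT, hTT, hTΓ] at h0
  simp only [Complex.sub_re, Complex.ofReal_re] at h0
  linarith

end coherent

section pair

variable {A₁ A₂ : Set G} {L₁ L₂ : Subgroup G} [Fintype ↥L₁] [Fintype ↥L₂] {H₁ H₂ : G → Subgroup G}
  {K₁ : Subgroup ↥L₁} {K₂ : Subgroup ↥L₂} {ν₁ : (↥L₁ → ℂ) → (G → ℂ)} {ν₂ : (↥L₂ → ℂ) → (G → ℂ)}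
  {ζ₁ : ↥L₁ → ℂ} {ζ₂ : ↥L₂ → ℂ} (h₁ : CohSetup A₁ L₁ H₁ K₁ ν₁ ζ₁) (h₂ : CohSetup A₂ L₂ H₂ K₂ ν₂ ζ₂)
  (hdisj : ∀ g, ¬ (InSupport A₁ L₁ H₁ g ∧ InSupport A₂ L₂ H₂ g))

include hdisj in
theorem inner_disjoint (f : ↥L₁ → ℂ) (f' : ↥L₂ → ℂ) :
    classInner (dadeIsometry A₁ L₁ H₁ f) (dadeIsometry A₂ L₂ H₂ f') = 0 := by
  rw [classInner, Finset.sum_eq_zero, mul_zero]
  intro g _
  by_cases h : InSupport A₁ L₁ H₁ g
  · rw [dade_eq_zero (α := f') fun h' => hdisj g ⟨h, h'⟩, map_zero, mul_zero]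
  · rw [dade_eq_zero (α := f) h, zero_mul]

include h₁ h₂ hdisj in
/-- (7.9): the two chosen images are orthogonal, as are their conjugates. -/
theorem nu_orth (hodd : Odd (Nat.card G)) :
    classInner (ν₁ ζ₁) (ν₂ ζ₂) = 0 ∧ classInner (ν₁ ζ₁) (ν₂ (conjFun ζ₂)) = 0 := by
  have aux : ∀ {K₁' : Subgroup ↥L₁} {ν' : (↥L₁ → ℂ) → (G → ℂ)} {z : ↥L₁ → ℂ}
      (h' : CohSetup A₁ L₁ H₁ K₁' ν' z) {K₂' : Subgroup ↥L₂} {μ : (↥L₂ → ℂ) → (G → ℂ)} {w : ↥L₂ → ℂ}
      (h'' : CohSetup A₂ L₂ H₂ K₂' μ w), classInner (ν' z) (μ w) = 0 := by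
    intro K₁' ν' z h' K₂' μ w h''
    have hz := subset_zspan h'.mem
    have hw := subset_zspan h''.mem
    have s1 : SignedIrr (ν' z) := si_of_norm_one (h'.iso.2.2.2 _ hz)
      (by rw [h'.iso.2.2.1 _ hz _ hz, classInner_irr_self h'.irr])
    have s2 : SignedIrr (μ w) := si_of_norm_one (h''.iso.2.2.2 _ hw)
      (by rw [h''.iso.2.2.1 _ hw _ hw, classInner_irr_self h''.irr])
    rcases si_cases s1 s2 with h | ⟨ε, hε, he, -⟩
    · exact h
    exfalso
    have hzc := (nu_conj h' hodd).1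
    have hwc := (nu_conj h'' hodd).1
    have he' : μ (conjFun w) = (ε : ℂ) • ν' (conjFun z) := by
      rw [← hzc, ← hwc, he]; funext g; simp [conjFun]
    have hz' := subset_zspan (conj_zeta_mem h')
    have e1 : ν' z - ν' (conjFun z) = dadeIsometry A₁ L₁ H₁ (z - conjFun z) := by
      rw [← span_map_sub h'.iso hz hz']
      exact h'.ext _ (mem_zspanOn_one (zspan_sub hz hz')
        (by simp [conjFun_apply_one (isCharacter_of_isIrrCharacter h'.irr)]))
    have e2 : μ w - μ (conjFun w) = dadeIsometry A₂ L₂ H₂ (w - conjFun w) := by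
      rw [← span_map_sub h''.iso hw (subset_zspan (conj_zeta_mem h''))]
      exact h''.ext _ (mem_zspanOn_one (zspan_sub hw (subset_zspan (conj_zeta_mem h'')))
        (by simp [conjFun_apply_one (isCharacter_of_isIrrCharacter h''.irr)]))
    have h0 := inner_disjoint hdisj (z - conjFun z) (w - conjFun w)
    rw [← e1, ← e2, he, he', ← smul_sub, CharBasicOrth.classInner_smul_right, mul_eq_zero] at h0
    rcases h0 with h0 | h0
    · rcases hε with rfl | rfl <;> norm_num at h0
    · rw [← span_map_sub h'.iso hz hz', h'.iso.2.2.1 _ (zspan_sub hz hz') _ (zspan_sub hz hz'),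
        CharBasicOrth.classInner_sub_left, CharBasicOrth.classInner_sub_right,
        CharBasicOrth.classInner_sub_right, classInner_irr_self h'.irr,
        classInner_irr_self (conjFun_isIrr h'.irr),
        classInner_irr_ne h'.irr (conjFun_isIrr h'.irr) h'.conj_ne.symm,
        classInner_irr_ne (conjFun_isIrr h'.irr) h'.irr h'.conj_ne] at h0
      norm_num at h0
  refine ⟨aux h₁ h₂, aux h₁ (K₂' := K₂) (w := conjFun ζ₂) ?_⟩
  exact
    { toSetup := h₂.toSetup
      iso := h₂.iso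
      ext := h₂.ext
      mem := conj_zeta_mem h₂
      irr := conjFun_isIrr h₂.irr
      deg := by rw [conjFun_apply_one (isCharacter_of_isIrrCharacter h₂.irr)]; exact h₂.deg
      conj_ne := by rw [conjFun_conjFun]; exact h₂.conj_ne.symm }

include h₁ h₂ hdisj in
/-- (7.9): with disjoint supports, `β₁` meets `ν₂ ζ₂` or `β₂` meets `ν₁ ζ₁`. -/
theorem nonorthogonal (hodd : Odd (Nat.card G)) :
    classInner (beta A₁ L₁ H₁ K₁ ζ₁) (ν₂ ζ₂) ≠ 0 ∨ classInner (beta A₂ L₂ H₂ K₂ ζ₂) (ν₁ ζ₁) ≠ 0 := by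
  by_contra hcon
  push Not at hcon
  have g1 := h₁.iso.2.2.2 _ (subset_zspan h₁.mem)
  have g2 := h₂.iso.2.2.2 _ (subset_zspan h₂.mem)
  have x1 := isGeneralizedCharacter_add (beta_gen h₁) g1
  have x2 := isGeneralizedCharacter_add (beta_gen h₂) g2
  have a1 : classInner (beta A₁ L₁ H₁ K₁ ζ₁ + ν₁ ζ₁) (fun _ => 1) = ((1 : ℤ) : ℂ) := by
    rw [CharBasicOrth.classInner_add_left, beta_inner_one h₁, (nu_conj h₁ hodd).2 _ h₁.mem]; simp
  have a2 : classInner (beta A₂ L₂ H₂ K₂ ζ₂ + ν₂ ζ₂) (fun _ => 1) = ((1 : ℤ) : ℂ) := by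
    rw [CharBasicOrth.classInner_add_left, beta_inner_one h₂, (nu_conj h₂ hodd).2 _ h₂.mem]; simp
  have hc : classInner (beta A₁ L₁ H₁ K₁ ζ₁ + ν₁ ζ₁) (beta A₂ L₂ H₂ K₂ ζ₂ + ν₂ ζ₂) = ((0 : ℤ) : ℂ) := by
    rw [CharBasicOrth.classInner_add_left, CharBasicOrth.classInner_add_right,
      CharBasicOrth.classInner_add_right, hcon.1, (nu_orth h₁ h₂ hdisj hodd).1,
      show classInner (ν₁ ζ₁) (beta A₂ L₂ H₂ K₂ ζ₂) = 0 by
        rw [← CharBasicOrth.conj_classInner, hcon.2, map_zero]]
    simp [beta, inner_disjoint hdisj]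
  have := parity hodd x1 x2 (beta_add_nu_real h₁ hodd) (beta_add_nu_real h₂ hodd) a1 a2 hc
  norm_num at this

end pair

end Cfsg.Agent.PFCoherentDade
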