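import Mathlib
import Cfsg.Agent.Lib.BlockTheoryIdem
import Cfsg.Agent.Lib.CharBasicDecomp
import Cfsg.Agent.Lib.CharBasicInt

/-!
The Brauer map of a Sylow `p`-subgroup `P` from the centre of the group algebra to the group
algebra of `Q = C(P) / Z(P)`, and its consequences for the principal block.
-/

set_option autoImplicit false
set_option linter.unusedVariables false

namespace Cfsg.Agent.PrincipalSylow80

open Cfsg Cfsg.Agent.BlockTheoryLocalRing Cfsg.Agent.BlockTheoryCentre
open Cfsg.Agent.BlockTheoryRotation Cfsg.Agent.BlockTheoryIdem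
open Cfsg.Agent.CharBasic Cfsg.Agent.CharBasicOrth Cfsg.Agent.CharBasicDecomp
open scoped ComplexConjugate

attribute [local instance] Classical.propDecidable

universe u

variable {p : ℕ} {M : Ideal AlgInt} {G : Type u} [Group G]

/-! ### Generalities -/

theorem charDegree_eq {χ : G → ℂ} (h : IsCharacter G χ) : χ 1 = (charDegree χ : ℂ) := by
  obtain ⟨n, hn⟩ := isCharacter_apply_one h
  simp [charDegree, hn]

theorem irr_charDegree (χ : IrrCharacter G) : (χ : G → ℂ) 1 = (charDegree (χ : G → ℂ) : ℂ) :=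
  charDegree_eq (isCharacter_of_isIrrCharacter χ.2)

theorem ideal_congr_right (hM : IsPModular p M) {x y : ℂ} (h : MemLocalIdeal M (x - y))
    (hy : MemLocalIdeal M y) : MemLocalIdeal M x := by
  simpa using ideal_add hM h hy

theorem ideal_sub_comm {x y : ℂ} (h : MemLocalIdeal M (x - y)) : MemLocalIdeal M (y - x) := by
  simpa using ideal_neg h

theorem ideal_trans (hM : IsPModular p M) {x y z : ℂ} (h : MemLocalIdeal M (x - y))
    (h' : MemLocalIdeal M (y - z)) : MemLocalIdeal M (x - z) := by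
  simpa using ideal_add hM h h'

/-- A function invariant under a `p`-group, summed over all points, is congruent to its sum over
the fixed points. -/
theorem sum_fixed_congr (hM : IsPModular p M) {H X : Type*} [Group H] [Finite H] [Fintype X]
    [MulAction H X] (hH : IsPGroup p H) (W : X → ℂ) (hW : ∀ (h : H) x, W (h • x) = W x)
    (hl : ∀ x, MemLocalRing M (W x)) :
    MemLocalIdeal M (∑ x, W x - ∑ x, if x ∈ MulAction.fixedPoints H X then W x else 0) := by
  classical
  haveI := Fact.mk hM.1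
  rw [← Finset.sum_sub_distrib,
    ← Finset.sum_fiberwise Finset.univ (Quotient.mk'' : X → MulAction.orbitRel.Quotient H X)]
  refine ideal_sum hM fun o _ => ?_
  induction o using Quotient.inductionOn' with
  | h a =>
    have hfib : (Finset.univ.filter fun x =>
        (Quotient.mk'' x : MulAction.orbitRel.Quotient H X) = Quotient.mk'' a) =
        (MulAction.orbit H a).toFinset := by
      ext x
      simp [Quotient.eq'', MulAction.orbitRel_apply]
    rw [hfib]
    obtain ⟨j, hj⟩ := hH.card_orbit a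
    by_cases ha : a ∈ MulAction.fixedPoints H X
    · refine ideal_sum hM fun x hx => ?_
      rw [Set.mem_toFinset, MulAction.mem_orbit_iff] at hx
      obtain ⟨h, rfl⟩ := hx
      rw [MulAction.mem_fixedPoints.1 ha h, if_pos ha, sub_self]
      exact ideal_zero hM
    · have hj0 : j ≠ 0 := by
        rintro rfl
        rw [pow_zero, Nat.card_eq_one_iff_unique] at hj
        refine ha (MulAction.mem_fixedPoints'.2 fun a' ha' => ?_)
        haveI := hj.1
        exact congrArg Subtype.val
          (Subsingleton.elim (⟨a', ha'⟩ : MulAction.orbit H a) ⟨a, MulAction.mem_orbit_self a⟩)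
      have hconst : ∀ x ∈ (MulAction.orbit H a).toFinset,
          (W x - if x ∈ MulAction.fixedPoints H X then W x else 0) = W a := by
        intro x hx
        rw [Set.mem_toFinset, MulAction.mem_orbit_iff] at hx
        obtain ⟨h, rfl⟩ := hx
        rw [if_neg, hW, sub_zero]
        intro hf
        have h1 := MulAction.mem_fixedPoints.1 hf h⁻¹
        rw [inv_smul_smul] at h1
        exact ha (h1.symm ▸ hf)
      rw [Finset.sum_congr rfl hconst, Finset.sum_const, nsmul_eq_mul, Set.toFinset_card,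
        ← Nat.card_eq_fintype_card, hj]
      exact ideal_mul_right hM ((natCast_mem_iff hM).2 (dvd_pow_self p hj0)) (hl a)

/-- Character values at commuting `u`, `x` with `u` a `p`-element: `χ (u * x) ≡ χ x`. -/
theorem char_mul_congr [Finite G] (hM : IsPModular p M) {χ : G → ℂ} (hχ : IsCharacter G χ)
    {u x : G} (hu : ∃ j, orderOf u = p ^ j) (hc : Commute u x) :
    MemLocalIdeal M (χ (u * x) - χ x) := by
  obtain ⟨j, hj⟩ := hu
  haveI := hM.2.1
  letI := Ideal.Quotient.field M
  haveI := Fact.mk hM.1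
  let π := Ideal.Quotient.mk M
  haveI : CharP (AlgInt ⧸ M) p := (CharP.charP_iff_prime_eq_zero hM.1).2
    (by rw [← map_natCast π, Ideal.Quotient.eq_zero_iff_mem]; exact hM.2.2)
  let cv : G → AlgInt := fun g => ⟨χ g, isCharacter_integral hχ g⟩
  have key : ∀ g, π (cv g) ^ p ^ j = π (cv (g ^ p ^ j)) := by
    intro g
    obtain ⟨n, ρ, hρ⟩ := hχ
    obtain ⟨b, μ, -, hμ, -, hpow⟩ := exists_rep_eigenbasis ρ g
    have hint : ∀ i, IsIntegral ℤ (μ i) := fun i =>
      IsIntegral.of_pow (orderOf_pos g) (by rw [hμ i]; exact isIntegral_one)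
    let ν : _ → AlgInt := fun i => ⟨μ i, hint i⟩
    have hk : ∀ k : ℕ, cv (g ^ k) = ∑ i, ν i ^ k := fun k => Subtype.ext (by
      show χ (g ^ k) = _
      push_cast
      rw [← hρ]
      exact hpow k)
    rw [hk, show cv g = ∑ i, ν i ^ 1 from by rw [← hk, pow_one], map_sum, map_sum,
      sum_pow_char_pow]
    simp [map_pow]
  have h1 : π (cv (u * x)) = π (cv x) := by
    have h2 : (π (cv (u * x)) - π (cv x)) ^ p ^ j = 0 := by
      rw [sub_pow_char_pow, key, key, hc.mul_pow, ← hj, pow_orderOf_eq_one, one_mul, sub_self]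
    exact sub_eq_zero.1 (eq_zero_of_pow_eq_zero h2)
  rw [Ideal.Quotient.eq] at h1
  exact (algInt_mem_ideal_iff hM).2 h1

variable [Fintype G]

/-- Central with locally integral coefficients. -/
def Good (M : Ideal AlgInt) (z : MonoidAlgebra ℂ G) : Prop := IsCen z ∧ IsInt M z

theorem good_one (hM : IsPModular p M) : Good M (1 : MonoidAlgebra ℂ G) :=
  ⟨isCen_one, isInt_one hM⟩

theorem Good.mul (hM : IsPModular p M) {z w : MonoidAlgebra ℂ G} (hz : Good M z)
    (hw : Good M w) : Good M (z * w) :=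
  ⟨hz.1.mul hw.1, hz.2.mul hM hw.2⟩

theorem Good.sub_smul_one (hM : IsPModular p M) {z : MonoidAlgebra ℂ G} (hz : Good M z) {c : ℂ}
    (hc : MemLocalRing M c) : Good M (z - c • 1) :=
  ⟨hz.1.sub (isCen_one.smul c), hz.2.sub hM ((isInt_one hM).smul hM hc)⟩

theorem good_classSum (hM : IsPModular p M) (g : G) : Good M (classSum g) :=
  ⟨isCen_classSum g, isInt_classSum hM g⟩

theorem omega_local (hM : IsPModular p M) (χ : IrrCharacter G) {z : MonoidAlgebra ℂ G}
    (hz : Good M z) : MemLocalRing M (omega (χ : G → ℂ) z) :=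
  omega_mem_localRing hM χ hz.1 hz.2

/-- A functional multiplicative modulo `M` which kills the common kernel of a finite family is
congruent to a member of the family. -/
theorem exists_congr_good (hM : IsPModular p M) {X : Type*} [Fintype X]
    (L : X → MonoidAlgebra ℂ G →ₗ[ℂ] ℂ) (K : ℂ → Prop) (hK : K 0)
    (hLone : ∀ x, L x 1 = 1) (hLloc : ∀ x z, Good M z → MemLocalRing M (L x z))
    (hLmul : ∀ x z w, Good M z → Good M w → (K (L x z) ∨ K (L x w)) → K (L x (z * w)))
    (Λ : MonoidAlgebra ℂ G →ₗ[ℂ] ℂ) (hΛone : Λ 1 = 1)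
    (hΛloc : ∀ z, Good M z → MemLocalRing M (Λ z))
    (hΛmul : ∀ z w, Good M z → Good M w → MemLocalIdeal M (Λ (z * w) - Λ z * Λ w))
    (hker : ∀ Y, Good M Y → (∀ x, K (L x Y)) → MemLocalIdeal M (Λ Y)) :
    ∃ x, ∀ z, Good M z → MemLocalIdeal M (Λ z - L x z) := by
  classical
  by_contra hcon
  push Not at hcon
  choose y hy hyn using hcon
  have hs : ∀ s : Finset X, ∃ Y, Good M Y ∧ (∀ x ∈ s, K (L x Y)) ∧ ¬ MemLocalIdeal M (Λ Y) := by
    intro s
    induction s using Finset.induction_on with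
    | empty => exact ⟨1, good_one hM, by simp, by rw [hΛone]; exact one_not_ideal hM⟩
    | insert a s _ ih =>
      obtain ⟨Y, hY, hYs, hYn⟩ := ih
      set y' := y a - L a (y a) • (1 : MonoidAlgebra ℂ G) with hy'
      have hg : Good M y' := (hy a).sub_smul_one hM (hLloc a _ (hy a))
      refine ⟨Y * y', hY.mul hM hg, ?_, ?_⟩
      · intro x hx
        rcases Finset.mem_insert.1 hx with rfl | hx
        · refine hLmul x Y y' hY hg (Or.inr ?_)
          rw [hy', map_sub, map_smul, hLone, smul_eq_mul, mul_one, sub_self]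
          exact hK
        · exact hLmul x Y y' hY hg (Or.inl (hYs x hx))
      · intro h
        refine not_ideal_mul hM (hΛloc _ hY) (hΛloc _ hg) hYn (fun h' => hyn a ?_)
          (ideal_congr_right hM (ideal_sub_comm (hΛmul Y y' hY hg)) h)
        rwa [hy', map_sub, map_smul, hΛone, smul_eq_mul, mul_one] at h'
  obtain ⟨Y, hY, hYs, hYn⟩ := hs Finset.univ
  exact hYn (hker Y hY fun x => hYs x (Finset.mem_univ x))

/-! ### The quotient `Q = C(P) / Z(P)` -/

variable [Fact p.Prime] (P : Sylow p G)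

/-- The centraliser of `P`. -/
abbrev Cz : Subgroup G := Subgroup.centralizer ((P : Subgroup G) : Set G)

/-- `P ∩ C(P)` inside `C(P)`. -/
abbrev Zc : Subgroup (Cz P) := (P : Subgroup G).subgroupOf (Cz P)

theorem mem_Cz {c : G} : c ∈ Cz P ↔ ∀ h ∈ (P : Subgroup G), h * c = c * h :=
  Subgroup.mem_centralizer_iff

instance instNormalZc : (Zc P).Normal :=
  ⟨fun z hz c => by
    have h : c * z = z * c :=
      Subtype.ext ((mem_Cz P).1 c.2 _ (Subgroup.mem_subgroupOf.1 hz)).symm
    rw [h, mul_assoc, mul_inv_cancel, mul_one]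
    exact hz⟩

/-- `C(P) / Z(P)`, a group of order prime to `p`. -/
abbrev Q : Type u := Cz P ⧸ Zc P

noncomputable instance instFintypeQ : Fintype (Q P) := Fintype.ofFinite _

theorem not_dvd_card_Q : ¬ p ∣ Nat.card (Q P) := by
  intro h
  rw [← Subgroup.index_eq_card] at h
  let N : Subgroup G := Subgroup.normalizer ((P : Subgroup G) : Set G)
  have hCN : Cz P ≤ N := Subgroup.centralizer_le_normalizer _
  have hPN : (P : Subgroup G) ≤ N := Subgroup.le_normalizer
  haveI : ((P : Subgroup G).subgroupOf N).Normal := Subgroup.normal_in_normalizer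
  have h1 : ((P : Subgroup G).subgroupOf N).relIndex ((Cz P).subgroupOf N) ∣
      ((P : Subgroup G).subgroupOf N).index := Subgroup.relIndex_dvd_index_of_normal _ _
  rw [Subgroup.relIndex_subgroupOf hCN] at h1
  have h2 : (P : Subgroup G).relIndex N ∣ (P : Subgroup G).index :=
    Dvd.intro _ (Subgroup.relIndex_mul_index hPN)
  exact Sylow.not_dvd_index P ((h.trans h1).trans h2)

theorem inv_card_Q_local (hM : IsPModular p M) : MemLocalRing M ((Nat.card (Q P) : ℂ)⁻¹) :=
  inv_natCast_mem hM (not_dvd_card_Q P)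

theorem not_dvd_degree_Q (φ : IrrCharacter (Q P)) : ¬ p ∣ charDegree (φ : Q P → ℂ) := by
  obtain ⟨n, hn⟩ := Cfsg.Agent.CharBasicInt.exists_apply_one_dvd_card φ.2
  intro h
  refine not_dvd_card_Q P (h.trans ?_)
  have : charDegree (φ : Q P → ℂ) = n := by simp [charDegree, hn.2.1]
  rw [this]
  exact hn.2.2

theorem inv_one_local (hM : IsPModular p M) (φ : IrrCharacter (Q P)) :
    MemLocalRing M ((φ : Q P → ℂ) 1)⁻¹ := by
  rw [irr_charDegree φ]
  exact inv_natCast_mem hM (not_dvd_degree_Q P φ)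

theorem irr_local (hM : IsPModular p M) {H : Type*} [Group H] [Finite H] (φ : IrrCharacter H) (x : H) :
    MemLocalRing M ((φ : H → ℂ) x) :=
  of_isIntegral hM (isCharacter_integral (isCharacter_of_isIrrCharacter φ.2) x)

theorem isCen_zero_coeff (z : MonoidAlgebra ℂ G) (hz : IsCen z) (g h : G) :
    z.coeff (h * g * h⁻¹) = z.coeff g := hz g h

/-- A `P`-invariant function summed over `G` is congruent to its sum over `C(P)`. -/
theorem sum_centralizer_congr (hM : IsPModular p M) (W : G → ℂ)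
    (hW : ∀ h ∈ (P : Subgroup G), ∀ x, W (h * x * h⁻¹) = W x) (hl : ∀ x, MemLocalRing M (W x)) :
    MemLocalIdeal M (∑ x : G, W x - ∑ c : Cz P, W c) := by
  letI : MulAction (P : Subgroup G) G :=
    MulAction.compHom G (MulAut.conj.comp (P : Subgroup G).subtype)
  have hfix : ∀ x : G, x ∈ MulAction.fixedPoints (P : Subgroup G) G ↔ x ∈ Cz P := by
    intro x
    rw [MulAction.mem_fixedPoints, mem_Cz]
    refine ⟨fun h a ha => ?_, fun h a => ?_⟩
    · have := h ⟨a, ha⟩
      rw [show (⟨a, ha⟩ : (P : Subgroup G)) • x = a * x * a⁻¹ from rfl] at this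
      exact mul_inv_eq_iff_eq_mul.1 this
    · show (a : G) * x * (a : G)⁻¹ = x
      exact mul_inv_eq_iff_eq_mul.2 (h a a.2)
  have key := sum_fixed_congr hM (H := (P : Subgroup G)) P.2 W (fun h x => hW h h.2 x) hl
  have h2 : ∑ c : Cz P, W c = ∑ x : G, if x ∈ Cz P then W x else 0 := by
    rw [← Finset.sum_filter, Finset.sum_subtype (Finset.univ.filter fun x => x ∈ Cz P) (p := fun x => x ∈ Cz P) (by simp)]
  rw [h2]
  simpa only [hfix] using key

/-- The Brauer map. -/
noncomputable def beta : MonoidAlgebra ℂ G →ₗ[ℂ] MonoidAlgebra ℂ (Q P) where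
  toFun z := ofFun fun q => ∑ c : Cz P, if (c : Q P) = q then z.coeff c else 0
  map_add' z w := by
    refine MonoidAlgebra.ext ?_
    ext q
    simp only [coeff_ofFun, MonoidAlgebra.coeff_add, Finsupp.coe_add, Pi.add_apply,
      ← Finset.sum_add_distrib]
    exact Finset.sum_congr rfl fun c _ => by split_ifs <;> simp
  map_smul' a z := by
    refine MonoidAlgebra.ext ?_
    ext q
    simp only [coeff_ofFun, MonoidAlgebra.coeff_smul_apply, RingHom.id_apply, smul_eq_mul,
      Finset.mul_sum, mul_ite, mul_zero]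

theorem coeff_beta (z : MonoidAlgebra ℂ G) (q : Q P) :
    (beta P z).coeff q = ∑ c : Cz P, if (c : Q P) = q then z.coeff c else 0 := rfl

theorem isCen_beta {z : MonoidAlgebra ℂ G} (hz : IsCen z) : IsCen (beta P z) := by
  intro q k
  induction k using QuotientGroup.induction_on with
  | _ k =>
    show (beta P z).coeff _ = (beta P z).coeff _
    rw [coeff_beta, coeff_beta, ← Equiv.sum_comp (MulAut.conj k).toEquiv]
    refine Finset.sum_congr rfl fun c _ => ?_
    simp only [MulEquiv.toEquiv_eq_coe, EquivLike.coe_coe, MulAut.conj_apply,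
      QuotientGroup.mk_mul, QuotientGroup.mk_inv, Subgroup.coe_mul, InvMemClass.coe_inv,
      mul_left_inj, mul_right_inj]
    split_ifs with h
    · exact hz _ _
    · rfl

theorem isInt_beta (hM : IsPModular p M) {z : MonoidAlgebra ℂ G} (hz : IsInt M z) :
    IsInt M (beta P z) := fun q => by
  rw [coeff_beta]
  refine (localRing hM).sum_mem fun c _ => ?_
  split_ifs
  exacts [hz _, (localRing hM).zero_mem]

theorem good_beta (hM : IsPModular p M) {z : MonoidAlgebra ℂ G} (hz : Good M z) :
    Good M (beta P z) := ⟨isCen_beta P hz.1, isInt_beta P hM hz.2⟩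

theorem beta_one : beta P 1 = 1 := by
  refine MonoidAlgebra.ext ?_
  ext q
  rw [coeff_beta, Finset.sum_eq_single (1 : Cz P)]
  · simp [MonoidAlgebra.one_def, Finsupp.single_apply, eq_comm]
  · intro c _ hc
    have h0 : (1 : MonoidAlgebra ℂ G).coeff (c : G) = 0 := by
      rw [MonoidAlgebra.one_def, MonoidAlgebra.coeff_single, Finsupp.single_apply,
        if_neg (fun h => hc (Subtype.ext h.symm))]
    rw [h0]
    exact ite_self 0
  · simp

theorem beta_mul_congr (hM : IsPModular p M) {z w : MonoidAlgebra ℂ G} (hz : Good M z)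
    (hw : Good M w) (q : Q P) :
    MemLocalIdeal M ((beta P (z * w)).coeff q - (beta P z * beta P w).coeff q) := by
  have h1 : ∀ c : Cz P, MemLocalIdeal M ((z * w).coeff (c : G) -
      ∑ y : Cz P, z.coeff (y : G) * w.coeff ((y : G)⁻¹ * c)) := by
    intro c
    rw [coeff_mul_eq]
    refine sum_centralizer_congr P hM (fun y => z.coeff y * w.coeff (y⁻¹ * c)) ?_
      (fun y => (localRing hM).mul_mem (hz.2 _) (hw.2 _))
    intro h hh y
    have hc : h * (c : G) = (c : G) * h := (mem_Cz P).1 c.2 h hh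
    rw [isCen_zero_coeff z hz.1]
    congr 1
    rw [← isCen_zero_coeff w hw.1 (y⁻¹ * c) h]
    congr 1
    have hc' : h⁻¹ * (c : G) = (c : G) * h⁻¹ := (mem_Cz P).1 c.2 _ (inv_mem hh)
    rw [mul_inv_rev, mul_inv_rev, inv_inv]
    simp only [mul_assoc, hc']
  have h2 : (beta P z * beta P w).coeff q = ∑ c : Cz P,
      if (c : Q P) = q then ∑ y : Cz P, z.coeff (y : G) * w.coeff ((y : G)⁻¹ * c) else 0 := by
    rw [coeff_mul_eq]
    simp only [coeff_beta, Finset.sum_mul, ite_mul, zero_mul, Finset.mul_sum]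
    rw [Finset.sum_comm]
    have e : ∀ y : Cz P, (∑ x : Cz P, z.coeff (y : G) *
        if (x : Q P) = ((y : Q P))⁻¹ * q then w.coeff (x : G) else 0) =
        ∑ c : Cz P, if (c : Q P) = q then z.coeff (y : G) * w.coeff ((y : G)⁻¹ * c) else 0 := by
      intro y
      rw [← Equiv.sum_comp (Equiv.mulLeft y)
        (fun c : Cz P => if (c : Q P) = q then z.coeff (y : G) * w.coeff ((y : G)⁻¹ * c) else 0)]
      refine Finset.sum_congr rfl fun x _ => ?_
      rw [Equiv.coe_mulLeft, QuotientGroup.mk_mul, Subgroup.coe_mul, inv_mul_cancel_left, mul_ite,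
        mul_zero]
      exact if_congr eq_inv_mul_iff_mul_eq rfl rfl
    simp only [mul_ite, mul_zero] at e ⊢
    conv_lhs => enter [2, x]; rw [Finset.sum_comm]
    simp only [Finset.sum_ite_eq, Finset.mem_univ, if_true]
    rw [Finset.sum_comm, Finset.sum_congr rfl fun y _ => e y, Finset.sum_comm]
    exact Finset.sum_congr rfl fun c _ => (Finset.sum_ite_irrel _ _ _ _).trans (by simp)
  rw [coeff_beta, h2, ← Finset.sum_sub_distrib]
  refine ideal_sum hM fun c _ => ?_
  split_ifs
  · exact h1 c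
  · rw [sub_zero]; exact ideal_zero hM

/-- The central character of `φ ∈ Irr Q` pulled back along the Brauer map. -/
noncomputable def lamQ (φ : IrrCharacter (Q P)) : MonoidAlgebra ℂ G →ₗ[ℂ] ℂ :=
  (omega (φ : Q P → ℂ)).comp (beta P)

theorem lamQ_apply (φ : IrrCharacter (Q P)) (z : MonoidAlgebra ℂ G) :
    lamQ P φ z = omega (φ : Q P → ℂ) (beta P z) := rfl

theorem lamQ_local (hM : IsPModular p M) (φ : IrrCharacter (Q P)) {z : MonoidAlgebra ℂ G}
    (hz : Good M z) : MemLocalRing M (lamQ P φ z) :=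
  omega_local hM φ (good_beta P hM hz)

theorem lamQ_one (φ : IrrCharacter (Q P)) : lamQ P φ 1 = 1 := by
  rw [lamQ_apply, beta_one, omega_one]

theorem omega_congr (hM : IsPModular p M) (φ : IrrCharacter (Q P))
    {z w : MonoidAlgebra ℂ (Q P)} (h : ∀ q, MemLocalIdeal M (z.coeff q - w.coeff q)) :
    MemLocalIdeal M (omega (φ : Q P → ℂ) z - omega (φ : Q P → ℂ) w) := by
  rw [omega_apply, omega_apply, ← mul_sub, chiSum_apply, chiSum_apply, ← Finset.sum_sub_distrib]
  refine ideal_mul_left hM (inv_one_local P hM φ) (ideal_sum hM fun q _ => ?_)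
  rw [← sub_mul]
  exact ideal_mul_right hM (h q) (irr_local hM φ q)

theorem lamQ_mul (hM : IsPModular p M) (φ : IrrCharacter (Q P)) {z w : MonoidAlgebra ℂ G}
    (hz : Good M z) (hw : Good M w) :
    MemLocalIdeal M (lamQ P φ (z * w) - lamQ P φ z * lamQ P φ w) := by
  rw [lamQ_apply, lamQ_apply, lamQ_apply, ← omega_mul φ (isCen_beta P hz.1)]
  exact omega_congr P hM φ (beta_mul_congr P hM hz hw)

omit [Fact p.Prime] in
/-- Expansion of a central element in the primitive idempotents. -/
theorem expand {H : Type u} [Group H] [Fintype H] {w : MonoidAlgebra ℂ H} (hw : IsCen w) :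
    w = ∑ φ : IrrCharacter H, omega (φ : H → ℂ) w • idem {φ} := by
  have hc : ∀ s : Finset (IrrCharacter H),
      IsCen (∑ φ ∈ s, omega (φ : H → ℂ) w • idem {φ}) := by
    intro s
    induction s using Finset.induction_on with
    | empty => simpa using isCen_zero
    | insert a s ha ih => rw [Finset.sum_insert ha]; exact ((isCen_idem _).smul _).add ih
  refine ext_omega hw (hc _) fun χ => ?_
  rw [map_sum, Finset.sum_eq_single χ]
  · simp [omega_idem]
  · intro φ _ hne
    simp [omega_idem, hne.symm]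
  · simp

/-- Every `φ` gives the central character of some irreducible character of `G`. -/
theorem exists_char_of_lamQ (hM : IsPModular p M) (φ : IrrCharacter (Q P)) :
    ∃ χ : IrrCharacter G, ∀ z, Good M z →
      MemLocalIdeal M (lamQ P φ z - omega (χ : G → ℂ) z) := by
  refine exists_congr_good hM (fun χ : IrrCharacter G => omega (χ : G → ℂ)) (fun x => x = 0) rfl
    omega_one (fun χ z hz => omega_local hM χ hz) ?_ _ (lamQ_one P φ)
    (fun z hz => lamQ_local P hM φ hz) (fun z w hz hw => lamQ_mul P hM φ hz hw) ?_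
  · intro χ z w hz _ h
    rw [omega_mul χ hz.1]
    rcases h with h | h <;> simp [h]
  · intro Y hY h0
    have : Y = 0 := ext_omega hY.1 isCen_zero fun χ => by rw [h0 χ, map_zero]
    rw [this, map_zero]
    exact ideal_zero hM

/-- A `p`-element of the centraliser of `P` is central there and lies in `P`. -/
theorem mem_Zc_of_pElement {c : Cz P} (h : ∃ j, orderOf (c : G) = p ^ j) : c ∈ Zc P := by
  obtain ⟨j, hj⟩ := h
  rw [← QuotientGroup.eq_one_iff, ← orderOf_eq_one_iff]
  have h1 : orderOf (c : Q P) ∣ p ^ j :=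
    hj ▸ (Subgroup.orderOf_coe c).symm ▸ orderOf_map_dvd (QuotientGroup.mk' (Zc P)) c
  refine Nat.eq_one_of_dvd_coprimes ?_ (orderOf_dvd_natCard (c : Q P)) h1
  exact ((Fact.out : p.Prime).coprime_iff_not_dvd.2 (not_dvd_card_Q P)).symm.pow_right j

theorem exists_reg (q : Q P) : ∃ c : Cz P, (c : Q P) = q ∧ ¬ p ∣ orderOf (c : G) := by
  induction q using QuotientGroup.induction_on with
  | _ c =>
    obtain ⟨x, y, hxy, hcomm, ⟨k, hk⟩, hy⟩ := exists_pPart (Fact.out : p.Prime) c
    refine ⟨y, ?_, by rwa [Subgroup.orderOf_coe]⟩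
    have hx : (x : Q P) = 1 :=
      (QuotientGroup.eq_one_iff x).2 (mem_Zc_of_pElement P ⟨k, by rw [Subgroup.orderOf_coe, hk]⟩)
    rw [← hxy, QuotientGroup.mk_mul, hx, one_mul]

theorem reg_unique {c c' : Cz P} (h : (c : Q P) = c') (hc : ¬ p ∣ orderOf (c : G))
    (hc' : ¬ p ∣ orderOf (c' : G)) : c = c' := by
  rw [QuotientGroup.eq, Subgroup.mem_subgroupOf, Subgroup.coe_mul, InvMemClass.coe_inv] at h
  set u : G := (c : G)⁻¹ * c' with hu
  obtain ⟨j, hj⟩ := (IsPGroup.iff_orderOf.1 P.2) ⟨u, h⟩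
  rw [Subgroup.orderOf_mk] at hj
  have hcu : Commute (c : G) u := ((mem_Cz P).1 c.2 u h).symm
  have hcc : Commute (c : G) (c' : G) := by
    have := (Commute.refl (c : G)).mul_right hcu
    rwa [hu, mul_inv_cancel_left] at this
  have h1 : u ^ (orderOf (c : G) * orderOf (c' : G)) = 1 := by
    have hd : ∀ a b : ℕ, ((c : G)⁻¹) ^ (a * b) * (c' : G) ^ (a * b) = u ^ (a * b) := fun a b =>
      (hcc.inv_left.mul_pow _).symm
    rw [← hd, inv_pow, pow_mul, pow_orderOf_eq_one, one_pow, inv_one, one_mul, mul_comm, pow_mul,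
      pow_orderOf_eq_one, one_pow]
  have h2 : orderOf u = 1 := by
    refine Nat.eq_one_of_dvd_coprimes ?_ (orderOf_dvd_of_pow_eq_one h1) (dvd_of_eq hj)
    refine Nat.Coprime.pow_right j (Nat.Coprime.mul_left ?_ ?_)
    · exact ((Fact.out : p.Prime).coprime_iff_not_dvd.2 hc).symm
    · exact ((Fact.out : p.Prime).coprime_iff_not_dvd.2 hc').symm
  rw [orderOf_eq_one_iff, hu, inv_mul_eq_one] at h2
  exact Subtype.ext h2

/-- A character of `p'`-degree has the central character of some `φ ∈ Irr Q`. -/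
theorem exists_lamQ_of_degree (hM : IsPModular p M) (χ : IrrCharacter G)
    (hd : ¬ p ∣ charDegree (χ : G → ℂ)) :
    ∃ φ : IrrCharacter (Q P), ∀ z, Good M z →
      MemLocalIdeal M (omega (χ : G → ℂ) z - lamQ P φ z) := by
  refine exists_congr_good hM (lamQ P) (MemLocalIdeal M) (ideal_zero hM) (lamQ_one P)
    (fun φ z hz => lamQ_local P hM φ hz) ?_ _ (omega_one χ) (fun z hz => omega_local hM χ hz)
    (fun z w hz hw => by rw [omega_mul χ hz.1, sub_self]; exact ideal_zero hM) ?_
  · intro φ z w hz hw h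
    refine ideal_congr_right hM (lamQ_mul P hM φ hz hw) ?_
    rcases h with h | h
    · exact ideal_mul_right hM h (lamQ_local P hM φ hw)
    · exact ideal_mul_left hM (lamQ_local P hM φ hz) h
  intro Y hY h0
  have hb : ∀ q, MemLocalIdeal M ((beta P Y).coeff q) := by
    intro q
    rw [expand (isCen_beta P hY.1), MonoidAlgebra.coeff_sum, Finset.sum_apply']
    refine ideal_sum hM fun φ _ => ?_
    rw [MonoidAlgebra.coeff_smul_apply, smul_eq_mul, coeff_idem, blockCoeff, finsum_mem_singleton]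
    refine ideal_mul_right hM (h0 φ) ((localRing hM).mul_mem (inv_card_Q_local P hM)
      ((localRing hM).mul_mem (irr_local hM φ 1) ?_))
    rw [← irr_inv]
    exact irr_local hM φ _
  have hinv : MemLocalRing M ((χ : G → ℂ) 1)⁻¹ := by
    rw [irr_charDegree]; exact inv_natCast_mem hM hd
  rw [omega_apply]
  refine ideal_mul_left hM hinv ?_
  rw [chiSum_apply]
  refine ideal_congr_right hM (sum_centralizer_congr P hM (fun x => Y.coeff x * (χ : G → ℂ) x) ?_
    (fun x => (localRing hM).mul_mem (hY.2 x) (irr_local hM χ x))) ?_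
  · intro h _ x
    rw [isCen_zero_coeff Y hY.1, irr_classFun χ x h]
  rw [← Finset.sum_fiberwise Finset.univ (QuotientGroup.mk : Cz P → Q P)]
  refine ideal_sum hM fun q _ => ?_
  obtain ⟨c0, hc0, -⟩ := exists_reg P q
  have h2 : MemLocalIdeal M (∑ c ∈ Finset.univ.filter (fun c : Cz P => (c : Q P) = q),
      (Y.coeff (c : G) * (χ : G → ℂ) c - Y.coeff (c : G) * (χ : G → ℂ) c0)) := by
    refine ideal_sum hM fun c hc => ?_
    rw [Finset.mem_filter] at hc
    rw [← mul_sub]
    refine ideal_mul_left hM (hY.2 _) ?_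
    have hu : c * c0⁻¹ ∈ Zc P := by
      rw [← QuotientGroup.eq_one_iff, QuotientGroup.mk_mul, QuotientGroup.mk_inv, hc.2, hc0,
        mul_inv_cancel]
    rw [Subgroup.mem_subgroupOf, Subgroup.coe_mul, InvMemClass.coe_inv] at hu
    obtain ⟨j, hj⟩ := (IsPGroup.iff_orderOf.1 P.2) ⟨_, hu⟩
    rw [Subgroup.orderOf_mk] at hj
    have := char_mul_congr hM (isCharacter_of_isIrrCharacter χ.2) ⟨j, hj⟩
      (show Commute ((c : G) * (c0 : G)⁻¹) c0 from (mem_Cz P).1 c0.2 _ hu)
    rwa [inv_mul_cancel_right] at this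
  rw [Finset.sum_sub_distrib, ← Finset.sum_mul] at h2
  refine ideal_congr_right hM h2 (ideal_mul_right hM ?_ (irr_local hM χ _))
  rw [Finset.sum_filter]
  exact hb q

omit [Fact p.Prime] in
theorem sameBlock_of_omega (hM : IsPModular p M) {χ ψ : IrrCharacter G}
    (h : ∀ z, Good M z → MemLocalIdeal M (omega (χ : G → ℂ) z - omega (ψ : G → ℂ) z)) :
    SameBlock M (χ : G → ℂ) (ψ : G → ℂ) := fun g => by
  simpa only [omega_classSum (irr_classFun χ), omega_classSum (irr_classFun ψ)] using
    h _ (good_classSum hM g)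

/-! ### The action of `N(P)` -/

theorem conj_mem_Cz (n : Subgroup.normalizer ((P : Subgroup G) : Set G)) {c : G} (hc : c ∈ Cz P) :
    (n : G) * c * (n : G)⁻¹ ∈ Cz P := by
  rw [mem_Cz]
  intro h hh
  have h1 : (n : G)⁻¹ * h * (n : G) ∈ (P : Subgroup G) :=
    (Subgroup.mem_normalizer_iff''.1 n.2 h).1 hh
  have h2 := (mem_Cz P).1 hc _ h1
  calc h * ((n : G) * c * (n : G)⁻¹) = (n : G) * (((n : G)⁻¹ * h * n) * c) * (n : G)⁻¹ := by group
    _ = (n : G) * (c * ((n : G)⁻¹ * h * n)) * (n : G)⁻¹ := by rw [h2]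
    _ = _ := by group

/-- Conjugation by `n ∈ N(P)` on `C(P)`. -/
def conjC (n : Subgroup.normalizer ((P : Subgroup G) : Set G)) : Cz P ≃* Cz P where
  toFun c := ⟨n * c * (n : G)⁻¹, conj_mem_Cz P n c.2⟩
  invFun c := ⟨(n : G)⁻¹ * c * n, by simpa using conj_mem_Cz P n⁻¹ c.2⟩
  left_inv c := Subtype.ext (by group)
  right_inv c := Subtype.ext (by group)
  map_mul' a b := Subtype.ext (by simp only [Subgroup.coe_mul]; group)

theorem map_conjC (n : Subgroup.normalizer ((P : Subgroup G) : Set G)) :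
    (Zc P).map (conjC P n).toMonoidHom = Zc P := by
  ext c
  rw [Subgroup.mem_map_equiv, Subgroup.mem_subgroupOf, Subgroup.mem_subgroupOf]
  exact (Subgroup.mem_normalizer_iff''.1 n.2 (c : G)).symm

/-- The action of `n ∈ N(P)` on `Q`. -/
def conjQ (n : Subgroup.normalizer ((P : Subgroup G) : Set G)) : Q P ≃* Q P :=
  QuotientGroup.congr (Zc P) (Zc P) (conjC P n) (map_conjC P n)

theorem conjQ_mk (n : Subgroup.normalizer ((P : Subgroup G) : Set G)) (c : Cz P) :
    conjQ P n (c : Q P) = ((conjC P n c : Cz P) : Q P) := rfl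

theorem conjQ_mul (m n : Subgroup.normalizer ((P : Subgroup G) : Set G)) (q : Q P) :
    conjQ P (m * n) q = conjQ P m (conjQ P n q) := by
  induction q using QuotientGroup.induction_on with
  | _ c =>
    simp only [conjQ_mk]
    congr 1
    exact Subtype.ext (by simp [conjC, mul_assoc])

theorem conjQ_of_mem (n : Subgroup.normalizer ((P : Subgroup G) : Set G))
    (hn : (n : G) ∈ (P : Subgroup G)) (q : Q P) : conjQ P n q = q := by
  induction q using QuotientGroup.induction_on with
  | _ c =>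
    rw [conjQ_mk]
    congr 1
    refine Subtype.ext ?_
    show (n : G) * c * (n : G)⁻¹ = c
    rw [(mem_Cz P).1 c.2 _ hn, mul_assoc, mul_inv_cancel, mul_one]

/-- The `N(P)`-orbit of `φ`. -/
def orb (φ : IrrCharacter (Q P)) : Set (IrrCharacter (Q P)) :=
  {ψ | ∃ n, ∀ q, (ψ : Q P → ℂ) q = (φ : Q P → ℂ) (conjQ P n q)}

theorem self_mem_orb (φ : IrrCharacter (Q P)) : φ ∈ orb P φ :=
  ⟨1, fun q => by rw [conjQ_of_mem P 1 (one_mem _)]⟩

theorem mem_orb_triv {ψ : IrrCharacter (Q P)} (h : ψ ∈ orb P (trivIrr (Q P))) :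
    ψ = trivIrr (Q P) := by
  obtain ⟨n, hn⟩ := h
  exact Subtype.ext (funext fun q => by rw [hn q]; rfl)

/-- Twisting of irreducible characters by an automorphism. -/
noncomputable def twistEquiv (e : Q P ≃* Q P) : IrrCharacter (Q P) ≃ IrrCharacter (Q P) where
  toFun ψ := ⟨fun q => (ψ : Q P → ℂ) (e q), isIrrCharacter_comap e.toMonoidHom e.surjective ψ.2⟩
  invFun ψ := ⟨fun q => (ψ : Q P → ℂ) (e.symm q),
    isIrrCharacter_comap e.symm.toMonoidHom e.symm.surjective ψ.2⟩
  left_inv ψ := Subtype.ext (funext fun q => by simp)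
  right_inv ψ := Subtype.ext (funext fun q => by simp)

theorem twist_mem_orb_iff (φ ψ : IrrCharacter (Q P))
    (m : Subgroup.normalizer ((P : Subgroup G) : Set G)) :
    twistEquiv P (conjQ P m) ψ ∈ orb P φ ↔ ψ ∈ orb P φ := by
  constructor
  · rintro ⟨n, hn⟩
    refine ⟨n * m⁻¹, fun q => ?_⟩
    have h1 : (twistEquiv P (conjQ P m) ψ : Q P → ℂ) (conjQ P m⁻¹ q) =
        (ψ : Q P → ℂ) (conjQ P m (conjQ P m⁻¹ q)) := rfl
    rw [hn, ← conjQ_mul, ← conjQ_mul, mul_inv_cancel, conjQ_of_mem P 1 (one_mem _)] at h1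
    exact h1.symm
  · rintro ⟨n, hn⟩
    refine ⟨n * m, fun q => ?_⟩
    rw [conjQ_mul, ← hn]
    rfl

theorem blockCoeff_orb_conjQ (φ : IrrCharacter (Q P))
    (m : Subgroup.normalizer ((P : Subgroup G) : Set G)) (q : Q P) :
    blockCoeff (orb P φ) (conjQ P m q) = blockCoeff (orb P φ) q := by
  rw [blockCoeff_eq_sum, blockCoeff_eq_sum]
  congr 1
  conv_rhs => rw [← Equiv.sum_comp (twistEquiv P (conjQ P m))]
  refine Finset.sum_congr rfl fun ψ _ => ?_
  have h1 : (twistEquiv P (conjQ P m) ψ : Q P → ℂ) 1 = (ψ : Q P → ℂ) 1 := by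
    show (ψ : Q P → ℂ) (conjQ P m 1) = _
    rw [map_one]
  simp only [twist_mem_orb_iff, h1]
  rfl

/-- Elements conjugate in `G` with regular representatives have equal values under an invariant
function. -/
theorem inv_eq_of_isConj {a : Q P → ℂ} (ha : ∀ n q, a (conjQ P n q) = a q) {c c' : Cz P}
    (h : IsConj (c : G) (c' : G)) : a (c' : Q P) = a (c : Q P) := by
  obtain ⟨g, hg⟩ := isConj_iff.1 h
  have hy : g⁻¹⁻¹ * (c : G) * g⁻¹ ∈ Cz P := by rw [inv_inv, hg]; exact c'.2
  obtain ⟨n, hn, hne⟩ := Sylow.conj_eq_normalizer_conj_of_mem_centralizer P (c : G) g⁻¹ c.2 hy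
  rw [inv_inv, hg] at hne
  have : c' = conjC P ⟨n⁻¹, inv_mem hn⟩ c := Subtype.ext (hne.trans (by simp [conjC]))
  rw [this, ← conjQ_mk, ha]

/-- Extension of a function on `Q` to `p`-regular classes of `G`. -/
noncomputable def extQ (a : Q P → ℂ) : MonoidAlgebra ℂ G :=
  ofFun fun g => if h : ∃ c : Cz P, ¬ p ∣ orderOf (c : G) ∧ IsConj (c : G) g
    then a (h.choose : Q P) else 0

theorem coeff_extQ {a : Q P → ℂ} (ha : ∀ n q, a (conjQ P n q) = a q) {c : Cz P} {g : G}
    (hc : ¬ p ∣ orderOf (c : G)) (h : IsConj (c : G) g) :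
    (extQ P a).coeff g = a (c : Q P) := by
  have hex : ∃ c : Cz P, ¬ p ∣ orderOf (c : G) ∧ IsConj (c : G) g := ⟨c, hc, h⟩
  simp only [extQ, coeff_ofFun, dif_pos hex]
  exact inv_eq_of_isConj P ha (h.trans hex.choose_spec.2.symm)

theorem good_extQ (hM : IsPModular p M) {a : Q P → ℂ} (ha : ∀ n q, a (conjQ P n q) = a q)
    (hl : ∀ q, MemLocalRing M (a q)) : Good M (extQ P a) := by
  constructor
  · intro g h
    show (extQ P a).coeff _ = (extQ P a).coeff _
    have hgh : IsConj g (h * g * h⁻¹) := isConj_iff.2 ⟨h, rfl⟩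
    by_cases hex : ∃ c : Cz P, ¬ p ∣ orderOf (c : G) ∧ IsConj (c : G) g
    · obtain ⟨c, hc, hcg⟩ := hex
      rw [coeff_extQ P ha hc hcg, coeff_extQ P ha hc (hcg.trans hgh)]
    · have hex' : ¬ ∃ c : Cz P, ¬ p ∣ orderOf (c : G) ∧ IsConj (c : G) (h * g * h⁻¹) :=
        fun ⟨c, hc, hcg⟩ => hex ⟨c, hc, hcg.trans hgh.symm⟩
      simp only [extQ, coeff_ofFun, dif_neg hex, dif_neg hex']
  · intro g
    simp only [extQ, coeff_ofFun]
    split_ifs
    exacts [hl _, (localRing hM).zero_mem]

theorem beta_extQ {a : Q P → ℂ} (ha : ∀ n q, a (conjQ P n q) = a q) :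
    beta P (extQ P a) = ofFun a := by
  refine MonoidAlgebra.ext ?_
  ext q
  obtain ⟨c0, hc0, hr0⟩ := exists_reg P q
  rw [coeff_beta, coeff_ofFun, Finset.sum_eq_single c0]
  · rw [if_pos hc0, coeff_extQ P ha hr0 (IsConj.refl _), hc0]
  · intro c _ hne
    split_ifs with hc
    · have hcr : p ∣ orderOf (c : G) := by
        by_contra hcr
        exact hne (reg_unique P (hc.trans hc0.symm) hcr hr0)
      simp only [extQ, coeff_ofFun]
      rw [dif_neg]
      rintro ⟨d, hd, hdc⟩
      obtain ⟨x, hx⟩ := isConj_iff.1 hdc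
      rw [← hx, show x * (d : G) * x⁻¹ = MulAut.conj x (d : G) from rfl,
        MulEquiv.orderOf_eq] at hcr
      exact hd hcr
    · rfl
  · simp

/-- Characters of `Q` with congruent central characters are conjugate under `N(P)`. -/
theorem mem_orb_of_congr (hM : IsPModular p M) {φ ψ : IrrCharacter (Q P)}
    (h : ∀ z, Good M z → MemLocalIdeal M (lamQ P φ z - lamQ P ψ z)) : ψ ∈ orb P φ := by
  by_contra hψ
  have hl : ∀ q, MemLocalRing M (blockCoeff (orb P φ) q) := by
    intro q
    rw [blockCoeff_eq_sum]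
    refine (localRing hM).mul_mem (inv_card_Q_local P hM) ((localRing hM).sum_mem fun χ _ => ?_)
    split_ifs
    · refine (localRing hM).mul_mem (irr_local hM χ 1) ?_
      rw [← irr_inv]
      exact irr_local hM χ _
    · exact (localRing hM).zero_mem
  have h1 := h _ (good_extQ P hM (blockCoeff_orb_conjQ P φ) hl)
  rw [lamQ_apply, lamQ_apply, beta_extQ P (blockCoeff_orb_conjQ P φ),
    show ofFun (blockCoeff (orb P φ)) = idem (orb P φ) from rfl, omega_idem, omega_idem,
    if_pos (self_mem_orb P φ), if_neg hψ, sub_zero] at h1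
  exact one_not_ideal hM h1

theorem lamQ_triv (hM : IsPModular p M) {z : MonoidAlgebra ℂ G} (hz : Good M z) :
    MemLocalIdeal M (omega (trivIrr G : G → ℂ) z - lamQ P (trivIrr (Q P)) z) := by
  have h1 : omega (trivIrr G : G → ℂ) z = ∑ x, z.coeff x := by
    rw [omega_apply, chiSum_apply]; simp [trivIrr]
  have h2 : lamQ P (trivIrr (Q P)) z = ∑ c : Cz P, z.coeff c := by
    rw [lamQ_apply, omega_apply, chiSum_apply]
    simp only [trivIrr, mul_one, inv_one, one_mul, coeff_beta]
    rw [Finset.sum_comm]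
    simp
  rw [h1, h2]
  exact sum_centralizer_congr P hM (fun x => z.coeff x)
    (fun h _ x => isCen_zero_coeff z hz.1 x h) hz.2

omit [Fact p.Prime] in
theorem isPBlock_principal : IsPBlock M (principalBlock M G) := ⟨trivIrr G, rfl⟩

/-- The idempotent of the principal block maps to the trivial idempotent of `Q`. -/
theorem lamQ_idem_principal (hM : IsPModular p M) (φ : IrrCharacter (Q P)) :
    MemLocalIdeal M (lamQ P φ (idem (principalBlock M G)) -
      if φ = trivIrr (Q P) then 1 else 0) := by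
  obtain ⟨χ, hχ⟩ := exists_char_of_lamQ P hM φ
  have hB : IsPBlock M (principalBlock M G) := isPBlock_principal
  have h1 := hχ _ ⟨isCen_idem _, isInt_idem hM hB⟩
  rw [omega_idem] at h1
  by_cases hφ : φ = trivIrr (Q P)
  · rw [if_pos hφ]
    have : χ ∈ principalBlock M G := by
      refine sameBlock_symm (sameBlock_of_omega hM (ψ := trivIrr G) fun z hz => ?_)
      exact ideal_trans hM (ideal_sub_comm (hχ z hz))
        (hφ ▸ ideal_sub_comm (lamQ_triv P hM hz))
    rwa [if_pos this] at h1
  · rw [if_neg hφ]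
    have : χ ∉ principalBlock M G := by
      intro hmem
      refine hφ (mem_orb_triv P (mem_orb_of_congr P hM fun z hz => ideal_sub_comm ?_))
      refine ideal_trans hM (hχ z hz) (ideal_trans hM ?_ (lamQ_triv P hM hz))
      exact omega_sub_mem hM (χ := χ) (ψ := trivIrr G) (sameBlock_symm (hmem : SameBlock M (trivIrr G : G → ℂ) (χ : G → ℂ))) hz.1 hz.2
    rwa [if_neg this] at h1

/-- The principal block idempotent has unit coefficient at the identity. -/
theorem blockCoeff_principal_one_congr (hM : IsPModular p M) :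
    MemLocalIdeal M (blockCoeff (principalBlock M G) 1 - (Nat.card (Q P) : ℂ)⁻¹) := by
  have hB : IsPBlock M (principalBlock M G) := isPBlock_principal
  have h1 : (beta P (idem (principalBlock M G))).coeff 1 = blockCoeff (principalBlock M G) 1 := by
    rw [coeff_beta, Finset.sum_eq_single (1 : Cz P)]
    · simp [coeff_idem]
    · intro c _ hne
      split_ifs with hc
      · rw [QuotientGroup.eq_one_iff, Subgroup.mem_subgroupOf] at hc
        obtain ⟨j, hj⟩ := (IsPGroup.iff_orderOf.1 P.2) ⟨_, hc⟩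
        rw [Subgroup.orderOf_mk] at hj
        rw [coeff_idem, blockCoeff_eq_zero_of_dvd hM hB]
        rcases j with _ | j
        · exact absurd (Subtype.ext (orderOf_eq_one_iff.1 (by simpa using hj))) hne
        · rw [hj]; exact dvd_pow_self p j.succ_ne_zero
      · rfl
    · simp
  have h2 : ∀ φ : IrrCharacter (Q P), (idem {φ}).coeff 1 =
      (Nat.card (Q P) : ℂ)⁻¹ * ((φ : Q P → ℂ) 1 * conj ((φ : Q P → ℂ) 1)) := fun φ => by
    rw [coeff_idem, blockCoeff, finsum_mem_singleton]
  have h3 : (Nat.card (Q P) : ℂ)⁻¹ =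
      ∑ φ : IrrCharacter (Q P), (if φ = trivIrr (Q P) then (1 : ℂ) else 0) * (idem {φ}).coeff 1 := by
    rw [Finset.sum_eq_single (trivIrr (Q P))]
    · rw [if_pos rfl, h2]; simp [trivIrr]
    · intro φ _ hne; rw [if_neg hne, zero_mul]
    · simp
  rw [← h1, expand (isCen_beta P (isCen_idem _)), MonoidAlgebra.coeff_sum, Finset.sum_apply', h3,
    ← Finset.sum_sub_distrib]
  refine ideal_sum hM fun φ _ => ?_
  rw [MonoidAlgebra.coeff_smul_apply, smul_eq_mul, ← sub_mul]
  refine ideal_mul_right hM (lamQ_idem_principal P hM φ) ?_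
  rw [h2]
  refine (localRing hM).mul_mem (inv_card_Q_local P hM) ((localRing hM).mul_mem (irr_local hM φ 1) ?_)
  rw [← irr_inv]
  exact irr_local hM φ _

/-- For a linear character `ε` of `P`, the multiplicity of `ε` in the sum of `χ 1 * χ` over the
principal block, restricted to `P`, is a natural number prime to `p`. -/
theorem exists_principal_mult [Fintype (P : Subgroup G)] (hM : IsPModular p M)
    (ε : (P : Subgroup G) →* ℂˣ) :
    ∃ c : ℕ, ¬ p ∣ c ∧ ∑ χ : IrrCharacter G, (if χ ∈ principalBlock M G then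
      (χ : G → ℂ) 1 * classInner (fun x : (P : Subgroup G) => (χ : G → ℂ) x)
        (fun x => (ε x : ℂ)) else 0) = (c : ℂ) := by
  have hB : IsPBlock M (principalBlock M G) := isPBlock_principal
  have hnat : ∀ χ : IrrCharacter G, ∃ m : ℕ,
      classInner (fun x : (P : Subgroup G) => (χ : G → ℂ) x) (fun x => (ε x : ℂ)) = m := fun χ =>
    classInner_isCharacter
      (isCharacter_comap (P : Subgroup G).subtype (isCharacter_of_isIrrCharacter χ.2))
      (isCharacter_linear ε)
  choose m hm using hnat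
  refine ⟨∑ χ : IrrCharacter G,
    if χ ∈ principalBlock M G then charDegree (χ : G → ℂ) * m χ else 0, ?_, ?_⟩
  swap
  · push_cast
    refine Finset.sum_congr rfl fun χ _ => ?_
    split_ifs
    · rw [hm, irr_charDegree χ]
    · rfl
  set c := ∑ χ : IrrCharacter G,
    if χ ∈ principalBlock M G then charDegree (χ : G → ℂ) * m χ else 0 with hc
  have hval : (c : ℂ) = (P : Subgroup G).index * blockCoeff (principalBlock M G) 1 := by
    have h1 : (c : ℂ) = ∑ χ : IrrCharacter G, ∑ x : (P : Subgroup G),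
        (Nat.card (P : Subgroup G) : ℂ)⁻¹ * conj (ε x : ℂ) *
          (if χ ∈ principalBlock M G then
            (χ : G → ℂ) 1 * conj ((χ : G → ℂ) ((x : G)⁻¹)) else 0) := by
      rw [hc]
      push_cast
      refine Finset.sum_congr rfl fun χ _ => ?_
      split_ifs
      · rw [← irr_charDegree χ, ← hm χ, classInner, Finset.mul_sum, Finset.mul_sum]
        refine Finset.sum_congr rfl fun x _ => ?_
        rw [← irr_inv, inv_inv]
        ring
      · simp
    rw [h1, Finset.sum_comm]
    simp only [← Finset.mul_sum]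
    rw [Finset.sum_eq_single (1 : (P : Subgroup G))]
    · rw [blockCoeff_eq_sum, ← (P : Subgroup G).card_mul_index]
      have hz : (Nat.card (P : Subgroup G) : ℂ) ≠ 0 := Nat.cast_ne_zero.2 Nat.card_pos.ne'
      have hi : ((P : Subgroup G).index : ℂ) ≠ 0 :=
        Nat.cast_ne_zero.2 Subgroup.index_ne_zero_of_finite
      push_cast
      simp only [map_one, Units.val_one, mul_one, InvMemClass.coe_inv, inv_one]
      field_simp
    · intro x _ hx
      refine mul_eq_zero_of_right _ ?_
      have hne : (x : G)⁻¹ ≠ 1 := fun h => hx (Subtype.ext (inv_eq_one.1 h))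
      obtain ⟨j, hj⟩ := (IsPGroup.iff_orderOf.1 P.2) x⁻¹
      rw [← Subgroup.orderOf_coe, InvMemClass.coe_inv] at hj
      have hd : p ∣ orderOf (x : G)⁻¹ := by
        rcases j with _ | j
        · exact absurd (orderOf_eq_one_iff.1 (by simpa using hj)) hne
        · rw [hj]; exact dvd_pow_self p j.succ_ne_zero
      exact weak_orthogonality hM hB (by simpa using hM.1.ne_one) hd
    · simp
  intro hdvd
  have h2 : MemLocalIdeal M ((P : Subgroup G).index * blockCoeff (principalBlock M G) 1) := by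
    rw [← hval]; exact (natCast_mem_iff hM).2 hdvd
  refine not_ideal_mul hM (of_isIntegral hM (isIntegral_algebraMap (x := ((P : Subgroup G).index : ℤ))))
    (blockCoeff_mem hM hB 1) ?_ ?_ (by simpa using h2)
  · intro h
    exact Sylow.not_dvd_index P ((natCast_mem_iff hM).1 (by simpa using h))
  · intro h
    have := ideal_sub hM h (blockCoeff_principal_one_congr P hM)
    rw [sub_sub_cancel] at this
    have h3 := ideal_mul_left hM (natCast_mem (localRing hM) (Nat.card (Q P)) : MemLocalRing M _) this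
    rw [mul_inv_cancel₀ (Nat.cast_ne_zero.2 Nat.card_pos.ne')] at h3
    exact one_not_ideal hM h3

/-! ### Real characters for `p = 2` -/

omit [Fact p.Prime] in
/-- In a group of odd order the only real irreducible character is the principal one. -/
theorem real_irr_eq_triv {H : Type u} [Group H] [Fintype H] (hM : IsPModular 2 M)
    (hodd : Odd (Nat.card H)) (φ : IrrCharacter H)
    (hreal : ∀ x, (φ : H → ℂ) x⁻¹ = (φ : H → ℂ) x) : φ = trivIrr H := by
  by_contra hne
  have h0 : ∑ x : H, (φ : H → ℂ) x = 0 := by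
    have := classInner_irr_ne φ.2 (trivIrr H).2 (fun h => hne (Subtype.ext h))
    rw [classInner, mul_eq_zero] at this
    rcases this with h | h
    · simp at h
    · simpa [trivIrr] using h
  have hfix : ∀ x : H, x⁻¹ = x → x = 1 := by
    intro x hx
    have h1 : x ^ 2 = 1 := by
      rw [sq]; nth_rewrite 1 [← hx]; exact inv_mul_cancel x
    have hcop : Nat.Coprime 2 (Nat.card H) := Nat.coprime_two_left.2 hodd
    rw [← pow_one x, ← hcop.gcd_eq_one]
    exact pow_gcd_eq_one.2 ⟨h1, pow_card_eq_one'⟩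
  have h2 : DvdPow M 2 1 (∑ x ∈ Finset.univ.erase (1 : H), (φ : H → ℂ) x) := by
    refine dvdPow_sum_of_invariant hM (Equiv.inv H) (m := 1) ?_ _ (fun x => hreal x) 1 _ ?_ ?_
    · ext x; simp [pow_two]
    · intro x hx; simpa using hx
    · intro x hx j hj
      rcases j with _ | j
      · exact absurd (hfix x (by simpa using hj)) (by simpa using hx)
      · rw [show 1 - (j + 1) = 0 by omega]
        exact ⟨_, irr_local hM φ x, by simp⟩
  have h3 : MemLocalIdeal M ((φ : H → ℂ) 1) := by
    have := ideal_neg (dvdPow_ideal hM one_ne_zero h2)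
    rwa [Finset.sum_erase_eq_sub (Finset.mem_univ _), h0, zero_sub, neg_neg] at this
  obtain ⟨n, hn⟩ := Cfsg.Agent.CharBasicInt.exists_apply_one_dvd_card φ.2
  rw [hn.2.1, natCast_mem_iff hM] at h3
  exact absurd (h3.trans hn.2.2) (Nat.two_dvd_ne_zero.2 (Nat.odd_iff.1 hodd))

/-- Gow: a real `2`-block containing a character of odd degree is principal. -/
theorem mem_principal_of_real (hM : IsPModular 2 M) (χ : IrrCharacter G)
    (hodd : Odd (charDegree (χ : G → ℂ)))
    (hreal : SameBlock M (χ : G → ℂ) (fun g => conj ((χ : G → ℂ) g))) :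
    χ ∈ principalBlock M G := by
  haveI : Fact (Nat.Prime 2) := ⟨Nat.prime_two⟩
  obtain ⟨P⟩ : Nonempty (Sylow 2 G) := inferInstance
  obtain ⟨φ, hφ⟩ := exists_lamQ_of_degree P hM χ (Nat.two_dvd_ne_zero.2 (Nat.odd_iff.1 hodd))
  let χc : IrrCharacter G := ⟨_, isIrrCharacter_conj χ.2⟩
  let φc : IrrCharacter (Q P) := ⟨_, isIrrCharacter_conj φ.2⟩
  have hcc : φc ∈ orb P φ := by
    refine mem_orb_of_congr P hM fun z hz => ?_
    let z' : MonoidAlgebra ℂ G := ofFun fun g => z.coeff g⁻¹
    have hz' : Good M z' := by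
      refine ⟨fun g h => ?_, fun g => hz.2 _⟩
      show z.coeff (h * g * h⁻¹)⁻¹ = z.coeff g⁻¹
      rw [show (h * g * h⁻¹)⁻¹ = h * g⁻¹ * h⁻¹ by group]
      exact hz.1 _ _
    have hw : omega (χc : G → ℂ) z = omega (χ : G → ℂ) z' := by
      rw [omega_apply, omega_apply, chiSum_apply, chiSum_apply]
      congr 1
      · show (conj ((χ : G → ℂ) 1))⁻¹ = _
        rw [← irr_inv, inv_one]
      · refine (Equiv.sum_comp (Equiv.inv G) _).symm.trans (Finset.sum_congr rfl fun g _ => ?_)
        show z.coeff g⁻¹ * conj ((χ : G → ℂ) g⁻¹) = z.coeff g⁻¹ * (χ : G → ℂ) g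
        rw [← irr_inv, inv_inv]
    have hbeta : ∀ q, (beta P z').coeff q = (beta P z).coeff q⁻¹ := by
      intro q
      rw [coeff_beta, coeff_beta, ← Equiv.sum_comp (Equiv.inv (Cz P))]
      refine Finset.sum_congr rfl fun c _ => ?_
      simp [z', inv_eq_iff_eq_inv]
    have hl : lamQ P φc z = lamQ P φ z' := by
      rw [lamQ_apply, lamQ_apply, omega_apply, omega_apply, chiSum_apply, chiSum_apply]
      congr 1
      · show (conj ((φ : Q P → ℂ) 1))⁻¹ = _
        rw [← irr_inv, inv_one]
      · refine (Equiv.sum_comp (Equiv.inv _) _).symm.trans (Finset.sum_congr rfl fun q _ => ?_)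
        show (beta P z).coeff q⁻¹ * conj ((φ : Q P → ℂ) q⁻¹) = _
        rw [← irr_inv, inv_inv, hbeta]
    rw [hl]
    refine ideal_trans hM (ideal_sub_comm (hφ z hz)) (ideal_trans hM ?_ (hw ▸ hφ z' hz'))
    exact omega_sub_mem hM (χ := χ) (ψ := χc) hreal hz.1 hz.2
  obtain ⟨n, hn⟩ := hcc
  let N : Subgroup G := Subgroup.normalizer ((P : Subgroup G) : Set G)
  have hidx : Odd ((P : Subgroup G).subgroupOf N).index := by
    refine Nat.odd_iff.2 (Nat.two_dvd_ne_zero.1 fun h => Sylow.not_dvd_index P (h.trans ?_))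
    exact Dvd.intro _ (Subgroup.relIndex_mul_index Subgroup.le_normalizer)
  haveI : ((P : Subgroup G).subgroupOf N).Normal := Subgroup.normal_in_normalizer
  have hmem := Subgroup.pow_index_mem ((P : Subgroup G).subgroupOf N) n
  rw [Subgroup.mem_subgroupOf] at hmem
  have hone : ∀ q, (φ : Q P → ℂ) (conjQ P (n * n) q) = (φ : Q P → ℂ) q := by
    intro q
    rw [conjQ_mul, ← hn]
    show conj ((φ : Q P → ℂ) (conjQ P n q)) = _
    rw [← hn]
    exact Complex.conj_conj _
  have hpow : ∀ k q, (φ : Q P → ℂ) (conjQ P ((n * n) ^ k) q) = (φ : Q P → ℂ) q := by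
    intro k
    induction k with
    | zero => intro q; rw [pow_zero, conjQ_of_mem P 1 (one_mem _)]
    | succ k ih => intro q; rw [pow_succ, conjQ_mul, ih, hone]
  obtain ⟨k, hk⟩ := hidx
  have hfix : ∀ q, (φ : Q P → ℂ) (conjQ P n q) = (φ : Q P → ℂ) q := by
    intro q
    have h1 := hpow k (conjQ P n q)
    rw [← conjQ_mul, ← sq, ← pow_mul, ← pow_succ, ← hk, conjQ_of_mem P _ hmem] at h1
    exact h1.symm
  have hoddQ : Odd (Nat.card (Q P)) := Nat.odd_iff.2 (Nat.two_dvd_ne_zero.1 (not_dvd_card_Q P))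
  have htriv : φ = trivIrr (Q P) := by
    refine real_irr_eq_triv hM hoddQ φ fun q => ?_
    rw [irr_inv]
    exact (hn q).trans (hfix q)
  refine sameBlock_symm (sameBlock_of_omega hM (ψ := trivIrr G) fun z hz => ?_)
  exact ideal_trans hM (htriv ▸ hφ z hz) (ideal_sub_comm (lamQ_triv P hM hz))

end Cfsg.Agent.PrincipalSylow80
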