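import Mathlib
import Cfsg.Agent.Lib.PFCoherentDade
import Cfsg.Agent.Lib.CharBasicLinear
import Cfsg.Agent.Lib.PrincipalSylow80
import Cfsg.Agent.Lib.BrauerBlocksRegFun

/-!
Peterfalvi, Section 12: the sums of the adjoint of the Dade map over the cosets of the derived subgroup
of `M_F`, and their congruence modulo a prime.
-/

set_option autoImplicit false
set_option linter.unusedSectionVars false
set_option linter.style.haveILetI false

open scoped ComplexConjugate Classical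

namespace Cfsg.Agent.PF12Cong

open Cfsg Cfsg.Agent.CharBasic Cfsg.Agent.CharBasicOrth Cfsg.Agent.CharBasicDecomp
open Cfsg.Agent.PFInvDade Cfsg.Agent.PFCoherentDade Cfsg.Agent.CoherenceBasic
open Cfsg.Agent.BlockTheoryLocalRing Cfsg.Agent.DadeMap

universe u

variable {G : Type u} [Group G]

theorem si_integral [Finite G] {ψ : G → ℂ} (h : SignedIrr ψ) (g : G) : IsIntegral ℤ (ψ g) := by
  rcases h with h | h
  · exact isCharacter_integral (isCharacter_of_isIrrCharacter h) g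
  · have := (isCharacter_integral (isCharacter_of_isIrrCharacter h) g).neg
    simpa using this

theorem si_congr [Finite G] {p : ℕ} {J : Ideal AlgInt} (hJ : IsPModular p J) {ψ : G → ℂ}
    (h : SignedIrr ψ) {u x : G} (hu : orderOf u = p) (hc : Commute u x) :
    MemLocalIdeal J (ψ (u * x) - ψ x) := by
  have hu' : ∃ j, orderOf u = p ^ j := ⟨1, by rw [hu, pow_one]⟩
  rcases h with h | h
  · exact PrincipalSylow80.char_mul_congr hJ (isCharacter_of_isIrrCharacter h) hu' hc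
  · have := ideal_neg (PrincipalSylow80.char_mul_congr hJ (isCharacter_of_isIrrCharacter h) hu' hc)
    simpa [sub_eq_add_neg, add_comm] using this

theorem intCast_mem_iff {p : ℕ} {J : Ideal AlgInt} (hJ : IsPModular p J) {k : ℤ} :
    MemLocalIdeal J (k : ℂ) ↔ (p : ℤ) ∣ k := by
  obtain ⟨n, rfl | rfl⟩ := k.eq_nat_or_neg
  · rw [Int.cast_natCast, natCast_mem_iff hJ, Int.natCast_dvd_natCast]
  · rw [Int.cast_neg, Int.cast_natCast, dvd_neg, Int.natCast_dvd_natCast, ← natCast_mem_iff hJ]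
    exact ⟨fun h => by simpa using ideal_neg h, fun h => ideal_neg h⟩

theorem sum_hom {X : Type*} [Group X] [Finite X] [Fintype (X →* ℂˣ)] (a : X) :
    ∑ l : X →* ℂˣ, (l a : ℂ) = if a ∈ commutator X then (Nat.card (X →* ℂˣ) : ℂ) else 0 := by
  split_ifs with ha
  · rw [Nat.card_eq_fintype_card, ← Finset.card_univ, Finset.cast_card]
    exact Finset.sum_congr rfl fun l _ => by
      rw [MonoidHom.mem_ker.1 (Abelianization.commutator_subset_ker l ha), Units.val_one]
  · have hne : Abelianization.of a ≠ 1 := fun e => ha (by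
      rw [← Abelianization.ker_of]; exact e)
    obtain ⟨φ, hφ⟩ := CommGroup.exists_apply_ne_one_of_hasEnoughRootsOfUnity (Abelianization X) ℂ hne
    set l₀ : X →* ℂˣ := φ.comp Abelianization.of with hl₀
    have h1 : (l₀ a : ℂ) ≠ 1 := fun e => hφ (Units.ext e)
    have h2 : (l₀ a : ℂ) * ∑ l : X →* ℂˣ, (l a : ℂ) = ∑ l : X →* ℂˣ, (l a : ℂ) := by
      rw [Finset.mul_sum]
      exact Fintype.sum_equiv (Equiv.mulLeft l₀) _ _ fun l => by simp
    have h3 : ((l₀ a : ℂ) - 1) * ∑ l : X →* ℂˣ, (l a : ℂ) = 0 := by rw [sub_mul, h2, one_mul, sub_self]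
    exact (mul_eq_zero.1 h3).resolve_left (sub_ne_zero.2 h1)

variable [Fintype G] {A : Set G} {M : Subgroup G} [Fintype ↥M] {R : G → Subgroup G} {K : Subgroup ↥M}

theorem commutator_le_self' : ⁅K, K⁆ ≤ K := Subgroup.commutator_le_self K

theorem mem_derived {y : ↥K} : y ∈ commutator ↥K ↔ (y : ↥M) ∈ ⁅K, K⁆ := by
  rw [← Subgroup.map_subtype_commutator]
  exact ⟨fun h => ⟨y, h, rfl⟩, fun ⟨z, hz, e⟩ => (Subtype.ext e : z = y) ▸ hz⟩

/-- The sum of the adjoint over a coset of `⁅K, K⁆` other than itself. -/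
theorem coset_sum (hS : Setup A M R K) {χ : G → ℂ} (hχ : IsClassFunction G χ) (c : ℂ)
    (hlin : ∀ l : ↥K →* ℂˣ, l ≠ 1 → coeff A M R K χ (fun k => (l k : ℂ)) = -c)
    (k : ↥M) (hk : k ∈ K) (hkD : k ∉ ⁅K, K⁆) :
    ∑ y : ↥M, (if y⁻¹ * k ∈ ⁅K, K⁆ then invDade A M R χ y else 0) =
      (Nat.card ↥⁅K, K⁆ : ℂ) * c := by
  haveI := hS.normal
  haveI : Fintype (↥K →* ℂˣ) := by
    haveI : Finite (↥K →* ℂˣ) := Nat.finite_of_card_ne_zero (by
      rw [CharBasicLinear.card_hom_units]; exact Subgroup.index_ne_zero_of_finite)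
    exact Fintype.ofFinite _
  set f : ↥K → ℂ := fun h => invDade A M R χ h with hf
  set k' : ↥K := ⟨k, hk⟩ with hk'
  have hidx : (Nat.card (↥K →* ℂˣ) : ℂ) * (Nat.card ↥⁅K, K⁆ : ℂ) = (Nat.card ↥K : ℂ) := by
    rw [CharBasicLinear.card_hom_units, ← Nat.cast_mul, ← Subgroup.map_subtype_commutator,
      Subgroup.card_map_of_injective K.subtype_injective, mul_comm, Subgroup.card_mul_index]
  have hH : (Nat.card (↥K →* ℂˣ) : ℂ) ≠ 0 := Nat.cast_ne_zero.2 Nat.card_pos.ne'
  have hK : (Nat.card ↥K : ℂ) ≠ 0 := Nat.cast_ne_zero.2 Nat.card_pos.ne'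
  -- pass to a sum over `K`
  have h1 : ∑ y : ↥M, (if y⁻¹ * k ∈ ⁅K, K⁆ then invDade A M R χ y else 0) =
      ∑ y : ↥K, (if y⁻¹ * k' ∈ commutator ↥K then f y else 0) := by
    have e : ∀ y : ↥K, (y⁻¹ * k' ∈ commutator ↥K) ↔ ((y : ↥M))⁻¹ * k ∈ ⁅K, K⁆ := fun y => by
      rw [mem_derived]; simp [hk']
    simp only [e, hf]
    rw [← Finset.sum_subtype (p := fun y : ↥M => y ∈ K) (Finset.univ.filter fun y : ↥M => y ∈ K)
      (fun y => by simp) (fun y => if y⁻¹ * k ∈ ⁅K, K⁆ then invDade A M R χ y else 0),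
      Finset.sum_filter]
    refine Finset.sum_congr rfl fun y _ => ?_
    by_cases hy : y ∈ K
    · rw [if_pos hy]
    · rw [if_neg hy, if_neg]
      intro h
      exact hy (inv_mem_iff.1 ((K.mul_mem_cancel_right hk).1 (commutator_le_self' h)))
  -- Fourier inversion on the abelianisation
  have h2 : ∀ y : ↥K, (if y⁻¹ * k' ∈ commutator ↥K then f y else 0) =
      (Nat.card (↥K →* ℂˣ) : ℂ)⁻¹ * ∑ l : ↥K →* ℂˣ, (l k' : ℂ) * (f y * conj (l y : ℂ)) := by
    intro y
    have e : ∀ l : ↥K →* ℂˣ, (l k' : ℂ) * (f y * conj (l y : ℂ)) = f y * (l (y⁻¹ * k') : ℂ) := by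
      intro l
      have h' : ((l y⁻¹ : ℂˣ) : ℂ) = conj (l y : ℂ) :=
        isCharacter_inv (isCharacter_linear l) y
      rw [map_mul, Units.val_mul, h']
      ring
    rw [Finset.sum_congr rfl fun l _ => e l, ← Finset.mul_sum, sum_hom]
    split_ifs
    · field_simp
    · simp
  have h3 : ∀ l : ↥K →* ℂˣ, classInner f (fun h => (l h : ℂ)) =
      classInner f (fun _ => 1) - if l = 1 then 0 else c := by
    intro l
    split_ifs with hl
    · subst hl; simp
    · have := coeff_eq hS hχ (fun h : ↥K => (l h : ℂ))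
      rw [hlin l hl, map_one] at this
      simp only [Units.val_one, map_one, one_mul] at this
      linear_combination -this
  have h4 : ∀ l : ↥K →* ℂˣ, ∑ y : ↥K, f y * conj (l y : ℂ) =
      (Nat.card ↥K : ℂ) * classInner f (fun h => (l h : ℂ)) := fun l =>
    (card_mul_classInner f (fun h => (l h : ℂ))).symm
  have hsum : ∑ l : ↥K →* ℂˣ, (l k' : ℂ) = 0 := by
    rw [sum_hom, if_neg (fun h => hkD (mem_derived.1 h))]
  rw [h1, Finset.sum_congr rfl fun y _ => h2 y, ← Finset.mul_sum, Finset.sum_comm]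
  simp only [← Finset.mul_sum, h4, h3, mul_sub, Finset.sum_sub_distrib, mul_ite, mul_zero]
  rw [show ∑ l : ↥K →* ℂˣ, (l k' : ℂ) * ((Nat.card ↥K : ℂ) * classInner f (fun _ => 1)) = 0 by
    rw [← Finset.sum_mul, hsum, zero_mul]]
  rw [show ∑ l : ↥K →* ℂˣ, (if l = 1 then (0 : ℂ) else (l k' : ℂ) * ((Nat.card ↥K : ℂ) * c)) =
      -((Nat.card ↥K : ℂ) * c) by
    rw [Finset.sum_congr rfl (g := fun l : ↥K →* ℂˣ => (l k' : ℂ) * ((Nat.card ↥K : ℂ) * c) -
      if l = 1 then (Nat.card ↥K : ℂ) * c else 0) fun l _ => by split_ifs with h <;> simp [h],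
      Finset.sum_sub_distrib, ← Finset.sum_mul, hsum, zero_mul, Finset.sum_ite_eq', if_pos (Finset.mem_univ _),
      zero_sub]]
  rw [← hidx]
  field_simp
  ring

/-- The congruence: `c ≡ ψ x`. -/
theorem congr_prime (hS : Setup A M R K) {ψ : G → ℂ} (hψ : SignedIrr ψ) {p : ℕ} {J : Ideal AlgInt}
    (hJ : IsPModular p J) {x k : ↥M} (hx : orderOf x = p) (hk : k ∈ K) (hkD : k ∉ ⁅K, K⁆)
    (hxk : Commute x k) (hpK : ¬ p ∣ Nat.card ↥K)
    (hC : Subgroup.centralizer ({(x : G)} : Set G) ≤ M)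
    (hconst : ∀ c ∈ K, ψ ((x * c : ↥M) : G) = ψ (x : G))
    (c : ℤ) (hlin : ∀ l : ↥K →* ℂˣ, l ≠ 1 → coeff A M R K ψ (fun k => (l k : ℂ)) = -(c : ℂ)) :
    MemLocalIdeal J ((c : ℂ) - ψ (x : G)) := by
  haveI := hS.normal
  have hD := hS.dade
  haveI : Fact p.Prime := ⟨hJ.1⟩
  have hψc : IsClassFunction G ψ := isClassFunction_of_isGeneralizedCharacter (si_gen hψ)
  set D : Subgroup ↥M := ⁅K, K⁆ with hDdef
  have hA : ∀ y : ↥M, y⁻¹ * k ∈ D → (y : G) ∈ A := fun y hy => (hS.mem_iff y).2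
    ⟨inv_mem_iff.1 ((K.mul_mem_cancel_right hk).1 (commutator_le_self' hy)),
      fun e => hkD (by rw [e, inv_one, one_mul] at hy; exact hy)⟩
  have hkA : (k : G) ∈ A := hA k (by rw [inv_mul_cancel]; exact D.one_mem)
  have hint : ∀ g, MemLocalRing J (ψ g) := fun g => of_isIntegral hJ (si_integral hψ g)
  have hxp : p ∣ Nat.card ↥(M ⊓ Subgroup.centralizer ({(k : G)} : Set G)) := by
    rw [← hx, ← Subgroup.orderOf_coe x]
    exact Subgroup.orderOf_dvd_natCard _ ⟨x.2, Subgroup.mem_centralizer_singleton_iff.2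
      (congrArg Subtype.val hxk.eq)⟩
  have hR : ∀ y : ↥M, (y : G) ∈ A → ¬ p ∣ Nat.card (R (y : G)) := fun y hy h =>
    hJ.1.one_lt.ne' (Nat.eq_one_of_dvd_coprimes (hD.coprime _ hy _ hkA) h hxp)
  have hlocal : ∀ y : ↥M, y⁻¹ * k ∈ D → MemLocalRing J (invDade A M R ψ y) := by
    intro y hy
    rw [invDade_eq_sum y (hA y hy)]
    refine (localRing hJ).mul_mem (inv_natCast_mem hJ (hR y (hA y hy))) ?_
    refine (localRing hJ).sum_mem fun u _ => ?_
    split_ifs
    · exact hint _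
    · exact (localRing hJ).zero_mem
  set Hx : Subgroup ↥M := Subgroup.zpowers x with hHx
  have hHp : IsPGroup p Hx := IsPGroup.of_card (n := 1) (by rw [Nat.card_zpowers, hx, pow_one])
  have hfix : ∀ h ∈ Hx, h * k = k * h := by
    rintro _ ⟨n, rfl⟩
    exact (hxk.zpow_left n).eq
  let X := {y : ↥M // y⁻¹ * k ∈ D}
  letI : MulAction Hx X :=
    { smul := fun h y => ⟨h.1 * y.1 * h.1⁻¹, by
        have e : (h.1 * y.1 * h.1⁻¹)⁻¹ * k = h.1 * (y.1⁻¹ * k) * h.1⁻¹ := by
          have := hfix h.1 h.2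
          calc (h.1 * y.1 * h.1⁻¹)⁻¹ * k = h.1 * y.1⁻¹ * (h.1⁻¹ * k * h.1) * h.1⁻¹ := by group
            _ = h.1 * y.1⁻¹ * (h.1⁻¹ * (h.1 * k)) * h.1⁻¹ := by rw [this]; group
            _ = _ := by group
        rw [e]
        exact (inferInstance : D.Normal).conj_mem _ y.2 _⟩
      one_smul := fun y => Subtype.ext (by
        show ((1 : Hx) : ↥M) * y.1 * ((1 : Hx) : ↥M)⁻¹ = y.1
        simp)
      mul_smul := fun a b y => Subtype.ext (by
        show ((a * b : Hx) : ↥M) * y.1 * ((a * b : Hx) : ↥M)⁻¹ =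
          a.1 * (b.1 * y.1 * b.1⁻¹) * a.1⁻¹
        simp [mul_assoc]) }
  have hinv : ∀ (h : Hx) (y : X), invDade A M R ψ (h • y).1 = invDade A M R ψ y.1 := fun h y =>
    invDade_isClassFunction hD hψc y.1 h.1
  have s1 := PrincipalSylow80.sum_fixed_congr hJ hHp (fun y : X => invDade A M R ψ y.1) hinv
    (fun y => hlocal y.1 y.2)
  have s2 := PrincipalSylow80.sum_fixed_congr hJ hHp (fun _ : X => (1 : ℂ)) (fun _ _ => rfl)
    (fun _ => (localRing hJ).one_mem)
  have tot : ∑ y : X, invDade A M R ψ y.1 = (Nat.card ↥D : ℂ) * c := by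
    rw [← coset_sum hS hψc (c : ℂ) hlin k hk hkD, ← Finset.sum_filter]
    exact (Finset.sum_subtype (p := fun y : ↥M => y⁻¹ * k ∈ D)
      (Finset.univ.filter fun y : ↥M => y⁻¹ * k ∈ D) (fun y => by simp) (invDade A M R ψ)).symm
  have cardX : ∑ _y : X, (1 : ℂ) = (Nat.card ↥D : ℂ) := by
    rw [Finset.sum_const, nsmul_eq_mul, mul_one, Finset.card_univ, ← Nat.card_eq_fintype_card]
    refine congrArg _ (Nat.card_congr
      { toFun := fun y => ⟨y.1⁻¹ * k, y.2⟩
        invFun := fun d => ⟨k * d.1⁻¹, by simp⟩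
        left_inv := fun y => Subtype.ext (by simp)
        right_inv := fun d => Subtype.ext (by simp) })
  -- the value at a fixed point
  have hval : ∀ y : X, y ∈ MulAction.fixedPoints Hx X →
      MemLocalIdeal J (invDade A M R ψ y.1 - ψ (x : G)) := by
    intro y hy
    have hcomm : x * y.1 = y.1 * x := by
      have := congrArg Subtype.val (MulAction.mem_fixedPoints.1 hy ⟨x, Subgroup.mem_zpowers x⟩)
      change x * y.1 * x⁻¹ = y.1 at this
      exact mul_inv_eq_iff_eq_mul.1 this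
    have hyA := hA y.1 y.2
    have hcomm' : (x : G) * (y.1 : G) = (y.1 : G) * (x : G) := congrArg Subtype.val hcomm
    set r := R (y.1 : G) with hr
    have hxr : ∀ h ∈ Hx, ∀ u ∈ r, (h : G) * u * (h : G)⁻¹ ∈ r := by
      rintro _ ⟨n, rfl⟩ u hu
      refine hD.conj_mem_H _ hyA _ ?_ u hu
      rw [SubgroupClass.coe_zpow]
      exact Subgroup.zpow_mem _ (Subgroup.mem_centralizer_singleton_iff.2 hcomm') n
    letI : MulAction Hx r :=
      { smul := fun h u => ⟨(h.1 : G) * u.1 * (h.1 : G)⁻¹, hxr h.1 h.2 u.1 u.2⟩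
        one_smul := fun u => Subtype.ext (by
          show (((1 : Hx) : ↥M) : G) * u.1 * (((1 : Hx) : ↥M) : G)⁻¹ = u.1
          simp)
        mul_smul := fun a b u => Subtype.ext (by
          show (((a * b : Hx) : ↥M) : G) * u.1 * (((a * b : Hx) : ↥M) : G)⁻¹ =
            (a.1 : G) * ((b.1 : G) * u.1 * (b.1 : G)⁻¹) * (a.1 : G)⁻¹
          simp [mul_assoc]) }
    have hW : ∀ (h : Hx) (u : r), ψ ((y.1 : G) * ((h • u : r) : G)) = ψ ((y.1 : G) * (u : G)) := by
      intro h u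
      show ψ ((y.1 : G) * ((h.1 : G) * u.1 * (h.1 : G)⁻¹)) = _
      rw [← hψc ((y.1 : G) * (u : G)) (h.1 : G)]
      congr 1
      obtain ⟨n, hn⟩ := h.2
      have hc : (h.1 : G) * (y.1 : G) = (y.1 : G) * (h.1 : G) := by
        rw [← hn, SubgroupClass.coe_zpow]
        exact (Commute.zpow_left hcomm' n).eq
      calc (y.1 : G) * ((h.1 : G) * u.1 * (h.1 : G)⁻¹)
          = ((y.1 : G) * (h.1 : G)) * u.1 * (h.1 : G)⁻¹ := by group
        _ = ((h.1 : G) * (y.1 : G)) * u.1 * (h.1 : G)⁻¹ := by rw [hc]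
        _ = _ := by group
    have hone : ∀ u : r, u ∈ MulAction.fixedPoints Hx r ↔ u = 1 := by
      intro u
      constructor
      · intro hu
        have := congrArg Subtype.val (MulAction.mem_fixedPoints.1 hu ⟨x, Subgroup.mem_zpowers x⟩)
        change (x : G) * u.1 * (x : G)⁻¹ = u.1 at this
        refine Subtype.ext (eq_one_of_mem_H_of_mem hD hyA u.2 (hC ?_))
        exact Subgroup.mem_centralizer_singleton_iff.2 (mul_inv_eq_iff_eq_mul.1 this).symm
      · rintro rfl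
        refine MulAction.mem_fixedPoints.2 fun h => Subtype.ext ?_
        show (h.1 : G) * ((1 : r) : G) * (h.1 : G)⁻¹ = _
        simp
    have t1 := PrincipalSylow80.sum_fixed_congr hJ hHp (fun u : r => ψ ((y.1 : G) * (u : G))) hW
      (fun u => hint _)
    have t2 := PrincipalSylow80.sum_fixed_congr hJ hHp (fun _ : r => (1 : ℂ)) (fun _ _ => rfl)
      (fun _ => (localRing hJ).one_mem)
    simp only [hone, Finset.sum_ite_eq', Finset.mem_univ, if_true, Subgroup.coe_one, mul_one] at t1 t2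
    rw [Finset.sum_const, nsmul_eq_mul, mul_one, Finset.card_univ, ← Nat.card_eq_fintype_card] at t2
    have hsum : invDade A M R ψ y.1 =
        (Nat.card r : ℂ)⁻¹ * ∑ u : r, ψ ((y.1 : G) * (u : G)) := by
      rw [invDade_eq_sum y.1 hyA, ← Finset.sum_filter]
      congr 1
      exact Finset.sum_subtype (p := fun u : G => u ∈ r) _ (fun u => by simp [hr]) _
    have hr0 : (Nat.card r : ℂ) ≠ 0 := Nat.cast_ne_zero.2 Nat.card_pos.ne'
    have hkey : MemLocalIdeal J (invDade A M R ψ y.1 - ψ (y.1 : G)) := by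
      rw [show invDade A M R ψ y.1 - ψ (y.1 : G) = (Nat.card r : ℂ)⁻¹ *
          ((∑ u : r, ψ ((y.1 : G) * (u : G)) - ψ (y.1 : G)) - ((Nat.card r : ℂ) - 1) * ψ (y.1 : G)) by
        rw [hsum]; field_simp; ring]
      exact ideal_mul_left hJ (inv_natCast_mem hJ (hR y.1 hyA))
        (ideal_sub hJ t1 (ideal_mul_right hJ t2 (hint _)))
    have h5 := si_congr hJ hψ (show orderOf (x : G) = p by rw [Subgroup.orderOf_coe, hx]) hcomm'
    have hyK : y.1 ∈ K := ((hS.mem_iff y.1).1 hyA).1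
    rw [← Subgroup.coe_mul, hconst _ hyK] at h5
    have := ideal_sub hJ hkey h5
    simpa using this
  have hfixed : MemLocalIdeal J
      ((∑ y : X, if y ∈ MulAction.fixedPoints Hx X then invDade A M R ψ y.1 else 0) -
        (∑ y : X, if y ∈ MulAction.fixedPoints Hx X then (1 : ℂ) else 0) * ψ (x : G)) := by
    rw [Finset.sum_mul, ← Finset.sum_sub_distrib]
    refine ideal_sum hJ fun y _ => ?_
    split_ifs with hy
    · rw [one_mul]; exact hval y hy
    · rw [zero_mul, sub_zero]; exact ideal_zero hJ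
  rw [tot] at s1
  rw [cardX] at s2
  have hmul := ideal_sub hJ (ideal_add hJ s1 hfixed) (ideal_mul_right hJ s2 (hint (x : G)))
  have hDp : ¬ p ∣ Nat.card ↥D := fun h => hpK (h.trans (Subgroup.card_dvd_of_le commutator_le_self'))
  have hD0 : (Nat.card ↥D : ℂ) ≠ 0 := Nat.cast_ne_zero.2 Nat.card_pos.ne'
  rw [show (c : ℂ) - ψ (x : G) =
    (Nat.card ↥D : ℂ)⁻¹ * ((Nat.card ↥D : ℂ) * ((c : ℂ) - ψ (x : G))) by field_simp]
  refine ideal_mul_left hJ (inv_natCast_mem hJ hDp) ?_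
  convert hmul using 1
  ring

end Cfsg.Agent.PF12Cong
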