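/-
Invariant characters of normal subgroups with abelian factor group; Taketa's theorem.
-/
import Mathlib
import Cfsg.Agent.Lib.CharInducedCorr
import Cfsg.Agent.Lib.CharKernel
import Cfsg.Agent.Lib.CharBasicLinear

set_option autoImplicit false

open scoped ComplexConjugate
open Finset

namespace Cfsg.Agent.CharInduced

open CharBasic CharBasicOrth CharBasicDecomp

universe u

variable {G : Type u} [Group G] [Fintype G]

section Invariant

variable (N : Subgroup G) [hN : N.Normal] [Fintype N] {θ : N → ℂ} (hθ : IsIrrCharacter N θ)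
  (hinv : ∀ g : G, conjFun N θ g = θ)

include hθ hinv in
theorem res_eq_smul_of_invariant {χ : G → ℂ} (hχ : IsIrrCharacter G χ)
    (hc : classInner (fun n : N => χ n) θ ≠ 0) :
    (fun n : N => χ n) = classInner (fun n : N => χ n) θ • θ := by
  have h := clifford N hχ hθ hc
  have horb : orbitFin N θ = {θ} := by
    refine Finset.eq_singleton_iff_unique_mem.2 ⟨self_mem_orbitFin N θ, fun φ hφ => ?_⟩
    obtain ⟨g, rfl⟩ := (mem_orbitFin N).1 hφ
    exact hinv g
  rwa [horb, Finset.sum_singleton] at h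

include hθ hinv in
/-- With abelian factor group, the constituents over an invariant character have equal
restriction. -/
theorem res_eq_of_abelian_quotient (hab : ∀ x y : G, x * y * x⁻¹ * y⁻¹ ∈ N)
    {χ η : G → ℂ} (hχ : IsIrrCharacter G χ) (hη : IsIrrCharacter G η)
    (hχc : classInner (fun n : N => χ n) θ ≠ 0) (hηc : classInner (fun n : N => η n) θ ≠ 0) :
    (fun n : N => η n) = fun n : N => χ n := by
  classical
  have hχN := res_eq_smul_of_invariant N hθ hinv hχ hχc
  have hηN := res_eq_smul_of_invariant N hθ hinv hη hηc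
  let π : G → ℂ := η * fun g => conj (χ g)
  have hπ : IsCharacter G π := isCharacter_mul (isCharacter_of_isIrrCharacter hη)
    (isCharacter_conj (isCharacter_of_isIrrCharacter hχ))
  have hπ1 : classInner (fun n : N => π n) (fun _ => 1) ≠ 0 := by
    have h1 : classInner (fun n : N => π n) (fun _ => 1) =
        classInner (fun n : N => η n) (fun n : N => χ n) := by
      simp [classInner, π]
    rw [h1, hηN, hχN, inner_smul_left, CharInduced.inner_smul_right, classInner_irr_self hθ, mul_one]
    exact mul_ne_zero hηc (by simpa using hχc)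
  obtain ⟨β, hβ, hβ1⟩ : ∃ β : IrrCharacter G,
      classInner π β ≠ 0 ∧ classInner (fun n : N => (β : G → ℂ) n) (fun _ => 1) ≠ 0 := by
    by_contra hno
    push Not at hno
    apply hπ1
    have : (fun n : N => π n) = ∑ β : IrrCharacter G,
        classInner π β • fun n : N => (β : G → ℂ) n := by
      funext n
      have := congrFun (eq_sum_classInner (CharBasic.isClassFunction_of_isCharacter hπ)) (n : G)
      simpa [Finset.sum_apply] using this
    rw [this, inner_sum_left, Finset.sum_eq_zero]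
    intro β _
    rw [inner_smul_left]
    by_cases h0 : classInner π β = 0
    · rw [h0, zero_mul]
    · rw [hno β h0, mul_zero]
  have htriv : ∀ n : N, (β : G → ℂ) n = (β : G → ℂ) 1 := by
    have h := res_eq_smul_of_invariant N (θ := fun _ : N => (1 : ℂ)) isIrrCharacter_one
      (fun g => rfl) β.2 hβ1
    intro n
    have h1 := congrFun h n
    have h2 := congrFun h 1
    simp only [Pi.smul_apply, OneMemClass.coe_one] at h1 h2
    rw [h1, h2]
  obtain ⟨ψ, hψ⟩ := CharKernel.exists_quot_irr N β (fun n hn => htriv ⟨n, hn⟩)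
  have hcomm : ∀ a b : G ⧸ N, a * b = b * a := by
    intro a b
    induction a using QuotientGroup.induction_on with
    | H x =>
      induction b using QuotientGroup.induction_on with
      | H y =>
        rw [← QuotientGroup.mk_mul, ← QuotientGroup.mk_mul, eq_comm, QuotientGroup.eq]
        have := hab x⁻¹ y⁻¹
        simpa [mul_assoc] using Subgroup.Normal.conj_mem' hN _ this 1
  obtain ⟨lam, hlam⟩ := CharBasicLinear.exists_hom_of_comm hcomm ψ.2
  have hβeq : (β : G → ℂ) = fun g => ((lam.comp (QuotientGroup.mk' N)) g : ℂ) := by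
    funext g; rw [hψ g, hlam]; rfl
  have hχ' : IsIrrCharacter G (fun g => χ g * ((lam.comp (QuotientGroup.mk' N)) g : ℂ)) :=
    isIrrCharacter_mul_linear hχ _
  have heq : η = fun g => χ g * ((lam.comp (QuotientGroup.mk' N)) g : ℂ) := by
    by_contra hne
    apply hβ
    rw [← classInner_irr_ne hη hχ' hne]
    simp [classInner, π, hβeq, mul_assoc]
  funext n
  rw [heq]
  show χ n * _ = χ n
  have h1 : QuotientGroup.mk' N (n : G) = 1 := (QuotientGroup.eq_one_iff _).2 n.2
  simp [MonoidHom.comp_apply, h1]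

include hθ hinv in
/-- The constituents of an invariant character induced through an abelian factor. -/
theorem exists_constituents_abelian_quotient (hab : ∀ x y : G, x * y * x⁻¹ * y⁻¹ ∈ N) :
    ∃ (e : ℕ) (C : Finset (G → ℂ)), 0 < e ∧ (∀ χ ∈ C, IsIrrCharacter G χ) ∧
      e ^ 2 * C.card = N.index ∧ indFun N θ = (e : ℂ) • ∑ χ ∈ C, χ ∧
      ∀ χ ∈ C, χ 1 = (e : ℂ) * θ 1 ∧ classInner (fun n : N => χ n) θ = (e : ℂ) := by
  classical
  have hind := isCharacter_ind N (isCharacter_of_isIrrCharacter hθ)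
  obtain ⟨d, hd, hd1⟩ := isIrrCharacter_apply_one hθ
  have hidx : 0 < N.index := Nat.pos_of_ne_zero N.index_ne_zero_of_finite
  obtain ⟨χ₀, hχ₀, hne⟩ := exists_constituent hind (isCharacter_ne_zero_of_apply_one
    (Nat.mul_pos hidx hd) (by rw [ind_one_apply, hd1, Nat.cast_mul]))
  rw [inner_ind_left N θ (isClassFunction_irr hχ₀), ← inner_conj_symm] at hne
  have hc₀ : classInner (fun n : N => χ₀ n) θ ≠ 0 := by simpa using hne
  obtain ⟨e, he⟩ := classInner_isCharacter (isCharacter_res N (isCharacter_of_isIrrCharacter hχ₀))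
    (isCharacter_of_isIrrCharacter hθ)
  let S : Finset (IrrCharacter G) :=
    Finset.univ.filter fun χ => classInner (fun n : N => (χ : G → ℂ) n) θ ≠ 0
  have hS : ∀ χ ∈ S, classInner (fun n : N => (χ : G → ℂ) n) θ = (e : ℂ) ∧
      (χ : G → ℂ) 1 = (e : ℂ) * θ 1 := by
    intro χ hχ
    have h1 := res_eq_of_abelian_quotient N hθ hinv hab hχ₀ χ.2 hc₀ (Finset.mem_filter.1 hχ).2
    have h2 := congrFun (res_eq_smul_of_invariant N hθ hinv χ.2 (Finset.mem_filter.1 hχ).2) 1
    rw [h1, he] at h2 ⊢
    refine ⟨rfl, ?_⟩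
    have h3 := congrFun h1 1
    simp only [Pi.smul_apply, smul_eq_mul, OneMemClass.coe_one] at h2 h3
    exact h3 ▸ h2
  have he0 : 0 < e := Nat.pos_of_ne_zero fun h => hc₀ (by rw [he, h, Nat.cast_zero])
  refine ⟨e, S.map ⟨Subtype.val, Subtype.val_injective⟩, he0, ?_, ?_⟩
  · intro χ hχ
    obtain ⟨ξ, -, rfl⟩ := Finset.mem_map.1 hχ
    exact ξ.2
  have hsum : indFun N θ = (e : ℂ) • ∑ χ ∈ S, (χ : G → ℂ) := by
    refine (eq_sum_classInner (isClassFunction_ind N θ)).trans ?_
    rw [Finset.smul_sum]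
    refine (Finset.sum_subset (Finset.subset_univ S) fun χ _ hχ => ?_).symm.trans
      (Finset.sum_congr rfl fun χ hχ => ?_)
    · have h0 : classInner (fun n : N => (χ : G → ℂ) n) θ = 0 := by
        simpa [S] using hχ
      rw [inner_ind_left N θ (isClassFunction_irr χ.2), ← inner_conj_symm, h0, map_zero, zero_smul]
    · rw [inner_ind_left N θ (isClassFunction_irr χ.2), ← inner_conj_symm, (hS χ hχ).1,
        Complex.conj_natCast]
  refine ⟨?_, by rw [Finset.sum_map]; exact hsum, ?_⟩
  · have h1 := congrFun hsum 1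
    rw [ind_one_apply, Pi.smul_apply, Finset.sum_apply, Finset.sum_congr rfl fun χ hχ => (hS χ hχ).2,
      Finset.sum_const, hd1, nsmul_eq_mul, smul_eq_mul] at h1
    have h2 : ((N.index * d : ℕ) : ℂ) = ((e ^ 2 * S.card * d : ℕ) : ℂ) := by
      push_cast
      rw [h1]; ring
    rw [Finset.card_map]
    exact (Nat.eq_of_mul_eq_mul_right hd (Nat.cast_injective h2)).symm
  · intro χ hχ
    obtain ⟨ξ, hξ, rfl⟩ := Finset.mem_map.1 hχ
    exact ⟨(hS ξ hξ).2, (hS ξ hξ).1⟩

end Invariant

/-- The derived series lies in the kernels of monomial characters (Taketa). -/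
theorem derivedSeries_le_ker_of_monomial
    (hM : ∀ χ : G → ℂ, IsIrrCharacter G χ →
      ∃ (H : Subgroup G) (lam : H →* ℂˣ), χ = indFun H (fun h => (lam h : ℂ))) (n : ℕ) :
    ∀ (χ : G → ℂ), IsIrrCharacter G χ → χ 1 = (n : ℂ) → ∀ g ∈ derivedSeries G n, χ g = χ 1 := by
  induction n using Nat.strong_induction_on with
  | _ n ih =>
    intro χ hχ hn g hg
    classical
    obtain ⟨H, lam, rfl⟩ := hM χ hχ
    have hidx : H.index = n := by
      rw [ind_one_apply, map_one, Units.val_one, mul_one] at hn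
      exact_mod_cast hn
    obtain ⟨k, rfl⟩ : ∃ k, n = k + 1 :=
      ⟨n - 1, (Nat.succ_pred_eq_of_ne_zero (hidx ▸ H.index_ne_zero_of_finite)).symm⟩
    -- the previous term lies in the normal core of `H`
    have hD : ∀ x ∈ derivedSeries G k, x ∈ H := by
      intro x hx
      by_cases hH : H = ⊤
      · rw [hH]; exact Subgroup.mem_top x
      have hc := isCharacter_ind H (CharBasicDecomp.isCharacter_one (G := H))
      obtain ⟨m, hm, hsum⟩ := exists_mult hc
      have hm1 : m (trivIrr G) = 1 := by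
        have h1 := hm (trivIrr G)
        have : Fintype H := Fintype.ofFinite H
        rw [show ((trivIrr G : IrrCharacter G) : G → ℂ) = fun _ => (1 : ℂ) from rfl,
          inner_ind_left H _ (fun _ _ => rfl), classInner_irr_self isIrrCharacter_one] at h1
        exact_mod_cast h1.symm
      have hval : indFun H (fun _ => (1 : ℂ)) x = indFun H (fun _ => (1 : ℂ)) 1 := by
        rw [hsum, Finset.sum_apply, Finset.sum_apply]
        refine Finset.sum_congr rfl fun η _ => ?_
        simp only [Pi.smul_apply]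
        by_cases hm0 : m η = 0
        · simp [hm0]
        by_cases hη : η = trivIrr G
        · subst hη; rfl
        congr 1
        obtain ⟨j, hj, hj1⟩ := isIrrCharacter_apply_one η.2
        have hjk : j ≤ k := by
          have h1 := congrFun hsum 1
          rw [ind_one_apply, mul_one, hidx, Finset.sum_apply] at h1
          choose deg hdeg0 hdeg using fun ξ : IrrCharacter G => isIrrCharacter_apply_one ξ.2
          simp only [Pi.smul_apply, smul_eq_mul, hdeg] at h1
          have h2 : k + 1 = ∑ ξ, m ξ * deg ξ := by exact_mod_cast h1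
          have h3 : ∑ ξ ∈ ({η, trivIrr G} : Finset (IrrCharacter G)), m ξ * deg ξ ≤
              ∑ ξ, m ξ * deg ξ := Finset.sum_le_sum_of_subset (Finset.subset_univ _)
          rw [Finset.sum_pair hη, hm1, ← h2] at h3
          have hdt : deg (trivIrr G) = 1 := by
            have := hdeg (trivIrr G)
            simp only [trivIrr] at this
            exact_mod_cast this.symm
          have hdj : deg η = j := by
            have := hdeg η
            rw [hj1] at this
            exact_mod_cast this.symm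
          have h4 : j ≤ m η * deg η := hdj ▸ Nat.le_mul_of_pos_left _ (Nat.pos_of_ne_zero hm0)
          omega
        exact ih j (Nat.lt_succ_of_le hjk) η η.2 hj1 x (derivedSeries_antitone G hjk hx)
      by_contra hxH
      rw [indFun_apply, indFun_apply] at hval
      have hH0 := card_subgroup_ne_zero H
      have h2 := mul_left_cancel₀ (inv_ne_zero hH0) hval
      have hone : ∀ y : G, extendByZero H (fun _ => (1 : ℂ)) (y⁻¹ * 1 * y) = 1 := fun y => by
        rw [ext_zero_of_mem _ (by simp [H.one_mem])]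
      rw [Finset.sum_congr rfl fun y _ => hone y] at h2
      have h3 : ∑ y : G, (extendByZero H (fun _ => (1 : ℂ)) (y⁻¹ * x * y)).re = ∑ _y : G, (1 : ℝ) := by
        rw [← Complex.re_sum, h2]; simp
      have hb : ∀ y ∈ (Finset.univ : Finset G),
          (extendByZero H (fun _ => (1 : ℂ)) (y⁻¹ * x * y)).re ≤ 1 := by
        intro y _
        by_cases hy : y⁻¹ * x * y ∈ H
        · rw [ext_zero_of_mem _ hy]; simp
        · rw [ext_zero_of_not_mem _ hy]; simp
      have h4 := (Finset.sum_eq_sum_iff_of_le hb).1 h3 1 (Finset.mem_univ _)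
      rw [ext_zero_of_not_mem _ (by simpa using hxH)] at h4
      simp at h4
    have hnorm : (derivedSeries G (k + 1)).Normal := derivedSeries_normal G (k + 1)
    rw [ind_one_apply, map_one, Units.val_one, indFun_apply,
      Finset.sum_congr rfl (g := fun _ => (1 : ℂ)) (fun y _ => ?_), Finset.sum_const,
      Finset.card_univ, ← Nat.card_eq_fintype_card, nsmul_eq_mul, ← H.card_mul_index, Nat.cast_mul,
      mul_assoc, inv_mul_cancel_left₀ (card_subgroup_ne_zero H)]
    have hy : y⁻¹ * g * y ∈ derivedSeries G (k + 1) := hnorm.conj_mem' g hg y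
    have key : derivedSeries G (k + 1) ≤ (MonoidHom.ker lam).map H.subtype := by
      rw [derivedSeries_succ, Subgroup.commutator_le]
      intro a ha b hb
      refine ⟨(⟨a, hD a ha⟩ : H) * ⟨b, hD b hb⟩ * (⟨a, hD a ha⟩ : H)⁻¹ * (⟨b, hD b hb⟩ : H)⁻¹, ?_, rfl⟩
      show lam ((⟨a, hD a ha⟩ : H) * ⟨b, hD b hb⟩ * (⟨a, hD a ha⟩ : H)⁻¹ * (⟨b, hD b hb⟩ : H)⁻¹) = 1
      rw [map_mul, map_mul, map_mul, map_inv, map_inv, mul_comm (lam _) (lam _), mul_inv_cancel_right,
        mul_inv_cancel]
    obtain ⟨z, hz, hze⟩ := key hy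
    rw [← hze, show H.subtype z = (z : G) from rfl, ext_zero_coe, MonoidHom.mem_ker.1 hz,
      Units.val_one]

theorem isSolvable_of_monomial
    (hM : ∀ χ : G → ℂ, IsIrrCharacter G χ →
      ∃ (H : Subgroup G) (lam : H →* ℂˣ), χ = indFun H (fun h => (lam h : ℂ))) :
    Group.IsSolvable G := by
  refine ⟨⟨Nat.card G, (Subgroup.eq_bot_iff_forall _).2 fun g hg => ?_⟩⟩
  rw [← isConj_one_left, isConj_iff_forall_irr]
  intro χ
  obtain ⟨n, -, hn, hdvd⟩ := CharBasicInt.exists_apply_one_dvd_card χ.2
  exact derivedSeries_le_ker_of_monomial hM n χ χ.2 hn g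
    (derivedSeries_antitone G (Nat.le_of_dvd Nat.card_pos hdvd) hg)

section InertiaAbelian

variable (H T : Subgroup G) [hH : H.Normal] [Fintype H] [Fintype T] {θ : H → ℂ}

/-- Induction from a normal subgroup with abelian inertia factor group. -/
theorem exists_constituents_inertia_abelian (hθ : IsIrrCharacter H θ)
    (hT : ∀ g : G, g ∈ T ↔ conjFun H θ g = θ)
    (hab : ∀ x ∈ T, ∀ y ∈ T, x * y * x⁻¹ * y⁻¹ ∈ H) :
    ∃ (e : ℕ) (C : Finset (G → ℂ)), 0 < e ∧ (∀ χ ∈ C, IsIrrCharacter G χ) ∧
      e ^ 2 * C.card = H.relIndex T ∧ indFun H θ = (e : ℂ) • ∑ χ ∈ C, χ ∧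
      ∀ χ ∈ C, χ 1 = (T.index : ℂ) * e * θ 1 := by
  classical
  have hHT : H ≤ T := fun x hx => (hT x).2 (conjFun_mem_eq H (isClassFunction_irr hθ) hx)
  have : Fintype (H.subgroupOf T) := Fintype.ofFinite _
  have hθ' := isIrrCharacter_toSubgroupOf H T hHT hθ
  have hinv : ∀ t : T, conjFun (H.subgroupOf T) (toSubgroupOf θ) t = toSubgroupOf θ := by
    intro t
    funext x
    exact congrFun ((hT t).1 t.2) ⟨(x : T), Subgroup.mem_subgroupOf.1 x.2⟩
  obtain ⟨e, C, he, hC, hcard, hind, hC'⟩ := exists_constituents_abelian_quotient (H.subgroupOf T)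
    hθ' hinv (fun x y => hab x x.2 y y.2)
  have hover : ∀ ψ ∈ C, classInner (fun n : H => ψ ⟨n, hHT n.2⟩) θ ≠ 0 := by
    intro ψ hψ
    rw [← classInner_congr_equiv (G := H) (Subgroup.subgroupOfEquivOfLe hHT)
      (fun n : H => ψ ⟨n, hHT n.2⟩) θ]
    exact ((hC' ψ hψ).2).symm ▸ Nat.cast_ne_zero.2 he.ne'
  have hinj : Set.InjOn (indFun T) (C : Set (T → ℂ)) := fun a ha b hb hab' =>
    ind_inertia_injective H T hHT hθ hT (hC a ha) (hC b hb) (hover a ha) (hover b hb) hab'
  refine ⟨e, C.image (indFun T), he, ?_, ?_, ?_, ?_⟩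
  · intro χ hχ
    obtain ⟨ψ, hψ, rfl⟩ := Finset.mem_image.1 hχ
    exact ind_inertia_irr H T hHT hθ hT (hC ψ hψ) (hover ψ hψ)
  · rw [Finset.card_image_of_injOn hinj]
    exact hcard
  · rw [← ind_trans hHT θ, hind, ind_smul, ind_sum, Finset.sum_image hinj]
  · intro χ hχ
    obtain ⟨ψ, hψ, rfl⟩ := Finset.mem_image.1 hχ
    rw [ind_one_apply, (hC' ψ hψ).1, mul_assoc]
    rfl

end InertiaAbelian

end Cfsg.Agent.CharInduced
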