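/-
Induction from normal subgroups with small inertia groups, and from normal subgroups of
groups of odd order.
-/
import Mathlib
import Cfsg.Agent.Lib.CharInducedClifford
import Cfsg.Agent.Lib.CharBasicDecomp
import Cfsg.Agent.Lib.CharBasicPerm

set_option autoImplicit false

open scoped ComplexConjugate

namespace Cfsg.Agent.CharInduced

open CharBasic CharBasicOrth CharBasicDecomp

universe u

variable {G : Type u} [Group G] (N : Subgroup G) [hN : N.Normal]

/-- If centralizers of non-trivial elements of `N` lie in `N`, only the trivial character of `N`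
is fixed by an element outside `N`. -/
theorem eq_one_of_conjFun_eq [Finite G]
    (hC : ∀ n ∈ N, n ≠ 1 → Subgroup.centralizer ({n} : Set G) ≤ N) {θ : N → ℂ}
    (hθ : IsIrrCharacter N θ) {g : G} (hg : g ∉ N) (hfix : conjFun N θ g = θ) :
    θ = fun _ => 1 := by
  have hfin : Finite (IrrCharacter N) := finite_irrCharacter
  let α : N ≃* N := MulAut.conjNormal g
  have h := CharBasicPerm.card_fixed (fun n : N => α n)
    (fun C => ConjClasses.map α.toMonoidHom C = C)
    (fun n => by rw [show ConjClasses.map α.toMonoidHom (ConjClasses.mk n) = ConjClasses.mk (α n) from rfl,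
      ConjClasses.mk_eq_mk_iff_isConj])
    (fun χ => ⟨(χ : N → ℂ) ∘ α, isIrrCharacter_comap α.toMonoidHom α.surjective χ.2⟩)
    (fun χ g => rfl)
  have hsub : Subsingleton {C : ConjClasses N // ConjClasses.map α.toMonoidHom C = C} := by
    suffices hone : ∀ C : ConjClasses N, ConjClasses.map α.toMonoidHom C = C → C = ConjClasses.mk 1 from
      ⟨fun a b => Subtype.ext ((hone a.1 a.2).trans (hone b.1 b.2).symm)⟩
    intro C hCfix
    obtain ⟨n, rfl⟩ := ConjClasses.exists_rep C
    change ConjClasses.mk (α n) = ConjClasses.mk n at hCfix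
    rw [ConjClasses.mk_eq_mk_iff_isConj, isConj_iff] at hCfix
    obtain ⟨m, hm⟩ := hCfix
    congr 1
    by_contra hn
    apply hg
    have h1 : (m : G) * (g * n * g⁻¹) * (m : G)⁻¹ = n := by
      have := congrArg Subtype.val hm
      simpa [α, MulAut.conjNormal_apply] using this
    have h2 : (m : G) * g ∈ Subgroup.centralizer ({(n : G)} : Set G) := by
      rw [Subgroup.mem_centralizer_iff]
      rintro y rfl
      conv_lhs => rw [← h1]
      group
    have h3 := hC n n.2 (fun e => hn (Subtype.ext e)) h2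
    exact (N.mul_mem_cancel_left m.2).1 h3
  have hle : Nat.card {χ : IrrCharacter N //
      (⟨(χ : N → ℂ) ∘ α, isIrrCharacter_comap α.toMonoidHom α.surjective χ.2⟩ : IrrCharacter N) = χ}
      ≤ 1 := by
    rw [← h]
    exact Finite.card_le_one_iff_subsingleton.2 hsub
  have h1 := (Finite.card_le_one_iff_subsingleton.1 hle).elim
    ⟨⟨θ, hθ⟩, Subtype.ext (by
      show θ ∘ α = θ
      conv_rhs => rw [← hfix]
      exact (conjFun_eq_comp N θ g).symm)⟩
    ⟨trivIrr N, Subtype.ext rfl⟩
  exact congrArg (fun z => ((z.1 : IrrCharacter N) : N → ℂ)) h1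

theorem isIrrCharacter_ind_of_centralizer [Fintype G]
    (hC : ∀ n ∈ N, n ≠ 1 → Subgroup.centralizer ({n} : Set G) ≤ N) {θ : N → ℂ}
    (hθ : IsIrrCharacter N θ) (h1 : θ ≠ fun _ => 1) : IsIrrCharacter G (indFun N θ) := by
  classical
  have : Fintype N := Fintype.ofFinite N
  rw [isIrrCharacter_iff]
  refine ⟨isCharacter_ind N (isCharacter_of_isIrrCharacter hθ), ?_⟩
  have hI : inertia N θ = N := by
    refine le_antisymm (fun g hg => ?_) (le_inertia N (isClassFunction_irr hθ))
    by_contra hgN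
    exact h1 (eq_one_of_conjFun_eq N hC hθ hgN hg)
  rw [classInner_ind_self N hθ, hI, div_self (Nat.cast_ne_zero.2 Nat.card_pos.ne')]

theorem exists_ind_eq_of_centralizer [Fintype G]
    (hC : ∀ n ∈ N, n ≠ 1 → Subgroup.centralizer ({n} : Set G) ≤ N) {χ : G → ℂ}
    (hχ : IsIrrCharacter G χ) (hker : ∃ n ∈ N, χ n ≠ χ 1) :
    ∃ φ : N → ℂ, IsIrrCharacter N φ ∧ χ = indFun N φ := by
  classical
  have : Fintype N := Fintype.ofFinite N
  have hcf := isClassFunction_irr hχ
  have hexp := eq_sum_classInner (isClassFunction_res N hcf)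
  by_cases hex : ∃ φ : IrrCharacter N, (φ : N → ℂ) ≠ (fun _ => 1) ∧
      classInner (fun n : N => χ n) φ ≠ 0
  · obtain ⟨φ, hφ1, hφ⟩ := hex
    refine ⟨φ, φ.2, ?_⟩
    have hirr := isIrrCharacter_ind_of_centralizer N hC φ.2 hφ1
    rw [← inner_ind_right N (φ : N → ℂ) hcf] at hφ
    by_contra hne
    exact hφ (classInner_irr_ne hχ hirr hne)
  · push Not at hex
    exfalso
    obtain ⟨n, hn, hne⟩ := hker
    apply hne
    have hc : ∀ x : N, χ x = classInner (fun n : N => χ n) (fun _ => 1) := by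
      intro x
      have h1 := congrFun hexp x
      rw [Finset.sum_apply, Finset.sum_eq_single (trivIrr N) (fun φ _ hφ => by
        rw [hex φ (fun e => hφ (Subtype.ext e)), zero_smul, Pi.zero_apply])
        (fun h => absurd (Finset.mem_univ _) h)] at h1
      simpa [trivIrr] using h1
    rw [show n = ((⟨n, hn⟩ : N) : G) from rfl, hc, show (1 : G) = ((1 : N) : G) from rfl, hc]

theorem centralizer_le_of_fpf [Finite G] (K H : Subgroup G) [K.Normal] (hKH : K ⊓ H = ⊥)
    (hKH' : K ⊔ H = ⊤) (hfpf : ∀ h ∈ H, h ≠ 1 → ∀ k ∈ K, h * k = k * h → k = 1) :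
    ∀ n ∈ K, n ≠ 1 → Subgroup.centralizer ({n} : Set G) ≤ K := by
  intro n hn hn1 g hg
  obtain ⟨k, hk, h, hh, rfl⟩ := Subgroup.mem_sup_of_normal_left.1 (hKH' ▸ Subgroup.mem_top g)
  by_contra hgK
  have h1 : h ≠ 1 := fun e => hgK (by rw [e, mul_one]; exact hk)
  -- every element of `K h` is a conjugate of `h` by an element of `K`
  let f : K → K := fun x => ⟨(x : G) * (h * (x : G)⁻¹ * h⁻¹),
    K.mul_mem x.2 (‹K.Normal›.conj_mem _ (K.inv_mem x.2) h)⟩
  have hinj : Function.Injective f := by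
    intro a b hab
    have h2 : (a : G) * (h * (a : G)⁻¹ * h⁻¹) = (b : G) * (h * (b : G)⁻¹ * h⁻¹) :=
      congrArg Subtype.val hab
    have h3 : h * ((b : G)⁻¹ * a) = ((b : G)⁻¹ * a) * h := by
      calc h * ((b : G)⁻¹ * a)
          = (b : G)⁻¹ * ((b : G) * (h * (b : G)⁻¹ * h⁻¹)) * h * a := by group
        _ = (b : G)⁻¹ * ((a : G) * (h * (a : G)⁻¹ * h⁻¹)) * h * a := by rw [h2]
        _ = ((b : G)⁻¹ * a) * h := by group
    have h4 := hfpf h hh h1 _ (K.mul_mem (K.inv_mem b.2) a.2) h3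
    exact Subtype.ext (inv_mul_eq_one.1 h4).symm
  obtain ⟨x, hx⟩ := (Finite.injective_iff_surjective.1 hinj) ⟨k, hk⟩
  have hx' : (x : G) * (h * (x : G)⁻¹ * h⁻¹) = k := congrArg Subtype.val hx
  have hcomm : n * ((x : G) * h * (x : G)⁻¹) = ((x : G) * h * (x : G)⁻¹) * n := by
    have := Subgroup.mem_centralizer_iff.1 hg n rfl
    rw [← hx'] at this
    simpa [mul_assoc] using this
  have h5 : h * ((x : G)⁻¹ * n * x) = ((x : G)⁻¹ * n * x) * h := by
    calc h * ((x : G)⁻¹ * n * x)
        = (x : G)⁻¹ * (((x : G) * h * (x : G)⁻¹) * n) * x := by group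
      _ = (x : G)⁻¹ * (n * ((x : G) * h * (x : G)⁻¹)) * x := by rw [hcomm]
      _ = ((x : G)⁻¹ * n * x) * h := by group
  have h6 := hfpf h hh h1 _ (K.mul_mem (K.mul_mem (K.inv_mem x.2) hn) x.2) h5
  apply hn1
  calc n = (x : G) * ((x : G)⁻¹ * n * x) * (x : G)⁻¹ := by group
    _ = 1 := by rw [h6]; group

end Cfsg.Agent.CharInduced
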