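import Mathlib
import Cfsg.Prelude.Def_OddOrderChar
import Cfsg.Agent.Lib.CharBasicDecomp

/-!
Toolkit for coherence: integer spans, isometries on them, signed irreducible characters, extension of isometries.
-/

set_option autoImplicit false

open scoped ComplexConjugate

namespace Cfsg.Agent.CoherenceBasic

open Cfsg.Agent.CharBasic Cfsg.Agent.CharBasicOrth Cfsg.Agent.CharBasicDecomp

universe u v

section Span

variable {X : Type u} {S T : Set (X → ℂ)} {A : Set X}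

theorem subset_zspan : S ⊆ Cfsg.zspan S := Submodule.subset_span

theorem zspan_zero : (0 : X → ℂ) ∈ Cfsg.zspan S := Submodule.zero_mem _

theorem zspan_add {a b : X → ℂ} (ha : a ∈ Cfsg.zspan S) (hb : b ∈ Cfsg.zspan S) : a + b ∈ Cfsg.zspan S :=
  Submodule.add_mem _ ha hb

theorem zspan_sub {a b : X → ℂ} (ha : a ∈ Cfsg.zspan S) (hb : b ∈ Cfsg.zspan S) : a - b ∈ Cfsg.zspan S :=
  Submodule.sub_mem _ ha hb

theorem zspan_zsmul {a : X → ℂ} (n : ℤ) (ha : a ∈ Cfsg.zspan S) : n • a ∈ Cfsg.zspan S :=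
  Submodule.smul_mem _ n ha

theorem zspan_intCast_smul {a : X → ℂ} (n : ℤ) (ha : a ∈ Cfsg.zspan S) : (n : ℂ) • a ∈ Cfsg.zspan S := by
  rw [Int.cast_smul_eq_zsmul]; exact zspan_zsmul n ha

theorem zspan_natCast_smul {a : X → ℂ} (n : ℕ) (ha : a ∈ Cfsg.zspan S) : (n : ℂ) • a ∈ Cfsg.zspan S := by
  rw [← Int.cast_natCast n]; exact zspan_intCast_smul _ ha

theorem zspan_mono (h : S ⊆ T) : Cfsg.zspan S ⊆ Cfsg.zspan T := Submodule.span_mono h

theorem zspan_induction {P : (X → ℂ) → Prop} (mem : ∀ a ∈ S, P a) (zero : P 0)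
    (add : ∀ a b, a ∈ Cfsg.zspan S → b ∈ Cfsg.zspan S → P a → P b → P (a + b))
    (smul : ∀ (n : ℤ) a, a ∈ Cfsg.zspan S → P a → P (n • a)) {a : X → ℂ} (ha : a ∈ Cfsg.zspan S) : P a :=
  Submodule.span_induction (p := fun a _ => P a) mem zero (fun a b ha hb => add a b ha hb)
    (fun n a ha => smul n a ha) ha

theorem zspanOn_sub {a b : X → ℂ} (ha : a ∈ Cfsg.zspanOn S A) (hb : b ∈ Cfsg.zspanOn S A) :
    a - b ∈ Cfsg.zspanOn S A :=
  ⟨zspan_sub ha.1 hb.1, fun x hx => by simp [ha.2 x hx, hb.2 x hx]⟩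

theorem zspanOn_add {a b : X → ℂ} (ha : a ∈ Cfsg.zspanOn S A) (hb : b ∈ Cfsg.zspanOn S A) :
    a + b ∈ Cfsg.zspanOn S A :=
  ⟨zspan_add ha.1 hb.1, fun x hx => by simp [ha.2 x hx, hb.2 x hx]⟩

theorem zspanOn_zero : (0 : X → ℂ) ∈ Cfsg.zspanOn S A := ⟨zspan_zero, fun _ _ => rfl⟩

theorem zspanOn_zsmul {a : X → ℂ} (n : ℤ) (ha : a ∈ Cfsg.zspanOn S A) : n • a ∈ Cfsg.zspanOn S A :=
  ⟨zspan_zsmul n ha.1, fun x hx => by simp [ha.2 x hx]⟩

theorem zspanOn_intCast_smul {a : X → ℂ} (n : ℤ) (ha : a ∈ Cfsg.zspanOn S A) :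
    (n : ℂ) • a ∈ Cfsg.zspanOn S A := by
  rw [Int.cast_smul_eq_zsmul]; exact zspanOn_zsmul n ha

theorem zspanOn_natCast_smul {a : X → ℂ} (n : ℕ) (ha : a ∈ Cfsg.zspanOn S A) :
    (n : ℂ) • a ∈ Cfsg.zspanOn S A := by
  rw [← Int.cast_natCast n]; exact zspanOn_intCast_smul _ ha

theorem zspanOn_mono (h : S ⊆ T) : Cfsg.zspanOn S A ⊆ Cfsg.zspanOn T A :=
  fun _ ha => ⟨zspan_mono h ha.1, ha.2⟩

theorem zspan_eq_zspanOn_univ : Cfsg.zspan S = Cfsg.zspanOn S Set.univ :=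
  Set.ext fun _ => ⟨fun h => ⟨h, fun x hx => absurd (Set.mem_univ x) hx⟩, fun h => h.1⟩

theorem mem_zspanOn_one {L : Type u} [One L] {S : Set (L → ℂ)} {a : L → ℂ} (ha : a ∈ Cfsg.zspan S)
    (h1 : a 1 = 0) : a ∈ Cfsg.zspanOn S {1}ᶜ :=
  ⟨ha, fun x hx => by
    rw [Set.mem_compl_iff, not_not, Set.mem_singleton_iff] at hx
    exact hx ▸ h1⟩

theorem apply_one_of_mem_zspanOn {L : Type u} [One L] {S : Set (L → ℂ)} {a : L → ℂ}
    (ha : a ∈ Cfsg.zspanOn S {1}ᶜ) : a 1 = 0 := ha.2 1 (by simp)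

end Span

section Isometry

variable {L : Type u} [Group L] [Fintype L] {G : Type v} [Group G] [Fintype G]
  {S : Set (L → ℂ)} {A : Set L} {τ : (L → ℂ) → (G → ℂ)}

theorem iso_map_zero (h : Cfsg.IsLinearIsometryOn (Cfsg.zspanOn S A) τ) : τ 0 = 0 := by
  have := h.2.1 0 zspanOn_zero 0
  simpa using this

theorem iso_map_intCast_smul (h : Cfsg.IsLinearIsometryOn (Cfsg.zspanOn S A) τ) (n : ℤ) {a : L → ℂ}
    (ha : a ∈ Cfsg.zspanOn S A) : τ ((n : ℂ) • a) = (n : ℂ) • τ a := by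
  rw [Int.cast_smul_eq_zsmul, Int.cast_smul_eq_zsmul]; exact h.2.1 a ha n

theorem iso_map_natCast_smul (h : Cfsg.IsLinearIsometryOn (Cfsg.zspanOn S A) τ) (n : ℕ) {a : L → ℂ}
    (ha : a ∈ Cfsg.zspanOn S A) : τ ((n : ℂ) • a) = (n : ℂ) • τ a := by
  rw [← Int.cast_natCast n]; exact iso_map_intCast_smul h _ ha

theorem iso_map_sub (h : Cfsg.IsLinearIsometryOn (Cfsg.zspanOn S A) τ) {a b : L → ℂ}
    (ha : a ∈ Cfsg.zspanOn S A) (hb : b ∈ Cfsg.zspanOn S A) : τ (a - b) = τ a - τ b := by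
  have := h.1 (a - b) (zspanOn_sub ha hb) b hb
  rw [sub_add_cancel] at this
  rw [this, add_sub_cancel_right]

theorem iso_univ (h : Cfsg.IsLinearIsometryOn (Cfsg.zspan S) τ) :
    Cfsg.IsLinearIsometryOn (Cfsg.zspanOn S Set.univ) τ := by rwa [← zspan_eq_zspanOn_univ]

theorem span_map_natCast_smul (h : Cfsg.IsLinearIsometryOn (Cfsg.zspan S) τ) (n : ℕ) {a : L → ℂ}
    (ha : a ∈ Cfsg.zspan S) : τ ((n : ℂ) • a) = (n : ℂ) • τ a :=
  iso_map_natCast_smul (iso_univ h) n (by rwa [← zspan_eq_zspanOn_univ])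

theorem span_map_sub (h : Cfsg.IsLinearIsometryOn (Cfsg.zspan S) τ) {a b : L → ℂ}
    (ha : a ∈ Cfsg.zspan S) (hb : b ∈ Cfsg.zspan S) : τ (a - b) = τ a - τ b :=
  iso_map_sub (iso_univ h) (by rwa [← zspan_eq_zspanOn_univ]) (by rwa [← zspan_eq_zspanOn_univ])

end Isometry

section Chars

variable {G : Type u} [Group G]

theorem isClassFunction_zspan [Finite G] {S : Set (G → ℂ)} (hS : ∀ χ ∈ S, Cfsg.IsCharacter G χ)
    {a : G → ℂ} (ha : a ∈ Cfsg.zspan S) : Cfsg.IsGeneralizedCharacter G a := by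
  refine zspan_induction (P := Cfsg.IsGeneralizedCharacter G) ?_ ?_ ?_ ?_ ha
  · exact fun χ hχ => isGeneralizedCharacter_of_isCharacter (hS χ hχ)
  · exact isGeneralizedCharacter_zero
  · exact fun a b _ _ h h' => isGeneralizedCharacter_add h h'
  · intro n a _ h
    rw [← Int.cast_smul_eq_zsmul ℂ]
    exact isGeneralizedCharacter_zsmul h n

theorem gen_natCast_smul {θ : G → ℂ} (h : Cfsg.IsGeneralizedCharacter G θ) (n : ℕ) :
    Cfsg.IsGeneralizedCharacter G ((n : ℂ) • θ) := by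
  rw [← Int.cast_natCast n]; exact isGeneralizedCharacter_zsmul h _

theorem conjFun_conjFun {X : Type v} (χ : X → ℂ) : Cfsg.conjFun (Cfsg.conjFun χ) = χ :=
  funext fun x => Complex.conj_conj _

theorem conjFun_isIrr [Finite G] {χ : G → ℂ} (h : Cfsg.IsIrrCharacter G χ) :
    Cfsg.IsIrrCharacter G (Cfsg.conjFun χ) := isIrrCharacter_conj h

theorem conjFun_apply_one {χ : G → ℂ} (h : Cfsg.IsCharacter G χ) : Cfsg.conjFun χ 1 = χ 1 := by
  obtain ⟨n, hn⟩ := isCharacter_apply_one h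
  simp [Cfsg.conjFun, hn]

theorem classInner_conjFun [Fintype G] (a b : G → ℂ) :
    Cfsg.classInner (Cfsg.conjFun a) (Cfsg.conjFun b) = conj (Cfsg.classInner a b) := by
  simp [Cfsg.classInner, Cfsg.conjFun]

/-- `α` is an irreducible character up to sign. -/
def SignedIrr (α : G → ℂ) : Prop := Cfsg.IsIrrCharacter G α ∨ Cfsg.IsIrrCharacter G (-α)

theorem si_gen {α : G → ℂ} (h : SignedIrr α) : Cfsg.IsGeneralizedCharacter G α := by
  rcases h with h | h
  · exact isGeneralizedCharacter_of_isCharacter (isCharacter_of_isIrrCharacter h)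
  · simpa using isGeneralizedCharacter_neg
      (isGeneralizedCharacter_of_isCharacter (isCharacter_of_isIrrCharacter h))

theorem si_self [Fintype G] {α : G → ℂ} (h : SignedIrr α) : Cfsg.classInner α α = 1 := by
  rcases h with h | h
  · exact classInner_irr_self h
  · simpa [classInner_neg_left, classInner_neg_right] using classInner_irr_self h

theorem si_apply_one_ne_zero {α : G → ℂ} (h : SignedIrr α) : α 1 ≠ 0 := by
  rcases h with h | h
  · exact isIrrCharacter_apply_one_ne_zero h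
  · simpa using isIrrCharacter_apply_one_ne_zero h

theorem si_cases [Fintype G] {α β : G → ℂ} (hα : SignedIrr α) (hβ : SignedIrr β) :
    Cfsg.classInner α β = 0 ∨ ∃ ε : ℝ, (ε = 1 ∨ ε = -1) ∧ β = (ε : ℂ) • α ∧ Cfsg.classInner α β = ε := by
  have key : ∀ α β : G → ℂ, Cfsg.IsIrrCharacter G α → Cfsg.IsIrrCharacter G β →
      Cfsg.classInner α β = 0 ∨ β = α ∧ Cfsg.classInner α β = 1 := by
    intro α β hα hβ
    by_cases h : α = β
    · exact Or.inr ⟨h.symm, h ▸ classInner_irr_self hα⟩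
    · exact Or.inl (classInner_irr_ne hα hβ h)
  rcases hα with ha | ha <;> rcases hβ with hb | hb <;> rcases key _ _ ha hb with h | ⟨h, h'⟩
  · exact Or.inl h
  · exact Or.inr ⟨1, Or.inl rfl, by simp [h], by simpa using h'⟩
  · rw [classInner_neg_right, neg_eq_zero] at h; exact Or.inl h
  · rw [classInner_neg_right, neg_eq_iff_eq_neg] at h'
    exact Or.inr ⟨-1, Or.inr rfl, by simp [← h], by simpa using h'⟩
  · rw [classInner_neg_left, neg_eq_zero] at h; exact Or.inl h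
  · rw [classInner_neg_left, neg_eq_iff_eq_neg] at h'
    exact Or.inr ⟨-1, Or.inr rfl, by simp [h], by simpa using h'⟩
  · rw [classInner_neg_left, classInner_neg_right, neg_neg] at h; exact Or.inl h
  · rw [classInner_neg_left, classInner_neg_right, neg_neg] at h'
    exact Or.inr ⟨1, Or.inl rfl, by simpa using h, by simpa using h'⟩

/-- Two orthogonal pairs of signed irreducibles whose degree-zero combinations are orthogonal are disjoint. -/
theorem four_si [Fintype G] {α β γ δ : G → ℂ} (hα : SignedIrr α) (hβ : SignedIrr β) (hγ : SignedIrr γ)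
    (hδ : SignedIrr δ) {s t u v : ℝ} (hs : s ≠ 0) (ht : t ≠ 0) (hu : u ≠ 0) (hv : v ≠ 0)
    (hab : Cfsg.classInner α β = 0) (hcd : Cfsg.classInner γ δ = 0)
    (hmix : Cfsg.classInner ((s : ℂ) • α - (t : ℂ) • β) ((u : ℂ) • γ - (v : ℂ) • δ) = 0)
    (h1 : (s : ℂ) * α 1 = (t : ℂ) * β 1) (h2 : (u : ℂ) * γ 1 = (v : ℂ) * δ 1) :
    Cfsg.classInner α γ = 0 ∧ Cfsg.classInner α δ = 0 ∧ Cfsg.classInner β γ = 0 ∧ Cfsg.classInner β δ = 0 := by
  have key : ∀ {α β γ δ : G → ℂ}, SignedIrr α → SignedIrr β → SignedIrr γ → SignedIrr δ →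
      ∀ {s t u v : ℝ}, s ≠ 0 → t ≠ 0 → u ≠ 0 → v ≠ 0 →
      Cfsg.classInner α β = 0 → Cfsg.classInner γ δ = 0 →
      Cfsg.classInner ((s : ℂ) • α - (t : ℂ) • β) ((u : ℂ) • γ - (v : ℂ) • δ) = 0 →
      (s : ℂ) * α 1 = (t : ℂ) * β 1 → (u : ℂ) * γ 1 = (v : ℂ) * δ 1 →
      Cfsg.classInner α γ = 0 := by
    intro α β γ δ hα hβ hγ hδ s t u v hs ht hu hv hab hcd hmix h1 h2
    rcases si_cases hα hγ with h | ⟨e, he, hg, hag⟩
    · exact h
    exfalso
    subst hg
    rw [classInner_smul_left] at hcd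
    have hee : (e : ℂ) ≠ 0 := by rcases he with rfl | rfl <;> norm_num
    have had : Cfsg.classInner α δ = 0 := (mul_eq_zero.mp hcd).resolve_left hee
    have hbg : Cfsg.classInner β α = 0 := by rw [← conj_classInner, hab, map_zero]
    simp only [classInner_sub_left, classInner_sub_right, classInner_smul_left, classInner_smul_right,
      si_self hα, had, hbg, Complex.conj_ofReal, mul_zero, mul_one, sub_zero, zero_sub] at hmix
    rcases si_cases hβ hδ with h | ⟨e', he', hd, hbd⟩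
    · rw [h] at hmix
      simp [hs, hu, hee] at hmix
    · subst hd
      rw [hbd] at hmix
      simp only [Pi.smul_apply, smul_eq_mul] at h2
      have ha1 := si_apply_one_ne_zero hα
      have hmix' : s * (u * e) + t * (v * e') = 0 := by
        have : ((s * (u * e) + t * (v * e') : ℝ) : ℂ) = 0 := by
          push_cast; linear_combination hmix
        exact_mod_cast this
      have h3 : (u * e * t - v * e' * s : ℝ) = 0 := by
        have : ((u * e * t - v * e' * s : ℝ) : ℂ) * α 1 = 0 := by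
          push_cast; linear_combination (t : ℂ) * h2 - (v : ℂ) * (e' : ℂ) * h1
        exact_mod_cast (mul_eq_zero.mp this).resolve_right ha1
      have e2 : e * e = 1 := by rcases he with rfl | rfl <;> norm_num
      have e2' : e' * e' = 1 := by rcases he' with rfl | rfl <;> norm_num
      have : (s * s + t * t) * (u * u + v * v) = 0 := by
        linear_combination (s * (u * e) - (-(t * (v * e')))) * hmix' + (u * e * t - v * e' * s) * h3 -
          (s * s + t * t) * u * u * e2 - (s * s + t * t) * v * v * e2'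
      rcases mul_eq_zero.mp this with h | h <;> nlinarith [mul_self_pos.mpr hs, mul_self_pos.mpr hu,
        mul_self_nonneg t, mul_self_nonneg v]
  have hba : Cfsg.classInner β α = 0 := by rw [← conj_classInner, hab, map_zero]
  have hdc : Cfsg.classInner δ γ = 0 := by rw [← conj_classInner, hcd, map_zero]
  have m1 : Cfsg.classInner ((s : ℂ) • α - (t : ℂ) • β) ((v : ℂ) • δ - (u : ℂ) • γ) = 0 := by
    rw [← neg_sub ((u : ℂ) • γ), classInner_neg_right, hmix, neg_zero]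
  have m2 : Cfsg.classInner ((t : ℂ) • β - (s : ℂ) • α) ((u : ℂ) • γ - (v : ℂ) • δ) = 0 := by
    rw [← neg_sub ((s : ℂ) • α), classInner_neg_left, hmix, neg_zero]
  have m3 : Cfsg.classInner ((t : ℂ) • β - (s : ℂ) • α) ((v : ℂ) • δ - (u : ℂ) • γ) = 0 := by
    rw [← neg_sub ((s : ℂ) • α), classInner_neg_left, m1, neg_zero]
  exact ⟨key hα hβ hγ hδ hs ht hu hv hab hcd hmix h1 h2, key hα hβ hδ hγ hs ht hv hu hab hdc m1 h1 h2.symm,
    key hβ hα hγ hδ ht hs hu hv hba hcd m2 h1.symm h2, key hβ hα hδ hγ ht hs hv hu hba hdc m3 h1.symm h2.symm⟩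

theorem si_of_norm_one [Fintype G] {θ : G → ℂ} (h : Cfsg.IsGeneralizedCharacter G θ)
    (h1 : Cfsg.classInner θ θ = 1) : SignedIrr θ := by
  obtain ⟨χ, hχ, rfl | rfl⟩ := eq_or_neg_irr_of_norm_one h h1
  · exact Or.inl hχ
  · exact Or.inr (by simpa using hχ)

theorem classInner_self_nonneg [Fintype G] (a : G → ℂ) : 0 ≤ (Cfsg.classInner a a).re := by
  rw [classInner_self_re]; positivity

theorem si_sum_of_norm_two [Fintype G] {θ : G → ℂ} (h : Cfsg.IsGeneralizedCharacter G θ)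
    (h2 : Cfsg.classInner θ θ = 2) :
    ∃ a b : G → ℂ, SignedIrr a ∧ SignedIrr b ∧ Cfsg.classInner a b = 0 ∧ θ = a + b := by
  obtain ⟨m, hm, hsum⟩ := exists_int_coeff h
  obtain ⟨ψ, hψ⟩ : ∃ ψ, m ψ ≠ 0 := by
    by_contra hno
    push Not at hno
    have h0 : θ = 0 := by rw [hsum]; exact Finset.sum_eq_zero fun ψ _ => by simp [hno ψ]
    rw [h0, classInner_zero_left] at h2
    norm_num at h2
  set θ' : G → ℂ := θ - (m ψ : ℂ) • (ψ : G → ℂ) with hθ'
  have hψg := isGeneralizedCharacter_of_isCharacter (isCharacter_of_isIrrCharacter ψ.2)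
  have hθg : Cfsg.IsGeneralizedCharacter G θ' :=
    isGeneralizedCharacter_sub h (isGeneralizedCharacter_zsmul hψg _)
  have hψθ : Cfsg.classInner (ψ : G → ℂ) θ = m ψ := by rw [← conj_classInner, hm, map_intCast]
  have hn : Cfsg.classInner θ' θ' = ((2 - m ψ * m ψ : ℤ) : ℂ) := by
    simp only [hθ', classInner_sub_left, classInner_sub_right, classInner_smul_left, classInner_smul_right,
      hm, hψθ, h2, classInner_irr_self ψ.2, map_intCast]
    push_cast; ring
  have hnn : (0 : ℤ) ≤ 2 - m ψ * m ψ := by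
    have := classInner_self_nonneg θ'
    rw [hn, Complex.intCast_re] at this
    exact_mod_cast this
  have hm1 : m ψ * m ψ = 1 := by
    have : m ψ ≤ 1 := by nlinarith
    have : -1 ≤ m ψ := by nlinarith
    rcases (show m ψ = 1 ∨ m ψ = -1 by omega) with e | e <;> rw [e] <;> rfl
  refine ⟨(m ψ : ℂ) • (ψ : G → ℂ), θ', ?_, si_of_norm_one hθg ?_, ?_, by rw [hθ']; abel⟩
  · refine si_of_norm_one (isGeneralizedCharacter_zsmul hψg _) ?_
    rw [classInner_smul_left, classInner_smul_right, classInner_irr_self ψ.2, map_intCast, mul_one]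
    exact_mod_cast hm1
  · rw [hn, hm1]; norm_num
  · simp only [hθ', classInner_smul_left, classInner_sub_right, classInner_smul_right, hψθ,
      classInner_irr_self ψ.2, map_intCast]
    ring

end Chars

section Extend

variable {L : Type u} [Group L] [Fintype L] {G : Type v} [Group G] [Fintype G]

/-- An orthogonal set with prescribed images of matching inner products gives coherence, once the pairwise
degree-zero combinations with a reference member have the right images. -/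
theorem coherent_of_pairs {S : Set (L → ℂ)} (hfin : S.Finite)
    (horth : ∀ χ ∈ S, ∀ φ ∈ S, χ ≠ φ → Cfsg.classInner χ φ = 0)
    (hne : ∀ χ ∈ S, Cfsg.classInner χ χ ≠ 0)
    {τ : (L → ℂ) → (G → ℂ)} (hτ : Cfsg.IsLinearIsometryOn (Cfsg.zspanOn S {1}ᶜ) τ)
    (f : (L → ℂ) → (G → ℂ)) (hf : ∀ χ ∈ S, Cfsg.IsGeneralizedCharacter G (f χ))
    (hiso : ∀ χ ∈ S, ∀ φ ∈ S, Cfsg.classInner (f χ) (f φ) = Cfsg.classInner χ φ)
    (d : (L → ℂ) → ℕ) (hd : ∀ χ ∈ S, χ 1 = (d χ : ℂ)) (χ₀ : L → ℂ) (h₀ : χ₀ ∈ S) (hd₀ : d χ₀ ≠ 0)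
    (h₂ : ∃ χ ∈ S, χ ≠ χ₀)
    (hpair : ∀ χ ∈ S, τ ((d χ₀ : ℂ) • χ - (d χ : ℂ) • χ₀) = (d χ₀ : ℂ) • f χ - (d χ : ℂ) • f χ₀) :
    Cfsg.IsCoherent S {1}ᶜ τ := by
  classical
  set c : ℂ := (d χ₀ : ℂ) with hc
  have hc0 : c ≠ 0 := Nat.cast_ne_zero.mpr hd₀
  have hmem : ∀ χ ∈ S, c • χ - (d χ : ℂ) • χ₀ ∈ Cfsg.zspanOn S {1}ᶜ := fun χ hχ =>
    mem_zspanOn_one (zspan_sub (zspan_natCast_smul _ (subset_zspan hχ))
      (zspan_natCast_smul _ (subset_zspan h₀))) (by simp [hd χ hχ, hd χ₀ h₀, hc, mul_comm])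
  refine ⟨?_, ?_⟩
  · obtain ⟨χ, hχ, hne'⟩ := h₂
    refine ⟨_, hmem χ hχ, fun h => ?_⟩
    have := congrArg (fun a => Cfsg.classInner a χ) h
    simp only [classInner_sub_left, classInner_smul_left, classInner_zero_left,
      horth χ₀ h₀ χ hχ (Ne.symm hne'), mul_zero, sub_zero] at this
    exact (mul_ne_zero hc0 (hne χ hχ)) this
  let F : (L → ℂ) → (G → ℂ) :=
    fun a => ∑ φ ∈ hfin.toFinset, (Cfsg.classInner a φ / Cfsg.classInner φ φ) • f φ
  have hFS : ∀ χ ∈ S, F χ = f χ := by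
    intro χ hχ
    show ∑ φ ∈ _, _ = _
    rw [Finset.sum_eq_single χ]
    · rw [div_self (hne χ hχ), one_smul]
    · intro φ hφ hφne
      rw [horth χ hχ φ (hfin.mem_toFinset.mp hφ) (Ne.symm hφne), zero_div, zero_smul]
    · exact fun h => absurd (hfin.mem_toFinset.mpr hχ) h
  have hFadd : ∀ a b, F (a + b) = F a + F b := fun a b => by
    simp only [F, classInner_add_left, add_div, add_smul, Finset.sum_add_distrib]
  have hFsmul : ∀ (n : ℤ) a, F (n • a) = n • F a := fun n a => by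
    simp only [F, ← Int.cast_smul_eq_zsmul ℂ, classInner_smul_left, Finset.smul_sum, mul_div_assoc, mul_smul]
  have hF0 : F 0 = 0 := by simp [F]
  have hgen : ∀ a ∈ Cfsg.zspan S, Cfsg.IsGeneralizedCharacter G (F a) := fun a ha => by
    refine zspan_induction (P := fun a => Cfsg.IsGeneralizedCharacter G (F a)) ?_ ?_ ?_ ?_ ha
    · intro χ hχ; rw [hFS χ hχ]; exact hf χ hχ
    · rw [hF0]; exact isGeneralizedCharacter_zero
    · intro a b _ _ h h'; rw [hFadd]; exact isGeneralizedCharacter_add h h'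
    · intro n a _ h
      rw [hFsmul, ← Int.cast_smul_eq_zsmul ℂ]; exact isGeneralizedCharacter_zsmul h n
  have hin : ∀ a ∈ Cfsg.zspan S, ∀ b ∈ Cfsg.zspan S,
      Cfsg.classInner (F a) (F b) = Cfsg.classInner a b := by
    intro a ha
    refine zspan_induction (P := fun a => ∀ b ∈ Cfsg.zspan S,
      Cfsg.classInner (F a) (F b) = Cfsg.classInner a b) ?_ ?_ ?_ ?_ ha
    · intro χ hχ b hb
      refine zspan_induction (P := fun b => Cfsg.classInner (F χ) (F b) = Cfsg.classInner χ b) ?_ ?_ ?_ ?_ hb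
      · intro φ hφ; rw [hFS χ hχ, hFS φ hφ]; exact hiso χ hχ φ hφ
      · simp [hF0]
      · intro a b _ _ h h'; rw [hFadd, classInner_add_right, classInner_add_right, h, h']
      · intro n a _ h
        rw [hFsmul, ← Int.cast_smul_eq_zsmul ℂ, ← Int.cast_smul_eq_zsmul ℂ, classInner_smul_right,
          classInner_smul_right, h]
    · intro b _; simp [hF0]
    · intro a a' _ _ h h' b hb
      rw [hFadd, classInner_add_left, classInner_add_left, h b hb, h' b hb]
    · intro n a _ h b hb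
      rw [hFsmul, ← Int.cast_smul_eq_zsmul ℂ, ← Int.cast_smul_eq_zsmul ℂ, classInner_smul_left,
        classInner_smul_left, h b hb]
  refine ⟨F, ⟨fun a _ b _ => hFadd a b, fun a _ n => hFsmul n a, hin, hgen⟩, fun a ha => ?_⟩
  have key : ∀ a ∈ Cfsg.zspan S, ∃ m : ℤ, a 1 = m ∧ c • a - (m : ℂ) • χ₀ ∈ Cfsg.zspanOn S {1}ᶜ ∧
      τ (c • a - (m : ℂ) • χ₀) = c • F a - (m : ℂ) • f χ₀ := by
    intro a ha
    refine zspan_induction (P := fun a => ∃ m : ℤ, a 1 = m ∧ c • a - (m : ℂ) • χ₀ ∈ Cfsg.zspanOn S {1}ᶜ ∧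
      τ (c • a - (m : ℂ) • χ₀) = c • F a - (m : ℂ) • f χ₀) ?_ ?_ ?_ ?_ ha
    · intro χ hχ
      refine ⟨d χ, by simpa using hd χ hχ, ?_, ?_⟩
      · simpa using hmem χ hχ
      · rw [hFS χ hχ]; simpa using hpair χ hχ
    · exact ⟨0, by simp, by simpa using zspanOn_zero, by simpa [hF0] using iso_map_zero hτ⟩
    · rintro a b - - ⟨m, hm, hm', hmt⟩ ⟨n, hn, hn', hnt⟩
      have e : c • (a + b) - ((m + n : ℤ) : ℂ) • χ₀ =
          (c • a - (m : ℂ) • χ₀) + (c • b - (n : ℂ) • χ₀) := by push_cast; module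
      refine ⟨m + n, by simp [hm, hn], e ▸ zspanOn_add hm' hn', ?_⟩
      rw [e, hτ.1 _ hm' _ hn', hmt, hnt, hFadd]; push_cast; module
    · rintro k a - ⟨m, hm, hm', hmt⟩
      have e : c • (k • a) - ((k * m : ℤ) : ℂ) • χ₀ = k • (c • a - (m : ℂ) • χ₀) := by
        rw [← Int.cast_smul_eq_zsmul ℂ k, ← Int.cast_smul_eq_zsmul ℂ k]; push_cast; module
      refine ⟨k * m, by simp [hm], e ▸ zspanOn_zsmul k hm', ?_⟩
      rw [e, hτ.2.1 _ hm' k, hmt, hFsmul, ← Int.cast_smul_eq_zsmul ℂ k, ← Int.cast_smul_eq_zsmul ℂ k]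
      push_cast; module
  obtain ⟨m, hm, -, hmt⟩ := key a ha.1
  rw [apply_one_of_mem_zspanOn ha] at hm
  rw [← hm, zero_smul, zero_smul, sub_zero, sub_zero, iso_map_natCast_smul hτ _ ha] at hmt
  exact (smul_right_injective (G → ℂ) hc0 hmt).symm

end Extend

end Cfsg.Agent.CoherenceBasic
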