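import Mathlib
import Cfsg.Agent.Lib.CharInducedAbelianQuot
import Cfsg.Agent.Lib.CharInducedFrob
import Cfsg.Agent.Lib.CoherenceBasic
import Cfsg.Agent.S0161

/-!
Characters of a group `X` with a normal subgroup `K` such that the elements with a fixed point
on `K` commute modulo `K`.
-/

set_option autoImplicit false
set_option linter.unusedSectionVars false

open scoped ComplexConjugate Classical

namespace Cfsg.Agent.PF12Ind

open Cfsg.Agent.CharBasic Cfsg.Agent.CharBasicOrth Cfsg.Agent.CharBasicDecomp Cfsg.Agent.CharInduced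

universe u

variable {X : Type u} [Group X] [Fintype X] (K : Subgroup X) [hKn : K.Normal]

/-- `g` fixes a nontrivial element of `K`. -/
def HasFix (g : X) : Prop := ∃ n ∈ K, n ≠ 1 ∧ g * n = n * g

/-- `χ` lies over `θ`. -/
def Over (θ : K → ℂ) (χ : X → ℂ) : Prop := Cfsg.classInner (fun n : K => χ n) θ ≠ 0

/-- `K` lies in the kernel of `χ`. -/
def TrivOn (χ : X → ℂ) : Prop := ∀ n ∈ K, χ n = χ 1

omit [Fintype X] in
theorem hasFix_coset [Finite X] {g m : X} (hm : m ∈ K) (h : HasFix K (m * g)) : HasFix K g := by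
  by_contra hg
  obtain ⟨n, hn, hn1, hc⟩ := h
  let f : K → K := fun x => ⟨(x : X) * (g * (x : X)⁻¹ * g⁻¹),
    K.mul_mem x.2 (hKn.conj_mem _ (K.inv_mem x.2) g)⟩
  have hinj : Function.Injective f := by
    intro a b hab
    have h2 : (a : X) * (g * (a : X)⁻¹ * g⁻¹) = (b : X) * (g * (b : X)⁻¹ * g⁻¹) :=
      congrArg Subtype.val hab
    by_contra hne
    refine hg ⟨(b : X)⁻¹ * a, K.mul_mem (K.inv_mem b.2) a.2, fun e => hne ?_, ?_⟩
    · exact Subtype.ext (inv_mul_eq_one.1 e).symm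
    · calc g * ((b : X)⁻¹ * a)
          = (b : X)⁻¹ * ((b : X) * (g * (b : X)⁻¹ * g⁻¹)) * g * a := by group
        _ = (b : X)⁻¹ * ((a : X) * (g * (a : X)⁻¹ * g⁻¹)) * g * a := by rw [h2]
        _ = ((b : X)⁻¹ * a) * g := by group
  obtain ⟨x, hx⟩ := (Finite.injective_iff_surjective.1 hinj) ⟨m, hm⟩
  have hx' : (x : X) * (g * (x : X)⁻¹ * g⁻¹) = m := congrArg Subtype.val hx
  refine hg ⟨(x : X)⁻¹ * n * x, by simpa using hKn.conj_mem _ hn (x : X)⁻¹, ?_, ?_⟩
  · intro e
    apply hn1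
    calc n = (x : X) * ((x : X)⁻¹ * n * x) * (x : X)⁻¹ := by group
      _ = 1 := by rw [e]; group
  · rw [← hx'] at hc
    calc g * ((x : X)⁻¹ * n * x)
        = (x : X)⁻¹ * ((x : X) * (g * (x : X)⁻¹ * g⁻¹) * g * n) * x := by group
      _ = (x : X)⁻¹ * (n * ((x : X) * (g * (x : X)⁻¹ * g⁻¹) * g)) * x := by rw [hc]
      _ = ((x : X)⁻¹ * n * x) * g := by group

omit [Fintype X] in
/-- An element fixing a nontrivial irreducible character of `K` fixes a nontrivial element of `K`. -/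
theorem hasFix_of_fixed [Finite X] {θ : K → ℂ} (hθ : Cfsg.IsIrrCharacter K θ) (h1 : θ ≠ fun _ => 1)
    {g : X} (hfix : CharInduced.conjFun K θ g = θ) : HasFix K g := by
  by_contra hg
  apply h1
  have hfin : Finite (Cfsg.IrrCharacter K) := finite_irrCharacter
  let α : K ≃* K := MulAut.conjNormal g
  have h := CharBasicPerm.card_fixed (fun n : K => α n)
    (fun C => ConjClasses.map α.toMonoidHom C = C)
    (fun n => by rw [show ConjClasses.map α.toMonoidHom (ConjClasses.mk n) = ConjClasses.mk (α n) from rfl,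
      ConjClasses.mk_eq_mk_iff_isConj])
    (fun χ => ⟨(χ : K → ℂ) ∘ α, isIrrCharacter_comap α.toMonoidHom α.surjective χ.2⟩)
    (fun χ g => rfl)
  have hsub : Subsingleton {C : ConjClasses K // ConjClasses.map α.toMonoidHom C = C} := by
    suffices hone : ∀ C : ConjClasses K, ConjClasses.map α.toMonoidHom C = C → C = ConjClasses.mk 1 from
      ⟨fun a b => Subtype.ext ((hone a.1 a.2).trans (hone b.1 b.2).symm)⟩
    intro C hCfix
    obtain ⟨n, rfl⟩ := ConjClasses.exists_rep C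
    change ConjClasses.mk (α n) = ConjClasses.mk n at hCfix
    rw [ConjClasses.mk_eq_mk_iff_isConj, isConj_iff] at hCfix
    obtain ⟨m, hm⟩ := hCfix
    congr 1
    by_contra hn
    have e1 : (m : X) * (g * n * g⁻¹) * (m : X)⁻¹ = n := by
      have := congrArg Subtype.val hm
      simpa [α, MulAut.conjNormal_apply] using this
    refine hg (hasFix_coset K m.2 ⟨n, n.2, fun e => hn (Subtype.ext e), ?_⟩)
    conv_rhs => rw [← e1]
    group
  have hle : Nat.card {χ : Cfsg.IrrCharacter K //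
      (⟨(χ : K → ℂ) ∘ α, isIrrCharacter_comap α.toMonoidHom α.surjective χ.2⟩ : Cfsg.IrrCharacter K) = χ}
      ≤ 1 := by
    rw [← h]
    exact Finite.card_le_one_iff_subsingleton.2 hsub
  have h2 := (Finite.card_le_one_iff_subsingleton.1 hle).elim
    ⟨⟨θ, hθ⟩, Subtype.ext (by
      show θ ∘ α = θ
      conv_rhs => rw [← hfix]
      exact (conjFun_eq_comp K θ g).symm)⟩
    ⟨trivIrr K, Subtype.ext rfl⟩
  exact congrArg (fun z => ((z.1 : Cfsg.IrrCharacter K) : K → ℂ)) h2

theorem over_ind {θ : K → ℂ} (hθ : Cfsg.IsIrrCharacter K θ) {χ : X → ℂ} (hχ : Cfsg.IsIrrCharacter X χ) :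
    Cfsg.classInner (Cfsg.indFun K θ) χ = Cfsg.classInner (fun n : K => χ n) θ := by
  rw [inner_ind_left K θ (isClassFunction_irr hχ), classInner_comm_of_isCharacter
    (isCharacter_of_isIrrCharacter hθ) (isCharacter_res K (isCharacter_of_isIrrCharacter hχ))]

theorem not_over_of_trivOn {χ : X → ℂ} (ht : TrivOn K χ) {θ : K → ℂ} (hθ : Cfsg.IsIrrCharacter K θ)
    (h1 : θ ≠ fun _ => 1) : ¬ Over K θ χ := by
  intro h
  apply h
  have e : (fun n : K => χ n) = χ 1 • fun _ : K => (1 : ℂ) := by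
    funext n; simp [ht n n.2]
  rw [e, CharBasicOrth.classInner_smul_left, classInner_irr_ne isIrrCharacter_one hθ h1.symm, mul_zero]

theorem principal_eq_zero {χ : X → ℂ} (hχ : Cfsg.IsIrrCharacter X χ) (ht : ¬ TrivOn K χ) :
    Cfsg.classInner (fun n : K => χ n) (fun _ => 1) = 0 := by
  by_contra h
  apply ht
  have horb : orbitFin K (fun _ : K => (1 : ℂ)) = {fun _ => 1} := by
    refine Finset.eq_singleton_iff_unique_mem.2 ⟨self_mem_orbitFin K _, fun φ hφ => ?_⟩
    obtain ⟨g, rfl⟩ := (mem_orbitFin K).1 hφ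
    rfl
  have h2 := clifford K hχ isIrrCharacter_one h
  rw [horb, Finset.sum_singleton] at h2
  intro n hn
  have e1 := congrFun h2 ⟨n, hn⟩
  have e2 := congrFun h2 1
  simp only [Pi.smul_apply, OneMemClass.coe_one] at e1 e2
  rw [e1, e2]

theorem exists_over {χ : X → ℂ} (hχ : Cfsg.IsIrrCharacter X χ) (ht : ¬ TrivOn K χ) :
    ∃ θ : K → ℂ, Cfsg.IsIrrCharacter K θ ∧ θ ≠ (fun _ => 1) ∧ Over K θ χ := by
  by_contra hno
  push Not at hno
  have h := congrFun (eq_sum_classInner (isClassFunction_res K (isClassFunction_irr hχ))) 1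
  rw [Finset.sum_apply, Finset.sum_eq_zero (fun θ _ => ?_)] at h
  · exact isIrrCharacter_apply_one_ne_zero hχ h
  · rcases eq_or_ne (θ : K → ℂ) (fun _ => 1) with e | e
    · rw [e, principal_eq_zero K hχ ht, zero_smul]; rfl
    · rw [show Cfsg.classInner (fun n : K => χ n) θ = 0 from not_not.1 (hno θ θ.2 e), zero_smul]; rfl

theorem trivOn_of_not {χ : X → ℂ} {θ : K → ℂ} (hθ : Cfsg.IsIrrCharacter K θ)
    (h1 : θ ≠ fun _ => 1) (h : Over K θ χ) : ¬ TrivOn K χ := fun ht => not_over_of_trivOn K ht hθ h1 h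

section abelian

variable (hab : ∀ x y : X, HasFix K x → HasFix K y → x * y * x⁻¹ * y⁻¹ ∈ K)

include hab

/-- Two constituents over the same character have the same degree. -/
theorem over_apply_one {θ : K → ℂ} (hθ : Cfsg.IsIrrCharacter K θ) (h1 : θ ≠ fun _ => 1)
    {χ χ' : X → ℂ} (hχ : Cfsg.IsIrrCharacter X χ) (hχ' : Cfsg.IsIrrCharacter X χ')
    (h : Over K θ χ) (h' : Over K θ χ') : χ 1 = χ' 1 := by
  have hfix : ∀ x ∈ inertia K θ, HasFix K x := fun x hx => hasFix_of_fixed K hθ h1 hx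
  obtain ⟨e, C, -, hC, -, hind, hdeg⟩ := exists_constituents_inertia_abelian K (inertia K θ) hθ
    (fun g => Iff.rfl) (fun x hx y hy => hab x y (hfix x hx) (hfix y hy))
  have hmem : ∀ η : X → ℂ, Cfsg.IsIrrCharacter X η → Over K θ η → η ∈ C := by
    intro η hη hηo
    by_contra hn
    apply hηo
    rw [← over_ind K hθ hη, hind, CharBasicOrth.classInner_smul_left, CharBasicOrth.classInner_sum_left,
      Finset.sum_eq_zero fun ξ hξ => classInner_irr_ne (hC ξ hξ) hη (fun e' => hn (e' ▸ hξ)), mul_zero]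
  rw [hdeg χ (hmem χ hχ h), hdeg χ' (hmem χ' hχ' h')]

/-- A linear character of `K` that extends to its inertia group has all multiplicities one. -/
theorem over_linear {U : Subgroup X} (hU : Subgroup.IsComplement' K U) (l : K →* ℂˣ)
    (h1 : (fun k => (l k : ℂ)) ≠ fun _ => 1) {χ : X → ℂ} (hχ : Cfsg.IsIrrCharacter X χ)
    (h : Over K (fun k => (l k : ℂ)) χ) :
    Cfsg.classInner (fun n : K => χ n) (fun k => (l k : ℂ)) = 1 := by
  set θ : K → ℂ := fun k => (l k : ℂ) with hθdef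
  have hθ : Cfsg.IsIrrCharacter K θ := isIrrCharacter_linear l
  set T := inertia K θ with hTdef
  have hKT : K ≤ T := le_inertia K (isClassFunction_irr hθ)
  have hfix : ∀ x ∈ T, HasFix K x := fun x hx => hasFix_of_fixed K hθ h1 hx
  obtain ⟨e, C, -, hC, -, hind, hdeg⟩ := exists_constituents_inertia_abelian K T hθ
    (fun g => Iff.rfl) (fun x hx y hy => hab x y (hfix x hx) (hfix y hy))
  have hex : ∀ x : X, ∃ k : K, ∃ v ∈ U, x = k * v := by
    intro x
    obtain ⟨⟨k, v⟩, e⟩ := hU.2 x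
    exact ⟨k, v, v.2, e.symm⟩
  choose kp vp hvp hx using hex
  have huniq : ∀ (x : X) (k : K) (v : X), v ∈ U → x = k * v → kp x = k := by
    intro x k v hv hkv
    have := hU.1 (a₁ := (kp x, ⟨vp x, hvp x⟩)) (a₂ := (k, ⟨v, hv⟩))
      (show (kp x : X) * vp x = k * v by rw [← hx, hkv])
    exact (Prod.ext_iff.1 this).1
  have hvT : ∀ t ∈ T, vp t ∈ T := by
    intro t ht
    have : vp t = (kp t : X)⁻¹ * t := eq_inv_mul_of_mul_eq (hx t).symm
    rw [this]
    exact T.mul_mem (hKT (K.inv_mem (kp t).2)) ht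
  have hmul : ∀ a b : T, l (kp ((a * b : T) : X)) = l (kp a) * l (kp b) := by
    intro a b
    have hc : vp a * (kp b : X) * (vp a)⁻¹ ∈ K := hKn.conj_mem _ (kp b).2 _
    rw [huniq _ (kp a * ⟨_, hc⟩) (vp a * vp b) (U.mul_mem (hvp a) (hvp b)) (by
      rw [Subgroup.coe_mul, Subgroup.coe_mul]
      conv_lhs => rw [hx (a : X), hx (b : X)]
      group), map_mul]
    congr 1
    refine Units.ext ?_
    exact congrFun ((mem_inertia K).1 (hvT a a.2)) (kp b)
  let lam : T →* ℂˣ := MonoidHom.mk' (fun t => l (kp t)) hmul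
  have hres : (fun n : K => ((lam ⟨n, hKT n.2⟩ : ℂˣ) : ℂ)) = θ := by
    funext n
    show (l (kp (n : X)) : ℂ) = l n
    rw [huniq n n 1 U.one_mem (mul_one _).symm]
  have hlam : Cfsg.IsIrrCharacter T (fun t => (lam t : ℂ)) := isIrrCharacter_linear lam
  have ho : Cfsg.classInner (fun n : K => ((lam ⟨n, hKT n.2⟩ : ℂˣ) : ℂ)) θ ≠ 0 := by
    rw [hres, classInner_irr_self hθ]; exact one_ne_zero
  have hη := ind_inertia_irr K T hKT hθ (fun g => Iff.rfl) hlam ho
  set η := Cfsg.indFun T (fun t => (lam t : ℂ)) with hηdef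
  have hc : Cfsg.classInner (fun t : T => η t) (fun t => (lam t : ℂ)) ≠ 0 := by
    rw [← inner_ind_right T _ (isClassFunction_irr hη), classInner_irr_self hη]
    exact one_ne_zero
  have hm : Cfsg.classInner (fun n : K => η n) θ = 1 := by
    rw [(ind_inertia_eq K T hKT hθ (fun g => Iff.rfl) hlam ho hη hc).2]
    show Cfsg.classInner (fun n : K => ((lam ⟨n, hKT n.2⟩ : ℂˣ) : ℂ)) θ = 1
    rw [hres, classInner_irr_self hθ]
  have hcoef : ∀ ξ : X → ℂ, Cfsg.IsIrrCharacter X ξ →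
      Cfsg.classInner (fun n : K => ξ n) θ = (e : ℂ) * if ξ ∈ C then 1 else 0 := by
    intro ξ hξ
    rw [← over_ind K hθ hξ, hind, CharBasicOrth.classInner_smul_left, CharBasicOrth.classInner_sum_left]
    congr 1
    split_ifs with hξC
    · rw [Finset.sum_eq_single_of_mem ξ hξC fun ζ hζ hne => classInner_irr_ne (hC ζ hζ) hξ hne,
        classInner_irr_self hξ]
    · exact Finset.sum_eq_zero fun ζ hζ => classInner_irr_ne (hC ζ hζ) hξ fun e' => hξC (e' ▸ hζ)
  have he1 : (e : ℂ) = 1 := by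
    have := hcoef η hη
    rw [hm] at this
    split_ifs at this
    · simpa using this.symm
    · simp at this
  have h2 := hcoef χ hχ
  rw [he1, one_mul] at h2
  split_ifs at h2
  · exact h2
  · exact absurd h2 h

/-- A combination of the characters not trivial on `K`, constant on the constituents over each
character of `K`, vanishes off `K`. -/
theorem sum_nontriv_eq_zero (a : Cfsg.IrrCharacter X → ℂ)
    (ha : ∀ θ : K → ℂ, Cfsg.IsIrrCharacter K θ → θ ≠ (fun _ => 1) → ∀ χ χ' : Cfsg.IrrCharacter X,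
      Over K θ χ → Over K θ χ' → a χ = a χ') {y : X} (hy : y ∉ K) :
    ∑ χ : Cfsg.IrrCharacter X, (if TrivOn K (χ : X → ℂ) then 0 else a χ * (χ : X → ℂ) y) = 0 := by
  set E := (Finset.univ : Finset (Cfsg.IrrCharacter K)).erase (trivIrr K) with hE
  have hne : ∀ θ ∈ E, (θ : K → ℂ) ≠ fun _ => 1 := fun θ hθ h =>
    Finset.ne_of_mem_erase hθ (Subtype.ext h)
  have key : ∀ θ ∈ E, ∑ χ : Cfsg.IrrCharacter X,
      (θ : K → ℂ) 1 * (a χ / (χ : X → ℂ) 1 *
        (Cfsg.classInner (fun n : K => (χ : X → ℂ) n) θ * (χ : X → ℂ) y)) = 0 := by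
    intro θ hθ
    by_cases hc : ∃ χ₀ : Cfsg.IrrCharacter X, Over K θ χ₀
    · obtain ⟨χ₀, hχ₀⟩ := hc
      have : ∀ χ : Cfsg.IrrCharacter X,
          a χ / (χ : X → ℂ) 1 * (Cfsg.classInner (fun n : K => (χ : X → ℂ) n) θ * (χ : X → ℂ) y) =
            a χ₀ / (χ₀ : X → ℂ) 1 * (Cfsg.classInner (Cfsg.indFun K θ) χ * (χ : X → ℂ) y) := by
        intro χ
        rw [over_ind K θ.2 χ.2]
        by_cases h : Over K θ χ
        · rw [ha θ θ.2 (hne θ hθ) χ χ₀ h hχ₀, over_apply_one K hab θ.2 (hne θ hθ) χ.2 χ₀.2 h hχ₀]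
        · rw [show Cfsg.classInner (fun n : K => (χ : X → ℂ) n) θ = 0 from not_not.1 h]; simp
      rw [← Finset.mul_sum, Finset.sum_congr rfl fun χ _ => this χ, ← Finset.mul_sum]
      have h2 := congrFun (eq_sum_classInner (isClassFunction_ind K (θ : K → ℂ))) y
      simp only [Finset.sum_apply, Pi.smul_apply, smul_eq_mul] at h2
      rw [← h2, ind_normal_eq_zero K _ hy, mul_zero, mul_zero]
    · push Not at hc
      refine Finset.sum_eq_zero fun χ _ => ?_
      rw [show Cfsg.classInner (fun n : K => (χ : X → ℂ) n) θ = 0 from not_not.1 (hc χ)]; simp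
  have hsum := Finset.sum_eq_zero key
  rw [Finset.sum_comm] at hsum
  refine Eq.trans ?_ hsum
  refine Finset.sum_congr rfl fun χ _ => ?_
  split_ifs with ht
  · symm
    refine Finset.sum_eq_zero fun θ hθ => ?_
    rw [show Cfsg.classInner (fun n : K => (χ : X → ℂ) n) θ = 0 from
      not_not.1 (not_over_of_trivOn K ht θ.2 (hne θ hθ))]
    simp
  · have h3 := congrFun (eq_sum_classInner (isClassFunction_res K (isClassFunction_irr χ.2))) 1
    simp only [Finset.sum_apply, Pi.smul_apply, smul_eq_mul, OneMemClass.coe_one] at h3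
    rw [← Finset.add_sum_erase _ _ (Finset.mem_univ (trivIrr K)),
      show Cfsg.classInner (fun n : K => (χ : X → ℂ) n) ((trivIrr K : Cfsg.IrrCharacter K) : K → ℂ) = 0
        from principal_eq_zero K χ.2 ht, zero_mul, zero_add] at h3
    have h1 := isIrrCharacter_apply_one_ne_zero χ.2
    rw [Finset.sum_congr rfl (g := fun θ : Cfsg.IrrCharacter K => a χ / (χ : X → ℂ) 1 * (χ : X → ℂ) y *
      (Cfsg.classInner (fun n : K => (χ : X → ℂ) n) θ * (θ : K → ℂ) 1)) fun θ _ => by ring,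
      ← Finset.mul_sum, ← h3]
    field_simp

end abelian

/-- A character not trivial on `K` vanishes at elements without fixed points on `K`. -/
theorem eq_zero_of_not_hasFix {χ : X → ℂ} (hχ : Cfsg.IsIrrCharacter X χ) (ht : ¬ TrivOn K χ) {y : X}
    (hy : ¬ HasFix K y) : χ y = 0 := by
  let P : Cfsg.IrrCharacter X → Prop := fun η => TrivOn K (η : X → ℂ)
  have hall : ∑ η : Cfsg.IrrCharacter X, (η : X → ℂ) y * conj ((η : X → ℂ) y) =
      (Nat.card (Subgroup.centralizer ({y} : Set X)) : ℂ) := by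
    rw [sum_irr_mul_conj, if_pos (IsConj.refl _)]
  have hq : ∑ η : {η : Cfsg.IrrCharacter X // P η}, (η.1 : X → ℂ) y * conj ((η.1 : X → ℂ) y) =
      (Nat.card (Subgroup.centralizer ({(y : X ⧸ K)} : Set (X ⧸ K))) : ℂ) := by
    refine Eq.trans ?_ ((Fintype.sum_equiv (CharKernel.quotEquiv K)
      (fun ψ : Cfsg.IrrCharacter (X ⧸ K) => (ψ : X ⧸ K → ℂ) (y : X ⧸ K) * conj ((ψ : X ⧸ K → ℂ) (y : X ⧸ K)))
      (fun η : {η : Cfsg.IrrCharacter X // P η} => (η.1 : X → ℂ) y * conj ((η.1 : X → ℂ) y))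
      (fun ψ => rfl)).symm.trans ?_)
    · exact Finset.sum_congr (Finset.ext fun z => iff_of_true (@Finset.mem_univ _ (_) z) (@Finset.mem_univ _ (_) z)) fun _ _ => rfl
    rw [sum_irr_mul_conj, if_pos (IsConj.refl _)]
  have hle : Nat.card (Subgroup.centralizer ({y} : Set X)) ≤
      Nat.card (Subgroup.centralizer ({(y : X ⧸ K)} : Set (X ⧸ K))) := by
    refine Nat.card_le_card_of_injective
      (fun c => ⟨((c : X) : X ⧸ K), Subgroup.mem_centralizer_singleton_iff.2 ?_⟩) ?_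
    · rw [← QuotientGroup.mk_mul, ← QuotientGroup.mk_mul,
        Subgroup.mem_centralizer_singleton_iff.1 c.2]
    · intro a b hab
      have h1 : (a : X)⁻¹ * b ∈ K := QuotientGroup.eq.1 (congrArg Subtype.val hab)
      by_contra hne
      refine hy ⟨(a : X)⁻¹ * b, h1, fun e => hne (Subtype.ext (inv_mul_eq_one.1 e)), ?_⟩
      have h2 := ((Subgroup.centralizer ({y} : Set X)).mul_mem (inv_mem a.2) b.2)
      exact (Subgroup.mem_centralizer_singleton_iff.1 h2).symm
  let f : Cfsg.IrrCharacter X → ℝ := fun η => ‖(η : X → ℂ) y‖ ^ 2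
  have hf : ∀ η : Cfsg.IrrCharacter X, (η : X → ℂ) y * conj ((η : X → ℂ) y) = (f η : ℂ) := fun η => by
    rw [Complex.mul_conj']; simp [f]
  simp only [hf, ← Complex.ofReal_sum] at hall hq
  have hall' : ∑ η, f η = (Nat.card (Subgroup.centralizer ({y} : Set X)) : ℝ) := by exact_mod_cast hall
  have hq' : ∑ η : {η : Cfsg.IrrCharacter X // P η}, f η.1 =
      (Nat.card (Subgroup.centralizer ({(y : X ⧸ K)} : Set (X ⧸ K))) : ℝ) := by exact_mod_cast hq
  have hs : ∑ η : {η : Cfsg.IrrCharacter X // P η}, f η.1 + ∑ η : {η : Cfsg.IrrCharacter X // ¬ P η}, f η.1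
      = ∑ η, f η := Fintype.sum_subtype_add_sum_subtype P f
  have h0 : f ⟨χ, hχ⟩ ≤ ∑ η : {η : Cfsg.IrrCharacter X // ¬ P η}, f η.1 :=
    Finset.single_le_sum (f := fun η : {η : Cfsg.IrrCharacter X // ¬ P η} => f η.1)
      (fun η _ => sq_nonneg _) (Finset.mem_univ ⟨⟨χ, hχ⟩, ht⟩)
  have hle' : (Nat.card (Subgroup.centralizer ({y} : Set X)) : ℝ) ≤
      (Nat.card (Subgroup.centralizer ({(y : X ⧸ K)} : Set (X ⧸ K))) : ℝ) := by exact_mod_cast hle
  have : f ⟨χ, hχ⟩ ≤ 0 := by linarith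
  simpa [f] using le_antisymm this (sq_nonneg _)

/-- In odd order the conjugate of a character over `θ` does not lie over `θ`. -/
theorem not_over_conj (hodd : Odd (Nat.card X)) {θ : K → ℂ} (hθ : Cfsg.IsIrrCharacter K θ)
    (h1 : θ ≠ fun _ => 1) {χ : X → ℂ} (hχ : Cfsg.IsIrrCharacter X χ) (h : Over K θ χ) :
    ¬ Over K θ (Cfsg.conjFun χ) := by
  intro h'
  have hb : Over K (Cfsg.conjFun θ) χ := by
    intro e
    apply h'
    have := CoherenceBasic.classInner_conjFun (fun n : K => χ n) (Cfsg.conjFun θ)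
    rw [CoherenceBasic.conjFun_conjFun, e, map_zero] at this
    exact this
  obtain ⟨g, hg⟩ := (mem_orbitFin K).1
    (mem_orbit_of_constituents K hχ hθ (CoherenceBasic.conjFun_isIrr hθ) h hb)
  have h2 : g * g ∈ inertia K θ := by
    rw [mem_inertia, ← CharInduced.conjFun_conjFun K θ g g, hg]
    funext n
    have := congrArg (starRingEnd ℂ) (congrFun hg n)
    simpa [Cfsg.conjFun, CharInduced.conjFun] using this
  have hgi : g ∈ inertia K θ := by
    obtain ⟨m, hm⟩ := (Odd.of_dvd_nat hodd (orderOf_dvd_natCard g))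
    have : (g * g) ^ (m + 1) = g := by
      rw [← pow_two, ← pow_mul, show 2 * (m + 1) = orderOf g + 1 by omega, pow_succ,
        pow_orderOf_eq_one, one_mul]
    rw [← this]
    exact pow_mem h2 _
  rw [(mem_inertia K).1 hgi] at hg
  refine h1 (S0161.real_eq_one (hodd.of_dvd_nat K.card_subgroup_dvd_card) hθ fun n => ?_)
  rw [isCharacter_inv (isCharacter_of_isIrrCharacter hθ)]
  exact (congrFun hg n).symm

end Cfsg.Agent.PF12Ind
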