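import Cfsg.Agent.Lib.DadeMap
import Cfsg.Agent.Lib.CharInducedTI

/-!
The Dade map sends generalized characters supported on `A` to generalized characters.

For a nonempty `B ⊆ A` let `hB B` be the intersection of the `H b`, `nB B` the stabiliser of `B` in `L`.  Toggling
`a` in the sets `B` stabilised by `a` shows that the alternating sum over all `B` of the functions induced from
`nB B * hB B` telescopes to `|L|` times the Dade image.
-/

set_option autoImplicit false

open scoped Classical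

namespace Cfsg.Agent.DadeGenChar

open Cfsg.Agent.CharBasic Cfsg.Agent.CharBasicDecomp

universe u

variable {G : Type u} [Group G] [Finite G] {A : Set G} {L : Subgroup G} {H : G → Subgroup G}

theorem mem_H_of_coprime (hD : Cfsg.DadeHypothesis A L H) {a : G} (ha : a ∈ A) {x : G} (hxa : x * a = a * x)
    (hc : Nat.Coprime (orderOf x) (Nat.card ↥(L ⊓ Subgroup.centralizer ({a} : Set G)))) : x ∈ H a := by
  obtain ⟨h, hh, l, hlL, hla, rfl⟩ := DadeMap.exists_decomp hD ha hxa
  have hl : l ∈ L ⊓ Subgroup.centralizer ({a} : Set G) :=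
    ⟨hlL, Subgroup.mem_centralizer_singleton_iff.mpr hla⟩
  set C := L ⊓ Subgroup.centralizer ({a} : Set G) with hC
  have hpw : ∀ n : ℕ, ∃ h' ∈ H a, (l * h) ^ n = l ^ n * h' := by
    intro n
    induction n with
    | zero => exact ⟨1, one_mem _, by simp⟩
    | succ n ih =>
      obtain ⟨h', hh', e⟩ := ih
      refine ⟨(l⁻¹ * h' * l) * h, mul_mem ?_ hh, ?_⟩
      · simpa using hD.conj_mem_H a ha l⁻¹ (inv_mem hl.2) h' hh'
      · rw [pow_succ, e, pow_succ]; group
  obtain ⟨h', hh', e⟩ := hpw (Nat.card C)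
  rw [orderOf_dvd_iff_pow_eq_one.mp (Subgroup.orderOf_dvd_natCard C hl), one_mul] at e
  obtain ⟨m, hm⟩ := exists_pow_eq_self_of_coprime hc.symm
  rw [← hm, e]
  exact pow_mem hh' m

/-- Pairs counted on the two sides of the coset lemma. -/
def Fib (a : G) (K : Subgroup G) (g : G) : Type u := {y : G // a⁻¹ * (y * g * y⁻¹) ∈ K}

/-- `|C_K(a)| * #(conjugators into a K) = |K| * #(conjugators into a C_K(a))`. -/
theorem card_fib (a : G) (K : Subgroup G) (g : G) (hn : a ∈ Subgroup.normalizer (K : Set G))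
    (hcop : Nat.Coprime (orderOf a) (Nat.card K)) :
    Nat.card ↥(K ⊓ Subgroup.centralizer ({a} : Set G)) * Nat.card (Fib a K g) =
      Nat.card K * Nat.card (Fib a (K ⊓ Subgroup.centralizer ({a} : Set G)) g) := by
  set C := K ⊓ Subgroup.centralizer ({a} : Set G) with hC
  have hCa : ∀ c ∈ C, c * a = a * c := fun c hc => Subgroup.mem_centralizer_singleton_iff.mp hc.2
  have hsurj : ∀ z : Fib a K g, ∃ k ∈ K, a⁻¹ * ((k * z.1) * g * (k * z.1)⁻¹) ∈ C := by
    rintro ⟨z, hz⟩
    have h' : z * g * z⁻¹ * a⁻¹ ∈ K := by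
      have := (Subgroup.mem_normalizer_iff.mp hn _).mp hz
      simpa [mul_assoc] using this
    obtain ⟨x, hx, c, hc, hca, e⟩ := OddCharGroup.coset_conj K a hn hcop _ h'
    refine ⟨x, hx, ?_⟩
    have e' : a⁻¹ * ((x * z) * g * (x * z)⁻¹) = c := by
      calc a⁻¹ * ((x * z) * g * (x * z)⁻¹) = a⁻¹ * (x * (z * g * z⁻¹ * a⁻¹ * a) * x⁻¹) := by group
        _ = a⁻¹ * (c * a) := by rw [e]
        _ = c := by rw [hca]; group
    rw [e']
    exact ⟨hc, Subgroup.mem_centralizer_singleton_iff.mpr hca⟩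
  choose r hrK hr using hsurj
  have hcz : ∀ (c : ↥C) (z : Fib a K g),
      a⁻¹ * (((c : G) * r z * z.1) * g * ((c : G) * r z * z.1)⁻¹) ∈ C := by
    intro c z
    set u := a⁻¹ * ((r z * z.1) * g * (r z * z.1)⁻¹) with hu
    have e : a⁻¹ * (((c : G) * r z * z.1) * g * ((c : G) * r z * z.1)⁻¹) = (c : G) * u * (c : G)⁻¹ := by
      calc _ = a⁻¹ * (c : G) * a * u * (c : G)⁻¹ := by rw [hu]; group
        _ = _ := by rw [mul_assoc a⁻¹ (c : G) a, hCa c c.2]; group
    rw [e]
    exact mul_mem (mul_mem c.2 (hr z)) (inv_mem c.2)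
  let f : ↥C × Fib a K g → ↥K × Fib a C g := fun p =>
    (⟨(p.1 : G) * r p.2, mul_mem p.1.2.1 (hrK p.2)⟩, ⟨(p.1 : G) * r p.2 * p.2.1, hcz p.1 p.2⟩)
  have hf : Function.Bijective f := by
    constructor
    · rintro ⟨c, z⟩ ⟨c', z'⟩ e
      have e1 : (c : G) * r z = c' * r z' := congrArg Subtype.val (congrArg Prod.fst e)
      have e2 : (c : G) * r z * z.1 = c' * r z' * z'.1 := congrArg Subtype.val (congrArg Prod.snd e)
      rw [← e1] at e2
      have hz : z = z' := Subtype.ext (mul_left_cancel e2)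
      subst hz
      exact Prod.ext (Subtype.ext (mul_right_cancel e1)) rfl
    · rintro ⟨⟨k, hk⟩, ⟨y, hy⟩⟩
      set c₁ := a⁻¹ * (y * g * y⁻¹) with hc₁
      have hmem : a⁻¹ * ((k⁻¹ * y) * g * (k⁻¹ * y)⁻¹) ∈ K := by
        have e : a⁻¹ * ((k⁻¹ * y) * g * (k⁻¹ * y)⁻¹) = (a⁻¹ * k⁻¹ * (a⁻¹)⁻¹) * c₁ * k := by
          rw [hc₁]; group
        rw [e]
        exact mul_mem (mul_mem ((Subgroup.mem_normalizer_iff.mp (inv_mem hn) _).mp (inv_mem hk)) hy.1) hk
      let z : Fib a K g := ⟨k⁻¹ * y, hmem⟩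
      set c₂ := a⁻¹ * ((r z * z.1) * g * (r z * z.1)⁻¹) with hc₂
      set w := k * (r z)⁻¹ with hw
      have hwK : w ∈ K := mul_mem hk (inv_mem (hrK z))
      have e1 : y = w * (r z * z.1) := by
        show y = k * (r z)⁻¹ * (r z * (k⁻¹ * y))
        group
      have e2 : a * c₁ = w * (a * c₂) * w⁻¹ := by
        rw [hc₁, hc₂]
        calc a * (a⁻¹ * (y * g * y⁻¹)) = y * g * y⁻¹ := by group
          _ = _ := by rw [e1]; group
      obtain ⟨n, hn1, hn2⟩ := OddCharGroup.exists_exponent hcop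
      have key : ∀ u ∈ C, (a * u) ^ n = a := fun u hu => by
        rw [← hCa u hu]
        exact OddCharGroup.mul_pow_exponent (hCa u hu) hn1
          ((Subgroup.orderOf_dvd_natCard _ hu.1).trans hn2)
      have e3 := congrArg (· ^ n) e2
      simp only [conj_pow, key c₁ hy, key c₂ (hr z)] at e3
      have hwC : w ∈ C :=
        ⟨hwK, Subgroup.mem_centralizer_singleton_iff.mpr (mul_inv_eq_iff_eq_mul.mp e3.symm)⟩
      refine ⟨(⟨w, hwC⟩, z), Prod.ext (Subtype.ext ?_) (Subtype.ext ?_)⟩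
      · show w * r z = k
        rw [hw]; group
      · show w * r z * z.1 = y
        rw [mul_assoc]; exact e1.symm
  have := Nat.card_congr (Equiv.ofBijective f hf)
  rwa [Nat.card_prod, Nat.card_prod] at this

variable (A L H) in
/-- The intersection of the `H b`, `b ∈ B`. -/
def hB (B : Finset G) : Subgroup G := ⨅ b ∈ B, H b

omit [Finite G] in
theorem mem_hB {B : Finset G} {x : G} : x ∈ hB H B ↔ ∀ b ∈ B, x ∈ H b := by
  simp [hB, Subgroup.mem_iInf]

/-- Conjugation of finite subsets. -/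
noncomputable def cj (x : G) (B : Finset G) : Finset G := B.map (MulAut.conj x).toEquiv.toEmbedding

omit [Finite G] in
theorem mem_cj {x : G} {B : Finset G} {y : G} : y ∈ cj x B ↔ x⁻¹ * y * x ∈ B := by
  simp only [cj, Finset.mem_map, Equiv.coe_toEmbedding]
  constructor
  · rintro ⟨b, hb, rfl⟩
    simpa [mul_assoc] using hb
  · intro h
    exact ⟨_, h, by simp [mul_assoc]⟩

omit [Finite G] in
theorem cj_one (B : Finset G) : cj (1 : G) B = B := by
  ext y; simp [mem_cj]

omit [Finite G] in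
theorem cj_mul (x y : G) (B : Finset G) : cj (x * y) B = cj x (cj y B) := by
  ext z; simp [mem_cj, mul_assoc]

variable (L) in
/-- The stabiliser of `B` in `L`, as a subgroup of `G`. -/
def nB (B : Finset G) : Subgroup G where
  carrier := {x | x ∈ L ∧ cj x B = B}
  one_mem' := ⟨one_mem L, cj_one B⟩
  mul_mem' := fun {x y} hx hy => ⟨mul_mem hx.1 hy.1, by rw [cj_mul, hy.2, hx.2]⟩
  inv_mem' := fun {x} hx => ⟨inv_mem hx.1, by conv_lhs => rw [← hx.2, ← cj_mul, inv_mul_cancel, cj_one]⟩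

variable (hD : Cfsg.DadeHypothesis A L H)
include hD


theorem conj_mem_hB {B : Finset G} (hBA : ↑B ⊆ A) {x : G} (hx : x ∈ L) {u : G} (hu : u ∈ hB H B) :
    x * u * x⁻¹ ∈ hB H (cj x B) := by
  refine mem_hB.mpr fun b hb => ?_
  rw [mem_cj] at hb
  have := DadeMap.conj_mem_H_conj hD (hBA hb) hx (mem_hB.mp hu _ hb)
  rwa [show x * (x⁻¹ * b * x) * x⁻¹ = b by group] at this

theorem nB_le_normalizer {B : Finset G} (hBA : ↑B ⊆ A) :
    nB L B ≤ Subgroup.normalizer (hB H B : Set G) := by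
  intro x hx
  rw [Subgroup.mem_normalizer_iff]
  refine fun u => ⟨fun hu => ?_, fun hu => ?_⟩
  · have := conj_mem_hB hD hBA hx.1 hu
    rwa [hx.2] at this
  · have hx' := (nB L B).inv_mem hx
    have := conj_mem_hB hD hBA hx'.1 hu
    rw [hx'.2] at this
    simpa [mul_assoc] using this

omit [Finite G] in
theorem eq_one_of_mem_hB {B : Finset G} (hBA : ↑B ⊆ A) (hne : B.Nonempty) {u : G} (hu : u ∈ hB H B)
    (huL : u ∈ L) : u = 1 := by
  obtain ⟨b, hb⟩ := hne
  exact DadeMap.eq_one_of_mem_H_of_mem hD (hBA hb) (mem_hB.mp hu b hb) huL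

/-- `nB B * hB B`. -/
theorem exists_decompB {B : Finset G} (hBA : ↑B ⊆ A) {m : G} (hm : m ∈ nB L B ⊔ hB H B) :
    ∃ l ∈ nB L B, l⁻¹ * m ∈ hB H B := by
  rw [← SetLike.mem_coe,
    Subgroup.coe_mul_of_left_le_normalizer_right (nB L B) (hB H B) (nB_le_normalizer hD hBA)] at hm
  obtain ⟨l, hl, h, hh, rfl⟩ := hm
  exact ⟨l, hl, by simpa using hh⟩

omit [Finite G] in
theorem unique_decompB {B : Finset G} (hBA : ↑B ⊆ A) (hne : B.Nonempty) {m l l' : G} (hl : l ∈ nB L B)
    (hl' : l' ∈ nB L B) (h : l⁻¹ * m ∈ hB H B) (h' : l'⁻¹ * m ∈ hB H B) : l = l' := by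
  have := eq_one_of_mem_hB hD hBA hne (u := l⁻¹ * l')
    (by simpa [mul_assoc] using mul_mem h (inv_mem h')) (mul_mem (inv_mem hl.1) hl'.1)
  exact inv_mul_eq_one.mp this

theorem card_sup {B : Finset G} (hBA : ↑B ⊆ A) (hne : B.Nonempty) :
    Nat.card ↥(nB L B ⊔ hB H B) = Nat.card (nB L B) * Nat.card (hB H B) := by
  rw [← Nat.card_prod]
  symm
  refine Nat.card_congr (Equiv.ofBijective (fun p : ↥(nB L B) × ↥(hB H B) =>
    (⟨(p.1 : G) * p.2, mul_mem (Subgroup.mem_sup_left p.1.2) (Subgroup.mem_sup_right p.2.2)⟩ :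
      ↥(nB L B ⊔ hB H B))) ⟨?_, ?_⟩)
  · rintro ⟨l, h⟩ ⟨l', h'⟩ e
    have e' : (l : G) * h = l' * h' := congrArg Subtype.val e
    have hll := unique_decompB hD hBA hne (m := (l : G) * h) l.2 l'.2 (by simp) (by rw [e']; simp)
    rw [hll] at e'
    exact Prod.ext (Subtype.ext hll) (Subtype.ext (mul_left_cancel e'))
  · rintro ⟨m, hm⟩
    obtain ⟨l, hl, hlm⟩ := exists_decompB hD hBA hm
    exact ⟨(⟨l, hl⟩, ⟨_, hlm⟩), Subtype.ext (by simp)⟩

/-- The projection to `L`. -/
noncomputable def proj {B : Finset G} (hBA : ↑B ⊆ A) (hne : B.Nonempty) : ↥(nB L B ⊔ hB H B) →* ↥L where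
  toFun m := ⟨(exists_decompB hD hBA m.2).choose, (exists_decompB hD hBA m.2).choose_spec.1.1⟩
  map_one' := Subtype.ext (unique_decompB hD hBA hne (m := 1) (exists_decompB hD hBA (one_mem _)).choose_spec.1
    (one_mem _) (exists_decompB hD hBA (one_mem _)).choose_spec.2 (by simp))
  map_mul' := fun m n => Subtype.ext <| by
    obtain ⟨hl, hlm⟩ := (exists_decompB hD hBA m.2).choose_spec
    obtain ⟨hk, hkn⟩ := (exists_decompB hD hBA n.2).choose_spec
    obtain ⟨hj, hjmn⟩ := (exists_decompB hD hBA (m * n).2).choose_spec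
    refine unique_decompB hD hBA hne (m := (m : G) * n) hj (mul_mem hl hk) hjmn ?_
    set l := (exists_decompB hD hBA m.2).choose
    set k := (exists_decompB hD hBA n.2).choose
    have h1 := (Subgroup.mem_normalizer_iff.mp (nB_le_normalizer hD hBA ((nB L B).inv_mem hk)) _).mp hlm
    have := mul_mem h1 hkn
    simpa [mul_assoc] using this

omit [Finite G] in
theorem proj_eq [Finite G] {B : Finset G} (hBA : ↑B ⊆ A) (hne : B.Nonempty) (m : ↥(nB L B ⊔ hB H B)) {l : G}
    (hl : l ∈ nB L B) (h : l⁻¹ * (m : G) ∈ hB H B) : (proj hD hBA hne m : G) = l :=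
  unique_decompB hD hBA hne (exists_decompB hD hBA m.2).choose_spec.1 hl
    (exists_decompB hD hBA m.2).choose_spec.2 h

omit hD in
/-- `|hB B| ⁻¹ ∑ α a #{y : y g y⁻¹ ∈ a hB B}`, `a` over the stabiliser of `B`. -/
noncomputable def tB (H : G → Subgroup G) {L : Subgroup G} [Fintype L] (α : ↥L → ℂ) (B : Finset G) (g : G) : ℂ :=
  ∑ a : ↥L, if cj (a : G) B = B then
    α a * ((Nat.card (hB H B) : ℂ)⁻¹ * (Nat.card (Fib (a : G) (hB H B) g) : ℂ)) else 0

omit hD [Finite G] in
theorem natCard_fib [Fintype G] (a : G) (K : Subgroup G) (g : G) :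
    (Nat.card (Fib a K g) : ℂ) = ∑ y : G, if a⁻¹ * (y * g * y⁻¹) ∈ K then 1 else 0 := by
  rw [Finset.sum_boole, show Nat.card (Fib a K g) = Nat.card {y : G // a⁻¹ * (y * g * y⁻¹) ∈ K} from rfl,
    Nat.card_eq_fintype_card, Fintype.card_subtype]

theorem ind_eq_tB [Fintype G] [Fintype L] {α : ↥L → ℂ} {B : Finset G} (hBA : ↑B ⊆ A) (hne : B.Nonempty) :
    (Nat.card (nB L B) : ℂ) • Cfsg.indFun (nB L B ⊔ hB H B) (α ∘ proj hD hBA hne) = tB H α B := by
  funext g
  have hext : ∀ y : G, Cfsg.extendByZero (nB L B ⊔ hB H B) (α ∘ proj hD hBA hne) y =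
      ∑ a : ↥L, if cj (a : G) B = B ∧ (a : G)⁻¹ * y ∈ hB H B then α a else 0 := by
    intro y
    by_cases hy : y ∈ nB L B ⊔ hB H B
    · obtain ⟨l, hl, hly⟩ := exists_decompB hD hBA hy
      have e1 : Cfsg.extendByZero (nB L B ⊔ hB H B) (α ∘ proj hD hBA hne) y = α ⟨l, hl.1⟩ := by
        show Function.extend Subtype.val (α ∘ proj hD hBA hne) 0 y = _
        rw [show y = ((⟨y, hy⟩ : ↥(nB L B ⊔ hB H B)) : G) from rfl,
          Subtype.val_injective.extend_apply]
        exact congrArg α (Subtype.ext (proj_eq hD hBA hne ⟨y, hy⟩ hl hly))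
      rw [e1, Finset.sum_eq_single (⟨l, hl.1⟩ : ↥L)]
      · rw [if_pos ⟨hl.2, hly⟩]
      · rintro a - hne'
        exact if_neg fun h => hne' (Subtype.ext (unique_decompB hD hBA hne ⟨a.2, h.1⟩ hl h.2 hly))
      · exact fun h => absurd (Finset.mem_univ _) h
    · rw [show Cfsg.extendByZero (nB L B ⊔ hB H B) (α ∘ proj hD hBA hne) y = 0 from
        Function.extend_apply' _ _ _ fun ⟨m, hm⟩ => hy (hm ▸ m.2)]
      refine (Finset.sum_eq_zero fun a _ => if_neg fun h => hy ?_).symm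
      have := mul_mem (Subgroup.mem_sup_left (T := hB H B) (show (a : G) ∈ nB L B from ⟨a.2, h.1⟩))
        (Subgroup.mem_sup_right (S := nB L B) h.2)
      simpa using this
  rw [Pi.smul_apply, smul_eq_mul, Cfsg.indFun, card_sup hD hBA hne]
  have hn : (Nat.card (nB L B) : ℂ) ≠ 0 := Nat.cast_ne_zero.mpr Nat.card_pos.ne'
  rw [Nat.cast_mul, mul_inv, ← mul_assoc, ← mul_assoc, mul_inv_cancel₀ hn, one_mul, Finset.mul_sum]
  simp only [hext, Finset.mul_sum]
  rw [Finset.sum_comm, tB]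
  refine Finset.sum_congr rfl fun a _ => ?_
  by_cases ha : cj (a : G) B = B
  · rw [if_pos ha, natCard_fib, Finset.mul_sum, Finset.mul_sum]
    refine Fintype.sum_equiv (Equiv.inv G) _ _ fun x => ?_
    simp only [ha, true_and, Equiv.inv_apply, inv_inv]
    split_ifs <;> ring
  · rw [if_neg ha]
    exact Finset.sum_eq_zero fun x _ => by simp [ha]

theorem tB_conj [Fintype L] {α : ↥L → ℂ} (hα : Cfsg.IsClassFunction ↥L α) {B : Finset G} (hBA : ↑B ⊆ A)
    (l : ↥L) (g : G) : tB H α (cj (l : G) B) g = tB H α B g := by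
  have hmap : hB H (cj (l : G) B) = (hB H B).map (MulAut.conj (l : G)).toMonoidHom := by
    refine le_antisymm ?_ ?_
    · intro u hu
      refine ⟨(l : G)⁻¹ * u * l, ?_, by simp [mul_assoc]⟩
      have hcA : ↑(cj (l : G) B) ⊆ A := by
        intro y hy
        have := hD.conj_mem (l : G) l.2 _ (hBA (mem_cj.mp hy))
        simpa [mul_assoc] using this
      have := conj_mem_hB hD hcA (inv_mem l.2) hu
      simpa [← cj_mul, cj_one] using this
    · rintro _ ⟨u, hu, rfl⟩
      exact conj_mem_hB hD hBA l.2 hu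
  symm
  unfold tB
  refine Fintype.sum_equiv (MulAut.conj l).toEquiv _ _ fun a => ?_
  have hst : cj ((l * a * l⁻¹ : ↥L) : G) (cj (l : G) B) = cj (l : G) B ↔ cj (a : G) B = B := by
    rw [← cj_mul, show ((l * a * l⁻¹ : ↥L) : G) * l = l * a by simp, cj_mul]
    exact (Finset.map_injective _).eq_iff
  show _ = if cj ((l * a * l⁻¹ : ↥L) : G) (cj (l : G) B) = cj (l : G) B then _ else 0
  by_cases ha : cj (a : G) B = B
  · rw [if_pos ha, if_pos (hst.mpr ha)]
    simp only [MulEquiv.toEquiv_eq_coe, MulEquiv.coe_toEquiv, MulAut.conj_apply]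
    rw [hα a l, hmap, Subgroup.card_map_of_injective (MulAut.conj (l : G)).injective]
    congr 3
    refine Nat.card_congr (Equiv.subtypeEquiv (Equiv.mulLeft (l : G)) fun y => ?_)
    show (a : G)⁻¹ * (y * g * y⁻¹) ∈ hB H B ↔ _
    rw [← Subgroup.mem_map_iff_mem (f := (MulAut.conj (l : G)).toMonoidHom) (MulAut.conj (l : G)).injective (K := hB H B)]
    simp only [MulEquiv.coe_toMonoidHom, MulAut.conj_apply, Equiv.coe_mulLeft, Subgroup.coe_mul,
      Subgroup.coe_inv]
    rw [show ((l : G) * a * (l : G)⁻¹)⁻¹ * ((l : G) * y * g * ((l : G) * y)⁻¹) =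
      (l : G) * ((a : G)⁻¹ * (y * g * y⁻¹)) * (l : G)⁻¹ by group]
  · rw [if_neg ha, if_neg (fun h => ha (hst.mp h))]

theorem hB_insert {B : Finset G} (hBA : ↑B ⊆ A) (hne : B.Nonempty) {a : G} (ha : a ∈ A) :
    hB H (insert a B) = hB H B ⊓ Subgroup.centralizer ({a} : Set G) := by
  ext x
  rw [Subgroup.mem_inf, mem_hB, mem_hB]
  refine ⟨fun h => ⟨fun b hb => h b (Finset.mem_insert_of_mem hb),
    hD.le_centralizer a ha (h a (Finset.mem_insert_self a B))⟩, fun h b hb => ?_⟩
  rcases Finset.mem_insert.mp hb with rfl | hb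
  · obtain ⟨c, hc⟩ := hne
    exact mem_H_of_coprime hD ha (Subgroup.mem_centralizer_singleton_iff.mp h.2)
      ((hD.coprime c (hBA hc) b ha).coprime_dvd_left (Subgroup.orderOf_dvd_natCard _ (h.1 c hc)))
  · exact h.1 b hb

theorem weight_insert {B : Finset G} (hBA : ↑B ⊆ A) (hne : B.Nonempty) {a : G} (ha : a ∈ A)
    (hst : cj a B = B) (g : G) :
    (Nat.card (hB H (insert a B)) : ℂ)⁻¹ * (Nat.card (Fib a (hB H (insert a B)) g) : ℂ) =
      (Nat.card (hB H B) : ℂ)⁻¹ * (Nat.card (Fib a (hB H B) g) : ℂ) := by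
  obtain ⟨c, hc⟩ := hne
  have hn := nB_le_normalizer hD hBA (show a ∈ nB L B from ⟨hD.subset ha, hst⟩)
  have hle : hB H B ≤ H c := fun x hx => mem_hB.mp hx c hc
  have hcop : Nat.Coprime (orderOf a) (Nat.card (hB H B)) :=
    ((hD.coprime c (hBA hc) a ha).coprime_dvd_left (Subgroup.card_dvd_of_le hle)).symm.coprime_dvd_left
      (Subgroup.orderOf_dvd_natCard (L ⊓ Subgroup.centralizer ({a} : Set G))
        ⟨hD.subset ha, Subgroup.mem_centralizer_singleton_iff.mpr rfl⟩)
  have h := card_fib a (hB H B) g hn hcop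
  rw [← hB_insert hD hBA ⟨c, hc⟩ ha] at h
  have h1 : (Nat.card (hB H (insert a B)) : ℂ) ≠ 0 := Nat.cast_ne_zero.mpr Nat.card_pos.ne'
  have h2 : (Nat.card (hB H B) : ℂ) ≠ 0 := Nat.cast_ne_zero.mpr Nat.card_pos.ne'
  have h' := congrArg (fun n : ℕ => (n : ℂ)) h
  push_cast at h'
  field_simp
  linear_combination -h'

omit [Finite G] in
theorem sum_single [Fintype G] [Fintype L] {α : ↥L → ℂ} (hα : Cfsg.IsClassFunction ↥L α) (g : G) :
    ∑ a : ↥L, (if (a : G) ∈ A then
      α a * ((Nat.card (H (a : G)) : ℂ)⁻¹ * (Nat.card (Fib (a : G) (H (a : G)) g) : ℂ)) else 0) =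
      (Nat.card L : ℂ) * Cfsg.dadeIsometry A L H α g := by
  simp only [natCard_fib, Finset.mul_sum]
  have hpairs : ∑ a : ↥L, (if (a : G) ∈ A then ∑ y : G, α a * ((Nat.card (H (a : G)) : ℂ)⁻¹ *
      (if (a : G)⁻¹ * (y * g * y⁻¹) ∈ H (a : G) then 1 else 0)) else 0) =
      ∑ p : ↥L × G, if (p.1 : G) ∈ A ∧ (p.1 : G)⁻¹ * (p.2 * g * p.2⁻¹) ∈ H (p.1 : G) then
        α p.1 * (Nat.card (H (p.1 : G)) : ℂ)⁻¹ else 0 := by
    rw [Fintype.sum_prod_type]
    refine Finset.sum_congr rfl fun a _ => ?_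
    by_cases h : (a : G) ∈ A
    · rw [if_pos h]
      refine Finset.sum_congr rfl fun y _ => ?_
      simp only [h, true_and]
      split_ifs <;> ring
    · rw [if_neg h]
      exact (Finset.sum_eq_zero fun y _ => if_neg fun hh => h hh.1).symm
  rw [hpairs]
  by_cases hg : DadeMap.InSupport A L H g
  · obtain ⟨a₀, ha₀, x₀, u₀, hu₀, e₀⟩ := hg
    have hconst : ∀ p : ↥L × G, (p.1 : G) ∈ A → (p.1 : G)⁻¹ * (p.2 * g * p.2⁻¹) ∈ H (p.1 : G) →
        α p.1 * (Nat.card (H (p.1 : G)) : ℂ)⁻¹ = α a₀ * (Nat.card (H (a₀ : G)) : ℂ)⁻¹ := by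
      rintro ⟨a, x⟩ ha hx
      obtain ⟨l, hl, hla⟩ := DadeMap.conj_of_coset_conj hD ha₀ ha hu₀ hx (g := x * x₀⁻¹)
        (by rw [← e₀]; group)
      have e : a = ⟨l, hl⟩ * a₀ * ⟨l, hl⟩⁻¹ := Subtype.ext hla.symm
      rw [show Nat.card (H (a : G)) = Nat.card (H (a₀ : G)) by rw [← hla, DadeMap.card_H_conj hD ha₀ hl], e, hα]
    rw [Finset.sum_congr rfl (g := fun p : ↥L × G =>
      if (p.1 : G) ∈ A ∧ (p.1 : G)⁻¹ * (p.2 * g * p.2⁻¹) ∈ H (p.1 : G) then
        α a₀ * (Nat.card (H (a₀ : G)) : ℂ)⁻¹ else 0) fun p _ => by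
      split_ifs with h
      · exact hconst p h.1 h.2
      · rfl]
    have hcard := DadeMap.card_pairs hD a₀ ha₀ hu₀ e₀
    rw [Nat.card_eq_fintype_card, Fintype.card_subtype] at hcard
    rw [← Finset.sum_filter, Finset.sum_const, hcard, nsmul_eq_mul,
      DadeMap.dade_apply hD hα a₀ ha₀ hu₀ e₀, Nat.cast_mul]
    have h0 : (Nat.card (H (a₀ : G)) : ℂ) ≠ 0 := Nat.cast_ne_zero.mpr Nat.card_pos.ne'
    field_simp
  · rw [DadeMap.dade_eq_zero hg, mul_zero]
    refine Finset.sum_eq_zero fun p _ => if_neg fun h => hg ?_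
    exact ⟨p.1, h.1, p.2, _, h.2, by group⟩

variable (A) in
omit hD in
/-- Nonempty subsets of `A`. -/
abbrev Sub : Type u := {B : Finset G // B.Nonempty ∧ ↑B ⊆ A}

omit hD in
theorem sub_finite : Finite (Sub A) := by
  have : Fintype G := Fintype.ofFinite G
  unfold Sub
  infer_instance

omit [Finite G] in
theorem sum_toggle [Fintype G] [Fintype L] [Fintype (Sub A)] {α : ↥L → ℂ} (hα : Cfsg.IsClassFunction ↥L α)
    (hαA : ∀ x : ↥L, (x : G) ∉ A → α x = 0) (g : G) :
    ∑ B : Sub A, (-1 : ℂ) ^ (B.1.card + 1) * tB H α B.1 g =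
      (Nat.card L : ℂ) * Cfsg.dadeIsometry A L H α g := by
  rw [← sum_single hD hα g]
  simp only [tB, Finset.mul_sum]
  rw [Finset.sum_comm]
  refine Finset.sum_congr rfl fun a _ => ?_
  by_cases ha : (a : G) ∈ A
  swap
  · rw [if_neg ha]
    exact Finset.sum_eq_zero fun B _ => by simp [hαA a ha]
  rw [if_pos ha]
  let s : Sub A := ⟨{(a : G)}, Finset.singleton_nonempty _, by simpa using ha⟩
  have hs : cj (a : G) ({(a : G)} : Finset G) = {(a : G)} := by simp [cj]
  have hHs : hB H ({(a : G)} : Finset G) = H (a : G) := by simp [hB]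
  rw [← Finset.add_sum_erase _ _ (Finset.mem_univ s)]
  conv_lhs => rw [show (s.1 : Finset G) = {(a : G)} from rfl, if_pos hs, hHs]
  rw [Finset.card_singleton, show ((-1 : ℂ) ^ (1 + 1)) = 1 by norm_num, one_mul, add_eq_left]
  -- the involution
  let φ : ∀ B ∈ Finset.univ.erase s, Sub A := fun B hB' =>
    if h : (a : G) ∈ B.1 then ⟨B.1.erase (a : G), by
      obtain ⟨b, hb, hba⟩ : ∃ b ∈ B.1, b ≠ (a : G) := by
        by_contra hno
        push Not at hno
        refine (Finset.mem_erase.mp hB').1 (Subtype.ext ?_)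
        exact Finset.eq_singleton_iff_unique_mem.mpr ⟨h, hno⟩
      exact ⟨⟨b, Finset.mem_erase.mpr ⟨hba, hb⟩⟩, fun y hy => B.2.2 (Finset.mem_of_mem_erase hy)⟩⟩
    else ⟨insert (a : G) B.1, Finset.insert_nonempty _ _, by
      rw [Finset.coe_insert]; exact Set.insert_subset ha B.2.2⟩
  have hst : ∀ B : Finset G, cj (a : G) (insert (a : G) B) = insert (a : G) (cj (a : G) B) := by
    intro B; simp [cj]
  refine Finset.sum_involution φ ?_ ?_ ?_ ?_
  · intro B hB'
    by_cases h : (a : G) ∈ B.1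
    · have hne : (B.1.erase (a : G)).Nonempty := by
        have := (φ B hB').2.1
        simp only [φ, dif_pos h] at this
        exact this
      have hsub : ↑(B.1.erase (a : G)) ⊆ A := fun y hy => B.2.2 (Finset.mem_of_mem_erase hy)
      have hiff : cj (a : G) (B.1.erase (a : G)) = B.1.erase (a : G) ↔ cj (a : G) B.1 = B.1 := by
        constructor
        · intro e
          conv_lhs => rw [← Finset.insert_erase h]
          rw [hst, e, Finset.insert_erase h]
        · intro e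
          ext y
          simp only [mem_cj, Finset.mem_erase]
          have h2 : (a : G)⁻¹ * y * a ∈ B.1 ↔ y ∈ B.1 := by
            conv_rhs => rw [← e, mem_cj]
          rw [h2]
          refine and_congr_left fun _ => not_congr ⟨fun h' => ?_, fun h' => by rw [h']; group⟩
          have : y = (a : G) * ((a : G)⁻¹ * y * a) * (a : G)⁻¹ := by group
          rw [this, h']; group
      simp only [φ, dif_pos h]
      by_cases e : cj (a : G) B.1 = B.1
      · rw [if_pos e, if_pos (hiff.mpr e), ← weight_insert hD hsub hne ha (hiff.mpr e) g,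
          Finset.insert_erase h]
        rw [show B.1.card = (B.1.erase (a : G)).card + 1 by rw [Finset.card_erase_add_one h], pow_succ]
        ring
      · rw [if_neg e, if_neg (fun h' => e (hiff.mp h'))]; simp
    · have hiff : cj (a : G) (insert (a : G) B.1) = insert (a : G) B.1 ↔ cj (a : G) B.1 = B.1 := by
        rw [hst]
        constructor
        · intro e
          have h' : (a : G) ∉ cj (a : G) B.1 := by
            rw [mem_cj, show (a : G)⁻¹ * a * a = a by group]; exact h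
          rw [← Finset.erase_insert h', e, Finset.erase_insert h]
        · intro e; rw [e]
      simp only [φ, dif_neg h]
      by_cases e : cj (a : G) B.1 = B.1
      · rw [if_pos e, if_pos (hiff.mpr e), weight_insert hD B.2.2 B.2.1 ha e g,
          Finset.card_insert_of_notMem h, pow_succ (-1 : ℂ) (B.1.card + 1)]
        ring
      · rw [if_neg e, if_neg (fun h' => e (hiff.mp h'))]; simp
  · intro B hB' _ e
    have e' := congrArg Subtype.val e
    by_cases h : (a : G) ∈ B.1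
    · simp only [φ, dif_pos h] at e'
      rw [← e'] at h
      simp at h
    · simp only [φ, dif_neg h] at e'
      exact h (e' ▸ Finset.mem_insert_self _ _)
  · intro B hB'
    refine Finset.mem_erase.mpr ⟨fun e => ?_, Finset.mem_univ _⟩
    have e' : (φ B hB').1 = {(a : G)} := congrArg Subtype.val e
    by_cases h : (a : G) ∈ B.1
    · simp only [φ, dif_pos h] at e'
      have := e'.symm ▸ Finset.mem_singleton_self (a : G)
      simp at this
    · simp only [φ, dif_neg h] at e'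
      obtain ⟨b, hb⟩ := B.2.1
      exact h (Finset.mem_singleton.mp (e' ▸ Finset.mem_insert_of_mem hb) ▸ hb)
  · intro B hB'
    by_cases h : (a : G) ∈ B.1
    · simp only [φ, dif_pos h, Finset.mem_erase, ne_eq, not_true_eq_false, false_and, dite_false]
      exact Subtype.ext (Finset.insert_erase h)
    · simp only [φ, dif_neg h, Finset.mem_insert_self, dite_true]
      exact Subtype.ext (Finset.erase_insert h)

omit [Finite G] in
/-- The Dade image of a generalized character supported on `A` is a generalized character. -/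
theorem dade_gen [Fintype G] [Fintype L] {α : ↥L → ℂ} (hα : Cfsg.IsGeneralizedCharacter ↥L α)
    (hαA : ∀ x : ↥L, (x : G) ∉ A → α x = 0) :
    Cfsg.IsGeneralizedCharacter G (Cfsg.dadeIsometry A L H α) := by
  have hcl := isClassFunction_of_isGeneralizedCharacter hα
  have := sub_finite (G := G) (A := A)
  have : Fintype (Sub A) := Fintype.ofFinite _
  let _ : MulAction ↥L (Sub A) :=
    { smul := fun l B => ⟨cj (l : G) B.1, B.2.1.map, fun y hy => by
        have := hD.conj_mem (l : G) l.2 _ (B.2.2 (mem_cj.mp hy))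
        simpa [mul_assoc] using this⟩
      one_smul := fun B => Subtype.ext (cj_one B.1)
      mul_smul := fun l m B => Subtype.ext (cj_mul (l : G) m B.1) }
  let Ω := MulAction.orbitRel.Quotient ↥L (Sub A)
  have : Fintype Ω := Fintype.ofFinite _
  let P : Ω → (G → ℂ) := fun ω =>
    ((((-1 : ℤ) ^ ((Quotient.out ω).1.card + 1) : ℤ) : ℂ)) •
      Cfsg.indFun (nB L (Quotient.out ω).1 ⊔ hB H (Quotient.out ω).1)
        (α ∘ proj hD (Quotient.out ω).2.2 (Quotient.out ω).2.1)
  suffices h : Cfsg.dadeIsometry A L H α = ∑ ω : Ω, P ω by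
    rw [h]
    exact isGeneralizedCharacter_sum _ _ fun ω _ => isGeneralizedCharacter_zsmul
      (CharInduced.isGenChar_ind _ (isGeneralizedCharacter_comap _ hα)) _
  funext g
  have hL : (Nat.card L : ℂ) ≠ 0 := Nat.cast_ne_zero.mpr Nat.card_pos.ne'
  refine mul_left_cancel₀ hL ?_
  rw [← sum_toggle hD hcl hαA g, Finset.sum_apply, Finset.mul_sum]
  set F : Sub A → ℂ := fun B => (-1 : ℂ) ^ (B.1.card + 1) * tB H α B.1 g with hF
  have hinv : ∀ (l : ↥L) (B : Sub A), F (l • B) = F B := fun l B => by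
    show (-1 : ℂ) ^ ((cj (l : G) B.1).card + 1) * tB H α (cj (l : G) B.1) g = _
    rw [tB_conj hD hcl B.2.2 l g, cj, Finset.card_map]
  let e := MulAction.selfEquivSigmaOrbitsQuotientStabilizer ↥L (Sub A)
  have : ∀ ω : Ω, Fintype (↥L ⧸ MulAction.stabilizer ↥L (Quotient.out ω)) := fun ω => Fintype.ofFinite _
  rw [← Equiv.sum_comp e.symm, Fintype.sum_sigma]
  refine Finset.sum_congr rfl fun ω _ => ?_
  have hb : ∀ q : ↥L ⧸ MulAction.stabilizer ↥L (Quotient.out ω), F (e.symm ⟨ω, q⟩) = F (Quotient.out ω) := by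
    intro q
    have hrel : e.symm ⟨ω, q⟩ ∈ MulAction.orbit ↥L (Quotient.out ω) := by
      rw [← MulAction.orbitRel.Quotient.orbit_eq_orbit_out _ Quotient.out_eq]
      exact MulAction.orbitRel.Quotient.mem_orbit.mpr
        (congrArg Sigma.fst (e.apply_symm_apply ⟨ω, q⟩))
    obtain ⟨l, hl⟩ := hrel
    rw [← hl]
    exact hinv l _
  show ∑ q, F (e.symm ⟨ω, q⟩) = _
  rw [Finset.sum_congr rfl fun q _ => hb q, Finset.sum_const, Finset.card_univ, nsmul_eq_mul,
    ← Nat.card_eq_fintype_card]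
  have hcard : Nat.card (↥L ⧸ MulAction.stabilizer ↥L (Quotient.out ω)) *
      Nat.card (nB L (Quotient.out ω).1) = Nat.card L := by
    have e2 : MulAction.stabilizer ↥L (Quotient.out ω) = (nB L (Quotient.out ω).1).subgroupOf L := by
      ext l
      rw [MulAction.mem_stabilizer_iff, Subgroup.mem_subgroupOf]
      exact ⟨fun h => ⟨l.2, congrArg Subtype.val h⟩, fun h => Subtype.ext h.2⟩
    rw [Subgroup.card_eq_card_quotient_mul_card_subgroup (MulAction.stabilizer ↥L (Quotient.out ω)), e2,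
      Nat.card_congr (Subgroup.subgroupOfEquivOfLe (show nB L (Quotient.out ω).1 ≤ L from fun x hx => hx.1)).toEquiv]
  have hP := congrFun (ind_eq_tB hD (α := α) (Quotient.out ω).2.2 (Quotient.out ω).2.1) g
  simp only [Pi.smul_apply, smul_eq_mul] at hP
  simp only [P, hF, Pi.smul_apply, smul_eq_mul]
  rw [← hP, ← hcard]
  push_cast
  ring

end Cfsg.Agent.DadeGenChar
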