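import Mathlib
import Cfsg.Agent.Lib.PF12Induced43
import Cfsg.Agent.Lib.PFCoherentDade
import Cfsg.Agent.S1518

/-!
Peterfalvi, Section 12: a signed irreducible character orthogonal to the Dade image of the functions
supported on `M_F` is constant on the cosets of `M_F` outside `M_F`, and has equal coefficients at the
nonprincipal linear characters of `M_F`.
-/

set_option autoImplicit false
set_option linter.unusedSectionVars false

open scoped ComplexConjugate Classical

namespace Cfsg.Agent.PF12Const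

open Cfsg Cfsg.Agent.CharBasic Cfsg.Agent.CharBasicOrth Cfsg.Agent.CharBasicDecomp Cfsg.Agent.DadeMap
open Cfsg.Agent.PFInvDade Cfsg.Agent.PFCoherentDade Cfsg.Agent.CoherenceBasic Cfsg.Agent.PF12Ind

universe u

variable {G : Type u} [Group G] [Fintype G]

/-- The Dade map of a larger set agrees with that of a smaller one on functions supported there. -/
theorem dade_restrict {A B : Set G} {L : Subgroup G} {H : G → Subgroup G} (hA : DadeHypothesis A L H)
    (hB : DadeHypothesis B L H) (hBA : B ⊆ A) {α : ↥L → ℂ} (hα : IsClassFunction ↥L α)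
    (hαB : ∀ x : ↥L, (x : G) ∉ B → α x = 0) : dadeIsometry A L H α = dadeIsometry B L H α := by
  funext g
  by_cases hg : InSupport B L H g
  · obtain ⟨a, ha, x, u, hu, e⟩ := hg
    rw [dade_apply hA hα a (hBA ha) hu e, dade_apply hB hα a ha hu e]
  · rw [dade_eq_zero (A := B) hg]
    by_cases hg' : InSupport A L H g
    · obtain ⟨a, ha, x, u, hu, e⟩ := hg'
      rw [dade_apply hA hα a ha hu e, hαB a fun h => hg ⟨a, h, x, u, hu, e⟩]
    · exact dade_eq_zero hg'

/-- The situation of a maximal subgroup `M` with `A = A(M)`, `A₁ = K \ {1}`. -/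
structure MSetup (A A₁ : Set G) (M : Subgroup G) (R : G → Subgroup G) (K : Subgroup ↥M) : Prop where
  dade : DadeHypothesis A M R
  set1 : Setup A₁ M R K
  sub : A₁ ⊆ A
  hab : ∀ x y : ↥M, HasFix K x → HasFix K y → x * y * x⁻¹ * y⁻¹ ∈ K
  mem_A : ∀ y : ↥M, y ≠ 1 → HasFix K y → (y : G) ∈ A
  triv : ∀ a ∈ A, a ∉ A₁ → R a = ⊥
  odd : Odd (Nat.card ↥M)

/-- `ψ` is irreducible up to sign, is not real, and `ψ - conj ψ` is orthogonal to the Dade image of
the functions supported on `A₁`. -/
structure Sep (A₁ : Set G) (M : Subgroup G) [Fintype ↥M] (R : G → Subgroup G) (ψ : G → ℂ) : Prop where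
  signed : SignedIrr ψ
  conj_orth : classInner ψ (Cfsg.conjFun ψ) = 0
  disj : ∀ α : ↥M → ℂ, IsClassFunction ↥M α → (∀ x : ↥M, (x : G) ∉ A₁ → α x = 0) →
    classInner (dadeIsometry A₁ M R α) (ψ - Cfsg.conjFun ψ) = 0

variable {A A₁ : Set G} {M : Subgroup G} [Fintype ↥M] {R : G → Subgroup G} {K : Subgroup ↥M} [K.Normal]
  {ψ : G → ℂ}

theorem irr_sub_conj_class {χ : ↥M → ℂ} (hχ : IsIrrCharacter ↥M χ) :
    IsClassFunction ↥M (χ - Cfsg.conjFun χ) := by
  have h := isClassFunction_of_isCharacter (isCharacter_of_isIrrCharacter hχ)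
  intro g x
  simp [Cfsg.conjFun, h g x]

theorem irr_supp (hM : MSetup A A₁ M R K) {χ : ↥M → ℂ} (hχ : IsIrrCharacter ↥M χ) (ht : ¬ TrivOn K χ)
    (x : ↥M) (hx1 : x ≠ 1) (hxA : (x : G) ∉ A) : χ x = 0 :=
  eq_zero_of_not_hasFix K hχ ht fun h => hxA (hM.mem_A x hx1 h)

theorem sub_conj_supp (hM : MSetup A A₁ M R K) {χ : ↥M → ℂ} (hχ : IsIrrCharacter ↥M χ) (ht : ¬ TrivOn K χ)
    (x : ↥M) (hxA : (x : G) ∉ A) : (χ - Cfsg.conjFun χ) x = 0 := by
  by_cases h1 : x = 1
  · subst h1
    simp [CoherenceBasic.conjFun_apply_one (isCharacter_of_isIrrCharacter hχ)]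
  · simp [Cfsg.conjFun, irr_supp hM hχ ht x h1 hxA]

theorem conj_ne_of_nontriv (hM : MSetup A A₁ M R K) {χ : ↥M → ℂ} (hχ : IsIrrCharacter ↥M χ)
    (ht : ¬ TrivOn K χ) : Cfsg.conjFun χ ≠ χ := fun h => by
  refine ht fun n _ => ?_
  have h1 := S0161.real_eq_one hM.odd hχ fun g => by
    rw [isCharacter_inv (isCharacter_of_isIrrCharacter hχ)]; exact congrFun h g
  rw [h1]

theorem trivOn_conj {χ : ↥M → ℂ} (h : ¬ TrivOn K χ) : ¬ TrivOn K (Cfsg.conjFun χ) := fun ht =>
  h fun n hn => by
    have := congrArg (starRingEnd ℂ) (ht n hn)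
    simpa [Cfsg.conjFun] using this

theorem ind_conj_supp (hM : MSetup A A₁ M R K) {θ φ : ↥K → ℂ} (h : θ 1 = φ 1) (x : ↥M)
    (hx : (x : G) ∉ A₁) : (indFun K θ - indFun K φ) x = 0 := by
  by_cases h1 : x = 1
  · subst h1; simp [CharInduced.ind_one_apply, h]
  · have hK : x ∉ K := fun hh => hx ((hM.set1.mem_iff x).2 ⟨hh, h1⟩)
    simp [CharInduced.ind_normal_eq_zero K _ hK]

/-- `ψ` is orthogonal to both members of the pair attached to a character not trivial on `K`. -/
theorem orth_pair (hM : MSetup A A₁ M R K) (hS : Sep A₁ M R ψ) {χ : ↥M → ℂ} (hχ : IsIrrCharacter ↥M χ)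
    (ht : ¬ TrivOn K χ) {μ : G → ℂ} (hμ : IsIrrCharacter G μ)
    (he : dadeIsometry A M R (χ - Cfsg.conjFun χ) = μ - Cfsg.conjFun μ) :
    classInner ψ μ = 0 ∧ classInner ψ (Cfsg.conjFun μ) = 0 := by
  obtain ⟨θ, hθ, hθ1, ho⟩ := exists_over K hχ ht
  have hno := not_over_conj K hM.odd hθ hθ1 hχ ho
  set α : ↥M → ℂ := indFun K θ - indFun K (Cfsg.conjFun θ) with hα
  have hαc : IsClassFunction ↥M α := fun g x => by
    simp [hα, CharInduced.isClassFunction_ind K θ g x,
      CharInduced.isClassFunction_ind K (Cfsg.conjFun θ) g x]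
  have hαA₁ : ∀ x : ↥M, (x : G) ∉ A₁ → α x = 0 :=
    ind_conj_supp hM (CoherenceBasic.conjFun_apply_one (isCharacter_of_isIrrCharacter hθ)).symm
  obtain ⟨m, hm⟩ : ∃ m : ℕ, classInner (fun n : K => χ n) θ = m :=
    classInner_isCharacter (CharInduced.isCharacter_res K (isCharacter_of_isIrrCharacter hχ))
      (isCharacter_of_isIrrCharacter hθ)
  have hm0 : m ≠ 0 := fun h => ho (by rw [hm, h, Nat.cast_zero])
  have hθc := conjFun_isIrr hθ
  have hχc := conjFun_isIrr hχ
  have c1 : classInner (fun n : K => Cfsg.conjFun χ n) (Cfsg.conjFun θ) = m := by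
    show classInner (Cfsg.conjFun (fun n : K => χ n)) (Cfsg.conjFun θ) = _
    rw [classInner_conjFun, hm, map_natCast]
  have c2 : classInner (fun n : K => Cfsg.conjFun χ n) θ = 0 := not_not.1 hno
  have c3 : classInner (fun n : K => χ n) (Cfsg.conjFun θ) = 0 := by
    have h := classInner_conjFun (fun n : K => Cfsg.conjFun χ n) θ
    rw [c2, map_zero] at h
    have e : Cfsg.conjFun (fun n : K => Cfsg.conjFun χ (n : ↥M)) = fun n : K => χ n := by
      funext n; simp [Cfsg.conjFun]
    rwa [e] at h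
  have hin : classInner α (χ - Cfsg.conjFun χ) = 2 * (m : ℂ) := by
    rw [hα]
    simp only [CharBasicOrth.classInner_sub_left, CharBasicOrth.classInner_sub_right, over_ind K hθ hχ,
      over_ind K hθ hχc, over_ind K hθc hχ, over_ind K hθc hχc, hm, c1, c2, c3]
    ring
  have h2 : classInner (dadeIsometry A M R α) (μ - Cfsg.conjFun μ) = 2 * (m : ℂ) := by
    rw [← he, inner_dade_dade hM.dade hαc (fun x hx => hαA₁ x fun h => hx (hM.sub h))
      (irr_sub_conj_class hχ), hin]
  have h3 := hS.disj α hαc hαA₁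
  rw [← dade_restrict hM.dade hM.set1.dade hM.sub hαc hαA₁] at h3
  have hne : (2 * (m : ℂ)) ≠ 0 := mul_ne_zero two_ne_zero (Nat.cast_ne_zero.2 hm0)
  constructor
  · rcases si_cases hS.signed (Or.inl hμ : SignedIrr μ) with h | ⟨ε, hε, hμe, -⟩
    · exact h
    · exfalso
      have hd : μ - Cfsg.conjFun μ = (ε : ℂ) • (ψ - Cfsg.conjFun ψ) := by
        rw [hμe]; funext g; simp [Cfsg.conjFun, mul_sub]
      rw [hd, CharBasicOrth.classInner_smul_right, h3, mul_zero] at h2
      exact hne h2.symm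
  · rcases si_cases hS.signed (Or.inl (conjFun_isIrr hμ) : SignedIrr (Cfsg.conjFun μ)) with
      h | ⟨ε, hε, hμe, -⟩
    · exact h
    · exfalso
      have hμe' : μ = (ε : ℂ) • Cfsg.conjFun ψ := by
        have h := congrArg Cfsg.conjFun hμe
        rw [CoherenceBasic.conjFun_conjFun] at h
        rw [h]; funext g; simp [Cfsg.conjFun]
      have hd : μ - Cfsg.conjFun μ = (-(ε : ℂ)) • (ψ - Cfsg.conjFun ψ) := by
        rw [hμe, hμe']; funext g; simp [Cfsg.conjFun]; ring
      rw [hd, CharBasicOrth.classInner_smul_right, h3, mul_zero] at h2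
      exact hne h2.symm

/-- The key orthogonality: the Dade image of a difference of constituents lies in the span of the
pairs, so is orthogonal to `ψ`. -/
theorem inner_zero_of_pairs (hM : MSetup A A₁ M R K) (hS : Sep A₁ M R ψ) {α : ↥M → ℂ}
    (hαg : IsGeneralizedCharacter ↥M α) (hαA : ∀ x : ↥M, (x : G) ∉ A → α x = 0)
    (s : Finset (↥M → ℂ)) (hs : ∀ χ ∈ s, IsIrrCharacter ↥M χ ∧ ¬ TrivOn K χ)
    (hsc : ∀ χ ∈ s, Cfsg.conjFun χ ∉ s)
    (hin : ∀ χ ∈ s, classInner α (χ - Cfsg.conjFun χ) = 1 ∨ classInner α (χ - Cfsg.conjFun χ) = -1)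
    (hnorm : classInner α α = (s.card : ℂ)) : classInner (dadeIsometry A M R α) ψ = 0 := by
  set τ := dadeIsometry A M R with hτ
  have hαc := isClassFunction_of_isGeneralizedCharacter hαg
  have hex : ∀ χ : s, ∃ μ : IrrCharacter G,
      τ ((χ : ↥M → ℂ) - Cfsg.conjFun (χ : ↥M → ℂ)) = (μ : G → ℂ) - Cfsg.conjFun (μ : G → ℂ) := by
    intro χ
    obtain ⟨μ, hμ, he⟩ := S1518.result A M R hM.dade χ (hs χ χ.2).1
      (fun x hx1 hxA => irr_supp hM (hs χ χ.2).1 (hs χ χ.2).2 x hx1 hxA)
    exact ⟨⟨μ, hμ⟩, he⟩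
  choose μ hμ using hex
  let bar : IrrCharacter G → IrrCharacter G := fun m => ⟨Cfsg.conjFun (m : G → ℂ), conjFun_isIrr m.2⟩
  have hpair : ∀ χ χ' : s, classInner ((μ χ : G → ℂ) - Cfsg.conjFun (μ χ : G → ℂ))
      ((μ χ' : G → ℂ) - Cfsg.conjFun (μ χ' : G → ℂ)) = if χ = χ' then 2 else 0 := by
    intro χ χ'
    rw [← hμ, ← hμ, inner_dade_dade hM.dade (irr_sub_conj_class (hs χ χ.2).1)
      (sub_conj_supp hM (hs χ χ.2).1 (hs χ χ.2).2) (irr_sub_conj_class (hs χ' χ'.2).1)]
    have i1 := (hs χ χ.2).1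
    have i2 := (hs χ' χ'.2).1
    simp only [CharBasicOrth.classInner_sub_left, CharBasicOrth.classInner_sub_right, classInner_conjFun]
    split_ifs with h
    · subst h
      rw [classInner_irr_self i1, classInner_irr_ne i1 (conjFun_isIrr i1)
        (conj_ne_of_nontriv hM i1 (hs χ χ.2).2).symm, classInner_irr_ne (conjFun_isIrr i1) i1
        (conj_ne_of_nontriv hM i1 (hs χ χ.2).2), map_one]
      norm_num
    · have n1 : (χ : ↥M → ℂ) ≠ Cfsg.conjFun (χ' : ↥M → ℂ) := fun e => hsc χ' χ'.2 (e ▸ χ.2)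
      have n2 : Cfsg.conjFun (χ : ↥M → ℂ) ≠ (χ' : ↥M → ℂ) := fun e => hsc χ χ.2 (e.symm ▸ χ'.2)
      rw [classInner_irr_ne i1 i2 (fun e => h (Subtype.ext e)), classInner_irr_ne i1 (conjFun_isIrr i2) n1,
        classInner_irr_ne (conjFun_isIrr i1) i2 n2, map_zero]
      ring
  have hne : ∀ χ : s, bar (μ χ) ≠ μ χ := by
    intro χ h
    have h2 := hpair χ χ
    have e : Cfsg.conjFun (μ χ : G → ℂ) = (μ χ : G → ℂ) := congrArg Subtype.val h
    rw [if_pos rfl, e, sub_self, CharBasicOrth.classInner_zero_left] at h2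
    norm_num at h2
  have hinj : ∀ χ χ' : s, μ χ = μ χ' ∨ μ χ = bar (μ χ') → χ = χ' := by
    intro χ χ' h
    by_contra hne'
    have h2 := hpair χ χ'
    have hs2 := hpair χ' χ'
    rw [if_pos rfl] at hs2
    rw [if_neg hne'] at h2
    rcases h with h | h
    · rw [h, hs2] at h2; norm_num at h2
    · rw [h] at h2
      simp only [bar, CoherenceBasic.conjFun_conjFun] at h2
      rw [← neg_sub, CharBasicOrth.classInner_neg_left, hs2] at h2
      norm_num at h2
  have hΦg : IsGeneralizedCharacter G (τ α) := DadeGenChar.dade_gen hM.dade hαg hαA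
  have hcoef : ∀ m : IrrCharacter G, ∃ n : ℤ, classInner (τ α) (m : G → ℂ) = n := fun m =>
    classInner_isGeneralizedCharacter hΦg
      (isGeneralizedCharacter_of_isCharacter (isCharacter_of_isIrrCharacter m.2))
  choose n hn using hcoef
  have hd : ∀ χ : s, n (μ χ) - n (bar (μ χ)) = 1 ∨ n (μ χ) - n (bar (μ χ)) = -1 := by
    intro χ
    have h : ((n (μ χ) - n (bar (μ χ)) : ℤ) : ℂ) =
        classInner α ((χ : ↥M → ℂ) - Cfsg.conjFun (χ : ↥M → ℂ)) := by
      rw [← inner_dade_dade hM.dade hαc hαA (irr_sub_conj_class (hs χ χ.2).1), ← hτ, hμ,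
        CharBasicOrth.classInner_sub_right, hn, Int.cast_sub, ← hn (bar (μ χ))]
    rcases hin χ χ.2 with h' | h' <;> rw [h'] at h
    · left; exact_mod_cast h
    · right; exact_mod_cast h
  have hsum : ∑ m : IrrCharacter G, n m ^ 2 = (s.card : ℤ) := by
    have h : classInner (τ α) (τ α) = ∑ m : IrrCharacter G, (n m : ℂ) * (n m : ℂ) := by
      rw [classInner_eq_sum (isClassFunction_of_isGeneralizedCharacter hΦg)]
      exact Finset.sum_congr rfl fun m _ => by rw [hn, map_intCast]
    rw [inner_dade_dade hM.dade hαc hαA hαc, hnorm] at h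
    have h' : (s.card : ℤ) = ∑ m : IrrCharacter G, n m * n m := by exact_mod_cast h
    rw [h']; exact Finset.sum_congr rfl fun m _ => sq (n m)
  set T : Finset (IrrCharacter G) :=
    Finset.univ.biUnion fun χ : s => ({μ χ, bar (μ χ)} : Finset (IrrCharacter G)) with hT
  have hbarinj : ∀ a b, bar a = bar b → a = b := fun a b h => by
    have := congrArg (fun z : IrrCharacter G => Cfsg.conjFun (z : G → ℂ)) h
    simp only [bar, CoherenceBasic.conjFun_conjFun] at this
    exact Subtype.ext this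
  have hTge : (s.card : ℤ) ≤ ∑ m ∈ T, n m ^ 2 := by
    rw [hT, Finset.sum_biUnion]
    · refine le_trans ?_ (Finset.sum_le_sum (f := fun _ : s => (1 : ℤ)) fun χ _ => ?_)
      · simp
      · rw [Finset.sum_pair (hne χ).symm]
        rcases hd χ with h | h <;>
          nlinarith [sq_nonneg (n (μ χ) + n (bar (μ χ))), mul_self_nonneg (n (μ χ)),
            mul_self_nonneg (n (bar (μ χ)))]
    · intro χ _ χ' _ hχ
      simp only [Function.onFun, Finset.disjoint_left, Finset.mem_insert, Finset.mem_singleton]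
      rintro m (rfl | rfl) (h | h)
      · exact hχ (hinj χ χ' (Or.inl h))
      · exact hχ (hinj χ χ' (Or.inr h))
      · exact hχ (hinj χ' χ (Or.inr h.symm)).symm
      · exact hχ (hinj χ χ' (Or.inl (hbarinj _ _ h)))
  have hzero : ∀ m ∉ T, n m = 0 := by
    intro m hm
    have h := Finset.sum_le_sum_of_subset_of_nonneg (s := insert m T) (t := Finset.univ)
      (f := fun m => n m ^ 2) (Finset.subset_univ _) (fun _ _ _ => sq_nonneg _)
    rw [Finset.sum_insert hm, hsum] at h
    have : n m ^ 2 ≤ 0 := by linarith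
    exact pow_eq_zero_iff two_ne_zero |>.1 (le_antisymm this (sq_nonneg _))
  have hψc : IsClassFunction G ψ := isClassFunction_of_isGeneralizedCharacter (si_gen hS.signed)
  rw [classInner_eq_sum (isClassFunction_of_isGeneralizedCharacter hΦg)]
  refine Finset.sum_eq_zero fun m _ => ?_
  by_cases hm : m ∈ T
  · obtain ⟨χ, -, hχm⟩ := Finset.mem_biUnion.1 hm
    have ho := orth_pair hM hS (hs χ χ.2).1 (hs χ χ.2).2 (μ χ).2 (hμ χ)
    simp only [Finset.mem_insert, Finset.mem_singleton] at hχm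
    rcases hχm with rfl | rfl
    · rw [ho.1, map_zero, mul_zero]
    · rw [show classInner ψ ((bar (μ χ) : IrrCharacter G) : G → ℂ) = 0 from ho.2, map_zero, mul_zero]
  · rw [hn, hzero m hm, Int.cast_zero, zero_mul]

theorem gen_irr {χ : ↥M → ℂ} (hχ : IsIrrCharacter ↥M χ) : IsGeneralizedCharacter ↥M χ :=
  isGeneralizedCharacter_of_isCharacter (isCharacter_of_isIrrCharacter hχ)

/-- The function `ρ ψ` on `A` continued by `ψ`. -/
noncomputable def ext (A : Set G) (M : Subgroup G) (R : G → Subgroup G) (ψ : G → ℂ) : ↥M → ℂ :=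
  fun y => if (y : G) ∈ A then invDade A M R ψ y else ψ y

theorem ext_class (hM : MSetup A A₁ M R K) (hψ : IsClassFunction G ψ) :
    IsClassFunction ↥M (ext A M R ψ) := by
  intro a x
  have hiff : ((x * a * x⁻¹ : ↥M) : G) ∈ A ↔ (a : G) ∈ A :=
    ⟨fun h => by simpa [mul_assoc] using hM.dade.conj_mem _ (inv_mem x.2) _ h,
      fun h => hM.dade.conj_mem _ x.2 _ h⟩
  simp only [ext, hiff]
  split_ifs
  · exact invDade_isClassFunction hM.dade hψ a x
  · exact hψ a x

theorem ext_off (hM : MSetup A A₁ M R K) {y : ↥M} (hy : y ∉ K) : ext A M R ψ y = ψ y := by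
  rw [ext]
  split_ifs with h
  · have hy1 : (y : G) ∉ A₁ := fun h' => hy ((hM.set1.mem_iff y).1 h').1
    rw [invDade_eq_sum y h, hM.triv _ h hy1]
    simp [Subgroup.mem_bot]
  · rfl

/-- Peterfalvi (12.4): `ψ` is constant on the cosets of `K` outside `K`. -/
theorem const_coset (hM : MSetup A A₁ M R K) (hS : Sep A₁ M R ψ) {y : ↥M} (hy : y ∉ K) {k : ↥M}
    (hk : k ∈ K) : ψ ((y * k : ↥M) : G) = ψ (y : G) := by
  have hψc : IsClassFunction G ψ := isClassFunction_of_isGeneralizedCharacter (si_gen hS.signed)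
  set g := ext A M R ψ with hg
  have hgc : IsClassFunction ↥M g := ext_class hM hψc
  have hcoef : ∀ θ : K → ℂ, IsIrrCharacter K θ → θ ≠ (fun _ => 1) → ∀ χ χ' : IrrCharacter ↥M,
      Over K θ χ → Over K θ χ' → classInner g (χ : ↥M → ℂ) = classInner g (χ' : ↥M → ℂ) := by
    intro θ hθ h1 χ χ' h h'
    by_cases he : χ = χ'
    · rw [he]
    have ht := trivOn_of_not K hθ h1 h
    have ht' := trivOn_of_not K hθ h1 h'
    have hne : (χ : ↥M → ℂ) ≠ (χ' : ↥M → ℂ) := fun e => he (Subtype.ext e)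
    have n1 : (χ : ↥M → ℂ) ≠ Cfsg.conjFun (χ' : ↥M → ℂ) := fun e =>
      not_over_conj K hM.odd hθ h1 χ'.2 h' (e ▸ h)
    have n2 : Cfsg.conjFun (χ : ↥M → ℂ) ≠ (χ' : ↥M → ℂ) := fun e =>
      not_over_conj K hM.odd hθ h1 χ.2 h (e.symm ▸ h')
    have hdeg := over_apply_one K hM.hab hθ h1 χ.2 χ'.2 h h'
    set α : ↥M → ℂ := (χ : ↥M → ℂ) - (χ' : ↥M → ℂ) with hα
    have hαA : ∀ x : ↥M, (x : G) ∉ A → α x = 0 := by
      intro x hx
      by_cases hx1 : x = 1
      · subst hx1; simp [hα, hdeg]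
      · simp [hα, irr_supp hM χ.2 ht x hx1 hx, irr_supp hM χ'.2 ht' x hx1 hx]
    have hαg : IsGeneralizedCharacter ↥M α := isGeneralizedCharacter_sub (gen_irr χ.2) (gen_irr χ'.2)
    have hc1 := conj_ne_of_nontriv hM χ.2 ht
    have hc2 := conj_ne_of_nontriv hM χ'.2 ht'
    have h0 : classInner (dadeIsometry A M R α) ψ = 0 := by
      refine inner_zero_of_pairs hM hS hαg hαA {(χ : ↥M → ℂ), (χ' : ↥M → ℂ)} ?_ ?_ ?_ ?_
      · intro η hη
        simp only [Finset.mem_insert, Finset.mem_singleton] at hη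
        rcases hη with rfl | rfl
        · exact ⟨χ.2, ht⟩
        · exact ⟨χ'.2, ht'⟩
      · intro η hη
        simp only [Finset.mem_insert, Finset.mem_singleton] at hη ⊢
        rcases hη with rfl | rfl
        · rintro (e | e)
          · exact hc1 e
          · exact n2 e
        · rintro (e | e)
          · exact n1 e.symm
          · exact hc2 e
      · intro η hη
        simp only [Finset.mem_insert, Finset.mem_singleton] at hη
        rcases hη with rfl | rfl
        · left
          simp only [hα, CharBasicOrth.classInner_sub_left, CharBasicOrth.classInner_sub_right,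
            classInner_irr_self χ.2, classInner_irr_ne χ.2 (conjFun_isIrr χ.2) hc1.symm,
            classInner_irr_ne χ'.2 χ.2 hne.symm, classInner_irr_ne χ'.2 (conjFun_isIrr χ.2) n2.symm]
          ring
        · right
          simp only [hα, CharBasicOrth.classInner_sub_left, CharBasicOrth.classInner_sub_right,
            classInner_irr_self χ'.2, classInner_irr_ne χ'.2 (conjFun_isIrr χ'.2) hc2.symm,
            classInner_irr_ne χ.2 χ'.2 hne, classInner_irr_ne χ.2 (conjFun_isIrr χ'.2) n1]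
          ring
      · rw [Finset.card_pair hne]
        simp only [hα, CharBasicOrth.classInner_sub_left, CharBasicOrth.classInner_sub_right,
          classInner_irr_self χ.2, classInner_irr_self χ'.2,
          classInner_irr_ne χ.2 χ'.2 hne, classInner_irr_ne χ'.2 χ.2 hne.symm]
        norm_num
    rw [inner_dade_eq hM.dade (isClassFunction_of_isGeneralizedCharacter hαg) hαA hψc] at h0
    have h2 : classInner α g = 0 := by
      rw [← h0]
      simp only [classInner]
      congr 1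
      refine Finset.sum_congr rfl fun x _ => ?_
      by_cases hx : (x : G) ∈ A
      · simp [hg, ext, hx]
      · rw [hαA x hx, zero_mul, zero_mul]
    have h3 := congrArg (starRingEnd ℂ) h2
    rw [CharBasicOrth.conj_classInner, map_zero, hα, CharBasicOrth.classInner_sub_right] at h3
    exact sub_eq_zero.1 h3
  have hval : ∀ z : ↥M, z ∉ K → g z = ∑ χ : IrrCharacter ↥M,
      if TrivOn K (χ : ↥M → ℂ) then classInner g (χ : ↥M → ℂ) * (χ : ↥M → ℂ) z else 0 := by
    intro z hz
    have h := congrFun (eq_sum_classInner hgc) z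
    simp only [Finset.sum_apply, Pi.smul_apply, smul_eq_mul] at h
    have h0 := sum_nontriv_eq_zero K hM.hab (fun χ => classInner g (χ : ↥M → ℂ)) hcoef hz
    have hsplit : ∑ χ : IrrCharacter ↥M, classInner g (χ : ↥M → ℂ) * (χ : ↥M → ℂ) z =
        (∑ χ : IrrCharacter ↥M,
          if TrivOn K (χ : ↥M → ℂ) then classInner g (χ : ↥M → ℂ) * (χ : ↥M → ℂ) z else 0) +
        ∑ χ : IrrCharacter ↥M,
          if TrivOn K (χ : ↥M → ℂ) then 0 else classInner g (χ : ↥M → ℂ) * (χ : ↥M → ℂ) z := by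
      rw [← Finset.sum_add_distrib]
      exact Finset.sum_congr rfl fun χ _ => by split_ifs <;> ring
    rw [h0, add_zero] at hsplit
    exact h.trans hsplit
  have hyk : y * k ∉ K := fun h => hy ((K.mul_mem_cancel_right hk).1 h)
  rw [← ext_off (A₁ := A₁) (ψ := ψ) hM hyk, ← ext_off (A₁ := A₁) (ψ := ψ) hM hy, ← hg, hval _ hyk, hval _ hy]
  refine Finset.sum_congr rfl fun χ _ => ?_
  split_ifs with ht
  · congr 1
    obtain ⟨η, hη⟩ := CharKernel.exists_quot_irr K χ ht
    rw [hη, hη]
    refine congrArg _ ?_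
    rw [QuotientGroup.eq]
    simpa [mul_assoc] using K.inv_mem hk
  · rfl

/-- Peterfalvi (12.5): equal coefficients at the nonprincipal linear characters of `K`. -/
theorem coeff_linear_eq (hM : MSetup A A₁ M R K) (hS : Sep A₁ M R ψ) {U : Subgroup ↥M}
    (hU : Subgroup.IsComplement' K U) (l l' : K →* ℂˣ)
    (hl : (fun k => (l k : ℂ)) ≠ fun _ => 1) (hl' : (fun k => (l' k : ℂ)) ≠ fun _ => 1) :
    coeff A₁ M R K ψ (fun k => (l k : ℂ)) = coeff A₁ M R K ψ (fun k => (l' k : ℂ)) := by
  have hψc : IsClassFunction G ψ := isClassFunction_of_isGeneralizedCharacter (si_gen hS.signed)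
  set θ : K → ℂ := fun k => (l k : ℂ) with hθdef
  set θ' : K → ℂ := fun k => (l' k : ℂ) with hθ'def
  have hθ : IsIrrCharacter K θ := isIrrCharacter_linear l
  have hθ' : IsIrrCharacter K θ' := isIrrCharacter_linear l'
  have h1 : θ 1 = 1 := by simp [hθdef]
  have h1' : θ' 1 = 1 := by simp [hθ'def]
  set α : ↥M → ℂ := indFun K θ - indFun K θ' with hα
  have hαA₁ : ∀ x : ↥M, (x : G) ∉ A₁ → α x = 0 := ind_conj_supp hM (h1.trans h1'.symm)
  have hαc : IsClassFunction ↥M α := fun g x => by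
    simp [hα, CharInduced.isClassFunction_ind K θ g x, CharInduced.isClassFunction_ind K θ' g x]
  suffices h0 : classInner (dadeIsometry A₁ M R α) ψ = 0 by
    have e : tdiff θ - tdiff θ' = α := by
      funext x; simp [tdiff, hα, h1, h1']
    rw [coeff, coeff, ← sub_eq_zero, ← CharBasicOrth.classInner_sub_right]
    have e2 : dadeIsometry A₁ M R (tdiff θ) - dadeIsometry A₁ M R (tdiff θ') = dadeIsometry A₁ M R α := by
      rw [← e]
      funext g
      simp only [dadeIsometry, Pi.sub_apply]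
      split_ifs <;> simp
    rw [e2, ← CharBasicOrth.conj_classInner, h0, map_zero]
  set C : Finset (↥M → ℂ) :=
    ((Finset.univ : Finset (IrrCharacter ↥M)).filter fun χ : IrrCharacter ↥M => Over K θ χ.1).map
      ⟨Subtype.val, Subtype.val_injective⟩ with hC
  set C' : Finset (↥M → ℂ) :=
    ((Finset.univ : Finset (IrrCharacter ↥M)).filter fun χ : IrrCharacter ↥M => Over K θ' χ.1).map
      ⟨Subtype.val, Subtype.val_injective⟩ with hC'
  have memC : ∀ η, η ∈ C ↔ IsIrrCharacter ↥M η ∧ Over K θ η := fun η => by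
    simp only [hC, Finset.mem_map, Finset.mem_filter, Finset.mem_univ, true_and,
      Function.Embedding.coeFn_mk]
    exact ⟨fun ⟨χ, h, e⟩ => e ▸ ⟨χ.2, h⟩, fun h => ⟨⟨η, h.1⟩, h.2, rfl⟩⟩
  have memC' : ∀ η, η ∈ C' ↔ IsIrrCharacter ↥M η ∧ Over K θ' η := fun η => by
    simp only [hC', Finset.mem_map, Finset.mem_filter, Finset.mem_univ, true_and,
      Function.Embedding.coeFn_mk]
    exact ⟨fun ⟨χ, h, e⟩ => e ▸ ⟨χ.2, h⟩, fun h => ⟨⟨η, h.1⟩, h.2, rfl⟩⟩
  have orb : ∀ {φ φ' : K → ℂ}, IsIrrCharacter K φ → IsIrrCharacter K φ' → ∀ η : ↥M → ℂ,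
      IsIrrCharacter ↥M η → Over K φ η → Over K φ' η → indFun K φ' = indFun K φ :=
    fun hφ hφ' η hη h h' => (CharInduced.ind_eq_iff_mem_orbit K hφ hφ').2
      (CharInduced.mem_orbit_of_constituents K hη hφ hφ' h h')
  by_cases hsame : indFun K θ' = indFun K θ
  · have : α = 0 := by rw [hα, hsame, sub_self]
    rw [this, show dadeIsometry A₁ M R (0 : ↥M → ℂ) = 0 from by
      funext g; simp only [dadeIsometry]; split_ifs <;> rfl, CharBasicOrth.classInner_zero_left]
  have hindc : indFun K θ' ≠ indFun K θ := hsame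
  by_cases hcj : indFun K θ' = indFun K (Cfsg.conjFun θ)
  · -- the difference is the sum of the pairs over `θ`
    have hαA : ∀ x : ↥M, (x : G) ∉ A → α x = 0 := fun x hx => hαA₁ x fun h => hx (hM.sub h)
    rw [← dade_restrict hM.dade hM.set1.dade hM.sub hαc hαA₁]
    have hexp : α = ∑ χ ∈ C, (χ - Cfsg.conjFun χ) := by
      have e1 : indFun K θ = ∑ χ ∈ C, χ := by
        rw [hC, Finset.sum_map, Finset.sum_filter]
        refine (eq_sum_classInner (CharInduced.isClassFunction_ind K θ)).trans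
          (Finset.sum_congr rfl fun χ _ => ?_)
        rw [over_ind K hθ χ.2]
        split_ifs with h
        · rw [over_linear K hM.hab hU l hl χ.2 h, one_smul]; rfl
        · rw [show classInner (fun n : K => (χ : ↥M → ℂ) n) θ = 0 from not_not.1 h, zero_smul]
      have e2 : indFun K (Cfsg.conjFun θ) = Cfsg.conjFun (indFun K θ) := CharInduced.ind_conj K θ
      rw [hα, hcj, e2, e1, Finset.sum_sub_distrib]
      congr 1
      funext x
      simp [Cfsg.conjFun, Finset.sum_apply]
    have hz : ∀ χ ∈ C, classInner (dadeIsometry A M R (χ - Cfsg.conjFun χ)) ψ = 0 := by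
      intro χ hχ
      obtain ⟨hi, ho⟩ := (memC χ).1 hχ
      have ht := trivOn_of_not K hθ hl ho
      obtain ⟨μ, hμ, he⟩ := S1518.result A M R hM.dade χ hi (fun x h1 h2 => irr_supp hM hi ht x h1 h2)
      obtain ⟨o1, o2⟩ := orth_pair hM hS hi ht hμ he
      rw [he, ← CharBasicOrth.conj_classInner, CharBasicOrth.classInner_sub_right, o1, o2, sub_zero,
        map_zero]
    have hlin : ∀ s : Finset (↥M → ℂ), dadeIsometry A M R (∑ χ ∈ s, (χ - Cfsg.conjFun χ)) =
        ∑ χ ∈ s, dadeIsometry A M R (χ - Cfsg.conjFun χ) := by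
      intro s
      funext g
      simp only [dadeIsometry, Finset.sum_apply]
      split_ifs <;> simp
    rw [hexp, hlin, CharBasicOrth.classInner_sum_left, Finset.sum_eq_zero hz]
  have hdisj : Disjoint C C' := by
    rw [Finset.disjoint_left]
    intro η h h'
    exact hindc (orb hθ hθ' η ((memC η).1 h).1 ((memC η).1 h).2 ((memC' η).1 h').2)
  have hcc : ∀ η, η ∈ C' → Cfsg.conjFun η ∉ C := by
    intro η h h'
    refine hcj (orb (conjFun_isIrr hθ) hθ' η ((memC' η).1 h).1 ?_ ((memC' η).1 h).2)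
    intro e
    apply ((memC _).1 h').2
    have := classInner_conjFun (fun n : K => η n) (Cfsg.conjFun θ)
    rw [CoherenceBasic.conjFun_conjFun, e, map_zero] at this
    exact this
  have e1 : indFun K θ = ∑ χ ∈ C, χ := by
    rw [hC, Finset.sum_map, Finset.sum_filter]
    refine (eq_sum_classInner (CharInduced.isClassFunction_ind K θ)).trans
      (Finset.sum_congr rfl fun χ _ => ?_)
    rw [over_ind K hθ χ.2]
    split_ifs with h
    · rw [over_linear K hM.hab hU l hl χ.2 h, one_smul]; rfl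
    · rw [show classInner (fun n : K => (χ : ↥M → ℂ) n) θ = 0 from not_not.1 h, zero_smul]
  have e1' : indFun K θ' = ∑ χ ∈ C', χ := by
    rw [hC', Finset.sum_map, Finset.sum_filter]
    refine (eq_sum_classInner (CharInduced.isClassFunction_ind K θ')).trans
      (Finset.sum_congr rfl fun χ _ => ?_)
    rw [over_ind K hθ' χ.2]
    split_ifs with h
    · rw [over_linear K hM.hab hU l' hl' χ.2 h, one_smul]; rfl
    · rw [show classInner (fun n : K => (χ : ↥M → ℂ) n) θ' = 0 from not_not.1 h, zero_smul]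
  have hirr : ∀ η ∈ C ∪ C', IsIrrCharacter ↥M η ∧ ¬ TrivOn K η := fun η h => by
    rcases Finset.mem_union.1 h with h | h
    · exact ⟨((memC η).1 h).1, trivOn_of_not K hθ hl ((memC η).1 h).2⟩
    · exact ⟨((memC' η).1 h).1, trivOn_of_not K hθ' hl' ((memC' η).1 h).2⟩
  have hval : ∀ η : ↥M → ℂ, IsIrrCharacter ↥M η → classInner α η =
      (if η ∈ C then 1 else 0) - (if η ∈ C' then 1 else 0) := by
    intro η hη
    have aux : ∀ D : Finset (↥M → ℂ), (∀ ξ ∈ D, IsIrrCharacter ↥M ξ) →
        classInner (∑ χ ∈ D, χ) η = if η ∈ D then 1 else 0 := by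
      intro D hD
      rw [CharBasicOrth.classInner_sum_left]
      split_ifs with h
      · rw [Finset.sum_eq_single_of_mem η h fun ξ hξ hne => classInner_irr_ne (hD ξ hξ) hη hne,
          classInner_irr_self hη]
      · exact Finset.sum_eq_zero fun ξ hξ => classInner_irr_ne (hD ξ hξ) hη fun e => h (e ▸ hξ)
    rw [hα, CharBasicOrth.classInner_sub_left, e1, e1', aux C fun ξ h => ((memC ξ).1 h).1,
      aux C' fun ξ h => ((memC' ξ).1 h).1]
  have hαg : IsGeneralizedCharacter ↥M α := isGeneralizedCharacter_sub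
    (isGeneralizedCharacter_of_isCharacter (CharInduced.isCharacter_ind K (isCharacter_of_isIrrCharacter hθ)))
    (isGeneralizedCharacter_of_isCharacter (CharInduced.isCharacter_ind K (isCharacter_of_isIrrCharacter hθ')))
  have hαA : ∀ x : ↥M, (x : G) ∉ A → α x = 0 := fun x hx => hαA₁ x fun h => hx (hM.sub h)
  rw [← dade_restrict hM.dade hM.set1.dade hM.sub hαc hαA₁]
  have hcC : ∀ η ∈ C, Cfsg.conjFun η ∉ C := fun η h h' =>
    not_over_conj K hM.odd hθ hl ((memC η).1 h).1 ((memC η).1 h).2 ((memC _).1 h').2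
  have hcC' : ∀ η ∈ C', Cfsg.conjFun η ∉ C' := fun η h h' =>
    not_over_conj K hM.odd hθ' hl' ((memC' η).1 h).1 ((memC' η).1 h).2 ((memC' _).1 h').2
  have hcc' : ∀ η ∈ C, Cfsg.conjFun η ∉ C' := fun η h h' =>
    hcc _ h' (by rw [CoherenceBasic.conjFun_conjFun]; exact h)
  refine inner_zero_of_pairs hM hS hαg hαA (C ∪ C') hirr ?_ ?_ ?_
  · intro η h
    rw [Finset.mem_union, not_or]
    rcases Finset.mem_union.1 h with h | h
    · exact ⟨hcC η h, hcc' η h⟩
    · exact ⟨hcc η h, hcC' η h⟩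
  · intro η h
    obtain ⟨hi, -⟩ := hirr η h
    rw [CharBasicOrth.classInner_sub_right, hval η hi, hval _ (conjFun_isIrr hi)]
    rcases Finset.mem_union.1 h with h | h
    · left
      simp [h, hcC η h, hcc' η h, Finset.disjoint_left.1 hdisj h]
    · right
      simp [h, hcC' η h, hcc η h, Finset.disjoint_right.1 hdisj h]
  · have hn : classInner α α = classInner α (∑ χ ∈ C, χ) - classInner α (∑ χ ∈ C', χ) := by
      rw [← CharBasicOrth.classInner_sub_right]
      congr 1
      rw [hα, e1, e1']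
    rw [hn, CharBasicOrth.classInner_sum_right, CharBasicOrth.classInner_sum_right,
      Finset.card_union_of_disjoint hdisj]
    have v1 : ∀ η ∈ C, classInner α η = 1 := fun η h => by
      rw [hval η ((memC η).1 h).1, if_pos h, if_neg (Finset.disjoint_left.1 hdisj h), sub_zero]
    have v2 : ∀ η ∈ C', classInner α η = -1 := fun η h => by
      rw [hval η ((memC' η).1 h).1, if_neg (Finset.disjoint_right.1 hdisj h), if_pos h, zero_sub]
    rw [Finset.sum_congr rfl v1, Finset.sum_congr rfl v2]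
    simp

end Cfsg.Agent.PF12Const
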