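import Cfsg.Agent.Lib.BGSigmaRank
import Cfsg.Agent.Lib.BGTypeBasic
import Cfsg.Agent.Lib.BGTransitivity

/-!
Preparations for Bender-Glauberman section 11: sigma bookkeeping for maximal subgroups and elementary
abelian subgroups of order `p ^ 2` that are maximal among such subgroups.
-/

set_option autoImplicit false
set_option linter.style.haveILetI false

namespace Cfsg.Agent.BGExc

open Subgroup
open Cfsg.Agent.BGUnique
open Cfsg.Agent.BGSigma
open scoped commutatorElement Pointwise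

universe u

variable {G : Type u} [Group G] [Finite G]

/-! ### Plain group facts -/

omit [Finite G] in
/-- A subgroup containing the elements of exponent `p` of `P` is normalised by `N(P)`. -/
theorem normalizer_le_of_omega {p : ℕ} {A P : Subgroup G} (hA : Cfsg.IsElementaryAbelian p A)
    (hAP : A ≤ P) (h : ∀ x ∈ P, x ^ p = 1 → x ∈ A) :
    normalizer (P : Set G) ≤ normalizer (A : Set G) := by
  have key : ∀ g ∈ normalizer (P : Set G), ∀ a ∈ A, g * a * g⁻¹ ∈ A := fun g hg a ha =>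
    h _ ((mem_normalizer_iff.1 hg a).1 (hAP ha)) (by rw [conj_pow, hA.2 a ha]; simp)
  intro g hg
  rw [mem_normalizer_iff]
  refine fun a => ⟨key g hg a, fun ha => ?_⟩
  simpa [mul_assoc] using key g⁻¹ (inv_mem hg) _ ha

omit [Finite G] in
/-- An element commuting with an elementary abelian group of largest order lies in it. -/
theorem mem_of_centralizer {p : ℕ} [Fact p.Prime] [Finite G] {A : Subgroup G}
    (hA : Cfsg.IsElementaryAbelian p A) (hAc : Nat.card A = p ^ 2)
    (hr : Cfsg.PRankLE p 2 ↥(centralizer (A : Set G))) {x : G}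
    (hx : x ∈ centralizer (A : Set G)) (hxp : x ^ p = 1) : x ∈ A :=
  mem_of_pRankLE hr (PGroupsBasic.le_centralizer_of_isMulCommutative hA.1) hA hAc.ge hx hxp
    fun a ha => mem_centralizer_iff.1 hx a ha

theorem dvd_card_of_sq {p : ℕ} {A M : Subgroup G} (hAM : A ≤ M) (hAc : Nat.card A = p ^ 2) :
    p ∣ Nat.card M :=
  (hAc ▸ dvd_pow_self p two_ne_zero : p ∣ Nat.card A).trans (card_dvd_of_le hAM)

theorem ne_bot_of_sq {p : ℕ} [hp : Fact p.Prime] {A : Subgroup G} (hAc : Nat.card A = p ^ 2) :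
    A ≠ ⊥ := by
  rintro rfl
  rw [card_bot] at hAc
  exact (Nat.one_lt_pow two_ne_zero hp.out.one_lt).ne hAc

/-! ### Maximal subgroups and `σ` -/

omit [Finite G] in
theorem sigmaCore_le (M : Subgroup G) : Cfsg.sigmaCore M ≤ M := map_subtype_le _

theorem le_normalizer_sigmaCore (M : Subgroup G) :
    M ≤ normalizer (Cfsg.sigmaCore M : Set G) :=
  le_normalizer_core _ M

theorem sigma_intro {p : ℕ} [hp : Fact p.Prime] {P M : Subgroup G} (hP : IsMaxP p P M)
    (hd : p ∣ Nat.card M) (hN : normalizer (P : Set G) ≤ M) : p ∈ Cfsg.sigma M := by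
  obtain ⟨S, hS⟩ := hP.exists_sylow
  exact ⟨hp.out, hd, S, hS.symm ▸ hN⟩

theorem not_normalizer_le_maxP {p : ℕ} [Fact p.Prime] {P M : Subgroup G} (hp' : p ∉ Cfsg.sigma M)
    (hP : IsMaxP p P M) (hd : p ∣ Nat.card M) : ¬ normalizer (P : Set G) ≤ M :=
  fun h => hp' (sigma_intro hP hd h)

theorem sigma_conj {p : ℕ} {M : Subgroup G} (g : G) (h : p ∈ Cfsg.sigma M) :
    p ∈ Cfsg.sigma (MulAut.conj g • M) := by
  haveI := Fact.mk h.1
  have hP := isMaxP_sylow M (default : Sylow p M)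
  refine sigma_intro (isMaxP_conj g hP) (by rw [CoprimeSZ.card_conj_smul]; exact h.2.1) ?_
  rw [BGTypeBasic.conj_smul_normalizer]
  exact pointwise_smul_le_pointwise_smul_iff.2 (normalizer_le_of_sigma h hP)

theorem sigma_of_conj {p : ℕ} {M : Subgroup G} {g : G} (h : p ∈ Cfsg.sigma (MulAut.conj g • M)) :
    p ∈ Cfsg.sigma M := by
  have h1 := sigma_conj g⁻¹ h
  rwa [map_inv, inv_smul_smul] at h1

variable (hG : Cfsg.IsMinSimpleOddOrder G)
include hG

theorem normalizer_eq_of_normal {M D : Subgroup G} (hM : IsCoatom M) (hDM : D ≤ M) (hD : D ≠ ⊥)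
    (hn : M ≤ normalizer (D : Set G)) : normalizer (D : Set G) = M :=
  normalizer_le_of_coatom hG hM hD hDM hn

/-- Nilpotent `M_σ`: a maximal subgroup sharing a sigma prime is conjugate to `M`. -/
theorem eq_conj_of_normal_sylow {M L : Subgroup G} (hM : IsCoatom M) (hL : IsCoatom L) {q : ℕ}
    [Fact q.Prime] (hqM : q ∈ Cfsg.sigma M) (hqL : q ∈ Cfsg.sigma L) {Q : Subgroup G}
    (hQ : IsMaxP q Q M) (hn : M ≤ normalizer (Q : Set G)) : ∃ h : G, L = MulAut.conj h • M := by
  have hne : Q ≠ ⊥ := by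
    obtain ⟨S, rfl⟩ := hQ.exists_sylow
    exact fun h => S.ne_bot_of_dvd_card hqM.2.1
      ((map_eq_bot_iff_of_injective _ M.subtype_injective).1 h)
  have hQ' := isMaxP_sylow L (default : Sylow q L)
  set Q' := ((default : Sylow q L) : Subgroup L).map L.subtype
  have hQt := isMaxP_top_of_sigma hqM hQ
  have hQ't := isMaxP_top_of_sigma hqL hQ'
  obtain ⟨h, -, hh⟩ := exists_conj_maxP hQ't le_top hQ.isPGroup
  have heq : MulAut.conj h • Q = Q' :=
    eq_of_le_of_card_ge hh (by rw [CoprimeSZ.card_conj_smul, isMaxP_card hQt hQ't])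
  have hle : MulAut.conj h • M ≤ L := by
    rw [← normalizer_eq_of_normal hG hM hQ.le hne hn, ← BGTypeBasic.conj_smul_normalizer, heq]
    exact normalizer_le_of_sigma hqL hQ'
  exact ⟨h, by_contra fun hne' => hL.1 ((isCoatom_conj h hM).2 L (lt_of_le_of_ne hle (Ne.symm hne')))⟩

/-- A maximal subgroup containing a Sylow subgroup for an `α(M)`-prime is conjugate to `M`. -/
theorem eq_conj_of_alpha {M L : Subgroup G} (hM : IsCoatom M) (hL : IsCoatom L) {q : ℕ}
    [Fact q.Prime] (hqM : q ∈ Cfsg.alpha M) (hqL : q ∈ Cfsg.sigma L) :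
    ∃ h : G, L = MulAut.conj h • M := by
  have hQ := isMaxP_sylow M (default : Sylow q M)
  set Q := ((default : Sylow q M) : Subgroup M).map M.subtype
  have hQ' := isMaxP_sylow L (default : Sylow q L)
  have hQt := isMaxP_top_of_sigma (alpha_subset hG hM hqM) hQ
  have hQ't := isMaxP_top_of_sigma hqL hQ'
  obtain ⟨h, -, hh⟩ := exists_conj_maxP hQ't le_top hQ.isPGroup
  have hQU := unique_of_rank hG (fun h' => hM.1 (top_le_iff.1 (h' ▸ hQ.le)))
    (pRankLE_of_isMaxP hQ hqM.2)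
  exact ⟨h, (eq_of_unique (unique_conj hQU h) (isCoatom_conj h hM)
    (pointwise_smul_le_pointwise_smul_iff.2 hQ.le) hL (hh.trans hQ'.le)).symm⟩

/-- For `p ∈ σ(M)` no other conjugate of `M` contains `A` and its centralizer. -/
theorem eq_of_fusion {M : Subgroup G} (hM : IsCoatom M) {p : ℕ} [Fact p.Prime]
    (hp' : p ∈ Cfsg.sigma M) {A : Subgroup G} (hAp : IsPGroup p A) (hA : A ≠ ⊥) (hAM : A ≤ M) {h : G}
    (hAL : A ≤ MulAut.conj h • M) (hC : centralizer (A : Set G) ≤ MulAut.conj h • M) :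
    MulAut.conj h • M = M := by
  obtain ⟨c, hc, hcM⟩ := conj_transitive hG hM hp' _ A rfl hAp hA h 1 hAL (by simpa using hAM)
  rw [map_one, one_smul, conj_le_normalizer (le_normalizer (hC hc))] at hcM
  exact hcM

variable {M : Subgroup G} (hM : IsCoatom M)
include hM

theorem le_sigmaCore {X : Subgroup G} (hXM : X ≤ M)
    (h : ∀ q : ℕ, q.Prime → q ∣ Nat.card X → q ∈ Cfsg.sigma M) : X ≤ Cfsg.sigmaCore M := by
  have hle : X.subgroupOf M ≤ Cfsg.piCore (Cfsg.sigma M) M := by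
    refine le_of_prime_not_dvd fun q hq hd hdi => ?_
    refine (hall_sigma hG hM).1.2.2 q hq (h q hq (hd.trans (HallCore.card_subgroupOf_dvd X M))) ?_
    rwa [relIndex, Cfsg.sigmaCore, subgroupOf_map_subtype_self]
  exact fun x hx => ⟨⟨x, hXM hx⟩, hle hx, rfl⟩

theorem pgroup_le_sigmaCore {q : ℕ} [Fact q.Prime] (hq : q ∈ Cfsg.sigma M) {X : Subgroup G}
    (hX : IsPGroup q X) (hXM : X ≤ M) : X ≤ Cfsg.sigmaCore M := by
  refine le_sigmaCore hG hM hXM fun r hr hd => ?_
  obtain ⟨n, hn⟩ := IsPGroup.iff_card.1 hX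
  rw [hn] at hd
  exact (Nat.prime_dvd_prime_iff_eq hr Fact.out).1 (hr.dvd_of_dvd_pow hd) ▸ hq

theorem sigma_of_dvd {q : ℕ} (hq : q.Prime) (hd : q ∣ Nat.card (Cfsg.sigmaCore M)) :
    q ∈ Cfsg.sigma M := (hall_sigma hG hM).1.2.1 q hq hd

theorem coprime_sigmaCore {q : ℕ} (hq : q.Prime) (h : q ∉ Cfsg.sigma M) {X : Subgroup G}
    (hX : IsPGroup q X) : (Nat.card X).Coprime (Nat.card (Cfsg.sigmaCore M)) := by
  haveI := Fact.mk hq
  obtain ⟨n, hn⟩ := IsPGroup.iff_card.1 hX
  rw [hn]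
  exact (hq.coprime_iff_not_dvd.2 fun hd => h (sigma_of_dvd hG hM hq hd)).pow_left n

theorem sylow_sigmaCore {q : ℕ} [Fact q.Prime] (hq : q ∈ Cfsg.sigma M)
    (S : Sylow q ↥(Cfsg.sigmaCore M)) :
    IsMaxP q ((S : Subgroup ↥(Cfsg.sigmaCore M)).map (Cfsg.sigmaCore M).subtype) M := by
  have h := isMaxP_sylow (Cfsg.sigmaCore M) S
  exact ⟨h.le.trans (sigmaCore_le M), h.isPGroup, fun Q hPQ hQM hQ =>
    h.eq_of_le Q hPQ (pgroup_le_sigmaCore hG hM hq hQ hQM) hQ⟩

/-- A normal Sylow subgroup of a nilpotent `M_σ`. -/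
theorem exists_normal_sylow (hnil : Group.IsNilpotent (Cfsg.sigmaCore M)) {q : ℕ} [Fact q.Prime]
    (hq : q ∈ Cfsg.sigma M) : ∃ Q : Subgroup G, IsMaxP q Q M ∧ M ≤ normalizer (Q : Set G) ∧
      ∀ X : Subgroup G, IsPGroup q X → X ≤ M → X ≤ Q := by
  haveI := hnil
  set S : Sylow q ↥(Cfsg.sigmaCore M) := default
  have hn : (S : Subgroup ↥(Cfsg.sigmaCore M)).Normal :=
    Sylow.normal_of_normalizerCondition Group.normalizerCondition_of_isNilpotent S
  haveI : (S : Subgroup ↥(Cfsg.sigmaCore M)).Characteristic := S.characteristic_of_normal hn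
  have hQ := sylow_sigmaCore hG hM hq S
  have hn' := (le_normalizer_sigmaCore M).trans
    (ComponentsCores.normalizer_le_normalizer_map_subtype (Cfsg.sigmaCore M) (S : Subgroup _))
  refine ⟨_, hQ, hn', fun X hX hXM => ?_⟩
  have h1 : IsPGroup q ↥(X ⊔ (S : Subgroup ↥(Cfsg.sigmaCore M)).map (Cfsg.sigmaCore M).subtype) :=
    IsPGroup.to_sup_of_normal_right' hX hQ.isPGroup (hXM.trans hn')
  rw [← hQ.eq_of_le _ le_sup_right (sup_le hXM hQ.le) h1]
  exact le_sup_left

/-- `A` is maximal elementary abelian when `p ∉ σ(M)`. -/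
theorem centralizer_rank {p : ℕ} [Fact p.Prime] (hp' : p ∉ Cfsg.sigma M) {A : Subgroup G}
    (hAM : A ≤ M) (hA : Cfsg.IsElementaryAbelian p A) (hAc : Nat.card A = p ^ 2) :
    Cfsg.PRankLE p 2 ↥(centralizer (A : Set G)) := by
  intro B hB hBp
  set B' := B.map (centralizer (A : Set G)).subtype with hB'
  have hB'e : Cfsg.IsElementaryAbelian p B' :=
    PGroupsBasic.isElementaryAbelian_map_hom ⟨hB, hBp⟩ _
  have hel : Cfsg.IsElementaryAbelian p (A ⊔ B') :=
    PGroupsBasic.isElementaryAbelian_sup hA hB'e fun a ha b hb =>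
      (mem_centralizer_iff.1 (map_subtype_le B hb) a ha).symm
  have hc : Nat.card B' = Nat.card B :=
    card_map_of_injective (centralizer (A : Set G)).subtype_injective
  rw [← hc, ← hAc]
  exact card_le_of_le (le_sup_right.trans
    (maximal_of_rank_two hG hM hp' hAM hA hAc hel le_sup_left).le)

end Cfsg.Agent.BGExc
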