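import Cfsg.Agent.Lib.BGSigmaRank
import Cfsg.Agent.Lib.HallTheorem

/-!
Bender-Glauberman 10.11 (a), 10.12 and 10.14: `σ'`-subgroups are not uniqueness subgroups,
disjointness for nonconjugate maximal subgroups, and ideal primes.
-/

set_option autoImplicit false
set_option linter.style.haveILetI false

namespace Cfsg.Agent.BGSigma

open Subgroup
open Cfsg.Agent.BGUnique
open scoped commutatorElement Pointwise

universe u

variable {G : Type u} [Group G] [Finite G]

theorem piNat_of_isPGroup {p : ℕ} [hp : Fact p.Prime] {π : Set ℕ} {P : Subgroup G}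
    (hP : IsPGroup p P) (hpπ : p ∈ π) : HallCore.PiNat π (Nat.card P) := fun r hr hd => by
  obtain ⟨n, hn⟩ := IsPGroup.iff_card.1 hP
  rw [hn] at hd
  exact (Nat.prime_dvd_prime_iff_eq hr hp.out).1 (hr.dvd_of_dvd_pow hd) ▸ hpπ

omit [Finite G] in
theorem conj_smul_eq_map (g : G) (X : Subgroup G) :
    X.map (MulAut.conj g).toMonoidHom = MulAut.conj g • X := rfl

variable (hG : Cfsg.IsMinSimpleOddOrder G) {M : Subgroup G} (hM : IsCoatom M)
include hG hM

theorem sylow_top_of_sigma {p : ℕ} [hp : Fact p.Prime] (hp' : p ∈ Cfsg.sigma M) :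
    ∃ S : Sylow p G, (S : Subgroup G) ≤ M := by
  obtain ⟨P, hP⟩ : ∃ P, IsMaxP p P M := ⟨_, isMaxP_sylow M default⟩
  obtain ⟨S, hS⟩ := (isMaxP_top_of_sigma hp' hP).exists_sylow_top
  exact ⟨S, hS ▸ hP.le⟩

/-- A Sylow subgroup for a sigma prime lies in some conjugate of each maximal subgroup sharing the
prime, hence maximal subgroups with a common uniqueness Sylow subgroup are conjugate. -/
theorem exists_conj_sylow {N : Subgroup G} (hN : IsCoatom N) {p : ℕ} [hp : Fact p.Prime]
    (hpM : p ∈ Cfsg.sigma M) (hpN : p ∈ Cfsg.sigma N) :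
    ∃ g : G, ∃ S : Sylow p G, (S : Subgroup G) ≤ M ∧ (S : Subgroup G) ≤ MulAut.conj g • N := by
  obtain ⟨S, hS⟩ := sylow_top_of_sigma hG hM hpM
  obtain ⟨T, hT⟩ := sylow_top_of_sigma hG hN hpN
  obtain ⟨g, hg⟩ := MulAction.exists_smul_eq G T S
  refine ⟨g, S, hS, ?_⟩
  rw [← hg, Sylow.coe_subgroup_smul]
  exact pointwise_smul_le_pointwise_smul_iff.2 hT

/-- BG 10.12, first part: `α(M)` and `σ(N)` are disjoint for nonconjugate maximal subgroups. -/
theorem conj_of_alpha_inter_sigma {N : Subgroup G} (hN : IsCoatom N) {p : ℕ} [hp : Fact p.Prime]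
    (hpM : p ∈ Cfsg.alpha M) (hpN : p ∈ Cfsg.sigma N) :
    ∃ g : G, N = M.map (MulAut.conj g).toMonoidHom := by
  obtain ⟨g, S, hSM, hSN⟩ := exists_conj_sylow hG hM hN (alpha_subset hG hM hpM) hpN
  have hSmax : IsMaxP p (S : Subgroup G) M :=
    ⟨hSM, S.isPGroup', fun Q hSQ _ hQ => S.is_maximal' hQ hSQ⟩
  have hne : (S : Subgroup G) ≠ ⊤ := fun h => hM.1 (top_le_iff.1 (h ▸ hSM))
  have he := eq_of_unique (unique_of_rank hG hne (pRankLE_of_isMaxP hSmax hpM.2)) hM hSM
    (isCoatom_conj g hN) hSN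
  refine ⟨g⁻¹, ?_⟩
  rw [conj_smul_eq_map, map_inv, he, inv_smul_smul]

/-- BG 10.12, second part: a nilpotent `M_σ` makes `σ(M)` disjoint from the others. -/
theorem conj_of_sigma_inter_of_nilpotent (hnil : Group.IsNilpotent (Cfsg.sigmaCore M))
    {N : Subgroup G} (hN : IsCoatom N) {p : ℕ} [hp : Fact p.Prime]
    (hpM : p ∈ Cfsg.sigma M) (hpN : p ∈ Cfsg.sigma N) :
    ∃ g : G, N = M.map (MulAut.conj g).toMonoidHom := by
  obtain ⟨g, S, hSM, hSN⟩ := exists_conj_sylow hG hM hN hpM hpN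
  haveI := isSolvable_of_ne_top hG hM.1
  set K := Cfsg.piCore (Cfsg.sigma M) M with hK
  haveI hnil' : Group.IsNilpotent ↥(K.map M.subtype) := hnil
  haveI : Group.IsNilpotent K := nilpotent_of_mulEquiv
    (K.equivMapOfInjective _ M.subtype_injective).symm
  have hSK : (S : Subgroup G).subgroupOf M ≤ K := by
    refine le_of_prime_not_dvd fun r hr hd hdi => ?_
    haveI := Fact.mk hr
    have hr' := piNat_of_isPGroup S.isPGroup' hpM r hr (hd.trans (HallCore.card_subgroupOf_dvd _ _))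
    refine (hall_sigma hG hM).1.2.2 r hr hr' ?_
    rwa [relIndex, Cfsg.sigmaCore, subgroupOf_map_subtype_self]
  set T := ((S : Subgroup G).subgroupOf M).subgroupOf K with hT
  have hTmax : ∀ Q : Subgroup K, IsPGroup p Q → T ≤ Q → Q = T := by
    intro Q hQ hTQ
    refine le_antisymm (fun x hx => ?_) hTQ
    have h1 : (Q.map K.subtype).map M.subtype = (S : Subgroup G) := by
      refine S.is_maximal' ((hQ.map _).map _) fun y hy => ?_
      exact ⟨⟨y, hSM hy⟩, ⟨⟨⟨y, hSM hy⟩, hSK (show (⟨y, hSM hy⟩ : M) ∈ _ from hy)⟩,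
        hTQ (show _ ∈ T from hy), rfl⟩, rfl⟩
    show ((x : M) : G) ∈ (S : Subgroup G)
    rw [← h1]
    exact ⟨x, ⟨x, hx, rfl⟩, rfl⟩
  have hTp : IsPGroup p T :=
    (S.isPGroup'.comap_of_injective _ M.subtype_injective).comap_of_injective _ K.subtype_injective
  let T' : Sylow p K := ⟨T, hTp, fun {Q} hQ hle => hTmax Q hQ hle⟩
  haveI : Finite (Sylow p K) := inferInstance
  have hTn : T.Normal := by
    have := Sylow.normal_of_normalizerCondition Group.normalizerCondition_of_isNilpotent T'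
    exact this
  haveI : T.Characteristic := Sylow.characteristic_of_normal T' hTn
  haveI : K.Normal := Cfsg.piCore_normal _ _
  have hnorm : ((S : Subgroup G).subgroupOf M).Normal := by
    have := (ConjAct.normal_of_characteristic_of_normal (H := K) (K := T))
    rwa [hT, map_subgroupOf_eq_of_le hSK] at this
  have hle : M ≤ normalizer ((S : Subgroup G) : Set G) :=
    (normal_subgroupOf_iff_le_normalizer hSM).1 hnorm
  have hne : (S : Subgroup G) ≠ ⊥ := fun h =>
    S.ne_bot_of_dvd_card (hpM.2.1.trans (card_subgroup_dvd_card M)) h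
  have hNS := normalizer_le_of_coatom hG hM hne hSM hle
  have hSN' : IsMaxP p (S : Subgroup G) (MulAut.conj g • N) :=
    ⟨hSN, S.isPGroup', fun Q hSQ _ hQ => S.is_maximal' hQ hSQ⟩
  have hN' := isMaxP_conj g⁻¹ hSN'
  rw [map_inv, inv_smul_smul] at hN'
  have hle2 := normalizer_le_of_sigma hpN hN'
  have hMN : M ≤ MulAut.conj g • N := by
    intro m hm
    rw [mem_pointwise_smul_iff_inv_smul_mem]
    refine hle2 ?_
    have hmS := hle hm
    rw [mem_normalizer_iff] at hmS ⊢
    intro x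
    simp only [mem_pointwise_smul_iff_inv_smul_mem, inv_inv, ← map_inv, MulAut.smul_def,
      MulAut.conj_apply]
    rw [hmS]
    group
  refine ⟨g⁻¹, ?_⟩
  rcases hM.le_iff.1 hMN with h | h
  · exact absurd h (isCoatom_conj g hN).1
  · rw [conj_smul_eq_map, ← h, map_inv, inv_smul_smul]

/-- BG 10.12: `M_α ∩ N_σ = 1` for nonconjugate maximal subgroups. -/
theorem alphaCore_inf_sigmaCore {N : Subgroup G} (hN : IsCoatom N)
    (hne : ∀ g : G, N ≠ M.map (MulAut.conj g).toMonoidHom) :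
    Cfsg.alphaCore M ⊓ Cfsg.sigmaCore N = ⊥ := by
  by_contra h
  obtain ⟨p, hp, hd⟩ := Nat.exists_prime_and_dvd (fun h1 => h (eq_bot_of_card_eq _ h1))
  haveI := Fact.mk hp
  obtain ⟨g, hg⟩ := conj_of_alpha_inter_sigma hG hM hN
    ((hall_alpha hG hM).1.2.1 p hp (hd.trans (card_dvd_of_le inf_le_left)))
    ((hall_sigma hG hN).1.2.1 p hp (hd.trans (card_dvd_of_le inf_le_right)))
  exact hne g hg

/-- BG 10.11 (a): a `σ'`-subgroup of `M` is not a uniqueness subgroup. -/
theorem sigma'_not_unique {K : Subgroup G} (hKM : K ≤ M)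
    (hK : ∀ q : ℕ, q.Prime → q ∣ Nat.card K → q ∉ Cfsg.sigma M) : ¬ Cfsg.InUniqueMaximal K := by
  intro hu
  haveI := isSolvable_of_ne_top hG hM.1
  set π : Set ℕ := {q | q ∉ Cfsg.sigma M} with hπ
  obtain ⟨E, hE, hKE⟩ := HallTheorem.exists_isPiHall_ge_of_solvable (G := M) (π := π)
    (U := K.subgroupOf M) (fun q hq hd => hK q hq (hd.trans (HallCore.card_subgroupOf_dvd K M)))
  set E' := E.map M.subtype with hE'
  have hKE' : K ≤ E' := by
    rw [← map_subgroupOf_eq_of_le hKM]
    exact map_mono hKE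
  have hEne : E' ≠ ⊤ := fun h => hM.1 (top_le_iff.1 (h ▸ map_subtype_le E))
  have hEu := unique_mono hu hKE' hEne
  have hE0 : E ≠ ⊥ := fun h => unique_ne_bot hG hEu (by rw [hE', h, Subgroup.map_bot])
  obtain ⟨r, hr', hmax⟩ := (Nat.card E).primeFactors.exists_max_image id
    (Nat.nonempty_primeFactors.2 (one_lt_card_iff_ne_bot E |>.2 hE0))
  simp only [id] at hmax
  rw [Nat.mem_primeFactors] at hr'
  haveI : Fact r.Prime := ⟨hr'.1⟩
  have hEr : ∀ q : ℕ, q.Prime → Cfsg.PRankLE q 2 E := by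
    intro q hq
    haveI := Fact.mk hq
    by_cases hd : q ∣ Nat.card E
    · exact BGRankTwo.pRankLE_of_injective E.subtype E.subtype_injective
        (outside_alpha hG hM hq (hE.1 q hq hd))
    · exact pRankLE_of_not_dvd hd
  have hEodd : Odd (Nat.card E) := (odd_card_subgroup hG M).of_dvd_nat (card_subgroup_dvd_card E)
  have hn := sylow_normal_of_largest hEodd hEr (fun q hq hd =>
    hmax q (Nat.mem_primeFactors.2 ⟨hq, hd, Nat.card_pos.ne'⟩)) (default : Sylow r E)
  set R := ((default : Sylow r E) : Subgroup E).map E.subtype with hR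
  have hRp : IsPGroup r R := (default : Sylow r E).isPGroup'.map _
  have hRi : ¬ r ∣ R.index := by
    intro hd
    rw [← relIndex_mul_index (map_subtype_le ((default : Sylow r E) : Subgroup E))] at hd
    rcases hr'.1.dvd_mul.1 hd with h | h
    · rw [relIndex, subgroupOf_map_subtype_self'] at h
      exact (default : Sylow r E).not_dvd_index h
    · exact hE.2 r hr'.1 (hE.1 r hr'.1 hr'.2.1) h
  let S : Sylow r M := IsPGroup.toSylow hRp hRi
  have hSR : (S : Subgroup M) = R := IsPGroup.toSylow_coe hRp hRi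
  refine hE.1 r hr'.1 hr'.2.1 ⟨hr'.1, hr'.2.1.trans (card_subgroup_dvd_card E), S, ?_⟩
  have hR0 : R.map M.subtype ≠ ⊥ := fun h => by
    rw [map_eq_bot_iff_of_injective _ M.subtype_injective, hR,
      map_eq_bot_iff_of_injective _ E.subtype_injective] at h
    exact (default : Sylow r E).ne_bot_of_dvd_card hr'.2.1 h
  have hR1 : R.map M.subtype ≠ ⊤ := fun h => hM.1 (top_le_iff.1 (h ▸ map_subtype_le R))
  have hEN : E' ≤ normalizer ((R.map M.subtype : Subgroup G) : Set G) := by
    refine le_trans (map_mono ?_) (le_normalizer_map M.subtype)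
    refine le_trans ?_ (le_normalizer_map E.subtype)
    rw [normalizer_eq_top_iff.2 hn, ← MonoidHom.range_eq_map, range_subtype]
  rw [hSR]
  exact le_of_unique hEu hM (map_subtype_le E) hEN (normalizer_ne_top' hG hR0 hR1)
where
  subgroupOf_map_subtype_self' {X : Type u} [Group X] {E : Subgroup X} {K : Subgroup E} :
      (K.map E.subtype).subgroupOf E = K := comap_map_eq_self_of_injective E.subtype_injective K

omit hM

/-- BG 10.14 (b): noncyclic `p`-subgroups for ideal primes are uniqueness subgroups. -/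
theorem unique_of_ideal {p : ℕ} [hp : Fact p.Prime] (hid : Cfsg.IsIdealPrime p G) {R : Subgroup G}
    (hR : IsPGroup p R) (hnc : ¬ IsCyclic R) : Cfsg.InUniqueMaximal R := by
  obtain ⟨E, hER, hE, hEc⟩ := exists_elementary_sq_of_noncyclic hG hR hnc
  obtain ⟨S, hS⟩ := (hR.to_le hER).exists_le_sylow
  obtain ⟨B, -, hB, hEB⟩ := hid.2.2 S E hS hE hEc
  have hB3 : ¬ Cfsg.PRankLE p 2 B := fun h => by
    have h1 := card_le_of_pRankLE h le_rfl hB
    have h2 : Nat.card E < Nat.card B :=
      lt_of_le_of_ne (card_le_of_le hEB.le) fun h3 => hEB.ne (eq_of_le_of_card_ge hEB.le h3.ge)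
    omega
  obtain ⟨F, hFB, -, hF⟩ := exists_unique_sub_of_rank hG hB3
  refine unique_mono (unique_of_le_centralizer hG hF (fun a ha => mem_centralizer_iff.2 fun f hf =>
      PGroupsBasic.comm_of_isMulCommutative hB.1 (hFB hf) (hEB.le ha)) le_rfl hE.1
      (PGroupsBasic.isPGroup_of_isElementaryAbelian hE) (not_isCyclic_of_sq_le hE hEc.ge)) hER ?_
  exact BGTransitivity.qgroup_ne_top hG hR

/-- BG 10.14 (a): Sylow subgroups for ideal primes are not cyclic. -/
theorem not_isCyclic_of_ideal {p : ℕ} [hp : Fact p.Prime] (hid : Cfsg.IsIdealPrime p G)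
    (P : Sylow p G) : ¬ IsCyclic (P : Subgroup G) := by
  intro hc
  refine hid.2.1 fun A hAc hAp => ?_
  have hA : Cfsg.IsElementaryAbelian p A := ⟨hAc, hAp⟩
  obtain ⟨T, hT⟩ := (PGroupsBasic.isPGroup_of_isElementaryAbelian hA).exists_le_sylow
  haveI : IsCyclic (T : Subgroup G) := (T.equiv P).isCyclic.2 hc
  have h1 := PGroupsBasic.card_le_prime_of_isCyclic (isCyclic_of_le hT) hA.2
  exact h1.trans (Nat.le_self_pow two_ne_zero p)

/-- BG 10.14 (c). -/
theorem normalizer_inf_unique {p : ℕ} [hp : Fact p.Prime] (hid : Cfsg.IsIdealPrime p G)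
    (P : Sylow p G) {X : Subgroup G} (hXP : X ≤ (P : Subgroup G)) :
    Cfsg.InUniqueMaximal ((P : Subgroup G) ⊓ normalizer (X : Set G)) := by
  set Y := (P : Subgroup G) ⊓ normalizer (X : Set G) with hY
  refine unique_of_ideal hG hid (P.isPGroup'.to_le inf_le_left) fun hc => ?_
  have hYP : Y ≤ (P : Subgroup G) := inf_le_left
  rcases hYP.lt_or_eq with hlt | heq
  · have h1 := lt_inf_normalizer P.isPGroup' hlt
    refine h1.not_ge fun n hn => ⟨hn.1, ?_⟩
    have hXY : X ≤ Y := le_inf hXP le_normalizer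
    haveI := hc
    haveI : (X.subgroupOf Y).Characteristic := by
      refine characteristic_iff_map_le.2 fun e => ?_
      rintro _ ⟨x, hx, rfl⟩
      obtain ⟨m, hm⟩ := MonoidHom.map_cyclic e.toMonoidHom
      show e.toMonoidHom x ∈ X.subgroupOf Y
      rw [hm]
      exact zpow_mem hx m
    have hle := ComponentsCores.normalizer_le_normalizer_map_subtype Y (X.subgroupOf Y) hn.2
    rwa [map_subgroupOf_eq_of_le hXY] at hle
  · exact not_isCyclic_of_ideal hG hid P (heq ▸ hc)

include hM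

/-- BG 10.14 (d). -/
theorem normalizer_le_of_beta {Y : Subgroup G} (hYM : Y ≤ M) (hY1 : Y ≠ ⊥)
    (hY : ∀ q : ℕ, q.Prime → q ∣ Nat.card Y → q ∈ Cfsg.beta M) : normalizer (Y : Set G) ≤ M := by
  have hYne : Y ≠ ⊤ := fun h => hM.1 (top_le_iff.1 (h ▸ hYM))
  haveI := isSolvable_of_ne_top hG hYne
  haveI : Nontrivial Y := (nontrivial_iff_ne_bot Y).2 hY1
  obtain ⟨N, hN⟩ := HallSolvable.exists_minNormal (G := Y)
  obtain ⟨p, hp, -, hk⟩ := hN.exists_prime
  haveI := Fact.mk hp
  haveI := hN.normal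
  have hNO : N ≤ Cfsg.pCore p Y := HallCore.le_pCore hk
  set X := (Cfsg.pCore p Y).map Y.subtype with hX
  have hX1 : X ≠ ⊥ := fun h => hN.ne_bot (le_bot_iff.1
    (hNO.trans (le_of_eq ((map_eq_bot_iff_of_injective _ Y.subtype_injective).1 h))))
  have hXp : IsPGroup p X := (HallCore.isPGroup_pCore p Y).map _
  have hpY : p ∈ Cfsg.beta M :=
    hY p hp ((dvd_card_of_ne_bot hXp hX1).trans (card_dvd_of_le (map_subtype_le _)))
  have hXM : X ≤ M := (map_subtype_le _).trans hYM
  haveI := HallCore.pCore_characteristic p Y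
  refine (ComponentsCores.normalizer_le_normalizer_map_subtype Y (Cfsg.pCore p Y)).trans ?_
  obtain ⟨P, hP, hXP⟩ := exists_isMaxP_ge hXp hXM
  obtain ⟨S, rfl⟩ := (isMaxP_top_of_sigma (alpha_subset hG hM hpY.1) hP).exists_sylow_top
  exact le_of_unique (normalizer_inf_unique hG hpY.2 S hXP) hM (inf_le_left.trans hP.le)
    inf_le_right (normalizer_ne_top' hG hX1 fun h => hM.1 (top_le_iff.1 (h ▸ hXM)))

end Cfsg.Agent.BGSigma
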