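import Cfsg.Agent.Lib.BGSigmaCore
import Cfsg.Agent.Lib.HallTheorem
import Cfsg.Agent.Lib.CoprimeAction

/-!
A complement `E` to `M_σ` in a maximal subgroup `M` (Bender-Glauberman, sections 12-13): basic facts.
-/

set_option autoImplicit false
set_option linter.style.haveILetI false

namespace Cfsg.Agent.BGPrime

open Subgroup
open Cfsg.Agent.BGUnique
open Cfsg.Agent.HallCore
open scoped commutatorElement Pointwise

universe u

variable {G : Type u} [Group G] [Finite G]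

omit [Finite G] in
theorem sigmaCore_le (M : Subgroup G) : Cfsg.sigmaCore M ≤ M := map_subtype_le _

theorem le_normalizer_sigmaCore (M : Subgroup G) :
    M ≤ normalizer (Cfsg.sigmaCore M : Set G) := BGSigma.le_normalizer_core _ M

theorem piNat_sigmaCore (M : Subgroup G) :
    PiNat (Cfsg.sigma M) (Nat.card (Cfsg.sigmaCore M)) := fun q hq hd =>
  piNat_card_piCore _ M q hq (BGSigma.card_core (Cfsg.sigma M) M ▸ hd)

theorem relIndex_eq_card_compl {E A M : Subgroup G} (hE : Cfsg.IsComplIn E A M) :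
    A.relIndex M = Nat.card E := by
  obtain ⟨hEM, hAM, hinf, hmul⟩ := hE
  have hcomp : IsComplement' (E.subgroupOf M) (A.subgroupOf M) := by
    refine isComplement'_of_disjoint_and_mul_eq_univ ?_ ?_
    · rw [disjoint_iff, eq_bot_iff]
      intro x hx
      have : (x : G) ∈ E ⊓ A := ⟨hx.1, hx.2⟩
      rw [hinf, mem_bot] at this
      exact Subtype.ext this
    · refine Set.eq_univ_of_forall fun m => ?_
      obtain ⟨e, he, a, ha, hea⟩ := hmul m m.2
      exact ⟨⟨e, hEM he⟩, he, ⟨a, hAM ha⟩, ha, Subtype.ext hea.symm⟩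
  rw [relIndex, hcomp.index_eq_card, Nat.card_congr (subgroupOfEquivOfLe hEM).toEquiv]

theorem sup_compl_eq {E A M : Subgroup G} (hE : Cfsg.IsComplIn E A M) : E ⊔ A = M := by
  refine le_antisymm (sup_le hE.1 hE.2.1) fun m hm => ?_
  obtain ⟨e, he, a, ha, rfl⟩ := hE.2.2.2 m hm
  exact mul_mem_sup he ha

section hM

variable (hG : Cfsg.IsMinSimpleOddOrder G) {M E : Subgroup G} (hM : IsCoatom M)
include hG hM

theorem compl_not_sigma (hE : Cfsg.IsComplIn E (Cfsg.sigmaCore M) M) {q : ℕ} (hq : q.Prime)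
    (hd : q ∣ Nat.card E) : q ∉ Cfsg.sigma M := fun h =>
  (BGSigma.hall_sigma hG hM).1.2.2 q hq h (by rwa [relIndex_eq_card_compl hE])

theorem compl_coprime (hE : Cfsg.IsComplIn E (Cfsg.sigmaCore M) M) :
    (Nat.card E).Coprime (Nat.card (Cfsg.sigmaCore M)) :=
  Nat.coprime_of_dvd fun q hq h1 h2 => compl_not_sigma hG hM hE hq h1 (piNat_sigmaCore M q hq h2)

theorem compl_hall (hE : Cfsg.IsComplIn E (Cfsg.sigmaCore M) M) :
    Cfsg.IsPiHallOf {q | q ∉ Cfsg.sigma M} E M := by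
  refine ⟨hE.1, fun q hq hd => compl_not_sigma hG hM hE hq hd, fun q hq hqs hd => hqs ?_⟩
  refine piNat_sigmaCore M q hq ?_
  have h1 := relIndex_eq_card_compl hE
  have h2 := relIndex_mul_relIndex (⊥ : Subgroup G) (Cfsg.sigmaCore M) M bot_le (sigmaCore_le M)
  have h3 := relIndex_mul_relIndex (⊥ : Subgroup G) E M bot_le hE.1
  rw [relIndex_bot_left, relIndex_bot_left, h1, mul_comm] at h2
  rw [relIndex_bot_left, relIndex_bot_left, ← h2] at h3
  rwa [← Nat.eq_of_mul_eq_mul_left Nat.card_pos h3]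

omit hM in
theorem isSolvable_of_le_coatom (hM : IsCoatom M) {A : Subgroup G} (hA : A ≤ M) :
    Group.IsSolvable A :=
  isSolvable_of_ne_top hG fun h => hM.1 (top_le_iff.1 (h ▸ hA))

/-- Every `σ(M)'`-subgroup of `M` lies in a complement of `M_σ`. -/
theorem exists_compl_ge {A : Subgroup G} (hAM : A ≤ M)
    (hA : ∀ q : ℕ, q.Prime → q ∣ Nat.card A → q ∉ Cfsg.sigma M) :
    ∃ E : Subgroup G, Cfsg.IsComplIn E (Cfsg.sigmaCore M) M ∧ A ≤ E := by
  haveI := isSolvable_of_ne_top hG hM.1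
  obtain ⟨E₀, hE₀, hAE⟩ := HallTheorem.exists_isPiHall_ge_of_solvable (G := M)
    (π := {q | q ∉ Cfsg.sigma M}) (U := A.subgroupOf M)
    (fun q hq hd => hA q hq (hd.trans (card_subgroupOf_dvd A M)))
  haveI : (Cfsg.piCore (Cfsg.sigma M) M).Normal := Cfsg.piCore_normal _ _
  have hcop : (Nat.card E₀).Coprime (Nat.card (Cfsg.piCore (Cfsg.sigma M) M)) :=
    Nat.coprime_of_dvd fun q hq h1 h2 => hE₀.1 q hq h1 (piNat_card_piCore _ M q hq h2)
  have hcard : Nat.card E₀ * Nat.card (Cfsg.piCore (Cfsg.sigma M) M) = Nat.card M := by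
    refine Nat.dvd_antisymm (hcop.mul_dvd_of_dvd_of_dvd (card_subgroup_dvd_card _)
      (card_subgroup_dvd_card _)) ?_
    rw [← (Cfsg.piCore (Cfsg.sigma M) M).index_mul_card]
    refine Nat.mul_dvd_mul ?_ dvd_rfl
    have hi : (Cfsg.piCore (Cfsg.sigma M) M).index ∣ Nat.card M := index_dvd_card _
    refine Nat.Coprime.dvd_of_dvd_mul_right ?_ (hi.trans (card_mul_index E₀).symm.dvd)
    refine Nat.coprime_of_dvd fun q hq h1 h2 => ?_
    have hnot : q ∉ Cfsg.sigma M := fun h => (BGSigma.hall_sigma hG hM).1.2.2 q hq h (by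
      rwa [relIndex, Cfsg.sigmaCore, BGSigma.subgroupOf_map_subtype_self])
    exact hE₀.2 q hq hnot h2
  have hcomp : IsComplement' E₀ (Cfsg.piCore (Cfsg.sigma M) M) :=
    isComplement'_of_card_mul_and_disjoint hcard
      (disjoint_iff.2 (inf_eq_bot_of_coprime hcop))
  refine ⟨E₀.map M.subtype, ⟨map_subtype_le _, sigmaCore_le M, ?_, fun m hm => ?_⟩, ?_⟩
  · rw [Cfsg.sigmaCore, ← map_inf _ _ _ M.subtype_injective, inf_eq_bot_of_coprime hcop,
      Subgroup.map_bot]
  · obtain ⟨⟨⟨e, he⟩, ⟨a, ha⟩⟩, hea⟩ := hcomp.existsUnique ⟨m, hm⟩ |>.exists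
    exact ⟨e, mem_map_of_mem _ he, a, mem_map_of_mem _ ha, (congrArg Subtype.val hea).symm⟩
  · rw [← map_subgroupOf_eq_of_le hAM]
    exact map_mono hAE

theorem normal_sigmaCore_subgroupOf : ((Cfsg.sigmaCore M).subgroupOf M).Normal :=
  normal_subgroupOf_of_le_normalizer (le_normalizer_sigmaCore M)

end hM

end Cfsg.Agent.BGPrime
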