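import Mathlib
import Cfsg.Agent.Lib.CoprimeExtra

/-!
Coprime action through automorphisms (`φ : A →* MulAut K`), via the semidirect product.
For `A : Subgroup (MulAut K)` use `φ := A.subtype`.
-/

namespace Cfsg.Agent.CoprimeActionAut

open scoped Pointwise commutatorElement
open Cfsg.Agent.CoprimeSZ Cfsg.Agent.CoprimeAction Cfsg.Agent.CoprimeGen Cfsg.Agent.CoprimeExtra

variable {K A : Type*} [Group K] [Group A] (φ : A →* MulAut K)

/-- `K` inside `K ⋊ A`. -/
def baseSubgroup : Subgroup (K ⋊[φ] A) := (SemidirectProduct.inl : K →* K ⋊[φ] A).range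

/-- `A` inside `K ⋊ A`. -/
def actSubgroup : Subgroup (K ⋊[φ] A) := (SemidirectProduct.inr : A →* K ⋊[φ] A).range

theorem finite_semidirect [Finite K] [Finite A] : Finite (K ⋊[φ] A) :=
  Finite.of_equiv _ SemidirectProduct.equivProd.symm

theorem normal_baseSubgroup : (baseSubgroup φ).Normal := by
  rw [baseSubgroup, SemidirectProduct.range_inl_eq_ker_rightHom]
  infer_instance

theorem act_le_normalizer_base :
    actSubgroup φ ≤ Subgroup.normalizer (baseSubgroup φ : Set (K ⋊[φ] A)) := by
  rw [Subgroup.normalizer_eq_top_iff.2 (normal_baseSubgroup φ)]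
  exact le_top

theorem card_baseSubgroup : Nat.card (baseSubgroup φ) = Nat.card K :=
  (Nat.card_congr (MonoidHom.ofInjective SemidirectProduct.inl_injective).toEquiv).symm

theorem card_actSubgroup : Nat.card (actSubgroup φ) = Nat.card A :=
  (Nat.card_congr (MonoidHom.ofInjective SemidirectProduct.inr_injective).toEquiv).symm

theorem coprime_act_base (hcop : (Nat.card A).Coprime (Nat.card K)) :
    (Nat.card (actSubgroup φ)).Coprime (Nat.card (baseSubgroup φ)) := by
  rwa [card_actSubgroup, card_baseSubgroup]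

theorem isSolvable_base (h : Group.IsSolvable K) : Group.IsSolvable (baseSubgroup φ) :=
  have := h
  Group.isSolvable_of_surjective
    (SemidirectProduct.inl : K →* K ⋊[φ] A).rangeRestrict_surjective

theorem isSolvable_act (h : Group.IsSolvable A) : Group.IsSolvable (actSubgroup φ) :=
  have := h
  Group.isSolvable_of_surjective
    (SemidirectProduct.inr : A →* K ⋊[φ] A).rangeRestrict_surjective

theorem isSolvable_act_or_base (h : Group.IsSolvable A ∨ Group.IsSolvable K) :
    Group.IsSolvable (actSubgroup φ) ∨ Group.IsSolvable (baseSubgroup φ) :=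
  h.imp (isSolvable_act φ) (isSolvable_base φ)

theorem map_inl_le_base (S : Subgroup K) :
    S.map (SemidirectProduct.inl : K →* K ⋊[φ] A) ≤ baseSubgroup φ := by
  rintro _ ⟨k, -, rfl⟩
  exact ⟨k, rfl⟩

theorem inl_act (a : A) (k : K) : (SemidirectProduct.inl (φ a k) : K ⋊[φ] A) =
    SemidirectProduct.inr a * SemidirectProduct.inl k * (SemidirectProduct.inr a)⁻¹ := by
  rw [SemidirectProduct.inl_aut, map_inv]

/-- A subgroup of `K` is `A`-invariant iff the image is normalised by `A`. -/
theorem act_le_normalizer_map_iff (S : Subgroup K) :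
    actSubgroup φ ≤ Subgroup.normalizer
        ((S.map (SemidirectProduct.inl : K →* K ⋊[φ] A)) : Set (K ⋊[φ] A)) ↔
      ∀ a, ∀ s ∈ S, φ a s ∈ S := by
  constructor
  · intro h a s hs
    have h1 := conj_mem (h ⟨a, rfl⟩) (Subgroup.mem_map_of_mem SemidirectProduct.inl hs)
    rw [← inl_act] at h1
    obtain ⟨t, ht, hts⟩ := h1
    rwa [← SemidirectProduct.inl_injective hts]
  · intro h
    refine le_normalizer_of_conj_mem ?_
    rintro _ ⟨a, rfl⟩ _ ⟨s, hs, rfl⟩
    exact ⟨φ a s, h a s hs, inl_act φ a s⟩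

/-- Fixed points correspond to centralisers. -/
theorem inl_mem_centralizer_iff (k : K) :
    SemidirectProduct.inl k ∈ Subgroup.centralizer (actSubgroup φ : Set (K ⋊[φ] A)) ↔
      ∀ a, φ a k = k := by
  rw [mem_centralizer_iff_conj]
  constructor
  · intro h a
    apply SemidirectProduct.inl_injective (φ := φ)
    rw [inl_act]
    exact h _ ⟨a, rfl⟩
  · rintro h _ ⟨a, rfl⟩
    rw [← inl_act, h a]

/-- `[K,A]` inside `K ⋊ A` is the image of the subgroup generated by `k * (a k)⁻¹`. -/
theorem commutator_base_act :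
    ⁅baseSubgroup φ, actSubgroup φ⁆ =
      (Subgroup.closure {x : K | ∃ k a, x = k * (φ a k)⁻¹}).map
        (SemidirectProduct.inl : K →* K ⋊[φ] A) := by
  have key : ∀ k a, (⁅SemidirectProduct.inl k, SemidirectProduct.inr a⁆ : K ⋊[φ] A) =
      SemidirectProduct.inl (k * (φ a k)⁻¹) := fun k a => by
    rw [map_mul, map_inv, SemidirectProduct.inl_aut, commutatorElement_def, map_inv]
    simp [mul_assoc]
  refine le_antisymm ?_ ?_
  · rw [Subgroup.commutator_le]
    rintro _ ⟨k, rfl⟩ _ ⟨a, rfl⟩
    rw [key]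
    exact Subgroup.mem_map_of_mem _ (Subgroup.subset_closure ⟨k, a, rfl⟩)
  · rw [Subgroup.map_le_iff_le_comap, Subgroup.closure_le]
    rintro _ ⟨k, a, rfl⟩
    rw [SetLike.mem_coe, Subgroup.mem_comap, ← key]
    exact Subgroup.commutator_mem_commutator ⟨k, rfl⟩ ⟨a, rfl⟩

variable [Finite K] [Finite A]

/-- Fixed points in an invariant coset. -/
theorem exists_fixed_mem_coset (hcop : (Nat.card A).Coprime (Nat.card K))
    (hsolv : Group.IsSolvable A ∨ Group.IsSolvable K) (S : Subgroup K)
    (hS : ∀ a, ∀ s ∈ S, φ a s ∈ S) (k : K) (hfix : ∀ a, k⁻¹ * φ a k ∈ S) :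
    ∃ c, (∀ a, φ a c = c) ∧ k⁻¹ * c ∈ S := by
  have := finite_semidirect φ
  have hle := map_inl_le_base φ S
  obtain ⟨c, hc, hkc⟩ := CoprimeAction.exists_fixed_mem_coset
    ((act_le_normalizer_map_iff φ S).2 hS)
    (coprime_of_le_right hle (coprime_act_base φ hcop))
    (isSolvable_or_of_le hle (isSolvable_act_or_base φ hsolv))
    (SemidirectProduct.inl k) (by
      rintro _ ⟨a, rfl⟩
      refine ⟨k⁻¹ * φ a k, hfix a, ?_⟩
      rw [map_mul, map_inv, SemidirectProduct.inl_aut]
      simp [mul_assoc])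
  obtain ⟨s, hs, hsk⟩ := hkc
  have hceq : c = SemidirectProduct.inl (k * s) := by
    rw [map_mul, hsk, mul_inv_cancel_left]
  subst hceq
  exact ⟨k * s, (inl_mem_centralizer_iff φ _).1 hc, by rwa [inv_mul_cancel_left]⟩

/-- An invariant Sylow subgroup exists. -/
theorem exists_invariant_sylow (hcop : (Nat.card A).Coprime (Nat.card K))
    (hsolv : Group.IsSolvable A ∨ Group.IsSolvable K) (p : ℕ) [Fact p.Prime] :
    ∃ P : Sylow p K, ∀ a, ∀ x ∈ (P : Subgroup K), φ a x ∈ (P : Subgroup K) := by
  have := finite_semidirect φ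
  obtain ⟨P, hP⟩ := CoprimeAction.exists_invariant_sylow (act_le_normalizer_base φ)
    (coprime_act_base φ hcop) (isSolvable_act_or_base φ hsolv) p
  set P' := ((P : Subgroup (baseSubgroup φ)).map (baseSubgroup φ).subtype)
  set S := P'.comap (SemidirectProduct.inl : K →* K ⋊[φ] A) with hS
  have hmap : S.map (SemidirectProduct.inl : K →* K ⋊[φ] A) = P' :=
    Subgroup.map_comap_eq_self (Subgroup.map_subtype_le _)
  have hcard : Nat.card S = p ^ (Nat.card K).factorization p := by
    have h1 := card_map_sylow P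
    rw [card_baseSubgroup] at h1
    rw [← h1]
    refine Eq.trans ?_ (congrArg (fun X : Subgroup (K ⋊[φ] A) => Nat.card X) hmap)
    exact (Subgroup.card_map_of_injective SemidirectProduct.inl_injective).symm
  exact ⟨Sylow.ofCard S hcard, (act_le_normalizer_map_iff φ S).1 (hmap ▸ hP)⟩

/-- `K = [K,A] C_K(A)`. -/
theorem exists_mul_fixed (hcop : (Nat.card A).Coprime (Nat.card K))
    (hsolv : Group.IsSolvable A ∨ Group.IsSolvable K) (k : K) :
    ∃ x ∈ Subgroup.closure {x : K | ∃ k a, x = k * (φ a k)⁻¹}, ∃ c, (∀ a, φ a c = c) ∧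
      k = x * c := by
  have := finite_semidirect φ
  obtain ⟨x, hx, c, hc, hkc⟩ := CoprimeAction.exists_mul_fixed (act_le_normalizer_base φ)
    (coprime_act_base φ hcop) (isSolvable_act_or_base φ hsolv)
    (k := SemidirectProduct.inl k) ⟨k, rfl⟩
  rw [commutator_base_act] at hx
  obtain ⟨x, hx', rfl⟩ := hx
  obtain ⟨c, rfl⟩ := hc.1
  refine ⟨x, hx', c, (inl_mem_centralizer_iff φ c).1 hc.2, ?_⟩
  exact SemidirectProduct.inl_injective (hkc.trans (map_mul SemidirectProduct.inl x c).symm)

/-- Stability: fixing `S` pointwise and each coset of `S` implies trivial action. -/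
theorem eq_self_of_stabilizes (hcop : (Nat.card A).Coprime (Nat.card K)) (S : Subgroup K)
    (hS : ∀ a, ∀ s ∈ S, φ a s = s) (k : K) (hfix : ∀ a, k⁻¹ * φ a k ∈ S) (a : A) :
    φ a k = k := by
  obtain ⟨c, hc, hkc⟩ := exists_fixed_mem_coset (φ.comp (Subgroup.zpowers a).subtype)
    (hcop.coprime_dvd_left (Subgroup.card_subgroup_dvd_card _))
    (Or.inl (isSolvable_zpowers a)) S (fun b s hs => (hS b s hs).symm ▸ hs) k (fun b => hfix b)
  have h1 : φ a (k⁻¹ * c) = k⁻¹ * c := hS a _ hkc
  rw [map_mul, map_inv, show φ a c = c from hc ⟨a, Subgroup.mem_zpowers a⟩, mul_left_inj,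
    inv_inj] at h1
  exact h1

/-- Trivial action modulo the Frattini subgroup implies trivial action. -/
theorem eq_self_of_frattini (hcop : (Nat.card A).Coprime (Nat.card (frattini K)))
    (hfix : ∀ a k, k⁻¹ * φ a k ∈ frattini K) (a : A) (k : K) : φ a k = k := by
  have := finite_semidirect φ
  have hmem : ∀ s : Subgroup (baseSubgroup φ), s = frattini (baseSubgroup φ) →
      s.map (baseSubgroup φ).subtype = (frattini K).map SemidirectProduct.inl := by
    rintro _ rfl
    let e : K ≃* baseSubgroup φ := MonoidHom.ofInjective SemidirectProduct.inl_injective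
    have h1 : (frattini K).map e.toMonoidHom = frattini (baseSubgroup φ) := by
      refine le_antisymm ?_ ?_
      · exact Subgroup.map_le_iff_le_comap.2
          (frattini_le_comap_frattini_of_surjective (φ := e.toMonoidHom) e.surjective)
      · rw [Subgroup.map_equiv_eq_comap_symm']
        exact frattini_le_comap_frattini_of_surjective (φ := e.symm.toMonoidHom) e.symm.surjective
    rw [← h1, Subgroup.map_map]
    rfl
  have h := CoprimeAction.le_centralizer_of_frattini (act_le_normalizer_base φ) (by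
    rw [card_actSubgroup, ← Subgroup.card_map_of_injective (baseSubgroup φ).subtype_injective,
      hmem _ rfl, Subgroup.card_map_of_injective SemidirectProduct.inl_injective]
    exact hcop) (by
    rintro _ ⟨b, rfl⟩ _ ⟨x, rfl⟩
    rw [hmem _ rfl]
    refine ⟨φ b x * x⁻¹, ?_, ?_⟩
    · have := (inferInstance : (frattini K).Normal).conj_mem _ (hfix b x) x
      rwa [mul_inv_cancel_left] at this
    · rw [map_mul, SemidirectProduct.inl_aut, map_inv, map_inv])
  have h2 := Subgroup.mem_centralizer_iff.1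
    (h (⟨a, rfl⟩ : SemidirectProduct.inr a ∈ actSubgroup φ)) _ ⟨k, rfl⟩
  apply SemidirectProduct.inl_injective (φ := φ)
  rw [SemidirectProduct.inl_aut, ← h2, map_inv, mul_inv_cancel_right]

/-- Generation by fixed points for a noncyclic abelian group of automorphisms. -/
theorem le_of_fixed_points [IsMulCommutative A] (hA : ¬ IsCyclic A)
    (hcop : (Nat.card A).Coprime (Nat.card K)) (H : Subgroup K)
    (hfix : ∀ a, a ≠ 1 → ∀ k, φ a k = k → k ∈ H) : H = ⊤ := by
  have := finite_semidirect φ
  let e : A ≃* actSubgroup φ := MonoidHom.ofInjective SemidirectProduct.inr_injective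
  have : IsMulCommutative (actSubgroup φ) := ⟨⟨fun x y => e.symm.injective (by
    rw [map_mul, map_mul]; exact mul_comm' _ _)⟩⟩
  have hnc : ¬ IsCyclic (actSubgroup φ) := fun h =>
    hA (isCyclic_of_surjective e.symm.toMonoidHom e.symm.surjective)
  have h := CoprimeGen.le_of_centralizers hnc (act_le_normalizer_base φ) (coprime_act_base φ hcop)
    (H := H.map SemidirectProduct.inl) (by
      rintro _ ⟨a, rfl⟩ ha x ⟨⟨k, rfl⟩, hk⟩
      refine Subgroup.mem_map_of_mem _ (hfix a (fun h => ha (by rw [h, map_one])) k ?_)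
      apply SemidirectProduct.inl_injective (φ := φ)
      rw [SemidirectProduct.inl_aut, ← Subgroup.mem_centralizer_singleton_iff.1 hk, map_inv,
        mul_inv_cancel_right])
  rw [eq_top_iff]
  intro k _
  obtain ⟨k', hk', hkk⟩ := h (⟨k, rfl⟩ : SemidirectProduct.inl k ∈ baseSubgroup φ)
  rwa [← SemidirectProduct.inl_injective hkk]

end Cfsg.Agent.CoprimeActionAut
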