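import Cfsg.Agent.Lib.FusionSysNormal

/-!
Normality criteria through strongly closed series and through extension to the subgroup.
-/

set_option autoImplicit false

namespace Cfsg.Agent.FusionSysChain

open scoped commutatorElement
open Cfsg Cfsg.FusionSystem Cfsg.Agent.FusionSysBasic Cfsg.Agent.FusionSysSaturated
  Cfsg.Agent.FusionSysAlperin Cfsg.Agent.FusionSysNormal

variable {Ω : Type*} [Group Ω] {S : Subgroup Ω} {F : FusionSystem S} {p : ℕ}

theorem cj_div_eq (g y : Ω) : y⁻¹ * cj g y = (⁅g, y⁻¹⁆)⁻¹ := by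
  simp only [cj_apply, commutatorElement_def]; group

/-- The automorphisms in `A` stabilizing the series `Y`. -/
def stabGroup {P : Subgroup Ω} (A : Subgroup (MulAut P)) (Y : ℕ → Subgroup Ω) (n : ℕ)
    (hYP : ∀ i ≤ n, Y i ≤ P) (hinv : ∀ α ∈ A, ∀ i ≤ n, ∀ y ∈ Y i, afun α y ∈ Y i) :
    Subgroup (MulAut P) where
  carrier := {α | α ∈ A ∧ ∀ i < n, ∀ y ∈ Y (i + 1), y⁻¹ * afun α y ∈ Y i}
  one_mem' := ⟨one_mem A, fun i hi y hy => by
    rw [afun_one (hYP (i + 1) hi hy), inv_mul_cancel]; exact one_mem _⟩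
  mul_mem' {α β} := fun ⟨hα, h⟩ ⟨hβ, h'⟩ => ⟨mul_mem hα hβ, fun i hi y hy => by
    have hyP := hYP (i + 1) hi hy
    have hd := h' i hi y hy
    have hdP := hYP i hi.le hd
    have e : afun β y = y * (y⁻¹ * afun β y) := (mul_inv_cancel_left _ _).symm
    rw [afun_mul _ _ hyP, e, afun_map_mul α hyP hdP, ← mul_assoc]
    exact mul_mem (h i hi y hy) (hinv α hα i hi.le _ hd)⟩
  inv_mem' {α} := fun ⟨hα, h⟩ => ⟨inv_mem hα, fun i hi y hy => by
    have hz := hinv α⁻¹ (inv_mem hα) (i + 1) hi y hy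
    have := h i hi _ hz
    rw [afun_apply_inv α (hYP (i + 1) hi hy)] at this
    simpa using inv_mem this⟩

theorem stabGroup_normal {P : Subgroup Ω} {A : Subgroup (MulAut P)} {Y : ℕ → Subgroup Ω} {n : ℕ}
    {hYP : ∀ i ≤ n, Y i ≤ P} {hinv : ∀ α ∈ A, ∀ i ≤ n, ∀ y ∈ Y i, afun α y ∈ Y i}
    {β m : MulAut P} (hβ : β ∈ A) (hm : m ∈ stabGroup A Y n hYP hinv) :
    β * m * β⁻¹ ∈ stabGroup A Y n hYP hinv := by
  refine ⟨mul_mem (mul_mem hβ hm.1) (inv_mem hβ), fun i hi y hy => ?_⟩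
  have hyP := hYP (i + 1) hi hy
  have hz := hinv β⁻¹ (inv_mem hβ) (i + 1) hi y hy
  have hd := hm.2 i hi _ hz
  have h2 := hinv β hβ i hi.le _ hd
  have hzP := hYP (i + 1) hi hz
  rw [afun_map_mul β (inv_mem hzP) (afun_mem m hzP)] at h2
  have einv : afun β (afun β⁻¹ y)⁻¹ = y⁻¹ := by
    have := afun_map_mul β (inv_mem hzP) hzP
    rw [inv_mul_cancel, afun_apply_inv β hyP] at this
    have h1 : afun β (1 : Ω) = 1 := by
      rw [afun_apply _ P.one_mem]; exact congrArg Subtype.val (map_one β)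
    rw [h1] at this
    exact eq_inv_of_mul_eq_one_left this.symm
  rw [einv] at h2
  rwa [afun_mul _ _ hyP, afun_mul _ _ hzP]

variable [Finite S] [Fact p.Prime]

theorem isPGroup_stabGroup (hS : IsPGroup p S) {P : Subgroup Ω} (hP : P ≤ S)
    {A : Subgroup (MulAut P)} {Y : ℕ → Subgroup Ω} {n : ℕ} (h0 : Y 0 = ⊥) (hn : Y n = P)
    (hmono : ∀ i < n, Y i ≤ Y (i + 1)) {hYP : ∀ i ≤ n, Y i ≤ P}
    {hinv : ∀ α ∈ A, ∀ i ≤ n, ∀ y ∈ Y i, afun α y ∈ Y i} :
    IsPGroup p (stabGroup A Y n hYP hinv) := by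
  intro ⟨α, hα⟩
  haveI := finite_of_le hP
  have := pow_eq_one_of_stabilizes (p := p) (hS.to_le hP) (n := n) (α := α)
    (fun i => if i ≤ n then Y i else P) (by simp [h0]) (by simp [hn])
    (fun i => by split <;> rename_i h <;> [exact hYP i h; exact le_rfl])
    (fun i hi => by simp [hi.le, show i + 1 ≤ n from hi, hmono i hi]) (fun i hi y hy => by
      simp only [hi.le, show i + 1 ≤ n from hi, if_true] at hy ⊢
      exact hα.2 i hi y hy)
  obtain ⟨k, hk⟩ := this
  exact ⟨k, Subtype.ext hk⟩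

/-- A subgroup with a strongly closed central series is contained in every centric radical
subgroup. -/
theorem le_centric_radical_of_chain (hS : IsPGroup p S) {Q : Subgroup Ω} {n : ℕ}
    (X : ℕ → Subgroup Ω) (h0 : X 0 = ⊥) (hn : X n = Q) (hQ : F.StronglyClosed Q)
    (hmono : ∀ i < n, X i ≤ X (i + 1))
    (hsc : ∀ i < n, F.StronglyClosed (X (i + 1))) (hcomm : ∀ i < n, ⁅Q, X (i + 1)⁆ ≤ X i)
    {P : Subgroup Ω} (hc : F.IsCentric P) (hr : F.IsRadical p P) : Q ≤ P := by
  have hPS := hc.1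
  let Y : ℕ → Subgroup Ω := fun i => if i ≤ n then P ⊓ X i else P
  have hinv : ∀ α ∈ F.autGroup P, ∀ i ≤ n + 1, ∀ y ∈ Y i, afun α y ∈ Y i := by
    intro α hα i hi y hy
    by_cases h : i ≤ n
    · simp only [Y, h, if_true] at hy ⊢
      refine ⟨afun_mem α hy.1, ?_⟩
      obtain _ | j := i
      · have : y = 1 := by simpa [h0] using hy.2
        subst this
        rw [afun_apply _ P.one_mem]
        rw [show (⟨1, P.one_mem⟩ : P) = 1 from rfl, map_one]
        exact one_mem _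
      · exact stronglyClosed_invariant (hsc j (by omega)) ((mem_autGroup hPS).mp hα) hy.1 hy.2
    · simp only [Y, h, if_false] at hy ⊢
      exact afun_mem α hy
  have hYP : ∀ i ≤ n + 1, Y i ≤ P := by
    intro i _
    by_cases h : i ≤ n <;> simp [Y, h]
  refine le_of_normal_pSubgroup hS hc hr hQ.1
    (hPS.trans (le_normalizer_of_stronglyClosed hQ))
    (M := stabGroup (F.autGroup P) Y (n + 1) hYP hinv) (fun α hα => hα.1)
    (isPGroup_stabGroup hS hPS (by simp [Y, h0]) (by simp [Y]) ?_)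
    (fun β hβ m hm => stabGroup_normal hβ hm) fun g hg => ⟨autInducedBy_le hPS ?_, fun i hi y hy => ?_⟩
  · intro i hi
    by_cases h : i + 1 ≤ n
    · have h' : i ≤ n := by omega
      simp only [Y, h, h', if_true]
      exact inf_le_inf_left _ (hmono i (by omega))
    · have h' : i ≤ n := by omega
      simp only [Y, h, h', if_true, if_false]
      exact inf_le_left
  · exact mem_autInducedBy.mpr ⟨g, g.2.1, g.2.2, fun x hx => afun_nHom g hx⟩
  · have hyP : y ∈ P := hYP (i + 1) hi hy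
    have h1 : y⁻¹ * afun (nHom S P g) y ∈ P := mul_mem (inv_mem hyP) (afun_mem _ hyP)
    rw [afun_nHom g hyP] at h1 ⊢
    by_cases h : i + 1 ≤ n
    · have h' : i ≤ n := by omega
      simp only [Y, h, h', if_true] at hy ⊢
      refine ⟨h1, ?_⟩
      rw [cj_div_eq]
      exact (X i).inv_mem (hcomm i (by omega)
        (Subgroup.commutator_mem_commutator hg ((X (i + 1)).inv_mem hy.2)))
    · have h' : i = n := by omega
      subst h'
      simp only [Y, le_refl, if_true]
      refine ⟨h1, ?_⟩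
      rw [hn, cj_div_eq]
      refine Q.inv_mem ?_
      have : (y⁻¹ : Ω) ∈ Subgroup.normalizer (Q : Set Ω) :=
        le_normalizer_of_stronglyClosed hQ (hPS (inv_mem hyP))
      rw [commutatorElement_def, show (g : Ω) * y⁻¹ * (g : Ω)⁻¹ * y⁻¹⁻¹ =
        g * cj y⁻¹ (g : Ω)⁻¹ by simp only [cj_apply]; group]
      exact Q.mul_mem hg (cj_mem_of_normalizer this (Q.inv_mem hg))

/-- A subgroup with a strongly closed central series is normal. -/
theorem isNormal_of_chain (hS : IsPGroup p S) (hF : F.IsSaturated p) {Q : Subgroup Ω} {n : ℕ}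
    (X : ℕ → Subgroup Ω) (h0 : X 0 = ⊥) (hn : X n = Q) (hQ : F.StronglyClosed Q)
    (hmono : ∀ i < n, X i ≤ X (i + 1))
    (hsc : ∀ i < n, F.StronglyClosed (X (i + 1))) (hcomm : ∀ i < n, ⁅Q, X (i + 1)⁆ ≤ X i) :
    F.IsNormal Q :=
  isNormal_of_le_centric_radical hS hF hQ fun _ hP =>
    le_centric_radical_of_chain hS X h0 hn hQ hmono hsc hcomm hP.1 (radical_of_essential hS hP)

/-- An abelian strongly closed subgroup is normal. -/
theorem isNormal_of_abelian (hS : IsPGroup p S) (hF : F.IsSaturated p) {Q : Subgroup Ω}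
    (hab : IsMulCommutative Q) (hQ : F.StronglyClosed Q) : F.IsNormal Q := by
  refine isNormal_of_chain hS hF (n := 1) (fun i => if i = 0 then ⊥ else Q) rfl rfl hQ
    (fun i hi => ?_) (fun i hi => ?_) (fun i hi => ?_)
  · simp [Nat.lt_one_iff.mp hi]
  · simpa using hQ
  · simp only [Nat.lt_one_iff.mp hi]
    refine Subgroup.commutator_le.mpr fun a ha b hb => ?_
    have := congrArg Subtype.val (hab.1.comm ⟨a, ha⟩ ⟨b, hb⟩)
    simp only [Subgroup.coe_mul] at this
    simp [commutatorElement_eq_one_iff_mul_comm, this]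

omit [Fact p.Prime] in
/-- The terms of the upper central series of a normal subgroup are normal in the system. -/
theorem normal_upperCentralSeries {Q : Subgroup Ω} (hQ : F.IsNormal Q) (i : ℕ) :
    F.IsNormal ((Subgroup.upperCentralSeries Q i).map Q.subtype) := by
  refine normal_of_characteristic hQ (Subgroup.map_subtype_le _) ?_
  rw [show ((Subgroup.upperCentralSeries Q i).map Q.subtype).subgroupOf Q =
    Subgroup.upperCentralSeries Q i from
    Subgroup.comap_map_eq_self_of_injective Q.subtype_injective _]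
  infer_instance

/-- A normal subgroup has a central series of normal subgroups. -/
theorem exists_chain_of_normal (hS : IsPGroup p S) {Q : Subgroup Ω} (hQ : F.IsNormal Q) :
    ∃ (n : ℕ) (X : ℕ → Subgroup Ω), X 0 = ⊥ ∧ X n = Q ∧ Monotone X ∧
      (∀ i, F.IsNormal (X i)) ∧ ∀ i, ⁅Q, X (i + 1)⁆ ≤ X i := by
  haveI := finite_of_le hQ.1
  haveI := (hS.to_le hQ.1).isNilpotent
  obtain ⟨n, hn⟩ := Group.IsNilpotent.nilpotent (G := Q)
  refine ⟨n, fun i => (Subgroup.upperCentralSeries Q i).map Q.subtype, ?_, ?_, ?_,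
    normal_upperCentralSeries hQ, fun i => ?_⟩
  · simp
  · dsimp only
    rw [hn, ← MonoidHom.range_eq_map, Subgroup.range_subtype]
  · exact fun a b h => Subgroup.map_mono (Subgroup.upperCentralSeries_mono Q h)
  · refine Subgroup.commutator_le.mpr ?_
    rintro a ha _ ⟨b, hb, rfl⟩
    refine ⟨⁅(⟨a, ha⟩ : Q), b⁆, ?_, rfl⟩
    have := Subgroup.mem_upperCentralSeries_succ_iff.mp hb ⟨a, ha⟩
    rw [← commutatorElement_inv] at this
    exact inv_mem_iff.mp this

/-- `O_p(F) ≠ 1` gives a nontrivial abelian normal subgroup. -/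
theorem exists_abelian_normal (hS : IsPGroup p S) {Q : Subgroup Ω} (hQ : F.IsNormal Q)
    (hne : Q ≠ ⊥) : ∃ Z : Subgroup Ω, Z ≠ ⊥ ∧ IsMulCommutative Z ∧ F.IsNormal Z := by
  haveI := finite_of_le hQ.1
  haveI : Nontrivial Q := Q.nontrivial_iff_ne_bot.mpr hne
  refine ⟨(Subgroup.center Q).map Q.subtype, ?_, ?_, ?_⟩
  · intro e
    haveI := (hS.to_le hQ.1).center_nontrivial
    obtain ⟨z, hz⟩ := exists_ne (1 : Subgroup.center Q)
    have h1 : ((z : Q) : Ω) ∈ (Subgroup.center Q).map Q.subtype := ⟨z, z.2, rfl⟩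
    rw [e, Subgroup.mem_bot] at h1
    exact hz (Subtype.ext (Subtype.ext h1))
  · refine ⟨⟨fun ⟨a, a', ha', ha⟩ ⟨b, b', hb', hb⟩ => Subtype.ext ?_⟩⟩
    subst ha hb
    show Q.subtype a' * Q.subtype b' = Q.subtype b' * Q.subtype a'
    rw [← map_mul, Subgroup.mem_center_iff.mp hb' a', map_mul]
  · have := normal_upperCentralSeries hQ 1
    rwa [Subgroup.upperCentralSeries_one] at this

/-- If every map inside `R` extends to an automorphism of `R` in the system, `R` is normal. -/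
theorem isNormal_of_extends (hS : IsPGroup p S) (hF : F.IsSaturated p) {R : Subgroup Ω}
    (hRS : R ≤ S) (h : ∀ (X : Subgroup Ω) (f : Ω → Ω), X ≤ R → Mor F X f →
      ∃ γ ∈ F.autGroup R, ∀ x ∈ X, afun γ x = f x) : F.IsNormal R := by
  have hsc : F.StronglyClosed R := stronglyClosed_iff.mpr ⟨hRS, fun X f hX hf x hx => by
    obtain ⟨γ, -, he⟩ := h X f hX hf
    rw [← he x hx]
    exact afun_mem γ (hX hx)⟩
  refine isNormal_of_le_centric_radical hS hF hsc fun P hess => ?_
  have hc := hess.1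
  have hPS := hc.1
  set W := P ⊓ R with hW
  let Y : ℕ → Subgroup Ω := fun i => if i = 0 then W else P
  have hYP : ∀ i ≤ 1, Y i ≤ P := fun i _ => by by_cases h : i = 0 <;> simp [Y, h, hW]
  have hWinv : ∀ α ∈ F.autGroup P, ∀ w ∈ W, afun α w ∈ W := fun α hα w hw =>
    ⟨afun_mem α hw.1, stronglyClosed_invariant hsc ((mem_autGroup hPS).mp hα) hw.1 hw.2⟩
  have hinv : ∀ α ∈ F.autGroup P, ∀ i ≤ 1, ∀ y ∈ Y i, afun α y ∈ Y i := fun α hα i _ y hy => by
    by_cases h : i = 0
    · simp only [Y, h, if_true] at hy ⊢; exact hWinv α hα y hy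
    · simp only [Y, h, if_false] at hy ⊢; exact afun_mem α hy
  let T := stabGroup (F.autGroup P) Y 1 hYP hinv
  have hN : ∀ r ∈ Subgroup.normalizer (W : Set Ω), ∀ w ∈ W, cj r w ∈ W := fun r hr w hw =>
    cj_mem_of_normalizer hr hw
  let M : Subgroup (MulAut P) :=
    { carrier := {α | α ∈ T ∧ ∃ r ∈ R, r ∈ Subgroup.normalizer (W : Set Ω) ∧
        ∀ w ∈ W, afun α w = cj r w}
      one_mem' := ⟨one_mem T, 1, one_mem R, one_mem _, fun w hw => by
        rw [afun_one hw.1, cj_one]⟩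
      mul_mem' := fun {α β} ⟨hα, r, hr, hrn, he⟩ ⟨hβ, r', hr', hrn', he'⟩ =>
        ⟨mul_mem hα hβ, r * r', mul_mem hr hr', mul_mem hrn hrn', fun w hw => by
          rw [afun_mul _ _ hw.1, he' w hw, he _ (hN r' hrn' w hw), cj_cj]⟩
      inv_mem' := fun {α} ⟨hα, r, hr, hrn, he⟩ =>
        ⟨inv_mem hα, r⁻¹, inv_mem hr, inv_mem hrn, fun w hw => by
          have hw' := hN r⁻¹ (inv_mem hrn) w hw
          have h1 := he _ hw'
          rw [cj_cj_inv] at h1
          conv_lhs => rw [← h1]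
          exact afun_inv_apply α hw'.1⟩ }
  refine le_of_normal_pSubgroup hS hc (radical_of_essential hS hess) hRS
    (hPS.trans (le_normalizer_of_stronglyClosed hsc)) (M := M) (fun α hα => hα.1.1) ?_ ?_ ?_
  · rintro ⟨α, hαT, r, hr, hrn, he⟩
    haveI := finite_of_le hPS
    obtain ⟨c, hc'⟩ := IsPGroup.iff_card.mp (hS.to_le hPS)
    obtain ⟨k, hk⟩ := hS ⟨r, hRS hr⟩
    have hk' : r ^ p ^ k = 1 := congrArg Subtype.val hk
    have hpow : ∀ m : ℕ, ∀ w ∈ W, afun (α ^ m) w = cj (r ^ m) w := by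
      intro m
      induction m with
      | zero => intro w hw; rw [pow_zero, pow_zero, afun_one hw.1, cj_one]
      | succ m ih =>
        intro w hw
        rw [pow_succ, pow_succ, afun_mul _ _ hw.1, he w hw, ih _ (hN r hrn w hw), cj_cj]
    set β := α ^ p ^ k
    have hfix : ∀ w ∈ W, afun β w = w := fun w hw => by rw [hpow _ w hw, hk', cj_one]
    have hstep : ∀ y ∈ P, y⁻¹ * afun β y ∈ W := by
      have := (T.pow_mem hαT (p ^ k)).2 0 Nat.one_pos
      simpa [Y] using this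
    refine ⟨k + c, Subtype.ext (afun_ext fun y hy => ?_)⟩
    show afun (α ^ p ^ (k + c)) y = afun 1 y
    rw [pow_add, pow_mul, pow_fix_step le_rfl hfix hstep _ y hy, afun_one hy]
    have := pow_card_eq_one' (G := P) (x := ⟨_, (hstep y hy).1⟩)
    rw [hc'] at this
    rw [congrArg Subtype.val this |>.trans rfl |> fun e => (show (y⁻¹ * afun β y) ^ p ^ c = 1 from e),
      mul_one]
  · rintro β hβ m ⟨hmT, r, hr, hrn, he⟩
    refine ⟨stabGroup_normal hβ hmT, ?_⟩
    obtain ⟨γ, hγ, hγe⟩ := h W (afun β) inf_le_right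
      (((mem_autGroup hPS).mp hβ).restrict_to inf_le_left)
    have hγm := (mem_autGroup hRS).mp hγ
    have key : ∀ w ∈ W, afun (β * m * β⁻¹) w = cj (afun γ r) w := by
      intro w hw
      have hw' := hWinv β⁻¹ (inv_mem hβ) w hw
      rw [afun_mul _ _ hw.1, afun_mul _ _ hw'.1, he _ hw', ← hγe _ (hN r hrn _ hw'),
        hγm.map_cj hr hw'.2, hγe _ hw', afun_apply_inv β hw.1]
    refine ⟨afun γ r, afun_mem γ hr, mem_normalizer_of_cj_le (inf_le_left.trans hPS) ?_, key⟩
    intro w hw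
    rw [← key w hw]
    exact hWinv _ (mul_mem (mul_mem hβ hmT.1) (inv_mem hβ)) w hw
  · intro g hg
    refine ⟨⟨autInducedBy_le hPS (mem_autInducedBy.mpr
      ⟨g, g.2.1, g.2.2, fun x hx => afun_nHom g hx⟩), fun i hi y hy => ?_⟩, g, hg, ?_, ?_⟩
    · obtain rfl := Nat.lt_one_iff.mp hi
      simp only [Y, Nat.zero_add, Nat.one_ne_zero, if_false, if_true] at hy ⊢
      have h1 : y⁻¹ * afun (nHom S P g) y ∈ P := mul_mem (inv_mem hy) (afun_mem _ hy)
      rw [afun_nHom g hy] at h1 ⊢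
      refine ⟨h1, ?_⟩
      rw [show y⁻¹ * cj (g : Ω) y = cj y⁻¹ (g : Ω) * (g : Ω)⁻¹ by simp only [cj_apply]; group]
      exact R.mul_mem (cj_mem_of_stronglyClosed hsc (hPS (P.inv_mem hy)) hg) (R.inv_mem hg)
    · refine mem_normalizer_of_cj_le (inf_le_left.trans hPS) fun w hw =>
        ⟨cj_mem_of_normalizer g.2.2 hw.1, cj_mem_of_stronglyClosed hsc g.2.1 hw.2⟩
    · exact fun w hw => afun_nHom g hw.1

end Cfsg.Agent.FusionSysChain
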