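import Mathlib
import Cfsg.Prelude.Def_Transfer
import Cfsg.Agent.Lib.PGroupsBasic

/-!
# Critical subgroups and maximal normal abelian subgroups of `p`-groups

Thompson's critical subgroup, the order bound from a self-centralizing normal abelian subgroup, and
Alperin's lemma on maximal normal abelian subgroups of bounded exponent.
-/

set_option autoImplicit false
set_option linter.style.haveILetI false
set_option linter.unusedSectionVars false
set_option linter.unusedVariables false

namespace Cfsg.Agent.PGroupsCritical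

open Subgroup Cfsg.Agent.PGroupsBasic
open scoped commutatorElement

variable {G : Type*} [Group G]

theorem isMulCommutative_sup_zpowers {A : Subgroup G} (hA : IsMulCommutative A) {x : G}
    (hx : x ∈ centralizer (A : Set G)) : IsMulCommutative ↥(A ⊔ zpowers x) := by
  rw [sup_eq_closure]
  refine isMulCommutative_of_le_centralizer ?_
  rw [closure_le, centralizer_closure]
  have hz : zpowers x ≤ centralizer (A : Set G) := zpowers_le.mpr hx
  rintro u (hu | hu) <;> refine mem_centralizer_iff.mpr ?_ <;> rintro v (hv | hv)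
  · exact comm_of_isMulCommutative hA hv hu
  · exact (mem_centralizer_iff.mp (hz hv) u hu).symm
  · exact mem_centralizer_iff.mp (hz hu) v hv
  · exact comm_of_isMulCommutative (isMulCommutative_zpowers x) hv hu

theorem normal_sup_zpowers {A : Subgroup G} [hAn : A.Normal] {x : G} (hx : ∀ g : G, ⁅g, x⁆ ∈ A) :
    (A ⊔ zpowers x).Normal := by
  refine ⟨fun u hu g => ?_⟩
  have hle : (A ⊔ zpowers x).map (MulAut.conj g).toMonoidHom ≤ A ⊔ zpowers x := by
    rw [Subgroup.map_sup, MonoidHom.map_zpowers, sup_le_iff, zpowers_le]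
    refine ⟨?_, ?_⟩
    · rintro _ ⟨a, ha, rfl⟩
      exact le_sup_left (b := zpowers x) (hAn.conj_mem a ha g)
    · have : (MulAut.conj g).toMonoidHom x = ⁅g, x⁆ * x := by
        simp [commutatorElement_def, MulAut.conj_apply, mul_assoc]
      rw [this]
      exact mul_mem_sup (hx g) (mem_zpowers x)
  have := hle (mem_map_of_mem _ hu)
  simpa [MulAut.conj_apply] using this

variable {p : ℕ} [hp : Fact p.Prime] [Finite G]

theorem exists_succ_not_le {A B : Subgroup G} (hle : A ≤ B) (h : Nat.card B = Nat.card A * p) :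
    ∃ x ∈ B, x ∉ A := by
  refine SetLike.not_le_iff_exists.mp fun hBA => ?_
  have := Subgroup.card_le_of_le hBA
  rw [h] at this
  exact absurd this (Nat.not_le.mpr (lt_mul_of_one_lt_right Nat.card_pos hp.out.one_lt))

theorem relIndex_of_succ {A B : Subgroup G} (hle : A ≤ B) (h : Nat.card B = Nat.card A * p) :
    A.relIndex B = p := by
  have := relIndex_mul_relIndex ⊥ A B bot_le hle
  rw [relIndex_bot_left, relIndex_bot_left, h] at this
  exact Nat.eq_of_mul_eq_mul_left Nat.card_pos this

/-- Commutators of a normal subgroup with `G` lie in any normal subgroup of index `p` in it. -/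
theorem commutator_mem_of_succ (hG : IsPGroup p G) {A B : Subgroup G} [A.Normal] [B.Normal]
    (hle : A ≤ B) (h : Nat.card B = Nat.card A * p) {b : G} (hb : b ∈ B) (g : G) : ⁅g, b⁆ ∈ A := by
  haveI : (B.map (QuotientGroup.mk' A)).Normal :=
    Subgroup.Normal.map ‹_› _ (QuotientGroup.mk'_surjective A)
  have hcard : Nat.card (B.map (QuotientGroup.mk' A)) = p := by
    rw [← relIndex_bot_left, ← relIndex_comap, MonoidHom.comap_bot, QuotientGroup.ker_mk',
      relIndex_of_succ hle h]
  have hc := le_center_of_card_eq_prime (hG.to_quotient A) hcard (mem_map_of_mem _ hb)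
  rw [← QuotientGroup.eq_one_iff, ← QuotientGroup.mk'_apply, map_commutatorElement,
    commutatorElement_eq_one_iff_mul_comm]
  exact mem_center_iff.mp hc _

/-- A maximal normal abelian subgroup is self-centralizing. -/
theorem centralizer_eq_of_maximal (hG : IsPGroup p G) (A : Subgroup G) [A.Normal]
    (hA : IsMulCommutative A)
    (hmax : ∀ B : Subgroup G, B.Normal → IsMulCommutative B → A ≤ B → B = A) :
    centralizer (A : Set G) = A := by
  refine le_antisymm ?_ (le_centralizer_of_isMulCommutative hA)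
  by_contra hne
  obtain ⟨M, hMn, hAM, hMle, hMcard⟩ := exists_normal_succ hG
    (lt_of_le_not_ge (le_centralizer_of_isMulCommutative hA) hne)
  haveI := hMn
  obtain ⟨x, hxM, hxA⟩ := exists_succ_not_le hAM hMcard
  have := hmax (A ⊔ zpowers x) (normal_sup_zpowers fun g => commutator_mem_of_succ hG hAM hMcard hxM g)
    (isMulCommutative_sup_zpowers hA (hMle hxM)) le_sup_left
  exact hxA (this ▸ le_sup_right (a := A) (mem_zpowers x))

/-! ### Thompson's critical subgroup -/

/-- The elements of `C(D)` that are central of order dividing `p` modulo the normal subgroup `D`. -/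
def criticalOver (p : ℕ) (D : Subgroup G) [D.Normal] : Subgroup G where
  carrier := {x | x ∈ centralizer (D : Set G) ∧ x ^ p ∈ D ∧ ∀ g : G, ⁅g, x⁆ ∈ D}
  one_mem' := ⟨one_mem _, by rw [one_pow]; exact one_mem _, fun g => by simp⟩
  mul_mem' := by
    rintro x y ⟨hx1, hx2, hx3⟩ ⟨hy1, hy2, hy3⟩
    simp only [← QuotientGroup.eq_one_iff (N := D), ← QuotientGroup.mk'_apply, map_pow,
      map_commutatorElement, commutatorElement_eq_one_iff_mul_comm, Set.mem_ofPred_eq, map_mul] at *
    refine ⟨mul_mem hx1 hy1, ?_, fun g => ?_⟩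
    · rw [(show Commute _ _ from hy3 x).mul_pow, hx2, hy2, one_mul]
    · exact ((show Commute _ _ from hx3 g).mul_right (hy3 g)).eq
  inv_mem' := by
    rintro x ⟨hx1, hx2, hx3⟩
    simp only [← QuotientGroup.eq_one_iff (N := D), ← QuotientGroup.mk'_apply, map_pow,
      map_commutatorElement, commutatorElement_eq_one_iff_mul_comm, Set.mem_ofPred_eq, map_inv] at *
    exact ⟨inv_mem hx1, by rw [inv_pow, hx2, inv_one], fun g =>
      (show Commute _ _ from hx3 g).inv_right.eq⟩

theorem mem_criticalOver {D : Subgroup G} [D.Normal] {x : G} :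
    x ∈ criticalOver p D ↔ x ∈ centralizer (D : Set G) ∧ x ^ p ∈ D ∧ ∀ g : G, ⁅g, x⁆ ∈ D :=
  Iff.rfl

omit hp [Finite G] in
theorem criticalOver_characteristic {D : Subgroup G} [D.Normal] (hD : D.Characteristic) :
    (criticalOver p D).Characteristic := by
  have hmem : ∀ (φ : G ≃* G) (y : G), y ∈ D → φ y ∈ D := fun φ y hy =>
    (hD.fixed φ).ge hy
  refine characteristic_iff_le_comap.mpr fun φ x hx => ?_
  rw [mem_comap]
  obtain ⟨h1, h2, h3⟩ := hx
  refine ⟨mem_centralizer_iff.mpr fun d hd => ?_, ?_, fun g => ?_⟩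
  · have := mem_centralizer_iff.mp h1 _ (hmem φ.symm d hd)
    simpa using congrArg φ this
  · simpa using hmem φ _ h2
  · simpa using hmem φ _ (h3 (φ.symm g))

/-- Thompson: a critical subgroup exists. -/
theorem exists_critical (hG : IsPGroup p G) :
    ∃ H : Subgroup G, H.Characteristic ∧
      (frattini H).map H.subtype ≤ centralizer (H : Set G) ∧
      ⁅H, (⊤ : Subgroup G)⁆ ≤ H ⊓ centralizer (H : Set G) ∧ centralizer (H : Set G) ≤ H := by
  obtain ⟨D, hD⟩ := Set.Finite.exists_maximal
    (Set.toFinite {D : Subgroup G | D.Characteristic ∧ IsMulCommutative D})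
    ⟨⊥, inferInstance, inferInstance⟩
  obtain ⟨hDc, hDa⟩ := hD.prop
  haveI := hDc
  by_cases hC : centralizer (D : Set G) ≤ D
  · refine ⟨D, hDc, ?_, le_inf ?_ ?_, hC⟩
    · exact (map_subtype_le _).trans (le_centralizer_of_isMulCommutative hDa)
    · exact Subgroup.commutator_le_left _ _
    · exact (Subgroup.commutator_le_left _ _).trans (le_centralizer_of_isMulCommutative hDa)
  set H := criticalOver p D with hH
  have hDH : D ≤ H := fun d hd => ⟨le_centralizer_of_isMulCommutative hDa hd, pow_mem hd p,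
    fun g => by
      have := mul_mem ((inferInstance : D.Normal).conj_mem d hd g) (inv_mem hd)
      simpa [commutatorElement_def] using this⟩
  haveI hHc : H.Characteristic := criticalOver_characteristic hDc
  -- the centre of `H` is `D`
  have hZ : H ⊓ centralizer (H : Set G) ≤ D := by
    refine hD.2 ⟨?_, ?_⟩ (le_inf hDH fun d hd => mem_centralizer_iff.mpr fun h hh =>
      (mem_centralizer_iff.mp (mem_criticalOver.mp hh).1 d hd).symm)
    · refine characteristic_iff_le_comap.mpr fun φ x hx => ?_
      rw [mem_comap]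
      have hf : ∀ (ψ : G ≃* G) (y : G), y ∈ H → ψ y ∈ H := fun ψ y hy => (hHc.fixed ψ).ge hy
      refine ⟨hf φ x hx.1, mem_centralizer_iff.mpr fun h hh => ?_⟩
      have := mem_centralizer_iff.mp hx.2 _ (hf φ.symm h hh)
      simpa using congrArg φ this
    · exact isMulCommutative_of_forall fun x hx y hy =>
        (mem_centralizer_iff.mp hy.2 x hx.1)
  have hDcH : D ≤ centralizer (H : Set G) := fun d hd => mem_centralizer_iff.mpr fun h hh =>
    (mem_centralizer_iff.mp (mem_criticalOver.mp hh).1 d hd).symm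
  refine ⟨H, hHc, ?_, ?_, ?_⟩
  · haveI : (D.subgroupOf H).Normal := inferInstance
    have hle : frattini H ≤ D.subgroupOf H := by
      refine frattini_le_of_elementary_quotient (p := p) ?_ fun x => ?_
      · rw [commutator_def, Subgroup.commutator_le]
        exact fun a _ b _ => (mem_criticalOver.mp b.2).2.2 a
      · exact (mem_criticalOver.mp x.2).2.1
    exact ((map_mono hle).trans_eq (map_subgroupOf_eq_of_le hDH)).trans hDcH
  · refine le_trans ?_ (le_inf hDH hDcH)
    rw [Subgroup.commutator_le]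
    intro h hh g _
    rw [← commutatorElement_inv]
    exact inv_mem ((mem_criticalOver.mp hh).2.2 g)
  · intro q hq
    by_contra hqH
    have hlt : D < D ⊔ centralizer (H : Set G) := by
      refine lt_of_le_not_ge le_sup_left fun hle => hqH (hDH (hle ?_))
      exact le_sup_right (a := D) hq
    obtain ⟨M, hMn, hDM, hMle, hMcard⟩ := exists_normal_succ hG hlt
    haveI := hMn
    obtain ⟨x, hxM, hxD⟩ := exists_succ_not_le hDM hMcard
    obtain ⟨d, hd, c, hc, rfl⟩ := mem_sup_of_normal_left.mp (hMle hxM)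
    have hxH : d * c ∈ H := by
      refine ⟨mul_mem (le_centralizer_of_isMulCommutative hDa hd) ?_, ?_,
        fun g => commutator_mem_of_succ hG hDM hMcard hxM g⟩
      · exact centralizer_le (fun y hy => hDH hy) hc
      · have hidx : (D.subgroupOf M).index = p := relIndex_of_succ hDM hMcard
        have h1 := (D.subgroupOf M).pow_index_mem ⟨d * c, hxM⟩
        rwa [hidx, mem_subgroupOf] at h1
    have hcH : c ∈ H := by simpa using mul_mem (inv_mem (hDH hd)) hxH
    exact hxD (mul_mem hd (hZ ⟨hcH, hc⟩))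

/-! ### Order bound -/

/-- If `B` is a normal abelian subgroup of order `p ^ a`, its centralizer has index at most
`p ^ (a (a - 1) / 2)`. -/
theorem index_centralizer_le (hG : IsPGroup p G) :
    ∀ (a : ℕ) (B : Subgroup G), B.Normal → IsMulCommutative B → Nat.card B = p ^ a →
      (centralizer (B : Set G)).index ≤ p ^ (∑ i ∈ Finset.range a, i) := by
  intro a
  induction a with
  | zero =>
    intro B _ _ hB
    rw [pow_zero] at hB
    have : centralizer (B : Set G) = ⊤ := by
      rw [eq_bot_of_card_eq _ hB, eq_top_iff]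
      exact fun g _ => mem_centralizer_iff.mpr fun h hh => by rw [mem_bot.mp hh, one_mul, mul_one]
    simp [this]
  | succ a ih =>
    intro B hBn hBa hB
    haveI := hBn
    obtain ⟨B', hB'n, hB'le, hB'card⟩ := exists_normal_card_pow hG B a (by
      rw [hB]; exact Nat.pow_le_pow_right hp.out.pos a.le_succ)
    haveI := hB'n
    have hcard : Nat.card B = Nat.card B' * p := by rw [hB, hB'card, pow_succ]
    obtain ⟨b, hb, hbB'⟩ := exists_succ_not_le hB'le hcard
    have hBeq : B' ⊔ zpowers b = B := by
      refine eq_of_le_of_card_ge (sup_le hB'le (zpowers_le.mpr hb)) ?_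
      obtain ⟨k, hk⟩ := IsPGroup.iff_card.mp (hG.to_subgroup (B' ⊔ zpowers b))
      have hlt : B' < B' ⊔ zpowers b := lt_of_le_not_ge le_sup_left fun h =>
        hbB' (h (le_sup_right (a := B') (mem_zpowers b)))
      have := Set.Finite.card_lt_card (Set.toFinite _) (SetLike.coe_ssubset_coe.mpr hlt)
      rw [SetLike.coe_sort_coe, SetLike.coe_sort_coe, hk, hB'card,
        Nat.pow_lt_pow_iff_right hp.out.one_lt] at this
      rw [hB, hk]
      exact Nat.pow_le_pow_right hp.out.pos this
    set K := centralizer (B' : Set G)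
    have hmem : ∀ g : G, ⁅g, b⁆ ∈ B' := commutator_mem_of_succ hG hB'le hcard hb
    let φ : K →* G := MonoidHom.mk' (fun k => ⁅(k : G), b⁆) fun k l => by
      show ⁅(k : G) * l, b⁆ = ⁅(k : G), b⁆ * ⁅(l : G), b⁆
      have e : ⁅(k : G) * l, b⁆ = k * ⁅(l : G), b⁆ * (k : G)⁻¹ * ⁅(k : G), b⁆ := by
        simp [commutatorElement_def, mul_assoc]
      rw [e, ← mem_centralizer_iff.mp k.2 _ (hmem l), mul_inv_cancel_right]
      exact comm_of_isMulCommutative (isMulCommutative_mono hBa hB'le) (hmem l) (hmem k)
    have hker : φ.ker = (centralizer (B : Set G)).subgroupOf K := by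
      ext k
      rw [MonoidHom.mem_ker, mem_subgroupOf]
      constructor
      · intro hk
        have hle : B ≤ centralizer ({(k : G)} : Set G) := by
          rw [← hBeq, sup_le_iff, zpowers_le]
          refine ⟨fun y hy => mem_centralizer_iff.mpr ?_, mem_centralizer_iff.mpr ?_⟩ <;>
            simp only [Set.mem_singleton_iff, forall_eq]
          · exact (mem_centralizer_iff.mp k.2 y hy).symm
          · exact commutatorElement_eq_one_iff_mul_comm.mp hk
        exact mem_centralizer_iff.mpr fun y hy =>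
          (mem_centralizer_iff.mp (hle hy) k rfl).symm
      · intro hk
        exact commutatorElement_eq_one_iff_mul_comm.mpr (mem_centralizer_iff.mp hk b hb).symm
    have hrel : (centralizer (B : Set G)).relIndex K ≤ p ^ a := by
      rw [relIndex, ← hker, index_ker, ← hB'card]
      exact card_le_of_le (by rintro _ ⟨k, rfl⟩; exact hmem k)
    rw [← relIndex_mul_index (centralizer_le hB'le : centralizer (B : Set G) ≤ K),
      Finset.sum_range_succ, pow_add, mul_comm]
    exact Nat.mul_le_mul (ih B' hB'n (isMulCommutative_mono hBa hB'le) hB'card) hrel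

/-! ### Alperin's lemma -/

theorem dvd_choose_two {n : ℕ} (hn : 0 < n) (h2 : p ^ n ≠ 2) : p ∣ (p ^ n).choose 2 :=
  hp.out.dvd_choose_pow (by norm_num) h2.symm

/-- Alperin: a maximal normal abelian subgroup of exponent dividing `p ^ n ≠ 2` contains every
element of order dividing `p ^ n` of its centralizer. -/
theorem mem_of_maximal_exponent (hG : IsPGroup p G) (n : ℕ) (hn : p ^ n ≠ 2) (A : Subgroup G)
    [A.Normal] (hA : IsMulCommutative A) (hAe : ∀ a ∈ A, a ^ p ^ n = 1)
    (hmax : ∀ B : Subgroup G, B.Normal → IsMulCommutative B → (∀ b ∈ B, b ^ p ^ n = 1) →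
      A ≤ B → B = A)
    {x : G} (hx : x ∈ centralizer (A : Set G)) (hxn : x ^ p ^ n = 1) : x ∈ A := by
  classical
  rcases Nat.eq_zero_or_pos n with rfl | hn0
  · rw [pow_zero, pow_one] at hxn
    exact hxn ▸ one_mem A
  by_contra hxA
  obtain ⟨N, hN⟩ := Set.Finite.exists_minimal
    (Set.toFinite {N : Subgroup G | N.Normal ∧ A ≤ N ∧ N ≤ centralizer (A : Set G) ∧
      ∃ y ∈ N, y ^ p ^ n = 1 ∧ y ∉ A})
    ⟨centralizer (A : Set G), inferInstance, le_centralizer_of_isMulCommutative hA, le_rfl,
      x, hx, hxn, hxA⟩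
  obtain ⟨hNn, hAN, hNC, y, hyN, hyn, hyA⟩ := hN.prop
  haveI := hNn
  obtain ⟨m, hm⟩ := IsPGroup.iff_card.mp (hG.to_subgroup N)
  obtain ⟨k, hk⟩ := IsPGroup.iff_card.mp (hG.to_subgroup A)
  have hkm : k < m := by
    have hlt : A < N := lt_of_le_not_ge hAN fun h => hyA (h hyN)
    have := Set.Finite.card_lt_card (Set.toFinite _) (SetLike.coe_ssubset_coe.mpr hlt)
    rwa [SetLike.coe_sort_coe, SetLike.coe_sort_coe, hk, hm,
      Nat.pow_lt_pow_iff_right hp.out.one_lt] at this
  obtain ⟨M, hMn, hAM, hMN, hMcard⟩ := exists_normal_card hG hAN (m - 1 - k) (by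
    rw [hk, hm, ← pow_add]; exact Nat.pow_le_pow_right hp.out.pos (by omega))
  haveI := hMn
  have hNM : Nat.card N = Nat.card M * p := by
    rw [hMcard, hk, hm, ← pow_add, ← pow_succ]; congr 1; omega
  have hMA : ∀ w ∈ M, w ^ p ^ n = 1 → w ∈ A := by
    intro w hw hwn
    by_contra hwA
    have := hN.2 ⟨hMn, hAM, hMN.trans hNC, w, hw, hwn, hwA⟩ hMN
    have h1 := Subgroup.card_le_of_le this
    rw [hNM] at h1
    exact absurd h1 (Nat.not_le.mpr (lt_mul_of_one_lt_right Nat.card_pos hp.out.one_lt))
  have hypA : y ^ p ∈ A := by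
    refine hMA _ ?_ (by rw [← pow_mul, mul_comm, pow_mul, hyn, one_pow])
    have hidx : (M.subgroupOf N).index = p := relIndex_of_succ hMN hNM
    have h1 := (M.subgroupOf N).pow_index_mem ⟨y, hyN⟩
    rwa [hidx, mem_subgroupOf] at h1
  have hcentral : ∀ a ∈ A, ∀ w ∈ N, Commute a w := fun a ha w hw =>
    mem_centralizer_iff.mp (hNC hw) a ha
  -- two conjugates of `y` commute modulo `A`
  have step : ∀ g : G, ⁅y, g * y * g⁻¹⁆ ∈ A → ⁅g, y⁆ ∈ A := by
    intro g hgc
    set y' := g * y * g⁻¹ with hy'
    have hy'N : y' ∈ N := hNn.conj_mem y hyN g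
    refine hMA _ (commutator_mem_of_succ hG hMN hNM hyN g) ?_
    let H := closure ({y, y'} : Set G)
    have hHN : H ≤ N := (closure_le _).mpr (Set.insert_subset_iff.mpr ⟨hyN, Set.singleton_subset_iff.mpr hy'N⟩)
    have ha : y⁻¹ ∈ H := inv_mem (subset_closure (by simp))
    have hb : y' ∈ H := subset_closure (by simp)
    have hd : ⁅y⁻¹, y'⁆ ∈ A := by
      have e : ⁅y⁻¹, y'⁆ = y⁻¹ * ⁅y, y'⁆⁻¹ * y⁻¹⁻¹ := by simp [commutatorElement_def, mul_assoc]
      rw [e]
      exact (inferInstance : A.Normal).conj_mem _ (inv_mem hgc) _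
    have hdH : ⁅y⁻¹, y'⁆ ∈ H := by
      rw [commutatorElement_def]
      exact mul_mem (mul_mem (mul_mem ha hb) (inv_mem ha)) (inv_mem hb)
    have hdc : (⟨_, hdH⟩ : H) ∈ center H :=
      mem_center_iff.mpr fun w => Subtype.ext (hcentral _ hd w (hHN w.2)).eq.symm
    have hdp : (⟨_, hdH⟩ : H) ^ p = 1 := by
      have e : (⟨_, hdH⟩ : H) = ⁅(⟨y⁻¹, ha⟩ : H), ⟨y', hb⟩⁆ := Subtype.ext rfl
      rw [e] at hdc ⊢
      rw [← commutatorElement_pow_left hdc, commutatorElement_eq_one_iff_mul_comm]
      refine Subtype.ext ?_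
      show (y⁻¹) ^ p * y' = y' * (y⁻¹) ^ p
      rw [inv_pow]
      exact (hcentral _ hypA y' hy'N).inv_left.eq
    have key := mul_pow_of_central (a := (⟨y', hb⟩ : H)) (b := ⟨y⁻¹, ha⟩) (n := p ^ n) hdc
    have hgy : ⁅g, y⁆ = y' * y⁻¹ := by rw [hy', commutatorElement_def]
    obtain ⟨q, hq⟩ := dvd_choose_two (p := p) hn0 hn
    rw [hgy]
    rw [hq, pow_mul] at key
    have hdp' : ⁅(⟨y⁻¹, ha⟩ : H), (⟨y', hb⟩ : H)⁆ ^ p = 1 := hdp
    rw [hdp', one_pow, mul_one] at key
    have h4 := congrArg Subtype.val key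
    simp only [Subgroup.coe_mul, SubgroupClass.coe_pow] at h4
    rw [h4, inv_pow, hyn, inv_one, mul_one, hy', conj_pow, hyn, mul_one, mul_inv_cancel]
  have claim : ∀ g : G, ⁅y, g * y * g⁻¹⁆ ∈ A := by
    intro g
    induction hc : Nat.card (closure ({y, g * y * g⁻¹} : Set G)) using Nat.strong_induction_on
      generalizing g with
    | _ c ih =>
      subst hc
      set y' := g * y * g⁻¹ with hy'
      by_cases hy'y : y' ∈ zpowers y
      · obtain ⟨j, hj⟩ := mem_zpowers_iff.mp hy'y
        rw [← hj, commutatorElement_eq_one_iff_mul_comm.mpr (Commute.self_zpow y j).eq]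
        exact one_mem A
      · set H := closure ({y, y'} : Set G)
        have hyH : y ∈ H := subset_closure (by simp)
        have hy'H : y' ∈ H := subset_closure (by simp)
        have hne : (zpowers y).subgroupOf H ≠ ⊤ := fun h => hy'y (by
          have := h ▸ mem_top (⟨y', hy'H⟩ : H)
          exact this)
        obtain ⟨K, hKn, hKidx, hKle⟩ := exists_normal_index_eq (hG.to_subgroup H) hne
        have hyK : (⟨y, hyH⟩ : H) ∈ K := hKle (mem_zpowers y)
        have hlt : Nat.card (closure ({y, y' * y * y'⁻¹} : Set G)) < Nat.card H := by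
          have hle : closure ({y, y' * y * y'⁻¹} : Set G) ≤ K.map H.subtype := by
            rw [closure_le]
            rintro w (rfl | rfl)
            · exact ⟨_, hyK, rfl⟩
            · exact ⟨_, hKn.conj_mem _ hyK ⟨y', hy'H⟩, rfl⟩
          refine (card_le_of_le hle).trans_lt ?_
          rw [card_map_of_injective H.subtype_injective, ← card_mul_index K, hKidx]
          exact lt_mul_of_one_lt_right Nat.card_pos hp.out.one_lt
        have h1 := step y' (ih _ hlt y' rfl)
        rw [← commutatorElement_inv]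
        exact inv_mem h1
  have hyc : ∀ g : G, ⁅g, y⁆ ∈ A := fun g => step g (claim g)
  have hB := hmax (A ⊔ zpowers y) (normal_sup_zpowers hyc)
    (isMulCommutative_sup_zpowers hA (hNC hyN)) (fun b hb => by
      obtain ⟨a, ha, w, hw, rfl⟩ := mem_sup_of_normal_left.mp hb
      obtain ⟨j, rfl⟩ := mem_zpowers_iff.mp hw
      rw [Commute.mul_pow ((hcentral a ha y hyN).zpow_right j), hAe a ha, one_mul, ← zpow_natCast,
        zpow_comm, zpow_natCast, hyn, one_zpow]) le_sup_left
  exact hyA (hB ▸ le_sup_right (a := A) (mem_zpowers y))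

end Cfsg.Agent.PGroupsCritical
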