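import Mathlib
import Cfsg.Agent.Lib.FusionSysChain
import Cfsg.Agent.Lib.PGroupsBasic
import Cfsg.Agent.Lib.PGroupsCritical
import Cfsg.Agent.Lib.CoprimeActionAut

/-!
Criteria showing that a subgroup is not essential: chains above the Frattini subgroup that are
invariant and stabilized by the automizer of `S`.
-/

set_option autoImplicit false

namespace Cfsg.Agent.FusionEssential88

open scoped commutatorElement
open Cfsg Cfsg.FusionSystem Cfsg.Agent.FusionSysBasic Cfsg.Agent.FusionSysSaturated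
  Cfsg.Agent.FusionSysNormal Cfsg.Agent.FusionSysChain Cfsg.Agent.FusionSysAlperin

section Groups

variable {H : Type*} [Group H] [Finite H] {p : ℕ} [hp : Fact p.Prime]

/-- An automorphism of order prime to `p` stabilizing a chain above the Frattini subgroup of a
`p`-group is trivial. -/
theorem eq_one_of_coprime_stabilizes (hH : IsPGroup p H) {n : ℕ} (K : ℕ → Subgroup H)
    (h0 : K 0 = frattini H) (hn : K n = ⊤) {α : MulAut H} (hcop : (orderOf α).Coprime p)
    (hstep : ∀ i < n, ∀ y ∈ K (i + 1), y⁻¹ * α y ∈ K i) : α = 1 := by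
  have hpow : ∀ x : H, x ^ p ∈ frattini H := PGroupsBasic.pow_mem_frattini hH
  have hfr : ∀ d ∈ frattini H, α d ∈ frattini H := fun d hd =>
    (Subgroup.characteristic_iff_map_le.1 inferInstance α) ⟨d, hd, rfl⟩
  let π := QuotientGroup.mk' (frattini H)
  have key : ∀ i ≤ n, ∀ y ∈ K i, π (α y) = π y := by
    intro i
    induction i with
    | zero =>
      intro _ y hy
      rw [h0] at hy
      rw [(QuotientGroup.eq_one_iff _).2 (hfr y hy) |> fun e => (show π (α y) = 1 from e),
        (show π y = 1 from (QuotientGroup.eq_one_iff _).2 hy)]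
    | succ i ih =>
      intro hi y hy
      set d := y⁻¹ * α y with hd
      have hdi := hstep i hi y hy
      have hd' : π (α d) = π d := ih (by omega) d hdi
      have hαn : ∀ m : ℕ, π ((α ^ m) d) = π d := by
        intro m
        induction m with
        | zero => simp
        | succ m ihm =>
          rw [pow_succ', MulAut.mul_apply, ← ihm]
          have h1 : d⁻¹ * (α ^ m) d ∈ frattini H := QuotientGroup.eq.1 ihm.symm
          have h2 := hfr _ h1
          rw [map_mul, map_inv] at h2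
          have h3 : π (α ((α ^ m) d)) = π (α d) := (QuotientGroup.eq.2 h2).symm
          rw [h3, hd', ihm]
      have hiter : ∀ m : ℕ, π ((α ^ m) y) = π y * π d ^ m := by
        intro m
        induction m with
        | zero => simp
        | succ m ihm =>
          have e : α y = y * d := (mul_inv_cancel_left _ _).symm
          rw [pow_succ, MulAut.mul_apply, e, map_mul, map_mul, ihm, hαn, mul_assoc, ← pow_succ]
      have h1 := hiter (orderOf α)
      rw [pow_orderOf_eq_one, MulAut.one_apply, left_eq_mul] at h1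
      have h2 : π d ^ p = 1 := by rw [← map_pow]; exact (QuotientGroup.eq_one_iff _).2 (hpow d)
      have h3 : π d = 1 := by
        rw [← pow_one (π d), ← hcop.gcd_eq_one]; exact pow_gcd_eq_one.2 ⟨h1, h2⟩
      rw [show α y = y * d from (mul_inv_cancel_left _ _).symm, map_mul, h3, mul_one]
  refine MulEquiv.ext fun x => ?_
  obtain ⟨c, hc⟩ := IsPGroup.iff_card.1 (hH.to_subgroup (frattini H))
  have hαm : ∀ m : ℕ, ∀ x : H, π ((α ^ m) x) = π x := by
    intro m
    induction m with
    | zero => simp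
    | succ m ihm =>
      intro x
      rw [pow_succ, MulAut.mul_apply, ihm, key n le_rfl x (hn ▸ Subgroup.mem_top x)]
  refine CoprimeActionAut.eq_self_of_frattini (φ := (Subgroup.zpowers α).subtype) ?_ ?_
    ⟨α, Subgroup.mem_zpowers α⟩ x
  · rw [Nat.card_zpowers, hc]; exact hcop.pow_right c
  · rintro ⟨a, ha⟩ k
    obtain ⟨m, rfl⟩ := (isOfFinOrder_of_finite α).mem_powers_iff_mem_zpowers.2 ha
    exact QuotientGroup.eq.1 (hαm m k).symm

/-- A group of automorphisms stabilizing such a chain is a `p`-group. -/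
theorem isPGroup_of_stabilizes (hH : IsPGroup p H) {n : ℕ} (K : ℕ → Subgroup H)
    (h0 : K 0 = frattini H) (hn : K n = ⊤) {A : Subgroup (MulAut H)}
    (hstep : ∀ α ∈ A, ∀ i < n, ∀ y ∈ K (i + 1), y⁻¹ * α y ∈ K i) : IsPGroup p A := by
  intro a
  obtain ⟨α, hα⟩ := a
  set m := orderOf α with hm
  have hm0 : m ≠ 0 := (orderOf_pos α).ne'
  refine ⟨m.factorization p, Subtype.ext ?_⟩
  show α ^ (p ^ m.factorization p) = 1
  refine eq_one_of_coprime_stabilizes hH K h0 hn ?_ (hstep _ (pow_mem hα _))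
  rw [orderOf_pow, ← hm, Nat.gcd_eq_right (Nat.ordProj_dvd m p)]
  exact (Nat.coprime_ordCompl hp.out hm0).symm

end Groups

variable {Ω : Type*} [Group Ω] {S : Subgroup Ω} [Finite S] {p : ℕ} [Fact p.Prime]
  {F : FusionSystem S}

/-- The conjugation steps of a chain with prime or trivial indices are stabilized by `N_S(H)`. -/
theorem step_of_card (hS : IsPGroup p S) {H : Subgroup Ω} (hHS : H ≤ S) (K L : Subgroup H)
    [hKc : K.Characteristic] [hLc : L.Characteristic] (hle : K ≤ L)
    (hcard : Nat.card L ≤ Nat.card K * p) (g : ↥(S ⊓ Subgroup.normalizer (H : Set Ω))) {y : H}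
    (hy : y ∈ L) : y⁻¹ * nHom S H g y ∈ K := by
  haveI := finite_of_le hHS
  by_cases heq : L ≤ K
  · have h1 : nHom S H g y ∈ L := (Subgroup.characteristic_iff_map_le.1 hLc _) ⟨y, hy, rfl⟩
    exact K.mul_mem (K.inv_mem (heq hy)) (heq h1)
  have hlt : K < L := lt_of_le_not_ge hle heq
  have hc : Nat.card L = Nat.card K * p := by
    refine le_antisymm hcard ?_
    obtain ⟨a, ha⟩ := IsPGroup.iff_card.1 ((hS.to_le hHS).to_subgroup K)
    obtain ⟨b, hb⟩ := IsPGroup.iff_card.1 ((hS.to_le hHS).to_subgroup L)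
    have h1 : Nat.card K < Nat.card L := lt_of_le_of_ne (Subgroup.card_le_of_le hle) fun e =>
      hlt.ne (Subgroup.eq_of_le_of_card_ge hle e.ge)
    rw [ha, hb] at h1
    rw [ha, hb, ← pow_succ]
    exact Nat.pow_le_pow_right (Fact.out (p := p.Prime)).pos
      ((Nat.pow_lt_pow_iff_right (Fact.out (p := p.Prime)).one_lt).1 h1)
  let N := normalizerIn S H
  have hHN : H ≤ N := le_normalizerIn hHS
  let K' : Subgroup N := (K.map H.subtype).subgroupOf N
  let L' : Subgroup N := (L.map H.subtype).subgroupOf N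
  have hnorm : ∀ M : Subgroup H, M.Characteristic → ((M.map H.subtype).subgroupOf N).Normal := by
    intro M hM
    refine ⟨fun n hn x => ?_⟩
    obtain ⟨m, hm, e⟩ := hn
    refine ⟨nHom S H ⟨x, x.2⟩ m, (Subgroup.characteristic_iff_map_le.1 hM _) ⟨m, hm, rfl⟩, ?_⟩
    show ((nHom S H ⟨x, x.2⟩ m : H) : Ω) = (x : Ω) * n * (x : Ω)⁻¹
    rw [← afun_coe, afun_nHom (K := S) ⟨(x : Ω), x.2⟩ m.2, cj_apply]
    have e' : (m : Ω) = (n : Ω) := e
    rw [e']
  haveI : K'.Normal := hnorm K hKc
  haveI : L'.Normal := hnorm L hLc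
  have hc' : ∀ M : Subgroup H, Nat.card ((M.map H.subtype).subgroupOf N) = Nat.card M := fun M => by
    rw [Nat.card_congr (Subgroup.subgroupOfEquivOfLe ((Subgroup.map_subtype_le _).trans hHN)).toEquiv,
      Subgroup.card_map_of_injective H.subtype_injective]
  haveI := finite_normalizerIn (S := S) H
  have hy' : (⟨(y : Ω), hHN y.2⟩ : N)⁻¹ ∈ L' := inv_mem (show (y : Ω) ∈ L.map H.subtype from ⟨y, hy, rfl⟩)
  have h := PGroupsCritical.commutator_mem_of_succ (p := p) (G := N) (hS.to_le (inf_le_left : N ≤ S))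
    (A := K') (B := L') (fun x hx => Subgroup.map_mono hle hx)
    (by rw [hc' L, hc' K, hc]) hy' (⟨(g : Ω), g.2⟩ : N)
  obtain ⟨k, hk, e⟩ := h
  have he : ((y⁻¹ * nHom S H g y : H) : Ω) = (k⁻¹ : H) := by
    rw [Subgroup.coe_mul, ← afun_coe (nHom S H g), afun_nHom g y.2, Subgroup.coe_inv, cj_div_eq]
    have e' : (k : Ω) = ⁅(g : Ω), (y : Ω)⁻¹⁆ := e
    rw [← e']
    rfl
  rw [Subtype.ext he]
  exact K.inv_mem hk

/-- An essential subgroup has no invariant chain above its Frattini subgroup stabilized by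
`N_S(H)`. -/
theorem no_chain (hS : IsPGroup p S) (hF : F.IsSaturated p) {H : Subgroup Ω}
    (hH : F.IsEssential p H) {n : ℕ} (K : ℕ → Subgroup H) (h0 : K 0 = frattini H) (hn : K n = ⊤)
    (hinv : ∀ α ∈ F.autGroup H, ∀ i ≤ n, ∀ y ∈ K i, α y ∈ K i)
    (hN : ∀ g : ↥(S ⊓ Subgroup.normalizer (H : Set Ω)), ∀ i < n, ∀ y ∈ K (i + 1),
      y⁻¹ * nHom S H g y ∈ K i) : False := by
  have hHS := hH.1.1
  haveI := finite_of_le hHS
  let Y : ℕ → Subgroup Ω := fun i => (K i).map H.subtype
  have hYP : ∀ i ≤ n, Y i ≤ H := fun i _ => Subgroup.map_subtype_le _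
  have hinv' : ∀ α ∈ F.autGroup H, ∀ i ≤ n, ∀ y ∈ Y i, afun α y ∈ Y i := by
    rintro α hα i hi _ ⟨y, hy, rfl⟩
    exact ⟨α y, hinv α hα i hi y hy, (afun_coe α y).symm⟩
  let M := stabGroup (F.autGroup H) Y n hYP hinv'
  have hMp : IsPGroup p M := by
    refine isPGroup_of_stabilizes (hS.to_le hHS) K h0 hn fun α hα i hi y hy => ?_
    obtain ⟨z, hz, e⟩ := hα.2 i hi y ⟨y, hy, rfl⟩
    have : z = y⁻¹ * α y := Subtype.ext (by
      rw [Subgroup.coe_mul, ← afun_coe α]; exact e)
    exact this ▸ hz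
  have hle : normalizerIn S H ≤ H := by
    refine le_of_normal_pSubgroup hS hH.1 (radical_of_essential hS hH) inf_le_left ?_
      (M := M) (fun α hα => hα.1) hMp (fun β hβ m hm => stabGroup_normal hβ hm) fun g _ => ?_
    · exact (le_normalizerIn hHS).trans Subgroup.le_normalizer
    · refine ⟨autInducedBy_le hHS ((autInducedBy_eq_range S H).ge ⟨g, rfl⟩), ?_⟩
      rintro i hi _ ⟨y, hy, rfl⟩
      refine ⟨_, hN g i hi y hy, ?_⟩
      show ((y⁻¹ * nHom S H g y : H) : Ω) = (y : Ω)⁻¹ * afun (nHom S H g) (y : Ω)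
      rw [Subgroup.coe_mul, ← afun_coe (nHom S H g)]
      rfl
  exact absurd (Subgroup.card_le_of_le hle) (Nat.not_le.2 (normalizerIn_gt hS (essential_lt hS hF hH)))

/-- An essential subgroup has no characteristic chain above its Frattini subgroup with steps of
index at most `p`. -/
theorem no_char_chain (hS : IsPGroup p S) (hF : F.IsSaturated p) {H : Subgroup Ω}
    (hH : F.IsEssential p H) {n : ℕ} (K : ℕ → Subgroup H) (h0 : K 0 = frattini H) (hn : K n = ⊤)
    (hc : ∀ i ≤ n, (K i).Characteristic) (hmono : ∀ i < n, K i ≤ K (i + 1))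
    (hcard : ∀ i < n, Nat.card (K (i + 1)) ≤ Nat.card (K i) * p) : False :=
  no_chain hS hF hH K h0 hn
    (fun α _ i hi y hy => (Subgroup.characteristic_iff_map_le.1 (hc i hi) α) ⟨y, hy, rfl⟩)
    fun g i hi y hy => @step_of_card _ _ _ _ _ _ hS _ hH.1.1 (K i) (K (i + 1)) (hc i hi.le)
      (hc (i + 1) hi) (hmono i hi) (hcard i hi) g y hy

/-- An essential subgroup has no characteristic subgroup strictly splitting the Frattini quotient
when that quotient has order at most `p^2`. -/
theorem no_middle (hS : IsPGroup p S) (hF : F.IsSaturated p) {H : Subgroup Ω}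
    (hH : F.IsEssential p H) (M : Subgroup H) [M.Characteristic] (hM : frattini H ≤ M)
    (h1 : Nat.card M ≤ Nat.card (frattini H) * p) (h2 : Nat.card H ≤ Nat.card M * p) : False := by
  refine no_char_chain hS hF hH (n := 2) (fun i => if i = 0 then frattini H else if i = 1 then M else ⊤)
    rfl rfl (fun i hi => ?_) (fun i hi => ?_) (fun i hi => ?_)
  · interval_cases i <;> simp only [one_ne_zero, if_true, if_false, OfNat.ofNat_ne_zero,
      show (2 : ℕ) ≠ 1 from by decide] <;> infer_instance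
  · interval_cases i <;> simp [hM]
  · interval_cases i
    · simpa using h1
    · simpa using h2

/-- Automorphisms in the system acting trivially on the Frattini quotient of an essential subgroup
are inner. -/
theorem mem_inn_of_trivial (hS : IsPGroup p S) {H : Subgroup Ω} (hH : F.IsEssential p H)
    {β : MulAut H} (hβ : β ∈ F.autGroup H) (h : ∀ y, y⁻¹ * β y ∈ frattini H) : β ∈ Inn H := by
  have hHS := hH.1.1
  haveI := finite_of_le hHS
  have hfr : ∀ γ : MulAut H, ∀ d ∈ frattini H, γ d ∈ frattini H := fun γ d hd =>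
    (Subgroup.characteristic_iff_map_le.1 inferInstance γ) ⟨d, hd, rfl⟩
  let M : Subgroup (MulAut H) :=
    { carrier := {m | m ∈ F.autGroup H ∧ ∀ y, y⁻¹ * m y ∈ frattini H}
      one_mem' := ⟨one_mem _, fun y => by simp⟩
      mul_mem' := fun {a b} ha hb => ⟨mul_mem ha.1 hb.1, fun y => by
        have e : y⁻¹ * (a * b) y = y⁻¹ * b y * ((b y)⁻¹ * a (b y)) := by
          rw [MulAut.mul_apply, mul_assoc, mul_inv_cancel_left]
        exact e ▸ mul_mem (hb.2 y) (ha.2 (b y))⟩
      inv_mem' := fun {a} ha => ⟨inv_mem ha.1, fun y => by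
        have := inv_mem (ha.2 (a⁻¹ y))
        rw [MulAut.inv_def, MulEquiv.apply_symm_apply] at this
        simpa [MulAut.inv_def] using this⟩ }
  have hMp : IsPGroup p M :=
    isPGroup_of_stabilizes (hS.to_le hHS) (n := 1)
      (fun i => if i = 0 then frattini H else ⊤) rfl rfl fun a ha i hi y _ => by
        obtain rfl : i = 0 := by omega
        simpa using ha.2 y
  rw [← (radical_of_essential hS hH).2]
  refine ⟨⟨β, hβ⟩, le_sSup (show M.subgroupOf (F.autGroup H) ∈
    {N : Subgroup (F.autGroup H) | N.Normal ∧ IsPGroup p N} from ⟨⟨fun m hm a => ?_⟩,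
      hMp.of_equiv (Subgroup.subgroupOfEquivOfLe (fun m hm => hm.1 : M ≤ F.autGroup H)).symm⟩)
    (show (⟨β, hβ⟩ : F.autGroup H) ∈ M.subgroupOf (F.autGroup H) from ⟨hβ, h⟩), rfl⟩
  refine ⟨mul_mem (mul_mem a.2 hm.1) (inv_mem a.2), fun y => ?_⟩
  have := hfr a _ (hm.2 ((a : MulAut H)⁻¹ y))
  rwa [map_mul, map_inv, MulAut.inv_def, MulEquiv.apply_symm_apply] at this

/-- An element of `N_S(H)` acts on the Frattini quotient of `H`, when that has order at most `p^2`,
as a unipotent map of class two. -/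
theorem delta_sq (hS : IsPGroup p S) {H : Subgroup Ω} (hHS : H ≤ S)
    (hrk : (frattini H).index ≤ p ^ 2) (g : ↥(S ⊓ Subgroup.normalizer (H : Set Ω))) (y : H) :
    (y⁻¹ * nHom S H g y)⁻¹ * nHom S H g (y⁻¹ * nHom S H g y) ∈ frattini H := by
  haveI := finite_of_le hHS
  haveI := finite_normalizerIn (S := S) H
  let N := normalizerIn S H
  have hHN : H ≤ N := le_normalizerIn hHS
  let ι : H →* N := Subgroup.inclusion hHN
  have hι : Function.Injective ι := Subgroup.inclusion_injective hHN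
  have hconj : ∀ (x : N) (z : H), ι (nHom S H ⟨x, x.2⟩ z) = x * ι z * x⁻¹ := fun x z => by
    refine Subtype.ext ?_
    show ((nHom S H ⟨x, x.2⟩ z : H) : Ω) = (x : Ω) * (z : Ω) * (x : Ω)⁻¹
    rw [← afun_coe, afun_nHom (K := S) ⟨(x : Ω), x.2⟩ z.2, cj_apply]
  let T : Subgroup N := ι.range
  let M : Subgroup N := (frattini H).map ι
  haveI : T.Normal := ⟨fun n hn x => by
    obtain ⟨z, rfl⟩ := hn
    exact ⟨_, hconj x z⟩⟩
  haveI : M.Normal := ⟨fun n hn x => by
    obtain ⟨z, hz, rfl⟩ := hn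
    exact ⟨_, (Subgroup.characteristic_iff_map_le.1 inferInstance _) ⟨z, hz, rfl⟩, hconj x z⟩⟩
  have hN : IsPGroup p N := hS.to_le inf_le_left
  let g' : N := ⟨(g : Ω), g.2⟩
  have hd : ∀ z : H, ι (z⁻¹ * nHom S H g z) = (⁅g', (ι z)⁻¹⁆)⁻¹ := fun z => by
    rw [map_mul, show nHom S H g z = nHom S H ⟨g', g'.2⟩ z from rfl, hconj, map_inv]
    simp [commutatorElement_def, mul_assoc]
  by_cases hlt : M < T
  swap
  · have : T ≤ M := by
      by_contra h
      exact hlt (lt_of_le_not_ge (fun _ ⟨z, _, e⟩ => ⟨z, e⟩) h)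
    exact (Subgroup.mem_map_iff_mem hι).1 (this ⟨_, rfl⟩)
  obtain ⟨L, hLn, hML, hLT, hLc⟩ := PGroupsBasic.exists_normal_succ (p := p) hN hlt
  have hcT : Nat.card T = Nat.card H := (Nat.card_congr (MonoidHom.ofInjective hι).toEquiv).symm
  have hcM : Nat.card M = Nat.card (frattini H) := Subgroup.card_map_of_injective hι
  have hTL : ∀ x : N, ∀ b ∈ T, ⁅x, b⁆ ∈ L := by
    intro x b hb
    by_cases he : T ≤ L
    · refine he ?_
      rw [commutatorElement_def]
      exact T.mul_mem (Subgroup.Normal.conj_mem ‹_› b hb x) (T.inv_mem hb)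
    refine PGroupsCritical.commutator_mem_of_succ hN hLT ?_ hb x
    obtain ⟨a, ha⟩ := IsPGroup.iff_card.1 (hN.to_subgroup L)
    obtain ⟨b', hb'⟩ := IsPGroup.iff_card.1 (hN.to_subgroup T)
    have h1 : Nat.card L < Nat.card T := lt_of_le_of_ne (Subgroup.card_le_of_le hLT) fun e =>
      he (Subgroup.eq_of_le_of_card_ge hLT e.ge).ge
    have h2 : Nat.card T ≤ Nat.card L * p := by
      rw [hcT, hLc, hcM, mul_assoc, ← sq, ← (frattini H).card_mul_index]
      exact Nat.mul_le_mul_left _ hrk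
    rw [ha, hb'] at h1 h2 ⊢
    rw [← pow_succ] at h2 ⊢
    have h3 := (Nat.pow_lt_pow_iff_right (Fact.out (p := p.Prime)).one_lt).1 h1
    have h4 := (Nat.pow_le_pow_iff_right (Fact.out (p := p.Prime)).one_lt).1 h2
    rw [show b' = a + 1 by omega]
  have hL : ι (y⁻¹ * nHom S H g y) ∈ L := by
    rw [hd]; exact inv_mem (hTL g' _ (inv_mem ⟨y, rfl⟩))
  refine (Subgroup.mem_map_iff_mem hι).1 ?_
  rw [hd]
  exact inv_mem (PGroupsCritical.commutator_mem_of_succ hN hML hLc (inv_mem hL) g')

end Cfsg.Agent.FusionEssential88
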