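import Cfsg.Agent.Lib.FusionSysSaturated

/-!
The Alperin–Goldschmidt fusion theorem for saturated fusion systems, with basic facts on essential
subgroups.
-/

set_option autoImplicit false

namespace Cfsg.Agent.FusionSysAlperin

open Cfsg Cfsg.FusionSystem Cfsg.Agent.FusionSysBasic Cfsg.Agent.FusionSysSaturated

variable {Ω : Type*} [Group Ω] {S : Subgroup Ω} {F : FusionSystem S} {p : ℕ}

theorem ext_hom {E : FusionSystem S} (h : ∀ P, F.Hom P = E.Hom P) : F = E := by
  cases F; cases E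
  simp only [FusionSystem.mk.injEq]
  exact funext h

theorem le_antisymm_hom {E : FusionSystem S} (h₁ : F ≤ E) (h₂ : E ≤ F) : F = E :=
  ext_hom fun P => Set.Subset.antisymm (h₁ P) (h₂ P)

theorem le_of_mor {E : FusionSystem S}
    (h : ∀ (P : Subgroup Ω) (f : Ω → Ω), Mor F P f → Mor E P f) : F ≤ E :=
  fun P φ hφ => (mor_iff_hom fun x => (toFun_coe φ x).symm).mp (h P _ (mor_toFun hφ))

theorem mor_mono {E : FusionSystem S} (hle : F ≤ E) {P : Subgroup Ω} {f : Ω → Ω}
    (h : Mor F P f) : Mor E P f := by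
  obtain ⟨φ, hφ, he⟩ := h
  exact ⟨φ, hle P hφ, he⟩

theorem inner_le : innerFusionSystem S ≤ F := by
  rintro P φ ⟨hP, g, hg, he⟩
  exact (mor_iff_hom he).mp (mor_cj (F := F) hP hg)

theorem mor_inner_iff {P : Subgroup Ω} {f : Ω → Ω} :
    Mor (innerFusionSystem S) P f ↔ P ≤ S ∧ ∃ g ∈ S, ∀ x ∈ P, f x = cj g x := by
  constructor
  · rintro ⟨φ, ⟨hP, g, hg, he⟩, hf⟩
    exact ⟨hP, g, hg, fun x hx => (hf ⟨x, hx⟩).symm.trans (he ⟨x, hx⟩)⟩
  · rintro ⟨hP, g, hg, he⟩
    exact (mor_cj hP hg).congr fun x hx => (he x hx).symm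

theorem inn_normal (F : FusionSystem S) (P : Subgroup Ω) :
    ((Inn P).subgroupOf (F.autGroup P)).Normal :=
  Subgroup.normal_subgroupOf

theorem centric_of_fullyCentralized [Finite S] {P : Subgroup Ω} (hP : F.IsFullyCentralized P)
    (h : centralizerIn S P ≤ P) : F.IsCentric P := by
  refine ⟨hP.1, fun Q hQ => ?_⟩
  obtain ⟨f, hf, rfl⟩ := isConj_iff.mp hQ
  have hr := hf.restrict_to h
  have hle : im (centralizerIn S P) f ≤ centralizerIn S (im P f) := by
    refine im_le_iff.mpr fun c hc => mem_centralizerIn.mpr ⟨hr.apply_mem hc, fun y hy => ?_⟩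
    obtain ⟨x, hx, rfl⟩ := hf.mem_im.mp hy
    rw [← hf.map_cj (h hc) hx, (mem_centralizerIn.mp hc).2 x hx]
  have e : im (centralizerIn S P) f = centralizerIn S (im P f) :=
    eq_of_le_of_card_ge inf_le_left hle ((hP.2 _ hQ).trans hr.card_im.ge)
  rw [← e]
  exact im_mono h

theorem centralizerIn_le_of_centric {P : Subgroup Ω} (hP : F.IsCentric P) :
    centralizerIn S P ≤ P :=
  hP.2 P (isConj_refl hP.1)

theorem mem_of_nHom_mem_inn {P : Subgroup Ω} (hP : P ≤ S) (hC : centralizerIn S P ≤ P)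
    (g : ↥(S ⊓ Subgroup.normalizer (P : Set Ω))) (h : nHom S P g ∈ Inn P) : (g : Ω) ∈ P := by
  rw [← autInducedBy_self, mem_autInducedBy] at h
  obtain ⟨u, hu, -, he⟩ := h
  have : u⁻¹ * (g : Ω) ∈ centralizerIn S P := by
    refine mem_centralizerIn.mpr ⟨S.mul_mem (S.inv_mem (hP hu)) g.2.1, fun x hx => ?_⟩
    rw [← cj_cj, ← afun_nHom g hx, he x hx, cj_inv_cj]
  simpa using P.mul_mem hu (hC this)

theorem lt_normalizerIn [Finite S] [Fact p.Prime] (hS : IsPGroup p S) {P Q : Subgroup Ω}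
    (hQ : Q ≤ S) (hPQ : P < Q) :
    ∃ g ∈ Q, g ∉ P ∧ g ∈ Subgroup.normalizer (P : Set Ω) := by
  haveI := finite_of_le hQ
  haveI := (hS.to_le hQ).isNilpotent
  have hlt : P.subgroupOf Q < ⊤ :=
    lt_top_iff_ne_top.mpr fun e => hPQ.not_ge (Subgroup.subgroupOf_eq_top.mp e)
  obtain ⟨t, htn, htP⟩ := SetLike.exists_of_lt (normalizerCondition_of_isNilpotent _ hlt)
  exact ⟨t, t.2, htP, mem_normalizer_of_cj_le (hPQ.le.trans hQ) fun x hx =>
    (Subgroup.mem_normalizer_iff.mp htn ⟨x, hPQ.le hx⟩).mp hx⟩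

theorem normalizerIn_gt [Finite S] [Fact p.Prime] (hS : IsPGroup p S) {P : Subgroup Ω}
    (hP : P < S) : Nat.card P < Nat.card (normalizerIn S P) := by
  obtain ⟨g, hgS, hgP, hgn⟩ := lt_normalizerIn hS le_rfl hP
  haveI := finite_normalizerIn (S := S) P
  refine lt_of_le_of_ne (Subgroup.card_le_of_le (le_normalizerIn hP.le)) fun e => hgP ?_
  rw [eq_of_le_of_card_ge inf_le_left (le_normalizerIn hP.le) e.ge]
  exact ⟨hgS, hgn⟩

/-! ### Strongly `p`-embedded subgroups -/

section Group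

variable {X : Type*} [Group X]

theorem not_pRankLE_zero [Finite X] [Fact p.Prime] {Q : Subgroup X} (hQ : IsPGroup p Q)
    (h : Q ≠ ⊥) : ¬ PRankLE p (1 - 1) Q := by
  intro hle
  haveI : Nontrivial Q := Subgroup.nontrivial_iff_ne_bot Q |>.mpr h
  obtain ⟨k, hk⟩ := IsPGroup.iff_card.mp hQ
  have hk0 : k ≠ 0 := by
    rintro rfl
    have := Finite.one_lt_card (α := Q)
    rw [hk, pow_zero] at this
    exact lt_irrefl _ this
  obtain ⟨x, hx⟩ := exists_prime_orderOf_dvd_card' (G := Q) p (hk ▸ dvd_pow_self p hk0)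
  have := hle (Subgroup.zpowers x) inferInstance fun a ha => by
    obtain ⟨i, rfl⟩ := Subgroup.mem_zpowers_iff.mp ha
    rw [← zpow_natCast, ← zpow_mul, mul_comm, zpow_mul, zpow_natCast, ← hx, pow_orderOf_eq_one,
      one_zpow]
  rw [Nat.card_zpowers, hx, Nat.sub_self, pow_zero] at this
  exact absurd this (not_le.mpr (Fact.out (p := p.Prime)).one_lt)

theorem stronglyPEmbedded_of_ti [Finite X] [Fact p.Prime] {Y : Subgroup X} (T : Sylow p X)
    (hT : (T : Subgroup X) ≠ ⊥) (hY : Y ≠ ⊤)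
    (h : ∀ x ∉ Y, ∀ t ∈ (T : Subgroup X), x * t * x⁻¹ ∈ (T : Subgroup X) → t = 1) :
    IsStronglyPEmbedded p Y := by
  refine ⟨?_, hY, T, iSup_le fun Q n hn => by_contra fun hnY => ?_⟩
  · obtain ⟨k, hk⟩ := IsPGroup.iff_card.mp T.2
    haveI : Nontrivial (T : Subgroup X) := Subgroup.nontrivial_iff_ne_bot _ |>.mpr hT
    have hk0 : k ≠ 0 := by
      rintro rfl
      have := Finite.one_lt_card (α := (T : Subgroup X))
      rw [hk, pow_zero] at this
      exact lt_irrefl _ this
    exact (dvd_pow_self p hk0).trans (hk ▸ Subgroup.card_subgroup_dvd_card _)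
  · apply Q.2.2
    intro A _ _
    have hA : A = ⊥ := by
      rw [Subgroup.eq_bot_iff_forall]
      exact fun a _ => Subtype.ext (h n hnY a (Q.2.1 a.2)
        (Q.2.1 ((Subgroup.mem_normalizer_iff.mp hn a).mp a.2)))
    rw [hA, Subgroup.card_bot]
    exact Nat.one_le_pow _ _ (Fact.out (p := p.Prime)).pos

theorem normalizer_le_of_core_le [Finite X] [Fact p.Prime] {Y : Subgroup X} {T : Sylow p X}
    (h : kGeneratedCore p 1 (T : Subgroup X) ≤ Y) {Q : Subgroup X} (hQ : Q ≤ T) (hne : Q ≠ ⊥) :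
    Subgroup.normalizer (Q : Set X) ≤ Y :=
  le_trans (le_iSup (fun Q : {Q : Subgroup X // Q ≤ (T : Subgroup X) ∧ ¬ PRankLE p (1 - 1) Q} =>
      Subgroup.normalizer ((Q : Subgroup X) : Set X))
    ⟨Q, hQ, not_pRankLE_zero (T.2.to_le hQ) hne⟩) h

theorem mem_of_conj_mem [Finite X] [Fact p.Prime] {Y : Subgroup X} {T : Sylow p X}
    (h : kGeneratedCore p 1 (T : Subgroup X) ≤ Y) {x t : X} (ht : t ∈ (T : Subgroup X))
    (ht1 : t ≠ 1) (hxt : x * t * x⁻¹ ∈ (T : Subgroup X)) : x ∈ Y := by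
  have hne : (T : Subgroup X) ≠ ⊥ := fun e => ht1 ((Subgroup.eq_bot_iff_forall _).mp e t ht)
  have hTY : (T : Subgroup X) ≤ Y :=
    Subgroup.le_normalizer.trans (normalizer_le_of_core_le h le_rfl hne)
  have hcent : ∀ s ∈ (T : Subgroup X), s ≠ 1 → ∀ c, c * s = s * c → c ∈ Y := by
    intro s hs hs1 c hc
    refine normalizer_le_of_core_le h ((Subgroup.zpowers_le).mpr hs)
      (Subgroup.zpowers_ne_bot.mpr hs1) ?_
    apply Subgroup.centralizer_le_normalizer
    rw [Subgroup.mem_centralizer_iff]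
    rintro a ⟨i, rfl⟩
    exact ((show Commute s c from hc.symm).zpow_left i).eq
  have htrans : ∀ u, u * t * u⁻¹ ∈ (T : Subgroup X) → ∀ c, c * t = t * c →
      u * c * u⁻¹ ∈ Y := by
    intro u hu c hc
    refine hcent _ hu (by simpa using ht1) _ ?_
    simp only [← mul_assoc, inv_mul_cancel_right]
    rw [mul_assoc u c t, hc, ← mul_assoc]
  haveI : Nontrivial (T : Subgroup X) := Subgroup.nontrivial_iff_ne_bot _ |>.mpr hne
  obtain ⟨z, hz⟩ : ∃ z : Subgroup.center (T : Subgroup X), z ≠ 1 := by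
    haveI := T.2.center_nontrivial
    exact exists_ne 1
  set z' := ((z : (T : Subgroup X)) : X) with hz'
  have hz1 : z' ≠ 1 := fun e => hz (Subtype.ext (Subtype.ext e))
  have hzc : ∀ s ∈ (T : Subgroup X), s * z' = z' * s := fun s hs =>
    congrArg Subtype.val (Subgroup.mem_center_iff.mp z.2 ⟨s, hs⟩)
  have hxz : x * z' * x⁻¹ ∈ Y := htrans x hxt z' (hzc t ht).symm
  have hzp : IsPGroup p (Subgroup.zpowers (x * z' * x⁻¹)) := by
    have : Subgroup.zpowers (x * z' * x⁻¹) =
        (Subgroup.zpowers z').map (MulAut.conj x).toMonoidHom := by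
      rw [MonoidHom.map_zpowers]; rfl
    rw [this]
    exact (T.2.to_le (Subgroup.zpowers_le.mpr (z : (T : Subgroup X)).2)).map _
  have hsyl : SylIn p (T : Subgroup X) Y := ⟨T.subtype hTY, Sylow.coe_subtype T hTY⟩
  obtain ⟨e, he, heT⟩ := sylIn_absorb hsyl hzp (Subgroup.zpowers_le.mpr hxz)
  have h2 := heT _ (Subgroup.mem_zpowers _)
  set u := e * x with hu
  have huz : u * z' * u⁻¹ ∈ (T : Subgroup X) := by
    simpa [hu, mul_assoc] using h2
  have huT : ∀ s ∈ (T : Subgroup X), u * s * u⁻¹ ∈ Y := by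
    intro s hs
    refine hcent _ huz (by simpa using hz1) _ ?_
    simp only [← mul_assoc, inv_mul_cancel_right]
    rw [mul_assoc u s z', hzc s hs, ← mul_assoc]
  obtain ⟨e', he', heT'⟩ := sylIn_absorb hsyl (T.2.map (MulAut.conj u).toMonoidHom)
    (Subgroup.map_le_iff_le_comap.mpr huT)
  have hn : e' * u ∈ Subgroup.normalizer ((T : Subgroup X) : Set X) := by
    rw [Subgroup.mem_normalizer_iff_map_conj_eq]
    refine Subgroup.eq_of_le_of_card_ge ?_ (le_of_eq
      (Nat.card_congr ((T : Subgroup X).equivMapOfInjective _ (MulAut.conj _).injective).toEquiv))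
    rintro _ ⟨s, hs, rfl⟩
    simpa [mul_assoc] using heT' _ ⟨s, hs, rfl⟩
  have := mul_mem (inv_mem (mul_mem he' he)) (normalizer_le_of_core_le h le_rfl hne hn)
  simpa [hu, mul_assoc] using this

end Group

/-! ### The key dichotomy -/

/-- `α` extends to a strictly larger subgroup. -/
def Extends (F : FusionSystem S) {P : Subgroup Ω} (α : MulAut P) : Prop :=
  ∃ Q : Subgroup Ω, P < Q ∧ ∃ f, Mor F Q f ∧ ∀ x ∈ P, f x = afun α x

theorem Extends.mem_autGroup {P : Subgroup Ω} {α : MulAut P} (h : Extends F α) :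
    α ∈ F.autGroup P := by
  obtain ⟨Q, hPQ, f, hf, he⟩ := h
  exact mem_autGroup_of_mor ((hf.restrict_to hPQ.le).congr he)

theorem autInducedBy_extends {P : Subgroup Ω} (hP : P < S) {α : MulAut P}
    (hα : α ∈ autInducedBy S P) : Extends F α := by
  obtain ⟨g, hg, -, he⟩ := mem_autInducedBy.mp hα
  exact ⟨S, hP, cj g, mor_cj le_rfl hg, fun x hx => (he x hx).symm⟩

variable [Finite S] [Fact p.Prime] (hS : IsPGroup p S) (hF : F.IsSaturated p)

include hS hF

/-- If a proper subgroup `H` of `Aut_F(P)` contains all extendable automorphisms then `P` is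
essential and `H/Inn(P)` is strongly embedded. -/
theorem essential_of_ne {P : Subgroup Ω} (hPS : P < S) (hP : F.IsFullyNormalized P)
    {H : Subgroup (MulAut P)} (hH : H ≤ F.autGroup P) (hne : H ≠ F.autGroup P)
    (hext : ∀ α, Extends F α → α ∈ H) :
    F.IsEssential p P ∧ ∃ _ : ((Inn P).subgroupOf (F.autGroup P)).Normal,
      IsStronglyPEmbedded p ((H.subgroupOf (F.autGroup P)).map
        (QuotientGroup.mk' ((Inn P).subgroupOf (F.autGroup P)))) := by
  haveI := finite_autGroup (F := F) P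
  obtain ⟨-, hrec⟩ := receptive_iff.mp (receptive_of_fullyNormalized hS hF hP)
  have extend : ∀ α ∈ F.autGroup P, ∀ N : Subgroup Ω, N ≤ S →
      N ≤ Subgroup.normalizer (P : Set Ω) →
      (∀ g ∈ N, ∃ h ∈ S, ∀ x ∈ P, afun α (cj g x) = cj h (afun α x)) →
      ¬ N ≤ P → α ∈ H := by
    intro α hα N hNS hNn hN hNP
    obtain ⟨f, hf, he⟩ := hrec P (afun α) N ((mem_autGroup hP.1).mp hα) (im_afun α) hNS hNn hN
    exact hext α ⟨P ⊔ N, left_lt_sup.mpr hNP, f, hf, he⟩
  have hC : centralizerIn S P ≤ P := by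
    by_contra hC
    refine hne (le_antisymm hH fun α hα => extend α hα _ inf_le_left
      (centralizerIn_le_normalizerIn.trans inf_le_right) (fun g hg => ?_) hC)
    exact ⟨1, S.one_mem, fun x hx => by rw [(mem_centralizerIn.mp hg).2 x hx, cj_one]⟩
  have hcen : F.IsCentric P :=
    centric_of_fullyCentralized (fullyCentralized_of_fullyNormalized hS hF hP) hC
  haveI hn := inn_normal F P
  set A := F.autGroup P
  set I := (Inn P).subgroupOf A
  set R := autInducedBy S P
  have hRH : R ≤ H := fun α hα => hext α (autInducedBy_extends hPS hα)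
  have hIR : Inn P ≤ R := inn_le_autInducedBy hP.1
  obtain ⟨T₀, hT₀⟩ : SylIn p R A := (fullyAutomized_of_fullyNormalized hS hF hP).2
  set π := QuotientGroup.mk' I
  set T := T₀.mapSurjective (QuotientGroup.mk'_surjective I)
  have hTmem : ∀ {y : A ⧸ I}, y ∈ (T : Subgroup (A ⧸ I)) ↔ ∃ r : A, (r : MulAut P) ∈ R ∧ π r = y := by
    intro y
    rw [Sylow.coe_mapSurjective, Subgroup.mem_map, hT₀]
    rfl
  have hπ : ∀ r : A, π r = 1 ↔ (r : MulAut P) ∈ Inn P := fun r => by
    rw [← MonoidHom.mem_ker, QuotientGroup.ker_mk']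
    rfl
  have hemb : IsStronglyPEmbedded p ((H.subgroupOf A).map π) := by
    refine stronglyPEmbedded_of_ti T ?_ ?_ ?_
    · obtain ⟨g, hgS, hgP, hgn⟩ := lt_normalizerIn hS le_rfl hPS
      intro e
      have hc : nHom S P ⟨g, hgS, hgn⟩ ∈ R := by
        rw [show R = _ from autInducedBy_eq_range S P]; exact ⟨_, rfl⟩
      refine hgP (mem_of_nHom_mem_inn hP.1 hC ⟨g, hgS, hgn⟩ ?_)
      exact (hπ ⟨_, autInducedBy_le hP.1 hc⟩).mp
        ((Subgroup.eq_bot_iff_forall _).mp e _ (hTmem.mpr ⟨_, hc, rfl⟩))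
    · intro e
      refine hne (le_antisymm hH fun α hα => ?_)
      have := congrArg (Subgroup.comap π) e
      rw [Subgroup.comap_map_eq, Subgroup.comap_top, QuotientGroup.ker_mk',
        sup_eq_left.mpr (show I ≤ H.subgroupOf A from fun x hx => hRH (hIR hx))] at this
      exact Subgroup.subgroupOf_eq_top.mp this hα
    · intro y hy t ht htt
      obtain ⟨α, rfl⟩ := QuotientGroup.mk'_surjective I y
      obtain ⟨r, hr, rfl⟩ := hTmem.mp ht
      obtain ⟨s, hs, hse⟩ := hTmem.mp htt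
      have hconj : (α : MulAut P) * r * (α : MulAut P)⁻¹ ∈ R := by
        have h0 : π (s⁻¹ * (α * r * α⁻¹)) = 1 := by
          simp only [map_mul, map_inv, hse, π]; group
        have := mul_mem hs (hIR ((hπ _).mp h0))
        simpa using this
      obtain ⟨g, hg, hgn, hge⟩ := mem_autInducedBy.mp hr
      obtain ⟨h, hh, -, hhe⟩ := mem_autInducedBy.mp hconj
      have hgP : g ∈ P := by
        by_contra hgP
        refine hy (Subgroup.mem_map_of_mem π ?_)
        refine extend α α.2 (Subgroup.zpowers g) (Subgroup.zpowers_le.mpr hg)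
          (Subgroup.zpowers_le.mpr hgn) ?_ fun hle => hgP (hle (Subgroup.mem_zpowers g))
        rintro a ⟨i, rfl⟩
        have : ∀ a ∈ Subgroup.zpowers g, a ∈ extSub ((mem_autGroup hP.1).mp α.2) := by
          refine fun a ha => Subgroup.zpowers_le.mpr ?_ ha
          refine ⟨hg, hgn, h, hh, fun x hx => ?_⟩
          rw [← hhe _ (afun_mem _ hx), afun_mul _ _ (afun_mem _ hx), afun_inv_apply _ hx,
            afun_mul _ _ hx, hge x hx]
        exact (this _ ⟨i, rfl⟩).2.2
      rw [hπ, ← autInducedBy_self, mem_autInducedBy]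
      exact ⟨g, hgP, hgn, hge⟩
  exact ⟨⟨hcen, hP, hn, _, hemb⟩, hn, hemb⟩

omit hF in
theorem radical_of_essential {P : Subgroup Ω} (hP : F.IsEssential p P) : F.IsRadical p P := by
  obtain ⟨⟨hPS, -⟩, -, hn, E, -, hE, T, hT⟩ := hP
  haveI := hn
  haveI := finite_autGroup (F := F) P
  set A := F.autGroup P
  set I := (Inn P).subgroupOf A
  refine ⟨hPS, le_antisymm ?_ fun α hα => ?_⟩
  · rw [Subgroup.map_le_iff_le_comap]
    refine sSup_le fun N ⟨hNn, hNp⟩ => ?_
    haveI := hNn
    set M := N.map (QuotientGroup.mk' I)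
    haveI : M.Normal := hNn.map _ (QuotientGroup.mk'_surjective I)
    have hM : M = ⊥ := by
      by_contra hne
      obtain ⟨T', hT'⟩ := (hNp.map (QuotientGroup.mk' I)).exists_le_sylow
      obtain ⟨a, rfl⟩ := MulAction.exists_smul_eq (A ⧸ I) T T'
      have hMT : M ≤ T := by
        intro m hm
        have h1 := hT' (Subgroup.Normal.conj_mem ‹M.Normal› m hm a)
        obtain ⟨t, ht, hte⟩ := Subgroup.mem_map.mp h1
        have : a * t * a⁻¹ = a * m * a⁻¹ := by
          simpa [MulDistribMulAction.toMonoidEnd_apply] using hte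
        rwa [← mul_left_cancel (mul_right_cancel this)]
      exact hE (top_le_iff.mp
        ((Subgroup.normalizer_eq_top (H := M)).ge.trans (normalizer_le_of_core_le hT hMT hne)))
    intro x hx
    have h1 : QuotientGroup.mk' I x ∈ M := Subgroup.mem_map_of_mem _ hx
    rw [hM, Subgroup.mem_bot, ← MonoidHom.mem_ker, QuotientGroup.ker_mk'] at h1
    exact h1
  · refine ⟨⟨α, inn_le_autGroup hPS hα⟩, (le_sSup (show I ∈ {N : Subgroup A | N.Normal ∧ IsPGroup p N} from ⟨hn, ?_⟩) : I ≤ pCore p A) hα, rfl⟩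
    exact (((hS.to_le hPS).of_surjective (MulAut.conj (G := P)).rangeRestrict
      (MonoidHom.rangeRestrict_surjective _))).of_equiv
      (Subgroup.subgroupOfEquivOfLe (inn_le_autGroup hPS)).symm

theorem essential_lt {P : Subgroup Ω} (hP : F.IsEssential p P) : P < S := by
  obtain ⟨⟨hPS, -⟩, -, hn, E, hpX, -, -⟩ := hP
  haveI := hn
  refine lt_of_le_of_ne hPS ?_
  rintro rfl
  haveI := finite_autGroup (F := F) P
  obtain ⟨T, hT⟩ := (fullyAutomized_of_saturated_self hF).2
  rw [autInducedBy_self] at hT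
  apply T.not_dvd_index
  rw [hT]
  exact hpX

/-- An essential subgroup has an automorphism that does not extend. -/
theorem essential_exists_not_extends {P : Subgroup Ω} (hP : F.IsEssential p P) :
    ¬ F.autGroup P ≤ Subgroup.closure {α | Extends F α} := by
  have hlt := essential_lt hS hF hP
  obtain ⟨hcen, hPn, hn, E, -, hE, T', hT'⟩ := hP
  haveI := hn
  haveI := finite_autGroup (F := F) P
  set A := F.autGroup P
  set I := (Inn P).subgroupOf A
  have hPS := hlt.le
  obtain ⟨T₀, hT₀⟩ := (fullyAutomized_of_fullyNormalized hS hF hPn).2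
  set π := QuotientGroup.mk' I
  set T := T₀.mapSurjective (QuotientGroup.mk'_surjective I)
  obtain ⟨a, ha⟩ := MulAction.exists_smul_eq (A ⧸ I) T' T
  have hmemT : ∀ y ∈ (T : Subgroup (A ⧸ I)), a⁻¹ * y * a ∈ (T' : Subgroup (A ⧸ I)) := by
    intro y hy
    rw [← ha] at hy
    obtain ⟨t, ht, rfl⟩ := Subgroup.mem_map.mp hy
    simpa [MulDistribMulAction.toMonoidEnd_apply, mul_assoc] using ht
  intro hle
  refine hE (Subgroup.eq_top_iff' E |>.mpr fun y => ?_)
  let ψ : A →* A ⧸ I := (MulAut.conj a⁻¹).toMonoidHom.comp π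
  suffices hψ : ∀ x : A, ψ x ∈ E by
    obtain ⟨x, hx⟩ := QuotientGroup.mk'_surjective I (a * y * a⁻¹)
    have := hψ x
    have e : ψ x = y := by
      show a⁻¹ * π x * a⁻¹⁻¹ = y
      rw [hx]; group
    rwa [e] at this
  suffices hsub : Subgroup.closure {α | Extends F α} ≤ (E.comap ψ).map A.subtype by
    intro x
    obtain ⟨x', hx', e⟩ := hsub (hle x.2)
    rwa [← Subtype.ext e]
  rw [Subgroup.closure_le]
  intro α hα
  refine ⟨⟨α, hα.mem_autGroup⟩, ?_, rfl⟩
  obtain ⟨Q, hPQ, f, hf, he⟩ := hα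
  obtain ⟨g, hgQ, hgP, hgn⟩ := lt_normalizerIn hS hf.le hPQ
  have hfn : f g ∈ normalizerIn S P := by
    refine ⟨hf.apply_mem hgQ, mem_normalizer_of_cj_le hPS fun x hx => ?_⟩
    have hx' := afun_mem α⁻¹ hx
    rw [← afun_apply_inv α hx, ← he _ hx', ← hf.map_cj hgQ (hPQ.le hx'),
      he _ (cj_mem_of_normalizer hgn hx')]
    exact afun_mem α (cj_mem_of_normalizer hgn hx')
  set gg : ↥(S ⊓ Subgroup.normalizer (P : Set Ω)) := ⟨g, hf.le hgQ, hgn⟩
  set hh : ↥(S ⊓ Subgroup.normalizer (P : Set Ω)) := ⟨f g, hfn⟩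
  have hrel : α * nHom S P gg * α⁻¹ = nHom S P hh := by
    refine afun_ext fun x hx => ?_
    have hx' := afun_mem α⁻¹ hx
    rw [afun_mul _ _ hx, afun_mul _ _ hx', afun_nHom _ hx', afun_nHom _ hx]
    conv_rhs => rw [← afun_apply_inv α hx, ← he _ hx', ← hf.map_cj hgQ (hPQ.le hx'),
      he _ (cj_mem_of_normalizer hgn hx')]
  have hR : ∀ k, nHom S P k ∈ autInducedBy S P := fun k =>
    autInducedBy_eq_range S P ▸ ⟨k, rfl⟩
  have hT₀m : ∀ k, (⟨nHom S P k, autInducedBy_le hPS (hR k)⟩ : A) ∈ (T₀ : Subgroup A) := by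
    intro k; rw [hT₀]; exact hR k
  set r : A := ⟨nHom S P gg, autInducedBy_le hPS (hR gg)⟩
  set αA : A := ⟨α, mem_autGroup_of_mor ((hf.restrict_to hPQ.le).congr he)⟩
  have hrT : π r ∈ (T : Subgroup (A ⧸ I)) := by
    rw [Sylow.coe_mapSurjective]; exact Subgroup.mem_map_of_mem _ (hT₀m gg)
  have hsT : π (αA * r * αA⁻¹) ∈ (T : Subgroup (A ⧸ I)) := by
    rw [Sylow.coe_mapSurjective]
    refine Subgroup.mem_map_of_mem _ ?_
    have : αA * r * αA⁻¹ = ⟨nHom S P hh, autInducedBy_le hPS (hR hh)⟩ := Subtype.ext hrel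
    rw [this]; exact hT₀m hh
  show ψ αA ∈ E
  refine mem_of_conj_mem hT' (t := a⁻¹ * π r * a) (hmemT _ hrT) ?_ ?_
  · intro e
    have h1 : π r = 1 :=
      calc π r = a * (a⁻¹ * π r * a) * a⁻¹ := by group
        _ = 1 := by rw [e]; group
    rw [← MonoidHom.mem_ker, QuotientGroup.ker_mk'] at h1
    exact hgP (mem_of_nHom_mem_inn hPS (centralizerIn_le_of_centric hcen) gg h1)
  · have := hmemT _ hsT
    simpa [ψ, mul_assoc] using this

/-- Alperin–Goldschmidt fusion theorem. -/
theorem alperin {E : FusionSystem S}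
    (hE : ∀ P : Subgroup Ω, (P = S ∨ F.IsEssential p P) → F.autGroup P ≤ E.autGroup P) :
    F ≤ E := by
  refine le_of_mor ?_
  suffices ∀ (n : ℕ) (P : Subgroup Ω) (f : Ω → Ω), Mor F P f →
      Nat.card S - Nat.card P ≤ n → Mor E P f from fun P f hf => this _ P f hf le_rfl
  intro n
  induction n with
  | zero =>
    intro P f hf hn
    have : P = S := eq_of_le_of_card_ge le_rfl hf.le (by omega)
    subst this
    obtain ⟨α, hα, he⟩ := hf.exists_aut
      (hf.im_eq_of_le le_rfl hf.im_le le_rfl)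
    exact ((mem_autGroup le_rfl).mp (hE P (Or.inl rfl) hα)).congr he
  | succ n IH =>
    intro P f hf hn
    by_cases hPS : P = S
    · subst hPS
      exact IH P f hf (by omega)
    have hlt : P < S := lt_of_le_of_ne hf.le hPS
    obtain ⟨R, hR, hRn⟩ := exists_fullyNormalized (F := F) hf.le
    have hcard : Nat.card R = Nat.card P := (isConj_card hR).symm
    have hQ : F.IsConj P (im P f) := FusionSysBasic.isConj_iff.mpr ⟨f, hf, rfl⟩
    have hQlt : im P f < S := lt_of_le_of_ne hf.im_le fun e => hPS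
      (eq_of_le_of_card_ge le_rfl hf.le (by rw [← hf.card_im, e]))
    have hRlt : R < S := lt_of_le_of_ne hRn.1 fun e => hPS
      (eq_of_le_of_card_ge le_rfl hf.le (by rw [← hcard, e]))
    have big : ∀ X : Subgroup Ω, X < S → Nat.card X = Nat.card P →
        ∀ (Y : Subgroup Ω) (g : Ω → Ω), Mor F Y g → Nat.card X < Nat.card Y → Mor E Y g := by
      intro X _ hXc Y g hg hY
      exact IH Y g hg (by
        have : Nat.card Y ≤ Nat.card S := Subgroup.card_le_of_le hg.le
        omega)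
    obtain ⟨u, hu, -, huR⟩ := exists_map_to_fullyNormalized hS hF hRn hR
    obtain ⟨v, hv, -, hvR⟩ :=
      exists_map_to_fullyNormalized hS hF hRn (isConj_trans (isConj_symm hQ) hR)
    have huE : Mor E P u := (big P hlt rfl _ u hu (normalizerIn_gt hS hlt)).restrict_to
      (le_normalizerIn hlt.le)
    have hvE : Mor E (im P f) v := (big _ hQlt hf.card_im _ v hv
      (normalizerIn_gt hS hQlt)).restrict_to (le_normalizerIn hQlt.le)
    have huF := hu.restrict_to (le_normalizerIn hlt.le)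
    have hvF := hv.restrict_to (le_normalizerIn hQlt.le)
    obtain ⟨ui, hui, huiu, -, huiP⟩ := huF.exists_inv
    rw [huR] at hui huiP
    have hα₀ : Mor F R ((v ∘ f) ∘ ui) := hui.comp (hf.comp_im hvF) huiP
    have him : im R ((v ∘ f) ∘ ui) = R := hα₀.im_self fun y hy =>
      hvR ▸ apply_mem_im (apply_mem_im (huiP y hy))
    obtain ⟨α, hα, hαe⟩ := hα₀.exists_aut him
    have hαE : Mor E R (afun α) := by
      refine (mem_autGroup hRn.1).mp ?_
      by_contra hno
      have hne : F.autGroup R ⊓ E.autGroup R ≠ F.autGroup R := fun e =>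
        hno (show α ∈ F.autGroup R ⊓ E.autGroup R by rw [e]; exact hα).2
      have hess := essential_of_ne hS hF hRlt hRn inf_le_left hne fun β hβ =>
        ⟨hβ.mem_autGroup, by
          obtain ⟨Y, hRY, g, hg, hge⟩ := hβ
          have hcY : Nat.card R < Nat.card Y := by
            haveI := finite_of_le hg.le
            exact lt_of_le_of_ne (Subgroup.card_le_of_le hRY.le) fun e =>
              hRY.ne (eq_of_le_of_card_ge hg.le hRY.le e.ge)
          exact mem_autGroup_of_mor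
            (((big R hRlt hcard Y g hg hcY).restrict_to hRY.le).congr hge)⟩
      exact hno (hE R (Or.inr hess.1) hα)
    obtain ⟨vi, hvi, hviv, -, -⟩ := hvE.exists_inv
    rw [hvR] at hvi
    have h1 : Mor E P (afun α ∘ u) :=
      huE.comp hαE fun x hx => huR ▸ apply_mem_im hx
    refine (h1.comp hvi fun x hx => afun_mem α (huR ▸ apply_mem_im hx)).congr fun x hx => ?_
    show vi (afun α (u x)) = f x
    rw [hαe _ (huR ▸ apply_mem_im hx)]
    show vi (v (f (ui (u x)))) = f x
    rw [huiu x hx, hviv _ (apply_mem_im hx)]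

theorem eq_inner_of_isPGroup (h : ∀ P : Subgroup Ω, P ≤ S → IsPGroup p (F.autGroup P)) :
    F = innerFusionSystem S := by
  refine le_antisymm_hom (alperin hS hF fun P hP => ?_) inner_le
  rcases hP with rfl | hP
  · obtain ⟨T, hT⟩ := (fullyAutomized_of_saturated_self hF).2
    haveI := finite_autGroup (F := F) P
    have htop : (autInducedBy P P).subgroupOf (F.autGroup P) = ⊤ := by
      rw [← hT]
      obtain ⟨k, hk⟩ := IsPGroup.iff_card.mp (h P le_rfl)
      refine Subgroup.eq_top_of_card_eq _ ?_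
      rw [T.card_eq_multiplicity, hk, Nat.Prime.factorization_pow (Fact.out (p := p.Prime)),
        Finsupp.single_eq_same]
    exact (Subgroup.subgroupOf_eq_top.mp htop).trans (autInducedBy_le le_rfl)
  · exfalso
    obtain ⟨⟨hPS, -⟩, -, hn, E, hdvd, hE, T, hT⟩ := hP
    haveI := hn
    haveI := finite_autGroup (F := F) P
    have hXp : IsPGroup p (F.autGroup P ⧸ (Inn P).subgroupOf (F.autGroup P)) :=
      (h P hPS).to_quotient _
    have hT' : (T : Subgroup (F.autGroup P ⧸ (Inn P).subgroupOf (F.autGroup P))) = ⊤ :=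
      (T.3 (hXp.to_subgroup ⊤) le_top).symm
    apply hE
    refine top_le_iff.mp ?_
    exact hT'.ge.trans (Subgroup.le_normalizer.trans (normalizer_le_of_core_le hT le_rfl (by
      rw [hT']
      intro e
      have h1 := congrArg (fun X => Nat.card (X : Subgroup _)) e
      simp only [Subgroup.card_top, Subgroup.card_bot] at h1
      rw [h1] at hdvd
      exact (Fact.out (p := p.Prime)).not_dvd_one hdvd)))

end Cfsg.Agent.FusionSysAlperin
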