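import Mathlib
import Cfsg.Agent.Lib.FusionEssential88
import Cfsg.Agent.Lib.FusionSysAlperin
import Cfsg.Agent.Lib.PGroupsBasic
import Cfsg.Agent.Lib.MaxClassTwo

/-!
A pearl of a saturated fusion system yields an element of order `p` with centralizer of order `p ^ 2`.
-/

open Subgroup
open scoped commutatorElement

namespace Cfsg.Agent.FusionPearl

open Cfsg

section Groups

variable {G : Type*} [Group G] [Finite G] {p : ℕ} [hp : Fact p.Prime]

/-- A subgroup of order `p ^ 2` generated by `x` and the centre. -/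
theorem card_sup_center (hG : IsPGroup p G) [Nontrivial G] {x : G} (hxp : x ^ p = 1)
    (hx : x ∉ center G) : p ^ 2 ≤ Nat.card (zpowers x ⊔ center G : Subgroup G) := by
  obtain ⟨k, hk⟩ := IsPGroup.iff_card.mp (hG.to_subgroup (zpowers x ⊔ center G))
  have h1 : Nat.card (zpowers x) = p := by
    rw [Nat.card_zpowers]
    exact PGroupsBasic.orderOf_eq_of_pow_eq_one hxp fun h => hx (h ▸ one_mem _)
  have hne : zpowers x ≠ zpowers x ⊔ center G := fun e => by
    have hle : center G ≤ zpowers x := e ▸ le_sup_right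
    obtain ⟨j, hj⟩ := IsPGroup.iff_card.mp (hG.to_subgroup (center G))
    have hZ : p ≤ Nat.card (center G) := by
      have hlt : 1 < Nat.card (center G) := by
        have := hG.center_nontrivial
        exact Finite.one_lt_card
      rw [hj] at hlt ⊢
      exact Nat.le_self_pow (fun h => by rw [h, pow_zero] at hlt; exact lt_irrefl _ hlt) p
    exact hx (eq_of_le_of_card_ge hle (h1.trans_le hZ) ▸ mem_zpowers x)
  have h2 : Nat.card (zpowers x) < Nat.card (zpowers x ⊔ center G : Subgroup G) :=
    lt_of_le_of_ne (card_le_of_le le_sup_left) fun e =>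
      hne (eq_of_le_of_card_ge le_sup_left e.ge)
  rw [h1, hk] at h2
  rw [hk]
  exact Nat.pow_le_pow_right hp.out.pos
    ((Nat.pow_lt_pow_iff_right hp.out.one_lt).mp ((pow_one p).symm ▸ h2))

theorem centralizer_eq (hG : IsPGroup p G) {E : Subgroup G} (hE : Nat.card E = p ^ 2)
    (hexp : ∀ e ∈ E, e ^ p = 1) (hC : centralizer (E : Set G) ≤ E) {x : G} (hxE : x ∈ E)
    (hx : x ∉ center G) : centralizer ({x} : Set G) = E := by
  have : Nontrivial G := ⟨x, 1, fun h => hx (h ▸ one_mem _)⟩
  have hEc : IsMulCommutative E := ⟨⟨IsPGroup.commutative_of_card_eq_prime_sq hE⟩⟩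
  have hY : zpowers x ⊔ center G = E := by
    have hle : zpowers x ⊔ center G ≤ E :=
      sup_le (zpowers_le.mpr hxE) ((center_le_centralizer _).trans hC)
    exact eq_of_le_of_card_ge hle (hE.trans_le (card_sup_center hG (hexp x hxE) hx))
  refine le_antisymm (fun g hg => hC (mem_centralizer_iff.mpr fun e he => ?_)) fun e he => ?_
  · have hle : zpowers x ⊔ center G ≤ centralizer ({g} : Set G) := by
      refine sup_le (zpowers_le.mpr (mem_centralizer_singleton_iff.mpr ?_)) (center_le_centralizer _)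
      exact (mem_centralizer_singleton_iff.mp hg).symm
    rw [hY] at hle
    exact mem_centralizer_singleton_iff.mp (hle he)
  · exact mem_centralizer_singleton_iff.mpr (PGroupsBasic.comm_of_isMulCommutative hEc he hxE)

theorem card_center_of_card_cube {H : Type*} [Group H] [Finite H] (hH : Nat.card H = p ^ 3)
    (hnc : ¬ IsMulCommutative H) : Nat.card (center H) = p := by
  have hP : IsPGroup p H := IsPGroup.of_card hH
  have : Nontrivial H := Finite.one_lt_card_iff_nontrivial.mp (hH ▸ one_lt_pow' hp.out.one_lt (by omega))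
  obtain ⟨k, hk, hk'⟩ := IsPGroup.nontrivial_iff_card (hP.to_subgroup (center H)) |>.mp
    hP.center_nontrivial
  have h := card_mul_index (center H)
  obtain ⟨m, hm⟩ := IsPGroup.iff_card.mp (hP.to_quotient (center H))
  rw [hk', hH, show (center H).index = p ^ m from hm, ← pow_add] at h
  have hkm := Nat.pow_right_injective hp.out.two_le h
  by_contra hne
  refine hnc ⟨⟨MaxClassTwo.eq_center_of_cyclic_quotient ?_⟩⟩
  obtain rfl | rfl : m = 0 ∨ m = 1 := by
    have : k ≠ 1 := fun e => hne (hk'.trans (by rw [e, pow_one]))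
    omega
  · have : Subsingleton (H ⧸ center H) := (Nat.card_eq_one_iff_unique.mp hm).1
    infer_instance
  · exact isCyclic_of_prime_card (hm.trans (pow_one p))

theorem exists_small_centralizer_sq (hG : IsPGroup p G) {E : Subgroup G}
    (hE : Nat.card E = p ^ 2) (hexp : ∀ e ∈ E, e ^ p = 1) (hlt : E ≠ ⊤)
    (hC : centralizer (E : Set G) ≤ E) :
    ∃ x : G, x ^ p = 1 ∧ Nat.card (centralizer ({x} : Set G)) = p ^ 2 := by
  obtain ⟨x, hxE, hx⟩ : ∃ x ∈ E, x ∉ center G := by
    by_contra h
    push_neg at h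
    exact hlt (top_le_iff.mp ((Subgroup.centralizer_eq_top_iff_subset.mpr h).ge.trans hC))
  exact ⟨x, hexp x hxE, by rw [centralizer_eq hG hE hexp hC hxE hx, hE]⟩

theorem exists_small_centralizer_cube (hG : IsPGroup p G) {E : Subgroup G}
    (hE : Nat.card E = p ^ 3) (hnc : ¬ IsMulCommutative E) (hexp : ∀ e ∈ E, e ^ p = 1)
    (hlt : E ≠ ⊤) (hC : centralizer (E : Set G) ≤ E) :
    ∃ x : G, x ^ p = 1 ∧ Nat.card (centralizer ({x} : Set G)) = p ^ 2 := by
  have : Nontrivial G := by
    by_contra h
    rw [not_nontrivial_iff_subsingleton] at h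
    exact hlt (Subsingleton.elim _ _)
  have hZE : center G ≤ E := (center_le_centralizer _).trans hC
  let ZE : Subgroup G := (center E).map E.subtype
  have hZEp : Nat.card ZE = p := by
    rw [card_map_of_injective E.subtype_injective]
    exact card_center_of_card_cube hE hnc
  have hZ : center G = ZE := by
    refine eq_of_le_of_card_ge (fun z hz => ⟨⟨z, hZE hz⟩, mem_center_iff.mpr fun e =>
      Subtype.ext (mem_center_iff.mp hz e), rfl⟩) ?_
    obtain ⟨k, hk, hk'⟩ := IsPGroup.nontrivial_iff_card (hG.to_subgroup (center G)) |>.mp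
      hG.center_nontrivial
    rw [hZEp, hk']
    exact Nat.le_self_pow hk.ne' p
  have hcentral : ∀ u ∈ E, (∀ e ∈ E, e * u = u * e) → u ∈ center G := fun u hu h => by
    rw [hZ]
    exact ⟨⟨u, hu⟩, mem_center_iff.mpr fun e => Subtype.ext (h e e.2), rfl⟩
  let π := QuotientGroup.mk' (center G)
  have hker : π.ker ≤ E := by rw [QuotientGroup.ker_mk']; exact hZE
  have hmap : Nat.card (E.map π) = p ^ 2 := by
    have h := card_mul_index ((center G).subgroupOf E)
    rw [Nat.card_congr (subgroupOfEquivOfLe hZE).toEquiv, hZ, hZEp, hE, ← hZ] at h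
    have hh : Nat.card (E.map π) = (center G).relIndex E := by
      have := relIndex_ker (K := E) π
      rw [QuotientGroup.ker_mk'] at this
      exact this.symm
    rw [hh]
    exact Nat.eq_of_mul_eq_mul_left hp.out.pos (h.trans (by ring))
  -- elements acting trivially on `E` modulo the centre lie in `E`
  have hCbar : centralizer (E.map π : Set (G ⧸ center G)) ≤ E.map π := by
    intro gb hgb
    obtain ⟨g, rfl⟩ := QuotientGroup.mk'_surjective _ gb
    refine mem_map_of_mem π ?_
    have hg : ∀ e ∈ E, ⁅g, e⁆ ∈ center G := fun e he => by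
      rw [← QuotientGroup.eq_one_iff, ← QuotientGroup.mk'_apply, map_commutatorElement,
        commutatorElement_eq_one_iff_mul_comm]
      exact (mem_centralizer_iff.mp hgb _ (mem_map_of_mem π he)).symm
    have hinner : ∀ u ∈ E, ∀ e ∈ E, ⁅u, e⁆ ∈ center G := fun u hu e he => by
      have hcm : IsMulCommutative (E.map π) := ⟨⟨IsPGroup.commutative_of_card_eq_prime_sq hmap⟩⟩
      rw [← QuotientGroup.eq_one_iff, ← QuotientGroup.mk'_apply, map_commutatorElement,
        commutatorElement_eq_one_iff_mul_comm]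
      exact PGroupsBasic.comm_of_isMulCommutative hcm (mem_map_of_mem π hu) (mem_map_of_mem π he)
    obtain ⟨a, ha, b, hb, hab⟩ : ∃ a ∈ E, ∃ b ∈ E, a * b ≠ b * a := by
      by_contra h
      push_neg at h
      exact hnc (PGroupsBasic.isMulCommutative_of_forall h)
    have hgen : closure {a, b} = E := by
      have hle : closure {a, b} ≤ E := (closure_le _).mpr (by
        rintro t (rfl | rfl)
        · exact ha
        · exact hb)
      refine eq_of_le_of_card_ge hle ?_
      obtain ⟨k, hk⟩ := IsPGroup.iff_card.mp (hG.to_subgroup (closure {a, b}))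
      rw [hE, hk]
      refine Nat.pow_le_pow_right hp.out.pos ?_
      by_contra hlt3
      have hcm := PGroupsBasic.isMulCommutative_of_card_le_sq (hG.to_subgroup (closure {a, b}))
        (hk.trans_le (Nat.pow_le_pow_right hp.out.pos (by omega : k ≤ 2)))
      exact hab (PGroupsBasic.comm_of_isMulCommutative hcm (subset_closure (Or.inl rfl))
        (subset_closure (Or.inr rfl)))
    have key : ∀ u v : G, ⁅u, a⁆ = ⁅v, a⁆ → ⁅u, b⁆ = ⁅v, b⁆ → u⁻¹ * v ∈ centralizer (E : Set G) := by
      intro u v h1 h2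
      rw [← hgen, centralizer_closure, mem_centralizer_iff]
      rintro t (rfl | rfl)
      · rw [commutatorElement_def, commutatorElement_def, mul_left_inj] at h1
        calc t * (u⁻¹ * v) = u⁻¹ * (u * t * u⁻¹) * v := by group
          _ = u⁻¹ * (v * t * v⁻¹) * v := by rw [h1]
          _ = u⁻¹ * v * t := by group
      · rw [commutatorElement_def, commutatorElement_def, mul_left_inj] at h2
        calc t * (u⁻¹ * v) = u⁻¹ * (u * t * u⁻¹) * v := by group
          _ = u⁻¹ * (v * t * v⁻¹) * v := by rw [h2]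
          _ = u⁻¹ * v * t := by group
    let f : E.map π → center G × center G := fun q =>
      have h := Classical.choose_spec q.2
      (⟨⁅Classical.choose q.2, a⁆, hinner _ h.1 a ha⟩, ⟨⁅Classical.choose q.2, b⁆, hinner _ h.1 b hb⟩)
    have hinj : Function.Injective f := fun q r h => by
      obtain ⟨hq, hq'⟩ := Classical.choose_spec q.2
      obtain ⟨hr, hr'⟩ := Classical.choose_spec r.2
      have hmem := key _ _ (congrArg (fun t => ((t.1 : center G) : G)) h)
        (congrArg (fun t => ((t.2 : center G) : G)) h)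
      have hz := hcentral _ (mul_mem (inv_mem hq) hr) (mem_centralizer_iff.mp hmem)
      refine Subtype.ext ?_
      rw [← hq', ← hr', QuotientGroup.mk'_apply, QuotientGroup.mk'_apply, QuotientGroup.eq]
      exact hz
    have hbij : Function.Bijective f := (Nat.bijective_iff_injective_and_card f).mpr
      ⟨hinj, by rw [hmap, Nat.card_prod, hZ, hZEp, sq]⟩
    obtain ⟨q, hq⟩ := hbij.2 (⟨⁅g, a⁆, hg a ha⟩, ⟨⁅g, b⁆, hg b hb⟩)
    obtain ⟨hu, -⟩ := Classical.choose_spec q.2
    have hmem := key _ g (congrArg (fun t => ((t.1 : center G) : G)) hq)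
      (congrArg (fun t => ((t.2 : center G) : G)) hq)
    simpa using mul_mem hu (hC hmem)
  have hexpbar : ∀ e ∈ E.map π, e ^ p = 1 := by
    rintro _ ⟨e, he, rfl⟩
    rw [← map_pow, hexp e he, map_one]
  obtain ⟨xb, hxb, hxbc⟩ : ∃ xb ∈ E.map π, xb ∉ center (G ⧸ center G) := by
    by_contra h
    push_neg at h
    have htop : E.map π = ⊤ :=
      top_le_iff.mp ((Subgroup.centralizer_eq_top_iff_subset.mpr h).ge.trans hCbar)
    refine hlt ?_
    rw [← comap_map_eq_self hker, htop, comap_top]
  have hCx := centralizer_eq (hG.to_quotient _) hmap hexpbar hCbar hxb hxbc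
  obtain ⟨x, hxE, rfl⟩ := hxb
  have hxZ : x ∉ center G := fun h => hxbc (by
    rw [show π x = 1 from (QuotientGroup.eq_one_iff x).mpr h]
    exact one_mem _)
  have hCE : centralizer ({x} : Set G) ≤ E := fun g hg => by
    have h : π g ∈ centralizer ({π x} : Set _) := by
      rw [mem_centralizer_singleton_iff, ← map_mul, ← map_mul, mem_centralizer_singleton_iff.mp hg]
    rw [hCx] at h
    rw [← comap_map_eq_self hker]
    exact h
  refine ⟨x, hexp x hxE, ?_⟩
  obtain ⟨k, hk⟩ := IsPGroup.iff_card.mp (hG.to_subgroup (centralizer ({x} : Set G)))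
  have hlow : p ^ 2 ≤ Nat.card (centralizer ({x} : Set G)) :=
    (card_sup_center hG (hexp x hxE) hxZ).trans (card_le_of_le (sup_le
      (zpowers_le.mpr (mem_centralizer_singleton_iff.mpr rfl)) (center_le_centralizer _)))
  have hup : Nat.card (centralizer ({x} : Set G)) < p ^ 3 := by
    rw [← hE]
    refine lt_of_le_of_ne (card_le_of_le hCE) fun e => hxZ (hcentral x hxE fun y hy => ?_)
    exact mem_centralizer_singleton_iff.mp ((eq_of_le_of_card_ge hCE e.ge).ge hy)
  rw [hk] at hlow hup ⊢
  rw [show k = 2 from le_antisymm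
    (Nat.lt_succ_iff.mp ((Nat.pow_lt_pow_iff_right hp.out.one_lt).mp hup))
    ((Nat.pow_le_pow_iff_right hp.out.one_lt).mp hlow)]

end Groups

variable {Ω : Type*} [Group Ω] {S : Subgroup Ω} [Finite S] {p : ℕ} [hp : Fact p.Prime]
  {F : FusionSystem S}

/-- A nonabelian essential subgroup of order `p ^ 3`, `p` odd, has exponent `p`. -/
theorem exponent_of_essential_cube (hS : IsPGroup p S) (hF : F.IsSaturated p) (hp2 : p ≠ 2)
    {E : Subgroup Ω} (hE : F.IsEssential p E) (hcard : Nat.card E = p ^ 3)
    (hnc : ¬ IsMulCommutative E) : ∀ e : E, e ^ p = 1 := by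
  have : Finite E := Finite.of_injective _ (Subgroup.inclusion_injective hE.1.1)
  have hP : IsPGroup p E := IsPGroup.of_card hcard
  have hZ := card_center_of_card_cube hcard hnc
  have hidx : (center E).index = p ^ 2 := by
    have h := card_mul_index (center E)
    rw [hZ, hcard, show p ^ 3 = p * p ^ 2 by ring] at h
    exact Nat.eq_of_mul_eq_mul_left hp.out.pos h
  have hcomm : commutator E ≤ center E :=
    PGroupsBasic.commutator_le_of_index_le_sq hP hidx.le
  have hpow : ∀ e : E, e ^ p ∈ center E := fun e => by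
    rw [← QuotientGroup.eq_one_iff, QuotientGroup.mk_pow]
    by_contra hne
    refine hnc ⟨⟨MaxClassTwo.eq_center_of_cyclic_quotient (isCyclic_of_orderOf_eq_card
      (e : E ⧸ center E) ?_)⟩⟩
    have hq : Nat.card (E ⧸ center E) = p ^ 2 := hidx
    obtain ⟨i, hi, he⟩ := (Nat.dvd_prime_pow hp.out).mp (hq ▸ orderOf_dvd_natCard (e : E ⧸ center E))
    rw [he, hq]
    congr 1
    by_contra hi2
    refine hne (orderOf_dvd_iff_pow_eq_one.mp (he ▸ ?_))
    exact (pow_dvd_pow p (by omega : i ≤ 1)).trans (pow_one p).dvd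
  have hz : ∀ z ∈ center E, z ^ p = 1 := fun z hz => PGroupsBasic.pow_eq_one_of_card hZ hz
  have hmul : ∀ a b : E, (a * b) ^ p = a ^ p * b ^ p := fun a b => by
    have hc : ⁅b, a⁆ ∈ center E := hcomm (commutator_mem_commutator (mem_top b) (mem_top a))
    rw [PGroupsBasic.mul_pow_of_central hc]
    obtain ⟨m, hm⟩ := hp.out.dvd_choose_self two_ne_zero
      (lt_of_le_of_ne hp.out.two_le (Ne.symm hp2))
    rw [hm, pow_mul, hz _ hc, one_pow, mul_one]
  let f : E →* center E :=
    { toFun := fun e => ⟨e ^ p, hpow e⟩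
      map_one' := Subtype.ext (one_pow p)
      map_mul' := fun a b => Subtype.ext (hmul a b) }
  have hfker : ∀ e : E, e ∈ f.ker ↔ e ^ p = 1 := fun e =>
    ⟨fun h => congrArg Subtype.val (MonoidHom.mem_ker.mp h), fun h => Subtype.ext h⟩
  by_contra hne
  have : f.ker.Characteristic := characteristic_iff_map_le.mpr fun φ => by
    rintro _ ⟨e, he, rfl⟩
    rw [hfker, ← map_pow, (hfker e).mp he, map_one]
  have hfr : frattini E ≤ center E := PGroupsBasic.frattini_le_of_elementary_quotient hcomm hpow
  have hM : frattini E ≤ f.ker := fun e he => (hfker e).mpr (hz e (hfr he))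
  have h := card_mul_index f.ker
  rw [index_ker] at h
  obtain ⟨i, hi, hir⟩ := (Nat.dvd_prime_pow hp.out).mp
    ((pow_one p).symm ▸ hZ ▸ card_subgroup_dvd_card f.range : Nat.card f.range ∣ p ^ 1)
  rw [hir, hcard] at h
  have hi1 : i = 1 := by
    by_contra hi1
    obtain rfl : i = 0 := by omega
    rw [pow_zero, mul_one] at h
    refine hne fun e => (hfker e).mp ?_
    rw [eq_top_of_card_eq f.ker (h.trans hcard.symm)]
    exact mem_top e
  subst hi1
  rw [pow_one, show p ^ 3 = p ^ 2 * p by ring] at h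
  have hk := Nat.eq_of_mul_eq_mul_right hp.out.pos h
  refine FusionEssential88.no_middle hS hF hE f.ker hM ?_ (by rw [hk, hcard]; exact le_of_eq (by ring))
  rw [hk, sq]
  refine Nat.mul_le_mul_right p ?_
  obtain ⟨u, hu⟩ := IsPGroup.iff_card.mp (hP.to_subgroup (frattini E))
  rw [hu]
  refine Nat.le_self_pow (fun h0 => hnc ?_) p
  rw [h0, pow_zero] at hu
  exact ⟨⟨PGroupsBasic.commute_of_frattini_eq_bot hP (Subgroup.eq_bot_of_card_eq _ hu)⟩⟩

/-- A pearl gives an element of order `p` with centralizer of order `p ^ 2`. -/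
theorem exists_small_centralizer (hS : IsPGroup p S) (hF : F.IsSaturated p) (hp2 : p ≠ 2)
    {E : Subgroup Ω} (hE : F.IsEssential p E)
    (hpearl : (Nat.card E = p ^ 2 ∧ ∀ x ∈ E, x ^ p = 1 ∧ IsMulCommutative ↥E) ∨
      (Nat.card E = p ^ 3 ∧ ¬ IsMulCommutative ↥E)) :
    ∃ x : S, x ^ p = 1 ∧ Nat.card (centralizer ({x} : Set S)) = p ^ 2 := by
  have hES : E ≤ S := hE.1.1
  have hcard : Nat.card (E.subgroupOf S) = Nat.card E :=
    Nat.card_congr (subgroupOfEquivOfLe hES).toEquiv
  have hlt : E.subgroupOf S ≠ ⊤ := fun e =>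
    (FusionSysAlperin.essential_lt hS hF hE).not_ge (subgroupOf_eq_top.mp e)
  have hC : centralizer (E.subgroupOf S : Set S) ≤ E.subgroupOf S := fun g hg => by
    refine FusionSysAlperin.centralizerIn_le_of_centric hE.1 ⟨g.2, mem_centralizer_iff.mpr ?_⟩
    intro e he
    exact congrArg Subtype.val (mem_centralizer_iff.mp hg ⟨e, hES he⟩ he)
  rcases hpearl with ⟨hc, h⟩ | ⟨hc, hnc⟩
  · exact exists_small_centralizer_sq hS (hcard.trans hc)
      (fun e he => Subtype.ext (by simpa using (h e he).1)) hlt hC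
  · refine exists_small_centralizer_cube hS (hcard.trans hc) (fun h => hnc ?_) ?_ hlt hC
    · exact ⟨⟨fun a b => Subtype.ext (congrArg (fun t : S => (t : Ω))
        (PGroupsBasic.comm_of_isMulCommutative h
        (x := ⟨(a : Ω), hES a.2⟩) (y := ⟨(b : Ω), hES b.2⟩) a.2 b.2) :)⟩⟩
    · intro e he
      exact Subtype.ext (by
        simpa using congrArg Subtype.val
          (exponent_of_essential_cube hS hF hp2 hE hc hnc ⟨(e : Ω), he⟩))

end Cfsg.Agent.FusionPearl
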