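import Mathlib
import Cfsg.Prelude.Def_CaseTheorems
import Cfsg.Prelude.Def_PLocal
import Cfsg.Agent.Lib.PGroupsBasic
import Cfsg.Agent.Lib.PGroupsCyclic
import Cfsg.Agent.Lib.PGroupsCritical
import Cfsg.Agent.Lib.RankTwoOdd
import Cfsg.Agent.S0123

/-! `p`-groups of rank two, `p > 3`, whose `Ω₁` has order `p ^ 3`, under an odd order group of
automorphisms `Γ` with `[R, Γ] = R`: then `R = Ω₁(R) C_R(Ω₁(R))`. -/

set_option autoImplicit false

namespace Cfsg.Agent.PGroupsBlackburn

open Subgroup Cfsg.Agent.PGroupsBasic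
open scoped commutatorElement

variable {R : Type*} [Group R] [Finite R] {p : ℕ} [hp : Fact p.Prime]

theorem modEq_of_pow_eq {y : R} (hy : orderOf y = p) {i j : ℕ} (h : y ^ i = y ^ j) :
    (i : ZMod p) = (j : ZMod p) := by
  rw [pow_eq_pow_iff_modEq, hy] at h
  exact (ZMod.natCast_eq_natCast_iff i j p).mpr h

theorem exists_pow_of_mem {y g : R} (h : g ∈ zpowers y) : ∃ i : ℕ, y ^ i = g :=
  (isOfFinOrder_of_finite y).mem_powers_iff_mem_zpowers.mpr h

theorem exists_pow_mul_of_sup {H : Subgroup R} [H.Normal] {y g : R} (h : g ∈ H ⊔ zpowers y) :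
    ∃ i : ℕ, ∃ k ∈ H, g = y ^ i * k := by
  obtain ⟨k, hk, v, hv, rfl⟩ := mem_sup_of_normal_left.mp h
  obtain ⟨i, rfl⟩ := exists_pow_of_mem hv
  exact ⟨i, (y ^ i)⁻¹ * k * y ^ i, by simpa using Normal.conj_mem ‹H.Normal› k hk (y ^ i)⁻¹, by group⟩

/-- Data for the nonabelian subgroup `E` of order `p ^ 3`. -/
structure Frame (p : ℕ) (E B Z : Subgroup R) (a β : R) : Prop where
  rank : Cfsg.PRankLE p 2 R
  expE : ∀ y ∈ E, y ^ p = 1
  omega : ∀ y, y ^ p = 1 → y ∈ E
  BE : B ≤ E
  ZB : Z ≤ B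
  Zc : Z ≤ center R
  cardZ : Nat.card Z = p
  cardB : Nat.card B = p ^ 2
  cardE : Nat.card E = p ^ 3
  Bn : B.Normal
  aE : a ∈ E
  aB : a ∉ B
  βB : β ∈ B
  βZ : β ∉ Z
  Eeq : B ⊔ zpowers a = E
  Beq : Z ⊔ zpowers β = B
  derE : ∀ u ∈ E, ∀ v ∈ E, ⁅u, v⁆ ∈ Z
  stepE : ∀ g : R, ∀ u ∈ E, ⁅g, u⁆ ∈ B
  stepB : ∀ g : R, ∀ u ∈ B, ⁅g, u⁆ ∈ Z
  ne : ⁅a, β⁆ ≠ 1
  Zmem : ∀ u ∈ E, (∀ v ∈ E, u * v = v * u) → u ∈ Z

theorem exists_frame (h3 : 3 < p) (hR : IsPGroup p R) (hrk : Cfsg.PRankLE p 2 R) (E : Subgroup R)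
    [hEn : E.Normal] (hE : E = closure {x : R | x ^ p = 1}) (hE3 : p ^ 2 < Nat.card E) :
    ∃ B Z a β, Frame p E B Z a β := by
  have hrk' : ∀ A : Subgroup R, Cfsg.IsElementaryAbelian p A → Nat.card A ≤ p ^ 2 :=
    fun A hA => hrk A hA.1 hA.2
  have hexp : ∀ y ∈ E, y ^ p = 1 := fun y hy =>
    Cfsg.Agent.RankTwoOdd.omega_exponent h3 hR hrk' (hE ▸ hy)
  -- `|E| = p ^ 3`
  obtain ⟨A, hA⟩ := Set.Finite.exists_maximal
    (Set.toFinite {A : Subgroup E | A.Normal ∧ IsMulCommutative A}) ⟨⊥, inferInstance, inferInstance⟩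
  obtain ⟨hAn, hAc⟩ := hA.prop
  have hEp := hR.to_subgroup E
  have hC := Cfsg.Agent.PGroupsCritical.centralizer_eq_of_maximal hEp A hAc
    (fun B hB hBc hle => le_antisymm (hA.2 ⟨hB, hBc⟩ hle) hle)
  have hA2 : Nat.card A ≤ p ^ 2 := by
    rw [← card_map_of_injective E.subtype_injective]
    refine hrk _ (isMulCommutative_of_forall ?_) ?_
    · rintro _ ⟨u, hu, rfl⟩ _ ⟨v, hv, rfl⟩
      exact congrArg Subtype.val (comm_of_isMulCommutative hAc hu hv)
    · rintro _ ⟨u, -, rfl⟩
      exact hexp _ u.2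
  obtain ⟨i, hi⟩ := IsPGroup.iff_card.mp (hEp.to_subgroup A)
  have hi2 : i ≤ 2 := (Nat.pow_le_pow_iff_right hp.out.one_lt).mp (hi ▸ hA2)
  have hidx := Cfsg.Agent.PGroupsCritical.index_centralizer_le hEp i A hAn hAc hi
  rw [hC] at hidx
  have hs : ∑ j ∈ Finset.range i, j ≤ 1 := by interval_cases i <;> decide
  obtain ⟨k, hk⟩ := IsPGroup.iff_card.mp hEp
  have hk3 : k = 3 := by
    have h1 : p ^ k ≤ p ^ 2 * p ^ 1 := by
      rw [← hk, ← card_mul_index A]
      exact Nat.mul_le_mul hA2 (hidx.trans (Nat.pow_le_pow_right hp.out.pos hs))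
    rw [← pow_add] at h1
    have := (Nat.pow_le_pow_iff_right hp.out.one_lt).mp h1
    rw [hk] at hE3
    have := (Nat.pow_lt_pow_iff_right hp.out.one_lt).mp hE3
    omega
  subst hk3
  -- the chain `Z < B < E`
  obtain ⟨Z, hZn, hZE, hZ⟩ := exists_normal_card_pow hR E 1 (by
    rw [hk]; exact Nat.pow_le_pow_right hp.out.pos (by omega))
  rw [pow_one] at hZ
  haveI := hZn
  obtain ⟨B, hBn, hZB, hBE, hB⟩ := exists_normal_card hR hZE 1 (by
    rw [hZ, hk, pow_one, ← pow_two]; exact Nat.pow_le_pow_right hp.out.pos (by omega))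
  rw [hZ, pow_one, ← pow_two] at hB
  haveI := hBn
  have hZc : Z ≤ center R := le_center_of_card_eq_prime hR hZ
  have hlt : ∀ {S T : Subgroup R} {m l : ℕ}, Nat.card S = p ^ m → Nat.card T = p ^ l → m < l →
      ∃ u ∈ T, u ∉ S := fun {S T m l} hS hT hml => SetLike.not_le_iff_exists.mp fun h => by
    have := card_le_of_le h
    rw [hS, hT] at this
    exact absurd this (not_le.mpr (Nat.pow_lt_pow_right hp.out.one_lt hml))
  obtain ⟨β, hβ, hβZ⟩ := hlt (hZ.trans (pow_one p).symm) hB (by omega)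
  obtain ⟨a, ha, haB⟩ := hlt hB hk (by omega)
  have hoβ : orderOf β = p := orderOf_eq_of_pow_eq_one (hexp β (hBE hβ)) fun h => hβZ (h ▸ one_mem Z)
  have hoa : orderOf a = p := orderOf_eq_of_pow_eq_one (hexp a ha) fun h => haB (h ▸ one_mem B)
  have hBeq : Z ⊔ zpowers β = B := eq_of_le_of_card_ge (sup_le hZB (zpowers_le.mpr hβ))
    (by rw [card_sup_zpowers hoβ hβZ, hB, hZ, pow_two])
  have hEeq : B ⊔ zpowers a = E := eq_of_le_of_card_ge (sup_le hBE (zpowers_le.mpr ha))
    (by rw [card_sup_zpowers hoa haB, hk, hB, ← pow_succ])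
  have hcardB : Nat.card E = Nat.card B * p := by rw [hk, hB, ← pow_succ]
  have hcardZ : Nat.card B = Nat.card Z * p := by rw [hB, hZ, pow_two]
  have hstepE : ∀ g : R, ∀ u ∈ E, ⁅g, u⁆ ∈ B := fun g u hu =>
    Cfsg.Agent.PGroupsCritical.commutator_mem_of_succ hR hBE hcardB hu g
  have hstepB : ∀ g : R, ∀ u ∈ B, ⁅g, u⁆ ∈ Z := fun g u hu =>
    Cfsg.Agent.PGroupsCritical.commutator_mem_of_succ hR hZB hcardZ hu g
  have hne : ⁅a, β⁆ ≠ 1 := by
    intro h
    have hc : Commute a β := commutatorElement_eq_one_iff_commute.mp h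
    have hZa : ∀ z ∈ Z, ∀ g : R, Commute g z := fun z hz g => mem_center_iff.mp (hZc hz) g
    have hle : E ≤ centralizer (E : Set R) := by
      conv_lhs => rw [← hEeq, ← hBeq]
      have hβE : β ∈ centralizer (E : Set R) := by
        rw [← zpowers_le, le_centralizer_iff, ← hEeq, ← hBeq]
        refine sup_le (sup_le (fun z hz => center_le_centralizer _ (hZc hz))
          (le_centralizer_of_isMulCommutative inferInstance))
          (zpowers_le.mpr (mem_centralizer_iff.mpr ?_))
        intro w hw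
        obtain ⟨j, rfl⟩ := mem_zpowers_iff.mp hw
        exact (hc.zpow_right j).symm.eq
      refine sup_le (sup_le (fun z hz => center_le_centralizer _ (hZc hz)) (zpowers_le.mpr hβE))
        (zpowers_le.mpr ?_)
      rw [← zpowers_le, le_centralizer_iff, ← hEeq, ← hBeq]
      refine sup_le (sup_le (fun z hz => center_le_centralizer _ (hZc hz))
        (zpowers_le.mpr (mem_centralizer_iff.mpr ?_)))
        (le_centralizer_of_isMulCommutative inferInstance)
      intro w hw
      obtain ⟨j, rfl⟩ := mem_zpowers_iff.mp hw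
      exact (hc.zpow_left j).eq
    have := hrk E (isMulCommutative_of_le_centralizer hle) hexp
    omega
  have hderE : ∀ u ∈ E, ∀ v ∈ E, ⁅u, v⁆ ∈ Z := by
    intro u hu v hv
    have h := commutator_le_of_index_le_sq hEp (N := Z.subgroupOf E) (by
      have h1 := card_mul_index (Z.subgroupOf E)
      rw [Nat.card_congr (subgroupOfEquivOfLe hZE).toEquiv, hZ, hk, pow_succ', mul_eq_mul_left_iff] at h1
      exact (h1.resolve_right hp.out.ne_zero).le)
    exact h (commutator_mem_commutator (mem_top (⟨u, hu⟩ : E)) (mem_top (⟨v, hv⟩ : E)))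
  refine ⟨B, Z, a, β, hrk, hexp, fun y hy => hE ▸ subset_closure hy, hBE, hZB, hZc, hZ, hB, hk, hBn,
    ha, haB, hβ, hβZ, hEeq, hBeq, hderE, hstepE, hstepB, hne, ?_⟩
  intro u hu hc
  by_contra huZ
  have huo : orderOf u = p := orderOf_eq_of_pow_eq_one (hexp u hu) fun h => huZ (h ▸ one_mem Z)
  -- the centre of `E` would have index at most `p`
  set T := Z ⊔ zpowers u with hT
  have hTc : Nat.card T = p ^ 2 := by rw [hT, card_sup_zpowers huo huZ, hZ, pow_two]
  have hTle : T ≤ centralizer (E : Set R) := sup_le (fun z hz => center_le_centralizer _ (hZc hz))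
    (zpowers_le.mpr (mem_centralizer_iff.mpr fun v hv => (hc v hv).symm))
  obtain ⟨w, hw, hwT⟩ := hlt hTc hk (by omega)
  have hwo : orderOf w = p := orderOf_eq_of_pow_eq_one (hexp w hw) fun h => hwT (h ▸ one_mem T)
  have hTE : T ≤ E := sup_le hZE (zpowers_le.mpr hu)
  have hE' : E ≤ T ⊔ zpowers w := by
    haveI : (T.subgroupOf E).Normal := normal_subgroupOf_iff_le_normalizer hTE |>.mpr fun g hg =>
      centralizer_le_normalizer _ (mem_centralizer_iff.mpr fun t ht =>
        (mem_centralizer_iff.mp (hTle ht) g hg).symm)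
    have h := card_sup_zpowers (H := T.subgroupOf E) (x := ⟨w, hw⟩)
      (by rw [Subgroup.orderOf_mk, hwo]) hwT
    rw [Nat.card_congr (subgroupOfEquivOfLe hTE).toEquiv, hTc, ← pow_succ, ← hk] at h
    intro v hv
    have hv' : (⟨v, hv⟩ : E) ∈ T.subgroupOf E ⊔ zpowers (⟨w, hw⟩ : E) :=
      (eq_top_of_card_eq _ h).ge (mem_top _)
    have := mem_map_of_mem E.subtype hv'
    rwa [Subgroup.map_sup, map_subgroupOf_eq_of_le hTE, MonoidHom.map_zpowers] at this
  refine absurd (hrk E (isMulCommutative_of_forall fun x hx y hy => ?_) hexp) (not_le.mpr hE3)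
  have hcl : T ⊔ zpowers w ≤ centralizer ({w} : Set R) := sup_le
    (fun t ht => mem_centralizer_singleton_iff.mpr (mem_centralizer_iff.mp (hTle ht) w hw).symm)
    (zpowers_le.mpr (mem_centralizer_singleton_iff.mpr rfl))
  have hall : T ⊔ zpowers w ≤ centralizer (E : Set R) := sup_le hTle
    (zpowers_le.mpr (mem_centralizer_iff.mpr fun v hv => mem_centralizer_singleton_iff.mp (hcl (hE' hv))))
  exact (mem_centralizer_iff.mp (hall (hE' hy)) x hx)

variable {E B Z : Subgroup R} {a β : R}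

theorem Frame.commutator_central (F : Frame p E B Z a β) {g u : R} (hu : u ∈ B) :
    ⁅g, u⁆ ∈ center R := F.Zc (F.stepB g u hu)

theorem Frame.orderOf_ne (F : Frame p E B Z a β) : orderOf ⁅a, β⁆ = p :=
  orderOf_eq_of_pow_eq_one
    (F.expE _ (F.BE (F.ZB (F.derE a F.aE β (F.BE F.βB))))) F.ne

theorem Frame.zpowers_ne (F : Frame p E B Z a β) : zpowers ⁅a, β⁆ = Z :=
  eq_of_le_of_card_ge (zpowers_le.mpr (F.derE a F.aE β (F.BE F.βB)))
    (by rw [Nat.card_zpowers, F.orderOf_ne, F.cardZ])

theorem Frame.centralizes (F : Frame p E B Z a β) {w : R} (h1 : Commute w a) (h2 : Commute w β) :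
    w ∈ centralizer (E : Set R) := by
  rw [← zpowers_le, le_centralizer_iff, ← F.Eeq, ← F.Beq]
  refine sup_le (sup_le (fun z hz => center_le_centralizer _ (F.Zc hz))
    (zpowers_le.mpr (mem_centralizer_iff.mpr ?_))) (zpowers_le.mpr (mem_centralizer_iff.mpr ?_)) <;>
  · intro v hv
    obtain ⟨j, rfl⟩ := mem_zpowers_iff.mp hv
    first | exact (h2.zpow_left j).eq | exact (h1.zpow_left j).eq

theorem Frame.mem_sup (F : Frame p E B Z a β) [E.Normal] {w : R} (h : ⁅w, a⁆ ∈ Z) :
    w ∈ E ⊔ centralizer (E : Set R) := by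
  obtain ⟨i, hi⟩ := exists_pow_of_mem (F.zpowers_ne.ge h)
  obtain ⟨j, hj⟩ := exists_pow_of_mem (F.zpowers_ne.ge (F.stepB w β F.βB))
  set z := ⁅a, β⁆ with hz
  have hzc : z ∈ center R := F.commutator_central F.βB
  have hβa : ⁅β, a⁆ = z⁻¹ := (commutatorElement_inv a β).symm
  have hβac : ⁅β, a⁆ ∈ center R := hβa ▸ inv_mem hzc
  have haj : ⁅a ^ j, β⁆ = z ^ j := commutatorElement_pow_left hzc j
  have hbi : ⁅(β ^ i)⁻¹, a⁆ = z ^ i := by
    have h0 : ⁅β ^ i, a⁆ = (z ^ i)⁻¹ := by rw [commutatorElement_pow_left hβac, hβa, inv_pow]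
    rw [commutatorElement_inv_left_of_central (h0 ▸ inv_mem (pow_mem hzc i)), h0, inv_inv]
  set e := (β ^ i)⁻¹ * a ^ j with he
  have heE : e ∈ E := mul_mem (inv_mem (pow_mem (F.BE F.βB) i)) (pow_mem F.aE j)
  have hea : ⁅e, a⁆ = z ^ i := by
    have h1 : ⁅a ^ j, a⁆ = 1 :=
      commutatorElement_eq_one_iff_commute.mpr ((Commute.refl a).pow_left j)
    rw [he, commutatorElement_mul_left_of_central (h1 ▸ one_mem _), h1, hbi, mul_one]
  have heb : ⁅e, β⁆ = z ^ j := by
    have h1 : ⁅(β ^ i)⁻¹, β⁆ = 1 :=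
      commutatorElement_eq_one_iff_commute.mpr ((Commute.refl β).pow_left i).inv_left
    rw [he, commutatorElement_mul_left_of_central (haj ▸ pow_mem hzc j), h1, one_mul, haj]
  have hwa : ⁅w, a⁆ ∈ center R := F.Zc h
  have hwb : ⁅w, β⁆ ∈ center R := F.commutator_central F.βB
  have hc : e⁻¹ * w ∈ centralizer (E : Set R) := by
    refine F.centralizes ?_ ?_ <;> rw [← commutatorElement_eq_one_iff_commute]
    · rw [commutatorElement_mul_left_of_central hwa,
        commutatorElement_inv_left_of_central (hea ▸ pow_mem hzc i), hea, ← hi, inv_mul_cancel]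
    · rw [commutatorElement_mul_left_of_central hwb,
        commutatorElement_inv_left_of_central (heb ▸ pow_mem hzc j), heb, ← hj, inv_mul_cancel]
  rw [show w = e * (e⁻¹ * w) by group]
  exact mul_mem (mem_sup_left heE) (mem_sup_right hc)

/-- The main step. -/
theorem sup_centralizer_eq_top (h3 : 3 < p) (hR : IsPGroup p R) [E.Normal] (F : Frame p E B Z a β)
    (Γ : Subgroup (MulAut R)) (hodd : Odd (Nat.card Γ)) (hcop : (Nat.card Γ).Coprime p)
    (hgen : closure {y : R | ∃ w : R, ∃ α ∈ Γ, y = α w * w⁻¹} = ⊤)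
    (hEinv : ∀ α : MulAut R, ∀ u ∈ E, α u ∈ E) :
    E ⊔ centralizer (E : Set R) = ⊤ := by
  classical
  set C := centralizer (E : Set R) with hC
  set K := E ⊔ C with hK
  haveI hCn : C.Normal := inferInstance
  haveI hBn : B.Normal := F.Bn
  by_contra hne
  obtain ⟨x, hx⟩ : ∃ x, x ∉ K := by
    by_contra h
    push Not at h
    exact hne (eq_top_iff.mpr fun w _ => h w)
  -- `C` is cyclic
  have hCE : ∀ u ∈ C, u ^ p = 1 → u ∈ Z := fun u hu hup => F.Zmem u (F.omega u hup) fun v hv =>
    ((mem_centralizer_iff.mp hu) v hv).symm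
  have hCcyc : IsCyclic C := by
    rcases Cfsg.Agent.PGroupsCyclic.isCyclic_or_quaternion (hR.to_subgroup C) (fun H H' hH hH' => by
      have key : ∀ H : Subgroup C, Nat.card H = p → H = Z.subgroupOf C := fun H hH => by
        refine eq_of_le_of_card_ge (fun u hu => hCE u u.2 ?_) ?_
        · exact congrArg Subtype.val (pow_eq_one_of_card hH hu)
        · rw [hH, ← F.cardZ]
          exact le_of_eq (Nat.card_congr (subgroupOfEquivOfLe
            (fun z hz => center_le_centralizer _ (F.Zc hz))).toEquiv)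
      rw [key H hH, key H' hH']) with h | ⟨h, -⟩
    · exact h
    · omega
  obtain ⟨⟨c, hc⟩, hcg⟩ := hCcyc.exists_generator
  have hCle : ∀ u ∈ C, ∃ i : ℕ, c ^ i = u := fun u hu => exists_pow_of_mem (by
    obtain ⟨i, hi⟩ := mem_zpowers_iff.mp (hcg ⟨u, hu⟩)
    exact mem_zpowers_iff.mpr ⟨i, congrArg Subtype.val hi⟩)
  have hCinv : ∀ α : MulAut R, ∀ u ∈ C, α u ∈ C := fun α u hu => mem_centralizer_iff.mpr fun v hv => by
    have := congrArg α (mem_centralizer_iff.mp hu (α.symm v) (hEinv α.symm v hv))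
    simpa using this
  have hKinv : ∀ α : MulAut R, ∀ u ∈ K, α u ∈ K := by
    intro α u hu
    obtain ⟨e, he, v, hv, rfl⟩ := mem_sup_of_normal_left.mp hu
    rw [map_mul]
    exact mul_mem (mem_sup_left (hEinv α e he)) (mem_sup_right (hCinv α v hv))
  -- `x` generates `R` modulo `K`
  have hxa : ⁅x, a⁆ ∉ Z := fun h => hx (F.mem_sup h)
  have hxaB : ⁅x, a⁆ ∈ B := F.stepE x a F.aE
  set b := ⁅x, a⁆ with hb
  have hbo : orderOf b = p := orderOf_eq_of_pow_eq_one (F.expE b (F.BE hxaB))
    fun h => hxa (h.symm ▸ one_mem Z)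
  have hdec : ∀ w : R, ∃ r : ℕ, ∃ k ∈ K, w = x ^ r * k := by
    intro w
    have h : ⁅w, a⁆ ∈ Z ⊔ zpowers b := by
      haveI : Z.Normal := normal_of_le_center F.Zc
      have he : Z ⊔ zpowers b = B := eq_of_le_of_card_ge (sup_le F.ZB (zpowers_le.mpr hxaB))
        (by rw [card_sup_zpowers hbo hxa, F.cardB, F.cardZ, pow_two])
      rw [he]; exact F.stepE w a F.aE
    haveI : Z.Normal := normal_of_le_center F.Zc
    obtain ⟨r, ζ, hζ, hrζ⟩ := exists_pow_mul_of_sup h
    refine ⟨r, (x ^ r)⁻¹ * w, F.mem_sup ?_, by group⟩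
    set π := QuotientGroup.mk' Z with hπ
    rw [← QuotientGroup.eq_one_iff, ← QuotientGroup.mk'_apply]
    have hcen : ∀ g : R, π ⁅g, a⁆ ∈ center (R ⧸ Z) := fun g => mem_center_iff.mpr fun q => by
      obtain ⟨q, rfl⟩ := QuotientGroup.mk'_surjective Z q
      rw [← commutatorElement_eq_one_iff_mul_comm, ← map_commutatorElement,
        QuotientGroup.mk'_apply, QuotientGroup.eq_one_iff]
      exact F.stepB q _ (F.stepE g a F.aE)
    simp only [map_commutatorElement] at hcen ⊢
    rw [map_mul, map_inv, map_pow, commutatorElement_mul_left_of_central (hcen w),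
      commutatorElement_inv_left_of_central (by rw [← map_pow]; exact hcen _),
      commutatorElement_pow_left (hcen x), ← map_commutatorElement, ← map_commutatorElement, hrζ,
      map_mul, map_pow, (QuotientGroup.eq_one_iff ζ).mpr hζ |> fun h => (h : π ζ = 1), mul_one,
      inv_mul_cancel]
  -- some automorphism moves `x` modulo `K` nontrivially
  choose r k hk hrk using hdec
  have hKc : ∀ u ∈ K, Commute u c := by
    intro u hu
    obtain ⟨e, he, v, hv, rfl⟩ := mem_sup_of_normal_left.mp hu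
    obtain ⟨i, rfl⟩ := hCle v hv
    exact Commute.mul_left (mem_centralizer_iff.mp hc e he) ((Commute.refl c).pow_left i)
  have hxp : x ^ p ∈ K := by
    have : ⁅x ^ p, a⁆ ∈ Z := by
      haveI : Z.Normal := normal_of_le_center F.Zc
      rw [← QuotientGroup.eq_one_iff, ← QuotientGroup.mk'_apply, map_commutatorElement, map_pow,
        commutatorElement_pow_left, ← map_commutatorElement, ← map_pow, ← hb, F.expE b (F.BE hxaB),
        map_one]
      refine mem_center_iff.mpr fun q => ?_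
      obtain ⟨q, rfl⟩ := QuotientGroup.mk'_surjective Z q
      rw [← commutatorElement_eq_one_iff_mul_comm, ← map_commutatorElement, ← map_commutatorElement,
        QuotientGroup.mk'_apply, QuotientGroup.eq_one_iff]
      exact F.stepB q _ hxaB
    exact F.mem_sup this
  have hrne : ∀ α : MulAut R, ¬ p ∣ r (α x) := by
    rintro α ⟨d, hd⟩
    refine hx ?_
    have h1 : α x ∈ K := by
      rw [hrk (α x), hd, pow_mul]
      exact mul_mem (pow_mem hxp d) (hk _)
    simpa using hKinv α.symm _ h1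
  have hmove : ∃ α ∈ Γ, (r (α x) : ZMod p) ≠ 1 := by
    by_contra hall
    push Not at hall
    refine hx (?_ : x ∈ K)
    have hle : closure {y : R | ∃ w : R, ∃ α ∈ Γ, y = α w * w⁻¹} ≤ K := by
      rw [closure_le]
      rintro y ⟨w, α, hα, rfl⟩
      haveI : K.Normal := inferInstance
      rw [SetLike.mem_coe, ← QuotientGroup.eq_one_iff, ← QuotientGroup.mk'_apply, map_mul, map_inv,
        mul_inv_eq_one]
      set π := QuotientGroup.mk' K with hπ
      have hπK : ∀ u ∈ K, π u = 1 := fun u hu => (QuotientGroup.eq_one_iff u).mpr hu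
      have hxo : π x ^ p = 1 := by rw [← map_pow]; exact hπK _ hxp
      have h1 : π (α x) = π x := by
        rw [hrk (α x), map_mul, hπK _ (hk _), mul_one, map_pow]
        have hm : r (α x) ≡ 1 [MOD p] := (ZMod.natCast_eq_natCast_iff _ _ p).mp (by
          rw [Nat.cast_one]; exact hall α hα)
        conv_rhs => rw [← pow_one (π x)]
        exact pow_eq_pow_of_modEq hm hxo
      rw [hrk w]
      simp only [map_mul, map_pow]
      rw [h1, hπK _ (hk _), hπK _ (hKinv α _ (hk _))]
    rw [hgen] at hle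
    exact hle (mem_top x)
  -- `c` is central
  have hxc : Commute x c := by
    obtain ⟨α, -, hα⟩ := hmove
    obtain ⟨u, hu⟩ := hCle (α c) (hCinv α c hc)
    obtain ⟨v, hv⟩ := hCle (x * c * x⁻¹) (hCn.conj_mem c hc x)
    have h1 : x ^ r (α x) * c ^ u * (x ^ r (α x))⁻¹ = (x * c * x⁻¹) ^ u := by
      have h2 : α (x * c * x⁻¹) = (x * c * x⁻¹) ^ u := by
        rw [← hv, map_pow, ← hu, ← pow_mul, ← pow_mul, mul_comm]
      have hax := hrk (α x)
      have hkc := hKc _ (hk (α x))
      generalize r (α x) = r₁ at hax ⊢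
      generalize k (α x) = k₁ at hax hkc
      rw [← h2, map_mul, map_mul, map_inv, ← hu, hax, mul_inv_rev,
        mul_assoc (x ^ r₁) k₁, (hkc.pow_right u).eq]
      group
    rw [← conj_pow] at h1
    obtain ⟨s, hs⟩ := hR c
    have hucop : u.Coprime p := by
      rw [Nat.coprime_comm, hp.out.coprime_iff_not_dvd]
      rintro ⟨d, rfl⟩
      have hc1 : c ≠ 1 := by
        rintro rfl
        have : Nat.card C = 1 := card_eq_one.mpr (eq_bot_iff.mpr fun y hy => by
          obtain ⟨i, rfl⟩ := hCle y hy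
          simp)
        have h2 := card_le_of_le (show Z ≤ C from fun z hz => center_le_centralizer _ (F.Zc hz))
        rw [this, F.cardZ] at h2
        exact absurd h2 (not_le.mpr hp.out.one_lt)
      obtain ⟨m, hm⟩ := IsPGroup.iff_orderOf.mp hR c
      have hm0 : m ≠ 0 := fun h => hc1 (orderOf_eq_one_iff.mp (by rw [hm, h, pow_zero]))
      have h3 : (α c) ^ (p ^ (m - 1)) = 1 := by
        rw [← hu, ← pow_mul]
        refine orderOf_dvd_iff_pow_eq_one.mp ?_
        rw [hm, show p * d * p ^ (m - 1) = p ^ (m - 1 + 1) * d by ring, Nat.sub_add_cancel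
          (Nat.pos_of_ne_zero hm0)]
        exact dvd_mul_right _ _
      rw [← map_pow, map_eq_one_iff α α.injective, ← orderOf_dvd_iff_pow_eq_one, hm,
        Nat.pow_dvd_pow_iff_le_right hp.out.one_lt] at h3
      omega
    have h4 : x ^ r (α x) * c * (x ^ r (α x))⁻¹ = x * c * x⁻¹ := by
      have e1 : (x ^ r (α x) * c * (x ^ r (α x))⁻¹) ^ p ^ s = 1 := by rw [conj_pow, hs]; group
      have e2 : (x * c * x⁻¹) ^ p ^ s = 1 := by rw [conj_pow, hs]; group
      obtain ⟨n, hn⟩ := Nat.exists_mul_mod_eq_one_of_coprime (hucop.pow_right s) (by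
        rcases Nat.eq_zero_or_pos s with rfl | hs0
        · exfalso
          rw [pow_zero, pow_one] at hs
          subst hs
          have : Z ≤ (⊥ : Subgroup R) := fun z hz => by
            obtain ⟨i, hi⟩ := hCle z (center_le_centralizer _ (F.Zc hz))
            rw [one_pow] at hi
            exact mem_bot.mpr hi.symm
          have h2 := card_le_of_le this
          rw [card_bot, F.cardZ] at h2
          exact absurd h2 (not_le.mpr hp.out.one_lt)
        · exact Nat.one_lt_pow hs0.ne' hp.out.one_lt)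
      have key : ∀ y : R, y ^ p ^ s = 1 → (y ^ u) ^ n = y := fun y hy => by
        rw [← pow_mul]
        conv_rhs => rw [← pow_one y, ← hn.2]
        exact pow_eq_pow_of_modEq (Nat.mod_modEq _ _).symm hy
      rw [← key _ e1, ← key _ e2, h1]
    set r' := r (α x) with hr'
    have h5 : Commute (x ^ ((r' : ℤ) - 1)) c := by
      rw [show x ^ ((r' : ℤ) - 1) = x⁻¹ * x ^ r' by group]
      refine mul_inv_eq_iff_eq_mul.mp ?_
      calc x⁻¹ * x ^ r' * c * (x⁻¹ * x ^ r')⁻¹ = x⁻¹ * (x ^ r' * c * (x ^ r')⁻¹) * x := by group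
        _ = c := by rw [h4]; group
    obtain ⟨m, hm⟩ := IsPGroup.iff_orderOf.mp hR x
    have hcop' : IsCoprime ((r' : ℤ) - 1) ((p : ℤ) ^ m) := by
      refine IsCoprime.pow_right (IsCoprime.symm ((Nat.prime_iff_prime_int.mp hp.out).coprime_iff_not_dvd.mpr ?_))
      rw [← ZMod.intCast_zmod_eq_zero_iff_dvd]
      push_cast
      exact sub_ne_zero.mpr hα
    obtain ⟨i, j, hij⟩ := hcop'
    have h7 : x = (x ^ ((r' : ℤ) - 1)) ^ i := by
      rw [← zpow_mul, mul_comm]
      conv_lhs => rw [← zpow_one x, ← hij, zpow_add, mul_comm j, zpow_mul x _ j,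
        show (p : ℤ) ^ m = ((p ^ m : ℕ) : ℤ) by norm_cast, zpow_natCast, ← hm, pow_orderOf_eq_one,
        one_zpow, mul_one]
    exact h7 ▸ h5.zpow_left i
  have hcc : c ∈ center R := mem_center_iff.mpr fun w => by
    rw [hrk w]; exact ((hxc.pow_left _).mul_left (hKc _ (hk w))).eq
  have hCcen : C ≤ center R := fun y hy => by
    obtain ⟨i, rfl⟩ := hCle y hy
    exact pow_mem hcc i
  -- the derived group lies in `B`, so taking `p`-th powers is a homomorphism
  have hder : commutator R ≤ B := by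
    rw [_root_.commutator_def, Subgroup.commutator_le]
    intro v _ w _
    set π := QuotientGroup.mk' B with hπ
    rw [← QuotientGroup.eq_one_iff, ← QuotientGroup.mk'_apply, map_commutatorElement,
      commutatorElement_eq_one_iff_commute]
    have hKcen : ∀ u ∈ K, ∀ g : R, Commute (π g) (π u) := by
      intro u hu g
      obtain ⟨e, he, y, hy, rfl⟩ := mem_sup_of_normal_left.mp hu
      rw [map_mul]
      refine Commute.mul_right ?_ ((show Commute g y from mem_center_iff.mp (hCcen hy) g).map π)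
      rw [← commutatorElement_eq_one_iff_commute, ← map_commutatorElement]
      exact (QuotientGroup.eq_one_iff _).mpr (F.stepE g e he)
    rw [hrk v, hrk w, map_mul, map_mul, map_pow, map_pow]
    refine Commute.mul_left (Commute.mul_right ((Commute.refl (π x)).pow_pow _ _) ?_)
      (Commute.mul_right ?_ (hKcen _ (hk w) _))
    · rw [← map_pow]; exact hKcen _ (hk w) _
    · rw [← map_pow]; exact (hKcen _ (hk v) _).symm
  have hmul : ∀ v w : R, (v * w) ^ p = v ^ p * w ^ p := by
    refine Cfsg.Agent.S0123.result hR (Or.inr ⟨h3, ?_⟩) fun g hg => ?_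
    · have h1 : ⁅commutator R, (⊤ : Subgroup R)⁆ ≤ Z :=
        (commutator_mono hder le_rfl).trans ((Subgroup.commutator_le).mpr fun u hu g _ => by
          rw [← commutatorElement_inv]; exact inv_mem (F.stepB g u hu))
      refine le_bot_iff.mp ((commutator_mono (h1.trans F.Zc) le_rfl).trans ?_)
      rw [le_bot_iff, commutator_eq_bot_iff_le_centralizer]
      exact center_le_centralizer _
    · exact subset_closure (F.expE g (F.BE (hder hg)))
  -- `x ^ p` generates `C`
  have hxpC : x ^ p ∈ C := by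
    refine mem_centralizer_iff.mpr fun v hv => ?_
    have h1 : (v * x * v⁻¹) ^ p = x ^ p := by
      rw [hmul, hmul, inv_pow, F.expE v hv, inv_one, one_mul, mul_one]
    rw [conj_pow] at h1
    exact mul_inv_eq_iff_eq_mul.mp h1
  obtain ⟨t, ht⟩ := hCle _ hxpC
  have htp : ¬ p ∣ t := by
    rintro ⟨d, rfl⟩
    refine hx ?_
    have h1 : x * (c ^ d)⁻¹ ∈ E := F.omega _ (by
      rw [hmul, inv_pow, ← ht, ← pow_mul, mul_comm, mul_inv_cancel])
    rw [show x = x * (c ^ d)⁻¹ * c ^ d by group]
    exact mul_mem (mem_sup_left h1) (mem_sup_right (pow_mem hc d))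
  -- weights: every automorphism in `Γ` fixes `a` modulo `B`
  have hfix : ∀ α ∈ Γ, (α a)⁻¹ * a ∈ B ∧ True := by
    intro α hα
    refine ⟨?_, trivial⟩
    obtain ⟨m, β', hβ', hm⟩ := exists_pow_mul_of_sup (H := B) (y := a) (g := α a)
      (by rw [F.Eeq]; exact hEinv α a F.aE)
    obtain ⟨u, hu⟩ := hCle (α c) (hCinv α c hc)
    set r' := r (α x) with hr'
    -- `u ≡ r'`
    have hur : (u : ZMod p) = r' := by
      have hkp : ∀ y ∈ K, ∃ i : ℕ, y ^ p = c ^ (p * i) := by
        intro y hy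
        obtain ⟨e, he, v, hv, rfl⟩ := mem_sup_of_normal_left.mp hy
        obtain ⟨i, rfl⟩ := hCle v hv
        exact ⟨i, by rw [hmul, F.expE e he, one_mul, ← pow_mul, mul_comm]⟩
      obtain ⟨i, hi⟩ := hkp _ (hk (α x))
      have h1 : c ^ (u * t) = c ^ (r' * t + p * i) := by
        calc c ^ (u * t) = α (x ^ p) := by rw [← ht, map_pow, ← hu, ← pow_mul]
          _ = (α x) ^ p := map_pow α x p
          _ = c ^ (r' * t + p * i) := by
              rw [hrk (α x), hmul, hi, ← pow_mul, mul_comm r', pow_mul, ← ht, ← pow_mul, ← pow_add,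
                mul_comm t]
      obtain ⟨n, hn⟩ := IsPGroup.iff_orderOf.mp hR c
      have hn0 : n ≠ 0 := by
        rintro rfl
        rw [pow_zero, orderOf_eq_one_iff] at hn
        apply htp
        exfalso
        rw [hn, one_pow] at ht
        exact hx (mem_sup_left (F.omega x ht.symm))
      rw [pow_eq_pow_iff_modEq, hn] at h1
      have h2 := (ZMod.natCast_eq_natCast_iff _ _ p).mpr (h1.of_dvd (dvd_pow_self p hn0))
      push_cast at h2
      rw [ZMod.natCast_self, zero_mul, add_zero] at h2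
      exact mul_right_cancel₀ (fun h => htp ((ZMod.natCast_eq_zero_iff _ _).mp h)) h2
    -- the image of `b`
    haveI : Z.Normal := normal_of_le_center F.Zc
    set π := QuotientGroup.mk' Z with hπ
    have hπZ : ∀ y ∈ Z, π y = 1 := fun y hy => (QuotientGroup.eq_one_iff y).mpr hy
    have hcenQ : ∀ y ∈ B, π y ∈ center (R ⧸ Z) := fun y hy => mem_center_iff.mpr fun q => by
      obtain ⟨q, rfl⟩ := QuotientGroup.mk'_surjective Z q
      rw [← commutatorElement_eq_one_iff_mul_comm, ← map_commutatorElement]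
      exact hπZ _ (F.stepB q y hy)
    have hπb : π (α b) = π b ^ (r' * m) := by
      have hka : ∀ y ∈ K, ⁅y, a ^ m⁆ ∈ Z := by
        intro y hy
        obtain ⟨e, he, v, hv, rfl⟩ := mem_sup_of_normal_left.mp hy
        have h1 : ⁅v, a ^ m⁆ = 1 := commutatorElement_eq_one_iff_commute.mpr
          (mem_center_iff.mp (hCcen hv) _).symm
        rw [commutatorElement_mul_left_of_central (h1 ▸ one_mem _), h1, mul_one]
        exact F.derE e he _ (pow_mem F.aE m)
      have e1 : π ⁅α x, α a⁆ = ⁅π (α x), π (a ^ m)⁆ := by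
        rw [hm, map_commutatorElement, map_mul π (a ^ m)]
        have h2 : ⁅π (α x), π β'⁆ = 1 := by
          rw [← map_commutatorElement]; exact hπZ _ (F.stepB _ _ hβ')
        rw [commutatorElement_mul_right_of_central (h2 ▸ one_mem _), h2, mul_one]
      have h3 : ⁅π (k (α x)), π (a ^ m)⁆ = 1 := by
        rw [← map_commutatorElement]; exact hπZ _ (hka _ (hk _))
      have h4 : ⁅π x, π a⁆ = π b := by rw [← map_commutatorElement, hb]
      have h5 : ⁅π x, π (a ^ m)⁆ = π b ^ m := by
        rw [map_pow, commutatorElement_pow_right (h4 ▸ hcenQ b hxaB), h4]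
      rw [hb, map_commutatorElement α, e1, hrk (α x), map_mul, map_pow π x,
        commutatorElement_mul_left_of_central (h3 ▸ one_mem _), h3, mul_one,
        commutatorElement_pow_left (h5 ▸ pow_mem (hcenQ b hxaB) m), h5, ← pow_mul, mul_comm m, ← hb]
    obtain ⟨ζ, hζ, hαb⟩ : ∃ ζ ∈ Z, α b = b ^ (r' * m) * ζ := by
      refine ⟨(b ^ (r' * m))⁻¹ * α b, ?_, by group⟩
      rw [← QuotientGroup.eq_one_iff, ← QuotientGroup.mk'_apply, map_mul, map_inv, map_pow, hπb,
        inv_mul_cancel]
    -- the image of `[a, b]`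
    set z := ⁅a, b⁆ with hz
    have hzc : z ∈ center R := F.commutator_central hxaB
    have hz1 : z ≠ 1 := by
      intro h
      refine F.ne ?_
      have hcB : b ∈ centralizer ({a} : Set R) :=
        mem_centralizer_singleton_iff.mpr (commutatorElement_eq_one_iff_mul_comm.mp h).symm
      have : B ≤ centralizer ({a} : Set R) := by
        rw [show B = Z ⊔ zpowers b from (eq_of_le_of_card_ge (sup_le F.ZB (zpowers_le.mpr hxaB))
          (by rw [card_sup_zpowers hbo hxa, F.cardB, F.cardZ, pow_two])).symm]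
        exact sup_le (fun y hy => center_le_centralizer _ (F.Zc hy)) (zpowers_le.mpr hcB)
      exact commutatorElement_eq_one_iff_mul_comm.mpr
        (mem_centralizer_singleton_iff.mp (this F.βB)).symm
    have hαz : α z = z ^ (m * (r' * m)) := by
      have e2 : ∀ y : R, ⁅y, ζ⁆ = 1 := fun y =>
        commutatorElement_eq_one_iff_mul_comm.mpr (mem_center_iff.mp (F.Zc hζ) y)
      have e3 : ⁅β', b ^ (r' * m)⁆ = 1 := by
        have hBc : B ≤ centralizer (B : Set R) := by
          conv_lhs => rw [← F.Beq]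
          refine sup_le (fun y hy => center_le_centralizer _ (F.Zc hy)) (zpowers_le.mpr ?_)
          rw [← zpowers_le, le_centralizer_iff, ← F.Beq]
          exact sup_le (fun y hy => center_le_centralizer _ (F.Zc hy))
            (le_centralizer_of_isMulCommutative inferInstance)
        exact commutatorElement_eq_one_iff_mul_comm.mpr
          (mem_centralizer_iff.mp (hBc (pow_mem hxaB _)) β' hβ')
      rw [hz, map_commutatorElement, hm, hαb,
        commutatorElement_mul_right_of_central (e2 _ ▸ one_mem _), e2, mul_one,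
        commutatorElement_mul_left_of_central (e3 ▸ one_mem _), e3, mul_one,
        commutatorElement_pow_left (F.commutator_central (pow_mem hxaB _)),
        commutatorElement_pow_right hzc, ← pow_mul, mul_comm]
    obtain ⟨s, hs⟩ := hCle z (center_le_centralizer _ hzc)
    have hzu : α z = z ^ u := by rw [← hs, map_pow, ← hu, ← pow_mul, ← pow_mul, mul_comm]
    have hzo : orderOf z = p :=
      orderOf_eq_of_pow_eq_one (F.expE z (F.BE (F.stepE a b (F.BE hxaB)))) hz1
    have h6 := modEq_of_pow_eq hzo (hzu.symm.trans hαz)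
    rw [hur] at h6
    push_cast at h6
    have hr0 : (r' : ZMod p) ≠ 0 := fun h => hrne α ((ZMod.natCast_eq_zero_iff _ _).mp h)
    have hm2 : (m : ZMod p) ^ 2 = 1 := mul_left_cancel₀ hr0 (by rw [mul_one, pow_two]; linear_combination -h6)
    -- the order of `α` is odd
    have hpow : ∀ i : ℕ, ((α ^ i) a)⁻¹ * a ^ (m ^ i) ∈ B := by
      intro i
      induction i with
      | zero => simp
      | succ i ih =>
        have hBinv : ∀ y ∈ B, α y ∈ B := by
          intro y hy
          haveI : Z.Normal := normal_of_le_center F.Zc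
          have he : Z ⊔ zpowers b = B := eq_of_le_of_card_ge (sup_le F.ZB (zpowers_le.mpr hxaB))
            (by rw [card_sup_zpowers hbo hxa, F.cardB, F.cardZ, pow_two])
          have hZinv : ∀ y ∈ Z, α y ∈ Z := by
            intro y hy
            refine F.Zmem _ (hEinv α y (F.BE (F.ZB hy))) fun v hv => ?_
            have := congrArg α (mem_center_iff.mp (F.Zc hy) (α.symm v))
            simpa using this.symm
          rw [← he] at hy
          obtain ⟨y₁, hy₁, y₂, hy₂, rfl⟩ := mem_sup_of_normal_left.mp hy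
          obtain ⟨j, rfl⟩ := exists_pow_of_mem hy₂
          rw [map_mul, map_pow, hαb]
          exact mul_mem (F.ZB (hZinv _ hy₁)) (pow_mem (mul_mem (pow_mem hxaB _) (F.ZB hζ)) _)
        have h7 := hBinv _ ih
        rw [map_mul, map_inv, map_pow, hm] at h7
        rw [pow_succ', MulAut.mul_apply]
        have h8 : ((a ^ m * β') ^ m ^ i)⁻¹ * a ^ m ^ (i + 1) ∈ B := by
          rw [← QuotientGroup.eq_one_iff, ← QuotientGroup.mk'_apply, map_mul, map_inv, map_pow,
            map_mul, map_pow, map_pow, (QuotientGroup.eq_one_iff β').mpr hβ' |>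
              fun h => (h : QuotientGroup.mk' B β' = 1), mul_one, ← pow_mul, ← pow_succ',
            inv_mul_cancel]
        have h9 := mul_mem h7 h8
        rwa [mul_assoc, mul_inv_cancel_left] at h9
    have hαN : α ^ Nat.card Γ = 1 := congrArg Subtype.val (pow_card_eq_one' (x := (⟨α, hα⟩ : Γ)))
    have h10 := hpow (Nat.card Γ)
    rw [hαN, MulAut.one_apply] at h10
    have hao : orderOf (QuotientGroup.mk' B a) = p := orderOf_eq_of_pow_eq_one
      (by rw [← map_pow, F.expE a F.aE, map_one]) fun h => F.aB ((QuotientGroup.eq_one_iff a).mp h)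
    have h11 : (QuotientGroup.mk' B a) ^ (m ^ Nat.card Γ) = QuotientGroup.mk' B a ^ 1 := by
      have := (QuotientGroup.eq_one_iff (N := B) _).mpr h10
      rw [← QuotientGroup.mk'_apply, map_mul, map_inv, map_pow, inv_mul_eq_one] at this
      rw [pow_one]; exact this.symm
    rw [pow_eq_pow_iff_modEq, hao] at h11
    have h12 := (ZMod.natCast_eq_natCast_iff _ _ p).mpr h11
    push_cast at h12
    obtain ⟨N, hN⟩ := hodd
    rw [hN, pow_succ, pow_mul, hm2, one_pow, one_mul] at h12
    rw [← QuotientGroup.eq_one_iff, ← QuotientGroup.mk'_apply, map_mul, map_inv, inv_mul_eq_one, hm,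
      map_mul, (QuotientGroup.eq_one_iff β').mpr hβ' |> fun h => (h : QuotientGroup.mk' B β' = 1),
      mul_one, map_pow]
    conv_rhs => rw [← pow_one (QuotientGroup.mk' B a)]
    rw [pow_eq_pow_iff_modEq, hao, ← ZMod.natCast_eq_natCast_iff]
    simpa using h12
  -- the norm map kills `[R, Γ] = R`, but not `a`
  set M := B ⊔ C with hM
  haveI : M.Normal := inferInstance
  have hMinv : ∀ α ∈ Γ, ∀ y ∈ M, α y ∈ M := by
    intro α hα y hy
    obtain ⟨y₁, hy₁, y₂, hy₂, rfl⟩ := mem_sup_of_normal_left.mp hy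
    rw [map_mul]
    refine mul_mem (mem_sup_left ?_) (mem_sup_right (hCinv α _ hy₂))
    have hBdef : ∀ y ∈ B, α y ∈ B := by
      intro y hy
      have hfa := (hfix α hα).1
      -- `B` is the set of elements of `E` commuting with `[E, R]`
      haveI : Z.Normal := normal_of_le_center F.Zc
      have he : Z ⊔ zpowers b = B := eq_of_le_of_card_ge (sup_le F.ZB (zpowers_le.mpr hxaB))
        (by rw [card_sup_zpowers hbo hxa, F.cardB, F.cardZ, pow_two])
      rw [← he] at hy
      obtain ⟨v₁, hv₁, v₂, hv₂, rfl⟩ := mem_sup_of_normal_left.mp hy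
      obtain ⟨j, rfl⟩ := exists_pow_of_mem hv₂
      rw [map_mul, map_pow]
      refine mul_mem ?_ (pow_mem ?_ j)
      · refine F.ZB (F.Zmem _ (hEinv α v₁ (F.BE (F.ZB hv₁))) fun v hv => ?_)
        have := congrArg α (mem_center_iff.mp (F.Zc hv₁) (α.symm v))
        simpa using this.symm
      · rw [hb, map_commutatorElement]
        exact F.stepE _ _ (hEinv α a F.aE)
    exact hBdef _ hy₁
  letI instQ : CommGroup (R ⧸ M) :=
    { (inferInstance : Group (R ⧸ M)) with
      mul_comm := fun u v => by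
        obtain ⟨u, rfl⟩ := QuotientGroup.mk'_surjective M u
        obtain ⟨v, rfl⟩ := QuotientGroup.mk'_surjective M v
        rw [← commutatorElement_eq_one_iff_mul_comm, ← map_commutatorElement]
        exact (QuotientGroup.eq_one_iff _).mpr
          (mem_sup_left (hder (commutator_mem_commutator (mem_top u) (mem_top v)))) }
  haveI : Fintype Γ := Fintype.ofFinite Γ
  let f : R →* R ⧸ M := MonoidHom.mk' (fun w => ∏ α : Γ, QuotientGroup.mk' M ((α : MulAut R) w))
    fun v w => by simp only [map_mul, Finset.prod_mul_distrib]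
  have hker : (⊤ : Subgroup R) ≤ f.ker := by
    rw [← hgen, closure_le]
    rintro y ⟨w, α, hα, rfl⟩
    rw [SetLike.mem_coe, MonoidHom.mem_ker, map_mul, map_inv, mul_inv_eq_one]
    show ∏ γ : Γ, QuotientGroup.mk' M ((γ : MulAut R) (α w)) = ∏ γ : Γ, QuotientGroup.mk' M ((γ : MulAut R) w)
    exact Fintype.prod_equiv (Equiv.mulRight (⟨α, hα⟩ : Γ)) _ _ fun γ => rfl
  have hfa : f a = QuotientGroup.mk' M a ^ Nat.card Γ := by
    show ∏ γ : Γ, QuotientGroup.mk' M ((γ : MulAut R) a) = _
    rw [Nat.card_eq_fintype_card, ← Finset.card_univ, ← Finset.prod_const]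
    refine Finset.prod_congr rfl fun γ _ => ?_
    rw [QuotientGroup.mk'_eq_mk']
    exact ⟨(γ : MulAut R) a⁻¹ * a, mem_sup_left (by rw [map_inv]; exact (hfix γ γ.2).1),
      by rw [map_inv, mul_inv_cancel_left]⟩
  have haM : a ∉ M := by
    intro h
    obtain ⟨y₁, hy₁, y₂, hy₂, hyy⟩ := mem_sup_of_normal_left.mp h
    have h1 : y₂ ∈ E := by
      rw [show y₂ = y₁⁻¹ * a by rw [← hyy, inv_mul_cancel_left]]
      exact mul_mem (inv_mem (F.BE hy₁)) F.aE
    exact F.aB (hyy ▸ mul_mem hy₁ (F.ZB (hCE y₂ hy₂ (F.expE y₂ h1))))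
  have h1 : QuotientGroup.mk' M a ^ Nat.card Γ = 1 := hfa ▸ MonoidHom.mem_ker.mp (hker (mem_top a))
  have h2 : QuotientGroup.mk' M a ^ p = 1 := by rw [← map_pow, F.expE a F.aE, map_one]
  have h3' : QuotientGroup.mk' M a ^ Nat.gcd (Nat.card Γ) p = 1 := pow_gcd_eq_one.mpr ⟨h1, h2⟩
  rw [hcop.gcd_eq_one, pow_one] at h3'
  exact haM ((QuotientGroup.eq_one_iff a).mp h3')

end Cfsg.Agent.PGroupsBlackburn
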