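import Mathlib

/-!
# The Hall–Petrescu formula

Polynomial sequences `ℕ → G` with respect to the lower central series form a group (Lazard,
Leibman); expanding `n ↦ y⁻ⁿ x⁻ⁿ (x y)ⁿ` in binomial exponents gives the Hall–Petrescu formula.
-/

set_option autoImplicit false
set_option linter.unusedSectionVars false

namespace Cfsg.Agent.PGroupsHallPetrescu

open Subgroup
open scoped commutatorElement

variable {G : Type*} [Group G]

/-- The filtration `G, G, γ₂ G, γ₃ G, …`. -/
def Gf (G : Type*) [Group G] (i : ℕ) : Subgroup G := (⊤ : Subgroup G).lowerCentralSeries (i - 1)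

theorem Gf_zero : Gf G 0 = ⊤ := rfl

theorem Gf_one : Gf G 1 = ⊤ := rfl

theorem Gf_antitone {i j : ℕ} (h : i ≤ j) : Gf G j ≤ Gf G i :=
  Subgroup.lowerCentralSeries_antitone _ (by omega)

/-- Three subgroup lemma modulo a normal subgroup. -/
theorem commutator_rotate_le {A B C N : Subgroup G} [N.Normal] (h1 : ⁅⁅B, C⁆, A⁆ ≤ N)
    (h2 : ⁅⁅C, A⁆, B⁆ ≤ N) : ⁅⁅A, B⁆, C⁆ ≤ N := by
  have key : ∀ X Y Z : Subgroup G, ⁅⁅X, Y⁆, Z⁆ ≤ N ↔
      ⁅⁅X.map (QuotientGroup.mk' N), Y.map (QuotientGroup.mk' N)⁆, Z.map (QuotientGroup.mk' N)⁆ = ⊥ := by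
    intro X Y Z
    rw [← map_commutator, ← map_commutator, Subgroup.map_eq_bot_iff, QuotientGroup.ker_mk']
  rw [key] at h1 h2 ⊢
  exact commutator_commutator_eq_bot_of_rotate h1 h2

theorem commutator_lcs_le (a b : ℕ) :
    ⁅(⊤ : Subgroup G).lowerCentralSeries a, (⊤ : Subgroup G).lowerCentralSeries b⁆ ≤
      (⊤ : Subgroup G).lowerCentralSeries (a + b + 1) := by
  induction b generalizing a with
  | zero => exact le_of_eq (Subgroup.lowerCentralSeries_succ _ _).symm
  | succ b ih =>
    rw [Subgroup.lowerCentralSeries_succ, commutator_comm]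
    refine commutator_rotate_le ?_ ?_
    · rw [commutator_comm (⊤ : Subgroup G), ← Subgroup.lowerCentralSeries_succ,
        show a + (b + 1) + 1 = (a + 1) + b + 1 by omega]
      exact ih (a + 1)
    · rw [show a + (b + 1) + 1 = (a + b + 1) + 1 by omega, Subgroup.lowerCentralSeries_succ]
      exact commutator_mono (ih a) le_rfl

theorem commutator_mem_Gf {i j : ℕ} {a b : G} (ha : a ∈ Gf G i) (hb : b ∈ Gf G j) :
    ⁅a, b⁆ ∈ Gf G (i + j) := by
  have h := commutator_lcs_le (i - 1) (j - 1) (commutator_mem_commutator ha hb)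
  exact Subgroup.lowerCentralSeries_antitone _ (by omega) h

/-- A decreasing filtration by subgroups with `⁅F i, F j⁆ ≤ F (i + j)`. -/
structure Filt (M : Type*) [Group M] where
  F : ℕ → Subgroup M
  anti : ∀ {i j : ℕ}, i ≤ j → F j ≤ F i
  comm : ∀ {i j : ℕ} {a b : M}, a ∈ F i → b ∈ F j → ⁅a, b⁆ ∈ F (i + j)

theorem Filt.conj {M : Type*} [Group M] (T : Filt M) {i j : ℕ} {a b : M} (ha : a ∈ T.F i)
    (hb : b ∈ T.F j) : a * b * a⁻¹ ∈ T.F j := by
  have h := mul_mem (T.anti (j.le_add_left i) (T.comm ha hb)) hb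
  simpa [commutatorElement_def, mul_assoc] using h

/-- The derived filtration along an endomorphism `σ`. -/
def Filt.next {M : Type*} [Group M] (T : Filt M) (σ : M →* M) : Filt M where
  F i :=
    { carrier := {u | u ∈ T.F i ∧ u⁻¹ * σ u ∈ T.F (i + 1)}
      one_mem' := ⟨one_mem _, by rw [map_one, inv_one, mul_one]; exact one_mem _⟩
      mul_mem' := by
        rintro u v ⟨hu, hu'⟩ ⟨hv, hv'⟩
        refine ⟨mul_mem hu hv, ?_⟩
        have e : (u * v)⁻¹ * σ (u * v) = v⁻¹ * (u⁻¹ * σ u) * v⁻¹⁻¹ * (v⁻¹ * σ v) := by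
          simp [map_mul, mul_assoc]
        rw [e]
        exact mul_mem (T.conj (inv_mem hv) hu') hv'
      inv_mem' := by
        rintro u ⟨hu, hu'⟩
        refine ⟨inv_mem hu, ?_⟩
        have e : u⁻¹⁻¹ * σ u⁻¹ = u * (u⁻¹ * σ u)⁻¹ * u⁻¹ := by simp [map_inv, mul_assoc]
        rw [e]
        exact T.conj hu (inv_mem hu') }
  anti := fun h u hu => ⟨T.anti h hu.1, T.anti (by omega) hu.2⟩
  comm := by
    rintro i j u v ⟨hu, hu'⟩ ⟨hv, hv'⟩
    refine ⟨T.comm hu hv, ?_⟩
    obtain ⟨a, ha⟩ : ∃ a, u⁻¹ * σ u = a := ⟨_, rfl⟩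
    obtain ⟨b, hb⟩ : ∃ b, v⁻¹ * σ v = b := ⟨_, rfl⟩
    rw [ha] at hu'
    rw [hb] at hv'
    rw [inv_mul_eq_iff_eq_mul] at ha hb
    have e : ⁅u, v⁆⁻¹ * σ ⁅u, v⁆ =
        ⁅u, v⁆⁻¹ * (u * (⁅a, v⁆ * (v * ⁅a, b⁆ * v⁻¹)) * u⁻¹) * ⁅u, v⁆⁻¹⁻¹ *
          (v * ⁅u, b⁆ * v⁻¹) := by
      rw [map_commutatorElement, ha, hb]
      simp [commutatorElement_def, mul_assoc]
    rw [e]
    refine mul_mem (T.conj (inv_mem (T.comm hu hv)) (T.conj hu (mul_mem ?_ ?_))) (T.conj hv ?_)
    · have := T.comm hu' hv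
      rwa [show i + 1 + j = i + j + 1 by omega] at this
    · exact T.conj hv (T.anti (by omega) (T.comm hu' hv'))
    · have h3 := T.comm hu hv'
      rwa [← Nat.add_assoc] at h3

/-- The pointwise filtration on sequences. -/
def base (G : Type*) [Group G] : Filt (ℕ → G) where
  F i := Subgroup.pi Set.univ fun _ => Gf G i
  anti := fun h _ hu n _ => Gf_antitone h (hu n trivial)
  comm := fun hu hv n _ => commutator_mem_Gf (hu n trivial) (hv n trivial)

/-- The shift. -/
def shift (G : Type*) [Group G] : (ℕ → G) →* (ℕ → G) where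
  toFun f := fun n => f (n + 1)
  map_one' := rfl
  map_mul' _ _ := rfl

/-- The sequences whose first `k` differences respect the filtration. -/
def level (G : Type*) [Group G] : ℕ → Filt (ℕ → G)
  | 0 => base G
  | k + 1 => (level G k).next (shift G)

/-- Polynomial sequences of index at least `i`. -/
def Poly (G : Type*) [Group G] (i : ℕ) : Subgroup (ℕ → G) := ⨅ k, (level G k).F i

/-- The difference operator. -/
def diff (f : ℕ → G) : ℕ → G := fun n => (f n)⁻¹ * f (n + 1)

theorem diff_eq (f : ℕ → G) : diff f = f⁻¹ * shift G f := rfl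

theorem poly_iff {i : ℕ} {f : ℕ → G} :
    f ∈ Poly G i ↔ (∀ n, f n ∈ Gf G i) ∧ diff f ∈ Poly G (i + 1) := by
  simp only [Poly, Subgroup.mem_iInf]
  constructor
  · exact fun h => ⟨fun n => h 0 n trivial, fun k => (h (k + 1)).2⟩
  · rintro ⟨h1, h2⟩ k
    induction k with
    | zero => exact fun n _ => h1 n
    | succ k ih => exact ⟨ih, h2 k⟩

theorem choose_mem_poly {k : ℕ} : ∀ {i : ℕ} {a : G}, a ∈ Gf G (i + k) →
    (fun n => a ^ n.choose k) ∈ Poly G i := by
  induction k with
  | zero =>
    intro i a ha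
    refine poly_iff.mpr ⟨fun n => pow_mem ha _, ?_⟩
    have : diff (fun n : ℕ => a ^ n.choose 0) = 1 := by funext n; simp [diff]
    rw [this]
    exact one_mem _
  | succ k ih =>
    intro i a ha
    refine poly_iff.mpr ⟨fun n => pow_mem (Gf_antitone (Nat.le_add_right i _) ha) _, ?_⟩
    have : diff (fun n : ℕ => a ^ n.choose (k + 1)) = fun n => a ^ n.choose k := by
      funext n
      simp only [diff]
      rw [Nat.choose_succ_succ', Nat.add_comm (n.choose k), pow_add, inv_mul_cancel_left]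
    rw [this]
    exact ih (by rwa [show i + 1 + k = i + (k + 1) by omega])

theorem pow_mem_poly (a : G) : (fun n => a ^ n) ∈ Poly G 0 := by
  simpa using choose_mem_poly (k := 1) (i := 0) (a := a) (mem_top a)

theorem diff_iterate_eq (k : ℕ) : ∀ {f : ℕ → G}, (∀ m < k, f m = 1) → diff^[k] f 0 = f k := by
  induction k with
  | zero => exact fun _ => rfl
  | succ k ih =>
    intro f hf
    rw [Function.iterate_succ_apply, ih fun m hm => by
      simp only [diff]; rw [hf m (by omega), hf (m + 1) (by omega), inv_one, one_mul]]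
    simp only [diff]
    rw [hf k (by omega), inv_one, one_mul]

theorem iterate_mem {i : ℕ} {f : ℕ → G} (hf : f ∈ Poly G i) (k : ℕ) :
    diff^[k] f ∈ Poly G (i + k) := by
  induction k with
  | zero => exact hf
  | succ k ih => rw [Function.iterate_succ_apply']; exact (poly_iff.mp ih).2

theorem apply_mem {i : ℕ} {f : ℕ → G} (hf : f ∈ Poly G i) (k : ℕ) (h : ∀ m < k, f m = 1) :
    f k ∈ Gf G (i + k) := by
  have := (poly_iff.mp (iterate_mem hf k)).1 0
  rwa [diff_iterate_eq k h] at this

/-- Newton expansion of a polynomial sequence. -/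
theorem exists_newton {f : ℕ → G} (hf : f ∈ Poly G 0) {c : ℕ} (hc : Gf G c = ⊥) :
    ∃ a : ℕ → G, (∀ k, a k ∈ Gf G k) ∧
      ∀ n, f n = ((List.range c).map fun k => a k ^ n.choose k).prod := by
  classical
  have main : ∀ K, ∃ a : ℕ → G, (∀ k, a k ∈ Gf G k) ∧
      (fun n => ((List.range K).map fun k => a k ^ n.choose k).prod) ∈ Poly G 0 ∧
      ∀ m < K, ((List.range K).map fun k => a k ^ m.choose k).prod = f m := by
    intro K
    induction K with
    | zero => exact ⟨1, fun k => one_mem _, one_mem _, fun m hm => absurd hm (by omega)⟩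
    | succ K ih =>
      obtain ⟨a, ha, hP, hK⟩ := ih
      set P : ℕ → G := fun n => ((List.range K).map fun k => a k ^ n.choose k).prod with hPdef
      have hb : (P⁻¹ * f) K ∈ Gf G K := by
        have := apply_mem (mul_mem (inv_mem hP) hf) K fun m hm => by
          simp [hPdef, hK m hm]
        rwa [zero_add] at this
      set b := (P⁻¹ * f) K with hbdef
      have hprod : ∀ n, ((List.range (K + 1)).map fun k => Function.update a K b k ^ n.choose k).prod
          = P n * b ^ n.choose K := by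
        intro n
        rw [List.range_succ, List.map_append, List.prod_append]
        simp only [List.map_cons, List.map_nil, List.prod_cons, List.prod_nil, mul_one,
          Function.update_self, hPdef]
        congr 2
        refine List.map_congr_left fun k hk => ?_
        rw [Function.update_of_ne (List.mem_range.mp hk).ne]
      refine ⟨Function.update a K b, fun k => ?_, ?_, fun m hm => ?_⟩
      · rcases eq_or_ne k K with rfl | hk
        · rwa [Function.update_self]
        · rw [Function.update_of_ne hk]; exact ha k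
      · rw [funext hprod]
        exact mul_mem hP (choose_mem_poly (i := 0) (by rwa [zero_add]))
      · rw [hprod]
        rcases Nat.lt_succ_iff_lt_or_eq.mp hm with hm' | rfl
        · rw [Nat.choose_eq_zero_of_lt hm', pow_zero, mul_one, hPdef]
          exact hK m hm'
        · rw [Nat.choose_self, pow_one, hbdef]
          simp
  obtain ⟨a, ha, hP, hc'⟩ := main c
  refine ⟨a, ha, fun n => ?_⟩
  have hr : ∀ m, ((fun n : ℕ => ((List.range c).map fun k => a k ^ n.choose k).prod)⁻¹ * f) m = 1 := by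
    intro m
    induction m using Nat.strong_induction_on with
    | _ m ih =>
      by_cases hm : m < c
      · simp [hc' m hm]
      · have := apply_mem (mul_mem (inv_mem hP) hf) m ih
        rw [zero_add] at this
        exact mem_bot.mp (hc ▸ Gf_antitone (not_lt.mp hm) this)
  exact (eq_of_inv_mul_eq_one (hr n)).symm

/-- The Hall–Petrescu formula: `(x y)^n = x^n y^n ∏_k a_k ^ (n choose k)` with `a_k ∈ γ_k`,
`a_0 = a_1 = 1`, in a nilpotent group with `γ_c = 1`. -/
theorem hall_petrescu (x y : G) {c : ℕ} (hc : Gf G c = ⊥) :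
    ∃ a : ℕ → G, (∀ k, a k ∈ Gf G k) ∧ a 0 = 1 ∧ a 1 = 1 ∧
      ∀ n, (x * y) ^ n = x ^ n * y ^ n * ((List.range c).map fun k => a k ^ n.choose k).prod := by
  have hf : ((fun n => x ^ n) * fun n => y ^ n)⁻¹ * (fun n => (x * y) ^ n) ∈ Poly G 0 :=
    mul_mem (inv_mem (mul_mem (pow_mem_poly x) (pow_mem_poly y))) (pow_mem_poly _)
  by_cases hc2 : c < 2
  · have : ∀ g : G, g = 1 := fun g => mem_bot.mp (hc ▸ (by
      interval_cases c <;> exact mem_top g))
    exact ⟨1, fun k => one_mem _, rfl, rfl, fun n => (this _).trans (this _).symm⟩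
  obtain ⟨a, ha, hn⟩ := exists_newton hf hc
  obtain ⟨d, rfl⟩ : ∃ d, c = d + 2 := ⟨c - 2, by omega⟩
  have hsplit : ∀ n : ℕ, ((List.range (d + 2)).map fun k => a k ^ n.choose k).prod =
      a 0 ^ n.choose 0 * (a 1 ^ n.choose 1 *
        ((List.range d).map fun k => a (k + 2) ^ n.choose (k + 2)).prod) := by
    intro n
    simp [List.range_succ_eq_map, Function.comp_def]
  have h0 : a 0 = 1 := by
    have := hn 0
    rw [hsplit] at this
    simpa [Nat.choose_eq_zero_of_lt] using this.symm
  have h1 : a 1 = 1 := by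
    have := hn 1
    rw [hsplit] at this
    simpa [h0, Nat.choose_eq_zero_of_lt] using this.symm
  refine ⟨a, ha, h0, h1, fun n => ?_⟩
  rw [← hn n]
  simp [mul_assoc]

end Cfsg.Agent.PGroupsHallPetrescu
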