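import Mathlib
import Cfsg.Prelude.Def_PLocal
import Cfsg.Agent.Lib.PGroupsBasic
import Cfsg.Agent.Lib.PGroupsHallPetrescu

/-!
# Regular `p`-groups

Power structure of regular `p`-groups (Hall): equality of `p^n`-th powers, exponent of `Ω_n`,
`p^n`-th powers form a subgroup, the exponent-`p` criterion, and class `< p` implies regular.
-/

set_option autoImplicit false
set_option linter.unusedSectionVars false
set_option linter.style.haveILetI false

namespace Cfsg.Agent.PGroupsRegular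

open Subgroup Cfsg.Agent.PGroupsBasic
open scoped commutatorElement

variable {G : Type*} [Group G]

/-- The condition in `IsRegularPGroup` for one exponent. -/
def RegAt (p n : ℕ) (G : Type*) [Group G] : Prop :=
  ∀ a b : G, ∃ c ∈ powerClosure p n ⁅closure ({a, b} : Set G), closure ({a, b} : Set G)⁆,
    (a * b) ^ (p ^ n) = a ^ (p ^ n) * b ^ (p ^ n) * c

theorem regular_iff {p : ℕ} :
    IsRegularPGroup p G ↔ IsPGroup p G ∧ ∀ n, RegAt p n G :=
  ⟨fun h => ⟨h.1, fun n a b => h.2 a b n⟩, fun h => ⟨h.1, fun a b n => h.2 n a b⟩⟩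

theorem regAt_of_regular {p : ℕ} (h : IsRegularPGroup p G) (n : ℕ) : RegAt p n G :=
  fun a b => h.2 a b n

theorem closure_pair_le {H : Subgroup G} {a b : G} (ha : a ∈ H) (hb : b ∈ H) :
    closure ({a, b} : Set G) ≤ H :=
  (closure_le _).mpr (Set.insert_subset_iff.mpr ⟨ha, Set.singleton_subset_iff.mpr hb⟩)

theorem mem_pair_left (a b : G) : a ∈ closure ({a, b} : Set G) := subset_closure (by simp)

theorem mem_pair_right (a b : G) : b ∈ closure ({a, b} : Set G) := subset_closure (by simp)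

/-- The derived subgroup of a two-generator group is normally generated by one commutator. -/
theorem commutator_closure_pair_le {a b : G} {W : Subgroup G}
    (hW : ∀ k ∈ closure ({a, b} : Set G), ∀ w ∈ W, k * w * k⁻¹ ∈ W) (hab : ⁅a, b⁆ ∈ W) :
    ⁅closure ({a, b} : Set G), closure ({a, b} : Set G)⁆ ≤ W := by
  have hba : ⁅b, a⁆ ∈ W := by rw [← commutatorElement_inv]; exact inv_mem hab
  -- commutators against one generator
  have h1 : ∀ e ∈ ({a, b} : Set G), ∀ g ∈ closure ({a, b} : Set G), ⁅g, e⁆ ∈ W := by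
    intro e he g hg
    induction hg using closure_induction with
    | mem x hx =>
      rcases hx with rfl | rfl <;> rcases he with rfl | rfl
      · simp [one_mem]
      · exact hab
      · exact hba
      · simp [one_mem]
    | one => simp [one_mem]
    | mul x y hx hy ihx ihy =>
      have e1 : ⁅x * y, e⁆ = x * ⁅y, e⁆ * x⁻¹ * ⁅x, e⁆ := by simp [commutatorElement_def, mul_assoc]
      rw [e1]
      exact mul_mem (hW x hx _ ihy) ihx
    | inv x hx ihx =>
      have e1 : ⁅x⁻¹, e⁆ = x⁻¹ * ⁅x, e⁆⁻¹ * x⁻¹⁻¹ := by simp [commutatorElement_def, mul_assoc]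
      rw [e1]
      exact hW _ (inv_mem hx) _ (inv_mem ihx)
  rw [Subgroup.commutator_le]
  intro g hg h hh
  induction hh using closure_induction with
  | mem x hx => exact h1 x hx g hg
  | one => simp [one_mem]
  | mul x y hx hy ihx ihy =>
    have e1 : ⁅g, x * y⁆ = ⁅g, x⁆ * (x * ⁅g, y⁆ * x⁻¹) := by simp [commutatorElement_def, mul_assoc]
    rw [e1]
    exact mul_mem ihx (hW x hx _ ihy)
  | inv x hx ihx =>
    have e1 : ⁅g, x⁻¹⁆ = x⁻¹ * ⁅g, x⁆⁻¹ * x⁻¹⁻¹ := by simp [commutatorElement_def, mul_assoc]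
    rw [e1]
    exact hW _ (inv_mem hx) _ (inv_mem ihx)

theorem pow_mem_powerClosure {p n : ℕ} {H : Subgroup G} {x : G} (hx : x ∈ H) :
    x ^ (p ^ n) ∈ powerClosure p n H :=
  subset_closure ⟨x, hx, rfl⟩

theorem powerClosure_le_self {p n : ℕ} (H : Subgroup G) : powerClosure p n H ≤ H :=
  (closure_le _).mpr (by rintro _ ⟨x, hx, rfl⟩; exact pow_mem hx _)

theorem powerClosure_mono {p n : ℕ} {H K : Subgroup G} (h : H ≤ K) :
    powerClosure p n H ≤ powerClosure p n K :=
  closure_mono (by rintro _ ⟨x, hx, rfl⟩; exact ⟨x, h hx, rfl⟩)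

theorem powerClosure_conj {p n : ℕ} {H : Subgroup G} {k : G} (hk : ∀ h ∈ H, k * h * k⁻¹ ∈ H)
    {w : G} (hw : w ∈ powerClosure p n H) : k * w * k⁻¹ ∈ powerClosure p n H := by
  induction hw using closure_induction with
  | mem x hx =>
    obtain ⟨y, hy, rfl⟩ := hx
    rw [← conj_pow]
    exact pow_mem_powerClosure (hk y hy)
  | one => simp [one_mem]
  | mul x y _ _ ihx ihy =>
    rw [show k * (x * y) * k⁻¹ = (k * x * k⁻¹) * (k * y * k⁻¹) by group]
    exact mul_mem ihx ihy
  | inv x _ ihx =>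
    rw [show k * x⁻¹ * k⁻¹ = (k * x * k⁻¹)⁻¹ by group]
    exact inv_mem ihx

theorem commutator_self_conj {K : Subgroup G} {k : G} (hk : k ∈ K) {w : G} (hw : w ∈ ⁅K, K⁆) :
    k * w * k⁻¹ ∈ ⁅K, K⁆ :=
  mem_normalizer_iff.mp
    (le_normalizer_commutator_left (H := K) (K := K) hk) w |>.mp hw
where
  le_normalizer_commutator_left {H K : Subgroup G} {k : G} (hk : k ∈ H) :
      k ∈ normalizer ((⁅H, H⁆ : Subgroup G) : Set G) := by
    refine mem_normalizer_iff.mpr fun w => ?_
    have hmap : (⁅H, H⁆ : Subgroup G).map (MulAut.conj k).toMonoidHom = ⁅H, H⁆ := by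
      rw [map_commutator]
      have : H.map (MulAut.conj k).toMonoidHom = H := by
        ext x
        simp only [mem_map, MulEquiv.coe_toMonoidHom, MulAut.conj_apply]
        constructor
        · rintro ⟨y, hy, rfl⟩; exact mul_mem (mul_mem hk hy) (inv_mem hk)
        · intro hx; exact ⟨k⁻¹ * x * k, mul_mem (mul_mem (inv_mem hk) hx) hk, by group⟩
      rw [this]
    constructor
    · intro hw; rw [← hmap]; exact ⟨w, hw, rfl⟩
    · intro hw
      rw [← hmap] at hw
      obtain ⟨y, hy, hyw⟩ := hw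
      have : y = w := by simpa [MulAut.conj_apply] using hyw
      exact this ▸ hy

variable {p : ℕ} [hp : Fact p.Prime] [Finite G]

theorem card_lt_of_lt {H K : Subgroup G} (h : H < K) : Nat.card H < Nat.card K :=
  Set.Finite.card_lt_card (Set.toFinite _) (SetLike.coe_ssubset_coe.mpr h)

/-- In a noncommutative `K`, every element lies in a proper subgroup containing `K'`. -/
theorem exists_lt (hG : IsPGroup p G) {a b x : G} (hab : a * b ≠ b * a)
    (hx : x ∈ closure ({a, b} : Set G)) :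
    ∃ M : Subgroup G, M < closure ({a, b} : Set G) ∧ x ∈ M ∧
      ⁅closure ({a, b} : Set G), closure ({a, b} : Set G)⁆ ≤ M := by
  set K := closure ({a, b} : Set G)
  have hne : zpowers (⟨x, hx⟩ : K) ≠ ⊤ := fun h => by
    obtain ⟨i, hi⟩ := mem_zpowers_iff.mp (h ▸ mem_top (⟨a, mem_pair_left a b⟩ : K) :
      (⟨a, mem_pair_left a b⟩ : K) ∈ zpowers (⟨x, hx⟩ : K))
    obtain ⟨j, hj⟩ := mem_zpowers_iff.mp (h ▸ mem_top (⟨b, mem_pair_right a b⟩ : K) :
      (⟨b, mem_pair_right a b⟩ : K) ∈ zpowers (⟨x, hx⟩ : K))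
    exact hab (congrArg Subtype.val (hi ▸ hj ▸ (Commute.zpow_zpow_self (⟨x, hx⟩ : K) i j).eq :
      (⟨a, mem_pair_left a b⟩ : K) * ⟨b, mem_pair_right a b⟩ =
        ⟨b, mem_pair_right a b⟩ * ⟨a, mem_pair_left a b⟩))
  obtain ⟨M, hMn, hMi, hMle⟩ := exists_normal_index_eq (hG.to_subgroup K) hne
  refine ⟨M.map K.subtype, ?_, ⟨_, hMle (mem_zpowers _), rfl⟩, ?_⟩
  · refine lt_of_le_of_ne (map_subtype_le M) fun h => ?_
    have h1 := congrArg (fun H : Subgroup G => Nat.card H) h
    simp only [card_map_of_injective K.subtype_injective] at h1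
    rw [← card_mul_index M, hMi] at h1
    exact absurd h1 (ne_of_lt (lt_mul_of_one_lt_right Nat.card_pos hp.out.one_lt))
  · have hc := commutator_le_of_index_le_sq (hG.to_subgroup K)
      (N := M) (by rw [hMi]; exact Nat.le_self_pow two_ne_zero p)
    have := map_mono (f := K.subtype) hc
    rwa [commutator_def, map_commutator, ← MonoidHom.range_eq_map, range_subtype] at this

theorem conj_mem_of_commutator_le {K M : Subgroup G} (h : ⁅K, K⁆ ≤ M) {k x : G} (hk : k ∈ K)
    (hx : x ∈ K) (hxM : x ∈ M) : k * x * k⁻¹ ∈ M := by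
  have e : k * x * k⁻¹ = ⁅k, x⁆ * x := by simp [commutatorElement_def, mul_assoc]
  rw [e]
  exact mul_mem (h (commutator_mem_commutator hk hx)) hxM

/-- Equal `p^n`-th powers: `a^q = b^q` implies `(a⁻¹ b)^q = 1`. -/
theorem inv_mul_pow_eq_one (hG : IsPGroup p G) {n : ℕ} (hR : RegAt p n G) :
    ∀ {a b : G}, a ^ (p ^ n) = b ^ (p ^ n) → (a⁻¹ * b) ^ (p ^ n) = 1 := by
  intro a b
  induction hk : Nat.card (closure ({a, b} : Set G)) using Nat.strong_induction_on
    generalizing a b with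
  | _ k ih =>
  subst hk
  intro heq
  by_cases hab : a * b = b * a
  · rw [Commute.mul_pow (Commute.inv_left hab), inv_pow, heq, inv_mul_cancel]
  set K := closure ({a, b} : Set G) with hK
  have hKle : closure ({a⁻¹, b} : Set G) ≤ K :=
    closure_pair_le (inv_mem (mem_pair_left a b)) (mem_pair_right a b)
  obtain ⟨M, hMlt, haM, hcM⟩ := exists_lt hG hab (mem_pair_left a b)
  -- the basic commutator
  have hc : ⁅a⁻¹, b⁆ ^ (p ^ n) = 1 := by
    have hbab : b * a * b⁻¹ ∈ M :=
      conj_mem_of_commutator_le hcM (mem_pair_right a b) (mem_pair_left a b) haM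
    have h1 := ih (Nat.card (closure ({a, b * a * b⁻¹} : Set G)))
      ((card_le_of_le (closure_pair_le haM hbab)).trans_lt (card_lt_of_lt hMlt)) rfl (by
        rw [conj_pow, heq, ← pow_succ', pow_succ, mul_inv_cancel_right])
    simpa [commutatorElement_def, mul_assoc] using h1
  obtain ⟨M', hM'lt, -, hcM'⟩ := exists_lt hG hab (mem_pair_left a b)
  let W : Subgroup G :=
    { carrier := {u | u ∈ ⁅K, K⁆ ∧ u ^ (p ^ n) = 1}
      one_mem' := ⟨one_mem _, one_pow _⟩
      inv_mem' := fun {u} hu => ⟨inv_mem hu.1, by rw [inv_pow, hu.2, inv_one]⟩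
      mul_mem' := fun {u v} hu hv => ⟨mul_mem hu.1 hv.1, by
        have h2 := ih (Nat.card (closure ({u⁻¹, v} : Set G)))
          ((card_le_of_le (closure_pair_le (hcM' (inv_mem hu.1)) (hcM' hv.1))).trans_lt
            (card_lt_of_lt hM'lt)) rfl (by rw [inv_pow, hu.2, hv.2, inv_one])
        rwa [inv_inv] at h2⟩ }
  have hWK : ⁅closure ({a⁻¹, b} : Set G), closure ({a⁻¹, b} : Set G)⁆ ≤ W := by
    refine commutator_closure_pair_le (fun k hk w hw =>
      ⟨commutator_self_conj (hKle hk) hw.1, by rw [conj_pow, hw.2, mul_one, mul_inv_cancel]⟩)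
      ⟨commutator_mem_commutator (inv_mem (mem_pair_left a b)) (mem_pair_right a b), hc⟩
  obtain ⟨c, hcmem, hceq⟩ := hR a⁻¹ b
  have hc1 : c = 1 := by
    have hle : powerClosure p n ⁅closure ({a⁻¹, b} : Set G), closure ({a⁻¹, b} : Set G)⁆ ≤ ⊥ := by
      rw [powerClosure, closure_le]
      rintro _ ⟨x, hx, rfl⟩
      exact mem_bot.mpr (hWK hx).2
    exact mem_bot.mp (hle hcmem)
  rw [hceq, hc1, mul_one, inv_pow, heq, inv_mul_cancel]

/-- The elements of order dividing `p^n` are closed under products. -/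
theorem mul_pow_eq_one (hG : IsPGroup p G) {n : ℕ} (hR : RegAt p n G) {u v : G}
    (hu : u ^ (p ^ n) = 1) (hv : v ^ (p ^ n) = 1) : (u * v) ^ (p ^ n) = 1 := by
  have := inv_mul_pow_eq_one hG hR (a := u⁻¹) (b := v) (by rw [inv_pow, hu, hv, inv_one])
  rwa [inv_inv] at this

/-- `Ω_n` as the set of elements of order dividing `p^n`. -/
def omegaSubgroup (hG : IsPGroup p G) {n : ℕ} (hR : RegAt p n G) : Subgroup G where
  carrier := {u | u ^ (p ^ n) = 1}
  one_mem' := one_pow _
  mul_mem' hu hv := mul_pow_eq_one hG hR hu hv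
  inv_mem' {u} (hu : u ^ (p ^ n) = 1) := show u⁻¹ ^ (p ^ n) = 1 by rw [inv_pow, hu, inv_one]

/-- `a^q = b^q ↔ (a⁻¹ b)^q = 1`. -/
theorem pow_eq_pow_iff (hG : IsPGroup p G) {n : ℕ} (hR : RegAt p n G) (a b : G) :
    a ^ (p ^ n) = b ^ (p ^ n) ↔ (a⁻¹ * b) ^ (p ^ n) = 1 := by
  refine ⟨inv_mul_pow_eq_one hG hR, fun hw => ?_⟩
  set w := a⁻¹ * b with hwdef
  have hb : b = a * w := by rw [hwdef, mul_inv_cancel_left]
  obtain ⟨c, hcm, hc⟩ := hR a w
  have hle : ⁅closure ({a, w} : Set G), closure ({a, w} : Set G)⁆ ≤ omegaSubgroup hG hR := by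
    refine commutator_closure_pair_le (fun k _ u hu => ?_) ?_
    · show (k * u * k⁻¹) ^ (p ^ n) = 1
      rw [conj_pow, show u ^ (p ^ n) = 1 from hu, mul_one, mul_inv_cancel]
    · show ⁅a, w⁆ ^ (p ^ n) = 1
      exact mul_pow_eq_one hG hR (by rw [conj_pow, hw, mul_one, mul_inv_cancel])
        (by rw [inv_pow, hw, inv_one])
  have hc1 : c = 1 := by
    have h : powerClosure p n ⁅closure ({a, w} : Set G), closure ({a, w} : Set G)⁆ ≤ ⊥ := by
      rw [powerClosure, closure_le]
      rintro _ ⟨x, hx, rfl⟩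
      exact mem_bot.mpr (hle hx)
    exact mem_bot.mp (h hcm)
  rw [hb, hc, hw, hc1, mul_one, mul_one]

/-- The product of two `p^n`-th powers is one. -/
theorem exists_pow_eq_mul (hG : IsPGroup p G) {n : ℕ} (hR : RegAt p n G) :
    ∀ (a b : G), ∃ d ∈ closure ({a, b} : Set G), a ^ (p ^ n) * b ^ (p ^ n) = d ^ (p ^ n) := by
  intro a b
  induction hk : Nat.card (closure ({a, b} : Set G)) using Nat.strong_induction_on
    generalizing a b with
  | _ k ih =>
  subst hk
  by_cases hab : a * b = b * a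
  · exact ⟨a * b, mul_mem (mem_pair_left a b) (mem_pair_right a b),
      (Commute.mul_pow hab _).symm⟩
  set K := closure ({a, b} : Set G)
  obtain ⟨M, hMlt, habM, hcM⟩ := exists_lt hG hab
    (mul_mem (mem_pair_left a b) (mem_pair_right a b))
  obtain ⟨c, hcm, hc⟩ := hR a b
  have hsingle : ∀ y ∈ powerClosure p n ⁅K, K⁆, ∃ e ∈ ⁅K, K⁆, y = e ^ (p ^ n) := by
    intro y hy
    induction hy using closure_induction with
    | mem x hx => exact hx
    | one => exact ⟨1, one_mem _, (one_pow _).symm⟩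
    | mul x y _ _ ihx ihy =>
      obtain ⟨u, hu, rfl⟩ := ihx
      obtain ⟨v, hv, rfl⟩ := ihy
      obtain ⟨d, hd, hd'⟩ := ih (Nat.card (closure ({u, v} : Set G)))
        ((card_le_of_le (closure_pair_le (hcM hu) (hcM hv))).trans_lt (card_lt_of_lt hMlt)) u v rfl
      exact ⟨d, closure_pair_le hu hv hd, hd'⟩
    | inv x _ ihx =>
      obtain ⟨u, hu, rfl⟩ := ihx
      exact ⟨u⁻¹, inv_mem hu, (inv_pow u _).symm⟩
  obtain ⟨e, he, rfl⟩ := hsingle c hcm
  obtain ⟨d, hd, hd'⟩ := ih (Nat.card (closure ({a * b, e⁻¹} : Set G)))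
    ((card_le_of_le (closure_pair_le habM (hcM (inv_mem he)))).trans_lt (card_lt_of_lt hMlt))
    (a * b) e⁻¹ rfl
  refine ⟨d, closure_pair_le (mul_mem (mem_pair_left a b) (mem_pair_right a b)) ?_ hd, ?_⟩
  · exact Subgroup.commutator_le.mpr (fun g hg h hh =>
      mul_mem (mul_mem (mul_mem hg hh) (inv_mem hg)) (inv_mem hh)) (inv_mem he)
  · rw [← hd', hc, inv_pow, mul_inv_cancel_right]

/-- The `p^n`-th powers of a subgroup form a subgroup. -/
theorem mem_powerClosure_iff (hG : IsPGroup p G) {n : ℕ} (hR : RegAt p n G) {H : Subgroup G}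
    {y : G} : y ∈ powerClosure p n H ↔ ∃ x ∈ H, y = x ^ (p ^ n) := by
  refine ⟨fun hy => ?_, fun ⟨x, hx, hxy⟩ => hxy ▸ pow_mem_powerClosure hx⟩
  induction hy using closure_induction with
  | mem x hx => exact hx
  | one => exact ⟨1, one_mem _, (one_pow _).symm⟩
  | mul x y _ _ ihx ihy =>
    obtain ⟨u, hu, rfl⟩ := ihx
    obtain ⟨v, hv, rfl⟩ := ihy
    obtain ⟨d, hd, hd'⟩ := exists_pow_eq_mul hG hR u v
    exact ⟨d, closure_pair_le hu hv hd, hd'⟩
  | inv x _ ihx =>
    obtain ⟨u, hu, rfl⟩ := ihx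
    exact ⟨u⁻¹, inv_mem hu, (inv_pow u _).symm⟩

/-- `⁅y, x^q⁆` lies in `℧_n(⟨x, y⟩')`. -/
theorem commutator_pow_mem {n : ℕ} (hR : RegAt p n G) (x y : G) :
    ⁅y, x ^ (p ^ n)⁆ ∈
      powerClosure p n ⁅closure ({x, y} : Set G), closure ({x, y} : Set G)⁆ := by
  set K := closure ({x, y} : Set G)
  obtain ⟨c, hcm, hc⟩ := hR ⁅y, x⁆ x
  have hxK : x ∈ K := mem_pair_left x y
  have hcK : ⁅y, x⁆ ∈ ⁅K, K⁆ := commutator_mem_commutator (mem_pair_right x y) hxK
  have hL : closure ({⁅y, x⁆, x} : Set G) ≤ K := closure_pair_le (Subgroup.commutator_le.mpr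
    (fun g hg h hh => mul_mem (mul_mem (mul_mem hg hh) (inv_mem hg)) (inv_mem hh)) hcK) hxK
  have e1 : ⁅y, x⁆ * x = y * x * y⁻¹ := by simp [commutatorElement_def, mul_assoc]
  rw [e1, conj_pow] at hc
  have e2 : ⁅y, x ^ (p ^ n)⁆ = ⁅y, x⁆ ^ (p ^ n) * (x ^ (p ^ n) * c * (x ^ (p ^ n))⁻¹) := by
    rw [commutatorElement_def, hc]
    simp [mul_assoc]
  rw [e2]
  refine mul_mem (pow_mem_powerClosure hcK) (powerClosure_conj
    (fun h hh => commutator_self_conj (pow_mem hxK _) hh) ?_)
  exact powerClosure_mono (Subgroup.commutator_mono hL hL) hcm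

/-- Exponent-`p` criterion: one `p`-th power suffices. -/
theorem regular_of_weak (hG : IsPGroup p G)
    (hW : ∀ a b : G, ∃ c ∈ ⁅closure ({a, b} : Set G), closure ({a, b} : Set G)⁆,
      (a * b) ^ p = a ^ p * b ^ p * c ^ p) :
    IsRegularPGroup p G := by
  have h1 : RegAt p 1 G := fun a b => by
    obtain ⟨c, hc, h⟩ := hW a b
    refine ⟨c ^ p, ?_, by simpa using h⟩
    have := pow_mem_powerClosure (p := p) (n := 1) hc
    simpa using this
  refine regular_iff.mpr ⟨hG, fun n => ?_⟩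
  induction n with
  | zero =>
    intro a b
    exact ⟨1, one_mem _, by simp⟩
  | succ n ih =>
    intro a b
    set K := closure ({a, b} : Set G) with hK
    set M := powerClosure p n ⁅K, K⁆ with hM
    have hMnorm : ∀ k ∈ K, ∀ w ∈ M, k * w * k⁻¹ ∈ M := fun k hk w hw =>
      powerClosure_conj (fun h hh => commutator_self_conj hk hh) hw
    have hMK : M ≤ K := (powerClosure_le_self _).trans (Subgroup.commutator_le.mpr
      fun g hg h hh => mul_mem (mul_mem (mul_mem hg hh) (inv_mem hg)) (inv_mem hh))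
    have hup : powerClosure p 1 M ≤ powerClosure p (n + 1) ⁅K, K⁆ := by
      rw [powerClosure, closure_le]
      rintro _ ⟨m, hm, rfl⟩
      obtain ⟨d, hd, rfl⟩ := (mem_powerClosure_iff hG ih).mp hm
      rw [SetLike.mem_coe, ← pow_mul, ← pow_add]
      exact pow_mem_powerClosure hd
    obtain ⟨c, hc, hceq⟩ := ih a b
    set A := a ^ (p ^ n)
    set B := b ^ (p ^ n)
    have hA : A ∈ K := pow_mem (mem_pair_left a b) _
    have hB : B ∈ K := pow_mem (mem_pair_right a b) _
    obtain ⟨e, he, heq⟩ := h1 (A * B) c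
    obtain ⟨f, hf, hfeq⟩ := h1 A B
    have hL1 : ⁅closure ({A * B, c} : Set G), closure ({A * B, c} : Set G)⁆ ≤ M := by
      refine commutator_closure_pair_le (fun k hk => hMnorm k
        (closure_pair_le (mul_mem hA hB) (hMK hc) hk)) ?_
      rw [commutatorElement_def]
      exact mul_mem (hMnorm _ (mul_mem hA hB) _ hc) (inv_mem hc)
    have hL2 : ⁅closure ({A, B} : Set G), closure ({A, B} : Set G)⁆ ≤ M := by
      refine commutator_closure_pair_le (fun k hk => hMnorm k (closure_pair_le hA hB hk)) ?_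
      rw [← commutatorElement_inv]
      refine inv_mem (powerClosure_mono ?_ (commutator_pow_mem ih a B))
      exact Subgroup.commutator_mono (closure_pair_le (mem_pair_left a b) hB)
        (closure_pair_le (mem_pair_left a b) hB)
    refine ⟨f * c ^ (p ^ 1) * e, mul_mem (mul_mem (hup (powerClosure_mono hL2 hf))
      (hup (pow_mem_powerClosure hc))) (hup (powerClosure_mono hL1 he)), ?_⟩
    simp only [pow_one] at heq hfeq ⊢
    rw [pow_succ, pow_mul, hceq, heq, hfeq, pow_mul, pow_mul]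
    simp only [A, B, mul_assoc]

/-- Regular groups satisfy the exponent-`p` criterion. -/
theorem weak_of_regular (h : IsRegularPGroup p G) (a b : G) :
    ∃ c ∈ ⁅closure ({a, b} : Set G), closure ({a, b} : Set G)⁆,
      (a * b) ^ p = a ^ p * b ^ p * c ^ p := by
  obtain ⟨c, hc, heq⟩ := regAt_of_regular h 1 a b
  obtain ⟨d, hd, rfl⟩ := (mem_powerClosure_iff h.1 (regAt_of_regular h 1)).mp hc
  exact ⟨d, hd, by simpa using heq⟩

theorem dvd_choose_pow_of_lt {n k : ℕ} (hk0 : 0 < k) (hkp : k < p) : p ^ n ∣ (p ^ n).choose k := by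
  obtain ⟨j, rfl⟩ := Nat.exists_eq_succ_of_ne_zero hk0.ne'
  obtain ⟨m, hm⟩ := Nat.exists_eq_succ_of_ne_zero (pow_pos hp.out.pos n).ne'
  have h := Nat.add_one_mul_choose_eq m j
  rw [← Nat.succ_eq_add_one, ← hm, ← Nat.succ_eq_add_one] at h
  refine Nat.Coprime.dvd_of_dvd_mul_right ?_ ⟨_, h.symm⟩
  exact Nat.Coprime.pow_left n ((Nat.Prime.coprime_iff_not_dvd hp.out).mpr
    fun hd => absurd (Nat.le_of_dvd (Nat.succ_pos j) hd) (by omega))

/-- A `p`-group of class less than `p` is regular. -/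
theorem regular_of_class_lt (hG : IsPGroup p G)
    (hcl : (⊤ : Subgroup G).lowerCentralSeries (p - 1) = ⊥) : IsRegularPGroup p G := by
  refine regular_iff.mpr ⟨hG, fun n a b => ?_⟩
  set K := closure ({a, b} : Set G) with hK
  have hbot : (⊤ : Subgroup K).lowerCentralSeries (p - 1) = ⊥ := by
    rw [← Subgroup.map_eq_bot_iff_of_injective _ K.subtype_injective,
      Subgroup.map_lowerCentralSeries]
    exact eq_bot_iff.mpr ((Subgroup.lowerCentralSeries_mono (p - 1) le_top).trans hcl.le)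
  obtain ⟨c, hc, h0, h1, hf⟩ := PGroupsHallPetrescu.hall_petrescu
    (⟨a, mem_pair_left a b⟩ : K) ⟨b, mem_pair_right a b⟩ (c := p)
    (by exact hbot)
  refine ⟨_, ?_, congrArg Subtype.val (hf (p ^ n))⟩
  show K.subtype _ ∈ _
  rw [map_list_prod]
  refine list_prod_mem ?_
  simp only [List.map_map, List.mem_map, List.mem_range, Function.comp_apply,
    forall_exists_index, and_imp]
  rintro _ k hk rfl
  rcases Nat.lt_or_ge k 2 with hk2 | hk2
  · interval_cases k
    · simp [h0, one_mem]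
    · simp [h1, one_mem]
  · obtain ⟨t, ht⟩ := dvd_choose_pow_of_lt (n := n) (show 0 < k by omega) hk
    rw [ht, mul_comm, pow_mul, map_pow]
    refine pow_mem_powerClosure ?_
    have hck : c k ∈ commutator K := by
      have := PGroupsHallPetrescu.Gf_antitone hk2 (hc k)
      rwa [PGroupsHallPetrescu.Gf, Subgroup.top_lowerCentralSeries_one] at this
    have h3 := mem_map_of_mem K.subtype (pow_mem hck t)
    rwa [commutator_def, map_commutator, ← MonoidHom.range_eq_map, range_subtype] at h3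

end Cfsg.Agent.PGroupsRegular
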