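import Mathlib
import Cfsg.Prelude.Def_PLocal
import Cfsg.Prelude.Def_OddOrderLocal
import Cfsg.Agent.Lib.PGroupsBasic
import Cfsg.Agent.Lib.PGroupsRegular
import Cfsg.Agent.Lib.MaxClassTwo

/-!
# `p`-groups with small `Ω₁`, `p ≥ 5` (Huppert)

Such groups are regular, `|R : ℧₁(R)| = |Ω₁(R)|`, and they are metacyclic when `|Ω₁| ≤ p^2`.
-/

set_option autoImplicit false
set_option linter.unusedSectionVars false
set_option linter.style.haveILetI false

namespace Cfsg.Agent.PGroupsHuppert

open Subgroup Cfsg.Agent.PGroupsBasic Cfsg.Agent.PGroupsRegular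
open scoped commutatorElement

variable {G : Type*} [Group G] {p : ℕ} [hp : Fact p.Prime] [Finite G]

theorem card_omega_eq_index (hG : IsPGroup p G) {n : ℕ} (hR : RegAt p n G) :
    Nat.card (omegaSubgroup hG hR) = (powerClosure p n (⊤ : Subgroup G)).index := by
  have key : ∀ a b : G, QuotientGroup.leftRel (omegaSubgroup hG hR) a b ↔
      a ^ (p ^ n) = b ^ (p ^ n) := fun a b => by
    rw [QuotientGroup.leftRel_apply]; exact (pow_eq_pow_iff hG hR a b).symm
  let f : G ⧸ omegaSubgroup hG hR → (powerClosure p n (⊤ : Subgroup G)) :=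
    Quotient.lift (fun g => (⟨g ^ (p ^ n), pow_mem_powerClosure (mem_top g)⟩ :
      powerClosure p n (⊤ : Subgroup G))) fun a b h => Subtype.ext ((key a b).mp h)
  have hf : Function.Bijective f := by
    constructor
    · intro u v
      refine Quotient.inductionOn₂ u v fun a b h => Quotient.sound ((key a b).mpr ?_)
      exact congrArg Subtype.val h
    · rintro ⟨y, hy⟩
      obtain ⟨x, -, rfl⟩ := (mem_powerClosure_iff hG hR).mp hy
      exact ⟨Quotient.mk _ x, rfl⟩
  have h1 : (omegaSubgroup hG hR).index = Nat.card (powerClosure p n (⊤ : Subgroup G)) :=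
    Nat.card_eq_of_bijective f hf
  have h2 := (omegaSubgroup hG hR).card_mul_index
  rw [← (powerClosure p n (⊤ : Subgroup G)).card_mul_index, h1, mul_comm] at h2
  exact Nat.eq_of_mul_eq_mul_left Nat.card_pos h2

theorem omegaOne_top_eq (hG : IsPGroup p G) (hR : RegAt p 1 G) :
    omegaOne p (⊤ : Subgroup G) = omegaSubgroup hG hR := by
  refine le_antisymm ((closure_le _).mpr fun x hx => ?_) fun x hx => subset_closure ⟨mem_top x, ?_⟩
  · show x ^ (p ^ 1) = 1
    rw [pow_one]; exact hx.2
  · have : x ^ (p ^ 1) = 1 := hx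
    rwa [pow_one] at this

theorem normal_powerClosure (p n : ℕ) {H : Subgroup G} [hH : H.Normal] :
    (powerClosure p n H).Normal :=
  ⟨fun _ hw g => powerClosure_conj (fun h hh => hH.conj_mem h hh g) hw⟩

theorem isPGroup_map_range {K : Subgroup G} (hG : IsPGroup p G) : IsPGroup p K := hG.to_subgroup K

/-- For `p ≥ 5`, a `p`-group with at most `p²` elements in `Ω₁` is regular. -/
theorem regular_of_omega_le (hp5 : 3 < p) : ∀ {G : Type*} [Group G] [Finite G], IsPGroup p G →
    Nat.card (omegaOne p (⊤ : Subgroup G)) ≤ p ^ 2 → IsRegularPGroup p G := by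
  intro G _ _ hG hO
  induction hk : Nat.card G using Nat.strong_induction_on generalizing G with
  | _ k ih =>
  subst hk
  by_cases hcyc : IsCyclic G
  · refine regular_of_class_lt hG (eq_bot_iff.mpr ?_)
    refine (Subgroup.lowerCentralSeries_antitone (⊤ : Subgroup G) (show 1 ≤ p - 1 by omega)).trans ?_
    rw [Subgroup.top_lowerCentralSeries_one, commutator_def, Subgroup.commutator_le]
    intro g _ h _
    exact mem_bot.mpr (commutatorElement_eq_one_iff_mul_comm.mpr
      ((IsCyclic.isMulCommutative (α := G)).is_comm.comm g h))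
  -- proper subgroups are regular, with small index of `℧₁`
  have hsub : ∀ M : Subgroup G, M ≠ ⊤ → IsRegularPGroup p M ∧
      (powerClosure p 1 (⊤ : Subgroup M)).index ≤ p ^ 2 := by
    intro M hM
    have hle : Nat.card (omegaOne p (⊤ : Subgroup M)) ≤ p ^ 2 := by
      refine le_trans ?_ hO
      rw [← card_map_of_injective M.subtype_injective]
      refine card_le_of_le ?_
      rw [omegaOne, MonoidHom.map_closure, closure_le]
      rintro _ ⟨x, hx, rfl⟩
      exact subset_closure ⟨mem_top _, congrArg Subtype.val hx.2⟩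
    have hreg := ih (Nat.card M) (by
      have := card_lt_of_lt (lt_top_iff_ne_top.mpr hM)
      rwa [card_top] at this) (hG.to_subgroup M) hle rfl
    refine ⟨hreg, ?_⟩
    rw [← card_omega_eq_index (hG.to_subgroup M) (regAt_of_regular hreg 1),
      ← omegaOne_top_eq (hG.to_subgroup M) (regAt_of_regular hreg 1)]
    exact hle
  haveI hU : (powerClosure p 1 (⊤ : Subgroup G)).Normal := normal_powerClosure p 1
  -- `γ₃ ≤ ℧₁`
  have h3 : (⊤ : Subgroup G).lowerCentralSeries 2 ≤ powerClosure p 1 (⊤ : Subgroup G) := by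
    by_cases hU' : powerClosure p 1 (⊤ : Subgroup G) = ⊤
    · rw [hU']; exact le_top
    obtain ⟨M, hMn, hMi, hMle⟩ := exists_normal_index_eq hG hU'
    have hidx : (powerClosure p 1 (⊤ : Subgroup G)).index ≤ p ^ 3 := by
      rw [← relIndex_mul_index hMle, hMi, pow_succ p 2]
      refine Nat.mul_le_mul_right p (le_trans ?_ (hsub M fun h => ?_).2)
      · refine Nat.le_of_dvd (Nat.pos_of_ne_zero FiniteIndex.index_ne_zero) (index_dvd_of_le ?_)
        rw [powerClosure, closure_le]
        rintro _ ⟨x, -, rfl⟩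
        exact subset_closure ⟨(x : G), mem_top _, rfl⟩
      · rw [h, index_top] at hMi
        exact hp.out.one_lt.ne hMi
    have hQ := hG.to_quotient (powerClosure p 1 (⊤ : Subgroup G))
    haveI := hQ.isNilpotent
    obtain ⟨m, hm⟩ := IsPGroup.iff_card.mp hQ
    rw [index_eq_card, hm, Nat.pow_le_pow_iff_right hp.out.one_lt] at hidx
    have hlc : (⊤ : Subgroup (G ⧸ powerClosure p 1 (⊤ : Subgroup G))).lowerCentralSeries 2 = ⊥ := by
      rw [Subgroup.lowerCentralSeries_eq_bot_iff_nilpotencyClass_le]
      rcases Nat.lt_or_ge m 3 with hm3 | hm3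
      · refine le_trans (MaxClassTwo.nilpotencyClass_le_one_of_comm ?_) one_le_two
        exact (isMulCommutative_of_card_le_sq hQ
          (hm ▸ Nat.pow_le_pow_right hp.out.pos (by omega))).is_comm.comm
      · exact (MaxClassTwo.nilpotencyClass_le (p := p) m _ hm (by omega)).trans (by omega)
    rw [← Subgroup.map_top_of_surjective _
      (QuotientGroup.mk'_surjective (powerClosure p 1 (⊤ : Subgroup G))),
      ← Subgroup.map_lowerCentralSeries, Subgroup.map_eq_bot_iff, QuotientGroup.ker_mk'] at hlc
    exact hlc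
  -- `⁅℧₁, G⁆ ≤ ℧₁(G')`
  have h4 : (⊤ : Subgroup G).lowerCentralSeries 3 ≤ powerClosure p 1 (commutator G) := by
    haveI hN : (powerClosure p 1 (commutator G)).Normal := normal_powerClosure p 1
    have hcen : ∀ x y : G, ⁅y, x ^ (p ^ 1)⁆ ∈ powerClosure p 1 (commutator G) := by
      intro x y
      have hne : zpowers x ≠ ⊤ := fun h => hcyc (isCyclic_iff_exists_zpowers_eq_top.mpr ⟨x, h⟩)
      obtain ⟨M, hMn, hMi, hMle⟩ := exists_normal_index_eq hG hne
      have hxM : x ∈ M := hMle (mem_zpowers x)
      have hcM := commutator_le_of_index_le_sq hG (N := M)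
        (by rw [hMi]; exact Nat.le_self_pow two_ne_zero p)
      have hMne : M ≠ ⊤ := fun h => by rw [h, index_top] at hMi; exact hp.out.one_lt.ne hMi
      have hy : ⁅y, x⁆ ∈ commutator G := commutator_mem_commutator (mem_top y) (mem_top x)
      obtain ⟨c, hc, heq⟩ := regAt_of_regular (hsub M hMne).1 1 ⟨⁅y, x⁆, hcM hy⟩ ⟨x, hxM⟩
      have hc' : (c : G) ∈ powerClosure p 1 (commutator G) := by
        refine closure_induction ?_ (one_mem _) (fun _ _ _ _ h h' => mul_mem h h')
          (fun _ _ h => inv_mem h) hc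
        rintro _ ⟨w, hw, rfl⟩
        rw [SubgroupClass.coe_pow]
        refine pow_mem_powerClosure ?_
        have := mem_map_of_mem M.subtype (Subgroup.commutator_mono le_top le_top hw)
        rw [map_commutator] at this
        exact Subgroup.commutator_mono le_top le_top this
      have heq' := congrArg Subtype.val heq
      simp only [Subgroup.coe_mul, SubgroupClass.coe_pow] at heq'
      rw [show ⁅y, x⁆ * x = y * x * y⁻¹ by simp [commutatorElement_def, mul_assoc], conj_pow] at heq'
      have e2 : ⁅y, x ^ (p ^ 1)⁆ = ⁅y, x⁆ ^ (p ^ 1) * (x ^ (p ^ 1) * c * (x ^ (p ^ 1))⁻¹) := by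
        rw [commutatorElement_def, heq']
        simp [mul_assoc]
      rw [e2]
      exact mul_mem (pow_mem_powerClosure hy) (hN.conj_mem _ hc' _)
    rw [show (3 : ℕ) = 2 + 1 from rfl, Subgroup.lowerCentralSeries_succ, Subgroup.commutator_comm,
      Subgroup.commutator_le]
    intro y _ w hw
    replace hw := h3 hw
    induction hw using closure_induction with
    | mem v hv =>
      obtain ⟨x, -, rfl⟩ := hv
      exact hcen x y
    | one => simp [one_mem]
    | mul u v _ _ hu hv =>
      have e : ⁅y, u * v⁆ = ⁅y, u⁆ * (u * ⁅y, v⁆ * u⁻¹) := by simp [commutatorElement_def, mul_assoc]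
      rw [e]
      exact mul_mem hu (hN.conj_mem _ hv u)
    | inv u _ hu =>
      have e : ⁅y, u⁻¹⁆ = u⁻¹ * ⁅y, u⁆⁻¹ * u⁻¹⁻¹ := by simp [commutatorElement_def, mul_assoc]
      rw [e]
      exact hN.conj_mem _ (inv_mem hu) _
  -- apply the exponent-`p` criterion
  refine regular_of_weak hG fun a b => ?_
  set K := closure ({a, b} : Set G) with hK
  by_cases hKtop : K = ⊤
  · haveI := hG.isNilpotent
    obtain ⟨e, he⟩ := Subgroup.nilpotent_iff_lowerCentralSeries.mp hG.isNilpotent
    obtain ⟨f, hf, hf0, hf1, hprod⟩ := PGroupsHallPetrescu.hall_petrescu a b (c := e + 1) (by exact he)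
    have hmem : ((List.range (e + 1)).map fun k => f k ^ p.choose k).prod ∈
        powerClosure p 1 (commutator G) := by
      refine list_prod_mem ?_
      simp only [List.mem_map, List.mem_range, forall_exists_index, and_imp]
      rintro _ k - rfl
      rcases Nat.lt_or_ge k 2 with hk2 | hk2
      · interval_cases k <;> simp [hf0, hf1, one_mem]
      · rcases Nat.lt_or_ge k p with hkp | hkp
        · obtain ⟨t, ht⟩ := hp.out.dvd_choose_self (show k ≠ 0 by omega) hkp
          rw [ht, mul_comm, pow_mul]
          have := PGroupsHallPetrescu.Gf_antitone hk2 (hf k)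
          rw [PGroupsHallPetrescu.Gf, Subgroup.top_lowerCentralSeries_one] at this
          have hft : f k ^ t ∈ commutator G := pow_mem this t
          have hfin := pow_mem_powerClosure (p := p) (n := 1) hft
          rw [pow_one] at hfin
          exact hfin
        · exact pow_mem (h4 (Subgroup.lowerCentralSeries_antitone _ (show 3 ≤ k - 1 by omega)
            (hf k))) _
    have hd : ∃ d ∈ commutator G, ((List.range (e + 1)).map fun k => f k ^ p.choose k).prod = d ^ p := by
      have hne : commutator G ≠ ⊤ := fun h => by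
        haveI : Nontrivial G := by
          by_contra hn
          rw [not_nontrivial_iff_subsingleton] at hn
          exact hcyc inferInstance
        exact frattini_ne_top (G := G) (top_le_iff.mp (h ▸ commutator_le_frattini hG))
      -- single powers inside the regular subgroup `G'`
      have hreg := (hsub _ hne).1
      have hmem2 : ∀ w ∈ powerClosure p 1 (commutator G), ∃ d : commutator G,
          w = ((d ^ (p ^ 1) : commutator G) : G) := by
        intro w hw
        have hw' : w ∈ (powerClosure p 1 (⊤ : Subgroup (commutator G))).map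
            (commutator G).subtype := by
          refine (closure_le _).mpr ?_ hw
          rintro _ ⟨x, hx, rfl⟩
          exact ⟨⟨x, hx⟩ ^ (p ^ 1), pow_mem_powerClosure (mem_top _), rfl⟩
        obtain ⟨v, hv, rfl⟩ := hw'
        obtain ⟨d, -, rfl⟩ := (mem_powerClosure_iff hreg.1 (regAt_of_regular hreg 1)).mp hv
        exact ⟨d, rfl⟩
      obtain ⟨d, hd⟩ := hmem2 _ hmem
      exact ⟨d, d.2, by rw [hd, SubgroupClass.coe_pow, pow_one]⟩
    obtain ⟨d, hd1, hd2⟩ := hd
    refine ⟨d, ?_, by rw [hprod p, hd2]⟩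
    rw [hKtop]; exact hd1
  · obtain ⟨c, hc, heq⟩ := weak_of_regular (hsub K hKtop).1 ⟨a, mem_pair_left a b⟩
      ⟨b, mem_pair_right a b⟩
    refine ⟨c, ?_, congrArg Subtype.val heq⟩
    have := mem_map_of_mem K.subtype (Subgroup.commutator_mono le_top le_top hc)
    rwa [map_commutator, ← MonoidHom.range_eq_map, range_subtype] at this

/-- A regular `p`-group with `|G : ℧₁(G)| ≤ p²` is metacyclic. -/
theorem isMetacyclic_of_regular (hreg : IsRegularPGroup p G)
    (hU : (powerClosure p 1 (⊤ : Subgroup G)).index ≤ p ^ 2) : IsMetacyclic G := by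
  have hG := hreg.1
  have hR := regAt_of_regular hreg 1
  by_cases hcyc : IsCyclic G
  · exact ⟨⊥, inferInstance, isCyclic_of_subsingleton,
      isCyclic_of_surjective (QuotientGroup.mk' ⊥) (QuotientGroup.mk'_surjective _)⟩
  haveI hUn : (powerClosure p 1 (⊤ : Subgroup G)).Normal := normal_powerClosure p 1
  have hUF : powerClosure p 1 (⊤ : Subgroup G) ≤ frattini G := by
    rw [powerClosure, closure_le]
    rintro _ ⟨x, -, rfl⟩
    rw [pow_one]; exact pow_mem_frattini hG x
  have hcU : commutator G ≤ powerClosure p 1 (⊤ : Subgroup G) := commutator_le_of_index_le_sq hG hU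
  have hFidx : (frattini G).index ≤ p ^ 2 :=
    le_trans (Nat.le_of_dvd (Nat.pos_of_ne_zero FiniteIndex.index_ne_zero) (index_dvd_of_le hUF)) hU
  -- two generators
  obtain ⟨a, b, hab⟩ : ∃ a b : G, closure ({a, b} : Set G) = ⊤ := by
    classical
    haveI := Fintype.ofFinite G
    obtain ⟨T, -, hT, hTgen⟩ := exists_basis_subset hG Finset.univ
      (by rw [Finset.coe_univ, Subgroup.closure_univ])
    rw [← hT, Nat.pow_le_pow_iff_right hp.out.one_lt] at hFidx
    interval_cases hc : T.card
    · rw [Finset.card_eq_zero] at hc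
      subst hc
      refine ⟨1, 1, top_le_iff.mp (hTgen ▸ closure_mono (by simp))⟩
    · obtain ⟨a, rfl⟩ := Finset.card_eq_one.mp hc
      exact ⟨a, a, by simpa using hTgen⟩
    · obtain ⟨a, b, -, rfl⟩ := Finset.card_eq_two.mp hc
      exact ⟨a, b, by simpa using hTgen⟩
  -- the derived subgroup is cyclic
  have hγ3 : ∀ k : G, ∀ w ∈ commutator G, ⁅k, w⁆ ∈ powerClosure p 1 (commutator G) := by
    intro k w hw
    obtain ⟨x, -, rfl⟩ := (mem_powerClosure_iff hG hR).mp (hcU hw)
    refine powerClosure_mono ?_ (commutator_pow_mem hR x k)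
    exact Subgroup.commutator_mono le_top le_top
  have hg : commutator G = zpowers ⁅a, b⁆ := by
    refine le_antisymm ?_ (zpowers_le.mpr (commutator_mem_commutator (mem_top a) (mem_top b)))
    have hW : commutator G ≤ zpowers ⁅a, b⁆ ⊔ powerClosure p 1 (commutator G) := by
      have hWle : zpowers ⁅a, b⁆ ⊔ powerClosure p 1 (commutator G) ≤ commutator G :=
        sup_le (zpowers_le.mpr (commutator_mem_commutator (mem_top a) (mem_top b)))
          (powerClosure_le_self _)
      rw [_root_.commutator_def, ← hab]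
      refine commutator_closure_pair_le (fun k _ w hw => ?_) ?_
      · rw [hab] at hw ⊢
        have e : k * w * k⁻¹ = ⁅k, w⁆ * w := by simp [commutatorElement_def, mul_assoc]
        rw [e]
        exact mul_mem (le_sup_right (a := zpowers ⁅a, b⁆) (hγ3 k w (hWle hw))) hw
      · exact le_sup_left (b := powerClosure p 1 ⁅closure ({a, b} : Set G), closure ({a, b} : Set G)⁆)
          (mem_zpowers _)
    have hsub : (zpowers ⁅a, b⁆).subgroupOf (commutator G) = ⊤ := by
      refine frattini_nongenerating (top_le_iff.mp fun u _ => ?_)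
      obtain ⟨v, hv, hvu⟩ : ∃ v ∈ (zpowers ⁅a, b⁆).subgroupOf (commutator G) ⊔
          frattini (commutator G), (v : G) = u := by
        have hle : zpowers ⁅a, b⁆ ⊔ powerClosure p 1 (commutator G) ≤
            ((zpowers ⁅a, b⁆).subgroupOf (commutator G) ⊔ frattini (commutator G)).map
              (commutator G).subtype := by
          rw [Subgroup.map_sup, map_subgroupOf_eq_of_le (K := commutator G)
            (zpowers_le.mpr (commutator_mem_commutator (mem_top a) (mem_top b))), powerClosure]
          refine sup_le le_sup_left (le_sup_of_le_right ((closure_le _).mpr ?_))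
          rintro _ ⟨x, hx, rfl⟩
          exact ⟨(⟨x, hx⟩ : commutator G) ^ (p ^ 1),
            by rw [pow_one]; exact pow_mem_frattini (hG.to_subgroup _) _, rfl⟩
        obtain ⟨v, hv, hvu⟩ := hle (hW u.2)
        exact ⟨v, hv, hvu⟩
      exact Subtype.ext hvu ▸ hv
    intro u hu
    exact (hsub ▸ mem_top (⟨u, hu⟩ : commutator G) :
      (⟨u, hu⟩ : commutator G) ∈ (zpowers ⁅a, b⁆).subgroupOf (commutator G))
  -- a generator outside `Φ` with the commutator among its powers
  obtain ⟨c, hcF, hgc⟩ : ∃ c : G, c ∉ frattini G ∧ ⁅a, b⁆ ∈ zpowers c := by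
    haveI : Nontrivial G := by
      by_contra hn
      rw [not_nontrivial_iff_subsingleton] at hn
      exact hcyc inferInstance
    by_cases hg1 : ⁅a, b⁆ = 1
    · obtain ⟨c, -, hc⟩ := SetLike.exists_of_lt (lt_top_iff_ne_top.mpr (frattini_ne_top (G := G)))
      exact ⟨c, hc, hg1 ▸ one_mem _⟩
    classical
    obtain ⟨N, hN⟩ : ∃ N, Nat.card G ≤ N := ⟨_, le_rfl⟩
    set e := Nat.findGreatest (fun e => ∃ c : G, ⁅a, b⁆ = c ^ (p ^ e)) N with he
    obtain ⟨c, hc⟩ : ∃ c : G, ⁅a, b⁆ = c ^ (p ^ e) :=
      Nat.findGreatest_spec (P := fun e => ∃ c : G, ⁅a, b⁆ = c ^ (p ^ e)) (Nat.zero_le N)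
        ⟨⁅a, b⁆, by simp⟩
    refine ⟨c, fun hcF => ?_, hc ▸ pow_mem (mem_zpowers c) _⟩
    have hcU' : c ∈ powerClosure p 1 (⊤ : Subgroup G) :=
      (frattini_le_of_elementary_quotient hcU fun x => by
        have := pow_mem_powerClosure (p := p) (n := 1) (mem_top x)
        rwa [pow_one] at this) hcF
    obtain ⟨d, -, rfl⟩ := (mem_powerClosure_iff hG hR).mp hcU'
    rw [← pow_mul, ← pow_add] at hc
    have hle : 1 + e ≤ N := by
      by_contra hlt
      apply hg1
      rw [hc, ← orderOf_dvd_iff_pow_eq_one]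
      obtain ⟨k, hk⟩ := IsPGroup.iff_orderOf.mp hG d
      rw [hk]
      refine Nat.pow_dvd_pow p ?_
      have h1 : p ^ k ≤ N := hk ▸ (Nat.le_of_dvd Nat.card_pos (orderOf_dvd_natCard d)).trans hN
      have := Nat.lt_pow_self hp.out.one_lt (n := k)
      omega
    have := Nat.le_findGreatest (P := fun e => ∃ c : G, ⁅a, b⁆ = c ^ (p ^ e)) hle ⟨d, hc⟩
    omega
  haveI hcn : (zpowers c).Normal := normal_of_commutator_le (hg ▸ zpowers_le.mpr hgc)
  refine ⟨zpowers c, hcn, inferInstance, ?_⟩
  -- the quotient is generated by one element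
  obtain ⟨d, hd⟩ : ∃ d : G, zpowers c ⊔ zpowers d = ⊤ := by
    by_cases htop : zpowers c ⊔ frattini G = ⊤
    · exact ⟨1, by rw [frattini_nongenerating htop]; simp⟩
    obtain ⟨d, -, hd⟩ := SetLike.exists_of_lt (lt_top_iff_ne_top.mpr htop)
    refine ⟨d, frattini_nongenerating ?_⟩
    have h1 := relIndex_mul_index (le_sup_right : frattini G ≤ zpowers c ⊔ frattini G)
    obtain ⟨i, hi⟩ := (hG.to_quotient (frattini G)).index
      ((zpowers c ⊔ frattini G).map (QuotientGroup.mk' (frattini G)))
    have hidx : (zpowers c ⊔ frattini G).index = p := by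
      obtain ⟨j, hj⟩ := IsPGroup.index hG (zpowers c ⊔ frattini G)
      rw [hj] at h1 ⊢
      rcases j with _ | _ | j
      · exact absurd (index_eq_one.mp (by rw [hj, pow_zero])) htop
      · exact pow_one p
      · exfalso
        have hrel : (frattini G).relIndex (zpowers c ⊔ frattini G) ≠ 1 := fun h =>
          hcF (relIndex_eq_one.mp h (le_sup_left (b := frattini G) (mem_zpowers c)))
        have hpos : (frattini G).relIndex (zpowers c ⊔ frattini G) ≠ 0 := by
          intro h; rw [h, zero_mul] at h1; exact FiniteIndex.index_ne_zero h1.symm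
        rw [← h1] at hFidx
        have h2 : 2 * p ^ (j + 1 + 1) ≤
            (frattini G).relIndex (zpowers c ⊔ frattini G) * p ^ (j + 1 + 1) :=
          Nat.mul_le_mul_right _ (by omega)
        have h3 : p ^ 2 ≤ p ^ (j + 1 + 1) := Nat.pow_le_pow_right hp.out.pos (by omega)
        have h4 : 0 < p ^ 2 := pow_pos hp.out.pos 2
        omega
    refine (isCoatom_of_index_eq hidx).2 _ (lt_of_le_not_ge ?_ fun hle => hd (hle ?_))
    · exact sup_le (le_sup_of_le_left le_sup_left) le_sup_right
    · exact le_sup_left (b := frattini G) (le_sup_right (a := zpowers c) (mem_zpowers d))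
  refine isCyclic_iff_exists_zpowers_eq_top.mpr ⟨QuotientGroup.mk' (zpowers c) d, ?_⟩
  rw [← MonoidHom.map_zpowers, ← Subgroup.map_top_of_surjective _
    (QuotientGroup.mk'_surjective (zpowers c)), ← hd, Subgroup.map_sup, QuotientGroup.map_mk'_self,
    bot_sup_eq]

end Cfsg.Agent.PGroupsHuppert
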