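import Mathlib

/-!
Arithmetic for metacyclic `p`-groups with `p` odd: geometric sums modulo prime powers and additive
subgroups of `ZMod (p^n) × ZMod (p^n)` with the determinant form.
-/

namespace Cfsg.Agent.MetacyclicArith

open Finset

/-- The geometric sum `1 + x + ... + x^(k-1)`. -/
def geo {R : Type*} [CommSemiring R] (x : R) (k : ℕ) : R := ∑ i ∈ range k, x ^ i

theorem geo_succ {R : Type*} [CommSemiring R] (x : R) (k : ℕ) : geo x (k + 1) = geo x k + x ^ k :=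
  sum_range_succ _ _

theorem geo_succ' {R : Type*} [CommSemiring R] (x : R) (k : ℕ) : geo x (k + 1) = 1 + x * geo x k := by
  rw [geo, geo, sum_range_succ', mul_sum, pow_zero, add_comm]
  exact congrArg _ (sum_congr rfl fun i _ => by ring)

theorem geo_add {R : Type*} [CommSemiring R] (x : R) (j l : ℕ) : geo x (j + l) = geo x j + x ^ j * geo x l := by
  induction l with
  | zero => simp [geo]
  | succ l ih => rw [← Nat.add_assoc, geo_succ, ih, geo_succ, pow_add]; ring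

theorem geo_mul {R : Type*} [CommSemiring R] (x : R) (k l : ℕ) : geo x (k * l) = geo x k * geo (x ^ k) l := by
  induction l with
  | zero => simp [geo]
  | succ l ih => rw [Nat.mul_succ, geo_add, ih, geo_succ, pow_mul]; ring

theorem geo_one {R : Type*} [CommSemiring R] (k : ℕ) : geo (1 : R) k = k := by simp [geo]

theorem geo_cast {R : Type*} [CommSemiring R] (x k : ℕ) : ((geo x k : ℕ) : R) = geo (x : R) k := by
  simp [geo]

variable {p : ℕ}

theorem dvd_pow_sub_one {x : ℤ} (hx : (p : ℤ) ∣ x - 1) (k : ℕ) : (p : ℤ) ∣ x ^ k - 1 :=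
  hx.trans (sub_one_dvd_pow_sub_one x k)

theorem geo_mod {x : ℤ} (hx : (p : ℤ) ∣ x - 1) (k : ℕ) : (p : ℤ) ∣ geo x k - k := by
  induction k with
  | zero => simp [geo]
  | succ k ih =>
    have h := dvd_add ih (dvd_pow_sub_one hx k)
    have e : geo x (k + 1) - ((k + 1 : ℕ) : ℤ) = (geo x k - k) + (x ^ k - 1) := by
      rw [geo_succ]; push_cast; ring
    rw [e]; exact h

theorem geo_prime_diff [hp : Fact p.Prime] (hp2 : p ≠ 2) {x x' : ℤ} (hx : (p : ℤ) ∣ x - 1) (hx' : (p : ℤ) ∣ x' - 1) :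
    (p : ℤ) * (x - x') ∣ geo x p - geo x' p := by
  have e : geo x p - geo x' p = (x - x') * ∑ i ∈ range p, ∑ l ∈ range i, x ^ l * x' ^ (i - 1 - l) := by
    rw [mul_sum, geo, geo, ← sum_sub_distrib]
    refine sum_congr rfl fun i _ => ?_
    rw [mul_comm, geom_sum₂_mul]
  rw [e, mul_comm (p : ℤ)]
  refine mul_dvd_mul_left _ ?_
  have hcast : ∀ y : ℤ, (p : ℤ) ∣ y - 1 → ((y : ℤ) : ZMod p) = 1 := fun y hy => by
    have := (ZMod.intCast_zmod_eq_zero_iff_dvd (y - 1) p).2 hy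
    push_cast at this
    exact sub_eq_zero.1 this
  rw [← ZMod.intCast_zmod_eq_zero_iff_dvd]
  push_cast
  rw [hcast x hx, hcast x' hx']
  simp only [one_pow, mul_one, sum_const, card_range, nsmul_eq_mul]
  rw [← Nat.cast_sum, ZMod.natCast_eq_zero_iff]
  have h2 := Finset.sum_range_id_mul_two p
  have h3 : p ∣ (∑ i ∈ range p, i) * 2 := h2 ▸ Dvd.intro _ rfl
  rcases hp.out.dvd_mul.1 h3 with h | h
  · exact h
  · exact absurd ((Nat.prime_dvd_prime_iff_eq hp.out Nat.prime_two).1 h) hp2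

theorem prime_pow_dvd_geo [hp : Fact p.Prime] {x : ℤ} (hx : (p : ℤ) ∣ x - 1) (s : ℕ) :
    ((p : ℤ) ^ s) ∣ geo x (p ^ s) := by
  induction s with
  | zero => simp
  | succ s ih =>
    rw [pow_succ, pow_succ, geo_mul]
    refine mul_dvd_mul ih ?_
    have := dvd_add (geo_mod (dvd_pow_sub_one hx (p ^ s)) p) (dvd_refl (p : ℤ))
    simpa using this

theorem geo_pow_diff [hp : Fact p.Prime] (hp2 : p ≠ 2) {x x' : ℤ} (hx : (p : ℤ) ∣ x - 1) (hx' : (p : ℤ) ∣ x' - 1) (s : ℕ) :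
    (p : ℤ) ^ s * (x - x') ∣ geo x (p ^ s) - geo x' (p ^ s) := by
  induction s with
  | zero => simp [geo]
  | succ s ih =>
    rw [pow_succ p s, geo_mul, geo_mul]
    have hT : (p : ℤ) ∣ geo (x ^ p ^ s) p := by
      have := dvd_add (geo_mod (dvd_pow_sub_one hx (p ^ s)) p) (dvd_refl (p : ℤ))
      simpa using this
    have hTd : (p : ℤ) * (x - x') ∣ geo (x ^ p ^ s) p - geo (x' ^ p ^ s) p :=
      (mul_dvd_mul_left _ (sub_dvd_pow_sub_pow x x' _)).trans
        (geo_prime_diff hp2 (dvd_pow_sub_one hx _) (dvd_pow_sub_one hx' _))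
    have e : geo x (p ^ s) * geo (x ^ p ^ s) p - geo x' (p ^ s) * geo (x' ^ p ^ s) p =
        (geo x (p ^ s) - geo x' (p ^ s)) * geo (x ^ p ^ s) p +
          geo x' (p ^ s) * (geo (x ^ p ^ s) p - geo (x' ^ p ^ s) p) := by ring
    rw [e]
    refine dvd_add ?_ ?_
    · have h := mul_dvd_mul ih hT
      convert h using 1; ring
    · have h := mul_dvd_mul (prime_pow_dvd_geo (p := p) hx' s) hTd
      convert h using 1; ring

theorem geo_prime_pow_eq [hp : Fact p.Prime] (hp2 : p ≠ 2) {x : ℤ} (hx : (p : ℤ) ∣ x - 1) (s : ℕ) :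
    ∃ w : ℤ, geo x (p ^ s) = (p : ℤ) ^ s * w ∧ ¬ (p : ℤ) ∣ w := by
  obtain ⟨t, ht⟩ := geo_pow_diff hp2 hx (x' := 1) (by simp) s
  rw [geo_one] at ht
  push_cast at ht
  refine ⟨1 + (x - 1) * t, by linear_combination ht, fun h => ?_⟩
  have := dvd_sub h (dvd_mul_of_dvd_left hx t)
  simp only [add_sub_cancel_right] at this
  exact hp.out.one_lt.ne' (Nat.dvd_one.1 (Int.natCast_dvd_natCast.1 (by simpa using this)))

theorem pow_dvd_geo_iff [hp : Fact p.Prime] (hp2 : p ≠ 2) {x : ℤ} (hx : (p : ℤ) ∣ x - 1) (n k : ℕ) :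
    ((p : ℤ) ^ n) ∣ geo x k ↔ p ^ n ∣ k := by
  rcases eq_or_ne k 0 with rfl | hk
  · simp [geo]
  obtain ⟨s, k', hk', rfl⟩ := Nat.exists_eq_pow_mul_and_not_dvd hk p hp.out.ne_one
  obtain ⟨w, hw, hwp⟩ := geo_prime_pow_eq hp2 hx s
  have hW : ¬ (p : ℤ) ∣ w * geo (x ^ p ^ s) k' := by
    intro h
    rcases (Nat.prime_iff_prime_int.1 hp.out).dvd_mul.1 h with h | h
    · exact hwp h
    · have := dvd_sub h (geo_mod (dvd_pow_sub_one hx (p ^ s)) k')
      simp only [sub_sub_cancel] at this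
      exact hk' (Int.natCast_dvd_natCast.1 this)
  rw [geo_mul, hw, mul_assoc]
  constructor
  · intro h
    have hns : n ≤ s := by
      by_contra hh
      have h2 : (p : ℤ) ^ s * p ∣ (p : ℤ) ^ s * (w * geo (x ^ p ^ s) k') := by
        rw [← pow_succ]; exact (pow_dvd_pow _ (by omega)).trans h
      exact hW ((mul_dvd_mul_iff_left (pow_ne_zero _ (by exact_mod_cast hp.out.ne_zero))).1 h2)
    exact dvd_mul_of_dvd_left (pow_dvd_pow p hns) _
  · intro h
    have hns : n ≤ s := by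
      by_contra hh
      have h2 : p ^ s * p ∣ p ^ s * k' := by rw [← pow_succ]; exact (pow_dvd_pow _ (by omega)).trans h
      exact hk' (Nat.dvd_of_mul_dvd_mul_left (pow_pos hp.out.pos _) h2)
    exact dvd_mul_of_dvd_left (pow_dvd_pow _ hns) _

theorem pow_dvd_geo_nat_iff [hp : Fact p.Prime] (hp2 : p ≠ 2) {x : ℕ} (hx : (p : ℤ) ∣ (x : ℤ) - 1) (n k : ℕ) :
    p ^ n ∣ geo x k ↔ p ^ n ∣ k := by
  rw [← pow_dvd_geo_iff hp2 hx n k, ← geo_cast x k, ← Int.natCast_dvd_natCast]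
  push_cast
  rfl

theorem geo_eq_zero_iff [hp : Fact p.Prime] (hp2 : p ≠ 2) {x n k : ℕ} (hx : (p : ℤ) ∣ (x : ℤ) - 1) :
    geo (x : ZMod (p ^ n)) k = 0 ↔ (k : ZMod (p ^ n)) = 0 := by
  rw [← geo_cast, ZMod.natCast_eq_zero_iff, ZMod.natCast_eq_zero_iff, pow_dvd_geo_nat_iff hp2 hx]

theorem isUnit_natCast [hp : Fact p.Prime] (n : ℕ) {x : ℕ} (hx : ¬ p ∣ x) : IsUnit (x : ZMod (p ^ n)) :=
  (ZMod.isUnit_iff_coprime _ _).2 (Nat.Coprime.pow_right n ((hp.out.coprime_iff_not_dvd).2 hx).symm)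

theorem not_dvd_of_sub_one [hp : Fact p.Prime] {x : ℕ} (hx : (p : ℤ) ∣ (x : ℤ) - 1) : ¬ p ∣ x := fun h => by
  have := dvd_sub (Int.natCast_dvd_natCast.2 h) hx
  simp only [sub_sub_cancel] at this
  exact hp.out.one_lt.ne' (Nat.dvd_one.1 (Int.natCast_dvd_natCast.1 (by simpa using this)))

theorem geo_surjective [hp : Fact p.Prime] (hp2 : p ≠ 2) {x : ℕ} (hx : (p : ℤ) ∣ (x : ℤ) - 1) (n : ℕ) (y : ZMod (p ^ n)) :
    ∃ k : ℕ, geo (x : ZMod (p ^ n)) k = y := by
  haveI : NeZero (p ^ n) := ⟨pow_ne_zero _ hp.out.ne_zero⟩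
  have key : ∀ a b : ℕ, a ≤ b → geo (x : ZMod (p ^ n)) a = geo (x : ZMod (p ^ n)) b → (a : ZMod (p ^ n)) = b := by
    intro a b hab h
    obtain ⟨d, rfl⟩ := Nat.exists_eq_add_of_le hab
    rw [geo_add] at h
    have h1 : (x : ZMod (p ^ n)) ^ a * geo (x : ZMod (p ^ n)) d = 0 := by linear_combination -h
    rw [IsUnit.mul_right_eq_zero ((isUnit_natCast n (not_dvd_of_sub_one hx)).pow a)] at h1
    rw [Nat.cast_add, (geo_eq_zero_iff hp2 hx).1 h1, add_zero]
  have hinj : Function.Injective fun v : ZMod (p ^ n) => geo (x : ZMod (p ^ n)) v.val := by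
    intro v w h
    rcases le_total v.val w.val with hl | hl
    · simpa using key _ _ hl h
    · simpa using (key _ _ hl h.symm).symm
  obtain ⟨v, hv⟩ := (Finite.injective_iff_surjective.1 hinj) y
  exact ⟨v.val, hv⟩

/-! ### Additive subgroups of `ZMod (p^n)` and its square -/

variable {n : ℕ} [hp : Fact p.Prime]

theorem mem_zmultiples_pow_iff {a : ℕ} (ha : a ≤ n) (x : ZMod (p ^ n)) :
    x ∈ AddSubgroup.zmultiples ((p ^ a : ℕ) : ZMod (p ^ n)) ↔ p ^ a ∣ x.val := by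
  haveI : NeZero (p ^ n) := ⟨pow_ne_zero _ hp.out.ne_zero⟩
  constructor
  · rintro ⟨t, rfl⟩
    have : ((t : ZMod (p ^ n)) * ((p ^ a : ℕ) : ZMod (p ^ n))).val = ((t : ZMod (p ^ n)).val * ((p ^ a : ℕ) : ZMod (p ^ n)).val) % p ^ n :=
      ZMod.val_mul _ _
    simp only [zsmul_eq_mul]
    rw [this, Nat.dvd_mod_iff (pow_dvd_pow p ha), ZMod.val_natCast]
    exact dvd_mul_of_dvd_right ((Nat.dvd_mod_iff (pow_dvd_pow p ha)).2 dvd_rfl) _
  · rintro ⟨t, ht⟩
    refine ⟨t, ?_⟩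
    simp only [natCast_zsmul, nsmul_eq_mul]
    rw [← ZMod.natCast_zmod_val x, ht, Nat.cast_mul, mul_comm]

theorem card_zmultiples_pow {a : ℕ} (ha : a ≤ n) :
    Nat.card (AddSubgroup.zmultiples ((p ^ a : ℕ) : ZMod (p ^ n))) = p ^ (n - a) := by
  rw [Nat.card_zmultiples, ZMod.addOrderOf_coe _ (pow_ne_zero _ hp.out.ne_zero), Nat.gcd_eq_right (pow_dvd_pow p ha),
    Nat.pow_div ha hp.out.pos]

theorem addSubgroup_eq (I : AddSubgroup (ZMod (p ^ n))) :
    ∃ a ≤ n, I = AddSubgroup.zmultiples ((p ^ a : ℕ) : ZMod (p ^ n)) := by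
  classical
  haveI : NeZero (p ^ n) := ⟨pow_ne_zero _ hp.out.ne_zero⟩
  have hex : ∃ a, ((p ^ a : ℕ) : ZMod (p ^ n)) ∈ I := ⟨n, by rw [ZMod.natCast_self]; exact I.zero_mem⟩
  have hle : Nat.find hex ≤ n := Nat.find_min' hex (by rw [ZMod.natCast_self]; exact I.zero_mem)
  refine ⟨Nat.find hex, hle, le_antisymm (fun x hx => ?_) (AddSubgroup.zmultiples_le.2 (Nat.find_spec hex))⟩
  rcases eq_or_ne x 0 with rfl | hx0
  · exact AddSubgroup.zero_mem _
  have hv : x.val ≠ 0 := fun h => hx0 ((ZMod.val_eq_zero x).1 h)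
  obtain ⟨v, w, hw, hxv⟩ := Nat.exists_eq_pow_mul_and_not_dvd hv p hp.out.ne_one
  obtain ⟨w', hw'⟩ := (isUnit_natCast n hw).exists_left_inv
  have hmem : ((p ^ v : ℕ) : ZMod (p ^ n)) ∈ I := by
    have h1 := I.nsmul_mem hx w'.val
    rw [nsmul_eq_mul, ZMod.natCast_zmod_val, ← ZMod.natCast_zmod_val x, hxv, Nat.cast_mul, mul_left_comm, hw', mul_one] at h1
    exact h1
  rw [mem_zmultiples_pow_iff hle, hxv]
  exact dvd_mul_of_dvd_left (pow_dvd_pow p (Nat.find_min' hex hmem)) _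

theorem pow_mul_eq_zero_iff {b : ℕ} (hb : b ≤ n) (x : ZMod (p ^ n)) :
    ((p ^ b : ℕ) : ZMod (p ^ n)) * x = 0 ↔ x ∈ AddSubgroup.zmultiples ((p ^ (n - b) : ℕ) : ZMod (p ^ n)) := by
  haveI : NeZero (p ^ n) := ⟨pow_ne_zero _ hp.out.ne_zero⟩
  rw [mem_zmultiples_pow_iff (Nat.sub_le n b)]
  conv_lhs => rw [← ZMod.natCast_zmod_val x, ← Nat.cast_mul, ZMod.natCast_eq_zero_iff]
  refine Iff.trans ?_ (Nat.mul_dvd_mul_iff_left (pow_pos hp.out.pos b))
  rw [← pow_add, Nat.add_sub_cancel' hb]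

/-- The torsion subgroup killed by `m`. -/
def killed {A : Type*} [AddCommGroup A] (m : ℕ) : AddSubgroup A := (nsmulAddMonoidHom (α := A) m).ker

theorem mem_killed {A : Type*} [AddCommGroup A] {m : ℕ} {x : A} : x ∈ killed m ↔ m • x = 0 := Iff.rfl

theorem killed_eq {b : ℕ} (hb : b ≤ n) :
    (killed (p ^ b) : AddSubgroup (ZMod (p ^ n))) = AddSubgroup.zmultiples ((p ^ (n - b) : ℕ) : ZMod (p ^ n)) := by
  ext x
  rw [mem_killed, nsmul_eq_mul, pow_mul_eq_zero_iff hb]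

theorem card_killed {b : ℕ} (hb : b ≤ n) : Nat.card (killed (p ^ b) : AddSubgroup (ZMod (p ^ n))) = p ^ b := by
  rw [killed_eq hb, card_zmultiples_pow (Nat.sub_le n b), Nat.sub_sub_self hb]

theorem card_killed_prod {b : ℕ} (hb : b ≤ n) :
    Nat.card (killed (p ^ b) : AddSubgroup (ZMod (p ^ n) × ZMod (p ^ n))) = p ^ (2 * b) := by
  have e : (killed (p ^ b) : AddSubgroup (ZMod (p ^ n) × ZMod (p ^ n))) = (killed (p ^ b)).prod (killed (p ^ b)) := by
    ext ⟨x, y⟩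
    simp [mem_killed, AddSubgroup.mem_prod]
  rw [e, Nat.card_congr (AddSubgroup.prodEquiv _ _).toEquiv, Nat.card_prod, card_killed hb, two_mul, pow_add]

theorem addOrderOf_dvd_q (v : ZMod (p ^ n) × ZMod (p ^ n)) : addOrderOf v ∣ p ^ n := by
  refine addOrderOf_dvd_of_nsmul_eq_zero ?_
  refine Prod.ext ?_ ?_ <;> simp <;> rw [← Nat.cast_pow, ZMod.natCast_self, zero_mul]

theorem killed_iff_multiple {s : ℕ} (hs : s ≤ n) (v : ZMod (p ^ n) × ZMod (p ^ n)) :
    p ^ (n - s) • v = 0 ↔ p ^ s ∣ v.1.val ∧ p ^ s ∣ v.2.val := by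
  have key : ∀ x : ZMod (p ^ n), p ^ (n - s) • x = 0 ↔ p ^ s ∣ x.val := fun x => by
    rw [nsmul_eq_mul, pow_mul_eq_zero_iff (Nat.sub_le n s), Nat.sub_sub_self hs, mem_zmultiples_pow_iff hs]
  rw [Prod.ext_iff]
  exact and_congr (key v.1) (key v.2)

/-- The determinant form. -/
def det {R : Type*} [CommRing R] (v w : R × R) : R := v.2 * w.1 - v.1 * w.2

theorem det_swap {R : Type*} [CommRing R] (v w : R × R) : det w v = - det v w := by
  unfold det; ring

theorem det_self {R : Type*} [CommRing R] (v : R × R) : det v v = 0 := by unfold det; ring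

theorem det_add {R : Type*} [CommRing R] (v w w' : R × R) : det v (w + w') = det v w + det v w' := by
  simp [det]; ring

theorem det_nsmul {R : Type*} [CommRing R] (v w : R × R) (k : ℕ) : det v (k • w) = k * det v w := by
  simp [det]; ring

/-- Orthogonal with respect to the determinant form. -/
def perp {R : Type*} [CommRing R] (S : Set (R × R)) : AddSubgroup (R × R) where
  carrier := {w | ∀ v ∈ S, det v w = 0}
  zero_mem' := fun v _ => by simp [det]
  add_mem' := fun {a b} ha hb v hv => by rw [det_add, ha v hv, hb v hv, add_zero]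
  neg_mem' := fun {a} ha v hv => by
    have h := ha v hv
    simp [det] at h ⊢
    linear_combination -h

theorem mem_perp {R : Type*} [CommRing R] {S : Set (R × R)} {w : R × R} : w ∈ perp S ↔ ∀ v ∈ S, det v w = 0 := Iff.rfl

theorem perp_antitone {R : Type*} [CommRing R] {S T : Set (R × R)} (h : S ⊆ T) : perp T ≤ perp S :=
  fun _ hw v hv => hw v (h hv)

theorem subset_perp_perp {R : Type*} [CommRing R] (S : Set (R × R)) : S ⊆ perp (perp S : Set (R × R)) :=
  fun v hv w hw => by rw [det_swap, hw v hv, neg_zero]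

theorem perp_singleton {R : Type*} [CommRing R] (v : R × R) :
    perp ({v} : Set (R × R)) = perp (AddSubgroup.zmultiples v : Set (R × R)) := by
  refine le_antisymm (fun w hw => ?_) (perp_antitone (by simp [AddSubgroup.mem_zmultiples]))
  rintro _ ⟨k, rfl⟩
  have h := hw v rfl
  simp [det] at h ⊢
  linear_combination (k : R) * h

theorem card_eq_fst_snd {A B : Type*} [AddCommGroup A] [AddCommGroup B] [Finite A] [Finite B]
    (M : AddSubgroup (A × B)) :
    Nat.card M = Nat.card (M.comap (AddMonoidHom.inl A B)) * Nat.card (M.map (AddMonoidHom.snd A B)) := by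
  let f : M →+ B := (AddMonoidHom.snd A B).comp M.subtype
  have h := AddSubgroup.card_eq_card_quotient_mul_card_addSubgroup f.ker
  rw [Nat.card_congr (QuotientAddGroup.quotientKerEquivRange f).toEquiv] at h
  have hr : f.range = M.map (AddMonoidHom.snd A B) := by
    rw [AddMonoidHom.range_comp, M.range_subtype]
  have hk : Nat.card f.ker = Nat.card (M.comap (AddMonoidHom.inl A B)) := by
    refine Nat.card_congr
      { toFun := fun x => ⟨x.1.1.1, ?_⟩
        invFun := fun x => ⟨⟨(x.1, 0), x.2⟩, rfl⟩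
        left_inv := fun x => ?_
        right_inv := fun x => rfl }
    · show (x.1.1.1, (0 : B)) ∈ M
      have h2 : x.1.1.2 = 0 := x.2
      rw [← h2]
      exact x.1.2
    · apply Subtype.ext; apply Subtype.ext
      exact Prod.ext rfl (show (0 : B) = x.1.1.2 from (x.2 : x.1.1.2 = 0).symm)
  rw [h, hk, hr, mul_comm]

/-- Normal form of an additive subgroup of the plane. -/
theorem exists_form (M : AddSubgroup (ZMod (p ^ n) × ZMod (p ^ n))) :
    ∃ a b c : ℕ, a ≤ n ∧ b ≤ n ∧ (((p ^ a : ℕ) : ZMod (p ^ n)), 0) ∈ M ∧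
      ((c : ZMod (p ^ n)), ((p ^ b : ℕ) : ZMod (p ^ n))) ∈ M ∧
      (∀ m ∈ M, ∃ s t : ℕ, m = s • (((p ^ a : ℕ) : ZMod (p ^ n)), (0 : ZMod (p ^ n))) + t • ((c : ZMod (p ^ n)), ((p ^ b : ℕ) : ZMod (p ^ n)))) ∧
      p ^ a ∣ p ^ (n - b) * c ∧ Nat.card M = p ^ (n - a) * p ^ (n - b) := by
  haveI : NeZero (p ^ n) := ⟨pow_ne_zero _ hp.out.ne_zero⟩
  obtain ⟨a, ha, hA⟩ := addSubgroup_eq (M.comap (AddMonoidHom.inl (ZMod (p ^ n)) (ZMod (p ^ n))))
  obtain ⟨b, hb, hB⟩ := addSubgroup_eq (M.map (AddMonoidHom.snd (ZMod (p ^ n)) (ZMod (p ^ n))))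
  have h0 : ((p ^ b : ℕ) : ZMod (p ^ n)) ∈ M.map (AddMonoidHom.snd _ _) := hB ▸ AddSubgroup.mem_zmultiples _
  obtain ⟨⟨c', y⟩, hcy, hy⟩ := h0
  change y = _ at hy
  subst hy
  have hv1 : (((p ^ a : ℕ) : ZMod (p ^ n)), (0 : ZMod (p ^ n))) ∈ M :=
    (hA ▸ AddSubgroup.mem_zmultiples _ : ((p ^ a : ℕ) : ZMod (p ^ n)) ∈ M.comap (AddMonoidHom.inl _ _))
  have hfst : ∀ x, (x, (0 : ZMod (p ^ n))) ∈ M → ∃ s : ℕ, x = (s : ZMod (p ^ n)) * ((p ^ a : ℕ) : ZMod (p ^ n)) := by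
    intro x hx
    have : x ∈ M.comap (AddMonoidHom.inl (ZMod (p ^ n)) (ZMod (p ^ n))) := hx
    rw [hA, mem_zmultiples_pow_iff ha] at this
    obtain ⟨s, hs⟩ := this
    exact ⟨s, by rw [← Nat.cast_mul, mul_comm, ← hs, ZMod.natCast_zmod_val]⟩
  refine ⟨a, b, c'.val, ha, hb, hv1, by rwa [ZMod.natCast_zmod_val], fun m hm => ?_, ?_, ?_⟩
  · have hm2 : m.2 ∈ M.map (AddMonoidHom.snd (ZMod (p ^ n)) (ZMod (p ^ n))) := ⟨m, hm, rfl⟩
    rw [hB, mem_zmultiples_pow_iff hb] at hm2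
    obtain ⟨t, ht⟩ := hm2
    have ht' : m.2 = (t : ZMod (p ^ n)) * ((p ^ b : ℕ) : ZMod (p ^ n)) := by
      rw [← Nat.cast_mul, mul_comm, ← ht, ZMod.natCast_zmod_val]
    have hd := M.sub_mem hm (M.nsmul_mem hcy t)
    obtain ⟨s, hs⟩ := hfst (m.1 - (t : ZMod (p ^ n)) * c') (by
      convert hd using 1
      ext <;> simp [ht'])
    refine ⟨s, t, ?_⟩
    ext
    · simp; push_cast at hs; linear_combination hs
    · simp [ht']
  · have hd := M.nsmul_mem hcy (p ^ (n - b))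
    obtain ⟨s, hs⟩ := hfst (((p ^ (n - b) : ℕ) : ZMod (p ^ n)) * c') (by
      convert hd using 1
      ext
      · simp
      · simp only [Prod.smul_snd, nsmul_eq_mul, Prod.snd_mul, Prod.snd_natCast]
        rw [← Nat.cast_mul, ← pow_add, Nat.sub_add_cancel hb, ZMod.natCast_self])
    rw [← ZMod.natCast_zmod_val c', ← Nat.cast_mul, ← Nat.cast_mul, ZMod.natCast_eq_natCast_iff] at hs
    exact ((Nat.ModEq.of_dvd (pow_dvd_pow p ha) hs).dvd_iff dvd_rfl).2 (Dvd.intro_left _ rfl)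
  · rw [card_eq_fst_snd, hA, hB, card_zmultiples_pow ha, card_zmultiples_pow hb]

theorem card_mul_card_perp (M : AddSubgroup (ZMod (p ^ n) × ZMod (p ^ n))) :
    Nat.card M * Nat.card (perp (M : Set (ZMod (p ^ n) × ZMod (p ^ n)))) = (p ^ n) ^ 2 := by
  haveI : NeZero (p ^ n) := ⟨pow_ne_zero _ hp.out.ne_zero⟩
  obtain ⟨a, b, c, ha, hb, h1, h2, hgen, hdiv, hcard⟩ := exists_form M
  set A : ZMod (p ^ n) := ((p ^ a : ℕ) : ZMod (p ^ n)) with hA
  set B : ZMod (p ^ n) := ((p ^ b : ℕ) : ZMod (p ^ n)) with hB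
  have hmem : ∀ x y, (x, y) ∈ perp (M : Set (ZMod (p ^ n) × ZMod (p ^ n))) ↔ A * y = 0 ∧ B * x = (c : ZMod (p ^ n)) * y := by
    intro x y
    constructor
    · intro h
      have e1 := h _ h1
      have e2 := h _ h2
      simp only [det] at e1 e2
      exact ⟨by linear_combination -e1, by linear_combination e2⟩
    · rintro ⟨e1, e2⟩ m hm
      obtain ⟨s, t, rfl⟩ := hgen m hm
      simp [det, hA, hB] at e1 e2 ⊢
      linear_combination -(s : ZMod (p ^ n)) * e1 + (t : ZMod (p ^ n)) * e2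
  have hk1 : (perp (M : Set (ZMod (p ^ n) × ZMod (p ^ n)))).comap (AddMonoidHom.inl _ _) = killed (p ^ b) := by
    ext x
    rw [AddSubgroup.mem_comap, AddMonoidHom.inl_apply, hmem, mem_killed, nsmul_eq_mul]
    simp [hB]
  have hk2 : (perp (M : Set (ZMod (p ^ n) × ZMod (p ^ n)))).map (AddMonoidHom.snd _ _) = killed (p ^ a) := by
    ext y
    rw [AddSubgroup.mem_map, mem_killed, nsmul_eq_mul]
    constructor
    · rintro ⟨⟨x, y'⟩, hxy, rfl⟩
      exact ((hmem x y').1 hxy).1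
    · intro hy
      have hy' := (pow_mul_eq_zero_iff ha y).1 hy
      rw [mem_zmultiples_pow_iff (Nat.sub_le n a)] at hy'
      obtain ⟨s, hs⟩ := hy'
      have hd : p ^ b ∣ p ^ (n - a) * c := by
        have h4 : p ^ a * p ^ b ∣ p ^ a * (p ^ (n - a) * c) := by
          have h5 := mul_dvd_mul hdiv (dvd_refl (p ^ b))
          rw [show p ^ a * (p ^ (n - a) * c) = p ^ n * c by rw [← mul_assoc, ← pow_add, Nat.add_sub_cancel' ha]]
          calc p ^ a * p ^ b ∣ p ^ (n - b) * c * p ^ b := h5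
            _ = p ^ n * c := by rw [mul_right_comm, ← pow_add, Nat.sub_add_cancel hb]
        exact Nat.dvd_of_mul_dvd_mul_left (pow_pos hp.out.pos _) h4
      obtain ⟨e, he⟩ := hd
      refine ⟨(((e * s : ℕ) : ZMod (p ^ n)), y), (hmem _ _).2 ⟨hy, ?_⟩, rfl⟩
      rw [← ZMod.natCast_zmod_val y, hs, hB, ← Nat.cast_mul, ← Nat.cast_mul, ← mul_assoc, ← he]
      congr 1; ring
  have := card_eq_fst_snd (perp (M : Set (ZMod (p ^ n) × ZMod (p ^ n))))
  rw [hcard, this, hk1, hk2, card_killed hb, card_killed ha]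
  calc p ^ (n - a) * p ^ (n - b) * (p ^ b * p ^ a) = (p ^ (n - a) * p ^ a) * (p ^ (n - b) * p ^ b) := by ring
    _ = (p ^ n) ^ 2 := by rw [← pow_add, ← pow_add, Nat.sub_add_cancel ha, Nat.sub_add_cancel hb, sq]

theorem perp_perp (M : AddSubgroup (ZMod (p ^ n) × ZMod (p ^ n))) :
    perp (perp (M : Set (ZMod (p ^ n) × ZMod (p ^ n))) : Set (ZMod (p ^ n) × ZMod (p ^ n))) = M := by
  haveI : NeZero (p ^ n) := ⟨pow_ne_zero _ hp.out.ne_zero⟩
  refine (SetLike.coe_injective (Set.Finite.eq_of_subset_of_card_le (Set.toFinite _) (subset_perp_perp _) ?_)).symm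
  have h1 := card_mul_card_perp M
  have h2 := card_mul_card_perp (perp (M : Set (ZMod (p ^ n) × ZMod (p ^ n))))
  rw [← h1, mul_comm (Nat.card M)] at h2
  exact le_of_eq (Nat.eq_of_mul_eq_mul_left Nat.card_pos h2)

theorem card_mul_card_perp_singleton (v : ZMod (p ^ n) × ZMod (p ^ n)) :
    addOrderOf v * Nat.card (perp ({v} : Set (ZMod (p ^ n) × ZMod (p ^ n)))) = (p ^ n) ^ 2 := by
  rw [perp_singleton, ← Nat.card_zmultiples, card_mul_card_perp]

/-- Either a subgroup is isotropic and small, or it is large and contains its orthogonal. -/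
theorem dichotomy (M : AddSubgroup (ZMod (p ^ n) × ZMod (p ^ n))) :
    (M ≤ perp (M : Set (ZMod (p ^ n) × ZMod (p ^ n))) ∧ Nat.card M ≤ p ^ n) ∨
    (¬ M ≤ perp (M : Set (ZMod (p ^ n) × ZMod (p ^ n))) ∧ p ^ n < Nat.card M ∧
      perp (M : Set (ZMod (p ^ n) × ZMod (p ^ n))) ≤ M ∧
      ∀ v : ZMod (p ^ n) × ZMod (p ^ n), p ^ (n - 1) ∣ v.1.val → p ^ (n - 1) ∣ v.2.val → v ∈ M) := by
  haveI : NeZero (p ^ n) := ⟨pow_ne_zero _ hp.out.ne_zero⟩
  obtain ⟨a, b, c, ha, hb, h1, h2, hgen, hdiv, hcard⟩ := exists_form M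
  by_cases hab : n ≤ a + b
  · left
    have hz : ((p ^ a : ℕ) : ZMod (p ^ n)) * ((p ^ b : ℕ) : ZMod (p ^ n)) = 0 := by
      rw [← Nat.cast_mul, ← pow_add, ZMod.natCast_eq_zero_iff]
      exact pow_dvd_pow p hab
    refine ⟨fun w hw v hv => ?_, ?_⟩
    · obtain ⟨s, t, rfl⟩ := hgen w hw
      obtain ⟨s', t', rfl⟩ := hgen v hv
      simp [det] at hz ⊢
      linear_combination ((s : ZMod (p ^ n)) * t' - (s' : ZMod (p ^ n)) * t) * hz
    · rw [hcard, ← pow_add]; exact Nat.pow_le_pow_right hp.out.pos (by omega)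
  · right
    push Not at hab
    have hlt : p ^ n < Nat.card M := by
      rw [hcard, ← pow_add]; exact Nat.pow_lt_pow_right hp.out.one_lt (by omega)
    have hperp : ¬ M ≤ perp (M : Set (ZMod (p ^ n) × ZMod (p ^ n))) := by
      intro h
      have h3 := h h2 _ h1
      simp [det] at h3
      rw [← Nat.cast_pow, ← Nat.cast_pow, ← Nat.cast_mul, ← pow_add, ZMod.natCast_eq_zero_iff,
        Nat.pow_dvd_pow_iff_le_right hp.out.one_lt] at h3
      omega
    have hbig : ∀ e : ℕ, a ≤ e → e ≤ n → ∀ x : ZMod (p ^ n), p ^ e ∣ x.val → (x, (0 : ZMod (p ^ n))) ∈ M := by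
      intro e he _ x hx
      obtain ⟨t, ht⟩ := (pow_dvd_pow p he).trans hx
      have h3 := M.nsmul_mem h1 t
      convert h3 using 1
      ext
      · rw [Prod.smul_fst, nsmul_eq_mul, ← ZMod.natCast_zmod_val x, ht, Nat.cast_mul]; ring
      · simp
    have hM : ∀ x y : ZMod (p ^ n), p ^ b ∣ y.val → p ^ a ∣ x.val → (∀ t : ℕ, y.val = p ^ b * t → p ^ a ∣ t * c) → (x, y) ∈ M := by
      intro x y hy hx hc
      obtain ⟨t, ht⟩ := hy
      obtain ⟨s, hs⟩ := hx
      obtain ⟨e, he⟩ := hc t ht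
      have h3 := M.sub_mem (M.add_mem (M.nsmul_mem h1 s) (M.nsmul_mem h2 t)) (M.nsmul_mem h1 e)
      convert h3 using 1
      have hx' : x = ((p ^ a * s : ℕ) : ZMod (p ^ n)) := by rw [← hs, ZMod.natCast_zmod_val]
      have hy' : y = ((p ^ b * t : ℕ) : ZMod (p ^ n)) := by rw [← ht, ZMod.natCast_zmod_val]
      have he' : ((t * c : ℕ) : ZMod (p ^ n)) = ((p ^ a * e : ℕ) : ZMod (p ^ n)) := by rw [he]
      ext
      · simp [hx'] at he' ⊢; linear_combination -he'
      · simp [hy']; ring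
    refine ⟨hperp, hlt, ?_, fun v hv1 hv2 => ?_⟩
    · intro w hw
      have e1 := hw _ h1
      have e2 := hw _ h2
      simp only [det] at e1 e2
      have hy1 : ((p ^ a : ℕ) : ZMod (p ^ n)) * w.2 = 0 := by linear_combination -e1
      rw [pow_mul_eq_zero_iff ha, mem_zmultiples_pow_iff (Nat.sub_le n a)] at hy1
      obtain ⟨t, ht⟩ := (pow_dvd_pow p (by omega : b ≤ n - a)).trans hy1
      have ht2 : p ^ b * p ^ (n - a - b) ∣ p ^ b * t := by
        rw [← pow_add, ← ht, show b + (n - a - b) = n - a by omega]; exact hy1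
      obtain ⟨t', ht'⟩ := Nat.dvd_of_mul_dvd_mul_left (pow_pos hp.out.pos _) ht2
      -- subtract the second generator
      have hd := M.sub_mem (x := ((t : ZMod (p ^ n)) * c, w.2)) ?_ (M.zero_mem)
      · have hz : ((p ^ b : ℕ) : ZMod (p ^ n)) * (w.1 - (t : ZMod (p ^ n)) * c) = 0 := by
          have h5 : w.2 = ((p ^ b : ℕ) : ZMod (p ^ n)) * t := by rw [← Nat.cast_mul, ← ht, ZMod.natCast_zmod_val]
          rw [h5] at e2
          linear_combination e2
        rw [pow_mul_eq_zero_iff hb, mem_zmultiples_pow_iff (Nat.sub_le n b)] at hz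
        have h4 := M.add_mem (hbig (n - b) (by omega) (Nat.sub_le n b) _ hz) hd
        simpa using h4
      · have h5 : w.2 = ((p ^ b : ℕ) : ZMod (p ^ n)) * t := by rw [← Nat.cast_mul, ← ht, ZMod.natCast_zmod_val]
        have h6 := M.nsmul_mem h2 t
        convert h6 using 1
        ext
        · simp
        · rw [h5, Prod.smul_snd, nsmul_eq_mul]; ring
    · refine hM v.1 v.2 ((pow_dvd_pow p (by omega)).trans hv2) ((pow_dvd_pow p (by omega)).trans hv1) fun t ht => ?_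
      have h4 : p ^ b * p ^ a ∣ p ^ b * t := by rw [← pow_add, ← ht]; exact (pow_dvd_pow p (by omega)).trans hv2
      exact dvd_mul_of_dvd_left (Nat.dvd_of_mul_dvd_mul_left (pow_pos hp.out.pos _) h4) _

end Cfsg.Agent.MetacyclicArith
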