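import Mathlib
import Cfsg.Prelude.Def_OddOrderLocal
import Cfsg.Agent.Lib.MetacyclicArith

/-!
Structure of metacyclic `p`-groups for odd `p`: the map `G → ZMod (p^n) × ZMod (p^n)` with kernel the
centre which turns commutation into the determinant form.
-/

namespace Cfsg.Agent.MetacyclicOdd

open Cfsg.Agent.MetacyclicArith

/-- Normalised generators of a metacyclic `p`-group. -/
structure Data (p : ℕ) (G : Type*) [Group G] where
  a : G
  b : G
  μ : ℕ
  n : ℕ
  u : ℕ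
  hμ : 1 ≤ μ
  hu : ¬ p ∣ u
  gen : ∀ g : G, ∃ i j : ℕ, g = a ^ i * b ^ j
  conj : b * a = a ^ (1 + p ^ μ * u) * b
  hord : orderOf (a ^ p ^ μ) = p ^ n

theorem exists_data {G : Type*} [Group G] [Finite G] {p : ℕ} [hp : Fact p.Prime] (hG : IsPGroup p G)
    (hmc : Cfsg.IsMetacyclic G) : Nonempty (Data p G) := by
  obtain ⟨N, hN, hNc, hQc⟩ := hmc
  haveI := hN
  obtain ⟨⟨a, haN⟩, ha⟩ := IsCyclic.exists_generator (α := N)
  obtain ⟨bb, hbb⟩ := IsCyclic.exists_generator (α := G ⧸ N)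
  obtain ⟨b, rfl⟩ := QuotientGroup.mk_surjective bb
  have hNa : ∀ x ∈ N, ∃ k : ℕ, x = a ^ k := by
    intro x hx
    obtain ⟨k, hk⟩ := (mem_powers_iff_mem_zpowers.2 (ha ⟨x, hx⟩))
    exact ⟨k, (congrArg Subtype.val hk).symm⟩
  have gen : ∀ g : G, ∃ i j : ℕ, g = a ^ i * b ^ j := by
    intro g
    obtain ⟨j, hj⟩ := mem_powers_iff_mem_zpowers.2 (hbb (g : G ⧸ N))
    have hj' : ((b ^ j : G) : G ⧸ N) = (g : G ⧸ N) := by simpa using hj
    have h1 : g * (b ^ j)⁻¹ ∈ N := by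
      rw [← QuotientGroup.eq_one_iff]
      rw [QuotientGroup.mk_mul, QuotientGroup.mk_inv, hj', mul_inv_cancel]
    obtain ⟨i, hi⟩ := hNa _ h1
    exact ⟨i, j, by rw [← hi, inv_mul_cancel_right]⟩
  obtain ⟨r0, hr0⟩ := hNa _ (hN.conj_mem a haN b)
  have hconj : b * a = a ^ r0 * b := by rw [← hr0, inv_mul_cancel_right]
  obtain ⟨m, hm⟩ := IsPGroup.iff_orderOf.1 hG a
  obtain ⟨k, hk⟩ := hG b
  by_cases hcomm : b * a = a * b
  · refine ⟨⟨a, b, max m 1, 0, 1, le_max_right _ _, ?_, gen, ?_, ?_⟩⟩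
    · simp [hp.out.ne_one]
    · have : a ^ p ^ max m 1 = 1 :=
        orderOf_dvd_iff_pow_eq_one.1 (hm ▸ pow_dvd_pow p (le_max_left _ _))
      rw [mul_one, pow_add, this, pow_one, mul_one, hcomm]
    · rw [pow_zero, orderOf_eq_one_iff]
      exact orderOf_dvd_iff_pow_eq_one.1 (hm ▸ pow_dvd_pow p (le_max_left _ _))
  · have hiter : ∀ j : ℕ, b ^ j * a = a ^ (r0 ^ j) * b ^ j := by
      intro j
      induction j with
      | zero => simp
      | succ j ih =>
        have h : SemiconjBy b (a ^ (r0 ^ j)) (a ^ (r0 ^ j * r0)) := by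
          have := (show SemiconjBy b a (a ^ r0) from hconj).pow_right (r0 ^ j)
          rwa [← pow_mul, mul_comm r0] at this
        rw [pow_succ' b, mul_assoc, ih, ← mul_assoc, h.eq, mul_assoc, pow_succ r0]
    have hne : a ≠ 1 := fun h => hcomm (by simp [h])
    have hm0 : m ≠ 0 := fun h => hne (orderOf_eq_one_iff.1 (by rw [hm, h, pow_zero]))
    have hr1 : a ^ (r0 ^ p ^ k) = a := by
      have := hiter (p ^ k)
      rw [hk, one_mul, mul_one] at this
      exact this.symm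
    have hmod : r0 ^ p ^ k ≡ 1 [MOD p ^ m] := hm ▸ pow_eq_pow_iff_modEq.1 (by rw [hr1, pow_one])
    have hp1 : ((r0 : ZMod p)) = 1 := by
      have h2 := (ZMod.natCast_eq_natCast_iff _ _ p).2 (Nat.ModEq.of_dvd (dvd_pow_self p hm0) hmod)
      push_cast at h2
      rwa [ZMod.pow_card_pow] at h2
    have hr0pos : r0 ≠ 0 := by
      rintro rfl
      simp at hp1
    have hdvd : p ∣ r0 - 1 := by
      rw [← ZMod.natCast_eq_zero_iff, Nat.cast_sub (Nat.one_le_iff_ne_zero.2 hr0pos), hp1, Nat.cast_one, sub_self]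
    have hr01 : r0 - 1 ≠ 0 := fun h => hcomm (by rw [hconj, show r0 = 1 by omega, pow_one])
    obtain ⟨μ, u, hu, hru⟩ := Nat.exists_eq_pow_mul_and_not_dvd hr01 p hp.out.ne_one
    have hμ : 1 ≤ μ := by
      by_contra h
      have : μ = 0 := by omega
      rw [this, pow_zero, one_mul] at hru
      exact hu (hru ▸ hdvd)
    have hμm : μ < m := by
      by_contra h
      refine hcomm ?_
      have : a ^ (r0 - 1) = 1 :=
        orderOf_dvd_iff_pow_eq_one.1 (by rw [hm, hru]; exact dvd_mul_of_dvd_left (pow_dvd_pow p (by omega)) _)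
      rw [hconj, show r0 = (r0 - 1) + 1 by omega, pow_succ, this, one_mul]
    refine ⟨⟨a, b, μ, m - μ, u, hμ, hu, gen, ?_, ?_⟩⟩
    · rw [hconj, ← hru, show 1 + (r0 - 1) = r0 by omega]
    · rw [orderOf_pow' a (pow_ne_zero _ hp.out.ne_zero), hm, Nat.gcd_eq_right (pow_dvd_pow p hμm.le),
        Nat.pow_div hμm.le hp.out.pos]

variable {p : ℕ} {G : Type*} [Group G] (D : Data p G)

namespace Data

/-- The order of the derived subgroup. -/
abbrev q : ℕ := p ^ D.n

/-- The conjugation exponent. -/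
def r : ℕ := 1 + p ^ D.μ * D.u

/-- The twisted exponent of `b`. -/
def E (j : ℕ) : ℕ := D.u * geo D.r j

/-- The generator of the derived subgroup. -/
def c : G := D.a ^ p ^ D.μ

theorem sub_one_dvd (j : ℕ) : (p : ℤ) ∣ ((D.r ^ j : ℕ) : ℤ) - 1 := by
  push_cast
  refine dvd_pow_sub_one ?_ j
  simp only [r, Nat.cast_add, Nat.cast_one, add_sub_cancel_left, Nat.cast_mul, Nat.cast_pow]
  exact dvd_mul_of_dvd_left (dvd_pow_self _ (by have := D.hμ; omega)) _

theorem r_pow (j : ℕ) : D.r ^ j = 1 + p ^ D.μ * D.E j := by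
  induction j with
  | zero => simp [E, geo]
  | succ j ih => rw [pow_succ', ih, E, E, geo_succ', r]; ring

theorem semiconj (j k : ℕ) : D.b ^ j * D.a ^ k = D.a ^ (k * D.r ^ j) * D.b ^ j := by
  induction j generalizing k with
  | zero => simp
  | succ j ih =>
    have h : SemiconjBy D.b (D.a ^ k) (D.a ^ (k * D.r)) := by
      have := (show SemiconjBy D.b D.a (D.a ^ D.r) from D.conj).pow_right k
      rwa [← pow_mul, mul_comm] at this
    rw [pow_succ, mul_assoc, h.eq, ← mul_assoc, ih, mul_assoc, pow_succ', mul_assoc]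

theorem mul_form (i j k l : ℕ) :
    D.a ^ i * D.b ^ j * (D.a ^ k * D.b ^ l) = D.a ^ (i + k * D.r ^ j) * D.b ^ (j + l) := by
  rw [mul_assoc, ← mul_assoc (D.b ^ j), D.semiconj, pow_add, pow_add]
  simp only [mul_assoc]

theorem mul_form' (i j k l : ℕ) :
    D.a ^ i * D.b ^ j * (D.a ^ k * D.b ^ l) = D.c ^ (k * D.E j) * (D.a ^ (i + k) * D.b ^ (j + l)) := by
  rw [D.mul_form, ← mul_assoc, c, ← pow_mul, ← pow_add, D.r_pow]
  congr 2
  ring

theorem c_pow_eq_iff (s t : ℕ) : D.c ^ s = D.c ^ t ↔ (s : ZMod D.q) = t := by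
  rw [pow_eq_pow_iff_modEq, c, D.hord, ZMod.natCast_eq_natCast_iff]

variable [hp : Fact p.Prime]

theorem isUnit_u : IsUnit (D.u : ZMod D.q) := isUnit_natCast _ D.hu

theorem unique {i j k l : ℕ} (h : D.a ^ i * D.b ^ j = D.a ^ k * D.b ^ l) :
    (i : ZMod D.q) = k ∧ (D.E j : ZMod D.q) = D.E l := by
  constructor
  · have e : ∀ i j : ℕ, D.a ^ 0 * D.b ^ 1 * (D.a ^ i * D.b ^ j) = D.c ^ (i * D.u) * (D.a ^ i * D.b ^ j * D.b) := by
      intro i j
      rw [D.mul_form', zero_add, add_comm 1 j, pow_succ, mul_assoc (D.a ^ i)]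
      simp [E, geo]
    have h1 := e i j
    rw [h, e k l, mul_left_inj, D.c_pow_eq_iff] at h1
    push_cast at h1
    exact (D.isUnit_u.mul_left_inj.1 h1).symm
  · have e : ∀ i j : ℕ, D.a ^ i * D.b ^ j * (D.a ^ 1 * D.b ^ 0) = D.c ^ (D.E j) * (D.a * (D.a ^ i * D.b ^ j)) := by
      intro i j
      rw [D.mul_form', one_mul, add_zero, pow_succ', mul_assoc D.a]
    have h1 := e i j
    rw [h, e k l, mul_left_inj, D.c_pow_eq_iff] at h1
    exact h1.symm

/-- The representation map. -/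
noncomputable def ψ (g : G) : ZMod D.q × ZMod D.q :=
  (((D.gen g).choose : ZMod D.q), (D.E (D.gen g).choose_spec.choose : ZMod D.q))

/-- The multiplier of `ψ`. -/
noncomputable def χ (g : G) : ZMod D.q := 1 + ((p ^ D.μ : ℕ) : ZMod D.q) * (D.ψ g).2

theorem ψ_apply (i j : ℕ) : D.ψ (D.a ^ i * D.b ^ j) = ((i : ZMod D.q), (D.E j : ZMod D.q)) := by
  have h := D.unique (D.gen (D.a ^ i * D.b ^ j)).choose_spec.choose_spec.symm
  exact Prod.ext h.1 h.2

theorem χ_apply (i j : ℕ) : D.χ (D.a ^ i * D.b ^ j) = ((D.r ^ j : ℕ) : ZMod D.q) := by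
  rw [χ, D.ψ_apply, D.r_pow]; push_cast; rfl

theorem χ_eq (g : G) : ∃ x : ℕ, (p : ℤ) ∣ (x : ℤ) - 1 ∧ D.χ g = (x : ZMod D.q) := by
  obtain ⟨i, j, rfl⟩ := D.gen g
  exact ⟨_, D.sub_one_dvd j, D.χ_apply i j⟩

theorem isUnit_χ (g : G) : IsUnit (D.χ g) := by
  obtain ⟨x, hx, h⟩ := D.χ_eq g
  exact h ▸ isUnit_natCast _ (not_dvd_of_sub_one hx)

theorem ψ_mul (g h : G) : D.ψ (g * h) = D.ψ g + D.χ g • D.ψ h := by
  obtain ⟨i, j, rfl⟩ := D.gen g
  obtain ⟨k, l, rfl⟩ := D.gen h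
  rw [D.χ_apply, D.mul_form, D.ψ_apply, D.ψ_apply, D.ψ_apply]
  refine Prod.ext ?_ ?_
  · simp; ring
  · simp only [E, geo_add, Prod.snd_add, Prod.smul_snd, smul_eq_mul]
    push_cast; ring

theorem ψ_one : D.ψ 1 = 0 := by
  have := D.ψ_apply 0 0
  simp [E, geo] at this
  exact this

theorem ψ_pow (g : G) (k : ℕ) : D.ψ (g ^ k) = geo (D.χ g) k • D.ψ g := by
  induction k with
  | zero => simp [geo, D.ψ_one]
  | succ k ih => rw [pow_succ', D.ψ_mul, ih, geo_succ', add_smul, one_smul, smul_smul]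

theorem ψ_inv (g : G) : D.χ g • D.ψ g⁻¹ = - D.ψ g := by
  have := D.ψ_mul g g⁻¹
  rw [mul_inv_cancel, D.ψ_one] at this
  exact eq_neg_of_add_eq_zero_right this.symm

theorem ψ_surjective (hp2 : p ≠ 2) : Function.Surjective D.ψ := by
  rintro ⟨x, y⟩
  haveI : NeZero D.q := ⟨pow_ne_zero _ hp.out.ne_zero⟩
  obtain ⟨u', hu'⟩ := D.isUnit_u.exists_left_inv
  obtain ⟨j, hj⟩ := geo_surjective (x := D.r) hp2 (by simpa using D.sub_one_dvd 1) D.n (u' * y)
  refine ⟨D.a ^ x.val * D.b ^ j, ?_⟩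
  rw [D.ψ_apply, ZMod.natCast_zmod_val, E, Nat.cast_mul, geo_cast, hj, ← mul_assoc,
    mul_comm (D.u : ZMod D.q), hu', one_mul]

theorem commute_iff (g h : G) : Commute g h ↔ det (D.ψ g) (D.ψ h) = 0 := by
  obtain ⟨i, j, rfl⟩ := D.gen g
  obtain ⟨k, l, rfl⟩ := D.gen h
  rw [Commute, SemiconjBy, D.mul_form', D.mul_form', add_comm k i, add_comm l j, mul_left_inj, D.c_pow_eq_iff,
    D.ψ_apply, D.ψ_apply, det, sub_eq_zero]
  push_cast
  constructor <;> intro e <;> linear_combination e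

theorem mem_center_iff {g : G} : g ∈ Subgroup.center G ↔ D.ψ g = 0 := by
  rw [Subgroup.mem_center_iff]
  constructor
  · intro h
    have h1 := (D.commute_iff g (D.a ^ 1 * D.b ^ 0)).1 (h _).symm
    have h2 := (D.commute_iff g (D.a ^ 0 * D.b ^ 1)).1 (h _).symm
    rw [D.ψ_apply] at h1 h2
    simp [det, E, geo] at h1 h2
    refine Prod.ext ?_ h1
    exact D.isUnit_u.mul_left_eq_zero.1 h2
  · intro h k
    exact ((D.commute_iff g k).2 (by rw [h]; simp [det])).symm.eq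

theorem ψ_eq_iff {g h : G} : D.ψ g = D.ψ h ↔ h⁻¹ * g ∈ Subgroup.center G := by
  rw [D.mem_center_iff]
  have e := D.ψ_mul h (h⁻¹ * g)
  rw [mul_inv_cancel_left] at e
  rw [e, add_eq_left, (D.isUnit_χ h).smul_eq_zero]

theorem index_center (hp2 : p ≠ 2) : (Subgroup.center G).index = D.q ^ 2 := by
  haveI : NeZero D.q := ⟨pow_ne_zero _ hp.out.ne_zero⟩
  let f : G ⧸ Subgroup.center G → ZMod D.q × ZMod D.q :=
    Quotient.lift D.ψ fun x y h => ((D.ψ_eq_iff).2 (QuotientGroup.leftRel_apply.1 h)).symm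
  have hf : Function.Bijective f := by
    constructor
    · intro x y h
      induction x using QuotientGroup.induction_on with | H x =>
      induction y using QuotientGroup.induction_on with | H y =>
      exact QuotientGroup.eq.2 (D.ψ_eq_iff.1 (show D.ψ y = D.ψ x from h.symm))
    · intro v
      obtain ⟨g, hg⟩ := D.ψ_surjective hp2 v
      exact ⟨(g : G ⧸ Subgroup.center G), hg⟩
  rw [Subgroup.index, Nat.card_eq_of_bijective f hf, Nat.card_prod, Nat.card_zmod, sq]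

theorem card_eq (hp2 : p ≠ 2) : Nat.card G = D.q ^ 2 * Nat.card (Subgroup.center G) := by
  rw [← (Subgroup.center G).index_mul_card, D.index_center hp2]

theorem commutator_eq : commutator G = Subgroup.zpowers D.c := by
  refine le_antisymm ?_ (Subgroup.zpowers_le.2 ?_)
  · rw [commutator_eq_closure, Subgroup.closure_le]
    rintro _ ⟨g, h, rfl⟩
    obtain ⟨i, j, rfl⟩ := D.gen g
    obtain ⟨k, l, rfl⟩ := D.gen h
    rw [commutatorElement_def, mul_assoc, ← mul_inv_rev, D.mul_form', D.mul_form', add_comm k i, add_comm l j,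
      mul_inv_rev, mul_assoc, mul_inv_cancel_left]
    exact mul_mem (pow_mem (Subgroup.mem_zpowers _) _) (inv_mem (pow_mem (Subgroup.mem_zpowers _) _))
  · have h1 : D.c ^ D.u ∈ commutator G := by
      have h2 := Subgroup.commutator_mem_commutator (Subgroup.mem_top D.b) (Subgroup.mem_top D.a)
      rw [commutatorElement_def, D.conj, add_comm, pow_succ, mul_inv_cancel_right, mul_inv_cancel_right, pow_mul] at h2
      exact h2
    have hco : Nat.Coprime (orderOf D.c) D.u := by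
      rw [c, D.hord]; exact Nat.Coprime.pow_left _ ((hp.out.coprime_iff_not_dvd).2 D.hu)
    obtain ⟨t, ht⟩ := exists_pow_eq_self_of_coprime hco.symm
    rw [← ht]; exact pow_mem h1 t

theorem card_commutator : Nat.card (commutator G) = D.q := by
  rw [D.commutator_eq, Nat.card_zpowers, c, D.hord]

theorem index_commutator (hp2 : p ≠ 2) : (commutator G).index = D.q * Nat.card (Subgroup.center G) := by
  refine Nat.eq_of_mul_eq_mul_left (pow_pos hp.out.pos D.n) ?_
  have h := (commutator G).card_mul_index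
  rw [D.card_commutator, D.card_eq hp2] at h
  show D.q * (commutator G).index = _
  rw [h]; ring

/-- The preimage of an additive subgroup. -/
def pre (M : AddSubgroup (ZMod D.q × ZMod D.q)) : Subgroup G where
  carrier := {g | D.ψ g ∈ M}
  one_mem' := show D.ψ 1 ∈ M by rw [D.ψ_one]; exact M.zero_mem
  mul_mem' := fun {g h} hg hh => show D.ψ (g * h) ∈ M by
    haveI : NeZero D.q := ⟨pow_ne_zero _ hp.out.ne_zero⟩
    rw [D.ψ_mul, ← ZMod.natCast_zmod_val (D.χ g), Nat.cast_smul_eq_nsmul]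
    exact M.add_mem hg (M.nsmul_mem hh _)
  inv_mem' := fun {g} hg => show D.ψ g⁻¹ ∈ M by
    haveI : NeZero D.q := ⟨pow_ne_zero _ hp.out.ne_zero⟩
    obtain ⟨w, hw⟩ := (D.isUnit_χ g).exists_left_inv
    have h := congrArg (fun v => w • v) (D.ψ_inv g)
    simp only [smul_smul, hw, one_smul] at h
    rw [h, ← ZMod.natCast_zmod_val w, Nat.cast_smul_eq_nsmul]
    exact M.nsmul_mem (M.neg_mem hg) _

theorem mem_pre {M : AddSubgroup (ZMod D.q × ZMod D.q)} {g : G} : g ∈ D.pre M ↔ D.ψ g ∈ M := Iff.rfl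

theorem center_le_pre (M : AddSubgroup (ZMod D.q × ZMod D.q)) : Subgroup.center G ≤ D.pre M := fun g hg => by
  rw [D.mem_pre, D.mem_center_iff.1 hg]; exact M.zero_mem

/-- The image of a subgroup, which is an additive subgroup. -/
def img (hp2 : p ≠ 2) (H : Subgroup G) : AddSubgroup (ZMod D.q × ZMod D.q) where
  carrier := D.ψ '' H
  zero_mem' := ⟨1, H.one_mem, D.ψ_one⟩
  add_mem' := by
    rintro _ _ ⟨g, hg, rfl⟩ ⟨h, hh, rfl⟩
    obtain ⟨w, hw⟩ := (D.isUnit_χ g).exists_left_inv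
    obtain ⟨x, hx, hxe⟩ := D.χ_eq h
    obtain ⟨k, hk⟩ := geo_surjective hp2 hx D.n w
    refine ⟨g * h ^ k, H.mul_mem hg (H.pow_mem hh k), ?_⟩
    rw [D.ψ_mul, D.ψ_pow, smul_smul, hxe, hk, mul_comm, hw, one_smul]
  neg_mem' := by
    rintro _ ⟨h, hh, rfl⟩
    obtain ⟨x, hx, hxe⟩ := D.χ_eq h
    obtain ⟨k, hk⟩ := geo_surjective hp2 hx D.n (-1)
    refine ⟨h ^ k, H.pow_mem hh k, ?_⟩
    rw [D.ψ_pow, hxe, hk, neg_smul, one_smul]

theorem mem_img {hp2 : p ≠ 2} {H : Subgroup G} {v : ZMod D.q × ZMod D.q} :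
    v ∈ D.img hp2 H ↔ ∃ g ∈ H, D.ψ g = v := Iff.rfl

theorem img_pre (hp2 : p ≠ 2) (M : AddSubgroup (ZMod D.q × ZMod D.q)) : D.img hp2 (D.pre M) = M := by
  ext v
  refine ⟨fun ⟨g, hg, e⟩ => e ▸ hg, fun hv => ?_⟩
  obtain ⟨g, rfl⟩ := D.ψ_surjective hp2 v
  exact ⟨g, hv, rfl⟩

theorem le_pre_img (hp2 : p ≠ 2) (H : Subgroup G) : H ≤ D.pre (D.img hp2 H) := fun g hg => ⟨g, hg, rfl⟩

theorem pre_img (hp2 : p ≠ 2) {H : Subgroup G} (hH : Subgroup.center G ≤ H) : D.pre (D.img hp2 H) = H := by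
  refine le_antisymm ?_ (D.le_pre_img hp2 H)
  rintro g ⟨h, hh, e⟩
  have := H.mul_mem hh (hH (D.ψ_eq_iff.1 e.symm))
  rwa [mul_inv_cancel_left] at this

theorem card_img_mul (hp2 : p ≠ 2) (H : Subgroup G) :
    Nat.card H = Nat.card (D.img hp2 H) * Nat.card (H ⊓ Subgroup.center G : Subgroup G) := by
  let f : H ⧸ (Subgroup.center G).subgroupOf H → D.img hp2 H :=
    Quotient.lift (fun g : H => (⟨D.ψ g, g, g.2, rfl⟩ : D.img hp2 H)) fun x y h => Subtype.ext ((D.ψ_eq_iff).2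
      (Subgroup.mem_subgroupOf.1 (QuotientGroup.leftRel_apply.1 h))).symm
  have hf : Function.Bijective f := by
    constructor
    · intro x y h
      induction x using QuotientGroup.induction_on with | H x =>
      induction y using QuotientGroup.induction_on with | H y =>
      refine QuotientGroup.eq.2 (Subgroup.mem_subgroupOf.2 ?_)
      exact D.ψ_eq_iff.1 (congrArg Subtype.val h).symm
    · rintro ⟨_, g, hg, rfl⟩
      exact ⟨((⟨g, hg⟩ : H) : H ⧸ (Subgroup.center G).subgroupOf H), rfl⟩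
  rw [Subgroup.card_eq_card_quotient_mul_card_subgroup ((Subgroup.center G).subgroupOf H),
    Nat.card_eq_of_bijective f hf]
  refine congrArg _ (Nat.card_congr ⟨fun x => ⟨x.1.1, x.1.2, Subgroup.mem_subgroupOf.1 x.2⟩,
    fun x => ⟨⟨x.1, x.2.1⟩, Subgroup.mem_subgroupOf.2 x.2.2⟩, fun x => rfl, fun x => rfl⟩)

theorem card_pre (hp2 : p ≠ 2) (M : AddSubgroup (ZMod D.q × ZMod D.q)) :
    Nat.card (D.pre M) = Nat.card M * Nat.card (Subgroup.center G) := by
  rw [D.card_img_mul hp2, D.img_pre hp2, inf_eq_right.2 (D.center_le_pre M)]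

theorem centralizer_eq (S : Set G) : Subgroup.centralizer S = D.pre (perp (D.ψ '' S)) := by
  ext g
  rw [Subgroup.mem_centralizer_iff, D.mem_pre, mem_perp, Set.forall_mem_image]
  exact forall₂_congr fun h _ => D.commute_iff h g

theorem centralizer_eq_img (hp2 : p ≠ 2) (H : Subgroup G) :
    Subgroup.centralizer (H : Set G) = D.pre (perp (D.img hp2 H : Set (ZMod D.q × ZMod D.q))) :=
  D.centralizer_eq _

theorem card_centralizer_singleton (hp2 : p ≠ 2) (g : G) :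
    Nat.card (Subgroup.centralizer ({g} : Set G)) =
      Nat.card (perp ({D.ψ g} : Set (ZMod D.q × ZMod D.q))) * Nat.card (Subgroup.center G) := by
  rw [D.centralizer_eq, Set.image_singleton, D.card_pre hp2]

theorem index_centralizer [Finite G] (hp2 : p ≠ 2) (g : G) :
    (Subgroup.centralizer ({g} : Set G)).index = addOrderOf (D.ψ g) := by
  refine Nat.eq_of_mul_eq_mul_right (Nat.card_pos (α := Subgroup.centralizer ({g} : Set G))) ?_
  rw [Subgroup.index_mul_card, D.card_eq hp2, D.card_centralizer_singleton hp2, ← mul_assoc]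
  congr 1
  exact (card_mul_card_perp_singleton (D.ψ g)).symm

theorem abelian_iff_isotropic (hp2 : p ≠ 2) (H : Subgroup G) :
    IsMulCommutative H ↔ D.img hp2 H ≤ perp (D.img hp2 H : Set (ZMod D.q × ZMod D.q)) := by
  constructor
  · rintro h _ ⟨g, hg, rfl⟩ _ ⟨k, hk, rfl⟩
    exact (D.commute_iff k g).1 (congrArg Subtype.val (h.is_comm.comm ⟨k, hk⟩ ⟨g, hg⟩))
  · intro h
    refine ⟨⟨fun x y => Subtype.ext ?_⟩⟩
    exact ((D.commute_iff x.1 y.1).2 (h ⟨_, y.2, rfl⟩ _ ⟨_, x.2, rfl⟩)).eq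

theorem pow_q_mem_center (hp2 : p ≠ 2) (g : G) : g ^ D.q ∈ Subgroup.center G := by
  obtain ⟨x, hx, hxe⟩ := D.χ_eq g
  rw [D.mem_center_iff, D.ψ_pow, hxe, (geo_eq_zero_iff hp2 hx).2 (ZMod.natCast_self _), zero_smul]

theorem dvd_of_killed (hp2 : p ≠ 2) {s i j : ℕ} (hs : s ≤ D.n)
    (h : p ^ (D.n - s) • D.ψ (D.a ^ i * D.b ^ j) = 0) : p ^ s ∣ i ∧ p ^ s ∣ j := by
  have key : ∀ x : ℕ, p ^ (D.n - s) • (x : ZMod D.q) = 0 → p ^ s ∣ x := by
    intro x hx
    rw [nsmul_eq_mul, ← Nat.cast_mul, ZMod.natCast_eq_zero_iff] at hx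
    refine Nat.dvd_of_mul_dvd_mul_left (pow_pos hp.out.pos (D.n - s)) ?_
    rwa [← pow_add, Nat.sub_add_cancel hs]
  rw [D.ψ_apply, Prod.ext_iff] at h
  refine ⟨key i h.1, ?_⟩
  have h2 := key _ h.2
  rw [E] at h2
  exact (pow_dvd_geo_nat_iff hp2 (by simpa using D.sub_one_dvd 1) s j).1
    ((Nat.Coprime.pow_left s ((hp.out.coprime_iff_not_dvd).2 D.hu)).dvd_of_dvd_mul_left h2)

theorem killed_pow (hp2 : p ≠ 2) {s : ℕ} (hs : s ≤ D.n) (g : G) :
    p ^ (D.n - s) • D.ψ (g ^ p ^ s) = 0 := by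
  obtain ⟨x, hx, hxe⟩ := D.χ_eq g
  obtain ⟨t, ht⟩ := (pow_dvd_geo_nat_iff hp2 hx s (p ^ s)).2 dvd_rfl
  rw [D.ψ_pow, hxe, ← geo_cast, ht, Nat.cast_smul_eq_nsmul, smul_smul, ← mul_assoc, ← pow_add,
    Nat.sub_add_cancel hs, mul_smul, ← Nat.cast_smul_eq_nsmul (ZMod D.q) (p ^ D.n), ZMod.natCast_self, zero_smul]

theorem closure_pow_eq (hp2 : p ≠ 2) {s : ℕ} (hs : s ≤ D.n) :
    Subgroup.closure {x : G | ∃ y : G, y ^ p ^ s = x} = D.pre (killed (p ^ (D.n - s))) := by
  refine le_antisymm ((Subgroup.closure_le _).2 ?_) fun g hg => ?_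
  · rintro _ ⟨y, rfl⟩
    exact D.killed_pow hp2 hs y
  · obtain ⟨i, j, rfl⟩ := D.gen g
    obtain ⟨⟨i', rfl⟩, ⟨j', rfl⟩⟩ := D.dvd_of_killed hp2 hs hg
    exact mul_mem (Subgroup.subset_closure ⟨D.a ^ i', by rw [← pow_mul, mul_comm]⟩)
      (Subgroup.subset_closure ⟨D.b ^ j', by rw [← pow_mul, mul_comm]⟩)

theorem pre_killed_one : D.pre (killed 1) = Subgroup.center G := by
  ext g
  rw [D.mem_pre, mem_killed, one_smul, D.mem_center_iff]

include D hp in
theorem center_le_of_nonabelian [Finite G] (hG : IsPGroup p G) (hp2 : p ≠ 2) {L : Subgroup G}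
    (hL : ¬ IsMulCommutative L) : Subgroup.center G ≤ L := by
  haveI : NeZero D.q := ⟨pow_ne_zero _ hp.out.ne_zero⟩
  rcases dichotomy (D.img hp2 L) with ⟨h, -⟩ | ⟨-, hlt, -, hall⟩
  · exact absurd ((D.abelian_iff_isotropic hp2 L).2 h) hL
  have hn : 1 ≤ D.n := by
    by_contra h
    have h0 : D.n = 0 := by omega
    have h1 := Nat.card_le_card_of_injective (Subtype.val : D.img hp2 L → _) Subtype.val_injective
    rw [Nat.card_prod, Nat.card_zmod] at h1
    simp only [q, h0, pow_zero] at h1 hlt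
    omega
  -- every central element is a product of an element of `L` and a `p`-th power of a central element
  have hq : ∀ y : G, ∃ l w : G, l ∈ L ∧ l ∈ Subgroup.center G ∧ w ∈ Subgroup.center G ∧ y ^ D.q = l * w ^ p := by
    intro y
    obtain ⟨x, hx, hxe⟩ := D.χ_eq y
    obtain ⟨t, ht⟩ := (pow_dvd_geo_nat_iff hp2 hx (D.n - 1) (p ^ (D.n - 1))).2 dvd_rfl
    have hk : p ^ (D.n - (D.n - 1)) • D.ψ (y ^ p ^ (D.n - 1)) = 0 := D.killed_pow hp2 (Nat.sub_le _ _) y
    rw [killed_iff_multiple (Nat.sub_le _ _)] at hk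
    obtain ⟨l0, hl0, hl0e⟩ := hall _ hk.1 hk.2
    have hw : l0⁻¹ * y ^ p ^ (D.n - 1) ∈ Subgroup.center G := D.ψ_eq_iff.1 hl0e.symm
    have he : y ^ D.q = l0 ^ p * (l0⁻¹ * y ^ p ^ (D.n - 1)) ^ p := by
      rw [← (show Commute l0 (l0⁻¹ * y ^ p ^ (D.n - 1)) from (Subgroup.mem_center_iff.1 hw l0)).mul_pow,
        mul_inv_cancel_left, ← pow_mul, q, ← pow_succ, Nat.sub_add_cancel hn]
    refine ⟨l0 ^ p, _, L.pow_mem hl0 p, ?_, hw, he⟩
    have := mul_mem (D.pow_q_mem_center hp2 y) (inv_mem (pow_mem hw p))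
    rwa [he, mul_inv_cancel_right] at this
  have hone : ∀ z ∈ Subgroup.center G,
      ∃ l w : G, l ∈ L ∧ l ∈ Subgroup.center G ∧ w ∈ Subgroup.center G ∧ z = l * w ^ p := by
    intro z hz
    rw [← D.pre_killed_one] at hz
    have hz' : z ∈ Subgroup.closure {x : G | ∃ y : G, y ^ p ^ D.n = x} := by
      rw [D.closure_pow_eq hp2 le_rfl, Nat.sub_self, pow_zero]; exact hz
    induction hz' using Subgroup.closure_induction with
    | mem x hx => obtain ⟨y, rfl⟩ := hx; exact hq y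
    | one => exact ⟨1, 1, one_mem _, one_mem _, one_mem _, by simp⟩
    | mul x y hx hy ihx ihy =>
      have hin : ∀ x, x ∈ Subgroup.closure {x : G | ∃ y : G, y ^ p ^ D.n = x} → x ∈ D.pre (killed 1) := by
        intro x hx; rw [D.closure_pow_eq hp2 le_rfl, Nat.sub_self, pow_zero] at hx; exact hx
      obtain ⟨l, w, h1, h2, h3, rfl⟩ := ihx (hin _ hx)
      obtain ⟨l', w', h1', h2', h3', rfl⟩ := ihy (hin _ hy)
      refine ⟨l * l', w * w', mul_mem h1 h1', mul_mem h2 h2', mul_mem h3 h3', ?_⟩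
      rw [(show Commute w w' from Subgroup.mem_center_iff.1 h3' w).mul_pow]
      exact Commute.mul_mul_mul_comm (show Commute (w ^ p) l' from Subgroup.mem_center_iff.1 h2' _) l (w' ^ p)
    | inv x hx ihx =>
      have hin : x ∈ D.pre (killed 1) := by
        rw [D.closure_pow_eq hp2 le_rfl, Nat.sub_self, pow_zero] at hx; exact hx
      obtain ⟨l, w, h1, h2, h3, rfl⟩ := ihx hin
      refine ⟨l⁻¹, w⁻¹, inv_mem h1, inv_mem h2, inv_mem h3, ?_⟩
      rw [mul_inv_rev, inv_pow]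
      exact (Subgroup.mem_center_iff.1 (inv_mem (pow_mem h3 p)) l⁻¹).symm
  have hk : ∀ k : ℕ, ∀ z ∈ Subgroup.center G, ∃ l w : G, l ∈ L ∧ w ∈ Subgroup.center G ∧ z = l * w ^ p ^ k := by
    intro k
    induction k with
    | zero => exact fun z hz => ⟨1, z, one_mem _, hz, by simp⟩
    | succ k ih =>
      intro z hz
      obtain ⟨l, w, hl, hw, rfl⟩ := ih z hz
      obtain ⟨l', w', hl', hl'c, hw', rfl⟩ := hone w hw
      refine ⟨l * l' ^ p ^ k, w', mul_mem hl (pow_mem hl' _), hw', ?_⟩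
      rw [(show Commute l' (w' ^ p) from (Subgroup.mem_center_iff.1 (pow_mem hw' p) l')).mul_pow, ← pow_mul,
        ← pow_succ', mul_assoc]
  intro z hz
  obtain ⟨e, he⟩ := hG.exists_card_eq
  obtain ⟨l, w, hl, -, rfl⟩ := hk e z hz
  rwa [← he, pow_card_eq_one', mul_one]

theorem abelian_iff_card_le [Finite G] (hG : IsPGroup p G) (hp2 : p ≠ 2) (L : Subgroup G) :
    IsMulCommutative L ↔ Nat.card L ≤ D.q * Nat.card (Subgroup.center G) := by
  constructor
  · intro h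
    rw [D.card_img_mul hp2 L]
    refine Nat.mul_le_mul ?_ (Subgroup.card_le_of_le inf_le_right)
    rcases dichotomy (D.img hp2 L) with ⟨-, h'⟩ | ⟨h', -⟩
    · exact h'
    · exact absurd ((D.abelian_iff_isotropic hp2 L).1 h) h'
  · intro h
    by_contra hL
    rcases dichotomy (D.img hp2 L) with ⟨h', -⟩ | ⟨-, hlt, -⟩
    · exact hL ((D.abelian_iff_isotropic hp2 L).2 h')
    · rw [D.card_img_mul hp2 L, inf_eq_right.2 (D.center_le_of_nonabelian hG hp2 hL)] at h
      exact absurd h (Nat.not_le.2 (Nat.mul_lt_mul_of_pos_right hlt Nat.card_pos))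

theorem maximal_abelian_iff [Finite G] (hG : IsPGroup p G) (hp2 : p ≠ 2) (L : Subgroup G) :
    Maximal (fun K : Subgroup G => IsMulCommutative K) L ↔ Nat.card L = D.q * Nat.card (Subgroup.center G) := by
  haveI : NeZero D.q := ⟨pow_ne_zero _ hp.out.ne_zero⟩
  constructor
  · rintro ⟨hab, hmax⟩
    have hiso := (D.abelian_iff_isotropic hp2 L).1 hab
    have hpre : D.pre (D.img hp2 L) = L :=
      le_antisymm (hmax ((D.abelian_iff_isotropic hp2 _).2 (by rw [D.img_pre hp2]; exact hiso)) (D.le_pre_img hp2 L))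
        (D.le_pre_img hp2 L)
    rw [← hpre, D.card_pre hp2]
    congr 1
    refine le_antisymm ?_ (Nat.le_of_not_lt fun hlt => ?_)
    · rcases dichotomy (D.img hp2 L) with ⟨-, h⟩ | ⟨h, -⟩
      · exact h
      · exact absurd hiso h
    have hnle : ¬ perp (D.img hp2 L : Set (ZMod D.q × ZMod D.q)) ≤ D.img hp2 L := by
      intro h
      have h1 := card_mul_card_perp (D.img hp2 L)
      have h2 : Nat.card (perp (D.img hp2 L : Set (ZMod D.q × ZMod D.q))) ≤ Nat.card (D.img hp2 L) :=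
        Nat.card_mono (Set.toFinite _) h
      nlinarith [Nat.mul_le_mul_left (Nat.card (D.img hp2 L)) h2, Nat.mul_self_lt_mul_self hlt]
    obtain ⟨v, hv, hvn⟩ := SetLike.not_le_iff_exists.1 hnle
    let S : Set (ZMod D.q × ZMod D.q) := insert v (D.img hp2 L : Set (ZMod D.q × ZMod D.q))
    have hS : S ⊆ perp S := by
      rintro x (rfl | hx) y (rfl | hy)
      · exact det_self _
      · exact hv y hy
      · rw [det_swap, hv x hx, neg_zero]
      · exact hiso hx y hy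
    have hPP : perp (perp S : Set (ZMod D.q × ZMod D.q)) ≤
        perp (perp (perp S : Set (ZMod D.q × ZMod D.q)) : Set (ZMod D.q × ZMod D.q)) :=
      (perp_antitone hS).trans (subset_perp_perp _)
    have hbig := hmax ((D.abelian_iff_isotropic hp2 (D.pre (perp (perp S : Set (ZMod D.q × ZMod D.q))))).2
      (by rw [D.img_pre hp2]; exact hPP))
      (hpre.symm.le.trans fun g hg => subset_perp_perp S (Set.mem_insert_of_mem _ hg))
    obtain ⟨g, rfl⟩ := D.ψ_surjective hp2 v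
    exact hvn ⟨g, hbig (subset_perp_perp S (Set.mem_insert _ _)), rfl⟩
  · intro h
    refine ⟨(D.abelian_iff_card_le hG hp2 L).2 h.le, fun K hK hLK => ?_⟩
    exact (Subgroup.eq_of_le_of_card_ge hLK (h ▸ (D.abelian_iff_card_le hG hp2 K).1 hK)).ge

end Data

end Cfsg.Agent.MetacyclicOdd
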