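import Mathlib
import Cfsg.Agent.Lib.MetacyclicOdd
import Cfsg.Agent.Lib.PGroupsBasic

/-!
A non-abelian metacyclic `p`-group, `p` odd, modulo its Frattini subgroup: the commutator form,
and the vector fixed modulo Frattini by every automorphism of order prime to `p`.
-/

set_option autoImplicit false

open scoped commutatorElement

namespace Cfsg.Agent.MetacyclicModP

open Cfsg.Agent.MetacyclicArith Cfsg.Agent.MetacyclicOdd

variable {p : ℕ} [hp : Fact p.Prime] {G : Type*} [Group G] (D : Data p G) (hn : D.n ≠ 0)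

/-- Reduction modulo `p`. -/
def red : ZMod D.q →+* ZMod p := ZMod.castHom (dvd_pow_self p hn) (ZMod p)

/-- The map `G → (ZMod p)²` with kernel the Frattini subgroup. -/
noncomputable def piv (g : G) : ZMod p × ZMod p := (red D hn (D.ψ g).1, red D hn (D.ψ g).2)

theorem red_natCast (k : ℕ) : red D hn (k : ZMod D.q) = (k : ZMod p) := map_natCast _ _

theorem red_chi (g : G) : red D hn (D.χ g) = 1 := by
  rw [Data.χ, map_add, map_one, map_mul, red_natCast]
  have : ((p ^ D.μ : ℕ) : ZMod p) = 0 :=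
    (ZMod.natCast_eq_zero_iff _ _).2 (dvd_pow_self p (by have := D.hμ; omega))
  rw [this, zero_mul, add_zero]

theorem piv_mul (g h : G) : piv D hn (g * h) = piv D hn g + piv D hn h := by
  simp only [piv, D.ψ_mul, Prod.fst_add, Prod.snd_add, Prod.smul_fst, Prod.smul_snd, smul_eq_mul,
    map_add, map_mul, red_chi, one_mul, Prod.mk_add_mk]

theorem piv_one : piv D hn 1 = 0 := by
  have := piv_mul D hn 1 1
  rw [one_mul] at this
  exact left_eq_add.1 this

theorem piv_inv (g : G) : piv D hn g⁻¹ = - piv D hn g := by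
  have := piv_mul D hn g g⁻¹
  rw [mul_inv_cancel, piv_one] at this
  exact eq_neg_of_add_eq_zero_right this.symm

theorem piv_pow (g : G) (k : ℕ) : piv D hn (g ^ k) = (k : ZMod p) • piv D hn g := by
  induction k with
  | zero => simp [piv_one]
  | succ k ih => rw [pow_succ, piv_mul, ih, Nat.cast_succ, add_smul, one_smul]

theorem piv_apply (i j : ℕ) :
    piv D hn (D.a ^ i * D.b ^ j) = ((i : ZMod p), (D.u : ZMod p) * (j : ZMod p)) := by
  have hr : ((D.r : ℕ) : ZMod p) = 1 := by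
    rw [Data.r, Nat.cast_add, Nat.cast_one, Nat.cast_mul,
      (ZMod.natCast_eq_zero_iff _ _).2 (dvd_pow_self p (by have := D.hμ; omega)),
      zero_mul, add_zero]
  rw [piv, D.ψ_apply, red_natCast, red_natCast, Data.E, Nat.cast_mul, geo_cast, hr, geo_one]

theorem u_ne : (D.u : ZMod p) ≠ 0 := fun h => D.hu ((ZMod.natCast_eq_zero_iff _ _).1 h)

theorem piv_a : piv D hn D.a = (1, 0) := by
  have := piv_apply D hn 1 0
  simpa using this

theorem piv_b : piv D hn D.b = (0, (D.u : ZMod p)) := by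
  have := piv_apply D hn 0 1
  simpa using this

theorem piv_surjective (hp2 : p ≠ 2) : Function.Surjective (piv D hn) := by
  rintro ⟨x, y⟩
  obtain ⟨x', rfl⟩ := ZMod.castHom_surjective (dvd_pow_self p hn) x
  obtain ⟨y', rfl⟩ := ZMod.castHom_surjective (dvd_pow_self p hn) y
  obtain ⟨g, hg⟩ := D.ψ_surjective hp2 (x', y')
  exact ⟨g, by rw [piv, hg]; rfl⟩

include hn in
theorem c_zpow_cast {e e' : ℤ} (h : D.c ^ e = D.c ^ e') :
    (e : ZMod p) = (e' : ZMod p) := by
  rw [zpow_eq_zpow_iff_modEq, Data.c, D.hord] at h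
  refine (ZMod.intCast_eq_intCast_iff _ _ _).2 (h.of_dvd ?_)
  exact Int.natCast_dvd_natCast.2 (dvd_pow_self p hn)

theorem comm_exp (g h : G) :
    ∃ e : ℤ, ⁅g, h⁆ = D.c ^ e ∧ (e : ZMod p) = det (piv D hn g) (piv D hn h) := by
  obtain ⟨i, j, rfl⟩ := D.gen g
  obtain ⟨k, l, rfl⟩ := D.gen h
  refine ⟨(k * D.E j : ℕ) - ((i * D.E l : ℕ) : ℤ), ?_, ?_⟩
  · rw [commutatorElement_def, mul_assoc, ← mul_inv_rev, D.mul_form', D.mul_form', add_comm k i,
      add_comm l j, mul_inv_rev, mul_assoc, mul_inv_cancel_left, zpow_sub, zpow_natCast,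
      zpow_natCast]
  · rw [piv, piv, D.ψ_apply, D.ψ_apply, det, red_natCast, red_natCast, red_natCast, red_natCast]
    push_cast; ring

theorem piv_eq_zero (hp2 : p ≠ 2) {g : G}
    (h : ∀ k : G, det (piv D hn g) (piv D hn k) = 0) : piv D hn g = 0 := by
  obtain ⟨k1, hk1⟩ := piv_surjective D hn hp2 (1, 0)
  obtain ⟨k2, hk2⟩ := piv_surjective D hn hp2 (0, 1)
  have h1 := h k1
  have h2 := h k2
  rw [hk1] at h1
  rw [hk2] at h2
  simp [det] at h1 h2
  exact Prod.ext h2 h1

theorem det_smul_left (v w : ZMod p × ZMod p) (a : ZMod p) : det (a • v) w = a * det v w := by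
  simp [det]; ring

theorem pow_form (i j k : ℕ) :
    (D.a ^ i * D.b ^ j) ^ k = D.a ^ (i * geo (D.r ^ j) k) * D.b ^ (j * k) := by
  induction k with
  | zero => simp [geo]
  | succ k ih =>
    rw [pow_succ', ih, D.mul_form, geo_succ', Nat.mul_succ]
    congr 2
    · ring
    · ring

/-- An element fixed modulo the kernel, or a line whose quotient is fixed. -/
def FixedVector : Prop :=
  (∃ w : ZMod p × ZMod p, w ≠ 0 ∧
      ∀ φ : G ≃* G, ∀ h : G, piv D hn h = w → piv D hn (φ h) = w) ∨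
    ∀ φ : G ≃* G, ∀ g : G, (piv D hn (φ g)).2 = (piv D hn g).2

variable [Finite G]

theorem piv_zero_mem_frattini (hG : IsPGroup p G) {g : G} (hg : piv D hn g = 0) :
    g ∈ frattini G := by
  obtain ⟨i, j, rfl⟩ := D.gen g
  rw [piv_apply, Prod.mk_eq_zero, mul_eq_zero, ZMod.natCast_eq_zero_iff] at hg
  obtain ⟨i', rfl⟩ := hg.1
  obtain ⟨j', rfl⟩ : p ∣ j := by
    rcases hg.2 with h | h
    · exact absurd h (u_ne D)
    · exact (ZMod.natCast_eq_zero_iff _ _).1 h
  refine mul_mem ?_ ?_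
  · rw [pow_mul]
    exact pow_mem (PGroupsBasic.pow_mem_frattini hG _) _
  · rw [pow_mul]
    exact pow_mem (PGroupsBasic.pow_mem_frattini hG _) _

theorem eq_top_of_piv (hG : IsPGroup p G) (H : Subgroup G)
    (h : ∀ g : G, ∃ k ∈ H, piv D hn k = piv D hn g) : H = ⊤ := by
  refine frattini_nongenerating (top_le_iff.1 fun g _ => ?_)
  obtain ⟨k, hk, hkg⟩ := h g
  have h1 : k⁻¹ * g ∈ frattini G :=
    piv_zero_mem_frattini D hn hG (by rw [piv_mul, piv_inv, hkg, neg_add_cancel])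
  have := mul_mem (Subgroup.mem_sup_left (T := frattini G) hk)
    (Subgroup.mem_sup_right (S := H) h1)
  rwa [mul_inv_cancel_left] at this

omit [Finite G] in
theorem exists_scalar (φ : G ≃* G) : ∃ l : ℤ, φ D.c = D.c ^ l := by
  have h1 : D.c ∈ commutator G := by rw [D.commutator_eq]; exact Subgroup.mem_zpowers _
  have h2 : φ D.c ∈ (commutator G).map φ.toMonoidHom := ⟨_, h1, rfl⟩
  have h3 := Subgroup.characteristic_iff_map_le.1 (inferInstance : (commutator G).Characteristic) φ h2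
  rw [D.commutator_eq] at h3
  obtain ⟨l, hl⟩ := Subgroup.mem_zpowers_iff.1 h3
  exact ⟨l, hl.symm⟩

omit [Finite G] in
theorem det_map (φ : G ≃* G) {l : ℤ} (hl : φ D.c = D.c ^ l) (g h : G) :
    det (piv D hn (φ g)) (piv D hn (φ h)) = (l : ZMod p) * det (piv D hn g) (piv D hn h) := by
  obtain ⟨e, he, he'⟩ := comm_exp D hn g h
  obtain ⟨f, hf, hf'⟩ := comm_exp D hn (φ g) (φ h)
  have : D.c ^ f = D.c ^ (l * e) := by
    rw [← hf, ← map_commutatorElement, he, map_zpow, hl, zpow_mul]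
  rw [← hf', ← he', c_zpow_cast D hn this, Int.cast_mul]

omit [Finite G] in
include hn in
theorem scalar_ne_zero (hp2 : p ≠ 2) (φ : G ≃* G) {l : ℤ} (hl : φ D.c = D.c ^ l) :
    (l : ZMod p) ≠ 0 := by
  intro h0
  obtain ⟨g, hg⟩ := piv_surjective D hn hp2 (0, 1)
  obtain ⟨h, hh⟩ := piv_surjective D hn hp2 (1, 0)
  have := det_map D hn φ hl (φ.symm g) (φ.symm h)
  rw [φ.apply_symm_apply, φ.apply_symm_apply, hg, hh, h0, zero_mul] at this
  simp [det] at this

omit [Finite G] in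
theorem piv_map_zero (hp2 : p ≠ 2) (φ : G ≃* G) {g : G} (hg : piv D hn g = 0) :
    piv D hn (φ g) = 0 := by
  refine piv_eq_zero D hn hp2 fun k => ?_
  obtain ⟨l, hl⟩ := exists_scalar D φ
  obtain ⟨k, rfl⟩ := φ.surjective k
  rw [det_map D hn φ hl, hg]
  simp [det]

theorem fixedVector (hp2 : p ≠ 2) (hG : IsPGroup p G) : FixedVector D hn := by
  have hN : (commutator G).Normal := inferInstance
  set f := QuotientGroup.mk' (commutator G) with hf
  have hcomm : ∀ x y : G ⧸ commutator G, x * y = y * x := fun x y => mul_comm' (M := Abelianization G) x y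
  obtain ⟨ν, hν⟩ := IsPGroup.iff_orderOf.1 (hG.to_quotient (commutator G)) (f D.b)
  have hbν : D.b ^ p ^ ν ∈ commutator G := by
    refine (QuotientGroup.eq_one_iff _).1 ?_
    change f (D.b ^ p ^ ν) = 1
    rw [map_pow, ← hν, pow_orderOf_eq_one]
  rw [D.commutator_eq] at hbν
  obtain ⟨t, ht⟩ := Subgroup.mem_zpowers_iff.1 hbν
  have hgeo : ∀ j s : ℕ, ∃ w : ℤ, ((geo (D.r ^ j) (p ^ s) : ℕ) : ℤ) = (p : ℤ) ^ s * w ∧
      (w : ZMod p) = 1 := by
    intro j s
    have hx : (p : ℤ) ∣ ((D.r ^ j : ℕ) : ℤ) - 1 := D.sub_one_dvd j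
    obtain ⟨e, he⟩ := geo_pow_diff hp2 hx (x' := 1) (by simp) s
    rw [geo_one] at he
    push_cast at he
    refine ⟨1 + (((D.r ^ j : ℕ) : ℤ) - 1) * e, ?_, ?_⟩
    · rw [geo_cast]; push_cast; linear_combination he
    · rw [Int.cast_add, Int.cast_mul, Int.cast_one,
        (ZMod.intCast_zmod_eq_zero_iff_dvd _ _).2 hx, zero_mul, add_zero]
  have hapow : ∀ i j s : ℕ, D.μ ≤ s → ∀ w : ℤ,
      ((geo (D.r ^ j) (p ^ s) : ℕ) : ℤ) = (p : ℤ) ^ s * w →
      D.a ^ (i * geo (D.r ^ j) (p ^ s)) = D.c ^ ((i : ℤ) * (p : ℤ) ^ (s - D.μ) * w) := by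
    intro i j s hs w hw
    rw [Data.c, ← zpow_natCast D.a, ← zpow_natCast D.a (p ^ D.μ), ← zpow_mul, Nat.cast_mul, hw]
    congr 1
    push_cast
    rw [← Nat.add_sub_cancel' hs, pow_add]
    simp only [Nat.add_sub_cancel_left]
    ring
  set m := max D.μ ν with hm
  have hpow : ∀ i j : ℕ, ∃ e : ℤ, (D.a ^ i * D.b ^ j) ^ p ^ m = D.c ^ e ∧
      (e : ZMod p) = (i : ZMod p) * (p : ZMod p) ^ (m - D.μ) +
        (j : ZMod p) * (p : ZMod p) ^ (m - ν) * (t : ZMod p) := by
    intro i j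
    obtain ⟨w, hw, hw1⟩ := hgeo j m
    refine ⟨(i : ℤ) * (p : ℤ) ^ (m - D.μ) * w + t * ((j : ℤ) * (p : ℤ) ^ (m - ν)), ?_, ?_⟩
    · rw [pow_form, hapow i j m (le_max_left _ _) w hw, zpow_add, zpow_mul D.c t, ht]
      congr 1
      rw [← zpow_natCast, ← zpow_natCast D.b (p ^ ν), ← zpow_mul]
      congr 1
      push_cast
      rw [show (p : ℤ) ^ m = (p : ℤ) ^ ν * (p : ℤ) ^ (m - ν) by
        rw [← pow_add, Nat.add_sub_cancel' (le_max_right D.μ ν)]]
      ring
    · push_cast; rw [hw1]; ring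
  set F1 : ZMod p := (p : ZMod p) ^ (m - D.μ) with hF1
  set F2 : ZMod p := (p : ZMod p) ^ (m - ν) * (t : ZMod p) with hF2
  by_cases hF : F1 ≠ 0 ∨ F2 ≠ 0
  · left
    obtain ⟨u', hu'⟩ : ∃ u' : ZMod p, u' * (D.u : ZMod p) = 1 :=
      ⟨(D.u : ZMod p)⁻¹, inv_mul_cancel₀ (u_ne D)⟩
    refine ⟨(F2 * u', -F1), ?_, fun φ h hh => ?_⟩
    · intro h
      rw [Prod.mk_eq_zero, neg_eq_zero, mul_eq_zero] at h
      rcases hF with h1 | h1
      · exact h1 h.2
      · rcases h.1 with h2 | h2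
        · exact h1 h2
        · rw [h2, zero_mul] at hu'; exact zero_ne_one hu'
    · obtain ⟨l, hl⟩ := exists_scalar D φ
      have key : ∀ g : G, ∃ e : ℤ, g ^ p ^ m = D.c ^ e ∧
          (e : ZMod p) = det (piv D hn g) (F2 * u', -F1) := by
        intro g
        obtain ⟨i, j, rfl⟩ := D.gen g
        obtain ⟨e, he, he'⟩ := hpow i j
        refine ⟨e, he, ?_⟩
        rw [he', piv_apply, det, hF1, hF2]
        linear_combination (-((j : ZMod p) * ((p : ZMod p) ^ (m - ν) * (t : ZMod p)))) * hu'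
      have hlin : ∀ g : G, det (piv D hn g) (piv D hn (φ h)) =
          det (piv D hn g) (F2 * u', -F1) := by
        intro g
        obtain ⟨g, rfl⟩ := φ.surjective g
        obtain ⟨e, he, he'⟩ := key g
        obtain ⟨f', hf', hf''⟩ := key (φ g)
        have : D.c ^ f' = D.c ^ (l * e) := by
          rw [← hf', ← map_pow, he, map_zpow, hl, zpow_mul]
        rw [← hf'', c_zpow_cast D hn this, det_map D hn φ hl, hh, ← he', Int.cast_mul]
      obtain ⟨k1, hk1⟩ := piv_surjective D hn hp2 (1, 0)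
      obtain ⟨k2, hk2⟩ := piv_surjective D hn hp2 (0, 1)
      have e1 := hlin k1
      have e2 := hlin k2
      rw [hk1] at e1
      rw [hk2] at e2
      simp only [det] at e1 e2
      refine Prod.ext ?_ ?_
      · linear_combination e2
      · linear_combination (-1 : ZMod p) * e1
  · right
    push Not at hF
    obtain ⟨hF1', hF2'⟩ := hF
    have hμν : D.μ < ν := by
      by_contra hle
      rw [not_lt] at hle
      rw [hF1, hm, max_eq_left hle, Nat.sub_self, pow_zero] at hF1'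
      exact one_ne_zero hF1'
    have htp : (t : ZMod p) = 0 := by
      rwa [hF2, hm, max_eq_right hμν.le, Nat.sub_self, pow_zero, one_mul] at hF2'
    intro φ
    obtain ⟨l, hl⟩ := exists_scalar D φ
    obtain ⟨i, j, hij⟩ := D.gen (φ D.a)
    have hcp : (φ D.a) ^ p ^ D.μ = D.c ^ l := by rw [← map_pow]; exact hl
    have hj : p ^ ν ∣ j * p ^ D.μ := by
      rw [← hν]
      refine orderOf_dvd_of_pow_eq_one ?_
      have h1 : f ((φ D.a) ^ p ^ D.μ) = 1 := by
        rw [hcp]
        refine (QuotientGroup.eq_one_iff _).2 ?_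
        rw [D.commutator_eq]
        exact Subgroup.zpow_mem _ (Subgroup.mem_zpowers _) _
      have hac : f D.a ^ p ^ D.μ = 1 := by
        rw [← map_pow]
        refine (QuotientGroup.eq_one_iff _).2 ?_
        rw [D.commutator_eq]
        exact Subgroup.mem_zpowers _
      rw [hij, map_pow, map_mul, (show Commute (f (D.a ^ i)) (f (D.b ^ j)) from hcomm _ _).mul_pow,
        map_pow, map_pow, ← pow_mul (f D.a), mul_comm i, pow_mul, hac, one_pow, one_mul,
        ← pow_mul] at h1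
      exact h1
    obtain ⟨j', rfl⟩ : p ^ (ν - D.μ) ∣ j := by
      rw [← Nat.sub_add_cancel hμν.le, pow_add] at hj
      exact Nat.dvd_of_mul_dvd_mul_right (pow_pos hp.out.pos _) hj
    have hil : (i : ZMod p) = (l : ZMod p) := by
      obtain ⟨w, hw, hw1⟩ := hgeo (p ^ (ν - D.μ) * j') D.μ
      have h2 : D.c ^ l = D.c ^ ((i : ℤ) * w + t * (j' : ℤ)) := by
        rw [← hcp, hij, pow_form, hapow i _ _ le_rfl w hw, Nat.sub_self, pow_zero, mul_one,
          zpow_add, zpow_mul D.c t, ht, zpow_natCast, ← pow_mul]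
        congr 2
        rw [mul_right_comm, ← pow_add, Nat.sub_add_cancel hμν.le]
      rw [c_zpow_cast D hn h2]
      push_cast
      rw [hw1, htp]; ring
    have hA : piv D hn (φ D.a) = ((l : ZMod p), 0) := by
      rw [hij, piv_apply, hil, Nat.cast_mul, Nat.cast_pow, ZMod.natCast_self,
        zero_pow (Nat.sub_ne_zero_of_lt hμν)]
      simp
    have hB : (piv D hn (φ D.b)).2 = (D.u : ZMod p) := by
      have h3 := det_map D hn φ hl D.a D.b
      rw [hA, piv_a, piv_b] at h3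
      simp only [det] at h3
      refine mul_left_cancel₀ (scalar_ne_zero D hn hp2 φ hl) ?_
      linear_combination (-1 : ZMod p) * h3
    intro g
    obtain ⟨i', j', rfl⟩ := D.gen g
    rw [piv_apply, map_mul, map_pow, map_pow, piv_mul, piv_pow, piv_pow, hA]
    simp only [Prod.snd_add, Prod.smul_snd, smul_eq_mul, hB]
    ring

end Cfsg.Agent.MetacyclicModP
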