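import Mathlib
import Cfsg.Prelude.Def_OddOrderLocal
import Cfsg.Agent.Lib.MetacyclicModP
import Cfsg.Agent.Lib.OddLocalBase
import Cfsg.Agent.Lib.CoprimeAction
import Cfsg.Agent.Lib.FrobeniusFPF

/-!
A `p'`-group acting on a metacyclic `p`-group, `p` odd.
-/

set_option autoImplicit false

open scoped commutatorElement

namespace Cfsg.Agent.MetacyclicCoprimeAct

open Cfsg.Agent.MetacyclicArith Cfsg.Agent.MetacyclicModP

theorem mem_zpowers_of_orderOf_eq {Z : Type*} [Group Z] [Finite Z] [IsCyclic Z] {p : ℕ}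
    (hp : 0 < p) {d e : Z} (hd : d ^ p = 1) (he : orderOf e = p) : d ∈ Subgroup.zpowers e := by
  classical
  have := Fintype.ofFinite Z
  by_contra h
  have h1 := IsCyclic.card_pow_eq_one_le (α := Z) hp
  have h2 : insert d (Finset.univ.filter (fun x : Z => x ∈ Subgroup.zpowers e)) ⊆
      Finset.univ.filter (fun a : Z => a ^ p = 1) := by
    intro x hx
    rw [Finset.mem_filter]
    refine ⟨Finset.mem_univ _, ?_⟩
    rcases Finset.mem_insert.1 hx with rfl | hx
    · exact hd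
    · exact orderOf_dvd_iff_pow_eq_one.1
        (he ▸ orderOf_dvd_of_mem_zpowers (Finset.mem_filter.1 hx).2)
  have h3 := (Finset.card_le_card h2).trans h1
  rw [Finset.card_insert_of_notMem (by simp [h]),
    show (Finset.univ.filter (fun x : Z => x ∈ Subgroup.zpowers e)).card = p by
      rw [← he, ← Nat.card_zpowers, Nat.card_eq_fintype_card, Fintype.card_subtype]] at h3
  omega

theorem card_mul_le_of_lt {G : Type*} [Group G] [Finite G] {p : ℕ} [hp : Fact p.Prime]
    {H K : Subgroup G} (hK : IsPGroup p K) (h : H < K) : p * Nat.card H ≤ Nat.card K := by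
  obtain ⟨i, hi⟩ := IsPGroup.iff_card.1 (hK.to_le h.le)
  obtain ⟨j, hj⟩ := IsPGroup.iff_card.1 hK
  have hlt : i < j := by
    by_contra hle
    refine h.ne (Subgroup.eq_of_le_of_card_ge h.le ?_)
    rw [hi, hj]
    exact pow_le_pow_right₀ hp.out.one_lt.le (not_lt.1 hle)
  rw [hi, hj, ← pow_succ']
  exact pow_le_pow_right₀ hp.out.one_lt.le hlt

/-- An exponent `p` subgroup of a metacyclic group has order at most `p²`. -/
theorem card_le_sq {X : Type*} [Group X] [Finite X] {p : ℕ} (hp : 0 < p)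
    (hmc : Cfsg.IsMetacyclic X) (W : Subgroup X) (hW : ∀ w ∈ W, w ^ p = 1) :
    Nat.card W ≤ p * p := by
  obtain ⟨N, hN, hNc, hQc⟩ := hmc
  haveI := hN
  haveI := hNc
  haveI := hQc
  have hle : ∀ (Z : Type _) [Group Z] [Finite Z] [IsCyclic Z], (∀ z : Z, z ^ p = 1) →
      Nat.card Z ≤ p := by
    intro Z _ _ _ hZ
    obtain ⟨g, hg⟩ := IsCyclic.exists_generator (α := Z)
    rw [← orderOf_eq_card_of_forall_mem_zpowers hg]
    exact orderOf_le_of_pow_eq_one hp (hZ g)
  set f := (QuotientGroup.mk' N).comp W.subtype with hf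
  rw [f.ker.card_eq_card_quotient_mul_card_subgroup,
    Nat.card_congr (QuotientGroup.quotientKerEquivRange f).toEquiv]
  refine Nat.mul_le_mul ?_ ?_
  · refine hle f.range ?_
    rintro ⟨_, w, rfl⟩
    refine Subtype.ext ?_
    show f w ^ p = 1
    rw [← map_pow, show w ^ p = 1 from Subtype.ext (hW w w.2), map_one]
  · let g : f.ker →* N :=
      { toFun := fun w => ⟨((w : W) : X), (QuotientGroup.eq_one_iff _).1 w.2⟩
        map_one' := rfl
        map_mul' := fun _ _ => rfl }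
    have hg : Function.Injective g := fun a b h =>
      Subtype.ext (Subtype.ext (congrArg (fun t : N => (t : X)) h))
    haveI : IsCyclic f.ker := isCyclic_of_injective g hg
    exact hle f.ker fun w => Subtype.ext (Subtype.ext (hW _ (w : W).2))

variable {G : Type*} [Group G]

/-- Conjugation of a subgroup by a normalizing element. -/
def conjAut (R : Subgroup G) (α : G) (hα : α ∈ Subgroup.normalizer (R : Set G)) : R ≃* R where
  toFun g := ⟨α * g * α⁻¹, (Subgroup.mem_normalizer_iff.1 hα g).1 g.2⟩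
  invFun g := ⟨α⁻¹ * g * α, by
    have := (Subgroup.mem_normalizer_iff.1 ((Subgroup.normalizer (R : Set G)).inv_mem hα) g).1 g.2
    simpa using this⟩
  left_inv g := Subtype.ext (show α⁻¹ * (α * g * α⁻¹) * α = (g : G) by group)
  right_inv g := Subtype.ext (show α * (α⁻¹ * g * α) * α⁻¹ = (g : G) by group)
  map_mul' g h := Subtype.ext (show α * (g * h : G) * α⁻¹ = α * g * α⁻¹ * (α * h * α⁻¹) by group)

theorem coe_conjAut (R : Subgroup G) (α : G) (hα : α ∈ Subgroup.normalizer (R : Set G)) (g : R) :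
    (conjAut R α hα g : G) = α * g * α⁻¹ := rfl

variable [Finite G] {p : ℕ} [hp : Fact p.Prime] {R A : Subgroup G}

theorem exists_fixed_coset (hR : IsPGroup p R) (hA : A ≤ Subgroup.normalizer (R : Set G))
    (hcop : (Nat.card A).Coprime p) (P : Subgroup R)
    (hinv : ∀ (α : G) (hα : α ∈ A), ∀ x ∈ P, conjAut R α (hA hα) x ∈ P) (h : R)
    (hfix : ∀ (α : G) (hα : α ∈ A), h⁻¹ * conjAut R α (hA hα) h ∈ P) :
    ∃ c : R, (c : G) ∈ Subgroup.centralizer (A : Set G) ∧ h⁻¹ * c ∈ P := by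
  set P' := P.map R.subtype with hP'
  have hAP : A ≤ Subgroup.normalizer (P' : Set G) := by
    intro α hα
    rw [Subgroup.mem_normalizer_iff]
    have key : ∀ β ∈ A, ∀ x ∈ P', β * x * β⁻¹ ∈ P' := by
      rintro β hβ _ ⟨x, hx, rfl⟩
      exact ⟨_, hinv β hβ x hx, rfl⟩
    refine fun x => ⟨key α hα x, fun hx => ?_⟩
    have := key α⁻¹ (A.inv_mem hα) _ hx
    simpa [mul_assoc] using this
  obtain ⟨c, hcA, hc⟩ := CoprimeAction.exists_fixed_mem_coset hAP (by
      obtain ⟨k, hk⟩ := IsPGroup.iff_card.1 (hR.to_le (Subgroup.map_subtype_le P))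
      rw [hk]
      exact hcop.pow_right k)
    (Or.inr (CoprimeAction.isSolvable_of_isPGroup (hR.to_le (Subgroup.map_subtype_le P))))
    (h : G) (fun α hα => ⟨_, hfix α hα, by simp [coe_conjAut, mul_assoc]⟩)
  have hcR : c ∈ R := by
    have := R.mul_mem h.2 (Subgroup.map_subtype_le P hc)
    simpa using this
  refine ⟨⟨c, hcR⟩, hcA, ?_⟩
  obtain ⟨x, hx, hxe⟩ := hc
  have : h⁻¹ * ⟨c, hcR⟩ = x := Subtype.ext hxe.symm
  rwa [this]

/-- Elements of `[R,A]` fixed by `A` lie in `[R,R]`. -/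
theorem commutator_inf_centralizer_le (hR : IsPGroup p R)
    (hA : A ≤ Subgroup.normalizer (R : Set G)) (hcop : (Nat.card A).Coprime p) :
    ⁅R, A⁆ ⊓ Subgroup.centralizer (A : Set G) ≤ ⁅R, R⁆ := by
  classical
  have := Fintype.ofFinite A
  let Ψ : R →* Abelianization R :=
    ∏ α : A, Abelianization.of.comp (conjAut R α (hA α.2)).toMonoidHom
  have hΨ : ∀ g : R, Ψ g = ∏ α : A, Abelianization.of (conjAut R α (hA α.2) g) := fun g => by
    simp only [Ψ, MonoidHom.finsetProd_apply]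
    rfl
  have hle : ⁅R, A⁆ ≤ Ψ.ker.map R.subtype := by
    rw [Subgroup.commutator_le]
    intro g hg β hβ
    refine ⟨⟨g, hg⟩ * (conjAut R β (hA hβ) ⟨g, hg⟩)⁻¹, ?_,
      by simp [coe_conjAut, commutatorElement_def, mul_assoc]⟩
    have key : Ψ (conjAut R β (hA hβ) ⟨g, hg⟩) = Ψ ⟨g, hg⟩ := by
      rw [hΨ, hΨ]
      refine Fintype.prod_equiv (Equiv.mulRight ⟨β, hβ⟩) _ _ fun α => ?_
      congr 1
      exact Subtype.ext (by simp [coe_conjAut, mul_assoc])
    rw [SetLike.mem_coe, MonoidHom.mem_ker, map_mul, map_inv, key, mul_inv_cancel]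
  rintro x ⟨hxT, hxC⟩
  obtain ⟨y, hy, rfl⟩ := hle hxT
  have h1 : Ψ y = Abelianization.of y ^ Nat.card A := by
    have e : ∀ α : A, conjAut R α (hA α.2) y = y := fun α =>
      Subtype.ext (CoprimeAction.mem_centralizer_iff_conj.1 hxC α α.2)
    rw [hΨ]
    simp [e, Nat.card_eq_fintype_card]
  have h2 : Abelianization.of y ^ Nat.card A = 1 := h1.symm.trans hy
  have h3 : Abelianization.of y = 1 := by
    obtain ⟨k, hk⟩ := hR y
    have h4 : Abelianization.of y ^ p ^ k = 1 := by rw [← map_pow, hk, map_one]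
    rw [← orderOf_eq_one_iff]
    exact Nat.eq_one_of_dvd_coprimes (hcop.pow_right k) (orderOf_dvd_of_pow_eq_one h2)
      (orderOf_dvd_of_pow_eq_one h4)
  rw [← Subgroup.map_subtype_commutator R]
  exact ⟨y, (QuotientGroup.eq_one_iff _).1 h3, rfl⟩

theorem det_eq_zero_iff {v w : ZMod p × ZMod p} (hv : v ≠ 0) (h : det v w = 0) :
    ∃ k : ZMod p, w = k • v := by
  simp only [det] at h
  by_cases h1 : v.1 = 0
  · have h2 : v.2 ≠ 0 := fun h2 => hv (Prod.ext h1 h2)
    have h3 : w.1 = 0 := by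
      rw [h1, zero_mul, sub_zero] at h
      exact (mul_eq_zero.1 h).resolve_left h2
    refine ⟨w.2 / v.2, Prod.ext ?_ ?_⟩
    · simp [h1, h3]
    · simp [div_mul_cancel₀ _ h2]
  · refine ⟨w.1 / v.1, Prod.ext ?_ ?_⟩
    · simp [div_mul_cancel₀ _ h1]
    · simp only [Prod.smul_snd, smul_eq_mul]
      field_simp
      linear_combination -h

theorem det_smul_right (v w : ZMod p × ZMod p) (a : ZMod p) : det v (a • w) = a * det v w := by
  simp [det]; ring

section nonabelian

variable (hR : IsPGroup p R) (D : MetacyclicOdd.Data p R) (hn : D.n ≠ 0) (hp2 : p ≠ 2)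
  (hA : A ≤ Subgroup.normalizer (R : Set G)) (hcop : (Nat.card A).Coprime p)

include hR hp2 hA hcop in
theorem exists_fixed_piv :
    ∃ c : R, (c : G) ∈ Subgroup.centralizer (A : Set G) ∧ piv D hn c ≠ 0 := by
  rcases fixedVector D hn hp2 hR with ⟨w, hw0, hw⟩ | hline
  · let K : Subgroup R :=
      { carrier := {g | piv D hn g = 0}
        one_mem' := piv_one D hn
        mul_mem' := fun {a b} ha hb => show piv D hn (a * b) = 0 by
          rw [piv_mul, show piv D hn a = 0 from ha, show piv D hn b = 0 from hb, add_zero]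
        inv_mem' := fun {a} ha => show piv D hn a⁻¹ = 0 by
          rw [piv_inv, show piv D hn a = 0 from ha, neg_zero] }
    obtain ⟨h, hh⟩ := piv_surjective D hn hp2 w
    obtain ⟨c, hcA, hc⟩ := exists_fixed_coset hR hA hcop K
      (fun α hα x hx => piv_map_zero D hn hp2 _ hx) h
      (fun α hα => show piv D hn _ = 0 by rw [piv_mul, piv_inv, hh, hw _ h hh, neg_add_cancel])
    refine ⟨c, hcA, fun h0 => hw0 ?_⟩
    have : piv D hn (h⁻¹ * c) = 0 := hc
    rw [piv_mul, piv_inv, hh, h0, add_zero, neg_eq_zero] at this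
    exact this
  · let P : Subgroup R :=
      { carrier := {g | (piv D hn g).2 = 0}
        one_mem' := show (piv D hn 1).2 = 0 by rw [piv_one]; rfl
        mul_mem' := fun {a b} ha hb => show (piv D hn (a * b)).2 = 0 by
          rw [piv_mul, Prod.snd_add, show (piv D hn a).2 = 0 from ha,
            show (piv D hn b).2 = 0 from hb, add_zero]
        inv_mem' := fun {a} ha => show (piv D hn a⁻¹).2 = 0 by
          rw [piv_inv, Prod.snd_neg, show (piv D hn a).2 = 0 from ha, neg_zero] }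
    obtain ⟨c, hcA, hc⟩ := exists_fixed_coset hR hA hcop P
      (fun α hα x hx => show (piv D hn _).2 = 0 from (hline _ x).trans hx) D.b
      (fun α hα => show (piv D hn _).2 = 0 by
        rw [piv_mul, piv_inv, Prod.snd_add, Prod.snd_neg, hline, neg_add_cancel])
    refine ⟨c, hcA, fun h0 => u_ne D ?_⟩
    have : (piv D hn (D.b⁻¹ * c)).2 = 0 := hc
    rw [piv_mul, piv_inv, h0, piv_b] at this
    simpa using this

include hR hn hp2 hA hcop in
theorem not_centralizes_commutator (hne : ¬ A ≤ Subgroup.centralizer (R : Set G)) :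
    ¬ A ≤ Subgroup.centralizer ((⁅R, R⁆ : Subgroup G) : Set G) := by
  intro hc'
  obtain ⟨c0, hc0A, hc0⟩ := exists_fixed_piv hR D hn hp2 hA hcop
  set v := piv D hn c0 with hv
  have hfix : ∀ (α : G) (hα : α ∈ A), conjAut R α (hA hα) c0 = c0 := fun α hα =>
    Subtype.ext (CoprimeAction.mem_centralizer_iff_conj.1 hc0A α hα)
  have hdet : ∀ (α : G) (hα : α ∈ A) (g : R),
      det v (piv D hn (conjAut R α (hA hα) g)) = det v (piv D hn g) := by
    intro α hα g
    have hl : conjAut R α (hA hα) D.c = D.c ^ (1 : ℤ) := by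
      rw [zpow_one]
      refine Subtype.ext ?_
      have hc : (D.c : G) ∈ ⁅R, R⁆ := by
        rw [← Subgroup.map_subtype_commutator R]
        exact ⟨D.c, by rw [D.commutator_eq]; exact Subgroup.mem_zpowers _, rfl⟩
      have := hc' hα _ hc
      rw [coe_conjAut, ← this, mul_inv_cancel_right]
    have := det_map D hn (conjAut R α (hA hα)) hl c0 g
    rwa [hfix α hα, Int.cast_one, one_mul] at this
  let P : Subgroup R :=
    { carrier := {g | det v (piv D hn g) = 0}
      one_mem' := show det v (piv D hn 1) = 0 by rw [piv_one]; simp [det]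
      mul_mem' := fun {a b} ha hb => show det v (piv D hn (a * b)) = 0 by
        rw [piv_mul, det_add, show det v (piv D hn a) = 0 from ha,
          show det v (piv D hn b) = 0 from hb, add_zero]
      inv_mem' := fun {a} ha => show det v (piv D hn a⁻¹) = 0 by
        have : det v (piv D hn a) = 0 := ha
        rw [piv_inv]; simp [det] at this ⊢; linear_combination -this }
  let K : Subgroup R :=
    { carrier := {g | piv D hn g = 0}
      one_mem' := piv_one D hn
      mul_mem' := fun {a b} ha hb => show piv D hn (a * b) = 0 by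
        rw [piv_mul, show piv D hn a = 0 from ha, show piv D hn b = 0 from hb, add_zero]
      inv_mem' := fun {a} ha => show piv D hn a⁻¹ = 0 by
        rw [piv_inv, show piv D hn a = 0 from ha, neg_zero] }
  have hTP : ⁅R, A⁆ ≤ P.map R.subtype := by
    rw [Subgroup.commutator_le]
    intro g hg α hα
    refine ⟨⟨g, hg⟩ * (conjAut R α (hA hα) ⟨g, hg⟩)⁻¹, ?_,
      by simp [coe_conjAut, commutatorElement_def, mul_assoc]⟩
    show det v (piv D hn _) = 0
    have h1 := hdet α hα ⟨g, hg⟩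
    rw [piv_mul, piv_inv]
    simp only [det, Prod.fst_add, Prod.snd_add, Prod.fst_neg, Prod.snd_neg] at h1 ⊢
    linear_combination -h1
  have hPK : ⁅P.map R.subtype, A⁆ ≤ K.map R.subtype := by
    rw [Subgroup.commutator_le]
    rintro _ ⟨g, hg, rfl⟩ α hα
    refine ⟨g * (conjAut R α (hA hα) g)⁻¹, ?_,
      by simp [coe_conjAut, commutatorElement_def, mul_assoc]⟩
    show piv D hn _ = 0
    obtain ⟨k, hk⟩ := det_eq_zero_iff hc0 hg
    haveI : NeZero p := ⟨hp.out.ne_zero⟩
    have h1 : piv D hn (g * (c0 ^ k.val)⁻¹) = 0 := by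
      rw [piv_mul, piv_inv, piv_pow, ZMod.natCast_zmod_val, ← hk, add_neg_cancel]
    have h2 := piv_map_zero D hn hp2 (conjAut R α (hA hα)) h1
    rw [map_mul, map_inv, map_pow, hfix α hα, piv_mul, piv_inv, piv_pow, ZMod.natCast_zmod_val,
      ← hk] at h2
    rw [piv_mul, piv_inv]
    linear_combination -h2
  have hcopR : (Nat.card A).Coprime (Nat.card R) := by
    obtain ⟨k, hk⟩ := IsPGroup.iff_card.1 hR
    rw [hk]; exact hcop.pow_right k
  have hTK : ⁅R, A⁆ ≤ K.map R.subtype := by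
    rw [← CoprimeAction.commutator_commutator_eq hA hcopR
      (Or.inr (CoprimeAction.isSolvable_of_isPGroup hR))]
    exact (Subgroup.commutator_mono hTP le_rfl).trans hPK
  apply hne
  have htop := eq_top_of_piv D hn hR
    ((R ⊓ Subgroup.centralizer (A : Set G)).subgroupOf R) fun g => by
    obtain ⟨t, ht, c, hc, hgc⟩ := CoprimeAction.exists_mul_fixed hA hcopR
      (Or.inr (CoprimeAction.isSolvable_of_isPGroup hR)) g.2
    obtain ⟨t', ht', rfl⟩ := hTK ht
    refine ⟨⟨c, hc.1⟩, hc, ?_⟩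
    rw [show g = t' * ⟨c, hc.1⟩ from Subtype.ext hgc, piv_mul,
      show piv D hn t' = 0 from ht', zero_add]
  intro α hα g hg
  have : (⟨g, hg⟩ : R) ∈ (R ⊓ Subgroup.centralizer (A : Set G)).subgroupOf R :=
    htop ▸ Subgroup.mem_top _
  exact (this.2 α hα).symm

include hR hn hp2 hA hcop in
theorem main (hmc : Cfsg.IsMetacyclic R) (hne : ¬ A ≤ Subgroup.centralizer (R : Set G)) :
    IsMulCommutative ↥⁅R, A⁆ ∧ ⁅R, A⁆ ⊓ (R ⊓ Subgroup.centralizer (A : Set G)) = ⊥ ∧
      ⁅R, A⁆ ≠ ⊥ ∧ IsCyclic ↥⁅R, A⁆ ∧ (R ⊓ Subgroup.centralizer (A : Set G)) ≠ ⊥ ∧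
      IsCyclic ↥(R ⊓ Subgroup.centralizer (A : Set G)) ∧ ⁅R, R⁆ ≤ ⁅R, A⁆ := by
  classical
  set C := R ⊓ Subgroup.centralizer (A : Set G) with hC
  set T := ⁅R, A⁆ with hT
  set R' := ⁅R, R⁆ with hR'
  have hp1 := hp.out
  have hcopR : (Nat.card A).Coprime (Nat.card R) := by
    obtain ⟨k, hk⟩ := IsPGroup.iff_card.1 hR
    rw [hk]; exact hcop.pow_right k
  have hsolv : Group.IsSolvable A ∨ Group.IsSolvable R :=
    Or.inr (CoprimeAction.isSolvable_of_isPGroup hR)
  have hTR : T ≤ R := CoprimeAction.commutator_le_self_of_le_normalizer hA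
  have hRT : R ≤ Subgroup.normalizer (T : Set G) := Subgroup.normalizer_commutator_ge_left R A
  have hR'eq : R' = (commutator R).map R.subtype := (Subgroup.map_subtype_commutator R).symm
  have hR'R : R' ≤ R := hR'eq ▸ Subgroup.map_subtype_le _
  set z0 : G := (D.c : G) with hz0
  have hR'z : R' = Subgroup.zpowers z0 := by
    rw [hR'eq, D.commutator_eq, MonoidHom.map_zpowers]; rfl
  haveI hR'c : IsCyclic ↥R' := by rw [hR'z]; infer_instance
  haveI hR'm : IsMulCommutative ↥R' := IsCyclic.isMulCommutative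
  have hAR' : A ≤ Subgroup.normalizer (R' : Set G) :=
    hR'eq ▸ OddLocalBase.le_normalizer_map_characteristic hA (commutator R)
  have hRR' : R ≤ Subgroup.normalizer (R' : Set G) :=
    hR'eq ▸ OddLocalBase.le_normalizer_map_characteristic Subgroup.le_normalizer (commutator R)
  -- `A` has no fixed points on `R'`
  have hCR' : ∀ x ∈ R', x ∈ Subgroup.centralizer (A : Set G) → x = 1 := by
    intro x hx hxA
    by_contra hx1
    apply not_centralizes_commutator hR D hn hp2 hA hcop hne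
    refine CoprimeAction.le_centralizer_of_prime_order_fixed hAR'
      (hcopR.coprime_dvd_right (Subgroup.card_dvd_of_le hR'R)) fun w hw hwo α hα => ?_
    obtain ⟨k, hk⟩ := IsPGroup.iff_orderOf.mp (hR.to_le hR'R) ⟨x, hx⟩
    rw [Subgroup.orderOf_mk] at hk
    have hwp : orderOf w = p := by
      obtain ⟨j, hj⟩ := IsPGroup.iff_orderOf.mp (hR.to_le hR'R) ⟨w, hw⟩
      rw [Subgroup.orderOf_mk] at hj
      exact (Nat.prime_dvd_prime_iff_eq hwo hp1).1 (hwo.dvd_of_dvd_pow hj.dvd)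
    have hk0 : k ≠ 0 := fun h => hx1 (orderOf_eq_one_iff.1 (by rw [hk, h, pow_zero]))
    have hx' : orderOf (⟨x, hx⟩ ^ p ^ (k - 1) : R') = p := by
      rw [orderOf_pow_of_dvd (pow_ne_zero _ hp1.ne_zero)
        (by rw [Subgroup.orderOf_mk, hk]; exact pow_dvd_pow p (Nat.sub_le k 1)),
        Subgroup.orderOf_mk, hk, Nat.pow_div (Nat.sub_le k 1) hp1.pos,
        Nat.sub_sub_self (Nat.one_le_iff_ne_zero.2 hk0), pow_one]
    have hmem := mem_zpowers_of_orderOf_eq hp1.pos (d := (⟨w, hw⟩ : R'))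
      (Subtype.ext (orderOf_dvd_iff_pow_eq_one.1 hwp.dvd)) hx'
    obtain ⟨i, hi⟩ := hmem
    have hwA : w ∈ Subgroup.centralizer (A : Set G) := by
      rw [← show (((⟨x, hx⟩ : R') ^ p ^ (k - 1)) ^ i : R').val = w from congrArg Subtype.val hi]
      exact Subgroup.zpow_mem _ (Subgroup.pow_mem _ hxA _) _
    exact hwA α hα
  have hCR'bot : ∀ x ∈ C, x ∈ R' → x = 1 := fun x hx hx' => hCR' x hx' hx.2
  have hTC : T ⊓ C = ⊥ := by
    rw [eq_bot_iff]
    rintro x ⟨hxT, hxC⟩
    exact hCR'bot x hxC (commutator_inf_centralizer_le hR hA hcop ⟨hxT, hxC.2⟩)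
  have hCcomm : ∀ x ∈ C, ∀ y ∈ C, x * y = y * x := by
    intro x hx y hy
    rw [← commutatorElement_eq_one_iff_mul_comm]
    exact hCR'bot _ (by
        rw [commutatorElement_def]
        exact C.mul_mem (C.mul_mem (C.mul_mem hx hy) (C.inv_mem hx)) (C.inv_mem hy))
      (Subgroup.commutator_mem_commutator hx.1 hy.1)
  have hR'T : R' ≤ T := by
    rw [hR', Subgroup.commutator_le]
    intro g hg g' hg'
    obtain ⟨t, ht, c, hc, rfl⟩ := CoprimeAction.exists_mul_fixed hA hcopR hsolv hg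
    obtain ⟨t', ht', c', hc', rfl⟩ := CoprimeAction.exists_mul_fixed hA hcopR hsolv hg'
    have hcc := hCcomm c hc c' hc'
    have e : ⁅t * c, t' * c'⁆ = t * (c * t' * c⁻¹) * (c' * t⁻¹ * c'⁻¹) * t'⁻¹ := by
      have h1 : c * c' * c⁻¹ = c' := by rw [hcc, mul_inv_cancel_right]
      calc ⁅t * c, t' * c'⁆ = t * (c * t' * c⁻¹) * ((c * c' * c⁻¹) * t⁻¹ * c'⁻¹) * t'⁻¹ := by
            rw [commutatorElement_def]; group
        _ = t * (c * t' * c⁻¹) * (c' * t⁻¹ * c'⁻¹) * t'⁻¹ := by rw [h1]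
    rw [e]
    exact T.mul_mem (T.mul_mem (T.mul_mem ht
      ((Subgroup.mem_normalizer_iff.1 (hRT hc.1) t').1 ht'))
      ((Subgroup.mem_normalizer_iff.1 (hRT hc'.1) t⁻¹).1 (T.inv_mem ht))) (T.inv_mem ht')
  -- `T` centralizes `R'`
  have hend : ∀ g h : G, g ∈ Subgroup.normalizer (R' : Set G) →
      h ∈ Subgroup.normalizer (R' : Set G) → ∀ x ∈ R',
      g * (h * x * h⁻¹) * g⁻¹ = h * (g * x * g⁻¹) * h⁻¹ := by
    intro g h hg hh x hx
    obtain ⟨l, hl⟩ := Subgroup.mem_zpowers_iff.1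
      (hR'z ▸ (Subgroup.mem_normalizer_iff.1 hg z0).1 (hR'z.symm ▸ Subgroup.mem_zpowers z0))
    obtain ⟨m, hm⟩ := Subgroup.mem_zpowers_iff.1
      (hR'z ▸ (Subgroup.mem_normalizer_iff.1 hh z0).1 (hR'z.symm ▸ Subgroup.mem_zpowers z0))
    obtain ⟨k, rfl⟩ := Subgroup.mem_zpowers_iff.1 (hR'z ▸ hx)
    simp only [← conj_zpow, ← hl, ← hm, ← zpow_mul]
    congr 1
    ring
  have hTR' : T ≤ Subgroup.centralizer (R' : Set G) := by
    rw [hT, Subgroup.commutator_le]
    intro g hg α hα x hx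
    have hy : g⁻¹ * (α⁻¹ * x * α) * g ∈ R' := by
      have h1 := (Subgroup.mem_normalizer_iff.1 (hAR' (A.inv_mem hα)) x).1 hx
      have h2 := (Subgroup.mem_normalizer_iff.1 (hRR' (R.inv_mem hg)) _).1 h1
      simpa using h2
    have h3 := hend g α (hRR' hg) (hAR' hα) _ hy
    have h4 : ⁅g, α⁆ * x * ⁅g, α⁆⁻¹ =
        g * (α * (g⁻¹ * (α⁻¹ * x * α) * g) * α⁻¹) * g⁻¹ := by
      rw [commutatorElement_def]; group
    have h5 : ⁅g, α⁆ * x * ⁅g, α⁆⁻¹ = x := by rw [h4, h3]; group
    rw [mul_inv_eq_iff_eq_mul] at h5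
    exact h5.symm
  -- a generator of `T` modulo `R'`
  obtain ⟨c0, hc0A, hc0⟩ := exists_fixed_piv hR D hn hp2 hA hcop
  set v := piv D hn c0 with hv
  have hc0C : (c0 : G) ∈ C := ⟨c0.2, hc0A⟩
  have hCne : C ≠ ⊥ := by
    intro h
    rw [h, Subgroup.mem_bot, OneMemClass.coe_eq_one] at hc0C
    exact hc0 (by rw [hv, hc0C, piv_one])
  have hTne : T ≠ ⊥ := by
    intro h
    exact hne (Subgroup.commutator_eq_bot_iff_le_centralizer.1
      (by rw [Subgroup.commutator_comm]; exact h))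
  obtain ⟨t0, ht0T, ht0⟩ : ∃ t0 : R, (t0 : G) ∈ T ∧ det v (piv D hn t0) ≠ 0 := by
    by_contra hcon
    push Not at hcon
    obtain ⟨g, hg⟩ : ∃ g : R, det v (piv D hn g) ≠ 0 := by
      by_contra h
      push Not at h
      exact hc0 (piv_eq_zero D hn hp2 h)
    obtain ⟨t, ht, c, hc, hgc⟩ := CoprimeAction.exists_mul_fixed hA hcopR hsolv g.2
    apply hg
    rw [show g = ⟨t, hTR ht⟩ * ⟨c, hc.1⟩ from Subtype.ext hgc, piv_mul, det_add,
      hcon ⟨t, hTR ht⟩ ht, zero_add]
    have hcc : ⁅c0, (⟨c, hc.1⟩ : R)⁆ = D.c ^ (0 : ℤ) := by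
      rw [zpow_zero, commutatorElement_eq_one_iff_mul_comm]
      exact Subtype.ext (hCcomm _ hc0C _ hc)
    obtain ⟨e, he, he'⟩ := comm_exp D hn c0 ⟨c, hc.1⟩
    rw [hcc] at he
    rw [hv, ← he', ← c_zpow_cast D hn he, Int.cast_zero]
  let K0 : Subgroup R := Subgroup.zpowers t0 ⊔ commutator R
  have hK0T : ∀ x ∈ K0, (x : G) ∈ T := by
    have : K0 ≤ T.subgroupOf R :=
      sup_le (Subgroup.zpowers_le.2 ht0T) fun x hx => hR'T (hR'eq.symm ▸ ⟨x, hx, rfl⟩)
    exact this
  haveI : (commutator R).Normal := inferInstance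
  haveI hK0n : K0.Normal := ⟨fun x hx g => by
    have h1 : ⁅g, x⁆ ∈ K0 := Subgroup.mem_sup_right
      (Subgroup.commutator_mem_commutator (Subgroup.mem_top g) (Subgroup.mem_top x))
    have := K0.mul_mem h1 hx
    rwa [commutatorElement_def, inv_mul_cancel_right] at this⟩
  have htop : Subgroup.zpowers c0 ⊔ K0 = ⊤ := by
    haveI : NeZero p := ⟨hp1.ne_zero⟩
    refine eq_top_of_piv D hn hR _ fun g => ?_
    set d := det v (piv D hn t0) with hd
    set b := det v (piv D hn g) * d⁻¹ with hb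
    obtain ⟨a, ha⟩ := det_eq_zero_iff hc0 (w := piv D hn g - b • piv D hn t0) (by
      rw [sub_eq_add_neg, ← neg_smul, det_add, det_smul_right, ← hd, hb]
      rw [neg_mul, mul_assoc, inv_mul_cancel₀ ht0]; ring)
    refine ⟨c0 ^ a.val * t0 ^ b.val, mul_mem (Subgroup.mem_sup_left (pow_mem (Subgroup.mem_zpowers _) _))
      (Subgroup.mem_sup_right (Subgroup.mem_sup_left (pow_mem (Subgroup.mem_zpowers _) _))), ?_⟩
    rw [piv_mul, piv_pow, piv_pow, ZMod.natCast_zmod_val, ZMod.natCast_zmod_val, ← hv, ← ha,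
      sub_add_cancel]
  have hTK0 : ∀ x : R, (x : G) ∈ T → x ∈ K0 := by
    intro x hx
    have hx' : x ∈ (↑(Subgroup.zpowers c0 ⊔ K0) : Set R) := by rw [htop]; exact Subgroup.mem_top x
    rw [Subgroup.mul_normal] at hx'
    obtain ⟨_, ⟨i, rfl⟩, k, hk, rfl⟩ := Set.mem_mul.1 hx'
    have h1 : ((c0 ^ i : R) : G) ∈ T ⊓ C := by
      refine ⟨?_, ?_⟩
      · have := T.mul_mem hx (T.inv_mem (hK0T k hk))
        simpa using this
      · simpa using C.zpow_mem hc0C i
    rw [hTC, Subgroup.mem_bot, OneMemClass.coe_eq_one] at h1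
    simpa [h1] using hk
  have hTcomm : ∀ x ∈ T, ∀ y ∈ T, x * y = y * x := by
    have hK0c : IsMulCommutative ↥(K0.map R.subtype) := by
      have hclo : K0.map R.subtype = Subgroup.closure ({(t0 : G)} ∪ (R' : Set G)) := by
        rw [Subgroup.map_sup, MonoidHom.map_zpowers, ← hR'eq, Subgroup.closure_union,
          Subgroup.closure_eq, Subgroup.zpowers_eq_closure]
        rfl
      rw [hclo]
      refine Subgroup.isMulCommutative_closure ?_
      rintro x (rfl | hx) y (rfl | hy)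
      · rfl
      · exact (hTR' ht0T y hy).symm
      · exact hTR' ht0T x hx
      · exact congrArg Subtype.val (mul_comm' (⟨x, hx⟩ : R') ⟨y, hy⟩)
    intro x hx y hy
    exact congrArg Subtype.val (mul_comm'
      (⟨x, ⟨⟨x, hTR hx⟩, hTK0 _ hx, rfl⟩⟩ : K0.map R.subtype)
      ⟨y, ⟨⟨y, hTR hy⟩, hTK0 _ hy, rfl⟩⟩)
  -- a central element of order `p` in `R'`
  set zc : R := D.c ^ p ^ (D.n - 1) with hzc
  have hzcen : zc ∈ Subgroup.center R := by
    rw [D.mem_center_iff, hzc, MetacyclicOdd.Data.c, ← pow_mul, ← pow_add]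
    have h0 := D.ψ_apply (p ^ (D.μ + (D.n - 1))) 0
    rw [pow_zero, mul_one] at h0
    rw [h0, Prod.mk_eq_zero]
    refine ⟨?_, by simp [MetacyclicOdd.Data.E, geo]⟩
    rw [ZMod.natCast_eq_zero_iff]
    exact pow_dvd_pow p (by have := D.hμ; omega)
  have hzord : orderOf zc = p := by
    rw [hzc, orderOf_pow_of_dvd (pow_ne_zero _ hp1.ne_zero)
      (by rw [MetacyclicOdd.Data.c, D.hord]; exact pow_dvd_pow p (Nat.sub_le _ _)),
      MetacyclicOdd.Data.c, D.hord, Nat.pow_div (Nat.sub_le _ _) hp1.pos,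
      Nat.sub_sub_self (Nat.one_le_iff_ne_zero.2 hn), pow_one]
  have hzR' : (zc : G) ∈ R' := by
    rw [hR'z, hzc, Subgroup.coe_pow]; exact pow_mem (Subgroup.mem_zpowers _) _
  have hR'p : ∀ x : R, (x : G) ∈ R' → x ^ p = 1 → x ∈ Subgroup.zpowers zc := by
    intro x hx hxp
    obtain ⟨i, hi⟩ := mem_zpowers_of_orderOf_eq hp1.pos (d := (⟨x, hx⟩ : R'))
      (e := ⟨zc, hzR'⟩) (Subtype.ext (by simpa using congrArg Subtype.val hxp))
      (by rw [Subgroup.orderOf_mk, Subgroup.orderOf_coe, hzord])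
    exact ⟨i, Subtype.ext (by simpa using congrArg Subtype.val hi)⟩
  have hWcard : ∀ W : Subgroup R, (∀ w ∈ W, w ^ p = 1) → Nat.card W ≤ p * p :=
    fun W hW => card_le_sq hp1.pos hmc W hW
  -- cyclicity
  have hcyc : ∀ S : Subgroup G, S ≤ R → (hS : ∀ x ∈ S, ∀ y ∈ S, x * y = y * x) →
      (∀ d e : R, (d : G) ∈ S → (e : G) ∈ S → orderOf d = p → orderOf e = p →
        d ∈ Subgroup.zpowers e) → IsCyclic ↥S := by
    intro S hSR hS h
    letI : CommGroup ↥S :=
      { (inferInstance : Group ↥S) with mul_comm := fun a b => Subtype.ext (hS _ a.2 _ b.2) }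
    refine FrobeniusFPF.isCyclic_of_unique_prime fun r hr d e hd he => ?_
    have hrp : r = p := by
      obtain ⟨j, hj⟩ := IsPGroup.iff_orderOf.mp hR ⟨d, hSR d.2⟩
      rw [Subgroup.orderOf_mk, Subgroup.orderOf_coe, hd] at hj
      exact (Nat.prime_dvd_prime_iff_eq hr hp1).1 (hr.dvd_of_dvd_pow hj.dvd)
    subst hrp
    obtain ⟨i, hi⟩ := h ⟨d, hSR d.2⟩ ⟨e, hSR e.2⟩ d.2 e.2
      (by rw [Subgroup.orderOf_mk, Subgroup.orderOf_coe, hd])
      (by rw [Subgroup.orderOf_mk, Subgroup.orderOf_coe, he])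
    exact ⟨i, Subtype.ext (by simpa using congrArg Subtype.val hi)⟩
  have hCcyc : IsCyclic ↥C := by
    refine hcyc C inf_le_left hCcomm fun d e hd he hdp hep => ?_
    by_contra hcon
    set E := Subgroup.closure ({d, e} : Set R) with hE
    set W := Subgroup.closure ({d, e, zc} : Set R) with hW
    have hcomm : ∀ x ∈ ({d, e, zc} : Set R), ∀ y ∈ ({d, e, zc} : Set R), x * y = y * x := by
      intro x hx y hy
      have hz : ∀ w : R, w * zc = zc * w := Subgroup.mem_center_iff.1 hzcen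
      simp only [Set.mem_insert_iff, Set.mem_singleton_iff] at hx hy
      rcases hx with rfl | rfl | rfl <;> rcases hy with rfl | rfl | rfl <;>
        first
          | rfl
          | exact hz _
          | exact (hz _).symm
          | exact Subtype.ext (hCcomm _ hd _ he)
          | exact Subtype.ext (hCcomm _ he _ hd)
    haveI := Subgroup.isMulCommutative_closure hcomm
    have hWexp : ∀ w ∈ W, w ^ p = 1 := by
      intro w hw
      induction hw using Subgroup.closure_induction with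
      | mem x hx =>
        simp only [Set.mem_insert_iff, Set.mem_singleton_iff] at hx
        rcases hx with rfl | rfl | rfl
        · exact orderOf_dvd_iff_pow_eq_one.1 hdp.dvd
        · exact orderOf_dvd_iff_pow_eq_one.1 hep.dvd
        · exact orderOf_dvd_iff_pow_eq_one.1 hzord.dvd
      | one => exact one_pow p
      | mul x y hx hy hxp hyp =>
        rw [(show Commute x y from congrArg Subtype.val
          (mul_comm' (⟨x, hx⟩ : W) ⟨y, hy⟩)).mul_pow, hxp, hyp, one_mul]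
      | inv x _ hxp => rw [inv_pow, hxp, inv_one]
    have hWp : IsPGroup p W := hR.to_subgroup W
    have hEW : E ≤ W := Subgroup.closure_mono (by intro x hx; rcases hx with rfl | rfl <;> simp)
    have h1 : Subgroup.zpowers e < E := by
      refine lt_of_le_of_ne (Subgroup.zpowers_le.2 (Subgroup.subset_closure (by simp))) fun h => ?_
      exact hcon (h ▸ Subgroup.subset_closure (by simp))
    have h2 : E < W := by
      refine lt_of_le_of_ne hEW fun h => ?_
      have hzE : zc ∈ E := h ▸ Subgroup.subset_closure (by simp)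
      have hEC : E ≤ C.subgroupOf R := (Subgroup.closure_le _).2 (by
        intro x hx
        rcases hx with rfl | rfl
        · exact hd
        · exact he)
      have := hCR'bot _ (hEC hzE) hzR'
      rw [Subgroup.coe_subtype, OneMemClass.coe_eq_one, ← orderOf_eq_one_iff, hzord] at this
      exact hp1.ne_one this
    have h3 := card_mul_le_of_lt (hR.to_subgroup E) h1
    have h4 := card_mul_le_of_lt hWp h2
    have h5 := hWcard W hWexp
    rw [Nat.card_zpowers, hep] at h3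
    nlinarith [hp1.two_le]
  have hTcyc : IsCyclic ↥T := by
    refine hcyc T hTR hTcomm fun d e hd he hdp hep => ?_
    by_contra hcon
    obtain ⟨c, hc, hc1⟩ := (Subgroup.bot_or_exists_ne_one C).resolve_left hCne
    obtain ⟨j, hj⟩ := IsPGroup.iff_orderOf.mp hR ⟨c, hc.1⟩
    have hj0 : j ≠ 0 := fun h => hc1 (congrArg Subtype.val
      (orderOf_eq_one_iff.1 (by rw [hj, h, pow_zero]) : (⟨c, hc.1⟩ : R) = 1))
    set s : R := ⟨c, hc.1⟩ ^ p ^ (j - 1) with hs
    have hsord : orderOf s = p := by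
      rw [hs, orderOf_pow_of_dvd (pow_ne_zero _ hp1.ne_zero)
        (by rw [hj]; exact pow_dvd_pow p (Nat.sub_le _ _)), hj,
        Nat.pow_div (Nat.sub_le _ _) hp1.pos, Nat.sub_sub_self (Nat.one_le_iff_ne_zero.2 hj0),
        pow_one]
    have hsC : (s : G) ∈ C := by rw [hs, Subgroup.coe_pow]; exact C.pow_mem hc _
    let E : Subgroup R :=
      { carrier := {x | (x : G) ∈ T ∧ x ^ p = 1}
        one_mem' := ⟨T.one_mem, one_pow p⟩
        mul_mem' := fun {a b} ha hb => ⟨T.mul_mem ha.1 hb.1, by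
          rw [(show Commute a b from Subtype.ext (hTcomm _ ha.1 _ hb.1)).mul_pow, ha.2, hb.2,
            one_mul]⟩
        inv_mem' := fun {a} ha => ⟨T.inv_mem ha.1, by rw [inv_pow, ha.2, inv_one]⟩ }
    haveI : E.Normal := ⟨fun x hx g =>
      ⟨(Subgroup.mem_normalizer_iff.1 (hRT g.2) x).1 hx.1, by rw [conj_pow, hx.2, mul_one,
        mul_inv_cancel]⟩⟩
    set W := Subgroup.zpowers s ⊔ E with hW
    have hWexp : ∀ w ∈ W, w ^ p = 1 := by
      intro w hw
      have hw' : w ∈ (↑(Subgroup.zpowers s ⊔ E) : Set R) := hw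
      rw [Subgroup.mul_normal] at hw'
      obtain ⟨_, ⟨i, rfl⟩, k, hk, rfl⟩ := Set.mem_mul.1 hw'
      have hcz : ⁅k, s ^ i⁆ ∈ Subgroup.zpowers zc := by
        refine hR'p _ ?_ ?_
        · exact Subgroup.commutator_mem_commutator k.2 (s ^ i : R).2
        · have hk' : (s ^ i) * k⁻¹ * (s ^ i)⁻¹ ∈ E :=
            Subgroup.Normal.conj_mem inferInstance _ (E.inv_mem hk) _
          have h6 : ⁅k, s ^ i⁆ = k * ((s ^ i) * k⁻¹ * (s ^ i)⁻¹) := by
            rw [commutatorElement_def]; group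
          rw [h6]
          exact (E.mul_mem hk hk').2
      have hcen : ⁅k, s ^ i⁆ ∈ Subgroup.center R :=
        (Subgroup.zpowers_le.2 hzcen) hcz
      have hcp : ⁅k, s ^ i⁆ ^ p = 1 := by
        obtain ⟨l, hl⟩ := hcz
        rw [← hl, ← zpow_natCast, ← zpow_mul, mul_comm, zpow_mul, zpow_natCast,
          orderOf_dvd_iff_pow_eq_one.1 hzord.dvd, one_zpow]
      obtain ⟨q, hq⟩ : p ∣ p.choose 2 := hp1.dvd_choose_self (by norm_num)
        (lt_of_le_of_ne hp1.two_le (Ne.symm hp2))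
      have hsp : (s ^ i) ^ p = 1 := by
        rw [← zpow_natCast, ← zpow_mul, mul_comm, zpow_mul, zpow_natCast,
          orderOf_dvd_iff_pow_eq_one.1 hsord.dvd, one_zpow]
      show (s ^ i * k) ^ p = 1
      rw [OddLocalBase.mul_pow_of_central _ _ ((Subgroup.mem_center_iff.1 hcen _).symm)
        ((Subgroup.mem_center_iff.1 hcen _).symm) p, hsp, hk.2, one_mul, one_mul, hq, pow_mul,
        hcp, one_pow]
    have hdE : d ∈ E := ⟨hd, orderOf_dvd_iff_pow_eq_one.1 hdp.dvd⟩
    have heE : e ∈ E := ⟨he, orderOf_dvd_iff_pow_eq_one.1 hep.dvd⟩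
    have h1 : Subgroup.zpowers e < E :=
      lt_of_le_of_ne (Subgroup.zpowers_le.2 heE) fun h => hcon (h ▸ hdE)
    have h2 : E < W := by
      refine lt_of_le_of_ne le_sup_right fun h => ?_
      have hsE : s ∈ E := h ▸ Subgroup.mem_sup_left (Subgroup.mem_zpowers s)
      have : (s : G) ∈ T ⊓ C := ⟨hsE.1, hsC⟩
      rw [hTC, Subgroup.mem_bot, OneMemClass.coe_eq_one, ← orderOf_eq_one_iff, hsord] at this
      exact hp1.ne_one this
    have h3 := card_mul_le_of_lt (hR.to_subgroup E) h1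
    have h4 := card_mul_le_of_lt (hR.to_subgroup W) h2
    have h5 := hWcard W hWexp
    rw [Nat.card_zpowers, hep] at h3
    nlinarith [hp1.two_le]
  exact ⟨⟨⟨fun a b => Subtype.ext (hTcomm _ a.2 _ b.2)⟩⟩, hTC, hTne, hTcyc, hCne, hCcyc, hR'T⟩

end nonabelian

theorem metacyclic_coprime (hp2 : p ≠ 2) (hR : IsPGroup p R) (hRm : Cfsg.IsMetacyclic R)
    (hA : A ≤ Subgroup.normalizer (R : Set G)) (hcop : (Nat.card A).Coprime p) :
    IsMulCommutative ↥⁅R, A⁆ ∧ ⁅R, A⁆ ⊔ (R ⊓ Subgroup.centralizer (A : Set G)) = R ∧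
      ⁅R, A⁆ ⊓ (R ⊓ Subgroup.centralizer (A : Set G)) = ⊥ ∧
      (¬ IsMulCommutative R → ¬ A ≤ Subgroup.centralizer (R : Set G) →
        ⁅R, A⁆ ≠ ⊥ ∧ IsCyclic ↥⁅R, A⁆ ∧ (R ⊓ Subgroup.centralizer (A : Set G)) ≠ ⊥ ∧
          IsCyclic ↥(R ⊓ Subgroup.centralizer (A : Set G)) ∧ ⁅R, R⁆ ≤ ⁅R, A⁆) := by
  have hcopR : (Nat.card A).Coprime (Nat.card R) := by
    obtain ⟨k, hk⟩ := IsPGroup.iff_card.1 hR
    rw [hk]; exact hcop.pow_right k
  have hsup := CoprimeAction.commutator_sup_centralizer_eq hA hcopR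
    (Or.inr (CoprimeAction.isSolvable_of_isPGroup hR))
  by_cases hab : IsMulCommutative R
  · refine ⟨⟨⟨fun a b => ?_⟩⟩, hsup, ?_, fun h => absurd hab h⟩
    · exact Subtype.ext (congrArg Subtype.val (mul_comm'
        (⟨a, CoprimeAction.commutator_le_self_of_le_normalizer hA a.2⟩ : R)
        ⟨b, CoprimeAction.commutator_le_self_of_le_normalizer hA b.2⟩) :)
    · rw [inf_comm]
      exact CoprimeAction.inf_centralizer_inf_commutator_eq_bot hA hcopR
  by_cases hne : A ≤ Subgroup.centralizer (R : Set G)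
  · have hbot : ⁅R, A⁆ = ⊥ := by
      rw [Subgroup.commutator_comm]
      exact Subgroup.commutator_eq_bot_iff_le_centralizer.2 hne
    refine ⟨⟨⟨fun a b => ?_⟩⟩, hsup, ?_, fun _ h => absurd hne h⟩
    · have ha : (a : G) ∈ (⊥ : Subgroup G) := hbot ▸ a.2
      have hb : (b : G) ∈ (⊥ : Subgroup G) := hbot ▸ b.2
      rw [Subgroup.mem_bot] at ha hb
      exact Subtype.ext (by simp [ha, hb])
    · rw [hbot, bot_inf_eq]
  obtain ⟨D⟩ := MetacyclicOdd.exists_data hR hRm
  have hn : D.n ≠ 0 := by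
    intro h
    apply hab
    have hc : D.c = 1 := by
      rw [← orderOf_eq_one_iff, MetacyclicOdd.Data.c, D.hord, h, pow_zero]
    refine ⟨⟨fun a b => ?_⟩⟩
    have hm : ⁅a, b⁆ ∈ commutator R :=
      Subgroup.commutator_mem_commutator (Subgroup.mem_top a) (Subgroup.mem_top b)
    rw [D.commutator_eq, hc, Subgroup.zpowers_one_eq_bot, Subgroup.mem_bot] at hm
    exact commutatorElement_eq_one_iff_mul_comm.1 hm
  obtain ⟨h1, h2, h3⟩ := main hR D hn hp2 hA hcop hRm hne
  exact ⟨h1, hsup, h2, fun _ _ => h3⟩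

end Cfsg.Agent.MetacyclicCoprimeAct
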