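import Cfsg.Agent.Lib.OddNarrow
import Cfsg.Agent.Lib.PGroupsCyclic
import Cfsg.Prelude.Def_OddOrderLocal

set_option autoImplicit false
open Subgroup

namespace Cfsg.Agent.BGNarrowSylow

universe u

variable {R : Type u} [Group R] [Finite R] {p : ℕ} [Fact p.Prime]

/-- A `p`-group with a maximal elementary abelian subgroup of order `p²` is narrow. -/
theorem isNarrow_of_maximal (hp2 : p ≠ 2) (hR : IsPGroup p R) (E : Subgroup R)
    (hE : Cfsg.IsElementaryAbelian p E) (hE2 : Nat.card E = p ^ 2)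
    (hEmax : ∀ B : Subgroup R, Cfsg.IsElementaryAbelian p B → E ≤ B → B = E) :
    Cfsg.IsNarrow p R := by
  by_cases hr : Cfsg.PRankLE p 2 R
  · exact Or.inl hr
  have hp : p.Prime := Fact.out
  obtain ⟨hET, hZ, -, hTch, hTi⟩ := OddNarrow.narrow hp2 hR hr E hE hE2 hEmax _ _ rfl rfl
  set Z : Subgroup R := closure {x : R | x ∈ center R ∧ x ^ p = 1} with hZdef
  set T := centralizer ((closure {x : R | x ∈ Subgroup.upperCentralSeries R 2 ∧ x ^ p = 1} :
    Subgroup R) : Set R) with hT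
  haveI : T.Normal := inferInstance
  obtain ⟨x, hxE, hxT⟩ := SetLike.not_le_iff_exists.1 hET
  have hZc : Z ≤ center R := (closure_le _).2 fun z hz => hz.1
  have hZT : Z ≤ T := fun z hz => mem_centralizer_iff.2 fun w _ =>
    mem_center_iff.1 (hZc hz) w
  have hZp : ∀ z ∈ Z, z ^ p = 1 := fun z hz => by
    have h : (⟨z, hz⟩ : Z) ^ Nat.card Z = 1 := pow_card_eq_one'
    rw [hZ] at h
    exact congrArg Subtype.val h
  have hZE : Z ≤ E := by
    intro z hz
    have hB := hEmax (E ⊔ zpowers z) (PGroupsBasic.isElementaryAbelian_sup hE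
      (PGroupsBasic.isElementaryAbelian_zpowers (hZp z hz)) (by
        intro a _ b hb
        obtain ⟨i, rfl⟩ := mem_zpowers_iff.1 hb
        exact ((show Commute a z from mem_center_iff.1 (hZc hz) a).zpow_right i).eq.symm)) le_sup_left
    exact hB ▸ mem_sup_right (mem_zpowers z)
  have hx1 : x ≠ 1 := fun h => hxT (h ▸ one_mem T)
  have hxo : orderOf x = p := orderOf_eq_prime (hE.2 x hxE) hx1
  set R₀ := zpowers x with hR₀
  have hR₀T : R₀ ⊓ T = ⊥ := by
    rw [eq_bot_iff]
    rintro y ⟨hy, hyT⟩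
    by_contra hne
    rw [mem_bot] at hne
    have h1 : Nat.card (zpowers y) = Nat.card R₀ := by
      rw [Nat.card_zpowers, Nat.card_zpowers, hxo]
      obtain ⟨i, rfl⟩ := mem_zpowers_iff.1 hy
      refine orderOf_eq_prime ?_ hne
      rw [← zpow_natCast, ← zpow_mul, mul_comm, zpow_mul, zpow_natCast, hE.2 x hxE, one_zpow]
    have h2 := eq_of_le_of_card_ge (zpowers_le.2 hy) h1.ge
    exact hxT (zpowers_le.2 hyT (show x ∈ zpowers y from h2 ▸ mem_zpowers x))
  have htop : T ⊔ R₀ = ⊤ := by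
    by_contra hne
    have h1 : (T ⊔ R₀).index ∣ p := hTi ▸ index_dvd_of_le le_sup_left
    rcases (Nat.dvd_prime hp).1 h1 with h | h
    · exact hne (index_eq_one.1 h)
    · have h2 : T ⊔ R₀ = T := by
        have h3 := relIndex_mul_index (le_sup_left : T ≤ T ⊔ R₀)
        rw [h, hTi] at h3
        have h4 : T.relIndex (T ⊔ R₀) = 1 := by
          exact Nat.eq_of_mul_eq_mul_right hp.pos (by rw [h3, one_mul])
        exact le_antisymm (relIndex_eq_one.1 h4) le_sup_left
      exact hxT (h2 ▸ mem_sup_right (mem_zpowers x))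
  set C := centralizer (R₀ : Set R) with hC
  have hR₀C : R₀ ≤ C := fun a ha => mem_centralizer_iff.2 fun b hb => by
    obtain ⟨i, rfl⟩ := mem_zpowers_iff.1 ha
    obtain ⟨j, rfl⟩ := mem_zpowers_iff.1 hb
    exact ((Commute.refl x).zpow_zpow j i).eq
  have hsup : R₀ ⊔ (C ⊓ T) = C := by
    refine le_antisymm (sup_le hR₀C inf_le_left) fun c hc => ?_
    obtain ⟨t, ht, r, hr', rfl⟩ := mem_sup_of_normal_left.1 (htop ▸ mem_top c)
    refine mul_mem (mem_sup_right ⟨?_, ht⟩) (mem_sup_left hr')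
    have := mul_mem hc (inv_mem (hR₀C hr'))
    rwa [mul_inv_cancel_right] at this
  have hET' : E ⊓ T = Z := by
    refine (eq_of_le_of_card_ge (le_inf hZE hZT) ?_).symm
    rw [hZ]
    obtain ⟨k, hk⟩ := IsPGroup.iff_card.1 (hR.to_subgroup (E ⊓ T))
    rw [hk]
    have hle : Nat.card (E ⊓ T : Subgroup R) < p ^ 2 := hE2 ▸
      lt_of_le_of_ne (card_le_of_le inf_le_left) fun h =>
        hET ((eq_of_le_of_card_ge inf_le_left h.ge).ge.trans inf_le_right)
    rw [hk] at hle
    have := (Nat.pow_lt_pow_iff_right hp.one_lt).1 hle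
    exact (Nat.pow_le_pow_right hp.pos (by omega)).trans (pow_one p).le
  -- elements of order `p` of `R₁`
  have hΩ : ∀ y ∈ C ⊓ T, y ^ p = 1 → y ∈ Z := by
    rintro y ⟨hyC, hyT⟩ hyp
    have hcomm : ∀ e ∈ E, Commute e y := by
      intro e he
      obtain ⟨t, ht, r, hr', rfl⟩ := mem_sup_of_normal_left.1 (htop ▸ mem_top e)
      have htE : t ∈ E := by
        have := mul_mem he (inv_mem (zpowers_le.2 hxE hr'))
        rwa [mul_inv_cancel_right] at this
      have htZ : t ∈ Z := hET' ▸ ⟨htE, ht⟩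
      exact Commute.mul_left (show Commute t y from (mem_center_iff.1 (hZc htZ) y).symm)
        ((mem_centralizer_iff.1 hyC) r hr')
    have hB := hEmax (E ⊔ zpowers y) (PGroupsBasic.isElementaryAbelian_sup hE
      (PGroupsBasic.isElementaryAbelian_zpowers hyp) (by
        intro a ha b hb
        obtain ⟨i, rfl⟩ := mem_zpowers_iff.1 hb
        exact ((hcomm a ha).zpow_right i).eq.symm)) le_sup_left
    exact hET' ▸ ⟨hB ▸ mem_sup_right (mem_zpowers y), hyT⟩
  have hcyc : IsCyclic ↥(C ⊓ T) := by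
    refine (PGroupsCyclic.isCyclic_or_quaternion (hR.to_subgroup (C ⊓ T)) fun H K hH hK => ?_).resolve_right
      fun h => hp2 h.1
    have key : ∀ L : Subgroup ↥(C ⊓ T), Nat.card L = p → L.map (C ⊓ T).subtype = Z := by
      intro L hL
      refine eq_of_le_of_card_ge ?_ (by rw [hZ, card_map_of_injective (C ⊓ T).subtype_injective, hL])
      rintro _ ⟨y, hy, rfl⟩
      refine hΩ y y.2 ?_
      have h : (⟨y, hy⟩ : L) ^ Nat.card L = 1 := pow_card_eq_one'
      rw [hL] at h
      exact congrArg (fun z : L => ((z : ↥(C ⊓ T)) : R)) h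
    exact map_injective (C ⊓ T).subtype_injective ((key H hH).trans (key K hK).symm)
  refine Or.inr ⟨R₀, C ⊓ T, by rw [Nat.card_zpowers, hxo], hcyc, ?_, ?_, hsup⟩
  · rw [eq_bot_iff, ← hR₀T]
    exact le_inf inf_le_left (inf_le_right.trans inf_le_right)
  · intro a ha b hb
    exact (mem_centralizer_iff.1 hb.1) a ha

end Cfsg.Agent.BGNarrowSylow
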