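import Cfsg.Agent.Lib.BGRankTwo
import Cfsg.Agent.Lib.PGroupsCritical

/-!
The derived group of an odd order solvable group acting on a normal `p`-subgroup `R` that has an
element whose centralizer in `R` has rank at most two: its `p'`-elements centralize `R`.
-/

set_option autoImplicit false
set_option linter.style.haveILetI false

namespace Cfsg.Agent.BGNarrowAction

open Subgroup
open scoped commutatorElement

universe u

section pgroup

variable {P : Type u} [Group P] [Finite P] {p : ℕ} [Fact p.Prime]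

theorem mul_card_le_of_lt (hP : IsPGroup p P) {A B : Subgroup P} (h : A < B) :
    Nat.card A * p ≤ Nat.card B := by
  obtain ⟨a, ha⟩ := IsPGroup.iff_card.1 (hP.to_subgroup A)
  obtain ⟨b, hb⟩ := IsPGroup.iff_card.1 (hP.to_subgroup B)
  have hlt : Nat.card A < Nat.card B := by
    refine lt_of_le_of_ne (card_le_of_le h.le) fun he => h.ne ?_
    exact eq_of_le_of_card_ge h.le he.ge
  rw [ha, hb] at hlt ⊢
  rw [← pow_succ]
  exact Nat.pow_le_pow_right (Fact.out : p.Prime).pos
    ((Nat.pow_lt_pow_iff_right (Fact.out : p.Prime).one_lt).1 hlt)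

omit [Fact p.Prime] in
/-- Counting through the map `v ↦ ⁅v, a⁆`. -/
theorem card_le_mul {N M : Subgroup P} {a : P} (h : ∀ v ∈ N, ⁅v, a⁆ ∈ M) :
    Nat.card N ≤ Nat.card M * Nat.card (N ⊓ centralizer ({a} : Set P) : Subgroup P) := by
  set C := (centralizer ({a} : Set P)).subgroupOf N with hC
  have heq : ∀ v w : N, QuotientGroup.leftRel C v w ↔ ⁅(v : P), a⁆ = ⁅(w : P), a⁆ := by
    intro v w
    rw [QuotientGroup.leftRel_apply, hC, mem_subgroupOf, mem_centralizer_singleton_iff,
      commutatorElement_def, commutatorElement_def, mul_left_inj, Subgroup.coe_mul, Subgroup.coe_inv]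
    constructor
    · intro e
      calc (v : P) * a * (v : P)⁻¹ = (v : P) * (a * ((v : P)⁻¹ * w)) * (w : P)⁻¹ := by group
        _ = (v : P) * (((v : P)⁻¹ * w) * a) * (w : P)⁻¹ := by rw [e]
        _ = w * a * (w : P)⁻¹ := by group
    · intro e
      calc (v : P)⁻¹ * w * a = (v : P)⁻¹ * (w * a * (w : P)⁻¹) * w := by group
        _ = (v : P)⁻¹ * (v * a * (v : P)⁻¹) * w := by rw [e]
        _ = a * ((v : P)⁻¹ * w) := by group
  let f : N ⧸ C → M := Quotient.lift (fun v : N => (⟨⁅(v : P), a⁆, h v v.2⟩ : M))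
    fun v w hvw => Subtype.ext ((heq v w).1 hvw)
  have hf : Function.Injective f := by
    intro x y
    refine Quotient.inductionOn₂ x y fun v w hvw => Quotient.sound ?_
    exact (heq v w).2 (congrArg Subtype.val hvw)
  have hcard : Nat.card C = Nat.card (N ⊓ centralizer ({a} : Set P) : Subgroup P) := by
    rw [← Subgroup.card_map_of_injective N.subtype_injective, hC, subgroupOf_map_subtype, inf_comm]
  rw [C.card_eq_card_quotient_mul_card_subgroup, ← hcard]
  exact Nat.mul_le_mul_right _ (Nat.card_le_card_of_injective f hf)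

omit [Finite P] [Fact p.Prime] in
theorem elem_le_sq {x : P} (hr : Cfsg.PRankLE p 2 ↥(centralizer ({x} : Set P))) {A : Subgroup P}
    (hA : Cfsg.IsElementaryAbelian p A) (hAx : A ≤ centralizer ({x} : Set P)) :
    Nat.card A ≤ p ^ 2 := by
  rw [← Nat.card_congr (subgroupOfEquivOfLe hAx).toEquiv]
  refine hr _ ⟨⟨fun u v => ?_⟩⟩ fun u hu => Subtype.ext ?_
  · exact Subtype.ext (Subtype.ext (PGroupsBasic.comm_of_isMulCommutative hA.1 u.2 v.2))
  · rw [SubgroupClass.coe_pow]
    exact hA.2 _ hu

/-- Three commuting elements of order `p` in the centralizer of `x`: no strict chain. -/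
theorem mem_closure_of_rank (hP : IsPGroup p P) {x u v : P}
    (hr : Cfsg.PRankLE p 2 ↥(centralizer ({x} : Set P)))
    (hx : x ^ p = 1) (hu : u ^ p = 1) (hv : v ^ p = 1) (hx1 : x ≠ 1)
    (hxu : Commute x u) (hxv : Commute x v) (huv : Commute u v) (hu' : u ∉ zpowers x) :
    v ∈ closure ({x, u} : Set P) := by
  by_contra hv'
  set A := closure ({x, u, v} : Set P) with hA
  have hAe : Cfsg.IsElementaryAbelian p A := by
    refine PGroupsBasic.isElementaryAbelian_closure ?_ ?_
    · rintro a (rfl | rfl | rfl) b (rfl | rfl | rfl) <;>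
        first | rfl | exact hxu.eq | exact hxu.eq.symm | exact hxv.eq | exact hxv.eq.symm |
          exact huv.eq | exact huv.eq.symm
    · rintro a (rfl | rfl | rfl) <;> assumption
  have hAx : A ≤ centralizer ({x} : Set P) := by
    rw [hA, closure_le]
    rintro a (rfl | rfl | rfl) <;> rw [SetLike.mem_coe, mem_centralizer_singleton_iff]
    · exact hxu.eq.symm
    · exact hxv.eq.symm
  have h1 : zpowers x < closure ({x, u} : Set P) := by
    refine lt_of_le_not_ge (zpowers_le.2 (subset_closure (by simp))) fun h => hu' (h ?_)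
    exact subset_closure (by simp)
  have h2 : closure ({x, u} : Set P) < A := by
    refine lt_of_le_not_ge (closure_mono ?_) fun h => hv' (h (subset_closure (by simp)))
    rintro a (rfl | rfl) <;> simp
  have h3 := mul_card_le_of_lt hP h1
  have h4 := mul_card_le_of_lt hP h2
  have h5 := elem_le_sq hr hAe hAx
  rw [Nat.card_zpowers, orderOf_eq_prime hx hx1] at h3
  have hp1 := (Fact.out : p.Prime).one_lt
  nlinarith [Nat.mul_le_mul_right p h3]

/-- The sections of a series `N, ⁅N, P⁆, …` in a class two subgroup of exponent `p` have order at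
most `p ^ 2` when some element has centralizer of rank at most two. -/
theorem card_le_commutator_mul (hP : IsPGroup p P) {x : P} (hx : x ^ p = 1) (hx1 : x ≠ 1)
    (hr : Cfsg.PRankLE p 2 ↥(centralizer ({x} : Set P))) {H N : Subgroup P} [N.Normal]
    (hH : ⁅H, (⊤ : Subgroup P)⁆ ≤ centralizer (H : Set P)) (hNH : N ≤ H)
    (hN : ∀ v ∈ N, v ^ p = 1) :
    Nat.card N ≤ Nat.card ↥⁅N, (⊤ : Subgroup P)⁆ * p ^ 2 := by
  set M := ⁅N, (⊤ : Subgroup P)⁆ with hM
  set C := N ⊓ centralizer ({x} : Set P) with hC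
  have hM' : ∀ v ∈ N, ∀ w, ⁅v, w⁆ ∈ M := fun v hv w => commutator_mem_commutator hv (mem_top w)
  have hcount := card_le_mul (a := x) fun v hv => hM' v hv x
  have hMN : M ≤ N := Subgroup.commutator_le_left _ _
  have hcen : ∀ v ∈ N, ∀ w, ∀ h ∈ H, Commute h ⁅v, w⁆ := fun v hv w h hh =>
    hH (commutator_mem_commutator (hNH hv) (mem_top w)) h hh
  have hCmem : ∀ v ∈ C, Commute x v := fun v hv =>
    (mem_centralizer_singleton_iff.1 hv.2).symm
  by_cases hab : ∀ a ∈ C, ∀ b ∈ C, a * b = b * a
  · refine hcount.trans (Nat.mul_le_mul_left _ (elem_le_sq hr ⟨?_, fun v hv => hN v hv.1⟩ inf_le_right))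
    exact PGroupsBasic.isMulCommutative_of_forall hab
  push Not at hab
  obtain ⟨a, ha, b, hb, hne⟩ := hab
  have hax := hCmem a ha
  have hbx := hCmem b hb
  -- every element of `M` centralizing `x` lies in `⟨x⟩`
  have hz : ∀ v ∈ N, ∀ w, Commute x ⁅v, w⁆ → ⁅v, w⁆ ∈ zpowers x := by
    intro v hv w hxz
    by_contra hcon
    have hzb : Commute b ⁅v, w⁆ := hcen v hv w b (hNH hb.1)
    have hmem := mem_closure_of_rank hP hr hx (hN _ (hMN (hM' v hv w))) (hN a ha.1) hx1 hxz hax
      (hcen v hv w a (hNH ha.1)).symm hcon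
    have hle : closure ({x, ⁅v, w⁆} : Set P) ≤ centralizer ({b} : Set P) := by
      rw [closure_le]
      rintro c (rfl | rfl) <;> rw [SetLike.mem_coe, mem_centralizer_singleton_iff]
      · exact hbx.eq
      · exact hzb.eq.symm
    exact hne (mem_centralizer_singleton_iff.1 (hle hmem))
  have hab1 : ⁅a, b⁆ ≠ 1 := fun h => hne (commutatorElement_eq_one_iff_mul_comm.1 h)
  have habx : Commute x ⁅a, b⁆ := by
    have : ⁅a, b⁆ ∈ centralizer ({x} : Set P) := by
      rw [commutatorElement_def]
      exact mul_mem (mul_mem (mul_mem ha.2 hb.2) (inv_mem ha.2)) (inv_mem hb.2)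
    exact (mem_centralizer_singleton_iff.1 this).symm
  have hzx := hz a ha.1 b habx
  -- hence `x ∈ ⟨⁅a, b⁆⟩` is central in `H`
  have hxz : x ∈ zpowers ⁅a, b⁆ := by
    have h1 : zpowers ⁅a, b⁆ ≤ zpowers x := zpowers_le.2 hzx
    have h2 : Nat.card (zpowers x) = p := by rw [Nat.card_zpowers, orderOf_eq_prime hx hx1]
    have h3 : Nat.card (zpowers ⁅a, b⁆) = p := by
      rw [Nat.card_zpowers, orderOf_eq_prime (hN _ (hMN (hM' a ha.1 b))) hab1]
    rw [eq_of_le_of_card_ge h1 (by rw [h2, h3])]
    exact mem_zpowers x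
  have hall : ∀ v ∈ H, Commute v x := by
    intro v hv
    obtain ⟨i, rfl⟩ := mem_zpowers_iff.1 hxz
    exact (hcen a ha.1 b v hv).zpow_right i
  have hN2 : ∀ v ∈ N, ⁅v, a⁆ ∈ zpowers x := fun v hv => hz v hv a <| by
    have h : ⁅v, a⁆ ∈ H := hNH (hMN (hM' v hv a))
    exact (hall _ h).symm
  have hax' : a ∉ zpowers x := by
    intro h
    obtain ⟨i, rfl⟩ := mem_zpowers_iff.1 h
    exact hne ((hbx.zpow_left i).eq)
  have hCa : N ⊓ centralizer ({a} : Set P) ≤ closure ({x, a} : Set P) := fun c hc =>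
    mem_closure_of_rank hP hr hx (hN a ha.1) (hN c hc.1) hx1 hax ((hall c (hNH hc.1)).symm)
      (mem_centralizer_singleton_iff.1 hc.2).symm hax'
  have hxa : Nat.card (closure ({x, a} : Set P)) ≤ p ^ 2 := by
    refine elem_le_sq hr (PGroupsBasic.isElementaryAbelian_closure ?_ ?_) ?_
    · rintro c (rfl | rfl) d (rfl | rfl) <;> first | rfl | exact hax.eq | exact hax.eq.symm
    · rintro c (rfl | rfl)
      · exact hx
      · exact hN _ ha.1
    · rw [closure_le]
      rintro c (rfl | rfl) <;> rw [SetLike.mem_coe, mem_centralizer_singleton_iff]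
      exact hax.eq.symm
  have h5 := card_le_mul (a := a) hN2
  rw [Nat.card_zpowers, orderOf_eq_prime hx hx1] at h5
  refine (h5.trans (Nat.mul_le_mul_left _ ((card_le_of_le hCa).trans hxa))).trans ?_
  refine Nat.mul_le_mul_right _ ?_
  have : zpowers ⁅a, b⁆ ≤ M := zpowers_le.2 (hM' a ha.1 b)
  calc p = Nat.card (zpowers ⁅a, b⁆) := by
        rw [Nat.card_zpowers, orderOf_eq_prime (hN _ (hMN (hM' a ha.1 b))) hab1]
    _ ≤ Nat.card M := card_le_of_le this

omit [Finite P] [Fact p.Prime] in
theorem commutator_top_ne [Group.IsNilpotent P] {N : Subgroup P} (h : N ≠ ⊥) :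
    ⁅N, (⊤ : Subgroup P)⁆ ≠ N := by
  intro he
  obtain ⟨n, hn⟩ := Subgroup.nilpotent_iff_lowerCentralSeries.mp ‹Group.IsNilpotent P›
  refine h (eq_bot_iff.2 (hn ▸ ?_))
  clear hn
  induction n with
  | zero => exact le_top
  | succ n ih =>
    rw [← he]
    exact commutator_mono ih le_top

end pgroup

section action

variable {G : Type u} [Group G] [Finite G] {p : ℕ} [Fact p.Prime]

theorem commute_of_centralizer_rank [Group.IsSolvable G] (hp2 : p ≠ 2) (hodd : Odd (Nat.card G))
    {R : Subgroup G} [R.Normal] (hR : IsPGroup p R) {x : R} (hx : x ^ p = 1) (hx1 : x ≠ 1)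
    (hr : Cfsg.PRankLE p 2 ↥(centralizer ({x} : Set R))) {y : G} (hy : y ∈ commutator G)
    (hcop : (orderOf y).Coprime p) : ∀ r ∈ R, Commute y r := by
  haveI : Group.IsNilpotent R := hR.isNilpotent
  obtain ⟨H₀, hH₀c, -, hH₀Z, hH₀C⟩ := PGroupsCritical.exists_critical hR
  haveI := hH₀c
  set H := H₀.map R.subtype with hH
  haveI : H.Normal := inferInstance
  have hHR : H ≤ R := map_subtype_le H₀
  have hcl : ∀ a ∈ H₀, ∀ b : R, ∀ c ∈ H₀, c * ⁅a, b⁆ = ⁅a, b⁆ * c := fun a ha b c hc =>
    (hH₀Z (commutator_mem_commutator ha (mem_top b))).2 c hc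
  let Ω : Subgroup G :=
    { carrier := {v | v ∈ H ∧ v ^ p = 1}
      one_mem' := ⟨one_mem _, one_pow _⟩
      mul_mem' := by
        rintro u v ⟨hu, hup⟩ ⟨hv, hvp⟩
        refine ⟨mul_mem hu hv, ?_⟩
        obtain ⟨u, hu, rfl⟩ := hu
        obtain ⟨v, hv, rfl⟩ := hv
        rw [← map_mul, ← map_pow]
        rw [← map_pow, map_eq_one_iff _ R.subtype_injective] at hup hvp
        have hzc : ∀ c ∈ H₀, Commute ⁅v⁻¹, u⁻¹⁆ c := fun c hc =>
          (hcl _ (inv_mem hv) u⁻¹ c hc).symm
        have hzp : ⁅v⁻¹, u⁻¹⁆ ^ p = 1 := by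
          set z := ⁅v⁻¹, u⁻¹⁆ with hz
          have hu' : v⁻¹ * u⁻¹ * v = z * u⁻¹ := by rw [hz, commutatorElement_def]; group
          have h1 : (z * u⁻¹) ^ p = 1 := by
            rw [← hu']
            have := conj_pow (i := p) (a := v⁻¹) (b := u⁻¹)
            rw [inv_inv] at this
            rw [this, inv_pow, hup]
            group
          rwa [(hzc _ (inv_mem hu)).mul_pow, inv_pow, hup, inv_one, mul_one] at h1
        have h := OmegaCoprime.mul_pow_class_two (z := ⁅v⁻¹, u⁻¹⁆) (x := u) (y := v)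
          (by rw [commutatorElement_def]; group) (hzc u hu) (hzc v hv) p
        obtain ⟨k, hk⟩ : p ∣ p.choose 2 := by
          refine (Fact.out : p.Prime).dvd_choose_self two_ne_zero ?_
          have := (Fact.out : p.Prime).two_le
          omega
        rw [h, hup, hvp, hk, pow_mul, hzp, one_pow, one_mul, mul_one, map_one]
      inv_mem' := by
        rintro u ⟨hu, hup⟩
        exact ⟨inv_mem hu, by rw [inv_pow, hup, inv_one]⟩ }
  haveI hΩn : Ω.Normal := ⟨fun v hv g => ⟨Subgroup.Normal.conj_mem inferInstance v hv.1 g,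
    by rw [conj_pow, hv.2, mul_one, mul_inv_cancel]⟩⟩
  have key : ∀ (n : ℕ) (N : Subgroup G), N.Normal → N ≤ Ω → Nat.card N = n →
      ∀ v ∈ N, Commute y v := by
    intro n
    induction n using Nat.strong_induction_on with
    | _ n ih =>
    intro N hNn hNΩ hn
    haveI := hNn
    rcases eq_or_ne N ⊥ with hN0 | hN0
    · intro v hv
      rw [hN0, mem_bot] at hv
      rw [hv]
      exact Commute.one_right y
    set M := ⁅N, R⁆ with hM
    have hNR : N ≤ R := fun v hv => hHR (hNΩ hv).1
    set N' := N.subgroupOf R with hN'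
    have hmapN : N'.map R.subtype = N := by rw [hN', subgroupOf_map_subtype, inf_eq_left.2 hNR]
    have hmapM : ⁅N', (⊤ : Subgroup R)⁆.map R.subtype = M := by
      rw [map_commutator, hmapN, ← MonoidHom.range_eq_map, R.range_subtype]
    have hcN : Nat.card N' = Nat.card N := by
      rw [← hmapN, Subgroup.card_map_of_injective R.subtype_injective]
    have hcM : Nat.card ↥⁅N', (⊤ : Subgroup R)⁆ = Nat.card M := by
      rw [← hmapM, Subgroup.card_map_of_injective R.subtype_injective]
    have hMN : M ≤ N := commutator_le_left _ _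
    have hMlt : Nat.card M < n := by
      rw [← hn]
      refine lt_of_le_of_ne (card_le_of_le hMN) fun he => ?_
      refine commutator_top_ne (N := N') (fun h => hN0 (by rw [← hmapN, h, Subgroup.map_bot])) ?_
      exact eq_of_le_of_card_ge (commutator_le_left _ _) (by rw [hcN, hcM, he])
    have hbound : Nat.card N ≤ Nat.card M * p ^ 2 := by
      rw [← hcN, ← hcM]
      refine card_le_commutator_mul hR hx hx1 hr (H := H₀) (hH₀Z.trans inf_le_right) ?_ ?_
      · intro v hv
        obtain ⟨w, hw, hwv⟩ := (hNΩ hv).1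
        exact R.subtype_injective hwv ▸ hw
      · exact fun v hv => Subtype.ext (by simpa using (hNΩ hv).2)
    have hMc : ∀ v ∈ M, Commute y v :=
      ih _ hMlt M inferInstance (hMN.trans hNΩ) rfl
    set L := M.subgroupOf N with hL
    haveI : L.Normal := Subgroup.Normal.subgroupOf inferInstance N
    have hq : ∀ v : N ⧸ L, v ^ p = 1 := fun v => by
      obtain ⟨v, rfl⟩ := QuotientGroup.mk_surjective v
      rw [← QuotientGroup.mk_pow,
        show v ^ p = 1 from Subtype.ext (by simpa using (hNΩ v.2).2), QuotientGroup.mk_one]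
    letI : CommGroup (N ⧸ L) := { (inferInstance : Group (N ⧸ L)) with
      mul_comm := fun a b => by
        obtain ⟨a, rfl⟩ := QuotientGroup.mk_surjective a
        obtain ⟨b, rfl⟩ := QuotientGroup.mk_surjective b
        rw [← commutatorElement_eq_one_iff_mul_comm, ← QuotientGroup.mk'_apply,
          ← QuotientGroup.mk'_apply, ← map_commutatorElement, QuotientGroup.mk'_apply,
          QuotientGroup.eq_one_iff]
        exact commutator_mem_commutator a.2 (hNR b.2) }
    let ψ : G →* MulAut N := MulAut.conjNormal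
    have hmap : ∀ g : G, L.map (ψ g).toMonoidHom = L := by
      intro g
      refine le_antisymm (map_le_iff_le_comap.2 fun u hu => ?_) fun u hu => ?_
      · exact Subgroup.Normal.conj_mem (inferInstance : M.Normal) _ hu g
      · refine ⟨(ψ g).symm u, ?_, (ψ g).apply_symm_apply u⟩
        have h1 : (ψ g).symm u = ψ g⁻¹ u := by rw [map_inv]; rfl
        rw [h1]
        exact Subgroup.Normal.conj_mem (inferInstance : M.Normal) _ hu g⁻¹
    let φ : G →* MulAut (N ⧸ L) := MonoidHom.mk' (fun g => QuotientGroup.congr L L (ψ g) (hmap g))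
      (fun a b => MulEquiv.ext fun v => by
        obtain ⟨v, rfl⟩ := QuotientGroup.mk_surjective v
        show ((ψ (a * b) v : N) : N ⧸ L) = ((ψ a (ψ b v) : N) : N ⧸ L)
        rw [map_mul]; rfl)
    have hcard : Nat.card (N ⧸ L) ≤ p ^ 2 := by
      have h6 := L.card_eq_card_quotient_mul_card_subgroup
      rw [show Nat.card L = Nat.card M from Nat.card_congr (subgroupOfEquivOfLe hMN).toEquiv] at h6
      rw [h6, mul_comm (Nat.card M)] at hbound
      exact Nat.le_of_mul_le_mul_right hbound Nat.card_pos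
    have hφ : φ y = 1 := orderOf_eq_one_iff.1 (Nat.eq_one_of_dvd_coprimes hcop (orderOf_map_dvd φ y)
      (orderOf_dvd_of_pow_eq_one (BGRankTwo.action_pow hp2 hodd hq hcard φ hy)))
    refine OmegaCoprime.commute_of_fixed_comms (hR.to_le hNR)
      (fun v hv => Subgroup.Normal.conj_mem inferInstance v hv y) hcop fun v hv => hMc _ ?_
    have h' : ((ψ y ⟨v, hv⟩ : N) : N ⧸ L) = ((⟨v, hv⟩ : N) : N ⧸ L) := by
      show φ y ((⟨v, hv⟩ : N) : N ⧸ L) = _
      rw [hφ]; rfl
    have h2 := QuotientGroup.eq.1 h'.symm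
    exact h2
  have hHc : ∀ v ∈ H, Commute y v :=
    OmegaCoprime.commute_of_forall_pow_eq_one hp2 hcop H (hR.to_le hHR)
      (fun v hv => Subgroup.Normal.conj_mem inferInstance v hv y)
      fun v hv hvp => key _ Ω hΩn le_rfl rfl v ⟨hv, hvp⟩
  have hyR : zpowers y ≤ centralizer (R : Set G) := by
    refine CoprimeGen.le_centralizer_of_prod_action hR (hR.to_le hHR) ?_
      (by rw [normalizer_eq_top_iff.mpr inferInstance]; exact le_top) (hHR.trans le_normalizer)
      (zpowers_le.2 fun v hv => (hHc v hv).eq.symm) ?_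
    · rw [Nat.card_zpowers]
      exact (Nat.Prime.coprime_iff_not_dvd Fact.out).1 hcop.symm
    · intro r hr' z hz
      have hrH : r ∈ H := ⟨⟨r, hr'.1⟩, hH₀C fun c hc => Subtype.ext (hr'.2 c ⟨c, hc, rfl⟩), rfl⟩
      obtain ⟨i, rfl⟩ := mem_zpowers_iff.1 hz
      exact ((hHc r hrH).zpow_left i).eq
  exact fun r hr' => (hyR (mem_zpowers y) r hr').symm

end action

end Cfsg.Agent.BGNarrowAction
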