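import Mathlib
import Cfsg.Prelude.Def_CaseTheorems
import Cfsg.Prelude.Def_Transfer
import Cfsg.Agent.Lib.PGroupsBasic
import Cfsg.Agent.Lib.CoprimeGen

/-!
A finite p-group with an elementary abelian subgroup of order p^3 has a normal elementary abelian
subgroup of order p^2.
-/

set_option autoImplicit false

namespace Cfsg.Agent.NormalRankTwo

open Cfsg
open Cfsg.Agent.PGroupsBasic

variable {P : Type*} [Group P] [Finite P] {p : ℕ}

theorem exists_elementary_of_not_pRankLE [Fact p.Prime] {k : ℕ} (h : ¬ PRankLE p k P) :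
    ∃ E : Subgroup P, IsElementaryAbelian p E ∧ p ^ (k + 1) ≤ Nat.card E := by
  by_contra hcon
  apply h
  intro A hA hAp
  by_contra hlt
  obtain ⟨n, hn⟩ := exists_card_eq_pow_of_isPGroup (p := p)
    (isPGroup_of_isElementaryAbelian (A := A) ⟨hA, hAp⟩)
  refine hcon ⟨A, ⟨hA, hAp⟩, ?_⟩
  rw [hn] at hlt ⊢
  have : k < n := by
    by_contra hk
    exact hlt (Nat.pow_le_pow_right (Fact.out : p.Prime).pos (Nat.not_lt.mp hk))
  exact Nat.pow_le_pow_right (Fact.out : p.Prime).pos this

/-- A subgroup of a finite cyclic group consists of all solutions of `x ^ |D| = 1`. -/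
theorem mem_iff_pow_card {C : Type*} [Group C] [Finite C] [IsCyclic C] (D : Subgroup C) (x : C) :
    x ∈ D ↔ x ^ Nat.card D = 1 := by
  classical
  haveI := Fintype.ofFinite C
  refine ⟨fun hx => orderOf_dvd_iff_pow_eq_one.mp (Subgroup.orderOf_dvd_natCard _ hx), fun hx => ?_⟩
  have hsub : (D : Set C) = {x : C | x ^ Nat.card D = 1} := by
    refine Set.eq_of_subset_of_ncard_le
      (fun y hy => orderOf_dvd_iff_pow_eq_one.mp (Subgroup.orderOf_dvd_natCard _ hy)) ?_ (Set.toFinite _)
    rw [Set.ncard_eq_toFinset_card', Set.toFinset_ofFinset]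
    refine le_trans (IsCyclic.card_pow_eq_one_le Nat.card_pos) ?_
    rw [← Nat.card_coe_set_eq]
    exact le_rfl
  exact hsub.ge hx

theorem mem_of_pow_card {A D : Subgroup P} [IsCyclic A] (hD : D ≤ A) {x : P} (hx : x ∈ A)
    (h : x ^ Nat.card D = 1) : x ∈ D := by
  have := (mem_iff_pow_card (D.subgroupOf A) ⟨x, hx⟩).mpr (by
    rw [Nat.card_congr (Subgroup.subgroupOfEquivOfLe hD).toEquiv]
    exact Subtype.ext (by simpa using h))
  exact this

theorem normal_of_le_cyclic {A D : Subgroup P} [A.Normal] [IsCyclic A] (hD : D ≤ A) : D.Normal :=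
  ⟨fun x hx g => mem_of_pow_card hD ((inferInstance : A.Normal).conj_mem x (hD hx) g) (by
    rw [← MulAut.conj_apply, ← map_pow, orderOf_dvd_iff_pow_eq_one.mp (Subgroup.orderOf_dvd_natCard _ hx),
      map_one])⟩

/-- A maximal abelian normal subgroup of a finite p-group is its own centralizer. -/
theorem exists_selfCentralizing_normal [Fact p.Prime] (hP : IsPGroup p P) :
    ∃ A : Subgroup P, A.Normal ∧ IsMulCommutative A ∧ Subgroup.centralizer (A : Set P) = A := by
  obtain ⟨A, hA⟩ := (Set.toFinite {A : Subgroup P | A.Normal ∧ IsMulCommutative A}).exists_maximal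
    ⟨⊥, Subgroup.normal_bot, inferInstance⟩
  refine ⟨A, hA.1.1, hA.1.2, le_antisymm ?_ (le_centralizer_of_isMulCommutative hA.1.2)⟩
  by_contra hlt
  haveI := hA.1.1
  haveI : (Subgroup.centralizer (A : Set P)).Normal := inferInstance
  have hlt' : A < Subgroup.centralizer (A : Set P) :=
    lt_of_le_not_ge (le_centralizer_of_isMulCommutative hA.1.2) hlt
  obtain ⟨C, hC⟩ := exists_normal_succ (p := p) hP hlt'
  -- C is normal with index p over A
  have hCn : C.Normal := hC.1
  have hAC : A ≤ C := hC.2.1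
  have hCB : C ≤ Subgroup.centralizer (A : Set P) := hC.2.2.1
  have hcard : Nat.card C = p * Nat.card A := by rw [hC.2.2.2, mul_comm]
  have hne : A ≠ C := by
    rintro rfl
    have := Nat.card_pos (α := A)
    have h2 := (Fact.out : p.Prime).two_le
    nlinarith
  have hcomm : IsMulCommutative C := by
    obtain ⟨y, hy, hyA⟩ := SetLike.exists_of_lt (lt_of_le_of_ne hAC hne)
    have hCeq : C = A ⊔ Subgroup.zpowers y := by
      refine le_antisymm ?_ (sup_le hAC (Subgroup.zpowers_le.mpr hy))
      by_contra hle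
      have h1 : A ⊔ Subgroup.zpowers y ≤ C := sup_le hAC (Subgroup.zpowers_le.mpr hy)
      have d1 := Subgroup.card_dvd_of_le h1
      have d2 := Subgroup.card_dvd_of_le (le_sup_left : A ≤ A ⊔ Subgroup.zpowers y)
      rw [hcard] at d1
      obtain ⟨m, hm⟩ := d2
      rw [hm, mul_comm p] at d1
      rcases (Nat.dvd_prime (Fact.out : p.Prime)).mp (Nat.dvd_of_mul_dvd_mul_left Nat.card_pos d1) with
        rfl | rfl
      · have he : A = A ⊔ Subgroup.zpowers y :=
          Subgroup.eq_of_le_of_card_ge le_sup_left (by rw [hm, mul_one])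
        exact hyA (he ▸ Subgroup.mem_sup_right (Subgroup.mem_zpowers y))
      · exact hle (Subgroup.eq_of_le_of_card_ge h1 (by rw [hcard, hm, mul_comm])).ge
    rw [hCeq]
    refine isMulCommutative_of_le_centralizer ?_
    have hyc : ∀ a ∈ A, a * y = y * a := Subgroup.mem_centralizer_iff.mp (hCB hy)
    rw [sup_le_iff, Subgroup.zpowers_le]
    refine ⟨fun a ha => ?_, ?_⟩ <;>
      rw [Subgroup.sup_eq_closure, Subgroup.centralizer_closure, Subgroup.mem_centralizer_iff]
    · rintro b (hb | hb)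
      · exact comm_of_isMulCommutative hA.1.2 hb ha
      · obtain ⟨k, rfl⟩ := Subgroup.mem_zpowers_iff.mp hb
        exact ((show Commute a y from hyc a ha).zpow_right k).symm.eq
    · rintro b (hb | hb)
      · exact hyc b hb
      · obtain ⟨k, rfl⟩ := Subgroup.mem_zpowers_iff.mp hb
        exact ((Commute.refl y).zpow_left k).eq
  exact hne (le_antisymm hAC (hA.le_of_ge ⟨hCn, hcomm⟩ hAC))

theorem eq_of_inv_eq_of_pow_four {c e : P} (hinv : e * c * e⁻¹ = c⁻¹)
    (hfix : ∀ d ∈ Subgroup.zpowers c, d ^ 4 = 1 → e * d * e⁻¹ = d)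
    (h2 : ∃ k : ℕ, orderOf c = 2 ^ k) : c ^ 2 = 1 := by
  obtain ⟨k, hk⟩ := h2
  by_contra hne
  have hk2 : 2 ≤ k := by
    by_contra h
    apply hne
    rw [← orderOf_dvd_iff_pow_eq_one, hk]
    exact pow_dvd_pow 2 (show k ≤ 1 by omega) |>.trans (by simp)
  obtain ⟨j, rfl⟩ := Nat.exists_eq_add_of_le hk2
  have hd4 : (c ^ 2 ^ j) ^ 4 = 1 := by
    rw [← pow_mul, ← orderOf_dvd_iff_pow_eq_one, hk, pow_add, mul_comm]
    exact dvd_rfl
  have h1 := hfix (c ^ 2 ^ j) (Subgroup.pow_mem _ (Subgroup.mem_zpowers c) _) hd4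
  have h2 : e * c ^ 2 ^ j * e⁻¹ = (c ^ 2 ^ j)⁻¹ := by
    rw [← MulAut.conj_apply, map_pow, MulAut.conj_apply, hinv, inv_pow]
  rw [h1] at h2
  have h3 : c ^ (2 ^ j * 2) = 1 := by
    rw [pow_mul, pow_two]
    nth_rw 1 [h2]
    exact inv_mul_cancel _
  rw [← orderOf_dvd_iff_pow_eq_one, hk, pow_add, mul_comm (2 ^ 2)] at h3
  have := Nat.dvd_of_mul_dvd_mul_left (by positivity) h3
  norm_num at this

theorem exists_normal_elementary_sq [hp : Fact p.Prime] (hP : IsPGroup p P) (hrk : ¬ PRankLE p 2 P) :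
    ∃ U : Subgroup P, U.Normal ∧ IsElementaryAbelian p U ∧ Nat.card U = p ^ 2 := by
  obtain ⟨E, hE, hE3⟩ := exists_elementary_of_not_pRankLE hrk
  obtain ⟨A, hAn, hAc, hAA⟩ := exists_selfCentralizing_normal hP
  haveI := hAn
  by_cases hcyc : IsCyclic A
  swap
  · -- the elements of order dividing p of A form a normal subgroup
    let O : Subgroup P :=
      { carrier := {x | x ∈ A ∧ x ^ p = 1}
        one_mem' := ⟨one_mem _, one_pow _⟩
        mul_mem' := fun {a b} ha hb => ⟨mul_mem ha.1 hb.1, by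
          rw [(show Commute a b from comm_of_isMulCommutative hAc ha.1 hb.1).mul_pow, ha.2, hb.2,
            one_mul]⟩
        inv_mem' := fun {a} ha => ⟨inv_mem ha.1, by rw [inv_pow, ha.2, inv_one]⟩ }
    haveI : O.Normal := ⟨fun x hx g => ⟨hAn.conj_mem x hx.1 g, by
      rw [← MulAut.conj_apply, ← map_pow, hx.2, map_one]⟩⟩
    have hOe : IsElementaryAbelian p O :=
      ⟨isMulCommutative_mono hAc fun x hx => hx.1, fun x hx => hx.2⟩
    obtain ⟨n, hn⟩ := exists_card_eq_pow_of_isPGroup (p := p) (isPGroup_of_isElementaryAbelian hOe)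
    have hn2 : 2 ≤ n := by
      by_contra hlt
      haveI := hAc
      obtain ⟨q, hq, hqA, a, ha, b, hb, hab, haq, hbq, hb1, hna⟩ :=
        CoprimeGen.exists_pair_of_not_isCyclic A hcyc
      obtain ⟨m, hm⟩ := IsPGroup.iff_card.mp (hP.to_subgroup A)
      have hqp : q = p := (Nat.prime_dvd_prime_iff_eq hq hp.out).mp (hq.dvd_of_dvd_pow (hm ▸ hqA))
      subst hqp
      have haO : a ∈ O := ⟨ha, haq⟩
      have hbO : b ∈ O := ⟨hb, hbq⟩
      apply hna
      have heq : Subgroup.zpowers b = O := by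
        refine Subgroup.eq_of_le_of_card_ge (Subgroup.zpowers_le.mpr hbO) ?_
        rw [Nat.card_zpowers, orderOf_eq_prime hbq hb1, hn]
        calc q ^ n ≤ q ^ 1 := Nat.pow_le_pow_right hq.pos (by omega)
          _ = q := pow_one q
      rw [heq]
      exact haO
    obtain ⟨U, hUn, hUle, hUcard⟩ := exists_normal_card_pow (p := p) hP O 2
      (by rw [hn]; exact Nat.pow_le_pow_right hp.out.pos hn2)
    exact ⟨U, hUn, isElementaryAbelian_mono hOe hUle, hUcard⟩
  haveI := hcyc
  classical
  haveI := Fintype.ofFinite A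
  have hEA : ∀ K : Subgroup P, K ≤ E → K ≤ A → Nat.card K ≤ p := by
    intro K hKE hKA
    haveI : IsCyclic K := isCyclic_of_injective (Subgroup.inclusion hKA) (Subgroup.inclusion_injective hKA)
    exact card_le_prime_of_isCyclic (p := p) inferInstance fun x hx => hE.2 x (hKE hx)
  let φ : P →* MulAut A := MulAut.conjNormal
  have hker : φ.ker = A := by
    ext g
    rw [MonoidHom.mem_ker]
    constructor
    · intro hg
      rw [← hAA, Subgroup.mem_centralizer_iff]
      intro a ha
      have := congrArg (fun t : MulAut A => ((t ⟨a, ha⟩ : A) : P)) hg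
      simp [φ, MulAut.conjNormal_apply] at this
      calc a * g = (g * a * g⁻¹) * g := by rw [this]
        _ = g * a := by group
    · intro hg
      ext a
      simp [φ, MulAut.conjNormal_apply, comm_of_isMulCommutative hAc hg a.2]
  have hab : ∀ x y : MulAut A, x * y = y * x := fun x y =>
    (IsCyclic.mulAutMulEquiv A).injective (by rw [map_mul, map_mul, mul_comm])
  rcases hp.out.eq_two_or_odd' with rfl | hodd
  swap
  · exfalso
    obtain ⟨n, hn⟩ := (IsPGroup.iff_card.mp (hP.to_subgroup A))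
    haveI : IsCyclic (ZMod (Nat.card A))ˣ := by
      rw [hn]
      exact ZMod.isCyclic_units_of_prime_pow p hp.out (by
        rintro rfl
        exact absurd hodd (by decide)) n
    haveI : IsCyclic (MulAut A) :=
      isCyclic_of_injective (IsCyclic.mulAutMulEquiv A).toMonoidHom
        (IsCyclic.mulAutMulEquiv A).injective
    have himg : Nat.card (E.map φ) ≤ p := by
      refine card_le_prime_of_isCyclic (p := p) inferInstance ?_
      rintro _ ⟨x, hx, rfl⟩
      rw [← map_pow, hE.2 x hx, map_one]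
    have h1 : Nat.card (E.map φ) * Nat.card ↥(E ⊓ φ.ker) = Nat.card E := by
      have := Subgroup.relIndex_mul_relIndex ⊥ (E ⊓ φ.ker) E bot_le inf_le_left
      rw [Subgroup.relIndex_bot_left, Subgroup.relIndex_bot_left, Subgroup.inf_relIndex_left,
        Subgroup.relIndex_ker] at this
      rw [← this, mul_comm]
    have h2 := hEA (E ⊓ φ.ker) inf_le_left (inf_le_right.trans hker.le)
    have h3 := Nat.mul_le_mul himg h2
    rw [h1] at h3
    have h4 : p ^ 3 ≤ p ^ 2 := hE3.trans (h3.trans (le_of_eq (pow_two p).symm))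
    have h5 : (3 : ℕ) ≤ 2 := (Nat.pow_le_pow_iff_right hp.out.one_lt).mp h4
    omega
  -- p = 2
  obtain ⟨g0, hg0⟩ := IsCyclic.exists_generator (α := A)
  have hord4 : ∀ d d' : A, d ^ 4 = 1 → d' ^ 4 = 1 → d ^ 2 ≠ 1 → d' ∈ Subgroup.zpowers d := by
    intro d d' hd hd' hd2
    have hod : orderOf d = 4 := orderOf_eq_prime_pow (p := 2) (n := 1) (by simpa using hd2) (by simpa using hd)
    rw [mem_iff_pow_card, Nat.card_zpowers, hod]
    exact hd'
  let K : Subgroup P := E ⊓ Subgroup.centralizer {x : P | x ∈ A ∧ x ^ 4 = 1}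
  have hinv : ∀ x : P, ∀ d : A, d ^ 4 = 1 → d ^ 2 ≠ 1 → φ x d = d ∨ φ x d = d⁻¹ := by
    intro x d hd hd2
    obtain ⟨k, hk⟩ := Subgroup.mem_zpowers_iff.mp (hord4 d (φ x d) hd
      (by rw [← map_pow, hd, map_one]) hd2)
    have hd4 : d ^ (4 : ℤ) = 1 := by rw [zpow_ofNat, hd]
    have hkm : φ x d = d ^ (k % 4) := by
      rw [← hk]
      conv_lhs => rw [show k = k % 4 + 4 * (k / 4) by omega, zpow_add, zpow_mul, hd4, one_zpow, mul_one]
    have hlt : k % 4 = 0 ∨ k % 4 = 1 ∨ k % 4 = 2 ∨ k % 4 = 3 := by omega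
    have hne2 : (φ x d) ^ 2 ≠ 1 := by
      rw [← map_pow]
      exact fun h => hd2 ((φ x).injective (by rw [h, map_one]))
    rcases hlt with h | h | h | h <;> rw [h] at hkm
    · exact absurd (by rw [hkm, zpow_zero, one_pow]) hne2
    · exact Or.inl (by rw [hkm, zpow_one])
    · refine absurd ?_ hne2
      rw [hkm, ← zpow_natCast, ← zpow_mul]
      exact hd4
    · refine Or.inr ?_
      rw [hkm]
      apply eq_inv_of_mul_eq_one_left
      rw [← zpow_add_one]
      exact hd4
  have hK : ∃ e ∈ K, e ∉ A := by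
    by_cases hd : ∃ d : A, d ^ 4 = 1 ∧ d ^ 2 ≠ 1
    · obtain ⟨d, hd4, hd2⟩ := hd
      have hKmem : ∀ x ∈ E, φ x d = d → x ∈ K := by
        intro x hx hfix
        refine ⟨hx, ?_⟩
        rintro y ⟨hyA, hy4⟩
        obtain ⟨k, hk⟩ := Subgroup.mem_zpowers_iff.mp (hord4 d ⟨y, hyA⟩ hd4 (Subtype.ext (by simpa using hy4)) hd2)
        have hxd : Commute x (d : P) := by
          have := congrArg Subtype.val hfix
          simp [φ, MulAut.conjNormal_apply] at this
          show x * (d : P) = d * x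
          calc x * (d : P) = (x * d * x⁻¹) * x := by group
            _ = d * x := by rw [this]
        have := hxd.zpow_right k
        rw [← Subgroup.coe_zpow, hk] at this
        exact this.symm.eq
      by_contra hcon
      have hall : ∀ x ∈ K, x ∈ A := fun x hx => by_contra fun h => hcon ⟨x, hx, h⟩
      have h2 := hEA K inf_le_left hall
      have : K.relIndex E ≤ 2 := by
        by_cases hEK : ∀ x ∈ E, φ x d = d
        · rw [Subgroup.relIndex_eq_one.mpr fun x hx => hKmem x hx (hEK x hx)]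
          norm_num
        · simp only [not_forall] at hEK
          obtain ⟨x0, hx0, hx0d⟩ := hEK
          refine le_of_eq (Subgroup.relIndex_eq_two_iff.mpr ⟨x0, hx0, fun b hb => ?_⟩)
          rcases hinv b d hd4 hd2 with hbd | hbd
          · refine Or.inr ⟨hKmem b hb hbd, fun hc => ?_⟩
            apply hx0d
            have hb' : b ∈ K := hKmem b hb hbd
            have hx0K : x0 ∈ K := by simpa using K.mul_mem (K.inv_mem hb') hc
            have := hx0K.2 (d : P) ⟨d.2, by simpa using congrArg Subtype.val hd4⟩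
            apply Subtype.ext
            simp [φ, MulAut.conjNormal_apply, ← this]
          · refine Or.inl ⟨hKmem _ (E.mul_mem hb hx0) ?_, fun hbK => ?_⟩
            · rw [map_mul, MulAut.mul_apply]
              rcases hinv x0 d hd4 hd2 with h | h
              · exact absurd h hx0d
              · rw [h, map_inv, hbd, inv_inv]
            · have := hbK.2 (d : P) ⟨d.2, by simpa using congrArg Subtype.val hd4⟩
              have hfix : φ b d = d := Subtype.ext (by simp [φ, MulAut.conjNormal_apply, ← this])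
              rw [hbd] at hfix
              exact hd2 (by rw [pow_two]; nth_rw 1 [← hfix]; exact inv_mul_cancel _)
      have h3 : Nat.card E ≤ 2 * 2 := by
        have h4 := Subgroup.relIndex_mul_relIndex ⊥ K E bot_le inf_le_left
        rw [Subgroup.relIndex_bot_left, Subgroup.relIndex_bot_left] at h4
        rw [← h4]
        exact Nat.mul_le_mul h2 this
      have : (2 : ℕ) ^ 3 ≤ 2 * 2 := hE3.trans h3
      norm_num at this
    · have hall4 : ∀ y : A, y ^ 4 = 1 → y ^ 2 = 1 := fun y h => by_contra fun h2 => hd ⟨y, h, h2⟩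
      have hcent : ∀ x ∈ E, x ∈ K := by
        intro x hx
        refine ⟨hx, ?_⟩
        rintro y ⟨hyA, hy4⟩
        have hy2 := congrArg Subtype.val (hall4 ⟨y, hyA⟩ (Subtype.ext (by simpa using hy4)))
        simp at hy2
        have hsub : Subgroup.zpowers y ≤ A := Subgroup.zpowers_le.mpr hyA
        haveI := normal_of_le_cyclic hsub
        by_cases hy1 : y = 1
        · simp [hy1]
        refine (Subgroup.mem_center_iff.mp (le_center_of_card_eq_prime (p := 2) hP (N := Subgroup.zpowers y)
          ?_ (Subgroup.mem_zpowers y)) x).symm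
        rw [Nat.card_zpowers]
        exact orderOf_eq_prime hy2 hy1
      by_contra hcon
      have := hEA E le_rfl (fun x hx => by_contra fun h => hcon ⟨x, hcent x hx, h⟩)
      have : (2 : ℕ) ^ 3 ≤ 2 := hE3.trans this
      norm_num at this
  obtain ⟨e, heK, heA⟩ := hK
  obtain ⟨z, hzA, hz⟩ : ∃ z ∈ A, orderOf z = 2 := by
    refine exists_orderOf_eq_of_ne_bot (p := 2) (hP.to_subgroup A) ?_
    intro hb
    rw [hb] at hAA
    have : e ∈ Subgroup.centralizer ((⊥ : Subgroup P) : Set P) := by
      rw [Subgroup.mem_centralizer_iff]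
      intro y hy
      rw [Subgroup.mem_bot.mp hy]
      simp
    rw [hAA, ← hb] at this
    exact heA this
  have hAinv : ∀ c ∈ A, c ^ 2 = 1 → c ∈ Subgroup.zpowers z := by
    intro c hc hc2
    refine mem_of_pow_card (Subgroup.zpowers_le.mpr hzA) hc ?_
    rw [Nat.card_zpowers, hz, hc2]
  have he2 : e ^ 2 = 1 := hE.2 e heK.1
  have hconj : ∀ g : P, g * e * g⁻¹ * e⁻¹ ∈ Subgroup.zpowers z := by
    intro g
    set c := g * e * g⁻¹ * e⁻¹ with hcdef
    have hcA : c ∈ A := by
      rw [← hker, MonoidHom.mem_ker, hcdef, map_mul, map_mul, map_mul, hab (φ g), mul_assoc,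
        mul_assoc, ← mul_assoc (φ g), map_inv, map_inv, mul_inv_cancel, one_mul, mul_inv_cancel]
    have hinv' : e * c * e⁻¹ = c⁻¹ := by
      have h1 : (c * e) ^ 2 = 1 := by
        rw [hcdef, inv_mul_cancel_right, ← MulAut.conj_apply, ← map_pow, he2, map_one]
      have he' : e⁻¹ = e := inv_eq_of_mul_eq_one_left (by rw [← pow_two, he2])
      rw [he']
      apply eq_inv_of_mul_eq_one_right
      rw [← mul_assoc, ← mul_assoc, ← h1, pow_two, mul_assoc (c * e)]
    refine hAinv c hcA (eq_of_inv_eq_of_pow_four hinv' (fun d hd hd4 => ?_) ?_)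
    · have := heK.2 d ⟨Subgroup.zpowers_le.mpr hcA hd, hd4⟩
      rw [← this, mul_inv_cancel_right]
    · obtain ⟨k, hk⟩ := hP c
      obtain ⟨j, _, hj⟩ := (Nat.dvd_prime_pow Nat.prime_two).mp (orderOf_dvd_of_pow_eq_one hk)
      exact ⟨j, hj⟩
  have hzc : z ∈ Subgroup.center P := by
    haveI := normal_of_le_cyclic (A := A) (Subgroup.zpowers_le.mpr hzA)
    exact le_center_of_card_eq_prime (p := 2) hP (N := Subgroup.zpowers z)
      (by rw [Nat.card_zpowers, hz]) (Subgroup.mem_zpowers z)
  refine ⟨Subgroup.zpowers z ⊔ Subgroup.zpowers e, ?_, ?_, ?_⟩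
  · constructor
    intro n hn g
    have key : (Subgroup.zpowers z ⊔ Subgroup.zpowers e).map (MulAut.conj g).toMonoidHom ≤
        Subgroup.zpowers z ⊔ Subgroup.zpowers e := by
      rw [Subgroup.map_sup, MonoidHom.map_zpowers, MonoidHom.map_zpowers, sup_le_iff,
        Subgroup.zpowers_le, Subgroup.zpowers_le]
      constructor
      · show g * z * g⁻¹ ∈ _
        rw [Subgroup.mem_center_iff.mp hzc g, mul_inv_cancel_right]
        exact Subgroup.mem_sup_left (Subgroup.mem_zpowers z)
      · show g * e * g⁻¹ ∈ _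
        have h := Subgroup.mul_mem_sup (hconj g) (Subgroup.mem_zpowers e)
        rwa [inv_mul_cancel_right] at h
    exact key ⟨n, hn, rfl⟩
  · refine isElementaryAbelian_sup (isElementaryAbelian_zpowers (by rw [← hz, pow_orderOf_eq_one]))
      (isElementaryAbelian_zpowers he2) ?_
    intro a ha b hb
    obtain ⟨k, rfl⟩ := Subgroup.mem_zpowers_iff.mp ha
    obtain ⟨l, rfl⟩ := Subgroup.mem_zpowers_iff.mp hb
    exact ((show Commute z e from (Subgroup.mem_center_iff.mp hzc e).symm).zpow_zpow k l).symm.eq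
  · haveI : (Subgroup.zpowers z).Normal :=
      normal_of_le_center (Subgroup.zpowers_le.mpr hzc)
    have hz' : Nat.card (Subgroup.zpowers z) = 2 := by rw [Nat.card_zpowers, hz]
    have heo : orderOf e = 2 := orderOf_eq_prime he2 (fun h => heA (h ▸ one_mem _))
    rw [card_sup_of_normal, hz', Nat.card_zpowers, heo, pow_two]
    exact inf_zpowers_eq_bot (p := 2) heo fun h => heA (Subgroup.zpowers_le.mpr hzA h)

end Cfsg.Agent.NormalRankTwo
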