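import Mathlib
import Cfsg.Prelude.Def_Transfer
import Cfsg.Prelude.Def_CaseTheorems
import Cfsg.Agent.Lib.PGroupsBasic
import Cfsg.Agent.Lib.PGroupsCritical
import Cfsg.Agent.Lib.ClassTwoPow
import Cfsg.Agent.Lib.RankTwoOdd
import Cfsg.Agent.Lib.NormalRankTwo
import Cfsg.Agent.Lib.HallCore

/-!
Narrow `p`-groups, `p` odd.
-/

set_option autoImplicit false

namespace Cfsg.Agent.OddNarrow

open Subgroup
open scoped commutatorElement

variable {R : Type*} [Group R] [Finite R] {p : ℕ} [hp : Fact p.Prime]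

/-- A group of rank at least three has an element of order `p` in `C(E) \ E` for `|E| = p²` normal. -/
theorem exists_mem_centralizer (hR : IsPGroup p R) (hr : ¬ Cfsg.PRankLE p 2 R) (E : Subgroup R)
    [E.Normal] (hE : Cfsg.IsElementaryAbelian p E) (hE2 : Nat.card E = p ^ 2) :
    ∃ x ∈ centralizer (E : Set R), x ^ p = 1 ∧ x ∉ E := by
  obtain ⟨F, hF, hF3⟩ := NormalRankTwo.exists_elementary_of_not_pRankLE hr
  by_contra hcon
  push Not at hcon
  set C := centralizer (E : Set R) with hC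
  have hin : F ⊓ C ≤ E := fun x hx => hcon x hx.2 (hF.2 x hx.1)
  have hCn : C.Normal := normal_centralizer
  have hidx : C.relIndex F ≤ p :=
    (Nat.le_of_dvd (Nat.pos_of_ne_zero index_ne_zero_of_finite)
      (relIndex_dvd_index_of_normal C F)).trans (RankTwoOdd.index_centralizer_le hR E hE hE2.le)
  have hcard : Nat.card F = Nat.card (F ⊓ C : Subgroup R) * C.relIndex F := by
    rw [← (C.subgroupOf F).card_mul_index, ← inf_subgroupOf_left,
      Nat.card_congr (subgroupOfEquivOfLe inf_le_left).toEquiv]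
    congr 1
    rw [inf_subgroupOf_left]; rfl
  have hpos : 0 < p := hp.out.pos
  by_cases heq : F ⊓ C = E
  · have hEF : E ≤ F := heq ▸ inf_le_left
    have hFC : F ≤ C := fun f hf => mem_centralizer_iff.2 fun e he =>
      PGroupsBasic.comm_of_isMulCommutative hF.1 (hEF he) hf
    rw [inf_eq_left.2 hFC] at heq
    rw [heq, hE2] at hF3
    exact absurd hF3 (not_le.2 (Nat.pow_lt_pow_right hp.out.one_lt (by norm_num)))
  · have hlt : Nat.card (F ⊓ C : Subgroup R) < p ^ 2 :=
      hE2 ▸ lt_of_le_of_ne (card_le_of_le hin) fun h => heq (eq_of_le_of_card_ge hin h.ge)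
    have h3 : p ^ 3 ≤ Nat.card (F ⊓ C : Subgroup R) * p := hF3.trans (hcard ▸ Nat.mul_le_mul_left _ hidx)
    rw [pow_succ] at h3
    have := Nat.le_of_mul_le_mul_right h3 hpos
    omega

/-- In such a group a normal `E` of order `p²` is not maximal elementary abelian. -/
theorem exists_elementary_gt (hR : IsPGroup p R) (hr : ¬ Cfsg.PRankLE p 2 R) (E : Subgroup R)
    [E.Normal] (hE : Cfsg.IsElementaryAbelian p E) (hE2 : Nat.card E = p ^ 2) :
    ∃ B : Subgroup R, Cfsg.IsElementaryAbelian p B ∧ E < B := by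
  obtain ⟨x, hxC, hxp, hxE⟩ := exists_mem_centralizer hR hr E hE hE2
  refine ⟨E ⊔ zpowers x, PGroupsBasic.isElementaryAbelian_sup hE
    (PGroupsBasic.isElementaryAbelian_zpowers hxp) ?_, ?_⟩
  · intro a ha b hb
    obtain ⟨i, rfl⟩ := mem_zpowers_iff.1 hb
    exact ((show Commute a x from mem_centralizer_iff.1 hxC a ha).zpow_right i).eq.symm
  · exact lt_of_le_of_ne le_sup_left fun h => hxE (h ▸ mem_sup_right (mem_zpowers x))

theorem exists_scn_three (hp2 : p ≠ 2) (hR : IsPGroup p R) (hr : ¬ Cfsg.PRankLE p 2 R)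
    (E : Subgroup R) [E.Normal] (hE : Cfsg.IsElementaryAbelian p E) (hE2 : Nat.card E = p ^ 2) :
    ∃ A : Subgroup R, E ≤ A ∧ A.Normal ∧ centralizer (A : Set R) = A ∧ ¬ Cfsg.PRankLE p 2 A := by
  obtain ⟨B, hEB, hBmax⟩ := Finite.exists_le_maximal
    (p := fun B : Subgroup R => B.Normal ∧ Cfsg.IsElementaryAbelian p B) (a := E) ⟨inferInstance, hE⟩
  obtain ⟨hBn, hB⟩ := hBmax.1
  have hne : B ≠ E := by
    intro h
    subst h
    obtain ⟨x, hxC, hxp, hxE⟩ := exists_mem_centralizer hR hr B hE hE2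
    exact hxE (RankTwoOdd.mem_of_mem_centralizer hp2 hR hE
      (fun D hD1 hD2 h => le_antisymm (hBmax.2 ⟨hD1, hD2⟩ h) h) hxC hxp)
  obtain ⟨A, hBA, hAmax⟩ := Finite.exists_le_maximal
    (p := fun A : Subgroup R => A.Normal ∧ IsMulCommutative A) (a := B) ⟨hBn, hB.1⟩
  obtain ⟨hAn, hAc⟩ := hAmax.1
  refine ⟨A, hEB.trans hBA, hAn, PGroupsCritical.centralizer_eq_of_maximal hR A hAc
    (fun D h1 h2 h => le_antisymm (hAmax.2 ⟨h1, h2⟩ h) h), fun hle => ?_⟩
  have h1 := hle (B.subgroupOf A)
    (PGroupsBasic.isMulCommutative_of_forall fun a ha b hb => Subtype.ext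
      (PGroupsBasic.comm_of_isMulCommutative hB.1 ha hb))
    (fun a ha => Subtype.ext (hB.2 a ha))
  rw [Nat.card_congr (subgroupOfEquivOfLe hBA).toEquiv, ← hE2] at h1
  exact hne (eq_of_le_of_card_ge hEB h1).symm

theorem narrow (hp2 : p ≠ 2) (hR : IsPGroup p R) (hr : ¬ Cfsg.PRankLE p 2 R)
    (E : Subgroup R) (hE : Cfsg.IsElementaryAbelian p E) (hE2 : Nat.card E = p ^ 2)
    (hEmax : ∀ B : Subgroup R, Cfsg.IsElementaryAbelian p B → E ≤ B → B = E)
    (Z W : Subgroup R) (hZdef : Z = closure {x : R | x ∈ center R ∧ x ^ p = 1})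
    (hWdef : W = closure {x : R | x ∈ Subgroup.upperCentralSeries R 2 ∧ x ^ p = 1}) :
    ¬ E ≤ centralizer (W : Set R) ∧ Nat.card Z = p ∧
      (Cfsg.IsElementaryAbelian p W ∧ Nat.card W = p ^ 2) ∧
      (centralizer (W : Set R)).Characteristic ∧ (centralizer (W : Set R)).index = p := by
  have hZmem : ∀ x, x ∈ Z ↔ x ∈ center R ∧ x ^ p = 1 := by
    intro x
    rw [hZdef]
    refine ⟨fun h => ?_, fun h => subset_closure h⟩
    induction h using closure_induction with
    | mem z hz => exact hz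
    | one => exact ⟨one_mem _, one_pow _⟩
    | mul a b _ _ ha hb => exact ⟨mul_mem ha.1 hb.1, by
        rw [(show Commute a b from mem_center_iff.1 hb.1 a).mul_pow, ha.2, hb.2, one_mul]⟩
    | inv a _ ha => exact ⟨inv_mem ha.1, by rw [inv_pow, ha.2, inv_one]⟩
  have hZ2 : ∀ x : R, x ∈ Subgroup.upperCentralSeries R 2 ↔ ∀ y : R, ⁅x, y⁆ ∈ center R := by
    intro x
    rw [Subgroup.mem_upperCentralSeries_succ_iff, Subgroup.upperCentralSeries_one]
  have hWmem : ∀ x, x ∈ W ↔ (∀ y : R, ⁅x, y⁆ ∈ center R) ∧ x ^ p = 1 := by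
    intro x
    rw [hWdef]
    refine ⟨fun h => ?_, fun h => subset_closure ⟨(hZ2 x).2 h.1, h.2⟩⟩
    rw [← hZ2]
    induction h using closure_induction with
    | mem z hz => exact hz
    | one => exact ⟨one_mem _, one_pow _⟩
    | mul a b _ _ ha hb =>
      have hc : ⁅b, a⁆ ∈ center R := (hZ2 b).1 hb.1 a
      refine ⟨mul_mem ha.1 hb.1, ?_⟩
      rw [ClassTwoPow.mul_pow_prime_central hp.out hp2 hc
        (by rw [← ClassTwoPow.commutator_pow_left hc, hb.2, commutatorElement_one_left]),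
        ha.2, hb.2, one_mul]
    | inv a _ ha => exact ⟨inv_mem ha.1, by rw [inv_pow, ha.2, inv_one]⟩
  have hcommZ : ∀ w ∈ W, ∀ g : R, ⁅w, g⁆ ∈ Z ∧ ⁅g, w⁆ ∈ Z := by
    intro w hw g
    obtain ⟨h1, h2⟩ := (hWmem w).1 hw
    have h3 : ⁅w, g⁆ ∈ Z := (hZmem _).2 ⟨h1 g, by
      rw [← ClassTwoPow.commutator_pow_left (h1 g), h2, commutatorElement_one_left]⟩
    exact ⟨h3, by rw [← commutatorElement_inv]; exact inv_mem h3⟩
  have hZc : Z ≤ center R := fun z hz => ((hZmem z).1 hz).1
  have hWn : W.Normal := ⟨fun w hw g => by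
    have h1 : g * w * g⁻¹ = ⁅g, w⁆ * w := by rw [commutatorElement_def]; group
    rw [h1]
    refine mul_mem ?_ hw
    have h2 := (hcommZ w hw g).2
    exact (hWmem _).2 ⟨fun y => by
      rw [commutatorElement_eq_one_iff_mul_comm.2 (mem_center_iff.1 (hZc h2) y).symm]
      exact one_mem _, ((hZmem _).1 h2).2⟩⟩
  -- `Z ≤ E`
  have hZE : Z ≤ E := by
    intro z hz
    obtain ⟨hzc, hzp⟩ := (hZmem z).1 hz
    have hB := hEmax (E ⊔ zpowers z) (PGroupsBasic.isElementaryAbelian_sup hE
      (PGroupsBasic.isElementaryAbelian_zpowers hzp) (by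
        intro a _ b hb
        obtain ⟨i, rfl⟩ := mem_zpowers_iff.1 hb
        exact ((show Commute a z from mem_center_iff.1 hzc a).zpow_right i).eq.symm)) le_sup_left
    exact hB ▸ mem_sup_right (mem_zpowers z)
  have hEnn : ¬ E.Normal := by
    intro hn
    obtain ⟨B, hB, hEB⟩ := exists_elementary_gt hR hr E hE hE2
    exact hEB.ne (hEmax B hB hEB.le).symm
  have hZEne : Z ≠ E := fun h => hEnn (h ▸ PGroupsBasic.normal_of_le_center hZc)
  have hEne : E ≠ ⊥ := by
    intro h
    rw [h, card_bot] at hE2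
    exact (Nat.one_lt_pow two_ne_zero hp.out.one_lt).ne hE2
  have hnt : Nontrivial R := by
    obtain ⟨x, hx, hx1⟩ := E.bot_or_exists_ne_one.resolve_left hEne
    exact ⟨x, 1, hx1⟩
  have hZcard : Nat.card Z = p := by
    obtain ⟨k, hk⟩ := IsPGroup.iff_card.mp (hR.to_subgroup Z)
    have hlt : Nat.card Z < p ^ 2 :=
      hE2 ▸ lt_of_le_of_ne (card_le_of_le hZE) fun h => hZEne (eq_of_le_of_card_ge hZE h.ge)
    have hk2 : k < 2 := (Nat.pow_lt_pow_iff_right hp.out.one_lt).1 (hk ▸ hlt)
    have hk0 : k ≠ 0 := by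
      rintro rfl
      rw [pow_zero, card_eq_one] at hk
      have := hR.center_nontrivial
      obtain ⟨z, hz, hzo⟩ := PGroupsBasic.exists_orderOf_eq_of_ne_bot (p := p) (H := center R)
        (hR.to_subgroup _) ((nontrivial_iff_ne_bot _).1 this)
      have hzZ : z ∈ Z := (hZmem z).2 ⟨hz, by rw [← hzo, pow_orderOf_eq_one]⟩
      rw [hk, mem_bot] at hzZ
      rw [hzZ, orderOf_one] at hzo
      exact hp.out.ne_one hzo.symm
    rw [hk, show k = 1 by omega, pow_one]
  have hZW : Z ≤ W := fun z hz => (hWmem z).2 ⟨fun y => by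
    rw [commutatorElement_eq_one_iff_mul_comm.2 (mem_center_iff.1 (hZc hz) y).symm]
    exact one_mem _, ((hZmem z).1 hz).2⟩
  -- `W` has order at least `p²`
  have hWge : p ^ 2 ≤ Nat.card W := by
    obtain ⟨N, hNn, hN, hN2⟩ := NormalRankTwo.exists_normal_elementary_sq hR hr
    have hNW : N ≤ W := by
      intro n hn
      refine (hWmem n).2 ⟨fun y => ?_, hN.2 n hn⟩
      have h1 : ⁅n, y⁆ ∈ N := by
        rw [commutatorElement_def, mul_assoc, mul_assoc]
        exact N.mul_mem hn (by simpa [mul_assoc] using hNn.conj_mem _ (N.inv_mem hn) y)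
      by_contra hc
      have hcard : Nat.card (N ⊓ center R : Subgroup R) = p := by
        obtain ⟨k, hk⟩ := IsPGroup.iff_card.mp (hR.to_subgroup (N ⊓ center R : Subgroup R))
        have hne : N ⊓ center R ≠ N := fun h => hc ((h ▸ inf_le_right : N ≤ center R) h1)
        have hlt : Nat.card (N ⊓ center R : Subgroup R) < p ^ 2 :=
          hN2 ▸ lt_of_le_of_ne (card_le_of_le inf_le_left)
            fun h => hne (eq_of_le_of_card_ge inf_le_left h.ge)
        have hk2 : k < 2 := (Nat.pow_lt_pow_iff_right hp.out.one_lt).1 (hk ▸ hlt)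
        have hk0 : k ≠ 0 := by
          rintro rfl
          rw [pow_zero, card_eq_one] at hk
          refine PGroupsBasic.inf_center_ne_bot hR (N := N) ?_ hk
          intro h
          rw [h, card_bot] at hN2
          exact (Nat.one_lt_pow two_ne_zero hp.out.one_lt).ne hN2
        rw [hk, show k = 1 by omega, pow_one]
      set Z' := N ⊓ center R
      have hZ'n : Z'.Normal := PGroupsBasic.normal_of_le_center inf_le_right
      have hq : Nat.card (N.map (QuotientGroup.mk' Z')) = p := by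
        have h := HallCore.card_map_mk'_mul Z' N inf_le_left
        rw [hcard, hN2, sq] at h
        exact Nat.eq_of_mul_eq_mul_right hp.out.pos h
      have : (N.map (QuotientGroup.mk' Z')).Normal :=
        Subgroup.Normal.map inferInstance _ (QuotientGroup.mk'_surjective Z')
      have hcen := PGroupsBasic.le_center_of_card_eq_prime (hR.to_quotient Z') hq
      have h2 : ⁅n, y⁆ ∈ Z' := by
        rw [← QuotientGroup.eq_one_iff]
        show QuotientGroup.mk' Z' ⁅n, y⁆ = 1
        rw [map_commutatorElement, commutatorElement_eq_one_iff_mul_comm]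
        exact (mem_center_iff.1 (hcen ⟨n, hn, rfl⟩) _).symm
      exact hc h2.2
    exact hN2 ▸ card_le_of_le hNW
  -- `E` does not centralize `W`
  have hEW : ¬ E ≤ W := fun h => hEnn ⟨fun e he g => by
    have h1 : g * e * g⁻¹ = ⁅g, e⁆ * e := by rw [commutatorElement_def]; group
    rw [h1]
    exact mul_mem (hZE (hcommZ e (h he) g).2) he⟩
  have hCE : ∀ w ∈ W, w ∈ centralizer (E : Set R) → w ∈ E := by
    intro w hw hwC
    have hB := hEmax (E ⊔ zpowers w) (PGroupsBasic.isElementaryAbelian_sup hE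
      (PGroupsBasic.isElementaryAbelian_zpowers ((hWmem w).1 hw).2) (by
        intro a ha b hb
        obtain ⟨i, rfl⟩ := mem_zpowers_iff.1 hb
        exact ((show Commute a w from mem_centralizer_iff.1 hwC a ha).zpow_right i).eq.symm)) le_sup_left
    exact hB ▸ mem_sup_right (mem_zpowers w)
  have hnot : ¬ E ≤ centralizer (W : Set R) := by
    intro h
    have hWE : W ≤ E := fun w hw => hCE w hw (mem_centralizer_iff.2 fun e he =>
      (mem_centralizer_iff.1 (h he) w hw).symm)
    exact hEW (eq_of_le_of_card_ge hWE (hE2 ▸ hWge)).ge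
  obtain ⟨x, hxE, hxW⟩ := SetLike.not_le_iff_exists.1 hnot
  -- `W` has order at most `p²`
  have hWcard : Nat.card W = p ^ 2 := by
    refine le_antisymm ?_ hWge
    let f : W →* Z :=
      { toFun := fun w => ⟨⁅(w : R), x⁆, (hcommZ w w.2 x).1⟩
        map_one' := Subtype.ext (commutatorElement_one_left x)
        map_mul' := fun a b => Subtype.ext
          (PGroupsBasic.commutatorElement_mul_left_of_central (hZc (hcommZ b b.2 x).1)) }
    have hker : f.ker.map W.subtype ≤ Z := by
      rintro _ ⟨w, hw, rfl⟩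
      have hwx : (w : R) * x = x * w := commutatorElement_eq_one_iff_mul_comm.1 (congrArg Subtype.val hw)
      have hxZ : x ∉ Z := fun h => hxW (mem_centralizer_iff.2 fun v _ => mem_center_iff.1 (hZc h) v)
      have hsup : Z ⊔ zpowers x = E := by
        refine eq_of_le_of_card_ge (sup_le hZE (zpowers_le.2 hxE)) ?_
        have : Z.Normal := PGroupsBasic.normal_of_le_center hZc
        rw [PGroupsBasic.card_sup_zpowers (orderOf_eq_prime (hE.2 x hxE) fun h => hxZ (h ▸ Z.one_mem))
          hxZ, hZcard, hE2, sq]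
      have hle : Z ⊔ zpowers x ≤ centralizer ({(w : R)} : Set R) :=
        sup_le (hZc.trans (center_le_centralizer _))
          (zpowers_le.2 (mem_centralizer_singleton_iff.2 hwx.symm))
      have hwE : (w : R) ∈ E := hCE w w.2 (mem_centralizer_iff.2 fun e he =>
        mem_centralizer_singleton_iff.1 (hle (hsup.symm ▸ he)))
      -- `E ⊓ W = Z`
      have hEWZ : Z = E ⊓ W := by
        refine eq_of_le_of_card_ge (le_inf hZE hZW) ?_
        rw [hZcard]
        obtain ⟨k, hk⟩ := IsPGroup.iff_card.mp (hR.to_subgroup (E ⊓ W : Subgroup R))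
        have hlt : Nat.card (E ⊓ W : Subgroup R) < p ^ 2 :=
          hE2 ▸ lt_of_le_of_ne (card_le_of_le inf_le_left)
            fun h => hEW (inf_eq_left.1 (eq_of_le_of_card_ge inf_le_left h.ge))
        have hk2 : k < 2 := (Nat.pow_lt_pow_iff_right hp.out.one_lt).1 (hk ▸ hlt)
        rw [hk]
        calc p ^ k ≤ p ^ 1 := Nat.pow_le_pow_right hp.out.pos (by omega)
          _ = p := pow_one p
      rw [hEWZ]
      exact ⟨hwE, w.2⟩
    have h1 := f.ker.card_mul_index
    rw [index_ker] at h1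
    rw [← h1, sq]
    refine Nat.mul_le_mul ?_ ((Finite.card_subtype_le _).trans hZcard.le)
    rw [Nat.card_congr (equivMapOfInjective f.ker W.subtype W.subtype_injective).toEquiv, ← hZcard]
    exact card_le_of_le hker
  have hWel : Cfsg.IsElementaryAbelian p W := by
    refine ⟨PGroupsBasic.isMulCommutative_of_forall fun a ha b hb => ?_, fun a ha => ((hWmem a).1 ha).2⟩
    have := PGroupsBasic.isMulCommutative_of_card_le_sq (hR.to_subgroup W) hWcard.le
    exact congrArg Subtype.val (this.is_comm.comm (⟨a, ha⟩ : W) ⟨b, hb⟩)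
  have hchar : W.Characteristic := by
    refine characteristic_iff_map_le.2 fun φ => ?_
    rintro _ ⟨w, hw, rfl⟩
    obtain ⟨h1, h2⟩ := (hWmem w).1 hw
    refine (hWmem _).2 ⟨fun y => ?_, by rw [← map_pow, h2, map_one]⟩
    have h3 : φ.toMonoidHom ⁅w, φ.symm y⁆ = ⁅φ.toMonoidHom w, y⁆ := by
      rw [map_commutatorElement]
      congr 1
      exact φ.apply_symm_apply y
    rw [← h3]
    exact mem_center_iff.2 fun g => φ.symm.injective (by
      simpa using mem_center_iff.1 (h1 (φ.symm y)) (φ.symm g))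
  refine ⟨hnot, hZcard, ⟨hWel, hWcard⟩, inferInstance, ?_⟩
  have hle := RankTwoOdd.index_centralizer_le hR W hWel hWcard.le
  obtain ⟨k, hk⟩ := IsPGroup.index hR (centralizer (W : Set R))
  rw [hk] at hle ⊢
  rcases k with _ | k
  · rw [pow_zero, index_eq_one] at hk
    exact absurd (hk ▸ le_top) hnot
  · rcases k with _ | k
    · rw [zero_add, pow_one]
    · exact absurd hle (not_le.2 (lt_of_lt_of_le
        (calc p = p ^ 1 := (pow_one p).symm
          _ < p ^ 2 := Nat.pow_lt_pow_right hp.out.one_lt one_lt_two)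
        (Nat.pow_le_pow_right hp.out.pos (by omega : 2 ≤ k + 1 + 1))))

end Cfsg.Agent.OddNarrow
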