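import Mathlib
import Cfsg.Prelude.Def_CaseTheorems
import Cfsg.Prelude.Def_OddOrderLocal
import Cfsg.Agent.Lib.PGroupsBasic
import Cfsg.Agent.Lib.PGroupsCritical
import Cfsg.Agent.Lib.OddNarrow
import Cfsg.Agent.Lib.BGNarrowAction
import Cfsg.Agent.Lib.OmegaCoprime
import Cfsg.Agent.Lib.CoprimeGen

/-! Automorphisms of order prime to `p` of a narrow `p`-group of rank at least three have order
dividing `p - 1`. -/

set_option autoImplicit false

namespace Cfsg.Agent.PGroupsNarrow

open Subgroup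
open scoped commutatorElement Pointwise

variable {R : Type*} [Group R] [Finite R] {p : ℕ} [hp : Fact p.Prime]

/-- The element `x`, the characteristic maximal subgroup `T` and the group `Z` of order `p`. -/
theorem exists_data (hp2 : p ≠ 2) (hR : IsPGroup p R) (hn : Cfsg.IsNarrow p R)
    (hr : ¬ Cfsg.PRankLE p 2 R) :
    ∃ (x : R) (T Z : Subgroup R), T.Characteristic ∧ T.index = p ∧ Nat.card Z = p ∧ x ^ p = 1 ∧ x ≠ 1 ∧
      Cfsg.PRankLE p 2 ↥(centralizer ({x} : Set R)) ∧
      ∀ v ∈ T, v ^ p = 1 → Commute v x → v ∈ Z := by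
  obtain ⟨R₀, R₁, h0, h1c, h01, hcomm, hC⟩ := hn.resolve_left hr
  haveI : IsCyclic R₀ := isCyclic_of_prime_card h0
  obtain ⟨⟨x, hx⟩, hxg⟩ := IsCyclic.exists_generator (α := R₀)
  have hR₀ : R₀ = zpowers x := le_antisymm (fun y hy => by
    obtain ⟨i, hi⟩ := mem_zpowers_iff.mp (hxg ⟨y, hy⟩)
    exact mem_zpowers_iff.mpr ⟨i, congrArg Subtype.val hi⟩) (zpowers_le.mpr hx)
  have hxo : orderOf x = p := by rw [← Nat.card_zpowers, ← hR₀, h0]
  have hxp : x ^ p = 1 := hxo ▸ pow_orderOf_eq_one x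
  have hx1 : x ≠ 1 := fun h => hp.out.one_lt.ne' (hxo.symm.trans (orderOf_eq_one_iff.mpr h))
  have hCx : centralizer (R₀ : Set R) = centralizer ({x} : Set R) := by
    rw [hR₀]
    refine le_antisymm (centralizer_le (Set.singleton_subset_iff.mpr (mem_zpowers x))) fun y hy => ?_
    refine mem_centralizer_iff.mpr fun w hw => ?_
    obtain ⟨i, rfl⟩ := mem_zpowers_iff.mp hw
    exact ((show Commute x y from (mem_centralizer_singleton_iff.mp hy).symm).zpow_left i).eq
  -- elements of exponent `p` of `C(x)`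
  set C := centralizer (R₀ : Set R) with hCdef
  have hCc : ∀ u ∈ C, ∀ v ∈ C, u * v = v * u := by
    haveI : IsMulCommutative R₁ :=
      PGroupsBasic.isMulCommutative_of_forall fun u hu v hv => by
        obtain ⟨g, hg⟩ := h1c.exists_generator
        obtain ⟨i, hi⟩ := mem_zpowers_iff.mp (hg ⟨u, hu⟩)
        obtain ⟨j, hj⟩ := mem_zpowers_iff.mp (hg ⟨v, hv⟩)
        have h := (Commute.refl g).zpow_zpow i j
        rw [hi, hj] at h
        exact congrArg Subtype.val h.eq
    haveI : IsMulCommutative R₀ := hR₀ ▸ inferInstance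
    have : C ≤ centralizer (C : Set R) := by
      rw [← hC]
      refine sup_le ?_ ?_ <;> rw [le_centralizer_iff] <;> refine sup_le ?_ ?_
      · exact PGroupsBasic.le_centralizer_of_isMulCommutative inferInstance
      · exact fun b hb => mem_centralizer_iff.mpr fun a ha => hcomm a ha b hb
      · exact fun a ha => mem_centralizer_iff.mpr fun b hb => (hcomm a ha b hb).symm
      · exact PGroupsBasic.le_centralizer_of_isMulCommutative inferInstance
    exact fun u hu v hv => (mem_centralizer_iff.mp (this hv) u hu)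
  let E : Subgroup R :=
    { carrier := {v | v ∈ C ∧ v ^ p = 1}
      one_mem' := ⟨one_mem _, one_pow _⟩
      mul_mem' := fun {u v} hu hv => ⟨mul_mem hu.1 hv.1, by
        rw [(show Commute u v from hCc u hu.1 v hv.1).mul_pow, hu.2, hv.2, one_mul]⟩
      inv_mem' := fun {u} hu => ⟨inv_mem hu.1, by rw [inv_pow, hu.2, inv_one]⟩ }
  have hEel : Cfsg.IsElementaryAbelian p E :=
    ⟨PGroupsBasic.isMulCommutative_of_forall fun u hu v hv => hCc u hu.1 v hv.1, fun u hu => hu.2⟩
  have hxC : x ∈ C := hCx ▸ mem_centralizer_singleton_iff.mpr rfl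
  have hxE : x ∈ E := ⟨hxC, hxp⟩
  have hEle : Nat.card E ≤ p ^ 2 := by
    let S : Subgroup R := R₀ ⊔ (E ⊓ R₁)
    have hES : E ≤ S := fun v hv => by
      have hn0 : R₁ ≤ normalizer (R₀ : Set R) := fun b hb => centralizer_le_normalizer _
        (mem_centralizer_iff.mpr fun a ha => hcomm a ha b hb)
      obtain ⟨a, ha, b, hb, rfl⟩ := Set.mem_mul.mp (show v ∈ (R₀ : Set R) * (R₁ : Set R) by
        rw [← coe_mul_of_right_le_normalizer_left _ _ hn0]; exact hC.ge hv.1)
      have hap : a ^ p = 1 := by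
        obtain ⟨i, rfl⟩ := mem_zpowers_iff.mp (hR₀.le ha)
        rw [← zpow_natCast, ← zpow_mul, mul_comm, zpow_mul, zpow_natCast, hxp, one_zpow]
      have hbp : b ^ p = 1 := by
        have := hv.2
        rwa [(show Commute a b from hcomm a ha b hb).mul_pow, hap, one_mul] at this
      exact mul_mem (mem_sup_left ha) (mem_sup_right ⟨⟨hC ▸ mem_sup_right hb, hbp⟩, hb⟩)
    have hcard : Nat.card ↥(E ⊓ R₁) ≤ p := by
      haveI : IsCyclic ↥(E ⊓ R₁) :=
        isCyclic_of_injective (inclusion inf_le_right) (inclusion_injective _)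
      rw [← IsCyclic.exponent_eq_card]
      exact Nat.le_of_dvd hp.out.pos (Monoid.exponent_dvd_of_forall_pow_eq_one fun u =>
        Subtype.ext (by simpa using u.2.1.2))
    calc Nat.card E ≤ Nat.card S := card_le_of_le hES
      _ ≤ Nat.card R₀ * Nat.card ↥(E ⊓ R₁) := by
          rw [← Nat.card_prod]
          refine Nat.card_le_card_of_surjective
            (fun q : R₀ × ↥(E ⊓ R₁) => (⟨(q.1 : R) * q.2, mul_mem (mem_sup_left q.1.2)
              (mem_sup_right q.2.2)⟩ : S)) fun ⟨v, hv⟩ => ?_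
          have hn0 : E ⊓ R₁ ≤ normalizer (R₀ : Set R) := fun b hb => centralizer_le_normalizer _
            (mem_centralizer_iff.mpr fun a ha => hcomm a ha b hb.2)
          obtain ⟨a, ha, b, hb, rfl⟩ := Set.mem_mul.mp (show v ∈ (R₀ : Set R) * ((E ⊓ R₁ : Subgroup R) : Set R) by
            rw [← coe_mul_of_right_le_normalizer_left _ _ hn0]; exact hv)
          exact ⟨(⟨a, ha⟩, ⟨b, hb⟩), rfl⟩
      _ ≤ p ^ 2 := by rw [h0, pow_two]; exact Nat.mul_le_mul_left p hcard
  -- a central element of order `p` outside `R₀`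
  have hxnc : x ∉ center R := by
    intro h
    have htop : C = ⊤ := eq_top_iff.mpr fun y _ => hCx ▸ mem_centralizer_singleton_iff.mpr
      (mem_center_iff.mp h y)
    refine hr fun A hA hAp => (card_le_of_le (K := E) fun v hv => ?_).trans hEle
    exact ⟨htop ▸ mem_top v, hAp v hv⟩
  haveI : Nontrivial R := ⟨⟨x, 1, hx1⟩⟩
  haveI := hR.center_nontrivial
  obtain ⟨n, hn'⟩ := IsPGroup.iff_card.1 (hR.to_subgroup (center R))
  have hn0 : n ≠ 0 := by
    rintro rfl
    have : 1 < Nat.card (center R) := Finite.one_lt_card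
    rw [hn', pow_zero] at this
    exact lt_irrefl _ this
  obtain ⟨⟨z, hzc⟩, hz⟩ := exists_prime_orderOf_dvd_card' (G := center R) p (hn' ▸ dvd_pow_self p hn0)
  rw [Subgroup.orderOf_mk] at hz
  have hzE : z ∈ E := ⟨hCx ▸ mem_centralizer_singleton_iff.mpr ((mem_center_iff.mp hzc x).symm),
    hz ▸ pow_orderOf_eq_one z⟩
  have hxz : x ∉ zpowers z := fun h => hxnc (zpowers_le.mpr hzc h)
  haveI : (zpowers z).Normal := PGroupsBasic.normal_of_le_center (zpowers_le.mpr hzc)
  have hEeq : zpowers z ⊔ zpowers x = E := eq_of_le_of_card_ge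
    (sup_le (zpowers_le.mpr hzE) (zpowers_le.mpr hxE))
    (by rw [PGroupsBasic.card_sup_zpowers hxo hxz, Nat.card_zpowers, hz, ← pow_two]; exact hEle)
  have hE2 : Nat.card E = p ^ 2 := le_antisymm hEle (by
    rw [← hEeq, PGroupsBasic.card_sup_zpowers hxo hxz, Nat.card_zpowers, hz, pow_two])
  have hEmax : ∀ B : Subgroup R, Cfsg.IsElementaryAbelian p B → E ≤ B → B = E := fun B hB hle =>
    le_antisymm (fun v hv => ⟨hCx ▸ mem_centralizer_singleton_iff.mpr
      (PGroupsBasic.comm_of_isMulCommutative hB.1 hv (hle hxE)), hB.2 v hv⟩) hle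
  obtain ⟨hEW, hZ, -, hTc, hTi⟩ := OddNarrow.narrow hp2 hR hr E hEel hE2 hEmax _ _ rfl rfl
  set W := closure {x : R | x ∈ Subgroup.upperCentralSeries R 2 ∧ x ^ p = 1}
  set T := centralizer (W : Set R) with hT
  have hzT : z ∈ T := center_le_centralizer _ hzc
  have hxT : x ∉ T := fun h => hEW (hEeq ▸ sup_le (zpowers_le.mpr hzT) (zpowers_le.mpr h))
  refine ⟨x, T, E ⊓ T, hTc, hTi, ?_, hxp, hx1, fun A hA hAp => ?_, fun v hv hvp hvx =>
    ⟨⟨hCx ▸ mem_centralizer_singleton_iff.mpr hvx.eq, hvp⟩, hv⟩⟩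
  · obtain ⟨j, hj2, hj⟩ := (Nat.dvd_prime_pow hp.out).mp
      (hE2 ▸ card_dvd_of_le (inf_le_left : E ⊓ T ≤ E))
    have h1 : p ≤ Nat.card ↥(E ⊓ T) := hz ▸ (Nat.card_zpowers z).symm.le.trans
      (card_le_of_le (zpowers_le.mpr ⟨hzE, hzT⟩))
    have h2 : j ≠ 2 := fun h => hxT ((eq_of_le_of_card_ge (inf_le_left : E ⊓ T ≤ E)
      (by rw [hj, h, hE2])).ge hxE).2
    have h3 : j ≠ 0 := fun h => by rw [hj, h, pow_zero] at h1; exact absurd h1 (not_le.mpr hp.out.one_lt)
    rw [hj, show j = 1 by omega, pow_one]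
  · rw [← card_map_of_injective (centralizer ({x} : Set R)).subtype_injective]
    refine (card_le_of_le (K := E) ?_).trans hEle
    rintro _ ⟨v, hv, rfl⟩
    refine ⟨?_, congrArg Subtype.val (hAp v hv)⟩
    rw [hCx]; exact v.2

section action

variable {G : Type*} [Group G] [Finite G]

/-- `a ^ (p - 1)` fixes a section of order at most `p` modulo a fixed subgroup. -/
theorem commute_step {N M : Subgroup G} [N.Normal] [M.Normal] (hMN : M ≤ N) (hN : IsPGroup p N)
    (hcard : Nat.card N ≤ Nat.card M * p) {a : G} (hcop : (orderOf a).Coprime p)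
    (hM : ∀ v ∈ M, Commute (a ^ (p - 1)) v) : ∀ v ∈ N, Commute (a ^ (p - 1)) v := by
  set L := M.subgroupOf N with hL
  haveI : L.Normal := Subgroup.Normal.subgroupOf inferInstance N
  let ψ : G →* MulAut N := MulAut.conjNormal
  have hmap : L.map (ψ a).toMonoidHom = L := by
    refine le_antisymm (map_le_iff_le_comap.2 fun u hu => ?_) fun u hu => ?_
    · exact Subgroup.Normal.conj_mem (inferInstance : M.Normal) _ hu a
    · refine ⟨(ψ a).symm u, ?_, (ψ a).apply_symm_apply u⟩
      have h1 : (ψ a).symm u = ψ a⁻¹ u := by rw [map_inv]; rfl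
      rw [h1]
      exact Subgroup.Normal.conj_mem (inferInstance : M.Normal) _ hu a⁻¹
  let φ : MulAut (N ⧸ L) := QuotientGroup.congr L L (ψ a) hmap
  have hφ : ∀ (i : ℕ) (v : N), (φ ^ i) (v : N ⧸ L) = ((ψ (a ^ i) v : N) : N ⧸ L) := by
    intro i
    induction i with
    | zero => intro v; simp
    | succ i ih =>
      intro v
      rw [pow_succ', MulAut.mul_apply, ih, pow_succ', map_mul, MulAut.mul_apply]
      rfl
  have hQ : Nat.card (N ⧸ L) ≤ p := by
    have h6 := L.card_eq_card_quotient_mul_card_subgroup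
    rw [show Nat.card L = Nat.card M from Nat.card_congr (subgroupOfEquivOfLe hMN).toEquiv] at h6
    rw [h6, mul_comm (Nat.card M)] at hcard
    exact Nat.le_of_mul_le_mul_right hcard Nat.card_pos
  have hφ1 : φ ^ (p - 1) = 1 := by
    obtain ⟨j, hj⟩ := IsPGroup.iff_card.1 (hN.to_quotient L)
    have hj1 : j ≤ 1 := (Nat.pow_le_pow_iff_right hp.out.one_lt).mp (by rw [← hj, pow_one]; exact hQ)
    rcases Nat.le_one_iff_eq_zero_or_eq_one.mp hj1 with rfl | rfl
    · rw [pow_zero] at hj
      haveI : Subsingleton (N ⧸ L) := (Nat.card_eq_one_iff_unique.mp hj).1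
      exact MulEquiv.ext fun v => Subsingleton.elim _ _
    · rw [pow_one] at hj
      haveI : IsCyclic (N ⧸ L) := isCyclic_of_prime_card hj
      have hd : orderOf φ ∣ p - 1 := by
        have := orderOf_dvd_natCard φ
        rwa [IsCyclic.card_mulAut, hj, Nat.totient_prime hp.out] at this
      exact orderOf_dvd_iff_pow_eq_one.mp hd
  refine OmegaCoprime.commute_of_fixed_comms hN
    (fun v hv => Subgroup.Normal.conj_mem inferInstance v hv _)
    (hcop.coprime_dvd_left (orderOf_pow_dvd _)) fun v hv => hM _ ?_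
  have h1 := hφ (p - 1) ⟨v, hv⟩
  rw [hφ1, MulAut.one_apply] at h1
  have h2 := QuotientGroup.eq.1 h1
  exact h2

/-- In rank at least three, the `(p - 1)`-st power of an operator of order prime to `p` is trivial. -/
theorem pow_pred_centralizes (hp2 : p ≠ 2) {R : Subgroup G} [R.Normal] (hR : IsPGroup p R)
    (hn : Cfsg.IsNarrow p R) (hr : ¬ Cfsg.PRankLE p 2 R) {a : G} (hcop : (orderOf a).Coprime p) :
    ∀ v ∈ R, Commute (a ^ (p - 1)) v := by
  haveI : Group.IsNilpotent R := hR.isNilpotent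
  obtain ⟨x, T, Z, hTc, hTi, hZ, hxp, -, -, hxZ⟩ := exists_data hp2 hR hn hr
  haveI := hTc
  have hcopb : (orderOf (a ^ (p - 1))).Coprime p := hcop.coprime_dvd_left (orderOf_pow_dvd _)
  obtain ⟨H₀, hH₀c, -, hH₀Z, hH₀C⟩ := PGroupsCritical.exists_critical hR
  haveI := hH₀c
  have hcl : ∀ u ∈ H₀, ∀ v : R, ∀ c ∈ H₀, c * ⁅u, v⁆ = ⁅u, v⁆ * c := fun u hu v c hc =>
    (hH₀Z (commutator_mem_commutator hu (mem_top v))).2 c hc
  let Ω : Subgroup R :=
    { carrier := {v | v ∈ H₀ ∧ v ^ p = 1}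
      one_mem' := ⟨one_mem _, one_pow _⟩
      mul_mem' := by
        rintro u v ⟨hu, hup⟩ ⟨hv, hvp⟩
        refine ⟨mul_mem hu hv, ?_⟩
        have hzc : ∀ c ∈ H₀, Commute ⁅v⁻¹, u⁻¹⁆ c := fun c hc =>
          (hcl _ (inv_mem hv) u⁻¹ c hc).symm
        have hzp : ⁅v⁻¹, u⁻¹⁆ ^ p = 1 := by
          set z := ⁅v⁻¹, u⁻¹⁆ with hz
          have hu' : v⁻¹ * u⁻¹ * v = z * u⁻¹ := by rw [hz, commutatorElement_def]; group
          have h1 : (z * u⁻¹) ^ p = 1 := by
            rw [← hu']
            have := conj_pow (i := p) (a := v⁻¹) (b := u⁻¹)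
            rw [inv_inv] at this
            rw [this, inv_pow, hup]
            group
          rwa [(hzc _ (inv_mem hu)).mul_pow, inv_pow, hup, inv_one, mul_one] at h1
        have h := OmegaCoprime.mul_pow_class_two (z := ⁅v⁻¹, u⁻¹⁆) (x := u) (y := v)
          (by rw [commutatorElement_def]; group) (hzc u hu) (hzc v hv) p
        obtain ⟨k, hk⟩ : p ∣ p.choose 2 := by
          refine hp.out.dvd_choose_self two_ne_zero ?_
          have := hp.out.two_le
          omega
        rw [h, hup, hvp, hk, pow_mul, hzp, one_pow, one_mul, mul_one]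
      inv_mem' := by
        rintro u ⟨hu, hup⟩
        exact ⟨inv_mem hu, by rw [inv_pow, hup, inv_one]⟩ }
  haveI hΩc : Ω.Characteristic := characteristic_iff_map_le.mpr fun φ => by
    rintro _ ⟨v, ⟨hv, hvp⟩, rfl⟩
    refine ⟨characteristic_iff_map_le.mp hH₀c φ ⟨v, hv, rfl⟩, ?_⟩
    show φ v ^ p = 1
    rw [← map_pow, hvp, map_one]
  -- the chain below `Ω ⊓ T`
  have key : ∀ (n : ℕ) (N : Subgroup R), N.Characteristic → N ≤ Ω ⊓ T → Nat.card N = n →
      ∀ v ∈ N.map R.subtype, Commute (a ^ (p - 1)) v := by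
    intro n
    induction n using Nat.strong_induction_on with
    | _ n ih =>
    intro N hNc hNle hn
    haveI := hNc
    rcases eq_or_ne N ⊥ with hN0 | hN0
    · rintro _ ⟨v, hv, rfl⟩
      rw [hN0] at hv
      rw [mem_bot.mp hv, map_one]
      exact Commute.one_right _
    set M := ⁅N, (⊤ : Subgroup R)⁆ with hM
    have hMN : M ≤ N := commutator_le_left _ _
    have hlt : Nat.card M < n := hn ▸ lt_of_le_of_ne (card_le_of_le hMN) fun he =>
      BGNarrowAction.commutator_top_ne hN0 (eq_of_le_of_card_ge hMN he.ge)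
    refine commute_step (M := M.map R.subtype) (map_mono hMN) (hR.to_le (map_subtype_le N)) ?_ hcop
      (ih _ hlt M inferInstance (hMN.trans hNle) rfl)
    rw [card_map_of_injective R.subtype_injective, card_map_of_injective R.subtype_injective]
    refine (BGNarrowAction.card_le_mul (a := x) fun v hv =>
      commutator_mem_commutator hv (mem_top x)).trans (Nat.mul_le_mul_left _ ?_)
    rw [← hZ]
    exact card_le_of_le fun v hv => hxZ v (hNle hv.1).2 (hNle hv.1).1.2
      (mem_centralizer_singleton_iff.mp hv.2)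
  have hΩ : ∀ v ∈ Ω.map R.subtype, Commute (a ^ (p - 1)) v := by
    refine commute_step (M := (Ω ⊓ T).map R.subtype) (map_mono inf_le_left)
      (hR.to_le (map_subtype_le Ω)) ?_ hcop (key _ (Ω ⊓ T) inferInstance le_rfl rfl)
    rw [card_map_of_injective R.subtype_injective, card_map_of_injective R.subtype_injective]
    have h1 := relIndex_mul_relIndex (⊥ : Subgroup R) (Ω ⊓ T) Ω bot_le inf_le_left
    rw [relIndex_bot_left, relIndex_bot_left, inf_relIndex_left] at h1
    rw [← h1]
    refine Nat.mul_le_mul_left _ (hTi ▸ Nat.le_of_dvd (hTi ▸ hp.out.pos) ?_)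
    haveI : T.Normal := inferInstance
    exact relIndex_dvd_index_of_normal T Ω
  set H := H₀.map R.subtype with hH
  have hHR : H ≤ R := map_subtype_le H₀
  have hHc : ∀ v ∈ H, Commute (a ^ (p - 1)) v :=
    OmegaCoprime.commute_of_forall_pow_eq_one hp2 hcopb H (hR.to_le hHR)
      (fun v hv => Subgroup.Normal.conj_mem inferInstance v hv _) fun v hv hvp => by
        obtain ⟨w, hw, rfl⟩ := hv
        exact hΩ _ ⟨w, ⟨hw, Subtype.ext (by simpa using hvp)⟩, rfl⟩
  have hyR : zpowers (a ^ (p - 1)) ≤ centralizer (R : Set G) := by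
    refine CoprimeGen.le_centralizer_of_prod_action hR (hR.to_le hHR) ?_
      (by rw [normalizer_eq_top_iff.mpr inferInstance]; exact le_top) (hHR.trans le_normalizer)
      (zpowers_le.2 fun v hv => (hHc v hv).eq.symm) ?_
    · rw [Nat.card_zpowers]
      exact hp.out.coprime_iff_not_dvd.1 hcopb.symm
    · intro r hr' z hz
      have hrH : r ∈ H := ⟨⟨r, hr'.1⟩, hH₀C fun c hc => Subtype.ext (hr'.2 c ⟨c, hc, rfl⟩), rfl⟩
      obtain ⟨i, rfl⟩ := mem_zpowers_iff.1 hz
      exact ((hHc r hrH).zpow_left i).eq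
  exact fun r hr' => (hyR (mem_zpowers _) r hr').symm

end action

end Cfsg.Agent.PGroupsNarrow
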