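import Cfsg.Agent.Lib.BGSigmaCore
import Cfsg.Agent.Lib.BGNarrowSylow
import Cfsg.Agent.Lib.TransferPResidual
import Cfsg.Agent.Lib.HallTheorem
import Cfsg.Agent.S1410
import Cfsg.Agent.S1454
import Cfsg.Agent.S1455

/-!
The beta core of a maximal subgroup (Bender-Glauberman 10.8).
-/

set_option autoImplicit false
set_option linter.style.haveILetI false
open Cfsg Cfsg.Agent Subgroup
open scoped commutatorElement

namespace Cfsg.Agent.BGBetaCore

universe u

section general

variable {X : Type u} [Group X] [Finite X]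

/-- With normal complements for all primes outside `π`, every `π`-element is in the `π`-core. -/
theorem mem_piCore_of_complements {π : Set ℕ}
    (h : ∀ p : ℕ, p.Prime → p ∣ Nat.card X → p ∉ π → Cfsg.HasNormalPComplement p X) {x : X}
    (hx : ∀ q : ℕ, q.Prime → q ∣ orderOf x → q ∈ π) : x ∈ Cfsg.piCore π X := by
  set s : Set X := {y | ∀ q : ℕ, q.Prime → q ∣ orderOf y → q ∈ π} with hs
  haveI : (closure s).Normal := ⟨fun n hn g => by
    have hle : closure s ≤ comap (MulAut.conj g).toMonoidHom (closure s) := by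
      refine (closure_le _).2 fun y hy => subset_closure ?_
      show ∀ q : ℕ, q.Prime → q ∣ orderOf ((MulAut.conj g) y) → q ∈ π
      rw [MulEquiv.orderOf_eq]; exact hy
    exact hle hn⟩
  refine HallCore.le_piCore (N := closure s) (fun p hp hd => ?_) (subset_closure hx)
  by_contra hpπ
  haveI := Fact.mk hp
  have hp' : p ∣ Nat.card X := hd.trans (card_subgroup_dvd_card _)
  have hle : closure s ≤ Cfsg.pResidual p X := by
    refine (closure_le _).2 fun y hy => ?_
    refine (TransferPResidual.mem_pResidual_iff_coprime (h p hp hp' hpπ) y).2 ?_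
    exact (hp.coprime_iff_not_dvd.2 fun hdy => hpπ (hy p hp hdy)).symm
  obtain ⟨g, hg⟩ := exists_prime_orderOf_dvd_card' p (hd.trans (card_dvd_of_le hle))
  have := (TransferPResidual.mem_pResidual_iff_coprime (h p hp hp' hpπ) (g : X)).1 g.2
  rw [Subgroup.orderOf_coe, hg, Nat.coprime_self] at this
  exact hp.one_lt.ne' this

/-- A group with normal `p`-complements for all `p` is nilpotent. -/
theorem isNilpotent_of_complements
    (h : ∀ p : ℕ, p.Prime → p ∣ Nat.card X → Cfsg.HasNormalPComplement p X) :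
    Group.IsNilpotent X := by
  refine ((isNilpotent_of_finite_tfae (G := X)).out 0 3).2 fun p hp S => ?_
  haveI := hp
  haveI := piCore_normal ({p} : Set ℕ) X
  have hpg : IsPGroup p (Cfsg.piCore ({p} : Set ℕ) X) :=
    HallCore.isPGroup_iff_piNat.2 (HallCore.piNat_card_piCore _ X)
  have hle : (S : Subgroup X) ≤ Cfsg.piCore ({p} : Set ℕ) X := by
    intro x hx
    refine mem_piCore_of_complements (fun q hq hd _ => h q hq hd) fun q hq hd => ?_
    obtain ⟨k, hk⟩ := IsPGroup.iff_orderOf.1 S.isPGroup' ⟨x, hx⟩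
    rw [orderOf_mk] at hk
    rw [hk] at hd
    exact Set.mem_singleton_iff.2 ((Nat.prime_dvd_prime_iff_eq hq hp.out).1 (hq.dvd_of_dvd_pow hd))
  exact S.is_maximal' hpg hle ▸ inferInstance

end general

variable {G : Type u} [Group G] [Finite G]

theorem isNarrow_sylow (hG : Cfsg.IsMinSimpleOddOrder G) {M : Subgroup G} (hM : IsCoatom M)
    {p : ℕ} [Fact p.Prime] (hpM : p ∣ Nat.card M) (hβ : p ∉ Cfsg.beta M) (S : Sylow p M) :
    Cfsg.IsNarrow p ↥(S : Subgroup M) := by
  have hp : p.Prime := Fact.out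
  have hp2 : p ≠ 2 := BGUnique.prime_ne_two hG (hpM.trans (card_subgroup_dvd_card M))
  by_cases hr : Cfsg.PRankLE p 2 M
  · exact Or.inl (BGRankTwo.pRankLE_of_injective (S : Subgroup M).subtype
      (S : Subgroup M).subtype_injective hr)
  have hσ : p ∈ Cfsg.sigma M := BGSigma.alpha_subset hG hM ⟨hp, hr⟩
  have hrG : ¬ Cfsg.PRankLE p 2 G := fun h =>
    hr (BGRankTwo.pRankLE_of_injective M.subtype M.subtype_injective h)
  have hni : ¬ ∀ (P : Sylow p G) (A : Subgroup G), A ≤ (P : Subgroup G) →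
      Cfsg.IsElementaryAbelian p A → Nat.card A = p ^ 2 →
      ∃ B : Subgroup G, B ≤ (P : Subgroup G) ∧ Cfsg.IsElementaryAbelian p B ∧ A < B :=
    fun h => hβ ⟨⟨hp, hr⟩, hp, hrG, h⟩
  push Not at hni
  obtain ⟨P, A, hAP, hA, hAc, hAmax⟩ := hni
  have hn : Cfsg.IsNarrow p ↥(P : Subgroup G) := by
    refine BGNarrowSylow.isNarrow_of_maximal hp2 P.isPGroup' (A.subgroupOf (P : Subgroup G))
      ⟨PGroupsBasic.isMulCommutative_of_forall fun a ha b hb => Subtype.ext
        (PGroupsBasic.comm_of_isMulCommutative hA.1 ha hb), fun a ha => Subtype.ext (hA.2 _ ha)⟩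
      (by rw [Nat.card_congr (subgroupOfEquivOfLe hAP).toEquiv, hAc]) fun B hB hle => ?_
    have hle' : A ≤ B.map (P : Subgroup G).subtype := fun a ha => ⟨⟨a, hAP ha⟩, hle ha, rfl⟩
    have hBe : Cfsg.IsElementaryAbelian p (B.map (P : Subgroup G).subtype) := by
      refine ⟨PGroupsBasic.isMulCommutative_of_forall ?_, ?_⟩
      · rintro _ ⟨a, ha, rfl⟩ _ ⟨b, hb, rfl⟩
        exact congrArg (Subtype.val) (PGroupsBasic.comm_of_isMulCommutative hB.1 ha hb)
      · rintro _ ⟨a, ha, rfl⟩
        rw [← map_pow, hB.2 a ha, map_one]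
    rcases hle'.lt_or_eq with hlt | heq
    · exact absurd hlt (hAmax _ (map_subtype_le _) hBe)
    · rw [heq]
      exact (BGSigma.subgroupOf_map_subtype_self (P : Subgroup G) B).symm
  obtain ⟨S', hS'⟩ := (BGSigma.isMaxP_top_of_sigma hσ (BGUnique.isMaxP_sylow M S)).exists_sylow_top
  exact S1454.isNarrow_of_equiv ((P.equiv S').trans ((MulEquiv.subgroupCongr hS').trans
    ((S : Subgroup M).equivMapOfInjective M.subtype M.subtype_injective).symm)) hn

/-- The structure of `M` at a prime outside `β(M)`. -/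
theorem structure_at (hG : Cfsg.IsMinSimpleOddOrder G) {M : Subgroup G} (hM : IsCoatom M)
    {p : ℕ} [Fact p.Prime] (hpM : p ∣ Nat.card M) (hβ : p ∉ Cfsg.beta M) :
    (∀ q : ℕ, q.Prime → q ∣ (Cfsg.pPrimeCore p M).index → q ≤ p) ∧
      Cfsg.HasNormalPComplement p ↥(commutator M) := by
  haveI := BGUnique.isSolvable_of_ne_top hG hM.1
  obtain ⟨h1, -, h3, -⟩ := S1455.result (BGUnique.odd_card_subgroup hG M) p hpM default
    (isNarrow_sylow hG hM hpM hβ default) fun _ => S1410.result hG p M hM.1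
  exact ⟨h1, h3⟩

theorem hasNormalPComplement_commutator (hG : Cfsg.IsMinSimpleOddOrder G) {M : Subgroup G}
    (hM : IsCoatom M) {p : ℕ} [Fact p.Prime] (hpM : p ∣ Nat.card M) (hβ : p ∉ Cfsg.beta M) :
    Cfsg.HasNormalPComplement p ↥⁅M, M⁆ :=
  TransferPResidual.hasNormalPComplement_of_injective
    ((MulEquiv.subgroupCongr (map_subtype_commutator M).symm).trans
      ((commutator M).equivMapOfInjective M.subtype M.subtype_injective).symm).toMonoidHom
    (MulEquiv.injective _) (structure_at hG hM hpM hβ).2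

/-- `M_β` is a Hall subgroup. -/
theorem hall_beta (hG : Cfsg.IsMinSimpleOddOrder G) {M : Subgroup G} (hM : IsCoatom M) :
    Cfsg.IsPiHallOf (Cfsg.beta M) (Cfsg.piCoreOf (Cfsg.beta M) M) M ∧
      Cfsg.IsPiHall (Cfsg.beta M) (Cfsg.piCoreOf (Cfsg.beta M) M) := by
  set β := Cfsg.beta M with hβ
  set X : Subgroup M := commutator M with hX
  haveI := HallCore.piCore_characteristic β X
  haveI : ((Cfsg.piCore β X).map X.subtype).Normal := ConjAct.normal_of_characteristic_of_normal
  have hle : (Cfsg.piCore β X).map X.subtype ≤ Cfsg.piCore β M :=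
    HallCore.le_piCore fun q hq hd => HallCore.piNat_card_piCore β X q hq
      (by rwa [card_map_of_injective X.subtype_injective] at hd)
  have hi : ∀ q : ℕ, q.Prime → q ∈ β → ¬ q ∣ ((Cfsg.piCore β M).map M.subtype).relIndex M := by
    intro q hq hqβ hd
    haveI := Fact.mk hq
    rw [relIndex, BGSigma.subgroupOf_map_subtype_self] at hd
    have hσ : q ∈ Cfsg.sigma M := BGSigma.alpha_subset hG hM hqβ.1
    have hS : ((default : Sylow q M) : Subgroup M) ≤ Cfsg.piCore β M := by
      intro x hx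
      refine hle ⟨⟨x, BGSigma.sylow_le_commutator hG hM hσ default hx⟩, ?_, rfl⟩
      refine mem_piCore_of_complements (fun p hp hp' hpβ => ?_) fun r hr hd => ?_
      · haveI := Fact.mk hp
        exact (structure_at hG hM (hp'.trans (card_subgroup_dvd_card X)) hpβ).2
      · obtain ⟨k, hk⟩ := IsPGroup.iff_orderOf.1 (default : Sylow q M).isPGroup' ⟨x, hx⟩
        rw [orderOf_mk] at hk
        rw [orderOf_mk, hk] at hd
        exact ((Nat.prime_dvd_prime_iff_eq hr hq).1 (hr.dvd_of_dvd_pow hd)) ▸ hqβ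
    exact (default : Sylow q M).not_dvd_index (hd.trans (index_dvd_of_le hS))
  have hc : ∀ q : ℕ, q.Prime → q ∣ Nat.card ↥((Cfsg.piCore β M).map M.subtype) → q ∈ β :=
    fun q hq hd => HallCore.piNat_card_piCore β M q hq (BGSigma.card_core β M ▸ hd)
  refine ⟨⟨map_subtype_le _, hc, hi⟩, hc, fun q hq hqβ hd => ?_⟩
  haveI := Fact.mk hq
  rw [Cfsg.piCoreOf, ← relIndex_mul_index (map_subtype_le (Cfsg.piCore β M))] at hd
  rcases hq.dvd_mul.1 hd with h | h
  · exact hi q hq hqβ h
  · exact BGSigma.not_dvd_index_of_sigma hG hM (BGSigma.alpha_subset hG hM hqβ.1) h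

/-- Subgroups of `M'` have nilpotent Hall `β'`-subgroups. -/
theorem exists_nilpotent_hall (hG : Cfsg.IsMinSimpleOddOrder G) {M : Subgroup G} (hM : IsCoatom M)
    {Y : Subgroup G} (hY : Y ≤ ⁅M, M⁆) :
    ∃ H : Subgroup G, Cfsg.IsPiHallOf {q | q.Prime ∧ q ∉ Cfsg.beta M} H Y ∧ Group.IsNilpotent H := by
  have hMM : ⁅M, M⁆ ≤ M := commutator_le.2 fun f hf g hg =>
    mul_mem (mul_mem (mul_mem hf hg) (inv_mem hf)) (inv_mem hg)
  haveI : Group.IsSolvable Y :=
    BGUnique.isSolvable_of_ne_top hG fun h => hM.1 (top_le_iff.1 (h ▸ hY.trans hMM))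
  obtain ⟨H, hHc, hHi⟩ := HallTheorem.exists_isPiHall_of_solvable (G := Y)
    {q | q.Prime ∧ q ∉ Cfsg.beta M}
  refine ⟨H.map Y.subtype, ⟨map_subtype_le _, fun q hq hd => hHc q hq
      (by rwa [card_map_of_injective Y.subtype_injective] at hd), fun q hq hqπ => ?_⟩, ?_⟩
  · rw [relIndex, BGSigma.subgroupOf_map_subtype_self]
    exact hHi q hq hqπ
  · refine isNilpotent_of_complements fun p hp hd => ?_
    haveI := Fact.mk hp
    have hd' : p ∣ Nat.card H := by rwa [card_map_of_injective Y.subtype_injective] at hd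
    refine TransferPResidual.hasNormalPComplement_mono ((map_subtype_le H).trans hY)
      (hasNormalPComplement_commutator hG hM ?_ (hHc p hp hd').2)
    exact hd.trans (card_dvd_of_le ((map_subtype_le H).trans (hY.trans hMM)))

end Cfsg.Agent.BGBetaCore
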