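import Cfsg.Agent.Lib.BGTauBasic62
import Cfsg.Agent.Lib.PLengthOne
import Cfsg.Agent.Lib.CoprimeGen
import Cfsg.Agent.Lib.CoprimeAction
import Cfsg.Agent.S1350
import Cfsg.Agent.S1410
import Cfsg.Agent.S1412

/-!
Nonabelian `p`-subgroups are uniqueness subgroups (Bender-Glauberman 12.13).
-/

set_option autoImplicit false
set_option linter.style.haveILetI false

namespace Cfsg.Agent.BGTau62

open Subgroup
open Cfsg.Agent.BGUnique
open scoped commutatorElement Pointwise

universe u

/-- A `p`-subgroup lies in a normal subgroup of index prime to `p`. -/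
theorem le_of_not_dvd_relIndex {G : Type u} [Group G] [Finite G] {p : ℕ} [hp : Fact p.Prime]
    {M N S : Subgroup G} (hSM : S ≤ M) (hn : M ≤ normalizer (N : Set G))
    (hi : ¬ p ∣ N.relIndex M) (hS : IsPGroup p S) : S ≤ N := by
  haveI : (N.subgroupOf M).Normal := normal_subgroupOf_of_le_normalizer hn
  intro s hs
  obtain ⟨k, hk⟩ := IsPGroup.iff_orderOf.1 hS ⟨s, hs⟩
  rw [Subgroup.orderOf_mk] at hk
  have h1 : ((⟨s, hSM hs⟩ : M) : M ⧸ N.subgroupOf M) = 1 := by
    rw [← orderOf_eq_one_iff]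
    refine Nat.eq_one_of_dvd_coprimes
      (((Nat.Prime.coprime_iff_not_dvd hp.out).2 hi).pow_left k) ?_ ?_
    · exact (orderOf_map_dvd (QuotientGroup.mk' _) _).trans (by rw [Subgroup.orderOf_mk, hk])
    · rw [relIndex, index_eq_card]; exact orderOf_dvd_natCard _
  exact (QuotientGroup.eq_one_iff (N := N.subgroupOf M) (⟨s, hSM hs⟩ : M)).1 h1

variable {G : Type u} [Group G] [Finite G] {p : ℕ} [hp : Fact p.Prime]

/-- `M` is the only maximal subgroup over the normalizer of `X`. -/
def Uniq (M X : Subgroup G) : Prop :=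
  normalizer (X : Set G) ≤ M ∧ ∀ L : Subgroup G, IsCoatom L → normalizer (X : Set G) ≤ L → L = M

omit [Finite G] in
theorem centralizer_le_of_conj {s a b : G} {M : Subgroup G} (hs : s ∈ M)
    (hab : s * a * s⁻¹ = b) (h : centralizer ({a} : Set G) ≤ M) :
    centralizer ({b} : Set G) ≤ M := by
  intro c hc
  rw [mem_centralizer_singleton_iff] at hc
  have h1 : s⁻¹ * c * s ∈ M := h (by
    rw [mem_centralizer_singleton_iff]
    have h2 : c * (s * a * s⁻¹) = s * a * s⁻¹ * c := by rw [hab]; exact hc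
    calc s⁻¹ * c * s * a = s⁻¹ * (c * (s * a * s⁻¹)) * s := by group
      _ = s⁻¹ * (s * a * s⁻¹ * c) * s := by rw [h2]
      _ = a * (s⁻¹ * c * s) := by group)
  have := M.mul_mem (M.mul_mem hs h1) (M.inv_mem hs)
  simpa [mul_assoc] using this

/-- Facts about a nonabelian group of order `p ^ 3` and exponent `p`. -/
theorem extraspecial_facts {P : Subgroup G} (hna : ¬ IsMulCommutative P)
    (hc : Nat.card P = p ^ 3) :
    Nat.card ↥(P ⊓ centralizer (P : Set G)) = p ∧
      ∀ a ∈ P, a ∉ P ⊓ centralizer (P : Set G) → ∀ t ∈ P ⊓ centralizer (P : Set G),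
        ∃ s ∈ P, s * a * s⁻¹ = t * a := by
  have hPp : IsPGroup p P := IsPGroup.of_card hc
  have hZ : P ⊓ centralizer (P : Set G) = (center P).map P.subtype := by
    ext x
    constructor
    · rintro ⟨hx, hxc⟩
      exact ⟨⟨x, hx⟩, mem_center_iff.2 fun g => Subtype.ext (mem_centralizer_iff.1 hxc g g.2), rfl⟩
    · rintro ⟨y, hy, rfl⟩
      exact ⟨y.2, mem_centralizer_iff.2 fun g hg =>
        congrArg Subtype.val (mem_center_iff.1 hy ⟨g, hg⟩)⟩
  obtain ⟨k, hk0, hk⟩ := IsPGroup.card_center_eq_prime_pow hc (by norm_num)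
  have hmul := (center P).card_mul_index
  rw [hk, hc] at hmul
  have hk3 : k ≤ 3 := (Nat.pow_dvd_pow_iff_le_right hp.out.one_lt).1 ⟨_, hmul.symm⟩
  have hi : (center P).index = p ^ (3 - k) := by
    refine Nat.eq_of_mul_eq_mul_left (Nat.pow_pos (n := k) hp.out.pos) ?_
    rw [hmul, ← pow_add]; congr 1; omega
  have hk1 : k = 1 := by
    by_contra hne
    refine hna ⟨⟨fun a b => ?_⟩⟩
    haveI : IsCyclic (P ⧸ center P) := by
      rcases (show k = 2 ∨ k = 3 by omega) with rfl | rfl
      · exact isCyclic_of_prime_card (p := p) (by rw [← index_eq_card, hi, pow_one])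
      · haveI : Subsingleton (P ⧸ center P) := (Nat.card_eq_one_iff_unique.1
          (by rw [← index_eq_card, hi, pow_zero])).1
        infer_instance
    exact commutative_of_cyclic_center_quotient (QuotientGroup.mk' (center P))
      (by rw [QuotientGroup.ker_mk']) a b
  subst hk1
  rw [pow_one] at hk
  have hcomm : commutator P ≤ center P :=
    PGroupsBasic.commutator_le_of_index_le_sq hPp (le_of_eq (by rw [hi]))
  refine ⟨by rw [hZ, card_map_of_injective P.subtype_injective, hk], fun a ha haZ t ht => ?_⟩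
  rw [hZ] at ht haZ
  obtain ⟨t', ht', rfl⟩ := ht
  obtain ⟨y, hy⟩ : ∃ y : P, ⁅y, (⟨a, ha⟩ : P)⁆ ≠ 1 := by
    by_contra h
    push Not at h
    exact haZ ⟨⟨a, ha⟩, mem_center_iff.2 fun g => commutatorElement_eq_one_iff_mul_comm.1 (h g), rfl⟩
  have hyZ : ⁅y, (⟨a, ha⟩ : P)⁆ ∈ center P :=
    hcomm (commutator_mem_commutator (mem_top _) (mem_top _))
  have hgen : zpowers ⁅y, (⟨a, ha⟩ : P)⁆ = center P := by
    rcases PGroupsBasic.le_or_inf_eq_bot hk (zpowers ⁅y, (⟨a, ha⟩ : P)⁆) with h | h
    · exact le_antisymm (zpowers_le.2 hyZ) h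
    · exact absurd (mem_bot.1 (h ▸ ⟨hyZ, mem_zpowers _⟩)) hy
  rw [← hgen] at ht'
  obtain ⟨i, rfl⟩ := (isOfFinOrder_of_finite _).mem_powers_iff_mem_zpowers.2 ht'
  refine ⟨(y ^ i : P), (y ^ i).2, ?_⟩
  have h := PGroupsBasic.commutatorElement_pow_left hyZ i
  have h2 := congrArg (fun z : P => (z : G) * a) h
  simpa [commutatorElement_def, mul_assoc] using h2

variable (hG : Cfsg.IsMinSimpleOddOrder G)
include hG

/-- BG 12.13, the crucial step. -/
theorem sylow_eq_of_two_coatoms (S : Sylow p G) (hna : ¬ IsMulCommutative (S : Subgroup G))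
    {M L : Subgroup G} (hM : IsCoatom M) (hL : IsCoatom L)
    (hNM : normalizer ((S : Subgroup G) : Set G) ≤ M)
    (hNL : normalizer ((S : Subgroup G) : Set G) ≤ L) : M = L := by
  by_contra hne
  have hSM : (S : Subgroup G) ≤ M := le_normalizer.trans hNM
  have hSL : (S : Subgroup G) ≤ L := le_normalizer.trans hNL
  have hSt : (S : Subgroup G) ≠ ⊤ := fun h => hM.1 (top_le_iff.1 (h ▸ hSM))
  have hr : Cfsg.PRankLE p 2 (S : Subgroup G) := by
    by_contra hr
    exact hne (eq_of_unique (BGSigma.unique_of_rank hG hSt hr) hM hSM hL hSL)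
  obtain h | ⟨P₁, P₂, hsup, -, hna1, hc3, hexp, -, -⟩ := S1412.result hG p S hr
  · exact hna h
  have hP1 : P₁ ≤ (S : Subgroup G) := hsup ▸ le_sup_left
  set Z := P₁ ⊓ centralizer (P₁ : Set G) with hZdef
  obtain ⟨hZc, hconj⟩ := extraspecial_facts hna1 hc3
  have hpow : ∀ a ∈ P₁, a ^ p = 1 := fun a ha => by
    have := Monoid.pow_exponent_eq_one (⟨a, ha⟩ : P₁)
    rw [hexp] at this
    exact congrArg Subtype.val this
  have hZP : Z ≤ P₁ := inf_le_left
  have hZcomm : ∀ t ∈ Z, ∀ a ∈ P₁, a * t = t * a := fun t ht a ha =>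
    mem_centralizer_iff.1 ht.2 a ha
  have hZE : Cfsg.IsElementaryAbelian p Z :=
    ⟨PGroupsBasic.isMulCommutative_of_forall fun a ha b hb => hZcomm b hb a (hZP ha),
      fun a ha => hpow a (hZP ha)⟩
  -- the plane through `x` and `Z`
  have hA : ∀ x ∈ P₁, x ∉ Z → Cfsg.IsElementaryAbelian p (Z ⊔ zpowers x : Subgroup G) ∧
      Nat.card ↥(Z ⊔ zpowers x) = p ^ 2 ∧ Z ⊔ zpowers x ≤ P₁ := by
    intro x hx hxZ
    have hle : Z ⊔ zpowers x ≤ P₁ := sup_le hZP (zpowers_le.2 hx)
    have hx1 : x ≠ 1 := fun h => hxZ (h ▸ one_mem Z)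
    have hZx : Z ≤ centralizer (zpowers x : Set G) := fun t ht =>
      mem_centralizer_iff.2 fun a ha => hZcomm t ht a (zpowers_le.2 hx ha)
    refine ⟨PGroupsBasic.isElementaryAbelian_sup hZE
      (PGroupsBasic.isElementaryAbelian_zpowers (hpow x hx)) hZx, ?_, hle⟩
    have hZn : (Z.subgroupOf P₁).Normal := by
      refine ⟨fun t ht g => ?_⟩
      have h1 : g * t * g⁻¹ = t := by
        refine Subtype.ext ?_
        simp only [coe_mul, coe_inv]
        rw [hZcomm t ht g g.2, mul_inv_cancel_right]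
      rw [h1]; exact ht
    have h2 := PGroupsBasic.card_sup_zpowers (H := Z.subgroupOf P₁) (x := ⟨x, hx⟩)
      (p := p) (by rw [Subgroup.orderOf_mk]
                   exact PGroupsBasic.orderOf_eq_of_pow_eq_one (hpow x hx) hx1) hxZ
    rw [Nat.card_congr (subgroupOfEquivOfLe hZP).toEquiv, hZc,
      ← card_map_of_injective P₁.subtype_injective, Subgroup.map_sup, map_subgroupOf_eq_of_le hZP,
      MonoidHom.map_zpowers] at h2
    rw [pow_two]
    exact h2
  -- in such a plane some line has normalizer only in `M`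
  have hline : ∀ {M L : Subgroup G}, IsCoatom M → IsCoatom L → M ≠ L →
      normalizer ((S : Subgroup G) : Set G) ≤ M → normalizer ((S : Subgroup G) : Set G) ≤ L →
      ∀ x ∈ P₁, x ∉ Z → ∃ A₀ ≤ Z ⊔ zpowers x, Nat.card A₀ = p ∧ Uniq M A₀ := by
    intro M L hM hL hne hNM hNL x hx hxZ
    obtain ⟨hE, hE2, hle⟩ := hA x hx hxZ
    have hAM : Z ⊔ zpowers x ≤ M := hle.trans (hP1.trans (le_normalizer.trans hNM))
    by_contra hcon
    push Not at hcon
    obtain ⟨hσ, -, hnil⟩ := (S1416.result hG M hM p _ ⟨hAM, hE, hE2⟩).2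
      fun A₀ h1 h2 h3 => hcon A₀ h1 h2 h3
    obtain ⟨⟨hle', -, hrel⟩, -, -⟩ := S1350.result hG M hM
    have hnorm : M ≤ normalizer (Cfsg.sigmaCore M : Set G) :=
      BGTransitivity.le_normalizer_piCoreOf _ le_normalizer
    have hSσ : (S : Subgroup G) ≤ Cfsg.sigmaCore M :=
      le_of_not_dvd_relIndex (le_normalizer.trans hNM) hnorm (hrel p hp.out hσ) S.isPGroup'
    haveI : (((S.subtype hSσ) : Sylow p (Cfsg.sigmaCore M)) : Subgroup (Cfsg.sigmaCore M)).Normal :=
      haveI := hnil
      inferInstance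
    haveI := Sylow.characteristic_of_normal (S.subtype hSσ) inferInstance
    have h1 := ComponentsCores.normalizer_le_normalizer_map_subtype (Cfsg.sigmaCore M)
      ((S.subtype hSσ : Sylow p (Cfsg.sigmaCore M)) : Subgroup (Cfsg.sigmaCore M))
    rw [Sylow.coe_subtype, map_subgroupOf_eq_of_le hSσ] at h1
    exact hne ((hM.le_iff.1 ((hnorm.trans h1).trans hNL)).resolve_left hL.1).symm
  -- one of `M`, `L` contains the centralizers of all noncentral elements
  have hcent : ∀ {M L : Subgroup G}, IsCoatom M → IsCoatom L → M ≠ L →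
      normalizer ((S : Subgroup G) : Set G) ≤ M → normalizer ((S : Subgroup G) : Set G) ≤ L →
      ¬ Uniq M Z → ∀ x ∈ P₁, x ∉ Z → centralizer ({x} : Set G) ≤ M := by
    intro M L hM hL hne hNM hNL hU x hx hxZ
    obtain ⟨A₀, hA₀, hA₀c, hA₀u⟩ := hline hM hL hne hNM hNL x hx hxZ
    have hne0 : A₀ ≠ Z := fun h => hU (h ▸ hA₀u)
    obtain ⟨a, ha, haZ⟩ := SetLike.not_le_iff_exists.1
      (fun h => hne0 (eq_of_le_of_card_ge h (by rw [hA₀c, hZc])))
    have haC : centralizer ({a} : Set G) ≤ M := by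
      refine le_trans ?_ ((centralizer_le_normalizer _).trans hA₀u.1)
      have : A₀ = zpowers a := by
        rcases PGroupsBasic.le_or_inf_eq_bot hA₀c (zpowers a) with h | h
        · exact le_antisymm h (zpowers_le.2 ha)
        · have ha' : a ∈ A₀ ⊓ zpowers a := ⟨ha, mem_zpowers a⟩
          rw [h, mem_bot] at ha'
          subst ha'
          exact absurd (one_mem Z) haZ
      rw [this, zpowers_eq_closure, centralizer_closure]
    have hle := (hA x hx hxZ).2.2
    haveI hn : ((Z).subgroupOf (Z ⊔ zpowers x)).Normal := by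
      refine normal_subgroupOf_of_le_normalizer ((sup_le le_normalizer (zpowers_le.2 ?_)))
      refine centralizer_le_normalizer _ (mem_centralizer_iff.2 fun t ht => ?_)
      exact (hZcomm t ht x hx).symm
    obtain ⟨t, ht, b, hb, hab⟩ : ∃ t ∈ Z, ∃ b ∈ zpowers x, a = t * b := by
      have h1 : zpowers x ≤ normalizer (Z : Set G) := zpowers_le.2 (centralizer_le_normalizer _
        (mem_centralizer_iff.2 fun t ht => (hZcomm t ht x hx).symm))
      have h2 : a ∈ ((Z ⊔ zpowers x : Subgroup G) : Set G) := hA₀ ha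
      rw [coe_mul_of_right_le_normalizer_left Z (zpowers x) h1] at h2
      obtain ⟨t, ht, b, hb, rfl⟩ := Set.mem_mul.1 h2
      exact ⟨t, ht, b, hb, rfl⟩
    have haP : a ∈ P₁ := hle (hA₀ ha)
    obtain ⟨s, hs, hsa⟩ := hconj a haP haZ t⁻¹ (inv_mem ht)
    have hsb : s * a * s⁻¹ = b := by rw [hsa, hab, inv_mul_cancel_left]
    refine le_trans ?_ (centralizer_le_of_conj (le_normalizer.trans hNM (hP1 hs)) hsb haC)
    intro c hc
    obtain ⟨i, rfl⟩ := mem_zpowers_iff.1 hb
    rw [mem_centralizer_singleton_iff] at hc ⊢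
    exact (Commute.zpow_right hc i).eq
  -- hence it contains every such maximal subgroup
  have hend : ∀ {M L : Subgroup G}, IsCoatom M → IsCoatom L →
      normalizer ((S : Subgroup G) : Set G) ≤ M → normalizer ((S : Subgroup G) : Set G) ≤ L →
      (∀ x ∈ P₁, x ∉ Z → centralizer ({x} : Set G) ≤ M) → L = M := by
    intro M L hM hL hNM hNL hC
    have hSM : (S : Subgroup G) ≤ M := le_normalizer.trans hNM
    have hSL : (S : Subgroup G) ≤ L := le_normalizer.trans hNL
    set K := coreOf p L with hK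
    have hLK : L ≤ normalizer (K : Set G) := le_normalizer.trans (le_normalizer_coreOf p L)
    have hcop : ∀ {X : Subgroup G}, IsPGroup p X → (Nat.card X).Coprime (Nat.card K) := by
      intro X hX
      obtain ⟨n, hn⟩ := IsPGroup.iff_card.1 hX
      rw [hn]; exact (coprime_coreOf p L).symm.pow_left n
    obtain ⟨x, hx, hxZ⟩ := SetLike.exists_of_lt (lt_of_le_of_ne hZP fun h => by
      have := congrArg (fun H : Subgroup G => Nat.card H) h
      rw [hZc, hc3] at this
      exact absurd this (Nat.ne_of_lt (by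
        calc p = p ^ 1 := (pow_one p).symm
          _ < p ^ 3 := Nat.pow_lt_pow_right hp.out.one_lt (by norm_num))))
    -- the centralizer of `Z` in `K`
    have hKZ : K ⊓ centralizer (Z : Set G) ≤ M := by
      set C := centralizer (Z : Set G) with hCdef
      have hZC : Z ≤ C := fun t ht =>
        mem_centralizer_iff.2 fun u hu => hZcomm t ht u (hZP hu)
      have hP1C : P₁ ≤ C := fun a ha =>
        mem_centralizer_iff.2 fun t ht => (hZcomm t ht a ha).symm
      haveI : (Z.subgroupOf C).Normal := by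
        refine ⟨fun t ht g => ?_⟩
        have h1 : g * t * g⁻¹ = t := by
          refine Subtype.ext ?_
          simp only [coe_mul, coe_inv]
          rw [← mem_centralizer_iff.1 g.2 t ht, mul_inv_cancel_right]
        rw [h1]; exact ht
      set f := QuotientGroup.mk' (Z.subgroupOf C)
      set P' := P₁.subgroupOf C with hP'
      set K' := (K ⊓ C).subgroupOf C with hK'
      have hP'K' : P' ≤ normalizer (K' : Set C) := by
        intro a ha
        rw [mem_normalizer_iff]
        intro k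
        have h1 := mem_normalizer_iff.1 (hLK (hSL (hP1 ha))) (k : G)
        exact ⟨fun h => ⟨h1.1 h.1, (a * k * a⁻¹).2⟩, fun h => ⟨h1.2 h.1, k.2⟩⟩
      haveI hPc : IsMulCommutative (P'.map f) := by
        refine PGroupsBasic.isMulCommutative_of_forall ?_
        rintro _ ⟨a, ha, rfl⟩ _ ⟨b, hb, rfl⟩
        rw [← commutatorElement_eq_one_iff_mul_comm, ← map_commutatorElement]
        refine (QuotientGroup.eq_one_iff _).2 ?_
        show (⁅(a : G), (b : G)⁆) ∈ Z
        by_cases hbZ : (b : G) ∈ Z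
        · rw [commutatorElement_eq_one_iff_mul_comm.2 (hZcomm b hbZ a ha)]; exact one_mem _
        · have haP := (hA b hb hbZ)
          have h2 : ⁅(⟨a, ha⟩ : P₁), (⟨b, hb⟩ : P₁)⁆ ∈ commutator P₁ :=
            commutator_mem_commutator (mem_top _) (mem_top _)
          have h3 : (Z.subgroupOf P₁).index ≤ p ^ 2 := by
            have := (Z.subgroupOf P₁).card_mul_index
            rw [Nat.card_congr (subgroupOfEquivOfLe hZP).toEquiv, hZc, hc3] at this
            exact le_of_eq (Nat.eq_of_mul_eq_mul_left hp.out.pos (this.trans (pow_succ' p 2)))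
          haveI : (Z.subgroupOf P₁).Normal := ⟨fun t ht g => by
            have h1 : g * t * g⁻¹ = t := by
              refine Subtype.ext ?_
              simp only [coe_mul, coe_inv]
              rw [hZcomm t ht g g.2, mul_inv_cancel_right]
            rw [h1]; exact ht⟩
          exact PGroupsBasic.commutator_le_of_index_le_sq (IsPGroup.of_card hc3) h3 h2
      have hPnc : ¬ IsCyclic (P'.map f) := by
        intro hcy
        obtain ⟨⟨g, hg⟩, hgen⟩ := hcy.exists_generator
        obtain ⟨g₀, hg₀, rfl⟩ := hg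
        have hle : P₁ ≤ Z ⊔ zpowers (g₀ : G) := by
          intro a ha
          obtain ⟨i, hi⟩ := mem_zpowers_iff.1 (hgen ⟨f ⟨a, hP1C ha⟩, mem_map_of_mem f ha⟩)
          have h2 : f (g₀ ^ i) = f ⟨a, hP1C ha⟩ := by
            rw [map_zpow]; simpa using congrArg Subtype.val hi
          have h3 : ((g₀ : G) ^ i)⁻¹ * a ∈ Z := by
            have := QuotientGroup.eq.1 h2
            simpa [mem_subgroupOf] using this
          have := mul_mem (mem_sup_right (zpow_mem (mem_zpowers (g₀ : G)) i) :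
            (g₀ : G) ^ i ∈ Z ⊔ zpowers (g₀ : G)) (mem_sup_left h3)
          rwa [mul_inv_cancel_left] at this
        by_cases hgZ : (g₀ : G) ∈ Z
        · refine hna1 (PGroupsBasic.isMulCommutative_mono hZE.1 (hle.trans ?_))
          exact sup_le le_rfl (zpowers_le.2 hgZ)
        · exact hna1 (PGroupsBasic.isMulCommutative_mono (hA _ hg₀ hgZ).1.1 hle)
      have hle : K'.map f ≤ (M.subgroupOf C).map f := by
        refine CoprimeGen.le_of_centralizers hPnc ((map_mono hP'K').trans (le_normalizer_map f)) ?_ ?_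
        · refine Nat.Coprime.coprime_dvd_left (card_map_dvd P' f) (Nat.Coprime.coprime_dvd_right
            ((card_map_dvd K' f).trans
              ((HallCore.card_subgroupOf_dvd (K ⊓ C) C).trans (card_dvd_of_le inf_le_left))) ?_)
          rw [Nat.card_congr (subgroupOfEquivOfLe hP1C).toEquiv]
          exact hcop (IsPGroup.of_card hc3)
        · rintro _ ⟨a, ha, rfl⟩ ha1 k hk
          have haZ : (a : G) ∉ Z := fun h => ha1 ((QuotientGroup.eq_one_iff a).2 h)
          have hzle : zpowers a ≤ P' := zpowers_le.2 ha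
          have hmap := CoprimeAction.map_inf_centralizer_eq f (A := zpowers a) (K := K')
            (hzle.trans hP'K') ?_ (Or.inl (CoprimeAction.isSolvable_zpowers a))
          · have hk' : k ∈ K'.map f ⊓ centralizer ((zpowers a).map f : Set (C ⧸ Z.subgroupOf C)) := by
              rw [MonoidHom.map_zpowers]
              refine ⟨hk.1, ?_⟩
              rw [zpowers_eq_closure, centralizer_closure]
              exact hk.2
            rw [← hmap] at hk'
            obtain ⟨k₀, ⟨hk₀, hk₀c⟩, rfl⟩ := hk'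
            refine mem_map_of_mem f (hC _ ha haZ ?_)
            exact mem_centralizer_singleton_iff.2
              (congrArg Subtype.val (mem_centralizer_iff.1 hk₀c a (mem_zpowers a))).symm
          · refine Nat.Coprime.coprime_dvd_left (card_dvd_of_le hzle) (Nat.Coprime.coprime_dvd_right
              ((HallCore.card_subgroupOf_dvd (K ⊓ C) C).trans (card_dvd_of_le inf_le_left)) ?_)
            rw [Nat.card_congr (subgroupOfEquivOfLe hP1C).toEquiv]
            exact hcop (IsPGroup.of_card hc3)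
      intro k hk
      obtain ⟨m, hm, hmk⟩ := hle (mem_map_of_mem f (show (⟨k, hk.2⟩ : C) ∈ K' from hk))
      have hmk' : (m : C ⧸ Z.subgroupOf C) = ((⟨k, hk.2⟩ : C) : C ⧸ Z.subgroupOf C) := hmk
      have h3' : m⁻¹ * ⟨k, hk.2⟩ ∈ Z.subgroupOf C := QuotientGroup.eq.1 hmk'
      have h3 : ((m : G))⁻¹ * k ∈ Z := h3'
      have := M.mul_mem (show (m : G) ∈ M from hm) (hSM (hP1 (hZP h3)))
      rwa [mul_inv_cancel_left] at this
    -- the core of `L`
    have hKM : K ≤ M := by
      obtain ⟨hE, hE2, hAP⟩ := hA x hx hxZ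
      haveI := hE.1
      refine CoprimeGen.le_of_centralizers (not_isCyclic_of_sq_le hE hE2.ge)
        ((hAP.trans (hP1.trans hSL)).trans hLK) (hcop (IsPGroup.of_card hE2)) fun a ha ha1 => ?_
      by_cases haZ : a ∈ Z
      · have : zpowers a = Z := by
          rcases PGroupsBasic.le_or_inf_eq_bot hZc (zpowers a) with h | h
          · exact le_antisymm (zpowers_le.2 haZ) h
          · have ha' : a ∈ Z ⊓ zpowers a := ⟨haZ, mem_zpowers a⟩
            rw [h, mem_bot] at ha'
            exact absurd ha' ha1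
        rw [← centralizer_closure, ← zpowers_eq_closure, this]
        exact hKZ
      · exact inf_le_right.trans (hC a (hAP ha) haZ)
    have hLM : L ≤ M := by
      intro l hl
      obtain ⟨n, hn, o, ho, hno⟩ := PLengthOne.exists_normalizer_mul
        (S1410.result hG p L hL.1) (S.subtype hSL) (⟨l, hl⟩ : L)
      have hn' : (n : G) ∈ normalizer ((S : Subgroup G) : Set G) := by
        have := le_normalizer_map L.subtype (mem_map_of_mem L.subtype hn)
        rwa [Sylow.coe_subtype, map_subgroupOf_eq_of_le hSL] at this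
      have := M.mul_mem (hNM hn') (hKM (show (o : G) ∈ K from mem_map_of_mem L.subtype ho))
      rwa [← coe_mul, hno] at this
    exact ((hL.le_iff.1 hLM).resolve_left hM.1).symm
  by_cases hU : Uniq M Z
  · refine hne (hend hL hM hNL hNM (hcent hL hM (Ne.symm hne) hNL hNM ?_))
    exact fun hU' => hne (hU.2 L hL hU'.1).symm
  · exact hne (hend hM hL hNM hNL (hcent hM hL hne hNM hNL hU)).symm

omit [hp : Fact p.Prime] in
/-- BG 12.13. -/
theorem unique_of_nonabelian [Fact p.Prime] {P : Subgroup G} (hP : IsPGroup p P)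
    (hPna : ¬ IsMulCommutative P) : Cfsg.InUniqueMaximal P := by
  obtain ⟨M₀, hM₀, hPM₀⟩ := exists_coatom_ge (BGTransitivity.qgroup_ne_top hG hP)
  refine unique_intro hM₀ hPM₀ fun L₀ hL₀ hPL₀ => by_contra fun hne => ?_
  obtain ⟨Q, hPQ, hQmax⟩ := Finite.exists_le_maximal (p := fun Q : Subgroup G =>
    IsPGroup p Q ∧ ∃ M L, IsCoatom M ∧ IsCoatom L ∧ M ≠ L ∧ Q ≤ M ∧ Q ≤ L) (a := P)
    ⟨hP, L₀, M₀, hL₀, hM₀, hne, hPL₀, hPM₀⟩
  obtain ⟨hQ, M, L, hM, hL, hML, hQM, hQL⟩ := hQmax.1
  have hQna : ¬ IsMulCommutative Q := fun h => hPna (PGroupsBasic.isMulCommutative_mono h hPQ)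
  have hQnc : ¬ IsCyclic Q := fun h => hQna inferInstance
  have hσ : ∀ {M : Subgroup G}, IsCoatom M → Q ≤ M → p ∈ Cfsg.sigma M := fun hM hQM =>
    by_contra fun h => hQna (isMulCommutative_of_pgroup hG hM h hQ hQM)
  have hNM := normalizer_le_of_noncyclic hG hM (hσ hM hQM) hQ hQM hQnc
  have hNL := normalizer_le_of_noncyclic hG hL (hσ hL hQL) hQ hQL hQnc
  obtain ⟨S, hS⟩ := hQ.exists_le_sylow
  have hQS : Q = S := by
    by_contra hne'
    have hlt := lt_inf_normalizer S.isPGroup' (lt_of_le_of_ne hS hne')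
    exact hlt.not_ge (hQmax.2 ⟨S.isPGroup'.to_le inf_le_left, M, L, hM, hL, hML,
      inf_le_right.trans hNM, inf_le_right.trans hNL⟩ hlt.le)
  subst hQS
  exact hML (sylow_eq_of_two_coatoms hG S hQna hM hL hNM hNL)

end Cfsg.Agent.BGTau62
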