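import Mathlib
import Cfsg.Agent.Lib.BGFinalBasic72
import Cfsg.Agent.Lib.BGSigmaDisjoint
import Cfsg.Agent.S1350
import Cfsg.Agent.S1412
import Cfsg.Agent.S1414
import Cfsg.Agent.S1422

/-!
Bender-Glauberman 12.14: centralizers of subgroups of prime order in `M_σ'` determine `M`.
-/

set_option autoImplicit false
set_option linter.style.haveILetI false

open scoped commutatorElement Pointwise

namespace Cfsg.Agent.BGFinal72

open Subgroup Cfsg.Agent.HallCore Cfsg.Agent.BGUnique

universe u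

variable {G : Type u} [Group G] [Finite G]

omit [Finite G] in
/-- In a group of order `p ^ 3` the commutators are central. -/
theorem commutator_mem_center_cube {H : Type u} [Group H] [Finite H] {p : ℕ} [hp : Fact p.Prime]
    (h : Nat.card H = p ^ 3) (a b : H) : ⁅a, b⁆ ∈ center H := by
  have hH : IsPGroup p H := IsPGroup.of_card h
  haveI : Nontrivial H := Finite.one_lt_card_iff_nontrivial.1 (h ▸ Nat.one_lt_pow (by norm_num) hp.out.one_lt)
  haveI := hH.center_nontrivial
  have h1 := (center H).card_mul_index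
  obtain ⟨j, hj⟩ := IsPGroup.iff_card.1 (hH.to_subgroup (center H))
  have hj0 : 1 ≤ j := by
    by_contra hlt
    have : 1 < Nat.card (center H) := Finite.one_lt_card
    rw [hj, show j = 0 by omega, pow_zero] at this
    omega
  obtain ⟨k, hk⟩ := IsPGroup.iff_card.1 (hH.to_quotient (center H))
  rw [hj, index_eq_card, hk, h, ← pow_add] at h1
  have hjk := Nat.pow_right_injective hp.out.two_le h1
  have hc : ∀ u v : H ⧸ center H, u * v = v * u := by
    rcases (show k ≤ 1 ∨ k = 2 by omega) with hk1 | rfl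
    · have : IsCyclic (H ⧸ center H) := by
        rcases (show k = 0 ∨ k = 1 by omega) with rfl | rfl
        · haveI : Subsingleton (H ⧸ center H) := (Nat.card_eq_one_iff_unique.1 (by rwa [pow_zero] at hk)).1
          infer_instance
        · exact isCyclic_of_prime_card (p := p) (by rwa [pow_one] at hk)
      exact fun u v => (@IsCyclic.commGroup _ _ this).mul_comm u v
    · exact IsPGroup.commutative_of_card_eq_prime_sq hk
  rw [← QuotientGroup.eq_one_iff, ← QuotientGroup.mk'_apply, map_commutatorElement,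
    commutatorElement_eq_one_iff_mul_comm]
  exact hc _ _

variable {M : Subgroup G}

/-- `σ(M)`-subgroups of `M` lie in `M_σ`. -/
theorem le_sigmaCore_of_piNat (hσ : Cfsg.IsPiHallOf (Cfsg.sigma M) (Cfsg.sigmaCore M) M)
    {Y : Subgroup G} (hY : Y ≤ M) (hYσ : PiNat (Cfsg.sigma M) (Nat.card Y)) :
    Y ≤ Cfsg.sigmaCore M := by
  haveI : ((Cfsg.sigmaCore M).subgroupOf M).Normal :=
    normal_subgroupOf_of_le_normalizer (le_normalizer_sigmaCore M)
  have hle : Y.subgroupOf M ≤ (Cfsg.sigmaCore M).subgroupOf M :=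
    BGSigma.le_of_prime_not_dvd fun q hq hd hdi =>
      hσ.2.2 q hq (hYσ q hq (hd.trans (HallCore.card_subgroupOf_dvd Y M))) hdi
  intro y hy
  exact mem_subgroupOf.1 (hle (show (⟨y, hY hy⟩ : M) ∈ Y.subgroupOf M from hy))

/-- Sylow subgroups of `M_σ` are maximal `p`-subgroups of `M`. -/
theorem isMaxP_sylow_sigma (hσ : Cfsg.IsPiHallOf (Cfsg.sigma M) (Cfsg.sigmaCore M) M)
    {p : ℕ} [Fact p.Prime] (hp : p ∈ Cfsg.sigma M) (P : Sylow p ↥(Cfsg.sigmaCore M)) :
    IsMaxP p ((P : Subgroup ↥(Cfsg.sigmaCore M)).map (Cfsg.sigmaCore M).subtype) M := by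
  refine ⟨(map_subtype_le _).trans (sigmaCore_le M), P.isPGroup'.map _, fun Q hPQ hQM hQ => ?_⟩
  exact (isMaxP_sylow (Cfsg.sigmaCore M) P).eq_of_le Q hPQ
    (le_sigmaCore_of_piNat hσ hQM (BGSigma.piNat_of_isPGroup hQ hp)) hQ

/-- With a normal `p`-complement, `P ∩ H' ≤ P'`. -/
theorem sylow_inf_commutator_le {H : Type u} [Group H] [Finite H] {p : ℕ} [hp : Fact p.Prime]
    (h : Cfsg.HasNormalPComplement p H) (P : Sylow p H) :
    (P : Subgroup H) ⊓ commutator H ≤ ⁅(P : Subgroup H), (P : Subgroup H)⁆ := by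
  obtain ⟨P₀, N, hN, hc⟩ := h
  haveI := hN
  have hNc : ¬ p ∣ Nat.card N := by
    intro hd
    have h2 := hc.index_eq_card
    exact P₀.not_dvd_index (h2 ▸ hd)
  have hPN : ∀ x ∈ (P : Subgroup H), (QuotientGroup.mk' N) x = 1 → x = 1 := by
    intro x hx hxN
    obtain ⟨i, hi⟩ := IsPGroup.iff_orderOf.1 P.isPGroup' ⟨x, hx⟩
    rw [orderOf_mk] at hi
    rcases Nat.eq_zero_or_pos i with rfl | hi0
    · exact orderOf_eq_one_iff.1 (by simpa using hi)
    · exact absurd ((dvd_pow_self p hi0.ne').trans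
        (hi ▸ N.orderOf_dvd_natCard ((QuotientGroup.eq_one_iff x).1 hxN))) hNc
  have hinj : Function.Injective ((QuotientGroup.mk' N).comp (P : Subgroup H).subtype) := by
    rw [injective_iff_map_eq_one]
    exact fun x hx => Subtype.ext (hPN x x.2 hx)
  have hsurj : (P : Subgroup H).map (QuotientGroup.mk' N) = ⊤ := by
    refine eq_top_of_card_eq _ ?_
    rw [← index_eq_card N, hc.symm.index_eq_card]
    have e := Nat.card_congr (MonoidHom.ofInjective hinj).toEquiv
    rw [MonoidHom.range_comp, range_subtype] at e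
    rw [← e]
    exact Nat.card_congr (P.equiv P₀).toEquiv
  intro x hx
  have h1 : QuotientGroup.mk' N x ∈ ⁅(P : Subgroup H), (P : Subgroup H)⁆.map (QuotientGroup.mk' N) := by
    rw [map_commutator, hsurj]
    have := mem_map_of_mem (QuotientGroup.mk' N) hx.2
    rw [_root_.commutator_def, map_commutator] at this
    exact commutator_mono le_top le_top this
  obtain ⟨e, he, hex⟩ := h1
  have h3 : e⁻¹ * x = 1 := hPN _ ((P : Subgroup H).mul_mem ((P : Subgroup H).inv_mem
    (commutator_le_self _ he)) hx.1) (by rw [map_mul, map_inv, hex, inv_mul_cancel])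
  rw [inv_mul_eq_one] at h3
  exact h3 ▸ he

omit [Finite G] in
/-- Elements of the join of two commuting subgroups are products. -/
theorem exists_mul_of_sup {A B : Subgroup G} (h : ∀ a ∈ A, ∀ b ∈ B, a * b = b * a) {g : G}
    (hg : g ∈ A ⊔ B) : ∃ a ∈ A, ∃ b ∈ B, a * b = g := by
  have h1 := MonoidHom.noncommCoprod_range A.subtype B.subtype (fun a b => h a a.2 b b.2)
  rw [range_subtype, range_subtype] at h1
  rw [← h1] at hg
  obtain ⟨⟨a, b⟩, hab⟩ := hg
  exact ⟨a, a.2, b, b.2, hab⟩

/-- Commutators of a `p`-group centralize a normal elementary subgroup of order `p ^ 2`. -/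
theorem commutator_le_centralizer_sq {p : ℕ} [hp : Fact p.Prime] {P U : Subgroup G} (hP : IsPGroup p P)
    (hPU : P ≤ normalizer (U : Set G)) (hU : Cfsg.IsElementaryAbelian p U)
    (hUc : Nat.card U = p ^ 2) (hUP : U ≤ P) : ⁅P, P⁆ ≤ centralizer (U : Set G) := by
  set U' := U.subgroupOf P with hU'
  haveI : U'.Normal := Subgroup.normal_subgroupOf_of_le_normalizer hPU
  have hU'e : Cfsg.IsElementaryAbelian p U' := ⟨⟨⟨fun u v => Subtype.ext (Subtype.ext
    (PGroupsBasic.comm_of_isMulCommutative hU.1 u.2 v.2))⟩⟩,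
    fun u hu => Subtype.ext (by rw [SubgroupClass.coe_pow]; exact hU.2 _ hu)⟩
  set C := centralizer (U' : Set P) with hC
  have hCi : C.index ≤ p := RankTwoOdd.index_centralizer_le hP U' hU'e
    (by rw [Nat.card_congr (subgroupOfEquivOfLe hUP).toEquiv]; exact hUc.le)
  haveI : C.Normal := normal_centralizer
  obtain ⟨k, hk⟩ := IsPGroup.iff_card.1 (hP.to_quotient C)
  rw [index_eq_card, hk] at hCi
  have hcomm : ∀ u v : P ⧸ C, u * v = v * u := by
    have hk1 : k ≤ 1 := (Nat.pow_le_pow_iff_right hp.out.one_lt).1 (by rwa [pow_one])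
    have : IsCyclic (P ⧸ C) := by
      rcases (show k = 0 ∨ k = 1 by omega) with rfl | rfl
      · haveI : Subsingleton (P ⧸ C) := (Nat.card_eq_one_iff_unique.1 (by rwa [pow_zero] at hk)).1
        infer_instance
      · exact isCyclic_of_prime_card (p := p) (by rwa [pow_one] at hk)
    exact fun u v => (@IsCyclic.commGroup _ _ this).mul_comm u v
  rw [commutator_le]
  intro a ha b hb
  have h1 : ⁅(⟨a, ha⟩ : P), (⟨b, hb⟩ : P)⁆ ∈ C := by
    rw [← QuotientGroup.eq_one_iff, ← QuotientGroup.mk'_apply, map_commutatorElement,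
      commutatorElement_eq_one_iff_mul_comm]
    exact hcomm _ _
  rw [mem_centralizer_iff]
  intro u hu
  exact congrArg Subtype.val (mem_centralizer_iff.1 h1 ⟨u, hUP hu⟩ hu)

/-- A `p`-group normalizing a subgroup of order `p` centralizes it. -/
theorem commute_of_normalizes_prime {p : ℕ} [hp : Fact p.Prime] {X P : Subgroup G} (hX : Nat.card X = p)
    (hP : IsPGroup p P) (hn : P ≤ normalizer (X : Set G)) {g x : G} (hg : g ∈ P) (hx : x ∈ X) :
    Commute g x := by
  by_cases hx1 : x = 1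
  · rw [hx1]; exact Commute.one_right g
  have hgen : zpowers x = X := by
    refine eq_of_le_of_card_ge (zpowers_le.2 hx) ?_
    rw [Nat.card_zpowers, hX]
    rcases (Nat.dvd_prime hp.out).1 (hX ▸ X.orderOf_dvd_natCard hx) with h | h
    · exact absurd (orderOf_eq_one_iff.1 h) hx1
    · exact h.ge
  obtain ⟨k, hk⟩ := (hgen ▸ (mem_normalizer_iff.1 (hn hg) x).1 hx : g * x * g⁻¹ ∈ zpowers x)
  have hk' : g * x * g⁻¹ = x ^ k := hk.symm
  have hit : ∀ n : ℕ, g ^ n * x * (g ^ n)⁻¹ = x ^ (k ^ n) := by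
    intro n
    induction n with
    | zero => simp
    | succ n ih =>
      calc g ^ (n + 1) * x * (g ^ (n + 1))⁻¹ = g * (g ^ n * x * (g ^ n)⁻¹) * g⁻¹ := by
            rw [pow_succ' g, mul_inv_rev]; group
        _ = g * x ^ (k ^ n) * g⁻¹ := by rw [ih]
        _ = (g * x * g⁻¹) ^ (k ^ n) := by rw [conj_zpow]
        _ = x ^ (k ^ (n + 1)) := by rw [hk', ← zpow_mul, pow_succ']
  obtain ⟨i, hi⟩ := IsPGroup.iff_orderOf.1 hP ⟨g, hg⟩
  rw [orderOf_mk] at hi
  have h1 := hit (p ^ i)
  rw [← hi, pow_orderOf_eq_one, one_mul, inv_one, mul_one, hi, eq_comm] at h1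
  have hox : orderOf x = p := by rw [← Nat.card_zpowers, hgen, hX]
  have h2 : (k : ZMod p) ^ (p ^ i) = 1 := by
    have h3 : x ^ (k ^ (p ^ i) - 1) = 1 := by rw [zpow_sub, h1, zpow_one, mul_inv_cancel]
    rw [← orderOf_dvd_iff_zpow_eq_one, hox, ← ZMod.intCast_zmod_eq_zero_iff_dvd] at h3
    simpa [sub_eq_zero] using h3
  rw [ZMod.pow_card_pow] at h2
  have h4 : x ^ k = x := by
    have h5 : ((k - 1 : ℤ) : ZMod p) = 0 := by simp [h2]
    rw [ZMod.intCast_zmod_eq_zero_iff_dvd, ← hox, orderOf_dvd_iff_zpow_eq_one, zpow_sub, zpow_one,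
      mul_inv_eq_one] at h5
    exact h5
  exact mul_inv_eq_iff_eq_mul.1 (hk'.trans h4)

/-- BG 12.14 at the level of a Sylow subgroup. -/
theorem sylow_centralizer_unique (hG : Cfsg.IsMinSimpleOddOrder G) (hM : IsCoatom M) {p : ℕ}
    [hpf : Fact p.Prime] (hp : p ∈ Cfsg.sigma M) (hpb : p ∉ Cfsg.beta M) {X : Subgroup G}
    (hX : Nat.card X = p) (hXd : X ≤ ⁅Cfsg.sigmaCore M, Cfsg.sigmaCore M⁆)
    (P : Sylow p ↥(Cfsg.sigmaCore M))
    (hXP : X ≤ (P : Subgroup ↥(Cfsg.sigmaCore M)).map (Cfsg.sigmaCore M).subtype) :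
    Cfsg.InUniqueMaximal (((P : Subgroup ↥(Cfsg.sigmaCore M)).map (Cfsg.sigmaCore M).subtype) ⊓
      centralizer (X : Set G)) ∧
      ¬ IsMulCommutative ↥((P : Subgroup ↥(Cfsg.sigmaCore M)).map (Cfsg.sigmaCore M).subtype) := by
  have hσ := (S1350.result hG M hM).1
  set P' := (P : Subgroup ↥(Cfsg.sigmaCore M)).map (Cfsg.sigmaCore M).subtype with hP'
  have hmax : IsMaxP p P' M := isMaxP_sylow_sigma hσ hp P
  have hPp : IsPGroup p P' := P.isPGroup'.map _
  have hp2 : p ≠ 2 := prime_ne_two hG (hp.2.1.trans (card_subgroup_dvd_card M))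
  obtain ⟨-, hcomp, -⟩ := (S1414.result hG M hM).2.2.2.2 p hpf.out hp.2.1 hpb
  have hXd' : X ≤ ⁅P', P'⁆ := by
    intro x hx
    obtain ⟨y, hy, hyx⟩ := hXP hx
    have h1 : y ∈ commutator ↥(Cfsg.sigmaCore M) := by
      have h2 : (y : G) ∈ (commutator ↥(Cfsg.sigmaCore M)).map (Cfsg.sigmaCore M).subtype := by
        rw [map_subtype_commutator]
        exact (show (y : G) = x from hyx) ▸ hXd hx
      obtain ⟨z, hz, hzy⟩ := h2
      exact (Subtype.ext hzy : z = y) ▸ hz
    have h3 := sylow_inf_commutator_le hcomp P ⟨hy, h1⟩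
    rw [hP', ← map_commutator]
    exact ⟨y, h3, hyx⟩
  obtain ⟨x, hx, hx1⟩ := X.bot_or_exists_ne_one.resolve_left (fun h => by
    rw [h, card_bot] at hX; exact hpf.out.one_lt.ne hX)
  have hPna : ¬ IsMulCommutative P' := by
    intro hc
    have h0 : ⁅P', P'⁆ = ⊥ := by
      rw [eq_bot_iff, commutator_le]
      intro a ha b hb
      exact mem_bot.2 (commutatorElement_eq_one_iff_mul_comm.2
        (PGroupsBasic.comm_of_isMulCommutative hc ha hb))
    exact hx1 (mem_bot.1 (h0 ▸ hXd' hx))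
  refine ⟨?_, hPna⟩
  have hne : P' ⊓ centralizer (X : Set G) ≠ ⊤ := fun h =>
    hM.1 (top_le_iff.1 (h ▸ inf_le_left.trans hmax.le))
  by_cases hr : Cfsg.PRankLE p 2 P'
  · -- rank at most two: `X` is central in `P`
    obtain ⟨T, hT⟩ := (BGSigma.isMaxP_top_of_sigma hp hmax).exists_sylow_top
    have hrT : Cfsg.PRankLE p 2 (T : Subgroup G) := hT ▸ hr
    rcases S1412.result hG p T hrT with hc | ⟨P₁, P₂, hsup, hcomm, -, hP₁, -, hP₂, -⟩
    · exact absurd (hT ▸ hc) hPna
    rw [hT] at hsup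
    have hX1 : ⁅P', P'⁆ ≤ P₁ ⊓ centralizer (P' : Set G) := by
      haveI := hP₂
      have h12 : ∀ a ∈ P₁, ∀ b ∈ P₁, ∀ c ∈ P', ⁅a, b⁆ * c = c * ⁅a, b⁆ := by
        intro a ha b hb c hc
        have h1 : P' ≤ centralizer ({⁅a, b⁆} : Set G) := by
          rw [← hsup]
          refine sup_le (fun d hd => ?_) (fun d hd => ?_) <;>
            rw [mem_centralizer_iff] <;> intro t ht <;> rw [Set.mem_singleton_iff.1 ht]
          · have := mem_center_iff.1 (commutator_mem_center_cube hP₁ (⟨a, ha⟩ : P₁) ⟨b, hb⟩) ⟨d, hd⟩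
            exact (congrArg Subtype.val this).symm
          · exact hcomm _ (P₁.mul_mem (P₁.mul_mem (P₁.mul_mem ha hb) (P₁.inv_mem ha)) (P₁.inv_mem hb)) d hd
        exact mem_centralizer_iff.1 (h1 hc) _ rfl
      rw [commutator_le]
      intro g hg h hh
      rw [← hsup] at hg hh
      obtain ⟨a, ha, b, hb, rfl⟩ := exists_mul_of_sup hcomm hg
      obtain ⟨c, hc, d, hd, rfl⟩ := exists_mul_of_sup hcomm hh
      have hbd : b * d = d * b :=
        congrArg Subtype.val ((@IsCyclic.commGroup P₂ _ hP₂).mul_comm ⟨b, hb⟩ ⟨d, hd⟩)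
      have e : ⁅a * b, c * d⁆ = ⁅a, c⁆ := by
        have hbc : Commute b c := (show Commute c b from hcomm c hc b hb).symm
        have had : Commute a d := hcomm a ha d hd
        have hab : Commute a b := hcomm a ha b hb
        have hcd : Commute c d := hcomm c hc d hd
        have h1 : a * b * (c * d) = a * c * (b * d) := by
          rw [mul_assoc a b, ← mul_assoc b c, hbc.eq, mul_assoc c b, ← mul_assoc]
        have h2 : c * d * (a * b) = c * a * (b * d) := by
          rw [mul_assoc c d, ← mul_assoc d a, ← had.eq, mul_assoc a d, ← hbd, ← mul_assoc]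
        calc ⁅a * b, c * d⁆ = a * b * (c * d) * (c * d * (a * b))⁻¹ := by
              rw [commutatorElement_def]; group
          _ = a * c * (b * d) * (c * a * (b * d))⁻¹ := by rw [h1, h2]
          _ = ⁅a, c⁆ := by rw [commutatorElement_def]; group
      rw [e]
      exact ⟨commutator_le_self P₁ (commutator_mem_commutator ha hc),
        mem_centralizer_iff.2 fun t ht => (h12 a ha c hc t ht).symm⟩
    have hPC : P' ≤ centralizer (X : Set G) := fun t ht => mem_centralizer_iff.2 fun s hs =>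
      (mem_centralizer_iff.1 (hX1 (hXd' hs)).2 t ht).symm
    rw [inf_eq_left.2 hPC]
    exact S1422.result hG p P' hPp hPna
  · -- rank three: `C_P(X)` has rank three
    haveI := Fact.mk hpf.out
    obtain ⟨E, hEn, hE, hEc⟩ : ∃ E : Subgroup P', E.Normal ∧ Cfsg.IsElementaryAbelian p E ∧
        Nat.card E = p ^ 3 := by
      by_contra h
      push Not at h
      exact hr fun E hE hEp => RankTwoOdd.rank_le_two hp2 hPp (fun A hA hAe => h A hA hAe) E ⟨hE, hEp⟩
    haveI := hEn
    obtain ⟨B, hBn, hBE, hBc⟩ := PGroupsBasic.exists_normal_card_pow hPp E 2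
      (by rw [hEc]; exact Nat.pow_le_pow_right hpf.out.pos (by norm_num))
    set E' := E.map P'.subtype
    set B' := B.map P'.subtype
    have hBE' : B' ≤ E' := map_mono hBE
    have hE' : Cfsg.IsElementaryAbelian p E' := PGroupsBasic.isElementaryAbelian_map_hom hE _
    have hEc' : Nat.card E' = p ^ 3 := by
      rw [card_map_of_injective P'.subtype_injective, hEc]
    have hBel := PGroupsBasic.isElementaryAbelian_mono hE' hBE'
    have hBc' : Nat.card B' = p ^ 2 := by rw [card_map_of_injective P'.subtype_injective, hBc]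
    have hPB : P' ≤ normalizer (B' : Set G) := by
      intro g hg
      have key : ∀ g ∈ P', ∀ b ∈ B', g * b * g⁻¹ ∈ B' := by
        rintro g hg _ ⟨b, hb, rfl⟩
        exact ⟨⟨g, hg⟩ * b * ⟨g, hg⟩⁻¹, hBn.conj_mem b hb _, rfl⟩
      rw [mem_normalizer_iff]
      intro b
      exact ⟨key g hg b, fun h => by simpa [mul_assoc] using key g⁻¹ (P'.inv_mem hg) _ h⟩
    by_cases hu : Cfsg.PRankLE p 2 ↥(P' ⊓ centralizer (X : Set G))
    swap
    · exact BGSigma.unique_of_rank hG hne hu
    exfalso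
    -- commutators of `P` centralize `B`
    have hXB : X ≤ centralizer (B' : Set G) := hXd'.trans (commutator_le_centralizer_sq hPp hPB hBel hBc' (map_subtype_le _))
    have hXleB : X ≤ B' := by
      by_contra hXB'
      have hxp : x ^ p = 1 := by rw [← hX]; exact orderOf_dvd_iff_pow_eq_one.1 (X.orderOf_dvd_natCard hx)
      have hgenX : zpowers x = X := eq_of_le_of_card_ge (zpowers_le.2 hx) (by
        rw [hX, Nat.card_zpowers, orderOf_eq_prime hxp hx1])
      have hxB : x ∉ B' := fun h => hXB' (hgenX ▸ zpowers_le.2 h)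
      have hBP : B' ≤ P' := map_subtype_le _
      have hle : B' ≤ P' ⊓ centralizer (X : Set G) := le_inf hBP fun b hb =>
        mem_centralizer_iff.2 fun s hs => (mem_centralizer_iff.1 (hXB hs) b hb).symm
      have hxm : x ∈ P' ⊓ centralizer (X : Set G) := ⟨hXP hx, mem_centralizer_iff.2 fun s hs => by
        rw [← hgenX] at hs
        obtain ⟨i, rfl⟩ := hs
        exact ((Commute.refl x).zpow_left i).eq⟩
      exact hxB (BGSigma.mem_of_pRankLE hu hle hBel hBc'.ge hxm hxp
        fun b hb => mem_centralizer_iff.1 (hXB hx) b hb)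
    have hle : E' ≤ P' ⊓ centralizer (X : Set G) := le_inf (map_subtype_le _) fun e he =>
      mem_centralizer_iff.2 fun s hs =>
        PGroupsBasic.comm_of_isMulCommutative hE'.1 (hBE' (hXleB hs)) he
    have h1 := BGSigma.card_le_of_pRankLE hu hle hE'
    rw [hEc'] at h1
    exact absurd ((Nat.pow_le_pow_iff_right hpf.out.one_lt).1 h1) (by norm_num)

end Cfsg.Agent.BGFinal72
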