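import Cfsg.Agent.Lib.BG14Kappa83
import Cfsg.Agent.S1426

/-!
Bender-Glauberman 14.2: the subgroups `K`, `K*`, `U` and the normalizers of subgroups of `K`.
-/

set_option autoImplicit false
set_option linter.style.haveILetI false

namespace Cfsg.Agent.BG14

open Subgroup
open Cfsg.Agent.HallCore
open Cfsg.Agent.BGTypeP (cj)
open scoped IsMulCommutative commutatorElement

universe u

variable {G : Type u} [Group G] [Finite G]
variable (hG : Cfsg.IsMinSimpleOddOrder G) {M : Subgroup G} (hM : IsCoatom M)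

include hG hM

theorem exists_compl_kappa {K : Subgroup G} (hK : Cfsg.IsPiHallOf (Cfsg.kappa M) K M) :
    ∃ E : Subgroup G, Cfsg.IsComplIn E (Cfsg.sigmaCore M) M ∧ K ≤ E :=
  exists_compl_ge hG hM hK.1 (PiNat.mono hK.2.1 fun _ hq => hq.2.2.1)

theorem exists_prime_le {K : Subgroup G} {k : G} (hk : k ∈ K) (hk1 : k ≠ 1) :
    ∃ (r : ℕ) (X : Subgroup G), r.Prime ∧ X ≤ K ∧ Nat.card X = r ∧
      centralizer ({k} : Set G) ≤ centralizer (X : Set G) := by
  obtain ⟨r, X, hr, hX, hXc⟩ := exists_prime_subgroup (C := zpowers k) (by simpa using hk1)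
  refine ⟨r, X, hr, hX.trans (zpowers_le.2 hk), hXc, fun g hg x hx => ?_⟩
  obtain ⟨n, rfl⟩ := mem_zpowers_iff.1 (hX hx)
  exact ((show Commute k g from (mem_centralizer_singleton_iff.1 hg).symm).zpow_left n).eq

/-- `C_{M_σ}(k) = K*` for `k ∈ K^#`. -/
theorem semiprime {K : Subgroup G} (hK : Cfsg.IsPiHallOf (Cfsg.kappa M) K M) (hK1 : K ≠ ⊥)
    {k : G} (hk : k ∈ K) (hk1 : k ≠ 1) :
    Cfsg.sigmaCore M ⊓ centralizer ({k} : Set G) =
      Cfsg.sigmaCore M ⊓ centralizer (K : Set G) := by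
  obtain ⟨E, hE, hKE⟩ := exists_compl_kappa hG hM hK
  obtain ⟨r, X, hr, hX, hXc, hle⟩ := exists_prime_le hG hM hk hk1
  refine le_antisymm ?_ (inf_le_inf_left _ (centralizer_le (by simpa using hk)))
  rw [← ((hall_kappa_action hG hM hK hK1 hE hKE).2.1 r X hr hX hXc).1]
  exact inf_le_inf_left _ hle

omit hG hM in
theorem normalizer_decomp {E X K : Subgroup G} (hE : Cfsg.IsComplIn E (Cfsg.sigmaCore M) M)
    (hXE : X ≤ E) (hX : E ⊓ normalizer (X : Set G) = K)
    (hC : Cfsg.sigmaCore M ⊓ centralizer (X : Set G) =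
      Cfsg.sigmaCore M ⊓ centralizer (K : Set G)) :
    M ⊓ normalizer (X : Set G) = K ⊔ (Cfsg.sigmaCore M ⊓ centralizer (K : Set G)) := by
  refine le_antisymm (fun m hm => ?_) (sup_le ?_ ?_)
  · obtain ⟨e, he, a, ha, rfl⟩ := hE.2.2.2 m hm.1
    have hac : a ∈ centralizer (X : Set G) := by
      intro x hx
      have h1 := (mem_normalizer_iff.1 hm.2 x).1 hx
      have h2 : a * x * a⁻¹ ∈ E := by
        have : a * x * a⁻¹ = e⁻¹ * (e * a * x * (e * a)⁻¹) * e := by group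
        rw [this]
        exact mul_mem (mul_mem (inv_mem he) (hXE h1)) he
      have h3 : ⁅a, x⁆ ∈ E ⊓ Cfsg.sigmaCore M := by
        rw [commutatorElement_def]
        refine mem_inf.2 ⟨mul_mem h2 (inv_mem (hXE hx)), ?_⟩
        rw [show a * x * a⁻¹ * x⁻¹ = a * (x * a⁻¹ * x⁻¹) by group]
        exact mul_mem ha ((mem_normalizer_iff.1
          (BGFinal72.le_normalizer_sigmaCore M (hE.1 (hXE hx))) _).1 (inv_mem ha))
      rw [hE.2.2.1, mem_bot, commutatorElement_eq_one_iff_mul_comm] at h3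
      exact h3.symm
    have he' : e ∈ E ⊓ normalizer (X : Set G) := by
      refine ⟨he, ?_⟩
      have := mul_mem (mem_inf.1 hm).2
        ((normalizer (X : Set G)).inv_mem (centralizer_le_normalizer _ hac))
      simpa using this
    rw [hX] at he'
    exact mul_mem_sup he' (hC ▸ ⟨ha, hac⟩)
  · rw [← hX]
    exact inf_le_inf_right _ hE.1
  · rw [← hC]
    exact inf_le_inf (BGFinal72.sigmaCore_le M) (centralizer_le_normalizer _)

theorem normalizer_prime {K : Subgroup G} (hK : Cfsg.IsPiHallOf (Cfsg.kappa M) K M) (hK1 : K ≠ ⊥)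
    {r : ℕ} (hr : r.Prime) {X : Subgroup G} (hX : X ≤ K) (hXc : Nat.card X = r) :
    M ⊓ normalizer (X : Set G) = K ⊔ (Cfsg.sigmaCore M ⊓ centralizer (K : Set G)) := by
  obtain ⟨E, hE, hKE⟩ := exists_compl_kappa hG hM hK
  obtain ⟨h1, h2⟩ := (hall_kappa_action hG hM hK hK1 hE hKE).2.1 r X hr hX hXc
  exact normalizer_decomp hE (hX.trans hKE) h2 h1

theorem normalizer_hall {K : Subgroup G} (hK : Cfsg.IsPiHallOf (Cfsg.kappa M) K M) (hK1 : K ≠ ⊥) :
    M ⊓ normalizer (K : Set G) = K ⊔ (Cfsg.sigmaCore M ⊓ centralizer (K : Set G)) := by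
  obtain ⟨E, hE, hKE⟩ := exists_compl_kappa hG hM hK
  exact normalizer_decomp hE hKE (hall_kappa_action hG hM hK hK1 hE hKE).2.2 rfl

/-- A cyclic Hall κ(M)-subgroup only has `τ₁`-primes. -/
theorem kappa_tau1_of_cyclic {K : Subgroup G} (hK : Cfsg.IsPiHallOf (Cfsg.kappa M) K M)
    (hKc : IsCyclic K) : ∀ p ∈ Cfsg.kappa M, p ∈ Cfsg.tau1 M := by
  rcases kappa_cases hG hM with h | ⟨p, hp, hpk⟩
  · exact h
  exfalso
  haveI := hKc
  haveI : IsMulCommutative K := inferInstance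
  obtain ⟨E, hE, hKE⟩ := exists_compl_kappa hG hM hK
  obtain ⟨P, hPE, hPc⟩ := exists_prime_subgroup_of_dvd hpk.1 (show p ∣ Nat.card E by
    have hd := hpk.2.1
    rw [← BGTypeBasic.card_mul_of_isComplIn hE] at hd
    exact (hpk.1.dvd_mul.1 hd).resolve_right fun h =>
      hpk.2.2.1 (BGTypeP.piNat_sigmaCore M p hpk.1 h))
  have hC := fixed_ne_bot_of_kappa hG hpk (hPE.trans hE.1) hPc
  have hEle : E ≤ K := by
    refine (eq_of_le_of_card_ge hKE (Nat.le_of_dvd Nat.card_pos ?_)).ge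
    have hd : Nat.card E ∣ Nat.card K * K.relIndex M := by
      rw [BGFinal72.card_mul_relIndex hK.1]
      exact card_dvd_of_le hE.1
    exact (PiNat.coprime (fun s hs hsd => kappa_of_dvd hG hM hp hE hPE hPc hC hs hsd)
      (BGTypeP.hallOf_iff.1 hK).2.2).dvd_of_dvd_mul_right hd
  have hEs := subgroup_solvable hG hM hE.1
  obtain ⟨E₃, hE₃, hP3⟩ := BGTypeP.exists_hallOf_ge hEs (Cfsg.tau3 M) hPE
    (hPc ▸ piNat_prime hp.1 hp)
  have h1 : P ≤ ⁅E, E⁆ := hP3.trans ((S1415.result hG M hM E hE).2.2 E₃ hE₃).2.1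
  have h2 : ⁅E, E⁆ = ⊥ := commutator_eq_bot_iff_le_centralizer.2 fun a ha b hb =>
    PGroupsBasic.comm_of_isMulCommutative (inferInstance : IsMulCommutative K) (hEle hb) (hEle ha)
  exact ne_bot_of_card hp.1 hPc (eq_bot_iff.2 (h2 ▸ h1))

/-- `U` in a given complement: a normal Hall subgroup for the primes outside κ(M) ∪ σ(M). -/
theorem exists_U {E : Subgroup G} (hE : Cfsg.IsComplIn E (Cfsg.sigmaCore M) M) :
    ∃ U : Subgroup G, U ≤ E ∧ E ≤ normalizer (U : Set G) ∧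
      Cfsg.IsPiHallOf (BGFinal72.restPrimes M) U M := by
  have hEs := subgroup_solvable hG hM hE.1
  have hidx : E.relIndex M = Nat.card (Cfsg.sigmaCore M) :=
    (BGTypeBasic.relIndex_of_isComplIn hE).1
  rcases kappa_cases hG hM with hA | ⟨p, hp, hpk⟩
  · have hπ : PiNat (BGFinal72.restPrimes M) (Nat.card ↥⁅E, E⁆) := by
      intro q hq hd
      refine ⟨hq, fun hk => (hA q hk).2.2.2.1 (hd.trans (card_dvd_of_le
        (commutator_mono hE.1 hE.1))), ?_⟩
      exact (compl_prime hG hM hE hq (hd.trans (card_dvd_of_le (commutator_le_self E)))).1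
    obtain ⟨U, hU, hle⟩ := BGTypeP.exists_hallOf_ge hEs _ (commutator_le_self E) hπ
    refine ⟨U, hU.1, ?_, hU.1.trans hE.1, hU.2.1, fun q hq hr hd => ?_⟩
    · refine CoprimeAction.le_normalizer_of_conj_mem fun e he u hu => ?_
      have : e * u * e⁻¹ = ⁅e, u⁆ * u := by group
      rw [this]
      exact mul_mem (hle (commutator_mem_commutator he (hU.1 hu))) hu
    · rw [← relIndex_mul_relIndex U E M hU.1 hE.1] at hd
      rcases hq.dvd_mul.1 hd with h | h
      · exact hU.2.2 q hq hr h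
      · exact hr.2.2 (BGTypeP.piNat_sigmaCore M q hq (hidx ▸ h))
  · refine ⟨⊥, bot_le, fun e _ => mem_normalizer_iff.2 fun x => by simp, bot_le,
      fun q hq hd => absurd hd (by simpa using hq.ne_one), fun q hq hr hd => ?_⟩
    obtain ⟨P, hPE, hPc⟩ := exists_prime_subgroup_of_dvd hpk.1 (show p ∣ Nat.card E by
      have hd := hpk.2.1
      rw [← BGTypeBasic.card_mul_of_isComplIn hE] at hd
      exact (hpk.1.dvd_mul.1 hd).resolve_right fun h =>
        hpk.2.2.1 (BGTypeP.piNat_sigmaCore M p hpk.1 h))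
    rw [relIndex_bot_left, ← BGTypeBasic.card_mul_of_isComplIn hE] at hd
    rcases hq.dvd_mul.1 hd with h | h
    · exact hr.2.1 (kappa_of_dvd hG hM hp hE hPE hPc
        (fixed_ne_bot_of_kappa hG hpk (hPE.trans hE.1) hPc) hq h)
    · exact hr.2.2 (BGTypeP.piNat_sigmaCore M q hq h)

theorem U_inf_centralizer {K E U : Subgroup G} (hK : Cfsg.IsPiHallOf (Cfsg.kappa M) K M)
    (hK1 : K ≠ ⊥) (hE : Cfsg.IsComplIn E (Cfsg.sigmaCore M) M) (hKE : K ≤ E) (hUE : U ≤ E)
    (hUπ : PiNat (Cfsg.kappa M)ᶜ (Nat.card U)) {k : G} (hk : k ∈ K) (hk1 : k ≠ 1) :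
    U ⊓ centralizer ({k} : Set G) = ⊥ := by
  obtain ⟨r, X, hr, hX, hXc, hle⟩ := exists_prime_le hG hM hk hk1
  rw [eq_bot_iff, ← BGTypeP.inf_eq_bot_of_piNat (A := K) (B := U) hK.2.1 hUπ]
  refine le_inf ?_ inf_le_left
  rw [← ((hall_kappa_action hG hM hK hK1 hE hKE).2.1 r X hr hX hXc).2]
  exact inf_le_inf hUE (hle.trans (centralizer_le_normalizer _))

/-- `U = [U, K]`, hence `U ≤ E'`. -/
theorem U_le_commutator {K E U : Subgroup G} (hK : Cfsg.IsPiHallOf (Cfsg.kappa M) K M)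
    (hK1 : K ≠ ⊥) (hE : Cfsg.IsComplIn E (Cfsg.sigmaCore M) M) (hKE : K ≤ E) (hUE : U ≤ E)
    (hKU : K ≤ normalizer (U : Set G)) (hUπ : PiNat (Cfsg.kappa M)ᶜ (Nat.card U)) :
    U ≤ ⁅U, K⁆ := by
  intro u hu
  obtain ⟨x, hx, c, hc, rfl⟩ := CoprimeAction.exists_mul_fixed hKU (PiNat.coprime hK.2.1 hUπ)
    (Or.inl (subgroup_solvable hG hM (hKE.trans hE.1))) hu
  obtain ⟨k, hk, hk1⟩ := K.bot_or_exists_ne_one.resolve_left hK1
  have h : c ∈ U ⊓ centralizer ({k} : Set G) :=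
    ⟨hc.1, mem_centralizer_singleton_iff.2 (hc.2 k hk).symm⟩
  rw [U_inf_centralizer hG hM hK hK1 hE hKE hUE hUπ hk hk1, mem_bot] at h
  rw [h, mul_one]
  exact hx

section decomposition

variable {K U : Subgroup G} (hKU : Cfsg.IsSigmaDecomposition M K U)

include hKU

theorem piNat_U : PiNat (Cfsg.kappa M)ᶜ (Nat.card U) :=
  PiNat.mono ((BGFinal72.hall_U (BGTypeP.hall hG hM) hKU).2.1) fun _ h => h.2.1

/-- `U K` is a complement of `M_σ`. -/
theorem decomp_compl : Cfsg.IsComplIn (U ⊔ K) (Cfsg.sigmaCore M) M := by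
  have hle : U ⊔ K ≤ M := sup_le hKU.compl.1 hKU.hall.1
  have hc : Nat.card ↥(U ⊔ K) = Nat.card U * Nat.card K := by
    refine (BGTypeBasic.card_mul_of_isComplIn (A := U) (B := K) ⟨le_sup_left, le_sup_right, ?_, ?_⟩).symm
    · rw [inf_comm]
      exact BGTypeP.inf_eq_bot_of_piNat hKU.hall.2.1 (piNat_U hG hM hKU)
    · intro m hm
      rw [← SetLike.mem_coe, coe_mul_of_right_le_normalizer_left _ _ hKU.normal] at hm
      obtain ⟨a, ha, b, hb, hab⟩ := Set.mem_mul.1 hm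
      exact ⟨a, ha, b, hb, hab.symm⟩
  refine compl_of_hall hG hM (BGTypeP.hallOf_iff.2 ⟨hle, ?_, ?_⟩)
  · rw [hc]
    exact (PiNat.mono (BGFinal72.hall_U (BGTypeP.hall hG hM) hKU).2.1
      fun _ h => h.2.2).mul (PiNat.mono hKU.hall.2.1 fun _ hq => hq.2.2.1)
  · have h1 : Nat.card ↥(U ⊔ K) * (U ⊔ K).relIndex M =
        Nat.card ↥(U ⊔ K) * Nat.card (Cfsg.sigmaCore M) := by
      rw [BGFinal72.card_mul_relIndex hle, hc, ← BGFinal72.card_eq hKU, mul_assoc]
    rw [Nat.eq_of_mul_eq_mul_left Nat.card_pos h1, compl_compl]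
    exact BGTypeP.piNat_sigmaCore M

omit hG hM in
/-- `U M_σ` is normal in `M`. -/
theorem decomp_normal : M ≤ normalizer ((U ⊔ Cfsg.sigmaCore M : Subgroup G) : Set G) := by
  set N := U ⊔ Cfsg.sigmaCore M with hN
  have hUN : U ≤ normalizer (N : Set G) := le_sup_left.trans le_normalizer
  have hσN : Cfsg.sigmaCore M ≤ normalizer (N : Set G) := le_sup_right.trans le_normalizer
  have hKN : K ≤ normalizer (N : Set G) := fun k hk => by
    have h1 := hKU.normal hk
    have h2 := BGFinal72.le_normalizer_sigmaCore M (hKU.hall.1 hk)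
    refine CoprimeAction.mem_normalizer_of_conj_smul_eq ?_
    rw [hN, smul_sup, BGSigma.conj_le_normalizer h1, BGSigma.conj_le_normalizer h2]
  rw [← BGTypeBasic.sup_eq_of_isComplIn hKU.compl]
  exact sup_le hUN (sup_le hKN hσN)

theorem decomp_U_le_commutator (hK1 : K ≠ ⊥) : U ≤ ⁅U, K⁆ :=
  U_le_commutator hG hM hKU.hall hK1 (decomp_compl hG hM hKU) le_sup_right le_sup_left
    hKU.normal (piNat_U hG hM hKU)

/-- `M' = U M_σ`. -/
theorem decomp_derived (hK1 : K ≠ ⊥) : ⁅M, M⁆ = U ⊔ Cfsg.sigmaCore M := by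
  refine le_antisymm ?_ (sup_le ((decomp_U_le_commutator hG hM hKU hK1).trans
    (commutator_mono hKU.compl.1 hKU.hall.1)) (BGSigma.sigmaCore_le_commutator hG hM))
  refine BGFinal72.le_U_sigma (BGTypeP.hall hG hM) hKU (decomp_normal hKU)
    (commutator_le_self M) fun q hq hd hk => ?_
  exact (kappa_tau1_of_cyclic hG hM hKU.hall hKU.cyclic q hk).2.2.2.1 hd

/-- `K* ≤ M''`. -/
theorem decomp_star_le (hK1 : K ≠ ⊥) :
    Cfsg.sigmaCore M ⊓ centralizer (K : Set G) ≤ ⁅⁅M, M⁆, ⁅M, M⁆⁆ := by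
  set S := Cfsg.sigmaCore M with hS
  set E := U ⊔ K with hEdef
  have hE := decomp_compl hG hM hKU
  set N : Subgroup G := ⁅S, S⁆ ⊔ ⁅S, U⁆ with hN
  have hM' : U ⊔ S ≤ ⁅M, M⁆ := (decomp_derived hG hM hKU hK1).ge
  have hNM : N ≤ ⁅⁅M, M⁆, ⁅M, M⁆⁆ :=
    sup_le (commutator_mono (le_sup_right.trans hM') (le_sup_right.trans hM'))
      (commutator_mono (le_sup_right.trans hM') (le_sup_left.trans hM'))
  have hUS : U ≤ normalizer (S : Set G) :=
    hKU.compl.1.trans (BGFinal72.le_normalizer_sigmaCore M)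
  have hNS : N ≤ S :=
    sup_le (commutator_le_self S) (CoprimeAction.commutator_le_self_of_le_normalizer hUS)
  have hEN : E ≤ normalizer (N : Set G) := by
    intro e he
    have heS : e ∈ normalizer (S : Set G) := BGFinal72.le_normalizer_sigmaCore M (hE.1 he)
    have heU : e ∈ normalizer (U : Set G) := (sup_le le_normalizer hKU.normal) he
    refine CoprimeAction.mem_normalizer_of_conj_smul_eq ?_
    rw [hN, smul_sup]
    simp only [HallTheorem.conj_smul_eq_map, map_commutator]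
    rw [← HallTheorem.conj_smul_eq_map, ← HallTheorem.conj_smul_eq_map,
      BGSigma.conj_le_normalizer heS, BGSigma.conj_le_normalizer heU]
  have hcop : (Nat.card E).Coprime (Nat.card N) :=
    ((PiNat.coprime (BGTypeP.piNat_sigmaCore M)
      (BGTypeP.hallOf_iff.1 (compl_hall hG hM hE)).2.1).coprime_dvd_left
      (card_dvd_of_le hNS)).symm
  intro y hy
  have hSN : S ≤ normalizer (N : Set G) := by
    refine CoprimeAction.le_normalizer_of_conj_mem fun s hs n hn => ?_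
    have : s * n * s⁻¹ = ⁅s, n⁆ * n := by group
    rw [this]
    exact mul_mem (le_sup_left (b := ⁅S, U⁆) (commutator_mem_commutator hs (hNS hn))) hn
  have hfix : ∀ a ∈ E, a * y * a⁻¹ * y⁻¹ ∈ N := by
    intro a ha
    rw [hEdef, ← SetLike.mem_coe, coe_mul_of_right_le_normalizer_left _ _ hKU.normal] at ha
    obtain ⟨u, hu, k, hk, rfl⟩ := Set.mem_mul.1 ha
    have hky : k * y = y * k := hy.2 k hk
    have h1 : (u * k) * y * (u * k)⁻¹ * y⁻¹ = ⁅u, y⁆ := by
      rw [commutatorElement_def, mul_assoc u k y, hky]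
      group
    rw [h1, ← commutatorElement_inv]
    exact inv_mem (le_sup_right (a := ⁅S, S⁆) (commutator_mem_commutator hy.1 hu))
  obtain ⟨c, hc, hcy⟩ := CoprimeAction.exists_fixed_mem_coset_of_normal hEN hcop
    (Or.inl (subgroup_solvable hG hM hE.1)) (hSN hy.1) hfix
  have hcS : c ∈ S := by
    have := mul_mem hy.1 (hNS hcy)
    simpa using this
  have hcd : c ∈ ⁅S, S⁆ := (S1426.result hG M hM E hE).1 ⟨hcS, hc⟩
  have hyN : y ∈ N := by
    have := mul_mem (le_sup_left (b := ⁅S, U⁆) hcd) (inv_mem hcy)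
    simpa using this
  exact hNM hyN

end decomposition

end Cfsg.Agent.BG14
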