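import Cfsg.Agent.Lib.BGTypePPair
import Cfsg.Agent.S1352
import Cfsg.Agent.S1354

/-!
Bender-Glauberman, Theorem 14.7 (a), (b): K and K* are cyclic, so Z = K × K* is cyclic.
-/

set_option autoImplicit false
set_option linter.style.haveILetI false

namespace Cfsg.Agent.BGTypeP

open Subgroup Cfsg.Agent.HallCore

universe u

variable {G : Type u} [Group G] [Finite G] {M K : Subgroup G}

/-- A nilpotent subgroup of a Hall κ(M)-subgroup is cyclic. -/
theorem isCyclic_of_nilpotent {Y : Subgroup G} (hY : Y ≤ M)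
    (hYκ : PiNat (Cfsg.kappa M) (Nat.card Y)) (hnil : Group.IsNilpotent Y) : IsCyclic Y := by
  haveI := hnil
  haveI : IsZGroup Y := ⟨fun p hp S => by
    haveI := Fact.mk hp
    by_cases hd : p ∣ Nat.card Y
    · obtain ⟨T, hT⟩ := (S.isPGroup'.map (Subgroup.inclusion hY)).exists_le_sylow
      haveI := ((hYκ p hp hd).2.2.2 T).1
      haveI : IsCyclic ↥((S : Subgroup Y).map (Subgroup.inclusion hY)) :=
        isCyclic_of_injective (inclusion hT) (inclusion_injective hT)
      exact (((S : Subgroup Y).equivMapOfInjective _ (inclusion_injective hY)).isCyclic).2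
        inferInstance
    · obtain ⟨n, hn⟩ := IsPGroup.iff_card.1 S.isPGroup'
      have h1 : Nat.card S = 1 := by
        rcases Nat.eq_zero_or_pos n with h0 | h0
        · rw [hn, h0, pow_zero]
        · exact absurd ((hn ▸ dvd_pow_self p h0.ne').trans (card_subgroup_dvd_card _)) hd
      haveI : Subsingleton S := (Nat.card_eq_one_iff_unique.1 h1).1
      infer_instance⟩
  infer_instance

/-- Theorem 14.7 (b): K is cyclic. -/
theorem TypeP.K_cyclic (h : TypeP M K) : IsCyclic K := by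
  obtain ⟨N, K', U, h', e, hU, hU1⟩ := exists_member_P2 h
  obtain ⟨N', hp⟩ := pair_of_prime h' (card_K_prime h' hU hU1)
  obtain ⟨q, hq, hd, hqM⟩ := h.exists_prime_Ks
  have hqZ : q ∣ Nat.card ↥(Zs N K') := by
    rw [e, card_Z h]; exact hd.mul_left _
  rw [card_Z h'] at hqZ
  have hM : Member (Zs N K') M := ⟨K, h, e.symm⟩
  rcases hq.dvd_mul.1 hqZ with hd' | hd'
  · rw [← hp.eq] at hd'
    have eM : M = N' := member_eq h.min hM ⟨Ks N K', hp.right, hp.Z_eq⟩ hqM
      (piNat_Ks N' (Ks N K') q hq hd')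
    subst eM
    have eK : K = Ks N K' := h.eq_of_Z hp.right (by rw [hp.Z_eq, e])
    subst eK
    obtain ⟨r, hr, hrd⟩ := Nat.exists_prime_and_dvd
      (n := Nat.card U) (fun e' => hU1 (eq_bot_of_card_eq U e'))
    haveI := Fact.mk hr
    obtain ⟨R, A, -, -, -, -, -, -, -, -, -, -, hnil, -⟩ := exists_omega h' hU hrd
    refine isCyclic_of_nilpotent h.K_le h.hall.2.1 ?_
    haveI := hnil
    exact Group.nilpotent_of_mulEquiv
      (subgroupOfEquivOfLe (inf_le_left : Ks N K' ≤ Cfsg.sigmaCore N))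
  · have eM : M = N := member_eq h.min hM ⟨K', h', rfl⟩ hqM (piNat_Ks N K' q hq hd')
    subst eM
    have eK : K = K' := h.eq_of_Z h' e.symm
    exact eK ▸ hU.cyclic

theorem TypeP.exists_U (h : TypeP M K) : ∃ U, Cfsg.IsSigmaDecomposition M K U :=
  (S1352.result h.min M h.coatom K h.K_cyclic h.hall).1

/-- Theorem 14.7 (b): K* is cyclic. -/
theorem TypeP.Ks_cyclic (h : TypeP M K) : IsCyclic ↥(Ks M K) := by
  obtain ⟨L, hL⟩ := exists_pair h
  exact hL.right.K_cyclic

theorem TypeP.Z_comm (h : TypeP M K) {a b : G} (ha : a ∈ Zs M K) (hb : b ∈ Zs M K) :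
    Commute a b := by
  haveI := h.K_cyclic
  haveI := h.Ks_cyclic
  obtain ⟨k, hk, y, hy, rfl⟩ := mem_Z.1 ha
  obtain ⟨k', hk', y', hy', rfl⟩ := mem_Z.1 hb
  have h1 : Commute k k' := PGroupsBasic.comm_of_isMulCommutative (H := K) inferInstance hk hk'
  have h2 : Commute y y' :=
    PGroupsBasic.comm_of_isMulCommutative (H := Ks M K) inferInstance hy hy'
  exact (h1.mul_right (commute_K_Ks hk hy')).mul_left ((commute_K_Ks hk' hy).symm.mul_right h2)

theorem TypeP.Z_cyclic (h : TypeP M K) : IsCyclic ↥(Zs M K) := by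
  haveI := h.K_cyclic
  haveI := h.Ks_cyclic
  obtain ⟨a, ha⟩ := IsCyclic.exists_generator (α := K)
  obtain ⟨b, hb⟩ := IsCyclic.exists_generator (α := ↥(Ks M K))
  refine isCyclic_iff_exists_zpowers_eq_top.2
    ⟨⟨(a : G) * b, mul_mem_sup a.2 b.2⟩, eq_top_iff.2 fun z _ => ?_⟩
  obtain ⟨k, hk, y, hy, e⟩ := mem_Z.1 z.2
  have hcop : (orderOf (a : G)).Coprime (orderOf (b : G)) :=
    (PiNat.coprime (piNat_orderOf (piNat_Ks M K) b.2) (piNat_orderOf h.piNat_K a.2)).symm
  have h1 : k ∈ zpowers ((a : G) * b) := by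
    obtain ⟨i, hi⟩ := mem_zpowers_iff.1 (ha ⟨k, hk⟩)
    rw [show k = (a : G) ^ i from (congrArg Subtype.val hi).symm]
    exact zpow_mem (mem_zpowers_mul (commute_K_Ks a.2 b.2) hcop) i
  have h2 : y ∈ zpowers ((a : G) * b) := by
    obtain ⟨i, hi⟩ := mem_zpowers_iff.1 (hb ⟨y, hy⟩)
    rw [show y = (b : G) ^ i from (congrArg Subtype.val hi).symm]
    exact zpow_mem (mem_zpowers_mul_right (commute_K_Ks a.2 b.2) hcop) i
  obtain ⟨n, hn⟩ := mem_zpowers_iff.1 (mul_mem h1 h2)
  exact mem_zpowers_iff.2 ⟨n, Subtype.ext (by simp [hn, e])⟩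


theorem TypeP.centralizer_K (h : TypeP M K) {k : G} (hk : k ∈ K) (hk1 : k ≠ 1) :
    M ⊓ centralizer ({k} : Set G) = Zs M K :=
  (S1354.result h.min M h.coatom K h.K_cyclic h.hall).2 h.ne k hk hk1

theorem TypeP.centralizer_Zh (h : TypeP M K) {z : G} (hz : z ∈ Zh M K) :
    centralizer ({z} : Set G) = Zs M K := by
  obtain ⟨k, hk, y, hy, hk1, hy1, rfl⟩ := h.mem_Zh.1 hz
  refine le_antisymm (fun c hc => ?_) fun c hc =>
    mem_centralizer_singleton_iff.2 (h.Z_comm hc hz.1).eq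
  have hc' : Commute c (k * y) := mem_centralizer_singleton_iff.1 hc
  have hcop : (orderOf k).Coprime (orderOf y) :=
    (PiNat.coprime (piNat_orderOf (piNat_Ks M K) hy) (piNat_orderOf h.piNat_K hk)).symm
  have hck : Commute c k := by
    obtain ⟨i, hi⟩ := mem_zpowers_iff.1 (mem_zpowers_mul (commute_K_Ks hk hy) hcop)
    exact hi ▸ hc'.zpow_right i
  have hcy : Commute c y := by
    obtain ⟨i, hi⟩ := mem_zpowers_iff.1 (mem_zpowers_mul_right (commute_K_Ks hk hy) hcop)
    exact hi ▸ hc'.zpow_right i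
  rw [← h.centralizer_K hk hk1]
  exact ⟨h.centralizer_le hy hy1 (mem_centralizer_singleton_iff.2 hcy.eq),
    mem_centralizer_singleton_iff.2 hck.eq⟩


/-- Every maximal subgroup has a standard factorisation. -/
theorem hall_kappa_cyclic (hG : Cfsg.IsMinSimpleOddOrder G) (hM : IsCoatom M)
    (hK : Cfsg.IsPiHallOf (Cfsg.kappa M) K M) : IsCyclic K := by
  by_cases hK1 : K = ⊥
  · subst hK1; infer_instance
  · exact TypeP.K_cyclic ⟨hG, hM, hK, hK1⟩

theorem exists_decomposition (hG : Cfsg.IsMinSimpleOddOrder G) {M : Subgroup G} (hM : IsCoatom M) :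
    ∃ K U : Subgroup G, Cfsg.IsSigmaDecomposition M K U := by
  obtain ⟨K, hK⟩ := exists_hallOf (solvable hG hM) (Cfsg.kappa M)
  obtain ⟨U, hU⟩ := (S1352.result hG M hM K (hall_kappa_cyclic hG hM hK) hK).1
  exact ⟨K, U, hU⟩

end Cfsg.Agent.BGTypeP
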