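import Mathlib
import Cfsg.Agent.Lib.BGFinalBasic72
import Cfsg.Agent.S1350
import Cfsg.Agent.S1430

/-!
For `K ≠ 1` the factor `U` of a standard factorisation `M = K U M_σ` is abelian.
-/

set_option autoImplicit false
set_option linter.style.haveILetI false

namespace Cfsg.Agent.BGFinal72

open scoped Pointwise
open Subgroup Cfsg.Agent.HallCore Cfsg.Agent.BGUnique

universe u

variable {G : Type u} [Group G] [Finite G]

theorem isPiHall_subgroupOf {π : Set ℕ} {H M : Subgroup G} (h : Cfsg.IsPiHallOf π H M) :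
    Cfsg.IsPiHall π (H.subgroupOf M) :=
  ⟨fun p hp hd => h.2.1 p hp (by rwa [Nat.card_congr (subgroupOfEquivOfLe h.1).toEquiv] at hd),
    h.2.2⟩

/-- Hall subgroups of the solvable group `M` for the same primes are conjugate in it. -/
theorem hallOf_conj (hG : Cfsg.IsMinSimpleOddOrder G) {M : Subgroup G} (hM : IsCoatom M)
    {π : Set ℕ} {H L : Subgroup G} (hH : Cfsg.IsPiHallOf π H M) (hL : Cfsg.IsPiHallOf π L M) :
    ∃ m ∈ M, MulAut.conj m • H = L := by
  haveI := isSolvable_of_ne_top hG hM.1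
  obtain ⟨m, hm⟩ := HallTheorem.isPiHall_conjugate_of_solvable (isPiHall_subgroupOf hH)
    (isPiHall_subgroupOf hL)
  refine ⟨m, m.2, ?_⟩
  have h3 := congrArg (Subgroup.map M.subtype) hm
  rw [HallTheorem.map_conj_smul, map_subgroupOf_eq_of_le hH.1, map_subgroupOf_eq_of_le hL.1] at h3
  exact h3

theorem U_isMulCommutative (hG : Cfsg.IsMinSimpleOddOrder G) {M K U : Subgroup G} (hM : IsCoatom M)
    (h : Cfsg.IsSigmaDecomposition M K U) (hK1 : K ≠ ⊥) : IsMulCommutative U := by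
  obtain ⟨V, hVc, hV, -, -⟩ := (S1430.result hG M hM K h.hall hK1).2.1
  obtain ⟨m, -, rfl⟩ := hallOf_conj hG hM hV (hall_U (S1350.result hG M hM).1 h)
  refine ⟨⟨?_⟩⟩
  rintro ⟨_, ⟨a, ha, rfl⟩⟩ ⟨_, ⟨b, hb, rfl⟩⟩
  refine Subtype.ext ?_
  show MulAut.conj m a * MulAut.conj m b = MulAut.conj m b * MulAut.conj m a
  rw [← map_mul, ← map_mul, PGroupsBasic.comm_of_isMulCommutative hVc ha hb]

end Cfsg.Agent.BGFinal72
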