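import Mathlib
import Cfsg.Agent.Lib.CoprimeExtra

/-!
Commutator calculus modulo a normalised subgroup, and small helpers for coprime action proofs.
-/

namespace Cfsg.Agent.CoprimeTools

open scoped Pointwise commutatorElement
open Cfsg.Agent.CoprimeSZ Cfsg.Agent.CoprimeAction

variable {G : Type*} [Group G]

/-- Three subgroup lemma modulo a subgroup normalised by the three subgroups. -/
theorem commutator_rotate_le {H₁ H₂ H₃ N : Subgroup G}
    (hn₁ : H₁ ≤ Subgroup.normalizer (N : Set G)) (hn₂ : H₂ ≤ Subgroup.normalizer (N : Set G))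
    (hn₃ : H₃ ≤ Subgroup.normalizer (N : Set G))
    (h1 : ⁅⁅H₂, H₃⁆, H₁⁆ ≤ N) (h2 : ⁅⁅H₃, H₁⁆, H₂⁆ ≤ N) : ⁅⁅H₁, H₂⁆, H₃⁆ ≤ N := by
  set L := Subgroup.normalizer (N : Set G)
  let π := QuotientGroup.mk' (N.subgroupOf L)
  have key : ∀ X Y Z : Subgroup G, X ≤ L → Y ≤ L → Z ≤ L →
      (⁅⁅(X.subgroupOf L).map π, (Y.subgroupOf L).map π⁆, (Z.subgroupOf L).map π⁆ = ⊥ ↔
        ⁅⁅X, Y⁆, Z⁆ ≤ N) := by
    intro X Y Z hX hY hZ
    rw [← Subgroup.map_commutator, ← Subgroup.map_commutator, Subgroup.map_eq_bot_iff,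
      QuotientGroup.ker_mk', ← Subgroup.map_le_map_iff_of_injective L.subtype_injective,
      Subgroup.map_commutator, Subgroup.map_commutator, Subgroup.map_subgroupOf_eq_of_le hX,
      Subgroup.map_subgroupOf_eq_of_le hY, Subgroup.map_subgroupOf_eq_of_le hZ,
      Subgroup.map_subgroupOf_eq_of_le Subgroup.le_normalizer]
  rw [← key _ _ _ hn₁ hn₂ hn₃]
  exact Subgroup.commutator_commutator_eq_bot_of_rotate ((key _ _ _ hn₂ hn₃ hn₁).2 h1)
    ((key _ _ _ hn₃ hn₁ hn₂).2 h2)

/-- Whatever normalises `H` and `K` normalises `⁅H, K⁆`. -/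
theorem le_normalizer_commutator_of_le {X H K : Subgroup G}
    (hH : X ≤ Subgroup.normalizer (H : Set G)) (hK : X ≤ Subgroup.normalizer (K : Set G)) :
    X ≤ Subgroup.normalizer ((⁅H, K⁆ : Subgroup G) : Set G) := by
  intro x hx
  refine mem_normalizer_of_conj_smul_eq ?_
  rw [conj_smul_eq_map, Subgroup.map_commutator, ← conj_smul_eq_map, ← conj_smul_eq_map,
    conj_smul_eq_self (hH hx), conj_smul_eq_self (hK hx)]

/-- A centraliser is normalised by anything normalising the centralised subgroup. -/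
theorem le_normalizer_centralizer_of_le {X H : Subgroup G}
    (hH : X ≤ Subgroup.normalizer (H : Set G)) :
    X ≤ Subgroup.normalizer ((Subgroup.centralizer (H : Set G)) : Set G) := by
  refine le_normalizer_of_conj_mem fun x hx c hc => ?_
  rw [mem_centralizer_iff_conj] at hc ⊢
  intro h hh
  have h1 := hc _ (conj_mem' (hH hx) hh)
  calc h * (x * c * x⁻¹) * h⁻¹ = x * (x⁻¹ * h * x * c * (x⁻¹ * h * x)⁻¹) * x⁻¹ := by
        simp [mul_assoc]
    _ = x * c * x⁻¹ := by rw [h1]

/-- Commutator with a sup on the left. -/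
theorem commutator_sup_le {H K X N : Subgroup G} (hn : H ⊔ K ≤ Subgroup.normalizer (N : Set G))
    (hH : ⁅H, X⁆ ≤ N) (hK : ⁅K, X⁆ ≤ N) : ⁅H ⊔ K, X⁆ ≤ N := by
  rw [Subgroup.commutator_le]
  intro g hg x hx
  suffices H ⊔ K ≤ ({ carrier := {g : G | g ∈ Subgroup.normalizer (N : Set G) ∧ ⁅g, x⁆ ∈ N}
                      one_mem' := ⟨one_mem _, by simp⟩
                      mul_mem' := fun {a b} ha hb => ⟨mul_mem ha.1 hb.1, by
                        have : ⁅a * b, x⁆ = (a * ⁅b, x⁆ * a⁻¹) * ⁅a, x⁆ := by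
                          simp [commutatorElement_def, mul_assoc]
                        rw [this]
                        exact mul_mem (conj_mem ha.1 hb.2) ha.2⟩
                      inv_mem' := fun {a} ha => ⟨inv_mem ha.1, by
                        have : ⁅a⁻¹, x⁆ = a⁻¹ * ⁅a, x⁆⁻¹ * a := by
                          simp [commutatorElement_def, mul_assoc]
                        rw [this]
                        exact conj_mem' ha.1 (inv_mem ha.2)⟩ } : Subgroup G) from (this hg).2
  exact sup_le (fun h hh => ⟨hn (Subgroup.mem_sup_left hh), hH (Subgroup.commutator_mem_commutator hh hx)⟩)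
    (fun k hk => ⟨hn (Subgroup.mem_sup_right hk), hK (Subgroup.commutator_mem_commutator hk hx)⟩)

/-- If `A` has no fixed points on `K` besides the trivial ones then `[K,A] = K`. -/
theorem commutator_eq_self [Finite G] {A K : Subgroup G}
    (hAK : A ≤ Subgroup.normalizer (K : Set G)) (hcop : (Nat.card A).Coprime (Nat.card K))
    (hsolv : Group.IsSolvable A ∨ Group.IsSolvable K)
    (hfix : K ⊓ Subgroup.centralizer (A : Set G) = ⊥) : ⁅K, A⁆ = K := by
  have h := commutator_sup_centralizer_eq hAK hcop hsolv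
  rwa [hfix, sup_bot_eq] at h

end Cfsg.Agent.CoprimeTools
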