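import Cfsg.Agent.Lib.BGTauPair62
import Cfsg.Agent.Lib.OddNarrow
import Cfsg.Agent.Lib.CoprimeTools
import Cfsg.Agent.S1412

/-!
A prime of tau two with nonabelian Sylow subgroups (Bender-Glauberman 12.7).
-/

set_option autoImplicit false
set_option linter.style.haveILetI false

namespace Cfsg.Agent.BGTau62

open Subgroup
open Cfsg.Agent.BGUnique
open scoped commutatorElement Pointwise

universe u

variable {G : Type u} [Group G] [Finite G] {p : ℕ} [hp : Fact p.Prime]

/-- A normal subgroup of order `p` over a normal subgroup of a `p`-group is central modulo it. -/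
theorem comm_mem_of_relIndex {T Z A : Subgroup G} (hT : IsPGroup p T) (hZA : Z ≤ A) (hAT : A ≤ T)
    (hTZ : T ≤ normalizer (Z : Set G)) (hTA : T ≤ normalizer (A : Set G))
    (hi : Z.relIndex A = p) {g a : G} (hg : g ∈ T) (ha : a ∈ A) :
    g * a * g⁻¹ * a⁻¹ ∈ Z := by
  haveI : (Z.subgroupOf T).Normal := normal_subgroupOf_of_le_normalizer hTZ
  haveI : (A.subgroupOf T).Normal := normal_subgroupOf_of_le_normalizer hTA
  set f := QuotientGroup.mk' (Z.subgroupOf T)
  haveI : ((A.subgroupOf T).map f).Normal :=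
    (inferInstance : (A.subgroupOf T).Normal).map f (QuotientGroup.mk'_surjective _)
  have hc : Nat.card ↥((A.subgroupOf T).map f) = p := by
    rw [← HallSolvable.relIndex_eq_card_map, relIndex_subgroupOf hAT, hi]
  have h1 := PGroupsBasic.le_center_of_card_eq_prime (hT.to_quotient _) hc
    (mem_map_of_mem f (show (⟨a, hAT ha⟩ : T) ∈ A.subgroupOf T from ha))
  have h2 := mem_center_iff.1 h1 (f ⟨g, hg⟩)
  rw [← commutatorElement_eq_one_iff_mul_comm, ← map_commutatorElement] at h2
  exact (QuotientGroup.eq_one_iff (N := Z.subgroupOf T) (⁅(⟨g, hg⟩ : T), ⟨a, hAT ha⟩⁆)).1 h2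

variable (hG : Cfsg.IsMinSimpleOddOrder G)
include hG

/-- In a nonabelian Sylow subgroup a noncentral element of a maximal elementary subgroup of order
`p ^ 2` has no `p`-th root. -/
theorem no_root (S : Sylow p G) (hna : ¬ IsMulCommutative (S : Subgroup G)) {A : Subgroup G}
    (hAS : A ≤ (S : Subgroup G)) (hA : Cfsg.IsElementaryAbelian p A) (hA2 : Nat.card A = p ^ 2)
    (hmax : ∀ B : Subgroup G, Cfsg.IsElementaryAbelian p B → A ≤ B → B = A)
    {y : G} (hy : y ∈ (S : Subgroup G)) (hyA : y ^ p ∈ A)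
    (hnc : ¬ (S : Subgroup G) ≤ centralizer ({y ^ p} : Set G)) : False := by
  have hp2 : p ≠ 2 := prime_ne_two hG ((hA2 ▸ dvd_pow_self p two_ne_zero : p ∣ Nat.card A).trans
    (card_subgroup_dvd_card A))
  by_cases hr : Cfsg.PRankLE p 2 (S : Subgroup G)
  · obtain h | ⟨P₁, P₂, hsup, hcomm, -, -, hexp, hcyc, -⟩ := S1412.result hG p S hr
    · exact hna h
    have h1 : P₂ ≤ normalizer (P₁ : Set G) := fun b hb => centralizer_le_normalizer _
      (mem_centralizer_iff.2 fun a ha => hcomm a ha b hb)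
    have h2 : y ∈ ((P₁ ⊔ P₂ : Subgroup G) : Set G) := by rw [hsup]; exact hy
    rw [coe_mul_of_right_le_normalizer_left P₁ P₂ h1] at h2
    obtain ⟨a, ha, b, hb, rfl⟩ := Set.mem_mul.1 h2
    refine hnc ?_
    rw [← hsup]
    have hap : a ^ p = 1 := by
      have := Monoid.pow_exponent_eq_one (⟨a, ha⟩ : P₁)
      rw [hexp] at this
      exact congrArg Subtype.val this
    rw [(show Commute a b from hcomm a ha b hb).mul_pow, hap, one_mul]
    refine sup_le (fun c hc => mem_centralizer_singleton_iff.2 (hcomm c hc _ (pow_mem hb p)))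
      fun c hc => mem_centralizer_singleton_iff.2 ?_
    haveI := hcyc
    exact PGroupsBasic.comm_of_isMulCommutative (H := P₂) inferInstance hc (pow_mem hb p)
  · set A' := A.subgroupOf (S : Subgroup G)
    have hA' : Cfsg.IsElementaryAbelian p A' :=
      PGroupsBasic.isElementaryAbelian_comap_injective hA (Subgroup.subtype_injective _)
    have hA'2 : Nat.card A' = p ^ 2 := by
      rw [Nat.card_congr (subgroupOfEquivOfLe hAS).toEquiv, hA2]
    have hA'max : ∀ B : Subgroup ↥(S : Subgroup G), Cfsg.IsElementaryAbelian p B → A' ≤ B → B = A' := by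
      intro B hB hAB
      have h3 := hmax (B.map (S : Subgroup G).subtype)
        (PGroupsBasic.isElementaryAbelian_map_hom hB _)
        (by rw [← map_subgroupOf_eq_of_le hAS]; exact map_mono hAB)
      refine map_injective (Subgroup.subtype_injective _) ?_
      rw [h3, map_subgroupOf_eq_of_le hAS]
    obtain ⟨hnW, hZc, -, hTchar, hTi⟩ :=
      OddNarrow.narrow hp2 S.isPGroup' hr A' hA' hA'2 hA'max _ _ rfl rfl
    set Z := closure {x : ↥(S : Subgroup G) | x ∈ center ↥(S : Subgroup G) ∧ x ^ p = 1}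
    set W := closure {x : ↥(S : Subgroup G) | x ∈ Subgroup.upperCentralSeries ↥(S : Subgroup G) 2 ∧ x ^ p = 1}
    set y' : ↥(S : Subgroup G) := ⟨y, hy⟩
    haveI := hTchar
    have hy' : y' ^ p ∈ centralizer (W : Set ↥(S : Subgroup G)) := by
      haveI : (centralizer (W : Set ↥(S : Subgroup G))).Normal := inferInstance
      rw [← QuotientGroup.eq_one_iff, QuotientGroup.mk_pow]
      have h5 := pow_card_eq_one' (x := (y' : ↥(S : Subgroup G) ⧸ centralizer (W : Set ↥(S : Subgroup G))))
      rwa [← index_eq_card, hTi] at h5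
    have hZT : Z ≤ centralizer (W : Set ↥(S : Subgroup G)) :=
      (closure_le _).2 fun z hz => mem_centralizer_iff.2 fun w _ =>
        mem_center_iff.1 hz.1 w
    have hZcen : Z ≤ center ↥(S : Subgroup G) := (closure_le _).2 fun z hz => hz.1
    have hZp : ∀ z ∈ Z, z ^ p = 1 := fun z hz => PGroupsBasic.pow_eq_one_of_card hZc hz
    have hyZ : y' ^ p ∉ Z := fun h => hnc fun c hc => mem_centralizer_singleton_iff.2
      (congrArg Subtype.val (mem_center_iff.1 (hZcen h) ⟨c, hc⟩))
    have hZA : Z ≤ A' := by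
      intro z hz
      have hB := hA'max (A' ⊔ zpowers z) (PGroupsBasic.isElementaryAbelian_sup hA'
        (PGroupsBasic.isElementaryAbelian_zpowers (hZp z hz))
        (fun a _ => mem_centralizer_iff.2 fun b hb => by
          obtain ⟨i, rfl⟩ := mem_zpowers_iff.1 hb
          exact ((show Commute a z from mem_center_iff.1 (hZcen hz) a).zpow_right i).eq.symm))
        le_sup_left
      exact hB ▸ mem_sup_right (mem_zpowers z)
    have hwA : y' ^ p ∈ A' := hyA
    refine hnW ?_
    have hle : Z ⊔ zpowers (y' ^ p) ≤ A' := sup_le hZA (zpowers_le.2 hwA)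
    have heq : Z ⊔ zpowers (y' ^ p) = A' := by
      refine eq_of_le_of_card_ge hle ?_
      rw [hA'2]
      have h1 : y' ^ p ≠ 1 := fun h => hyZ (h ▸ one_mem Z)
      haveI := PGroupsBasic.normal_of_le_center hZcen
      rw [PGroupsBasic.card_sup_zpowers
        (PGroupsBasic.orderOf_eq_of_pow_eq_one (hA'.2 _ hwA) h1) hyZ, hZc, pow_two]
    rw [← heq]
    exact sup_le hZT (zpowers_le.2 hy')

variable {M E : Subgroup G} (hM : IsCoatom M)
include hM

/-- BG 12.7, the statement. -/
theorem nonabelian_case (hE : Cfsg.IsComplIn E (Cfsg.sigmaCore M) M) (ht : p ∈ Cfsg.tau2 M)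
    (hS : ∀ S : Sylow p G, ¬ IsMulCommutative (S : Subgroup G))
    {A : Subgroup G} (hA : A ≤ E ∧ Cfsg.IsElementaryAbelian p A ∧ Nat.card A = p ^ 2) :
    Nat.card ↥(A ⊓ centralizer (Cfsg.sigmaCore M : Set G)) = p ∧
      Cfsg.fittingOf M = Cfsg.sigmaCore M ⊔ (A ⊓ centralizer (Cfsg.sigmaCore M : Set G)) ∧
      (∀ y ∈ M, IsPGroup p (zpowers y) → y ^ p ∈ A ⊓ centralizer (Cfsg.sigmaCore M : Set G) →
        y ^ p = 1) ∧
      ∀ X : Subgroup G, X ≤ E → Nat.card X = p → X ≠ A ⊓ centralizer (Cfsg.sigmaCore M : Set G) →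
        Cfsg.sigmaCore M ⊓ centralizer (X : Set G) = ⊥ ∧ ¬ centralizer (X : Set G) ≤ M := by
  obtain ⟨hAE, hAel, hA2⟩ := hA
  obtain ⟨⟨hEA, hall⟩, ⟨hCA, hNME, -⟩, hCX⟩ :=
    S1418.result hG M hM E hE p ht A ⟨hAE, hAel, hA2⟩
  rw [hNME] at hCA
  have hAM : A ≤ M := hAE.trans hE.1
  have hAp := PGroupsBasic.isPGroup_of_isElementaryAbelian hAel
  obtain ⟨hnil, -, -, hCMA, -, -⟩ := S1417.result hG M hM p ht A ⟨hAM, hAel, hA2⟩
  set Ms := Cfsg.sigmaCore M with hMs
  -- Sylow subgroups
  obtain ⟨P, hP, hAP⟩ := exists_isMaxP_ge hAp hAE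
  have hPM := isMaxP_of_compl hG hM hE ht.2.1 hP
  have hPc := isMulCommutative_of_pgroup hG hM ht.2.1 hP.isPGroup hPM.le
  have hPA : P ≤ centralizer (A : Set G) := fun x hx => mem_centralizer_iff.2 fun a ha =>
    PGroupsBasic.comm_of_isMulCommutative hPc (hAP ha) hx
  obtain ⟨S, hPS⟩ := hP.isPGroup.exists_le_sylow
  have hSM : ¬ (S : Subgroup G) ≤ M := fun h =>
    hS S (isMulCommutative_of_pgroup hG hM ht.2.1 S.isPGroup' h)
  have hSP : ∀ x ∈ (S : Subgroup G), x ∈ M → x ∈ P := by
    intro x hx hxM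
    rw [← hPM.eq_of_le ((S : Subgroup G) ⊓ M) (le_inf hPS hPM.le) inf_le_right
      (S.isPGroup'.to_le inf_le_left)]
    exact ⟨hx, hxM⟩
  have hord : ∀ x ∈ P, x ^ p = 1 → x ∈ A := by
    intro x hx hxp
    by_cases hx1 : x = 1
    · exact hx1 ▸ one_mem A
    exact hall _ (zpowers_le.2 (hP.le hx))
      (by rw [Nat.card_zpowers, PGroupsBasic.orderOf_eq_of_pow_eq_one hxp hx1]) (mem_zpowers x)
  -- an element moving `A`
  obtain ⟨g, ⟨hgS, hgN⟩, hgP⟩ := SetLike.exists_of_lt
    (lt_inf_normalizer S.isPGroup' (lt_of_le_of_ne hPS fun h => hSM (h ▸ hPM.le)))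
  have hgA : g ∈ normalizer (A : Set G) := Subgroup.mem_normalizer_fintype fun a ha => hord _
    ((mem_normalizer_iff.1 hgN a).1 (hAP ha)) (by rw [conj_pow, hAel.2 a ha, mul_one, mul_inv_cancel])
  have hgC : g ∉ centralizer (A : Set G) := fun h => hgP (hSP g hgS (hE.1 (hCA h)))
  obtain ⟨z, hzS, hzo, hzc⟩ := BGSigma.exists_central_prime S.isPGroup' fun h => hSM (h ▸ bot_le)
  have hzP : z ∈ P := hSP z hzS (hE.1 (hCA (mem_centralizer_iff.2 fun a ha =>
    ((hzc a (hPS (hAP ha))).eq).symm)))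
  have hzA : z ∈ A := hord z hzP (hzo ▸ pow_orderOf_eq_one z)
  have hz1 : z ≠ 1 := fun h => hp.out.one_lt.ne' (by rw [← hzo, h, orderOf_one])
  set Z := zpowers z with hZdef
  have hZc : Nat.card Z = p := by rw [Nat.card_zpowers, hzo]
  have hZA : Z ≤ A := zpowers_le.2 hzA
  have hZM : ¬ centralizer (Z : Set G) ≤ M := fun h => hSM (le_trans (fun x hx => by
    rw [mem_centralizer_iff]
    intro t ht'
    obtain ⟨i, rfl⟩ := mem_zpowers_iff.1 ht'
    exact ((hzc x hx).zpow_left i).eq) h)
  have hcoset : ∀ a ∈ A, a ∉ Z → ∀ b ∈ A, b * a⁻¹ ∈ Z →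
      ∃ s ∈ (S : Subgroup G), s * a * s⁻¹ = b := by
    intro a ha haZ b hb hba
    set T := (S : Subgroup G) ⊓ normalizer (A : Set G)
    have hTp : IsPGroup p T := S.isPGroup'.to_le inf_le_left
    have hTZ : T ≤ normalizer (Z : Set G) := fun t ht' => centralizer_le_normalizer _
      (mem_centralizer_iff.2 fun u hu => by
        obtain ⟨i, rfl⟩ := mem_zpowers_iff.1 hu
        exact ((hzc t ht'.1).zpow_left i).eq)
    have hi : Z.relIndex A = p := by
      have := HallCore.card_mul_relIndex hZA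
      rw [hZc, hA2, pow_two] at this
      exact Nat.eq_of_mul_eq_mul_left hp.out.pos this
    have hw := comm_mem_of_relIndex hTp hZA (le_inf (hAP.trans hPS) le_normalizer) hTZ
      inf_le_right hi (g := g) ⟨hgS, hgA⟩ ha
    set w := g * a * g⁻¹ * a⁻¹ with hwdef
    have hga : g * a * g⁻¹ = w * a := by rw [hwdef]; group
    have hw1 : w ≠ 1 := by
      intro h
      rw [h, one_mul, mul_inv_eq_iff_eq_mul] at hga
      refine hgC (mem_centralizer_iff.2 fun c hc => ?_)
      have hAeq : Z ⊔ zpowers a = A := by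
        refine eq_of_le_of_card_ge (sup_le hZA (zpowers_le.2 ha)) ?_
        have hlt : Nat.card Z < Nat.card ↥(Z ⊔ zpowers a) :=
          lt_of_le_of_ne (card_le_of_le le_sup_left) fun h' => haZ
            (eq_of_le_of_card_ge (le_sup_left : Z ≤ Z ⊔ zpowers a) h'.ge ▸
              mem_sup_right (mem_zpowers a))
        have hd := card_dvd_of_le (sup_le hZA (zpowers_le.2 ha) : Z ⊔ zpowers a ≤ A)
        rw [hA2] at hd ⊢
        obtain ⟨k, hk, hke⟩ := (Nat.dvd_prime_pow hp.out).1 hd
        rw [hke, hZc] at hlt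
        rw [hke]
        refine Nat.pow_le_pow_right hp.out.pos ?_
        by_contra hk'
        have := Nat.pow_le_pow_right hp.out.pos (show k ≤ 1 by omega)
        rw [pow_one] at this
        omega
      have hle : A ≤ centralizer ({g} : Set G) := by
        rw [← hAeq]
        exact sup_le (zpowers_le.2 (mem_centralizer_singleton_iff.2 (hzc g hgS).eq))
          (zpowers_le.2 (mem_centralizer_singleton_iff.2 hga.symm))
      exact mem_centralizer_singleton_iff.1 (hle hc)
    have hgen : zpowers w = Z := by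
      rcases PGroupsBasic.le_or_inf_eq_bot hZc (zpowers w) with h | h
      · exact le_antisymm (zpowers_le.2 hw) h
      · have h' : w ∈ Z ⊓ zpowers w := ⟨hw, mem_zpowers w⟩
        rw [h, mem_bot] at h'
        exact absurd h' hw1
    rw [← hgen] at hba
    obtain ⟨i, hi'⟩ := (isOfFinOrder_of_finite w).mem_powers_iff_mem_zpowers.2 hba
    have hgw : Commute g w := by
      obtain ⟨j, hj⟩ := mem_zpowers_iff.1 hw
      rw [← hj]
      exact ((hzc g hgS).symm).zpow_right j
    have hpow : ∀ n : ℕ, g ^ n * a * (g ^ n)⁻¹ = w ^ n * a := by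
      intro n
      induction n with
      | zero => simp
      | succ n ih =>
        calc g ^ (n + 1) * a * (g ^ (n + 1))⁻¹ = g * (g ^ n * a * (g ^ n)⁻¹) * g⁻¹ := by
              rw [pow_succ']; group
          _ = g * (w ^ n * a) * g⁻¹ := by rw [ih]
          _ = w ^ n * (g * a * g⁻¹) := by
              rw [← mul_assoc, (hgw.pow_right n).eq]; group
          _ = w ^ (n + 1) * a := by rw [hga, pow_succ]; exact (mul_assoc _ _ _).symm
    exact ⟨g ^ i, pow_mem hgS i, by rw [hpow, show w ^ i = b * a⁻¹ from hi', inv_mul_cancel_right]⟩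
  -- lines with fixed points
  have hC : ∀ X : Subgroup G, X ≤ A → Nat.card X = p → ∀ a ∈ X, a ≠ 1 →
      centralizer (X : Set G) = centralizer ({a} : Set G) := by
    intro X _ hX a ha ha1
    have : zpowers a = X := eq_of_le_of_card_ge (zpowers_le.2 ha) (by
      rw [hX, Nat.card_zpowers, PGroupsBasic.orderOf_eq_of_pow_eq_one
        (PGroupsBasic.pow_eq_one_of_card hX ha) ha1])
    rw [← this, zpowers_eq_closure, centralizer_closure]
  have key : ∀ X Y : Subgroup G, X ≤ A → Y ≤ A → Nat.card X = p → Nat.card Y = p →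
      Ms ⊓ centralizer (X : Set G) ≠ ⊥ → centralizer (Y : Set G) ≤ M → Y = X := by
    intro X Y hXA hYA hX hY hXne hYM
    obtain ⟨hXM, hXu⟩ := hCX X hXA hX hXne
    obtain ⟨a, ha, haZ⟩ : ∃ a ∈ X, a ∉ Z := SetLike.not_le_iff_exists.1 fun h => hZM (by
      rw [← eq_of_le_of_card_ge h (by rw [hX, hZc])]; exact hXM)
    obtain ⟨b, hb, hbZ⟩ : ∃ b ∈ Y, b ∉ Z := SetLike.not_le_iff_exists.1 fun h => hZM (by
      rw [← eq_of_le_of_card_ge h (by rw [hY, hZc])]; exact hYM)
    have ha1 : a ≠ 1 := fun h => haZ (h ▸ one_mem Z)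
    have hb1 : b ≠ 1 := fun h => hbZ (h ▸ one_mem Z)
    have hsupA : Z ⊔ zpowers a = A := by
      refine eq_of_le_of_card_ge (sup_le hZA (zpowers_le.2 (hXA ha))) ?_
      have hZn : (Z.subgroupOf A).Normal := ⟨fun t ht' u => by
        have h1 : u * t * u⁻¹ = t := Subtype.ext (by
          simp only [coe_mul, coe_inv]
          rw [PGroupsBasic.comm_of_isMulCommutative hAel.1 u.2 t.2, mul_inv_cancel_right])
        rw [h1]; exact ht'⟩
      have h2 := PGroupsBasic.card_sup_zpowers (H := Z.subgroupOf A) (x := ⟨a, hXA ha⟩) (p := p)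
        (by rw [Subgroup.orderOf_mk]
            exact PGroupsBasic.orderOf_eq_of_pow_eq_one (hAel.2 a (hXA ha)) ha1) haZ
      rw [Nat.card_congr (subgroupOfEquivOfLe hZA).toEquiv, hZc,
        ← card_map_of_injective A.subtype_injective, Subgroup.map_sup,
        map_subgroupOf_eq_of_le hZA, MonoidHom.map_zpowers, ← pow_two, ← hA2] at h2
      exact h2.ge
    have h2 : b ∈ ((Z ⊔ zpowers a : Subgroup G) : Set G) := by rw [hsupA]; exact hYA hb
    rw [coe_mul_of_right_le_normalizer_left Z (zpowers a) (zpowers_le.2 (centralizer_le_normalizer _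
      (mem_centralizer_iff.2 fun t ht' =>
        PGroupsBasic.comm_of_isMulCommutative hAel.1 (hZA ht') (hXA ha))))] at h2
    obtain ⟨t, ht', a', ha', hba⟩ := Set.mem_mul.1 h2
    have ha'X : a' ∈ X := zpowers_le.2 ha ha'
    have ha'Z : a' ∉ Z := fun h => hbZ (hba ▸ mul_mem ht' h)
    obtain ⟨s, hs, hsab⟩ := hcoset a' (hXA ha'X) ha'Z b (hYA hb)
      (by rw [← hba, mul_inv_cancel_right]; exact ht')
    have ha'1 : a' ≠ 1 := fun h => ha'Z (h ▸ one_mem Z)
    have h3 : MulAut.conj s⁻¹ • M = M := by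
      refine hXu _ (isCoatom_conj _ hM) ?_
      rw [hC X hXA hX a' ha'X ha'1]
      intro c hc
      rw [mem_pointwise_smul_iff_inv_smul_mem, map_inv, inv_inv, MulAut.smul_def, MulAut.conj_apply]
      refine hYM ?_
      rw [hC Y hYA hY b hb hb1, mem_centralizer_singleton_iff, ← hsab]
      have hc' := mem_centralizer_singleton_iff.1 hc
      calc s * c * s⁻¹ * (s * a' * s⁻¹) = s * (c * a') * s⁻¹ := by group
        _ = s * (a' * c) * s⁻¹ := by rw [hc']
        _ = s * a' * s⁻¹ * (s * c * s⁻¹) := by group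
    have hsM : s ∈ M := by simpa using M.inv_mem (BGSigma.mem_of_conj_eq hG hM h3)
    have hsa : b = a' := by
      rw [← hsab, PGroupsBasic.comm_of_isMulCommutative hPc (hSP s hs hsM) (hAP (hXA ha'X)),
        mul_inv_cancel_right]
    have hbX : b ∈ X := hsa ▸ ha'X
    have e1 : zpowers b = Y := eq_of_le_of_card_ge (zpowers_le.2 hb) (by
      rw [hY, Nat.card_zpowers, PGroupsBasic.orderOf_eq_of_pow_eq_one (hAel.2 b (hYA hb)) hb1])
    exact eq_of_le_of_card_ge (e1 ▸ zpowers_le.2 hbX) (by rw [hX, hY])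
  -- the line centralizing the sigma core
  have hMs0 : Ms ≠ ⊥ := BGSigma.sigmaCore_ne_bot hG hM
  have hAMs : A ≤ normalizer (Ms : Set G) := hAM.trans (le_normalizer_sigmaCore M)
  have hcop : (Nat.card A).Coprime (Nat.card Ms) := by
    rw [hA2]
    refine (Nat.Coprime.pow_left 2 ((Nat.Prime.coprime_iff_not_dvd hp.out).2 fun hd => ht.2.1 ?_))
    exact (BGSigma.hall_sigma hG hM).1.2.1 p hp.out hd
  haveI := hAel.1
  have hAnc := not_isCyclic_of_sq_le hAel hA2.ge
  obtain ⟨X₀, hX₀A, hX₀, hX₀ne⟩ : ∃ X ≤ A, Nat.card X = p ∧ Ms ⊓ centralizer (X : Set G) ≠ ⊥ := by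
    by_contra hcon
    push Not at hcon
    refine hMs0 (le_bot_iff.1 (CoprimeGen.le_of_centralizers hAnc hAMs hcop fun a ha ha1 => ?_))
    have hc : Nat.card (zpowers a) = p := by
      rw [Nat.card_zpowers, PGroupsBasic.orderOf_eq_of_pow_eq_one (hAel.2 a ha) ha1]
    rw [← hC _ (zpowers_le.2 ha) hc a (mem_zpowers a) ha1, hcon _ (zpowers_le.2 ha) hc]
  obtain ⟨hX₀M, hX₀u⟩ := hCX X₀ hX₀A hX₀ hX₀ne
  have hMsX : Ms ≤ centralizer (X₀ : Set G) := by
    refine CoprimeGen.le_of_centralizers hAnc hAMs hcop fun a ha ha1 => ?_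
    have hc : Nat.card (zpowers a) = p := by
      rw [Nat.card_zpowers, PGroupsBasic.orderOf_eq_of_pow_eq_one (hAel.2 a ha) ha1]
    rw [← hC _ (zpowers_le.2 ha) hc a (mem_zpowers a) ha1]
    by_cases hne : Ms ⊓ centralizer ((zpowers a : Subgroup G) : Set G) = ⊥
    · rw [hne]; exact bot_le
    · rw [key X₀ _ hX₀A (zpowers_le.2 ha) hX₀ hc hX₀ne (hCX _ (zpowers_le.2 ha) hc hne).1]
      exact inf_le_right
  have hA₀ : A ⊓ centralizer (Ms : Set G) = X₀ := by
    refine (eq_of_le_of_card_ge (le_inf hX₀A fun x hx => mem_centralizer_iff.2 fun m hm =>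
      (mem_centralizer_iff.1 (hMsX hm) x hx).symm) ?_).symm
    obtain ⟨k, hk, hke⟩ := (Nat.dvd_prime_pow hp.out).1
      (hA2 ▸ card_dvd_of_le (inf_le_left : A ⊓ centralizer (Ms : Set G) ≤ A))
    rw [hke, hX₀]
    by_cases hk2 : k = 2
    · subst hk2
      have : A ⊓ centralizer (Ms : Set G) = A :=
        eq_of_le_of_card_ge inf_le_left (by rw [hke, hA2])
      refine absurd (le_bot_iff.1 (hCMA ▸ le_inf le_rfl ?_)) hMs0
      exact fun m hm => mem_centralizer_iff.2 fun a ha =>
        (mem_centralizer_iff.1 (this.ge ha).2 m hm).symm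
    · calc p ^ k ≤ p ^ 1 := Nat.pow_le_pow_right hp.out.pos (by omega)
        _ = p := pow_one p
  rw [hA₀]
  have hroot : ∀ y ∈ M, IsPGroup p (zpowers y) → y ^ p ∈ X₀ → y ^ p = 1 := by
    intro y hyM hyp hy
    by_contra hne
    obtain ⟨m, hm, hmP⟩ := BGSigma.exists_conj_maxP hPM (zpowers_le.2 hyM) hyp
    have hy' : m * y * m⁻¹ ∈ P := hmP ⟨y, mem_zpowers y, rfl⟩
    have hmX : m * y ^ p * m⁻¹ ∈ X₀ := by
      have hmM : M ≤ normalizer (X₀ : Set G) := by
        intro x hx
        obtain ⟨a, ha, b, hb, rfl⟩ := hE.2.2.2 x hx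
        refine mul_mem ?_ (centralizer_le_normalizer _ (hMsX hb))
        rw [← hA₀]
        refine Subgroup.mem_normalizer_fintype fun t ht' => ⟨(mem_normalizer_iff.1 (hEA ha) t).1 ht'.1, ?_⟩
        exact CoprimeAction.conj_mem (CoprimeTools.le_normalizer_centralizer_of_le
          (le_normalizer_sigmaCore M) (hE.1 ha)) ht'.2
      exact (mem_normalizer_iff.1 (hmM hm) _).1 hy
    rw [← conj_pow] at hmX
    have hne' : (m * y * m⁻¹) ^ p ≠ 1 := by
      rw [conj_pow]; simpa using hne
    refine no_root hG S (hS S) (hAP.trans hPS) hAel hA2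
      (fun B hB hAB => BGSigma.maximal_of_rank_two hG hM ht.2.1 hAM hAel hA2 hB hAB)
      (hPS hy') (hX₀A hmX) fun h => hSM (h.trans ?_)
    rw [← hC X₀ hX₀A hX₀ _ hmX hne']
    exact hX₀M
  refine ⟨hX₀, ?_, hroot, fun X hXE hX hne => ?_⟩
  · refine le_antisymm (le_of_qgroups fun q hq => ?_) (sup_le ?_ ?_)
    · haveI := Fact.mk hq
      haveI := BGFittingUnique.fittingOf_isNilpotent M
      obtain ⟨Q⟩ : Nonempty (Sylow q ↥(Cfsg.fittingOf M)) := inferInstance
      set Q' := (Q : Subgroup ↥(Cfsg.fittingOf M)).map (Cfsg.fittingOf M).subtype with hQ'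
      refine ⟨Q', map_subtype_le _, ?_, CoprimeAction.card_map_sylow Q⟩
      have hQM : Q' ≤ M := (map_subtype_le _).trans (BGFittingUnique.fittingOf_le M)
      haveI := Sylow.characteristic_of_normal Q inferInstance
      have hMQ : M ≤ normalizer (Q' : Set G) :=
        (le_normalizer.trans (BGFittingUnique.normalizer_le_fittingOf M)).trans
          (ComponentsCores.normalizer_le_normalizer_map_subtype _ _)
      have hQp : IsPGroup q Q' := Q.isPGroup'.map _
      by_cases hσ : q ∈ Cfsg.sigma M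
      · refine le_sup_of_le_left (le_sigmaCore hG hM hQM fun r hr hd => ?_)
        rw [(Nat.prime_dvd_prime_iff_eq hr hq).1 (hr.dvd_of_dvd_pow
          (hd.trans (dvd_of_eq (IsPGroup.iff_card.1 hQp).choose_spec)))]
        exact hσ
      by_cases hQ0 : Q' = ⊥
      · rw [hQ0]; exact bot_le
      have hqM : q ∣ Nat.card M := (dvd_card_of_ne_bot hQp hQ0).trans (card_dvd_of_le hQM)
      by_cases hqp : q = p
      · rw [hqp] at hQp hσ
        refine le_sup_of_le_right ?_
        have hQP : Q' ≤ P := by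
          obtain ⟨m, hm, hmQ⟩ := BGSigma.exists_conj_maxP hPM hQM hQp
          rwa [CoprimeSZ.conj_smul_eq_self (hMQ hm)] at hmQ
        have hQC : ∀ y ∈ Q', y ∈ centralizer (Ms : Set G) := by
          intro y hy
          rw [mem_centralizer_iff]
          intro m hm
          refine (BGFittingUnique.commute_of_normalize (hQM.trans (le_normalizer_sigmaCore M))
            ((map_subtype_le _).trans hMQ) ?_ hy hm).eq.symm
          refine HallCore.disjoint_of_coprime_card ?_
          obtain ⟨n, hn⟩ := IsPGroup.iff_card.1 hQp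
          rw [hn]
          refine Nat.Coprime.pow_left n ((Nat.Prime.coprime_iff_not_dvd hp.out).2 fun hd => hσ ?_)
          exact (BGSigma.hall_sigma hG hM).1.2.1 p hp.out hd
        intro y hy
        obtain ⟨k, hk⟩ := IsPGroup.iff_orderOf.1 hQp ⟨y, hy⟩
        rw [Subgroup.orderOf_mk] at hk
        have hyk : y ^ (p ^ k) = 1 := hk ▸ pow_orderOf_eq_one y
        clear hk
        induction k generalizing y with
        | zero => rw [pow_zero, pow_one] at hyk; exact hyk ▸ one_mem _
        | succ k ih =>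
          have hp' := @ih (y ^ p) (pow_mem hy p) (by rw [← pow_mul, ← pow_succ']; exact hyk)
          have h1 := hroot y (hQM hy) (hQp.to_le (zpowers_le.2 hy)) hp'
          rw [← hA₀]
          exact ⟨hord y (hQP hy) h1, hQC y hy⟩
      · exfalso
        by_cases hr1 : Cfsg.PRankLE q 1 M
        · haveI := isCyclic_of_pRankLE_one hG hr1 hQp hQM
          obtain ⟨x, hxQ, hxo⟩ := PGroupsBasic.exists_orderOf_eq_of_ne_bot hQp hQ0
          have hXc : Nat.card (zpowers x) = q := by rw [Nat.card_zpowers, hxo]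
          have hMX : M ≤ normalizer ((zpowers x : Subgroup G) : Set G) := fun m hm => by
            refine CoprimeAction.mem_normalizer_of_conj_smul_eq ?_
            refine PGroupsCyclic.eq_of_card_eq_of_isCyclic (A := Q') inferInstance ?_
              (zpowers_le.2 hxQ) (CoprimeSZ.card_conj_smul m _)
            rw [← CoprimeSZ.conj_smul_eq_self (hMQ hm)]
            exact pointwise_smul_le_pointwise_smul_iff.2 (zpowers_le.2 hxQ)
          have hx0 : zpowers x ≠ ⊥ := fun h => by
            rw [h, card_bot] at hXc; exact hq.one_lt.ne hXc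
          exact ((BGSigma.order_p_normalizer_le hG hM hσ hXc
            (normalizer_le_of_coatom hG hM hx0 (zpowers_le.2 (hQM hxQ)) hMX).le).1.2) hr1
        · have : q ∈ Cfsg.tau2 M := mem_tau2 hG hM hσ hr1
          rw [tau2_eq_singleton hG hM hE ht hS, Set.mem_singleton_iff] at this
          exact hqp this
    · haveI : Group.IsNilpotent ↥Ms := hnil
      haveI : (Ms.subgroupOf M).Normal :=
        normal_subgroupOf_of_le_normalizer (le_normalizer_sigmaCore M)
      haveI : Group.IsNilpotent ↥(Ms.subgroupOf M) :=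
        Group.nilpotent_of_mulEquiv (subgroupOfEquivOfLe (H := Ms) (K := M) (map_subtype_le _)).symm
      have hMsM : Ms ≤ M := map_subtype_le _
      rw [← map_subgroupOf_eq_of_le hMsM]
      exact map_mono HallSolvable.le_fitting
    · have hX₀le : X₀ ≤ M := hX₀A.trans hAM
      haveI : (X₀.subgroupOf M).Normal := by
        refine normal_subgroupOf_of_le_normalizer fun x hx => ?_
        obtain ⟨a, ha, b, hb, rfl⟩ := hE.2.2.2 x hx
        refine mul_mem ?_ (centralizer_le_normalizer _ (hMsX hb))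
        rw [← hA₀]
        refine Subgroup.mem_normalizer_fintype fun t ht' => ⟨(mem_normalizer_iff.1 (hEA ha) t).1 ht'.1, ?_⟩
        exact CoprimeAction.conj_mem (CoprimeTools.le_normalizer_centralizer_of_le
          (le_normalizer_sigmaCore M) (hE.1 ha)) ht'.2
      haveI : Group.IsNilpotent ↥(X₀.subgroupOf M) :=
        ((IsPGroup.of_card (n := 1) (by rw [hX₀, pow_one]) : IsPGroup p X₀).comap_of_injective
          M.subtype M.subtype_injective).isNilpotent
      rw [← map_subgroupOf_eq_of_le hX₀le]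
      exact map_mono HallSolvable.le_fitting
  · have hXA := hall X hXE hX
    refine ⟨by_contra fun h => hne ?_, fun h => hne ?_⟩
    · exact key X₀ X hX₀A hXA hX₀ hX hX₀ne (hCX X hXA hX h).1
    · exact key X₀ X hX₀A hXA hX₀ hX hX₀ne h

end Cfsg.Agent.BGTau62
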