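import Mathlib
import Cfsg.Agent.Lib.CoprimeSZ

/-!
Gaschütz's complement theorem for an abelian normal subgroup.
-/

namespace Cfsg.Agent.CoprimeGaschutz

open scoped Pointwise
open Cfsg.Agent.CoprimeSZ

variable {G : Type*} [Group G] [Finite G] {K U : Subgroup G} [K.Normal]

/-- Existence. -/
theorem exists_complement [IsMulCommutative K] (hKU : K ≤ U)
    (hcop : (Nat.card K).Coprime U.index) (A : Subgroup G) (hAU : A ≤ U) (hAK : A ⊓ K = ⊥)
    (hKA : K ⊔ A = U) : ∃ H : Subgroup G, Subgroup.IsComplement' K H := by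
  classical
  letI : CommGroup K := { (inferInstance : Group K) with mul_comm := fun x y => mul_comm' x y }
  have hn : ∀ (g : G) (k : K), g * k * g⁻¹ ∈ K := fun g k =>
    (inferInstance : K.Normal).conj_mem _ k.2 g
  let c : G → K →* K := fun g =>
    { toFun := fun k => ⟨g * k * g⁻¹, hn g k⟩
      map_one' := by ext; simp
      map_mul' := fun x y => by ext; simp [mul_assoc] }
  have hcmul : ∀ g h k, c (g * h) k = c g (c h k) := fun g h k => by
    ext; simp [c, mul_assoc]
  have hcK : ∀ (k : K) x, c (k : G) x = x := fun k x => by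
    ext
    have := congrArg Subtype.val (mul_comm k x)
    simp only [Subgroup.coe_mul] at this
    simp [c, this]
  have hdec : ∀ u : U, ∃ k : K, (k : G)⁻¹ * u ∈ A := by
    rintro ⟨u, hu⟩
    have h1 : u ∈ ((K ⊔ A : Subgroup G) : Set G) := by rw [hKA]; exact hu
    rw [Subgroup.normal_mul] at h1
    obtain ⟨k, hk, a, ha, rfl⟩ := h1
    exact ⟨⟨k, hk⟩, by simpa using ha⟩
  choose ψ hψ using hdec
  have huniq : ∀ (u : U) (k : K), (k : G)⁻¹ * u ∈ A → k = ψ u := by
    intro u k hk
    have h1 : (k : G)⁻¹ * ψ u ∈ A ⊓ K := by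
      refine ⟨?_, K.mul_mem (K.inv_mem k.2) (ψ u).2⟩
      have := A.mul_mem hk (A.inv_mem (hψ u))
      simpa [mul_assoc] using this
    rw [hAK, Subgroup.mem_bot, inv_mul_eq_one] at h1
    exact Subtype.ext h1
  have hψmul : ∀ u v : U, ψ (u * v) = ψ u * c u (ψ v) := by
    intro u v
    symm
    apply huniq
    obtain ⟨a, ha, hu⟩ : ∃ a ∈ A, (u : G) = ψ u * a := ⟨_, hψ u, by simp⟩
    obtain ⟨b, hb, hv⟩ : ∃ b ∈ A, (v : G) = ψ v * b := ⟨_, hψ v, by simp⟩
    have e : c u (ψ v) = c a (ψ v) := by rw [hu, hcmul, hcK]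
    rw [e]
    have : ((ψ u * c a (ψ v) : K) : G)⁻¹ * (u * v : U) = a * b := by
      simp only [Subgroup.coe_mul, c, MonoidHom.coe_mk, OneHom.coe_mk]
      rw [hu, hv]
      simp [mul_assoc]
    rw [this]
    exact A.mul_mem ha hb
  have hψK : ∀ k : K, ψ ⟨k, hKU k.2⟩ = k := fun k => (huniq _ k (by simp)).symm
  let t : G ⧸ U → G := Quotient.out
  have ht : ∀ q, QuotientGroup.mk (t q) = q := fun q => Quotient.out_eq _
  have := Fintype.ofFinite (G ⧸ U)
  have hu : ∀ (g : G) q, (t (g • q))⁻¹ * g * t q ∈ U := fun g q => by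
    rw [mul_assoc, ← QuotientGroup.eq, ht, ← smul_eq_mul, MulAction.Quotient.coe_smul_out]
  let u : G → G ⧸ U → U := fun g q => ⟨_, hu g q⟩
  let φ : G → K := fun g => ∏ q, c (t (g • q)) (ψ (u g q))
  have hφ : ∀ g h, φ (g * h) = φ g * c g (φ h) := by
    intro g h
    simp only [φ, map_prod]
    rw [← Equiv.prod_comp (MulAction.toPerm h) (fun q => c (t (g • q)) (ψ (u g q))),
      ← Finset.prod_mul_distrib]
    refine Finset.prod_congr rfl fun q _ => ?_
    have e : u (g * h) q = u g (h • q) * u h q := by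
      apply Subtype.ext
      simp [u, mul_smul, mul_assoc]
    rw [e, hψmul, map_mul, MulAction.toPerm_apply, ← hcmul, ← hcmul, mul_smul]
    congr 1
    apply congrArg (fun x => c x (ψ (u h q)))
    simp [u, mul_assoc]
  have hφK : ∀ k : K, φ k = k ^ U.index := by
    intro k
    have h1 : ∀ q : G ⧸ U, (k : G) • q = q := by
      intro q
      induction q using QuotientGroup.induction_on with
      | H g =>
        rw [MulAction.Quotient.smul_coe, QuotientGroup.eq]
        have := hKU ((inferInstance : K.Normal).conj_mem _ (K.inv_mem k.2) g⁻¹)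
        simpa [mul_assoc] using this
    have h2 : ∀ q, c (t ((k : G) • q)) (ψ (u k q)) = k := by
      intro q
      have h3 : (t q)⁻¹ * k * t q ∈ K := by simpa using hn (t q)⁻¹ k
      have h4 : u k q = ⟨((⟨_, h3⟩ : K) : G), hKU h3⟩ := by
        apply Subtype.ext
        simp [u, h1]
      rw [h4, hψK, h1]
      ext
      simp [c, mul_assoc]
    simp [φ, h2, Subgroup.index_eq_card, Nat.card_eq_fintype_card]
  have hone : φ 1 = 1 := by simpa using hφK 1
  let H : Subgroup G :=
    { carrier := {g | φ g = 1}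
      one_mem' := hone
      mul_mem' := fun {a b} ha hb => by
        change φ (a * b) = 1
        rw [hφ, show φ a = 1 from ha, show φ b = 1 from hb, map_one, one_mul]
      inv_mem' := fun {a} ha => by
        change φ a⁻¹ = 1
        have h := hφ a⁻¹ a
        rw [inv_mul_cancel, hone, show φ a = 1 from ha, map_one, mul_one] at h
        exact h.symm }
  refine ⟨H, Subgroup.isComplement'_of_disjoint_and_mul_eq_univ ?_ ?_⟩
  · rw [disjoint_iff, eq_bot_iff]
    rintro x ⟨hxK, hxH⟩
    have h1 : φ x = 1 := hxH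
    rw [show x = ((⟨x, hxK⟩ : K) : G) from rfl, hφK] at h1
    have h2 : (powCoprime hcop) ⟨x, hxK⟩ = (powCoprime hcop) 1 := by
      rw [powCoprime_apply, powCoprime_apply, h1, one_pow]
    exact Subgroup.mem_bot.2 (congrArg Subtype.val ((powCoprime hcop).injective h2))
  · refine Set.eq_univ_of_forall fun g => ?_
    obtain ⟨k, hk⟩ : ∃ k : K, k ^ U.index = φ g := ⟨_, (powCoprime hcop).apply_symm_apply _⟩
    refine ⟨k, k.2, (k : G)⁻¹ * g, ?_, by simp⟩
    change φ ((k : G)⁻¹ * g) = 1
    rw [hφ, show ((k : G))⁻¹ = ((k⁻¹ : K) : G) from rfl, hφK, hcK, inv_pow, hk, inv_mul_cancel]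

/-- Conjugacy. -/
theorem exists_conj [IsMulCommutative K] (hKU : K ≤ U) (hcop : (Nat.card K).Coprime U.index)
    {H₀ H₁ : Subgroup G} (h₀ : Subgroup.IsComplement' K H₀) (h₁ : Subgroup.IsComplement' K H₁)
    (hU : H₀ ⊓ U = H₁ ⊓ U) : ∃ g ∈ K, MulAut.conj g • H₀ = H₁ := by
  classical
  letI : CommGroup K := { (inferInstance : Group K) with mul_comm := fun x y => mul_comm' x y }
  have hn : ∀ (g : G) (k : K), g * k * g⁻¹ ∈ K := fun g k =>
    (inferInstance : K.Normal).conj_mem _ k.2 g
  let c : G → K →* K := fun g =>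
    { toFun := fun k => ⟨g * k * g⁻¹, hn g k⟩
      map_one' := by ext; simp
      map_mul' := fun x y => by ext; simp [mul_assoc] }
  have hdec : ∀ h : H₀, ∃ k : K, (k : G) * h ∈ H₁ := by
    intro h
    obtain ⟨⟨⟨a, ha⟩, ⟨b, hb⟩⟩, hab⟩ := h₁.2 (h : G)
    change a * b = (h : G) at hab
    refine ⟨⟨a⁻¹, K.inv_mem ha⟩, ?_⟩
    rw [← hab, inv_mul_cancel_left]
    exact hb
  choose d hd using hdec
  have huniq : ∀ (h : H₀) (k : K), (k : G) * h ∈ H₁ → k = d h := by
    intro h k hk
    have h2 : (k : G) * (d h : G)⁻¹ ∈ K ⊓ H₁ := by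
      refine ⟨K.mul_mem k.2 (K.inv_mem (d h).2), ?_⟩
      have := H₁.mul_mem hk (H₁.inv_mem (hd h))
      simpa [mul_assoc] using this
    rw [h₁.disjoint.eq_bot, Subgroup.mem_bot, mul_inv_eq_one] at h2
    exact Subtype.ext h2
  have hdmul : ∀ h g : H₀, d (h * g) = d h * c h (d g) := by
    intro h g
    symm
    apply huniq
    have := H₁.mul_mem (hd h) (hd g)
    simpa [c, mul_assoc] using this
  let L := U.subgroupOf H₀
  have hdL : ∀ l : H₀, l ∈ L → d l = 1 := by
    intro l hl
    symm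
    apply huniq
    have : (l : G) ∈ H₁ ⊓ U := hU ▸ ⟨l.2, hl⟩
    simpa using this.1
  have hidx : L.index = U.index := by
    change U.relIndex H₀ = _
    rw [← Subgroup.inf_relIndex_right]
    have hmul : ((U ⊔ H₀ : Subgroup G)) = ⊤ :=
      top_unique (by rw [← h₀.sup_eq_top]; exact sup_le_sup_right hKU H₀)
    rw [Subgroup.inf_relIndex_right]
    have := Fintype.ofFinite (G ⧸ U)
    have hsurj : Function.Surjective
        (fun q : H₀ ⧸ U.subgroupOf H₀ => Quotient.map' (fun x : H₀ => (x : G)) (fun a b hab => by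
          rw [QuotientGroup.leftRel_apply] at hab ⊢
          exact hab) q : H₀ ⧸ U.subgroupOf H₀ → G ⧸ U) := by
      intro q
      induction q using QuotientGroup.induction_on with
      | H g =>
        obtain ⟨⟨⟨a, ha⟩, ⟨b, hb⟩⟩, rfl⟩ := h₀.2 g
        refine ⟨QuotientGroup.mk (⟨b, hb⟩ : H₀), ?_⟩
        change (QuotientGroup.mk b : G ⧸ U) = QuotientGroup.mk (a * b)
        rw [QuotientGroup.eq]
        exact hKU (by simpa [mul_assoc] using (inferInstance : K.Normal).conj_mem a ha b⁻¹)
    refine (Nat.card_eq_of_bijective _ ⟨?_, hsurj⟩).trans (Subgroup.index_eq_card U).symm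
    intro q q'
    induction q using QuotientGroup.induction_on with
    | H x =>
      induction q' using QuotientGroup.induction_on with
      | H y =>
        intro h
        exact QuotientGroup.eq.2 ((QuotientGroup.eq (s := U)).1 h)
  have := Fintype.ofFinite (H₀ ⧸ L)
  let e : K := ∏ q : H₀ ⧸ L, d q.out
  have hkey : ∀ h : H₀, e = d h ^ U.index * c h e := by
    intro h
    have h1 : e = ∏ q : H₀ ⧸ L, d (h * q.out) := by
      simp only [e]
      rw [← Equiv.prod_comp (MulAction.toPerm h) (fun q : H₀ ⧸ L => d q.out)]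
      refine Finset.prod_congr rfl fun q _ => ?_
      have hq : (h • q).out⁻¹ * (h * q.out) ∈ L := by
        rw [← QuotientGroup.eq, QuotientGroup.out_eq', ← smul_eq_mul,
          MulAction.Quotient.coe_smul_out]
      rw [MulAction.toPerm_apply]
      conv_rhs => rw [← mul_inv_cancel_left (h • q).out (h * q.out), hdmul, hdL _ hq, map_one,
        mul_one]
    refine h1.trans ?_
    rw [map_prod]
    simp only [hdmul, Finset.prod_mul_distrib, Finset.prod_const, Finset.card_univ]
    rw [← Nat.card_eq_fintype_card, ← Subgroup.index_eq_card, hidx]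
  obtain ⟨k, hk⟩ : ∃ k : K, k ^ U.index = e := ⟨_, (powCoprime hcop).apply_symm_apply _⟩
  refine ⟨k, k.2, ?_⟩
  have hd' : ∀ h : H₀, d h = k * (c h k)⁻¹ := by
    intro h
    apply (powCoprime hcop).injective
    rw [powCoprime_apply, powCoprime_apply, mul_pow, inv_pow, ← map_pow, hk,
      eq_mul_inv_iff_mul_eq]
    exact (hkey h).symm
  refine Subgroup.eq_of_le_of_card_ge ?_ ?_
  · intro x hx
    rw [mem_conj_smul] at hx
    have := hd ⟨_, hx⟩
    rw [hd'] at this
    simpa [c, mul_assoc] using this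
  · rw [card_conj_smul, ← h₁.symm.index_eq_card, ← h₀.symm.index_eq_card]

end Cfsg.Agent.CoprimeGaschutz
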