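import Cfsg.Agent.Lib.BGTauAbelian62
import Cfsg.Agent.Lib.BGTauNonabelian62
import Cfsg.Agent.Lib.CoprimeGaschutz
import Cfsg.Agent.Lib.PGroupsBasic

/-!
Complements with regularly acting subgroups of the same exponent (Bender-Glauberman 12.12).
-/

set_option autoImplicit false
set_option linter.style.haveILetI false

namespace Cfsg.Agent.BGTau62

open Subgroup
open Cfsg.Agent.BGUnique
open scoped commutatorElement Pointwise

universe u

variable {G : Type u} [Group G]

/-- The `m`-th powers of an abelian subgroup. -/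
def powSub (S : Subgroup G) (hS : IsMulCommutative S) (m : ℕ) : Subgroup G where
  carrier := {g | ∃ s ∈ S, s ^ m = g}
  one_mem' := ⟨1, S.one_mem, one_pow m⟩
  mul_mem' := by
    rintro _ _ ⟨a, ha, rfl⟩ ⟨b, hb, rfl⟩
    exact ⟨a * b, S.mul_mem ha hb, (show Commute a b from
      PGroupsBasic.comm_of_isMulCommutative hS ha hb).mul_pow m⟩
  inv_mem' := by
    rintro _ ⟨a, ha, rfl⟩
    exact ⟨a⁻¹, S.inv_mem ha, inv_pow a m⟩

theorem powSub_le (S : Subgroup G) (hS : IsMulCommutative S) (m : ℕ) : powSub S hS m ≤ S := by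
  rintro _ ⟨s, hs, rfl⟩
  exact pow_mem hs m

theorem normalizer_le_powSub [Finite G] (S : Subgroup G) (hS : IsMulCommutative S) (m : ℕ) :
    normalizer (S : Set G) ≤ normalizer (powSub S hS m : Set G) := fun g hg =>
  Subgroup.mem_normalizer_fintype fun x hx => by
    obtain ⟨s, hs, rfl⟩ := hx
    exact ⟨g * s * g⁻¹, (mem_normalizer_iff.1 hg s).1 hs, conj_pow⟩

variable [Finite G] {p : ℕ} [hp : Fact p.Prime]
variable (hG : Cfsg.IsMinSimpleOddOrder G)
include hG
variable {M E : Subgroup G} (hM : IsCoatom M)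
include hM

/-- An abelian Sylow subgroup for tau two has an invariant cyclic subgroup of maximal order acting
regularly on the sigma core. -/
theorem exists_regular_cyclic (hE : Cfsg.IsComplIn E (Cfsg.sigmaCore M) M) (ht : p ∈ Cfsg.tau2 M)
    (h : ∀ e ∈ E, e ≠ 1 → (∀ q : ℕ, q.Prime → q ∣ orderOf e → q ∈ Cfsg.tau1 M ∪ Cfsg.tau3 M) →
      Cfsg.sigmaCore M ⊓ centralizer ({e} : Set G) = ⊥)
    (S : Sylow p G) (hS : IsMulCommutative (S : Subgroup G)) {A : Subgroup G}
    (hA : A ≤ E ∧ Cfsg.IsElementaryAbelian p A ∧ Nat.card A = p ^ 2)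
    (hAS : A ≤ (S : Subgroup G)) :
    ∃ Y : Subgroup G, Y ≤ (S : Subgroup G) ∧ IsCyclic Y ∧ E ≤ normalizer (Y : Set G) ∧
      (∀ s ∈ (S : Subgroup G), orderOf s ∣ Nat.card Y) ∧
      ∀ z ∈ Y, orderOf z = p → Cfsg.sigmaCore M ⊓ centralizer ({z} : Set G) = ⊥ := by
  have hA' := hA
  obtain ⟨hAE, hAel, hA2⟩ := hA
  obtain ⟨⟨hEA, hall⟩, -, hCX⟩ := S1418.result hG M hM E hE p ht A ⟨hAE, hAel, hA2⟩
  obtain ⟨-, -, -, -, -, A₁, hA₁A, hA₁, hA₁reg⟩ :=
    S1417.result hG M hM p ht A ⟨hAE.trans hE.1, hAel, hA2⟩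
  obtain ⟨hSE, hES, hNS⟩ := abelian_normal hG hM hE ht S hS hA' hAS
  have hord : ∀ x ∈ (S : Subgroup G), x ^ p = 1 → x ∈ A := by
    intro x hx hxp
    by_cases hx1 : x = 1
    · exact hx1 ▸ one_mem A
    exact hall _ (zpowers_le.2 (hSE hx))
      (by rw [Nat.card_zpowers, PGroupsBasic.orderOf_eq_of_pow_eq_one hxp hx1]) (mem_zpowers x)
  -- lines invariant under `N(S)` are regular
  have hreg : ∀ X : Subgroup G, X ≤ A → Nat.card X = p →
      normalizer ((S : Subgroup G) : Set G) ≤ normalizer (X : Set G) →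
      Cfsg.sigmaCore M ⊓ centralizer (X : Set G) = ⊥ := by
    intro X hXA hX hinv
    by_contra hne
    obtain ⟨hXM, hXu⟩ := hCX X hXA hX hne
    have hX0 : X ≠ ⊥ := fun h' => by rw [h', card_bot] at hX; exact hp.out.one_lt.ne hX
    obtain ⟨L, hL, hNL⟩ := exists_coatom_ge (BGSigma.normalizer_ne_top' hG hX0
      fun h' => hM.1 (top_le_iff.1 (h' ▸ hXA.trans (hAE.trans hE.1))))
    rw [hXu L hL ((centralizer_le_normalizer _).trans hNL)] at hNL
    have hmax : IsMaxP p (S : Subgroup G) M :=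
      ⟨hSE.trans hE.1, S.isPGroup', fun Q hQ _ hQp => S.is_maximal' hQp hQ⟩
    obtain ⟨T, hT⟩ := hmax.exists_sylow
    refine ht.2.1 ⟨hp.out, (hA2 ▸ dvd_pow_self p two_ne_zero : p ∣ Nat.card A).trans
      (card_dvd_of_le (hAE.trans hE.1)), T, ?_⟩
    rw [hT]
    exact hinv.trans hNL
  -- the exponent
  haveI := hS
  letI : CommGroup ↥(S : Subgroup G) :=
    { (inferInstance : Group ↥(S : Subgroup G)) with mul_comm := fun x y => mul_comm' x y }
  obtain ⟨⟨g₀, hg₀⟩, hg₀o⟩ :=
    Monoid.exists_orderOf_eq_exponent (G := ↥(S : Subgroup G)) Monoid.ExponentExists.of_finite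
  obtain ⟨n, hn⟩ := IsPGroup.iff_orderOf.1 S.isPGroup' ⟨g₀, hg₀⟩
  have hexp : ∀ s ∈ (S : Subgroup G), orderOf s ∣ p ^ n := by
    intro s hs
    rw [← hn, hg₀o, ← Subgroup.orderOf_mk s hs]
    exact Monoid.order_dvd_exponent _
  rw [Subgroup.orderOf_mk] at hn
  obtain ⟨m, rfl⟩ : ∃ m, n = m + 1 := by
    refine Nat.exists_eq_succ_of_ne_zero fun h0 => ?_
    obtain ⟨a, ha, ha1⟩ := A.bot_or_exists_ne_one.resolve_left fun h' => by
      rw [h', card_bot] at hA2
      exact (Nat.one_lt_pow two_ne_zero hp.out.one_lt).ne hA2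
    have := hexp a (hAS ha)
    rw [h0, pow_zero, Nat.dvd_one, orderOf_eq_one_iff] at this
    exact ha1 this
  set R := powSub (S : Subgroup G) hS (p ^ m) with hR
  have hRA : R ≤ A := by
    rintro _ ⟨s, hs, rfl⟩
    refine hord _ (pow_mem hs _) ?_
    rw [← pow_mul, ← pow_succ]
    exact orderOf_dvd_iff_pow_eq_one.1 (hexp s hs)
  -- a regular invariant line
  obtain ⟨X, hXR, hX, hXE, hXreg⟩ : ∃ X ≤ R, Nat.card X = p ∧ E ≤ normalizer (X : Set G) ∧
      Cfsg.sigmaCore M ⊓ centralizer (X : Set G) = ⊥ := by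
    obtain ⟨k, hk, hkR⟩ := (Nat.dvd_prime_pow hp.out).1 (hA2 ▸ card_dvd_of_le hRA)
    rcases (show k = 0 ∨ k = 1 ∨ k = 2 by omega) with rfl | rfl | rfl
    · have h1 : g₀ ^ p ^ m ∈ R := ⟨g₀, hg₀, rfl⟩
      rw [eq_bot_of_card_eq R (by rw [hkR, pow_zero]), mem_bot,
        ← orderOf_dvd_iff_pow_eq_one, hn, Nat.pow_dvd_pow_iff_le_right hp.out.one_lt] at h1
      omega
    · have hinv := normalizer_le_powSub (S : Subgroup G) hS (p ^ m)
      exact ⟨R, le_rfl, hkR.trans (pow_one p), hES.trans hinv,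
        hreg R hRA (hkR.trans (pow_one p)) hinv⟩
    · have hReq : R = A := eq_of_le_of_card_ge hRA (by rw [hkR, hA2])
      by_cases hEC : E ≤ centralizer (A : Set G)
      · exact ⟨A₁, hReq ▸ hA₁A, hA₁,
          hEC.trans ((centralizer_le hA₁A).trans (centralizer_le_normalizer _)), hA₁reg⟩
      · obtain ⟨L, hLA, hL, hNL⟩ := exists_fixed_line hG hM hE ht h S hS hA' hAS hEC
        exact ⟨L, hReq ▸ hLA, hL, hEA.trans hNL, hreg L hLA hL (hNS.trans hNL)⟩
  have hXA : X ≤ A := hXR.trans hRA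
  -- a `p'`-complement
  haveI : Group.IsSolvable E := isSolvable_of_ne_top hG fun h' => hM.1 (top_le_iff.1 (h' ▸ hE.1))
  obtain ⟨D₀, hD₀⟩ := HallTheorem.exists_isPiHall_of_solvable (G := E) {p}ᶜ
  set D := D₀.map E.subtype with hDdef
  have hDE : D ≤ E := map_subtype_le D₀
  have hpD : ¬ p ∣ Nat.card D := fun hd => by
    rw [card_map_of_injective E.subtype_injective] at hd
    exact hD₀.1 p hp.out hd rfl
  have hEinv : ∀ Y : Subgroup G, Y ≤ (S : Subgroup G) → D ≤ normalizer (Y : Set G) →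
      E ≤ normalizer (Y : Set G) := by
    intro Y hY hDY
    have hsup : (S : Subgroup G) ⊔ D = E := by
      refine eq_of_le_of_card_ge (sup_le hSE hDE) (Nat.le_of_dvd Nat.card_pos ?_)
      have hmulE := D₀.card_mul_index
      rw [← card_map_of_injective E.subtype_injective (K := D₀)] at hmulE
      rw [← hmulE]
      obtain ⟨i, hi⟩ : ∃ i, D₀.index = p ^ i :=
        ⟨_, Nat.eq_prime_pow_of_unique_prime_dvd index_ne_zero_of_finite fun {q} hq hd => by
          by_contra hne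
          exact hD₀.2 q hq hne hd⟩
      refine Nat.Coprime.mul_dvd_of_dvd_of_dvd ?_ (card_dvd_of_le le_sup_right) ?_
      · rw [hi]
        exact ((Nat.Prime.coprime_iff_not_dvd hp.out).2 hpD).symm.pow_right i
      · refine dvd_trans ?_ (card_dvd_of_le le_sup_left)
        rw [hi, S.card_eq_multiplicity]
        refine pow_dvd_pow p ?_
        have : p ^ i ∣ Nat.card G :=
          (Dvd.intro_left _ (hi ▸ hmulE : _ * p ^ i = Nat.card E)).trans (card_subgroup_dvd_card E)
        exact (Nat.Prime.pow_dvd_iff_le_factorization hp.out Nat.card_pos.ne').1 this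
    rw [← hsup]
    refine sup_le (fun s hs => centralizer_le_normalizer _ (mem_centralizer_iff.2 fun y hy => ?_)) hDY
    exact PGroupsBasic.comm_of_isMulCommutative hS (hY hy) hs
  -- an invariant complement of the line
  obtain ⟨a, haA, haX⟩ := SetLike.not_le_iff_exists.1 fun hle : A ≤ X => by
    have := card_le_of_le hle
    rw [hA2, hX] at this
    exact absurd this (not_le.2 (by
      calc p = p ^ 1 := (pow_one p).symm
        _ < p ^ 2 := Nat.pow_lt_pow_right hp.out.one_lt (by norm_num)))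
  haveI := hAel.1
  have ha1 : a ≠ 1 := fun h' => haX (h' ▸ one_mem X)
  have hao := PGroupsBasic.orderOf_eq_of_pow_eq_one (hAel.2 a haA) ha1
  have hXa : X ⊓ zpowers a = ⊥ := PGroupsBasic.inf_zpowers_eq_bot hao haX
  have hXaA : X ⊔ zpowers a = A := by
    refine eq_of_le_of_card_ge (sup_le hXA (zpowers_le.2 haA)) ?_
    have hlt : Nat.card X < Nat.card ↥(X ⊔ zpowers a) :=
      lt_of_le_of_ne (card_le_of_le le_sup_left) fun h' => haX
        (eq_of_le_of_card_ge (le_sup_left : X ≤ X ⊔ zpowers a) h'.ge ▸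
          mem_sup_right (mem_zpowers a))
    obtain ⟨k, hk, hke⟩ := (Nat.dvd_prime_pow hp.out).1
      (hA2 ▸ card_dvd_of_le (sup_le hXA (zpowers_le.2 haA) : X ⊔ zpowers a ≤ A))
    rw [hke, hX] at hlt
    rw [hke, hA2]
    refine Nat.pow_le_pow_right hp.out.pos ?_
    by_contra hk'
    have := Nat.pow_le_pow_right hp.out.pos (show k ≤ 1 by omega)
    rw [pow_one] at this
    omega
  have hcopD : ∀ U : Subgroup G, U ≤ (S : Subgroup G) → (Nat.card D).Coprime (Nat.card U) := by
    intro U hU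
    obtain ⟨i, hi⟩ := IsPGroup.iff_card.1 (S.isPGroup'.to_le hU)
    rw [hi]
    exact ((Nat.Prime.coprime_iff_not_dvd hp.out).2 hpD).symm.pow_right i
  obtain ⟨X', hX'A, hDX', hXX', hXX'A⟩ := CoprimeAction.exists_invariant_complement (A := D)
    (hDE.trans hEA) (hcopD X (hXA.trans hAS)) hXA (hDE.trans hXE)
    (zpowers_le.2 haA) hXa hXaA
  -- lifting
  have main : ∀ k, k ≤ m → ∃ Y : Subgroup G, Y ≤ powSub (S : Subgroup G) hS (p ^ (m - k)) ∧
      IsCyclic Y ∧ X ≤ Y ∧ D ≤ normalizer (Y : Set G) ∧ p ^ (k + 1) ∣ Nat.card Y := by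
    intro k
    induction k with
    | zero =>
      intro _
      exact ⟨X, by rw [Nat.sub_zero]; exact hXR, isCyclic_of_prime_card hX, le_rfl, hDE.trans hXE,
        by rw [zero_add, pow_one, hX]⟩
    | succ k ih =>
      intro hk
      obtain ⟨Y, hY, hYc, hXY, hDY, hYcard⟩ := ih (by omega)
      obtain ⟨⟨y, hy⟩, hygen⟩ := hYc.exists_generator
      have hYy : Y = zpowers y := by
        refine le_antisymm (fun x hx => ?_) (zpowers_le.2 hy)
        obtain ⟨i, hi⟩ := mem_zpowers_iff.1 (hygen ⟨x, hx⟩)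
        exact mem_zpowers_iff.2 ⟨i, congrArg Subtype.val hi⟩
      obtain ⟨u, hu, huy⟩ := hY hy
      set j := m - (k + 1) with hj
      have hmk : m - k = j + 1 := by omega
      set P := powSub (S : Subgroup G) hS (p ^ j) with hP
      have hPS : P ≤ (S : Subgroup G) := powSub_le _ hS _
      set s₀ := u ^ p ^ j with hs₀
      have hs₀P : s₀ ∈ P := ⟨u, hu, rfl⟩
      have hs₀p : s₀ ^ p = y := by rw [← huy, hs₀, ← pow_mul, hmk, pow_succ]
      have hcomm : ∀ a ∈ P, ∀ b ∈ P, Commute a b := fun a ha b hb =>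
        PGroupsBasic.comm_of_isMulCommutative hS (hPS ha) (hPS hb)
      let V : Subgroup G :=
        { carrier := {v | v ∈ P ∧ v ^ p ∈ Y}
          one_mem' := ⟨P.one_mem, by rw [one_pow]; exact Y.one_mem⟩
          mul_mem' := fun {a b} ha hb => ⟨P.mul_mem ha.1 hb.1, by
            rw [(hcomm a ha.1 b hb.1).mul_pow]; exact Y.mul_mem ha.2 hb.2⟩
          inv_mem' := fun {a} ha => ⟨P.inv_mem ha.1, by rw [inv_pow]; exact Y.inv_mem ha.2⟩ }
      have hVP : V ≤ P := fun v hv => hv.1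
      haveI : IsMulCommutative V :=
        PGroupsBasic.isMulCommutative_of_forall fun a ha b hb => hcomm a (hVP ha) b (hVP hb)
      have hs₀V : s₀ ∈ V := ⟨hs₀P, hs₀p ▸ hy⟩
      have hYs : Y ≤ zpowers s₀ := hYy ▸ zpowers_le.2 (hs₀p ▸ pow_mem (mem_zpowers s₀) p)
      have hDV : D ≤ normalizer (V : Set G) := fun d hd => Subgroup.mem_normalizer_fintype fun v hv => by
        refine ⟨(mem_normalizer_iff.1 (normalizer_le_powSub _ hS _ (hES (hDE hd))) v).1 hv.1, ?_⟩
        rw [conj_pow]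
        exact (mem_normalizer_iff.1 (hDY hd) _).1 hv.2
      have hs₀X' : zpowers s₀ ⊓ X' = ⊥ := by
        rw [eq_bot_iff]
        rintro x ⟨hxs, hxX⟩
        have hxy : x ∈ X := by
          by_cases hx1 : x = 1
          · exact hx1 ▸ one_mem X
          have he := PGroupsCyclic.eq_of_card_eq_of_isCyclic
            (A := zpowers s₀) (H := zpowers x) (K := X) inferInstance (zpowers_le.2 hxs)
            (hXY.trans hYs) (by rw [Nat.card_zpowers, hX,
              PGroupsBasic.orderOf_eq_of_pow_eq_one (hAel.2 x (hX'A hxX)) hx1])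
          exact he ▸ mem_zpowers x
        exact hXX' ▸ ⟨hxy, hxX⟩
      have hsupV : (V ⊓ X') ⊔ zpowers s₀ = V := by
        refine le_antisymm (sup_le inf_le_left (zpowers_le.2 hs₀V)) fun v hv => ?_
        obtain ⟨i, hi⟩ := mem_zpowers_iff.1 (hYy ▸ hv.2 : v ^ p ∈ zpowers y)
        have hw : (s₀ ^ i)⁻¹ * v ∈ A := by
          refine hord _ (S.mul_mem (S.inv_mem (zpow_mem (hPS hs₀P) i)) (hPS hv.1)) ?_
          rw [(show Commute (s₀ ^ i)⁻¹ v from ((hcomm _ hs₀P v hv.1).zpow_left i).inv_left).mul_pow,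
            inv_pow, ← zpow_natCast (s₀ ^ i), ← zpow_mul, mul_comm, zpow_mul, zpow_natCast, hs₀p,
            hi, inv_mul_cancel]
        rw [← hXX'A] at hw
        obtain ⟨x, hx, x', hx', hxx⟩ : ∃ x ∈ X, ∃ x' ∈ X', (s₀ ^ i)⁻¹ * v = x * x' := by
          have h2 : (s₀ ^ i)⁻¹ * v ∈ ((X ⊔ X' : Subgroup G) : Set G) := hw
          rw [coe_mul_of_right_le_normalizer_left X X' (fun b hb => centralizer_le_normalizer _
            (mem_centralizer_iff.2 fun c hc =>
              PGroupsBasic.comm_of_isMulCommutative hAel.1 (hXA hc) (hX'A hb)))] at h2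
          obtain ⟨x, hx, x', hx', he⟩ := Set.mem_mul.1 h2
          exact ⟨x, hx, x', hx', he.symm⟩
        have hxs : x ∈ zpowers s₀ := hYs (hXY hx)
        have hxV : x ∈ V := zpowers_le.2 hs₀V hxs
        have hx'V : x' ∈ V := by
          have : x' = x⁻¹ * ((s₀ ^ i)⁻¹ * v) := by rw [hxx, inv_mul_cancel_left]
          rw [this]
          exact V.mul_mem (V.inv_mem hxV) (V.mul_mem (V.inv_mem (zpow_mem hs₀V i)) hv)
        have hv' : v = s₀ ^ i * (x * x') := by rw [← hxx, mul_inv_cancel_left]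
        rw [hv', ← mul_assoc]
        exact mul_mem (mem_sup_right (mul_mem (zpow_mem (mem_zpowers s₀) i) hxs))
          (mem_sup_left ⟨hx'V, hx'⟩)
      obtain ⟨W, hWV, hDW, hUW, hUWV⟩ := CoprimeAction.exists_invariant_complement (A := D) (V := V)
        (U := V ⊓ X') (W := zpowers s₀) hDV (hcopD _ (inf_le_left.trans (hVP.trans hPS))) inf_le_left
        (CoprimeAction.le_normalizer_inf hDV hDX') (zpowers_le.2 hs₀V)
        (le_bot_iff.1 (by
          rw [inf_comm]; exact hs₀X' ▸ inf_le_inf_left _ inf_le_right))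
        hsupV
      obtain ⟨w, hw, x', hx', hsw⟩ : ∃ w ∈ W, ∃ x' ∈ V ⊓ X', s₀ = w * x' := by
        have h2 : s₀ ∈ ((W ⊔ (V ⊓ X') : Subgroup G) : Set G) := by
          rw [sup_comm, hUWV]; exact hs₀V
        rw [coe_mul_of_right_le_normalizer_left W (V ⊓ X') (fun b hb => centralizer_le_normalizer _
          (mem_centralizer_iff.2 fun c hc => hcomm c (hVP (hWV hc)) b (hVP hb.1)))] at h2
        obtain ⟨w, hw, x', hx', he⟩ := Set.mem_mul.1 h2
        exact ⟨w, hw, x', hx', he.symm⟩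
      have hwy : w ^ p = y := by
        rw [← hs₀p, hsw, (hcomm w (hVP (hWV hw)) x' (hVP hx'.1)).mul_pow,
          hAel.2 x' (hX'A hx'.2), mul_one]
      have hYW : Y ≤ W := hYy ▸ zpowers_le.2 (hwy ▸ pow_mem hw p)
      refine ⟨W, hWV.trans hVP, ?_, hXY.trans hYW, hDW, ?_⟩
      · -- the only subgroup of order `p` is `X`
        obtain ⟨x, hxX, hxo⟩ := PGroupsBasic.exists_orderOf_eq_of_ne_bot (p := p) (H := X)
          (IsPGroup.of_card (n := 1) (by rw [hX, pow_one]))
          fun h' => by rw [h', card_bot] at hX; exact hp.out.one_lt.ne hX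
        have hzX : zpowers x = X :=
          eq_of_le_of_card_ge (zpowers_le.2 hxX) (by rw [Nat.card_zpowers, hxo, hX])
        haveI : IsMulCommutative W := PGroupsBasic.isMulCommutative_of_forall fun a ha b hb =>
          hcomm a (hVP (hWV ha)) b (hVP (hWV hb))
        refine PGroupsCyclic.isCyclic_of_comm (p := p) (S.isPGroup'.to_le (hWV.trans (hVP.trans hPS)))
          (fun a b => mul_comm' a b) (z := ⟨x, hYW (hXY hxX)⟩) (fun z' hzp => ?_)
          (by rw [Subgroup.orderOf_mk, hxo])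
        obtain ⟨z, hz⟩ := z'
        have hzA := hord z ((hWV.trans (hVP.trans hPS)) hz) (congrArg Subtype.val hzp)
        rw [← hXX'A] at hzA
        have h2 : z ∈ ((X ⊔ X' : Subgroup G) : Set G) := hzA
        rw [coe_mul_of_right_le_normalizer_left X X' (fun b hb => centralizer_le_normalizer _
          (mem_centralizer_iff.2 fun c hc =>
            PGroupsBasic.comm_of_isMulCommutative hAel.1 (hXA hc) (hX'A hb)))] at h2
        obtain ⟨c, hc, c', hc', rfl⟩ := Set.mem_mul.1 h2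
        have hcW : c ∈ W := hYW (hXY hc)
        have hc'W : c' ∈ W := by simpa using W.mul_mem (W.inv_mem hcW) hz
        have h3 : c' ∈ (V ⊓ X') ⊓ W := ⟨⟨hWV hc'W, hc'⟩, hc'W⟩
        rw [hUW, mem_bot] at h3
        subst h3
        rw [← hzX] at hc
        obtain ⟨i, rfl⟩ := mem_zpowers_iff.1 hc
        exact mem_zpowers_iff.2 ⟨i, Subtype.ext (by simp)⟩
      · have hyo : orderOf y = Nat.card Y := by rw [hYy, Nat.card_zpowers]
        have hpy : p ∣ orderOf y := hyo ▸ (dvd_pow_self p (Nat.succ_ne_zero k)).trans hYcard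
        have h1 : orderOf y * p ∣ orderOf w := by
          have hwp : p ∣ orderOf w := hpy.trans (hwy ▸ orderOf_pow_dvd p)
          rw [← hwy, orderOf_pow' w hp.out.ne_zero, Nat.gcd_eq_right hwp, Nat.div_mul_cancel hwp]
        rw [pow_succ]
        exact (mul_dvd_mul_right (hyo ▸ hYcard) p).trans
          (h1.trans (Subgroup.orderOf_dvd_natCard _ hw))
  obtain ⟨Y, hY, hYc, hXY, hDY, hYcard⟩ := main m le_rfl
  have hYS : Y ≤ (S : Subgroup G) := hY.trans (powSub_le _ hS _)
  refine ⟨Y, hYS, hYc, hEinv Y hYS hDY, fun s hs => (hexp s hs).trans hYcard, fun z hz hzo => ?_⟩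
  have hzX : zpowers z = X := PGroupsCyclic.eq_of_card_eq_of_isCyclic hYc (zpowers_le.2 hz) hXY
    (by rw [Nat.card_zpowers, hzo, hX])
  rw [← hXreg, ← hzX, zpowers_eq_closure, centralizer_closure]

omit hp in
/-- Elements with fixed points are tau two elements. -/
theorem tau2_of_fixed (hE : Cfsg.IsComplIn E (Cfsg.sigmaCore M) M)
    (h : ∀ e ∈ E, e ≠ 1 → (∀ q : ℕ, q.Prime → q ∣ orderOf e → q ∈ Cfsg.tau1 M ∪ Cfsg.tau3 M) →
      Cfsg.sigmaCore M ⊓ centralizer ({e} : Set G) = ⊥)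
    {e : G} (he : e ∈ E) (hne : Cfsg.sigmaCore M ⊓ centralizer ({e} : Set G) ≠ ⊥) {q : ℕ}
    (hq : q.Prime) (hd : q ∣ orderOf e) : q ∈ Cfsg.tau2 M := by
  haveI := Fact.mk hq
  have hqE : q ∣ Nat.card E := hd.trans (Subgroup.orderOf_dvd_natCard _ he)
  have hσ : q ∉ Cfsg.sigma M := not_mem_sigma_of_compl hG hM hE le_rfl hq hqE
  by_contra hτ
  have hr1 : Cfsg.PRankLE q 1 M := by_contra fun h' => hτ (mem_tau2 hG hM hσ h')
  have hτ' := mem_tau13 hG hM hσ hr1 (hqE.trans (card_dvd_of_le hE.1))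
  set z := e ^ (orderOf e / q) with hz
  have hzo : orderOf z = q := orderOf_pow_orderOf_div (orderOf_pos e).ne' hd
  have hz1 : z ≠ 1 := fun h' => hq.one_lt.ne' (by rw [← hzo, h', orderOf_one])
  refine hne (le_bot_iff.1 ((h z (pow_mem he _) hz1 fun r hr hrd => ?_) ▸ inf_le_inf_left _ ?_))
  · rw [hzo] at hrd
    rw [(Nat.prime_dvd_prime_iff_eq hr hq).1 hrd]
    exact hτ'
  · intro c hc
    rw [mem_centralizer_singleton_iff] at hc ⊢
    exact (Commute.pow_right (show Commute c e from hc) _).eq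

omit hp in
/-- An element of an abelian Sylow subgroup that is normal in the complement absorbs the `q`-subgroups. -/
theorem le_of_normal_sylow {q : ℕ} [Fact q.Prime] (S : Sylow q G)
    (hES : E ≤ normalizer ((S : Subgroup G) : Set G)) {Q : Subgroup G} (hQE : Q ≤ E)
    (hQ : IsPGroup q Q) : Q ≤ (S : Subgroup G) := by
  have h2 := S.is_maximal' (hQ.to_sup_of_normal_right' S.isPGroup' (hQE.trans hES)) le_sup_right
  exact h2 ▸ le_sup_left

omit hp in
/-- BG 12.12 in the abelian case. -/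
theorem frobenius_abelian (hE : Cfsg.IsComplIn E (Cfsg.sigmaCore M) M)
    (h : ∀ e ∈ E, e ≠ 1 → (∀ q : ℕ, q.Prime → q ∣ orderOf e → q ∈ Cfsg.tau1 M ∪ Cfsg.tau3 M) →
      Cfsg.sigmaCore M ⊓ centralizer ({e} : Set G) = ⊥)
    (hab : ∀ q ∈ Cfsg.tau2 M, ∃ S : Sylow q G, IsMulCommutative (S : Subgroup G)) :
    (∃ A₀ : Subgroup G, A₀ ≤ E ∧ E ≤ normalizer (A₀ : Set G) ∧ IsMulCommutative A₀ ∧
        ∀ x ∈ Cfsg.sigmaCore M, x ≠ 1 → E ⊓ centralizer ({x} : Set G) ≤ A₀) ∧
      ∃ E₀ : Subgroup G, E₀ ≤ E ∧ Monoid.exponent E₀ = Monoid.exponent E ∧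
        ∀ e ∈ E₀, e ≠ 1 → Cfsg.sigmaCore M ⊓ centralizer ({e} : Set G) = ⊥ := by
  have data : ∀ q ∈ Cfsg.tau2 M, ∃ (S : Sylow q G) (Y : Subgroup G),
      IsMulCommutative (S : Subgroup G) ∧ (S : Subgroup G) ≤ E ∧
      E ≤ normalizer ((S : Subgroup G) : Set G) ∧
      Y ≤ (S : Subgroup G) ∧ IsCyclic Y ∧ E ≤ normalizer (Y : Set G) ∧
      (∀ s ∈ (S : Subgroup G), orderOf s ∣ Nat.card Y) ∧
      ∀ z ∈ Y, orderOf z = q → Cfsg.sigmaCore M ⊓ centralizer ({z} : Set G) = ⊥ := by
    intro q hq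
    haveI := Fact.mk hq.1
    obtain ⟨A, hAE, hA, hA2⟩ := exists_elementary_sq_compl hG hM hE hq
    obtain ⟨T, hT⟩ := hab q hq
    obtain ⟨S, hAS⟩ := (PGroupsBasic.isPGroup_of_isElementaryAbelian hA).exists_le_sylow
    have hS : IsMulCommutative (S : Subgroup G) := by
      haveI := hT
      refine ⟨⟨fun a b => (S.equiv T).injective ?_⟩⟩
      rw [map_mul, map_mul]
      exact mul_comm' _ _
    obtain ⟨hSE, hES, -⟩ := abelian_normal hG hM hE hq S hS ⟨hAE, hA, hA2⟩ hAS
    obtain ⟨Y, hY⟩ := exists_regular_cyclic hG hM hE hq h S hS ⟨hAE, hA, hA2⟩ hAS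
    exact ⟨S, Y, hS, hSE, hES, hY⟩
  choose S Y hS hSE hES hYS hYc hEY hYexp hYreg using data
  set A₀ : Subgroup G := ⨆ q, ⨆ hq : q ∈ Cfsg.tau2 M, (S q hq : Subgroup G) with hA₀
  set W : Subgroup G := ⨆ q, ⨆ hq : q ∈ Cfsg.tau2 M, Y q hq with hW
  have hnorm : ∀ F : (q : ℕ) → q ∈ Cfsg.tau2 M → Subgroup G,
      (∀ q hq, E ≤ normalizer (F q hq : Set G)) →
      E ≤ normalizer ((⨆ q, ⨆ hq : q ∈ Cfsg.tau2 M, F q hq : Subgroup G) : Set G) := by
    intro F hF e he
    refine CoprimeAction.mem_normalizer_of_conj_smul_eq ?_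
    rw [CoprimeSZ.conj_smul_eq_map, Subgroup.map_iSup]
    refine iSup_congr fun q => ?_
    rw [Subgroup.map_iSup]
    exact iSup_congr fun hq => by
      rw [← CoprimeSZ.conj_smul_eq_map, CoprimeSZ.conj_smul_eq_self (hF q hq he)]
  have hA₀E : A₀ ≤ E := iSup_le fun q => iSup_le fun hq => hSE q hq
  have hmem : ∀ e ∈ E, (∀ q : ℕ, q.Prime → q ∣ orderOf e → q ∈ Cfsg.tau2 M) → e ∈ A₀ := by
    intro e he hτ
    refine (le_of_qgroups fun q hq => ?_ : zpowers e ≤ A₀) (mem_zpowers e)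
    haveI := Fact.mk hq
    obtain ⟨T⟩ : Nonempty (Sylow q (zpowers e)) := inferInstance
    refine ⟨(T : Subgroup (zpowers e)).map (zpowers e).subtype, map_subtype_le _, ?_,
      CoprimeAction.card_map_sylow T⟩
    set Q := (T : Subgroup (zpowers e)).map (zpowers e).subtype
    by_cases hQ0 : Q = ⊥
    · rw [hQ0]; exact bot_le
    have hd : q ∈ Cfsg.tau2 M := hτ q hq ((dvd_card_of_ne_bot (T.isPGroup'.map _) hQ0).trans
      (Nat.card_zpowers e ▸ card_dvd_of_le (map_subtype_le _)))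
    exact (le_of_normal_sylow hG hM (S q hd) (hES q hd) ((map_subtype_le _).trans (zpowers_le.2 he))
      (T.isPGroup'.map _)).trans (le_iSup_of_le q (le_iSup_of_le hd le_rfl))
  refine ⟨⟨A₀, hA₀E, hnorm _ hES, ?_, fun x hx hx1 e he => hmem e he.1 fun q hq hd => ?_⟩, ?_⟩
  · refine PGroupsBasic.isMulCommutative_of_le_centralizer (iSup_le fun q => iSup_le fun hq => ?_)
    rw [le_centralizer_iff]
    refine iSup_le fun r => iSup_le fun hr => ?_
    haveI := Fact.mk hq.1
    haveI := Fact.mk hr.1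
    by_cases hqr : r = q
    · subst hqr
      exact fun a ha => mem_centralizer_iff.2 fun b hb =>
        PGroupsBasic.comm_of_isMulCommutative (hS r hr) hb ha
    · have hH : IsMulCommutative ↥((S r hr : Subgroup G) ⊔ (S q hq : Subgroup G) : Subgroup G) := by
        refine pair_commute hG hM hqr hE hr hq (sup_le (hSE r hr) (hSE q hq)) fun t ht hd => ?_
        haveI : ((S q hq : Subgroup G).subgroupOf E).Normal :=
          normal_subgroupOf_of_le_normalizer (hES q hq)
        have h1 := HallCore.card_sup_dvd ((S r hr : Subgroup G).subgroupOf E)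
          ((S q hq : Subgroup G).subgroupOf E)
        rw [← card_map_of_injective E.subtype_injective, Subgroup.map_sup,
          map_subgroupOf_eq_of_le (hSE r hr), map_subgroupOf_eq_of_le (hSE q hq),
          Nat.card_congr (subgroupOfEquivOfLe (hSE r hr)).toEquiv,
          Nat.card_congr (subgroupOfEquivOfLe (hSE q hq)).toEquiv] at h1
        obtain ⟨i, hi⟩ := IsPGroup.iff_card.1 (S r hr).isPGroup'
        obtain ⟨j, hj⟩ := IsPGroup.iff_card.1 (S q hq).isPGroup'
        rw [hi, hj] at h1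
        exact (ht.dvd_mul.1 (hd.trans h1)).imp
          (fun h => (Nat.prime_dvd_prime_iff_eq ht Fact.out).1 (ht.dvd_of_dvd_pow h))
          (fun h => (Nat.prime_dvd_prime_iff_eq ht Fact.out).1 (ht.dvd_of_dvd_pow h))
      exact fun a ha => mem_centralizer_iff.2 fun b hb =>
        PGroupsBasic.comm_of_isMulCommutative hH (mem_sup_right hb) (mem_sup_left ha)
  · refine tau2_of_fixed hG hM hE h he.1 (fun hbot => hx1 (mem_bot.1 (hbot ▸ ⟨hx, ?_⟩))) hq hd
    exact mem_centralizer_singleton_iff.2 (mem_centralizer_singleton_iff.1 he.2).symm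
  -- the regular subgroup
  haveI : Group.IsSolvable E := isSolvable_of_ne_top hG fun h' => hM.1 (top_le_iff.1 (h' ▸ hE.1))
  obtain ⟨D₀, hD₀⟩ := HallTheorem.exists_isPiHall_of_solvable (G := E) (Cfsg.tau2 M)ᶜ
  set D := D₀.map E.subtype with hDdef
  have hDE : D ≤ E := map_subtype_le D₀
  have hDof : Cfsg.IsPiHallOf (Cfsg.tau2 M)ᶜ D E := ⟨hDE,
    fun q hq hd => hD₀.1 q hq (card_map_of_injective E.subtype_injective (K := D₀) ▸ hd),
    fun q hq hm => by
      rw [relIndex, hDdef, show (D₀.map E.subtype).subgroupOf E = D₀ from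
        comap_map_eq_self_of_injective E.subtype_injective D₀]
      exact hD₀.2 q hq hm⟩
  have hWE : W ≤ E := iSup_le fun q => iSup_le fun hq => (hYS q hq).trans (hSE q hq)
  refine ⟨W ⊔ D, sup_le hWE hDE, ?_, fun e he he1 => by_contra fun hne => ?_⟩
  · refine Nat.dvd_antisymm (Monoid.exponent_dvd.2 fun g => ?_) (Monoid.exponent_dvd.2 fun g => ?_)
    · rw [← Subgroup.orderOf_coe, ← Subgroup.orderOf_mk (g : G) ((sup_le hWE hDE) g.2)]
      exact Monoid.order_dvd_exponent _
    · rw [Nat.dvd_iff_prime_pow_dvd_dvd]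
      intro r k hr hrk
      haveI := Fact.mk hr
      set f := g ^ (orderOf g / r ^ k)
      have hfo : orderOf (f : G) = r ^ k := by
        rw [Subgroup.orderOf_coe]; exact orderOf_pow_orderOf_div (orderOf_pos g).ne' hrk
      have hfp : IsPGroup r (zpowers (f : G)) := IsPGroup.of_card (by rw [Nat.card_zpowers, hfo])
      rcases Nat.eq_zero_or_pos k with rfl | hk
      · rw [pow_zero]; exact one_dvd _
      by_cases hrτ : r ∈ Cfsg.tau2 M
      · have hfS := le_of_normal_sylow hG hM (S r hrτ) (hES r hrτ) (zpowers_le.2 f.2) hfp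
        refine (hfo ▸ hYexp r hrτ _ (hfS (mem_zpowers _))).trans ?_
        obtain ⟨y, hy⟩ := (hYc r hrτ).exists_generator
        rw [← orderOf_eq_card_of_forall_mem_zpowers hy, ← Subgroup.orderOf_coe,
          ← Subgroup.orderOf_mk (y : G) (mem_sup_left (show (y : G) ∈ W from
            le_iSup_of_le (f := fun q => ⨆ hq : q ∈ Cfsg.tau2 M, Y q hq) r
              (le_iSup_of_le (f := fun hq => Y r hq) hrτ le_rfl) y.2) : (y : G) ∈ W ⊔ D)]
        exact Monoid.order_dvd_exponent _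
      · obtain ⟨m, hm, hfm⟩ := le_conj_hallOf hDof (zpowers_le.2 f.2) fun q hq hd => by
          rw [Nat.card_zpowers, hfo] at hd
          rw [(Nat.prime_dvd_prime_iff_eq hq hr).1 (hq.dvd_of_dvd_pow hd)]
          exact hrτ
        obtain ⟨d, hd, hde⟩ := hfm (mem_zpowers (f : G))
        have : orderOf d = r ^ k := by
          rw [← hfo, ← hde]; exact (MulEquiv.orderOf_eq (MulAut.conj m) d).symm
        rw [← this, ← Subgroup.orderOf_mk d (mem_sup_right hd : d ∈ W ⊔ D)]
        exact Monoid.order_dvd_exponent _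
  · have heE : e ∈ E := sup_le hWE hDE he
    have hn1 : orderOf e ≠ 1 := fun h' => he1 (orderOf_eq_one_iff.1 h')
    set q := (orderOf e).minFac
    haveI := Fact.mk (Nat.minFac_prime hn1)
    have hqt : q ∈ Cfsg.tau2 M :=
      tau2_of_fixed hG hM hE h heE hne Fact.out (Nat.minFac_dvd _)
    set z := e ^ (orderOf e / q)
    have hzo : orderOf z = q := orderOf_pow_orderOf_div (orderOf_pos e).ne' (Nat.minFac_dvd _)
    have hzfix : Cfsg.sigmaCore M ⊓ centralizer ({e} : Set G) ≤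
        Cfsg.sigmaCore M ⊓ centralizer ({z} : Set G) := inf_le_inf_left _ fun c hc => by
      rw [mem_centralizer_singleton_iff] at hc ⊢
      exact (Commute.pow_right (show Commute c e from hc) _).eq
    have hzp : IsPGroup q (zpowers z) := IsPGroup.of_card (n := 1) (by rw [Nat.card_zpowers, hzo, pow_one])
    have hEW : E ≤ normalizer (W : Set G) := hnorm _ hEY
    have hzW : z ∈ W := by
      refine le_of_coprime_relIndex (M := W ⊔ D) (zpowers_le.2 (pow_mem he _))
        ((sup_le hWE hDE).trans hEW) ?_ (mem_zpowers z)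
      rw [Nat.card_zpowers, hzo]
      refine Nat.Coprime.coprime_dvd_right ?_
        ((Nat.Prime.coprime_iff_not_dvd Fact.out).2 fun hd => hDof.2.1 q Fact.out hd hqt)
      refine Nat.dvd_of_mul_dvd_mul_left (Nat.card_pos (α := W)) ?_
      rw [HallCore.card_mul_relIndex le_sup_left]
      haveI : (W.subgroupOf E).Normal := normal_subgroupOf_of_le_normalizer hEW
      have h1 := HallCore.card_sup_dvd (D.subgroupOf E) (W.subgroupOf E)
      rw [← card_map_of_injective E.subtype_injective, Subgroup.map_sup,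
        map_subgroupOf_eq_of_le hWE, map_subgroupOf_eq_of_le hDE,
        Nat.card_congr (subgroupOfEquivOfLe hWE).toEquiv,
        Nat.card_congr (subgroupOfEquivOfLe hDE).toEquiv, sup_comm, mul_comm] at h1
      exact h1
    have hzY : z ∈ Y q hqt := by
      set C := coreOf q E with hC
      have hle : W ≤ Y q hqt ⊔ C := iSup_le fun r => iSup_le fun hr => by
        by_cases hrq : r = q
        · subst hrq; exact le_sup_left
        · refine le_sup_of_le_right (BGFittingUnique.le_coreOf ((hYS r hr).trans (hSE r hr)) (hEY r hr) ?_)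
          haveI := Fact.mk hr.1
          obtain ⟨i, hi⟩ := IsPGroup.iff_card.1 ((S r hr).isPGroup'.to_le (hYS r hr))
          rw [hi]
          exact Nat.Coprime.pow_left i ((Nat.coprime_primes hr.1 Fact.out).2 hrq)
      have h2 : z ∈ ((Y q hqt ⊔ C : Subgroup G) : Set G) := hle hzW
      rw [coe_mul_of_left_le_normalizer_right _ _ (((hYS q hqt).trans (hSE q hqt)).trans
        (le_normalizer.trans (le_normalizer_coreOf q E)))] at h2
      obtain ⟨y, hy, c, hc, hyc⟩ := Set.mem_mul.1 h2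
      have hzS := le_of_normal_sylow hG hM (S q hqt) (hES q hqt) (zpowers_le.2 (pow_mem heE _)) hzp
        (mem_zpowers z)
      have hcS : c ∈ (S q hqt : Subgroup G) := by
        have : c = y⁻¹ * z := by rw [← hyc, inv_mul_cancel_left]
        rw [this]
        exact (S q hqt).mul_mem ((S q hqt).inv_mem (hYS q hqt hy)) hzS
      have hc1 : c = 1 := by
        obtain ⟨i, hi⟩ := IsPGroup.iff_card.1 (S q hqt).isPGroup'
        refine mem_bot.1 (HallCore.disjoint_of_coprime_card (A := (S q hqt : Subgroup G)) (B := C) ?_ ▸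
          ⟨hcS, hc⟩)
        rw [hi]
        exact (coprime_coreOf q E).symm.pow_left i
      rw [hc1, mul_one] at hyc
      exact hyc ▸ hy
    exact hne (le_bot_iff.1 (hYreg q hqt z hzY hzo ▸ hzfix))

/-- BG 12.12 in the nonabelian case. -/
theorem frobenius_nonabelian (hE : Cfsg.IsComplIn E (Cfsg.sigmaCore M) M) (ht : p ∈ Cfsg.tau2 M)
    (h : ∀ e ∈ E, e ≠ 1 → (∀ q : ℕ, q.Prime → q ∣ orderOf e → q ∈ Cfsg.tau1 M ∪ Cfsg.tau3 M) →
      Cfsg.sigmaCore M ⊓ centralizer ({e} : Set G) = ⊥)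
    (hS : ∀ S : Sylow p G, ¬ IsMulCommutative (S : Subgroup G)) :
    (∃ A₀ : Subgroup G, A₀ ≤ E ∧ E ≤ normalizer (A₀ : Set G) ∧ IsMulCommutative A₀ ∧
        ∀ x ∈ Cfsg.sigmaCore M, x ≠ 1 → E ⊓ centralizer ({x} : Set G) ≤ A₀) ∧
      ∃ E₀ : Subgroup G, E₀ ≤ E ∧ Monoid.exponent E₀ = Monoid.exponent E ∧
        ∀ e ∈ E₀, e ≠ 1 → Cfsg.sigmaCore M ⊓ centralizer ({e} : Set G) = ⊥ := by
  obtain ⟨A, hAE, hAel, hA2⟩ := exists_elementary_sq_compl hG hM hE ht
  obtain ⟨hX₀, -, hroot, hreg⟩ := nonabelian_case hG hM hE ht hS ⟨hAE, hAel, hA2⟩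
  have hτ := tau2_eq_singleton hG hM hE ht hS
  set X₀ := A ⊓ centralizer (Cfsg.sigmaCore M : Set G) with hX₀def
  have hX₀E : X₀ ≤ E := inf_le_left.trans hAE
  have hEX₀ : E ≤ normalizer (X₀ : Set G) := fun e he => by
    obtain ⟨⟨hEA, -⟩, -, -⟩ := S1418.result hG M hM E hE p ht A ⟨hAE, hAel, hA2⟩
    refine Subgroup.mem_normalizer_fintype fun t ht' => ⟨(mem_normalizer_iff.1 (hEA he) t).1 ht'.1, ?_⟩
    exact CoprimeAction.conj_mem (CoprimeTools.le_normalizer_centralizer_of_le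
      (le_normalizer_sigmaCore M) (hE.1 he)) ht'.2
  have hX₀c : IsMulCommutative X₀ := PGroupsBasic.isMulCommutative_mono hAel.1 inf_le_left
  -- the elements with fixed points
  have hfix : ∀ e ∈ E, Cfsg.sigmaCore M ⊓ centralizer ({e} : Set G) ≠ ⊥ → e ∈ X₀ := by
    intro e he hne
    have hpk : ∃ k, orderOf e = p ^ k :=
      ⟨_, Nat.eq_prime_pow_of_unique_prime_dvd (orderOf_pos e).ne' fun {q} hq hd => by
        have := tau2_of_fixed hG hM hE h he hne hq hd
        rwa [hτ, Set.mem_singleton_iff] at this⟩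
    obtain ⟨k, hk⟩ := hpk
    have hek : e ^ p ^ k = 1 := hk ▸ pow_orderOf_eq_one e
    clear hk
    induction k generalizing e with
    | zero => rw [pow_zero, pow_one] at hek; exact hek ▸ one_mem _
    | succ k ih =>
      have hle : Cfsg.sigmaCore M ⊓ centralizer ({e} : Set G) ≤
          Cfsg.sigmaCore M ⊓ centralizer ({e ^ p} : Set G) := inf_le_inf_left _ fun c hc => by
        rw [mem_centralizer_singleton_iff] at hc ⊢
        exact (Commute.pow_right (show Commute c e from hc) _).eq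
      have h1 := @ih (e ^ p) (pow_mem he p) (fun h' => hne (le_bot_iff.1 (h' ▸ hle)))
        (by rw [← pow_mul, ← pow_succ']; exact hek)
      have hep : IsPGroup p (zpowers e) := by
        obtain ⟨i, -, hi⟩ := (Nat.dvd_prime_pow hp.out).1 (orderOf_dvd_of_pow_eq_one hek)
        exact IsPGroup.of_card (n := i) (by rw [Nat.card_zpowers, hi])
      have h2 := hroot e (hE.1 he) hep h1
      by_cases he1 : e = 1
      · exact he1 ▸ one_mem _
      by_contra hX
      refine hne ?_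
      have hz : zpowers e ≠ X₀ := fun h' => hX (h' ▸ mem_zpowers e)
      have := (hreg (zpowers e) (zpowers_le.2 he)
        (by rw [Nat.card_zpowers, PGroupsBasic.orderOf_eq_of_pow_eq_one h2 he1]) hz).1
      rwa [zpowers_eq_closure, centralizer_closure] at this
  refine ⟨⟨X₀, hX₀E, hEX₀, hX₀c, fun x hx hx1 e he => hfix e he.1 fun hbot => hx1 ?_⟩, ?_⟩
  · exact mem_bot.1 (hbot ▸ ⟨hx, mem_centralizer_singleton_iff.2
      (mem_centralizer_singleton_iff.1 he.2).symm⟩)
  -- a complement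
  obtain ⟨P, hP, hAP⟩ := exists_isMaxP_ge (PGroupsBasic.isPGroup_of_isElementaryAbelian hAel) hAE
  have hPc := isMulCommutative_of_pgroup hG hM ht.2.1 hP.isPGroup (hP.le.trans hE.1)
  have hXP : X₀ ≤ P := inf_le_left.trans hAP
  obtain ⟨a, haX, hao⟩ := PGroupsBasic.exists_orderOf_eq_of_ne_bot (p := p) (H := X₀)
    (IsPGroup.of_card (n := 1) (by rw [hX₀, pow_one]))
    fun h' => by rw [h', card_bot] at hX₀; exact hp.out.one_lt.ne hX₀
  have ha1 : a ≠ 1 := fun h' => hp.out.one_lt.ne' (by rw [← hao, h', orderOf_one])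
  have hzX : zpowers a = X₀ :=
    eq_of_le_of_card_ge (zpowers_le.2 haX) (by rw [Nat.card_zpowers, hao, hX₀])
  set R := (powSub P hPc p).subgroupOf P
  have haR : (⟨a, hXP haX⟩ : P) ∉ R := by
    rintro ⟨y, hy, hya⟩
    have hya' : y ^ p = a := hya
    exact ha1 (hya'.symm.trans (hroot y (hE.1 (hP.le hy)) (hP.isPGroup.to_le (zpowers_le.2 hy))
      (by rw [hya']; exact haX)))
  haveI : R.Normal := ⟨fun t ht' g => by
    have h1 : g * t * g⁻¹ = t := Subtype.ext (by
      simp only [coe_mul, coe_inv]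
      rw [PGroupsBasic.comm_of_isMulCommutative hPc g.2 t.2, mul_inv_cancel_right])
    rw [h1]; exact ht'⟩
  have hfr : frattini P ≤ R := by
    refine PGroupsBasic.frattini_le_of_elementary_quotient (p := p) ?_ fun x => ⟨x, x.2, rfl⟩
    rw [_root_.commutator_def, commutator_le]
    intro x _ y _
    rw [commutatorElement_eq_one_iff_mul_comm.2
      (Subtype.ext (PGroupsBasic.comm_of_isMulCommutative hPc x.2 y.2))]
    exact one_mem R
  obtain ⟨H, hH, haH⟩ : ∃ H : Subgroup P, IsCoatom H ∧ (⟨a, hXP haX⟩ : P) ∉ H := by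
    by_contra hh
    push Not at hh
    refine haR (hfr ?_)
    exact mem_iInf.2 fun H => mem_iInf.2 fun hH => hh H hH
  set H' := H.map P.subtype with hH'def
  have hH'P : H' ≤ P := map_subtype_le H
  have hH'X : H' ⊓ X₀ = ⊥ := by
    rw [eq_bot_iff]
    rintro x ⟨hxH, hxX⟩
    rw [mem_bot]
    by_contra hx1
    have : zpowers x = X₀ := eq_of_le_of_card_ge (zpowers_le.2 hxX) (by
      rw [Nat.card_zpowers, hX₀,
        PGroupsBasic.orderOf_eq_of_pow_eq_one (PGroupsBasic.pow_eq_one_of_card hX₀ hxX) hx1])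
    obtain ⟨b, hb, hba⟩ := (zpowers_le.2 hxH (this ▸ haX) : a ∈ H')
    exact haH ((Subtype.ext hba : b = ⟨a, hXP haX⟩) ▸ hb)
  have hH'sup : X₀ ⊔ H' = P := by
    refine le_antisymm (sup_le hXP hH'P) ?_
    have h1 : zpowers (⟨a, hXP haX⟩ : P) ⊔ H = ⊤ :=
      hH.2 _ (right_lt_sup.2 fun hle => haH (hle (mem_zpowers _)))
    calc P = (⊤ : Subgroup P).map P.subtype := by rw [← MonoidHom.range_eq_map, range_subtype]
      _ ≤ X₀ ⊔ H' := by
        rw [← h1, Subgroup.map_sup, MonoidHom.map_zpowers]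
        exact sup_le_sup (zpowers_le.2 haX) le_rfl
  haveI : (X₀.subgroupOf E).Normal := normal_subgroupOf_of_le_normalizer hEX₀
  haveI : IsMulCommutative (X₀.subgroupOf E) := ⟨⟨fun u v => Subtype.ext (Subtype.ext
    (PGroupsBasic.comm_of_isMulCommutative hX₀c u.2 v.2))⟩⟩
  obtain ⟨T, hT⟩ := hP.exists_sylow
  have hTP : P.subgroupOf E = (T : Subgroup E) := by
    rw [← hT]; exact comap_map_eq_self_of_injective E.subtype_injective _
  obtain ⟨E₀, hE₀⟩ := CoprimeGaschutz.exists_complement (K := X₀.subgroupOf E) (U := P.subgroupOf E)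
    (fun x hx => hXP hx)
    (by rw [Nat.card_congr (subgroupOfEquivOfLe hX₀E).toEquiv, hX₀, hTP]
        exact (Nat.Prime.coprime_iff_not_dvd hp.out).2 T.not_dvd_index)
    (H'.subgroupOf E) (fun x hx => hH'P hx)
    (by rw [eq_bot_iff]; rintro x ⟨hx1, hx2⟩
        exact mem_bot.2 (Subtype.ext (mem_bot.1 (hH'X ▸ ⟨hx1, hx2⟩ : (x : G) ∈ (⊥ : Subgroup G)))))
    (by rw [← subgroupOf_sup hX₀E (hH'P.trans hP.le), hH'sup])
  refine ⟨E₀.map E.subtype, map_subtype_le _, ?_, ?_⟩
  · rw [Monoid.exponent_eq_of_mulEquiv (E₀.equivMapOfInjective E.subtype E.subtype_injective).symm]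
    refine Nat.dvd_antisymm (Monoid.exponent_dvd.2 fun g => ?_) (Monoid.exponent_dvd.2 fun g => ?_)
    · rw [← Subgroup.orderOf_coe]; exact Monoid.order_dvd_exponent _
    obtain ⟨⟨k, e₀⟩, hke⟩ := hE₀.2 g
    simp only at hke
    set n := orderOf (e₀ : E) with hn
    have hdn : n ∣ Monoid.exponent E₀ := by
      rw [hn, Subgroup.orderOf_coe]; exact Monoid.order_dvd_exponent _
    have hgn : g ^ n ∈ X₀.subgroupOf E := by
      have hq : (g : E ⧸ X₀.subgroupOf E) = ((e₀ : E) : E ⧸ X₀.subgroupOf E) := by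
        rw [← hke, QuotientGroup.mk_mul, (QuotientGroup.eq_one_iff _).2 k.2, one_mul]
      rw [← QuotientGroup.eq_one_iff, QuotientGroup.mk_pow, hq, ← QuotientGroup.mk_pow, hn,
        pow_orderOf_eq_one, QuotientGroup.mk_one]
    have hgnp : g ^ (n * p) = 1 := by
      rw [pow_mul]
      exact Subtype.ext (PGroupsBasic.pow_eq_one_of_card hX₀ hgn)
    by_cases hpn : p ∣ n
    · have hgn1 : g ^ n = 1 := by
        set y := g ^ (n / p) with hy
        have hyp : y ^ p = g ^ n := by rw [hy, ← pow_mul, Nat.div_mul_cancel hpn]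
        have hy2 : (y : G) ^ p ^ 2 = 1 := by
          rw [pow_two, pow_mul, ← SubgroupClass.coe_pow, hyp]
          exact PGroupsBasic.pow_eq_one_of_card hX₀ hgn
        have hyz : IsPGroup p (zpowers (y : G)) := by
          obtain ⟨i, -, hi⟩ := (Nat.dvd_prime_pow hp.out).1 (orderOf_dvd_of_pow_eq_one hy2)
          exact IsPGroup.of_card (n := i) (by rw [Nat.card_zpowers, hi])
        have h2 := hroot y (hE.1 y.2) hyz (by rw [← SubgroupClass.coe_pow, hyp]; exact hgn)
        rw [← hyp]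
        exact Subtype.ext h2
      exact (orderOf_dvd_of_pow_eq_one hgn1).trans hdn
    · refine (orderOf_dvd_of_pow_eq_one hgnp).trans (Nat.Coprime.mul_dvd_of_dvd_of_dvd
        ((Nat.Prime.coprime_iff_not_dvd hp.out).2 hpn).symm hdn ?_)
      obtain ⟨b, hbA, hbX⟩ := SetLike.not_le_iff_exists.1 fun hle : A ≤ X₀ => by
        have := card_le_of_le hle
        rw [hA2, hX₀] at this
        exact absurd this (not_le.2 (by
          calc p = p ^ 1 := (pow_one p).symm
            _ < p ^ 2 := Nat.pow_lt_pow_right hp.out.one_lt (by norm_num)))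
      obtain ⟨⟨k', b'⟩, hkb⟩ := hE₀.2 ⟨b, hAE hbA⟩
      simp only at hkb
      have hb'1 : (b' : E) ≠ 1 := fun h' => hbX (by
        rw [h', mul_one] at hkb
        have := k'.2
        rw [hkb] at this
        exact this)
      have hq : ((⟨b, hAE hbA⟩ : E) : E ⧸ X₀.subgroupOf E) = ((b' : E) : E ⧸ X₀.subgroupOf E) := by
        rw [← hkb, QuotientGroup.mk_mul, (QuotientGroup.eq_one_iff _).2 k'.2, one_mul]
      have hb'p : (b' : E) ^ p = 1 := by
        have h3 : (b' : E) ^ p ∈ X₀.subgroupOf E := by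
          rw [← QuotientGroup.eq_one_iff, QuotientGroup.mk_pow, ← hq, ← QuotientGroup.mk_pow,
            show (⟨b, hAE hbA⟩ : E) ^ p = 1 from Subtype.ext (hAel.2 b hbA), QuotientGroup.mk_one]
        exact (hE₀.disjoint.eq_bot.le ⟨h3, pow_mem b'.2 p⟩ : _)
      rw [← PGroupsBasic.orderOf_eq_of_pow_eq_one (p := p) hb'p hb'1, Subgroup.orderOf_coe]
      exact Monoid.order_dvd_exponent _
  · rintro _ ⟨e, he, rfl⟩ he1
    by_contra hne
    have h1 := hfix e e.2 hne
    exact he1 (congrArg Subtype.val (mem_bot.1 (hE₀.disjoint.eq_bot.le ⟨h1, he⟩)))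

end Cfsg.Agent.BGTau62
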