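import Cfsg.Agent.Lib.BGTauBasic62
import Cfsg.Agent.Lib.BGSigmaRank
import Cfsg.Agent.Lib.HallTheorem
import Cfsg.Agent.Lib.FittingHallBasic
import Cfsg.Agent.S1408
import Cfsg.Agent.S1414
import Cfsg.Agent.S1418

/-!
Complements to the sigma core; primes of tau two (Bender-Glauberman 12.8 (c), 12.10 (d), part of 12.11).
-/

set_option autoImplicit false
set_option linter.style.haveILetI false

namespace Cfsg.Agent.BGTau62

open Subgroup
open Cfsg.Agent.BGUnique
open scoped commutatorElement Pointwise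

universe u

variable {G : Type u} [Group G] [Finite G]

/-- A subgroup of order prime to the index of a normal subgroup lies in it. -/
theorem le_of_coprime_relIndex {M N X : Subgroup G} (hXM : X ≤ M)
    (hn : M ≤ normalizer (N : Set G)) (hc : (Nat.card X).Coprime (N.relIndex M)) : X ≤ N := by
  haveI : (N.subgroupOf M).Normal := normal_subgroupOf_of_le_normalizer hn
  intro s hs
  have h1 : ((⟨s, hXM hs⟩ : M) : M ⧸ N.subgroupOf M) = 1 := by
    rw [← orderOf_eq_one_iff]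
    refine Nat.eq_one_of_dvd_coprimes hc ?_ ?_
    · refine (orderOf_map_dvd (QuotientGroup.mk' _) _).trans ?_
      rw [Subgroup.orderOf_mk]
      exact Subgroup.orderOf_dvd_natCard _ hs
    · rw [relIndex, index_eq_card]; exact orderOf_dvd_natCard _
  exact (QuotientGroup.eq_one_iff (N := N.subgroupOf M) (⟨s, hXM hs⟩ : M)).1 h1

/-- Containment in a conjugate of a Hall subgroup of a solvable subgroup. -/
theorem le_conj_hallOf {π : Set ℕ} {X H U : Subgroup G} [Group.IsSolvable X]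
    (hH : Cfsg.IsPiHallOf π H X) (hUX : U ≤ X)
    (hU : ∀ q : ℕ, q.Prime → q ∣ Nat.card U → q ∈ π) : ∃ g ∈ X, U ≤ MulAut.conj g • H := by
  have hH' : Cfsg.IsPiHall π (H.subgroupOf X) :=
    ⟨fun q hq hd => hH.2.1 q hq (hd.trans (HallCore.card_subgroupOf_dvd H X)), hH.2.2⟩
  obtain ⟨g, hg⟩ := HallTheorem.le_conj_isPiHall (HallSolvable.isPiSeparable_of_solvable π)
    (HallTheorem.complSolvable_of_solvable π) (U := U.subgroupOf X)
    (fun q hq hd => hU q hq (hd.trans (HallCore.card_subgroupOf_dvd U X))) hH'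
  refine ⟨g, g.2, fun u hu => ?_⟩
  obtain ⟨h, hh, hhe⟩ := hg (show (⟨u, hUX hu⟩ : X) ∈ U.subgroupOf X from hu)
  exact ⟨h, hh, congrArg Subtype.val hhe⟩

variable {M E : Subgroup G}

theorem le_normalizer_sigmaCore (M : Subgroup G) :
    M ≤ normalizer (Cfsg.sigmaCore M : Set G) := BGSigma.le_normalizer_core _ M

variable (hG : Cfsg.IsMinSimpleOddOrder G) (hM : IsCoatom M)
include hG hM

/-- sigma-subgroups of `M` lie in the core. -/
theorem le_sigmaCore {X : Subgroup G} (hXM : X ≤ M)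
    (hX : ∀ q : ℕ, q.Prime → q ∣ Nat.card X → q ∈ Cfsg.sigma M) : X ≤ Cfsg.sigmaCore M :=
  le_of_coprime_relIndex hXM (le_normalizer_sigmaCore M) (Nat.coprime_of_dvd fun q hq h1 h2 =>
    (BGSigma.hall_sigma hG hM).1.2.2 q hq (hX q hq h1) h2)

/-- A complement is a Hall subgroup for the primes outside sigma. -/
theorem hallOf_compl (hE : Cfsg.IsComplIn E (Cfsg.sigmaCore M) M) :
    Cfsg.IsPiHallOf (Cfsg.sigma M)ᶜ E M := by
  obtain ⟨-, hσ2, hσ3⟩ := (BGSigma.hall_sigma hG hM).1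
  have hrel := FittingHallBasic.card_compl_eq_relIndex hE
  have hmul : Nat.card E * E.relIndex M = Nat.card M := HallCore.card_mul_relIndex hE.1
  have hmul' : Nat.card ↥(Cfsg.sigmaCore M) * (Cfsg.sigmaCore M).relIndex M = Nat.card M :=
    HallCore.card_mul_relIndex hE.2.1
  rw [hrel] at hmul
  have hE' : (Cfsg.sigmaCore M).relIndex M = Nat.card E := by
    refine Nat.eq_of_mul_eq_mul_left (Nat.card_pos (α := ↥(Cfsg.sigmaCore M))) ?_
    rw [hmul', ← hmul, mul_comm]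
  refine ⟨hE.1, fun q hq hd hqσ => hσ3 q hq hqσ (hE' ▸ hd), fun q hq hqσ hd => hqσ ?_⟩
  rw [hrel] at hd
  exact hσ2 q hq hd

theorem not_mem_sigma_of_compl (hE : Cfsg.IsComplIn E (Cfsg.sigmaCore M) M) {X : Subgroup G}
    (hXE : X ≤ E) {q : ℕ} (hq : q.Prime) (hd : q ∣ Nat.card X) : q ∉ Cfsg.sigma M :=
  (hallOf_compl hG hM hE).2.1 q hq (hd.trans (card_dvd_of_le hXE))

/-- Subgroups of order prime to sigma lie in some complement. -/
theorem exists_compl_ge (hE : Cfsg.IsComplIn E (Cfsg.sigmaCore M) M) {U : Subgroup G} (hUM : U ≤ M)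
    (hU : ∀ q : ℕ, q.Prime → q ∣ Nat.card U → q ∉ Cfsg.sigma M) :
    ∃ g ∈ M, U ≤ MulAut.conj g • E ∧
      Cfsg.IsComplIn (MulAut.conj g • E) (Cfsg.sigmaCore M) M := by
  haveI := isSolvable_of_ne_top hG hM.1
  obtain ⟨g, hg, hUg⟩ := le_conj_hallOf (hallOf_compl hG hM hE) hUM hU
  refine ⟨g, hg, hUg, ?_⟩
  have hcM : MulAut.conj g • M = M := CoprimeSZ.conj_smul_eq_self (le_normalizer hg)
  have hcS : MulAut.conj g • Cfsg.sigmaCore M = Cfsg.sigmaCore M :=
    CoprimeSZ.conj_smul_eq_self (le_normalizer_sigmaCore M hg)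
  refine ⟨?_, hE.2.1, ?_, fun m hm => ?_⟩
  · conv_rhs => rw [← hcM]
    exact pointwise_smul_le_pointwise_smul_iff.2 hE.1
  · conv_lhs => rw [← hcS]
    rw [← smul_inf, hE.2.2.1, smul_bot]
  · obtain ⟨a, ha, b, hb, hab⟩ := hE.2.2.2 (g⁻¹ * m * g) (M.mul_mem (M.mul_mem (M.inv_mem hg) hm) hg)
    refine ⟨g * a * g⁻¹, CoprimeSZ.conj_mul_mem_conj_smul ha, g * b * g⁻¹, ?_, ?_⟩
    · rw [← hcS]; exact CoprimeSZ.conj_mul_mem_conj_smul hb
    · calc m = g * (g⁻¹ * m * g) * g⁻¹ := by group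
        _ = g * (a * b) * g⁻¹ := by rw [hab]
        _ = g * a * g⁻¹ * (g * b * g⁻¹) := by group

variable {p : ℕ} [hp : Fact p.Prime]

/-- Maximal `p`-subgroups of a complement, `p` outside sigma, are maximal in `M`. -/
theorem isMaxP_of_compl (hE : Cfsg.IsComplIn E (Cfsg.sigmaCore M) M) (hσ : p ∉ Cfsg.sigma M)
    {P : Subgroup G} (hP : IsMaxP p P E) : IsMaxP p P M := by
  refine ⟨hP.le.trans hE.1, hP.isPGroup, fun Q hPQ hQM hQ => ?_⟩
  obtain ⟨g, hg, hQg, -⟩ := exists_compl_ge hG hM hE hQM fun q hq hd => by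
    rw [(Nat.prime_dvd_prime_iff_eq hq hp.out).1 (hq.dvd_of_dvd_pow
      (hd.trans (dvd_of_eq (IsPGroup.iff_card.1 hQ).choose_spec)))]
    exact hσ
  have h0 : MulAut.conj g⁻¹ • Q ≤ E := by
    rw [map_inv]; exact subset_pointwise_smul_iff.1 hQg
  obtain ⟨e, -, he⟩ := BGSigma.exists_conj_maxP hP h0 (hQ.map _)
  refine (eq_of_le_of_card_ge hPQ ?_).symm
  have h2 := card_le_of_le he
  rwa [CoprimeSZ.card_conj_smul, CoprimeSZ.card_conj_smul] at h2

/-- Every complement contains an elementary subgroup of order `p ^ 2` for `p` in tau two. -/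
theorem exists_elementary_sq_compl (hE : Cfsg.IsComplIn E (Cfsg.sigmaCore M) M)
    (ht : p ∈ Cfsg.tau2 M) :
    ∃ A : Subgroup G, A ≤ E ∧ Cfsg.IsElementaryAbelian p A ∧ Nat.card A = p ^ 2 := by
  obtain ⟨A, hAM, hA, hA2⟩ := exists_elementary_sq hG hM ht
  obtain ⟨P, hP, -⟩ := exists_isMaxP_ge (p := p) (IsPGroup.of_bot) (bot_le : ⊥ ≤ E)
  obtain ⟨m, -, hm⟩ := BGSigma.exists_conj_maxP (isMaxP_of_compl hG hM hE ht.2.1 hP) hAM
    (PGroupsBasic.isPGroup_of_isElementaryAbelian hA)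
  exact ⟨_, hm.trans hP.le, PGroupsBasic.isElementaryAbelian_map_hom hA _, by
    rw [← hA2]; exact CoprimeSZ.card_conj_smul m A⟩

omit hM hp in
/-- A maximal subgroup over `N(A)`, `A` elementary of order `p ^ 2`, has `p` in sigma. -/
theorem mem_sigma_of_normalizer_le [Fact p.Prime] {A : Subgroup G}
    (hA : Cfsg.IsElementaryAbelian p A) (hA2 : Nat.card A = p ^ 2) {L : Subgroup G}
    (hL : IsCoatom L) (hNL : normalizer (A : Set G) ≤ L) : p ∈ Cfsg.sigma L := by
  by_contra hσ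
  have hAL : A ≤ L := le_normalizer.trans hNL
  have htL := mem_tau2 hG hL hσ (not_pRankLE_one hAL hA Fact.out hA2)
  obtain ⟨P, hP, hAP⟩ := exists_isMaxP_ge (PGroupsBasic.isPGroup_of_isElementaryAbelian hA) hAL
  obtain ⟨S, rfl⟩ := hP.exists_sylow
  obtain ⟨hAS, hN⟩ := ((S1417.result hG L hL p htL A ⟨hAL, hA, hA2⟩).2.1 S).2 hAP
  refine hN (le_trans (fun g hg => ?_) hNL)
  refine Subgroup.mem_normalizer_fintype fun a ha => ?_
  have h1 := (mem_normalizer_iff.1 hg a).1 (hAP ha)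
  refine (hAS _ h1).1 ?_
  rw [conj_pow, hA.2 a ha, mul_one, mul_inv_cancel]

omit hp in
/-- Two primes of tau two: the relevant subgroups of a complement sit in a nilpotent subgroup of
index prime to `p`. -/
theorem pair_data [Fact p.Prime] {q : ℕ} [Fact q.Prime] (hpq : p ≠ q)
    (hE : Cfsg.IsComplIn E (Cfsg.sigmaCore M) M) (hp : p ∈ Cfsg.tau2 M) (hq : q ∈ Cfsg.tau2 M)
    {H : Subgroup G} (hHE : H ≤ E) (hH : ∀ r : ℕ, r.Prime → r ∣ Nat.card H → r = p ∨ r = q) :
    ∃ K : Subgroup G, Group.IsNilpotent K ∧ H ≤ K ∧ ¬ p ∣ K.index := by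
  obtain ⟨A, hAE, hA, hA2⟩ := exists_elementary_sq_compl hG hM hE hp
  obtain ⟨B, hBE, hB, hB2⟩ := exists_elementary_sq_compl hG hM hE hq
  obtain ⟨⟨hEA, -⟩, -, -⟩ := S1418.result hG M hM E hE p hp A ⟨hAE, hA, hA2⟩
  obtain ⟨⟨hEB, -⟩, -, -⟩ := S1418.result hG M hM E hE q hq B ⟨hBE, hB, hB2⟩
  have hA0 : A ≠ ⊥ := fun h => by
    rw [h, card_bot] at hA2
    exact (Nat.one_lt_pow two_ne_zero (Fact.out : p.Prime).one_lt).ne hA2
  have hAB : A ≤ centralizer (B : Set G) := by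
    intro a ha
    rw [mem_centralizer_iff]
    intro b hb
    refine BGFittingUnique.commute_of_normalize (hAE.trans hEB) (hBE.trans hEA) ?_ ha hb |>.eq.symm
    exact HallCore.disjoint_of_coprime_card (BGFittingUnique.coprime_of_qgroups hpq
      (PGroupsBasic.isPGroup_of_isElementaryAbelian hA)
      (PGroupsBasic.isPGroup_of_isElementaryAbelian hB))
  have hAt : A ≠ ⊤ := fun h => hM.1 (top_le_iff.1 (h ▸ hAE.trans hE.1))
  obtain ⟨L, hL, hNL⟩ := exists_coatom_ge (BGSigma.normalizer_ne_top' hG hA0 hAt)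
  have hpL := mem_sigma_of_normalizer_le hG hA hA2 hL hNL
  have hEL : E ≤ L := hEA.trans hNL
  have hAσ : A ≤ Cfsg.sigmaCore L := le_sigmaCore hG hL (hAE.trans hEL) fun r hr hd => by
    rw [hA2] at hd
    rwa [(Nat.prime_dvd_prime_iff_eq hr Fact.out).1 (hr.dvd_of_dvd_pow hd)]
  have hqL : q ∈ Cfsg.sigma L := by
    by_contra hσ
    have htL := mem_tau2 hG hL hσ (not_pRankLE_one (hBE.trans hEL) hB Fact.out hB2)
    have h1 := (S1417.result hG L hL q htL B ⟨hBE.trans hEL, hB, hB2⟩).2.2.2.1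
    exact hA0 (le_bot_iff.1 (h1 ▸ le_inf hAσ hAB))
  have hHσ : H ≤ Cfsg.sigmaCore L := le_sigmaCore hG hL (hHE.trans hEL) fun r hr hd => by
    rcases hH r hr hd with rfl | rfl <;> assumption
  obtain ⟨-, -, -, ⟨D, hD, hDn⟩, -⟩ := S1414.result hG L hL
  have hβp : p ∉ Cfsg.beta L := fun h => (S1408.result hG M hM p hp.2.1 hp.2.2.1 hp.2.2.2).1 h.2
  have hβq : q ∉ Cfsg.beta L := fun h => (S1408.result hG M hM q hq.2.1 hq.2.2.1 hq.2.2.2).1 h.2
  haveI : Group.IsSolvable ↥(Cfsg.sigmaCore L) := isSolvable_of_ne_top hG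
    fun h => hL.1 (top_le_iff.1 (h ▸ map_subtype_le _))
  obtain ⟨g, hg, hHg⟩ := le_conj_hallOf hD hHσ fun r hr hd => by
    rcases hH r hr hd with rfl | rfl
    exacts [⟨hr, hβp⟩, ⟨hr, hβq⟩]
  refine ⟨_, ?_, hHg, ?_⟩
  · haveI := hDn
    exact Group.nilpotent_of_mulEquiv (Subgroup.equivSMul (MulAut.conj g) D)
  · rw [HallTheorem.index_conj_smul, ← Subgroup.relIndex_mul_index hD.1]
    refine fun hd => ((Fact.out : p.Prime).dvd_mul.1 hd).elim (hD.2.2 p Fact.out ⟨Fact.out, hβp⟩) ?_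
    exact (BGSigma.hall_sigma hG hL).2.2 p Fact.out hpL

omit hp in
/-- Elements of a complement for two primes of tau two commute. -/
theorem pair_commute [Fact p.Prime] {q : ℕ} [Fact q.Prime] (hpq : p ≠ q)
    (hE : Cfsg.IsComplIn E (Cfsg.sigmaCore M) M) (hp : p ∈ Cfsg.tau2 M) (hq : q ∈ Cfsg.tau2 M)
    {H : Subgroup G} (hHE : H ≤ E) (hH : ∀ r : ℕ, r.Prime → r ∣ Nat.card H → r = p ∨ r = q) :
    IsMulCommutative H := by
  obtain ⟨K, hK, hHK, -⟩ := pair_data hG hM hpq hE hp hq hHE hH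
  haveI := hK
  have hn : Group.IsNilpotent H :=
    Group.nilpotent_of_mulEquiv (Subgroup.subgroupOfEquivOfLe hHK)
  exact isMulCommutative_of_nilpotent hG hM (hHE.trans hE.1) hn
    fun r hr hd => not_mem_sigma_of_compl hG hM hE hHE hr hd

/-- BG 12.7 (a). -/
theorem tau2_eq_singleton (hE : Cfsg.IsComplIn E (Cfsg.sigmaCore M) M) (ht : p ∈ Cfsg.tau2 M)
    (hS : ∀ S : Sylow p G, ¬ IsMulCommutative (S : Subgroup G)) : Cfsg.tau2 M = {p} := by
  refine Set.eq_singleton_iff_unique_mem.2 ⟨ht, fun q hq => by_contra fun hne => ?_⟩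
  haveI := Fact.mk hq.1
  obtain ⟨B, hBE, hB, hB2⟩ := exists_elementary_sq_compl hG hM hE hq
  obtain ⟨K, hK, hBK, hKi⟩ := pair_data hG hM (Ne.symm hne) hE ht hq (H := B) hBE fun r hr hd => by
    rw [hB2] at hd
    exact Or.inr ((Nat.prime_dvd_prime_iff_eq hr Fact.out).1 (hr.dvd_of_dvd_pow hd))
  haveI := hK
  obtain ⟨P, hP, -⟩ := exists_isMaxP_ge (p := p) (IsPGroup.of_bot) (bot_le : ⊥ ≤ K)
  have hPtop : IsMaxP p P ⊤ := by
    obtain ⟨S, hS⟩ := hP.exists_sylow
    refine ⟨le_top, hP.isPGroup, fun Q hPQ _ hQ => (eq_of_le_of_card_ge hPQ ?_).symm⟩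
    obtain ⟨T, hT⟩ := hQ.exists_le_sylow
    refine (card_le_of_le hT).trans (le_of_eq ?_)
    rw [← hS, card_map_of_injective K.subtype_injective, S.card_eq_multiplicity,
      T.card_eq_multiplicity, ← K.card_mul_index,
      Nat.factorization_mul Nat.card_pos.ne' index_ne_zero_of_finite, Finsupp.coe_add, Pi.add_apply,
      Nat.factorization_eq_zero_of_not_dvd hKi, add_zero]
  have hPC : P ≤ centralizer (B : Set G) := fun x hx => mem_centralizer_iff.2 fun b hb => by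
    have h1 : Commute (⟨x, hP.le hx⟩ : K) ⟨b, hBK hb⟩ := by
      refine FittingHallBasic.commute_of_coprime_orderOf ?_
      rw [Subgroup.orderOf_mk, Subgroup.orderOf_mk]
      exact Nat.Coprime.coprime_dvd_left (Subgroup.orderOf_dvd_natCard _ hx)
        (Nat.Coprime.coprime_dvd_right (Subgroup.orderOf_dvd_natCard _ hb)
          (BGFittingUnique.coprime_of_qgroups (Ne.symm hne) hP.isPGroup
            (PGroupsBasic.isPGroup_of_isElementaryAbelian hB)))
    exact (congrArg Subtype.val h1.eq).symm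
  obtain ⟨S, hS'⟩ := hPtop.exists_sylow_top
  refine hS S ?_
  rw [hS']
  exact isMulCommutative_of_pgroup hG hM ht.2.1 hP.isPGroup
    (hPC.trans (S1416.result hG M hM q B ⟨hBE.trans hE.1, hB, hB2⟩).1)

omit hp in
/-- A tau two element of a complement centralizes the elementary subgroups of order `p ^ 2`. -/
theorem commute_of_tau2 [Fact p.Prime] (hE : Cfsg.IsComplIn E (Cfsg.sigmaCore M) M)
    (ht : p ∈ Cfsg.tau2 M) {A : Subgroup G} (hAE : A ≤ E) (hA : Cfsg.IsElementaryAbelian p A)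
    (hA2 : Nat.card A = p ^ 2) {x : G} (hx : x ∈ E)
    (hxo : ∀ r : ℕ, r.Prime → r ∣ orderOf x → r ∈ Cfsg.tau2 M) :
    zpowers x ≤ centralizer (A : Set G) := by
  obtain ⟨⟨hEA, -⟩, -, -⟩ := S1418.result hG M hM E hE p ht A ⟨hAE, hA, hA2⟩
  refine le_of_qgroups fun q hq => ?_
  haveI := Fact.mk hq
  obtain ⟨S⟩ : Nonempty (Sylow q (zpowers x)) := inferInstance
  refine ⟨(S : Subgroup (zpowers x)).map (zpowers x).subtype, map_subtype_le _, ?_,
    CoprimeAction.card_map_sylow S⟩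
  set Q := (S : Subgroup (zpowers x)).map (zpowers x).subtype
  have hQE : Q ≤ E := (map_subtype_le _).trans (zpowers_le.2 hx)
  have hQp : IsPGroup q Q := S.isPGroup'.map _
  have hAp := PGroupsBasic.isPGroup_of_isElementaryAbelian hA
  have hJ : IsMulCommutative ↥(Q ⊔ A : Subgroup G) := by
    by_cases hqp : q = p
    · subst hqp
      exact isMulCommutative_of_pgroup hG hM ht.2.1
        (hQp.to_sup_of_normal_right' hAp (hQE.trans hEA))
        ((sup_le hQE hAE).trans hE.1)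
    by_cases hQ0 : Q = ⊥
    · rw [hQ0, bot_sup_eq]; exact hA.1
    have hq' : q ∈ Cfsg.tau2 M := hxo q hq
      ((dvd_card_of_ne_bot hQp hQ0).trans (Nat.card_zpowers x ▸ card_dvd_of_le (map_subtype_le _)))
    refine pair_commute hG hM hqp hE hq' ht (sup_le hQE hAE) fun r hr hd => ?_
    obtain ⟨i, hi⟩ := IsPGroup.iff_card.1 hQp
    have h1 : Nat.card ↥(Q ⊔ A : Subgroup G) ∣ Nat.card Q * Nat.card A := by
      haveI : (A.subgroupOf E).Normal := normal_subgroupOf_of_le_normalizer hEA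
      have := HallCore.card_sup_dvd (Q.subgroupOf E) (A.subgroupOf E)
      rw [← card_map_of_injective E.subtype_injective, Subgroup.map_sup,
        map_subgroupOf_eq_of_le hQE, map_subgroupOf_eq_of_le hAE,
        Nat.card_congr (subgroupOfEquivOfLe hQE).toEquiv,
        Nat.card_congr (subgroupOfEquivOfLe hAE).toEquiv] at this
      exact this
    rcases (hr.dvd_mul.1 (hd.trans h1)) with h | h
    · rw [hi] at h
      exact Or.inl ((Nat.prime_dvd_prime_iff_eq hr hq).1 (hr.dvd_of_dvd_pow h))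
    · rw [hA2] at h
      exact Or.inr ((Nat.prime_dvd_prime_iff_eq hr Fact.out).1 (hr.dvd_of_dvd_pow h))
  exact fun y hy => mem_centralizer_iff.2 fun a ha =>
    PGroupsBasic.comm_of_isMulCommutative hJ (mem_sup_right ha) (mem_sup_left hy)

omit hp in
/-- BG 12.10 (d). -/
theorem centralizer_tau2 (hE : Cfsg.IsComplIn E (Cfsg.sigmaCore M) M) {x : G} (hx : x ∈ M)
    (hx1 : x ≠ 1) (hxo : ∀ r : ℕ, r.Prime → r ∣ orderOf x → r ∈ Cfsg.tau2 M)
    (hh : x ∈ Cfsg.sigmaHat M) :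
    centralizer ({x} : Set G) ≤ M ∧
      ∀ L : Subgroup G, IsCoatom L → centralizer ({x} : Set G) ≤ L → L = M := by
  obtain ⟨g, hg, hxg, hE'⟩ := exists_compl_ge hG hM hE (zpowers_le.2 hx) fun r hr hd =>
    (hxo r hr (Nat.card_zpowers x ▸ hd)).2.1
  have hxE : x ∈ MulAut.conj g • E := hxg (mem_zpowers x)
  have hn1 : orderOf x ≠ 1 := fun h => hx1 (orderOf_eq_one_iff.1 h)
  set p := (orderOf x).minFac with hp
  haveI := Fact.mk (Nat.minFac_prime hn1)
  have ht : p ∈ Cfsg.tau2 M := hxo p Fact.out (Nat.minFac_dvd _)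
  obtain ⟨A, hAE, hA, hA2⟩ := exists_elementary_sq_compl hG hM hE' ht
  obtain ⟨⟨-, hAall⟩, -, hCX⟩ := S1418.result hG M hM _ hE' p ht A ⟨hAE, hA, hA2⟩
  set z := x ^ (orderOf x / p) with hz
  have hzo : orderOf z = p := orderOf_pow_orderOf_div (orderOf_pos x).ne' (Nat.minFac_dvd _)
  have hzA : zpowers z ≤ A := hAall _ (zpowers_le.2 (pow_mem hxE _))
    (by rw [Nat.card_zpowers, hzo])
  obtain ⟨-, y, hy, hy1, hxy⟩ := hh
  have hC : centralizer ((zpowers z : Subgroup G) : Set G) = centralizer ({z} : Set G) := by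
    rw [zpowers_eq_closure, centralizer_closure]
  obtain ⟨hXM, -⟩ := hCX (zpowers z) hzA (by rw [Nat.card_zpowers, hzo]) fun hbot => hy1 (by
    refine mem_bot.1 (hbot ▸ ⟨hy, ?_⟩)
    show y ∈ centralizer ((zpowers z : Subgroup G) : Set G)
    rw [hC, mem_centralizer_singleton_iff]
    exact (Commute.pow_left (show Commute x y from hxy) _).eq.symm)
  rw [hC] at hXM
  refine ⟨fun c hc => hXM ?_, fun L hL hxL => by_contra fun hne => hy1 ?_⟩
  · rw [mem_centralizer_singleton_iff] at hc ⊢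
    exact (Commute.pow_right (show Commute c x from hc) _).eq
  · have hxA := commute_of_tau2 hG hM hE' ht hAE hA hA2 hxE hxo
    have hAL : A ≤ L := fun a ha => hxL (mem_centralizer_singleton_iff.2
      (mem_centralizer_iff.1 (hxA (mem_zpowers x)) a ha))
    have h1 := (S1417.result hG M hM p ht A ⟨hAE.trans hE'.1, hA, hA2⟩).2.2.2.2.1 L hL hne hAL
    exact mem_bot.1 (h1 ▸ ⟨hy, hxL (mem_centralizer_singleton_iff.2 hxy.symm)⟩)

end Cfsg.Agent.BGTau62
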