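import Cfsg.Agent.Lib.BGExceptionalPrep
import Cfsg.Agent.Lib.HallSolvable
import Cfsg.Agent.S1451

/-!
Complements of `M_σ` in a maximal subgroup `M`: existence over a given Sylow subgroup for a prime
outside `σ(M)`, rank, nilpotency of the derived subgroup; `M' ≤ M_σ E'`.
-/

set_option autoImplicit false
set_option linter.style.haveILetI false

namespace Cfsg.Agent.BGExc

open Subgroup
open Cfsg.Agent.BGUnique
open Cfsg.Agent.BGSigma
open scoped commutatorElement Pointwise

universe u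

variable {G : Type u} [Group G] [Finite G]

/-- `H ≤ K` as soon as `K` contains a Sylow subgroup of `H` for every prime. -/
theorem le_of_sylows {H K : Subgroup G}
    (h : ∀ ℓ : ℕ, ℓ.Prime → ℓ ∣ Nat.card H → ∃ S : Subgroup G, IsMaxP ℓ S H ∧ S ≤ K) : H ≤ K := by
  have htop : K.subgroupOf H = ⊤ := by
    refine eq_top_of_le_card _ (Nat.le_of_dvd Nat.card_pos ?_)
    refine (Nat.dvd_iff_prime_pow_dvd_dvd _ _).2 fun ℓ k hℓ hk => ?_
    rcases Nat.eq_zero_or_pos k with rfl | hk0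
    · simp
    haveI := Fact.mk hℓ
    obtain ⟨S, hS, hSK⟩ := h ℓ hℓ ((dvd_pow_self ℓ hk0.ne').trans hk)
    obtain ⟨T, rfl⟩ := hS.exists_sylow
    have hTK : (T : Subgroup H) ≤ K.subgroupOf H := fun x hx => hSK ⟨x, hx, rfl⟩
    exact (T.pow_dvd_card_of_pow_dvd_card hk).trans (card_dvd_of_le hTK)
  exact subgroupOf_eq_top.1 htop

/-- The normal Sylow subgroup of a nilpotent subgroup. -/
theorem exists_sylow_of_nilpotent {H : Subgroup G} (hH : Group.IsNilpotent H) (q : ℕ)
    [Fact q.Prime] : ∃ T : Subgroup G, IsMaxP q T H ∧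
      normalizer (H : Set G) ≤ normalizer (T : Set G) ∧
      (∀ X : Subgroup G, IsPGroup q X → X ≤ H → X ≤ T) ∧
      ∀ ℓ : ℕ, ℓ.Prime → ℓ ≠ q → ∀ X : Subgroup G, IsPGroup ℓ X → X ≤ H →
        X ≤ centralizer (T : Set G) := by
  haveI := hH
  set S : Sylow q H := default
  have hn : (S : Subgroup H).Normal :=
    Sylow.normal_of_normalizerCondition Group.normalizerCondition_of_isNilpotent S
  haveI : (S : Subgroup H).Characteristic := S.characteristic_of_normal hn
  have hT := isMaxP_sylow H S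
  have hN := ComponentsCores.normalizer_le_normalizer_map_subtype H (S : Subgroup H)
  refine ⟨_, hT, hN, fun X hX hXH => ?_, fun ℓ hℓ hne X hX hXH x hx => ?_⟩
  · rw [← hT.eq_of_le _ le_sup_right (sup_le hXH hT.le) (IsPGroup.to_sup_of_normal_right' hX
      hT.isPGroup ((hXH.trans le_normalizer).trans hN))]
    exact le_sup_left
  · rw [mem_centralizer_iff]
    rintro _ ⟨y, hy, rfl⟩
    have hco : (orderOf y).Coprime (orderOf (⟨x, hXH hx⟩ : H)) := by
      obtain ⟨i, hi⟩ := S.isPGroup' ⟨y, hy⟩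
      obtain ⟨j, hj⟩ := hX ⟨x, hx⟩
      refine Nat.Coprime.coprime_dvd_left (orderOf_dvd_of_pow_eq_one (congrArg Subtype.val hi)) ?_
      refine Nat.Coprime.coprime_dvd_right (orderOf_dvd_of_pow_eq_one (n := ℓ ^ j)
        (Subtype.ext (by simpa using congrArg (fun w : X => (w : G)) hj))) ?_
      exact ((Nat.coprime_primes Fact.out hℓ).2 (Ne.symm hne)).pow i j
    exact congrArg Subtype.val (FittingHallBasic.commute_of_coprime_orderOf hco)

variable (hG : Cfsg.IsMinSimpleOddOrder G) {M : Subgroup G} (hM : IsCoatom M)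
include hG hM

section compl

variable {E : Subgroup G} (hE : Cfsg.IsComplIn E (Cfsg.sigmaCore M) M)
include hE

theorem not_sigma_of_compl {q : ℕ} (hq : q.Prime) (hd : q ∣ Nat.card E) : q ∉ Cfsg.sigma M := by
  intro h
  refine (hall_sigma hG hM).1.2.2 q hq h ?_
  rwa [(BGTypeBasic.relIndex_of_isComplIn hE).2]

theorem coprime_compl : (Nat.card E).Coprime (Nat.card (Cfsg.sigmaCore M)) :=
  Nat.coprime_of_dvd fun _ hq h1 h2 =>
    not_sigma_of_compl hG hM hE hq h1 (sigma_of_dvd hG hM hq h2)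

theorem sylow_compl {q : ℕ} [Fact q.Prime] (hq : q ∉ Cfsg.sigma M) {Q : Subgroup G}
    (hQ : IsMaxP q Q E) : IsMaxP q Q M := by
  refine ⟨hQ.le.trans hE.1, hQ.isPGroup, fun R hQR hRM hR => ?_⟩
  obtain ⟨S, hS⟩ := hQ.exists_sylow
  refine (eq_of_le_of_card_ge hQR (Nat.le_of_dvd Nat.card_pos ?_)).symm
  have hd := card_dvd_of_le hRM
  rw [← BGTypeBasic.card_mul_of_isComplIn hE] at hd
  obtain ⟨n, hn⟩ := IsPGroup.iff_card.1 hR
  rw [hn] at hd ⊢
  have h2 := ((Fact.out : q.Prime).coprime_iff_not_dvd.2 fun h =>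
    hq (sigma_of_dvd hG hM Fact.out h)).pow_left n
  rw [← hS, card_map_of_injective E.subtype_injective]
  exact S.pow_dvd_card_of_pow_dvd_card (h2.dvd_of_dvd_mul_right hd)

theorem rankLE_compl : Cfsg.RankLE 2 E := by
  intro q hq
  haveI := Fact.mk hq
  by_cases hd : q ∣ Nat.card E
  · exact BGRankTwo.pRankLE_mono hE.1 (outside_alpha hG hM hq (not_sigma_of_compl hG hM hE hq hd))
  · exact pRankLE_of_not_dvd hd

theorem derived_nilpotent : Group.IsNilpotent ↥⁅E, E⁆ := by
  haveI : Group.IsSolvable E := isSolvable_of_ne_top hG fun h => hM.1 (top_le_iff.1 (h ▸ hE.1))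
  haveI : Group.IsNilpotent ↥(commutator E) := (Cfsg.Agent.S1451.result (odd_card_subgroup hG E)
    (Or.inl (rankLE_compl hG hM hE))).1
  rw [← Subgroup.map_subtype_commutator]
  exact Group.nilpotent_of_mulEquiv (equivMapOfInjective _ E.subtype E.subtype_injective)

/-- Characteristic subgroups of a Sylow subgroup of `E` inside its derived subgroup are normal in `E`. -/
theorem le_normalizer_of_char {q : ℕ} [Fact q.Prime] {Q T : Subgroup G} (hQ : IsMaxP q Q E)
    (hT : T ≤ ⁅Q, Q⁆) (hchar : ∀ e : MulAut Q, ∀ t : Q, (t : G) ∈ T → ((e t : Q) : G) ∈ T) :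
    E ≤ normalizer (T : Set G) := by
  haveI : Group.IsSolvable E := isSolvable_of_ne_top hG fun h => hM.1 (top_le_iff.1 (h ▸ hE.1))
  obtain ⟨S, hS⟩ := hQ.exists_sylow
  subst hS
  set S' := (S : Subgroup E)
  have hTS : T ≤ S'.map E.subtype := hT.trans (commutator_le_self _)
  let η : S' ≃* S'.map E.subtype := equivMapOfInjective _ E.subtype E.subtype_injective
  set T' : Subgroup S' := T.comap (E.subtype.comp S'.subtype) with hT'
  haveI : T'.Characteristic := by
    rw [characteristic_iff_le_comap]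
    intro e t ht
    have h1 := hchar ((η.symm.trans e).trans η) (η t) ht
    simpa [T', η] using h1
  have hle : T'.map S'.subtype ≤ ⁅S', S'⁆ := by
    rintro _ ⟨t, ht, rfl⟩
    have h1 : ((t : E) : G) ∈ (⁅S', S'⁆ : Subgroup E).map E.subtype := by
      rw [map_commutator]; exact hT ht
    obtain ⟨u, hu, hut⟩ := h1
    rwa [E.subtype_injective hut] at hu
  have hn := (Cfsg.Agent.S1451.result (odd_card_subgroup hG E)
    (Or.inl (rankLE_compl hG hM hE))).2.1 q S T' inferInstance hle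
  have hTeq : (T'.map S'.subtype).map E.subtype = T := by
    ext x
    constructor
    · rintro ⟨_, ⟨t, ht, rfl⟩, rfl⟩; exact ht
    · intro hx
      obtain ⟨s, hs, rfl⟩ := hTS hx
      exact ⟨s, ⟨⟨s, hs⟩, hx, rfl⟩, rfl⟩
  rw [← hTeq]
  intro x hx
  rw [← normalizer_eq_top_iff] at hn
  exact le_normalizer_map E.subtype ⟨⟨x, hx⟩, hn.ge (mem_top _), rfl⟩

theorem commutator_le : ⁅M, M⁆ ≤ Cfsg.sigmaCore M ⊔ ⁅E, E⁆ := by
  haveI : ((Cfsg.sigmaCore M).subgroupOf M).Normal :=
    normal_subgroupOf_of_le_normalizer (le_normalizer_sigmaCore M)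
  set N := (Cfsg.sigmaCore M).subgroupOf M with hN
  set π := QuotientGroup.mk' N
  have hEtop : (E.subgroupOf M).map π = ⊤ := by
    refine eq_top_iff.2 fun x _ => ?_
    induction x using QuotientGroup.induction_on with | _ x => ?_
    obtain ⟨a, ha, b, hb, hab⟩ := hE.2.2.2 x x.2
    refine ⟨⟨a, hE.1 ha⟩, ha, QuotientGroup.eq.2 ?_⟩
    show ((⟨a, hE.1 ha⟩ : M)⁻¹ * x : M).1 ∈ Cfsg.sigmaCore M
    simpa [hab] using hb
  intro x hx
  rw [← Subgroup.map_subtype_commutator] at hx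
  obtain ⟨y, hy, rfl⟩ := hx
  have h1 : π y ∈ (⁅E.subgroupOf M, E.subgroupOf M⁆ : Subgroup M).map π := by
    rw [map_commutator, hEtop]
    have : π y ∈ (commutator M).map π := mem_map_of_mem π hy
    rwa [commutator_def, map_commutator, map_top_of_surjective π (QuotientGroup.mk'_surjective N)]
      at this
  obtain ⟨z, hz, hzy⟩ := h1
  have hz' : (z : G) ∈ ⁅E, E⁆ := by
    have := mem_map_of_mem M.subtype hz
    rwa [map_commutator, map_subgroupOf_eq_of_le hE.1] at this
  have h2 : z⁻¹ * y ∈ N := QuotientGroup.eq.1 hzy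
  have : (y : G) = z * ((z : G)⁻¹ * y) := by group
  rw [show M.subtype y = (y : G) from rfl, this]
  exact mul_mem (mem_sup_right hz') (mem_sup_left h2)

theorem dvd_derived {q : ℕ} (hq : q.Prime) (hqσ : q ∉ Cfsg.sigma M)
    (hd : q ∣ Nat.card ↥⁅M, M⁆) : q ∣ Nat.card ↥⁅E, E⁆ := by
  have hEn : ⁅E, E⁆ ≤ normalizer (Cfsg.sigmaCore M : Set G) :=
    ((commutator_le_self E).trans hE.1).trans (le_normalizer_sigmaCore M)
  set W := Cfsg.sigmaCore M ⊔ ⁅E, E⁆
  haveI : ((Cfsg.sigmaCore M).subgroupOf W).Normal :=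
    normal_subgroupOf_of_le_normalizer (sup_le le_normalizer hEn)
  have h1 : Nat.card W ∣ Nat.card ↥⁅E, E⁆ * Nat.card (Cfsg.sigmaCore M) := by
    have := HallCore.card_sup_dvd (⁅E, E⁆.subgroupOf W) ((Cfsg.sigmaCore M).subgroupOf W)
    rw [← subgroupOf_sup le_sup_right le_sup_left, subgroupOf_eq_top.2 (sup_comm _ _).le, card_top]
      at this
    rwa [Nat.card_congr (subgroupOfEquivOfLe (le_sup_right : ⁅E, E⁆ ≤ W)).toEquiv,
      Nat.card_congr (subgroupOfEquivOfLe (le_sup_left : Cfsg.sigmaCore M ≤ W)).toEquiv] at this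
  rcases hq.dvd_mul.1 ((hd.trans (card_dvd_of_le (commutator_le hG hM hE))).trans h1) with h | h
  · exact h
  · exact absurd (sigma_of_dvd hG hM hq h) hqσ

end compl

/-- A complement of `M_σ` over a given Sylow subgroup for a prime outside `σ(M)`. -/
theorem exists_compl {p : ℕ} [Fact p.Prime] {P : Subgroup G} (hP : IsMaxP p P M)
    (hp' : p ∉ Cfsg.sigma M) :
    ∃ E : Subgroup G, Cfsg.IsComplIn E (Cfsg.sigmaCore M) M ∧ P ≤ E := by
  haveI : ((Cfsg.sigmaCore M).subgroupOf M).Normal :=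
    normal_subgroupOf_of_le_normalizer (le_normalizer_sigmaCore M)
  have hco : (Nat.card (Cfsg.sigmaCore M)).Coprime ((Cfsg.sigmaCore M).relIndex M) :=
    Nat.coprime_of_dvd fun q hq h1 h2 =>
      (hall_sigma hG hM).1.2.2 q hq (sigma_of_dvd hG hM hq h1) h2
  obtain ⟨B, hB⟩ := exists_right_complement'_of_coprime (N := (Cfsg.sigmaCore M).subgroupOf M) (by
    rwa [Nat.card_congr (subgroupOfEquivOfLe (sigmaCore_le M)).toEquiv])
  set E := B.map M.subtype
  have hcE : Nat.card E = (Cfsg.sigmaCore M).relIndex M := by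
    rw [card_map_of_injective M.subtype_injective]
    exact hB.symm.index_eq_card.symm
  have hmul : Nat.card E * Nat.card (Cfsg.sigmaCore M) = Nat.card M := by
    rw [hcE, mul_comm, HallCore.card_mul_relIndex (sigmaCore_le M)]
  have hE : Cfsg.IsComplIn E (Cfsg.sigmaCore M) M :=
    BGTypeBasic.isComplIn_of_card (map_subtype_le _) (sigmaCore_le M) (hcE ▸ hco.symm) hmul
  obtain ⟨Q, hQ⟩ : ∃ Q, IsMaxP p Q E := ⟨_, isMaxP_sylow E default⟩
  have hQM := sylow_compl hG hM hE hp' hQ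
  obtain ⟨m, hm, hmQ⟩ := exists_conj_maxP hQM hP.le hP.isPGroup
  have heq : MulAut.conj m • P = Q :=
    eq_of_le_of_card_ge hmQ (by rw [CoprimeSZ.card_conj_smul, isMaxP_card hP hQM])
  refine ⟨MulAut.conj m⁻¹ • E, ?_, ?_⟩
  · have h := BGTypeBasic.isComplIn_conj hE m⁻¹
    rwa [BGTypeBasic.conj_smul_le_self (inv_mem hm),
      CoprimeSZ.conj_smul_eq_self (le_normalizer_sigmaCore M (inv_mem hm))] at h
  · rw [map_inv, subset_pointwise_smul_iff, inv_inv, heq]
    exact hQ.le

end Cfsg.Agent.BGExc
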