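import Cfsg.Agent.Lib.BGSupportFixed35
import Cfsg.Agent.S1352

/-!
# BG 14.4: the centralizer of an element of `M_σ` and the group `R(x)`
-/

set_option autoImplicit false

namespace Cfsg.Agent.BGSupport35

open Subgroup Cfsg.Agent.BGUnique Cfsg.Agent.BGTypeBasic
open scoped Pointwise

universe u

variable {G : Type u} [Group G] [Finite G]

/-- `τ₂(M)` and `κ(M)` are disjoint. -/
theorem not_kappa_of_tau2 {M : Subgroup G} {p : ℕ} (h : p ∈ Cfsg.tau2 M) : p ∉ Cfsg.kappa M := by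
  intro hk
  haveI := Fact.mk h.1
  obtain ⟨A, hAM, hA, hAc⟩ := exists_sq_of_tau2 h
  obtain ⟨S, hS, hAS⟩ := exists_isMaxP_ge (IsPGroup.of_card hAc) hAM
  obtain ⟨P, hP⟩ := hS.exists_sylow
  haveI := (hk.2.2.2 P).1
  haveI : IsCyclic S := hP ▸
    ((P : Subgroup M).equivMapOfInjective _ M.subtype_injective).isCyclic.1 inferInstance
  exact not_isCyclic_sq hA hAc
    ((subgroupOfEquivOfLe hAS).isCyclic.1 (inferInstance : IsCyclic (A.subgroupOf S)))

variable (hG : Cfsg.IsMinSimpleOddOrder G)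
include hG

/-- Data attached to an element of `M_σ` whose centralizer leaves `M`. -/
theorem centralizer_data {M : Subgroup G} (hM : IsCoatom M) {x : G} (hx : x ∈ Cfsg.sigmaCore M)
    (hx1 : x ≠ 1) (hxM : ¬ centralizer ({x} : Set G) ≤ M) :
    ∃ N : Subgroup G, IsCoatom N ∧ centralizer ({x} : Set G) ≤ N ∧
      (∀ L : Subgroup G, IsCoatom L → centralizer ({x} : Set G) ≤ L → L = N) ∧
      N ≠ M ∧ (∀ g : G, N ≠ MulAut.conj g • M) ∧
      Cfsg.sigmaCore N = Cfsg.fittingHallOf N ∧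
      Cfsg.IsComplIn (M ⊓ N) (Cfsg.sigmaCore N) N ∧
      Cfsg.IsComplIn (M ⊓ centralizer ({x} : Set G))
        (Cfsg.sigmaCore N ⊓ centralizer ({x} : Set G)) (centralizer ({x} : Set G)) ∧
      (∀ q : ℕ, q.Prime → q ∣ orderOf x → q ∈ Cfsg.tau2 N) ∧
      Cfsg.sigmaCore N ⊓ centralizer ({x} : Set G) ≠ ⊥ := by
  obtain ⟨q, hq, hqd⟩ := Nat.exists_prime_and_dvd
    (fun h => hx1 (orderOf_eq_one_iff.1 h) : orderOf x ≠ 1)
  haveI := Fact.mk hq
  obtain ⟨n, hn⟩ := exists_pow_prime hqd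
  have hxMem : x ∈ M := BGTypeSetup.sigmaCore_le M hx
  have hσx : ∀ r : ℕ, r.Prime → r ∣ orderOf x → r ∈ Cfsg.sigma M := fun r hr hd =>
    BGTypeSetup.mem_sigma_of_dvd hG hM hr (hd.trans ((Cfsg.sigmaCore M).orderOf_dvd_natCard hx))
  set X := zpowers (x ^ n) with hX
  have hX1 : X ≠ ⊥ := zpowers_ne_bot_of_orderOf hn
  have hXM : X ≤ M := zpowers_le.2 (M.pow_mem hxMem n)
  obtain ⟨N, hN, hNX⟩ := exists_coatom_ge
    (BGSigma.normalizer_ne_top' hG hX1 fun h => hM.1 (top_le_iff.1 (h ▸ hXM)))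
  have hCN : centralizer ({x} : Set G) ≤ N := (centralizer_le_normalizer_pow x n).trans hNX
  have hne : N ≠ M := fun h => hxM (h ▸ hCN)
  obtain ⟨hnc, hqN, hτ, ⟨A, hAMN, hA, hAc⟩, hcompl⟩ :=
    embed hG hM hN (hσx q hq hqd) (isPGroup_zpowers_of_orderOf hn) hX1 hXM hne hNX
  have hσ' : ∀ r : ℕ, r.Prime → r ∣ orderOf x → r ∉ Cfsg.sigma N := by
    intro r hr hd hrN
    obtain ⟨g, hg⟩ := BGSigmaPartition.conj_of_sigma_inter hG hM hN (hσx r hr hd) hrN
    exact hnc g (by rwa [BGTypeBasic.conj_smul_eq_map])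
  have hxN : x ∈ N := hCN (mem_centralizer_iff.2 fun y hy => by rw [hy])
  have hxMN : x ∈ M ⊓ N := ⟨hxMem, hxN⟩
  have hnS : N ≤ normalizer ((Cfsg.sigmaCore N : Subgroup G) : Set G) :=
    BGTypeSetup.le_normalizer_sigmaCore N
  have hCcompl : Cfsg.IsComplIn (M ⊓ centralizer ({x} : Set G))
      (Cfsg.sigmaCore N ⊓ centralizer ({x} : Set G)) (centralizer ({x} : Set G)) := by
    refine ⟨inf_le_right, inf_le_right, ?_, fun c hc => ?_⟩
    · rw [eq_bot_iff, ← hcompl.2.2.1]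
      exact le_inf (le_inf (inf_le_left.trans inf_le_left)
        (inf_le_left.trans (inf_le_right.trans hCN))) (inf_le_right.trans inf_le_left)
    obtain ⟨e, he, s, hs, rfl⟩ := hcompl.2.2.2 c (hCN hc)
    have hcx : x * (e * s) = e * s * x := mem_centralizer_iff.1 hc x rfl
    have h1 : e⁻¹ * (x * e * x⁻¹) = s * (x * s⁻¹ * x⁻¹) := by
      calc e⁻¹ * (x * e * x⁻¹) = e⁻¹ * (x * (e * s)) * s⁻¹ * x⁻¹ := by group
        _ = s * (x * s⁻¹ * x⁻¹) := by rw [hcx]; group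
    have h2 : e⁻¹ * (x * e * x⁻¹) ∈ M ⊓ N :=
      mul_mem (inv_mem he) (mul_mem (mul_mem hxMN he) (inv_mem hxMN))
    have h3 : s * (x * s⁻¹ * x⁻¹) ∈ Cfsg.sigmaCore N :=
      mul_mem hs ((mem_normalizer_iff.1 (hnS hxN) _).1 (inv_mem hs))
    have h4 : e⁻¹ * (x * e * x⁻¹) = 1 := by
      have : e⁻¹ * (x * e * x⁻¹) ∈ M ⊓ N ⊓ Cfsg.sigmaCore N := ⟨h2, h1 ▸ h3⟩
      rwa [hcompl.2.2.1, mem_bot] at this
    have hex : x * e = e * x := by
      calc x * e = e * (e⁻¹ * (x * e * x⁻¹)) * x := by group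
        _ = e * x := by rw [h4, mul_one]
    have hec : e ∈ centralizer ({x} : Set G) := mem_centralizer_iff.2 (by rintro y rfl; exact hex)
    exact ⟨e, ⟨he.1, hec⟩, s, ⟨hs, by simpa using mul_mem (inv_mem hec) hc⟩, rfl⟩
  have hR : Cfsg.sigmaCore N ⊓ centralizer ({x} : Set G) ≠ ⊥ := by
    intro h
    refine hxM fun c hc => ?_
    obtain ⟨a, ha, b, hb, rfl⟩ := hCcompl.2.2.2 c hc
    rw [h, mem_bot] at hb
    rw [hb, mul_one]
    exact ha.1
  haveI := (nontrivial_iff_ne_bot _).2 hR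
  obtain ⟨⟨y, hy⟩, hy1⟩ := exists_ne (1 : ↥(Cfsg.sigmaCore N ⊓ centralizer ({x} : Set G)))
  have hy1' : y ≠ 1 := fun h => hy1 (Subtype.ext h)
  have hcomm : Commute y x := (mem_centralizer_iff.1 hy.2 x rfl).symm
  rcases fixed_cases hG hN hy.1 hy1' hxN hcomm hx1 hσ' with ⟨hk, -⟩ | ⟨hτall, -, -, huniq⟩
  · exact absurd (hk q hq hqd) (not_kappa_of_tau2 hτ)
  have hnil : Group.IsNilpotent (Cfsg.sigmaCore N) :=
    (Cfsg.Agent.S1417.result hG N hN q hτ A ⟨hAMN.trans inf_le_right, hA, hAc⟩).1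
  refine ⟨N, hN, hCN, huniq, hne, hnc, ?_, hcompl, hCcompl, hτall, hR⟩
  refine le_antisymm (Subgroup.map_mono (le_sSup ⟨Cfsg.piCore_normal _ _, ?_, ?_⟩))
    (BGFinal72.fittingHallOf_le_sigmaCore hG hN)
  · haveI : Group.IsNilpotent ↥((Cfsg.piCore (Cfsg.sigma N) N).map N.subtype) := hnil
    exact Group.nilpotent_of_mulEquiv
      ((Cfsg.piCore (Cfsg.sigma N) N).equivMapOfInjective _ N.subtype_injective).symm
  · have h := BGTypeSetup.sigmaCore_coprime hG hN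
    rw [Cfsg.sigmaCore, card_map_of_injective N.subtype_injective, relIndex,
      BGSigma.subgroupOf_map_subtype_self] at h
    exact h

/-- `R(x)` is `C_{N_σ}(x)`. -/
theorem supportR_eq {M N : Subgroup G} (hM : IsCoatom M) {x : G} (hx : x ∈ Cfsg.sigmaCore M)
    (hx1 : x ≠ 1) (hxM : ¬ centralizer ({x} : Set G) ≤ M) (hN : IsCoatom N)
    (hCN : centralizer ({x} : Set G) ≤ N) :
    Cfsg.supportR M x = Cfsg.sigmaCore N ⊓ centralizer ({x} : Set G) := by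
  obtain ⟨N', hN', hCN', huniq, -, -, hF, -⟩ := centralizer_data hG hM hx hx1 hxM
  have hNN : N = N' := huniq N hN hCN
  have hex : ∃! L : Subgroup G, IsCoatom L ∧ centralizer ({x} : Set G) ≤ L :=
    ⟨N', ⟨hN', hCN'⟩, fun L hL => huniq L hL.1 hL.2⟩
  have hch : Classical.choose hex.exists = N' :=
    huniq _ (Classical.choose_spec hex.exists).1 (Classical.choose_spec hex.exists).2
  rw [Cfsg.supportR, dif_pos ⟨hxM, hex⟩]
  simp only [hch, hNN, hF]

omit hG in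
theorem supportR_of_le {M : Subgroup G} {x : G} (hxM : centralizer ({x} : Set G) ≤ M) :
    Cfsg.supportR M x = ⊥ := by
  rw [Cfsg.supportR, dif_neg fun h => h.1 hxM]

omit hG in
theorem supportR_le_centralizer (M : Subgroup G) (x : G) :
    Cfsg.supportR M x ≤ centralizer ({x} : Set G) := by
  rw [Cfsg.supportR]
  split_ifs
  · exact inf_le_right
  · exact bot_le

theorem inf_supportR {M : Subgroup G} (hM : IsCoatom M) {x : G} (hx : x ∈ Cfsg.sigmaCore M)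
    (hx1 : x ≠ 1) : M ⊓ Cfsg.supportR M x = ⊥ := by
  by_cases hxM : centralizer ({x} : Set G) ≤ M
  · rw [supportR_of_le hxM, inf_bot_eq]
  obtain ⟨N, hN, hCN, -, -, -, -, hc, -⟩ := centralizer_data hG hM hx hx1 hxM
  rw [supportR_eq hG hM hx hx1 hxM hN hCN, eq_bot_iff, ← hc.2.2.1]
  exact le_inf (le_inf inf_le_left ((inf_le_right.trans inf_le_right).trans hCN))
    (inf_le_right.trans inf_le_left)

/-- `R(x)` is transitive on the conjugates of `M` containing `x`. -/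
theorem exists_supportR_conj {M : Subgroup G} (hM : IsCoatom M) {x : G}
    (hx : x ∈ Cfsg.sigmaCore M) (hx1 : x ≠ 1) {g : G} (hg : x ∈ MulAut.conj g • M) :
    ∃ r ∈ Cfsg.supportR M x, MulAut.conj r • M = MulAut.conj g • M := by
  obtain ⟨q, hq, hqd⟩ := Nat.exists_prime_and_dvd
    (fun h => hx1 (orderOf_eq_one_iff.1 h) : orderOf x ≠ 1)
  haveI := Fact.mk hq
  obtain ⟨n, hn⟩ := exists_pow_prime hqd
  have hxMem : x ∈ M := BGTypeSetup.sigmaCore_le M hx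
  have hqσ : q ∈ Cfsg.sigma M :=
    BGTypeSetup.mem_sigma_of_dvd hG hM hq (hqd.trans ((Cfsg.sigmaCore M).orderOf_dvd_natCard hx))
  set X := zpowers (x ^ n) with hX
  have hX1 : X ≠ ⊥ := zpowers_ne_bot_of_orderOf hn
  have hXM : X ≤ M := zpowers_le.2 (M.pow_mem hxMem n)
  obtain ⟨c, hc, hcM⟩ := BGSigma.conj_transitive hG hM hqσ _ X rfl
    (isPGroup_zpowers_of_orderOf hn) hX1 1 g (by rw [map_one, one_smul]; exact hXM)
    (zpowers_le.2 (pow_mem hg n))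
  rw [map_one, one_smul] at hcM
  by_cases hcM' : c ∈ M
  · exact ⟨1, one_mem _, by rw [← hcM, conj_smul_le_self hcM', map_one, one_smul]⟩
  obtain ⟨N, hN, hNX⟩ := exists_coatom_ge
    (BGSigma.normalizer_ne_top' hG hX1 fun h => hM.1 (top_le_iff.1 (h ▸ hXM)))
  have hcN : c ∈ N := hNX (centralizer_le_normalizer _ hc)
  have hne : N ≠ M := fun h => hcM' (h ▸ hcN)
  obtain ⟨-, -, -, -, hcompl⟩ :=
    embed hG hM hN hqσ (isPGroup_zpowers_of_orderOf hn) hX1 hXM hne hNX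
  have hxN : x ∈ N :=
    hNX (centralizer_le_normalizer_pow x n (mem_centralizer_iff.2 fun y hy => by rw [hy]))
  obtain ⟨s, hs, e, he, rfl⟩ := (isComplIn_swap hcompl).2.2.2 c hcN
  have hsM : MulAut.conj s • M = MulAut.conj g • M := by
    rw [← hcM, map_mul, mul_smul, conj_smul_le_self he.1]
  have hsx : s ∈ centralizer ({x} : Set G) := by
    have hx' : s⁻¹ * x * s ∈ M := mem_conj_smul.1 (hsM ▸ hg)
    have hsN : s ∈ N := BGTypeSetup.sigmaCore_le N hs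
    have h1 : s⁻¹ * x * s * x⁻¹ ∈ M ⊓ N :=
      mul_mem (mem_inf.2 ⟨hx', mul_mem (mul_mem (inv_mem hsN) hxN) hsN⟩)
        (inv_mem (mem_inf.2 ⟨hxMem, hxN⟩))
    have h2 : s⁻¹ * x * s * x⁻¹ ∈ Cfsg.sigmaCore N := by
      rw [show s⁻¹ * x * s * x⁻¹ = s⁻¹ * (x * s * x⁻¹) by group]
      exact mul_mem (inv_mem hs) (BGTypeSetup.conj_mem_sigmaCore hxN hs)
    have h3 : s⁻¹ * x * s * x⁻¹ = 1 := by
      have : s⁻¹ * x * s * x⁻¹ ∈ M ⊓ N ⊓ Cfsg.sigmaCore N := ⟨h1, h2⟩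
      rwa [hcompl.2.2.1, mem_bot] at this
    refine mem_centralizer_iff.2 ?_
    rintro y rfl
    calc y * s = s * (s⁻¹ * y * s * y⁻¹) * y := by group
      _ = s * y := by rw [h3, mul_one]
  by_cases hxM : centralizer ({x} : Set G) ≤ M
  · exact ⟨1, one_mem _, by rw [← hsM, conj_smul_le_self (hxM hsx), map_one, one_smul]⟩
  refine ⟨s, ?_, hsM⟩
  rw [supportR_eq hG hM hx hx1 hxM hN ((centralizer_le_normalizer_pow x n).trans hNX)]
  exact ⟨hs, hsx⟩

theorem supportR_conj_inj {M : Subgroup G} (hM : IsCoatom M) {x : G}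
    (hx : x ∈ Cfsg.sigmaCore M) (hx1 : x ≠ 1) {r r' : G} (hr : r ∈ Cfsg.supportR M x)
    (hr' : r' ∈ Cfsg.supportR M x) (h : MulAut.conj r • M = MulAut.conj r' • M) : r = r' := by
  have h1 : r'⁻¹ * r ∈ M := by
    refine BGSigma.mem_of_conj_eq hG hM ?_
    rw [map_mul, mul_smul, h, inv_smul_smul']
  have h2 : r'⁻¹ * r ∈ M ⊓ Cfsg.supportR M x := mem_inf.2 ⟨h1, mul_mem (inv_mem hr') hr⟩
  rw [inf_supportR hG hM hx hx1, mem_bot] at h2
  exact (inv_mul_eq_one.1 h2).symm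

end Cfsg.Agent.BGSupport35
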