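import Cfsg.Agent.Lib.BGTypePCyclic

/-!
Bender-Glauberman, Theorem 14.7 (c), (e), (g): M ∩ M* = Z, the size of the class support of Ẑ, and
the conjugacy of all maximal subgroups of type P to M or M*.
-/

set_option autoImplicit false
set_option linter.style.haveILetI false

namespace Cfsg.Agent.BGTypeP

open Subgroup Cfsg.Agent.HallCore

universe u

variable {G : Type u} [Group G] [Finite G] {M K L : Subgroup G}

theorem TypeP.normalizer_K (h : TypeP M K) : M ⊓ normalizer (K : Set G) = Zs M K := by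
  obtain ⟨q, hq, hd⟩ := Nat.exists_prime_and_dvd
    (n := Nat.card K) (fun e => h.ne (eq_bot_of_card_eq _ e))
  haveI := Fact.mk hq
  obtain ⟨⟨x, hx⟩, hxq⟩ := exists_prime_orderOf_dvd_card' (G := K) q hd
  rw [Subgroup.orderOf_mk] at hxq
  exact ((S1430.result h.min M h.coatom K h.hall h.ne).2.2 (zpowers x) (zpowers_le.2 hx)
    (by rw [Nat.card_zpowers, hxq]; exact hq)).2.1

theorem Pair.inf_eq (h : Pair M K L) : M ⊓ L = Zs M K := by
  refine le_antisymm ?_ (le_inf h.left.Z_le (h.Z_eq.symm.le.trans h.right.Z_le))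
  set D := M ⊓ L
  set D₁ := D ⊓ Cfsg.sigmaCore M
  set D₂ := D ⊓ Cfsg.sigmaCore L
  have hd1 : D ≤ normalizer (D₁ : Set G) :=
    inf_le_normalizer ((inf_le_left : D ≤ M).trans (BGFinal72.le_normalizer_sigmaCore M))
  have hd2 : D ≤ normalizer (D₂ : Set G) :=
    inf_le_normalizer ((inf_le_right : D ≤ L).trans (BGFinal72.le_normalizer_sigmaCore L))
  have hbot : D₁ ⊓ D₂ = ⊥ := inf_eq_bot_of_piNat (π := Cfsg.sigma M)
    ((piNat_sigmaCore M).of_dvd (card_dvd_of_le inf_le_right))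
    (((piNat_sigmaCore L).of_dvd (card_dvd_of_le inf_le_right)).mono
      fun q hq hqM => h.sigma_disjoint hqM hq)
  have hK2 : K ≤ D₂ := fun k hk =>
    ⟨⟨h.left.K_le hk, Ks_le L _ (h.eq.symm ▸ hk)⟩, (h.eq.symm ▸ hk : k ∈ Ks L (Ks M K)).1⟩
  have hK1 : Ks M K ≤ D₁ := fun y hy => ⟨⟨Ks_le M K hy, h.right.K_le hy⟩, hy.1⟩
  have h2 : D₂ ≤ K := by
    intro x hx
    rw [← h.eq]
    refine ⟨hx.2, mem_centralizer_iff.2 fun y hy => ?_⟩
    exact (commute_of_normalizes (inf_le_left.trans hd2) (inf_le_left.trans hd1) hbot (hK1 hy) hx).eq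
  intro g hg
  rw [← h.left.normalizer_K]
  refine ⟨hg.1, ?_⟩
  have e : D₂ = K := le_antisymm h2 hK2
  exact e ▸ hd2 hg

theorem TypeP.ncard_Zh (h : TypeP M K) :
    (Zh M K).ncard + Nat.card K + Nat.card ↥(Ks M K) =
      Nat.card K * Nat.card ↥(Ks M K) + 1 := by
  have hsub : ((K : Set G) ∪ (Ks M K : Set G)) ⊆ (Zs M K : Set G) :=
    Set.union_subset (fun x hx => mem_sup_left hx) (fun x hx => mem_sup_right hx)
  have h1 := Set.ncard_diff_add_ncard_of_subset hsub (Set.toFinite _)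
  have h2 := Set.ncard_union_add_ncard_inter (K : Set G) (Ks M K : Set G) (Set.toFinite _)
    (Set.toFinite _)
  have h3 : ((K : Set G) ∩ (Ks M K : Set G)).ncard = 1 := by
    rw [← coe_inf, h.K_inf_Ks, coe_bot, Set.ncard_singleton]
  have e1 : (K : Set G).ncard = Nat.card K := (Nat.card_coe_set_eq _).symm
  have e2 : (Ks M K : Set G).ncard = Nat.card ↥(Ks M K) := (Nat.card_coe_set_eq _).symm
  have e3 : (Zs M K : Set G).ncard = Nat.card K * Nat.card ↥(Ks M K) := by
    rw [← card_Z h]; exact (Nat.card_coe_set_eq _).symm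
  rw [e1, e2, h3] at h2
  rw [e3] at h1
  have h4 : (Zh M K).ncard + ((K : Set G) ∪ (Ks M K : Set G)).ncard =
      Nat.card K * Nat.card ↥(Ks M K) := h1
  linarith

theorem TypeP.ncard_support (h : TypeP M K) :
    Nat.card K * Nat.card ↥(Ks M K) * (conjUnion (Zh M K)).ncard =
      (Zh M K).ncard * Nat.card G := by
  rw [ncard_conjUnion (fun z hz g hg => by rwa [(h.Z_comm hg hz.1).eq, mul_assoc, mul_inv_cancel, mul_one]) (fun z hz g hg => h.mem_Z_of_conj hz hg),
    ← card_Z h, ← mul_assoc, card_mul_index, mul_comm]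

theorem TypeP.half_lt (h : TypeP M K) : Nat.card G < 2 * (conjUnion (Zh M K)).ncard := by
  have hcop : (Nat.card ↥(Ks M K)).Coprime (Nat.card K) :=
    PiNat.coprime (piNat_Ks M K) h.piNat_K
  have key : ∀ H : Subgroup G, H ≠ ⊥ → 3 ≤ Nat.card H := by
    intro H hH
    have h1 := BGUnique.odd_card_subgroup h.min H
    have h2 : Nat.card H ≠ 1 := fun e => hH (eq_bot_of_card_eq _ e)
    obtain ⟨t, ht⟩ := h1
    omega
  have hk := key K h.ne
  have hy := key _ h.Ks_ne
  have h33 : ¬ (Nat.card K = 3 ∧ Nat.card ↥(Ks M K) = 3) := by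
    rintro ⟨e1, e2⟩
    rw [e1, e2] at hcop
    exact absurd hcop (by decide)
  have h1 := h.ncard_Zh
  have h2 := h.ncard_support
  have hG : 0 < Nat.card G := Nat.card_pos
  set a := Nat.card K
  set b := Nat.card ↥(Ks M K)
  set t := (conjUnion (Zh M K)).ncard
  set z := (Zh M K).ncard
  have hoa : Odd a := BGUnique.odd_card_subgroup h.min K
  have hob : Odd b := BGUnique.odd_card_subgroup h.min _
  obtain ⟨u, hu⟩ := hoa
  obtain ⟨v, hv⟩ := hob
  have hab : a * b < 2 * z := by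
    rcases Nat.lt_or_ge 3 a with h3 | h3
    · have h5 : 5 ≤ a := by omega
      nlinarith [Nat.mul_le_mul (Nat.sub_le a 0) hy, mul_le_mul' h5 hy]
    · have h5 : 5 ≤ b := by omega
      have h6 : a = 3 := by omega
      rw [h6] at h1 ⊢
      omega
  nlinarith

/-- All maximal subgroups of type P are conjugate to M or M*. -/
theorem Pair.conj_class (h : Pair M K L) {H K' : Subgroup G} (h' : TypeP H K') :
    ∃ g : G, H = cj g M ∨ H = cj g L := by
  obtain ⟨a, ⟨g₁, z, hz, e1⟩, ⟨g₂, z', hz', e2⟩⟩ :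
      (conjUnion (Zh M K) ∩ conjUnion (Zh H K')).Nonempty := by
    rw [Set.nonempty_iff_ne_empty]
    intro e
    have h1 := h.left.half_lt
    have h2 := h'.half_lt
    have h3 := Set.ncard_union_add_ncard_inter (conjUnion (Zh M K)) (conjUnion (Zh H K'))
      (Set.toFinite _) (Set.toFinite _)
    rw [e, Set.ncard_empty] at h3
    have h4 := Set.ncard_le_ncard (Set.subset_univ (conjUnion (Zh M K) ∪ conjUnion (Zh H K')))
      (Set.toFinite _)
    rw [Set.ncard_univ] at h4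
    omega
  obtain ⟨k, hk, y, hy, -, hy1, rfl⟩ := h'.mem_Zh.1 hz'
  obtain ⟨q, hq, hd⟩ := Nat.exists_prime_and_dvd (n := orderOf y) (by simpa using hy1)
  have hqH : q ∈ Cfsg.sigma H := piNat_orderOf (piNat_Ks H K') hy q hq hd
  have hd' : q ∣ orderOf z := by
    rw [← orderOf_conj g₁ z, ← e1, e2, orderOf_conj]
    exact hd.trans (orderOf_dvd_of_mem_zpowers (mem_zpowers_mul_right (commute_K_Ks hk hy)
      (PiNat.coprime (piNat_orderOf (piNat_Ks H K') hy) (piNat_orderOf h'.piNat_K hk)).symm))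
  rcases h.prime_mem hq (hd'.trans ((Zs M K).orderOf_dvd_natCard hz.1)) with hqM | hqL
  · obtain ⟨g, hg⟩ := conj_of_inter h.left.min h.left.coatom h'.coatom hqM hqH
    exact ⟨g, Or.inl hg⟩
  · obtain ⟨g, hg⟩ := conj_of_inter h.left.min h.right.coatom h'.coatom hqL hqH
    exact ⟨g, Or.inr hg⟩

theorem typeP_of_kappa (hG : Cfsg.IsMinSimpleOddOrder G) {H : Subgroup G} (hH : IsCoatom H)
    (hk : (Cfsg.kappa H).Nonempty) : ∃ K' U', TypeP H K' ∧ Cfsg.IsSigmaDecomposition H K' U' := by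
  obtain ⟨K', U', hKU⟩ := exists_decomposition hG hH
  exact ⟨K', U', ⟨hG, hH, hKU.hall, BGFinal72.K_ne_bot_of_kappa hKU hk⟩, hKU⟩

end Cfsg.Agent.BGTypeP
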