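import Cfsg.Agent.Lib.BGSupportFrob35
import Cfsg.Agent.S1434

/-!
# BG 14.8: pairs of a maximal subgroup and a supporting one
-/

set_option autoImplicit false

namespace Cfsg.Agent.BGSupport35

open Subgroup Cfsg.Agent.BGUnique Cfsg.Agent.BGTypeBasic
open scoped Pointwise commutatorElement

universe u

variable {G : Type u} [Group G] [Finite G]

theorem kappa_smul {M : Subgroup G} (g : G) {p : ℕ} (h : p ∈ Cfsg.kappa M) :
    p ∈ Cfsg.kappa (MulAut.conj g • M) := by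
  haveI := Fact.mk h.1
  refine ⟨h.1, by rw [card_smul]; exact h.2.1, by rw [sigma_smul]; exact h.2.2.1, fun P => ?_⟩
  have h1 := BGSigma.isMaxP_conj g⁻¹ (isMaxP_sylow _ P)
  rw [inv_smul_smul'] at h1
  obtain ⟨S, hS⟩ := h1.exists_sylow
  obtain ⟨hcyc, z, hz, hz1, y, hy, hy1, hzy⟩ := h.2.2.2 S
  haveI := hcyc
  constructor
  · have : IsCyclic ↥((S : Subgroup M).map M.subtype) :=
      ((S : Subgroup M).equivMapOfInjective _ M.subtype_injective).isCyclic.1 inferInstance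
    rw [hS] at this
    have h2 := (Subgroup.equivSMul (MulAut.conj g⁻¹) _).isCyclic.2 this
    exact ((P : Subgroup ↥(MulAut.conj g • M)).equivMapOfInjective _
      (MulAut.conj g • M).subtype_injective).isCyclic.2 h2
  · have hz' : (z : G) ∈ (S : Subgroup M).map M.subtype := ⟨z, hz, rfl⟩
    rw [hS, mem_conj_smul, inv_inv] at hz'
    obtain ⟨w, hw, hwz⟩ := hz'
    refine ⟨w, hw, fun e => ?_, g * y * g⁻¹, by rw [sigmaCore_smul]; exact conj_mem_conj_smul hy,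
      fun e => hy1 (conj_eq_one_iff.1 e), ?_⟩
    · rw [e] at hwz
      exact hz1 (Subtype.ext (conj_eq_one_iff.1 hwz.symm))
    · rw [show (w : G) = g * z * g⁻¹ from hwz]
      calc g * z * g⁻¹ * (g * y * g⁻¹) = g * (z * y) * g⁻¹ := by group
        _ = g * (y * z) * g⁻¹ := by rw [hzy]
        _ = _ := by group

omit [Finite G] in
theorem mem_of_normal_coprime_index {X : Type*} [Group X] {W : Subgroup X} [W.Normal] {u : X}
    (h : (orderOf u).Coprime W.index) : u ∈ W := by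
  rw [← QuotientGroup.eq_one_iff, ← orderOf_eq_one_iff]
  refine Nat.eq_one_of_dvd_coprimes h (orderOf_map_dvd (QuotientGroup.mk' _) u) ?_
  rw [index_eq_card]
  exact _root_.orderOf_dvd_natCard _

variable (hG : Cfsg.IsMinSimpleOddOrder G)
include hG

theorem exists_sq_le_compl {M E : Subgroup G} (hM : IsCoatom M)
    (hE : Cfsg.IsComplIn E (Cfsg.sigmaCore M) M) {p : ℕ} [hp : Fact p.Prime]
    (hp' : p ∈ Cfsg.tau2 M) :
    ∃ B : Subgroup G, B ≤ E ∧ Cfsg.IsElementaryAbelian p B ∧ Nat.card B = p ^ 2 := by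
  obtain ⟨B₀, hB₀M, hB₀, hB₀c⟩ := exists_sq_of_tau2 hp'
  obtain ⟨E₁, hBE₁, hE₁⟩ := exists_sigma_compl_ge hG hM hB₀M (fun s hs hd => by
    rw [hB₀c] at hd
    rw [(Nat.prime_dvd_prime_iff_eq hs hp.out).1 (hs.dvd_of_dvd_pow hd)]
    exact hp'.2.1)
  obtain ⟨m, -, hmE⟩ := isComplIn_conjugate (BGTypeSetup.le_normalizer_sigmaCore M)
    ((relIndex_of_isComplIn (isComplIn_swap hE₁)).1 ▸ BGTypeSetup.sigmaCore_coprime hG hM)
    (Or.inr (hG.2.2.2 _ fun h => hM.1 (top_le_iff.1 (h ▸ BGTypeSetup.sigmaCore_le M))))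
    (isComplIn_swap hE₁) (isComplIn_swap hE)
  exact ⟨MulAut.conj m • B₀, hmE ▸ pointwise_smul_le_pointwise_smul_iff.2 hBE₁,
    PGroupsBasic.isElementaryAbelian_map_hom hB₀ _, by rw [card_smul, hB₀c]⟩

/-- Subgroups `X` and `W` inside a normal `q'`-subgroup centralize an invariant Sylow `q`-subgroup of
`M_σ`. -/
theorem exists_fixed_of_le_core {M X W : Subgroup G} (hM : IsCoatom M) (hXM : X ≤ M) {q : ℕ}
    [hq' : Fact q.Prime] (hq : q ∈ Cfsg.sigma M)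
    (hXσ : ∀ r : ℕ, r.Prime → r ∣ Nat.card X → r ∉ Cfsg.sigma M)
    (hXW : X ≤ W) (hnW : M ≤ normalizer (W : Set G)) (hWq : (Nat.card W).Coprime q) :
    Cfsg.sigmaCore M ⊓ centralizer (X : Set G) ≠ ⊥ := by
  set S := Cfsg.sigmaCore M with hS
  have hSsolv : Group.IsSolvable S :=
    hG.2.2.2 _ fun h => hM.1 (top_le_iff.1 (h ▸ BGTypeSetup.sigmaCore_le M))
  obtain ⟨Q, hQn⟩ := CoprimeAction.exists_invariant_sylow (A := X) (K := S)
    (hXM.trans (BGTypeSetup.le_normalizer_sigmaCore M))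
    (BGTypeSetup.coprime_of_primes fun r hr h1 h2 =>
      hXσ r hr h1 (BGTypeSetup.mem_sigma_of_dvd hG hM hr h2)) (Or.inr hSsolv) q
  have hqS : q ∣ Nat.card S := by
    have h := (BGSigma.hall_sigma hG hM).1.2.2 q hq'.out hq
    have h2 := hq.2.1
    rw [← BGFinal72.card_mul_relIndex (BGTypeSetup.sigmaCore_le M)] at h2
    exact (hq'.out.dvd_mul.1 h2).resolve_right h
  set Q' := (Q : Subgroup S).map S.subtype with hQ'
  have hQ1 : Q' ≠ ⊥ := by
    rw [hQ', Ne, map_eq_bot_iff_of_injective _ S.subtype_injective]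
    exact Q.ne_bot_of_dvd_card hqS
  have hQM : Q' ≤ M := (map_subtype_le _).trans (BGTypeSetup.sigmaCore_le M)
  have hdisj : W ⊓ Q' = ⊥ :=
    inf_eq_bot_of_coprime (BGFittingUnique.coprime_card_of_qgroup (Q.isPGroup'.map _)
      fun h => hq'.out.coprime_iff_not_dvd.1 hWq.symm h).symm
  intro h0
  refine hQ1 (le_bot_iff.1 (h0 ▸ le_inf (map_subtype_le _) ?_))
  rw [← commutator_eq_bot_iff_le_centralizer, eq_bot_iff, ← hdisj]
  refine le_inf ?_ (le_normalizer_iff_commutator_le_left.1 hQn)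
  exact (commutator_mono le_rfl hXW).trans (le_normalizer_iff_commutator_le_right.1 (hQM.trans hnW))

/-- A prime outside `σ(M)` of a subgroup fixing nothing in `M_σ` is below each prime of `σ(M) \ β(M)`. -/
theorem prime_lt {M X : Subgroup G} (hM : IsCoatom M) {p q : ℕ} [hp : Fact p.Prime]
    [hq' : Fact q.Prime] (hXM : X ≤ M) (hXp : IsPGroup p X) (hpσ : p ∉ Cfsg.sigma M)
    (hq : q ∈ Cfsg.sigma M) (hqβ : q ∉ Cfsg.beta M)
    (hfix : Cfsg.sigmaCore M ⊓ centralizer (X : Set G) = ⊥) : p < q := by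
  have hne : p ≠ q := fun h => hpσ (h ▸ hq)
  by_contra hlt
  have hlast := ((Cfsg.Agent.S1414.result hG M hM).2.2.2.2 q hq'.out hq.2.1 hqβ).2.2 p hp.out
  have hnd : ¬ p ∣ (Cfsg.pPrimeCore q ↥M).index := fun h => hne (le_antisymm (hlast h)
    (not_lt.1 hlt))
  haveI := HallCore.pPrimeCore_normal q ↥M
  refine exists_fixed_of_le_core hG hM hXM hq (X := X) (W := coreOf q M)
    (fun r hr hd => ?_) (fun u hu => ?_) ?_ (coprime_coreOf q M) hfix
  · obtain ⟨j, hj⟩ := hXp.exists_card_eq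
    rw [hj] at hd
    rw [(Nat.prime_dvd_prime_iff_eq hr hp.out).1 (hr.dvd_of_dvd_pow hd)]
    exact hpσ
  · refine ⟨⟨u, hXM hu⟩, mem_of_normal_coprime_index ?_, rfl⟩
    rw [Subgroup.orderOf_mk]
    obtain ⟨j, hj⟩ := hXp.exists_card_eq
    exact (((hp.out.coprime_iff_not_dvd).2 hnd).pow_left j).coprime_dvd_left
      (hj ▸ X.orderOf_dvd_natCard hu)
  · exact le_normalizer.trans (le_normalizer_coreOf q M)

/-- `BG 14.8`, first part. -/
theorem sigma_dvd_support {M : Subgroup G} (hM : IsCoatom M) {x : G} (hx : x ∈ Cfsg.sigmaCore M)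
    (hx1 : x ≠ 1) (hxM : ¬ centralizer ({x} : Set G) ≤ M) {N : Subgroup G} (hN : IsCoatom N)
    (hCN : centralizer ({x} : Set G) ≤ N) {p : ℕ} (hpN : p ∈ Cfsg.sigma N) (hpM : p ∣ Nat.card M) :
    Cfsg.kappa M = ∅ ∧ Cfsg.tau2 M = ∅ := by
  by_cases hkN : (Cfsg.kappa N).Nonempty
  · obtain ⟨q, A, K, U, Ns, -, -, -, -, -, -, -, -, -, -, -, -, -, -, -, -, hκM, -⟩ :=
      support_config hG hM hx hx1 hxM hN hCN hkN
    exact ⟨hκM, tau2_empty hG hM hx hx1 hxM hN hCN hkN⟩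
  have hkN' : ∀ {r : ℕ}, r ∉ Cfsg.kappa N := fun {r} h => hkN ⟨r, h⟩
  haveI := Fact.mk hpN.1
  obtain ⟨N', hN', hCN', huniq, hne, hnc, -, hcompl, -, hτ, -⟩ :=
    centralizer_data hG hM hx hx1 hxM
  obtain rfl : N = N' := huniq N hN hCN
  have hxMem : x ∈ M := BGTypeSetup.sigmaCore_le M hx
  obtain ⟨q, hq, hqd⟩ := Nat.exists_prime_and_dvd
    (fun h => hx1 (orderOf_eq_one_iff.1 h) : orderOf x ≠ 1)
  haveI := Fact.mk hq
  have hqN := hτ q hq hqd
  have hqM : q ∈ Cfsg.sigma M :=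
    BGTypeSetup.mem_sigma_of_dvd hG hM hq (hqd.trans ((Cfsg.sigmaCore M).orderOf_dvd_natCard hx))
  obtain ⟨A, hAMN, hA, hAc⟩ := exists_sq_le_compl hG hN hcompl hqN
  have hpσ : p ∉ Cfsg.sigma M := fun h => by
    obtain ⟨g, hg⟩ := BGSigmaPartition.conj_of_sigma_inter hG hM hN h hpN
    exact hnc g (by rwa [BGTypeBasic.conj_smul_eq_map])
  obtain ⟨⟨P₀, hP₀⟩, hP₀o⟩ := exists_prime_orderOf_dvd_card' (G := M) p hpM
  rw [Subgroup.orderOf_mk] at hP₀o
  have hP₀dvd : ∀ r : ℕ, r.Prime → r ∣ Nat.card (zpowers P₀) → r = p := fun r hr hd =>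
    (Nat.prime_dvd_prime_iff_eq hr hpN.1).1 (hP₀o ▸ Nat.card_zpowers P₀ ▸ hd)
  obtain ⟨E, hPE, hE⟩ := exists_sigma_compl_ge hG hM (zpowers_le.2 hP₀)
    (fun r hr hd => hP₀dvd r hr hd ▸ hpσ)
  have hconjN : ∀ L : Subgroup G, IsCoatom L → p ∈ Cfsg.sigma L → ∀ r, r ∉ Cfsg.kappa L := by
    intro L hL hpL r hr
    obtain ⟨g, hg⟩ := BGSigmaPartition.conj_of_sigma_inter hG hN hL hpN hpL
    have := kappa_smul g⁻¹ hr
    rw [hg, ← BGTypeBasic.conj_smul_eq_map, inv_smul_smul'] at this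
    exact hkN' this
  -- `κ(M) = ∅`
  have hκM : Cfsg.kappa M = ∅ := by
    obtain ⟨K, U, d, hKE, hUE, -, hYU⟩ := exists_decomp_le hG hM hE
    by_contra hne0
    have hK1 : K ≠ ⊥ := BGFinal72.K_ne_bot_of_kappa d (Set.nonempty_iff_ne_empty.2 hne0)
    obtain ⟨Ms, ⟨hMs, hKst, hKstH⟩, -⟩ := Cfsg.Agent.S1366.result hG M hM K U d hK1
    have hKs1 := (Cfsg.Agent.S1354.result hG M hM K d.cyclic d.hall).1
    obtain ⟨s, hs, hsd⟩ := Nat.exists_prime_and_dvd (fun h => hKs1 (card_eq_one.1 h) :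
      Nat.card ↥(Cfsg.sigmaCore M ⊓ centralizer (K : Set G)) ≠ 1)
    have hMsκ : s ∈ Cfsg.kappa Ms := hKstH.2.1 s hs hsd
    by_cases hpk : p ∈ Cfsg.kappa M
    · refine hconjN Ms hMs (BGTypeSetup.mem_sigma_of_dvd hG hMs hpN.1 ?_) s hMsκ
      have h1 := d.hall.2.2 p hpN.1 hpk
      rw [← BGFinal72.card_mul_relIndex d.hall.1] at hpM
      exact ((hpN.1.dvd_mul.1 hpM).resolve_right h1).trans
        (card_dvd_of_le (hKst.le.trans inf_le_left))
    · have hPU : zpowers P₀ ≤ U := hYU _ hPE fun r hr hd => hP₀dvd r hr hd ▸ hpk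
      have hpU : p ∣ Nat.card U := hP₀o ▸ U.orderOf_dvd_natCard (hPU (mem_zpowers P₀))
      have hU1 : U ≠ ⊥ := fun h => by
        rw [h, card_bot] at hpU
        exact hpN.1.one_lt.ne' (Nat.dvd_one.1 hpU)
      let R : Sylow p U := default
      set R' := (R : Subgroup U).map U.subtype with hR'
      have hR1 : R' ≠ ⊥ := by
        rw [hR', Ne, map_eq_bot_iff_of_injective _ U.subtype_injective]
        exact R.ne_bot_of_dvd_card hpU
      have hRtop : R' ≠ ⊤ := fun h => hM.1 (top_le_iff.1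
        (h ▸ (map_subtype_le _).trans d.compl.1))
      obtain ⟨H, hH, hNH⟩ := exists_coatom_ge (BGSigma.normalizer_ne_top' hG hR1 hRtop)
      obtain ⟨-, hUH, -, -, -, hHc⟩ := Cfsg.Agent.S1435.result hG M hM K U d hK1 hU1 Ms hMs hKst
        hKstH p hpU R H hH hNH
      obtain ⟨g, hg⟩ := BGSigmaPartition.conj_of_sigma_inter hG hH hN
        (BGTypeSetup.mem_sigma_of_dvd hG hH hpN.1 (hpU.trans (card_dvd_of_le hUH))) hpN
      rw [← BGTypeBasic.conj_smul_eq_map] at hg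
      have hc2 := isComplIn_conj hHc g
      rw [← hg, ← sigmaCore_smul, ← hg] at hc2
      obtain ⟨n, hn, hnE⟩ := isComplIn_conjugate (BGTypeSetup.le_normalizer_sigmaCore N)
        ((relIndex_of_isComplIn (isComplIn_swap hc2)).1 ▸ BGTypeSetup.sigmaCore_coprime hG hN)
        (Or.inr (hG.2.2.2 _ fun h => hN.1 (top_le_iff.1 (h ▸ BGTypeSetup.sigmaCore_le N))))
        (isComplIn_swap hc2) (isComplIn_swap hcompl)
      rw [smul_smul'] at hnE
      set a := n * g with ha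
      have hxN : x ∈ N := hCN (mem_centralizer_iff.2 fun y hy => by rw [hy])
      have hxMN : x ∈ MulAut.conj a • (H ⊓ Ms) := hnE ▸ mem_inf.2 ⟨hxMem, hxN⟩
      obtain ⟨k, hk⟩ := exists_pow_prime hqd
      have hx0 : a⁻¹ * x ^ k * a ∈ Ms := (mem_inf.1 (mem_conj_smul.1 (pow_mem hxMN k))).2
      obtain ⟨-, hHall, -⟩ :=
        Cfsg.Agent.S1434.result hG M hM K U d hK1 Ms hMs hKst hKstH
      have hx0o : orderOf (a⁻¹ * x ^ k * a) = q := by
        rw [show a⁻¹ * x ^ k * a = (MulAut.conj a⁻¹) (x ^ k) by simp [mul_assoc],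
          MulEquiv.orderOf_eq, hk]
      obtain ⟨m, hm, hmK⟩ := exists_conj_mem_of_not_dvd_relIndex (hHall.2.2 q hq hqM) hx0
        (isPGroup_zpowers_of_orderOf hx0o)
      set z := m⁻¹ * (a⁻¹ * x ^ k * a) * m with hz
      have hz1 : z ≠ 1 := fun h => hq.one_lt.ne (by
        rw [← hx0o, show a⁻¹ * x ^ k * a = m * z * m⁻¹ by rw [hz]; group, h]
        simp)
      have hCz : centralizer ({z} : Set G) ≤ M := by
        intro c hc
        by_contra hcM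
        have h0 := (Cfsg.Agent.S1431.result hG M hM K d.hall hK1).1 c hcM
        refine hz1 ((mem_bot).1 (h0 ▸ mem_inf.2 ⟨hmK, ?_⟩))
        refine ⟨z, BGTypeSetup.sigmaCore_le M hmK.1, ?_⟩
        have hcz : Commute z c := mem_centralizer_iff.1 hc z rfl
        simpa using mul_inv_eq_of_eq_mul hcz.eq.symm
      refine hnc (a * m) (huniq _ (isCoatom_conj _ hM) fun c hc => mem_conj_smul.2 (hCz ?_)).symm
      refine mem_centralizer_iff.2 ?_
      rintro y rfl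
      have hcx0 : Commute x c := mem_centralizer_iff.1 hc x rfl
      have hcx : Commute (x ^ k) c := hcx0.pow_left k
      calc z * ((a * m)⁻¹ * c * (a * m)) = m⁻¹ * a⁻¹ * (x ^ k * c) * (a * m) := by rw [hz]; group
        _ = m⁻¹ * a⁻¹ * (c * x ^ k) * (a * m) := by rw [hcx.eq]
        _ = _ := by rw [hz]; group
  refine ⟨hκM, Set.eq_empty_iff_forall_notMem.2 fun r hr => ?_⟩
  haveI := Fact.mk hr.1
  obtain ⟨B, hBE, hB, hBc⟩ := exists_sq_le_compl hG hM hE hr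
  have hBM : B ≤ M := hBE.trans hE.1
  have hqβ : q ∉ Cfsg.beta M := fun h => BGSigma.not_ideal hG hN hqN.2.1 hqN.2.2.2 h.2
  have hfixB : Cfsg.sigmaCore M ⊓ centralizer (B : Set G) = ⊥ :=
    (Cfsg.Agent.S1417.result hG M hM r hr B ⟨hBM, hB, hBc⟩).2.2.2.1
  have hrq : r < q := prime_lt hG hM hBM (IsPGroup.of_card hBc) hr.2.1 hqM hqβ hfixB
  have hfixA : Cfsg.sigmaCore N ⊓ centralizer (A : Set G) = ⊥ :=
    (Cfsg.Agent.S1417.result hG N hN q hqN A ⟨hAMN.trans inf_le_right, hA, hAc⟩).2.2.2.1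
  have hqlt : ∀ {t : ℕ}, t.Prime → t ∈ Cfsg.sigma N → ¬ Cfsg.IsIdealPrime t G → q < t :=
    fun {t} ht htN hti => haveI := Fact.mk ht
      prime_lt hG hN (hAMN.trans inf_le_right) (IsPGroup.of_card hAc) hqN.2.1 htN
        (fun h => hti h.2) hfixA
  by_cases hpτ : p ∈ Cfsg.tau2 M
  · obtain ⟨B', hB'E, hB', hB'c⟩ := exists_sq_le_compl hG hM hE hpτ
    have h1 : p < q := prime_lt hG hM (hB'E.trans hE.1) (IsPGroup.of_card hB'c) hpσ hqM hqβ
      (Cfsg.Agent.S1417.result hG M hM p hpτ B' ⟨hB'E.trans hE.1, hB', hB'c⟩).2.2.2.1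
    have h2 := hqlt hpN.1 hpN (BGSigma.not_ideal hG hM hpσ hpτ.2.2.2)
    omega
  have hfixP : Cfsg.sigmaCore M ⊓ centralizer ((zpowers P₀ : Subgroup G) : Set G) = ⊥ := by
    rw [eq_bot_iff]
    intro y hy
    by_contra hy1
    rw [mem_bot] at hy1
    exact hpτ (BGFinal72.mem_tau2_of_fixed hG hM hpN.1 hpσ (by simp [hκM]) hP₀ hP₀o hy.1 hy1
      (hy.2 P₀ (mem_zpowers _)))
  have hpq : p < q := prime_lt hG hM (zpowers_le.2 hP₀) (isPGroup_zpowers_of_orderOf hP₀o) hpσ hqM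
    hqβ hfixP
  have hrp : r ≠ p := fun h => hpτ (h ▸ hr)
  have hEB : E ≤ normalizer (B : Set G) :=
    (Cfsg.Agent.S1418.result hG M hM E hE r hr B ⟨hBE, hB, hBc⟩).1.1
  have hPB : zpowers P₀ ≤ normalizer (B : Set G) := hPE.trans hEB
  have hBC : B ⊓ centralizer ((zpowers P₀ : Subgroup G) : Set G) ≠ ⊥ := by
    intro h0
    have hsolvB : Group.IsSolvable B := hG.2.2.2 _ fun h => hM.1 (top_le_iff.1 (h ▸ hBM))
    have h1 := CoprimeAction.commutator_sup_centralizer_eq hPB (by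
      rw [Nat.card_zpowers, hP₀o, hBc]
      exact ((Nat.coprime_primes hpN.1 hr.1).2 (Ne.symm hrp)).pow_right 2) (Or.inr hsolvB)
    rw [h0, sup_bot_eq] at h1
    have hBd : B ≤ ⁅M, M⁆ := h1 ▸ commutator_mono hBM (zpowers_le.2 hP₀)
    obtain ⟨⟨P, N₀, hN₀n, hN₀⟩, -, -⟩ :=
      (Cfsg.Agent.S1414.result hG M hM).2.2.2.2 q hq hqM.2.1 hqβ
    have hN₀le : N₀ ≤ Cfsg.pPrimeCore q ↥⁅M, M⁆ := by
      haveI := hN₀n
      refine HallCore.le_pPrimeCore ((Nat.coprime_comm).1 ((hq.coprime_iff_not_dvd).2 ?_))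
      rw [← hN₀.index_eq_card]
      exact P.not_dvd_index
    obtain ⟨i, hi⟩ := P.isPGroup'.exists_card_eq
    have hidx : (Cfsg.pPrimeCore q ↥⁅M, M⁆).index ∣ q ^ i := by
      rw [← hi, ← hN₀.symm.index_eq_card]
      exact index_dvd_of_le hN₀le
    haveI := HallCore.pPrimeCore_normal q ↥⁅M, M⁆
    refine exists_fixed_of_le_core hG hM hBM hqM (W := coreOf q ⁅M, M⁆)
      (fun s hs hd => ?_) (fun u hu => ?_)
      ((BGTypeBasic.le_normalizer_derived M).trans (le_normalizer_coreOf q _))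
      (coprime_coreOf q _) hfixB
    · rw [hBc] at hd
      rw [(Nat.prime_dvd_prime_iff_eq hs hr.1).1 (hs.dvd_of_dvd_pow hd)]
      exact hr.2.1
    · refine ⟨⟨u, hBd hu⟩, mem_of_normal_coprime_index ?_, rfl⟩
      rw [Subgroup.orderOf_mk]
      exact ((((Nat.coprime_primes hr.1 hq).2 hrq.ne).pow 2 i).coprime_dvd_left
        (hBc ▸ B.orderOf_dvd_natCard hu)).coprime_dvd_right hidx
  haveI := (nontrivial_iff_ne_bot _).2 hBC
  obtain ⟨⟨b, hb⟩, hb1⟩ :=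
    exists_ne (1 : ↥(B ⊓ centralizer ((zpowers P₀ : Subgroup G) : Set G)))
  replace hb1 : b ≠ 1 := fun h => hb1 (Subtype.ext h)
  have hB1 : B ≠ ⊥ := fun h => hb1 ((mem_bot).1 (h ▸ hb.1))
  obtain ⟨L, hL, hNL⟩ := exists_coatom_ge (BGSigma.normalizer_ne_top' hG hB1
    fun h => hM.1 (top_le_iff.1 (h ▸ hBM)))
  have hrL : r ∈ Cfsg.sigma L := tau2_subset_sigma hG hM hL hr hBM hB hBc hNL r hr
  have hbL : b ∈ Cfsg.sigmaCore L :=
    BGTypeSetup.sigma_element_mem hG hL (hNL (le_normalizer hb.1)) fun s hs hd => by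
      rw [(Nat.prime_dvd_prime_iff_eq hs hr.1).1
        (hs.dvd_of_dvd_pow ((hd.trans (B.orderOf_dvd_natCard hb.1)).trans hBc.dvd))]
      exact hrL
  by_cases hpL : p ∈ Cfsg.sigma L
  · obtain ⟨g, hg⟩ := BGSigmaPartition.conj_of_sigma_inter hG hN hL hpN hpL
    rw [hg, sigma_map] at hrL
    have := hqlt hr.1 hrL (BGSigma.not_ideal hG hM hr.2.1 hr.2.2.2)
    omega
  have hP₀L : P₀ ∈ L := hNL (hPB (mem_zpowers _))
  by_cases hpkL : p ∈ Cfsg.kappa L
  · obtain ⟨⟨K, hK⟩, hKcyc⟩ := Cfsg.Agent.S1351.result hG L hL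
    obtain ⟨⟨U, d⟩, -⟩ := Cfsg.Agent.S1352.result hG L hL K (hKcyc K hK) hK
    have hK1 : K ≠ ⊥ := BGFinal72.K_ne_bot_of_kappa d ⟨p, hpkL⟩
    obtain ⟨Ls, ⟨hLs, hKst, hKstH⟩, -⟩ := Cfsg.Agent.S1366.result hG L hL K U d hK1
    obtain ⟨s, hs, hsd⟩ := Nat.exists_prime_and_dvd
      (fun h => (Cfsg.Agent.S1354.result hG L hL K d.cyclic d.hall).1 (card_eq_one.1 h) :
      Nat.card ↥(Cfsg.sigmaCore L ⊓ centralizer (K : Set G)) ≠ 1)
    refine hconjN Ls hLs (BGTypeSetup.mem_sigma_of_dvd hG hLs hpN.1 ?_) s (hKstH.2.1 s hs hsd)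
    have hd := hpkL.2.1
    rw [← BGFinal72.card_mul_relIndex hK.1] at hd
    exact ((hpN.1.dvd_mul.1 hd).resolve_right (hK.2.2 p hpN.1 hpkL)).trans
      (card_dvd_of_le (hKst.le.trans inf_le_left))
  have hpτL := BGFinal72.mem_tau2_of_fixed hG hL hpN.1 hpL hpkL hP₀L hP₀o hbL hb1
    (hb.2 P₀ (mem_zpowers _))
  have := hqlt hpN.1 hpN (BGSigma.not_ideal hG hL hpL hpτL.2.2.2)
  omega

/-- `BG 14.8`, second part. -/
theorem support_conj_mem {M : Subgroup G} (hM : IsCoatom M) {x y : G}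
    (hx : x ∈ Cfsg.sigmaCore M) (hx1 : x ≠ 1) (hxM : ¬ centralizer ({x} : Set G) ≤ M)
    (hy : y ∈ Cfsg.sigmaCore M) (hy1 : y ≠ 1) (hyM : ¬ centralizer ({y} : Set G) ≤ M)
    {N N' : Subgroup G} (hN : IsCoatom N) (hCN : centralizer ({x} : Set G) ≤ N)
    (hN' : IsCoatom N') (hCN' : centralizer ({y} : Set G) ≤ N') {g : G}
    (hg : MulAut.conj g • N' = N) : ∃ m ∈ M, MulAut.conj m • N' = N := by
  obtain ⟨N₁, -, -, huniq, -, -, -, hcompl, -⟩ := centralizer_data hG hM hx hx1 hxM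
  obtain rfl : N = N₁ := huniq N hN hCN
  obtain ⟨N₂, -, -, huniq', -, -, -, hcompl', -, hτ', -⟩ := centralizer_data hG hM hy hy1 hyM
  obtain rfl : N' = N₂ := huniq' N' hN' hCN'
  obtain ⟨q, hq, hqd⟩ := Nat.exists_prime_and_dvd
    (fun h => hy1 (orderOf_eq_one_iff.1 h) : orderOf y ≠ 1)
  haveI := Fact.mk hq
  have hqM : q ∈ Cfsg.sigma M :=
    BGTypeSetup.mem_sigma_of_dvd hG hM hq (hqd.trans ((Cfsg.sigmaCore M).orderOf_dvd_natCard hy))
  have hqN := hτ' q hq hqd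
  obtain ⟨A, hAMN, hA, hAc⟩ := exists_sq_le_compl hG hN' hcompl' hqN
  have hc2 := isComplIn_conj hcompl' g
  rw [← sigmaCore_smul, hg] at hc2
  obtain ⟨n, hn, hnE⟩ := isComplIn_conjugate (BGTypeSetup.le_normalizer_sigmaCore N)
    ((relIndex_of_isComplIn (isComplIn_swap hc2)).1 ▸ BGTypeSetup.sigmaCore_coprime hG hN)
    (Or.inr (hG.2.2.2 _ fun h => hN.1 (top_le_iff.1 (h ▸ BGTypeSetup.sigmaCore_le N))))
    (isComplIn_swap hc2) (isComplIn_swap hcompl)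
  rw [smul_smul'] at hnE
  have hhA : MulAut.conj (n * g) • A ≤ M :=
    ((pointwise_smul_le_pointwise_smul_iff.2 hAMN).trans hnE.le).trans inf_le_left
  have hA1 : A ≠ ⊥ := fun h => by
    rw [h, card_bot] at hAc
    exact absurd hAc (by nlinarith [hq.two_le])
  obtain ⟨m, hm, c, hc, hmc⟩ := BGSigma.fusion hG hM hqM (IsPGroup.of_card hAc) hA1
    (hAMN.trans inf_le_left) hhA
  have hcN' : c ∈ N' := by
    have hC := (Cfsg.Agent.S1416.result hG N' hN' q A ⟨hAMN.trans inf_le_right, hA, hAc⟩).1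
    exact hC hc
  refine ⟨m, hm, ?_⟩
  have h : MulAut.conj (n * g) • N' = N := by
    rw [← smul_smul', hg, conj_smul_le_self (BGTypeSetup.sigmaCore_le N hn)]
  rwa [hmc, ← smul_smul', conj_smul_le_self hcN'] at h

end Cfsg.Agent.BGSupport35
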