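import Mathlib

namespace Cfsg.Agent.FocalControl

open Subgroup
open scoped commutatorElement

/-- If `N` controls fusion of elements of `H` then the focal subgroup lies in `[H, N]`. -/
theorem focalSubgroup_le_commutator_of_control {G : Type*} [Group G] (H N : Subgroup G)
    (h : ∀ x ∈ H, ∀ u : G, u * x * u⁻¹ ∈ H → ∃ n ∈ N, n * x * n⁻¹ = u * x * u⁻¹) :
    H.focalSubgroup ≤ ⁅H, N⁆ := by
  rw [focalSubgroup_def, closure_le]
  rintro g ⟨hg, x, hx, u, rfl⟩
  have hmem : u * x⁻¹ * u⁻¹ ∈ H := by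
    have h1 := H.mul_mem (H.inv_mem hx) hg
    convert h1 using 1
    rw [commutatorElement_def]; group
  obtain ⟨n, hn, hnx⟩ := h x⁻¹ (H.inv_mem hx) u hmem
  have : ⁅x, u⁆ = ⁅x, n⁆ := by
    calc ⁅x, u⁆ = x * (u * x⁻¹ * u⁻¹) := by rw [commutatorElement_def]; group
      _ = x * (n * x⁻¹ * n⁻¹) := by rw [hnx]
      _ = ⁅x, n⁆ := by rw [commutatorElement_def]; group
  rw [this]
  exact commutator_mem_commutator hx hn

end Cfsg.Agent.FocalControl
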