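import Mathlib
import Cfsg.Prelude.Def_EvenType
import Cfsg.Agent.Lib.GlaubermanQuotient
import Cfsg.Agent.Lib.CentralSylow
import Cfsg.Agent.Lib.PGroupsBasic

/-!
# Control of strong fusion by the normalizer of a functor value

For a functor `W` with `W D ≤ D` and a strongly closed `D`, the subgroup `N(W D)` controls strong
fusion in `P` as soon as `W D` is normal in the sections `X` of the group with `C(O_p X) ≤ O_p X`.
-/

set_option autoImplicit false

namespace Cfsg.Agent.GlaubermanControl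

open Subgroup GlaubermanZJ GlaubermanStable GlaubermanQuotient TransferAlperin

universe u

variable {p : ℕ} {G X : Type u} [Group G] [Group X]

/-- An equivariant functor, nontrivial on nontrivial `p`-subgroups. -/
structure Functor' (p : ℕ) where
  /-- the value on a subgroup -/
  W : ∀ {G : Type u} [Group G], Subgroup G → Subgroup G
  W_le : ∀ {G : Type u} [Group G] (D : Subgroup G), W D ≤ D
  W_map : ∀ {G H : Type u} [Group G] [Group H] (f : G →* H) (D : Subgroup G),
    Set.InjOn f D → W (D.map f) = (W D).map f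
  W_ne_bot : ∀ {G : Type u} [Group G] [Finite G] (D : Subgroup G),
    IsPGroup p D → D ≠ ⊥ → W D ≠ ⊥

theorem Functor'.normalizer_le (F : Functor' p) (D : Subgroup G) :
    normalizer (D : Set G) ≤ normalizer (F.W D : Set G) := fun g hg => by
  refine mem_normalizer_of_cj_eq ?_
  have h := F.W_map (MulAut.conj g).toMonoidHom D (MulAut.conj g).injective.injOn
  rw [show D.map (MulAut.conj g).toMonoidHom = D from cj_eq_self hg] at h
  exact h.symm

theorem thomY_map' (n : ℕ) {H : Type u} [Group H] (f : G →* H) (D : Subgroup G)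
    (hf : Set.InjOn f D) : thomY n (D.map f) = (thomY n D).map f :=
  thomY_map_of_injOn D hf

/-- `Z(J)` for the abelian subgroups of largest order. -/
def yZero (p : ℕ) [Fact p.Prime] : Functor'.{u} p where
  W := fun D => thomY 0 D
  W_le := fun D => thomY_le D
  W_map := fun f D hf => thomY_map' 0 f D hf
  W_ne_bot := fun _ hD hne => thomY_ne_bot (Or.inl rfl) hD hne

/-- `Z(J)` for the elementary abelian subgroups of largest order. -/
def yPrime (p : ℕ) [Fact p.Prime] : Functor'.{u} p where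
  W := fun D => thomY p D
  W_le := fun D => thomY_le D
  W_map := fun f D hf => thomY_map' p f D hf
  W_ne_bot := fun _ hD hne => thomY_ne_bot (Or.inr rfl) hD hne

theorem omega_thomY_map (p : ℕ) {H : Type u} [Group H] (f : G →* H) (D : Subgroup G)
    (hf : Set.InjOn f D) :
    Cfsg.omegaOne p (thomY p (D.map f)) = (Cfsg.omegaOne p (thomY p D)).map f := by
  have h2 : Function.Injective (f.comp D.subtype) :=
    fun a b hab => Subtype.ext (hf a.2 b.2 hab)
  have hD : (⊤ : Subgroup D).map D.subtype = D := by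
    rw [← MonoidHom.range_eq_map, range_subtype]
  conv_lhs => rw [← hD, Subgroup.map_map, thomY_map h2, omegaOne_map h2]
  conv_rhs => rw [← hD, thomY_map D.subtype_injective, omegaOne_map D.subtype_injective,
    Subgroup.map_map]

/-- `Ω₁(Z(J))`. -/
def omegaPrime (p : ℕ) [Fact p.Prime] : Functor'.{u} p where
  W := fun D => Cfsg.omegaOne p (thomY p D)
  W_le := fun D => ((closure_le _).mpr fun _ hy => hy.1).trans (thomY_le D)
  W_map := fun f D hf => omega_thomY_map p f D hf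
  W_ne_bot := fun _ hD hne =>
    omegaOne_ne_bot (hD.to_le (thomY_le _)) (thomY_ne_bot (Or.inr rfl) hD hne)

/-- `N(V)` realises every fusion map between subgroups of `P`. -/
def Ctrl (P V : Subgroup G) : Prop :=
  ∀ T g, T ≤ P → cj g T ≤ P →
    ∃ m ∈ normalizer (V : Set G), ∀ t ∈ T, m * t * m⁻¹ = g * t * g⁻¹

theorem Ctrl.controls {P V : Subgroup G} (h : Ctrl P V) (A : Set G) (hA : A ⊆ P) :
    Cfsg.ControlsStrongFusionOf (normalizer (V : Set G)) P A := by
  refine ⟨hA, fun g hg => ?_⟩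
  obtain ⟨m, hm, hmt⟩ := h (closure A) g ((closure_le _).mpr hA) (by
    rw [cj, MonoidHom.map_closure, closure_le]
    rintro _ ⟨a, ha, rfl⟩
    exact hg ⟨a, ha, rfl⟩)
  exact ⟨m, hm, fun a ha => (hmt a (subset_closure ha)).symm⟩

theorem cj_eq_of_agree {T : Subgroup G} {m g : G} (h : ∀ t ∈ T, m * t * m⁻¹ = g * t * g⁻¹) :
    cj m T = cj g T := by
  ext x
  constructor
  · rintro ⟨t, ht, rfl⟩
    exact ⟨t, ht, (h t ht).symm⟩
  · rintro ⟨t, ht, rfl⟩
    exact ⟨t, ht, h t ht⟩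

/-- Lifting control through a normal `p'`-kernel. -/
theorem ctrl_of_map [Finite G] [hp : Fact p.Prime] {π : G →* X} (hπ : Function.Surjective π)
    (hK : (Nat.card π.ker).Coprime p) (P : Sylow p G) {V : Subgroup G}
    (hV : V ≤ (P : Subgroup G)) (hPV : (P : Subgroup G) ≤ normalizer (V : Set G))
    (h : Ctrl ((P : Subgroup G).map π) (V.map π)) : Ctrl (P : Subgroup G) V := by
  intro T g hT hgT
  have himg : cj (π g) (T.map π) ≤ (P : Subgroup G).map π := by
    rintro _ ⟨_, ⟨t, ht, rfl⟩, rfl⟩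
    exact ⟨g * t * g⁻¹, hgT (conj_mem_cj ht), by simp⟩
  obtain ⟨mb, hmb, hmbt⟩ := h (T.map π) (π g) (map_mono hT) himg
  obtain ⟨y0, rfl⟩ := hπ mb
  obtain ⟨r0, hr0, hyN⟩ := exists_mem_normalizer_lift hK (P.isPGroup'.to_le hV) hmb
  have hya : π (r0 * y0) = π y0 := by rw [map_mul, MonoidHom.mem_ker.mp hr0, one_mul]
  set y := r0 * y0
  set T' := cj g T with hT'
  set N0 := π.ker ⊓ normalizer (V : Set G) with hN0
  have hle : cj y T ≤ N0 ⊔ T' := by
    rintro _ ⟨t, ht, rfl⟩
    have h1 : y * t * y⁻¹ * (g * t * g⁻¹)⁻¹ ∈ N0 := by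
      refine mem_inf.mpr ⟨?_, ?_⟩
      · rw [MonoidHom.mem_ker]
        simp only [map_mul, map_inv, hya]
        rw [hmbt (π t) (mem_map_of_mem π ht)]
        group
      · exact mul_mem (mul_mem (mul_mem hyN (hPV (hT ht))) (inv_mem hyN))
          (inv_mem (hPV (hgT (conj_mem_cj ht))))
    have h2 := mul_mem (mem_sup_left h1 : _ ∈ N0 ⊔ T') (mem_sup_right (conj_mem_cj (g := g) ht))
    rwa [inv_mul_cancel_right] at h2
  have hnorm : T' ≤ normalizer (N0 : Set G) :=
    LocalBasics.le_normalizer_inf le_normalizer_of_normal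
      ((hgT.trans hPV).trans le_normalizer)
  obtain ⟨k, hk⟩ := IsPGroup.iff_card.mp (P.isPGroup'.to_le hgT)
  obtain ⟨r, hr, he⟩ := CoprimeSZ.exists_conj_of_card_eq (N := N0) hnorm
    (hk ▸ ((hK.coprime_dvd_left (card_dvd_of_le inf_le_left)).symm.pow_left k))
    (Or.inl (CoprimeAction.isSolvable_of_isPGroup (P.isPGroup'.to_le hgT))) hle
    (by rw [card_cj, card_cj])
  rw [CoprimeSZ.conj_smul_eq_map] at he
  refine ⟨r⁻¹ * y, mul_mem (inv_mem hr.2) hyN, fun t ht => ?_⟩
  have hcj : cj (r⁻¹ * y) T = T' := by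
    rw [cj_mul]
    change cj r⁻¹ (cj y T) = T'
    rw [← he]
    exact cj_inv_cj r T'
  refine injOn_of_coprime (P.isPGroup'.to_le hgT) hK
    (hcj.le (conj_mem_cj ht)) (conj_mem_cj ht) ?_
  simp only [map_mul, map_inv, mul_inv_rev, MonoidHom.mem_ker.mp hr.1, inv_one, one_mul, inv_inv,
    hya]
  have := hmbt (π t) (mem_map_of_mem π ht)
  simp only [mul_one] at *
  rw [← this]

/-- A strongly closed subgroup is normalized by the normalizer of the Sylow subgroup. -/
theorem normalizer_le_of_isStronglyClosed {D P : Subgroup G} (hD : Cfsg.IsStronglyClosed D P) :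
    normalizer (P : Set G) ≤ normalizer (D : Set G) :=
  LocalBasics.le_normalizer_of_conj fun x hx d hd =>
    hD.2 d hd x ((mem_normalizer_iff.mp hx d).mp (hD.1 hd))

theorem cj_inf_le {D P R : Subgroup G} (hD : Cfsg.IsStronglyClosed D P) {a : G}
    (hR : cj a R ≤ P) : cj a (D ⊓ R) ≤ D := by
  rintro _ ⟨d, hd, rfl⟩
  exact hD.2 d hd.1 a (hR (conj_mem_cj hd.2))

/-- A conjugate of an agreement. -/
theorem agree_comp {T T1 : Subgroup G} {a ma mm m : G} (hT1 : cj a T = T1)
    (ha : ∀ t ∈ T, ma * t * ma⁻¹ = a * t * a⁻¹)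
    (hm : ∀ s ∈ T1, mm * s * mm⁻¹ = (a * m * a⁻¹) * s * (a * m * a⁻¹)⁻¹)
    (hmT : m ∈ normalizer (T : Set G)) :
    ∀ t ∈ T, (ma⁻¹ * mm * ma) * t * (ma⁻¹ * mm * ma)⁻¹ = m * t * m⁻¹ := by
  intro t ht
  have h1 := hm (a * t * a⁻¹) (hT1 ▸ conj_mem_cj ht)
  have h2 := ha (m * t * m⁻¹) ((mem_normalizer_iff.mp hmT t).mp ht)
  calc (ma⁻¹ * mm * ma) * t * (ma⁻¹ * mm * ma)⁻¹
      = ma⁻¹ * (mm * (ma * t * ma⁻¹) * mm⁻¹) * ma := by group
    _ = ma⁻¹ * (a * (m * t * m⁻¹) * a⁻¹) * ma := by rw [ha t ht, h1]; group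
    _ = m * t * m⁻¹ := by rw [← h2]; group

/-- Control from control inside the normalizers of nontrivial fully normalized subgroups. -/
theorem ctrl_of_local [Finite G] [hp : Fact p.Prime] (F : Functor'.{u} p) (P : Sylow p G)
    {D : Subgroup G} (hD : Cfsg.IsStronglyClosed D (P : Subgroup G))
    (hloc : ∀ U : Subgroup G, U ≤ (P : Subgroup G) → U ≠ ⊥ →
      IsFullyNormalized p (P : Subgroup G) U → ∀ T g, g ∈ normalizer (U : Set G) →
      T ≤ (P : Subgroup G) ⊓ normalizer (U : Set G) →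
      cj g T ≤ (P : Subgroup G) ⊓ normalizer (U : Set G) →
      ∃ m ∈ normalizer (U : Set G) ⊓ normalizer (F.W (D ⊓ normalizer (U : Set G)) : Set G),
        ∀ t ∈ T, m * t * m⁻¹ = g * t * g⁻¹) :
    Ctrl (P : Subgroup G) (F.W D) := by
  by_cases hD0 : D = ⊥
  · intro T g _ _
    have : F.W D = ⊥ := le_bot_iff.mp ((F.W_le D).trans hD0.le)
    exact ⟨g, by rw [this, normalizer_eq_top]; trivial, fun t _ => rfl⟩
  set M := normalizer (F.W D : Set G) with hM
  have hPD := le_normalizer_of_isStronglyClosed hD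
  have hDp : IsPGroup p D := P.isPGroup'.to_le hD.1
  refine alperin_induction_centric P (fun T g => ∃ m ∈ M, ∀ t ∈ T, m * t * m⁻¹ = g * t * g⁻¹)
    ?_ ?_ ?_ ?_ ?_
  · intro T g k _ _ _ ⟨z, hz, hzt⟩ ⟨w, hw, hwt⟩
    refine ⟨w * z, mul_mem hw hz, fun t ht => ?_⟩
    calc w * z * t * (w * z)⁻¹ = w * (z * t * z⁻¹) * w⁻¹ := by group
      _ = w * (g * t * g⁻¹) * w⁻¹ := by rw [hzt t ht]
      _ = k * (g * t * g⁻¹) * k⁻¹ := hwt _ (conj_mem_cj ht)
      _ = k * g * t * (k * g)⁻¹ := by group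
  · intro T g _ _ ⟨z, hz, hzt⟩
    refine ⟨z⁻¹, inv_mem hz, fun t ht => ?_⟩
    obtain ⟨s, hs, rfl⟩ := ht
    simp only [MulEquiv.toMonoidHom_eq_coe, MonoidHom.coe_coe, MulAut.conj_apply]
    calc z⁻¹ * (g * s * g⁻¹) * z⁻¹⁻¹ = z⁻¹ * (z * s * z⁻¹) * z⁻¹⁻¹ := by rw [hzt s hs]
      _ = g⁻¹ * (g * s * g⁻¹) * g⁻¹⁻¹ := by group
  · exact fun S T g hST _ _ ⟨z, hz, hzt⟩ => ⟨z, hz, fun t ht => hzt t (hST ht)⟩
  · intro T _ c hc
    refine ⟨1, one_mem _, fun t ht => ?_⟩
    rw [one_mul, inv_one, mul_one]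
    exact (eq_mul_inv_of_mul_eq (mem_centralizer_iff.mp hc t ht)).trans (by group)
  intro T hT hfn hcen _ hbig c hc _
  by_cases hT0 : T = ⊥
  · exact ⟨1, one_mem _, fun t ht => by rw [hT0, mem_bot] at ht; simp [ht]⟩
  by_cases hTP : T = (P : Subgroup G)
  · refine ⟨c, ?_, fun t _ => rfl⟩
    exact F.normalizer_le D (normalizer_le_of_isStronglyClosed hD (hTP ▸ hc))
  -- moving up
  have climb : ∀ (k : ℕ) (R : Subgroup G), Nat.card (P : Subgroup G) - Nat.card R = k →
      R ≤ (P : Subgroup G) → Nat.card T < Nat.card R → D ⊓ R ≠ ⊥ →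
      ∀ T', T' ≤ R → Nat.card T' = Nat.card T → ∀ m,
        m ∈ normalizer (F.W (D ⊓ R) : Set G) → m ∈ normalizer (T' : Set G) →
        ∃ m' ∈ M, ∀ t ∈ T', m' * t * m'⁻¹ = m * t * m⁻¹ := by
    intro k
    induction k using Nat.strong_induction_on with
    | _ k ihk =>
    intro R hk hRP hTR hDR T' hT'R hT'c m hmU hmT
    rcases eq_or_lt_of_le hRP with he | hlt
    · refine ⟨m, ?_, fun t _ => rfl⟩
      rw [he, inf_eq_left.mpr hD.1] at hmU
      exact hmU
    set U := F.W (D ⊓ R) with hU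
    have hUp : IsPGroup p U := hDp.to_le ((F.W_le _).trans inf_le_left)
    have hU0 : U ≠ ⊥ := F.W_ne_bot _ (hDp.to_le inf_le_left) hDR
    set PR := (P : Subgroup G) ⊓ normalizer (R : Set G) with hPR
    have hPRU : PR ≤ normalizer (U : Set G) :=
      (LocalBasics.le_normalizer_inf (inf_le_left.trans hPD) inf_le_right).trans (F.normalizer_le _)
    have hRPR : Nat.card R < Nat.card PR := card_lt_card_inf_normalizer P.isPGroup' hlt
    obtain ⟨a0, ha0, hfn'⟩ := exists_isFullyNormalized P hUp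
    obtain ⟨c0, hc0, hle0⟩ := hfn' (cj a0 PR) (by rw [← cj_normalizer]; exact cj_mono a0 hPRU)
      (isPGroup_cj P.isPGroup'.to_inf_left)
    set a := c0 * a0 with ha
    rw [← cj_mul] at hle0
    have haU : cj a U = cj a0 U := by rw [cj_mul, cj_eq_self hc0]
    set U' := cj a U with hU'
    rw [← haU] at ha0 hfn'
    set N' := normalizer (U' : Set G) with hN'
    set R1 := (P : Subgroup G) ⊓ N' with hR1
    have hPR1 : cj a PR ≤ R1 := le_inf hle0 (by rw [hN', ← cj_normalizer]; exact cj_mono a hPRU)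
    have haR : cj a R ≤ R1 := (cj_mono a (le_inf hRP le_normalizer)).trans hPR1
    have hR1c : Nat.card R < Nat.card R1 :=
      hRPR.trans_le ((card_cj a PR).symm.le.trans (card_le_of_le hPR1))
    set T1 := cj a T' with hT1
    set m1 := a * m * a⁻¹ with hm1
    have hm1U : m1 ∈ N' := by rw [hN', ← cj_normalizer]; exact conj_mem_cj hmU
    have hm1T : m1 ∈ normalizer (T1 : Set G) := by rw [← cj_normalizer]; exact conj_mem_cj hmT
    have hT1R : T1 ≤ R1 := (cj_mono a hT'R).trans haR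
    obtain ⟨m2, hm2, hm2e⟩ := hloc U' ha0
      (fun h => hU0 (cj_inj (g := a) (h.trans (Subgroup.map_bot _).symm))) hfn' T1 m1 hm1U hT1R
      (by rw [cj_eq_self hm1T]; exact hT1R)
    have hDR1 : D ⊓ N' = D ⊓ R1 := by
      rw [hR1, ← inf_assoc, inf_eq_left.mpr hD.1]
    have hDne : D ⊓ R1 ≠ ⊥ := by
      intro h
      refine hDR (cj_inj (g := a) (le_antisymm ?_ ((Subgroup.map_bot _).le.trans bot_le)))
      refine le_trans ?_ (Subgroup.map_bot _).ge
      rw [← h]
      exact le_inf (cj_inf_le hD (haR.trans inf_le_left)) ((cj_mono a inf_le_right).trans haR)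
    obtain ⟨mm, hmm, hmme⟩ := ihk _ (by
        have h1 : Nat.card R1 ≤ Nat.card (P : Subgroup G) := card_le_of_le inf_le_left
        omega) R1 rfl inf_le_left
      (hTR.trans hR1c) hDne T1 hT1R ((card_cj a T').trans hT'c) m2
      (by rw [← hDR1]; exact hm2.2)
      (mem_normalizer_of_cj_eq (by rw [cj_eq_of_agree hm2e, cj_eq_self hm1T]))
    obtain ⟨ma, hma, hmae⟩ := hbig R a hRP (haR.trans inf_le_left) hTR
    exact ⟨ma⁻¹ * mm * ma, mul_mem (mul_mem (inv_mem hma) hmm) hma,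
      agree_comp (T := T') (a := a) rfl (fun t ht => hmae t (hT'R ht))
        (fun s hs => (hmme s hs).trans (hm2e s hs)) hmT⟩
  set R := (P : Subgroup G) ⊓ normalizer (T : Set G) with hR
  have hTR := card_lt_card_inf_normalizer P.isPGroup' (lt_of_le_of_ne hT hTP)
  have hTleR : T ≤ R := le_inf hT le_normalizer
  have hDR : D ⊓ normalizer (T : Set G) = D ⊓ R := by
    rw [hR, ← inf_assoc, inf_eq_left.mpr hD.1]
  obtain ⟨m, hm, hme⟩ := hloc T hT hT0 hfn T c hc hTleR (by rw [cj_eq_self hc]; exact hTleR)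
  have hDR0 : D ⊓ R ≠ ⊥ := by
    -- `D` meets the centre of `P`
    intro h
    haveI hn : (D.subgroupOf (P : Subgroup G)).Normal := LocalBasics.normal_subgroupOf_of_le hPD
    haveI : Group.IsNilpotent (P : Subgroup G) := P.isPGroup'.isNilpotent
    have hne : D.subgroupOf (P : Subgroup G) ≠ ⊥ := by
      intro e
      exact hD0 (by rw [← map_subgroupOf_eq_of_le hD.1, e, Subgroup.map_bot])
    obtain ⟨z, hz, hz1⟩ : ∃ z : (P : Subgroup G),
        z ∈ D.subgroupOf (P : Subgroup G) ⊓ Subgroup.center (P : Subgroup G) ∧ z ≠ 1 := by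
      by_contra hno
      push Not at hno
      have h0 : D.subgroupOf (P : Subgroup G) ⊓ Subgroup.center (P : Subgroup G) = ⊥ :=
        (eq_bot_iff_forall _).mpr hno
      exact PGroupsBasic.inf_center_ne_bot P.isPGroup' hne h0
    have hzC : (z : G) ∈ (P : Subgroup G) ⊓ centralizer (T : Set G) :=
      ⟨z.2, mem_centralizer_iff.mpr fun t ht =>
        congrArg Subtype.val (mem_center_iff.mp hz.2 ⟨t, hT ht⟩)⟩
    have hzDR : (z : G) ∈ D ⊓ R := ⟨mem_subgroupOf.mp hz.1, hTleR (hcen hzC)⟩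
    rw [h, mem_bot] at hzDR
    exact hz1 (Subtype.ext hzDR)
  have hmT : m ∈ normalizer (T : Set G) :=
    mem_normalizer_of_cj_eq (by rw [cj_eq_of_agree hme, cj_eq_self hc])
  obtain ⟨m', hm', hme'⟩ := climb _ R rfl inf_le_left hTR hDR0 T hTleR rfl m
    (by rw [← hDR]; exact hm.2) hmT
  exact ⟨m', hm', fun t ht => (hme' t ht).trans (hme t ht)⟩

/-- Control in a subgroup, transported to the group. -/
theorem local_ctrl [Finite G] [hp : Fact p.Prime] (F : Functor'.{u} p) (P : Sylow p G)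
    {D : Subgroup G} (hD : Cfsg.IsStronglyClosed D (P : Subgroup G)) (H : Subgroup G)
    (hind : ¬ p ∣ ((P : Subgroup G) ⊓ H).relIndex H)
    (h : ∀ (R : Sylow p H) (D' : Subgroup H), Cfsg.IsStronglyClosed D' (R : Subgroup H) →
      Ctrl (R : Subgroup H) (F.W D')) :
    ∀ T g, g ∈ H → T ≤ (P : Subgroup G) ⊓ H → cj g T ≤ (P : Subgroup G) ⊓ H →
      ∃ m ∈ H ⊓ normalizer (F.W (D ⊓ H) : Set G), ∀ t ∈ T, m * t * m⁻¹ = g * t * g⁻¹ := by
  intro T g hg hT hgT
  have hR : IsPGroup p (((P : Subgroup G) ⊓ H).subgroupOf H) :=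
    (P.isPGroup'.to_inf_left).comap_subtype
  set R := hR.toSylow hind with hRdef
  have hRmem : ∀ x : H, x ∈ (R : Subgroup H) ↔ (x : G) ∈ (P : Subgroup G) := by
    intro x
    change (x : G) ∈ (P : Subgroup G) ⊓ H ↔ _
    rw [mem_inf]
    exact and_iff_left x.2
  set D' := (D ⊓ H).subgroupOf H with hD'
  have hsc : Cfsg.IsStronglyClosed D' (R : Subgroup H) :=
    ⟨fun x hx => (hRmem x).mpr (hD.1 (mem_subgroupOf.mp hx).1), fun x hx y hy =>
      mem_subgroupOf.mpr ⟨hD.2 x (mem_subgroupOf.mp hx).1 y ((hRmem _).mp hy),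
        (y * x * y⁻¹).2⟩⟩
  obtain ⟨m, hm, hme⟩ := h R D' hsc (T.subgroupOf H) ⟨g, hg⟩
    (fun x hx => (hRmem x).mpr (hT (mem_subgroupOf.mp hx)).1) (by
      rintro _ ⟨x, hx, rfl⟩
      exact (hRmem _).mpr (hgT (conj_mem_cj (mem_subgroupOf.mp hx))).1)
  refine ⟨m, ⟨m.2, ?_⟩, fun t ht => ?_⟩
  · have h1 := F.W_map H.subtype D' H.subtype_injective.injOn
    rw [hD', map_subgroupOf_eq_of_le (inf_le_right : D ⊓ H ≤ H)] at h1
    rw [h1]
    exact le_normalizer_map H.subtype (mem_map_of_mem _ hm)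
  · exact congrArg Subtype.val
      (hme ⟨t, (hT ht).2⟩ (mem_subgroupOf.mpr (show t ∈ T from ht)))

/-- Control when `G = K N(V)` for a normal `p'`-subgroup `K`. -/
theorem ctrl_of_sup [Finite G] [hp : Fact p.Prime] (P : Sylow p G) (K : Subgroup G) [K.Normal]
    (hK : (Nat.card K).Coprime p) {V : Subgroup G} (hV : V ≤ (P : Subgroup G))
    (hPV : (P : Subgroup G) ≤ normalizer (V : Set G))
    (h : K ⊔ normalizer (V : Set G) = ⊤) : Ctrl (P : Subgroup G) V := by
  refine ctrl_of_map (QuotientGroup.mk'_surjective K) (by rwa [QuotientGroup.ker_mk']) P hV hPV ?_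
  intro T g _ _
  refine ⟨g, ?_, fun t _ => rfl⟩
  obtain ⟨x, rfl⟩ := QuotientGroup.mk'_surjective K g
  obtain ⟨k, hk, n, hn, rfl⟩ := mem_sup_of_normal_left.mp (h ▸ mem_top x : x ∈ K ⊔ normalizer _)
  rw [map_mul, show QuotientGroup.mk' K k = 1 from (QuotientGroup.eq_one_iff k).mpr hk, one_mul]
  exact le_normalizer_map _ (mem_map_of_mem _ hn)

theorem isPGroup_quotient_centralizer_pow [Finite G] [hp : Fact p.Prime] {Q P : Subgroup G}
    [Q.Normal] (hP : IsPGroup p P) (h : centralizer (Q : Set G) ⊔ P = ⊤) (g : G) :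
    ∃ i, g ^ p ^ i ∈ centralizer (Q : Set G) := by
  obtain ⟨c, hc, x, hx, rfl⟩ :=
    mem_sup_of_normal_left.mp (h ▸ mem_top g : g ∈ centralizer (Q : Set G) ⊔ P)
  obtain ⟨i, hi⟩ := hP ⟨x, hx⟩
  refine ⟨i, ?_⟩
  rw [← QuotientGroup.eq_one_iff]
  change QuotientGroup.mk' (centralizer (Q : Set G)) ((c * x) ^ p ^ i) = 1
  rw [map_pow, map_mul, show QuotientGroup.mk' (centralizer (Q : Set G)) c = 1 from
    (QuotientGroup.eq_one_iff c).mpr hc, one_mul, ← map_pow,
    show x ^ p ^ i = 1 from congrArg Subtype.val hi, map_one]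

/-- If `Q = O_p(G)` does not contain its centralizer and `O_{p'}(G) = 1`, then `Q C_P(Q)` is
not normal. -/
theorem not_le_inf_centralizer [Finite G] [hp : Fact p.Prime] (P : Sylow p G)
    (hK : Cfsg.pPrimeCore p G = ⊥)
    (hc : ¬ centralizer (Cfsg.pCore p G : Set G) ≤ Cfsg.pCore p G) :
    ¬ (P : Subgroup G) ⊓ centralizer (Cfsg.pCore p G : Set G) ≤ Cfsg.pCore p G := by
  intro h
  apply hc
  haveI := HallCore.pCore_normal p G
  set Q := Cfsg.pCore p G
  set C := centralizer (Q : Set G)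
  set Z := ((P : Subgroup G) ⊓ C).subgroupOf C with hZ
  obtain ⟨O, hO, -, -, hcompl, -⟩ := CentralSylow.central_sylow (p := p) Z
    (fun x hx => mem_center_iff.mpr fun y => Subtype.ext
      (mem_centralizer_iff.mp y.2 (x : G) (h (mem_subgroupOf.mp hx))).symm)
    (P.isPGroup'.to_inf_left.comap_subtype)
    (CentralSylow.not_dvd_relIndex_normal P C)
  have hObot : O = ⊥ := by
    have h1 := HallCore.map_subtype_pPrimeCore (p := p) C
    rw [hO, hK, bot_inf_eq] at h1
    exact (map_eq_bot_iff_of_injective _ C.subtype_injective).mp h1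
  rw [hObot] at hcompl
  have hZtop : Z = ⊤ := isComplement'_bot_left.mp hcompl
  intro c hcC
  exact h (mem_subgroupOf.mp (hZtop ▸ mem_top (⟨c, hcC⟩ : C)))

/-- **The induction.** For a class `𝒞` of groups closed under subgroups and the quotients needed,
normality of `W D` in the constrained members gives control of strong fusion in all members. -/
theorem ctrl [hp : Fact p.Prime] (F : Functor'.{u} p) (𝒞 : ∀ (Y : Type u) [Group Y], Prop)
    (hsub : ∀ (Y : Type u) [Group Y] [Finite Y] (H : Subgroup Y), 𝒞 Y → 𝒞 H)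
    (hquo : ∀ (Y : Type u) [Group Y] [Finite Y], 𝒞 Y → 𝒞 (Y ⧸ Cfsg.pPrimeCore p Y))
    (hQ : ∀ (Y : Type u) [Group Y] [Finite Y], 𝒞 Y → Cfsg.pPrimeCore p Y = ⊥ →
      (∀ P : Sylow p Y, centralizer (Cfsg.pCore p Y : Set Y) ⊔ (P : Subgroup Y) = ⊤) →
      𝒞 (Y ⧸ Cfsg.pCore p Y))
    (hnorm : ∀ (Y : Type u) [Group Y] [Finite Y], 𝒞 Y →
      centralizer (Cfsg.pCore p Y : Set Y) ≤ Cfsg.pCore p Y →
      ∀ (P : Sylow p Y) (D : Subgroup Y), Cfsg.IsStronglyClosed D (P : Subgroup Y) →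
        (F.W D).Normal) :
    ∀ (Y : Type u) [Group Y] [Finite Y], 𝒞 Y → ∀ (P : Sylow p Y) (D : Subgroup Y),
      Cfsg.IsStronglyClosed D (P : Subgroup Y) → Ctrl (P : Subgroup Y) (F.W D) := by
  suffices key : ∀ (k : ℕ) (Y : Type u) [Group Y] [Finite Y], Nat.card Y = k → 𝒞 Y →
      ∀ (P : Sylow p Y) (D : Subgroup Y), Cfsg.IsStronglyClosed D (P : Subgroup Y) →
        Ctrl (P : Subgroup Y) (F.W D) from fun Y _ _ hY => key _ Y rfl hY
  intro k
  induction k using Nat.strong_induction_on with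
  | _ k ih =>
  intro Y _ _ hk hY P D hD
  have hPD := le_normalizer_of_isStronglyClosed hD
  have hDp : IsPGroup p D := P.isPGroup'.to_le hD.1
  have hPW : (P : Subgroup Y) ≤ normalizer (F.W D : Set Y) := hPD.trans (F.normalizer_le D)
  -- a proper subgroup
  have hlocal : ∀ H : Subgroup Y, H ≠ ⊤ → ¬ p ∣ ((P : Subgroup Y) ⊓ H).relIndex H →
      ∀ T g, g ∈ H → T ≤ (P : Subgroup Y) ⊓ H → cj g T ≤ (P : Subgroup Y) ⊓ H →
        ∃ m ∈ H ⊓ normalizer (F.W (D ⊓ H) : Set Y), ∀ t ∈ T, m * t * m⁻¹ = g * t * g⁻¹ :=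
    fun H hH hind => local_ctrl F P hD H hind
      (ih _ (hk ▸ HallSolvable.card_subgroup_lt hH) H rfl (hsub Y H hY))
  by_cases hK : Cfsg.pPrimeCore p Y = ⊥
  swap
  · set π := QuotientGroup.mk' (Cfsg.pPrimeCore p Y) with hπdef
    have hπ : Function.Surjective π := QuotientGroup.mk'_surjective _
    have hker : (Nat.card π.ker).Coprime p := by
      rw [hπdef, QuotientGroup.ker_mk']
      exact HallCore.coprime_card_pPrimeCore p Y
    refine ctrl_of_map hπ hker P ((F.W_le D).trans hD.1) hPW ?_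
    rw [← F.W_map π D (injOn_of_coprime hDp hker), ← Sylow.coe_mapSurjective hπ P]
    exact ih _ (hk ▸ HallSolvable.card_quotient_lt hK) _ rfl (hquo Y hY) (P.mapSurjective hπ) _
      (by rw [Sylow.coe_mapSurjective]; exact isStronglyClosed_map hπ P hD)
  haveI hQn := HallCore.pCore_normal p Y
  by_cases hQ0 : Cfsg.pCore p Y = ⊥
  · refine ctrl_of_local F P hD fun U hUP hU0 hfn T g hg hT hgT => hlocal _ ?_
      (not_dvd_relIndex_of_isFullyNormalized P hfn) T g hg hT hgT
    intro h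
    haveI := normalizer_eq_top_iff.mp h
    exact hU0 (le_bot_iff.mp ((HallCore.le_pCore (P.isPGroup'.to_le hUP)).trans hQ0.le))
  by_cases hc : centralizer (Cfsg.pCore p Y : Set Y) ≤ Cfsg.pCore p Y
  · intro T g _ _
    exact ⟨g, by rw [normalizer_eq_top_iff.mpr (hnorm Y hY hc P D hD)]; trivial, fun t _ => rfl⟩
  set Q := Cfsg.pCore p Y with hQdef
  have hQP : Q ≤ (P : Subgroup Y) := HallCore.pCore_le_sylow P
  have hQp : IsPGroup p Q := HallCore.isPGroup_pCore p Y
  by_cases hDQ : D ≤ Q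
  · intro T g _ _
    refine ⟨g, F.normalizer_le D ?_, fun t _ => rfl⟩
    have hDn : D.Normal := ⟨fun d hd y => hD.2 d hd y (hQP (hQn.conj_mem d (hDQ hd) y))⟩
    rw [normalizer_eq_top_iff.mpr hDn]
    trivial
  set CQ := centralizer (Q : Set Y) with hCQ
  set M := normalizer (F.W D : Set Y) with hM
  have hPMinf : ∀ H : Subgroup Y, (P : Subgroup Y) ≤ H → D ⊓ H = D :=
    fun H hH => inf_eq_left.mpr (hD.1.trans hH)
  have hPind : ∀ H : Subgroup Y, (P : Subgroup Y) ≤ H → ¬ p ∣ ((P : Subgroup Y) ⊓ H).relIndex H := by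
    intro H hH hd
    rw [inf_eq_left.mpr hH] at hd
    exact P.not_dvd_index (hd.trans (relIndex_dvd_index_of_le hH))
  -- elements of a proper subgroup containing `P`
  have hbigH : ∀ H : Subgroup Y, H ≠ ⊤ → (P : Subgroup Y) ≤ H → ∀ T g, g ∈ H →
      T ≤ (P : Subgroup Y) → cj g T ≤ (P : Subgroup Y) →
      ∃ m ∈ H ⊓ M, ∀ t ∈ T, m * t * m⁻¹ = g * t * g⁻¹ := by
    intro H hH hPH T g hg hT hgT
    have h1 := hlocal H hH (hPind H hPH) T g hg
      (le_inf hT (hT.trans hPH)) (le_inf hgT (hgT.trans hPH))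
    rwa [hPMinf H hPH] at h1
  refine alperin_induction_centric P (fun T g => ∃ m ∈ M, ∀ t ∈ T, m * t * m⁻¹ = g * t * g⁻¹)
    ?_ ?_ ?_ ?_ ?_
  · intro T g k' _ _ _ ⟨z, hz, hzt⟩ ⟨w, hw, hwt⟩
    refine ⟨w * z, mul_mem hw hz, fun t ht => ?_⟩
    calc w * z * t * (w * z)⁻¹ = w * (z * t * z⁻¹) * w⁻¹ := by group
      _ = w * (g * t * g⁻¹) * w⁻¹ := by rw [hzt t ht]
      _ = k' * (g * t * g⁻¹) * k'⁻¹ := hwt _ (conj_mem_cj ht)
      _ = k' * g * t * (k' * g)⁻¹ := by group
  · intro T g _ _ ⟨z, hz, hzt⟩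
    refine ⟨z⁻¹, inv_mem hz, fun t ht => ?_⟩
    obtain ⟨s, hs, rfl⟩ := ht
    simp only [MulEquiv.toMonoidHom_eq_coe, MonoidHom.coe_coe, MulAut.conj_apply]
    calc z⁻¹ * (g * s * g⁻¹) * z⁻¹⁻¹ = z⁻¹ * (z * s * z⁻¹) * z⁻¹⁻¹ := by rw [hzt s hs]
      _ = g⁻¹ * (g * s * g⁻¹) * g⁻¹⁻¹ := by group
  · exact fun S T g hST _ _ ⟨z, hz, hzt⟩ => ⟨z, hz, fun t ht => hzt t (hST ht)⟩
  · intro T _ c hc'
    refine ⟨1, one_mem _, fun t ht => ?_⟩
    rw [one_mul, inv_one, mul_one]
    exact (eq_mul_inv_of_mul_eq (mem_centralizer_iff.mp hc' t ht)).trans (by group)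
  intro T hT hfn hcen hop hbig n hn _
  have hQT : Q ≤ T := by
    have h0 : normalizer (T : Set Y) ⊓ Q ≤ T := hop _ inf_le_left
      (LocalBasics.le_normalizer_inf le_normalizer (LocalBasics.le_normalizer_of_normal _))
      (hQp.to_le inf_le_right)
    by_contra hnot
    have hlt : T < T ⊔ Q := lt_of_le_of_ne le_sup_left fun e => hnot (e ▸ le_sup_right)
    refine absurd (card_lt_card_inf_normalizer (P.isPGroup'.to_le (sup_le hT hQP)) hlt)
      (not_lt.mpr (card_le_of_le fun z hz => ?_))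
    obtain ⟨t, ht, q, hq, rfl⟩ := mem_sup_of_normal_right.mp (mem_inf.mp hz).1
    have h1 := mul_mem (inv_mem (le_normalizer ht)) (mem_inf.mp hz).2
    rw [inv_mul_cancel_left] at h1
    exact mul_mem ht (h0 ⟨h1, hq⟩)
  by_cases hH : CQ ⊔ (P : Subgroup Y) = ⊤
  · -- pass to the quotient by `Q`
    have htop : ∀ P' : Sylow p Y, CQ ⊔ (P' : Subgroup Y) = ⊤ := by
      intro P'
      obtain ⟨y, hy⟩ := MulAction.exists_smul_eq Y P P'
      rw [← hy, smul_coe_eq_cj, ← cj_eq_self (T := CQ) (g := y)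
        (by rw [normalizer_eq_top]; trivial), cj, cj, ← Subgroup.map_sup, hH,
        map_top_of_surjective _ (MulAut.conj y).surjective]
    set π := QuotientGroup.mk' Q with hπdef
    have hπ : Function.Surjective π := QuotientGroup.mk'_surjective _
    have hmemT : ∀ x, π x ∈ T.map π → x ∈ T := by
      intro x hx
      obtain ⟨t, ht, hte⟩ := hx
      obtain ⟨q, hq, hqe⟩ := (QuotientGroup.mk'_eq_mk' Q).mp hte
      exact hqe ▸ mul_mem ht (hQT hq)
    set Pb := P.mapSurjective hπ with hPb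
    have hPbc : (Pb : Subgroup (Y ⧸ Q)) = (P : Subgroup Y).map π := Sylow.coe_mapSurjective hπ P
    have hscb : Cfsg.IsStronglyClosed (D.map π) (Pb : Subgroup (Y ⧸ Q)) := by
      rw [hPbc]
      refine ⟨map_mono hD.1, ?_⟩
      rintro _ ⟨d, hd, rfl⟩ z hz
      obtain ⟨y, rfl⟩ := hπ z
      rw [← map_inv, ← map_mul, ← map_mul] at hz ⊢
      obtain ⟨x, hx, hxe⟩ := hz
      obtain ⟨q, hq, hqe⟩ := (QuotientGroup.mk'_eq_mk' Q).mp hxe
      exact ⟨_, hD.2 d hd y (hqe ▸ mul_mem hx (hQP hq)), rfl⟩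
    obtain ⟨mb, hmb, hmbe⟩ := ih _ (hk ▸ HallSolvable.card_quotient_lt hQ0) _ rfl
      (hQ Y hY hK htop) Pb (D.map π) hscb (T.map π) (π n) (hPbc ▸ map_mono hT) (by
        rw [hPbc]
        rintro _ ⟨_, ⟨t, ht, rfl⟩, rfl⟩
        exact ⟨n * t * n⁻¹, hT ((mem_normalizer_iff.mp hn t).mp ht), by simp⟩)
    set Wb := F.W (D.map π) with hWb
    set Ws := Wb.comap π with hWs
    have hDb0 : D.map π ≠ ⊥ := by
      rw [Ne, Subgroup.map_eq_bot_iff, hπdef, QuotientGroup.ker_mk']
      exact hDQ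
    have hWne : normalizer (Ws : Set Y) ≠ ⊤ := by
      intro h
      haveI := normalizer_eq_top_iff.mp h
      have h2 : Ws ≤ Q := HallCore.le_pCore (HallCore.isPGroup_comap_mk' hQp
        ((hDp.map π).to_le (F.W_le _)))
      refine F.W_ne_bot _ (hDp.map π) hDb0 (le_bot_iff.mp ?_)
      rw [← hWb, ← map_comap_eq_self_of_surjective hπ Wb, ← hWs]
      refine (map_mono h2).trans (le_of_eq ?_)
      rw [Subgroup.map_eq_bot_iff, hπdef, QuotientGroup.ker_mk']
    have hcomap : (normalizer (Wb : Set (Y ⧸ Q))).comap π = normalizer (Ws : Set Y) :=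
      comap_normalizer_eq_of_surjective Wb hπ
    have hPWs : (P : Subgroup Y) ≤ normalizer (Ws : Set Y) := by
      rw [← hcomap, ← map_le_iff_le_comap, ← hPbc]
      exact (le_normalizer_of_isStronglyClosed hscb).trans (F.normalizer_le _)
    obtain ⟨m0, rfl⟩ := hπ mb
    have hm0T : cj m0 T = T := by
      refine eq_of_le_of_card_ge ?_ (card_cj m0 T).ge
      rintro _ ⟨t, ht, rfl⟩
      refine hmemT _ ?_
      simp only [MulEquiv.toMonoidHom_eq_coe, MonoidHom.coe_coe, MulAut.conj_apply, map_mul,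
        map_inv]
      rw [hmbe (π t) (mem_map_of_mem π ht), ← map_inv, ← map_mul, ← map_mul]
      exact mem_map_of_mem π ((mem_normalizer_iff.mp hn t).mp ht)
    obtain ⟨m1, hm1, hm1e⟩ := hbigH _ hWne hPWs T m0
      (by rw [← hcomap]; exact hmb) hT (hm0T.le.trans hT)
    -- the rest acts as an element of `P`
    set N := normalizer (T : Set Y) with hN
    have hm0N : m0 ∈ N := mem_normalizer_of_cj_eq hm0T
    set d : Y := m0⁻¹ * n with hd
    have hdN : d ∈ N := mul_mem (inv_mem hm0N) hn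
    set C' := (centralizer (T : Set Y)).subgroupOf N with hC'
    set π' := QuotientGroup.mk' C' with hπ'
    set Dk := ((centralizer ((T.map π : Subgroup (Y ⧸ Q)) : Set (Y ⧸ Q))).comap π).subgroupOf N
      with hDk
    haveI hDkn : Dk.Normal := by
      refine LocalBasics.normal_subgroupOf_of_le ?_
      refine le_trans ?_ (le_normalizer_comap π)
      rw [← map_le_iff_le_comap]
      exact LocalBasics.le_normalizer_centralizer
        ((le_normalizer_map π).trans le_rfl)
    have hDkd : (⟨d, hdN⟩ : N) ∈ Dk := by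
      refine mem_subgroupOf.mpr (mem_centralizer_iff.mpr ?_)
      rintro _ ⟨t, ht, rfl⟩
      change π t * π d = π d * π t
      have h1 := hmbe (π t) (mem_map_of_mem π ht)
      rw [hd, map_mul, map_inv]
      calc π t * ((π m0)⁻¹ * π n) = (π m0)⁻¹ * (π m0 * π t * (π m0)⁻¹) * π n := by group
        _ = (π m0)⁻¹ * π n * π t := by rw [h1]; group
    have hDkp : IsPGroup p (Dk.map π') := by
      rintro ⟨_, w, hw, rfl⟩
      obtain ⟨i, hi⟩ := isPGroup_quotient_centralizer_pow P.isPGroup' hH (w : Y)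
      obtain ⟨l, hl⟩ := exists_pow_coprime (p := p) (w : Y)
      refine ⟨i + l, Subtype.ext ?_⟩
      rw [SubgroupClass.coe_pow, OneMemClass.coe_one]
      change (π' w) ^ p ^ (i + l) = 1
      rw [← map_pow, hπ', QuotientGroup.mk'_apply, QuotientGroup.eq_one_iff, hC', mem_subgroupOf,
        SubgroupClass.coe_pow]
      set h := (w : Y) ^ p ^ (i + l) with hh
      have hhQ : h ∈ CQ := by
        rw [hh, pow_add, pow_mul]
        exact pow_mem hi _
      have hhcop : (orderOf h).Coprime p := by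
        rw [hh, pow_add, mul_comm, pow_mul]
        exact coprime_pow hl _
      have hhN : h ∈ N := pow_mem w.2 _
      have hhT : π h ∈ centralizer ((T.map π : Subgroup (Y ⧸ Q)) : Set (Y ⧸ Q)) := by
        rw [hh, map_pow]
        exact pow_mem (mem_subgroupOf.mp hw) _
      refine mem_centralizer_iff.mpr fun t ht => ?_
      refine (OmegaCoprime.commute_of_fixed_comms (P.isPGroup'.to_le hT)
        (fun s hs => (mem_normalizer_iff.mp hhN s).mp hs) hhcop (fun s hs => ?_) t ht).eq.symm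
      have h1 : s⁻¹ * (h * s * h⁻¹) ∈ Q := by
        rw [← QuotientGroup.eq_one_iff]
        change π (s⁻¹ * (h * s * h⁻¹)) = 1
        rw [map_mul, map_mul, map_mul, map_inv, map_inv,
          ← mem_centralizer_iff.mp hhT (π s) (mem_map_of_mem π hs)]
        group
      exact (mem_centralizer_iff.mp hhQ _ h1).symm
    haveI : (Dk.map π').Normal := hDkn.map _ (QuotientGroup.mk'_surjective C')
    have hRS : IsPGroup p (((P : Subgroup Y) ⊓ N).subgroupOf N) :=
      (P.isPGroup'.to_inf_left).comap_subtype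
    have hmem := HallCore.pCore_le_sylow
      ((hRS.toSylow (not_dvd_relIndex_of_isFullyNormalized P hfn)).mapSurjective
        (QuotientGroup.mk'_surjective C'))
      (HallCore.le_pCore hDkp (mem_map_of_mem π' hDkd))
    rw [Sylow.coe_mapSurjective] at hmem
    obtain ⟨x, hx, hxe⟩ := hmem
    change x ∈ ((P : Subgroup Y) ⊓ N).subgroupOf N at hx
    obtain ⟨e, he, hee⟩ := (QuotientGroup.mk'_eq_mk' C').mp hxe
    refine ⟨m1 * (x : Y), mul_mem hm1.2 (hPW (mem_subgroupOf.mp hx).1), fun t ht => ?_⟩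
    have hde : (x : Y) * (e : Y) = d := congrArg Subtype.val hee
    have het : (e : Y) * t * (e : Y)⁻¹ = t := by
      rw [← mem_centralizer_iff.mp (mem_subgroupOf.mp he) t ht, mul_inv_cancel_right]
    have h2 : d * t * d⁻¹ = (x : Y) * t * (x : Y)⁻¹ := by
      rw [← hde]
      calc (x : Y) * e * t * ((x : Y) * e)⁻¹ = x * ((e : Y) * t * (e : Y)⁻¹) * (x : Y)⁻¹ := by
            group
        _ = _ := by rw [het]
    have hxT : (x : Y) * t * (x : Y)⁻¹ ∈ T := (mem_normalizer_iff.mp x.2 t).mp ht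
    calc m1 * x * t * (m1 * x)⁻¹ = m1 * ((x : Y) * t * (x : Y)⁻¹) * m1⁻¹ := by group
      _ = m0 * (d * t * d⁻¹) * m0⁻¹ := by rw [hm1e _ hxT, h2]
      _ = n * t * n⁻¹ := by rw [hd]; group
  · set N := normalizer (T : Set Y) with hN
    have hbig' : ∀ B : Subgroup Y, B ≤ (P : Subgroup Y) → ¬ B ≤ T → ∀ y ∈ N,
        y ∈ normalizer (B : Set Y) → ∃ m ∈ M, ∀ t ∈ T, m * t * m⁻¹ = y * t * y⁻¹ := by
      intro B hB hnot y hyT hyB
      have he : cj y (T ⊔ B) = T ⊔ B := by
        rw [cj, Subgroup.map_sup, ← cj, ← cj, cj_eq_self hyT, cj_eq_self hyB]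
      obtain ⟨m, hm, hme⟩ := hbig _ y (sup_le hT hB) (he.le.trans (sup_le hT hB))
        (Set.Finite.card_lt_card (Set.toFinite _)
          (show T < T ⊔ B from lt_of_le_of_ne le_sup_left fun e => hnot (le_sup_right.trans e.ge)))
      exact ⟨m, hm, fun t ht => hme t (mem_sup_left ht)⟩
    by_cases hCP : (P : Subgroup Y) ⊓ CQ ≤ T
    · -- `n` normalises `Q C_P(Q)`
      set S := Q ⊔ (P : Subgroup Y) ⊓ CQ with hS
      have hPS : (P : Subgroup Y) ≤ normalizer (S : Set Y) :=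
        LocalBasics.le_normalizer_sup le_normalizer_of_normal
          (LocalBasics.le_normalizer_inf le_normalizer le_normalizer_of_normal)
      have hnS : n ∈ normalizer (S : Set Y) := by
        have h1 : (P : Subgroup Y) ⊓ CQ = T ⊓ CQ :=
          le_antisymm (le_inf hCP inf_le_right) (inf_le_inf_right _ hT)
        rw [hS, h1]
        exact LocalBasics.le_normalizer_sup le_normalizer_of_normal
          (LocalBasics.le_normalizer_inf le_rfl le_normalizer_of_normal) hn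
      have hSne : normalizer (S : Set Y) ≠ ⊤ := by
        intro h
        haveI := normalizer_eq_top_iff.mp h
        exact not_le_inf_centralizer P hK hc
          (le_sup_right.trans (HallCore.le_pCore (P.isPGroup'.to_le (sup_le hQP inf_le_left))))
      obtain ⟨m, hm, hme⟩ := hbigH _ hSne hPS T n hnS hT (by rw [cj_eq_self hn]; exact hT)
      exact ⟨m, hm.2, hme⟩
    · -- Frattini inside `N(T)`
      set B := (P : Subgroup Y) ⊓ (N ⊓ CQ) with hB
      have hBT : ¬ B ≤ T := by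
        intro h
        apply hCP
        by_contra hnot
        set T2 := T ⊔ (P : Subgroup Y) ⊓ CQ with hT2
        have hlt : T < T2 := lt_of_le_of_ne le_sup_left fun e => hnot (e ▸ le_sup_right)
        have h3 := card_lt_card_inf_normalizer (P.isPGroup'.to_le (sup_le hT inf_le_left)) hlt
        refine absurd h3 (not_lt.mpr (card_le_of_le ?_))
        intro z hz
        obtain ⟨hz1, hz2⟩ := mem_inf.mp hz
        rw [← SetLike.mem_coe, coe_mul_of_left_le_normalizer_right T ((P : Subgroup Y) ⊓ CQ)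
          (hT.trans (LocalBasics.le_normalizer_inf le_normalizer le_normalizer_of_normal))] at hz1
        obtain ⟨t, ht, c, hc', rfl⟩ := hz1
        have hcN : c ∈ N := by
          have := mul_mem (inv_mem (le_normalizer ht)) hz2
          rwa [inv_mul_cancel_left] at this
        exact mul_mem ht (h ⟨hc'.1, hcN, hc'.2⟩)
      have hmax : ∀ S : Subgroup Y, S ≤ N ⊓ CQ → IsPGroup p S → Nat.card S ≤ Nat.card B := by
        intro S hS hSp
        obtain ⟨c, hc', hle⟩ := hfn S (hS.trans inf_le_left) hSp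
        rw [← card_cj c S]
        refine card_le_of_le (le_inf hle ((cj_mono c hS).trans (le_of_eq (cj_eq_self ?_))))
        exact LocalBasics.le_normalizer_inf le_normalizer le_normalizer_of_normal hc'
      have hnB : cj n B ≤ N ⊓ CQ := by
        refine (cj_mono n inf_le_right).trans (le_of_eq (cj_eq_self ?_))
        exact LocalBasics.le_normalizer_inf le_normalizer le_normalizer_of_normal hn
      obtain ⟨d, hd, hle⟩ := exists_cj_le_of_max P.isPGroup'.to_inf_left
        (isPGroup_cj P.isPGroup'.to_inf_left) inf_le_right hnB hmax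
      have hdn : d * n ∈ normalizer (B : Set Y) := by
        refine mem_normalizer_of_cj_eq (eq_of_le_of_card_ge ?_ (card_cj _ _).ge)
        rw [cj_mul]
        exact hle
      obtain ⟨m2, hm2, hm2e⟩ := hbig' B inf_le_left hBT (d * n) (mul_mem hd.1 hn) hdn
      obtain ⟨m3, hm3, hm3e⟩ := hbigH _ hH le_sup_right T d⁻¹
        (mem_sup_left (inv_mem hd.2)) hT (by rw [cj_eq_self (inv_mem hd.1)]; exact hT)
      refine ⟨m3 * m2, mul_mem hm3.2 hm2, fun t ht => ?_⟩
      have ht2 : d * n * t * (d * n)⁻¹ ∈ T :=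
        (mem_normalizer_iff.mp (mul_mem hd.1 hn) t).mp ht
      calc m3 * m2 * t * (m3 * m2)⁻¹ = m3 * (m2 * t * m2⁻¹) * m3⁻¹ := by group
        _ = d⁻¹ * (d * n * t * (d * n)⁻¹) * d⁻¹⁻¹ := by rw [hm2e t ht, hm3e _ ht2]
        _ = n * t * n⁻¹ := by group

end Cfsg.Agent.GlaubermanControl
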