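import Mathlib
import Cfsg.Prelude.Def_Solvable

/-!
# The Baer-Suzuki theorem (Alperin-Lyons proof)

* `exists_normal_pGroup_of_pairs` : the statement for a `p`-subgroup and its conjugates.
* `exists_inverted_odd` : an involution outside every normal `2`-subgroup inverts a
  nontrivial element of odd order.
-/

set_option autoImplicit false

namespace Cfsg.Agent.BaerSuzuki

variable {G : Type*} [Group G] [Finite G] {p : ℕ}

/-- The conjugates of `X`. -/
def conjs (X : Subgroup G) : Set (Subgroup G) :=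
  Set.range fun g : G => X.map (MulAut.conj g).toMonoidHom

lemma self_mem_conjs (X : Subgroup G) : X ∈ conjs X :=
  ⟨1, by simp only [map_one]; exact Subgroup.map_id X⟩

lemma map_conj_mul (X : Subgroup G) (a b : G) :
    (X.map (MulAut.conj b).toMonoidHom).map (MulAut.conj a).toMonoidHom =
      X.map (MulAut.conj (a * b)).toMonoidHom := by
  rw [Subgroup.map_map]
  congr 1
  ext x
  simp [mul_assoc]

lemma conj_mem_conjs {X A : Subgroup G} (hA : A ∈ conjs X) (a : G) :
    A.map (MulAut.conj a).toMonoidHom ∈ conjs X := by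
  obtain ⟨b, rfl⟩ := hA
  exact ⟨a * b, (map_conj_mul X a b).symm⟩

lemma pair_isPGroup {X : Subgroup G}
    (h : ∀ g : G, IsPGroup p ↥(X ⊔ X.map (MulAut.conj g).toMonoidHom))
    {A B : Subgroup G} (hA : A ∈ conjs X) (hB : B ∈ conjs X) :
    IsPGroup p ↥(A ⊔ B) := by
  obtain ⟨a, rfl⟩ := hA
  obtain ⟨b, rfl⟩ := hB
  have := (h (a⁻¹ * b)).map (MulAut.conj a).toMonoidHom
  rw [Subgroup.map_sup, map_conj_mul, mul_inv_cancel_left] at this
  exact this

lemma map_conj_eq_of_mem_normalizer {S : Subgroup G} {u : G}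
    (hu : u ∈ Subgroup.normalizer (S : Set G)) :
    S.map (MulAut.conj u).toMonoidHom = S := by
  ext z
  rw [Subgroup.mem_normalizer_iff] at hu
  constructor
  · rintro ⟨w, hw, rfl⟩
    exact (hu w).mp hw
  · intro hz
    refine ⟨u⁻¹ * z * u, ?_, by simp [mul_assoc]⟩
    refine (hu _).mpr ?_
    simpa [mul_assoc] using hz

/-- If a family of conjugates lying in a `p`-subgroup `P` is not contained in `S`, and `S` is
generated by such conjugates, then one of those outside `S` normalizes `S`. -/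
lemma exists_normalizing [Fact p.Prime] {X P S : Subgroup G} (hP : IsPGroup p P)
    (M0 : Set (Subgroup G)) (hM0 : M0 ⊆ conjs X) (hS : sSup M0 = S) (hSP : S ≤ P)
    {A : Subgroup G} (hA : A ∈ conjs X) (hAP : A ≤ P) (hAS : ¬ A ≤ S) :
    ∃ B ∈ conjs X, B ≤ P ∧ ¬ B ≤ S ∧ B ≤ Subgroup.normalizer (S : Set G) := by
  by_cases hN : P ≤ Subgroup.normalizer (S : Set G)
  · exact ⟨A, hA, hAP, hAS, hAP.trans hN⟩
  · set T : Subgroup G := P ⊓ Subgroup.normalizer (S : Set G) with hT
    have hTP : T < P := lt_of_le_of_ne inf_le_left (fun h => hN (h ▸ inf_le_right))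
    have hnc : NormalizerCondition ↥P := by
      haveI := hP.isNilpotent
      exact Group.normalizerCondition_of_isNilpotent
    have hTP' : T.subgroupOf P < ⊤ := by
      rw [lt_top_iff_ne_top, Ne, Subgroup.subgroupOf_eq_top]
      exact fun h => hTP.not_ge h
    obtain ⟨u, hu, huT⟩ := SetLike.exists_of_lt (hnc _ hTP')
    have huT' : (u : G) ∉ T := huT
    have huS : (u : G) ∉ Subgroup.normalizer (S : Set G) := fun h => huT' ⟨u.2, h⟩
    have hne : ¬ S.map (MulAut.conj (u : G)).toMonoidHom ≤ S := by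
      intro hle
      apply huS
      have hEq : S.map (MulAut.conj (u : G)).toMonoidHom = S :=
        Subgroup.eq_of_le_of_card_ge hle
          (Subgroup.card_map_of_injective (MulAut.conj (u : G)).injective).ge
      rw [Subgroup.mem_normalizer_iff]
      intro z
      constructor
      · intro hz
        have hmem : MulAut.conj (u : G) z ∈ S.map (MulAut.conj (u : G)).toMonoidHom :=
          Subgroup.mem_map_of_mem _ hz
        rw [hEq] at hmem
        simpa using hmem
      · intro hz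
        rw [← hEq] at hz
        obtain ⟨w, hw, hw'⟩ := hz
        simp only [MulEquiv.coe_toMonoidHom, MulAut.conj_apply] at hw'
        rwa [← mul_left_cancel (mul_right_cancel hw')]
    have : ∃ B ∈ M0, ¬ B.map (MulAut.conj (u : G)).toMonoidHom ≤ S := by
      by_contra hcon
      push Not at hcon
      apply hne
      rw [Subgroup.map_le_iff_le_comap]
      conv_lhs => rw [← hS]
      exact sSup_le fun B hB => Subgroup.map_le_iff_le_comap.mp (hcon B hB)
    obtain ⟨B, hB, hBS⟩ := this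
    have hBleS : B ≤ S := hS ▸ le_sSup hB
    refine ⟨_, conj_mem_conjs (hM0 hB) u, ?_, hBS, ?_⟩
    · rintro z ⟨w, hw, rfl⟩
      exact P.mul_mem (P.mul_mem u.2 (hSP (hBleS hw))) (P.inv_mem u.2)
    · have hBT : B ≤ T := le_inf (hBleS.trans hSP) (hBleS.trans Subgroup.le_normalizer)
      rintro z ⟨w, hw, rfl⟩
      have hmem := (Subgroup.mem_normalizer_iff.mp hu ⟨w, hSP (hBleS hw)⟩).mp (hBT hw)
      exact (show (u : G) * w * (u : G)⁻¹ ∈ T from hmem).2

/-- Baer-Suzuki. -/
theorem exists_normal_pGroup_of_pairs [Fact p.Prime] (X : Subgroup G) (hX : IsPGroup p X)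
    (h : ∀ g : G, IsPGroup p ↥(X ⊔ X.map (MulAut.conj g).toMonoidHom)) :
    ∃ N : Subgroup G, N.Normal ∧ IsPGroup p N ∧ X ≤ N := by
  classical
  let E : Set (Set (Subgroup G)) := {M | M ⊆ conjs X ∧ IsPGroup p ↥(sSup M)}
  have hEfin : E.Finite := Set.toFinite E
  have hconjP : ∀ A ∈ conjs X, IsPGroup p A := fun A hA => by
    have := pair_isPGroup h hA hA
    rwa [sup_idem] at this
  -- members of a maximal family are all conjugates below its join
  have hclosed : ∀ M, Maximal (· ∈ E) M → ∀ A ∈ conjs X, A ≤ sSup M → A ∈ M := by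
    intro M hM A hA hle
    have hins : insert A M ∈ E := by
      refine ⟨Set.insert_subset hA hM.1.1, ?_⟩
      rw [sSup_insert, sup_eq_right.mpr hle]
      exact hM.1.2
    exact hM.le_of_ge hins (Set.subset_insert A M) (Set.mem_insert A M)
  have hext : ∀ M0 ∈ E, ∃ M, Maximal (· ∈ E) M ∧ M0 ⊆ M := by
    intro M0 hM0
    obtain ⟨M, hle, hMax⟩ := hEfin.exists_le_maximal hM0
    exact ⟨M, hMax, hle⟩
  -- all maximal families coincide
  have huniq : ∀ M, Maximal (· ∈ E) M → ∀ N, Maximal (· ∈ E) N → M = N := by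
    by_contra hcon
    push Not at hcon
    obtain ⟨M₁, hM₁, N₁, hN₁, hne₁⟩ := hcon
    let Pr : Set (Set (Subgroup G) × Set (Subgroup G)) :=
      {x | Maximal (· ∈ E) x.1 ∧ Maximal (· ∈ E) x.2 ∧ x.1 ≠ x.2}
    obtain ⟨⟨M, N⟩, ⟨hM, hN, hne⟩, hmax⟩ :=
      Set.exists_max_image Pr (fun x => (x.1 ∩ x.2).ncard) (Set.toFinite Pr)
        ⟨(M₁, N₁), hM₁, hN₁, hne₁⟩
    dsimp only at hM hN hne
    set S : Subgroup G := sSup (M ∩ N) with hSdef
    have hSM : S ≤ sSup M := sSup_le_sSup Set.inter_subset_left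
    have hSN : S ≤ sSup N := sSup_le_sSup Set.inter_subset_right
    have hI : M ∩ N ⊆ conjs X := Set.inter_subset_left.trans hM.1.1
    have hfind : ∀ L, Maximal (· ∈ E) L → S ≤ sSup L → ¬ L ⊆ M ∩ N →
        ∃ A ∈ L, ¬ A ≤ S ∧ A ≤ Subgroup.normalizer (S : Set G) := by
      intro L hL hSL hnot
      obtain ⟨A, hAL, hAI⟩ := Set.not_subset.mp hnot
      have hAS : ¬ A ≤ S := fun hle => hAI
        ⟨hclosed M hM A (hL.1.1 hAL) (hle.trans hSM), hclosed N hN A (hL.1.1 hAL) (hle.trans hSN)⟩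
      obtain ⟨B, hB, hBP, hBS, hBn⟩ :=
        exists_normalizing hL.1.2 (M ∩ N) hI hSdef.symm hSL (hL.1.1 hAL) (le_sSup hAL) hAS
      exact ⟨B, hclosed L hL B hB hBP, hBS, hBn⟩
    have hMnot : ¬ M ⊆ M ∩ N := fun hsub =>
      hne ((hM.eq_of_le hN.1 (fun a ha => (hsub ha).2)))
    have hNnot : ¬ N ⊆ M ∩ N := fun hsub =>
      hne ((hN.eq_of_le hM.1 (fun a ha => (hsub ha).1)).symm)
    obtain ⟨A, hAM, hAS, hAn⟩ := hfind M hM hSM hMnot
    obtain ⟨B, hBN, hBS, hBn⟩ := hfind N hN hSN hNnot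
    have hR0 : insert A (insert B (M ∩ N)) ∈ E := by
      refine ⟨Set.insert_subset (hM.1.1 hAM) (Set.insert_subset (hN.1.1 hBN) hI), ?_⟩
      rw [sSup_insert, sSup_insert, ← sup_assoc]
      exact (pair_isPGroup h (hM.1.1 hAM) (hN.1.1 hBN)).to_sup_of_normal_right'
        (hM.1.2.to_le hSM) (sup_le hAn hBn)
    obtain ⟨R, hR, hsub⟩ := hext _ hR0
    have hA_R : A ∈ R := hsub (Set.mem_insert _ _)
    have hB_R : B ∈ R := hsub (Set.mem_insert_of_mem _ (Set.mem_insert _ _))
    have hI_R : M ∩ N ⊆ R := fun a ha => hsub (Set.mem_insert_of_mem _ (Set.mem_insert_of_mem _ ha))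
    have hkey : ∀ L, Maximal (· ∈ E) L → M ∩ N ⊆ L → ∀ C ∈ L, C ∈ R → ¬ C ≤ S → L = R := by
      intro L hL hIL C hCL hCR hCS
      by_contra hLR
      have h1 := hmax (L, R) ⟨hL, hR, hLR⟩
      dsimp only at h1
      have hlt : (M ∩ N).ncard < (L ∩ R).ncard :=
        Set.ncard_lt_ncard ⟨Set.subset_inter hIL hI_R,
          fun hsub' => hCS (le_sSup (hsub' ⟨hCL, hCR⟩))⟩ (Set.toFinite _)
      omega
    have e1 := hkey M hM Set.inter_subset_left A hAM hA_R hAS
    have e2 := hkey N hN Set.inter_subset_right B hBN hB_R hBS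
    exact hne (e1.trans e2.symm)
  -- hence there is a single maximal family, consisting of all conjugates
  obtain ⟨M, hM, hXM⟩ := hext {X} ⟨Set.singleton_subset_iff.mpr (self_mem_conjs X), by
    rwa [sSup_singleton]⟩
  have hall : conjs X ⊆ M := by
    intro A hA
    obtain ⟨M', hM', hAM'⟩ := hext {A} ⟨Set.singleton_subset_iff.mpr hA, by
      rw [sSup_singleton]; exact hconjP A hA⟩
    rw [huniq M hM M' hM']
    exact hAM' rfl
  refine ⟨sSup M, ?_, hM.1.2, le_sSup (hall (self_mem_conjs X))⟩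
  constructor
  intro n hn g
  have hle : (sSup M).map (MulAut.conj g).toMonoidHom ≤ sSup M := by
    rw [Subgroup.map_le_iff_le_comap]
    exact sSup_le fun A hA => Subgroup.map_le_iff_le_comap.mp
      (le_sSup (hall (conj_mem_conjs (hM.1.1 hA) g)))
  exact hle (Subgroup.mem_map_of_mem _ hn)

/-- An involution outside every normal `2`-subgroup inverts a nontrivial element of odd order. -/
theorem exists_inverted_odd (t : G) (ht : orderOf t = 2)
    (hO : ∀ N : Subgroup G, N.Normal → IsPGroup 2 N → t ∉ N) :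
    ∃ h : G, h ≠ 1 ∧ Odd (orderOf h) ∧ t * h * t⁻¹ = h⁻¹ := by
  haveI : Fact (Nat.Prime 2) := ⟨Nat.prime_two⟩
  have htt : t * t = 1 := by
    have := pow_orderOf_eq_one t
    rwa [ht, pow_two] at this
  have hX : IsPGroup 2 ↥(Subgroup.zpowers t) :=
    IsPGroup.of_card (n := 1) (by rw [Nat.card_zpowers, ht, pow_one])
  have hex : ∃ g : G, ¬ IsPGroup 2
      ↥(Subgroup.zpowers t ⊔ (Subgroup.zpowers t).map (MulAut.conj g).toMonoidHom) := by
    by_contra hcon
    push Not at hcon
    obtain ⟨N, hN, hNp, hle⟩ := exists_normal_pGroup_of_pairs _ hX hcon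
    exact hO N hN hNp (hle (Subgroup.mem_zpowers t))
  obtain ⟨g, hg⟩ := hex
  set s : G := g * t * g⁻¹ with hs
  have hss : s * s = 1 := by
    rw [hs, show g * t * g⁻¹ * (g * t * g⁻¹) = g * (t * t) * g⁻¹ by group, htt, mul_one, mul_inv_cancel]
  have hmap : (Subgroup.zpowers t).map (MulAut.conj g).toMonoidHom = Subgroup.zpowers s := by
    rw [MonoidHom.map_zpowers]; simp [hs]
  rw [hmap] at hg
  set r : G := t * s with hr
  have htr : t * r * t⁻¹ = r⁻¹ := by
    rw [hr, mul_inv_rev, inv_eq_of_mul_eq_one_right htt, inv_eq_of_mul_eq_one_right hss,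
      ← mul_assoc, htt, one_mul]
  obtain ⟨k, m, hm, hkm⟩ : ∃ k m : ℕ, Odd m ∧ orderOf r = 2 ^ k * m :=
    ⟨(orderOf r).factorization 2, ordCompl[2] (orderOf r),
      Nat.not_even_iff_odd.mp (fun he => Nat.not_dvd_ordCompl Nat.prime_two
        (orderOf_pos r).ne' (even_iff_two_dvd.mp he)),
      (Nat.ordProj_mul_ordCompl_eq_self _ 2).symm⟩
  refine ⟨r ^ 2 ^ k, ?_, ?_, ?_⟩
  · intro h1
    apply hg
    have hrp : IsPGroup 2 ↥(Subgroup.zpowers r) := by
      obtain ⟨j, -, hj⟩ := (Nat.dvd_prime_pow Nat.prime_two).mp (orderOf_dvd_of_pow_eq_one h1)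
      exact IsPGroup.of_card (n := j) (by rw [Nat.card_zpowers, hj])
    have hn : Subgroup.zpowers t ≤ Subgroup.normalizer (Subgroup.zpowers r : Set G) := by
      rw [Subgroup.zpowers_le]
      have hin : ∀ z ∈ Subgroup.zpowers r, t * z * t⁻¹ ∈ Subgroup.zpowers r := by
        rintro z ⟨i, rfl⟩
        refine ⟨-i, ?_⟩
        show r ^ (-i) = t * r ^ i * t⁻¹
        rw [← conj_zpow, htr, inv_zpow, zpow_neg]
      rw [Subgroup.mem_normalizer_iff]
      intro z
      refine ⟨hin z, fun hz => ?_⟩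
      have h2 := hin _ hz
      have e : t * (t * z * t⁻¹) * t⁻¹ = z := by
        rw [← mul_assoc, ← mul_assoc, htt, one_mul, mul_assoc, ← mul_inv_rev, htt, inv_one, mul_one]
      rwa [e] at h2
    refine (hX.to_sup_of_normal_right' hrp hn).to_le (sup_le le_sup_left ?_)
    rw [Subgroup.zpowers_le, show s = t * r by rw [hr, ← mul_assoc, htt, one_mul]]
    exact mul_mem (Subgroup.mem_sup_left (Subgroup.mem_zpowers t))
      (Subgroup.mem_sup_right (Subgroup.mem_zpowers r))
  · rw [orderOf_pow' r (by positivity), hkm, Nat.gcd_eq_right (dvd_mul_right (2 ^ k) m),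
      Nat.mul_div_cancel_left _ (by positivity)]
    exact hm
  · rw [← conj_pow, htr, inv_pow]

end Cfsg.Agent.BaerSuzuki
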