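import Mathlib

/-! Finite subgroups of `SL(2,F)` generated by two opposite transvections. -/

set_option autoImplicit false

open scoped MatrixGroups commutatorElement

namespace Cfsg.Agent.QuadraticSL2

variable {F : Type*} [Field F]

/-- The entries of a commutation relation with a fixed matrix. -/
theorem commute_entries (g x : SL(2, F)) (h : x * g = g * x) :
    g.1 0 1 * x.1 1 0 = g.1 1 0 * x.1 0 1 ∧
    g.1 0 1 * (x.1 0 0 - x.1 1 1) = x.1 0 1 * (g.1 0 0 - g.1 1 1) ∧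
    g.1 1 0 * (x.1 0 0 - x.1 1 1) = x.1 1 0 * (g.1 0 0 - g.1 1 1) := by
  have e := fun i j => congrArg (fun m : SL(2, F) => m.1 i j) h
  simp only [Matrix.SpecialLinearGroup.coe_mul, Matrix.mul_apply, Fin.sum_univ_two] at e
  have e00 := e 0 0
  have e01 := e 0 1
  have e10 := e 1 0
  exact ⟨by linear_combination (-1 : F) * e00, by linear_combination e01,
    by linear_combination (-1 : F) * e10⟩

theorem scalar_of_not {g : SL(2, F)} (h01 : g.1 0 1 = 0) (h10 : g.1 1 0 = 0)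
    (hd : g.1 0 0 = g.1 1 1) : g = 1 ∨ g = -1 := by
  have hdet : g.1 0 0 * g.1 1 1 - g.1 0 1 * g.1 1 0 = 1 := by
    rw [← Matrix.det_fin_two]; exact g.2
  rw [h01, h10, ← hd] at hdet
  have h2 : (g.1 0 0 - 1) * (g.1 0 0 + 1) = 0 := by linear_combination hdet
  rcases mul_eq_zero.1 h2 with h | h
  · left; ext i j; fin_cases i <;> fin_cases j <;>
      simp [h01, h10, ← hd, sub_eq_zero.1 h]
  · right; ext i j; fin_cases i <;> fin_cases j <;>
      simp [h01, h10, ← hd, eq_neg_of_add_eq_zero_left h]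

/-- The centraliser of a non-central element of `SL(2,F)` is commutative. -/
theorem commute_of_commute {g x y : SL(2, F)} (hg : g ≠ 1) (hg' : g ≠ -1)
    (hx : x * g = g * x) (hy : y * g = g * y) : x * y = y * x := by
  obtain ⟨a1, a2, a3⟩ := commute_entries g x hx
  obtain ⟨b1, b2, b3⟩ := commute_entries g y hy
  have key : x.1 0 1 * y.1 1 0 = y.1 0 1 * x.1 1 0 ∧
      x.1 0 1 * (y.1 0 0 - y.1 1 1) = y.1 0 1 * (x.1 0 0 - x.1 1 1) ∧
      x.1 1 0 * (y.1 0 0 - y.1 1 1) = y.1 1 0 * (x.1 0 0 - x.1 1 1) := by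
    by_cases h01 : g.1 0 1 = 0
    · rw [h01, zero_mul] at a1 a2 b1 b2
      by_cases h10 : g.1 1 0 = 0
      · rw [h10, zero_mul] at a3 b3
        by_cases hd : g.1 0 0 - g.1 1 1 = 0
        · exact absurd (scalar_of_not h01 h10 (sub_eq_zero.1 hd)) (by tauto)
        · have x1 := (mul_eq_zero.1 a2.symm).resolve_right hd
          have x2 := (mul_eq_zero.1 a3.symm).resolve_right hd
          have y1 := (mul_eq_zero.1 b2.symm).resolve_right hd
          have y2 := (mul_eq_zero.1 b3.symm).resolve_right hd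
          simp [x1, x2, y1, y2]
      · have x1 := (mul_eq_zero.1 a1.symm).resolve_left h10
        have y1 := (mul_eq_zero.1 b1.symm).resolve_left h10
        refine ⟨by simp [x1, y1], by simp [x1, y1], mul_left_cancel₀ h10 ?_⟩
        linear_combination x.1 1 0 * b3 - y.1 1 0 * a3
    · refine ⟨mul_left_cancel₀ h01 ?_, mul_left_cancel₀ h01 ?_, mul_left_cancel₀ h01 ?_⟩
      · linear_combination x.1 0 1 * b1 - y.1 0 1 * a1
      · linear_combination x.1 0 1 * b2 - y.1 0 1 * a2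
      · linear_combination x.1 1 0 * b2 - y.1 1 0 * a2
          + (g.1 0 0 - g.1 1 1) * (mul_left_cancel₀ h01 (show g.1 0 1 * (x.1 1 0 * y.1 0 1) =
            g.1 0 1 * (y.1 1 0 * x.1 0 1) by linear_combination y.1 0 1 * a1 - x.1 0 1 * b1))
  obtain ⟨k1, k2, k3⟩ := key
  ext i j
  fin_cases i <;> fin_cases j <;>
    simp only [Matrix.SpecialLinearGroup.coe_mul, Matrix.mul_apply, Fin.sum_univ_two,
      Fin.zero_eta, Fin.mk_one, Fin.isValue]
  · linear_combination k1
  · linear_combination (-1 : F) * k2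
  · linear_combination k3
  · linear_combination (-1 : F) * k1

theorem cayley (g : SL(2, F)) : g.1 * g.1 = g.1.trace • g.1 - 1 := by
  have hdet : g.1 0 0 * g.1 1 1 - g.1 0 1 * g.1 1 0 = 1 := by
    rw [← Matrix.det_fin_two]; exact g.2
  ext i j
  fin_cases i <;> fin_cases j <;>
    simp [Matrix.mul_apply, Fin.sum_univ_two, Matrix.trace_fin_two] <;>
    first | linear_combination (-1 : F) * hdet | ring

theorem eq_of_sq_eq_one (h2 : (2 : F) ≠ 0) {g : SL(2, F)} (h : g * g = 1) : g = 1 ∨ g = -1 := by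
  have h' : g.1 * g.1 = 1 := by rw [← Matrix.SpecialLinearGroup.coe_mul, h]; rfl
  rw [cayley] at h'
  have e : g.1.trace • g.1 = (2 : F) • (1 : Matrix (Fin 2) (Fin 2) F) := by
    rw [sub_eq_iff_eq_add] at h'; rw [h', two_smul]
  have e01 := congrFun (congrFun e 0) 1
  have e10 := congrFun (congrFun e 1) 0
  have e00 := congrFun (congrFun e 0) 0
  have e11 := congrFun (congrFun e 1) 1
  simp [smul_eq_mul] at e01 e10 e00 e11
  have ht : g.1.trace ≠ 0 := fun ht => h2 (by rw [ht, zero_mul] at e00; exact e00.symm)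
  exact scalar_of_not (e01.resolve_left ht) (e10.resolve_left ht)
    (mul_left_cancel₀ ht (e00.trans e11.symm))

variable {p : ℕ} [Fact p.Prime] [CharP F p]

theorem two_ne_zero' (hp : p ≠ 2) : (2 : F) ≠ 0 :=
  Ring.two_ne_zero (by rw [ringChar.eq F p]; exact hp)

theorem trace_of_pow_eq_one {g : SL(2, F)} {k : ℕ} (h : g ^ (p ^ k) = 1) : g.1.trace = 2 := by
  have h1 : g.1 ^ (p ^ k) = 1 := by rw [← Matrix.SpecialLinearGroup.coe_pow, h]; rfl
  have h2 : (g.1 - 1) ^ (p ^ k) = 0 := by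
    rw [sub_pow_char_pow_of_commute (p := p) _ (Commute.one_right g.1), h1, one_pow, sub_self]
  have h3 := Matrix.isNilpotent_trace_of_isNilpotent (⟨_, h2⟩ : IsNilpotent (g.1 - 1))
  rw [isNilpotent_iff_eq_zero] at h3
  simpa [Matrix.trace_sub, sub_eq_zero, Matrix.trace_one] using h3

theorem pow_eq_one_of_trace {g : SL(2, F)} (h : g.1.trace = 2) : g ^ p = 1 := by
  have hn : (g.1 - 1) ^ 2 = 0 := by
    have := cayley g
    rw [h] at this
    rw [sq, sub_mul, mul_sub, this, two_smul]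
    noncomm_ring
  have : (g.1 - 1) ^ p = 0 := pow_eq_zero_of_le (Fact.out : p.Prime).two_le hn
  rw [sub_pow_char_of_commute (p := p) (Commute.one_right g.1), one_pow, sub_eq_zero] at this
  exact Matrix.SpecialLinearGroup.ext _ _ fun i j => by
    rw [Matrix.SpecialLinearGroup.coe_pow, this]; rfl

/-- If `n g n⁻¹` commutes with non-unipotent `g`, then `n^2` commutes with `g`. -/
theorem conj_eq_or_eq_inv (h2 : (2 : F) ≠ 0) {g n : SL(2, F)} (hg : g ≠ 1) (hg' : g ≠ -1)
    (ht : g.1.trace * g.1.trace ≠ 4) (hc : (n * g * n⁻¹) * g = g * (n * g * n⁻¹)) :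
    n * g * n⁻¹ = g ∨ n * g * n⁻¹ = g⁻¹ := by
  set x := n * g * n⁻¹ with hx
  obtain ⟨a1, a2, a3⟩ := commute_entries g x hc
  have htr : x.1.trace = g.1.trace := by
    rw [hx, Matrix.SpecialLinearGroup.coe_mul, Matrix.trace_mul_comm,
      ← Matrix.SpecialLinearGroup.coe_mul, inv_mul_cancel_left]
  have hdg : g.1 0 0 * g.1 1 1 - g.1 0 1 * g.1 1 0 = 1 := by
    rw [← Matrix.det_fin_two]; exact g.2
  have hdx : x.1 0 0 * x.1 1 1 - x.1 0 1 * x.1 1 0 = 1 := by
    rw [← Matrix.det_fin_two]; exact x.2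
  rw [Matrix.trace_fin_two, Matrix.trace_fin_two] at htr
  rw [Matrix.trace_fin_two] at ht
  have hne : (g.1 0 0 - g.1 1 1) * (g.1 0 0 - g.1 1 1) + 4 * (g.1 0 1 * g.1 1 0) ≠ 0 :=
    fun h => ht (by linear_combination h + 4 * hdg)
  have hq : (x.1 0 0 - x.1 1 1) * (x.1 0 0 - x.1 1 1) + 4 * (x.1 0 1 * x.1 1 0) =
      (g.1 0 0 - g.1 1 1) * (g.1 0 0 - g.1 1 1) + 4 * (g.1 0 1 * g.1 1 0) := by
    linear_combination (x.1 0 0 + x.1 1 1 + g.1 0 0 + g.1 1 1) * htr - 4 * hdx + 4 * hdg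
  -- the trace-free part of `x` is `±` that of `g`
  set q := (g.1 0 0 - g.1 1 1) * (g.1 0 0 - g.1 1 1) + 4 * (g.1 0 1 * g.1 1 0) with hqd
  set β := ((g.1 0 0 - g.1 1 1) * (x.1 0 0 - x.1 1 1)
    + 2 * (g.1 0 1 * x.1 1 0 + g.1 1 0 * x.1 0 1)) / q with hβ
  have hb : β * q = (g.1 0 0 - g.1 1 1) * (x.1 0 0 - x.1 1 1)
    + 2 * (g.1 0 1 * x.1 1 0 + g.1 1 0 * x.1 0 1) := div_mul_cancel₀ _ hne
  have e1 : x.1 0 1 = β * g.1 0 1 := mul_right_cancel₀ hne (by
    rw [mul_assoc, mul_comm (g.1 0 1), ← mul_assoc, hb, hqd]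
    linear_combination (-(g.1 0 0 - g.1 1 1)) * a2 - 2 * g.1 0 1 * a1)
  have e2 : x.1 1 0 = β * g.1 1 0 := mul_right_cancel₀ hne (by
    rw [mul_assoc, mul_comm (g.1 1 0), ← mul_assoc, hb, hqd]
    linear_combination (-(g.1 0 0 - g.1 1 1)) * a3 + 2 * g.1 1 0 * a1)
  have e3 : x.1 0 0 - x.1 1 1 = β * (g.1 0 0 - g.1 1 1) := mul_right_cancel₀ hne (by
    rw [mul_assoc, mul_comm (g.1 0 0 - g.1 1 1), ← mul_assoc, hb, hqd]
    linear_combination 2 * g.1 1 0 * a2 + 2 * g.1 0 1 * a3)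
  have hb2 : (β - 1) * (β + 1) = 0 := mul_right_cancel₀ hne (by
    rw [e1, e2, e3] at hq
    rw [hqd, zero_mul]
    linear_combination hq)
  rcases mul_eq_zero.1 hb2 with h | h
  · left
    have hb1 : β = 1 := sub_eq_zero.1 h
    rw [hb1, one_mul] at e1 e2 e3
    ext i j; fin_cases i <;> fin_cases j <;> simp only [Fin.zero_eta, Fin.mk_one]
    · exact mul_left_cancel₀ h2 (by linear_combination e3 + htr)
    · exact e1
    · exact e2
    · exact mul_left_cancel₀ h2 (by linear_combination htr - e3)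
  · right
    have hb1 : β = -1 := eq_neg_of_add_eq_zero_left h
    rw [hb1, neg_one_mul] at e1 e2 e3
    ext i j; fin_cases i <;> fin_cases j <;>
      simp only [Fin.zero_eta, Fin.mk_one, Matrix.SpecialLinearGroup.coe_inv, Matrix.adjugate_fin_two,
        Matrix.of_apply, Matrix.cons_val', Matrix.cons_val_zero, Matrix.cons_val_one,
        Matrix.empty_val', Matrix.cons_val_fin_one]
    · exact mul_left_cancel₀ h2 (by linear_combination e3 + htr)
    · exact e1
    · exact e2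
    · exact mul_left_cancel₀ h2 (by linear_combination htr - e3)

end Cfsg.Agent.QuadraticSL2
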