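import Mathlib
import Cfsg.Agent.Lib.QuadraticSL2
import Cfsg.Agent.Lib.OffendersReplace

/-! A finite subgroup of `SL(2,F)` containing opposite transvections has even order. -/

set_option autoImplicit false

open scoped MatrixGroups commutatorElement

namespace Cfsg.Agent.QuadraticOdd

open QuadraticSL2

variable {F : Type*} [Field F] {p : ℕ} [Fact p.Prime] [CharP F p]

theorem conj_entries (g r : SL(2, F)) : (g * r * g⁻¹).1 = g.1 * r.1 * g.1.adjugate := by
  simp [Matrix.SpecialLinearGroup.coe_mul, Matrix.SpecialLinearGroup.coe_inv]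

/-- No nontrivial `p`-subgroup is normalised by two opposite transvections. -/
theorem normal_pgroup_bot (hp : p ≠ 2) {a b : SL(2, F)} {c : F} (hc : c ≠ 0)
    (ha : a.1 = !![1, c; 0, 1]) (hb : b.1 = !![1, 0; 1, 1]) {R : Subgroup SL(2, F)} [Finite R]
    (hR : IsPGroup p R) (haR : a ∈ Subgroup.normalizer (R : Set SL(2, F)))
    (hbR : b ∈ Subgroup.normalizer (R : Set SL(2, F))) : R = ⊥ := by
  by_contra hne
  haveI : Nontrivial R := (Subgroup.nontrivial_iff_ne_bot R).2 hne
  haveI := hR.center_nontrivial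
  obtain ⟨⟨r, hrz⟩, hr1⟩ := exists_ne (1 : Subgroup.center R)
  have hr1' : (r : SL(2, F)) ≠ 1 := fun h => hr1 (Subtype.ext (Subtype.ext h))
  obtain ⟨k, hk⟩ := hR r
  have htr := trace_of_pow_eq_one (p := p) (g := (r : SL(2, F))) (k := k)
    (by rw [← SubmonoidClass.coe_pow, hk]; rfl)
  have h2 := two_ne_zero' (F := F) hp
  have hcomm : ∀ g ∈ Subgroup.normalizer (R : Set SL(2, F)),
      (g * r * g⁻¹) * (r : SL(2, F)) = r * (g * r * g⁻¹) := fun g hg =>
    congrArg Subtype.val
      (Subgroup.mem_center_iff.1 hrz ⟨_, (Subgroup.mem_normalizer_iff.1 hg r).1 r.2⟩)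
  obtain ⟨a1, a2, a3⟩ := commute_entries _ _ (hcomm a haR)
  obtain ⟨b1, b2, b3⟩ := commute_entries _ _ (hcomm b hbR)
  simp only [conj_entries, ha, hb, Matrix.adjugate_fin_two, Matrix.mul_apply, Fin.sum_univ_two,
    Matrix.of_apply, Matrix.cons_val', Matrix.cons_val_zero, Matrix.cons_val_one,
    Matrix.empty_val', Matrix.cons_val_fin_one, Fin.isValue] at a1 a2 a3 b1 b2 b3
  have hdet : (r : SL(2, F)).1 0 0 * (r : SL(2, F)).1 1 1
      - (r : SL(2, F)).1 0 1 * (r : SL(2, F)).1 1 0 = 1 := by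
    rw [← Matrix.det_fin_two]; exact (r : SL(2, F)).2
  rw [Matrix.trace_fin_two] at htr
  generalize hx0 : (r : SL(2, F)).1 0 0 = x at *
  generalize hw0 : (r : SL(2, F)).1 1 1 = w at *
  generalize hy0 : (r : SL(2, F)).1 0 1 = y at *
  generalize hz0 : (r : SL(2, F)).1 1 0 = z at *
  have hz : z = 0 := by
    have : 2 * c * (z * z) = 0 := by linear_combination a3
    simpa [h2, hc] using this
  subst hz
  have hxw : x = w := by
    have : (x - w) * (x - w) = 0 := by linear_combination (x + w + 2) * htr - 4 * hdet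
    exact sub_eq_zero.1 (mul_self_eq_zero.1 this)
  subst hxw
  have hy : y = 0 := by
    have : y * y = 0 := by linear_combination (-1 : F) * b1
    exact mul_self_eq_zero.1 this
  rcases scalar_of_not (g := (r : SL(2, F))) (hy0.trans hy) hz0 (hx0.trans hw0.symm) with h | h
  · exact hr1' h
  · have : (r : SL(2, F)).1.trace = -2 := by
      rw [h, Matrix.SpecialLinearGroup.coe_neg, Matrix.trace_neg,
        Matrix.SpecialLinearGroup.coe_one, Matrix.trace_one]; simp
    have htr' : (r : SL(2, F)).1.trace = 2 :=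
      trace_of_pow_eq_one (p := p) (k := k) (by rw [← SubmonoidClass.coe_pow, hk]; rfl)
    rw [htr'] at this
    exact h2 (mul_left_cancel₀ h2 (by linear_combination this))

theorem disc_of_commute (hp : p ≠ 2) {g x : SL(2, F)} (hx : x ≠ 1) (hxt : x.1.trace = 2)
    (h : x * g = g * x) : g.1.trace * g.1.trace = 4 := by
  obtain ⟨a1, a2, a3⟩ := commute_entries g x h
  have hdg : g.1 0 0 * g.1 1 1 - g.1 0 1 * g.1 1 0 = 1 := by
    rw [← Matrix.det_fin_two]; exact g.2
  have hdx : x.1 0 0 * x.1 1 1 - x.1 0 1 * x.1 1 0 = 1 := by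
    rw [← Matrix.det_fin_two]; exact x.2
  have h2 := two_ne_zero' (F := F) hp
  rw [Matrix.trace_fin_two] at hxt ⊢
  have key : (g.1 0 0 - g.1 1 1) * (g.1 0 0 - g.1 1 1) + 4 * (g.1 0 1 * g.1 1 0) = 0 := by
    by_cases h01 : x.1 0 1 = 0
    · have hd : x.1 0 0 - x.1 1 1 = 0 := mul_self_eq_zero.1 (by
        linear_combination (x.1 0 0 + x.1 1 1 + 2) * hxt - 4 * hdx - 4 * x.1 1 0 * h01)
      by_cases h10 : x.1 1 0 = 0
      · rcases scalar_of_not h01 h10 (sub_eq_zero.1 hd) with rfl | rfl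
        · exact absurd rfl hx
        · exfalso
          simp at hxt
          exact h2 (mul_left_cancel₀ h2 (by linear_combination (-1 : F) * hxt))
      · have g01 : g.1 0 1 = 0 := by
          rw [h01] at a1; simpa [h10] using a1
        have gd : g.1 0 0 - g.1 1 1 = 0 := by
          rw [hd] at a3; simpa [h10] using a3.symm
        rw [g01, gd]; ring
    · refine mul_left_cancel₀ (mul_ne_zero h01 h01) ?_
      linear_combination (-((g.1 0 1 * (x.1 0 0 - x.1 1 1))
          + x.1 0 1 * (g.1 0 0 - g.1 1 1))) * a2 - 4 * g.1 0 1 * x.1 0 1 * a1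
        + g.1 0 1 * g.1 0 1 * ((x.1 0 0 + x.1 1 1 + 2) * hxt - 4 * hdx)
  linear_combination key + 4 * hdg

/-- Size of the set of non-identity elements conjugate into a TI centraliser. -/
theorem card_classSet {G : Type*} [Group G] [Finite G] (A : Subgroup G)
    (hA : ∀ x ∈ A, x ≠ 1 → Subgroup.centralizer {x} = A) :
    Nat.card {x : G // x ≠ 1 ∧ ∃ h : G, h⁻¹ * x * h ∈ A} =
      (Subgroup.normalizer (A : Set G)).index * (Nat.card A - 1) := by
  classical
  haveI := Fintype.ofFinite A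
  have e1 : Nat.card {x : A // x ≠ 1} = Nat.card A - 1 := by
    rw [Nat.card_eq_fintype_card, Nat.card_eq_fintype_card, Fintype.card_subtype_compl,
      Fintype.card_subtype_eq]
  rw [← e1, Subgroup.index, ← Nat.card_prod]
  refine (Nat.card_eq_of_bijective
    (fun qx : (G ⧸ Subgroup.normalizer (A : Set G)) × {x : A // x ≠ 1} =>
      (⟨qx.1.out * ((qx.2.1 : A) : G) * qx.1.out⁻¹, ?_, qx.1.out, ?_⟩ :
        {x : G // x ≠ 1 ∧ ∃ h : G, h⁻¹ * x * h ∈ A})) ⟨?_, ?_⟩).symm
  · intro h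
    apply qx.2.2
    exact Subtype.ext (conj_eq_one_iff.1 h)
  · simp [mul_assoc]
  · rintro ⟨q, ⟨x, hx⟩, hx1⟩ ⟨r, ⟨y, hy⟩, hy1⟩ h
    simp only [Subtype.mk.injEq] at h
    have hx' : x ≠ 1 := fun h => hx1 (Subtype.ext h)
    have hy' : y ≠ 1 := fun h => hy1 (Subtype.ext h)
    set n := r.out⁻¹ * q.out with hn
    have hxy : n * x * n⁻¹ = y := by
      have e := congrArg (fun t => r.out⁻¹ * t * r.out) h
      simp only [mul_assoc, inv_mul_cancel_left, inv_mul_cancel, mul_one] at e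
      rw [hn, mul_inv_rev, inv_inv]
      simpa [mul_assoc] using e
    have hnN : n ∈ Subgroup.normalizer (A : Set G) := by
      rw [Subgroup.mem_normalizer_iff]
      intro z
      rw [← hA x hx hx', Subgroup.mem_centralizer_singleton_iff]
      conv_rhs => rw [hA x hx hx', ← hA y hy hy', Subgroup.mem_centralizer_singleton_iff, ← hxy]
      constructor
      · intro hz
        calc n * z * n⁻¹ * (n * x * n⁻¹) = n * (z * x) * n⁻¹ := by group
          _ = n * (x * z) * n⁻¹ := by rw [hz]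
          _ = n * x * n⁻¹ * (n * z * n⁻¹) := by group
      · intro hz
        have := congrArg (fun t => n⁻¹ * t * n) hz
        group at this ⊢
        exact this
    have hqr : q = r := by
      have h1 : QuotientGroup.mk r.out = (QuotientGroup.mk q.out :
          G ⧸ Subgroup.normalizer (A : Set G)) := QuotientGroup.eq.2 hnN
      rwa [QuotientGroup.out_eq', QuotientGroup.out_eq', eq_comm] at h1
    subst hqr
    rw [hn, inv_mul_cancel, one_mul, inv_one, mul_one] at hxy
    subst hxy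
    rfl
  · rintro ⟨x, hx1, h, hh⟩
    obtain ⟨n, hn⟩ := QuotientGroup.mk_out_eq_mul (Subgroup.normalizer (A : Set G)) h
    set q := (QuotientGroup.mk h : G ⧸ Subgroup.normalizer (A : Set G)) with hq
    have hm : q.out⁻¹ * x * q.out ∈ A := by
      rw [hn]
      have := (Subgroup.mem_normalizer_iff''.1 n.2 _).1 hh
      group at this ⊢
      exact this
    refine ⟨(q, ⟨⟨_, hm⟩, ?_⟩), ?_⟩
    · intro he
      apply hx1
      have := congrArg Subtype.val he
      simp only [Subgroup.coe_one] at this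
      exact conj_eq_one_iff.1 (by simpa using this : q.out⁻¹ * x * (q.out⁻¹)⁻¹ = 1)
    · simp [mul_assoc]

theorem odd_false (hp : p ≠ 2) (G : Subgroup SL(2, F)) [Finite G] {a b : SL(2, F)} {c : F}
    (hc : c ≠ 0) (ha : a.1 = !![1, c; 0, 1]) (hb : b.1 = !![1, 0; 1, 1]) (haG : a ∈ G)
    (hbG : b ∈ G) (hodd : Odd (Nat.card G)) : False := by
  classical
  have h2 := two_ne_zero' (F := F) hp
  have hneg : (-1 : SL(2, F)) ∉ G := by
    intro h
    have h1 : orderOf (⟨-1, h⟩ : G) ∣ 2 :=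
      orderOf_dvd_of_pow_eq_one (Subtype.ext (by simp))
    rcases (Nat.dvd_prime Nat.prime_two).1 h1 with h' | h'
    · have := congrArg (fun g : G => (g : SL(2, F)).1 0 0) (orderOf_eq_one_iff.1 h')
      simp at this
      exact h2 (by linear_combination (-1 : F) * this)
    · have h3 := orderOf_dvd_natCard (⟨-1, h⟩ : G)
      rw [h'] at h3
      exact (Nat.not_even_iff_odd.2 hodd) (even_iff_two_dvd.2 h3)
  have hne1 : ∀ x : G, x ≠ 1 → (x : SL(2, F)) ≠ 1 ∧ (x : SL(2, F)) ≠ -1 := fun x hx =>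
    ⟨fun h => hx (Subtype.ext h), fun h => hneg (h ▸ x.2)⟩
  set ā : G := ⟨a, haG⟩ with hā
  set b' : G := ⟨b, hbG⟩ with hb'
  have ha1 : ā ≠ 1 := fun h => hc (by
    have := congrArg (fun g : G => (g : SL(2, F)).1 0 1) h
    simpa [hā, ha] using this)
  set K : G → Subgroup G := fun g => Subgroup.centralizer {g} with hK
  have hKcomm : ∀ g : G, g ≠ 1 → ∀ x ∈ K g, ∀ y ∈ K g, x * y = y * x := by
    intro g hg x hx y hy
    rw [hK, Subgroup.mem_centralizer_singleton_iff] at hx hy
    exact Subtype.ext (commute_of_commute (hne1 g hg).1 (hne1 g hg).2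
      (congrArg Subtype.val hx) (congrArg Subtype.val hy))
  have hTI : ∀ g : G, g ≠ 1 → ∀ x ∈ K g, x ≠ 1 → K x = K g := by
    intro g hg x hx hx1
    have hgx : g ∈ K x := by
      rw [hK, Subgroup.mem_centralizer_singleton_iff] at hx ⊢
      exact hx.symm
    apply le_antisymm
    · intro y hy
      show y ∈ Subgroup.centralizer {g}
      rw [Subgroup.mem_centralizer_singleton_iff]
      exact hKcomm x hx1 y hy g hgx
    · intro y hy
      show y ∈ Subgroup.centralizer {x}
      rw [Subgroup.mem_centralizer_singleton_iff]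
      exact hKcomm g hg y hy x hx
  have hself : ∀ g : G, g ∈ K g := fun g => Subgroup.mem_centralizer_singleton_iff.2 rfl
  have hdisc : ∀ g : G, (g : SL(2, F)).1.trace * (g : SL(2, F)).1.trace = 4 →
      (g : SL(2, F)).1.trace = 2 := by
    intro g hg
    have : ((g : SL(2, F)).1.trace - 2) * ((g : SL(2, F)).1.trace + 2) = 0 := by
      linear_combination hg
    refine (mul_eq_zero.1 this).elim sub_eq_zero.1 fun h => ?_
    exfalso
    have hq : (-(g : SL(2, F))).1.trace = 2 := by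
      rw [Matrix.SpecialLinearGroup.coe_neg, Matrix.trace_neg]
      linear_combination (-1 : F) * h
    have := pow_eq_one_of_trace (p := p) hq
    rw [Odd.neg_pow ((Fact.out : p.Prime).odd_of_ne_two hp)] at this
    apply hneg
    have h' : ((g : SL(2, F))) ^ p = -1 := by
      rw [← this]; exact (neg_neg _).symm
    rw [← h']; exact pow_mem g.2 p
  set U : G → Prop := fun g => (g : SL(2, F)).1.trace = 2 with hU
  have hUK : ∀ g : G, g ≠ 1 → U g → ∀ x ∈ K g, U x := by
    intro g hg hgu x hx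
    refine hdisc x (disc_of_commute (p := p) hp (hne1 g hg).1 hgu ?_)
    rw [hK, Subgroup.mem_centralizer_singleton_iff] at hx
    exact (congrArg Subtype.val hx).symm
  have hUpow : ∀ g : G, U g → g ^ p = 1 := fun g hg => Subtype.ext (pow_eq_one_of_trace hg)
  have hUP : ∀ g : G, (∃ k : ℕ, g ^ p ^ k = 1) → U g := by
    rintro g ⟨k, hk⟩
    refine trace_of_pow_eq_one (p := p) (k := k) ?_
    rw [← SubmonoidClass.coe_pow, hk]; rfl
  have haU : U ā := by
    show (a : SL(2, F)).1.trace = 2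
    rw [ha, Matrix.trace_fin_two]; simp; ring
  set P := K ā with hPdef
  have hPp : IsPGroup p P := fun x =>
    ⟨1, Subtype.ext (by rw [pow_one]; exact hUpow x (hUK ā ha1 haU x x.2))⟩
  -- unipotent centralisers are Sylow subgroups
  have hSyl : ∀ g : G, g ≠ 1 → U g → ∃ T : Sylow p G, (T : Subgroup G) = K g := by
    intro g hg hgu
    have hgp : IsPGroup p (K g) := fun x =>
      ⟨1, Subtype.ext (by rw [pow_one]; exact hUpow x (hUK g hg hgu x x.2))⟩
    obtain ⟨T, hT⟩ := hgp.exists_le_sylow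
    refine ⟨T, le_antisymm ?_ hT⟩
    have hgT : g ∈ (T : Subgroup G) := hT (hself g)
    haveI : Nontrivial T :=
      (Subgroup.nontrivial_iff_exists_ne_one _).2 ⟨g, hgT, hg⟩
    haveI := T.isPGroup'.center_nontrivial
    obtain ⟨⟨z, hzc⟩, hz1⟩ := exists_ne (1 : Subgroup.center T)
    have hz1' : (z : G) ≠ 1 := fun h => hz1 (Subtype.ext (Subtype.ext h))
    have hzg : (z : G) ∈ K g := Subgroup.mem_centralizer_singleton_iff.2
      ((congrArg Subtype.val (Subgroup.mem_center_iff.1 hzc ⟨g, hgT⟩)).symm)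
    rw [← hTI g hg z hzg hz1']
    intro t ht
    exact Subgroup.mem_centralizer_singleton_iff.2
      (congrArg Subtype.val (Subgroup.mem_center_iff.1 hzc ⟨t, ht⟩))
  obtain ⟨T₀, hT₀⟩ := hSyl ā ha1 haU
  set SU : Subgroup G → Set G := fun A => {x : G | x ≠ 1 ∧ ∃ h : G, h⁻¹ * x * h ∈ A} with hSU
  have hcardSU : ∀ g : G, g ≠ 1 → (SU (K g)).ncard =
      (Subgroup.normalizer (K g : Set G)).index * (Nat.card (K g) - 1) := fun g hg => by
    rw [← Nat.card_coe_set_eq]
    exact card_classSet (K g) fun x hx hx1 => hTI g hg x hx hx1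
  have hUclass : ∀ x : G, x ≠ 1 → U x → x ∈ SU P := by
    intro x hx hxu
    obtain ⟨T, hT⟩ := hSyl x hx hxu
    obtain ⟨h, hh⟩ := MulAction.exists_smul_eq G T T₀
    refine ⟨hx, h⁻¹, ?_⟩
    rw [hPdef, ← hT₀, ← hh, inv_inv, Sylow.coe_subgroup_smul]
    have := Subgroup.smul_mem_pointwise_smul x (MulAut.conj h) (T : Subgroup G) (hT ▸ hself x)
    simpa using this
  have hclassU : ∀ x ∈ SU P, U x := by
    rintro x ⟨hx, h, hh⟩
    refine hUP x ⟨1, ?_⟩
    have := hUpow _ (hUK ā ha1 haU _ hh)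
    have e := conj_pow (i := p) (a := h⁻¹) (b := x)
    rw [inv_inv, this] at e
    rw [pow_one]
    have := congrArg (fun t => h * t * h⁻¹) e
    simpa [mul_assoc] using this.symm
  -- normalisers of other centralisers
  have hNA : ∀ g : G, ¬ U g → Subgroup.normalizer (K g : Set G) = K g := by
    intro g hg
    have hg1 : g ≠ 1 := fun h => hg (hUP g ⟨0, by rw [h, one_pow]⟩)
    refine le_antisymm (fun n hn => ?_) Subgroup.le_normalizer
    have h1 : n * g * n⁻¹ ∈ K g := (Subgroup.mem_normalizer_iff.1 hn g).1 (hself g)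
    have h1' := Subgroup.mem_centralizer_singleton_iff.1 h1
    have hn2 : n ^ 2 ∈ K g := by
      refine Subgroup.mem_centralizer_singleton_iff.2 ?_
      rcases conj_eq_or_eq_inv h2 (hne1 g hg1).1 (hne1 g hg1).2 (fun h => hg (hdisc g h))
        (congrArg Subtype.val h1') with h | h
      · have h' : n * g * n⁻¹ = g := Subtype.ext h
        rw [mul_inv_eq_iff_eq_mul] at h'
        rw [sq, mul_assoc, h', ← mul_assoc, h', mul_assoc]
      · have h' : n * g * n⁻¹ = g⁻¹ := Subtype.ext h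
        have h'' : n * g⁻¹ * n⁻¹ = g := by
          have := congrArg (·⁻¹) h'
          simpa [mul_assoc] using this
        have h3 : n ^ 2 * g * (n ^ 2)⁻¹ = g := by
          calc n ^ 2 * g * (n ^ 2)⁻¹ = n * (n * g * n⁻¹) * n⁻¹ := by rw [sq]; group
            _ = g := by rw [h', h'']
        exact mul_inv_eq_iff_eq_mul.1 h3
    have hon : Odd (orderOf n) := hodd.of_dvd_nat (orderOf_dvd_natCard _)
    obtain ⟨m, hm⟩ := hon
    have : n = (n ^ 2) ^ (m + 1) := by
      rw [← pow_mul, show 2 * (m + 1) = orderOf n + 1 by omega, pow_succ, pow_orderOf_eq_one,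
        one_mul]
    rw [this]; exact pow_mem hn2 _
  have hdisjA : ∀ g : G, ¬ U g → ∀ x ∈ SU (K g), ¬ U x := by
    rintro g hg x ⟨hx, h, hh⟩ hxu
    have hg1 : g ≠ 1 := fun h => hg (hUP g ⟨0, by rw [h, one_pow]⟩)
    have hy : h⁻¹ * x * h ≠ 1 := fun e => hx (conj_eq_one_iff.1 (by simpa using e : h⁻¹ * x * (h⁻¹)⁻¹ = 1))
    have hyu : U (h⁻¹ * x * h) := by
      refine hUP _ ⟨1, ?_⟩
      have e := conj_pow (i := p) (a := h⁻¹) (b := x)
      rw [inv_inv, hUpow x hxu] at e
      rw [pow_one, e]; simp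
    exact hg (hUK _ hy hyu g (by rw [hTI g hg1 _ hh hy]; exact hself g))
  have hodd3 : ∀ g : G, g ≠ 1 → 3 ≤ Nat.card (K g) := by
    intro g hg
    have h1 : 1 < Nat.card (K g) :=
      (Subgroup.one_lt_card_iff_ne_bot _).2 fun h => hg (by simpa [h] using hself g)
    obtain ⟨m, hm⟩ := hodd.of_dvd_nat (Subgroup.card_subgroup_dvd_card (K g))
    omega
  -- `G` is not a `p`-group
  have hGnp : ¬ IsPGroup p G := by
    intro h
    have := normal_pgroup_bot hp hc ha hb h (Subgroup.le_normalizer haG) (Subgroup.le_normalizer hbG)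
    rw [this, Subgroup.mem_bot] at haG
    exact ha1 (Subtype.ext haG)
  obtain ⟨g₀, hg₀⟩ : ∃ g : G, ¬ U g := by
    by_contra h
    push_neg at h
    exact hGnp fun x => ⟨1, by rw [pow_one]; exact hUpow x (h x)⟩
  have hg₀1 : g₀ ≠ 1 := fun h => hg₀ (hUP g₀ ⟨0, by rw [h, one_pow]⟩)
  set A := K g₀ with hAdef
  have hG3 : 0 < Nat.card G := Nat.card_pos
  have hclass : ∀ g : G, ¬ U g → (SU (K g)).ncard + (K g).index = Nat.card G ∧
      3 * (K g).index ≤ Nat.card G := by
    intro g hg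
    have hg1 : g ≠ 1 := fun h => hg (hUP g ⟨0, by rw [h, one_pow]⟩)
    have h3 := hodd3 g hg1
    rw [hcardSU g hg1, hNA g hg, ← Subgroup.card_mul_index (K g)]
    obtain ⟨m, hm⟩ : ∃ m, Nat.card (K g) = m + 3 := ⟨Nat.card (K g) - 3, by omega⟩
    rw [hm, show m + 3 - 1 = m + 2 by omega]
    constructor
    · ring
    · nlinarith
  have hcover : ∀ x : G, ¬ U x → x ∈ SU A := by
    intro x hx
    by_contra hxA
    have hx1 : x ≠ 1 := fun h => hx (hUP x ⟨0, by rw [h, one_pow]⟩)
    have hd : Disjoint (SU A) (SU (K x)) := by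
      rw [Set.disjoint_left]
      rintro y ⟨hy, h, hh⟩ ⟨_, k, hk⟩
      apply hxA
      refine ⟨hx1, k⁻¹ * h, ?_⟩
      have hy' : h⁻¹ * y * h ≠ 1 := fun e =>
        hy (conj_eq_one_iff.1 (by simpa using e : h⁻¹ * y * (h⁻¹)⁻¹ = 1))
      have hk' : k⁻¹ * y * k ≠ 1 := fun e =>
        hy (conj_eq_one_iff.1 (by simpa using e : k⁻¹ * y * (k⁻¹)⁻¹ = 1))
      have e2 : K (k⁻¹ * y * k) = K x := hTI x hx1 _ hk hk'
      have hxy : x * (k⁻¹ * y * k) = (k⁻¹ * y * k) * x :=
        (Subgroup.mem_centralizer_singleton_iff.1 (e2 ▸ hself x : x ∈ K (k⁻¹ * y * k)))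
      have e1 : K (h⁻¹ * y * h) = A := hTI g₀ hg₀1 _ hh hy'
      rw [← e1]
      refine Subgroup.mem_centralizer_singleton_iff.2 ?_
      calc (k⁻¹ * h)⁻¹ * x * (k⁻¹ * h) * (h⁻¹ * y * h)
          = h⁻¹ * (k * (x * (k⁻¹ * y * k)) * k⁻¹) * h := by group
        _ = h⁻¹ * (k * ((k⁻¹ * y * k) * x) * k⁻¹) * h := by rw [hxy]
        _ = h⁻¹ * y * h * ((k⁻¹ * h)⁻¹ * x * (k⁻¹ * h)) := by group
    have e := Set.ncard_union_eq hd (Set.toFinite _) (Set.toFinite _)
    have hle := Set.ncard_le_card (SU A ∪ SU (K x))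
    obtain ⟨c1, c2⟩ := hclass g₀ hg₀
    obtain ⟨c3, c4⟩ := hclass x hx
    rw [← hAdef] at c1 c2
    omega
  -- the total count
  have htot : 1 + (SU P).ncard + (SU A).ncard = Nat.card G := by
    have hd1 : Disjoint (SU P) (SU A) := Set.disjoint_left.2 fun x hxP hxA =>
      hdisjA g₀ hg₀ x hxA (hclassU x hxP)
    have hd2 : Disjoint ({1} : Set G) (SU P ∪ SU A) := by
      rw [Set.disjoint_singleton_left]
      rintro (⟨h, -⟩ | ⟨h, -⟩) <;> exact h rfl
    have hu : ({1} : Set G) ∪ (SU P ∪ SU A) = Set.univ := by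
      refine Set.eq_univ_of_forall fun x => ?_
      by_cases hx : x = 1
      · exact Or.inl hx
      by_cases hxu : U x
      · exact Or.inr (Or.inl (hUclass x hx hxu))
      · exact Or.inr (Or.inr (hcover x hxu))
    rw [← Set.ncard_univ, ← hu, Set.ncard_union_eq hd2 (Set.toFinite _) (Set.toFinite _),
      Set.ncard_union_eq hd1 (Set.toFinite _) (Set.toFinite _), Set.ncard_singleton, add_assoc]
  set N := Subgroup.normalizer (P : Set G) with hN
  have hSP : (SU P).ncard = N.index * (Nat.card P - 1) := by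
    rw [hPdef, hcardSU ā ha1]
  have hiA : A.index = 1 + N.index * (Nat.card P - 1) := by
    have := (hclass g₀ hg₀).1
    rw [← hAdef] at this
    omega
  -- `N` is bigger than `P`
  have hP3 : 3 ≤ Nat.card P := hodd3 ā ha1
  have hA3 : 3 ≤ Nat.card A := hodd3 g₀ hg₀1
  have hGA := Subgroup.card_mul_index A
  have hGN := Subgroup.card_mul_index N
  obtain ⟨m₀, hm₀⟩ : ∃ m, Nat.card P = m + 3 := ⟨Nat.card P - 3, by omega⟩
  have hNP : N ≠ P := by
    intro h
    rw [hm₀, show m₀ + 3 - 1 = m₀ + 2 by omega] at hiA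
    rw [h] at hGN hiA
    rw [hm₀] at hGN
    have h1 : 3 * A.index ≤ Nat.card G := by
      rw [← hGA]; exact Nat.mul_le_mul_right _ hA3
    rw [hiA, ← hGN] at h1
    nlinarith
  obtain ⟨h₁, hh₁N, hh₁P⟩ : ∃ h, h ∈ N ∧ h ∉ P := by
    by_contra hh
    push Not at hh
    exact hNP (le_antisymm hh Subgroup.le_normalizer)
  have hh₁u : ¬ U h₁ := by
    intro hu
    apply hh₁P
    have hz : IsPGroup p (Subgroup.zpowers h₁) := fun x => ⟨1, Subtype.ext (by
      obtain ⟨i, hi⟩ := x.2
      rw [pow_one, SubmonoidClass.coe_pow, ← hi, ← zpow_natCast, ← zpow_mul, mul_comm, zpow_mul,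
        zpow_natCast, hUpow h₁ hu, one_zpow]; rfl)⟩
    have hz' : (Subgroup.zpowers h₁) ≤ N := Subgroup.zpowers_le.2 hh₁N
    have := IsPGroup.to_sup_of_normal_right' hz hPp hz'
    rw [hPdef, ← hT₀] at this ⊢
    have e := T₀.is_maximal' this le_sup_right
    rw [← e]
    exact le_sup_left (α := Subgroup G) (Subgroup.mem_zpowers h₁)
  have hh₁1 : h₁ ≠ 1 := fun h => hh₁u (hUP h₁ ⟨0, by rw [h, one_pow]⟩)
  set D := N ⊓ K h₁ with hD
  -- elements normalising `P` are upper triangular, so commutators land in `P`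
  have hlow : ∀ n ∈ N, (n : SL(2, F)).1 1 0 = 0 := by
    intro n hn
    have h1 := Subgroup.mem_centralizer_singleton_iff.1
      ((Subgroup.mem_normalizer_iff.1 hn ā).1 (hself ā))
    have h1' : ((n : SL(2, F)) * a * (n : SL(2, F))⁻¹) * a =
        a * ((n : SL(2, F)) * a * (n : SL(2, F))⁻¹) := congrArg Subtype.val h1
    obtain ⟨e1, -, -⟩ := commute_entries _ _ h1'
    have := conj_entries (n : SL(2, F)) a
    rw [this] at e1
    simp [ha, Matrix.adjugate_fin_two, Matrix.mul_apply, Fin.sum_univ_two] at e1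
    have e2 : c * c * ((n : SL(2, F)).1 1 0 * (n : SL(2, F)).1 1 0) = 0 := by
      linear_combination (-c) * (e1.resolve_left hc)
    simpa [hc] using e2
  have hcommP : ∀ n ∈ N, ∀ k ∈ N, n⁻¹ * k * n * k⁻¹ ∈ P := by
    intro n hn k hk
    refine Subgroup.mem_centralizer_singleton_iff.2 (Subtype.ext ?_)
    have n0 := hlow n hn
    have k0 := hlow k hk
    have hdn : (n : SL(2, F)).1 0 0 * (n : SL(2, F)).1 1 1 = 1 := by
      have := (n : SL(2, F)).2
      rw [Matrix.det_fin_two, n0, mul_zero, sub_zero] at this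
      exact this
    have hdk : (k : SL(2, F)).1 0 0 * (k : SL(2, F)).1 1 1 = 1 := by
      have := (k : SL(2, F)).2
      rw [Matrix.det_fin_two, k0, mul_zero, sub_zero] at this
      exact this
    show ((n : SL(2, F))⁻¹ * k * n * (k : SL(2, F))⁻¹) * a =
      a * ((n : SL(2, F))⁻¹ * k * n * (k : SL(2, F))⁻¹)
    ext i j
    simp only [Matrix.SpecialLinearGroup.coe_mul, Matrix.SpecialLinearGroup.coe_inv, ha,
      Matrix.adjugate_fin_two, Matrix.mul_apply, Fin.sum_univ_two, Matrix.of_apply,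
      Matrix.cons_val', Matrix.cons_val_zero, Matrix.cons_val_one, Matrix.empty_val',
      Matrix.cons_val_fin_one, n0, k0]
    fin_cases i <;> fin_cases j <;>
      simp only [Fin.zero_eta, Fin.mk_one, Matrix.cons_val_zero, Matrix.cons_val_one,
        Matrix.cons_val_fin_one, Matrix.of_apply, Matrix.cons_val', Matrix.empty_val'] <;>
      first | ring | (trace_state; fail "x")
  have hPK : ∀ x ∈ P, x ∈ K h₁ → x = 1 := by
    intro x hx hxh
    by_contra hx1
    apply hh₁u
    exact hUK x hx1 (hUK ā ha1 haU x hx) h₁ (by rw [hTI h₁ hh₁1 x hxh hx1]; exact hself h₁)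
  have hPD : Nat.card N = Nat.card D * Nat.card P := by
    have hcov : N ≤ D ⊔ P := by
      intro n hn
      have hcm := hcommP n hn h₁ hh₁N
      let f : P → P := fun x => ⟨(x : G) * (h₁ * (x : G)⁻¹ * h₁⁻¹), mul_mem x.2
        ((Subgroup.mem_normalizer_iff.1 hh₁N _).1 (inv_mem x.2))⟩
      have finj : Function.Injective f := by
        intro x y hxy
        have e : (x : G) * (h₁ * (x : G)⁻¹ * h₁⁻¹) = y * (h₁ * (y : G)⁻¹ * h₁⁻¹) :=
          congrArg Subtype.val hxy
        have hyx : (y : G)⁻¹ * x ∈ K h₁ := by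
          refine Subgroup.mem_centralizer_singleton_iff.2 ?_
          have e' := congrArg (fun t => (y : G)⁻¹ * t * h₁ * (x : G)) e
          group at e' ⊢
          exact e'
        exact Subtype.ext (inv_mul_eq_one.1 (hPK _ (mul_mem (inv_mem y.2) x.2) hyx)).symm
      obtain ⟨x, hx⟩ := (Finite.injective_iff_surjective.1 finj) ⟨_, hcm⟩
      have hx' : (x : G) * (h₁ * (x : G)⁻¹ * h₁⁻¹) = n⁻¹ * h₁ * n * h₁⁻¹ :=
        congrArg Subtype.val hx
      have hnx : n * x ∈ D := by
        refine ⟨mul_mem hn (Subgroup.le_normalizer x.2),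
          Subgroup.mem_centralizer_singleton_iff.2 ?_⟩
        have e := congrArg (fun t => n * t * h₁ * (x : G)) hx'
        group at e ⊢
        exact e
      have e : n = (n * x) * (x : G)⁻¹ := by group
      rw [e]
      exact Subgroup.mul_mem_sup hnx (inv_mem x.2)
    have e := OffendersReplace.card_sup_mul_card_inf D P inf_le_left
    rw [le_antisymm (sup_le inf_le_left Subgroup.le_normalizer) hcov] at e
    have hb : D ⊓ P = ⊥ := le_bot_iff.1 fun x hx => hPK x hx.2 hx.1.2
    rwa [hb, Subgroup.card_bot, mul_one] at e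
  have hDA : Nat.card D ∣ Nat.card A := by
    obtain ⟨-, h, hh⟩ := hcover h₁ hh₁u
    have hy : h⁻¹ * h₁ * h ≠ 1 := fun e =>
      hh₁1 (conj_eq_one_iff.1 (by simpa using e : h⁻¹ * h₁ * (h⁻¹)⁻¹ = 1))
    have hKA : K (h⁻¹ * h₁ * h) = A := hTI g₀ hg₀1 _ hh hy
    have hmap : D.map (MulAut.conj h⁻¹).toMonoidHom ≤ A := by
      rintro _ ⟨d, hd, rfl⟩
      rw [← hKA]
      have hd' := Subgroup.mem_centralizer_singleton_iff.1 hd.2
      refine Subgroup.mem_centralizer_singleton_iff.2 ?_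
      show h⁻¹ * d * h⁻¹⁻¹ * (h⁻¹ * h₁ * h) = h⁻¹ * h₁ * h * (h⁻¹ * d * h⁻¹⁻¹)
      calc h⁻¹ * d * h⁻¹⁻¹ * (h⁻¹ * h₁ * h) = h⁻¹ * (d * h₁) * h := by group
        _ = h⁻¹ * (h₁ * d) * h := by rw [hd']
        _ = h⁻¹ * h₁ * h * (h⁻¹ * d * h⁻¹⁻¹) := by group
    have := Subgroup.card_dvd_of_le hmap
    rwa [Subgroup.card_map_of_injective (MulAut.conj h⁻¹).injective] at this
  obtain ⟨m, hm⟩ := hDA
  have hm_odd : Odd m := (hodd.of_dvd_nat ((Subgroup.card_subgroup_dvd_card A))).of_dvd_nat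
    ⟨Nat.card D, by rw [hm, mul_comm]⟩
  rw [hm₀, show m₀ + 3 - 1 = m₀ + 2 by omega] at hiA
  rw [hPD, hm₀] at hGN
  rw [hm, hiA] at hGA
  rw [← hGN] at hGA
  have hcanc : m * (1 + N.index * (m₀ + 2)) = (m₀ + 3) * N.index := by
    have hD0 : 0 < Nat.card D := Nat.card_pos
    refine Nat.eq_of_mul_eq_mul_left hD0 ?_
    linear_combination hGA
  obtain ⟨j, rfl⟩ := hm_odd
  rcases Nat.eq_zero_or_pos j with rfl | hj
  · have hNi : N.index = 1 := by nlinarith
    haveI : P.Normal := Subgroup.normalizer_eq_top_iff.1 (Subgroup.index_eq_one.1 hNi)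
    have hR : IsPGroup p (P.map G.subtype) := hPp.map _
    have hle : G ≤ Subgroup.normalizer ((P.map G.subtype : Subgroup SL(2, F)) : Set SL(2, F)) := by
      refine Subgroup.le_normalizer_iff.2 ?_
      rintro g hg _ ⟨y, hy, rfl⟩
      exact ⟨_, ‹P.Normal›.conj_mem y hy ⟨g, hg⟩, rfl⟩
    haveI : Finite (P.map G.subtype) :=
      Finite.Set.finite_image (P : Set G) G.subtype
    have := normal_pgroup_bot hp hc ha hb hR (hle haG) (hle hbG)
    have hmem : a ∈ P.map G.subtype := ⟨ā, hself ā, rfl⟩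
    rw [this, Subgroup.mem_bot] at hmem
    exact ha1 (Subtype.ext hmem)
  · have hN1 : 1 ≤ N.index := Nat.one_le_iff_ne_zero.2 Subgroup.index_ne_zero_of_finite
    nlinarith [Nat.mul_le_mul hj (Nat.mul_le_mul hN1 (Nat.le_add_left 1 m₀))]

end Cfsg.Agent.QuadraticOdd
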