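import Mathlib
import Cfsg.Prelude.Def_PLocal
import Cfsg.Agent.Lib.Offenders

/-! Groups generated by two quadratic elements map to `SL(2,F)`. -/

set_option autoImplicit false

open scoped MatrixGroups commutatorElement
open Polynomial

namespace Cfsg.Agent.QuadraticRep

variable {p : ℕ} [Fact p.Prime]

/-- A homomorphism of `H` into `SL(2,F)` carrying `a`, `b` to opposite transvections. -/
structure SL2Image (p : ℕ) {H : Type*} [Group H] (a b g : H) where
  F : Type
  [field : Field F]
  [fin : Finite F]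
  [char : CharP F p]
  φ : H →* SL(2, F)
  c : F
  hc : c ≠ 0
  ha : (φ a).1 = !![1, c; 0, 1]
  hb : (φ b).1 = !![1, 0; 1, 1]
  hg : φ g ≠ 1

attribute [instance] SL2Image.field SL2Image.fin SL2Image.char

/-- The quotient `I` is afforded by a section of `M`: a submodule maps equivariantly onto the natural
module `F²`. -/
def IsFactor {H : Type*} [Group H] {M : Type*} [AddCommGroup M] [Module (ZMod p) M]
    (ρ : H →* Module.End (ZMod p) M) {a b g : H} (I : SL2Image p a b g) : Prop :=
  ∃ (W : Submodule (ZMod p) M) (Ψ : W →+ (Fin 2 → I.F)), Function.Surjective Ψ ∧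
    ∀ (h : H) (x : W), ∃ hm : ρ h x ∈ W, Ψ ⟨ρ h x, hm⟩ = (I.φ h).1.mulVec (Ψ x)

set_option maxHeartbeats 1000000 in
/-- An element not seen by any `SL(2,F)`-quotient on a section acts unipotently. -/
theorem unipotent_of_forall {H : Type*} [Group H] [Finite H] {a b : H}
    (hgen : Subgroup.closure {a, b} = ⊤) (g : H) (n : ℕ) :
    ∀ (M : Type*) [AddCommGroup M] [Module (ZMod p) M] [Finite M], Nat.card M = n →
      ∀ ρ : H →* Module.End (ZMod p) M, (∀ I : SL2Image p a b g, ¬ IsFactor ρ I) → (ρ a - 1) * (ρ a - 1) = 0 → (ρ b - 1) * (ρ b - 1) = 0 →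
        ∃ k : ℕ, (ρ g - 1) ^ k = 0 := by
  induction n using Nat.strong_induction_on with
  | _ n ih =>
  intro M _ _ _ hn ρ hno hu hw
  -- invariance passes from the generators to all of `H`
  have hinv : ∀ W : Submodule (ZMod p) M, (∀ x ∈ W, ρ a x ∈ W) → (∀ x ∈ W, ρ b x ∈ W) →
      ∀ h : H, ∀ x ∈ W, ρ h x ∈ W := by
    intro W haW hbW h
    have h1 : h ∈ Submonoid.closure ({a, b} : Set H) := by
      rw [← Subgroup.closure_toSubmonoid_of_finite, hgen]
      trivial
    induction h1 using Submonoid.closure_induction with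
    | mem x hx => rcases hx with rfl | rfl <;> assumption
    | one => intro x hx; simpa using hx
    | mul x y _ _ ihx ihy => intro z hz; rw [map_mul, Module.End.mul_apply]; exact ihx _ (ihy z hz)
  by_cases hred : ∃ W : Submodule (ZMod p) M, W ≠ ⊥ ∧ W ≠ ⊤ ∧ (∀ x ∈ W, ρ a x ∈ W) ∧
      (∀ x ∈ W, ρ b x ∈ W)
  · obtain ⟨W, hW0, hW1, haW, hbW⟩ := hred
    have hW := hinv W haW hbW
    let ρ₁ : H →* Module.End (ZMod p) W :=
      { toFun := fun h => (ρ h).restrict (hW h)
        map_one' := LinearMap.ext fun v => Subtype.ext (by simp [LinearMap.restrict_apply])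
        map_mul' := fun x y => LinearMap.ext fun v =>
          Subtype.ext (by simp [LinearMap.restrict_apply]) }
    let ρ₂ : H →* Module.End (ZMod p) (M ⧸ W) :=
      { toFun := fun h => W.mapQ W (ρ h) (fun x hx => hW h x hx)
        map_one' := Submodule.linearMap_qext _ (LinearMap.ext fun v => by simp)
        map_mul' := fun x y => Submodule.linearMap_qext _ (LinearMap.ext fun v => by simp) }
    haveI : Finite (M ⧸ W) :=
      Finite.of_surjective _ (Submodule.Quotient.mk_surjective W)
    have q1 : ∀ h : H, ∀ (k : ℕ) (v : W),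
        (((ρ₁ h - 1) ^ k) v : M) = ((ρ h - 1) ^ k) v := by
      intro h k
      induction k with
      | zero => intro v; rfl
      | succ k ihk =>
        intro v
        rw [pow_succ', pow_succ', Module.End.mul_apply, Module.End.mul_apply, ← ihk v]
        simp [ρ₁, LinearMap.restrict_apply]
    have q2 : ∀ h : H, ∀ (k : ℕ) (v : M),
        ((ρ₂ h - 1) ^ k) (Submodule.Quotient.mk v) = Submodule.Quotient.mk (((ρ h - 1) ^ k) v) := by
      intro h k
      induction k with
      | zero => intro v; rfl
      | succ k ihk =>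
        intro v
        rw [pow_succ', pow_succ', Module.End.mul_apply, Module.End.mul_apply, ihk v]
        simp [ρ₂]
    have sq1 : ∀ h : H, (ρ h - 1) * (ρ h - 1) = 0 → (ρ₁ h - 1) * (ρ₁ h - 1) = 0 := by
      intro h hh
      refine LinearMap.ext fun v => Subtype.ext ?_
      rw [← sq, q1, sq, hh]; rfl
    have sq2 : ∀ h : H, (ρ h - 1) * (ρ h - 1) = 0 → (ρ₂ h - 1) * (ρ₂ h - 1) = 0 := by
      intro h hh
      refine Submodule.linearMap_qext _ (LinearMap.ext fun v => ?_)
      show ((ρ₂ h - 1) * (ρ₂ h - 1)) (Submodule.Quotient.mk v) = 0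
      rw [← sq, q2, sq, hh]; rfl
    have hc1 : Nat.card W < n := by
      rw [← hn]
      refine lt_of_le_of_ne (Nat.card_le_card_of_injective _ W.subtype_injective) fun he => hW1 ?_
      have hbij := (Nat.bijective_iff_injective_and_card W.subtype).2 ⟨W.subtype_injective, he⟩
      exact eq_top_iff.2 fun x _ => by obtain ⟨y, rfl⟩ := hbij.2 x; exact y.2
    have hc2 : Nat.card (M ⧸ W) < n := by
      have h := Submodule.card_eq_card_quotient_mul_card W
      have : 1 < Nat.card W := Finite.one_lt_card_iff_nontrivial.2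
        ((Submodule.nontrivial_iff_ne_bot).2 hW0)
      have hq : 0 < Nat.card (M ⧸ W) := Nat.card_pos
      rw [hn] at h
      nlinarith
    have f1 : ∀ I : SL2Image p a b g, ¬ IsFactor ρ₁ I := by
      rintro I ⟨W', Ψ, hΨs, hΨ⟩
      let e := Submodule.equivMapOfInjective W.subtype W.subtype_injective W'
      refine hno I ⟨W'.map W.subtype, Ψ.comp e.symm.toAddEquiv.toAddMonoidHom,
        hΨs.comp e.symm.surjective, fun h x => ?_⟩
      obtain ⟨y, rfl⟩ := e.surjective x
      obtain ⟨hm, hy⟩ := hΨ h y
      refine ⟨⟨ρ₁ h y, hm, rfl⟩, ?_⟩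
      show Ψ (e.symm _) = (I.φ h).1.mulVec (Ψ (e.symm (e y)))
      rw [e.symm_apply_apply, ← hy]
      exact congrArg Ψ (e.injective (by rw [e.apply_symm_apply]; exact Subtype.ext rfl))
    have f2 : ∀ I : SL2Image p a b g, ¬ IsFactor ρ₂ I := by
      rintro I ⟨W', Ψ, hΨs, hΨ⟩
      let q : W'.comap W.mkQ →+ W' :=
        { toFun := fun x => ⟨W.mkQ x.1, x.2⟩
          map_zero' := Subtype.ext (map_zero _)
          map_add' := fun x y => Subtype.ext (map_add _ _ _) }
      have hq : Function.Surjective q := by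
        rintro ⟨y, hy⟩
        obtain ⟨x, rfl⟩ := W.mkQ_surjective y
        exact ⟨⟨x, hy⟩, rfl⟩
      refine hno I ⟨W'.comap W.mkQ, Ψ.comp q, hΨs.comp hq, fun h x => ?_⟩
      obtain ⟨hm, hx⟩ := hΨ h (q x)
      exact ⟨hm, hx⟩
    obtain ⟨k₁, hk₁⟩ := ih _ hc1 W rfl ρ₁ f1 (sq1 a hu) (sq1 b hw)
    obtain ⟨k₂, hk₂⟩ := ih _ hc2 (M ⧸ W) rfl ρ₂ f2 (sq2 a hu) (sq2 b hw)
    refine ⟨k₁ + k₂, LinearMap.ext fun v => ?_⟩
    have hv : ((ρ g - 1) ^ k₂) v ∈ W := by
      rw [← Submodule.Quotient.mk_eq_zero, ← q2, hk₂]; rfl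
    rw [pow_add, Module.End.mul_apply,
      show ((ρ g - 1) ^ k₁) (((ρ g - 1) ^ k₂) v) = _ from (q1 g k₁ ⟨_, hv⟩).symm, hk₁]
    rfl
  · -- irreducible case
    rcases subsingleton_or_nontrivial M with hM | hM
    · exact ⟨1, LinearMap.ext fun v => Subsingleton.elim _ _⟩
    set u := ρ a - 1 with hud
    set w := ρ b - 1 with hwd
    set T := u * w + w * u with hT
    have hua : ∀ x, ρ a x = x + u x := fun x => by simp [hud]
    have hwb : ∀ x, ρ b x = x + w x := fun x => by simp [hwd]
    have hirr : ∀ W : Submodule (ZMod p) M, W ≠ ⊥ → (∀ x ∈ W, u x ∈ W) → (∀ x ∈ W, w x ∈ W) →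
        W = ⊤ := by
      intro W h0 h1 h2
      by_contra hW
      exact hred ⟨W, h0, hW, fun x hx => by rw [hua]; exact W.add_mem hx (h1 x hx),
        fun x hx => by rw [hwb]; exact W.add_mem hx (h2 x hx)⟩
    have hTu : Commute T u := by
      show (u * w + w * u) * u = u * (u * w + w * u)
      rw [add_mul, mul_add, mul_assoc w u u, ← mul_assoc u u w, hu, mul_zero, zero_mul, add_zero,
        zero_add, mul_assoc]
    have hTw : Commute T w := by
      show (u * w + w * u) * w = w * (u * w + w * u)
      rw [add_mul, mul_add, mul_assoc u w w, ← mul_assoc w w u, hw, mul_zero, zero_mul, add_zero,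
        zero_add, mul_assoc]
    have hTc : ∀ f : Module.End (ZMod p) M, Commute T f → ∀ q : (ZMod p)[X],
        ∀ x, f (aeval T q x) = aeval T q (f x) := by
      intro f hf q x
      have : Commute (aeval T q) f := by
        induction q using Polynomial.induction_on' with
        | add q r hq hr => rw [map_add]; exact hq.add_left hr
        | monomial i s =>
          rw [aeval_monomial]
          exact Commute.mul_left (Algebra.commutes s f) (hf.pow_left i)
      exact (LinearMap.congr_fun this.eq x).symm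
    have hsimp : ∀ q : (ZMod p)[X], ∀ x, x ≠ 0 → aeval T q x = 0 → aeval T q = 0 := by
      intro q x hx hqx
      have := hirr (LinearMap.ker (aeval T q)) (fun h => hx (by simpa [h] using
        (LinearMap.mem_ker.2 hqx : x ∈ LinearMap.ker (aeval T q))))
        (fun y hy => by rw [LinearMap.mem_ker] at hy ⊢; rw [← hTc u hTu, hy, map_zero])
        (fun y hy => by rw [LinearMap.mem_ker] at hy ⊢; rw [← hTc w hTw, hy, map_zero])
      exact LinearMap.ker_eq_top.1 this
    obtain ⟨e, he0, heu⟩ : ∃ e, e ≠ 0 ∧ u e = 0 := by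
      obtain ⟨x, hx⟩ := exists_ne (0 : M)
      by_cases h : u x = 0
      · exact ⟨x, hx, h⟩
      · exact ⟨u x, h, by rw [← Module.End.mul_apply, hu]; rfl⟩
    by_cases hT0 : T = 0
    · -- trivial action
      obtain ⟨x, hx0, hxu, hxw⟩ : ∃ x, x ≠ 0 ∧ u x = 0 ∧ w x = 0 := by
        by_cases h : w e = 0
        · exact ⟨e, he0, heu, h⟩
        · refine ⟨w e, h, ?_, by rw [← Module.End.mul_apply, hw]; rfl⟩
          have : T e = 0 := by rw [hT0]; rfl
          simpa [hT, heu] using this
      have hmem : x ∈ LinearMap.ker u ⊓ LinearMap.ker w := ⟨hxu, hxw⟩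
      have hker := hirr (LinearMap.ker u ⊓ LinearMap.ker w)
        (fun h => hx0 (by simpa [h] using hmem))
        (fun y hy => by rw [show u y = 0 from hy.1]; exact zero_mem _)
        (fun y hy => by rw [show w y = 0 from hy.2]; exact zero_mem _)
      have hu0 : u = 0 := LinearMap.ker_eq_top.1 (top_le_iff.1 (hker ▸ inf_le_left))
      have hw0 : w = 0 := LinearMap.ker_eq_top.1 (top_le_iff.1 (hker ▸ inf_le_right))
      have h1 : g ∈ Submonoid.closure ({a, b} : Set H) := by
        rw [← Subgroup.closure_toSubmonoid_of_finite, hgen]; trivial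
      refine ⟨1, ?_⟩
      rw [pow_one, sub_eq_zero]
      clear hno ih
      induction h1 using Submonoid.closure_induction with
      | mem x hx =>
        rcases hx with rfl | rfl
        · exact sub_eq_zero.1 hu0
        · exact sub_eq_zero.1 hw0
      | one => exact map_one ρ
      | mul x y _ _ ihx ihy => rw [map_mul, ihx, ihy, one_mul]
    · -- the field generated by `T`
      set f := (aeval T : (ZMod p)[X] →ₐ[ZMod p] Module.End (ZMod p) M) with hf
      haveI hprime : (RingHom.ker f).IsPrime := by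
        refine ⟨fun htop => ?_, fun {q r} hqr => ?_⟩
        · have h1 : (1 : (ZMod p)[X]) ∈ RingHom.ker f := htop ▸ Submodule.mem_top
          rw [RingHom.mem_ker, map_one] at h1
          exact he0 (LinearMap.congr_fun h1 e)
        · by_cases hr : f r e = 0
          · exact Or.inr (RingHom.mem_ker.2 (hsimp r e he0 hr))
          · refine Or.inl (RingHom.mem_ker.2 (hsimp q _ hr ?_))
            rw [← Module.End.mul_apply, ← map_mul, RingHom.mem_ker.1 hqr]; rfl
      have hne : RingHom.ker f ≠ ⊥ := by
        intro h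
        have hinj : Function.Injective f := (RingHom.injective_iff_ker_eq_bot f).2 h
        haveI : Finite (Module.End (ZMod p) M) :=
          Finite.of_injective (fun f => (f : M → M)) DFunLike.coe_injective
        haveI : Finite (ZMod p)[X] := Finite.of_injective f hinj
        exact not_finite (ZMod p)[X]
      haveI hmax : (RingHom.ker f).IsMaximal := Ideal.IsPrime.isMaximal hprime hne
      let F := (ZMod p)[X] ⧸ RingHom.ker f
      letI : Field F := Ideal.Quotient.field _
      haveI : Finite (Module.End (ZMod p) M) :=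
        Finite.of_injective (fun f => (f : M → M)) DFunLike.coe_injective
      let ι : F →ₐ[ZMod p] Module.End (ZMod p) M := Ideal.kerLiftAlg f
      have hι : Function.Injective ι := Ideal.kerLiftAlg_injective f
      haveI : Finite F := Finite.of_injective ι hι
      haveI : CharP F p := charP_of_injective_algebraMap (algebraMap (ZMod p) F).injective p
      have hιc : ∀ (s : F) (h : Module.End (ZMod p) M), Commute T h →
          ∀ x, h (ι s x) = ι s (h x) := by
        intro s h hh x
        obtain ⟨q, rfl⟩ := Ideal.Quotient.mk_surjective s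
        exact hTc h hh q x
      have hιz : ∀ (s : F) x, x ≠ 0 → ι s x = 0 → s = 0 := by
        intro s x hx hsx
        obtain ⟨q, rfl⟩ := Ideal.Quotient.mk_surjective s
        exact Ideal.Quotient.eq_zero_iff_mem.2 (RingHom.mem_ker.2 (hsimp q x hx hsx))
      let c : F := Ideal.Quotient.mk _ X
      have hιT : ι c = T := by show f X = T; rw [hf, aeval_X]
      have hc : c ≠ 0 := fun h => hT0 (by rw [← hιT, h, map_zero])
      let Ψ : (Fin 2 → F) →ₗ[ZMod p] M :=
        { toFun := fun v => ι (v 0) e + ι (v 1) (w e)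
          map_add' := fun v v' => by
            rw [Pi.add_apply, Pi.add_apply, map_add, map_add, LinearMap.add_apply,
              LinearMap.add_apply]
            exact add_add_add_comm _ _ _ _
          map_smul' := fun s v => by
            rw [Pi.smul_apply, Pi.smul_apply, map_smul, map_smul, LinearMap.smul_apply,
              LinearMap.smul_apply, RingHom.id_apply, smul_add] }
      have hΨ : ∀ v : Fin 2 → F, Ψ v = ι (v 0) e + ι (v 1) (w e) := fun _ => rfl
      have huw : u (w e) = T e := by simp [hT, heu]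
      have hww : w (w e) = 0 := by rw [← Module.End.mul_apply, hw]; rfl
      have hAa : ∀ v : Fin 2 → F, ρ a (Ψ v) = Ψ (Matrix.mulVec !![1, c; 0, 1] v) := by
        intro v
        rw [hua, hΨ, hΨ, map_add, hιc _ u hTu, hιc _ u hTu, heu, huw]
        simp [Matrix.mulVec, dotProduct, Fin.sum_univ_two, ← hιT]
        rw [show (ι (v 1)) ((ι c) e) = (ι c) ((ι (v 1)) e) by
          rw [← Module.End.mul_apply, ← map_mul, mul_comm, map_mul, Module.End.mul_apply]]
        abel
      have hAb : ∀ v : Fin 2 → F, ρ b (Ψ v) = Ψ (Matrix.mulVec !![1, 0; 1, 1] v) := by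
        intro v
        rw [hwb, hΨ, hΨ, map_add, hιc _ w hTw, hιc _ w hTw, hww]
        simp [Matrix.mulVec, dotProduct, Fin.sum_univ_two]
        abel
      have hsurj : Function.Surjective Ψ := by
        have he : e ∈ LinearMap.range Ψ := ⟨![1, 0], by simp [hΨ]⟩
        refine LinearMap.range_eq_top.1 (hirr _ (fun h => he0 (by simpa [h] using he)) ?_ ?_)
        · rintro _ ⟨v, rfl⟩
          exact ⟨Matrix.mulVec !![1, c; 0, 1] v - v, by rw [map_sub, ← hAa]; simp [hud]⟩
        · rintro _ ⟨v, rfl⟩
          exact ⟨Matrix.mulVec !![1, 0; 1, 1] v - v, by rw [map_sub, ← hAb]; simp [hwd]⟩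
      have hinj : Function.Injective Ψ := by
        rw [injective_iff_map_eq_zero]
        intro v hv
        rw [hΨ] at hv
        have h1 : v 1 = 0 := by
          have := congrArg u hv
          rw [map_add, hιc _ u hTu, hιc _ u hTu, heu, huw, map_zero, map_zero, zero_add] at this
          refine hιz _ _ (fun h => hT0 ?_) this
          have := hsimp X e he0 (by rw [aeval_X]; exact h)
          rwa [aeval_X] at this
        rw [h1, map_zero, LinearMap.zero_apply, add_zero] at hv
        funext i
        fin_cases i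
        · exact hιz _ _ he0 hv
        · exact h1
      let Θ : SL(2, F) →* Module.End (ZMod p) M :=
       { toFun := fun A => (Ψ.comp ((Matrix.mulVecLin A.1).restrictScalars (ZMod p))).comp
          (LinearEquiv.ofBijective Ψ ⟨hinj, hsurj⟩).symm.toLinearMap
         map_one' := LinearMap.ext fun x => by
          obtain ⟨v, rfl⟩ := hsurj x
          have e : (LinearEquiv.ofBijective Ψ ⟨hinj, hsurj⟩).symm (Ψ v) = v :=
            (LinearEquiv.ofBijective Ψ ⟨hinj, hsurj⟩).symm_apply_apply v
          simp [e]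
         map_mul' := fun A B => LinearMap.ext fun x => by
          obtain ⟨v, rfl⟩ := hsurj x
          have e : ∀ z, (LinearEquiv.ofBijective Ψ ⟨hinj, hsurj⟩).symm (Ψ z) = z :=
            (LinearEquiv.ofBijective Ψ ⟨hinj, hsurj⟩).symm_apply_apply
          simp [Module.End.mul_apply, e, Matrix.mulVec_mulVec] }
      have hΘ : ∀ A v, Θ A (Ψ v) = Ψ (Matrix.mulVec A.1 v) := fun A v => by
        have e : (LinearEquiv.ofBijective Ψ ⟨hinj, hsurj⟩).symm (Ψ v) = v :=
          (LinearEquiv.ofBijective Ψ ⟨hinj, hsurj⟩).symm_apply_apply v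
        simp [Θ, e]
      have hΘinj : Function.Injective Θ := by
        intro A B h
        apply Subtype.ext
        refine Matrix.ext_of_mulVec_single fun i => hinj ?_
        rw [← hΘ, ← hΘ, h]
      let A₀ : SL(2, F) := ⟨!![1, c; 0, 1], by simp [Matrix.det_fin_two]⟩
      let B₀ : SL(2, F) := ⟨!![1, 0; 1, 1], by simp [Matrix.det_fin_two]⟩
      have hA : Θ A₀ = ρ a := LinearMap.ext fun x => by
        obtain ⟨v, rfl⟩ := hsurj x; rw [hΘ, hAa]
      have hB : Θ B₀ = ρ b := LinearMap.ext fun x => by
        obtain ⟨v, rfl⟩ := hsurj x; rw [hΘ, hAb]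
      have hmem : ∀ h : H, ∃ A, Θ A = ρ h := by
        intro h
        have h1 : h ∈ Submonoid.closure ({a, b} : Set H) := by
          rw [← Subgroup.closure_toSubmonoid_of_finite, hgen]; trivial
        induction h1 using Submonoid.closure_induction with
        | mem x hx =>
          rcases hx with rfl | rfl
          · exact ⟨A₀, hA⟩
          · exact ⟨B₀, hB⟩
        | one => exact ⟨1, by rw [map_one, map_one]⟩
        | mul x y _ _ ihx ihy =>
          obtain ⟨X', hX⟩ := ihx
          obtain ⟨Y', hY⟩ := ihy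
          exact ⟨X' * Y', by rw [map_mul, map_mul, hX, hY]⟩
      choose φ hφ using hmem
      let φ' : H →* SL(2, F) :=
        MonoidHom.mk' φ (fun x y => hΘinj (by rw [map_mul, hφ, hφ, hφ, map_mul]))
      refine ⟨1, ?_⟩
      rw [pow_one, sub_eq_zero]
      by_contra hg
      refine hno { F := F, φ := φ', c := c, hc := hc, ha := ?_, hb := ?_, hg := ?_ }
        ⟨⊤, ((LinearEquiv.ofBijective Ψ ⟨hinj, hsurj⟩).symm.toAddEquiv.toAddMonoidHom).comp
          (⊤ : Submodule (ZMod p) M).subtype.toAddMonoidHom, ?_, ?_⟩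
      · rw [show φ' a = A₀ from hΘinj (by rw [hA]; exact hφ a)]
      · rw [show φ' b = B₀ from hΘinj (by rw [hB]; exact hφ b)]
      · intro h
        apply hg
        rw [← hφ g, show φ g = φ' g from rfl, h, map_one]
      · intro v
        exact ⟨⟨Ψ v, Submodule.mem_top⟩,
          (LinearEquiv.ofBijective Ψ ⟨hinj, hsurj⟩).symm_apply_apply v⟩
      · intro h x
        refine ⟨Submodule.mem_top, ?_⟩
        obtain ⟨v, hv⟩ := hsurj x.1
        show (LinearEquiv.ofBijective Ψ ⟨hinj, hsurj⟩).symm (ρ h x.1) = Matrix.mulVec (φ h).1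
          ((LinearEquiv.ofBijective Ψ ⟨hinj, hsurj⟩).symm x.1)
        rw [← hv, ← hφ h, hΘ]
        exact ((LinearEquiv.ofBijective Ψ ⟨hinj, hsurj⟩).symm_apply_apply _).trans
          (congrArg _ ((LinearEquiv.ofBijective Ψ ⟨hinj, hsurj⟩).symm_apply_apply v).symm)

/-- A nontrivial element of order prime to `p` is seen in some `SL(2,F)`-quotient. -/
theorem exists_image_factor {H : Type*} [Group H] [Finite H] {a b : H}
    (hgen : Subgroup.closure {a, b} = ⊤) {M : Type*} [AddCommGroup M] [Module (ZMod p) M]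
    [Finite M] (ρ : H →* Module.End (ZMod p) M) (hρ : Function.Injective ρ)
    (hu : (ρ a - 1) * (ρ a - 1) = 0) (hw : (ρ b - 1) * (ρ b - 1) = 0) {g : H} (hg : g ≠ 1)
    (hco : (orderOf g).Coprime p) : ∃ I : SL2Image p a b g, IsFactor ρ I := by
  by_contra hne
  push Not at hne
  obtain ⟨k, hk⟩ := unipotent_of_forall hgen g _ M rfl ρ hne hu hw
  rcases subsingleton_or_nontrivial M with hM | hM
  · exact hg (hρ (LinearMap.ext fun x => Subsingleton.elim _ _))
  haveI : Nontrivial (Module.End (ZMod p) M) := by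
    obtain ⟨x, hx⟩ := exists_ne (0 : M)
    exact ⟨⟨1, 0, fun h => hx (LinearMap.congr_fun h x)⟩⟩
  haveI : CharP (Module.End (ZMod p) M) p :=
    charP_of_injective_algebraMap (algebraMap (ZMod p) _).injective p
  have h0 : (ρ g - 1) ^ (p ^ k) = 0 :=
    pow_eq_zero_of_le (Nat.lt_pow_self (Fact.out : p.Prime).one_lt).le hk
  rw [sub_pow_char_pow_of_commute (p := p) _ (Commute.one_right _), one_pow, sub_eq_zero,
    ← map_pow] at h0
  have hgp : g ^ (p ^ k) = 1 := hρ (by rw [h0, map_one])
  exact hg (orderOf_eq_one_iff.1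
    (Nat.eq_one_of_dvd_coprimes (hco.pow_right k) dvd_rfl (orderOf_dvd_of_pow_eq_one hgp)))

/-- The quotient without its section. -/
theorem exists_image {H : Type*} [Group H] [Finite H] {a b : H}
    (hgen : Subgroup.closure {a, b} = ⊤) {M : Type*} [AddCommGroup M] [Module (ZMod p) M]
    [Finite M] (ρ : H →* Module.End (ZMod p) M) (hρ : Function.Injective ρ)
    (hu : (ρ a - 1) * (ρ a - 1) = 0) (hw : (ρ b - 1) * (ρ b - 1) = 0) {g : H} (hg : g ≠ 1)
    (hco : (orderOf g).Coprime p) : Nonempty (SL2Image p a b g) :=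
  ⟨(exists_image_factor hgen ρ hρ hu hw hg hco).choose⟩

/-- An element of order prime to `p` exists outside `p`-groups. -/
theorem exists_coprime_elt {H : Type*} [Group H] [Finite H] (hnp : ¬ IsPGroup p H) :
    ∃ g : H, g ≠ 1 ∧ (orderOf g).Coprime p := by
  obtain ⟨q, hq, hqp, hqd⟩ : ∃ q : ℕ, q.Prime ∧ q ≠ p ∧ q ∣ Nat.card H := by
    by_contra h
    push Not at h
    apply hnp
    refine IsPGroup.of_card (n := (Nat.card H).primeFactorsList.length)
      (Nat.eq_prime_pow_of_unique_prime_dvd Nat.card_pos.ne' fun {q} hq hqd => ?_)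
    by_contra hne
    exact h q hq hne hqd
  haveI := Fact.mk hq
  obtain ⟨g, hg⟩ := exists_prime_orderOf_dvd_card' q hqd
  refine ⟨g, fun h => ?_, by rw [hg]; exact (Nat.coprime_primes hq Fact.out).2 hqp⟩
  rw [h, orderOf_one] at hg
  exact hq.one_lt.ne hg

/-- A group generated by two quadratic elements that is not a `p`-group has such a quotient. -/
theorem exists_image_of_not_pgroup {H : Type*} [Group H] [Finite H] {a b : H}
    (hgen : Subgroup.closure {a, b} = ⊤) {M : Type*} [AddCommGroup M] [Module (ZMod p) M]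
    [Finite M] (ρ : H →* Module.End (ZMod p) M) (hρ : Function.Injective ρ)
    (hu : (ρ a - 1) * (ρ a - 1) = 0) (hw : (ρ b - 1) * (ρ b - 1) = 0) (hnp : ¬ IsPGroup p H) :
    ∃ g : H, Nonempty (SL2Image p a b g) := by
  obtain ⟨g, hg, hco⟩ := exists_coprime_elt hnp
  exact ⟨g, exists_image hgen ρ hρ hu hw hg hco⟩

end Cfsg.Agent.QuadraticRep
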