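import Mathlib
import Cfsg.Prelude.Def_PLocal
import Cfsg.Agent.Lib.Offenders
import Cfsg.Agent.Lib.QuadraticSL2
import Cfsg.Agent.Lib.QuadraticOdd
import Cfsg.Agent.Lib.QuadraticRep
import Cfsg.Agent.Lib.FrobeniusFPF

/-! Quadratic pairs inside a group. -/

set_option autoImplicit false

open scoped MatrixGroups commutatorElement

namespace Cfsg.Agent.QuadraticGroup

open Cfsg QuadraticRep

variable {G : Type*} [Group G] [Finite G] {p : ℕ} [Fact p.Prime]

/-- An action on an abelian group of exponent `p` as a linear representation. -/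
theorem rep_aux {W H : Type*} [CommGroup W] [Group H] [Module (ZMod p) (Additive W)]
    (θ : H →* MulAut W) :
    ∃ ρ : H →* Module.End (ZMod p) (Additive W),
      ∀ (h : H) (v : Additive W), (ρ h v).toMul = θ h v.toMul := by
  refine ⟨
    { toFun := fun h => AddMonoidHom.toZModLinearMap (M := Additive W) (M₁ := Additive W) p
        ((θ h).toMonoidHom.toAdditive)
      map_one' := LinearMap.ext fun x => by
        rw [AddMonoidHom.coe_toZModLinearMap, map_one]; rfl
      map_mul' := fun x y => LinearMap.ext fun v => by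
        rw [Module.End.mul_apply, AddMonoidHom.coe_toZModLinearMap, map_mul]; rfl }, fun h v => rfl⟩

/-- The faithful representation on an elementary abelian subgroup. -/
theorem exists_rep (V H : Subgroup G) (hV : IsElementaryAbelian p V)
    (hHV : H ≤ Subgroup.normalizer (V : Set G))
    (hf : H ⊓ Subgroup.centralizer (V : Set G) = ⊥) :
    ∃ (inst : AddCommGroup (Additive V)) (_ : @Module (ZMod p) (Additive V) _ inst.toAddCommMonoid)
      (ρ : H →* Module.End (ZMod p) (Additive V)), Function.Injective ρ ∧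
      ∀ x : H, ⁅⁅V, Subgroup.zpowers (x : G)⁆, Subgroup.zpowers (x : G)⁆ = ⊥ →
        (ρ x - 1) * (ρ x - 1) = 0 := by
  obtain ⟨hc, hp⟩ := (Offenders.ea_iff V).1 hV
  letI instV : CommGroup V :=
    { (inferInstance : Group V) with mul_comm := fun a b => Subtype.ext (hc a a.2 b b.2) }
  haveI instM : Module (ZMod p) (Additive V) := AddCommGroup.zmodModule (G := Additive V) fun x => by
    apply Additive.toMul.injective
    exact Subtype.ext (by rw [toMul_nsmul, SubmonoidClass.coe_pow]; exact hp _ x.toMul.2)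
  obtain ⟨ρ, hρ'⟩ := rep_aux (p := p) (V.normalizerMonoidHom.comp (Subgroup.inclusion hHV))
  have hρ : ∀ (h : H) (v : Additive V),
      ((ρ h v).toMul : G) = (h : G) * (v.toMul : G) * (h : G)⁻¹ := fun h v =>
    congrArg Subtype.val (hρ' h v)
  refine ⟨inferInstance, instM, ρ, ?_, ?_⟩
  · rw [injective_iff_map_eq_one]
    intro h hh
    apply Subtype.ext
    rw [Subgroup.coe_one, ← Subgroup.mem_bot, ← hf]
    refine ⟨h.2, fun v hv => ?_⟩
    have := hρ h (Additive.ofMul ⟨v, hv⟩)
    rw [hh] at this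
    have h' : v = (h : G) * v * (h : G)⁻¹ := this
    exact mul_inv_eq_iff_eq_mul.1 h'.symm |>.symm
  · intro x hx
    refine LinearMap.ext fun v => ?_
    set z := (ρ x - 1) v with hz
    have hzG : (z.toMul : G) = ⁅(x : G), (v.toMul : G)⁆ := by
      rw [hz, LinearMap.sub_apply, Module.End.one_apply, sub_eq_add_neg, toMul_add, toMul_neg,
        Subgroup.coe_mul, Subgroup.coe_inv, hρ, commutatorElement_def]
    have hmem : (z.toMul : G) ∈ ⁅V, Subgroup.zpowers (x : G)⁆ := by
      rw [hzG, Subgroup.commutator_comm]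
      exact Subgroup.commutator_mem_commutator (Subgroup.mem_zpowers _) v.toMul.2
    have hcz := Subgroup.commutator_eq_bot_iff_le_centralizer.1 hx hmem (x : G)
      (Subgroup.mem_zpowers _)
    show (ρ x - 1) z = 0
    rw [LinearMap.sub_apply, Module.End.one_apply, sub_eq_zero]
    apply Additive.toMul.injective
    exact Subtype.ext (by rw [hρ, hcz, mul_inv_cancel_right])

/-- The two generators, inside the group they generate. -/
theorem closure_pair (a b : G) :
    Subgroup.closure ({⟨a, Subgroup.subset_closure (Or.inl rfl)⟩,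
      ⟨b, Subgroup.subset_closure (Or.inr rfl)⟩} : Set ↥(Subgroup.closure ({a, b} : Set G))) = ⊤ := by
  apply Subgroup.map_injective (Subgroup.closure ({a, b} : Set G)).subtype_injective
  rw [MonoidHom.map_closure, ← MonoidHom.range_eq_map, Subgroup.range_subtype, Set.image_pair]
  rfl

/-- A subgroup of `SL(2,F)` with a commutative Sylow `2`-subgroup has no two opposite
transvections. -/
theorem not_abelian_two {F : Type*} [Field F] [CharP F p] (hp : p ≠ 2) (R : Subgroup SL(2, F))
    [Finite R] {a b : SL(2, F)} {c : F} (hc : c ≠ 0) (ha : a.1 = !![1, c; 0, 1])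
    (hb : b.1 = !![1, 0; 1, 1]) (haR : a ∈ R) (hbR : b ∈ R) (T : Sylow 2 R) :
    ¬ IsMulCommutative T := by
  intro hT
  have h2 := QuadraticSL2.two_ne_zero' (F := F) hp
  have hcyc : IsCyclic T := by
    letI : CommGroup T := { (inferInstance : Group T) with mul_comm := hT.is_comm.comm }
    refine FrobeniusFPF.isCyclic_of_unique_prime fun q hq d e hd he => ?_
    have hq2 : q = 2 := by
      have h1 := T.isPGroup'.exists_card_eq
      obtain ⟨n, hn⟩ := h1
      have h2' : q ∣ 2 ^ n := hn ▸ hd ▸ orderOf_dvd_natCard d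
      exact (Nat.prime_dvd_prime_iff_eq hq Nat.prime_two).1 (hq.dvd_of_dvd_pow h2')
    subst hq2
    have key : ∀ x : T, orderOf x = 2 → ((x : R) : SL(2, F)) = -1 := by
      intro x hx
      have h : ((x : R) : SL(2, F)) * ((x : R) : SL(2, F)) = 1 := by
        have h' : x * x = 1 := by
          have := pow_orderOf_eq_one x
          rwa [hx, sq] at this
        exact congrArg (fun y : T => ((y : R) : SL(2, F))) h'
      refine (QuadraticSL2.eq_of_sq_eq_one h2 h).resolve_left fun h1 => ?_
      have : x = 1 := Subtype.ext (Subtype.ext h1)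
      rw [this, orderOf_one] at hx
      omega
    rw [show d = e from Subtype.ext (Subtype.ext ((key d hd).trans (key e he).symm))]
    exact Subgroup.mem_zpowers e
  by_cases heven : 2 ∣ Nat.card R
  · have hmin : (Nat.card R).minFac = 2 := Nat.minFac_eq_two_iff _ |>.2 heven
    have hN := IsCyclic.normalizer_le_centralizer hmin hcyc
    set f := MonoidHom.transferSylow T hN with hf
    have hcompl := MonoidHom.ker_transferSylow_isComplement' T hN
    have hodd : ¬ 2 ∣ Nat.card f.ker := MonoidHom.not_dvd_card_ker_transferSylow T hN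
    have hmem : ∀ x : R, ((x : SL(2, F)).1.trace = 2) → x ∈ f.ker := by
      intro x hx
      have hxp : x ^ p = 1 := Subtype.ext (QuadraticSL2.pow_eq_one_of_trace hx)
      rw [MonoidHom.mem_ker, ← orderOf_eq_one_iff]
      obtain ⟨n, hn⟩ := T.isPGroup'.exists_card_eq
      refine Nat.eq_one_of_dvd_coprimes ?_ (orderOf_dvd_of_pow_eq_one
        (by rw [← map_pow, hxp, map_one] : f x ^ p = 1)) (hn ▸ orderOf_dvd_natCard (f x))
      exact Nat.Coprime.pow_right n ((Nat.coprime_primes Fact.out Nat.prime_two).2 hp)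
    haveI : Finite (f.ker.map R.subtype) := Finite.Set.finite_image (f.ker : Set R) R.subtype
    refine QuadraticOdd.odd_false hp (f.ker.map R.subtype) hc ha hb
      ⟨⟨a, haR⟩, hmem _ (by show a.1.trace = 2; rw [ha, Matrix.trace_fin_two]; simp; ring), rfl⟩
      ⟨⟨b, hbR⟩, hmem _ (by show b.1.trace = 2; rw [hb, Matrix.trace_fin_two]; simp; ring), rfl⟩ ?_
    rw [Subgroup.card_map_of_injective R.subtype_injective, ← Nat.not_even_iff_odd,
      even_iff_two_dvd]
    exact hodd
  · exact QuadraticOdd.odd_false hp R hc ha hb haR hbR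
      (Nat.not_even_iff_odd.1 (mt even_iff_two_dvd.1 heven))

/-- Two quadratic generators of a non-`p`-group force non-abelian Sylow `2`-subgroups. -/
theorem sylow_two_nonabelian (hp : p ≠ 2) (V H : Subgroup G) (hV : IsElementaryAbelian p V)
    (hHV : H ≤ Subgroup.normalizer (V : Set G))
    (hf : H ⊓ Subgroup.centralizer (V : Set G) = ⊥) (a b : G)
    (hab : H = Subgroup.closure {a, b})
    (ha : ⁅⁅V, Subgroup.zpowers a⁆, Subgroup.zpowers a⁆ = ⊥)
    (hb : ⁅⁅V, Subgroup.zpowers b⁆, Subgroup.zpowers b⁆ = ⊥)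
    (hnp : ¬ IsPGroup p H) (T : Sylow 2 H) : ¬ IsMulCommutative T := by
  subst hab
  intro hT
  obtain ⟨i1, i2, ρ, hρ, hq⟩ := exists_rep V _ hV hHV hf
  letI := i1
  letI := i2
  obtain ⟨g, ⟨I⟩⟩ := exists_image_of_not_pgroup (closure_pair a b) ρ hρ
    (hq ⟨a, Subgroup.subset_closure (Or.inl rfl)⟩ ha)
    (hq ⟨b, Subgroup.subset_closure (Or.inr rfl)⟩ hb) hnp
  have hs : Function.Surjective I.φ.rangeRestrict := I.φ.rangeRestrict_surjective
  refine not_abelian_two hp I.φ.range I.hc I.ha I.hb ⟨_, rfl⟩ ⟨_, rfl⟩ (T.mapSurjective hs) ?_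
  rw [Sylow.coe_mapSurjective] at *
  refine ⟨⟨?_⟩⟩
  rintro ⟨_, x, hx, rfl⟩ ⟨_, y, hy, rfl⟩
  refine Subtype.ext ?_
  show I.φ.rangeRestrict x * I.φ.rangeRestrict y = I.φ.rangeRestrict y * I.φ.rangeRestrict x
  rw [← map_mul, ← map_mul]
  exact congrArg _ (congrArg Subtype.val (hT.is_comm.comm (⟨x, hx⟩ : T) ⟨y, hy⟩))

end Cfsg.Agent.QuadraticGroup
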