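import Mathlib
import Cfsg.Agent.Lib.QuadraticSL2
import Cfsg.Agent.Lib.QuadraticOdd
import Cfsg.Agent.Lib.CoprimeAction

/-! A `p`-element of `SL(2,F)` acting nontrivially on a `p'`-subgroup gives `SL(2,3)`. -/

set_option autoImplicit false

open scoped MatrixGroups commutatorElement

namespace Cfsg.Agent.QuadraticThree

theorem upper_pow : ∀ t : ZMod 3, (!![1, 1; 0, 1] : Matrix (Fin 2) (Fin 2) (ZMod 3)) ^ t.val =
    !![1, t; 0, 1] := by decide

theorem sq_one : ∀ e : ZMod 3, e * e = 1 → e = 1 ∨ e = -1 := by decide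

theorem adj_w : (!![0, - -1; -1, 0] : Matrix (Fin 2) (Fin 2) (ZMod 3)).adjugate =
    !![0, -1; 1, 0] := by
  rw [Matrix.adjugate_fin_two]; decide

variable {F : Type*} [Field F] {p : ℕ} [Fact p.Prime] [CharP F p]

/-- A group of matrices over a field generated by the two standard elements is everything. -/
theorem sl2_top {K : Type*} [Field K] (L : Subgroup SL(2, K))
    (hU : ∀ t : K, ∃ g ∈ L, g.1 = !![1, t; 0, 1]) (hw : ∃ g ∈ L, g.1 = !![0, -1; 1, 0]) :
    L = ⊤ := by
  obtain ⟨W, hWL, hW⟩ := hw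
  have main : ∀ A : SL(2, K), A.1 1 0 ≠ 0 → A ∈ L := by
    intro A hA
    have hdet : A.1 0 0 * A.1 1 1 - A.1 0 1 * A.1 1 0 = 1 := by
      rw [← Matrix.det_fin_two]; exact A.2
    obtain ⟨X, hXL, hX⟩ := hU ((A.1 0 0 - 1) / A.1 1 0)
    obtain ⟨Y, hYL, hY⟩ := hU (-A.1 1 0)
    obtain ⟨Z, hZL, hZ⟩ := hU ((A.1 1 1 - 1) / A.1 1 0)
    have : A = X * (W * Y * W⁻¹) * Z := by
      ext i j
      simp only [Matrix.SpecialLinearGroup.coe_mul, Matrix.SpecialLinearGroup.coe_inv, hX, hY, hZ,
        hW, Matrix.adjugate_fin_two, Matrix.mul_apply, Fin.sum_univ_two, Matrix.of_apply,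
        Matrix.cons_val', Matrix.cons_val_zero, Matrix.cons_val_one, Matrix.empty_val',
        Matrix.cons_val_fin_one]
      fin_cases i <;> fin_cases j <;>
        simp only [Fin.zero_eta, Fin.mk_one, Matrix.cons_val_zero, Matrix.cons_val_one,
          Matrix.cons_val_fin_one, Matrix.of_apply, Matrix.cons_val'] <;>
        field_simp <;> ring_nf <;>
        first
          | linear_combination (0 : K) * hdet
          | linear_combination (1 : K) * hdet
          | linear_combination (-1 : K) * hdet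
          | linear_combination (-A.1 1 0) * hdet
          | linear_combination A.1 1 0 * hdet
    rw [this]
    exact mul_mem (mul_mem hXL (mul_mem (mul_mem hWL hYL) (inv_mem hWL))) hZL
  refine eq_top_iff.2 fun A _ => ?_
  by_cases hA : A.1 1 0 = 0
  · have hdet : A.1 0 0 * A.1 1 1 - A.1 0 1 * A.1 1 0 = 1 := by
      rw [← Matrix.det_fin_two]; exact A.2
    have h := main (W * A) (by
      simp only [Matrix.SpecialLinearGroup.coe_mul, hW, Matrix.mul_apply, Fin.sum_univ_two]
      simp [hA]
      intro h0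
      rw [h0, hA] at hdet
      simp at hdet)
    have := mul_mem (inv_mem hWL) h
    rwa [inv_mul_cancel_left] at this
  · exact main A hA

theorem fixed_of_commute (hp : p ≠ 2) {a s : SL(2, F)} (ha : a ^ p = 1)
    (hs : (orderOf s).Coprime p) (h : (a * s * a⁻¹) * s = s * (a * s * a⁻¹)) : a * s = s * a := by
  have h2 := QuadraticSL2.two_ne_zero' (F := F) hp
  by_cases hs1 : s = 1
  · simp [hs1]
  by_cases hs2 : s = -1
  · simp [hs2]
  have key : ∀ x : SL(2, F), (orderOf x).Coprime p → x.1.trace = 2 → x = 1 := fun x hx hxt =>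
    orderOf_eq_one_iff.1 (Nat.eq_one_of_dvd_coprimes hx dvd_rfl
      (orderOf_dvd_of_pow_eq_one (QuadraticSL2.pow_eq_one_of_trace hxt)))
  have ht : s.1.trace * s.1.trace ≠ 4 := by
    intro ht
    have : (s.1.trace - 2) * (s.1.trace + 2) = 0 := by linear_combination ht
    rcases mul_eq_zero.1 this with e | e
    · exact hs1 (key s hs (sub_eq_zero.1 e))
    · have hq : (-s).1.trace = 2 := by
        rw [Matrix.SpecialLinearGroup.coe_neg, Matrix.trace_neg]
        linear_combination (-1 : F) * e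
      have hpp := QuadraticSL2.pow_eq_one_of_trace (p := p) hq
      rw [Odd.neg_pow ((Fact.out : p.Prime).odd_of_ne_two hp)] at hpp
      have hsp : s ^ p = -1 := by rw [← neg_neg (s ^ p), hpp]
      have hs4 : (s * s) ^ p = 1 := by rw [(Commute.refl s).mul_pow, hsp, neg_mul_neg, one_mul]
      have hss : s * s = 1 := orderOf_eq_one_iff.1 (Nat.eq_one_of_dvd_coprimes hs
        (orderOf_dvd_of_pow_eq_one (show (s * s) ^ orderOf s = 1 by
          rw [(Commute.refl s).mul_pow, pow_orderOf_eq_one, one_mul]))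
        (orderOf_dvd_of_pow_eq_one hs4))
      rcases QuadraticSL2.eq_of_sq_eq_one h2 hss with e | e
      · exact hs1 e
      · exact hs2 e
  have hsq : a ^ 2 * s = s * a ^ 2 := by
    rcases QuadraticSL2.conj_eq_or_eq_inv h2 hs1 hs2 ht h with e | e
    · have h' : a * s = s * a := mul_inv_eq_iff_eq_mul.1 e
      exact (Commute.pow_left h' 2).eq
    · have e' : a * s⁻¹ * a⁻¹ = s := by
        have := congrArg (·⁻¹) e
        simpa [mul_assoc] using this
      refine mul_inv_eq_iff_eq_mul.1 ?_
      calc a ^ 2 * s * (a ^ 2)⁻¹ = a * (a * s * a⁻¹) * a⁻¹ := by rw [sq]; group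
        _ = s := by rw [e, e']
  obtain ⟨m, hm⟩ := (Fact.out : p.Prime).odd_of_ne_two hp
  have : a = (a ^ 2) ^ (m + 1) := by
    rw [← pow_mul, show 2 * (m + 1) = p + 1 by omega, pow_succ, ha, one_mul]
  rw [this]
  exact (Commute.pow_left hsq (m + 1)).eq

theorem sl2_three_of_normalised [Finite F] (hp : p ≠ 2) {a : SL(2, F)} {c : F} (hc : c ≠ 0)
    (ha : a.1 = !![1, c; 0, 1]) {Q : Subgroup SL(2, F)}
    (haQ : a ∈ Subgroup.normalizer (Q : Set SL(2, F))) (hQ : (Nat.card Q).Coprime p)
    (hna : ¬ Q ≤ Subgroup.centralizer {a}) :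
    p = 3 ∧ ∃ K : Subgroup SL(2, F), K ≤ Q ⊔ Subgroup.zpowers a ∧
      Nonempty (K ≃* SL(2, ZMod 3)) := by
  have h2 := QuadraticSL2.two_ne_zero' (F := F) hp
  have hat : a.1.trace = 2 := by rw [ha, Matrix.trace_fin_two]; simp; ring
  have hap : a ^ p = 1 := QuadraticSL2.pow_eq_one_of_trace hat
  have ha1 : a ≠ 1 := fun h => hc (by
    have := congrArg (fun g : SL(2, F) => g.1 0 1) h
    simpa [ha] using this)
  set A := Subgroup.zpowers a with hA
  have hAQ : A ≤ Subgroup.normalizer (Q : Set SL(2, F)) := Subgroup.zpowers_le.2 haQ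
  have hAcard : Nat.card A = p := by
    rw [hA, Nat.card_zpowers]; exact orderOf_eq_prime hap ha1
  have hcopA : (Nat.card A).Coprime (Nat.card Q) := by rw [hAcard]; exact hQ.symm
  have hsol : Group.IsSolvable A ∨ Group.IsSolvable Q :=
    Or.inl (CoprimeAction.isSolvable_zpowers a)
  have hordQ : ∀ s ∈ Q, (orderOf s).Coprime p := fun s hs =>
    hQ.coprime_dvd_left (Subgroup.orderOf_dvd_natCard Q hs)
  have hfixed : ∀ s ∈ Q, (a * s * a⁻¹) * s = s * (a * s * a⁻¹) → a * s = s * a :=
    fun s hs => fixed_of_commute hp hap (hordQ s hs)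
  -- some invariant Sylow subgroup is not centralised
  obtain ⟨q, hq, S, hSQ, hSq, haS, hSna⟩ : ∃ q : ℕ, q.Prime ∧ ∃ S : Subgroup SL(2, F),
      S ≤ Q ∧ IsPGroup q S ∧ a ∈ Subgroup.normalizer (S : Set SL(2, F)) ∧
        ¬ S ≤ Subgroup.centralizer {a} := by
    by_contra hno
    push Not at hno
    apply hna
    set L := Q ⊓ Subgroup.centralizer {a} with hL
    have hdvd : Nat.card Q ∣ Nat.card L := by
      rw [← Nat.factorization_le_iff_dvd Nat.card_pos.ne' Nat.card_pos.ne']
      intro q
      by_cases hq : q.Prime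
      · haveI := Fact.mk hq
        obtain ⟨P, hP⟩ := CoprimeAction.exists_invariant_sylow hAQ hcopA hsol q
        have hle : (P : Subgroup Q).map Q.subtype ≤ L :=
          le_inf (Subgroup.map_subtype_le _) (hno q hq _ (Subgroup.map_subtype_le _)
            (P.isPGroup'.map _) (hP (Subgroup.mem_zpowers a)))
        have h := Subgroup.card_dvd_of_le hle
        rw [CoprimeAction.card_map_sylow P] at h
        exact (hq.pow_dvd_iff_le_factorization Nat.card_pos.ne').1 h
      · simp [Nat.factorization_eq_zero_of_not_prime _ hq]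
    have := Subgroup.eq_of_le_of_card_ge (inf_le_left : L ≤ Q) (Nat.le_of_dvd Nat.card_pos hdvd)
    exact this ▸ inf_le_right
  haveI := Fact.mk hq
  have hordS : ∀ s ∈ S, (orderOf s).Coprime p := fun s hs => hordQ s (hSQ hs)
  have hnab : ∀ z ∈ S, (∀ s ∈ S, s * z = z * s) → z = 1 ∨ z = -1 := by
    intro z hz hzc
    by_contra hne
    apply hSna
    intro s hs
    rw [Subgroup.mem_centralizer_singleton_iff]
    refine (hfixed s (hSQ hs) ?_).symm
    have has : a * s * a⁻¹ ∈ S := (Subgroup.mem_normalizer_iff.1 haS s).1 hs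
    exact QuadraticSL2.commute_of_commute (fun e => hne (Or.inl e)) (fun e => hne (Or.inr e))
      (hzc _ has) (hzc s hs)
  have hSne : Nontrivial S := by
    refine (Subgroup.nontrivial_iff_ne_bot S).2 fun h => hSna ?_
    rw [h]; exact bot_le
  -- `q = 2` and `-1 ∈ S`
  haveI := hSq.center_nontrivial
  obtain ⟨⟨⟨z, hzS⟩, hzc⟩, hz1⟩ := exists_ne (1 : Subgroup.center S)
  have hzm : z = -1 := (hnab z hzS fun s hs =>
    congrArg Subtype.val (Subgroup.mem_center_iff.1 hzc ⟨s, hs⟩)).resolve_left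
      fun h => hz1 (Subtype.ext (Subtype.ext h))
  subst hzm
  -- a second-centre element outside the centre
  have hcne : (Subgroup.center S) ≠ ⊤ := by
    intro htop
    apply hSna
    intro s hs
    rw [Subgroup.mem_centralizer_singleton_iff]
    refine (hfixed s (hSQ hs) ?_).symm
    exact congrArg Subtype.val (Subgroup.mem_center_iff.1
      (htop ▸ Subgroup.mem_top (⟨s, hs⟩ : S))
      ⟨a * s * a⁻¹, (Subgroup.mem_normalizer_iff.1 haS s).1 hs⟩)
  -- elements with all commutators central
  set Z2 : Set SL(2, F) := {s | s ∈ S ∧ ∀ n ∈ S, n * s * n⁻¹ = s ∨ n * s * n⁻¹ = -s} with hZ2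
  have hcentral : ∀ x : S, (∀ n : S, ⁅x, n⁆ ∈ Subgroup.center S) → (x : SL(2, F)) ∈ Z2 := by
    intro x hx
    refine ⟨x.2, fun n hn => ?_⟩
    have h := hx ⟨n, hn⟩
    have hcm := hnab _ (⁅x, (⟨n, hn⟩ : S)⁆).2 fun s hs =>
      congrArg Subtype.val (Subgroup.mem_center_iff.1 h ⟨s, hs⟩)
    have hval : ((⁅x, (⟨n, hn⟩ : S)⁆ : S) : SL(2, F)) = (x : SL(2, F)) * n * (x : SL(2, F))⁻¹ * n⁻¹ :=
      rfl
    rw [hval] at hcm
    rcases hcm with e | e
    · left
      have e' : (x : SL(2, F)) * n = n * x :=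
        mul_inv_eq_iff_eq_mul.1 (by
          rw [mul_inv_eq_one] at e; exact e)
      rw [← e', mul_inv_cancel_right]
    · right
      have e' : (x : SL(2, F)) * n = -(n * x) := by
        have := congrArg (fun t => t * n * (x : SL(2, F))) e
        simpa [mul_assoc] using this
      have : n * (x : SL(2, F)) = -((x : SL(2, F)) * n) := by rw [e', neg_neg]
      rw [this, neg_mul, mul_inv_cancel_right]
  obtain ⟨s, ⟨hsS, hsZ⟩, hnot⟩ : ∃ s ∈ Z2, a * s ≠ s * a := by
    by_contra hno
    push Not at hno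
    haveI := hSq.isNilpotent
    haveI : Nontrivial (S ⧸ Subgroup.center S) :=
      QuotientGroup.nontrivial_iff.2 hcne
    haveI := (hSq.to_quotient (Subgroup.center S)).center_nontrivial
    obtain ⟨⟨xb, hxb⟩, hxb1⟩ := exists_ne (1 : Subgroup.center (S ⧸ Subgroup.center S))
    obtain ⟨x, rfl⟩ := QuotientGroup.mk_surjective xb
    have hxnc : x ∉ Subgroup.center S := fun h =>
      hxb1 (Subtype.ext ((QuotientGroup.eq_one_iff x).2 h))
    have hxZ : (x : SL(2, F)) ∈ Z2 := hcentral x fun n => by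
      rw [← QuotientGroup.eq_one_iff]
      have := Subgroup.mem_center_iff.1 hxb (n : S ⧸ Subgroup.center S)
      rw [commutatorElement_def, QuotientGroup.mk_mul, QuotientGroup.mk_mul, QuotientGroup.mk_mul,
        QuotientGroup.mk_inv, QuotientGroup.mk_inv, ← this]
      group
    have hax := hno _ hxZ
    have hx1 : (x : SL(2, F)) ≠ 1 := fun h => hxnc (by
      rw [show x = 1 from Subtype.ext h]; exact one_mem _)
    have hx2 : (x : SL(2, F)) ≠ -1 := fun h => hxnc (by
      rw [show x = ⟨-1, hzS⟩ from Subtype.ext h]; exact hzc)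
    apply hSna
    intro n hn
    rw [Subgroup.mem_centralizer_singleton_iff]
    have han : a * n * a⁻¹ ∈ S := (Subgroup.mem_normalizer_iff.1 haS n).1 hn
    -- `n⁻¹ (a n a⁻¹)` centralises `x`
    have hc1 : ∀ m ∈ S, a * m * a⁻¹ * (x : SL(2, F)) * (a * m * a⁻¹)⁻¹ =
        a * (m * (x : SL(2, F)) * m⁻¹) * a⁻¹ := by
      intro m _
      have e : a⁻¹ * (x : SL(2, F)) * a = x := by rw [mul_assoc, ← hax, inv_mul_cancel_left]
      calc a * m * a⁻¹ * (x : SL(2, F)) * (a * m * a⁻¹)⁻¹
          = a * m * (a⁻¹ * (x : SL(2, F)) * a) * m⁻¹ * a⁻¹ := by group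
        _ = _ := by rw [e]; group
    set α := n⁻¹ * (a * n * a⁻¹) with hα
    have hαS : α ∈ S := mul_mem (inv_mem hn) han
    have hαx : α * (x : SL(2, F)) = x * α := by
      have h1 : a * n * a⁻¹ * (x : SL(2, F)) * (a * n * a⁻¹)⁻¹ = n * x * n⁻¹ := by
        rw [hc1 n hn]
        rcases hxZ.2 n hn with e | e <;> rw [e]
        · rw [hax, mul_inv_cancel_right]
        · rw [mul_neg, neg_mul, hax, mul_inv_cancel_right]
      have h3 := congrArg (fun t => n⁻¹ * t * (a * n * a⁻¹)) h1
      rw [hα]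
      group at h3 ⊢
      exact h3
    have haα : a * α = α * a := by
      refine hfixed α (hSQ hαS) ?_
      refine QuadraticSL2.commute_of_commute hx1 hx2 ?_ hαx
      calc a * α * a⁻¹ * (x : SL(2, F)) = a * α * (a⁻¹ * (x * a)) * a⁻¹ := by group
        _ = a * (α * x) * a⁻¹ := by rw [← hax]; group
        _ = a * (x * α) * a⁻¹ := by rw [hαx]
        _ = (x : SL(2, F)) * (a * α * a⁻¹) := by rw [← mul_assoc a, hax]; group
    have hpow : ∀ k : ℕ, a ^ k * n * (a ^ k)⁻¹ = n * α ^ k := by
      intro k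
      induction k with
      | zero => simp
      | succ k ih =>
        calc a ^ (k + 1) * n * (a ^ (k + 1))⁻¹ = a * (a ^ k * n * (a ^ k)⁻¹) * a⁻¹ := by
              rw [pow_succ']; group
          _ = (a * n * a⁻¹) * (a * α ^ k * a⁻¹) := by rw [ih]; group
          _ = (n * α) * α ^ k := by
              have e1 : a * α ^ k * a⁻¹ = α ^ k := by
                rw [(Commute.pow_right haα k).eq, mul_inv_cancel_right]
              rw [e1, hα, mul_inv_cancel_left]
          _ = n * α ^ (k + 1) := by rw [pow_succ', mul_assoc]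
    have hαp : α ^ p = 1 := by
      have := hpow p
      rw [hap, one_mul, inv_one, mul_one] at this
      exact mul_eq_left.1 this.symm
    have hα1 : α = 1 := orderOf_eq_one_iff.1
      (Nat.eq_one_of_dvd_coprimes (hordS α hαS) dvd_rfl (orderOf_dvd_of_pow_eq_one hαp))
    rw [hα, inv_mul_eq_one] at hα1
    exact (eq_mul_inv_iff_mul_eq.1 hα1)
  -- `s² = -1`, and `s` anticommutes with its first two conjugates
  have hs1 : s ≠ 1 := fun h => hnot (by simp [h])
  have hs2 : s ≠ -1 := fun h => hnot (by simp [h])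
  have hanti : ∀ m ∈ S, m * s ≠ s * m → m * s = -(s * m) := by
    intro m hm hne
    rcases hsZ m hm with e | e
    · exact absurd (mul_inv_eq_iff_eq_mul.1 e) hne
    · rw [mul_inv_eq_iff_eq_mul, neg_mul] at e; exact e
  set y := a * s * a⁻¹ with hy
  have hyS : y ∈ S := (Subgroup.mem_normalizer_iff.1 haS s).1 hsS
  have hys : y * s ≠ s * y := fun h => hnot (hfixed s (hSQ hsS) h)
  set w := a * y * a⁻¹ with hw
  have hwS : w ∈ S := (Subgroup.mem_normalizer_iff.1 haS y).1 hyS
  have hws : w * s ≠ s * w := by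
    intro h
    apply hnot
    have hw' : w = a ^ 2 * s * (a ^ 2)⁻¹ := by rw [hw, hy, sq]; group
    rw [hw'] at h
    have e := fixed_of_commute hp
      (show (a ^ 2) ^ p = 1 by rw [← pow_mul, mul_comm, pow_mul, hap, one_pow]) (hordS s hsS) h
    obtain ⟨m, hm⟩ := (Fact.out : p.Prime).odd_of_ne_two hp
    have : a = (a ^ 2) ^ (m + 1) := by
      rw [← pow_mul, show 2 * (m + 1) = p + 1 by omega, pow_succ, hap, one_mul]
    rw [this]
    exact (Commute.pow_left e (m + 1)).eq
  have trace0 : ∀ g : SL(2, F), g ≠ 1 → g ≠ -1 → g * g = -1 → g.1.trace = 0 := by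
    intro g g1 g2 h
    by_contra ht
    have h' : g.1 * g.1 = -1 := by
      rw [← Matrix.SpecialLinearGroup.coe_mul, h]; simp
    rw [QuadraticSL2.cayley, sub_eq_neg_self] at h'
    exact smul_ne_zero ht (fun hg : g.1 = 0 => by
      have := g.2; rw [hg, Matrix.det_zero] at this; exact zero_ne_one this) h'
  have hone : (1 : SL(2, F)) ≠ -1 := fun h => h2 (by
    have := congrArg (fun g : SL(2, F) => g.1 0 0) h
    simp at this
    linear_combination this)
  have sq_neg : ∀ g m : SL(2, F), g ≠ 1 → g ≠ -1 → m * g = -(g * m) → g * g = -1 := by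
    intro g m g1 g2 h
    have htr : g.1.trace = 0 := by
      have e : (m * g * m⁻¹).1.trace = g.1.trace := by
        rw [Matrix.SpecialLinearGroup.coe_mul, Matrix.trace_mul_comm,
          ← Matrix.SpecialLinearGroup.coe_mul, inv_mul_cancel_left]
      rw [h, neg_mul, mul_inv_cancel_right, Matrix.SpecialLinearGroup.coe_neg, Matrix.trace_neg] at e
      exact mul_left_cancel₀ h2 (by linear_combination (-1 : F) * e)
    apply Subtype.ext
    rw [Matrix.SpecialLinearGroup.coe_mul, QuadraticSL2.cayley, htr]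
    simp
  have hss : s * s = -1 := sq_neg s y hs1 hs2 (hanti y hyS hys)
  have hcent : ∀ g : SL(2, F), s * g ≠ g * s → g ≠ 1 ∧ g ≠ -1 := fun g h =>
    ⟨fun e => h (by simp [e]), fun e => h (by simp [e])⟩
  have hprod : ∀ g : SL(2, F), g * s = -(s * g) → g * g = -1 → (s * g).1.trace = 0 := by
    intro g hg hgg
    have h3 : (s * g) * (s * g) = -1 := by
      calc (s * g) * (s * g) = s * (g * s) * g := by group
        _ = -((s * s) * (g * g)) := by rw [hg]; simp [mul_assoc]
        _ = -1 := by rw [hss, hgg]; simp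
    have h4 : s * (s * g) ≠ (s * g) * s := by
      intro e
      have e' : (s * g) * s = g := by
        calc (s * g) * s = s * (g * s) := mul_assoc _ _ _
          _ = -(s * s * g) := by rw [hg, mul_neg, ← mul_assoc]
          _ = g := by rw [hss]; simp
      rw [e', ← mul_assoc, hss] at e
      exact hone (mul_right_cancel (b := g) (by rw [one_mul]; exact e.symm))
    exact trace0 _ (hcent _ h4).1 (hcent _ h4).2 h3
  have hyy : y * y = -1 := by
    rw [hy]
    calc a * s * a⁻¹ * (a * s * a⁻¹) = a * (s * s) * a⁻¹ := by group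
      _ = -1 := by rw [hss]; simp
  have hww : w * w = -1 := by
    rw [hw]
    calc a * y * a⁻¹ * (a * y * a⁻¹) = a * (y * y) * a⁻¹ := by group
      _ = -1 := by rw [hyy]; simp
  have t0 : s.1.trace = 0 := trace0 s hs1 hs2 hss
  have t1 := hprod y (hanti y hyS hys) hyy
  have t2 := hprod w (hanti w hwS hws) hww
  have hdet : s.1 0 0 * s.1 1 1 - s.1 0 1 * s.1 1 0 = 1 := by
    rw [← Matrix.det_fin_two]; exact s.2
  rw [Matrix.trace_fin_two] at t0
  simp only [hw, hy, Matrix.SpecialLinearGroup.coe_mul, Matrix.SpecialLinearGroup.coe_inv, ha,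
    Matrix.adjugate_fin_two, Matrix.trace_fin_two, Matrix.mul_apply, Fin.sum_univ_two,
    Matrix.of_apply, Matrix.cons_val', Matrix.cons_val_zero, Matrix.cons_val_one,
    Matrix.empty_val', Matrix.cons_val_fin_one] at t1 t2
  obtain ⟨α, β, γ, hα, hβ, hγ, hδ⟩ : ∃ α β γ, s.1 0 0 = α ∧ s.1 0 1 = β ∧ s.1 1 0 = γ ∧
      s.1 1 1 = -α := ⟨_, _, _, rfl, rfl, rfl, by linear_combination t0⟩
  rw [hα, hβ, hγ, hδ] at hdet t1 t2
  have e1 : c * c * γ * γ = -2 := by linear_combination (-1 : F) * t1 - 2 * hdet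
  have h3 : (3 : F) = 0 := by
    have : 3 * (-2 : F) = 0 := by linear_combination (-1 : F) * t2 - 2 * hdet - 4 * e1
    exact (mul_eq_zero.1 this).resolve_right (neg_ne_zero.2 h2)
  have hp3 : p = 3 := by
    have hd : p ∣ 3 := (CharP.cast_eq_zero_iff F p 3).1 (by exact_mod_cast h3)
    exact (Nat.prime_dvd_prime_iff_eq Fact.out Nat.prime_three).1 hd
  subst hp3
  refine ⟨rfl, ?_⟩
  have he : (c * γ - 1) * (c * γ + 1) = 0 := by linear_combination e1 - h3
  have hγ0 : γ ≠ 0 := fun h => h2 (by rw [h] at e1; linear_combination e1)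
  set κ : ZMod 3 →+* F := ZMod.castHom dvd_rfl F with hκ
  obtain ⟨e, he'⟩ : ∃ e : ZMod 3, κ e = c * γ := by
    rcases mul_eq_zero.1 he with h | h
    · exact ⟨1, by rw [map_one]; linear_combination (-1 : F) * h⟩
    · exact ⟨-1, by rw [map_neg, map_one]; linear_combination (-1 : F) * h⟩
  -- the embedding `A ↦ P A P⁻¹`
  set m := α / γ with hm
  let P : Matrix (Fin 2) (Fin 2) F := !![c, m; 0, 1]
  let P' : Matrix (Fin 2) (Fin 2) F := !![c⁻¹, -(m / c); 0, 1]
  have hPP : P * P' = 1 := by
    ext i j; fin_cases i <;> fin_cases j <;> simp [P, P', Matrix.mul_apply, Fin.sum_univ_two] <;>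
      field_simp <;> ring
  have hP'P : P' * P = 1 := mul_eq_one_comm.1 hPP
  let Φ : SL(2, ZMod 3) →* SL(2, F) := MonoidHom.mk'
    (fun A => ⟨P * A.1.map κ * P', by
      rw [Matrix.det_mul, Matrix.det_mul, mul_comm P.det, mul_assoc, ← Matrix.det_mul, hPP,
        Matrix.det_one, mul_one, ← RingHom.mapMatrix_apply, ← RingHom.map_det, A.2, map_one]⟩)
    (fun A B => by
      apply Subtype.ext
      show P * (A * B).1.map κ * P' = P * A.1.map κ * P' * (P * B.1.map κ * P')
      rw [Matrix.SpecialLinearGroup.coe_mul, Matrix.map_mul]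
      calc P * (A.1.map κ * B.1.map κ) * P' = P * A.1.map κ * 1 * B.1.map κ * P' := by
            simp [Matrix.mul_assoc]
        _ = _ := by rw [← hP'P]; simp only [Matrix.mul_assoc])
  have hΦinj : Function.Injective Φ := by
    intro A B h
    have h' := congrArg (fun g : SL(2, F) => P' * g.1 * P) h
    have e : ∀ A : SL(2, ZMod 3), P' * (Φ A).1 * P = A.1.map κ := fun A => by
      show P' * (P * A.1.map κ * P') * P = _
      rw [← Matrix.mul_assoc, ← Matrix.mul_assoc, hP'P, Matrix.one_mul, Matrix.mul_assoc, hP'P,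
        Matrix.mul_one]
    simp only [e] at h'
    apply Subtype.ext
    exact Matrix.map_injective κ.injective h'
  have hsup : ∀ A, Φ A ∈ Q ⊔ Subgroup.zpowers a := by
    have hL : (Q ⊔ Subgroup.zpowers a).comap Φ = ⊤ := by
      let U₁ : SL(2, ZMod 3) := ⟨!![1, 1; 0, 1], by simp [Matrix.det_fin_two]⟩
      let W₁ : SL(2, ZMod 3) := ⟨!![0, -1; 1, 0], by simp [Matrix.det_fin_two]⟩
      have hU₁ : Φ U₁ = a := by
        apply Subtype.ext
        show P * (!![1, 1; 0, 1] : Matrix (Fin 2) (Fin 2) (ZMod 3)).map κ * P' = a.1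
        rw [ha]
        ext i j
        simp only [Matrix.mul_apply, Fin.sum_univ_two, Matrix.map_apply]
        fin_cases i <;> fin_cases j <;> simp [P, P'] <;> field_simp <;> ring
      let S₁ : SL(2, ZMod 3) := ⟨!![0, -e; e, 0], by
        have : e * e = 1 := κ.injective (by
          rw [map_mul, he', map_one]; linear_combination e1 - h3)
        simp [Matrix.det_fin_two, this]⟩
      have hS₁ : Φ S₁ = s := by
        apply Subtype.ext
        show P * (!![0, -e; e, 0] : Matrix (Fin 2) (Fin 2) (ZMod 3)).map κ * P' = s.1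
        ext i j
        simp only [Matrix.mul_apply, Fin.sum_univ_two, Matrix.map_apply]
        fin_cases i <;> fin_cases j <;>
          simp [P, P', he', hα, hβ, hγ, hδ, hm] <;>
          field_simp <;>
          first
            | linear_combination (0 : F) * hdet
            | linear_combination (1 : F) * hdet
            | linear_combination (-1 : F) * hdet
            | linear_combination c * hdet
            | linear_combination (-c) * hdet
            | linear_combination hdet - e1 + h3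
            | linear_combination e1 + hdet
      have hU₁m : U₁ ∈ (Q ⊔ Subgroup.zpowers a).comap Φ := by
        rw [Subgroup.mem_comap, hU₁]; exact Subgroup.mem_sup_right (Subgroup.mem_zpowers a)
      refine sl2_top _ (fun t => ⟨U₁ ^ t.val, pow_mem hU₁m _, ?_⟩) ?_
      · rw [Matrix.SpecialLinearGroup.coe_pow]
        exact upper_pow t
      · have hS₁m : S₁ ∈ (Q ⊔ Subgroup.zpowers a).comap Φ := by
          rw [Subgroup.mem_comap, hS₁]; exact Subgroup.mem_sup_left (hSQ hsS)
        have hee : e = 1 ∨ e = -1 := by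
          have : e * e = 1 := κ.injective (by
            rw [map_mul, he', map_one]; linear_combination e1 - h3)
          exact sq_one e this
        rcases hee with h | h
        · exact ⟨S₁, hS₁m, by simp [S₁, h]⟩
        · refine ⟨S₁⁻¹, inv_mem hS₁m, ?_⟩
          rw [Matrix.SpecialLinearGroup.coe_inv]
          show (!![0, -e; e, 0] : Matrix (Fin 2) (Fin 2) (ZMod 3)).adjugate = _
          rw [h]
          exact adj_w
    intro A
    have := hL ▸ Subgroup.mem_top A
    exact this
  refine ⟨Φ.range, ?_, ⟨(MonoidHom.ofInjective hΦinj).symm⟩⟩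
  rintro _ ⟨A, rfl⟩
  exact hsup A

end Cfsg.Agent.QuadraticThree
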