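import Mathlib
import Cfsg.Prelude.Def_PLocal
import Cfsg.Prelude.Def_Local
import Cfsg.Agent.Lib.Offenders
import Cfsg.Agent.Lib.QuadraticSL2
import Cfsg.Agent.Lib.QuadraticOdd
import Cfsg.Agent.Lib.QuadraticRep
import Cfsg.Agent.Lib.QuadraticGroup
import Cfsg.Agent.Lib.QuadraticThree
import Cfsg.Agent.Lib.BaerSuzuki
import Cfsg.Agent.Lib.HallCore
import Cfsg.Agent.Lib.HallSolvable

/-! Quadratic elements outside `O_p`: non-abelian Sylow 2-subgroups and `SL(2,3)` sections. -/

set_option autoImplicit false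

open scoped MatrixGroups commutatorElement

namespace Cfsg.Agent.QuadraticMain

open Cfsg QuadraticRep

variable {p : ℕ} [Fact p.Prime]

/-- `Y` is a section of `H`. -/
def HasSection (H : Type*) [Group H] (Y : Type*) [Group Y] : Prop :=
  ∃ (K : Subgroup H) (ψ : K →* Y), Function.Surjective ψ

theorem hasSection_of_range {H X Y : Type*} [Group H] [Group X] [Group Y] (φ : H →* X)
    {K : Subgroup X} (hK : K ≤ φ.range) (e : K ≃* Y) : HasSection H Y := by
  refine ⟨K.comap φ, e.toMonoidHom.comp (MonoidHom.mk' (fun x => (⟨φ x.1, x.2⟩ : K))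
    (fun x y => Subtype.ext (map_mul φ _ _))), ?_⟩
  intro y
  obtain ⟨h, hh⟩ := hK (e.symm y).2
  refine ⟨⟨h, show φ h ∈ K by rw [hh]; exact (e.symm y).2⟩, ?_⟩
  show e ⟨φ h, _⟩ = y
  have : (⟨φ h, by rw [hh]; exact (e.symm y).2⟩ : K) = e.symm y := Subtype.ext hh
  rw [this, e.apply_symm_apply]

/-- A section of `H ≤ G` in the vocabulary of the statements. -/
theorem exists_section_sub {G : Type*} [Group G] {H : Subgroup G} {Y : Type*} [Group Y]
    (h : HasSection H Y) :
    ∃ (K L : Subgroup G) (hL : (L.subgroupOf K).Normal), K ≤ H ∧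
      Nonempty ((K ⧸ L.subgroupOf K) ≃* Y) := by
  obtain ⟨K, ψ, hψ⟩ := h
  let eK : K ≃* K.map H.subtype := K.equivMapOfInjective H.subtype H.subtype_injective
  let ψ' : ↥(K.map H.subtype) →* Y := ψ.comp eK.symm.toMonoidHom
  have hs : Function.Surjective ψ' := hψ.comp eK.symm.surjective
  have e : (ψ'.ker.map (K.map H.subtype).subtype).subgroupOf (K.map H.subtype) = ψ'.ker :=
    Subgroup.comap_map_eq_self_of_injective (K.map H.subtype).subtype_injective _
  haveI hN : ((ψ'.ker.map (K.map H.subtype).subtype).subgroupOf (K.map H.subtype)).Normal := by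
    rw [e]; exact MonoidHom.normal_ker ψ'
  exact ⟨K.map H.subtype, _, hN, Subgroup.map_subtype_le K,
    ⟨(QuotientGroup.quotientMulEquivOfEq e).trans
      (QuotientGroup.quotientKerEquivOfSurjective ψ' hs)⟩⟩

theorem hasSection_subgroup {H : Type*} [Group H] (U : Subgroup H) {Y : Type*} [Group Y]
    (h : HasSection U Y) : HasSection H Y := by
  obtain ⟨K, ψ, hψ⟩ := h
  let e : K ≃* K.map U.subtype := K.equivMapOfInjective U.subtype U.subtype_injective
  exact ⟨_, ψ.comp e.symm.toMonoidHom, hψ.comp e.symm.surjective⟩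

theorem pCore_mem_of_normal {H : Type*} [Group H] {N : Subgroup H} [hN : N.Normal]
    (hNp : IsPGroup p N) {x : H} (hx : x ∈ N) : x ∈ pCore p H :=
  (le_sSup ⟨hN, hNp⟩ : N ≤ pCore p H) hx

section rep

variable {H : Type*} [Group H] [Finite H] {M : Type*} [AddCommGroup M] [Module (ZMod p) M]
  [Finite M] (ρ : H →* Module.End (ZMod p) M)

theorem quad_conj {a : H} (h : H) (ha : (ρ a - 1) * (ρ a - 1) = 0) :
    (ρ (h * a * h⁻¹) - 1) * (ρ (h * a * h⁻¹) - 1) = 0 := by
  have e1 : ρ h⁻¹ * ρ h = 1 := by rw [← map_mul, inv_mul_cancel, map_one]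
  have e2 : ρ h * ρ h⁻¹ = 1 := by rw [← map_mul, mul_inv_cancel, map_one]
  have e : ρ (h * a * h⁻¹) - 1 = ρ h * (ρ a - 1) * ρ h⁻¹ := by
    rw [map_mul, map_mul, mul_sub, sub_mul, mul_one, e2]
  rw [e]
  calc ρ h * (ρ a - 1) * ρ h⁻¹ * (ρ h * (ρ a - 1) * ρ h⁻¹)
      = ρ h * ((ρ a - 1) * (ρ h⁻¹ * ρ h) * (ρ a - 1)) * ρ h⁻¹ := by simp only [mul_assoc]
    _ = 0 := by rw [e1, mul_one, ha, mul_zero, zero_mul]

theorem pow_eq_one_of_quad (hρ : Function.Injective ρ) {a : H}
    (ha : (ρ a - 1) * (ρ a - 1) = 0) : a ^ p = 1 := by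
  rcases subsingleton_or_nontrivial M with hM | hM
  · exact hρ (LinearMap.ext fun x => Subsingleton.elim _ _)
  haveI : Nontrivial (Module.End (ZMod p) M) := by
    obtain ⟨x, hx⟩ := exists_ne (0 : M)
    exact ⟨⟨1, 0, fun h => hx (LinearMap.congr_fun h x)⟩⟩
  haveI : CharP (Module.End (ZMod p) M) p :=
    charP_of_injective_algebraMap (algebraMap (ZMod p) _).injective p
  apply hρ
  have h0 : (ρ a - 1) ^ p = 0 :=
    pow_eq_zero_of_le (Fact.out : p.Prime).two_le (by rw [sq]; exact ha)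
  rw [sub_pow_char_of_commute (p := p) (Commute.one_right _), one_pow, sub_eq_zero] at h0
  rw [map_pow, h0, map_one]

/-- T1: a quadratic element outside `O_p` forces non-abelian Sylow 2-subgroups. -/
theorem sylow_two_nonabelian (hp : p ≠ 2) (hρ : Function.Injective ρ) {a : H}
    (ha : (ρ a - 1) * (ρ a - 1) = 0) (hna : a ∉ pCore p H) (T : Sylow 2 H) :
    ¬ IsMulCommutative T := by
  intro hT
  have hX : IsPGroup p (Subgroup.zpowers a) := fun x => ⟨1, Subtype.ext (by
    obtain ⟨i, hi⟩ := x.2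
    rw [pow_one, SubmonoidClass.coe_pow, ← hi, ← zpow_natCast, ← zpow_mul, mul_comm, zpow_mul,
      zpow_natCast, pow_eq_one_of_quad ρ hρ ha, one_zpow]; rfl)⟩
  obtain ⟨h, hh⟩ : ∃ h : H, ¬ IsPGroup p
      ↥(Subgroup.zpowers a ⊔ (Subgroup.zpowers a).map (MulAut.conj h).toMonoidHom) := by
    by_contra hno
    push Not at hno
    obtain ⟨N, hN, hNp, hXN⟩ := BaerSuzuki.exists_normal_pGroup_of_pairs _ hX hno
    haveI := hN
    exact hna (pCore_mem_of_normal hNp (hXN (Subgroup.mem_zpowers a)))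
  set b := h * a * h⁻¹ with hb
  set K := Subgroup.closure ({a, b} : Set H) with hK
  have hKle : Subgroup.zpowers a ⊔ (Subgroup.zpowers a).map (MulAut.conj h).toMonoidHom ≤ K := by
    refine sup_le (Subgroup.zpowers_le.2 (Subgroup.subset_closure (Or.inl rfl))) ?_
    rw [MonoidHom.map_zpowers]
    exact Subgroup.zpowers_le.2 (Subgroup.subset_closure (Or.inr rfl))
  have hnp : ¬ IsPGroup p K := fun hp' => hh (hp'.to_le hKle)
  obtain ⟨g, ⟨I⟩⟩ := exists_image_of_not_pgroup (QuadraticGroup.closure_pair a b)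
    (ρ.comp K.subtype) (hρ.comp K.subtype_injective) ha (quad_conj ρ h ha) hnp
  obtain ⟨S⟩ := (inferInstance : Nonempty (Sylow 2 K))
  have hS : IsMulCommutative S := by
    obtain ⟨T', hT'⟩ := (S.isPGroup'.map K.subtype).exists_le_sylow
    obtain ⟨u, hu⟩ := MulAction.exists_smul_eq H T' T
    refine ⟨⟨fun x y => ?_⟩⟩
    apply Subtype.ext
    apply Subtype.ext
    have hx := Subgroup.smul_mem_pointwise_smul _ (MulAut.conj u) _ (hT' ⟨x.1, x.2, rfl⟩)
    have hy := Subgroup.smul_mem_pointwise_smul _ (MulAut.conj u) _ (hT' ⟨y.1, y.2, rfl⟩)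
    rw [← Sylow.coe_subgroup_smul, hu] at hx hy
    have h := congrArg Subtype.val (hT.is_comm.comm (⟨_, hx⟩ : T) ⟨_, hy⟩)
    have h' : (MulAut.conj u) ((x.1 : H) * y.1) = (MulAut.conj u) ((y.1 : H) * x.1) := by
      rw [map_mul, map_mul]; exact h
    exact (MulAut.conj u).injective h'
  refine QuadraticGroup.not_abelian_two hp I.φ.range I.hc I.ha I.hb ⟨_, rfl⟩ ⟨_, rfl⟩
    (S.mapSurjective I.φ.rangeRestrict_surjective) ?_
  refine ⟨⟨?_⟩⟩
  rintro ⟨_, x, hx, rfl⟩ ⟨_, y, hy, rfl⟩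
  refine Subtype.ext ?_
  show I.φ.rangeRestrict x * I.φ.rangeRestrict y = I.φ.rangeRestrict y * I.φ.rangeRestrict x
  rw [← map_mul, ← map_mul]
  exact congrArg _ (congrArg Subtype.val (hS.is_comm.comm (⟨x, hx⟩ : S) ⟨y, hy⟩))

/-- Two quadratic generators with a normal subgroup seen as a noncentralised `p'`-group. -/
theorem section_of_pair (hp : p ≠ 2) (hρ : Function.Injective ρ) {a b : H}
    (hgen : Subgroup.closure {a, b} = ⊤) (ha : (ρ a - 1) * (ρ a - 1) = 0)
    (hb : (ρ b - 1) * (ρ b - 1) = 0) (D : Subgroup H) [D.Normal] {g : H} (hg : g ≠ 1)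
    (hgc : (orderOf g).Coprime p)
    (hD : ∀ I : SL2Image p a b g,
      (Nat.card (D.map I.φ)).Coprime p ∧ ¬ D.map I.φ ≤ Subgroup.centralizer {I.φ a}) :
    p = 3 ∧ HasSection H SL(2, ZMod 3) := by
  obtain ⟨I⟩ := exists_image hgen ρ hρ ha hb hg hgc
  obtain ⟨hco, hnc⟩ := hD I
  have han : I.φ a ∈ Subgroup.normalizer (D.map I.φ : Set SL(2, I.F)) := by
    apply Subgroup.le_normalizer_map I.φ
    exact ⟨a, by rw [Subgroup.normalizer_eq_top]; trivial, rfl⟩
  obtain ⟨h3, K, hK, ⟨e⟩⟩ := QuadraticThree.sl2_three_of_normalised hp I.hc I.ha han hco hnc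
  refine ⟨h3, hasSection_of_range I.φ (hK.trans (sup_le (Subgroup.map_le_range _ _)
    (Subgroup.zpowers_le.2 ⟨a, rfl⟩))) e⟩

theorem coprime_map {H X : Type*} [Group H] [Finite H] [Group X] (D : Subgroup H) (f : H →* X)
    (h : ∀ y ∈ D, ∃ m : ℕ, m.Coprime p ∧ f y ^ m = 1) : (Nat.card (D.map f)).Coprime p := by
  rw [Nat.coprime_comm, (Fact.out : p.Prime).coprime_iff_not_dvd]
  intro hd
  haveI : Finite (D.map f) := Finite.Set.finite_image (D : Set H) f
  obtain ⟨⟨_, y, hy, rfl⟩, hx⟩ := exists_prime_orderOf_dvd_card' p hd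
  obtain ⟨m, hm, hym⟩ := h y hy
  rw [← Subgroup.orderOf_coe] at hx
  have := Nat.eq_one_of_dvd_coprimes hm
    (orderOf_dvd_of_pow_eq_one hym) (dvd_of_eq hx)
  rw [this] at hx
  exact (Fact.out : p.Prime).one_lt.ne hx

/-- Two quadratic generators and a normal `p'`-subgroup not centralised by the first. -/
theorem section_of_normal (hp : p ≠ 2) (hρ : Function.Injective ρ) {a b : H}
    (hgen : Subgroup.closure {a, b} = ⊤) (ha : (ρ a - 1) * (ρ a - 1) = 0)
    (hb : (ρ b - 1) * (ρ b - 1) = 0) (Q : Subgroup H) [hQn : Q.Normal]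
    (hQ : (Nat.card Q).Coprime p) (hQa : ¬ Q ≤ Subgroup.centralizer {a}) :
    p = 3 ∧ HasSection H SL(2, ZMod 3) := by
  obtain ⟨q, hq, hqa⟩ := SetLike.not_le_iff_exists.1 hQa
  set g := ⁅q, a⁆ with hgd
  have hgQ : g ∈ Q := by
    rw [hgd, commutatorElement_def, mul_assoc q, mul_assoc q]
    exact mul_mem hq (hQn.conj_mem _ (inv_mem hq) a)
  have hg : g ≠ 1 := fun h => hqa
    (Subgroup.mem_centralizer_singleton_iff.2 (commutatorElement_eq_one_iff_mul_comm.1 h))
  refine section_of_pair ρ hp hρ hgen ha hb Q hg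
    (hQ.coprime_dvd_left (Subgroup.orderOf_dvd_natCard Q hgQ)) fun I => ⟨?_, fun hle => ?_⟩
  · exact coprime_map Q I.φ fun y hy => ⟨orderOf y, hQ.coprime_dvd_left
      (Subgroup.orderOf_dvd_natCard Q hy), by rw [← map_pow, pow_orderOf_eq_one, map_one]⟩
  · apply I.hg
    have := Subgroup.mem_centralizer_singleton_iff.1 (hle ⟨q, hq, rfl⟩)
    show I.φ ⁅q, a⁆ = 1
    rw [map_commutatorElement, commutatorElement_eq_one_iff_mul_comm]
    exact this

/-- T2: a quadratic element outside `O_p` of a `p`-solvable group forces `p = 3` and `SL(2,3)`. -/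
theorem section_of_psolvable (hp : p ≠ 2) (hρ : Function.Injective ρ)
    (hsol : IsPSolvable p H) {a : H} (ha : (ρ a - 1) * (ρ a - 1) = 0) (hna : a ∉ pCore p H) :
    p = 3 ∧ HasSection H SL(2, ZMod 3) := by
  haveI := HallCore.pCore_normal p H
  set N := pCore p H with hN
  set Q := pPrimeCore p (H ⧸ N) with hQ
  haveI : Q.Normal := HallCore.pPrimeCore_normal p (H ⧸ N)
  have hQc : (Nat.card Q).Coprime p := HallCore.coprime_card_pPrimeCore p (H ⧸ N)
  have hCQ : Subgroup.centralizer (Q : Set (H ⧸ N)) ≤ Q := by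
    have h1 := (HallSolvable.isPSolvable_iff p).1 (HallSolvable.isPSolvable_quotient hsol N)
    rw [hQ, HallCore.pPrimeCore_eq_piCore]
    refine HallSolvable.centralizer_piCore_le h1.compl ?_
    rw [compl_compl, ← HallCore.pCore_eq_piCore]
    exact HallCore.pCore_quotient_self p H
  set π := QuotientGroup.mk' N with hπ
  have hap := pow_eq_one_of_quad ρ hρ ha
  have haQ : π a ∉ Q := by
    intro h
    have h1 : orderOf (π a) ∣ p := orderOf_dvd_of_pow_eq_one (by rw [← map_pow, hap, map_one])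
    have h2 := Nat.eq_one_of_dvd_coprimes hQc (Subgroup.orderOf_dvd_natCard Q h) h1
    exact hna ((QuotientGroup.eq_one_iff a).1 (orderOf_eq_one_iff.1 h2))
  have hnc : ¬ Q ≤ Subgroup.centralizer {π a} := fun h =>
    haQ (hCQ fun q hq => Subgroup.mem_centralizer_singleton_iff.1 (h hq))
  -- some commutator with `a` is moved by `a`
  obtain ⟨q, hq, hqc⟩ : ∃ q ∈ Q, ⁅q, π a⁆ * π a ≠ π a * ⁅q, π a⁆ := by
    by_contra hno
    push Not at hno
    apply hnc
    intro q hq
    rw [Subgroup.mem_centralizer_singleton_iff]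
    have hc : Commute ⁅q, π a⁆ (π a) := hno q hq
    have e : q * π a * q⁻¹ = ⁅q, π a⁆ * π a := by rw [commutatorElement_def]; group
    have hpw : q * (π a) ^ p * q⁻¹ = ⁅q, π a⁆ ^ p * (π a) ^ p := by
      rw [← conj_pow, e, hc.mul_pow]
    rw [← map_pow, hap, map_one, mul_one, mul_one, mul_inv_cancel] at hpw
    have hmem : ⁅q, π a⁆ ∈ Q := by
      rw [commutatorElement_def, mul_assoc q, mul_assoc q]
      exact mul_mem hq (‹Q.Normal›.conj_mem _ (inv_mem hq) _)
    have := orderOf_eq_one_iff.1 (Nat.eq_one_of_dvd_coprimes hQc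
      (Subgroup.orderOf_dvd_natCard Q hmem) (orderOf_dvd_of_pow_eq_one hpw.symm))
    exact commutatorElement_eq_one_iff_mul_comm.1 this
  obtain ⟨h, rfl⟩ := QuotientGroup.mk'_surjective N q
  set b := h * a * h⁻¹ with hb
  set K := Subgroup.closure ({a, b} : Set H) with hK
  have haK : a ∈ K := Subgroup.subset_closure (Or.inl rfl)
  have hbK : b ∈ K := Subgroup.subset_closure (Or.inr rfl)
  set x : K := ⟨b * a⁻¹, mul_mem hbK (inv_mem haK)⟩ with hxd
  have hxQ : π (x : H) = ⁅π h, π a⁆ := by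
    show π (b * a⁻¹) = _
    rw [hb, map_mul, map_mul, map_mul, map_inv, map_inv, commutatorElement_def]
  have hxmem : π (x : H) ∈ Q := by
    rw [hxQ, commutatorElement_def, mul_assoc (π h), mul_assoc (π h)]
    exact mul_mem hq (‹Q.Normal›.conj_mem _ (inv_mem hq) _)
  let θ : K →* H ⧸ N := π.comp K.subtype
  set m := Nat.card Q with hm
  haveI : (Q.comap θ).Normal := Subgroup.Normal.comap ‹_› θ
  obtain ⟨k, hk⟩ : ∃ k, Nat.card N = p ^ k := (HallCore.isPGroup_pCore p H).exists_card_eq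
  set g : K := x ^ p ^ k with hgd
  have hgo : g ^ m = 1 := by
    apply Subtype.ext
    have h1 : (x : H) ^ m ∈ N := (QuotientGroup.eq_one_iff _).1
      (show ((((x : H)) ^ m : H) : H ⧸ N) = 1 by
        rw [QuotientGroup.mk_pow]
        exact orderOf_dvd_iff_pow_eq_one.1 (Subgroup.orderOf_dvd_natCard Q hxmem))
    have h2 : ((x : H) ^ m) ^ (p ^ k) = 1 :=
      orderOf_dvd_iff_pow_eq_one.1 (hk ▸ Subgroup.orderOf_dvd_natCard N h1)
    rw [hgd, ← pow_mul, mul_comm, pow_mul, SubmonoidClass.coe_pow, SubmonoidClass.coe_pow]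
    exact h2
  have hgx : π (x : H) ≠ 1 := by
    intro e
    apply hqc
    rw [← hxQ, e, one_mul, mul_one]
  have hg : g ≠ 1 := by
    intro e
    have e' : π (x : H) ^ p ^ k = 1 := by
      have := congrArg (fun y : K => π (y : H)) e
      simpa [hgd] using this
    exact hgx (orderOf_eq_one_iff.1 (Nat.eq_one_of_dvd_coprimes (hQc.pow_right k)
      (Subgroup.orderOf_dvd_natCard Q hxmem) (orderOf_dvd_of_pow_eq_one e')))
  have hgen := QuadraticGroup.closure_pair a b
  have hqb := quad_conj ρ h ha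
  obtain ⟨h3, hs⟩ := section_of_pair (ρ.comp K.subtype) hp (hρ.comp K.subtype_injective) hgen
    (a := (⟨a, haK⟩ : K)) (b := (⟨b, hbK⟩ : K)) ha hqb (Q.comap θ) hg
    ((hQc.coprime_dvd_left (orderOf_dvd_of_pow_eq_one hgo)))
    (fun I => by
      -- the `p`-part `N` dies in the image
      have hR : ((N.comap K.subtype).map I.φ) = ⊥ := by
        haveI : (N.comap K.subtype).Normal := Subgroup.Normal.comap ‹_› _
        haveI : Finite ((N.comap K.subtype).map I.φ) :=
          Finite.Set.finite_image ((N.comap K.subtype : Subgroup K) : Set K) I.φ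
        have hle : ∀ u : K, I.φ u ∈ Subgroup.normalizer
            ((N.comap K.subtype).map I.φ : Set SL(2, I.F)) := fun u =>
          Subgroup.le_normalizer_map I.φ ⟨u, by rw [Subgroup.normalizer_eq_top]; trivial, rfl⟩
        exact QuadraticOdd.normal_pgroup_bot hp I.hc I.ha I.hb
          (((HallCore.isPGroup_pCore p H).comap_of_injective K.subtype K.subtype_injective).map _)
          (hle _) (hle _)
      refine ⟨coprime_map _ I.φ fun y hy => ⟨m, hQc, ?_⟩, fun hle => ?_⟩
      · have h1 : y ^ m ∈ N.comap K.subtype := by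
          rw [Subgroup.mem_comap, map_pow]
          refine (QuotientGroup.eq_one_iff _).1 ?_
          rw [QuotientGroup.mk_pow]
          exact orderOf_dvd_iff_pow_eq_one.1 (Subgroup.orderOf_dvd_natCard Q hy)
        have h2 : I.φ (y ^ m) ∈ (N.comap K.subtype).map I.φ := ⟨_, h1, rfl⟩
        rw [hR, Subgroup.mem_bot, map_pow] at h2
        exact h2
      · have hxm : x ∈ Q.comap θ := hxmem
        have hc := Subgroup.mem_centralizer_singleton_iff.1 (hle ⟨x, hxm, rfl⟩)
        have hxb : (⟨b, hbK⟩ : K) = x * ⟨a, haK⟩ :=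
          Subtype.ext (by show b = b * a⁻¹ * a; group)
        have hba : I.φ ⟨b, hbK⟩ * I.φ ⟨a, haK⟩ = I.φ ⟨a, haK⟩ * I.φ ⟨b, hbK⟩ := by
          rw [show I.φ ⟨b, hbK⟩ = I.φ x * I.φ ⟨a, haK⟩ from
            (congrArg I.φ hxb).trans (map_mul _ _ _)]
          calc I.φ x * I.φ ⟨a, haK⟩ * I.φ ⟨a, haK⟩
              = (I.φ x * I.φ ⟨a, haK⟩) * I.φ ⟨a, haK⟩ := rfl
            _ = (I.φ ⟨a, haK⟩ * I.φ x) * I.φ ⟨a, haK⟩ := by rw [hc]
            _ = I.φ ⟨a, haK⟩ * (I.φ x * I.φ ⟨a, haK⟩) := mul_assoc _ _ _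
        obtain ⟨e1, -, -⟩ := QuadraticSL2.commute_entries _ _ hba
        rw [I.ha, I.hb] at e1
        simp at e1
        exact I.hc e1)
  exact ⟨h3, hasSection_subgroup K hs⟩

end rep

/-- The representation of `G / C(V)` on a normal elementary abelian `V`. -/
theorem exists_rep_conj {G : Type*} [Group G] [Finite G] (V : Subgroup G) [V.Normal]
    (hV : IsElementaryAbelian p V) :
    ∃ (inst : AddCommGroup (Additive V)) (_ : @Module (ZMod p) (Additive V) _ inst.toAddCommMonoid)
      (ρ : (G ⧸ Subgroup.centralizer (V : Set G)) →* Module.End (ZMod p) (Additive V)),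
      Function.Injective ρ ∧
      (∀ x y : Additive V, Additive.toMul (@HAdd.hAdd _ _ _ (@instHAdd _ inst.toAdd) x y) =
        x.toMul * y.toMul) ∧ (∀ (g : G) (v : Additive V),
        ((ρ g v).toMul : G) = g * (v.toMul : G) * g⁻¹) ∧
      ∀ x : G, ⁅⁅V, Subgroup.zpowers x⁆, Subgroup.zpowers x⁆ = ⊥ →
        (ρ x - 1) * (ρ x - 1) = 0 := by
  obtain ⟨hc, hp⟩ := (Offenders.ea_iff V).1 hV
  letI instV : CommGroup V :=
    { (inferInstance : Group V) with mul_comm := fun a b => Subtype.ext (hc a a.2 b b.2) }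
  haveI instM : Module (ZMod p) (Additive V) :=
    AddCommGroup.zmodModule (G := Additive V) fun x => by
      apply Additive.toMul.injective
      exact Subtype.ext (by rw [toMul_nsmul, SubmonoidClass.coe_pow]; exact hp _ x.toMul.2)
  let θ : G →* MulAut V := MulAut.conjNormal
  have hker : Subgroup.centralizer (V : Set G) ≤ θ.ker := by
    intro g hg
    refine MulEquiv.ext fun v => Subtype.ext ?_
    show (θ g v : G) = v
    rw [MulAut.conjNormal_apply, ← hg v v.2, mul_inv_cancel_right]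
  let θ' := QuotientGroup.lift (Subgroup.centralizer (V : Set G)) θ hker
  obtain ⟨ρ, hρ'⟩ := QuadraticGroup.rep_aux (p := p) θ'
  have hρ : ∀ (g : G) (v : Additive V),
      ((ρ g v).toMul : G) = g * (v.toMul : G) * g⁻¹ := fun g v => by
    rw [hρ']
    exact MulAut.conjNormal_apply _ _
  refine ⟨inferInstance, instM, ρ, ?_, fun _ _ => rfl, hρ, ?_⟩
  · rw [injective_iff_map_eq_one]
    intro h hh
    obtain ⟨g, rfl⟩ := QuotientGroup.mk_surjective h
    rw [QuotientGroup.eq_one_iff]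
    intro v hv
    have := hρ g (Additive.ofMul ⟨v, hv⟩)
    rw [hh] at this
    have h' : v = g * v * g⁻¹ := this
    exact mul_inv_eq_iff_eq_mul.1 h'.symm |>.symm
  · intro x hx
    refine LinearMap.ext fun v => ?_
    set z := (ρ x - 1) v with hz
    have hzG : (z.toMul : G) = ⁅x, (v.toMul : G)⁆ := by
      rw [hz, LinearMap.sub_apply, Module.End.one_apply, sub_eq_add_neg, toMul_add, toMul_neg,
        Subgroup.coe_mul, Subgroup.coe_inv, hρ, commutatorElement_def]
    have hmem : (z.toMul : G) ∈ ⁅V, Subgroup.zpowers x⁆ := by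
      rw [hzG, Subgroup.commutator_comm]
      exact Subgroup.commutator_mem_commutator (Subgroup.mem_zpowers _) v.toMul.2
    have hcz := Subgroup.commutator_eq_bot_iff_le_centralizer.1 hx hmem x (Subgroup.mem_zpowers _)
    show (ρ x - 1) z = 0
    rw [LinearMap.sub_apply, Module.End.one_apply, sub_eq_zero]
    apply Additive.toMul.injective
    exact Subtype.ext (by rw [hρ, hcz, mul_inv_cancel_right])

/-- The representation without the formula. -/
theorem exists_rep_quotient {G : Type*} [Group G] [Finite G] (V : Subgroup G) [V.Normal]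
    (hV : IsElementaryAbelian p V) :
    ∃ (inst : AddCommGroup (Additive V)) (_ : @Module (ZMod p) (Additive V) _ inst.toAddCommMonoid)
      (ρ : (G ⧸ Subgroup.centralizer (V : Set G)) →* Module.End (ZMod p) (Additive V)),
      Function.Injective ρ ∧
      ∀ x : G, ⁅⁅V, Subgroup.zpowers x⁆, Subgroup.zpowers x⁆ = ⊥ →
        (ρ x - 1) * (ρ x - 1) = 0 := by
  obtain ⟨i1, i2, ρ, h1, -, -, h3⟩ := exists_rep_conj (p := p) V hV
  exact ⟨i1, i2, ρ, h1, h3⟩

theorem abelian_sylow_of_surjective {G X : Type*} [Group G] [Finite G] [Group X] [Finite X]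
    {f : G →* X} (hf : Function.Surjective f) (hab : ∀ T : Sylow 2 G, IsMulCommutative T)
    (T : Sylow 2 X) : IsMulCommutative T := by
  obtain ⟨S₀⟩ := (inferInstance : Nonempty (Sylow 2 G))
  obtain ⟨u, hu⟩ := MulAction.exists_smul_eq X (S₀.mapSurjective hf) T
  obtain ⟨g, rfl⟩ := hf u
  refine ⟨⟨fun x y => Subtype.ext ?_⟩⟩
  have hx : (x : X) ∈ ((f g • S₀.mapSurjective hf : Sylow 2 X) : Subgroup X) := by
    rw [hu]; exact x.2
  have hy : (y : X) ∈ ((f g • S₀.mapSurjective hf : Sylow 2 X) : Subgroup X) := by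
    rw [hu]; exact y.2
  obtain ⟨x', ⟨x'', hx'', rfl⟩, hx'⟩ := hx
  obtain ⟨y', ⟨y'', hy'', rfl⟩, hy'⟩ := hy
  show (x : X) * y = y * x
  rw [← hx', ← hy']
  show MulAut.conj (f g) (f x'') * MulAut.conj (f g) (f y'') =
    MulAut.conj (f g) (f y'') * MulAut.conj (f g) (f x'')
  rw [← map_mul, ← map_mul, ← map_mul, ← map_mul]
  exact congrArg _ (congrArg f (congrArg Subtype.val
    ((hab S₀).is_comm.comm (⟨x'', hx''⟩ : S₀) ⟨y'', hy''⟩)))

theorem isPStableOn_of_abelian {G : Type*} [Group G] [Finite G] (hp : p ≠ 2)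
    (hab : ∀ T : Sylow 2 G, IsMulCommutative T) (V : Subgroup G) [V.Normal]
    (hV : IsElementaryAbelian p V) : IsPStableOn p V := by
  intro a ha
  by_contra hna
  obtain ⟨i1, i2, ρ, hρ, hq⟩ := exists_rep_quotient V hV
  letI := i1
  letI := i2
  obtain ⟨T⟩ := (inferInstance : Nonempty (Sylow 2 (G ⧸ Subgroup.centralizer (V : Set G))))
  exact sylow_two_nonabelian ρ hp hρ (hq a ha) hna T
    (abelian_sylow_of_surjective (QuotientGroup.mk'_surjective _) hab T)

theorem isPStableOn_of_psolvable {G : Type*} [Group G] [Finite G] (hp : 5 ≤ p)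
    (hsol : IsPSolvable p G) (V : Subgroup G) [V.Normal] (hV : IsElementaryAbelian p V) :
    IsPStableOn p V := by
  intro a ha
  by_contra hna
  obtain ⟨i1, i2, ρ, hρ, hq⟩ := exists_rep_quotient V hV
  letI := i1
  letI := i2
  have := (section_of_psolvable ρ (by omega) hρ (HallSolvable.isPSolvable_quotient hsol _)
    (hq a ha) hna).1
  omega

/-- Stability on a section follows from stability in the quotient. -/
theorem isPStableOnSection {G : Type*} [Group G] [Finite G] (K N : Subgroup G) [N.Normal]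
    [(K.map (QuotientGroup.mk' N)).Normal]
    (h : IsPStableOn p (K.map (QuotientGroup.mk' N))) : IsPStableOnSection p K N := by
  intro a ha
  set π := QuotientGroup.mk' N with hπ
  set C := Subgroup.centralizer ((K.map π : Subgroup (G ⧸ N)) : Set (G ⧸ N)) with hC
  have hq : ⁅⁅K.map π, Subgroup.zpowers (π a)⁆, Subgroup.zpowers (π a)⁆ = ⊥ := by
    rw [← MonoidHom.map_zpowers, ← Subgroup.map_commutator, ← Subgroup.map_commutator,
      Subgroup.map_eq_bot_iff, QuotientGroup.ker_mk']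
    exact ha
  have hmem := h (π a) hq
  set f := (QuotientGroup.mk' C).comp π with hf
  have hfs : Function.Surjective f :=
    (QuotientGroup.mk'_surjective C).comp (QuotientGroup.mk'_surjective N)
  haveI := HallCore.pCore_normal p ((G ⧸ N) ⧸ C)
  refine ⟨(pCore p ((G ⧸ N) ⧸ C)).comap f, Subgroup.Normal.comap ‹_› f, ?_, ?_, hmem⟩
  · intro x hx
    have hx' : π x ∈ C := hx
    show f x ∈ pCore p ((G ⧸ N) ⧸ C)
    rw [hf, MonoidHom.comp_apply]
    have : (QuotientGroup.mk' C) (π x) = 1 := (QuotientGroup.eq_one_iff (π x)).2 hx'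
    rw [this]; exact one_mem _
  · obtain ⟨k, hk⟩ := (HallCore.isPGroup_pCore p ((G ⧸ N) ⧸ C)).exists_card_eq
    refine ⟨k, ?_⟩
    rw [← hk]
    have hker : sectionKernel K N = f.ker := by
      rw [hf, ← MonoidHom.comap_ker, QuotientGroup.ker_mk']; rfl
    rw [hker, ← MonoidHom.comap_bot, Subgroup.relIndex_comap,
      Subgroup.map_comap_eq_self_of_surjective hfs, Subgroup.relIndex_bot_left]

end Cfsg.Agent.QuadraticMain
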