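import Mathlib
import Cfsg.Prelude.Def_LocalEven
import Cfsg.Agent.Lib.TransferPResidual
import Cfsg.Agent.Lib.HallCore

/-!
# Quadratic action: groups whose `p'`-elements commute modulo `O_p` are `p`-stable for odd `p`
-/

set_option linter.style.haveILetI false
set_option autoImplicit false

namespace Cfsg.Agent.TransferQuadratic

open Subgroup Cfsg.Agent.TransferPResidual
open scoped commutatorElement

universe u v

/-- If `1 + N` (with `N² = 0`) and the invertible `a` of order prime to `p` are such that `a`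
commutes with its conjugates by `1 + N` and `(1 + N)²`, then `a` commutes with `N`. -/
theorem commute_of_quadratic {R : Type*} [Ring R] {p : ℕ} (hp : p.Prime) (hp2 : p ≠ 2)
    (hchar : (p : R) = 0) {N : R} (hN : N * N = 0) (a : Rˣ) (ha : Nat.Coprime (orderOf a) p)
    (h1 : Commute (a : R) ((1 + N) * (a : R) * (1 - N)))
    (h2 : Commute (a : R) ((1 + N + N) * (a : R) * (1 - N - N))) :
    Commute (a : R) N := by
  set A : R := (a : R) with hA
  set X : R := N * A - A * N with hX
  set Y : R := N * A * N with hY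
  have e1 : (1 + N) * A * (1 - N) = A + X - Y := by rw [hX, hY]; noncomm_ring
  have e2 : (1 + N + N) * A * (1 - N - N) = A + 2 • X - 4 • Y := by rw [hX, hY]; noncomm_ring
  rw [e1] at h1
  rw [e2] at h2
  have h3 : Commute A (X - Y) := by
    have := h1.sub_right (Commute.refl A)
    rwa [show A + X - Y - A = X - Y by abel] at this
  have h4 : Commute A (2 • X - 4 • Y) := by
    have := h2.sub_right (Commute.refl A)
    rwa [show A + 2 • X - 4 • Y - A = 2 • X - 4 • Y by abel] at this
  have h5 : Commute A (2 • Y) := by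
    have := (h3.add_right h3).sub_right h4
    rwa [show X - Y + (X - Y) - (2 • X - 4 • Y) = 2 • Y by abel] at this
  have h6 : Commute A Y := by
    obtain ⟨c, hc⟩ := (hp.odd_of_ne_two hp2)
    have h7 := h5.smul_right (c + 1)
    have h8 : (c + 1) • 2 • Y = Y := by
      rw [smul_smul, show (c + 1) * 2 = p + 1 by omega, add_smul, one_smul, nsmul_eq_mul, hchar,
        zero_mul, zero_add]
    rwa [h8] at h7
  have h9 : Commute A X := by
    have := h3.add_right h6
    rwa [sub_add_cancel] at this
  have hiter : ∀ m : ℕ, A ^ m * (A * N) = N * (A ^ m * A) - (m + 1) • (A ^ m * X) := by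
    intro m
    induction m with
    | zero =>
      rw [pow_zero, one_mul, one_mul, one_mul, zero_add, one_smul, hX]
      abel
    | succ m ih =>
      have hAN : A * N = N * A - X := by rw [hX]; abel
      calc A ^ (m + 1) * (A * N) = A * (A ^ m * (A * N)) := by rw [pow_succ', mul_assoc]
        _ = A * N * (A ^ m * A) - (m + 1) • (A * (A ^ m * X)) := by
          rw [ih, mul_sub, ← mul_assoc A N, mul_smul_comm]
        _ = N * (A ^ (m + 1) * A) - X * (A ^ m * A) - (m + 1) • (A * (A ^ m * X)) := by
          rw [hAN, sub_mul, pow_succ']; noncomm_ring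
        _ = N * (A ^ (m + 1) * A) - (m + 1 + 1) • (A ^ (m + 1) * X) := by
          rw [show X * (A ^ m * A) = A ^ (m + 1) * X by
            rw [← pow_succ]; exact ((h9.pow_left (m + 1)).eq).symm]
          rw [← mul_assoc A, ← pow_succ', add_smul (m + 1) 1, one_smul]
          abel
  obtain ⟨k, hk⟩ : ∃ k, orderOf a = k + 1 := by
    refine ⟨orderOf a - 1, ?_⟩
    have : orderOf a ≠ 0 := by
      intro h
      rw [h, Nat.coprime_zero_left] at ha
      exact hp.ne_one ha
    omega
  have hone : A ^ (k + 1) = 1 := by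
    rw [hA, ← Units.val_pow_eq_pow_val, ← hk, pow_orderOf_eq_one, Units.val_one]
  have h10 := hiter k
  rw [← mul_assoc, ← pow_succ, hone, one_mul, mul_one, eq_sub_iff_add_eq, add_eq_left] at h10
  have h11 : A * ((k + 1) • (A ^ k * X)) = (k + 1) • X := by
    rw [mul_smul_comm, ← mul_assoc, ← pow_succ', hone, one_mul]
  rw [h10, mul_zero] at h11
  have hbez : (1 : ℤ) = (orderOf a : ℤ) * Nat.gcdA (orderOf a) p + (p : ℤ) * Nat.gcdB (orderOf a) p := by
    rw [← Nat.gcd_eq_gcd_ab, Nat.Coprime.gcd_eq_one ha, Nat.cast_one]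
  have hX0 : X = 0 := by
    rw [← one_smul ℤ X, hbez, add_smul, mul_comm (orderOf a : ℤ), mul_comm (p : ℤ), mul_smul,
      mul_smul, natCast_zsmul, natCast_zsmul, hk, ← h11, smul_zero, zero_add, nsmul_eq_mul,
      hchar, zero_mul, smul_zero]
  change A * N = N * A
  exact (sub_eq_zero.mp hX0).symm

/-- The quotient action on `P / N`. -/
def quotientAction {Y : Type*} [Group Y] {P : Type*} [Group P] (φ : Y →* MulAut P)
    (N : Subgroup P) [N.Normal] (hN : ∀ y, N.map (φ y).toMonoidHom = N) :
    Y →* MulAut (P ⧸ N) where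
  toFun y := QuotientGroup.congr N N (φ y) (hN y)
  map_one' := by
    apply MulEquiv.ext
    intro x
    induction x using QuotientGroup.induction_on with
    | _ z => change ((φ 1 z : P) : P ⧸ N) = _; rw [map_one]; rfl
  map_mul' y z := by
    apply MulEquiv.ext
    intro x
    induction x using QuotientGroup.induction_on with
    | _ w => change ((φ (y * z) w : P) : P ⧸ N) = _; rw [map_mul]; rfl

theorem quotientAction_apply {Y : Type*} [Group Y] {P : Type*} [Group P] (φ : Y →* MulAut P)
    (N : Subgroup P) [N.Normal] (hN : ∀ y, N.map (φ y).toMonoidHom = N) (y : Y) (x : P) :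
    quotientAction φ N hN y (x : P ⧸ N) = ((φ y x : P) : P ⧸ N) := rfl

/-- The restricted action on an invariant subgroup. -/
noncomputable def restrictAction {Y : Type*} [Group Y] {P : Type*} [Group P] (φ : Y →* MulAut P)
    (N : Subgroup P) (hN : ∀ y, N.map (φ y).toMonoidHom = N) : Y →* MulAut N where
  toFun y := (N.equivMapOfInjective _ (φ y).injective).trans (MulEquiv.subgroupCongr (hN y))
  map_one' := by
    apply MulEquiv.ext
    intro x
    apply Subtype.ext
    change φ 1 x = x
    rw [map_one]; rfl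
  map_mul' y z := by
    apply MulEquiv.ext
    intro x
    apply Subtype.ext
    change φ (y * z) x = φ y (φ z x)
    rw [map_mul]; rfl

theorem restrictAction_apply {Y : Type*} [Group Y] {P : Type*} [Group P] (φ : Y →* MulAut P)
    (N : Subgroup P) (hN : ∀ y, N.map (φ y).toMonoidHom = N) (y : Y) (x : N) :
    (restrictAction φ N hN y x : P) = φ y x := rfl

theorem map_eq_of_le {Y : Type*} [Group Y] {P : Type*} [Group P] {φ : Y →* MulAut P}
    {N : Subgroup P} (h : ∀ y, ∀ x ∈ N, φ y x ∈ N) (y : Y) : N.map (φ y).toMonoidHom = N := by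
  refine le_antisymm ?_ fun x hx => ?_
  · rintro _ ⟨x, hx, rfl⟩
    exact h y x hx
  · refine ⟨φ y⁻¹ x, h _ x hx, ?_⟩
    change φ y (φ y⁻¹ x) = x
    rw [map_inv, MulAut.apply_inv_self]

/-- The commutators of a quadratically acting element with `p'`-elements act as `p`-elements,
provided the commutators of `p'`-elements lie in a `p`-subgroup normal in `Y`. -/
theorem exists_normal_commutator (p : ℕ) [hp : Fact p.Prime] (hp2 : p ≠ 2) {Y : Type u}
    [Group Y] [Finite Y] (M : Subgroup Y) [M.Normal] (hM : IsPGroup p M)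
    (hY : ∀ a b : Y, Nat.Coprime (orderOf a) p → Nat.Coprime (orderOf b) p → ⁅a, b⁆ ∈ M) (g : Y) :
    ∀ (n : ℕ) (P : Type v) [Group P] [Finite P], Nat.card P = n → IsPGroup p P →
      ∀ φ : Y →* MulAut P, (∀ x, φ g (x⁻¹ * φ g x) = x⁻¹ * φ g x) →
      ∃ W : Subgroup Y, W.Normal ∧ IsPGroup p (W.map φ) ∧
        ∀ a : Y, Nat.Coprime (orderOf a) p → ⁅g, a⁆ ∈ W := by
  intro n
  induction n using Nat.strong_induction_on with
  | _ n ih =>
    intro P _ _ hn hP φ hq
    by_cases hred : ∃ N : Subgroup P, N.Normal ∧ N ≠ ⊥ ∧ N ≠ ⊤ ∧ ∀ y, ∀ x ∈ N, φ y x ∈ N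
    · obtain ⟨N, hNn, hN0, hN1, hN⟩ := hred
      haveI := hNn
      have hN' := map_eq_of_le hN
      have hc1 : Nat.card N < n := by
        rw [← hn]
        exact lt_of_le_of_ne (Finite.card_subtype_le _) fun h => hN1 (eq_top_of_card_eq N h)
      have hc2 : Nat.card (P ⧸ N) < n := by
        have h3 := N.card_mul_index
        have h4 : Nat.card (P ⧸ N) = N.index := rfl
        have h5 : 1 < Nat.card N := Finite.one_lt_card_iff_nontrivial.mpr ((nontrivial_iff_ne_bot N).mpr hN0)
        have h6 : 0 < N.index := Nat.pos_of_ne_zero index_ne_zero_of_finite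
        rw [h4, ← hn, ← h3]
        exact lt_mul_of_one_lt_left h6 h5
      obtain ⟨W1, hW1n, hW1, hW1c⟩ := ih _ hc1 N rfl (hP.to_subgroup N) (restrictAction φ N hN')
        (fun x => Subtype.ext (hq x))
      obtain ⟨W2, hW2n, hW2, hW2c⟩ := ih _ hc2 (P ⧸ N) rfl (hP.to_quotient N)
        (quotientAction φ N hN') (fun x => by
          induction x using QuotientGroup.induction_on with
          | _ z => exact congrArg (fun t : P => (t : P ⧸ N)) (hq z))
      refine ⟨W1 ⊓ W2, inferInstance, ?_, fun a ha => ⟨hW1c a ha, hW2c a ha⟩⟩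
      intro w
      obtain ⟨_, y, ⟨hy1, hy2⟩, rfl⟩ := w
      obtain ⟨i, hi⟩ := hW1 ⟨_, y, hy1, rfl⟩
      obtain ⟨j, hj⟩ := hW2 ⟨_, y, hy2, rfl⟩
      have hi' : restrictAction φ N hN' (y ^ p ^ (i + j)) = 1 := by
        have : restrictAction φ N hN' (y ^ p ^ i) = 1 := by
          rw [map_pow]; exact congrArg Subtype.val hi
        rw [pow_add, pow_mul, map_pow, this, one_pow]
      have hj' : quotientAction φ N hN' (y ^ p ^ (i + j)) = 1 := by
        have : quotientAction φ N hN' (y ^ p ^ j) = 1 := by
          rw [map_pow]; exact congrArg Subtype.val hj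
        rw [add_comm i j, pow_add, pow_mul, map_pow, this, one_pow]
      set z := y ^ p ^ (i + j) with hz
      have hfixN : ∀ x ∈ N, φ z x = x := fun x hx =>
        congrArg Subtype.val (DFunLike.congr_fun hi' (⟨x, hx⟩ : N))
      have hmod : ∀ x : P, x⁻¹ * φ z x ∈ N := fun x => by
        have h7 := DFunLike.congr_fun hj' (x : P ⧸ N)
        rw [quotientAction_apply] at h7
        exact QuotientGroup.eq.mp h7.symm
      have hiter : ∀ (m : ℕ) (x : P), φ (z ^ m) x = x * (x⁻¹ * φ z x) ^ m := by
        intro m x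
        induction m with
        | zero => rw [pow_zero, pow_zero, map_one, mul_one]; rfl
        | succ m ihm =>
          rw [pow_succ' z, map_mul, MulAut.mul_apply, ihm, map_mul, map_pow (φ z),
            hfixN _ (hmod x), pow_succ', ← mul_assoc, ← mul_assoc, mul_inv_cancel, one_mul]
      obtain ⟨k, hk⟩ := IsPGroup.iff_card.mp hP
      refine ⟨i + j + k, Subtype.ext (MulEquiv.ext fun x => ?_)⟩
      change ((φ y) ^ p ^ (i + j + k)) x = x
      rw [← map_pow, pow_add, pow_mul, ← hz, hiter, ← hk, pow_card_eq_one', mul_one]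
    · push Not at hred
      have hirr : ∀ N : Subgroup P, N.Normal → (∀ y, ∀ x ∈ N, φ y x ∈ N) → N = ⊥ ∨ N = ⊤ := by
        intro N h1 h2
        by_contra h3
        push Not at h3
        obtain ⟨y, x, hx, hx'⟩ := hred N h1 h3.1 h3.2
        exact hx' (h2 y x hx)
      rcases subsingleton_or_nontrivial P with hs | hnt
      · refine ⟨⊤, inferInstance, fun w => ⟨0, ?_⟩, fun a _ => mem_top _⟩
        exact Subtype.ext (MulEquiv.ext fun x => Subsingleton.elim _ _)
      -- `P` is elementary abelian
      let Z : Subgroup P :=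
        { carrier := {x | x ∈ center P ∧ x ^ p = 1}
          one_mem' := ⟨one_mem _, one_pow _⟩
          mul_mem' := fun {x y} hx hy => ⟨mul_mem hx.1 hy.1, by
            rw [Commute.mul_pow ((mem_center_iff.mp hy.1 x) : Commute x y), hx.2, hy.2, one_mul]⟩
          inv_mem' := fun {x} hx => ⟨inv_mem hx.1, by rw [inv_pow, hx.2, inv_one]⟩ }
      have hZn : Z.Normal := ⟨fun x hx y => by
        rw [mem_center_iff.mp hx.1 y, mul_inv_cancel_right]; exact hx⟩
      have hZ : Z = ⊤ := by
        refine (hirr Z hZn fun y x hx => ⟨?_, by rw [← map_pow, hx.2, map_one]⟩).resolve_left ?_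
        · rw [mem_center_iff]
          intro w
          have := congrArg (φ y) (mem_center_iff.mp hx.1 ((φ y).symm w))
          rwa [map_mul, map_mul, MulEquiv.apply_symm_apply] at this
        · haveI := hP.center_nontrivial
          obtain ⟨c, hc⟩ := exists_prime_orderOf_dvd_card' (G := center P) p
            ((hP.to_subgroup (center P)).card_eq_or_dvd.resolve_left Finite.one_lt_card.ne')
          intro h
          have : (c : P) ∈ Z := ⟨c.2, by
            rw [← hc, ← Subgroup.orderOf_coe, pow_orderOf_eq_one]⟩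
          rw [h, mem_bot] at this
          rw [show c = 1 from Subtype.ext this, orderOf_one] at hc
          exact hp.out.one_lt.ne hc
      have hmemZ : ∀ x : P, x ∈ Z := fun x => hZ ▸ mem_top x
      letI : CommGroup P :=
        { ‹Group P› with mul_comm := fun x y => (mem_center_iff.mp (hmemZ x).1 y).symm }
      -- `M` acts trivially
      let F : Subgroup P :=
        { carrier := {x | ∀ m ∈ M, φ m x = x}
          one_mem' := fun m _ => map_one _
          mul_mem' := fun {x y} hx hy m hm => by rw [map_mul, hx m hm, hy m hm]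
          inv_mem' := fun {x} hx m hm => by rw [map_inv, hx m hm] }
      have hF : F = ⊤ := by
        refine (hirr F inferInstance fun y x hx m hm => ?_).resolve_left fun h => ?_
        · have h8 := hx (y⁻¹ * m * y) (by simpa using (inferInstance : M.Normal).conj_mem m hm y⁻¹)
          have h9 := congrArg (φ y) h8
          rwa [← MulAut.mul_apply, ← map_mul, show y * (y⁻¹ * m * y) = m * y by group, map_mul,
            MulAut.mul_apply] at h9
        · letI : MulAction M P := MulAction.compHom P (φ.comp M.subtype)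
          obtain ⟨b, hb, hb1⟩ := hM.exists_fixed_point_of_prime_dvd_card_of_fixed_point (α := P)
            (hP.card_eq_or_dvd.resolve_left Finite.one_lt_card.ne') (a := (1 : P))
            (fun m => map_one (φ m))
          have : b ∈ F := fun m hm => hb ⟨m, hm⟩
          rw [h, mem_bot] at this
          exact hb1 this.symm
      refine ⟨φ.ker, inferInstance, fun w => ⟨0, ?_⟩, fun a ha => ?_⟩
      · obtain ⟨_, y, hy, rfl⟩ := w
        exact Subtype.ext (by simpa using MonoidHom.mem_ker.mp hy)
      have hMker : ∀ m ∈ M, φ m = 1 := fun m hm =>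
        MulEquiv.ext fun x => (hF ▸ mem_top x : x ∈ F) m hm
      have hcomm : ∀ b : Y, Nat.Coprime (orderOf b) p → Commute (φ a) (φ b) := by
        intro b hb
        have h10 := hMker _ (hY a b ha hb)
        rw [map_commutatorElement, commutatorElement_eq_one_iff_mul_comm] at h10
        exact h10
      let Φ : Y →* AddMonoid.End (Additive P) :=
        { toFun := fun y => MonoidHom.toAdditive (φ y).toMonoidHom
          map_one' := by
            apply AddMonoidHom.ext
            intro x
            change Additive.ofMul (φ 1 x.toMul) = x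
            rw [map_one]; rfl
          map_mul' := fun y z => by
            apply AddMonoidHom.ext
            intro x
            change Additive.ofMul (φ (y * z) x.toMul) = Additive.ofMul (φ y (φ z x.toMul))
            rw [map_mul]; rfl }
      have hchar : ((p : AddMonoid.End (Additive P))) = 0 := by
        apply AddMonoidHom.ext
        intro x
        change p • x = 0
        exact congrArg Additive.ofMul (hmemZ x.toMul).2
      set N : AddMonoid.End (Additive P) := Φ g - 1 with hNdef
      have hN : N * N = 0 := by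
        apply AddMonoidHom.ext
        intro x
        change Φ g (Φ g x - x) - (Φ g x - x) = 0
        rw [sub_eq_zero]
        change Additive.ofMul (φ g (φ g x.toMul / x.toMul)) = Additive.ofMul (φ g x.toMul / x.toMul)
        rw [div_eq_inv_mul]
        exact congrArg Additive.ofMul (hq x.toMul)
      have hg : Φ g = 1 + N := by rw [hNdef]; abel
      have hgi : Φ g⁻¹ = 1 - N := by
        have h11 : Φ g * (1 - N) = 1 := by
          rw [hg, add_mul, one_mul, mul_sub, mul_one, hN, sub_zero, sub_add_cancel]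
        calc Φ g⁻¹ = Φ g⁻¹ * (Φ g * (1 - N)) := by rw [h11, mul_one]
          _ = 1 - N := by rw [← mul_assoc, ← map_mul, inv_mul_cancel, map_one, one_mul]
      have hg2 : Φ (g * g) = 1 + N + N := by
        rw [map_mul, hg, add_mul, one_mul, mul_add, mul_one, hN, add_zero]
      have hgi2 : Φ (g * g)⁻¹ = 1 - N - N := by
        rw [mul_inv_rev, map_mul, hgi, sub_mul, one_mul, mul_sub, mul_one, hN, sub_zero]
      have hcommΦ : ∀ b : Y, Nat.Coprime (orderOf b) p → Commute (Φ a) (Φ b) := by
        intro b hb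
        apply AddMonoidHom.ext
        intro x
        exact congrArg Additive.ofMul (DFunLike.congr_fun (hcomm b hb).eq x.toMul)
      have hord : ∀ y : Y, orderOf (y * a * y⁻¹) = orderOf a := fun y =>
        MulEquiv.orderOf_eq (MulAut.conj y) a
      have h12 : Commute (Φ a) N := by
        have hu : Nat.Coprime (orderOf (Φ.toHomUnits a)) p :=
          ha.coprime_dvd_left (orderOf_map_dvd _ a)
        refine commute_of_quadratic hp.out hp2 hchar hN (Φ.toHomUnits a) hu ?_ ?_
        · change Commute (Φ a) ((1 + N) * Φ a * (1 - N))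
          rw [← hg, ← hgi, ← map_mul, ← map_mul]
          exact hcommΦ _ (by rw [hord]; exact ha)
        · change Commute (Φ a) ((1 + N + N) * Φ a * (1 - N - N))
          rw [← hg2, ← hgi2, ← map_mul, ← map_mul]
          exact hcommΦ _ (by rw [hord]; exact ha)
      have h13 : Φ (g * a) = Φ (a * g) := by
        rw [map_mul, map_mul, hg, add_mul, mul_add, one_mul, mul_one, h12.eq]
      rw [MonoidHom.mem_ker, map_commutatorElement, commutatorElement_eq_one_iff_mul_comm,
        ← map_mul, ← map_mul]
      exact MulEquiv.ext fun x => congrArg Additive.toMul (DFunLike.congr_fun h13 (Additive.ofMul x))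

/-- In a group acting faithfully on a `p`-group, `p` odd, whose `p'`-elements commute modulo
`O_p`, an element acting quadratically lies in `O_p`. -/
theorem quadratic_mem_pCore (p : ℕ) [hp : Fact p.Prime] (hp2 : p ≠ 2) {Y : Type u} [Group Y]
    [Finite Y] (hY : ⁅Cfsg.pResidual p Y, Cfsg.pResidual p Y⁆ ≤ Cfsg.pCore p Y)
    {P : Type v} [Group P] [Finite P] (hP : IsPGroup p P) (φ : Y →* MulAut P)
    (hφ : Function.Injective φ) (g : Y) (hq : ∀ x, φ g (x⁻¹ * φ g x) = x⁻¹ * φ g x) :
    g ∈ Cfsg.pCore p Y := by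
  haveI := HallCore.pCore_normal p Y
  set M := Cfsg.pCore p Y with hMdef
  obtain ⟨W, hWn, hW, hWc⟩ := exists_normal_commutator p hp2 M (HallCore.isPGroup_pCore p Y)
    (fun a b ha hb => hY (commutator_mem_commutator (mem_pResidual_of_coprime ha)
      (mem_pResidual_of_coprime hb))) g _ P rfl hP φ hq
  have hWM : W ≤ M := by
    haveI := hWn
    exact HallCore.le_pCore (hW.of_equiv (W.equivMapOfInjective φ hφ).symm)
  -- `g` has `p`-power order
  have hgp : ∃ k, g ^ p ^ k = 1 := by
    obtain ⟨k, hk⟩ := IsPGroup.iff_card.mp hP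
    refine ⟨k, hφ ?_⟩
    rw [map_one]
    refine MulEquiv.ext fun x => ?_
    have hiter : ∀ m : ℕ, φ (g ^ m) x = x * (x⁻¹ * φ g x) ^ m := by
      intro m
      induction m with
      | zero => rw [pow_zero, pow_zero, map_one, mul_one]; rfl
      | succ m ihm =>
        rw [pow_succ' g, map_mul, MulAut.mul_apply, ihm, map_mul, map_pow, hq x, pow_succ',
          ← mul_assoc, ← mul_assoc, mul_inv_cancel, one_mul]
    rw [hiter, ← hk, pow_card_eq_one', mul_one]
    rfl
  let π := QuotientGroup.mk' M
  have hπ : Function.Surjective π := QuotientGroup.mk'_surjective M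
  set A : Subgroup (Y ⧸ M) := Cfsg.pResidual p (Y ⧸ M) with hA
  have hAmap : (Cfsg.pResidual p Y).map π = A := map_pResidual_eq_of_surjective π hπ
  set C := centralizer (A : Set (Y ⧸ M)) with hC
  have hCn : C.Normal := by rw [hC]; infer_instance
  have hgC : π g ∈ C := by
    have h1 : A ≤ centralizer ({π g} : Set (Y ⧸ M)) := by
      rw [hA, pResidual_le_iff_coprime]
      intro b hb
      have hbA : b ∈ A := mem_pResidual_of_coprime hb
      rw [← hAmap] at hbA
      obtain ⟨y, hy, rfl⟩ := hbA
      obtain ⟨e, m, hm, ho⟩ :=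
        Nat.exists_eq_pow_mul_and_not_dvd (orderOf_pos y).ne' p hp.out.ne_one
      -- replace `y` by its `p'`-part
      obtain ⟨j, hj⟩ : ∃ j : ℕ, (π y) ^ (p ^ e * j) = π y := by
        obtain ⟨j, hj⟩ := exists_pow_eq_self_of_coprime (x := π y) (n := p ^ e) (hb.symm.pow_left e)
        exact ⟨j, by rw [pow_mul]; exact hj⟩
      rw [mem_centralizer_iff]
      intro w hw
      rw [Set.mem_singleton_iff.mp hw, ← hj, ← map_pow, ← map_mul, ← map_mul]
      apply (QuotientGroup.mk'_eq_mk' M).mpr
      have hy' : Nat.Coprime (orderOf (y ^ (p ^ e * j))) p := by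
        refine Nat.Coprime.coprime_dvd_left ?_
          ((Nat.Prime.coprime_iff_not_dvd hp.out).mpr hm).symm
        refine orderOf_dvd_of_pow_eq_one ?_
        rw [← pow_mul, mul_comm (p ^ e) j, mul_assoc, ← ho, mul_comm, pow_mul, pow_orderOf_eq_one,
          one_pow]
      refine ⟨(g * y ^ (p ^ e * j))⁻¹ * (y ^ (p ^ e * j) * g), ?_, by group⟩
      have h2 := hWM (hWc _ hy')
      have h3 := (inferInstance : M.Normal).conj_mem _ (inv_mem h2) (g * y ^ (p ^ e * j))⁻¹
      convert h3 using 1
      simp only [commutatorElement_def]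
      group
    rw [hC, mem_centralizer_iff]
    intro a ha
    exact (mem_centralizer_iff.mp (h1 ha) (π g) rfl).symm
  -- a Sylow subgroup of `C` is normal, hence trivial
  have hAc : A ≤ C := by
    rw [hC, ← commutator_eq_bot_iff_le_centralizer, ← hAmap, ← map_commutator,
      Subgroup.map_eq_bot_iff, QuotientGroup.ker_mk']
    exact hY
  obtain ⟨k, hk⟩ := hgp
  obtain ⟨S, hS⟩ := (IsPGroup.of_card_dvd_pow (p := p) (n := k) (by
    rw [Nat.card_zpowers]
    exact orderOf_dvd_of_pow_eq_one (by rw [← Subtype.coe_inj]; simp only [SubmonoidClass.coe_pow]; rw [← map_pow, hk, map_one]; rfl)) :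
    IsPGroup p (zpowers (⟨π g, hgC⟩ : C))).exists_le_sylow
  haveI hSn : (S : Subgroup C).Normal := by
    rw [← normalizer_eq_top_iff, eq_top_iff, ← sylow_sup_pResidual S]
    refine sup_le le_normalizer ?_
    intro a ha
    have haA : (a : Y ⧸ M) ∈ A := map_pResidual_subtype_le C (mem_map_of_mem _ ha)
    rw [mem_normalizer_iff]
    intro s
    have hcomm : a * s = s * a :=
      Subtype.ext (mem_centralizer_iff.mp s.2 (a : Y ⧸ M) haA)
    rw [hcomm, mul_inv_cancel_right]
  haveI : (S : Subgroup C).Characteristic := S.characteristic_of_normal hSn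
  have hbot : (S : Subgroup C).map C.subtype ≤ Cfsg.pCore p (Y ⧸ M) :=
    HallCore.le_pCore (hN := ConjAct.normal_of_characteristic_of_normal) (S.isPGroup'.map _)
  have hq0 : Cfsg.pCore p (Y ⧸ M) = ⊥ := HallCore.pCore_quotient_self p Y
  rw [hq0, le_bot_iff, Subgroup.map_eq_bot_iff, ker_subtype, le_bot_iff] at hbot
  have h1 : (⟨π g, hgC⟩ : C) ∈ (S : Subgroup C) := hS (mem_zpowers _)
  rw [hbot, mem_bot] at h1
  exact (QuotientGroup.eq_one_iff g).mp (congrArg Subtype.val h1)

/-- `⁅O^p(G), O^p(G)⁆ ≤ O_p(G)` passes to subgroups. -/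
theorem hyp_subgroup (p : ℕ) [Fact p.Prime] {G : Type u} [Group G] [Finite G]
    (h : ⁅Cfsg.pResidual p G, Cfsg.pResidual p G⁆ ≤ Cfsg.pCore p G) (K : Subgroup G) :
    ⁅Cfsg.pResidual p K, Cfsg.pResidual p K⁆ ≤ Cfsg.pCore p K := by
  refine le_trans ?_ (HallCore.pCore_subgroupOf_le K)
  rw [subgroupOf, ← map_le_iff_le_comap, map_commutator]
  exact (commutator_mono (map_pResidual_subtype_le K) (map_pResidual_subtype_le K)).trans h

/-- `⁅O^p(G), O^p(G)⁆ ≤ O_p(G)` passes to homomorphic images. -/
theorem hyp_surjective (p : ℕ) [Fact p.Prime] {G : Type u} {H : Type v} [Group G] [Finite G]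
    [Group H] (f : G →* H) (hf : Function.Surjective f)
    (h : ⁅Cfsg.pResidual p G, Cfsg.pResidual p G⁆ ≤ Cfsg.pCore p G) :
    ⁅Cfsg.pResidual p H, Cfsg.pResidual p H⁆ ≤ Cfsg.pCore p H := by
  rw [← map_pResidual_eq_of_surjective f hf, ← map_commutator]
  exact (map_mono h).trans (HallCore.map_pCore_le hf)

/-- Groups with `⁅O^p(G), O^p(G)⁆ ≤ O_p(G)` are `p`-stable in the normalizer form (`p` odd). -/
theorem isNormalizerPStable_of_hyp (p : ℕ) [Fact p.Prime] (hp2 : p ≠ 2) {G : Type u} [Group G]
    [Finite G] (h : ⁅Cfsg.pResidual p G, Cfsg.pResidual p G⁆ ≤ Cfsg.pCore p G) :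
    Cfsg.IsNormalizerPStable p G := by
  intro P hP g hg hquad
  set N := normalizer (P : Set G) with hN
  set C := (centralizer (P : Set G)).subgroupOf N with hC
  let φ : N ⧸ C →* MulAut P :=
    QuotientGroup.lift C P.normalizerMonoidHom (le_of_eq P.normalizerMonoidHom_ker.symm)
  have hφ : Function.Injective φ := by
    rw [injective_iff_map_eq_one]
    intro x hx
    induction x using QuotientGroup.induction_on with
    | _ y =>
      refine (QuotientGroup.eq_one_iff y).mpr ?_
      have : y ∈ P.normalizerMonoidHom.ker := hx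
      rwa [P.normalizerMonoidHom_ker] at this
  refine quadratic_mem_pCore p hp2
    (hyp_surjective p (QuotientGroup.mk' C) (QuotientGroup.mk'_surjective C) (hyp_subgroup p h N))
    hP φ hφ _ fun x => ?_
  apply Subtype.ext
  change g * ((x : G)⁻¹ * (g * (x : G) * g⁻¹)) * g⁻¹ = (x : G)⁻¹ * (g * (x : G) * g⁻¹)
  have h1 : ⁅⁅(x : G)⁻¹, g⁆, g⁆ ∈ (⊥ : Subgroup G) := hquad ▸ commutator_mem_commutator
    (commutator_mem_commutator (inv_mem x.2) (mem_zpowers g)) (mem_zpowers g)
  rw [mem_bot, commutatorElement_eq_one_iff_mul_comm, commutatorElement_def, inv_inv] at h1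
  rw [mul_inv_eq_iff_eq_mul]
  calc g * ((x : G)⁻¹ * (g * (x : G) * g⁻¹)) = g * ((x : G)⁻¹ * g * (x : G) * g⁻¹) := by group
    _ = (x : G)⁻¹ * g * (x : G) * g⁻¹ * g := h1.symm
    _ = (x : G)⁻¹ * (g * (x : G) * g⁻¹) * g := by group

end Cfsg.Agent.TransferQuadratic
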