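import Mathlib
import Cfsg.Agent.Lib.HallCore
import Cfsg.Agent.Lib.BaerSuzuki
import Cfsg.Agent.Lib.OddGL2
import Cfsg.Agent.Lib.TransferQuadratic

/-!
Quadratic elements of groups of odd order acting faithfully on `p`-groups lie in `O_p` (`p` odd).
-/

set_option autoImplicit false

open scoped TensorProduct commutatorElement

namespace Cfsg.Agent.OddQuadratic

universe u v w

/-- Powers of an element acting trivially on a subgroup and its quotient. -/
theorem pow_eq_one_of_trivial_on {P : Type u} [Group P] {p : ℕ} (hP : IsPGroup p P) [Finite P]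
    [Fact p.Prime] (N : Subgroup P) (α : MulAut P) (h1 : ∀ x ∈ N, α x = x)
    (h2 : ∀ x : P, x⁻¹ * α x ∈ N) : ∃ k, α ^ p ^ k = 1 := by
  have hiter : ∀ (m : ℕ) (x : P), (α ^ m) x = x * (x⁻¹ * α x) ^ m := by
    intro m x
    induction m with
    | zero => simp
    | succ m ihm =>
      rw [pow_succ' α, MulAut.mul_apply, ihm, map_mul, map_pow α, h1 _ (h2 x), pow_succ',
        ← mul_assoc, ← mul_assoc, mul_inv_cancel, one_mul]
  obtain ⟨k, hk⟩ := IsPGroup.iff_card.mp hP
  exact ⟨k, MulEquiv.ext fun x => by rw [hiter, ← hk, pow_card_eq_one', mul_one]; rfl⟩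

section linear

variable {K : Type u} [Field K] [IsAlgClosed K] {p : ℕ} [Fact p.Prime] [CharP K p]
variable {Y : Type w} [Group Y] [Finite Y]

omit [IsAlgClosed K] [CharP K p] [Fact p.Prime] in
theorem invariant_of_gen {W : Type v} [AddCommGroup W] [Module K W] (ρ : Y →* Module.End K W)
    {g h : Y} (hgen : Subgroup.closure ({g, h} : Set Y) = ⊤) (U : Submodule K W)
    (hg : ∀ x ∈ U, ρ g x ∈ U) (hh : ∀ x ∈ U, ρ h x ∈ U) (y : Y) : ∀ x ∈ U, ρ y x ∈ U := by
  have hy : y ∈ Subgroup.closure ({g, h} : Set Y) := hgen ▸ Subgroup.mem_top y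
  induction hy using Subgroup.closure_induction with
  | mem z hz =>
    rcases hz with rfl | rfl
    · exact hg
    · exact hh
  | one => intro x hx; simpa using hx
  | mul a b _ _ ha hb => intro x hx; rw [map_mul]; exact ha _ (hb x hx)
  | inv a _ ha =>
    have hpow : ∀ n : ℕ, ∀ x ∈ U, ρ (a ^ n) x ∈ U := by
      intro n
      induction n with
      | zero => intro x hx; simpa using hx
      | succ n ih => intro x hx; rw [pow_succ, map_mul]; exact ih _ (ha x hx)
    have h1 : a⁻¹ = a ^ (orderOf a - 1) := by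
      apply inv_eq_of_mul_eq_one_right
      rw [← pow_succ', Nat.sub_add_cancel (orderOf_pos a), pow_orderOf_eq_one]
    intro x hx
    rw [h1]
    exact hpow _ x hx

/-- Two quadratic elements of an odd-order group generate a group acting by unipotent maps. -/
theorem unipotent_of_two_quadratic (hp : p ≠ 2) (hodd : Odd (Nat.card Y)) {g h : Y}
    (hgen : Subgroup.closure ({g, h} : Set Y) = ⊤) :
    ∀ (n : ℕ) (W : Type v) [AddCommGroup W] [Module K W] [FiniteDimensional K W],
      Module.finrank K W = n → ∀ ρ : Y →* Module.End K W,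
      (ρ g - 1) * (ρ g - 1) = 0 → (ρ h - 1) * (ρ h - 1) = 0 →
      ∀ y : Y, ∃ k, ρ (y ^ p ^ k) = 1 := by
  have hp' : p.Prime := Fact.out
  intro n
  induction n using Nat.strong_induction_on with
  | _ n ih =>
  intro W _ _ _ hn ρ hg hh y
  rcases subsingleton_or_nontrivial W with hs | hnt
  · exact ⟨0, LinearMap.ext fun x => Subsingleton.elim _ _⟩
  set a := ρ g - 1 with ha
  set b := ρ h - 1 with hb
  set T := a * b + b * a with hT
  have hTa : T * a = a * T := by
    rw [hT, add_mul, mul_add, mul_assoc b a a, hg, mul_zero, add_zero, ← mul_assoc a a b, hg,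
      zero_mul, zero_add, mul_assoc]
  have hTb : T * b = b * T := by
    rw [hT, add_mul, mul_add, mul_assoc a b b, hh, mul_zero, zero_add, ← mul_assoc b b a, hh,
      zero_mul, add_zero, mul_assoc]
  by_cases hred : ∃ U : Submodule K W, U ≠ ⊥ ∧ U ≠ ⊤ ∧ (∀ x ∈ U, ρ g x ∈ U) ∧ (∀ x ∈ U, ρ h x ∈ U)
  · obtain ⟨U, hU0, hU1, hUg, hUh⟩ := hred
    have hinv := invariant_of_gen ρ hgen U hUg hUh
    let ρU : Y →* Module.End K U :=
      { toFun := fun z => (ρ z).restrict (hinv z)
        map_one' := LinearMap.ext fun x => Subtype.ext (by simp [LinearMap.restrict_apply])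
        map_mul' := fun z z' => LinearMap.ext fun x => Subtype.ext (by
          simp [LinearMap.restrict_apply]) }
    let ρQ : Y →* Module.End K (W ⧸ U) :=
      { toFun := fun z => U.mapQ U (ρ z) (fun x hx => hinv z x hx)
        map_one' := LinearMap.ext fun x => by
          induction x using Submodule.Quotient.induction_on with
          | _ x => simp
        map_mul' := fun z z' => LinearMap.ext fun x => by
          induction x using Submodule.Quotient.induction_on with
          | _ x => simp }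
    have hlt1 : Module.finrank K U < n := hn ▸ Submodule.finrank_lt hU1
    have hlt2 : Module.finrank K (W ⧸ U) < n := by
      have h1 := U.finrank_quotient_add_finrank
      have h2 : Module.finrank K U ≠ 0 := fun h => hU0 (Submodule.finrank_eq_zero.1 h)
      omega
    have hquadU : ∀ z : Y, (ρ z - 1) * (ρ z - 1) = 0 → (ρU z - 1) * (ρU z - 1) = 0 := by
      intro z hz
      ext x
      have h1 := LinearMap.congr_fun hz (x : W)
      simpa [ρU, LinearMap.restrict_apply] using h1
    have hquadQ : ∀ z : Y, (ρ z - 1) * (ρ z - 1) = 0 → (ρQ z - 1) * (ρQ z - 1) = 0 := by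
      intro z hz
      refine LinearMap.ext fun x => ?_
      induction x using Submodule.Quotient.induction_on with
      | _ x =>
        have h1 := congrArg (Submodule.Quotient.mk (p := U)) (LinearMap.congr_fun hz x)
        simpa [ρQ] using h1
    obtain ⟨i, hi⟩ := ih _ hlt1 U rfl ρU (hquadU g hg) (hquadU h hh) y
    obtain ⟨j, hj⟩ := ih _ hlt2 (W ⧸ U) rfl ρQ (hquadQ g hg) (hquadQ h hh) y
    set z := y ^ p ^ (i + j)
    have hzU : ρU z = 1 := by
      rw [show z = (y ^ p ^ i) ^ p ^ j by rw [← pow_mul, ← pow_add], map_pow, hi, one_pow]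
    have hzQ : ρQ z = 1 := by
      rw [show z = (y ^ p ^ j) ^ p ^ i by rw [← pow_mul, ← pow_add, add_comm], map_pow, hj, one_pow]
    have hz1 : ∀ x, ρ z x - x ∈ U := fun x => by
      have h1 := LinearMap.congr_fun hzQ (Submodule.Quotient.mk x)
      exact (Submodule.Quotient.eq U).1 h1
    have hz2 : ∀ x ∈ U, ρ z x = x := fun x hx =>
      congrArg Subtype.val (LinearMap.congr_fun hzU ⟨x, hx⟩)
    refine ⟨i + j + 1, ?_⟩
    rw [pow_succ (p : ℕ), pow_mul, map_pow]
    have hsq : (ρ z - 1) * (ρ z - 1) = 0 := LinearMap.ext fun x => by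
      show ρ z (ρ z x - x) - (ρ z x - x) = 0
      rw [hz2 _ (hz1 x), sub_self]
    have h3 : (ρ z - 1) ^ p = 0 := by
      obtain ⟨k, hk⟩ := Nat.exists_eq_add_of_le hp'.two_le
      rw [hk, pow_add, sq, hsq, zero_mul]
    have : CharP (Module.End K W) p := charP_of_injective_algebraMap
      (FaithfulSMul.algebraMap_injective K (Module.End K W)) p
    rw [sub_pow_char_of_commute p (Commute.one_right _), one_pow, sub_eq_zero] at h3
    exact h3
  push Not at hred
  have hirr : ∀ U : Submodule K W, U ≠ ⊥ → (∀ x ∈ U, a x ∈ U) → (∀ x ∈ U, b x ∈ U) → U = ⊤ := by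
    intro U hU0 hUa hUb
    by_contra hU1
    have e : ∀ (z : Y), (∀ x ∈ U, (ρ z - 1) x ∈ U) → ∀ x ∈ U, ρ z x ∈ U := fun z hz x hx => by
      have := U.add_mem (hz x hx) hx
      simpa using this
    obtain ⟨x, hx, hx'⟩ := hred U hU0 hU1 (e g hUa)
    exact hx' (e h hUb x hx)
  obtain ⟨t, ht⟩ := Module.End.exists_eigenvalue T
  have hTt : ∀ x, T x = t • x := by
    have htop : Module.End.eigenspace T t = ⊤ := by
      refine hirr _ ht (fun x hx => ?_) (fun x hx => ?_) <;>
        rw [Module.End.mem_eigenspace_iff] at hx ⊢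
      · rw [← Module.End.mul_apply, hTa, Module.End.mul_apply, hx, map_smul]
      · rw [← Module.End.mul_apply, hTb, Module.End.mul_apply, hx, map_smul]
    intro x
    exact Module.End.mem_eigenspace_iff.1 (htop ▸ Submodule.mem_top)
  obtain ⟨v, hv0, hv⟩ : ∃ v : W, v ≠ 0 ∧ a v = 0 := by
    obtain ⟨x, hx⟩ := exists_ne (0 : W)
    by_cases hax : a x = 0
    · exact ⟨x, hx, hax⟩
    · exact ⟨a x, hax, by rw [← Module.End.mul_apply, hg]; rfl⟩
  have hspan : Submodule.span K ({v, b v} : Set W) = ⊤ := by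
    refine hirr _ (fun h => hv0 ((Submodule.eq_bot_iff _).1 h v (Submodule.subset_span (Or.inl rfl)))) ?_ ?_
    · intro x hx
      obtain ⟨c, d, rfl⟩ := Submodule.mem_span_pair.1 hx
      have h1 : a (b v) = t • v := by
        have := hTt v
        simp only [hT, LinearMap.add_apply, Module.End.mul_apply, hv, map_zero, add_zero] at this
        exact this
      rw [map_add, map_smul, map_smul, hv, h1, smul_zero, zero_add, smul_smul]
      exact Submodule.smul_mem _ _ (Submodule.subset_span (Or.inl rfl))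
    · intro x hx
      obtain ⟨c, d, rfl⟩ := Submodule.mem_span_pair.1 hx
      have h1 : b (b v) = 0 := by rw [← Module.End.mul_apply, hh]; rfl
      rw [map_add, map_smul, map_smul, h1, smul_zero, add_zero]
      exact Submodule.smul_mem _ _ (Submodule.subset_span (Or.inr rfl))
  -- both generators act trivially
  suffices htriv : a = 0 ∧ b = 0 by
    refine ⟨0, ?_⟩
    have hg1 : ρ g = 1 := sub_eq_zero.1 htriv.1
    have hh1 : ρ h = 1 := sub_eq_zero.1 htriv.2
    have hker : ∀ z : Y, z ∈ ρ.ker := by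
      have : Subgroup.closure ({g, h} : Set Y) ≤ ρ.ker := by
        rw [Subgroup.closure_le]
        rintro z (rfl | rfl)
        · exact hg1
        · exact hh1
      exact fun z => this (hgen ▸ Subgroup.mem_top z)
    exact hker _
  by_cases hbv : b v ∈ Submodule.span K ({v} : Set W)
  · -- one-dimensional
    have htop : Submodule.span K ({v} : Set W) = ⊤ := by
      rw [eq_top_iff, ← hspan, Submodule.span_le]
      intro x hx
      rcases hx with hx | hx
      · rw [hx]; exact Submodule.mem_span_singleton_self v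
      · rw [Set.mem_singleton_iff.1 hx]; exact hbv
    obtain ⟨c, hc⟩ := Submodule.mem_span_singleton.1 hbv
    have hc0 : c = 0 := by
      have h1 : b (b v) = 0 := by rw [← Module.End.mul_apply, hh]; rfl
      rw [← hc, map_smul, ← hc, smul_smul] at h1
      exact mul_self_eq_zero.1 ((smul_eq_zero.1 h1).resolve_right hv0)
    rw [hc0, zero_smul] at hc
    constructor <;> refine LinearMap.ext_on htop ?_ <;> rintro x rfl
    · exact hv
    · exact hc.symm
  -- two-dimensional
  have hli : LinearIndependent K ![v, b v] := by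
    rw [LinearIndependent.pair_iff]
    intro c d hcd
    by_cases hd : d = 0
    · rw [hd, zero_smul, add_zero] at hcd
      exact ⟨(smul_eq_zero.1 hcd).resolve_right hv0, hd⟩
    · exfalso
      apply hbv
      rw [Submodule.mem_span_singleton]
      refine ⟨-(d⁻¹ * c), ?_⟩
      have := congrArg (fun x => d⁻¹ • x) hcd
      simp only [smul_add, smul_smul, inv_mul_cancel₀ hd, one_smul, smul_zero] at this
      rw [neg_smul]
      exact neg_eq_of_add_eq_zero_right this
  let B : Module.Basis (Fin 2) K W := Module.Basis.mk hli (by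
    rw [Matrix.range_cons_cons_empty, hspan])
  let e := LinearMap.toMatrixAlgEquiv B
  let μ : Y →* GL (Fin 2) K := ((e.toMonoidHom).comp ρ).toHomUnits
  have hμ : ∀ z, ((μ z : GL (Fin 2) K) : Matrix (Fin 2) (Fin 2) K) = e (ρ z) := fun z => rfl
  have : Finite μ.range := Finite.of_surjective μ.rangeRestrict μ.rangeRestrict_surjective
  have hnd := OddGL2.not_dvd_card p hp μ.range (Odd.of_dvd_nat hodd (Subgroup.card_range_dvd μ)) (by
    intro x hx
    by_contra hall
    push Not at hall
    set w := B.equivFun.symm x with hw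
    have hw0 : w ≠ 0 := fun h => hx (B.equivFun.symm.map_eq_zero_iff.1 h)
    have hrepr : (B.repr w : Fin 2 → K) = x := by
      rw [hw, ← B.equivFun_apply, LinearEquiv.apply_symm_apply]
    have hmem : ∀ z : Y, ρ z w ∈ Submodule.span K ({w} : Set W) := by
      intro z
      obtain ⟨c, hc⟩ := Submodule.mem_span_singleton.1 (hall (μ z) ⟨z, rfl⟩)
      refine Submodule.mem_span_singleton.2 ⟨c, B.equivFun.injective ?_⟩
      rw [map_smul, B.equivFun_apply, hrepr, hc, hμ, B.equivFun_apply, ← hrepr]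
      exact LinearMap.toMatrix_mulVec_repr B B (ρ z) w
    have hUa : ∀ z : Y, ∀ u ∈ Submodule.span K ({w} : Set W),
        (ρ z - 1) u ∈ Submodule.span K ({w} : Set W) := by
      intro z u hu
      obtain ⟨c, rfl⟩ := Submodule.mem_span_singleton.1 hu
      rw [map_smul]
      refine Submodule.smul_mem _ _ ?_
      exact Submodule.sub_mem _ (hmem z) (Submodule.mem_span_singleton_self w)
    have htop := hirr _ (by simpa using hw0) (hUa g) (hUa h)
    have h1 : Module.finrank K W = 2 := by rw [Module.finrank_eq_card_basis B, Fintype.card_fin]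
    have h2 := finrank_span_singleton (K := K) hw0
    rw [htop, finrank_top, h1] at h2
    omega)
  have hone : ∀ z : Y, (ρ z - 1) * (ρ z - 1) = 0 → ρ z - 1 = 0 := by
    intro z hz
    rw [sub_eq_zero]
    apply e.injective
    rw [← hμ, map_one]
    suffices μ z = 1 by rw [this]; rfl
    have hzp : μ z ^ p = 1 := by
      apply Units.ext
      rw [Units.val_pow_eq_pow_val, hμ, ← map_pow, Units.val_one]
      have h3 : (ρ z - 1) ^ p = 0 := by
        obtain ⟨k, hk⟩ := Nat.exists_eq_add_of_le hp'.two_le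
        rw [hk, pow_add, sq, hz, zero_mul]
      have : CharP (Module.End K W) p := charP_of_injective_algebraMap
        (FaithfulSMul.algebraMap_injective K (Module.End K W)) p
      rw [sub_pow_char_of_commute p (Commute.one_right _), one_pow, sub_eq_zero] at h3
      rw [h3, map_one]
    rcases (Nat.dvd_prime hp').1 (orderOf_dvd_of_pow_eq_one hzp) with h1 | h1
    · exact orderOf_eq_one_iff.1 h1
    · exact absurd (h1 ▸ Subgroup.orderOf_dvd_natCard μ.range ⟨z, rfl⟩) hnd
  exact ⟨hone g hg, hone h hh⟩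

end linear

/-- The linear case over the prime field, by extension of scalars. -/
theorem pow_eq_one_linear {p : ℕ} [Fact p.Prime] (hp : p ≠ 2) {Y : Type w} [Group Y]
    [Finite Y] (hodd : Odd (Nat.card Y)) {g h : Y}
    (hgen : Subgroup.closure ({g, h} : Set Y) = ⊤) {V : Type v} [AddCommGroup V]
    [Module (ZMod p) V] [Module.Finite (ZMod p) V] (L : Y →* Module.End (ZMod p) V)
    (hg : (L g - 1) * (L g - 1) = 0) (hh : (L h - 1) * (L h - 1) = 0) (y : Y) :
    ∃ k, L (y ^ p ^ k) = 1 := by
  let Kc := AlgebraicClosure (ZMod p)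
  let ρ : Y →* Module.End Kc (TensorProduct (ZMod p) Kc V) :=
    (Module.End.baseChangeHom (ZMod p) Kc V).toMonoidHom.comp L
  have hq' : ∀ z : Y, (L z - 1) * (L z - 1) = 0 → (ρ z - 1) * (ρ z - 1) = 0 := by
    intro z hz
    have := congrArg (Module.End.baseChangeHom (ZMod p) Kc V) hz
    rw [map_mul, map_sub, map_one, map_zero] at this
    exact this
  obtain ⟨k, hk⟩ := unipotent_of_two_quadratic hp hodd hgen _ _ rfl ρ (hq' g hg) (hq' h hh) y
  refine ⟨k, LinearMap.ext fun x => ?_⟩
  have h1 := LinearMap.congr_fun hk ((1 : Kc) ⊗ₜ[ZMod p] x)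
  have h2 : (1 : Kc) ⊗ₜ[ZMod p] (L (y ^ p ^ k) x) = (1 : Kc) ⊗ₜ[ZMod p] x := h1
  exact Module.FaithfullyFlat.tensorProduct_mk_injective (A := ZMod p) (B := Kc) V h2

/-- The elementary abelian case. -/
theorem pow_eq_one_elemAbelian {p : ℕ} [Fact p.Prime] (hp : p ≠ 2) {Y : Type w} [Group Y]
    [Finite Y] (hodd : Odd (Nat.card Y)) {g h : Y}
    (hgen : Subgroup.closure ({g, h} : Set Y) = ⊤) {A : Type v} [CommGroup A] [Finite A]
    (hAp : ∀ x : A, x ^ p = 1) (φ : Y →* MulAut A)
    (hg : ∀ x, φ g (x⁻¹ * φ g x) = x⁻¹ * φ g x)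
    (hh : ∀ x, φ h (x⁻¹ * φ h x) = x⁻¹ * φ h x) (y : Y) : ∃ k, φ (y ^ p ^ k) = 1 := by
  have instM : Module (ZMod p) (Additive A) :=
    AddCommGroup.zmodModule fun x => congrArg Additive.ofMul (hAp x.toMul)
  let L : Y →* Module.End (ZMod p) (Additive A) :=
    { toFun := fun z => AddMonoidHom.toZModLinearMap p (MonoidHom.toAdditive (φ z).toMonoidHom)
      map_one' := LinearMap.ext fun x => by
        show Additive.ofMul (φ 1 x.toMul) = x
        rw [map_one]; rfl
      map_mul' := fun z z' => LinearMap.ext fun x => by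
        show Additive.ofMul (φ (z * z') x.toMul) = Additive.ofMul (φ z (φ z' x.toMul))
        rw [map_mul]; rfl }
  have hquad : ∀ z : Y, (∀ x, φ z (x⁻¹ * φ z x) = x⁻¹ * φ z x) → (L z - 1) * (L z - 1) = 0 := by
    intro z hz
    refine LinearMap.ext fun x => ?_
    have h1 : L z x - x = Additive.ofMul (x.toMul⁻¹ * φ z x.toMul) := by
      apply Additive.toMul.injective
      exact (div_eq_mul_inv _ _).trans (mul_comm _ _)
    rw [Module.End.mul_apply, LinearMap.sub_apply, Module.End.one_apply, LinearMap.zero_apply,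
      LinearMap.sub_apply, Module.End.one_apply, h1, sub_eq_zero]
    exact congrArg Additive.ofMul (hz x.toMul)
  obtain ⟨k, hk⟩ := pow_eq_one_linear hp hodd hgen L (hquad g hg) (hquad h hh) y
  exact ⟨k, MulEquiv.ext fun x => congrArg Additive.toMul (LinearMap.congr_fun hk (Additive.ofMul x))⟩

/-- A group of odd order generated by two elements acting quadratically on a `p`-group acts as a
`p`-group. -/
theorem pow_eq_one_of_two_quadratic {p : ℕ} [Fact p.Prime] (hp : p ≠ 2) {Y : Type w} [Group Y]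
    [Finite Y] (hodd : Odd (Nat.card Y)) {g h : Y}
    (hgen : Subgroup.closure ({g, h} : Set Y) = ⊤) :
    ∀ (n : ℕ) (P : Type v) [Group P] [Finite P], Nat.card P = n → IsPGroup p P →
      ∀ φ : Y →* MulAut P, (∀ x, φ g (x⁻¹ * φ g x) = x⁻¹ * φ g x) →
        (∀ x, φ h (x⁻¹ * φ h x) = x⁻¹ * φ h x) → ∀ y, ∃ k, φ (y ^ p ^ k) = 1 := by
  have hp' : p.Prime := Fact.out
  intro n
  induction n using Nat.strong_induction_on with
  | _ n ih =>
  intro P _ _ hn hP φ hg hh y
  rcases subsingleton_or_nontrivial P with hs | hnt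
  · exact ⟨0, MulEquiv.ext fun x => Subsingleton.elim _ _⟩
  let Z : Subgroup P :=
    { carrier := {x | x ∈ Subgroup.center P ∧ x ^ p = 1}
      one_mem' := ⟨one_mem _, one_pow _⟩
      mul_mem' := fun {x y} hx hy => ⟨mul_mem hx.1 hy.1, by
        rw [Commute.mul_pow ((Subgroup.mem_center_iff.mp hy.1 x) : Commute x y), hx.2, hy.2, one_mul]⟩
      inv_mem' := fun {x} hx => ⟨inv_mem hx.1, by rw [inv_pow, hx.2, inv_one]⟩ }
  have hZn : Z.Normal := ⟨fun x hx y => by
    rw [Subgroup.mem_center_iff.mp hx.1 y, mul_inv_cancel_right]; exact hx⟩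
  have hZinv : ∀ z : Y, ∀ x ∈ Z, φ z x ∈ Z := fun z x hx => ⟨by
    rw [Subgroup.mem_center_iff]
    intro w
    have := congrArg (φ z) (Subgroup.mem_center_iff.mp hx.1 ((φ z).symm w))
    rwa [map_mul, map_mul, MulEquiv.apply_symm_apply] at this, by rw [← map_pow, hx.2, map_one]⟩
  have hZ0 : Z ≠ ⊥ := by
    have := hP.center_nontrivial
    obtain ⟨k, hk0, hk⟩ := (hP.to_subgroup (Subgroup.center P)).nontrivial_iff_card.1 this
    obtain ⟨c, hc⟩ := exists_prime_orderOf_dvd_card' (G := Subgroup.center P) p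
      (hk ▸ dvd_pow_self p hk0.ne')
    intro h0
    have : (c : P) ∈ Z := ⟨c.2, by rw [← hc, ← Subgroup.orderOf_coe, pow_orderOf_eq_one]⟩
    rw [h0, Subgroup.mem_bot] at this
    rw [show c = 1 from Subtype.ext this, orderOf_one] at hc
    exact hp'.ne_one hc.symm
  by_cases hZ1 : Z = ⊤
  · -- elementary abelian: linear algebra
    have hmem : ∀ x : P, x ∈ Z := fun x => hZ1 ▸ Subgroup.mem_top x
    have hPc : ∀ x w : P, x * w = w * x := fun x w =>
      (Subgroup.mem_center_iff.mp (hmem x).1 w).symm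
    exact @pow_eq_one_elemAbelian p _ hp Y _ _ hodd g h hgen P
      { (inferInstance : Group P) with mul_comm := hPc } _ (fun x => (hmem x).2) φ hg hh y
  have hN' := TransferQuadratic.map_eq_of_le hZinv
  have hlt1 : Nat.card Z < n := by
    rw [← hn]
    exact lt_of_le_of_ne (Finite.card_subtype_le _) fun h => hZ1 (Subgroup.eq_top_of_card_eq Z h)
  have hlt2 : Nat.card (P ⧸ Z) < n := by
    rw [← hn, Z.card_eq_card_quotient_mul_card_subgroup]
    exact lt_mul_of_one_lt_right Nat.card_pos
      (Finite.one_lt_card_iff_nontrivial.2 ((Subgroup.nontrivial_iff_ne_bot Z).2 hZ0))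
  have hquadQ : ∀ z : Y, (∀ x, φ z (x⁻¹ * φ z x) = x⁻¹ * φ z x) → ∀ x : P ⧸ Z,
      TransferQuadratic.quotientAction φ Z hN' z (x⁻¹ * TransferQuadratic.quotientAction φ Z hN' z x)
        = x⁻¹ * TransferQuadratic.quotientAction φ Z hN' z x := fun z hz x => by
    induction x using QuotientGroup.induction_on with
    | _ w => exact congrArg (fun t : P => (t : P ⧸ Z)) (hz w)
  obtain ⟨i, hi⟩ := ih _ hlt1 Z rfl (hP.to_subgroup Z) (TransferQuadratic.restrictAction φ Z hN')
    (fun x => Subtype.ext (hg x)) (fun x => Subtype.ext (hh x)) y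
  obtain ⟨j, hj⟩ := ih _ hlt2 (P ⧸ Z) rfl (hP.to_quotient Z)
    (TransferQuadratic.quotientAction φ Z hN') (hquadQ g hg) (hquadQ h hh) y
  set z := y ^ p ^ (i + j) with hz
  have hi' : TransferQuadratic.restrictAction φ Z hN' z = 1 := by
    rw [show z = (y ^ p ^ i) ^ p ^ j by rw [← pow_mul, ← pow_add], map_pow, hi, one_pow]
  have hj' : TransferQuadratic.quotientAction φ Z hN' z = 1 := by
    rw [show z = (y ^ p ^ j) ^ p ^ i by rw [← pow_mul, ← pow_add, add_comm], map_pow, hj, one_pow]
  obtain ⟨k, hk⟩ := pow_eq_one_of_trivial_on hP Z (φ z)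
    (fun x hx => congrArg Subtype.val (DFunLike.congr_fun hi' (⟨x, hx⟩ : Z)))
    (fun x => QuotientGroup.eq.mp (DFunLike.congr_fun hj' (x : P ⧸ Z)).symm)
  refine ⟨i + j + k, ?_⟩
  rw [pow_add p (i + j) k, pow_mul, ← hz, map_pow, hk]

open scoped Pointwise in
/-- A quadratically acting element of a group of odd order acting faithfully on a `p`-group lies in
`O_p`. -/
theorem quadratic_mem_pCore {p : ℕ} [Fact p.Prime] (hp : p ≠ 2) {Y : Type w} [Group Y] [Finite Y]
    (hodd : Odd (Nat.card Y)) {P : Type v} [Group P] [Finite P] (hP : IsPGroup p P)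
    (φ : Y →* MulAut P) (hφ : Function.Injective φ) (g : Y)
    (hq : ∀ x, φ g (x⁻¹ * φ g x) = x⁻¹ * φ g x) : g ∈ Cfsg.pCore p Y := by
  have hconj : ∀ (y : Y) (x : P), φ (y * g * y⁻¹) (x⁻¹ * φ (y * g * y⁻¹) x)
      = x⁻¹ * φ (y * g * y⁻¹) x := by
    intro y x
    have h1 : ∀ w, φ (y * g * y⁻¹) w = φ y (φ g (φ y⁻¹ w)) := fun w => by
      rw [map_mul, map_mul]; rfl
    have h2 : ∀ w, φ y⁻¹ (φ y w) = w := fun w => by
      rw [← MulAut.mul_apply, ← map_mul, inv_mul_cancel, map_one]; rfl
    have h3 : ∀ w, φ y (φ y⁻¹ w) = w := fun w => by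
      rw [← MulAut.mul_apply, ← map_mul, mul_inv_cancel, map_one]; rfl
    set w := φ y⁻¹ x with hw
    have hx : x = φ y w := (h3 x).symm
    rw [h1, h1, hx, h2, ← map_inv, ← map_mul, h2, hq w]
  have hpair : ∀ y : Y, IsPGroup p (Subgroup.closure ({g, y * g * y⁻¹} : Set Y)) := by
    intro y
    set H := Subgroup.closure ({g, y * g * y⁻¹} : Set Y) with hH
    set g' : H := ⟨g, Subgroup.subset_closure (Or.inl rfl)⟩
    set h' : H := ⟨y * g * y⁻¹, Subgroup.subset_closure (Or.inr rfl)⟩
    have hgen : Subgroup.closure ({g', h'} : Set H) = ⊤ := by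
      refine Subgroup.map_injective H.subtype_injective ?_
      rw [MonoidHom.map_closure, ← MonoidHom.range_eq_map, Subgroup.range_subtype, Set.image_pair]
      rfl
    intro z
    obtain ⟨k, hk⟩ := pow_eq_one_of_two_quadratic hp (Odd.of_dvd_nat hodd H.card_subgroup_dvd_card)
      hgen _ P rfl hP (φ.comp H.subtype) hq (hconj y) z
    exact ⟨k, Subtype.ext (hφ (hk.trans (map_one φ).symm))⟩
  have hgp : IsPGroup p (Subgroup.zpowers g) :=
    (hpair 1).to_le (Subgroup.zpowers_le.2 (Subgroup.subset_closure (Or.inl rfl)))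
  obtain ⟨N, hNn, hN, hgN⟩ := BaerSuzuki.exists_normal_pGroup_of_pairs (Subgroup.zpowers g) hgp
    (fun y => by
      refine (hpair y).to_le (sup_le (Subgroup.zpowers_le.2 (Subgroup.subset_closure (Or.inl rfl))) ?_)
      rintro _ ⟨x, hx, rfl⟩
      obtain ⟨m, rfl⟩ := Subgroup.mem_zpowers_iff.1 hx
      show y * g ^ m * y⁻¹ ∈ Subgroup.closure ({g, y * g * y⁻¹} : Set Y)
      rw [← conj_zpow]
      exact Subgroup.zpow_mem (Subgroup.closure ({g, y * g * y⁻¹} : Set Y))
        (Subgroup.subset_closure (Or.inr rfl)) m)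
  exact HallCore.le_pCore hN (hgN (Subgroup.mem_zpowers g))

/-- The form inside a group: `A` normalizes the `p`-group `P` and acts quadratically on it. -/
theorem map_le_pCore {p : ℕ} [Fact p.Prime] (hp : p ≠ 2) {G : Type w} [Group G] [Finite G]
    (hodd : Odd (Nat.card G)) (P A : Subgroup G) (hP : IsPGroup p P)
    (hquad : ⁅⁅P, A⁆, A⁆ = ⊥) :
    (A.subgroupOf (Subgroup.normalizer (P : Set G))).map
        (QuotientGroup.mk' ((Subgroup.centralizer (P : Set G)).subgroupOf (Subgroup.normalizer (P : Set G))))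
      ≤ Cfsg.pCore p _ := by
  set N := Subgroup.normalizer (P : Set G) with hN
  set C := (Subgroup.centralizer (P : Set G)).subgroupOf N with hC
  let φ : N ⧸ C →* MulAut P :=
    QuotientGroup.lift C P.normalizerMonoidHom (le_of_eq P.normalizerMonoidHom_ker.symm)
  have hφ : Function.Injective φ := by
    rw [injective_iff_map_eq_one]
    intro x hx
    induction x using QuotientGroup.induction_on with
    | _ y =>
      refine (QuotientGroup.eq_one_iff y).mpr ?_
      have : y ∈ P.normalizerMonoidHom.ker := hx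
      rwa [P.normalizerMonoidHom_ker] at this
  rintro _ ⟨⟨g, hgN⟩, hg, rfl⟩
  have hoddQ : Odd (Nat.card (N ⧸ C)) :=
    Odd.of_dvd_nat (Odd.of_dvd_nat hodd N.card_subgroup_dvd_card) (Subgroup.card_quotient_dvd_card C)
  refine quadratic_mem_pCore hp hoddQ hP φ hφ _ fun x => ?_
  apply Subtype.ext
  change g * ((x : G)⁻¹ * (g * (x : G) * g⁻¹)) * g⁻¹ = (x : G)⁻¹ * (g * (x : G) * g⁻¹)
  have h1 : ⁅⁅(x : G)⁻¹, g⁆, g⁆ ∈ (⊥ : Subgroup G) := hquad ▸ Subgroup.commutator_mem_commutator
    (Subgroup.commutator_mem_commutator (inv_mem x.2) hg) hg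
  rw [Subgroup.mem_bot, commutatorElement_eq_one_iff_mul_comm, commutatorElement_def, inv_inv] at h1
  rw [mul_inv_eq_iff_eq_mul]
  calc g * ((x : G)⁻¹ * (g * (x : G) * g⁻¹)) = g * ((x : G)⁻¹ * g * (x : G) * g⁻¹) := by group
    _ = (x : G)⁻¹ * g * (x : G) * g⁻¹ * g := h1.symm
    _ = (x : G)⁻¹ * (g * (x : G) * g⁻¹) * g := by group

end Cfsg.Agent.OddQuadratic
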