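import Cfsg.Agent.Lib.BGTransitivity
import Cfsg.Agent.Lib.BGRankTwo
import Cfsg.Agent.Lib.GlaubermanControl
import Cfsg.Agent.Lib.FocalControl
import Cfsg.Agent.Lib.QuadraticMain
import Cfsg.Agent.Lib.PConstrainedSignal
import Cfsg.Agent.Lib.PGroupsCyclic
import Cfsg.Agent.Lib.PGroupsCritical
import Cfsg.Agent.Lib.NormalRankTwo
import Cfsg.Agent.S1396
import Cfsg.Agent.S1457

/-!
Uniqueness subgroups in a minimal simple group of odd order (Bender-Glauberman, section 9).
-/

set_option autoImplicit false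
set_option linter.style.haveILetI false

namespace Cfsg.Agent.BGUnique

open Subgroup
open Cfsg.Agent.GlaubermanZJ
open scoped commutatorElement Pointwise

universe u

variable {G : Type u} [Group G] [Finite G]

section basic

theorem exists_coatom_ge {X : Subgroup G} (hX : X ≠ ⊤) : ∃ M, IsCoatom M ∧ X ≤ M := by
  obtain ⟨M, hXM, hM⟩ := Finite.exists_le_maximal (p := fun H : Subgroup G => H ≠ ⊤) (a := X) hX
  exact ⟨M, ⟨hM.1, fun H hH => by_contra fun h => hH.not_ge (hM.2 h hH.le)⟩, hXM⟩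

omit [Finite G] in
theorem eq_of_unique {X M H : Subgroup G} (h : Cfsg.InUniqueMaximal X) (hM : IsCoatom M)
    (hXM : X ≤ M) (hH : IsCoatom H) (hXH : X ≤ H) : M = H :=
  h.unique ⟨hM, hXM⟩ ⟨hH, hXH⟩

omit [Finite G] in
theorem unique_intro {X M : Subgroup G} (hM : IsCoatom M) (hXM : X ≤ M)
    (h : ∀ H : Subgroup G, IsCoatom H → X ≤ H → H = M) : Cfsg.InUniqueMaximal X :=
  ⟨M, ⟨hM, hXM⟩, fun H hH => h H hH.1 hH.2⟩

theorem unique_mono {X Y : Subgroup G} (h : Cfsg.InUniqueMaximal X) (hXY : X ≤ Y) (hY : Y ≠ ⊤) :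
    Cfsg.InUniqueMaximal Y := by
  obtain ⟨M, hM, hYM⟩ := exists_coatom_ge hY
  exact unique_intro hM hYM fun H hH hYH =>
    eq_of_unique h hH (hXY.trans hYH) hM (hXY.trans hYM)

theorem le_of_unique {X M Y : Subgroup G} (h : Cfsg.InUniqueMaximal X) (hM : IsCoatom M)
    (hXM : X ≤ M) (hXY : X ≤ Y) (hY : Y ≠ ⊤) : Y ≤ M := by
  obtain ⟨H, hH, hYH⟩ := exists_coatom_ge hY
  rwa [eq_of_unique h hM hXM hH (hXY.trans hYH)]

omit [Finite G] in
theorem isCoatom_conj {M : Subgroup G} (g : G) (hM : IsCoatom M) :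
    IsCoatom (MulAut.conj g • M) := by
  refine ⟨fun h => hM.1 ?_, fun H hH => ?_⟩
  · rw [← inv_smul_smul (MulAut.conj g) M, h]
    exact top_le_iff.1 fun x _ => Subgroup.mem_pointwise_smul_iff_inv_smul_mem.2 (mem_top _)
  · have h1 : M < (MulAut.conj g)⁻¹ • H := by
      refine lt_of_le_not_ge (Subgroup.pointwise_smul_subset_iff.1 hH.le) fun h => hH.not_ge ?_
      exact Subgroup.subset_pointwise_smul_iff.2 h
    have h2 := hM.2 _ h1
    rw [← smul_inv_smul (MulAut.conj g) H, h2]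
    exact top_le_iff.1 fun x _ => Subgroup.mem_pointwise_smul_iff_inv_smul_mem.2 (mem_top _)

omit [Finite G] in
theorem unique_conj {X : Subgroup G} (h : Cfsg.InUniqueMaximal X) (g : G) :
    Cfsg.InUniqueMaximal (MulAut.conj g • X) := by
  obtain ⟨M, hM, hXM⟩ := h.exists
  refine unique_intro (isCoatom_conj g hM) (Subgroup.pointwise_smul_le_pointwise_smul_iff.2 hXM)
    fun H hH hXH => ?_
  have h1 : X ≤ MulAut.conj g⁻¹ • H := by
    rw [map_inv]; exact Subgroup.pointwise_smul_subset_iff.1 hXH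
  rw [eq_of_unique h hM hXM (isCoatom_conj _ hH) h1, map_inv, smul_inv_smul]

variable (hG : Cfsg.IsMinSimpleOddOrder G)
include hG

theorem isSolvable_of_ne_top {H : Subgroup G} (hH : H ≠ ⊤) : Group.IsSolvable H := hG.2.2.2 H hH

omit [Finite G] in
theorem odd_card_subgroup (H : Subgroup G) : Odd (Nat.card H) :=
  hG.1.of_dvd_nat (card_subgroup_dvd_card H)

theorem unique_ne_bot {X : Subgroup G} (h : Cfsg.InUniqueMaximal X) : X ≠ ⊥ := by
  rintro rfl
  haveI := hG.2.1
  obtain ⟨M, hM, -⟩ := h.exists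
  have hall : ∀ H : Subgroup G, H ≠ ⊤ → H ≤ M := fun H hH =>
    le_of_unique h hM bot_le bot_le hH
  have hn : M.Normal := ⟨fun m hm g => by
    refine hall _ (isCoatom_conj g hM).1 ?_
    exact ⟨m, hm, rfl⟩⟩
  rcases hn.eq_bot_or_eq_top with hb | ht
  · subst hb
    have hcyc : IsCyclic G := by
      obtain ⟨g, hg⟩ := exists_ne (1 : G)
      refine isCyclic_iff_exists_zpowers_eq_top.2 ⟨g, by_contra fun h1 => hg ?_⟩
      simpa using hall _ h1 (mem_zpowers g)
    obtain ⟨g, hg⟩ := hcyc.exists_generator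
    exact hG.2.2.1 ⟨⟨fun a b => by
      obtain ⟨i, rfl⟩ := mem_zpowers_iff.1 (hg a)
      obtain ⟨j, rfl⟩ := mem_zpowers_iff.1 (hg b)
      rw [← zpow_add, add_comm, zpow_add]⟩⟩
  · exact hM.1 ht

theorem centralizer_subgroup_ne_top {X : Subgroup G} (hX : X ≠ ⊥) :
    centralizer (X : Set G) ≠ ⊤ := by
  intro h
  obtain ⟨x, hx, hx1⟩ := X.bot_or_exists_ne_one.resolve_left hX
  refine BGTransitivity.centralizer_ne_top hG hx1 (top_le_iff.1 fun g _ => ?_)
  exact mem_centralizer_singleton_iff.2 ((h ▸ mem_top g : g ∈ centralizer (X : Set G)) x hx).symm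

theorem normalizer_le_of_coatom {M D : Subgroup G} (hM : IsCoatom M) (hD : D ≠ ⊥) (hDM : D ≤ M)
    (hMD : M ≤ normalizer (D : Set G)) : normalizer (D : Set G) = M := by
  by_contra hne
  have hD' : D ≠ ⊤ := fun h => hM.1 (top_le_iff.1 (h ▸ hDM))
  exact BGTransitivity.normalizer_ne_top hG hD hD' (hM.2 _ (lt_of_le_of_ne hMD (Ne.symm hne)))

omit [Finite G] in
theorem prime_ne_two {p : ℕ} (hdvd : p ∣ Nat.card G) : p ≠ 2 := by
  rintro rfl
  exact Nat.not_even_iff_odd.2 hG.1 (even_iff_two_dvd.2 hdvd)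

end basic

theorem dvd_card_of_ne_bot {p : ℕ} [Fact p.Prime] {A : Subgroup G} (hA : IsPGroup p A) (h : A ≠ ⊥) :
    p ∣ Nat.card A := by
  obtain ⟨n, hn⟩ := IsPGroup.iff_card.1 hA
  rcases n with _ | n
  · exact absurd (eq_bot_of_card_eq A (by rw [hn, pow_zero])) h
  · exact hn ▸ dvd_pow_self p (Nat.succ_ne_zero n)

/-- `O_{p'}(H)` as a subgroup of `G`. -/
abbrev coreOf (p : ℕ) (H : Subgroup G) : Subgroup G := (Cfsg.pPrimeCore p H).map H.subtype

omit [Finite G] in
theorem coreOf_le (p : ℕ) (H : Subgroup G) : coreOf p H ≤ H := map_subtype_le _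

omit [Finite G] in
theorem le_normalizer_coreOf (p : ℕ) (H : Subgroup G) :
    normalizer (H : Set G) ≤ normalizer (coreOf p H : Set G) :=
  haveI := HallCore.pPrimeCore_characteristic p H
  ComponentsCores.normalizer_le_normalizer_map_subtype H (Cfsg.pPrimeCore p H)

theorem coprime_coreOf (p : ℕ) (H : Subgroup G) : (Nat.card (coreOf p H)).Coprime p := by
  rw [coreOf, card_map_of_injective H.subtype_injective]
  exact HallCore.coprime_card_pPrimeCore p H

/-! ### Maximal `p`-subgroups of a subgroup -/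

section maxp

variable {p : ℕ} [hp : Fact p.Prime]

/-- `P` is a maximal `p`-subgroup of `M`. -/
structure IsMaxP (p : ℕ) (P M : Subgroup G) : Prop where
  le : P ≤ M
  isPGroup : IsPGroup p P
  eq_of_le : ∀ Q : Subgroup G, P ≤ Q → Q ≤ M → IsPGroup p Q → Q = P

theorem isMaxP_sylow (M : Subgroup G) (S : Sylow p M) :
    IsMaxP p ((S : Subgroup M).map M.subtype) M := by
  refine ⟨map_subtype_le _, S.isPGroup'.map _, fun Q hSQ hQM hQ => ?_⟩
  have h1 : Q.subgroupOf M = S := S.is_maximal' (hQ.comap_of_injective _ M.subtype_injective)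
    fun x hx => hSQ ⟨x, hx, rfl⟩
  rw [← h1, map_subgroupOf_eq_of_le hQM]

theorem exists_isMaxP_ge {A M : Subgroup G} (hA : IsPGroup p A) (hAM : A ≤ M) :
    ∃ P, IsMaxP p P M ∧ A ≤ P := by
  obtain ⟨S, hS⟩ := (hA.comap_of_injective M.subtype M.subtype_injective).exists_le_sylow
  refine ⟨_, isMaxP_sylow M S, ?_⟩
  rw [← map_subgroupOf_eq_of_le hAM]
  exact map_mono hS

theorem IsMaxP.exists_sylow {P M : Subgroup G} (h : IsMaxP p P M) :
    ∃ S : Sylow p M, (S : Subgroup M).map M.subtype = P := by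
  obtain ⟨S, hS⟩ := (h.isPGroup.comap_of_injective M.subtype M.subtype_injective).exists_le_sylow
  refine ⟨S, h.eq_of_le _ ?_ (map_subtype_le _) (S.isPGroup'.map _)⟩
  rw [← map_subgroupOf_eq_of_le h.le]
  exact map_mono hS

theorem IsMaxP.exists_sylow_top {P : Subgroup G} (h : IsMaxP p P ⊤) :
    ∃ S : Sylow p G, (S : Subgroup G) = P :=
  ⟨⟨P, h.isPGroup, fun {Q} hQ hPQ => h.eq_of_le Q hPQ le_top hQ⟩, rfl⟩

theorem card_lt_of_not_max {P M : Subgroup G} (hP : IsPGroup p P) (hPM : P ≤ M)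
    (h : ¬ IsMaxP p P M) : ∃ Q, P < Q ∧ Q ≤ M ∧ IsPGroup p Q := by
  by_contra hne
  push Not at hne
  exact h ⟨hPM, hP, fun Q hPQ hQM hQ => by
    by_contra hQP
    exact hne Q (lt_of_le_of_ne hPQ (Ne.symm hQP)) hQM hQ⟩

/-- A `p`-subgroup normalizes something strictly bigger inside a bigger `p`-subgroup. -/
theorem lt_inf_normalizer {P Q : Subgroup G} (hQ : IsPGroup p Q) (h : P < Q) :
    P < Q ⊓ normalizer (P : Set G) := by
  refine lt_of_le_of_ne (le_inf h.le le_normalizer) fun he => ?_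
  have := BGTransitivity.card_lt_normalizer_inf hQ h
  rw [← he] at this
  exact lt_irrefl _ this

end maxp

/-! ### Glauberman's ZJ-subgroup -/

section ZJ

variable {p : ℕ} [hp : Fact p.Prime]

theorem pStable_of_odd (hp2 : p ≠ 2) (Y : Type u) [Group Y] [Finite Y] (hY : Odd (Nat.card Y))
    (P : Subgroup Y) [P.Normal] (hP : IsPGroup p P) : Cfsg.IsPStableOn p P := by
  refine GlaubermanStable.isPStableOn_of_elementary (fun Z _ => Odd (Nat.card Z))
    (fun Z _ _ N _ _ hZ => hZ.of_dvd_nat (card_quotient_dvd_card _)) ?_ Y hY P hP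
  intro Z _ _ hZ V _ hV
  refine QuadraticMain.isPStableOn_of_abelian hp2 (fun T => ?_) V hV
  obtain ⟨n, hn⟩ := IsPGroup.iff_card.1 T.isPGroup'
  have h1 : Odd (2 ^ n) := hn ▸ hZ.of_dvd_nat (card_subgroup_dvd_card (T : Subgroup Z))
  rcases n with _ | n
  · rw [pow_zero, card_eq_one] at hn
    rw [hn]
    infer_instance
  · exact absurd h1 (Nat.not_odd_iff_even.2 (Nat.even_pow.2 ⟨even_two, by omega⟩))

variable (hG : Cfsg.IsMinSimpleOddOrder G)
include hG

theorem sup_W (hp2 : p ≠ 2) {H P : Subgroup G} (hH : H ≠ ⊤) (hP : IsMaxP p P H) :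
    H ≤ coreOf p H ⊔ (normalizer (thomY 0 P : Set G) ⊓ H) := by
  haveI := isSolvable_of_ne_top hG hH
  obtain ⟨S, hS⟩ := hP.exists_sylow
  have h := GlaubermanQuotient.sup_normalizer_thomY (n := 0) hp2 (Or.inl rfl)
    (fun B _ hB => pStable_of_odd hp2 _ ((odd_card_subgroup hG H).of_dvd_nat
      (card_quotient_dvd_card _)) B hB)
    (HallSolvable.isPConstrained_of_isPSolvable (HallSolvable.isPSolvable_of_solvable p)) S
    (D := (S : Subgroup H)) ⟨le_rfl, fun x _ g hg => hg⟩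
  have h2 : (normalizer (thomY 0 (S : Subgroup H) : Set H)).map H.subtype ≤
      normalizer (thomY 0 P : Set G) ⊓ H := by
    refine le_inf ?_ (map_subtype_le _)
    rw [← hS, thomY_map H.subtype_injective]
    exact le_normalizer_map _
  calc H = (⊤ : Subgroup H).map H.subtype := by rw [← MonoidHom.range_eq_map, H.range_subtype]
    _ ≤ _ := by rw [← h, Subgroup.map_sup]; exact sup_le_sup le_rfl h2

theorem thomY_ne_top {P : Subgroup G} (hP : IsPGroup p P) : thomY 0 P ≠ ⊤ :=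
  BGTransitivity.qgroup_ne_top hG (hP.to_le (thomY_le P))

theorem normalizer_thomY_ne_top {P : Subgroup G} (hP : IsPGroup p P) (h : P ≠ ⊥) :
    normalizer (thomY 0 P : Set G) ≠ ⊤ :=
  BGTransitivity.normalizer_ne_top hG (thomY_ne_bot (Or.inl rfl) hP h) (thomY_ne_top hG hP)

/-- The uniqueness criterion. -/
theorem unique_of_local (hp2 : p ≠ 2) {M A : Subgroup G} (hM : IsCoatom M) (hAM : A ≤ M)
    (hA : IsPGroup p A) (hA0 : A ≠ ⊥) (h1 : ∀ X : Subgroup G, X ≠ ⊤ → A ≤ X → coreOf p X ≤ M)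
    (h2 : ∀ P, IsMaxP p P M → A ≤ P → normalizer (thomY 0 P : Set G) ≤ M) :
    Cfsg.InUniqueMaximal A := by
  refine unique_intro hM hAM fun H₀ hH₀ hAH₀ => ?_
  by_contra hne
  obtain ⟨R, -, hR⟩ := Finite.exists_le_maximal (p := fun R : Subgroup G => IsPGroup p R ∧ A ≤ R ∧
    R ≤ M ∧ ∃ H, IsCoatom H ∧ R ≤ H ∧ H ≠ M) (a := A) ⟨hA, le_rfl, hAM, H₀, hH₀, hAH₀, hne⟩
  obtain ⟨hRp, hAR, hRM, H, hH, hRH, hHM⟩ := hR.1
  have hR0 : R ≠ ⊥ := fun h => hA0 (le_bot_iff.1 (h ▸ hAR))
  have hbig : ∀ Q : Subgroup G, R < Q → IsPGroup p Q → Q ≤ M →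
      ∀ H' : Subgroup G, IsCoatom H' → Q ≤ H' → H' = M := fun Q hRQ hQ hQM H' hH' hQH' =>
    by_contra fun hne' => hRQ.not_ge (hR.2 ⟨hQ, hAR.trans hRQ.le, hQM, H', hH', hQH', hne'⟩ hRQ.le)
  have hNW : normalizer (thomY 0 R : Set G) ≤ M := by
    by_cases hmax : IsMaxP p R M
    · exact h2 R hmax hAR
    obtain ⟨Q, hRQ, hQM, hQ⟩ := card_lt_of_not_max hRp hRM hmax
    obtain ⟨H', hH', hNH'⟩ := exists_coatom_ge (normalizer_thomY_ne_top hG hRp hR0)
    rwa [← hbig _ (lt_inf_normalizer hQ hRQ) (hQ.to_le inf_le_left) (inf_le_left.trans hQM) H' hH'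
      (inf_le_right.trans ((normalizer_le_thomY R).trans hNH'))]
  have hRmax : IsMaxP p R H := by
    by_contra hn
    obtain ⟨S, hRS, hSH, hS⟩ := card_lt_of_not_max hRp hRH hn
    exact hHM (hbig _ (lt_inf_normalizer hS hRS) (hS.to_le inf_le_left)
      (inf_le_right.trans ((normalizer_le_thomY R).trans hNW)) H hH (inf_le_left.trans hSH))
  have hle : H ≤ M := (sup_W hG hp2 hH.1 hRmax).trans
    (sup_le (h1 H hH.1 (hAR.trans hRH)) (inf_le_left.trans hNW))
  exact hM.1 (hH.2 M (lt_of_le_of_ne hle hHM))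

/-- The subgroups of order prime to `p` of a proper subgroup normalized by a maximal `p`-subgroup. -/
theorem le_coreOf_of_invariant (hp2 : p ≠ 2) {M P Y : Subgroup G} (hM : M ≠ ⊤) (hP : IsMaxP p P M)
    (hY : Y ≤ M) (hcop : (Nat.card Y).Coprime p) (hPY : P ≤ normalizer (Y : Set G)) :
    Y ≤ coreOf p M := by
  haveI := isSolvable_of_ne_top hG hM
  obtain ⟨S, hS⟩ := hP.exists_sylow
  have h := PConstrainedSignal.le_pPrimeCore_of_pConstrained p
    (HallSolvable.isPConstrained_of_isPSolvable (HallSolvable.isPSolvable_of_solvable p))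
    (fun h => absurd h hp2) (S : Subgroup M) S.isPGroup' (fun x hx hxp => ?_) (Y.subgroupOf M)
    (hcop.coprime_dvd_left (HallCore.card_subgroupOf_dvd Y M)) ?_
  · exact (map_subgroupOf_eq_of_le hY).ge.trans (map_mono h)
  · have hle : zpowers x ≤ normalizer ((S : Subgroup M) : Set M) :=
      zpowers_le.2 (centralizer_le_normalizer _ hx)
    have h1 := S.is_maximal' (IsPGroup.to_sup_of_normal_right' hxp S.isPGroup' hle) le_sup_right
    rw [← h1]
    exact mem_sup_left (mem_zpowers x)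
  · intro s hs
    have hs' : (s : G) ∈ normalizer (Y : Set G) := hPY (hS ▸ mem_map_of_mem M.subtype hs)
    rw [mem_normalizer_iff] at hs' ⊢
    exact fun t => hs' t

omit hG in
theorem le_of_qgroups {Y C : Subgroup G}
    (h : ∀ q : ℕ, q.Prime → ∃ Q : Subgroup G, Q ≤ Y ∧ Q ≤ C ∧
      Nat.card Q = q ^ (Nat.card Y).factorization q) : Y ≤ C := by
  have hdvd : Nat.card Y ∣ Nat.card (Y ⊓ C : Subgroup G) := by
    rw [← Nat.factorization_le_iff_dvd Nat.card_pos.ne' Nat.card_pos.ne']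
    intro q
    by_cases hq : q.Prime
    swap
    · simp [Nat.factorization_eq_zero_of_not_prime _ hq]
    obtain ⟨Q, hQY, hQC, hQ⟩ := h q hq
    have h2 := Subgroup.card_dvd_of_le (le_inf hQY hQC)
    rw [hQ] at h2
    exact (Nat.Prime.pow_dvd_iff_le_factorization hq Nat.card_pos.ne').1 h2
  exact inf_eq_left.1 (eq_of_le_of_card_ge inf_le_left (Nat.le_of_dvd Nat.card_pos hdvd))

omit hG in
/-- If the invariant `q`-subgroups lie in `C`, so do the invariant subgroups of order prime to `p`. -/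
theorem le_of_invariant_qgroups {A Y C : Subgroup G} (hA : IsPGroup p A)
    (hcop : (Nat.card Y).Coprime p) (hAY : A ≤ normalizer (Y : Set G))
    (h : ∀ q : ℕ, q.Prime → q ≠ p → ∀ Q : Subgroup G, IsPGroup q Q → A ≤ normalizer (Q : Set G) →
      Q ≤ Y → Q ≤ C) : Y ≤ C := by
  haveI : Group.IsSolvable A := CoprimeAction.isSolvable_of_isPGroup hA
  refine le_of_qgroups fun q hq => ?_
  haveI := Fact.mk hq
  by_cases hqp : q = p
  · refine ⟨⊥, bot_le, bot_le, ?_⟩
    rw [hqp, Subgroup.card_bot, Nat.factorization_eq_zero_of_not_dvd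
      ((Nat.Prime.coprime_iff_not_dvd hp.out).1 hcop.symm), pow_zero]
  have hc : (Nat.card A).Coprime (Nat.card Y) := by
    obtain ⟨n, hn⟩ := IsPGroup.iff_card.1 hA
    rw [hn]; exact (hcop.symm).pow_left n
  obtain ⟨S, hS⟩ := CoprimeAction.exists_invariant_sylow hAY hc (Or.inl inferInstance) q
  exact ⟨_, map_subtype_le _, h q hq hqp _ (S.isPGroup'.map _) hS (map_subtype_le _),
    CoprimeAction.card_map_sylow S⟩

omit hG in
theorem pRankLE_of_sylow_le {X P : Subgroup G} (hP : IsMaxP p P X)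
    (h : Cfsg.PRankLE p 2 P) : Cfsg.PRankLE p 2 X := by
  intro E hE hEp
  obtain ⟨S, hS⟩ := hP.exists_sylow
  obtain ⟨T, hT⟩ := (show IsPGroup p E from fun e => ⟨1, by
    rw [pow_one]; exact Subtype.ext (by simpa using hEp e e.2)⟩).exists_le_sylow
  have hST : Cfsg.PRankLE p 2 (S : Subgroup X) := by
    refine BGRankTwo.pRankLE_of_injective
      (((S : Subgroup X).equivMapOfInjective _ X.subtype_injective).trans
        (MulEquiv.subgroupCongr hS)).toMonoidHom (MulEquiv.injective _) h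
  have hTr : Cfsg.PRankLE p 2 (T : Subgroup X) :=
    BGRankTwo.pRankLE_of_injective (T.equiv S).toMonoidHom (MulEquiv.injective _) hST
  rw [← Nat.card_congr (subgroupOfEquivOfLe hT).toEquiv]
  exact hTr _ ⟨⟨fun u v => Subtype.ext (Subtype.ext
    (PGroupsBasic.comm_of_isMulCommutative hE u.2 v.2))⟩⟩
    fun u hu => Subtype.ext (by rw [SubgroupClass.coe_pow]; exact hEp _ hu)

omit hG in
/-- A `p`-group of rank at least three contains a self-centralizing normal subgroup of rank three. -/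
theorem exists_SCN_three (hp2 : p ≠ 2) {P : Subgroup G} (hP : IsPGroup p P)
    (hr : ¬ Cfsg.PRankLE p 2 P) :
    ∃ A : Subgroup G, Cfsg.IsSCN P A ∧ ¬ Cfsg.PRankLE p 2 A := by
  have h3 : ∃ E : Subgroup P, E.Normal ∧ Cfsg.IsElementaryAbelian p E ∧ Nat.card E = p ^ 3 := by
    by_contra h
    push Not at h
    exact hr fun E hE hEp => RankTwoOdd.rank_le_two hp2 hP (fun A hA hAe => h A hA hAe) E ⟨hE, hEp⟩
  obtain ⟨E, hEn, hE, hEc⟩ := h3
  obtain ⟨A, hEA, hA⟩ := Finite.exists_le_maximal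
    (p := fun B : Subgroup P => B.Normal ∧ IsMulCommutative B) (a := E) ⟨hEn, hE.1⟩
  obtain ⟨hAn, hAc⟩ := hA.1
  haveI := hAn
  have hcen := PGroupsCritical.centralizer_eq_of_maximal hP A hAc
    fun B hB hBc hAB => le_antisymm (hA.2 ⟨hB, hBc⟩ hAB) hAB
  refine ⟨A.map P.subtype, ⟨map_subtype_le A, ?_, ?_⟩, fun hle => ?_⟩
  · intro x hx
    rw [mem_normalizer_iff]
    intro y
    constructor
    · rintro ⟨a, ha, rfl⟩
      exact ⟨_, hAn.conj_mem a ha ⟨x, hx⟩, rfl⟩
    · rintro ⟨a, ha, he⟩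
      refine ⟨⟨x, hx⟩⁻¹ * a * ⟨x, hx⟩, by simpa using hAn.conj_mem a ha (⟨x, hx⟩ : P)⁻¹, ?_⟩
      rw [map_mul, map_mul, he]
      simp [mul_assoc]
  · refine le_antisymm ?_ ?_
    · intro x hx
      exact ⟨⟨x, hx.1⟩, hcen.le fun a ha => Subtype.ext (hx.2 a ⟨a, ha, rfl⟩), rfl⟩
    · intro x hx
      refine ⟨map_subtype_le A hx, ?_⟩
      obtain ⟨a, ha, rfl⟩ := hx
      rintro _ ⟨b, hb, rfl⟩
      rw [← map_mul, ← map_mul, PGroupsBasic.comm_of_isMulCommutative hAc hb ha]
  · have h2 := hle ((E.map P.subtype).subgroupOf (A.map P.subtype)) ⟨⟨fun u v => Subtype.ext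
      (Subtype.ext (PGroupsBasic.comm_of_isMulCommutative
        (PGroupsBasic.isElementaryAbelian_map_hom hE P.subtype).1 u.2 v.2))⟩⟩ fun u hu => Subtype.ext (by
        rw [SubgroupClass.coe_pow]; exact (PGroupsBasic.isElementaryAbelian_map_hom hE P.subtype).2 _ hu)
    rw [Nat.card_congr (subgroupOfEquivOfLe (map_mono hEA)).toEquiv,
      card_map_of_injective P.subtype_injective, hEc] at h2
    exact absurd ((Nat.pow_le_pow_iff_right hp.out.one_lt).1 h2) (by omega)

omit hG in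
theorem isMulCommutative_of_SCN {P A : Subgroup G} (h : Cfsg.IsSCN P A) : IsMulCommutative A := by
  refine PGroupsBasic.isMulCommutative_of_le_centralizer fun a ha => ?_
  have h1 : a ∈ P ⊓ centralizer (A : Set G) := h.2.2.symm ▸ ha
  exact h1.2

/-- The heart of the uniqueness criterion: `N(Z(J(P))) ≤ M`. -/
theorem normalizer_W_le (hp2 : p ≠ 2) {M P : Subgroup G} (hM : IsCoatom M) (hP : IsMaxP p P M)
    (hP0 : P ≠ ⊥)
    (hinv : ∀ Y : Subgroup G, (Nat.card Y).Coprime p → P ≤ normalizer (Y : Set G) → Y ≤ M) :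
    normalizer (thomY 0 P : Set G) ≤ M := by
  set K := coreOf p M with hK
  have hK' : ∀ Y : Subgroup G, (Nat.card Y).Coprime p → P ≤ normalizer (Y : Set G) → Y ≤ K :=
    fun Y hY hPY => le_coreOf_of_invariant hG hp2 hM.1 hP (hinv Y hY hPY) hY hPY
  have hWle : thomY 0 P ≤ M := (thomY_le P).trans hP.le
  by_cases hK0 : K = ⊥
  · have h := sup_W hG hp2 hM.1 hP
    rw [← hK, hK0, bot_sup_eq] at h
    exact (normalizer_le_of_coatom hG hM (thomY_ne_bot (Or.inl rfl) hP.isPGroup hP0) hWle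
      (h.trans inf_le_left)).le
  have hNK : normalizer (K : Set G) = M := normalizer_le_of_coatom hG hM hK0 (coreOf_le p M)
    (le_normalizer.trans (le_normalizer_coreOf p M))
  -- an element whose conjugate of `K` is invariant under a suitable group
  have hmem : ∀ n : G, (∀ Y : Subgroup G, Y = MulAut.conj n • K → Y ≤ K) → n ∈ M := by
    intro n h
    rw [← hNK]
    refine CoprimeAction.mem_normalizer_of_conj_smul_eq (eq_of_le_of_card_ge (h _ rfl) ?_)
    rw [CoprimeSZ.card_conj_smul]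
  have hPK : P ≤ normalizer (K : Set G) := hNK ▸ hP.le
  have hcK : ∀ n : G, (Nat.card ↥(MulAut.conj n • K)).Coprime p := fun n => by
    rw [CoprimeSZ.card_conj_smul]; exact coprime_coreOf p M
  have hNP : normalizer (P : Set G) ≤ M := fun n hn => hmem n fun Y hY => hY ▸
    hK' _ (hcK n) (BGTransitivity.conj_mem_normalizer hn hPK)
  have hPG : IsMaxP p P ⊤ := by
    by_contra h
    obtain ⟨Q, hPQ, -, hQ⟩ := card_lt_of_not_max hP.isPGroup le_top h
    have h1 := lt_inf_normalizer hQ hPQ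
    exact h1.ne' (hP.eq_of_le _ h1.le (inf_le_right.trans hNP) (hQ.to_le inf_le_left))
  set X := normalizer (thomY 0 P : Set G) with hX
  have hXne : X ≠ ⊤ := normalizer_thomY_ne_top hG hP.isPGroup hP0
  haveI := isSolvable_of_ne_top hG hXne
  have hPX : P ≤ X := le_normalizer.trans (normalizer_le_thomY P)
  have hPmX : IsMaxP p P X :=
    ⟨hPX, hP.isPGroup, fun Q hPQ _ hQ => hPG.eq_of_le Q hPQ le_top hQ⟩
  obtain ⟨S, hS⟩ := hPmX.exists_sylow
  have hOX : coreOf p X ≤ M :=
    (hK' _ (coprime_coreOf p X) ((hPX.trans le_normalizer).trans (le_normalizer_coreOf p X))).trans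
      (coreOf_le p M)
  haveI := HallCore.pPrimeCore_normal p X
  set U := Cfsg.pPrimePCore p X with hU
  set T := (S : Subgroup X) ⊓ U with hT
  set π := QuotientGroup.mk' (Cfsg.pPrimeCore p X) with hπ
  have hker : (Nat.card π.ker).Coprime p := by
    rw [hπ, QuotientGroup.ker_mk']; exact HallCore.coprime_card_pPrimeCore p X
  have hTmap : T.map π = Cfsg.pCore p (X ⧸ Cfsg.pPrimeCore p X) := by
    refine le_antisymm ?_ ?_
    · rw [map_le_iff_le_comap]; exact inf_le_right
    · intro w hw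
      obtain ⟨s, hs, rfl⟩ := (Sylow.coe_mapSurjective (QuotientGroup.mk'_surjective _) S).le
        (HallCore.pCore_le_sylow (S.mapSurjective (QuotientGroup.mk'_surjective _)) hw)
      exact ⟨s, ⟨hs, hw⟩, rfl⟩
  have hTn : (T.map π).Normal := hTmap ▸ HallCore.pCore_normal p _
  have hfr := GlaubermanQuotient.sup_normalizer_eq_top hker (S.isPGroup'.to_le inf_le_left) hTn
  rw [hπ, QuotientGroup.ker_mk'] at hfr
  set T' := T.map X.subtype with hT'
  suffices hNT : normalizer (T' : Set G) ⊓ X ≤ M by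
    calc X = (⊤ : Subgroup X).map X.subtype := by rw [← MonoidHom.range_eq_map, X.range_subtype]
      _ ≤ M := by
        rw [← hfr, Subgroup.map_sup]
        refine sup_le hOX (le_trans (le_inf ?_ (map_subtype_le _)) hNT)
        exact le_normalizer_map _
  have hT'P : T' ≤ P := hS ▸ map_mono inf_le_left
  by_cases hr : Cfsg.PRankLE p 2 P
  · -- rank two: `T = P`
    have hcop := BGRankTwo.index_pPrimePCore_coprime hp2 (odd_card_subgroup hG X)
      (pRankLE_of_sylow_le hPmX hr)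
    have hSU : (S : Subgroup X) ≤ U := by
      intro s hs
      obtain ⟨i, hi⟩ := IsPGroup.iff_orderOf.1 S.isPGroup' ⟨s, hs⟩
      rw [Subgroup.orderOf_mk] at hi
      haveI := HallCore.pPrimePCore_normal p X
      have h1 := U.pow_index_mem s
      have h2 : ((orderOf s).Coprime U.index) := by rw [hi]; exact (hcop.symm).pow_left i
      obtain ⟨m, hm⟩ := exists_pow_eq_self_of_coprime (x := s) (n := U.index) h2.symm
      exact hm ▸ pow_mem h1 m
    have : T' = P := by rw [hT', hT, inf_eq_left.2 hSU, hS]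
    rw [this]
    exact inf_le_left.trans hNP
  -- rank three
  obtain ⟨A, hA, hA3⟩ := exists_SCN_three hp2 hP.isPGroup hr
  have hAp : IsPGroup p A := hP.isPGroup.to_le hA.1
  have hAc := isMulCommutative_of_SCN hA
  have hAT : A ≤ T' := by
    have h1 : A.subgroupOf X ≤ (S : Subgroup X) := fun a ha => by
      obtain ⟨b, hb, hba⟩ := hS.ge (hA.1 ha)
      exact X.subtype_injective hba ▸ hb
    have h2 := S1457.result (odd_card_subgroup hG X) p S (A.subgroupOf X) h1
      ⟨⟨fun u v => Subtype.ext (Subtype.ext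
        (PGroupsBasic.comm_of_isMulCommutative hAc u.2 v.2))⟩⟩
      (fun s hs => by
        have := hA.2.1 (hS.le (mem_map_of_mem X.subtype hs))
        rw [mem_normalizer_iff] at this ⊢
        exact fun t => this t)
    intro a ha
    exact ⟨⟨a, hPX (hA.1 ha)⟩, ⟨h1 ha, h2 ha⟩, rfl⟩
  have hA0 : A ≠ ⊥ := fun h => hA3 (h ▸ fun E _ _ => by
    rw [Subsingleton.elim E ⊥, Subgroup.card_bot]; exact Nat.one_le_pow _ _ hp.out.pos)
  have hpA := dvd_card_of_ne_bot hAp hA0
  obtain ⟨SG, hSG⟩ := hPG.exists_sylow_top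
  have htr := S1396.result hG p (hpA.trans (card_subgroup_dvd_card A)) A hAp hAc
    (Or.inr ⟨SG, by rw [hSG]; exact hA, fun h => hA3 fun E hE hEp => (h E hE hEp).trans
      (Nat.pow_le_pow_right hp.out.pos (by omega))⟩)
  -- all invariant subgroups of order prime to `p` lie in `K`
  have hD : BGTransitivity.centCore A ≤ K := by
    refine hK' _ ?_ ?_
    · refine (Nat.Prime.coprime_iff_not_dvd hp.out).2 (fun h => ?_) |>.symm
      exact (BGTransitivity.piNat_card_piCoreOf _ _ p hp.out h).2 hpA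
    · exact BGTransitivity.le_normalizer_piCoreOf _
        (hA.2.1.trans (BGRankTwo.normalizer_le_normalizer_centralizer A))
  have hZ : ¬ Cfsg.RankLE 2 ↥(A ⊓ centralizer (A : Set G)) := by
    rw [inf_eq_left.2 (PGroupsBasic.le_centralizer_of_isMulCommutative hAc)]
    exact fun h => hA3 (h p hp.out)
  have hq : ∀ q : ℕ, q.Prime → q ≠ p → ∀ Q : Subgroup G, IsPGroup q Q →
      A ≤ normalizer (Q : Set G) → Q ≤ K := by
    intro q hq hqp Q hQ hAQ
    haveI := Fact.mk hq
    have hqA : ¬ q ∣ Nat.card A := by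
      obtain ⟨n, hn⟩ := IsPGroup.iff_card.1 hAp
      rw [hn]
      exact fun h => hqp ((Nat.prime_dvd_prime_iff_eq hq hp.out).1 (hq.dvd_of_dvd_pow h))
    obtain ⟨-, hsub, -⟩ := BGTransitivity.theorem_7_5 hG htr hqA (P := P)
      (BGTransitivity.qgroup_ne_top hG hP.isPGroup)
      (fun r hr' hd => by
        obtain ⟨n, hn⟩ := IsPGroup.iff_card.1 hP.isPGroup
        rw [hn] at hd
        rw [(Nat.prime_dvd_prime_iff_eq hr' hp.out).1 (hr'.dvd_of_dvd_pow hd)]
        exact hpA) hA.1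
      (by
        haveI := Subgroup.normal_subgroupOf_of_le_normalizer hA.2.1
        exact Subgroup.Normal.isSubnormal inferInstance)
      (fun Q₁ h₁ Q₂ h₂ => BGTransitivity.conj_of_rank_three hG htr hqA hZ h₁ h₂)
    obtain ⟨Q₀, hQ₀, -⟩ := BGTransitivity.exists_maxInv_ge (A := P) (q := q) (R := ⊥)
      IsPGroup.of_bot (by rw [normalizer_eq_top_iff.mpr inferInstance]; exact le_top)
    obtain ⟨Q₁, hQ₁, hQQ₁⟩ := BGTransitivity.exists_maxInv_ge (A := A) hQ hAQ
    obtain ⟨k, hk, rfl⟩ := BGTransitivity.conj_of_rank_three hG htr hqA hZ (hsub hQ₀) hQ₁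
    have hQ₀K : Q₀ ≤ K := hK' _ (by
      obtain ⟨n, hn⟩ := IsPGroup.iff_card.1 (BGTransitivity.isPGroup_of_mem hQ₀)
      rw [hn]; exact ((Nat.coprime_primes hq hp.out).2 hqp).pow_left n)
      (BGTransitivity.normalizes_of_mem hQ₀)
    intro y hy
    have h1 := hQ₀K (CoprimeSZ.mem_conj_smul.1 (hQQ₁ hy))
    have h2 := mul_mem (mul_mem (hD hk) h1) (inv_mem (hD hk))
    simpa [mul_assoc] using h2
  intro n hn
  refine hmem n fun Y hY => ?_
  subst hY
  exact le_of_invariant_qgroups hAp (hcK n)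
    (hAT.trans (BGTransitivity.conj_mem_normalizer hn.1 (hT'P.trans hPK)))
    fun q hq' hqp Q hQ hAQ _ => hq q hq' hqp Q hQ hAQ

/-- Uniqueness when all invariant subgroups of order prime to `p` lie in `M`. -/
theorem unique_of_invariant (hp2 : p ≠ 2) {M A : Subgroup G} (hM : IsCoatom M) (hAM : A ≤ M)
    (hA : IsPGroup p A) (hA0 : A ≠ ⊥)
    (hinv : ∀ Y : Subgroup G, (Nat.card Y).Coprime p → A ≤ normalizer (Y : Set G) → Y ≤ M) :
    Cfsg.InUniqueMaximal A :=
  unique_of_local hG hp2 hM hAM hA hA0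
    (fun X _ hAX => hinv _ (coprime_coreOf p X)
      ((hAX.trans le_normalizer).trans (le_normalizer_coreOf p X)))
    fun P hP hAP => normalizer_W_le hG hp2 hM hP (fun h => hA0 (le_bot_iff.1 (h ▸ hAP)))
      fun Y hY hPY => hinv Y hY (hAP.trans hPY)

/-- Theorem 9.1 (a). -/
theorem unique_of_centralizers {M B : Subgroup G} (hM : IsCoatom M) (hBM : B ≤ M)
    (hBc : IsMulCommutative B) (hB : IsPGroup p B) (hBnc : ¬ IsCyclic B)
    (h : ∀ b ∈ B, b ≠ 1 → centralizer ({b} : Set G) ≤ M) : Cfsg.InUniqueMaximal B := by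
  have hB0 : B ≠ ⊥ := fun h0 => hBnc (h0 ▸ inferInstance)
  have hp2 := prime_ne_two hG ((dvd_card_of_ne_bot hB hB0).trans (card_subgroup_dvd_card B))
  refine unique_of_invariant hG hp2 hM hBM hB hB0 fun Y hY hBY => ?_
  haveI := hBc
  refine CoprimeGen.le_of_centralizers hBnc hBY ?_ fun b hb hb1 => inf_le_right.trans (h b hb hb1)
  obtain ⟨n, hn⟩ := IsPGroup.iff_card.1 hB
  rw [hn]; exact hY.symm.pow_left n

/-- Theorem 9.2. -/
theorem unique_of_le_centralizer {L K : Subgroup G} (hL : Cfsg.InUniqueMaximal L)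
    (hK : K ≤ centralizer (L : Set G)) {B : Subgroup G} (hBK : B ≤ K)
    (hBc : IsMulCommutative B) (hB : IsPGroup p B) (hBnc : ¬ IsCyclic B) :
    Cfsg.InUniqueMaximal K := by
  obtain ⟨M, hM, hLM⟩ := hL.exists
  have hCtop := centralizer_subgroup_ne_top hG (unique_ne_bot hG hL)
  have hb : ∀ b ∈ B, b ≠ 1 → centralizer ({b} : Set G) ≤ M := fun b hb hb1 =>
    le_of_unique hL hM hLM (fun l hl => mem_centralizer_singleton_iff.2 (hK (hBK hb) l hl))
      (BGTransitivity.centralizer_ne_top hG hb1)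
  obtain ⟨b, hb', hb1⟩ := B.bot_or_exists_ne_one.resolve_left fun h0 => hBnc (h0 ▸ inferInstance)
  have hBM : B ≤ M := fun x hx => hb b hb' hb1 (mem_centralizer_singleton_iff.2
    (PGroupsBasic.comm_of_isMulCommutative hBc hx hb'))
  exact unique_mono (unique_of_centralizers hG hM hBM hBc hB hBnc hb) hBK
    fun h => hCtop (top_le_iff.1 (h ▸ hK))

end ZJ

/-! ### Elementary abelian subgroups of order `p ^ 3` -/

section elementary

variable {p : ℕ} [hp : Fact p.Prime]

omit [Finite G] in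
theorem not_isCyclic_of_sq_le {B : Subgroup G} (hB : Cfsg.IsElementaryAbelian p B)
    (h : p ^ 2 ≤ Nat.card B) : ¬ IsCyclic B := by
  intro hc
  obtain ⟨g, hg⟩ := hc.exists_generator
  have h1 : Nat.card B ≤ p := by
    rw [← orderOf_eq_card_of_forall_mem_zpowers hg, ← Subgroup.orderOf_coe]
    exact Nat.le_of_dvd hp.out.pos (orderOf_dvd_of_pow_eq_one (hB.2 g g.2))
  have := hp.out.one_lt
  nlinarith

omit hp in
theorem pow_le_of_not_pRankLE {k : ℕ} {A : Subgroup G} [Fact p.Prime] (h : ¬ Cfsg.PRankLE p k A) :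
    ∃ E : Subgroup G, E ≤ A ∧ Cfsg.IsElementaryAbelian p E ∧ p ^ (k + 1) ≤ Nat.card E := by
  obtain ⟨E, hE, hk⟩ : ∃ E : Subgroup A, Cfsg.IsElementaryAbelian p E ∧ p ^ k < Nat.card E := by
    by_contra hh
    push Not at hh
    exact h fun E hE hEp => hh E ⟨hE, hEp⟩
  refine ⟨E.map A.subtype, map_subtype_le E, PGroupsBasic.isElementaryAbelian_map_hom hE _, ?_⟩
  rw [card_map_of_injective A.subtype_injective]
  obtain ⟨j, hj⟩ := IsPGroup.iff_card.1 (PGroupsBasic.isPGroup_of_isElementaryAbelian hE)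
  rw [hj] at hk ⊢
  exact Nat.pow_le_pow_right (Fact.out : p.Prime).pos
    ((Nat.pow_lt_pow_iff_right (Fact.out : p.Prime).one_lt).1 hk)

/-- An elementary abelian subgroup of order at least `p ^ 3` of a `p`-group meets the centralizer of
a normal one of order `p ^ 2` in order at least `p ^ 2`. -/
theorem card_inf_centralizer {P U F : Subgroup G} (hP : IsPGroup p P) (hUP : U ≤ P)
    (hPU : P ≤ normalizer (U : Set G)) (hU : Cfsg.IsElementaryAbelian p U)
    (hUc : Nat.card U ≤ p ^ 2) (hFP : F ≤ P) (hF : p ^ 3 ≤ Nat.card F) :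
    p ^ 2 ≤ Nat.card ↥(F ⊓ centralizer (U : Set G)) := by
  set U' := U.subgroupOf P with hU'
  haveI : U'.Normal := Subgroup.normal_subgroupOf_of_le_normalizer hPU
  have hU'e : Cfsg.IsElementaryAbelian p U' := ⟨⟨⟨fun u v => Subtype.ext (Subtype.ext
    (PGroupsBasic.comm_of_isMulCommutative hU.1 u.2 v.2))⟩⟩,
    fun u hu => Subtype.ext (by rw [SubgroupClass.coe_pow]; exact hU.2 _ hu)⟩
  set C := centralizer (U' : Set P) with hC
  have hCi : C.index ≤ p := RankTwoOdd.index_centralizer_le hP U' hU'e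
    (by rw [Nat.card_congr (subgroupOfEquivOfLe hUP).toEquiv]; exact hUc)
  haveI : C.Normal := normal_centralizer
  set F' := F.subgroupOf P with hF'
  have h2 : C.relIndex F' ≤ p := (Nat.le_of_dvd (Nat.pos_of_ne_zero index_ne_zero_of_finite)
    (relIndex_dvd_index_of_normal C F')).trans hCi
  have h3 : Nat.card F' = Nat.card (C.subgroupOf F') * C.relIndex F' :=
    ((C.subgroupOf F').card_mul_index).symm
  rw [Nat.card_congr (subgroupOfEquivOfLe hFP).toEquiv] at h3
  have h4 : Nat.card (C.subgroupOf F') ≤ Nat.card ↥(F ⊓ centralizer (U : Set G)) := by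
    rw [← card_map_of_injective F'.subtype_injective,
      ← card_map_of_injective P.subtype_injective]
    refine card_le_of_le ?_
    rintro _ ⟨_, ⟨x, hx, rfl⟩, rfl⟩
    refine ⟨x.2, fun u hu => ?_⟩
    exact congrArg Subtype.val ((hx : (x : P) ∈ C) ⟨u, hUP hu⟩ hu)
  have h5 : p ^ 2 * p ≤ Nat.card ↥(F ⊓ centralizer (U : Set G)) * p := by
    rw [← pow_succ]
    exact hF.trans (h3.le.trans (Nat.mul_le_mul h4 h2))
  exact Nat.le_of_mul_le_mul_right h5 hp.out.pos

variable (hG : Cfsg.IsMinSimpleOddOrder G)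
include hG

/-- Theorem 9.3 for elementary abelian `B`. -/
theorem unique_of_rank_three {A B : Subgroup G} (hAc : IsMulCommutative A) (hAp : IsPGroup p A)
    (hA3 : ¬ Cfsg.PRankLE p 2 A) (hAU : Cfsg.InUniqueMaximal A)
    (hB : Cfsg.IsElementaryAbelian p B) (hBc : p ^ 2 ≤ Nat.card B)
    (hB3 : ¬ Cfsg.PRankLE p 2 ↥(centralizer (B : Set G))) : Cfsg.InUniqueMaximal B := by
  have hBp := PGroupsBasic.isPGroup_of_isElementaryAbelian hB
  have hBnc := not_isCyclic_of_sq_le hB hBc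
  have hp2 := prime_ne_two hG ((dvd_card_of_ne_bot hBp fun h0 => hBnc (h0 ▸ inferInstance)).trans
    (card_subgroup_dvd_card B))
  obtain ⟨P, hAP⟩ := hAp.exists_le_sylow
  obtain ⟨E, hEA, hE, hE3⟩ := pow_le_of_not_pRankLE hA3
  -- a normal elementary abelian subgroup of order `p ^ 2` of `P`
  obtain ⟨U₀, hU₀n, hU₀, hU₀c⟩ := NormalRankTwo.exists_normal_elementary_sq (P := (P : Subgroup G))
    P.isPGroup' fun h => hA3 (BGRankTwo.pRankLE_mono hAP h)
  set U := U₀.map (P : Subgroup G).subtype with hU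
  have hUP : U ≤ (P : Subgroup G) := map_subtype_le U₀
  have hPU : (P : Subgroup G) ≤ normalizer (U : Set G) :=
    haveI := hU₀n
    le_normalizer_map _ |>.trans' (by
      rw [normalizer_eq_top_iff.mpr hU₀n, ← MonoidHom.range_eq_map, range_subtype])
  have hUe : Cfsg.IsElementaryAbelian p U := PGroupsBasic.isElementaryAbelian_map_hom hU₀ _
  have hUc : Nat.card U = p ^ 2 := by rw [hU, card_map_of_injective (subtype_injective _), hU₀c]
  have hstep : ∀ {P' U' F : Subgroup G} {L : Subgroup G}, IsPGroup p P' → U' ≤ P' →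
      P' ≤ normalizer (U' : Set G) → Cfsg.IsElementaryAbelian p U' → Nat.card U' = p ^ 2 →
      F ≤ P' → Cfsg.IsElementaryAbelian p F → p ^ 3 ≤ Nat.card F → F ⊓ centralizer (U' : Set G) ≤
      centralizer (L : Set G) → Cfsg.InUniqueMaximal L →
      Cfsg.InUniqueMaximal (F ⊓ centralizer (U' : Set G)) := by
    intro P' U' F L hP' hUP' hPU' hU'e hU'c hFP hF hF3 hle hL
    have he := PGroupsBasic.isElementaryAbelian_mono hF
      (inf_le_left : F ⊓ centralizer (U' : Set G) ≤ F)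
    exact unique_of_le_centralizer hG hL hle le_rfl he.1
      (PGroupsBasic.isPGroup_of_isElementaryAbelian he)
      (not_isCyclic_of_sq_le he (card_inf_centralizer hP' hUP' hPU' hU'e hU'c.le hFP hF3))
  have hEU := hstep P.isPGroup' hUP hPU hUe hUc (hEA.trans hAP) hE hE3
    (fun x hx => PGroupsBasic.le_centralizer_of_isMulCommutative hAc (hEA hx.1)) hAU
  have hUU : Cfsg.InUniqueMaximal U := unique_of_le_centralizer hG hEU
    (fun u hu x hx => ((hx.2 : x ∈ centralizer (U : Set G)) u hu).symm) le_rfl hUe.1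
    (PGroupsBasic.isPGroup_of_isElementaryAbelian hUe) (not_isCyclic_of_sq_le hUe hUc.ge)
  -- now `B`
  obtain ⟨E', hE'C, hE', hE'3⟩ := pow_le_of_not_pRankLE hB3
  set F := B ⊔ E' with hF
  have hFe : Cfsg.IsElementaryAbelian p F :=
    PGroupsBasic.isElementaryAbelian_sup hB hE' fun b hb x hx => ((hE'C hx) b hb).symm
  obtain ⟨Q, hFQ⟩ := (PGroupsBasic.isPGroup_of_isElementaryAbelian hFe).exists_le_sylow
  obtain ⟨g, hg⟩ := MulAction.exists_smul_eq G P Q
  have hQg : (Q : Subgroup G) = MulAut.conj g • (P : Subgroup G) := by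
    rw [← hg, Sylow.coe_subgroup_smul]
  have hFU := hstep (P' := (Q : Subgroup G)) (U' := MulAut.conj g • U) Q.isPGroup'
    (by rw [hQg]; exact Subgroup.pointwise_smul_le_pointwise_smul_iff.2 hUP)
    (by
      refine CoprimeAction.le_normalizer_of_conj_mem fun a ha y hy => ?_
      rw [hQg, CoprimeSZ.mem_conj_smul] at ha
      rw [CoprimeSZ.mem_conj_smul] at hy ⊢
      have h := CoprimeAction.conj_mem (hPU ha) hy
      simpa [mul_assoc] using h)
    (PGroupsBasic.isElementaryAbelian_map_hom hUe _) (by rw [CoprimeSZ.card_conj_smul, hUc]) hFQ hFe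
    (hE'3.trans (card_le_of_le le_sup_right)) inf_le_right (unique_conj hUU g)
  exact unique_of_le_centralizer hG hFU (fun b hb x hx =>
    PGroupsBasic.comm_of_isMulCommutative hFe.1 hx.1 (mem_sup_left hb)) le_rfl hB.1 hBp hBnc

/-- An abelian `p`-subgroup of rank three is a uniqueness subgroup once one is. -/
theorem unique_of_abelian_rank_three {A B : Subgroup G} (hAc : IsMulCommutative A)
    (hAp : IsPGroup p A) (hA3 : ¬ Cfsg.PRankLE p 2 A) (hAU : Cfsg.InUniqueMaximal A)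
    (hBc : IsMulCommutative B) (hBp : IsPGroup p B) (hB3 : ¬ Cfsg.PRankLE p 2 B) :
    Cfsg.InUniqueMaximal B := by
  obtain ⟨E, hEB, hE, hE3⟩ := pow_le_of_not_pRankLE hB3
  have hEU := unique_of_rank_three hG hAc hAp hA3 hAU hE
    (le_trans (Nat.pow_le_pow_right hp.out.pos (by omega)) hE3) fun h => hB3
      (BGRankTwo.pRankLE_mono (show B ≤ centralizer (E : Set G) from fun b hb e he =>
        PGroupsBasic.comm_of_isMulCommutative hBc (hEB he) hb) h)
  exact unique_mono hEU hEB (BGTransitivity.qgroup_ne_top hG hBp)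

theorem exists_elementary_sq_of_noncyclic {B : Subgroup G} (hB : IsPGroup p B) (hBnc : ¬ IsCyclic B) :
    ∃ E : Subgroup G, E ≤ B ∧ Cfsg.IsElementaryAbelian p E ∧ Nat.card E = p ^ 2 := by
  have hp2 := prime_ne_two hG ((dvd_card_of_ne_bot hB fun h0 => hBnc (h0 ▸ inferInstance)).trans
    (card_subgroup_dvd_card B))
  obtain ⟨E, -, hEc, hE⟩ := PGroupsCyclic.exists_normal_elementary_sq hB hp2 hBnc
  exact ⟨E.map B.subtype, map_subtype_le E, PGroupsBasic.isElementaryAbelian_map_hom hE _, by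
    rw [card_map_of_injective B.subtype_injective, hEc]⟩

end elementary

end Cfsg.Agent.BGUnique
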