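import Cfsg.Agent.Lib.CoprimeAction
import Cfsg.Agent.Lib.PGroupsBasic
import Cfsg.Agent.Lib.BGUniqueBasic

/-!
A Frobenius group acting coprimely with fixed-point-free complement has its kernel acting trivially.
-/

set_option autoImplicit false
set_option linter.style.haveILetI false

namespace Cfsg.Agent.BGFrobeniusAct

open Subgroup
open scoped Pointwise

variable {G : Type*} [Group G] [Finite G]

/-- The abelian case, allowing the action through a homomorphism. -/
theorem commute_of_abelian {G' : Type*} [Group G'] [Finite G'] (f : G →* G') {K R : Subgroup G}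
    {V : Subgroup G'} (hR : R ≠ ⊥) (hRK : R ≤ normalizer (K : Set G))
    (hfrob : ∀ r ∈ R, r ≠ 1 → K ⊓ centralizer ({r} : Set G) = ⊥)
    (hVc : IsMulCommutative V) (hKV : K.map f ≤ normalizer (V : Set G'))
    (hRV : R.map f ≤ normalizer (V : Set G')) (hfix : V ⊓ centralizer (R.map f : Set G') = ⊥)
    (hcop : (Nat.card K).Coprime (Nat.card V)) :
    ∀ k ∈ K, ∀ v ∈ V, Commute (f k) v := by
  classical
  haveI := Fintype.ofFinite K
  haveI := Fintype.ofFinite R
  letI : CommGroup V := { (inferInstance : Group V) with mul_comm := hVc.is_comm.comm }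
  have hn : ∀ g : G, g ∈ K ⊔ R → f g ∈ normalizer (V : Set G') := fun g hg =>
    (map_sup K R f ▸ sup_le hKV hRV : (K ⊔ R).map f ≤ normalizer (V : Set G'))
      (mem_map_of_mem f hg)
  let act : ↥(K ⊔ R) → V → V := fun g v =>
    ⟨f g * v * (f g)⁻¹, (mem_normalizer_iff.1 (hn g g.2) v).1 v.2⟩
  have act_mul : ∀ g h v, act (g * h) v = act g (act h v) := fun g h v => Subtype.ext <| by
    simp [act, map_mul, mul_assoc]
  let φ : ↥(K ⊔ R) → V →* V := fun g =>
    MonoidHom.mk' (act g) fun a b => Subtype.ext <| by simp [act, mul_assoc]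
  have act_one : ∀ v, act 1 v = v := fun v => Subtype.ext <| by simp [act]
  let ιK : K → ↥(K ⊔ R) := fun k => ⟨k, mem_sup_left k.2⟩
  let ιR : R → ↥(K ⊔ R) := fun r => ⟨r, mem_sup_right r.2⟩
  -- a product fixed by `R` is trivial
  have hfixed : ∀ w : V, (∀ r : R, act (ιR r) w = w) → w = 1 := by
    intro w hw
    have h1 : (w : G') ∈ V ⊓ centralizer (R.map f : Set G') := by
      refine ⟨w.2, mem_centralizer_iff.2 ?_⟩
      rintro _ ⟨r, hr, rfl⟩
      have := congrArg Subtype.val (hw ⟨r, hr⟩)
      simp only [act, ιR] at this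
      calc f r * w = f r * w * (f r)⁻¹ * f r := by group
        _ = w * f r := by rw [this]
    rw [hfix, mem_bot] at h1
    exact Subtype.ext h1
  have hR' : ∀ w : V, ∏ r : R, act (ιR r) w = 1 := fun w => hfixed _ fun s => by
    show φ (ιR s) (∏ r : R, act (ιR r) w) = _
    rw [map_prod]
    refine Fintype.prod_equiv (Equiv.mulLeft s) _ _ fun r => ?_
    show act (ιR s) (act (ιR r) w) = act (ιR (s * r)) w
    rw [← act_mul]
    exact congrArg (fun g => act g w) (Subtype.ext rfl)
  intro k hk v hv
  set v' : V := ⟨v, hv⟩ with hv'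
  -- conjugates of `R`
  have h2 : ∏ r : R, ∏ c : K, act (ιK c * ιR r * (ιK c)⁻¹) v' = 1 := by
    rw [Finset.prod_comm]
    refine Finset.prod_eq_one fun c _ => ?_
    have h3 : φ (ιK c) (∏ r : R, act (ιR r) (act (ιK c)⁻¹ v')) = 1 := by rw [hR', map_one]
    rw [map_prod] at h3
    refine Eq.trans (Finset.prod_congr rfl fun r _ => ?_) h3
    show act _ v' = act (ιK c) (act (ιR r) (act (ιK c)⁻¹ v'))
    rw [← act_mul, ← act_mul, mul_assoc]
  have h4 : ∀ r : R, r ≠ 1 → ∏ c : K, act (ιK c * ιR r * (ιK c)⁻¹) v' =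
      ∏ c : K, act (ιK c * ιR r) v' := by
    intro r hr
    have hmem : ∀ c : K, (c : G) * ((r : G) * (c : G)⁻¹ * (r : G)⁻¹) ∈ K := fun c =>
      mul_mem c.2 ((mem_normalizer_iff.1 (hRK r.2) _).1 (inv_mem c.2))
    have hinj : Function.Injective fun c : K => (⟨_, hmem c⟩ : K) := by
      intro a b hab
      have h5 := congrArg Subtype.val hab
      simp only at h5
      have h6 : (b : G)⁻¹ * a ∈ K ⊓ centralizer ({(r : G)} : Set G) := by
        refine ⟨K.mul_mem (K.inv_mem b.2) a.2, mem_centralizer_singleton_iff.2 ?_⟩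
        calc (b : G)⁻¹ * a * r
            = (b : G)⁻¹ * (a * ((r : G) * (a : G)⁻¹ * (r : G)⁻¹)) * r * a := by group
          _ = (b : G)⁻¹ * (b * ((r : G) * (b : G)⁻¹ * (r : G)⁻¹)) * r * a := by rw [h5]
          _ = r * ((b : G)⁻¹ * a) := by group
      rw [hfrob r r.2 fun h => hr (Subtype.ext h), mem_bot, inv_mul_eq_one] at h6
      exact Subtype.ext h6.symm
    refine Fintype.prod_equiv (Equiv.ofBijective _ (Finite.injective_iff_bijective.1 hinj)) _ _
      fun c => congrArg (fun g => act g v') (Subtype.ext ?_)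
    show (c : G) * r * (c : G)⁻¹ = (c : G) * ((r : G) * (c : G)⁻¹ * (r : G)⁻¹) * r
    group
  have h5 : ∏ r : R, ∏ c : K, act (ιK c * ιR r) v' = 1 := by
    rw [Finset.prod_comm]
    refine hfixed _ fun s => ?_
    show φ (ιR s) _ = _
    rw [map_prod]
    simp only [map_prod]
    let σ : K ≃ K :=
      { toFun := fun c => ⟨(s : G) * c * (s : G)⁻¹, (mem_normalizer_iff.1 (hRK s.2) _).1 c.2⟩
        invFun := fun c => ⟨(s : G)⁻¹ * c * (s : G), by
          have h0 := (mem_normalizer_iff.1 (hRK (R.inv_mem s.2)) (c : G)).1 c.2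
          rwa [inv_inv] at h0⟩
        left_inv := fun c => Subtype.ext (by simp [mul_assoc])
        right_inv := fun c => Subtype.ext (by simp [mul_assoc]) }
    refine Fintype.prod_equiv σ _ _ fun c => Fintype.prod_equiv (Equiv.mulLeft s) _ _ fun r => ?_
    show act (ιR s) (act (ιK c * ιR r) v') = act (ιK (σ c) * ιR (s * r)) v'
    rw [← act_mul]
    refine congrArg (fun g => act g v') (Subtype.ext ?_)
    simp [ιK, ιR, σ, mul_assoc]
  have hone : ∀ c : K, ιK c * ιR 1 = ιK c := fun c => Subtype.ext (by simp [ιK, ιR])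
  have hone' : ∀ c : K, ιK c * ιR 1 * (ιK c)⁻¹ = 1 := fun c => by rw [hone, mul_inv_cancel]
  rw [← Finset.mul_prod_erase _ _ (Finset.mem_univ (1 : R))] at h2 h5
  rw [Finset.prod_congr rfl fun r hr => h4 r (Finset.ne_of_mem_erase hr)] at h2
  rw [← h5] at h2
  have h6 := mul_right_cancel h2
  simp only [hone', act_one, Finset.prod_const, Finset.card_univ] at h6
  simp only [hone] at h6
  have h7 : act (ιK ⟨k, hk⟩) (v' ^ Fintype.card K) = v' ^ Fintype.card K := by
    rw [h6]
    show φ (ιK ⟨k, hk⟩) _ = _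
    rw [map_prod]
    refine Fintype.prod_equiv (Equiv.mulLeft (⟨k, hk⟩ : K)) _ _ fun c => ?_
    show act _ (act (ιK c) v') = act (ιK (⟨k, hk⟩ * c)) v'
    rw [← act_mul]
    exact congrArg (fun g => act g v') (Subtype.ext rfl)
  have hcop' : (Nat.card V).Coprime (Fintype.card K) := by
    rw [Fintype.card_eq_nat_card]; exact hcop.symm
  have h8 : act (ιK ⟨k, hk⟩) v' = v' := by
    have h9 : (φ (ιK ⟨k, hk⟩) v') ^ Fintype.card K = v' ^ Fintype.card K := by
      rw [← map_pow]; exact h7
    exact (powCoprime hcop').injective h9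
  have h10 := congrArg Subtype.val h8
  simp only [act, ιK, hv'] at h10
  calc f k * v = f k * v * (f k)⁻¹ * f k := by group
    _ = v * f k := by rw [h10]

/-- A Frobenius group acting coprimely, with the complement fixed-point-free, has its kernel acting
trivially. -/
theorem le_centralizer {K R M : Subgroup G} (hR : R ≠ ⊥) (hRK : R ≤ normalizer (K : Set G))
    (hfrob : ∀ r ∈ R, r ≠ 1 → K ⊓ centralizer ({r} : Set G) = ⊥)
    (hKM : K ≤ normalizer (M : Set G)) (hRM : R ≤ normalizer (M : Set G))
    (hcopK : (Nat.card K).Coprime (Nat.card M)) (hcopR : (Nat.card R).Coprime (Nat.card M))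
    (hMs : Group.IsSolvable M) (hfix : M ⊓ centralizer (R : Set G) = ⊥) :
    K ≤ centralizer (M : Set G) := by
  set A := K ⊔ R with hA
  have hAM : A ≤ normalizer (M : Set G) := sup_le hKM hRM
  have hAcard : (Nat.card A).Coprime (Nat.card M) := by
    refine Nat.Coprime.coprime_dvd_left ?_ (hcopR.mul_left hcopK)
    haveI : (K.subgroupOf A).Normal :=
      (normal_subgroupOf_iff_le_normalizer le_sup_left).2 (sup_le le_normalizer hRK)
    have h1 := HallCore.card_sup_dvd (R.subgroupOf A) (K.subgroupOf A)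
    rwa [← subgroupOf_sup le_sup_right le_sup_left, sup_comm R K, subgroupOf_self, card_top,
      Nat.card_congr (subgroupOfEquivOfLe (le_sup_right : R ≤ A)).toEquiv,
      Nat.card_congr (subgroupOfEquivOfLe (le_sup_left : K ≤ A)).toEquiv] at h1
  -- the q-groups
  have hq : ∀ (q : ℕ) [Fact q.Prime] (T : Subgroup G), T ≤ M → IsPGroup q T →
      A ≤ normalizer (T : Set G) → K ≤ centralizer (T : Set G) := by
    intro q _ T hTM hT hAT
    set D := (frattini T).map T.subtype with hD
    set W := normalizer (D : Set G) with hW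
    haveI : (frattini T).Characteristic := frattini_characteristic
    have hTW' : normalizer (T : Set G) ≤ W :=
      ComponentsCores.normalizer_le_normalizer_map_subtype T (frattini T)
    have hTW : T ≤ W := le_normalizer.trans hTW'
    have hKW : K ≤ W := le_sup_left.trans (hAT.trans hTW')
    have hRW : R ≤ W := le_sup_right.trans (hAT.trans hTW')
    haveI : (D.subgroupOf W).Normal := normal_in_normalizer
    set π := QuotientGroup.mk' (D.subgroupOf W) with hπ
    refine CoprimeAction.le_centralizer_of_frattini (le_sup_left.trans hAT) ?_ fun a ha t ht => ?_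
    · exact hcopK.coprime_dvd_right
        (((card_subgroup_dvd_card (frattini T))).trans (card_dvd_of_le hTM))
    have key := commute_of_abelian π (K := K.subgroupOf W) (R := R.subgroupOf W)
      (V := (T.subgroupOf W).map π) ?_ ?_ ?_ ?_ ?_ ?_ ?_ ?_ ⟨a, hKW ha⟩ ha _
      (mem_map_of_mem π (show (⟨t, hTW ht⟩ : W) ∈ T.subgroupOf W from ht))
    · have h1 : π (⟨a, hKW ha⟩ * ⟨t, hTW ht⟩ * (⟨a, hKW ha⟩ : W)⁻¹ * (⟨t, hTW ht⟩ : W)⁻¹) = 1 := by
        simp only [map_mul, map_inv]
        rw [key.eq]
        group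
      rw [← MonoidHom.mem_ker, hπ, QuotientGroup.ker_mk', mem_subgroupOf] at h1
      exact h1
    · rw [ne_eq, subgroupOf_eq_bot]
      exact fun h => hR (by rwa [disjoint_iff, inf_eq_left.2 hRW] at h)
    · intro r hr
      rw [mem_normalizer_iff]
      intro x
      exact (mem_normalizer_iff.1 (hRK hr) x)
    · intro r hr hr1
      rw [eq_bot_iff]
      intro x hx
      have hx' : (x : G) ∈ K ⊓ centralizer ({(r : G)} : Set G) :=
        ⟨hx.1, mem_centralizer_singleton_iff.2
          (congrArg Subtype.val (mem_centralizer_singleton_iff.1 hx.2))⟩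
      rw [hfrob r hr fun h => hr1 (Subtype.ext h), mem_bot] at hx'
      exact Subtype.ext hx'
    · refine PGroupsBasic.isMulCommutative_of_forall ?_
      rintro _ ⟨x, hx, rfl⟩ _ ⟨y, hy, rfl⟩
      rw [← map_mul, ← map_mul, hπ, QuotientGroup.mk'_eq_mk']
      refine ⟨(x * y)⁻¹ * (y * x), ?_, by group⟩
      refine ⟨(⟨x, hx⟩ * ⟨y, hy⟩)⁻¹ * (⟨y, hy⟩ * ⟨x, hx⟩), ?_, by simp⟩
      refine PGroupsBasic.commutator_le_frattini hT ?_
      have := commutator_mem_commutator (mem_top ((⟨y, hy⟩ : T)⁻¹)) (mem_top ((⟨x, hx⟩ : T)⁻¹))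
      rw [commutatorElement_def] at this
      rw [_root_.commutator_def]
      convert this using 1
      group
    · rw [map_le_iff_le_comap]
      refine fun k hk => ?_
      rw [mem_comap]
      refine (le_normalizer_map π) ⟨k, ?_, rfl⟩
      rw [← subgroupOf_normalizer_eq hTW]
      exact hAT (mem_sup_left hk)
    · rw [map_le_iff_le_comap]
      refine fun k hk => ?_
      rw [mem_comap]
      refine (le_normalizer_map π) ⟨k, ?_, rfl⟩
      rw [← subgroupOf_normalizer_eq hTW]
      exact hAT (mem_sup_right hk)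
    · rw [← CoprimeAction.map_inf_centralizer_eq (A := R.subgroupOf W) (K := T.subgroupOf W) π]
      · have h0 : T.subgroupOf W ⊓ centralizer (R.subgroupOf W : Set W) = ⊥ := by
          rw [eq_bot_iff]
          intro x hx
          have hx' : (x : G) ∈ M ⊓ centralizer (R : Set G) :=
            ⟨hTM hx.1, mem_centralizer_iff.2 fun r hr =>
              congrArg Subtype.val (mem_centralizer_iff.1 hx.2 ⟨r, hRW hr⟩ hr)⟩
          rw [hfix, mem_bot] at hx'
          exact Subtype.ext hx'
        rw [h0, Subgroup.map_bot]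
      · intro r hr
        rw [← subgroupOf_normalizer_eq hTW]
        exact hAT (mem_sup_right hr)
      · rw [Nat.card_congr (subgroupOfEquivOfLe hRW).toEquiv,
          Nat.card_congr (subgroupOfEquivOfLe hTW).toEquiv]
        exact hcopR.coprime_dvd_right (card_dvd_of_le hTM)
      · exact Or.inr (isSolvable_of_injective_hom (subgroupOfEquivOfLe hTW).toMonoidHom
          (subgroupOfEquivOfLe hTW).injective hT.isNilpotent)
    · rw [Nat.card_congr (subgroupOfEquivOfLe hKW).toEquiv]
      refine hcopK.coprime_dvd_right ((card_map_dvd _ π).trans ?_)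
      rw [Nat.card_congr (subgroupOfEquivOfLe hTW).toEquiv]
      exact card_dvd_of_le hTM
  -- assemble
  have hle : M ≤ M ⊓ centralizer (K : Set G) := by
    refine BGUnique.le_of_qgroups fun q hq' => ?_
    haveI := Fact.mk hq'
    obtain ⟨P, hP⟩ := CoprimeAction.exists_invariant_sylow (p := q) hAM hAcard (Or.inr hMs)
    refine ⟨_, map_subtype_le (P : Subgroup M), le_inf (map_subtype_le _) (le_centralizer_iff.1
      (hq q _ (map_subtype_le _) (P.isPGroup'.map _) hP)), ?_⟩
    rw [card_map_of_injective M.subtype_injective, P.card_eq_multiplicity]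
  exact le_centralizer_iff.1 (hle.trans inf_le_right)
where
  isSolvable_of_injective_hom {X Y : Type _} [Group X] [Group Y] (f : X →* Y)
      (hf : Function.Injective f) (h : Group.IsNilpotent Y) : Group.IsSolvable X := by
    haveI := h
    exact solvable_of_solvable_injective hf

end Cfsg.Agent.BGFrobeniusAct
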