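import Mathlib
import Cfsg.Prelude.Def_Local
import Cfsg.Agent.Lib.ComponentsBasic
import Cfsg.Agent.Lib.ComponentsCores
import Cfsg.Agent.Lib.ComponentsFitting
import Cfsg.Agent.Lib.OmegaCoprime

/-!
# Groups of characteristic 2 and their local subgroups
-/

set_option autoImplicit false

namespace Cfsg.Agent.CharTwoLocal

open scoped commutatorElement
open Cfsg Subgroup Cfsg.Agent.ComponentsBasic Cfsg.Agent.ComponentsCores Cfsg.Agent.ComponentsFitting

variable {G : Type*} [Group G] [Finite G]

/-- Conjugation by `c` fixes a commutator subgroup when it fixes both arguments. -/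
theorem mem_normalizer_commutator {U P : Subgroup G} {c : G} (hU : c ∈ normalizer (U : Set G))
    (hP : c ∈ normalizer (P : Set G)) : c ∈ normalizer ((⁅U, P⁆ : Subgroup G) : Set G) := by
  refine mem_normalizer_fintype fun x hx => ?_
  have key : ∀ H : Subgroup G, c ∈ normalizer (H : Set G) → H.map (MulAut.conj c).toMonoidHom ≤ H := by
    rintro H hc y ⟨z, hz, rfl⟩
    exact (mem_normalizer_iff.mp hc z).mp hz
  have h : (⁅U, P⁆).map (MulAut.conj c).toMonoidHom ≤ ⁅U, P⁆ := by
    rw [map_commutator]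
    exact commutator_mono (key U hU) (key P hP)
  exact h ⟨x, hx, rfl⟩

/-- A `p`-group `P` acting on a nontrivial `p`-group `U` satisfies `[U, P] < U`. -/
theorem commutator_lt {p : ℕ} [hp : Fact p.Prime] {U P : Subgroup G} (hU : IsPGroup p U)
    (hP : IsPGroup p P) (hPU : P ≤ normalizer (U : Set G)) (hne : U ≠ ⊥) : ⁅U, P⁆ < U := by
  have hle : ⁅U, P⁆ ≤ U := by
    rw [commutator_le]
    intro u hu a ha
    have := U.mul_mem hu ((mem_normalizer_iff.mp (hPU ha) u⁻¹).mp (U.inv_mem hu))
    simpa [commutatorElement_def, mul_assoc] using this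
  refine lt_of_le_of_ne hle fun heq => hne ?_
  set X : Subgroup G := U ⊔ P with hX
  have hXp : IsPGroup p X := hU.to_sup_of_normal_left' hP hPU
  haveI : Group.IsNilpotent X := hXp.isNilpotent
  obtain ⟨n, hn⟩ := (Subgroup.isNilpotent_iff_lowerCentralSeries X).mp this
  have key : ∀ m, U ≤ X.lowerCentralSeries m := by
    intro m
    induction m with
    | zero => exact le_sup_left
    | succ m ih =>
      rw [Subgroup.lowerCentralSeries_succ]
      exact heq.symm.le.trans (commutator_mono ih le_sup_right)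
  exact le_bot_iff.mp (hn ▸ key n)

/-- Thompson's `A × B` lemma, for `y` commuting with the `p`-group `P` modulo the centralizer of
the `p`-group `U`: if `y` has order prime to `p` and centralizes `C_U(P)`, it centralizes `U`. -/
theorem mem_centralizer_pq_mod {p : ℕ} [hp : Fact p.Prime] {P : Subgroup G} (hP : IsPGroup p P)
    {y : G} (hy : (orderOf y).Coprime p) {U : Subgroup G}
    (hyP : ∀ a ∈ P, ⁅y, a⁆ ∈ centralizer (U : Set G))
    (hU : IsPGroup p U) (hPU : P ≤ normalizer (U : Set G))
    (hyU : y ∈ normalizer (U : Set G)) (hC : ∀ x ∈ U, (∀ a ∈ P, a * x = x * a) → y * x = x * y) :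
    y ∈ centralizer (U : Set G) := by
  induction hn : Nat.card U using Nat.strong_induction_on generalizing U with
  | _ n ih =>
    rcases eq_or_ne U ⊥ with rfl | hne
    · rw [mem_centralizer_iff]
      intro x hx
      rw [SetLike.mem_coe, mem_bot] at hx
      simp [hx]
    have hlt := commutator_lt hU hP hPU hne
    have hyN : y ∈ normalizer ((⁅U, P⁆ : Subgroup G) : Set G) := by
      refine mem_normalizer_fintype fun x hx => ?_
      have h : ⁅U, P⁆ ≤ (⁅U, P⁆).comap (MulAut.conj y).toMonoidHom := by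
        rw [commutator_le]
        intro u hu a ha
        show y * ⁅u, a⁆ * y⁻¹ ∈ ⁅U, P⁆
        set v := y * u * y⁻¹ with hv
        have hvU : v ∈ U := (mem_normalizer_iff.mp hyU u).mp hu
        have hw : a * v⁻¹ * a⁻¹ ∈ U := (mem_normalizer_iff.mp (hPU ha) _).mp (U.inv_mem hvU)
        have e1 : y * ⁅u, a⁆ * y⁻¹ = v * ((⁅y, a⁆ * a) * v⁻¹ * (⁅y, a⁆ * a)⁻¹) := by
          simp [hv, commutatorElement_def, mul_assoc]
        have e2 : (⁅y, a⁆ * a) * v⁻¹ * (⁅y, a⁆ * a)⁻¹ = a * v⁻¹ * a⁻¹ := by
          have h := mem_centralizer_iff.mp (hyP a ha) _ hw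
          calc (⁅y, a⁆ * a) * v⁻¹ * (⁅y, a⁆ * a)⁻¹ = ⁅y, a⁆ * (a * v⁻¹ * a⁻¹) * ⁅y, a⁆⁻¹ := by
                simp [mul_assoc]
            _ = a * v⁻¹ * a⁻¹ := by rw [← h, mul_inv_cancel_right]
        rw [e1, e2]
        have := commutator_mem_commutator hvU ha
        simpa [commutatorElement_def, mul_assoc] using this
      exact h hx
    have hanti : centralizer (U : Set G) ≤ centralizer ((⁅U, P⁆ : Subgroup G) : Set G) :=
      centralizer_le hlt.le
    have h1 : y ∈ centralizer ((⁅U, P⁆ : Subgroup G) : Set G) :=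
      ih _ (hn ▸ Set.Finite.card_lt_card (Set.toFinite _) hlt) (fun a ha => hanti (hyP a ha))
        (hU.to_le hlt.le)
        (fun a ha => mem_normalizer_commutator (hPU ha) (le_normalizer ha))
        hyN (fun x hx => hC x (hlt.le hx)) rfl
    have hyPn : ∀ k : ℕ, ∀ a ∈ P, ⁅y ^ k, a⁆ ∈ centralizer (U : Set G) := by
      intro k a ha
      induction k with
      | zero => simp [one_mem]
      | succ k ih' =>
        have hyc : y * ⁅y ^ k, a⁆ * y⁻¹ ∈ centralizer (U : Set G) := by
          rw [mem_centralizer_iff] at ih' ⊢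
          intro u hu
          have h := ih' _ ((mem_normalizer_iff.mp (inv_mem hyU) u).mp hu)
          simp only [inv_inv] at h
          calc u * (y * ⁅y ^ k, a⁆ * y⁻¹) = y * ((y⁻¹ * u * y) * ⁅y ^ k, a⁆) * y⁻¹ := by
                simp [mul_assoc]
            _ = y * ⁅y ^ k, a⁆ * y⁻¹ * u := by rw [h]; simp [mul_assoc]
        have e : ⁅y ^ (k + 1), a⁆ = (y * ⁅y ^ k, a⁆ * y⁻¹) * ⁅y, a⁆ := by
          simp [commutatorElement_def, pow_succ', mul_assoc]
        rw [e]
        exact mul_mem hyc (hyP a ha)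
    have h2 : ⁅⁅U, zpowers y⁆, P⁆ = ⊥ := by
      refine commutator_commutator_eq_bot_of_rotate ?_ ?_
      · rw [commutator_eq_bot_iff_le_centralizer, commutator_le]
        intro g hg a ha
        obtain ⟨k, rfl⟩ := mem_powers_iff_mem_zpowers.mpr hg
        exact hyPn k a ha
      · rw [commutator_comm P U, commutator_eq_bot_iff_le_centralizer]
        intro x hx
        rw [mem_centralizer_iff]
        rintro _ ⟨k, rfl⟩
        exact (Commute.zpow_left (mem_centralizer_iff.mp h1 x hx).symm k).eq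
    rw [mem_centralizer_iff]
    intro x hx
    refine (Agent.OmegaCoprime.commute_of_fixed_comms hU (a := y)
      (fun z hz => (mem_normalizer_iff.mp hyU z).mp hz) hy ?_ x hx).eq.symm
    intro z hz
    refine hC _ (U.mul_mem (U.inv_mem hz) ((mem_normalizer_iff.mp hyU z).mp hz)) ?_
    intro a ha
    rw [commutator_eq_bot_iff_le_centralizer] at h2
    have hm : z⁻¹ * (y * z * y⁻¹) ∈ ⁅U, zpowers y⁆ := by
      have := commutator_mem_commutator (U.inv_mem hz) (mem_zpowers y)
      simpa [commutatorElement_def, mul_assoc] using this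
    exact mem_centralizer_iff.mp (h2 hm) a ha

/-- Thompson's `A × B` lemma: if the `p`-group `P` and the `p'`-element `y` commute, both normalize
the `p`-group `U`, and `y` centralizes `C_U(P)`, then `y` centralizes `U`. -/
theorem mem_centralizer_pq {p : ℕ} [hp : Fact p.Prime] {P : Subgroup G} (hP : IsPGroup p P)
    {y : G} (hy : (orderOf y).Coprime p) (hyP : ∀ a ∈ P, y * a = a * y)
    {U : Subgroup G} (hU : IsPGroup p U) (hPU : P ≤ normalizer (U : Set G))
    (hyU : y ∈ normalizer (U : Set G)) (hC : ∀ x ∈ U, (∀ a ∈ P, a * x = x * a) → y * x = x * y) :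
    y ∈ centralizer (U : Set G) :=
  mem_centralizer_pq_mod hP hy
    (fun a ha => by rw [commutatorElement_eq_one_iff_mul_comm.mpr (hyP a ha)]; exact one_mem _)
    hU hPU hyU hC

/-! ### Characteristic 2 -/

theorem isSolvable_pCore (G : Type*) [Group G] [Finite G] : Group.IsSolvable (pCore 2 G) := by
  haveI := Fact.mk Nat.prime_two
  haveI := (isPGroup_pCore (G := G) 2).isNilpotent
  infer_instance

theorem layer_eq_bot_of_charTwo (h : IsOfCharacteristicTwo G) : layer G = ⊥ := by
  rw [layer_eq_bot_iff]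
  rintro ⟨L, hL⟩
  haveI := isSolvable_pCore G
  refine isQuasisimple_not_le_solvable (L := L) hL.2 (S := pCore 2 G) (le_trans ?_ h)
  rw [← commutator_eq_bot_iff_le_centralizer]
  exact component_commute_solvable hL (Subgroup.Normal.isSubnormal inferInstance)

theorem oddCore_eq_bot_of_charTwo (h : IsOfCharacteristicTwo G) : oddCore G = ⊥ := by
  haveI := Fact.mk Nat.prime_two
  have hd : pPrimeCore 2 G ⊓ pCore 2 G = ⊥ := by
    apply inf_eq_bot_of_coprime
    obtain ⟨k, hk⟩ := IsPGroup.iff_card.mp (isPGroup_pCore (G := G) 2)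
    rw [hk]
    exact Nat.Coprime.pow_right k (pPrimeCore_coprime 2)
  have hc : ⁅pPrimeCore 2 G, pCore 2 G⁆ = ⊥ := le_bot_iff.mp (hd ▸ commutator_le_inf _ _)
  rw [commutator_eq_bot_iff_le_centralizer] at hc
  exact le_bot_iff.mp (hd ▸ le_inf le_rfl (hc.trans h))

theorem fitting_eq_pCore_of_oddCore_eq_bot (h : oddCore G = ⊥) :
    fittingSubgroup G = pCore 2 G := by
  haveI := Fact.mk Nat.prime_two
  refine le_antisymm ?_ (pCore_le_fitting Nat.prime_two)
  rw [fittingSubgroup_eq_iSup]
  refine iSup_le fun ⟨q, hq⟩ => ?_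
  have hqp := Nat.prime_of_mem_primeFactors hq
  rcases eq_or_ne q 2 with rfl | hne
  · exact le_rfl
  · refine le_trans (le_pPrimeCore' ?_) (h.le.trans bot_le)
    haveI := Fact.mk hqp
    obtain ⟨k, hk⟩ := IsPGroup.iff_card.mp (isPGroup_pCore (G := G) q)
    rw [hk]
    exact Nat.Coprime.pow_left k ((Nat.coprime_primes hqp Nat.prime_two).mpr hne)

theorem gen_eq_pCore_of_layer_oddCore (hE : layer G = ⊥) (hO : oddCore G = ⊥) :
    generalizedFittingSubgroup G = pCore 2 G := by
  rw [generalizedFittingSubgroup, hE, bot_sup_eq, fitting_eq_pCore_of_oddCore_eq_bot hO]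

theorem charTwo_of_gen_eq (h : generalizedFittingSubgroup G = pCore 2 G) :
    IsOfCharacteristicTwo G := by
  have := centralizer_gen_le (G := G)
  rwa [h] at this

theorem charTwo_of_layer_oddCore (hE : layer G = ⊥) (hO : oddCore G = ⊥) :
    IsOfCharacteristicTwo G := charTwo_of_gen_eq (gen_eq_pCore_of_layer_oddCore hE hO)

theorem gen_eq_of_charTwo (h : IsOfCharacteristicTwo G) :
    generalizedFittingSubgroup G = pCore 2 G :=
  gen_eq_pCore_of_layer_oddCore (layer_eq_bot_of_charTwo h) (oddCore_eq_bot_of_charTwo h)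

/-- A group in which the centralizer of `O₂` is a 2-group has characteristic 2. -/
theorem charTwo_of_isPGroup (h : IsPGroup 2 (centralizer (pCore 2 G : Set G))) :
    IsOfCharacteristicTwo G := le_pCore' h

theorem isPGroup_two_of_orderOf {H : Type*} [Group H] [Finite H]
    (h : ∀ y : H, ∀ q : ℕ, q.Prime → q ≠ 2 → orderOf y ≠ q) : IsPGroup 2 H := by
  haveI := Fact.mk Nat.prime_two
  refine IsPGroup.of_card (n := (Nat.card H).primeFactorsList.length) ?_
  refine Nat.eq_prime_pow_of_unique_prime_dvd Nat.card_pos.ne' fun {q} hq hdvd => ?_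
  haveI := Fact.mk hq
  obtain ⟨y, hy⟩ := exists_prime_orderOf_dvd_card' q hdvd
  by_contra hne
  exact h y q hq hne hy

/-- Subnormal subgroups of groups of characteristic 2 have characteristic 2. -/
theorem charTwo_of_subnormal {K : Subgroup G} (hK : K.IsSubnormal) (h : IsOfCharacteristicTwo G) :
    IsOfCharacteristicTwo K := by
  refine charTwo_of_gen_eq (le_antisymm (le_pCore' ?_) ?_)
  · have h1 := gen_map_subtype_le hK
    rw [gen_eq_of_charTwo h] at h1
    exact IsPGroup.of_equiv ((isPGroup_pCore 2).to_le h1)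
      (equivMapOfInjective _ _ K.subtype_injective).symm
  · exact (pCore_le_fitting Nat.prime_two).trans fitting_le_gen

/-- `O₂(X)` as a subgroup of `G`. -/
theorem isPGroup_pCore_map (X : Subgroup G) : IsPGroup 2 ((pCore 2 X).map X.subtype : Subgroup G) :=
  (isPGroup_pCore 2).map _

theorem le_normalizer_pCore_map (X : Subgroup G) :
    X ≤ normalizer ((pCore 2 X).map X.subtype : Set G) := fun x hx =>
  mem_normalizer_fintype (by
    rintro _ ⟨r, hr, rfl⟩
    exact ⟨_, Subgroup.Normal.conj_mem inferInstance r hr ⟨x, hx⟩, rfl⟩)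

/-- A 2-subgroup of `H` normalized by `H` lies in `O₂(H)`. -/
theorem le_pCore_map {H R : Subgroup G} (hR : IsPGroup 2 R) (hle : R ≤ H)
    (hn : H ≤ normalizer (R : Set G)) : R ≤ (pCore 2 H).map H.subtype := by
  haveI : (R.subgroupOf H).Normal := (normal_subgroupOf_iff_le_normalizer hle).mpr hn
  intro x hx
  exact ⟨⟨x, hle hx⟩,
    le_pCore' (N := R.subgroupOf H) (hR.of_equiv (subgroupOfEquivOfLe hle).symm) hx, rfl⟩

/-- If `X` has characteristic 2, `T ≤ X` is a 2-group and `C_G(T) ≤ X`, then `N_G(T)` has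
characteristic 2. -/
theorem charTwo_normalizer {X T : Subgroup G} (hX : IsOfCharacteristicTwo X) (hT : IsPGroup 2 T)
    (hTX : T ≤ X) (hC : centralizer (T : Set G) ≤ X) :
    IsOfCharacteristicTwo (normalizer (T : Set G)) := by
  haveI := Fact.mk Nat.prime_two
  set H : Subgroup G := normalizer (T : Set G) with hH
  set R : Subgroup G := (pCore 2 X).map X.subtype with hR
  set CT : Subgroup G := centralizer (T : Set G) with hCT
  have hCTH : CT ≤ H := centralizer_le_normalizer (T : Set G)
  have hTH : T ≤ (pCore 2 H).map H.subtype := le_pCore_map hT le_normalizer le_rfl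
  -- `C_R(T) ≤ O₂(H)`
  have hRT : R ⊓ CT ≤ (pCore 2 H).map H.subtype := by
    have hn1 : H ≤ normalizer (CT : Set G) := fun h hh => mem_normalizer_fintype fun c hc => by
      show h * c * h⁻¹ ∈ CT
      simp only [hCT, SetLike.mem_coe, mem_centralizer_iff] at hc ⊢
      intro t ht
      have h2 := hc _ ((mem_normalizer_iff.mp (inv_mem hh) t).mp ht)
      simp only [inv_inv] at h2
      calc t * (h * c * h⁻¹) = h * ((h⁻¹ * t * h) * c) * h⁻¹ := by simp [mul_assoc]
        _ = h * c * h⁻¹ * t := by rw [h2]; simp [mul_assoc]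
    have hn2 : CT ≤ normalizer ((R ⊓ CT : Subgroup G) : Set G) := fun c hc => by
      refine mem_normalizer_fintype fun r hr => ⟨?_, CT.mul_mem (CT.mul_mem hc hr.2) (CT.inv_mem hc)⟩
      exact (mem_normalizer_iff.mp (le_normalizer_pCore_map X (hC hc)) r).mp hr.1
    haveI : (CT.subgroupOf H).Normal := (normal_subgroupOf_iff_le_normalizer hCTH).mpr hn1
    have hs : ((R ⊓ CT).subgroupOf H).IsSubnormal := by
      refine isSubnormal_of_le_normalizer (fun x hx => hx.2)
        (Subgroup.Normal.isSubnormal (H := CT.subgroupOf H) inferInstance) fun c hc => ?_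
      exact mem_normalizer_fintype fun r hr => (mem_normalizer_iff.mp (hn2 hc) r).mp hr
    intro x hx
    exact ⟨⟨x, hCTH hx.2⟩, subnormal_pGroup_le_pCore hs
      (((isPGroup_pCore_map X).to_le inf_le_left).of_equiv
        (subgroupOfEquivOfLe (inf_le_right.trans hCTH)).symm) hx, rfl⟩
  refine charTwo_of_isPGroup (isPGroup_two_of_orderOf fun y q hq hq2 hy => ?_)
  set g : G := ((y : H) : G) with hg
  have hgo : orderOf g = q := by rw [hg, Subgroup.orderOf_coe, Subgroup.orderOf_coe, hy]
  have hgc : ∀ a ∈ (pCore 2 H).map H.subtype, g * a = a * g := by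
    rintro _ ⟨a, ha, rfl⟩
    exact (congrArg Subtype.val (mem_centralizer_iff.mp y.2 a ha)).symm
  have hgT : ∀ a ∈ T, g * a = a * g := fun a ha => hgc a (hTH ha)
  have hgX : g ∈ X := hC (mem_centralizer_iff.mpr fun a ha => (hgT a ha).symm)
  have hcop : (orderOf g).Coprime 2 := hgo ▸ (Nat.coprime_primes hq Nat.prime_two).mpr hq2
  have h1 : g ∈ centralizer (R : Set G) :=
    mem_centralizer_pq hT hcop hgT (isPGroup_pCore_map X) (hTX.trans (le_normalizer_pCore_map X))
      (le_normalizer_pCore_map X hgX)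
      (fun x hx hxT => hgc x (hRT ⟨hx, mem_centralizer_iff.mpr hxT⟩))
  have h2 : (⟨g, hgX⟩ : X) ∈ pCore 2 X :=
    hX (mem_centralizer_iff.mpr fun r hr =>
      Subtype.ext (mem_centralizer_iff.mp h1 r ⟨r, hr, rfl⟩))
  obtain ⟨k, hk⟩ := IsPGroup.iff_orderOf.mp (isPGroup_pCore (G := X) 2) ⟨_, h2⟩
  rw [← Subgroup.orderOf_coe, ← Subgroup.orderOf_coe] at hk
  have : q ∣ 2 ^ k := hgo.symm.dvd.trans hk.dvd
  exact hq2 ((Nat.prime_dvd_prime_iff_eq hq Nat.prime_two).mp (hq.dvd_of_dvd_pow this))

theorem charTwo_congr {H K : Type*} [Group H] [Group K] [Finite H] [Finite K] (e : H ≃* K)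
    (h : IsOfCharacteristicTwo H) : IsOfCharacteristicTwo K := by
  refine charTwo_of_gen_eq ?_
  rw [← gen_map_mulEquiv e, gen_eq_of_charTwo h, pCore_map_mulEquiv e]

/-- If `X` has characteristic 2 and `O₂(X) ≤ H ≤ X`, then `H` has characteristic 2 and
`O₂(X) ≤ O₂(H)`. -/
theorem pCore_le_of_between {X H : Subgroup G} (hHX : H ≤ X) (hle : (pCore 2 X).map X.subtype ≤ H) :
    (pCore 2 X).map X.subtype ≤ (pCore 2 H).map H.subtype :=
  le_pCore_map (isPGroup_pCore_map X) hle (hHX.trans (le_normalizer_pCore_map X))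

theorem charTwo_of_between {X H : Subgroup G} (hX : IsOfCharacteristicTwo X) (hHX : H ≤ X)
    (hle : (pCore 2 X).map X.subtype ≤ H) : IsOfCharacteristicTwo H := by
  refine charTwo_of_isPGroup ?_
  have h1 : (centralizer (pCore 2 H : Set H)).map H.subtype ≤ (pCore 2 X).map X.subtype := by
    rintro _ ⟨c, hc, rfl⟩
    refine ⟨⟨c, hHX c.2⟩, hX (mem_centralizer_iff.mpr fun r hr => Subtype.ext ?_), rfl⟩
    obtain ⟨s, hs, hs'⟩ := pCore_le_of_between hHX hle ⟨r, hr, rfl⟩
    have hh : (s : G) * c = c * s := congrArg Subtype.val (mem_centralizer_iff.mp hc s hs)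
    simp only [Subgroup.coe_subtype] at hs'
    rw [hs'] at hh
    exact hh
  exact ((isPGroup_pCore_map X).to_le h1).of_equiv
    (equivMapOfInjective _ _ H.subtype_injective).symm

end Cfsg.Agent.CharTwoLocal
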