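/-
Thompson's theorem: a finite group with a fixed-point-free automorphism of prime order is nilpotent;
nilpotency of Frobenius kernels.
-/
import Mathlib
import Cfsg.Agent.Lib.FrobeniusThompson
import Cfsg.Agent.Lib.CharInducedTI
import Cfsg.Agent.S0031
import Cfsg.Agent.S0032

open scoped Pointwise

namespace Cfsg.Agent.FrobeniusNilpotent

universe u

open Cfsg.Agent Cfsg.Agent.FrobeniusThompson

variable {G : Type u} [Group G]

theorem iterate_apply_eq_pow (φ : MulAut G) (k : ℕ) (x : G) : (φ ^ k) x = φ^[k] x := by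
  induction k generalizing x with
  | zero => rfl
  | succ k ih => rw [pow_succ, MulAut.mul_apply, ih, Function.iterate_succ_apply]

/-- Elements of coprime order in a nilpotent group commute. -/
theorem commute_of_coprime {G : Type u} [Group G] [Group.IsNilpotent G] :
    ∀ x y : G, (orderOf x).Coprime (orderOf y) → x * y = y * x := by
  refine Group.nilpotent_center_quotient_ind
    (P := fun G _ _ => ∀ x y : G, (orderOf x).Coprime (orderOf y) → x * y = y * x) G ?_ ?_
  · intro G _ _ x y _
    exact Subsingleton.elim _ _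
  · intro G _ _ ih x y hxy
    set z := x * y * x⁻¹ * y⁻¹ with hz
    have hzc : z ∈ Subgroup.center G := by
      have h := ih (x : G ⧸ Subgroup.center G) (y : G ⧸ Subgroup.center G)
        (Nat.Coprime.of_dvd (orderOf_map_dvd (QuotientGroup.mk' _) x)
          (orderOf_map_dvd (QuotientGroup.mk' _) y) hxy)
      rw [← QuotientGroup.eq_one_iff, hz]
      show (x : G ⧸ Subgroup.center G) * (y : G ⧸ Subgroup.center G) *
        (x : G ⧸ Subgroup.center G)⁻¹ * (y : G ⧸ Subgroup.center G)⁻¹ = 1
      rw [h]; group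
    clear_value z
    have hzy : Commute z y := (Subgroup.mem_center_iff.1 hzc y).symm
    have hzx : Commute z x := (Subgroup.mem_center_iff.1 hzc x).symm
    have hxy' : x * y * x⁻¹ = z * y := by rw [hz]; group
    have hconj : ∀ n : ℕ, x * y ^ n * x⁻¹ = z ^ n * y ^ n := by
      intro n
      rw [← conj_pow, hxy', hzy.mul_pow]
    have hy : z ^ orderOf y = 1 := by
      have := hconj (orderOf y)
      simpa [pow_orderOf_eq_one] using this.symm
    have hconj' : ∀ n : ℕ, x ^ n * y * (x ^ n)⁻¹ = z ^ n * y := by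
      intro n
      induction n with
      | zero => simp
      | succ n ihn =>
        calc x ^ (n + 1) * y * (x ^ (n + 1))⁻¹ = x * (x ^ n * y * (x ^ n)⁻¹) * x⁻¹ := by
              rw [pow_succ']; group
          _ = x * (z ^ n * y) * x⁻¹ := by rw [ihn]
          _ = z ^ n * (x * y * x⁻¹) := by
              rw [← mul_assoc x (z ^ n) y, ((hzx.pow_left n).eq).symm]; group
          _ = z ^ (n + 1) * y := by rw [hxy', pow_succ, mul_assoc]
    have hx : z ^ orderOf x = 1 := by
      have := hconj' (orderOf x)
      simpa [pow_orderOf_eq_one] using this.symm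
    have h1 : z = 1 := by
      have hd := Nat.dvd_gcd (orderOf_dvd_of_pow_eq_one hx) (orderOf_dvd_of_pow_eq_one hy)
      rw [hxy.gcd_eq_one] at hd
      exact orderOf_eq_one_iff.1 (Nat.dvd_one.1 hd)
    exact mul_inv_eq_iff_eq_mul.1 (mul_inv_eq_one.1 (hz ▸ h1))

theorem hasNormalPComplement_of_isNilpotent [Finite G] [Group.IsNilpotent G] {p : ℕ}
    [hp : Fact p.Prime] : Cfsg.HasNormalPComplement p G := by
  obtain ⟨P⟩ : Nonempty (Sylow p G) := inferInstance
  have hPn : (P : Subgroup G).Normal :=
    Sylow.normal_of_normalizerCondition Group.normalizerCondition_of_isNilpotent P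
  obtain ⟨k, hk⟩ := IsPGroup.iff_card.1 P.isPGroup'
  obtain ⟨L, hL⟩ := Subgroup.exists_right_complement'_of_coprime (N := (P : Subgroup G))
    P.card_coprime_index
  have hLn : L.Normal := by
    refine Subgroup.normalizer_eq_top_iff.1 (top_le_iff.1 ?_)
    rw [← hL.sup_eq_top]
    refine sup_le (fun x hx => Subgroup.centralizer_le_normalizer _ fun y hy => ?_)
      Subgroup.le_normalizer
    refine (commute_of_coprime x y ?_).symm
    refine Nat.Coprime.of_dvd (Subgroup.orderOf_dvd_natCard _ hx)
      (Subgroup.orderOf_dvd_natCard _ hy) ?_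
    rw [← hL.symm.index_eq_card]
    exact P.card_coprime_index
  exact ⟨P, L, hLn, hL.symm⟩

/-- Restriction of an automorphism to an invariant subgroup. -/
noncomputable def restrictAut [Finite G] (φ : MulAut G) (H : Subgroup G)
    (hH : ∀ h ∈ H, φ h ∈ H) : MulAut H :=
  MulEquiv.ofBijective ((φ.toMonoidHom.comp H.subtype).codRestrict H fun h => hH h h.2)
    (Finite.injective_iff_bijective.1 fun _ _ e => Subtype.ext (φ.injective (congrArg Subtype.val e)))

theorem restrictAut_apply [Finite G] (φ : MulAut G) (H : Subgroup G) (hH : ∀ h ∈ H, φ h ∈ H)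
    (h : H) : (restrictAut φ H hH h : G) = φ h := rfl

theorem restrictAut_pow [Finite G] (φ : MulAut G) (H : Subgroup G) (hH : ∀ h ∈ H, φ h ∈ H)
    (k : ℕ) (h : H) : ((restrictAut φ H hH ^ k) h : G) = (φ ^ k) h := by
  induction k with
  | zero => rfl
  | succ k ih => rw [pow_succ', MulAut.mul_apply, pow_succ', MulAut.mul_apply, restrictAut_apply, ih]

theorem map_eq_of_invariant [Finite G] (φ : MulAut G) (H : Subgroup G) (hH : ∀ h ∈ H, φ h ∈ H) :
    H.map φ.toMonoidHom = H := by
  refine Subgroup.eq_of_le_of_card_ge (by rintro _ ⟨x, hx, rfl⟩; exact hH x hx) ?_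
  rw [Subgroup.card_map_of_injective φ.injective]

theorem invariant_of_map_eq (φ : MulAut G) (H : Subgroup G) (h : H.map φ.toMonoidHom = H) :
    ∀ x ∈ H, φ x ∈ H := fun x hx => h.le ⟨x, hx, rfl⟩

theorem invariant_normalizer (φ : MulAut G) (H : Subgroup G) (h : H.map φ.toMonoidHom = H) :
    ∀ x ∈ Subgroup.normalizer (H : Set G), φ x ∈ Subgroup.normalizer (H : Set G) := by
  intro x hx
  have := Subgroup.le_normalizer_map (H := H) φ.toMonoidHom ⟨x, hx, rfl⟩
  rwa [h] at this

theorem invariant_centralizer (φ : MulAut G) (H : Subgroup G) (h : H.map φ.toMonoidHom = H) :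
    ∀ x ∈ Subgroup.centralizer (H : Set G), φ x ∈ Subgroup.centralizer (H : Set G) := by
  intro x hx y hy
  have hy' : y ∈ H.map φ.toMonoidHom := h.symm.le hy
  obtain ⟨z, hz, rfl⟩ := hy'
  show φ z * φ x = φ x * φ z
  rw [← map_mul, ← map_mul, hx z hz]

/-- The inner endgame: an invariant minimal normal elementary abelian subgroup. -/
theorem nilpotent_of_abelian [Finite G] (φ : MulAut G) (hfix : ∀ x, φ x = x → x = 1) {r : ℕ}
    (hr : r.Prime) (hφ : φ ^ r = 1) {q : ℕ} [hq : Fact q.Prime] (V : Subgroup G) [V.Normal]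
    (hVφ : ∀ v ∈ V, φ v ∈ V) (hVne : V ≠ ⊥) (hVc : ∀ x ∈ V, ∀ y ∈ V, x * y = y * x)
    (hVq : ∀ x ∈ V, x ^ q = 1)
    (hmin : ∀ W : Subgroup G, W ≤ V → W.Normal → (∀ w ∈ W, φ w ∈ W) → W = ⊥ ∨ W = V)
    (hquot : Group.IsNilpotent (G ⧸ V)) : Group.IsNilpotent G := by
  classical
  set f := QuotientGroup.mk' V with hf
  have hsurj : Function.Surjective f := QuotientGroup.mk'_surjective V
  have hVp : IsPGroup q V := fun x => ⟨1, Subtype.ext (by
    push_cast
    rw [pow_one]
    exact hVq x x.2)⟩
  suffices hall : ∀ (t : ℕ) (_ : Fact t.Prime) (T : Sylow t G), (T : Subgroup G).Normal by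
    exact ((Group.isNilpotent_of_finite_tfae (G := G)).out 0 3).2 (fun t ht T => hall t ht T)
  intro t ht T₀
  have hφF : MonoidHom.FixedPointFree (φ : G →* G) := hfix
  -- an invariant Sylow subgroup
  obtain ⟨T, hT⟩ : ∃ T : Sylow t G, (T : Subgroup G).map φ.toMonoidHom = T :=
    Cfsg.Agent.S0031.result φ hfix t
  suffices hTn : (T : Subgroup G).Normal by
    have : Unique (Sylow t G) := Sylow.unique_of_normal T hTn
    rw [Subsingleton.elim T₀ T]
    exact hTn
  -- the image of `T` is normal
  have hTfn : ((T : Subgroup G).map f).Normal := by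
    have := Sylow.normal_of_normalizerCondition (Group.normalizerCondition_of_isNilpotent)
      (T.mapSurjective hsurj)
    exact this
  by_cases htq : t = q
  · subst htq
    have hVT : V ≤ (T : Subgroup G) :=
      (HallCore.le_pCore hVp).trans (HallCore.pCore_le_sylow T)
    have : (T : Subgroup G) = ((T : Subgroup G).map f).comap f := by
      rw [Subgroup.comap_map_eq, QuotientGroup.ker_mk', sup_eq_left.2 hVT]
    rw [this]
    exact hTfn.comap f
  · have hfr : Subgroup.normalizer ((T : Subgroup G) : Set G) ⊔ V = ⊤ := by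
      rw [eq_top_iff]
      intro x _
      have hx : f x ∈ Subgroup.normalizer ((T : Subgroup G).map f : Set (G ⧸ V)) := by
        rw [Subgroup.normalizer_eq_top]; trivial
      have hVt : ¬ t ∣ Nat.card V := by
        intro hd
        obtain ⟨k, hk⟩ := IsPGroup.iff_card.1 hVp
        rw [hk] at hd
        exact htq ((Nat.prime_dvd_prime_iff_eq ht.out hq.out).1 (ht.out.dvd_of_dvd_pow hd))
      obtain ⟨y, hy, hyx⟩ := exists_mem_normalizer_of_map V hVt T.isPGroup' hx
      have : x = y * (y⁻¹ * x) := by group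
      rw [this]
      refine Subgroup.mul_mem_sup hy ?_
      rw [← QuotientGroup.eq]
      exact hyx
    set W := V ⊓ Subgroup.centralizer ((T : Subgroup G) : Set G) with hW
    have hWn : W.Normal := by
      refine Subgroup.normalizer_eq_top_iff.1 (top_le_iff.1 ?_)
      rw [← hfr]
      refine sup_le (le_normalizer_of_conj fun g hg x hx => ⟨?_, ?_⟩)
        (le_normalizer_of_conj fun v hv x hx => ?_)
      · exact Subgroup.Normal.conj_mem ‹V.Normal› x hx.1 g
      · intro z hz
        have hz' : g⁻¹ * z * g ∈ (T : Subgroup G) := (Subgroup.mem_normalizer_iff''.1 hg z).1 hz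
        calc z * (g * x * g⁻¹) = g * ((g⁻¹ * z * g) * x) * g⁻¹ := by group
          _ = g * (x * (g⁻¹ * z * g)) * g⁻¹ := by rw [hx.2 _ hz']
          _ = g * x * g⁻¹ * z := by group
      · rw [hVc v hv x hx.1, mul_inv_cancel_right]
        exact hx
    have hWφ : ∀ w ∈ W, φ w ∈ W := fun w hw => ⟨hVφ w hw.1, invariant_centralizer φ _ hT w hw.2⟩
    rcases hmin W inf_le_left hWn hWφ with hbot | htop
    · -- the norm argument
      exfalso
      apply hVne
      rw [Subgroup.eq_bot_iff_forall]
      intro w hw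
      have := Fintype.ofFinite (T : Subgroup G)
      let _ : CommGroup V := { (inferInstance : Group V) with
        mul_comm := fun a b => Subtype.ext (hVc a a.2 b b.2) }
      let c : ↥(T : Subgroup G) → V → V := fun u v =>
        ⟨(u : G) * v * (u : G)⁻¹, Subgroup.Normal.conj_mem ‹V.Normal› v v.2 u⟩
      let ψ := restrictAut φ V hVφ
      have hψfix : MonoidHom.FixedPointFree (ψ : V →* V) :=
        fun v hv => Subtype.ext (hfix v (congrArg Subtype.val hv))
      have hψr : ∀ v : V, (ψ ^ r) v = v := fun v => Subtype.ext (by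
        rw [restrictAut_pow, hφ]; rfl)
      -- the norm of `φ` is trivial
      have hnorm : ∀ v : V, ∏ i ∈ Finset.range r, (ψ ^ i) v = 1 := by
        intro v
        have hit : (⇑(ψ : V →* V))^[r] = _root_.id := funext fun x => by
          have := hψr x
          rw [iterate_apply_eq_pow] at this
          exact this
        have := hψfix.prod_pow_eq_one hit v
        rw [← this, ← List.prod_toFinset _ List.nodup_range, List.toFinset_range]
        refine Finset.prod_congr rfl fun i _ => ?_
        exact iterate_apply_eq_pow ψ i v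
      -- the norm of `T` is trivial
      have hNT : ∀ v : V, ∏ u : (T : Subgroup G), c u v = 1 := by
        intro v
        have hmem : ((∏ u : (T : Subgroup G), c u v : V) : G) ∈ W := by
          refine ⟨(∏ u : (T : Subgroup G), c u v).2, fun z hz => ?_⟩
          have h1 : c ⟨z, hz⟩ (∏ u : (T : Subgroup G), c u v) = ∏ u : (T : Subgroup G), c u v := by
            let cz : V →* V :=
              { toFun := c ⟨z, hz⟩
                map_one' := Subtype.ext (by simp [c])
                map_mul' := fun a b => Subtype.ext (by simp [c]) }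
            show cz (∏ u : (T : Subgroup G), c u v) = _
            rw [map_prod]
            refine Fintype.prod_equiv (Equiv.mulLeft ⟨z, hz⟩) _ _ fun u => Subtype.ext ?_
            show z * ((u : G) * v * (u : G)⁻¹) * z⁻¹ = (z * u) * v * (z * u)⁻¹
            group
          exact mul_inv_eq_iff_eq_mul.1 (congrArg Subtype.val h1)
        rw [hbot, Subgroup.mem_bot] at hmem
        exact Subtype.ext hmem
      set v₀ : V := ⟨w, hw⟩ with hv₀
      let cu : ↥(T : Subgroup G) → V →* V := fun u =>
        { toFun := c u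
          map_one' := Subtype.ext (by simp [c])
          map_mul' := fun a b => Subtype.ext (by simp [c]) }
      have hzero : ∏ u : (T : Subgroup G), ∏ i ∈ Finset.range r,
          c u ((ψ ^ i) (c u⁻¹ v₀)) = 1 := by
        refine Finset.prod_eq_one fun u _ => ?_
        show ∏ i ∈ Finset.range r, cu u ((ψ ^ i) (c u⁻¹ v₀)) = 1
        rw [← map_prod, hnorm, map_one]
      let τ := restrictAut φ (T : Subgroup G) (invariant_of_map_eq φ _ hT)
      have hstep : ∀ (i : ℕ) (u : (T : Subgroup G)),
          c u ((ψ ^ i) (c u⁻¹ v₀)) = c (u / (τ ^ i) u) ((ψ ^ i) v₀) := by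
        intro i u
        apply Subtype.ext
        show (u : G) * ((ψ ^ i) (c u⁻¹ v₀) : G) * (u : G)⁻¹ =
          ((u / (τ ^ i) u : (T : Subgroup G)) : G) * ((ψ ^ i) v₀ : G) *
            ((u / (τ ^ i) u : (T : Subgroup G)) : G)⁻¹
        rw [restrictAut_pow, restrictAut_pow, Subgroup.coe_div, restrictAut_pow]
        show (u : G) * (φ ^ i) (((u⁻¹ : (T : Subgroup G)) : G) * w *
          ((u⁻¹ : (T : Subgroup G)) : G)⁻¹) * (u : G)⁻¹ = _
        rw [Subgroup.coe_inv, inv_inv, map_mul, map_mul, map_inv, div_eq_mul_inv, hv₀]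
        group
      rw [Finset.prod_comm] at hzero
      have hrest : ∀ i ∈ Finset.range r, i ≠ 0 →
          ∏ u : (T : Subgroup G), c u ((ψ ^ i) (c u⁻¹ v₀)) = 1 := by
        intro i hi hi0
        rw [Finset.mem_range] at hi
        have hfi : MonoidHom.FixedPointFree ((τ ^ i : MulAut (T : Subgroup G)) :
            (T : Subgroup G) →* (T : Subgroup G)) := by
          intro u hu
          have h1 : (φ ^ i) (u : G) = u := by
            rw [← restrictAut_pow φ _ (invariant_of_map_eq φ _ hT)]
            exact congrArg Subtype.val hu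
          have h2 : (φ ^ r) (u : G) = u := by rw [hφ]; rfl
          have h1' : Function.IsPeriodicPt φ i (u : G) := (iterate_apply_eq_pow φ i u).symm.trans h1
          have h2' : Function.IsPeriodicPt φ r (u : G) := (iterate_apply_eq_pow φ r u).symm.trans h2
          have h3 : Function.IsPeriodicPt φ (Nat.gcd i r) (u : G) := h1'.gcd h2' 
          have hg : Nat.gcd i r = 1 := by
            rw [Nat.gcd_comm]
            exact (hr.coprime_iff_not_dvd).2 fun hd =>
              absurd (Nat.le_of_dvd (Nat.pos_of_ne_zero hi0) hd) (by omega)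
          rw [hg] at h3
          exact Subtype.ext (hfix u h3)
        have hbij : Function.Bijective fun u : (T : Subgroup G) => u / (τ ^ i) u :=
          Finite.injective_iff_bijective.1 hfi.commutatorMap_injective
        calc ∏ u : (T : Subgroup G), c u ((ψ ^ i) (c u⁻¹ v₀))
            = ∏ u : (T : Subgroup G), c (u / (τ ^ i) u) ((ψ ^ i) v₀) :=
              Finset.prod_congr rfl fun u _ => hstep i u
          _ = ∏ u : (T : Subgroup G), c u ((ψ ^ i) v₀) :=
              hbij.prod_comp (fun u => c u ((ψ ^ i) v₀))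
          _ = 1 := hNT _
      rw [Finset.prod_eq_single 0 hrest (by simp [hr.ne_zero])] at hzero
      have hv : v₀ ^ Nat.card (T : Subgroup G) = 1 := by
        rw [Nat.card_eq_fintype_card, ← Finset.card_univ, ← Finset.prod_const]
        rw [← hzero]
        refine Finset.prod_congr rfl fun u _ => Subtype.ext ?_
        simp [c, mul_assoc]
      have hw1 : orderOf w ∣ Nat.card (T : Subgroup G) :=
        orderOf_dvd_of_pow_eq_one (by simpa [hv₀] using congrArg Subtype.val hv)
      obtain ⟨k, hk⟩ := IsPGroup.iff_card.1 T.isPGroup'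
      rw [hk] at hw1
      have hcop : Nat.gcd q (t ^ k) = 1 :=
        Nat.Coprime.pow_right k ((Nat.coprime_primes hq.out ht.out).2 (Ne.symm htq))
      exact orderOf_eq_one_iff.1 (Nat.dvd_one.1
        (hcop ▸ Nat.dvd_gcd (orderOf_dvd_of_pow_eq_one (hVq w hw)) hw1))
    · refine Subgroup.normalizer_eq_top_iff.1 (top_le_iff.1 ?_)
      rw [← hfr]
      refine sup_le le_rfl fun v hv => Subgroup.centralizer_le_normalizer _ ?_
      rw [← htop] at hv
      exact hv.2

theorem isNilpotent_aux (n : ℕ) : ∀ (G : Type u) [Group G] [Finite G], Nat.card G < n →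
    ∀ (φ : MulAut G), (∀ x, φ x = x → x = 1) → ∀ r : ℕ, r.Prime → φ ^ r = 1 →
      Group.IsNilpotent G := by
  induction n with
  | zero => intro G _ _ h; omega
  | succ n ih =>
    intro G _ _ hGn φ hfix r hr hφ
    classical
    by_cases hG : ∀ p : ℕ, p.Prime → p ∣ Nat.card G → p = 2
    · -- a `2`-group
      refine IsPGroup.isNilpotent (p := 2)
        (IsPGroup.of_card (n := (Nat.card G).primeFactorsList.length) ?_)
      exact Nat.eq_prime_pow_of_unique_prime_dvd Nat.card_pos.ne' (fun hd1 hd2 => hG _ hd1 hd2)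
    push Not at hG
    obtain ⟨p, hp, hpG, hp2⟩ := hG
    have := Fact.mk hp
    have hsub : ∀ H : Subgroup G, H ≠ ⊤ → (∀ h ∈ H, φ h ∈ H) → Group.IsNilpotent H := by
      intro H hH hHφ
      refine ih H ?_ (restrictAut φ H hHφ)
        (fun x hx => Subtype.ext (hfix x (congrArg Subtype.val hx))) r hr ?_
      · have : Nat.card H < Nat.card G := by
          refine lt_of_le_of_ne (Nat.le_of_dvd Nat.card_pos (Subgroup.card_subgroup_dvd_card H)) ?_
          exact fun e => hH (Subgroup.eq_top_of_card_eq H e)
        omega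
      · ext x
        rw [restrictAut_pow, hφ]
        rfl
    -- it suffices to find an invariant normal abelian subgroup
    suffices hV : ∃ V : Subgroup G, V.Normal ∧ V ≠ ⊥ ∧ (∀ v ∈ V, φ v ∈ V) ∧
        ∀ x ∈ V, ∀ y ∈ V, x * y = y * x by
      obtain ⟨V, hVn, hVne, hVφ, hVc⟩ := hV
      obtain ⟨q, hq, hqd⟩ := Nat.exists_prime_and_dvd (n := Nat.card V)
        (fun e => hVne (Subgroup.card_eq_one.1 e))
      have := Fact.mk hq
      let V₁ : Subgroup G :=
        { carrier := {x | x ∈ V ∧ x ^ q = 1}
          one_mem' := ⟨one_mem _, one_pow _⟩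
          mul_mem' := fun {x y} hx hy => ⟨mul_mem hx.1 hy.1, by
            rw [(show Commute x y from hVc x hx.1 y hy.1).mul_pow, hx.2, hy.2, one_mul]⟩
          inv_mem' := fun {x} hx => ⟨inv_mem hx.1, by rw [inv_pow, hx.2, inv_one]⟩ }
      have hV₁n : V₁.Normal := ⟨fun x hx g => ⟨hVn.conj_mem x hx.1 g, by
        rw [conj_pow, hx.2, mul_one, mul_inv_cancel]⟩⟩
      have hV₁φ : ∀ v ∈ V₁, φ v ∈ V₁ := fun v hv => ⟨hVφ v hv.1, by rw [← map_pow, hv.2, map_one]⟩
      have hV₁ne : V₁ ≠ ⊥ := by
        obtain ⟨x, hx⟩ := exists_prime_orderOf_dvd_card' (G := V) q hqd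
        intro e
        have hxm : (x : G) ∈ V₁ := ⟨x.2, by
          have := congrArg Subtype.val (hx ▸ pow_orderOf_eq_one x : x ^ q = 1)
          simpa using this⟩
        rw [e, Subgroup.mem_bot] at hxm
        have : x = 1 := Subtype.ext hxm
        rw [this, orderOf_one] at hx
        exact hq.ne_one hx.symm
      obtain ⟨W, ⟨hWV, hWne, hWn, hWφ⟩, hWmin⟩ := Set.exists_min_image
        {W : Subgroup G | W ≤ V₁ ∧ W ≠ ⊥ ∧ W.Normal ∧ ∀ w ∈ W, φ w ∈ W}
        (fun W => Nat.card W) (Set.toFinite _) ⟨V₁, le_rfl, hV₁ne, hV₁n, hV₁φ⟩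
      refine nilpotent_of_abelian φ hfix hr hφ (q := q) W hWφ hWne
        (fun x hx y hy => hVc x (hWV hx).1 y (hWV hy).1) (fun x hx => (hWV hx).2)
        (fun U hUW hUn hUφ => ?_) ?_
      · by_cases hU : U = ⊥
        · exact Or.inl hU
        · exact Or.inr (Subgroup.eq_of_le_of_card_ge hUW
            (hWmin U ⟨hUW.trans hWV, hU, hUn, hUφ⟩))
      · have hlt : Nat.card (G ⧸ W) < n := by
          have h1 := W.index_mul_card
          rw [Subgroup.index_eq_card] at h1
          have h2 := W.one_lt_card_iff_ne_bot.2 hWne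
          have h3 : 0 < Nat.card (G ⧸ W) := Nat.card_pos
          nlinarith
        have hWmap : W.map φ.toMonoidHom = W := map_eq_of_invariant φ W hWφ
        let φ' : MulAut (G ⧸ W) := QuotientGroup.congr W W φ hWmap
        have hφ' : ∀ x : G, φ' (x : G ⧸ W) = ((φ x : G) : G ⧸ W) := fun x => rfl
        have hpow : ∀ (k : ℕ) (x : G), (φ' ^ k) (x : G ⧸ W) = (((φ ^ k) x : G) : G ⧸ W) := by
          intro k x
          induction k with
          | zero => rfl
          | succ k ihk => rw [pow_succ', MulAut.mul_apply, pow_succ', MulAut.mul_apply, ihk, hφ']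
        refine ih (G ⧸ W) hlt φ' (fun x => ?_) r hr ?_
        · obtain ⟨g, rfl⟩ := QuotientGroup.mk_surjective x
          intro hg
          rw [hφ', QuotientGroup.eq] at hg
          rw [QuotientGroup.eq_one_iff]
          exact Cfsg.Agent.S0032.result φ hfix W hWφ g hg
        · ext x
          obtain ⟨g, rfl⟩ := QuotientGroup.mk_surjective x
          rw [hpow, hφ]
          rfl
    -- the Sylow `p`-subgroup
    have hφF : MonoidHom.FixedPointFree (φ : G →* G) := hfix
    obtain ⟨P, hP⟩ : ∃ P : Sylow p G, (P : Subgroup G).map φ.toMonoidHom = P :=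
      Cfsg.Agent.S0031.result φ hfix p
    have hPne : (P : Subgroup G) ≠ ⊥ := P.ne_bot_of_dvd_card hpG
    have hinj : Function.Injective (φ.toMonoidHom.comp (P : Subgroup G).subtype) :=
      φ.injective.comp (P : Subgroup G).subtype_injective
    have hJmap : (Cfsg.thompsonSubgroupOf p (P : Subgroup G)).map φ.toMonoidHom =
        Cfsg.thompsonSubgroupOf p (P : Subgroup G) := by
      rw [map_thompsonOf _ _ hinj, hP]
    have hZmap : (zOf (P : Subgroup G)).map φ.toMonoidHom = zOf (P : Subgroup G) := by
      rw [map_zOf _ _ hinj, hP]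
    by_cases hJt : Subgroup.normalizer (Cfsg.thompsonSubgroupOf p (P : Subgroup G) : Set G) = ⊤
    · set J := Cfsg.thompsonSubgroupOf p (P : Subgroup G)
      have hJn : J.Normal := Subgroup.normalizer_eq_top_iff.1 hJt
      have hJp : IsPGroup p J := P.isPGroup'.to_le (Offenders.thompsonOf_le _)
      refine ⟨zOf J, ?_, zOf_ne_bot hJp (thompsonOf_ne_bot P.isPGroup' hPne), ?_,
        fun x hx z hz => hz.2 x hx.1⟩
      · refine Subgroup.normalizer_eq_top_iff.1 (top_le_iff.1 ?_)
        rw [← hJt]
        exact normalizer_le_normalizer_zOf J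
      · refine invariant_of_map_eq φ _ ?_
        rw [map_zOf _ _ (φ.injective.comp J.subtype_injective), hJmap]
    by_cases hZt : Subgroup.centralizer (zOf (P : Subgroup G) : Set G) = ⊤
    · refine ⟨zOf (P : Subgroup G), ⟨fun x hx g => ?_⟩, zOf_ne_bot P.isPGroup' hPne,
        invariant_of_map_eq φ _ hZmap, fun x hx z hz => hz.2 x hx.1⟩
      have hgc : g ∈ Subgroup.centralizer (zOf (P : Subgroup G) : Set G) := hZt ▸ Subgroup.mem_top g
      rwa [← hgc x hx, mul_inv_cancel_right]
    -- a normal `p`-complement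
    have hNC : Cfsg.HasNormalPComplement p G := by
      refine hasNormalPComplement_of_thompson hp2 P ?_ ?_
      · have := hsub _ hJt (invariant_normalizer φ _ hJmap)
        exact hasNormalPComplement_of_isNilpotent
      · have := hsub _ hZt (invariant_centralizer φ _ hZmap)
        exact hasNormalPComplement_of_isNilpotent
    set R := Cfsg.pResidual p G with hR
    have hRp := TransferPResidual.hasNormalPComplement_iff_not_dvd.1 hNC
    have hRtop : R ≠ ⊤ := fun e => by
      rw [← hR, e, Subgroup.card_top] at hRp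
      exact hRp hpG
    have hRmap : R.map φ.toMonoidHom = R := TransferPResidual.map_pResidual_equiv φ
    have hRn : R.Normal := by rw [hR]; infer_instance
    by_cases hRbot : R = ⊥
    · have hGp : IsPGroup p G := TransferPResidual.pResidual_eq_bot_iff.1 hRbot
      refine ⟨zOf (⊤ : Subgroup G), ?_, zOf_ne_bot (hGp.to_subgroup _) ?_, ?_,
        fun x hx z hz => hz.2 x hx.1⟩
      · exact ⟨fun x hx g => by
          rw [hx.2 g (Subgroup.mem_top g), mul_inv_cancel_right]; exact hx⟩
      · intro e
        have : Nat.card (⊤ : Subgroup G) = 1 := Subgroup.card_eq_one.2 e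
        rw [Subgroup.card_top] at this
        rw [this] at hpG
        exact hp.not_dvd_one hpG
      · refine invariant_of_map_eq φ _ ?_
        rw [map_zOf _ _ (φ.injective.comp (⊤ : Subgroup G).subtype_injective),
          ← MonoidHom.range_eq_map, MonoidHom.range_eq_top.2 φ.surjective]
    have hRnil : Group.IsNilpotent R := hsub R hRtop (invariant_of_map_eq φ _ hRmap)
    refine ⟨zOf R, ?_, ?_, ?_, fun x hx z hz => hz.2 x hx.1⟩
    · refine Subgroup.normalizer_eq_top_iff.1 (top_le_iff.1 ?_)
      rw [← Subgroup.normalizer_eq_top (H := R)]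
      exact normalizer_le_normalizer_zOf R
    · intro e
      have : Nontrivial R := (Subgroup.nontrivial_iff_ne_bot R).2 hRbot
      have hc := Group.IsNilpotent.center_ne_bot (G := R)
      apply hc
      rw [Subgroup.eq_bot_iff_forall]
      intro z hz
      have hmem : (z : G) ∈ zOf R :=
        ⟨z.2, fun u hu => congrArg Subtype.val (Subgroup.mem_center_iff.1 hz ⟨u, hu⟩)⟩
      rw [e, Subgroup.mem_bot] at hmem
      exact Subtype.ext hmem
    · refine invariant_of_map_eq φ _ ?_
      rw [map_zOf _ _ (φ.injective.comp R.subtype_injective), hRmap]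

/-- Thompson: a fixed-point-free automorphism of prime order forces nilpotency. -/
theorem isNilpotent_of_fpf [Finite G] (φ : MulAut G) (hfix : ∀ x, φ x = x → x = 1) (r : ℕ)
    (hr : r.Prime) (hφ : φ ^ r = 1) : Group.IsNilpotent G :=
  isNilpotent_aux _ G (Nat.lt_succ_self _) φ hfix r hr hφ

/-- A normal subgroup with a fixed-point-free complement is nilpotent. -/
theorem isNilpotent_of_complement [Finite G] {K H : Subgroup G} [K.Normal] (hH : H ≠ ⊥)
    (hfpf : ∀ h ∈ H, h ≠ 1 → K ⊓ Subgroup.centralizer ({h} : Set G) = ⊥) :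
    Group.IsNilpotent K := by
  obtain ⟨r, hr, hrd⟩ := Nat.exists_prime_and_dvd (n := Nat.card H)
    (fun e => hH (Subgroup.card_eq_one.1 e))
  have := Fact.mk hr
  obtain ⟨⟨h, hh⟩, hho⟩ := exists_prime_orderOf_dvd_card' (G := H) r hrd
  rw [Subgroup.orderOf_mk] at hho
  refine isNilpotent_of_fpf (MulAut.conjNormal (H := K) h) (fun x hx => ?_) r hr ?_
  · have h1 : h * (x : G) * h⁻¹ = x := by
      rw [← MulAut.conjNormal_apply]
      exact congrArg Subtype.val hx
    have hmem : (x : G) ∈ K ⊓ Subgroup.centralizer ({h} : Set G) := by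
      refine ⟨x.2, ?_⟩
      show (x : G) ∈ Subgroup.centralizer ({h} : Set G)
      rw [Subgroup.mem_centralizer_iff]
      rintro y rfl
      exact mul_inv_eq_iff_eq_mul.1 h1
    rw [hfpf h hh (fun e => hr.ne_one (by rw [← hho, e, orderOf_one])), Subgroup.mem_bot] at hmem
    exact Subtype.ext hmem
  · rw [← map_pow, ← hho, pow_orderOf_eq_one, map_one]

/-- The Frobenius kernel is a nilpotent normal complement. -/
theorem exists_nilpotent_kernel [Finite G] {H : Subgroup G} (hH : Cfsg.IsFrobeniusComplement H) :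
    ∃ N : Subgroup G, (N : Set G) = Cfsg.frobeniusKernel H ∧ N.Normal ∧
      Subgroup.IsComplement' N H ∧ Group.IsNilpotent N := by
  have := Fintype.ofFinite G
  obtain ⟨N, hN, hn, hc⟩ := CharInduced.frobenius_kernel_subgroup hH
  exact ⟨N, hN, hn, hc, isNilpotent_of_complement hH.1
    (FrobeniusBasic.fpf_of_complement hH hc.disjoint)⟩

end Cfsg.Agent.FrobeniusNilpotent
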