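/-
A module for a Frobenius group in which the kernel has no fixed vectors is free over the complement.
-/
import Mathlib
import Cfsg.Agent.Lib.FrobeniusNilpotent
import Cfsg.Agent.Lib.FrobeniusBasic
import Cfsg.Agent.Lib.TransferPResidual

open scoped Pointwise commutatorElement

namespace Cfsg.Agent.FrobeniusFree

universe u v w

/-- The columns of a normal basis matrix are independent. -/
theorem exists_theta {P : Type*} [Group P] [Finite P] [Fintype P] {K : Type*} [Field K]
    (φ : P →* (K ≃+* K)) (hφ : Function.Injective φ) :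
    ∃ θ : K, ∀ c : P → K, (∀ s, ∑ t, c t * φ (s * t) θ = 0) → c = 0 := by
  let act : MulSemiringAction P K := MulSemiringAction.compHom K φ
  have hsmul : ∀ (s : P) (x : K), s • x = φ s x := fun _ _ => rfl
  have hf : FaithfulSMul P K := ⟨fun {a b} h => hφ (RingEquiv.ext fun x => h x)⟩
  obtain ⟨x, hx⟩ := exists_linearIndependent_algEquiv_apply (FixedPoints.subfield P K) K
  have hli : LinearIndependent (FixedPoints.subfield P K) fun t : P => t • x :=
    hx.comp _ (FixedPoints.toAlgAutMulEquiv P K).injective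
  refine ⟨x, fun c hc => funext fun t₀ => ?_⟩
  by_contra hne
  -- the trace form
  have htr : ∀ y : K, (∑ s : P, φ s y) ∈ FixedPoints.subfield P K := fun y g => by
    rw [hsmul, map_sum]
    exact Fintype.sum_equiv (Equiv.mulLeft g) _ _ fun s => by simp [map_mul]
  have hzero : ∀ l : K, ∑ s : P, φ s (l * c t₀) = 0 := by
    intro l
    have h1 : ∀ s : P, ∑ t, φ s (l * c t) * φ t x = 0 := by
      intro s
      have h2 := congrArg (φ s) (congrArg (l * ·) (hc s⁻¹))
      simp only [mul_zero, map_zero, Finset.mul_sum, map_sum] at h2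
      rw [← h2]
      refine Finset.sum_congr rfl fun t _ => ?_
      rw [← mul_assoc, map_mul _ (l * c t), ← RingAut.mul_apply, ← map_mul φ, mul_inv_cancel_left]
    have h3 : ∑ t, (⟨_, htr (l * c t)⟩ : FixedPoints.subfield P K) • (t • x) = 0 := by
      have h4 : ∑ s : P, ∑ t, φ s (l * c t) * φ t x = 0 := Finset.sum_eq_zero fun s _ => h1 s
      rw [Finset.sum_comm] at h4
      rw [← h4]
      refine Finset.sum_congr rfl fun t _ => ?_
      rw [← Finset.sum_mul]
      rfl
    exact congrArg Subtype.val (Fintype.linearIndependent_iff.1 hli _ h3 t₀)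
  have hded := linearIndependent_monoidHom K K
  have hinj : Function.Injective fun s : P => ((φ s).toRingHom : K →* K) := fun a b h =>
    hφ (RingEquiv.ext fun y => DFunLike.congr_fun h y)
  have := Fintype.linearIndependent_iff.1 (hded.comp _ hinj) (fun _ => 1) (funext fun y => by
    simp only [Finset.sum_apply, Function.comp_apply, one_smul, Pi.zero_apply]
    have h5 := hzero (y * (c t₀)⁻¹)
    rwa [inv_mul_cancel_right₀ hne] at h5) 1
  exact one_ne_zero this

/-- A normal basis for a ring with a free action. -/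
theorem exists_matrix {H : Type*} [Group H] [Fintype H] [DecidableEq H] {R : Type*} [CommRing R]
    [IsArtinianRing R] (σ : H →* (R ≃+* R))
    (hfree : ∀ (m : Ideal R), m.IsMaximal → ∀ h : H, h ≠ 1 → ¬ ∀ r, σ h r - r ∈ m) :
    ∃ θ : R, IsUnit (Matrix.of fun g h : H => σ (g * h) θ).det := by
  classical
  let _ : MulAction H (MaximalSpectrum R) :=
    { smul := fun x m => ⟨m.asIdeal.comap (σ x⁻¹), have := m.isMaximal; Ideal.comap_isMaximal_of_equiv _⟩
      one_smul := fun m => MaximalSpectrum.ext (Ideal.ext fun r => by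
        show σ (1 : H)⁻¹ r ∈ m.asIdeal ↔ _
        simp)
      mul_smul := fun x y m => MaximalSpectrum.ext (Ideal.ext fun r => by
        show σ (x * y)⁻¹ r ∈ m.asIdeal ↔ σ y⁻¹ (σ x⁻¹ r) ∈ m.asIdeal
        simp [mul_inv_rev, map_mul]) }
  have hmem : ∀ (x : H) (m : MaximalSpectrum R) (r : R),
      r ∈ (x • m).asIdeal ↔ σ x⁻¹ r ∈ m.asIdeal := fun _ _ _ => Iff.rfl
  have hmem' : ∀ (x : H) (m : MaximalSpectrum R) (r : R),
      σ x r ∈ m.asIdeal ↔ r ∈ (x⁻¹ • m).asIdeal := fun x m r => by rw [hmem, inv_inv]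
  let rep : MaximalSpectrum R → MaximalSpectrum R := fun m =>
    (Quotient.mk (MulAction.orbitRel H (MaximalSpectrum R)) m).out
  have hrep : ∀ m, ∃ x : H, x • rep m = m := fun m => by
    have h1 : (MulAction.orbitRel H (MaximalSpectrum R)) (rep m) m := Quotient.mk_out m
    obtain ⟨x, hx⟩ := MulAction.orbitRel_apply.1 h1
    exact ⟨x⁻¹, by rw [← hx]; exact inv_smul_smul x m⟩
  have hrep' : ∀ (x : H) m, rep (x • m) = rep m := fun x m => by
    show (Quotient.mk _ _).out = (Quotient.mk _ _).out
    rw [Quotient.sound (MulAction.orbitRel_apply.2 ⟨x, rfl⟩ :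
      (MulAction.orbitRel H (MaximalSpectrum R)) (x • m) m)]
  -- local choices
  have hloc : ∀ m : MaximalSpectrum R, ∃ θ : R, rep m = m → ∀ c : H → R,
      (∀ g, g ∈ MulAction.stabilizer H m →
        ∑ t : MulAction.stabilizer H m, c t * σ (g * t) θ ∈ m.asIdeal) → c 1 ∈ m.asIdeal := by
    intro m
    have := m.isMaximal
    let _ : Field (R ⧸ m.asIdeal) := Ideal.Quotient.field _
    let π := Ideal.Quotient.mk m.asIdeal
    have hmap : ∀ s ∈ MulAction.stabilizer H m, m.asIdeal = m.asIdeal.map (σ s : R →+* R) := by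
      intro s hs
      ext r
      show r ∈ m.asIdeal ↔ r ∈ m.asIdeal.map (σ s)
      rw [Ideal.mem_map_of_equiv]
      constructor
      · intro hr
        refine ⟨σ s⁻¹ r, ?_, by rw [← RingAut.mul_apply, ← map_mul, mul_inv_cancel, map_one]; rfl⟩
        rw [hmem', inv_inv, hs]
        exact hr
      · rintro ⟨y, hy, rfl⟩
        rw [hmem', inv_smul_eq_iff.2 (Eq.symm hs)]
        exact hy
    let φ : MulAction.stabilizer H m →* ((R ⧸ m.asIdeal) ≃+* (R ⧸ m.asIdeal)) :=
      { toFun := fun s => Ideal.quotientEquiv _ _ (σ (s : H)) (hmap s s.2)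
        map_one' := RingEquiv.ext fun y => by
          obtain ⟨r, rfl⟩ := Ideal.Quotient.mk_surjective y
          simp
        map_mul' := fun s t => RingEquiv.ext fun y => by
          obtain ⟨r, rfl⟩ := Ideal.Quotient.mk_surjective y
          simp [Ideal.quotientEquiv_mk] }
    have hφ : ∀ (s : MulAction.stabilizer H m) r, φ s (π r) = π (σ (s : H) r) := fun s r => rfl
    have hinj : Function.Injective φ := by
      rw [injective_iff_map_eq_one]
      intro s hs
      by_contra hne
      refine hfree _ m.isMaximal (s : H) (fun e => hne (Subtype.ext e)) fun r => ?_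
      rw [← Ideal.Quotient.eq]
      exact (hφ s r).symm.trans (DFunLike.congr_fun hs (π r))
    obtain ⟨θ₀, hθ⟩ := exists_theta φ hinj
    obtain ⟨θ, rfl⟩ := Ideal.Quotient.mk_surjective θ₀
    refine ⟨θ, fun _ c hc => ?_⟩
    have := congrFun (hθ (fun t => π (c t)) fun s => by
      rw [← Ideal.Quotient.eq_zero_iff_mem.2 (hc (s : H) s.2), map_sum]
      refine Finset.sum_congr rfl fun t _ => ?_
      show _ * φ (s * t) (π θ) = π (c t * σ ((s : H) * t) θ)
      rw [map_mul π]
      exact congrArg _ (hφ _ _)) 1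
    exact Ideal.Quotient.eq_zero_iff_mem.1 this
  choose θ₀ hθ₀ using hloc
  -- glue
  obtain ⟨θ, hθ⟩ := Ideal.exists_forall_sub_mem_ideal
    (I := fun m : MaximalSpectrum R => m.asIdeal)
    (fun i j hij => Ideal.isCoprime_of_isMaximal (fun e => hij (MaximalSpectrum.ext e)))
    (fun m => if rep m = m then θ₀ m else 0)
  refine ⟨θ, ?_⟩
  by_contra hu
  obtain ⟨I, hI, hdet⟩ := exists_max_ideal_of_mem_nonunits hu
  let m' : MaximalSpectrum R := ⟨I, hI⟩
  obtain ⟨x, hx⟩ := hrep m'
  set m := rep m' with hm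
  have hmm : rep m = m := by rw [hm]; conv_rhs => rw [← hx]; rw [hrep']
  let _ : Field (R ⧸ I) := Ideal.Quotient.field _
  have h0 : ((Matrix.of fun g h : H => σ (g * h) θ).map (Ideal.Quotient.mk I)).det = 0 := by
    rw [← RingHom.mapMatrix_apply, ← RingHom.map_det]
    exact Ideal.Quotient.eq_zero_iff_mem.2 hdet
  obtain ⟨cbar, hcne, hc⟩ := Matrix.exists_mulVec_eq_zero_iff.2 h0
  apply hcne
  funext a
  obtain ⟨c, hcc⟩ : ∃ c : H → R, ∀ h, Ideal.Quotient.mk I (c h) = cbar h :=
    ⟨fun h => (Ideal.Quotient.mk_surjective (cbar h)).choose,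
      fun h => (Ideal.Quotient.mk_surjective (cbar h)).choose_spec⟩
  rw [Pi.zero_apply, ← hcc, Ideal.Quotient.eq_zero_iff_mem]
  have hg : ∀ g, ∑ h, σ x⁻¹ (c h) * σ (g * h) θ ∈ m.asIdeal := by
    intro g
    have h1 := congrFun hc (x * g)
    simp only [Matrix.mulVec, dotProduct, Matrix.map_apply, Matrix.of_apply, Pi.zero_apply,
      ← hcc, ← map_mul, ← map_sum, Ideal.Quotient.eq_zero_iff_mem] at h1
    have h2 : ∑ h, σ (x * g * h) θ * c h ∈ (x • m).asIdeal := hx.symm ▸ h1
    rw [hmem, map_sum] at h2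
    convert h2 using 2 with h
    rw [map_mul (σ x⁻¹), mul_comm, ← RingAut.mul_apply, ← map_mul σ, mul_assoc x g h,
      inv_mul_cancel_left]
  show c a ∈ m'.asIdeal
  rw [← hx, hmem]
  have key := hθ₀ m hmm (fun t => σ x⁻¹ (c (a * t))) fun s hs => by
    have h3 := hg (s * a⁻¹)
    rw [← Equiv.sum_comp (Equiv.mulLeft a)] at h3
    simp only [Equiv.coe_mulLeft, mul_assoc, inv_mul_cancel_left] at h3
    have h4 : ∀ t : H, σ (s * t) θ - (if t ∈ MulAction.stabilizer H m then σ (s * t) (θ₀ m) else 0)
        ∈ m.asIdeal := by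
      intro t
      have hθm := hθ ((s * t)⁻¹ • m)
      rw [show (if t ∈ MulAction.stabilizer H m then σ (s * t) (θ₀ m) else 0) =
        σ (s * t) (if t ∈ MulAction.stabilizer H m then θ₀ m else 0) by split_ifs <;> simp,
        ← map_sub, hmem']
      have hiff : rep ((s * t)⁻¹ • m) = (s * t)⁻¹ • m ↔ t ∈ MulAction.stabilizer H m := by
        rw [hrep', hmm, MulAction.mem_stabilizer_iff, eq_inv_smul_iff, mul_smul]
        constructor
        · intro e
          exact smul_left_cancel s (e.trans (Eq.symm hs))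
        · intro e
          rw [e, hs]
      by_cases ht : t ∈ MulAction.stabilizer H m
      · rw [if_pos (hiff.2 ht)] at hθm
        rw [if_pos ht]
        have e : (s * t)⁻¹ • m = m := inv_smul_eq_iff.2 (by rw [mul_smul, ht, hs])
        rwa [e] at hθm ⊢
      · rw [if_neg (fun e => ht (hiff.1 e))] at hθm
        rwa [if_neg ht]
    have h5 : ∑ t, σ x⁻¹ (c (a * t)) *
        (if t ∈ MulAction.stabilizer H m then σ (s * t) (θ₀ m) else 0) ∈ m.asIdeal := by
      have h6 := Ideal.sub_mem _ h3 (Ideal.sum_mem _ (t := Finset.univ) fun t _ =>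
        Ideal.mul_mem_left _ (σ x⁻¹ (c (a * t))) (h4 t))
      rw [← Finset.sum_sub_distrib] at h6
      simpa only [mul_sub, sub_sub_cancel] using h6
    simp only [mul_ite, mul_zero, ← Finset.sum_filter] at h5
    rwa [Finset.sum_subtype _ (p := fun t => t ∈ MulAction.stabilizer H m) (fun t => by simp)] at h5
  simpa using key

section modules

variable {k : Type u} [Field k] {A : Type w} [Group A] [Finite A]

/-- `W` is a free generating subspace for `H`. -/
def Free {V : Type v} [AddCommGroup V] [Module k V] (ρ : Representation k A V) (H : Subgroup A)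
    [Fintype H] (W : Submodule k V) : Prop :=
  (∀ v, ∃ f : H → V, (∀ h, f h ∈ W) ∧ v = ∑ h : H, ρ (h : A) (f h)) ∧
    ∀ f : H → V, (∀ h, f h ∈ W) → ∑ h : H, ρ (h : A) (f h) = 0 → f = 0

omit [Finite A] in
theorem norm_fixed {V : Type v} [AddCommGroup V] [Module k V] (ρ : Representation k A V)
    (E : Subgroup A) [Fintype E] {e : A} (he : e ∈ E) (v : V) :
    ρ e (∑ x : E, ρ (x : A) v) = ∑ x : E, ρ (x : A) v := by
  rw [map_sum]
  exact Fintype.sum_equiv (Equiv.mulLeft ⟨e, he⟩) _ _ fun x => by simp [← Module.End.mul_apply]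

variable {V : Type v} [AddCommGroup V] [Module k V]

/-- The abelian case. -/
theorem exists_free_base [FiniteDimensional k V] (ρ : Representation k A V) (E H : Subgroup A)
    [Fintype H] (hEn : E.Normal)
    (hcomm : ∀ e ∈ E, ∀ e' ∈ E, ρ e * ρ e' = ρ e' * ρ e) (hk : (Nat.card E : k) ≠ 0)
    (hC : ∀ v : V, (∀ e ∈ E, ρ e v = v) → v = 0)
    (hfpf : ∀ h ∈ H, h ≠ 1 → ∀ e ∈ E, h * e = e * h → e = 1) :
    ∃ W : Submodule k V, Free ρ H W := by
  classical
  let S : Subalgebra k (Module.End k V) := Algebra.adjoin k (ρ '' (E : Set A))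
  let _ : CommRing S := Algebra.adjoinCommRingOfComm k
    (by rintro _ ⟨a, ha, rfl⟩ _ ⟨b, hb, rfl⟩; exact hcomm a ha b hb)
  have : Module.Finite k S := Module.Finite.of_injective S.val.toLinearMap Subtype.val_injective
  have : IsArtinianRing S := IsArtinianRing.of_finite k S
  have hinv : ∀ (a : A) (r : Module.End k V), r ∈ S → ρ a * r * ρ a⁻¹ ∈ S := by
    intro a r hr
    induction hr using Algebra.adjoin_induction with
    | mem r hr =>
      obtain ⟨e, he, rfl⟩ := hr
      rw [← map_mul, ← map_mul]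
      exact Algebra.subset_adjoin ⟨_, hEn.conj_mem e he a, rfl⟩
    | algebraMap c =>
      rw [← Algebra.commutes, mul_assoc, ← map_mul, mul_inv_cancel, map_one, mul_one]
      exact S.algebraMap_mem c
    | add x y _ _ hx hy => rw [mul_add, add_mul]; exact add_mem hx hy
    | mul x y _ _ hx hy =>
      have : ρ a * (x * y) * ρ a⁻¹ = (ρ a * x * ρ a⁻¹) * (ρ a * y * ρ a⁻¹) := by
        simp only [mul_assoc]
        rw [← mul_assoc (ρ a⁻¹) (ρ a) (y * _), ← map_mul, inv_mul_cancel, map_one, one_mul]
      rw [this]; exact mul_mem hx hy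
  let τ : A →* (S ≃+* S) :=
    { toFun := fun a =>
        { toFun := fun r => ⟨ρ a * r * ρ a⁻¹, hinv a r r.2⟩
          invFun := fun r => ⟨ρ a⁻¹ * r * ρ a⁻¹⁻¹, hinv a⁻¹ r r.2⟩
          left_inv := fun r => Subtype.ext (by
            simp only [mul_assoc, ← map_mul]
            rw [inv_inv, inv_mul_cancel, map_one, mul_one, ← mul_assoc, ← map_mul, inv_mul_cancel,
              map_one, one_mul])
          right_inv := fun r => Subtype.ext (by
            simp only [mul_assoc, ← map_mul]
            rw [inv_inv, mul_inv_cancel, map_one, mul_one, ← mul_assoc, ← map_mul, mul_inv_cancel,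
              map_one, one_mul])
          map_mul' := fun r r' => Subtype.ext (by
            show ρ a * ((r : Module.End k V) * r') * ρ a⁻¹ =
              (ρ a * r * ρ a⁻¹) * (ρ a * r' * ρ a⁻¹)
            simp only [mul_assoc]
            rw [← mul_assoc (ρ a⁻¹) (ρ a) ((r' : Module.End k V) * _), ← map_mul, inv_mul_cancel,
              map_one, one_mul])
          map_add' := fun r r' => Subtype.ext (by
            show ρ a * ((r : Module.End k V) + r') * ρ a⁻¹ = _
            rw [mul_add, add_mul]; rfl) }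
      map_one' := RingEquiv.ext fun r => Subtype.ext (by simp)
      map_mul' := fun a b => RingEquiv.ext fun r => Subtype.ext (by
        simp [mul_inv_rev, map_mul, mul_assoc]) }
  have hτ : ∀ (a : A) (r : S) (v : V),
      ρ a ((r : Module.End k V) v) = (τ a r : Module.End k V) (ρ a v) := fun a r v => by
    show _ = (ρ a * r * ρ a⁻¹) (ρ a v)
    rw [← Module.End.mul_apply _ (ρ a), mul_assoc, ← map_mul, inv_mul_cancel, map_one, mul_one]
    rfl
  have hfree : ∀ (m : Ideal S), m.IsMaximal → ∀ h : H, h ≠ 1 →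
      ¬ ∀ r, (τ.comp H.subtype) h r - r ∈ m := by
    intro m hm h hne hall
    let π := Ideal.Quotient.mk m
    let _ : Field (S ⧸ m) := Ideal.Quotient.field _
    let ε : E → S := fun e => ⟨ρ e, Algebra.subset_adjoin ⟨e, e.2, rfl⟩⟩
    have hεm : ∀ e e' : E, ε (e * e') = ε e * ε e' := fun e e' => Subtype.ext (map_mul ρ _ _)
    have hε1 : ε 1 = 1 := Subtype.ext (map_one ρ)
    have hone : ∀ e : E, π (ε e) = 1 := by
      let g : E → E := fun e => ⟨(h : A) * e * (h : A)⁻¹ * (e : A)⁻¹,
        E.mul_mem (hEn.conj_mem e e.2 h) (E.inv_mem e.2)⟩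
      have hinj : Function.Injective g := by
        intro e e' heq
        have h1 : (h : A) * e * (h : A)⁻¹ * (e : A)⁻¹ = (h : A) * e' * (h : A)⁻¹ * (e' : A)⁻¹ :=
          congrArg Subtype.val heq
        have h2 : (h : A) * ((e' : A)⁻¹ * e) = (e' : A)⁻¹ * e * h := by
          calc (h : A) * ((e' : A)⁻¹ * e) = (h : A) * (e' : A)⁻¹ * (h : A)⁻¹ *
                ((h : A) * e * (h : A)⁻¹ * (e : A)⁻¹) * e * h := by group
            _ = (h : A) * (e' : A)⁻¹ * (h : A)⁻¹ *
                ((h : A) * e' * (h : A)⁻¹ * (e' : A)⁻¹) * e * h := by rw [h1]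
            _ = _ := by group
        have h3 := hfpf h h.2 (fun e => hne (Subtype.ext e)) _ (E.mul_mem (E.inv_mem e'.2) e.2) h2
        rw [inv_mul_eq_one] at h3
        exact Subtype.ext h3.symm
      intro e
      obtain ⟨d, hd⟩ := Finite.injective_iff_surjective.1 hinj e
      have h4 : π (ε ⟨(h : A) * d * (h : A)⁻¹, hEn.conj_mem d d.2 h⟩) = π (ε d) := by
        refine (Ideal.Quotient.eq).2 ?_
        have h5 := hall (ε d)
        convert h5 using 2
        exact Subtype.ext (by
          show ρ _ = ρ (h : A) * ρ (d : A) * ρ (h : A)⁻¹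
          rw [map_mul, map_mul])
      have h6 : π (ε d) * π (ε d⁻¹) = 1 := by rw [← map_mul, ← hεm, mul_inv_cancel, hε1, map_one]
      rw [← hd, show g d = (⟨(h : A) * d * (h : A)⁻¹, hEn.conj_mem d d.2 h⟩ : E) * d⁻¹ from rfl,
        hεm, map_mul, h4, h6]
    have := Fintype.ofFinite E
    have hsum : ∑ e : E, ε e = 0 := Subtype.ext (LinearMap.ext fun v => by
      rw [AddSubmonoidClass.coe_finset_sum, LinearMap.sum_apply]
      exact hC _ fun e he => norm_fixed ρ E he v)
    have h7 := congrArg π hsum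
    rw [map_sum, map_zero] at h7
    simp only [hone, Finset.sum_const, Finset.card_univ, nsmul_one] at h7
    have h8 : algebraMap k (S ⧸ m) (Nat.card E : k) = 0 := by
      rw [map_natCast, Nat.card_eq_fintype_card]; exact h7
    exact hk ((map_eq_zero_iff _ (algebraMap k (S ⧸ m)).injective).1 h8)
  obtain ⟨θ, hθ⟩ := exists_matrix (τ.comp H.subtype) hfree
  set M := (Matrix.of fun g h : H => (τ.comp H.subtype) (g * h) θ) with hM
  let act : S → V → V := fun r v => (r : Module.End k V) v
  have hsolve : ∀ y : H → V, ∃ f : H → V, ∀ g, ∑ h, act (M g h) (f h) = y g := by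
    intro y
    refine ⟨fun h => ∑ g, act (M⁻¹ h g) (y g), fun g => ?_⟩
    simp only [act, map_sum]
    rw [Finset.sum_comm]
    have h1 : ∀ g', ∑ h, (M g h : Module.End k V) ((M⁻¹ h g' : Module.End k V) (y g')) =
        ((((1 : Matrix H H S) g g' : S) : Module.End k V)) (y g') := fun g' => by
      rw [← Matrix.mul_nonsing_inv M hθ, Matrix.mul_apply]
      rw [AddSubmonoidClass.coe_finset_sum, LinearMap.sum_apply]
      rfl
    simp only [h1]
    rw [Finset.sum_eq_single g (fun g' _ hne => by simp [Matrix.one_apply_ne (Ne.symm hne)])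
      (by simp)]
    simp
  have huniq : ∀ f : H → V, (∀ g, ∑ h, act (M g h) (f h) = 0) → f = 0 := by
    intro f hf
    funext h₀
    have h0 : ∑ g, (M⁻¹ h₀ g : Module.End k V) (∑ h, act (M g h) (f h)) = 0 := by simp [hf]
    simp only [act, map_sum] at h0
    rw [Finset.sum_comm] at h0
    have h1 : ∀ h, ∑ g, (M⁻¹ h₀ g : Module.End k V) ((M g h : Module.End k V) (f h)) =
        ((((1 : Matrix H H S) h₀ h : S) : Module.End k V)) (f h) := fun h => by
      rw [← Matrix.nonsing_inv_mul M hθ, Matrix.mul_apply]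
      rw [AddSubmonoidClass.coe_finset_sum, LinearMap.sum_apply]
      rfl
    simp only [h1] at h0
    rw [Finset.sum_eq_single h₀ (fun g' _ hne => by simp [Matrix.one_apply_ne (Ne.symm hne)])
      (by simp)] at h0
    simpa using h0
  have hrow : ∀ (g : H) (f : H → V), (∀ (g' : H) h, ρ (g' : A) (f h) = f h) →
      ρ (g : A) (∑ h : H, ρ (h : A) ((θ : Module.End k V) (f h))) = ∑ h, act (M g h) (f h) := by
    intro g f hfix
    rw [map_sum]
    refine Finset.sum_congr rfl fun h _ => ?_
    rw [hτ (h : A), hfix h, hτ (g : A), hfix g]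
    show _ = ((τ ((g * h : H) : A) θ : S) : Module.End k V) (f h)
    rw [Subgroup.coe_mul, map_mul]
    rfl
  let Fix : Submodule k V :=
    { carrier := {v | ∀ h : H, ρ (h : A) v = v}
      add_mem' := fun {a b} ha hb h => by rw [map_add, ha, hb]
      zero_mem' := fun h => map_zero _
      smul_mem' := fun c a ha h => by rw [map_smul, ha] }
  refine ⟨Fix.map (θ : Module.End k V), fun v => ?_, fun w hw hsum => ?_⟩
  · obtain ⟨f, hf⟩ := hsolve fun g => ρ (g : A) v
    have hfix : ∀ (g' : H) h, ρ (g' : A) (f h) = f h := by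
      intro g'
      have h1 : (fun h => ρ (g' : A) (f h) - f h) = 0 := by
        refine huniq _ fun g => ?_
        obtain ⟨g, rfl⟩ : ∃ g₁, g' * g₁ = g := ⟨g'⁻¹ * g, mul_inv_cancel_left _ _⟩
        have h2 := congrArg (ρ (g' : A)) (hf g)
        rw [map_sum] at h2
        simp only [act, map_sub, Finset.sum_sub_distrib] at h2 ⊢
        rw [sub_eq_zero]
        refine Eq.trans ?_ ((hf (g' * g)).symm)
        rw [Subgroup.coe_mul, map_mul, Module.End.mul_apply, ← h2]
        refine Finset.sum_congr rfl fun h _ => ?_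
        rw [hτ]
        show ((τ ((g' * g * h : H) : A) θ : S) : Module.End k V) _ =
          ((τ (g' : A) (τ ((g * h : H) : A) θ) : S) : Module.End k V) _
        rw [← RingAut.mul_apply, ← map_mul τ, ← Subgroup.coe_mul, mul_assoc]
      exact fun h => sub_eq_zero.1 (congrFun h1 h)
    refine ⟨fun h => (θ : Module.End k V) (f h),
      fun h => Submodule.mem_map_of_mem fun g => hfix g h, ?_⟩
    have h3 := hrow 1 f hfix
    simp only [Subgroup.coe_one, map_one, Module.End.one_apply] at h3
    have h4 := hf 1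
    simp only [Subgroup.coe_one, map_one, Module.End.one_apply] at h4
    rw [h3, h4]
  · choose f hf hfw using fun h => Submodule.mem_map.1 (hw h)
    have hf0 : f = 0 := huniq f fun g => by
      rw [← hrow g f fun g' h => hf h g']
      simp only [hfw, hsum, map_zero]
    funext h
    rw [← hfw h, hf0]
    simp

/-- The restriction of a representation to an invariant subspace. -/
def restr (ρ : Representation k A V) (U : Submodule k V) (hU : ∀ a, ∀ v ∈ U, ρ a v ∈ U) :
    Representation k A U where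
  toFun a := (ρ a).restrict (hU a)
  map_one' := LinearMap.ext fun v => Subtype.ext (by simp)
  map_mul' a b := LinearMap.ext fun v => Subtype.ext (by simp)

theorem exists_free_aux (H : Subgroup A) [Fintype H] (n : ℕ) :
    ∀ (E : Subgroup A), Nat.card E < n → E.Normal → Group.IsNilpotent E →
      (Nat.card E : k) ≠ 0 → (∀ h ∈ H, h ≠ 1 → ∀ e ∈ E, h * e = e * h → e = 1) →
      ∀ (V : Type v) [AddCommGroup V] [Module k V] [FiniteDimensional k V]
        (ρ : Representation k A V), (∀ v : V, (∀ e ∈ E, ρ e v = v) → v = 0) →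
        ∃ W : Submodule k V, Free ρ H W := by
  induction n with
  | zero => intro E h; omega
  | succ n ih =>
    intro E hEn' hEn hnil hk hfpf V _ _ _ ρ hC
    classical
    have := hEn
    by_cases hD : ⁅E, E⁆ = E
    · have hbot : E = ⊥ := by
        by_contra hne
        have : Nontrivial E := (Subgroup.nontrivial_iff_ne_bot E).2 hne
        have := hnil
        apply (Group.IsSolvable.commutator_lt_top_of_nontrivial E).ne
        apply Subgroup.map_injective E.subtype_injective
        rw [Subgroup.map_subtype_commutator, hD, ← MonoidHom.range_eq_map, Subgroup.range_subtype]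
      refine exists_free_base ρ E H hEn (fun e he e' he' => ?_) hk hC hfpf
      rw [hbot, Subgroup.mem_bot] at he he'
      rw [he, he']
    set D := ⁅E, E⁆ with hDdef
    have hDn : D.Normal := inferInstance
    have hDE : D ≤ E := Subgroup.commutator_le_self E
    have hlt : Nat.card D < Nat.card E :=
      lt_of_le_of_ne (Subgroup.card_le_of_le hDE) fun e => hD (Subgroup.eq_of_le_of_card_ge hDE e.ge)
    have hkD : (Nat.card D : k) ≠ 0 := fun e => hk (by
      obtain ⟨c, hc⟩ := Subgroup.card_dvd_of_le hDE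
      rw [hc, Nat.cast_mul, e, zero_mul])
    have hDnil : Group.IsNilpotent D := by
      have := hnil
      exact Subgroup.isNilpotent_of_ker_le_center (Subgroup.inclusion hDE)
        (by rw [(MonoidHom.ker_eq_bot_iff _).2 (Subgroup.inclusion_injective hDE)]; exact bot_le)
    have := Fintype.ofFinite D
    let N : Module.End k V := ∑ d : D, ρ (d : A)
    have hNa : ∀ a v, ρ a (N v) = N (ρ a v) := by
      intro a v
      simp only [N, LinearMap.sum_apply, map_sum]
      let e : D ≃ D :=
        { toFun := fun d => ⟨a * d * a⁻¹, hDn.conj_mem d d.2 a⟩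
          invFun := fun d => ⟨a⁻¹ * d * a, hDn.conj_mem' d d.2 a⟩
          left_inv := fun d => Subtype.ext (by simp [mul_assoc])
          right_inv := fun d => Subtype.ext (by simp [mul_assoc]) }
      refine Fintype.sum_equiv e _ _ fun d => ?_
      rw [← Module.End.mul_apply, ← Module.End.mul_apply, ← map_mul, ← map_mul]
      congr 2
      simp [e]
    let U₁ : Submodule k V :=
      { carrier := {v | ∀ d ∈ D, ρ d v = v}
        add_mem' := fun {a b} ha hb d hd => by rw [map_add, ha d hd, hb d hd]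
        zero_mem' := fun d _ => map_zero _
        smul_mem' := fun c a ha d hd => by rw [map_smul, ha d hd] }
    have hU₁ : ∀ a, ∀ v ∈ U₁, ρ a v ∈ U₁ := fun a v hv d hd => by
      rw [← Module.End.mul_apply, ← map_mul, show d * a = a * (a⁻¹ * d * a) by group, map_mul,
        Module.End.mul_apply, hv _ (hDn.conj_mem' d hd a)]
    have hU₂ : ∀ a, ∀ v ∈ LinearMap.ker N, ρ a v ∈ LinearMap.ker N := fun a v hv => by
      rw [LinearMap.mem_ker, ← hNa, LinearMap.mem_ker.1 hv, map_zero]
    have hNU₁ : ∀ v ∈ U₁, N v = (Nat.card D : k) • v := fun v hv => by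
      simp only [N, LinearMap.sum_apply]
      rw [Finset.sum_congr rfl fun (d : D) _ => hv (d : A) d.2, Finset.sum_const, Finset.card_univ,
        Nat.card_eq_fintype_card, Nat.cast_smul_eq_nsmul]
    have hNmem : ∀ v, N v ∈ U₁ := fun v d hd => by
      simp only [N, LinearMap.sum_apply]
      exact norm_fixed ρ D hd v
    obtain ⟨W₁, hW₁⟩ := exists_free_base (restr ρ U₁ hU₁) E H hEn
      (fun e he e' he' => LinearMap.ext fun v => Subtype.ext (by
        show ρ e (ρ e' (v : V)) = ρ e' (ρ e (v : V))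
        rw [← Module.End.mul_apply, ← Module.End.mul_apply, ← map_mul, ← map_mul,
          show e * e' = ⁅e, e'⁆ * (e' * e) by rw [commutatorElement_def]; group, map_mul,
          Module.End.mul_apply]
        exact hU₁ (e' * e) v v.2 _ (Subgroup.commutator_mem_commutator he he')))
      hk (fun v hv => Subtype.ext (hC v fun e he => congrArg Subtype.val (hv e he))) hfpf
    obtain ⟨W₂, hW₂⟩ := ih D (by omega) hDn hDnil hkD (fun h hh h1 e he => hfpf h hh h1 e (hDE he))
      _ (restr ρ (LinearMap.ker N) hU₂) (fun v hv => Subtype.ext (by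
        have h1 := hNU₁ (v : V) fun d hd => congrArg Subtype.val (hv d hd)
        rw [LinearMap.mem_ker.1 v.2] at h1
        exact (smul_eq_zero.1 h1.symm).resolve_left hkD))
    refine ⟨W₁.map U₁.subtype ⊔ W₂.map (LinearMap.ker N).subtype, fun v => ?_, fun f hf hsum => ?_⟩
    · have hv₁ : (Nat.card D : k)⁻¹ • N v ∈ U₁ := U₁.smul_mem _ (hNmem v)
      have hv₂ : v - (Nat.card D : k)⁻¹ • N v ∈ LinearMap.ker N := by
        rw [LinearMap.mem_ker, map_sub, map_smul, hNU₁ _ (hNmem v), smul_smul,
          inv_mul_cancel₀ hkD, one_smul, sub_self]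
      obtain ⟨f₁, hf₁, e₁⟩ := hW₁.1 ⟨_, hv₁⟩
      obtain ⟨f₂, hf₂, e₂⟩ := hW₂.1 ⟨_, hv₂⟩
      refine ⟨fun h => (f₁ h : V) + (f₂ h : V), fun h => Submodule.add_mem_sup
        (Submodule.mem_map_of_mem (hf₁ h)) (Submodule.mem_map_of_mem (hf₂ h)), ?_⟩
      have e₁' := congrArg Subtype.val e₁
      have e₂' := congrArg Subtype.val e₂
      push_cast at e₁' e₂'
      simp only [map_add, Finset.sum_add_distrib]
      calc v = (Nat.card D : k)⁻¹ • N v + (v - (Nat.card D : k)⁻¹ • N v) := by abel
        _ = _ := congrArg₂ (· + ·) e₁' e₂'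
    · choose f₁ hf₁ f₂ hf₂ hff using fun h => Submodule.mem_sup.1 (hf h)
      choose g₁ hg₁ hgf₁ using fun h => Submodule.mem_map.1 (hf₁ h)
      choose g₂ hg₂ hgf₂ using fun h => Submodule.mem_map.1 (hf₂ h)
      set x₁ := ∑ h : H, restr ρ U₁ hU₁ (h : A) (g₁ h) with hx₁
      set x₂ := ∑ h : H, restr ρ (LinearMap.ker N) hU₂ (h : A) (g₂ h) with hx₂
      have hx : (x₁ : V) + (x₂ : V) = 0 := by
        rw [← hsum, hx₁, hx₂]
        push_cast
        rw [← Finset.sum_add_distrib]
        refine Finset.sum_congr rfl fun h _ => ?_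
        rw [← hff h, ← hgf₁ h, ← hgf₂ h, map_add]
        rfl
      have h1 : (x₁ : V) = 0 := by
        have h2 := congrArg N hx
        rw [map_add, LinearMap.mem_ker.1 x₂.2, add_zero, hNU₁ _ x₁.2, map_zero] at h2
        exact (smul_eq_zero.1 h2).resolve_left hkD
      have h2 : (x₂ : V) = 0 := by rwa [h1, zero_add] at hx
      have e₁ := hW₁.2 g₁ hg₁ (Subtype.ext h1)
      have e₂ := hW₂.2 g₂ hg₂ (Subtype.ext h2)
      funext h
      rw [← hff h, ← hgf₁ h, ← hgf₂ h, e₁, e₂]
      simp

/-- A group of `p`-power index over a subgroup with no fixed points has no fixed points. -/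
theorem fixed_of_kernel (ρ : Representation k A V) (F : Subgroup A) [F.Normal]
    (hnil : Group.IsNilpotent F) (hC : ∀ v : V, (∀ f ∈ F, ρ f v = v) → v = 0) :
    ∃ E : Subgroup A, E ≤ F ∧ E.Normal ∧ Group.IsNilpotent E ∧ (Nat.card E : k) ≠ 0 ∧
      ∀ v : V, (∀ e ∈ E, ρ e v = v) → v = 0 := by
  classical
  obtain ⟨q, hq⟩ := CharP.exists k
  rcases CharP.char_is_prime_or_zero k q with hp | h0
  swap
  · subst h0
    have := CharP.charP_to_charZero k
    exact ⟨F, le_rfl, inferInstance, hnil, Nat.cast_ne_zero.2 Nat.card_pos.ne', hC⟩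
  have := Fact.mk hp
  have := hnil
  set R := Cfsg.pResidual q F with hR
  have hNC : Cfsg.HasNormalPComplement q F := FrobeniusNilpotent.hasNormalPComplement_of_isNilpotent
  have hRp := TransferPResidual.hasNormalPComplement_iff_not_dvd.1 hNC
  have hcard : Nat.card (R.map F.subtype) = Nat.card R :=
    Subgroup.card_map_of_injective F.subtype_injective
  refine ⟨R.map F.subtype, Subgroup.map_subtype_le _, ConjAct.normal_of_characteristic_of_normal, ?_,
    fun e => hRp (by rwa [hcard, CharP.cast_eq_zero_iff k q] at e), fun v hv => ?_⟩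
  · exact Subgroup.isNilpotent_of_ker_le_center (Subgroup.inclusion (Subgroup.map_subtype_le R))
      (by rw [(MonoidHom.ker_eq_bot_iff _).2 (Subgroup.inclusion_injective _)]; exact bot_le)
  obtain ⟨P⟩ : Nonempty (Sylow q F) := inferInstance
  have hFRP : ∀ f : F, f ∈ R ⊔ (P : Subgroup F) := by
    intro f
    rw [show R ⊔ (P : Subgroup F) = ⊤ by rw [sup_comm]; exact TransferPResidual.sylow_sup_pResidual P]
    trivial
  -- a finite `P`-invariant additive subgroup
  have := Fintype.ofFinite F
  let M : AddSubgroup V := AddSubgroup.closure (Set.range fun f : F => ρ (f : A) v)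
  have htor : AddMonoid.IsTorsion V → Finite M := fun ht => by
    have : AddGroup.FG M := AddGroup.closure_finite_fg _
    exact AddCommGroup.finite_of_fg_torsion M fun u => (AddSubmonoid.isOfFinAddOrder_coe (x := u)).1 (ht _)
  have hqV : ∀ u : V, q • u = 0 := fun u => by
    rw [← Nat.cast_smul_eq_nsmul k, CharP.cast_eq_zero, zero_smul]
  have hMfin : Finite M := htor fun u => isOfFinAddOrder_iff_nsmul_eq_zero.2 ⟨q, hp.pos, hqV u⟩
  have hMinv : ∀ f : F, ∀ u ∈ M, ρ (f : A) u ∈ M := fun f u hu => by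
    induction hu using AddSubgroup.closure_induction with
    | mem u hu =>
      obtain ⟨g, rfl⟩ := hu
      exact AddSubgroup.subset_closure ⟨f * g, by simp⟩
    | zero => rw [map_zero]; exact zero_mem _
    | add a b _ _ ha hb => rw [map_add]; exact add_mem ha hb
    | neg a _ ha => rw [map_neg]; exact neg_mem ha
  have hRfix : ∀ r ∈ R, ∀ u ∈ M, ρ ((r : F) : A) u = u := fun r hr u hu => by
    induction hu using AddSubgroup.closure_induction with
    | mem u hu =>
      obtain ⟨g, rfl⟩ := hu
      have h1 : g⁻¹ * r * g ∈ R := Subgroup.Normal.conj_mem' inferInstance r hr g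
      show ρ (r : A) (ρ (g : A) v) = ρ (g : A) v
      have h2 : ρ ((g⁻¹ * r * g : F) : A) v = v := hv _ ⟨_, h1, rfl⟩
      rw [← Module.End.mul_apply, ← map_mul, ← Subgroup.coe_mul,
        show r * g = g * (g⁻¹ * r * g) by group, Subgroup.coe_mul, map_mul, Module.End.mul_apply, h2]
    | zero => rw [map_zero]
    | add a b _ _ ha hb => rw [map_add, ha, hb]
    | neg a _ ha => rw [map_neg, ha]
  by_contra hv0
  let _ : MulAction P M :=
    { smul := fun g u => ⟨ρ ((g : F) : A) u, hMinv g u u.2⟩
      one_smul := fun u => Subtype.ext (by show ρ (((1 : P) : F) : A) (u : V) = u; simp)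
      mul_smul := fun g g' u => Subtype.ext (by
        show ρ (((g * g' : P) : F) : A) (u : V) = ρ ((g : F) : A) (ρ ((g' : F) : A) u)
        simp) }
  have hMq : q ∣ Nat.card M := by
    let v₀ : M := ⟨v, AddSubgroup.subset_closure ⟨1, by simp⟩⟩
    have h1 : addOrderOf v₀ = q :=
      addOrderOf_eq_prime (Subtype.ext (hqV v)) fun e => hv0 (congrArg Subtype.val e)
    exact h1 ▸ addOrderOf_dvd_natCard v₀
  obtain ⟨u, hu, hu0⟩ := P.isPGroup'.exists_fixed_point_of_prime_dvd_card_of_fixed_point M hMq
    (a := (0 : M)) (MulAction.mem_fixedPoints.2 fun g => Subtype.ext (map_zero _))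
  refine hu0 (Subtype.ext (hC u fun f hf => ?_).symm)
  obtain ⟨r, hr, g, hg, hrg⟩ := Subgroup.mem_sup_of_normal_left.1 (hFRP ⟨f, hf⟩)
  have e : f = (r : A) * (g : A) := (congrArg Subtype.val hrg).symm
  rw [e, map_mul, Module.End.mul_apply]
  have h2 : ρ (g : A) (u : V) = u := congrArg Subtype.val (MulAction.mem_fixedPoints.1 hu ⟨g, hg⟩)
  rw [h2]
  exact hRfix r hr u u.2

theorem isInternal (ρ : Representation k A V) (H : Subgroup A) [Fintype H] [DecidableEq H]
    (W : Submodule k V) (hW : Free ρ H W) :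
    DirectSum.IsInternal (fun h : H => W.map (ρ (h : A))) := by
  rw [DirectSum.isInternal_submodule_iff_iSupIndep_and_iSup_eq_top]
  refine ⟨?_, ?_⟩
  · rw [iSupIndep_iff_finset_sum_eq_zero_imp_eq_zero]
    intro s v hv hsum h hh
    have hex : ∀ i : H, ∃ w ∈ W, (if i ∈ s then v i else 0) = ρ (i : A) w := fun i => by
      by_cases hi : i ∈ s
      · obtain ⟨w, hw, hwv⟩ := Submodule.mem_map.1 (hv i hi)
        exact ⟨w, hw, by rw [if_pos hi, hwv]⟩
      · exact ⟨0, zero_mem _, by rw [if_neg hi, map_zero]⟩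
    choose f hf hfv using hex
    have := congrFun (hW.2 f hf (by
      simp only [← hfv]
      rw [Finset.sum_ite_mem, Finset.univ_inter]
      exact hsum)) h
    have h2 := hfv h
    rw [if_pos hh, this] at h2
    simpa using h2
  · rw [eq_top_iff]
    intro v _
    obtain ⟨f, hf, rfl⟩ := hW.1 v
    exact Submodule.sum_mem _ fun h _ => Submodule.mem_iSup_of_mem h (Submodule.mem_map_of_mem (hf h))

theorem exists_isInternal [FiniteDimensional k V] [DecidableEq A] (ρ : Representation k A V)
    (F H : Subgroup A) [F.Normal] (hH : Cfsg.IsFrobeniusComplement H)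
    (hker : Cfsg.frobeniusKernel H = (F : Set A)) (hnil : Group.IsNilpotent F)
    (hC : ∀ v : V, (∀ f ∈ F, ρ f v = v) → v = 0) :
    ∃ W : Submodule k V, DirectSum.IsInternal (fun h : H => W.map (ρ (h : A))) := by
  classical
  have := Fintype.ofFinite H
  obtain ⟨E, hEF, hEn, hEnil, hkE, hCE⟩ := fixed_of_kernel ρ F hnil hC
  obtain ⟨W, hW⟩ := exists_free_aux H _ E (Nat.lt_succ_self _) hEn hEnil hkE
    (fun h hh h1 e he hcomm => FrobeniusBasic.kernel_inter e
      (FrobeniusBasic.centralizer_le hH hh h1 (Subgroup.mem_centralizer_singleton_iff.2 hcomm.symm))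
      (hker.symm ▸ hEF he)) V ρ hCE
  exact ⟨W, isInternal ρ H W hW⟩

end modules

end Cfsg.Agent.FrobeniusFree
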