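/-
Minimal counterexamples to "nilpotent-by-C" for solvable groups with a fixed-point-free coprime
group of operators.
-/
import Mathlib
import Cfsg.Agent.Lib.FrobeniusThompson
import Cfsg.Agent.Lib.FrobeniusNilpotent
import Cfsg.Agent.Lib.CoprimeAction
import Cfsg.Agent.Lib.CoprimeTools
import Cfsg.Agent.Lib.ComponentsFitting

open scoped Pointwise commutatorElement

namespace Cfsg.Agent.FrobeniusFitting

universe u v

open Cfsg.Agent Cfsg.Agent.CoprimeAction

/-- A class of groups closed under subgroups, images and finite products. -/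
structure Closed (C : ∀ (T : Type u) [Group T], Prop) : Prop where
  of_injective : ∀ (S T : Type u) [Group S] [Group T] [Finite T] (f : S →* T),
    Function.Injective f → C T → C S
  of_surjective : ∀ (S T : Type u) [Group S] [Group T] [Finite S] (f : S →* T),
    Function.Surjective f → C S → C T
  prod : ∀ (S T : Type u) [Group S] [Group T] [Finite S] [Finite T], C S → C T → C (S × T)

theorem closed_nilpotent : Closed.{u} (fun T _ => Group.IsNilpotent T) where
  of_injective S T _ _ _ f hf hT := by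
    have := hT
    exact Subgroup.isNilpotent_of_ker_le_center f (by rw [f.ker_eq_bot_iff.2 hf]; exact bot_le)
  of_surjective S T _ _ _ f hf hS := by
    have := hS
    exact Group.nilpotent_of_surjective f hf
  prod S T := fun hS hT => by
    have := hS
    have := hT
    exact Group.isNilpotent_prod

theorem closed_comm : Closed.{u} (fun T _ => IsMulCommutative T) where
  of_injective S T _ _ _ f hf hT := ⟨⟨fun a b => hf (by rw [map_mul, map_mul]; exact hT.1.1 _ _)⟩⟩
  of_surjective S T _ _ _ f hf hS := ⟨⟨fun a b => by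
    obtain ⟨x, rfl⟩ := hf a
    obtain ⟨y, rfl⟩ := hf b
    rw [← map_mul, ← map_mul, hS.1.1]⟩⟩
  prod _ _ := fun hS hT => ⟨⟨fun a b => Prod.ext (hS.1.1 _ _) (hT.1.1 _ _)⟩⟩

/-- An extension of a nilpotent group by a group in `C`. -/
def NilBy (C : ∀ (T : Type u) [Group T], Prop) (G : Type u) [Group G] : Prop :=
  ∃ (N : Subgroup G) (_ : N.Normal), Group.IsNilpotent N ∧ C (G ⧸ N)

variable {C : ∀ (T : Type u) [Group T], Prop}

theorem le_normalizer_of_normal {G : Type*} [Group G] (W : Subgroup G) [W.Normal]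
    (X : Subgroup G) : X ≤ Subgroup.normalizer (W : Set G) := by
  rw [Subgroup.normalizer_eq_top]; exact le_top

theorem NilBy.fitting (hC : Closed C) {G : Type u} [Group G] [Finite G] (h : NilBy C G) :
    Group.IsNilpotent (Cfsg.fittingSubgroup G) ∧ C (G ⧸ Cfsg.fittingSubgroup G) := by
  obtain ⟨N, hN, hnil, hq⟩ := h
  refine ⟨inferInstance, hC.of_surjective _ _
    (QuotientGroup.map N (Cfsg.fittingSubgroup G) (MonoidHom.id G) ?_) ?_ hq⟩
  · intro x hx
    exact ComponentsCores.le_fitting hnil hx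
  · intro x
    obtain ⟨g, rfl⟩ := QuotientGroup.mk_surjective x
    exact ⟨(g : G ⧸ N), rfl⟩

theorem NilBy.of_injective (hC : Closed C) {S T : Type u} [Group S] [Group T] [Finite T]
    (f : S →* T) (hf : Function.Injective f) (h : NilBy C T) : NilBy C S := by
  obtain ⟨N, hN, hnil, hq⟩ := h
  refine ⟨N.comap f, inferInstance, ?_, hC.of_injective _ _
    (QuotientGroup.map (N.comap f) N f le_rfl) ?_ hq⟩
  · exact closed_nilpotent.of_injective _ _ (f.subgroupComap N)
      (fun a b e => Subtype.ext (hf (congrArg Subtype.val e))) hnil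
  · rw [injective_iff_map_eq_one]
    intro x hx
    obtain ⟨g, rfl⟩ := QuotientGroup.mk_surjective x
    rw [QuotientGroup.map_mk, QuotientGroup.eq_one_iff] at hx
    exact (QuotientGroup.eq_one_iff _).2 hx

theorem NilBy.prod (hC : Closed C) {S T : Type u} [Group S] [Group T] [Finite S] [Finite T]
    (hS : NilBy C S) (hT : NilBy C T) : NilBy C (S × T) := by
  obtain ⟨N, hN, hnil, hq⟩ := hS
  obtain ⟨M, hM, hnil', hq'⟩ := hT
  refine ⟨N.prod M, inferInstance, ?_, hC.of_injective _ _
    (QuotientGroup.lift (N.prod M)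
      ((QuotientGroup.mk' N).prodMap (QuotientGroup.mk' M)) ?_) ?_ (hC.prod _ _ hq hq')⟩
  · exact closed_nilpotent.of_injective _ _ (N.prodEquiv M).toMonoidHom (N.prodEquiv M).injective
      (closed_nilpotent.prod _ _ hnil hnil')
  · rintro ⟨a, b⟩ h
    exact Prod.ext ((QuotientGroup.eq_one_iff a).2 h.1) ((QuotientGroup.eq_one_iff b).2 h.2)
  · rw [injective_iff_map_eq_one]
    intro x hx
    obtain ⟨⟨a, b⟩, rfl⟩ := QuotientGroup.mk_surjective x
    refine (QuotientGroup.eq_one_iff _).2 ⟨?_, ?_⟩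
    · exact (QuotientGroup.eq_one_iff a).1 (congrArg Prod.fst hx)
    · exact (QuotientGroup.eq_one_iff b).1 (congrArg Prod.snd hx)

theorem NilBy.of_subsingleton (hC : Closed C) (hone : C PUnit) {G : Type u} [Group G] [Finite G]
    (h : Group.IsNilpotent G) : NilBy C G := by
  refine ⟨⊤, inferInstance, closed_nilpotent.of_surjective G (⊤ : Subgroup G)
    (Subgroup.topEquiv (G := G)).symm.toMonoidHom (Subgroup.topEquiv (G := G)).symm.surjective h, ?_⟩
  have : Subsingleton (G ⧸ (⊤ : Subgroup G)) := QuotientGroup.subsingleton_quotient_top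
  exact hC.of_injective _ _ (1 : (G ⧸ (⊤ : Subgroup G)) →* PUnit)
    (fun a b _ => Subsingleton.elim a b) hone

/-- `ι` makes `A₀` act coprimely and fixed-point-freely on the solvable normal subgroup `K`. -/
structure Acts {A₀ : Type v} [Group A₀] {Γ : Type u} [Group Γ] (K : Subgroup Γ) (ι : A₀ →* Γ) :
    Prop where
  top : K ⊔ ι.range = ⊤
  normal : K.Normal
  coprime : (Nat.card A₀).Coprime (Nat.card K)
  solv : Group.IsSolvable K
  fpf : ∀ x ∈ K, (∀ a, ι a * x = x * ι a) → x = 1

section acts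

variable {A₀ : Type v} [Group A₀] [Finite A₀] {Γ : Type u} [Group Γ] {K : Subgroup Γ} {ι : A₀ →* Γ}

theorem Acts.coprime_range (h : Acts K ι) : (Nat.card ι.range).Coprime (Nat.card K) :=
  h.coprime.coprime_dvd_left (Subgroup.card_range_dvd ι)

theorem Acts.inf_centralizer (h : Acts K ι) :
    K ⊓ Subgroup.centralizer (ι.range : Set Γ) = ⊥ := by
  rw [Subgroup.eq_bot_iff_forall]
  rintro x ⟨hx, hc⟩
  exact h.fpf x hx fun a => hc (ι a) ⟨a, rfl⟩

theorem Acts.range_le (h : Acts K ι) (L : Subgroup Γ) [L.Normal] :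
    ι.range ≤ Subgroup.normalizer (L : Set Γ) := by
  rw [Subgroup.normalizer_eq_top]; exact le_top

/-- The action restricted to an invariant subgroup. -/
theorem Acts.subgroup [Finite Γ] (h : Acts K ι) {L : Subgroup Γ} (hL : L ≤ K)
    (hAL : ι.range ≤ Subgroup.normalizer (L : Set Γ)) :
    Acts (L.subgroupOf (L ⊔ ι.range))
      (ι.codRestrict (L ⊔ ι.range) fun a => Subgroup.mem_sup_right ⟨a, rfl⟩) where
  top := by
    have hr : (ι.codRestrict (L ⊔ ι.range) fun a => Subgroup.mem_sup_right ⟨a, rfl⟩).range =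
        ι.range.subgroupOf (L ⊔ ι.range) := by
      ext x
      constructor
      · rintro ⟨a, rfl⟩
        exact ⟨a, rfl⟩
      · rintro ⟨a, ha⟩
        exact ⟨a, Subtype.ext ha⟩
    rw [hr, ← Subgroup.subgroupOf_sup le_sup_left le_sup_right, Subgroup.subgroupOf_self]
  normal := Subgroup.normal_subgroupOf_of_le_normalizer (sup_le Subgroup.le_normalizer hAL)
  coprime := by
    rw [Nat.card_congr (Subgroup.subgroupOfEquivOfLe (le_sup_left : L ≤ L ⊔ ι.range)).toEquiv]
    exact h.coprime.coprime_dvd_right (Subgroup.card_dvd_of_le hL)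
  solv := by
    have := h.solv
    have := isSolvable_of_le hL
    exact Group.isSolvable_of_surjective
      (f := (Subgroup.subgroupOfEquivOfLe (le_sup_left : L ≤ L ⊔ ι.range)).symm.toMonoidHom)
      (Subgroup.subgroupOfEquivOfLe (le_sup_left : L ≤ L ⊔ ι.range)).symm.surjective
  fpf := fun x hx hc => Subtype.ext
    (h.fpf x (hL hx) fun a => congrArg Subtype.val (hc a))

/-- The action on a quotient. -/
theorem Acts.quotient [Finite Γ] (h : Acts K ι) (V : Subgroup Γ) [V.Normal] :
    Acts (K.map (QuotientGroup.mk' V)) ((QuotientGroup.mk' V).comp ι) where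
  top := by
    rw [MonoidHom.range_comp, ← Subgroup.map_sup, h.top,
      Subgroup.map_top_of_surjective _ (QuotientGroup.mk'_surjective V)]
  normal := h.normal.map _ (QuotientGroup.mk'_surjective V)
  coprime := h.coprime.coprime_dvd_right (Subgroup.card_map_dvd K _)
  solv := by
    have := h.solv
    exact Group.isSolvable_of_surjective ((QuotientGroup.mk' V).subgroupMap_surjective K)
  fpf := fun x hx hc => by
    have := h.normal
    have hm := map_inf_centralizer_eq (A := ι.range) (K := K) (QuotientGroup.mk' V)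
      (h.range_le K) h.coprime_range (Or.inr h.solv)
    rw [h.inf_centralizer, Subgroup.map_bot] at hm
    have hx' : x ∈ K.map (QuotientGroup.mk' V) ⊓
        Subgroup.centralizer (ι.range.map (QuotientGroup.mk' V) : Set (Γ ⧸ V)) := by
      refine ⟨hx, ?_⟩
      show x ∈ Subgroup.centralizer _
      rw [Subgroup.mem_centralizer_iff]
      rintro _ ⟨_, ⟨a, rfl⟩, rfl⟩
      exact hc a
    rw [← hm, Subgroup.mem_bot] at hx'
    exact hx'

end acts

/-- The configuration of a minimal counterexample. -/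
structure Config (C : ∀ (T : Type u) [Group T], Prop) {A₀ : Type v} [Group A₀] {Γ : Type u}
    [Group Γ] (K : Subgroup Γ) (ι : A₀ →* Γ) (V H : Subgroup Γ) (r : ℕ) : Prop where
  prime : r.Prime
  V_le : V ≤ K
  H_le : H ≤ K
  V_normal : V.Normal
  H_inv : ι.range ≤ Subgroup.normalizer (H : Set Γ)
  disjoint : V ⊓ H = ⊥
  span : V ⊔ H = K
  V_comm : ∀ x ∈ V, ∀ y ∈ V, x * y = y * x
  V_pgroup : IsPGroup r V
  V_ne : V ≠ ⊥
  V_min : ∀ W ≤ V, H ≤ Subgroup.normalizer (W : Set Γ) →
    ι.range ≤ Subgroup.normalizer (W : Set Γ) → W = ⊥ ∨ W = V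
  faithful : H ⊓ Subgroup.centralizer (V : Set Γ) = ⊥
  not_mem : ¬ C H
  good : NilBy C H
  sub : ∀ L ≤ H, L ≠ H → ι.range ≤ Subgroup.normalizer (L : Set Γ) →
    ∃ (N : Subgroup L) (_ : N.Normal), IsPGroup r N ∧ C (L ⧸ N)
  core : ∀ R ≤ H, IsPGroup r R → H ≤ Subgroup.normalizer (R : Set Γ) →
    ι.range ≤ Subgroup.normalizer (R : Set Γ) → R = ⊥

section reduction

variable {A₀ : Type v} [Group A₀] [Finite A₀] {Γ : Type u} [Group Γ] [Finite Γ] {K : Subgroup Γ}
  {ι : A₀ →* Γ}

theorem normal_of_le_normalizer (h : Acts K ι) {W : Subgroup Γ}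
    (hK : K ≤ Subgroup.normalizer (W : Set Γ)) (hA : ι.range ≤ Subgroup.normalizer (W : Set Γ)) :
    W.Normal :=
  Subgroup.normalizer_eq_top_iff.1 (top_le_iff.1 (h.top ▸ sup_le hK hA))

theorem exists_minimal (h : Acts K ι) (hK : K ≠ ⊥) :
    ∃ (V : Subgroup Γ) (r : ℕ), r.Prime ∧ V ≤ K ∧ V ≠ ⊥ ∧ V.Normal ∧
      (∀ x ∈ V, ∀ y ∈ V, x * y = y * x) ∧ IsPGroup r V ∧
      ∀ W ≤ V, W.Normal → W = ⊥ ∨ W = V := by
  obtain ⟨V, ⟨hVK, hVne, hVn⟩, hVmin⟩ := Set.exists_min_image
    {W : Subgroup Γ | W ≤ K ∧ W ≠ ⊥ ∧ W.Normal} (fun W => Nat.card W) (Set.toFinite _)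
    ⟨K, le_rfl, hK, h.normal⟩
  have hmin : ∀ W ≤ V, W.Normal → W = ⊥ ∨ W = V := by
    intro W hW hn
    by_cases hb : W = ⊥
    · exact Or.inl hb
    · exact Or.inr (Subgroup.eq_of_le_of_card_ge hW (hVmin W ⟨hW.trans hVK, hb, hn⟩))
  have hVc : ∀ x ∈ V, ∀ y ∈ V, x * y = y * x := by
    have := h.solv
    have : Group.IsSolvable V := isSolvable_of_le hVK
    have : Nontrivial V := (Subgroup.nontrivial_iff_ne_bot V).2 hVne
    have hlt := Group.IsSolvable.commutator_lt_top_of_nontrivial V
    rcases hmin ⁅V, V⁆ (Subgroup.commutator_le_self V) inferInstance with hb | ht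
    · intro x hx y hy
      exact commutatorElement_eq_one_iff_mul_comm.1
        (Subgroup.mem_bot.1 (hb ▸ Subgroup.commutator_mem_commutator hx hy))
    · exfalso
      apply hlt.ne
      apply Subgroup.map_injective V.subtype_injective
      rw [Subgroup.map_subtype_commutator, ht, ← MonoidHom.range_eq_map, Subgroup.range_subtype]
  obtain ⟨r, hr, hrd⟩ := Nat.exists_prime_and_dvd (n := Nat.card V)
    (fun e => hVne (Subgroup.card_eq_one.1 e))
  have := Fact.mk hr
  let V₁ : Subgroup Γ :=
    { carrier := {x | x ∈ V ∧ x ^ r = 1}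
      one_mem' := ⟨one_mem _, one_pow _⟩
      mul_mem' := fun {x y} hx hy => ⟨mul_mem hx.1 hy.1, by
        rw [(show Commute x y from hVc x hx.1 y hy.1).mul_pow, hx.2, hy.2, one_mul]⟩
      inv_mem' := fun {x} hx => ⟨inv_mem hx.1, by rw [inv_pow, hx.2, inv_one]⟩ }
  have hV₁n : V₁.Normal := ⟨fun x hx g => ⟨hVn.conj_mem x hx.1 g, by
    rw [conj_pow, hx.2, mul_one, mul_inv_cancel]⟩⟩
  have hV₁ : V₁ = V := by
    rcases hmin V₁ (fun x hx => hx.1) hV₁n with hb | ht
    · exfalso
      obtain ⟨x, hx⟩ := exists_prime_orderOf_dvd_card' (G := V) r hrd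
      have hxm : (x : Γ) ∈ V₁ := ⟨x.2, by
        rw [← hx, Subgroup.orderOf_coe x |>.symm, pow_orderOf_eq_one]⟩
      rw [hb, Subgroup.mem_bot] at hxm
      have : x = 1 := Subtype.ext hxm
      rw [this, orderOf_one] at hx
      exact hr.ne_one hx.symm
    · exact ht
  refine ⟨V, r, hr, hVK, hVne, hVn, hVc, fun x => ⟨1, Subtype.ext ?_⟩, hmin⟩
  have : (x : Γ) ∈ V₁ := by rw [hV₁]; exact x.2
  rw [pow_one]
  exact this.2

theorem exists_config (hC : Closed C) (hone : C PUnit) (h : Acts K ι) (hbad : ¬ NilBy C K)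
    (hsub : ∀ L ≤ K, L ≠ K → ι.range ≤ Subgroup.normalizer (L : Set Γ) → NilBy C L)
    (hquot : ∀ (W : Subgroup Γ) [W.Normal], W ≤ K → W ≠ ⊥ →
      NilBy C (K.map (QuotientGroup.mk' W))) :
    ∃ (V H : Subgroup Γ) (r : ℕ), Config C K ι V H r := by
  classical
  have hKne : K ≠ ⊥ := fun e => hbad (NilBy.of_subsingleton hC hone
    (have : Subsingleton K := by rw [e]; infer_instance
     Group.isNilpotent_of_subsingleton))
  obtain ⟨V, r, hr, hVK, hVne, hVn, hVc, hVr, hmin⟩ := exists_minimal h hKne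
  have := Fact.mk hr
  have := hVn
  have := h.normal
  -- `V` is the unique minimal normal subgroup below `K`
  have huniq : ∀ W : Subgroup Γ, W ≤ K → W ≠ ⊥ → W.Normal → V ≤ W := by
    intro W hWK hWne hWn
    have := hWn
    rcases hmin (V ⊓ W) inf_le_left inferInstance with hb | ht
    · exfalso
      apply hbad
      refine NilBy.of_injective hC
        (((QuotientGroup.mk' V).subgroupMap K).prod ((QuotientGroup.mk' W).subgroupMap K)) ?_
        (NilBy.prod hC (hquot V hVK hVne) (hquot W hWK hWne))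
      rw [injective_iff_map_eq_one]
      intro x hx
      have h1 : ((x : Γ) : Γ ⧸ V) = 1 := congrArg Subtype.val (congrArg Prod.fst hx)
      have h2 : ((x : Γ) : Γ ⧸ W) = 1 := congrArg Subtype.val (congrArg Prod.snd hx)
      rw [QuotientGroup.eq_one_iff] at h1 h2
      have h3 : (x : Γ) ∈ V ⊓ W := ⟨h1, h2⟩
      rw [hb, Subgroup.mem_bot] at h3
      exact Subtype.ext h3
    · exact ht ▸ inf_le_right
  set f := QuotientGroup.mk' V with hf
  have hsurj : Function.Surjective f := QuotientGroup.mk'_surjective V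
  have hKf : NilBy C (K.map f) := hquot V hVK hVne
  obtain ⟨hFnil, hFq⟩ := hKf.fitting hC
  set F := Cfsg.fittingSubgroup (K.map f)
  have hKbn : (K.map f).Normal := h.normal.map f hsurj
  set Nb := F.map (K.map f).subtype with hNb
  have hNbn : Nb.Normal := inferInstance
  have hNbnil : Group.IsNilpotent Nb :=
    closed_nilpotent.of_surjective _ _ (F.equivMapOfInjective _ (K.map f).subtype_injective).toMonoidHom
      (F.equivMapOfInjective _ (K.map f).subtype_injective).surjective hFnil
  set N := Nb.comap f with hN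
  have hNn : N.Normal := hNbn.comap f
  have hVN : V ≤ N := fun x hx => by
    show f x ∈ Nb
    rw [hf, QuotientGroup.mk'_apply, (QuotientGroup.eq_one_iff x).2 hx]
    exact one_mem _
  have hNK : N ≤ K := by
    calc N ≤ (K.map f).comap f := Subgroup.comap_mono (Subgroup.map_subtype_le _)
      _ = K := by rw [Subgroup.comap_map_eq, hf, QuotientGroup.ker_mk', sup_eq_left.2 hVK]
  have hNnot : ¬ Group.IsNilpotent N := by
    intro hnil
    apply hbad
    refine ⟨N.subgroupOf K, inferInstance, closed_nilpotent.of_injective _ _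
      (Subgroup.subgroupOfEquivOfLe hNK).toMonoidHom (Subgroup.subgroupOfEquivOfLe hNK).injective
      hnil, ?_⟩
    refine hC.of_injective _ _
      (QuotientGroup.map (N.subgroupOf K) F (f.subgroupMap K) ?_) ?_ hFq
    · intro x hx
      obtain ⟨y, hy, hyx⟩ := (hx : f (x : Γ) ∈ Nb)
      show f.subgroupMap K x ∈ F
      rwa [show f.subgroupMap K x = y from Subtype.ext hyx.symm]
    · rw [injective_iff_map_eq_one]
      intro x hx
      obtain ⟨g, rfl⟩ := QuotientGroup.mk_surjective x
      rw [QuotientGroup.map_mk, QuotientGroup.eq_one_iff] at hx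
      exact (QuotientGroup.eq_one_iff _).2 ⟨_, hx, rfl⟩
  have hNfnil : Group.IsNilpotent (N.map f) := by
    rw [hN, Subgroup.map_comap_eq_self_of_surjective hsurj]
    exact hNbnil
  -- a `q`-subgroup whose image is normal, not centralising `V`
  obtain ⟨q, hq, hqr, Q, hQN, hQq, hQinv, hQnc, hQn⟩ : ∃ q : ℕ, q.Prime ∧ q ≠ r ∧
      ∃ Q : Subgroup Γ, Q ≤ N ∧ IsPGroup q Q ∧ ι.range ≤ Subgroup.normalizer (Q : Set Γ) ∧
        ¬ Q ≤ Subgroup.centralizer (V : Set Γ) ∧ (Q.map f).Normal := by
    by_contra hno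
    apply hNnot
    have hNr : ∀ q : ℕ, q.Prime → q ≠ r → ¬ q ∣ Nat.card N := by
      intro q hq hqr hqd
      have := Fact.mk hq
      obtain ⟨P, hP⟩ := exists_invariant_sylow (A := ι.range) (K := N) (h.range_le N)
        (coprime_of_le_right hNK h.coprime_range) (isSolvable_or_of_le hNK (Or.inr h.solv)) q
      set Q := (P : Subgroup N).map N.subtype with hQ
      have hQN : Q ≤ N := Subgroup.map_subtype_le _
      have hQq : IsPGroup q Q := P.isPGroup'.map _
      have hQne : Q ≠ ⊥ := fun e => by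
        have := card_map_sylow P
        rw [← hQ, e, Subgroup.card_bot] at this
        exact absurd this.symm (Nat.one_lt_pow
          ((hq.dvd_iff_one_le_factorization Nat.card_pos.ne').1 hqd |>.trans_lt' one_pos |>.ne')
          hq.one_lt).ne'
      let T := P.mapSurjective (f.subgroupMap_surjective N)
      have hTn : (T : Subgroup (N.map f)).Normal :=
        Sylow.normal_of_normalizerCondition Group.normalizerCondition_of_isNilpotent T
      have : (T : Subgroup (N.map f)).Characteristic := T.characteristic_of_normal hTn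
      have hQf : Q.map f = (T : Subgroup (N.map f)).map (N.map f).subtype := by
        rw [hQ, show (T : Subgroup (N.map f)) = (P : Subgroup N).map (f.subgroupMap N) from rfl,
          Subgroup.map_map, Subgroup.map_map]
        rfl
      have hNfn : (N.map f).Normal := hNn.map f hsurj
      have hQfn : (Q.map f).Normal := hQf ▸ inferInstance
      by_cases hQc : Q ≤ Subgroup.centralizer (V : Set Γ)
      · have hQn : Q.Normal := by
          refine ⟨fun x hx g => ?_⟩
          obtain ⟨u, hu, hux⟩ := hQfn.conj_mem (f x) ⟨x, hx, rfl⟩ (f g)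
          rw [← map_inv, ← map_mul, ← map_mul, hf, QuotientGroup.mk'_apply, QuotientGroup.mk'_apply,
            QuotientGroup.eq] at hux
          have hc : Commute u (u⁻¹ * (g * x * g⁻¹)) := (hQc hu _ hux).symm
          obtain ⟨k, hk⟩ := hQq ⟨x, hx⟩
          obtain ⟨l, hl⟩ := hQq ⟨u, hu⟩
          have hk' : x ^ q ^ k = 1 := congrArg Subtype.val hk
          have hl' : u ^ q ^ l = 1 := congrArg Subtype.val hl
          have hv : (u⁻¹ * (g * x * g⁻¹)) ^ q ^ (k + l) = 1 := by
            have h1 := hc.mul_pow (q ^ (k + l))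
            rw [mul_inv_cancel_left, conj_pow, pow_add q, pow_mul, hk', one_pow, mul_one,
              mul_inv_cancel, mul_comm (q ^ k), pow_mul u, hl', one_pow, one_mul] at h1
            rw [pow_add q, mul_comm]
            exact h1.symm
          obtain ⟨m, hm⟩ := hVr ⟨_, hux⟩
          have hm' : (u⁻¹ * (g * x * g⁻¹)) ^ r ^ m = 1 := congrArg Subtype.val hm
          have h1 : u⁻¹ * (g * x * g⁻¹) = 1 := orderOf_eq_one_iff.1
            (Nat.eq_one_of_dvd_coprimes (((Nat.coprime_primes hq hr).2 hqr).pow (k + l) m)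
              (orderOf_dvd_of_pow_eq_one hv) (orderOf_dvd_of_pow_eq_one hm'))
          rw [inv_mul_eq_one] at h1
          exact h1 ▸ hu
        have hVQ := huniq Q (hQN.trans hNK) hQne hQn
        exact hVne ((IsPGroup.disjoint_of_ne r q (Ne.symm hqr) V Q hVr hQq).eq_bot_of_le hVQ)
      · exact hno ⟨q, hq, hqr, Q, hQN, hQq, hP, hQc, hQfn⟩
    refine IsPGroup.isNilpotent (p := r) (IsPGroup.of_card (n := (Nat.card N).primeFactorsList.length) ?_)
    exact Nat.eq_prime_pow_of_unique_prime_dvd Nat.card_pos.ne' fun {d} hd1 hd2 =>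
      by_contra fun hne => hNr d hd1 hne hd2
  have := Fact.mk hq
  have hVq : ¬ q ∣ Nat.card V := by
    intro hd
    obtain ⟨k, hk⟩ := IsPGroup.iff_card.1 hVr
    rw [hk] at hd
    exact hqr ((Nat.prime_dvd_prime_iff_eq hq hr).1 (hq.dvd_of_dvd_pow hd))
  -- Frattini
  have hfr : ∀ x : Γ, ∃ y ∈ Subgroup.normalizer (Q : Set Γ), y⁻¹ * x ∈ V := by
    intro x
    have hx : f x ∈ Subgroup.normalizer (Q.map f : Set (Γ ⧸ V)) := by
      rw [Subgroup.normalizer_eq_top]; trivial
    obtain ⟨y, hy, hyx⟩ := FrobeniusThompson.exists_mem_normalizer_of_map V hVq hQq hx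
    exact ⟨y, hy, QuotientGroup.eq.1 hyx⟩
  have hCVQ : V ⊓ Subgroup.centralizer (Q : Set Γ) = ⊥ := by
    refine (hmin _ inf_le_left ⟨fun w hw g => ⟨hVn.conj_mem w hw.1 g, ?_⟩⟩).resolve_right
      fun e => hQnc fun x hx v hv => (((le_of_eq e.symm).trans inf_le_right) hv x hx).symm
    obtain ⟨y, hy, hyx⟩ := hfr g
    have e : g * w * g⁻¹ = y * w * y⁻¹ := by
      calc g * w * g⁻¹ = y * ((y⁻¹ * g) * w * (y⁻¹ * g)⁻¹) * y⁻¹ := by group
        _ = _ := by rw [hVc _ hyx w hw.1, mul_inv_cancel_right]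
    rw [e]
    intro z hz
    have hz' : y⁻¹ * z * y ∈ Q := (Subgroup.mem_normalizer_iff''.1 hy z).1 hz
    calc z * (y * w * y⁻¹) = y * ((y⁻¹ * z * y) * w) * y⁻¹ := by group
      _ = y * (w * (y⁻¹ * z * y)) * y⁻¹ := by rw [hw.2 _ hz']
      _ = y * w * y⁻¹ * z := by group
  have hdisj : V ⊓ Subgroup.normalizer (Q : Set Γ) = ⊥ := by
    rw [eq_bot_iff]
    rintro v ⟨hv, hvn⟩
    rw [← hCVQ]
    refine ⟨hv, fun u hu => ?_⟩
    have h1 : v * u * v⁻¹ * u⁻¹ ∈ V ⊓ Q := by
      refine ⟨?_, mul_mem ((Subgroup.mem_normalizer_iff.1 hvn u).1 hu) (Q.inv_mem hu)⟩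
      have := mul_mem hv (hVn.conj_mem _ (inv_mem hv) u)
      simpa [mul_assoc] using this
    rw [(IsPGroup.disjoint_of_ne r q (Ne.symm hqr) V Q hVr hQq).eq_bot, Subgroup.mem_bot,
      ← commutatorElement_def] at h1
    exact (commutatorElement_eq_one_iff_mul_comm.1 h1).symm
  set H := K ⊓ Subgroup.normalizer (Q : Set Γ) with hH
  have hHK : H ≤ K := inf_le_left
  have hVH : V ⊓ H = ⊥ := eq_bot_iff.2 (le_trans (inf_le_inf_left V inf_le_right) hdisj.le)
  have hspan : V ⊔ H = K := by
    refine le_antisymm (sup_le hVK hHK) fun x hx => ?_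
    obtain ⟨y, hy, hyx⟩ := hfr x
    have hyK : y ∈ K := by
      have := mul_mem hx (inv_mem (hVK hyx))
      simpa using this
    have : x = y * (y⁻¹ * x) := by group
    rw [this]
    exact mul_mem (Subgroup.mem_sup_right ⟨hyK, hy⟩) (Subgroup.mem_sup_left hyx)
  have hHA : ι.range ≤ Subgroup.normalizer (H : Set Γ) :=
    le_normalizer_inf (h.range_le K) (hQinv.trans Subgroup.le_normalizer)
  have hVnorm : V ≤ Subgroup.centralizer (V : Set Γ) := fun x hx y hy => hVc y hy x hx
  have hnormal : ∀ W : Subgroup Γ, H ≤ Subgroup.normalizer (W : Set Γ) →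
      V ≤ Subgroup.normalizer (W : Set Γ) → ι.range ≤ Subgroup.normalizer (W : Set Γ) → W.Normal :=
    fun W h1 h2 h3 => normal_of_le_normalizer h (hspan ▸ sup_le h2 h1) h3
  have hfaith : H ⊓ Subgroup.centralizer (V : Set Γ) = ⊥ := by
    by_contra hne
    have hn : (H ⊓ Subgroup.centralizer (V : Set Γ)).Normal := by
      refine hnormal _ ?_ ?_ ?_
      · exact le_normalizer_inf Subgroup.le_normalizer
          (le_normalizer_of_normal (Subgroup.centralizer (V : Set Γ)) H)
      · exact fun v hv => Subgroup.centralizer_le_normalizer _ fun y hy => (hy.2 v hv).symm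
      · exact le_normalizer_inf hHA (h.range_le _)
    exact hVne ((le_inf le_rfl ((huniq _ (inf_le_left.trans hHK) hne hn).trans inf_le_left)).trans
      hVH.le |> le_bot_iff.1)
  refine ⟨V, H, r, hr, hVK, hHK, hVn, hHA, hVH, hspan, hVc, hVr, hVne, ?_, hfaith, ?_, ?_, ?_, ?_⟩
  · intro W hW h1 h2
    exact hmin W hW (hnormal W h1
      (fun v hv => Subgroup.centralizer_le_normalizer _ fun y hy => hVc y (hW hy) v hv) h2)
  · intro hCH
    apply hbad
    refine ⟨V.subgroupOf K, inferInstance, closed_nilpotent.of_injective _ _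
      (Subgroup.subgroupOfEquivOfLe hVK).toMonoidHom (Subgroup.subgroupOfEquivOfLe hVK).injective
      hVr.isNilpotent, ?_⟩
    refine hC.of_surjective _ _
      ((QuotientGroup.mk' (V.subgroupOf K)).comp (Subgroup.inclusion hHK)) ?_ hCH
    intro x
    obtain ⟨k, rfl⟩ := QuotientGroup.mk_surjective x
    obtain ⟨v, hv, w, hw, hvw⟩ := Subgroup.mem_sup_of_normal_left.1 (hspan.symm ▸ k.2 :
      (k : Γ) ∈ V ⊔ H)
    refine ⟨⟨w, hw⟩, QuotientGroup.eq.2 ?_⟩
    rw [Subgroup.mem_subgroupOf]
    show w⁻¹ * (k : Γ) ∈ V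
    rw [← hvw]
    exact hVn.conj_mem' v hv w |> fun h => by simpa [mul_assoc] using h
  · refine NilBy.of_injective hC ((f.subgroupMap K).comp (Subgroup.inclusion hHK)) ?_ hKf
    rw [injective_iff_map_eq_one]
    intro x hx
    have h1 : ((x : Γ) : Γ ⧸ V) = 1 := congrArg Subtype.val hx
    rw [QuotientGroup.eq_one_iff] at h1
    have h2 : (x : Γ) ∈ V ⊓ H := ⟨h1, x.2⟩
    rw [hVH, Subgroup.mem_bot] at h2
    exact Subtype.ext h2
  · intro L hL hne hLA
    have hM : V ⊔ L ≠ K := by
      intro e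
      refine hne (le_antisymm hL fun x hx => ?_)
      obtain ⟨v, hv, l, hl, rfl⟩ := Subgroup.mem_sup_of_normal_left.1 (e.symm ▸ hHK hx : x ∈ V ⊔ L)
      have hvH : v ∈ V ⊓ H := ⟨hv, by
        have := mul_mem hx (inv_mem (hL hl))
        simpa using this⟩
      rw [hVH, Subgroup.mem_bot] at hvH
      rwa [hvH, one_mul]
    have hMA : ι.range ≤ Subgroup.normalizer ((V ⊔ L : Subgroup Γ) : Set Γ) := fun a ha =>
      mem_normalizer_of_conj_smul_eq (by
        rw [Subgroup.smul_sup, CoprimeSZ.conj_smul_eq_self (hLA ha),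
          CoprimeSZ.conj_smul_eq_self (h.range_le V ha)])
    obtain ⟨hnil, hq'⟩ := (hsub _ (sup_le hVK (hL.trans hHK)) hM hMA).fitting hC
    set M := V ⊔ L
    have hVF : V.subgroupOf M ≤ Cfsg.fittingSubgroup M :=
      ComponentsCores.le_fitting (closed_nilpotent.of_injective _ _
        (Subgroup.subgroupOfEquivOfLe (le_sup_left : V ≤ M)).toMonoidHom
        (Subgroup.subgroupOfEquivOfLe (le_sup_left : V ≤ M)).injective hVr.isNilpotent)
    set i : L →* M := Subgroup.inclusion (le_sup_right : L ≤ V ⊔ L) with hi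
    refine ⟨(Cfsg.fittingSubgroup M).comap i, inferInstance, ?_, hC.of_injective _ _
      (QuotientGroup.map _ (Cfsg.fittingSubgroup M) i le_rfl) ?_ hq'⟩
    · intro x
      obtain ⟨k, m, hm, hkm⟩ := Nat.exists_eq_pow_mul_and_not_dvd (orderOf_pos x).ne' r hr.ne_one
      refine ⟨k, ?_⟩
      set y := x ^ r ^ k with hy
      have hord : (orderOf ((y : L) : Γ)).Coprime r := by
        rw [Nat.coprime_comm, hr.coprime_iff_not_dvd]
        intro hd
        have h1 : y ^ m = 1 := by rw [hy, ← pow_mul, ← hkm, pow_orderOf_eq_one]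
        apply hm
        refine hd.trans ?_
        rw [Subgroup.orderOf_coe, Subgroup.orderOf_coe]
        exact orderOf_dvd_of_pow_eq_one h1
      have hyc : ((y : L) : Γ) ∈ H ⊓ Subgroup.centralizer (V : Set Γ) := by
        refine ⟨hL (y : L).2, fun v hv => ?_⟩
        have h1 := FrobeniusNilpotent.commute_of_coprime (G := Cfsg.fittingSubgroup M)
          ⟨⟨v, le_sup_left (b := L) hv⟩, hVF hv⟩ ⟨i (y : L), y.2⟩ (by
            obtain ⟨j, hj⟩ := hVr ⟨v, hv⟩
            refine Nat.Coprime.coprime_dvd_left (k := r ^ j) (orderOf_dvd_of_pow_eq_one ?_) ?_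
            · exact Subtype.ext (Subtype.ext (by simpa using congrArg Subtype.val hj))
            · refine Nat.Coprime.pow_left j (Nat.Coprime.symm ?_)
              rw [← Subgroup.orderOf_coe, ← Subgroup.orderOf_coe]
              exact hord)
        exact congrArg (fun z : Cfsg.fittingSubgroup M => ((z : M) : Γ)) h1
      rw [hfaith, Subgroup.mem_bot] at hyc
      exact Subtype.ext (Subtype.ext hyc)
    · rw [injective_iff_map_eq_one]
      intro x hx
      obtain ⟨g, rfl⟩ := QuotientGroup.mk_surjective x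
      rw [QuotientGroup.map_mk, QuotientGroup.eq_one_iff] at hx
      exact (QuotientGroup.eq_one_iff _).2 hx
  · intro R hR hRr hHR hAR
    by_contra hne
    obtain ⟨d, hd, hd1, hdfix⟩ := FrobeniusThompson.exists_fixed hRr hVr
      (le_normalizer_of_normal V R) hVne
    have hW : V ⊓ Subgroup.centralizer (R : Set Γ) = V := by
      refine (hmin _ inf_le_left (hnormal _ ?_ ?_ ?_)).resolve_left fun e => ?_
      · exact le_normalizer_inf (le_normalizer_of_normal V H)
          (CoprimeTools.le_normalizer_centralizer_of_le hHR)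
      · exact fun v hv => Subgroup.centralizer_le_normalizer _ fun y hy => hVc y hy.1 v hv
      · exact le_normalizer_inf (h.range_le V) (CoprimeTools.le_normalizer_centralizer_of_le hAR)
      · apply hd1
        rw [← Subgroup.mem_bot, ← e]
        exact ⟨hd, fun b hb => mul_inv_eq_iff_eq_mul.1 (hdfix b hb)⟩
    apply hne
    rw [eq_bot_iff, ← hfaith]
    exact le_inf hR fun x hx v hv => ((hW.symm.le.trans inf_le_right) hv x hx).symm

/-- If no configuration exists then every such group is nilpotent-by-`C`. -/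
theorem nilBy_of_no_config (hC : Closed C) (hone : C PUnit) {A₀ : Type v} [Group A₀] [Finite A₀]
    (hno : ∀ (Δ : Type u) [Group Δ] [Finite Δ] (L : Subgroup Δ) (κ : A₀ →* Δ), Acts L κ →
      ∀ (V H : Subgroup Δ) (r : ℕ), Config C L κ V H r → False)
    {Δ : Type u} [Group Δ] [Finite Δ] {L : Subgroup Δ} {κ : A₀ →* Δ} (h : Acts L κ) :
    NilBy C L := by
  suffices key : ∀ (n : ℕ) (Δ : Type u) [Group Δ] [Finite Δ] (L : Subgroup Δ) (κ : A₀ →* Δ),
      Nat.card L < n → Acts L κ → NilBy C L from
    key _ Δ L κ (Nat.lt_succ_self _) h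
  intro n
  induction n with
  | zero => intro _ _ _ _ _ hn; omega
  | succ n ih =>
    intro Δ _ _ L κ hn h
    by_contra hbad
    obtain ⟨V, H, r, hcfg⟩ := exists_config hC hone h hbad (fun M hM hne hMA => by
      have hlt : Nat.card M < Nat.card L := by
        refine lt_of_le_of_ne (Subgroup.card_le_of_le hM) fun e => hne ?_
        exact Subgroup.eq_of_le_of_card_ge hM e.ge
      have hc := Nat.card_congr (Subgroup.subgroupOfEquivOfLe (le_sup_left : M ≤ M ⊔ κ.range)).toEquiv
      exact NilBy.of_injective hC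
        (Subgroup.subgroupOfEquivOfLe (le_sup_left : M ≤ M ⊔ κ.range)).symm.toMonoidHom
        (Subgroup.subgroupOfEquivOfLe (le_sup_left : M ≤ M ⊔ κ.range)).symm.injective
        (ih _ _ _ (by omega) (h.subgroup hM hMA)))
      (fun W hWn hW hWne => by
        have hc : Nat.card (L.map (QuotientGroup.mk' W)) < Nat.card L := by
          refine lt_of_le_of_ne (Nat.le_of_dvd Nat.card_pos (Subgroup.card_map_dvd L _)) fun e => ?_
          have hinj : Function.Injective ((QuotientGroup.mk' W).subgroupMap L) :=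
            (Nat.bijective_iff_surjective_and_card _ |>.2
              ⟨MonoidHom.subgroupMap_surjective _ L, e.symm⟩).1
          apply hWne
          rw [Subgroup.eq_bot_iff_forall]
          intro w hw
          have := hinj (a₁ := ⟨w, hW hw⟩) (a₂ := 1) (Subtype.ext ((QuotientGroup.eq_one_iff w).2 hw))
          exact congrArg Subtype.val this
        exact ih _ _ _ (by omega) (h.quotient W))
    exact hno Δ L κ h V H r hcfg

end reduction

end Cfsg.Agent.FrobeniusFitting
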