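/-
Structure of a minimal non-nilpotent-by-nilpotent configuration, translates of fixed points, and
Ward's theorem on fixed-point-free elementary abelian groups of order `p²`.
-/
import Mathlib
import Cfsg.Agent.Lib.FrobeniusFitting
import Cfsg.Agent.Lib.CoprimeGen
import Cfsg.Agent.Lib.CoprimeTools

open scoped Pointwise commutatorElement

namespace Cfsg.Agent.FrobeniusWard

universe u v

open Cfsg.Agent Cfsg.Agent.CoprimeAction Cfsg.Agent.FrobeniusFitting

variable {G : Type*} [Group G]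

/-- The elements normalising `X` that act trivially on `Q` modulo `X`. -/
def kerSub (Q X : Subgroup G) : Subgroup G where
  carrier := {e | e ∈ Subgroup.normalizer (X : Set G) ∧ ∀ q ∈ Q, q * e * q⁻¹ * e⁻¹ ∈ X}
  one_mem' := ⟨one_mem _, fun q _ => by simp⟩
  mul_mem' := by
    rintro e e' ⟨he, hq⟩ ⟨he', hq'⟩
    refine ⟨mul_mem he he', fun q hqQ => ?_⟩
    have h1 : q * (e * e') * q⁻¹ * (e * e')⁻¹ =
        (q * e * q⁻¹ * e⁻¹) * (e * (q * e' * q⁻¹ * e'⁻¹) * e⁻¹) := by group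
    rw [h1]
    exact mul_mem (hq q hqQ) ((Subgroup.mem_normalizer_iff.1 he _).1 (hq' q hqQ))
  inv_mem' := by
    rintro e ⟨he, hq⟩
    refine ⟨inv_mem he, fun q hqQ => ?_⟩
    have h1 : q * e⁻¹ * q⁻¹ * e⁻¹⁻¹ = e⁻¹ * (q * e * q⁻¹ * e⁻¹)⁻¹ * e := by group
    rw [h1]
    exact (Subgroup.mem_normalizer_iff''.1 he _).1 (inv_mem (hq q hqQ))

theorem mem_kerSub {Q X : Subgroup G} {e : G} :
    e ∈ kerSub Q X ↔ e ∈ Subgroup.normalizer (X : Set G) ∧ ∀ q ∈ Q, q * e * q⁻¹ * e⁻¹ ∈ X :=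
  Iff.rfl

theorem conj_mem_kerSub {Q X : Subgroup G} {e r : G} (he : e ∈ kerSub Q X)
    (hrQ : r ∈ Subgroup.normalizer (Q : Set G)) (hrX : r ∈ Subgroup.normalizer (X : Set G)) :
    r * e * r⁻¹ ∈ kerSub Q X := by
  refine ⟨mul_mem (mul_mem hrX he.1) (inv_mem hrX), fun q hq => ?_⟩
  have hq' : r⁻¹ * q * r ∈ Q := (Subgroup.mem_normalizer_iff''.1 hrQ q).1 hq
  have h1 : q * (r * e * r⁻¹) * q⁻¹ * (r * e * r⁻¹)⁻¹ =
      r * ((r⁻¹ * q * r) * e * (r⁻¹ * q * r)⁻¹ * e⁻¹) * r⁻¹ := by group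
  rw [h1]
  exact conj_mem hrX (he.2 _ hq')

/-- The conjugate of `kerSub` is the `kerSub` of the conjugate. -/
theorem conj_mem_kerSub_smul {Q X : Subgroup G} {e r : G} (he : e ∈ kerSub Q X)
    (hrQ : r ∈ Subgroup.normalizer (Q : Set G)) :
    r * e * r⁻¹ ∈ kerSub Q (MulAut.conj r • X) := by
  refine ⟨mem_normalizer_of_conj_smul_eq ?_, fun q hq => ?_⟩
  · rw [← CoprimeSZ.conj_smul_mul, inv_mul_cancel_right, CoprimeSZ.conj_smul_mul,
      CoprimeSZ.conj_smul_eq_self he.1]
  · have hq' : r⁻¹ * q * r ∈ Q := (Subgroup.mem_normalizer_iff''.1 hrQ q).1 hq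
    have h1 : q * (r * e * r⁻¹) * q⁻¹ * (r * e * r⁻¹)⁻¹ =
        r * ((r⁻¹ * q * r) * e * (r⁻¹ * q * r)⁻¹ * e⁻¹) * r⁻¹ := by group
    rw [h1]
    exact CoprimeSZ.conj_mul_mem_conj_smul (he.2 _ hq')

theorem isMaximal_conj {Z X : Subgroup G} {g : G} (hg : g ∈ Subgroup.normalizer (Z : Set G))
    (hmax : ∀ Y, X ≤ Y → Y ≤ Z → Y = X ∨ Y = Z) :
    ∀ Y, MulAut.conj g • X ≤ Y → Y ≤ Z → Y = MulAut.conj g • X ∨ Y = Z := by
  intro Y h1 h2
  have hg' : MulAut.conj g⁻¹ • Z = Z := CoprimeSZ.conj_smul_eq_self (inv_mem hg)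
  have e : ∀ W : Subgroup G, MulAut.conj g • MulAut.conj g⁻¹ • W = W := fun W => by
    rw [← CoprimeSZ.conj_smul_mul, mul_inv_cancel, map_one, one_smul]
  rcases hmax (MulAut.conj g⁻¹ • Y) (by
      intro x hx
      rw [CoprimeSZ.mem_conj_smul, inv_inv]
      exact h1 (CoprimeSZ.conj_mul_mem_conj_smul hx))
    (hg' ▸ (Subgroup.pointwise_smul_le_pointwise_smul_iff.2 h2)) with h | h
  · exact Or.inl (by rw [← h, e])
  · exact Or.inr (by rw [← e Y, h, CoprimeSZ.conj_smul_eq_self hg])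

/-- **Translates of fixed points.** If `b` does not act trivially on `Z/X` for a maximal subgroup
`X` of the abelian group `Z`, then the `Z`-translates of `C_V(b)` generate a group containing
`C_V(X)`. -/
theorem le_of_translates [Finite G] {V Z X U : Subgroup G} {b : G} {p : ℕ} (hp : p.Prime)
    (hbp : b ^ p = 1) (hV : ∀ x ∈ V, ∀ y ∈ V, x * y = y * x)
    (hZ : ∀ x ∈ Z, ∀ y ∈ Z, x * y = y * x) (hXZ : X ≤ Z)
    (hmax : ∀ Y, X ≤ Y → Y ≤ Z → Y = X ∨ Y = Z)
    (hZV : Z ≤ Subgroup.normalizer (V : Set G)) (hbV : b ∈ Subgroup.normalizer (V : Set G))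
    (hbZ : b ∈ Subgroup.normalizer (Z : Set G)) (hcop : (Nat.card Z).Coprime (Nat.card V))
    (hCV : V ⊓ Subgroup.centralizer (Z : Set G) = ⊥) (hb : b ∉ kerSub Z X)
    (hU : ∀ z ∈ Z, ∀ v ∈ V, b * v = v * b → z * v * z⁻¹ ∈ U) :
    V ⊓ Subgroup.centralizer (X : Set G) ≤ U := by
  classical
  rintro v₀ ⟨hv₀, hv₀X⟩
  have := Fintype.ofFinite Z
  set B := Subgroup.zpowers b with hB
  have := Fintype.ofFinite B
  have hBV : B ≤ Subgroup.normalizer (V : Set G) := Subgroup.zpowers_le.2 hbV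
  have hBZ : B ≤ Subgroup.normalizer (Z : Set G) := Subgroup.zpowers_le.2 hbZ
  let _ : CommGroup V := { (inferInstance : Group V) with
    mul_comm := fun a b => Subtype.ext (hV a a.2 b b.2) }
  let c : ↥(Subgroup.normalizer (V : Set G)) → V →* V := fun g =>
    { toFun := fun v => ⟨(g : G) * v * (g : G)⁻¹, conj_mem g.2 v.2⟩
      map_one' := Subtype.ext (by simp)
      map_mul' := fun a b => Subtype.ext (by simp [mul_assoc]) }
  have hc : ∀ g v, ((c g v : V) : G) = (g : G) * v * (g : G)⁻¹ := fun _ _ => rfl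
  let zn : Z → ↥(Subgroup.normalizer (V : Set G)) := fun z => ⟨z, hZV z.2⟩
  let bn : B → ↥(Subgroup.normalizer (V : Set G)) := fun e => ⟨e, hBV e.2⟩
  set v : V := ⟨v₀, hv₀⟩ with hv
  -- the double product lies in `U`
  have hPU : ((∏ z : Z, ∏ e : B, c (zn z * bn e * (zn z)⁻¹) v : V) : G) ∈ U := by
    let U' : Subgroup V := U.subgroupOf V
    suffices h : (∏ z : Z, ∏ e : B, c (zn z * bn e * (zn z)⁻¹) v : V) ∈ U' from h
    refine U'.prod_mem fun z _ => ?_
    set u := c (zn z)⁻¹ v with hu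
    have h1 : (∏ e : B, c (zn z * bn e * (zn z)⁻¹) v) = c (zn z) (∏ e : B, c (bn e) u) := by
      rw [map_prod]
      refine Finset.prod_congr rfl fun e _ => Subtype.ext ?_
      rw [hu, hc, hc, hc, hc]
      simp [zn, bn, mul_assoc]
    rw [h1]
    show ((c (zn z) _ : V) : G) ∈ U
    rw [hc]
    refine hU z z.2 _ (Subtype.prop _) ?_
    have h2 : c (bn ⟨b, Subgroup.mem_zpowers b⟩) (∏ e : B, c (bn e) u) = ∏ e : B, c (bn e) u := by
      rw [map_prod]
      refine Fintype.prod_equiv (Equiv.mulLeft (⟨b, Subgroup.mem_zpowers b⟩ : B)) _ _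
        fun e => Subtype.ext ?_
      simp [hc, bn, mul_assoc]
    exact mul_inv_eq_iff_eq_mul.1 (congrArg Subtype.val h2)
  -- the nontrivial `b`-terms vanish
  have hrest : ∀ e : B, e ≠ 1 → (∏ z : Z, c (zn z * bn e * (zn z)⁻¹) v) = 1 := by
    intro e he
    have hbe : b ∈ Subgroup.zpowers (e : G) := by
      have hd : orderOf b ∣ p := orderOf_dvd_of_pow_eq_one hbp
      have hb1 : b ≠ 1 := fun e1 => hb (e1 ▸ one_mem _)
      have hob : orderOf b = p := ((Nat.dvd_prime hp).1 hd).resolve_left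
        (fun h => hb1 (orderOf_eq_one_iff.1 h))
      have := Fact.mk hp
      have hcard : Nat.card B = p := by rw [hB, Nat.card_zpowers, hob]
      obtain ⟨k, hk⟩ := mem_zpowers_of_prime_card (g := e) (g' := ⟨b, Subgroup.mem_zpowers b⟩) hcard he
      exact ⟨k, congrArg Subtype.val hk⟩
    have hfmem : ∀ z : Z, (z : G) * e * (z : G)⁻¹ * (e : G)⁻¹ ∈ Z := fun z => by
      have := mul_mem z.2 ((Subgroup.mem_normalizer_iff.1 (hBZ e.2) _).1 (inv_mem z.2))
      simpa [mul_assoc] using this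
    let f : Z →* Z := MonoidHom.mk' (fun z => ⟨_, hfmem z⟩) fun y z => Subtype.ext (by
      show (y : G) * z * e * ((y : G) * z)⁻¹ * (e : G)⁻¹ =
        ((y : G) * e * (y : G)⁻¹ * (e : G)⁻¹) * ((z : G) * e * (z : G)⁻¹ * (e : G)⁻¹)
      have h1 : (y : G) * z * e * ((y : G) * z)⁻¹ * (e : G)⁻¹ =
          (y : G) * (((z : G) * e * (z : G)⁻¹ * (e : G)⁻¹) * (e * (y : G)⁻¹ * (e : G)⁻¹)) := by
        group
      have h2 : (e : G) * (y : G)⁻¹ * (e : G)⁻¹ ∈ Z :=
        (Subgroup.mem_normalizer_iff.1 (hBZ e.2) _).1 (inv_mem y.2)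
      rw [h1, hZ _ (hfmem z) _ h2]
      group)
    set w := c (bn e) v with hw
    have hterm : ∀ z : Z, c (zn z * bn e * (zn z)⁻¹) v = c (zn (f z)) w := fun z => Subtype.ext (by
      rw [hw, hc, hc, hc]
      simp [zn, bn, f, mul_assoc])
    rw [Finset.prod_congr rfl fun z _ => hterm z]
    set x := ∏ z : Z, c (zn (f z)) w with hx
    set Y := MulAut.conj (e : G) • X with hY
    have hYZ : Y ≤ Z := CoprimeSZ.conj_smul_eq_self (hBZ e.2) ▸
      Subgroup.pointwise_smul_le_pointwise_smul_iff.2 hXZ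
    have hfix : ∀ (y : G) (hy : y ∈ Z), (y ∈ Y ∨ ∃ z, (f z : G) = y) →
        c (zn ⟨y, hy⟩) x = x := by
      intro y hy hy'
      rw [hx, map_prod]
      rcases hy' with hyY | ⟨z, rfl⟩
      · refine Finset.prod_congr rfl fun z _ => Subtype.ext ?_
        rw [hY, CoprimeSZ.mem_conj_smul] at hyY
        have h3 := hv₀X _ hyY
        simp only [hw, hc, zn, bn, hv]
        have h4 : y * (f z : G) = (f z : G) * y := hZ y hy _ (f z).2
        calc y * ((f z : G) * ((e : G) * v₀ * (e : G)⁻¹) * (f z : G)⁻¹) * y⁻¹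
            = (y * (f z : G)) * ((e : G) * v₀ * (e : G)⁻¹) * (y * (f z : G))⁻¹ := by group
          _ = (f z : G) * (e * ((e : G)⁻¹ * y * e * v₀) * ((e : G)⁻¹ * y * e)⁻¹ * (e : G)⁻¹) *
              (f z : G)⁻¹ := by rw [h4]; group
          _ = _ := by
            rw [show (e : G)⁻¹ * y * e * v₀ = v₀ * ((e : G)⁻¹ * y * e) by
              simpa [mul_assoc] using h3]
            group
      · refine Fintype.prod_equiv (Equiv.mulLeft z) _ _ fun z' => Subtype.ext ?_
        simp [hc, zn, mul_assoc]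
    -- the elements fixing `x`
    let S : Subgroup G :=
      { carrier := {y | y ∈ Z ∧ y * (x : G) = (x : G) * y}
        one_mem' := ⟨one_mem _, by simp⟩
        mul_mem' := fun {a a'} ha ha' => ⟨mul_mem ha.1 ha'.1, by
          rw [mul_assoc, ha'.2, ← mul_assoc, ha.2, mul_assoc]⟩
        inv_mem' := fun {a} ha => ⟨inv_mem ha.1, by
          rw [inv_mul_eq_iff_eq_mul, ← mul_assoc, ha.2, mul_inv_cancel_right]⟩ }
    have hS : ∀ (y : G) (hy : y ∈ Z), (y ∈ Y ∨ ∃ z, (f z : G) = y) → y ∈ S := fun y hy h' =>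
      ⟨hy, mul_inv_eq_iff_eq_mul.1 (congrArg Subtype.val (hfix y hy h'))⟩
    rcases isMaximal_conj (hBZ e.2) hmax S (fun y hy => hS y (hYZ hy) (Or.inl hy))
      (fun y hy => hy.1) with hS' | hS'
    · exfalso
      apply hb
      have hsub : ∀ z : Z, (f z : G) ∈ Y := fun z => hY ▸ hS' ▸ hS _ (f z).2 (Or.inr ⟨z, rfl⟩)
      have hen : (e : G) ∈ Subgroup.normalizer (Y : Set G) := by
        refine mem_normalizer_of_conj_smul_eq (Subgroup.eq_of_le_of_card_ge ?_
          (CoprimeSZ.card_conj_smul _ _).ge)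
        intro y hy
        rw [CoprimeSZ.mem_conj_smul] at hy
        have h5 := hsub ⟨_, hYZ hy⟩
        have h6 := Y.mul_mem (Y.inv_mem hy) h5
        have h7 : ((e : G)⁻¹ * y * (e : G))⁻¹ * ((f ⟨_, hYZ hy⟩ : Z) : G) = y⁻¹ := by
          simp [f, mul_assoc]
        rw [h7] at h6
        exact inv_mem_iff.1 h6
      have hYX : Y = X := by
        have h8 := CoprimeSZ.conj_smul_eq_self hen
        rw [hY] at h8 ⊢
        exact smul_left_cancel _ h8
      have he' : (e : G) ∈ kerSub Z X := ⟨hYX ▸ hen, fun z hz => hYX ▸ hsub ⟨z, hz⟩⟩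
      exact (Subgroup.zpowers_le.2 he') hbe
    · have hxC : (x : G) ∈ V ⊓ Subgroup.centralizer (Z : Set G) :=
        ⟨x.2, fun y hy => ((hS'.symm.le hy : y ∈ S)).2⟩
      rw [hCV, Subgroup.mem_bot] at hxC
      exact Subtype.ext hxC
  rw [Finset.prod_comm, Finset.prod_eq_single 1 (fun e _ he => hrest e he) (by simp)] at hPU
  have h1 : (∏ z : Z, c (zn z * bn 1 * (zn z)⁻¹) v) = v ^ Nat.card Z := by
    rw [Nat.card_eq_fintype_card, ← Finset.card_univ, ← Finset.prod_const]
    exact Finset.prod_congr rfl fun z _ => Subtype.ext (by simp [hc, zn, bn])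
  rw [h1] at hPU
  have h2 : v ∈ Subgroup.zpowers (v ^ Nat.card Z) :=
    mem_zpowers_pow_iff.2 (hcop.coprime_dvd_right (orderOf_dvd_natCard v))
  obtain ⟨k, hk⟩ := h2
  have := U.zpow_mem hPU k
  rw [← Subgroup.coe_zpow] at this
  simp only at hk
  rwa [hk] at this

section structure_lemma

variable {A₀ : Type v} [Group A₀] {Γ : Type u} [Group Γ] [Finite Γ]
  {K : Subgroup Γ} {ι : A₀ →* Γ} {V H : Subgroup Γ} {r : ℕ}

/-- What `exists_QR` produces. -/
structure QR (ι : A₀ →* Γ) (H Q R : Subgroup Γ) (r q s : ℕ) : Prop where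
  q_prime : q.Prime
  s_prime : s.Prime
  q_ne : q ≠ r
  ne : q ≠ s
  Q_le : Q ≤ H
  R_le : R ≤ H
  Q_pgroup : IsPGroup q Q
  R_pgroup : IsPGroup s R
  Q_inv : ι.range ≤ Subgroup.normalizer (Q : Set Γ)
  R_inv : ι.range ≤ Subgroup.normalizer (R : Set Γ)
  Q_normal : H ≤ Subgroup.normalizer (Q : Set Γ)
  span : Q ⊔ R = H
  not_le : ¬ R ≤ Subgroup.centralizer (Q : Set Γ)
  Q_min : ∀ Q₀ ≤ Q, Q₀ ≠ Q → R ≤ Subgroup.normalizer (Q₀ : Set Γ) →
    ι.range ≤ Subgroup.normalizer (Q₀ : Set Γ) → R ≤ Subgroup.centralizer (Q₀ : Set Γ)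
  R_min : ∀ R₀ ≤ R, R₀ ≠ R → ι.range ≤ Subgroup.normalizer (R₀ : Set Γ) →
    R₀ ≤ Subgroup.centralizer (Q : Set Γ)

/-- The minimal non-nilpotent complement is a product of two Sylow subgroups. -/
theorem exists_QR [Finite A₀] (h : Acts K ι)
    (hc : Config (fun T _ => Group.IsNilpotent T) K ι V H r) :
    ∃ (Q R : Subgroup Γ) (q s : ℕ), QR ι H Q R r q s := by
  classical
  have hH := hc.not_mem
  have := h.solv
  have := isSolvable_of_le hc.H_le
  obtain ⟨hFnil, hFq⟩ := hc.good.fitting closed_nilpotent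
  set F := Cfsg.fittingSubgroup H
  set f := QuotientGroup.mk' F
  have hsurj : Function.Surjective f := QuotientGroup.mk'_surjective F
  have hAH := hc.H_inv
  have hcopH : (Nat.card ι.range).Coprime (Nat.card H) := coprime_of_le_right hc.H_le h.coprime_range
  have hsH : Group.IsSolvable ι.range ∨ Group.IsSolvable H :=
    Or.inr this
  -- normal Sylow subgroups of `F`
  have hQ : ∀ q : ℕ, q.Prime → ∀ T : Sylow q F,
      H ≤ Subgroup.normalizer ((((T : Subgroup F).map F.subtype).map H.subtype : Subgroup Γ) : Set Γ) ∧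
      ι.range ≤ Subgroup.normalizer ((((T : Subgroup F).map F.subtype).map H.subtype : Subgroup Γ) : Set Γ) := by
    intro q hq T
    have := Fact.mk hq
    have hTn : (T : Subgroup F).Normal :=
      Sylow.normal_of_normalizerCondition Group.normalizerCondition_of_isNilpotent T
    have : (T : Subgroup F).Characteristic := T.characteristic_of_normal hTn
    have hch : ((T : Subgroup F).map F.subtype).Characteristic := inferInstance
    constructor
    · have : ((T : Subgroup F).map F.subtype).Normal := inferInstance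
      intro x hx
      have h1 := Subgroup.le_normalizer_map (H := (T : Subgroup F).map F.subtype) H.subtype
      refine h1 ⟨⟨x, hx⟩, ?_, rfl⟩
      rw [Subgroup.normalizer_eq_top]; trivial
    · intro a ha
      have hle : ι.range ≤ Subgroup.normalizer (H : Set Γ) := hAH
      refine mem_normalizer_of_conj_smul_eq ?_
      let φ : MulAut H := MulEquiv.ofBijective
        ((((MulAut.conj a).toMonoidHom).comp H.subtype).codRestrict H fun x => conj_mem (hle ha) x.2)
        (Finite.injective_iff_bijective.1 fun x y e =>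
          Subtype.ext ((MulAut.conj a).injective (congrArg Subtype.val e)))
      have h1 := Subgroup.characteristic_iff_map_eq.1 hch φ
      rw [CoprimeSZ.conj_smul_eq_map]
      conv_rhs => rw [← h1]
      rw [Subgroup.map_map, Subgroup.map_map, Subgroup.map_map, Subgroup.map_map]
      congr 1
  -- invariant Sylow subgroups of `H` and a non-commuting pair
  obtain ⟨q, s, hq, hs, hqs, T, P, hP, hnc⟩ : ∃ q s : ℕ, q.Prime ∧ s.Prime ∧ q ≠ s ∧
      ∃ (T : Sylow q F) (P : Sylow s H),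
        ι.range ≤ Subgroup.normalizer ((P : Subgroup H).map H.subtype : Set Γ) ∧
        ¬ (P : Subgroup H) ≤ Subgroup.centralizer (((T : Subgroup F).map F.subtype : Subgroup H) : Set H) := by
    by_contra hno
    apply hH
    refine ((Group.isNilpotent_of_finite_tfae (G := H)).out 0 3).2 fun s hs P₀ => ?_
    have := hs
    obtain ⟨P, hP⟩ := exists_invariant_sylow hAH hcopH hsH s
    suffices hPn : (P : Subgroup H).Normal by
      have : Unique (Sylow s H) := Sylow.unique_of_normal P hPn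
      rw [Subsingleton.elim P₀ P]
      exact hPn
    have hFP : F ≤ Subgroup.normalizer ((P : Subgroup H) : Set H) := by
      have hd : Nat.card F ∣ Nat.card ((Subgroup.normalizer ((P : Subgroup H) : Set H)).subgroupOf F) := by
        refine (Nat.dvd_iff_prime_pow_dvd_dvd _ _).mpr fun q k hq hd => ?_
        have := Fact.mk hq
        obtain ⟨T⟩ := (inferInstance : Nonempty (Sylow q F))
        refine (T.pow_dvd_card_of_pow_dvd_card hd).trans (Subgroup.card_dvd_of_le ?_)
        intro x hx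
        by_cases hqs : q = s
        · subst hqs
          have hTn : (T : Subgroup F).Normal :=
            Sylow.normal_of_normalizerCondition Group.normalizerCondition_of_isNilpotent T
          have : (T : Subgroup F).Characteristic := T.characteristic_of_normal hTn
          have hn : ((T : Subgroup F).map F.subtype).Normal := inferInstance
          exact Subgroup.le_normalizer
            (((HallCore.le_pCore (T.isPGroup'.map F.subtype)).trans (HallCore.pCore_le_sylow P))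
              ⟨x, hx, rfl⟩)
        · refine Subgroup.centralizer_le_normalizer _ fun y hy => ?_
          by_contra hne
          exact hno ⟨q, s, hq, hs.out, hqs, T, P, hP, fun hle => hne (hle hy _ ⟨x, hx, rfl⟩).symm⟩
      exact Subgroup.subgroupOf_eq_top.1
        ((Subgroup.card_eq_iff_eq_top _).1 (Nat.dvd_antisymm (Subgroup.card_subgroup_dvd_card _) hd))
    have hPf : ((P : Subgroup H).map f).Normal :=
      Sylow.normal_of_normalizerCondition Group.normalizerCondition_of_isNilpotent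
        (P.mapSurjective hsurj)
    set M := ((P : Subgroup H).map f).comap f with hM
    have hMn : M.Normal := hPf.comap f
    have hPM : (P : Subgroup H) ≤ M := Subgroup.le_comap_map f _
    have hMle : M ≤ Subgroup.normalizer ((P : Subgroup H) : Set H) := by
      rw [hM, Subgroup.comap_map_eq, QuotientGroup.ker_mk']
      exact sup_le Subgroup.le_normalizer hFP
    have hn' : ((P : Subgroup H).subgroupOf M).Normal :=
      Subgroup.normal_subgroupOf_of_le_normalizer hMle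
    have hch : ((P.subtype hPM : Sylow s M) : Subgroup M).Characteristic :=
      (P.subtype hPM).characteristic_of_normal hn'
    have h2 : (((P : Subgroup H).subgroupOf M).map M.subtype).Normal := by
      have : ((P : Subgroup H).subgroupOf M).Characteristic := hch
      infer_instance
    rwa [Subgroup.map_subgroupOf_eq_of_le hPM] at h2
  have := Fact.mk hq
  have := Fact.mk hs
  set Q := (((T : Subgroup F).map F.subtype).map H.subtype : Subgroup Γ) with hQdef
  set R := (P : Subgroup H).map H.subtype with hRdef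
  obtain ⟨hQH', hQA⟩ := hQ q hq T
  have hQH : Q ≤ H := Subgroup.map_subtype_le _
  have hRH : R ≤ H := Subgroup.map_subtype_le _
  have hQq : IsPGroup q Q := (T.isPGroup'.map _).map _
  have hRs : IsPGroup s R := P.isPGroup'.map _
  have hnc' : ¬ R ≤ Subgroup.centralizer (Q : Set Γ) := by
    intro hle
    refine hnc fun x hx y hy => Subtype.ext ?_
    exact hle ⟨x, hx, rfl⟩ _ ⟨y, hy, rfl⟩
  have hqr : q ≠ r := by
    intro e
    subst e
    have := hc.core Q hQH hQq hQH' hQA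
    apply hnc'
    rw [this]
    intro x _ y hy
    rw [Subgroup.mem_bot.1 hy, one_mul, mul_one]
  -- proper invariant subgroups are centralised
  have hsub : ∀ L ≤ H, L ≠ H → ι.range ≤ Subgroup.normalizer (L : Set Γ) →
      ∀ Q₀ R₀ : Subgroup Γ, Q₀ ≤ Q → R₀ ≤ R → Q₀ ≤ L → R₀ ≤ L →
        R₀ ≤ Subgroup.normalizer (Q₀ : Set Γ) → R₀ ≤ Subgroup.centralizer (Q₀ : Set Γ) := by
    intro L hL hne hLA Q₀ R₀ hQ₀ hR₀ hQL hRL hn x hx y hy
    obtain ⟨N, hN, hNr, hNnil⟩ := hc.sub L hL hne hLA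
    have := hNnil
    have hcy : (orderOf (QuotientGroup.mk' N ⟨y, hQL hy⟩)).Coprime
        (orderOf (QuotientGroup.mk' N ⟨x, hRL hx⟩)) := by
      refine Nat.Coprime.of_dvd (orderOf_map_dvd _ _) (orderOf_map_dvd _ _) ?_
      rw [Subgroup.orderOf_mk, Subgroup.orderOf_mk]
      obtain ⟨i, hi⟩ := hQq ⟨y, hQ₀ hy⟩
      obtain ⟨j, hj⟩ := hRs ⟨x, hR₀ hx⟩
      refine Nat.Coprime.of_dvd (orderOf_dvd_of_pow_eq_one (congrArg Subtype.val hi))
        (orderOf_dvd_of_pow_eq_one (congrArg Subtype.val hj)) ?_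
      exact ((Nat.coprime_primes hq hs).2 hqs).pow i j
    have h1 := FrobeniusNilpotent.commute_of_coprime _ _ hcy
    rw [← commutatorElement_eq_one_iff_mul_comm, ← map_commutatorElement, QuotientGroup.mk'_apply,
      QuotientGroup.eq_one_iff] at h1
    obtain ⟨k, hk⟩ := hNr ⟨_, h1⟩
    have hk' : (y * x * y⁻¹ * x⁻¹) ^ r ^ k = 1 := by
      have := congrArg (fun z : N => ((z : L) : Γ)) hk
      simpa [commutatorElement_def] using this
    have hmem : y * x * y⁻¹ * x⁻¹ ∈ Q₀ := by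
      have := mul_mem hy ((Subgroup.mem_normalizer_iff.1 (hn hx) _).1 (inv_mem hy))
      simpa [mul_assoc] using this
    obtain ⟨i, hi⟩ := hQq ⟨_, hQ₀ hmem⟩
    have h2 : y * x * y⁻¹ * x⁻¹ = 1 := orderOf_eq_one_iff.1
      (Nat.eq_one_of_dvd_coprimes (((Nat.coprime_primes hq hc.prime).2 hqr).pow i k)
        (orderOf_dvd_of_pow_eq_one (congrArg Subtype.val hi)) (orderOf_dvd_of_pow_eq_one hk'))
    rw [← commutatorElement_def] at h2
    exact commutatorElement_eq_one_iff_mul_comm.1 h2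
  have hsupA : ∀ W W' : Subgroup Γ, ι.range ≤ Subgroup.normalizer (W : Set Γ) →
      ι.range ≤ Subgroup.normalizer (W' : Set Γ) →
      ι.range ≤ Subgroup.normalizer ((W ⊔ W' : Subgroup Γ) : Set Γ) := fun W W' h1 h2 a ha =>
    mem_normalizer_of_conj_smul_eq (by
      rw [Subgroup.smul_sup, CoprimeSZ.conj_smul_eq_self (h1 ha),
        CoprimeSZ.conj_smul_eq_self (h2 ha)])
  have hspan : Q ⊔ R = H := by
    by_contra hne
    exact hnc' (hsub _ (sup_le hQH hRH) hne (hsupA _ _ hQA hP) Q R le_rfl le_rfl le_sup_left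
      le_sup_right (hRH.trans hQH'))
  have hdisj : Q ⊓ R = ⊥ := (IsPGroup.disjoint_of_ne q s hqs Q R hQq hRs).eq_bot
  refine ⟨Q, R, q, s, hq, hs, hqr, hqs, hQH, hRH, hQq, hRs, hQA, hP, hQH', hspan, hnc', ?_, ?_⟩
  · intro Q₀ hQ₀ hne hR hA
    refine hsub (Q₀ ⊔ R) (sup_le (hQ₀.trans hQH) hRH) ?_ (hsupA _ _ hA hP) Q₀ R hQ₀ le_rfl
      le_sup_left le_sup_right hR
    intro e
    refine hne (le_antisymm hQ₀ fun x hx => ?_)
    obtain ⟨a, ha, b, hb, rfl⟩ : x ∈ (Q₀ : Set Γ) * (R : Set Γ) := by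
      rw [← Subgroup.coe_mul_of_right_le_normalizer_left Q₀ R hR, e]
      exact hQH hx
    have hb' : b ∈ Q ⊓ R := ⟨by simpa using mul_mem (inv_mem (hQ₀ ha)) hx, hb⟩
    rw [hdisj, Subgroup.mem_bot] at hb'
    simpa [hb'] using ha
  · intro R₀ hR₀ hne hA
    refine hsub (Q ⊔ R₀) (sup_le hQH (hR₀.trans hRH)) ?_ (hsupA _ _ hQA hA) Q R₀ le_rfl hR₀
      le_sup_left le_sup_right ((hR₀.trans hRH).trans hQH')
    intro e
    refine hne (le_antisymm hR₀ fun x hx => ?_)
    obtain ⟨a, ha, b, hb, rfl⟩ : x ∈ (Q : Set Γ) * (R₀ : Set Γ) := by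
      rw [← Subgroup.coe_mul_of_right_le_normalizer_left Q R₀ ((hR₀.trans hRH).trans hQH'), e]
      exact hRH hx
    have ha' : a ∈ Q ⊓ R := ⟨ha, by simpa using mul_mem hx (inv_mem (hR₀ hb))⟩
    rw [hdisj, Subgroup.mem_bot] at ha'
    simpa [ha'] using hb

end structure_lemma

section general

theorem mem_of_zpow_mem {W : Subgroup G} {g : G} {q : ℕ} (hq : q.Prime) (hgq : g ^ q = 1) {i : ℤ}
    (hi : ¬ (q : ℤ) ∣ i) (h : g ^ i ∈ W) : g ∈ W := by
  obtain ⟨u, w, huw⟩ := ((Nat.prime_iff_prime_int.1 hq).coprime_iff_not_dvd.2 hi)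
  have : g = (g ^ i) ^ w := by
    conv_lhs => rw [← zpow_one g, ← huw]
    rw [zpow_add, mul_comm u, zpow_mul, zpow_natCast, hgq, one_zpow, one_mul, mul_comm w, zpow_mul]
  rw [this]
  exact W.zpow_mem h w

theorem zpow_eq_one_of_dvd {g : G} {q : ℕ} (hgq : g ^ q = 1) {i : ℤ} (hi : (q : ℤ) ∣ i) :
    g ^ i = 1 := by
  obtain ⟨k, rfl⟩ := hi
  rw [zpow_mul, zpow_natCast, hgq, one_zpow]

variable [Finite G]

/-- A hyperplane of an elementary abelian group with nontrivial fixed points. -/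
theorem exists_maximal_fixed {V Z : Subgroup G} {q : ℕ} (hq : q.Prime)
    (hZ : ∀ x ∈ Z, ∀ y ∈ Z, x * y = y * x) (hZq : ∀ x ∈ Z, x ^ q = 1)
    (hZV : Z ≤ Subgroup.normalizer (V : Set G)) (hcop : (Nat.card Z).Coprime (Nat.card V))
    (hV : V ≠ ⊥) (hCV : V ⊓ Subgroup.centralizer (Z : Set G) = ⊥) :
    ∃ X ≤ Z, X ≠ Z ∧ (∀ Y, X ≤ Y → Y ≤ Z → Y = X ∨ Y = Z) ∧
      V ⊓ Subgroup.centralizer (X : Set G) ≠ ⊥ := by
  classical
  obtain ⟨X, ⟨hXZ, hXW⟩, hXmax⟩ := Set.exists_max_image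
    {X : Subgroup G | X ≤ Z ∧ V ⊓ Subgroup.centralizer (X : Set G) ≠ ⊥} (fun X => Nat.card X)
    (Set.toFinite _) ⟨⊥, bot_le, fun hh => hV (eq_bot_iff.2 fun x hx =>
      hh.le ⟨hx, fun y hy => by rw [Subgroup.mem_bot.1 hy, one_mul, mul_one]⟩)⟩
  refine ⟨X, hXZ, fun e => hXW (e ▸ hCV), fun Y hXY hYZ => ?_, hXW⟩
  by_contra hno
  push Not at hno
  obtain ⟨hne1, hne2⟩ := hno
  obtain ⟨a, haY, haX⟩ := SetLike.exists_of_lt (lt_of_le_of_ne hXY (Ne.symm hne1))
  obtain ⟨b, hbZ, hbY⟩ := SetLike.exists_of_lt (lt_of_le_of_ne hYZ hne2)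
  have := Fact.mk hq
  have haq := hZq a (hYZ haY)
  have hbq := hZq b hbZ
  have hab : Commute a b := hZ a (hYZ haY) b hbZ
  set P := CoprimeGen.pairSubgroup a b hab with hP
  have hPZ : P ≤ Z := CoprimeGen.pairSubgroup_le (hYZ haY) hbZ
  have hPc : IsMulCommutative P :=
    ⟨⟨fun x y => Subtype.ext (hZ x (hPZ x.2) y (hPZ y.2))⟩⟩
  have hcyc : ¬ IsCyclic P := by
    intro hcyc
    obtain ⟨g, hg⟩ := IsCyclic.exists_generator (α := P)
    obtain ⟨i, hi⟩ := hg ⟨a, CoprimeGen.left_mem_pairSubgroup a b hab⟩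
    obtain ⟨j, hj⟩ := hg ⟨b, CoprimeGen.right_mem_pairSubgroup a b hab⟩
    have hgq : (g : G) ^ q = 1 := hZq g (hPZ g.2)
    have hi' : (g : G) ^ i = a := congrArg Subtype.val hi
    have hj' : (g : G) ^ j = b := congrArg Subtype.val hj
    have hdi : ¬ (q : ℤ) ∣ i := fun hd =>
      haX (by rw [← hi', zpow_eq_one_of_dvd hgq hd]; exact one_mem _)
    exact hbY (hj' ▸ Y.zpow_mem (mem_of_zpow_mem hq hgq hdi (hi'.symm ▸ haY)) j)
  apply hXW
  rw [eq_bot_iff]
  have hC : Z ≤ Subgroup.normalizer (Subgroup.centralizer (X : Set G) : Set G) :=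
    CoprimeTools.le_normalizer_centralizer_of_le fun z hz =>
      Subgroup.centralizer_le_normalizer _ fun x hx => hZ x (hXZ hx) z hz
  refine CoprimeGen.le_of_centralizers (A := P) hcyc (hPZ.trans (le_normalizer_inf hZV hC))
    ((hcop.coprime_dvd_left (Subgroup.card_dvd_of_le hPZ)).coprime_dvd_right
      (Subgroup.card_dvd_of_le inf_le_left)) ?_
  intro e he he1
  by_contra hne
  have hle : X ⊔ Subgroup.zpowers e ≤ Z := sup_le hXZ (Subgroup.zpowers_le.2 (hPZ he))
  have hmem : V ⊓ Subgroup.centralizer ((X ⊔ Subgroup.zpowers e : Subgroup G) : Set G) ≠ ⊥ := by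
    intro e0
    refine hne fun x hx => ?_
    rw [← e0]
    have h1 : X ⊔ Subgroup.zpowers e ≤ Subgroup.centralizer ({x} : Set G) := by
      refine sup_le (fun y hy => ?_) (Subgroup.zpowers_le.2 ?_)
      · exact Subgroup.mem_centralizer_singleton_iff.2 (hx.1.2 y hy)
      · exact Subgroup.mem_centralizer_singleton_iff.2 (hx.2 e rfl)
    exact ⟨hx.1.1, fun y hy => Subgroup.mem_centralizer_singleton_iff.1 (h1 hy)⟩
  have heX : e ∈ X := by
    have h2 : X = X ⊔ Subgroup.zpowers e :=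
      Subgroup.eq_of_le_of_card_ge le_sup_left (hXmax _ ⟨hle, hmem⟩)
    rw [h2]
    exact Subgroup.mem_sup_right (Subgroup.mem_zpowers e)
  obtain ⟨i, j, hij⟩ := CoprimeGen.mem_pairSubgroup_iff.1 he
  have hbj : b ^ j ∈ Y := by
    have := Y.mul_mem (Y.inv_mem (Y.zpow_mem haY i)) (hXY (hij.symm ▸ heX : a ^ i * b ^ j ∈ X))
    rwa [inv_mul_cancel_left] at this
  have hdj : (q : ℤ) ∣ j := by
    by_contra hd
    exact hbY (mem_of_zpow_mem hq hbq hd hbj)
  rw [zpow_eq_one_of_dvd hbq hdj, mul_one] at hij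
  have hdi : (q : ℤ) ∣ i := by
    by_contra hd
    exact haX (mem_of_zpow_mem hq haq hd (hij.symm ▸ heX))
  rw [zpow_eq_one_of_dvd haq hdi] at hij
  exact he1 hij.symm

end general

section facts

variable {A₀ : Type v} [Group A₀] [Finite A₀] {Γ : Type u} [Group Γ] [Finite Γ]
  {K : Subgroup Γ} {ι : A₀ →* Γ} {V H Q R : Subgroup Γ} {r q s : ℕ}

theorem coprime_pgroups {X Y : Subgroup Γ} {q s : ℕ} (hq : q.Prime) (hs : s.Prime) (hne : q ≠ s)
    (hX : IsPGroup q X) (hY : IsPGroup s Y) : (Nat.card X).Coprime (Nat.card Y) := by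
  have := Fact.mk hq
  have := Fact.mk hs
  exact IsPGroup.coprime_card_of_ne q s hne X Y hX hY

theorem QR.commutator_eq (h : Acts K ι)
    (hc : Config (fun T _ => Group.IsNilpotent T) K ι V H r) (d : QR ι H Q R r q s) :
    ⁅Q, R⁆ = Q := by
  have := h.solv
  have hQs : Group.IsSolvable Q := isSolvable_of_le (d.Q_le.trans hc.H_le)
  have hRQ := d.R_le.trans d.Q_normal
  have hle : ⁅Q, R⁆ ≤ Q := commutator_le_self_of_le_normalizer hRQ
  by_contra hne
  have hRn : R ≤ Subgroup.normalizer ((⁅Q, R⁆ : Subgroup Γ) : Set Γ) :=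
    Subgroup.normalizer_commutator_ge_right Q R
  have hAn : ι.range ≤ Subgroup.normalizer ((⁅Q, R⁆ : Subgroup Γ) : Set Γ) :=
    CoprimeTools.le_normalizer_commutator_of_le d.Q_inv d.R_inv
  have h1 := d.Q_min _ hle hne hRn hAn
  refine d.not_le (le_centralizer_of_commutator_commutator_eq_bot hRQ
    (coprime_pgroups d.s_prime d.q_prime (Ne.symm d.ne) d.R_pgroup d.Q_pgroup) (Or.inr hQs) ?_)
  rwa [Subgroup.commutator_comm, Subgroup.commutator_eq_bot_iff_le_centralizer]

/-- The central elementary abelian subgroup used to decompose `V`. -/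
theorem QR.exists_central (h : Acts K ι)
    (hc : Config (fun T _ => Group.IsNilpotent T) K ι V H r) (d : QR ι H Q R r q s) :
    ∃ Z ≤ Q, Z ≠ ⊥ ∧ (∀ x ∈ Z, x ^ q = 1) ∧ Q ≤ Subgroup.centralizer (Z : Set Γ) ∧
      R ≤ Subgroup.normalizer (Z : Set Γ) ∧ ι.range ≤ Subgroup.normalizer (Z : Set Γ) ∧
      (R ≤ Subgroup.centralizer (Z : Set Γ) ∨
        (Z = Q ∧ Q ⊓ Subgroup.centralizer (R : Set Γ) = ⊥)) ∧
      V ⊓ Subgroup.centralizer (Z : Set Γ) = ⊥ := by
  have := h.solv
  have := Fact.mk d.q_prime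
  have := hc.V_normal
  have hQs : Group.IsSolvable Q := isSolvable_of_le (d.Q_le.trans hc.H_le)
  have hRQ := d.R_le.trans d.Q_normal
  suffices hex : ∃ Z ≤ Q, Z ≠ ⊥ ∧ (∀ x ∈ Z, x ^ q = 1) ∧ Q ≤ Subgroup.centralizer (Z : Set Γ) ∧
      R ≤ Subgroup.normalizer (Z : Set Γ) ∧ ι.range ≤ Subgroup.normalizer (Z : Set Γ) ∧
      (R ≤ Subgroup.centralizer (Z : Set Γ) ∨
        (Z = Q ∧ Q ⊓ Subgroup.centralizer (R : Set Γ) = ⊥)) by
    obtain ⟨Z, hZ, hZne, hZq, hZc, hZR, hZA, hcase⟩ := hex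
    refine ⟨Z, hZ, hZne, hZq, hZc, hZR, hZA, hcase, ?_⟩
    have hHZ : H ≤ Subgroup.normalizer (Z : Set Γ) :=
      d.span ▸ sup_le (hZc.trans (Subgroup.centralizer_le_normalizer _)) hZR
    refine (hc.V_min _ inf_le_left
      (le_normalizer_inf (le_normalizer_of_normal V H)
        (CoprimeTools.le_normalizer_centralizer_of_le hHZ))
      (le_normalizer_inf (le_normalizer_of_normal V _)
        (CoprimeTools.le_normalizer_centralizer_of_le hZA))).resolve_right fun e => hZne ?_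
    rw [eq_bot_iff, ← hc.faithful]
    exact le_inf (hZ.trans d.Q_le) fun z hz v hv =>
      (((le_of_eq e.symm).trans inf_le_right) hv z hz).symm
  by_cases hQc : Q ≤ Subgroup.centralizer (Q : Set Γ)
  · have hQm : IsMulCommutative Q := ⟨⟨fun a b => Subtype.ext (hQc b.2 a a.2)⟩⟩
    have hRQcop : (Nat.card R).Coprime (Nat.card Q) :=
      coprime_pgroups d.s_prime d.q_prime (Ne.symm d.ne) d.R_pgroup d.Q_pgroup
    let W : Subgroup Γ :=
      { carrier := {x | x ∈ Q ∧ x ^ q = 1}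
        one_mem' := ⟨one_mem _, one_pow _⟩
        mul_mem' := fun {x y} hx hy => ⟨mul_mem hx.1 hy.1, by
          rw [(show Commute x y from (hQc hy.1 x hx.1)).mul_pow, hx.2, hy.2, one_mul]⟩
        inv_mem' := fun {x} hx => ⟨inv_mem hx.1, by rw [inv_pow, hx.2, inv_one]⟩ }
    have hWn : ∀ X : Subgroup Γ, X ≤ Subgroup.normalizer (Q : Set Γ) →
        X ≤ Subgroup.normalizer (W : Set Γ) := fun X hX =>
      le_normalizer_of_conj_mem fun g hg x hx =>
        ⟨conj_mem (hX hg) hx.1, by rw [conj_pow, hx.2, mul_one, mul_inv_cancel]⟩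
    have hWQ : W = Q := by
      by_contra hne
      refine d.not_le (le_centralizer_of_prime_order_fixed hRQ hRQcop fun v hv hvp a ha => ?_)
      have hvW : v ∈ W := ⟨hv, by
        obtain ⟨k, hk⟩ := d.Q_pgroup ⟨v, hv⟩
        have hd := orderOf_dvd_of_pow_eq_one (congrArg Subtype.val hk : v ^ q ^ k = 1)
        rw [← (Nat.prime_dvd_prime_iff_eq hvp d.q_prime).1 (hvp.dvd_of_dvd_pow hd),
          pow_orderOf_eq_one]⟩
      exact (d.Q_min W (fun x hx => hx.1) hne (hWn R hRQ) (hWn _ d.Q_inv) ha v hvW).symm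
    refine ⟨Q, le_rfl, fun e => d.not_le fun x _ => Subgroup.mem_centralizer_iff.2 fun y hy => by
        rw [e] at hy
        rw [Subgroup.mem_bot.1 hy, one_mul, mul_one],
      fun x hx => (hWQ.symm.le hx : x ∈ W).2, hQc, hRQ, d.Q_inv, Or.inr ⟨rfl, ?_⟩⟩
    have := inf_centralizer_inf_commutator_eq_bot hRQ hRQcop
    rwa [QR.commutator_eq h hc d, inf_eq_left.2 inf_le_left] at this
  · have hD : ⁅Q, Q⁆ ≠ ⊥ := fun e => hQc (Subgroup.commutator_eq_bot_iff_le_centralizer.1 e)
    have hDQ : ⁅Q, Q⁆ ≤ Q := Subgroup.commutator_le_self Q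
    have hDne : ⁅Q, Q⁆ ≠ Q := by
      intro e
      have : Nontrivial Q := (Subgroup.nontrivial_iff_ne_bot Q).2 fun e' => hD (by rw [e, e'])
      apply (Group.IsSolvable.commutator_lt_top_of_nontrivial Q).ne
      apply Subgroup.map_injective Q.subtype_injective
      rw [Subgroup.map_subtype_commutator, e, ← MonoidHom.range_eq_map, Subgroup.range_subtype]
    have hDR := CoprimeTools.le_normalizer_commutator_of_le hRQ hRQ
    have hDA := CoprimeTools.le_normalizer_commutator_of_le d.Q_inv d.Q_inv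
    have hRD := d.Q_min _ hDQ hDne hDR hDA
    have hQD : Q ≤ Subgroup.normalizer ((⁅Q, Q⁆ : Subgroup Γ) : Set Γ) :=
      Subgroup.normalizer_commutator_ge_right Q Q
    obtain ⟨z, hz, hz1, hzfix⟩ := FrobeniusThompson.exists_fixed d.Q_pgroup
      (d.Q_pgroup.to_le hDQ) hQD hD
    have hzo : ∃ k, orderOf z = q ^ (k + 1) := by
      obtain ⟨m, hm⟩ := d.Q_pgroup ⟨z, hDQ hz⟩
      obtain ⟨k, _, hk⟩ := (Nat.dvd_prime_pow d.q_prime).1
        (orderOf_dvd_of_pow_eq_one (congrArg Subtype.val hm : z ^ q ^ m = 1))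
      rcases k with _ | k
      · exact absurd (orderOf_eq_one_iff.1 (by simpa using hk)) hz1
      · exact ⟨k, hk⟩
    obtain ⟨k, hk⟩ := hzo
    let W : Subgroup Γ :=
      { carrier := {x | x ∈ ⁅Q, Q⁆ ∧ x ∈ Subgroup.centralizer (Q : Set Γ) ∧ x ^ q = 1}
        one_mem' := ⟨one_mem _, one_mem _, one_pow _⟩
        mul_mem' := fun {x y} hx hy => ⟨mul_mem hx.1 hy.1, mul_mem hx.2.1 hy.2.1, by
          rw [(show Commute x y from hy.2.1 x (hDQ hx.1)).mul_pow, hx.2.2, hy.2.2, one_mul]⟩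
        inv_mem' := fun {x} hx => ⟨inv_mem hx.1, inv_mem hx.2.1, by
          rw [inv_pow, hx.2.2, inv_one]⟩ }
    have hWn : ∀ X : Subgroup Γ, X ≤ Subgroup.normalizer (Q : Set Γ) →
        X ≤ Subgroup.normalizer (W : Set Γ) := fun X hX =>
      le_normalizer_of_conj_mem fun g hg x hx =>
        ⟨conj_mem (CoprimeTools.le_normalizer_commutator_of_le hX hX hg) hx.1,
          conj_mem (CoprimeTools.le_normalizer_centralizer_of_le hX hg) hx.2.1,
          by rw [conj_pow, hx.2.2, mul_one, mul_inv_cancel]⟩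
    refine ⟨W, fun x hx => hDQ hx.1, ?_, fun x hx => hx.2.2, fun g hg x hx => (hx.2.1 g hg).symm,
      hWn R hRQ, hWn _ d.Q_inv, Or.inl fun x hx y hy => hRD hx y hy.1⟩
    intro e
    have hzW : z ^ q ^ k ∈ W := by
      refine ⟨pow_mem hz _, pow_mem (fun y hy => ?_) _, ?_⟩
      · exact mul_inv_eq_iff_eq_mul.1 (hzfix y hy)
      · rw [← pow_mul, ← pow_succ, ← hk, pow_orderOf_eq_one]
    rw [e, Subgroup.mem_bot] at hzW
    have h3 := orderOf_dvd_of_pow_eq_one hzW
    rw [hk] at h3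
    exact absurd ((Nat.pow_dvd_pow_iff_le_right d.q_prime.one_lt).1 h3) (by omega)

end facts

section ward

variable {A₀ : Type v} [Group A₀] [Finite A₀] {Γ : Type u} [Group Γ] [Finite Γ]
  {K : Subgroup Γ} {ι : A₀ →* Γ} {p : ℕ}

theorem range_le_of_two (hp : p.Prime) (hcard : Nat.card ι.range = p ^ 2)
    (hexp : ∀ a ∈ ι.range, a ^ p = 1) {a a' : Γ} (ha : a ∈ ι.range) (ha1 : a ≠ 1)
    (ha' : a' ∈ ι.range) (hna : a' ∉ Subgroup.zpowers a) {W : Subgroup Γ} (hW : a ∈ W)
    (hW' : a' ∈ W) : ι.range ≤ W := by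
  set U := W ⊓ ι.range with hU
  obtain ⟨k, hk, hkU⟩ := (Nat.dvd_prime_pow hp).1 (hcard ▸ Subgroup.card_dvd_of_le
    (inf_le_right : U ≤ ι.range))
  have hoa : orderOf a = p := ((Nat.dvd_prime hp).1 (orderOf_dvd_of_pow_eq_one (hexp a ha))).resolve_left
    (fun e => ha1 (orderOf_eq_one_iff.1 e))
  have hle : Subgroup.zpowers a ≤ U := Subgroup.zpowers_le.2 ⟨hW, ha⟩
  by_contra hno
  have hk2 : k ≠ 2 := fun e => hno ((Subgroup.eq_of_le_of_card_ge (inf_le_right : U ≤ ι.range)
    (by rw [hcard, hkU, e])).symm.le.trans inf_le_left)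
  have : U = Subgroup.zpowers a := by
    refine (Subgroup.eq_of_le_of_card_ge hle ?_).symm
    rw [hkU, Nat.card_zpowers, hoa]
    calc p ^ k ≤ p ^ 1 := Nat.pow_le_pow_right hp.pos (by omega)
      _ = p := pow_one p
  exact hna (this ▸ ⟨hW', ha'⟩)

/-- With a noncyclic elementary abelian `A` of order `p²` fixed-point-free on `K`, every `C_K(a)`,
`a ≠ 1`, is nilpotent. -/
theorem isNilpotent_centralizer (h : Acts K ι) (hp : p.Prime) (hcard : Nat.card ι.range = p ^ 2)
    (hexp : ∀ a ∈ ι.range, a ^ p = 1) (hAc : ∀ a ∈ ι.range, ∀ b ∈ ι.range, a * b = b * a)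
    {a : Γ} (ha : a ∈ ι.range) (ha1 : a ≠ 1) :
    Group.IsNilpotent (K ⊓ Subgroup.centralizer ({a} : Set Γ) : Subgroup Γ) := by
  obtain ⟨a', ha', hna⟩ : ∃ a' ∈ ι.range, a' ∉ Subgroup.zpowers a := by
    by_contra hno
    push Not at hno
    have h1 := Subgroup.card_le_of_le (fun x hx => hno x hx : ι.range ≤ Subgroup.zpowers a)
    rw [hcard, Nat.card_zpowers] at h1
    have h2 := Nat.le_of_dvd hp.pos (orderOf_dvd_of_pow_eq_one (hexp a ha))
    have h3 : p < p ^ 2 := by
      calc p = p ^ 1 := (pow_one p).symm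
        _ < p ^ 2 := Nat.pow_lt_pow_right hp.one_lt (by norm_num)
    omega
  set L := K ⊓ Subgroup.centralizer ({a} : Set Γ) with hL
  have hinv : ∀ x ∈ L, MulAut.conj a' x ∈ L := fun x hx => by
    refine ⟨h.normal.conj_mem x hx.1 a', ?_⟩
    show a' * x * a'⁻¹ ∈ Subgroup.centralizer ({a} : Set Γ)
    refine mul_mem (mul_mem ?_ hx.2) (inv_mem ?_) <;>
      exact Subgroup.mem_centralizer_singleton_iff.2 (hAc a' ha' a ha)
  refine FrobeniusNilpotent.isNilpotent_of_fpf
    (FrobeniusNilpotent.restrictAut (MulAut.conj a') L hinv) (fun x hx => ?_) p hp ?_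
  · have hcomm : a' * (x : Γ) = x * a' := mul_inv_eq_iff_eq_mul.1 (congrArg Subtype.val hx)
    refine Subtype.ext (h.fpf x x.2.1 fun t => ?_)
    exact Subgroup.mem_centralizer_singleton_iff.1 (range_le_of_two hp hcard hexp ha ha1 ha' hna
      (W := Subgroup.centralizer ({(x : Γ)} : Set Γ))
      (Subgroup.mem_centralizer_singleton_iff.2 (Subgroup.mem_centralizer_singleton_iff.1 x.2.2).symm)
      (Subgroup.mem_centralizer_singleton_iff.2 hcomm) ⟨t, rfl⟩)
  · refine MulEquiv.ext fun x => Subtype.ext ?_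
    rw [FrobeniusNilpotent.restrictAut_pow, ← map_pow, hexp a' ha', map_one]
    rfl

theorem commute_of_centralizer (h : Acts K ι) (hp : p.Prime) (hcard : Nat.card ι.range = p ^ 2)
    (hexp : ∀ a ∈ ι.range, a ^ p = 1) (hAc : ∀ a ∈ ι.range, ∀ b ∈ ι.range, a * b = b * a)
    {a : Γ} (ha : a ∈ ι.range) (ha1 : a ≠ 1) {X Y : Subgroup Γ} (hX : X ≤ K) (hY : Y ≤ K)
    (hXY : (Nat.card X).Coprime (Nat.card Y)) {x y : Γ} (hx : x ∈ X) (hy : y ∈ Y)
    (hxa : x ∈ Subgroup.centralizer ({a} : Set Γ)) (hya : y ∈ Subgroup.centralizer ({a} : Set Γ)) :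
    x * y = y * x := by
  have := isNilpotent_centralizer h hp hcard hexp hAc ha ha1
  have h1 := FrobeniusNilpotent.commute_of_coprime
    (G := (K ⊓ Subgroup.centralizer ({a} : Set Γ) : Subgroup Γ)) ⟨x, hX hx, hxa⟩ ⟨y, hY hy, hya⟩ (by
      refine Nat.Coprime.of_dvd ?_ ?_ hXY
      · rw [← Subgroup.orderOf_coe]
        exact Subgroup.orderOf_dvd_natCard _ hx
      · rw [← Subgroup.orderOf_coe]
        exact Subgroup.orderOf_dvd_natCard _ hy)
  exact congrArg Subtype.val h1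

/-- **Ward.** There is no minimal configuration for a fixed-point-free elementary abelian group
of order dividing `p²`. -/
theorem false_of_config (hp : p.Prime) (hcomm : ∀ a b : A₀, a * b = b * a)
    (hA₀ : Nat.card A₀ = p ^ 2) (hexp₀ : ∀ a : A₀, a ^ p = 1) (h : Acts K ι) {V H : Subgroup Γ}
    {r : ℕ} (hc : Config (fun T _ => Group.IsNilpotent T) K ι V H r) : False := by
  classical
  have := h.solv
  have := h.normal
  have := hc.V_normal
  set A := ι.range with hA
  have hAc : ∀ a ∈ A, ∀ b ∈ A, a * b = b * a := by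
    rintro _ ⟨a, rfl⟩ _ ⟨b, rfl⟩
    rw [← map_mul, hcomm, map_mul]
  have hAm : IsMulCommutative A := ⟨⟨fun a b => Subtype.ext (hAc a a.2 b b.2)⟩⟩
  have hexp : ∀ a ∈ A, a ^ p = 1 := by
    rintro _ ⟨a, rfl⟩
    rw [← map_pow, hexp₀, map_one]
  have hcyc : ¬ IsCyclic A := by
    intro hcyc
    obtain ⟨g, hg⟩ := IsCyclic.exists_generator (α := A)
    apply hc.not_mem
    have : Group.IsNilpotent K := by
      refine FrobeniusNilpotent.isNilpotent_of_fpf (MulAut.conjNormal (H := K) (g : Γ))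
        (fun x hx => Subtype.ext (h.fpf x x.2 fun a => ?_)) p hp ?_
      · have hgx : (g : Γ) * x = x * g := mul_inv_eq_iff_eq_mul.1 (by
          rw [← MulAut.conjNormal_apply]
          exact congrArg Subtype.val hx)
        obtain ⟨k, hk⟩ := hg ⟨ι a, a, rfl⟩
        have hk' : (g : Γ) ^ k = ι a := congrArg Subtype.val hk
        rw [← hk']
        exact (Commute.zpow_left hgx k).eq
      · rw [← map_pow, hexp g g.2, map_one]
    exact closed_nilpotent.of_injective H K (Subgroup.inclusion hc.H_le)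
      (Subgroup.inclusion_injective _) this
  have hcard : Nat.card A = p ^ 2 := by
    obtain ⟨k, hk, hkA⟩ := (Nat.dvd_prime_pow hp).1 (hA₀ ▸ Subgroup.card_range_dvd ι)
    rcases k with _ | _ | _ | k
    · have : Subsingleton A := (Nat.card_eq_one_iff_unique.1 (hkA.trans (pow_zero p))).1
      exact absurd isCyclic_of_subsingleton hcyc
    · have := Fact.mk hp
      exact absurd (isCyclic_of_prime_card (α := A) (hkA.trans (pow_one p))) hcyc
    · exact hkA
    · omega
  have hAK : A ≤ Subgroup.normalizer (K : Set Γ) := le_normalizer_of_normal K A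
  have hCA : ∀ a ∈ A, A ≤ Subgroup.normalizer ((Subgroup.centralizer ({a} : Set Γ)) : Set Γ) :=
    fun a ha => fun b hb => Subgroup.le_normalizer
      (Subgroup.mem_centralizer_singleton_iff.2 (hAc b hb a ha))
  have hcop : ∀ L ≤ K, (Nat.card A).Coprime (Nat.card L) := fun L hL =>
    coprime_of_le_right hL h.coprime_range
  obtain ⟨Q, R, q, s, d⟩ := exists_QR h hc
  have hQK := d.Q_le.trans hc.H_le
  have hRK := d.R_le.trans hc.H_le
  have hRQ := d.R_le.trans d.Q_normal
  have hQeq := d.commutator_eq h hc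
  have hVQ : (Nat.card V).Coprime (Nat.card Q) :=
    coprime_pgroups hc.prime d.q_prime (Ne.symm d.q_ne) hc.V_pgroup d.Q_pgroup
  have hQR : (Nat.card Q).Coprime (Nat.card R) :=
    coprime_pgroups d.q_prime d.s_prime d.ne d.Q_pgroup d.R_pgroup
  have hQs : Group.IsSolvable Q := isSolvable_of_le hQK
  have hRs : Group.IsSolvable R := isSolvable_of_le hRK
  -- some `a₀` centralises `R`
  obtain ⟨a₀, ha₀, ha₀1, hRa₀⟩ : ∃ a₀ ∈ A, a₀ ≠ 1 ∧ R ≤ Subgroup.centralizer ({a₀} : Set Γ) := by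
    by_contra hno
    push Not at hno
    apply d.not_le
    refine CoprimeGen.le_of_centralizers hcyc d.R_inv (hcop R hRK) fun a ha ha1 => ?_
    refine d.R_min _ inf_le_left (fun e => hno a ha ha1 (inf_eq_left.1 e)) ?_
    exact le_normalizer_inf d.R_inv (hCA a ha)
  have hRa : ∀ a ∈ A, a ∉ Subgroup.zpowers a₀ → ⁅R, Subgroup.zpowers a⁆ = R := by
    intro a ha hna
    have hz : Subgroup.zpowers a ≤ A := Subgroup.zpowers_le.2 ha
    have h1 := commutator_sup_centralizer_eq (A := Subgroup.zpowers a) (K := R)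
      (hz.trans d.R_inv) ((hcop R hRK).coprime_dvd_left (Subgroup.card_dvd_of_le hz)) (Or.inr hRs)
    have h2 : R ⊓ Subgroup.centralizer (Subgroup.zpowers a : Set Γ) = ⊥ := by
      rw [eq_bot_iff, ← h.inf_centralizer]
      rintro x ⟨hx, hxa⟩
      refine ⟨hRK hx, fun y hy => ?_⟩
      exact Subgroup.mem_centralizer_singleton_iff.1 (range_le_of_two hp hcard hexp ha₀ ha₀1 ha hna
        (W := Subgroup.centralizer ({x} : Set Γ))
        (Subgroup.mem_centralizer_singleton_iff.2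
          (Subgroup.mem_centralizer_singleton_iff.1 (hRa₀ hx)).symm)
        (Subgroup.mem_centralizer_singleton_iff.2 (hxa a (Subgroup.mem_zpowers a))) hy)
    rwa [h2, sup_bot_eq] at h1
  have hfinal : ∀ (K' : Subgroup Γ) (a : Γ), a ∈ A → a ∉ Subgroup.zpowers a₀ →
      R ≤ Subgroup.normalizer (K' : Set Γ) → a ∈ kerSub Q K' → Q ≤ K' := by
    intro K' a ha hna hRK' haK
    have h1 : R ≤ kerSub Q K' := by
      rw [← hRa a ha hna, Subgroup.commutator_le]
      intro x hx y hy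
      have hy' := (Subgroup.zpowers_le.2 haK) hy
      exact mul_mem (conj_mem_kerSub hy' (hRQ hx) (hRK' hx)) (inv_mem hy')
    rw [← hQeq, Subgroup.commutator_le]
    exact fun g hg x hx => (h1 hx).2 g hg
  obtain ⟨Z, hZQ, hZne, hZq, hQZ, hRZ, hAZ, hcase, hCV⟩ := d.exists_central h hc
  have hZc : ∀ x ∈ Z, ∀ y ∈ Z, x * y = y * x := fun x hx y hy => hQZ (hZQ hy) x hx
  have hZV : Z ≤ Subgroup.normalizer (V : Set Γ) := le_normalizer_of_normal V Z
  have hcopZV : (Nat.card Z).Coprime (Nat.card V) :=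
    hVQ.symm.coprime_dvd_left (Subgroup.card_dvd_of_le hZQ)
  let K₀ : Subgroup Γ → Subgroup Γ := fun X =>
    Q ⊓ Subgroup.centralizer ((V ⊓ Subgroup.centralizer (X : Set Γ) : Subgroup Γ) : Set Γ)
  have hK₀n : ∀ (X S : Subgroup Γ), S ≤ Subgroup.normalizer (X : Set Γ) →
      S ≤ Subgroup.normalizer (Q : Set Γ) → S ≤ Subgroup.normalizer (K₀ X : Set Γ) :=
    fun X S hX hQ => le_normalizer_inf hQ (CoprimeTools.le_normalizer_centralizer_of_le
      (le_normalizer_inf (le_normalizer_of_normal V S)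
        (CoprimeTools.le_normalizer_centralizer_of_le hX)))
  have hK₀ne : ∀ X : Subgroup Γ, V ⊓ Subgroup.centralizer (X : Set Γ) ≠ ⊥ → ¬ Q ≤ K₀ X := by
    intro X hW hle
    refine hW (eq_bot_iff.2 fun w hw => ?_)
    rw [← hCV]
    exact ⟨hw.1, fun z hz => ((hle (hZQ hz)).2 w hw).symm⟩
  -- for every hyperplane with fixed points some `a` acts trivially modulo it
  have hker : ∀ X ≤ Z, X ≠ Z → (∀ Y, X ≤ Y → Y ≤ Z → Y = X ∨ Y = Z) →
      V ⊓ Subgroup.centralizer (X : Set Γ) ≠ ⊥ →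
      ∃ a ∈ A, a ≠ 1 ∧ a ∈ kerSub Z X ∧
        ∀ b ∈ A, b ∉ Subgroup.zpowers a → Q ⊓ Subgroup.centralizer ({b} : Set Γ) ≤ K₀ X := by
    intro X hXZ hXne hmax hW
    have hb : ∀ b ∈ A, b ≠ 1 → b ∉ kerSub Z X →
        Q ⊓ Subgroup.centralizer ({b} : Set Γ) ≤ K₀ X := by
      rintro b hbA hb1 hb g ⟨hgQ, hgb⟩
      refine ⟨hgQ, fun w hw => ?_⟩
      have := le_of_translates (U := V ⊓ Subgroup.centralizer ({g} : Set Γ)) hp (hexp b hbA)
        hc.V_comm hZc hXZ hmax hZV (le_normalizer_of_normal V A hbA) (hAZ hbA) hcopZV hCV hb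
        (fun z hz v hv hbv => ⟨hc.V_normal.conj_mem v hv z, ?_⟩) hw
      · exact Subgroup.mem_centralizer_singleton_iff.1 this.2
      · have h1 : z ∈ Subgroup.centralizer ({g} : Set Γ) :=
          Subgroup.mem_centralizer_singleton_iff.2 (hQZ hgQ z hz)
        have h2 : v ∈ Subgroup.centralizer ({g} : Set Γ) :=
          Subgroup.mem_centralizer_singleton_iff.2 (commute_of_centralizer h hp hcard hexp hAc hbA
            hb1 hc.V_le hQK hVQ hv hgQ (Subgroup.mem_centralizer_singleton_iff.2 hbv.symm) hgb)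
        exact Subgroup.mul_mem _ (Subgroup.mul_mem _ h1 h2) (Subgroup.inv_mem _ h1)
    obtain ⟨a, ha, ha1, haS⟩ : ∃ a ∈ A, a ≠ 1 ∧ a ∈ kerSub Z X := by
      by_contra hno
      push Not at hno
      exact hK₀ne X hW (CoprimeGen.le_of_centralizers hcyc d.Q_inv (hcop Q hQK)
        fun a ha ha1 => hb a ha ha1 (hno a ha ha1))
    refine ⟨a, ha, ha1, haS, fun b hbA hba => hb b hbA (fun e => hba (e ▸ one_mem _)) fun hbS => ?_⟩
    have hAS : A ≤ kerSub Z X := range_le_of_two hp hcard hexp ha ha1 hbA hba haS hbS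
    have h1 := commutator_sup_centralizer_eq (A := A) (K := Z) hAZ (hcop Z (hZQ.trans hQK))
      (Or.inr (isSolvable_of_le (hZQ.trans hQK)))
    have h2 : Z ⊓ Subgroup.centralizer (A : Set Γ) = ⊥ :=
      eq_bot_iff.2 ((inf_le_inf_right _ (hZQ.trans hQK)).trans h.inf_centralizer.le)
    rw [h2, sup_bot_eq] at h1
    refine hXne (le_antisymm hXZ ?_)
    rw [← h1, Subgroup.commutator_le]
    exact fun z hz x hx => (hAS hx).2 z hz
  obtain ⟨X, hXZ, hXne, hXmax, hXW⟩ := exists_maximal_fixed d.q_prime hZc hZq hZV hcopZV hc.V_ne hCV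
  obtain ⟨a, ha, ha1, haS, hab⟩ := hker X hXZ hXne hXmax hXW
  have hzp : ∀ {c b : Γ}, c ∈ A → b ∈ Subgroup.zpowers c → b ≠ 1 →
      c ∈ Subgroup.zpowers b := by
    rintro c b hcA ⟨k, rfl⟩ hb1
    exact mem_of_zpow_mem hp (hexp c hcA) (fun hd => hb1 (zpow_eq_one_of_dvd (hexp c hcA) hd))
      (Subgroup.mem_zpowers _)
  rcases hcase with hRZc | ⟨hZeq, hCQR⟩
  · have hXn : R ≤ Subgroup.normalizer (X : Set Γ) := fun x hx =>
      Subgroup.centralizer_le_normalizer _ (Subgroup.centralizer_le hXZ (hRZc hx))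
    have hQXn : Q ≤ Subgroup.normalizer (X : Set Γ) := fun x hx =>
      Subgroup.centralizer_le_normalizer _ (Subgroup.centralizer_le hXZ (hQZ hx))
    have hRn := hK₀n X R hXn hRQ
    have haXn : Subgroup.zpowers a ≤ Subgroup.normalizer (X : Set Γ) :=
      Subgroup.zpowers_le.2 haS.1
    by_cases ha0 : a ∈ Subgroup.zpowers a₀
    · have hle : Q ≤ kerSub R (K₀ X) := by
        refine CoprimeGen.le_of_centralizers hcyc d.Q_inv (hcop Q hQK) fun b hb hb1 g hg => ?_
        refine ⟨(hK₀n X Q hQXn Subgroup.le_normalizer) hg.1, fun x hx => ?_⟩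
        by_cases hba : b ∈ Subgroup.zpowers a
        · have ha₀b : Subgroup.zpowers b ≤ Subgroup.centralizer ({g} : Set Γ) :=
            Subgroup.zpowers_le.2 (Subgroup.mem_centralizer_singleton_iff.2
              (Subgroup.mem_centralizer_singleton_iff.1 hg.2).symm)
          have hga₀ : g ∈ Subgroup.centralizer ({a₀} : Set Γ) :=
            Subgroup.mem_centralizer_singleton_iff.2 (Subgroup.mem_centralizer_singleton_iff.1
              (ha₀b (hzp ha₀ (Subgroup.zpowers_le.2 ha0 hba) hb1))).symm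
          have hcm : g * x = x * g := commute_of_centralizer h hp hcard hexp hAc ha₀ ha₀1 hQK hRK
            hQR hg.1 hx hga₀ (hRa₀ hx)
          rw [← hcm, mul_inv_cancel_right, mul_inv_cancel]
          exact one_mem _
        · have hgK := hab b hb hba hg
          exact mul_mem (conj_mem (hRn hx) hgK) (inv_mem hgK)
      apply hK₀ne X hXW
      rw [← hQeq, Subgroup.commutator_comm, Subgroup.commutator_le]
      exact fun x hx g hg => (hle hg).2 x hx
    · apply hK₀ne X hXW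
      refine hfinal _ a ha ha0 hRn ⟨hK₀n X _ haXn ((Subgroup.zpowers_le.2 ha).trans d.Q_inv)
        (Subgroup.mem_zpowers a), fun g hg => ?_⟩
      have hle : Q ≤ kerSub (Subgroup.zpowers a) (K₀ X) := by
        refine CoprimeGen.le_of_centralizers hcyc d.Q_inv (hcop Q hQK) fun b hb hb1 g hg => ?_
        refine ⟨(hK₀n X Q hQXn Subgroup.le_normalizer) hg.1, fun x hx => ?_⟩
        by_cases hba : b ∈ Subgroup.zpowers a
        · have hxb : x ∈ Subgroup.zpowers b := (Subgroup.zpowers_le.2 (hzp ha hba hb1)) hx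
          have : x ∈ Subgroup.centralizer ({g} : Set Γ) :=
            (Subgroup.zpowers_le.2 (Subgroup.mem_centralizer_singleton_iff.2
              (Subgroup.mem_centralizer_singleton_iff.1 hg.2).symm)) hxb
          rw [Subgroup.mem_centralizer_singleton_iff.1 this, mul_inv_cancel_right, mul_inv_cancel]
          exact one_mem _
        · have hgK := hab b hb hba hg
          have hxn := hK₀n X _ haXn ((Subgroup.zpowers_le.2 ha).trans d.Q_inv) hx
          exact mul_mem (conj_mem hxn hgK) (inv_mem hgK)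
      have h1 := inv_mem ((hle hg).2 a (Subgroup.mem_zpowers a))
      simpa [mul_assoc] using h1
  · subst hZeq
    -- here `Z = Q` is abelian and `C_Z(a₀) = 1`
    have hCa₀ : Z ⊓ Subgroup.centralizer ({a₀} : Set Γ) = ⊥ := by
      rw [eq_bot_iff, ← hCQR]
      rintro g ⟨hg, hga⟩
      exact ⟨hg, fun x hx => (commute_of_centralizer h hp hcard hexp hAc ha₀ ha₀1 hQK hRK hQR hg hx
        hga (hRa₀ hx)).symm⟩
    have hnot₀ : ∀ Y : Subgroup Γ, Y ≤ Z → Y ≠ Z → a₀ ∉ kerSub Z Y := by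
      intro Y hY hYne hmem
      have h1 := commutator_sup_centralizer_eq (A := Subgroup.zpowers a₀) (K := Z)
        ((Subgroup.zpowers_le.2 ha₀).trans hAZ)
        ((hcop Z hQK).coprime_dvd_left (Subgroup.card_dvd_of_le (Subgroup.zpowers_le.2 ha₀)))
        (Or.inr hQs)
      have h2 : Z ⊓ Subgroup.centralizer (Subgroup.zpowers a₀ : Set Γ) = ⊥ := by
        rw [eq_bot_iff, ← hCa₀]
        exact inf_le_inf_left _ (Subgroup.centralizer_le (Set.singleton_subset_iff.2
          (Subgroup.mem_zpowers a₀)))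
      rw [h2, sup_bot_eq] at h1
      refine hYne (le_antisymm hY ?_)
      rw [← h1, Subgroup.commutator_le]
      exact fun g hg x hx => ((Subgroup.zpowers_le.2 hmem) hx).2 g hg
    have ha0 : a ∉ Subgroup.zpowers a₀ := fun e =>
      hnot₀ X hXZ hXne ((Subgroup.zpowers_le.2 haS) (hzp ha₀ e ha1))
    let X' : Subgroup Γ := ⨅ x : R, MulAut.conj (x : Γ) • X
    have hX'R : R ≤ Subgroup.normalizer (X' : Set Γ) := by
      refine le_normalizer_of_conj_mem fun g hg y hy => ?_
      rw [Subgroup.mem_iInf] at hy ⊢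
      intro x
      have := CoprimeSZ.conj_mul_mem_conj_smul (g := g) (hy ⟨g⁻¹ * x, mul_mem (inv_mem hg) x.2⟩)
      rwa [← CoprimeSZ.conj_smul_mul, mul_inv_cancel_left] at this
    have haX' : a ∈ kerSub Z X' := by
      have hall : ∀ x : R, a ∈ kerSub Z (MulAut.conj (x : Γ) • X) := by
        intro x
        have hxZ := hRQ x.2
        set Xr := MulAut.conj (x : Γ) • X with hXr
        have hXrZ : Xr ≤ Z := CoprimeSZ.conj_smul_eq_self hxZ ▸
          Subgroup.pointwise_smul_le_pointwise_smul_iff.2 hXZ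
        have hXrne : Xr ≠ Z := fun e => hXne (smul_left_cancel (MulAut.conj (x : Γ))
          (e.trans (CoprimeSZ.conj_smul_eq_self hxZ).symm))
        have hWr : V ⊓ Subgroup.centralizer (Xr : Set Γ) ≠ ⊥ := by
          intro e
          refine hXW (eq_bot_iff.2 fun w hw => ?_)
          have : (x : Γ) * w * (x : Γ)⁻¹ ∈ V ⊓ Subgroup.centralizer (Xr : Set Γ) := by
            refine ⟨hc.V_normal.conj_mem w hw.1 x, fun y hy => ?_⟩
            rw [hXr, SetLike.mem_coe, CoprimeSZ.mem_conj_smul] at hy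
            have h3 := hw.2 _ hy
            calc y * ((x : Γ) * w * (x : Γ)⁻¹)
                = (x : Γ) * (((x : Γ)⁻¹ * y * x) * w) * (x : Γ)⁻¹ := by group
              _ = (x : Γ) * (w * ((x : Γ)⁻¹ * y * x)) * (x : Γ)⁻¹ := by rw [h3]
              _ = (x : Γ) * w * (x : Γ)⁻¹ * y := by group
          rw [e, Subgroup.mem_bot, conj_eq_one_iff] at this
          exact Subgroup.mem_bot.2 this
        obtain ⟨c, hcA, hc1, hcS, -⟩ := hker Xr hXrZ hXrne (isMaximal_conj hxZ hXmax) hWr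
        have hrar : (x : Γ) * a * (x : Γ)⁻¹ ∈ kerSub Z Xr := conj_mem_kerSub_smul haS hxZ
        obtain ⟨i, j, hij⟩ : ∃ i j : ℤ, a₀ ^ i * a ^ j = c := by
          have hab' : Commute a₀ a := hAc a₀ ha₀ a ha
          have := range_le_of_two hp hcard hexp ha₀ ha₀1 ha ha0
            (W := CoprimeGen.pairSubgroup a₀ a hab') (CoprimeGen.left_mem_pairSubgroup _ _ _)
            (CoprimeGen.right_mem_pairSubgroup _ _ _) hcA
          exact CoprimeGen.mem_pairSubgroup_iff.1 this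
        set ρ := a ^ j * (x : Γ) * (a ^ j)⁻¹ * (x : Γ)⁻¹ with hρ
        have hρR : ρ ∈ R := mul_mem ((Subgroup.mem_normalizer_iff.1
          (d.R_inv (zpow_mem ha j)) _).1 x.2) (inv_mem x.2)
        have he : a₀ ^ i * ρ ∈ kerSub Z Xr := by
          have h4 := mul_mem hcS (inv_mem (zpow_mem hrar j))
          rw [conj_zpow, ← hij] at h4
          rw [hρ]
          simpa [mul_assoc] using h4
        have hcm : Commute (a₀ ^ i) ρ := by
          have hc0 : Commute a₀ ρ :=
            (Subgroup.mem_centralizer_singleton_iff.1 (hRa₀ hρR)).symm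
          exact hc0.zpow_left i
        have h5 := pow_mem he (Nat.card R)
        rw [hcm.mul_pow, orderOf_dvd_iff_pow_eq_one.1 (Subgroup.orderOf_dvd_natCard _ hρR), mul_one,
          ← zpow_natCast, ← zpow_mul] at h5
        by_cases hdi : (p : ℤ) ∣ i
        · rw [zpow_eq_one_of_dvd (hexp a₀ ha₀) hdi, one_mul] at hij
          have hdj : ¬ (p : ℤ) ∣ j := fun hd => hc1 (by
            rw [← hij, zpow_eq_one_of_dvd (hexp a ha) hd])
          exact mem_of_zpow_mem hp (hexp a ha) hdj (hij.symm ▸ hcS)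
        · exfalso
          refine hnot₀ Xr hXrZ hXrne (mem_of_zpow_mem hp (hexp a₀ ha₀) (fun hd => ?_) h5)
          rcases (Nat.prime_iff_prime_int.1 hp).dvd_or_dvd hd with h6 | h6
          · exact hdi h6
          · have h7 := hcop R hRK
            rw [hcard] at h7
            exact hp.ne_one (Nat.eq_one_of_dvd_coprimes h7 (dvd_pow_self p two_ne_zero)
              (Int.natCast_dvd_natCast.1 h6))
      refine ⟨le_normalizer_of_conj_mem (A := Subgroup.zpowers a) (fun g hg y hy => ?_)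
        (Subgroup.mem_zpowers a), fun g hg => ?_⟩
      · rw [Subgroup.mem_iInf] at hy ⊢
        exact fun x => conj_mem ((Subgroup.zpowers_le.2 (hall x).1) hg) (hy x)
      · rw [Subgroup.mem_iInf]
        exact fun x => (hall x).2 g hg
    refine hXne (le_antisymm hXZ ((hfinal X' a ha ha0 hX'R haX').trans ?_))
    refine (iInf_le _ (⟨1, one_mem R⟩ : R)).trans ?_
    rw [map_one, one_smul]

/-- Ward: a solvable group with a fixed-point-free coprime elementary abelian group of operators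
of order `p²` is metanilpotent. -/
theorem nilBy_nilpotent (hp : p.Prime) (hcomm : ∀ a b : A₀, a * b = b * a)
    (hA₀ : Nat.card A₀ = p ^ 2) (hexp₀ : ∀ a : A₀, a ^ p = 1) (h : Acts K ι) :
    NilBy (fun T _ => Group.IsNilpotent T) K :=
  nilBy_of_no_config closed_nilpotent inferInstance
    (fun _ _ _ _ _ hA _ _ _ hc => false_of_config hp hcomm hA₀ hexp₀ hA hc) h

end ward

end Cfsg.Agent.FrobeniusWard
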