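/-
Fixed-point lemmas for fixed-point-free operator groups: translates, orbit products, inversion.
-/
import Mathlib
import Cfsg.Agent.Lib.FrobeniusWard

open scoped Pointwise commutatorElement

namespace Cfsg.Agent.FrobeniusOrbit

open Cfsg.Agent Cfsg.Agent.CoprimeAction

variable {G : Type*} [Group G]

/-- The conjugation homomorphism of an abelian subgroup given by an element normalising it. -/
def conjHomOn (V : Subgroup G) (g : ↥(Subgroup.normalizer (V : Set G))) : V →* V where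
  toFun v := ⟨(g : G) * v * (g : G)⁻¹, conj_mem g.2 v.2⟩
  map_one' := Subtype.ext (by simp)
  map_mul' a b := Subtype.ext (by simp [mul_assoc])

theorem coe_conjHomOn (V : Subgroup G) (g : ↥(Subgroup.normalizer (V : Set G))) (v : V) :
    (conjHomOn V g v : G) = (g : G) * v * (g : G)⁻¹ := rfl

/-- An element whose square is trivial and fixes nothing in `L` inverts `L`. -/
theorem inverts [Finite G] {L : Subgroup G} {τ : G} (hτ : τ * τ = 1)
    (hτL : τ ∈ Subgroup.normalizer (L : Set G))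
    (hfix : L ⊓ Subgroup.centralizer ({τ} : Set G) = ⊥) {x : G} (hx : x ∈ L) :
    τ * x * τ⁻¹ = x⁻¹ := by
  have hτi : τ⁻¹ = τ := inv_eq_of_mul_eq_one_right hτ
  let φ : L → L := fun y => ⟨(y : G)⁻¹ * (τ * y * τ⁻¹), mul_mem (inv_mem y.2) (conj_mem hτL y.2)⟩
  have hinj : Function.Injective φ := by
    intro y y' e
    have e' : (y : G)⁻¹ * (τ * y * τ⁻¹) = (y' : G)⁻¹ * (τ * y' * τ⁻¹) := congrArg Subtype.val e
    have h1 : τ * ((y' : G) * (y : G)⁻¹) = ((y' : G) * (y : G)⁻¹) * τ := by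
      have h2 := congrArg (fun t => (y' : G) * t * (τ * y * τ⁻¹)⁻¹ * τ) e'
      calc τ * ((y' : G) * (y : G)⁻¹) = y' * ((y' : G)⁻¹ * (τ * y' * τ⁻¹)) * (τ * y * τ⁻¹)⁻¹ * τ := by
            group
        _ = y' * ((y : G)⁻¹ * (τ * y * τ⁻¹)) * (τ * y * τ⁻¹)⁻¹ * τ := h2.symm
        _ = _ := by group
    have hmem : (y' : G) * (y : G)⁻¹ ∈ L ⊓ Subgroup.centralizer ({τ} : Set G) :=
      ⟨L.mul_mem y'.2 (L.inv_mem y.2), Subgroup.mem_centralizer_singleton_iff.2 h1.symm⟩
    rw [hfix, Subgroup.mem_bot, mul_inv_eq_one] at hmem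
    exact Subtype.ext hmem.symm
  obtain ⟨⟨y, hy⟩, hyx⟩ := Finite.injective_iff_surjective.1 hinj ⟨x, hx⟩
  have hx' : y⁻¹ * (τ * y * τ⁻¹) = x := congrArg Subtype.val hyx
  rw [← hx', hτi]
  calc τ * (y⁻¹ * (τ * y * τ)) * τ = τ * y⁻¹ * τ * y * (τ * τ) := by group
    _ = (y⁻¹ * (τ * y * τ))⁻¹ := by rw [hτ, mul_one, mul_inv_rev, mul_inv_rev, mul_inv_rev, hτi]; group

variable [Finite G]

/-- **Translates of fixed points**, fixed-point-free form. -/
theorem le_of_translates_fpf {V Z U : Subgroup G} {b : G} {p : ℕ} (hp : p.Prime)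
    (hbp : b ^ p = 1) (hV : ∀ x ∈ V, ∀ y ∈ V, x * y = y * x)
    (hZ : ∀ x ∈ Z, ∀ y ∈ Z, x * y = y * x)
    (hZV : Z ≤ Subgroup.normalizer (V : Set G)) (hbV : b ∈ Subgroup.normalizer (V : Set G))
    (hbZ : b ∈ Subgroup.normalizer (Z : Set G)) (hcop : (Nat.card Z).Coprime (Nat.card V))
    (hCV : V ⊓ Subgroup.centralizer (Z : Set G) = ⊥)
    (hb : Z ⊓ Subgroup.centralizer ({b} : Set G) = ⊥)
    (hU : ∀ z ∈ Z, ∀ v ∈ V, b * v = v * b → z * v * z⁻¹ ∈ U) : V ≤ U := by
  classical
  intro v₀ hv₀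
  have := Fintype.ofFinite Z
  set B := Subgroup.zpowers b with hB
  have := Fintype.ofFinite B
  have hBV : B ≤ Subgroup.normalizer (V : Set G) := Subgroup.zpowers_le.2 hbV
  have hBZ : B ≤ Subgroup.normalizer (Z : Set G) := Subgroup.zpowers_le.2 hbZ
  let _ : CommGroup V := { (inferInstance : Group V) with
    mul_comm := fun a b => Subtype.ext (hV a a.2 b b.2) }
  let c : ↥(Subgroup.normalizer (V : Set G)) → V →* V := conjHomOn V
  have hc : ∀ g v, ((c g v : V) : G) = (g : G) * v * (g : G)⁻¹ := fun _ _ => rfl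
  let zn : Z → ↥(Subgroup.normalizer (V : Set G)) := fun z => ⟨z, hZV z.2⟩
  let bn : B → ↥(Subgroup.normalizer (V : Set G)) := fun e => ⟨e, hBV e.2⟩
  set v : V := ⟨v₀, hv₀⟩ with hv
  have hPU : ((∏ z : Z, ∏ e : B, c (zn z * bn e * (zn z)⁻¹) v : V) : G) ∈ U := by
    let U' : Subgroup V := U.subgroupOf V
    suffices h : (∏ z : Z, ∏ e : B, c (zn z * bn e * (zn z)⁻¹) v : V) ∈ U' from h
    refine U'.prod_mem fun z _ => ?_
    set u := c (zn z)⁻¹ v with hu
    have h1 : (∏ e : B, c (zn z * bn e * (zn z)⁻¹) v) = c (zn z) (∏ e : B, c (bn e) u) := by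
      rw [map_prod]
      refine Finset.prod_congr rfl fun e _ => Subtype.ext ?_
      rw [hu, hc, hc, hc, hc]
      simp [zn, bn, mul_assoc]
    rw [h1]
    show ((c (zn z) _ : V) : G) ∈ U
    rw [hc]
    refine hU z z.2 _ (Subtype.prop _) ?_
    have h2 : c (bn ⟨b, Subgroup.mem_zpowers b⟩) (∏ e : B, c (bn e) u) = ∏ e : B, c (bn e) u := by
      rw [map_prod]
      refine Fintype.prod_equiv (Equiv.mulLeft (⟨b, Subgroup.mem_zpowers b⟩ : B)) _ _
        fun e => Subtype.ext ?_
      simp [hc, bn, mul_assoc]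
    exact mul_inv_eq_iff_eq_mul.1 (congrArg Subtype.val h2)
  have hrest : ∀ e : B, e ≠ 1 → (∏ z : Z, c (zn z * bn e * (zn z)⁻¹) v) = 1 := by
    intro e he
    have hb1 : b ≠ 1 := by
      intro h1
      apply he
      refine Subtype.ext ?_
      obtain ⟨k, hk⟩ := e.2
      have hk' : b ^ k = (e : G) := hk
      rw [← hk', h1, one_zpow, Subgroup.coe_one]
    have hbe : b ∈ Subgroup.zpowers (e : G) := by
      have hob : orderOf b = p := ((Nat.dvd_prime hp).1 (orderOf_dvd_of_pow_eq_one hbp)).resolve_left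
        (fun h => hb1 (orderOf_eq_one_iff.1 h))
      have := Fact.mk hp
      have hcard : Nat.card B = p := by rw [hB, Nat.card_zpowers, hob]
      obtain ⟨k, hk⟩ := mem_zpowers_of_prime_card (g := e) (g' := ⟨b, Subgroup.mem_zpowers b⟩) hcard he
      exact ⟨k, congrArg Subtype.val hk⟩
    have hfmem : ∀ z : Z, (z : G) * e * (z : G)⁻¹ * (e : G)⁻¹ ∈ Z := fun z => by
      have := mul_mem z.2 ((Subgroup.mem_normalizer_iff.1 (hBZ e.2) _).1 (inv_mem z.2))
      simpa [mul_assoc] using this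
    let f : Z → Z := fun z => ⟨_, hfmem z⟩
    have hfinj : Function.Injective f := by
      intro y z hyz
      have h0 : (y : G) * e * (y : G)⁻¹ * (e : G)⁻¹ = (z : G) * e * (z : G)⁻¹ * (e : G)⁻¹ :=
        congrArg Subtype.val hyz
      have h1 : ((z : G)⁻¹ * y) * e = e * ((z : G)⁻¹ * y) := by
        calc ((z : G)⁻¹ * y) * e
            = (z : G)⁻¹ * ((y : G) * e * (y : G)⁻¹ * (e : G)⁻¹) * e * y := by group
          _ = _ := by rw [h0]; group
      have hmem : (z : G)⁻¹ * y ∈ Z ⊓ Subgroup.centralizer ({b} : Set G) := by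
        refine ⟨Z.mul_mem (Z.inv_mem z.2) y.2, ?_⟩
        obtain ⟨k, hk⟩ := hbe
        have hk' : (e : G) ^ k = b := hk
        show (z : G)⁻¹ * y ∈ Subgroup.centralizer ({b} : Set G)
        rw [Subgroup.mem_centralizer_singleton_iff, ← hk']
        exact (Commute.zpow_right h1 k).eq
      rw [hb, Subgroup.mem_bot, inv_mul_eq_one] at hmem
      exact Subtype.ext hmem.symm
    have hfsurj := Finite.injective_iff_surjective.1 hfinj
    set w := c (bn e) v with hw
    have hterm : ∀ z : Z, c (zn z * bn e * (zn z)⁻¹) v = c (zn (f z)) w := fun z => Subtype.ext (by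
      rw [hw, hc, hc, hc]
      simp [zn, bn, f, mul_assoc])
    rw [Finset.prod_congr rfl fun z _ => hterm z,
      Fintype.prod_bijective f ⟨hfinj, hfsurj⟩ _ (fun z => c (zn z) w) fun _ => rfl]
    have hxC : ((∏ z : Z, c (zn z) w : V) : G) ∈ V ⊓ Subgroup.centralizer (Z : Set G) := by
      refine ⟨Subtype.prop _, fun y hy => ?_⟩
      have h2 : c (zn ⟨y, hy⟩) (∏ z : Z, c (zn z) w) = ∏ z : Z, c (zn z) w := by
        rw [map_prod]
        refine Fintype.prod_equiv (Equiv.mulLeft (⟨y, hy⟩ : Z)) _ _ fun z => Subtype.ext ?_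
        simp [hc, zn, mul_assoc]
      exact mul_inv_eq_iff_eq_mul.1 (congrArg Subtype.val h2)
    rw [hCV, Subgroup.mem_bot] at hxC
    exact Subtype.ext hxC
  rw [Finset.prod_comm, Finset.prod_eq_single 1 (fun e _ he => hrest e he) (by simp)] at hPU
  have h1 : (∏ z : Z, c (zn z * bn 1 * (zn z)⁻¹) v) = v ^ Nat.card Z := by
    rw [Nat.card_eq_fintype_card, ← Finset.card_univ, ← Finset.prod_const]
    exact Finset.prod_congr rfl fun z _ => Subtype.ext (by simp [hc, zn, bn])
  rw [h1] at hPU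
  obtain ⟨k, hk⟩ := (mem_zpowers_pow_iff.2 (hcop.coprime_dvd_right (orderOf_dvd_natCard v)) :
    v ∈ Subgroup.zpowers (v ^ Nat.card Z))
  have h2 := U.zpow_mem hPU k
  rw [← Subgroup.coe_zpow] at h2
  simp only at hk
  rwa [hk] at h2

/-- **Orbit products**: a fixed point of the stabiliser of `X` inside `C_V(X)` is trivial when
`C_V(A) = 1`. -/
theorem orbit_eq_one {A₀ : Type*} [Group A₀] [Finite A₀] (ι : A₀ →* G) {V Z X : Subgroup G}
    (hV : ∀ x ∈ V, ∀ y ∈ V, x * y = y * x) (hZ : ∀ x ∈ Z, ∀ y ∈ Z, x * y = y * x) (hXZ : X ≤ Z)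
    (hmax : ∀ Y, X ≤ Y → Y ≤ Z → Y = X ∨ Y = Z)
    (hAV : ∀ a, ι a ∈ Subgroup.normalizer (V : Set G))
    (hAZ : ∀ a, ι a ∈ Subgroup.normalizer (Z : Set G))
    (hZV : Z ≤ Subgroup.normalizer (V : Set G))
    (hfix : ∀ x ∈ V, (∀ a, ι a * x = x * ι a) → x = 1)
    (hCV : V ⊓ Subgroup.centralizer (Z : Set G) = ⊥)
    (hcopA : (Nat.card A₀).Coprime (Nat.card V)) (hcopZ : (Nat.card Z).Coprime (Nat.card V))
    {w : G} (hw : w ∈ V) (hwX : w ∈ Subgroup.centralizer (X : Set G))
    (hws : ∀ a, MulAut.conj (ι a) • X = X → ι a * w = w * ι a) : w = 1 := by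
  classical
  have := Fintype.ofFinite A₀
  have := Fintype.ofFinite X
  let _ : CommGroup V := { (inferInstance : Group V) with
    mul_comm := fun a b => Subtype.ext (hV a a.2 b b.2) }
  let c : ↥(Subgroup.normalizer (V : Set G)) → V →* V := conjHomOn V
  have hc : ∀ g v, ((c g v : V) : G) = (g : G) * v * (g : G)⁻¹ := fun _ _ => rfl
  let an : A₀ → ↥(Subgroup.normalizer (V : Set G)) := fun a => ⟨ι a, hAV a⟩
  let xn : X → ↥(Subgroup.normalizer (V : Set G)) := fun x => ⟨x, hZV (hXZ x.2)⟩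
  set v : V := ⟨w, hw⟩ with hv
  have hprod : ∏ a : A₀, c (an a) v = 1 := by
    refine Subtype.ext (hfix _ (Subtype.prop _) fun b => ?_)
    have h2 : c (an b) (∏ a : A₀, c (an a) v) = ∏ a : A₀, c (an a) v := by
      rw [map_prod]
      refine Fintype.prod_equiv (Equiv.mulLeft b) _ _ fun a => Subtype.ext ?_
      simp [hc, an, mul_assoc]
    exact mul_inv_eq_iff_eq_mul.1 (congrArg Subtype.val h2)
  let N : V → V := fun u => ∏ x : X, c (xn x) u
  have hN : ∀ a : A₀, MulAut.conj (ι a) • X ≠ X → N (c (an a) v) = 1 := by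
    intro a ha
    let S : Subgroup G := Z ⊓ Subgroup.centralizer ({((N (c (an a) v) : V) : G)} : Set G)
    have hfixS : ∀ y ∈ X ⊔ MulAut.conj (ι a) • X, y ∈ S := by
      intro y hy
      refine (sup_le ?_ ?_ : X ⊔ MulAut.conj (ι a) • X ≤ S) hy
      · intro y hy
        refine ⟨hXZ hy, Subgroup.mem_centralizer_singleton_iff.2 ?_⟩
        have h2 : c (xn ⟨y, hy⟩) (N (c (an a) v)) = N (c (an a) v) := by
          simp only [N, map_prod]
          refine Fintype.prod_equiv (Equiv.mulLeft (⟨y, hy⟩ : X)) _ _ fun x => Subtype.ext ?_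
          simp [hc, xn, mul_assoc]
        exact mul_inv_eq_iff_eq_mul.1 (congrArg Subtype.val h2)
      · intro y hy
        have hyZ : y ∈ Z := by
          rw [← CoprimeSZ.conj_smul_eq_self (hAZ a)]
          exact (Subgroup.pointwise_smul_le_pointwise_smul_iff.2 hXZ) hy
        refine ⟨hyZ, Subgroup.mem_centralizer_singleton_iff.2 ?_⟩
        rw [CoprimeSZ.mem_conj_smul] at hy
        have h3 := hwX _ hy
        let yn : ↥(Subgroup.normalizer (V : Set G)) := ⟨y, hZV hyZ⟩
        have h2 : c yn (N (c (an a) v)) = N (c (an a) v) := by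
          simp only [N, map_prod]
          refine Finset.prod_congr rfl fun x _ => Subtype.ext ?_
          simp only [hc, xn, an, yn, hv]
          have h4 : y * (x : G) = (x : G) * y := hZ y hyZ _ (hXZ x.2)
          calc y * ((x : G) * (ι a * w * (ι a)⁻¹) * (x : G)⁻¹) * y⁻¹
              = (y * (x : G)) * (ι a * w * (ι a)⁻¹) * (y * (x : G))⁻¹ := by group
            _ = (x : G) * (ι a * ((ι a)⁻¹ * y * ι a * w) * ((ι a)⁻¹ * y * ι a)⁻¹ * (ι a)⁻¹) *
                (x : G)⁻¹ := by rw [h4]; group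
            _ = _ := by rw [h3]; group
        exact mul_inv_eq_iff_eq_mul.1 (congrArg Subtype.val h2)
    have htop : X ⊔ MulAut.conj (ι a) • X = Z := by
      have hle : X ⊔ MulAut.conj (ι a) • X ≤ Z := fun y hy => (hfixS y hy).1
      refine (hmax _ le_sup_left hle).resolve_left fun e => ha ?_
      exact Subgroup.eq_of_le_of_card_ge (sup_eq_left.1 e) (CoprimeSZ.card_conj_smul _ _).ge
    have hmem : ((N (c (an a) v) : V) : G) ∈ V ⊓ Subgroup.centralizer (Z : Set G) :=
      ⟨Subtype.prop _, fun y hy => Subgroup.mem_centralizer_singleton_iff.1 (hfixS y (htop.symm ▸ hy)).2⟩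
    rw [hCV, Subgroup.mem_bot] at hmem
    exact Subtype.ext hmem
  have hN1 : ∀ a : A₀, MulAut.conj (ι a) • X = X → N (c (an a) v) = v ^ Nat.card X := by
    intro a ha
    rw [Nat.card_eq_fintype_card, ← Finset.card_univ, ← Finset.prod_const]
    refine Finset.prod_congr rfl fun x _ => Subtype.ext ?_
    simp only [hc, xn, an, hv]
    rw [hws a ha, mul_inv_cancel_right, hwX x x.2, mul_inv_cancel_right]
  have hsum : N (∏ a : A₀, c (an a) v) = ∏ a : A₀, N (c (an a) v) := by
    simp only [N, map_prod]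
    exact Finset.prod_comm
  have h1 : N (∏ a : A₀, c (an a) v) = 1 := by rw [hprod]; simp [N]
  set St : Subgroup A₀ := (MulAction.stabilizer (MulAut G) X).comap (MulAut.conj.comp ι) with hSt
  have hSt' : ∀ a, a ∈ St ↔ MulAut.conj (ι a) • X = X := fun a => Iff.rfl
  have hcard : Nat.card St = (Finset.univ.filter fun a => a ∈ St).card := by
    rw [Nat.card_eq_fintype_card, Fintype.card_subtype]
  have h2 : (v ^ Nat.card X) ^ Nat.card St = 1 := by
    rw [← h1, hsum, ← Finset.prod_filter_mul_prod_filter_not Finset.univ (fun a => a ∈ St),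
      Finset.prod_eq_one (s := Finset.filter (fun a => ¬ a ∈ St) Finset.univ)
        (fun a ha => hN a (fun e => (Finset.mem_filter.1 ha).2 ((hSt' a).2 e))), mul_one,
      Finset.prod_congr rfl (fun a ha => hN1 a ((hSt' a).1 (Finset.mem_filter.1 ha).2)),
      Finset.prod_const, hcard]
  rw [← pow_mul] at h2
  have h3 : orderOf v ∣ Nat.card X * Nat.card St := orderOf_dvd_of_pow_eq_one h2
  have hcop : (Nat.card X * Nat.card St).Coprime (Nat.card V) :=
    Nat.Coprime.mul_left (hcopZ.coprime_dvd_left (Subgroup.card_dvd_of_le hXZ))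
      (hcopA.coprime_dvd_left (Subgroup.card_subgroup_dvd_card St))
  have h4 : v = 1 := orderOf_eq_one_iff.1
    (Nat.eq_one_of_dvd_coprimes hcop h3 (orderOf_dvd_natCard v))
  exact congrArg Subtype.val h4

end Cfsg.Agent.FrobeniusOrbit
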