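/-
A Frobenius group `K R` acting coprimely on a nilpotent group `M` with `C_M(K) = 1` and all
non-identity elements of `R` having the same fixed points: `R` has prime order, `M` has order
`C_M(R) ^ p`, and `K'` centralises `M` when `C_M(R)` is cyclic.
-/
import Mathlib
import Cfsg.Agent.Lib.FrobeniusFree
import Cfsg.Agent.Lib.FrobeniusOrbit

open scoped Pointwise commutatorElement

namespace Cfsg.Agent.FrobeniusPrimeAct

universe u

open Cfsg.Agent Cfsg.Agent.CoprimeAction

section aut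

variable {V : Type u} [CommGroup V] [Finite V]

/-- Minimal invariant subgroups, all of the same order, span a group whose order is a power. -/
theorem card_sup_eq_pow (Z : Set (MulAut V)) (d : ℕ) (S : Finset (Subgroup V))
    (hS : ∀ T ∈ S, Nat.card T = d ∧ (∀ z ∈ Z, ∀ x ∈ T, z x ∈ T) ∧
      ∀ W ≤ T, (∀ z ∈ Z, ∀ x ∈ W, z x ∈ W) → W = ⊥ ∨ W = T) :
    ∃ m : ℕ, Nat.card (S.sup id : Subgroup V) = d ^ m ∧
      ∀ z ∈ Z, ∀ x ∈ S.sup id, z x ∈ S.sup id := by
  classical
  induction S using Finset.induction with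
  | empty =>
    refine ⟨0, by simp, fun z _ x hx => ?_⟩
    simp only [Finset.sup_empty, Subgroup.mem_bot] at hx ⊢
    rw [hx, map_one]
  | @insert T S hT ih =>
    obtain ⟨m, hm, hinv⟩ := ih fun T' hT' => hS T' (Finset.mem_insert_of_mem hT')
    obtain ⟨hTc, hTi, hTmin⟩ := hS T (Finset.mem_insert_self _ _)
    have hinv' : ∀ z ∈ Z, ∀ x ∈ T ⊔ S.sup id, z x ∈ T ⊔ S.sup id := by
      intro z hz x hx
      obtain ⟨a, ha, b, hb, rfl⟩ := Subgroup.mem_sup.1 hx
      rw [map_mul]
      exact Subgroup.mul_mem_sup (hTi z hz a ha) (hinv z hz b hb)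
    rw [Finset.sup_insert, id]
    rcases hTmin (T ⊓ S.sup id) inf_le_left
        (fun z hz x hx => ⟨hTi z hz x hx.1, hinv z hz x hx.2⟩) with h0 | hall
    · refine ⟨m + 1, ?_, hinv'⟩
      have hbij : Function.Bijective fun y : T × (S.sup id : Subgroup V) =>
          (⟨(y.1 : V) * y.2, Subgroup.mul_mem_sup y.1.2 y.2.2⟩ :
            (T ⊔ S.sup id : Subgroup V)) := by
        refine ⟨fun a b e => ?_, fun x => ?_⟩
        · exact Subgroup.mul_injective_of_disjoint (disjoint_iff.2 h0) (congrArg Subtype.val e)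
        · obtain ⟨a, ha, b, hb, e⟩ := Subgroup.mem_sup.1 x.2
          exact ⟨(⟨a, ha⟩, ⟨b, hb⟩), Subtype.ext e⟩
      rw [← Nat.card_eq_of_bijective _ hbij, Nat.card_prod, hm, hTc, pow_succ']
    · refine ⟨m, ?_, hinv'⟩
      rw [sup_eq_right.2 (hall.symm.le.trans inf_le_right), hm]

theorem exists_minimal_invariant (Z : Set (MulAut V)) [Nontrivial V] :
    ∃ U : Subgroup V, U ≠ ⊥ ∧ (∀ z ∈ Z, ∀ x ∈ U, z x ∈ U) ∧
      ∀ W ≤ U, (∀ z ∈ Z, ∀ x ∈ W, z x ∈ W) → W = ⊥ ∨ W = U := by
  obtain ⟨U, ⟨hU, hUi⟩, hmin⟩ := Set.exists_min_image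
    {U : Subgroup V | U ≠ ⊥ ∧ ∀ z ∈ Z, ∀ x ∈ U, z x ∈ U} (fun U => Nat.card U) (Set.toFinite _)
    ⟨⊤, top_ne_bot, fun _ _ _ _ => Subgroup.mem_top _⟩
  refine ⟨U, hU, hUi, fun W hW hWi => ?_⟩
  by_cases h : W = ⊥
  · exact Or.inl h
  · exact Or.inr (Subgroup.eq_of_le_of_card_ge hW (hmin W ⟨h, hWi⟩))

/-- The span of the `N`-translates of a minimal `Z`-invariant subgroup. -/
theorem translates (Z : Set (MulAut V)) (N : Subgroup (MulAut V))
    (hN : ∀ g ∈ N, ∀ z ∈ Z, g⁻¹ * z * g ∈ Z) (U : Subgroup V)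
    (hUi : ∀ z ∈ Z, ∀ x ∈ U, z x ∈ U)
    (hUmin : ∀ W ≤ U, (∀ z ∈ Z, ∀ x ∈ W, z x ∈ W) → W = ⊥ ∨ W = U) :
    ∃ (W : Subgroup V) (m : ℕ), U ≤ W ∧ Nat.card W = Nat.card U ^ m ∧
      (∀ z ∈ Z, ∀ x ∈ W, z x ∈ W) ∧ (∀ g ∈ N, ∀ x ∈ W, g x ∈ W) ∧
      ∀ E : Subgroup V, (∀ g ∈ N, ∀ u ∈ U, g u ∈ E) → W ≤ E := by
  classical
  have := Fintype.ofFinite N
  let S : Finset (Subgroup V) := Finset.univ.image fun g : N => U.map (g : MulAut V).toMonoidHom
  have hS : ∀ T ∈ S, Nat.card T = Nat.card U ∧ (∀ z ∈ Z, ∀ x ∈ T, z x ∈ T) ∧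
      ∀ W ≤ T, (∀ z ∈ Z, ∀ x ∈ W, z x ∈ W) → W = ⊥ ∨ W = T := by
    intro T hT
    obtain ⟨⟨g, hg⟩, -, rfl⟩ := Finset.mem_image.1 hT
    refine ⟨Subgroup.card_map_of_injective g.injective, ?_, fun W hW hWi => ?_⟩
    · rintro z hz _ ⟨x, hx, rfl⟩
      refine ⟨(g⁻¹ * z * g) x, hUi _ (hN g hg z hz) x hx, ?_⟩
      show g ((g⁻¹ * z * g) x) = z (g x)
      simp [MulAut.mul_apply]
    · rcases hUmin (W.comap g.toMonoidHom)
          (fun x hx => by
            obtain ⟨y, hy, e⟩ := hW hx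
            exact g.injective e ▸ hy)
          (fun z hz x hx => by
            show g (z x) ∈ W
            have h1 : g * z * g⁻¹ ∈ Z := by simpa using hN g⁻¹ (N.inv_mem hg) z hz
            have h2 := hWi _ h1 (g x) hx
            simpa [MulAut.mul_apply] using h2) with h | h
      · refine Or.inl ?_
        rw [← Subgroup.map_comap_eq_self_of_surjective (f := g.toMonoidHom) g.surjective W, h,
          Subgroup.map_bot]
      · refine Or.inr ?_
        rw [← Subgroup.map_comap_eq_self_of_surjective (f := g.toMonoidHom) g.surjective W, h]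
  obtain ⟨m, hm, hinv⟩ := card_sup_eq_pow Z _ S hS
  have hU1 : U.map (1 : MulAut V).toMonoidHom = U := by
    ext x; simp
  refine ⟨S.sup id, m, ?_, hm, hinv, ?_, fun E hE => Finset.sup_le fun T hT => ?_⟩
  · have : U.map (1 : MulAut V).toMonoidHom ∈ S :=
      Finset.mem_image.2 ⟨1, Finset.mem_univ _, rfl⟩
    exact hU1 ▸ Finset.le_sup (f := id) this
  · intro g hg x hx
    have hle : S.sup id ≤ (S.sup id).comap g.toMonoidHom := by
      refine Finset.sup_le fun T hT => ?_
      obtain ⟨⟨g', hg'⟩, -, rfl⟩ := Finset.mem_image.1 hT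
      rintro _ ⟨u, hu, rfl⟩
      have hmem : U.map ((⟨g, hg⟩ * ⟨g', hg'⟩ : N) : MulAut V).toMonoidHom ∈ S :=
        Finset.mem_image.2 ⟨_, Finset.mem_univ _, rfl⟩
      exact Finset.le_sup (f := id) hmem ⟨u, hu, rfl⟩
    exact hle hx
  · obtain ⟨⟨g, hg⟩, -, rfl⟩ := Finset.mem_image.1 hT
    rintro _ ⟨u, hu, rfl⟩
    exact hE g hg u hu

/-- An irreducible nilpotent normal subgroup in degree `p` with no `R`-fixed elements is abelian. -/
theorem abelian_of_irreducible {p q : ℕ} (hp : p.Prime) (hq : q.Prime)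
    (hcard : Nat.card V = q ^ p) (K R : Subgroup (MulAut V)) (hnil : Group.IsNilpotent K)
    (hnorm : ∀ r ∈ R, ∀ k ∈ K, r⁻¹ * k * r ∈ K)
    (hirr : ∀ W : Subgroup V, (∀ g ∈ K, ∀ x ∈ W, g x ∈ W) → (∀ g ∈ R, ∀ x ∈ W, g x ∈ W) →
      W = ⊥ ∨ W = ⊤)
    (hfix : ∀ z ∈ K, (∀ r ∈ R, r * z = z * r) → z = 1) :
    ∀ a ∈ K, ∀ b ∈ K, a * b = b * a := by
  have := Fact.mk hq
  have hV : Nontrivial V := Finite.one_lt_card_iff_nontrivial.1
    (hcard ▸ Nat.one_lt_pow hp.ne_zero hq.one_lt)
  have hdeg : ∀ (U : Subgroup V) (m : ℕ), U ≠ ⊥ → Nat.card V = Nat.card U ^ m →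
      Nat.card U = q ∨ U = ⊤ := by
    intro U m hU hm
    obtain ⟨e, he, hUc⟩ := (Nat.dvd_prime_pow hq).1 (hcard ▸ Subgroup.card_subgroup_dvd_card U)
    rw [hcard, hUc, ← pow_mul] at hm
    have hem : p = e * m := Nat.pow_right_injective hq.two_le hm
    rcases (Nat.dvd_prime hp).1 (Dvd.intro m hem.symm) with h | h
    · exact Or.inl (by rw [hUc, h, pow_one])
    · exact Or.inr (Subgroup.eq_top_of_card_eq U (by rw [hUc, hcard, h]))
  intro a ha b hb
  obtain ⟨U, hU, hUi, hUmin⟩ := exists_minimal_invariant (K : Set (MulAut V))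
  obtain ⟨W, m, hUW, hWc, hWK, hWR, hWmin⟩ := translates (K : Set (MulAut V)) R hnorm U hUi hUmin
  have hWtop : W = ⊤ := (hirr W hWK hWR).resolve_left fun e => hU (eq_bot_iff.2 (e ▸ hUW))
  rcases hdeg U m hU (by rw [← hWc, hWtop, Subgroup.card_top]) with h1 | h1
  · -- `K` is diagonal
    have hUcy : IsCyclic U := isCyclic_of_prime_card h1
    have key : ∀ g ∈ K, ∃ i : ℤ, ∀ u ∈ U, g u = u ^ i := fun g hg => by
      obtain ⟨i, hi⟩ := MonoidHom.map_cyclic
        ((g.toMonoidHom.comp U.subtype).codRestrict U fun u => hUi g hg u u.2)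
      exact ⟨i, fun u hu => congrArg Subtype.val (hi ⟨u, hu⟩)⟩
    ext v
    let E : Subgroup V :=
      { carrier := {v | (a * b) v = (b * a) v}
        one_mem' := by simp
        mul_mem' := fun {x y} hx hy => by
          show (a * b) (x * y) = (b * a) (x * y)
          rw [map_mul, map_mul, hx, hy]
        inv_mem' := fun {x} hx => by
          show (a * b) x⁻¹ = (b * a) x⁻¹
          rw [map_inv, map_inv, hx] }
    have hE : W ≤ E := hWmin E fun g hg u hu => by
      obtain ⟨i, hi⟩ := key _ (hnorm g hg a ha)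
      obtain ⟨j, hj⟩ := key _ (hnorm g hg b hb)
      have e1 : ∀ w ∈ U, a (g w) = g (w ^ i) := fun w hw => by
        rw [← hi w hw]; simp [MulAut.mul_apply]
      have e2 : ∀ w ∈ U, b (g w) = g (w ^ j) := fun w hw => by
        rw [← hj w hw]; simp [MulAut.mul_apply]
      show (a * b) (g u) = (b * a) (g u)
      rw [MulAut.mul_apply, MulAut.mul_apply, e2 u hu, e1 u hu, e1 _ (U.zpow_mem hu j),
        e2 _ (U.zpow_mem hu i), ← zpow_mul, ← zpow_mul, mul_comm]
    exact hE (hWtop ▸ Subgroup.mem_top v)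
  subst h1
  -- `K` is irreducible
  by_contra hab
  have : Nontrivial K := ⟨⟨a, ha⟩, 1, fun e => hab (by
    rw [show a = 1 from congrArg Subtype.val e, one_mul, mul_one])⟩
  have := hnil
  obtain ⟨⟨⟨z, hzK⟩, hzc⟩, hz1⟩ := @exists_ne _
    ((Subgroup.nontrivial_iff_ne_bot _).2 (Group.IsNilpotent.center_ne_bot (G := K))) 1
  have hzcomm : ∀ g ∈ K, g * z = z * g := fun g hg =>
    congrArg Subtype.val (Subgroup.mem_center_iff.1 hzc ⟨g, hg⟩)
  obtain ⟨T, hT, hTi, hTmin⟩ := exists_minimal_invariant ({z} : Set (MulAut V))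
  obtain ⟨W', m', hTW, hWc', -, hWK', hWmin'⟩ := translates ({z} : Set (MulAut V)) K
    (fun g hg w hw => by
      rw [Set.mem_singleton_iff] at hw ⊢
      subst hw
      rw [mul_assoc, ← hzcomm g hg, inv_mul_cancel_left]) T hTi hTmin
  have hWtop' : W' = ⊤ :=
    (hUmin W' le_top hWK').resolve_left fun e => hT (eq_bot_iff.2 (e ▸ hTW))
  rcases hdeg T m' hT (by rw [← hWc', hWtop', Subgroup.card_top]) with h2 | h2
  · -- `z` is a scalar
    have hTcy : IsCyclic T := isCyclic_of_prime_card h2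
    obtain ⟨i, hi⟩ := MonoidHom.map_cyclic
      ((z.toMonoidHom.comp T.subtype).codRestrict T fun u => hTi z rfl u u.2)
    let E : Subgroup V :=
      { carrier := {v | z v = v ^ i}
        one_mem' := by simp
        mul_mem' := fun {x y} hx hy => by
          show z (x * y) = (x * y) ^ i
          rw [map_mul, hx, hy, mul_zpow]
        inv_mem' := fun {x} hx => by
          show z x⁻¹ = x⁻¹ ^ i
          rw [map_inv, hx, inv_zpow] }
    have hE : W' ≤ E := hWmin' E fun g hg u hu => by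
      show z (g u) = (g u) ^ i
      rw [← MulAut.mul_apply, ← hzcomm g hg, MulAut.mul_apply, ← map_zpow g]
      exact congrArg g (congrArg Subtype.val (hi ⟨u, hu⟩))
    have hzs : ∀ v, z v = v ^ i := fun v => hE (hWtop' ▸ Subgroup.mem_top v)
    apply hz1
    refine Subtype.ext (Subtype.ext (hfix z hzK fun r _ => MulEquiv.ext fun v => ?_))
    rw [MulAut.mul_apply, MulAut.mul_apply, hzs, map_zpow, ← hzs]
  · -- `z` is irreducible, so its centraliser is commutative
    subst h2
    obtain ⟨v, hv⟩ := exists_ne (1 : V)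
    let E : Subgroup V :=
      { carrier := {u | ∃ φ : V →* V, (∀ g ∈ K, ∀ x, g (φ x) = φ (g x)) ∧
          (∀ x, φ (z x) = z (φ x)) ∧ φ v = u}
        one_mem' := ⟨1, fun g _ x => by simp, fun x => by simp, rfl⟩
        mul_mem' := fun {x y} ⟨φ, h1, h2, h3⟩ ⟨ψ, k1, k2, k3⟩ =>
          ⟨φ * ψ, fun g hg w => by simp [MonoidHom.mul_apply, h1 g hg, k1 g hg],
            fun w => by simp [MonoidHom.mul_apply, h2, k2], by simp [MonoidHom.mul_apply, h3, k3]⟩
        inv_mem' := fun {x} ⟨φ, h1, h2, h3⟩ =>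
          ⟨φ⁻¹, fun g hg w => by simp [h1 g hg], fun w => by simp [h2], by simp [h3]⟩ }
    have hEz : ∀ w ∈ ({z} : Set (MulAut V)), ∀ u ∈ E, w u ∈ E := by
      rintro w (rfl : w = z) u ⟨φ, h1, h2, h3⟩
      refine ⟨w.toMonoidHom.comp φ, fun g hg x => ?_, fun x => ?_, ?_⟩
      · show g (w (φ x)) = w (φ (g x))
        rw [← h1 g hg x, ← MulAut.mul_apply, hzcomm g hg, MulAut.mul_apply]
      · show w (φ (w x)) = w (w (φ x))
        rw [h2]
      · show w (φ v) = w u
        rw [h3]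
    have hEtop : E = ⊤ := (hTmin E le_top hEz).resolve_left fun e => hv (Subgroup.mem_bot.1
      (e ▸ (⟨MonoidHom.id V, fun _ _ _ => rfl, fun _ => rfl, rfl⟩ : v ∈ E)))
    obtain ⟨φ, h1, h2, h3⟩ := (hEtop.symm ▸ Subgroup.mem_top (a v) : a v ∈ E)
    let F : Subgroup V :=
      { carrier := {u | φ u = a u}
        one_mem' := by simp
        mul_mem' := fun {x y} hx hy => by
          show φ (x * y) = a (x * y)
          rw [map_mul, map_mul, hx, hy]
        inv_mem' := fun {x} hx => by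
          show φ x⁻¹ = a x⁻¹
          rw [map_inv, map_inv, hx] }
    have hFtop : F = ⊤ := (hTmin F le_top (by
      rintro w (rfl : w = z) u hu
      show φ (w u) = a (w u)
      rw [h2, hu, ← MulAut.mul_apply, ← hzcomm a ha, MulAut.mul_apply])).resolve_left
        fun e => hv (Subgroup.mem_bot.1 (e ▸ (h3 : v ∈ F)))
    have hφa : ∀ u, φ u = a u := fun u => (hFtop.symm ▸ Subgroup.mem_top u : u ∈ F)
    refine hab (MulEquiv.ext fun x => ?_)
    rw [MulAut.mul_apply, MulAut.mul_apply, ← hφa, ← hφa, h1 b hb]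

end aut

section free

variable {k : Type*} [Field k] {A : Type*} [Group A] [Finite A] {V : Type*} [AddCommGroup V]
  [Module k V] [Finite V]

omit [Finite V] in
/-- In a free module, equal fixed points force a prime order and determine the order. -/
theorem free_card (ρ : Representation k A V) (H : Subgroup A) [Fintype H] (W : Submodule k V)
    (hW : FrobeniusFree.Free ρ H W) (hH : H ≠ ⊥) (hV : Nontrivial V)
    (hpr : ∀ g ∈ H, g ≠ 1 → ∀ v : V, ρ g v = v → ∀ h ∈ H, ρ h v = v) :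
    (Nat.card H).Prime ∧
      Nat.card V = Nat.card {v : V // ∀ h ∈ H, ρ h v = v} ^ Nat.card H := by
  classical
  let Φ : (H → W) → V := fun f => ∑ h : H, ρ (h : A) (f h)
  have hΦ : Function.Bijective Φ := by
    refine ⟨fun f g e => ?_, fun v => ?_⟩
    · have h1 := hW.2 (fun h => (f h : V) - g h) (fun h => W.sub_mem (f h).2 (g h).2) (by
        simp only [map_sub, Finset.sum_sub_distrib]
        exact sub_eq_zero.2 e)
      exact funext fun h => Subtype.ext (sub_eq_zero.1 (congrFun h1 h))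
    · obtain ⟨f, hf, e⟩ := hW.1 v
      exact ⟨fun h => ⟨f h, hf h⟩, e.symm⟩
  have hshift : ∀ (g : H) (f : H → W), ρ (g : A) (Φ f) = Φ fun h => f (g⁻¹ * h) := by
    intro g f
    simp only [Φ, map_sum]
    refine Fintype.sum_equiv (Equiv.mulLeft g) _ _ fun h => ?_
    rw [← Module.End.mul_apply, ← map_mul]
    simp
  have hfixed : ∀ (g : H) (f : H → W), ρ (g : A) (Φ f) = Φ f ↔ ∀ h, f (g * h) = f h := by
    intro g f
    rw [hshift, hΦ.1.eq_iff, funext_iff]
    exact ⟨fun e h => by simpa using (e (g * h)).symm, fun e h => by simpa using (e (g⁻¹ * h)).symm⟩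
  have hWne : Nontrivial W := by
    by_contra hn
    rw [not_nontrivial_iff_subsingleton] at hn
    have : Subsingleton V := hΦ.2.subsingleton
    exact not_subsingleton V this
  obtain ⟨w, hw⟩ := exists_ne (0 : W)
  refine ⟨?_, ?_⟩
  · -- every non-identity element generates
    have hgen : ∀ g : H, g ≠ 1 → Subgroup.zpowers g = ⊤ := by
      intro g hg
      let f : H → W := fun h => if h ∈ Subgroup.zpowers g then w else 0
      have h1 : ρ (g : A) (Φ f) = Φ f := (hfixed g f).2 fun h => by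
        simp only [f, Subgroup.mul_mem_cancel_left _ (Subgroup.mem_zpowers g)]
      rw [eq_top_iff]
      intro h _
      have h2 := (hfixed h f).1 (hpr g g.2 (fun e => hg (Subtype.ext e)) _ h1 h h.2) 1
      simp only [f, mul_one, Subgroup.one_mem, if_true] at h2
      by_contra hh
      rw [if_neg hh] at h2
      exact hw h2.symm
    have : Nontrivial H := (Subgroup.nontrivial_iff_ne_bot H).2 hH
    obtain ⟨r, hr, hrd⟩ := Nat.exists_prime_and_dvd (n := Nat.card H) Finite.one_lt_card.ne'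
    have := Fact.mk hr
    obtain ⟨g, hg⟩ := exists_prime_orderOf_dvd_card' (G := H) r hrd
    have h3 := hgen g fun e => hr.ne_one (by rw [← hg, e, orderOf_one])
    rwa [← Subgroup.card_top (G := H), ← h3, Nat.card_zpowers, hg]
  · rw [← Nat.card_eq_of_bijective Φ hΦ, Nat.card_fun]
    congr 1
    refine Nat.card_eq_of_bijective
      (fun u : W => (⟨Φ fun _ => u, fun h hh => (hfixed ⟨h, hh⟩ _).2 fun _ => rfl⟩ :
        {v : V // ∀ h ∈ H, ρ h v = v})) ⟨fun u u' e => ?_, fun v => ?_⟩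
    · exact congrFun (hΦ.1 (congrArg Subtype.val e)) 1
    · obtain ⟨f, hf⟩ := hΦ.2 v.1
      refine ⟨f 1, Subtype.ext ?_⟩
      have : (fun _ : H => f 1) = f := funext fun h => by
        have := (hfixed h f).1 (hf.symm ▸ v.2 h h.2) 1
        rw [mul_one] at this
        exact this.symm
      show Φ _ = v.1
      rw [this, hf]

end free

/-- The representation over `ZMod q` of an action on an abelian group of exponent `q`. -/
noncomputable def repOf (q : ℕ) {L : Type*} [Group L] {V : Type*} [CommGroup V]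
    [Module (ZMod q) (Additive V)] (φ : L →* MulAut V) : Representation (ZMod q) L (Additive V) where
  toFun g := (MonoidHom.toAdditive (φ g).toMonoidHom).toZModLinearMap q
  map_one' := LinearMap.ext fun x => by
    show Additive.ofMul (φ 1 x.toMul) = x
    rw [map_one]; rfl
  map_mul' g h := LinearMap.ext fun x => by
    show Additive.ofMul (φ (g * h) x.toMul) = Additive.ofMul (φ g (φ h x.toMul))
    rw [map_mul]; rfl

variable {X : Type u} [Group X] [Finite X]

/-- The hypotheses. -/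
structure Setting (K R M : Subgroup X) : Prop where
  R_norm : R ≤ Subgroup.normalizer (K : Set X)
  K_inf : K ⊓ R = ⊥
  fpf : ∀ r ∈ R, r ≠ 1 → K ⊓ Subgroup.centralizer ({r} : Set X) = ⊥
  K_nil : Group.IsNilpotent K
  M_nil : Group.IsNilpotent M
  KM : K ≤ Subgroup.normalizer (M : Set X)
  RM : R ≤ Subgroup.normalizer (M : Set X)
  coprime : (Nat.card ↥(K ⊔ R)).Coprime (Nat.card M)
  fixK : M ⊓ Subgroup.centralizer (K : Set X) = ⊥
  fixR : ∀ x ∈ R, x ≠ 1 → M ⊓ Subgroup.centralizer ({x} : Set X) = M ⊓ Subgroup.centralizer (R : Set X)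

theorem coprime_K_R {K R : Subgroup X} (hR : R ≤ Subgroup.normalizer (K : Set X))
    (hfpf : ∀ r ∈ R, r ≠ 1 → K ⊓ Subgroup.centralizer ({r} : Set X) = ⊥) :
    (Nat.card R).Coprime (Nat.card K) := by
  rw [Nat.coprime_iff_gcd_eq_one]
  by_contra hne
  obtain ⟨p, hp, hpd⟩ := Nat.exists_prime_and_dvd hne
  have := Fact.mk hp
  obtain ⟨⟨r, hr⟩, hro⟩ := exists_prime_orderOf_dvd_card' (G := R) p (hpd.trans (Nat.gcd_dvd_left _ _))
  rw [Subgroup.orderOf_mk] at hro
  let _ := FrobeniusFPF.conjAction (Subgroup.zpowers r) K ((Subgroup.zpowers_le.2 hr).trans hR)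
  have hP : IsPGroup p (Subgroup.zpowers r) :=
    IsPGroup.of_card (n := 1) (by rw [pow_one, Nat.card_zpowers, hro])
  obtain ⟨x, hx, hx1⟩ := hP.exists_fixed_point_of_prime_dvd_card_of_fixed_point K
    (hpd.trans (Nat.gcd_dvd_right _ _)) (a := (1 : K)) (MulAction.mem_fixedPoints.2 fun b => smul_one b)
  refine hx1 (Subtype.ext (Subgroup.mem_bot.1 ((hfpf r hr fun e => hp.ne_one
    (by rw [← hro, e, orderOf_one])).le ⟨x.2, ?_⟩)).symm)
  exact Subgroup.mem_centralizer_singleton_iff.2 (mul_inv_eq_iff_eq_mul.1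
    (congrArg Subtype.val (MulAction.mem_fixedPoints.1 hx ⟨r, Subgroup.mem_zpowers r⟩))).symm

/-- The conclusions on an elementary abelian layer. -/
theorem layer {K R M V : Subgroup X} (S : Setting K R M) (hK : K ≠ ⊥) (hR : R ≠ ⊥) {q : ℕ}
    (hq : q.Prime) (hVM : V ≤ M) (hV : V ≠ ⊥) (hVc : ∀ x ∈ V, ∀ y ∈ V, x * y = y * x)
    (hVq : ∀ x ∈ V, x ^ q = 1) (hKV : K ≤ Subgroup.normalizer (V : Set X))
    (hRV : R ≤ Subgroup.normalizer (V : Set X))
    (hmin : ∀ W ≤ V, K ≤ Subgroup.normalizer (W : Set X) → R ≤ Subgroup.normalizer (W : Set X) →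
      W = ⊥ ∨ W = V) :
    (Nat.card R).Prime ∧
      Nat.card V = Nat.card ↥(V ⊓ Subgroup.centralizer (R : Set X)) ^ Nat.card R ∧
      (IsCyclic ↥(V ⊓ Subgroup.centralizer (R : Set X)) →
        ⁅K, K⁆ ≤ Subgroup.centralizer (V : Set X)) := by
  classical
  have := Fact.mk hq
  set L := K ⊔ R with hL
  have hLV : L ≤ Subgroup.normalizer (V : Set X) := sup_le hKV hRV
  let _ : CommGroup V := { (inferInstance : Group V) with
    mul_comm := fun a b => Subtype.ext (hVc a a.2 b b.2) }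
  set N := Subgroup.normalizer (V : Set X) with hN
  let c : N →* MulAut V :=
    { toFun := fun g =>
        { toFun := fun w => ⟨(g : X) * w * (g : X)⁻¹, conj_mem g.2 w.2⟩
          invFun := fun w => ⟨(g : X)⁻¹ * w * g, by simpa using conj_mem (inv_mem g.2) w.2⟩
          left_inv := fun w => Subtype.ext (by simp [mul_assoc])
          right_inv := fun w => Subtype.ext (by simp [mul_assoc])
          map_mul' := fun a b => Subtype.ext (by simp [mul_assoc]) }
      map_one' := MulEquiv.ext fun w => Subtype.ext (by simp)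
      map_mul' := fun a b => MulEquiv.ext fun w => Subtype.ext (by simp [mul_assoc]) }
  have hc : ∀ g w, ((c g w : V) : X) = (g : X) * w * (g : X)⁻¹ := fun _ _ => rfl
  -- the module
  let cL : L →* MulAut V := c.comp (Subgroup.inclusion hLV)
  have hcL : ∀ (g : L) (w : V), ((cL g w : V) : X) = (g : X) * w * (g : X)⁻¹ := fun _ _ => rfl
  have hexp : ∀ x : Additive V, q • x = 0 := fun x => by
    have h1 : x.toMul ^ q = 1 := Subtype.ext (by simpa using hVq _ x.toMul.2)
    exact Additive.toMul.injective (by simpa using h1)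
  let _ : Module (ZMod q) (Additive V) := AddCommGroup.zmodModule (G := Additive V) (n := q) hexp
  let ρ : Representation (ZMod q) L (Additive V) := repOf q cL
  have hρ : ∀ (g : L) (x : Additive V), ρ g x = x ↔
      (g : X) * (x.toMul : V) = (x.toMul : V) * (g : X) := by
    intro g x
    rw [← mul_inv_eq_iff_eq_mul, ← hcL]
    constructor
    · intro h
      exact congrArg (fun y : Additive V => ((y.toMul : V) : X)) h
    · intro h
      exact Additive.toMul.injective (Subtype.ext h)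
  set E := K.subgroupOf L with hE
  set H := R.subgroupOf L with hH
  have hKL : K ≤ L := le_sup_left
  have hRL : R ≤ L := le_sup_right
  have hEn : E.Normal :=
    Subgroup.normal_subgroupOf_of_le_normalizer (sup_le Subgroup.le_normalizer S.R_norm)
  have hEc : Nat.card E = Nat.card K := Nat.card_congr (Subgroup.subgroupOfEquivOfLe hKL).toEquiv
  have hHc : Nat.card H = Nat.card R := Nat.card_congr (Subgroup.subgroupOfEquivOfLe hRL).toEquiv
  have hEnil : Group.IsNilpotent E := by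
    have := S.K_nil
    exact Group.nilpotent_of_surjective (Subgroup.subgroupOfEquivOfLe hKL).symm.toMonoidHom
      (Subgroup.subgroupOfEquivOfLe hKL).symm.surjective
  have hVq' : q ∣ Nat.card V := by
    obtain ⟨x, hx, hx1⟩ := V.bot_or_exists_ne_one.resolve_left hV
    exact orderOf_eq_prime (hVq x hx) hx1 ▸ Subgroup.orderOf_dvd_natCard _ hx
  have hqK : ¬ q ∣ Nat.card K := fun h => hq.not_dvd_one (S.coprime ▸ Nat.dvd_gcd
    (h.trans (Subgroup.card_dvd_of_le hKL)) (hVq'.trans (Subgroup.card_dvd_of_le hVM)))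
  have := Fintype.ofFinite H
  have : FiniteDimensional (ZMod q) (Additive V) := Module.Finite.of_finite
  have hCV : V ⊓ Subgroup.centralizer (K : Set X) = ⊥ :=
    eq_bot_iff.2 ((inf_le_inf_right _ hVM).trans S.fixK.le)
  obtain ⟨W, hW⟩ := FrobeniusFree.exists_free_aux (k := ZMod q) H _ E (Nat.lt_succ_self _) hEn hEnil
    (by rw [hEc, ne_eq, ZMod.natCast_eq_zero_iff]; exact hqK)
    (fun h hh h1 e he hcomm => by
      refine Subtype.ext (Subgroup.mem_bot.1 ((S.fpf (h : X) hh (fun e' => h1 (Subtype.ext e'))).le ?_))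
      exact ⟨he, Subgroup.mem_centralizer_singleton_iff.2 (congrArg Subtype.val hcomm).symm⟩)
    (Additive V) ρ (fun x hx => by
      refine Additive.toMul.injective (Subtype.ext (Subgroup.mem_bot.1 (hCV.le ⟨x.toMul.2, ?_⟩)))
      intro k hk
      exact (hρ ⟨k, hKL hk⟩ x).1 (hx _ hk))
  have hVnt : Nontrivial V := (Subgroup.nontrivial_iff_ne_bot V).2 hV
  obtain ⟨hp, hcard⟩ := free_card ρ H W hW
    (fun e => hR (by
      rw [hH, Subgroup.subgroupOf_eq_bot, disjoint_iff, inf_eq_left.2 hRL] at e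
      exact e)) inferInstance
    (fun g hg g1 x hx h hh => (hρ h x).2 (by
      have h1 : ((x.toMul : V) : X) ∈ M ⊓ Subgroup.centralizer ({(g : X)} : Set X) :=
        ⟨hVM x.toMul.2, Subgroup.mem_centralizer_singleton_iff.2 ((hρ g x).1 hx).symm⟩
      rw [S.fixR (g : X) hg (fun e' => g1 (Subtype.ext e'))] at h1
      exact h1.2 (h : X) hh))
  rw [hHc] at hp hcard
  have hfix : Nat.card {x : Additive V // ∀ h ∈ H, ρ h x = x} =
      Nat.card ↥(V ⊓ Subgroup.centralizer (R : Set X)) := by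
    refine Nat.card_congr ⟨fun x => ⟨(x.1.toMul : V), x.1.toMul.2, fun r hr => (hρ ⟨r, hRL hr⟩ x.1).1
      (x.2 _ hr)⟩, fun y => ⟨Additive.ofMul ⟨y, y.2.1⟩, fun h hh => (hρ h _).2 (y.2.2 (h : X) hh)⟩,
      fun x => rfl, fun y => rfl⟩
  rw [hfix] at hcard
  have hcard' : Nat.card V = Nat.card ↥(V ⊓ Subgroup.centralizer (R : Set X)) ^ Nat.card R := hcard
  refine ⟨hp, hcard', fun hcyc => ?_⟩
  -- the fixed points have order `q`
  set C := V ⊓ Subgroup.centralizer (R : Set X)
  have hCq : Nat.card C = q := by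
    obtain ⟨g, hg⟩ := hcyc.exists_ofOrder_eq_natCard
    have h1 : g ^ q = 1 := Subtype.ext (by simpa using hVq _ g.2.1)
    rcases (Nat.dvd_prime hq).1 (hg ▸ orderOf_dvd_of_pow_eq_one h1) with h | h
    · exfalso
      rw [h, one_pow] at hcard'
      exact hV (Subgroup.card_eq_one.1 hcard')
    · exact h
  rw [hCq] at hcard'
  -- the images in `Aut V`
  have hcoset : ∀ k ∈ K, ∀ r ∈ R, r ≠ 1 →
      k⁻¹ * (r * k * r⁻¹) ∈ Subgroup.centralizer (V : Set X) →
      k ∈ Subgroup.centralizer (V : Set X) := by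
    intro k hk r hr hr1 hkr
    set D := K ⊓ Subgroup.centralizer (V : Set X) with hD
    have hrD : r ∈ Subgroup.normalizer (D : Set X) :=
      (le_normalizer_inf S.R_norm (CoprimeTools.le_normalizer_centralizer_of_le hRV)) hr
    have := Fact.mk hp
    let Y : Type u := {u : X // k⁻¹ * u ∈ D}
    have hstab : ∀ a ∈ Subgroup.zpowers r, ∀ u : X, k⁻¹ * u ∈ D → k⁻¹ * (a * u * a⁻¹) ∈ D := by
      have hr0 : ∀ u : X, k⁻¹ * u ∈ D → k⁻¹ * (r * u * r⁻¹) ∈ D := fun u hu => by
        have e : k⁻¹ * (r * u * r⁻¹) = (k⁻¹ * (r * k * r⁻¹)) * (r * (k⁻¹ * u) * r⁻¹) := by group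
        rw [e]
        exact D.mul_mem ⟨K.mul_mem (K.inv_mem hk) (conj_mem (S.R_norm hr) hk), hkr⟩
          (conj_mem hrD hu)
      intro a ha
      obtain ⟨n, rfl⟩ := mem_powers_iff_mem_zpowers.2 ha
      clear ha
      show ∀ u : X, k⁻¹ * u ∈ D → k⁻¹ * (r ^ n * u * (r ^ n)⁻¹) ∈ D
      induction n with
      | zero => simp
      | succ n ih =>
        intro u hu
        have := hr0 _ (ih u hu)
        convert this using 2
        simp [pow_succ', mul_assoc]
    let _ : MulAction (Subgroup.zpowers r) Y :=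
      { smul := fun a u => ⟨(a : X) * u.1 * (a : X)⁻¹, hstab _ a.2 _ u.2⟩
        one_smul := fun u => Subtype.ext (by show ((1 : Subgroup.zpowers r) : X) * u.1 * _ = _; simp)
        mul_smul := fun a b u => Subtype.ext (by
          show ((a * b : Subgroup.zpowers r) : X) * u.1 * _ = (a : X) * ((b : X) * u.1 * (b : X)⁻¹) * _
          simp [mul_assoc]) }
    have hY : Nat.card Y = Nat.card D := Nat.card_congr
      ⟨fun u => ⟨k⁻¹ * u.1, u.2⟩, fun d => ⟨k * d, by simp⟩,
        fun u => Subtype.ext (by simp), fun d => Subtype.ext (by simp)⟩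
    have hrp : IsPGroup (Nat.card R) (Subgroup.zpowers r) := IsPGroup.of_card (n := 1) (by
      rw [pow_one, Nat.card_zpowers]
      exact ((Nat.dvd_prime hp).1 (Subgroup.orderOf_dvd_natCard _ hr)).resolve_left
        fun e => hr1 (orderOf_eq_one_iff.1 e))
    obtain ⟨u, hu⟩ := hrp.nonempty_fixed_point_of_prime_not_dvd_card Y (fun h => hp.not_dvd_one
      (((coprime_K_R S.R_norm S.fpf).coprime_dvd_right (Subgroup.card_dvd_of_le inf_le_left)) ▸
        Nat.dvd_gcd dvd_rfl (hY ▸ h)))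
    have hu1 : u.1 ∈ K := by simpa using K.mul_mem hk u.2.1
    have hu2 : u.1 = 1 := by
      refine Subgroup.mem_bot.1 ((S.fpf r hr hr1).le ⟨hu1, Subgroup.mem_centralizer_singleton_iff.2 ?_⟩)
      have := congrArg Subtype.val (MulAction.mem_fixedPoints.1 hu ⟨r, Subgroup.mem_zpowers r⟩)
      exact (mul_inv_eq_iff_eq_mul.1 this).symm
    have := u.2.2
    rw [hu2, mul_one] at this
    simpa using Subgroup.inv_mem _ this
  have hker : ∀ g : N, c g = 1 → (g : X) ∈ Subgroup.centralizer (V : Set X) := fun g hg v hv => by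
    have := congrArg Subtype.val (DFunLike.congr_fun hg (⟨v, hv⟩ : V))
    rw [hc, MulAut.one_apply] at this
    exact (mul_inv_eq_iff_eq_mul.1 this).symm
  have hirr : ∀ W : Subgroup V, (∀ g ∈ (K.subgroupOf N).map c, ∀ x ∈ W, g x ∈ W) →
      (∀ g ∈ (R.subgroupOf N).map c, ∀ x ∈ W, g x ∈ W) → W = ⊥ ∨ W = ⊤ := by
    intro W hWK hWR
    have hn : ∀ (Q : Subgroup X) (hQ : Q ≤ N), (∀ g ∈ (Q.subgroupOf N).map c, ∀ x ∈ W, g x ∈ W) →
        Q ≤ Subgroup.normalizer ((W.map V.subtype : Subgroup X) : Set X) := fun Q hQ h =>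
      FrobeniusThompson.le_normalizer_of_conj fun g hg x hx => by
        obtain ⟨w, hw, rfl⟩ := hx
        exact ⟨c ⟨g, hQ hg⟩ w, h _ ⟨⟨g, hQ hg⟩, hg, rfl⟩ w hw, hc _ _⟩
    rcases hmin (W.map V.subtype) (Subgroup.map_subtype_le W) (hn K hKV hWK) (hn R hRV hWR) with h | h
    · exact Or.inl ((Subgroup.map_eq_bot_iff_of_injective _ V.subtype_injective).1 h)
    · refine Or.inr (Subgroup.map_injective V.subtype_injective ?_)
      rw [h, ← MonoidHom.range_eq_map, Subgroup.range_subtype]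
  have hab := abelian_of_irreducible hp hq hcard' ((K.subgroupOf N).map c) ((R.subgroupOf N).map c)
    (by
      have := S.K_nil
      have : Group.IsNilpotent (K.subgroupOf N) :=
        Group.nilpotent_of_surjective (Subgroup.subgroupOfEquivOfLe hKV).symm.toMonoidHom
          (Subgroup.subgroupOfEquivOfLe hKV).symm.surjective
      exact Group.nilpotent_of_surjective (c.subgroupMap _) (c.subgroupMap_surjective _))
    (by
      rintro _ ⟨r, hr, rfl⟩ _ ⟨k, hk, rfl⟩
      exact ⟨r⁻¹ * k * r, conj_mem' (a := (r : X)) (S.R_norm hr) hk, by rw [map_mul, map_mul, map_inv]⟩)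
    hirr (by
      rintro _ ⟨k, hk, rfl⟩ hcomm
      obtain ⟨r, hr, hr1⟩ := R.bot_or_exists_ne_one.resolve_left hR
      have h1 := hcomm (c ⟨r, hRV hr⟩) ⟨⟨r, hRV hr⟩, hr, rfl⟩
      have h2 : c (k⁻¹ * (⟨r, hRV hr⟩ * k * (⟨r, hRV hr⟩ : N)⁻¹)) = 1 := by
        rw [map_mul, map_mul, map_mul, map_inv, map_inv, h1, mul_inv_cancel_right, inv_mul_cancel]
      have h3 := hcoset (k : X) hk r hr hr1 (hker _ h2)
      refine MulEquiv.ext fun w => Subtype.ext ?_
      rw [hc, MulAut.one_apply]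
      exact mul_inv_eq_iff_eq_mul.2 (h3 _ w.2).symm)
  rw [Subgroup.commutator_le]
  intro a ha b hb
  refine hker ⁅(⟨a, hKV ha⟩ : N), ⟨b, hKV hb⟩⁆ ?_
  rw [map_commutatorElement, commutatorElement_eq_one_iff_mul_comm]
  exact hab _ ⟨_, ha, rfl⟩ _ ⟨_, hb, rfl⟩

theorem exists_layer {K R M : Subgroup X} (S : Setting K R M) (hM : M ≠ ⊥) :
    ∃ (V : Subgroup X) (q : ℕ), q.Prime ∧ V ≤ M ∧ V ≠ ⊥ ∧
      M ≤ Subgroup.centralizer (V : Set X) ∧ (∀ x ∈ V, ∀ y ∈ V, x * y = y * x) ∧
      (∀ x ∈ V, x ^ q = 1) ∧ K ≤ Subgroup.normalizer (V : Set X) ∧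
      R ≤ Subgroup.normalizer (V : Set X) ∧
      ∀ W ≤ V, K ≤ Subgroup.normalizer (W : Set X) → R ≤ Subgroup.normalizer (W : Set X) →
        W = ⊥ ∨ W = V := by
  set Z := FrobeniusThompson.zOf M
  have hZc : ∀ x ∈ Z, ∀ y ∈ Z, x * y = y * x := fun x hx y hy => hy.2 x hx.1
  have hZne : Z ≠ ⊥ := by
    intro e
    have : Nontrivial M := (Subgroup.nontrivial_iff_ne_bot M).2 hM
    have := S.M_nil
    apply Group.IsNilpotent.center_ne_bot (G := M)
    rw [Subgroup.eq_bot_iff_forall]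
    intro z hz
    have hmem : (z : X) ∈ Z :=
      ⟨z.2, fun u hu => congrArg Subtype.val (Subgroup.mem_center_iff.1 hz ⟨u, hu⟩)⟩
    rw [e, Subgroup.mem_bot] at hmem
    exact Subtype.ext hmem
  obtain ⟨q, hq, hqd⟩ := Nat.exists_prime_and_dvd (n := Nat.card Z)
    (fun e => hZne (Subgroup.card_eq_one.1 e))
  have := Fact.mk hq
  let V₁ : Subgroup X :=
    { carrier := {x | x ∈ Z ∧ x ^ q = 1}
      one_mem' := ⟨one_mem _, one_pow _⟩
      mul_mem' := fun {x y} hx hy => ⟨mul_mem hx.1 hy.1, by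
        rw [(show Commute x y from hZc x hx.1 y hy.1).mul_pow, hx.2, hy.2, one_mul]⟩
      inv_mem' := fun {x} hx => ⟨inv_mem hx.1, by rw [inv_pow, hx.2, inv_one]⟩ }
  have hn : ∀ Q : Subgroup X, Q ≤ Subgroup.normalizer (M : Set X) →
      Q ≤ Subgroup.normalizer (V₁ : Set X) := fun Q hQ =>
    FrobeniusThompson.le_normalizer_of_conj fun g hg x hx =>
      ⟨conj_mem (FrobeniusThompson.normalizer_le_normalizer_zOf M (hQ hg)) hx.1,
        by rw [conj_pow, hx.2, mul_one, mul_inv_cancel]⟩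
  have hV₁ne : V₁ ≠ ⊥ := by
    obtain ⟨x, hx⟩ := exists_prime_orderOf_dvd_card' (G := Z) q hqd
    intro e
    have hxm : (x : X) ∈ V₁ := ⟨x.2, by
      have := congrArg Subtype.val (hx ▸ pow_orderOf_eq_one x : x ^ q = 1)
      simpa using this⟩
    rw [e, Subgroup.mem_bot] at hxm
    have : x = 1 := Subtype.ext hxm
    rw [this, orderOf_one] at hx
    exact hq.ne_one hx.symm
  obtain ⟨V, ⟨hVV, hVne, hVK, hVR⟩, hmin⟩ := Set.exists_min_image
    {W : Subgroup X | W ≤ V₁ ∧ W ≠ ⊥ ∧ K ≤ Subgroup.normalizer (W : Set X) ∧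
      R ≤ Subgroup.normalizer (W : Set X)} (fun W => Nat.card W) (Set.toFinite _)
    ⟨V₁, le_rfl, hV₁ne, hn K S.KM, hn R S.RM⟩
  refine ⟨V, q, hq, fun x hx => (hVV hx).1.1, hVne,
    fun m hm v hv => ((hVV hv).1.2 m hm).symm,
    fun x hx y hy => hZc x (hVV hx).1 y (hVV hy).1, fun x hx => (hVV hx).2, hVK, hVR,
    fun W hW hWK hWR => ?_⟩
  by_cases hWb : W = ⊥
  · exact Or.inl hWb
  · exact Or.inr (Subgroup.eq_of_le_of_card_ge hW (hmin W ⟨hW.trans hVV, hWb, hWK, hWR⟩))

theorem induction_step (n : ℕ) : ∀ (X : Type u) [Group X] [Finite X] (K R M : Subgroup X),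
    Nat.card M < n → M ⊔ (K ⊔ R) = ⊤ → K ≠ ⊥ → R ≠ ⊥ → Setting K R M →
    Nat.card M = Nat.card ↥(M ⊓ Subgroup.centralizer (R : Set X)) ^ Nat.card R ∧
      (IsCyclic ↥(M ⊓ Subgroup.centralizer (R : Set X)) →
        ⁅K, K⁆ ≤ Subgroup.centralizer (M : Set X)) := by
  induction n with
  | zero => intro X _ _ K R M h; omega
  | succ n ih =>
    intro X _ _ K R M hn htop hK hR S
    by_cases hM : M = ⊥
    · subst hM
      refine ⟨by rw [bot_inf_eq]; simp, fun _ x _ y hy => ?_⟩
      rw [Subgroup.mem_bot.1 hy, one_mul, mul_one]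
    obtain ⟨V, q, hq, hVM, hV, hMV, hVc, hVq, hKV, hRV, hmin⟩ := exists_layer S hM
    obtain ⟨-, hcard, hder⟩ := layer S hK hR hq hVM hV hVc hVq hKV hRV hmin
    have hVn : V.Normal := Subgroup.normalizer_eq_top_iff.1 (top_le_iff.1 (htop ▸
      sup_le (hMV.trans (Subgroup.centralizer_le_normalizer _)) (sup_le hKV hRV)))
    set f := QuotientGroup.mk' V with hf
    have hMn : Group.IsNilpotent M := S.M_nil
    have hKn : Group.IsNilpotent K := S.K_nil
    have hcopKM : (Nat.card K).Coprime (Nat.card M) := coprime_of_le_left le_sup_left S.coprime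
    have hcopRM : (Nat.card R).Coprime (Nat.card M) := coprime_of_le_left le_sup_right S.coprime
    have hcopRK := coprime_K_R S.R_norm S.fpf
    have hinj : ∀ Q : Subgroup X, (Nat.card Q).Coprime (Nat.card M) → ∀ x ∈ Q, f x = 1 → x = 1 :=
      fun Q hQ x hx e => orderOf_eq_one_iff.1 (Nat.eq_one_of_dvd_coprimes hQ
        (Subgroup.orderOf_dvd_natCard _ hx)
        (Subgroup.orderOf_dvd_natCard _ (hVM ((QuotientGroup.eq_one_iff x).1 e))))
    have hRz : ∀ x ∈ R, Subgroup.zpowers x ≤ R := fun x hx => Subgroup.zpowers_le.2 hx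
    have hmapfix : ∀ (Q : Subgroup X), (∀ x ∈ R, x ≠ 1 → R ≤ Subgroup.normalizer (Q : Set X) →
        (Nat.card R).Coprime (Nat.card Q) →
        (Q ⊓ Subgroup.centralizer ({x} : Set X)).map f =
          Q.map f ⊓ Subgroup.centralizer ({f x} : Set (X ⧸ V))) := fun Q x hx _ hQn hQc => by
      have h1 := map_inf_centralizer_eq f ((hRz x hx).trans hQn) (coprime_of_le_left (hRz x hx) hQc)
        (Or.inl inferInstance)
      rwa [MonoidHom.map_zpowers, Subgroup.zpowers_eq_closure, Subgroup.zpowers_eq_closure,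
        Subgroup.centralizer_closure, Subgroup.centralizer_closure] at h1
    have hKsolv : Group.IsSolvable K := inferInstance
    have hMsolv : Group.IsSolvable M := inferInstance
    have hfixR := map_inf_centralizer_eq f S.RM hcopRM (Or.inr hMsolv)
    have hfixK := map_inf_centralizer_eq f S.KM hcopKM (Or.inl hKsolv)
    rw [S.fixK, Subgroup.map_bot] at hfixK
    have S' : Setting (K.map f) (R.map f) (M.map f) :=
      { R_norm := (Subgroup.map_mono S.R_norm).trans (Subgroup.le_normalizer_map f)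
        K_inf := by
          rw [Subgroup.eq_bot_iff_forall]
          rintro _ ⟨⟨k, hk, rfl⟩, hr⟩
          exact orderOf_eq_one_iff.1 (Nat.eq_one_of_dvd_coprimes hcopRK
            ((Subgroup.orderOf_dvd_natCard _ hr).trans (Subgroup.card_map_dvd R f))
            ((Subgroup.orderOf_dvd_natCard _ (Subgroup.mem_map_of_mem f hk)).trans
              (Subgroup.card_map_dvd K f)))
        fpf := by
          rintro _ ⟨r, hr, rfl⟩ hr1
          rw [← hmapfix K r hr (fun e => hr1 (by rw [e, map_one])) S.R_norm hcopRK,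
            S.fpf r hr (fun e => hr1 (by rw [e, map_one])), Subgroup.map_bot]
        K_nil := Group.nilpotent_of_surjective (f.subgroupMap K) (f.subgroupMap_surjective K)
        M_nil := Group.nilpotent_of_surjective (f.subgroupMap M) (f.subgroupMap_surjective M)
        KM := (Subgroup.map_mono S.KM).trans (Subgroup.le_normalizer_map f)
        RM := (Subgroup.map_mono S.RM).trans (Subgroup.le_normalizer_map f)
        coprime := by
          rw [← Subgroup.map_sup]
          exact (S.coprime.coprime_dvd_left (Subgroup.card_map_dvd _ f)).coprime_dvd_right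
            (Subgroup.card_map_dvd M f)
        fixK := hfixK.symm
        fixR := by
          rintro _ ⟨r, hr, rfl⟩ hr1
          rw [← hmapfix M r hr (fun e => hr1 (by rw [e, map_one])) S.RM hcopRM,
            S.fixR r hr (fun e => hr1 (by rw [e, map_one])), hfixR] }
    have hMcard := HallCore.card_map_mk'_mul V M hVM
    have hlt : Nat.card (M.map f) < n := by
      have h2 := V.one_lt_card_iff_ne_bot.2 hV
      have h3 : 0 < Nat.card (M.map f) := Nat.card_pos
      nlinarith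
    obtain ⟨hq1, hq2⟩ := ih _ (K.map f) (R.map f) (M.map f) hlt
      (by rw [← Subgroup.map_sup, ← Subgroup.map_sup, htop,
        Subgroup.map_top_of_surjective _ (QuotientGroup.mk'_surjective V)])
      (fun e => by
        obtain ⟨x, hx, hx1⟩ := K.bot_or_exists_ne_one.resolve_left hK
        exact hx1 (hinj K hcopKM x hx (Subgroup.mem_bot.1 (e ▸ Subgroup.mem_map_of_mem f hx))))
      (fun e => by
        obtain ⟨x, hx, hx1⟩ := R.bot_or_exists_ne_one.resolve_left hR
        exact hx1 (hinj R hcopRM x hx (Subgroup.mem_bot.1 (e ▸ Subgroup.mem_map_of_mem f hx)))) S'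
    set C := M ⊓ Subgroup.centralizer (R : Set X) with hC
    have hRc : Nat.card (R.map f) = Nat.card R := by
      refine (Nat.card_eq_of_bijective _ ⟨?_, f.subgroupMap_surjective R⟩).symm
      intro a b e
      have h1 : f ((a : X)⁻¹ * b) = 1 := by
        rw [map_mul, map_inv, inv_mul_eq_one]
        exact congrArg Subtype.val e
      exact Subtype.ext (inv_mul_eq_one.1 (hinj R hcopRM _ (R.mul_mem (R.inv_mem a.2) b.2) h1))
    rw [← hfixR, hRc] at hq1
    rw [← hfixR] at hq2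
    have hCcard : Nat.card (C.map f) * Nat.card ↥(V ⊓ Subgroup.centralizer (R : Set X)) =
        Nat.card C := by
      have h1 : (f.comp C.subtype).ker = (V ⊓ Subgroup.centralizer (R : Set X)).subgroupOf C := by
        ext x
        rw [MonoidHom.mem_ker, Subgroup.mem_subgroupOf, MonoidHom.comp_apply, Subgroup.coe_subtype,
          hf, QuotientGroup.mk'_apply, QuotientGroup.eq_one_iff]
        exact ⟨fun h => ⟨h, x.2.2⟩, fun h => h.1⟩
      have h2 := (f.comp C.subtype).ker.index_mul_card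
      rw [Subgroup.index_ker, MonoidHom.range_comp, Subgroup.range_subtype, h1,
        Nat.card_congr (Subgroup.subgroupOfEquivOfLe (inf_le_inf_right _ hVM)).toEquiv] at h2
      exact h2
    refine ⟨?_, fun hcyc => ?_⟩
    · rw [← hMcard, ← hCcard, mul_pow, ← hq1, ← hcard]
    · have h1 : ⁅K.map f, K.map f⁆ ≤ Subgroup.centralizer (M.map f : Set (X ⧸ V)) :=
        hq2 (isCyclic_of_surjective (f.subgroupMap C) (f.subgroupMap_surjective C))
      have h2 := hder (isCyclic_of_injective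
        (Subgroup.inclusion (inf_le_inf_right (Subgroup.centralizer (R : Set X)) hVM))
        (Subgroup.inclusion_injective _))
      have hDK : ⁅K, K⁆ ≤ K := Subgroup.commutator_le_self K
      refine le_centralizer_of_commutator_commutator_eq_bot (hDK.trans S.KM)
        (coprime_of_le_left hDK hcopKM) (Or.inr hMsolv) ?_
      rw [Subgroup.commutator_eq_bot_iff_le_centralizer]
      refine le_trans (?_ : ⁅M, ⁅K, K⁆⁆ ≤ V) (fun v hv d hd => ((h2 hd) v hv).symm)
      rw [Subgroup.commutator_le]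
      intro m hm d hd
      rw [← QuotientGroup.eq_one_iff]
      show f ⁅m, d⁆ = 1
      rw [map_commutatorElement, commutatorElement_eq_one_iff_mul_comm]
      refine h1 ?_ _ (Subgroup.mem_map_of_mem f hm)
      rw [← Subgroup.map_commutator]
      exact Subgroup.mem_map_of_mem f hd

omit [Finite X] in
theorem centralizer_comap {Y : Type u} [Group Y] (ι : Y →* X) (hι : Function.Injective ι)
    (S : Set X) (hS : S ⊆ Set.range ι) :
    (Subgroup.centralizer S).comap ι = Subgroup.centralizer (ι ⁻¹' S) := by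
  ext y
  simp only [Subgroup.mem_comap, Subgroup.mem_centralizer_iff]
  constructor
  · intro h s hs
    exact hι (by rw [map_mul, map_mul, h _ hs])
  · intro h s hs
    obtain ⟨t, rfl⟩ := hS hs
    rw [← map_mul, ← map_mul, h t hs]

theorem main (K R M : Subgroup X) (hK : K ≠ ⊥) (hR : R ≠ ⊥) (hKR : K ⊓ R = ⊥)
    (hRK : R ≤ Subgroup.normalizer (K : Set X))
    (hfrob : ∀ r ∈ R, r ≠ 1 → K ⊓ Subgroup.centralizer ({r} : Set X) = ⊥)
    (hM : M ≠ ⊥) (hMn : Group.IsNilpotent M) (hKM : K ≤ Subgroup.normalizer (M : Set X))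
    (hRM : R ≤ Subgroup.normalizer (M : Set X))
    (hcop : (Nat.card ↥(K ⊔ R)).Coprime (Nat.card M))
    (hCK : M ⊓ Subgroup.centralizer (K : Set X) = ⊥)
    (hpr : ∀ x ∈ R, x ≠ 1 →
      M ⊓ Subgroup.centralizer ({x} : Set X) = M ⊓ Subgroup.centralizer (R : Set X)) :
    (Nat.card R).Prime ∧
      Nat.card M = Nat.card ↥(M ⊓ Subgroup.centralizer (R : Set X)) ^ Nat.card R ∧
      (IsCyclic ↥(M ⊓ Subgroup.centralizer (R : Set X)) →
        ⁅K, K⁆ ≤ Subgroup.centralizer (M : Set X)) := by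
  have hKn : Group.IsNilpotent K := by
    obtain ⟨r, hr, hrd⟩ := Nat.exists_prime_and_dvd (n := Nat.card R)
      (fun e => hR (Subgroup.card_eq_one.1 e))
    have := Fact.mk hr
    obtain ⟨⟨x, hx⟩, hxo⟩ := exists_prime_orderOf_dvd_card' (G := R) r hrd
    rw [Subgroup.orderOf_mk] at hxo
    have hx1 : x ≠ 1 := fun e => hr.ne_one (by rw [← hxo, e, orderOf_one])
    let φ : ↥(Subgroup.normalizer (K : Set X)) →* MulAut K :=
      { toFun := fun g =>
          { toFun := fun w => ⟨(g : X) * w * (g : X)⁻¹, conj_mem g.2 w.2⟩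
            invFun := fun w => ⟨(g : X)⁻¹ * w * g, by simpa using conj_mem (inv_mem g.2) w.2⟩
            left_inv := fun w => Subtype.ext (by simp [mul_assoc])
            right_inv := fun w => Subtype.ext (by simp [mul_assoc])
            map_mul' := fun a b => Subtype.ext (by simp [mul_assoc]) }
        map_one' := MulEquiv.ext fun w => Subtype.ext (by simp)
        map_mul' := fun a b => MulEquiv.ext fun w => Subtype.ext (by simp [mul_assoc]) }
    refine FrobeniusNilpotent.isNilpotent_of_fpf (φ ⟨x, hRK hx⟩) (fun k hk => ?_) r hr ?_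
    · refine Subtype.ext (Subgroup.mem_bot.1 ((hfrob x hx hx1).le ⟨k.2, ?_⟩))
      exact Subgroup.mem_centralizer_singleton_iff.2
        (mul_inv_eq_iff_eq_mul.1 (congrArg Subtype.val hk)).symm
    · rw [← map_pow, ← map_one φ]
      congr 1
      exact Subtype.ext (by simp [← hxo, pow_orderOf_eq_one])
  have S : Setting K R M := ⟨hRK, hKR, hfrob, hKn, hMn, hKM, hRM, hcop, hCK, hpr⟩
  obtain ⟨V, q, hq, hVM, hV, -, hVc, hVq, hKV, hRV, hmin⟩ := exists_layer S hM
  refine ⟨(layer S hK hR hq hVM hV hVc hVq hKV hRV hmin).1, ?_⟩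
  -- work inside `M K R`
  set X₀ := M ⊔ (K ⊔ R) with hX₀
  have hMX : M ≤ X₀ := le_sup_left
  have hKX : K ≤ X₀ := le_sup_left.trans le_sup_right
  have hRX : R ≤ X₀ := le_sup_right.trans le_sup_right
  have hcard : ∀ {Q : Subgroup X}, Q ≤ X₀ → Nat.card (Q.subgroupOf X₀) = Nat.card Q := fun h =>
    Nat.card_congr (Subgroup.subgroupOfEquivOfLe h).toEquiv
  have hcen : ∀ (T : Set X), T ⊆ X₀ → ∀ Q : Subgroup X,
      (Q ⊓ Subgroup.centralizer T).subgroupOf X₀ =
        Q.subgroupOf X₀ ⊓ Subgroup.centralizer (X₀.subtype ⁻¹' T) := fun T hT Q => by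
    rw [Subgroup.subgroupOf, Subgroup.comap_inf, centralizer_comap X₀.subtype X₀.subtype_injective T
      (fun t ht => ⟨⟨t, hT ht⟩, rfl⟩)]
    rfl
  have hsingle : ∀ (x : X₀), (X₀.subtype ⁻¹' ({(x : X)} : Set X)) = {x} := fun x =>
    Set.ext fun y => ⟨fun h => Subtype.ext h, fun h => congrArg Subtype.val h⟩
  have hnorm : ∀ {Q T : Subgroup X}, Q ≤ Subgroup.normalizer (T : Set X) →
      Q.subgroupOf X₀ ≤ Subgroup.normalizer ((T.subgroupOf X₀ : Subgroup X₀) : Set X₀) :=
    fun h x hx => Subgroup.mem_normalizer_iff.2 fun y =>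
      Subgroup.mem_normalizer_iff.1 (h hx) (y : X)
  have hbot : ∀ {Q : Subgroup X}, Q ≤ X₀ → Q ≠ ⊥ → Q.subgroupOf X₀ ≠ ⊥ := fun h hne e => hne (by
    rw [← Subgroup.card_eq_one, ← hcard h, e, Subgroup.card_bot])
  have hnilp : ∀ {Q : Subgroup X}, Q ≤ X₀ → Group.IsNilpotent Q →
      Group.IsNilpotent (Q.subgroupOf X₀) := fun h hQ => by
    have := hQ
    exact Group.nilpotent_of_surjective (Subgroup.subgroupOfEquivOfLe h).symm.toMonoidHom
      (Subgroup.subgroupOfEquivOfLe h).symm.surjective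
  have hsupKR : (K ⊔ R).subgroupOf X₀ = K.subgroupOf X₀ ⊔ R.subgroupOf X₀ :=
    Subgroup.subgroupOf_sup hKX hRX
  have S₀ : Setting (K.subgroupOf X₀) (R.subgroupOf X₀) (M.subgroupOf X₀) :=
    { R_norm := hnorm hRK
      K_inf := by
        rw [Subgroup.subgroupOf, Subgroup.subgroupOf, ← Subgroup.comap_inf, hKR]
        exact Subgroup.bot_subgroupOf X₀
      fpf := fun r hr hr1 => by
        rw [← hsingle r, ← hcen _ (Set.singleton_subset_iff.2 r.2),
          hfrob r hr (fun e => hr1 (Subtype.ext e)), Subgroup.bot_subgroupOf]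
      K_nil := hnilp hKX hKn
      M_nil := hnilp hMX hMn
      KM := hnorm hKM
      RM := hnorm hRM
      coprime := by
        rw [← hsupKR, hcard (sup_le hKX hRX), hcard hMX]
        exact hcop
      fixK := by
        rw [show ((K.subgroupOf X₀ : Subgroup X₀) : Set X₀) = X₀.subtype ⁻¹' (K : Set X) from rfl,
          ← hcen _ hKX, hCK, Subgroup.bot_subgroupOf]
      fixR := fun r hr hr1 => by
        rw [← hsingle r, ← hcen _ (Set.singleton_subset_iff.2 r.2),
          show ((R.subgroupOf X₀ : Subgroup X₀) : Set X₀) = X₀.subtype ⁻¹' (R : Set X) from rfl,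
          ← hcen _ hRX, hpr r hr (fun e => hr1 (Subtype.ext e))] }
  obtain ⟨h1, h2⟩ := induction_step _ X₀ _ _ _ (Nat.lt_succ_self _) (by
    rw [← hsupKR, ← Subgroup.subgroupOf_sup hMX (sup_le hKX hRX), Subgroup.subgroupOf_self])
    (hbot hKX hK) (hbot hRX hR) S₀
  rw [show ((R.subgroupOf X₀ : Subgroup X₀) : Set X₀) = X₀.subtype ⁻¹' (R : Set X) from rfl,
    ← hcen _ hRX, hcard (inf_le_left.trans hMX), hcard hMX, hcard hRX] at h1
  rw [show ((R.subgroupOf X₀ : Subgroup X₀) : Set X₀) = X₀.subtype ⁻¹' (R : Set X) from rfl,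
    ← hcen _ hRX] at h2
  refine ⟨h1, fun hcyc => ?_⟩
  have h3 := h2 ((Subgroup.subgroupOfEquivOfLe (inf_le_left.trans hMX)).isCyclic.2 hcyc)
  rw [Subgroup.commutator_le]
  intro a ha b hb m hm
  exact congrArg Subtype.val (h3 (Subgroup.commutator_mem_commutator
    (show (⟨a, hKX ha⟩ : X₀) ∈ K.subgroupOf X₀ from ha)
    (show (⟨b, hKX hb⟩ : X₀) ∈ K.subgroupOf X₀ from hb)) ⟨m, hMX hm⟩ hm)

end Cfsg.Agent.FrobeniusPrimeAct
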