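import Mathlib
import Cfsg.Agent.S1446
import Cfsg.Agent.Lib.BGFrobeniusAct
import Cfsg.Agent.Lib.CharTwoLocal
import Cfsg.Agent.Lib.CoprimeExtra
import Cfsg.Agent.Lib.CoprimeTools
import Cfsg.Agent.Lib.SignalizerCoprime
import Cfsg.Agent.Lib.ComponentsCores

/-!
A `q`-group `Q` acted on by `D K`, with `K` fixed-point-free on `D`, `D` nontrivial on `Q`, and
every non-identity element of `K` having the same centralizer of order `q` on `Q`
(the situation of Bender-Glauberman 15.2 (e), (f)).
-/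

set_option autoImplicit false
set_option linter.style.haveILetI false

namespace Cfsg.Agent.BGFcoreAct72

open Subgroup
open scoped commutatorElement

universe u

variable {G : Type u} [Group G] [Finite G]

/-- Fixed points of an element on an image are images of fixed points, for coprime orders. -/
theorem map_fix {G' : Type*} [Group G'] (f : G →* G') {k : G} {S : Subgroup G}
    (hk : k ∈ normalizer (S : Set G)) (hc : (orderOf k).Coprime (Nat.card S)) :
    S.map f ⊓ centralizer ({f k} : Set G') = (S ⊓ centralizer ({k} : Set G)).map f := by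
  have h := CoprimeAction.map_inf_centralizer_eq (A := zpowers k) (K := S) f (zpowers_le.2 hk)
    (by rwa [Nat.card_zpowers]) (Or.inl (CoprimeAction.isSolvable_zpowers k))
  rw [MonoidHom.map_zpowers, zpowers_eq_closure, zpowers_eq_closure, centralizer_closure,
    centralizer_closure] at h
  exact h.symm

/-- Cardinality of the image of a subgroup meeting the kernel trivially. -/
theorem card_map_of_inf_ker {G' : Type*} [Group G'] (f : G →* G') {S : Subgroup G}
    (h : S ⊓ f.ker = ⊥) : Nat.card (S.map f) = Nat.card S := by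
  have hinj : Function.Injective (f.comp S.subtype) := by
    rw [injective_iff_map_eq_one]
    intro x hx
    have h1 : (x : G) ∈ S ⊓ f.ker := ⟨x.2, hx⟩
    rw [h, mem_bot] at h1
    exact Subtype.ext h1
  rw [show S.map f = (f.comp S.subtype).range by rw [MonoidHom.range_comp, range_subtype]]
  exact (Nat.card_congr (MonoidHom.ofInjective hinj).toEquiv).symm

theorem complement_structure {M K Q D : Subgroup G} {q : ℕ} [Fact q.Prime]
    (hsol : Group.IsSolvable M) (hodd : Odd (Nat.card M))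
    (hQ : IsPGroup q Q) (hQn : M ≤ normalizer (Q : Set G)) (hM : M = (Q ⊔ D) ⊔ K)
    (hKD : K ≤ normalizer (D : Set G))
    (hDQ' : (Nat.card D).Coprime (Nat.card Q)) (hKQ' : (Nat.card K).Coprime (Nat.card Q))
    (hKD' : (Nat.card K).Coprime (Nat.card D))
    (hK1 : K ≠ ⊥) (hnc : ¬ D ≤ centralizer (Q : Set G))
    (hfree : ∀ k ∈ K, k ≠ 1 → D ⊓ centralizer ({k} : Set G) = ⊥)
    (hfix : ∀ k ∈ K, k ≠ 1 →
      Q ⊓ centralizer ({k} : Set G) = Q ⊓ centralizer (K : Set G))
    (hcard : Nat.card ↥(Q ⊓ centralizer (K : Set G)) = q) :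
    (Nat.card K).Prime ∧
      M ≤ normalizer ((Q ⊓ centralizer (D : Set G) : Subgroup G) : Set G) ∧
      Q ⊓ centralizer (D : Set G) < Q ∧
      Nat.card Q = Nat.card ↥(Q ⊓ centralizer (D : Set G)) * q ^ Nat.card K ∧
      (∀ a ∈ Q, ∀ b ∈ Q, a ^ q ∈ Q ⊓ centralizer (D : Set G) ∧
        a * b * a⁻¹ * b⁻¹ ∈ Q ⊓ centralizer (D : Set G)) ∧
      ∀ N : Subgroup G, Q ⊓ centralizer (D : Set G) < N → N < Q →
        ¬ M ≤ normalizer (N : Set G) := by
  have hQM : Q ≤ M := hM ▸ le_sup_left.trans le_sup_left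
  have hDM : D ≤ M := hM ▸ le_sup_right.trans le_sup_left
  have hKM : K ≤ M := hM ▸ le_sup_right
  set C := Q ⊓ centralizer (K : Set G) with hC
  set Q0 := Q ⊓ centralizer (D : Set G) with hQ0
  have hDQ : D ≤ normalizer (Q : Set G) := hDM.trans hQn
  have hKQ : K ≤ normalizer (Q : Set G) := hKM.trans hQn
  haveI : Group.IsNilpotent Q := hQ.isNilpotent
  have hQs : Group.IsSolvable Q := inferInstance
  -- the commutator `A = [Q, D]`
  set A := ⁅Q, D⁆ with hA
  have hAQ : A ≤ Q := CoprimeAction.commutator_le_self_of_le_normalizer hDQ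
  have hAD : ⁅A, D⁆ = A := CoprimeAction.commutator_commutator_eq hDQ hDQ' (Or.inr hQs)
  have hA1 : A ≠ ⊥ := fun h =>
    hnc (le_centralizer_iff.1 (commutator_eq_bot_iff_le_centralizer.1 h))
  have hAn : M ≤ normalizer (A : Set G) := by
    rw [hM]
    exact sup_le CoprimeExtra.le_normalizer_commutator
      (CoprimeTools.le_normalizer_commutator_of_le hKQ hKD)
  have hN0 : ⁅A, Q⁆ < A := CharTwoLocal.commutator_lt (hQ.to_le hAQ) hQ (hQM.trans hAn) hA1
  have hN0n : M ≤ normalizer ((⁅A, Q⁆ : Subgroup G) : Set G) :=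
    CoprimeTools.le_normalizer_commutator_of_le hAn hQn
  -- proper normal parts of `A` are centralized by `D`
  have key : ∀ V : Subgroup G, V ≤ A → V ≠ A → M ≤ normalizer (V : Set G) → ⁅A, Q⁆ ≤ V →
      V ≤ centralizer (D : Set G) := by
    intro V hVA hne hVn hN0V
    have hVQ : V ≤ Q := hVA.trans hAQ
    rcases PGroupsBasic.le_or_inf_eq_bot (hcard : Nat.card C = q) V with hCV | hCV
    · exfalso
      apply hne
      refine le_antisymm hVA ?_
      haveI : (V.subgroupOf M).Normal := normal_subgroupOf_of_le_normalizer hVn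
      set f := QuotientGroup.mk' (V.subgroupOf M) with hf
      haveI : (A.subgroupOf M).Normal := normal_subgroupOf_of_le_normalizer hAn
      haveI : ((A.subgroupOf M).map f).Normal :=
        Normal.map inferInstance f (QuotientGroup.mk'_surjective _)
      have hcomm := BGFrobeniusAct.commute_of_abelian f (K := D.subgroupOf M) (R := K.subgroupOf M)
        (V := (A.subgroupOf M).map f) ?_ ?_ ?_ ?_ ?_ ?_ ?_ ?_
      · rw [← hAD, commutator_le]
        intro a ha d hd
        have h1 := (hcomm ⟨d, hDM hd⟩ hd _ (mem_map_of_mem f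
          (show (⟨a, hQM (hAQ ha)⟩ : M) ∈ A.subgroupOf M from ha))).eq
        have h2 : f ⁅(⟨a, hQM (hAQ ha)⟩ : M), (⟨d, hDM hd⟩ : M)⁆ = 1 := by
          rw [map_commutatorElement, commutatorElement_eq_one_iff_mul_comm]
          exact h1.symm
        exact mem_subgroupOf.1 ((QuotientGroup.eq_one_iff (N := V.subgroupOf M) _).1 h2)
      · rw [ne_eq, subgroupOf_eq_bot, disjoint_iff, inf_eq_left.2 hKM]
        exact hK1
      · intro r hr
        rw [mem_normalizer_iff]
        intro x
        exact mem_normalizer_iff.1 (hKD hr) x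
      · intro r hr hr1
        rw [eq_bot_iff]
        intro x hx
        have hx' : (x : G) ∈ D ⊓ centralizer ({(r : G)} : Set G) :=
          ⟨hx.1, mem_centralizer_singleton_iff.2
            (congrArg Subtype.val (mem_centralizer_singleton_iff.1 hx.2))⟩
        rw [hfree r hr fun h => hr1 (Subtype.ext h), mem_bot] at hx'
        exact Subtype.ext hx'
      · refine PGroupsBasic.isMulCommutative_of_forall ?_
        rintro _ ⟨x, hx, rfl⟩ _ ⟨y, hy, rfl⟩
        rw [← map_mul, ← map_mul, hf, QuotientGroup.mk'_eq_mk']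
        refine ⟨(x * y)⁻¹ * (y * x), hN0V ?_, by group⟩
        have := commutator_mem_commutator (A.inv_mem hy) (Q.inv_mem (hAQ hx))
        rw [commutatorElement_def] at this
        simp only [Subgroup.coe_subtype] at this
        convert this using 1
        show ((x : G) * y)⁻¹ * (y * x) = _
        group
      · rw [normalizer_eq_top]; exact le_top
      · rw [normalizer_eq_top]; exact le_top
      · rw [← CoprimeAction.map_inf_centralizer_eq (A := K.subgroupOf M) (K := A.subgroupOf M) f,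
          eq_bot_iff]
        · rintro _ ⟨x, hx, rfl⟩
          refine mem_bot.2 ((QuotientGroup.eq_one_iff _).2 (hCV ⟨hAQ hx.1, ?_⟩))
          exact mem_centralizer_iff.2 fun k hk =>
            congrArg Subtype.val (mem_centralizer_iff.1 hx.2 ⟨k, hKM hk⟩ hk)
        · rw [normalizer_eq_top]; exact le_top
        · rw [Nat.card_congr (subgroupOfEquivOfLe hKM).toEquiv,
            Nat.card_congr (subgroupOfEquivOfLe (hAQ.trans hQM)).toEquiv]
          exact hKQ'.coprime_dvd_right (card_dvd_of_le hAQ)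
        · exact Or.inr inferInstance
      · rw [Nat.card_congr (subgroupOfEquivOfLe hDM).toEquiv]
        refine hDQ'.coprime_dvd_right ((card_map_dvd _ f).trans ?_)
        rw [Nat.card_congr (subgroupOfEquivOfLe (hAQ.trans hQM)).toEquiv]
        exact card_dvd_of_le hAQ
    · refine le_centralizer_iff.1 (BGFrobeniusAct.le_centralizer hK1 hKD hfree (hDM.trans hVn)
        (hKM.trans hVn) (hDQ'.coprime_dvd_right (card_dvd_of_le hVQ))
        (hKQ'.coprime_dvd_right (card_dvd_of_le hVQ)) (CoprimeAction.isSolvable_of_le hVQ) ?_)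
      rw [eq_bot_iff, ← hCV]
      exact fun x hx => ⟨⟨hVQ hx.1, hx.2⟩, hx.1⟩
  have hN0Q0 : ⁅A, Q⁆ ≤ Q0 := le_inf (hN0.le.trans hAQ) (key _ hN0.le hN0.ne hN0n le_rfl)
  have hQsup : A ⊔ Q0 = Q := CoprimeAction.commutator_sup_centralizer_eq hDQ hDQ' (Or.inr hQs)
  have hQ0n : M ≤ normalizer (Q0 : Set G) := by
    have hQn0 : Q ≤ normalizer (Q0 : Set G) := by
      calc Q = A ⊔ Q0 := hQsup.symm
        _ ≤ _ := by
          refine sup_le (le_normalizer_iff_commutator_le_left.2 ?_) le_normalizer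
          rw [commutator_comm]
          exact (commutator_mono le_rfl inf_le_left).trans hN0Q0
    rw [hM]
    exact sup_le (sup_le hQn0
      (CoprimeAction.le_normalizer_inf hDQ (CoprimeAction.le_normalizer_centralizer_self D)))
      (CoprimeAction.le_normalizer_inf hKQ (CoprimeTools.le_normalizer_centralizer_of_le hKD))
  have hQ0lt : Q0 < Q := lt_of_le_of_ne inf_le_left fun h =>
    hnc (le_centralizer_iff.1 (inf_eq_left.1 h))
  -- `Q / Q0` is a chief factor
  have hchief : ∀ N : Subgroup G, Q0 < N → N < Q → ¬ M ≤ normalizer (N : Set G) := by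
    intro N h1 h2 hNn
    have hV : N ⊓ A ≤ centralizer (D : Set G) :=
      key _ inf_le_right (fun h => h2.not_ge (hQsup ▸ sup_le (h ▸ inf_le_left) h1.le))
        (CoprimeAction.le_normalizer_inf hNn hAn) (le_inf (hN0Q0.trans h1.le) hN0.le)
    refine h1.not_ge fun n hn => ?_
    obtain ⟨x, hx, c, hc, rfl⟩ :=
      CoprimeAction.exists_mul_fixed hDQ hDQ' (Or.inr hQs) (h2.le hn)
    have hxN : x ∈ N := by
      have h3 := N.mul_mem hn (N.inv_mem (h1.le hc))
      rwa [mul_inv_cancel_right] at h3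
    exact Q0.mul_mem ⟨hAQ hx, hV ⟨hxN, hx⟩⟩ hc
  -- it is elementary abelian
  haveI : (frattini Q).Characteristic := frattini_characteristic
  set Φ := (frattini Q).map Q.subtype with hΦ
  have hΦle : Φ ≤ Q0 := by
    have hne : Q0 ⊔ Φ ≠ Q := by
      intro h
      refine hQ0lt.not_ge (subgroupOf_eq_top.1 (frattini_nongenerating ?_))
      refine map_injective Q.subtype_injective ?_
      rw [Subgroup.map_sup, map_subgroupOf_eq_of_le inf_le_left, ← MonoidHom.range_eq_map,
        range_subtype]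
      exact h
    rcases (le_sup_left : Q0 ≤ Q0 ⊔ Φ).eq_or_lt with h | h
    · exact h ▸ le_sup_right
    · exact absurd (SignalizerCoprime.le_normalizer_sup hQ0n
        (hQn.trans (ComponentsCores.normalizer_le_normalizer_map_subtype Q (frattini Q))))
        (hchief _ h (lt_of_le_of_ne (sup_le inf_le_left (map_subtype_le _)) hne))
  have hpow : ∀ a ∈ Q, ∀ b ∈ Q, a ^ q ∈ Q0 ∧ a * b * a⁻¹ * b⁻¹ ∈ Q0 := by
    intro a ha b hb
    refine ⟨hΦle ⟨_, PGroupsBasic.pow_mem_frattini hQ ⟨a, ha⟩, rfl⟩,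
      hΦle ⟨⁅(⟨a, ha⟩ : Q), (⟨b, hb⟩ : Q)⁆, PGroupsBasic.commutator_le_frattini hQ ?_, rfl⟩⟩
    exact commutator_mem_commutator (mem_top (⟨a, ha⟩ : Q)) (mem_top (⟨b, hb⟩ : Q))
  -- order
  haveI : (Q0.subgroupOf M).Normal := normal_subgroupOf_of_le_normalizer hQ0n
  set f := QuotientGroup.mk' (Q0.subgroupOf M) with hf
  set Db := (D.subgroupOf M).map f
  set Kb := (K.subgroupOf M).map f
  set Qb := (Q.subgroupOf M).map f
  have hQ0M : Q0 ≤ M := inf_le_left.trans hQM
  have hker : ∀ v : M, f v = 1 ↔ (v : G) ∈ Q0 := fun v =>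
    (QuotientGroup.eq_one_iff v).trans mem_subgroupOf
  have hinf : ∀ {X : Subgroup G}, X ≤ M → (Nat.card X).Coprime (Nat.card Q) →
      X.subgroupOf M ⊓ f.ker = ⊥ := by
    intro X hX hc
    rw [eq_bot_iff]
    intro x hx
    have h1 : (x : G) ∈ X ⊓ Q := ⟨hx.1, ((hker x).1 hx.2).1⟩
    rw [inf_eq_bot_of_coprime hc, mem_bot] at h1
    exact Subtype.ext h1
  have hDbc : Nat.card Db = Nat.card D :=
    (card_map_of_inf_ker f (hinf hDM hDQ')).trans (Nat.card_congr (subgroupOfEquivOfLe hDM).toEquiv)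
  have hKbc : Nat.card Kb = Nat.card K :=
    (card_map_of_inf_ker f (hinf hKM hKQ')).trans (Nat.card_congr (subgroupOfEquivOfLe hKM).toEquiv)
  have hQbd : Nat.card Qb ∣ Nat.card Q :=
    (card_map_dvd _ f).trans (dvd_of_eq (Nat.card_congr (subgroupOfEquivOfLe hQM).toEquiv))
  have hQb1 : Qb ≠ ⊥ := fun h => hQ0lt.not_ge fun c hc =>
    (hker ⟨c, hQM hc⟩).1 (mem_bot.1 (h ▸ mem_map_of_mem f
      (show (⟨c, hQM hc⟩ : M) ∈ Q.subgroupOf M from hc)))
  have hnormM : ∀ {X Y : Subgroup G}, X ≤ normalizer (Y : Set G) →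
      X.subgroupOf M ≤ normalizer ((Y.subgroupOf M : Subgroup M) : Set M) := by
    intro X Y h x hx
    rw [mem_normalizer_iff]
    intro y
    exact mem_normalizer_iff.1 (h hx) y
  have hKDb : Kb ≤ normalizer (Db : Set _) :=
    le_trans (map_mono (hnormM hKD)) (le_normalizer_map f)
  have hKQb : Kb ≤ normalizer (Qb : Set _) :=
    le_trans (map_mono (hnormM hKQ)) (le_normalizer_map f)
  have hcentK : ∀ k : M, (k : G) ∈ K → k ≠ 1 →
      Q.subgroupOf M ⊓ centralizer ({k} : Set M) =
        Q.subgroupOf M ⊓ centralizer ((K.subgroupOf M : Subgroup M) : Set M) := by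
    intro k hk hk1
    ext x
    constructor
    · rintro ⟨hxQ, hxk⟩
      refine ⟨hxQ, mem_centralizer_iff.2 fun l hl => ?_⟩
      have h1 : (x : G) ∈ Q ⊓ centralizer ({(k : G)} : Set G) :=
        ⟨hxQ, mem_centralizer_singleton_iff.2
          (congrArg Subtype.val (mem_centralizer_singleton_iff.1 hxk))⟩
      rw [hfix _ hk fun h => hk1 (Subtype.ext h)] at h1
      exact Subtype.ext (mem_centralizer_iff.1 h1.2 l hl)
    · rintro ⟨hxQ, hxK⟩
      exact ⟨hxQ, mem_centralizer_singleton_iff.2 (mem_centralizer_iff.1 hxK k hk).symm⟩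
  have hcQK : (Nat.card (K.subgroupOf M)).Coprime (Nat.card (Q.subgroupOf M)) := by
    rw [Nat.card_congr (subgroupOfEquivOfLe hKM).toEquiv,
      Nat.card_congr (subgroupOfEquivOfLe hQM).toEquiv]
    exact hKQ'
  have hres := S1446.result Db Kb Qb ?_ ?_ ?_ hKDb ?_
    (Group.isSolvable_of_isSolvable_injective (Db ⊔ Kb).subtype_injective) ?_ hQb1 ?_ ?_ hKQb ?_ ?_ ?_
  rotate_left
  · intro h
    have : D = ⊥ := eq_bot_of_card_eq D (by rw [← hDbc, h, card_bot])
    exact hnc (this ▸ bot_le)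
  · exact fun h => hK1 (eq_bot_of_card_eq K (by rw [← hKbc, h, card_bot]))
  · exact inf_eq_bot_of_coprime (by rw [hDbc, hKbc]; exact hKD'.symm)
  · rintro r ⟨k, hk, rfl⟩ hr
    have hk1 : k ≠ 1 := fun e => hr (by rw [e, map_one])
    rw [map_fix f (hnormM hKD hk) ?_, eq_bot_iff]
    · rintro _ ⟨x, hx, rfl⟩
      have h1 : (x : G) ∈ D ⊓ centralizer ({(k : G)} : Set G) :=
        ⟨hx.1, mem_centralizer_singleton_iff.2
          (congrArg Subtype.val (mem_centralizer_singleton_iff.1 hx.2))⟩
      rw [hfree (k : G) hk fun h => hk1 (Subtype.ext h), mem_bot] at h1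
      rw [show x = 1 from Subtype.ext h1, map_one]
      exact one_mem _
    · rw [Nat.card_congr (subgroupOfEquivOfLe hDM).toEquiv]
      exact hKD'.coprime_dvd_left ((orderOf_submonoid k ▸ K.orderOf_dvd_natCard hk :))
  · exact hodd.of_dvd_nat ((card_subgroup_dvd_card _).trans (Subgroup.card_quotient_dvd_card _))
  · exact ((hQ.comap_of_injective M.subtype M.subtype_injective).map f).isNilpotent
  · exact le_trans (map_mono (hnormM hDQ)) (le_normalizer_map f)
  · refine Nat.Coprime.coprime_dvd_left (SignalizerCoprime.card_sup_dvd_mul hKDb) ?_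
    rw [hDbc, hKbc]
    exact (hDQ'.mul_left hKQ').coprime_dvd_right hQbd
  · rw [← CoprimeAction.map_inf_centralizer_eq f (hnormM hDQ) ?_ ?_, eq_bot_iff]
    · rintro _ ⟨x, hx, rfl⟩
      refine mem_bot.2 ((hker x).2 ⟨hx.1, mem_centralizer_iff.2 fun d hd => ?_⟩)
      exact congrArg Subtype.val (mem_centralizer_iff.1 hx.2 ⟨d, hDM hd⟩ hd)
    · rw [Nat.card_congr (subgroupOfEquivOfLe hDM).toEquiv,
        Nat.card_congr (subgroupOfEquivOfLe hQM).toEquiv]
      exact hDQ'
    · exact Or.inr inferInstance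
  · rintro _ ⟨k, hk, rfl⟩ hk1
    have hk1' : k ≠ 1 := fun e => hk1 (by rw [e, map_one])
    rw [← CoprimeAction.map_inf_centralizer_eq f (hnormM hKQ) hcQK (Or.inr inferInstance),
      map_fix f (hnormM hKQ hk)
        (hcQK.coprime_dvd_left (Subgroup.orderOf_dvd_natCard _ hk)),
      hcentK k hk hk1']
  obtain ⟨hp, hQbc, -⟩ := hres
  rw [hKbc] at hp hQbc
  have hqb : Nat.card ↥(Qb ⊓ centralizer (Kb : Set _)) = q := by
    have hd : Nat.card ↥(Qb ⊓ centralizer (Kb : Set _)) ∣ q := by
      rw [← CoprimeAction.map_inf_centralizer_eq f (hnormM hKQ) hcQK (Or.inr inferInstance)]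
      refine (card_map_dvd _ f).trans (dvd_of_eq ?_)
      have he : Q.subgroupOf M ⊓ centralizer ((K.subgroupOf M : Subgroup M) : Set M) =
          C.subgroupOf M := by
        ext x
        constructor
        · rintro ⟨h1, h2⟩
          exact ⟨h1, mem_centralizer_iff.2 fun k hk =>
            congrArg Subtype.val (mem_centralizer_iff.1 h2 ⟨k, hKM hk⟩ hk)⟩
        · rintro ⟨h1, h2⟩
          exact ⟨h1, mem_centralizer_iff.2 fun l hl => Subtype.ext (mem_centralizer_iff.1 h2 l hl)⟩
      rw [he, Nat.card_congr (subgroupOfEquivOfLe (inf_le_left.trans hQM : C ≤ M)).toEquiv]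
      exact hcard
    rcases (Nat.dvd_prime (Fact.out : q.Prime)).1 hd with h | h
    · exact absurd (eq_bot_of_card_eq Qb (by rw [hQbc, h, one_pow])) hQb1
    · exact h
  refine ⟨hp, hQ0n, hQ0lt, ?_, hpow, hchief⟩
  have h1 : f.ker.relIndex (Q.subgroupOf M) = Nat.card Qb := Subgroup.relIndex_ker _ f
  rw [QuotientGroup.ker_mk', ← relIndex_map_map_of_injective _ _ M.subtype_injective,
    map_subgroupOf_eq_of_le hQ0M, map_subgroupOf_eq_of_le hQM] at h1
  rw [← hqb, ← hQbc, ← h1, relIndex,
    ← Nat.card_congr (subgroupOfEquivOfLe (inf_le_left : Q0 ≤ Q)).toEquiv]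
  exact (Q0.subgroupOf Q).card_mul_index.symm

end Cfsg.Agent.BGFcoreAct72
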