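import Mathlib
import Cfsg.Prelude.Def_OddOrderLocal
import Cfsg.Agent.Lib.BGSigmaCore
import Cfsg.Agent.Lib.BGFinalBasic72
import Cfsg.Agent.Lib.HallTheorem
import Cfsg.Agent.Lib.SFTSigma

/-!
Elementary tools for section 14 of Bender-Glauberman: π-parts of elements, Hall subgroups of a
solvable subgroup, and the behaviour of σ(M), M_σ under conjugation.
-/

set_option autoImplicit false
set_option linter.style.haveILetI false

namespace Cfsg.Agent.BGTypeP

open Subgroup Cfsg.Agent.HallCore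

universe u

variable {G : Type u} [Group G]

/-- Conjugate subgroup, in the form used by the statements. -/
abbrev cj (g : G) (M : Subgroup G) : Subgroup G := M.map (MulAut.conj g).toMonoidHom

theorem mem_cj {g x : G} {M : Subgroup G} : x ∈ cj g M ↔ g⁻¹ * x * g ∈ M := SFTSigma.mem_map_conj

theorem conj_mem_cj {g x : G} {M : Subgroup G} : g * x * g⁻¹ ∈ cj g M ↔ x ∈ M := by
  rw [mem_cj]
  simp [mul_assoc]

theorem cj_mul (g h : G) (M : Subgroup G) : cj g (cj h M) = cj (g * h) M := by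
  ext x
  simp only [mem_cj]
  simp [mul_assoc]

theorem cj_one (M : Subgroup G) : cj 1 M = M := by
  ext x
  simp [mem_cj]

theorem cj_inv_cj (g : G) (M : Subgroup G) : cj g⁻¹ (cj g M) = M := by
  rw [cj_mul, inv_mul_cancel, cj_one]

theorem cj_cj_inv (g : G) (M : Subgroup G) : cj g (cj g⁻¹ M) = M := by
  rw [cj_mul, mul_inv_cancel, cj_one]

theorem cj_mono (g : G) {M N : Subgroup G} (h : M ≤ N) : cj g M ≤ cj g N := map_mono h

theorem le_cj_iff {g : G} {M N : Subgroup G} : cj g⁻¹ M ≤ N ↔ M ≤ cj g N :=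
  ⟨fun h => by simpa [cj_cj_inv] using cj_mono g h, fun h => by simpa [cj_inv_cj] using cj_mono g⁻¹ h⟩

theorem card_cj (g : G) (M : Subgroup G) : Nat.card (cj g M) = Nat.card M :=
  card_map_of_injective (MulAut.conj g).injective

theorem cj_eq_self {g : G} {M : Subgroup G} (h : g ∈ normalizer (M : Set G)) : cj g M = M :=
  SFTSigma.map_conj_eq_of_mem_normalizer h

theorem cj_of_mem {g : G} {M : Subgroup G} (h : g ∈ M) : cj g M = M := cj_eq_self (le_normalizer h)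

theorem isCoatom_cj [Finite G] (g : G) {M : Subgroup G} (hM : IsCoatom M) : IsCoatom (cj g M) :=
  BGUnique.isCoatom_conj g hM

theorem orderOf_conj (g x : G) : orderOf (g * x * g⁻¹) = orderOf x :=
  (MulAut.conj g).orderOf_eq x

theorem cj_centralizer_singleton (g x : G) :
    cj g (centralizer ({x} : Set G)) = centralizer ({g * x * g⁻¹} : Set G) := by
  ext y
  simp only [mem_cj, mem_centralizer_singleton_iff]
  refine ⟨fun h => ?_, fun h => ?_⟩
  · calc y * (g * x * g⁻¹) = g * (g⁻¹ * y * g * x) * g⁻¹ := by group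
      _ = g * (x * (g⁻¹ * y * g)) * g⁻¹ := by rw [h]
      _ = _ := by group
  · calc g⁻¹ * y * g * x = g⁻¹ * (y * (g * x * g⁻¹)) * g := by group
      _ = g⁻¹ * (g * x * g⁻¹ * y) * g := by rw [h]
      _ = _ := by group

/-! ### π-parts -/

theorem exists_pi_factors (π : Set ℕ) :
    ∀ n : ℕ, n ≠ 0 → ∃ a b : ℕ, a * b = n ∧ a.Coprime b ∧ PiNat π a ∧ PiNat πᶜ b := by
  intro n
  induction n using Nat.recOnPrimeCoprime with
  | zero => intro h; exact absurd rfl h
  | prime_pow p k hp =>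
    intro _
    by_cases h : p ∈ π
    · refine ⟨p ^ k, 1, mul_one _, Nat.coprime_one_right _, fun q hq hd => ?_, piNat_one _⟩
      exact ((Nat.prime_dvd_prime_iff_eq hq hp).1 (hq.dvd_of_dvd_pow hd)).symm ▸ h
    · refine ⟨1, p ^ k, one_mul _, Nat.coprime_one_left _, piNat_one _, fun q hq hd => ?_⟩
      exact ((Nat.prime_dvd_prime_iff_eq hq hp).1 (hq.dvd_of_dvd_pow hd)).symm ▸ h
  | coprime m n _ _ hmn ihm ihn =>
    intro h
    obtain ⟨a, b, hab, -, ha, hb⟩ := ihm (fun e => h (by rw [e, zero_mul]))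
    obtain ⟨c, d, hcd, -, hc, hd⟩ := ihn (fun e => h (by rw [e, mul_zero]))
    refine ⟨a * c, b * d, by rw [← hab, ← hcd]; ring, ?_, ha.mul hc, hb.mul hd⟩
    exact PiNat.coprime (ha.mul hc) (hb.mul hd)

variable [Finite G]

/-- Every element is the product of its π-part and its π'-part. -/
theorem exists_decomp (π : Set ℕ) (g : G) : ∃ a b : G, a ∈ zpowers g ∧ b ∈ zpowers g ∧
    a * b = g ∧ PiNat π (orderOf a) ∧ PiNat πᶜ (orderOf b) := by
  obtain ⟨m, n, hmn, hcop, hm, hn⟩ := exists_pi_factors π (orderOf g) (orderOf_pos g).ne'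
  have hb : (1 : ℤ) = m * m.gcdA n + n * m.gcdB n := by
    have := Nat.gcd_eq_gcd_ab m n
    rwa [hcop.gcd_eq_one, Nat.cast_one] at this
  have hg : g ^ ((m : ℤ) * n) = 1 := by
    rw [← Nat.cast_mul, hmn, zpow_natCast, pow_orderOf_eq_one]
  refine ⟨g ^ ((n : ℤ) * m.gcdB n), g ^ ((m : ℤ) * m.gcdA n), zpow_mem (mem_zpowers g) _,
    zpow_mem (mem_zpowers g) _, ?_, hm.of_dvd (orderOf_dvd_of_pow_eq_one ?_),
    hn.of_dvd (orderOf_dvd_of_pow_eq_one ?_)⟩
  · rw [← zpow_add, add_comm, ← hb, zpow_one]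
  · rw [← zpow_natCast, ← zpow_mul, show (n : ℤ) * m.gcdB n * m = m * n * m.gcdB n by ring,
      zpow_mul, hg, one_zpow]
  · rw [← zpow_natCast, ← zpow_mul, show (m : ℤ) * m.gcdA n * n = m * n * m.gcdA n by ring,
      zpow_mul, hg, one_zpow]

omit [Finite G] in
/-- Commuting factors of coprime order are powers of the product. -/
theorem mem_zpowers_mul {a b : G} (hab : Commute a b) (h : (orderOf a).Coprime (orderOf b)) :
    a ∈ zpowers (a * b) := by
  have h1 : (a * b) ^ orderOf b = a ^ orderOf b := by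
    rw [hab.mul_pow, pow_orderOf_eq_one b, mul_one]
  obtain ⟨m, hm⟩ := exists_pow_eq_self_of_coprime h.symm
  have h2 : (a ^ orderOf b) ^ m ∈ zpowers (a * b) :=
    pow_mem (h1 ▸ pow_mem (mem_zpowers (a * b)) _) m
  rwa [hm] at h2

omit [Finite G] in
theorem mem_zpowers_mul_right {a b : G} (hab : Commute a b) (h : (orderOf a).Coprime (orderOf b)) :
    b ∈ zpowers (a * b) := by
  rw [hab.eq]
  exact mem_zpowers_mul hab.symm h.symm

theorem commute_of_mem_zpowers {g a b : G} (ha : a ∈ zpowers g) (hb : b ∈ zpowers g) :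
    Commute a b := by
  obtain ⟨i, rfl⟩ := mem_zpowers_iff.1 ha
  obtain ⟨j, rfl⟩ := mem_zpowers_iff.1 hb
  exact Commute.zpow_zpow_self g i j

/-- Uniqueness of the π-decomposition. -/
theorem decomp_unique {π : Set ℕ} {a b c d : G} (hab : Commute a b) (hcd : Commute c d)
    (ha : PiNat π (orderOf a)) (hb : PiNat πᶜ (orderOf b)) (hc : PiNat π (orderOf c))
    (hd : PiNat πᶜ (orderOf d)) (h : a * b = c * d) : a = c ∧ b = d := by
  have hA : a ∈ zpowers (a * b) := mem_zpowers_mul hab (PiNat.coprime ha hb)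
  have hB : b ∈ zpowers (a * b) := mem_zpowers_mul_right hab (PiNat.coprime ha hb)
  have hC : c ∈ zpowers (a * b) := h ▸ mem_zpowers_mul hcd (PiNat.coprime hc hd)
  have hD : d ∈ zpowers (a * b) := h ▸ mem_zpowers_mul_right hcd (PiNat.coprime hc hd)
  have hac : Commute a c⁻¹ := (commute_of_mem_zpowers hA hC).inv_right
  have hbd : Commute d b⁻¹ := (commute_of_mem_zpowers hD hB).inv_right
  have e : c⁻¹ * a = d * b⁻¹ := by
    calc c⁻¹ * a = c⁻¹ * (a * b) * b⁻¹ := by group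
      _ = c⁻¹ * (c * d) * b⁻¹ := by rw [h]
      _ = d * b⁻¹ := by group
  have h1 : PiNat π (orderOf (c⁻¹ * a)) :=
    ((orderOf_inv c).symm ▸ hc).mul ha |>.of_dvd
      (hac.symm.orderOf_mul_dvd_lcm.trans (Nat.lcm_dvd_mul _ _))
  have h2 : PiNat πᶜ (orderOf (c⁻¹ * a)) := by
    rw [e]
    exact (hd.mul ((orderOf_inv b).symm ▸ hb)).of_dvd
      (hbd.orderOf_mul_dvd_lcm.trans (Nat.lcm_dvd_mul _ _))
  have h3 : orderOf (c⁻¹ * a) = 1 := by
    by_contra hne
    obtain ⟨q, hq, hqd⟩ := Nat.exists_prime_and_dvd hne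
    exact h2 q hq hqd (h1 q hq hqd)
  have hca : a = c := (inv_mul_eq_one.1 (orderOf_eq_one_iff.1 h3)).symm
  subst hca
  exact ⟨rfl, mul_left_cancel h⟩

theorem piNat_orderOf_conj {π : Set ℕ} {x : G} (h : PiNat π (orderOf x)) (g : G) :
    PiNat π (orderOf (g * x * g⁻¹)) := by rwa [orderOf_conj]

theorem piNat_orderOf {π : Set ℕ} {H : Subgroup G} (h : PiNat π (Nat.card H)) {x : G} (hx : x ∈ H) :
    PiNat π (orderOf x) :=
  h.of_dvd (H.orderOf_dvd_natCard hx)

omit [Finite G] in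
theorem eq_one_of_piNat {π : Set ℕ} {x : G} (h1 : PiNat π (orderOf x))
    (h2 : PiNat πᶜ (orderOf x)) : x = 1 := by
  rw [← orderOf_eq_one_iff]
  by_contra hne
  obtain ⟨q, hq, hqd⟩ := Nat.exists_prime_and_dvd hne
  exact h2 q hq hqd (h1 q hq hqd)

omit [Finite G] in
theorem exists_prime_order {x : G} (hx : orderOf x ≠ 0) (hx1 : x ≠ 1) :
    ∃ q : ℕ, q.Prime ∧ q ∣ orderOf x ∧ ∃ z ∈ zpowers x, orderOf z = q := by
  obtain ⟨q, hq, hqd⟩ := Nat.exists_prime_and_dvd (n := orderOf x) (by simpa using hx1)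
  exact ⟨q, hq, hqd, x ^ (orderOf x / q), pow_mem (mem_zpowers x) _, orderOf_pow_orderOf_div hx hqd⟩

/-! ### Subgroups of coprime order -/

theorem inf_eq_bot_of_piNat {π : Set ℕ} {A B : Subgroup G} (hA : PiNat π (Nat.card A))
    (hB : PiNat πᶜ (Nat.card B)) : A ⊓ B = ⊥ :=
  inf_eq_bot_of_coprime (PiNat.coprime hA hB)

omit [Finite G] in
/-- Two subgroups normalising each other with trivial intersection commute elementwise. -/
theorem commute_of_normalizes {A B : Subgroup G} (hAB : A ≤ normalizer (B : Set G))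
    (hBA : B ≤ normalizer (A : Set G)) (h : A ⊓ B = ⊥) {a b : G} (ha : a ∈ A) (hb : b ∈ B) :
    Commute a b := by
  have h1 : a * b * a⁻¹ * b⁻¹ ∈ A ⊓ B :=
    ⟨by simpa [mul_assoc] using
        A.mul_mem ha ((mem_normalizer_iff.1 (hBA hb) a⁻¹).1 (A.inv_mem ha)),
      B.mul_mem ((mem_normalizer_iff.1 (hAB ha) b).1 hb) (B.inv_mem hb)⟩
  rw [h, mem_bot] at h1
  exact mul_inv_eq_iff_eq_mul.1 (mul_inv_eq_one.1 h1)

omit [Finite G] in
theorem le_centralizer_of_normalizes {A B : Subgroup G} (hAB : A ≤ normalizer (B : Set G))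
    (hBA : B ≤ normalizer (A : Set G)) (h : A ⊓ B = ⊥) : A ≤ centralizer (B : Set G) :=
  fun _ ha _ hb => (commute_of_normalizes hAB hBA h ha hb).symm.eq

omit [Finite G] in
theorem inf_le_normalizer {A D : Subgroup G} (hDA : D ≤ normalizer (A : Set G)) :
    D ≤ normalizer ((D ⊓ A : Subgroup G) : Set G) :=
  fun d hd => mem_normalizer_iff.2 fun x =>
    ⟨fun ⟨h1, h2⟩ => ⟨D.mul_mem (D.mul_mem hd h1) (D.inv_mem hd),
        (mem_normalizer_iff.1 (hDA hd) x).1 h2⟩,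
      fun ⟨h1, h2⟩ =>
        have h3 : x ∈ D := by
          have h4 := D.mul_mem (D.mul_mem (D.inv_mem hd) h1) hd
          simpa [mul_assoc] using h4
        ⟨h3, (mem_normalizer_iff.1 (hDA hd) x).2 h2⟩⟩

/-! ### Hall subgroups of a solvable subgroup -/

section hall

variable {π : Set ℕ} {H S : Subgroup G}

theorem hallOf_iff : Cfsg.IsPiHallOf π H S ↔ H ≤ S ∧ PiNat π (Nat.card H) ∧
    PiNat πᶜ (H.relIndex S) :=
  ⟨fun h => ⟨h.1, h.2.1, fun q hq hd hπ => h.2.2 q hq hπ hd⟩,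
    fun h => ⟨h.1, h.2.1, fun q hq hπ hd => h.2.2 q hq hd hπ⟩⟩

theorem isPiHall_subgroupOf_iff (hHS : H ≤ S) :
    Cfsg.IsPiHall π (H.subgroupOf S) ↔ Cfsg.IsPiHallOf π H S := by
  rw [HallTheorem.isPiHall_iff, hallOf_iff,
    Nat.card_congr (subgroupOfEquivOfLe hHS).toEquiv]
  exact ⟨fun h => ⟨hHS, h.1, h.2⟩, fun h => h.2⟩

theorem exists_hallOf_ge (hS : Group.IsSolvable S) (π : Set ℕ) {U : Subgroup G} (hU : U ≤ S)
    (hπ : PiNat π (Nat.card U)) : ∃ H : Subgroup G, Cfsg.IsPiHallOf π H S ∧ U ≤ H := by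
  haveI := hS
  obtain ⟨H, hH, hUH⟩ := HallTheorem.exists_isPiHall_ge_of_solvable (U := U.subgroupOf S) (π := π)
    (by rwa [Nat.card_congr (subgroupOfEquivOfLe hU).toEquiv])
  refine ⟨H.map S.subtype, (isPiHall_subgroupOf_iff (map_subtype_le H)).1 ?_, ?_⟩
  · rwa [show (H.map S.subtype).subgroupOf S = H from
      comap_map_eq_self_of_injective S.subtype_injective H]
  · rw [← map_subgroupOf_eq_of_le hU]
    exact map_mono hUH

theorem exists_hallOf (hS : Group.IsSolvable S) (π : Set ℕ) :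
    ∃ H : Subgroup G, Cfsg.IsPiHallOf π H S := by
  obtain ⟨H, hH, -⟩ := exists_hallOf_ge (U := ⊥) hS π bot_le (by simpa using piNat_one π)
  exact ⟨H, hH⟩

theorem hallOf_conj (hS : Group.IsSolvable S) {H₁ H₂ : Subgroup G}
    (h₁ : Cfsg.IsPiHallOf π H₁ S) (h₂ : Cfsg.IsPiHallOf π H₂ S) : ∃ s ∈ S, cj s H₁ = H₂ := by
  have hc : Nat.card H₂ = Nat.card H₁ := by
    have := HallTheorem.card_eq_of_isPiHall ((isPiHall_subgroupOf_iff h₂.1).2 h₂)
      ((isPiHall_subgroupOf_iff h₁.1).2 h₁)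
    rwa [Nat.card_congr (subgroupOfEquivOfLe h₂.1).toEquiv,
      Nat.card_congr (subgroupOfEquivOfLe h₁.1).toEquiv] at this
  exact SFTSigma.hall_conj hS h₁.1 h₂.1 h₁.2.1 hc
    (BGFinal72.card_mul_relIndex h₁.1).symm (hallOf_iff.1 h₁).2.2

theorem le_conj_hallOf (hS : Group.IsSolvable S) (hH : Cfsg.IsPiHallOf π H S) {U : Subgroup G}
    (hU : U ≤ S) (hπ : PiNat π (Nat.card U)) : ∃ s ∈ S, U ≤ cj s H := by
  obtain ⟨H', hH', hUH⟩ := exists_hallOf_ge hS π hU hπ
  obtain ⟨s, hs, e⟩ := hallOf_conj hS hH hH'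
  exact ⟨s, hs, e ▸ hUH⟩

theorem hallOf_cj (g : G) (h : Cfsg.IsPiHallOf π H S) : Cfsg.IsPiHallOf π (cj g H) (cj g S) := by
  rw [hallOf_iff] at h ⊢
  refine ⟨cj_mono g h.1, by rw [card_cj]; exact h.2.1, ?_⟩
  rw [cj, cj, relIndex_map_map_of_injective _ _ (MulAut.conj g).injective]
  exact h.2.2

/-- A normal Hall π-subgroup contains every π-element. -/
theorem mem_of_normal_hall (h : Cfsg.IsPiHallOf π H S) (hn : S ≤ normalizer (H : Set G)) {x : G}
    (hx : x ∈ S) (hxπ : PiNat π (orderOf x)) : x ∈ H := by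
  haveI : (H.subgroupOf S).Normal := normal_subgroupOf_of_le_normalizer hn
  have hcop : (orderOf (⟨x, hx⟩ : S)).Coprime (H.subgroupOf S).index := by
    rw [orderOf_mk]
    exact PiNat.coprime hxπ (hallOf_iff.1 h).2.2
  have h1 : ((⟨x, hx⟩ : S) : S ⧸ H.subgroupOf S) = 1 := by
    rw [← orderOf_eq_one_iff]
    refine Nat.eq_one_of_dvd_coprimes hcop (orderOf_map_dvd (QuotientGroup.mk' _) _) ?_
    rw [index_eq_card]
    exact orderOf_dvd_natCard _
  exact mem_subgroupOf.1 ((QuotientGroup.eq_one_iff _).1 h1)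

theorem le_of_normal_hall (h : Cfsg.IsPiHallOf π H S) (hn : S ≤ normalizer (H : Set G))
    {Y : Subgroup G} (hY : Y ≤ S) (hYπ : PiNat π (Nat.card Y)) : Y ≤ H :=
  fun _ hy => mem_of_normal_hall h hn (hY hy) (piNat_orderOf hYπ hy)

end hall

/-! ### σ(M) and M_σ -/

section sigma

variable (hG : Cfsg.IsMinSimpleOddOrder G) {M : Subgroup G} (hM : IsCoatom M)
include hG hM

theorem solvable : Group.IsSolvable M := BGUnique.isSolvable_of_ne_top hG hM.1

theorem hall : Cfsg.IsPiHallOf (Cfsg.sigma M) (Cfsg.sigmaCore M) M :=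
  (BGSigma.hall_sigma hG hM).1

theorem mem_sigmaCore {x : G} (hx : x ∈ M) (hxσ : PiNat (Cfsg.sigma M) (orderOf x)) :
    x ∈ Cfsg.sigmaCore M :=
  mem_of_normal_hall (hall hG hM) (BGFinal72.le_normalizer_sigmaCore M) hx hxσ

theorem le_sigmaCore {Y : Subgroup G} (hY : Y ≤ M) (hYσ : PiNat (Cfsg.sigma M) (Nat.card Y)) :
    Y ≤ Cfsg.sigmaCore M :=
  le_of_normal_hall (hall hG hM) (BGFinal72.le_normalizer_sigmaCore M) hY hYσ

end sigma

theorem piNat_sigmaCore (M : Subgroup G) : PiNat (Cfsg.sigma M) (Nat.card (Cfsg.sigmaCore M)) :=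
  BGFinal72.piNat_sigmaCore M

theorem piNat_mem_sigmaCore {M : Subgroup G} {x : G} (hx : x ∈ Cfsg.sigmaCore M) :
    PiNat (Cfsg.sigma M) (orderOf x) :=
  piNat_orderOf (piNat_sigmaCore M) hx

theorem sigma_subset_cj (g : G) (M : Subgroup G) : Cfsg.sigma M ⊆ Cfsg.sigma (cj g M) := by
  rintro p ⟨hp, hd, P, hP⟩
  haveI := Fact.mk hp
  refine ⟨hp, (card_cj g M).symm ▸ hd, ?_⟩
  set P₀ : Subgroup G := (P : Subgroup M).map M.subtype with hP₀
  have hle : cj g P₀ ≤ cj g M := cj_mono g (map_subtype_le _)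
  have hcard : Nat.card ((cj g P₀).subgroupOf (cj g M)) =
      p ^ (Nat.card (cj g M)).factorization p := by
    rw [Nat.card_congr (subgroupOfEquivOfLe hle).toEquiv, card_cj, card_cj, hP₀,
      card_map_of_injective M.subtype_injective]
    exact P.card_eq_multiplicity
  refine ⟨Sylow.ofCard _ hcard, ?_⟩
  rw [Sylow.coe_ofCard, map_subgroupOf_eq_of_le hle]
  intro x hx
  rw [mem_cj]
  apply hP
  rw [mem_normalizer_iff] at hx ⊢
  intro y
  have h := hx (g * y * g⁻¹)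
  change g * y * g⁻¹ ∈ cj g P₀ ↔ x * (g * y * g⁻¹) * x⁻¹ ∈ cj g P₀ at h
  rw [conj_mem_cj, mem_cj] at h
  refine h.trans (iff_of_eq (congrArg (· ∈ P₀) ?_))
  group

theorem sigma_cj (g : G) (M : Subgroup G) : Cfsg.sigma (cj g M) = Cfsg.sigma M := by
  refine (Set.Subset.antisymm ?_ (sigma_subset_cj g M))
  simpa [cj_inv_cj] using sigma_subset_cj g⁻¹ (cj g M)

theorem sigmaCore_cj (g : G) {M : Subgroup G} (hG : Cfsg.IsMinSimpleOddOrder G) (hM : IsCoatom M) :
    Cfsg.sigmaCore (cj g M) = cj g (Cfsg.sigmaCore M) := by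
  refine (BGSigma.eq_sigmaCore (M := cj g M) (N := cj g (Cfsg.sigmaCore M)) ?_ ?_).symm
  · intro x hx
    rw [mem_cj] at hx
    have h := BGFinal72.le_normalizer_sigmaCore M hx
    rw [mem_normalizer_iff] at h ⊢
    intro y
    change y ∈ cj g _ ↔ x * y * x⁻¹ ∈ cj g _
    rw [mem_cj, mem_cj]
    refine (h _).trans (iff_of_eq (congrArg (· ∈ Cfsg.sigmaCore M) ?_))
    group
  · rw [sigma_cj]
    exact hallOf_cj g (hall hG hM)

end Cfsg.Agent.BGTypeP
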