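import Cfsg.Agent.Lib.BGPrimeCompl
import Cfsg.Agent.Lib.BGSigmaRank
import Cfsg.Agent.Lib.BGTypePBase
import Cfsg.Agent.Lib.FittingHallBasic

/-!
Elementary rank-one and commutator tools for section 13 of Bender-Glauberman.
-/

set_option autoImplicit false
set_option linter.style.haveILetI false

namespace Cfsg.Agent.BGPrime

open Subgroup
open Cfsg.Agent.BGUnique
open Cfsg.Agent.HallCore
open scoped commutatorElement Pointwise

universe u

variable {G : Type u} [Group G] [Finite G]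

theorem pRankLE_le {p k : ℕ} {X M : Subgroup G} (h : X ≤ M) (hr : Cfsg.PRankLE p k M) :
    Cfsg.PRankLE p k X :=
  BGRankTwo.pRankLE_of_injective (inclusion h) (inclusion_injective h) hr

omit [Finite G] in
theorem pRankLE_mono {p k l : ℕ} (hp : p ≠ 0) (hkl : k ≤ l) {M : Subgroup G}
    (hr : Cfsg.PRankLE p k M) : Cfsg.PRankLE p l M := fun E h1 h2 =>
  (hr E h1 h2).trans (Nat.pow_le_pow_right (Nat.pos_of_ne_zero hp) hkl)

theorem pRankLE_conj {p k : ℕ} (g : G) {M : Subgroup G} (hr : Cfsg.PRankLE p k M) :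
    Cfsg.PRankLE p k ↥(M.map (MulAut.conj g).toMonoidHom) :=
  BGRankTwo.pRankLE_of_injective
    (M.equivMapOfInjective (MulAut.conj g).toMonoidHom (MulAut.conj g).injective).symm.toMonoidHom
    (MulEquiv.injective _) hr

variable {p : ℕ} [hp : Fact p.Prime]

/-- An elementary abelian subgroup of order `p ^ 2` from `p`-rank at least two. -/
theorem exists_sq_of_not_rank_one {M : Subgroup G} (h : ¬ Cfsg.PRankLE p 1 M) :
    ∃ A : Subgroup G, A ≤ M ∧ Cfsg.IsElementaryAbelian p A ∧ Nat.card A = p ^ 2 := by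
  obtain ⟨E, hEM, hE, hEc⟩ := pow_le_of_not_pRankLE h
  obtain ⟨A, hAE, hAc⟩ := BGSCNUniqueMain.exists_sub_card hE (k := 2) hEc
  exact ⟨A, hAE.trans hEM, PGroupsBasic.isElementaryAbelian_mono hE hAE, hAc⟩

theorem not_sq_le_of_rank_one {M A : Subgroup G} (h : Cfsg.PRankLE p 1 M) (hAM : A ≤ M)
    (hA : Cfsg.IsElementaryAbelian p A) (hAc : Nat.card A = p ^ 2) : False := by
  have h1 := BGSigma.card_le_of_pRankLE h hAM hA
  rw [hAc] at h1
  have := (Nat.pow_le_pow_iff_right hp.out.one_lt).1 h1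
  omega

theorem isCyclic_of_rank_one (hG : Cfsg.IsMinSimpleOddOrder G) {M X : Subgroup G}
    (h : Cfsg.PRankLE p 1 M) (hX : IsPGroup p X) (hXM : X ≤ M) : IsCyclic X := by
  by_contra hnc
  obtain ⟨E, hEX, hE, hEc⟩ := exists_elementary_sq_of_noncyclic hG hX hnc
  exact not_sq_le_of_rank_one h (hEX.trans hXM) hE hEc

omit [Finite G] in
theorem card_prime_ne_bot {X : Subgroup G} (hX : Nat.card X = p) : X ≠ ⊥ := fun h => by
  rw [h, card_bot] at hX
  exact hp.out.one_lt.ne hX

theorem isPGroup_card_prime {X : Subgroup G} (hX : Nat.card X = p) : IsPGroup p X :=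
  IsPGroup.of_card (n := 1) (by rw [hX, pow_one])

/-- Commuting subgroups of order `p` in a subgroup of rank one coincide. -/
theorem eq_of_commute {M X Y : Subgroup G} (h : Cfsg.PRankLE p 1 M) (hXM : X ≤ M) (hYM : Y ≤ M)
    (hX : Nat.card X = p) (hY : Nat.card Y = p) (hc : ∀ x ∈ X, ∀ y ∈ Y, x * y = y * x) : X = Y := by
  have hel := PGroupsBasic.isElementaryAbelian_sup
    (PGroupsBasic.isElementaryAbelian_of_card_eq_prime hX)
    (PGroupsBasic.isElementaryAbelian_of_card_eq_prime hY)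
    (fun x hx => mem_centralizer_iff.2 fun y hy => (hc x hx y hy).symm)
  have h1 := BGSigma.card_le_of_pRankLE h (sup_le hXM hYM) hel
  rw [pow_one] at h1
  rw [eq_of_le_of_card_ge (H := X) le_sup_left (h1.trans hX.ge),
    ← eq_of_le_of_card_ge (H := Y) le_sup_right (h1.trans hY.ge)]

theorem eq_of_normalizes (hG : Cfsg.IsMinSimpleOddOrder G) {M X Y : Subgroup G}
    (h : Cfsg.PRankLE p 1 M) (hXM : X ≤ M) (hYM : Y ≤ M)
    (hX : Nat.card X = p) (hY : Nat.card Y = p) (hYX : Y ≤ normalizer (X : Set G)) : X = Y := by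
  have hp' : IsPGroup p ↥(X ⊔ Y) :=
    IsPGroup.to_sup_of_normal_left' (isPGroup_card_prime hX) (isPGroup_card_prime hY) hYX
  haveI := isCyclic_of_rank_one hG h hp' (sup_le hXM hYM)
  refine eq_of_commute h hXM hYM hX hY fun x hx y hy => ?_
  letI : CommGroup ↥(X ⊔ Y) := IsCyclic.commGroup
  exact congrArg Subtype.val (mul_comm (⟨x, mem_sup_left hx⟩ : ↥(X ⊔ Y)) ⟨y, mem_sup_right hy⟩)

/-- A normalized `p`-subgroup of rank one has its subgroup of order `p` normalized. -/
theorem normalizes_order_p (hG : Cfsg.IsMinSimpleOddOrder G) {M T P B : Subgroup G}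
    (h : Cfsg.PRankLE p 1 M) (hT : IsPGroup p T) (hTM : T ≤ M) (hPT : P ≤ T)
    (hP : Nat.card P = p) (hB : B ≤ normalizer (T : Set G)) : B ≤ normalizer (P : Set G) := by
  haveI := isCyclic_of_rank_one hG h hT hTM
  letI : CommGroup T := IsCyclic.commGroup
  intro b hb
  have hle : MulAut.conj b • P ≤ T := by
    rintro _ ⟨x, hx, rfl⟩
    exact (mem_normalizer_iff.1 (hB hb) x).1 (hPT hx)
  have he : P = MulAut.conj b • P := eq_of_commute h (hPT.trans hTM) (hle.trans hTM) hP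
    (by rw [CoprimeSZ.card_conj_smul, hP]) fun x hx y hy =>
      congrArg Subtype.val (mul_comm (⟨x, hPT hx⟩ : T) ⟨y, hle hy⟩)
  exact CoprimeAction.mem_normalizer_of_conj_smul_eq he.symm

/-- In a nilpotent subgroup, subgroups of coprime orders commute. -/
theorem commute_of_nilpotent {U : Subgroup G} (hU : Group.IsNilpotent U) {a b : G} (ha : a ∈ U)
    (hb : b ∈ U) (hab : (orderOf a).Coprime (orderOf b)) : Commute a b := by
  haveI := hU
  have h := FittingHallBasic.commute_of_coprime_orderOf (a := (⟨a, ha⟩ : U)) (b := ⟨b, hb⟩)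
    (by rwa [orderOf_mk, orderOf_mk])
  exact congrArg Subtype.val h.eq

omit hp in
/-- The derived group of a complement to `M_σ`. -/
theorem compl_inf_commutator {A E M : Subgroup G} (hn : M ≤ normalizer (A : Set G))
    (hE : Cfsg.IsComplIn E A M) : E ⊓ ⁅M, M⁆ = ⁅E, E⁆ := by
  refine le_antisymm ?_ (le_inf (commutator_le_self E) (commutator_mono hE.1 hE.1))
  haveI : (A.subgroupOf M).Normal := normal_subgroupOf_of_le_normalizer hn
  set π := QuotientGroup.mk' (A.subgroupOf M) with hπ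
  have hsur : (E.subgroupOf M).map π = ⊤ := by
    rw [eq_top_iff]
    intro z _
    obtain ⟨m, rfl⟩ := QuotientGroup.mk'_surjective (A.subgroupOf M) z
    obtain ⟨e, he, a, ha, hea⟩ := hE.2.2.2 m m.2
    refine ⟨⟨e, hE.1 he⟩, he, ?_⟩
    rw [hπ, QuotientGroup.mk'_eq_mk']
    exact ⟨⟨a, hE.2.1 ha⟩, ha, Subtype.ext hea.symm⟩
  rintro x ⟨hxE, hxM⟩
  have hx' : π ⟨x, hE.1 hxE⟩ ∈ (⁅E, E⁆.subgroupOf M).map π := by
    have h1 : (⁅M, M⁆.subgroupOf M).map π = (⁅E, E⁆.subgroupOf M).map π := by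
      have e1 : ⁅M, M⁆.subgroupOf M = ⁅(⊤ : Subgroup M), ⊤⁆ := by
        rw [← map_subtype_commutator, BGSigma.subgroupOf_map_subtype_self, _root_.commutator_def]
      have e2 : ⁅E, E⁆.subgroupOf M = ⁅E.subgroupOf M, E.subgroupOf M⁆ := by
        apply map_injective M.subtype_injective
        rw [map_commutator, map_subgroupOf_eq_of_le hE.1,
          map_subgroupOf_eq_of_le ((commutator_le_self E).trans hE.1)]
      rw [e1, e2, map_commutator, map_commutator, hsur,
        map_top_of_surjective π (QuotientGroup.mk'_surjective _)]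
    rw [← h1]
    exact mem_map_of_mem π hxM
  obtain ⟨e, he, hee⟩ := hx'
  rw [hπ, QuotientGroup.mk'_eq_mk'] at hee
  obtain ⟨a, ha, hea⟩ := hee
  have heE : (e : G) ∈ E := commutator_le_self E he
  have h2 : (a : G) ∈ E ⊓ A := by
    refine ⟨?_, ha⟩
    have := congrArg Subtype.val hea
    rw [Subgroup.coe_mul] at this
    exact (mul_mem_cancel_left heE).1 (this ▸ hxE)
  rw [hE.2.2.1, mem_bot] at h2
  have := congrArg Subtype.val hea
  rw [Subgroup.coe_mul, h2, mul_one] at this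
  change (e : G) = x at this
  exact this ▸ he

/-- Maximal `p`-subgroups from an index condition. -/
theorem isMaxP_of_relIndex {S L : Subgroup G} (hS : IsPGroup p S) (hSL : S ≤ L)
    (h : ¬ p ∣ S.relIndex L) : IsMaxP p S L := by
  refine ⟨hSL, hS, fun Q hSQ hQL hQ => ?_⟩
  obtain ⟨n, hn⟩ := IsPGroup.iff_card.1 hQ
  have h1 : S.relIndex Q ∣ p ^ n := hn ▸ relIndex_dvd_card S Q
  obtain ⟨k, -, hk⟩ := (Nat.dvd_prime_pow hp.out).1 h1
  rcases k with _ | k
  · exact le_antisymm (relIndex_eq_one.1 (by rw [hk, pow_zero])) hSQ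
  · exact absurd ((dvd_pow_self p k.succ_ne_zero).trans (hk ▸
      (Dvd.intro _ (relIndex_mul_relIndex S Q L hSQ hQL)))) h

omit [Finite G] hp in
theorem isMaxP_mono {S L N : Subgroup G} (h : IsMaxP p S L) (hSN : S ≤ N) (hNL : N ≤ L) :
    IsMaxP p S N :=
  ⟨hSN, h.isPGroup, fun Q hSQ hQN hQ => h.eq_of_le Q hSQ (hQN.trans hNL) hQ⟩

theorem isMaxP_of_card_le {S T L : Subgroup G} (hS : IsMaxP p S L) (hT : IsPGroup p T)
    (hTL : T ≤ L) (h : Nat.card S ≤ Nat.card T) : IsMaxP p T L := by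
  obtain ⟨R, hR, hTR⟩ := exists_isMaxP_ge hT hTL
  rwa [eq_of_le_of_card_ge hTR ((BGSigma.isMaxP_card hR hS).trans_le h)]

end Cfsg.Agent.BGPrime
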