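import Mathlib
import Cfsg.Agent.Lib.BGFinalBasic72
import Cfsg.Agent.Lib.BGTypeBasic
import Cfsg.Agent.Lib.BGFittingUnique
import Cfsg.Agent.Lib.FrobeniusNilpotent
import Cfsg.Agent.Lib.BGFcoreAct72
import Cfsg.Agent.S1350
import Cfsg.Agent.S1365
import Cfsg.Agent.S1373
import Cfsg.Agent.S1414
import Cfsg.Agent.S1426
import Cfsg.Agent.S1429
import Cfsg.Agent.S1430
import Cfsg.Agent.S1445

/-!
The structure of a maximal subgroup `M` with `M_F ≠ M_σ` (Bender-Glauberman, Theorem 15.2).
-/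

set_option autoImplicit false
set_option linter.style.haveILetI false

open scoped commutatorElement

namespace Cfsg.Agent.BGFcore72

open Subgroup Cfsg.Agent.HallCore Cfsg.Agent.BGUnique Cfsg.Agent.BGFittingUnique

universe u

variable {G : Type u} [Group G] [Finite G]

omit [Finite G] in
/-- A subgroup covered by two commuting nilpotent subgroups is nilpotent. -/
theorem nilpotent_of_commuting {S A B : Subgroup G} (hA : Group.IsNilpotent A)
    (hB : Group.IsNilpotent B) (hc : ∀ a ∈ A, ∀ b ∈ B, Commute a b)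
    (hS : ∀ s ∈ S, ∃ a ∈ A, ∃ b ∈ B, s = a * b) : Group.IsNilpotent S := by
  haveI := hA; haveI := hB
  let g : ↥A × ↥B →* G := MonoidHom.noncommCoprod A.subtype B.subtype fun a b => hc a a.2 b b.2
  haveI : Group.IsNilpotent g.range :=
    Group.nilpotent_of_surjective g.rangeRestrict g.rangeRestrict_surjective
  refine ComponentsCores.nilpotent_of_le (B := g.range) ?_ inferInstance
  intro s hs
  obtain ⟨a, ha, b, hb, rfl⟩ := hS s hs
  exact ⟨(⟨a, ha⟩, ⟨b, hb⟩), rfl⟩

theorem not_nilpotent (hG : Cfsg.IsMinSimpleOddOrder G) {M : Subgroup G} (hM : IsCoatom M)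
    (hne : Cfsg.fittingHallOf M ≠ Cfsg.sigmaCore M) : ¬ Group.IsNilpotent (Cfsg.sigmaCore M) := by
  intro hnil
  refine hne (le_antisymm (BGFinal72.fittingHallOf_le_sigmaCore hG hM) ?_)
  have hσM := BGFinal72.sigmaCore_le M
  haveI : ((Cfsg.sigmaCore M).subgroupOf M).Normal :=
    normal_subgroupOf_of_le_normalizer (BGFinal72.le_normalizer_sigmaCore M)
  haveI : Group.IsNilpotent ↥((Cfsg.sigmaCore M).subgroupOf M) :=
    Group.nilpotent_of_mulEquiv (subgroupOfEquivOfLe hσM).symm
  have hH := (S1350.result hG M hM).1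
  have hle := FittingHallBasic.le_fittingHall (N := (Cfsg.sigmaCore M).subgroupOf M) inferInstance
    inferInstance (by
      rw [Nat.card_congr (subgroupOfEquivOfLe hσM).toEquiv]
      exact BGFinal72.coprime_relIndex_of_hall hH)
  intro y hy
  exact ⟨⟨y, hσM hy⟩, hle (show (⟨y, hσM hy⟩ : M) ∈ (Cfsg.sigmaCore M).subgroupOf M from hy), rfl⟩

/-- `U = 1`, `K ≠ 1`, `M' = M_σ`, `K` is a complement of `M_σ` and `|K*|` is a prime. -/
theorem basics (hG : Cfsg.IsMinSimpleOddOrder G) {M K U : Subgroup G} (hM : IsCoatom M)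
    (hKU : Cfsg.IsSigmaDecomposition M K U) (hne : Cfsg.fittingHallOf M ≠ Cfsg.sigmaCore M) :
    U = ⊥ ∧ K ≠ ⊥ ∧ Cfsg.sigmaCore M = ⁅M, M⁆ ∧ Cfsg.IsComplIn K (Cfsg.sigmaCore M) M ∧
      (Nat.card ↥(Cfsg.sigmaCore M ⊓ centralizer (K : Set G))).Prime := by
  have hσ := (S1350.result hG M hM).1
  have hnn := not_nilpotent hG hM hne
  have hP1 : ∀ q : ℕ, q.Prime → q ∣ Nat.card M → q ∉ Cfsg.sigma M → q ∈ Cfsg.kappa M := by
    by_contra hcon
    obtain ⟨q, hq, hd, hs, hk⟩ : ∃ q : ℕ, q.Prime ∧ q ∣ Nat.card M ∧ q ∉ Cfsg.sigma M ∧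
        q ∉ Cfsg.kappa M := by
      by_contra h
      exact hcon fun q hq hd hs => by_contra fun hk => h ⟨q, hq, hd, hs, hk⟩
    haveI := Fact.mk hq
    exact hnn (S1429.result hG M hM hcon q hd (fun h => h.elim hs hk) default).2.2
  have hU : U = ⊥ := by
    by_contra hU
    have h1 : Nat.card U ≠ 1 := fun h => hU (eq_bot_of_card_eq U h)
    obtain ⟨q, hq, hd⟩ := Nat.exists_prime_and_dvd h1
    obtain ⟨hs, hk⟩ := BGFinal72.U_prime hσ hKU hq hd
    exact hk (hP1 q hq (hd.trans (card_dvd_of_le (BGFinal72.U_le hKU))) hs)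
  have hcompl : Cfsg.IsComplIn K (Cfsg.sigmaCore M) M := by
    refine BGTypeBasic.isComplIn_of_card (BGFinal72.K_le hKU) (BGFinal72.sigmaCore_le M)
      (BGFinal72.coprime_K_sigma hKU).symm ?_
    rw [← BGFinal72.card_eq hKU, hU, card_bot, one_mul]
  have hK : K ≠ ⊥ := by
    intro h
    refine (BGFinal72.commutator_lt hG hM).not_ge fun m hm => ?_
    obtain ⟨a, ha, b, hb, rfl⟩ := hcompl.2.2.2 m hm
    rw [h, mem_bot] at ha
    rw [ha, one_mul]
    exact BGFinal72.sigmaCore_le_commutator hG hM hb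
  refine ⟨hU, hK, ?_, hcompl, S1373.result hG M hM K U hKU hK hU⟩
  rw [(S1365.result hG M hM K U hKU hK).1, hU, bot_sup_eq]

/-- `K*` lies in `O_q(M)`, where `q = |K*|`. -/
theorem kstar_le_Oc (hG : Cfsg.IsMinSimpleOddOrder G) {M K U : Subgroup G} (hM : IsCoatom M)
    (hKU : Cfsg.IsSigmaDecomposition M K U) (hne : Cfsg.fittingHallOf M ≠ Cfsg.sigmaCore M) :
    Cfsg.sigmaCore M ⊓ centralizer (K : Set G) ≤
      Oc (Nat.card ↥(Cfsg.sigmaCore M ⊓ centralizer (K : Set G))) M := by
  obtain ⟨-, hK1, -, hcompl, hq⟩ := basics hG hM hKU hne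
  haveI := Fact.mk hq
  haveI := isSolvable_of_ne_top hG hM.1
  set S := Cfsg.sigmaCore M
  set Ks := S ⊓ centralizer (K : Set G) with hKs
  have hSM : S ≤ M := BGFinal72.sigmaCore_le M
  have hKM : K ≤ M := hcompl.1
  haveI : (S.subgroupOf M).Normal :=
    normal_subgroupOf_of_le_normalizer (BGFinal72.le_normalizer_sigmaCore M)
  set S' := S.subgroupOf M with hS'
  by_cases hF : Cfsg.fittingOf S' ⊓ centralizer ((K.subgroupOf M : Subgroup M) : Set M) = ⊥
  · exfalso
    have hle := S1445.result (G := ↥M) (odd_card_subgroup hG M) S' (K.subgroupOf M) (by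
        rw [hS', ← subgroupOf_sup hSM hKM, sup_comm, BGTypeBasic.sup_eq_of_isComplIn hcompl,
          subgroupOf_self])
      (by
        rw [hS', Nat.card_congr (subgroupOfEquivOfLe hSM).toEquiv,
          Nat.card_congr (subgroupOfEquivOfLe hKM).toEquiv]
        exact BGFinal72.coprime_K_sigma hKU)
      (fun x hx hx1 => by
        ext y
        constructor
        · rintro ⟨h1, h2⟩
          refine ⟨h1, mem_centralizer_iff.2 fun l hl => Subtype.ext ?_⟩
          have h3 : (y : G) ∈ S ⊓ centralizer ({(x : G)} : Set G) :=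
            ⟨h1, mem_centralizer_singleton_iff.2
              (congrArg Subtype.val (mem_centralizer_singleton_iff.1 h2))⟩
          rw [(S1430.result hG M hM K hKU.hall hK1).1 (x : G) hx fun h => hx1 (Subtype.ext h)] at h3
          exact mem_centralizer_iff.1 h3.2 l hl
        · rintro ⟨h1, h2⟩
          exact ⟨h1, mem_centralizer_singleton_iff.2 (mem_centralizer_iff.1 h2 x hx).symm⟩) hF
    apply not_nilpotent hG hM hne
    refine ComponentsCores.nilpotent_of_le (B := (Cfsg.fittingOf S').map M.subtype) ?_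
      ((ComponentsCores.isNilpotent_map_subtype_iff _).2 (fittingOf_isNilpotent S'))
    obtain ⟨-, hSK, -⟩ := S1426.result hG M hM K hcompl
    have h4 := map_mono (f := M.subtype) hle
    rw [map_commutator, hS', map_subgroupOf_eq_of_le hSM, map_subgroupOf_eq_of_le hKM, hSK] at h4
    exact h4
  · obtain ⟨y, hy, hy1⟩ := (Cfsg.fittingOf S' ⊓
      centralizer ((K.subgroupOf M : Subgroup M) : Set M)).bot_or_exists_ne_one.resolve_left hF
    have hyK : (y : G) ∈ Ks := ⟨FittingHallBasic.fittingOf_le S' hy.1,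
      mem_centralizer_iff.2 fun k hk =>
        congrArg Subtype.val (mem_centralizer_iff.1 hy.2 ⟨k, hKM hk⟩ hk)⟩
    haveI : (Cfsg.fittingOf S').Normal := by
      refine normalizer_eq_top_iff.1 (top_le_iff.1 ?_)
      exact (normalizer_eq_top S').ge.trans (normalizer_le_fittingOf S')
    have hyF : (y : G) ∈ Cfsg.fittingOf M :=
      ⟨y, ComponentsCores.le_fitting (fittingOf_isNilpotent S') hy.1, rfl⟩
    have hoy : orderOf (y : G) = Nat.card Ks := by
      rcases (Nat.dvd_prime hq).1 (Ks.orderOf_dvd_natCard hyK) with h | h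
      · exact absurd (orderOf_eq_one_iff.1 h) fun h => hy1 (Subtype.ext h)
      · exact h
    have hgen : zpowers (y : G) = Ks :=
      eq_of_le_of_card_ge (zpowers_le.2 hyK) (by rw [Nat.card_zpowers, hoy])
    rw [← hgen, zpowers_le, hgen]
    exact mem_Oc_of_mem_fittingOf hyF (i := 1) (by rw [pow_one]; exact hoy)

/-- `M_σ` has a Sylow `q`-subgroup `Q = O_q(M)`, and every complement of `Q` in `M_σ` is nilpotent. -/
theorem sylow_normal (hG : Cfsg.IsMinSimpleOddOrder G) {M K U : Subgroup G} (hM : IsCoatom M)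
    (hKU : Cfsg.IsSigmaDecomposition M K U) (hne : Cfsg.fittingHallOf M ≠ Cfsg.sigmaCore M)
    {q : ℕ} (hqc : q = Nat.card ↥(Cfsg.sigmaCore M ⊓ centralizer (K : Set G))) :
    Oc q M ≤ Cfsg.sigmaCore M ∧ Oc q M ≤ Cfsg.fittingHallOf M ∧
      ¬ q ∣ (Oc q M).relIndex (Cfsg.sigmaCore M) ∧
      ∀ D : Subgroup G, Cfsg.IsComplIn (Oc q M) D (Cfsg.sigmaCore M) → Group.IsNilpotent D := by
  obtain ⟨-, hK1, -, hcompl, hq'⟩ := basics hG hM hKU hne
  have hKsO := kstar_le_Oc hG hM hKU hne
  rw [← hqc] at hKsO hq'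
  haveI := Fact.mk hq'
  haveI := isSolvable_of_ne_top hG hM.1
  have hσ := (S1350.result hG M hM).1
  set S := Cfsg.sigmaCore M
  set N := Oc q M with hN
  have hSM : S ≤ M := BGFinal72.sigmaCore_le M
  have hKM : K ≤ M := hcompl.1
  have hqS : q ∈ Cfsg.sigma M :=
    BGFinal72.piNat_sigmaCore M q hq' (hqc ▸ card_dvd_of_le inf_le_left)
  have hNS : N ≤ S := by
    refine BGTransitivity.le_piCoreOf (Oc_le q M) (le_normalizer_Oc q M) fun r hr hd => ?_
    obtain ⟨i, hi⟩ := IsPGroup.iff_card.1 (isPGroup_Oc q M)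
    rw [hi] at hd
    exact (Nat.prime_dvd_prime_iff_eq hr hq').1 (hr.dvd_of_dvd_pow hd) ▸ hqS
  haveI : (S.subgroupOf M).Normal :=
    normal_subgroupOf_of_le_normalizer (BGFinal72.le_normalizer_sigmaCore M)
  set S' := S.subgroupOf M with hS'
  set N' := Cfsg.pCore q ↥M with hN'
  haveI := HallCore.pCore_characteristic q M
  set f := QuotientGroup.mk' N' with hf
  haveI : (S'.map f).Normal := Normal.map inferInstance f (QuotientGroup.mk'_surjective _)
  have hKSn : ∀ k : M, k ∈ normalizer (S' : Set M) := fun k => by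
    rw [normalizer_eq_top]; exact mem_top k
  have hkerN : ∀ v : M, f v = 1 ↔ (v : G) ∈ N := fun v => (QuotientGroup.eq_one_iff v).trans
    ⟨fun h => ⟨v, h, rfl⟩, fun ⟨w, hw, hwe⟩ => (Subtype.ext hwe : w = v) ▸ hw⟩
  -- `K` is fixed-point-free on `M_σ / N`
  have hnilS : Group.IsNilpotent (S'.map f) := by
    refine FrobeniusNilpotent.isNilpotent_of_complement (H := (K.subgroupOf M).map f) ?_ ?_
    · intro h
      obtain ⟨k, hk, hk1⟩ := K.bot_or_exists_ne_one.resolve_left hK1
      have h1 : k ∈ K ⊓ S := ⟨hk, hNS ((hkerN ⟨k, hKM hk⟩).1 (mem_bot.1 (h ▸ mem_map_of_mem f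
        (show (⟨k, hKM hk⟩ : M) ∈ K.subgroupOf M from hk))))⟩
      rw [hcompl.2.2.1, mem_bot] at h1
      exact hk1 h1
    · rintro _ ⟨k, hk, rfl⟩ hk1
      have hk1' : (k : G) ≠ 1 := fun e => hk1 (by rw [show k = 1 from Subtype.ext e, map_one])
      rw [BGFcoreAct72.map_fix f (hKSn k) ?_, eq_bot_iff]
      · rintro _ ⟨x, hx, rfl⟩
        have h2 : (x : G) ∈ S ⊓ centralizer ({(k : G)} : Set G) :=
          ⟨hx.1, mem_centralizer_singleton_iff.2
            (congrArg Subtype.val (mem_centralizer_singleton_iff.1 hx.2))⟩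
        rw [(S1430.result hG M hM K hKU.hall hK1).1 (k : G) hk hk1'] at h2
        exact mem_bot.2 ((hkerN x).2 (hKsO h2))
      · rw [hS', Nat.card_congr (subgroupOfEquivOfLe hSM).toEquiv]
        exact ((BGFinal72.coprime_K_sigma hKU).coprime_dvd_right
          (orderOf_submonoid k ▸ K.orderOf_dvd_natCard hk :)).symm
  -- whose Sylow `q`-subgroup is trivial
  have hqb : ¬ q ∣ Nat.card (S'.map f) := by
    intro hd
    haveI := hnilS
    obtain ⟨T⟩ : Nonempty (Sylow q ↥(S'.map f)) := inferInstance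
    have hTn : (T : Subgroup ↥(S'.map f)).Normal :=
      Sylow.normal_of_normalizerCondition Group.normalizerCondition_of_isNilpotent T
    haveI := Sylow.characteristic_of_normal T hTn
    set T1 := (T : Subgroup ↥(S'.map f)).map (S'.map f).subtype with hT1
    haveI : T1.Normal :=
      ConjAct.normal_of_characteristic_of_normal (H := S'.map f) (K := (T : Subgroup ↥(S'.map f)))
    have h1 : T1.comap f ≤ N' := HallCore.le_pCore
      ((T.isPGroup'.map _).comap_of_ker_isPGroup f (by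
        rw [hf, QuotientGroup.ker_mk']; exact HallCore.isPGroup_pCore q M))
    have h2 : T1 = ⊥ := by
      rw [← map_comap_eq_self_of_surjective (QuotientGroup.mk'_surjective N') T1, eq_bot_iff]
      refine (map_mono h1).trans (le_of_eq ?_)
      rw [Subgroup.map_eq_bot_iff, QuotientGroup.ker_mk']
    have h3 : (T : Subgroup ↥(S'.map f)) = ⊥ :=
      (map_eq_bot_iff_of_injective _ (S'.map f).subtype_injective).1 h2
    have h4 := T.dvd_card_of_dvd_card hd
    rw [h3, card_bot] at h4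
    exact hq'.ne_one (Nat.dvd_one.1 h4)
  have hrel : N.relIndex S = Nat.card (S'.map f) := by
    have h1 : f.ker.relIndex S' = Nat.card (S'.map f) := Subgroup.relIndex_ker _ f
    rw [QuotientGroup.ker_mk', ← relIndex_map_map_of_injective _ _ M.subtype_injective, hS',
      map_subgroupOf_eq_of_le hSM] at h1
    exact h1
  refine ⟨hNS, ?_, hrel ▸ hqb, fun D hD => ?_⟩
  · haveI : Group.IsNilpotent N' := (HallCore.isPGroup_pCore q M).isNilpotent
    have hle := FittingHallBasic.le_fittingHall (N := N') inferInstance inferInstance (by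
      obtain ⟨i, hi⟩ := IsPGroup.iff_card.1 (HallCore.isPGroup_pCore q M)
      rw [show Nat.card N' = q ^ i from hi]
      refine ((Nat.Prime.coprime_iff_not_dvd hq').2 fun hd => ?_).pow_left i
      have e : N'.index = N.relIndex M := by
        rw [hN, relIndex, subgroupOf, comap_map_eq_self_of_injective M.subtype_injective]
      rw [e, ← relIndex_mul_relIndex N S M hNS hSM] at hd
      rcases (Nat.Prime.dvd_mul hq').1 hd with h | h
      · exact hqb (hrel ▸ h)
      · exact hσ.2.2 q hq' hqS h)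
    exact map_mono hle
  · have hDM : D ≤ M := hD.2.1.trans hSM
    set g := f.comp (Subgroup.inclusion hDM) with hg
    have hinj : Function.Injective g := by
      rw [injective_iff_map_eq_one]
      intro d hd
      have h1 : (d : G) ∈ N ⊓ D := ⟨(hkerN (Subgroup.inclusion hDM d)).1 hd, d.2⟩
      rw [hD.2.2.1, mem_bot] at h1
      exact Subtype.ext h1
    haveI : Group.IsNilpotent g.range := by
      refine ComponentsCores.nilpotent_of_le (B := S'.map f) ?_ hnilS
      rintro _ ⟨d, rfl⟩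
      exact mem_map_of_mem f (show Subgroup.inclusion hDM d ∈ S' from hD.2.1 d.2)
    exact Group.nilpotent_of_mulEquiv (MonoidHom.ofInjective hinj).symm

/-- The prime `q = |K*|` is ideal. -/
theorem q_mem_beta (hG : Cfsg.IsMinSimpleOddOrder G) {M K U : Subgroup G} (hM : IsCoatom M)
    (hKU : Cfsg.IsSigmaDecomposition M K U) (hne : Cfsg.fittingHallOf M ≠ Cfsg.sigmaCore M)
    {q : ℕ} (hqc : q = Nat.card ↥(Cfsg.sigmaCore M ⊓ centralizer (K : Set G))) :
    q ∈ Cfsg.beta M := by
  obtain ⟨hNS, -, hrel, hD⟩ := sylow_normal hG hM hKU hne hqc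
  obtain ⟨-, -, -, -, hq⟩ := basics hG hM hKU hne
  rw [← hqc] at hq
  haveI := Fact.mk hq
  set S := Cfsg.sigmaCore M
  set Q := Oc q M
  have hSM : S ≤ M := BGFinal72.sigmaCore_le M
  have hSQ : S ≤ normalizer (Q : Set G) := hSM.trans (le_normalizer_Oc q M)
  by_contra hb
  have hqM : q ∣ Nat.card M :=
    (hqc ▸ card_dvd_of_le inf_le_left : q ∣ Nat.card S).trans (card_dvd_of_le hSM)
  obtain ⟨-, ⟨P, L, hL, hLP⟩, -⟩ := (S1414.result hG M hM).2.2.2.2 q hq hqM hb
  haveI := hL
  apply not_nilpotent hG hM hne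
  set L' := L.map S.subtype with hL'
  have hqL : ¬ q ∣ Nat.card L' := by
    rw [hL', card_map_of_injective S.subtype_injective, ← hLP.index_eq_card]
    exact P.not_dvd_index
  obtain ⟨i, hi⟩ := IsPGroup.iff_card.1 (isPGroup_Oc q M)
  have hcop : (Nat.card Q).Coprime (Nat.card L') := by
    rw [hi]; exact ((Nat.Prime.coprime_iff_not_dvd hq).2 hqL).pow_left i
  have hL'S : L' ≤ S := map_subtype_le _
  have hcard : Nat.card Q * Nat.card L' = Nat.card S := by
    have h1 : Nat.card (P : Subgroup S) = Nat.card Q := by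
      have h2 : Nat.card Q ∣ Nat.card S := card_dvd_of_le hNS
      rw [P.card_eq_multiplicity, ← BGFinal72.card_mul_relIndex hNS, hi,
        Nat.factorization_mul (pow_ne_zero _ hq.ne_zero) (fun h => Nat.card_pos.ne' (by
          rw [← BGFinal72.card_mul_relIndex hNS, h, mul_zero] : Nat.card S = 0)),
        Nat.Prime.factorization_pow hq]
      simp [Nat.factorization_eq_zero_of_not_dvd hrel]
    rw [hL', card_map_of_injective S.subtype_injective, ← h1, mul_comm]
    exact hLP.card_mul_card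
  have hc : Cfsg.IsComplIn Q L' S := BGTypeBasic.isComplIn_of_card hNS hL'S hcop hcard
  refine nilpotent_of_commuting (A := Q) (B := L') ((isPGroup_Oc q M).isNilpotent) (hD L' hc)
    (fun a ha b hb' => ?_) hc.2.2.2
  have hLn : S ≤ normalizer (L' : Set G) := by
    intro s hs
    rw [mem_normalizer_iff]
    intro x
    constructor
    · rintro ⟨y, hy, rfl⟩
      exact ⟨⟨s, hs⟩ * y * ⟨s, hs⟩⁻¹, hL.conj_mem y hy _, rfl⟩
    · rintro ⟨y, hy, hye⟩
      exact ⟨⟨s, hs⟩⁻¹ * y * ⟨s, hs⟩, by simpa using hL.conj_mem y hy ⟨s, hs⟩⁻¹, by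
        simp only [map_mul, map_inv, coe_subtype] at hye ⊢
        rw [hye]; group⟩
  have h1 : a * b * a⁻¹ * b⁻¹ ∈ Q ⊓ L' :=
    ⟨(by
        have h2 := Q.mul_mem ha ((mem_normalizer_iff.1 (hSQ (hL'S hb')) a⁻¹).1 (Q.inv_mem ha))
        simpa [mul_assoc] using h2),
      L'.mul_mem ((mem_normalizer_iff.1 (hLn (hNS ha)) b).1 hb') (L'.inv_mem hb')⟩
  rw [inf_eq_bot_of_coprime hcop, mem_bot] at h1
  exact mul_inv_eq_iff_eq_mul.1 (mul_inv_eq_one.1 h1)

end Cfsg.Agent.BGFcore72
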