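import Mathlib
import Cfsg.Prelude.Def_Solvable
import Cfsg.Prelude.Def_SolvableStructure
import Cfsg.Prelude.Def_OddOrderLocal
import Cfsg.Agent.Lib.HallCore
import Cfsg.Agent.Lib.HallSolvable
import Cfsg.Agent.Lib.HallTheorem

/-!
# Carter subgroups
-/

set_option autoImplicit false

namespace Cfsg.Agent.HallCarter

open scoped Pointwise
open Subgroup Cfsg.Agent.HallCore Cfsg.Agent.HallSolvable Cfsg.Agent.HallTheorem

variable {G : Type*} [Group G]

theorem normalizer_conj_smul (g : G) (H : Subgroup G) :
    Subgroup.normalizer ((MulAut.conj g • H : Subgroup G) : Set G) =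
      MulAut.conj g • Subgroup.normalizer (H : Set G) := by
  rw [conj_smul_eq_map, conj_smul_eq_map]
  exact (Subgroup.map_normalizer_eq_of_bijective H (MulAut.conj g).bijective).symm

theorem mem_normalizer_iff_smul (g : G) (H : Subgroup G) :
    g ∈ Subgroup.normalizer (H : Set G) ↔ MulAut.conj g • H = H := by
  rw [Subgroup.mem_normalizer_iff_map_conj_eq, conj_smul_eq_map]
  rfl

theorem isCarter_conj {C : Subgroup G} (h : Cfsg.IsCarterSubgroup C) (g : G) :
    Cfsg.IsCarterSubgroup (MulAut.conj g • C) := by
  refine ⟨?_, by rw [normalizer_conj_smul, h.2]⟩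
  have := h.1
  exact Group.nilpotent_of_mulEquiv
    (Subgroup.equivMapOfInjective C (MulAut.conj g).toMonoidHom (MulAut.conj g).injective)

theorem isCarter_subgroupOf {C K : Subgroup G} (h : Cfsg.IsCarterSubgroup C) (hle : C ≤ K) :
    Cfsg.IsCarterSubgroup (C.subgroupOf K) := by
  refine ⟨?_, by rw [← Subgroup.subgroupOf_normalizer_eq hle, h.2]⟩
  have := h.1
  exact Group.nilpotent_of_mulEquiv (Subgroup.subgroupOfEquivOfLe hle).symm

/-- An element normalizing `H` whose order is coprime to the index of `H` lies in `H`. -/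
theorem mem_of_normalize_coprime [Finite G] {H : Subgroup G} {x : G}
    (hx : x ∈ Subgroup.normalizer (H : Set G)) (hc : (orderOf x).Coprime H.index) : x ∈ H := by
  set N := Subgroup.normalizer (H : Set G)
  have : (H.subgroupOf N).Normal := Subgroup.normal_in_normalizer
  set y : N ⧸ H.subgroupOf N := QuotientGroup.mk ⟨x, hx⟩
  have h1 : orderOf y ∣ orderOf x := by
    apply orderOf_dvd_of_pow_eq_one
    rw [← QuotientGroup.mk_pow,
      show (⟨x, hx⟩ : N) ^ orderOf x = 1 from Subtype.ext (pow_orderOf_eq_one x)]
    rfl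
  have h2 : orderOf y ∣ H.index := by
    refine (orderOf_dvd_natCard y).trans ?_
    show H.relIndex N ∣ H.index
    exact ⟨N.index, (Subgroup.relIndex_mul_index Subgroup.le_normalizer).symm⟩
  exact Subgroup.mem_subgroupOf.mp
    ((QuotientGroup.eq_one_iff _).mp (orderOf_eq_one_iff.mp (Nat.eq_one_of_dvd_coprimes hc h1 h2)))

/-- The normalizer of a Hall subgroup is self-normalizing. -/
theorem normalizer_normalizer_hall [Finite G] {H : Subgroup G}
    (hc : (Nat.card H).Coprime H.index) :
    Subgroup.normalizer ((Subgroup.normalizer (H : Set G) : Subgroup G) : Set G) =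
      Subgroup.normalizer (H : Set G) := by
  refine le_antisymm ?_ Subgroup.le_normalizer
  intro g hg
  rw [mem_normalizer_iff_smul]
  refine Subgroup.eq_of_le_of_card_ge ?_ (le_of_eq (card_conj_smul g H).symm)
  intro y hy
  refine mem_of_normalize_coprime ?_ ?_
  · rw [← (mem_normalizer_iff_smul _ _).mp hg]
    exact Subgroup.pointwise_smul_le_pointwise_smul_iff.mpr Subgroup.le_normalizer hy
  · refine Nat.Coprime.coprime_dvd_left ?_ hc
    rw [← card_conj_smul g H]
    exact Subgroup.orderOf_dvd_natCard _ hy

/-- The basic structure of a group with a normal `p`-subgroup with nilpotent quotient. -/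
theorem normalizer_hall_nilpotent [Finite G] {p : ℕ} [hp : Fact p.Prime] {N : Subgroup G}
    [N.Normal] (hN : IsPGroup p N) [Group.IsNilpotent (G ⧸ N)] {H : Subgroup G}
    (hH : Cfsg.IsPiHall ({p}ᶜ : Set ℕ) H) :
    Group.IsNilpotent (Subgroup.normalizer (H : Set G)) := by
  rw [isPiHall_iff, compl_compl] at hH
  obtain ⟨hH1, hH2⟩ := hH
  obtain ⟨a, ha⟩ := (piNat_singleton_iff hp.out Subgroup.index_ne_zero_of_finite).mp hH2
  have hHc := (piNat_compl_singleton_iff hp.out).mp hH1
  have hdisj : H ⊓ N = ⊥ := by
    obtain ⟨k, hk⟩ := IsPGroup.iff_card.mp hN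
    refine disjoint_iff.mp (Subgroup.disjoint_of_coprime_natCard ?_)
    rw [hk]
    exact hHc.pow_right _
  have hHnil : Group.IsNilpotent H := by
    let f : H →* (H.map (QuotientGroup.mk' N)) := (QuotientGroup.mk' N).subgroupMap H
    have hbij : Function.Bijective f := by
      refine ⟨?_, (QuotientGroup.mk' N).subgroupMap_surjective H⟩
      rw [injective_iff_map_eq_one]
      intro x hx
      have h1 : (x : G) ∈ H ⊓ N :=
        ⟨x.2, (QuotientGroup.eq_one_iff _).mp (congrArg Subtype.val hx)⟩
      rw [hdisj] at h1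
      exact Subtype.ext h1
    exact Group.nilpotent_of_mulEquiv (MulEquiv.ofBijective f hbij).symm
  set D := Subgroup.normalizer (H : Set G)
  refine (Group.isNilpotent_of_finite_tfae (G := D).out 0 3 rfl rfl).mpr ?_
  intro r hr R
  have := hr
  by_cases hrp : r = p
  · subst hrp
    obtain ⟨S⟩ : Nonempty (Sylow r G) := inferInstance
    have hNS : N ≤ (S : Subgroup G) := (le_pCore hN).trans (pCore_le_sylow S)
    have hSn : (S : Subgroup G).Normal := by
      have hq := QuotientGroup.mk'_surjective N
      have h1 : ((S.mapSurjective hq : Sylow r (G ⧸ N)) : Subgroup (G ⧸ N)).Normal := inferInstance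
      rw [← comap_mk'_map_of_le hNS, ← Sylow.coe_mapSurjective hq]
      exact h1.comap _
    have hRle : (R : Subgroup D) ≤ (S : Subgroup G).subgroupOf D := by
      intro x hx
      obtain ⟨S', hS'⟩ := (R.2.map D.subtype).exists_le_sylow
      obtain ⟨g, rfl⟩ := MulAction.exists_smul_eq G S S'
      rw [Sylow.smul_eq_of_normal] at hS'
      exact hS' ⟨x, hx, rfl⟩
    rw [← R.3 (S.2.comap_of_injective D.subtype D.subtype_injective) hRle]
    exact Subgroup.Normal.subgroupOf hSn D
  · have hHD : H ≤ D := Subgroup.le_normalizer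
    have : (H.subgroupOf D).Normal := Subgroup.normal_in_normalizer
    have hRH : (R : Subgroup D) ≤ H.subgroupOf D := by
      intro x hx
      rw [Subgroup.mem_subgroupOf]
      refine mem_of_normalize_coprime x.2 ?_
      obtain ⟨k, hk⟩ := IsPGroup.iff_orderOf.mp R.2 ⟨x, hx⟩
      rw [Subgroup.orderOf_coe, ← Subgroup.orderOf_coe] at *
      have hk' : orderOf (x : G) = r ^ k := by
        rw [Subgroup.orderOf_coe, ← hk, ← Subgroup.orderOf_coe]
      rw [hk', ha]
      exact ((Nat.coprime_primes hr.out hp.out).mpr hrp).pow k a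
    have : Group.IsNilpotent (H.subgroupOf D) :=
      Group.nilpotent_of_mulEquiv (Subgroup.subgroupOfEquivOfLe hHD).symm
    have hch : ((R.subtype hRH : Sylow r (H.subgroupOf D)) : Subgroup (H.subgroupOf D)).Characteristic :=
      Sylow.characteristic_of_normal _ inferInstance
    have h3 := ConjAct.normal_of_characteristic_of_normal
      (K := ((R.subtype hRH : Sylow r (H.subgroupOf D)) : Subgroup (H.subgroupOf D)))
    rwa [Sylow.coe_subtype, Subgroup.map_subgroupOf_eq_of_le hRH] at h3

/-- A self-normalizing subgroup of a nilpotent group is everything. -/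
theorem eq_top_of_normalizer_eq [Group.IsNilpotent G] {C : Subgroup G}
    (h : Subgroup.normalizer (C : Set G) = C) : C = ⊤ :=
  normalizerCondition_iff_only_full_group_self_normalizing.mp
    Group.normalizerCondition_of_isNilpotent C h

theorem eq_of_carter_le [Finite G] {C D : Subgroup G} (hC : Cfsg.IsCarterSubgroup C) (hle : C ≤ D)
    (hD : Group.IsNilpotent D) : C = D := by
  have h := eq_top_of_normalizer_eq (isCarter_subgroupOf hC hle).2
  exact le_antisymm hle (Subgroup.subgroupOf_eq_top.mp h)

/-- If `G/N` is nilpotent, `N` a normal `p`-group, and the Carter subgroup `C` covers `G/N`, then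
`C` is the normalizer of a Hall `p'`-subgroup of `G`. -/
theorem exists_hall_of_carter [Finite G] {p : ℕ} [hp : Fact p.Prime] {N : Subgroup G}
    [N.Normal] (hN : IsPGroup p N) [Group.IsNilpotent (G ⧸ N)] {C : Subgroup G}
    (hC : Cfsg.IsCarterSubgroup C) (hCN : C ⊔ N = ⊤) :
    ∃ H : Subgroup G, Cfsg.IsPiHall ({p}ᶜ : Set ℕ) H ∧
      Subgroup.normalizer (H : Set G) = C := by
  have := hC.1
  have : Group.IsSolvable C := inferInstance
  obtain ⟨H₀, hH₀⟩ := exists_isPiHall_of_solvable (G := C) ({p}ᶜ : Set ℕ)
  set H := H₀.map C.subtype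
  have hH₀' := isPiHall_iff.mp hH₀
  have hHall : Cfsg.IsPiHall ({p}ᶜ : Set ℕ) H := by
    rw [isPiHall_iff]
    refine ⟨hH₀'.1.of_dvd (Subgroup.card_map_dvd _ _), ?_⟩
    rw [Subgroup.index_map_subtype]
    refine hH₀'.2.mul ?_
    rw [compl_compl]
    obtain ⟨k, hk⟩ := IsPGroup.iff_card.mp hN
    refine PiNat.of_dvd ((piNat_singleton_iff hp.out (pow_ne_zero k hp.out.ne_zero)).mpr ⟨k, rfl⟩) ?_
    rw [← hk]
    refine ⟨Nat.card ↥(C ⊓ N), ?_⟩
    have h1 := card_mul_relIndex (inf_le_left : C ⊓ N ≤ C)
    rw [Subgroup.inf_relIndex_left, ← Subgroup.relIndex_sup_right, hCN,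
      Subgroup.relIndex_top_right] at h1
    refine Nat.eq_of_mul_eq_mul_left (Nat.card_pos (α := C)) ?_
    rw [← mul_assoc, Subgroup.card_mul_index, ← N.card_mul_index, ← h1]
    ring
  have hcop : (Nat.card H₀).Coprime H₀.index :=
    PiNat.coprime hH₀'.1 hH₀'.2
  have hH₀n : H₀.Normal := by
    rw [← Subgroup.normalizer_eq_top_iff]
    exact eq_top_of_normalizer_eq (normalizer_normalizer_hall hcop)
  refine ⟨H, hHall, (eq_of_carter_le hC ?_ (normalizer_hall_nilpotent hN hHall)).symm⟩
  intro c hc
  rw [mem_normalizer_iff_smul]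
  have h1 : MulAut.conj (⟨c, hc⟩ : C) • H₀ = H₀ := conj_smul_normal _ H₀
  have h2 := congrArg (Subgroup.map C.subtype) h1
  rw [map_conj_smul] at h2
  exact h2

universe u

theorem carter_main {G : Type u} [Group G] [Finite G] [Group.IsSolvable G] :
    (∃ C : Subgroup G, Cfsg.IsCarterSubgroup C) ∧
      ∀ C D : Subgroup G, Cfsg.IsCarterSubgroup C → Cfsg.IsCarterSubgroup D →
        ∃ g : G, MulAut.conj g • C = D := by
  induction hn : Nat.card G using Nat.strong_induction_on generalizing G with
  | _ n ih =>
    rcases subsingleton_or_nontrivial G with h | h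
    · exact ⟨⟨⊤, inferInstance, Subsingleton.elim _ _⟩, fun _ _ _ _ => ⟨1, Subsingleton.elim _ _⟩⟩
    obtain ⟨N, hN⟩ := exists_minNormal (G := G)
    have := hN.normal
    obtain ⟨p, hp, -, hNp⟩ := hN.exists_prime
    have : Fact p.Prime := ⟨hp⟩
    set q := QuotientGroup.mk' N with hq
    have hqs : Function.Surjective q := QuotientGroup.mk'_surjective N
    obtain ⟨⟨Kb, hKb⟩, hconjb⟩ := ih _ (hn ▸ card_quotient_lt hN.ne_bot) (G := G ⧸ N) rfl
    -- images of Carter subgroups are Carter subgroups
    have himg : ∀ C : Subgroup G, Cfsg.IsCarterSubgroup C →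
        Cfsg.IsCarterSubgroup (C.map q) := by
      intro C hC
      have := hC.1
      refine ⟨Group.nilpotent_of_surjective (q.subgroupMap C) (q.subgroupMap_surjective C), ?_⟩
      refine le_antisymm ?_ Subgroup.le_normalizer
      intro x hx
      obtain ⟨g, rfl⟩ := hqs x
      by_cases htop : C ⊔ N = ⊤
      · have : C.map q = ⊤ := by
          rw [← Subgroup.map_top_of_surjective q hqs, ← htop, Subgroup.map_sup,
            hq, QuotientGroup.map_mk'_self, sup_bot_eq]
        rw [this]; trivial
      set X := C ⊔ N with hX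
      have hgX : MulAut.conj g • X = X := by
        have h1 := congrArg (Subgroup.comap q) ((mem_normalizer_iff_smul _ _).mp hx)
        rw [← map_conj_smul, comap_mk'_map, comap_mk'_map] at h1
        rw [hX, Subgroup.smul_sup, conj_smul_normal g N]
        exact h1
      have hC2 : MulAut.conj g • C ≤ X :=
        le_trans (Subgroup.pointwise_smul_le_pointwise_smul_iff.mpr le_sup_left) hgX.le
      obtain ⟨u, hu⟩ := (ih _ (hn ▸ card_subgroup_lt htop) (G := X) rfl).2 _ _
        (isCarter_subgroupOf hC le_sup_left) (isCarter_subgroupOf (isCarter_conj hC g) hC2)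
      have h3 := congrArg (Subgroup.map X.subtype) hu
      rw [map_conj_smul, Subgroup.map_subgroupOf_eq_of_le le_sup_left,
        Subgroup.map_subgroupOf_eq_of_le hC2] at h3
      have h4 : (u : G)⁻¹ * g ∈ C := by
        rw [← hC.2, mem_normalizer_iff_smul, map_mul, mul_smul, ← h3, ← mul_smul, ← map_mul]
        simp
      have h5 : g ∈ X := by
        have := X.mul_mem u.2 ((le_sup_left : C ≤ X) h4)
        rwa [mul_inv_cancel_left] at this
      obtain ⟨c, hc, m, hm, rfl⟩ := Subgroup.mem_sup_of_normal_right.mp h5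
      refine ⟨c, hc, ?_⟩
      rw [map_mul, (QuotientGroup.eq_one_iff m).mpr hm |> fun h => (show q m = 1 from h), mul_one]
    set K := Kb.comap q with hK
    have hKmap : K.map q = Kb := Subgroup.map_comap_eq_self_of_surjective hqs Kb
    have hnilquot : ∀ {X : Subgroup (G ⧸ N)}, Cfsg.IsCarterSubgroup X → X = ⊤ →
        Group.IsNilpotent (G ⧸ N) := by
      intro X hX hXt
      subst hXt
      have := hX.1
      exact Group.nilpotent_of_mulEquiv Subgroup.topEquiv
    refine ⟨?_, ?_⟩
    · -- existence
      by_cases hKt : K = ⊤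
      · have : Group.IsNilpotent (G ⧸ N) := hnilquot hKb
          (by rw [← hKmap, hKt, Subgroup.map_top_of_surjective q hqs])
        obtain ⟨H, hH⟩ := exists_isPiHall_of_solvable (G := G) ({p}ᶜ : Set ℕ)
        have h' := isPiHall_iff.mp hH
        exact ⟨_, normalizer_hall_nilpotent hNp hH,
          normalizer_normalizer_hall (PiNat.coprime h'.1 h'.2)⟩
      · obtain ⟨C₀, hC₀⟩ := (ih _ (hn ▸ card_subgroup_lt hKt) (G := K) rfl).1
        set C := C₀.map K.subtype with hCdef
        have hCK : C ≤ K := Subgroup.map_subtype_le _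
        have hCnil : Group.IsNilpotent C := by
          have := hC₀.1
          exact Group.nilpotent_of_mulEquiv
            (Subgroup.equivMapOfInjective C₀ K.subtype K.subtype_injective)
        refine ⟨C, hCnil, le_antisymm ?_ Subgroup.le_normalizer⟩
        -- `C` covers `K/N`
        have hCN : C.map q = Kb := by
          let f : K →* Kb := (MulEquiv.subgroupCongr hKmap).toMonoidHom.comp (q.subgroupMap K)
          have hf : Function.Surjective f :=
            (MulEquiv.subgroupCongr hKmap).surjective.comp (q.subgroupMap_surjective K)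
          have := hC₀.1
          have hsn : Subgroup.normalizer ((C₀.map f : Subgroup Kb) : Set Kb) = C₀.map f := by
            refine le_antisymm ?_ Subgroup.le_normalizer
            intro y hy
            obtain ⟨g, rfl⟩ := hf y
            set X := C₀ ⊔ f.ker
            have hmapX : X.map f = C₀.map f := by
              rw [Subgroup.map_sup, (Subgroup.map_eq_bot_iff _).mpr le_rfl, sup_bot_eq]
            have hgX : MulAut.conj g • X = X := by
              have h1 := congrArg (Subgroup.comap f) ((mem_normalizer_iff_smul _ _).mp hy)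
              rw [← map_conj_smul, Subgroup.comap_map_eq, Subgroup.comap_map_eq] at h1
              show MulAut.conj g • (C₀ ⊔ f.ker) = _
              rw [Subgroup.smul_sup, conj_smul_normal g f.ker]
              exact h1
            have hC2 : MulAut.conj g • C₀ ≤ X :=
              le_trans (Subgroup.pointwise_smul_le_pointwise_smul_iff.mpr le_sup_left) hgX.le
            obtain ⟨u, hu⟩ := (ih _ (hn ▸ lt_of_le_of_lt (Subgroup.card_le_card_group X)
              (card_subgroup_lt hKt)) (G := X) rfl).2 _ _
              (isCarter_subgroupOf hC₀ le_sup_left) (isCarter_subgroupOf (isCarter_conj hC₀ g) hC2)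
            have h3 := congrArg (Subgroup.map X.subtype) hu
            rw [map_conj_smul, Subgroup.map_subgroupOf_eq_of_le le_sup_left,
              Subgroup.map_subgroupOf_eq_of_le hC2] at h3
            have h4 : (u : K)⁻¹ * g ∈ C₀ := by
              rw [← hC₀.2, mem_normalizer_iff_smul, map_mul, mul_smul, ← h3, ← mul_smul, ← map_mul]
              simp
            have h5 : g ∈ X := by
              have := X.mul_mem u.2 ((le_sup_left : C₀ ≤ X) h4)
              rwa [mul_inv_cancel_left] at this
            rw [← hmapX]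
            exact Subgroup.mem_map_of_mem f h5
          have := hKb.1
          have htop := eq_top_of_normalizer_eq hsn
          have := congrArg (Subgroup.map Kb.subtype) htop
          rw [Subgroup.map_map, ← MonoidHom.range_eq_map, Kb.range_subtype] at this
          rw [← this, hCdef, Subgroup.map_map]
          rfl
        intro g hg
        have h1 : q g ∈ Subgroup.normalizer (Kb : Set (G ⧸ N)) := by
          rw [mem_normalizer_iff_smul, ← hCN, ← map_conj_smul,
            (mem_normalizer_iff_smul _ _).mp hg]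
        rw [hKb.2] at h1
        have h2 : (⟨g, h1⟩ : K) ∈ Subgroup.normalizer (C₀ : Set K) := by
          rw [mem_normalizer_iff_smul]
          apply Subgroup.map_injective K.subtype_injective
          rw [map_conj_smul]
          exact (mem_normalizer_iff_smul _ _).mp hg
        rw [hC₀.2] at h2
        exact ⟨⟨g, h1⟩, h2, rfl⟩
    · -- conjugacy
      intro C D hC hD
      obtain ⟨x, hx⟩ := hconjb _ _ (himg C hC) (himg D hD)
      obtain ⟨g, rfl⟩ := hqs x
      set C' := MulAut.conj g • C
      have hC' : Cfsg.IsCarterSubgroup C' := isCarter_conj hC g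
      have hsup : C' ⊔ N = D ⊔ N := by
        have h1 := congrArg (Subgroup.comap q) hx
        rwa [← map_conj_smul, comap_mk'_map, comap_mk'_map] at h1
      suffices ∃ y : G, MulAut.conj y • C' = D by
        obtain ⟨y, hy⟩ := this
        exact ⟨y * g, by rw [map_mul, mul_smul]; exact hy⟩
      by_cases hX : D ⊔ N = ⊤
      · have : Group.IsNilpotent (G ⧸ N) := hnilquot (himg D hD) (by
          rw [← Subgroup.map_top_of_surjective q hqs, ← hX, Subgroup.map_sup,
            hq, QuotientGroup.map_mk'_self, sup_bot_eq])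
        obtain ⟨H₁, hH₁, e₁⟩ := exists_hall_of_carter hNp hC' (hsup ▸ hX)
        obtain ⟨H₂, hH₂, e₂⟩ := exists_hall_of_carter hNp hD hX
        obtain ⟨y, hy⟩ := isPiHall_conjugate_of_solvable hH₁ hH₂
        exact ⟨y, by rw [← e₁, ← e₂, ← normalizer_conj_smul, hy]⟩
      · have hle : C' ≤ D ⊔ N := hsup ▸ le_sup_left
        obtain ⟨u, hu⟩ := (ih _ (hn ▸ card_subgroup_lt hX) (G := ↥(D ⊔ N)) rfl).2 _ _
          (isCarter_subgroupOf hC' hle) (isCarter_subgroupOf hD le_sup_left)
        refine ⟨u, ?_⟩
        have h3 := congrArg (Subgroup.map (D ⊔ N).subtype) hu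
        rw [map_conj_smul, Subgroup.map_subgroupOf_eq_of_le hle,
          Subgroup.map_subgroupOf_eq_of_le le_sup_left] at h3
        exact h3

/-- Carter subgroups exist in finite solvable groups. -/
theorem exists_carter {G : Type u} [Group G] [Finite G] [Group.IsSolvable G] :
    ∃ C : Subgroup G, Cfsg.IsCarterSubgroup C :=
  carter_main.1

/-- Carter subgroups of finite solvable groups are conjugate. -/
theorem carter_conjugate {G : Type u} [Group G] [Finite G] [Group.IsSolvable G] {C D : Subgroup G}
    (hC : Cfsg.IsCarterSubgroup C) (hD : Cfsg.IsCarterSubgroup D) :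
    ∃ g : G, MulAut.conj g • C = D :=
  carter_main.2 C D hC hD

end Cfsg.Agent.HallCarter
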