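import Mathlib
import Cfsg.Prelude.Def_Solvable
import Cfsg.Prelude.Def_SolvableStructure
import Cfsg.Prelude.Def_OddOrderLocal
import Cfsg.Agent.Lib.HallCore
import Cfsg.Agent.Lib.HallSolvable
import Cfsg.Agent.Lib.HallTheorem

/-!
# Complement systems, Sylow systems and system normalizers
-/

set_option autoImplicit false

namespace Cfsg.Agent.HallSystem

open scoped Pointwise
open Subgroup Cfsg.Agent.HallCore Cfsg.Agent.HallSolvable Cfsg.Agent.HallTheorem

variable {G : Type*} [Group G]

theorem index_inf_of_coprime [Finite G] {H K : Subgroup G} (h : H.index.Coprime K.index) :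
    (H ⊓ K).index = H.index * K.index :=
  le_antisymm Subgroup.index_inf_le
    (Nat.le_of_dvd (Nat.pos_of_ne_zero Subgroup.index_ne_zero_of_finite)
      (h.mul_dvd_of_dvd_of_dvd (Subgroup.index_dvd_of_le inf_le_left)
        (Subgroup.index_dvd_of_le inf_le_right)))

/-- Subgroups of coprime index factorize the group. -/
theorem exists_mul_of_coprime_index [Finite G] {H K : Subgroup G} (h : H.index.Coprime K.index)
    (x : G) : ∃ a ∈ H, ∃ b ∈ K, x = a * b := by
  let f : H ⧸ K.subgroupOf H → G ⧸ K :=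
    Quotient.lift (fun a : H => ((a : G) : G ⧸ K)) (fun a b hab => by
      have hab' := QuotientGroup.leftRel_apply.mp hab
      rw [Subgroup.mem_subgroupOf] at hab'
      exact (QuotientGroup.eq).mpr (by simpa using hab'))
  have hinj : Function.Injective f := by
    intro a b
    induction a using Quotient.inductionOn' with
    | h a =>
      induction b using Quotient.inductionOn' with
      | h b =>
        intro hab
        refine Quotient.sound' ?_
        rw [QuotientGroup.leftRel_apply, Subgroup.mem_subgroupOf]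
        exact (by simpa using (QuotientGroup.eq).mp hab)
  have hcard : Nat.card (H ⧸ K.subgroupOf H) = Nat.card (G ⧸ K) := by
    show K.relIndex H = K.index
    have h1 := Subgroup.relIndex_mul_index (inf_le_left : H ⊓ K ≤ H)
    rw [index_inf_of_coprime h, Subgroup.inf_relIndex_left, mul_comm H.index] at h1
    exact Nat.eq_of_mul_eq_mul_right (Nat.pos_of_ne_zero Subgroup.index_ne_zero_of_finite) h1
  obtain ⟨a, ha⟩ := (hinj.bijective_of_nat_card_le hcard.ge).2 (x : G ⧸ K)
  induction a using Quotient.inductionOn' with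
  | h a =>
    exact ⟨a, a.2, (a : G)⁻¹ * x, (QuotientGroup.eq).mp ha, by group⟩

/-- If `|A| |B| = |T|` with `A, B ≤ T` disjoint then `AB = T`. -/
theorem mul_eq_of_card [Finite G] {A B T : Subgroup G} (hA : A ≤ T) (hB : B ≤ T)
    (hd : Disjoint A B) (hc : Nat.card A * Nat.card B = Nat.card T) :
    (A : Set G) * (B : Set G) = T := by
  refine Set.Subset.antisymm ?_ ?_
  · rintro _ ⟨a, ha, b, hb, rfl⟩
    exact T.mul_mem (hA ha) (hB hb)
  · intro t ht
    let f : A × B → T := fun x => ⟨x.1 * x.2, T.mul_mem (hA x.1.2) (hB x.2.2)⟩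
    have hf : Function.Injective f := fun x y hxy =>
      Subgroup.mul_injective_of_disjoint hd (congrArg Subtype.val hxy)
    obtain ⟨⟨a, b⟩, hab⟩ := (hf.bijective_of_nat_card_le (by rw [Nat.card_prod, hc])).2 ⟨t, ht⟩
    exact ⟨a, a.2, b, b.2, congrArg Subtype.val hab⟩

variable (G) in
/-- The primes dividing the order of `G`. -/
noncomputable def primesOf : Finset Nat.Primes := (Nat.card G).primeFactors.subtype Nat.Prime

theorem mem_primesOf [Finite G] {p : Nat.Primes} :
    p ∈ primesOf G ↔ (p : ℕ) ∣ Nat.card G := by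
  rw [primesOf]
  refine Finset.mem_subtype.trans ?_
  rw [Nat.mem_primeFactors]
  exact ⟨fun h => h.2.1, fun h => ⟨p.2, h, Nat.card_pos.ne'⟩⟩

theorem coprime_primes_pow {p q : Nat.Primes} (h : p ≠ q) (a b : ℕ) :
    ((p : ℕ) ^ a).Coprime ((q : ℕ) ^ b) :=
  Nat.Coprime.pow _ _ ((Nat.coprime_primes p.2 q.2).mpr fun e => h (Subtype.ext e))

section System

variable {K : Nat.Primes → Subgroup G}

theorem isPiHall_iff_index [Finite G] (p : Nat.Primes) (H : Subgroup G) :
    Cfsg.IsPiHall ({(p : ℕ)}ᶜ : Set ℕ) H ↔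
      H.index = (p : ℕ) ^ (Nat.card G).factorization p := by
  rw [isPiHall_iff, compl_compl]
  constructor
  · rintro ⟨h1, h2⟩
    obtain ⟨k, hk⟩ := (piNat_singleton_iff p.2 Subgroup.index_ne_zero_of_finite).mp h2
    have hc := (piNat_compl_singleton_iff p.2).mp h1
    rw [hk]
    congr 1
    have h3 := H.card_mul_index
    rw [hk] at h3
    rw [← h3, Nat.factorization_mul Nat.card_pos.ne' (pow_ne_zero _ p.2.ne_zero),
      Finsupp.add_apply, Nat.factorization_pow_self p.2,
      Nat.factorization_eq_zero_of_not_dvd ((Nat.Prime.coprime_iff_not_dvd p.2).mp hc.symm),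
      zero_add]
  · intro h
    refine ⟨?_, (piNat_singleton_iff p.2 Subgroup.index_ne_zero_of_finite).mpr ⟨_, h⟩⟩
    rw [piNat_compl_singleton_iff p.2, Nat.coprime_comm, Nat.Prime.coprime_iff_not_dvd p.2]
    intro hd
    refine Nat.pow_succ_factorization_not_dvd (n := Nat.card G) Nat.card_pos.ne' p.2 ?_
    conv_rhs => rw [← H.card_mul_index, h, mul_comm]
    rw [pow_succ]
    exact mul_dvd_mul_left _ hd

theorem exists_complementSystem [Finite G] [Group.IsSolvable G] :
    ∃ K : Nat.Primes → Subgroup G, Cfsg.IsComplementSystem K := by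
  refine ⟨fun p => (exists_isPiHall_of_solvable (G := G) ({(p : ℕ)}ᶜ : Set ℕ)).choose, fun p => ?_⟩
  exact (isPiHall_iff_index p _).mp (exists_isPiHall_of_solvable _).choose_spec

theorem isComplementSystem_conj (hK : Cfsg.IsComplementSystem K) (g : G) :
    Cfsg.IsComplementSystem fun p => MulAut.conj g • K p := fun p => by
  rw [index_conj_smul]; exact hK p

theorem eq_top_of_notMem [Finite G] (hK : Cfsg.IsComplementSystem K) {p : Nat.Primes}
    (hp : p ∉ primesOf G) : K p = ⊤ := by
  rw [← Subgroup.index_eq_one, hK p,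
    Nat.factorization_eq_zero_of_not_dvd (mem_primesOf.not.mp hp), pow_zero]

/-- Intersection of the members of a complement system over a finite set of primes. -/
def Kinf (K : Nat.Primes → Subgroup G) (s : Finset Nat.Primes) : Subgroup G := s.inf K

theorem Kinf_le {s : Finset Nat.Primes} {p : Nat.Primes} (h : p ∈ s) : Kinf K s ≤ K p :=
  Finset.inf_le h

theorem mem_Kinf {s : Finset Nat.Primes} {x : G} : x ∈ Kinf K s ↔ ∀ p ∈ s, x ∈ K p := by
  constructor
  · exact fun h p hp => Kinf_le hp h
  · intro h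
    have : Subgroup.zpowers x ≤ Kinf K s :=
      Finset.le_inf fun p hp => Subgroup.zpowers_le.mpr (h p hp)
    exact this (Subgroup.mem_zpowers x)

theorem index_Kinf [Finite G] (hK : Cfsg.IsComplementSystem K) (s : Finset Nat.Primes) :
    (Kinf K s).index = ∏ p ∈ s, (p : ℕ) ^ (Nat.card G).factorization p := by
  induction s using Finset.induction_on with
  | empty => simp [Kinf]
  | insert a t ha ih =>
    rw [Kinf, Finset.inf_insert, Finset.prod_insert ha, index_inf_of_coprime, hK, ← ih, Kinf]
    rw [hK, show (t.inf K).index = _ from ih]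
    exact Nat.Coprime.prod_right fun q hq =>
      coprime_primes_pow (fun (e : a = q) => ha (e.symm ▸ hq)) _ _

theorem isPiHall_Kinf [Finite G] (hK : Cfsg.IsComplementSystem K) (s : Finset Nat.Primes) :
    Cfsg.IsPiHall {n | ∀ p ∈ s, (p : ℕ) ≠ n} (Kinf K s) := by
  rw [isPiHall_iff]
  refine ⟨fun q hq hd p hp hpq => ?_, ?_⟩
  · refine ((isPiHall_iff_index p (K p)).mpr (hK p)).1 q hq
      (hd.trans (Subgroup.card_dvd_of_le (Kinf_le hp))) ?_
    simp [hpq]
  · rw [index_Kinf hK]
    intro q hq hd hq'
    obtain ⟨p, hp, hpd⟩ := (Nat.Prime.prime hq).exists_mem_finset_dvd hd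
    exact hq' p hp ((Nat.prime_dvd_prime_iff_eq hq p.2).mp (hq.dvd_of_dvd_pow hpd)).symm

/-- The Sylow `p`-subgroup determined by a complement system. -/
noncomputable def sylOf (K : Nat.Primes → Subgroup G) (p : Nat.Primes) : Subgroup G :=
  Kinf K ((primesOf G).erase p)

theorem mem_sylOf [Finite G] (hK : Cfsg.IsComplementSystem K) {p : Nat.Primes} {x : G} :
    x ∈ sylOf K p ↔ ∀ q : Nat.Primes, q ≠ p → x ∈ K q := by
  rw [sylOf, mem_Kinf]
  refine ⟨fun h q hq => ?_, fun h q hq => h q (Finset.mem_erase.mp hq).1⟩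
  by_cases hm : q ∈ primesOf G
  · exact h q (Finset.mem_erase.mpr ⟨hq, hm⟩)
  · rw [eq_top_of_notMem hK hm]; trivial

theorem card_sylOf [Finite G] (hK : Cfsg.IsComplementSystem K) (p : Nat.Primes) :
    Nat.card (sylOf K p) = (p : ℕ) ^ (Nat.card G).factorization p := by
  have h := isPiHall_iff.mp (isPiHall_Kinf hK ((primesOf G).erase p))
  obtain ⟨k, hk⟩ := (piNat_singleton_iff p.2 Nat.card_pos.ne').mp
    (show PiNat {(p : ℕ)} (Nat.card (sylOf K p)) from fun q hq hd => by
      by_contra hne
      exact h.1 q hq hd ⟨q, hq⟩ (Finset.mem_erase.mpr ⟨fun e => hne (congrArg Subtype.val e),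
        mem_primesOf.mpr (hd.trans (Subgroup.card_subgroup_dvd_card _))⟩) rfl)
  have hidx : ¬ (p : ℕ) ∣ (sylOf K p).index := fun hd =>
    h.2 p p.2 hd (fun q hq e => (Finset.mem_erase.mp hq).1 (Subtype.ext e))
  have hm := (sylOf K p).card_mul_index
  rw [hk] at hm ⊢
  congr 1
  rw [← hm, Nat.factorization_mul (pow_ne_zero _ p.2.ne_zero) Subgroup.index_ne_zero_of_finite,
    Finsupp.add_apply, Nat.factorization_pow_self p.2,
    Nat.factorization_eq_zero_of_not_dvd hidx, add_zero]

theorem sylOf_mul_eq [Finite G] (hK : Cfsg.IsComplementSystem K) {p q : Nat.Primes}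
    (hpq : p ≠ q) :
    (sylOf K p : Set G) * (sylOf K q : Set G) =
      Kinf K (((primesOf G).erase p).erase q) := by
  set s := ((primesOf G).erase p).erase q with hs
  have hp : sylOf K p ≤ Kinf K s := by
    simp only [sylOf, Kinf, hs]
    exact Finset.inf_mono (Finset.erase_subset _ _)
  have hq : sylOf K q ≤ Kinf K s := by
    simp only [sylOf, Kinf, hs]
    rw [Finset.erase_right_comm]
    exact Finset.inf_mono (Finset.erase_subset _ _)
  have hcop : (Nat.card (sylOf K p)).Coprime (Nat.card (sylOf K q)) := by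
    rw [card_sylOf hK, card_sylOf hK]; exact coprime_primes_pow hpq _ _
  refine mul_eq_of_card hp hq (Subgroup.disjoint_of_coprime_natCard hcop) ?_
  refine Nat.dvd_antisymm
    (hcop.mul_dvd_of_dvd_of_dvd (Subgroup.card_dvd_of_le hp) (Subgroup.card_dvd_of_le hq)) ?_
  rw [card_sylOf hK, card_sylOf hK, Nat.dvd_iff_prime_pow_dvd_dvd]
  intro r k hr hd
  rcases Nat.eq_zero_or_pos k with rfl | hk
  · simp
  have hrd : r ∣ Nat.card (Kinf K s) := (dvd_pow_self r hk.ne').trans hd
  have hr' := (isPiHall_iff.mp (isPiHall_Kinf hK s)).1 r hr hrd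
  have hG : r ^ k ∣ Nat.card G := hd.trans (Subgroup.card_subgroup_dvd_card _)
  have hv : r ^ k ∣ r ^ (Nat.card G).factorization r :=
    Nat.pow_dvd_pow r ((hr.pow_dvd_iff_le_factorization Nat.card_pos.ne').mp hG)
  have hmem : ∀ z : Nat.Primes, (z : ℕ) = r → z ∉ s := fun z hz hm => hr' z hm hz
  by_cases h1 : r = (p : ℕ)
  · subst h1; exact Dvd.dvd.mul_right hv _
  by_cases h2 : r = (q : ℕ)
  · subst h2; exact Dvd.dvd.mul_left hv _
  exfalso
  let z : Nat.Primes := ⟨r, hr⟩
  apply hmem z rfl
  rw [hs, Finset.mem_erase, Finset.mem_erase]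
  exact ⟨fun e => h2 (congrArg Subtype.val e), fun e => h1 (congrArg Subtype.val e),
    mem_primesOf.mpr ((dvd_pow_self r hk.ne').trans hG)⟩

/-- Sylow systems exist in finite solvable groups. -/
theorem exists_sylowSystem [Finite G] [Group.IsSolvable G] :
    ∃ S : (p : Nat.Primes) → Sylow (p : ℕ) G,
      ∀ p q : Nat.Primes, (S p : Set G) * (S q : Set G) = (S q : Set G) * (S p : Set G) := by
  obtain ⟨K, hK⟩ := exists_complementSystem (G := G)
  have hex : ∀ p : Nat.Primes, ∃ S : Sylow (p : ℕ) G, (S : Subgroup G) = sylOf K p := fun p =>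
    haveI : Fact (p : ℕ).Prime := ⟨p.2⟩
    ⟨Sylow.ofCard (sylOf K p) (card_sylOf hK p), rfl⟩
  choose S hS using hex
  refine ⟨S, fun p q => ?_⟩
  by_cases h : p = q
  · subst h; rfl
  show ((S p : Subgroup G) : Set G) * ((S q : Subgroup G) : Set G) =
    ((S q : Subgroup G) : Set G) * ((S p : Subgroup G) : Set G)
  rw [hS, hS, sylOf_mul_eq hK h, sylOf_mul_eq hK (Ne.symm h), Finset.erase_right_comm]

/-- Complement systems are conjugate. -/
theorem complementSystem_conjugate [Finite G] [Group.IsSolvable G] {L : Nat.Primes → Subgroup G}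
    (hK : Cfsg.IsComplementSystem K) (hL : Cfsg.IsComplementSystem L) :
    ∃ g : G, ∀ p : Nat.Primes, MulAut.conj g • K p = L p := by
  suffices h : ∀ s : Finset Nat.Primes, ∃ g : G, ∀ p ∈ s, MulAut.conj g • K p = L p by
    obtain ⟨g, hg⟩ := h (primesOf G)
    refine ⟨g, fun p => ?_⟩
    by_cases hp : p ∈ primesOf G
    · exact hg p hp
    · rw [eq_top_of_notMem hL hp, eq_top_of_notMem hK hp, conj_smul_normal]
  intro s
  induction s using Finset.induction_on with
  | empty => exact ⟨1, by simp⟩
  | insert a t ha ih =>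
    obtain ⟨g, hg⟩ := ih
    set K' : Nat.Primes → Subgroup G := fun p => MulAut.conj g • K p
    have hK' : Cfsg.IsComplementSystem K' := isComplementSystem_conj hK g
    obtain ⟨x, hx⟩ := isPiHall_conjugate_of_solvable ((isPiHall_iff_index a _).mpr (hK' a))
      ((isPiHall_iff_index a _).mpr (hL a))
    have hcop : (Kinf K' t).index.Coprime (K' a).index := by
      rw [index_Kinf hK', hK' a]
      exact Nat.Coprime.prod_left fun q hq =>
        coprime_primes_pow (fun (e : q = a) => ha (e ▸ hq)) _ _
    obtain ⟨d, hd, k, hk, rfl⟩ := exists_mul_of_coprime_index hcop x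
    refine ⟨d * g, fun p hp => ?_⟩
    rw [map_mul, mul_smul]
    rcases Finset.mem_insert.mp hp with rfl | hp
    · rw [← hx, map_mul, mul_smul]
      congr 1
      exact (Subgroup.conj_smul_eq_self_of_mem hk).symm
    · show MulAut.conj d • K' p = L p
      rw [← hg p hp]
      exact Subgroup.conj_smul_eq_self_of_mem (mem_Kinf.mp hd p hp)

/-- A `p`-element normalizing a subgroup of index a power of `q ≠ p` lies in it. -/
theorem mem_of_normalize [Finite G] {p q : Nat.Primes} (hpq : p ≠ q) {H : Subgroup G} {b : ℕ}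
    (hH : H.index = (q : ℕ) ^ b) {x : G} (hx : x ∈ Subgroup.normalizer (H : Set G))
    {a : ℕ} (hxp : x ^ ((p : ℕ) ^ a) = 1) : x ∈ H := by
  set N := Subgroup.normalizer (H : Set G)
  have : (H.subgroupOf N).Normal := Subgroup.normal_in_normalizer
  set y : N ⧸ H.subgroupOf N := QuotientGroup.mk ⟨x, hx⟩
  have h1 : orderOf y ∣ (p : ℕ) ^ a := by
    apply orderOf_dvd_of_pow_eq_one
    rw [← QuotientGroup.mk_pow, show (⟨x, hx⟩ : N) ^ ((p : ℕ) ^ a) = 1 from Subtype.ext hxp]
    rfl
  have h2 : orderOf y ∣ (q : ℕ) ^ b := by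
    refine (orderOf_dvd_natCard y).trans ?_
    show H.relIndex N ∣ (q : ℕ) ^ b
    rw [← hH]
    exact ⟨N.index, (Subgroup.relIndex_mul_index Subgroup.le_normalizer).symm⟩
  have h3 : y = 1 :=
    orderOf_eq_one_iff.mp (Nat.eq_one_of_dvd_coprimes (coprime_primes_pow hpq a b) h1 h2)
  exact Subgroup.mem_subgroupOf.mp ((QuotientGroup.eq_one_iff _).mp h3)

/-- System normalizers are nilpotent. -/
theorem isNilpotent_systemNormalizer [Finite G] (hK : Cfsg.IsComplementSystem K) :
    Group.IsNilpotent (Cfsg.systemNormalizer K) := by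
  set D := Cfsg.systemNormalizer K
  refine (Group.isNilpotent_of_finite_tfae (G := D).out 0 3 rfl rfl).mpr ?_
  intro p hp P
  have := hp
  let p' : Nat.Primes := ⟨p, hp.out⟩
  set M := (sylOf K p').subgroupOf D
  have hMn : M.Normal := by
    refine ⟨fun n hn g => ?_⟩
    rw [Subgroup.mem_subgroupOf, mem_sylOf hK] at hn ⊢
    intro q hq
    have hg : (g : G) ∈ Subgroup.normalizer (K q : Set G) := Subgroup.mem_iInf.mp g.2 q
    exact (Subgroup.mem_normalizer_iff.mp hg _).mp (hn q hq)
  have hPM : (P : Subgroup D) ≤ M := by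
    intro x hx
    rw [Subgroup.mem_subgroupOf, mem_sylOf hK]
    intro q hq
    obtain ⟨a, ha⟩ := P.2 ⟨x, hx⟩
    refine mem_of_normalize (p := p') (q := q) (Ne.symm hq) (hK q)
      (Subgroup.mem_iInf.mp x.2 q) (a := a) ?_
    exact congrArg (fun z : (P : Subgroup D) => ((z : D) : G)) ha
  have hMp : IsPGroup p M :=
    (IsPGroup.of_card (card_sylOf hK p')).comap_of_injective D.subtype D.subtype_injective
  rw [← P.3 hMp hPM]
  exact hMn

end System

/-- Products of Sylow subgroups in any order cover a solvable group. -/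
theorem exists_prod_sylow : ∀ {G : Type*} [Group G] [Finite G] [Group.IsSolvable G] (t : ℕ)
    (p : Fin t → ℕ), (∀ i, (p i).Prime) →
    (∀ q : ℕ, q.Prime → q ∣ Nat.card G → ∃ i, p i = q) →
    ∀ (S : (i : Fin t) → Sylow (p i) G) (g : G),
      ∃ s : (i : Fin t) → G, (∀ i, s i ∈ (S i : Subgroup G)) ∧ g = (List.ofFn s).prod := by
  intro G _ _ _ t p hp hall S
  induction hn : Nat.card G using Nat.strong_induction_on generalizing G with
  | _ n ih =>
    rcases subsingleton_or_nontrivial G with h | h
    · exact fun g => ⟨fun _ => 1, fun i => one_mem _, Subsingleton.elim _ _⟩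
    intro g
    obtain ⟨N, hN⟩ := exists_minNormal (G := G)
    have := hN.normal
    obtain ⟨r, k, hr, hk0, hk, -⟩ := hN.card_eq_pow
    obtain ⟨j, hj⟩ := hall r hr
      (((dvd_pow_self r hk0.ne').trans hk.symm.dvd).trans (Subgroup.card_subgroup_dvd_card N))
    have hq := QuotientGroup.mk'_surjective N
    obtain ⟨s', hs', hg'⟩ := ih _ (hn ▸ card_quotient_lt hN.ne_bot)
      (fun q hq hd => hall q hq (hd.trans (Subgroup.card_quotient_dvd_card N)))
      (fun i => haveI : Fact (p i).Prime := ⟨hp i⟩; (S i).mapSurjective hq) rfl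
      (QuotientGroup.mk' N g)
    have hlift : ∀ i, ∃ x ∈ (S i : Subgroup G), QuotientGroup.mk' N x = s' i := fun i => hs' i
    choose s hs hss using hlift
    have hNj : N ≤ (S j : Subgroup G) := by
      have : Fact (p j).Prime := ⟨hp j⟩
      exact le_trans (le_pCore (IsPGroup.of_card (hj ▸ hk))) (pCore_le_sylow (S j))
    have hmem : ((List.ofFn s).prod)⁻¹ * g ∈ N := by
      refine (QuotientGroup.eq_one_iff _).mp ?_
      show QuotientGroup.mk' N _ = 1
      rw [map_mul, map_inv, hg', map_list_prod, List.map_ofFn, inv_mul_eq_one]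
      exact congrArg List.prod (congrArg List.ofFn (funext hss))
    have key : ∀ (u : ℕ) (A : Fin u → Subgroup G) (w : Fin u → G), (∀ i, w i ∈ A i) →
        ∀ (i : Fin u), N ≤ A i → ∀ m ∈ N,
          ∃ w' : Fin u → G, (∀ l, w' l ∈ A l) ∧
            (List.ofFn w').prod = (List.ofFn w).prod * m := by
      intro u
      induction u with
      | zero => exact fun _ _ _ i => i.elim0
      | succ u ihu =>
        intro A w hw i hi m hm
        induction i using Fin.cases with
        | zero =>
          set rest := (List.ofFn fun l : Fin u => w l.succ).prod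
          have h2 : rest * m * rest⁻¹ ∈ A 0 := hi (Subgroup.Normal.conj_mem ‹_› m hm rest)
          refine ⟨Fin.cons (w 0 * (rest * m * rest⁻¹)) (fun l => w l.succ), fun l => ?_, ?_⟩
          · induction l using Fin.cases with
            | zero => simpa using mul_mem (hw 0) h2
            | succ l => simpa using hw l.succ
          · simp only [List.ofFn_succ, Fin.cons_zero, Fin.cons_succ, List.prod_cons, rest]
            group
        | succ i =>
          obtain ⟨w', hw', he⟩ :=
            ihu (fun l => A l.succ) (fun l => w l.succ) (fun l => hw l.succ) i hi m hm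
          refine ⟨Fin.cons (w 0) w', fun l => ?_, ?_⟩
          · induction l using Fin.cases with
            | zero => simpa using hw 0
            | succ l => simpa using hw' l
          · simp only [List.ofFn_succ, Fin.cons_zero, Fin.cons_succ, List.prod_cons, he, mul_assoc]
    obtain ⟨w', hw', he⟩ := key t (fun i => (S i : Subgroup G)) s hs j hNj _ hmem
    exact ⟨w', hw', by rw [he, mul_inv_cancel_left]⟩

end Cfsg.Agent.HallSystem
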