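import Mathlib
import Cfsg.Prelude.Def_Solvable
import Cfsg.Prelude.Def_SolvableStructure
import Cfsg.Prelude.Def_OddOrderLocal
import Cfsg.Agent.Lib.HallCore
import Cfsg.Agent.Lib.HallSolvable
import Cfsg.Agent.Lib.HallTheorem
import Cfsg.Agent.Lib.HallSystem
import Cfsg.Agent.Lib.HallCarter
import Cfsg.Agent.Lib.PGroupsBasic

/-!
# System normalizers: quotients, covering and avoidance, Carter subgroups
-/

set_option autoImplicit false

namespace Cfsg.Agent.HallSystemNormalizer

open scoped Pointwise commutatorElement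
open Subgroup Cfsg.Agent.HallCore Cfsg.Agent.HallSolvable Cfsg.Agent.HallTheorem
  Cfsg.Agent.HallSystem Cfsg.Agent.HallCarter

variable {G : Type*} [Group G]

theorem mem_systemNormalizer {K : Nat.Primes → Subgroup G} {g : G} :
    g ∈ Cfsg.systemNormalizer K ↔ ∀ p, MulAut.conj g • K p = K p := by
  simp only [Cfsg.systemNormalizer, Subgroup.mem_iInf, mem_normalizer_iff_smul]

theorem systemNormalizer_conj (K : Nat.Primes → Subgroup G) (g : G) :
    Cfsg.systemNormalizer (fun p => MulAut.conj g • K p) =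
      MulAut.conj g • Cfsg.systemNormalizer K := by
  ext x
  rw [mem_systemNormalizer, Subgroup.mem_pointwise_smul_iff_inv_smul_mem, mem_systemNormalizer]
  refine forall_congr' fun p => ?_
  rw [MulAut.smul_def, ← map_inv, MulAut.conj_apply, inv_inv]
  rw [map_mul, map_mul, mul_smul, mul_smul, map_inv, inv_smul_eq_iff]

/-! ### Behaviour in quotients -/

theorem isComplementSystem_map [Finite G] {K : Nat.Primes → Subgroup G}
    (hK : Cfsg.IsComplementSystem K) {H : Type*} [Group H] {f : G →* H}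
    (hf : Function.Surjective f) : Cfsg.IsComplementSystem fun p => (K p).map f := fun p =>
  have := Finite.of_surjective f hf
  (isPiHall_iff_index p _).mp (isPiHall_map ((isPiHall_iff_index p _).mpr (hK p)) hf)

/-- Two complement systems with the same image modulo `N` are conjugate by an element of `N`. -/
theorem exists_conj_mem [Finite G] [Group.IsSolvable G] (N : Subgroup G) [N.Normal]
    {K L : Nat.Primes → Subgroup G} (hK : Cfsg.IsComplementSystem K)
    (hL : Cfsg.IsComplementSystem L) (h : ∀ p, K p ⊔ N = L p ⊔ N) :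
    ∃ n ∈ N, ∀ p : Nat.Primes, MulAut.conj n • K p = L p := by
  suffices h' : ∀ s : Finset Nat.Primes, ∃ n ∈ N, ∀ p ∈ s, MulAut.conj n • K p = L p by
    obtain ⟨n, hn, hn'⟩ := h' (primesOf G)
    refine ⟨n, hn, fun p => ?_⟩
    by_cases hp : p ∈ primesOf G
    · exact hn' p hp
    · rw [eq_top_of_notMem hL hp, eq_top_of_notMem hK hp, conj_smul_normal]
  intro s
  induction s using Finset.induction_on with
  | empty => exact ⟨1, N.one_mem, by simp⟩
  | insert a t ha ih =>
    obtain ⟨g, hgN, hg⟩ := ih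
    set K' : Nat.Primes → Subgroup G := fun p => MulAut.conj g • K p
    have hK' : Cfsg.IsComplementSystem K' := isComplementSystem_conj hK g
    have hX : K' a ⊔ N = L a ⊔ N := by
      rw [← h a]
      show MulAut.conj g • K a ⊔ N = _
      conv_lhs => rw [← conj_smul_normal g N]
      rw [← Subgroup.smul_sup]
      exact Subgroup.conj_smul_eq_self_of_mem (Subgroup.mem_sup_right hgN)
    set X := K' a ⊔ N
    have hLX : L a ≤ X := hX ▸ le_sup_left
    have hhall : ∀ {A : Subgroup G}, Cfsg.IsPiHall ({(a : ℕ)}ᶜ : Set ℕ) A → A ≤ X →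
        Cfsg.IsPiHall ({(a : ℕ)}ᶜ : Set ℕ) (A.subgroupOf X) := by
      intro A hA hle
      rw [isPiHall_iff] at hA ⊢
      refine ⟨hA.1.of_dvd (card_subgroupOf_dvd A X), hA.2.of_dvd ?_⟩
      exact ⟨X.index, (Subgroup.relIndex_mul_index hle).symm⟩
    obtain ⟨x, hx⟩ := isPiHall_conjugate_of_solvable
      (hhall ((isPiHall_iff_index a _).mpr (hK' a)) le_sup_left)
      (hhall ((isPiHall_iff_index a _).mpr (hL a)) hLX)
    have hx' := congrArg (Subgroup.map X.subtype) hx
    rw [map_conj_smul, Subgroup.map_subgroupOf_eq_of_le le_sup_left,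
      Subgroup.map_subgroupOf_eq_of_le hLX] at hx'
    have hxm : (x : G) ∈ N ⊔ K' a := sup_comm (K' a) N ▸ x.2
    obtain ⟨m, hm, k, hk, hmk⟩ := Subgroup.mem_sup_of_normal_left.mp hxm
    have hcop : ((Kinf K' t).subgroupOf N).index.Coprime ((K' a).subgroupOf N).index := by
      have h1 : (Kinf K' t).index.Coprime (K' a).index := by
        rw [index_Kinf hK', hK' a]
        exact Nat.Coprime.prod_left fun q hq =>
          coprime_primes_pow (fun (e : q = a) => ha (e ▸ hq)) _ _
      obtain ⟨j, hj⟩ := (piNat_singleton_iff a.2 Subgroup.index_ne_zero_of_finite).mp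
        ((compl_compl ({(a : ℕ)} : Set ℕ)) ▸ (isPiHall_iff.mp (isPiHall_subgroupOf
          ((isPiHall_iff_index a _).mpr (hK' a)) N)).2)
      rw [hj]
      refine Nat.Coprime.pow_right _ (Nat.Coprime.symm ((Nat.Prime.coprime_iff_not_dvd a.2).mpr ?_))
      intro hd
      exact (isPiHall_subgroupOf (isPiHall_Kinf hK' t) N).2 a a.2
        (fun q hq e => ha (Subtype.ext e ▸ hq)) hd
    obtain ⟨d, hd, e, he, hde⟩ := exists_mul_of_coprime_index hcop ⟨m, hm⟩
    refine ⟨d * g, N.mul_mem d.2 hgN, fun p hp => ?_⟩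
    rw [map_mul, mul_smul]
    show MulAut.conj (d : G) • K' p = L p
    rcases Finset.mem_insert.mp hp with rfl | hp
    · have hde' : (d : G) * e = m := (congrArg Subtype.val hde).symm
      rw [← hx', Subgroup.coe_subtype, ← hmk, ← hde', map_mul, map_mul, mul_smul, mul_smul,
        Subgroup.conj_smul_eq_self_of_mem hk,
        Subgroup.conj_smul_eq_self_of_mem (show (e : G) ∈ K' p from he)]
    · rw [← hg p hp]
      exact Subgroup.conj_smul_eq_self_of_mem (mem_Kinf.mp hd p hp)

theorem systemNormalizer_map [Finite G] [Group.IsSolvable G] {K : Nat.Primes → Subgroup G}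
    (hK : Cfsg.IsComplementSystem K) (N : Subgroup G) [N.Normal] :
    Cfsg.systemNormalizer (fun p => (K p).map (QuotientGroup.mk' N)) =
      (Cfsg.systemNormalizer K).map (QuotientGroup.mk' N) := by
  refine le_antisymm ?_ ?_
  · intro x hx
    obtain ⟨g, rfl⟩ := QuotientGroup.mk'_surjective N x
    rw [mem_systemNormalizer] at hx
    obtain ⟨n, hn, hn'⟩ := exists_conj_mem N (isComplementSystem_conj hK g) hK (fun p => by
      have h1 := congrArg (Subgroup.comap (QuotientGroup.mk' N)) (hx p)
      rwa [← map_conj_smul, comap_mk'_map, comap_mk'_map] at h1)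
    refine ⟨n * g, mem_systemNormalizer.mpr fun p => ?_, ?_⟩
    · rw [map_mul, mul_smul]; exact hn' p
    · rw [map_mul, show QuotientGroup.mk' N n = 1 from (QuotientGroup.eq_one_iff n).mpr hn, one_mul]
  · rintro _ ⟨g, hg, rfl⟩
    rw [mem_systemNormalizer]
    intro p
    rw [← map_conj_smul, mem_systemNormalizer.mp hg p]

/-- Complement systems lift from quotients. -/
theorem exists_lift [Finite G] [Group.IsSolvable G] (N : Subgroup G) [N.Normal]
    {Kb : Nat.Primes → Subgroup (G ⧸ N)} (hKb : Cfsg.IsComplementSystem Kb) :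
    ∃ K : Nat.Primes → Subgroup G, Cfsg.IsComplementSystem K ∧
      ∀ p, (K p).map (QuotientGroup.mk' N) = Kb p := by
  obtain ⟨K, hK⟩ := exists_complementSystem (G := G)
  obtain ⟨x, hx⟩ := complementSystem_conjugate
    (isComplementSystem_map hK (QuotientGroup.mk'_surjective N)) hKb
  obtain ⟨g, rfl⟩ := QuotientGroup.mk'_surjective N x
  exact ⟨fun p => MulAut.conj g • K p, isComplementSystem_conj hK g,
    fun p => by rw [map_conj_smul, hx]⟩

/-! ### Covering and avoidance -/

/-- The fixed points of a normal `p`-subgroup of `G/C(N)` on a minimal normal `p`-subgroup. -/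
theorem pCore_quotient_centralizer_eq_bot [Finite G] {p : ℕ} [hp : Fact p.Prime] {N : Subgroup G}
    (hN : IsMinNormal N) (hNp : IsPGroup p N) [hNn : N.Normal] :
    Cfsg.pCore p (G ⧸ Subgroup.centralizer (N : Set G)) = ⊥ := by
  set C := Subgroup.centralizer (N : Set G) with hC
  set q := QuotientGroup.mk' C
  set M := (Cfsg.pCore p (G ⧸ C)).comap q
  have hCM : C ≤ M := QuotientGroup.le_comap_mk' C _
  suffices M ≤ C by
    rw [← Subgroup.map_comap_eq_self_of_surjective (QuotientGroup.mk'_surjective C)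
      (Cfsg.pCore p (G ⧸ C))]
    exact map_mk'_eq_bot.mpr this
  obtain ⟨S⟩ : Nonempty (Sylow p M) := inferInstance
  set T := (S : Subgroup M).map M.subtype
  have hTM : T ≤ M := Subgroup.map_subtype_le _
  have hTC : M ≤ T ⊔ C := by
    rw [← comap_mk'_map]
    refine Subgroup.comap_mono ?_
    have hm : M.map q = Cfsg.pCore p (G ⧸ C) :=
      Subgroup.map_comap_eq_self_of_surjective (QuotientGroup.mk'_surjective C) _
    have hp' : IsPGroup p (M.map q) := hm ▸ isPGroup_pCore p _
    rw [← hm]
    intro y hy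
    have hsur := q.subgroupMap_surjective M
    have h1 := (S.mapSurjective hsur).3 (hp'.to_subgroup ⊤) le_top
    have h2 : (⟨y, hy⟩ : M.map q) ∈ (S.mapSurjective hsur : Subgroup (M.map q)) := by
      rw [← h1]; trivial
    obtain ⟨s, hs, hse⟩ := h2
    exact ⟨s, ⟨s, hs, rfl⟩, congrArg Subtype.val hse⟩
  have hTp : IsPGroup p T := S.2.map _
  have hTNp : IsPGroup p ↥(T ⊔ N) := hTp.to_sup_of_normal_right hNp
  have hne : N.subgroupOf (T ⊔ N) ≠ ⊥ := fun e =>
    hN.ne_bot (disjoint_self.mp ((Subgroup.subgroupOf_eq_bot.mp e).mono_right le_sup_right))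
  have hz := Cfsg.Agent.PGroupsBasic.inf_center_ne_bot hTNp hne
  have hne2 : N ⊓ Subgroup.centralizer (M : Set G) ≠ ⊥ := by
    intro e
    refine hz ((Subgroup.eq_bot_iff_forall _).mpr fun x hx => Subtype.ext ?_)
    have hm : (x : G) ∈ N ⊓ Subgroup.centralizer (M : Set G) := by
      refine ⟨hx.1, fun y hy => ?_⟩
      obtain ⟨t, ht, c, hc, rfl⟩ := Subgroup.mem_sup_of_normal_right.mp (hTC hy)
      have h1 : t * (x : G) = x * t := congrArg Subtype.val
        (Subgroup.mem_center_iff.mp hx.2 ⟨t, Subgroup.mem_sup_left ht⟩)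
      have h2 : c * (x : G) = x * c := (hc x hx.1).symm
      rw [mul_assoc, h2, ← mul_assoc, h1, mul_assoc]
    rw [e, Subgroup.mem_bot] at hm
    exact hm
  rw [hC, Subgroup.le_centralizer_iff]
  exact inf_eq_left.mp (hN.eq_of_le inf_le_left hne2)

/-- A system normalizer avoids a non-central minimal normal subgroup. -/
theorem inf_systemNormalizer_eq_bot [Finite G] [Group.IsSolvable G]
    {K : Nat.Primes → Subgroup G} (hK : Cfsg.IsComplementSystem K) {N : Subgroup G}
    (hN : IsMinNormal N) (hnc : Subgroup.centralizer (N : Set G) ≠ ⊤) :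
    N ⊓ Cfsg.systemNormalizer K = ⊥ := by
  have := hN.normal
  obtain ⟨p, hp, -, hNp⟩ := hN.exists_prime
  have : Fact p.Prime := ⟨hp⟩
  let p' : Nat.Primes := ⟨p, hp⟩
  set C := Subgroup.centralizer (N : Set G)
  set q := QuotientGroup.mk' C
  have : Nontrivial (G ⧸ C) := QuotientGroup.nontrivial_iff.mpr hnc
  have hcore := pCore_quotient_centralizer_eq_bot hN hNp
  obtain ⟨L, hL⟩ := exists_minNormal (G := G ⧸ C)
  have := hL.normal
  obtain ⟨r, k, hr, hk0, hk, -⟩ := hL.card_eq_pow
  have hrp : r ≠ p := by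
    rintro rfl
    exact hL.ne_bot (le_bot_iff.mp (hcore ▸ le_pCore (IsPGroup.of_card hk)))
  have hKp := (isPiHall_iff_index p' (K p')).mpr (hK p')
  have hLK : L ≤ (K p').map q := by
    have hq : Cfsg.IsPiHall ({p}ᶜ : Set ℕ) ((K p').map q) :=
      isPiHall_map hKp (QuotientGroup.mk'_surjective C)
    have hLπ : PiNat ({p}ᶜ : Set ℕ) (Nat.card L) := by
      rw [piNat_compl_singleton_iff hp, hk]
      exact ((Nat.coprime_primes hr hp).mpr hrp).pow_left k
    exact le_sup_right.trans (eq_of_isPiHall_le hq le_sup_left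
      (piNat_card_sup (A := (K p').map q) (B := L) hq.1 hLπ)).ge
  set M := L.comap q
  have hdisj : N ⊓ K p' = ⊥ := by
    obtain ⟨j, hj⟩ := IsPGroup.iff_card.mp hNp
    refine disjoint_iff.mp (Subgroup.disjoint_of_coprime_natCard ?_)
    rw [hj]
    exact Nat.Coprime.pow_left _ ((piNat_compl_singleton_iff hp).mp hKp.1).symm
  have hle : N ⊓ Cfsg.systemNormalizer K ≤ N ⊓ Subgroup.centralizer (M : Set G) := by
    rintro x ⟨hxN, hxD⟩
    refine ⟨hxN, fun y hy => ?_⟩
    have hy' : y ∈ K p' ⊔ C := by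
      rw [← comap_mk'_map]
      exact hLK hy
    obtain ⟨a, ha, c, hc, rfl⟩ := Subgroup.mem_sup_of_normal_right.mp hy'
    have h1 : x * a * x⁻¹ * a⁻¹ ∈ N ⊓ K p' := by
      refine ⟨?_, ?_⟩
      · rw [mul_assoc, mul_assoc, ← mul_assoc a x⁻¹ a⁻¹]
        exact N.mul_mem hxN (Subgroup.Normal.conj_mem ‹N.Normal› _ (N.inv_mem hxN) a)
      · refine Subgroup.mul_mem _ ?_ (Subgroup.inv_mem _ ha)
        exact (Subgroup.mem_normalizer_iff.mp (Subgroup.mem_iInf.mp hxD p') a).mp ha
    rw [hdisj, Subgroup.mem_bot, mul_inv_eq_one, mul_inv_eq_iff_eq_mul] at h1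
    rw [mul_assoc, ← hc x hxN, ← mul_assoc, ← h1, mul_assoc]
  refine le_bot_iff.mp (hle.trans (le_bot_iff.mpr ?_))
  by_contra hne
  have h2 : N ≤ Subgroup.centralizer (M : Set G) := inf_eq_left.mp (hN.eq_of_le inf_le_left hne)
  rw [Subgroup.le_centralizer_iff] at h2
  apply hL.ne_bot
  rw [← Subgroup.map_comap_eq_self_of_surjective (QuotientGroup.mk'_surjective C) L]
  exact map_mk'_eq_bot.mpr h2

/-- A system normalizer contains every central minimal normal subgroup. -/
theorem le_systemNormalizer_of_central {K : Nat.Primes → Subgroup G} {N : Subgroup G}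
    (h : Subgroup.centralizer (N : Set G) = ⊤) : N ≤ Cfsg.systemNormalizer K := by
  intro x hx
  rw [mem_systemNormalizer]
  intro p
  rw [conj_smul_eq_map]
  have hx' : ∀ y : G, x * y = y * x := fun y =>
    (show y ∈ Subgroup.centralizer (N : Set G) from h ▸ Subgroup.mem_top y) x hx
  conv_rhs => rw [← Subgroup.map_id (K p)]
  congr 1
  ext y
  simp [hx' y]

theorem cover_avoid [Finite G] [Group.IsSolvable G] {K : Nat.Primes → Subgroup G}
    (hK : Cfsg.IsComplementSystem K) {A B : Subgroup G} [A.Normal] [hB : B.Normal] (hAB : A < B)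
    (hchief : ∀ N : Subgroup G, N.Normal → A ≤ N → N ≤ B → N = A ∨ N = B) :
    (⁅B, (⊤ : Subgroup G)⁆ ≤ A → B ≤ A ⊔ Cfsg.systemNormalizer K) ∧
      (¬ ⁅B, (⊤ : Subgroup G)⁆ ≤ A → B ⊓ Cfsg.systemNormalizer K ≤ A) := by
  set q := QuotientGroup.mk' A
  have hqs : Function.Surjective q := QuotientGroup.mk'_surjective A
  set N := B.map q
  have : N.Normal := hB.map q hqs
  have hNmin : IsMinNormal N := by
    refine ⟨inferInstance, fun h => hAB.not_ge (map_mk'_eq_bot.mp h), fun L hL hle => ?_⟩
    have hc : L.comap q ≤ B := by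
      have := Subgroup.comap_mono (f := q) hle
      rwa [comap_mk'_map_of_le hAB.le] at this
    rcases hchief (L.comap q) (hL.comap q) (QuotientGroup.le_comap_mk' A L) hc with h | h
    · left
      rw [← Subgroup.map_comap_eq_self_of_surjective hqs L, h]
      exact QuotientGroup.map_mk'_self A
    · right
      rw [← Subgroup.map_comap_eq_self_of_surjective hqs L, h]
  have hiff : ⁅B, (⊤ : Subgroup G)⁆ ≤ A ↔ Subgroup.centralizer (N : Set (G ⧸ A)) = ⊤ := by
    rw [← top_le_iff, ← Subgroup.commutator_eq_bot_iff_le_centralizer,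
      ← Subgroup.map_top_of_surjective q hqs, ← Subgroup.map_commutator, map_mk'_eq_bot,
      Subgroup.commutator_comm]
  have hD := systemNormalizer_map hK A
  constructor
  · intro h
    have := Subgroup.comap_mono (f := q)
      (le_systemNormalizer_of_central (K := fun p => (K p).map q) (hiff.mp h))
    simp only [N, q, hD, comap_mk'_map] at this
    exact le_sup_left.trans (this.trans (sup_comm _ _).le)
  · intro h
    have h1 := inf_systemNormalizer_eq_bot (isComplementSystem_map hK hqs) hNmin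
      (fun e => h (hiff.mpr e))
    rw [hD] at h1
    rw [← map_mk'_eq_bot]
    exact le_bot_iff.mp ((Subgroup.map_inf_le B (Cfsg.systemNormalizer K) q).trans h1.le)

theorem normalClosure_systemNormalizer [Finite G] [Group.IsSolvable G]
    {K : Nat.Primes → Subgroup G} (hK : Cfsg.IsComplementSystem K) :
    Subgroup.normalClosure ((Cfsg.systemNormalizer K : Subgroup G) : Set G) = ⊤ := by
  by_contra hne
  set W := Subgroup.normalClosure ((Cfsg.systemNormalizer K : Subgroup G) : Set G)
  obtain ⟨M, hM⟩ := (Set.toFinite {M : Subgroup G | M.Normal ∧ M ≠ ⊤ ∧ W ≤ M}).exists_maximal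
    ⟨W, Subgroup.normalClosure_normal, hne, le_rfl⟩
  have := hM.1.1
  have : Nontrivial (G ⧸ M) := QuotientGroup.nontrivial_iff.mpr hM.1.2.1
  have hMlt : M < ⊤ := lt_top_iff_ne_top.mpr hM.1.2.1
  have hchief : ∀ N : Subgroup G, N.Normal → M ≤ N → N ≤ ⊤ → N = M ∨ N = ⊤ := by
    intro N hN hle _
    by_cases ht : N = ⊤
    · exact Or.inr ht
    · exact Or.inl (le_antisymm (hM.le_of_ge ⟨hN, ht, hM.1.2.2.trans hle⟩ hle) hle)
  have hcomm : ⁅(⊤ : Subgroup G), (⊤ : Subgroup G)⁆ ≤ M := by
    have hlt := Group.IsSolvable.commutator_lt_top_of_nontrivial (G := G ⧸ M)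
    have : ((commutator (G ⧸ M)).comap (QuotientGroup.mk' M)).Normal := inferInstance
    rcases hchief _ this (QuotientGroup.le_comap_mk' M _) le_top with h | h
    · rw [← h, ← Subgroup.map_le_iff_le_comap, Subgroup.map_commutator,
        Subgroup.map_top_of_surjective _ (QuotientGroup.mk'_surjective M)]
      exact le_rfl
    · exfalso
      refine hlt.ne ?_
      rw [← Subgroup.map_comap_eq_self_of_surjective (QuotientGroup.mk'_surjective M)
        (commutator (G ⧸ M)), h, Subgroup.map_top_of_surjective _ (QuotientGroup.mk'_surjective M)]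
  have := (cover_avoid hK hMlt hchief).1 hcomm
  exact hMlt.not_ge (this.trans (sup_le le_rfl
    ((Subgroup.subset_normalClosure : ((Cfsg.systemNormalizer K : Subgroup G) : Set G) ⊆ W).trans
      hM.1.2.2)))

end Cfsg.Agent.HallSystemNormalizer
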