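import Mathlib
import Cfsg.Prelude.Def_Solvable
import Cfsg.Prelude.Def_SolvableStructure
import Cfsg.Prelude.Def_OddOrderLocal
import Cfsg.Agent.Lib.HallCore
import Cfsg.Agent.Lib.HallSolvable
import Cfsg.Agent.Lib.HallTheorem
import Cfsg.Agent.Lib.HallSystem
import Cfsg.Agent.Lib.HallCarter
import Cfsg.Agent.Lib.HallSystemNormalizer
import Cfsg.Agent.Lib.PGroupsBasic

/-!
# Carter subgroups and system normalizers
-/

set_option autoImplicit false

namespace Cfsg.Agent.HallCarterSystem

open scoped Pointwise
open Subgroup Cfsg.Agent.HallCore Cfsg.Agent.HallSolvable Cfsg.Agent.HallTheorem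
  Cfsg.Agent.HallSystem Cfsg.Agent.HallCarter Cfsg.Agent.HallSystemNormalizer

variable {G : Type*} [Group G]

/-- Images of Carter subgroups are Carter subgroups. -/
theorem isCarter_map [Finite G] [Group.IsSolvable G] {H : Type*} [Group H] {f : G →* H}
    (hf : Function.Surjective f) {C : Subgroup G} (hC : Cfsg.IsCarterSubgroup C) :
    Cfsg.IsCarterSubgroup (C.map f) := by
  have := hC.1
  refine ⟨Group.nilpotent_of_surjective (f.subgroupMap C) (f.subgroupMap_surjective C), ?_⟩
  refine le_antisymm ?_ Subgroup.le_normalizer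
  intro y hy
  obtain ⟨g, rfl⟩ := hf y
  set X := C ⊔ f.ker
  have hgX : MulAut.conj g • X = X := by
    have h1 := congrArg (Subgroup.comap f) ((mem_normalizer_iff_smul _ _).mp hy)
    rw [← map_conj_smul, Subgroup.comap_map_eq, Subgroup.comap_map_eq] at h1
    show MulAut.conj g • (C ⊔ f.ker) = _
    rw [Subgroup.smul_sup, conj_smul_normal g f.ker]
    exact h1
  have hC2 : MulAut.conj g • C ≤ X :=
    le_trans (Subgroup.pointwise_smul_le_pointwise_smul_iff.mpr le_sup_left) hgX.le
  obtain ⟨u, hu⟩ := carter_conjugate (isCarter_subgroupOf hC (le_sup_left : C ≤ X))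
    (isCarter_subgroupOf (isCarter_conj hC g) hC2)
  have h3 := congrArg (Subgroup.map X.subtype) hu
  rw [map_conj_smul, Subgroup.map_subgroupOf_eq_of_le le_sup_left,
    Subgroup.map_subgroupOf_eq_of_le hC2] at h3
  have h4 : (u : G)⁻¹ * g ∈ C := by
    refine hC.2.le ?_
    rw [mem_normalizer_iff_smul, map_mul, mul_smul, ← h3, ← mul_smul, ← map_mul]
    simp
  have h5 : g ∈ X := by
    have := X.mul_mem u.2 ((le_sup_left : C ≤ X) h4)
    rwa [mul_inv_cancel_left] at this
  have hmap : X.map f = C.map f := by
    rw [Subgroup.map_sup, (Subgroup.map_eq_bot_iff _).mpr le_rfl, sup_bot_eq]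
  rw [← hmap]
  exact Subgroup.mem_map_of_mem f h5

/-- A Hall subgroup of a nilpotent group contains every π-subgroup. -/
theorem le_hall_of_nilpotent [Finite G] [Group.IsNilpotent G] {π : Set ℕ} {H U : Subgroup G}
    (hH : Cfsg.IsPiHall π H) (hU : PiNat π (Nat.card U)) : U ≤ H := by
  have h' := isPiHall_iff.mp hH
  have : H.Normal := Subgroup.normalizer_eq_top_iff.mp
    (eq_top_of_normalizer_eq (normalizer_normalizer_hall (PiNat.coprime h'.1 h'.2)))
  exact le_sup_right.trans
    (eq_of_isPiHall_le hH le_sup_left (by rw [sup_comm]; exact piNat_card_sup hU hH.1)).ge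

/-- The complement system `K` reduces into `U`. -/
def Reduces (K : Nat.Primes → Subgroup G) (U : Subgroup G) : Prop :=
  ∀ p : Nat.Primes, PiNat {(p : ℕ)} ((K p).relIndex U)

theorem isPiHall_subgroupOf_of_reduces [Finite G] {K : Nat.Primes → Subgroup G}
    (hK : Cfsg.IsComplementSystem K) {U : Subgroup G} (h : Reduces K U) (p : Nat.Primes) :
    Cfsg.IsPiHall ({(p : ℕ)}ᶜ : Set ℕ) ((K p).subgroupOf U) := by
  rw [isPiHall_iff, compl_compl]
  exact ⟨(isPiHall_iff.mp ((isPiHall_iff_index p _).mpr (hK p))).1.of_dvd (card_subgroupOf_dvd _ _),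
    h p⟩

theorem isComplementSystem_subgroupOf [Finite G] {K : Nat.Primes → Subgroup G}
    (hK : Cfsg.IsComplementSystem K) {U : Subgroup G} (h : Reduces K U) :
    Cfsg.IsComplementSystem fun p => (K p).subgroupOf U := fun p =>
  (isPiHall_iff_index p _).mp (isPiHall_subgroupOf_of_reduces hK h p)

universe u

/-- Every Carter subgroup contains a system normalizer. -/
theorem exists_reduces {G : Type u} [Group G] [Finite G] [Group.IsSolvable G] {C : Subgroup G}
    (hC : Cfsg.IsCarterSubgroup C) :
    ∃ K : Nat.Primes → Subgroup G, Cfsg.IsComplementSystem K ∧ Reduces K C ∧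
      Cfsg.systemNormalizer K ≤ C := by
  induction hn : Nat.card G using Nat.strong_induction_on generalizing G with
  | _ n ih =>
    rcases subsingleton_or_nontrivial G with h | h
    · obtain ⟨K, hK⟩ := exists_complementSystem (G := G)
      refine ⟨K, hK, fun p => ?_, fun x _ => by rw [Subsingleton.elim x 1]; exact C.one_mem⟩
      rw [Subsingleton.elim (K p) C, Subgroup.relIndex_self]
      exact piNat_one _
    obtain ⟨N, hN⟩ := exists_minNormal (G := G)
    have := hN.normal
    obtain ⟨p, hp, -, hNp⟩ := hN.exists_prime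
    have : Fact p.Prime := ⟨hp⟩
    obtain ⟨j, hj⟩ := IsPGroup.iff_card.mp hNp
    let p' : Nat.Primes := ⟨p, hp⟩
    set q := QuotientGroup.mk' N with hq
    have hqs : Function.Surjective q := QuotientGroup.mk'_surjective N
    have hCb := isCarter_map hqs hC
    obtain ⟨Kb, hKb, hred, hDb⟩ := ih _ (hn ▸ card_quotient_lt hN.ne_bot) hCb rfl
    obtain ⟨K, hK, hKK⟩ := exists_lift N hKb
    have hKN : ∀ r : Nat.Primes, r ≠ p' → N ≤ K r := by
      intro r hr
      have hH := (isPiHall_iff_index r (K r)).mpr (hK r)
      have hNr : PiNat ({(r : ℕ)}ᶜ : Set ℕ) (Nat.card N) := by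
        rw [piNat_compl_singleton_iff r.2, hj]
        exact ((Nat.coprime_primes hp r.2).mpr fun e => hr (Subtype.ext e.symm)).pow_left j
      exact le_sup_right.trans (eq_of_isPiHall_le hH le_sup_left
        (piNat_card_sup (A := K r) (B := N) hH.1 hNr)).ge
    have := hC.1
    obtain ⟨H₀, hH₀⟩ := exists_isPiHall_of_solvable (G := C) ({p}ᶜ : Set ℕ)
    set H := H₀.map C.subtype
    have hH₀' := isPiHall_iff.mp hH₀
    have hHπ : PiNat ({p}ᶜ : Set ℕ) (Nat.card H) :=
      hH₀'.1.of_dvd (Subgroup.card_map_dvd _ _)
    have hHC : H ≤ C := Subgroup.map_subtype_le _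
    set W := K p' ⊔ N
    have hHW : H ≤ W := by
      show H ≤ K p' ⊔ N
      rw [← comap_mk'_map, ← Subgroup.map_le_iff_le_comap, hKK p']
      have := hCb.1
      have hle : H.map q ≤ C.map q := Subgroup.map_mono hHC
      have h1 := le_hall_of_nilpotent (isPiHall_subgroupOf_of_reduces hKb hred p')
        (U := (H.map q).subgroupOf (C.map q))
        ((hHπ.of_dvd (Subgroup.card_map_dvd _ _)).of_dvd (card_subgroupOf_dvd _ _))
      intro y hy
      exact h1 (x := (⟨y, hle hy⟩ : C.map q)) hy
    have hKW : Cfsg.IsPiHall ({p}ᶜ : Set ℕ) ((K p').subgroupOf W) := by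
      have h2 := isPiHall_iff.mp ((isPiHall_iff_index p' (K p')).mpr (hK p'))
      rw [isPiHall_iff]
      exact ⟨h2.1.of_dvd (card_subgroupOf_dvd _ _),
        h2.2.of_dvd ⟨W.index, (Subgroup.relIndex_mul_index le_sup_left).symm⟩⟩
    obtain ⟨w, hw⟩ := le_conj_isPiHall (isPiSeparable_of_solvable ({p}ᶜ : Set ℕ))
      (complSolvable_of_solvable _) (U := H.subgroupOf W) (hHπ.of_dvd (card_subgroupOf_dvd _ _)) hKW
    have hw' := Subgroup.map_mono (f := W.subtype) hw
    rw [map_conj_smul, Subgroup.map_subgroupOf_eq_of_le le_sup_left,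
      Subgroup.map_subgroupOf_eq_of_le hHW, Subgroup.coe_subtype] at hw'
    have hwm : (w : G) ∈ N ⊔ K p' := sup_comm (K p') N ▸ w.2
    obtain ⟨m, hm, k, hk, hmk⟩ := Subgroup.mem_sup_of_normal_left.mp hwm
    rw [← hmk, map_mul, mul_smul, Subgroup.conj_smul_eq_self_of_mem hk] at hw'
    set K' : Nat.Primes → Subgroup G := fun r => MulAut.conj m • K r
    have hK' : Cfsg.IsComplementSystem K' := isComplementSystem_conj hK m
    have hK'ne : ∀ r : Nat.Primes, r ≠ p' → K' r = K r := fun r hr =>
      Subgroup.conj_smul_eq_self_of_mem (hKN r hr hm)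
    have hK'map : ∀ r, (K' r).map q = Kb r := fun r => by
      rw [map_conj_smul, show q m = 1 from (QuotientGroup.eq_one_iff m).mpr hm, map_one, one_smul,
        hKK r]
    set X := C ⊔ N
    have hD'X : Cfsg.systemNormalizer K' ≤ X := by
      show Cfsg.systemNormalizer K' ≤ C ⊔ N
      rw [← comap_mk'_map, ← Subgroup.map_le_iff_le_comap, ← systemNormalizer_map hK' N]
      simp only [← hq, hK'map]
      exact hDb
    have hredU : ∀ U : Subgroup G, U.map q = C.map q → H ≤ U →
        PiNat {p} (H.relIndex U) → Reduces K' U := by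
      intro U hU hHU hidx r
      by_cases hr : r = p'
      · subst hr
        exact hidx.of_dvd (Subgroup.relIndex_dvd_of_le_left U hw')
      · have h1 : K' r = (Kb r).comap q := by
          rw [← hK'map, comap_mk'_map_of_le (hK'ne r hr ▸ hKN r hr)]
        rw [h1, Subgroup.relIndex_comap, hU]
        exact hred r
    have hHidx : H.relIndex C = H₀.index := by
      rw [Subgroup.relIndex, Subgroup.subgroupOf,
        Subgroup.comap_map_eq_self_of_injective C.subtype_injective]
    have hidxC : PiNat {p} (H.relIndex C) := by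
      rw [hHidx]; simpa using hH₀'.2
    have hred' : Reduces K' C := hredU C rfl hHC hidxC
    by_cases hX : X = ⊤
    · refine ⟨K', hK', hred', ?_⟩
      have : Group.IsNilpotent (G ⧸ N) := by
        have h1 : C.map q = ⊤ := by
          rw [← Subgroup.map_top_of_surjective q hqs, ← hX, Subgroup.map_sup, hq,
            QuotientGroup.map_mk'_self, sup_bot_eq]
        have := hCb.1
        exact Group.nilpotent_of_mulEquiv ((MulEquiv.subgroupCongr h1).trans Subgroup.topEquiv)
      have hKp := (isPiHall_iff_index p' (K' p')).mpr (hK' p')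
      have hle : C ≤ Subgroup.normalizer (K' p' : Set G) := by
        have hHK : H = K' p' := by
          refine Subgroup.eq_of_le_of_card_ge hw' (le_of_eq ?_)
          refine card_eq_of_isPiHall hKp ?_
          rw [isPiHall_iff, compl_compl]
          refine ⟨hHπ, ?_⟩
          rw [← Subgroup.relIndex_mul_index hHC]
          refine hidxC.mul ?_
          refine PiNat.of_dvd ((piNat_singleton_iff hp (pow_ne_zero j hp.ne_zero)).mpr ⟨j, rfl⟩) ?_
          rw [← hj]
          refine ⟨Nat.card ↥(C ⊓ N), ?_⟩
          have h1 := card_mul_relIndex (inf_le_left : C ⊓ N ≤ C)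
          rw [Subgroup.inf_relIndex_left, ← Subgroup.relIndex_sup_right,
            show C ⊔ N = ⊤ from hX, Subgroup.relIndex_top_right] at h1
          refine Nat.eq_of_mul_eq_mul_left (Nat.card_pos (α := C)) ?_
          rw [← mul_assoc, Subgroup.card_mul_index, ← N.card_mul_index, ← h1]
          ring
        have hH₀n : H₀.Normal := Subgroup.normalizer_eq_top_iff.mp
          (eq_top_of_normalizer_eq (normalizer_normalizer_hall (PiNat.coprime hH₀'.1 hH₀'.2)))
        intro c hc
        rw [mem_normalizer_iff_smul, ← hHK]
        have h2 := congrArg (Subgroup.map C.subtype) (conj_smul_normal (⟨c, hc⟩ : C) H₀)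
        rw [map_conj_smul] at h2
        exact h2
      have h3 := eq_of_carter_le hC hle (normalizer_hall_nilpotent hNp hKp)
      rw [h3]
      exact iInf_le _ p'
    · have hidxX : PiNat {p} (H.relIndex X) := by
        rw [← Subgroup.relIndex_mul_relIndex H C X hHC le_sup_left]
        refine hidxC.mul ?_
        refine PiNat.of_dvd ((piNat_singleton_iff hp (pow_ne_zero j hp.ne_zero)).mpr ⟨j, rfl⟩) ?_
        rw [← hj]
        refine ⟨Nat.card ↥(C ⊓ N), ?_⟩
        have h1 := card_mul_relIndex (inf_le_left : C ⊓ N ≤ C)
        rw [Subgroup.inf_relIndex_left, ← Subgroup.relIndex_sup_right] at h1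
        have h2 := card_mul_relIndex (le_sup_left : C ≤ X)
        have h3 := card_mul_relIndex (le_sup_right : N ≤ X)
        refine Nat.eq_of_mul_eq_mul_left (Nat.card_pos (α := C)) ?_
        rw [← mul_assoc, h2, ← h3, ← h1]
        ring
      have hXmap : X.map q = C.map q := by
        rw [Subgroup.map_sup, hq, QuotientGroup.map_mk'_self, sup_bot_eq]
      have hredX : Reduces K' X := hredU X hXmap (hHC.trans le_sup_left) hidxX
      obtain ⟨M, hM, hMred, hMD⟩ := ih _ (hn ▸ card_subgroup_lt hX) (G := X)
        (isCarter_subgroupOf hC le_sup_left) rfl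
      obtain ⟨y, hy⟩ := complementSystem_conjugate (isComplementSystem_subgroupOf hK' hredX) hM
      set K'' : Nat.Primes → Subgroup G := fun r => MulAut.conj (y : G) • K' r
      have hK'' : ∀ r, (M r).map X.subtype = K'' r ⊓ X := fun r => by
        rw [← hy r, map_conj_smul, Subgroup.subgroupOf_map_subtype, Subgroup.smul_inf,
          Subgroup.coe_subtype, Subgroup.conj_smul_eq_self_of_mem y.2]
      refine ⟨K'', isComplementSystem_conj hK' _, fun r => ?_, ?_⟩
      · rw [show (K'' r).relIndex C = (M r).relIndex (C.subgroupOf X) by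
          conv_rhs => rw [← Subgroup.relIndex_map_map_of_injective _ _ X.subtype_injective, hK'',
            Subgroup.map_subgroupOf_eq_of_le le_sup_left]
          rw [← Subgroup.inf_relIndex_right (H := K'' r), ← Subgroup.inf_relIndex_right (H := K'' r ⊓ X),
            inf_assoc, inf_eq_right.mpr (le_sup_left : C ≤ X)]]
        exact hMred r
      · intro x hx
        have hxX : x ∈ X := by
          rw [systemNormalizer_conj] at hx
          rw [← Subgroup.conj_smul_eq_self_of_mem y.2]
          exact Subgroup.pointwise_smul_le_pointwise_smul_iff.mpr hD'X hx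
        refine (hMD (x := ⟨x, hxX⟩) (mem_systemNormalizer.mpr fun r => ?_) : _)
        apply Subgroup.map_injective X.subtype_injective
        rw [map_conj_smul, hK'', Subgroup.smul_inf, Subgroup.coe_subtype,
          mem_systemNormalizer.mp hx r, Subgroup.conj_smul_eq_self_of_mem hxX]

theorem carter_systemNormalizer {G : Type u} [Group G] [Finite G] [Group.IsSolvable G] :
    (∀ C : Subgroup G, Cfsg.IsCarterSubgroup C →
      ∃ K : Nat.Primes → Subgroup G, Cfsg.IsComplementSystem K ∧ Cfsg.systemNormalizer K ≤ C) ∧
    ∀ K : Nat.Primes → Subgroup G, Cfsg.IsComplementSystem K →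
      ∃ C : Subgroup G, Cfsg.IsCarterSubgroup C ∧ Cfsg.systemNormalizer K ≤ C := by
  refine ⟨fun C hC => ?_, fun K hK => ?_⟩
  · obtain ⟨K, hK, -, h⟩ := exists_reduces hC
    exact ⟨K, hK, h⟩
  · obtain ⟨C, hC⟩ := exists_carter (G := G)
    obtain ⟨L, hL, -, hle⟩ := exists_reduces hC
    obtain ⟨g, hg⟩ := complementSystem_conjugate hL hK
    refine ⟨_, isCarter_conj hC g, ?_⟩
    have h1 : (fun r => MulAut.conj g • L r) = K := funext hg
    rw [← h1, systemNormalizer_conj]
    exact Subgroup.pointwise_smul_le_pointwise_smul_iff.mpr hle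

/-- A nilpotent normal subgroup centralizes a minimal normal subgroup. -/
theorem le_centralizer_minNormal [Finite G] {F N : Subgroup G} [F.Normal]
    (hF : Group.IsNilpotent F) (hN : IsMinNormal N) : F ≤ Subgroup.centralizer (N : Set G) := by
  have := hN.normal
  rcases hN.le_or_inf_eq_bot (K := F) with hle | h0
  · have hlt : ⁅N, F⁆ ≠ N := by
      intro heq
      obtain ⟨n, hn⟩ := Subgroup.nilpotent_iff_lowerCentralSeries.mp hF
      apply hN.ne_bot
      have h1 : ∀ k, N.subgroupOf F ≤ (⊤ : Subgroup F).lowerCentralSeries k := by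
        intro k
        induction k with
        | zero => simp
        | succ k ih =>
          rw [Subgroup.lowerCentralSeries_succ]
          refine le_trans ?_ (Subgroup.commutator_mono ih le_rfl)
          intro x hx
          have h2 : (x : G) ∈ (⁅N.subgroupOf F, (⊤ : Subgroup F)⁆).map F.subtype := by
            rw [Subgroup.map_commutator, Subgroup.map_subgroupOf_eq_of_le hle,
              ← MonoidHom.range_eq_map, F.range_subtype, heq]
            exact hx
          obtain ⟨z, hz, hzx⟩ := h2
          rwa [← show z = x from Subtype.ext hzx]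
      have h3 : N.subgroupOf F = ⊥ := le_bot_iff.mp (hn ▸ h1 n)
      exact disjoint_self.mp ((Subgroup.subgroupOf_eq_bot.mp h3).mono_right hle)
    rcases hN.2.2 ⁅N, F⁆ inferInstance (Subgroup.commutator_le_left N F) with h1 | h1
    · rw [Subgroup.commutator_comm, Subgroup.commutator_eq_bot_iff_le_centralizer] at h1
      exact h1
    · exact absurd h1 hlt
  · rw [← Subgroup.commutator_eq_bot_iff_le_centralizer, ← le_bot_iff, ← h0, inf_comm]
    exact Subgroup.commutator_le_inf F N

/-- In a nilpotent-by-nilpotent group the Carter subgroups are the system normalizers. -/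
theorem eq_systemNormalizer {G : Type u} [Group G] [Finite G] [Group.IsSolvable G]
    (F : Subgroup G) [F.Normal] (hF : Group.IsNilpotent F) (hGF : Group.IsNilpotent (G ⧸ F))
    {K : Nat.Primes → Subgroup G} (hK : Cfsg.IsComplementSystem K) {C : Subgroup G}
    (hC : Cfsg.IsCarterSubgroup C) (hle : Cfsg.systemNormalizer K ≤ C) :
    Cfsg.systemNormalizer K = C := by
  induction hn : Nat.card G using Nat.strong_induction_on generalizing G with
  | _ n ih =>
    rcases subsingleton_or_nontrivial G with h | h
    · exact Subsingleton.elim _ _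
    obtain ⟨N, hN⟩ := exists_minNormal (G := G)
    have := hN.normal
    set D := Cfsg.systemNormalizer K
    set q := QuotientGroup.mk' N with hq
    have hqs : Function.Surjective q := QuotientGroup.mk'_surjective N
    have hCFtop : C ⊔ F = ⊤ := by
      have h1 := isCarter_map (QuotientGroup.mk'_surjective F) hC
      have h2 := eq_top_of_normalizer_eq h1.2
      have h3 := congrArg (Subgroup.comap (QuotientGroup.mk' F)) h2
      rwa [comap_mk'_map, Subgroup.comap_top] at h3
    have hDC : D.map q = C.map q := by
      have := hF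
      have hFq : (F.map q).Normal := Subgroup.Normal.map inferInstance q hqs
      have hF' : Group.IsNilpotent (F.map q) :=
        Group.nilpotent_of_surjective (q.subgroupMap F) (q.subgroupMap_surjective F)
      have hQ : Group.IsNilpotent ((G ⧸ N) ⧸ F.map q) := by
        have := hGF
        refine Group.nilpotent_of_surjective
          (QuotientGroup.map F (F.map q) q (Subgroup.le_comap_map q F)) ?_
        exact QuotientGroup.map_surjective_of_surjective F (F.map q) q
          ((QuotientGroup.mk'_surjective _).comp hqs) _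
      have h1 := ih _ (hn ▸ card_quotient_lt hN.ne_bot) (G := G ⧸ N) (F.map q) hF' hQ
        (isComplementSystem_map hK hqs) (isCarter_map hqs hC)
        (by rw [systemNormalizer_map hK N]; exact Subgroup.map_mono hle) rfl
      rwa [systemNormalizer_map hK N] at h1
    refine le_antisymm hle fun x hx => ?_
    have hxD : x ∈ D ⊔ N := by
      rw [← comap_mk'_map]
      show q x ∈ D.map q
      rw [hDC]
      exact Subgroup.mem_map_of_mem q hx
    obtain ⟨d, hd, m, hm, rfl⟩ := Subgroup.mem_sup_of_normal_right.mp hxD
    refine D.mul_mem hd ?_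
    by_cases hcen : Subgroup.centralizer (N : Set G) = ⊤
    · exact le_systemNormalizer_of_central hcen hm
    have hmC : m ∈ N ⊓ C := ⟨hm, by simpa using C.mul_mem (C.inv_mem (hle hd)) hx⟩
    have hFN := le_centralizer_minNormal hF hN
    have hNC : (N ⊓ C).Normal := by
      rw [← Subgroup.normalizer_eq_top_iff, ← top_le_iff, ← hCFtop, sup_le_iff]
      refine ⟨(le_inf Subgroup.le_normalizer_of_normal Subgroup.le_normalizer).trans
        (Subgroup.inf_normalizer_le_normalizer_inf), fun f hf => ?_⟩
      rw [Subgroup.mem_normalizer_iff]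
      intro y
      constructor
      · intro hy
        rw [← hFN hf y hy.1, mul_inv_cancel_right]
        exact hy
      · intro hy
        have h2 := hFN hf _ hy.1
        rw [inv_mul_cancel_right] at h2
        rwa [← mul_left_cancel h2] at hy
    rcases hN.2.2 _ hNC inf_le_left with h0 | h1
    · rw [h0, Subgroup.mem_bot] at hmC
      rw [hmC]; exact D.one_mem
    · exfalso
      have hNle : N ≤ C := inf_eq_left.mp h1
      have := hC.1
      apply hcen
      have h4 : C ≤ Subgroup.centralizer (N : Set G) := by
        have hNCn : (⁅N, C⁆).Normal := by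
          rw [← Subgroup.normalizer_eq_top_iff, ← top_le_iff, ← hCFtop, sup_le_iff]
          constructor
          · intro c hc
            rw [mem_normalizer_iff_smul, conj_smul_eq_map, Subgroup.map_commutator,
              ← conj_smul_eq_map, ← conj_smul_eq_map, conj_smul_normal,
              Subgroup.conj_smul_eq_self_of_mem hc]
          · intro f hf
            rw [Subgroup.mem_normalizer_iff]
            intro y
            constructor
            · intro hy
              rw [← hFN hf y (Subgroup.commutator_le_left N C hy), mul_inv_cancel_right]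
              exact hy
            · intro hy
              have h2 := hFN hf _ (Subgroup.commutator_le_left N C hy)
              rw [inv_mul_cancel_right] at h2
              rwa [← mul_left_cancel h2] at hy
        rcases hN.2.2 ⁅N, C⁆ hNCn (Subgroup.commutator_le_left N C) with h5 | h5
        · rw [Subgroup.commutator_comm, Subgroup.commutator_eq_bot_iff_le_centralizer] at h5
          exact h5
        · exfalso
          obtain ⟨n', hn'⟩ := Subgroup.nilpotent_iff_lowerCentralSeries.mp hC.1
          apply hN.ne_bot
          have h6 : ∀ k, N.subgroupOf C ≤ (⊤ : Subgroup C).lowerCentralSeries k := by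
            intro k
            induction k with
            | zero => simp
            | succ k ihk =>
              rw [Subgroup.lowerCentralSeries_succ]
              refine le_trans ?_ (Subgroup.commutator_mono ihk le_rfl)
              intro y hy
              have h7 : (y : G) ∈ (⁅N.subgroupOf C, (⊤ : Subgroup C)⁆).map C.subtype := by
                rw [Subgroup.map_commutator, Subgroup.map_subgroupOf_eq_of_le hNle,
                  ← MonoidHom.range_eq_map, C.range_subtype, h5]
                exact hy
              obtain ⟨z, hz, hzy⟩ := h7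
              rwa [← show z = y from Subtype.ext hzy]
          have h8 : N.subgroupOf C = ⊥ := le_bot_iff.mp (hn' ▸ h6 n')
          exact disjoint_self.mp ((Subgroup.subgroupOf_eq_bot.mp h8).mono_right hNle)
      rw [← top_le_iff, ← hCFtop]
      exact sup_le h4 hFN

theorem carter_iff_systemNormalizer {G : Type u} [Group G] [Finite G] (F : Subgroup G) [F.Normal]
    (hF : Group.IsNilpotent F) (hGF : Group.IsNilpotent (G ⧸ F)) (C : Subgroup G) :
    Cfsg.IsCarterSubgroup C ↔
      ∃ K : Nat.Primes → Subgroup G, Cfsg.IsComplementSystem K ∧ C = Cfsg.systemNormalizer K := by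
  have := hF
  have := hGF
  have : Group.IsSolvable G := (Group.isSolvable_iff_subgroup_quotient F).mpr
    ⟨inferInstance, inferInstance⟩
  constructor
  · intro hC
    obtain ⟨K, hK, -, hle⟩ := exists_reduces hC
    exact ⟨K, hK, (eq_systemNormalizer F hF hGF hK hC hle).symm⟩
  · rintro ⟨K, hK, rfl⟩
    obtain ⟨C', hC', hle⟩ := carter_systemNormalizer.2 K hK
    rw [eq_systemNormalizer F hF hGF hK hC' hle]
    exact hC'

end Cfsg.Agent.HallCarterSystem
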