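import Cfsg.Agent.Lib.BG14Struct83
import Cfsg.Agent.Lib.BGRankTwo
import Cfsg.Agent.Lib.BGSigmaBasic
import Cfsg.Agent.S1422
import Cfsg.Agent.S1423
import Cfsg.Agent.S1425
import Cfsg.Agent.S1426

/-!
Bender-Glauberman 14.2 (d), (e), (f): intersections with `K*` and its Sylow subgroups.
-/

set_option autoImplicit false
set_option linter.style.haveILetI false

namespace Cfsg.Agent.BG14

open Subgroup
open Cfsg.Agent.HallCore
open Cfsg.Agent.BGTypeP (cj)
open scoped IsMulCommutative commutatorElement Pointwise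

universe u

variable {G : Type u} [Group G] [Finite G]
variable (hG : Cfsg.IsMinSimpleOddOrder G) {M : Subgroup G} (hM : IsCoatom M)
  {K : Subgroup G} (hK : Cfsg.IsPiHallOf (Cfsg.kappa M) K M) (hK1 : K ≠ ⊥)

include hG hM hK hK1

theorem centralizer_le_of_star {X₀ : Subgroup G} (hX₀ : (Nat.card X₀).Prime)
    (hle : X₀ ≤ Cfsg.sigmaCore M ⊓ centralizer (K : Set G)) :
    centralizer (X₀ : Set G) ≤ M := by
  obtain ⟨q, X, hq, hX, hXc⟩ := exists_prime_subgroup hK1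
  haveI := Fact.mk hq
  have hqk : q ∈ Cfsg.kappa M := hK.2.1 q hq (hXc ▸ card_dvd_of_le hX)
  exact (cent_prime_unique hG hM (exists_of_kappa hqk).1 (hX.trans hK.1) hXc hX₀
    (hle.trans (inf_le_inf_left _ (centralizer_le hX))) rfl).1

/-- `K* ∩ gMg⁻¹ = 1` for `g ∉ M`. -/
theorem star_inter_conj {g : G} (hg : g ∉ M) :
    Cfsg.sigmaCore M ⊓ centralizer (K : Set G) ⊓ cj g M = ⊥ := by
  by_contra hne
  obtain ⟨t, X, ht, hX, hXc⟩ := exists_prime_subgroup hne
  haveI := Fact.mk ht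
  have hXs := hX.trans inf_le_left
  have hXM : X ≤ M := (hXs.trans inf_le_left).trans (BGFinal72.sigmaCore_le M)
  obtain ⟨m, hm, c, hc, he⟩ := BGSigma.fusion hG hM
    (mem_sigma_of_le ht (hXs.trans inf_le_left) hXc) (isPGroup_of_card hXc)
    (ne_bot_of_card ht hXc) hXM (g := g⁻¹) (BGTypeP.le_cj_iff.2 (hX.trans inf_le_right))
  refine hg (inv_mem_iff.1 ?_)
  rw [he]
  exact mul_mem hm (centralizer_le_of_star hG hM hK hK1 (hXc ▸ ht) hXs hc)

/-- `K ∩ gKg⁻¹ = 1` for `g ∈ M` outside `K K*`. -/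
theorem hall_inter_conj {g : G} (hgM : g ∈ M)
    (hg : g ∉ K ⊔ (Cfsg.sigmaCore M ⊓ centralizer (K : Set G))) : K ⊓ cj g K = ⊥ := by
  by_contra hne
  obtain ⟨r, Y, hr, hY, hYc⟩ := exists_prime_subgroup hne
  haveI := Fact.mk hr
  have hYK : Y ≤ K := hY.trans inf_le_left
  have hY' : cj g⁻¹ Y ≤ K := BGTypeP.le_cj_iff.2 (hY.trans inf_le_right)
  have hrk : r ∈ Cfsg.kappa M := hK.2.1 r hr (hYc ▸ card_dvd_of_le hYK)
  have hr1 := (tau13_iff.1 (exists_of_kappa hrk).1).2.2.2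
  have hN := normalizer_prime hG hM hK hK1 hr hYK hYc
  have hKY : K ≤ normalizer (Y : Set G) := (le_sup_left.trans hN.ge).trans inf_le_right
  have hc' : Nat.card (cj g⁻¹ Y) = r := by rw [BGTypeP.card_cj, hYc]
  have hp : IsPGroup r ↥(cj g⁻¹ Y ⊔ Y) :=
    (isPGroup_of_card hc').to_sup_of_normal_right' (isPGroup_of_card hYc) (hY'.trans hKY)
  have heq : cj g⁻¹ Y = Y := isPGroup_eq_of_order_prime (p := r)
    (isCyclic_of_rank_one hG hr1 ((sup_le hY' hYK).trans hK.1) hp) le_sup_left le_sup_right hc' hYc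
  refine hg ?_
  rw [← hN]
  exact ⟨hgM, (normalizer (Y : Set G)).inv_mem_iff.1
    (CoprimeAction.mem_normalizer_of_conj_smul_eq heq)⟩

/-- A subgroup of order `p` of `M_σ'` for every prime `p` of `K*`, when `M_σ` has `p`-rank at most 2. -/
theorem exists_derived_of_rank_two {p : ℕ} [Fact p.Prime]
    (hpd : p ∣ Nat.card ↥(Cfsg.sigmaCore M ⊓ centralizer (K : Set G)))
    (hr : Cfsg.PRankLE p 2 ↥(Cfsg.sigmaCore M)) :
    ∃ X : Subgroup G, X ≤ M ∧ Nat.card X = p ∧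
      X ≤ ⁅Cfsg.sigmaCore M, Cfsg.sigmaCore M⁆ := by
  have hp : p.Prime := Fact.out
  obtain ⟨E, hE, hKE⟩ := exists_compl_kappa hG hM hK
  obtain ⟨U, hUE, hEU, hU⟩ := exists_U hG hM hE
  have hπ : PiNat (Cfsg.kappa M)ᶜ (Nat.card U) := PiNat.mono hU.2.1 fun _ h => h.2.1
  obtain ⟨X₀, hX₀, hX₀c⟩ := exists_prime_subgroup_of_dvd hp hpd
  have hpσ : p ∈ Cfsg.sigma M := mem_sigma_of_le hp (hX₀.trans inf_le_left) hX₀c
  have hEs := subgroup_solvable hG hM hE.1
  haveI := hEs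
  have hES : E ≤ normalizer (Cfsg.sigmaCore M : Set G) :=
    hE.1.trans (BGFinal72.le_normalizer_sigmaCore M)
  have hcop : (Nat.card E).Coprime (Nat.card (Cfsg.sigmaCore M)) :=
    ((PiNat.coprime (BGTypeP.piNat_sigmaCore M)
      (BGTypeP.hallOf_iff.1 (compl_hall hG hM hE)).2.1)).symm
  have hKc := hcop.coprime_dvd_left (card_dvd_of_le hKE)
  have hKs : Group.IsSolvable K := subgroup_solvable hG hM hK.1
  obtain ⟨P, hX₀P, hPK⟩ := CoprimeAction.exists_invariant_sylow_ge (hKE.trans hES) hKc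
    (Or.inl hKs) (hX₀.trans inf_le_left) (isPGroup_of_card hX₀c)
    ((le_centralizer_iff.1 (hX₀.trans inf_le_right)).trans (centralizer_le_normalizer _))
  obtain ⟨S, hSE⟩ := CoprimeAction.exists_invariant_sylow hES hcop (Or.inl hEs) p
  obtain ⟨c, hc, hcP⟩ := CoprimeAction.invariant_sylow_conj (hKE.trans hES) hKc (Or.inl hKs) P S
    hPK (hKE.trans hSE)
  set S' : Subgroup G := (S : Subgroup _).map (Cfsg.sigmaCore M).subtype with hS'
  set X : Subgroup G := cj (c : G) X₀ with hX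
  have hXc : Nat.card X = p := by rw [hX, BGTypeP.card_cj, hX₀c]
  have hXS : X ≤ S' := by
    rintro _ ⟨x, hx, rfl⟩
    obtain ⟨y, hy, rfl⟩ := hX₀P hx
    refine ⟨c * y * c⁻¹, ?_, by simp⟩
    rw [← hcP]
    exact ⟨y, hy, rfl⟩
  have hKX : X ≤ centralizer (K : Set G) := by
    rintro _ ⟨x, hx, rfl⟩
    exact mul_mem (mul_mem hc (hX₀.trans inf_le_right hx)) (inv_mem hc)
  have hS'p : IsPGroup p S' := S.isPGroup'.map _
  have hS'σ : S' ≤ Cfsg.sigmaCore M := map_subtype_le _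
  -- `E'` centralizes the invariant Sylow subgroup
  have hUS : U ≤ centralizer (S' : Set G) := by
    intro u hu x hx
    refine ((BGRankTwo.commute_of_mem_commutator (R := S') (A := E) ?_ hS'p
      (BGRankTwo.pRankLE_mono hS'σ hr) hSE ?_ ?_ ?_) x hx).eq.symm
    · exact BGUnique.prime_ne_two hG (hX₀c ▸ card_subgroup_dvd_card X₀)
    · exact hG.1.of_dvd_nat (card_subgroup_dvd_card E)
    · exact ((U_le_commutator hG hM hK hK1 hE hKE hUE (hKE.trans hEU) hπ).trans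
        (commutator_mono hUE hKE)) hu
    · refine ((Nat.Prime.coprime_iff_not_dvd hp).2 fun hd => ?_).symm
      exact (hU.2.1 p hp (hd.trans (U.orderOf_dvd_natCard hu))).2.2 hpσ
  have hEX : E ≤ centralizer (X : Set G) := by
    have h1 : K ≤ E ⊓ centralizer (X : Set G) := le_inf hKE (le_centralizer_iff.1 hKX)
    have h2 : U ≤ E ⊓ centralizer (X : Set G) := le_inf hUE (hUS.trans (centralizer_le hXS))
    have hN : (E ⊓ centralizer (X : Set G)).relIndex E = 1 := by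
      by_contra hne
      obtain ⟨q, hq, hd⟩ := Nat.exists_prime_and_dvd hne
      have hqσ := (compl_prime hG hM hE hq (hd.trans (relIndex_dvd_card _ _))).1
      by_cases hk : q ∈ Cfsg.kappa M
      · exact hK.2.2 q hq hk ((hd.trans (relIndex_dvd_of_le_left E h1)).trans
          (Dvd.intro _ (relIndex_mul_relIndex K E M hKE hE.1)))
      · exact hU.2.2 q hq ⟨hq, hk, hqσ⟩ ((hd.trans (relIndex_dvd_of_le_left E h2)).trans
          (Dvd.intro _ (relIndex_mul_relIndex U E M hUE hE.1)))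
    exact (relIndex_eq_one.1 hN).trans inf_le_right
  exact ⟨X, (hXS.trans hS'σ).trans (BGFinal72.sigmaCore_le M), hXc,
    (le_inf (hXS.trans hS'σ) (le_centralizer_iff.1 hEX)).trans (S1426.result hG M hM E hE).1⟩

/-- `M` is the only maximal subgroup over a Sylow subgroup of `M_σ` for a prime of `K*`. -/
theorem star_sylow_unique {p : ℕ} [Fact p.Prime]
    (hpd : p ∣ Nat.card ↥(Cfsg.sigmaCore M ⊓ centralizer (K : Set G)))
    (S : Sylow p ↥(Cfsg.sigmaCore M)) :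
    Cfsg.InUniqueMaximal ((S : Subgroup ↥(Cfsg.sigmaCore M)).map (Cfsg.sigmaCore M).subtype) := by
  have hp : p.Prime := Fact.out
  by_cases hr : Cfsg.PRankLE p 2 ↥(Cfsg.sigmaCore M)
  · obtain ⟨X, hXM, hXc, hXd⟩ := exists_derived_of_rank_two hG hM hK hK1 hpd hr
    exact (S1423.result hG M hM p
      (mem_sigma_of_le hp (hXd.trans (commutator_le_self _)) hXc) X hXM hXc S (Or.inr hXd)).2.1
  · have hMne : Cfsg.sigmaCore M ≠ ⊤ := fun h =>
      hM.1 (top_le_iff.1 (h ▸ BGFinal72.sigmaCore_le M))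
    obtain ⟨A, hA, hAe, hAc⟩ := BGUnique.pow_le_of_not_pRankLE hr
    obtain ⟨k, hk, hle⟩ := BGSigma.exists_conj_maxP
      (BGUnique.isMaxP_sylow (Cfsg.sigmaCore M) S) hA
      (PGroupsBasic.isPGroup_of_isElementaryAbelian hAe)
    refine BGSigma.unique_of_rank (p := p) hG (fun h => hMne (top_le_iff.1 (h ▸ map_subtype_le _)))
      fun h => ?_
    have h1 : Nat.card (cj k A) ≤ p ^ 2 :=
      BGSigma.card_le_of_pRankLE h hle (PGroupsBasic.isElementaryAbelian_map_hom hAe _)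
    rw [BGTypeP.card_cj] at h1
    have h2 := (Nat.pow_le_pow_iff_right hp.one_lt).1 (hAc.trans h1)
    omega

theorem star_sylow_not_le {p : ℕ} [Fact p.Prime]
    (hpd : p ∣ Nat.card ↥(Cfsg.sigmaCore M ⊓ centralizer (K : Set G)))
    (S : Sylow p ↥(Cfsg.sigmaCore M)) :
    ¬ (S : Subgroup ↥(Cfsg.sigmaCore M)).map (Cfsg.sigmaCore M).subtype ≤
      Cfsg.sigmaCore M ⊓ centralizer (K : Set G) := by
  intro hle
  obtain ⟨q, X, hq, hX, hXc⟩ := exists_prime_subgroup hK1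
  obtain ⟨L, hL, hN⟩ := exists_coatom_normalizer hG hq hXc
  have hne := not_cj_of_normalizer_le hG hL
    (exists_of_kappa (hK.2.1 q hq (hXc ▸ card_dvd_of_le hX))).1 hXc hN
  refine ne_of_not_cj hne (BGUnique.eq_of_unique (star_sylow_unique hG hM hK hK1 hpd S) hL
    ((hle.trans (inf_le_right.trans (centralizer_le hX))).trans
      ((centralizer_le_normalizer _).trans hN)) hM
    ((map_subtype_le _).trans (BGFinal72.sigmaCore_le M)))

/-- A σ(M)-subgroup meeting `K*` lies in `M_σ`. -/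
theorem le_sigmaCore_of_star {Y : Subgroup G}
    (hY : ∀ p : ℕ, p.Prime → p ∣ Nat.card Y → p ∈ Cfsg.sigma M)
    (hne : Y ⊓ (Cfsg.sigmaCore M ⊓ centralizer (K : Set G)) ≠ ⊥) : Y ≤ Cfsg.sigmaCore M := by
  have hY1 : Y ≠ ⊥ := fun h => hne (by rw [h, bot_inf_eq])
  obtain ⟨g, hg⟩ := S1425.result hG M hM Y hY1 hY
  have hgY : Y ≤ cj g⁻¹ (Cfsg.sigmaCore M) := by
    rw [← BGTypeP.cj_inv_cj g Y]
    exact BGTypeP.cj_mono _ hg
  have hgM : g⁻¹ ∈ M := by
    by_contra h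
    refine hne (eq_bot_iff.2 ?_)
    rw [← star_inter_conj hG hM hK hK1 h]
    exact le_inf inf_le_right ((inf_le_left.trans hgY).trans
      (BGTypeP.cj_mono _ (BGFinal72.sigmaCore_le M)))
  rwa [BGTypeP.cj_eq_self (BGFinal72.le_normalizer_sigmaCore M hgM)] at hgY

end Cfsg.Agent.BG14
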