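import Mathlib
import Cfsg.Prelude.Def_OddOrderChar
import Cfsg.Agent.Lib.BGTypeSetup
import Cfsg.Agent.Lib.BGExceptionalPrep
import Cfsg.Agent.Lib.BGFinalBasic72
import Cfsg.Agent.Lib.BGSigmaDisjoint
import Cfsg.Agent.Lib.BGSigmaCore
import Cfsg.Agent.Lib.FittingHallBasic
import Cfsg.Agent.S1351
import Cfsg.Agent.S1352
import Cfsg.Agent.S1361
import Cfsg.Agent.S1362
import Cfsg.Agent.S1375
import Cfsg.Agent.S1436
import Cfsg.Agent.S1438

/-!
The Dade hypothesis for the non-identity elements of the sigma core of a maximal subgroup, and for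
the elements with a fixed point on it when the kappa set is empty.
-/

set_option autoImplicit false
set_option linter.unusedSectionVars false
set_option linter.style.haveILetI false

open scoped Pointwise

namespace Cfsg.Agent.PF12Sets

open Cfsg Cfsg.Agent.BGTypeBasic Cfsg.Agent.BGTypeSetup

universe u

variable {G : Type u} [Group G] [Finite G]

theorem exists_decomp (hG : IsMinSimpleOddOrder G) {M : Subgroup G} (hM : IsCoatom M) :
    ∃ K U : Subgroup G, IsSigmaDecomposition M K U := by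
  obtain ⟨K, hK⟩ := (S1351.result hG M hM).1
  obtain ⟨U, hU⟩ := (S1352.result hG M hM K ((S1351.result hG M hM).2 K hK) hK).1
  exact ⟨K, U, hU⟩

/-- With an empty kappa set a standard factorisation is just a complement to the sigma core. -/
theorem exists_decomp_of_kappa (hG : IsMinSimpleOddOrder G) {M : Subgroup G} (hM : IsCoatom M)
    (hκ : kappa M = ∅) : ∃ U : Subgroup G, IsSigmaDecomposition M ⊥ U := by
  obtain ⟨K, U, h⟩ := exists_decomp hG hM
  exact ⟨U, ((kappa_eq_empty_iff hG hM h).1 hκ) ▸ h⟩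

/-- A prime outside sigma and kappa with a fixed point lies in tau two; so there is none if both are empty. -/
theorem no_fixed (hG : IsMinSimpleOddOrder G) {M : Subgroup G} (hM : IsCoatom M) (hκ : kappa M = ∅)
    (hτ : tau2 M = ∅) {a y : G} (ha : a ∈ M) (hy : y ∈ sigmaCore M) (hy1 : y ≠ 1)
    (hay : a * y = y * a) : a ∈ sigmaCore M := by
  refine sigma_element_mem hG hM ha fun q hq hd => ?_
  by_contra hqσ
  have hk : q ∉ kappa M := by rw [hκ]; exact id
  have h := BGFinal72.mem_tau2_of_fixed hG hM hq hqσ hk (M.pow_mem ha (orderOf a / q))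
    (orderOf_pow_orderOf_div (orderOf_pos a).ne' hd) hy hy1 ((show Commute a y from hay).pow_left _).eq
  rw [hτ] at h
  exact h

theorem orderOf_conj' (g a : G) : orderOf (g * a * g⁻¹) = orderOf a :=
  orderOf_injective (MulAut.conj g).toMonoidHom (MulAut.conj g).injective a

theorem conj_mem_sigmaHat {M : Subgroup G} {m a : G} (hm : m ∈ M) (ha : a ∈ sigmaHat M) :
    m * a * m⁻¹ ∈ sigmaHat M := by
  obtain ⟨haM, y, hy, hy1, hay⟩ := ha
  exact ⟨M.mul_mem (M.mul_mem hm haM) (M.inv_mem hm), m * y * m⁻¹, conj_mem_sigmaCore hm hy,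
    by simpa using hy1, ((show Commute a y from hay).map (MulAut.conj m)).eq⟩

theorem mem_sigmaHat_of_mem {M : Subgroup G} {a : G} (ha : a ∈ sigmaCore M) (ha1 : a ≠ 1) :
    a ∈ sigmaHat M :=
  ⟨sigmaCore_le M ha, a, ha, ha1, rfl⟩

/-- Outside the sigma core, an element with a fixed point has its centraliser in `M`. -/
theorem centralizer_le (hG : IsMinSimpleOddOrder G) {M : Subgroup G} (hM : IsCoatom M) (hκ : kappa M = ∅)
    {a : G} (ha : a ∈ sigmaHat M) (haσ : a ∉ sigmaCore M) :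
    Subgroup.centralizer ({a} : Set G) ≤ M := by
  obtain ⟨U, hKU⟩ := exists_decomp_of_kappa hG hM hκ
  obtain ⟨haM, y, hy, hy1, hay⟩ := ha
  obtain ⟨q, hq, hqd, hqσ⟩ : ∃ q : ℕ, q.Prime ∧ q ∣ orderOf a ∧ q ∉ sigma M := by
    by_contra hcon
    simp only [not_exists, not_and, not_not] at hcon
    exact haσ (sigma_element_mem hG hM haM hcon)
  haveI := Fact.mk hq
  set b := a ^ (orderOf a / q) with hb
  have hbord : orderOf b = q := orderOf_pow_orderOf_div (orderOf_pos a).ne' hqd
  have hbM : b ∈ M := M.pow_mem haM _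
  have hnd : ¬ q ∣ U.relIndex M := by
    intro hd
    rw [(relIndex_of_isComplIn hKU.compl).1, bot_sup_eq] at hd
    exact hqσ (mem_sigma_of_dvd hG hM hq hd)
  obtain ⟨m, hm, hmU⟩ := exists_conj_mem_of_not_dvd_relIndex hnd hbM
    (IsPGroup.of_card (n := 1) (by rw [Nat.card_zpowers, hbord, pow_one]))
  set c := m⁻¹ * b * m with hc
  have hby : Commute b y := (show Commute a y from hay).pow_left _
  have hXne : Subgroup.zpowers c ≠ ⊥ := by
    rw [Ne, Subgroup.zpowers_eq_bot]
    intro h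
    have : b = 1 := by
      have := congrArg (fun t => m * t * m⁻¹) h
      simpa [hc, mul_assoc] using this
    rw [this, orderOf_one] at hbord
    exact hq.ne_one hbord.symm
  have hXc : sigmaCore M ⊓ Subgroup.centralizer (Subgroup.zpowers c : Set G) ≠ ⊥ := by
    intro hbot
    have hy' : m⁻¹ * y * m ∈ sigmaCore M := by
      simpa using conj_mem_sigmaCore (M.inv_mem hm) hy
    have hmem : m⁻¹ * y * m ∈ sigmaCore M ⊓ Subgroup.centralizer (Subgroup.zpowers c : Set G) := by
      refine ⟨hy', ?_⟩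
      rintro _ ⟨i, rfl⟩
      simpa [hc, MulAut.conj_apply] using ((hby.map (MulAut.conj m⁻¹)).zpow_left i).eq
    rw [hbot, Subgroup.mem_bot] at hmem
    apply hy1
    have := congrArg (fun t => m * t * m⁻¹) hmem
    simpa [mul_assoc] using this
  have hle := (S1361.result hG M hM ⊥ U hKU (Subgroup.zpowers c) (Subgroup.zpowers_le.mpr hmU) hXne hXc).1
  intro z hz
  have hzb : Commute z b := ((show Commute z a from
    Subgroup.mem_centralizer_singleton_iff.mp hz)).pow_right _
  have h1 : m⁻¹ * z * m ∈ Subgroup.centralizer (Subgroup.zpowers c : Set G) := by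
    rintro _ ⟨i, rfl⟩
    simpa [hc, MulAut.conj_apply] using ((hzb.symm.map (MulAut.conj m⁻¹)).zpow_left i).eq
  have h2 := M.mul_mem (M.mul_mem hm (hle h1)) (M.inv_mem hm)
  simpa [mul_assoc] using h2

/-- The elements with a fixed point are fused only by `M`. -/
theorem fusion_of_kappa (hG : IsMinSimpleOddOrder G) {M : Subgroup G} (hM : IsCoatom M)
    (hκ : kappa M = ∅) {x : G} (hx : x ∈ sigmaHat M) (hxσ : x ∉ sigmaCore M) {g : G}
    (hg : g * x * g⁻¹ ∈ sigmaHat M) (hgσ : g * x * g⁻¹ ∉ sigmaCore M) : g ∈ M := by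
  obtain ⟨U, hKU⟩ := exists_decomp_of_kappa hG hM hκ
  have hUM : U ⊔ sigmaCore M = M := by
    have := sup_eq_of_isComplIn hKU.compl
    rwa [bot_sup_eq] at this
  set T : Set G := sigmaA M U \ (sigmaCore M : Set G) with hTdef
  have hT : IsTISubset T := S1362.result hG M hM ⊥ U hKU
  have hTmem : ∀ a : G, a ∈ T ↔ a ∈ sigmaHat M ∧ a ∉ sigmaCore M := fun a => by
    simp only [hTdef, sigmaA, hUM, Set.mem_sdiff, Set.mem_inter_iff, SetLike.mem_coe]
    exact ⟨fun h => ⟨h.1.1, h.2⟩, fun h => ⟨⟨h.1, h.1.1⟩, h.2⟩⟩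
  have hxT : x ∈ T := (hTmem x).2 ⟨hx, hxσ⟩
  have hx1 : x ≠ 1 := fun h => hxσ (h ▸ one_mem _)
  have hgN : g ∈ Subgroup.normalizer T :=
    by_contra fun h => hx1 (hT g h x hxT ((hTmem _).2 ⟨hg, hgσ⟩))
  have hMN : M ≤ Subgroup.normalizer T := by
    intro m hm
    rw [Subgroup.mem_set_normalizer_iff]
    intro a
    have key : ∀ m ∈ M, ∀ a ∈ T, m * a * m⁻¹ ∈ T := by
      intro m hm a ha
      obtain ⟨h1, h2⟩ := (hTmem a).1 ha
      refine (hTmem _).2 ⟨conj_mem_sigmaHat hm h1, fun h => h2 ?_⟩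
      simpa [mul_assoc] using conj_mem_sigmaCore (M.inv_mem hm) h
    exact ⟨key m hm a, fun h => by simpa [mul_assoc] using key m⁻¹ (M.inv_mem hm) _ h⟩
  have hle : Subgroup.normalizer T ≤ Subgroup.normalizer ((Subgroup.closure T : Subgroup G) : Set G) := by
    intro c hc
    rw [Subgroup.mem_normalizer_iff_map_conj_eq, MonoidHom.map_closure]
    congr 1
    exact Subgroup.mem_normalizer_iff_conj_image_eq.mp hc
  rw [← normalizer_eq_of_normal hG hM
    (fun h => hx1 (Subgroup.mem_bot.mp (h ▸ Subgroup.subset_closure hxT)))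
    ((Subgroup.closure_le _).mpr fun a ha => ((hTmem a).1 ha).1.1) (hMN.trans hle)]
  exact hle hgN

/-- The general criterion: an invariant set of elements with fixed points. -/
theorem dade_of (hG : IsMinSimpleOddOrder G) {M : Subgroup G} (hM : IsCoatom M) {A : Set G}
    (hA : ∀ a ∈ A, a ∈ sigmaHat M ∧ a ≠ 1 ∧ (a ∈ sigmaCore M ∨ kappa M = ∅))
    (hinv : ∀ m ∈ M, ∀ a ∈ A, m * a * m⁻¹ ∈ A) : DadeHypothesis A M (supportR M) := by
  have hR : ∀ a ∈ A,
      (Subgroup.centralizer ({a} : Set G) ≤ M ∧ supportR M a = ⊥) ∨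
      (IsComplIn (supportR M a) (M ⊓ Subgroup.centralizer ({a} : Set G))
          (Subgroup.centralizer ({a} : Set G)) ∧
        Subgroup.centralizer ({a} : Set G) ≤ Subgroup.normalizer (supportR M a : Set G) ∧
        ∀ b ∈ A, (Nat.card (supportR M a)).Coprime
          (Nat.card ↥(M ⊓ Subgroup.centralizer ({b} : Set G)))) := by
    intro a ha
    by_cases hc : Subgroup.centralizer ({a} : Set G) ≤ M
    · exact Or.inl ⟨hc, by unfold supportR; rw [dif_neg fun h => h.1 hc]⟩
    refine Or.inr ?_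
    obtain ⟨haH, ha1, h⟩ := hA a ha
    have haσ : a ∈ sigmaCore M := by
      by_contra hn
      exact hc (centralizer_le hG hM (h.resolve_left hn) haH hn)
    obtain ⟨N, ⟨hN, haN⟩, huniq, hNF, hNn, hNC, hMN, hdec⟩ := S1375.result hG M hM a haσ ha1 hc
    have hh : ¬ Subgroup.centralizer ({a} : Set G) ≤ M ∧
        ∃! L : Subgroup G, IsCoatom L ∧ Subgroup.centralizer ({a} : Set G) ≤ L :=
      ⟨hc, N, ⟨hN, haN⟩, fun L hL => huniq L hL.1 hL.2⟩
    obtain ⟨hL1, hL2⟩ := Classical.choose_spec hh.2.exists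
    have hch : Classical.choose hh.2.exists = N := huniq _ hL1 hL2
    rw [show supportR M a = fittingHallOf (Classical.choose hh.2.exists) ⊓
      Subgroup.centralizer ({a} : Set G) from dif_pos hh, hch, ← hNF]
    refine ⟨isComplIn_swap hNC, hNn, fun b hb => ?_⟩
    refine (?_ : (Nat.card (sigmaCore N)).Coprime _).coprime_dvd_left (Subgroup.card_dvd_of_le inf_le_left)
    refine coprime_of_primes fun q hq hqN hqb => ?_
    have hqσN := mem_sigma_of_dvd hG hN hq hqN
    obtain ⟨hκ, hτ⟩ := (S1436.result hG M hM a haσ ha1 hc N hN haN).1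
      ⟨q, hqσN, hqb.trans (Subgroup.card_dvd_of_le inf_le_left)⟩
    obtain ⟨⟨hbM, w, hw, hw1, hbw⟩, hb1, -⟩ := hA b hb
    have hbσ : b ∈ sigmaCore M := no_fixed hG hM hκ hτ hbM hw hw1 hbw
    haveI := Fact.mk hq
    obtain ⟨⟨c, hc'⟩, hcord⟩ := exists_prime_orderOf_dvd_card' q hqb
    rw [Subgroup.orderOf_mk] at hcord
    have hcσ := no_fixed hG hM hκ hτ hc'.1 hbσ hb1 (Subgroup.mem_centralizer_singleton_iff.mp hc'.2)
    have hqσM : q ∈ sigma M :=
      mem_sigma_of_dvd hG hM hq (hcord ▸ Subgroup.orderOf_dvd_natCard _ hcσ)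
    have hnil : Group.IsNilpotent (sigmaCore N) := by
      rw [hNF]
      exact (ComponentsCores.isNilpotent_map_subtype_iff _).mpr FittingHallBasic.fittingHall_isNilpotent
    obtain ⟨g, hg⟩ := BGSigma.conj_of_sigma_inter_of_nilpotent hG hN hnil hM hqσN hqσM
    obtain ⟨K', U', hd⟩ := exists_decomp hG hN
    refine (hdec K' U' hd).2.2 (sigma_element_mem hG hN
      (haN (Subgroup.mem_centralizer_singleton_iff.mpr rfl)) fun r hr hd' => ?_)
    have hrM : r ∈ sigma M :=
      mem_sigma_of_dvd hG hM hr (hd'.trans (Subgroup.orderOf_dvd_natCard _ haσ))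
    have hNM : N = MulAut.conj g⁻¹ • M := by
      rw [hg, BGSigma.conj_smul_eq_map, map_inv, inv_smul_smul]
    rw [hNM]
    exact BGExc.sigma_conj g⁻¹ hrM
  refine
    { one_not_mem := fun h => (hA 1 h).2.1 rfl
      subset := fun a ha => (hA a ha).1.1
      conj_mem := hinv
      fusion := ?_
      le_centralizer := ?_
      conj_mem_H := ?_
      inf_eq_bot := ?_
      sup_eq := ?_
      coprime := ?_ }
  · intro x hx g hgx
    obtain ⟨hxH, hx1, hxc⟩ := hA x hx
    obtain ⟨hyH, hy1, -⟩ := hA _ hgx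
    by_cases hxσ : x ∈ sigmaCore M
    · have hyσ : g * x * g⁻¹ ∈ sigmaCore M := sigma_element_mem hG hM hyH.1 fun q hq hd =>
        mem_sigma_of_dvd hG hM hq
          ((orderOf_conj' g x ▸ hd).trans (Subgroup.orderOf_dvd_natCard _ hxσ))
      obtain ⟨n, hn, hne⟩ := (S1438.result hG M hM (sigmaCore M) le_rfl
        (BGSigma.sigmaCore_ne_bot hG hM) (by rw [Subgroup.relIndex_self]; exact Nat.coprime_one_right _)).2
        x hxσ g hyσ
      exact ⟨n, hn.1, hne⟩
    · have hyσ : g * x * g⁻¹ ∉ sigmaCore M := fun h => hxσ <| sigma_element_mem hG hM hxH.1 fun q hq hd =>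
        mem_sigma_of_dvd hG hM hq
          (((orderOf_conj' g x).symm ▸ hd).trans (Subgroup.orderOf_dvd_natCard _ h))
      exact ⟨g, fusion_of_kappa hG hM (hxc.resolve_left hxσ) hxH hxσ hyH hyσ, rfl⟩
  · intro a ha
    rcases hR a ha with ⟨-, h⟩ | ⟨h, -⟩
    · rw [h]; exact bot_le
    · exact h.1
  · intro a ha c hc u hu
    rcases hR a ha with ⟨-, h⟩ | ⟨-, h, -⟩
    · rw [h, Subgroup.mem_bot] at hu ⊢
      simp [hu]
    · exact (Subgroup.mem_normalizer_iff.1 (h hc) u).1 hu
  · intro a ha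
    rcases hR a ha with ⟨-, h⟩ | ⟨h, -⟩
    · rw [h, bot_inf_eq]
    · exact h.2.2.1
  · intro a ha
    rcases hR a ha with ⟨hc, h⟩ | ⟨h, -⟩
    · rw [h, bot_sup_eq, inf_eq_right.2 hc]
    · exact sup_eq_of_isComplIn h
  · intro a ha b hb
    rcases hR a ha with ⟨-, h⟩ | ⟨-, -, h⟩
    · rw [h, Subgroup.card_bot]; exact Nat.coprime_one_left _
    · exact h b hb

/-- The Dade hypothesis for the non-identity elements of the sigma core. -/
theorem dade_core (hG : IsMinSimpleOddOrder G) {M : Subgroup G} (hM : IsCoatom M) :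
    DadeHypothesis ((sigmaCore M : Set G) \ {1}) M (supportR M) := by
  refine dade_of hG hM (fun a ha => ⟨mem_sigmaHat_of_mem ha.1 ha.2, ha.2, Or.inl ha.1⟩) fun m hm a ha => ?_
  exact ⟨conj_mem_sigmaCore hm ha.1, fun h => ha.2 (by
    have : m * a * m⁻¹ = 1 := h
    simpa using this)⟩

/-- The Dade hypothesis for the elements with a fixed point, when the kappa set is empty. -/
theorem dade_hat (hG : IsMinSimpleOddOrder G) {M : Subgroup G} (hM : IsCoatom M) (hκ : kappa M = ∅) :
    DadeHypothesis (sigmaHat M \ {1}) M (supportR M) := by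
  refine dade_of hG hM (fun a ha => ⟨ha.1, ha.2, Or.inr hκ⟩) fun m hm a ha => ?_
  exact ⟨conj_mem_sigmaHat hm ha.1, fun h => ha.2 (by
    have : m * a * m⁻¹ = 1 := h
    simpa using this)⟩

/-- Off the sigma core the supporting subgroup is trivial. -/
theorem supportR_eq_bot (hG : IsMinSimpleOddOrder G) {M : Subgroup G} (hM : IsCoatom M) (hκ : kappa M = ∅)
    {a : G} (ha : a ∈ sigmaHat M) (haσ : a ∉ sigmaCore M) : supportR M a = ⊥ := by
  unfold supportR
  rw [dif_neg fun h => h.1 (centralizer_le hG hM hκ ha haσ)]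

end Cfsg.Agent.PF12Sets
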