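import Mathlib
import Cfsg.Prelude.Def_OddOrderLocal
import Cfsg.Agent.Lib.BGTypeBasic
import Cfsg.Agent.Lib.BGTypeConj
import Cfsg.Agent.Lib.BGFinalBasic72

/-!
Peterfalvi, section 8: elementary properties of the sets `A₁(M)`, `A(M)`, `A₀(M)` of a maximal subgroup.
-/

set_option autoImplicit false

namespace Cfsg.Agent.PF8Sets

open Cfsg
open scoped Pointwise

universe u

variable {G : Type u} [Group G] [Finite G] {M : Subgroup G}

omit [Finite G] in
theorem map_conj_of_mem {m : G} (hm : m ∈ M) : M.map (MulAut.conj m).toMonoidHom = M :=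
  BGTypeBasic.conj_smul_le_self hm

omit [Finite G] in
theorem map_conj_conj (g : G) (M : Subgroup G) :
    (M.map (MulAut.conj g).toMonoidHom).map (MulAut.conj g⁻¹).toMonoidHom = M := by
  ext x
  rw [Subgroup.mem_map_equiv, Subgroup.mem_map_equiv]
  simp [mul_assoc]

omit [Finite G] in
theorem isCoatom_map_conj (hM : IsCoatom M) (g : G) :
    IsCoatom (M.map (MulAut.conj g).toMonoidHom) :=
  (MulEquiv.mapSubgroup (MulAut.conj g)).isCoatom_iff _ |>.2 hM

omit [Finite G] in
theorem typeCore_le (M : Subgroup G) : typeCore M ≤ M := by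
  unfold typeCore
  split
  · exact Subgroup.commutator_le_self M
  · exact FittingHallBasic.fittingHallOf_le M

omit [Finite G] in
theorem le_normalizer_typeCore (M : Subgroup G) :
    M ≤ Subgroup.normalizer (typeCore M : Set G) := by
  unfold typeCore
  split
  · exact BGTypeBasic.le_normalizer_derived M
  · exact FittingHallBasic.le_normalizer_fittingHallOf M

theorem typeCore_eq_of_typeI (h : IsOfTypeI M) : typeCore M = fittingHallOf M :=
  BGTypeBasic.typeCore_of_not fun h' => by
    rcases h' with h' | h'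
    · exact BGTypeBasic.not_typeI_of_isOfTypeP (BGTypeBasic.isOfTypeP_of_typeIII h') h
    · exact BGTypeBasic.not_typeI_of_isOfTypeP (BGTypeBasic.isOfTypeP_of_typeIV h') h

theorem typeCore_eq_of_typeII (h : IsOfTypeII M) : typeCore M = fittingHallOf M :=
  BGTypeBasic.typeCore_of_not (BGTypeBasic.not_typeIII_or_IV_of_typeII h)

theorem typeCore_eq_of_typeI_or_II (h : IsOfTypeI M ∨ IsOfTypeII M) : typeCore M = fittingHallOf M :=
  h.elim typeCore_eq_of_typeI typeCore_eq_of_typeII

theorem typeCore_eq_derived (h : (IsOfTypeIII M ∨ IsOfTypeIV M) ∨ IsOfTypeV M) :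
    typeCore M = ⁅M, M⁆ := by
  rcases h with h | h
  · exact BGTypeBasic.typeCore_of_typeIII_or_IV h
  · rw [BGTypeBasic.typeCore_of_not (BGTypeBasic.not_typeIII_or_IV_of_typeV h),
      BGTypeBasic.derived_eq_of_typeV h]

omit [Finite G] in
/-- Types are preserved by conjugation: classification of all maximal subgroups. -/
theorem type_cases_of (hG : ∀ (M : Subgroup G), IsCoatom M → IsOfTypeI M ∨
      ∃ S : Subgroup G, (IsOfTypeII S ∨ IsOfTypeIII S ∨ IsOfTypeIV S ∨ IsOfTypeV S) ∧
        ∃ g : G, M = S.map (MulAut.conj g).toMonoidHom)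
    (hM : IsCoatom M) :
    IsOfTypeI M ∨ IsOfTypeII M ∨ (IsOfTypeIII M ∨ IsOfTypeIV M) ∨ IsOfTypeV M := by
  rcases hG M hM with h | ⟨S, hS, g, rfl⟩
  · exact Or.inl h
  rcases hS with h | h | h | h
  · exact Or.inr (Or.inl (BGTypeConj.isOfTypeII_map _ h))
  · exact Or.inr (Or.inr (Or.inl (Or.inl (BGTypeConj.isOfTypeIII_map _ h))))
  · exact Or.inr (Or.inr (Or.inl (Or.inr (BGTypeConj.isOfTypeIV_map _ h))))
  · exact Or.inr (Or.inr (Or.inr (BGTypeConj.isOfTypeV_map _ h)))

omit [Finite G] in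
theorem fittingHallOf_ne_bot
    (h : IsOfTypeI M ∨ IsOfTypeII M ∨ (IsOfTypeIII M ∨ IsOfTypeIV M) ∨ IsOfTypeV M) :
    fittingHallOf M ≠ ⊥ := by
  rcases h with h | h
  · intro he
    exact h.1.2.2.1 ((Subgroup.map_eq_bot_iff_of_injective _ M.subtype_injective).1 he)
  · have hP : IsOfTypeP M := by
      rcases h with h | (h | h) | h
      · exact BGTypeBasic.isOfTypeP_of_typeII h
      · exact BGTypeBasic.isOfTypeP_of_typeIII h
      · exact BGTypeBasic.isOfTypeP_of_typeIV h
      · exact BGTypeBasic.isOfTypeP_of_typeV h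
    obtain ⟨W₁, U, W₂, hd⟩ := hP
    intro he
    exact hd.H_not_cyclic (by rw [he]; infer_instance)

omit [Finite G] in
theorem mem_typeA1_iff {a : G} : a ∈ typeA1 M ↔ a ∈ typeCore M ∧ a ≠ 1 := Iff.rfl

omit [Finite G] in
theorem typeA_subset_self {a : G} (ha : a ∈ typeA M) : a ∈ M ∧ a ≠ 1 := by
  unfold typeA at ha
  split at ha
  · exact ⟨ha.1, ha.2.1⟩
  · exact ⟨Subgroup.commutator_le_self M ha.1, ha.2.1⟩

omit [Finite G] in
theorem typeA0_subset_self {a : G} (ha : a ∈ typeA0 M) : a ∈ M ∧ a ≠ 1 := by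
  rcases ha with ha | ⟨-, W₁, U, W₂, hd, m, hm, w, hw, hw1, -, rfl⟩
  · exact typeA_subset_self ha
  · have hwM : w ∈ M := (sup_le hd.W₁_compl.2.1
      ((hd.W₂_le.trans inf_le_left).trans (FittingHallBasic.fittingHallOf_le M))) hw
    refine ⟨M.mul_mem (M.mul_mem hm hwM) (M.inv_mem hm), fun he => hw1 ?_⟩
    rw [mul_inv_eq_one, mul_eq_left] at he
    exact he ▸ W₁.one_mem

omit [Finite G] in
theorem conj_mem_typeA1 {m : G} (hm : m ∈ M) {a : G} (ha : a ∈ typeA1 M) :
    m * a * m⁻¹ ∈ typeA1 M :=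
  ⟨(Subgroup.mem_normalizer_iff.1 (le_normalizer_typeCore M hm) a).1 ha.1, fun he => ha.2 (by
    simpa [mul_inv_eq_one] using he)⟩

omit [Finite G] in
theorem conj_mem_typeA {m : G} (hm : m ∈ M) {a : G} (ha : a ∈ typeA M) :
    m * a * m⁻¹ ∈ typeA M := by
  have h := (BGTypeConj.mem_typeA_map_iff (MulAut.conj m) M a).2 ha
  rwa [map_conj_of_mem hm] at h

omit [Finite G] in
theorem conj_mem_typeA0 {m : G} (hm : m ∈ M) {a : G} (ha : a ∈ typeA0 M) :
    m * a * m⁻¹ ∈ typeA0 M := by
  rcases ha with ha | ⟨hI, W₁, U, W₂, hd, m', hm', w, hw, hw1, hw2, rfl⟩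
  · exact Or.inl (conj_mem_typeA hm ha)
  · exact Or.inr ⟨hI, W₁, U, W₂, hd, m * m', M.mul_mem hm hm', w, hw, hw1, hw2, by
      simp [mul_assoc]⟩

section simple

variable (hG : Cfsg.IsMinSimpleOddOrder G)
include hG

theorem typeCore_le_derived (hM : IsCoatom M) : typeCore M ≤ ⁅M, M⁆ := by
  unfold typeCore
  split
  · exact le_rfl
  · exact (BGFinal72.fittingHallOf_le_sigmaCore hG hM).trans
      (BGFinal72.sigmaCore_le_commutator hG hM)

theorem typeA1_subset_typeA (hM : IsCoatom M) : typeA1 M ⊆ typeA M := by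
  rintro a ⟨ha, ha1⟩
  unfold typeA
  split
  next h =>
    rw [SetLike.mem_coe, typeCore_eq_of_typeI h] at ha
    exact ⟨FittingHallBasic.fittingHallOf_le M ha, ha1, a, ha, ha1, rfl⟩
  next h =>
    exact ⟨typeCore_le_derived hG hM ha, ha1, a, ha, ha1, rfl⟩

/-- A nonempty subset of a maximal subgroup, invariant under it and without `1`, has it as normalizer. -/
theorem normalizer_eq (hM : IsCoatom M) {A : Set G} (hA : A.Nonempty)
    (hsub : ∀ a ∈ A, a ∈ M ∧ a ≠ 1) (hinv : ∀ m ∈ M, ∀ a ∈ A, m * a * m⁻¹ ∈ A) :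
    Subgroup.normalizer A = M := by
  have hle : M ≤ Subgroup.normalizer A := by
    intro m hm
    rw [Subgroup.mem_set_normalizer_iff]
    intro n
    refine ⟨hinv m hm n, fun h => ?_⟩
    have := hinv m⁻¹ (M.inv_mem hm) _ h
    simpa [mul_assoc] using this
  rcases hM.le_iff.1 hle with h | h
  · exfalso
    obtain ⟨a, ha⟩ := hA
    have hne : Subgroup.closure A ≠ ⊥ := fun hb =>
      (hsub a ha).2 (Subgroup.mem_bot.1 (hb ▸ Subgroup.subset_closure ha))
    have hlt : Subgroup.closure A ≠ ⊤ := fun ht =>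
      hM.1 (top_le_iff.1 (ht ▸ (Subgroup.closure_le M).2 fun x hx => (hsub x hx).1))
    refine BGTransitivity.normalizer_ne_top hG hne hlt (top_le_iff.1 ?_)
    rw [← h]
    exact Subgroup.normalizer_le_normalizer_closure A
  · exact h

end simple

/-- The primes of `M_s` lie in `σ(M)`, so `M_s ≤ M_σ`. -/
theorem typeCore_le_sigmaCore
    (hN : ∀ (p : ℕ), p.Prime → ∀ (P : Sylow p ↥(typeCore M)),
      (P : Subgroup ↥(typeCore M)) ≠ ⊥ →
      Subgroup.normalizer ((((P : Subgroup ↥(typeCore M)).map (typeCore M).subtype : Subgroup G)) : Set G) ≤ M)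
    (hH : (Nat.card (typeCore M)).Coprime (typeCore M).index) :
    (∀ p : ℕ, p.Prime → p ∣ Nat.card (typeCore M) → p ∈ sigma M) ∧ typeCore M ≤ sigmaCore M := by
  have key : ∀ p : ℕ, p.Prime → p ∣ Nat.card (typeCore M) → p ∈ sigma M := by
    intro p hp hd
    have := Fact.mk hp
    obtain ⟨P⟩ : Nonempty (Sylow p ↥(typeCore M)) := inferInstance
    set Q := (P : Subgroup ↥(typeCore M)).map (typeCore M).subtype with hQ
    have hQc : Nat.card Q = p ^ (Nat.card (typeCore M)).factorization p := by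
      rw [hQ, Subgroup.card_map_of_injective (typeCore M).subtype_injective]
      exact P.card_eq_multiplicity
    have hP1 : (P : Subgroup ↥(typeCore M)) ≠ ⊥ := P.ne_bot_of_dvd_card hd
    have hQM : Q ≤ M := (Subgroup.map_subtype_le _).trans (typeCore_le M)
    refine ⟨hp, hd.trans (Subgroup.card_dvd_of_le (typeCore_le M)), ?_⟩
    obtain ⟨T, hT⟩ := (P.isPGroup'.map (typeCore M).subtype |>.comap_of_injective M.subtype
      M.subtype_injective).exists_le_sylow
    refine ⟨T, le_trans (le_of_eq ?_) (hN p hp P hP1)⟩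
    suffices hPT : Q = (T : Subgroup M).map M.subtype by rw [← hQ, hPT]
    refine Subgroup.eq_of_le_of_card_ge ?_ ?_
    · rw [← Subgroup.map_subgroupOf_eq_of_le hQM]
      exact Subgroup.map_mono hT
    · rw [Subgroup.card_map_of_injective M.subtype_injective, hQc, T.card_eq_multiplicity]
      refine Nat.pow_le_pow_right hp.pos ?_
      have hG' : (Nat.card G).factorization p = (Nat.card (typeCore M)).factorization p := by
        rw [← (typeCore M).card_mul_index, Nat.factorization_mul Nat.card_pos.ne'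
          Subgroup.index_ne_zero_of_finite, Finsupp.add_apply,
          Nat.factorization_eq_zero_of_not_dvd (n := (typeCore M).index)
            (fun h2 => hp.not_dvd_one (hH.gcd_eq_one ▸ Nat.dvd_gcd hd h2)), add_zero]
      rw [← hG']
      exact (Nat.factorization_le_iff_dvd Nat.card_pos.ne' Nat.card_pos.ne').2
        M.card_subgroup_dvd_card p
  exact ⟨key, BGTransitivity.le_piCoreOf (typeCore_le M) (le_normalizer_typeCore M) key⟩

/-- `M_F ≤ M_s` for every maximal subgroup. -/
theorem fittingHallOf_le_typeCore (hG : Cfsg.IsMinSimpleOddOrder G) (hM : IsCoatom M) :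
    fittingHallOf M ≤ typeCore M := by
  unfold typeCore
  split
  · exact (BGFinal72.fittingHallOf_le_sigmaCore hG hM).trans
      (BGFinal72.sigmaCore_le_commutator hG hM)
  · exact le_rfl

theorem typeA1_nonempty (hG : Cfsg.IsMinSimpleOddOrder G) (hM : IsCoatom M)
    (h : fittingHallOf M ≠ ⊥) : (typeA1 M).Nonempty := by
  obtain ⟨x, hx, hx1⟩ := (fittingHallOf M).bot_or_exists_ne_one.resolve_left h
  exact ⟨x, fittingHallOf_le_typeCore hG hM hx, hx1⟩

end Cfsg.Agent.PF8Sets
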