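import Mathlib
import Cfsg.Agent.Lib.CoherenceBasic

/-!
Coherence criteria: extension by one conjugate pair, constant degree, Feit's criterion, unions.
-/

set_option autoImplicit false

open scoped ComplexConjugate

namespace Cfsg.Agent.CoherenceExtend

open Cfsg.Agent.CharBasic Cfsg.Agent.CharBasicOrth Cfsg.Agent.CharBasicDecomp Cfsg.Agent.CoherenceBasic

universe u v

variable {L : Type u} [Group L] [Fintype L] {G : Type v} [Group G] [Fintype G]

theorem eq_zero_of_self_re {a : G → ℂ} (h : (Cfsg.classInner a a).re ≤ 0) : a = 0 := by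
  apply eq_zero_of_classInner_self
  have h1 := le_antisymm h (classInner_self_nonneg a)
  rw [classInner_self_re] at h1
  have h2 : Cfsg.classInner a a = (((Nat.card G : ℝ)⁻¹ * ∑ g, ‖a g‖ ^ 2 : ℝ) : ℂ) := by
    simp [Cfsg.classInner, Complex.mul_conj']
  rw [h2, h1, Complex.ofReal_zero]

section Proj

/-- Projection on the span of an orthonormal finite set. -/
noncomputable def proj (R : Finset (G → ℂ)) (β : G → ℂ) : G → ℂ :=
  ∑ α ∈ R, Cfsg.classInner β α • α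

open Classical in
theorem proj_inner {R : Finset (G → ℂ)}
    (hR : ∀ α ∈ R, ∀ γ ∈ R, Cfsg.classInner α γ = if α = γ then 1 else 0) (β : G → ℂ) {γ : G → ℂ}
    (hγ : γ ∈ R) : Cfsg.classInner (proj R β) γ = Cfsg.classInner β γ := by
  rw [proj, classInner_sum_left, Finset.sum_eq_single γ]
  · rw [classInner_smul_left, hR γ hγ γ hγ, if_pos rfl, mul_one]
  · intro α hα hne
    rw [classInner_smul_left, hR α hα γ hγ, if_neg hne, mul_zero]
  · exact fun h => absurd hγ h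

theorem proj_orth {R : Finset (G → ℂ)} (β : G → ℂ) {z : G → ℂ}
    (hz : ∀ α ∈ R, Cfsg.classInner α z = 0) : Cfsg.classInner (proj R β) z = 0 := by
  rw [proj, classInner_sum_left]
  exact Finset.sum_eq_zero fun α hα => by rw [classInner_smul_left, hz α hα, mul_zero]

open Classical in
theorem proj_self {R : Finset (G → ℂ)}
    (hR : ∀ α ∈ R, ∀ γ ∈ R, Cfsg.classInner α γ = if α = γ then 1 else 0) (β : G → ℂ) :
    Cfsg.classInner (proj R β) (proj R β) = Cfsg.classInner β (proj R β) := by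
  conv_lhs => arg 2; rw [proj]
  conv_rhs => rw [proj]
  rw [classInner_sum_right, classInner_sum_right]
  exact Finset.sum_congr rfl fun γ hγ => by
    rw [classInner_smul_right, classInner_smul_right, proj_inner hR β hγ]

end Proj

theorem system_mem {S : Set (L → ℂ)} {τ : (L → ℂ) → (G → ℂ)} {R : (L → ℂ) → Finset (G → ℂ)}
    (hS : Cfsg.IsCoherenceSystem S τ R) {χ : L → ℂ} (hχ : χ ∈ S) :
    χ - Cfsg.conjFun χ ∈ Cfsg.zspanOn S {1}ᶜ :=
  mem_zspanOn_one (zspan_sub (subset_zspan hχ) (subset_zspan (hS.conj_mem χ hχ)))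
    (by simp [conjFun_apply_one (hS.isCharacter χ hχ)])

theorem system_norm {S : Set (L → ℂ)} {τ : (L → ℂ) → (G → ℂ)} {R : (L → ℂ) → Finset (G → ℂ)}
    (hS : Cfsg.IsCoherenceSystem S τ R) {χ : L → ℂ} (hχ : χ ∈ S) :
    ∃ n : ℕ, 0 < n ∧ Cfsg.classInner χ χ = n := by
  obtain ⟨n, hn⟩ := classInner_isCharacter (hS.isCharacter χ hχ) (hS.isCharacter χ hχ)
  refine ⟨n, Nat.pos_of_ne_zero fun h => hS.conj_ne χ hχ ?_, hn⟩
  rw [h, Nat.cast_zero] at hn
  rw [eq_zero_of_classInner_self hn]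
  funext x; simp [Cfsg.conjFun]

theorem system_finite {S : Set (L → ℂ)} {τ : (L → ℂ) → (G → ℂ)} {R : (L → ℂ) → Finset (G → ℂ)}
    (hS : Cfsg.IsCoherenceSystem S τ R) : S.Finite := by
  classical
  have hli : LinearIndependent ℂ (fun χ : S => (χ : L → ℂ)) := by
    rw [linearIndependent_iff']
    intro s c hc i hi
    have h := congrArg (fun f => Cfsg.classInner f (i : L → ℂ)) hc
    rw [classInner_sum_left, classInner_zero_left, Finset.sum_eq_single i] at h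
    · obtain ⟨n, hn0, hn⟩ := system_norm hS i.2
      rw [classInner_smul_left, hn] at h
      exact (mul_eq_zero.mp h).resolve_right (Nat.cast_ne_zero.mpr hn0.ne')
    · intro j _ hne
      rw [classInner_smul_left, hS.orthogonal j j.2 i i.2 (fun e => hne (Subtype.ext e)), mul_zero]
    · exact fun h => absurd hi h
  have := hli.finite
  exact Set.toFinite S

/-- A virtual character meeting `τ (χ - conj χ)` in `⟨χ, χ⟩` has projection on `R χ` of norm at least `⟨χ, χ⟩`. -/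
theorem proj_bound {S : Set (L → ℂ)} {τ : (L → ℂ) → (G → ℂ)} {R : (L → ℂ) → Finset (G → ℂ)}
    (hS : Cfsg.IsCoherenceSystem S τ R) {χ : L → ℂ} (hχ : χ ∈ S) {n : ℕ} {β : G → ℂ}
    (hβ : Cfsg.IsGeneralizedCharacter G β)
    (h : Cfsg.classInner β (τ (χ - Cfsg.conjFun χ)) = n) :
    ∃ q : ℤ, Cfsg.classInner (proj (R χ) β) (proj (R χ) β) = q ∧ (n : ℤ) ≤ q ∧
      Cfsg.classInner β (proj (R χ) β) = q ∧ Cfsg.classInner (proj (R χ) β) β = q ∧
      Cfsg.IsGeneralizedCharacter G (proj (R χ) β) := by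
  classical
  choose! a ha using fun α (hα : α ∈ R χ) =>
    classInner_isGeneralizedCharacter hβ (hS.virtual χ hχ α hα)
  have hp : Cfsg.classInner β (proj (R χ) β) = ((∑ α ∈ R χ, a α ^ 2 : ℤ) : ℂ) := by
    rw [proj, classInner_sum_right]
    push_cast
    exact Finset.sum_congr rfl fun α hα => by
      rw [classInner_smul_right, ha α hα, map_intCast, sq]
  refine ⟨∑ α ∈ R χ, a α ^ 2, (proj_self (hS.orthonormal χ hχ) β).trans hp, ?_, hp, ?_, ?_⟩
  · have hn : (n : ℤ) = ∑ α ∈ R χ, a α := by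
      rw [hS.sum_eq χ hχ, classInner_sum_right] at h
      have : ((n : ℤ) : ℂ) = ((∑ α ∈ R χ, a α : ℤ) : ℂ) := by
        push_cast; rw [← h]; exact Finset.sum_congr rfl ha
      exact_mod_cast this
    rw [hn]
    exact Finset.sum_le_sum fun α _ => Int.le_self_sq _
  · rw [← conj_classInner, hp, map_intCast]
  · exact isGeneralizedCharacter_sum _ _ fun α hα => by
      rw [ha α hα]; exact isGeneralizedCharacter_zsmul (hS.virtual χ hχ α hα) _

/-- The orthogonal remainder of `Y` against images `v φ` when the inner products follow the degree pattern. -/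
theorem degree_remainder {S₁ : Finset (L → ℂ)} (v : (L → ℂ) → (G → ℂ)) (d n : (L → ℂ) → ℕ)
    (hn0 : ∀ φ ∈ S₁, n φ ≠ 0)
    (hvn : ∀ φ ∈ S₁, Cfsg.classInner (v φ) (v φ) = n φ)
    (hvo : ∀ φ ∈ S₁, ∀ ψ ∈ S₁, φ ≠ ψ → Cfsg.classInner (v φ) (v ψ) = 0)
    {χ₁ : L → ℂ} (h1 : χ₁ ∈ S₁) (hd1 : d χ₁ ≠ 0) (Y : G → ℂ) (b : (L → ℂ) → ℤ) (a x : ℤ)
    (hb : ∀ φ ∈ S₁, Cfsg.classInner Y (v φ) = b φ)
    (hrel₁ : b χ₁ = a * n χ₁ - x)
    (hrel : ∀ φ ∈ S₁, φ ≠ χ₁ → (d χ₁ : ℤ) * b φ = -x * d φ) :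
    ∃ W : G → ℂ, W = Y - ∑ φ ∈ S₁, (((b φ : ℝ) / (n φ : ℝ) : ℝ) : ℂ) • v φ ∧
      (∀ φ ∈ S₁, Cfsg.classInner W (v φ) = 0) ∧
      (Cfsg.classInner W W).re = (Cfsg.classInner Y Y).re -
        ((a : ℝ) ^ 2 * n χ₁ - 2 * a * x + (x : ℝ) ^ 2 / (d χ₁ : ℝ) ^ 2 * ∑ φ ∈ S₁, (d φ : ℝ) ^ 2 / n φ) := by
  classical
  set c : (L → ℂ) → ℂ := fun φ => (((b φ : ℝ) / (n φ : ℝ) : ℝ) : ℂ) with hc
  set W : G → ℂ := Y - ∑ φ ∈ S₁, c φ • v φ with hW
  have hWv : ∀ φ ∈ S₁, Cfsg.classInner W (v φ) = 0 := by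
    intro φ hφ
    rw [hW, classInner_sub_left, classInner_sum_left, Finset.sum_eq_single φ, classInner_smul_left,
      hvn φ hφ, hb φ hφ]
    · simp only [hc]
      push_cast
      rw [div_mul_cancel₀ _ (Nat.cast_ne_zero.mpr (hn0 φ hφ)), sub_self]
    · intro ψ hψ hne
      rw [classInner_smul_left, hvo ψ hψ φ hφ hne, mul_zero]
    · exact fun h => absurd hφ h
  refine ⟨W, rfl, hWv, ?_⟩
  have hWW : Cfsg.classInner W W =
      Cfsg.classInner Y Y - ((∑ φ ∈ S₁, (b φ : ℝ) ^ 2 / n φ : ℝ) : ℂ) := by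
    conv_lhs => arg 2; rw [hW]
    rw [classInner_sub_right, classInner_sum_right,
      Finset.sum_eq_zero (fun φ hφ => by rw [classInner_smul_right, hWv φ hφ, mul_zero]), sub_zero,
      hW, classInner_sub_left, classInner_sum_left]
    congr 1
    push_cast
    refine Finset.sum_congr rfl fun φ hφ => ?_
    rw [classInner_smul_left, ← conj_classInner Y (v φ), hb φ hφ, map_intCast]
    simp only [hc]
    push_cast; ring
  rw [hWW, Complex.sub_re, Complex.ofReal_re]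
  congr 1
  rw [Finset.mul_sum, ← Finset.add_sum_erase _ _ h1, ← Finset.add_sum_erase _ _ h1,
    Finset.sum_congr rfl (fun φ hφ => show (b φ : ℝ) ^ 2 / n φ =
      (x : ℝ) ^ 2 / (d χ₁ : ℝ) ^ 2 * ((d φ : ℝ) ^ 2 / n φ) from ?_)]
  · have hN : (n χ₁ : ℝ) ≠ 0 := Nat.cast_ne_zero.mpr (hn0 χ₁ h1)
    have hD : (d χ₁ : ℝ) ≠ 0 := Nat.cast_ne_zero.mpr hd1
    rw [hrel₁]; push_cast; field_simp; ring
  · obtain ⟨hne, hmem⟩ := Finset.mem_erase.mp hφ
    have h : (d χ₁ : ℝ) * b φ = -x * d φ := by exact_mod_cast hrel φ hmem hne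
    have hD : (d χ₁ : ℝ) ≠ 0 := Nat.cast_ne_zero.mpr hd1
    have h' : (b φ : ℝ) = -x * d φ / d χ₁ := by rw [eq_div_iff hD]; linarith
    rw [h']; ring

theorem extension_criterion {S : Set (L → ℂ)} {τ : (L → ℂ) → (G → ℂ)} {R : (L → ℂ) → Finset (G → ℂ)}
    (hS : Cfsg.IsCoherenceSystem S τ R) (d n : (L → ℂ) → ℕ) (hd : ∀ φ ∈ S, φ 1 = (d φ : ℂ))
    (hn : ∀ φ ∈ S, Cfsg.classInner φ φ = (n φ : ℂ)) (S₁ : Finset (L → ℂ)) (hS₁ : ↑S₁ ⊆ S)
    (hS₁c : ∀ φ ∈ S₁, Cfsg.conjFun φ ∈ S₁) (hcoh : Cfsg.IsCoherent (↑S₁ : Set (L → ℂ)) {1}ᶜ τ)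
    (χ : L → ℂ) (hχ : χ ∈ S) (hχ₁ : χ ∉ S₁) (hχ₂ : Cfsg.conjFun χ ∉ S₁) (χ₁ : L → ℂ) (hχ₁S : χ₁ ∈ S₁)
    (hdvd : d χ₁ ∣ d χ) (hineq : (2 * d χ * d χ₁ : ℝ) < ∑ φ ∈ S₁, ((d φ : ℝ) ^ 2 / (n φ : ℝ))) :
    Cfsg.IsCoherent (↑S₁ ∪ {χ, Cfsg.conjFun χ} : Set (L → ℂ)) {1}ᶜ τ := by
  classical
  have hn0 : ∀ φ ∈ S, n φ ≠ 0 := fun φ hφ h => by
    obtain ⟨m, hm0, hm⟩ := system_norm hS hφ
    rw [hn φ hφ, h] at hm
    have : 0 = m := by exact_mod_cast hm
    omega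
  have hd0 : ∀ φ ∈ S, d φ ≠ 0 := fun φ hφ h => by
    have h0 := isCharacter_eq_zero_of_apply_one (hS.isCharacter φ hφ) (by rw [hd φ hφ, h, Nat.cast_zero])
    have h1 : (0 : ℂ) = (n φ : ℂ) := (by simp [h0] : (0 : ℂ) = Cfsg.classInner φ φ).trans (hn φ hφ)
    exact hn0 φ hφ (by exact_mod_cast h1.symm)
  obtain ⟨-, v, hv, hvτ⟩ := hcoh
  set χ' := Cfsg.conjFun χ with hχ'
  have hχ'S : χ' ∈ S := hS.conj_mem χ hχ
  have hne' : χ' ≠ χ := hS.conj_ne χ hχ
  set d₁ := d χ₁ with hd₁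
  obtain ⟨a, ha⟩ := hdvd
  have hχ₁mem : χ₁ ∈ S := hS₁ hχ₁S
  have hχφ : ∀ φ ∈ S₁, Cfsg.classInner χ φ = 0 := fun φ hφ =>
    hS.orthogonal χ hχ φ (hS₁ hφ) (fun h => hχ₁ (h ▸ hφ))
  have hχ'φ : ∀ φ ∈ S₁, Cfsg.classInner χ' φ = 0 := fun φ hφ =>
    hS.orthogonal χ' hχ'S φ (hS₁ hφ) (fun h => hχ₂ (h ▸ hφ))
  have hφχ : ∀ φ ∈ S₁, Cfsg.classInner φ χ = 0 := fun φ hφ => by
    rw [← conj_classInner, hχφ φ hφ, map_zero]
  have hφχ' : ∀ φ ∈ S₁, Cfsg.classInner φ χ' = 0 := fun φ hφ => by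
    rw [← conj_classInner, hχ'φ φ hφ, map_zero]
  have hvin : ∀ φ ∈ S₁, ∀ ψ ∈ S₁, Cfsg.classInner (v φ) (v ψ) = Cfsg.classInner φ ψ := fun φ hφ ψ hψ =>
    hv.2.2.1 φ (subset_zspan hφ) ψ (subset_zspan hψ)
  -- images of S₁ live in the span of R φ, hence are orthogonal to R χ
  have hvR : ∀ φ ∈ S₁, ∀ α ∈ R χ, Cfsg.classInner (v φ) α = 0 := by
    intro φ hφ α hα
    have hφS := hS₁ hφ
    have hcc : Cfsg.conjFun φ ∈ S₁ := hS₁c φ hφ
    have h1 : Cfsg.classInner (v φ) (τ (φ - Cfsg.conjFun φ)) = (n φ : ℂ) := by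
      rw [← hvτ _ (mem_zspanOn_one (zspan_sub (subset_zspan hφ) (subset_zspan hcc))
        (by simp [conjFun_apply_one (hS.isCharacter φ hφS)])),
        span_map_sub hv (subset_zspan hφ) (subset_zspan hcc), classInner_sub_right, hvin φ hφ φ hφ,
        hvin φ hφ _ hcc, hn φ hφS, hS.orthogonal φ hφS _ (hS₁ hcc) (Ne.symm (hS.conj_ne φ hφS)), sub_zero]
    obtain ⟨q, hq, hle, hq1, hq2, -⟩ := proj_bound hS hφS (hv.2.2.2 φ (subset_zspan hφ)) h1
    have hz : v φ - proj (R φ) (v φ) = 0 := by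
      apply eq_zero_of_self_re
      rw [classInner_sub_left, classInner_sub_right, classInner_sub_right, hq, hq1, hq2, hvin φ hφ φ hφ,
        hn φ hφS]
      have : (n φ : ℝ) ≤ q := by exact_mod_cast hle
      simp
      linarith
    rw [sub_eq_zero] at hz
    rw [hz]
    exact proj_orth _ fun γ hγ => hS.disjoint χ hχ φ hφS (hφχ φ hφ) (hφχ' φ hφ) γ hγ α hα
  set D := τ (χ - χ') with hD
  have hmχ := system_mem hS hχ
  have hvD : ∀ φ ∈ S₁, Cfsg.classInner (v φ) D = 0 := fun φ hφ => by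
    rw [hD, hS.sum_eq χ hχ, classInner_sum_right]
    exact Finset.sum_eq_zero (hvR φ hφ)
  have hDv : ∀ φ ∈ S₁, Cfsg.classInner D (v φ) = 0 := fun φ hφ => by
    rw [← conj_classInner, hvD φ hφ, map_zero]
  set e : L → ℂ := χ - (a : ℂ) • χ₁ with he
  have hme : e ∈ Cfsg.zspanOn S {1}ᶜ :=
    mem_zspanOn_one (zspan_sub (subset_zspan hχ) (zspan_natCast_smul a (subset_zspan hχ₁mem)))
      (by simp [he, hd χ hχ, hd χ₁ hχ₁mem, ha, hd₁, mul_comm])
  set β := τ e with hβ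
  have hβg : Cfsg.IsGeneralizedCharacter G β := hS.isometry.2.2.2 e hme
  have hββ : Cfsg.classInner β β = (n χ : ℂ) + (a : ℂ) ^ 2 * n χ₁ := by
    rw [hβ, hS.isometry.2.2.1 e hme e hme, he]
    simp only [classInner_sub_left, classInner_sub_right, classInner_smul_left, classInner_smul_right,
      hn χ hχ, hn χ₁ hχ₁mem, hχφ χ₁ hχ₁S, hφχ χ₁ hχ₁S, Complex.conj_natCast]
    ring
  have hχχ' : Cfsg.classInner χ χ' = 0 := hS.orthogonal χ hχ χ' hχ'S (Ne.symm hne')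
  have hχ'χ : Cfsg.classInner χ' χ = 0 := hS.orthogonal χ' hχ'S χ hχ hne'
  have hβD : Cfsg.classInner β D = n χ := by
    rw [hβ, hD, hS.isometry.2.2.1 e hme _ hmχ, he]
    simp only [← hχ', classInner_sub_left, classInner_sub_right, classInner_smul_left, hn χ hχ, hχχ',
      hφχ χ₁ hχ₁S, hφχ' χ₁ hχ₁S]
    ring
  obtain ⟨q, hq, hle, hq1, hq2, hug⟩ := proj_bound hS hχ hβg hβD
  set u := proj (R χ) β with hu
  have huv : ∀ φ ∈ S₁, Cfsg.classInner u (v φ) = 0 := fun φ hφ =>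
    proj_orth _ fun α hα => by rw [← conj_classInner, hvR φ hφ α hα, map_zero]
  set Y := u - β with hY
  choose! b hb using fun φ (hφ : φ ∈ S₁) => classInner_isGeneralizedCharacter
    (isGeneralizedCharacter_sub hug hβg) (hv.2.2.2 φ (subset_zspan hφ))
  have hβv : ∀ φ ∈ S₁, Cfsg.classInner β (v φ) = -(b φ : ℂ) := fun φ hφ => by
    rw [← hb φ hφ, classInner_sub_left, huv φ hφ, zero_sub, neg_neg]
  set x : ℤ := (a : ℤ) * n χ₁ - b χ₁ with hx
  have hrel : ∀ φ ∈ S₁, φ ≠ χ₁ → (d χ₁ : ℤ) * b φ = -x * d φ := by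
    intro φ hφ hne
    have m1 := zspan_natCast_smul (S := (↑S₁ : Set (L → ℂ))) (d χ₁) (subset_zspan hφ)
    have m2 := zspan_natCast_smul (S := (↑S₁ : Set (L → ℂ))) (d φ) (subset_zspan hχ₁S)
    have m : (d χ₁ : ℂ) • φ - (d φ : ℂ) • χ₁ ∈ Cfsg.zspanOn (↑S₁ : Set (L → ℂ)) {1}ᶜ :=
      mem_zspanOn_one (zspan_sub m1 m2) (by simp [hd φ (hS₁ hφ), hd χ₁ hχ₁mem, mul_comm])
    have h := hS.isometry.2.2.1 e hme _ (zspanOn_mono hS₁ m)
    rw [← hβ, ← hvτ _ m, span_map_sub hv m1 m2, span_map_natCast_smul hv _ (subset_zspan hφ),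
      span_map_natCast_smul hv _ (subset_zspan hχ₁S)] at h
    simp only [he, classInner_sub_left, classInner_sub_right, classInner_smul_left, classInner_smul_right,
      Complex.conj_natCast, hβv φ hφ, hβv χ₁ hχ₁S, hχφ φ hφ, hχφ χ₁ hχ₁S, hn χ₁ hχ₁mem,
      hS.orthogonal χ₁ hχ₁mem φ (hS₁ hφ) (Ne.symm hne)] at h
    have : (((d χ₁ : ℤ) * b φ : ℤ) : ℂ) = ((-x * d φ : ℤ) : ℂ) := by
      simp only [hx]; push_cast; linear_combination -h
    exact_mod_cast this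
  obtain ⟨W, hW, hWv, hWn⟩ := degree_remainder v d n (fun φ hφ => hn0 φ (hS₁ hφ))
    (fun φ hφ => (hvin φ hφ φ hφ).trans (hn φ (hS₁ hφ)))
    (fun φ hφ ψ hψ h => (hvin φ hφ ψ hψ).trans (hS.orthogonal φ (hS₁ hφ) ψ (hS₁ hψ) h))
    hχ₁S (hd0 χ₁ hχ₁mem) Y b a x hb (by rw [hx]; ring) hrel
  have hYY : (Cfsg.classInner Y Y).re = (n χ : ℝ) + (a : ℝ) ^ 2 * n χ₁ - q := by
    rw [hY, classInner_sub_left, classInner_sub_right, classInner_sub_right, hq, hq1, hq2, hββ]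
    simp [pow_two]
  have hqn : (n χ : ℝ) ≤ q := by exact_mod_cast hle
  have hWnn := classInner_self_nonneg W
  set s : ℝ := ∑ φ ∈ S₁, (d φ : ℝ) ^ 2 / n φ with hs
  rw [hWn, hYY] at hWnn
  push_cast at hWnn
  have hd₁R : (0 : ℝ) < d χ₁ := Nat.cast_pos.mpr (Nat.pos_of_ne_zero (hd0 χ₁ hχ₁mem))
  have hx0 : x = 0 := by
    by_contra hx0
    have hxx : (1 : ℝ) ≤ (x : ℝ) ^ 2 := by
      exact_mod_cast (Int.le_of_lt_add_one (by nlinarith [mul_self_pos.mpr hx0]) : (1 : ℤ) ≤ x ^ 2)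
    have hxle : (x : ℝ) ≤ (x : ℝ) ^ 2 := by exact_mod_cast Int.le_self_sq x
    have h3 : 2 * (a : ℝ) < s / (d χ₁ : ℝ) ^ 2 := by
      rw [lt_div_iff₀ (by positivity)]
      have : (d χ : ℝ) = d χ₁ * a := by exact_mod_cast ha
      rw [this] at hineq
      linarith [show 2 * ((d χ₁ : ℝ) * a) * d χ₁ = 2 * a * (d χ₁ : ℝ) ^ 2 by ring]
    have h4 : (x : ℝ) ^ 2 / (d χ₁ : ℝ) ^ 2 * s = (x : ℝ) ^ 2 * (s / (d χ₁ : ℝ) ^ 2) := by ring
    have ha0 : (0 : ℝ) ≤ a := Nat.cast_nonneg a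
    nlinarith [mul_lt_mul_of_pos_left h3 (lt_of_lt_of_le one_pos hxx), mul_le_mul_of_nonneg_left hxle ha0]
  have hW0 : W = 0 := by
    apply eq_zero_of_self_re
    rw [hWn, hYY, hx0]
    simp
    linarith
  have hb0 : ∀ φ ∈ S₁, φ ≠ χ₁ → b φ = 0 := by
    intro φ hφ hne
    have := hrel φ hφ hne
    rw [hx0, neg_zero, zero_mul] at this
    exact (mul_eq_zero.mp this).resolve_left (by exact_mod_cast hd0 χ₁ hχ₁mem)
  have hb1 : b χ₁ = (a : ℤ) * n χ₁ := by rw [hx0] at hx; linarith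
  have hYeq : Y = (a : ℂ) • v χ₁ := by
    have := hW.symm.trans hW0
    rw [sub_eq_zero, Finset.sum_eq_single χ₁] at this
    · rw [this, hb1]
      push_cast
      rw [mul_div_cancel_right₀ _ (Nat.cast_ne_zero.mpr (hn0 χ₁ hχ₁mem))]
    · intro φ hφ hne; rw [hb0 φ hφ hne]; simp
    · exact fun h => absurd hχ₁S h
  have hqn' : q = n χ := by
    have h1 : Cfsg.classInner Y Y = (a : ℂ) ^ 2 * n χ₁ := by
      rw [hYeq, classInner_smul_left, classInner_smul_right, hvin χ₁ hχ₁S χ₁ hχ₁S, hn χ₁ hχ₁mem,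
        Complex.conj_natCast]
      ring
    rw [hY, classInner_sub_left, classInner_sub_right, classInner_sub_right, hq, hq1, hq2, hββ] at h1
    have : ((q : ℤ) : ℂ) = ((n χ : ℤ) : ℂ) := by push_cast; linear_combination -h1
    exact_mod_cast this
  rw [hqn', Int.cast_natCast] at hq
  have huβ : β = u - (a : ℂ) • v χ₁ := by rw [← hYeq, hY]; abel
  have huD : Cfsg.classInner u D = n χ := by
    have := hβD
    rw [huβ, classInner_sub_left, classInner_smul_left, hvD χ₁ hχ₁S, mul_zero, sub_zero] at this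
    exact this
  have hDu : Cfsg.classInner D u = n χ := by rw [← conj_classInner, huD, Complex.conj_natCast]
  have hχ'χ' : Cfsg.classInner χ' χ' = n χ := by
    rw [hχ', classInner_conjFun, hn χ hχ, Complex.conj_natCast]
  have hDD : Cfsg.classInner D D = 2 * (n χ : ℂ) := by
    rw [hD, hS.isometry.2.2.1 _ hmχ _ hmχ, classInner_sub_left, classInner_sub_right, classInner_sub_right,
      hn χ hχ, hχ'χ', hχχ', hχ'χ]
    ring
  let f : (L → ℂ) → (G → ℂ) := fun φ => if φ = χ then u else if φ = χ' then u - D else v φ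
  have fχ : f χ = u := if_pos rfl
  have fχ' : f χ' = u - D := by simp [f, hne']
  have fv : ∀ φ ∈ S₁, f φ = v φ := fun φ hφ => by
    simp [f, show φ ≠ χ from fun h => hχ₁ (h ▸ hφ), show φ ≠ χ' from fun h => hχ₂ (h ▸ hφ)]
  have hsub : (↑S₁ ∪ {χ, χ'} : Set (L → ℂ)) ⊆ S := by
    rintro φ (hφ | rfl | rfl)
    · exact hS₁ hφ
    · exact hχ
    · exact hχ'S
  refine coherent_of_pairs ((S₁.finite_toSet).union ((Set.finite_singleton _).insert _))
    (fun φ hφ ψ hψ h => hS.orthogonal φ (hsub hφ) ψ (hsub hψ) h)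
    (fun φ hφ => by rw [hn φ (hsub hφ)]; exact Nat.cast_ne_zero.mpr (hn0 φ (hsub hφ)))
    ⟨fun φ hφ ψ hψ => hS.isometry.1 φ (zspanOn_mono hsub hφ) ψ (zspanOn_mono hsub hψ),
      fun φ hφ => hS.isometry.2.1 φ (zspanOn_mono hsub hφ),
      fun φ hφ ψ hψ => hS.isometry.2.2.1 φ (zspanOn_mono hsub hφ) ψ (zspanOn_mono hsub hψ),
      fun φ hφ => hS.isometry.2.2.2 φ (zspanOn_mono hsub hφ)⟩
    f ?_ ?_ d (fun φ hφ => hd φ (hsub hφ)) χ₁ (Or.inl hχ₁S) (hd0 χ₁ hχ₁mem)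
    ⟨χ, Or.inr (Set.mem_insert _ _), fun h => hχ₁ (h ▸ hχ₁S)⟩ ?_
  · rintro φ (hφ | rfl | rfl)
    · rw [fv φ hφ]; exact hv.2.2.2 φ (subset_zspan hφ)
    · rw [fχ]; exact hug
    · rw [fχ']; exact isGeneralizedCharacter_sub hug (hS.isometry.2.2.2 _ hmχ)
  · have hvu : ∀ φ ∈ S₁, Cfsg.classInner (v φ) u = 0 := fun φ hφ => by
      rw [← conj_classInner, huv φ hφ, map_zero]
    rintro φ (hφ | rfl | rfl) ψ (hψ | rfl | rfl)
    · rw [fv φ hφ, fv ψ hψ, hvin φ hφ ψ hψ]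
    · rw [fv φ hφ, fχ, hvu φ hφ, hφχ φ hφ]
    · rw [fv φ hφ, fχ', classInner_sub_right, hvu φ hφ, hvD φ hφ, sub_zero, hφχ' φ hφ]
    · rw [fv ψ hψ, fχ, huv ψ hψ, hχφ ψ hψ]
    · rw [fχ, hq, hn _ hχ]
    · rw [fχ, fχ', classInner_sub_right, hq, huD, sub_self, hχχ']
    · rw [fv ψ hψ, fχ', classInner_sub_left, huv ψ hψ, hDv ψ hψ, sub_zero, hχ'φ ψ hψ]
    · rw [fχ, fχ', classInner_sub_left, hq, hDu, sub_self, hχ'χ]
    · rw [fχ', classInner_sub_left, classInner_sub_right, classInner_sub_right, hq, huD, hDu, hDD, hχ'χ']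
      ring
  · have hdχ' : d χ' = d χ := by
      have h := conjFun_apply_one (hS.isCharacter χ hχ)
      rw [← hχ', hd χ' hχ'S, hd χ hχ] at h
      exact_mod_cast h
    have hdc : (d χ : ℂ) = (d χ₁ : ℂ) * a := by exact_mod_cast ha
    rintro φ (hφ | rfl | rfl)
    · have m1 := zspan_natCast_smul (S := (↑S₁ : Set (L → ℂ))) (d χ₁) (subset_zspan hφ)
      have m2 := zspan_natCast_smul (S := (↑S₁ : Set (L → ℂ))) (d φ) (subset_zspan hχ₁S)
      rw [← hvτ _ (mem_zspanOn_one (zspan_sub m1 m2) (by simp [hd φ (hS₁ hφ), hd χ₁ hχ₁mem, mul_comm])),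
        span_map_sub hv m1 m2, span_map_natCast_smul hv _ (subset_zspan hφ),
        span_map_natCast_smul hv _ (subset_zspan hχ₁S), fv φ hφ, fv χ₁ hχ₁S]
    · rw [fχ, fv χ₁ hχ₁S, show (d χ₁ : ℂ) • φ - (d φ : ℂ) • χ₁ = (d χ₁ : ℂ) • e by
        rw [he, hdc]; module, iso_map_natCast_smul hS.isometry _ hme, ← hβ, huβ, hdc]
      module
    · rw [fχ', fv χ₁ hχ₁S, hdχ',
        show (d χ₁ : ℂ) • χ' - (d χ : ℂ) • χ₁ = (d χ₁ : ℂ) • (e - (χ - χ')) by rw [he, hdc]; module,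
        iso_map_natCast_smul hS.isometry _ (zspanOn_sub hme hmχ), iso_map_sub hS.isometry hme hmχ,
        ← hβ, ← hD, huβ, hdc]
      module

theorem coherent_of_constant_degree {S : Set (L → ℂ)} {τ : (L → ℂ) → (G → ℂ)}
    {R : (L → ℂ) → Finset (G → ℂ)} (hS : Cfsg.IsCoherenceSystem S τ R)
    (hdeg : ∀ φ ∈ S, ∀ ψ ∈ S, φ 1 = ψ 1) : Cfsg.IsCoherent S {1}ᶜ τ := by
  classical
  obtain ⟨χ, hχ⟩ := hS.nonempty
  obtain ⟨n, hn0, hn⟩ := system_norm hS hχ
  set χ' := Cfsg.conjFun χ with hχ'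
  have hχ'S : χ' ∈ S := hS.conj_mem χ hχ
  have hm : ∀ φ ∈ S, χ - φ ∈ Cfsg.zspanOn S {1}ᶜ := fun φ hφ =>
    mem_zspanOn_one (zspan_sub (subset_zspan hχ) (subset_zspan hφ)) (by simp [hdeg χ hχ φ hφ])
  have hnn : Cfsg.classInner χ χ = n := hn
  set D := τ (χ - χ') with hD
  have hχ'χ' : Cfsg.classInner χ' χ' = n := by rw [hχ', classInner_conjFun, hn, Complex.conj_natCast]
  -- for φ outside {χ, conj χ}: τ (χ - φ) = u - w
  have hsplit : ∀ φ ∈ S, φ ≠ χ → φ ≠ χ' → ∃ u w : G → ℂ, τ (χ - φ) = u - w ∧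
      Cfsg.IsGeneralizedCharacter G u ∧ Cfsg.classInner u u = n ∧
      Cfsg.classInner u (τ (χ - φ)) = n ∧
      (∀ z : G → ℂ, (∀ α ∈ R χ, Cfsg.classInner α z = 0) → Cfsg.classInner u z = 0) ∧
      (∀ z : G → ℂ, (∀ α ∈ R φ, Cfsg.classInner α z = 0) → Cfsg.classInner w z = 0) := by
    intro φ hφ h1 h2
    obtain ⟨m, -, hm'⟩ := system_norm hS hφ
    have o1 : Cfsg.classInner φ χ = 0 := hS.orthogonal φ hφ χ hχ h1
    have o2 : Cfsg.classInner φ χ' = 0 := hS.orthogonal φ hφ χ' hχ'S h2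
    have o3 : Cfsg.classInner χ φ = 0 := hS.orthogonal χ hχ φ hφ (Ne.symm h1)
    have o4 : Cfsg.classInner χ (Cfsg.conjFun φ) = 0 := hS.orthogonal χ hχ _ (hS.conj_mem φ hφ)
      (fun e => h2 (by rw [hχ', e, conjFun_conjFun]))
    set β := τ (χ - φ) with hβ
    have hβg : Cfsg.IsGeneralizedCharacter G β := hS.isometry.2.2.2 _ (hm φ hφ)
    have hββ : Cfsg.classInner β β = (n : ℂ) + m := by
      rw [hβ, hS.isometry.2.2.1 _ (hm φ hφ) _ (hm φ hφ)]
      simp [classInner_sub_left, classInner_sub_right, hn, hm', o1, o3]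
    have hu : Cfsg.classInner β (τ (χ - Cfsg.conjFun χ)) = n := by
      rw [hβ, hS.isometry.2.2.1 _ (hm φ hφ) _ (system_mem hS hχ)]
      simp [classInner_sub_left, classInner_sub_right, hn, o1, ← hχ', o2,
        hS.orthogonal χ hχ χ' hχ'S (Ne.symm (hS.conj_ne χ hχ))]
    have hw : Cfsg.classInner (-β) (τ (φ - Cfsg.conjFun φ)) = m := by
      rw [classInner_neg_left, hβ, hS.isometry.2.2.1 _ (hm φ hφ) _ (system_mem hS hφ)]
      simp [classInner_sub_left, classInner_sub_right, hm', o3, o4,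
        hS.orthogonal φ hφ _ (hS.conj_mem φ hφ) (Ne.symm (hS.conj_ne φ hφ))]
    obtain ⟨qu, hqu, hule, hu1, hu2, hug⟩ := proj_bound hS hχ hβg hu
    obtain ⟨qw, hqw, hwle, hw1, hw2, hwg⟩ :=
      proj_bound hS hφ (isGeneralizedCharacter_neg hβg) hw
    set u := proj (R χ) β with hu'
    set w := proj (R φ) (-β) with hw'
    have huw : Cfsg.classInner u w = 0 := proj_orth _ fun α hα => by
      rw [← conj_classInner, proj_orth _ fun γ hγ => hS.disjoint χ hχ φ hφ o1 o2 γ hγ α hα, map_zero]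
    have hwu : Cfsg.classInner w u = 0 := by rw [← conj_classInner, huw, map_zero]
    rw [classInner_neg_left, neg_eq_iff_eq_neg] at hw1
    rw [classInner_neg_right, neg_eq_iff_eq_neg] at hw2
    have hz : Cfsg.classInner (β - u + w) (β - u + w) = (n : ℂ) + m - qu - qw := by
      simp only [classInner_add_left, classInner_add_right, classInner_sub_left, classInner_sub_right,
        hββ, hu1, hu2, hw1, hw2, hqu, hqw, huw, hwu]
      ring
    have h0 := classInner_self_nonneg (β - u + w)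
    rw [hz] at h0
    simp at h0
    have e1 : (n : ℝ) ≤ qu := by exact_mod_cast hule
    have e2 : (m : ℝ) ≤ qw := by exact_mod_cast hwle
    have hqu' : qu = n := by
      have : (qu : ℝ) = (n : ℝ) := by linarith
      exact_mod_cast this
    have hz0 : β - u + w = 0 := by
      apply eq_zero_of_self_re
      rw [hz]; simp; linarith
    refine ⟨u, w, ?_, hug, ?_, ?_, fun z hz => proj_orth _ hz, fun z hz => proj_orth _ hz⟩
    · rw [← sub_eq_zero, ← hz0]; abel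
    · rw [hqu, hqu', Int.cast_natCast]
    · rw [hu2, hqu', Int.cast_natCast]
  -- the common projection X
  obtain ⟨X, hXg, hXX, hXβ⟩ : ∃ X : G → ℂ, Cfsg.IsGeneralizedCharacter G X ∧
      Cfsg.classInner X X = n ∧ ∀ φ ∈ S, φ ≠ χ → Cfsg.classInner X (τ (χ - φ)) = n := by
    by_cases hbig : ∃ φ₀ ∈ S, φ₀ ≠ χ ∧ φ₀ ≠ χ'
    · obtain ⟨φ₀, hφ₀, h1, h2⟩ := hbig
      obtain ⟨u, w, huw, hug, huu, huβ, huz, hwz⟩ := hsplit φ₀ hφ₀ h1 h2
      refine ⟨u, hug, huu, fun φ hφ hne => ?_⟩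
      have o1 : Cfsg.classInner φ₀ χ = 0 := hS.orthogonal φ₀ hφ₀ χ hχ h1
      have o2 : Cfsg.classInner φ₀ χ' = 0 := hS.orthogonal φ₀ hφ₀ χ' hχ'S h2
      have hwD : Cfsg.classInner w D = 0 := hwz _ fun α hα => by
        rw [hD, hS.sum_eq χ hχ, classInner_sum_right]
        exact Finset.sum_eq_zero fun γ hγ => hS.disjoint χ hχ φ₀ hφ₀ o1 o2 α hα γ hγ
      by_cases hφ' : φ = χ'
      · subst hφ'
        rw [show u = τ (χ - φ₀) + w by rw [huw]; abel, classInner_add_left, hwD, add_zero,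
          hS.isometry.2.2.1 _ (hm φ₀ hφ₀) _ (hm χ' hχ'S)]
        simp [classInner_sub_left, classInner_sub_right, hn, o1, o2,
          hS.orthogonal χ hχ χ' hχ'S (Ne.symm (hS.conj_ne χ hχ))]
      by_cases hφ0 : φ = φ₀
      · subst hφ0; exact huβ
      by_cases hφ0' : φ = Cfsg.conjFun φ₀
      · subst hφ0'
        have e : χ - Cfsg.conjFun φ₀ = (χ - φ₀) + (φ₀ - Cfsg.conjFun φ₀) := by abel
        rw [e, hS.isometry.1 _ (hm φ₀ hφ₀) _ (system_mem hS hφ₀), classInner_add_right, huβ,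
          huz _ (fun α hα => by
            rw [hS.sum_eq φ₀ hφ₀, classInner_sum_right]
            exact Finset.sum_eq_zero fun γ hγ => by
              rw [← conj_classInner, hS.disjoint χ hχ φ₀ hφ₀ o1 o2 γ hγ α hα, map_zero]), add_zero]
      · obtain ⟨u', w', huw', -, -, -, huz', hwz'⟩ := hsplit φ hφ hne hφ'
        have p1 : Cfsg.classInner φ₀ φ = 0 := hS.orthogonal φ₀ hφ₀ φ hφ (Ne.symm hφ0)
        have p2 : Cfsg.classInner φ₀ (Cfsg.conjFun φ) = 0 :=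
          hS.orthogonal φ₀ hφ₀ _ (hS.conj_mem φ hφ) (fun e => hφ0' (by rw [e, conjFun_conjFun]))
        have hwβ : Cfsg.classInner w (τ (χ - φ)) = 0 := by
          rw [huw', classInner_sub_right, hwz u' (fun α hα => by
            rw [← conj_classInner, huz' α (fun γ hγ => by
              rw [← conj_classInner, hS.disjoint χ hχ φ₀ hφ₀ o1 o2 α hα γ hγ, map_zero]), map_zero]),
            hwz w' (fun α hα => by
            rw [← conj_classInner, hwz' α (fun γ hγ => by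
              rw [← conj_classInner, hS.disjoint φ hφ φ₀ hφ₀ p1 p2 α hα γ hγ, map_zero]), map_zero]),
            sub_zero]
        rw [show u = τ (χ - φ₀) + w by rw [huw]; abel, classInner_add_left, hwβ, add_zero,
          hS.isometry.2.2.1 _ (hm φ₀ hφ₀) _ (hm φ hφ)]
        simp [classInner_sub_left, classInner_sub_right, hn, o1, p1,
          hS.orthogonal χ hχ φ hφ (Ne.symm hne)]
    · push Not at hbig
      have hDD : Cfsg.classInner D D = ((2 * n : ℕ) : ℂ) := by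
        rw [hD, hS.isometry.2.2.1 _ (hm χ' hχ'S) _ (hm χ' hχ'S)]
        simp [classInner_sub_left, classInner_sub_right, hn, hχ'χ',
          hS.orthogonal χ hχ χ' hχ'S (Ne.symm (hS.conj_ne χ hχ)),
          hS.orthogonal χ' hχ'S χ hχ (hS.conj_ne χ hχ)]
        ring
      have hsumR : ∀ T ⊆ R χ, Cfsg.classInner (∑ α ∈ T, α) D = (T.card : ℂ) := by
        intro T hT
        rw [hD, hS.sum_eq χ hχ, classInner_sum_left, Finset.card_eq_sum_ones, Nat.cast_sum]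
        refine Finset.sum_congr rfl fun α hα => ?_
        rw [classInner_sum_right, Finset.sum_eq_single α, hS.orthonormal χ hχ α (hT hα) α (hT hα), if_pos rfl]
        · simp
        · intro γ hγ hne
          rw [hS.orthonormal χ hχ α (hT hα) γ hγ, if_neg (Ne.symm hne)]
        · exact fun h => absurd (hT hα) h
      have hcard : (R χ).card = 2 * n := by
        have := hsumR (R χ) (subset_refl _)
        rw [← hS.sum_eq χ hχ, ← hD, hDD] at this
        exact_mod_cast this.symm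
      obtain ⟨T, hT, hTc⟩ := Finset.exists_subset_card_eq (show n ≤ (R χ).card by omega)
      refine ⟨∑ α ∈ T, α, isGeneralizedCharacter_sum _ _ fun α hα => hS.virtual χ hχ α (hT hα), ?_, ?_⟩
      · rw [classInner_sum_left, ← hTc, Finset.card_eq_sum_ones, Nat.cast_sum]
        refine Finset.sum_congr rfl fun α hα => ?_
        rw [classInner_sum_right, Finset.sum_eq_single α, hS.orthonormal χ hχ α (hT hα) α (hT hα), if_pos rfl]
        · simp
        · intro γ hγ hne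
          rw [hS.orthonormal χ hχ α (hT hα) γ (hT hγ), if_neg (Ne.symm hne)]
        · exact fun h => absurd hα h
      · intro φ hφ hne
        rw [hbig φ hφ hne, ← hTc]
        exact hsumR T hT
  have hXall : ∀ φ ∈ S, Cfsg.classInner X (τ (χ - φ)) = Cfsg.classInner χ (χ - φ) := by
    intro φ hφ
    by_cases h : φ = χ
    · subst h; rw [sub_self, iso_map_zero hS.isometry]; simp
    · rw [hXβ φ hφ h, classInner_sub_right, hn, hS.orthogonal χ hχ φ hφ (Ne.symm h), sub_zero]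
  obtain ⟨k, hk⟩ := isCharacter_apply_one (hS.isCharacter χ hχ)
  have hk0 : k ≠ 0 := fun h => by
    rw [h, Nat.cast_zero] at hk
    rw [isCharacter_eq_zero_of_apply_one (hS.isCharacter χ hχ) hk, classInner_zero_left] at hn
    exact hn0.ne' (by exact_mod_cast hn.symm)
  refine coherent_of_pairs (system_finite hS) hS.orthogonal
    (fun φ hφ => by obtain ⟨m, hm0, hm⟩ := system_norm hS hφ; rw [hm]; exact Nat.cast_ne_zero.mpr hm0.ne')
    hS.isometry (fun φ => X - τ (χ - φ)) ?_ ?_ (fun _ => k) (fun φ hφ => (hdeg φ hφ χ hχ).trans hk) χ hχ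
    hk0 ⟨χ', hχ'S, hS.conj_ne χ hχ⟩ ?_
  · exact fun φ hφ => isGeneralizedCharacter_sub hXg (hS.isometry.2.2.2 _ (hm φ hφ))
  · intro φ hφ ψ hψ
    have h2 : Cfsg.classInner (τ (χ - φ)) X = Cfsg.classInner (χ - φ) χ := by
      rw [← conj_classInner, hXall φ hφ, conj_classInner]
    rw [classInner_sub_left, classInner_sub_right, classInner_sub_right, hXX, hXall ψ hψ, h2,
      hS.isometry.2.2.1 _ (hm φ hφ) _ (hm ψ hψ), ← hnn]
    simp only [classInner_sub_left, classInner_sub_right]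
    ring
  · intro φ hφ
    rw [sub_self χ, iso_map_zero hS.isometry, show (k : ℂ) • φ - (k : ℂ) • χ =
      (((-(k : ℤ)) : ℤ) : ℂ) • (χ - φ) by push_cast; module,
      iso_map_intCast_smul hS.isometry _ (hm φ hφ)]
    push_cast; module

/-- Feit's criterion: adjoining one irreducible character to a coherent set of irreducibles. -/
theorem feit_criterion {S₀ : Finset (L → ℂ)} {χ : L → ℂ} (hirr : ∀ ξ ∈ S₀, Cfsg.IsIrrCharacter L ξ)
    (hχ : Cfsg.IsIrrCharacter L χ) (hχS : χ ∉ S₀) (d : (L → ℂ) → ℕ)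
    (hd : ∀ ξ ∈ insert χ (↑S₀ : Set (L → ℂ)), ξ 1 = (d ξ : ℂ)) {τ : (L → ℂ) → (G → ℂ)}
    (hτ : Cfsg.IsLinearIsometryOn (Cfsg.zspanOn (insert χ (↑S₀ : Set (L → ℂ))) {1}ᶜ) τ)
    (hτ1 : ∀ α ∈ Cfsg.zspanOn (insert χ (↑S₀ : Set (L → ℂ))) {1}ᶜ, τ α 1 = 0)
    (hcoh : Cfsg.IsCoherent (↑S₀ : Set (L → ℂ)) {1}ᶜ τ) (ψ : L → ℂ) (hψ : ψ ∈ S₀) (hdvd : d ψ ∣ d χ)
    (hlt : 2 * d ψ * d χ < ∑ ξ ∈ S₀, d ξ ^ 2) :
    Cfsg.IsCoherent (insert χ (↑S₀ : Set (L → ℂ))) {1}ᶜ τ := by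
  classical
  obtain ⟨-, v, hv, hvτ⟩ := hcoh
  have hS : ∀ ξ ∈ insert χ (↑S₀ : Set (L → ℂ)), Cfsg.IsIrrCharacter L ξ := by
    rintro ξ (rfl | h)
    exacts [hχ, hirr ξ h]
  have hd0 : ∀ ξ ∈ insert χ (↑S₀ : Set (L → ℂ)), d ξ ≠ 0 := fun ξ hξ h => by
    have := isIrrCharacter_apply_one_ne_zero (hS ξ hξ)
    rw [hd ξ hξ, h, Nat.cast_zero] at this
    exact this rfl
  have hψI : ψ ∈ insert χ (↑S₀ : Set (L → ℂ)) := Set.mem_insert_of_mem _ hψ
  have hχI : χ ∈ insert χ (↑S₀ : Set (L → ℂ)) := Set.mem_insert _ _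
  have hne : ∀ φ ∈ S₀, χ ≠ φ := fun φ hφ h => hχS (h ▸ hφ)
  have hvin : ∀ φ ∈ S₀, ∀ η ∈ S₀, Cfsg.classInner (v φ) (v η) = Cfsg.classInner φ η := fun φ hφ η hη =>
    hv.2.2.1 φ (subset_zspan hφ) η (subset_zspan hη)
  obtain ⟨a, ha⟩ := hdvd
  set e : L → ℂ := χ - (a : ℂ) • ψ with he
  have hme : e ∈ Cfsg.zspanOn (insert χ (↑S₀ : Set (L → ℂ))) {1}ᶜ :=
    mem_zspanOn_one (zspan_sub (subset_zspan hχI) (zspan_natCast_smul a (subset_zspan hψI)))
      (by simp [he, hd χ hχI, hd ψ hψI, ha, mul_comm])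
  set Y := -(τ e) with hY
  have hYg : Cfsg.IsGeneralizedCharacter G Y := isGeneralizedCharacter_neg (hτ.2.2.2 e hme)
  have hYY : Cfsg.classInner Y Y = 1 + (a : ℂ) ^ 2 := by
    rw [hY, classInner_neg_left, classInner_neg_right, neg_neg, hτ.2.2.1 e hme e hme, he]
    simp only [classInner_sub_left, classInner_sub_right, classInner_smul_left, classInner_smul_right,
      classInner_irr_self hχ, classInner_irr_self (hirr ψ hψ), classInner_irr_ne hχ (hirr ψ hψ) (hne ψ hψ),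
      classInner_irr_ne (hirr ψ hψ) hχ (Ne.symm (hne ψ hψ)), Complex.conj_natCast]
    ring
  choose! b hb using fun φ (hφ : φ ∈ S₀) => classInner_isGeneralizedCharacter hYg
    (hv.2.2.2 φ (subset_zspan hφ))
  set x : ℤ := (a : ℤ) - b ψ with hx
  have hmem : ∀ φ ∈ S₀, (d ψ : ℂ) • φ - (d φ : ℂ) • ψ ∈ Cfsg.zspanOn (↑S₀ : Set (L → ℂ)) {1}ᶜ :=
    fun φ hφ => mem_zspanOn_one (zspan_sub (zspan_natCast_smul _ (subset_zspan hφ))
      (zspan_natCast_smul _ (subset_zspan hψ)))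
      (by simp [hd φ (Set.mem_insert_of_mem _ hφ), hd ψ hψI, mul_comm])
  have hτv : ∀ φ ∈ S₀, τ ((d ψ : ℂ) • φ - (d φ : ℂ) • ψ) = (d ψ : ℂ) • v φ - (d φ : ℂ) • v ψ := by
    intro φ hφ
    rw [← hvτ _ (hmem φ hφ), span_map_sub hv (zspan_natCast_smul _ (subset_zspan hφ))
      (zspan_natCast_smul _ (subset_zspan hψ)), span_map_natCast_smul hv _ (subset_zspan hφ),
      span_map_natCast_smul hv _ (subset_zspan hψ)]
  have hrel : ∀ φ ∈ S₀, φ ≠ ψ → (d ψ : ℤ) * b φ = -x * d φ := by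
    intro φ hφ hneφ
    have hβv : ∀ η ∈ S₀, Cfsg.classInner (τ e) (v η) = -(b η : ℂ) := fun η hη => by
      rw [← hb η hη, hY, classInner_neg_left, neg_neg]
    have h := hτ.2.2.1 e hme _ (zspanOn_mono (Set.subset_insert _ _) (hmem φ hφ))
    rw [hτv φ hφ] at h
    simp only [classInner_sub_right, classInner_smul_right, Complex.conj_natCast, hβv φ hφ, hβv ψ hψ] at h
    simp only [he, classInner_sub_left, classInner_smul_left, classInner_irr_ne hχ (hirr φ hφ) (hne φ hφ),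
      classInner_irr_ne hχ (hirr ψ hψ) (hne ψ hψ), classInner_irr_self (hirr ψ hψ),
      classInner_irr_ne (hirr ψ hψ) (hirr φ hφ) (Ne.symm hneφ)] at h
    have : (((d ψ : ℤ) * b φ : ℤ) : ℂ) = ((-x * d φ : ℤ) : ℂ) := by
      simp only [hx]; push_cast; linear_combination -h
    exact_mod_cast this
  obtain ⟨W, hW, hWv, hWn⟩ := degree_remainder v d (fun _ => 1) (fun _ _ => one_ne_zero)
    (fun φ hφ => by rw [hvin φ hφ φ hφ, classInner_irr_self (hirr φ hφ), Nat.cast_one])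
    (fun φ hφ η hη h => (hvin φ hφ η hη).trans (classInner_irr_ne (hirr φ hφ) (hirr η hη) h))
    hψ (hd0 ψ hψI) Y b a x hb (by rw [hx]; ring) hrel
  simp only [Nat.cast_one, div_one, mul_one] at hW hWn
  have hWg : Cfsg.IsGeneralizedCharacter G W := by
    rw [hW]
    exact isGeneralizedCharacter_sub hYg (isGeneralizedCharacter_sum _ _ fun φ hφ => by
      rw [Complex.ofReal_intCast]; exact isGeneralizedCharacter_zsmul (hv.2.2.2 φ (subset_zspan hφ)) _)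
  have hYre : (Cfsg.classInner Y Y).re = 1 + (a : ℝ) ^ 2 := by rw [hYY]; simp [pow_two]
  rw [hYre] at hWn
  push_cast at hWn
  set s : ℝ := ∑ φ ∈ S₀, (d φ : ℝ) ^ 2 with hs
  have hd1 : (0 : ℝ) < d ψ := Nat.cast_pos.mpr (Nat.pos_of_ne_zero (hd0 ψ hψI))
  have hs2 : 2 * (a : ℝ) < s / (d ψ : ℝ) ^ 2 := by
    rw [lt_div_iff₀ (by positivity)]
    have h1 : ((2 * d ψ * d χ : ℕ) : ℝ) < ((∑ ξ ∈ S₀, d ξ ^ 2 : ℕ) : ℝ) := Nat.cast_lt.mpr hlt
    have h2 : (d χ : ℝ) = d ψ * a := by exact_mod_cast ha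
    push_cast at h1
    rw [h2] at h1
    calc 2 * (a : ℝ) * (d ψ : ℝ) ^ 2 = 2 * (d ψ : ℝ) * (d ψ * a) := by ring
      _ < s := h1
  have ha1 : 1 ≤ a := Nat.one_le_iff_ne_zero.mpr fun h => hd0 χ hχI (by rw [ha, h, mul_zero])
  obtain ⟨w, hw⟩ := classInner_isGeneralizedCharacter hWg hWg
  have hwr : (Cfsg.classInner W W).re = (w : ℝ) := by rw [hw]; simp
  have hWn' : (w : ℝ) = 1 + 2 * a * x - (x : ℝ) ^ 2 * (s / (d ψ : ℝ) ^ 2) := by
    rw [← hwr, hWn]; ring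
  have hx0 : x = 0 := by
    by_contra hx0
    have hw0 : (0 : ℝ) ≤ w := hwr ▸ classInner_self_nonneg W
    have hx2 : (0 : ℝ) < (x : ℝ) ^ 2 := pow_two_pos_of_ne_zero (Int.cast_ne_zero.mpr hx0)
    by_cases hx1 : x = 1
    · subst x
      rw [hx1] at hWn' hrel
      push_cast at hWn'
      have hwlt : w < 1 := by
        have : (w : ℝ) < 1 := by linarith
        exact_mod_cast this
      have hwz : w = 0 := by
        have : (0 : ℤ) ≤ w := by exact_mod_cast hw0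
        omega
      have hW0 : W = 0 := eq_zero_of_classInner_self (by rw [hw, hwz, Int.cast_zero])
      have hval := congrArg (fun f : G → ℂ => f 1) (hW.symm.trans hW0)
      simp only [Pi.sub_apply, Finset.sum_apply, Pi.smul_apply, smul_eq_mul, Pi.zero_apply, hY,
        Pi.neg_apply, hτ1 e hme, neg_zero, zero_sub, neg_eq_zero] at hval
      have hv1 : ∀ φ ∈ S₀, (d ψ : ℂ) * v φ 1 = (d φ : ℂ) * v ψ 1 := fun φ hφ => by
        have := hτ1 _ (zspanOn_mono (Set.subset_insert _ _) (hmem φ hφ))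
        rw [hτv φ hφ] at this
        simpa [sub_eq_zero] using this
      have hbψ : b ψ = (a : ℤ) - 1 := by linarith
      have key : ((a : ℂ) * (d ψ : ℂ) ^ 2 - ∑ φ ∈ S₀, (d φ : ℂ) ^ 2) * v ψ 1 = 0 := by
        have hterm : ∀ φ ∈ S₀, (d ψ : ℂ) ^ 2 * ((((b φ : ℤ) : ℝ) : ℂ) * v φ 1) =
            ((if φ = ψ then (a : ℂ) * (d ψ : ℂ) ^ 2 else 0) - (d φ : ℂ) ^ 2) * v ψ 1 := by
          intro φ hφ
          by_cases h : φ = ψ
          · subst h
            rw [if_pos rfl, hbψ]; push_cast; ring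
          · have hr : (d ψ : ℂ) * (b φ : ℂ) = -(d φ : ℂ) := by
              have := hrel φ hφ h
              have h' : (d ψ : ℤ) * b φ = -(d φ : ℤ) := by rw [this]; ring
              exact_mod_cast h'
            rw [if_neg h, Complex.ofReal_intCast]
            linear_combination ((d ψ : ℂ) * v φ 1) * hr + (-(d φ : ℂ)) * hv1 φ hφ
        calc ((a : ℂ) * (d ψ : ℂ) ^ 2 - ∑ φ ∈ S₀, (d φ : ℂ) ^ 2) * v ψ 1
            = (d ψ : ℂ) ^ 2 * ∑ φ ∈ S₀, (((b φ : ℤ) : ℝ) : ℂ) * v φ 1 := by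
              rw [Finset.mul_sum, Finset.sum_congr rfl hterm, ← Finset.sum_mul, Finset.sum_sub_distrib,
                Finset.sum_ite_eq' S₀ ψ, if_pos hψ]
          _ = 0 := by rw [hval, mul_zero]
      have hvψ : v ψ 1 ≠ 0 := si_apply_one_ne_zero (si_of_norm_one (hv.2.2.2 ψ (subset_zspan hψ))
        ((hvin ψ hψ ψ hψ).trans (classInner_irr_self (hirr ψ hψ))))
      have hsa : (a : ℝ) * (d ψ : ℝ) ^ 2 - s = 0 := by
        have h := (mul_eq_zero.mp key).resolve_right hvψ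
        have : (((a : ℝ) * (d ψ : ℝ) ^ 2 - s : ℝ) : ℂ) = 0 := by rw [hs]; push_cast; exact h
        exact_mod_cast this
      rw [lt_div_iff₀ (by positivity)] at hs2
      have ha0 : (0 : ℝ) < a := by exact_mod_cast ha1
      nlinarith [mul_pos ha0 (pow_pos hd1 2)]
    · have : (2 : ℤ) ≤ x ^ 2 - x + 0 := by
        rcases lt_or_gt_of_ne hx0 with h | h
        · nlinarith
        · have : 2 ≤ x := by omega
          nlinarith
      have hx2' : (2 : ℝ) ≤ (x : ℝ) ^ 2 - x := by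
        have h := this; rw [add_zero] at h; exact_mod_cast h
      have ha1' : (1 : ℝ) ≤ a := by exact_mod_cast ha1
      nlinarith [mul_lt_mul_of_pos_left hs2 hx2, mul_le_mul ha1' hx2' (by norm_num) (by positivity)]
  have hb0 : ∀ φ ∈ S₀, φ ≠ ψ → b φ = 0 := by
    intro φ hφ hne'
    have := hrel φ hφ hne'
    rw [hx0, neg_zero, zero_mul] at this
    exact (mul_eq_zero.mp this).resolve_left (by exact_mod_cast hd0 ψ hψI)
  have hbψ : b ψ = (a : ℤ) := by rw [hx0] at hx; linarith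
  have hWeq : W = Y - (a : ℂ) • v ψ := by
    rw [hW, Finset.sum_eq_single ψ]
    · rw [hbψ]; simp
    · intro φ hφ hne'; rw [hb0 φ hφ hne']; simp
    · exact fun h => absurd hψ h
  have hW1 : Cfsg.classInner W W = 1 := by
    have h1 : (w : ℝ) = 1 := by rw [hWn', hx0]; simp
    have h2 : w = 1 := by exact_mod_cast h1
    rw [hw, h2, Int.cast_one]
  let f : (L → ℂ) → (G → ℂ) := fun φ => if φ = χ then -W else v φ
  have fχ : f χ = -W := if_pos rfl
  have fv : ∀ φ ∈ S₀, f φ = v φ := fun φ hφ => if_neg (Ne.symm (hne φ hφ))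
  refine coherent_of_pairs (S₀.finite_toSet.insert χ)
    (fun φ hφ η hη h => classInner_irr_ne (hS φ hφ) (hS η hη) h)
    (fun φ hφ => by rw [classInner_irr_self (hS φ hφ)]; exact one_ne_zero) hτ f ?_ ?_ d hd ψ hψI (hd0 ψ hψI)
    ⟨χ, hχI, fun h => hne ψ hψ h⟩ ?_
  · rintro φ (rfl | hφ)
    · rw [fχ]; exact isGeneralizedCharacter_neg hWg
    · rw [fv φ hφ]; exact hv.2.2.2 φ (subset_zspan hφ)
  · rintro φ (rfl | hφ) η (rfl | hη)
    · rw [fχ, classInner_neg_left, classInner_neg_right, neg_neg, hW1, classInner_irr_self hχ]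
    · rw [fχ, fv η hη, classInner_neg_left, hWv η hη, neg_zero, classInner_irr_ne hχ (hirr η hη) (hne η hη)]
    · rw [fχ, fv φ hφ, classInner_neg_right, ← conj_classInner, hWv φ hφ, map_zero, neg_zero,
        classInner_irr_ne (hirr φ hφ) hχ (Ne.symm (hne φ hφ))]
    · rw [fv φ hφ, fv η hη, hvin φ hφ η hη]
  · have hdc : (d χ : ℂ) = (d ψ : ℂ) * a := by exact_mod_cast ha
    rintro φ (rfl | hφ)
    · rw [fχ, fv ψ hψ, show (d ψ : ℂ) • φ - (d φ : ℂ) • ψ = (d ψ : ℂ) • e by rw [he, hdc]; module,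
        iso_map_natCast_smul hτ _ hme, show τ e = -Y by rw [hY, neg_neg], hWeq, hdc]
      module
    · rw [fv φ hφ, fv ψ hψ, hτv φ hφ]


end Cfsg.Agent.CoherenceExtend
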