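import Mathlib
import Cfsg.Prelude.Def_OddOrderChar
import Cfsg.Prelude.Def_Blocks
import Cfsg.Agent.Lib.CoherenceBasic
import Cfsg.Agent.Lib.CoherenceExtend
import Cfsg.Agent.Lib.CharInducedClifford
import Cfsg.Agent.Lib.CharInducedRep
import Cfsg.Agent.Lib.CharKernel
import Cfsg.Agent.Lib.CharAverage
import Cfsg.Agent.S1492

/-!
Sets of characters induced from a normal subgroup: degree sums, linear members, degree bounds,
and growing coherent subsets pair by pair.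
-/

set_option autoImplicit false
set_option linter.unusedSectionVars false
set_option linter.style.haveILetI false

open scoped ComplexConjugate

namespace Cfsg.Agent.PF6

open Cfsg.Agent.CharBasic Cfsg.Agent.CharBasicOrth Cfsg.Agent.CharBasicDecomp

universe u v

/-- The squared norm of a character, as a natural number. -/
noncomputable def nm {L : Type u} [Group L] [Fintype L] (φ : L → ℂ) : ℕ :=
  ⌊(Cfsg.classInner φ φ).re⌋₊

theorem nm_of_eq {L : Type u} [Group L] [Fintype L] {φ : L → ℂ} {n : ℕ}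
    (h : Cfsg.classInner φ φ = n) : nm φ = n := by simp [nm, h]

theorem deg_of_eq {L : Type u} [Group L] {φ : L → ℂ} {n : ℕ} (h : φ 1 = n) : Cfsg.charDegree φ = n := by
  simp [Cfsg.charDegree, h]

theorem deg_spec {L : Type u} [Group L] {φ : L → ℂ} (h : Cfsg.IsCharacter L φ) :
    φ 1 = (Cfsg.charDegree φ : ℂ) := by
  obtain ⟨n, hn⟩ := isCharacter_apply_one h
  rw [deg_of_eq hn, hn]

theorem deg_pos {L : Type u} [Group L] {φ : L → ℂ} (h : Cfsg.IsIrrCharacter L φ) :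
    0 < Cfsg.charDegree φ := by
  refine Nat.pos_of_ne_zero fun h0 => isIrrCharacter_apply_one_ne_zero h ?_
  rw [deg_spec (isCharacter_of_isIrrCharacter h), h0, Nat.cast_zero]

section Induced

variable {L : Type u} [Group L] [Fintype L] (K : Subgroup L) [K.Normal]

/-- The induced character. -/
noncomputable abbrev ind (θ : Cfsg.IrrCharacter K) : L → ℂ := Cfsg.indFun K (θ : K → ℂ)

theorem ind_isCharacter (θ : Cfsg.IrrCharacter K) : Cfsg.IsCharacter L (ind K θ) :=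
  CharInduced.isCharacter_ind K (isCharacter_of_isIrrCharacter θ.2)

theorem ind_apply_one (θ : Cfsg.IrrCharacter K) :
    ind K θ 1 = ((K.index * Cfsg.charDegree (θ : K → ℂ) : ℕ) : ℂ) := by
  rw [ind, CharInduced.ind_one_apply, deg_spec (isCharacter_of_isIrrCharacter θ.2)]
  push_cast
  rfl

theorem deg_ind (θ : Cfsg.IrrCharacter K) :
    Cfsg.charDegree (ind K θ) = K.index * Cfsg.charDegree (θ : K → ℂ) :=
  deg_of_eq (ind_apply_one K θ)

theorem deg_eq_of_ind_eq {θ θ' : Cfsg.IrrCharacter K} (h : ind K θ' = ind K θ) :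
    Cfsg.charDegree (θ' : K → ℂ) = Cfsg.charDegree (θ : K → ℂ) := by
  have h1 := deg_ind K θ'
  rw [h, deg_ind K θ] at h1
  exact Nat.eq_of_mul_eq_mul_left (Nat.pos_of_ne_zero Subgroup.index_ne_zero_of_finite) h1.symm

theorem ind_eq_iff {θ θ' : Cfsg.IrrCharacter K} :
    ind K θ' = ind K θ ↔ ∃ g : L, CharInduced.conjFun K (θ : K → ℂ) g = (θ' : K → ℂ) := by
  classical
  haveI := Fintype.ofFinite K
  rw [← CharInduced.mem_orbitFin K, ← CharInduced.ind_eq_iff_mem_orbit K θ.2 θ'.2]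

/-- The squared norm of an induced character times the size of its fibre is the index. -/
theorem nm_mul_card_fibre (θ : Cfsg.IrrCharacter K) :
    Cfsg.classInner (ind K θ) (ind K θ) = (nm (ind K θ) : ℂ) ∧ 0 < nm (ind K θ) ∧
      nm (ind K θ) * Nat.card {θ' : Cfsg.IrrCharacter K // ind K θ' = ind K θ} = K.index := by
  classical
  haveI := Fintype.ofFinite K
  obtain ⟨m, hm⟩ := classInner_isCharacter (ind_isCharacter K θ) (ind_isCharacter K θ)
  rw [nm_of_eq hm]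
  have hI : (m : ℂ) = (Nat.card (CharInduced.inertia K (θ : K → ℂ)) : ℂ) / Nat.card K :=
    hm.symm.trans (CharInduced.classInner_ind_self K θ.2)
  rw [eq_div_iff (Nat.cast_ne_zero.2 Nat.card_pos.ne'), ← Nat.cast_mul, Nat.cast_inj] at hI
  let e : {θ' : Cfsg.IrrCharacter K // ind K θ' = ind K θ} ≃
      ↥(CharInduced.orbitFin K (θ : K → ℂ)) :=
    { toFun := fun x => ⟨(x.1 : K → ℂ), (CharInduced.mem_orbitFin K).2 ((ind_eq_iff K).1 x.2)⟩
      invFun := fun φ => ⟨⟨φ.1, by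
        obtain ⟨g, hg⟩ := (CharInduced.mem_orbitFin K).1 φ.2
        rw [← hg]; exact CharInduced.isIrrCharacter_conjFun K θ.2 g⟩,
        (ind_eq_iff K).2 ((CharInduced.mem_orbitFin K).1 φ.2)⟩
      left_inv := fun x => rfl
      right_inv := fun φ => rfl }
  have hf : Nat.card {θ' : Cfsg.IrrCharacter K // ind K θ' = ind K θ} =
      (CharInduced.orbitFin K (θ : K → ℂ)).card := by
    rw [Nat.card_congr e, Nat.card_eq_fintype_card, Fintype.card_coe]
  refine ⟨hm, Nat.pos_of_ne_zero fun h0 => ?_, ?_⟩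
  · rw [h0, zero_mul] at hI; exact Nat.card_pos.ne' hI.symm
  · apply Nat.eq_of_mul_eq_mul_right (Nat.card_pos (α := K))
    rw [mul_right_comm, hI, hf, CharInduced.card_inertia_mul_card_orbit K, K.index_mul_card]

theorem sum_sq_div_nm (T : Finset (Cfsg.IrrCharacter K)) [DecidableEq (L → ℂ)]
    (hclosed : ∀ θ ∈ T, ∀ θ' : Cfsg.IrrCharacter K, ind K θ' = ind K θ → θ' ∈ T) :
    ∑ φ ∈ T.image (ind K), ((Cfsg.charDegree φ : ℝ) ^ 2 / (nm φ : ℝ)) =
      ((K.index * ∑ θ ∈ T, Cfsg.charDegree (θ : K → ℂ) ^ 2 : ℕ) : ℝ) := by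
  classical
  have hmaps : ∀ θ ∈ T, ind K θ ∈ T.image (ind K) := fun θ h => Finset.mem_image_of_mem _ h
  rw [← Finset.sum_fiberwise_of_maps_to hmaps, Finset.mul_sum]
  push_cast
  refine Finset.sum_congr rfl fun φ hφ => ?_
  obtain ⟨θ, hθ, rfl⟩ := Finset.mem_image.1 hφ
  obtain ⟨-, hpos, hmul⟩ := nm_mul_card_fibre K θ
  have hcard : (T.filter fun x => ind K x = ind K θ).card =
      Nat.card {θ' : Cfsg.IrrCharacter K // ind K θ' = ind K θ} := by
    rw [← Fintype.card_coe, ← Nat.card_eq_fintype_card]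
    exact Nat.card_congr (Equiv.subtypeEquivRight fun x => by
      simp only [Finset.mem_filter]
      exact ⟨fun h => h.2, fun h => ⟨hclosed θ hθ x h, h⟩⟩)
  rw [Finset.sum_congr rfl (fun x hx => by rw [deg_eq_of_ind_eq K (Finset.mem_filter.1 hx).2]),
    Finset.sum_const, nsmul_eq_mul, hcard, deg_ind]
  set f := Nat.card {θ' : Cfsg.IrrCharacter K // ind K θ' = ind K θ}
  have hR : (nm (ind K θ) : ℝ) * f = K.index := by exact_mod_cast hmul
  have hn : (nm (ind K θ) : ℝ) ≠ 0 := Nat.cast_ne_zero.2 hpos.ne'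
  push_cast
  rw [div_eq_iff hn]
  linear_combination (K.index : ℝ) * (Cfsg.charDegree (θ : K → ℂ) : ℝ) ^ 2 * (-hR)

open Classical in
/-- The non-principal irreducible characters of `K` trivial on `A`. -/
noncomputable def aboveFin (A : Subgroup L) : Finset (Cfsg.IrrCharacter K) :=
  haveI : Fintype (Cfsg.IrrCharacter K) :=
    @Fintype.ofFinite _ (finite_irrCharacter (G := K))
  Finset.univ.filter fun θ => (θ : K → ℂ) ≠ (fun _ => 1) ∧
    ∀ a : K, (a : L) ∈ A → (θ : K → ℂ) a = (θ : K → ℂ) 1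

variable {K}

theorem mem_aboveFin {A : Subgroup L} {θ : Cfsg.IrrCharacter K} :
    θ ∈ aboveFin K A ↔ (θ : K → ℂ) ≠ (fun _ => 1) ∧
      ∀ a : K, (a : L) ∈ A → (θ : K → ℂ) a = (θ : K → ℂ) 1 := by
  classical
  simp [aboveFin]

theorem mem_induced {A : Subgroup L} {φ : L → ℂ} :
    φ ∈ Cfsg.inducedIrrAbove K A ↔ ∃ θ ∈ aboveFin K A, ind K θ = φ := by
  constructor
  · rintro ⟨θ, hθ, h1, h2, rfl⟩
    exact ⟨⟨θ, hθ⟩, mem_aboveFin.2 ⟨h1, h2⟩, rfl⟩
  · rintro ⟨θ, hθ, rfl⟩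
    exact ⟨θ, θ.2, (mem_aboveFin.1 hθ).1, (mem_aboveFin.1 hθ).2, rfl⟩

theorem coe_image_aboveFin (A : Subgroup L) [DecidableEq (L → ℂ)] :
    (↑((aboveFin K A).image (ind K)) : Set (L → ℂ)) = Cfsg.inducedIrrAbove K A := by
  ext φ
  simp [mem_induced]

theorem above_closed {A : Subgroup L} [A.Normal] {θ θ' : Cfsg.IrrCharacter K}
    (hθ : θ ∈ aboveFin K A) (h : ind K θ' = ind K θ) : θ' ∈ aboveFin K A := by
  obtain ⟨h1, h2⟩ := mem_aboveFin.1 hθ
  obtain ⟨g, hg⟩ := (ind_eq_iff K).1 h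
  rw [mem_aboveFin, ← hg]
  refine ⟨fun e => h1 ?_, fun a ha => ?_⟩
  · have e' := congrArg (fun f => CharInduced.conjFun K f g⁻¹) e
    simp only [CharInduced.conjFun_conjFun, mul_inv_cancel, CharInduced.conjFun_one] at e'
    rw [e']
    funext x
    simp [CharInduced.conjFun]
  · have h11 : CharInduced.conjFun K (θ : K → ℂ) g 1 = (θ : K → ℂ) 1 := by
      simp only [CharInduced.conjFun]
      refine congrArg (θ : K → ℂ) ?_
      apply Subtype.ext
      simp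
    rw [h11]
    simp only [CharInduced.conjFun]
    apply h2
    exact ‹A.Normal›.conj_mem _ ha g

theorem above_mono {A B : Subgroup L} (h : B ≤ A) : aboveFin K A ⊆ aboveFin K B := fun _ hθ =>
  mem_aboveFin.2 ⟨(mem_aboveFin.1 hθ).1, fun a ha => (mem_aboveFin.1 hθ).2 a (h ha)⟩

theorem induced_mono {A B : Subgroup L} (h : B ≤ A) :
    Cfsg.inducedIrrAbove K A ⊆ Cfsg.inducedIrrAbove K B := fun _ hφ => by
  obtain ⟨θ, hθ, rfl⟩ := mem_induced.1 hφ
  exact mem_induced.2 ⟨θ, above_mono h hθ, rfl⟩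

theorem induced_conj {A : Subgroup L} {φ : L → ℂ} (hφ : φ ∈ Cfsg.inducedIrrAbove K A) :
    Cfsg.conjFun φ ∈ Cfsg.inducedIrrAbove K A := by
  obtain ⟨θ, hθ, h1, h2, rfl⟩ := hφ
  refine ⟨Cfsg.conjFun θ, CoherenceBasic.conjFun_isIrr hθ, fun e => h1 (funext fun x => ?_), fun a ha => ?_, ?_⟩
  · have := congrFun e x
    simpa [Cfsg.conjFun] using congrArg conj this
  · simp [Cfsg.conjFun, h2 a ha]
  · funext x
    exact (congrFun (CharInduced.ind_conj K θ) x).symm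

theorem sum_sq_above {A : Subgroup L} [A.Normal] :
    ∑ θ ∈ aboveFin K A, Cfsg.charDegree (θ : K → ℂ) ^ 2 + 1 = A.relIndex K := by
  classical
  haveI := finite_irrCharacter (G := K)
  haveI := Fintype.ofFinite (Cfsg.IrrCharacter K)
  haveI : (A.subgroupOf K).Normal := Subgroup.Normal.subgroupOf ‹_› K
  have h := CharKernel.sum_sq_trivial_on (A.subgroupOf K)
  rw [← Finset.sum_subtype (Finset.univ.filter fun χ : Cfsg.IrrCharacter K =>
      ∀ n ∈ A.subgroupOf K, (χ : K → ℂ) n = (χ : K → ℂ) 1) (fun x => by simp)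
      (fun χ => Cfsg.charDegree (χ : K → ℂ) ^ 2)] at h
  rw [Subgroup.relIndex, ← h]
  have htriv : trivIrr K ∈ Finset.univ.filter fun χ : Cfsg.IrrCharacter K =>
      ∀ n ∈ A.subgroupOf K, (χ : K → ℂ) n = (χ : K → ℂ) 1 := by simp [trivIrr]
  rw [← Finset.add_sum_erase _ _ htriv, add_comm (∑ θ ∈ aboveFin K A, _) 1]
  congr 1
  · rw [deg_of_eq (φ := ((trivIrr K : Cfsg.IrrCharacter K) : K → ℂ)) (n := 1) (by simp [trivIrr]), one_pow]
  · refine Finset.sum_congr (Finset.ext fun θ => ?_) fun _ _ => rfl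
    simp only [mem_aboveFin, Finset.mem_erase, Finset.mem_filter, Finset.mem_univ, true_and,
      Subgroup.mem_subgroupOf]
    exact ⟨fun h => ⟨fun e => h.1 (congrArg Subtype.val e), h.2⟩,
      fun h => ⟨fun e => h.1 (Subtype.ext e), h.2⟩⟩

variable (K) in
theorem exists_linear (hsolv : Group.IsSolvable K) {A : Subgroup L} [A.Normal] (hAK : A < K) :
    ∃ θ ∈ aboveFin K A, Cfsg.charDegree (θ : K → ℂ) = 1 := by
  classical
  haveI := hsolv
  haveI : (A.subgroupOf K).Normal := Subgroup.Normal.subgroupOf ‹_› K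
  haveI : Nontrivial (↥K ⧸ A.subgroupOf K) := by
    rw [QuotientGroup.nontrivial_iff]
    intro h
    exact hAK.not_ge (Subgroup.subgroupOf_eq_top.1 h)
  haveI : Group.IsSolvable (↥K ⧸ A.subgroupOf K) :=
    Group.isSolvable_of_surjective (QuotientGroup.mk'_surjective (A.subgroupOf K))
  haveI : Nontrivial (Abelianization (↥K ⧸ A.subgroupOf K)) :=
    (QuotientGroup.nontrivial_iff (N := commutator (↥K ⧸ A.subgroupOf K))).2
      (Group.IsSolvable.commutator_lt_top_of_nontrivial _).ne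
  obtain ⟨a, ha⟩ := exists_ne (1 : Abelianization (↥K ⧸ A.subgroupOf K))
  obtain ⟨φ, hφ⟩ := CommGroup.exists_apply_ne_one_of_hasEnoughRootsOfUnity _ ℂ ha
  let lam : K →* ℂˣ := φ.comp (Abelianization.of.comp (QuotientGroup.mk' (A.subgroupOf K)))
  refine ⟨⟨fun k => (lam k : ℂ), isIrrCharacter_linear lam⟩, mem_aboveFin.2 ⟨fun e => hφ ?_, fun k hk => ?_⟩,
    deg_of_eq (by simp)⟩
  · obtain ⟨b, rfl⟩ : ∃ b, Abelianization.of b = a := QuotientGroup.mk'_surjective _ a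
    obtain ⟨k, rfl⟩ := QuotientGroup.mk'_surjective (A.subgroupOf K) b
    exact Units.ext (congrFun e k)
  · show ((lam k : ℂˣ) : ℂ) = ((lam 1 : ℂˣ) : ℂ)
    congr 1
    show φ (Abelianization.of (QuotientGroup.mk' (A.subgroupOf K) k)) = _
    rw [QuotientGroup.mk'_apply, (QuotientGroup.eq_one_iff k).2 (Subgroup.mem_subgroupOf.2 hk), map_one, map_one]
    simp

/-- The degree bound for a character trivial on `B` with `D/B` central in `C/B`. -/
theorem deg_bound {θ : Cfsg.IrrCharacter K} {B C D : Subgroup L} [B.Normal]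
    (hBD : B ≤ D) (hDC : D ≤ C) (hCK : C ≤ K)
    (hcent : ∀ x ∈ D, ∀ y ∈ C, x * y * x⁻¹ * y⁻¹ ∈ B)
    (hθ : ∀ a : K, (a : L) ∈ B → (θ : K → ℂ) a = (θ : K → ℂ) 1) :
    Cfsg.charDegree (θ : K → ℂ) ^ 2 * (Nat.card C * Nat.card D) ≤ Nat.card K ^ 2 := by
  have h := S1492.result (θ : K → ℂ) θ.2 (B.subgroupOf K) (C.subgroupOf K) (D.subgroupOf K)
    (fun x hx => hBD hx) (fun x hx => hDC hx)
    (fun c _ b hb => by simpa [Subgroup.mem_subgroupOf] using ‹B.Normal›.conj_mem _ hb (c : L))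
    (fun d hd c hc => by simpa [Subgroup.mem_subgroupOf] using hcent _ hd _ hc)
    (fun b hb => hθ b hb)
  rw [deg_spec (isCharacter_of_isIrrCharacter θ.2), Complex.norm_natCast,
    Nat.card_congr (Subgroup.subgroupOfEquivOfLe hCK).toEquiv,
    Nat.card_congr (Subgroup.subgroupOfEquivOfLe (hDC.trans hCK)).toEquiv, mul_assoc] at h
  exact_mod_cast h

end Induced

section Grow

variable {L : Type u} [Group L] [Fintype L] {G : Type v} [Group G] [Fintype G]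
  {τ : (L → ℂ) → (G → ℂ)} {R : (L → ℂ) → Finset (G → ℂ)} {S : Set (L → ℂ)}

theorem nm_spec (hS : Cfsg.IsCoherenceSystem S τ R) {φ : L → ℂ} (hφ : φ ∈ S) :
    Cfsg.classInner φ φ = (nm φ : ℂ) := by
  obtain ⟨n, -, hn⟩ := CoherenceExtend.system_norm hS hφ
  rw [nm_of_eq hn, hn]

theorem coherent_subset {T T' : Set (L → ℂ)} (h : Cfsg.IsCoherent T {1}ᶜ τ) (hsub : T' ⊆ T)
    (hchar : ∀ φ ∈ T', Cfsg.IsCharacter L φ) {χ : L → ℂ} (hχ : χ ∈ T') (hχc : Cfsg.conjFun χ ∈ T')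
    (hne : Cfsg.conjFun χ ≠ χ) : Cfsg.IsCoherent T' {1}ᶜ τ := by
  obtain ⟨-, v, hv, hvτ⟩ := h
  refine ⟨⟨χ - Cfsg.conjFun χ, CoherenceBasic.mem_zspanOn_one
    (CoherenceBasic.zspan_sub (CoherenceBasic.subset_zspan hχ) (CoherenceBasic.subset_zspan hχc))
    (by simp [CoherenceBasic.conjFun_apply_one (hchar χ hχ)]), sub_ne_zero.2 hne.symm⟩, v,
    ⟨fun a ha b hb => hv.1 a (CoherenceBasic.zspan_mono hsub ha) b (CoherenceBasic.zspan_mono hsub hb),
      fun a ha => hv.2.1 a (CoherenceBasic.zspan_mono hsub ha),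
      fun a ha b hb => hv.2.2.1 a (CoherenceBasic.zspan_mono hsub ha) b (CoherenceBasic.zspan_mono hsub hb),
      fun a ha => hv.2.2.2 a (CoherenceBasic.zspan_mono hsub ha)⟩,
    fun a ha => hvτ a (CoherenceBasic.zspanOn_mono hsub ha)⟩

theorem system_coherent_subset (hS : Cfsg.IsCoherenceSystem S τ R) {T T' : Set (L → ℂ)}
    (h : Cfsg.IsCoherent T {1}ᶜ τ) (hsub : T' ⊆ T) (hTS : T' ⊆ S) (hne : T'.Nonempty)
    (hc : ∀ φ ∈ T', Cfsg.conjFun φ ∈ T') : Cfsg.IsCoherent T' {1}ᶜ τ := by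
  obtain ⟨χ, hχ⟩ := hne
  exact coherent_subset h hsub (fun φ hφ => hS.isCharacter φ (hTS hφ)) hχ (hc χ hχ)
    (hS.conj_ne χ (hTS hχ))

theorem system_restrict (hS : Cfsg.IsCoherenceSystem S τ R) {T : Set (L → ℂ)} (hTS : T ⊆ S)
    (hne : T.Nonempty) (hc : ∀ φ ∈ T, Cfsg.conjFun φ ∈ T) : Cfsg.IsCoherenceSystem T τ R where
  nonempty := hne
  isCharacter χ hχ := hS.isCharacter χ (hTS hχ)
  conj_mem := hc
  conj_ne χ hχ := hS.conj_ne χ (hTS hχ)
  isometry := ⟨fun a ha b hb => hS.isometry.1 a (CoherenceBasic.zspanOn_mono hTS ha) b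
      (CoherenceBasic.zspanOn_mono hTS hb),
    fun a ha => hS.isometry.2.1 a (CoherenceBasic.zspanOn_mono hTS ha),
    fun a ha b hb => hS.isometry.2.2.1 a (CoherenceBasic.zspanOn_mono hTS ha) b
      (CoherenceBasic.zspanOn_mono hTS hb),
    fun a ha => hS.isometry.2.2.2 a (CoherenceBasic.zspanOn_mono hTS ha)⟩
  map_one a ha := hS.map_one a (CoherenceBasic.zspanOn_mono hTS ha)
  orthogonal χ hχ φ hφ := hS.orthogonal χ (hTS hχ) φ (hTS hφ)
  orthonormal χ hχ := hS.orthonormal χ (hTS hχ)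
  virtual χ hχ := hS.virtual χ (hTS hχ)
  sum_eq χ hχ := hS.sum_eq χ (hTS hχ)
  disjoint χ hχ φ hφ := hS.disjoint χ (hTS hχ) φ (hTS hφ)

/-- A step that adjoins one conjugate pair under the degree inequality. -/
def Extends (X : Set (L → ℂ)) (τ : (L → ℂ) → (G → ℂ)) : Prop :=
  ∀ S₁ : Finset (L → ℂ), ↑S₁ ⊆ X → (∀ φ ∈ S₁, Cfsg.conjFun φ ∈ S₁) →
    Cfsg.IsCoherent (↑S₁ : Set (L → ℂ)) {1}ᶜ τ → ∀ χ ∈ X, χ ∉ S₁ →
    (∃ ψ ∈ S₁, Cfsg.charDegree ψ ∣ Cfsg.charDegree χ ∧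
      (2 * Cfsg.charDegree χ * Cfsg.charDegree ψ : ℝ) <
        ∑ φ ∈ S₁, ((Cfsg.charDegree φ : ℝ) ^ 2 / (nm φ : ℝ))) →
    Cfsg.IsCoherent (↑S₁ ∪ {χ, Cfsg.conjFun χ} : Set (L → ℂ)) {1}ᶜ τ

theorem extends_of_system (hS : Cfsg.IsCoherenceSystem S τ R) {X : Set (L → ℂ)} (hXS : X ⊆ S) :
    Extends X τ := by
  rintro S₁ hS₁ hc hcoh χ hχ hχ₁ ⟨ψ, hψ, hdvd, hlt⟩
  exact CoherenceExtend.extension_criterion hS Cfsg.charDegree nm
    (fun φ hφ => deg_spec (hS.isCharacter φ hφ)) (fun φ hφ => nm_spec hS hφ) S₁ (hS₁.trans hXS) hc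
    hcoh χ (hXS hχ) hχ₁
    (fun h => hχ₁ (by simpa [CoherenceBasic.conjFun_conjFun] using hc _ h)) ψ hψ hdvd hlt

/-- Growing a coherent conjugation-closed set until it contains `T`. -/
theorem coherent_grow {X : Set (L → ℂ)} (hXc : ∀ φ ∈ X, Cfsg.conjFun φ ∈ X) (hext : Extends X τ)
    (S₀ : Finset (L → ℂ)) (h₀X : ↑S₀ ⊆ X) (h₀c : ∀ φ ∈ S₀, Cfsg.conjFun φ ∈ S₀)
    (hcoh : Cfsg.IsCoherent (↑S₀ : Set (L → ℂ)) {1}ᶜ τ) (T : Finset (L → ℂ)) (hTX : ↑T ⊆ X)
    (hb : ∀ χ ∈ T, χ ∉ S₀ → ∃ ψ ∈ S₀, Cfsg.charDegree ψ ∣ Cfsg.charDegree χ ∧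
      (2 * Cfsg.charDegree χ * Cfsg.charDegree ψ : ℝ) <
        ∑ φ ∈ S₀, ((Cfsg.charDegree φ : ℝ) ^ 2 / (nm φ : ℝ))) :
    ∃ S₁ : Finset (L → ℂ), S₀ ⊆ S₁ ∧ T ⊆ S₁ ∧ ↑S₁ ⊆ X ∧ (∀ φ ∈ S₁, Cfsg.conjFun φ ∈ S₁) ∧
      Cfsg.IsCoherent (↑S₁ : Set (L → ℂ)) {1}ᶜ τ := by
  classical
  induction T using Finset.induction_on with
  | empty => exact ⟨S₀, subset_rfl, Finset.empty_subset _, h₀X, h₀c, hcoh⟩
  | insert χ T hχT ih =>
    rw [Finset.coe_insert, Set.insert_subset_iff] at hTX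
    obtain ⟨S₁, h01, hT1, h1X, h1c, h1⟩ := ih hTX.2 fun φ hφ => hb φ (Finset.mem_insert_of_mem hφ)
    by_cases hχ : χ ∈ S₁
    · exact ⟨S₁, h01, Finset.insert_subset hχ hT1, h1X, h1c, h1⟩
    obtain ⟨ψ, hψ, hdvd, hlt⟩ := hb χ (Finset.mem_insert_self _ _) fun h => hχ (h01 h)
    have hle := Finset.sum_le_sum_of_subset_of_nonneg h01
      (f := fun φ : L → ℂ => (Cfsg.charDegree φ : ℝ) ^ 2 / (nm φ : ℝ)) fun φ _ _ => by positivity
    have h2 := hext S₁ h1X h1c h1 χ hTX.1 hχ ⟨ψ, h01 hψ, hdvd, hlt.trans_le hle⟩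
    refine ⟨S₁ ∪ {χ, Cfsg.conjFun χ}, h01.trans Finset.subset_union_left, ?_, ?_, ?_, ?_⟩
    · exact Finset.insert_subset (by simp) (hT1.trans Finset.subset_union_left)
    · simp only [Finset.coe_union, Finset.coe_insert, Finset.coe_singleton, Set.union_subset_iff,
        Set.insert_subset_iff, Set.singleton_subset_iff]
      exact ⟨h1X, hTX.1, hXc χ hTX.1⟩
    · intro φ hφ
      simp only [Finset.mem_union, Finset.mem_insert, Finset.mem_singleton] at hφ ⊢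
      rcases hφ with h | rfl | rfl
      · exact Or.inl (h1c φ h)
      · exact Or.inr (Or.inr rfl)
      · exact Or.inr (Or.inl (CoherenceBasic.conjFun_conjFun χ))
    · simpa using h2

end Grow

section Steps

variable {L : Type u} [Group L] [Fintype L] {G : Type v} [Group G] [Fintype G]
  {τ : (L → ℂ) → (G → ℂ)} {K : Subgroup L} [K.Normal] {X : Set (L → ℂ)}

/-- Coherence descends from `A` to `B` once every new degree satisfies the bound. -/
theorem coherent_descend (hsolv : Group.IsSolvable K) (hXc : ∀ φ ∈ X, Cfsg.conjFun φ ∈ X)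
    (hext : Extends X τ) (hchar : ∀ φ ∈ X, Cfsg.IsCharacter L φ) (hne : ∀ φ ∈ X, Cfsg.conjFun φ ≠ φ)
    (A B : Subgroup L) [A.Normal] [B.Normal] (hAK : A < K) (hBK : B < K)
    (hAX : Cfsg.inducedIrrAbove K A ⊆ X) (hBX : Cfsg.inducedIrrAbove K B ⊆ X)
    (hA : Cfsg.IsCoherent (Cfsg.inducedIrrAbove K A) {1}ᶜ τ)
    (hbound : ∀ θ ∈ aboveFin K B,
      2 * K.index * Cfsg.charDegree (θ : K → ℂ) + 1 < A.relIndex K) :
    Cfsg.IsCoherent (Cfsg.inducedIrrAbove K B) {1}ᶜ τ := by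
  classical
  obtain ⟨θ₁, hθ₁, hdeg₁⟩ := exists_linear K hsolv hAK
  obtain ⟨θ₂, hθ₂, -⟩ := exists_linear K hsolv hBK
  have hsum : ∑ φ ∈ (aboveFin K A).image (ind K), ((Cfsg.charDegree φ : ℝ) ^ 2 / (nm φ : ℝ)) =
      (K.index : ℝ) * ((A.relIndex K : ℝ) - 1) := by
    rw [sum_sq_div_nm K _ fun θ hθ θ' h => above_closed hθ h, ← sum_sq_above (K := K) (A := A)]
    push_cast; ring
  obtain ⟨S₁, -, hT, h1X, -, h1⟩ := coherent_grow hXc hext ((aboveFin K A).image (ind K))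
    (by rw [coe_image_aboveFin]; exact hAX)
    (fun φ hφ => by
      rw [← Finset.mem_coe, coe_image_aboveFin] at hφ ⊢
      exact induced_conj hφ)
    (by rwa [coe_image_aboveFin]) ((aboveFin K B).image (ind K))
    (by rw [coe_image_aboveFin]; exact hBX) fun χ hχ _ => by
      obtain ⟨θ, hθ, rfl⟩ := Finset.mem_image.1 hχ
      refine ⟨ind K θ₁, Finset.mem_image_of_mem _ hθ₁, ?_, ?_⟩
      · rw [deg_ind, deg_ind, hdeg₁, mul_one]; exact dvd_mul_right _ _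
      · rw [hsum, deg_ind, deg_ind, hdeg₁]
        have h : ((2 * K.index * Cfsg.charDegree (θ : K → ℂ) + 1 : ℕ) : ℝ) < (A.relIndex K : ℝ) :=
          Nat.cast_lt.2 (hbound θ hθ)
        have he : (0 : ℝ) < K.index := Nat.cast_pos.2 (Nat.pos_of_ne_zero Subgroup.index_ne_zero_of_finite)
        push_cast at h ⊢
        nlinarith
  have hBS : Cfsg.inducedIrrAbove K B ⊆ ↑S₁ := by
    rw [← coe_image_aboveFin]; exact Finset.coe_subset.2 hT
  have hmem : ind K θ₂ ∈ Cfsg.inducedIrrAbove K B := mem_induced.2 ⟨θ₂, hθ₂, rfl⟩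
  exact coherent_subset h1 hBS (fun φ hφ => hchar φ (hBX hφ)) hmem (induced_conj hmem) (hne _ (hBX hmem))

theorem bound_of_sq {θ : Cfsg.IrrCharacter K} {B C D : Subgroup L} [B.Normal] {r : ℕ} (hr : 1 ≤ r)
    (hBD : B ≤ D) (hDC : D ≤ C) (hCK : C ≤ K)
    (hcent : ∀ x ∈ D, ∀ y ∈ C, x * y * x⁻¹ * y⁻¹ ∈ B) (hθ : θ ∈ aboveFin K B)
    (hlt : 4 * C.index ^ 2 * D.relIndex C < (r - 1) ^ 2) :
    2 * K.index * Cfsg.charDegree (θ : K → ℂ) + 1 < r := by
  have h := deg_bound hBD hDC hCK hcent (mem_aboveFin.1 hθ).2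
  have hK := K.index_mul_card
  have hC := C.index_mul_card
  have hCD : Nat.card C = D.relIndex C * Nat.card D := by
    rw [Subgroup.relIndex, ← Nat.card_congr (Subgroup.subgroupOfEquivOfLe hDC).toEquiv,
      Subgroup.index_mul_card]
  have hpos : 0 < Nat.card C * Nat.card D := Nat.mul_pos Nat.card_pos Nat.card_pos
  have h1 : (K.index * Cfsg.charDegree (θ : K → ℂ)) ^ 2 * (Nat.card C * Nat.card D) ≤
      C.index ^ 2 * D.relIndex C * (Nat.card C * Nat.card D) := by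
    calc _ = K.index ^ 2 * (Cfsg.charDegree (θ : K → ℂ) ^ 2 * (Nat.card C * Nat.card D)) := by ring
      _ ≤ K.index ^ 2 * Nat.card K ^ 2 := Nat.mul_le_mul_left _ h
      _ = (C.index * Nat.card C) * (C.index * Nat.card C) := by rw [← mul_pow, hK, hC, sq]
      _ = _ := by nth_rw 2 [hCD]; ring
  have h2 := Nat.le_of_mul_le_mul_right h1 hpos
  have h3 : (2 * K.index * Cfsg.charDegree (θ : K → ℂ)) ^ 2 < (r - 1) ^ 2 := by
    calc _ = 4 * (K.index * Cfsg.charDegree (θ : K → ℂ)) ^ 2 := by ring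
      _ ≤ 4 * (C.index ^ 2 * D.relIndex C) := Nat.mul_le_mul_left _ h2
      _ < _ := by rwa [← mul_assoc]
  have := lt_of_pow_lt_pow_left₀ 2 (Nat.zero_le _) h3
  omega

end Steps

end Cfsg.Agent.PF6
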