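import Mathlib
import Cfsg.Agent.Lib.PFCoherentDade
import Cfsg.Agent.Lib.PF6Core43
import Cfsg.Agent.Lib.PF12Cong43

/-!
The adjoint of the Dade map for a coherent family that contains only part of the characters induced from
`K`: the coefficients, a congruence, and two lower bounds for the norm.

If the characters outside the family have degree divisible by `p`, the value at a `p`-element is determined
modulo `p`; if their degrees are small compared with the family, only `e / |K|` is lost in the norm.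
-/

set_option autoImplicit false
set_option linter.unusedSectionVars false

open scoped ComplexConjugate Classical

namespace Cfsg.Agent.PFPartialCoh

open Cfsg Cfsg.Agent.CharBasic Cfsg.Agent.CharBasicOrth Cfsg.Agent.CharBasicDecomp Cfsg.Agent.DadeMap
open Cfsg.Agent.PFInvDade Cfsg.Agent.PFCoherentDade Cfsg.Agent.CoherenceBasic Cfsg.Agent.BrauerBlocksRegFun

universe u

variable {G : Type u} [Group G]

/-- The characters induced from the members of `T`. -/
def fam {L : Subgroup G} [Fintype ↥L] (K : Subgroup ↥L) (T : Finset (IrrCharacter ↥K)) : Set (↥L → ℂ) :=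
  {φ | ∃ θ ∈ T, indFun K (θ : ↥K → ℂ) = φ}

/-- One plus the sum of the squared degrees. -/
noncomputable def size {X : Type u} [Group X] (T : Finset (IrrCharacter X)) : ℕ :=
  1 + ∑ θ ∈ T, Cfsg.charDegree (θ : X → ℂ) ^ 2

variable [Fintype G]

/-- A coherent family, closed under conjugation, of nonprincipal characters of `K`. -/
structure PartCoh (A : Set G) (L : Subgroup G) [Fintype ↥L] (H : G → Subgroup G) (K : Subgroup ↥L)
    (ν : (↥L → ℂ) → (G → ℂ)) (T : Finset (IrrCharacter ↥K)) (ζ : ↥L → ℂ) : Prop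
    extends Setup A L H K where
  iso : IsLinearIsometryOn (zspan (fam K T)) ν
  ext : ∀ α ∈ zspanOn (fam K T) {1}ᶜ, ν α = dadeIsometry A L H α
  closed : ∀ θ ∈ T, ∀ θ' : IrrCharacter ↥K,
    indFun K (θ' : ↥K → ℂ) = indFun K (θ : ↥K → ℂ) → θ' ∈ T
  ne_one : ∀ θ ∈ T, (θ : ↥K → ℂ) ≠ fun _ => 1
  mem : ζ ∈ fam K T
  conj_mem : conjFun ζ ∈ fam K T
  irr : IsIrrCharacter ↥L ζ
  deg : ζ 1 = (K.index : ℂ)
  conj_ne : conjFun ζ ≠ ζ

variable {A : Set G} {L : Subgroup G} [Fintype ↥L] {H : G → Subgroup G} {K : Subgroup ↥L}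
  {ν : (↥L → ℂ) → (G → ℂ)} {T : Finset (IrrCharacter ↥K)} {ζ : ↥L → ℂ}

theorem zeta_class (hC : PartCoh A L H K ν T ζ) : IsClassFunction ↥L ζ :=
  isClassFunction_of_isCharacter (isCharacter_of_isIrrCharacter hC.irr)

theorem zeta_off (hC : PartCoh A L H K ν T ζ) (a : ↥L) (ha : a ∉ K) : ζ a = 0 := by
  haveI := hC.normal
  obtain ⟨θ, -, rfl⟩ := hC.mem
  exact ind_eq_zero_off _ ha

theorem bdiff_supp (hC : PartCoh A L H K ν T ζ) (a : ↥L) (ha : (a : G) ∉ A) :
    (ind1 K - ζ) a = 0 := by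
  haveI := hC.normal
  by_cases h1 : a = 1
  · subst h1; simp [ind1_one, hC.deg]
  · have hK : a ∉ K := fun h => ha ((hC.mem_iff a).2 ⟨h, h1⟩)
    simp [ind1, ind_eq_zero_off _ hK, zeta_off hC a hK]

theorem beta_gen (hC : PartCoh A L H K ν T ζ) :
    IsGeneralizedCharacter G (PFCoherentDade.beta A L H K ζ) :=
  DadeGenChar.dade_gen hC.dade
    (isGeneralizedCharacter_sub
      (isGeneralizedCharacter_of_isCharacter (CharInduced.isCharacter_ind K CharBasicDecomp.isCharacter_one))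
      (isGeneralizedCharacter_of_isCharacter (isCharacter_of_isIrrCharacter hC.irr)))
    (bdiff_supp hC)

theorem nu_gen (hC : PartCoh A L H K ν T ζ) : IsGeneralizedCharacter G (ν ζ) :=
  hC.iso.2.2.2 _ (subset_zspan hC.mem)

theorem nu_norm (hC : PartCoh A L H K ν T ζ) : classInner (ν ζ) (ν ζ) = 1 := by
  rw [hC.iso.2.2.1 _ (subset_zspan hC.mem) _ (subset_zspan hC.mem), classInner_irr_self hC.irr]

theorem nu_signed (hC : PartCoh A L H K ν T ζ) : SignedIrr (ν ζ) :=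
  si_of_norm_one (nu_gen hC) (nu_norm hC)

theorem exists_c (hC : PartCoh A L H K ν T ζ) :
    ∃ c : ℤ, 1 + classInner (ν ζ) (PFCoherentDade.beta A L H K ζ) = (c : ℂ) := by
  obtain ⟨b, hb⟩ := classInner_isGeneralizedCharacter (nu_gen hC) (beta_gen hC)
  exact ⟨1 + b, by rw [hb]; push_cast; ring⟩

/-- The multiplicity of `θ` in the restriction of `ζ`. -/
noncomputable def mult (ζ : ↥L → ℂ) (θ : IrrCharacter ↥K) : ℂ :=
  classInner (fun h : ↥K => ζ h) θ

theorem mult_eq_zero (hC : PartCoh A L H K ν T ζ) (θ : IrrCharacter ↥K) (hθ : θ ∉ T) :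
    mult ζ θ = 0 := by
  haveI := hC.normal
  obtain ⟨θ₀, hθ₀, hζ⟩ := hC.mem
  by_contra h
  rw [mult, ← CharInduced.inner_ind_right K _ (zeta_class hC), ← hζ] at h
  refine hθ (hC.closed θ₀ hθ₀ θ ((CharInduced.ind_eq_iff_mem_orbit K θ₀.2 θ.2).2 ?_))
  by_contra ho
  exact h (CharInduced.classInner_ind_ind_eq_zero K θ₀.2 θ.2 ho)

theorem sum_mult_deg (hC : PartCoh A L H K ν T ζ) :
    ∑ θ : IrrCharacter ↥K, mult ζ θ * (θ : ↥K → ℂ) 1 = (K.index : ℂ) := by
  have hres : IsClassFunction ↥K (fun h : ↥K => ζ h) := fun a b => zeta_class hC (a : ↥L) (b : ↥L)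
  have h := congrFun (eq_sum_classInner hres) 1
  simp only [Finset.sum_apply, Pi.smul_apply, smul_eq_mul] at h
  rw [show ∑ θ : IrrCharacter ↥K, mult ζ θ * (θ : ↥K → ℂ) 1 =
    ∑ θ : IrrCharacter ↥K, classInner (fun h : ↥K => ζ h) θ * (θ : ↥K → ℂ) 1 from rfl, ← h]
  exact hC.deg

theorem sum_mult_sq (hC : PartCoh A L H K ν T ζ) :
    ∑ θ : IrrCharacter ↥K, mult ζ θ * conj (mult ζ θ) = (K.index : ℂ) := by
  haveI := hC.normal
  have hres : IsClassFunction ↥K (fun h : ↥K => ζ h) := fun a b => zeta_class hC (a : ↥L) (b : ↥L)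
  simp only [mult]
  rw [← classInner_eq_sum hres]
  have hsum : ∑ x : ↥L, ζ x * conj (ζ x) = ∑ h : ↥K, ζ h * conj (ζ h) := by
    have h2 : ∑ h : ↥K, ζ h * conj (ζ h) =
        ∑ x ∈ Finset.univ.filter (fun x : ↥L => x ∈ K), ζ x * conj (ζ x) :=
      (Finset.sum_subtype (p := fun x : ↥L => x ∈ K) _ (fun x => by simp)
        (fun x => ζ x * conj (ζ x))).symm
    rw [h2, Finset.sum_filter]
    refine Finset.sum_congr rfl fun x _ => ?_
    split_ifs with h
    · rfl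
    · rw [zeta_off hC x h, zero_mul]
  have h1 := classInner_irr_self hC.irr
  simp only [classInner] at h1 ⊢
  rw [hsum, ← Subgroup.card_mul_index K, Nat.cast_mul] at h1
  have hK : (Nat.card K : ℂ) ≠ 0 := CharInduced.card_subgroup_ne_zero K
  have hi : (K.index : ℂ) ≠ 0 := Nat.cast_ne_zero.2 Subgroup.index_ne_zero_of_finite
  field_simp at h1 ⊢
  linear_combination h1

theorem deg_cast (θ : IrrCharacter ↥K) :
    ((θ : ↥K → ℂ) 1) = (Cfsg.charDegree (θ : ↥K → ℂ) : ℂ) :=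
  PF6.deg_spec (isCharacter_of_isIrrCharacter θ.2)

theorem coeff_int (hC : PartCoh A L H K ν T ζ) (θ : IrrCharacter ↥K) :
    ∃ n : ℤ, coeff A L H K (ν ζ) θ = n := by
  haveI := hC.normal
  have ht : IsGeneralizedCharacter ↥L (tdiff (θ : ↥K → ℂ)) := by
    obtain ⟨d, -, hd⟩ := exists_deg θ.2
    have e : tdiff (θ : ↥K → ℂ) = indFun K (θ : ↥K → ℂ) - (d : ℂ) • ind1 K := by
      rw [tdiff, hd]
    rw [e]
    refine isGeneralizedCharacter_sub
      (isGeneralizedCharacter_of_isCharacter (CharInduced.isCharacter_ind K (isCharacter_of_isIrrCharacter θ.2)))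
      (isGeneralizedCharacter_of_isCharacter ?_)
    exact CharBasicDecomp.isCharacter_nsmul (CharInduced.isCharacter_ind K CharBasicDecomp.isCharacter_one) d
  exact classInner_isGeneralizedCharacter (nu_gen hC)
    (DadeGenChar.dade_gen hC.dade ht (tdiff_supp hC.toSetup _))

/-- The coefficient at a member of the family. -/
theorem coeff_known (hC : PartCoh A L H K ν T ζ) (θ : IrrCharacter ↥K) (hθ : θ ∈ T) :
    coeff A L H K (ν ζ) θ =
      mult ζ θ - (θ : ↥K → ℂ) 1 * (1 + classInner (ν ζ) (PFCoherentDade.beta A L H K ζ)) := by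
  haveI := hC.normal
  obtain ⟨d, -, hd⟩ := exists_deg θ.2
  have hm : indFun K (θ : ↥K → ℂ) ∈ fam K T := ⟨θ, hθ, rfl⟩
  have hz := subset_zspan hC.mem
  have hmem : indFun K (θ : ↥K → ℂ) - (d : ℂ) • ζ ∈ zspanOn (fam K T) {1}ᶜ :=
    mem_zspanOn_one (zspan_sub (subset_zspan hm) (zspan_natCast_smul d hz)) (by
      simp [CharInduced.ind_one_apply, hd, hC.deg, mul_comm])
  have e1 := hC.ext _ hmem
  rw [span_map_sub hC.iso (subset_zspan hm) (zspan_natCast_smul d hz),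
    span_map_natCast_smul hC.iso d hz] at e1
  have e2 : tdiff (θ : ↥K → ℂ) =
      (indFun K (θ : ↥K → ℂ) - (d : ℂ) • ζ) - (d : ℂ) • (ind1 K - ζ) := by
    rw [tdiff, hd, smul_sub]; abel
  have e3 : dadeIsometry A L H (tdiff (θ : ↥K → ℂ)) =
      ν (indFun K (θ : ↥K → ℂ)) - (d : ℂ) • (ν ζ) - (d : ℂ) • PFCoherentDade.beta A L H K ζ := by
    funext g
    have e : dadeIsometry A L H (tdiff (θ : ↥K → ℂ)) g =
        dadeIsometry A L H (indFun K (θ : ↥K → ℂ) - (d : ℂ) • ζ) g -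
          (d : ℂ) * dadeIsometry A L H (ind1 K - ζ) g := by
      rw [e2]
      simp only [dadeIsometry]
      split_ifs <;> simp
    rw [e, ← e1]
    simp only [PFCoherentDade.beta, Pi.sub_apply, Pi.smul_apply, smul_eq_mul]
  rw [coeff, e3, CharBasicOrth.classInner_sub_right, CharBasicOrth.classInner_sub_right,
    CharBasicOrth.classInner_smul_right, CharBasicOrth.classInner_smul_right, map_natCast, nu_norm hC,
    hC.iso.2.2.1 _ hz _ (subset_zspan hm), CharInduced.inner_ind_right K _ (zeta_class hC), hd]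
  simp only [mult]
  ring

theorem trivIrr_not_mem (hC : PartCoh A L H K ν T ζ) : trivIrr ↥K ∉ T := fun h =>
  hC.ne_one _ h rfl

theorem sum_known_deg (hC : PartCoh A L H K ν T ζ) :
    ∑ θ ∈ T, mult ζ θ * (θ : ↥K → ℂ) 1 = (K.index : ℂ) := by
  rw [← sum_mult_deg hC]
  exact Finset.sum_subset (Finset.subset_univ _) fun θ _ hθ => by rw [mult_eq_zero hC θ hθ, zero_mul]

theorem sum_known_sq (hC : PartCoh A L H K ν T ζ) :
    ∑ θ ∈ T, mult ζ θ * conj (mult ζ θ) = (K.index : ℂ) := by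
  rw [← sum_mult_sq hC]
  exact Finset.sum_subset (Finset.subset_univ _) fun θ _ hθ => by rw [mult_eq_zero hC θ hθ, zero_mul]

theorem sum_deg_sq (T : Finset (IrrCharacter ↥K)) :
    ∑ θ ∈ T, (θ : ↥K → ℂ) 1 * (θ : ↥K → ℂ) 1 = (size T : ℂ) - 1 := by
  rw [size]
  push_cast
  rw [add_sub_cancel_left]
  exact Finset.sum_congr rfl fun θ _ => by rw [deg_cast]; ring

/-- The value at a `p`-element, modulo `p`. -/
theorem invDade_congr (hC : PartCoh A L H K ν T ζ) {p : ℕ} {J : Ideal AlgInt} (hJ : IsPModular p J)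
    (a : ↥K) (ha : a ≠ 1) (hap : orderOf a = p)
    (hU : ∀ θ : IrrCharacter ↥K, (θ : ↥K → ℂ) ≠ (fun _ => 1) → θ ∉ T →
      p ∣ Cfsg.charDegree (θ : ↥K → ℂ))
    (hn : p ∣ size T) (c : ℤ) (hc : 1 + classInner (ν ζ) (PFCoherentDade.beta A L H K ζ) = (c : ℂ)) :
    MemLocalIdeal J (invDade A L H (ν ζ) a - (((K.index : ℕ) : ℤ) + c : ℤ)) := by
  haveI := hC.normal
  rw [invDade_value hC.toSetup (isClassFunction_of_isGeneralizedCharacter (nu_gen hC)) _ ha]
  choose n hn' using coeff_int hC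
  have hval : ∀ θ : IrrCharacter ↥K, MemLocalIdeal J ((θ : ↥K → ℂ) a - (θ : ↥K → ℂ) 1) := by
    intro θ
    have := PrincipalSylow80.char_mul_congr hJ (isCharacter_of_isIrrCharacter θ.2) (u := a) (x := 1)
      ⟨1, by rw [pow_one, hap]⟩ (Commute.one_right _)
    rwa [mul_one] at this
  have h1 : MemLocalIdeal J (∑ θ : IrrCharacter ↥K, coeff A L H K (ν ζ) θ * (θ : ↥K → ℂ) a -
      ∑ θ : IrrCharacter ↥K, coeff A L H K (ν ζ) θ * (θ : ↥K → ℂ) 1) := by
    rw [← Finset.sum_sub_distrib]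
    refine BlockTheoryLocalRing.ideal_sum hJ fun θ _ => ?_
    rw [← mul_sub]
    exact BlockTheoryLocalRing.ideal_mul_left hJ (by rw [hn']; exact intCast_mem (BlockTheoryLocalRing.localRing hJ) _) (hval θ)
  have h2 : MemLocalIdeal J (∑ θ : IrrCharacter ↥K, coeff A L H K (ν ζ) θ * (θ : ↥K → ℂ) 1 -
      ∑ θ ∈ T, coeff A L H K (ν ζ) θ * (θ : ↥K → ℂ) 1) := by
    rw [← Finset.sum_sdiff (Finset.subset_univ T), add_sub_cancel_right]
    refine BlockTheoryLocalRing.ideal_sum hJ fun θ hθ => ?_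
    by_cases h : θ = trivIrr ↥K
    · subst h
      rw [show coeff A L H K (ν ζ) ((trivIrr ↥K : IrrCharacter ↥K) : ↥K → ℂ) = 0 from coeff_principal _,
        zero_mul]
      exact BlockTheoryLocalRing.ideal_zero hJ
    refine BlockTheoryLocalRing.ideal_mul_left hJ (by rw [hn']; exact intCast_mem (BlockTheoryLocalRing.localRing hJ) _) ?_
    rw [deg_cast, BlockTheoryLocalRing.natCast_mem_iff hJ]
    exact hU θ (fun e => h (Subtype.ext e)) (Finset.mem_sdiff.1 hθ).2
  have h3 : MemLocalIdeal J (∑ θ ∈ T, coeff A L H K (ν ζ) θ * (θ : ↥K → ℂ) 1 -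
      (((K.index : ℕ) : ℤ) + c : ℤ)) := by
    have e : ∑ θ ∈ T, coeff A L H K (ν ζ) θ * (θ : ↥K → ℂ) 1 =
        (K.index : ℂ) - (c : ℂ) * ((size T : ℂ) - 1) := by
      rw [Finset.sum_congr rfl fun θ hθ => by rw [coeff_known hC θ hθ, hc, sub_mul],
        Finset.sum_sub_distrib, sum_known_deg hC, ← sum_deg_sq T, Finset.mul_sum]
      congr 1
      exact Finset.sum_congr rfl fun θ _ => by ring
    rw [e]
    obtain ⟨j, hj⟩ := hn
    have : ((K.index : ℂ) - (c : ℂ) * ((size T : ℂ) - 1) - ((((K.index : ℕ) : ℤ) + c : ℤ) : ℂ)) =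
        ((-(c * (p * j)) : ℤ) : ℂ) := by
      rw [hj]; push_cast; ring
    rw [this, PF12Cong.intCast_mem_iff hJ]
    exact dvd_neg.2 (dvd_mul_of_dvd_right (dvd_mul_right _ _) _)
  have := BlockTheoryLocalRing.ideal_add hJ (BlockTheoryLocalRing.ideal_add hJ h1 h2) h3
  convert this using 1
  ring

section norm

theorem size_le (hC : PartCoh A L H K ν T ζ) : size T ≤ Nat.card ↥K := by
  have h : ((size T : ℕ) : ℂ) + ∑ θ ∈ (Finset.univ.erase (trivIrr ↥K)) \ T,
      ((Cfsg.charDegree (θ : ↥K → ℂ) ^ 2 : ℕ) : ℂ) = (Nat.card ↥K : ℂ) := by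
    rw [← sum_sq_apply_one, ← Finset.add_sum_erase _ _ (Finset.mem_univ (trivIrr ↥K)),
      ← Finset.sum_sdiff (s₁ := T) (s₂ := Finset.univ.erase (trivIrr ↥K)) fun θ hθ =>
        Finset.mem_erase.2 ⟨fun (e : θ = trivIrr ↥K) => trivIrr_not_mem hC (e ▸ hθ), Finset.mem_univ _⟩]
    have e1 : ((trivIrr ↥K : IrrCharacter ↥K) : ↥K → ℂ) 1 = 1 := rfl
    simp only [e1, one_pow, Nat.cast_pow, ← deg_cast, size, Nat.cast_add, Nat.cast_one, Nat.cast_sum]
    ring
  rw [← Nat.cast_sum, ← Nat.cast_add, Nat.cast_inj] at h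
  omega

/-- The norm of the adjoint, in terms of the coefficients outside the family. -/
theorem norm_eq (hC : PartCoh A L H K ν T ζ) (c : ℤ)
    (hc : 1 + classInner (ν ζ) (PFCoherentDade.beta A L H K ζ) = (c : ℂ)) :
    ∃ z : IrrCharacter ↥K → ℤ,
      (K.index : ℝ) * (classInner (invDade A L H (ν ζ)) (invDade A L H (ν ζ))).re =
        (K.index : ℝ) - 2 * K.index * c + ((size T : ℝ) - 1) * (c : ℝ) ^ 2 +
          ∑ θ ∈ (Finset.univ.erase (trivIrr ↥K)) \ T, (z θ : ℝ) ^ 2 -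
        ((K.index : ℝ) - c * ((size T : ℝ) - 1) + ∑ θ ∈ (Finset.univ.erase (trivIrr ↥K)) \ T,
          (z θ : ℝ) * (Cfsg.charDegree (θ : ↥K → ℂ) : ℝ)) ^ 2 / (Nat.card ↥K : ℝ) := by
  haveI := hC.normal
  choose z hz using coeff_int hC
  refine ⟨z, ?_⟩
  set U := (Finset.univ.erase (trivIrr ↥K)) \ T with hUdef
  have hconj : ∀ θ : IrrCharacter ↥K, conj ((θ : ↥K → ℂ) 1) = (θ : ↥K → ℂ) 1 := fun θ => by
    rw [deg_cast, map_natCast]
  have hsplit : ∀ f : IrrCharacter ↥K → ℂ, f (trivIrr ↥K) = 0 →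
      ∑ θ : IrrCharacter ↥K, f θ = ∑ θ ∈ T, f θ + ∑ θ ∈ U, f θ := by
    intro f hf
    rw [← Finset.add_sum_erase _ _ (Finset.mem_univ (trivIrr ↥K)), hf, zero_add, hUdef, add_comm (∑ θ ∈ T, f θ),
      Finset.sum_sdiff fun θ hθ =>
        Finset.mem_erase.2 ⟨fun (e : θ = trivIrr ↥K) => trivIrr_not_mem hC (e ▸ hθ), Finset.mem_univ _⟩]
  have h0 : coeff A L H K (ν ζ) ((trivIrr ↥K : IrrCharacter ↥K) : ↥K → ℂ) = 0 := coeff_principal _
  have hmult : ∀ θ : IrrCharacter ↥K, conj (mult ζ θ) = mult ζ θ := by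
    intro θ
    obtain ⟨m, hm⟩ := classInner_isCharacter (CharInduced.isCharacter_res K (isCharacter_of_isIrrCharacter hC.irr))
      (isCharacter_of_isIrrCharacter θ.2)
    rw [mult, hm, map_natCast]
  have hT2 : ∑ θ ∈ T, coeff A L H K (ν ζ) θ * conj (coeff A L H K (ν ζ) θ) =
      (K.index : ℂ) - 2 * K.index * c + ((size T : ℂ) - 1) * (c : ℂ) ^ 2 := by
    have e : ∀ θ ∈ T, coeff A L H K (ν ζ) θ * conj (coeff A L H K (ν ζ) θ) =
        mult ζ θ * conj (mult ζ θ) - 2 * (c : ℂ) * (mult ζ θ * (θ : ↥K → ℂ) 1) +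
          (c : ℂ) ^ 2 * ((θ : ↥K → ℂ) 1 * (θ : ↥K → ℂ) 1) := by
      intro θ hθ
      rw [coeff_known hC θ hθ, hc, map_sub, map_mul, hconj, hmult, map_intCast]
      ring
    rw [Finset.sum_congr rfl e, Finset.sum_add_distrib, Finset.sum_sub_distrib, ← Finset.mul_sum,
      ← Finset.mul_sum, sum_known_sq hC, sum_known_deg hC, sum_deg_sq]
    ring
  have hT1 : ∑ θ ∈ T, coeff A L H K (ν ζ) θ * (θ : ↥K → ℂ) 1 =
      (K.index : ℂ) - (c : ℂ) * ((size T : ℂ) - 1) := by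
    rw [Finset.sum_congr rfl fun θ hθ => by rw [coeff_known hC θ hθ, hc, sub_mul],
      Finset.sum_sub_distrib, sum_known_deg hC, ← sum_deg_sq T, Finset.mul_sum]
    congr 1
    exact Finset.sum_congr rfl fun θ _ => by ring
  have h := invDade_norm hC.toSetup (isClassFunction_of_isGeneralizedCharacter (nu_gen hC))
  rw [hsplit (fun θ : IrrCharacter ↥K => coeff A L H K (ν ζ) θ * conj (coeff A L H K (ν ζ) θ))
      (by rw [h0, zero_mul]),
    hsplit (fun θ : IrrCharacter ↥K => coeff A L H K (ν ζ) θ * (θ : ↥K → ℂ) 1)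
      (by rw [h0, zero_mul]), hT2, hT1] at h
  simp only [hz, deg_cast, map_intCast] at h
  have e : ((((K.index : ℝ) - 2 * K.index * c + ((size T : ℝ) - 1) * (c : ℝ) ^ 2 +
      ∑ θ ∈ U, (z θ : ℝ) ^ 2) -
      ((K.index : ℝ) - c * ((size T : ℝ) - 1) +
        ∑ θ ∈ U, (z θ : ℝ) * (Cfsg.charDegree (θ : ↥K → ℂ) : ℝ)) ^ 2 / (Nat.card ↥K : ℝ) : ℝ) : ℂ) =
      (K.index : ℂ) * classInner (invDade A L H (ν ζ)) (invDade A L H (ν ζ)) := by
    rw [h]
    simp only [map_add, map_sub, map_mul, map_natCast, map_intCast, map_sum, map_one]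
    push_cast
    simp only [sq]
  have := congrArg Complex.re e
  rw [Complex.ofReal_re] at this
  rw [this, show ((K.index : ℕ) : ℂ) = (((K.index : ℕ) : ℝ) : ℂ) by push_cast; rfl, Complex.re_ofReal_mul]

theorem card_eq (hC : PartCoh A L H K ν T ζ) :
    (Nat.card ↥K : ℝ) = (size T : ℝ) +
      ∑ θ ∈ (Finset.univ.erase (trivIrr ↥K)) \ T, (Cfsg.charDegree (θ : ↥K → ℂ) : ℝ) ^ 2 := by
  have h := sum_sq_apply_one (G := ↥K)
  rw [← Finset.add_sum_erase _ _ (Finset.mem_univ (trivIrr ↥K)),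
    ← Finset.sum_sdiff (s₁ := T) (s₂ := Finset.univ.erase (trivIrr ↥K)) fun θ hθ =>
        Finset.mem_erase.2 ⟨fun (e : θ = trivIrr ↥K) => trivIrr_not_mem hC (e ▸ hθ), Finset.mem_univ _⟩] at h
  have e1 : ((trivIrr ↥K : IrrCharacter ↥K) : ↥K → ℂ) 1 = 1 := rfl
  simp only [e1, deg_cast, one_pow, ← Nat.cast_pow, ← Nat.cast_sum, ← Nat.cast_add] at h
  rw [← Nat.cast_one, ← Nat.cast_add, Nat.cast_inj] at h
  rw [← h, size]
  push_cast
  ring

/-- The general lower bound. -/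
theorem norm_proj (hC : PartCoh A L H K ν T ζ) (c : ℤ)
    (hc : 1 + classInner (ν ζ) (PFCoherentDade.beta A L H K ζ) = (c : ℂ)) :
    1 - (K.index : ℝ) / size T - 2 * (c : ℝ) / size T +
      (c : ℝ) ^ 2 * ((size T : ℝ) - 1) / ((size T : ℝ) * K.index) ≤
      (classInner (invDade A L H (ν ζ)) (invDade A L H (ν ζ))).re := by
  obtain ⟨z, hz⟩ := norm_eq hC c hc
  set U := (Finset.univ.erase (trivIrr ↥K)) \ T with hUdef
  set F : ℝ := ∑ θ ∈ U, (Cfsg.charDegree (θ : ↥K → ℂ) : ℝ) ^ 2 with hF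
  set Sz : ℝ := ∑ θ ∈ U, (z θ : ℝ) ^ 2 with hS
  set Z : ℝ := ∑ θ ∈ U, (z θ : ℝ) * (Cfsg.charDegree (θ : ↥K → ℂ) : ℝ) with hZ
  have hCS : Z ^ 2 ≤ Sz * F := Finset.sum_mul_sq_le_sq_mul_sq U _ _
  have hh := card_eq hC
  rw [← hF] at hh
  have hn1 : (1 : ℝ) ≤ size T := by exact_mod_cast Nat.le_add_right 1 _
  have hF0 : 0 ≤ F := Finset.sum_nonneg fun _ _ => sq_nonneg _
  have hS0 : 0 ≤ Sz := Finset.sum_nonneg fun _ _ => sq_nonneg _
  have he : (0 : ℝ) < K.index := Nat.cast_pos.2 (Nat.pos_of_ne_zero Subgroup.index_ne_zero_of_finite)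
  set n : ℝ := (size T : ℝ) with hn
  set P : ℝ := (K.index : ℝ) - c * (n - 1) with hP
  have key : (P + Z) ^ 2 / (n + F) ≤ P ^ 2 / n + Sz := by
    rw [div_le_iff₀ (by linarith)]
    have e : (P ^ 2 / n + Sz) * (n + F) = P ^ 2 + P ^ 2 * F / n + Sz * n + Sz * F := by
      field_simp; ring
    rw [e]
    have h2 : 2 * P * Z ≤ P ^ 2 * F / n + Sz * n := by
      by_contra hcon
      push Not at hcon
      have h3 : 0 ≤ P ^ 2 * F / n + Sz * n := by positivity
      have h5 : (2 * P * Z) ^ 2 ≤ (P ^ 2 * F / n + Sz * n) ^ 2 := by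
        have e2 : (P ^ 2 * F / n + Sz * n) ^ 2 - 4 * P ^ 2 * (Sz * F) =
            (P ^ 2 * F / n - Sz * n) ^ 2 := by field_simp; ring
        nlinarith [sq_nonneg (P ^ 2 * F / n - Sz * n), mul_le_mul_of_nonneg_left hCS (sq_nonneg P)]
      nlinarith
    nlinarith
  rw [hh] at hz
  have e : 1 - (K.index : ℝ) / n - 2 * (c : ℝ) / n + (c : ℝ) ^ 2 * (n - 1) / (n * K.index) =
      ((K.index : ℝ) - 2 * K.index * c + (n - 1) * (c : ℝ) ^ 2 - P ^ 2 / n) / K.index := by
    rw [hP]; field_simp; ring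
  rw [e, div_le_iff₀ he]
  linarith

/-- When the degrees outside the family are small, only `e / |K|` is lost. -/
theorem norm_small (hC : PartCoh A L H K ν T ζ)
    (hc : 1 + classInner (ν ζ) (PFCoherentDade.beta A L H K ζ) = 0)
    (hU : ∀ θ : IrrCharacter ↥K, (θ : ↥K → ℂ) ≠ (fun _ => 1) → θ ∉ T →
      2 * K.index * Cfsg.charDegree (θ : ↥K → ℂ) ≤ size T) :
    1 - (K.index : ℝ) / Nat.card ↥K ≤
      (classInner (invDade A L H (ν ζ)) (invDade A L H (ν ζ))).re := by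
  obtain ⟨z, hz⟩ := norm_eq hC 0 (by rw [hc]; simp)
  set U := (Finset.univ.erase (trivIrr ↥K)) \ T with hUdef
  set F : ℝ := ∑ θ ∈ U, (Cfsg.charDegree (θ : ↥K → ℂ) : ℝ) ^ 2 with hF
  set Sz : ℝ := ∑ θ ∈ U, (z θ : ℝ) ^ 2 with hS
  set Z : ℝ := ∑ θ ∈ U, (z θ : ℝ) * (Cfsg.charDegree (θ : ↥K → ℂ) : ℝ) with hZ
  have hCS : Z ^ 2 ≤ Sz * F := Finset.sum_mul_sq_le_sq_mul_sq U _ _
  have hh := card_eq hC
  rw [← hF] at hh
  have he : (0 : ℝ) < K.index := Nat.cast_pos.2 (Nat.pos_of_ne_zero Subgroup.index_ne_zero_of_finite)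
  have hlin : 2 * (K.index : ℝ) * Z ≤ (size T : ℝ) * Sz := by
    rw [hZ, hS, Finset.mul_sum, Finset.mul_sum]
    refine Finset.sum_le_sum fun θ hθ => ?_
    simp only [hUdef, Finset.mem_sdiff, Finset.mem_erase] at hθ
    have hd : 2 * (K.index : ℝ) * (Cfsg.charDegree (θ : ↥K → ℂ) : ℝ) ≤ (size T : ℝ) := by
      exact_mod_cast hU θ (fun e => hθ.1.1 (Subtype.ext e)) hθ.2
    rcases le_or_gt (z θ) 0 with h | h
    · have h' : (z θ : ℝ) ≤ 0 := by exact_mod_cast h
      have : 0 ≤ (size T : ℝ) * (z θ : ℝ) ^ 2 := by positivity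
      nlinarith [mul_nonneg he.le (Nat.cast_nonneg (α := ℝ) (Cfsg.charDegree (θ : ↥K → ℂ)))]
    · have h' : (1 : ℝ) ≤ (z θ : ℝ) := by exact_mod_cast h
      have h0 : (0 : ℝ) ≤ (size T : ℝ) := Nat.cast_nonneg _
      nlinarith [mul_le_mul_of_nonneg_right hd (show (0 : ℝ) ≤ z θ by linarith),
        mul_le_mul_of_nonneg_left h' (mul_nonneg h0 (show (0 : ℝ) ≤ z θ by linarith))]
  have hpos : (0 : ℝ) < Nat.card ↥K := Nat.cast_pos.2 Nat.card_pos
  simp only [Int.cast_zero, mul_zero, zero_mul, sub_zero, zero_pow two_ne_zero, add_zero] at hz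
  have key : ((K.index : ℝ) + Z) ^ 2 / Nat.card ↥K ≤ (K.index : ℝ) ^ 2 / Nat.card ↥K + Sz := by
    rw [div_add' _ _ _ hpos.ne', div_le_div_iff_of_pos_right hpos, hh]
    nlinarith
  have e : 1 - (K.index : ℝ) / Nat.card ↥K =
      ((K.index : ℝ) - (K.index : ℝ) ^ 2 / Nat.card ↥K) / K.index := by field_simp
  rw [e, div_le_iff₀ he]
  linarith

end norm

/-- `ν` commutes with complex conjugation on `ζ`. -/
theorem nu_conj (hC : PartCoh A L H K ν T ζ) : conjFun (ν ζ) = ν (conjFun ζ) := by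
  set ζ' := conjFun ζ with hζ'
  have hz := subset_zspan hC.mem
  have hz' := subset_zspan hC.conj_mem
  have hirr' : IsIrrCharacter ↥L ζ' := conjFun_isIrr hC.irr
  have h11 : classInner (ν ζ) (ν ζ) = 1 := nu_norm hC
  have h22 : classInner (ν ζ') (ν ζ') = 1 := by rw [hC.iso.2.2.1 _ hz' _ hz', classInner_irr_self hirr']
  have h12 : classInner (ν ζ) (ν ζ') = 0 := by
    rw [hC.iso.2.2.1 _ hz _ hz', classInner_irr_ne hC.irr hirr' hC.conj_ne.symm]
  have h21 : classInner (ν ζ') (ν ζ) = 0 := by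
    rw [hC.iso.2.2.1 _ hz' _ hz, classInner_irr_ne hirr' hC.irr hC.conj_ne]
  have g1 : IsGeneralizedCharacter G (ν ζ) := nu_gen hC
  have g2 : IsGeneralizedCharacter G (ν ζ') := hC.iso.2.2.2 _ hz'
  have s1 : SignedIrr (ν ζ) := nu_signed hC
  have s2 : SignedIrr (ν ζ') := si_of_norm_one g2 h22
  have hsub : ζ - ζ' ∈ zspanOn (fam K T) {1}ᶜ :=
    mem_zspanOn_one (zspan_sub hz hz') (by
      simp [hζ', conjFun_apply_one (isCharacter_of_isIrrCharacter hC.irr)])
  have e : ν ζ - ν ζ' = dadeIsometry A L H (ζ - ζ') := by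
    rw [← span_map_sub hC.iso hz hz', hC.ext _ hsub]
  have hΔ : conjFun (ν ζ - ν ζ') = -(ν ζ - ν ζ') := by
    rw [e, ← dade_conjFun,
      show conjFun (ζ - ζ') = -(ζ - ζ') from funext fun x => by simp [hζ', conjFun]]
    funext g; simp only [dadeIsometry, Pi.neg_apply]; split_ifs <;> simp
  have hc1 : IsGeneralizedCharacter G (conjFun (ν ζ)) := by
    obtain ⟨a, b, ha, hb, hab⟩ := g1
    exact ⟨conjFun a, conjFun b, isCharacter_conj ha, isCharacter_conj hb, by
      funext x; simp [hab, conjFun]⟩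
  have hcs : SignedIrr (conjFun (ν ζ)) := si_of_norm_one hc1 (by rw [classInner_conjFun, h11, map_one])
  have key : classInner (conjFun (ν ζ)) (ν ζ - ν ζ') = -1 := by
    have h := classInner_conjFun (ν ζ) (ν ζ - ν ζ')
    rw [hΔ, CharBasicOrth.classInner_neg_right, CharBasicOrth.classInner_sub_right (ν ζ), h11, h12,
      sub_zero, map_one] at h
    linear_combination -h
  rcases si_cases hcs s2 with h | ⟨ε, hε, he, -⟩
  · exfalso
    rw [CharBasicOrth.classInner_sub_right, h, sub_zero] at key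
    rcases si_cases hcs s1 with h' | ⟨ε, hε, he, he'⟩
    · rw [h'] at key; norm_num at key
    rw [key] at he'
    have hε1 : ε = -1 := by exact_mod_cast he'.symm
    subst hε1
    have hneg := congrFun he 1
    simp only [conjFun, Pi.smul_apply, smul_eq_mul] at hneg
    rcases s1 with h' | h'
    · obtain ⟨n, hn0, hn⟩ := isIrrCharacter_apply_one h'
      rw [hn] at hneg
      push_cast at hneg
      rw [map_natCast] at hneg
      have : (n : ℂ) = 0 := by linear_combination hneg / 2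
      simp only [Nat.cast_eq_zero] at this
      omega
    · obtain ⟨n, hn0, hn⟩ := isIrrCharacter_apply_one h'
      simp only [Pi.neg_apply] at hn
      rw [show ν ζ 1 = -(n : ℂ) by rw [← hn, neg_neg]] at hneg
      push_cast at hneg
      rw [map_neg, map_natCast] at hneg
      have : (n : ℂ) = 0 := by linear_combination (-1/2 : ℂ) * hneg
      simp only [Nat.cast_eq_zero] at this
      omega
  · have h0 : classInner (conjFun (ν ζ)) (ν ζ) = 0 := by
      have h := h21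
      rw [he, CharBasicOrth.classInner_smul_left, mul_eq_zero] at h
      rcases h with h | h
      · rcases hε with rfl | rfl <;> norm_num at h
      · exact h
    have hε1 : ε = 1 := by
      rw [CharBasicOrth.classInner_sub_right, h0, he, CharBasicOrth.classInner_smul_right,
        si_self hcs, mul_one, Complex.conj_ofReal] at key
      have : (ε : ℂ) = 1 := by linear_combination -key
      exact_mod_cast this
    subst hε1
    simpa using he.symm

/-- `ν ζ - conj (ν ζ)` is the Dade image of `ζ - conj ζ`. -/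
theorem nu_sub_conj (hC : PartCoh A L H K ν T ζ) :
    ν ζ - conjFun (ν ζ) = dadeIsometry A L H (ζ - conjFun ζ) := by
  rw [nu_conj hC, ← span_map_sub hC.iso (subset_zspan hC.mem) (subset_zspan hC.conj_mem)]
  exact hC.ext _ (mem_zspanOn_one (zspan_sub (subset_zspan hC.mem) (subset_zspan hC.conj_mem)) (by
    simp [conjFun_apply_one (isCharacter_of_isIrrCharacter hC.irr)]))

end Cfsg.Agent.PFPartialCoh
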