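import Cfsg.Agent.Lib.BGSigmaShared

/-!
Bender-Glauberman 13.9: nonconjugate maximal subgroups have disjoint sets of sigma primes.
-/

set_option autoImplicit false
set_option linter.style.haveILetI false

namespace Cfsg.Agent.BGSigmaPartition

open Subgroup
open Cfsg.Agent.BGUnique
open Cfsg.Agent.HallCore
open Cfsg.Agent.BGPrime
open scoped commutatorElement Pointwise

universe u

variable {G : Type u} [Group G] [Finite G]
variable {q : ℕ} [hq : Fact q.Prime] {M H S : Subgroup G} (hG : Cfsg.IsMinSimpleOddOrder G)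
  {p : ℕ} [hpf : Fact p.Prime] {P : Subgroup G}
include hG

omit hq in
theorem eq_order_subgroup {s : ℕ} [Fact s.Prime] {R : Subgroup G} (hR : Nat.card R = s) {t : G}
    (ht : t ∈ R) (ht1 : t ≠ 1) : zpowers t = R :=
  eq_of_le_of_card_ge (zpowers_le.2 ht) (by
    rw [hR, Nat.card_zpowers]
    rcases (Nat.dvd_prime (Fact.out : s.Prime)).1 (hR ▸ R.orderOf_dvd_natCard ht) with h | h
    · exact absurd (orderOf_eq_one_iff.1 h) ht1
    · exact h.ge)

/-- No element of a prime of `β(H)` in `M ∩ H` is fixed by an operator acting fixed point freely on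
`S`. -/
theorem no_fixed_in_both (h : Shared q M H S) (hpM : p ∈ Cfsg.tau1 M) (hpH : p ∈ Cfsg.tau1 H)
    (hP : Nat.card P = p) (hPN : P ≤ normalizer (S : Set G))
    (hfix : S ⊓ centralizer (P : Set G) = ⊥) {a : ℕ} (ha : a ∈ Cfsg.beta H) {X : Subgroup G}
    (hX : Nat.card X = a) (hXM : X ≤ M) (hXH : X ≤ H) (hXP : X ≤ centralizer (P : Set G)) :
    False := by
  haveI := Fact.mk ha.1.1
  have haM : a ∉ Cfsg.sigma M := h.symm.beta_disjoint hG ha
  have haH : a ∈ Cfsg.sigma H := BGSigma.alpha_subset hG h.hH ha.1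
  have hXp := isPGroup_card_prime hX
  have hPM : P ≤ M := hPN.trans ((h.normalizer_le hG).trans inf_le_left)
  have hPH : P ≤ H := hPN.trans ((h.normalizer_le hG).trans inf_le_right)
  have hPX : P ≤ centralizer (X : Set G) := le_centralizer_iff.1 hXP
  have hS0 : S ≠ ⊥ := fun e => by
    obtain ⟨T, hT⟩ := h.maxM.exists_sylow
    rw [e, map_eq_bot_iff_of_injective _ M.subtype_injective] at hT
    exact T.ne_bot_of_dvd_card h.qM.2.1 hT
  have hSD : S ≤ Cfsg.sigmaCore M ⊓ H := le_inf (h.le_sigmaCore hG) h.maxH.le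
  have hra := h.rank_one hG haM
  by_cases hd : a ∣ Nat.card ↥⁅M, M⁆
  swap
  · -- `a ∈ τ₁(M)`
    have hXS := centralizes_of_le_commutator hG h.hH h.hM h.ne haM hXp (le_inf hXM hXH)
      (le_commutator_of_sigma_tau3 hG h.hH (Or.inl haH) hXp hXH)
    have h1 := centralizes_fixed hG h.hM (P := X) (R := P)
      ⟨ha.1.1, haM, hX ▸ card_dvd_of_le hXM, hd, hra⟩ hpM.1 hpM.2.1 hX hP hXM hPM hPX
    refine hS0 (le_bot_iff.1 ?_)
    rw [← hfix]
    exact le_inf le_rfl ((le_inf (h.le_sigmaCore hG)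
      (le_centralizer_iff.1 (hXS.trans (centralizer_le (show (S : Set G) ⊆ _ from hSD))))).trans h1)
  -- `a ∈ τ₃(M)`
  have ha3 : a ∈ Cfsg.tau3 M := ⟨ha.1.1, haM, hd, hra⟩
  obtain ⟨E, hE, hPE, hXE⟩ := exists_compl_pair hG h.hM hpM.1 ha.1.1 hpM.2.1 haM hP hX hPM hXM
    (hXP.trans (centralizer_le_normalizer _))
  have hEM : E ≤ M := hE.1
  have hXE' : X ≤ ⁅E, E⁆ := by
    rw [← compl_inf_commutator (le_normalizer_sigmaCore M) hE]
    exact le_inf hXE (le_commutator_of_sigma_tau3 hG h.hM (Or.inr ha3) hXp hXM)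
  have hab := (S1420.result hG M h.hM E hE).2.1
  have hEX : E ≤ normalizer (X : Set G) := by
    intro e he
    refine CoprimeAction.mem_normalizer_of_conj_smul_eq ?_
    have hle : MulAut.conj e • X ≤ ⁅E, E⁆ := by
      rintro _ ⟨y, hy, rfl⟩
      exact (mem_normalizer_iff.1 ((le_normalizer.trans (le_normalizer_commutator_self E)) he)
        y).1 (hXE' hy)
    exact (eq_of_commute hra hXM (hle.trans ((commutator_le_self E).trans hEM)) hX
      (by rw [CoprimeSZ.card_conj_smul, hX]) fun x hx y hy =>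
        PGroupsBasic.comm_of_isMulCommutative hab (hXE' hx) (hle hy)).symm
  have hX1 := card_prime_ne_bot hX
  have hNX : normalizer (X : Set G) ≤ H := BGSigma.normalizer_le_of_beta hG h.hH hXH hX1
    fun r hr hd => by
      rw [hX] at hd
      exact (Nat.prime_dvd_prime_iff_eq hr ha.1.1).1 hd ▸ ha
  have hEH : E ≤ H := hEX.trans hNX
  have hEs := isSolvable_of_le_coatom hG h.hM hEM
  obtain ⟨E₁, hE₁, hPE₁⟩ := BGTypeP.exists_hallOf_ge hEs (Cfsg.tau1 M) hPE
    (BGSigma.piNat_of_isPGroup (isPGroup_card_prime hP) hpM)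
  obtain ⟨E₃, hE₃, -⟩ := BGTypeP.exists_hallOf_ge hEs (Cfsg.tau3 M) hXE
    (BGSigma.piNat_of_isPGroup hXp ha3)
  obtain ⟨-, hcyc1, hcyc3⟩ := S1415.result hG M h.hM E hE
  obtain ⟨hE₃c, -, hE₃n⟩ := hcyc3 E₃ hE₃
  have hE₁c := hcyc1 E₁ hE₁
  have hsup : E ≤ E₃ ⊔ E₁ := by
    rw [← relIndex_eq_one]
    by_contra hne
    obtain ⟨r, hr, hd⟩ := Nat.exists_prime_and_dvd hne
    haveI := Fact.mk hr
    have hrσ : r ∉ Cfsg.sigma M := compl_not_sigma hG h.hM hE hr
      (hd.trans (relIndex_dvd_card _ _))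
    have hrd : r ∣ Nat.card M :=
      (hd.trans (relIndex_dvd_card _ _)).trans (card_dvd_of_le hEM)
    by_cases hrD : r ∣ Nat.card ↥⁅M, M⁆
    · exact hE₃.2.2 r hr ⟨hr, hrσ, hrD, h.rank_one hG hrσ⟩
        (hd.trans (relIndex_dvd_of_le_left E le_sup_left))
    · exact hE₁.2.2 r hr ⟨hr, hrσ, hrd, hrD, h.rank_one hG hrσ⟩
        (hd.trans (relIndex_dvd_of_le_left E le_sup_right))
  have hnot : ¬ E₁ ≤ centralizer (X : Set G) := by
    intro hc
    have hX3 : X ≤ E₃ := BGTypeP.le_of_normal_hall hE₃ hE₃n hXE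
      (BGSigma.piNat_of_isPGroup hXp ha3)
    have hc3 : E₃ ≤ centralizer (X : Set G) := by
      haveI := hE₃c
      intro e he
      refine mem_centralizer_iff.2 fun x hx => ?_
      letI : CommGroup E₃ := IsCyclic.commGroup
      exact congrArg Subtype.val (mul_comm (⟨x, hX3 hx⟩ : E₃) ⟨e, he⟩)
    have hEC : E ≤ centralizer (X : Set G) := hsup.trans (sup_le hc3 hc)
    obtain ⟨T, hT, hXT⟩ := exists_isMaxP_ge hXp hXE
    obtain ⟨T', hT'⟩ := hT.exists_sylow
    haveI : IsMulCommutative (T' : Subgroup E) := by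
      haveI := isCyclic_of_rank_one hG hra hT.isPGroup (hT.le.trans hEM)
      letI : CommGroup T := IsCyclic.commGroup
      refine PGroupsBasic.isMulCommutative_of_forall fun u hu v hv => ?_
      have hu' : (u : G) ∈ T := hT' ▸ mem_map_of_mem E.subtype hu
      have hv' : (v : G) ∈ T := hT' ▸ mem_map_of_mem E.subtype hv
      have hcomm : (u : G) * v = v * u :=
        congrArg Subtype.val (mul_comm (⟨u, hu'⟩ : T) ⟨v, hv'⟩)
      exact Subtype.ext hcomm
    obtain ⟨x, hx, hx1⟩ := X.bot_or_exists_ne_one.resolve_left hX1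
    have hxT' : (⟨x, hXE hx⟩ : E) ∈ (T' : Subgroup E) := by
      obtain ⟨y, hy, hyx⟩ : x ∈ (T' : Subgroup E).map E.subtype := hT'.symm ▸ hXT hx
      exact (Subtype.ext hyx : y = ⟨x, _⟩) ▸ hy
    refine hx1 (congrArg Subtype.val (TransferPow.eq_one_of_mem_center_commutator hxT'
      (mem_center_iff.2 fun e => Subtype.ext (mem_centralizer_iff.1 (hEC e.2) x hx).symm) ?_ ?_))
    · have h2 : x ∈ ⁅E, E⁆ := hXE' hx
      rw [← map_subtype_commutator] at h2
      obtain ⟨y, hy, hyx⟩ := h2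
      exact (Subtype.ext hyx : y = ⟨x, _⟩) ▸ hy
    · rw [orderOf_mk]
      refine Nat.Coprime.symm (Nat.Coprime.coprime_dvd_left (X.orderOf_dvd_natCard hx) ?_)
      rw [hX]
      exact ha.1.1.coprime_iff_not_dvd.2 T'.not_dvd_index
  obtain ⟨r, hr, A, hA, hAE, hAne⟩ : ∃ r : ℕ, r.Prime ∧ ∃ A : Subgroup G, IsPGroup r A ∧ A ≤ E₁ ∧
      ¬ A ≤ centralizer (X : Set G) := by
    by_contra hall
    refine hnot (le_of_qgroups fun r hr => ?_)
    haveI := Fact.mk hr
    obtain ⟨A⟩ := (inferInstance : Nonempty (Sylow r E₁))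
    refine ⟨_, map_subtype_le _, by_contra fun hne => hall ⟨r, hr, _, A.isPGroup'.map _,
      map_subtype_le _, hne⟩, ?_⟩
    rw [card_map_of_injective E₁.subtype_injective]
    exact A.card_eq_multiplicity
  haveI := Fact.mk hr
  obtain ⟨g, hgA, hgX⟩ := SetLike.not_le_iff_exists.1 hAne
  have hgE₁ : g ∈ E₁ := hAE hgA
  have hgp : IsPGroup r ↥(zpowers g) := hA.to_le (zpowers_le.2 hgA)
  have hgH : g ∈ H := hEH (hE₁.1 hgE₁)
  have hgM : g ∈ M := hEM (hE₁.1 hgE₁)
  have hg1 : g ≠ 1 := fun e => hgX (e ▸ one_mem _)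
  obtain ⟨r', hr', hr'g, g₁, hg₁, hg₁o⟩ := BGTypeP.exists_prime_order (orderOf_pos g).ne' hg1
  obtain ⟨i, hi⟩ := IsPGroup.iff_card.1 hgp
  rw [Nat.card_zpowers] at hi
  rw [hi] at hr'g
  have hrr := (Nat.prime_dvd_prime_iff_eq hr' hr).1 (hr'.dvd_of_dvd_pow hr'g)
  subst hrr
  set R := zpowers g₁ with hRdef
  have hR : Nat.card R = r' := by rw [Nat.card_zpowers, hg₁o]
  have hRg : R ≤ zpowers g := zpowers_le.2 hg₁
  have hr1 : r' ∈ Cfsg.tau1 M := hE₁.2.1 r' hr
    (hR ▸ card_dvd_of_le (hRg.trans (zpowers_le.2 hgE₁)))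
  have hRP : R ≤ centralizer (P : Set G) := by
    intro y hy
    refine mem_centralizer_iff.2 fun z hz => ?_
    haveI := hE₁c
    letI : CommGroup E₁ := IsCyclic.commGroup
    exact congrArg Subtype.val (mul_comm (⟨z, hPE₁ hz⟩ : E₁) ⟨y, (zpowers_le.2 hgE₁) (hRg hy)⟩)
  have hrH : r' ∉ Cfsg.sigma H := by
    intro hσ
    have hcent := centralizes_of_le_commutator hG h.hH h.hM h.ne hr1.2.1 hgp
      (le_inf (zpowers_le.2 hgM) (zpowers_le.2 hgH))
      (le_commutator_of_sigma_tau3 hG h.hH (Or.inl hσ) hgp (zpowers_le.2 hgH))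
    have hSR : S ≤ centralizer (R : Set G) := le_centralizer_iff.1
      (hRg.trans (hcent.trans (centralizer_le (show (S : Set G) ⊆ _ from hSD))))
    have h1 := centralizes_fixed hG h.hM (P := R) (R := P) hr1 hpM.1 hpM.2.1 hR hP
      (hRg.trans (zpowers_le.2 hgM)) hPM (le_centralizer_iff.1 hRP)
    exact hS0 (le_bot_iff.1 (hfix ▸ le_inf le_rfl ((le_inf (h.le_sigmaCore hG) hSR).trans h1)))
  have h1 := centralizes_fixed hG h.hH hpH hr hrH hP hR hPH (hRg.trans (zpowers_le.2 hgH)) hRP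
  refine hgX (mem_centralizer_iff.2 fun x hx => ?_)
  have hxH : x ∈ Cfsg.sigmaCore H :=
    BGTypeP.le_sigmaCore hG h.hH hXH (BGSigma.piNat_of_isPGroup hXp haH) hx
  exact (prime_action_element hG h.hH hrH (h.symm.rank_one hG hrH) hgH hgp hg₁
    (fun e => by rw [e, orderOf_one] at hg₁o; exact hr.one_lt.ne hg₁o) hxH
    (mem_centralizer_iff.1 (h1 ⟨hxH, hXP hx⟩) g₁ (mem_zpowers g₁)).symm).eq

/-- No element of a prime of `β(H)` in `C_M(P)`. -/
theorem no_fixed_element (h : Shared q M H S) (hpM : p ∈ Cfsg.tau1 M) (hpH : p ∈ Cfsg.tau1 H)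
    (hP : Nat.card P = p) (hPN : P ≤ normalizer (S : Set G))
    (hfix : S ⊓ centralizer (P : Set G) = ⊥) {b : ℕ} (hb : b ∈ Cfsg.beta H) {X : Subgroup G}
    (hX : Nat.card X = b) (hXM : X ≤ M) (hXP : X ≤ centralizer (P : Set G)) : False := by
  haveI := Fact.mk hb.1.1
  have hbM : b ∉ Cfsg.sigma M := h.symm.beta_disjoint hG hb
  have hPM : P ≤ M := hPN.trans ((h.normalizer_le hG).trans inf_le_left)
  set K := Cfsg.sigmaCore M with hK
  have hKs := isSolvable_of_le_coatom hG h.hM (sigmaCore_le M)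
  set W := P ⊔ X with hW
  have hWM : W ≤ M := sup_le hPM hXM
  have hcop : ∀ {A : Subgroup G}, A ≤ W → (Nat.card A).Coprime (Nat.card K) := fun {A} hA =>
    Nat.coprime_of_dvd fun r hr h1 h2 => by
      have h3 := (h1.trans (card_dvd_of_le hA)).trans
        (card_sup_dvd_mul (hXP.trans (centralizer_le_normalizer _)))
      rw [hP, hX] at h3
      have hrσ := piNat_sigmaCore M r hr h2
      rcases hr.dvd_mul.1 h3 with h4 | h4
      · exact hpM.2.1 ((Nat.prime_dvd_prime_iff_eq hr hpM.1).1 h4 ▸ hrσ)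
      · exact hbM ((Nat.prime_dvd_prime_iff_eq hr hb.1.1).1 h4 ▸ hrσ)
  obtain ⟨S₂, hS₂⟩ := CoprimeAction.exists_invariant_sylow (A := W) (K := K)
    (hWM.trans (le_normalizer_sigmaCore M)) (hcop le_rfl) (Or.inr hKs) q
  have hSK : S ≤ K := h.le_sigmaCore hG
  obtain ⟨S₁, hS₁⟩ := (isMaxP_mono h.maxM hSK (sigmaCore_le M)).exists_sylow
  obtain ⟨c, hcP, hc⟩ := CoprimeAction.invariant_sylow_conj (A := P) (K := K)
    (hPM.trans (le_normalizer_sigmaCore M)) (hcop le_sup_left) (Or.inr hKs) S₂ S₁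
    (le_sup_left.trans hS₂) (by rw [hS₁]; exact hPN)
  have he : MulAut.conj (c : G) • (S₂ : Subgroup K).map K.subtype = S := by
    rw [← hS₁, ← hc]
    ext x
    constructor
    · rintro ⟨_, ⟨y, hy, rfl⟩, rfl⟩
      exact ⟨MulAut.conj c y, ⟨y, hy, rfl⟩, rfl⟩
    · rintro ⟨_, ⟨y, hy, rfl⟩, rfl⟩
      exact ⟨_, ⟨y, hy, rfl⟩, rfl⟩
  have hcM : (c : G) ∈ M := sigmaCore_le M c.2
  have hcX : MulAut.conj (c : G) • X ≤ normalizer (S : Set G) := by
    rintro _ ⟨x, hx, rfl⟩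
    refine CoprimeAction.mem_normalizer_of_conj_smul_eq ?_
    show MulAut.conj ((c : G) * x * (c : G)⁻¹) • S = S
    rw [map_mul, map_mul, mul_smul, mul_smul]
    conv_lhs => rw [← he, map_inv, inv_smul_smul,
      BGSigma.conj_le_normalizer (hS₂ (mem_sup_right hx)), he]
  refine no_fixed_in_both hG h hpM hpH hP hPN hfix hb (X := MulAut.conj (c : G) • X)
    (by rw [CoprimeSZ.card_conj_smul, hX]) ?_ (hcX.trans ((h.normalizer_le hG).trans inf_le_right)) ?_
  · rintro _ ⟨x, hx, rfl⟩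
    exact M.mul_mem (M.mul_mem hcM (hXM hx)) (M.inv_mem hcM)
  · rintro _ ⟨x, hx, rfl⟩
    exact mul_mem (mul_mem hcP (hXP hx)) (inv_mem hcP)

/-- An element of a prime of `β(M)` is fixed by `P`. -/
theorem exists_beta_fixed (h : Shared q M H S) (hpM : p ∈ Cfsg.tau1 M)
    (hP : Nat.card P = p) (hPN : P ≤ normalizer (S : Set G))
    (hfix : S ⊓ centralizer (P : Set G) = ⊥) :
    ∃ a : ℕ, a ∈ Cfsg.beta M ∧ ∃ Y : Subgroup G, Nat.card Y = a ∧ Y ≤ M ∧
      Y ≤ centralizer (P : Set G) := by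
  set B := Cfsg.piCoreOf (Cfsg.beta M) M with hB
  have hBhall := (S1414.result hG M h.hM).1
  have hBM : B ≤ M := hBhall.1
  have hPM : P ≤ M := hPN.trans ((h.normalizer_le hG).trans inf_le_left)
  have hpb : p ∉ Cfsg.beta M := fun hb => hpM.2.1 (BGSigma.alpha_subset hG h.hM hb.1)
  have hqb := h.not_beta hG
  have hSp := h.maxM.isPGroup
  suffices hne : B ⊓ centralizer (P : Set G) ≠ ⊥ by
    obtain ⟨a, ha, hd⟩ := Nat.exists_prime_and_dvd fun h1 => hne (eq_bot_of_card_eq _ h1)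
    haveI := Fact.mk ha
    obtain ⟨y, hy⟩ := exists_prime_orderOf_dvd_card' a hd
    exact ⟨a, hBhall.2.1 a ha (hd.trans (card_dvd_of_le inf_le_left)), zpowers (y : G),
      by rw [Nat.card_zpowers, orderOf_coe, hy], zpowers_le.2 (hBM y.2.1), zpowers_le.2 y.2.2⟩
  intro hbot
  have hSB : S ≤ centralizer (B : Set G) := by
    refine BGFrobeniusAct.le_centralizer (card_prime_ne_bot hP) hPN (fun t ht ht1 => ?_)
      (h.maxM.le.trans (BGSigma.le_normalizer_core _ M))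
      (hPM.trans (BGSigma.le_normalizer_core _ M))
      (Nat.coprime_of_dvd fun r hr h1 h2 =>
        BGSigma.piNat_of_isPGroup (π := {r | r ∉ Cfsg.beta M}) hSp hqb r hr h1
          (hBhall.2.1 r hr h2)) ?_ (isSolvable_of_le_coatom hG h.hM hBM) hbot
    · rw [eq_bot_iff, ← hfix, ← eq_order_subgroup hG hP ht ht1, zpowers_eq_closure,
        centralizer_closure]
    · rw [hP]
      exact hpM.1.coprime_iff_not_dvd.2 fun hd => hpb (hBhall.2.1 p hpM.1 hd)
  set K := Cfsg.sigmaCore M with hK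
  have hSK : S ≤ K := h.le_sigmaCore hG
  have hKN : K ≤ normalizer (S : Set G) := by
    refine le_of_qgroups fun r hr => ?_
    haveI := Fact.mk hr
    obtain ⟨R, hR⟩ : ∃ R, IsMaxP r R K := ⟨_, isMaxP_sylow K default⟩
    have hcard : ∀ {Q : Subgroup G}, IsMaxP r Q K →
        Nat.card Q = r ^ (Nat.card K).factorization r := fun hQ => by
      obtain ⟨Q', rfl⟩ := hQ.exists_sylow
      rw [card_map_of_injective K.subtype_injective]
      exact Q'.card_eq_multiplicity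
    by_cases hrd : r ∣ Nat.card K
    swap
    · exact ⟨⊥, bot_le, bot_le, by rw [card_bot, Nat.factorization_eq_zero_of_not_dvd hrd, pow_zero]⟩
    have hrσ := piNat_sigmaCore M r hr hrd
    by_cases hrb : r ∈ Cfsg.beta M
    · refine ⟨R, hR.le, ((le_centralizer_iff.1 hSB).trans (centralizer_le_normalizer _)) |>
        (le_trans (BGTypeP.le_of_normal_hall hBhall (BGSigma.le_normalizer_core _ M)
          (hR.le.trans (sigmaCore_le M)) (BGSigma.piNat_of_isPGroup hR.isPGroup hrb))), hcard hR⟩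
    by_cases hrq : r = q
    · subst hrq
      exact ⟨S, hSK, le_normalizer, hcard (isMaxP_mono h.maxM hSK (sigmaCore_le M))⟩
    obtain ⟨T₀, hT₀⟩ : ∃ T₀, IsMaxP r T₀ M := ⟨_, isMaxP_sylow M default⟩
    obtain ⟨T, hT, hTS⟩ := exists_commuting_sylow hG h.hM hrq hrb hqb hSp (h.le_derived hG) hT₀
      (BGSigma.le_commutator hG h.hM hrσ hT₀)
    have hTK : T ≤ K :=
      BGTypeP.le_sigmaCore hG h.hM hT.le (BGSigma.piNat_of_isPGroup hT.isPGroup hrσ)
    exact ⟨T, hTK, hTS.trans (centralizer_le_normalizer _),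
      hcard (isMaxP_mono hT hTK (sigmaCore_le M))⟩
  obtain ⟨S', hS'⟩ := (isMaxP_mono h.maxM hSK (sigmaCore_le M)).exists_sylow
  have hn : (S' : Subgroup K).Normal := by
    have h1 : (S.subgroupOf K).Normal := normal_subgroupOf_of_le_normalizer hKN
    rwa [← hS', BGSigma.subgroupOf_map_subtype_self] at h1
  haveI : (S' : Subgroup K).Characteristic := Sylow.characteristic_of_normal S' hn
  have hMS : M ≤ normalizer (S : Set G) := hS' ▸ (le_normalizer_sigmaCore M).trans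
    (ComponentsCores.normalizer_le_normalizer_map_subtype K _)
  rcases h.hM.le_iff.1 (hMS.trans ((h.normalizer_le hG).trans inf_le_right)) with e | e
  · exact h.hH.1 e
  · exact h.ne 1 (by rw [e]; exact (BGTypeP.cj_one M).symm)

omit hq hpf in
/-- In a complement for `L`, `C(P)` normalizes into `M` unless the prime is in `τ₁(L)`. -/
theorem hall_le_of_not_tau1 {L : Subgroup G} (hL : IsCoatom L) (hM : IsCoatom M)
    {a : ℕ} [Fact a.Prime] (haM : a ∈ Cfsg.beta M) (haL : a ∉ Cfsg.sigma L)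
    (ha1 : a ∉ Cfsg.tau1 L) {E E₀ Y : Subgroup G} (hE : Cfsg.IsComplIn E (Cfsg.sigmaCore L) L)
    (hE₀ : E₀ ≤ E) (hE₀P : E₀ ≤ centralizer (P : Set G)) (hY : Nat.card Y = a) (hYE : Y ≤ E₀)
    (hYM : Y ≤ M) : E₀ ≤ M := by
  have hY1 := card_prime_ne_bot hY
  have hNY : normalizer (Y : Set G) ≤ M := BGSigma.normalizer_le_of_beta hG hM hYM hY1
    fun r hr hd => by
      rw [hY] at hd
      exact (Nat.prime_dvd_prime_iff_eq hr Fact.out).1 hd ▸ haM
  have hYL : Y ≤ L := hYE.trans (hE₀.trans hE.1)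
  by_cases hr : Cfsg.PRankLE a 1 L
  · -- `a ∈ τ₃(L)`
    have hd : a ∣ Nat.card ↥⁅L, L⁆ := by_contra fun hd =>
      ha1 ⟨Fact.out, haL, hY ▸ card_dvd_of_le hYL, hd, hr⟩
    have hab := (S1420.result hG L hL E hE).2.1
    have hYE' : Y ≤ ⁅E, E⁆ := by
      rw [← compl_inf_commutator (le_normalizer_sigmaCore L) hE]
      exact le_inf (hYE.trans hE₀) (le_commutator_of_sigma_tau3 hG hL
        (Or.inr ⟨Fact.out, haL, hd, hr⟩) (isPGroup_card_prime hY) hYL)
    refine le_trans (fun e he => ?_) hNY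
    refine CoprimeAction.mem_normalizer_of_conj_smul_eq ?_
    have hle : MulAut.conj e • Y ≤ ⁅E, E⁆ := by
      rintro _ ⟨y, hy, rfl⟩
      exact (mem_normalizer_iff.1 ((le_normalizer.trans (le_normalizer_commutator_self E))
        (hE₀ he)) y).1 (hYE' hy)
    exact (eq_of_commute hr hYL (hle.trans ((commutator_le_self E).trans hE.1)) hY
      (by rw [CoprimeSZ.card_conj_smul, hY]) fun x hx y hy =>
        PGroupsBasic.comm_of_isMulCommutative hab (hYE' hx) (hle hy)).symm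
  -- `a ∈ τ₂(L)`
  have ha2 := mem_tau2_of_not_rank_one hG hL haL hr
  obtain ⟨A, hAE, hA, hAc⟩ := exists_sq_in_compl hG hL hE ha2
  obtain ⟨⟨hEA, hAX⟩, -, -⟩ := S1418.result hG L hL E hE a ha2 A ⟨hAE, hA, hAc⟩
  have hYA := hAX Y (hYE.trans hE₀) hY
  by_cases hAP : A ≤ centralizer (P : Set G)
  · have hAY : A ≤ centralizer (Y : Set G) := fun x hx => mem_centralizer_iff.2 fun y hy =>
      PGroupsBasic.comm_of_isMulCommutative hA.1 (hYA hy) hx
    have hAM : A ≤ M := hAY.trans ((centralizer_le_normalizer _).trans hNY)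
    refine hE₀.trans (hEA.trans ?_)
    rw [BGSigma.normalizer_eq hG hM (BGSigma.alpha_subset hG hM haM.1)
      (PGroupsBasic.isPGroup_of_isElementaryAbelian hA)
      (ne_bot_of_le_ne_bot hY1 hYA) hAM]
    exact sup_le inf_le_left
      ((centralizer_le (show (Y : Set G) ⊆ A from hYA)).trans ((centralizer_le_normalizer _).trans hNY))
  · have he : Y = A ⊓ centralizer (P : Set G) := by
      refine eq_of_le_of_card_ge (le_inf hYA (hYE.trans hE₀P)) ?_
      rw [hY]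
      obtain ⟨k, hk⟩ := IsPGroup.iff_card.1
        ((PGroupsBasic.isPGroup_of_isElementaryAbelian hA).to_le
          (inf_le_left : A ⊓ centralizer (P : Set G) ≤ A))
      have hlt : Nat.card ↥(A ⊓ centralizer (P : Set G)) < Nat.card A :=
        lt_of_le_of_ne (card_le_of_le inf_le_left) fun e => hAP (by
          have := eq_of_le_of_card_ge (inf_le_left : A ⊓ centralizer (P : Set G) ≤ A) e.ge
          exact this ▸ inf_le_right)
      rw [hk, hAc] at hlt
      rw [hk]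
      calc a ^ k ≤ a ^ 1 := Nat.pow_le_pow_right (Fact.out : a.Prime).pos
            (by have := (Nat.pow_lt_pow_iff_right (Fact.out : a.Prime).one_lt).1 hlt; omega)
        _ = a := pow_one a
    refine le_trans ?_ hNY
    rw [he]
    exact CoprimeAction.le_normalizer_inf (hE₀.trans hEA) (hE₀P.trans le_normalizer)

theorem false_of_shared (h : Shared q M H S) : False := by
  obtain ⟨p', hpM, hpH, P', hP, hPN, hfix⟩ := h.exists_fpf hG
  haveI := Fact.mk hpM.1
  obtain ⟨a, ha, Y, hY, hYM, hYP⟩ := exists_beta_fixed hG h hpM hP hPN hfix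
  obtain ⟨b, hb, Z, hZ, hZH, hZP⟩ := exists_beta_fixed hG h.symm hpH hP hPN hfix
  haveI := Fact.mk ha.1.1
  haveI := Fact.mk hb.1.1
  have hPM : P' ≤ M := hPN.trans ((h.normalizer_le hG).trans inf_le_left)
  have hPH : P' ≤ H := hPN.trans ((h.normalizer_le hG).trans inf_le_right)
  obtain ⟨L, hL, hNL⟩ := exists_coatom_ge (BGSigma.normalizer_ne_top' hG (card_prime_ne_bot hP)
    fun e => h.hM.1 (top_le_iff.1 (e ▸ hPM)))
  have hCL : centralizer (P' : Set G) ≤ L := (centralizer_le_normalizer _).trans hNL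
  have haL : a ∉ Cfsg.sigma L := fun hs => by
    obtain ⟨g, hg⟩ := BGSigma.conj_of_alpha_inter_sigma hG h.hM hL ha.1 hs
    exact not_conj_of_normalizer hG h.hM hL (Or.inl hpM) hP hNL g hg
  have hbL : b ∉ Cfsg.sigma L := fun hs => by
    obtain ⟨g, hg⟩ := BGSigma.conj_of_alpha_inter_sigma hG h.hH hL hb.1 hs
    exact not_conj_of_normalizer hG h.hH hL (Or.inl hpH) hP hNL g hg
  have hCs := isSolvable_of_le_coatom hG hL hCL
  obtain ⟨E₀, hE₀, hYE₀⟩ := BGTypeP.exists_hallOf_ge hCs {r | r ∉ Cfsg.sigma L} hYP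
    (BGSigma.piNat_of_isPGroup (isPGroup_card_prime hY) haL)
  obtain ⟨c, hc, hZc⟩ := BGTypeP.le_conj_hallOf hCs hE₀ hZP
    (BGSigma.piNat_of_isPGroup (isPGroup_card_prime hZ) hbL)
  have hZ' := BGTypeP.le_cj_iff.2 hZc
  set Z' := BGTypeP.cj c⁻¹ Z with hZ'def
  have hZ'c : Nat.card Z' = b := by rw [hZ'def, BGTypeP.card_cj, hZ]
  obtain ⟨E, hE, hE₀E⟩ := exists_compl_ge hG hL (hE₀.1.trans hCL) fun r hr hd => hE₀.2.1 r hr hd
  by_cases ha1 : a ∈ Cfsg.tau1 L
  swap
  · exact no_fixed_element hG h hpM hpH hP hPN hfix hb hZ'c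
      (hZ'.trans (hall_le_of_not_tau1 hG hL h.hM ha haL ha1 hE hE₀E hE₀.1 hY hYE₀ hYM))
      (hZ'.trans hE₀.1)
  by_cases hb1 : b ∈ Cfsg.tau1 L
  swap
  · -- with the roles of `M` and `H` exchanged
    have hYE : BGTypeP.cj c Y ≤ BGTypeP.cj c E₀ := BGTypeP.cj_mono c hYE₀
    have hE₀c : BGTypeP.cj c E₀ ≤ centralizer (P' : Set G) :=
      (BGTypeP.cj_mono c hE₀.1).trans (BGTypeP.cj_of_mem hc).le
    have hH' : BGTypeP.cj c E₀ ≤ H := by
      have hEc : Cfsg.IsPiHallOf {r | r ∉ Cfsg.sigma L} (BGTypeP.cj c E) L := by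
        have := BGTypeP.hallOf_cj c (compl_hall hG hL hE)
        rwa [BGTypeP.cj_of_mem (hCL hc)] at this
      obtain ⟨E', hE', hEE'⟩ := exists_compl_ge hG hL ((BGTypeP.cj_mono c hE₀E).trans hEc.1)
        fun r hr hd => hE₀.2.1 r hr (by rwa [BGTypeP.card_cj] at hd)
      exact hall_le_of_not_tau1 hG hL h.hH hb hbL hb1 hE' hEE' hE₀c hZ
        (by rw [hZ'def] at hZ'; exact hZc) hZH
    exact no_fixed_element hG h.symm hpH hpM hP hPN hfix ha
      (X := BGTypeP.cj c Y) (by rw [BGTypeP.card_cj, hY]) (hYE.trans hH') (hYE.trans hE₀c)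
  -- both primes in `τ₁(L)`
  have hE₀s := isSolvable_of_le_coatom hG hL (hE₀.1.trans hCL)
  obtain ⟨F, hF, hYF⟩ := BGTypeP.exists_hallOf_ge hE₀s (Cfsg.tau1 L) hYE₀
    (BGSigma.piNat_of_isPGroup (isPGroup_card_prime hY) ha1)
  obtain ⟨t, ht, hZt⟩ := BGTypeP.le_conj_hallOf hE₀s hF hZ'
    (BGSigma.piNat_of_isPGroup (isPGroup_card_prime hZ'c) hb1)
  have hZF := BGTypeP.le_cj_iff.2 hZt
  obtain ⟨E₁, hE₁, hFE₁⟩ := BGTypeP.exists_hallOf_ge (isSolvable_of_le_coatom hG hL hE.1)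
    (Cfsg.tau1 L) (hF.1.trans hE₀E) hF.2.1
  haveI := (S1415.result hG L hL E hE).2.1 E₁ hE₁
  have hNY : normalizer (Y : Set G) ≤ M := BGSigma.normalizer_le_of_beta hG h.hM hYM
    (card_prime_ne_bot hY) fun r hr hd => by
      rw [hY] at hd
      exact (Nat.prime_dvd_prime_iff_eq hr Fact.out).1 hd ▸ ha
  refine no_fixed_element hG h hpM hpH hP hPN hfix hb
    (X := BGTypeP.cj t⁻¹ Z') (by rw [BGTypeP.card_cj, hZ'c]) ?_ (hZF.trans (hF.1.trans hE₀.1))
  refine le_trans ?_ ((centralizer_le_normalizer _).trans hNY)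
  intro z hz
  refine mem_centralizer_iff.2 fun y hy => ?_
  letI : CommGroup E₁ := IsCyclic.commGroup
  exact congrArg Subtype.val (mul_comm (⟨y, hFE₁ (hYF hy)⟩ : E₁) ⟨z, hFE₁ (hZF hz)⟩)

omit hq hpf in
/-- BG 13.9: the sets of sigma primes of nonconjugate maximal subgroups are disjoint. -/
theorem conj_of_sigma_inter {N : Subgroup G} (hM : IsCoatom M) (hN : IsCoatom N) {p : ℕ}
    (hpM : p ∈ Cfsg.sigma M) (hpN : p ∈ Cfsg.sigma N) :
    ∃ g : G, N = M.map (MulAut.conj g).toMonoidHom := by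
  haveI := Fact.mk hpM.1
  by_contra hne
  push Not at hne
  obtain ⟨g, S, hSM, hSN⟩ := BGSigma.exists_conj_sylow hG hM hN hpM hpN
  refine false_of_shared hG (q := p) (M := M) (H := MulAut.conj g • N) (S := (S : Subgroup G))
    ⟨hM, isCoatom_conj g hN, fun g' e => ?_, hpM, ?_,
      ⟨hSM, S.isPGroup', fun Q hSQ _ hQ => S.is_maximal' hQ hSQ⟩,
      ⟨hSN, S.isPGroup', fun Q hSQ _ hQ => S.is_maximal' hQ hSQ⟩⟩
  · refine hne (g⁻¹ * g') ?_
    have e' : BGTypeP.cj g N = BGTypeP.cj g' M := e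
    show N = BGTypeP.cj (g⁻¹ * g') M
    rw [← BGTypeP.cj_mul, ← e', BGTypeP.cj_inv_cj]
  · have e := BGTypeP.sigma_cj g N
    exact e.symm ▸ hpN

end Cfsg.Agent.BGSigmaPartition
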