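import Mathlib
import Cfsg.Agent.Lib.PF12Const43
import Cfsg.Agent.Lib.PF12Cong43
import Cfsg.Agent.Lib.PFPartialCoh43
import Cfsg.Agent.Lib.PF12Sets43
import Cfsg.Agent.Lib.PF8Sets
import Cfsg.Agent.S1359
import Cfsg.Agent.S1379

/-!
Peterfalvi, Section 12: the character-theoretic contradiction for a maximal subgroup with empty kappa set
which is not a Frobenius group, given a coherent family on the second maximal subgroup.
-/

set_option autoImplicit false
set_option linter.unusedSectionVars false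
set_option linter.style.haveILetI false

open scoped ComplexConjugate Classical

namespace Cfsg.Agent.PF12Main

open Cfsg Cfsg.Agent.CharBasic Cfsg.Agent.CharBasicOrth Cfsg.Agent.CharBasicDecomp Cfsg.Agent.DadeMap
open Cfsg.Agent.PFInvDade Cfsg.Agent.PFCoherentDade Cfsg.Agent.CoherenceBasic Cfsg.Agent.PF12Ind
open Cfsg.Agent.CharInduced (inner_ind_right inner_ind_left)

universe u

variable {G : Type u} [Group G]

/-- The local configuration leading to the contradiction. -/
structure Config [Finite G] (M L : Subgroup G) (p : ℕ) (x k : G) : Prop where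
  hG : IsMinSimpleOddOrder G
  hM : IsCoatom M
  hκ : kappa M = ∅
  hMF : fittingHallOf M = sigmaCore M
  hL : IsCoatom L
  notConj : ∀ g : G, L ≠ M.map (MulAut.conj g).toMonoidHom
  hp : p.Prime
  xL : x ∈ sigmaCore L
  xM : x ∈ M
  x_order : orderOf x = p
  pK : ¬ p ∣ Nat.card (fittingHallOf M)
  xC : Subgroup.centralizer ({x} : Set G) ≤ M
  xU : ∀ N : Subgroup G, IsCoatom N → Subgroup.centralizer ({x} : Set G) ≤ N → N = M
  kK : k ∈ fittingHallOf M
  kD : k ∉ ⁅fittingHallOf M, fittingHallOf M⁆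
  xk : Commute x k
  n_ge : 5 * Nat.card ↥⁅fittingHallOf M, fittingHallOf M⁆ ≤ Nat.card (fittingHallOf M)

variable [Fintype G]

/-- The norm of a function whose sums over the cosets of `D` outside `D` are equal. -/
theorem le_sum_sq {X : Type*} [Group X] [Fintype X] (K D : Subgroup X) (hDK : D ≤ K) (f : X → ℂ) (c : ℝ)
    (h : ∀ k ∈ K, k ∉ D → ∑ y : X, (if y⁻¹ * k ∈ D then f y else 0) = (Nat.card D : ℂ) * c) :
    ((Nat.card K : ℝ) - Nat.card D) * c ^ 2 ≤ ∑ y : X, ‖f y‖ ^ 2 := by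
  set S : Finset X := Finset.univ.filter fun k => k ∈ K ∧ k ∉ D with hS
  have hD0 : (0 : ℝ) < Nat.card D := Nat.cast_pos.2 Nat.card_pos
  have hcard : ∀ k : X, (Finset.univ.filter fun y : X => y⁻¹ * k ∈ D).card = Nat.card D := by
    intro k
    rw [← Fintype.card_subtype, ← Nat.card_eq_fintype_card]
    exact Nat.card_congr
      { toFun := fun y => ⟨y.1⁻¹ * k, y.2⟩
        invFun := fun d => ⟨k * d.1⁻¹, by simp⟩
        left_inv := fun y => Subtype.ext (by simp)
        right_inv := fun d => Subtype.ext (by simp) }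
  have h1 : ∀ k ∈ S, (Nat.card D : ℝ) * c ^ 2 ≤
      ∑ y ∈ Finset.univ.filter (fun y : X => y⁻¹ * k ∈ D), ‖f y‖ ^ 2 := by
    intro k hk
    obtain ⟨-, hkK, hkD⟩ := Finset.mem_filter.1 hk
    set T := Finset.univ.filter fun y : X => y⁻¹ * k ∈ D with hT
    have e : ∑ y ∈ T, f y = (Nat.card D : ℂ) * c := by
      rw [hT, Finset.sum_filter]; exact h k hkK hkD
    have e' : (Nat.card D : ℝ) * |c| ≤ ∑ y ∈ T, ‖f y‖ := by
      have := norm_sum_le T f
      rwa [e, norm_mul, Complex.norm_natCast, Complex.norm_real, Real.norm_eq_abs] at this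
    have e'' := sq_sum_le_card_mul_sum_sq (s := T) (f := fun y => ‖f y‖)
    rw [hcard] at e''
    have : ((Nat.card D : ℝ) * |c|) ^ 2 ≤ (Nat.card D : ℝ) * ∑ y ∈ T, ‖f y‖ ^ 2 :=
      le_trans (pow_le_pow_left₀ (by positivity) e' 2) e''
    rw [mul_pow, sq_abs, pow_two (Nat.card D : ℝ), mul_assoc] at this
    exact le_of_mul_le_mul_left this hD0
  have h2 : (S.card : ℝ) * ((Nat.card D : ℝ) * c ^ 2) ≤ (Nat.card D : ℝ) * ∑ y : X, ‖f y‖ ^ 2 := by
    have := Finset.sum_le_sum h1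
    rw [Finset.sum_const, nsmul_eq_mul] at this
    refine this.trans ?_
    simp only [Finset.sum_filter]
    rw [Finset.sum_comm, Finset.mul_sum]
    refine Finset.sum_le_sum fun y _ => ?_
    rw [← Finset.sum_filter, Finset.sum_const, nsmul_eq_mul]
    refine mul_le_mul_of_nonneg_right ?_ (sq_nonneg _)
    refine Nat.cast_le.2 (le_trans (Finset.card_le_card (Finset.filter_subset_filter _
      (Finset.subset_univ S))) (le_of_eq ?_))
    rw [← Fintype.card_subtype, ← Nat.card_eq_fintype_card]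
    exact Nat.card_congr
      { toFun := fun k => ⟨y⁻¹ * k.1, k.2⟩
        invFun := fun d => ⟨y * d.1, by simp⟩
        left_inv := fun k => Subtype.ext (by simp)
        right_inv := fun d => Subtype.ext (by simp) }
  have hScard : (S.card : ℝ) = (Nat.card K : ℝ) - Nat.card D := by
    have : S = (Finset.univ.filter fun k : X => k ∈ K) \ (Finset.univ.filter fun k : X => k ∈ D) := by
      ext k; simp [hS]
    rw [this, Finset.card_sdiff_of_subset (fun k hk => by
        simp only [Finset.mem_filter, Finset.mem_univ, true_and] at hk ⊢; exact hDK hk),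
      Nat.cast_sub (Finset.card_le_card fun k hk => by
        simp only [Finset.mem_filter, Finset.mem_univ, true_and] at hk ⊢; exact hDK hk),
      ← Fintype.card_subtype, ← Fintype.card_subtype, Nat.card_eq_fintype_card, Nat.card_eq_fintype_card]
  rw [hScard] at h2
  nlinarith

theorem arith {e h p u L : ℕ} {c m : ℤ} (hp : p.Prime) (he : 3 ≤ e) (hep : 2 * e ≤ p + 1)
    (hh : p ^ 2 ≤ h) (hu0 : 0 < u) (hu : c = 0 → 3 * u ≤ L) (hL : L = h * e) (hdvd : (p : ℤ) ∣ m - e - c)
    (hineq : 1 - (e : ℝ) / h - 2 * (c : ℝ) / h + (c : ℝ) ^ 2 * ((h : ℝ) - 1) / ((h : ℝ) * e) +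
      4 / 5 * (m : ℝ) ^ 2 / u ≤ 1) : False := by
  have h0 : 0 < h := lt_of_lt_of_le (pow_pos hp.pos 2) hh
  have eR : (3 : ℝ) ≤ e := by exact_mod_cast he
  have hR : (0 : ℝ) < h := Nat.cast_pos.2 h0
  have uR : (0 : ℝ) < u := Nat.cast_pos.2 hu0
  have epR : 2 * (e : ℝ) ≤ p + 1 := by exact_mod_cast hep
  have hhR : (p : ℝ) ^ 2 ≤ h := by exact_mod_cast hh
  have ph : (2 * (e : ℝ) - 1) ^ 2 ≤ h :=
    le_trans (pow_le_pow_left₀ (by linarith) (by linarith) 2) hhR
  -- multiply by `h e`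
  have key : (c : ℝ) ^ 2 * ((h : ℝ) - 1) - 2 * c * e + 4 / 5 * (m : ℝ) ^ 2 * ((h : ℝ) * e / u) ≤ (e : ℝ) ^ 2 := by
    have := mul_le_mul_of_nonneg_right hineq (show (0 : ℝ) ≤ h * e by positivity)
    rw [one_mul] at this
    field_simp at this ⊢
    linarith
  by_cases hc : c = 0
  · have huR : 3 * (u : ℝ) ≤ (h : ℝ) * e := by exact_mod_cast (hu hc).trans_eq hL
    subst hc
    simp only [Int.cast_zero] at key
    have h3 : (3 : ℝ) ≤ (h : ℝ) * e / u := by rw [le_div_iff₀ uR]; linarith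
    have h4 : (3 : ℝ) * (4 / 5 * (m : ℝ) ^ 2) ≤ (e : ℝ) ^ 2 := by
      nlinarith [mul_le_mul_of_nonneg_left h3 (show (0 : ℝ) ≤ 4 / 5 * (m : ℝ) ^ 2 by positivity)]
    obtain ⟨j, hj⟩ := hdvd
    have hm : (e : ℤ) - 1 ≤ m ∨ m ≤ -((e : ℤ) - 1) := by
      have epZ : 2 * (e : ℤ) ≤ p + 1 := by exact_mod_cast hep
      rcases le_or_gt 0 j with hj0 | hj0
      · left
        have : (0 : ℤ) ≤ p * j := mul_nonneg (by positivity) hj0
        omega
      · right
        have : (p : ℤ) * j ≤ -(p : ℤ) := by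
          nlinarith [Int.natCast_nonneg p, (show j ≤ -1 by omega)]
        omega
    have hm2 : ((e : ℝ) - 1) ^ 2 ≤ (m : ℝ) ^ 2 := by
      rcases hm with h' | h'
      · have : (e : ℝ) - 1 ≤ (m : ℝ) := by exact_mod_cast h'
        nlinarith
      · have : (m : ℝ) ≤ -((e : ℝ) - 1) := by exact_mod_cast h'
        nlinarith
    nlinarith
  · have c1 : (1 : ℝ) ≤ (c : ℝ) ^ 2 := by
      have : (1 : ℤ) ≤ c ^ 2 := by nlinarith [sq_pos_of_ne_zero hc]
      exact_mod_cast this
    have c2 : (c : ℝ) ≤ (c : ℝ) ^ 2 := by exact_mod_cast Int.le_self_sq c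
    have hpos : (0 : ℝ) ≤ 4 / 5 * (m : ℝ) ^ 2 * ((h : ℝ) * e / u) := by positivity
    have hb : (c : ℝ) ^ 2 * (((h : ℝ) - 1) - ((e : ℝ) ^ 2 + 2 * e)) ≤ 0 := by
      nlinarith [mul_le_mul_of_nonneg_right c1 (sq_nonneg (e : ℝ)),
        mul_le_mul_of_nonneg_right c2 (show (0 : ℝ) ≤ 2 * e by positivity)]
    have : ((h : ℝ) - 1) - ((e : ℝ) ^ 2 + 2 * e) ≤ 0 := by nlinarith
    nlinarith

/-- The contradiction, given the family on `L`. -/
theorem false_of_config {M L : Subgroup G} {p : ℕ} {x k : G} (hc : Config M L p x k)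
    {ν : (↥L → ℂ) → (G → ℂ)} {T : Finset (IrrCharacter ↥((sigmaCore L).subgroupOf L))} {ζ : ↥L → ℂ}
    (hC : PFPartialCoh.PartCoh ((sigmaCore L : Set G) \ {1}) L (supportR L) ((sigmaCore L).subgroupOf L) ν T ζ)
    (hU : ∀ θ : IrrCharacter ↥((sigmaCore L).subgroupOf L),
      (θ : ↥((sigmaCore L).subgroupOf L) → ℂ) ≠ (fun _ => 1) → θ ∉ T →
      p ∣ Cfsg.charDegree (θ : ↥((sigmaCore L).subgroupOf L) → ℂ))
    (hpn : p ∣ PFPartialCoh.size T) (hn2 : p ^ 2 ≤ PFPartialCoh.size T)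
    (hbr : 3 * (fittingHallOf M).relIndex M ≤ PFPartialCoh.size T * ((sigmaCore L).subgroupOf L).index ∨
      ∀ θ : IrrCharacter ↥((sigmaCore L).subgroupOf L),
        (θ : ↥((sigmaCore L).subgroupOf L) → ℂ) ≠ (fun _ => 1) → θ ∉ T →
        2 * ((sigmaCore L).subgroupOf L).index * Cfsg.charDegree (θ : ↥((sigmaCore L).subgroupOf L) → ℂ) ≤
          PFPartialCoh.size T)
    (hu : 3 * (fittingHallOf M).relIndex M ≤ Nat.card L)
    (he3 : 3 ≤ ((sigmaCore L).subgroupOf L).index)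
    (hep : 2 * ((sigmaCore L).subgroupOf L).index ≤ p + 1) : False := by
  have hG := hc.hG
  have hodd : Odd (Nat.card G) := hG.1
  -- the subgroup `L`
  set AL : Set G := (sigmaCore L : Set G) \ {1} with hALdef
  have hDL : DadeHypothesis AL L (supportR L) := hC.dade
  set ψ : G → ℂ := ν ζ with hψdef
  have hψs : SignedIrr ψ := PFPartialCoh.nu_signed hC
  have hψ1 : classInner ψ ψ = 1 := PFPartialCoh.nu_norm hC
  have hψc : IsClassFunction G ψ := isClassFunction_of_isGeneralizedCharacter (PFPartialCoh.nu_gen hC)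
  have hψbar : Cfsg.conjFun ψ = ν (Cfsg.conjFun ζ) := PFPartialCoh.nu_conj hC
  obtain ⟨c, hcc⟩ := PFPartialCoh.exists_c hC
  -- the subgroup `M`
  set K : Subgroup ↥M := fittingHall ↥M with hK
  have hKmem : ∀ y : ↥M, (y : G) ∈ fittingHallOf M ↔ y ∈ K := fun y =>
    ⟨fun h => by obtain ⟨z, hz, e⟩ := Subgroup.mem_map.1 h; rwa [← Subtype.ext e],
      fun h => Subgroup.mem_map.2 ⟨y, h, rfl⟩⟩
  set A1 : Set G := (sigmaCore M : Set G) \ {1} with hA1def
  set AM : Set G := sigmaHat M \ {1} with hAMdef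
  have hA1 : ∀ a : G, a ∈ A1 ↔ a ∈ fittingHallOf M ∧ a ≠ 1 := fun a => by
    rw [hA1def, ← hc.hMF]; rfl
  have hS1 : Setup A1 M (supportR M) K :=
    ⟨PF12Sets.dade_core hG hc.hM, inferInstance, fun a => by
      rw [hA1, hKmem]
      exact and_congr Iff.rfl ⟨fun h e => h (by rw [e]; rfl), fun h e => h (Subtype.ext e)⟩⟩
  obtain ⟨U₀, hKU⟩ := PF12Sets.exists_decomp_of_kappa hG hc.hM hc.hκ
  have hcU := BGTypeSetup.compl_of_K_bot hG hc.hM hKU rfl
  have hU₀ : Subgroup.IsComplement' K (U₀.subgroupOf M) := by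
    have h := BGTypeBasic.isComplement'_subgroupOf hcU
    rwa [← hc.hMF, BGTypeSetup.fittingHallOf_subgroupOf] at h
  have hMS : PF12Const.MSetup AM A1 M (supportR M) K := by
    refine ⟨PF12Sets.dade_hat hG hc.hM hc.hκ, hS1, ?_, ?_, ?_, ?_, BGTypeSetup.odd_card hG M⟩
    · exact fun a ha => ⟨PF12Sets.mem_sigmaHat_of_mem ha.1 ha.2, ha.2⟩
    · intro a b ha hb
      set C : Subgroup G := Subgroup.closure ((U₀ : Set G) ∩ sigmaHat M) with hCdef
      haveI hCc : IsMulCommutative C := S1359.result hG M hc.hM ⊥ U₀ hKU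
      have red : ∀ z : ↥M, HasFix K z → ∃ v : ↥M, (v : G) ∈ C ∧ z * v⁻¹ ∈ K := by
        intro z hz
        obtain ⟨⟨k', v⟩, e⟩ := hU₀.2 z
        have e' : (k' : ↥M) * v = z := e
        obtain ⟨n, hn, hn1, hcomm⟩ := hasFix_coset K k'.2 (e' ▸ hz)
        refine ⟨v, Subgroup.subset_closure ⟨Subgroup.mem_subgroupOf.1 v.2, (v : ↥M).2, n,
          hc.hMF ▸ (hKmem n).2 hn, fun h => hn1 (Subtype.ext h), congrArg Subtype.val hcomm⟩, ?_⟩
        rw [← e', mul_inv_cancel_right]
        exact k'.2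
      obtain ⟨v, hv, hva⟩ := red a ha
      obtain ⟨w, hw, hwb⟩ := red b hb
      rw [← QuotientGroup.eq_one_iff]
      have ea : ((a : ↥M) : ↥M ⧸ K) = (v : ↥M ⧸ K) := by
        rw [← mul_inv_eq_one, ← QuotientGroup.mk_inv, ← QuotientGroup.mk_mul, QuotientGroup.eq_one_iff]
        exact hva
      have eb : ((b : ↥M) : ↥M ⧸ K) = (w : ↥M ⧸ K) := by
        rw [← mul_inv_eq_one, ← QuotientGroup.mk_inv, ← QuotientGroup.mk_mul, QuotientGroup.eq_one_iff]
        exact hwb
      have hvw : v * w = w * v := Subtype.ext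
        (congrArg Subtype.val (hCc.is_comm.comm (⟨(v : G), hv⟩ : C) ⟨(w : G), hw⟩) :)
      simp only [QuotientGroup.mk_mul, QuotientGroup.mk_inv, ea, eb]
      rw [← QuotientGroup.mk_mul, hvw, QuotientGroup.mk_mul]
      group
    · rintro y hy1 ⟨n, hn, hn1, hcomm⟩
      exact ⟨⟨y.2, n, hc.hMF ▸ (hKmem n).2 hn, fun e => hn1 (Subtype.ext e), congrArg Subtype.val hcomm⟩,
        fun e => hy1 (Subtype.ext e)⟩
    · exact fun a ha ha1 => PF12Sets.supportR_eq_bot hG hc.hM hc.hκ ha.1 fun h => ha1 ⟨h, ha.2⟩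
  have hsubL : ∀ g : G, InSupport AL L (supportR L) g →
      g ∈ tildeOf L ((sigmaCore L : Set G) \ {1}) := by
    rintro g ⟨a, ha, y, r, hr, e⟩
    exact ⟨a, ha, r, hr, y⁻¹, by rw [← e]; group⟩
  have hsubM : ∀ g : G, InSupport A1 M (supportR M) g →
      g ∈ tildeOf M ((sigmaCore M : Set G) \ {1}) := by
    rintro g ⟨a, ha, y, r, hr, e⟩
    exact ⟨a, ha, r, hr, y⁻¹, by rw [← e]; group⟩
  have hdisj : ∀ g : G, ¬ (InSupport AL L (supportR L) g ∧
      InSupport (A1) M (supportR M) g) := by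
    rintro g ⟨h1, h2⟩
    have h := (S1379.result hG).1 M L hc.hM hc.hL hc.notConj
    exact (Set.eq_empty_iff_forall_notMem.1 h g) ⟨hsubM g h2, hsubL g h1⟩
  have hSep : PF12Const.Sep A1 M (supportR M) ψ := by
    refine ⟨hψs, ?_, ?_⟩
    · rw [hψbar, hψdef, hC.iso.2.2.1 _ (subset_zspan hC.mem) _ (subset_zspan hC.conj_mem),
        classInner_irr_ne hC.irr (conjFun_isIrr hC.irr) hC.conj_ne.symm]
    · intro α hα hαs
      rw [hψdef, PFPartialCoh.nu_sub_conj hC, classInner, Finset.sum_eq_zero (fun g _ => ?_), mul_zero]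
      by_cases hg : InSupport A1 M (supportR M) g
      · rw [dade_eq_zero (A := AL) fun h => hdisj g ⟨h, hg⟩, map_zero, mul_zero]
      · rw [dade_eq_zero hg, zero_mul]
  -- the elements
  set xM : ↥M := ⟨x, hc.xM⟩ with hxM
  have hkM : k ∈ M := FittingHallBasic.fittingHallOf_le M hc.kK
  set kM : ↥M := ⟨k, hkM⟩ with hkMdef
  have hcardK : Nat.card K = Nat.card (fittingHallOf M) := (FittingHallBasic.card_fittingHallOf M).symm
  have hderiv : ⁅K, K⁆.map M.subtype = ⁅fittingHallOf M, fittingHallOf M⁆ := by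
    rw [Subgroup.map_commutator]; rfl
  have hkK : kM ∈ K := (hKmem kM).1 hc.kK
  have hkD : kM ∉ ⁅K, K⁆ := fun h => hc.kD (hderiv ▸ ⟨kM, h, rfl⟩)
  have hxK : xM ∉ K := fun h => hc.pK (by
    rw [← hc.x_order]; exact Subgroup.orderOf_dvd_natCard _ ((hKmem xM).2 h))
  -- a nonprincipal linear character
  haveI : Fintype (↥K →* ℂˣ) := by
    haveI : Finite (↥K →* ℂˣ) := Nat.finite_of_card_ne_zero (by
      rw [CharBasicLinear.card_hom_units]; exact Subgroup.index_ne_zero_of_finite)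
    exact Fintype.ofFinite _
  obtain ⟨l₀, hl₀⟩ : ∃ l : ↥K →* ℂˣ, l ≠ 1 := by
    by_contra hno
    push Not at hno
    have h := PF12Cong.sum_hom (X := ↥K) ⟨kM, hkK⟩
    rw [if_neg (fun h => hkD (PF12Cong.mem_derived.1 h)),
      Finset.sum_congr rfl (g := fun _ => (1 : ℂ)) (fun l _ => by rw [hno l]; simp), Finset.sum_const,
      nsmul_eq_mul, mul_one, Nat.cast_eq_zero, Finset.card_univ] at h
    exact Fintype.card_ne_zero h
  have hne1 : ∀ l : ↥K →* ℂˣ, l ≠ 1 → (fun n => (l n : ℂ)) ≠ fun _ => 1 := fun l hl h =>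
    hl (MonoidHom.ext fun n => Units.ext (congrFun h n))
  have htg : IsGeneralizedCharacter ↥M (tdiff (fun n : ↥K => (l₀ n : ℂ))) := by
    have e : tdiff (fun n : ↥K => (l₀ n : ℂ)) = indFun K (fun n => (l₀ n : ℂ)) - ind1 K := by
      funext y; simp [tdiff]
    rw [e]
    exact isGeneralizedCharacter_sub
      (isGeneralizedCharacter_of_isCharacter (CharInduced.isCharacter_ind K (isCharacter_linear l₀)))
      (isGeneralizedCharacter_of_isCharacter (CharInduced.isCharacter_ind K CharBasicDecomp.isCharacter_one))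
  obtain ⟨m', hm'⟩ : ∃ m : ℤ, coeff (A1) M (supportR M) K ψ (fun n => (l₀ n : ℂ)) = m :=
    classInner_isGeneralizedCharacter (PFPartialCoh.nu_gen hC) (DadeGenChar.dade_gen hS1.dade htg (tdiff_supp hS1 _))
  have hlin : ∀ l : ↥K →* ℂˣ, l ≠ 1 →
      coeff (A1) M (supportR M) K ψ (fun n => (l n : ℂ)) = -((-m' : ℤ) : ℂ) := by
    intro l hl
    rw [PF12Const.coeff_linear_eq hMS hSep hU₀ l l₀ (hne1 l hl) (hne1 l₀ hl₀), hm']
    push_cast; ring
  set m : ℤ := -m' with hmdef
  obtain ⟨J, hJ⟩ := BrauerBlocksRegFun.exists_isPModular hc.hp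
  have hcongr : MemLocalIdeal J ((m : ℂ) - ψ x) :=
    PF12Cong.congr_prime hS1 hψs hJ (x := xM) (k := kM) (by rw [← Subgroup.orderOf_coe]; exact hc.x_order)
      hkK hkD (Subtype.ext hc.xk.eq) (hcardK ▸ hc.pK) hc.xC
      (fun y hy => PF12Const.const_coset hMS hSep hxK hy) m hlin
  -- the value at `x`
  set xL : ↥L := ⟨x, BGTypeSetup.sigmaCore_le L hc.xL⟩ with hxLdef
  have hx1 : x ≠ 1 := fun e => hc.hp.ne_one (by rw [← hc.x_order, e, orderOf_one])
  have hxA : x ∈ AL := ⟨hc.xL, hx1⟩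
  have hML : M ≠ L := fun e => hc.notConj 1 (by
    rw [← e]
    exact (PF8Sets.map_conj_of_mem (M := M) M.one_mem).symm)
  have hnot : ¬ Subgroup.centralizer ({x} : Set G) ≤ L := fun h => hML (hc.xU L hc.hL h).symm
  have hR : supportR L x = fittingHallOf M ⊓ Subgroup.centralizer ({x} : Set G) := by
    have hex : ∃! N : Subgroup G, IsCoatom N ∧ Subgroup.centralizer ({x} : Set G) ≤ N :=
      ⟨M, ⟨hc.hM, hc.xC⟩, fun N hN => hc.xU N hN.1 hN.2⟩
    rw [supportR, dif_pos ⟨hnot, hex⟩]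
    have := Classical.choose_spec hex.exists
    rw [hc.xU _ this.1 this.2]
  have hinv : invDade AL L (supportR L) ψ xL = ψ x := by
    rw [invDade_eq_sum xL hxA]
    have e : ∀ u : G, (if u ∈ supportR L x then ψ (x * u) else 0) =
        (if u ∈ supportR L x then ψ x else 0) := by
      intro u
      split_ifs with hu'
      · rw [hR] at hu'
        exact PF12Const.const_coset hMS hSep hxK
          (k := ⟨u, FittingHallBasic.fittingHallOf_le M hu'.1⟩) ((hKmem _).1 hu'.1)
      · rfl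
    show (Nat.card (supportR L x) : ℂ)⁻¹ * ∑ u : G, (if u ∈ supportR L x then ψ (x * u) else 0) = ψ x
    rw [Finset.sum_congr rfl fun u _ => e u, ← Finset.sum_filter, Finset.sum_const, nsmul_eq_mul,
      ← Fintype.card_subtype, ← Nat.card_eq_fintype_card, ← mul_assoc,
      show Nat.card {u : G // u ∈ supportR L x} = Nat.card (supportR L x) from rfl,
      inv_mul_cancel₀ (Nat.cast_ne_zero.2 Nat.card_pos.ne'), one_mul]
  set e : ℕ := ((sigmaCore L).subgroupOf L).index with hedef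
  set xK : ↥((sigmaCore L).subgroupOf L) := ⟨xL, Subgroup.mem_subgroupOf.2 hc.xL⟩ with hxKdef
  have hcx := PFPartialCoh.invDade_congr hC hJ xK
    (fun h => hx1 (congrArg (fun z : ↥((sigmaCore L).subgroupOf L) => ((z : ↥L) : G)) h))
    (by rw [← Subgroup.orderOf_coe, ← Subgroup.orderOf_coe]; exact hc.x_order) hU hpn c hcc
  rw [show ((xK : ↥((sigmaCore L).subgroupOf L)) : ↥L) = xL from rfl, ← hψdef, hinv, ← hedef] at hcx
  have hdvd : (p : ℤ) ∣ m - e - c := by
    rw [← PF12Cong.intCast_mem_iff hJ]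
    have := BlockTheoryLocalRing.ideal_add hJ hcongr hcx
    convert this using 1
    push_cast; ring
  -- the norms
  have hnM : 4 / 5 * (m : ℝ) ^ 2 / ((fittingHallOf M).relIndex M : ℝ) ≤
      (classInner (invDade (A1) M (supportR M) ψ) (invDade (A1) M (supportR M) ψ)).re := by
    rw [classInner_self_re]
    have h := le_sum_sq K ⁅K, K⁆ (Subgroup.commutator_le_self K) (invDade (A1) M (supportR M) ψ)
      (m : ℝ) (fun k' hk' hkD' => by
        rw [PF12Cong.coset_sum hS1 hψc (m : ℂ) (fun l hl => by exact_mod_cast hlin l hl) k' hk' hkD']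
        simp)
    have hDcard : Nat.card ↥⁅K, K⁆ = Nat.card ↥⁅fittingHallOf M, fittingHallOf M⁆ := by
      rw [← hderiv, Subgroup.card_map_of_injective M.subtype_injective]
    have hMcard : (Nat.card M : ℝ) = (Nat.card K : ℝ) * ((fittingHallOf M).relIndex M : ℝ) := by
      rw [← Nat.cast_mul, hcardK, HallCore.card_mul_relIndex (FittingHallBasic.fittingHallOf_le M)]
    have hn : 5 * (Nat.card ↥⁅K, K⁆ : ℝ) ≤ Nat.card K := by
      rw [hDcard, hcardK]; exact_mod_cast hc.n_ge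
    have hu0 : (0 : ℝ) < ((fittingHallOf M).relIndex M : ℝ) := by
      rw [Nat.cast_pos]
      exact Nat.pos_of_ne_zero (Subgroup.index_ne_zero_of_finite (H := (fittingHallOf M).subgroupOf M))
    have hK0 : (0 : ℝ) < (Nat.card K : ℝ) := Nat.cast_pos.2 Nat.card_pos
    rw [hMcard, div_le_iff₀ hu0, ← mul_le_mul_iff_of_pos_left hK0]
    field_simp
    nlinarith [mul_le_mul_of_nonneg_right hn (sq_nonneg (m : ℝ))]
  have htot : (classInner (invDade AL L (supportR L) ψ) (invDade AL L (supportR L) ψ)).re +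
      (classInner (invDade (A1) M (supportR M) ψ) (invDade (A1) M (supportR M) ψ)).re ≤ 1 := by
    refine le_trans (add_le_add (norm_invDade_le hDL hψc) (norm_invDade_le hS1.dade hψc)) ?_
    have h := classInner_self_re ψ
    rw [hψ1, Complex.one_re] at h
    rw [← mul_add, ← Finset.sum_union (Finset.disjoint_left.2 fun g h1 h2 =>
      hdisj g ⟨(Finset.mem_filter.1 h1).2, (Finset.mem_filter.1 h2).2⟩)]
    refine le_trans (mul_le_mul_of_nonneg_left (Finset.sum_le_sum_of_subset_of_nonneg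
      (Finset.subset_univ _) (fun _ _ _ => sq_nonneg _)) (by positivity)) (le_of_eq h.symm)
  have hh0 : PFPartialCoh.size T ≤ Nat.card ↥((sigmaCore L).subgroupOf L) := PFPartialCoh.size_le hC
  have hu0 : 0 < (fittingHallOf M).relIndex M :=
    Nat.pos_of_ne_zero (Subgroup.index_ne_zero_of_finite (H := (fittingHallOf M).subgroupOf M))
  have hsmall : c = 0 → (∀ θ : IrrCharacter ↥((sigmaCore L).subgroupOf L), (θ : ↥((sigmaCore L).subgroupOf L) → ℂ) ≠ (fun _ => 1) → θ ∉ T →
      2 * e * Cfsg.charDegree (θ : ↥((sigmaCore L).subgroupOf L) → ℂ) ≤ PFPartialCoh.size T) → False := by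
    intro hc0 hd
    have h1 := PFPartialCoh.norm_small hC (by rw [hcc, hc0, Int.cast_zero]) hd
    refine arith (h := Nat.card ↥((sigmaCore L).subgroupOf L)) (u := (fittingHallOf M).relIndex M) (L := Nat.card L) (c := c) hc.hp
      (e := e) he3 hep (hn2.trans hh0) hu0 (fun _ => hu) (Subgroup.card_mul_index ((sigmaCore L).subgroupOf L)).symm hdvd ?_
    rw [hc0, Int.cast_zero]
    simp only [mul_zero, zero_div, sub_zero, zero_pow two_ne_zero, zero_mul, add_zero]
    linarith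
  have hbig : (c = 0 → 3 * (fittingHallOf M).relIndex M ≤ PFPartialCoh.size T * e) → False := by
    intro h3
    have h1 := PFPartialCoh.norm_proj hC c hcc
    refine arith (h := PFPartialCoh.size T) (u := (fittingHallOf M).relIndex M)
      (L := PFPartialCoh.size T * e) (c := c) hc.hp (e := e) he3 hep hn2 hu0 h3 rfl hdvd ?_
    linarith
  rcases hbr with h | h
  · exact hbig fun _ => h
  · by_cases hc0 : c = 0
    · exact hsmall hc0 h
    · exact hbig fun h0 => absurd h0 hc0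

end Cfsg.Agent.PF12Main
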