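import Mathlib
import Cfsg.Prelude.Def_OddOrderLocal
import Cfsg.Agent.Lib.BGSigmaRank
import Cfsg.Agent.Lib.BGTypePBase
import Cfsg.Agent.Lib.PGroupsCyclic
import Cfsg.Agent.Lib.BGTypeBasic

/-!
Group-theoretic lemmas for Bender-Glauberman 15.7: cyclic groups acting on `p`-groups.
-/

set_option autoImplicit false
set_option linter.style.haveILetI false

namespace Cfsg.Agent.BGNonTIOrder

open Subgroup
open scoped commutatorElement

variable {G : Type*} [Group G]

theorem zpow_eq_self_of_dvd {x : G} {n : ℕ} (hx : x ^ n = 1) {a : ℤ} (h : (n : ℤ) ∣ a - 1) :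
    x ^ a = x := by
  obtain ⟨d, hd⟩ := h
  rw [show a = 1 + (n : ℤ) * d by linarith, zpow_add, zpow_one, zpow_mul, zpow_natCast, hx, one_zpow,
    mul_one]

theorem int_fermat {p : ℕ} [Fact p.Prime] {i : ℤ} (h : ¬ (p : ℤ) ∣ i) :
    (p : ℤ) ∣ i ^ (p - 1) - 1 := by
  rw [← ZMod.intCast_zmod_eq_zero_iff_dvd]
  push_cast
  rw [sub_eq_zero]
  exact ZMod.pow_card_sub_one_eq_one fun h0 => h ((ZMod.intCast_zmod_eq_zero_iff_dvd _ _).1 h0)

/-- An element normalizing a group of prime order `q` has its `(q-1)`-st power centralizing it. -/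
theorem pow_pred_commute {q : ℕ} [hq : Fact q.Prime] {z u : G} (hz : orderOf z = q)
    (hu : u * z * u⁻¹ ∈ zpowers z) : Commute (u ^ (q - 1)) z := by
  obtain ⟨i, hi⟩ := mem_zpowers_iff.1 hu
  have hzq : z ^ q = 1 := hz ▸ pow_orderOf_eq_one z
  have hni : ¬ (q : ℤ) ∣ i := by
    rintro ⟨d, rfl⟩
    rw [zpow_mul, zpow_natCast, hzq, one_zpow, eq_comm, conj_eq_one_iff] at hi
    rw [hi, orderOf_one] at hz
    exact hq.out.one_lt.ne hz
  have h1 := PGroupsCyclic.conj_iterate hi.symm (q - 1)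
  rw [zpow_eq_self_of_dvd hzq (int_fermat hni)] at h1
  exact mul_inv_eq_iff_eq_mul.1 h1

/-- If `a` conjugates `b` to `c * b` with `c` commuting with `b`, powers follow. -/
theorem conj_zpow_central {a b c : G} (h : a * b * a⁻¹ = c * b) (hc : Commute c b) (i : ℤ) :
    a * b ^ i * a⁻¹ = c ^ i * b ^ i := by
  rw [← conj_zpow, h, hc.mul_zpow]

/-- An abelian `p`-group of rank two with an element `x` of order `p` that is no `p`-th power is
`⟨x⟩ × ` cyclic. -/
theorem exists_cyclic_complement [Finite G] {p : ℕ} [hp : Fact p.Prime] (hp2 : p ≠ 2) {C : Subgroup G}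
    (hC : IsMulCommutative C) (hCp : IsPGroup p C) (hr : Cfsg.PRankLE p 2 C) {x : G} (hx : x ∈ C)
    (hxo : orderOf x = p) (hnp : ∀ y ∈ C, y ^ p ≠ x) :
    ∃ R₁ : Subgroup G, IsCyclic R₁ ∧ zpowers x ⊓ R₁ = ⊥ ∧ R₁ ≤ C ∧ zpowers x ⊔ R₁ = C := by
  let S₀ : Set G := {w | ∃ y ∈ C, y ^ p = w}
  have hS0 : ∀ w ∈ closure S₀, w ∈ S₀ := fun w hw => by
    induction hw using closure_induction with
    | mem w hw => exact hw
    | one => exact ⟨1, C.one_mem, one_pow p⟩
    | mul u v _ _ hu hv =>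
      obtain ⟨a, ha, rfl⟩ := hu
      obtain ⟨b, hb, rfl⟩ := hv
      exact ⟨a * b, C.mul_mem ha hb,
        (show Commute a b from PGroupsBasic.comm_of_isMulCommutative hC ha hb).mul_pow p⟩
    | inv u _ hu =>
      obtain ⟨a, ha, rfl⟩ := hu
      exact ⟨a⁻¹, C.inv_mem ha, by rw [inv_pow]⟩
  obtain ⟨R, hR₀, hR⟩ := Finite.exists_le_maximal
    (p := fun R : Subgroup G => closure S₀ ≤ R ∧ R ≤ C ∧ x ∉ R) (a := closure S₀)
    ⟨le_rfl, (closure_le C).2 (by rintro _ ⟨y, hy, rfl⟩; exact pow_mem hy p), fun h => by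
      obtain ⟨y, hy, e⟩ := hS0 x h
      exact hnp y hy e⟩
  obtain ⟨⟨hR1, hRC, hxR⟩, hmax⟩ := hR
  have hxR' : zpowers x ⊓ R = ⊥ := by
    by_contra hne
    have hc : Nat.card ↥(zpowers x ⊓ R) = p := by
      have hd : Nat.card ↥(zpowers x ⊓ R) ∣ p := by
        rw [← hxo, ← Nat.card_zpowers]
        exact card_dvd_of_le inf_le_left
      exact (hp.out.eq_one_or_self_of_dvd _ hd).resolve_left fun h => hne (Subgroup.eq_bot_of_card_eq _ h)
    have he : zpowers x ⊓ R = zpowers x :=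
      eq_of_le_of_card_ge inf_le_left (by rw [hc, Nat.card_zpowers, hxo])
    exact hxR (inf_eq_left.1 he (mem_zpowers x))
  refine ⟨R, ?_, hxR', hRC, le_antisymm (sup_le (zpowers_le.2 hx) hRC) fun y hy => ?_⟩
  · by_contra hnc
    obtain ⟨E, -, hEc, hE⟩ := PGroupsCyclic.exists_normal_elementary_sq (hCp.to_le hRC) hp2 hnc
    have hE' : Cfsg.IsElementaryAbelian p (E.map R.subtype) :=
      PGroupsBasic.isElementaryAbelian_map_hom hE _
    have hle : E.map R.subtype ≤ R := map_subtype_le E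
    refine hxR (hle (BGSigma.mem_of_pRankLE hr (hle.trans hRC) hE' ?_ hx (hxo ▸ pow_orderOf_eq_one x)
      fun e he => PGroupsBasic.comm_of_isMulCommutative hC (hRC (hle he)) hx))
    rw [card_map_of_injective R.subtype_injective, hEc]
  · by_cases hyR : y ∈ R
    · exact mem_sup_right hyR
    have hnot : ¬ (closure S₀ ≤ R ⊔ zpowers y ∧ R ⊔ zpowers y ≤ C ∧ x ∉ R ⊔ zpowers y) := fun h =>
      hyR (hmax h le_sup_left (mem_sup_right (mem_zpowers y)))
    have hx' : x ∈ R ⊔ zpowers y := by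
      by_contra h
      exact hnot ⟨hR1.trans le_sup_left, sup_le hRC (zpowers_le.2 hy), h⟩
    have hn : zpowers y ≤ normalizer (R : Set G) := zpowers_le.2 (by
      rw [mem_normalizer_iff]
      intro r
      constructor
      · intro hr'
        rwa [PGroupsBasic.comm_of_isMulCommutative hC hy (hRC hr'), mul_inv_cancel_right]
      · intro hr'
        have hrC : r ∈ C := by
          have := C.mul_mem (C.mul_mem (C.inv_mem hy) (hRC hr')) hy
          simpa [mul_assoc] using this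
        rwa [PGroupsBasic.comm_of_isMulCommutative hC hy hrC, mul_inv_cancel_right] at hr')
    rw [← SetLike.mem_coe, coe_mul_of_right_le_normalizer_left _ _ hn] at hx'
    obtain ⟨r, hr', w, hw, hrw⟩ := Set.mem_mul.1 hx'
    obtain ⟨i, rfl⟩ := mem_zpowers_iff.1 hw
    have hyp : y ^ (p : ℤ) ∈ R := by
      rw [zpow_natCast]; exact hR1 (subset_closure ⟨y, hy, rfl⟩)
    have hni : ¬ (p : ℤ) ∣ i := by
      rintro ⟨d, rfl⟩
      exact hxR (hrw ▸ R.mul_mem hr' (by rw [zpow_mul]; exact zpow_mem hyp d))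
    obtain ⟨a, b, hab⟩ : IsCoprime (i : ℤ) (p : ℤ) :=
      ((Nat.prime_iff_prime_int.1 hp.out).coprime_iff_not_dvd.2 hni).symm
    have hyi : y ^ i ∈ zpowers x ⊔ R := by
      rw [show y ^ i = r⁻¹ * x by rw [← hrw, inv_mul_cancel_left]]
      exact mul_mem (mem_sup_right (R.inv_mem hr')) (mem_sup_left (mem_zpowers x))
    rw [← zpow_one y, ← hab, zpow_add, mul_comm a, zpow_mul, mul_comm b, zpow_mul]
    exact mul_mem (zpow_mem hyi a) (zpow_mem (mem_sup_right hyp) b)

variable [Finite G] {p : ℕ} [hp : Fact p.Prime]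

section cube

variable {P K : Subgroup G} {z : G} (hPc : Nat.card P = p ^ 3) (hexp : ∀ y ∈ P, y ^ p = 1)
  (hz : z ∈ P) (hzo : orderOf z = p) (hzc : ∀ a ∈ P, Commute a z)
include hPc hexp hz hzo hzc

/-- The subgroup spanned by `y` and `z`. -/
theorem card_line {y : G} (hy : y ∈ P) (hyz : y ∉ zpowers z) :
    Nat.card ↥(zpowers y ⊔ zpowers z) = p ^ 2 := by
  have hn : zpowers y ≤ normalizer (zpowers z : Set G) :=
    le_trans (fun a ha => mem_centralizer_iff.2 fun b hb => by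
      obtain ⟨i, rfl⟩ := mem_zpowers_iff.1 ha
      obtain ⟨j, rfl⟩ := mem_zpowers_iff.1 hb
      exact (((hzc y hy).zpow_left i).zpow_right j).symm.eq)
      (centralizer_le_normalizer _)
  have hyo : orderOf y = p := orderOf_eq_prime (hexp y hy) fun h => hyz (h ▸ one_mem _)
  have hd : Disjoint (zpowers y) (zpowers z) := by
    rw [disjoint_iff]
    by_contra hne
    have hc : Nat.card ↥(zpowers y ⊓ zpowers z) = p := by
      have hd : Nat.card ↥(zpowers y ⊓ zpowers z) ∣ p := by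
        rw [← hyo, ← Nat.card_zpowers]
        exact card_dvd_of_le inf_le_left
      exact (hp.out.eq_one_or_self_of_dvd _ hd).resolve_left fun h => hne (Subgroup.eq_bot_of_card_eq _ h)
    have he : zpowers y ⊓ zpowers z = zpowers y :=
      eq_of_le_of_card_ge inf_le_left (by rw [hc, Nat.card_zpowers, hyo])
    exact hyz (inf_eq_left.1 he (mem_zpowers y))
  rw [← BGTypeBasic.card_mul_of_isComplIn (A := zpowers y) (B := zpowers z)
    ⟨le_sup_left, le_sup_right, hd.eq_bot, fun m hm => by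
      rw [← SetLike.mem_coe, coe_mul_of_left_le_normalizer_right _ _ hn] at hm
      obtain ⟨a, ha, b, hb, hab⟩ := Set.mem_mul.1 hm
      exact ⟨a, ha, b, hb, hab.symm⟩⟩, Nat.card_zpowers, Nat.card_zpowers, hyo, hzo, sq]

omit hPc hexp hz hzo in
theorem mem_line {y u : G} (hy : y ∈ P) (hu : u ∈ zpowers y ⊔ zpowers z) :
    ∃ i j : ℤ, u = y ^ i * z ^ j := by
  have hn : zpowers y ≤ normalizer (zpowers z : Set G) :=
    le_trans (fun a ha => mem_centralizer_iff.2 fun b hb => by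
      obtain ⟨i, rfl⟩ := mem_zpowers_iff.1 ha
      obtain ⟨j, rfl⟩ := mem_zpowers_iff.1 hb
      exact (((hzc y hy).zpow_left i).zpow_right j).symm.eq)
      (centralizer_le_normalizer _)
  rw [← SetLike.mem_coe, coe_mul_of_left_le_normalizer_right _ _ hn] at hu
  obtain ⟨a, ha, b, hb, rfl⟩ := Set.mem_mul.1 hu
  obtain ⟨i, rfl⟩ := mem_zpowers_iff.1 ha
  obtain ⟨j, rfl⟩ := mem_zpowers_iff.1 hb
  exact ⟨i, j, rfl⟩

omit hexp in
theorem commutator_mem {a b : G} (ha : a ∈ P) (hb : b ∈ P) : ⁅a, b⁆ ∈ zpowers z := by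
  haveI : ((zpowers z).subgroupOf P).Normal := by
    refine normal_subgroupOf_of_le_normalizer (le_trans ?_ (centralizer_le_normalizer _))
    intro a ha
    refine mem_centralizer_iff.2 fun b hb => ?_
    obtain ⟨j, rfl⟩ := mem_zpowers_iff.1 hb
    exact ((hzc a ha).zpow_right j).symm.eq
  have hcard : Nat.card (P ⧸ (zpowers z).subgroupOf P) = p ^ 2 := by
    rw [← index_eq_card]
    refine Nat.eq_of_mul_eq_mul_left hp.out.pos ?_
    have h := ((zpowers z).subgroupOf P).card_mul_index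
    rw [Nat.card_congr (subgroupOfEquivOfLe (zpowers_le.2 hz)).toEquiv, Nat.card_zpowers, hzo] at h
    rw [h, hPc]
    ring
  have hc := IsPGroup.isMulCommutative_of_card_eq_prime_sq hcard
  have h1 : QuotientGroup.mk' ((zpowers z).subgroupOf P) ⁅(⟨a, ha⟩ : P), ⟨b, hb⟩⁆ = 1 := by
    rw [map_commutatorElement, commutatorElement_eq_one_iff_mul_comm]
    exact hc.is_comm.comm _ _
  exact mem_subgroupOf.1 ((QuotientGroup.eq_one_iff _).1 h1)

variable (hna : ¬ IsMulCommutative P) (hKP : K ≤ normalizer (P : Set G)) (hodd : Odd (Nat.card K))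
  (hcop : (Nat.card K).Coprime p) (hKz : ∀ k ∈ K, Commute k z)
  (hfix : ∀ k ∈ K, k ≠ 1 → ∀ y ∈ P, Commute k y → y ∈ zpowers z)

include hna in
theorem not_commute_of_not_mem {t t' : G} (ht : t ∈ P) (htz : t ∉ zpowers z) (ht' : t' ∈ P)
    (h : t' ∉ zpowers t ⊔ zpowers z) : ¬ Commute t t' := by
  intro hc
  have hE : Cfsg.IsElementaryAbelian p (zpowers t ⊔ zpowers z ⊔ zpowers t' : Subgroup G) := by
    refine PGroupsBasic.isElementaryAbelian_sup (PGroupsBasic.isElementaryAbelian_sup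
      (PGroupsBasic.isElementaryAbelian_zpowers (hexp t ht))
      (PGroupsBasic.isElementaryAbelian_zpowers (hexp z hz)) ?_)
      (PGroupsBasic.isElementaryAbelian_zpowers (hexp t' ht')) ?_
    · rintro a ha b hb
      obtain ⟨i, rfl⟩ := mem_zpowers_iff.1 ha
      obtain ⟨j, rfl⟩ := mem_zpowers_iff.1 hb
      exact (((hzc t ht).zpow_left i).zpow_right j).symm.eq
    · rintro a ha b hb
      obtain ⟨i, j, rfl⟩ := mem_line hzc ht ha
      obtain ⟨k, rfl⟩ := mem_zpowers_iff.1 hb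
      exact (((hc.zpow_left i).zpow_right k).mul_left (((hzc t' ht').symm.zpow_left j).zpow_right k)).symm.eq
  set E := zpowers t ⊔ zpowers z ⊔ zpowers t' with hEdef
  have hEP : E ≤ P :=
    sup_le (sup_le (zpowers_le.2 ht) (zpowers_le.2 hz)) (zpowers_le.2 ht')
  have hlt : p ^ 2 < Nat.card E := by
    rw [← card_line hPc hexp hz hzo hzc ht htz]
    refine lt_of_le_of_ne (Subgroup.card_le_of_le le_sup_left) fun he => h ?_
    rw [eq_of_le_of_card_ge (le_sup_left : zpowers t ⊔ zpowers z ≤ E) he.ge]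
    exact mem_sup_right (mem_zpowers t')
  obtain ⟨k, hk, hkc⟩ := (Nat.dvd_prime_pow hp.out).1 (hPc ▸ card_dvd_of_le hEP)
  rw [hkc] at hlt
  have hk3 : k = 3 := by
    have := (Nat.pow_lt_pow_iff_right hp.out.one_lt).1 hlt
    omega
  exact hna (eq_of_le_of_card_ge hEP (by rw [hPc, hkc, hk3]) ▸ hE.1)

include hcop hKz hfix in
theorem eq_one_of_shift {w : G} (hw : w ∈ K) {t : G} (ht : t ∈ P) (htz : t ∉ zpowers z) {j : ℤ}
    (h : w * t * w⁻¹ = t * z ^ j) : w = 1 := by
  by_contra hw1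
  have hit : ∀ m : ℕ, w ^ m * t * (w ^ m)⁻¹ = t * (z ^ j) ^ m := by
    intro m
    induction m with
    | zero => simp
    | succ m ih =>
      calc w ^ (m + 1) * t * (w ^ (m + 1))⁻¹ = w * (w ^ m * t * (w ^ m)⁻¹) * w⁻¹ := by
            rw [pow_succ' w]; simp only [mul_inv_rev, mul_assoc]
        _ = w * t * w⁻¹ * (w * (z ^ j) ^ m * w⁻¹) := by rw [ih]; group
        _ = t * (z ^ j) ^ (m + 1) := by
          rw [h, (((hKz w hw).zpow_right j).pow_right m).eq, mul_inv_cancel_right, mul_assoc,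
            pow_succ']
  have h1 := hit (Nat.card K)
  have hwn : w ^ Nat.card K = 1 := orderOf_dvd_iff_pow_eq_one.1 (orderOf_dvd_natCard K hw)
  rw [hwn, one_mul, inv_one, mul_one, left_eq_mul, ← orderOf_dvd_iff_pow_eq_one] at h1
  have h2 : orderOf (z ^ j) ∣ p := hzo ▸ orderOf_dvd_of_mem_zpowers ⟨j, rfl⟩
  have h3 : z ^ j = 1 := orderOf_eq_one_iff.1 (Nat.eq_one_of_dvd_coprimes hcop h1 h2)
  rw [h3, mul_one] at h
  exact htz (hfix w hw hw1 t ht (mul_inv_eq_iff_eq_mul.1 h))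

include hna hKP hodd hcop hKz hfix in
/-- A cyclic group acting on an extraspecial group of order `p³` and exponent `p`, fixing only the
centre, has order dividing `p - 1` or `p + 1`. -/
theorem card_dvd_pred_or_succ [hK : IsCyclic K] :
    Nat.card K ∣ p - 1 ∨ Nat.card K ∣ p + 1 := by
  classical
  obtain ⟨⟨k, hk⟩, hgen⟩ := hK.exists_generator
  have hko : orderOf k = Nat.card K := by
    rw [← orderOf_eq_card_of_forall_mem_zpowers hgen, Subgroup.orderOf_mk]
  have hconjP : ∀ w ∈ K, ∀ y ∈ P, w * y * w⁻¹ ∈ P := fun w hw y hy =>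
    (mem_normalizer_iff.1 (hKP hw) y).1 hy
  have hnz : ∀ w ∈ K, ∀ y : G, y ∉ zpowers z → w * y * w⁻¹ ∉ zpowers z := by
    intro w hw y hy h
    obtain ⟨j, hj⟩ := mem_zpowers_iff.1 h
    refine hy ⟨j, ?_⟩
    show z ^ j = y
    calc z ^ j = w⁻¹ * (z ^ j * w) := by
          rw [← ((hKz w hw).zpow_right j).eq, inv_mul_cancel_left]
      _ = y := by rw [hj]; group
  by_cases hline : ∃ t ∈ P, t ∉ zpowers z ∧ k * t * k⁻¹ ∈ zpowers t ⊔ zpowers z
  · obtain ⟨t, ht, htz, htk⟩ := hline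
    left
    obtain ⟨i, j, hij⟩ := mem_line hzc ht htk
    have hit : ∀ m : ℕ, ∃ j' : ℤ, k ^ m * t * (k ^ m)⁻¹ = t ^ (i ^ m) * z ^ j' := by
      intro m
      induction m with
      | zero => exact ⟨0, by simp⟩
      | succ m ih =>
        obtain ⟨j', ih⟩ := ih
        refine ⟨j * i ^ m + j', ?_⟩
        calc k ^ (m + 1) * t * (k ^ (m + 1))⁻¹ = k * (k ^ m * t * (k ^ m)⁻¹) * k⁻¹ := by
              rw [pow_succ' k]; simp only [mul_inv_rev, mul_assoc]
          _ = k * t ^ (i ^ m) * k⁻¹ * (k * z ^ j' * k⁻¹) := by rw [ih]; group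
          _ = (t ^ i * z ^ j) ^ (i ^ m) * z ^ j' := by
            rw [← conj_zpow, hij, ((hKz k hk).zpow_right j').eq, mul_inv_cancel_right]
          _ = t ^ (i ^ (m + 1)) * z ^ (j * i ^ m + j') := by
            rw [(((hzc t ht).zpow_left i).zpow_right j).mul_zpow, ← zpow_mul, ← zpow_mul, pow_succ',
              mul_assoc, ← zpow_add]
    have hni : ¬ (p : ℤ) ∣ i := by
      rintro ⟨d, rfl⟩
      refine hnz k hk t htz ?_
      rw [hij, zpow_mul, zpow_natCast, hexp t ht, one_zpow, one_mul]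
      exact zpow_mem (mem_zpowers z) j
    obtain ⟨j', hj'⟩ := hit (p - 1)
    rw [zpow_eq_self_of_dvd (hexp t ht) (int_fermat hni)] at hj'
    rw [← hko]
    exact orderOf_dvd_of_pow_eq_one
      (eq_one_of_shift hPc hexp hz hzo hzc hcop hKz hfix (pow_mem hk _) ht htz hj')
  push Not at hline
  right
  -- no element of `K` other than one fixes a line
  have hfree : ∀ w ∈ K, ∀ t ∈ P, t ∉ zpowers z → w * t * w⁻¹ ∈ zpowers t ⊔ zpowers z → w = 1 := by
    intro w hw t ht htz hwt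
    obtain ⟨i, j, hij⟩ := mem_line hzc ht hwt
    set t' := k * t * k⁻¹ with ht'def
    have ht' : t' ∈ P := hconjP k hk t ht
    have hcomm : Commute w k := congrArg Subtype.val
      (show (⟨w, hw⟩ : K) * ⟨k, hk⟩ = ⟨k, hk⟩ * ⟨w, hw⟩ from hK.isMulCommutative.is_comm.comm _ _)
    have hij' : w * t' * w⁻¹ = t' ^ i * z ^ j := by
      calc w * t' * w⁻¹ = w * k * t * (w * k)⁻¹ := by rw [ht'def]; group
        _ = k * w * t * (k * w)⁻¹ := by rw [hcomm.eq]
        _ = k * (w * t * w⁻¹) * k⁻¹ := by group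
        _ = k * t ^ i * k⁻¹ * (k * z ^ j * k⁻¹) := by rw [hij]; group
        _ = t' ^ i * z ^ j := by
          rw [← conj_zpow, ((hKz k hk).zpow_right j).eq, mul_inv_cancel_right]
    obtain ⟨m, hm⟩ := mem_zpowers_iff.1 (commutator_mem hPc hz hzo hzc ht ht')
    set c := ⁅t, t'⁆ with hc
    have hcc : ∀ a ∈ P, Commute c a := fun a ha => hm ▸ ((hzc a ha).symm.zpow_left m)
    have hc1 : c ≠ 1 := fun h => not_commute_of_not_mem hPc hexp hz hzo hzc hna ht htz ht'
      (hline t ht htz) (commutatorElement_eq_one_iff_mul_comm.1 h)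
    have hco : orderOf c = p := orderOf_eq_prime (hexp c (hm ▸ zpow_mem hz m)) hc1
    -- `c` is fixed by `w`, and mapped to `c ^ (i * i)`
    have h1 : t' * t * t'⁻¹ = c⁻¹ * t := by rw [hc, commutatorElement_def]; group
    have h2 := conj_zpow_central h1 (hcc t ht).inv_left i
    have h3 : t ^ i * t' * (t ^ i)⁻¹ = c ^ i * t' := by
      have h4 : (t' * t ^ i * t'⁻¹)⁻¹ = ((c⁻¹) ^ i * t ^ i)⁻¹ := by rw [h2]
      calc t ^ i * t' * (t ^ i)⁻¹ = t ^ i * ((t' * t ^ i * t'⁻¹)⁻¹) * t' := by group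
        _ = t ^ i * ((c⁻¹) ^ i * t ^ i)⁻¹ * t' := by rw [h4]
        _ = c ^ i * t' := by rw [inv_zpow]; group
    have h5 := conj_zpow_central h3 ((hcc t' ht').zpow_left i) i
    have h6 : c = (c ^ i) ^ i := by
      have e1 : w * c * w⁻¹ = c := by
        rw [← hm, ((hKz w hw).zpow_right m).eq, mul_inv_cancel_right]
      have e2 : w * c * w⁻¹ = ⁅w * t * w⁻¹, w * t' * w⁻¹⁆ := by
        rw [hc, commutatorElement_def, commutatorElement_def]; group
      rw [e1, hij, hij'] at e2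
      have hz1 : ∀ a ∈ P, Commute (z ^ j) a := fun a ha => ((hzc a ha).symm.zpow_left j)
      have e3 : ⁅t ^ i * z ^ j, t' ^ i * z ^ j⁆ = ⁅t ^ i, t' ^ i⁆ := by
        have a1 := hz1 _ (zpow_mem ht' i)
        have a2 := hz1 _ (zpow_mem ht i)
        rw [commutatorElement_def, commutatorElement_def]
        calc t ^ i * z ^ j * (t' ^ i * z ^ j) * (t ^ i * z ^ j)⁻¹ * (t' ^ i * z ^ j)⁻¹
            = t ^ i * (z ^ j * t' ^ i) * (t ^ i)⁻¹ * ((z ^ j)⁻¹ * (t' ^ i)⁻¹) := by group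
          _ = t ^ i * t' ^ i * (z ^ j * (t ^ i)⁻¹) * ((t' ^ i)⁻¹ * (z ^ j)⁻¹) := by
            rw [a1.eq, a1.inv_inv.eq]; group
          _ = t ^ i * t' ^ i * (t ^ i)⁻¹ * (z ^ j * (t' ^ i)⁻¹) * (z ^ j)⁻¹ := by
            rw [a2.inv_right.eq]; group
          _ = t ^ i * t' ^ i * (t ^ i)⁻¹ * (t' ^ i)⁻¹ := by rw [a1.inv_right.eq]; group
      rw [e3, commutatorElement_def, h5, mul_inv_cancel_right] at e2
      exact e2
    have hdvd : (p : ℤ) ∣ i * i - 1 := by
      rw [← hco, orderOf_dvd_iff_zpow_eq_one, zpow_sub, zpow_one, zpow_mul, ← h6, mul_inv_cancel]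
    have hw2 : w ^ 2 = 1 := by
      refine eq_one_of_shift hPc hexp hz hzo hzc hcop hKz hfix (pow_mem hw 2) ht htz
        (j := j * i + j) ?_
      calc w ^ 2 * t * (w ^ 2)⁻¹ = w * (w * t * w⁻¹) * w⁻¹ := by rw [sq]; group
        _ = w * t ^ i * w⁻¹ * (w * z ^ j * w⁻¹) := by rw [hij]; group
        _ = t ^ (i * i) * z ^ (j * i + j) := by
          rw [← conj_zpow, hij, (((hzc t ht).zpow_left i).zpow_right j).mul_zpow,
            ((hKz w hw).zpow_right j).eq, mul_inv_cancel_right, ← zpow_mul, ← zpow_mul, mul_assoc,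
            ← zpow_add]
        _ = t * z ^ (j * i + j) := by rw [zpow_eq_self_of_dvd (hexp t ht) hdvd]
    refine orderOf_eq_one_iff.1 (Nat.eq_one_of_dvd_coprimes ?_ (orderOf_dvd_natCard K hw)
      (orderOf_dvd_of_pow_eq_one hw2))
    exact hodd.coprime_two_right
  -- `K` acts freely on the lines
  let L := {T : Subgroup G // ∃ y ∈ P, y ∉ zpowers z ∧ T = zpowers y ⊔ zpowers z}
  have hmap : ∀ w ∈ K, ∀ y : G, BGTypeP.cj w (zpowers y ⊔ zpowers z) =
      zpowers (w * y * w⁻¹) ⊔ zpowers z := by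
    intro w hw y
    rw [BGTypeP.cj, Subgroup.map_sup, MonoidHom.map_zpowers, MonoidHom.map_zpowers]
    have : (MulAut.conj w).toMonoidHom z = z := by
      show w * z * w⁻¹ = z
      rw [(hKz w hw).eq, mul_inv_cancel_right]
    rw [this]
    rfl
  letI act : MulAction K L :=
    { smul := fun w T => ⟨BGTypeP.cj (w : G) T.1, by
        obtain ⟨y, hy, hyz, hT⟩ := T.2
        exact ⟨w * y * (w : G)⁻¹, hconjP w w.2 y hy, hnz w w.2 y hyz, hT ▸ hmap w w.2 y⟩⟩
      one_smul := fun T => Subtype.ext (BGTypeP.cj_one _)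
      mul_smul := fun a b T => Subtype.ext (BGTypeP.cj_mul _ _ _).symm }
  have hstab : ∀ T : L, MulAction.stabilizer K T = ⊥ := by
    intro T
    rw [eq_bot_iff]
    intro w hw
    obtain ⟨y, hy, hyz, hT⟩ := T.2
    have h1 : BGTypeP.cj (w : G) T.1 = T.1 := congrArg Subtype.val (MulAction.mem_stabilizer_iff.1 hw)
    rw [mem_bot]
    refine Subtype.ext (hfree w w.2 y hy hyz ?_)
    rw [← hT, ← h1]
    exact BGTypeP.conj_mem_cj.2 (hT ▸ mem_sup_left (mem_zpowers y))
  have hdvd : Nat.card K ∣ Nat.card L := by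
    rw [Nat.card_congr (MulAction.selfEquivOrbitsQuotientProd hstab), Nat.card_prod]
    exact dvd_mul_left _ _
  -- count the lines
  let D := {y : G // y ∈ (P : Set G) \ (zpowers z : Set G)}
  let f : D → L := fun y => ⟨zpowers (y : G) ⊔ zpowers z, y, y.2.1, y.2.2, rfl⟩
  have hfib : ∀ T : L, Nat.card {y : D // f y = T} = p ^ 2 - p := by
    intro T
    obtain ⟨t, ht, htz, hT⟩ := T.2
    have hTP : T.1 ≤ P := hT ▸ sup_le (zpowers_le.2 ht) (zpowers_le.2 hz)
    have hzT : zpowers z ≤ T.1 := hT ▸ le_sup_right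
    have hTc : Nat.card T.1 = p ^ 2 := by rw [hT]; exact card_line hPc hexp hz hzo hzc ht htz
    have e : {y : D // f y = T} ≃ ↥((T.1 : Set G) \ (zpowers z : Set G)) :=
      { toFun := fun y => ⟨(y.1 : G), by
          refine ⟨?_, y.1.2.2⟩
          show (y.1 : G) ∈ T.1
          rw [← congrArg Subtype.val y.2]
          exact mem_sup_left (mem_zpowers _)⟩
        invFun := fun y => ⟨⟨(y : G), hTP y.2.1, y.2.2⟩, Subtype.ext (eq_of_le_of_card_ge
          (sup_le (zpowers_le.2 y.2.1) hzT)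
          (by rw [hTc]; exact (card_line hPc hexp hz hzo hzc (hTP y.2.1) y.2.2).ge))⟩
        left_inv := fun y => Subtype.ext (Subtype.ext rfl)
        right_inv := fun y => Subtype.ext rfl }
    rw [Nat.card_congr e, Nat.card_coe_set_eq, Set.ncard_diff hzT]
    · rw [← Nat.card_coe_set_eq, ← Nat.card_coe_set_eq]
      show Nat.card T.1 - Nat.card (zpowers z) = _
      rw [hTc, Nat.card_zpowers, hzo]
  have hD : Nat.card D = p ^ 3 - p := by
    show Nat.card ↥((P : Set G) \ (zpowers z : Set G)) = _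
    rw [Nat.card_coe_set_eq, Set.ncard_diff (zpowers_le.2 hz : zpowers z ≤ P)]
    rw [← Nat.card_coe_set_eq, ← Nat.card_coe_set_eq]
    show Nat.card P - Nat.card (zpowers z) = _
    rw [hPc, Nat.card_zpowers, hzo]
  haveI := Fintype.ofFinite L
  rw [← Nat.card_congr (Equiv.sigmaFiberEquiv f), Nat.card_sigma] at hD
  simp only [hfib, Finset.sum_const, Finset.card_univ, smul_eq_mul, ← Nat.card_eq_fintype_card] at hD
  suffices hL : Nat.card L = p + 1 by rwa [hL] at hdvd
  have hp1 : p < p ^ 2 := by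
    calc p = p ^ 1 := (pow_one p).symm
      _ < p ^ 2 := Nat.pow_lt_pow_right hp.out.one_lt (by norm_num)
  refine Nat.eq_of_mul_eq_mul_right (Nat.sub_pos_of_lt hp1) (hD.trans ?_)
  rw [Nat.mul_sub, add_mul, add_mul, one_mul, one_mul]
  have e1 : p * p ^ 2 = p ^ 3 := by ring
  have e2 : p * p = p ^ 2 := by ring
  rw [e1, e2]
  omega

end cube

end Cfsg.Agent.BGNonTIOrder
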