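/-
Solvable groups in which `p`-subgroups of equal order are conjugate and all but one kind of Sylow
subgroups are cyclic: subgroups of equal order are conjugate.
-/
import Mathlib
import Cfsg.Agent.Lib.HallTheorem
import Cfsg.Agent.Lib.CoprimeTools

open scoped Pointwise

namespace Cfsg.Agent.FrobeniusOrderConj

open Cfsg.Agent

universe u

/-- `p`-subgroups of equal order are conjugate, for all primes. -/
def PConj (G : Type u) [Group G] : Prop :=
  ∀ p : ℕ, p.Prime → ∀ H K : Subgroup G, IsPGroup p H → IsPGroup p K → Nat.card H = Nat.card K →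
    ∃ g : G, MulAut.conj g • H = K

variable {G : Type u} [Group G]

theorem conj_smul_mono {g : G} {A B : Subgroup G} (h : A ≤ B) :
    MulAut.conj g • A ≤ MulAut.conj g • B := Subgroup.pointwise_smul_le_pointwise_smul_iff.2 h

theorem card_smul (g : G) (A : Subgroup G) :
    Nat.card ↥(MulAut.conj g • A) = Nat.card A := HallTheorem.card_conj_smul g A

/-- Conjugation inside a subgroup. -/
theorem sub_conj {M A B : Subgroup G} (hA : A ≤ M) (hB : B ≤ M) (g : M)
    (h : MulAut.conj g • A.subgroupOf M = B.subgroupOf M) : MulAut.conj (g : G) • A = B := by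
  have h1 := congrArg (Subgroup.map M.subtype) h
  rw [HallTheorem.map_conj_smul, Subgroup.map_subgroupOf_eq_of_le hA,
    Subgroup.map_subgroupOf_eq_of_le hB] at h1
  exact h1

/-- In a finite cyclic group subgroups of equal order are equal. -/
theorem eq_of_card_eq_of_isCyclic [Finite G] [IsCyclic G] {A B : Subgroup G}
    (h : Nat.card A = Nat.card B) : A = B := by
  classical
  have := Fintype.ofFinite G
  set s := Finset.univ.filter (fun x : G => x ^ Nat.card A = 1) with hs
  have hsub : ∀ C : Subgroup G, Nat.card C = Nat.card A → ∀ x, x ∈ C ↔ x ∈ s := by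
    intro C hC
    have h1 : Finset.univ.filter (fun x : G => x ∈ C) ⊆ s := fun x hx => by
      simp only [Finset.mem_filter, Finset.mem_univ, true_and, hs] at hx ⊢
      exact orderOf_dvd_iff_pow_eq_one.1 (hC ▸ Subgroup.orderOf_dvd_natCard C hx)
    have h2 : s.card ≤ Nat.card A := IsCyclic.card_pow_eq_one_le Nat.card_pos
    have h3 : (Finset.univ.filter (fun x : G => x ∈ C)).card = Nat.card A := by
      rw [← hC, Nat.card_eq_fintype_card, ← Fintype.card_subtype]
    have h4 := Finset.eq_of_subset_of_card_le h1 (h3 ▸ h2)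
    intro x
    rw [← h4]
    simp
  ext x
  rw [hsub A rfl, hsub B h.symm]

/-- Cyclic Sylow subgroups give conjugacy of `p`-subgroups of equal order. -/
theorem pconj_of_cyclic [Finite G] (h : ∀ p : ℕ, p.Prime → ∀ P : Sylow p G, IsCyclic P) :
    PConj G := by
  intro p hp H K hH hK hc
  have := Fact.mk hp
  obtain ⟨P, hP⟩ := hH.exists_le_sylow
  obtain ⟨Q, hQ⟩ := hK.exists_le_sylow
  obtain ⟨g, hg⟩ := MulAction.exists_smul_eq G P Q
  refine ⟨g, ?_⟩
  have hg' : MulAut.conj g • (P : Subgroup G) = (Q : Subgroup G) :=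
    congrArg Sylow.toSubgroup hg
  have hH' : MulAut.conj g • H ≤ (Q : Subgroup G) := hg' ▸ conj_smul_mono hP
  have := h p hp Q
  have h1 : (MulAut.conj g • H).subgroupOf Q = K.subgroupOf Q := eq_of_card_eq_of_isCyclic (by
    rw [Nat.card_congr (Subgroup.subgroupOfEquivOfLe hH').toEquiv,
      Nat.card_congr (Subgroup.subgroupOfEquivOfLe hQ).toEquiv, card_smul, hc])
  have h2 := congrArg (Subgroup.map (Q : Subgroup G).subtype) h1
  rwa [Subgroup.map_subgroupOf_eq_of_le hH', Subgroup.map_subgroupOf_eq_of_le hQ] at h2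

/-- A Sylow subgroup of a subgroup, as a subgroup of the group. -/
theorem exists_sylow_of (A : Subgroup G) [Finite G] (p : ℕ) [Fact p.Prime] :
    ∃ S : Subgroup G, S ≤ A ∧ IsPGroup p S ∧
      Nat.card S = p ^ (Nat.card A).factorization p ∧
      ∀ T ≤ A, IsPGroup p T → A ≤ Subgroup.normalizer (T : Set G) → T ≤ S := by
  obtain ⟨P⟩ : Nonempty (Sylow p A) := inferInstance
  refine ⟨(P : Subgroup A).map A.subtype, Subgroup.map_subtype_le _, P.isPGroup'.map _, ?_, ?_⟩
  · rw [Subgroup.card_map_of_injective A.subtype_injective, P.card_eq_multiplicity]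
  · intro T hTA hT hn
    have : (Subgroup.comap A.subtype T).Normal := Subgroup.normal_subgroupOf_of_le_normalizer hn
    have h1 : IsPGroup p ↥(T.subgroupOf A ⊔ (P : Subgroup A)) :=
      (hT.comap_subtype (K := A)).to_sup_of_normal_left P.isPGroup'
    have h2 : T.subgroupOf A ≤ P := le_sup_left.trans (P.is_maximal' h1 le_sup_right).le
    intro x hx
    exact ⟨⟨x, hTA hx⟩, h2 hx, rfl⟩

/-- A Hall `p'`-subgroup of a subgroup, as a subgroup of the group. -/
theorem exists_hall_of [Finite G] [Group.IsSolvable G] (A : Subgroup G) (p : ℕ) [Fact p.Prime] :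
    ∃ T : Subgroup G, T ≤ A ∧ ¬ p ∣ Nat.card T ∧
      Nat.card T * p ^ (Nat.card A).factorization p = Nat.card A := by
  have hp : p.Prime := Fact.out
  obtain ⟨E, hE⟩ := HallTheorem.exists_isPiHall_of_solvable (G := A) ({p}ᶜ : Set ℕ)
  have hpE : ¬ p ∣ Nat.card E := fun hd => hE.1 p hp hd rfl
  refine ⟨E.map A.subtype, Subgroup.map_subtype_le _,
    by rwa [Subgroup.card_map_of_injective A.subtype_injective], ?_⟩
  rw [Subgroup.card_map_of_injective A.subtype_injective]
  have hidx : ∀ q, q.Prime → q ∣ E.index → q = p := fun q hq hd => by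
    by_contra hne
    exact hE.2 q hq hne hd
  have hi0 : E.index ≠ 0 := Subgroup.index_ne_zero_of_finite
  have h1 : E.index = p ^ E.index.factorization p := by
    refine (Nat.eq_pow_of_factorization_eq_single hi0 ?_)
    refine Finsupp.ext fun q => ?_
    by_cases hq : q = p
    · subst hq; simp
    · rw [Finsupp.single_eq_of_ne hq]
      by_cases hqp : q.Prime
      · exact Nat.factorization_eq_zero_of_not_dvd fun hd => hq (hidx q hqp hd)
      · exact Nat.factorization_eq_zero_of_not_prime _ hqp
  have h2 : (Nat.card A).factorization p = E.index.factorization p := by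
    rw [← E.card_mul_index, Nat.factorization_mul Nat.card_pos.ne' hi0, Finsupp.add_apply,
      Nat.factorization_eq_zero_of_not_dvd hpE, zero_add]
  rw [h2, ← h1, E.card_mul_index]

theorem isCyclic_of_le_sylow [Finite G] {p : ℕ} [Fact p.Prime] {A : Subgroup G}
    (hA : IsPGroup p A) (h : ∀ P : Sylow p G, IsCyclic P) : IsCyclic A := by
  obtain ⟨P, hP⟩ := hA.exists_le_sylow
  have := h P
  exact isCyclic_of_injective (Subgroup.inclusion hP) (Subgroup.inclusion_injective hP)

theorem aux (n : ℕ) : ∀ (G : Type u) [Group G] [Finite G], Group.IsSolvable G → Nat.card G < n →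
    PConj G → ∀ r : ℕ, (∀ p : ℕ, p.Prime → p ≠ r → ∀ P : Sylow p G, IsCyclic P) →
      ∀ H K : Subgroup G, Nat.card H = Nat.card K → ∃ g : G, MulAut.conj g • H = K := by
  induction n with
  | zero => intro G _ _ _ h; omega
  | succ n ih =>
    intro G _ _ hsolv hn hP r hcyc H K hHK
    rcases subsingleton_or_nontrivial G with h1 | h1
    · exact ⟨1, Subsingleton.elim _ _⟩
    obtain ⟨N, hNmin⟩ := HallSolvable.exists_minNormal (G := G)
    have := hNmin.normal
    obtain ⟨p, d, hp, hd, hNcard, hNel⟩ := hNmin.card_eq_pow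
    have := Fact.mk hp
    have hNp : IsPGroup p N := IsPGroup.of_card hNcard
    have hlt : Nat.card (G ⧸ N) < n := by
      have := HallSolvable.card_quotient_lt hNmin.ne_bot
      omega
    -- the quotient
    have hquot : ∀ A B : Subgroup (G ⧸ N), Nat.card A = Nat.card B →
        ∃ g : G ⧸ N, MulAut.conj g • A = B := by
      refine ih _ inferInstance hlt ?_ r fun q hq hqr P => ?_
      · intro q hq A B hA hB hAB
        have := Fact.mk hq
        obtain ⟨S, hSA, hSp, hSc, -⟩ := exists_sylow_of (A.comap (QuotientGroup.mk' N)) q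
        obtain ⟨T, hTB, hTp, hTc, -⟩ := exists_sylow_of (B.comap (QuotientGroup.mk' N)) q
        have hcomap : Nat.card (A.comap (QuotientGroup.mk' N)) =
            Nat.card (B.comap (QuotientGroup.mk' N)) := by
          rw [← HallCore.card_comap_mk', ← HallCore.card_comap_mk', hAB]
        obtain ⟨g, hg⟩ := hP q hq S T hSp hTp (by rw [hSc, hTc, hcomap])
        have himg : ∀ (C : Subgroup (G ⧸ N)) (U : Subgroup G), IsPGroup q C →
            U ≤ C.comap (QuotientGroup.mk' N) →
            Nat.card U = q ^ (Nat.card (C.comap (QuotientGroup.mk' N))).factorization q →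
              U.map (QuotientGroup.mk' N) = C := by
          intro C U hC hU hUc
          refine Subgroup.eq_of_le_of_card_ge ((Subgroup.map_le_iff_le_comap).2 hU) ?_
          obtain ⟨i, hi⟩ := IsPGroup.iff_card.1 hC
          obtain ⟨j, hj⟩ := IsPGroup.iff_card.1 ((IsPGroup.of_card hUc).map (QuotientGroup.mk' N))
          have hker := ((QuotientGroup.mk' N).comp U.subtype).ker.index_mul_card
          have h2 : ((QuotientGroup.mk' N).comp U.subtype).ker = (N ⊓ U).subgroupOf U := by
            ext x
            rw [MonoidHom.mem_ker, Subgroup.mem_subgroupOf, MonoidHom.comp_apply,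
              Subgroup.coe_subtype, QuotientGroup.mk'_apply, QuotientGroup.eq_one_iff]
            exact ⟨fun h => ⟨h, x.2⟩, fun h => h.1⟩
          rw [Subgroup.index_ker, MonoidHom.range_comp, Subgroup.range_subtype, h2,
            Nat.card_congr (Subgroup.subgroupOfEquivOfLe (inf_le_right : N ⊓ U ≤ U)).toEquiv,
            hj, hUc] at hker
          rw [← HallCore.card_comap_mk', hi, Nat.factorization_mul (pow_ne_zero _ hq.ne_zero)
            Nat.card_pos.ne', Finsupp.add_apply, hq.factorization_pow, Finsupp.single_eq_same]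
            at hker
          have h3 : Nat.card ↥(N ⊓ U) ≤ q ^ (Nat.card N).factorization q := by
            obtain ⟨k, hk⟩ := IsPGroup.iff_card.1 ((IsPGroup.of_card hUc).to_le (inf_le_right : N ⊓ U ≤ U))
            rw [hk]
            refine Nat.pow_le_pow_right hq.pos ?_
            rw [← hq.pow_dvd_iff_le_factorization Nat.card_pos.ne', ← hk]
            exact Subgroup.card_dvd_of_le inf_le_left
          rw [hi, hj]
          rw [pow_add] at hker
          have h4 : 0 < q ^ (Nat.card N).factorization q := pow_pos hq.pos _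
          nlinarith
        refine ⟨(g : G ⧸ N), ?_⟩
        rw [← himg A S hA hSA hSc, ← himg B T hB hTB hTc, ← hg, HallTheorem.map_conj_smul]
        rfl
      · have := Fact.mk hq
        obtain ⟨Q, rfl⟩ := Sylow.mapSurjective_surjective (QuotientGroup.mk'_surjective N) q P
        have := hcyc q hq hqr Q
        exact isCyclic_of_surjective ((QuotientGroup.mk' N).subgroupMap (Q : Subgroup G))
          ((QuotientGroup.mk' N).subgroupMap_surjective _)
    -- make the `p`-parts equal
    obtain ⟨SH, hSH, hSHp, hSHc, hSHn⟩ := exists_sylow_of H p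
    obtain ⟨S, hSK, hSp, hSc, hSn⟩ := exists_sylow_of K p
    obtain ⟨g₀, hg₀⟩ := hP p hp SH S hSHp hSp (by rw [hSHc, hSc, hHK])
    suffices hmain : ∃ g : G, MulAut.conj g • (MulAut.conj g₀ • H) = K by
      obtain ⟨g, hg⟩ := hmain
      exact ⟨g * g₀, by rw [map_mul, mul_smul, hg]⟩
    set H₁ := MulAut.conj g₀ • H with hH₁
    have hH₁c : Nat.card H₁ = Nat.card K := by rw [hH₁, card_smul, hHK]
    have hS₁ : S ≤ H₁ := hg₀ ▸ conj_smul_mono hSH
    have hNnorm : ∀ A : Subgroup G, A ≤ Subgroup.normalizer (N : Set G) := fun A => by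
      rw [Subgroup.normalizer_eq_top_iff.2 hNmin.normal]
      exact le_top
    have hKN : K ⊓ N = S ⊓ N := by
      refine le_antisymm (le_inf (hSn _ inf_le_left (hNp.to_le inf_le_right) ?_) inf_le_right)
        (inf_le_inf_right _ hSK)
      exact CoprimeAction.le_normalizer_inf Subgroup.le_normalizer (hNnorm K)
    have hHN : H₁ ⊓ N = S ⊓ N := by
      refine le_antisymm ?_ (inf_le_inf_right _ hS₁)
      have h2 : H ⊓ N ≤ SH ⊓ N := by
        refine le_inf (hSHn _ inf_le_left (hNp.to_le inf_le_right) ?_) inf_le_right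
        exact CoprimeAction.le_normalizer_inf Subgroup.le_normalizer (hNnorm H)
      have h3 := conj_smul_mono (g := g₀) h2
      rw [Subgroup.smul_inf, Subgroup.smul_inf, hg₀, HallTheorem.conj_smul_normal g₀ N, ← hH₁] at h3
      exact h3
    by_cases hNS : N ≤ S
    · -- both contain `N`
      have hNK : N ≤ K := hNS.trans hSK
      have hNH : N ≤ H₁ := hNS.trans hS₁
      obtain ⟨x, hx⟩ := hquot (H₁.map (QuotientGroup.mk' N)) (K.map (QuotientGroup.mk' N)) (by
        have e1 := HallCore.card_map_mk'_mul N H₁ hNH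
        have e2 := HallCore.card_map_mk'_mul N K hNK
        rw [hH₁c, ← e2] at e1
        exact Nat.eq_of_mul_eq_mul_right Nat.card_pos e1)
      obtain ⟨x, rfl⟩ := QuotientGroup.mk'_surjective N x
      refine ⟨x, ?_⟩
      rw [← HallTheorem.map_conj_smul] at hx
      have h2 := congrArg (Subgroup.comap (QuotientGroup.mk' N)) hx
      rwa [HallSolvable.comap_mk'_map_of_le hNK, HallSolvable.comap_mk'_map_of_le] at h2
      rw [← HallTheorem.conj_smul_normal x N]
      exact conj_smul_mono hNH
    -- the `p`-parts lie in `N`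
    have hSN : S ≤ N := by
      obtain ⟨j, hj⟩ := IsPGroup.iff_card.1 hSp
      rcases le_total j d with hjd | hjd
      · obtain ⟨T, hT⟩ := Sylow.exists_subgroup_card_pow_prime (G := N) p (n := j)
          (by rw [hNcard]; exact pow_dvd_pow p hjd)
        obtain ⟨x, hx⟩ := hP p hp (T.map N.subtype) S (hNp.to_le (Subgroup.map_subtype_le _)) hSp (by
          rw [Subgroup.card_map_of_injective N.subtype_injective, hT, hj])
        exact hx ▸ (conj_smul_mono (Subgroup.map_subtype_le T)).trans
          (HallTheorem.conj_smul_normal x N).le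
      · obtain ⟨T, hT, hNT⟩ := Sylow.exists_subgroup_card_pow_prime_le p
          (hj ▸ Subgroup.card_subgroup_dvd_card S) N hNcard hjd
        obtain ⟨x, hx⟩ := hP p hp T S (IsPGroup.of_card hT) hSp (by rw [hT, hj])
        exact absurd (hx ▸ (HallTheorem.conj_smul_normal x N).ge.trans (conj_smul_mono hNT)) hNS
    have hD₁ : H₁ ⊓ N = S := hHN.trans (inf_eq_left.2 hSN)
    have hD₂ : K ⊓ N = S := hKN.trans (inf_eq_left.2 hSN)
    by_cases hpr : p = r
    · subst hpr
      set M := Subgroup.normalizer (S : Set G) with hM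
      have hle : ∀ A : Subgroup G, A ⊓ N = S → A ≤ M := fun A hA => by
        rw [hM, ← hA]
        exact CoprimeAction.le_normalizer_inf Subgroup.le_normalizer (hNnorm A)
      have hH₁M := hle H₁ hD₁
      have hKM := hle K hD₂
      obtain ⟨A, hAH, hpA, hAc⟩ := exists_hall_of H₁ p
      obtain ⟨B, hBK, hpB, hBc⟩ := exists_hall_of K p
      have hAB : Nat.card A = Nat.card B := by
        rw [hH₁c] at hAc
        exact Nat.eq_of_mul_eq_mul_right (pow_pos hp.pos _) (hAc.trans hBc.symm)
      have hpi : ∀ C : Subgroup G, C ≤ M → ¬ p ∣ Nat.card C →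
          HallCore.PiNat ({p}ᶜ : Set ℕ) (Nat.card (C.subgroupOf M)) := by
        intro C hCM hC q hq hd hqp
        rw [Nat.card_congr (Subgroup.subgroupOfEquivOfLe hCM).toEquiv] at hd
        exact hC ((Set.mem_singleton_iff.1 hqp) ▸ hd)
      obtain ⟨E, hE, hAE⟩ :=
        HallTheorem.exists_isPiHall_ge_of_solvable (hpi A (hAH.trans hH₁M) hpA)
      obtain ⟨m, hBE⟩ := HallTheorem.le_conj_isPiHall (HallSolvable.isPiSeparable_of_solvable _)
        (HallTheorem.complSolvable_of_solvable _) (hpi B (hBK.trans hKM) hpB) hE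
      set B' := MulAut.conj m⁻¹ • B.subgroupOf M with hB'
      have hB'E : B' ≤ E := by
        have h2 := conj_smul_mono (g := m⁻¹) hBE
        rwa [smul_smul, ← map_mul, inv_mul_cancel, map_one, one_smul] at h2
      have hpE : ¬ p ∣ Nat.card E := fun h => hE.1 p hp h rfl
      have hEcyc : ∀ q : ℕ, q.Prime → ∀ P : Sylow q E, IsCyclic P := by
        intro q hq P
        have := Fact.mk hq
        by_cases hqp : q = p
        · subst hqp
          have : Subsingleton P := by
            obtain ⟨i, hi⟩ := IsPGroup.iff_card.1 P.isPGroup'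
            rcases i with - | i
            · exact (Nat.card_eq_one_iff_unique.1 (by rw [hi, pow_zero])).1
            · exact absurd ((dvd_pow_self q (Nat.succ_ne_zero i)).trans
                (hi ▸ Subgroup.card_subgroup_dvd_card (P : Subgroup E))) hpE
          infer_instance
        · have := isCyclic_of_le_sylow
            (P.isPGroup'.map (M.subtype.comp E.subtype)) (hcyc q hq hqp)
          exact isCyclic_of_injective ((M.subtype.comp E.subtype).subgroupMap (P : Subgroup E))
            (fun a b e => by
              have e' : M.subtype (E.subtype (a : E)) = M.subtype (E.subtype (b : E)) :=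
                congrArg (fun z : (P : Subgroup E).map (M.subtype.comp E.subtype) => (z : G)) e
              exact Subtype.ext (E.subtype_injective (M.subtype_injective e')))
      have hEn : Nat.card E < n := by
        have h2 : Nat.card E ∣ Nat.card G :=
          (Subgroup.card_subgroup_dvd_card E).trans (Subgroup.card_subgroup_dvd_card M)
        have h3 : Nat.card E ≠ Nat.card G := fun e => hpE (by
          rw [e]
          exact (dvd_pow_self p hd.ne').trans (hNcard ▸ Subgroup.card_subgroup_dvd_card N))
        have h4 := Nat.le_of_dvd Nat.card_pos h2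
        omega
      obtain ⟨e, he⟩ := ih E inferInstance hEn (pconj_of_cyclic hEcyc) p
        (fun q hq _ => hEcyc q hq) ((A.subgroupOf M).subgroupOf E) (B'.subgroupOf E) (by
          rw [Nat.card_congr (Subgroup.subgroupOfEquivOfLe hAE).toEquiv,
            Nat.card_congr (Subgroup.subgroupOfEquivOfLe hB'E).toEquiv, hB', card_smul,
            Nat.card_congr (Subgroup.subgroupOfEquivOfLe (hAH.trans hH₁M)).toEquiv,
            Nat.card_congr (Subgroup.subgroupOfEquivOfLe (hBK.trans hKM)).toEquiv, hAB])
      have h5 := sub_conj hAE hB'E e he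
      replace h5 := congrArg (fun Q : Subgroup M => MulAut.conj m • Q) h5
      simp only [hB', smul_smul, ← map_mul, mul_inv_cancel, map_one, one_smul] at h5
      have h6 : MulAut.conj ((m * (e : M) : M) : G) • A = B :=
        sub_conj (hAH.trans hH₁M) (hBK.trans hKM) (m * (e : M)) h5
      set x : G := ((m * (e : M) : M) : G) with hx
      refine ⟨x, ?_⟩
      have hdec : ∀ C T : Subgroup G, T ≤ C → S ≤ C →
          Nat.card T * p ^ (Nat.card C).factorization p = Nat.card C → ¬ p ∣ Nat.card T →
          Nat.card S = p ^ (Nat.card C).factorization p → S ⊔ T = C := by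
        intro C T hTC hSC hc hpT hS
        refine Subgroup.eq_of_le_of_card_ge (sup_le hSC hTC) (Nat.le_of_dvd Nat.card_pos ?_)
        rw [← hc]
        refine Nat.Coprime.mul_dvd_of_dvd_of_dvd
          (Nat.Coprime.pow_right _ ((hp.coprime_iff_not_dvd.2 hpT).symm))
          (Subgroup.card_dvd_of_le le_sup_right) ?_
        rw [← hS]
        exact Subgroup.card_dvd_of_le le_sup_left
      have hxS : MulAut.conj x • S = S :=
        CoprimeSZ.conj_smul_eq_self ((m * (e : M) : M)).2
      rw [← hdec H₁ A hAH hS₁ hAc hpA (by rw [hH₁c, hSc]), ← hdec K B hBK hSK hBc hpB hSc,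
        Subgroup.smul_sup, hxS, h6]
    · -- `N` has prime order and `S` is trivial
      have hS1 : S = ⊥ := by
        obtain ⟨g, hg⟩ := (isCyclic_of_le_sylow hNp (hcyc p hp hpr)).exists_ofOrder_eq_natCard
        have h2 : g ^ p = 1 := Subtype.ext (by simpa using hNel.2 g g.2)
        have h3 : Nat.card N = p := ((Nat.dvd_prime hp).1 (hg ▸ orderOf_dvd_of_pow_eq_one h2)).resolve_left
          (fun e => hNmin.ne_bot (Subgroup.card_eq_one.1 e))
        rcases (Nat.dvd_prime hp).1 (h3 ▸ Subgroup.card_dvd_of_le hSN) with h4 | h4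
        · exact Subgroup.card_eq_one.1 h4
        · exact absurd (Subgroup.eq_of_le_of_card_ge hSN (by rw [h3, h4])).ge hNS
      subst hS1
      have hpK : ¬ p ∣ Nat.card K := fun h => by
        have h2 := (hp.dvd_iff_one_le_factorization Nat.card_pos.ne').1 h
        rw [Subgroup.card_bot] at hSc
        have := Nat.one_lt_pow (Nat.one_le_iff_ne_zero.1 h2) hp.one_lt
        omega
      have hmapc : ∀ A : Subgroup G, A ⊓ N = ⊥ → Nat.card (A.map (QuotientGroup.mk' N)) = Nat.card A := by
        intro A hA
        refine (Nat.card_eq_of_bijective _ ⟨?_, (QuotientGroup.mk' N).subgroupMap_surjective A⟩).symm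
        intro a b e
        have h2 : (QuotientGroup.mk' N) ((a : G)⁻¹ * b) = 1 := by
          rw [map_mul, map_inv, inv_mul_eq_one]
          exact congrArg Subtype.val e
        have h3 : (a : G)⁻¹ * b ∈ A ⊓ N :=
          ⟨A.mul_mem (A.inv_mem a.2) b.2, (QuotientGroup.eq_one_iff _).1 h2⟩
        rw [hA, Subgroup.mem_bot, inv_mul_eq_one] at h3
        exact Subtype.ext h3
      obtain ⟨x, hx⟩ := hquot (H₁.map (QuotientGroup.mk' N)) (K.map (QuotientGroup.mk' N))
        (by rw [hmapc _ hD₁, hmapc _ hD₂, hH₁c])
      obtain ⟨x, rfl⟩ := QuotientGroup.mk'_surjective N x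
      rw [← HallTheorem.map_conj_smul] at hx
      set H₂ := MulAut.conj x • H₁ with hH₂
      set L := K ⊔ N with hL
      have hH₂L : H₂ ≤ L := by
        intro y hy
        obtain ⟨k, hk, e⟩ := (hx ▸ Subgroup.mem_map_of_mem (QuotientGroup.mk' N) hy :
          QuotientGroup.mk' N y ∈ K.map (QuotientGroup.mk' N))
        have h2 : k⁻¹ * y ∈ N := (QuotientGroup.eq (s := N)).1 e
        simpa using mul_mem (Subgroup.mem_sup_left hk) (Subgroup.mem_sup_right h2 : k⁻¹ * y ∈ L)
      have hKL : K ≤ L := le_sup_left
      have hLc : Nat.card L = Nat.card K * Nat.card N := by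
        have h2 := HallCore.card_map_mk'_mul N L le_sup_right
        rw [Subgroup.map_sup, HallSolvable.map_mk'_eq_bot.2 (le_refl N), sup_bot_eq, hmapc _ hD₂] at h2
        exact h2.symm
      have hall : ∀ A : Subgroup G, A ≤ L → Nat.card A = Nat.card K →
          Cfsg.IsPiHall {q | q ∣ Nat.card K} (A.subgroupOf L) := fun A hA hc =>
        HallTheorem.isPiHall_of_card hLc
          (by rw [hNcard]; exact Nat.Coprime.pow_right _ ((hp.coprime_iff_not_dvd.2 hpK).symm))
          (by rw [Nat.card_congr (Subgroup.subgroupOfEquivOfLe hA).toEquiv, hc])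
      obtain ⟨l, hl⟩ := HallTheorem.isPiHall_conjugate_of_solvable
        (hall H₂ hH₂L (by rw [hH₂, card_smul, hH₁c])) (hall K hKL rfl)
      refine ⟨(l : G) * x, ?_⟩
      rw [map_mul, mul_smul, ← hH₂]
      exact sub_conj hH₂L hKL l hl

end Cfsg.Agent.FrobeniusOrderConj
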