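import Cfsg.Agent.Lib.BGTypePTI
import Cfsg.Agent.Lib.BGFittingUnique
import Cfsg.Agent.Lib.ComponentsFitting
import Cfsg.Agent.Lib.FrobeniusOrderConj
import Cfsg.Agent.S1353
import Cfsg.Agent.S1414
import Cfsg.Agent.S1426
import Cfsg.Agent.S1429
import Cfsg.Agent.S1446

/-!
Bender-Glauberman, Proposition 14.2 (g): maximal subgroups of type P₂ (U ≠ 1).
-/

set_option autoImplicit false
set_option linter.style.haveILetI false

namespace Cfsg.Agent.BGTypeP

open Subgroup Cfsg.Agent.HallCore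

universe u

variable {G : Type u} [Group G] [Finite G] {M K U : Subgroup G}

theorem TypeP.card_hall (h : TypeP M K) : PiNat (Cfsg.kappa M) (Nat.card K) := h.hall.2.1

/-- U is abelian. -/
theorem U_comm (h : TypeP M K) (hKU : Cfsg.IsSigmaDecomposition M K U) : IsMulCommutative U := by
  obtain ⟨U₀, hU₀, hU₀h, -⟩ := (S1430.result h.min M h.coatom K h.hall h.ne).2.1
  obtain ⟨s, -, e⟩ := hallOf_conj (solvable h.min h.coatom) hU₀h
    (BGFinal72.hall_U (hall h.min h.coatom) hKU)
  refine ⟨⟨fun a b => Subtype.ext ?_⟩⟩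
  have ha : s⁻¹ * a * s ∈ U₀ := mem_cj.1 (e.symm ▸ a.2)
  have hb : s⁻¹ * b * s ∈ U₀ := mem_cj.1 (e.symm ▸ b.2)
  have h1 := PGroupsBasic.comm_of_isMulCommutative hU₀ ha hb
  simp only [Subgroup.coe_mul]
  calc (a : G) * b = s * ((s⁻¹ * a * s) * (s⁻¹ * b * s)) * s⁻¹ := by group
    _ = s * ((s⁻¹ * b * s) * (s⁻¹ * a * s)) * s⁻¹ := by rw [h1]
    _ = _ := by group

/-- For a prime r of U: the r-part R of U, its Ω₁ and what S1429 says about them. -/
theorem exists_omega (h : TypeP M K) (hKU : Cfsg.IsSigmaDecomposition M K U) {r : ℕ} [Fact r.Prime]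
    (hr : r ∣ Nat.card U) :
    ∃ R A : Subgroup G, R ≤ U ∧ (∀ S : Sylow r U, (S : Subgroup U).map U.subtype = R) ∧
      IsPGroup r R ∧ K ≤ normalizer (R : Set G) ∧ A = closure {x : G | x ∈ R ∧ x ^ r = 1} ∧
      A ≤ R ∧ A ≠ ⊥ ∧ K ≤ normalizer (A : Set G) ∧ Nat.card A ≤ r ^ 2 ∧
      Cfsg.sigmaCore M ⊓ centralizer (A : Set G) = ⊥ ∧ Group.IsNilpotent (Cfsg.sigmaCore M) ∧
      ∃ T : Sylow r M, (T : Subgroup M).map M.subtype = R := by
  have hσ := hall h.min h.coatom
  have hrU := BGFinal72.U_prime hσ hKU Fact.out hr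
  obtain ⟨S⟩ : Nonempty (Sylow r U) := inferInstance
  haveI := U_comm h hKU
  have hSn : (S : Subgroup U).Normal := ⟨fun x hx g => by
    rwa [show g * x * g⁻¹ = x by rw [mul_comm' g x, mul_assoc, mul_inv_cancel, mul_one]]⟩
  haveI hSc : (S : Subgroup U).Characteristic := Sylow.characteristic_of_normal S hSn
  set R := (S : Subgroup U).map U.subtype with hR
  have hRU : R ≤ U := map_subtype_le _
  have hKR : K ≤ normalizer (R : Set G) := hKU.normal.trans
    (ComponentsCores.normalizer_le_normalizer_map_subtype U _)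
  have hUM := BGFinal72.U_le hKU
  obtain ⟨T, hT⟩ := ((S.isPGroup'.map U.subtype).comap_of_injective M.subtype
    M.subtype_injective).exists_le_sylow
  have hTR : (T : Subgroup M).map M.subtype = R := by
    refine (eq_of_le_of_card_ge ?_ ?_).symm
    · rw [← map_subgroupOf_eq_of_le (hRU.trans hUM)]
      exact map_mono hT
    · rw [card_map_of_injective M.subtype_injective, hR, card_map_of_injective U.subtype_injective,
        T.card_eq_multiplicity, S.card_eq_multiplicity]
      refine Nat.pow_le_pow_right (Fact.out : r.Prime).pos (le_of_eq ?_)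
      rw [← BGFinal72.card_mul_relIndex hUM, Nat.factorization_mul Nat.card_pos.ne'
        (fun e => Nat.card_pos.ne' (by rw [← BGFinal72.card_mul_relIndex hUM, e, mul_zero])),
        Finsupp.add_apply, Nat.factorization_eq_zero_of_not_dvd ((BGFinal72.hall_U hσ hKU).2.2 r
          Fact.out ⟨Fact.out, hrU.2, hrU.1⟩), add_zero]
  have hP1 : ¬ ∀ q : ℕ, q.Prime → q ∣ Nat.card M → q ∉ Cfsg.sigma M → q ∈ Cfsg.kappa M :=
    fun hall' => hrU.2 (hall' r Fact.out (hr.trans (card_dvd_of_le hUM)) hrU.1)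
  obtain ⟨hcard, hC, hnil⟩ := S1429.result h.min M h.coatom hP1 r
    (hr.trans (card_dvd_of_le hUM)) (by simp [hrU.1, hrU.2]) T
  rw [hTR] at hcard hC
  refine ⟨R, closure {x : G | x ∈ R ∧ x ^ r = 1}, hRU, fun S' => ?_, S.isPGroup'.map _, hKR, rfl,
    (closure_le _).2 fun x hx => hx.1, ?_, ?_, hcard, hC, hnil, T, hTR⟩
  · letI := Sylow.unique_of_normal S hSn
    rw [hR, Subsingleton.elim S' S]
  · obtain ⟨x, hx⟩ := exists_prime_orderOf_dvd_card' (G := R) r
      ((dvd_pow_self r ((Fact.out : r.Prime).factorization_pos_of_dvd Nat.card_pos.ne' hr).ne').trans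
        (by rw [hR, card_map_of_injective U.subtype_injective, S.card_eq_multiplicity]))
    intro e
    have h1 : (x : G) ∈ closure {x : G | x ∈ R ∧ x ^ r = 1} :=
      subset_closure ⟨x.2, by rw [← SubgroupClass.coe_pow, ← hx, pow_orderOf_eq_one]; rfl⟩
    rw [e, mem_bot, OneMemClass.coe_eq_one] at h1
    rw [h1, orderOf_one] at hx
    exact (Fact.out : r.Prime).ne_one hx.symm
  · exact fun k hk => le_normalizer_of_conj R k (hKR hk)
where
  le_normalizer_of_conj (R : Subgroup G) {r : ℕ} (k : G) (hkR : k ∈ normalizer (R : Set G)) :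
      k ∈ normalizer ((closure {x : G | x ∈ R ∧ x ^ r = 1} : Subgroup G) : Set G) := by
    rw [mem_normalizer_iff_map_conj_eq, MonoidHom.map_closure]
    congr 1
    ext y
    constructor
    · rintro ⟨x, ⟨hx, hxr⟩, rfl⟩
      refine ⟨(mem_normalizer_iff.1 hkR x).1 hx, ?_⟩
      rw [← map_pow, hxr, map_one]
    · rintro ⟨hy, hyr⟩
      refine ⟨k⁻¹ * y * k, ⟨?_, ?_⟩, by simp [mul_assoc]⟩
      · rw [mem_normalizer_iff.1 hkR]
        simpa [mul_assoc] using hy
      · have e := conj_pow (i := r) (a := k⁻¹) (b := y)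
        rw [inv_inv] at e
        rw [e, hyr]
        group

/-- 14.2 (g): K has prime order. -/
theorem card_K_prime (h : TypeP M K) (hKU : Cfsg.IsSigmaDecomposition M K U) (hU1 : U ≠ ⊥) :
    (Nat.card K).Prime := by
  obtain ⟨r, hr, hrd⟩ := Nat.exists_prime_and_dvd
    (n := Nat.card U) (fun e => hU1 (eq_bot_of_card_eq U e))
  haveI := Fact.mk hr
  obtain ⟨R, A, hRU, -, -, -, -, hAR, hA1, hKA, -, hCA, hnil, -⟩ := exists_omega h hKU hrd
  have hσ := hall h.min h.coatom
  have hAU := hAR.trans hRU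
  have hUM := BGFinal72.U_le hKU
  have hcUK : (Nat.card A).Coprime (Nat.card K) :=
    Nat.coprime_of_dvd fun q hq h1 h2 =>
      (BGFinal72.U_prime hσ hKU hq (h1.trans (card_dvd_of_le hAU))).2 (h.card_hall q hq h2)
  refine (S1446.result A K (Cfsg.sigmaCore M) hA1 h.ne (inf_eq_bot_of_coprime hcUK) hKA
    (fun k hk hk1 => eq_bot_iff.2 ((inf_le_inf_right _ hAU).trans
      (S1353.result h.min M h.coatom K U hKU k hk hk1).le))
    (BGUnique.isSolvable_of_ne_top h.min fun e =>
      h.coatom.1 (top_le_iff.1 (e ▸ sup_le (hAU.trans hUM) h.K_le)))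
    (BGUnique.odd_card_subgroup h.min _) (BGSigma.sigmaCore_ne_bot h.min h.coatom) hnil
    ((hAU.trans hUM).trans (BGFinal72.le_normalizer_sigmaCore M))
    (h.K_le.trans (BGFinal72.le_normalizer_sigmaCore M)) ?_ hCA fun k hk hk1 => ?_).1
  · rw [SFTSigma.card_sup_coprime hKA hcUK]
    exact ((BGFinal72.coprime_U_sigma hσ hKU).symm.coprime_dvd_left (card_dvd_of_le hAU)).mul_left
      (BGFinal72.coprime_K_sigma hKU).symm
  · exact (S1430.result h.min M h.coatom K h.hall h.ne).1 k hk hk1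

theorem sigmaCore_le_fitting (hnil : Group.IsNilpotent (Cfsg.sigmaCore M)) :
    Cfsg.sigmaCore M ≤ Cfsg.fittingOf M :=
  map_mono (ComponentsCores.le_fitting (N := Cfsg.piCore (Cfsg.sigma M) M) (by
    haveI : Group.IsNilpotent ↥((Cfsg.piCore (Cfsg.sigma M) M).map M.subtype) := hnil
    exact Group.nilpotent_of_surjective ((Cfsg.piCore (Cfsg.sigma M) M).equivMapOfInjective _
      M.subtype_injective).symm.toMonoidHom (MulEquiv.surjective _)))

/-- 14.2 (g): σ(M) = β(M). -/
theorem sigma_subset_beta (h : TypeP M K) (hKU : Cfsg.IsSigmaDecomposition M K U) (hU1 : U ≠ ⊥) :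
    Cfsg.sigma M ⊆ Cfsg.beta M := by
  intro q hq
  by_contra hqb
  haveI := Fact.mk hq.1
  obtain ⟨r, hr, hrd⟩ := Nat.exists_prime_and_dvd
    (n := Nat.card U) (fun e => hU1 (eq_bot_of_card_eq U e))
  haveI := Fact.mk hr
  obtain ⟨R, A, hRU, -, -, -, -, hAR, -, -, -, hCA, hnil, -⟩ := exists_omega h hKU hrd
  have hσ := hall h.min h.coatom
  set N := Cfsg.sigmaCore M
  haveI : Group.IsNilpotent N := hnil
  obtain ⟨S⟩ : Nonempty (Sylow q N) := inferInstance
  haveI hSn : (S : Subgroup N).Normal := inferInstance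
  haveI hSc : (S : Subgroup N).Characteristic := Sylow.characteristic_of_normal S hSn
  set Q := (S : Subgroup N).map N.subtype
  have hQN : M ≤ normalizer (Q : Set G) := (BGFinal72.le_normalizer_sigmaCore M).trans
    (ComponentsCores.normalizer_le_normalizer_map_subtype N _)
  have hqN : q ∣ Nat.card N := by
    have h2 := hq.2.1
    rw [← BGFinal72.card_mul_relIndex hσ.1] at h2
    exact (hq.1.dvd_mul.1 h2).resolve_right (hσ.2.2 q hq.1 hq)
  have hQ1 : Q ≠ ⊥ := fun e =>
    S.ne_bot_of_dvd_card hqN ((map_eq_bot_iff_of_injective _ N.subtype_injective).1 e)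
  have hUM := BGFinal72.U_le hKU
  have hcop : (Nat.card Q).Coprime (Nat.card U) :=
    (BGFinal72.coprime_U_sigma hσ hKU).coprime_dvd_left (card_dvd_of_le (map_subtype_le _))
  have hαβ : Cfsg.beta M ⊆ Cfsg.sigma M := fun p hp => BGSigma.alpha_subset h.min h.coatom hp.1
  obtain ⟨H, hH, hHn⟩ := (S1414.result h.min M h.coatom).2.2.1
  have hM' : (⁅M, M⁆ : Subgroup G) = U ⊔ N := (S1365.result h.min M h.coatom K U hKU h.ne).1
  obtain ⟨s, -, hs⟩ := le_conj_hallOf (S := ⁅M, M⁆)
    (BGUnique.isSolvable_of_ne_top h.min fun e =>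
      h.coatom.1 (top_le_iff.1 (e ▸ commutator_le_self M))) hH (U := Q ⊔ U)
    (hM'.symm ▸ sup_le ((map_subtype_le _).trans le_sup_right) le_sup_left) (by
      rw [SFTSigma.card_sup_coprime (hUM.trans hQN) hcop]
      refine PiNat.mul (fun p hp hd => ⟨hp, ?_⟩) (fun p hp hd => ⟨hp, fun hb =>
        (BGFinal72.U_prime hσ hKU hp hd).1 (hαβ hb)⟩)
      obtain ⟨n, hn⟩ := IsPGroup.iff_card.1 (S.isPGroup'.map N.subtype)
      rw [hn] at hd
      rwa [(Nat.prime_dvd_prime_iff_eq hp hq.1).1 (hp.dvd_of_dvd_pow hd)])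
  haveI : Group.IsNilpotent ↥(cj s H) := by
    haveI := hHn
    exact Group.nilpotent_of_surjective
      (H.equivMapOfInjective _ (MulAut.conj s).injective).toMonoidHom (MulEquiv.surjective _)
  have hQA : Q ≤ centralizer (A : Set G) := by
    intro x hx a ha
    refine congrArg Subtype.val (FittingHallBasic.commute_of_coprime_orderOf
      (N := ↥(cj s H)) (a := ⟨a, hs (le_sup_right (α := Subgroup G) (hAR.trans hRU ha))⟩)
      (b := ⟨x, hs (le_sup_left (α := Subgroup G) hx)⟩) ?_).eq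
    rw [Subgroup.orderOf_mk, Subgroup.orderOf_mk]
    exact ((hcop.symm).coprime_dvd_left (U.orderOf_dvd_natCard (hRU (hAR ha)))).coprime_dvd_right
      (Q.orderOf_dvd_natCard hx)
  exact hQ1 (le_bot_iff.1 (hCA ▸ le_inf (map_subtype_le _) hQA))

/-- 14.2 (g): M_σ meets no other conjugate of M. -/
theorem sigmaCore_inf_cj (h : TypeP M K) (hKU : Cfsg.IsSigmaDecomposition M K U) (hU1 : U ≠ ⊥)
    {g : G} (hg : g ∉ M) : Cfsg.sigmaCore M ⊓ cj g M = ⊥ := by
  have hσ := hall h.min h.coatom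
  obtain ⟨E, hE⟩ := exists_hallOf (solvable h.min h.coatom) (Cfsg.sigma M)ᶜ
  have hcop : (Nat.card (Cfsg.sigmaCore M)).Coprime (Nat.card E) :=
    PiNat.coprime (piNat_sigmaCore M) hE.2.1
  have hsup : Cfsg.sigmaCore M ⊔ E = M := by
    refine eq_of_le_of_card_ge (sup_le hσ.1 hE.1) ?_
    rw [SFTSigma.card_sup_coprime (hE.1.trans (BGFinal72.le_normalizer_sigmaCore M)) hcop]
    refine le_of_eq ?_
    have e1 : (Cfsg.sigmaCore M).relIndex M = Nat.card E := by
      refine Nat.dvd_antisymm ?_ ?_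
      · refine (PiNat.coprime (hallOf_iff.1 hσ).2.2
          (π := (Cfsg.sigma M)ᶜ) (n := E.relIndex M) ?_).dvd_of_dvd_mul_right ?_
        · exact (hallOf_iff.1 hE).2.2
        · rw [BGFinal72.card_mul_relIndex hE.1, ← BGFinal72.card_mul_relIndex hσ.1]
          exact dvd_mul_left _ _
      · refine hcop.symm.dvd_of_dvd_mul_left ?_
        rw [BGFinal72.card_mul_relIndex hσ.1]
        exact card_dvd_of_le hE.1
    rw [← e1, BGFinal72.card_mul_relIndex hσ.1]
  have hEc : Cfsg.IsComplIn E (Cfsg.sigmaCore M) M := by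
    refine ⟨hE.1, hσ.1, inf_eq_bot_of_coprime hcop.symm, fun m hm => ?_⟩
    rw [← hsup, sup_comm, ← SetLike.mem_coe, coe_mul_of_left_le_normalizer_right E _
      (hE.1.trans (BGFinal72.le_normalizer_sigmaCore M))] at hm
    obtain ⟨a, ha, b, hb, e⟩ := hm
    exact ⟨a, ha, b, hb, e.symm⟩
  obtain ⟨-, hb, -⟩ := (S1426.result h.min M h.coatom E hEc).2.2 g hg
  refine eq_bot_of_card_eq _ ?_
  by_contra hne
  obtain ⟨q, hq, hqd⟩ := Nat.exists_prime_and_dvd hne
  exact hb q hq hqd (sigma_subset_beta h hKU hU1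
    (piNat_sigmaCore M q hq (hqd.trans (card_dvd_of_le inf_le_left))))

/-- For a maximal subgroup of type P₂, F(M) is a TI-subset. -/
theorem fittingOf_ti (h : TypeP M K) (hKU : Cfsg.IsSigmaDecomposition M K U) (hU1 : U ≠ ⊥) :
    Cfsg.IsTISubset (Cfsg.fittingOf M : Set G) := by
  have hσ := hall h.min h.coatom
  obtain ⟨r, hr, hrd⟩ := Nat.exists_prime_and_dvd
    (n := Nat.card U) (fun e => hU1 (eq_bot_of_card_eq U e))
  haveI := Fact.mk hr
  obtain ⟨R, A, -, -, -, -, -, -, -, -, -, -, hnil, -⟩ := exists_omega h hKU hrd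
  have hrU := BGFinal72.U_prime hσ hKU hr hrd
  have hP1 : ¬ ∀ q : ℕ, q.Prime → q ∣ Nat.card M → q ∉ Cfsg.sigma M → q ∈ Cfsg.kappa M :=
    fun hall' => hrU.2 (hall' r hr (hrd.trans (card_dvd_of_le (BGFinal72.U_le hKU))) hrU.1)
  have hFN := BGFittingUnique.normalizer_le_fittingOf M
  have hFM := BGFittingUnique.fittingOf_le M
  haveI := BGFittingUnique.fittingOf_isNilpotent M
  have hσF := sigmaCore_le_fitting hnil
  intro g hg x hx hgx
  by_contra hx1
  have hgM : g ∉ M := fun hgM => hg (hFN (le_normalizer hgM))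
  obtain ⟨q, hq, hqd, z, hz, hzq⟩ := exists_prime_order (orderOf_pos x).ne' hx1
  haveI := Fact.mk hq
  have hzF : z ∈ Cfsg.fittingOf M := zpowers_le.2 hx hz
  have hz' : g * z * g⁻¹ ∈ Cfsg.fittingOf M := by
    obtain ⟨i, rfl⟩ := mem_zpowers_iff.1 hz
    rw [← conj_zpow]
    exact zpow_mem hgx i
  have hz1 : z ≠ 1 := fun e => hq.ne_one (by rw [← hzq, e, orderOf_one])
  by_cases hqσ : q ∈ Cfsg.sigma M
  · have hpi : PiNat (Cfsg.sigma M) (orderOf z) := by
      rw [hzq]
      exact fun p hp hd => (Nat.prime_dvd_prime_iff_eq hp hq).1 hd ▸ hqσ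
    have h1 : g * z * g⁻¹ ∈ Cfsg.sigmaCore M ⊓ cj g M :=
      ⟨mem_sigmaCore h.min h.coatom (hFM hz') (piNat_orderOf_conj hpi g),
        conj_mem_cj.2 (hFM hzF)⟩
    rw [sigmaCore_inf_cj h hKU hU1 hgM, mem_bot] at h1
    exact hz1 (conj_eq_one_iff.1 h1)
  -- q ∉ σ(M): the elements of order q of F(M) lie in one subgroup of order q
  have huniq : ∀ w ∈ Cfsg.fittingOf M, orderOf w = q → w ∈ zpowers z := by
    intro w hw hwq
    have hzO := BGFittingUnique.mem_Oc_of_mem_fittingOf hzF (i := 1) (by rw [hzq, pow_one])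
    have hwO := BGFittingUnique.mem_Oc_of_mem_fittingOf hw (i := 1) (by rw [hwq, pow_one])
    obtain ⟨T⟩ : Nonempty (Sylow q M) := inferInstance
    have hOT : BGFittingUnique.Oc q M ≤ (T : Subgroup M).map M.subtype :=
      map_mono ((HallCore.isPGroup_pCore q M).le_sylow_of_normal T)
    by_cases hqκ : q ∈ Cfsg.kappa M
    · haveI := (hqκ.2.2.2 T).1
      haveI : IsCyclic ↥((T : Subgroup M).map M.subtype) :=
        ((T : Subgroup M).equivMapOfInjective _ M.subtype_injective).isCyclic.1 inferInstance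
      have := mem_zpowers_of_cyclic (H := (T : Subgroup M).map M.subtype) (hOT hzO) (hOT hwO) hq hzq hwq
      exact this
    · have hqM : q ∣ Nat.card M := hzq ▸ M.orderOf_dvd_natCard (hFM hzF)
      obtain ⟨hcard, hC, -⟩ := S1429.result h.min M h.coatom hP1 q hqM (by simp [hqσ, hqκ]) T
      set AT := closure {y : G | y ∈ (T : Subgroup M).map M.subtype ∧ y ^ q = 1}
      by_contra hwz
      set P := closure ({z, w} : Set G)
      have hPA : P ≤ AT := by
        rw [closure_le]
        rintro y (rfl | rfl)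
        · exact subset_closure ⟨hOT hzO, by rw [← hzq, pow_orderOf_eq_one]⟩
        · exact subset_closure ⟨hOT hwO, by rw [← hwq, pow_orderOf_eq_one]⟩
      have hlt : zpowers z < P :=
        lt_of_le_of_ne (zpowers_le.2 (subset_closure (by simp)))
          fun e => hwz (e ▸ subset_closure (by simp))
      have hATp : IsPGroup q AT :=
        (T.isPGroup'.map M.subtype).to_le ((closure_le _).2 fun y hy => hy.1)
      obtain ⟨n, hn⟩ := IsPGroup.iff_card.1 (hATp.to_le hPA)
      have hn2 : 2 ≤ n := by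
        by_contra hn2
        refine hlt.ne (eq_of_le_of_card_ge hlt.le ?_)
        rw [hn, Nat.card_zpowers, hzq]
        calc q ^ n ≤ q ^ 1 := Nat.pow_le_pow_right hq.pos (by omega)
          _ = q := pow_one q
      have hPeq : P = AT := eq_of_le_of_card_ge hPA (hcard.trans (by
        rw [hn]; exact Nat.pow_le_pow_right hq.pos hn2))
      refine BGSigma.sigmaCore_ne_bot h.min h.coatom (le_bot_iff.1 (hC ▸ le_inf le_rfl ?_))
      show Cfsg.sigmaCore M ≤ centralizer (AT : Set G)
      rw [← hPeq, centralizer_closure]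
      intro y hy
      refine mem_centralizer_iff.2 ?_
      rintro v (rfl | rfl)
      all_goals
        refine congrArg Subtype.val (FittingHallBasic.commute_of_coprime_orderOf
          (N := ↥(Cfsg.fittingOf M)) (a := ⟨v, by assumption⟩) (b := ⟨y, hσF hy⟩) ?_).eq
        rw [Subgroup.orderOf_mk, Subgroup.orderOf_mk]
        first
          | rw [hzq]
          | rw [hwq]
        refine (Nat.Prime.coprime_iff_not_dvd hq).2 fun hd => hqσ ?_
        exact piNat_mem_sigmaCore hy q hq hd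
  have hMN : M ≤ normalizer (zpowers z : Set G) := by
    intro m hm
    refine SFTSigma.mem_normalizer_of_map_conj_eq (eq_of_le_of_card_ge ?_ ?_)
    · rw [MonoidHom.map_zpowers, zpowers_le]
      exact huniq _ ((mem_normalizer_iff.1 (hFN (le_normalizer hm)) z).1 hzF)
        ((orderOf_conj m z).trans hzq)
    · rw [card_map_of_injective (MulAut.conj m).injective]
  have hgN : g ∈ normalizer (zpowers z : Set G) := by
    refine SFTSigma.mem_normalizer_of_map_conj_eq (eq_of_le_of_card_ge ?_ ?_)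
    · rw [MonoidHom.map_zpowers, zpowers_le]
      exact huniq _ hz' ((orderOf_conj g z).trans hzq)
    · rw [card_map_of_injective (MulAut.conj g).injective]
  rw [BGUnique.normalizer_le_of_coatom h.min h.coatom (by simpa using hz1)
    (zpowers_le.2 (hFM hzF)) hMN] at hgN
  exact hgM hgN
where
  mem_zpowers_of_cyclic {G : Type u} [Group G] [Finite G] {H : Subgroup G} [IsCyclic H] {z w : G}
      (hz : z ∈ H) (hw : w ∈ H) {q : ℕ} (hq : q.Prime) (hzq : orderOf z = q) (hwq : orderOf w = q) :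
      w ∈ zpowers z := by
    have hc : IsCyclic H := inferInstance
    have e : zpowers (⟨z, hz⟩ : H) = zpowers (⟨w, hw⟩ : H) :=
      FrobeniusOrderConj.eq_of_card_eq_of_isCyclic
        (by rw [Nat.card_zpowers, Nat.card_zpowers, Subgroup.orderOf_mk, Subgroup.orderOf_mk, hzq, hwq])
    obtain ⟨i, hi⟩ := mem_zpowers_iff.1 (e ▸ mem_zpowers (⟨w, hw⟩ : H))
    exact mem_zpowers_iff.2 ⟨i, congrArg Subtype.val hi⟩

end Cfsg.Agent.BGTypeP
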