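import Cfsg.Agent.Lib.BGNonTICore
import Cfsg.Agent.Lib.BGNonTIOrder
import Cfsg.Agent.S1360
import Cfsg.Agent.S1364
import Cfsg.Agent.S1365
import Cfsg.Agent.S1372
import Cfsg.Agent.S1430
import Cfsg.Agent.S1454
import Cfsg.Agent.S1456

/-!
Bender-Glauberman Theorem 15.7: maximal subgroups whose Fitting subgroup is not TI.
-/

set_option autoImplicit false
set_option linter.style.haveILetI false

namespace Cfsg.Agent.BGNonTI

open Subgroup
open Cfsg.Agent.BGUnique
open Cfsg.Agent.BGTypeP (cj)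
open Cfsg.Agent.HallCore
open scoped commutatorElement Pointwise

variable {G : Type*} [Group G] [Finite G]

theorem fittingSubgroup_eq_top (X : Type*) [Group X] [Group.IsNilpotent X] :
    Cfsg.fittingSubgroup X = ⊤ := by
  refine top_le_iff.1 (le_sSup (α := Subgroup X) ⟨inferInstance, ?_⟩)
  exact Group.nilpotent_of_mulEquiv (Subgroup.topEquiv (G := X)).symm

theorem fittingOf_of_nilpotent {H : Subgroup G} (h : Group.IsNilpotent H) :
    Cfsg.fittingOf H = H := by
  haveI := h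
  rw [Cfsg.fittingOf, fittingSubgroup_eq_top, ← MonoidHom.range_eq_map, range_subtype]

theorem exponent_quotient {M V : Subgroup G} (hH : Cfsg.fittingHallOf M = Cfsg.sigmaCore M)
    (hc : Cfsg.IsComplIn (Cfsg.sigmaCore M) V M) :
    Monoid.exponent (↥M ⧸ Cfsg.fittingHall ↥M) = Monoid.exponent V := by
  have h := BGTypeBasic.isComplement'_subgroupOf (BGTypeBasic.isComplIn_swap hc)
  rw [← hH, BGTypeSetup.fittingHallOf_subgroupOf] at h
  exact (Monoid.exponent_eq_of_mulEquiv h.QuotientMulEquiv).trans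
    (Monoid.exponent_eq_of_mulEquiv (subgroupOfEquivOfLe hc.2.1))

namespace Config

variable {M : Subgroup G} {g : G} {p : ℕ} {x : G} (c : Config M g p x)
include c

/-- The config attached to another element of prime order of `F ∩ F^g`. -/
theorem of_mem {q : ℕ} (hq : q.Prime) {y : G}
    (hy : y ∈ Cfsg.fittingOf M ⊓ cj g (Cfsg.fittingOf M)) (hyo : orderOf y = q) :
    Config M g q y :=
  { c with
    hp := hq
    hx := inf_le_sigmaCore c.hG c.hM c.hg hy
    hx' := conj_mem_sigmaCore c.hG c.hM c.hg hy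
    order := hyo }

theorem mem_inter : x ∈ Cfsg.fittingOf M ⊓ cj g (Cfsg.fittingOf M) := c.le_inter x c.hx c.hx'

variable [Fact p.Prime] (hP : ¬ IsMulCommutative (P M p))
include hP

/-- `F ∩ F^g` has order `p`. -/
theorem card_inter : Nat.card ↥(Cfsg.fittingOf M ⊓ cj g (Cfsg.fittingOf M)) = p := by
  set X := Cfsg.fittingOf M ⊓ cj g (Cfsg.fittingOf M) with hXdef
  have hpr : p.Prime := Fact.out
  have honly : ∀ q : ℕ, q.Prime → q ∣ Nat.card X → q = p := by
    intro q hq hd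
    haveI := Fact.mk hq
    by_contra hqp
    obtain ⟨⟨y, hy⟩, hyo⟩ := exists_prime_orderOf_dvd_card' q hd
    rw [Subgroup.orderOf_mk] at hyo
    exact hP ((c.of_mem hq hy hyo).oc_comm (fun h => hqp h.symm))
  haveI := c.inter_cyclic
  obtain ⟨⟨γ, hγ⟩, hγo⟩ := IsCyclic.exists_ofOrder_eq_natCard (α := X)
  rw [Subgroup.orderOf_mk] at hγo
  obtain ⟨n, hn⟩ : ∃ n, Nat.card X = p ^ n :=
    ⟨_, Nat.eq_prime_pow_of_unique_prime_dvd Nat.card_pos.ne' fun {q} hq hd => honly q hq hd⟩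
  cases h : n with
  | zero =>
    rw [h, pow_zero] at hn
    have := orderOf_dvd_natCard (⟨x, c.mem_inter⟩ : X)
    rw [hn, Nat.dvd_one, orderOf_eq_one_iff] at this
    exact absurd (congrArg Subtype.val this) c.x_ne_one
  | succ m =>
    cases m with
    | zero => rw [hn, h, zero_add, pow_one]
    | succ m =>
      exfalso
      have ho : orderOf γ = p ^ (m + 2) := by rw [hγo, hn, h]
      set y := γ ^ p ^ m with hy
      have hyo : orderOf y = p ^ 2 := by
        rw [hy, orderOf_pow' _ (pow_ne_zero _ hpr.ne_zero), ho,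
          Nat.gcd_eq_right (pow_dvd_pow p (by omega)), Nat.pow_div (by omega) hpr.pos]
        congr 1
        omega
      have hx' : orderOf (y ^ p) = p := by
        rw [orderOf_pow' _ hpr.ne_zero, hyo, Nat.gcd_eq_right (dvd_pow_self p two_ne_zero), sq,
          Nat.mul_div_cancel _ hpr.pos]
      have hyX : y ∈ X := pow_mem hγ _
      exact (c.of_mem hpr (pow_mem hyX p) hx').not_pow hP
        (mem_oc c.nilp (inf_le_sigmaCore c.hG c.hM c.hg hyX) hyo) rfl

/-- A subgroup of order `p` of the centre of `P`, normal in `M`. -/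
theorem exists_normal_central : ∃ z ∈ P M p, orderOf z = p ∧ (∀ a ∈ P M p, Commute a z) ∧
    M ≤ normalizer (zpowers z : Set G) := by
  obtain ⟨z, hz, hzo, -⟩ := c.exists_central hP
  haveI := c.center_cyclic hP
  refine ⟨z, (mem_inf.1 hz).1, hzo, fun a ha => mem_centralizer_iff.1 (mem_inf.1 hz).2 a ha,
    le_normalizer_zpowers_of_cyclic (CoprimeAction.le_normalizer_inf (le_normalizer_oc p)
      ((le_normalizer_oc p).trans (BGRankTwo.normalizer_le_normalizer_centralizer _))) hz⟩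

/-- For every prime of `M_σ` a normal subgroup of that order. -/
theorem exists_normal_prime {q : ℕ} (hq : q.Prime) (hd : q ∣ Nat.card (Cfsg.sigmaCore M)) :
    ∃ z ∈ P M q, orderOf z = q ∧ M ≤ normalizer (zpowers z : Set G) := by
  haveI := Fact.mk hq
  by_cases hqp : q = p
  · subst hqp
    obtain ⟨z, h1, h2, -, h3⟩ := c.exists_normal_central hP
    exact ⟨z, h1, h2, h3⟩
  · obtain ⟨⟨z, hz⟩, hzo⟩ := exists_prime_orderOf_dvd_card' q hd
    rw [Subgroup.orderOf_mk] at hzo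
    have hzQ : z ∈ P M q := mem_oc c.nilp (i := 1) hz (by rw [hzo, pow_one])
    haveI := c.oc_isCyclic hP hqp
    exact ⟨z, hzQ, hzo, le_normalizer_zpowers_of_cyclic (le_normalizer_oc q) hzQ⟩

/-- The case `K = 1`. -/
theorem exponent_dvd {K U : Subgroup G} (hKU : Cfsg.IsSigmaDecomposition M K U) (hK : K = ⊥)
    (hH : Cfsg.fittingHallOf M = Cfsg.sigmaCore M) {q : ℕ} (hq : q.Prime)
    (hd : q ∣ Nat.card (Cfsg.sigmaCore M)) :
    Monoid.exponent (↥M ⧸ Cfsg.fittingHall ↥M) ∣ q - 1 := by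
  haveI := Fact.mk hq
  rw [exponent_quotient hH (BGTypeSetup.compl_of_K_bot c.hG c.hM hKU hK)]
  obtain ⟨U₀, hU₀, hexp, hfree⟩ := S1360.result c.hG M c.hM K U hKU
  obtain ⟨z, hz, hzo, hn⟩ := c.exists_normal_prime hP hq hd
  have hz1 : z ≠ 1 := fun h => hq.one_lt.ne (by rw [← hzo, h, orderOf_one])
  rw [← hexp, Monoid.exponent_dvd]
  intro u
  have huM : (u : G) ∈ M := BGTypeSetup.U_le hKU (hU₀ u.2)
  refine orderOf_dvd_of_pow_eq_one (Subtype.ext ?_)
  rw [SubgroupClass.coe_pow, OneMemClass.coe_one]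
  exact hfree _ (pow_mem u.2 _) ⟨pow_mem huM _, z, BGFittingUnique.Oc_le q _ hz, hz1,
    (BGNonTIOrder.pow_pred_commute hzo ((mem_normalizer_iff.1 (hn huM) z).1 (mem_zpowers z))).eq⟩

/-- In `M_σ = P × ` cyclic, commutators lie in `P'`. -/
theorem derived_le : ⁅Cfsg.sigmaCore M, Cfsg.sigmaCore M⁆ ≤ ⁅P M p, P M p⁆ := by
  set S := Cfsg.sigmaCore M
  haveI := c.nilp
  haveI := c.isCyclic_pPrimeCore hP
  haveI := pPrimeCore_normal p ↥S
  have hmem : ∀ b (hb : b ∈ S), PiNat ({p} : Set ℕ)ᶜ (orderOf b) →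
      (⟨b, hb⟩ : S) ∈ Cfsg.pPrimeCore p ↥S := by
    intro b hb hbo
    refine BGSigma.le_of_prime_not_dvd (A := zpowers (⟨b, hb⟩ : S)) (fun q hq hd hdi => ?_)
      (mem_zpowers _)
    haveI := Fact.mk hq
    rw [Nat.card_zpowers, Subgroup.orderOf_mk] at hd
    have hqp : q ≠ p := fun h => hbo q hq hd (Set.mem_singleton_iff.2 h)
    let T : Sylow q ↥S := default
    haveI : (T : Subgroup ↥S).Normal := inferInstance
    refine T.not_dvd_index (hdi.trans (index_dvd_of_le (le_pPrimeCore ?_)))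
    obtain ⟨n, hn⟩ := IsPGroup.iff_card.1 T.isPGroup'
    rw [hn]
    exact ((Nat.coprime_primes hq Fact.out).2 hqp).pow_left n
  rw [commutator_le]
  intro s hs t ht
  obtain ⟨a, b, ha, hb, hab, hap, hbp⟩ := BGTypeP.exists_decomp {p} s
  obtain ⟨a', b', ha', hb', hab', hap', hbp'⟩ := BGTypeP.exists_decomp {p} t
  have haS := zpowers_le.2 hs ha
  have hbS := zpowers_le.2 hs hb
  have haS' := zpowers_le.2 ht ha'
  have hbS' := zpowers_le.2 ht hb'
  have hpp : ∀ {w : G}, w ∈ S → PiNat ({p} : Set ℕ) (orderOf w) → w ∈ P M p := fun {w} hw hwp => by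
    obtain ⟨i, hi⟩ : ∃ i, orderOf w = p ^ i :=
      ⟨_, Nat.eq_prime_pow_of_unique_prime_dvd (orderOf_pos w).ne' fun {q} hq hd => hwp q hq hd⟩
    exact mem_oc c.nilp hw hi
  have hcop : ∀ {v w : G}, v ∈ S → w ∈ S → PiNat ({p} : Set ℕ) (orderOf v) →
      PiNat ({p} : Set ℕ)ᶜ (orderOf w) → Commute w v :=
    fun hv hw h1 h2 => (commute_of_coprime c.nilp hv hw (h1.coprime h2)).symm
  have hbb : Commute b b' := by
    obtain ⟨γ, hγ⟩ := IsCyclic.exists_generator (α := Cfsg.pPrimeCore p ↥S)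
    obtain ⟨i, hi⟩ := mem_zpowers_iff.1 (hγ ⟨_, hmem b hbS hbp⟩)
    obtain ⟨j, hj⟩ := mem_zpowers_iff.1 (hγ ⟨_, hmem b' hbS' hbp'⟩)
    have h := ((Commute.refl γ).zpow_left i).zpow_right j
    rw [hi, hj] at h
    exact congrArg (fun w : Cfsg.pPrimeCore p ↥S => ((w : ↥S) : G)) h.eq
  have h1 : Commute b a := hcop haS hbS hap hbp
  have h2 : Commute b a' := hcop haS' hbS hap' hbp
  have h3 : Commute b' a := hcop haS hbS' hap hbp'
  have h4 : Commute b' a' := hcop haS' hbS' hap' hbp'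
  have e : ⁅s, t⁆ = ⁅a, a'⁆ := by
    rw [← hab, ← hab', commutatorElement_def, commutatorElement_def]
    calc a * b * (a' * b') * (a * b)⁻¹ * (a' * b')⁻¹
        = a * (b * a') * b' * b⁻¹ * a⁻¹ * b'⁻¹ * a'⁻¹ := by group
      _ = a * a' * (b * b' * b⁻¹) * a⁻¹ * b'⁻¹ * a'⁻¹ := by rw [h2.eq]; group
      _ = a * a' * (b' * a⁻¹) * b'⁻¹ * a'⁻¹ := by rw [hbb.eq]; group
      _ = a * a' * a⁻¹ * a'⁻¹ := by rw [h3.inv_right.eq]; group
  rw [e]
  exact commutator_mem_commutator (hpp haS hap) (hpp haS' hap')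

/-- The case `K ≠ 1`. -/
theorem typeP_case {K U : Subgroup G} (hKU : Cfsg.IsSigmaDecomposition M K U) (hK : K ≠ ⊥)
    (hU : U = ⊥) :
    (∀ q : ℕ, q.Prime → q ∣ Nat.card (Cfsg.sigmaCore M) → Nat.card K ∣ q - 1) ∨
      (Nat.card (P M p) = p ^ 3 ∧ Nat.card K ∣ p + 1) := by
  have hG := c.hG
  have hM := c.hM
  have hpr : p.Prime := Fact.out
  set S := Cfsg.sigmaCore M with hS
  have hKM : K ≤ M := BGTypeSetup.K_le hKU
  haveI := hKU.cyclic
  obtain ⟨⟨k, hk⟩, hgen⟩ := hKU.cyclic.exists_generator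
  have hko : orderOf k = Nat.card K := by
    rw [← orderOf_eq_card_of_forall_mem_zpowers hgen, Subgroup.orderOf_mk]
  set W := S ⊓ centralizer (K : Set G) with hW
  have hprime : ∀ w ∈ K, w ≠ 1 → ∀ y ∈ S, Commute w y → y ∈ W := fun w hw hw1 y hy hc => by
    have h := (S1430.result hG M hM K hKU.hall hK).1 w hw hw1
    have : y ∈ S ⊓ centralizer ({w} : Set G) :=
      mem_inf.2 ⟨hy, mem_centralizer_singleton_iff.2 hc.symm.eq⟩
    rwa [h] at this
  obtain ⟨hWcyc, -, -, -⟩ := S1364.result hG M hM K U hKU hK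
  obtain ⟨hM', hW'⟩ := S1365.result hG M hM K U hKU hK
  rw [hU, bot_sup_eq] at hM'
  have hWP' : W ≤ ⁅P M p, P M p⁆ := by
    refine le_trans ?_ (c.derived_le hP)
    rw [hM'] at hW'
    exact hW'
  have hWP : W ≤ P M p := hWP'.trans (commutator_le_self _)
  have hstep : ∀ {q : ℕ} [Fact q.Prime] {z : G}, z ∈ S → orderOf z = q →
      M ≤ normalizer (zpowers z : Set G) → z ∉ W → Nat.card K ∣ q - 1 := by
    intro q _ z hz hzo hn hzW
    rw [← hko]
    refine orderOf_dvd_of_pow_eq_one (by_contra fun hne => hzW ?_)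
    exact hprime _ (pow_mem hk _) hne z hz (BGNonTIOrder.pow_pred_commute hzo
      ((mem_normalizer_iff.1 (hn (hKM hk)) z).1 (mem_zpowers z)))
  have hother : ∀ q : ℕ, q.Prime → q ∣ Nat.card S → q ≠ p → Nat.card K ∣ q - 1 := by
    intro q hq hd hqp
    haveI := Fact.mk hq
    obtain ⟨z, hz, hzo, hn⟩ := c.exists_normal_prime hP hq hd
    refine hstep (BGFittingUnique.Oc_le q _ hz) hzo hn fun hzW => hqp ?_
    obtain ⟨n, hn'⟩ := IsPGroup.iff_card.1 (BGFittingUnique.isPGroup_Oc p S)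
    have h1 : q ∣ p ^ n := by
      rw [← hn', ← hzo]
      exact orderOf_dvd_natCard _ (hWP hzW)
    exact (Nat.prime_dvd_prime_iff_eq hq hpr).1 (hq.dvd_of_dvd_pow h1)
  suffices hmain : Nat.card K ∣ p - 1 ∨ (Nat.card (P M p) = p ^ 3 ∧ Nat.card K ∣ p + 1) by
    rcases hmain with h | h
    · refine Or.inl fun q hq hd => ?_
      by_cases hqp : q = p
      · exact hqp ▸ h
      · exact hother q hq hd hqp
    · exact Or.inr h
  obtain ⟨z, hz, hzo, hzc, hzn⟩ := c.exists_normal_central hP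
  by_cases hzW : z ∈ W
  swap
  · exact Or.inl (hstep (BGFittingUnique.Oc_le p _ hz) hzo hzn hzW)
  have hcop : (Nat.card K).Coprime p := by
    refine (hpr.coprime_iff_not_dvd.2 fun hd => ?_).symm
    exact BGTypeSetup.not_mem_sigma_of_kappa (hKU.hall.2.1 p hpr hd) c.p_mem_sigma
  have hKP : K ≤ normalizer (P M p : Set G) := hKM.trans (le_normalizer_oc p)
  have hp2 : p ≠ 2 := BGUnique.prime_ne_two hG (c.order ▸ orderOf_dvd_natCard x)
  have hPp := BGFittingUnique.isPGroup_Oc p S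
  by_cases hr : Cfsg.PRankLE p 2 ↥(P M p)
  swap
  · -- rank at least three: `P` is narrow
    left
    have hnar : Cfsg.IsNarrow p ↥(P M p) := by
      refine Or.inr ?_
      set x' : ↥(P M p) := ⟨x, c.x_mem_oc⟩
      set C := centralizer ((zpowers x' : Subgroup ↥(P M p)) : Set ↥(P M p))
      have hC : C.map (P M p).subtype ≤ P M p ⊓ centralizer ({x} : Set G) := by
        rintro _ ⟨w, hw, rfl⟩
        exact mem_inf.2 ⟨w.2, mem_centralizer_singleton_iff.2
          (congrArg Subtype.val (mem_centralizer_iff.1 hw x' (mem_zpowers x'))).symm⟩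
      have hCc : IsMulCommutative C := PGroupsBasic.isMulCommutative_of_forall fun a ha b hb =>
        Subtype.ext (PGroupsBasic.comm_of_isMulCommutative (c.centralizer_oc_comm hP)
          (hC ⟨a, ha, rfl⟩) (hC ⟨b, hb, rfl⟩))
      have hCr : Cfsg.PRankLE p 2 C := by
        refine BGRankTwo.pRankLE_of_injective
          ((inclusion hC).comp (C.equivMapOfInjective _ (P M p).subtype_injective).toMonoidHom)
          ((inclusion_injective hC).comp (MulEquiv.injective _)) (c.centralizer_oc_rank hP)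
      have hx'C : x' ∈ C := mem_centralizer_iff.2 fun w hw => by
        obtain ⟨i, rfl⟩ := mem_zpowers_iff.1 hw
        exact ((Commute.refl x').zpow_left i).eq
      obtain ⟨R₁, h1, h2, h3, h4⟩ := BGNonTIOrder.exists_cyclic_complement hp2 hCc
        (hPp.to_subgroup C) hCr hx'C (by rw [← Subgroup.orderOf_coe]; exact c.order)
        fun y _ hy => c.not_pow hP y.2 (by simpa using congrArg Subtype.val hy)
      refine ⟨zpowers x', R₁, ?_, h1, h2, fun a ha b hb => ?_, h4⟩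
      · rw [Nat.card_zpowers, ← Subgroup.orderOf_coe]
        exact c.order
      · exact mem_centralizer_iff.1 (h3 hb) a ha
    have hfaith : K ⊓ centralizer (P M p : Set G) = ⊥ := by
      rw [eq_bot_iff]
      intro w hw
      rw [mem_bot]
      by_contra hw1
      refine c.oc_not_isCyclic ?_
      haveI := hWcyc
      have hle : P M p ≤ W := fun y hy => hprime w (mem_inf.1 hw).1 hw1 y
        (BGFittingUnique.Oc_le p _ hy) ((mem_centralizer_iff.1 (mem_inf.1 hw).2 y hy).symm)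
      exact isCyclic_of_injective (inclusion hle) (inclusion_injective hle)
    rw [← hko]
    exact (S1454.result p hp2 (P M p) K hPp hnar hKP (BGPrime.isSolvable_of_le_coatom hG hM hKM)
      (BGUnique.odd_card_subgroup hG K) hfaith).2.1 hr k hk
        (hcop.coprime_dvd_left (orderOf_dvd_natCard K hk))
  -- rank two: `P` is extraspecial of order `p³`
  obtain ⟨T, hT⟩ := (c.oc_isMaxP_top c.p_mem_sigma).exists_sylow_top
  rcases S1412.result hG p T (by rw [hT]; exact hr) with h | ⟨P₁, P₂, hsup, hc, hna₁, hc3, hexp, hcyc, -⟩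
  · exact absurd (hT ▸ h) hP
  rw [hT] at hsup
  set Z := P M p ⊓ centralizer (P M p : Set G) with hZ
  haveI : IsCyclic Z := c.center_cyclic hP
  haveI : IsMulCommutative Z := (inferInstance : IsCyclic Z).isMulCommutative
  have hzZ : z ∈ Z := mem_inf.2 ⟨hz, mem_centralizer_iff.2 fun a ha => (hzc a ha).eq⟩
  have hKz : ∀ w ∈ K, Commute w z := fun w hw =>
    mem_centralizer_iff.1 (mem_inf.1 hzW).2 w hw
  have hZW : Z ≤ W := by
    refine le_inf (inf_le_left.trans (BGFittingUnique.Oc_le p _)) ?_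
    have h := CoprimeAction.le_centralizer_of_prime_order_fixed (A := K) (V := Z)
      (hKM.trans (CoprimeAction.le_normalizer_inf (le_normalizer_oc p)
        ((le_normalizer_oc p).trans (BGRankTwo.normalizer_le_normalizer_centralizer _)))) ?_ ?_
    · exact fun y hy => mem_centralizer_iff.2 fun w hw => (mem_centralizer_iff.1 (h hw) y hy).symm
    · obtain ⟨n, hn⟩ := IsPGroup.iff_card.1 (hPp.to_le (inf_le_left : Z ≤ _))
      rw [hn]
      exact hcop.pow_right n
    · intro v hv hvp w hw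
      have hvo : orderOf v = p := by
        obtain ⟨n, hn⟩ := IsPGroup.iff_card.1 hPp
        exact (Nat.prime_dvd_prime_iff_eq hvp hpr).1
          (hvp.dvd_of_dvd_pow (hn ▸ orderOf_dvd_natCard _ (mem_inf.1 hv).1))
      obtain ⟨i, rfl⟩ := mem_zpowers_iff.1
        (mem_zpowers_of_orderOf_eq hzZ hv (hvo.trans hzo.symm))
      exact ((hKz w hw).zpow_right i).eq
  have hn : P₁ ≤ normalizer (P₂ : Set G) := le_trans
    (fun a ha => mem_centralizer_iff.2 fun b hb => (hc a ha b hb).symm)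
    (centralizer_le_normalizer _)
  have hdec : ∀ y ∈ P M p, ∃ a ∈ P₁, ∃ b ∈ P₂, a * b = y := fun y hy => by
    rw [← hsup, ← SetLike.mem_coe, coe_mul_of_left_le_normalizer_right _ _ hn] at hy
    obtain ⟨a, ha, b, hb, e⟩ := Set.mem_mul.1 hy
    exact ⟨a, ha, b, hb, e⟩
  obtain ⟨γ, hγ⟩ := hcyc.exists_generator
  have hc2 : ∀ a ∈ P₂, ∀ b ∈ P₂, Commute a b := fun a ha b hb => by
    obtain ⟨i, hi⟩ := mem_zpowers_iff.1 (hγ ⟨a, ha⟩)
    obtain ⟨j, hj⟩ := mem_zpowers_iff.1 (hγ ⟨b, hb⟩)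
    have h := ((Commute.refl γ).zpow_left i).zpow_right j
    rw [hi, hj] at h
    exact congrArg Subtype.val h.eq
  have hP' : ⁅P M p, P M p⁆ ≤ P₁ := by
    rw [commutator_le]
    intro s hs t ht
    obtain ⟨a, ha, b, hb, rfl⟩ := hdec s hs
    obtain ⟨a', ha', b', hb', rfl⟩ := hdec t ht
    have h2 : Commute b a' := (hc a' ha' b hb).symm
    have h3 : Commute b' a := (hc a ha b' hb').symm
    have e : ⁅a * b, a' * b'⁆ = a * a' * a⁻¹ * a'⁻¹ := by
      rw [commutatorElement_def]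
      calc a * b * (a' * b') * (a * b)⁻¹ * (a' * b')⁻¹
          = a * (b * a') * b' * b⁻¹ * a⁻¹ * b'⁻¹ * a'⁻¹ := by group
        _ = a * a' * (b * b' * b⁻¹) * a⁻¹ * b'⁻¹ * a'⁻¹ := by rw [h2.eq]; group
        _ = a * a' * (b' * a⁻¹) * b'⁻¹ * a'⁻¹ := by rw [(hc2 b hb b' hb').eq]; group
        _ = a * a' * a⁻¹ * a'⁻¹ := by rw [h3.inv_right.eq]; group
    rw [e]
    exact mul_mem (mul_mem (mul_mem ha ha') (inv_mem ha)) (inv_mem ha')
  have hP2 : P₂ ≤ P₁ := fun b hb => hP' (hWP' (hZW (mem_inf.2 ⟨hsup ▸ mem_sup_right hb,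
    mem_centralizer_iff.2 fun y hy => by
      obtain ⟨a, ha, b', hb', rfl⟩ := hdec y hy
      exact ((show Commute a b from hc a ha b hb).mul_left (hc2 b' hb' b hb)).eq⟩)))
  have hPP1 : P M p = P₁ := le_antisymm (hsup ▸ sup_le le_rfl hP2) (hsup ▸ le_sup_left)
  have hcard : Nat.card (P M p) = p ^ 3 := by rw [hPP1]; exact hc3
  have hexp' : ∀ y ∈ P M p, y ^ p = 1 := by
    intro y hy
    have h1 := Monoid.pow_exponent_eq_one (⟨y, hPP1 ▸ hy⟩ : P₁)
    rw [hexp] at h1
    simpa using congrArg Subtype.val h1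
  have hfix : ∀ w ∈ K, w ≠ 1 → ∀ y ∈ P M p, Commute w y → y ∈ zpowers z := by
    intro w hw hw1 y hy hwy
    have hyW := hprime w hw hw1 y (BGFittingUnique.Oc_le p _ hy) hwy
    by_cases hy1 : y = 1
    · rw [hy1]; exact one_mem _
    haveI := hWcyc
    exact mem_zpowers_of_orderOf_eq hzW hyW
      ((orderOf_eq_prime (hexp' y hy) hy1).trans hzo.symm)
  rcases BGNonTIOrder.card_dvd_pred_or_succ hcard hexp' hz hzo hzc hP hKP
    (BGUnique.odd_card_subgroup hG K) hcop hKz hfix with h | h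
  · exact Or.inl h
  · exact Or.inr ⟨hcard, h⟩

end Config

/-! ### `M' ≤ F(M)` -/

variable {M : Subgroup G} (hG : Cfsg.IsMinSimpleOddOrder G) (hM : IsCoatom M)
  (hnil : Group.IsNilpotent ↥(Cfsg.sigmaCore M))
include hG hM hnil

theorem fittingOf_eq : Cfsg.fittingOf M =
    Cfsg.sigmaCore M ⊔ Cfsg.piCoreOf {q | q.Prime ∧ q ∉ Cfsg.sigma M} (Cfsg.fittingOf M) := by
  have h := (S1439.result hG M hM).2.2
  rwa [fittingOf_of_nilpotent hnil] at h

theorem derived_le_fitting {p : ℕ} [Fact p.Prime] {Y : Subgroup G} (hYF : Y ≤ Cfsg.fittingOf M)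
    (hY : Cfsg.IsElementaryAbelian p Y)
    (hr : ∀ q : ℕ, q.Prime → q ∈ Cfsg.sigma M →
      Cfsg.PRankLE q 2 ↥(P M q ⊓ centralizer (Y : Set G))) : ⁅M, M⁆ ≤ Cfsg.fittingOf M := by
  haveI := BGUnique.isSolvable_of_ne_top hG hM.1
  have hYM : Y ≤ M := hYF.trans (FittingHallBasic.fittingOf_le M)
  have hE : Y.subgroupOf M ≤ Cfsg.fittingSubgroup M := by
    intro y hy
    obtain ⟨y', hy', he⟩ := hYF hy
    exact Subtype.ext he ▸ hy'
  rw [← Subgroup.map_subtype_commutator]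
  refine map_mono (S1456.result (BGUnique.odd_card_subgroup hG M) p (Y.subgroupOf M) hE
    (PGroupsBasic.isElementaryAbelian_comap_injective hY M.subtype_injective) ?_)
  intro q hq
  haveI := Fact.mk hq
  intro A hA hAp
  set A' : Subgroup M := A.map (Subgroup.subtype _) with hA'
  set A'' : Subgroup G := A'.map M.subtype with hA''
  have hel : Cfsg.IsElementaryAbelian q A'' :=
    PGroupsBasic.isElementaryAbelian_map_hom
      (PGroupsBasic.isElementaryAbelian_map_hom ⟨hA, hAp⟩ _) _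
  have hcard : Nat.card A = Nat.card A'' := by
    rw [hA'', hA', card_map_of_injective M.subtype_injective, card_map_of_injective (Subtype.val_injective)]
  have hmem : ∀ a ∈ A'', a ∈ Cfsg.fittingOf M ∧ a ∈ centralizer (Y : Set G) := by
    rintro _ ⟨_, ⟨a, ha, rfl⟩, rfl⟩
    refine ⟨mem_map_of_mem _ (mem_inf.1 a.2).1, mem_centralizer_iff.2 fun y hy => ?_⟩
    exact congrArg Subtype.val (mem_centralizer_iff.1 (mem_inf.1 a.2).2 ⟨y, hYM hy⟩ hy)
  have hqgroup := PGroupsBasic.isPGroup_of_isElementaryAbelian hel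
  rw [hcard]
  by_cases hqσ : q ∈ Cfsg.sigma M
  · have hS : A'' ≤ Cfsg.sigmaCore M := BGTypeP.le_sigmaCore hG hM
      (fun a ha => FittingHallBasic.fittingOf_le M (hmem a ha).1)
      (BGSigma.piNat_of_isPGroup hqgroup hqσ)
    exact BGSigma.card_le_of_pRankLE (hr q hq hqσ)
      (le_inf (le_oc hnil hqgroup hS) fun a ha => (hmem a ha).2) hel
  · set C := Cfsg.piCoreOf {r | r.Prime ∧ r ∉ Cfsg.sigma M} (Cfsg.fittingOf M)
    haveI : IsCyclic C := (S1439.result hG M hM).1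
    have hle : A'' ≤ C := by
      refine (le_oc (FittingHallBasic.fittingOf_isNilpotent M) hqgroup fun a ha => (hmem a ha).1).trans
        (BGTransitivity.le_piCoreOf (BGFittingUnique.Oc_le q _)
          (BGFittingUnique.le_normalizer_Oc q _) fun r hr' hd => ?_)
      obtain ⟨n, hn⟩ := IsPGroup.iff_card.1 (BGFittingUnique.isPGroup_Oc q (Cfsg.fittingOf M))
      have := (Nat.prime_dvd_prime_iff_eq hr' hq).1 (hr'.dvd_of_dvd_pow (hn ▸ hd))
      exact ⟨hr', this ▸ hqσ⟩
    haveI : IsCyclic A'' := isCyclic_of_injective (inclusion hle) (inclusion_injective hle)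
    by_contra hlt
    exact BGUnique.not_isCyclic_of_sq_le hel (le_of_not_ge hlt) inferInstance

omit hG hM hnil in
/-- Bender-Glauberman 15.7, with `M' ≤ F(M)`. -/
theorem nonTI_structure (hG : Cfsg.IsMinSimpleOddOrder G) (M : Subgroup G) (hM : IsCoatom M)
    (K U : Subgroup G) (hKU : Cfsg.IsSigmaDecomposition M K U) (g : G)
    (hg : g ∉ M)
    (hX : Cfsg.fittingOf M ⊓ (Cfsg.fittingOf M).map (MulAut.conj g).toMonoidHom ≠ ⊥) :
    (Cfsg.fittingOf M ⊓ (Cfsg.fittingOf M).map (MulAut.conj g).toMonoidHom ≤ Cfsg.fittingHallOf M ∧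
      IsCyclic ↥(Cfsg.fittingOf M ⊓ (Cfsg.fittingOf M).map (MulAut.conj g).toMonoidHom)) ∧
    (⁅M, M⁆ ≤ Cfsg.fittingOf M ∧ Cfsg.fittingOf M = Cfsg.sigmaCore M ⊔
      Cfsg.piCoreOf {q | q.Prime ∧ q ∉ Cfsg.sigma M} (Cfsg.fittingOf M)) ∧
    ((K = ⊥ ∧ IsMulCommutative (Cfsg.fittingHallOf M) ∧ Cfsg.RankLE 2 (Cfsg.fittingHallOf M) ∧
        ¬ Cfsg.RankLE 1 (Cfsg.fittingHallOf M)) ∨
     (∃ p : ℕ, p.Prime ∧
        Nat.card ↥(Cfsg.fittingOf M ⊓ (Cfsg.fittingOf M).map (MulAut.conj g).toMonoidHom) = p ∧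
        p ∈ Cfsg.sigma M ∧ p ∉ Cfsg.beta M ∧
        ¬ IsMulCommutative (Cfsg.pCore p ↥(Cfsg.fittingHallOf M)) ∧
        IsCyclic (Cfsg.pPrimeCore p ↥(Cfsg.fittingHallOf M)) ∧
        ∀ q : ℕ, q.Prime → q ∣ Nat.card (Cfsg.fittingHallOf M) →
          Monoid.exponent (↥M ⧸ Cfsg.fittingHall ↥M) ∣ q - 1) ∨
     (∃ p : ℕ, p.Prime ∧
        Nat.card ↥(Cfsg.fittingOf M ⊓ (Cfsg.fittingOf M).map (MulAut.conj g).toMonoidHom) = p ∧
        p ∈ Cfsg.sigma M ∧ p ∉ Cfsg.beta M ∧
        IsCyclic (Cfsg.pPrimeCore p ↥(Cfsg.fittingHallOf M)) ∧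
        Nat.card (Cfsg.pCore p ↥(Cfsg.fittingHallOf M)) = p ^ 3 ∧
        ¬ IsMulCommutative (Cfsg.pCore p ↥(Cfsg.fittingHallOf M)) ∧ K ≠ ⊥ ∧ U = ⊥ ∧
        (Cfsg.fittingHallOf M).relIndex M ∣ p + 1)) := by
  have hH := fittingHallOf_eq_sigmaCore hG hM hg hX hKU
  have hnil : Group.IsNilpotent ↥(Cfsg.sigmaCore M) :=
    hH ▸ (ComponentsCores.isNilpotent_map_subtype_iff _).mpr FittingHallBasic.fittingHall_isNilpotent
  obtain ⟨hcyc, hbeta⟩ := inf_cyclic hG hM hg
  have hXS := inf_le_sigmaCore hG hM hg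
  obtain ⟨p, x, hp, hx, hxo⟩ := exists_prime hX
  haveI := Fact.mk hp
  have hSF : Cfsg.sigmaCore M ≤ Cfsg.fittingOf M :=
    hH ▸ FittingHallBasic.fittingHallOf_le_fittingOf M
  have c : Config M g p x :=
    { hG := hG, hM := hM, hg := hg, nilp := hnil, hp := hp, hx := hXS hx,
      hx' := conj_mem_sigmaCore hG hM hg hx, order := hxo,
      le_inter := fun y hy hy' => mem_inf.2 ⟨hSF hy, BGTypeP.mem_cj.2 (hSF hy')⟩,
      inter_cyclic := hcyc }
  have hFeq := fittingOf_eq hG hM hnil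
  have hxF : zpowers x ≤ Cfsg.fittingOf M := zpowers_le.2 hx.1
  have hxel : Cfsg.IsElementaryAbelian p (zpowers x) :=
    PGroupsBasic.isElementaryAbelian_zpowers (hxo ▸ pow_orderOf_eq_one x)
  have hU : K ≠ ⊥ → U = ⊥ := fun hK => by_contra fun hU => by
    obtain ⟨-, hTI, -⟩ := S1372.result hG M hM K U hKU hK hU
    have hFne : Cfsg.fittingOf M ≠ ⊥ := fun h => c.x_ne_one (mem_bot.1 (h ▸ hx.1))
    have hn : g ∉ normalizer (Cfsg.fittingOf M : Set G) := by
      rw [BGTypeSetup.normalizer_eq_of_normal hG hM hFne (FittingHallBasic.fittingOf_le M)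
        (le_normalizer.trans (BGFittingUnique.normalizer_le_fittingOf M))]
      exact hg
    refine c.x_ne_one ?_
    have h1 := hTI g hn _ (conj_mem_of_mem_inf hx) (by simpa [mul_assoc] using hx.1)
    calc x = g * (g⁻¹ * x * g) * g⁻¹ := by group
      _ = 1 := by rw [h1]; group
  rw [hH]
  refine ⟨⟨hXS, hcyc⟩, ⟨?_, hFeq⟩, ?_⟩
  · by_cases hS : IsMulCommutative ↥(Cfsg.sigmaCore M)
    · refine derived_le_fitting hG hM hnil (p := p) bot_le PGroupsBasic.isElementaryAbelian_bot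
        fun q hq _ => BGRankTwo.pRankLE_mono (inf_le_left.trans (BGFittingUnique.Oc_le q _))
          (c.rankLE_of_comm hS q hq)
    · have hP := c.oc_not_comm hS
      refine derived_le_fitting hG hM hnil hxF hxel fun q hq _ => ?_
      haveI := Fact.mk hq
      by_cases hqp : q = p
      · subst hqp
        exact BGRankTwo.pRankLE_mono (inf_le_inf_left _ (centralizer_le (by
          simpa using mem_zpowers x))) (c.centralizer_oc_rank hP)
      · exact BGRankTwo.pRankLE_mono inf_le_left (c.oc_rank hqp)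
  by_cases hS : IsMulCommutative ↥(Cfsg.sigmaCore M)
  · refine Or.inl ⟨?_, hS, c.rankLE_of_comm hS, c.not_rankLE_one⟩
    by_contra hK
    obtain ⟨-, hW1, -, -⟩ := S1364.result hG M hM K U hKU hK
    obtain ⟨hM', hW2⟩ := S1365.result hG M hM K U hKU hK
    rw [hU hK, bot_sup_eq] at hM'
    rw [hM'] at hW2
    refine hW1 (le_bot_iff.1 (hW2.trans ?_))
    rw [commutator_le]
    intro a ha b hb
    rw [mem_bot, commutatorElement_eq_one_iff_mul_comm]
    exact PGroupsBasic.comm_of_isMulCommutative hS ha hb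
  right
  have hP := c.oc_not_comm hS
  have hcardX := c.card_inter hP
  have hna : ¬ IsMulCommutative (Cfsg.pCore p ↥(Cfsg.sigmaCore M)) := fun h => hP
    (PGroupsBasic.isMulCommutative_of_forall (by
      rintro _ ⟨a, ha, rfl⟩ _ ⟨b, hb, rfl⟩
      exact congrArg Subtype.val (PGroupsBasic.comm_of_isMulCommutative h ha hb)))
  have hcyc' := c.isCyclic_pPrimeCore hP
  have hβ := hbeta p hp (hcardX.symm.dvd)
  by_cases hK : K = ⊥
  · exact Or.inl ⟨p, hp, hcardX, c.p_mem_sigma, hβ, hna, hcyc',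
      fun q hq hd => c.exponent_dvd hP hKU hK hH hq hd⟩
  have hU' := hU hK
  haveI := hKU.cyclic
  have hcompl : Cfsg.IsComplIn (Cfsg.sigmaCore M) K M := by
    refine BGTypeBasic.isComplIn_of_card (BGTypeSetup.sigmaCore_le M) (BGTypeSetup.K_le hKU)
      (BGTypeSetup.coprime_K_sigmaCore hG hM hKU).symm ?_
    rw [← BGTypeSetup.card_decomp hG hM hKU, hU', card_bot, one_mul]
  rcases c.typeP_case hP hKU hK hU' with h | ⟨h3, h1⟩
  · refine Or.inl ⟨p, hp, hcardX, c.p_mem_sigma, hβ, hna, hcyc', fun q hq hd => ?_⟩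
    rw [exponent_quotient hH hcompl, IsCyclic.exponent_eq_card]
    exact h q hq hd
  · refine Or.inr ⟨p, hp, hcardX, c.p_mem_sigma, hβ, hcyc', ?_, hna, hK, hU', ?_⟩
    · rw [← h3]
      exact (card_map_of_injective (Cfsg.sigmaCore M).subtype_injective).symm
    · rw [BGTypeSetup.relIndex_sigmaCore hG hM hKU, hU', card_bot, one_mul]
      exact h1

end Cfsg.Agent.BGNonTI
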