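import Mathlib
import Cfsg.Agent.Lib.BGTypeSetup
import Cfsg.Agent.Lib.BGTypeConj
import Cfsg.Agent.Lib.BGFinalBasic72
import Cfsg.Agent.Lib.BGSigmaRank
import Cfsg.Agent.Lib.BGRankTwo
import Cfsg.Agent.Lib.CoprimeGen
import Cfsg.Agent.Lib.CoprimeExtra
import Cfsg.Agent.Lib.CoprimeAction
import Cfsg.Agent.Lib.FrobeniusFPF
import Cfsg.Agent.Lib.PF12Sets43
import Cfsg.Agent.Lib.PF12Main43
import Cfsg.Agent.S1357
import Cfsg.Agent.S1360
import Cfsg.Agent.S1418

/-!
Peterfalvi, Section 12: local facts about a maximal subgroup with empty kappa set which is not a Frobenius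
group, and about the second maximal subgroup attached to it.
-/

set_option autoImplicit false
set_option linter.unusedSectionVars false
set_option linter.style.haveILetI false

open scoped Pointwise commutatorElement

namespace Cfsg.Agent.PF12Base

open Cfsg Cfsg.Agent.BGTypeBasic Cfsg.Agent.FittingHallBasic

universe u

/-- The `p`-th power of a matrix of degree two is the matrix, its conjugate or a scalar. -/
theorem pow_p_cases {p : ℕ} [Fact p.Prime] (hp : p ≠ 2) (A : Matrix (Fin 2) (Fin 2) (ZMod p)) :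
    A ^ p = A ∨ (∃ d : ZMod p, A ^ (p + 1) = d • 1) ∨ ∃ d : ZMod p, A ^ p = d • 1 := by
  classical
  obtain ⟨m, hm⟩ : Odd p := (Fact.out : p.Prime).odd_of_ne_two hp
  set t : ZMod p := A 0 0 + A 1 1 with ht
  set d : ZMod p := A 0 0 * A 1 1 - A 0 1 * A 1 0 with hd
  have hch : A * A = t • A - d • (1 : Matrix (Fin 2) (Fin 2) (ZMod p)) := by
    ext i j
    fin_cases i <;> fin_cases j <;>
      simp [Matrix.mul_apply, Fin.sum_univ_two, ht, hd] <;> ring
  set B : Matrix (Fin 2) (Fin 2) (ZMod p) := (2 : ZMod p) • A - t • 1 with hB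
  set D : ZMod p := t ^ 2 - 4 * d with hD
  have hB2 : B * B = D • 1 := by
    rw [hB]
    simp only [mul_sub, sub_mul, smul_mul_smul_comm, mul_one, one_mul, hch, hD]
    module
  have hBp : B ^ p = (2 : ZMod p) • A ^ p - t • 1 := by
    rw [hB, sub_pow_char_of_commute p ((Commute.one_right _).smul_right t), smul_pow, smul_pow, one_pow,
      ZMod.pow_card, ZMod.pow_card]
  have hBp' : B ^ p = D ^ m • B := by
    have e : B ^ p = (B * B) ^ m * B :=
      (congrArg (B ^ ·) hm).trans (by rw [pow_succ, pow_mul, pow_two])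
    rw [e, hB2, smul_pow, one_pow, smul_mul_assoc, one_mul]
  have h2 : (2 : ZMod p) ≠ 0 := fun h => hp ((Nat.prime_dvd_prime_iff_eq Fact.out Nat.prime_two).1
    ((CharP.cast_eq_zero_iff (ZMod p) p 2).1 (by exact_mod_cast h)))
  by_cases hD0 : D = 0
  · right; right
    refine ⟨t / 2, smul_right_injective _ h2 ?_⟩
    show (2 : ZMod p) • A ^ p = (2 : ZMod p) • (t / 2) • (1 : Matrix (Fin 2) (Fin 2) (ZMod p))
    have hm0 : m ≠ 0 := by
      rintro rfl
      exact (Fact.out : p.Prime).ne_one (by simpa using hm)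
    rw [smul_smul, mul_div_cancel₀ t h2, ← sub_eq_zero, ← hBp, hBp', hD0, zero_pow hm0, zero_smul]
  have hDm : D ^ m = 1 ∨ D ^ m = -1 := by
    have := ZMod.pow_div_two_eq_neg_one_or_one p hD0
    rwa [show p / 2 = m by omega] at this
  rcases hDm with h | h
  · left
    rw [h, one_smul, hB] at hBp'
    rw [hB] at hBp
    exact smul_right_injective _ h2 (sub_left_injective (hBp.symm.trans hBp'))
  · right; left
    refine ⟨d, ?_⟩
    rw [h, hBp, hB] at hBp'
    have e : A ^ p = t • 1 - A := by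
      refine smul_right_injective _ h2 ?_
      show (2 : ZMod p) • A ^ p = (2 : ZMod p) • (t • 1 - A)
      rw [eq_add_of_sub_eq hBp']
      module
    rw [pow_succ, e, sub_mul, smul_mul_assoc, one_mul, hch]
    abel

variable {G : Type u} [Group G] [Finite G]

theorem isNilpotent_fittingHallOf (M : Subgroup G) : Group.IsNilpotent ↥(fittingHallOf M) :=
  (ComponentsCores.isNilpotent_map_subtype_iff _).mpr FittingHallBasic.fittingHall_isNilpotent

theorem mem_fittingHallOf {M : Subgroup G} (y : ↥M) : (y : G) ∈ fittingHallOf M ↔ y ∈ fittingHall ↥M :=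
  ⟨fun h => by obtain ⟨z, hz, e⟩ := Subgroup.mem_map.1 h; rwa [← Subtype.ext e],
    fun h => Subgroup.mem_map.2 ⟨y, h, rfl⟩⟩

theorem coprime_compl {M E : Subgroup G} (hE : IsComplIn (fittingHallOf M) E M) :
    (Nat.card (fittingHallOf M)).Coprime (Nat.card E) := by
  rw [← FittingHallBasic.card_compl_eq_relIndex hE]
  exact FittingHallBasic.fittingHallOf_coprime M |>.coprime_dvd_right
    ⟨_, (Subgroup.relIndex_mul_relIndex _ _ _ hE.1 le_rfl).symm.trans (by rw [Subgroup.relIndex_self, mul_one])⟩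

theorem kappa_facts (hG : IsMinSimpleOddOrder G) {M : Subgroup G} (hM : IsCoatom M) (hκ : kappa M = ∅) :
    fittingHallOf M = sigmaCore M := by
  by_contra hne
  obtain ⟨U, h⟩ := PF12Sets.exists_decomp_of_kappa hG hM hκ
  have hp := (S1357.result hG M hM ⊥ U h hne).2.2
  rw [Subgroup.card_bot] at hp
  exact Nat.not_prime_one hp

/-- Every complement of `M_F` has a subgroup with the same primes acting without fixed points. -/
theorem exists_free (hG : IsMinSimpleOddOrder G) {M : Subgroup G} (hM : IsCoatom M) (hκ : kappa M = ∅)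
    {E : Subgroup G} (hE : IsComplIn (fittingHallOf M) E M) :
    ∃ E₀ : Subgroup G, E₀ ≤ E ∧
      (∀ z ∈ E₀, z ≠ 1 → ∀ y ∈ fittingHallOf M, z * y = y * z → y = 1) ∧
      ∀ q : ℕ, q.Prime → q ∣ Nat.card E → q ∣ Nat.card E₀ := by
  obtain ⟨U, hKU⟩ := PF12Sets.exists_decomp_of_kappa hG hM hκ
  have hMF := kappa_facts hG hM hκ
  obtain ⟨U₀, hU₀, hexp, hfree⟩ := S1360.result hG M hM ⊥ U hKU
  have hc : IsComplIn (fittingHallOf M) U M := hMF ▸ BGTypeSetup.compl_of_K_bot hG hM hKU rfl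
  haveI := isNilpotent_fittingHallOf M
  obtain ⟨n, hn, hnE⟩ := isComplIn_conjugate (FittingHallBasic.le_normalizer_fittingHallOf M)
    (coprime_compl hc) (Or.inr inferInstance) hc hE
  have hnM : n ∈ M := FittingHallBasic.fittingHallOf_le M hn
  refine ⟨MulAut.conj n • U₀, ?_, ?_, fun q hq hd => ?_⟩
  · rw [← hnE]
    exact Subgroup.pointwise_smul_le_pointwise_smul_iff.2 hU₀
  · intro z hz hz1 y hy hzy
    rw [mem_conj_smul] at hz
    by_contra hy1
    have hy' : n⁻¹ * y * n ∈ sigmaCore M := by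
      rw [← hMF]
      simpa using BGTypeSetup.conj_mem_fittingHallOf (M.inv_mem hnM) hy
    refine hz1 ?_
    have h := hfree _ hz ⟨hKU.compl.1 (hU₀ hz), _, hy', fun e => hy1 ?_, ?_⟩
    · calc z = n * (n⁻¹ * z * n) * n⁻¹ := by group
        _ = 1 := by rw [h]; group
    · calc y = n * (n⁻¹ * y * n) * n⁻¹ := by group
        _ = 1 := by rw [e]; group
    · calc n⁻¹ * z * n * (n⁻¹ * y * n) = n⁻¹ * (z * y) * n := by group
        _ = n⁻¹ * (y * z) * n := by rw [hzy]
        _ = _ := by group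
  · haveI := Fact.mk hq
    rw [← Nat.card_congr (Subgroup.equivSMul (MulAut.conj n) U₀).toEquiv]
    rw [← hnE, ← Nat.card_congr (Subgroup.equivSMul (MulAut.conj n) U).toEquiv] at hd
    obtain ⟨z, hz⟩ := exists_prime_orderOf_dvd_card' (G := U) q hd
    have : q ∣ Monoid.exponent U₀ := by rw [hexp, ← hz]; exact Monoid.order_dvd_exponent z
    exact this.trans Group.exponent_dvd_nat_card

/-- `p` witnesses that `M`, with empty kappa set, is not a Frobenius group. -/
def Bad (M : Subgroup G) (p : ℕ) : Prop :=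
  IsCoatom M ∧ kappa M = ∅ ∧ p.Prime ∧ ¬ p ∣ Nat.card (fittingHallOf M) ∧
    ∃ u ∈ M, orderOf u = p ∧ ∃ y ∈ fittingHallOf M, y ≠ 1 ∧ u * y = y * u

theorem exists_bad {M : Subgroup G} (hM : IsCoatom M) (hκ : kappa M = ∅) {y g : G}
    (hy : y ∈ fittingHallOf M) (hy1 : y ≠ 1) (hg : g ∈ M ⊓ Subgroup.centralizer ({y} : Set G))
    (hgF : g ∉ fittingHallOf M) : ∃ p, Bad M p := by
  have hn : ¬ (orderOf g).Coprime ((fittingHallOf M).relIndex M) := fun h =>
    hgF (BGTypeSetup.mem_of_orderOf_coprime_relIndex (FittingHallBasic.le_normalizer_fittingHallOf M) hg.1 h)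
  obtain ⟨p, hp, hpo, hpi⟩ := Nat.Prime.not_coprime_iff_dvd.1 hn
  refine ⟨p, hM, hκ, hp, fun h => ?_, g ^ (orderOf g / p), M.pow_mem hg.1 _,
    orderOf_pow_orderOf_div (orderOf_pos g).ne' hpo, y, hy, hy1,
    (Commute.pow_left (Subgroup.mem_centralizer_singleton_iff.1 hg.2) _).eq⟩
  exact hp.ne_one (Nat.eq_one_of_dvd_coprimes (FittingHallBasic.fittingHallOf_coprime M) h
    hpi)

theorem bad_tau2 (hG : IsMinSimpleOddOrder G) {M : Subgroup G} {p : ℕ} (h : Bad M p) : p ∈ tau2 M := by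
  obtain ⟨hM, hκ, hp, hpF, u, huM, hu, y, hy, hy1, huy⟩ := h
  rw [kappa_facts hG hM hκ] at hy hpF
  refine BGFinal72.mem_tau2_of_fixed hG hM hp (fun hs => hpF ?_) (by rw [hκ]; exact Set.notMem_empty p)
    huM hu hy hy1 huy
  rw [← hu]
  refine Subgroup.orderOf_dvd_natCard _ (BGTypeSetup.sigma_element_mem hG hM huM fun q hq hd => ?_)
  rw [hu] at hd
  exact ((Nat.prime_dvd_prime_iff_eq hq hp).1 hd) ▸ hs

theorem exists_elementary {M : Subgroup G} {p : ℕ} [Fact p.Prime] (h : ¬ PRankLE p 1 ↥M) :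
    ∃ A : Subgroup G, A ≤ M ∧ IsElementaryAbelian p A ∧ Nat.card A = p ^ 2 := by
  simp only [PRankLE, not_forall, not_le, pow_one] at h
  obtain ⟨A, hA, hAp, hc⟩ := h
  obtain ⟨n, hn⟩ := IsPGroup.iff_card.1
    (fun a => ⟨1, Subtype.ext (by simpa using hAp a a.2)⟩ : IsPGroup p A)
  have h2 : 2 ≤ n := by
    by_contra h'
    rw [hn] at hc
    exact absurd hc (not_lt.2 (by
      calc p ^ n ≤ p ^ 1 := Nat.pow_le_pow_right (Fact.out : p.Prime).pos (by omega)
        _ = p := pow_one p))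
  obtain ⟨B, hB⟩ := Sylow.exists_subgroup_card_pow_prime (G := A) p (n := 2)
    (by rw [hn]; exact pow_dvd_pow p h2)
  have hsub : ∀ a ∈ (B.map A.subtype).map M.subtype, ∃ b : A, ((b : ↥M) : G) = a := by
    rintro _ ⟨_, ⟨b, -, rfl⟩, rfl⟩
    exact ⟨b, rfl⟩
  refine ⟨(B.map A.subtype).map M.subtype, Subgroup.map_subtype_le _, ⟨⟨⟨fun a b => ?_⟩⟩, fun a ha => ?_⟩, ?_⟩
  · obtain ⟨a', ha'⟩ := hsub a a.2
    obtain ⟨b', hb'⟩ := hsub b b.2
    refine Subtype.ext ?_
    simp only [Subgroup.coe_mul, ← ha', ← hb']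
    exact congrArg (fun z : A => ((z : ↥M) : G)) (hA.is_comm.comm a' b')
  · obtain ⟨a', ha'⟩ := hsub a ha
    rw [← ha', ← SubgroupClass.coe_pow, hAp a' a'.2, Subgroup.coe_one]
  · rw [Subgroup.card_map_of_injective M.subtype_injective,
      Subgroup.card_map_of_injective A.subtype_injective, hB]

theorem centralizer_zpowers_eq (x : G) :
    Subgroup.centralizer ((Subgroup.zpowers x : Subgroup G) : Set G) = Subgroup.centralizer ({x} : Set G) := by
  rw [Subgroup.zpowers_eq_closure, Subgroup.centralizer_closure]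

theorem center_invariant {M : Subgroup G} :
    ∃ V : Subgroup G, V ≤ fittingHallOf M ∧ (fittingHallOf M ≠ ⊥ → V ≠ ⊥) ∧ IsMulCommutative V ∧
      M ≤ Subgroup.normalizer (V : Set G) := by
  haveI := isNilpotent_fittingHallOf M
  refine ⟨(Subgroup.center (fittingHallOf M)).map (fittingHallOf M).subtype,
    Subgroup.map_subtype_le _, fun hne => ?_, ⟨⟨?_⟩⟩, ?_⟩
  · haveI : Nontrivial (fittingHallOf M) := (Subgroup.nontrivial_iff_ne_bot _).2 hne
    rw [ne_eq, Subgroup.map_eq_bot_iff_of_injective _ (fittingHallOf M).subtype_injective]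
    exact Group.IsNilpotent.center_ne_bot _
  · rintro ⟨_, ⟨a, ha, rfl⟩⟩ ⟨_, ⟨b, -, rfl⟩⟩
    apply Subtype.ext
    show (a : G) * (b : G) = (b : G) * (a : G)
    exact (congrArg Subtype.val (Subgroup.mem_center_iff.1 ha b)).symm
  · intro m hm
    rw [Subgroup.mem_normalizer_iff]
    have key : ∀ m' ∈ M, ∀ v, v ∈ (Subgroup.center (fittingHallOf M)).map (fittingHallOf M).subtype →
        m' * v * m'⁻¹ ∈ (Subgroup.center (fittingHallOf M)).map (fittingHallOf M).subtype := by
      rintro m' hm' _ ⟨a, ha, rfl⟩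
      refine ⟨⟨m' * a * m'⁻¹, BGTypeSetup.conj_mem_fittingHallOf hm' a.2⟩,
        Subgroup.mem_center_iff.2 fun b => Subtype.ext ?_, rfl⟩
      have hb : m'⁻¹ * (b : G) * m' ∈ fittingHallOf M := by
        simpa using BGTypeSetup.conj_mem_fittingHallOf (M.inv_mem hm') b.2
      have h : (m'⁻¹ * (b : G) * m') * a = a * (m'⁻¹ * (b : G) * m') :=
        congrArg Subtype.val (Subgroup.mem_center_iff.1 ha ⟨_, hb⟩)
      show (b : G) * (m' * a * m'⁻¹) = m' * a * m'⁻¹ * b
      calc (b : G) * (m' * a * m'⁻¹) = m' * ((m'⁻¹ * b * m') * a) * m'⁻¹ := by group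
        _ = m' * (a * (m'⁻¹ * b * m')) * m'⁻¹ := by rw [h]
        _ = _ := by group
    intro v
    exact ⟨key m hm v, fun h => by simpa [mul_assoc] using key _ (M.inv_mem hm) _ h⟩

/-- An elementary abelian subgroup of order `p ^ 2` of an abelian group of rank two contains every
element of order dividing `p`. -/
theorem mem_of_pow_eq_one {p : ℕ} (hp : p.Prime) {H A : Subgroup G} (hHc : IsMulCommutative H)
    (hr : RankLE 2 H) (hAH : A ≤ H) (hA : IsElementaryAbelian p A) (hAc : Nat.card A = p ^ 2) {y : G}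
    (hy : y ∈ H) (hyp : y ^ p = 1) : y ∈ A := by
  letI : CommGroup H := { (inferInstance : Group H) with mul_comm := hHc.is_comm.comm }
  set Ω : Subgroup H := (powMonoidHom p : H →* H).ker with hΩ
  have hmemΩ : ∀ z : H, z ∈ Ω ↔ z ^ p = 1 := fun z => Iff.rfl
  have hcard : Nat.card Ω ≤ p ^ 2 :=
    hr p hp Ω ⟨⟨fun a b => Subtype.ext (mul_comm (a : H) b)⟩⟩ fun a ha => (hmemΩ a).1 ha
  have hle : A.subgroupOf H ≤ Ω := fun a ha => (hmemΩ a).2 (Subtype.ext (hA.2 _ ha))
  have : A.subgroupOf H = Ω := Subgroup.eq_of_le_of_card_ge hle (by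
    rw [Nat.card_congr (Subgroup.subgroupOfEquivOfLe hAH).toEquiv, hAc]; exact hcard)
  have h : (⟨y, hy⟩ : H) ∈ Ω := (hmemΩ _).2 (Subtype.ext hyp)
  rw [← this] at h
  exact h

section
attribute [local instance] Classical.propDecidable

/-- A group of order prime to `p` acting faithfully and without scalars on an elementary abelian group
of order `p ^ 2` and having exponent equal to its order has order dividing `p - 1` or `p + 1`. -/
theorem dvd_of_action {C : Type u} [Group C] [Finite C] [Group.IsSolvable C] (hodd : Odd (Nat.card C))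
    {p : ℕ} [Fact p.Prime] (hp : p ≠ 2) (hcop : (Nat.card C).Coprime p)
    (hexp : Monoid.exponent C = Nat.card C)
    {V : Type u} [CommGroup V] [Finite V] (hV : ∀ x : V, x ^ p = 1) (hcard : Nat.card V = p ^ 2)
    (φ : C →* MulAut V) (hfaith : Function.Injective φ)
    (hscal : ∀ c : C, (∃ k : ℕ, ∀ v : V, φ c v = v ^ k) → c = 1) :
    Nat.card C ∣ p - 1 ∨ Nat.card C ∣ p + 1 := by
  have instM : Module (ZMod p) (Additive V) :=
    AddCommGroup.zmodModule fun x => congrArg Additive.ofMul (hV x.toMul)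
  haveI : Module.Finite (ZMod p) (Additive V) := Module.Finite.of_finite
  have hfr : Module.finrank (ZMod p) (Additive V) = 2 := by
    have h1 : Nat.card (Additive V) = Nat.card (ZMod p) ^ Module.finrank (ZMod p) (Additive V) :=
      Module.natCard_eq_pow_finrank (K := ZMod p) (V := Additive V)
    rw [Nat.card_zmod, show Nat.card (Additive V) = Nat.card V from rfl, hcard] at h1
    exact (Nat.pow_right_injective (Fact.out : p.Prime).two_le h1).symm
  let b := Module.finBasisOfFinrankEq (ZMod p) (Additive V) hfr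
  let lin : MulAut V →* Module.End (ZMod p) (Additive V) :=
    { toFun := fun a => AddMonoidHom.toZModLinearMap p (MonoidHom.toAdditive a.toMonoidHom)
      map_one' := LinearMap.ext fun x => by
        show Additive.ofMul ((1 : MulAut V) x.toMul) = x
        rfl
      map_mul' := fun a a' => LinearMap.ext fun x => by
        show Additive.ofMul ((a * a') x.toMul) = Additive.ofMul (a (a' x.toMul))
        rfl }
  let f : C →* Matrix (Fin 2) (Fin 2) (ZMod p) :=
    ((LinearMap.toMatrixAlgEquiv b).toRingEquiv.toRingHom.toMonoidHom.comp lin).comp φ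
  have hlin : Function.Injective lin := fun a a' h => MulEquiv.ext fun x =>
    congrArg Additive.toMul (LinearMap.congr_fun h (Additive.ofMul x))
  have hf : Function.Injective f :=
    ((LinearMap.toMatrixAlgEquiv b).injective.comp hlin).comp hfaith
  have hcomm := BGRankTwo.mat_commute hp _ C rfl hodd hcop f hf
  letI : CommGroup C := { (inferInstance : Group C) with mul_comm := fun a c => (hcomm a c).eq }
  obtain ⟨g, hg⟩ := Monoid.exists_orderOf_eq_exponent (G := C) Monoid.ExponentExists.of_finite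
  have hgo : orderOf g = Nat.card C := hg.trans hexp
  have hs : ∀ c : C, (∃ d : ZMod p, f c = d • 1) → c = 1 := by
    rintro c ⟨d, hd⟩
    refine hscal c ⟨d.val, fun v => ?_⟩
    have h : lin (φ c) = d • 1 := (LinearMap.toMatrixAlgEquiv b).injective (by
      rw [map_smul, map_one]; exact hd)
    have h' := LinearMap.congr_fun h (Additive.ofMul v)
    rw [LinearMap.smul_apply, Module.End.one_apply, ← ZMod.natCast_zmod_val d,
      Nat.cast_smul_eq_nsmul] at h'
    exact congrArg Additive.toMul h'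
  rcases pow_p_cases hp (f g) with h | ⟨d, h⟩ | ⟨d, h⟩
  · left
    rw [← map_pow] at h
    have h1 : g ^ (p - 1) = 1 := by
      have e : g ^ (p - 1) * g = 1 * g := by
        rw [← pow_succ, Nat.sub_add_cancel (Fact.out : p.Prime).one_le, one_mul]
        exact hf h
      exact mul_right_cancel e
    rw [← hgo]
    exact orderOf_dvd_of_pow_eq_one h1
  · right
    rw [← map_pow] at h
    rw [← hgo]
    exact orderOf_dvd_of_pow_eq_one (hs _ ⟨d, h⟩)
  · left
    rw [← map_pow] at h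
    have h1 := orderOf_dvd_of_pow_eq_one (hs _ ⟨d, h⟩)
    rw [hgo] at h1
    rw [Nat.eq_one_of_dvd_coprimes hcop dvd_rfl h1]
    exact one_dvd _

end

/-! ### The pair of maximal subgroups -/

/-- The two maximal subgroups, the elementary abelian group and the escaping element. -/
structure Pair (M L A : Subgroup G) (p : ℕ) (x k : G) : Prop extends PF12Main.Config M L p x k where
  pτ : p ∈ tau2 M
  AM : A ≤ M
  AL : A ≤ L
  AS : A ≤ sigmaCore L
  hA : IsElementaryAbelian p A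
  hAc : Nat.card A = p ^ 2
  xA : x ∈ A
  esc : ¬ Subgroup.centralizer ({x} : Set G) ≤ L
  LM : L ≠ M
  compl : IsComplIn (M ⊓ L) (sigmaCore M) M
  hu : 3 * (fittingHallOf M).relIndex M ≤ Nat.card L

namespace Pair

variable {M L A : Subgroup G} {p : ℕ} {x k : G}

theorem x_ne (P : Pair M L A p x k) : x ≠ 1 := fun e =>
  P.hp.ne_one (by rw [← P.x_order, e, orderOf_one])

theorem AE (P : Pair M L A p x k) : A ≤ M ⊓ L := le_inf P.AM P.AL

theorem relIndex_eq (P : Pair M L A p x k) : (fittingHallOf M).relIndex M = Nat.card ↥(M ⊓ L) := by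
  rw [P.hMF]
  exact (relIndex_of_isComplIn P.compl).2

theorem structure18 (P : Pair M L A p x k) :
    M ⊓ L ≤ Subgroup.normalizer (A : Set G) ∧
      (∀ X : Subgroup G, X ≤ M ⊓ L → Nat.card X = p → X ≤ A) ∧
      Subgroup.centralizer (A : Set G) ≤ M ⊓ L := by
  haveI := Fact.mk P.hp
  obtain ⟨⟨hn, hall⟩, ⟨hC, hN, -⟩, -⟩ :=
    S1418.result P.hG M P.hM (M ⊓ L) P.compl p P.pτ A ⟨P.AE, P.hA, P.hAc⟩
  exact ⟨hn, hall, hN ▸ hC⟩

/-- For a prime `q ≠ p` dividing `|M ⊓ L|` an element of order `q` commutes with one of order `p` in `A`. -/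
theorem exists_commuting (P : Pair M L A p x k) {q : ℕ} (hq : q.Prime) (hqp : q ≠ p)
    (hd : q ∣ Nat.card ↥(M ⊓ L)) :
    ∃ u ∈ A, ∃ z ∈ M ⊓ L, orderOf u = p ∧ orderOf z = q ∧ z * u = u * z := by
  haveI := Fact.mk P.hp
  haveI := Fact.mk hq
  have hcompl : IsComplIn (fittingHallOf M) (M ⊓ L) M := by
    rw [P.hMF]; exact isComplIn_swap P.compl
  obtain ⟨hnA, hall, -⟩ := P.structure18
  obtain ⟨E₀, hE₀, hfree, hdiv⟩ := exists_free P.hG P.hM P.hκ hcompl
  obtain ⟨u₀, hu₀⟩ := exists_prime_orderOf_dvd_card' (G := E₀) p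
    (hdiv p P.hp (P.x_order ▸ Subgroup.orderOf_dvd_natCard _ (P.AE P.xA)))
  obtain ⟨z₀, hz₀⟩ := exists_prime_orderOf_dvd_card' (G := E₀) q (hdiv q hq hd)
  have hu₀o : orderOf (u₀ : G) = p := by rw [Subgroup.orderOf_coe, hu₀]
  have hz₀o : orderOf (z₀ : G) = q := by rw [Subgroup.orderOf_coe, hz₀]
  have hu₀A : (u₀ : G) ∈ A :=
    hall (Subgroup.zpowers (u₀ : G)) (Subgroup.zpowers_le.2 (hE₀ u₀.2)) (by rw [Nat.card_zpowers, hu₀o])
      (Subgroup.mem_zpowers _)
  refine ⟨u₀, hu₀A, z₀, hE₀ z₀.2, hu₀o, hz₀o, ?_⟩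
  have hxE₀ : x ∉ E₀ := fun h => P.kD (by
    rw [hfree x h P.x_ne k P.kK P.xk.eq]; exact Subgroup.one_mem _)
  have hinf : E₀ ⊓ A = Subgroup.zpowers (u₀ : G) := by
    refine (Subgroup.eq_of_le_of_card_ge (Subgroup.zpowers_le.2 (show (u₀ : G) ∈ E₀ ⊓ A from ⟨u₀.2, hu₀A⟩)) ?_).symm
    rw [Nat.card_zpowers, hu₀o]
    obtain ⟨j, hj, hjc⟩ := (Nat.dvd_prime_pow P.hp).1
      (P.hAc ▸ Subgroup.card_dvd_of_le (inf_le_right : E₀ ⊓ A ≤ A))
    rcases Nat.lt_or_ge j 2 with h | h
    · rw [hjc]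
      calc p ^ j ≤ p ^ 1 := Nat.pow_le_pow_right P.hp.pos (by omega)
        _ = p := pow_one p
    · exfalso
      have hall' : E₀ ⊓ A = A := Subgroup.eq_of_le_of_card_ge inf_le_right
        (by rw [hjc, P.hAc]; exact Nat.pow_le_pow_right P.hp.pos h)
      exact hxE₀ (hall'.ge P.xA).1
  have hnorm : Subgroup.zpowers (z₀ : G) ≤
      Subgroup.normalizer ((Subgroup.zpowers (u₀ : G) : Subgroup G) : Set G) := by
    rw [Subgroup.zpowers_le, ← hinf, Subgroup.mem_normalizer_iff]
    intro a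
    have hzA := Subgroup.mem_normalizer_iff.1 (hnA (hE₀ z₀.2)) a
    simp only [Subgroup.mem_inf]
    refine and_congr ⟨fun h => E₀.mul_mem (E₀.mul_mem z₀.2 h) (E₀.inv_mem z₀.2), fun h => ?_⟩ hzA
    simpa [mul_assoc] using E₀.mul_mem (E₀.mul_mem (E₀.inv_mem z₀.2) h) z₀.2
  set J := Subgroup.zpowers (u₀ : G) ⊔ Subgroup.zpowers (z₀ : G) with hJ
  have hJc : Nat.card J = p * q := by
    have hcop' : (Nat.card (Subgroup.zpowers (u₀ : G))).Coprime (Nat.card (Subgroup.zpowers (z₀ : G))) := by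
      rw [Nat.card_zpowers, Nat.card_zpowers, hu₀o, hz₀o]
      exact (Nat.coprime_primes P.hp hq).2 (Ne.symm hqp)
    rw [← card_mul_of_isComplIn (A := Subgroup.zpowers (u₀ : G)) (B := Subgroup.zpowers (z₀ : G)) (M := J)
      ⟨le_sup_left, le_sup_right, Subgroup.inf_eq_bot_of_coprime hcop', fun m hm => by
        rw [← SetLike.mem_coe, hJ, Subgroup.coe_mul_of_right_le_normalizer_left _ _ hnorm] at hm
        obtain ⟨a, ha, c, hc, hac⟩ := Set.mem_mul.mp hm
        exact ⟨a, ha, c, hc, hac.symm⟩⟩,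
      Nat.card_zpowers, Nat.card_zpowers, hu₀o, hz₀o]
  have hJE : J ≤ E₀ := sup_le (Subgroup.zpowers_le.2 u₀.2) (Subgroup.zpowers_le.2 z₀.2)
  obtain ⟨V, hVF, hV1, hVc, hVn⟩ := center_invariant (M := M)
  have hF1 : fittingHallOf M ≠ ⊥ := fun h => P.kD (by
    have := P.kK
    rw [h, Subgroup.mem_bot] at this
    rw [this]; exact Subgroup.one_mem _)
  haveI hcyc : IsCyclic J := FrobeniusFPF.isCyclic_of_fpf J V hVc (hV1 hF1)
    ((hJE.trans (hE₀.trans inf_le_left)).trans hVn)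
    (fun a ha ha1 => by
      rw [Subgroup.eq_bot_iff_forall]
      rintro v ⟨hv, hvc⟩
      exact hfree a (hJE ha) ha1 v (hVF hv) (Subgroup.mem_centralizer_singleton_iff.1 hvc).symm)
    (Or.inr ⟨p, q, P.hp, hq, hJc⟩)
  exact congrArg Subtype.val (IsCyclic.commGroup.mul_comm
    (⟨z₀, Subgroup.mem_sup_right (Subgroup.mem_zpowers _)⟩ : J)
    ⟨u₀, Subgroup.mem_sup_left (Subgroup.mem_zpowers _)⟩)

end Pair

/-- The index of the derived subgroup of `M_F` is at least five. -/
theorem derived_small (hG : IsMinSimpleOddOrder G) {M : Subgroup G} (hM : IsCoatom M) (hκ : kappa M = ∅)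
    {p : ℕ} (hp : p.Prime) (hpodd : Odd p) (hpF : ¬ p ∣ Nat.card (fittingHallOf M))
    {E : Subgroup G} (hcE : IsComplIn (fittingHallOf M) E M) {x k : G} (hxE : x ∈ E) (hxo : orderOf x = p)
    (hkF : k ∈ fittingHallOf M) (hkD : k ∉ ⁅fittingHallOf M, fittingHallOf M⁆) :
    5 * Nat.card ↥⁅fittingHallOf M, fittingHallOf M⁆ ≤ Nat.card (fittingHallOf M) := by
  haveI := Fact.mk hp
  set F := fittingHallOf M with hFdef
  have hodd : Odd (Nat.card G) := hG.1
  have hmul := HallCore.card_mul_relIndex (Subgroup.commutator_le_self F)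
  set j := (⁅F, F⁆).relIndex F with hjdef
  have hj1 : j ≠ 1 := fun h => hkD (Subgroup.relIndex_eq_one.1 h hkF)
  obtain ⟨a, ha⟩ : Odd j := hodd.of_dvd_nat
    ((Dvd.intro_left _ hmul).trans (Subgroup.card_subgroup_dvd_card F))
  by_cases hj3 : j = 3
  swap
  · rw [← hmul, mul_comm 5]
    exact Nat.mul_le_mul_left _ (by omega)
  exfalso
  obtain ⟨E₀, hE₀, hfree, hdiv⟩ := exists_free hG hM hκ hcE
  obtain ⟨u₀, hu₀⟩ := exists_prime_orderOf_dvd_card' (G := E₀) p
    (hdiv p hp (hxo ▸ Subgroup.orderOf_dvd_natCard _ hxE))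
  have hu₀M : (u₀ : G) ∈ M := hcE.2.1 (hE₀ u₀.2)
  have hu₀1 : (u₀ : G) ≠ 1 := fun h => hp.ne_one (by rw [← hu₀, ← Subgroup.orderOf_coe, h, orderOf_one])
  have hDM : (u₀ : G) ∈ Subgroup.normalizer ((⁅F, F⁆ : Subgroup G) : Set G) := by
    have hs : ∀ m ∈ M, MulAut.conj m • F = F := fun m hm => by
      ext y
      rw [mem_conj_smul]
      exact ⟨fun h => by simpa [mul_assoc] using BGTypeSetup.conj_mem_fittingHallOf hm h,
        fun h => by simpa using BGTypeSetup.conj_mem_fittingHallOf (M.inv_mem hm) h⟩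
    have : MulAut.conj (u₀ : G) • (⁅F, F⁆ : Subgroup G) = ⁅F, F⁆ := by
      rw [conj_smul_eq_map, Subgroup.map_commutator, ← conj_smul_eq_map, hs _ hu₀M]
    rw [Subgroup.mem_normalizer_iff]
    intro y
    conv_rhs => rw [← this, mem_conj_smul]
    simp [mul_assoc]
  set D' := (⁅F, F⁆ : Subgroup G).subgroupOf F with hD'
  haveI : D'.Normal := Subgroup.normal_subgroupOf_of_le_normalizer
    (Subgroup.normalizer_commutator_ge_left F F)
  have hcardQ : Nat.card (↥F ⧸ D') = 3 := hj3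
  have hu₀F : ∀ y ∈ F, (u₀ : G) * y * (u₀ : G)⁻¹ ∈ F := fun y hy =>
    BGTypeSetup.conj_mem_fittingHallOf hu₀M hy
  let τ : ↥F →* ↥F :=
    { toFun := fun y => ⟨_, hu₀F y y.2⟩
      map_one' := Subtype.ext (by simp)
      map_mul' := fun a b => Subtype.ext (by simp [mul_assoc]) }
  let σ : (↥F ⧸ D') →* (↥F ⧸ D') := QuotientGroup.map D' D' τ (fun y hy =>
    (Subgroup.mem_normalizer_iff.1 hDM (y : G)).1 hy)
  have hk' : (QuotientGroup.mk' D' ⟨k, hkF⟩) ≠ 1 := fun h =>
    hkD ((QuotientGroup.eq_one_iff (N := D') (⟨k, hkF⟩ : ↥F)).1 h)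
  set κ := QuotientGroup.mk' D' ⟨k, hkF⟩ with hκ
  have hfix : σ κ = κ := by
    have hzp := fun z : ↥F ⧸ D' => mem_zpowers_of_prime_card hcardQ hk' (g' := z)
    obtain ⟨i, hi⟩ := Subgroup.mem_zpowers_iff.1 (hzp (σ κ))
    have hiter : ∀ m : ℕ, (σ ^[m]) κ = κ ^ (i ^ m) := by
      intro m
      induction m with
      | zero => simp
      | succ m ih => rw [Function.iterate_succ_apply', ih, map_zpow, ← hi, ← zpow_mul, pow_succ]; ring_nf
    have hτ : ∀ (m : ℕ) (y : ↥F), ((τ^[m] y : ↥F) : G) = (u₀ : G) ^ m * y * ((u₀ : G) ^ m)⁻¹ := by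
      intro m
      induction m with
      | zero => intro y; simp
      | succ m ih =>
        intro y
        rw [Function.iterate_succ_apply']
        show (u₀ : G) * ((τ^[m] y : ↥F) : G) * (u₀ : G)⁻¹ = _
        rw [ih, pow_succ']
        group
    have hστ : ∀ (m : ℕ) (y : ↥F), (σ ^[m]) (QuotientGroup.mk' D' y) = QuotientGroup.mk' D' (τ^[m] y) := by
      intro m
      induction m with
      | zero => intro y; rfl
      | succ m ih => intro y; rw [Function.iterate_succ_apply', ih, Function.iterate_succ_apply']; rfl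
    have hend : (σ ^[p]) κ = κ := by
      rw [hκ, hστ]
      congr 1
      refine Subtype.ext ?_
      rw [hτ, ← hu₀, ← Subgroup.orderOf_coe, pow_orderOf_eq_one]
      simp
    rw [hiter] at hend
    have h3 : orderOf κ = 3 := by
      haveI : Fact (Nat.Prime 3) := ⟨Nat.prime_three⟩
      exact orderOf_eq_prime (hcardQ ▸ pow_card_eq_one') hk'
    have hd : (3 : ℤ) ∣ i ^ p - 1 := by
      have : κ ^ (i ^ p - 1) = 1 := by rw [zpow_sub, hend, zpow_one, mul_inv_cancel]
      exact_mod_cast (h3 ▸ orderOf_dvd_iff_zpow_eq_one.2 this : ((3 : ℕ) : ℤ) ∣ i ^ p - 1)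
    have hi3 : (3 : ℤ) ∣ i - 1 := by
      have hzi : ((i : ZMod 3)) ^ p = 1 := by
        have := (ZMod.intCast_zmod_eq_zero_iff_dvd (i ^ p - 1) 3).2 (by exact_mod_cast hd)
        push_cast at this
        exact sub_eq_zero.1 this
      obtain ⟨r, hr⟩ := hpodd
      have : ((i : ZMod 3)) = 1 := by
        haveI : Fact (Nat.Prime 3) := ⟨Nat.prime_three⟩
        have h0 : (i : ZMod 3) ≠ 0 := fun h => by
          rw [h, zero_pow hp.ne_zero] at hzi
          exact zero_ne_one hzi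
        have h2 : (i : ZMod 3) ^ 2 = 1 := ZMod.pow_card_sub_one_eq_one h0
        rwa [hr, pow_succ, pow_mul, h2, one_pow, one_mul] at hzi
      exact (ZMod.intCast_zmod_eq_zero_iff_dvd (i - 1) 3).1 (by push_cast; rw [this, sub_self])
    rw [← hi]
    have : κ ^ (i - 1) = 1 := orderOf_dvd_iff_zpow_eq_one.1 (by rw [h3]; exact_mod_cast hi3)
    rw [zpow_sub, zpow_one] at this
    exact mul_inv_eq_one.1 this
  have hD : k⁻¹ * (u₀ : G) * k * (u₀ : G)⁻¹ ∈ ⁅F, F⁆ := by
    have h := hfix.symm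
    rw [hκ] at h
    change ((⟨k, hkF⟩ : ↥F) : ↥F ⧸ D') = ((τ ⟨k, hkF⟩ : ↥F) : ↥F ⧸ D') at h
    rw [QuotientGroup.eq] at h
    have h' : k⁻¹ * ((u₀ : G) * k * (u₀ : G)⁻¹) ∈ ⁅F, F⁆ := h
    simpa [mul_assoc] using h'
  obtain ⟨c, hc, hck⟩ := CoprimeAction.exists_fixed_mem_coset_zpowers hDM
    (by
      rw [Subgroup.orderOf_coe, hu₀]
      exact ((Nat.Prime.coprime_iff_not_dvd hp).2 fun h =>
        hpF (h.trans (Subgroup.card_dvd_of_le (Subgroup.commutator_le_self F))))) k hD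
  have hcF : c ∈ F := by
    simpa using F.mul_mem hkF (Subgroup.commutator_le_self F hck)
  have hc1 := hfree u₀ u₀.2 hu₀1 c hcF hc
  exact hkD (inv_mem_iff.1 (by simpa [hc1] using hck))

end Cfsg.Agent.PF12Base
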