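import Mathlib
import Cfsg.Agent.Lib.CharBasicDecomp
import Cfsg.Agent.Lib.CharInducedClifford

/-!
The Clifford correspondence.
-/

set_option autoImplicit false

open scoped ComplexConjugate

namespace Cfsg.Agent.CharCliffordCorr

open Cfsg Cfsg.Agent.CharBasic Cfsg.Agent.CharBasicOrth Cfsg.Agent.CharBasicDecomp
  Cfsg.Agent.CharInduced

universe u

variable {G : Type u} [Group G] [Fintype G]

/-- A character with an irreducible constituent of at least its degree equals that constituent. -/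
theorem eq_of_constituent {θ χ : G → ℂ} (hθ : IsCharacter G θ) (hχ : IsIrrCharacter G χ)
    (hc : classInner θ χ ≠ 0) (hdeg : (θ 1).re ≤ (χ 1).re) : θ = χ := by
  classical
  obtain ⟨m, hm, hsum⟩ := exists_mult hθ
  let x : IrrCharacter G := ⟨χ, hχ⟩
  have hmx : 1 ≤ m x := by
    rw [Nat.one_le_iff_ne_zero]
    intro h
    exact hc (by rw [show χ = (x : G → ℂ) from rfl, hm x, h, Nat.cast_zero])
  choose dg hdg0 hdg using fun ψ : IrrCharacter G => isIrrCharacter_apply_one ψ.2
  have h1 : θ 1 = ((∑ ψ, m ψ * dg ψ : ℕ) : ℂ) := by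
    rw [hsum]; simp [hdg]
  have hx1 : χ 1 = (dg x : ℂ) := hdg x
  rw [h1, hx1, Complex.natCast_re, Complex.natCast_re, Nat.cast_le] at hdeg
  rw [← Finset.add_sum_erase _ _ (Finset.mem_univ x)] at hdeg
  have hle : dg x ≤ m x * dg x := Nat.le_mul_of_pos_left _ hmx
  have hz : ∀ ψ ∈ Finset.univ.erase x, m ψ = 0 := by
    intro ψ hψ
    have := Finset.single_le_sum (f := fun ψ => m ψ * dg ψ) (fun _ _ => Nat.zero_le _) hψ
    have h0 : m ψ * dg ψ = 0 := by omega
    exact (Nat.mul_eq_zero.1 h0).resolve_right (hdg0 ψ).ne'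
  have hone : m x = 1 := by
    by_contra hne
    have h2 : 2 * dg x ≤ m x * dg x := Nat.mul_le_mul_right _ (by omega)
    have := hdg0 x
    omega
  rw [hsum, ← Finset.add_sum_erase _ _ (Finset.mem_univ x), hone, Finset.sum_eq_zero
    (fun ψ hψ => by rw [hz ψ hψ, Nat.cast_zero, zero_smul]), add_zero, Nat.cast_one, one_smul]

variable (N : Subgroup G) [hN : N.Normal] [Fintype N]

/-- Degree of an irreducible character in terms of a constituent of its restriction. -/
theorem apply_one_eq {χ : G → ℂ} (hχ : IsIrrCharacter G χ) {θ : N → ℂ} (hθ : IsIrrCharacter N θ)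
    (h : classInner (fun n : N => χ n) θ ≠ 0) :
    χ 1 = classInner (fun n : N => χ n) θ * ((inertia N θ).index : ℂ) * θ 1 := by
  have hc := clifford N hχ hθ h
  have h1 := congrFun hc 1
  simp only [Pi.smul_apply, Finset.sum_apply, smul_eq_mul, OneMemClass.coe_one] at h1
  have hco : (orbitFin N θ).card = (inertia N θ).index := by
    have e := card_inertia_mul_card_orbit N θ
    rw [← (inertia N θ).card_mul_index] at e
    exact Nat.eq_of_mul_eq_mul_left Nat.card_pos e
  rw [Finset.sum_congr rfl (g := fun _ => θ 1) (fun ψ hψ => by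
    obtain ⟨g, rfl⟩ := (mem_orbitFin N).1 hψ
    exact congrArg θ (Subtype.ext (by simp))), Finset.sum_const, hco, nsmul_eq_mul] at h1
  rw [h1, mul_assoc]

/-- The Clifford correspondence. -/
theorem clifford_correspondence {χ : G → ℂ} (hχ : IsIrrCharacter G χ) {θ : N → ℂ}
    (hθ : IsIrrCharacter N θ) (h : classInner (fun n : N => χ n) θ ≠ 0)
    (T : Subgroup G) [Fintype T] (hT : T = inertia N θ) (hNT : N ≤ T) :
    ∃ ψ : T → ℂ, IsIrrCharacter T ψ ∧ indFun T ψ = χ ∧
      (fun n : N => ψ ⟨(n : G), hNT n.2⟩) = classInner (fun n : N => χ n) θ • θ := by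
  classical
  have hχc := isCharacter_of_isIrrCharacter hχ
  have hθc := isCharacter_of_isIrrCharacter hθ
  -- choose a constituent of `χ|T` lying over `θ`
  obtain ⟨m, hm, hsum⟩ := exists_mult (isCharacter_res T hχc)
  have hres : ∀ ψ : IrrCharacter T, IsCharacter N (fun n : N => (ψ : T → ℂ) ⟨(n : G), hNT n.2⟩) :=
    fun ψ => isCharacter_comap (Subgroup.inclusion hNT) (isCharacter_of_isIrrCharacter ψ.2)
  choose b hb using fun ψ : IrrCharacter T => classInner_isCharacter (hres ψ) hθc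
  have hN1 : (fun n : N => χ n) =
      ∑ ψ : IrrCharacter T, (m ψ : ℂ) • (fun n : N => (ψ : T → ℂ) ⟨(n : G), hNT n.2⟩) := by
    funext n
    simpa using congrFun hsum ⟨(n : G), hNT n.2⟩
  obtain ⟨a, ha⟩ := classInner_isCharacter (isCharacter_res N hχc) hθc
  have hab : a = ∑ ψ, m ψ * b ψ := by
    have e : classInner (fun n : N => χ n) θ = ((∑ ψ, m ψ * b ψ : ℕ) : ℂ) := by
      rw [hN1, CharBasicOrth.classInner_sum_left]
      simp only [CharBasicOrth.classInner_smul_left, hb]
      push_cast; rfl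
    rw [ha] at e
    exact_mod_cast e
  have ha0 : a ≠ 0 := fun e => h (by rw [ha, e, Nat.cast_zero])
  obtain ⟨ψ, -, hψ⟩ := Finset.exists_ne_zero_of_sum_ne_zero (hab ▸ ha0)
  have hmψ : m ψ ≠ 0 := left_ne_zero_of_mul hψ
  have hbψ : b ψ ≠ 0 := right_ne_zero_of_mul hψ
  have hble : b ψ ≤ a := by
    calc b ψ ≤ m ψ * b ψ := Nat.le_mul_of_pos_left _ (Nat.pos_of_ne_zero hmψ)
      _ ≤ a := hab ▸ Finset.single_le_sum (f := fun ψ => m ψ * b ψ)
            (fun _ _ => Nat.zero_le _) (Finset.mem_univ ψ)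
  -- restriction of `ψ` to `N` is `b • θ`
  let e : N.subgroupOf T ≃* N := Subgroup.subgroupOfEquivOfLe hNT
  have hθ' : IsIrrCharacter (N.subgroupOf T) (θ ∘ e.toMonoidHom) :=
    isIrrCharacter_comap e.toMonoidHom e.surjective hθ
  have hne : classInner (fun x : N.subgroupOf T => (ψ : T → ℂ) x) (θ ∘ e.toMonoidHom) = b ψ := by
    rw [← hb ψ, ← classInner_congr_equiv e]
    rfl
  have horb : orbitFin (N.subgroupOf T) (θ ∘ e.toMonoidHom) = {θ ∘ e.toMonoidHom} := by
    rw [Finset.eq_singleton_iff_unique_mem]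
    refine ⟨self_mem_orbitFin _ _, fun φ hφ => ?_⟩
    obtain ⟨t, rfl⟩ := (mem_orbitFin _).1 hφ
    funext x
    exact (mem_inertia_iff N).1 (show (t : G) ∈ inertia N θ from hT ▸ t.2) (e x)
  have hψN : (fun n : N => (ψ : T → ℂ) ⟨(n : G), hNT n.2⟩) = (b ψ : ℂ) • θ := by
    have hc := clifford (N.subgroupOf T) ψ.2 hθ' (by rw [hne]; exact_mod_cast hbψ)
    rw [hne, horb, Finset.sum_singleton] at hc
    funext n
    have h := congrFun hc (e.symm n)
    simp only [Pi.smul_apply, Function.comp_apply, MulEquiv.coe_toMonoidHom, MulEquiv.apply_symm_apply] at h ⊢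
    exact h
  -- compare degrees
  have hind := isCharacter_ind T (isCharacter_of_isIrrCharacter ψ.2)
  have hcon : classInner (indFun T (ψ : T → ℂ)) χ ≠ 0 := by
    rw [inner_ind_left T _ (isClassFunction_irr hχ),
      classInner_comm_of_isCharacter (isCharacter_of_isIrrCharacter ψ.2) (isCharacter_res T hχc), hm]
    exact_mod_cast hmψ
  obtain ⟨d, hd0, hd⟩ := isIrrCharacter_apply_one hθ
  have hψ1 : (ψ : T → ℂ) 1 = ((b ψ * d : ℕ) : ℂ) := by
    have h1 := congrFun hψN 1
    simp only [Pi.smul_apply, smul_eq_mul, hd] at h1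
    push_cast
    exact h1
  have hχ1 : χ 1 = ((a * T.index * d : ℕ) : ℂ) := by
    rw [apply_one_eq N hχ hθ h, ha, hd, hT]; push_cast; rfl
  have heq : indFun T (ψ : T → ℂ) = χ := by
    refine eq_of_constituent hind hχ hcon ?_
    rw [ind_one_apply, hψ1, hχ1, ← Nat.cast_mul, Complex.natCast_re, Complex.natCast_re,
      Nat.cast_le, mul_comm a, mul_assoc]
    exact Nat.mul_le_mul_left _ (Nat.mul_le_mul_right _ hble)
  refine ⟨ψ, ψ.2, heq, ?_⟩
  have hba : b ψ = a := by
    have h1 := congrFun heq 1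
    rw [ind_one_apply, hψ1, hχ1, ← Nat.cast_mul, Nat.cast_inj, mul_comm a, mul_assoc] at h1
    exact Nat.eq_of_mul_eq_mul_right hd0
      (Nat.eq_of_mul_eq_mul_left (Nat.pos_of_ne_zero T.index_ne_zero_of_finite) h1)
  rw [hψN, hba, ha]

end Cfsg.Agent.CharCliffordCorr
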