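import Mathlib

/-!
Abstract extension theory for an invariant "Schur" homomorphism of a normal subgroup into a group
with a central subgroup: intertwiner sections, the factor set, and criteria for extending.
-/

set_option autoImplicit false

namespace Cfsg.Agent.CharExtension

variable {G U A : Type*} [Group G] [Group U] [CommGroup A] {N : Subgroup G}

/-- the data: a central injective `sc` and a hom `ρ` whose centralizer is the image of `sc`. -/
structure SchurData (sc : A →* U) (ρ : N →* U) : Prop where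
  inj : Function.Injective sc
  central : ∀ a u, Commute (sc a) u
  schur : ∀ u : U, (∀ n, Commute u (ρ n)) → ∃ a, u = sc a

variable [hN : N.Normal]

/-- `g` conjugated element of `N`. -/
def cn (g : G) (n : N) : N := ⟨g * n * g⁻¹, hN.conj_mem (n : G) n.2 g⟩

@[simp] lemma cn_val (g : G) (n : N) : ((cn g n : N) : G) = g * n * g⁻¹ := rfl
@[simp] lemma cn_one (n : N) : cn 1 n = n := Subtype.ext (by simp)
lemma cn_mul (g h : G) (n : N) : cn (g * h) n = cn g (cn h n) := Subtype.ext (by simp [mul_assoc])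
lemma cn_self (m n : N) : cn (m : G) n = m * n * m⁻¹ := Subtype.ext rfl

/-- `u` implements conjugation by `g` on `ρ`. -/
def Impl (ρ : N →* U) (u : U) (g : G) : Prop := ∀ n, u * ρ n * u⁻¹ = ρ (cn g n)

namespace Impl

variable {ρ : N →* U} {u v : U} {g h : G}

lemma one : Impl ρ (1 : U) (1 : G) := fun n => by simp

lemma rho (m : N) : Impl ρ (ρ m) (m : G) := fun n => by simp [cn_self]

lemma mul (hu : Impl ρ u g) (hv : Impl ρ v h) : Impl ρ (u * v) (g * h) := fun n => by
  rw [cn_mul, ← hu, ← hv]; simp [mul_assoc]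

lemma inv (hu : Impl ρ u g) : Impl ρ u⁻¹ g⁻¹ := fun n => by
  have h := hu (cn g⁻¹ n)
  rw [← cn_mul, mul_inv_cancel, cn_one] at h
  rw [← h]
  simp [mul_assoc]

lemma pow (hu : Impl ρ u g) (k : ℕ) : Impl ρ (u ^ k) (g ^ k) := by
  induction k with
  | zero => simpa using Impl.one
  | succ k ih => simpa [pow_succ] using ih.mul hu

lemma zpow (hu : Impl ρ u g) (k : ℤ) : Impl ρ (u ^ k) (g ^ k) := by
  cases k with
  | ofNat k => simpa using hu.pow k
  | negSucc k => simpa [zpow_negSucc] using (hu.pow (k + 1)).inv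

lemma commute_rho (hu : Impl ρ u g) (n : N) : u * ρ n = ρ (cn g n) * u := by
  rw [← hu n]; simp [mul_assoc]

end Impl

variable {sc : A →* U} {ρ : N →* U}

lemma SchurData.impl_mul_sc (S : SchurData sc ρ) {u : U} {g : G} (hu : Impl ρ u g) (a : A) :
    Impl ρ (u * sc a) g := fun n => by
  rw [← hu n, mul_inv_rev, mul_assoc u, (S.central a (ρ n)).eq]
  simp [mul_assoc]

lemma SchurData.exists_eq_mul (S : SchurData sc ρ) {u v : U} {g : G} (hu : Impl ρ u g)
    (hv : Impl ρ v g) : ∃ a, u = v * sc a := by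
  obtain ⟨a, ha⟩ := S.schur (v⁻¹ * u) (fun n => by
    have h := hv.inv.mul hu n
    rw [inv_mul_cancel, cn_one] at h
    rw [commute_iff_eq]
    nth_rewrite 2 [← h]
    simp [mul_assoc])
  exact ⟨a, by rw [← ha]; simp⟩

lemma SchurData.comm_left (S : SchurData sc ρ) (u w : U) (a : A) :
    u * sc a * w = u * w * sc a := by
  rw [mul_assoc, (S.central a w).eq, ← mul_assoc]

lemma SchurData.mul_sc_inj (S : SchurData sc ρ) {u : U} {a b : A} (h : u * sc a = u * sc b) :
    a = b := S.inj (mul_left_cancel h)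

/-- A section: extends `ρ`, is `N`-equivariant on the right, and implements conjugation. -/
structure IsSection (ρ : N →* U) (T : G → U) : Prop where
  right : ∀ (g : G) (n : N), T (g * n) = T g * ρ n
  onN : ∀ n : N, T (n : G) = ρ n
  impl : ∀ g, Impl ρ (T g) g

lemma IsSection.one {T : G → U} (hT : IsSection ρ T) : T 1 = 1 := by
  simpa using hT.onN 1

lemma exists_section (hinv : ∀ g, ∃ u, Impl ρ u g) : ∃ T : G → U, IsSection ρ T := by
  classical
  choose T₁ hT₁ using hinv
  let r : G → G := fun g => (Quotient.out (QuotientGroup.mk g : G ⧸ N))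
  have hr : ∀ g, (r g)⁻¹ * g ∈ N := fun g => QuotientGroup.eq.1 (QuotientGroup.out_eq' _)
  refine ⟨fun g => if h : g ∈ N then ρ ⟨g, h⟩ else T₁ (r g) * ρ ⟨(r g)⁻¹ * g, hr g⟩, ?_, ?_, ?_⟩
  · intro g n
    by_cases h : g ∈ N
    · have h' : g * n ∈ N := N.mul_mem h n.2
      simp only [dif_pos h, dif_pos h', ← map_mul]
      rfl
    · have h' : g * (n : G) ∉ N := fun hh => h ((N.mul_mem_cancel_right n.2).1 hh)
      have hrr : r (g * n) = r g := by
        simp only [r, QuotientGroup.mk_mul_of_mem g n.2]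
      simp only [dif_neg h, dif_neg h', mul_assoc, ← map_mul]
      congr 1
      · rw [hrr]
      · congr 1
        exact Subtype.ext (by simp [hrr, mul_assoc])
  · intro n
    simp
  · intro g
    by_cases h : g ∈ N
    · simpa only [dif_pos h] using Impl.rho (ρ := ρ) ⟨g, h⟩
    · simp only [dif_neg h]
      simpa using (hT₁ (r g)).mul (Impl.rho ⟨(r g)⁻¹ * g, hr g⟩)

/-- The exponents `m` for which the factor set of `T` to the power `m` is a coboundary. -/
def cobound (S : SchurData sc ρ) (T : G → U) : AddSubgroup ℤ where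
  carrier := {m | ∃ f : G → A, (∀ n : N, f n = 1) ∧
    ∀ g h a, T g * T h = T (g * h) * sc a → a ^ m * f g * f h = f (g * h)}
  zero_mem' := ⟨fun _ => 1, fun _ => rfl, fun _ _ _ _ => by simp⟩
  add_mem' := by
    rintro m k ⟨f, hf1, hf⟩ ⟨e, he1, he⟩
    refine ⟨fun g => f g * e g, fun n => by simp [hf1, he1], fun g h a ha => ?_⟩
    simp only [← hf g h a ha, ← he g h a ha, zpow_add]
    ac_rfl
  neg_mem' := by
    rintro m ⟨f, hf1, hf⟩
    refine ⟨fun g => (f g)⁻¹, fun n => by simp [hf1], fun g h a ha => ?_⟩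
    simp only [← hf g h a ha, mul_inv_rev, zpow_neg]
    ac_rfl

lemma exists_hom_of_one_mem (S : SchurData sc ρ) {T : G → U} (hT : IsSection ρ T)
    (h : (1 : ℤ) ∈ cobound S T) : ∃ η : G →* U, ∀ n : N, η n = ρ n := by
  obtain ⟨f, hf1, hf⟩ := h
  refine ⟨MonoidHom.mk' (fun g => T g * sc (f g)) (fun g h => ?_), fun n => ?_⟩
  · obtain ⟨a, ha⟩ := S.exists_eq_mul ((hT.impl g).mul (hT.impl h)) (hT.impl (g * h))
    have hfa := hf g h a ha
    rw [zpow_one] at hfa
    symm
    calc T g * sc (f g) * (T h * sc (f h))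
        = T g * T h * (sc (f g) * sc (f h)) := by
          simp only [← mul_assoc, S.comm_left (T g) (T h) (f g)]
      _ = T (g * h) * sc (f (g * h)) := by
          rw [ha, mul_assoc, ← map_mul, ← map_mul, ← hfa, mul_assoc]
  · simp [hT.onN, hf1]

/-- If `ρ` extends to a finite-index subgroup `P ⊇ N`, the factor set to the power `[G:P]` is a
coboundary. -/
lemma index_mem_cobound (S : SchurData sc ρ) {T : G → U} (hT : IsSection ρ T) (P : Subgroup G)
    [P.FiniteIndex] (hNP : N ≤ P) (η : P →* U) (hη : ∀ n : N, η ⟨(n : G), hNP n.2⟩ = ρ n) :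
    (P.index : ℤ) ∈ cobound S T := by
  classical
  letI : Fintype (G ⧸ P) := P.fintypeQuotientOfFiniteIndex
  let s : G ⧸ P → G := Quotient.out
  have hs : ∀ (g : G) (x : G ⧸ P), (s (g • x))⁻¹ * g * s x ∈ P := by
    intro g x
    rw [mul_assoc]
    refine QuotientGroup.eq.1 ?_
    rw [QuotientGroup.out_eq']
    conv_lhs => rw [← QuotientGroup.out_eq' x]
    rfl
  let p : G → G ⧸ P → P := fun g x => ⟨(s (g • x))⁻¹ * g * s x, hs g x⟩
  have himpl : ∀ q : P, Impl ρ (η q) (q : G) := by
    intro q n
    rw [← hη, ← hη, ← map_inv, ← map_mul, ← map_mul]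
    rfl
  have key : ∀ (g : G) (x : G ⧸ P), ∃ a,
      T g * T (s x) = T (s (g • x)) * η (p g x) * sc a := by
    intro g x
    refine S.exists_eq_mul ((hT.impl g).mul (hT.impl (s x))) ?_
    have h := (hT.impl (s (g • x))).mul (himpl (p g x))
    simpa [p, mul_assoc] using h
  choose c hc using key
  have hassoc : ∀ g h a, T g * T h = T (g * h) * sc a →
      ∀ x, a * c (g * h) x = c g (h • x) * c h x := by
    intro g h a ha x
    have hp : p (g * h) x = p g (h • x) * p h x := by
      apply Subtype.ext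
      simp [p, mul_smul, mul_assoc]
    apply S.mul_sc_inj (u := T (s ((g * h) • x)) * η (p (g * h) x))
    calc T (s ((g * h) • x)) * η (p (g * h) x) * sc (a * c (g * h) x)
        = T g * T h * T (s x) := by
          rw [ha, S.comm_left (T (g * h)), hc, map_mul, (S.central a (sc _)).eq]
          simp [mul_assoc]
      _ = T g * (T (s (h • x)) * η (p h x) * sc (c h x)) := by rw [mul_assoc, hc]
      _ = T g * T (s (h • x)) * η (p h x) * sc (c h x) := by simp [mul_assoc]
      _ = T (s (g • h • x)) * η (p g (h • x)) * η (p h x) * sc (c g (h • x)) * sc (c h x) := by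
          rw [hc, S.comm_left _ (η (p h x))]
      _ = _ := by rw [hp, mul_smul, map_mul, map_mul]; simp [mul_assoc]
  refine ⟨fun g => (∏ x, c g x)⁻¹, fun n => ?_, fun g h a ha => ?_⟩
  · rw [inv_eq_one]
    refine Finset.prod_eq_one fun x _ => ?_
    have hx : (n : G) • x = x := by
      conv_lhs => rw [← QuotientGroup.out_eq' x]
      conv_rhs => rw [← QuotientGroup.out_eq' x]
      change (((n : G) * Quotient.out x : G) : G ⧸ P) = _
      symm
      refine QuotientGroup.eq.2 (hNP ?_)
      simpa [mul_assoc] using hN.conj_mem' (n : G) n.2 (Quotient.out x)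
    apply S.mul_sc_inj (u := T (s ((n : G) • x)) * η (p n x))
    rw [← hc, map_one, mul_one, hx, hT.onN]
    have e : s x = (s x) * (1 : G) := by simp
    have hm : (s x)⁻¹ * (n : G) * s x ∈ N := hN.conj_mem' (n : G) n.2 (s x)
    have hp : p n x = ⟨((⟨_, hm⟩ : N) : G), hNP hm⟩ := Subtype.ext (by simp [p, hx])
    rw [hp, hη, Impl.commute_rho (hT.impl _)]
    congr 1
    exact congrArg ρ (Subtype.ext (by simp [mul_assoc]))
  · have h1 : a ^ P.index * ∏ x, c (g * h) x = (∏ x, c g x) * ∏ x, c h x := by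
      have hcard : P.index = Fintype.card (G ⧸ P) := P.index_eq_card.trans Nat.card_eq_fintype_card
      rw [hcard, ← Finset.card_univ, ← Finset.prod_const, ← Finset.prod_mul_distrib,
        Finset.prod_congr rfl (fun x _ => hassoc g h a ha x), Finset.prod_mul_distrib]
      congr 1
      exact Fintype.prod_equiv (MulAction.toPerm h) _ _ (fun x => rfl)
    simp only [zpow_natCast, eq_mul_inv_of_mul_eq h1]
    rw [mul_assoc, ← mul_inv, mul_comm, inv_mul_cancel_left]

end Cfsg.Agent.CharExtension
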