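import Mathlib
import Cfsg.Agent.Lib.CharExtensionAux

/-!
Criteria for extending a Schur homomorphism of a normal subgroup: determinant, Sylow-wise,
cyclic quotient, and the linear (commutative) case.
-/

set_option autoImplicit false

namespace Cfsg.Agent.CharExtension

variable {G U A : Type*} [Group G] [Group U] [CommGroup A] {N : Subgroup G} [hN : N.Normal]
variable {sc : A →* U} {ρ : N →* U}

lemma one_mem_of_forall_prime (M : AddSubgroup ℤ)
    (h : ∀ p : ℕ, p.Prime → ∃ m ∈ M, ¬ (p : ℤ) ∣ m) : (1 : ℤ) ∈ M := by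
  obtain ⟨a, ha⟩ := Int.subgroup_cyclic M
  by_cases hu : a.natAbs = 1
  · rw [ha, AddSubgroup.mem_closure_singleton]
    rcases Int.natAbs_eq a with h1 | h1 <;> rw [hu] at h1
    · exact ⟨1, by simp [h1]⟩
    · exact ⟨-1, by simp [h1]⟩
  · obtain ⟨p, hp, hpa⟩ := Nat.exists_prime_and_dvd hu
    obtain ⟨m, hm, hpm⟩ := h p hp
    rw [ha, AddSubgroup.mem_closure_singleton] at hm
    obtain ⟨k, hk⟩ := hm
    exact absurd (by rw [← hk, smul_eq_mul]; exact (Int.natCast_dvd.2 hpa).mul_left k) hpm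

/-- Extension exists if it exists over subgroups of index prime to every prime. -/
theorem exists_ext_of_forall_prime [Finite G] (S : SchurData sc ρ) (hinv : ∀ g, ∃ u, Impl ρ u g)
    (h : ∀ p : ℕ, p.Prime → ∃ (P : Subgroup G) (hNP : N ≤ P) (η : P →* U),
      Nat.Coprime P.index p ∧ ∀ n : N, η ⟨(n : G), hNP n.2⟩ = ρ n) :
    ∃ η : G →* U, ∀ n : N, η n = ρ n := by
  obtain ⟨T, hT⟩ := exists_section hinv
  refine exists_hom_of_one_mem S hT (one_mem_of_forall_prime _ fun p hp => ?_)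
  obtain ⟨P, hNP, η, hcop, hη⟩ := h p hp
  refine ⟨_, index_mem_cobound S hT P hNP η hη, fun hd => ?_⟩
  exact (hp.coprime_iff_not_dvd.1 hcop.symm) (Int.natCast_dvd_natCast.1 hd)

/-- A hom to a commutative group which is trivial on `N` is killed by the index. -/
lemma pow_index_eq_one (β : G →* A) (hβ : ∀ n : N, β n = 1) (g : G) : β g ^ N.index = 1 := by
  rw [← map_pow]
  exact hβ ⟨_, N.pow_index_mem g⟩

lemma ext_impl {η : G →* U} (hη : ∀ n : N, η n = ρ n) (g : G) : Impl ρ (η g) g := fun n => by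
  rw [← hη, ← hη, ← map_inv, ← map_mul, ← map_mul]
  rfl

/-- Two extensions differ by a hom into `A` trivial on `N`. -/
theorem exists_twist (S : SchurData sc ρ) {η η' : G →* U} (hη : ∀ n : N, η n = ρ n)
    (hη' : ∀ n : N, η' n = ρ n) :
    ∃ γ : G →* A, (∀ n : N, γ n = 1) ∧ ∀ g, η' g = η g * sc (γ g) := by
  have key := fun g => S.exists_eq_mul (ext_impl hη' g) (ext_impl hη g)
  choose γ hγ using key
  refine ⟨MonoidHom.mk' γ (fun g h => ?_), fun n => ?_, hγ⟩
  · apply S.mul_sc_inj (u := η (g * h))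
    rw [← hγ, map_mul η', hγ, hγ, map_mul η, map_mul sc]
    simp only [← mul_assoc, S.comm_left (η g) (η h) (γ g)]
  · apply S.mul_sc_inj (u := η n)
    change η n * sc (γ n) = η n * sc 1
    rw [← hγ]
    simp [hη, hη']

/-- Multiply a hom by a central character. -/
def twist (S : SchurData sc ρ) (η : G →* U) (γ : G →* A) : G →* U :=
  MonoidHom.mk' (fun g => η g * sc (γ g)) (fun g h => by
    simp only [map_mul, ← mul_assoc, S.comm_left (η g) (η h) (γ g)])

@[simp] lemma twist_apply (S : SchurData sc ρ) (η : G →* U) (γ : G →* A) (g : G) :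
    twist S η γ g = η g * sc (γ g) := rfl

/-- At most one extension with given determinant. -/
theorem ext_eq_of_det (S : SchurData sc ρ) (D : U →* A) (d : ℕ) (hD : ∀ a, D (sc a) = a ^ d)
    (hcop : Nat.Coprime N.index d) {η η' : G →* U} (hη : ∀ n : N, η n = ρ n)
    (hη' : ∀ n : N, η' n = ρ n) (h : ∀ g, D (η g) = D (η' g)) : η = η' := by
  obtain ⟨γ, hγN, hγ⟩ := exists_twist S hη hη'
  ext g
  have hd : γ g ^ d = 1 := by
    have := h g
    rw [hγ g, map_mul, hD, left_eq_mul] at this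
    exact this
  have hg : γ g = 1 := by
    have h1 := pow_gcd_eq_one.2 ⟨pow_index_eq_one γ hγN g, hd⟩
    rwa [hcop.gcd_eq_one, pow_one] at h1
  simp [hγ g, hg]

/-- The determinant criterion: existence with prescribed determinant. -/
theorem exists_ext_det [Finite G] (S : SchurData sc ρ) (hinv : ∀ g, ∃ u, Impl ρ u g)
    (D : U →* A) (d : ℕ) (hD : ∀ a, D (sc a) = a ^ d) (hroot : ∀ a : A, ∃ b, b ^ d = a)
    (hcop : Nat.Coprime N.index d) (μ : G →* A) (hμ : ∀ n : N, μ n = D (ρ n)) :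
    ∃ η : G →* U, (∀ n : N, η n = ρ n) ∧ ∀ g, D (η g) = μ g := by
  classical
  obtain ⟨T, hT⟩ := exists_section hinv
  choose root hrootspec using hroot
  let root' : A → A := fun a => if a = 1 then 1 else root a
  have hroot' : ∀ a, root' a ^ d = a := by
    intro a
    simp only [root']
    split <;> rename_i ha
    · simp [ha]
    · exact hrootspec a
  let T' : G → U := fun g => T g * sc (root' (μ g * (D (T g))⁻¹))
  have hT' : IsSection ρ T' := by
    refine ⟨fun g n => ?_, fun n => ?_, fun g => S.impl_mul_sc (hT.impl g) _⟩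
    · simp only [T', hT.right, map_mul, hμ, S.comm_left (T g) (ρ n)]
      congr 2
      congr 1
      simp [mul_comm, mul_assoc, mul_left_comm]
    · simp [T', hT.onN, hμ, root']
  have hdet : ∀ g, D (T' g) = μ g := by
    intro g
    simp only [T', map_mul, hD, hroot']
    rw [mul_comm (μ g), mul_inv_cancel_left]
  have hd : (d : ℤ) ∈ cobound S T' := by
    refine ⟨fun _ => 1, fun _ => rfl, fun g h a ha => ?_⟩
    have : D (T' g) * D (T' h) = D (T' (g * h)) * D (sc a) := by rw [← map_mul, ← map_mul, ha]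
    rw [hdet, hdet, hdet, hD, ← map_mul, left_eq_mul] at this
    simp [this]
  have hi := index_mem_cobound S hT' N le_rfl ρ (fun n => rfl)
  have h1 : (1 : ℤ) ∈ cobound S T' := by
    refine one_mem_of_forall_prime _ fun p hp => ?_
    by_cases hpd : p ∣ d
    · refine ⟨_, hi, fun hd' => ?_⟩
      exact Nat.not_coprime_of_dvd_of_dvd hp.one_lt (Int.natCast_dvd_natCast.1 hd') hpd hcop
    · exact ⟨_, hd, fun hd' => hpd (Int.natCast_dvd_natCast.1 hd')⟩
  obtain ⟨η, hη⟩ := exists_hom_of_one_mem S hT' h1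
  have hg : Int.gcd (d : ℤ) (N.index : ℤ) = 1 := by
    rw [Int.gcd_natCast_natCast]; exact hcop.symm
  obtain ⟨x, y, hxy⟩ := Int.isCoprime_iff_gcd_eq_one.2 hg
  let β : G →* A := μ / (D.comp η)
  have hβN : ∀ n : N, β n = 1 := fun n => by simp [β, hη, hμ]
  refine ⟨twist S η (β ^ x), fun n => ?_, fun g => ?_⟩
  · simp [hη, hβN]
  · have e : ((β g) ^ x) ^ d = β g := by
      rw [← zpow_natCast, ← zpow_mul]
      conv_rhs => rw [← zpow_one (β g), ← hxy, zpow_add, mul_comm y, zpow_mul, zpow_mul]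
      rw [zpow_natCast (β g) N.index, pow_index_eq_one β hβN, one_zpow, mul_one, ← zpow_mul,
        mul_comm x]
    simp only [twist_apply, map_mul, hD]
    rw [MonoidHom.zpow_apply, e]
    simp [β]

/-- Cyclic quotient. -/
theorem exists_ext_cyclic [Finite G] (S : SchurData sc ρ) (hinv : ∀ g, ∃ u, Impl ρ u g)
    (hroot : ∀ (k : ℕ) (a : A), 0 < k → ∃ b, b ^ k = a) (hcyc : IsCyclic (G ⧸ N)) :
    ∃ η : G →* U, ∀ n : N, η n = ρ n := by
  obtain ⟨q0, hq0⟩ := hcyc.exists_generator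
  obtain ⟨g0, rfl⟩ := QuotientGroup.mk'_surjective N q0
  obtain ⟨u0, hu0⟩ := hinv g0
  set k := orderOf ((QuotientGroup.mk' N) g0) with hk
  have hkpos : 0 < k := orderOf_pos _
  have hmem : ∀ i : ℤ, g0 ^ i ∈ N ↔ (k : ℤ) ∣ i := by
    intro i
    rw [hk, orderOf_dvd_iff_zpow_eq_one, ← map_zpow, QuotientGroup.mk'_apply,
      QuotientGroup.eq_one_iff]
  have hkN : g0 ^ (k : ℤ) ∈ N := (hmem k).2 dvd_rfl
  obtain ⟨a, ha⟩ := S.exists_eq_mul (hu0.zpow (k : ℤ)) (Impl.rho (ρ := ρ) ⟨_, hkN⟩)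
  obtain ⟨b, hb⟩ := hroot k a⁻¹ hkpos
  set u := u0 * sc b with hu
  have hui : Impl ρ u g0 := S.impl_mul_sc hu0 b
  have huk : u ^ (k : ℤ) = ρ ⟨_, hkN⟩ := by
    rw [zpow_natCast] at ha ⊢
    rw [hu, (S.central b u0).symm.mul_pow, ← map_pow, hb, ha, mul_assoc, ← map_mul,
      mul_inv_cancel, map_one, mul_one]
  have hwell : ∀ (i : ℤ) (h : g0 ^ i ∈ N), u ^ i = ρ ⟨_, h⟩ := by
    intro i h
    obtain ⟨j, rfl⟩ := (hmem i).1 h
    rw [zpow_mul, huk, ← map_zpow]
    congr 1
    exact Subtype.ext (by simp [zpow_mul])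
  have hdec : ∀ g : G, ∃ i : ℤ, (g0 ^ i)⁻¹ * g ∈ N := by
    intro g
    obtain ⟨i, hi⟩ := Subgroup.mem_zpowers_iff.1 (hq0 (QuotientGroup.mk' N g))
    refine ⟨i, QuotientGroup.eq.1 ?_⟩
    rw [← map_zpow] at hi
    exact hi
  choose e he using hdec
  let F : G → U := fun g => u ^ e g * ρ ⟨_, he g⟩
  have hF : ∀ (i : ℤ) (n : N), F (g0 ^ i * n) = u ^ i * ρ n := by
    intro i n
    set j := e (g0 ^ i * n)
    have hj := he (g0 ^ i * n)
    have hd : g0 ^ (i - j) ∈ N := by
      have : g0 ^ (i - j) = (g0 ^ j)⁻¹ * (g0 ^ i * n) * (n : G)⁻¹ := by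
        rw [zpow_sub]; simp [mul_assoc, (Commute.zpow_zpow_self g0 j i).inv_left.eq]
      rw [this]
      exact N.mul_mem hj (N.inv_mem n.2)
    have h1 : u ^ i = u ^ j * ρ ⟨_, hd⟩ := by
      rw [← hwell _ hd, ← zpow_add]; simp
    simp only [F]
    rw [h1, mul_assoc, ← map_mul]
    congr 2
    apply Subtype.ext
    simp [zpow_sub, mul_assoc, j]
    rw [← mul_assoc, (Commute.zpow_zpow_self g0 _ i).inv_left.eq, mul_assoc]
  have hsplit : ∀ g : G, ∃ (i : ℤ) (n : N), g = g0 ^ i * n :=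
    fun g => ⟨e g, ⟨_, he g⟩, by simp⟩
  refine ⟨MonoidHom.mk' F (fun g h => ?_), fun n => ?_⟩
  · obtain ⟨i, n, rfl⟩ := hsplit g
    obtain ⟨j, m, rfl⟩ := hsplit h
    have : g0 ^ i * (n : G) * (g0 ^ j * m) =
        g0 ^ (i + j) * ((cn (g0 ^ j)⁻¹ n * m : N) : G) := by
      simp [zpow_add, mul_assoc]
    rw [this, hF, hF, hF, map_mul, ← (hui.zpow j).inv n]
    simp [zpow_add, mul_assoc]
  · simpa using hF 0 n

/-- Linear case: if `lam` is invariant and extends to subgroups of index prime to each prime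
dividing its order, it extends to the whole group with values in its own range. -/
theorem exists_linear_ext [Finite G] (lam : N →* A)
    (hinv : ∀ g n, lam (cn g n) = lam n) (o : ℕ) (ho : ∀ n, lam n ^ o = 1)
    (h : ∀ p : ℕ, p.Prime → p ∣ o → ∃ (P : Subgroup G) (hNP : N ≤ P) (η : P →* A),
      Nat.Coprime P.index p ∧ ∀ n : N, η ⟨(n : G), hNP n.2⟩ = lam n) :
    ∃ μ : G →* A, ∀ n : N, μ n = lam n := by
  have S : SchurData (MonoidHom.id A) lam :=
    ⟨Function.injective_id, fun a u => Commute.all _ _, fun u _ => ⟨u, rfl⟩⟩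
  have hi : ∀ g, ∃ u, Impl lam u g := fun g => ⟨1, fun n => by simp [hinv]⟩
  obtain ⟨T, hT⟩ := exists_section hi
  -- values of `T` can be pushed into the `o`-torsion
  classical
  let r : G → G := fun g => (Quotient.out (QuotientGroup.mk g : G ⧸ N))
  have hr : ∀ g, (r g)⁻¹ * g ∈ N := fun g => QuotientGroup.eq.1 (QuotientGroup.out_eq' _)
  let T' : G → A := fun g => if h : g ∈ N then lam ⟨g, h⟩ else lam ⟨(r g)⁻¹ * g, hr g⟩
  have hT' : IsSection lam T' := by
    refine ⟨fun g n => ?_, fun n => by simp [T'], fun g n => by simp [hinv]⟩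
    by_cases h : g ∈ N
    · have h' : g * n ∈ N := N.mul_mem h n.2
      simp only [T', dif_pos h, dif_pos h', ← map_mul]
      rfl
    · have h' : g * (n : G) ∉ N := fun hh => h ((N.mul_mem_cancel_right n.2).1 hh)
      have hrr : r (g * n) = r g := by
        simp only [r, QuotientGroup.mk_mul_of_mem g n.2]
      simp only [T', dif_neg h, dif_neg h', ← map_mul]
      congr 1
      exact Subtype.ext (by simp [hrr, mul_assoc])
  have htor : ∀ g, T' g ^ o = 1 := fun g => by
    simp only [T']; split <;> exact ho _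
  have hoM : (o : ℤ) ∈ cobound S T' := by
    refine ⟨fun _ => 1, fun _ => rfl, fun g h a ha => ?_⟩
    have := congrArg (· ^ o) ha
    simp only [MonoidHom.id_apply, mul_pow, htor, one_mul] at this
    simp [← this]
  refine exists_hom_of_one_mem S hT' (one_mem_of_forall_prime _ fun p hp => ?_)
  by_cases hpo : p ∣ o
  · obtain ⟨P, hNP, η, hcop, hη⟩ := h p hp hpo
    refine ⟨_, index_mem_cobound S hT' P hNP η hη, fun hd => ?_⟩
    exact (hp.coprime_iff_not_dvd.1 hcop.symm) (Int.natCast_dvd_natCast.1 hd)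
  · exact ⟨_, hoM, fun hd => hpo (Int.natCast_dvd_natCast.1 hd)⟩

/-- Coprime linear extension: existence with the same order, and uniqueness. -/
theorem linear_ext_coprime [Finite G] (lam : N →* A) (hinv : ∀ g n, lam (cn g n) = lam n)
    (hcop : Nat.Coprime N.index (orderOf lam)) :
    ∃ μ : G →* A, (∀ n : N, μ n = lam n) ∧ orderOf μ = orderOf lam ∧
      ∀ μ' : G →* A, (∀ n : N, μ' n = lam n) → Nat.Coprime N.index (orderOf μ') → μ' = μ := by
  obtain ⟨μ₀, hμ₀⟩ := exists_linear_ext lam hinv (orderOf lam)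
    (fun n => by rw [← MonoidHom.pow_apply, pow_orderOf_eq_one]; rfl)
    (fun p hp hpo => ⟨N, le_rfl, lam, Nat.Coprime.coprime_dvd_right hpo hcop, fun n => rfl⟩)
  set o := orderOf lam with ho
  obtain ⟨x, y, hxy⟩ : IsCoprime (N.index : ℤ) (o : ℤ) := Nat.isCoprime_iff_coprime.2 hcop
  let μ := μ₀ ^ ((N.index : ℤ) * x)
  have hμN : ∀ n : N, μ n = lam n := by
    intro n
    have hl : lam n ^ o = 1 := by rw [ho, ← MonoidHom.pow_apply, pow_orderOf_eq_one]; rfl
    simp only [μ, MonoidHom.zpow_apply, hμ₀]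
    conv_rhs => rw [← zpow_one (lam n), ← hxy, zpow_add, mul_comm y, zpow_mul, zpow_mul,
      zpow_natCast (lam n) o, hl, one_zpow, mul_one, ← zpow_mul, mul_comm x]
  have hμo : μ ^ o = 1 := by
    ext g
    have h1 : (μ₀ ^ o) g ^ N.index = 1 := pow_index_eq_one _ (fun n => by
      rw [MonoidHom.pow_apply, hμ₀, ← MonoidHom.pow_apply, pow_orderOf_eq_one]; rfl) g
    have e : (N.index : ℤ) * x * (o : ℤ) = (o : ℤ) * ((N.index : ℤ) * x) := mul_comm _ _
    simp only [μ, MonoidHom.pow_apply, MonoidHom.zpow_apply, MonoidHom.one_apply] at h1 ⊢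
    rw [← zpow_natCast, ← zpow_mul, e, zpow_mul, zpow_mul, zpow_natCast, zpow_natCast, h1, one_zpow]
  refine ⟨μ, hμN, Nat.dvd_antisymm (orderOf_dvd_of_pow_eq_one hμo) ?_, fun μ' hμ' hc => ?_⟩
  · refine orderOf_dvd_of_pow_eq_one (MonoidHom.ext fun n => ?_)
    rw [MonoidHom.pow_apply, ← hμN, ← MonoidHom.pow_apply, pow_orderOf_eq_one]
    rfl
  · have hβ : ∀ n : N, (μ' / μ) n = 1 := fun n => by simp [hμ', hμN]
    have h1 : (μ' / μ) ^ N.index = 1 := MonoidHom.ext fun g => by
      simpa using pow_index_eq_one _ hβ g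
    have h2 : (μ' / μ) ^ (orderOf μ' * o) = 1 := by
      rw [div_pow, pow_mul μ', pow_orderOf_eq_one, one_pow, mul_comm, pow_mul, hμo, one_pow, div_one]
    have h3 := pow_gcd_eq_one.2 ⟨h1, h2⟩
    rw [(hc.mul_right hcop).gcd_eq_one, pow_one] at h3
    exact div_eq_one.1 h3

end Cfsg.Agent.CharExtension
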