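import Mathlib
import Cfsg.Prelude.Def_CharExt
import Cfsg.Agent.Lib.CharBasicDecomp
import Cfsg.Agent.Lib.CharExtensionCrit

/-!
Bridge between `IsIrrCharacter`/`detChar` and the abstract extension theory:
`U d = GL(ℂ^d)` as the unit group of `End`, scalars, determinant.
-/

set_option autoImplicit false

open Cfsg.Agent.CharBasic Cfsg.Agent.CharBasicDecomp

namespace Cfsg.Agent.CharExtension

universe u

/-- invertible endomorphisms of `ℂ^d` -/
abbrev GU' (d : ℕ) : Type := (Module.End ℂ (Fin d → ℂ))ˣ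

/-- scalars -/
noncomputable def scal (d : ℕ) : ℂˣ →* GU' d :=
  Units.map (algebraMap ℂ (Module.End ℂ (Fin d → ℂ)) : ℂ →* Module.End ℂ (Fin d → ℂ))

/-- determinant -/
noncomputable def detU (d : ℕ) : GU' d →* ℂˣ :=
  Units.map (LinearMap.det : Module.End ℂ (Fin d → ℂ) →* ℂ)

lemma scal_val (d : ℕ) (a : ℂˣ) :
    ((scal d a : GU' d) : Module.End ℂ (Fin d → ℂ)) = (a : ℂ) • LinearMap.id :=
  Algebra.algebraMap_eq_smul_one (a : ℂ)

lemma detU_scal (d : ℕ) (a : ℂˣ) : detU d (scal d a) = a ^ d := by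
  apply Units.ext
  change LinearMap.det ((scal d a : GU' d) : Module.End ℂ (Fin d → ℂ)) = _
  rw [scal_val, LinearMap.det_smul, LinearMap.det_id, mul_one]
  simp

lemma exists_root (d : ℕ) (a : ℂˣ) (hd : 0 < d) : ∃ b : ℂˣ, b ^ d = a := by
  obtain ⟨z, hz⟩ := IsAlgClosed.exists_pow_nat_eq (a : ℂ) hd
  have hz0 : z ≠ 0 := by
    rintro rfl
    rw [zero_pow hd.ne'] at hz
    exact a.ne_zero hz.symm
  exact ⟨Units.mk0 z hz0, Units.ext (by simpa using hz)⟩

variable {G : Type u} [Group G]

/-- the representation attached to a hom into `GU' d` -/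
noncomputable def toRep {d : ℕ} (η : G →* GU' d) : Representation ℂ G (Fin d → ℂ) :=
  (Units.coeHom _).comp η

/-- the character attached to a hom into `GU' d` -/
noncomputable def chr {d : ℕ} (η : G →* GU' d) : G → ℂ := (toRep η).character

@[simp] lemma toRep_apply {d : ℕ} (η : G →* GU' d) (g : G) : toRep η g = (η g : GU' d) := rfl

lemma chr_apply {d : ℕ} (η : G →* GU' d) (g : G) :
    chr η g = LinearMap.trace ℂ (Fin d → ℂ) (η g : GU' d) := rfl

lemma chr_one {d : ℕ} (η : G →* GU' d) : chr η 1 = d := by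
  simp [chr]

lemma isCharacter_chr {d : ℕ} (η : G →* GU' d) : Cfsg.IsCharacter G (chr η) := ⟨d, _, rfl⟩

/-- every representation on `ℂ^d` comes from a hom -/
lemma toRep_toHomUnits {d : ℕ} (σ : Representation ℂ G (Fin d → ℂ)) :
    toRep (MonoidHom.toHomUnits σ) = σ := MonoidHom.ext fun _ => rfl

/-- `detChar` does not depend on the realisation. -/
theorem detChar_chr [Finite G] {d : ℕ} (η : G →* GU' d) (g : G) :
    Cfsg.detChar (chr η) g = (detU d (η g) : ℂ) := by
  have h : Cfsg.IsCharacter G (chr η) := isCharacter_chr η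
  rw [Cfsg.detChar, dif_pos h]
  have hspec := Classical.choose_spec (Classical.choose_spec h)
  obtain ⟨φ⟩ := nonempty_equiv_of_character_eq (toRep η) _
    (hspec.symm : (toRep η).character = _)
  rw [← φ.conj_apply_self g, LinearEquiv.conj_apply, LinearMap.comp_assoc, LinearMap.det_conj]
  rfl

/-- A character of degree one is a hom to `ℂˣ`. -/
theorem exists_linHom {χ : G → ℂ} (h : Cfsg.IsCharacter G χ) (h1 : χ 1 = 1) :
    ∃ l : G →* ℂˣ, χ = fun g => (l g : ℂ) := by
  obtain ⟨n, ρ, rfl⟩ := h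
  obtain rfl : n = 1 := by simpa using h1
  refine ⟨(detU 1).comp (MonoidHom.toHomUnits ρ), funext fun g => ?_⟩
  change LinearMap.trace ℂ _ (ρ g) = LinearMap.det (ρ g)
  rw [LinearMap.trace_eq_matrix_trace ℂ (Pi.basisFun ℂ (Fin 1)),
    ← LinearMap.det_toMatrix (Pi.basisFun ℂ (Fin 1))]
  simp [Matrix.trace_fin_one, LinearMap.toMatrix'_apply]

/-- the linear character of a hom -/
theorem isLinear_coe (l : G →* ℂˣ) :
    Cfsg.IsCharacter G (fun g => (l g : ℂ)) ∧ (fun g => (l g : ℂ)) (1 : G) = 1 :=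
  ⟨isCharacter_linear l, by simp⟩

/-- order of a linear character as a function -/
theorem orderOf_coe (l : G →* ℂˣ) : orderOf (fun g => (l g : ℂ)) = orderOf l := by
  let F : (G →* ℂˣ) →* (G → ℂ) :=
    { toFun := fun l g => (l g : ℂ), map_one' := by ext; simp, map_mul' := fun a b => by ext; simp }
  exact orderOf_injective F (fun a b hab => MonoidHom.ext fun g => Units.ext (congrFun hab g)) l

variable {N : Subgroup G} [hN : N.Normal]

/-- Everything needed about an invariant irreducible character, packaged. -/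
theorem exists_setup [Finite G] {ϑ : N → ℂ} (hϑ : Cfsg.IsIrrCharacter N ϑ)
    (hinv : ∀ (g : G) (n : N), ϑ ⟨g * n * g⁻¹, hN.conj_mem (n : G) n.2 g⟩ = ϑ n) :
    ∃ (d : ℕ) (ρ : N →* GU' d), 0 < d ∧ ϑ 1 = d ∧ chr ρ = ϑ ∧ SchurData (scal d) ρ ∧
      (∀ g, ∃ u, Impl ρ u g) ∧ (toRep ρ).IsIrreducible := by
  obtain ⟨d, σ, hσ, rfl⟩ := hϑ
  have hd : 0 < d := by simpa using finrank_pos_of_irreducible σ
  refine ⟨d, MonoidHom.toHomUnits σ, hd, by simp, by rw [chr, toRep_toHomUnits], ⟨?_, ?_, ?_⟩,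
    fun g => ?_, by rwa [toRep_toHomUnits]⟩
  · intro a b hab
    have h := congrFun (DFunLike.congr_fun (congrArg Units.val hab) (fun _ : Fin d => (1 : ℂ))) ⟨0, hd⟩
    rw [scal_val, scal_val] at h
    exact Units.ext (by simpa using h)
  · intro a u
    exact Units.ext (Algebra.commutes (a : ℂ) (u : Module.End ℂ (Fin d → ℂ)))
  · intro u hu
    obtain ⟨c, hc, -⟩ := exists_scalar_of_commute σ (u : GU' d) (fun n v => by
      have h := congrArg Units.val (hu n).eq
      exact DFunLike.congr_fun h v)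
    have hc0 : c ≠ 0 := by
      rintro rfl
      rw [zero_smul] at hc
      have := nontrivial_of_irreducible σ
      exact u.ne_zero hc
    exact ⟨Units.mk0 c hc0, Units.ext (by rw [hc, scal_val]; simp)⟩
  · let cnH : N →* N := MonoidHom.mk' (cn g) (fun a b => Subtype.ext (by simp [mul_assoc]))
    obtain ⟨φ⟩ := nonempty_equiv_of_character_eq σ (repComap cnH σ)
      (funext fun n => (hinv g n).symm)
    refine ⟨LinearMap.GeneralLinearGroup.ofLinearEquiv φ.toLinearEquiv, fun n => ?_⟩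
    rw [mul_inv_eq_iff_eq_mul]
    refine Units.ext (LinearMap.ext fun v => ?_)
    exact φ.toIntertwiningMap.isIntertwining _ _ n v

/-- An extending hom gives an irreducible extending character. -/
theorem ext_to_char {P : Subgroup G} (hNP : N ≤ P) {d : ℕ} {ρ : N →* GU' d}
    (hirr : (toRep ρ).IsIrreducible) (η : P →* GU' d)
    (hη : ∀ n : N, η ⟨(n : G), hNP n.2⟩ = ρ n) :
    Cfsg.IsIrrCharacter P (chr η) ∧ ∀ n : N, chr η ⟨(n : G), hNP n.2⟩ = chr ρ n := by
  refine ⟨⟨d, toRep η, ?_, rfl⟩, fun n => by rw [chr_apply, chr_apply, hη]⟩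
  have : Nontrivial (Subrepresentation (toRep η)) := by
    have := nontrivial_of_irreducible (toRep ρ)
    refine ⟨⟨⊥, ⊤, fun h => ?_⟩⟩
    exact bot_ne_top (α := Submodule ℂ (Fin d → ℂ)) (congrArg Subrepresentation.toSubmodule h)
  refine ⟨fun W => ?_⟩
  let W' : Subrepresentation (toRep ρ) := ⟨W.toSubmodule, fun n v hv => by
    have h := W.apply_mem_toSubmodule ⟨(n : G), hNP n.2⟩ hv
    rw [toRep_apply, hη] at h
    exact h⟩
  rcases eq_bot_or_eq_top W' with h | h
  · exact Or.inl (Subrepresentation.toSubmodule_injective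
      (congrArg Subrepresentation.toSubmodule h :))
  · exact Or.inr (Subrepresentation.toSubmodule_injective
      (congrArg Subrepresentation.toSubmodule h :))

/-- version for `⊤`, i.e. the whole group -/
theorem ext_to_char_top {d : ℕ} {ρ : N →* GU' d} (hirr : (toRep ρ).IsIrreducible)
    (η : G →* GU' d) (hη : ∀ n : N, η n = ρ n) :
    Cfsg.IsIrrCharacter G (chr η) ∧ ∀ n : N, chr η n = chr ρ n := by
  obtain ⟨h1, h2⟩ := ext_to_char (le_top : N ≤ ⊤) hirr (η.comp (⊤ : Subgroup G).subtype) hη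
  exact ⟨isIrrCharacter_comap (Subgroup.topEquiv : (⊤ : Subgroup G) ≃* G).symm.toMonoidHom
    (MulEquiv.surjective _) h1, fun n => h2 n⟩

/-- A character of `H` restricting to `chr ρ` along `f` is afforded by a hom extending `ρ`. -/
theorem char_to_ext {H : Type u} [Group H] {K : Type u} [Group K] [Finite K] (f : K →* H) {d : ℕ}
    (ρ : K →* GU' d) {χ : H → ℂ} (hχ : Cfsg.IsCharacter H χ)
    (hres : ∀ n : K, χ (f n) = chr ρ n) :
    ∃ η : H →* GU' d, chr η = χ ∧ ∀ n : K, η (f n) = ρ n := by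
  obtain ⟨m, τ, rfl⟩ := hχ
  have hres' : (repComap f τ).character = (toRep ρ).character := funext hres
  obtain ⟨φ⟩ := nonempty_equiv_of_character_eq _ _ hres'
  refine ⟨MonoidHom.toHomUnits (repConj φ.toLinearEquiv τ), ?_, fun n => ?_⟩
  · rw [chr, toRep_toHomUnits, character_repConj]
  · refine Units.ext (LinearMap.ext fun v => ?_)
    have h := φ.toIntertwiningMap.isIntertwining _ _ n (φ.toLinearEquiv.symm v)
    change φ.toLinearEquiv (τ (f n) (φ.toLinearEquiv.symm v)) = (toRep ρ) n v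
    refine h.trans (congrArg _ ?_)
    exact φ.toLinearEquiv.apply_symm_apply v

end Cfsg.Agent.CharExtension
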