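import Mathlib
import Cfsg.Agent.Lib.CharBasicOrth

/-!
The degree of an irreducible projective representation with root-of-unity factor set divides the
order of the group.
-/

set_option autoImplicit false

open Cfsg.Agent.CharBasic

namespace Cfsg.Agent.CharProjDegree

variable {Q : Type*} [Group Q] {M : Type*} [AddCommGroup M] [Module ℂ M] [FiniteDimensional ℂ M]

/-- A projective representation with `o`-th roots of unity as factor set. -/
def IsProj (U : Q → (Module.End ℂ M)ˣ) (o : ℕ) : Prop :=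
  ∀ a b, ∃ c : ℂˣ, c ^ o = 1 ∧
    (U a : Module.End ℂ M) * (U b : Module.End ℂ M) = (c : ℂ) • (U (a * b) : Module.End ℂ M)

/-- no invariant subspaces -/
def IsIrred (U : Q → (Module.End ℂ M)ˣ) : Prop :=
  ∀ W : Submodule ℂ M, (∀ q, ∀ v ∈ W, (U q : Module.End ℂ M) v ∈ W) → W = ⊥ ∨ W = ⊤

variable {U : Q → (Module.End ℂ M)ˣ} {o : ℕ}

/-- `F a X = U a X (U a)⁻¹` -/
def conjOp (U : Q → (Module.End ℂ M)ˣ) (a : Q) (X : Module.End ℂ M) : Module.End ℂ M :=
  (U a : Module.End ℂ M) * X * ((U a)⁻¹ : (Module.End ℂ M)ˣ)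

lemma trace_conjOp (a : Q) (X : Module.End ℂ M) :
    LinearMap.trace ℂ M (conjOp U a X) = LinearMap.trace ℂ M X :=
  LinearMap.trace_conj ℂ X (U a)

lemma conjOp_smul (a : Q) (c : ℂ) (X : Module.End ℂ M) :
    conjOp U a (c • X) = c • conjOp U a X := by
  simp [conjOp]

lemma conjOp_mul (hU : IsProj U o) (a b : Q) (X : Module.End ℂ M) :
    conjOp U (a * b) X = conjOp U a (conjOp U b X) := by
  obtain ⟨c, -, hc⟩ := hU a b
  have hu : U a * U b = Units.map (algebraMap ℂ (Module.End ℂ M)).toMonoidHom c * U (a * b) :=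
    Units.ext (by simp [hc, Algebra.smul_def])
  have h : conjOp U a (conjOp U b X) =
      ((U a * U b : (Module.End ℂ M)ˣ) : Module.End ℂ M) * X * ((U a * U b)⁻¹ : (Module.End ℂ M)ˣ) := by
    simp [conjOp, mul_assoc]
  rw [h, hu, mul_inv_rev, Units.val_mul, Units.val_mul]
  have hcomm : ∀ Y : Module.End ℂ M,
      ((Units.map (algebraMap ℂ (Module.End ℂ M)).toMonoidHom c : (Module.End ℂ M)ˣ) : Module.End ℂ M) * Y
        = Y * (Units.map (algebraMap ℂ (Module.End ℂ M)).toMonoidHom c : (Module.End ℂ M)ˣ) :=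
    fun Y => Algebra.commutes (c : ℂ) Y
  rw [conjOp, hcomm]
  simp [mul_assoc]
  rw [← mul_assoc X, ← Algebra.commutes, ← mul_assoc, ← map_mul]
  simp

lemma exists_scalar_of_commute (hirr : IsIrred U) [Nontrivial M] (T : Module.End ℂ M)
    (hT : ∀ q, T * (U q : Module.End ℂ M) = (U q : Module.End ℂ M) * T) :
    ∃ c : ℂ, T = c • 1 := by
  obtain ⟨c, hc⟩ := Module.End.exists_eigenvalue T
  rcases hirr (T.eigenspace c) (fun q v hv => by
    rw [Module.End.mem_eigenspace_iff] at hv ⊢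
    rw [← Module.End.mul_apply, hT, Module.End.mul_apply, hv, map_smul]) with h | h
  · exact absurd h hc
  · refine ⟨c, LinearMap.ext fun v => ?_⟩
    have hv : v ∈ T.eigenspace c := by rw [h]; exact Submodule.mem_top
    simpa using Module.End.mem_eigenspace_iff.1 hv

lemma sum_conjOp [Fintype Q] [Nontrivial M] (hU : IsProj U o) (hirr : IsIrred U)
    (X : Module.End ℂ M) :
    ∑ a, conjOp U a X =
      ((Nat.card Q : ℂ) * LinearMap.trace ℂ M X / Module.finrank ℂ M) • 1 := by
  obtain ⟨c, hc⟩ := exists_scalar_of_commute hirr (∑ a, conjOp U a X) (fun q => by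
    have h : ∑ a, conjOp U a X = conjOp U q (∑ a, conjOp U a X) := by
      conv_lhs => rw [← Equiv.sum_comp (Equiv.mulLeft q) (fun a => conjOp U a X)]
      simp only [Equiv.coe_mulLeft, conjOp_mul hU]
      simp [conjOp, Finset.mul_sum, Finset.sum_mul]
    conv_lhs => rw [h]
    simp [conjOp, mul_assoc])
  have ht := congrArg (LinearMap.trace ℂ M) hc
  rw [map_sum, Finset.sum_congr rfl fun a _ => trace_conjOp a X, Finset.sum_const, Finset.card_univ,
    nsmul_eq_mul, map_smul, LinearMap.trace_one, smul_eq_mul, ← Nat.card_eq_fintype_card] at ht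
  have he : (Module.finrank ℂ M : ℂ) ≠ 0 := Nat.cast_ne_zero.2 Module.finrank_pos.ne'
  rw [hc, ht, mul_div_cancel_right₀ _ he]

lemma sum_trace_mul_trace [Fintype Q] [Nontrivial M] (hU : IsProj U o) (hirr : IsIrred U) :
    ∑ a, LinearMap.trace ℂ M (U a : Module.End ℂ M) *
      LinearMap.trace ℂ M ((U a)⁻¹ : (Module.End ℂ M)ˣ) = (Nat.card Q : ℂ) := by
  classical
  let b := Module.finBasis ℂ M
  let Φ := LinearMap.toMatrixAlgEquiv b
  let A := fun a => Φ (U a : Module.End ℂ M)
  let B := fun a => Φ ((U a)⁻¹ : (Module.End ℂ M)ˣ)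
  have key : ∀ j k, ∑ a, A a j j * B a k k =
      if j = k then (Nat.card Q : ℂ) / Module.finrank ℂ M else 0 := by
    intro j k
    have h := congrArg Φ (sum_conjOp hU hirr (Φ.symm (Matrix.single j k 1)))
    simp only [conjOp, map_sum, map_mul, AlgEquiv.apply_symm_apply, map_smul, map_one] at h
    have h' := congrFun (congrFun h j) k
    rw [Matrix.sum_apply] at h'
    have htr : LinearMap.trace ℂ M (Φ.symm (Matrix.single j k 1)) = if j = k then 1 else 0 := by
      rw [LinearMap.trace_eq_matrix_trace ℂ b]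
      change (Φ (Φ.symm _)).trace = _
      rw [AlgEquiv.apply_symm_apply]
      split_ifs with hjk
      · subst hjk; simp
      · simp [hjk]
    rw [htr, Matrix.smul_apply, Matrix.one_apply] at h'
    refine Eq.trans (Finset.sum_congr rfl fun a _ => ?_) (h'.trans ?_)
    · simp [A, B, Matrix.mul_apply, Matrix.single, ite_and, ite_mul]
    · split_ifs <;> simp
  have ht : ∀ f : Module.End ℂ M, LinearMap.trace ℂ M f = (Φ f).trace :=
    fun f => LinearMap.trace_eq_matrix_trace ℂ b f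
  simp only [ht, Matrix.trace, Matrix.diag, Finset.sum_mul_sum]
  rw [Finset.sum_comm]
  simp_rw [Finset.sum_comm (s := (Finset.univ : Finset Q))]
  simp only [A, B] at key
  simp only [key, Finset.sum_ite_eq, Finset.mem_univ, if_true, Finset.sum_const, Finset.card_univ,
    Fintype.card_fin, nsmul_eq_mul]
  have he : (Module.finrank ℂ M : ℂ) ≠ 0 := Nat.cast_ne_zero.2 Module.finrank_pos.ne'
  field_simp

/-- operators of the form root of unity times `U q` -/
def opSet (U : Q → (Module.End ℂ M)ˣ) (o : ℕ) : Set (Module.End ℂ M) :=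
  {f | ∃ c : ℂˣ, c ^ o = 1 ∧ ∃ q, f = (c : ℂ) • (U q : Module.End ℂ M)}

lemma U_one (hU : IsProj U o) : ∃ c : ℂˣ, c ^ o = 1 ∧ (U 1 : Module.End ℂ M) = (c : ℂ) • 1 := by
  obtain ⟨c, hc, h⟩ := hU 1 1
  refine ⟨c, hc, ?_⟩
  have := congrArg (fun X => X * (((U 1)⁻¹ : (Module.End ℂ M)ˣ) : Module.End ℂ M)) h
  simpa [mul_assoc] using this

lemma one_mem_opSet (hU : IsProj U o) : (1 : Module.End ℂ M) ∈ opSet U o := by
  obtain ⟨c, hc, h⟩ := U_one hU
  exact ⟨c⁻¹, by rw [inv_pow, hc, inv_one], 1, by rw [h, smul_smul]; simp⟩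

lemma mul_mem_opSet (hU : IsProj U o) {f g : Module.End ℂ M} (hf : f ∈ opSet U o)
    (hg : g ∈ opSet U o) : f * g ∈ opSet U o := by
  obtain ⟨a, ha, p, rfl⟩ := hf
  obtain ⟨b, hb, q, rfl⟩ := hg
  obtain ⟨c, hc, h⟩ := hU p q
  exact ⟨a * b * c, by rw [mul_pow, mul_pow, ha, hb, hc]; simp, p * q, by
    rw [smul_mul_smul_comm, h, smul_smul]; simp⟩

lemma inv_mem_opSet (hU : IsProj U o) (q : Q) :
    (((U q)⁻¹ : (Module.End ℂ M)ˣ) : Module.End ℂ M) ∈ opSet U o := by
  obtain ⟨c, hc, h⟩ := hU q q⁻¹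
  obtain ⟨k, hk, h1⟩ := U_one hU
  rw [mul_inv_cancel, h1, smul_smul] at h
  refine ⟨(c * k)⁻¹, by rw [inv_pow, mul_pow, hc, hk]; simp, q⁻¹, ?_⟩
  have := congrArg (fun X => (((U q)⁻¹ : (Module.End ℂ M)ˣ) : Module.End ℂ M) * X) h
  simp only [Units.inv_mul_cancel_left, mul_smul_comm, mul_one] at this
  rw [this, smul_smul, ← Units.val_mul c k, ← Units.val_mul, inv_mul_cancel, Units.val_one, one_smul]

lemma mem_opSet (q : Q) : (U q : Module.End ℂ M) ∈ opSet U o := ⟨1, one_pow o, q, by simp⟩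

lemma finite_opSet [Finite Q] (ho : 0 < o) : (opSet U o).Finite := by
  have hroots : Finite {c : ℂˣ // c ^ o = 1} := by
    have : NeZero o := ⟨ho.ne'⟩
    exact Finite.of_injective (fun c => (⟨c.1, (mem_rootsOfUnity o c.1).2 c.2⟩ : rootsOfUnity o ℂ))
      (fun a b h => Subtype.ext (congrArg Subtype.val h :))
  refine Set.Finite.subset (Set.finite_range
    (fun p : {c : ℂˣ // c ^ o = 1} × Q => ((p.1.1 : ℂˣ) : ℂ) • (U p.2 : Module.End ℂ M))) ?_
  rintro f ⟨c, hc, q, rfl⟩
  exact ⟨⟨⟨c, hc⟩, q⟩, rfl⟩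

lemma isIntegral_trace [Finite Q] (hU : IsProj U o) (ho : 0 < o) {u : (Module.End ℂ M)ˣ}
    (hu : (u : Module.End ℂ M) ∈ opSet U o) : IsIntegral ℤ (LinearMap.trace ℂ M u) := by
  let S : Submonoid (Module.End ℂ M) :=
    { carrier := opSet U o, one_mem' := one_mem_opSet hU, mul_mem' := mul_mem_opSet hU }
  have : Finite S := (finite_opSet ho).to_subtype
  obtain ⟨i, j, hij, he⟩ : ∃ i j : ℕ, i < j ∧ (u : Module.End ℂ M) ^ i = (u : Module.End ℂ M) ^ j := by
    obtain ⟨i, j, hne, he⟩ := Finite.exists_ne_map_eq_of_infinite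
      (fun k : ℕ => (⟨_, hu⟩ : S) ^ k)
    have he' := congrArg Subtype.val he
    rcases lt_or_gt_of_ne hne with h | h
    · exact ⟨i, j, h, he'⟩
    · exact ⟨j, i, h, he'.symm⟩
  have hpow : (u : Module.End ℂ M) ^ (j - i) = 1 := by
    have h2 : (u ^ i : (Module.End ℂ M)ˣ) * u ^ (j - i) = u ^ i := by
      rw [← pow_add, Nat.add_sub_cancel' hij.le]
      exact Units.ext (by simp [he])
    rw [← Units.val_pow_eq_pow_val, mul_eq_left.1 h2, Units.val_one]
  obtain ⟨b, μ, hμ, hroot⟩ := exists_eigenbasis (u : Module.End ℂ M) (by omega : 0 < j - i) hpow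
  rw [trace_eq_sum_of_eigenbasis b _ μ hμ]
  exact IsIntegral.sum _ fun k _ => IsIntegral.of_pow (by omega : 0 < j - i) (by rw [hroot k]; exact isIntegral_one)

/-- the "central character" at `b` -/
lemma exists_omega [Fintype Q] [Nontrivial M] (hU : IsProj U o) (ho : 0 < o) (hirr : IsIrred U)
    (b : Q) : ∃ w : ℂ, IsIntegral ℤ w ∧ w * Module.finrank ℂ M =
      (Nat.card {g : Q // IsConj b g} : ℂ) * LinearMap.trace ℂ M (U b : Module.End ℂ M) := by
  classical
  by_cases h0 : LinearMap.trace ℂ M (U b : Module.End ℂ M) = 0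
  · exact ⟨0, isIntegral_zero, by simp [h0]⟩
  set C := Subgroup.centralizer ({b} : Set Q) with hC
  letI : Fintype (Q ⧸ C) := Fintype.ofFinite _
  let X : Module.End ℂ M := (U b : Module.End ℂ M)
  have hfix : ∀ c ∈ C, conjOp U c X = X := by
    intro c hc
    rw [hC, Subgroup.mem_centralizer_singleton_iff] at hc
    obtain ⟨x, -, hx⟩ := hU c b
    obtain ⟨y, -, hy⟩ := hU b c
    rw [← hc] at hy
    have h1 : conjOp U c X = ((x : ℂ) * (y : ℂ)⁻¹) • X := by
      have e : (U c : Module.End ℂ M) * X = ((x : ℂ) * (y : ℂ)⁻¹) • (X * (U c : Module.End ℂ M)) := by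
        rw [hy, hx, smul_smul]; simp
      rw [conjOp, e, smul_mul_assoc, mul_assoc]
      simp
    have h2 := congrArg (LinearMap.trace ℂ M) h1
    rw [trace_conjOp, map_smul, smul_eq_mul, right_eq_mul₀ h0] at h2
    rw [h1, h2, one_smul]
  have hsum : ∑ a, conjOp U a X =
      (Nat.card C : ℂ) • ∑ x : Q ⧸ C, conjOp U x.out X := by
    rw [← Equiv.sum_comp (Subgroup.groupEquivQuotientProdSubgroup (s := C)).symm,
      Fintype.sum_prod_type, Finset.smul_sum]
    refine Finset.sum_congr rfl fun x _ => ?_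
    have hout : ∀ c : C, conjOp U ((Subgroup.groupEquivQuotientProdSubgroup (s := C)).symm (x, c)) X
        = conjOp U x.out X := by
      intro c
      have hm : ((x.out)⁻¹ * (Subgroup.groupEquivQuotientProdSubgroup (s := C)).symm (x, c)) ∈ C := by
        refine QuotientGroup.eq.1 ?_
        rw [QuotientGroup.out_eq']
        exact (congrArg Prod.fst
          ((Subgroup.groupEquivQuotientProdSubgroup (s := C)).apply_symm_apply (x, c))).symm
      conv_lhs => rw [← mul_inv_cancel_left x.out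
        ((Subgroup.groupEquivQuotientProdSubgroup (s := C)).symm (x, c))]
      rw [conjOp_mul hU, hfix _ hm]
    rw [Finset.sum_congr rfl fun c _ => hout c, Finset.sum_const, Finset.card_univ,
      ← Nat.card_eq_fintype_card, Nat.cast_smul_eq_nsmul]
  rw [sum_conjOp hU hirr] at hsum
  set w := (Nat.card {g : Q // IsConj b g} : ℂ) * LinearMap.trace ℂ M X / Module.finrank ℂ M with hw
  have hCne : (Nat.card C : ℂ) ≠ 0 := Nat.cast_ne_zero.2 Nat.card_pos.ne'
  have hS : (∑ x : Q ⧸ C, conjOp U x.out X) = w • 1 := by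
    refine (inv_smul_smul₀ hCne _).symm.trans ?_
    rw [← hsum, smul_smul, hw]
    congr 1
    rw [← CharBasicOrth.card_conj_mul_card_centralizer b, Nat.cast_mul, ← hC]
    field_simp
  refine ⟨w, ?_, div_mul_cancel₀ _ (Nat.cast_ne_zero.2 Module.finrank_pos.ne')⟩
  -- the subring generated by the finite monoid of operators is finitely generated as a module
  let S : Submonoid (Module.End ℂ M) :=
    { carrier := opSet U o, one_mem' := one_mem_opSet hU, mul_mem' := mul_mem_opSet hU }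
  let R := Algebra.adjoin ℤ (opSet U o)
  have hfg : R.toSubmodule.FG := by
    rw [Algebra.adjoin_eq_span, show Submonoid.closure (opSet U o) = S from S.closure_eq]
    exact Submodule.fg_span (finite_opSet ho)
  have hmem : w • (1 : Module.End ℂ M) ∈ R := by
    rw [← hS]
    refine Subalgebra.sum_mem R fun x _ => Algebra.subset_adjoin ?_
    exact mul_mem_opSet hU (mul_mem_opSet hU (mem_opSet _) (mem_opSet b)) (inv_mem_opSet hU _)
  have hint := IsIntegral.of_mem_of_fg R hfg _ hmem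
  rw [← Algebra.algebraMap_eq_smul_one] at hint
  exact (isIntegral_algebraMap_iff
    (FaithfulSMul.algebraMap_injective ℂ (Module.End ℂ M))).1 hint

lemma trace_prod_conj (hU : IsProj U o) (a b : Q) :
    LinearMap.trace ℂ M (U (a * b * a⁻¹) : Module.End ℂ M) *
      LinearMap.trace ℂ M ((U (a * b * a⁻¹))⁻¹ : (Module.End ℂ M)ˣ) =
    LinearMap.trace ℂ M (U b : Module.End ℂ M) *
      LinearMap.trace ℂ M ((U b)⁻¹ : (Module.End ℂ M)ˣ) := by
  obtain ⟨x, -, hx⟩ := hU (a * b * a⁻¹) a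
  obtain ⟨y, -, hy⟩ := hU a b
  rw [inv_mul_cancel_right] at hx
  let k : ℂˣ := x * y⁻¹
  let kM : (Module.End ℂ M)ˣ := Units.map (algebraMap ℂ (Module.End ℂ M)).toMonoidHom k
  have hk : ∀ Y : Module.End ℂ M, (kM : Module.End ℂ M) * Y = (k : ℂ) • Y :=
    fun Y => by simp [kM, Algebra.smul_def]
  have hu : U (a * b * a⁻¹) = kM * (U a * U b * (U a)⁻¹) := by
    refine Units.ext ?_
    rw [Units.val_mul, hk]
    simp only [Units.val_mul]
    rw [hy, smul_mul_assoc, smul_smul]
    have e : (U (a * b * a⁻¹) : Module.End ℂ M) =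
        (x : ℂ) • ((U (a * b) : Module.End ℂ M) * ((U a)⁻¹ : (Module.End ℂ M)ˣ)) := by
      rw [← smul_mul_assoc, ← hx, Units.mul_inv_cancel_right]
    rw [e]
    simp [k]
  have hki : ∀ Y : Module.End ℂ M,
      Y * ((kM⁻¹ : (Module.End ℂ M)ˣ) : Module.End ℂ M) = ((k⁻¹ : ℂˣ) : ℂ) • Y := fun Y => by
    rw [show kM⁻¹ = Units.map (algebraMap ℂ (Module.End ℂ M)).toMonoidHom k⁻¹ from (map_inv _ _).symm]
    simp only [Units.coe_map, RingHom.toMonoidHom_eq_coe, MonoidHom.coe_coe]
    rw [← Algebra.commutes, Algebra.smul_def]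
  have hinv : ((U (a * b * a⁻¹))⁻¹ : (Module.End ℂ M)ˣ) = U a * (U b)⁻¹ * (U a)⁻¹ * kM⁻¹ := by
    rw [hu]; simp [mul_assoc]
  rw [hinv, hu]
  simp only [Units.val_mul, hk, hki, map_smul, smul_eq_mul, LinearMap.trace_conj]
  rw [mul_mul_mul_comm, ← Units.val_mul, mul_inv_cancel, Units.val_one, one_mul]

/-- The degree of an irreducible projective representation divides the group order. -/
theorem finrank_dvd_card [Fintype Q] [Nontrivial M] (hU : IsProj U o) (ho : 0 < o)
    (hirr : IsIrred U) : Module.finrank ℂ M ∣ Nat.card Q := by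
  classical
  letI : Fintype (ConjClasses Q) := Fintype.ofFinite _
  let P : Q → ℂ := fun b => LinearMap.trace ℂ M (U b : Module.End ℂ M) *
    LinearMap.trace ℂ M ((U b)⁻¹ : (Module.End ℂ M)ˣ)
  choose w hwint hw using exists_omega hU ho hirr
  have h1 : ∑ b, P b = ∑ C : ConjClasses Q, (Nat.card {g : Q // IsConj C.out g} : ℂ) * P C.out := by
    rw [← Finset.sum_fiberwise Finset.univ ConjClasses.mk P]
    refine Finset.sum_congr rfl fun C _ => ?_
    have hout : ConjClasses.mk C.out = C := Quotient.out_eq C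
    rw [Finset.sum_congr rfl (g := fun _ => P C.out) (fun b hb => by
      have hbC := (Finset.mem_filter.1 hb).2
      rw [← hout, ConjClasses.mk_eq_mk_iff_isConj] at hbC
      obtain ⟨a, ha⟩ := isConj_iff.1 hbC.symm
      rw [← ha]; exact trace_prod_conj hU a C.out), Finset.sum_const, nsmul_eq_mul]
    congr 2
    rw [Nat.card_eq_fintype_card, Fintype.card_subtype]
    congr 1
    ext g
    rw [Finset.mem_filter, Finset.mem_filter, ← ConjClasses.mk_eq_mk_iff_isConj, hout, eq_comm]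
  have h2 : (Nat.card Q : ℂ) = (∑ C : ConjClasses Q, w C.out *
      LinearMap.trace ℂ M ((U C.out)⁻¹ : (Module.End ℂ M)ˣ)) * Module.finrank ℂ M := by
    rw [← sum_trace_mul_trace hU hirr, h1, Finset.sum_mul]
    refine Finset.sum_congr rfl fun C _ => ?_
    simp only [P]
    rw [← mul_assoc, ← hw C.out]; ring
  have hint : IsIntegral ℤ (∑ C : ConjClasses Q, w C.out *
      LinearMap.trace ℂ M ((U C.out)⁻¹ : (Module.End ℂ M)ˣ)) :=
    IsIntegral.sum _ fun C _ => (hwint _).mul (isIntegral_trace hU ho (inv_mem_opSet hU _))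
  have he : (Module.finrank ℂ M : ℂ) ≠ 0 := Nat.cast_ne_zero.2 Module.finrank_pos.ne'
  have h2' := (eq_div_iff he).2 h2.symm
  have hq : IsIntegral ℤ ((Nat.card Q : ℚ) / Module.finrank ℂ M) := by
    rw [← isIntegral_algebraMap_iff (B := ℂ) (FaithfulSMul.algebraMap_injective ℚ ℂ)]
    rw [h2'] at hint
    simpa using hint
  obtain ⟨z, hz⟩ := IsIntegrallyClosed.isIntegral_iff.1 hq
  have he' : (Module.finrank ℂ M : ℚ) ≠ 0 := Nat.cast_ne_zero.2 Module.finrank_pos.ne'
  rw [eq_div_iff he'] at hz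
  have hz' : z * (Module.finrank ℂ M : ℤ) = (Nat.card Q : ℤ) := by
    exact_mod_cast (by simpa using hz : (z : ℚ) * Module.finrank ℂ M = Nat.card Q)
  exact Int.natCast_dvd_natCast.1 ⟨z, by rw [mul_comm, hz']⟩

end Cfsg.Agent.CharProjDegree
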