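import Mathlib
import Cfsg.Agent.Lib.CharExtension
import Cfsg.Agent.Lib.CharCliffordCorr
import Cfsg.Agent.Lib.CharProjDegreeAux

/-!
`χ(1)/θ(1)` divides the index of the normal subgroup.
-/

set_option autoImplicit false

open Cfsg Cfsg.Agent.CharBasic Cfsg.Agent.CharExtension

namespace Cfsg.Agent.CharProjDegree

universe u

variable {G : Type u} [Group G] {N : Subgroup G} [hN : N.Normal]

/-- the multiplicity space `Hom_N(ρ, σ)` -/
abbrev MulSpace {d c : ℕ} (ρ : N →* GU' d) (σ : Representation ℂ G (Fin c → ℂ)) : Type :=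
  Representation.IntertwiningMap (toRep ρ) (repComap N.subtype σ)

/-- the action of a pair `(g, u)` on the multiplicity space -/
noncomputable def pairOp {d c : ℕ} (ρ : N →* GU' d) (σ : Representation ℂ G (Fin c → ℂ)) {g : G}
    {u : GU' d} (hu : Impl ρ u g) : Module.End ℂ (MulSpace ρ σ) where
  toFun f := ⟨σ g ∘ₗ f.toLinearMap ∘ₗ ((u⁻¹ : GU' d) : Module.End ℂ (Fin d → ℂ)), fun n => LinearMap.ext fun v => by
    have h1 : (u⁻¹ : GU' d) * ρ n = ρ (cn g⁻¹ n) * u⁻¹ := hu.inv.commute_rho n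
    have h2 := DFunLike.congr_fun (congrArg Units.val h1) v
    change σ g (f.toLinearMap (((u⁻¹ : GU' d) : Module.End ℂ (Fin d → ℂ))
        (((ρ n : GU' d) : Module.End ℂ (Fin d → ℂ)) v))) = _
    simp only [Units.val_mul, Module.End.mul_apply] at h2
    rw [h2]
    have h3 := f.isIntertwining (toRep ρ) (repComap N.subtype σ) (cn g⁻¹ n)
      (((u⁻¹ : GU' d) : Module.End ℂ (Fin d → ℂ)) v)
    refine (congrArg (σ g) h3).trans ?_
    simp [repComap, cn, map_mul, mul_assoc]⟩
  map_add' f₁ f₂ := by ext v; simp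
  map_smul' a f := by ext v; simp

lemma pairOp_apply {d c : ℕ} (ρ : N →* GU' d) (σ : Representation ℂ G (Fin c → ℂ)) {g : G}
    {u : GU' d} (hu : Impl ρ u g) (f : MulSpace ρ σ) (v : Fin d → ℂ) :
    (pairOp ρ σ hu f).toLinearMap v =
      σ g (f.toLinearMap (((u⁻¹ : GU' d) : Module.End ℂ (Fin d → ℂ)) v)) := rfl

lemma pairOp_congr {d c : ℕ} (ρ : N →* GU' d) (σ : Representation ℂ G (Fin c → ℂ)) {g g' : G}
    {u u' : GU' d} (hu : Impl ρ u g) (hu' : Impl ρ u' g') (hg : g = g') (huu : u = u') :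
    pairOp ρ σ hu = pairOp ρ σ hu' := by subst hg huu; rfl

lemma pairOp_mul {d c : ℕ} (ρ : N →* GU' d) (σ : Representation ℂ G (Fin c → ℂ)) {g h : G}
    {u v : GU' d} (hu : Impl ρ u g) (hv : Impl ρ v h) :
    pairOp ρ σ hu * pairOp ρ σ hv = pairOp ρ σ (hu.mul hv) := by
  ext f x
  simp [pairOp, map_mul, mul_inv_rev]

lemma pairOp_rho {d c : ℕ} (ρ : N →* GU' d) (σ : Representation ℂ G (Fin c → ℂ)) (n : N) :
    pairOp ρ σ (Impl.rho (ρ := ρ) n) = 1 := by
  refine LinearMap.ext fun f => Representation.IntertwiningMap.ext (LinearMap.ext fun v => ?_)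
  rw [pairOp_apply]
  have h := f.isIntertwining (toRep ρ) (repComap N.subtype σ) n
    ((((ρ n)⁻¹ : GU' d) : Module.End ℂ (Fin d → ℂ)) v)
  refine h.symm.trans ?_
  simp [toRep, ← Module.End.mul_apply]

lemma pairOp_one {d c : ℕ} (ρ : N →* GU' d) (σ : Representation ℂ G (Fin c → ℂ)) :
    pairOp ρ σ (Impl.one (ρ := ρ)) = 1 := by
  rw [← pairOp_rho ρ σ 1]
  exact pairOp_congr ρ σ _ _ (by simp) (by simp)

/-- `pairOp` as a unit -/
noncomputable def pairUnit {d c : ℕ} (ρ : N →* GU' d) (σ : Representation ℂ G (Fin c → ℂ)) {g : G}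
    {u : GU' d} (hu : Impl ρ u g) : (Module.End ℂ (MulSpace ρ σ))ˣ :=
  ⟨pairOp ρ σ hu, pairOp ρ σ hu.inv,
    by rw [pairOp_mul, ← pairOp_one ρ σ]; exact pairOp_congr ρ σ _ _ (by simp) (by simp),
    by rw [pairOp_mul, ← pairOp_one ρ σ]; exact pairOp_congr ρ σ _ _ (by simp) (by simp)⟩

lemma pairOp_scal {d c : ℕ} (ρ : N →* GU' d) (σ : Representation ℂ G (Fin c → ℂ)) {g : G}
    {u : GU' d} (hu : Impl ρ u g) (a : ℂˣ) (hua : Impl ρ (u * scal d a) g) :
    pairOp ρ σ hua = ((a⁻¹ : ℂˣ) : ℂ) • pairOp ρ σ hu := by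
  refine LinearMap.ext fun f => Representation.IntertwiningMap.ext (LinearMap.ext fun v => ?_)
  rw [pairOp_apply, mul_inv_rev, ← map_inv, Units.val_mul, Module.End.mul_apply, scal_val]
  simp [pairOp, map_smul]

/-- The invariant case. -/
theorem mult_dvd_index [Fintype G] [Fintype N] {χ : G → ℂ} (hχ : IsIrrCharacter G χ) {θ : N → ℂ}
    (hθ : IsIrrCharacter N θ)
    (hinv : ∀ (g : G) (n : N), θ ⟨g * n * g⁻¹, hN.conj_mem (n : G) n.2 g⟩ = θ n)
    {e : ℕ} (he : 0 < e) (hres : (fun n : N => χ n) = (e : ℂ) • θ) : e ∣ N.index := by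
  classical
  obtain ⟨d, ρ, hd0, hd, hch, S, hi, hirr⟩ := CharExtension.exists_setup hθ hinv
  obtain ⟨c, σ, hσ, rfl⟩ := hχ
  have hcd : c = e * d := by
    have h := congrFun hres 1
    simp [hd] at h
    exact_mod_cast h
  have hfr : Module.finrank ℂ (MulSpace ρ σ) = e := by
    have h := CharBasicOrth.classInner_character (repComap N.subtype σ) (toRep ρ)
    rw [show (repComap N.subtype σ).character = (e : ℂ) • θ from hres,
      show (toRep ρ).character = θ from hch, CharBasicOrth.classInner_smul_left,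
      CharBasicOrth.classInner_irr_self hθ, mul_one] at h
    exact_mod_cast h.symm
  have : Nontrivial (MulSpace ρ σ) := Module.nontrivial_of_finrank_pos (hfr.symm ▸ he)
  obtain ⟨T, hT⟩ := exists_section hi
  obtain ⟨f, hf1, hf⟩ := index_mem_cobound S hT N le_rfl ρ (fun n => rfl)
  set m := N.index with hm
  have hm0 : 0 < m := Nat.pos_of_ne_zero N.index_ne_zero_of_finite
  choose root hroot using fun a : ℂˣ => CharExtension.exists_root m a hm0
  let r : G → ℂˣ := fun g => if f g = 1 then 1 else root (f g)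
  have hr : ∀ g, r g ^ m = f g := fun g => by
    simp only [r]
    split <;> rename_i hg
    · simp [hg]
    · exact hroot _
  let T' : G → GU' d := fun g => T g * scal d (r g)
  have hT'i : ∀ g, Impl ρ (T' g) g := fun g => S.impl_mul_sc (hT.impl g) _
  have hT'N : ∀ n : N, T' (n : G) = ρ n := fun n => by simp [T', r, hf1, hT.onN]
  have hT'm : ∀ g h, ∃ k : ℂˣ, k ^ m = 1 ∧ T' g * T' h = T' (g * h) * scal d k := by
    intro g h
    obtain ⟨a, ha⟩ := S.exists_eq_mul ((hT.impl g).mul (hT.impl h)) (hT.impl (g * h))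
    refine ⟨a * r g * r h / r (g * h), ?_, ?_⟩
    · have := hf g h a ha
      rw [zpow_natCast] at this
      rw [div_pow, mul_pow, mul_pow, hr, hr, hr, this, div_self']
    · simp only [T']
      rw [mul_assoc (T (g * h)), ← map_mul, mul_div_cancel, ← mul_assoc (T g * scal d (r g)),
        S.comm_left (T g) (T h), ha, map_mul, map_mul]
      simp [mul_assoc]
  let U : G ⧸ N → (Module.End ℂ (MulSpace ρ σ))ˣ := fun q => pairUnit ρ σ (hT'i q.out)
  have hUval : ∀ g : G, ∃ k : ℂˣ, k ^ m = 1 ∧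
      pairOp ρ σ (hT'i g) = (k : ℂ) • (U (QuotientGroup.mk g) : Module.End ℂ (MulSpace ρ σ)) := by
    intro g
    set x : G := Quotient.out (QuotientGroup.mk g : G ⧸ N) with hx
    have hn : x⁻¹ * g ∈ N := QuotientGroup.eq.1 (QuotientGroup.out_eq' _)
    obtain ⟨k, hk, hk2⟩ := hT'm x (x⁻¹ * g)
    rw [show T' (x⁻¹ * g) = ρ ⟨_, hn⟩ from hT'N ⟨_, hn⟩, mul_inv_cancel_left] at hk2
    refine ⟨k, hk, ?_⟩
    have h := pairOp_mul ρ σ (hT'i x) (Impl.rho (ρ := ρ) ⟨_, hn⟩)
    rw [pairOp_rho, mul_one] at h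
    rw [show (U (QuotientGroup.mk g) : Module.End ℂ (MulSpace ρ σ)) = pairOp ρ σ (hT'i x) from rfl,
      h, pairOp_congr ρ σ ((hT'i x).mul (Impl.rho (ρ := ρ) ⟨_, hn⟩))
        (S.impl_mul_sc (hT'i g) k) (mul_inv_cancel_left x g) hk2,
      pairOp_scal ρ σ (hT'i g) k, smul_smul]
    simp
  have hproj : IsProj U m := by
    intro a b
    obtain ⟨k, hk, hk2⟩ := hT'm a.out b.out
    obtain ⟨j, hj, hj2⟩ := hUval (a.out * b.out)
    rw [QuotientGroup.mk_mul, QuotientGroup.out_eq', QuotientGroup.out_eq'] at hj2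
    refine ⟨k⁻¹ * j, by rw [mul_pow, inv_pow, hk, hj]; simp, ?_⟩
    change pairOp ρ σ (hT'i a.out) * pairOp ρ σ (hT'i b.out) = _
    rw [pairOp_mul, pairOp_congr ρ σ _ (S.impl_mul_sc (hT'i (a.out * b.out)) k) rfl hk2,
      pairOp_scal ρ σ (hT'i _) k, hj2, smul_smul, Units.val_mul]
  have hirrU : IsIrred U := by
    intro W hW
    by_cases hW0 : W = ⊥
    · exact Or.inl hW0
    refine Or.inr ?_
    -- evaluation map
    let L : (Fin d → W) →ₗ[ℂ] (Fin c → ℂ) :=
      { toFun := fun fs => ∑ i, (fs i : MulSpace ρ σ).toLinearMap (Pi.single i 1)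
        map_add' := fun a b => by simp [Finset.sum_add_distrib]
        map_smul' := fun a b => by simp [Finset.smul_sum] }
    have hval : ∀ (f : MulSpace ρ σ), f ∈ W → ∀ v, f.toLinearMap v ∈ LinearMap.range L := by
      intro f hf v
      refine ⟨fun i => v i • (⟨f, hf⟩ : W), ?_⟩
      conv_rhs => rw [pi_eq_sum_univ' v, map_sum]
      simp [L, map_smul]
    have hstab : ∀ (g : G) (f : MulSpace ρ σ), f ∈ W → pairOp ρ σ (hT'i g) f ∈ W := by
      intro g f hf
      obtain ⟨k, -, hk⟩ := hUval g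
      rw [hk, LinearMap.smul_apply]
      exact W.smul_mem _ (hW _ f hf)
    have hinvR : ∀ g, ∀ v ∈ LinearMap.range L, σ g v ∈ LinearMap.range L := by
      rintro g v ⟨fs, rfl⟩
      change σ g (∑ i, (fs i : MulSpace ρ σ).toLinearMap (Pi.single i 1)) ∈ LinearMap.range L
      rw [map_sum]
      refine Submodule.sum_mem _ fun i _ => ?_
      have h := hval _ (hstab g _ (fs i).2)
        ((T' g : Module.End ℂ (Fin d → ℂ)) (Pi.single i 1))
      rw [pairOp_apply, ← Module.End.mul_apply (((T' g)⁻¹ : GU' d) : Module.End ℂ (Fin d → ℂ)),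
        Units.inv_mul] at h
      exact h
    have hne : LinearMap.range L ≠ ⊥ := by
      obtain ⟨f, hf, hf0⟩ := Submodule.exists_mem_ne_zero_of_ne_bot hW0
      intro hb
      apply hf0
      refine Representation.IntertwiningMap.ext (LinearMap.ext fun v => ?_)
      have := hval f hf v
      rw [hb, Submodule.mem_bot] at this
      simpa using this
    have htop : LinearMap.range L = ⊤ := by
      rcases eq_bot_or_eq_top (⟨LinearMap.range L, fun g v hv => hinvR g v hv⟩ : Subrepresentation σ) with h | h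
      · exact absurd (congrArg Subrepresentation.toSubmodule h) hne
      · exact congrArg Subrepresentation.toSubmodule h
    have h1 := LinearMap.finrank_range_le L
    rw [htop, finrank_top, Module.finrank_fin_fun, Module.finrank_pi_fintype] at h1
    simp only [Finset.sum_const, Finset.card_univ, Fintype.card_fin, smul_eq_mul,
      mul_one] at h1
    apply Submodule.eq_top_of_finrank_eq
    refine le_antisymm (Submodule.finrank_le W) ?_
    rw [hfr]
    exact Nat.le_of_mul_le_mul_left (((mul_comm d e).trans hcd.symm).le.trans h1) hd0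
  letI : Fintype (G ⧸ N) := Fintype.ofFinite _
  have h := finrank_dvd_card hproj hm0 hirrU
  rwa [hfr, ← Subgroup.index_eq_card] at h

/-- `χ(1)/θ(1)` divides `[G : N]`. -/
theorem degree_dvd [Fintype G] (N : Subgroup G) [N.Normal] [Fintype N] {χ : G → ℂ}
    (hχ : IsIrrCharacter G χ) {θ : N → ℂ} (hθ : IsIrrCharacter N θ)
    (h : classInner (fun n : N => χ n) θ ≠ 0) :
    ∃ (k d : ℕ), θ 1 = d ∧ χ 1 = ((d * k : ℕ) : ℂ) ∧ k ∣ N.index := by
  classical
  obtain ⟨a, ha⟩ := CharBasicOrth.classInner_isCharacter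
    (CharInduced.isCharacter_res N (isCharacter_of_isIrrCharacter hχ))
    (isCharacter_of_isIrrCharacter hθ)
  have ha0 : 0 < a := Nat.pos_of_ne_zero fun e => h (by rw [ha, e, Nat.cast_zero])
  obtain ⟨d, -, hd⟩ := isIrrCharacter_apply_one hθ
  set T := CharInduced.inertia N θ with hT
  have hNT : N ≤ T := CharInduced.le_inertia N (CharInduced.isClassFunction_irr hθ)
  obtain ⟨ψ, hψ, hind, hψN⟩ := CharCliffordCorr.clifford_correspondence N hχ hθ h T hT hNT
  refine ⟨T.index * a, d, hd, ?_, ?_⟩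
  · rw [CharCliffordCorr.apply_one_eq N hχ hθ h, ha, hd, ← hT]
    push_cast; ring
  · let e : N.subgroupOf T ≃* N := Subgroup.subgroupOfEquivOfLe hNT
    have hθ' : IsIrrCharacter (N.subgroupOf T) (θ ∘ e.toMonoidHom) :=
      isIrrCharacter_comap e.toMonoidHom e.surjective hθ
    have hres : (fun x : N.subgroupOf T => ψ x) = (a : ℂ) • (θ ∘ e.toMonoidHom) := by
      funext x
      have h1 := congrFun hψN (e x)
      rw [ha] at h1
      exact h1
    have h2 := mult_dvd_index hψ hθ'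
      (fun t x => (CharInduced.mem_inertia_iff N).1 t.2 (e x)) ha0 hres
    rw [← Subgroup.relIndex] at h2
    rw [← Subgroup.relIndex_mul_index hNT, mul_comm]
    exact mul_dvd_mul h2 dvd_rfl

end Cfsg.Agent.CharProjDegree
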