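import Mathlib
import Cfsg.Agent.Lib.CharBasicDecomp
import Cfsg.Agent.Lib.CharInducedBasic

/-!
# Degree divisibility: centre and Itô's theorem
-/

set_option autoImplicit false

open scoped ComplexConjugate

namespace Cfsg.Agent.DegreeDvd

open Cfsg.Agent

universe u v

variable {G : Type u} [Group G] [Finite G] {V : Type v} [AddCommGroup V] [Module ℂ V] [FiniteDimensional ℂ V]

/-- The central character of an irreducible representation at an element is an algebraic integer. -/
theorem isIntegral_central (ρ : Representation ℂ G V) [ρ.IsIrreducible] (g : G) :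
    IsIntegral ℤ ((Nat.card {x : G // IsConj g x} : ℂ) * ρ.character g / (Module.finrank ℂ V : ℂ)) := by
  classical
  haveI := Fintype.ofFinite G
  set s : Finset G := Finset.univ.filter (fun x => IsConj g x) with hs
  set T : Module.End ℂ V := ∑ x ∈ s, ρ x with hT
  have hcomm : ∀ h v, T (ρ h v) = ρ h (T v) := by
    intro h v
    simp only [hT, LinearMap.sum_apply, map_sum, ← Module.End.mul_apply, ← map_mul]
    refine Finset.sum_equiv (MulAut.conj h⁻¹).toEquiv (fun x => ?_) (fun x _ => ?_)
    · simp only [hs, Finset.mem_filter, Finset.mem_univ, true_and]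
      have : IsConj x ((MulAut.conj h⁻¹).toEquiv x) := isConj_iff.2 ⟨h⁻¹, by simp⟩
      exact ⟨fun e => e.trans this, fun e => e.trans this.symm⟩
    · congr 2; simp [mul_assoc]
  obtain ⟨c, hc, htr⟩ := CharBasic.exists_scalar_of_commute ρ T hcomm
  have hval : (Nat.card {x : G // IsConj g x} : ℂ) * ρ.character g = (Module.finrank ℂ V : ℂ) * c := by
    rw [← htr, hT, map_sum, Finset.sum_congr rfl (g := fun _ => ρ.character g) (fun x hx => by
      obtain ⟨a, rfl⟩ := isConj_iff.1 (Finset.mem_filter.1 hx).2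
      exact Representation.char_conj ρ g a), Finset.sum_const, nsmul_eq_mul, Nat.card_eq_fintype_card,
      Fintype.card_subtype, hs]
  have hn : (Module.finrank ℂ V : ℂ) ≠ 0 := Nat.cast_ne_zero.2 (CharBasic.finrank_pos_of_irreducible ρ).ne'
  rw [hval, mul_div_cancel_left₀ _ hn]
  let L := MonoidAlgebra.lift ℤ (Module.End ℂ V) G ρ
  have hz : L (∑ x ∈ s, MonoidAlgebra.of ℤ G x) = algebraMap ℂ (Module.End ℂ V) c := by
    rw [map_sum]
    simp only [L, MonoidAlgebra.lift_of]
    rw [← hT, hc, Algebra.algebraMap_eq_smul_one]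
    rfl
  have hint : IsIntegral ℤ (algebraMap ℂ (Module.End ℂ V) c) :=
    hz ▸ (IsIntegral.of_finite ℤ _).map L
  haveI := CharBasic.nontrivial_of_irreducible ρ
  exact (isIntegral_algHom_iff (Algebra.ofId ℂ (Module.End ℂ V) |>.restrictScalars ℤ)
    (algebraMap ℂ (Module.End ℂ V)).injective).1 hint

/-- A natural number whose quotient by `d` is an algebraic integer is divisible by `d`. -/
theorem dvd_of_isIntegral_div {n d : ℕ} (hd : d ≠ 0) (h : IsIntegral ℤ ((n : ℂ) / d)) : d ∣ n := by
  have h' : IsIntegral ℤ ((n : ℚ) / d) := by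
    refine (isIntegral_algebraMap_iff (B := ℂ) (algebraMap ℚ ℂ).injective).1 ?_
    simpa using h
  obtain ⟨k, hk⟩ := IsIntegrallyClosed.isIntegral_iff.1 h'
  have hk' : (k : ℚ) = (n : ℚ) / d := by simpa using hk
  have h2 : ((n : ℤ) : ℚ) = ((d : ℤ) * k : ℤ) := by
    push_cast
    rw [hk', mul_div_cancel₀ _ (by exact_mod_cast hd)]
  exact Int.natCast_dvd_natCast.1 ⟨k, by exact_mod_cast h2⟩

/-- Faithful case: the degree divides the index of a subgroup acting by scalars. -/
theorem finrank_dvd_index_faithful (ρ : Representation ℂ G V) [ρ.IsIrreducible]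
    (hf : ∀ g, ρ g = 1 → g = 1) (Z : Subgroup G) (hsc : ∀ z ∈ Z, ∃ c : ℂ, ρ z = c • LinearMap.id) :
    Module.finrank ℂ V ∣ Z.index := by
  classical
  haveI := Fintype.ofFinite G
  have hinj : ∀ a b, ρ a = ρ b → a = b := fun a b h => by
    refine eq_of_inv_mul_eq_one (hf _ ?_) |>.symm |> Eq.symm
    rw [map_mul, ← h, ← map_mul, inv_mul_cancel, map_one]
  have hcen : ∀ z ∈ Z, ∀ g, z * g = g * z := by
    intro z hz g
    obtain ⟨c, hc⟩ := hsc z hz
    exact hinj _ _ (by rw [map_mul, map_mul, hc]; ext v; simp)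
  haveI : Z.Normal := ⟨fun z hz g => by rw [← hcen z hz g, mul_assoc, mul_inv_cancel, mul_one]; exact hz⟩
  haveI := Fintype.ofFinite (G ⧸ Z)
  haveI := Fintype.ofFinite (ConjClasses (G ⧸ Z))
  set f : G → ℂ := fun g => ρ.character g * conj (ρ.character g) with hfdef
  have hfz : ∀ z ∈ Z, ∀ g, f (z * g) = f g := by
    intro z hz g
    obtain ⟨c, hc⟩ := hsc z hz
    have h1 : ρ.character (z * g) = c * ρ.character g := by
      simp only [Representation.character, map_mul, hc]
      rw [show (c • LinearMap.id : Module.End ℂ V) * ρ g = c • ρ g from by ext v; simp, map_smul, smul_eq_mul]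
    have hn : ρ.character z = (Module.finrank ℂ V : ℂ) * c := by
      rw [Representation.character, hc, map_smul, LinearMap.trace_id, smul_eq_mul, mul_comm]
    have h2 : ‖ρ.character z‖ = (Module.finrank ℂ V : ℝ) :=
      (CharBasic.norm_eq_finrank_iff ρ z).2 ⟨c, hc⟩
    rw [hn, norm_mul, Complex.norm_natCast] at h2
    have h3 : ‖c‖ = 1 := by
      have h4 : (0 : ℝ) < Module.finrank ℂ V := by exact_mod_cast CharBasic.finrank_pos_of_irreducible ρ
      exact mul_left_cancel₀ h4.ne' (by rw [mul_one]; exact h2)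
    simp only [hfdef, Complex.mul_conj', h1, norm_mul, h3, one_mul]
  have hfc : ∀ a g, f (a * g * a⁻¹) = f g := fun a g => by simp only [hfdef, Representation.char_conj]
  have hfq : ∀ g : G, f (g : G ⧸ Z).out = f g := by
    intro g
    obtain ⟨z, hz⟩ := QuotientGroup.mk_out_eq_mul Z g
    rw [hz, ← hcen z z.2 g, hfz z z.2]
  -- sum over the quotient
  have h1 : ∑ g : G, f g = (Nat.card Z : ℂ) * ∑ q : G ⧸ Z, f q.out := by
    rw [← Equiv.sum_comp (Subgroup.groupEquivQuotientProdSubgroup (s := Z)).symm f, Fintype.sum_prod_type,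
      Finset.mul_sum]
    refine Finset.sum_congr rfl fun q _ => ?_
    rw [Finset.sum_congr rfl (g := fun _ => f q.out), Finset.sum_const, Finset.card_univ,
      nsmul_eq_mul, ← Nat.card_eq_fintype_card]
    intro z _
    show f (Subgroup.groupEquivQuotientProdSubgroup.symm (q, z)) = f q.out
    rw [← hfq (Subgroup.groupEquivQuotientProdSubgroup.symm (q, z))]
    have := congrArg Prod.fst (Subgroup.groupEquivQuotientProdSubgroup.apply_symm_apply (q, z))
    exact congrArg (fun x : G ⧸ Z => f x.out) this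
  have h2 : ∑ g : G, f g = (Nat.card G : ℂ) := by
    have := CharBasicOrth.classInner_character_irreducible_self ρ
    rw [← CharBasicOrth.card_mul_classInner, this, mul_one]
  have h3 : (Z.index : ℂ) = ∑ q : G ⧸ Z, f q.out := by
    have hne : (Nat.card Z : ℂ) ≠ 0 := Nat.cast_ne_zero.2 Nat.card_pos.ne'
    apply mul_left_cancel₀ hne
    rw [← h1, h2, ← Nat.cast_mul, Subgroup.card_mul_index]
  -- each class of the quotient contributes a multiple of the degree
  have hd : (Module.finrank ℂ V : ℂ) ≠ 0 := Nat.cast_ne_zero.2 (CharBasic.finrank_pos_of_irreducible ρ).ne'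
  refine dvd_of_isIntegral_div (CharBasic.finrank_pos_of_irreducible ρ).ne' ?_
  rw [h3, ← Finset.sum_fiberwise Finset.univ (ConjClasses.mk : G ⧸ Z → ConjClasses (G ⧸ Z)), Finset.sum_div]
  refine IsIntegral.sum _ fun C _ => ?_
  obtain ⟨q₀, rfl⟩ := ConjClasses.exists_rep C
  obtain ⟨g, rfl⟩ := QuotientGroup.mk_surjective q₀
  have hsame : ∀ q ∈ Finset.univ.filter (fun q : G ⧸ Z => ConjClasses.mk q = ConjClasses.mk (g : G ⧸ Z)),
      f q.out = f g := by
    intro q hq
    have hq' : IsConj (g : G ⧸ Z) q := ((ConjClasses.mk_eq_mk_iff_isConj).1 (Finset.mem_filter.1 hq).2).symm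
    obtain ⟨a, rfl⟩ := isConj_iff.1 hq'
    obtain ⟨a, rfl⟩ := QuotientGroup.mk_surjective a
    rw [← QuotientGroup.mk_inv, ← QuotientGroup.mk_mul, ← QuotientGroup.mk_mul, hfq, hfc]
  rw [Finset.sum_congr rfl hsame, Finset.sum_const, nsmul_eq_mul]
  by_cases hg : ρ.character g = 0
  · simp [hfdef, hg, isIntegral_zero]
  have hcard : (Finset.univ.filter (fun q : G ⧸ Z => ConjClasses.mk q = ConjClasses.mk (g : G ⧸ Z))).card =
      Nat.card {x : G // IsConj g x} := by
    rw [← Fintype.card_subtype, ← Nat.card_eq_fintype_card]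
    symm
    refine Nat.card_eq_of_bijective (fun x => ⟨(x.1 : G ⧸ Z), ?_⟩) ⟨?_, ?_⟩
    · exact (ConjClasses.mk_eq_mk_iff_isConj.2 ((QuotientGroup.mk' Z).map_isConj x.2)).symm
    · rintro ⟨x, hx⟩ ⟨y, hy⟩ hxy
      have hmem : x⁻¹ * y ∈ Z := QuotientGroup.eq.1 (congrArg Subtype.val hxy)
      obtain ⟨c, hc⟩ := hsc _ hmem
      have hxv : ρ.character x = ρ.character g := by
        obtain ⟨a, rfl⟩ := isConj_iff.1 hx; exact Representation.char_conj ρ g a
      have hyv : ρ.character y = ρ.character g := by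
        obtain ⟨a, rfl⟩ := isConj_iff.1 hy; exact Representation.char_conj ρ g a
      have h4 : ρ.character y = c * ρ.character x := by
        conv_lhs => rw [← mul_inv_cancel_left x y]
        simp only [Representation.character, map_mul, hc]
        rw [show ρ x * (c • LinearMap.id : Module.End ℂ V) = c • ρ x from by ext v; simp, map_smul, smul_eq_mul]
      rw [hxv, hyv] at h4
      have hc1 : c = 1 := (mul_eq_right₀ hg).1 h4.symm
      have : x⁻¹ * y = 1 := hf _ (by rw [hc, hc1, one_smul]; rfl)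
      exact Subtype.ext (inv_mul_eq_one.1 this)
    · rintro ⟨q, hq⟩
      obtain ⟨a, ha⟩ := isConj_iff.1 (ConjClasses.mk_eq_mk_iff_isConj.1 hq).symm
      obtain ⟨a, rfl⟩ := QuotientGroup.mk_surjective a
      exact ⟨⟨a * g * a⁻¹, isConj_iff.2 ⟨a, rfl⟩⟩, Subtype.ext ha⟩
  rw [hcard]
  have h5 : IsIntegral ℤ (conj (ρ.character g)) := by
    rw [← CharBasic.character_inv]; exact CharBasic.isIntegral_character ρ g⁻¹
  have := (isIntegral_central ρ g).mul h5
  rw [div_mul_eq_mul_div, mul_assoc] at this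
  exact this

/-- The degree divides the index of any subgroup acting by scalars. -/
theorem finrank_dvd_index (ρ : Representation ℂ G V) [ρ.IsIrreducible] (Z : Subgroup G)
    (hsc : ∀ z ∈ Z, ∃ c : ℂ, ρ z = c • LinearMap.id) : Module.finrank ℂ V ∣ Z.index := by
  let K : Subgroup G := MonoidHom.ker (ρ : G →* Module.End ℂ V)
  haveI : K.Normal := MonoidHom.normal_ker _
  let σ : Representation ℂ (G ⧸ K) V := QuotientGroup.lift K (ρ : G →* Module.End ℂ V) le_rfl
  have hσ : ∀ g : G, σ (g : G ⧸ K) = ρ g := fun g => rfl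
  have e : Subrepresentation σ ≃o Subrepresentation ρ :=
    { toFun := fun U => ⟨U.toSubmodule, fun g v hv => U.apply_mem_toSubmodule (g : G ⧸ K) hv⟩
      invFun := fun U => ⟨U.toSubmodule, fun q v hv => by
        obtain ⟨g, rfl⟩ := QuotientGroup.mk_surjective q
        exact U.apply_mem_toSubmodule g hv⟩
      left_inv := fun U => rfl
      right_inv := fun U => rfl
      map_rel_iff' := Iff.rfl }
  haveI : σ.IsIrreducible := e.isSimpleOrder_iff.2 inferInstance
  have := finrank_dvd_index_faithful σ (fun q hq => by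
      obtain ⟨g, rfl⟩ := QuotientGroup.mk_surjective q
      exact (QuotientGroup.eq_one_iff g).2 hq) (Z.map (QuotientGroup.mk' K))
    (by rintro _ ⟨z, hz, rfl⟩; exact hsc z hz)
  exact this.trans (Subgroup.index_map_dvd _ (QuotientGroup.mk'_surjective K))

theorem finrank_dvd_card (ρ : Representation ℂ G V) [ρ.IsIrreducible] : Module.finrank ℂ V ∣ Nat.card G :=
  Subgroup.index_bot (G := G) ▸ finrank_dvd_index ρ ⊥ (fun z hz => ⟨1, by
    rw [Subgroup.mem_bot.1 hz, map_one, one_smul]; rfl⟩)

/-- The irreducible constituents `ψ` of a character with `ψ 1 ≠ 0`. -/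
theorem exists_irr_inner_ne_zero [Fintype G] {H : Subgroup G} [Fintype H] {θ : H → ℂ}
    {χ : G → ℂ} (hχ : Cfsg.IsIrrCharacter G χ) (hθ : Cfsg.IsIrrCharacter H θ)
    (h : Cfsg.classInner (fun x : H => χ x) θ ≠ 0) :
    (χ 1).re ≤ (H.index : ℝ) * (θ 1).re := by
  classical
  have hχc := CharBasic.isClassFunction_of_isCharacter (CharBasic.isCharacter_of_isIrrCharacter hχ)
  have hres : ∀ ψ : Cfsg.IrrCharacter G, Cfsg.IsCharacter H (fun x : H => (ψ : G → ℂ) x) := fun ψ =>
    CharBasic.isCharacter_comap H.subtype (CharBasic.isCharacter_of_isIrrCharacter ψ.2)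
  choose m hm using fun ψ : Cfsg.IrrCharacter G =>
    CharBasicOrth.classInner_isCharacter (CharBasic.isCharacter_of_isIrrCharacter hθ) (hres ψ)
  have hco : ∀ ψ : Cfsg.IrrCharacter G, Cfsg.classInner (Cfsg.indFun H θ) (ψ : G → ℂ) = m ψ := fun ψ => by
    rw [CharInduced.inner_ind_left H θ
      (CharBasic.isClassFunction_of_isCharacter (CharBasic.isCharacter_of_isIrrCharacter ψ.2)), hm]
  have hexp := congrFun (CharBasicOrth.eq_sum_classInner (CharInduced.isClassFunction_ind H θ)) 1
  simp only [Finset.sum_apply, Pi.smul_apply, smul_eq_mul, hco, CharInduced.ind_one_apply] at hexp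
  have hmne : m ⟨χ, hχ⟩ ≠ 0 := by
    intro h0
    apply h
    rw [← CharBasicOrth.conj_classInner, hm ⟨χ, hχ⟩, h0]; simp
  have hre := congrArg Complex.re hexp
  obtain ⟨n, -, hn⟩ := CharBasic.isIrrCharacter_apply_one hθ
  rw [hn, ← Nat.cast_mul, Complex.natCast_re, Complex.re_sum, Nat.cast_mul] at hre
  rw [hn, Complex.natCast_re, hre]
  refine le_trans ?_ (Finset.single_le_sum (f := fun ψ : Cfsg.IrrCharacter G => ((m ψ : ℂ) * (ψ : G → ℂ) 1).re)
    (fun ψ _ => ?_) (Finset.mem_univ ⟨χ, hχ⟩))
  · obtain ⟨k, -, hk⟩ := CharBasic.isIrrCharacter_apply_one hχ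
    show (χ 1).re ≤ ((m ⟨χ, hχ⟩ : ℂ) * χ 1).re
    rw [hk, ← Nat.cast_mul, Complex.natCast_re, Complex.natCast_re]
    exact_mod_cast Nat.le_mul_of_pos_left _ (Nat.pos_of_ne_zero hmne)
  · obtain ⟨k, -, hk⟩ := CharBasic.isIrrCharacter_apply_one ψ.2
    simp only [hk, ← Nat.cast_mul, Complex.natCast_re]
    positivity

/-- An irreducible character of an abelian group is a homomorphism. -/
theorem irr_comm_hom {A : Type u} [Group A] [Finite A] (hA : ∀ a b : A, a * b = b * a) {θ : A → ℂ}
    (hθ : Cfsg.IsIrrCharacter A θ) : θ 1 = 1 ∧ ∀ a b, θ (a * b) = θ a * θ b := by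
  obtain ⟨n, ρ, hρ, rfl⟩ := hθ
  have hsc : ∀ z : A, ∃ c : ℂ, ρ z = c • LinearMap.id := fun z =>
    CharBasic.exists_scalar_of_mem_center ρ (Subgroup.mem_center_iff.2 fun g => hA g z)
  have h1 := finrank_dvd_index ρ ⊤ (fun z _ => hsc z)
  rw [Subgroup.index_top, Nat.dvd_one] at h1
  refine ⟨by rw [Representation.char_one, h1, Nat.cast_one], fun a b => ?_⟩
  obtain ⟨c, hc⟩ := hsc a
  obtain ⟨d, hd⟩ := hsc b
  simp only [Representation.character, map_mul, hc, hd]
  rw [show ((c • LinearMap.id : Module.End ℂ (Fin n → ℂ)) * (d • LinearMap.id)) = (c * d) • LinearMap.id from by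
    ext v; simp [mul_assoc, mul_left_comm]]
  simp only [map_smul, LinearMap.trace_id, h1, smul_eq_mul, Nat.cast_one, mul_one]

/-- Constituents on an abelian normal subgroup form a single orbit, with constant multiplicity. -/
theorem clifford_abelian [Fintype G] {A : Subgroup G} [A.Normal] [Fintype A]
    (hA : ∀ a b : A, a * b = b * a) {χ : G → ℂ} (hχ : Cfsg.IsIrrCharacter G χ)
    {θ : A → ℂ} (hθ : Cfsg.IsIrrCharacter A θ) (e : ℕ) (he : Cfsg.classInner (fun a : A => χ a) θ = e)
    (hne : e ≠ 0) :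
    (∀ μ : Cfsg.IrrCharacter A, Cfsg.classInner (fun a : A => χ a) μ ≠ 0 → ∃ x : G, CharInduced.conjFun A θ x = μ) ∧
      (∀ a : A, χ a = (e : ℂ) * ∑ᶠ f : Set.range (CharInduced.conjFun A θ), (f : A → ℂ) a) := by
  classical
  have hχc := CharBasic.isClassFunction_of_isCharacter (CharBasic.isCharacter_of_isIrrCharacter hχ)
  have hres : ∀ ψ : Cfsg.IrrCharacter G, Cfsg.IsCharacter A (fun a : A => (ψ : G → ℂ) a) := fun ψ =>
    CharBasic.isCharacter_comap A.subtype (CharBasic.isCharacter_of_isIrrCharacter ψ.2)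
  have hconj : ∀ x : G, Cfsg.IsIrrCharacter A (CharInduced.conjFun A θ x) := fun x => by
    have := CharBasic.isIrrCharacter_comap (MulAut.conjNormal (H := A) x).toMonoidHom
      (MulAut.conjNormal (H := A) x).surjective hθ
    convert this using 1
    funext a
    simp only [CharInduced.conjFun, Function.comp_apply, MulEquiv.coe_toMonoidHom]
    exact congrArg θ (Subtype.ext (MulAut.conjNormal_apply x a).symm)
  have horb : ∀ μ : Cfsg.IrrCharacter A, Cfsg.classInner (fun a : A => χ a) μ ≠ 0 →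
      ∃ x : G, CharInduced.conjFun A θ x = μ := by
    intro μ hμ
    by_contra hno
    push Not at hno
    choose m hm using fun ψ : Cfsg.IrrCharacter G =>
      CharBasicOrth.classInner_isCharacter (CharBasic.isCharacter_of_isIrrCharacter hθ) (hres ψ)
    choose d hd using fun ψ : Cfsg.IrrCharacter G =>
      CharBasicOrth.classInner_isCharacter (hres ψ) (CharBasic.isCharacter_of_isIrrCharacter μ.2)
    have hzero : Cfsg.classInner (fun a : A => Cfsg.indFun A θ a) μ = 0 := by
      rw [CharInduced.res_ind_normal, CharInduced.inner_smul_left, CharInduced.inner_sum_left]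
      rw [Finset.sum_eq_zero fun x _ => CharBasicOrth.classInner_irr_ne (hconj x) μ.2 (hno x), mul_zero]
    have hexp : (fun a : A => Cfsg.indFun A θ a) =
        ∑ ψ : Cfsg.IrrCharacter G, (m ψ : ℂ) • (fun a : A => (ψ : G → ℂ) a) := by
      funext a
      have := congrFun (CharBasicOrth.eq_sum_classInner (CharInduced.isClassFunction_ind A θ)) (a : G)
      simp only [Finset.sum_apply, Pi.smul_apply] at this ⊢
      rw [this]
      refine Finset.sum_congr rfl fun ψ _ => ?_
      rw [CharInduced.inner_ind_left A θ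
        (CharBasic.isClassFunction_of_isCharacter (CharBasic.isCharacter_of_isIrrCharacter ψ.2)), hm]
    rw [hexp, CharInduced.inner_sum_left] at hzero
    simp only [CharInduced.inner_smul_left, hd, ← Nat.cast_mul, ← Nat.cast_sum, Nat.cast_eq_zero,
      Finset.sum_eq_zero_iff, Finset.mem_univ, forall_const, mul_eq_zero] at hzero
    rcases hzero ⟨χ, hχ⟩ with h | h
    · have := hm ⟨χ, hχ⟩
      rw [h, Nat.cast_zero, ← CharBasicOrth.conj_classInner] at this
      simp only [map_eq_zero] at this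
      rw [he, Nat.cast_eq_zero] at this
      exact hne this
    · exact hμ (by rw [hd ⟨χ, hχ⟩, h, Nat.cast_zero])
  refine ⟨horb, fun a => ?_⟩
  have hinv : ∀ x : G, Cfsg.classInner (fun a : A => χ a) (CharInduced.conjFun A θ x) = e := by
    intro x
    have hfix : CharInduced.conjFun A (fun a : A => χ a) x = fun a : A => χ a := funext fun a => hχc a x
    conv_lhs => rw [← hfix]
    rw [CharInduced.inner_conjFun, he]
  have := congrFun (CharBasicOrth.eq_sum_classInner
    (CharBasic.isClassFunction_of_isCharacter (hres ⟨χ, hχ⟩))) a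
  simp only [Finset.sum_apply, Pi.smul_apply, smul_eq_mul] at this
  rw [this]
  let R : Set (A → ℂ) := Set.range (CharInduced.conjFun A θ)
  rw [← Finset.sum_subset (Finset.subset_univ (Finset.univ.filter fun μ : Cfsg.IrrCharacter A => (μ : A → ℂ) ∈ R))
    (fun μ _ hμ => by
      have : Cfsg.classInner (fun a : A => χ a) μ = 0 := by
        by_contra h0
        obtain ⟨x, hx⟩ := horb μ h0
        exact hμ (Finset.mem_filter.2 ⟨Finset.mem_univ _, x, hx⟩)
      rw [this, zero_mul])]
  rw [finsum_eq_sum_of_fintype, Finset.mul_sum]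
  refine Finset.sum_bij (fun μ hμ => ⟨μ.1, (Finset.mem_filter.1 hμ).2⟩) (fun _ _ => Finset.mem_univ _)
    (fun μ _ ν _ h => Subtype.ext (Subtype.mk.inj h)) ?_ ?_
  · rintro ⟨f, x, rfl⟩ _
    exact ⟨⟨_, hconj x⟩, Finset.mem_filter.2 ⟨Finset.mem_univ _, x, rfl⟩, rfl⟩
  · intro μ hμ
    obtain ⟨x, hx⟩ := (Finset.mem_filter.1 hμ).2
    show Cfsg.classInner (fun a : A => χ a) (μ : A → ℂ) * (μ : A → ℂ) a = _
    rw [← hx, hinv x]

/-- Itô's theorem for characters: the degree divides the index of an abelian normal subgroup. -/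
theorem degree_dvd_index_abelian {χ : G → ℂ} (hχ : Cfsg.IsIrrCharacter G χ) (A : Subgroup G) [A.Normal]
    (hA : ∀ a b : A, a * b = b * a) : ∃ n : ℕ, 0 < n ∧ χ 1 = n ∧ n ∣ A.index := by
  classical
  haveI := Fintype.ofFinite G
  have hres : Cfsg.IsCharacter A (fun a : A => χ a) :=
    CharBasic.isCharacter_comap A.subtype (CharBasic.isCharacter_of_isIrrCharacter hχ)
  obtain ⟨n, hn0, hn⟩ := CharBasic.isIrrCharacter_apply_one hχ
  obtain ⟨c, hc, hsum⟩ := CharBasicDecomp.exists_mult hres
  have hex : ∃ θ, c θ ≠ 0 := by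
    by_contra h0
    push Not at h0
    have := congrFun hsum 1
    simp [h0, hn] at this
    omega
  obtain ⟨θ, hθ⟩ := hex
  set e := c θ with he_def
  obtain ⟨horb, hval⟩ := clifford_abelian hA hχ θ.2 e (hc θ) hθ
  -- stabiliser
  let T : Subgroup G :=
    { carrier := {x | CharInduced.conjFun A (θ : A → ℂ) x = θ}
      one_mem' := CharInduced.conjFun_one A _
      mul_mem' := fun {x y} hx hy => by
        simp only [Set.mem_setOf_eq] at hx hy ⊢
        rw [← CharInduced.conjFun_conjFun, hx, hy]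
      inv_mem' := fun {x} hx => by
        simp only [Set.mem_setOf_eq] at hx ⊢
        conv_lhs => rw [← hx]
        rw [CharInduced.conjFun_conjFun, mul_inv_cancel, CharInduced.conjFun_one] }
  have hAT : A ≤ T := fun a ha =>
    CharInduced.conjFun_mem_eq A (CharBasic.isClassFunction_of_isCharacter
      (CharBasic.isCharacter_of_isIrrCharacter θ.2)) ha
  -- size of the orbit
  have horbcard : Nat.card (Set.range (CharInduced.conjFun A (θ : A → ℂ))) = T.index := by
    refine (Nat.card_eq_of_bijective (fun q : G ⧸ T => Quotient.liftOn' q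
      (fun x => (⟨CharInduced.conjFun A θ x⁻¹, x⁻¹, rfl⟩ : Set.range (CharInduced.conjFun A (θ : A → ℂ))))
      ?_) ⟨?_, ?_⟩).symm
    · intro x y h
      rw [QuotientGroup.leftRel_apply] at h
      apply Subtype.ext
      show CharInduced.conjFun A (θ : A → ℂ) x⁻¹ = CharInduced.conjFun A θ y⁻¹
      have h' : CharInduced.conjFun A (θ : A → ℂ) (x⁻¹ * y) = θ := h
      conv_rhs => rw [← h', CharInduced.conjFun_conjFun, mul_assoc, mul_inv_cancel, mul_one]
    · intro q r h
      induction q using QuotientGroup.induction_on with | _ x => ?_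
      induction r using QuotientGroup.induction_on with | _ y => ?_
      apply QuotientGroup.eq.2
      have h' : CharInduced.conjFun A (θ : A → ℂ) x⁻¹ = CharInduced.conjFun A θ y⁻¹ := congrArg Subtype.val h
      show CharInduced.conjFun A (θ : A → ℂ) (x⁻¹ * y) = θ
      rw [← CharInduced.conjFun_conjFun, h', CharInduced.conjFun_conjFun, inv_mul_cancel, CharInduced.conjFun_one]
    · rintro ⟨f, x, rfl⟩
      exact ⟨((x⁻¹ : G) : G ⧸ T), by simp [Quotient.liftOn'_mk'']⟩
  have hdeg : n = T.index * e := by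
    have hthone : ∀ f : Set.range (CharInduced.conjFun A (θ : A → ℂ)), (f : A → ℂ) 1 = 1 := by
      rintro ⟨f, x, rfl⟩
      simp only [CharInduced.conjFun]
      refine Eq.trans (congrArg _ (Subtype.ext (by simp))) (irr_comm_hom hA θ.2).1
    have := hval 1
    rw [finsum_congr hthone, finsum_eq_sum_of_fintype, Finset.sum_const, Finset.card_univ, nsmul_eq_mul,
      ← Nat.card_eq_fintype_card, horbcard] at this
    simp only [OneMemClass.coe_one, hn, mul_one, ← Nat.cast_mul, Nat.cast_inj] at this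
    rw [this, mul_comm]
  -- a constituent on the stabiliser
  haveI : Fintype T := Fintype.ofFinite T
  let B : Subgroup T := A.subgroupOf T
  haveI : Fintype B := Fintype.ofFinite B
  let eqv : B ≃* A := Subgroup.subgroupOfEquivOfLe hAT
  have hBA : ∀ a b : B, a * b = b * a := fun a b => eqv.injective (by rw [map_mul, map_mul, hA])
  have hθB : Cfsg.IsIrrCharacter B ((θ : A → ℂ) ∘ eqv) :=
    CharBasic.isIrrCharacter_comap eqv.toMonoidHom eqv.surjective θ.2
  have hresT : Cfsg.IsCharacter T (fun t : T => χ t) :=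
    CharBasic.isCharacter_comap T.subtype (CharBasic.isCharacter_of_isIrrCharacter hχ)
  obtain ⟨m, hm, hmsum⟩ := CharBasicDecomp.exists_mult hresT
  choose d hd using fun ψ : Cfsg.IrrCharacter T => CharBasicOrth.classInner_isCharacter
    (CharBasic.isCharacter_comap B.subtype (CharBasic.isCharacter_of_isIrrCharacter ψ.2))
    (CharBasic.isCharacter_of_isIrrCharacter hθB)
  have hesum : e = ∑ ψ, m ψ * d ψ := by
    have h1 : (e : ℂ) = Cfsg.classInner (fun b : B => χ ((b : T) : G)) ((θ : A → ℂ) ∘ eqv) := by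
      rw [← hc θ]
      exact (CharBasicOrth.classInner_congr_equiv eqv (fun a : A => χ a) θ).symm
    have h2 : (fun b : B => χ ((b : T) : G)) = ∑ ψ : Cfsg.IrrCharacter T, (m ψ : ℂ) • ((ψ : T → ℂ) ∘ B.subtype) := by
      funext b
      have := congrFun hmsum (b : T)
      simpa [Finset.sum_apply] using this
    rw [h2, CharInduced.inner_sum_left] at h1
    simp only [CharInduced.inner_smul_left, hd, ← Nat.cast_mul, ← Nat.cast_sum, Nat.cast_inj] at h1
    exact h1
  obtain ⟨ψ, -, hψ⟩ := Finset.exists_ne_zero_of_sum_ne_zero (hesum ▸ hθ)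
  obtain ⟨hmψ, hdψ⟩ := mul_ne_zero_iff.1 hψ
  obtain ⟨horb', hval'⟩ := clifford_abelian hBA ψ.2 hθB (d ψ) (hd ψ) hdψ
  have hfixT : ∀ t : T, CharInduced.conjFun B ((θ : A → ℂ) ∘ eqv) t = (θ : A → ℂ) ∘ eqv := by
    intro t
    funext b
    have := congrFun t.2 (eqv b)
    simp only [CharInduced.conjFun, Function.comp_apply] at this ⊢
    rw [← this]
    exact congrArg _ (Subtype.ext rfl)
  letI : Unique (Set.range (CharInduced.conjFun B ((θ : A → ℂ) ∘ eqv))) :=
    { default := ⟨_, 1, hfixT 1⟩
      uniq := by rintro ⟨f, t, rfl⟩; exact Subtype.ext (hfixT t) }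
  have hψval : ∀ b : B, (ψ : T → ℂ) b = (d ψ : ℂ) * (θ : A → ℂ) (eqv b) := fun b => by
    rw [hval' b, finsum_unique]
    rfl
  obtain ⟨k, σ, hσ, hσc⟩ := ψ.2
  have hk : k = d ψ := by
    have h1 := hψval 1
    rw [map_one, (irr_comm_hom hA θ.2).1, mul_one, OneMemClass.coe_one, ← hσc, Representation.char_one,
      Module.finrank_fin_fun] at h1
    exact_mod_cast h1
  have hkdvd : k ∣ B.index := by
    have := finrank_dvd_index σ B (fun z hz => (CharBasic.norm_eq_finrank_iff σ z).1 (by
      rw [hσc, show (ψ : T → ℂ) z = (d ψ : ℂ) * (θ : A → ℂ) (eqv ⟨z, hz⟩) from hψval ⟨z, hz⟩, norm_mul,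
        Complex.norm_natCast, Module.finrank_fin_fun, hk]
      have h3 : ∀ a : A, ‖(θ : A → ℂ) a‖ = 1 := by
        intro a
        obtain ⟨h1, hmul⟩ := irr_comm_hom hA θ.2
        refine Complex.norm_eq_one_of_pow_eq_one (n := orderOf a) ?_ (isOfFinOrder_of_finite a).orderOf_pos.ne'
        have hp : ∀ j : ℕ, (θ : A → ℂ) (a ^ j) = (θ : A → ℂ) a ^ j := by
          intro j
          induction j with
          | zero => simpa using h1
          | succ j ih => rw [pow_succ, pow_succ, hmul, ih]
        rw [← hp, pow_orderOf_eq_one, h1]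
      rw [h3, mul_one]))
    rwa [Module.finrank_fin_fun] at this
  have hle : n ≤ T.index * k := by
    have := exists_irr_inner_ne_zero (H := T) hχ ψ.2 (by rw [hm]; exact_mod_cast hmψ)
    rw [hn, ← hσc, Representation.char_one, Module.finrank_fin_fun, Complex.natCast_re,
      Complex.natCast_re] at this
    exact_mod_cast this
  have hge : k ≤ e := by
    rw [hk, hesum]
    exact le_trans (Nat.le_mul_of_pos_left _ (Nat.pos_of_ne_zero hmψ))
      (Finset.single_le_sum (f := fun ψ => m ψ * d ψ) (fun _ _ => Nat.zero_le _) (Finset.mem_univ ψ))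
  refine ⟨n, hn0, hn, ?_⟩
  have hTpos : 0 < T.index := Nat.pos_of_ne_zero Subgroup.index_ne_zero_of_finite
  have hek : e = k := le_antisymm (Nat.le_of_mul_le_mul_left (hdeg ▸ hle) hTpos) hge
  rw [hdeg, hek, ← Subgroup.relIndex_mul_index hAT, mul_comm (A.relIndex T)]
  exact mul_dvd_mul_left _ hkdvd

end Cfsg.Agent.DegreeDvd
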