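import Mathlib
import Cfsg.Agent.Lib.PF6Core43
import Cfsg.Agent.Lib.CharKernel
import Cfsg.Agent.Lib.DegreeDvd
import Cfsg.Agent.Lib.CharProjDegree
import Cfsg.Agent.Lib.CharBasicLinear
import Cfsg.Agent.S1492

/-!
Degrees of irreducible characters: over a central section of prime power index, on the commutator of
an abelian normal subgroup with a `p`-group, and in a group with a single commutator line.
-/

set_option autoImplicit false
set_option linter.unusedSectionVars false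
set_option linter.style.haveILetI false

open scoped ComplexConjugate commutatorElement

namespace Cfsg.Agent.PF12CharAux

open Cfsg Cfsg.Agent.CharBasic Cfsg.Agent.CharBasicOrth Cfsg.Agent.CharBasicDecomp

universe u

variable {X : Type u} [Group X] [Fintype X]

theorem deg_eq_one_of_comm {θ : IrrCharacter X} (h : ∀ a b : X, a * b = b * a) :
    Cfsg.charDegree (θ : X → ℂ) = 1 :=
  PF6.deg_of_eq (by rw [CharBasicLinear.apply_one_eq_one_of_comm h θ.2, Nat.cast_one])

/-- Itô's theorem in a quotient: the degree divides the index of a subgroup abelian and normal modulo `R`. -/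
theorem dvd_index_of_abelian_mod {R N : Subgroup X} [R.Normal] [N.Normal] (hRN : R ≤ N)
    (hab : ∀ a ∈ N, ∀ b ∈ N, a * b * a⁻¹ * b⁻¹ ∈ R) (θ : IrrCharacter X)
    (hθ : ∀ r ∈ R, (θ : X → ℂ) r = (θ : X → ℂ) 1) : Cfsg.charDegree (θ : X → ℂ) ∣ N.index := by
  classical
  obtain ⟨ψ, hψ⟩ := CharKernel.exists_quot_irr R θ hθ
  haveI := Fintype.ofFinite (X ⧸ R)
  set A : Subgroup (X ⧸ R) := N.map (QuotientGroup.mk' R) with hA
  haveI : A.Normal := Subgroup.Normal.map ‹_› _ (QuotientGroup.mk'_surjective R)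
  have hAab : ∀ a b : A, a * b = b * a := by
    rintro ⟨_, a, ha, rfl⟩ ⟨_, b, hb, rfl⟩
    apply Subtype.ext
    show (QuotientGroup.mk' R) a * (QuotientGroup.mk' R) b = (QuotientGroup.mk' R) b * (QuotientGroup.mk' R) a
    rw [← map_mul, ← map_mul, QuotientGroup.mk'_apply, QuotientGroup.mk'_apply,
      QuotientGroup.eq_iff_div_mem, div_eq_mul_inv]
    simpa [mul_assoc] using hab a ha b hb
  obtain ⟨n, -, hn, hdvd⟩ := DegreeDvd.degree_dvd_index_abelian ψ.2 A hAab
  have hidx : A.index = N.index :=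
    Subgroup.index_map_eq _ (QuotientGroup.mk'_surjective R) (by rw [QuotientGroup.ker_mk']; exact hRN)
  rw [← hidx, PF6.deg_of_eq (φ := (θ : X → ℂ)) (n := n) (by rw [hψ, QuotientGroup.mk_one, hn])]
  exact hdvd

/-- Degrees over a central section of index a power of `p`. -/
theorem deg_of_central {R N : Subgroup X} [R.Normal] (hRN : R ≤ N)
    (hcent : ∀ n ∈ N, ∀ y : X, n * y * n⁻¹ * y⁻¹ ∈ R) {p m : ℕ} (hp : p.Prime) (hidx : N.index = p ^ m)
    (θ : IrrCharacter X) (hθ : ∀ r ∈ R, (θ : X → ℂ) r = (θ : X → ℂ) 1) :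
    ∃ a : ℕ, Cfsg.charDegree (θ : X → ℂ) = p ^ a ∧ p ^ (2 * a) ∣ R.index := by
  haveI : N.Normal := ⟨fun n hn y => by
    have h : y * n * y⁻¹ = (n * y * n⁻¹ * y⁻¹)⁻¹ * n := by group
    rw [h]
    exact N.mul_mem (N.inv_mem (hRN (hcent n hn y))) hn⟩
  obtain ⟨a, -, ha⟩ := (Nat.dvd_prime_pow hp).1 (hidx ▸ dvd_index_of_abelian_mod hRN
    (fun a ha b _ => hcent a ha b) θ hθ)
  refine ⟨a, ha, ?_⟩
  have h := S1492.result (θ : X → ℂ) θ.2 R ⊤ N hRN le_top
    (fun c _ b hb => ‹R.Normal›.conj_mem b hb c) (fun d hd c _ => hcent d hd c) hθ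
  rw [PF6.deg_spec (isCharacter_of_isIrrCharacter θ.2), Complex.norm_natCast, ha, Subgroup.card_top] at h
  have h' : (p ^ a) ^ 2 * Nat.card X * Nat.card N ≤ Nat.card X ^ 2 := by exact_mod_cast h
  rw [sq (Nat.card X), ← N.index_mul_card, hidx, ← pow_mul] at h'
  have h1 : p ^ (a * 2) ≤ p ^ m := by
    have h2 : p ^ (a * 2) * (p ^ m * Nat.card N * Nat.card N) ≤ p ^ m * (p ^ m * Nat.card N * Nat.card N) := by
      calc p ^ (a * 2) * (p ^ m * Nat.card N * Nat.card N)
          = p ^ (a * 2) * (p ^ m * Nat.card N) * Nat.card N := by ring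
        _ ≤ p ^ m * Nat.card N * (p ^ m * Nat.card N) := h'
        _ = _ := by ring
    exact Nat.le_of_mul_le_mul_right h2 (by
      have := hp.pos
      have : 0 < Nat.card N := Nat.card_pos
      positivity)
  have h2 : p ^ m ∣ R.index := hidx ▸ Subgroup.index_dvd_of_le hRN
  rw [mul_comm 2 a]
  exact (pow_dvd_pow p ((Nat.pow_le_pow_iff_right hp.one_lt).1 h1)).trans h2

/-- An irreducible character of degree prime to `p` is trivial on the commutator of an abelian normal
subgroup `Q` with a `p`-subgroup `P`, when `Q ⊔ P` is normal. -/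
theorem trivial_on_commutator {Q P : Subgroup X} [Q.Normal] [hQP : (Q ⊔ P).Normal]
    (hQab : ∀ a ∈ Q, ∀ b ∈ Q, a * b = b * a) {p : ℕ} (hp : p.Prime) (hP : IsPGroup p P)
    (θ : IrrCharacter X) (hθ : ¬ p ∣ Cfsg.charDegree (θ : X → ℂ)) :
    ∀ r ∈ ⁅Q, P⁆, (θ : X → ℂ) r = (θ : X → ℂ) 1 := by
  classical
  haveI := Fact.mk hp
  set N := Q ⊔ P with hN
  haveI := Fintype.ofFinite ↥N
  obtain ⟨n, hn0, hn⟩ := isIrrCharacter_apply_one θ.2
  have hdeg : Cfsg.charDegree (θ : X → ℂ) = n := PF6.deg_of_eq hn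
  set K : Subgroup X := CharKernel.irrKer θ with hK
  haveI : K.Normal := CharKernel.irrKer_normal θ
  suffices hle : ⁅Q, P⁆ ≤ K from fun r hr => CharKernel.mem_irrKer.1 (hle hr)
  -- every constituent on `N` is linear
  have hres : IsCharacter ↥N (fun y : ↥N => (θ : X → ℂ) y) :=
    CharInduced.isCharacter_res N (isCharacter_of_isIrrCharacter θ.2)
  obtain ⟨c, hc, hsum⟩ := exists_mult hres
  have hlin : ∀ μ : IrrCharacter ↥N, c μ ≠ 0 → (μ : ↥N → ℂ) 1 = 1 := by
    intro μ hμ
    obtain ⟨j, d, hd, hθd, -⟩ := CharProjDegree.degree_dvd N θ.2 μ.2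
      (by rw [hc μ]; exact Nat.cast_ne_zero.2 hμ)
    rw [hn] at hθd
    have hnd : n = d * j := by exact_mod_cast hθd
    obtain ⟨d', -, hd', hdvd⟩ := DegreeDvd.degree_dvd_index_abelian μ.2 (Q.subgroupOf N)
      (fun a b => Subtype.ext (Subtype.ext (hQab _ a.2 _ b.2)))
    rw [hd] at hd'
    have hdd : d = d' := by exact_mod_cast hd'
    subst hdd
    obtain ⟨e, he⟩ : ∃ e, (Q.subgroupOf N).index ∣ p ^ e := by
      obtain ⟨e, he⟩ := IsPGroup.iff_card.1 hP
      refine ⟨e, he ▸ ?_⟩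
      have h1 : Q.relIndex (Q ⊔ P) = (Q ⊓ P).relIndex P := by
        rw [sup_comm, Subgroup.relIndex_sup_right, Subgroup.inf_relIndex_right]
      show Q.relIndex (Q ⊔ P) ∣ _
      rw [h1]
      exact Subgroup.index_dvd_card _
    obtain ⟨i, -, hi⟩ := (Nat.dvd_prime_pow hp).1 (hdvd.trans he)
    rcases Nat.eq_zero_or_pos i with rfl | hi0
    · rw [hd, hi, pow_zero, Nat.cast_one]
    · exact absurd ((dvd_pow_self p hi0.ne').trans (hi ▸ Dvd.intro j hnd.symm)) (hdeg ▸ hθ)
  rw [Subgroup.commutator_le]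
  intro a ha b hb
  rw [hK, CharKernel.mem_irrKer]
  set y : ↥N := ⁅(⟨a, Subgroup.mem_sup_left ha⟩ : ↥N), ⟨b, Subgroup.mem_sup_right hb⟩⁆ with hy
  have e1 : ∀ μ : IrrCharacter ↥N, (c μ : ℂ) * (μ : ↥N → ℂ) y = (c μ : ℂ) * (μ : ↥N → ℂ) 1 := by
    intro μ
    rcases Nat.eq_zero_or_pos (c μ) with h | h
    · simp [h]
    congr 1
    obtain ⟨l, hl⟩ := CharBasicLinear.exists_hom_of_apply_one_eq_one (isCharacter_of_isIrrCharacter μ.2)
      (hlin μ h.ne')
    rw [hl, hy]
    show (l _ : ℂ) = l 1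
    rw [map_commutatorElement, commutatorElement_eq_one_iff_commute.2 (Commute.all _ _)]
    simp
  have h1 := congrFun hsum y
  have h2 := congrFun hsum 1
  simp only [Finset.sum_apply, Pi.smul_apply, smul_eq_mul] at h1 h2
  rw [Finset.sum_congr rfl fun μ _ => e1 μ, ← h2] at h1
  have hy' : ((y : ↥N) : X) = ⁅a, b⁆ := by rw [hy, ← N.coe_subtype, map_commutatorElement]; rfl
  rw [hy'] at h1
  simpa using h1

/-- When all commutators lie in a central subgroup of prime order, the index of the centre is a square. -/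
theorem exists_sq_mul_center {c : X} {w : ℕ} (hw : w.Prime) (hc : orderOf c = w)
    (hcz : c ∈ Subgroup.center X) (hcomm : ∀ a b : X, ⁅a, b⁆ ∈ Subgroup.zpowers c) :
    ∃ d : ℕ, Nat.card X = d ^ 2 * Nat.card (Subgroup.center X) := by
  classical
  haveI := Fact.mk hw
  set C : Subgroup X := Subgroup.zpowers c with hC
  haveI : C.Normal := ⟨fun n hn g => by
    rw [Subgroup.mem_center_iff.1 (Subgroup.zpowers_le.2 hcz hn) g, mul_inv_cancel_right]; exact hn⟩
  obtain ⟨θ, hθ⟩ : ∃ θ : IrrCharacter X, (θ : X → ℂ) c ≠ (θ : X → ℂ) 1 := by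
    by_contra hno
    push Not at hno
    have hall : ∀ θ : IrrCharacter X, ∀ n ∈ C, (θ : X → ℂ) n = (θ : X → ℂ) 1 := by
      intro θ n hn
      haveI := CharKernel.irrKer_normal θ
      exact CharKernel.mem_irrKer.1 ((Subgroup.zpowers_le.2 (CharKernel.mem_irrKer.2 (hno θ))) hn)
    have h1 := CharKernel.sum_sq_trivial_on C
    rw [← Finset.sum_subtype (Finset.univ : Finset (IrrCharacter X)) (fun θ => ⟨fun _ => hall θ, fun _ => by simp⟩)
      (fun θ => Cfsg.charDegree (θ : X → ℂ) ^ 2), CharKernel.sum_sq_charDegree] at h1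
    have hcard := C.index_mul_card
    rw [← h1, Nat.card_zpowers, hc] at hcard
    have hpos : 0 < Nat.card X := Nat.card_pos
    have : Nat.card X * 2 ≤ Nat.card X * w := Nat.mul_le_mul_left _ hw.two_le
    omega
  obtain ⟨n, ρ, hρ, hρθ⟩ := θ.2
  haveI := hρ
  have hn : (θ : X → ℂ) 1 = n := by rw [← hρθ]; simp
  -- central elements act by scalars
  have hscal : ∀ z ∈ Subgroup.center X, ∃ l : ℂ, ∀ g : X,
      (θ : X → ℂ) (z * g) = l * (θ : X → ℂ) g := by
    intro z hz
    obtain ⟨l, hl, -⟩ := exists_scalar_of_commute ρ (ρ z) fun g v => by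
      rw [← Module.End.mul_apply, ← Module.End.mul_apply, ← map_mul, ← map_mul,
        Subgroup.mem_center_iff.1 hz g]
    refine ⟨l, fun g => ?_⟩
    rw [← hρθ]
    show LinearMap.trace ℂ _ (ρ (z * g)) = l * LinearMap.trace ℂ _ (ρ g)
    rw [map_mul, hl, ← smul_eq_mul l, ← map_smul]
    rfl
  have hn0 : (θ : X → ℂ) 1 ≠ 0 := isIrrCharacter_apply_one_ne_zero θ.2
  -- the character vanishes off the centre
  have hvan : ∀ g : X, g ∉ Subgroup.center X → (θ : X → ℂ) g = 0 := by
    intro g hg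
    rw [Subgroup.mem_center_iff] at hg
    push Not at hg
    obtain ⟨h, hh⟩ := hg
    have hne : ⁅h, g⁆ ≠ 1 := fun e => hh (commutatorElement_eq_one_iff_mul_comm.1 e)
    obtain ⟨l, hl⟩ := hscal ⁅h, g⁆ (Subgroup.zpowers_le.2 hcz (hcomm h g))
    have hl1 : l ≠ 1 := by
      intro h1
      have h2 : (θ : X → ℂ) ⁅h, g⁆ = (θ : X → ℂ) 1 := by
        have := hl 1
        rw [mul_one, h1, one_mul] at this
        exact this
      haveI := CharKernel.irrKer_normal θ
      refine hθ (CharKernel.mem_irrKer.1 ?_)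
      have hcc : Nat.card C = w := by rw [Nat.card_zpowers, hc]
      have hmem : (⟨c, Subgroup.mem_zpowers c⟩ : C) ∈ Subgroup.zpowers (⟨⁅h, g⁆, hcomm h g⟩ : C) :=
        mem_zpowers_of_prime_card hcc (fun e => hne (congrArg Subtype.val e))
      obtain ⟨i, hi⟩ := Subgroup.mem_zpowers_iff.1 hmem
      have hi' : (⁅h, g⁆ : X) ^ i = c := congrArg Subtype.val hi
      rw [← hi']
      exact Subgroup.zpow_mem _ (CharKernel.mem_irrKer.2 h2) i
    have h3 := hl g
    rw [show ⁅h, g⁆ * g = h * g * h⁻¹ by rw [commutatorElement_def]; group] at h3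
    rw [isClassFunction_of_isCharacter (isCharacter_of_isIrrCharacter θ.2) g h] at h3
    have : (l - 1) * (θ : X → ℂ) g = 0 := by linear_combination -h3
    exact (mul_eq_zero.1 this).resolve_left (sub_ne_zero.2 hl1)
  have hnorm : ∀ z ∈ Subgroup.center X, (θ : X → ℂ) z * conj ((θ : X → ℂ) z) = (n : ℂ) ^ 2 := by
    intro z hz
    obtain ⟨l, hl⟩ := hscal z hz
    obtain ⟨l', hl'⟩ := hscal z⁻¹ (Subgroup.inv_mem _ hz)
    have e0 := hl z⁻¹
    have e1 := hl' 1
    have e2 := hl 1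
    rw [mul_inv_cancel] at e0
    rw [mul_one] at e1 e2
    rw [← isCharacter_inv (isCharacter_of_isIrrCharacter θ.2) z, e1, e2, hn]
    rw [e1, hn] at e0
    have : l * l' = 1 := by
      have h : (1 - l * l') * (n : ℂ) = 0 := by linear_combination e0
      rcases mul_eq_zero.1 h with h | h
      · exact (sub_eq_zero.1 h).symm
      · exact absurd (hn.trans h) hn0
    linear_combination (n : ℂ) ^ 2 * this
  refine ⟨n, ?_⟩
  have h := classInner_irr_self θ.2
  simp only [classInner] at h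
  rw [← Finset.sum_subset (Finset.subset_univ (Finset.univ.filter fun z => z ∈ Subgroup.center X))
    (fun g _ hg => by rw [hvan g (by simpa using hg), zero_mul]),
    Finset.sum_congr rfl (fun z hz => hnorm z (Finset.mem_filter.1 hz).2), Finset.sum_const, nsmul_eq_mul,
    ← Fintype.card_subtype, ← Nat.card_eq_fintype_card (α := {z : X // z ∈ Subgroup.center X})] at h
  have hX : (Nat.card X : ℂ) ≠ 0 := Nat.cast_ne_zero.2 Nat.card_pos.ne'
  field_simp at h
  have h' : ((Nat.card (Subgroup.center X) * n ^ 2 : ℕ) : ℂ) = (Nat.card X : ℂ) := by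
    push_cast; linear_combination h
  rw [mul_comm]
  exact_mod_cast h'.symm

end Cfsg.Agent.PF12CharAux
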