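import Mathlib
import Cfsg.Agent.Lib.CharBasicDecomp
import Cfsg.Agent.Lib.CharBasicInt

/-!
An integer-vector lemma for coherence of exceptional characters of degree four, and the fact that
a group of odd order has no non-trivial real irreducible character.
-/

set_option autoImplicit false

namespace Cfsg.Agent.FourCoherence

open scoped ComplexConjugate

universe u

theorem int_sq_le_four {k : ℤ} (h : k * k ≤ 4) : -2 ≤ k ∧ k ≤ 2 := by
  constructor <;> nlinarith

/-- Two vectors of norm four (or two) which are orthogonal and stable/orthogonal under an involution: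
either the supports meet only in the distinguished point, or they share a pair. -/
theorem shared_pair {ι : Type*} [Fintype ι] (bar : ι → ι) (hbar : Function.Involutive bar)
    (o : ι) (hbo : bar o = o) (v e : ι → ℤ) (hvo : v o = 1) (hv : ∑ i, v i * v i = 4)
    (hvb : ∀ i, v (bar i) = v i) (hV : ∀ i, i ≠ o → v i * v i ≤ 1)
    (heo : e o = 0) (he : ∑ i, e i * e i = 2 ∨ ∑ i, e i * e i = 4)
    (hev : ∑ i, e i * v i = 0) (hee : ∑ i, e i * e (bar i) = 0) :
    (∀ i, e i * v i = 0) ∨
      (∑ i, e i * e i = 4 ∧ ∃ i j, i ≠ j ∧ e i * e i = 1 ∧ e j * e j = 1 ∧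
        ∀ w : ι → ℤ, ∑ k, e k * w k = 0 → ∑ k, e (bar k) * w k = 0 → e i * w i + e j * w j = 0) := by
  classical
  by_cases h0 : ∀ i, e i * v i = 0
  · exact Or.inl h0
  right
  push Not at h0
  set V := Finset.univ.filter fun i => i ≠ o ∧ v i ≠ 0 with hVdef
  have hv1 : ∀ i ∈ V, v i = 1 ∨ v i = -1 := by
    intro i hi
    obtain ⟨h1, h2⟩ := (Finset.mem_filter.1 hi).2
    have h := hV i h1
    have : -1 ≤ v i ∧ v i ≤ 1 := by constructor <;> nlinarith
    omega
  have hV3 : V.card = 3 := by
    have h := hv
    rw [← Finset.add_sum_erase _ _ (Finset.mem_univ o), hvo] at h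
    have h2 : ∑ i ∈ Finset.univ.erase o, v i * v i = ∑ i ∈ V, (1 : ℤ) := by
      rw [← Finset.sum_subset (s₁ := V) (s₂ := Finset.univ.erase o)]
      · refine Finset.sum_congr rfl fun i hi => ?_
        rcases hv1 i hi with h | h <;> rw [h] <;> rfl
      · intro i hi
        exact Finset.mem_erase.2 ⟨(Finset.mem_filter.1 hi).2.1, Finset.mem_univ _⟩
      · intro i hi hiV
        have : v i = 0 := by
          by_contra hne
          exact hiV (Finset.mem_filter.2 ⟨Finset.mem_univ _, (Finset.mem_erase.1 hi).1, hne⟩)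
        simp [this]
    rw [h2] at h
    simp at h
    omega
  set P := V.filter fun i => e i ≠ 0 with hPdef
  have hev' : ∑ i ∈ P, e i * v i = 0 := by
    refine (Finset.sum_subset (Finset.subset_univ P) fun i _ hi => ?_).trans hev
    by_cases h1 : i = o
    · simp [h1, heo]
    by_cases h2 : v i = 0
    · simp [h2]
    by_cases h3 : e i = 0
    · simp [h3]
    have hiV : i ∈ V := Finset.mem_filter.2 ⟨Finset.mem_univ _, h1, h2⟩
    exact absurd (Finset.mem_filter.2 ⟨hiV, h3⟩ : i ∈ P) hi
  obtain ⟨i₀, hi₀⟩ := h0
  have hi₀P : i₀ ∈ P := by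
    have h1 : e i₀ ≠ 0 := left_ne_zero_of_mul hi₀
    exact Finset.mem_filter.2 ⟨Finset.mem_filter.2 ⟨Finset.mem_univ _,
      fun h => h1 (h ▸ heo), right_ne_zero_of_mul hi₀⟩, h1⟩
  have hsq : ∀ i ∈ P, 1 ≤ e i * e i := by
    intro i hi
    have h1 := (Finset.mem_filter.1 hi).2
    rcases lt_or_gt_of_ne h1 with h | h <;> nlinarith
  have hPle : ∑ i ∈ P, e i * e i ≤ ∑ i, e i * e i :=
    Finset.sum_le_sum_of_subset_of_nonneg (Finset.subset_univ P) fun i _ _ => mul_self_nonneg _
  have hN4 : ∑ i, e i * e i ≤ 4 := by rcases he with h | h <;> omega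
  have hcard : P.card ≤ 3 := hV3 ▸ Finset.card_le_card (Finset.filter_subset _ _)
  have hcard2 : P.card = 2 := by
    have hpos : 0 < P.card := Finset.card_pos.2 ⟨i₀, hi₀P⟩
    by_contra h2
    have hc : P.card = 1 ∨ P.card = 3 := by omega
    rcases hc with hc | hc
    · obtain ⟨i, hi⟩ := Finset.card_eq_one.1 hc
      have hiP : i ∈ P := by simp [hi]
      rw [hi, Finset.sum_singleton] at hev'
      have := hsq i hiP
      rcases hv1 i (Finset.mem_filter.1 hiP).1 with h | h <;> rw [h] at hev' <;> nlinarith
    · obtain ⟨a, b, c, hab, hac, hbc, hP⟩ := Finset.card_eq_three.1 hc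
      have ha : a ∈ P := by simp [hP]
      have hb : b ∈ P := by simp [hP]
      have hc' : c ∈ P := by simp [hP]
      rw [hP, Finset.sum_insert (by simp [hab, hac]), Finset.sum_pair hbc] at hev' hPle
      have := hsq a ha
      have := hsq b hb
      have := hsq c hc'
      have hone : ∀ k : ℤ, k ≠ 0 → k * k ≤ 2 → k = 1 ∨ k = -1 := by
        intro k hk hk2
        have : -1 ≤ k ∧ k ≤ 1 := by constructor <;> nlinarith
        omega
      rcases hone _ (Finset.mem_filter.1 ha).2 (by omega) with ea | ea <;>
      rcases hone _ (Finset.mem_filter.1 hb).2 (by omega) with eb | eb <;>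
      rcases hone _ (Finset.mem_filter.1 hc').2 (by omega) with ec | ec <;>
      rcases hv1 a (Finset.mem_filter.1 ha).1 with va | va <;>
      rcases hv1 b (Finset.mem_filter.1 hb).1 with vb | vb <;>
      rcases hv1 c (Finset.mem_filter.1 hc').1 with vc | vc <;>
      · rw [ea, eb, ec, va, vb, vc] at hev'; norm_num at hev'
  obtain ⟨i, j, hij, hP⟩ := Finset.card_eq_two.1 hcard2
  have hi : i ∈ P := by simp [hP]
  have hj : j ∈ P := by simp [hP]
  have hPij : e i * e i = 1 ∧ e j * e j = 1 := by
    rw [hP, Finset.sum_pair hij] at hev' hPle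
    have hab : e i * e i = e j * e j := by
      rcases hv1 i (Finset.mem_filter.1 hi).1 with vi | vi <;>
      rcases hv1 j (Finset.mem_filter.1 hj).1 with vj | vj <;>
      · rw [vi, vj] at hev'
        have : e i = e j ∨ e i = -e j := by omega
        rcases this with h | h <;> rw [h] <;> ring
    have h1 := (Finset.mem_filter.1 hi).2
    have hb : -1 ≤ e i ∧ e i ≤ 1 := by constructor <;> nlinarith
    have : e i = 1 ∨ e i = -1 := by omega
    rcases this with h | h <;> rw [h] at hab ⊢ <;> constructor <;> linarith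
  obtain ⟨k, hk⟩ : ∃ k, V \ P = {k} := by
    refine Finset.card_eq_one.1 ?_
    rw [Finset.card_sdiff_of_subset (Finset.filter_subset _ _), hV3, hcard2]
  have hkV : k ∈ V ∧ k ∉ P := Finset.mem_sdiff.1 (hk ▸ Finset.mem_singleton_self k)
  have hek : e k = 0 := by
    by_contra h
    exact hkV.2 (Finset.mem_filter.2 ⟨hkV.1, h⟩)
  have hbV : ∀ {t}, t ∈ V → bar t ∈ V := by
    intro t ht
    obtain ⟨h1, h2⟩ := (Finset.mem_filter.1 ht).2
    refine Finset.mem_filter.2 ⟨Finset.mem_univ _, fun h => h1 ?_, by rwa [hvb]⟩
    rw [← hbar t, h, hbo]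
  have hVcases : ∀ t ∈ V, t = i ∨ t = j ∨ t = k := by
    intro t ht
    by_cases htP : t ∈ P
    · rw [hP] at htP; simp at htP; tauto
    · have : t ∈ V \ P := Finset.mem_sdiff.2 ⟨ht, htP⟩
      rw [hk] at this; simp at this; tauto
  have hki : k ≠ i := fun h => hkV.2 (h ▸ hi)
  have hkj : k ≠ j := fun h => hkV.2 (h ▸ hj)
  have hiV := (Finset.mem_filter.1 hi).1
  have hjV := (Finset.mem_filter.1 hj).1
  set T := Finset.univ.filter fun t => t ∉ V ∧ t ≠ o with hTdef
  have hsplit : ∀ f : ι → ℤ, ∑ t, f t = f o + (f i + f j + f k) + ∑ t ∈ T, f t := by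
    intro f
    rw [← Finset.add_sum_erase _ _ (Finset.mem_univ o), ← Finset.sum_filter_add_sum_filter_not
      (Finset.univ.erase o) (fun t => t ∈ V)]
    have h1 : (Finset.univ.erase o).filter (fun t => t ∈ V) = {i, j, k} := by
      ext t
      simp only [Finset.mem_filter, Finset.mem_erase, Finset.mem_univ, and_true,
        Finset.mem_insert, Finset.mem_singleton]
      refine ⟨fun h => hVcases t h.2, fun h => ?_⟩
      have htV : t ∈ V := by
        rcases h with rfl | rfl | rfl
        · exact hiV
        · exact hjV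
        · exact hkV.1
      exact ⟨(Finset.mem_filter.1 htV).2.1, htV⟩
    have h2 : (Finset.univ.erase o).filter (fun t => t ∉ V) = T := by
      ext t; simp [hTdef, and_comm]
    rw [h1, h2, Finset.sum_insert (by simp [hij, hki.symm]), Finset.sum_pair hkj.symm]
    ring
  have hTbar : ∀ t ∈ T, bar t ∈ T := by
    intro t ht
    obtain ⟨h1, h2⟩ := (Finset.mem_filter.1 ht).2
    refine Finset.mem_filter.2 ⟨Finset.mem_univ _, fun h => h1 ?_, fun h => h2 ?_⟩
    · simpa [hbar t] using hbV h
    · rw [← hbar t, h, hbo]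
  have hTsq : ∑ t ∈ T, e (bar t) * e (bar t) = ∑ t ∈ T, e t * e t :=
    Finset.sum_nbij' bar bar hTbar hTbar (fun t _ => hbar t) (fun t _ => hbar t) (fun t _ => rfl)
  have hN := hsplit fun t => e t * e t
  simp only [heo, hek, hPij.1, hPij.2] at hN
  have hS := hsplit fun t => e t * e (bar t)
  rw [hee] at hS
  simp only [heo, hek, zero_mul, zero_add, add_zero] at hS hN
  by_cases hbk : bar k = k
  · -- the pair is invariant
    obtain ⟨δ, hδ, hδi, hδj⟩ : ∃ δ : ℤ, (δ = 1 ∨ δ = -1) ∧ e (bar i) = δ * e i ∧ e (bar j) = δ * e j := by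
      rcases hVcases _ (hbV hiV) with h | h | h
      · have hbj : bar j = j := by
          rcases hVcases _ (hbV hjV) with h' | h' | h'
          · exact absurd (hbar.injective (h'.trans h.symm)) hij.symm
          · exact h'
          · exact absurd (hbar.injective (h'.trans hbk.symm)) hkj.symm
        exact ⟨1, Or.inl rfl, by rw [h, one_mul], by rw [hbj, one_mul]⟩
      · have hbj : bar j = i := by rw [← h, hbar]
        refine ⟨e i * e j, ?_, ?_, ?_⟩
        · have : (e i * e j) * (e i * e j) = 1 := by
            calc _ = (e i * e i) * (e j * e j) := by ring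
              _ = 1 := by rw [hPij.1, hPij.2, one_mul]
          exact mul_self_eq_one_iff.1 this
        · rw [h]; linear_combination (-(e j)) * hPij.1
        · rw [hbj]; linear_combination (-(e i)) * hPij.2
      · exact absurd (hbar.injective (h.trans hbk.symm)) hki.symm
    have hδδ : δ * δ = 1 := by rcases hδ with rfl | rfl <;> rfl
    have hnn : ∑ t ∈ T, (e t + δ * e (bar t)) * (e t + δ * e (bar t)) =
        2 * (∑ t, e t * e t) - 8 := by
      have : ∀ t, (e t + δ * e (bar t)) * (e t + δ * e (bar t)) =
          e t * e t + 2 * δ * (e t * e (bar t)) + δ * δ * (e (bar t) * e (bar t)) := fun t => by ring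
      rw [Finset.sum_congr rfl fun t _ => this t, Finset.sum_add_distrib, Finset.sum_add_distrib,
        ← Finset.mul_sum, ← Finset.mul_sum, hTsq, hδδ, one_mul]
      rw [hδi, hδj] at hS
      have hS' : ∑ t ∈ T, e t * e (bar t) = -2 * δ := by
        linear_combination -hS - δ * hPij.1 - δ * hPij.2
      rw [hS']
      linear_combination -2 * hN - 4 * hδδ
    have hge : 0 ≤ 2 * (∑ t, e t * e t) - 8 :=
      hnn ▸ Finset.sum_nonneg fun t _ => mul_self_nonneg _
    have hN' : ∑ t, e t * e t = 4 := by omega
    refine ⟨hN', i, j, hij, hPij.1, hPij.2, fun w h1 h2 => ?_⟩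
    have hz : ∀ t ∈ T, e t + δ * e (bar t) = 0 := by
      have hz0 := (Finset.sum_eq_zero_iff_of_nonneg (s := T)
        (f := fun t => (e t + δ * e (bar t)) * (e t + δ * e (bar t)))
        (fun t _ => mul_self_nonneg _)).1 (by rw [hnn, hN']; rfl)
      exact fun t ht => mul_self_eq_zero.1 (hz0 t ht)
    have h3 : ∑ t, (e t + δ * e (bar t)) * w t = 0 := by
      simp only [add_mul, mul_assoc, Finset.sum_add_distrib, ← Finset.mul_sum, h1, h2, mul_zero, add_zero]
    rw [hsplit, Finset.sum_eq_zero (fun t ht => by rw [hz t ht, zero_mul]), hbo, heo, hbk, hek,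
      hδi, hδj] at h3
    ring_nf at h3
    rw [show δ ^ 2 = 1 by rw [pow_two, hδδ]] at h3
    linarith
  · -- exactly one point of the pair is moved out
    exfalso
    have hS1 : ∑ t ∈ T, e t * e (bar t) = -1 := by
      rcases hVcases _ (hbV hkV.1) with h | h | h
      · have hbi : bar i = k := by rw [← h, hbar]
        have hbj : bar j = j := by
          rcases hVcases _ (hbV hjV) with h' | h' | h'
          · exact absurd (hbar.injective (h'.trans h.symm)) hkj.symm
          · exact h'
          · exact absurd (hbar.injective (h'.trans hbi.symm)) hij.symm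
        rw [hbi, hbj, hek] at hS
        linarith [hPij.2]
      · have hbj : bar j = k := by rw [← h, hbar]
        have hbi : bar i = i := by
          rcases hVcases _ (hbV hiV) with h' | h' | h'
          · exact h'
          · exact absurd (hbar.injective (h'.trans h.symm)) hki.symm
          · exact absurd (hbar.injective (h'.trans hbj.symm)) hij
        rw [hbi, hbj, hek] at hS
        linarith [hPij.1]
      · exact (hbk h).elim
    have hT2 : ∑ t ∈ T, e t * e t ≤ 2 := by linarith
    set U := T.filter fun t => e t ≠ 0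
    have hUS : ∑ t ∈ U, e t * e (bar t) = -1 := by
      refine (Finset.sum_subset (Finset.filter_subset _ _) fun t ht htU => ?_).trans hS1
      have : e t = 0 := by
        by_contra h
        exact htU (Finset.mem_filter.2 ⟨ht, h⟩)
      simp [this]
    have hUsq : ∑ t ∈ U, e t * e t ≤ 2 :=
      le_trans (Finset.sum_le_sum_of_subset_of_nonneg (Finset.filter_subset _ _)
        fun t _ _ => mul_self_nonneg _) hT2
    have hU1 : ∀ t ∈ U, e t * e t = 1 := by
      intro t ht
      have h1 : e t * e t ≤ 2 := le_trans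
        (Finset.single_le_sum (f := fun s => e s * e s) (fun s _ => mul_self_nonneg _) ht) hUsq
      have h2 := (Finset.mem_filter.1 ht).2
      have h3 : -1 ≤ e t ∧ e t ≤ 1 := by constructor <;> nlinarith
      have : e t = 1 ∨ e t = -1 := by omega
      rcases this with h | h <;> rw [h] <;> rfl
    have hUcard : U.card ≤ 2 := by
      have : (U.card : ℤ) ≤ 2 := by
        rw [Finset.cast_card, ← Finset.sum_congr rfl fun t ht => hU1 t ht]
        exact hUsq
      omega
    have hbarU : ∀ t ∈ U, e (bar t) ≠ 0 → bar t ∈ U := fun t ht h =>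
      Finset.mem_filter.2 ⟨hTbar t (Finset.mem_filter.1 ht).1, h⟩
    rcases (show U.card = 0 ∨ U.card = 1 ∨ U.card = 2 by omega) with hc | hc | hc
    · rw [Finset.card_eq_zero.1 hc] at hUS; simp at hUS
    · obtain ⟨a, ha⟩ := Finset.card_eq_one.1 hc
      have haU : a ∈ U := by simp [ha]
      rw [ha, Finset.sum_singleton] at hUS
      by_cases h : e (bar a) = 0
      · rw [h] at hUS; simp at hUS
      · have hb : bar a = a := by
          have := hbarU a haU h
          rw [ha] at this; simpa using this
        rw [hb, hU1 a haU] at hUS; norm_num at hUS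
    · obtain ⟨a, b, hab, hU⟩ := Finset.card_eq_two.1 hc
      have haU : a ∈ U := by simp [hU]
      have hbU : b ∈ U := by simp [hU]
      rw [hU, Finset.sum_pair hab] at hUS
      have hA : bar a = a ∨ bar a = b ∨ e (bar a) = 0 := by
        by_cases h : e (bar a) = 0
        · tauto
        · have := hbarU a haU h
          rw [hU] at this; simp at this; tauto
      have hB : bar b = b ∨ bar b = a ∨ e (bar b) = 0 := by
        by_cases h : e (bar b) = 0
        · tauto
        · have := hbarU b hbU h
          rw [hU] at this; simp at this; tauto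
      have ea := hU1 a haU
      have eb := hU1 b hbU
      have e1 : e a = 1 ∨ e a = -1 := mul_self_eq_one_iff.1 ea
      have e2 : e b = 1 ∨ e b = -1 := mul_self_eq_one_iff.1 eb
      have hne0 : e a * e b ≠ 0 := mul_ne_zero (Finset.mem_filter.1 haU).2 (Finset.mem_filter.1 hbU).2
      have hprod : e a * e b = 1 ∨ e a * e b = -1 := by
        rcases e1 with e1 | e1 <;> rcases e2 with e2 | e2 <;> rw [e1, e2] <;> norm_num
      rcases hA with hA | hA | hA
      · rcases hB with hB | hB | hB
        · rw [hA, hB] at hUS; omega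
        · exact hab (hbar.injective (hA.trans hB.symm))
        · rw [hA, hB] at hUS; omega
      · have hB' : bar b = a := by rw [← hA, hbar]
        rw [hA, hB', mul_comm (e b) (e a)] at hUS
        omega
      · rcases hB with hB | hB | hB
        · rw [hA, hB] at hUS; omega
        · have hA' : bar a = b := by rw [← hB, hbar]
          rw [hA'] at hA
          exact hne0 (by rw [hA, mul_zero])
        · rw [hA, hB] at hUS; omega

open Cfsg.Agent

/-- In a group of odd order the only real irreducible character is the trivial one. -/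
theorem eq_one_of_real {D : Type u} [Group D] [Fintype D] (hodd : Odd (Nat.card D))
    (μ : Cfsg.IrrCharacter D) (hreal : ∀ d, conj ((μ : D → ℂ) d) = (μ : D → ℂ) d) :
    (μ : D → ℂ) = fun _ => 1 := by
  classical
  by_contra hne
  have h0 := CharBasicOrth.classInner_irr_ne μ.2 CharBasicDecomp.isIrrCharacter_one hne
  simp only [Cfsg.classInner, map_one, mul_one, mul_eq_zero, inv_eq_zero, Nat.cast_eq_zero,
    Nat.card_pos.ne', false_or] at h0
  have hchar := CharBasic.isCharacter_of_isIrrCharacter μ.2
  have hinv : ∀ d, (μ : D → ℂ) d⁻¹ = (μ : D → ℂ) d := fun d => by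
    rw [CharBasic.isCharacter_inv hchar, hreal]
  let q := Fintype.equivFin D
  have hfix : ∀ d : D, d⁻¹ = d → d = 1 := by
    intro d hd
    by_contra h1
    have : orderOf d = 2 := orderOf_eq_prime (by rw [pow_two]; nth_rewrite 1 [← hd]; exact inv_mul_cancel d) h1
    exact hodd.not_two_dvd_nat (this ▸ orderOf_dvd_natCard d)
  set s := Finset.univ.filter fun d : D => q d < q d⁻¹
  have huniv : (Finset.univ : Finset D).erase 1 = s ∪ s.image (·⁻¹) := by
    ext d
    simp only [Finset.mem_erase, Finset.mem_univ, and_true, Finset.mem_union, Finset.mem_image,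
      Finset.mem_filter, true_and, s]
    constructor
    · intro hd
      rcases lt_trichotomy (q d) (q d⁻¹) with h | h | h
      · exact Or.inl h
      · exact absurd (hfix d (q.injective h).symm) hd
      · exact Or.inr ⟨d⁻¹, by simpa using h, inv_inv d⟩
    · rintro (h | ⟨c, hc, rfl⟩) h1
      · simp [h1] at h
      · simp at h1; simp [h1] at hc
  have hdis : Disjoint s (s.image (·⁻¹)) := by
    rw [Finset.disjoint_left]
    intro d hd hd'
    simp only [Finset.mem_image, Finset.mem_filter, Finset.mem_univ, true_and, s] at hd hd'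
    obtain ⟨c, hc, rfl⟩ := hd'
    rw [inv_inv] at hd
    exact lt_asymm hc hd
  rw [← Finset.add_sum_erase _ _ (Finset.mem_univ 1), huniv, Finset.sum_union hdis,
    Finset.sum_image fun a _ b _ h => inv_injective h,
    Finset.sum_congr rfl (fun d _ => hinv d)] at h0
  obtain ⟨n, -, hn, hdvd⟩ := CharBasicInt.exists_apply_one_dvd_card μ.2
  have hint : IsIntegral ℤ ((n : ℂ) / ((2 : ℕ) : ℂ)) := by
    have : (n : ℂ) / ((2 : ℕ) : ℂ) = -(∑ d ∈ s, (μ : D → ℂ) d) := by
      rw [hn] at h0
      push_cast
      linear_combination (1 / 2 : ℂ) * h0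
    rw [this]
    exact (IsIntegral.sum _ fun d _ => CharBasic.isCharacter_integral hchar d).neg
  exact hodd.not_two_dvd_nat ((CharBasicInt.dvd_of_isIntegral_div (by norm_num) hint).trans hdvd)

end Cfsg.Agent.FourCoherence
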