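/-
Structure of Frobenius complements: Sylow subgroups, centre.
-/
import Mathlib
import Cfsg.Agent.Lib.FrobeniusFPF
import Cfsg.Agent.Lib.PGroupsBasic
import Cfsg.Agent.Lib.PGroupsCyclic

open scoped Pointwise

namespace Cfsg.Agent.FrobeniusComplement

variable {G : Type*} [Group G] [Finite G] {K H : Subgroup G} [K.Normal]

/-- In a `p`-subgroup of a complement there is only one subgroup of order `p`. -/
theorem unique_order_prime (hc : Subgroup.IsComplement' K H) (hK : K ≠ ⊥)
    (hfpf : ∀ h ∈ H, h ≠ 1 → K ⊓ Subgroup.centralizer ({h} : Set G) = ⊥) {p : ℕ} [hp : Fact p.Prime]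
    (P : Subgroup H) (hP : IsPGroup p P) :
    ∀ A B : Subgroup P, Nat.card A = p → Nat.card B = p → A = B := by
  classical
  by_cases hPb : P = ⊥
  · intro A B hA _
    have : Subsingleton P := hPb ▸ inferInstance
    exact absurd (hA ▸ Subsingleton.elim A ⊥ ▸ Subgroup.card_bot) hp.out.ne_one
  have : Nontrivial P := (Subgroup.nontrivial_iff_ne_bot P).2 hPb
  obtain ⟨z, hzc, hzo⟩ := PGroupsBasic.exists_orderOf_eq_of_ne_bot (p := p) (H := Subgroup.center P)
    (hP.to_subgroup _) ((Subgroup.nontrivial_iff_ne_bot _).1 hP.center_nontrivial)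
  suffices key : ∀ A : Subgroup P, Nat.card A = p → A = Subgroup.zpowers z by
    intro A B hA hB
    rw [key A hA, key B hB]
  intro A hA
  obtain ⟨d, hd⟩ := exists_prime_orderOf_dvd_card' (G := A) p (hA ▸ dvd_rfl)
  have hdo : orderOf ((d : P) : G) = p := by
    rw [← hd, ← Subgroup.orderOf_coe d]
    exact orderOf_injective (H.subtype.comp P.subtype)
      (H.subtype_injective.comp P.subtype_injective) (d : P)
  have hzo' : orderOf ((z : P) : G) = p := by
    rw [← hzo]
    exact orderOf_injective (H.subtype.comp P.subtype)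
      (H.subtype_injective.comp P.subtype_injective) z
  obtain ⟨V, hVK, hV, hVc, hHV⟩ := FrobeniusFPF.exists_abelian_invariant hc hK hfpf
  let _ : CommGroup V := { (inferInstance : Group V) with
    mul_comm := fun a b => hVc.is_comm.comm a b }
  have : Nontrivial V := (Subgroup.nontrivial_iff_ne_bot V).2 hV
  let _ := FrobeniusFPF.conjAction H V hHV
  have hF : FrobeniusFPF.IsFPF H V := FrobeniusFPF.isFPF_conjAction hHV fun a ha ha1 =>
    le_bot_iff.1 ((inf_le_inf_right _ hVK).trans (hfpf a ha ha1).le)
  have hcomm : Commute ((d : P) : H) (z : H) :=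
    congrArg Subtype.val (Subgroup.mem_center_iff.1 hzc (d : P))
  have hmem : ((d : P) : H) ∈ Subgroup.zpowers (z : H) := by
    refine FrobeniusFPF.mem_zpowers_of_commute hF hp.out ?_ ?_ hcomm
    · exact (orderOf_injective H.subtype H.subtype_injective _).symm.trans hdo
    · exact (orderOf_injective H.subtype H.subtype_injective _).symm.trans hzo'
  obtain ⟨i, hi⟩ := Subgroup.mem_zpowers_iff.1 hmem
  have hle : Subgroup.zpowers (d : P) ≤ Subgroup.zpowers z :=
    Subgroup.zpowers_le.2 (Subgroup.mem_zpowers_iff.2 ⟨i, Subtype.ext (by simpa using hi)⟩)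
  have h1 : Subgroup.zpowers (d : P) = A := by
    refine Subgroup.eq_of_le_of_card_ge (Subgroup.zpowers_le.2 d.2) ?_
    rw [Nat.card_zpowers, Subgroup.orderOf_coe, hd, hA]
  rw [← h1]
  refine Subgroup.eq_of_le_of_card_ge hle ?_
  rw [Nat.card_zpowers, Nat.card_zpowers, Subgroup.orderOf_coe, hd, hzo]

theorem sylow_cyclic_or_quaternion (hc : Subgroup.IsComplement' K H) (hK : K ≠ ⊥)
    (hfpf : ∀ h ∈ H, h ≠ 1 → K ⊓ Subgroup.centralizer ({h} : Set G) = ⊥) {p : ℕ} [Fact p.Prime]
    (P : Subgroup H) (hP : IsPGroup p P) :
    IsCyclic P ∨ (p = 2 ∧ ∃ n : ℕ, Nonempty (P ≃* QuaternionGroup (2 ^ n))) :=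
  PGroupsCyclic.isCyclic_or_quaternion hP (unique_order_prime hc hK hfpf P hP)

/-- A nontrivial complement has a nontrivial centre. -/
theorem center_ne_bot (hc : Subgroup.IsComplement' K H) (hK : K ≠ ⊥) (hH : H ≠ ⊥)
    (hfpf : ∀ h ∈ H, h ≠ 1 → K ⊓ Subgroup.centralizer ({h} : Set G) = ⊥) :
    Subgroup.center H ≠ ⊥ := by
  classical
  have hntH : Nontrivial H := (Subgroup.nontrivial_iff_ne_bot H).2 hH
  by_cases h2 : 2 ∣ Nat.card H
  · obtain ⟨s, hs⟩ := exists_prime_orderOf_dvd_card' (G := H) 2 h2
    intro hbot
    have hmem : s ∈ Subgroup.center H := by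
      rw [Subgroup.mem_center_iff]
      intro g
      have hconj : orderOf (g * s * g⁻¹) = 2 := by
        rw [show g * s * g⁻¹ = MulAut.conj g s from rfl, MulEquiv.orderOf_eq, hs]
      have := FrobeniusFPF.involution_unique hK hfpf s.2 (by rw [Subgroup.orderOf_coe, hs])
        (g * s * g⁻¹).2 (by rw [Subgroup.orderOf_coe, hconj])
      exact mul_inv_eq_iff_eq_mul.1 (Subtype.ext this)
    rw [hbot, Subgroup.mem_bot] at hmem
    rw [hmem, orderOf_one] at hs
    norm_num at hs
  · have hZ : IsZGroup H := by
      refine (isZGroup_iff H).2 fun p hp P => ?_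
      have := Fact.mk hp
      rcases sylow_cyclic_or_quaternion hc hK hfpf (P : Subgroup H) P.isPGroup' with h | ⟨e, n, ⟨f⟩⟩
      · exact h
      · exfalso
        apply h2
        have h1 : Nat.card (P : Subgroup H) = 4 * 2 ^ n := by
          rw [Nat.card_congr f.toEquiv, Nat.card_eq_fintype_card, QuaternionGroup.card]
        exact (Dvd.intro (2 * 2 ^ n) (by rw [h1]; ring)).trans
          (Subgroup.card_subgroup_dvd_card (P : Subgroup H))
    set A := commutator H with hA
    have hAc : IsCyclic A := IsZGroup.isCyclic_commutator H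
    have hAcop : (Nat.card A).Coprime A.index := IsZGroup.coprime_commutator_index H
    have hAtop : A ≠ ⊤ := (IsZGroup.commutator_lt (G := H)).ne
    obtain ⟨q, hq, hqd⟩ := Nat.exists_prime_and_dvd (n := A.index)
      (fun e => hAtop (Subgroup.index_eq_one.1 e))
    have := Fact.mk hq
    obtain ⟨B, hB⟩ := Subgroup.exists_right_complement'_of_coprime (N := A) hAcop
    have hBc : Nat.card B = A.index := hB.symm.index_eq_card.symm
    obtain ⟨⟨x, hxB⟩, hx⟩ := exists_prime_orderOf_dvd_card' (G := B) q (hBc ▸ hqd)
    rw [Subgroup.orderOf_mk] at hx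
    intro hbot
    have hmem : x ∈ Subgroup.center H := by
      rw [Subgroup.mem_center_iff]
      have hxA : ∀ a ∈ A, a * x = x * a := by
        obtain ⟨⟨a, haA⟩, hagen⟩ := hAc.exists_generator
        have hgen : ∀ b ∈ A, ∃ i : ℤ, a ^ i = b := fun b hb => by
          obtain ⟨i, hi⟩ := Subgroup.mem_zpowers_iff.1 (hagen ⟨b, hb⟩)
          exact ⟨i, congrArg Subtype.val hi⟩
        suffices hax : x * a * x⁻¹ = a by
          intro b hb
          obtain ⟨i, rfl⟩ := hgen b hb
          have hc' : Commute x a := mul_inv_eq_iff_eq_mul.1 hax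
          exact (hc'.zpow_right i).eq.symm
        have hAn : A.Normal := inferInstance
        obtain ⟨r, hr⟩ := hgen _ (hAn.conj_mem a haA x)
        -- `r ≡ 1` modulo every prime divisor of the order of `a`
        set n := orderOf a with hn
        have hnA : n ∣ Nat.card A := Subgroup.orderOf_dvd_natCard A haA
        have hconj : ∀ k : ℕ, x ^ k * a * (x ^ k)⁻¹ = a ^ (r ^ k) := by
          intro k
          induction k with
          | zero => simp
          | succ k ih =>
            calc x ^ (k + 1) * a * (x ^ (k + 1))⁻¹ = x * (x ^ k * a * (x ^ k)⁻¹) * x⁻¹ := by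
                  rw [pow_succ']; group
              _ = (x * a * x⁻¹) ^ (r ^ k) := by rw [ih, conj_zpow]
              _ = a ^ (r ^ (k + 1)) := by rw [← hr, ← zpow_mul, pow_succ']
        have hrq : (n : ℤ) ∣ r ^ q - 1 := by
          refine orderOf_dvd_iff_zpow_eq_one.2 ?_
          have := hconj q
          rw [← hx, pow_orderOf_eq_one, one_mul, inv_one, mul_one, hx] at this
          rw [zpow_sub_one, ← this, mul_inv_cancel]
        have hpr : ∀ p : ℕ, p.Prime → p ∣ n → (p : ℤ) ∣ r - 1 := by
          intro p hp hpn
          set e := a ^ (n / p) with he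
          have heo : orderOf e = p := orderOf_pow_orderOf_div (orderOf_pos a).ne' hpn
          have hee : x * e * x⁻¹ = e ^ r := by
            rw [he, ← conj_pow, ← hr, ← zpow_natCast, ← zpow_natCast, ← zpow_mul, ← zpow_mul, mul_comm]
          have hpq : p ≠ q := by
            intro h
            subst h
            exact hp.not_dvd_one (hAcop.gcd_eq_one ▸ Nat.dvd_gcd (hpn.trans hnA) hqd)
          set E : Subgroup H := Subgroup.zpowers x ⊔ Subgroup.zpowers e with hE
          have hn' : Subgroup.zpowers x ≤ Subgroup.normalizer (Subgroup.zpowers e : Set H) := by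
            refine Subgroup.zpowers_le.2 ?_
            have hmap : (Subgroup.zpowers e).map (MulAut.conj x).toMonoidHom = Subgroup.zpowers e := by
              refine Subgroup.eq_of_le_of_card_ge ?_
                (Subgroup.card_map_of_injective (MulAut.conj x).injective).ge
              rw [MonoidHom.map_zpowers, Subgroup.zpowers_le]
              exact Subgroup.mem_zpowers_iff.2 ⟨r, hee.symm⟩
            rw [Subgroup.mem_normalizer_iff]
            intro y
            constructor
            · intro hy
              rw [← hmap]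
              exact ⟨y, hy, rfl⟩
            · intro hy
              rw [← hmap] at hy
              obtain ⟨w, hw, hwe⟩ := hy
              have : w = y := (MulAut.conj x).injective hwe
              exact this ▸ hw
          have hdisj : Disjoint (Subgroup.zpowers x) (Subgroup.zpowers e) := by
            refine Subgroup.disjoint_of_coprime_natCard ?_
            rw [Nat.card_zpowers, Nat.card_zpowers, hx, heo]
            exact (Nat.coprime_primes hq hp).2 (Ne.symm hpq)
          have hEc : Nat.card E = q * p := by
            have hr' : (E : Set H) = Set.range (fun z : Subgroup.zpowers x × Subgroup.zpowers e =>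
                (z.1 : H) * z.2) := by
              rw [hE, Subgroup.coe_mul_of_left_le_normalizer_right _ _ hn']
              ext y
              simp [Set.mem_mul, Subgroup.mem_zpowers_iff]
            have : Nat.card (E : Set H) = q * p := by
              rw [hr', Nat.card_range_of_injective (Subgroup.mul_injective_of_disjoint hdisj),
                Nat.card_prod, Nat.card_zpowers, Nat.card_zpowers, hx, heo]
            exact this
          have hEcyc : IsCyclic (E.map H.subtype) :=
            FrobeniusFPF.isCyclic_of_le_complement hc hK hfpf _ (Subgroup.map_subtype_le E)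
              (Or.inr ⟨q, p, hq, hp, by
                rw [Subgroup.card_map_of_injective H.subtype_injective, hEc]⟩)
          have hcomm : x * e = e * x := by
            obtain ⟨g, hg⟩ := hEcyc.exists_generator
            obtain ⟨i, hi⟩ := Subgroup.mem_zpowers_iff.1 (hg ⟨x, ⟨x,
              Subgroup.mem_sup_left (Subgroup.mem_zpowers x), rfl⟩⟩)
            obtain ⟨j, hj⟩ := Subgroup.mem_zpowers_iff.1 (hg ⟨e, ⟨e,
              Subgroup.mem_sup_right (Subgroup.mem_zpowers e), rfl⟩⟩)
            have := congrArg Subtype.val ((Commute.zpow_zpow_self g i j).eq)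
            rw [hi, hj] at this
            exact Subtype.ext this
          have he1 : e ^ (r - 1) = 1 := by
            rw [zpow_sub_one, ← hee, hcomm, mul_inv_cancel_right, mul_inv_cancel]
          rw [← heo]
          exact orderOf_dvd_iff_zpow_eq_one.2 he1
        have hr1 : (n : ℤ) ∣ r - 1 := by
          have hfac : r ^ q - 1 = (∑ i ∈ Finset.range q, r ^ i) * (r - 1) := (geom_sum_mul r q).symm
          rw [hfac] at hrq
          refine IsCoprime.dvd_of_dvd_mul_left ?_ hrq
          rw [Int.isCoprime_iff_gcd_eq_one]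
          by_contra hne
          obtain ⟨p, hp, hpd⟩ := Nat.exists_prime_and_dvd hne
          have hpn : p ∣ n := by
            exact_mod_cast (Int.natCast_dvd_natCast.2 hpd).trans (Int.gcd_dvd_left _ _)
          have hps : (p : ℤ) ∣ ∑ i ∈ Finset.range q, r ^ i :=
            (Int.natCast_dvd_natCast.2 hpd).trans (Int.gcd_dvd_right _ _)
          have hsum : (p : ℤ) ∣ (∑ i ∈ Finset.range q, r ^ i) - q := by
            have : (∑ i ∈ Finset.range q, r ^ i) - (q : ℤ) =
                ∑ i ∈ Finset.range q, (r ^ i - 1) := by simp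
            rw [this]
            exact Finset.dvd_sum fun i _ => (hpr p hp hpn).trans (sub_one_dvd_pow_sub_one r i)
          have hpq : p ∣ q := by
            have := dvd_sub hps hsum
            rw [sub_sub_cancel] at this
            exact_mod_cast this
          rw [Nat.prime_dvd_prime_iff_eq hp hq] at hpq
          subst hpq
          exact hp.not_dvd_one (hAcop.gcd_eq_one ▸ Nat.dvd_gcd (hpn.trans hnA) hqd)
        rw [← hr]
        exact (zpow_eq_zpow_iff_modEq.2 (Int.modEq_iff_dvd.2 hr1).symm).trans (zpow_one a)
      intro g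
      obtain ⟨⟨⟨a, ha⟩, ⟨b, hb⟩⟩, hab⟩ := hB.2 g
      simp only at hab
      subst hab
      have hbx : b * x = x * b := by
        have hm : b * x * b⁻¹ * x⁻¹ ∈ A := Subgroup.commutator_mem_commutator
          (Subgroup.mem_top b) (Subgroup.mem_top x)
        have hm' : b * x * b⁻¹ * x⁻¹ ∈ B :=
          B.mul_mem (B.mul_mem (B.mul_mem hb hxB) (B.inv_mem hb)) (B.inv_mem hxB)
        exact mul_inv_eq_iff_eq_mul.1
          (mul_inv_eq_one.1 (Subgroup.disjoint_def.1 hB.disjoint hm hm'))
      rw [mul_assoc, hbx, ← mul_assoc, hxA a ha, mul_assoc]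
    rw [hbot, Subgroup.mem_bot] at hmem
    rw [hmem, orderOf_one] at hx
    exact hq.ne_one hx.symm

end Cfsg.Agent.FrobeniusComplement
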