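import Mathlib
import Cfsg.Agent.Lib.PF6Core43
import Cfsg.Agent.Lib.PGroupsBasic
import Cfsg.Agent.Lib.CharBasicInt

/-!
Descending coherence along nilpotent sections, Frobenius quotients, and degree induction for
characters non-trivial on a central subgroup.
-/

set_option autoImplicit false
set_option linter.unusedSectionVars false
set_option linter.style.haveILetI false

open scoped commutatorElement

namespace Cfsg.Agent.PF6

open Cfsg.Agent.CharBasic Cfsg.Agent.CharBasicOrth Cfsg.Agent.CharBasicDecomp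

universe u v

section Groups

variable {L : Type u} [Group L]

theorem map_commutator_sup {L' : Type*} [Group L'] (f : L →* L') (A H B : Subgroup L)
    (hB : B ≤ f.ker) : (⁅A ⊔ B, H⁆).map f = ⁅A.map f, H.map f⁆ := by
  rw [Subgroup.map_commutator, Subgroup.map_sup, (Subgroup.map_eq_bot_iff B).2 hB, sup_bot_eq]

theorem exists_lcs_le {M H : Subgroup L} [M.Normal] [(M.subgroupOf H).Normal]
    (hnil : Group.IsNilpotent (↥H ⧸ M.subgroupOf H)) : ∃ n, H.lowerCentralSeries n ≤ M := by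
  haveI := hnil
  let π := QuotientGroup.mk' M
  let f : ↥H →* ↥(H.map π) := π.subgroupMap H
  have hf : Function.Surjective f := π.subgroupMap_surjective H
  have hker : M.subgroupOf H ≤ f.ker := fun x hx => by
    rw [MonoidHom.mem_ker]
    exact Subtype.ext ((QuotientGroup.eq_one_iff (x : L)).2 hx)
  have : Group.IsNilpotent ↥(H.map π) :=
    Group.nilpotent_of_surjective (QuotientGroup.lift _ f hker)
      (QuotientGroup.lift_surjective_of_surjective _ f hf hker)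
  obtain ⟨n, hn⟩ := (Subgroup.isNilpotent_iff_lowerCentralSeries _).1 this
  refine ⟨n, ?_⟩
  rw [← Subgroup.map_lowerCentralSeries, Subgroup.map_eq_bot_iff, QuotientGroup.ker_mk'] at hn
  exact hn

theorem commutator_sup_ne {M A B H : Subgroup L} [M.Normal] [B.Normal] (hMB : M ≤ B) (hBA : B < A)
    (hAH : A ≤ H) [(M.subgroupOf H).Normal] (hnil : Group.IsNilpotent (↥H ⧸ M.subgroupOf H)) :
    ⁅A, H⁆ ⊔ B ≠ A := by
  intro h
  obtain ⟨n, hn⟩ := exists_lcs_le hnil
  suffices hk : ∀ k, A ≤ H.lowerCentralSeries k ⊔ B from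
    hBA.not_ge ((hk n).trans (sup_le (hn.trans hMB) le_rfl))
  intro k
  induction k with
  | zero => exact hAH.trans le_sup_left
  | succ k ih =>
    calc A = ⁅A, H⁆ ⊔ B := h.symm
      _ ≤ ⁅H.lowerCentralSeries k ⊔ B, H⁆ ⊔ B := sup_le_sup_right (Subgroup.commutator_mono ih le_rfl) _
      _ ≤ H.lowerCentralSeries (k + 1) ⊔ B := by
        refine sup_le ?_ le_sup_right
        have h1 := map_commutator_sup (QuotientGroup.mk' B) (H.lowerCentralSeries k) H B
          (QuotientGroup.ker_mk' B).ge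
        rw [← Subgroup.map_commutator] at h1
        rw [Subgroup.lowerCentralSeries_succ]
        have h2 := (Subgroup.map_le_map_iff (f := QuotientGroup.mk' B)).1 h1.le
        rwa [QuotientGroup.ker_mk'] at h2

/-- Descending along central steps from `H₁` to `M`. -/
theorem chain_induction [Finite L] {M H₁ H : Subgroup L} [M.Normal] [H₁.Normal] [H.Normal]
    (hMH₁ : M ≤ H₁) (hH₁H : H₁ ≤ H) [(M.subgroupOf H).Normal]
    (hnil : Group.IsNilpotent (↥H ⧸ M.subgroupOf H)) (P : Subgroup L → Prop) (h₁ : P H₁)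
    (hstep : ∀ A B : Subgroup L, A.Normal → B.Normal → M ≤ B → B < A → A ≤ H₁ →
      (∀ C : Subgroup L, C.Normal → B ≤ C → C < A → C = B) →
      (∀ x ∈ A, ∀ y ∈ H, x * y * x⁻¹ * y⁻¹ ∈ B) → P A → P B) : P M := by
  obtain ⟨A, -, ⟨hAn, hMA, hA₁, hPA⟩, hmin⟩ := Finite.exists_le_minimal
    (p := fun A : Subgroup L => A.Normal ∧ M ≤ A ∧ A ≤ H₁ ∧ P A) (a := H₁) ⟨‹_›, hMH₁, le_rfl, h₁⟩
  rcases eq_or_lt_of_le hMA with rfl | hlt
  · exact hPA
  obtain ⟨B, -, ⟨hBn, hMB, hBA⟩, hmax⟩ := Finite.exists_le_maximal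
    (p := fun B : Subgroup L => B.Normal ∧ M ≤ B ∧ B < A) (a := M) ⟨‹_›, le_rfl, hlt⟩
  exfalso
  have hCA : ⁅A, H⁆ ⊔ B ≤ A := sup_le (Subgroup.commutator_le_left A H) hBA.le
  have hCn : (⁅A, H⁆ ⊔ B).Normal := inferInstance
  have hCB : ⁅A, H⁆ ≤ B := le_sup_left.trans (hmax ⟨hCn, hMB.trans le_sup_right,
    hCA.lt_of_ne (commutator_sup_ne hMB hBA (hA₁.trans hH₁H) hnil)⟩ le_sup_right)
  have hPB := hstep A B hAn hBn hMB hBA hA₁
    (fun C hC hBC hCA => le_antisymm (hmax ⟨hC, hMB.trans hBC, hCA⟩ hBC) hBC)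
    (fun x hx y hy => hCB (Subgroup.commutator_mem_commutator hx hy)) hPA
  exact hBA.not_ge (hmin ⟨hBn, hMB, hBA.le.trans hA₁, hPB⟩ hBA.le)

/-- A Frobenius kernel's invariant subgroups have order congruent to one modulo the index. -/
theorem index_dvd_card_sub_one [Finite L] (K N : Subgroup L) [N.Normal] (hNK : N ≤ K)
    (hC : ∀ n ∈ K, n ≠ 1 → Subgroup.centralizer ({n} : Set L) ≤ K) : K.index ∣ Nat.card N - 1 := by
  classical
  letI : MulAction L N := MulAction.compHom N (MulAut.conjNormal : L →* MulAut N)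
  haveI := Fintype.ofFinite N
  haveI := Fintype.ofFinite (MulAction.orbitRel.Quotient L N)
  haveI := Fintype.ofFinite L
  have hsmul : ∀ (g : L) (n : N), ((g • n : N) : L) = g * n * g⁻¹ := fun g n =>
    MulAut.conjNormal_apply g n
  have hone : ∀ g : L, g • (1 : N) = 1 := fun g => Subtype.ext (by rw [hsmul]; simp)
  set w₁ : MulAction.orbitRel.Quotient L N := Quotient.mk'' (1 : N) with hw₁
  have hsum : Nat.card N = ∑ w : MulAction.orbitRel.Quotient L N, Nat.card (MulAction.orbit L w.out) := by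
    rw [Nat.card_congr (MulAction.selfEquivSigmaOrbits L N), Nat.card_sigma]
  have horb1 : MulAction.orbit L (1 : N) = {1} := Set.ext fun x => by
    simp [MulAction.mem_orbit_iff, hone, eq_comm]
  have hout1 : w₁.out = 1 := by
    have h : w₁.out ∈ MulAction.orbit L (1 : N) := MulAction.orbitRel_apply.1 (Quotient.mk_out' (s₁ := MulAction.orbitRel L N) 1)
    rw [horb1] at h; exact h
  rw [hsum, ← Finset.add_sum_erase _ _ (Finset.mem_univ w₁), hout1, horb1, Nat.card_unique,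
    Nat.add_sub_cancel_left]
  refine Finset.dvd_sum fun w hw => ?_
  have hne : w.out ≠ 1 := fun e => (Finset.ne_of_mem_erase hw) (by rw [hw₁, ← e, Quotient.out_eq'])
  rw [Nat.card_coe_set_eq, ← MulAction.index_stabilizer]
  refine Subgroup.index_dvd_of_le fun g hg => hC (w.out : L) (hNK w.out.2) (fun e => hne (Subtype.ext e)) ?_
  rw [MulAction.mem_stabilizer_iff] at hg
  rw [Subgroup.mem_centralizer_singleton_iff]
  have h := congrArg Subtype.val hg
  rw [hsmul] at h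
  exact mul_inv_eq_iff_eq_mul.1 h

/-- A finite nilpotent group with abelianisation of prime power order has prime power order. -/
theorem isPGroup_of_commutator_index {Q : Type u} [Group Q] [Finite Q] [Group.IsNilpotent Q]
    {p : ℕ} [Fact p.Prime] {d : ℕ} (h : (commutator Q).index = p ^ d) : IsPGroup p Q := by
  have P : Sylow p Q := default
  haveI : (P : Subgroup Q).Normal := P.normal_of_normalizerCondition Group.normalizerCondition_of_isNilpotent
  haveI : Group.IsSolvable (Q ⧸ (P : Subgroup Q)) :=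
    Group.isSolvable_of_surjective (QuotientGroup.mk'_surjective (P : Subgroup Q))
  rcases subsingleton_or_nontrivial (Q ⧸ (P : Subgroup Q)) with hs | hn
  · exact IsPGroup.of_equiv P.isPGroup'
      ((MulEquiv.subgroupCongr (QuotientGroup.subsingleton_iff.1 hs)).trans Subgroup.topEquiv)
  · exfalso
    apply (Group.IsSolvable.commutator_lt_top_of_nontrivial (Q ⧸ (P : Subgroup Q))).ne
    rw [← Subgroup.index_eq_one]
    have hmap : (commutator Q).map (QuotientGroup.mk' (P : Subgroup Q)) = commutator (Q ⧸ (P : Subgroup Q)) := by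
      rw [commutator_def, commutator_def, Subgroup.map_commutator,
        Subgroup.map_top_of_surjective _ (QuotientGroup.mk'_surjective _)]
    have h1 : (commutator (Q ⧸ (P : Subgroup Q))).index ∣ p ^ d := by
      rw [← hmap, ← h]
      exact Subgroup.index_map_dvd _ (QuotientGroup.mk'_surjective _)
    have h2 : (commutator (Q ⧸ (P : Subgroup Q))).index ∣ (P : Subgroup Q).index := by
      exact Subgroup.index_dvd_card _
    exact Nat.eq_one_of_dvd_coprimes
      (((Nat.Prime.coprime_iff_not_dvd Fact.out).2 P.not_dvd_index).pow_left d) h1 h2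

/-- A `p`-group with cyclic abelianisation of prime order is commutative. -/
theorem commutator_eq_bot_of_index_prime {Q : Type u} [Group Q] [Finite Q] {p : ℕ} [Fact p.Prime]
    (hQ : IsPGroup p Q) (h : (commutator Q).index = p) : commutator Q = ⊥ := by
  obtain ⟨g, -, hg⟩ := SetLike.exists_of_lt
    (show commutator Q < ⊤ from lt_top_iff_ne_top.2 fun e => (Fact.out : p.Prime).one_lt.ne' (by rw [← h, e, Subgroup.index_top]))
  have hlt : commutator Q < Subgroup.zpowers g ⊔ commutator Q :=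
    lt_of_le_of_ne le_sup_right fun e => hg (e ▸ Subgroup.mem_sup_left (Subgroup.mem_zpowers g))
  have htop : Subgroup.zpowers g ⊔ commutator Q = ⊤ := by
    have h1 := Subgroup.relIndex_mul_index hlt.le
    rw [h] at h1
    rcases (Nat.Prime.eq_one_or_self_of_dvd Fact.out _ ⟨_, h1.symm⟩ : _) with h2 | h2
    · exact absurd (Subgroup.relIndex_eq_one.1 h2) hlt.not_ge
    · rw [h2] at h1
      exact Subgroup.index_eq_one.1 (Nat.eq_of_mul_eq_mul_left (Fact.out : p.Prime).pos (by rw [h1, mul_one]))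
  have hz : Subgroup.zpowers g = ⊤ := frattini_nongenerating
    (top_le_iff.1 (htop.ge.trans (sup_le_sup_left (PGroupsBasic.commutator_le_frattini hQ) _)))
  rw [commutator_def, eq_bot_iff, Subgroup.commutator_le]
  intro a _ b _
  obtain ⟨i, rfl⟩ := Subgroup.mem_zpowers_iff.1 (hz ▸ Subgroup.mem_top a)
  obtain ⟨j, rfl⟩ := Subgroup.mem_zpowers_iff.1 (hz ▸ Subgroup.mem_top b)
  exact Subgroup.mem_bot.2 (commutatorElement_eq_one_iff_commute.2 (Commute.zpow_zpow_self g i j))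

/-- Abelian normal subgroups without invariant subgroups in between have prime power order. -/
theorem exists_between [Finite L] {Kb : Subgroup L} [Kb.Normal]
    (hab : ∀ x ∈ Kb, ∀ y ∈ Kb, x * y = y * x) (hpp : ¬ ∃ p m : ℕ, p.Prime ∧ Nat.card Kb = p ^ m) :
    ∃ N : Subgroup L, N.Normal ∧ ⊥ < N ∧ N < Kb := by
  have h1 : Nat.card Kb ≠ 1 := fun e => hpp ⟨2, 0, Nat.prime_two, by simpa using e⟩
  obtain ⟨p, hp, hdvd⟩ := Nat.exists_prime_and_dvd h1
  haveI := Fact.mk hp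
  obtain ⟨r, hr, hrdvd, hrp⟩ : ∃ r, r.Prime ∧ r ∣ Nat.card Kb ∧ r ≠ p := by
    by_contra hcon
    push Not at hcon
    obtain ⟨k, hk⟩ : ∃ k, Nat.card Kb = p ^ k :=
      ⟨_, Nat.eq_prime_pow_of_unique_prime_dvd Nat.card_pos.ne' fun hq hqd => hcon _ hq hqd⟩
    exact hpp ⟨p, k, hp, hk⟩
  haveI := Fact.mk hr
  set q := p ^ (Nat.card Kb).factorization p with hq
  let N : Subgroup L :=
    { carrier := {x | x ∈ Kb ∧ x ^ q = 1}
      one_mem' := ⟨one_mem _, one_pow _⟩
      mul_mem' := fun {x y} hx hy => ⟨mul_mem hx.1 hy.1, by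
        rw [(show Commute x y from hab x hx.1 y hy.1).mul_pow, hx.2, hy.2, one_mul]⟩
      inv_mem' := fun {x} hx => ⟨inv_mem hx.1, by rw [inv_pow, hx.2, inv_one]⟩ }
  refine ⟨N, ⟨fun x hx g => ⟨‹Kb.Normal›.conj_mem x hx.1 g, ?_⟩⟩, ?_, ?_⟩
  · rw [conj_pow, hx.2, mul_one, mul_inv_cancel]
  · obtain ⟨x, hx⟩ := exists_prime_orderOf_dvd_card' p hdvd
    have hxq : (x : L) ^ q = 1 := by
      apply orderOf_dvd_iff_pow_eq_one.1
      rw [Subgroup.orderOf_coe, hx, hq]
      exact dvd_pow_self p (Nat.pos_iff_ne_zero.1 (hp.factorization_pos_of_dvd Nat.card_pos.ne' hdvd))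
    refine bot_lt_iff_ne_bot.2 fun e => hp.one_lt.ne' ?_
    have : (x : L) ∈ (⊥ : Subgroup L) := e ▸ ⟨x.2, hxq⟩
    rw [← hx, orderOf_eq_one_iff]
    exact Subtype.ext (Subgroup.mem_bot.1 this)
  · refine lt_of_le_of_ne (fun x hx => hx.1) fun e => hrp ?_
    obtain ⟨x, hx⟩ := exists_prime_orderOf_dvd_card' r hrdvd
    have hxN : (x : L) ∈ N := e.symm ▸ x.2
    have h2 := orderOf_dvd_iff_pow_eq_one.2 hxN.2
    rw [Subgroup.orderOf_coe, hx] at h2
    exact (Nat.prime_dvd_prime_iff_eq hr hp).1 (hr.dvd_of_dvd_pow h2)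

end Groups

section Irr

variable {L : Type u} [Group L] [Fintype L] {K : Subgroup L} [K.Normal] {Z : Subgroup L} [Z.Normal]

theorem mem_induced_diff {φ : L → ℂ} :
    φ ∈ Cfsg.inducedIrrAbove K ⊥ \ Cfsg.inducedIrrAbove K Z ↔
      ∃ θ ∈ aboveFin K ⊥, θ ∉ aboveFin K Z ∧ ind K θ = φ := by
  rw [Set.mem_diff]
  constructor
  · rintro ⟨h1, h2⟩
    obtain ⟨θ, hθ, rfl⟩ := mem_induced.1 h1
    exact ⟨θ, hθ, fun h => h2 (mem_induced.2 ⟨θ, h, rfl⟩), rfl⟩
  · rintro ⟨θ, hθ, hθZ, rfl⟩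
    refine ⟨mem_induced.2 ⟨θ, hθ, rfl⟩, fun h => hθZ ?_⟩
    obtain ⟨θ', hθ', he⟩ := mem_induced.1 h
    exact above_closed hθ' he.symm

theorem mem_aboveFin_bot {θ : Cfsg.IrrCharacter K} :
    θ ∈ aboveFin K (⊥ : Subgroup L) ↔ (θ : K → ℂ) ≠ fun _ => 1 := by
  rw [mem_aboveFin]
  refine ⟨fun h => h.1, fun h => ⟨h, fun a ha => ?_⟩⟩
  rw [show a = 1 from Subtype.ext (Subgroup.mem_bot.1 ha)]

/-- Irreducible induced characters non-trivial on `Z` are all the irreducible characters non-trivial on `Z`. -/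
theorem diff_eq_irr (hZK : Z ≤ K)
    (hirr : ∀ χ ∈ Cfsg.inducedIrrAbove K ⊥ \ Cfsg.inducedIrrAbove K Z, Cfsg.IsIrrCharacter L χ) :
    Cfsg.inducedIrrAbove K ⊥ \ Cfsg.inducedIrrAbove K Z =
      {χ | Cfsg.IsIrrCharacter L χ ∧ ∃ z ∈ Z, χ z ≠ χ 1} := by
  classical
  haveI := Fintype.ofFinite K
  ext χ
  constructor
  · intro hχ
    refine ⟨hirr χ hχ, ?_⟩
    obtain ⟨θ, -, hθZ, rfl⟩ := mem_induced_diff.1 hχ
    by_contra hcon
    push Not at hcon
    apply hθZ
    have hiθ := hirr _ hχ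
    have hres := CharInduced.isCharacter_res K (isCharacter_of_isIrrCharacter hiθ)
    obtain ⟨c, hc, hsum⟩ := exists_mult hres
    have hc0 : c θ ≠ 0 := by
      intro h0
      have h1 := hc θ
      rw [h0, Nat.cast_zero, ← CharInduced.inner_ind_right K (θ : K → ℂ) (CharInduced.isClassFunction_irr hiθ),
        classInner_irr_self hiθ] at h1
      exact one_ne_zero h1
    refine mem_aboveFin.2 ⟨fun e => ?_, fun a ha => ?_⟩
    · obtain ⟨h1, h2⟩ := Set.mem_sdiff _ |>.1 hχ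
      obtain ⟨θ', hθ', he⟩ := mem_induced.1 h1
      have := above_closed hθ' he.symm
      exact mem_aboveFin_bot.1 this e
    have hz := hcon (a : L) ha
    have e1 := congrFun hsum a
    have e2 := congrFun hsum 1
    simp only [Finset.sum_apply, Pi.smul_apply, smul_eq_mul, Subgroup.coe_one] at e1 e2
    have e3 := congrArg Complex.re (e1.symm.trans (hz.trans e2))
    simp only [Complex.re_sum, Complex.mul_re, Complex.natCast_re, Complex.natCast_im, zero_mul,
      sub_zero] at e3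
    have hle : ∀ ψ : Cfsg.IrrCharacter K, (c ψ : ℝ) * ((ψ : K → ℂ) a).re ≤ c ψ * ((ψ : K → ℂ) 1).re :=
      fun ψ => mul_le_mul_of_nonneg_left (by
        rw [deg_spec (isCharacter_of_isIrrCharacter ψ.2), Complex.natCast_re]
        exact ((ψ : K → ℂ) a).re_le_norm.trans
          ((isCharacter_norm_le (isCharacter_of_isIrrCharacter ψ.2) a).trans
            (by rw [deg_spec (isCharacter_of_isIrrCharacter ψ.2), Complex.natCast_re]))) (Nat.cast_nonneg _)
    have e4 := (Finset.sum_eq_sum_iff_of_le fun ψ _ => hle ψ).1 e3 θ (Finset.mem_univ _)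
    have e5 := mul_left_cancel₀ (Nat.cast_ne_zero.2 hc0) e4
    have hn := isCharacter_norm_le (isCharacter_of_isIrrCharacter θ.2) a
    rw [deg_spec (isCharacter_of_isIrrCharacter θ.2), Complex.natCast_re] at e5 hn
    rw [deg_spec (isCharacter_of_isIrrCharacter θ.2)]
    have h2 := Complex.normSq_eq_norm_sq ((θ : K → ℂ) a)
    rw [Complex.normSq_apply, e5] at h2
    have him : ((θ : K → ℂ) a).im = 0 := by
      have h0 := norm_nonneg ((θ : K → ℂ) a)
      nlinarith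
    exact Complex.ext (by simp [e5]) (by simp [him])
  · rintro ⟨hχ, z, hz, hne⟩
    have hres := CharInduced.isCharacter_res K (isCharacter_of_isIrrCharacter hχ)
    obtain ⟨c, hc, hsum⟩ := exists_mult hres
    obtain ⟨θ, hθ0, hθz⟩ : ∃ θ : Cfsg.IrrCharacter K, c θ ≠ 0 ∧
        (θ : K → ℂ) ⟨z, hZK hz⟩ ≠ (θ : K → ℂ) 1 := by
      by_contra hcon
      push Not at hcon
      apply hne
      have e1 := congrFun hsum ⟨z, hZK hz⟩
      have e2 := congrFun hsum 1
      simp only [Finset.sum_apply, Pi.smul_apply, smul_eq_mul, Subgroup.coe_one] at e1 e2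
      rw [e1, e2]
      refine Finset.sum_congr rfl fun ψ _ => ?_
      by_cases h : c ψ = 0
      · simp [h]
      · rw [hcon ψ h]
    have hθZ : θ ∉ aboveFin K Z := fun h => hθz ((mem_aboveFin.1 h).2 _ hz)
    have hθbot : θ ∈ aboveFin K (⊥ : Subgroup L) :=
      mem_aboveFin_bot.2 fun e => hθz (by rw [e])
    have hmem := mem_induced_diff.2 ⟨θ, hθbot, hθZ, rfl⟩
    by_cases he : ind K θ = χ
    · exact he ▸ hmem
    exfalso
    apply hθ0
    have h1 := hc θ
    rw [← CharInduced.inner_ind_right K (θ : K → ℂ) (CharInduced.isClassFunction_irr hχ),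
      classInner_irr_ne hχ (hirr _ hmem) (Ne.symm he)] at h1
    exact_mod_cast h1.symm

/-- Degree induction for irreducible induced characters non-trivial on a central subgroup. -/
theorem coherent_central_pGroup {G : Type v} [Group G] [Fintype G] {τ : (L → ℂ) → (G → ℂ)} {p : ℕ}
    [Fact p.Prime] (hp3 : 3 ≤ p) (hKp : IsPGroup p K) (hcop : K.index.Coprime p) (hZK : Z ≤ K)
    (hZne : Z ≠ ⊥) (hZc : ∀ z ∈ Z, ∀ k ∈ K, z * k = k * z)
    (hirr : ∀ χ ∈ Cfsg.inducedIrrAbove K ⊥ \ Cfsg.inducedIrrAbove K Z, Cfsg.IsIrrCharacter L χ)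
    (hext : Extends (Cfsg.inducedIrrAbove K ⊥ \ Cfsg.inducedIrrAbove K Z) τ)
    (hbase : ∀ S₀ : Set (L → ℂ), S₀.Nonempty → S₀ ⊆ Cfsg.inducedIrrAbove K ⊥ \ Cfsg.inducedIrrAbove K Z →
      (∀ φ ∈ S₀, Cfsg.conjFun φ ∈ S₀) → (∀ φ ∈ S₀, ∀ ψ ∈ S₀, φ 1 = ψ 1) →
      (∀ φ ∈ S₀, ∀ ψ ∈ Cfsg.inducedIrrAbove K ⊥ \ Cfsg.inducedIrrAbove K Z, ψ ∉ S₀ →
        Cfsg.charDegree φ < Cfsg.charDegree ψ) →
      Cfsg.IsCoherent S₀ {1}ᶜ τ) :
    Cfsg.IsCoherent (Cfsg.inducedIrrAbove K ⊥ \ Cfsg.inducedIrrAbove K Z) {1}ᶜ τ := by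
  classical
  set X := Cfsg.inducedIrrAbove K ⊥ \ Cfsg.inducedIrrAbove K Z with hXdef
  set e := K.index with he
  have hepos : 0 < e := Nat.pos_of_ne_zero Subgroup.index_ne_zero_of_finite
  set W := aboveFin K (⊥ : Subgroup L) \ aboveFin K Z with hW
  have hWX : ∀ φ, φ ∈ X ↔ ∃ θ ∈ W, ind K θ = φ := fun φ => by
    simp only [hXdef, mem_induced_diff, hW, Finset.mem_sdiff, and_assoc]
  have hWcl : ∀ θ ∈ W, ∀ θ', ind K θ' = ind K θ → θ' ∈ W := by
    intro θ hθ θ' h
    simp only [hW, Finset.mem_sdiff] at hθ ⊢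
    exact ⟨above_closed hθ.1 h, fun h' => hθ.2 (above_closed h' h.symm)⟩
  have hXc : ∀ φ ∈ X, Cfsg.conjFun φ ∈ X := fun φ hφ => ⟨induced_conj hφ.1, fun h => hφ.2 (by
    simpa [CoherenceBasic.conjFun_conjFun] using induced_conj h)⟩
  obtain ⟨a, ha⟩ := hKp.exists_card_eq
  choose j hj using fun θ : Cfsg.IrrCharacter K => show ∃ j ≤ a, Cfsg.charDegree (θ : K → ℂ) = p ^ j by
    obtain ⟨dd, -, hdd, hdvd⟩ := CharBasicInt.exists_apply_one_dvd_card θ.2
    rw [deg_of_eq hdd]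
    rw [ha] at hdvd
    exact (Nat.dvd_prime_pow Fact.out).1 hdvd
  have hjle : ∀ θ : Cfsg.IrrCharacter K, j θ ≤ a := fun θ => (hj θ).1
  have hjd : ∀ θ : Cfsg.IrrCharacter K, Cfsg.charDegree (θ : K → ℂ) = p ^ j θ := fun θ => (hj θ).2
  have hp1 : 1 < p := (Fact.out : p.Prime).one_lt
  have hjeq : ∀ θ θ' : Cfsg.IrrCharacter K, ind K θ' = ind K θ → j θ' = j θ := fun θ θ' h =>
    Nat.pow_right_injective hp1 (show p ^ j θ' = p ^ j θ from ((hjd θ').symm.trans (deg_eq_of_ind_eq K h)).trans (hjd θ))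
  have hjconj : ∀ θ θ' : Cfsg.IrrCharacter K, ind K θ' = Cfsg.conjFun (ind K θ) → j θ' = j θ := fun θ θ' h => by
    have h1 := ind_apply_one K θ'
    rw [h, CoherenceBasic.conjFun_apply_one (ind_isCharacter K θ), ind_apply_one, Nat.cast_inj,
      hjd, hjd] at h1
    exact (Nat.pow_right_injective hp1 (Nat.eq_of_mul_eq_mul_left hepos h1)).symm
  obtain ⟨θz, hθz⟩ : W.Nonempty := by
    rw [Finset.nonempty_iff_ne_empty]
    intro h0
    have hsub : aboveFin K (⊥ : Subgroup L) ⊆ aboveFin K Z := Finset.sdiff_eq_empty_iff_subset.1 h0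
    have h1 := sum_sq_above (K := K) (A := (⊥ : Subgroup L))
    rw [Finset.Subset.antisymm hsub (above_mono bot_le), sum_sq_above (K := K) (A := Z),
      Subgroup.relIndex_bot_left] at h1
    have h2 := (Z.subgroupOf K).index_mul_card
    rw [← Subgroup.relIndex, h1, Nat.card_congr (Subgroup.subgroupOfEquivOfLe hZK).toEquiv] at h2
    have h3 : Nat.card Z = 1 := by
      have := Nat.card_pos (α := K)
      nlinarith [Nat.card_pos (α := Z)]
    exact hZne (Subgroup.card_eq_one.1 h3)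
  obtain ⟨θ₀, hθ₀, hmin⟩ := W.exists_min_image j ⟨θz, hθz⟩
  set m := j θ₀ with hm
  -- the squares of the small degrees
  have hE : ∀ i, (∃ θ ∈ W, j θ = i + 1) → m ≤ i →
      e * p ^ (2 * (i + 1)) ≤ ∑ θ ∈ W.filter (fun θ => j θ ≤ i), Cfsg.charDegree (θ : K → ℂ) ^ 2 := by
    rintro i ⟨θ, hθ, hθi⟩ hmi
    set Wl := W.filter (fun θ => j θ ≤ i)
    have hsqdvd : p ^ (2 * (i + 1)) ∣ Z.relIndex K := by
      have hb := deg_bound (θ := θ) (B := ⊥) (C := K) (D := Z) bot_le hZK le_rfl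
        (fun x hx y hy => by rw [Subgroup.mem_bot, hZc x hx y hy]; group)
        (fun a ha => by rw [show a = 1 from Subtype.ext (Subgroup.mem_bot.1 ha)])
      rw [hjd, hθi] at hb
      have h2 := (Z.subgroupOf K).index_mul_card
      rw [← Subgroup.relIndex, Nat.card_congr (Subgroup.subgroupOfEquivOfLe hZK).toEquiv] at h2
      obtain ⟨b, hb', hbr⟩ := (Nat.dvd_prime_pow (Fact.out : p.Prime)).1 (ha ▸ ⟨_, h2.symm⟩ : Z.relIndex K ∣ p ^ a)
      rw [hbr] at h2 ⊢
      refine pow_dvd_pow p ((Nat.pow_le_pow_iff_right hp1).1 ?_)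
      rw [← h2, sq (p ^ b * Nat.card Z)] at hb
      refine Nat.le_of_mul_le_mul_right (c := p ^ b * Nat.card Z * Nat.card Z) ?_
        (Nat.mul_pos (Nat.mul_pos (pow_pos (Fact.out : p.Prime).pos b) Nat.card_pos) Nat.card_pos)
      calc _ = (p ^ (i + 1)) ^ 2 * (p ^ b * Nat.card Z * Nat.card Z) := by rw [← pow_mul, mul_comm 2]
        _ ≤ p ^ b * Nat.card Z * (p ^ b * Nat.card Z) := hb
        _ = _ := by ring
    have htot : p ^ (2 * (i + 1)) ∣ ∑ θ ∈ W, Cfsg.charDegree (θ : K → ℂ) ^ 2 := by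
      have hsum := Finset.sum_sdiff (f := fun θ : Cfsg.IrrCharacter K => Cfsg.charDegree (θ : K → ℂ) ^ 2)
        (above_mono (bot_le : (⊥ : Subgroup L) ≤ Z) (K := K))
      have h1 := sum_sq_above (K := K) (A := (⊥ : Subgroup L))
      have h2 := sum_sq_above (K := K) (A := Z)
      rw [Subgroup.relIndex_bot_left] at h1
      have h3 : (∑ θ ∈ W, Cfsg.charDegree (θ : K → ℂ) ^ 2) + Z.relIndex K = Nat.card K := by
        simp only [hW]; omega
      refine (Nat.dvd_add_left hsqdvd).1 ?_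
      rw [h3]
      exact hsqdvd.trans ⟨_, ((Z.subgroupOf K).index_mul_card).symm⟩
    have hdvdp : p ^ (2 * (i + 1)) ∣ ∑ θ ∈ Wl, Cfsg.charDegree (θ : K → ℂ) ^ 2 := by
      rw [← Finset.sum_filter_add_sum_filter_not W (fun θ => j θ ≤ i)] at htot
      refine (Nat.dvd_add_left (Finset.dvd_sum fun θ hθ => ?_)).1 htot
      rw [hjd, ← pow_mul]
      exact pow_dvd_pow p (by have := (Finset.mem_filter.1 hθ).2; omega)
    have hdvde : e ∣ ∑ θ ∈ Wl, Cfsg.charDegree (θ : K → ℂ) ^ 2 := by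
      rw [← Finset.sum_fiberwise_of_maps_to (g := ind K) (t := Wl.image (ind K))
        (fun θ h => Finset.mem_image_of_mem _ h)]
      refine Finset.dvd_sum fun φ hφ => ?_
      obtain ⟨θ', hθ', rfl⟩ := Finset.mem_image.1 hφ
      obtain ⟨hθ'W, hθ'i⟩ := Finset.mem_filter.1 hθ'
      have hirr' := hirr _ ((hWX _).2 ⟨θ', hθ'W, rfl⟩)
      obtain ⟨h1, -, h3⟩ := nm_mul_card_fibre K θ'
      have hnm : nm (ind K θ') = 1 := nm_of_eq (by rw [classInner_irr_self hirr', Nat.cast_one])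
      rw [hnm, one_mul] at h3
      rw [Finset.sum_congr rfl (fun x hx => by rw [deg_eq_of_ind_eq K (Finset.mem_filter.1 hx).2]),
        Finset.sum_const, smul_eq_mul]
      refine Dvd.dvd.mul_right ?_ _
      rw [show (Wl.filter fun x => ind K x = ind K θ').card = e from ?_]
      rw [he, ← h3, ← Fintype.card_coe, ← Nat.card_eq_fintype_card]
      exact Nat.card_congr (Equiv.subtypeEquivRight fun x => by
        simp only [Wl, Finset.mem_filter]
        exact ⟨fun h => h.2, fun h => ⟨⟨hWcl θ' hθ'W x h, by rw [hjeq θ' x h]; exact hθ'i⟩, h⟩⟩)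
    refine Nat.le_of_dvd ?_ ((Nat.Coprime.pow_right _ hcop).mul_dvd_of_dvd_of_dvd hdvde hdvdp)
    exact Finset.sum_pos (fun θ _ => pow_pos (deg_pos θ.2) 2) ⟨θ₀, Finset.mem_filter.2 ⟨hθ₀, hmi⟩⟩
  -- induction on the degree
  suffices hk : ∀ k, ∃ S₁ : Finset (L → ℂ), ↑S₁ ⊆ X ∧ (∀ φ ∈ S₁, Cfsg.conjFun φ ∈ S₁) ∧
      (∀ θ ∈ W, j θ ≤ m + k → ind K θ ∈ S₁) ∧ Cfsg.IsCoherent (↑S₁ : Set (L → ℂ)) {1}ᶜ τ by
    obtain ⟨S₁, h1, -, h3, h4⟩ := hk a
    have : (↑S₁ : Set (L → ℂ)) = X := Set.Subset.antisymm h1 fun φ hφ => by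
      obtain ⟨θ, hθ, rfl⟩ := (hWX φ).1 hφ
      exact h3 θ hθ (le_add_left (hjle θ))
    rwa [this] at h4
  intro k
  induction k with
  | zero =>
    refine ⟨(W.filter fun θ => j θ ≤ m).image (ind K), ?_, ?_, ?_, ?_⟩
    · intro φ hφ
      obtain ⟨θ, hθ, rfl⟩ := Finset.mem_image.1 hφ
      exact (hWX _).2 ⟨θ, (Finset.mem_filter.1 hθ).1, rfl⟩
    · intro φ hφ
      obtain ⟨θ, hθ, rfl⟩ := Finset.mem_image.1 hφ
      obtain ⟨hθW, hθm⟩ := Finset.mem_filter.1 hθ
      obtain ⟨θ', hθ', he'⟩ := (hWX _).1 (hXc _ ((hWX _).2 ⟨θ, hθW, rfl⟩))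
      refine Finset.mem_image.2 ⟨θ', Finset.mem_filter.2 ⟨hθ', ?_⟩, he'⟩
      rw [hjconj θ θ' he']; exact hθm
    · intro θ hθ hθm
      exact Finset.mem_image_of_mem _ (Finset.mem_filter.2 ⟨hθ, hθm⟩)
    · refine hbase _ ⟨ind K θ₀, Finset.mem_coe.2 (Finset.mem_image_of_mem _
        (Finset.mem_filter.2 ⟨hθ₀, le_rfl⟩))⟩ ?_ ?_ ?_ ?_
      · intro φ hφ
        obtain ⟨θ, hθ, rfl⟩ := Finset.mem_image.1 (Finset.mem_coe.1 hφ)
        exact (hWX _).2 ⟨θ, (Finset.mem_filter.1 hθ).1, rfl⟩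
      · intro φ hφ
        obtain ⟨θ, hθ, rfl⟩ := Finset.mem_image.1 (Finset.mem_coe.1 hφ)
        obtain ⟨hθW, hθm⟩ := Finset.mem_filter.1 hθ
        obtain ⟨θ', hθ', he'⟩ := (hWX _).1 (hXc _ ((hWX _).2 ⟨θ, hθW, rfl⟩))
        refine Finset.mem_coe.2 (Finset.mem_image.2 ⟨θ', Finset.mem_filter.2 ⟨hθ', ?_⟩, he'⟩)
        rw [hjconj θ θ' he']; exact hθm
      · intro φ hφ ψ hψ
        obtain ⟨θ, hθ, rfl⟩ := Finset.mem_image.1 (Finset.mem_coe.1 hφ)
        obtain ⟨θ', hθ', rfl⟩ := Finset.mem_image.1 (Finset.mem_coe.1 hψ)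
        obtain ⟨hθW, hθm⟩ := Finset.mem_filter.1 hθ
        obtain ⟨hθ'W, hθ'm⟩ := Finset.mem_filter.1 hθ'
        rw [ind_apply_one, ind_apply_one, hjd, hjd, le_antisymm hθm (hmin θ hθW),
          le_antisymm hθ'm (hmin θ' hθ'W)]
      · intro φ hφ ψ hψ hψ'
        obtain ⟨θ, hθ, rfl⟩ := Finset.mem_image.1 (Finset.mem_coe.1 hφ)
        obtain ⟨θ', hθ', rfl⟩ := (hWX _).1 hψ
        rw [deg_ind, deg_ind, hjd, hjd]
        refine Nat.mul_lt_mul_of_pos_left (Nat.pow_lt_pow_right hp1 ?_) hepos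
        refine lt_of_le_of_lt (Finset.mem_filter.1 hθ).2 (not_le.1 fun h => hψ' ?_)
        exact Finset.mem_coe.2 (Finset.mem_image_of_mem _ (Finset.mem_filter.2 ⟨hθ', h⟩))
  | succ k ih =>
    obtain ⟨S₀, h0X, h0c, h0, hcoh⟩ := ih
    obtain ⟨S₁, h01, hT, h1X, h1c, h1⟩ := coherent_grow hXc hext S₀ h0X h0c hcoh
      ((W.filter fun θ => j θ = m + k + 1).image (ind K))
      (fun φ hφ => by
        obtain ⟨θ, hθ, rfl⟩ := Finset.mem_image.1 hφ
        exact (hWX _).2 ⟨θ, (Finset.mem_filter.1 hθ).1, rfl⟩)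
      (fun χ hχ _ => by
        obtain ⟨θ, hθ, rfl⟩ := Finset.mem_image.1 hχ
        obtain ⟨hθW, hθk⟩ := Finset.mem_filter.1 hθ
        refine ⟨ind K θ₀, h0 θ₀ hθ₀ (Nat.le_add_right m k), ?_, ?_⟩
        · rw [deg_ind, deg_ind, hjd, hjd]
          exact Nat.mul_dvd_mul_left _ (pow_dvd_pow p (hmin θ hθW))
        · rw [deg_ind, deg_ind, hjd, hjd, hθk, ← hm]
          have hsub : (W.filter fun θ => j θ ≤ m + k).image (ind K) ⊆ S₀ := fun φ hφ => by
            obtain ⟨θ', hθ', rfl⟩ := Finset.mem_image.1 hφ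
            exact h0 θ' (Finset.mem_filter.1 hθ').1 (Finset.mem_filter.1 hθ').2
          refine lt_of_lt_of_le ?_ (Finset.sum_le_sum_of_subset_of_nonneg hsub
            fun φ _ _ => by positivity)
          rw [sum_sq_div_nm K _ fun θ' hθ' θ'' h => Finset.mem_filter.2
            ⟨hWcl θ' (Finset.mem_filter.1 hθ').1 θ'' h, by
              rw [hjeq θ' θ'' h]; exact (Finset.mem_filter.1 hθ').2⟩]
          have hnat : 2 * (e * p ^ (m + k + 1)) * (e * p ^ m) <
              e * ∑ θ ∈ W.filter (fun θ => j θ ≤ m + k), Cfsg.charDegree (θ : K → ℂ) ^ 2 := by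
            have hge := hE (m + k) ⟨θ, hθW, hθk⟩ (Nat.le_add_right m k)
            refine lt_of_lt_of_le ?_ (Nat.mul_le_mul_left e hge)
            have hpw : 2 * (p ^ (m + k + 1) * p ^ m) < p ^ (2 * (m + k + 1)) := by
              calc 2 * (p ^ (m + k + 1) * p ^ m) < p * (p ^ (m + k + 1) * p ^ m) :=
                    Nat.mul_lt_mul_of_pos_right (by omega) (Nat.mul_pos (pow_pos (by omega) _) (pow_pos (by omega) _))
                _ = p ^ (m + k + 1 + m + 1) := by ring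
                _ ≤ _ := Nat.pow_le_pow_right (by omega) (by omega)
            calc _ = e * e * (2 * (p ^ (m + k + 1) * p ^ m)) := by ring
              _ < e * e * p ^ (2 * (m + k + 1)) := Nat.mul_lt_mul_of_pos_left hpw (Nat.mul_pos hepos hepos)
              _ = _ := by ring
          exact_mod_cast hnat)
    refine ⟨S₁, h1X, h1c, fun θ hθ hle => ?_, h1⟩
    by_cases h : j θ ≤ m + k
    · exact h01 (h0 θ hθ h)
    · exact hT (Finset.mem_image_of_mem _ (Finset.mem_filter.2 ⟨hθ, by omega⟩))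

end Irr

end Cfsg.Agent.PF6
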