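import Mathlib
import Cfsg.Agent.Lib.PF6Main43

/-!
Coherence above a nilpotent section and over Frobenius quotients.
-/

set_option autoImplicit false
set_option linter.unusedSectionVars false
set_option linter.style.haveILetI false

open scoped commutatorElement

namespace Cfsg.Agent.PF6

open Cfsg.Agent.CharBasic Cfsg.Agent.CharBasicOrth Cfsg.Agent.CharBasicDecomp

universe u v

variable {L : Type u} [Group L] [Fintype L] {G : Type v} [Group G] [Fintype G]
  {τ : (L → ℂ) → (G → ℂ)} {R : (L → ℂ) → Finset (G → ℂ)} {K : Subgroup L} [K.Normal]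

theorem sq_step {k h e : ℕ} (hk : 1 ≤ k) (hh : 4 * e ^ 2 + 1 < h) :
    4 * (k * e) ^ 2 * h < (h * k - 1) ^ 2 := by
  obtain ⟨h', rfl⟩ : ∃ h', h = h' + 1 := ⟨h - 1, by omega⟩
  obtain ⟨k', rfl⟩ : ∃ k', k = k' + 1 := ⟨k - 1, by omega⟩
  have e1 : (k' + 1) * h' ≤ (h' + 1) * (k' + 1) - 1 := by
    have : (h' + 1) * (k' + 1) = (k' + 1) * h' + k' + 1 := by ring
    omega
  refine lt_of_lt_of_le ?_ (Nat.pow_le_pow_left e1 2)
  have h2 : 4 * e ^ 2 * (h' + 1) < h' ^ 2 := by
    have hle : 4 * e ^ 2 + 1 ≤ h' := by omega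
    have := Nat.mul_le_mul_right h' hle
    have e2 : (4 * e ^ 2 + 1) * h' = 4 * e ^ 2 * h' + h' := by ring
    have e3 : 4 * e ^ 2 * (h' + 1) = 4 * e ^ 2 * h' + 4 * e ^ 2 := by ring
    have e4 : h' ^ 2 = h' * h' := sq h'
    omega
  calc 4 * ((k' + 1) * e) ^ 2 * (h' + 1) = (k' + 1) ^ 2 * (4 * e ^ 2 * (h' + 1)) := by ring
    _ < (k' + 1) ^ 2 * h' ^ 2 := Nat.mul_lt_mul_of_pos_left h2 (by positivity)
    _ = _ := by ring

theorem coherent_nilpotent (hS : Cfsg.IsCoherenceSystem (Cfsg.inducedIrrAbove K ⊥) τ R)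
    (hsolv : Group.IsSolvable K) {M H₁ H : Subgroup L} [M.Normal] [H₁.Normal] [H.Normal] (hMH₁ : M ≤ H₁)
    (hH₁H : H₁ ≤ H) (hHK : H ≤ K) [(M.subgroupOf H).Normal]
    (hnil : Group.IsNilpotent (↥H ⧸ M.subgroupOf H))
    (hcoh : Cfsg.IsCoherent (Cfsg.inducedIrrAbove K H₁) {1}ᶜ τ)
    (hbig : 4 * K.index ^ 2 + 1 < H₁.relIndex H) :
    Cfsg.IsCoherent (Cfsg.inducedIrrAbove K M) {1}ᶜ τ := by
  have hlt : H₁ < K := by
    refine lt_of_le_of_ne (hH₁H.trans hHK) fun e => ?_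
    subst e
    rw [Subgroup.relIndex_eq_one.2 hHK] at hbig
    omega
  refine chain_induction hMH₁ hH₁H hnil (fun A => Cfsg.IsCoherent (Cfsg.inducedIrrAbove K A) {1}ᶜ τ) hcoh ?_
  intro A B hAn hBn _ hBA hA₁ _ hcent hA
  haveI := hAn
  haveI := hBn
  have hAK : A < K := lt_of_le_of_lt hA₁ hlt
  refine coherent_descend hsolv (fun φ hφ => induced_conj hφ) (extends_of_system hS subset_rfl)
    (fun φ hφ => hS.isCharacter φ hφ) (fun φ hφ => hS.conj_ne φ hφ) A B hAK (hBA.trans hAK)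
    (induced_mono bot_le) (induced_mono bot_le) hA fun θ hθ =>
      bound_of_sq (Nat.pos_of_ne_zero (Subgroup.index_ne_zero_of_finite)) hBA.le (hA₁.trans hH₁H) hHK
        hcent hθ ?_
  have h1 := Subgroup.relIndex_mul_relIndex A H₁ H hA₁ hH₁H
  have hh : 4 * K.index ^ 2 + 1 < A.relIndex H :=
    lt_of_lt_of_le hbig (h1 ▸ Nat.le_mul_of_pos_left _ (Nat.pos_of_ne_zero (Subgroup.index_ne_zero_of_finite)))
  rw [← Subgroup.relIndex_mul_index hHK, ← Subgroup.relIndex_mul_relIndex A H K (hA₁.trans hH₁H) hHK]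
  exact sq_step (Nat.pos_of_ne_zero (Subgroup.index_ne_zero_of_finite)) hh

theorem deg_one_of_commutator_le {A : Subgroup L} [A.Normal] (hA : ⁅K, K⁆ ≤ A) (hAK : A ≤ K)
    {θ : Cfsg.IrrCharacter K} (hθ : θ ∈ aboveFin K A) : Cfsg.charDegree (θ : K → ℂ) = 1 := by
  have h := deg_bound (θ := θ) (B := A) (C := K) (D := K) hAK le_rfl le_rfl
    (fun x hx y hy => hA (Subgroup.commutator_mem_commutator hx hy)) (mem_aboveFin.1 hθ).2
  have hc := Nat.card_pos (α := K)
  have : Cfsg.charDegree (θ : K → ℂ) ^ 2 ≤ 1 := by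
    refine Nat.le_of_mul_le_mul_right (c := Nat.card K * Nat.card K) ?_ (Nat.mul_pos hc hc)
    rw [one_mul, ← sq (Nat.card K)] at *
    exact h
  nlinarith [deg_pos θ.2]

theorem coherent_frobenius (hS : Cfsg.IsCoherenceSystem (Cfsg.inducedIrrAbove K ⊥) τ R)
    (hsolv : Group.IsSolvable K) (hodd : Odd (Nat.card L)) (M : Subgroup L) [M.Normal] (hMK : M ≤ K)
    [(M.subgroupOf K).Normal] (hnil : Group.IsNilpotent (↥K ⧸ M.subgroupOf K)) (H₁ : Subgroup L)
    (hH₁ : H₁ = ⁅K, K⁆ ⊔ M) (hH₁K : H₁ < K) (hKL : K < ⊤)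
    (hfrob : ∀ k ∈ K, k ∉ H₁ → ∀ x : L, x * k * x⁻¹ * k⁻¹ ∈ H₁ → x ∈ K)
    (hgood : (∃ N : Subgroup L, N.Normal ∧ H₁ < N ∧ N < K) ∨ 4 * K.index ^ 2 + 1 < H₁.relIndex K ∨
      (¬ ∃ p m : ℕ, p.Prime ∧ M.relIndex K = p ^ m) ∨ ⁅K, K⁆ ≤ M ∨
      (∃ p m : ℕ, p.Prime ∧ M.relIndex K = p ^ m ∧ K.index ∣ p - 1)) :
    Cfsg.IsCoherent (Cfsg.inducedIrrAbove K M) {1}ᶜ τ := by
  classical
  have hMH₁ : M ≤ H₁ := hH₁ ▸ le_sup_right
  have hcomm : ⁅K, K⁆ ≤ H₁ := hH₁ ▸ le_sup_left
  haveI : H₁.Normal := hH₁ ▸ inferInstance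
  obtain ⟨θ₀, hθ₀, -⟩ := exists_linear K hsolv hH₁K
  have hbase : Cfsg.IsCoherent (Cfsg.inducedIrrAbove K H₁) {1}ᶜ τ := by
    refine CoherenceExtend.coherent_of_constant_degree (system_restrict hS (induced_mono bot_le)
      ⟨_, mem_induced.2 ⟨θ₀, hθ₀, rfl⟩⟩ fun φ hφ => induced_conj hφ) fun φ hφ ψ hψ => ?_
    obtain ⟨θ, hθ, rfl⟩ := mem_induced.1 hφ
    obtain ⟨θ', hθ', rfl⟩ := mem_induced.1 hψ
    rw [ind_apply_one, ind_apply_one, deg_one_of_commutator_le hcomm hH₁K.le hθ,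
      deg_one_of_commutator_le hcomm hH₁K.le hθ']
  by_cases hbig : 4 * K.index ^ 2 + 1 < H₁.relIndex K
  · exact coherent_nilpotent hS hsolv hMH₁ hH₁K.le le_rfl hnil hbase hbig
  by_cases hKM : ⁅K, K⁆ ≤ M
  · have : H₁ = M := by rw [hH₁, sup_eq_right.2 hKM]
    rwa [← this]
  -- the quotient by `H₁`
  set π := QuotientGroup.mk' H₁ with hπ
  have hπs := QuotientGroup.mk'_surjective H₁
  have hπ1 : ∀ x : L, π x = 1 ↔ x ∈ H₁ := fun x => QuotientGroup.eq_one_iff x
  set Kb := K.map π with hKb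
  haveI : Kb.Normal := Subgroup.Normal.map ‹_› π hπs
  have hidx : Kb.index = K.index := Subgroup.index_map_eq K hπs (by rw [QuotientGroup.ker_mk']; exact hH₁K.le)
  have hcardKb : Nat.card Kb = H₁.relIndex K := by
    rw [hKb, ← Subgroup.relIndex_bot_left (K.map π), ← Subgroup.relIndex_comap, MonoidHom.comap_bot, QuotientGroup.ker_mk']
  have hC : ∀ n ∈ Kb, n ≠ 1 → Subgroup.centralizer ({n} : Set (L ⧸ H₁)) ≤ Kb := by
    rintro _ ⟨k, hk, rfl⟩ hk1 g hg
    obtain ⟨x, rfl⟩ := hπs g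
    refine Subgroup.mem_map_of_mem _ (hfrob k hk (fun h => hk1 ((hπ1 k).2 h)) x ?_)
    rw [Subgroup.mem_centralizer_singleton_iff] at hg
    rw [← hπ] at hg
    rw [← hπ1, map_mul, map_mul, map_mul, map_inv, map_inv, hg]
    group
  have hoddK : Odd (Nat.card Kb) := hcardKb ▸ hodd.of_dvd_nat
    ((Subgroup.relIndex_dvd_card _ _).trans (Subgroup.card_subgroup_dvd_card K))
  have hodde : Odd K.index := hodd.of_dvd_nat K.index_dvd_card
  have he1 : 1 < K.index := by
    rcases Nat.lt_or_ge 1 K.index with h | h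
    · exact h
    · exact absurd (Subgroup.index_eq_one.1 (le_antisymm h (Nat.pos_of_ne_zero Subgroup.index_ne_zero_of_finite))) hKL.ne
  -- no invariant subgroup in between
  have hno : ¬ ∃ N : Subgroup (L ⧸ H₁), N.Normal ∧ ⊥ < N ∧ N < Kb := by
    rintro ⟨N, hN, hN1, hN2⟩
    haveI := hN
    obtain ⟨a, ha⟩ := index_dvd_card_sub_one Kb N hN2.le hC
    obtain ⟨c, hc⟩ := index_dvd_card_sub_one Kb Kb le_rfl hC
    rw [hidx] at ha hc
    obtain ⟨m, hm⟩ : Nat.card N ∣ Nat.card Kb := Subgroup.card_dvd_of_le hN2.le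
    have hN1' : 1 < Nat.card N := Finite.one_lt_card_iff_nontrivial.2
      ((Subgroup.nontrivial_iff_ne_bot N).2 hN1.ne')
    have hm1 : 1 < m := by
      rcases Nat.lt_or_ge 1 m with h | h
      · exact h
      · exfalso
        have : Nat.card Kb ≤ Nat.card N := by rw [hm]; nlinarith
        exact hN2.ne (Subgroup.eq_of_le_of_card_ge hN2.le this)
    have hoddn : Odd (Nat.card N) := hoddK.of_dvd_nat ⟨m, hm⟩
    have hoddm : Odd m := hoddK.of_dvd_nat ⟨_, by rw [hm, mul_comm]⟩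
    obtain ⟨q, hq⟩ : K.index ∣ m - 1 := by
      have hmul : Nat.card N * m - 1 = Nat.card N * (m - 1) + (Nat.card N - 1) := by
        obtain ⟨m', rfl⟩ : ∃ m', m = m' + 1 := ⟨m - 1, by omega⟩
        rw [Nat.add_sub_cancel, mul_add, mul_one]; omega
      have h1 : K.index ∣ Nat.card N * (m - 1) := by
        refine (Nat.dvd_add_left ⟨a, ha⟩).1 ?_
        rw [← hmul, ← hm]; exact ⟨c, hc⟩
      have hcop : K.index.Coprime (Nat.card N) := by
        refine Nat.coprime_of_dvd' fun r _ hre hrn => ?_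
        have h2 : r ∣ Nat.card N - 1 := hre.trans ⟨a, ha⟩
        have h3 := Nat.dvd_sub hrn h2
        rwa [Nat.sub_sub_self hN1'.le] at h3
      exact hcop.dvd_of_dvd_mul_left h1
    have key : ∀ x t : ℕ, 1 < x → Odd x → x - 1 = K.index * t → 2 * K.index + 1 ≤ x := by
      intro x t hx hox hxt
      have ht : Even t := by
        have : Even (K.index * t) := by rw [← hxt]; exact Nat.Odd.sub_odd hox odd_one
        exact (Nat.even_mul.1 this).resolve_left (Nat.not_even_iff_odd.2 hodde)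
      obtain ⟨u, rfl⟩ := ht
      have hu : 1 ≤ u := by
        rcases Nat.eq_zero_or_pos u with rfl | h
        · simp at hxt; omega
        · exact h
      nlinarith [Nat.sub_add_cancel hx.le]
    apply hbig
    rw [← hcardKb, hm]
    have := Nat.mul_le_mul (key _ a hN1' hoddn ha) (key m q hm1 hoddm hq)
    nlinarith
  have hab : ∀ x ∈ Kb, ∀ y ∈ Kb, x * y = y * x := by
    rintro _ ⟨x, hx, rfl⟩ _ ⟨y, hy, rfl⟩
    apply commutatorElement_eq_one_iff_mul_comm.1
    rw [← map_commutatorElement, hπ1]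
    exact hcomm (Subgroup.commutator_mem_commutator hx hy)
  obtain ⟨p, d, hp, hd⟩ : ∃ p d : ℕ, p.Prime ∧ Nat.card Kb = p ^ d := by
    by_contra h
    exact hno (exists_between hab h)
  haveI := Fact.mk hp
  haveI := hnil
  -- the commutator subgroup of `K / M`
  have hQc : (commutator (↥K ⧸ M.subgroupOf K)).index = p ^ d := by
    have hmap : commutator (↥K ⧸ M.subgroupOf K) = (commutator ↥K).map (QuotientGroup.mk' (M.subgroupOf K)) := by
      rw [commutator_def, commutator_def, Subgroup.map_commutator,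
        Subgroup.map_top_of_surjective _ (QuotientGroup.mk'_surjective _)]
    have hsub : commutator ↥K ⊔ M.subgroupOf K = H₁.subgroupOf K := by
      apply Subgroup.map_injective K.subtype_injective
      rw [Subgroup.map_sup, Subgroup.subgroupOf_map_subtype, Subgroup.subgroupOf_map_subtype,
        inf_eq_left.2 hMK, inf_eq_left.2 hH₁K.le, commutator_def, Subgroup.map_commutator, hH₁,
        ← MonoidHom.range_eq_map, K.range_subtype]
    rw [hmap, Subgroup.index_map, QuotientGroup.ker_mk', hsub, MonoidHom.range_eq_top.2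
      (QuotientGroup.mk'_surjective _), Subgroup.index_top, mul_one, ← Subgroup.relIndex, ← hcardKb, hd]
  have hQp := isPGroup_of_commutator_index hQc
  obtain ⟨m, hm⟩ := hQp.exists_card_eq
  have hMm : M.relIndex K = p ^ m := hm
  have hd0 : d ≠ 0 := by
    intro h
    rw [h, pow_zero, hcardKb, Subgroup.relIndex_eq_one] at hd
    exact hH₁K.not_ge hd
  rcases hgood with ⟨N, hN, h1, h2⟩ | h | h | h | ⟨q, m', hq, hqm, hdvd⟩
  · exfalso
    haveI := hN
    refine hno ⟨N.map π, Subgroup.Normal.map hN π hπs, bot_lt_iff_ne_bot.2 ?_, ?_⟩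
    · rw [Ne, Subgroup.map_eq_bot_iff, QuotientGroup.ker_mk']; exact h1.not_ge
    · refine lt_of_le_of_ne (Subgroup.map_mono h2.le) fun e => h2.ne ?_
      have := congrArg (Subgroup.comap π) e
      rwa [Subgroup.comap_map_eq, Subgroup.comap_map_eq, QuotientGroup.ker_mk',
        sup_eq_left.2 h1.le, sup_eq_left.2 hH₁K.le] at this
  · exact absurd h hbig
  · exact absurd ⟨p, m, hp, hMm⟩ h
  · exact absurd h hKM
  · exfalso
    have hm0 : m ≠ 0 := by
      intro h0
      rw [h0, pow_zero, Subgroup.relIndex_eq_one] at hMm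
      exact hH₁K.not_ge (hMm.trans hMH₁)
    have hpq : p = q := ((Nat.prime_dvd_prime_iff_eq hp hq).1
      (hp.dvd_of_dvd_pow (hqm ▸ hMm ▸ dvd_pow_self p hm0)))
    subst hpq
    obtain ⟨t, ht⟩ := hdvd
    have hpodd : Odd p := hoddK.of_dvd_nat (hd ▸ dvd_pow_self p hd0)
    have hp2 : 2 * K.index + 1 ≤ p := by
      have hte : Even t := by
        have : Even (K.index * t) := by rw [← ht]; exact Nat.Odd.sub_odd hpodd odd_one
        exact (Nat.even_mul.1 this).resolve_left (Nat.not_even_iff_odd.2 hodde)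
      obtain ⟨u, rfl⟩ := hte
      rcases Nat.eq_zero_or_pos u with rfl | hu
      · have := hp.two_le
        simp at ht; omega
      · have := Nat.sub_add_cancel hp.one_lt.le
        nlinarith
    have hd1 : d = 1 := by
      by_contra hne
      apply hbig
      rw [← hcardKb, hd]
      have : (2 * K.index + 1) ^ 2 ≤ p ^ d :=
        (Nat.pow_le_pow_left hp2 2).trans (Nat.pow_le_pow_right hp.pos (by omega))
      nlinarith
    rw [hd1, pow_one] at hQc
    have hbot := commutator_eq_bot_of_index_prime hQp hQc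
    apply hKM
    rw [Subgroup.commutator_le]
    intro x hx y hy
    have h : ⁅(QuotientGroup.mk' (M.subgroupOf K)) ⟨x, hx⟩, (QuotientGroup.mk' (M.subgroupOf K)) ⟨y, hy⟩⁆ ∈
        commutator (↥K ⧸ M.subgroupOf K) := by
      rw [commutator_def]
      exact Subgroup.commutator_mem_commutator (Subgroup.mem_top _) (Subgroup.mem_top _)
    rw [hbot, Subgroup.mem_bot, ← map_commutatorElement] at h
    simpa [Subgroup.mem_subgroupOf, commutatorElement_def] using (QuotientGroup.eq_one_iff _).1 h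

end Cfsg.Agent.PF6
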