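import Cfsg.Agent.Lib.PF6Sibley43
import Cfsg.Agent.Lib.PF6Frob43
import Cfsg.Agent.Lib.DadeGenChar
import Cfsg.Agent.Lib.FrobeniusComplement
import Cfsg.Agent.Lib.FittingHallBasic
import Cfsg.Agent.Lib.BGTransitivity
import Cfsg.Agent.S1514
import Cfsg.Agent.Lib.CharBasicLinear
import Cfsg.Prelude.Def_OddOrderLocal

/-!
Coherence for a maximal subgroup of Type I that is a Frobenius group.
-/

set_option autoImplicit false
set_option linter.unusedSectionVars false
set_option linter.style.haveILetI false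

namespace Cfsg.Agent.PF12

open Cfsg.Agent.CharBasic Cfsg.Agent.CharBasicOrth Cfsg.Agent.CharBasicDecomp Cfsg.Agent.CoherenceBasic

universe u

variable {G : Type u} [Group G]

theorem dade_add {A : Set G} {L : Subgroup G} {H : G → Subgroup G} (α β : L → ℂ) :
    Cfsg.dadeIsometry A L H (α + β) = Cfsg.dadeIsometry A L H α + Cfsg.dadeIsometry A L H β := by
  funext g
  simp only [Cfsg.dadeIsometry, Pi.add_apply]
  split_ifs <;> simp

theorem dade_zsmul {A : Set G} {L : Subgroup G} {H : G → Subgroup G} (n : ℤ) (α : L → ℂ) :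
    Cfsg.dadeIsometry A L H (n • α) = n • Cfsg.dadeIsometry A L H α := by
  funext g
  simp only [Cfsg.dadeIsometry, Pi.smul_apply]
  split_ifs <;> simp

theorem dade_smul {A : Set G} {L : Subgroup G} {H : G → Subgroup G} (c : ℂ) (α : L → ℂ) :
    Cfsg.dadeIsometry A L H (c • α) = c • Cfsg.dadeIsometry A L H α := by
  funext g
  simp only [Cfsg.dadeIsometry, Pi.smul_apply]
  split_ifs <;> simp

theorem dade_sub {A : Set G} {L : Subgroup G} {H : G → Subgroup G} (α β : L → ℂ) :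
    Cfsg.dadeIsometry A L H (α - β) = Cfsg.dadeIsometry A L H α - Cfsg.dadeIsometry A L H β := by
  funext g
  simp only [Cfsg.dadeIsometry, Pi.sub_apply]
  split_ifs <;> simp

theorem dade_one [Finite G] {A : Set G} {L : Subgroup G} {H : G → Subgroup G}
    (hD : Cfsg.DadeHypothesis A L H) (α : L → ℂ) : Cfsg.dadeIsometry A L H α 1 = 0 := by
  refine DadeMap.dade_eq_zero fun ⟨c, hc, x, u, hu, hxu⟩ => ?_
  rw [mul_one, mul_inv_cancel] at hxu
  have hc1 : (c : G) = 1 := by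
    have hcu : (c : G) = u⁻¹ := eq_inv_of_mul_eq_one_left hxu.symm
    exact DadeMap.eq_one_of_mem_H_of_mem hD hc (by have := inv_mem hu; convert this using 1) c.2
  exact hD.one_not_mem (hc1 ▸ hc)

/-- When every `H a` is trivial the Dade map is induction. -/
theorem dade_eq_ind [Fintype G] {A : Set G} {L : Subgroup G} [Fintype L] {H : G → Subgroup G}
    (hD : Cfsg.DadeHypothesis A L H) (htriv : ∀ a ∈ A, H a = ⊥) {α : L → ℂ}
    (hα : Cfsg.IsClassFunction L α) (hαA : ∀ x : L, (x : G) ∉ A → α x = 0) :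
    Cfsg.dadeIsometry A L H α = Cfsg.indFun L α := by
  refine sub_eq_zero.1 (eq_zero_of_forall_classInner ?_ fun χ hχ => ?_)
  · intro g y
    simp only [Pi.sub_apply, DadeMap.dade_isClassFunction hD hα g y, CharInduced.isClassFunction_ind L α g y]
  · have hcf := CharInduced.isClassFunction_irr hχ
    rw [classInner_sub_left, CharInduced.inner_ind_left L α hcf,
      DadeMap.inner_dade hD hα hαA hcf (fun a : L => χ a) (fun a ha => ?_), sub_self]
    rw [htriv _ ha]
    simp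

/-- A Frobenius group of odd order has fixed-point-free commutator action on the kernel. -/
theorem frob_quot {L : Type u} [Group L] [Finite L] {K : Subgroup L} [K.Normal]
    (hC : ∀ k ∈ K, k ≠ 1 → Subgroup.centralizer ({k} : Set L) ≤ K) (D : Subgroup L) [D.Normal] (hD : D ≤ K) :
    ∀ k ∈ K, k ∉ D → ∀ x : L, x * k * x⁻¹ * k⁻¹ ∈ D → x ∈ K := by
  intro k hk hkD x hx
  by_contra hxK
  let f : K → K := fun y => ⟨x * y * x⁻¹ * (y : L)⁻¹,
    K.mul_mem (‹K.Normal›.conj_mem _ y.2 x) (K.inv_mem y.2)⟩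
  have hinj : Function.Injective f := by
    intro a b hab
    have h := congrArg Subtype.val hab
    change x * (a : L) * x⁻¹ * (a : L)⁻¹ = x * (b : L) * x⁻¹ * (b : L)⁻¹ at h
    have hcomm : ((b : L)⁻¹ * a) * x⁻¹ = x⁻¹ * ((b : L)⁻¹ * a) := by
      calc ((b : L)⁻¹ * a) * x⁻¹ = (b : L)⁻¹ * x⁻¹ * (x * a * x⁻¹ * (a : L)⁻¹) * a := by group
        _ = (b : L)⁻¹ * x⁻¹ * (x * b * x⁻¹ * (b : L)⁻¹) * a := by rw [h]
        _ = x⁻¹ * ((b : L)⁻¹ * a) := by group
    by_contra hne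
    refine hxK (inv_mem_iff.1 (hC _ (K.mul_mem (K.inv_mem b.2) a.2) (fun e => hne ?_)
      (Subgroup.mem_centralizer_singleton_iff.2 hcomm.symm)))
    exact Subtype.ext (inv_mul_eq_one.1 e).symm
  let g : D → D := fun y => ⟨x * y * x⁻¹ * (y : L)⁻¹,
    D.mul_mem (‹D.Normal›.conj_mem _ y.2 x) (D.inv_mem y.2)⟩
  have ginj : Function.Injective g := fun a b hab => by
    have := @hinj ⟨a, hD a.2⟩ ⟨b, hD b.2⟩ (Subtype.ext (congrArg Subtype.val hab :))
    exact Subtype.ext (congrArg (fun z : K => (z : L)) this)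
  obtain ⟨y, hy⟩ := Finite.injective_iff_surjective.1 ginj ⟨_, hx⟩
  have := @hinj ⟨y, hD y.2⟩ ⟨k, hk⟩ (Subtype.ext (congrArg Subtype.val hy :))
  have e : (y : L) = k := congrArg Subtype.val this
  exact hkD (e ▸ y.2)

/-- In a Frobenius group of odd order the exponent of the quotient by the kernel is its order. -/
theorem exponent_quot {L : Type u} [Group L] [Finite L] {K : Subgroup L} [K.Normal] (hK : K ≠ ⊥)
    (hC : ∀ k ∈ K, k ≠ 1 → Subgroup.centralizer ({k} : Set L) ≤ K) (hodd : Odd (Nat.card L))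
    (hcop : (Nat.card K).Coprime K.index) :
    Monoid.exponent (L ⧸ K) = K.index := by
  obtain ⟨U, hU⟩ := Subgroup.exists_right_complement'_of_coprime hcop
  have hfpf : ∀ h ∈ U, h ≠ 1 → K ⊓ Subgroup.centralizer ({h} : Set L) = ⊥ := by
    intro h hh hh1
    rw [Subgroup.eq_bot_iff_forall]
    rintro k ⟨hk, hkc⟩
    by_contra hk1
    have : h ∈ K ⊓ U := ⟨hC k hk hk1 (Subgroup.mem_centralizer_singleton_iff.2
      (Subgroup.mem_centralizer_singleton_iff.1 hkc).symm), hh⟩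
    rw [hU.disjoint.eq_bot, Subgroup.mem_bot] at this
    exact hh1 this
  haveI : IsZGroup U := (isZGroup_iff U).2 fun p hp P => by
    haveI := Fact.mk hp
    rcases FrobeniusComplement.sylow_cyclic_or_quaternion hU hK hfpf (P : Subgroup U) P.isPGroup' with
      h | ⟨-, n, ⟨f⟩⟩
    · exact h
    · exfalso
      have h2 : 2 ∣ Nat.card (P : Subgroup U) := by
        rw [Nat.card_congr f.toEquiv, Nat.card_eq_fintype_card, QuaternionGroup.card]
        exact dvd_mul_of_dvd_left (by norm_num) _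
      exact Nat.not_even_iff_odd.2 (hodd.of_dvd_nat
        ((Subgroup.card_subgroup_dvd_card _).trans (Subgroup.card_subgroup_dvd_card U))) (even_iff_two_dvd.2 h2)
  rw [Monoid.exponent_eq_of_mulEquiv hU.symm.QuotientMulEquiv, IsZGroup.exponent_eq_card, hU.symm.index_eq_card]

set_option maxHeartbeats 800000 in
/-- Peterfalvi (12.6). -/
theorem typeI_frobenius_coherent [Fintype G] (hG : Cfsg.IsMinSimpleOddOrder G) (L : Subgroup G) [Fintype L]
    (hL : IsCoatom L) (hI : Cfsg.IsOfTypeI L)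
    (hfrob : ∀ x ∈ Cfsg.fittingHallOf L, x ≠ 1 →
      L ⊓ Subgroup.centralizer ({x} : Set G) ≤ Cfsg.fittingHallOf L)
    (hD : Cfsg.DadeHypothesis (Cfsg.typeA L) L (Cfsg.supportR L)) :
    (∀ χ ∈ Cfsg.inducedIrrAbove (Cfsg.fittingHall L) ⊥, Cfsg.IsIrrCharacter L χ) ∧
      Cfsg.IsCoherent (Cfsg.inducedIrrAbove (Cfsg.fittingHall L) ⊥) {1}ᶜ
        (Cfsg.dadeIsometry (Cfsg.typeA L) L (Cfsg.supportR L)) := by
  classical
  set H := Cfsg.fittingHallOf L with hHdef
  set K := Cfsg.fittingHall L with hKdef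
  have hHL : H ≤ L := FittingHallBasic.fittingHallOf_le L
  have hHK : ∀ x : L, (x : G) ∈ H ↔ x ∈ K := fun x =>
    ⟨fun h => by obtain ⟨y, hy, e⟩ := Subgroup.mem_map.1 h; rwa [← Subtype.ext e],
      fun h => Subgroup.mem_map.2 ⟨x, h, rfl⟩⟩
  have hodd : Odd (Nat.card L) := hI.1.2.1
  have hK1 : K ≠ ⊥ := hI.1.2.2.1
  have hK2 : K ≠ ⊤ := hI.1.2.2.2.1
  have hCL : ∀ k ∈ K, k ≠ 1 → Subgroup.centralizer ({k} : Set L) ≤ K := fun k hk hk1 g hg =>
    (hHK g).1 (hfrob k ((hHK k).2 hk) (fun e => hk1 (Subtype.ext e)) ⟨g.2,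
      Subgroup.mem_centralizer_singleton_iff.2
        (congrArg Subtype.val (Subgroup.mem_centralizer_singleton_iff.1 hg))⟩)
  haveI hnil : Group.IsNilpotent K := FittingHallBasic.fittingHall_isNilpotent
  have hsolv : Group.IsSolvable K := inferInstance
  haveI : Nontrivial K := (Subgroup.nontrivial_iff_ne_bot K).2 hK1
  have hA : ∀ a : G, a ∈ Cfsg.typeA L ↔ a ∈ H ∧ a ≠ 1 := by
    intro a
    rw [Cfsg.typeA, if_pos hI]
    constructor
    · rintro ⟨haL, ha1, x, hx, hx1, hc⟩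
      exact ⟨hfrob x hx hx1 ⟨haL, Subgroup.mem_centralizer_singleton_iff.2 hc⟩, ha1⟩
    · exact fun h => ⟨hHL h.1, h.2, a, h.1, h.2, rfl⟩
  set S := Cfsg.inducedIrrAbove K ⊥ with hS
  set τ := Cfsg.dadeIsometry (Cfsg.typeA L) L (Cfsg.supportR L) with hτdef
  have hirr : ∀ φ ∈ S, Cfsg.IsIrrCharacter L φ := fun φ hφ => by
    obtain ⟨θ, hθ, rfl⟩ := PF6.mem_induced.1 hφ
    exact CharInduced.isIrrCharacter_ind_of_centralizer _ hCL θ.2 (PF6.mem_aboveFin.1 hθ).1
  refine ⟨hirr, ?_⟩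
  have hsupp : ∀ a ∈ Cfsg.zspanOn S {1}ᶜ, ∀ x : L, (x : G) ∉ Cfsg.typeA L → a x = 0 := by
    intro a ha x hx
    by_cases hx1 : x = 1
    · rw [hx1]; exact apply_one_of_mem_zspanOn ha
    have hxK : x ∉ K := fun h => hx ((hA x).2 ⟨(hHK x).2 h, fun e => hx1 (Subtype.ext e)⟩)
    refine zspan_induction (P := fun a : L → ℂ => a x = 0) ?_ rfl ?_ ?_ ha.1
    · intro φ hφ
      obtain ⟨θ, -, rfl⟩ := PF6.mem_induced.1 hφ
      exact CharInduced.ind_normal_eq_zero K _ hxK
    · intro a b _ _ ha hb; simp [ha, hb]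
    · intro n a _ ha; simp [ha]
  have hgen : ∀ a ∈ Cfsg.zspan S, Cfsg.IsGeneralizedCharacter L a := fun a ha =>
    isClassFunction_zspan (fun φ hφ => isCharacter_of_isIrrCharacter (hirr φ hφ)) ha
  have hcf : ∀ a ∈ Cfsg.zspan S, Cfsg.IsClassFunction L a := fun a ha =>
    isClassFunction_of_isGeneralizedCharacter (hgen a ha)
  have hτ : Cfsg.IsLinearIsometryOn (Cfsg.zspanOn S {1}ᶜ) τ :=
    ⟨fun a _ b _ => dade_add a b, fun a _ n => dade_zsmul n a,
      fun a ha b hb => DadeMap.inner_dade_dade hD (hcf a ha.1) (hsupp a ha) (hcf b hb.1),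
      fun a ha => DadeGenChar.dade_gen hD (hgen a ha.1) (hsupp a ha)⟩
  have hτ1 : ∀ a ∈ Cfsg.zspanOn S {1}ᶜ, τ a 1 = 0 := fun a _ => dade_one hD a
  have hSc : ∀ φ ∈ S, Cfsg.conjFun φ ∈ S := fun φ hφ => PF6.induced_conj hφ
  have hreal : ∀ φ ∈ S, Cfsg.conjFun φ ≠ φ := by
    intro φ hφ hc
    have h1 : φ = fun _ => 1 := FourCoherence.eq_one_of_real hodd ⟨φ, hirr φ hφ⟩ (fun x => congrFun hc x)
    obtain ⟨θ, -, rfl⟩ := PF6.mem_induced.1 hφ
    obtain ⟨x, -, hx⟩ := SetLike.exists_of_lt (lt_top_iff_ne_top.2 hK2)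
    have := congrFun h1 x
    rw [show PF6.ind K θ x = 0 from CharInduced.ind_normal_eq_zero K _ hx] at this
    exact one_ne_zero this.symm
  have hKc : ⁅K, K⁆ < K := by
    refine lt_of_le_of_ne (Subgroup.commutator_le_right K K) fun h => ?_
    refine (Group.IsSolvable.commutator_lt_top_of_nontrivial K).ne ?_
    apply Subgroup.map_injective K.subtype_injective
    rw [Subgroup.map_subtype_commutator, h, ← MonoidHom.range_eq_map, Subgroup.range_subtype]
  obtain ⟨θ₀, hθ₀, -⟩ := PF6.exists_linear K hsolv hKc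
  have hne : S.Nonempty := ⟨_, PF6.induced_mono bot_le (PF6.mem_induced.2 ⟨θ₀, hθ₀, rfl⟩)⟩
  rcases hI.2 with hTI | ⟨hab, -, -⟩ | ⟨hexp, -⟩
  · -- a TI kernel: Sibley
    have hH1 : H ≠ ⊥ := fun h => hK1 (by
      rw [Subgroup.eq_bot_iff_forall]
      intro x hx
      have := (hHK x).2 hx
      rw [h, Subgroup.mem_bot] at this
      exact Subtype.ext this)
    have hHtop : H ≠ ⊤ := fun h => hL.1 (top_le_iff.1 (h ▸ hHL))
    have hN : Subgroup.normalizer (H : Set G) = L := by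
      rcases hL.le_iff.1 (FittingHallBasic.le_normalizer_fittingHallOf L) with h | h
      · exact absurd h (BGTransitivity.normalizer_ne_top hG hH1 hHtop)
      · exact h
    have hC : ∀ k ∈ H, k ≠ 1 → Subgroup.centralizer ({k} : Set G) ≤ H := by
      intro k hk hk1 g hg
      have hg' := Subgroup.mem_centralizer_singleton_iff.1 hg
      refine hfrob k hk hk1 ⟨?_, hg⟩
      rw [← hN]
      by_contra hgn
      refine hk1 (hTI g hgn k hk ?_)
      rw [hg', mul_inv_cancel_right]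
      exact hk
    have htriv : ∀ a ∈ Cfsg.typeA L, Cfsg.supportR L a = ⊥ := fun a ha => by
      rw [Cfsg.supportR, dif_neg fun h => h.1 ((hC a ((hA a).1 ha).1 ((hA a).1 ha).2).trans hHL)]
    have hlt : H < Subgroup.normalizer (H : Set G) := by
      rw [hN]
      exact lt_of_le_of_ne hHL fun h => hK2 (eq_top_iff.2 fun x _ => (hHK x).1 (h.symm.le x.2))
    have hKH : H.subgroupOf L = K := by ext x; exact hHK x
    have hKn : (H.subgroupOf L).Normal := hKH ▸ inferInstance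
    obtain ⟨-, -, -, hSeq⟩ := PF6.ti_setup (K := H) (N := L) (fun g hg => hTI g (hN.symm ▸ hg))
      (PF6.centralizer_subgroupOf hC)
    rw [hKH] at hSeq
    have hcardH : Nat.card H = Nat.card K := FittingHallBasic.card_fittingHallOf L
    have hHodd : Odd (Nat.card H) := hodd.of_dvd_nat (Subgroup.card_dvd_of_le hHL)
    rcases PF6.feit_sibley H hH1 hTI hlt hC L hN with ⟨-, h2, -⟩ | ⟨h1, -⟩ | h
    · exfalso
      rw [h2, hKH] at hHodd
      exact Nat.not_even_iff_odd.2 hHodd ((hodd.of_dvd_nat (Subgroup.index_dvd_card K)).add_one)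
    · exfalso
      rw [h1] at hHodd
      rcases Nat.eq_zero_or_pos ((Nat.card G).factorization 2) with h0 | h0
      · exact hH1 (Subgroup.card_eq_one.1 (by rw [h1, h0, pow_zero]))
      · exact Nat.not_even_iff_odd.2 hHodd (Nat.even_pow.2 ⟨even_two, h0.ne'⟩)
    · rw [← hSeq, ← hS] at h
      obtain ⟨hne', v, hv, hvτ⟩ := h
      exact ⟨hne', v, hv, fun a ha => (hvτ a ha).trans
        (dade_eq_ind hD htriv (hcf a ha.1) (hsupp a ha)).symm⟩
  · -- an abelian kernel
    obtain ⟨χ, hχ⟩ := hne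
    refine PF6.coherent_irr_constant hirr ⟨_, hSc χ hχ, χ, hχ, hreal χ hχ⟩ (fun φ hφ ψ hψ => ?_) hτ hτ1
    have hKab : ∀ x y : K, x * y = y * x := fun x y => by
      apply Subtype.ext; apply Subtype.ext
      exact (congrArg (fun z : H => (z : G)) (hab.is_comm.comm ⟨_, (hHK x).2 x.2⟩ ⟨_, (hHK y).2 y.2⟩) :)
    have hone : ∀ φ ∈ S, φ 1 = (K.index : ℂ) := fun φ hφ => by
      obtain ⟨θ, -, rfl⟩ := PF6.mem_induced.1 hφ
      rw [PF6.ind, CharInduced.ind_one_apply, CharBasicLinear.apply_one_eq_one_of_comm hKab θ.2, mul_one]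
    rw [hone φ hφ, hone ψ hψ]
  · -- small exponent
    obtain ⟨R, hR⟩ := S1514.coherence_system_of_irr hne hirr (fun φ hφ => ⟨hSc φ hφ, hreal φ hφ⟩) hτ hτ1
    haveI : ((⊥ : Subgroup L).subgroupOf K).Normal := (Subgroup.bot_subgroupOf K) ▸ inferInstance
    refine PF6.coherent_frobenius hR hsolv hodd ⊥ bot_le
      (Group.nilpotent_of_surjective (QuotientGroup.mk' _) (QuotientGroup.mk'_surjective _)) ⁅K, K⁆
      (by rw [sup_bot_eq]) hKc (lt_top_iff_ne_top.2 hK2) (frob_quot hCL _ hKc.le) ?_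
    by_cases hpp : ∃ p m : ℕ, p.Prime ∧ (⊥ : Subgroup L).relIndex K = p ^ m
    · obtain ⟨p, m, hp, hpm⟩ := hpp
      refine Or.inr (Or.inr (Or.inr (Or.inr ⟨p, m, hp, hpm, ?_⟩)))
      rw [Subgroup.relIndex_bot_left] at hpm
      rw [← exponent_quot hK1 hCL hodd FittingHallBasic.fittingHall_coprime_index]
      refine hexp p hp ?_
      rw [FittingHallBasic.card_fittingHallOf, ← hKdef, hpm]
      have hm : m ≠ 0 := fun h => hK1 (Subgroup.card_eq_one.1 (by rw [hpm, h, pow_zero]))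
      exact dvd_pow_self p hm
    · exact Or.inr (Or.inr (Or.inl hpp))

end Cfsg.Agent.PF12
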