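import Mathlib
import Cfsg.Agent.Lib.PF6Frob43
import Cfsg.Agent.Lib.CharInducedFrob
import Cfsg.Agent.Lib.FrobeniusNilpotent

/-!
Coherence for sets of irreducible characters under an isometry: constant degree, adjoining a pair,
and Feit's criterion for Frobenius groups.
-/

set_option autoImplicit false
set_option linter.unusedSectionVars false
set_option linter.style.haveILetI false

open scoped commutatorElement

namespace Cfsg.Agent.PF6

open Cfsg.Agent.CharBasic Cfsg.Agent.CharBasicOrth Cfsg.Agent.CharBasicDecomp Cfsg.Agent.CoherenceBasic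

universe u v

section Const

variable {L : Type u} [Group L] [Fintype L] {G : Type v} [Group G] [Fintype G]
  {τ : (L → ℂ) → (G → ℂ)} {S : Set (L → ℂ)}

theorem finite_of_irr (hirr : ∀ φ ∈ S, Cfsg.IsIrrCharacter L φ) : S.Finite := by
  haveI := finite_irrCharacter (G := L)
  refine (Set.finite_range (fun χ : Cfsg.IrrCharacter L => (χ : L → ℂ))).subset fun φ hφ => ?_
  exact ⟨⟨φ, hirr φ hφ⟩, rfl⟩

/-- The image of a degree-zero difference of two members. -/
theorem coherent_irr_constant (hirr : ∀ φ ∈ S, Cfsg.IsIrrCharacter L φ)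
    (h2 : ∃ a ∈ S, ∃ b ∈ S, a ≠ b) (hdeg : ∀ φ ∈ S, ∀ ψ ∈ S, φ 1 = ψ 1)
    (hτ : Cfsg.IsLinearIsometryOn (Cfsg.zspanOn S {1}ᶜ) τ)
    (hτ1 : ∀ α ∈ Cfsg.zspanOn S {1}ᶜ, τ α 1 = 0) : Cfsg.IsCoherent S {1}ᶜ τ := by
  classical
  obtain ⟨χ₀, h₀, χ₁, h₁, hne01⟩ := h2
  have hm : ∀ φ ∈ S, χ₀ - φ ∈ Cfsg.zspanOn S {1}ᶜ := fun φ hφ =>
    mem_zspanOn_one (zspan_sub (subset_zspan h₀) (subset_zspan hφ)) (by simp [hdeg χ₀ h₀ φ hφ])
  have hin : ∀ φ ∈ S, ∀ ψ ∈ S, Cfsg.classInner (τ (χ₀ - φ)) (τ (χ₀ - ψ)) =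
      1 - (if χ₀ = ψ then 1 else 0) - (if φ = χ₀ then 1 else 0) + (if φ = ψ then 1 else 0) := by
    intro φ hφ ψ hψ
    rw [hτ.2.2.1 _ (hm φ hφ) _ (hm ψ hψ)]
    simp only [classInner_sub_left, classInner_sub_right,
      classInner_irr _ _ (hirr χ₀ h₀) (hirr χ₀ h₀), classInner_irr _ _ (hirr χ₀ h₀) (hirr ψ hψ),
      classInner_irr _ _ (hirr φ hφ) (hirr χ₀ h₀), classInner_irr _ _ (hirr φ hφ) (hirr ψ hψ), if_true]
    ring
  have hg : ∀ φ ∈ S, Cfsg.IsGeneralizedCharacter G (τ (χ₀ - φ)) := fun φ hφ => hτ.2.2.2 _ (hm φ hφ)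
  have hnorm : ∀ φ ∈ S, φ ≠ χ₀ → Cfsg.classInner (τ (χ₀ - φ)) (τ (χ₀ - φ)) = 2 := fun φ hφ hne => by
    rw [hin φ hφ φ hφ, if_neg (Ne.symm hne), if_neg hne, if_pos rfl]; norm_num
  obtain ⟨X, hX1, hX⟩ : ∃ X : G → ℂ, SignedIrr X ∧
      ∀ φ ∈ S, φ ≠ χ₀ → Cfsg.classInner X (τ (χ₀ - φ)) = 1 := by
    obtain ⟨a, b, ha, hb, hab, hsum⟩ := si_sum_of_norm_two (hg χ₁ h₁) (hnorm χ₁ h₁ (Ne.symm hne01))
    have hba : Cfsg.classInner b a = 0 := by rw [← conj_classInner, hab, map_zero]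
    have key : ∀ φ ∈ S, φ ≠ χ₀ → φ ≠ χ₁ →
        (Cfsg.classInner a (τ (χ₀ - φ)) = 1 ∧ Cfsg.classInner b (τ (χ₀ - φ)) = 0) ∨
        (Cfsg.classInner a (τ (χ₀ - φ)) = 0 ∧ Cfsg.classInner b (τ (χ₀ - φ)) = 1) := by
      intro φ hφ hne0 hne1
      obtain ⟨u, hu⟩ := classInner_isGeneralizedCharacter (si_gen ha) (hg φ hφ)
      obtain ⟨w, hw⟩ := classInner_isGeneralizedCharacter (si_gen hb) (hg φ hφ)
      have h1 : Cfsg.classInner (τ (χ₀ - χ₁)) (τ (χ₀ - φ)) = 1 := by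
        rw [hin χ₁ h₁ φ hφ, if_neg (Ne.symm hne0), if_neg (Ne.symm hne01), if_neg (Ne.symm hne1)]
        ring
      rw [hsum, classInner_add_left, hu, hw] at h1
      have huw : u + w = 1 := by exact_mod_cast h1
      have hu' : Cfsg.classInner (τ (χ₀ - φ)) a = u := by rw [← conj_classInner, hu, map_intCast]
      have hw' : Cfsg.classInner (τ (χ₀ - φ)) b = w := by rw [← conj_classInner, hw, map_intCast]
      have hn : Cfsg.classInner (τ (χ₀ - φ) - (u : ℂ) • a - (w : ℂ) • b)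
          (τ (χ₀ - φ) - (u : ℂ) • a - (w : ℂ) • b) = ((2 - u * u - w * w : ℤ) : ℂ) := by
        simp only [classInner_sub_left, classInner_sub_right, classInner_smul_left, classInner_smul_right,
          hnorm φ hφ hne0, hu, hw, hu', hw', si_self ha, si_self hb, hab, hba, map_intCast]
        push_cast; ring
      have h0 := classInner_self_nonneg (τ (χ₀ - φ) - (u : ℂ) • a - (w : ℂ) • b)
      rw [hn, Complex.intCast_re] at h0
      have h0' : u * u + w * w ≤ 2 := by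
        have : (0 : ℤ) ≤ 2 - u * u - w * w := by exact_mod_cast h0
        omega
      have hub : u ≤ 1 := by nlinarith
      have hwb : w ≤ 1 := by nlinarith
      rcases (show u = 0 ∨ u = 1 by omega) with rfl | rfl
      · right; refine ⟨by simpa using hu, ?_⟩
        rw [hw]; exact_mod_cast (show w = 1 by omega)
      · left; refine ⟨by simpa using hu, ?_⟩
        rw [hw]; exact_mod_cast (show w = 0 by omega)
    have ha1 : Cfsg.classInner a (τ (χ₀ - χ₁)) = 1 := by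
      rw [hsum, classInner_add_right, si_self ha, hab, add_zero]
    have hb1 : Cfsg.classInner b (τ (χ₀ - χ₁)) = 1 := by
      rw [hsum, classInner_add_right, si_self hb, hba, zero_add]
    by_cases hA : ∀ φ ∈ S, φ ≠ χ₀ → Cfsg.classInner a (τ (χ₀ - φ)) = 1
    · exact ⟨a, ha, hA⟩
    refine ⟨b, hb, fun φ hφ hne0 => ?_⟩
    by_contra hbφ
    push Not at hA
    obtain ⟨ψ, hψ, hψ0, hψa⟩ := hA
    have hφ1 : φ ≠ χ₁ := fun e => hbφ (e ▸ hb1)
    have hψ1 : ψ ≠ χ₁ := fun e => hψa (e ▸ ha1)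
    obtain ⟨hφa, hφb⟩ := (key φ hφ hne0 hφ1).resolve_right fun h => hbφ h.2
    obtain ⟨hψa0, hψb⟩ := (key ψ hψ hψ0 hψ1).resolve_left fun h => hψa h.1
    have hφψ : φ ≠ ψ := fun e => hψa (e ▸ hφa)
    set c := τ (χ₀ - φ) - a with hc
    set dd := τ (χ₀ - ψ) - b with hdd
    have ha' : Cfsg.classInner (τ (χ₀ - φ)) a = 1 := by rw [← conj_classInner, hφa, map_one]
    have hb' : Cfsg.classInner (τ (χ₀ - ψ)) b = 1 := by rw [← conj_classInner, hψb, map_one]
    have hφb' : Cfsg.classInner (τ (χ₀ - φ)) b = 0 := by rw [← conj_classInner, hφb, map_zero]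
    have hc1 : SignedIrr c := si_of_norm_one (isGeneralizedCharacter_sub (hg φ hφ) (si_gen ha)) (by
      simp only [hc, classInner_sub_left, classInner_sub_right, hnorm φ hφ hne0, hφa, ha', si_self ha]
      norm_num)
    have hd1 : SignedIrr dd := si_of_norm_one (isGeneralizedCharacter_sub (hg ψ hψ) (si_gen hb)) (by
      simp only [hdd, classInner_sub_left, classInner_sub_right, hnorm ψ hψ hψ0, hψb, hb', si_self hb]
      norm_num)
    have hcd : Cfsg.classInner c dd = 1 := by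
      have h1 : Cfsg.classInner (τ (χ₀ - φ)) (τ (χ₀ - ψ)) = 1 := by
        rw [hin φ hφ ψ hψ, if_neg (Ne.symm hψ0), if_neg hne0, if_neg hφψ]; ring
      simp only [hc, hdd, classInner_sub_left, classInner_sub_right, h1, hφb', hψa0, hab]
      ring
    rcases si_cases hc1 hd1 with h | ⟨ε, hε, hde, hcde⟩
    · rw [hcd] at h; exact one_ne_zero h
    rw [hcd] at hcde
    have hε1 : ε = 1 := by exact_mod_cast hcde.symm
    subst hε1
    have e1 := hτ1 _ (hm χ₁ h₁)
    have e2 := hτ1 _ (hm φ hφ)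
    have e3 := hτ1 _ (hm ψ hψ)
    have e4 := congrFun hde 1
    rw [hsum] at e1
    simp only [hc, hdd, Pi.add_apply, Pi.sub_apply, Pi.smul_apply, smul_eq_mul, e2, e3] at e1 e4
    exact si_apply_one_ne_zero ha (by push_cast at e4; linear_combination (1 / 2 : ℂ) * e1 + (1 / 2 : ℂ) * e4)
  have hd0 : Cfsg.charDegree χ₀ ≠ 0 := (deg_pos (hirr χ₀ h₀)).ne'
  refine coherent_of_pairs (finite_of_irr hirr) (fun φ hφ ψ hψ h => classInner_irr_ne (hirr φ hφ) (hirr ψ hψ) h)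
    (fun φ hφ => by rw [classInner_irr_self (hirr φ hφ)]; exact one_ne_zero) hτ
    (fun φ => X - τ (χ₀ - φ)) ?_ ?_ (fun _ => Cfsg.charDegree χ₀)
    (fun φ hφ => (hdeg φ hφ χ₀ h₀).trans (deg_spec (isCharacter_of_isIrrCharacter (hirr χ₀ h₀))))
    χ₀ h₀ hd0 ⟨χ₁, h₁, Ne.symm hne01⟩ ?_
  · exact fun φ hφ => isGeneralizedCharacter_sub (si_gen hX1) (hg φ hφ)
  · intro φ hφ ψ hψ
    have hXv : ∀ η ∈ S, Cfsg.classInner X (τ (χ₀ - η)) = if χ₀ = η then 0 else 1 := fun η hη => by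
      by_cases h : χ₀ = η
      · subst h; rw [if_pos rfl, sub_self, iso_map_zero hτ, classInner_zero_right]
      · rw [if_neg h]; exact hX η hη (Ne.symm h)
    have hXv' : Cfsg.classInner (τ (χ₀ - φ)) X = if φ = χ₀ then 0 else 1 := by
      rw [← conj_classInner, hXv φ hφ]; by_cases h : χ₀ = φ <;> simp [h, eq_comm]
    rw [classInner_sub_left, classInner_sub_right, classInner_sub_right, si_self hX1, hXv ψ hψ, hXv',
      hin φ hφ ψ hψ, classInner_irr _ _ (hirr φ hφ) (hirr ψ hψ)]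
    split_ifs <;> ring
  · intro φ hφ
    rw [sub_self χ₀, iso_map_zero hτ, show (Cfsg.charDegree χ₀ : ℂ) • φ - (Cfsg.charDegree χ₀ : ℂ) • χ₀ =
      (((-(Cfsg.charDegree χ₀ : ℤ)) : ℤ) : ℂ) • (χ₀ - φ) by push_cast; module,
      iso_map_intCast_smul hτ _ (hm φ hφ)]
    push_cast; module

theorem iso_mono {T : Set (L → ℂ)} (hTS : T ⊆ S) (hτ : Cfsg.IsLinearIsometryOn (Cfsg.zspanOn S {1}ᶜ) τ) :
    Cfsg.IsLinearIsometryOn (Cfsg.zspanOn T {1}ᶜ) τ :=
  ⟨fun a ha b hb => hτ.1 a (zspanOn_mono hTS ha) b (zspanOn_mono hTS hb),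
    fun a ha => hτ.2.1 a (zspanOn_mono hTS ha),
    fun a ha b hb => hτ.2.2.1 a (zspanOn_mono hTS ha) b (zspanOn_mono hTS hb),
    fun a ha => hτ.2.2.2 a (zspanOn_mono hTS ha)⟩

theorem extends_irr (hirr : ∀ φ ∈ S, Cfsg.IsIrrCharacter L φ) (hSc : ∀ φ ∈ S, Cfsg.conjFun φ ∈ S)
    (hτ : Cfsg.IsLinearIsometryOn (Cfsg.zspanOn S {1}ᶜ) τ)
    (hτ1 : ∀ α ∈ Cfsg.zspanOn S {1}ᶜ, τ α 1 = 0) : Extends S τ := by
  classical
  rintro S₁ hS₁ - hcoh χ hχ hχ₁ ⟨ψ, hψ, hdvd, hlt⟩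
  have hd : ∀ φ ∈ S, φ 1 = (Cfsg.charDegree φ : ℂ) := fun φ hφ =>
    deg_spec (isCharacter_of_isIrrCharacter (hirr φ hφ))
  have hsum : (∑ φ ∈ S₁, ((Cfsg.charDegree φ : ℝ) ^ 2 / (nm φ : ℝ))) =
      ((∑ φ ∈ S₁, Cfsg.charDegree φ ^ 2 : ℕ) : ℝ) := by
    push_cast
    refine Finset.sum_congr rfl fun φ hφ => ?_
    rw [nm_of_eq (n := 1) (by rw [classInner_irr_self (hirr φ (hS₁ hφ)), Nat.cast_one]), Nat.cast_one, div_one]
  rw [hsum] at hlt
  have hnat : 2 * Cfsg.charDegree ψ * Cfsg.charDegree χ < ∑ φ ∈ S₁, Cfsg.charDegree φ ^ 2 := by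
    rw [mul_right_comm]; exact_mod_cast hlt
  have step : ∀ (T : Finset (L → ℂ)) (η : L → ℂ), ↑T ⊆ S → η ∈ S → η ∉ T →
      Cfsg.IsCoherent (↑T : Set (L → ℂ)) {1}ᶜ τ → ψ ∈ T → Cfsg.charDegree η = Cfsg.charDegree χ →
      S₁ ⊆ T → Cfsg.IsCoherent (insert η (↑T : Set (L → ℂ))) {1}ᶜ τ := by
    intro T η hT hη hηT hc hψT hdη hST
    have hsub : insert η (↑T : Set (L → ℂ)) ⊆ S := Set.insert_subset hη hT
    refine CoherenceExtend.feit_criterion (fun ξ hξ => hirr ξ (hT hξ)) (hirr η hη) hηT Cfsg.charDegree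
      (fun ξ hξ => hd ξ (hsub hξ)) (iso_mono hsub hτ) (fun a ha => hτ1 a (zspanOn_mono hsub ha)) hc ψ hψT
      (hdη ▸ hdvd) ?_
    rw [hdη]
    exact lt_of_lt_of_le hnat (Finset.sum_le_sum_of_subset hST)
  have h1 := step S₁ χ hS₁ hχ hχ₁ hcoh hψ rfl subset_rfl
  by_cases hc : Cfsg.conjFun χ ∈ insert χ (↑S₁ : Set (L → ℂ))
  · have : (↑S₁ ∪ {χ, Cfsg.conjFun χ} : Set (L → ℂ)) = insert χ ↑S₁ := by
      ext φ
      simp only [Set.mem_union, Set.mem_insert_iff, Set.mem_singleton_iff]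
      constructor
      · rintro (h | rfl | rfl)
        · exact Or.inr h
        · exact Or.inl rfl
        · exact hc
      · rintro (rfl | h)
        · exact Or.inr (Or.inl rfl)
        · exact Or.inl h
    rwa [this]
  · have h2 := step (insert χ S₁) (Cfsg.conjFun χ) (by rw [Finset.coe_insert]; exact Set.insert_subset hχ hS₁)
      (hSc χ hχ) (by simpa using hc) (by rwa [Finset.coe_insert]) (Finset.mem_insert_of_mem hψ)
      (by simp [Cfsg.charDegree, Cfsg.conjFun]) (Finset.subset_insert _ _)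
    have : (↑S₁ ∪ {χ, Cfsg.conjFun χ} : Set (L → ℂ)) = insert (Cfsg.conjFun χ) ↑(insert χ S₁) := by
      ext φ
      simp only [Finset.coe_insert, Set.mem_union, Set.mem_insert_iff, Set.mem_singleton_iff]
      tauto
    rwa [this]

theorem coherent_irr_subset (hirr : ∀ φ ∈ S, Cfsg.IsIrrCharacter L φ) {T T' : Set (L → ℂ)}
    (h : Cfsg.IsCoherent T {1}ᶜ τ) (hsub : T' ⊆ T) (hTS : T' ⊆ S)
    (h2 : ∃ a ∈ T', ∃ b ∈ T', a ≠ b) : Cfsg.IsCoherent T' {1}ᶜ τ := by
  obtain ⟨-, v, hv, hvτ⟩ := h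
  obtain ⟨a, ha, b, hb, hab⟩ := h2
  have hda := deg_spec (isCharacter_of_isIrrCharacter (hirr a (hTS ha)))
  have hdb := deg_spec (isCharacter_of_isIrrCharacter (hirr b (hTS hb)))
  refine ⟨⟨(Cfsg.charDegree b : ℂ) • a - (Cfsg.charDegree a : ℂ) • b, mem_zspanOn_one
    (zspan_sub (zspan_natCast_smul _ (subset_zspan ha)) (zspan_natCast_smul _ (subset_zspan hb)))
    (by simp [hda, hdb, mul_comm]), fun h0 => ?_⟩, v,
    ⟨fun x hx y hy => hv.1 x (zspan_mono hsub hx) y (zspan_mono hsub hy),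
      fun x hx => hv.2.1 x (zspan_mono hsub hx),
      fun x hx y hy => hv.2.2.1 x (zspan_mono hsub hx) y (zspan_mono hsub hy),
      fun x hx => hv.2.2.2 x (zspan_mono hsub hx)⟩, fun x hx => hvτ x (zspanOn_mono hsub hx)⟩
  have h1 := congrArg (fun f => Cfsg.classInner f a) h0
  simp only [classInner_sub_left, classInner_smul_left, classInner_zero_left,
    classInner_irr_self (hirr a (hTS ha)), classInner_irr_ne (hirr b (hTS hb)) (hirr a (hTS ha)) hab.symm,
    mul_one, mul_zero, sub_zero] at h1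
  exact (deg_pos (hirr b (hTS hb))).ne' (by exact_mod_cast h1)

end Const

section Frobenius

variable {L : Type u} [Group L] [Finite L]

theorem center_meets {Q : Type u} [Group Q] [Group.IsNilpotent Q] (N : Subgroup Q) [N.Normal] (hN : N ≠ ⊥) :
    ∃ x ∈ N, x ≠ 1 ∧ ∀ g : Q, x * g = g * x := by
  obtain ⟨n, hn⟩ := Group.IsNilpotent.nilpotent (G := Q)
  have key : ∀ k, (N ⊓ Subgroup.upperCentralSeries Q k ≠ ⊥) → ∃ x ∈ N, x ≠ 1 ∧ ∀ g : Q, x * g = g * x := by
    intro k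
    induction k with
    | zero => intro h; exact absurd (by simp) h
    | succ k ih =>
      intro h
      by_cases h' : N ⊓ Subgroup.upperCentralSeries Q k = ⊥
      · obtain ⟨x, ⟨hxN, hxu⟩, hx1⟩ := (N ⊓ Subgroup.upperCentralSeries Q (k + 1)).bot_or_exists_ne_one.resolve_left h
        refine ⟨x, hxN, hx1, fun g => ?_⟩
        have h1 : ⁅x, g⁆ ∈ N ⊓ Subgroup.upperCentralSeries Q k :=
          ⟨by
            rw [commutatorElement_def, mul_assoc x, mul_assoc x]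
            exact mul_mem hxN (by
              have := ‹N.Normal›.conj_mem _ (inv_mem hxN) g
              simpa [mul_assoc] using this),
            Subgroup.mem_upperCentralSeries_succ_iff.1 hxu g⟩
        rw [h', Subgroup.mem_bot] at h1
        exact commutatorElement_eq_one_iff_mul_comm.1 h1
      · exact ih h'
  exact key n (by rw [hn, inf_top_eq]; exact hN)

theorem prime_dvd_center {Q : Type u} [Group Q] [Finite Q] [Group.IsNilpotent Q] {q : ℕ} (hq : q.Prime)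
    (h : q ∣ Nat.card Q) : q ∣ Nat.card (Subgroup.center Q) := by
  haveI := Fact.mk hq
  have P : Sylow q Q := default
  haveI : (P : Subgroup Q).Normal := P.normal_of_normalizerCondition Group.normalizerCondition_of_isNilpotent
  obtain ⟨x, hx, hx1, hc⟩ := center_meets (P : Subgroup Q) (P.ne_bot_of_dvd_card h)
  obtain ⟨k, hk⟩ := IsPGroup.iff_orderOf.1 P.2 ⟨x, hx⟩
  rw [Subgroup.orderOf_mk] at hk
  have hk0 : k ≠ 0 := fun h0 => hx1 (orderOf_eq_one_iff.1 (by rw [hk, h0, pow_zero]))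
  exact (hk ▸ dvd_pow_self q hk0).trans
    (Subgroup.orderOf_dvd_natCard _ (Subgroup.mem_center_iff.2 fun g => (hc g).symm))

theorem nilpotent_kernel {H : Subgroup L} [H.Normal] (hH1 : H ≠ ⊥) (hH2 : H ≠ ⊤)
    (hC : ∀ h ∈ H, h ≠ 1 → Subgroup.centralizer ({h} : Set L) ≤ H) : Group.IsNilpotent H := by
  have hd := index_dvd_card_sub_one H H le_rfl hC
  have hcop : Nat.Coprime (Nat.card H) H.index := by
    refine Nat.coprime_of_dvd' fun r _ hrn hre => ?_
    have h3 := Nat.dvd_sub hrn (hre.trans hd)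
    rwa [Nat.sub_sub_self (Nat.one_le_iff_ne_zero.2 Nat.card_pos.ne')] at h3
  obtain ⟨W, hW⟩ := Subgroup.exists_right_complement'_of_coprime hcop
  refine FrobeniusNilpotent.isNilpotent_of_complement (H := W) (fun e => hH2 ?_) fun w hw hw1 => ?_
  · subst e
    exact (Subgroup.isComplement'_bot_right.1 hW)
  · rw [Subgroup.eq_bot_iff_forall]
    rintro h ⟨hh, hhw⟩
    by_contra h1
    have : w ∈ H := hC h hh h1 (Subgroup.mem_centralizer_singleton_iff.2
      (Subgroup.mem_centralizer_singleton_iff.1 hhw).symm)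
    exact hw1 (Subgroup.mem_bot.1 (hW.disjoint.eq_bot ▸ ⟨this, hw⟩))

theorem relIndex_succ_of_free {H A D : Subgroup L} [A.Normal] [D.Normal] (hAD : A ≤ D) (hDH : D ≤ H)
    (hC : ∀ h ∈ H, h ≠ 1 → Subgroup.centralizer ({h} : Set L) ≤ H) (hlt : A ≠ D) :
    H.index + 1 ≤ A.relIndex D := by
  have hA := index_dvd_card_sub_one H A (hAD.trans hDH) hC
  have hD := index_dvd_card_sub_one H D hDH hC
  have hr : Nat.card A * A.relIndex D = Nat.card D := by
    rw [← Subgroup.relIndex_bot_left A, Subgroup.relIndex_mul_relIndex ⊥ A D bot_le hAD,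
      Subgroup.relIndex_bot_left]
  have hr1 : 1 < A.relIndex D := by
    have h0 : A.relIndex D ≠ 0 := Subgroup.index_ne_zero_of_finite
    have h1 : A.relIndex D ≠ 1 := fun h => hlt (le_antisymm hAD (Subgroup.relIndex_eq_one.1 h))
    omega
  obtain ⟨r, hr'⟩ : ∃ r, A.relIndex D = r + 1 := ⟨A.relIndex D - 1, by omega⟩
  have hcop : H.index.Coprime (Nat.card A) := by
    refine Nat.coprime_of_dvd' fun q _ hqe hqn => ?_
    have h3 := Nat.dvd_sub hqn (hqe.trans hA)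
    rwa [Nat.sub_sub_self (Nat.one_le_iff_ne_zero.2 Nat.card_pos.ne')] at h3
  have hdr : H.index ∣ r := by
    refine hcop.dvd_of_dvd_mul_left ?_
    refine (Nat.dvd_add_left hA).1 ?_
    have : Nat.card A * r + (Nat.card A - 1) = Nat.card D - 1 := by
      rw [← hr, hr', mul_add, mul_one]
      have := Nat.card_pos (α := A)
      omega
    rw [this]; exact hD
  have := Nat.le_of_dvd (by omega) hdr
  omega

end Frobenius

section Feit

variable {L : Type u} [Group L] [Fintype L] {G : Type v} [Group G] [Fintype G]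

theorem induced_self_empty (H : Subgroup L) [H.Normal] : Cfsg.inducedIrrAbove H H = ∅ := by
  rw [Set.eq_empty_iff_forall_notMem]
  intro φ hφ
  obtain ⟨θ, hθ, -⟩ := mem_induced.1 hφ
  have h := sum_sq_above (K := H) (A := H)
  rw [Subgroup.relIndex_self] at h
  have := Finset.single_le_sum (f := fun θ : Cfsg.IrrCharacter H => Cfsg.charDegree (θ : H → ℂ) ^ 2)
    (fun _ _ => Nat.zero_le _) hθ
  have h2 := pow_pos (deg_pos θ.2) 2
  omega

theorem feit_coherence (H : Subgroup L) [H.Normal] (hH1 : H ≠ ⊥) (hH2 : H ≠ ⊤)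
    (hC : ∀ h ∈ H, h ≠ 1 → Subgroup.centralizer ({h} : Set L) ≤ H) (he : Nat.card H ≠ H.index + 1)
    {τ : (L → ℂ) → (G → ℂ)}
    (hτ : Cfsg.IsLinearIsometryOn (Cfsg.zspanOn (Cfsg.inducedIrrAbove H ⊥) {1}ᶜ) τ)
    (hτ1 : ∀ α ∈ Cfsg.zspanOn (Cfsg.inducedIrrAbove H ⊥) {1}ᶜ, τ α 1 = 0) :
    Cfsg.IsCoherent (Cfsg.inducedIrrAbove H ⊥) {1}ᶜ τ ∨ ∃ p : ℕ, p.Prime ∧ (∃ m : ℕ, Nat.card H = p ^ m) ∧
      ¬ IsMulCommutative H ∧ (⁅H, H⁆.subgroupOf H).index ≤ 4 * H.index ^ 2 + 1 := by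
  classical
  haveI hnil : Group.IsNilpotent H := nilpotent_kernel hH1 hH2 hC
  have hsolv : Group.IsSolvable H := inferInstance
  haveI := hsolv
  haveI : Nontrivial H := (Subgroup.nontrivial_iff_ne_bot H).2 hH1
  have hirr : ∀ φ ∈ Cfsg.inducedIrrAbove H ⊥, Cfsg.IsIrrCharacter L φ := fun φ hφ => by
    obtain ⟨θ, hθ, rfl⟩ := mem_induced.1 hφ
    exact CharInduced.isIrrCharacter_ind_of_centralizer H hC θ.2 (mem_aboveFin.1 hθ).1
  have hXc : ∀ φ ∈ Cfsg.inducedIrrAbove H (⊥ : Subgroup L), Cfsg.conjFun φ ∈ Cfsg.inducedIrrAbove H ⊥ :=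
    fun φ hφ => induced_conj hφ
  have hcH : ⁅H, H⁆ ≤ H := Subgroup.commutator_le_left H H
  have hclt : ⁅H, H⁆ < H := by
    refine hcH.lt_of_ne fun e => (Group.IsSolvable.commutator_lt_top_of_nontrivial H).ne ?_
    apply Subgroup.map_injective H.subtype_injective
    rw [commutator_def, Subgroup.map_commutator, ← MonoidHom.range_eq_map, H.range_subtype, e]
  set n := ⁅H, H⁆.relIndex H with hn
  -- two members over the commutator subgroup
  have htwo : n ≠ H.index + 1 →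
      ∃ a ∈ Cfsg.inducedIrrAbove H ⁅H, H⁆, ∃ b ∈ Cfsg.inducedIrrAbove H ⁅H, H⁆, a ≠ b := by
    intro hne
    by_contra hcon
    push Not at hcon
    obtain ⟨θ₀, hθ₀, -⟩ := exists_linear H hsolv hclt
    apply hne
    have hs := sum_sq_above (K := H) (A := ⁅H, H⁆)
    rw [← hn, Finset.sum_congr rfl (fun θ hθ => by rw [deg_one_of_commutator_le le_rfl hcH hθ, one_pow]),
      Finset.sum_const, smul_eq_mul, mul_one] at hs
    obtain ⟨h1, -, h3⟩ := nm_mul_card_fibre H θ₀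
    have hi := hirr _ (induced_mono bot_le (mem_induced.2 ⟨θ₀, hθ₀, rfl⟩))
    rw [nm_of_eq (n := 1) (by rw [classInner_irr_self hi, Nat.cast_one]), one_mul] at h3
    rw [← hs, ← h3, ← Fintype.card_coe, ← Nat.card_eq_fintype_card]
    congr 1
    exact Nat.card_congr (Equiv.subtypeEquivRight fun θ =>
      ⟨fun hθ => hcon _ (mem_induced.2 ⟨θ, hθ, rfl⟩) _ (mem_induced.2 ⟨θ₀, hθ₀, rfl⟩),
        fun h => above_closed hθ₀ h⟩)
  -- the base
  have hbase : n ≠ H.index + 1 → Cfsg.IsCoherent (Cfsg.inducedIrrAbove H ⁅H, H⁆) {1}ᶜ τ := by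
    intro hne
    refine coherent_irr_constant (fun φ hφ => hirr φ (induced_mono bot_le hφ)) (htwo hne) (fun φ hφ ψ hψ => ?_)
      (iso_mono (induced_mono bot_le) hτ) (fun a ha => hτ1 a (zspanOn_mono (induced_mono bot_le) ha))
    obtain ⟨θ, hθ, rfl⟩ := mem_induced.1 hφ
    obtain ⟨θ', hθ', rfl⟩ := mem_induced.1 hψ
    rw [ind_apply_one, ind_apply_one, deg_one_of_commutator_le le_rfl hcH hθ,
      deg_one_of_commutator_le le_rfl hcH hθ']
  by_cases hab : ⁅H, H⁆ = ⊥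
  · left
    have h1 : n = Nat.card H := by rw [hn, hab, Subgroup.relIndex_bot_left]
    rw [← hab]
    have := hbase (h1 ▸ he)
    have e : Cfsg.inducedIrrAbove H ⁅H, H⁆ = Cfsg.inducedIrrAbove H (⊥ : Subgroup L) := by rw [hab]
    rw [hab]; rwa [e] at this
  have hnc : ¬ IsMulCommutative H := fun h => hab (by
    rw [eq_bot_iff, Subgroup.commutator_le]
    intro x hx y hy
    rw [Subgroup.mem_bot, commutatorElement_eq_one_iff_mul_comm]
    exact congrArg Subtype.val (h.is_comm.comm ⟨x, hx⟩ ⟨y, hy⟩))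
  haveI : (⊥ : Subgroup L).subgroupOf H |>.Normal := by rw [Subgroup.bot_subgroupOf]; infer_instance
  have hnilq : Group.IsNilpotent (↥H ⧸ (⊥ : Subgroup L).subgroupOf H) :=
    Group.nilpotent_of_surjective (QuotientGroup.mk' _) (QuotientGroup.mk'_surjective _)
  have hidx0 : 1 < H.index := by
    have h0 : H.index ≠ 0 := Subgroup.index_ne_zero_of_finite
    have h1 : H.index ≠ 1 := fun h => hH2 (Subgroup.index_eq_one.1 h)
    omega
  have hdesc : n ≠ H.index + 1 → (∀ A B : Subgroup L, A.Normal → B.Normal → B < A → A ≤ ⁅H, H⁆ →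
      (∀ C : Subgroup L, C.Normal → B ≤ C → C < A → C = B) → (∀ x ∈ A, ∀ y ∈ H, x * y * x⁻¹ * y⁻¹ ∈ B) →
      ∀ θ ∈ aboveFin H B, 2 * H.index * Cfsg.charDegree (θ : H → ℂ) + 1 < A.relIndex H) →
      Cfsg.IsCoherent (Cfsg.inducedIrrAbove H ⊥) {1}ᶜ τ := by
    intro hne hb
    refine chain_induction (bot_le : (⊥ : Subgroup L) ≤ ⁅H, H⁆) hcH hnilq
      (fun A => Cfsg.IsCoherent (Cfsg.inducedIrrAbove H A) {1}ᶜ τ) (hbase hne) ?_
    intro A B hAn hBn _ hBA hA₁ hmax hcent hA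
    haveI := hAn
    haveI := hBn
    have hAK : A < H := lt_of_le_of_lt hA₁ hclt
    obtain ⟨θ₁, hθ₁, hdeg₁⟩ := exists_linear H hsolv hAK
    have hext := extends_irr hirr hXc hτ hτ1
    have hsum : ∑ φ ∈ (aboveFin H A).image (ind H), ((Cfsg.charDegree φ : ℝ) ^ 2 / (nm φ : ℝ)) =
        (H.index : ℝ) * ((A.relIndex H : ℝ) - 1) := by
      rw [sum_sq_div_nm H _ fun θ hθ θ' h => above_closed hθ h, ← sum_sq_above (K := H) (A := A)]
      push_cast; ring
    obtain ⟨S₁, -, hT, -, -, h1⟩ := coherent_grow hXc hext ((aboveFin H A).image (ind H))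
      (by rw [coe_image_aboveFin]; exact induced_mono bot_le)
      (fun φ hφ => by
        rw [← Finset.mem_coe, coe_image_aboveFin] at hφ ⊢
        exact induced_conj hφ)
      (by rwa [coe_image_aboveFin]) ((aboveFin H B).image (ind H))
      (by rw [coe_image_aboveFin]; exact induced_mono bot_le) fun χ hχ _ => by
        obtain ⟨θ, hθ, rfl⟩ := Finset.mem_image.1 hχ
        refine ⟨ind H θ₁, Finset.mem_image_of_mem _ hθ₁, ?_, ?_⟩
        · rw [deg_ind, deg_ind, hdeg₁, mul_one]; exact dvd_mul_right _ _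
        · rw [hsum, deg_ind, deg_ind, hdeg₁]
          have h : ((2 * H.index * Cfsg.charDegree (θ : H → ℂ) + 1 : ℕ) : ℝ) < (A.relIndex H : ℝ) :=
            Nat.cast_lt.2 (hb A B hAn hBn hBA hA₁ hmax hcent θ hθ)
          have he' : (0 : ℝ) < H.index := Nat.cast_pos.2 (by omega)
          push_cast at h ⊢
          nlinarith
    have hBS : Cfsg.inducedIrrAbove H B ⊆ ↑S₁ := by
      rw [← coe_image_aboveFin]; exact Finset.coe_subset.2 hT
    refine coherent_irr_subset hirr h1 hBS (induced_mono bot_le) ?_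
    obtain ⟨a, ha, b, hb', hab'⟩ := htwo hne
    exact ⟨a, induced_mono (hBA.le.trans hA₁) ha, b, induced_mono (hBA.le.trans hA₁) hb', hab'⟩
  by_cases hbig : 4 * H.index ^ 2 + 1 < n
  · left
    refine hdesc (by nlinarith) fun A B _ hBn hBA hA₁ _ hcent θ hθ => ?_
    haveI := hBn
    refine bound_of_sq (C := H) (D := A) (Nat.pos_of_ne_zero Subgroup.index_ne_zero_of_finite) hBA.le
      (hA₁.trans hcH) le_rfl hcent hθ ?_
    have hh : 4 * H.index ^ 2 + 1 < A.relIndex H := lt_of_lt_of_le hbig (by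
      rw [hn, ← Subgroup.relIndex_mul_relIndex A ⁅H, H⁆ H hA₁ hcH]
      exact Nat.le_mul_of_pos_left _ (Nat.pos_of_ne_zero Subgroup.index_ne_zero_of_finite))
    simpa using sq_step (k := 1) (e := H.index) le_rfl hh
  have hsubH : ⁅H, H⁆.subgroupOf H = commutator H := by
    apply Subgroup.map_injective H.subtype_injective
    rw [Subgroup.subgroupOf_map_subtype, inf_eq_left.2 hcH, commutator_def, Subgroup.map_commutator,
      ← MonoidHom.range_eq_map, H.range_subtype]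
  by_cases hpp : ∃ p d : ℕ, p.Prime ∧ n = p ^ d
  · right
    obtain ⟨p, d, hp, hd⟩ := hpp
    haveI := Fact.mk hp
    have hc : (commutator H).index = p ^ d := by rw [← hsubH, ← hd, hn]; rfl
    refine ⟨p, hp, (isPGroup_of_commutator_index hc).exists_card_eq, hnc, ?_⟩
    exact not_lt.1 hbig
  -- two primes
  left
  set π := QuotientGroup.mk' ⁅H, H⁆ with hπ
  have hπs := QuotientGroup.mk'_surjective ⁅H, H⁆
  haveI : (H.map π).Normal := Subgroup.Normal.map ‹_› π hπs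
  have habq : ∀ x ∈ H.map π, ∀ y ∈ H.map π, x * y = y * x := by
    rintro _ ⟨x, hx, rfl⟩ _ ⟨y, hy, rfl⟩
    apply commutatorElement_eq_one_iff_mul_comm.1
    rw [← map_commutatorElement]
    exact (QuotientGroup.eq_one_iff _).2 (Subgroup.commutator_mem_commutator hx hy)
  have hcard : Nat.card (H.map π) = n := by
    rw [hn, ← Subgroup.relIndex_bot_left (H.map π), ← Subgroup.relIndex_comap, MonoidHom.comap_bot,
      QuotientGroup.ker_mk']
  obtain ⟨Nq, hNq, hN1, hN2⟩ := exists_between habq (hcard.symm ▸ hpp)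
  haveI := hNq
  set N₀ := Nq.comap π with hN₀
  haveI : N₀.Normal := hNq.comap π
  have hmapN : N₀.map π = Nq := Subgroup.map_comap_eq_self_of_surjective hπs Nq
  have hcN : ⁅H, H⁆ ≤ N₀ := fun x hx => by
    rw [hN₀, Subgroup.mem_comap, hπ, QuotientGroup.mk'_apply, (QuotientGroup.eq_one_iff x).2 hx]
    exact one_mem _
  have hNH : N₀ ≤ H := by
    have h := Subgroup.comap_mono (f := π) hN2.le
    rwa [Subgroup.comap_map_eq, QuotientGroup.ker_mk', sup_eq_left.2 hcH] at h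
  have hn2 : (H.index + 1) * (H.index + 1) ≤ n := by
    rw [hn, ← Subgroup.relIndex_mul_relIndex ⁅H, H⁆ N₀ H hcN hNH]
    refine Nat.mul_le_mul (relIndex_succ_of_free hcN hNH hC fun e => hN1.ne' ?_)
      (relIndex_succ_of_free hNH le_rfl hC fun e => hN2.ne (by rw [← hmapN, e]))
    rw [← hmapN, ← e, Subgroup.map_eq_bot_iff, QuotientGroup.ker_mk']
  refine hdesc (by nlinarith) fun A B hAn hBn hBA hA₁ hmax hcent θ hθ => ?_
  haveI := hAn
  haveI := hBn
  have hAH : A ≤ H := hA₁.trans hcH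
  -- the central extension of `A` modulo `B`
  let D : Subgroup L :=
    { carrier := {x | x ∈ H ∧ ∀ y ∈ H, x * y * x⁻¹ * y⁻¹ ∈ B}
      one_mem' := ⟨one_mem _, fun y _ => by simp⟩
      mul_mem' := fun {x x'} hx hx' => ⟨mul_mem hx.1 hx'.1, fun y hy => by
        have e : x * x' * y * (x * x')⁻¹ * y⁻¹ = x * (x' * y * x'⁻¹ * y⁻¹) * x⁻¹ * (x * y * x⁻¹ * y⁻¹) := by
          group
        rw [e]
        exact mul_mem (hBn.conj_mem _ (hx'.2 y hy) x) (hx.2 y hy)⟩
      inv_mem' := fun {x} hx => ⟨inv_mem hx.1, fun y hy => by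
        have e : x⁻¹ * y * x⁻¹⁻¹ * y⁻¹ = x⁻¹ * (x * y * x⁻¹ * y⁻¹)⁻¹ * x⁻¹⁻¹ := by group
        rw [e]
        exact hBn.conj_mem _ (inv_mem (hx.2 y hy)) _⟩ }
  haveI : D.Normal := ⟨fun x hx g => ⟨‹H.Normal›.conj_mem x hx.1 g, fun y hy => by
    have e : g * x * g⁻¹ * y * (g * x * g⁻¹)⁻¹ * y⁻¹ =
        g * (x * (g⁻¹ * y * g) * x⁻¹ * (g⁻¹ * y * g)⁻¹) * g⁻¹ := by group
    rw [e]
    refine hBn.conj_mem _ (hx.2 _ ?_) g
    simpa using ‹H.Normal›.conj_mem y hy g⁻¹⟩⟩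
  have hAD : A ≤ D := fun x hx => ⟨hAH hx, hcent x hx⟩
  have hDH : D ≤ H := fun x hx => hx.1
  have hAD' : A ≠ D := by
    intro e
    -- the centre of `H / B` would be `A / B`
    set ρ := QuotientGroup.mk' B with hρ
    have hρs := QuotientGroup.mk'_surjective B
    haveI : Group.IsNilpotent ↥(H.map ρ) :=
      Group.nilpotent_of_surjective (ρ.subgroupMap H) (ρ.subgroupMap_surjective H)
    have hA' : (A.map ρ).Normal := Subgroup.Normal.map hAn ρ hρs
    have hBker : ρ.ker = B := QuotientGroup.ker_mk' B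
    have habA : ∀ x ∈ A.map ρ, ∀ y ∈ A.map ρ, x * y = y * x := by
      rintro _ ⟨x, hx, rfl⟩ _ ⟨y, hy, rfl⟩
      apply commutatorElement_eq_one_iff_mul_comm.1
      rw [← map_commutatorElement, hρ, QuotientGroup.mk'_apply, QuotientGroup.eq_one_iff, commutatorElement_def]
      exact hcent x hx y (hAH hy)
    obtain ⟨q, t, hq, ht⟩ : ∃ q t : ℕ, q.Prime ∧ Nat.card (A.map ρ) = q ^ t := by
      by_contra hcon
      obtain ⟨Cq, hCq, hC1, hC2⟩ := exists_between habA hcon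
      have hle : Cq.comap ρ ≤ A := by
        have h := Subgroup.comap_mono (f := ρ) hC2.le
        rwa [Subgroup.comap_map_eq, hBker, sup_eq_left.2 hBA.le] at h
      have hBC : B ≤ Cq.comap ρ := hBker.ge.trans (Subgroup.ker_le_comap ρ Cq)
      have := hmax _ (hCq.comap ρ) hBC (hle.lt_of_ne fun h => hC2.ne (by
        rw [← h, Subgroup.map_comap_eq_self_of_surjective hρs]))
      apply hC1.ne'
      rw [← Subgroup.map_comap_eq_self_of_surjective hρs Cq, this, Subgroup.map_eq_bot_iff, hBker]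
    obtain ⟨r, hr, hrn, hrq⟩ : ∃ r, r.Prime ∧ r ∣ n ∧ r ≠ q := by
      by_contra hcon
      push Not at hcon
      have hn0 : n ≠ 0 := Subgroup.index_ne_zero_of_finite
      exact hpp ⟨q, _, hq, Nat.eq_prime_pow_of_unique_prime_dvd hn0 fun hr hrn => hcon _ hr hrn⟩
    have hcardH : n ∣ Nat.card (H.map ρ) := by
      rw [← Subgroup.relIndex_bot_left (H.map ρ), ← Subgroup.relIndex_comap, MonoidHom.comap_bot, hBker, hn,
        ← Subgroup.relIndex_mul_relIndex B ⁅H, H⁆ H (hBA.le.trans hA₁) hcH]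
      exact dvd_mul_left _ _
    have hz := prime_dvd_center hr (hrn.trans hcardH)
    have hle : (Subgroup.center ↥(H.map ρ)).map (H.map ρ).subtype ≤ A.map ρ := by
      rintro _ ⟨⟨z, hz'⟩, hzc, rfl⟩
      obtain ⟨x, hx, rfl⟩ := hz'
      refine Subgroup.mem_map_of_mem ρ (e.symm ▸ ⟨hx, fun y hy => ?_⟩)
      have h := Subgroup.mem_center_iff.1 hzc ⟨ρ y, Subgroup.mem_map_of_mem ρ hy⟩
      have h' : ρ y * ρ x = ρ x * ρ y := congrArg Subtype.val h
      rw [← hBker, MonoidHom.mem_ker, map_mul, map_mul, map_mul, map_inv, map_inv, ← h']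
      group
    have h1 := hz.trans ((Nat.card_congr (Subgroup.equivMapOfInjective _ _
      (H.map ρ).subtype_injective).toEquiv) ▸ Subgroup.card_dvd_of_le hle)
    rw [ht] at h1
    exact hrq ((Nat.prime_dvd_prime_iff_eq hr hq).1 (hr.dvd_of_dvd_pow h1))
  refine bound_of_sq (C := H) (D := D) (Nat.pos_of_ne_zero Subgroup.index_ne_zero_of_finite)
    (hBA.le.trans hAD) hDH le_rfl (fun x hx y hy => hx.2 y hy) hθ ?_
  have hr := relIndex_succ_of_free hAD hDH hC hAD'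
  have hh : n ≤ A.relIndex H := by
    rw [hn, ← Subgroup.relIndex_mul_relIndex A ⁅H, H⁆ H hA₁ hcH]
    exact Nat.le_mul_of_pos_left _ (Nat.pos_of_ne_zero Subgroup.index_ne_zero_of_finite)
  have hm := Subgroup.relIndex_mul_relIndex A D H hAD hDH
  have hs0 : 0 < D.relIndex H := Nat.pos_of_ne_zero Subgroup.index_ne_zero_of_finite
  obtain ⟨w, hw⟩ : ∃ w, A.relIndex H = w + 1 :=
    ⟨A.relIndex H - 1, by have : A.relIndex H ≠ 0 := Subgroup.index_ne_zero_of_finite; omega⟩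
  rw [hw, Nat.add_sub_cancel]
  set e := H.index
  set s := D.relIndex H
  have h1 : 4 * e ^ 2 * s * (e + 1) ≤ 4 * e ^ 2 * (w + 1) := by
    rw [mul_assoc, ← hw, ← hm, mul_comm s]
    exact Nat.mul_le_mul_left _ (Nat.mul_le_mul_right _ hr)
  have h2 : (e + 1) * (e + 1) ≤ w + 1 := hn2.trans (hh.trans hw.le)
  have h3 : 4 * e ^ 2 * (w + 1) < w ^ 2 * (e + 1) := by
    obtain ⟨f, hf⟩ : ∃ f, w = e * e + 2 * e + f := ⟨w - (e * e + 2 * e), by
      have : (e + 1) * (e + 1) = e * e + 2 * e + 1 := by ring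
      omega⟩
    subst hf
    nlinarith [hidx0, Nat.zero_le (f * e), Nat.zero_le (f * f), Nat.mul_le_mul hidx0 hidx0,
      Nat.mul_le_mul_left e (Nat.mul_le_mul hidx0 hidx0), Nat.zero_le (f * e * e), Nat.zero_le (f * f * e)]
  nlinarith

end Feit

end Cfsg.Agent.PF6
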