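import Mathlib
import Cfsg.Agent.Lib.PFPartialCoh43
import Cfsg.Agent.Lib.PF12Coherent43
import Cfsg.Agent.Lib.PF6Feit43
import Cfsg.Agent.Lib.FourCoherence
import Cfsg.Agent.S1514

/-!
Coherent families of induced irreducible characters for the second maximal subgroup: over a Frobenius
kernel, and, level by level in the degree, over a section in which every degree is a power of one prime.
-/

set_option autoImplicit false
set_option linter.unusedSectionVars false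
set_option linter.style.haveILetI false

open scoped ComplexConjugate Classical

namespace Cfsg.Agent.PF12Family

open Cfsg Cfsg.Agent.CharBasic Cfsg.Agent.CharBasicDecomp Cfsg.Agent.CoherenceBasic Cfsg.Agent.PFCoherentDade

universe u

variable {G : Type u} [Group G] [Fintype G] {A : Set G} {L : Subgroup G} [Fintype ↥L]
  {H : G → Subgroup G} {K : Subgroup ↥L}

/-- The characters above `R` whose induced character is irreducible. -/
noncomputable def tset (K : Subgroup ↥L) [K.Normal] (R : Subgroup ↥L) : Finset (IrrCharacter ↥K) :=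
  (PF6.aboveFin K R).filter fun θ => IsIrrCharacter ↥L (PF6.ind K θ)

theorem mem_tset [K.Normal] {R : Subgroup ↥L} {θ : IrrCharacter ↥K} :
    θ ∈ tset K R ↔ θ ∈ PF6.aboveFin K R ∧ IsIrrCharacter ↥L (PF6.ind K θ) := by
  simp [tset]

theorem tset_closed [K.Normal] {R : Subgroup ↥L} [R.Normal] {θ : IrrCharacter ↥K} (hθ : θ ∈ tset K R)
    {θ' : IrrCharacter ↥K} (h : PF6.ind K θ' = PF6.ind K θ) : θ' ∈ tset K R := by
  obtain ⟨h1, h2⟩ := mem_tset.1 hθ
  exact mem_tset.2 ⟨PF6.above_closed h1 h, h ▸ h2⟩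

/-- The conjugate of a member. -/
theorem tset_conj [K.Normal] {R : Subgroup ↥L} {θ : IrrCharacter ↥K} (hθ : θ ∈ tset K R) :
    ∃ θ' ∈ tset K R, PF6.ind K θ' = conjFun (PF6.ind K θ) ∧
      Cfsg.charDegree (θ' : ↥K → ℂ) = Cfsg.charDegree (θ : ↥K → ℂ) := by
  obtain ⟨h1, h2⟩ := mem_tset.1 hθ
  obtain ⟨h3, h4⟩ := PF6.mem_aboveFin.1 h1
  have e : PF6.ind K ⟨_, conjFun_isIrr θ.2⟩ = conjFun (PF6.ind K θ) :=
    CharInduced.ind_conj K (θ : ↥K → ℂ)
  refine ⟨⟨_, conjFun_isIrr θ.2⟩, mem_tset.2 ⟨PF6.mem_aboveFin.2 ⟨fun h => h3 (funext fun x => ?_),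
    fun a ha => ?_⟩, e ▸ conjFun_isIrr h2⟩, e, ?_⟩
  · have := congrFun h x
    simpa [Cfsg.conjFun] using congrArg conj this
  · simp [Cfsg.conjFun, h4 a ha]
  · refine PF6.deg_of_eq ?_
    show Cfsg.conjFun (θ : ↥K → ℂ) 1 = _
    rw [conjFun_apply_one (isCharacter_of_isIrrCharacter θ.2),
      PF6.deg_spec (isCharacter_of_isIrrCharacter θ.2)]

theorem conj_ne_self [K.Normal] (hodd : Odd (Nat.card ↥L)) (hK : K ≠ ⊤) (θ : IrrCharacter ↥K)
    (hθ : IsIrrCharacter ↥L (PF6.ind K θ)) : conjFun (PF6.ind K θ) ≠ PF6.ind K θ := by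
  intro hc
  have h1 : PF6.ind K θ = fun _ => 1 :=
    FourCoherence.eq_one_of_real hodd ⟨_, hθ⟩ (fun x => congrFun hc x)
  obtain ⟨x, -, hx⟩ := SetLike.exists_of_lt (lt_top_iff_ne_top.2 hK)
  have := congrFun h1 x
  rw [show PF6.ind K θ x = 0 from CharInduced.ind_normal_eq_zero K _ hx] at this
  exact one_ne_zero this.symm

/-- The Dade map is a linear isometry on the differences in a family of induced irreducible characters. -/
theorem isometry [K.Normal] (hS : Setup A L H K) {R : Subgroup ↥L} :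
    IsLinearIsometryOn (zspanOn (PFPartialCoh.fam K (tset K R)) {1}ᶜ) (dadeIsometry A L H) ∧
      ∀ a ∈ zspanOn (PFPartialCoh.fam K (tset K R)) {1}ᶜ, dadeIsometry A L H a 1 = 0 := by
  set S := PFPartialCoh.fam K (tset K R) with hSdef
  have hirr : ∀ φ ∈ S, IsIrrCharacter ↥L φ := by
    rintro _ ⟨θ, hθ, rfl⟩
    exact (mem_tset.1 hθ).2
  have hsupp : ∀ a ∈ zspanOn S {1}ᶜ, ∀ x : ↥L, (x : G) ∉ A → a x = 0 := by
    intro a ha x hx
    by_cases hx1 : x = 1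
    · rw [hx1]; exact apply_one_of_mem_zspanOn ha
    have hxK : x ∉ K := fun h => hx ((hS.mem_iff x).2 ⟨h, hx1⟩)
    refine zspan_induction (P := fun a : ↥L → ℂ => a x = 0) ?_ rfl ?_ ?_ ha.1
    · rintro _ ⟨θ, -, rfl⟩
      exact CharInduced.ind_normal_eq_zero K _ hxK
    · intro a b _ _ ha hb; simp [ha, hb]
    · intro n a _ ha; simp [ha]
  have hgen : ∀ a ∈ zspan S, IsGeneralizedCharacter ↥L a := fun a ha =>
    isClassFunction_zspan (fun φ hφ => isCharacter_of_isIrrCharacter (hirr φ hφ)) ha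
  have hcf : ∀ a ∈ zspan S, IsClassFunction ↥L a := fun a ha =>
    isClassFunction_of_isGeneralizedCharacter (hgen a ha)
  exact ⟨⟨fun a _ b _ => PF12.dade_add a b, fun a _ n => PF12.dade_zsmul n a,
      fun a ha b hb => DadeMap.inner_dade_dade hS.dade (hcf a ha.1) (hsupp a ha) (hcf b hb.1),
      fun a ha => DadeGenChar.dade_gen hS.dade (hgen a ha.1) (hsupp a ha)⟩,
    fun a _ => PF12.dade_one hS.dade a⟩

/-- A coherent family gives the data of a partial coherence. -/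
theorem partCoh_of_coherent [K.Normal] (hS : Setup A L H K) (hodd : Odd (Nat.card ↥L)) (hK : K ≠ ⊤)
    {R : Subgroup ↥L} [R.Normal] (hcoh : IsCoherent (PFPartialCoh.fam K (tset K R)) {1}ᶜ (dadeIsometry A L H))
    {θ₀ : IrrCharacter ↥K} (hθ₀ : θ₀ ∈ tset K R) (h1 : Cfsg.charDegree (θ₀ : ↥K → ℂ) = 1) :
    ∃ ν ζ, PFPartialCoh.PartCoh A L H K ν (tset K R) ζ := by
  obtain ⟨-, ν, hν, hνext⟩ := hcoh
  refine ⟨ν, PF6.ind K θ₀,
    { dade := hS.dade
      normal := hS.normal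
      mem_iff := hS.mem_iff
      iso := hν
      ext := hνext
      closed := fun θ hθ θ' h => tset_closed hθ h
      ne_one := fun θ hθ => (PF6.mem_aboveFin.1 (mem_tset.1 hθ).1).1
      mem := ⟨θ₀, hθ₀, rfl⟩
      conj_mem := ?_
      irr := (mem_tset.1 hθ₀).2
      deg := by rw [PF6.ind_apply_one, h1, mul_one]
      conj_ne := conj_ne_self hodd hK θ₀ (mem_tset.1 hθ₀).2 }⟩
  obtain ⟨θ', hθ', e, -⟩ := tset_conj hθ₀
  exact ⟨θ', hθ', e⟩

/-- The whole set of induced characters over a Frobenius kernel with abelian kernel or small exponent. -/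
theorem kernel_family [hKn : K.Normal] (hS : Setup A L H K) (hodd : Odd (Nat.card ↥L)) (hK1 : K ≠ ⊥)
    (hK2 : K ≠ ⊤) (hnil : Group.IsNilpotent K) (hcop : (Nat.card K).Coprime K.index)
    (hCL : ∀ k ∈ K, k ≠ 1 → Subgroup.centralizer ({k} : Set ↥L) ≤ K)
    (hweak : IsMulCommutative K ∨
      ∀ p : ℕ, p.Prime → p ∣ Nat.card K → Monoid.exponent (↥L ⧸ K) ∣ p - 1) :
    ∃ (T : Finset (IrrCharacter ↥K)) (ν : (↥L → ℂ) → (G → ℂ)) (ζ : ↥L → ℂ),
      PFPartialCoh.PartCoh A L H K ν T ζ ∧ (∀ θ : IrrCharacter ↥K, (θ : ↥K → ℂ) ≠ (fun _ => 1) → θ ∈ T) ∧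
      PFPartialCoh.size T = Nat.card K := by
  haveI := hnil
  have hsolv : Group.IsSolvable K := inferInstance
  haveI : Nontrivial K := (Subgroup.nontrivial_iff_ne_bot K).2 hK1
  have hirr : ∀ θ ∈ PF6.aboveFin K (⊥ : Subgroup ↥L), IsIrrCharacter ↥L (PF6.ind K θ) := fun θ hθ =>
    CharInduced.isIrrCharacter_ind_of_centralizer _ hCL θ.2 (PF6.mem_aboveFin.1 hθ).1
  have hT : tset K ⊥ = PF6.aboveFin K ⊥ :=
    Finset.ext fun θ => ⟨fun h => (mem_tset.1 h).1, fun h => mem_tset.2 ⟨h, hirr θ h⟩⟩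
  set S := PFPartialCoh.fam K (tset K ⊥) with hSdef
  have hSeq : S = inducedIrrAbove K ⊥ := by
    ext φ
    rw [PF6.mem_induced, hSdef, hT]
    rfl
  have hirrS : ∀ φ ∈ S, IsIrrCharacter ↥L φ := by
    rintro _ ⟨θ, hθ, rfl⟩
    exact (mem_tset.1 hθ).2
  have hSc : ∀ φ ∈ S, conjFun φ ∈ S ∧ conjFun φ ≠ φ := by
    rintro _ ⟨θ, hθ, rfl⟩
    obtain ⟨θ', h', e, -⟩ := tset_conj hθ
    exact ⟨⟨θ', h', e⟩, conj_ne_self hodd hK2 θ (mem_tset.1 hθ).2⟩
  obtain ⟨hτ, hτ1⟩ := isometry hS (R := ⊥)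
  have hKc : ⁅K, K⁆ < K := by
    refine lt_of_le_of_ne (Subgroup.commutator_le_right K K) fun h => ?_
    refine (Group.IsSolvable.commutator_lt_top_of_nontrivial K).ne ?_
    apply Subgroup.map_injective K.subtype_injective
    rw [Subgroup.map_subtype_commutator, h, ← MonoidHom.range_eq_map, Subgroup.range_subtype]
  obtain ⟨θ₀, hθ₀, hθ₀1⟩ := PF6.exists_linear K hsolv hKc
  have hθ₀' : θ₀ ∈ tset K ⊥ := hT ▸ PF6.above_mono bot_le hθ₀
  have hne : S.Nonempty := ⟨_, θ₀, hθ₀', rfl⟩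
  have hcoh : IsCoherent S {1}ᶜ (dadeIsometry A L H) := by
    rcases hweak with hab | hexp
    · obtain ⟨χ, hχ⟩ := hne
      refine PF6.coherent_irr_constant hirrS ⟨_, (hSc χ hχ).1, χ, hχ, (hSc χ hχ).2⟩ ?_ hτ hτ1
      have hone : ∀ φ ∈ S, φ 1 = (K.index : ℂ) := by
        rintro _ ⟨θ, -, rfl⟩
        rw [CharInduced.ind_one_apply,
          CharBasicLinear.apply_one_eq_one_of_comm (fun x y => hab.is_comm.comm x y) θ.2, mul_one]
      intro φ hφ ψ hψ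
      rw [hone φ hφ, hone ψ hψ]
    · obtain ⟨R, hR⟩ := S1514.coherence_system_of_irr hne hirrS hSc hτ hτ1
      rw [hSeq] at hR ⊢
      haveI : ((⊥ : Subgroup ↥L).subgroupOf K).Normal := (Subgroup.bot_subgroupOf K) ▸ inferInstance
      refine PF6.coherent_frobenius hR hsolv hodd ⊥ bot_le
        (Group.nilpotent_of_surjective (QuotientGroup.mk' _) (QuotientGroup.mk'_surjective _)) ⁅K, K⁆
        (by rw [sup_bot_eq]) hKc (lt_top_iff_ne_top.2 hK2) (PF12.frob_quot hCL _ hKc.le) ?_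
      by_cases hpp : ∃ p m : ℕ, p.Prime ∧ (⊥ : Subgroup ↥L).relIndex K = p ^ m
      · obtain ⟨p, m, hp, hpm⟩ := hpp
        refine Or.inr (Or.inr (Or.inr (Or.inr ⟨p, m, hp, hpm, ?_⟩)))
        rw [Subgroup.relIndex_bot_left] at hpm
        rw [← PF12.exponent_quot hK1 hCL hodd hcop]
        refine hexp p hp ?_
        have hm : m ≠ 0 := fun h => hK1 (Subgroup.card_eq_one.1 (by rw [hpm, h, pow_zero]))
        rw [hpm]
        exact dvd_pow_self p hm
      · exact Or.inr (Or.inr (Or.inl hpp))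
  obtain ⟨ν, ζ, hC⟩ := partCoh_of_coherent hS hodd hK2 hcoh hθ₀' hθ₀1
  refine ⟨tset K ⊥, ν, ζ, hC, fun θ hθ => ?_, ?_⟩
  · rw [hT]
    refine PF6.mem_aboveFin.2 ⟨hθ, fun a ha => ?_⟩
    rw [Subgroup.mem_bot] at ha
    rw [show a = 1 from Subtype.ext ha]
  · have h := PF6.sum_sq_above (K := K) (A := (⊥ : Subgroup ↥L))
    rw [Subgroup.relIndex_bot_left, ← hT] at h
    rw [PFPartialCoh.size, add_comm, h]

theorem level_arith {p a e D B S : ℕ} (hp : p.Prime) (ha : 1 ≤ a) (hep : 2 * e ≤ p - 1)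
    (hD : p ^ (2 * a) ≤ D) (hB : B ≤ (p - 1) * p ^ (2 * a - 2)) (hB1 : a = 1 → B = 0)
    (hDS : D = 1 + S + B) : 2 * e * p ^ a < S := by
  obtain ⟨b, rfl⟩ : ∃ b, a = b + 1 := ⟨a - 1, by omega⟩
  have hp2 := hp.two_le
  obtain ⟨r, rfl⟩ : ∃ r, p = r + 2 := ⟨p - 2, by omega⟩
  rcases Nat.eq_zero_or_pos b with rfl | hb
  · have := hB1 rfl
    subst this
    have h2 : (r + 2) ^ (2 * (0 + 1)) = (r + 2) * (r + 2) := by ring
    have : 2 * e * (r + 2) ^ (0 + 1) ≤ (r + 1) * (r + 2) := by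
      rw [pow_one]; exact Nat.mul_le_mul_right _ (by omega)
    nlinarith
  · have h1 : 2 * (b + 1) = 2 * b + 2 := by ring
    rw [h1] at hD
    have h2 : 2 * (b + 1) - 2 = 2 * b := by omega
    rw [h2] at hB
    have hpb : (r + 2) ^ (b + 1) ≤ (r + 2) ^ (2 * b) := Nat.pow_le_pow_right (by omega) (by omega)
    have hpos : 1 ≤ (r + 2) ^ (2 * b) := Nat.one_le_pow _ _ (by omega)
    have h3 : (r + 2) ^ (2 * b + 2) = (r + 2) ^ (2 * b) * ((r + 2) * (r + 2)) := by ring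
    have h4 : 2 * e * (r + 2) ^ (b + 1) ≤ (r + 1) * (r + 2) ^ (2 * b) :=
      Nat.mul_le_mul (by omega) hpb
    have h5 : (r + 2 - 1) * (r + 2) ^ (2 * b) = (r + 1) * (r + 2) ^ (2 * b) := by
      congr 1
    rw [h5] at hB
    nlinarith

/-- The family above `R`, when every degree is a power of `p` and few characters are fixed. -/
theorem chain_family [hKn : K.Normal] (hS : Setup A L H K) (hodd : Odd (Nat.card ↥L)) (hK2 : K ≠ ⊤)
    (R : Subgroup ↥L) [R.Normal] {p : ℕ} (hp : p.Prime)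
    (hdeg : ∀ θ ∈ PF6.aboveFin K R, ∃ a : ℕ,
      Cfsg.charDegree (θ : ↥K → ℂ) = p ^ a ∧ p ^ (2 * a) ∣ R.relIndex K)
    (hlin : ∀ θ ∈ PF6.aboveFin K R, Cfsg.charDegree (θ : ↥K → ℂ) = 1 → θ ∈ tset K R)
    (hbad : (PF6.aboveFin K R \ tset K R).card ≤ p - 1)
    (hq : (∃ θ ∈ PF6.aboveFin K R, Cfsg.charDegree (θ : ↥K → ℂ) ≠ 1) → 2 * K.index ≤ p - 1)
    (hex : ∃ θ ∈ PF6.aboveFin K R, Cfsg.charDegree (θ : ↥K → ℂ) = 1) :
    ∃ (ν : (↥L → ℂ) → (G → ℂ)) (ζ : ↥L → ℂ), PFPartialCoh.PartCoh A L H K ν (tset K R) ζ ∧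
      (p ^ 2 ∣ R.relIndex K → p ^ 2 ∣ PFPartialCoh.size (tset K R)) ∧
      ∀ θ ∈ PF6.aboveFin K R, θ ∉ tset K R → p ∣ Cfsg.charDegree (θ : ↥K → ℂ) ∧
        2 * K.index * Cfsg.charDegree (θ : ↥K → ℂ) ≤ PFPartialCoh.size (tset K R) := by
  set T := tset K R with hTdef
  set Ab := PF6.aboveFin K R with hAbdef
  set d : IrrCharacter ↥K → ℕ := fun θ => Cfsg.charDegree (θ : ↥K → ℂ) with hd
  have hTA : T ⊆ Ab := fun θ h => (mem_tset.1 h).1
  have hexp : ∀ θ ∈ Ab, θ ∉ T → ∃ a, 1 ≤ a ∧ d θ = p ^ a := by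
    intro θ hθ hθT
    obtain ⟨a, ha, -⟩ := hdeg θ hθ
    refine ⟨a, Nat.one_le_iff_ne_zero.2 fun h0 => hθT (hlin θ hθ (by rw [ha, h0, pow_zero])), ha⟩
  have hsum := PF6.sum_sq_above (K := K) (A := R)
  -- the inequality at a level
  have hlev : ∀ a, 1 ≤ a → (∃ θ ∈ Ab, d θ = p ^ a) →
      2 * K.index * p ^ a < ∑ θ ∈ T.filter (fun θ => d θ < p ^ a), d θ ^ 2 := by
    intro a ha hθa
    obtain ⟨θ, hθ, hθd⟩ := hθa
    obtain ⟨a', ha', hdiv⟩ := hdeg θ hθ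
    have haa : a' = a := Nat.pow_right_injective hp.two_le (ha'.symm.trans hθd)
    subst haa
    set D := 1 + ∑ θ ∈ Ab.filter (fun θ => d θ < p ^ a'), d θ ^ 2 with hD
    have hsplit := Finset.sum_filter_add_sum_filter_not Ab (fun θ => d θ < p ^ a') (fun θ => d θ ^ 2)
    have hhigh : p ^ (2 * a') ∣ ∑ θ ∈ Ab.filter (fun θ => ¬ d θ < p ^ a'), d θ ^ 2 := by
      refine Finset.dvd_sum fun θ' hθ' => ?_
      obtain ⟨hθ'A, hle⟩ := Finset.mem_filter.1 hθ'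
      obtain ⟨b, hb, -⟩ := hdeg θ' hθ'A
      have hle' : p ^ a' ≤ p ^ b := hb ▸ not_lt.1 hle
      rw [show d θ' = p ^ b from hb, ← pow_mul, mul_comm b]
      exact pow_dvd_pow p (Nat.mul_le_mul_left 2 ((Nat.pow_le_pow_iff_right hp.one_lt).1 hle'))
    have hDdvd : p ^ (2 * a') ∣ D := by
      have e : D + ∑ θ ∈ Ab.filter (fun θ => ¬ d θ < p ^ a'), d θ ^ 2 = R.relIndex K := by
        rw [hD, add_assoc, hsplit, add_comm]; exact hsum
      exact (Nat.dvd_add_iff_left hhigh).2 (e ▸ hdiv)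
    set B := ∑ θ ∈ (Ab \ T).filter (fun θ => d θ < p ^ a'), d θ ^ 2 with hB
    have hBbound : ∀ θ' ∈ (Ab \ T).filter (fun θ => d θ < p ^ a'),
        2 ≤ a' ∧ d θ' ^ 2 ≤ p ^ (2 * a' - 2) := by
      intro θ' hθ'
      obtain ⟨hθ'B, hlt⟩ := Finset.mem_filter.1 hθ'
      obtain ⟨hA', hT'⟩ := Finset.mem_sdiff.1 hθ'B
      obtain ⟨b, hb1, hb⟩ := hexp θ' hA' hT'
      rw [hb] at hlt ⊢
      have hba : b < a' := (Nat.pow_lt_pow_iff_right hp.one_lt).1 hlt
      refine ⟨by omega, ?_⟩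
      rw [← pow_mul]
      exact Nat.pow_le_pow_right hp.pos (by omega)
    refine level_arith hp ha (hq ⟨θ, hθ, by
        rw [show Cfsg.charDegree (θ : ↥K → ℂ) = p ^ a' from hθd]
        exact (Nat.one_lt_pow (by omega) hp.one_lt).ne'⟩) (D := D) (B := B) (S := _)
      (Nat.le_of_dvd (by omega) hDdvd) ?_ (fun h1 => ?_) ?_
    · refine (Finset.sum_le_card_nsmul _ _ _ fun θ' h => (hBbound θ' h).2).trans ?_
      rw [smul_eq_mul]
      exact Nat.mul_le_mul_right _ ((Finset.card_filter_le _ _).trans hbad)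
    · refine Finset.sum_eq_zero fun θ' h => ?_
      have := (hBbound θ' h).1
      omega
    · rw [hD, hB, add_assoc]
      congr 1
      rw [add_comm, ← Finset.sum_union]
      · refine Finset.sum_congr (Finset.ext fun θ' => ?_) fun _ _ => rfl
        simp only [Finset.mem_union, Finset.mem_filter, Finset.mem_sdiff]
        constructor
        · intro h
          by_cases hT' : θ' ∈ T
          · exact Or.inr ⟨hT', h.2⟩
          · exact Or.inl ⟨⟨h.1, hT'⟩, h.2⟩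
        · rintro (h | h)
          · exact ⟨h.1.1, h.2⟩
          · exact ⟨hTA h.1, h.2⟩
      · rw [Finset.disjoint_left]
        intro θ' h1 h2
        exact (Finset.mem_sdiff.1 (Finset.mem_filter.1 h1).1).2 (Finset.mem_filter.1 h2).1
  -- coherence, level by level
  obtain ⟨θ₀, hθ₀, hθ₀1⟩ := hex
  have hθ₀T : θ₀ ∈ T := hlin θ₀ hθ₀ hθ₀1
  set S := PFPartialCoh.fam K T with hSdef
  have hirrS : ∀ φ ∈ S, IsIrrCharacter ↥L φ := by
    rintro _ ⟨θ, hθ, rfl⟩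
    exact (mem_tset.1 hθ).2
  have hSc : ∀ φ ∈ S, conjFun φ ∈ S ∧ conjFun φ ≠ φ := by
    rintro _ ⟨θ, hθ, rfl⟩
    obtain ⟨θ', h', e, -⟩ := tset_conj hθ
    exact ⟨⟨θ', h', e⟩, conj_ne_self hodd hK2 θ (mem_tset.1 hθ).2⟩
  obtain ⟨hτ, hτ1⟩ := isometry hS (R := R)
  obtain ⟨Rf, hRf⟩ := S1514.coherence_system_of_irr (S := S) ⟨PF6.ind K θ₀, θ₀, hθ₀T, rfl⟩ hirrS hSc hτ hτ1
  set lev : ℕ → Finset (↥L → ℂ) := fun a => (T.filter (fun θ => d θ < p ^ a)).image (PF6.ind K) with hlevdef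
  have hlevS : ∀ a, ↑(lev a) ⊆ S := by
    intro a φ hφ
    obtain ⟨θ, hθ, rfl⟩ := Finset.mem_image.1 hφ
    exact ⟨θ, (Finset.mem_filter.1 hθ).1, rfl⟩
  have hlevc : ∀ a, ∀ φ ∈ lev a, conjFun φ ∈ lev a := by
    intro a φ hφ
    obtain ⟨θ, hθ, rfl⟩ := Finset.mem_image.1 hφ
    obtain ⟨h1, h2⟩ := Finset.mem_filter.1 hθ
    obtain ⟨θ', h', e, he⟩ := tset_conj h1
    exact Finset.mem_image.2 ⟨θ', Finset.mem_filter.2 ⟨h', by simp only [hd] at h2 ⊢; rwa [he]⟩, e⟩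
  have hlev0 : ∀ a, 1 ≤ a → PF6.ind K θ₀ ∈ lev a := fun a ha =>
    Finset.mem_image.2 ⟨θ₀, Finset.mem_filter.2 ⟨hθ₀T, by
      rw [show d θ₀ = 1 from hθ₀1]; exact Nat.one_lt_pow (by omega) hp.one_lt⟩, rfl⟩
  have hsumlev : ∀ a, ∑ φ ∈ lev a, ((Cfsg.charDegree φ : ℝ) ^ 2 / (PF6.nm φ : ℝ)) =
      ((K.index * ∑ θ ∈ T.filter (fun θ => d θ < p ^ a), d θ ^ 2 : ℕ) : ℝ) := by
    intro a
    refine PF6.sum_sq_div_nm K _ fun θ hθ θ' h => ?_
    obtain ⟨h1, h2⟩ := Finset.mem_filter.1 hθ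
    refine Finset.mem_filter.2 ⟨tset_closed h1 h, ?_⟩
    simp only [hd] at h2 ⊢
    rwa [PF6.deg_eq_of_ind_eq K h]
  have hcoh : ∀ a, 1 ≤ a → IsCoherent (↑(lev a) : Set (↥L → ℂ)) {1}ᶜ (dadeIsometry A L H) := by
    intro a ha
    induction a, ha using Nat.le_induction with
    | base =>
      have h0 := hlev0 1 le_rfl
      refine PF6.coherent_irr_constant (fun φ hφ => hirrS φ (hlevS 1 hφ))
        ⟨_, hlevc 1 _ h0, _, h0, (hSc _ (hlevS 1 h0)).2⟩ ?_
        ⟨fun a ha b hb => hτ.1 a (zspanOn_mono (hlevS 1) ha) b (zspanOn_mono (hlevS 1) hb),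
          fun a ha => hτ.2.1 a (zspanOn_mono (hlevS 1) ha),
          fun a ha b hb => hτ.2.2.1 a (zspanOn_mono (hlevS 1) ha) b (zspanOn_mono (hlevS 1) hb),
          fun a ha => hτ.2.2.2 a (zspanOn_mono (hlevS 1) ha)⟩
        fun a ha => hτ1 a (zspanOn_mono (hlevS 1) ha)
      have hone : ∀ φ ∈ (↑(lev 1) : Set (↥L → ℂ)), φ 1 = (K.index : ℂ) := by
        intro φ hφ
        obtain ⟨θ, hθ, rfl⟩ := Finset.mem_image.1 hφ
        obtain ⟨h1, h2⟩ := Finset.mem_filter.1 hθ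
        obtain ⟨b, hb, -⟩ := hdeg θ (hTA h1)
        have hdθ : d θ = p ^ b := hb
        rw [hdθ] at h2
        have hb0 : b = 0 := by
          have := (Nat.pow_lt_pow_iff_right hp.one_lt).1 h2
          omega
        rw [PF6.ind_apply_one, hb, hb0, pow_zero, mul_one]
      intro φ hφ ψ hψ
      rw [hone φ hφ, hone ψ hψ]
    | succ a ha ih =>
      obtain ⟨S₁, h01, hT1, h1S, h1c, h1⟩ := PF6.coherent_grow (fun φ hφ => (hSc φ hφ).1)
        (PF6.extends_of_system hRf subset_rfl) (lev a) (hlevS a) (hlevc a) ih (lev (a + 1)) (hlevS _) (by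
          intro χ hχ hχa
          obtain ⟨θ, hθ, rfl⟩ := Finset.mem_image.1 hχ
          obtain ⟨hθT, hθlt⟩ := Finset.mem_filter.1 hθ
          obtain ⟨b, hb, -⟩ := hdeg θ (hTA hθT)
          have hdθ : d θ = p ^ b := hb
          rw [hdθ] at hθlt
          have hba : b = a := by
            have h2 := (Nat.pow_lt_pow_iff_right hp.one_lt).1 hθlt
            by_contra hne
            exact hχa (Finset.mem_image.2 ⟨θ, Finset.mem_filter.2 ⟨hθT, by
              rw [hdθ]; exact Nat.pow_lt_pow_right hp.one_lt (by omega)⟩, rfl⟩)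
          subst hba
          refine ⟨_, hlev0 b ha, ?_, ?_⟩
          · rw [PF6.deg_ind, PF6.deg_ind, hθ₀1, mul_one]
            exact dvd_mul_right _ _
          · rw [hsumlev, PF6.deg_ind, PF6.deg_ind, hθ₀1, mul_one, hb]
            have hlt := hlev b ha ⟨θ, hTA hθT, hdθ⟩
            have hi : 0 < K.index := Nat.pos_of_ne_zero Subgroup.index_ne_zero_of_finite
            have := Nat.mul_lt_mul_of_pos_left hlt hi
            have h2 : ((2 * (K.index * p ^ b) * K.index : ℕ) : ℝ) <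
                ((K.index * ∑ θ ∈ T.filter (fun θ => d θ < p ^ b), d θ ^ 2 : ℕ) : ℝ) := by
              exact_mod_cast lt_of_eq_of_lt (by ring) this
            push_cast at h2 ⊢
            exact h2)
      exact PF6.system_coherent_subset hRf h1 (by exact_mod_cast hT1) (hlevS _)
        ⟨_, hlev0 (a + 1) (by omega)⟩ (hlevc _)
  set N := Nat.card ↥K + 1 with hN
  have hbig : ∀ θ ∈ T, d θ < p ^ N := by
    intro θ hθ
    obtain ⟨b, hb, hbd⟩ := hdeg θ (hTA hθ)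
    rw [show d θ = p ^ b from hb]
    refine Nat.pow_lt_pow_right hp.one_lt ?_
    have h1 : R.relIndex K ≤ Nat.card ↥K :=
      Nat.le_of_dvd Nat.card_pos (Subgroup.index_dvd_card (R.subgroupOf K))
    have h2 : p ^ (2 * b) ≤ R.relIndex K :=
      Nat.le_of_dvd (Nat.pos_of_ne_zero (Subgroup.index_ne_zero_of_finite (H := R.subgroupOf K))) hbd
    have h3 : 2 * b < p ^ (2 * b) := Nat.lt_pow_self hp.one_lt
    omega
  have hfam : (↑(lev N) : Set (↥L → ℂ)) = S := by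
    refine Set.Subset.antisymm (hlevS N) ?_
    rintro _ ⟨θ, hθ, rfl⟩
    exact Finset.mem_image.2 ⟨θ, Finset.mem_filter.2 ⟨hθ, hbig θ hθ⟩, rfl⟩
  have hcohS := hcoh N (by omega)
  rw [hfam] at hcohS
  obtain ⟨ν, ζ, hC⟩ := partCoh_of_coherent hS hodd hK2 hcohS hθ₀T hθ₀1
  refine ⟨ν, ζ, hC, fun h2 => ?_, fun θ hθ hθT => ?_⟩
  · have e : PFPartialCoh.size T + ∑ θ ∈ Ab \ T, d θ ^ 2 = R.relIndex K := by
      rw [PFPartialCoh.size, add_assoc, add_comm (∑ θ ∈ T, _), Finset.sum_sdiff hTA, add_comm]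
      exact hsum
    refine (Nat.dvd_add_iff_left (Finset.dvd_sum fun θ hθ => ?_)).2 (e ▸ h2)
    obtain ⟨hA', hT'⟩ := Finset.mem_sdiff.1 hθ
    obtain ⟨b, hb1, hb⟩ := hexp θ hA' hT'
    rw [hb, ← pow_mul]
    exact pow_dvd_pow p (by omega)
  · obtain ⟨b, hb1, hb⟩ := hexp θ hθ hθT
    rw [show Cfsg.charDegree (θ : ↥K → ℂ) = p ^ b from hb]
    refine ⟨dvd_pow_self p (by omega), ((hlev b hb1 ⟨θ, hθ, hb⟩).trans_le ?_).le⟩
    rw [PFPartialCoh.size]
    exact (Finset.sum_le_sum_of_subset (Finset.filter_subset _ _)).trans (Nat.le_add_left _ _)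

end Cfsg.Agent.PF12Family
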