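import Mathlib

/-!
Small group-theoretic lemmas for coprime coset conjugation, used by the odd-order character statements.
-/

set_option autoImplicit false

namespace Cfsg.Agent.OddCharGroup

/-- For coprime `m`, `n` there is an exponent `≡ 1` modulo `m` and divisible by `n`. -/
theorem exists_exponent {m n : ℕ} (h : Nat.Coprime m n) : ∃ k : ℕ, k ≡ 1 [MOD m] ∧ n ∣ k := by
  obtain ⟨k, hk1, hk2⟩ := Nat.chineseRemainder h 1 0
  exact ⟨k, hk1, (Nat.modEq_zero_iff_dvd).mp hk2⟩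

/-- Raising to the exponent of `exists_exponent` kills the coprime factor. -/
theorem mul_pow_exponent {G : Type*} [Group G] {g c : G} (hcomm : c * g = g * c) {k : ℕ}
    (hk1 : k ≡ 1 [MOD orderOf g]) (hk2 : orderOf c ∣ k) : (c * g) ^ k = g := by
  rw [(Commute.mul_pow hcomm k : (c * g) ^ k = c ^ k * g ^ k), orderOf_dvd_iff_pow_eq_one.mp hk2, one_mul]
  conv_rhs => rw [← pow_one g]
  exact pow_eq_pow_iff_modEq.mpr hk1

/-- If `g` normalises `H` and has order coprime to `|H|`, every element of `H g` is `H`-conjugate to an element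
of `C_H(g) g`. -/
theorem coset_conj {G : Type*} [Group G] [Finite G] (H : Subgroup G) (g : G)
    (hg : g ∈ Subgroup.normalizer (H : Set G)) (hcop : Nat.Coprime (orderOf g) (Nat.card H)) (h : G) (hh : h ∈ H) :
    ∃ x ∈ H, ∃ c ∈ H, c * g = g * c ∧ x * (h * g) * x⁻¹ = c * g := by
  classical
  obtain ⟨k, hk1, hk2⟩ := exists_exponent hcop
  let C : Subgroup G := H ⊓ Subgroup.centralizer ({g} : Set G)
  have hC : ∀ c : C, (c : G) ∈ H ∧ (c : G) * g = g * c := fun c =>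
    ⟨c.2.1, Subgroup.mem_centralizer_singleton_iff.mp c.2.2⟩
  have hpow : ∀ c : C, ((c : G) * g) ^ k = g := fun c =>
    mul_pow_exponent (hC c).2 hk1 ((Subgroup.orderOf_dvd_natCard H (hC c).1).trans hk2)
  have hmem : ∀ p : H × C, (p.1 : G) * ((p.2 : G) * g) * (p.1 : G)⁻¹ * g⁻¹ ∈ H := by
    intro p
    have h3 : g * (p.1 : G)⁻¹ * g⁻¹ ∈ H :=
      (Subgroup.mem_normalizer_iff.mp hg _).mp (H.inv_mem p.1.2)
    have h4 := H.mul_mem (H.mul_mem p.1.2 (hC p.2).1) h3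
    simpa [mul_assoc] using h4
  let f : H × C → H := fun p => ⟨_, hmem p⟩
  have key : ∀ p q : H × C, f p = f q → ((q.1 : G)⁻¹ * p.1) ∈ C ∧
      (q.2 : G) = ((q.1 : G)⁻¹ * p.1) * p.2 * ((q.1 : G)⁻¹ * p.1)⁻¹ := by
    intro p q hpq
    have e : (p.1 : G) * ((p.2 : G) * g) * (p.1 : G)⁻¹ = (q.1 : G) * ((q.2 : G) * g) * (q.1 : G)⁻¹ :=
      mul_right_cancel (congrArg Subtype.val hpq)
    set z : G := (q.1 : G)⁻¹ * p.1 with hz
    have e' : z * ((p.2 : G) * g) * z⁻¹ = (q.2 : G) * g := by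
      calc z * ((p.2 : G) * g) * z⁻¹ = (q.1 : G)⁻¹ * ((p.1 : G) * ((p.2 : G) * g) * (p.1 : G)⁻¹) * q.1 := by
            rw [hz]; group
        _ = (q.2 : G) * g := by rw [e]; group
    have e2 : z * g * z⁻¹ = g := by
      calc z * g * z⁻¹ = (z * ((p.2 : G) * g) * z⁻¹) ^ k := by rw [conj_pow, hpow]
        _ = g := by rw [e', hpow]
    have hz' : z * g = g * z := mul_inv_eq_iff_eq_mul.mp e2
    refine ⟨⟨H.mul_mem (H.inv_mem q.1.2) p.1.2, Subgroup.mem_centralizer_singleton_iff.mpr hz'⟩, ?_⟩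
    have e3 : z * ((p.2 : G) * g) * z⁻¹ = z * p.2 * z⁻¹ * g := by
      calc z * ((p.2 : G) * g) * z⁻¹ = z * p.2 * z⁻¹ * (z * g * z⁻¹) := by group
        _ = _ := by rw [e2]
    exact (mul_right_cancel (e3 ▸ e')).symm
  have rep : ∀ v : Set.range f, ∃ p : H × C, f p = (v : H) := fun v => v.2
  choose r hr using rep
  let F : H × C → Set.range f × C := fun p =>
    (⟨f p, ⟨p, rfl⟩⟩, ⟨_, (key p (r ⟨f p, ⟨p, rfl⟩⟩) (hr ⟨f p, ⟨p, rfl⟩⟩).symm).1⟩)
  have hF : Function.Injective F := by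
    intro p q hpq
    obtain ⟨h1, h2⟩ := Prod.ext_iff.mp hpq
    have hr12 : r ⟨f p, ⟨p, rfl⟩⟩ = r ⟨f q, ⟨q, rfl⟩⟩ := congrArg r h1
    have h2' : ((r ⟨f p, ⟨p, rfl⟩⟩).1 : G)⁻¹ * p.1 = ((r ⟨f q, ⟨q, rfl⟩⟩).1 : G)⁻¹ * q.1 :=
      congrArg Subtype.val h2
    rw [hr12] at h2'
    have h1' : p.1 = q.1 := Subtype.ext (mul_left_cancel h2')
    obtain ⟨-, hq⟩ := key p q (congrArg Subtype.val h1)
    refine Prod.ext h1' (Subtype.ext ?_)
    rw [h1'] at hq
    simpa using hq.symm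
  have hle := Nat.card_le_card_of_injective F hF
  rw [Nat.card_prod, Nat.card_prod] at hle
  have hcard : Nat.card H ≤ Nat.card (Set.range f) :=
    Nat.le_of_mul_le_mul_right hle Nat.card_pos
  have hrange : Set.range f = Set.univ := by
    apply Set.eq_of_subset_of_ncard_le (Set.subset_univ _) _ Set.finite_univ
    rw [Set.ncard_univ, ← Nat.card_coe_set_eq]
    exact hcard
  obtain ⟨p, hp⟩ : (⟨h, hh⟩ : H) ∈ Set.range f := by rw [hrange]; exact Set.mem_univ _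
  refine ⟨(p.1 : G)⁻¹, H.inv_mem p.1.2, p.2, (hC p.2).1, (hC p.2).2, ?_⟩
  have he : (p.1 : G) * ((p.2 : G) * g) * (p.1 : G)⁻¹ = h * g := by
    have := congrArg Subtype.val hp
    exact mul_inv_eq_iff_eq_mul.mp this
  rw [← he]; group

end Cfsg.Agent.OddCharGroup
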