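import Mathlib
import Cfsg.Agent.Lib.PF12Base43
import Cfsg.Agent.Lib.PF12Family43
import Cfsg.Agent.Lib.PF12CharAux43
import Cfsg.Agent.S1513
import Cfsg.Agent.S1364
import Cfsg.Agent.S1365
import Cfsg.Agent.S1372
import Cfsg.Agent.S1373
import Cfsg.Agent.S1430
import Cfsg.Agent.S1436

/-!
Peterfalvi, Section 12: common facts for the case in which the second maximal subgroup has a non-empty
kappa set; it is then the product of its sigma core and a cyclic Hall kappa subgroup.
-/

set_option autoImplicit false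
set_option linter.unusedSectionVars false
set_option linter.style.haveILetI false

open scoped Pointwise commutatorElement Classical

namespace Cfsg.Agent.PF12TypeP

open Cfsg Cfsg.Agent.BGTypeBasic Cfsg.Agent.BGTypeSetup Cfsg.Agent.CharBasic Cfsg.Agent.CharBasicDecomp

universe u

variable {G : Type u} [Group G] [Finite G]

/-- The two maximal subgroups with a standard factorisation `L = K ⬝ L_σ` of the second. -/
structure PPair (M L A : Subgroup G) (p : ℕ) (x k : G) (K : Subgroup G) : Prop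
    extends PF12Base.Pair M L A p x k where
  hKU : IsSigmaDecomposition L K ⊥
  hKne : K ≠ ⊥

/-- `L` has no `U`: otherwise its Fitting subgroup would be a TI set containing the escaping element. -/
theorem exists_ppair {M L A : Subgroup G} {p : ℕ} {x k : G} (P : PF12Base.Pair M L A p x k)
    (hκL : kappa L ≠ ∅) : ∃ K, PPair M L A p x k K := by
  obtain ⟨K, U, h⟩ := PF12Sets.exists_decomp P.hG P.hL
  have hK : K ≠ ⊥ := fun e => hκL ((kappa_eq_empty_iff P.hG P.hL h).2 e)
  rcases eq_or_ne U ⊥ with rfl | hU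
  · exact ⟨K, P, h, hK⟩
  exfalso
  obtain ⟨-, hTI, hle⟩ := S1372.result P.hG L P.hL K U h hK hU
  apply P.esc
  have hxF : x ∈ fittingOf L := hle P.xL
  have hN : Subgroup.normalizer ((fittingOf L : Subgroup G) : Set G) = L :=
    normalizer_eq_of_normal P.hG P.hL
      (fun e => P.x_ne (by rw [e, Subgroup.mem_bot] at hxF; exact hxF)) (Subgroup.map_subtype_le _)
      (by
        haveI : ((fittingSubgroup ↥L).map L.subtype).subgroupOf L |>.Normal := by
          rw [Subgroup.subgroupOf, Subgroup.comap_map_eq_self_of_injective L.subtype_injective]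
          infer_instance
        exact (Subgroup.normal_subgroupOf_iff_le_normalizer (Subgroup.map_subtype_le _)).1 this)
  intro c hc
  rw [← hN]
  by_contra hcn
  refine P.x_ne (hTI c hcn x hxF ?_)
  rwa [Subgroup.mem_centralizer_singleton_iff.1 hc, mul_inv_cancel_right]

namespace PPair

variable {M L A K : Subgroup G} {p : ℕ} {x k : G}

theorem kappa_ne (P : PPair M L A p x k K) : kappa L ≠ ∅ := fun h =>
  P.hKne ((kappa_eq_empty_iff P.hG P.hL P.hKU).1 h)

theorem K_le (P : PPair M L A p x k K) : K ≤ L := BGTypeSetup.K_le P.hKU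

theorem compl_K (P : PPair M L A p x k K) : IsComplIn (sigmaCore L) K L := by
  refine isComplIn_of_card (sigmaCore_le L) P.K_le ?_ ?_
  · exact (coprime_K_sigmaCore P.hG P.hL P.hKU).symm
  · rw [← card_decomp P.hG P.hL P.hKU, Subgroup.card_bot]
    ring

theorem coprime_K (P : PPair M L A p x k K) : (Nat.card K).Coprime (Nat.card (sigmaCore L)) :=
  coprime_K_sigmaCore P.hG P.hL P.hKU

theorem relIndex_core (P : PPair M L A p x k K) : (sigmaCore L).relIndex L = Nat.card K :=
  (relIndex_of_isComplIn P.compl_K).1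

theorem relIndex_K (P : PPair M L A p x k K) : K.relIndex L = Nat.card (sigmaCore L) :=
  (relIndex_of_isComplIn P.compl_K).2

theorem derived_eq (P : PPair M L A p x k K) : ⁅L, L⁆ = sigmaCore L := by
  rw [(S1365.result P.hG L P.hL K ⊥ P.hKU P.hKne).1, bot_sup_eq]

theorem card_W_prime (P : PPair M L A p x k K) :
    (Nat.card ↥(sigmaCore L ⊓ Subgroup.centralizer (K : Set G))).Prime :=
  S1373.result P.hG L P.hL K ⊥ P.hKU P.hKne rfl

theorem W_le_derived (P : PPair M L A p x k K) :
    sigmaCore L ⊓ Subgroup.centralizer (K : Set G) ≤ ⁅sigmaCore L, sigmaCore L⁆ := by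
  have h := (S1365.result P.hG L P.hL K ⊥ P.hKU P.hKne).2
  rwa [P.derived_eq] at h

theorem three_le (P : PPair M L A p x k K) : 3 ≤ Nat.card K := by
  have h1 : Nat.card K ≠ 1 := fun h => P.hKne (Subgroup.card_eq_one.1 h)
  obtain ⟨a, ha⟩ := odd_card P.hG K
  omega

/-- The order of `M_σ` is prime to that of `L`. -/
theorem not_mem_sigma (P : PPair M L A p x k K) {r : ℕ} (hr : r.Prime) (hd : r ∣ Nat.card L) :
    r ∉ sigma M := fun hs =>
  P.kappa_ne ((S1436.result P.hG L P.hL x P.xL P.x_ne P.esc M P.hM P.xC).1 ⟨r, hs, hd⟩).1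

/-- An element of prime order outside `L_σ` is conjugate into `K`. -/
theorem exists_conj_mem_K (P : PPair M L A p x k K) {z : G} (hz : z ∈ L) {r : ℕ} (hr : r.Prime)
    (hzo : orderOf z = r) (hrσ : ¬ r ∣ Nat.card (sigmaCore L)) :
    ∃ m ∈ L, m⁻¹ * z * m ∈ K := by
  haveI := Fact.mk hr
  exact exists_conj_mem_of_not_dvd_relIndex (P.relIndex_K ▸ hrσ) hz
    (IsPGroup.of_card (n := 1) (by rw [Nat.card_zpowers, hzo, pow_one]))

/-- The fixed points of an element of `K` on the sigma core. -/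
theorem centralizer_K (P : PPair M L A p x k K) {z : G} (hz : z ∈ K) (hz1 : z ≠ 1) :
    sigmaCore L ⊓ Subgroup.centralizer ({z} : Set G) =
      sigmaCore L ⊓ Subgroup.centralizer (K : Set G) :=
  (S1430.result P.hG L P.hL K P.hKU.hall P.hKne).1 z hz hz1

/-- The fixed points of an element of prime order outside `L_σ` form a conjugate of `W`. -/
theorem fix_eq (P : PPair M L A p x k K) {z : G} (hz : z ∈ L) {r : ℕ} (hr : r.Prime)
    (hzo : orderOf z = r) (hrσ : ¬ r ∣ Nat.card (sigmaCore L)) :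
    ∃ m ∈ L, sigmaCore L ⊓ Subgroup.centralizer ({z} : Set G) =
      MulAut.conj m • (sigmaCore L ⊓ Subgroup.centralizer (K : Set G)) := by
  obtain ⟨m, hm, hmK⟩ := P.exists_conj_mem_K hz hr hzo hrσ
  refine ⟨m, hm, ?_⟩
  rw [← P.centralizer_K hmK (fun e => hr.ne_one (by
    have : z = 1 := by
      calc z = m * (m⁻¹ * z * m) * m⁻¹ := by group
        _ = 1 := by rw [e]; group
    rw [← hzo, this, orderOf_one]))]
  ext y
  rw [mem_conj_smul, Subgroup.mem_inf, Subgroup.mem_inf, Subgroup.mem_centralizer_singleton_iff,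
    Subgroup.mem_centralizer_singleton_iff]
  refine and_congr ⟨fun h => by simpa using conj_mem_sigmaCore (L.inv_mem hm) h,
    fun h => by simpa [mul_assoc] using conj_mem_sigmaCore hm h⟩ ⟨fun h => ?_, fun h => ?_⟩
  · calc m⁻¹ * y * m * (m⁻¹ * z * m) = m⁻¹ * (y * z) * m := by group
      _ = m⁻¹ * (z * y) * m := by rw [h]
      _ = _ := by group
  · calc y * z = m * (m⁻¹ * y * m * (m⁻¹ * z * m)) * m⁻¹ := by group
      _ = m * (m⁻¹ * z * m * (m⁻¹ * y * m)) * m⁻¹ := by rw [h]
      _ = _ := by group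

theorem card_fix (P : PPair M L A p x k K) {z : G} (hz : z ∈ L) {r : ℕ} (hr : r.Prime)
    (hzo : orderOf z = r) (hrσ : ¬ r ∣ Nat.card (sigmaCore L)) :
    Nat.card ↥(sigmaCore L ⊓ Subgroup.centralizer ({z} : Set G)) =
      Nat.card ↥(sigmaCore L ⊓ Subgroup.centralizer (K : Set G)) := by
  obtain ⟨m, -, e⟩ := P.fix_eq hz hr hzo hrσ
  rw [e]
  exact (Nat.card_congr (Subgroup.equivSMul (MulAut.conj m) _).toEquiv).symm

/-- The fixed points of such an element lie in every normal subgroup containing `W`. -/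
theorem fix_le (P : PPair M L A p x k K) {N : Subgroup G} (hN : L ≤ Subgroup.normalizer (N : Set G))
    (hW : sigmaCore L ⊓ Subgroup.centralizer (K : Set G) ≤ N) {z : G} (hz : z ∈ L) {r : ℕ} (hr : r.Prime)
    (hzo : orderOf z = r) (hrσ : ¬ r ∣ Nat.card (sigmaCore L)) :
    sigmaCore L ⊓ Subgroup.centralizer ({z} : Set G) ≤ N := by
  obtain ⟨m, hm, e⟩ := P.fix_eq hz hr hzo hrσ
  rw [e]
  intro y hy
  rw [mem_conj_smul] at hy
  simpa [mul_assoc] using (Subgroup.mem_normalizer_iff.1 (hN hm) _).1 (hW hy)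

/-- A prime element of `L` commuting with an element of order other than `|W|` lies in `L_σ`. -/
theorem mem_of_commute (P : PPair M L A p x k K) {z y : G} (hz : z ∈ L) {r : ℕ} (hr : r.Prime)
    (hzo : orderOf z = r) (hy : y ∈ sigmaCore L) {s : ℕ} (hs : s.Prime) (hyo : orderOf y = s)
    (hsW : s ≠ Nat.card ↥(sigmaCore L ⊓ Subgroup.centralizer (K : Set G))) (hzy : z * y = y * z) :
    r ∣ Nat.card (sigmaCore L) := by
  by_contra hrσ
  apply hsW
  refine (Nat.prime_dvd_prime_iff_eq hs P.card_W_prime).1 ?_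
  rw [← P.card_fix hz hr hzo hrσ, ← hyo]
  exact Subgroup.orderOf_dvd_natCard _ ⟨hy, Subgroup.mem_centralizer_singleton_iff.2 hzy.symm⟩

/-! ### Characters of the sigma core -/

section

variable [Fintype G]

/-- The setting for the Dade map. -/
theorem setup (P : PPair M L A p x k K) :
    haveI : ((sigmaCore L).subgroupOf L).Normal :=
      Subgroup.normal_subgroupOf_of_le_normalizer (le_normalizer_sigmaCore L)
    PFCoherentDade.Setup ((sigmaCore L : Set G) \ {1}) L (supportR L) ((sigmaCore L).subgroupOf L) :=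
  ⟨PF12Sets.dade_core P.hG P.hL, Subgroup.normal_subgroupOf_of_le_normalizer (le_normalizer_sigmaCore L),
    fun a => by
      rw [Subgroup.mem_subgroupOf]
      exact and_congr Iff.rfl ⟨fun h e => h (by rw [e]; rfl), fun h e => h (Subtype.ext e)⟩⟩

theorem index_eq (P : PPair M L A p x k K) : ((sigmaCore L).subgroupOf L).index = Nat.card K :=
  P.relIndex_core

theorem S1513_apply (P : PPair M L A p x k K) [((sigmaCore L).subgroupOf L).Normal] :
    (∀ θ : IrrCharacter ↥((sigmaCore L).subgroupOf L),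
      (∃ y ∈ K.subgroupOf L, (fun a : ↥((sigmaCore L).subgroupOf L) =>
        (θ : ↥((sigmaCore L).subgroupOf L) → ℂ)
          ⟨y * a * y⁻¹, Subgroup.Normal.conj_mem ‹_› (a : ↥L) a.2 y⟩) ≠ θ) →
      IsIrrCharacter ↥L (PF6.ind ((sigmaCore L).subgroupOf L) θ)) ∧
    Nat.card {θ : IrrCharacter ↥((sigmaCore L).subgroupOf L) // ∀ y ∈ K.subgroupOf L,
      (fun a : ↥((sigmaCore L).subgroupOf L) => (θ : ↥((sigmaCore L).subgroupOf L) → ℂ)
          ⟨y * a * y⁻¹, Subgroup.Normal.conj_mem ‹_› (a : ↥L) a.2 y⟩) = θ} =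
      Nat.card ↥(sigmaCore L ⊓ Subgroup.centralizer (K : Set G)) := by
  set Kl := (sigmaCore L).subgroupOf L with hKl
  set W₁ := K.subgroupOf L with hW₁
  set W := sigmaCore L ⊓ Subgroup.centralizer (K : Set G) with hW
  have hWL : W ≤ L := inf_le_left.trans (sigmaCore_le L)
  haveI : IsCyclic K := P.hKU.cyclic
  have hcW₁ : Nat.card W₁ = Nat.card K := Nat.card_congr (Subgroup.subgroupOfEquivOfLe P.K_le).toEquiv
  have hcW₂ : Nat.card (W.subgroupOf L) = Nat.card W := Nat.card_congr (Subgroup.subgroupOfEquivOfLe hWL).toEquiv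
  have hcompl := isComplement'_subgroupOf P.compl_K
  have h := S1513.result Kl W₁ (W.subgroupOf L) (disjoint_iff.1 hcompl.disjoint) hcompl.sup_eq_top
    (fun e => P.hKne (Subgroup.card_eq_one.1 (by rw [← hcW₁, e, Subgroup.card_bot])))
    (isCyclic_of_surjective _ (Subgroup.subgroupOfEquivOfLe P.K_le).symm.surjective)
    (by
      rw [hcW₁, show W₁.index = Nat.card (sigmaCore L) from P.relIndex_K]
      exact P.coprime_K)
    (fun e => P.card_W_prime.ne_one (by rw [← hW, ← hcW₂, e, Subgroup.card_bot]))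
    (by
      haveI := Fact.mk P.card_W_prime
      exact isCyclic_of_prime_card (hcW₂.trans rfl))
    (fun a ha => ha.1)
    (fun a ha ha1 => by
      have h1 := P.centralizer_K (z := (a : G)) ha (fun e => ha1 (Subtype.ext e))
      ext b
      rw [Subgroup.mem_inf, Subgroup.mem_subgroupOf, Subgroup.mem_subgroupOf, hW, ← h1, Subgroup.mem_inf,
        Subgroup.mem_centralizer_singleton_iff, Subgroup.mem_centralizer_singleton_iff]
      exact and_congr Iff.rfl ⟨fun e => congrArg Subtype.val e, fun e => Subtype.ext e⟩)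
    ((odd_card P.hG L).of_dvd_nat (Subgroup.card_subgroup_dvd_card _))
  exact ⟨fun θ hθ => h.1 θ θ.2 hθ, h.2.1.trans hcW₂⟩

/-- Linear characters of the sigma core induce irreducibly. -/
theorem irr_linear (P : PPair M L A p x k K) [((sigmaCore L).subgroupOf L).Normal]
    {θ : IrrCharacter ↥((sigmaCore L).subgroupOf L)}
    (hne : (θ : ↥((sigmaCore L).subgroupOf L) → ℂ) ≠ fun _ => 1)
    (h1 : Cfsg.charDegree (θ : ↥((sigmaCore L).subgroupOf L) → ℂ) = 1) :
    IsIrrCharacter ↥L (PF6.ind ((sigmaCore L).subgroupOf L) θ) := by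
  by_contra hirr
  refine hirr (P.S1513_apply.1 θ ?_)
  by_contra hfix
  push Not at hfix
  have hone : (θ : ↥((sigmaCore L).subgroupOf L) → ℂ) 1 = 1 := by
    rw [PF6.deg_spec (isCharacter_of_isIrrCharacter θ.2), h1, Nat.cast_one]
  obtain ⟨l, hl⟩ := CharBasicLinear.exists_hom_of_apply_one_eq_one (isCharacter_of_isIrrCharacter θ.2) hone
  let e : ↥(sigmaCore L) ≃* ↥((sigmaCore L).subgroupOf L) :=
    (Subgroup.subgroupOfEquivOfLe (sigmaCore_le L)).symm
  let f : ↥(sigmaCore L) →* ℂˣ := l.comp e.toMonoidHom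
  have hKn : K ≤ Subgroup.normalizer ((sigmaCore L : Subgroup G) : Set G) :=
    P.K_le.trans (le_normalizer_sigmaCore L)
  have hker : sigmaCore L ≤ f.ker.map (sigmaCore L).subtype := by
    conv_lhs => rw [← CoprimeAction.commutator_sup_centralizer_eq hKn P.coprime_K
      (Or.inl (haveI := P.hKU.cyclic; inferInstance))]
    refine sup_le ?_ (P.W_le_derived.trans ?_) <;> rw [Subgroup.commutator_le]
    · intro a ha b hb
      have hab : ⁅a, b⁆ ∈ sigmaCore L :=
        Subgroup.le_normalizer_iff_commutator_le_left.1 hKn (Subgroup.commutator_mem_commutator ha hb)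
      refine ⟨⟨_, hab⟩, ?_, rfl⟩
      set a' : ↥L := ⟨a, sigmaCore_le L ha⟩ with ha'
      set b' : ↥L := ⟨b, P.K_le hb⟩ with hb'
      have h2 := congrFun (hfix b' hb) ⟨a'⁻¹, (inv_mem ha : (a'⁻¹ : ↥L) ∈ (sigmaCore L).subgroupOf L)⟩
      simp only [hl] at h2
      have h3 := Units.val_injective h2
      rw [MonoidHom.coe_ker, Set.mem_preimage, Set.mem_singleton_iff]
      show l (e ⟨⁅a, b⁆, hab⟩) = 1
      have e1 : e ⟨⁅a, b⁆, hab⟩ = ⟨a', ha⟩ * ⟨b' * a'⁻¹ * b'⁻¹,
          Subgroup.Normal.conj_mem ‹_› a'⁻¹ (inv_mem ha) b'⟩ := by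
        refine Subtype.ext (Subtype.ext ?_)
        show ⁅a, b⁆ = a * (b * a⁻¹ * b⁻¹)
        rw [commutatorElement_def]
        group
      rw [e1, map_mul, h3, ← map_mul]
      convert map_one l
      exact Subtype.ext (mul_inv_cancel a')
    · intro a ha b hb
      refine ⟨⁅(⟨a, ha⟩ : ↥(sigmaCore L)), ⟨b, hb⟩⁆, ?_, map_commutatorElement (sigmaCore L).subtype _ _⟩
      rw [SetLike.mem_coe, MonoidHom.mem_ker, map_commutatorElement,
        commutatorElement_eq_one_iff_commute.2 (Commute.all _ _)]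
  refine hne (funext fun a => ?_)
  obtain ⟨b, hb, hba⟩ := hker (show ((a : ↥L) : G) ∈ sigmaCore L from a.2)
  rw [hl]
  show ((l a : ℂˣ) : ℂ) = 1
  have : e b = a := Subtype.ext (Subtype.ext hba)
  rw [← this]
  exact (congrArg Units.val (hb : f b = 1)).trans Units.val_one

/-- Few non-trivial characters of the sigma core are fixed by `K`. -/
theorem bad_card (P : PPair M L A p x k K) [((sigmaCore L).subgroupOf L).Normal] (R : Subgroup ↥L) :
    (PF6.aboveFin ((sigmaCore L).subgroupOf L) R \ PF12Family.tset ((sigmaCore L).subgroupOf L) R).card ≤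
      Nat.card ↥(sigmaCore L ⊓ Subgroup.centralizer (K : Set G)) - 1 := by
  set Kl := (sigmaCore L).subgroupOf L with hKl
  obtain ⟨h1, h2⟩ := P.S1513_apply
  rw [← h2, Nat.card_eq_fintype_card, Fintype.card_subtype]
  set F := Finset.univ.filter fun θ : IrrCharacter ↥Kl => ∀ y ∈ K.subgroupOf L,
      (fun a : ↥Kl => (θ : ↥Kl → ℂ) ⟨y * a * y⁻¹, Subgroup.Normal.conj_mem ‹_› (a : ↥L) a.2 y⟩) = θ
    with hF
  have htriv : trivIrr ↥Kl ∈ F := by
    rw [hF, Finset.mem_filter]
    exact ⟨Finset.mem_univ _, fun y _ => rfl⟩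
  rw [← Finset.card_erase_of_mem htriv]
  refine Finset.card_le_card fun θ hθ => ?_
  obtain ⟨hA, hT⟩ := Finset.mem_sdiff.1 hθ
  refine Finset.mem_erase.2 ⟨fun e => (PF6.mem_aboveFin.1 hA).1 (by rw [e]; rfl), ?_⟩
  rw [hF, Finset.mem_filter]
  refine ⟨Finset.mem_univ _, ?_⟩
  by_contra hn
  push Not at hn
  exact hT (PF12Family.mem_tset.2 ⟨hA, h1 θ hn⟩)

/-- A proper subgroup gives a linear character above it. -/
theorem exists_linear (P : PPair M L A p x k K) [((sigmaCore L).subgroupOf L).Normal] {R : Subgroup ↥L}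
    [R.Normal] (hR : R < (sigmaCore L).subgroupOf L) :
    ∃ θ ∈ PF6.aboveFin ((sigmaCore L).subgroupOf L) R,
      Cfsg.charDegree (θ : ↥((sigmaCore L).subgroupOf L) → ℂ) = 1 := by
  haveI : Group.IsSolvable L := BGUnique.isSolvable_of_ne_top P.hG P.hL.1
  exact PF6.exists_linear _ inferInstance hR

end

end PPair

end Cfsg.Agent.PF12TypeP
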