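import Mathlib
import Cfsg.Agent.Lib.PF12TypeP43
import Cfsg.Agent.Lib.BGTauBasic62
import Cfsg.Agent.Lib.BGThreeSixRed
import Cfsg.Agent.Lib.CoprimeExtra
import Cfsg.Agent.Lib.CoprimeGen
import Cfsg.Agent.Lib.BGSigmaRank
import Cfsg.Agent.S1357
import Cfsg.Agent.S1420
import Cfsg.Agent.S1437

/-!
Peterfalvi, Section 12: local data when the second maximal subgroup has a sigma core which is not
nilpotent: a normal Sylow subgroup `Q`, a nilpotent complement `D` containing `A` and normalised by an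
element `z` acting without fixed points on it.
-/

set_option autoImplicit false
set_option linter.unusedSectionVars false
set_option linter.style.haveILetI false

open scoped Pointwise commutatorElement

namespace Cfsg.Agent.PF12CaseIII

open Cfsg Cfsg.Agent.BGTypeBasic Cfsg.Agent.BGTypeSetup Cfsg.Agent.PF12TypeP

universe u

variable {G : Type u} [Group G] [Finite G]

theorem le_fittingOf_of_normal {H N : Subgroup G} (hN : N ≤ H) (hn : H ≤ Subgroup.normalizer (N : Set G))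
    (hnil : Group.IsNilpotent N) : N ≤ fittingOf H := by
  intro x hx
  refine ⟨⟨x, hN hx⟩, ?_, rfl⟩
  have hle : N.subgroupOf H ≤ fittingSubgroup ↥H := le_sSup
    ⟨(Subgroup.normal_subgroupOf_iff_le_normalizer hN).2 hn, by
      haveI := hnil
      exact Group.nilpotent_of_mulEquiv (Subgroup.subgroupOfEquivOfLe hN).symm⟩
  exact hle hx

theorem normalizer_le_normalizer_centralizer (H : Subgroup G) :
    Subgroup.normalizer (H : Set G) ≤ Subgroup.normalizer ((Subgroup.centralizer (H : Set G) : Subgroup G) : Set G) := by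
  refine CoprimeAction.le_normalizer_of_conj_mem fun a ha c hc => Subgroup.mem_centralizer_iff.2 fun v hv => ?_
  have h1 : a⁻¹ * v * a ∈ H := CoprimeAction.conj_mem' ha hv
  have h2 := Subgroup.mem_centralizer_iff.1 hc _ h1
  calc v * (a * c * a⁻¹) = a * (a⁻¹ * v * a * c) * a⁻¹ := by group
    _ = a * (c * (a⁻¹ * v * a)) * a⁻¹ := by rw [h2]
    _ = a * c * a⁻¹ * v := by group

/-- A coprime splitting of an element into its `p`-part and its `p'`-part. -/
theorem exists_split {p : ℕ} (hp : p.Prime) (y : G) :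
    ∃ s t : G, s ∈ Subgroup.zpowers y ∧ t ∈ Subgroup.zpowers y ∧ (∃ n : ℕ, s ^ p ^ n = 1) ∧
      (orderOf t).Coprime p ∧ y = s * t := by
  have h0 := (orderOf_pos y).ne'
  set m := orderOf y / p ^ (orderOf y).factorization p with hm
  set a := p ^ (orderOf y).factorization p with ha
  have hmul : a * m = orderOf y := Nat.ordProj_mul_ordCompl_eq_self _ _
  have hmp : Nat.Coprime p m := Nat.coprime_ordCompl hp h0
  have hcop : Nat.Coprime m a := (hmp.pow_left _).symm
  have hbez := Nat.gcd_eq_gcd_ab m a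
  rw [hcop.gcd_eq_one] at hbez
  refine ⟨(y ^ m) ^ Nat.gcdA m a, (y ^ a) ^ Nat.gcdB m a, ?_, ?_, ⟨(orderOf y).factorization p, ?_⟩, ?_, ?_⟩
  · exact Subgroup.zpow_mem _ (Subgroup.pow_mem _ (Subgroup.mem_zpowers y) _) _
  · exact Subgroup.zpow_mem _ (Subgroup.pow_mem _ (Subgroup.mem_zpowers y) _) _
  · rw [← ha, ← zpow_natCast, ← zpow_mul, mul_comm, zpow_mul, zpow_natCast, ← pow_mul, mul_comm m a, hmul,
      pow_orderOf_eq_one, one_zpow]
  · refine hmp.symm.coprime_dvd_left (orderOf_dvd_of_pow_eq_one ?_)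
    rw [← zpow_natCast, ← zpow_mul, mul_comm, zpow_mul, zpow_natCast, ← pow_mul, hmul, pow_orderOf_eq_one,
      one_zpow]
  · rw [← zpow_natCast y m, ← zpow_natCast y a, ← zpow_mul, ← zpow_mul, ← zpow_add, ← hbez]
    simp

/-- The local data. -/
structure Data (M L A : Subgroup G) (p : ℕ) (x k : G) (K Q D S : Subgroup G) (z : G) : Prop
    extends PPair M L A p x k K where
  qprime : (Nat.card K).Prime
  xF : x ∉ fittingOf L
  pw : p ≠ Nat.card ↥(sigmaCore L ⊓ Subgroup.centralizer (K : Set G))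
  wβ : Nat.card ↥(sigmaCore L ⊓ Subgroup.centralizer (K : Set G)) ∈ beta L
  Qσ : Q ≤ sigmaCore L
  Qn : L ≤ Subgroup.normalizer (Q : Set G)
  Qp : IsPGroup (Nat.card ↥(sigmaCore L ⊓ Subgroup.centralizer (K : Set G))) Q
  QHall : ¬ Nat.card ↥(sigmaCore L ⊓ Subgroup.centralizer (K : Set G)) ∣ Q.relIndex (sigmaCore L)
  QD : IsComplIn Q D (sigmaCore L)
  AD : A ≤ D
  Dnil : Group.IsNilpotent D
  Q0n : L ≤ Subgroup.normalizer ((Q ⊓ Subgroup.centralizer (D : Set G) : Subgroup G) : Set G)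
  Q0lt : Q ⊓ Subgroup.centralizer (D : Set G) < Q
  cardQ : Nat.card Q = Nat.card ↥(Q ⊓ Subgroup.centralizer (D : Set G)) *
    Nat.card ↥(sigmaCore L ⊓ Subgroup.centralizer (K : Set G)) ^ Nat.card K
  powQ : ∀ a ∈ Q, a ^ Nat.card ↥(sigmaCore L ⊓ Subgroup.centralizer (K : Set G)) ∈
    Q ⊓ Subgroup.centralizer (D : Set G)
  commQ : ∀ a ∈ Q, ∀ b ∈ Q, a * b * a⁻¹ * b⁻¹ ∈ Q ⊓ Subgroup.centralizer (D : Set G)
  minimal : ∀ N : Subgroup G, Q ⊓ Subgroup.centralizer (D : Set G) < N → N < Q →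
    ¬ L ≤ Subgroup.normalizer (N : Set G)
  SD : S ≤ D
  Sp : IsPGroup p S
  DS : D ≤ Subgroup.normalizer (S : Set G)
  memS : ∀ y ∈ D, ∀ n : ℕ, y ^ p ^ n = 1 → y ∈ S
  zL : z ∈ L
  zo : orderOf z = Nat.card K
  zD : z ∈ Subgroup.normalizer (D : Set G)

theorem exists_data {M L A K : Subgroup G} {p : ℕ} {x k : G} (P : PPair M L A p x k K)
    (hne : fittingHallOf L ≠ sigmaCore L) :
    ∃ (Q D S : Subgroup G) (z : G), Data M L A p x k K Q D S z := by
  obtain ⟨-, -, hqp, hwp, -, hwβ, Q, hQF, hQn, hQp, hQi, hall⟩ := S1437.result P.hG L P.hL K ⊥ P.hKU hne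
  have hTI := (S1357.result P.hG L P.hL K ⊥ P.hKU hne).2.1
  set σL := sigmaCore L with hσL
  set w := Nat.card ↥(σL ⊓ Subgroup.centralizer (K : Set G)) with hw
  haveI := Fact.mk P.hp
  haveI := Fact.mk hwp
  have hσle : σL ≤ L := sigmaCore_le L
  have hxF : x ∉ fittingOf L := by
    intro hxF
    apply P.esc
    have hN : Subgroup.normalizer ((fittingOf L : Subgroup G) : Set G) = L :=
      normalizer_eq_of_normal P.hG P.hL
        (fun e => P.x_ne (by rw [e, Subgroup.mem_bot] at hxF; exact hxF)) (Subgroup.map_subtype_le _)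
        (by
          haveI : ((fittingSubgroup ↥L).map L.subtype).subgroupOf L |>.Normal := by
            rw [Subgroup.subgroupOf, Subgroup.comap_map_eq_self_of_injective L.subtype_injective]
            infer_instance
          exact (Subgroup.normal_subgroupOf_iff_le_normalizer (Subgroup.map_subtype_le _)).1 this)
    intro c hc
    rw [← hN]
    by_contra hcn
    refine P.x_ne (hTI c hcn x hxF ?_)
    rwa [Subgroup.mem_centralizer_singleton_iff.1 hc, mul_inv_cancel_right]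
  have hwσ : w ∈ sigma L := mem_sigma_of_dvd P.hG P.hL hwp (Subgroup.card_dvd_of_le inf_le_left)
  have hQL : Q ≤ L := hQF.trans (FittingHallBasic.fittingHallOf_le L)
  have hQσ : Q ≤ σL := by
    intro a ha
    refine sigma_element_mem P.hG P.hL (hQL ha) fun r hr hd => ?_
    obtain ⟨i, hi⟩ := IsPGroup.iff_card.1 hQp
    have : r ∣ w ^ i := hi ▸ hd.trans (Subgroup.orderOf_dvd_natCard _ ha)
    exact (Nat.prime_dvd_prime_iff_eq hr hwp).1 (hr.dvd_of_dvd_pow this) ▸ hwσ
  have hQnσ : σL ≤ Subgroup.normalizer (Q : Set G) := hσle.trans hQn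
  have hpw : p ≠ w := by
    intro e
    refine hxF (FittingHallBasic.fittingHallOf_le_fittingOf L (hQF (mem_of_orderOf_coprime_relIndex hQnσ P.xL ?_)))
    rw [P.x_order, e]
    exact (Nat.Prime.coprime_iff_not_dvd hwp).2 hQi
  haveI : (Q.subgroupOf σL).Normal := (Subgroup.normal_subgroupOf_iff_le_normalizer hQσ).2 hQnσ
  have hcopQ : (Nat.card Q).Coprime (Q.relIndex σL) := by
    obtain ⟨i, hi⟩ := IsPGroup.iff_card.1 hQp
    rw [hi]
    exact ((Nat.Prime.coprime_iff_not_dvd hwp).2 hQi).pow_left _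
  obtain ⟨D₁, hD₁⟩ := Subgroup.exists_right_complement'_of_coprime (N := Q.subgroupOf σL)
    (by rwa [Nat.card_congr (Subgroup.subgroupOfEquivOfLe hQσ).toEquiv])
  set D₀ := D₁.map σL.subtype with hD₀
  have hD₀c : Nat.card D₀ = Q.relIndex σL := by
    rw [hD₀, Subgroup.card_map_of_injective σL.subtype_injective]
    exact hD₁.symm.index_eq_card.symm
  have hc₀ : IsComplIn Q D₀ σL := isComplIn_of_card hQσ (Subgroup.map_subtype_le _) (hD₀c ▸ hcopQ) (by
    rw [hD₀c, mul_comm, ← Subgroup.relIndex_bot_left (H := Q), mul_comm,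
      Subgroup.relIndex_mul_relIndex _ _ _ bot_le hQσ, Subgroup.relIndex_bot_left])
  -- a complement containing `A`
  have hAQ : (Nat.card A).Coprime (Nat.card Q) := by
    obtain ⟨i, hi⟩ := IsPGroup.iff_card.1 hQp
    rw [P.hAc, hi]
    exact ((Nat.coprime_primes P.hp hwp).2 hpw).pow _ _
  haveI : Group.IsSolvable L := BGUnique.isSolvable_of_ne_top P.hG P.hL.1
  have hsolQ : Group.IsSolvable Q := CoprimeAction.isSolvable_of_le hQL
  obtain ⟨n, hn, hAn⟩ := CoprimeExtra.exists_le_conj_of_le_sup (hc₀.2.1.trans hQnσ)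
    (by rw [sup_eq_of_isComplIn hc₀]; exact P.AS) (hD₀c ▸ hcopQ.symm) hAQ (Or.inr hsolQ)
  set D := MulAut.conj n • D₀ with hD
  have hc : IsComplIn Q D σL := by
    have := isComplIn_conj hc₀ n
    rwa [conj_smul_le_self hn, conj_smul_le_self (hQσ hn), ← hD] at this
  have hcopD : (Nat.card Q).Coprime (Nat.card D) := by
    rw [← (relIndex_of_isComplIn hc).1]; exact hcopQ
  obtain ⟨hDnil, hQ0n, hQ0lt, hcQ, hpc, hmin⟩ := hall D hc
  -- an element of order `|K|` normalising `D`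
  obtain ⟨k₀, hk₀, hk₀1⟩ := (Subgroup.ne_bot_iff_exists_ne_one.1 P.hKne)
    |> fun ⟨a, ha⟩ => (⟨(a : G), a.2, fun e => ha (Subtype.ext e)⟩ : ∃ k₀ ∈ K, k₀ ≠ 1)
  have hc' : IsComplIn Q (MulAut.conj k₀ • D) σL := by
    have := isComplIn_conj hc k₀
    rwa [CoprimeSZ.conj_smul_eq_self (hQn (P.K_le hk₀)), CoprimeSZ.conj_smul_eq_self (le_normalizer_sigmaCore L (P.K_le hk₀))]
      at this
  obtain ⟨m, hm, hmD⟩ := isComplIn_conjugate hQnσ hcopD (Or.inr hsolQ) hc hc'
  set y := m⁻¹ * k₀ with hy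
  have hyD : y ∈ Subgroup.normalizer (D : Set G) := by
    refine CoprimeAction.mem_normalizer_of_conj_smul_eq ?_
    rw [hy, map_mul, mul_smul, ← hmD, map_inv, inv_smul_smul]
  have hyL : y ∈ L := L.mul_mem (L.inv_mem (hQL hm)) (P.K_le hk₀)
  have hyσ : y ∉ σL := fun h => by
    have hk₀σ : k₀ ∈ K ⊓ σL := ⟨hk₀, by simpa [hy] using σL.mul_mem (hQσ hm) h⟩
    rw [Subgroup.inf_eq_bot_of_coprime P.coprime_K, Subgroup.mem_bot] at hk₀σ
    exact hk₀1 hk₀σ
  have hqd : Nat.card K ∣ orderOf y := by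
    by_contra h
    refine hyσ (mem_of_orderOf_coprime_relIndex (le_normalizer_sigmaCore L) hyL ?_)
    rw [P.relIndex_core]
    exact ((Nat.Prime.coprime_iff_not_dvd hqp).2 h).symm
  -- the Sylow `p`-subgroup of `D`
  let S₁ : Sylow p ↥D := Classical.arbitrary _
  haveI := hDnil
  haveI hS₁n : (S₁ : Subgroup ↥D).Normal :=
    Sylow.normal_of_normalizerCondition Group.normalizerCondition_of_isNilpotent S₁
  set S := (S₁ : Subgroup ↥D).map D.subtype with hS
  have hSsub : S.subgroupOf D = S₁ := by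
    rw [hS, Subgroup.subgroupOf, Subgroup.comap_map_eq_self_of_injective D.subtype_injective]
  have hDS : D ≤ Subgroup.normalizer (S : Set G) :=
    (Subgroup.normal_subgroupOf_iff_le_normalizer (Subgroup.map_subtype_le _)).1 (by rw [hSsub]; exact hS₁n)
  refine ⟨Q, D, S, y ^ (orderOf y / Nat.card K),
    { toPPair := P, qprime := hqp, xF := hxF, pw := hpw, wβ := hwβ, Qσ := hQσ, Qn := hQn, Qp := hQp,
      QHall := hQi, QD := hc, AD := hAn, Dnil := hDnil, Q0n := hQ0n, Q0lt := hQ0lt, cardQ := hcQ,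
      powQ := fun a ha => (hpc a ha a ha).1, commQ := fun a ha b hb => (hpc a ha b hb).2, minimal := hmin,
      SD := Subgroup.map_subtype_le _, Sp := S₁.isPGroup'.map _, DS := hDS,
      memS := fun a ha i hai => mem_of_orderOf_coprime_relIndex hDS ha ?_,
      zL := L.pow_mem hyL _, zo := orderOf_pow_orderOf_div (orderOf_pos y).ne' hqd,
      zD := Subgroup.pow_mem _ hyD _ }⟩
  refine Nat.Coprime.coprime_dvd_left (orderOf_dvd_of_pow_eq_one hai)
    (((Nat.Prime.coprime_iff_not_dvd P.hp).2 ?_).pow_left _)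
  rw [Subgroup.relIndex, hSsub]
  exact S₁.not_dvd_index

namespace Data

variable {M L A K Q D S : Subgroup G} {p : ℕ} {x k z : G}

theorem wprime (h : Data M L A p x k K Q D S z) :
    (Nat.card ↥(sigmaCore L ⊓ Subgroup.centralizer (K : Set G))).Prime := h.toPPair.card_W_prime

theorem Dσ (h : Data M L A p x k K Q D S z) : D ≤ sigmaCore L := h.QD.2.1

theorem DL (h : Data M L A p x k K Q D S z) : D ≤ L := h.Dσ.trans (sigmaCore_le L)

theorem QL (h : Data M L A p x k K Q D S z) : Q ≤ L := h.Qσ.trans (sigmaCore_le L)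

theorem coprime_QD (h : Data M L A p x k K Q D S z) : (Nat.card Q).Coprime (Nat.card D) := by
  obtain ⟨i, hi⟩ := (haveI := Fact.mk h.wprime; IsPGroup.iff_card).1 h.Qp
  rw [hi, ← (relIndex_of_isComplIn h.QD).1]
  exact ((Nat.Prime.coprime_iff_not_dvd h.wprime).2 h.QHall).pow_left _

theorem q_not_dvd (h : Data M L A p x k K Q D S z) : ¬ Nat.card K ∣ Nat.card (sigmaCore L) := fun hd =>
  h.qprime.ne_one (Nat.eq_one_of_dvd_coprimes h.toPPair.coprime_K dvd_rfl hd)

theorem z_not (h : Data M L A p x k K Q D S z) : z ∉ sigmaCore L := fun hz =>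
  h.q_not_dvd (h.zo ▸ Subgroup.orderOf_dvd_natCard _ hz)

theorem W_le_Q (h : Data M L A p x k K Q D S z) :
    sigmaCore L ⊓ Subgroup.centralizer (K : Set G) ≤ Q :=
  le_of_card_coprime_relIndex ((sigmaCore_le L).trans h.Qn) inf_le_left
    ((Nat.Prime.coprime_iff_not_dvd h.wprime).2 h.QHall)

/-- `z` has no fixed points on `D`. -/
theorem fix_D (h : Data M L A p x k K Q D S z) {y : G} (hy : y ∈ D) (hc : y * z = z * y) : y = 1 := by
  have h1 : y ∈ Q ⊓ D := ⟨h.toPPair.fix_le h.Qn h.W_le_Q h.zL h.qprime h.zo h.q_not_dvd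
    ⟨h.Dσ hy, Subgroup.mem_centralizer_singleton_iff.2 hc⟩, hy⟩
  rwa [h.QD.2.2.1, Subgroup.mem_bot] at h1

theorem E_compl (h : Data M L A p x k K Q D S z) : IsComplIn (M ⊓ L) (sigmaCore M) M := h.compl

theorem E_comm (h : Data M L A p x k K Q D S z) {N : Subgroup G} (hN : N ≤ M ⊓ L)
    (hnil : Group.IsNilpotent N) : IsMulCommutative N :=
  (S1420.result h.hG M h.hM (M ⊓ L) h.compl).1 N (hN.trans inf_le_left) hnil fun r hr hd =>
    h.toPPair.not_mem_sigma hr (hd.trans (Subgroup.card_dvd_of_le (hN.trans inf_le_right)))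

theorem CA_le (h : Data M L A p x k K Q D S z) : Subgroup.centralizer (A : Set G) ≤ M ⊓ L :=
  (PF12Base.Pair.structure18 h.toPair).2.2

theorem AS' (h : Data M L A p x k K Q D S z) : A ≤ S := fun a ha =>
  h.memS a (h.AD ha) 1 (by rw [pow_one]; exact h.hA.2 a ha)

theorem commute_coprime (h : Data M L A p x k K Q D S z) {a b : G} (ha : a ∈ D) (hb : b ∈ D)
    (hc : (orderOf a).Coprime (orderOf b)) : a * b = b * a := by
  haveI := h.Dnil
  exact congrArg Subtype.val (FittingHallBasic.commute_of_coprime_orderOf (a := (⟨a, ha⟩ : D)) (b := ⟨b, hb⟩)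
    (by rwa [Subgroup.orderOf_mk, Subgroup.orderOf_mk])).eq

theorem commute_S (h : Data M L A p x k K Q D S z) {t s : G} (ht : t ∈ D) (htp : (orderOf t).Coprime p)
    (hs : s ∈ S) : t * s = s * t := by
  obtain ⟨n, hn⟩ := h.Sp ⟨s, hs⟩
  refine h.commute_coprime ht (h.SD hs) ((htp.pow_right n).coprime_dvd_right (orderOf_dvd_of_pow_eq_one ?_))
  exact congrArg Subtype.val hn

/-- Elements of `D` of order prime to `p` are central in `D`. -/
theorem central (h : Data M L A p x k K Q D S z) {t : G} (ht : t ∈ D) (htp : (orderOf t).Coprime p)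
    {y : G} (hy : y ∈ D) : t * y = y * t := by
  obtain ⟨s, t', hs, ht', ⟨n, hn⟩, ht'p, rfl⟩ := exists_split h.hp y
  have hsD : s ∈ D := Subgroup.zpowers_le.2 hy hs
  have ht'D : t' ∈ D := Subgroup.zpowers_le.2 hy ht'
  have hsS := h.memS s hsD n hn
  have hN : IsMulCommutative ↥(D ⊓ Subgroup.centralizer (A : Set G)) :=
    h.E_comm (inf_le_right.trans h.CA_le) (ComponentsCores.nilpotent_of_le inf_le_left h.Dnil)
  have hmem : ∀ v ∈ D, (orderOf v).Coprime p → v ∈ D ⊓ Subgroup.centralizer (A : Set G) := fun v hv hvp =>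
    ⟨hv, Subgroup.mem_centralizer_iff.2 fun a ha => (h.commute_S hv hvp (h.AS' ha)).symm⟩
  have h1 : t * t' = t' * t := congrArg Subtype.val
    (hN.is_comm.comm ⟨t, hmem t ht htp⟩ ⟨t', hmem t' ht'D ht'p⟩)
  rw [← mul_assoc, h.commute_S ht htp hsS, mul_assoc, h1, mul_assoc]

theorem exists_decomp_D (h : Data M L A p x k K Q D S z) {y : G} (hy : y ∈ D) :
    ∃ s ∈ S, ∃ t ∈ D, (orderOf t).Coprime p ∧ y = s * t := by
  obtain ⟨s, t, hs, ht, ⟨n, hn⟩, htp, rfl⟩ := exists_split h.hp y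
  exact ⟨s, h.memS s (Subgroup.zpowers_le.2 hy hs) n hn, t, Subgroup.zpowers_le.2 hy ht, htp, rfl⟩

theorem zS (h : Data M L A p x k K Q D S z) : z ∈ Subgroup.normalizer (S : Set G) := by
  refine CoprimeAction.le_normalizer_of_conj_mem (A := Subgroup.zpowers z) ?_ (Subgroup.mem_zpowers z)
  intro a ha b hb
  obtain ⟨n, hn⟩ := h.Sp ⟨b, hb⟩
  refine h.memS _ ((Subgroup.mem_normalizer_iff.1 (Subgroup.zpowers_le.2 h.zD ha) b).1 (h.SD hb)) n ?_
  rw [conj_pow, show b ^ p ^ n = 1 from congrArg Subtype.val hn]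
  group

/-- A subgroup normalised by `Q`, `D` and `z` is normalised by `L`. -/
theorem invariant (h : Data M L A p x k K Q D S z) {X : Subgroup G}
    (hQ : Q ≤ Subgroup.normalizer (X : Set G)) (hD : D ≤ Subgroup.normalizer (X : Set G))
    (hz : z ∈ Subgroup.normalizer (X : Set G)) : L ≤ Subgroup.normalizer (X : Set G) := by
  set J := sigmaCore L ⊔ Subgroup.zpowers z with hJ
  have hJL : J ≤ L := sup_le (sigmaCore_le L) (Subgroup.zpowers_le.2 h.zL)
  have hprod : (sigmaCore L).relIndex J * J.relIndex L = Nat.card K := by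
    rw [Subgroup.relIndex_mul_relIndex _ _ _ le_sup_left hJL, h.toPPair.relIndex_core]
  rcases (Nat.dvd_prime h.qprime).1 (Dvd.intro_left _ hprod) with e | e
  · refine le_trans (Subgroup.relIndex_eq_one.1 e) (sup_le ?_ (Subgroup.zpowers_le.2 hz))
    rw [← sup_eq_of_isComplIn h.QD]
    exact sup_le hQ hD
  · exfalso
    rw [e] at hprod
    have h1 : (sigmaCore L).relIndex J = 1 :=
      Nat.eq_of_mul_eq_mul_right h.qprime.pos (hprod.trans (one_mul _).symm)
    exact h.z_not ((Subgroup.relIndex_eq_one.1 h1) (Subgroup.mem_sup_right (Subgroup.mem_zpowers z)))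

theorem Q0_le_E (h : Data M L A p x k K Q D S z) : Q ⊓ Subgroup.centralizer (D : Set G) ≤ M ⊓ L :=
  (inf_le_right.trans (Subgroup.centralizer_le h.AD)).trans h.CA_le

/-- `w` is outside `σ(M)` and `M` has `w`-rank one. -/
theorem cyclic_w (h : Data M L A p x k K Q D S z) {X : Subgroup G} (hX : X ≤ Q) (hXM : X ≤ M)
    (hX1 : X ≠ ⊥) : IsCyclic X := by
  set w := Nat.card ↥(sigmaCore L ⊓ Subgroup.centralizer (K : Set G)) with hw
  haveI := Fact.mk h.wprime
  have hσ : w ∉ sigma M := h.toPPair.not_mem_sigma h.wprime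
    (Subgroup.card_dvd_of_le (inf_le_left.trans (sigmaCore_le L)))
  have hr : PRankLE w 1 M := by
    by_contra hr
    exact BGSigma.not_ideal h.hG h.hM hσ hr h.wβ.2
  exact BGTau62.isCyclic_of_pRankLE_one h.hG hr (h.Qp.to_le hX) hXM

theorem Q0_central (h : Data M L A p x k K Q D S z) {a y : G}
    (ha : a ∈ Q ⊓ Subgroup.centralizer (D : Set G)) (hy : y ∈ sigmaCore L) : a * y = y * a := by
  rcases eq_or_ne (Q ⊓ Subgroup.centralizer (D : Set G)) ⊥ with e | e
  · rw [e, Subgroup.mem_bot] at ha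
    rw [ha, one_mul, mul_one]
  have h1 := BGThreeSixRed.commutator_le_centralizer_of_cyclic
    (h.cyclic_w inf_le_left (h.Q0_le_E.trans inf_le_left) e) h.Q0n h.Q0n
  rw [h.toPPair.derived_eq] at h1
  exact Subgroup.mem_centralizer_iff.1 (h1 hy) a ha

theorem eq_or_eq (h : Data M L A p x k K Q D S z) {X : Subgroup G}
    (h0 : Q ⊓ Subgroup.centralizer (D : Set G) ≤ X) (hX : X ≤ Q) (hn : L ≤ Subgroup.normalizer (X : Set G)) :
    X = Q ⊓ Subgroup.centralizer (D : Set G) ∨ X = Q := by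
  rcases h0.eq_or_lt with e | e
  · exact Or.inl e.symm
  rcases hX.eq_or_lt with e' | e'
  · exact Or.inr e'
  · exact absurd hn (h.minimal X e e')

/-- `Q` is abelian. -/
theorem Q_comm (h : Data M L A p x k K Q D S z) {a b : G} (ha : a ∈ Q) (hb : b ∈ Q) : a * b = b * a := by
  set w := Nat.card ↥(sigmaCore L ⊓ Subgroup.centralizer (K : Set G)) with hw
  haveI := Fact.mk h.wprime
  by_contra hab
  have hQ0 : ∀ c ∈ Q ⊓ Subgroup.centralizer (D : Set G), ∀ d ∈ Q, c * d = d * c :=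
    fun c hc d hd => h.Q0_central hc (h.Qσ hd)
  set Z := Q ⊓ Subgroup.centralizer (Q : Set G) with hZ
  have hZn : L ≤ Subgroup.normalizer (Z : Set G) :=
    CoprimeAction.le_normalizer_inf h.Qn
      (h.Qn.trans (normalizer_le_normalizer_centralizer Q))
  have hZ0 : Z = Q ⊓ Subgroup.centralizer (D : Set G) := by
    refine (h.eq_or_eq (fun c hc => show c ∈ Q ⊓ Subgroup.centralizer (Q : Set G) from ⟨hc.1, Subgroup.mem_centralizer_iff.2 fun d hd => (hQ0 c hc d hd).symm⟩)
      inf_le_left hZn).resolve_right fun e => hab ?_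
    have : b ∈ Subgroup.centralizer (Q : Set G) := (e.ge hb).2
    exact Subgroup.mem_centralizer_iff.1 this a ha
  set c := ⁅a, b⁆ with hc
  have hcomm : ∀ u ∈ Q, ∀ v ∈ Q, ⁅u, v⁆ ∈ Q ⊓ Subgroup.centralizer (D : Set G) := fun u hu v hv => by
    rw [commutatorElement_def]; exact h.commQ u hu v hv
  have hpow : ∀ u ∈ Q, ∀ v ∈ Q, ⁅u, v⁆ ^ w = 1 := by
    intro u hu v hv
    have hC : ∀ d ∈ Q, ⁅u, v⁆ * d = d * ⁅u, v⁆ := hQ0 _ (hcomm u hu v hv)
    have e : ∀ i : ℕ, u ^ i * v * (u ^ i)⁻¹ = ⁅u, v⁆ ^ i * v := by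
      intro i
      induction i with
      | zero => simp
      | succ i ih =>
        have h1 : u * (⁅u, v⁆ ^ i * v) * u⁻¹ = ⁅u, v⁆ ^ i * (u * v * u⁻¹) := by
          have : Commute u (⁅u, v⁆ ^ i) := (Commute.pow_left (hC u hu) i).symm
          rw [← mul_assoc, this.eq]
          group
        calc u ^ (i + 1) * v * (u ^ (i + 1))⁻¹ = u * (u ^ i * v * (u ^ i)⁻¹) * u⁻¹ := by
              rw [pow_succ']; group
          _ = _ := by rw [ih, h1, pow_succ, commutatorElement_def]; group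
    have h2 := hQ0 _ (h.powQ u hu) v hv
    have h3 := e w
    rw [h2, mul_inv_cancel_right] at h3
    exact mul_right_cancel (b := v) (by rw [one_mul]; exact h3.symm)
  have hc1 : c ≠ 1 := fun e => hab (commutatorElement_eq_one_iff_mul_comm.1 e)
  have hcQ0 := hcomm a ha b hb
  have hco : orderOf c = w := orderOf_eq_prime (hpow a ha b hb) hc1
  haveI := h.cyclic_w (inf_le_left : Q ⊓ Subgroup.centralizer (D : Set G) ≤ Q) (h.Q0_le_E.trans inf_le_left)
    (fun e => hc1 (by rw [e, Subgroup.mem_bot] at hcQ0; exact hcQ0))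
  have hall : ∀ u ∈ Q, ∀ v ∈ Q, ⁅u, v⁆ ∈ Subgroup.zpowers c := by
    intro u hu v hv
    classical
    haveI := Fintype.ofFinite ↥(Q ⊓ Subgroup.centralizer (D : Set G))
    set c' : ↥(Q ⊓ Subgroup.centralizer (D : Set G)) := ⟨c, hcQ0⟩ with hc'
    set d' : ↥(Q ⊓ Subgroup.centralizer (D : Set G)) := ⟨⁅u, v⁆, hcomm u hu v hv⟩ with hd'
    have hle := IsCyclic.card_pow_eq_one_le (α := ↥(Q ⊓ Subgroup.centralizer (D : Set G))) h.wprime.pos
    have hsub : (Finset.univ.filter fun g : ↥(Q ⊓ Subgroup.centralizer (D : Set G)) => g ∈ Subgroup.zpowers c') ⊆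
        Finset.univ.filter fun g => g ^ w = 1 := by
      intro g hg
      obtain ⟨i, rfl⟩ := Subgroup.mem_zpowers_iff.1 (Finset.mem_filter.1 hg).2
      refine Finset.mem_filter.2 ⟨Finset.mem_univ _, ?_⟩
      rw [← zpow_natCast, ← zpow_mul, mul_comm, zpow_mul, zpow_natCast,
        show c' ^ w = 1 from Subtype.ext (hpow a ha b hb), one_zpow]
    have hcard : (Finset.univ.filter fun g : ↥(Q ⊓ Subgroup.centralizer (D : Set G)) =>
        g ∈ Subgroup.zpowers c').card = w := by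
      rw [← Fintype.card_subtype, ← Nat.card_eq_fintype_card]
      exact (Nat.card_zpowers c').trans ((Subgroup.orderOf_mk _ _).trans hco)
    have heq := Finset.eq_of_subset_of_card_le hsub (hle.trans hcard.ge)
    have hd : d' ∈ Finset.univ.filter fun g : ↥(Q ⊓ Subgroup.centralizer (D : Set G)) => g ^ w = 1 :=
      Finset.mem_filter.2 ⟨Finset.mem_univ _, Subtype.ext (hpow u hu v hv)⟩
    rw [← heq] at hd
    obtain ⟨i, hi⟩ := Subgroup.mem_zpowers_iff.1 (Finset.mem_filter.1 hd).2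
    exact Subgroup.mem_zpowers_iff.2 ⟨i, congrArg Subtype.val hi⟩
  haveI := Fintype.ofFinite ↥Q
  obtain ⟨d, hd⟩ := PF12CharAux.exists_sq_mul_center (X := ↥Q) (c := ⟨c, hcQ0.1⟩) h.wprime
    ((Subgroup.orderOf_mk _ _).trans hco)
    (Subgroup.mem_center_iff.2 fun g => Subtype.ext (hQ0 c hcQ0 g g.2).symm)
    (fun u v => by
      obtain ⟨i, hi⟩ := Subgroup.mem_zpowers_iff.1 (hall u u.2 v v.2)
      exact Subgroup.mem_zpowers_iff.2 ⟨i, Subtype.ext (by rw [SubgroupClass.coe_zpow]; exact hi.trans (map_commutatorElement Q.subtype u v).symm)⟩)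
  have hcen : Nat.card (Subgroup.center ↥Q) = Nat.card ↥(Q ⊓ Subgroup.centralizer (D : Set G)) := by
    rw [← hZ0]
    exact Nat.card_congr
      { toFun := fun u => ⟨u.1, u.1.2, Subgroup.mem_centralizer_iff.2 fun v hv =>
          congrArg Subtype.val (Subgroup.mem_center_iff.1 u.2 ⟨v, hv⟩)⟩
        invFun := fun u => ⟨⟨u.1, u.2.1⟩, Subgroup.mem_center_iff.2 fun v =>
          Subtype.ext (Subgroup.mem_centralizer_iff.1 u.2.2 v v.2)⟩
        left_inv := fun u => rfl
        right_inv := fun u => rfl }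
  rw [hcen, h.cardQ, mul_comm] at hd
  have hsq : w ^ Nat.card K = d ^ 2 := Nat.eq_of_mul_eq_mul_right Nat.card_pos hd
  obtain ⟨j, -, rfl⟩ := (Nat.dvd_prime_pow h.wprime).1 (hsq ▸ dvd_pow_self d two_ne_zero : d ∣ w ^ Nat.card K)
  rw [← pow_mul] at hsq
  have hj := Nat.pow_right_injective h.wprime.two_le hsq
  obtain ⟨i, hi⟩ := odd_card h.hG K
  omega

end Data

end Cfsg.Agent.PF12CaseIII
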