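import Mathlib
import Cfsg.Agent.Lib.PF12CaseIIISetup85
import Cfsg.Agent.Lib.PF12CaseIIILines85

/-!
Peterfalvi, Section 12: the structure of `Q` as a module for the Sylow `p`-subgroup of `D`.
-/

set_option autoImplicit false
set_option linter.unusedSectionVars false
set_option linter.style.haveILetI false

open scoped Pointwise commutatorElement

namespace Cfsg.Agent.PF12CaseIII

open Cfsg Cfsg.Agent.BGTypeBasic Cfsg.Agent.BGTypeSetup Cfsg.Agent.PF12TypeP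

universe u

variable {G : Type u} [Group G] [Finite G]

theorem mem_normalizer_commutator {g : G} {X Y : Subgroup G} (hX : g ∈ Subgroup.normalizer (X : Set G))
    (hY : g ∈ Subgroup.normalizer (Y : Set G)) : g ∈ Subgroup.normalizer ((⁅X, Y⁆ : Subgroup G) : Set G) := by
  refine CoprimeAction.mem_normalizer_of_conj_smul_eq ?_
  rw [BGTypeBasic.conj_smul_eq_map, Subgroup.map_commutator, ← BGTypeBasic.conj_smul_eq_map,
    ← BGTypeBasic.conj_smul_eq_map, CoprimeSZ.conj_smul_eq_self hX, CoprimeSZ.conj_smul_eq_self hY]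

namespace Data

variable {M L A K Q D S : Subgroup G} {p : ℕ} {x k z : G}

theorem SQ (h : Data M L A p x k K Q D S z) : S ≤ Subgroup.normalizer (Q : Set G) :=
  (h.SD.trans h.DL).trans h.Qn

theorem coprime_SQ (h : Data M L A p x k K Q D S z) : (Nat.card S).Coprime (Nat.card Q) :=
  (h.coprime_QD.symm).coprime_dvd_left (Subgroup.card_dvd_of_le h.SD)

theorem S_solv (h : Data M L A p x k K Q D S z) : Group.IsSolvable S :=
  haveI := Fact.mk h.hp
  CoprimeAction.isSolvable_of_isPGroup h.Sp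

theorem Q_self (h : Data M L A p x k K Q D S z) {X : Subgroup G} (hX : X ≤ Q) :
    Q ≤ Subgroup.normalizer (X : Set G) := by
  refine CoprimeAction.le_normalizer_of_conj_mem fun a ha c hc => ?_
  rwa [h.Q_comm ha (hX hc), mul_inv_cancel_right]

/-- `C_Q(S) = C_Q(D)`. -/
theorem cent_S (h : Data M L A p x k K Q D S z) :
    Q ⊓ Subgroup.centralizer (S : Set G) = Q ⊓ Subgroup.centralizer (D : Set G) := by
  refine (h.eq_or_eq (inf_le_inf_left _ (Subgroup.centralizer_le h.SD)) inf_le_left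
    (h.invariant (h.Q_self inf_le_left)
      (CoprimeAction.le_normalizer_inf (h.DL.trans h.Qn) (h.DS.trans (normalizer_le_normalizer_centralizer S)))
      ?_)).resolve_right fun e => h.xF ?_
  · refine CoprimeAction.le_normalizer_inf (A := Subgroup.zpowers z) ((Subgroup.zpowers_le.2 h.zL).trans h.Qn)
      (Subgroup.zpowers_le.2 (normalizer_le_normalizer_centralizer S h.zS)) (Subgroup.mem_zpowers z)
  · have hQS : Q ≤ Subgroup.normalizer (S : Set G) :=
      (e.ge.trans inf_le_right).trans (Subgroup.centralizer_le_normalizer _)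
    haveI := Fact.mk h.hp
    exact le_fittingOf_of_normal (h.SD.trans h.DL) (h.invariant hQS h.DS h.zS) h.Sp.isNilpotent (h.AS' h.xA)

theorem R_le (h : Data M L A p x k K Q D S z) : ⁅Q, S⁆ ≤ Q := CoprimeAction.commutator_le_self_of_le_normalizer h.SQ

theorem R_normal (h : Data M L A p x k K Q D S z) : L ≤ Subgroup.normalizer ((⁅Q, S⁆ : Subgroup G) : Set G) :=
  h.invariant (h.Q_self h.R_le) (fun d hd => mem_normalizer_commutator (h.Qn (h.DL hd)) (h.DS hd))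
    (mem_normalizer_commutator (h.Qn h.zL) h.zS)

theorem R_sup (h : Data M L A p x k K Q D S z) :
    ⁅Q, S⁆ ⊔ (Q ⊓ Subgroup.centralizer (D : Set G)) = Q := by
  rw [← h.cent_S]
  exact CoprimeAction.commutator_sup_centralizer_eq h.SQ h.coprime_SQ (Or.inl h.S_solv)

theorem R_inf (h : Data M L A p x k K Q D S z) :
    ⁅Q, S⁆ ⊓ (Q ⊓ Subgroup.centralizer (D : Set G)) = ⊥ := by
  haveI : IsMulCommutative Q := ⟨⟨fun a b => Subtype.ext (h.Q_comm a.2 b.2)⟩⟩
  rw [← h.cent_S, inf_comm]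
  exact CoprimeAction.inf_centralizer_inf_commutator_eq_bot h.SQ h.coprime_SQ

/-- An element of `Q` splits along `[Q,S]` and `C_Q(D)`. -/
theorem exists_mul_Q (h : Data M L A p x k K Q D S z) {b : G} (hb : b ∈ Q) :
    ∃ r ∈ ⁅Q, S⁆, ∃ c ∈ Q ⊓ Subgroup.centralizer (D : Set G), b = r * c := by
  rw [← h.R_sup, ← SetLike.mem_coe, Subgroup.coe_mul_of_right_le_normalizer_left _ _
    ((inf_le_left.trans h.QL).trans h.R_normal)] at hb
  obtain ⟨r, hr, c, hc, hrc⟩ := Set.mem_mul.1 hb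
  exact ⟨r, hr, c, hc, hrc.symm⟩

theorem card_R (h : Data M L A p x k K Q D S z) :
    Nat.card ↥⁅Q, S⁆ = Nat.card ↥(sigmaCore L ⊓ Subgroup.centralizer (K : Set G)) ^ Nat.card K := by
  have hc : IsComplIn ⁅Q, S⁆ (Q ⊓ Subgroup.centralizer (D : Set G)) Q :=
    ⟨h.R_le, inf_le_left, h.R_inf, fun b hb => h.exists_mul_Q hb⟩
  have h1 := card_mul_of_isComplIn hc
  rw [h.cardQ, mul_comm] at h1
  exact Nat.eq_of_mul_eq_mul_left Nat.card_pos h1

theorem R_pow (h : Data M L A p x k K Q D S z) {r : G} (hr : r ∈ ⁅Q, S⁆) :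
    r ^ Nat.card ↥(sigmaCore L ⊓ Subgroup.centralizer (K : Set G)) = 1 := by
  rw [← Subgroup.mem_bot, ← h.R_inf]
  exact ⟨Subgroup.pow_mem _ hr _, h.powQ r (h.R_le hr)⟩

theorem R_sigma (h : Data M L A p x k K Q D S z) : ⁅Q, S⁆ ≤ sigmaCore L := h.R_le.trans h.Qσ

/-- An element of `L_σ` splits along `[Q,S]`, `C_Q(D)` and `D`. -/
theorem exists_mul_sigma (h : Data M L A p x k K Q D S z) {y : G} (hy : y ∈ sigmaCore L) :
    ∃ r ∈ ⁅Q, S⁆, ∃ c ∈ Q ⊓ Subgroup.centralizer (D : Set G), ∃ d ∈ D, y = r * c * d := by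
  obtain ⟨b, hb, d, hd, rfl⟩ := h.QD.2.2.2 y hy
  obtain ⟨r, hr, c, hc, rfl⟩ := h.exists_mul_Q hb
  exact ⟨r, hr, c, hc, d, hd, rfl⟩

theorem derived_le (h : Data M L A p x k K Q D S z) :
    ⁅sigmaCore L, sigmaCore L⁆ ≤ ⁅Q, S⁆ ⊔ ⁅D, D⁆ := by
  rw [Subgroup.commutator_le]
  have hrn : ∀ g ∈ L, ∀ r ∈ ⁅Q, S⁆, g * r * g⁻¹ ∈ ⁅Q, S⁆ := fun g hg r hr =>
    (Subgroup.mem_normalizer_iff.1 (h.R_normal hg) r).1 hr
  intro a ha b hb
  obtain ⟨r, hr, c, hc, d, hd, rfl⟩ := h.exists_mul_sigma ha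
  obtain ⟨r', hr', c', hc', d', hd', rfl⟩ := h.exists_mul_sigma hb
  have hcen : ∀ v ∈ Q ⊓ Subgroup.centralizer (D : Set G), ∀ y ∈ sigmaCore L, Commute v y :=
    fun v hv y hy => h.Q0_central hv hy
  have hσ1 : r * d ∈ sigmaCore L := Subgroup.mul_mem _ (h.R_sigma hr) (h.Dσ hd)
  have hσ2 : r' * d' ∈ sigmaCore L := Subgroup.mul_mem _ (h.R_sigma hr') (h.Dσ hd')
  have hcc : ⁅r * c * d, r' * c' * d'⁆ = ⁅r * d, r' * d'⁆ := by
    have e1 : r * c * d = c * (r * d) := by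
      rw [← (hcen c hc r (h.R_sigma hr)).eq, mul_assoc]
    have e2 : r' * c' * d' = c' * (r' * d') := by
      rw [← (hcen c' hc' r' (h.R_sigma hr')).eq, mul_assoc]
    rw [e1, e2]
    set u := r * d with hu
    set v := r' * d' with hv
    have k1 : Commute c (c' * v) := hcen c hc _ (Subgroup.mul_mem _ (h.Qσ hc'.1) hσ2)
    have k2 : Commute c' u := hcen c' hc' u hσ1
    calc ⁅c * u, c' * v⁆ = c * (u * (c' * v) * u⁻¹) * c⁻¹ * (c' * v)⁻¹ := by
          rw [commutatorElement_def]; group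
      _ = c * (c' * (u * v * u⁻¹)) * c⁻¹ * (c' * v)⁻¹ := by
          rw [← mul_assoc u c' v, ← k2.eq]; group
      _ = c' * (u * v * u⁻¹) * v⁻¹ * c'⁻¹ := by
          rw [(hcen c hc (c' * (u * v * u⁻¹)) (Subgroup.mul_mem _ (h.Qσ hc'.1)
            (Subgroup.mul_mem _ (Subgroup.mul_mem _ hσ1 hσ2) (Subgroup.inv_mem _ hσ1)))).eq]
          group
      _ = ⁅u, v⁆ := by
          have k3 : Commute c' ⁅u, v⁆ := hcen c' hc' _ (Subgroup.commutator_le_self _
            (Subgroup.commutator_mem_commutator hσ1 hσ2))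
          rw [show c' * (u * v * u⁻¹) * v⁻¹ * c'⁻¹ = c' * ⁅u, v⁆ * c'⁻¹ by rw [commutatorElement_def]; group,
            k3.eq, mul_inv_cancel_right]
  rw [hcc]
  -- modulo `[Q,S]` the commutator is that of `d` and `d'`
  have hdL := h.DL hd
  have hd'L := h.DL hd'
  have e : ⁅r * d, r' * d'⁆ = (r * (d * r' * d⁻¹) *
      ((d * d' * d⁻¹) * r⁻¹ * (d * d' * d⁻¹)⁻¹) * (⁅d, d'⁆ * r'⁻¹ * ⁅d, d'⁆⁻¹)) * ⁅d, d'⁆ := by
    simp only [commutatorElement_def]
    group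
  rw [e]
  refine Subgroup.mul_mem _ (Subgroup.mem_sup_left ?_) (Subgroup.mem_sup_right
    (Subgroup.commutator_mem_commutator hd hd'))
  refine Subgroup.mul_mem _ (Subgroup.mul_mem _ (Subgroup.mul_mem _ hr (hrn d hdL r' hr')) ?_) ?_
  · exact hrn _ (L.mul_mem (L.mul_mem hdL hd'L) (L.inv_mem hdL)) _ (Subgroup.inv_mem _ hr)
  · refine hrn _ ?_ _ (Subgroup.inv_mem _ hr')
    rw [commutatorElement_def]
    exact L.mul_mem (L.mul_mem (L.mul_mem hdL hd'L) (L.inv_mem hdL)) (L.inv_mem hd'L)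

theorem W_le_R (h : Data M L A p x k K Q D S z) :
    sigmaCore L ⊓ Subgroup.centralizer (K : Set G) ≤ ⁅Q, S⁆ := by
  intro y hy
  have h1 : y ∈ ⁅Q, S⁆ ⊔ D :=
    sup_le_sup_left (Subgroup.commutator_le_self D) _ (h.derived_le (h.toPPair.W_le_derived hy))
  rw [← SetLike.mem_coe, Subgroup.coe_mul_of_right_le_normalizer_left _ _ (h.DL.trans h.R_normal)] at h1
  obtain ⟨r, hr, d, hd, e⟩ := Set.mem_mul.1 h1
  have hdQ : d ∈ Q := by
    have : d = r⁻¹ * y := by rw [← e, inv_mul_cancel_left]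
    rw [this]
    exact Q.mul_mem (Q.inv_mem (h.R_le hr)) (h.W_le_Q hy)
  have hd1 : d ∈ Q ⊓ D := ⟨hdQ, hd⟩
  rw [h.QD.2.2.1, Subgroup.mem_bot] at hd1
  rw [← e, hd1, mul_one]
  exact hr

/-- An element outside `L_σ` commuting modulo `[Q,S]` with `y ∈ L_σ` forces `y ∈ [Q,S]`. -/
theorem mem_R_of_fixed (h : Data M L A p x k K Q D S z) {g y : G} (hg : g ∈ L) (hgσ : g ∉ sigmaCore L)
    (hy : y ∈ sigmaCore L) (hc : g * y * g⁻¹ * y⁻¹ ∈ ⁅Q, S⁆) : y ∈ ⁅Q, S⁆ := by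
  have hqd : Nat.card K ∣ orderOf g := by
    by_contra hd
    refine hgσ (mem_of_orderOf_coprime_relIndex (le_normalizer_sigmaCore L) hg ?_)
    rw [h.toPPair.relIndex_core]
    exact ((Nat.Prime.coprime_iff_not_dvd h.qprime).2 hd).symm
  set z' := g ^ (orderOf g / Nat.card K) with hz'
  have hz'o : orderOf z' = Nat.card K := orderOf_pow_orderOf_div (orderOf_pos g).ne' hqd
  have hz'L : z' ∈ L := L.pow_mem hg _
  have hrn : ∀ g' ∈ L, ∀ r ∈ ⁅Q, S⁆, g' * r * g'⁻¹ ∈ ⁅Q, S⁆ := fun g' hg' r hr =>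
    (Subgroup.mem_normalizer_iff.1 (h.R_normal hg') r).1 hr
  have hpow : ∀ n : ℕ, g ^ n * y * (g ^ n)⁻¹ * y⁻¹ ∈ ⁅Q, S⁆ := by
    intro n
    induction n with
    | zero => simp
    | succ n ih =>
      have e : g ^ (n + 1) * y * (g ^ (n + 1))⁻¹ * y⁻¹ =
          (g * (g ^ n * y * (g ^ n)⁻¹ * y⁻¹) * g⁻¹) * (g * y * g⁻¹ * y⁻¹) := by
        rw [pow_succ']; group
      rw [e]
      exact Subgroup.mul_mem _ (hrn g hg _ ih) hc
  have hyL : y ∈ L := sigmaCore_le L hy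
  obtain ⟨c, hcz, hcy⟩ := CoprimeAction.exists_fixed_mem_coset_zpowers (a := z') (h.R_normal hz'L) (by
      rw [hz'o]
      exact ((Nat.Prime.coprime_iff_not_dvd h.qprime).2 fun hd =>
        h.q_not_dvd (hd.trans (Subgroup.card_dvd_of_le h.R_sigma)))) y (by
      have := hrn y⁻¹ (L.inv_mem hyL) _ (hpow (orderOf g / Nat.card K))
      rw [← hz'] at this
      convert this using 1
      group)
  have hcσ : c ∈ sigmaCore L := by
    have : c = y * (y⁻¹ * c) := by group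
    rw [this]
    exact Subgroup.mul_mem _ hy (h.R_sigma hcy)
  have hcR : c ∈ ⁅Q, S⁆ := h.toPPair.fix_le h.R_normal h.W_le_R hz'L h.qprime hz'o h.q_not_dvd
    ⟨hcσ, Subgroup.mem_centralizer_singleton_iff.2 hcz.symm⟩
  have : y = c * (y⁻¹ * c)⁻¹ := by group
  rw [this]
  exact Subgroup.mul_mem _ hcR (Subgroup.inv_mem _ hcy)

end Data

end Cfsg.Agent.PF12CaseIII
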