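import Mathlib
import Cfsg.Agent.Lib.PF6Core43
import Cfsg.Agent.Lib.CharInducedFrob
import Cfsg.Agent.Lib.CharKernel
import Cfsg.Agent.Lib.CharBasicPerm

/-!
Characters of a normal subgroup `K`, trivial on `R`, induce irreducibly when `L/R` has `K/R` as a kernel
containing the centralisers of its non-trivial elements.
-/

set_option autoImplicit false
set_option linter.unusedSectionVars false
set_option linter.style.haveILetI false

namespace Cfsg.Agent.PF12QuotIrr

open Cfsg Cfsg.Agent.CharBasic Cfsg.Agent.CharBasicOrth Cfsg.Agent.CharBasicDecomp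

universe u

variable {L : Type u} [Group L] [Fintype L] {K R : Subgroup L}

theorem irr_of_quot [K.Normal] [R.Normal]
    (hq : ∀ k ∈ K, k ∉ R → ∀ g : L, g * k * g⁻¹ * k⁻¹ ∈ R → g ∈ K)
    {θ : IrrCharacter ↥K} (hθ : θ ∈ PF6.aboveFin K R) : IsIrrCharacter L (PF6.ind K θ) := by
  classical
  haveI := Fintype.ofFinite ↥K
  obtain ⟨h1, hR⟩ := PF6.mem_aboveFin.1 hθ
  rw [isIrrCharacter_iff]
  refine ⟨PF6.ind_isCharacter K θ, ?_⟩
  suffices hI : CharInduced.inertia K (θ : ↥K → ℂ) = K by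
    rw [PF6.ind, CharInduced.classInner_ind_self K θ.2, hI, div_self (Nat.cast_ne_zero.2 Nat.card_pos.ne')]
  refine le_antisymm (fun g hg => ?_)
    (CharInduced.le_inertia K (CharBasic.isClassFunction_of_isCharacter (isCharacter_of_isIrrCharacter θ.2)))
  by_contra hgK
  set R' : Subgroup ↥K := R.subgroupOf K with hR'
  haveI : R'.Normal := Subgroup.Normal.subgroupOf ‹_› K
  obtain ⟨ψ, hψ⟩ := CharKernel.exists_quot_irr R' θ fun n hn => hR n hn
  let α₀ : ↥K ≃* ↥K := MulAut.conjNormal g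
  have hα₀ : R'.map (α₀ : ↥K →* ↥K) = R' := by
    ext n
    rw [Subgroup.mem_map]
    constructor
    · rintro ⟨m, hm, rfl⟩
      show ((α₀ m : ↥K) : L) ∈ R
      rw [MulAut.conjNormal_apply]
      exact ‹R.Normal›.conj_mem _ hm g
    · intro hn
      refine ⟨α₀.symm n, ?_, α₀.apply_symm_apply n⟩
      show ((α₀.symm n : ↥K) : L) ∈ R
      rw [MulAut.conjNormal_symm_apply]
      simpa using ‹R.Normal›.conj_mem _ (show ((n : ↥K) : L) ∈ R from hn) g⁻¹
  let α : (↥K ⧸ R') ≃* (↥K ⧸ R') := QuotientGroup.congr R' R' α₀ hα₀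
  have hαmk : ∀ n : ↥K, α (n : ↥K ⧸ R') = ((α₀ n : ↥K) : ↥K ⧸ R') := fun n => rfl
  haveI : Finite (IrrCharacter (↥K ⧸ R')) := finite_irrCharacter
  have h := CharBasicPerm.card_fixed (fun n : ↥K ⧸ R' => α n)
    (fun C => ConjClasses.map α.toMonoidHom C = C)
    (fun n => by rw [show ConjClasses.map α.toMonoidHom (ConjClasses.mk n) = ConjClasses.mk (α n) from rfl,
      ConjClasses.mk_eq_mk_iff_isConj])
    (fun χ => ⟨(χ : ↥K ⧸ R' → ℂ) ∘ α, isIrrCharacter_comap α.toMonoidHom α.surjective χ.2⟩)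
    (fun χ g => rfl)
  have hsub : Subsingleton {C : ConjClasses (↥K ⧸ R') // ConjClasses.map α.toMonoidHom C = C} := by
    suffices hone : ∀ C : ConjClasses (↥K ⧸ R'), ConjClasses.map α.toMonoidHom C = C →
        C = ConjClasses.mk 1 from
      ⟨fun a b => Subtype.ext ((hone a.1 a.2).trans (hone b.1 b.2).symm)⟩
    intro C hC
    obtain ⟨n, rfl⟩ := ConjClasses.exists_rep C
    change ConjClasses.mk (α n) = ConjClasses.mk n at hC
    rw [ConjClasses.mk_eq_mk_iff_isConj, isConj_iff] at hC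
    obtain ⟨m, hm⟩ := hC
    obtain ⟨n, rfl⟩ := QuotientGroup.mk_surjective n
    obtain ⟨m, rfl⟩ := QuotientGroup.mk_surjective m
    congr 1
    by_contra hn
    rw [QuotientGroup.eq_one_iff] at hn
    rw [hαmk, ← QuotientGroup.mk_inv, ← QuotientGroup.mk_mul, ← QuotientGroup.mk_mul,
      QuotientGroup.eq_iff_div_mem, div_eq_mul_inv] at hm
    refine hgK ((K.mul_mem_cancel_left m.2).1 (hq n n.2 hn ((m : L) * g) ?_))
    have hm' : ((m * α₀ n * m⁻¹ * n⁻¹ : ↥K) : L) ∈ R := hm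
    simp only [Subgroup.coe_mul, Subgroup.coe_inv, α₀, MulAut.conjNormal_apply] at hm'
    convert hm' using 1
    group
  have hle : Nat.card {χ : IrrCharacter (↥K ⧸ R') //
      (⟨(χ : ↥K ⧸ R' → ℂ) ∘ α, isIrrCharacter_comap α.toMonoidHom α.surjective χ.2⟩ :
        IrrCharacter (↥K ⧸ R')) = χ} ≤ 1 := by
    rw [← h]
    exact Finite.card_le_one_iff_subsingleton.2 hsub
  have e := (Finite.card_le_one_iff_subsingleton.1 hle).elim
    ⟨ψ, Subtype.ext (funext fun q => by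
      obtain ⟨n, rfl⟩ := QuotientGroup.mk_surjective q
      show (ψ : ↥K ⧸ R' → ℂ) (α (n : ↥K ⧸ R')) = _
      rw [hαmk, ← hψ, ← hψ]
      exact congrFun (CharInduced.mem_inertia K |>.1 hg) n)⟩
    ⟨trivIrr (↥K ⧸ R'), Subtype.ext rfl⟩
  have e' : (ψ : ↥K ⧸ R' → ℂ) = fun _ => 1 :=
    congrArg (fun z => ((z.1 : IrrCharacter (↥K ⧸ R')) : ↥K ⧸ R' → ℂ)) e
  exact h1 (funext fun n => by rw [hψ, e'])

end Cfsg.Agent.PF12QuotIrr
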