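import Mathlib
import Cfsg.Agent.Lib.PF12TypeP43
import Cfsg.Agent.Lib.PF12QuotIrr43
import Cfsg.Agent.Lib.PF12CaseIIIBasic85

/-!
Peterfalvi, Section 12: the second maximal subgroup is of type P with sigma core not nilpotent.
-/

set_option autoImplicit false
set_option linter.unusedSectionVars false
set_option linter.style.haveILetI false

open scoped Pointwise commutatorElement Classical

namespace Cfsg.Agent.PF12CaseIII

open Cfsg Cfsg.Agent.BGTypeBasic Cfsg.Agent.BGTypeSetup Cfsg.Agent.PF12TypeP Cfsg.Agent.CharBasic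
  Cfsg.Agent.CharBasicDecomp

universe u

variable {G : Type u} [Group G] [Finite G]

namespace Data

variable {M L A K Q D S : Subgroup G} {p : ℕ} {x k z : G}

theorem relIndex_R (h : Data M L A p x k K Q D S z) :
    (⁅Q, S⁆ : Subgroup G).relIndex (sigmaCore L) =
      Nat.card ↥(Q ⊓ Subgroup.centralizer (D : Set G)) * Nat.card D := by
  have h1 := Subgroup.relIndex_mul_relIndex _ _ (sigmaCore L) bot_le h.R_sigma
  rw [Subgroup.relIndex_bot_left, Subgroup.relIndex_bot_left, ← card_mul_of_isComplIn h.QD, h.cardQ,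
    ← h.card_R] at h1
  refine Nat.eq_of_mul_eq_mul_left Nat.card_pos (h1.trans ?_)
  ring

/-- Elements centralising `[Q,S]`-modulo the sigma core. -/
theorem central_mod (h : Data M L A p x k K Q D S z) {t : G} (ht : t ∈ D) (htp : (orderOf t).Coprime p)
    {y : G} (hy : y ∈ sigmaCore L) : t * y * t⁻¹ * y⁻¹ ∈ ⁅Q, S⁆ := by
  obtain ⟨r, hr, c, hc, d, hd, rfl⟩ := h.exists_mul_sigma hy
  have h1 : t * c = c * t := (h.Q0_central hc (h.Dσ ht)).symm
  have h2 := h.central ht htp hd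
  have e : t * (r * c * d) * t⁻¹ * (r * c * d)⁻¹ = t * r * t⁻¹ * r⁻¹ := by
    calc t * (r * c * d) * t⁻¹ * (r * c * d)⁻¹ = t * r * t⁻¹ * (t * c * t⁻¹) * (t * d * t⁻¹) * d⁻¹ * c⁻¹ * r⁻¹ := by
          group
      _ = t * r * t⁻¹ * r⁻¹ := by rw [h1, h2]; group
  rw [e]
  exact Subgroup.mul_mem _ ((Subgroup.mem_normalizer_iff.1 (h.R_normal (h.DL ht)) r).1 hr) (Subgroup.inv_mem _ hr)

set_option maxHeartbeats 800000 in
theorem false_of_bounds (h : Data M L A p x k K Q D S z) (hep : 2 * Nat.card K ≤ p + 1)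
    (hq : (¬ ∀ a ∈ S, ∀ b ∈ S, a * b = b * a) → 2 * Nat.card K ≤ p - 1)
    (hbr : Nat.card ↥(M ⊓ L) ≤ Nat.card ↥(Q ⊓ Subgroup.centralizer (D : Set G)) * Nat.card D ∨
      ∃ N : Subgroup G, N ≤ sigmaCore L ∧ L ≤ Subgroup.normalizer (N : Set G) ∧
        (∀ a ∈ N, ∀ b ∈ N, a * b = b * a) ∧ 2 * Nat.card K * N.relIndex (sigmaCore L) ≤
          Nat.card ↥(Q ⊓ Subgroup.centralizer (D : Set G)) * Nat.card D) : False := by
  haveI := Fintype.ofFinite G
  haveI := Fact.mk h.hp
  set σL := sigmaCore L with hσL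
  have hσle : σL ≤ L := sigmaCore_le L
  set Kl := σL.subgroupOf L with hKl
  haveI hKn : Kl.Normal := Subgroup.normal_subgroupOf_of_le_normalizer (le_normalizer_sigmaCore L)
  set Rl := (⁅Q, S⁆ : Subgroup G).subgroupOf L with hRl
  haveI hRn : Rl.Normal := Subgroup.normal_subgroupOf_of_le_normalizer h.R_normal
  have hidx : Kl.index = Nat.card K := h.toPPair.index_eq
  have hrel : Rl.relIndex Kl = Nat.card ↥(Q ⊓ Subgroup.centralizer (D : Set G)) * Nat.card D := by
    rw [hRl, hKl, Subgroup.relIndex_subgroupOf hσle, h.relIndex_R]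
  set φ : ↥Kl →* G := L.subtype.comp Kl.subtype with hφ
  have hφinj : Function.Injective φ := fun a b e => Subtype.ext (Subtype.ext e)
  have hφrange : ∀ {H : Subgroup G}, H ≤ σL → H ≤ φ.range := fun hH a ha =>
    ⟨⟨⟨a, hσle (hH ha)⟩, hH ha⟩, rfl⟩
  have hφnormal : ∀ {H : Subgroup G}, σL ≤ Subgroup.normalizer (H : Set G) → (H.comap φ).Normal := fun {H} hH =>
    ⟨fun a ha b => by
      rw [Subgroup.mem_comap] at ha ⊢
      rw [map_mul, map_mul, map_inv]
      exact (Subgroup.mem_normalizer_iff.1 (hH b.2) (φ a)).1 ha⟩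
  -- every character trivial on `[Q,S]` induces irreducibly
  have htset : ∀ θ : IrrCharacter ↥Kl, θ ∈ PF6.aboveFin Kl Rl → θ ∈ PF12Family.tset Kl Rl := fun θ hθ =>
    PF12Family.mem_tset.2 ⟨hθ, PF12QuotIrr.irr_of_quot (fun a ha haR g hg => by
      by_contra hgK
      exact haR (h.mem_R_of_fixed g.2 hgK ha hg)) hθ⟩
  have hTeq : PF12Family.tset Kl Rl = PF6.aboveFin Kl Rl :=
    Finset.Subset.antisymm (fun θ hθ => (PF12Family.mem_tset.1 hθ).1) fun θ hθ => htset θ hθ
  -- their degrees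
  set R' : Subgroup ↥Kl := Rl.subgroupOf Kl with hR'
  haveI : R'.Normal := Subgroup.Normal.subgroupOf hRn Kl
  set N := (Subgroup.center (↥Kl ⧸ R')).comap (QuotientGroup.mk' R') with hN
  have hcent : ∀ n ∈ N, ∀ y : ↥Kl, n * y * n⁻¹ * y⁻¹ ∈ R' := by
    intro n hn y
    rw [hN, Subgroup.mem_comap, Subgroup.mem_center_iff] at hn
    have h1 := hn (QuotientGroup.mk' R' y)
    rw [← QuotientGroup.eq_one_iff, ← QuotientGroup.mk'_apply, map_mul, map_mul, map_mul, map_inv, map_inv, ← h1]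
    group
  have hmemN : ∀ n : ↥Kl, (∀ y ∈ σL, φ n * y * (φ n)⁻¹ * y⁻¹ ∈ ⁅Q, S⁆) → n ∈ N := by
    intro n hn
    rw [hN, Subgroup.mem_comap, Subgroup.mem_center_iff]
    intro y
    obtain ⟨y, rfl⟩ := QuotientGroup.mk'_surjective R' y
    refine (mul_inv_eq_one.1 ?_).symm
    rw [mul_inv_rev, ← mul_assoc, ← map_inv, ← map_inv, ← map_mul, ← map_mul, ← map_mul, QuotientGroup.mk'_apply,
      QuotientGroup.eq_one_iff]
    exact hn (φ y) y.2
  have hRN : R' ≤ N := by
    intro n hn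
    refine hmemN n fun y hy => ?_
    have e : φ n * y * (φ n)⁻¹ * y⁻¹ = φ n * (y * (φ n)⁻¹ * y⁻¹) := by group
    rw [e]
    exact Subgroup.mul_mem _ hn ((Subgroup.mem_normalizer_iff.1 (h.R_normal (hσle hy)) _).1 (Subgroup.inv_mem _ hn))
  haveI : N.Normal := (inferInstance : ((Subgroup.center (↥Kl ⧸ R')).comap (QuotientGroup.mk' R')).Normal)
  obtain ⟨e, he⟩ : ∃ e, N.index = p ^ e := by
    let ι : ↥S →* ↥Kl := MonoidHom.mk' (fun s => ⟨⟨(s : G), h.DL (h.SD s.2)⟩, h.Dσ (h.SD s.2)⟩) (fun a b => rfl)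
    refine IsPGroup.iff_card.1 (h.Sp.of_surjective ((QuotientGroup.mk' N).comp ι) fun q' => ?_)
    obtain ⟨y, rfl⟩ := QuotientGroup.mk'_surjective N q'
    obtain ⟨r, hr, c, hc, d, hd, hy⟩ := h.exists_mul_sigma (show φ y ∈ σL from y.2)
    obtain ⟨s, hs, t, ht, htp, hd'⟩ := h.exists_decomp_D hd
    refine ⟨⟨s, hs⟩, ?_⟩
    let cl : (v : G) → v ∈ σL → ↥Kl := fun v hv => ⟨⟨v, hσle hv⟩, hv⟩
    have hr1 : QuotientGroup.mk' N (cl r (h.R_sigma hr)) = 1 :=
      (QuotientGroup.eq_one_iff _).2 (hRN hr)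
    have hc1 : QuotientGroup.mk' N (cl c (h.Qσ hc.1)) = 1 := (QuotientGroup.eq_one_iff _).2
      (hmemN _ fun v hv => by
        show c * v * c⁻¹ * v⁻¹ ∈ _
        rw [h.Q0_central hc hv, mul_inv_cancel_right, mul_inv_cancel]
        exact Subgroup.one_mem _)
    have ht1 : QuotientGroup.mk' N (cl t (h.Dσ ht)) = 1 := (QuotientGroup.eq_one_iff _).2
      (hmemN _ fun v hv => h.central_mod ht htp hv)
    have : y = cl r (h.R_sigma hr) * cl c (h.Qσ hc.1) * (ι ⟨s, hs⟩ * cl t (h.Dσ ht)) :=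
      hφinj (by rw [hy, hd']; rfl)
    rw [this, map_mul, map_mul, map_mul, hr1, hc1, ht1, one_mul, one_mul, mul_one]
    rfl
  have hdeg : ∀ θ ∈ PF6.aboveFin Kl Rl, ∃ a : ℕ,
      Cfsg.charDegree (θ : ↥Kl → ℂ) = p ^ a ∧ p ^ (2 * a) ∣ Rl.relIndex Kl := fun θ hθ =>
    PF12CharAux.deg_of_central hRN hcent h.hp he θ fun r hr => (PF6.mem_aboveFin.1 hθ).2 r hr
  have hlin1 : (∀ a ∈ S, ∀ b ∈ S, a * b = b * a) → ∀ θ ∈ PF6.aboveFin Kl Rl,
      Cfsg.charDegree (θ : ↥Kl → ℂ) = 1 := by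
    intro hS θ hθ
    have hDc : ∀ a ∈ D, ∀ b ∈ D, a * b = b * a := by
      intro a ha b hb
      obtain ⟨s, hs, t, ht, htp, rfl⟩ := h.exists_decomp_D ha
      obtain ⟨s', hs', t', ht', ht'p, rfl⟩ := h.exists_decomp_D hb
      have h1 : Commute s s' := hS s hs s' hs'
      have h2 : ∀ y ∈ D, Commute t y := fun y hy => h.central ht htp hy
      have h3 : ∀ y ∈ D, Commute t' y := fun y hy => h.central ht' ht'p hy
      exact ((h1.mul_right (h3 s (h.SD hs)).symm).mul_left
        ((h2 s' (h.SD hs')).mul_right (h2 t' ht'))).eq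
    have h1 := PF12CharAux.dvd_index_of_abelian_mod (R := R') (N := (⊤ : Subgroup ↥Kl)) le_top
      (fun a _ b _ => by
        have h2 : ⁅φ a, φ b⁆ ∈ ⁅Q, S⁆ ⊔ ⁅D, D⁆ := h.derived_le (Subgroup.commutator_mem_commutator a.2 b.2)
        rw [show ⁅D, D⁆ = (⊥ : Subgroup G) from Subgroup.commutator_eq_bot_iff_le_centralizer.2
          (fun a ha => Subgroup.mem_centralizer_iff.2 fun b hb => hDc b hb a ha), sup_bot_eq,
          commutatorElement_def] at h2
        exact h2) θ fun r hr => (PF6.mem_aboveFin.1 hθ).2 r hr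
    rw [Subgroup.index_top] at h1
    exact Nat.dvd_one.1 h1
  have hsize : PFPartialCoh.size (PF12Family.tset Kl Rl) =
      Nat.card ↥(Q ⊓ Subgroup.centralizer (D : Set G)) * Nat.card D := by
    rw [PFPartialCoh.size, hTeq, add_comm, PF6.sum_sq_above, hrel]
  have hp2 : p ^ 2 ∣ Rl.relIndex Kl := by
    rw [hrel, ← h.hAc]
    exact (Subgroup.card_dvd_of_le h.AD).mul_left _
  have hK2 : Kl ≠ ⊤ := fun e' => h.qprime.ne_one (by rw [← hidx, e', Subgroup.index_top])
  have hRK : Rl < Kl := by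
    refine lt_of_le_of_ne (fun a ha => h.R_sigma ha) fun e' => ?_
    have h1 : Rl.relIndex Kl = 1 := by rw [e', Subgroup.relIndex_self]
    rw [h1, Nat.dvd_one, Nat.pow_eq_one] at hp2
    exact hp2.elim h.hp.ne_one (by omega)
  obtain ⟨ν, ζ, hC, h2size, -⟩ := PF12Family.chain_family h.toPPair.setup (odd_card h.hG L) hK2 Rl h.hp hdeg
    (fun θ hθ _ => htset θ hθ) (by rw [hTeq, Finset.sdiff_self, Finset.card_empty]; omega)
    (fun hnl => by
      rw [hidx]
      refine hq fun hS => ?_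
      obtain ⟨θ, hθ, hθ1⟩ := hnl
      exact hθ1 (hlin1 hS θ hθ))
    (h.toPPair.exists_linear hRK)
  have hpsize := h2size hp2
  have hU : ∀ θ : IrrCharacter ↥Kl, (θ : ↥Kl → ℂ) ≠ (fun _ => 1) → θ ∉ PF12Family.tset Kl Rl →
      p ∣ Cfsg.charDegree (θ : ↥Kl → ℂ) := by
    intro θ h1 hT
    by_contra hpd
    refine hT (htset θ (PF6.mem_aboveFin.2 ⟨h1, fun r hr => ?_⟩))
    set Q' := Q.comap φ with hQ'
    set P' := S.comap φ with hP'
    haveI : Q'.Normal := hφnormal ((sigmaCore_le L).trans h.Qn)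
    have hmQ : Q'.map φ = Q := Subgroup.map_comap_eq_self (hφrange h.Qσ)
    have hmS : P'.map φ = S := Subgroup.map_comap_eq_self (hφrange (h.SD.trans h.Dσ))
    haveI : (Q' ⊔ P').Normal := by
      have e' : Q' ⊔ P' = (Q ⊔ S).comap φ := Subgroup.map_injective hφinj (by
        rw [Subgroup.map_sup, hmQ, hmS, Subgroup.map_comap_eq_self
          (hφrange (sup_le h.Qσ (h.SD.trans h.Dσ)))])
      rw [e']
      refine hφnormal ?_
      rw [hσL, ← sup_eq_of_isComplIn h.QD]
      refine sup_le (fun a ha => Subgroup.le_normalizer (Subgroup.mem_sup_left ha)) fun d hd =>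
        CoprimeAction.mem_normalizer_of_conj_smul_eq ?_
      rw [Subgroup.smul_sup, CoprimeSZ.conj_smul_eq_self (h.Qn (h.DL hd)), CoprimeSZ.conj_smul_eq_self (h.DS hd)]
    refine PF12CharAux.trivial_on_commutator (Q := Q') (P := P')
      (fun a ha b hb => hφinj (by rw [map_mul, map_mul]; exact h.Q_comm ha hb)) h.hp
      (h.Sp.comap_of_injective φ hφinj) θ hpd r ?_
    rw [← Subgroup.mem_map_iff_mem hφinj, Subgroup.map_commutator, hmQ, hmS]
    exact hr
  refine PF12Main.false_of_config h.toPPair.toPair.toConfig hC hU ((dvd_pow_self p two_ne_zero).trans hpsize)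
    (Nat.le_of_dvd (by rw [PFPartialCoh.size]; omega) hpsize) ?_ h.hu (by rw [hidx]; exact h.toPPair.three_le)
    (by rw [hidx]; exact hep)
  rw [hidx, hsize, PF12Base.Pair.relIndex_eq h.toPPair.toPair]
  rcases hbr with hbr | ⟨N₁, hN₁, hN₁n, hN₁c, hN₁i⟩
  · left
    calc 3 * Nat.card ↥(M ⊓ L) ≤ Nat.card K * (Nat.card ↥(Q ⊓ Subgroup.centralizer (D : Set G)) * Nat.card D) :=
          Nat.mul_le_mul h.toPPair.three_le hbr
      _ = _ := mul_comm _ _
  · right
    intro θ _ _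
    set N' := N₁.comap φ with hN'
    haveI : N'.Normal := hφnormal (hσle.trans hN₁n)
    have hd := PF12CharAux.dvd_index_of_abelian_mod (R := (⊥ : Subgroup ↥Kl)) (N := N') bot_le
      (fun a ha b hb => by
        rw [Subgroup.mem_bot]
        apply hφinj
        rw [map_one, map_mul, map_mul, map_mul, map_inv, map_inv, hN₁c _ ha _ hb, mul_inv_cancel_right,
          mul_inv_cancel])
      θ (fun r hr => by rw [Subgroup.mem_bot.1 hr])
    have hi : N'.index = N₁.relIndex σL := by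
      rw [hN', Subgroup.index_comap]
      congr 1
      exact le_antisymm (fun a ⟨b, hb⟩ => hb ▸ b.2) (hφrange le_rfl)
    rw [hi] at hd
    refine le_trans (Nat.mul_le_mul_left _ (Nat.le_of_dvd ?_ hd)) hN₁i
    exact Nat.pos_of_ne_zero (Subgroup.index_ne_zero_of_finite (H := N₁.subgroupOf σL))

theorem not_dvd_pow (h : Data M L A p x k K Q D S z) : p ≠ Nat.card K := fun e =>
  h.q_not_dvd (e ▸ h.x_order ▸ Subgroup.orderOf_dvd_natCard _ h.xL)

theorem mem_A_of_pow (h : Data M L A p x k K Q D S z) {y : G} (hy : y ∈ Subgroup.centralizer (A : Set G))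
    (hyp : y ^ p = 1) : y ∈ A := by
  rcases eq_or_ne y 1 with rfl | hy1
  · exact A.one_mem
  haveI := Fact.mk h.hp
  exact (PF12Base.Pair.structure18 h.toPPair.toPair).2.1 (Subgroup.zpowers y)
    (Subgroup.zpowers_le.2 (h.CA_le hy)) (by rw [Nat.card_zpowers, orderOf_eq_prime hyp hy1])
    (Subgroup.mem_zpowers y)

theorem R_ne_bot (h : Data M L A p x k K Q D S z) : (⁅Q, S⁆ : Subgroup G) ≠ ⊥ := fun e => by
  have h1 := h.card_R
  rw [e, Subgroup.card_bot, eq_comm, Nat.pow_eq_one] at h1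
  exact h1.elim h.wprime.ne_one h.qprime.ne_zero

/-- The case of an abelian Sylow `p`-subgroup. -/
theorem false_of_abelian (h : Data M L A p x k K Q D S z) (hS : ∀ a ∈ S, ∀ b ∈ S, a * b = b * a) : False := by
  haveI := Fact.mk h.hp
  have hSA : S ≤ Subgroup.centralizer (A : Set G) := fun s hs =>
    Subgroup.mem_centralizer_iff.2 fun a ha => hS a (h.AS' ha) s hs
  have hzA : z ∈ Subgroup.normalizer (A : Set G) := by
    refine CoprimeAction.le_normalizer_of_conj_mem (A := Subgroup.zpowers z) ?_ (Subgroup.mem_zpowers z)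
    intro b hb a ha
    refine h.mem_A_of_pow (hSA ((Subgroup.mem_normalizer_iff.1 (Subgroup.zpowers_le.2 h.zS hb) a).1 (h.AS' ha))) ?_
    rw [conj_pow, h.hA.2 a ha]
    group
  have hdvd : Nat.card K ∣ p ^ 2 - 1 := h.hAc ▸
    dvd_card_sub_one h.qprime h.zo hzA fun y hy hc => h.fix_D (h.AD hy) hc
  have hep : 2 * Nat.card K ≤ p + 1 := by
    obtain ⟨a, ha⟩ : Odd p := h.hG.1.of_dvd_nat (h.x_order ▸ orderOf_dvd_natCard x)
    obtain ⟨c, hc⟩ := odd_card h.hG K
    have hp2 := h.hp.two_le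
    rw [show p ^ 2 - 1 = (p + 1) * (p - 1) by rw [← Nat.sq_sub_sq, one_pow]] at hdvd
    rcases (Nat.Prime.dvd_mul h.qprime).1 hdvd with hd | hd <;> obtain ⟨j, hj⟩ := hd
    · rcases j with _ | _ | j
      · omega
      · omega
      · nlinarith
    · rcases j with _ | _ | j
      · omega
      · omega
      · have : 2 * Nat.card K ≤ p - 1 := by nlinarith
        omega
  refine h.false_of_bounds hep (fun hn => absurd hS hn) (Or.inl ?_)
  have hEσ : M ⊓ L ≤ sigmaCore L := by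
    intro g hg
    by_contra hgσ
    have hqd : Nat.card K ∣ orderOf g := by
      by_contra hd
      refine hgσ (mem_of_orderOf_coprime_relIndex (le_normalizer_sigmaCore L) hg.2 ?_)
      rw [h.toPPair.relIndex_core]
      exact ((Nat.Prime.coprime_iff_not_dvd h.qprime).2 hd).symm
    obtain ⟨u, hu, z₀, hz₀, huo, hz₀o, hcomm⟩ := PF12Base.Pair.exists_commuting h.toPPair.toPair h.qprime
      (Ne.symm h.not_dvd_pow) (hqd.trans (Subgroup.orderOf_dvd_natCard _ hg))
    exact h.q_not_dvd (h.toPPair.mem_of_commute hz₀.2 h.qprime hz₀o (h.AS hu) h.hp huo h.pw hcomm)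
  have hCQ : Q ⊓ Subgroup.centralizer (A : Set G) = Q ⊓ Subgroup.centralizer (D : Set G) := by
    have hDA : D ≤ Subgroup.centralizer (A : Set G) := by
      intro d hd
      obtain ⟨s, hs, t, ht, htp, rfl⟩ := h.exists_decomp_D hd
      exact Subgroup.mul_mem _ (hSA hs) (Subgroup.mem_centralizer_iff.2 fun a ha => (h.central ht htp (h.AD ha)).symm)
    refine (h.eq_or_eq (inf_le_inf_left _ (Subgroup.centralizer_le h.AD)) inf_le_left
      (h.invariant (h.Q_self inf_le_left)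
        (CoprimeAction.le_normalizer_inf (h.DL.trans h.Qn)
          ((hDA.trans (Subgroup.centralizer_le_normalizer _)).trans (normalizer_le_normalizer_centralizer A)))
        ?_)).resolve_right fun e => ?_
    · exact CoprimeAction.le_normalizer_inf (A := Subgroup.zpowers z) ((Subgroup.zpowers_le.2 h.zL).trans h.Qn)
        (Subgroup.zpowers_le.2 (normalizer_le_normalizer_centralizer A hzA)) (Subgroup.mem_zpowers z)
    · haveI := h.cyclic_w h.R_le (((h.R_le.trans e.ge).trans (inf_le_right.trans h.CA_le)).trans inf_le_left)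
        h.R_ne_bot
      have h1 : Monoid.exponent ↥(⁅Q, S⁆ : Subgroup G) ∣
          Nat.card ↥(sigmaCore L ⊓ Subgroup.centralizer (K : Set G)) :=
        Monoid.exponent_dvd_of_forall_pow_eq_one fun r => Subtype.ext (h.R_pow r.2)
      rw [IsCyclic.exponent_eq_card, h.card_R] at h1
      have h2 := Nat.le_of_dvd h.wprime.pos h1
      have h3 := h.toPPair.three_le
      have h4 : Nat.card ↥(sigmaCore L ⊓ Subgroup.centralizer (K : Set G)) ^ 1 <
          Nat.card ↥(sigmaCore L ⊓ Subgroup.centralizer (K : Set G)) ^ Nat.card K :=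
        Nat.pow_lt_pow_right h.wprime.one_lt (by omega)
      rw [pow_one] at h4
      omega
  have hEQ : Q ⊓ (M ⊓ L) ≤ Q ⊓ Subgroup.centralizer (D : Set G) := by
    rw [← hCQ]
    intro g hg
    refine ⟨hg.1, Subgroup.mem_centralizer_iff.2 fun a ha => ?_⟩
    have hnA := (PF12Base.Pair.structure18 h.toPPair.toPair).1 hg.2
    have hm : g * a * g⁻¹ * a⁻¹ ∈ Q ⊓ D := by
      refine ⟨?_, D.mul_mem (h.AD ((Subgroup.mem_normalizer_iff.1 hnA a).1 ha)) (D.inv_mem (h.AD ha))⟩
      have : g * a * g⁻¹ * a⁻¹ = g * (a * g⁻¹ * a⁻¹) := by group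
      rw [this]
      exact Q.mul_mem hg.1 ((Subgroup.mem_normalizer_iff.1 (h.Qn (h.DL (h.AD ha))) _).1 (Q.inv_mem hg.1))
    rw [h.QD.2.2.1, Subgroup.mem_bot, mul_inv_eq_one, mul_inv_eq_iff_eq_mul] at hm
    exact hm.symm
  have h1 := Subgroup.relIndex_mul_relIndex _ _ (M ⊓ L) bot_le (inf_le_right : Q ⊓ (M ⊓ L) ≤ M ⊓ L)
  rw [Subgroup.relIndex_bot_left, Subgroup.relIndex_bot_left, Subgroup.inf_relIndex_right] at h1
  rw [← h1]
  refine Nat.mul_le_mul (Subgroup.card_le_of_le hEQ) ?_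
  rw [← (relIndex_of_isComplIn h.QD).1]
  exact Subgroup.relIndex_le_of_le_right hEσ Subgroup.index_ne_zero_of_finite

/-- The case of a non-abelian Sylow `p`-subgroup. -/
theorem false_of_nonabelian (h : Data M L A p x k K Q D S z) (hS : ¬ ∀ a ∈ S, ∀ b ∈ S, a * b = b * a) :
    False := by
  haveI := Fact.mk h.hp
  haveI hAc : IsMulCommutative A := h.hA.1
  haveI hSnil : Group.IsNilpotent S := h.Sp.isNilpotent
  have hx : ∃ s ∈ S, x * s ≠ s * x := by
    by_contra hno
    push Not at hno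
    have hSE : S ≤ M ⊓ L := le_inf
      (fun s hs => h.xC (Subgroup.mem_centralizer_singleton_iff.2 (hno s hs).symm)) (h.SD.trans h.DL)
    exact hS fun a ha b hb => congrArg Subtype.val ((h.E_comm hSE hSnil).is_comm.comm ⟨a, ha⟩ ⟨b, hb⟩)
  set Z₀ := A ⊓ Subgroup.centralizer (S : Set G) with hZ₀
  have hcen : ∀ y ∈ S, (∀ s ∈ S, y * s = s * y) → y ^ p = 1 → y ∈ Z₀ := fun y hy hc hyp =>
    ⟨h.mem_A_of_pow (Subgroup.mem_centralizer_iff.2 fun a ha => (hc a (h.AS' ha)).symm) hyp,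
      Subgroup.mem_centralizer_iff.2 fun s hs => (hc s hs).symm⟩
  haveI : Nontrivial S := (Subgroup.nontrivial_iff_ne_bot _).2 fun e => h.x_ne (by
    have := h.AS' h.xA
    rwa [e, Subgroup.mem_bot] at this)
  obtain ⟨z₀, hz₀S, hz₀o, hz₀c⟩ : ∃ y ∈ S, orderOf y = p ∧ ∀ s ∈ S, y * s = s * y := by
    haveI : Nontrivial (Subgroup.center S) := h.Sp.center_nontrivial
    obtain ⟨n, hn⟩ := IsPGroup.iff_card.1 (h.Sp.to_subgroup (Subgroup.center S))
    obtain ⟨y, hy⟩ := exists_prime_orderOf_dvd_card' (G := Subgroup.center S) p (by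
      rcases n with _ | n
      · exact absurd (hn.trans (pow_zero p)) Finite.one_lt_card.ne'
      · exact hn ▸ dvd_pow_self p n.succ_ne_zero)
    refine ⟨((y : S) : G), (y : S).2, by rw [Subgroup.orderOf_coe, Subgroup.orderOf_coe, hy], fun s hs => ?_⟩
    exact congrArg Subtype.val (Subgroup.mem_center_iff.1 y.2 ⟨s, hs⟩).symm
  have hz₀1 : z₀ ≠ 1 := fun e => h.hp.ne_one (by rw [← hz₀o, e, orderOf_one])
  have hz₀Z : z₀ ∈ Z₀ := hcen z₀ hz₀S hz₀c (hz₀o ▸ pow_orderOf_eq_one z₀)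
  have hz₀A : z₀ ∈ A := hz₀Z.1
  have hsmall : ∀ X : Subgroup G, X < A → z₀ ∈ X → X = Subgroup.zpowers z₀ := by
    intro X hX hz
    obtain ⟨j, hj, hjc⟩ := (Nat.dvd_prime_pow h.hp).1 (h.hAc ▸ Subgroup.card_dvd_of_le hX.le)
    refine (Subgroup.eq_of_le_of_card_ge (Subgroup.zpowers_le.2 hz) ?_).symm
    rw [Nat.card_zpowers, hz₀o, hjc]
    rcases Nat.lt_or_ge j 2 with hj2 | hj2
    · calc p ^ j ≤ p ^ 1 := Nat.pow_le_pow_right h.hp.pos (by omega)
        _ = p := pow_one p
    · exact absurd (Subgroup.eq_of_le_of_card_ge hX.le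
        (by rw [hjc, h.hAc]; exact Nat.pow_le_pow_right h.hp.pos hj2)) hX.ne
  have hZeq : Z₀ = Subgroup.zpowers z₀ := by
    refine hsmall Z₀ (lt_of_le_of_ne inf_le_left fun e => ?_) hz₀Z
    obtain ⟨s, hs, hxs⟩ := hx
    exact hxs (Subgroup.mem_centralizer_iff.1 (e.ge h.xA).2 s hs).symm
  have hZD : ∀ d ∈ D, z₀ * d = d * z₀ := by
    intro d hd
    obtain ⟨s, hs, t, ht, htp, rfl⟩ := h.exists_decomp_D hd
    exact ((show Commute z₀ s from hz₀c s hs).mul_right (show Commute z₀ t from (h.central ht htp (h.SD hz₀S)).symm)).eq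
  have hzZ : z ∈ Subgroup.normalizer (Z₀ : Set G) := by
    refine CoprimeAction.le_normalizer_of_conj_mem (A := Subgroup.zpowers z) ?_ (Subgroup.mem_zpowers z)
    intro b hb y hy
    have hbS := Subgroup.zpowers_le.2 h.zS hb
    refine hcen _ ((Subgroup.mem_normalizer_iff.1 hbS y).1 (h.AS' hy.1)) (fun s hs => ?_) (by
      rw [conj_pow, h.hA.2 y hy.1]; group)
    have h1 := Subgroup.mem_centralizer_iff.1 hy.2 _ (CoprimeAction.conj_mem' hbS hs)
    calc b * y * b⁻¹ * s = b * (y * (b⁻¹ * s * b)) * b⁻¹ := by group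
      _ = b * (b⁻¹ * s * b * y) * b⁻¹ := by rw [h1]
      _ = s * (b * y * b⁻¹) := by group
  have hZcard : Nat.card Z₀ = p := by rw [hZeq, Nat.card_zpowers, hz₀o]
  have hdvd : Nat.card K ∣ p - 1 := hZcard ▸
    dvd_card_sub_one h.qprime h.zo hzZ fun y hy hc => h.fix_D (h.AD hy.1) hc
  have hodd : Odd p := h.hG.1.of_dvd_nat (h.x_order ▸ orderOf_dvd_natCard x)
  have hep : 2 * Nat.card K ≤ p - 1 := by
    obtain ⟨a, ha⟩ := hodd
    obtain ⟨c, hc⟩ := odd_card h.hG K
    obtain ⟨j, hj⟩ := hdvd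
    have hp2 := h.hp.two_le
    rcases j with _ | _ | j
    · omega
    · omega
    · nlinarith
  have hqp : Nat.card K < p := by have := h.qprime.two_le; omega
  have hCn : L ≤ Subgroup.normalizer ((Q ⊓ Subgroup.centralizer (Z₀ : Set G) : Subgroup G) : Set G) := by
    refine h.invariant (h.Q_self inf_le_left) (CoprimeAction.le_normalizer_inf (h.DL.trans h.Qn)
      (le_trans ?_ (normalizer_le_normalizer_centralizer Z₀)))
      (CoprimeAction.le_normalizer_inf (A := Subgroup.zpowers z) ((Subgroup.zpowers_le.2 h.zL).trans h.Qn)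
        (Subgroup.zpowers_le.2 (normalizer_le_normalizer_centralizer Z₀ hzZ)) (Subgroup.mem_zpowers z))
    refine le_trans ?_ (Subgroup.centralizer_le_normalizer _)
    rw [hZeq, PF12Base.centralizer_zpowers_eq]
    exact fun d hd => Subgroup.mem_centralizer_singleton_iff.2 (hZD d hd).symm
  rcases h.eq_or_eq (fun c hc => show c ∈ Q ⊓ Subgroup.centralizer (Z₀ : Set G) from
      ⟨hc.1, Subgroup.mem_centralizer_iff.2 fun y hy => (h.Q0_central hc (h.AS hy.1)).symm⟩)
      inf_le_left hCn with e | e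
  · -- then the `p` lines of `A` other than `Z₀` give too large a group
    have hfixR : ∀ v ∈ ⁅Q, S⁆, Commute z₀ v → v = 1 := by
      intro v hv hc
      have h1 : v ∈ ⁅Q, S⁆ ⊓ (Q ⊓ Subgroup.centralizer (D : Set G)) := by
        refine ⟨hv, ?_⟩
        rw [← e, hZeq, PF12Base.centralizer_zpowers_eq]
        exact ⟨h.R_le hv, Subgroup.mem_centralizer_singleton_iff.2 hc.eq.symm⟩
      rwa [h.R_inf, Subgroup.mem_bot] at h1
    have hgen : ∀ y ∈ Subgroup.zpowers z₀, y ≠ 1 → ∀ v : G, Commute y v → Commute z₀ v := by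
      intro y hy hy1 v hc
      have h1 : (⟨z₀, Subgroup.mem_zpowers z₀⟩ : Subgroup.zpowers z₀) ∈
          Subgroup.zpowers (⟨y, hy⟩ : Subgroup.zpowers z₀) :=
        mem_zpowers_of_prime_card ((Nat.card_zpowers z₀).trans hz₀o) fun e' => hy1 (congrArg Subtype.val e')
      obtain ⟨i, hi⟩ := Subgroup.mem_zpowers_iff.1 h1
      rw [← show y ^ i = z₀ from congrArg Subtype.val hi]
      exact hc.zpow_left i
    have hAR : A ≤ Subgroup.normalizer ((⁅Q, S⁆ : Subgroup G) : Set G) := h.AL.trans h.R_normal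
    have hncyc : ¬ IsCyclic A := fun hcyc => by
      have h1 : Monoid.exponent A ∣ p :=
        Monoid.exponent_dvd_of_forall_pow_eq_one fun a => Subtype.ext (h.hA.2 a a.2)
      rw [IsCyclic.exponent_eq_card, h.hAc] at h1
      have h2 := Nat.le_of_dvd h.hp.pos h1
      have := h.hp.two_le
      nlinarith
    have hcop : (Nat.card A).Coprime (Nat.card ↥(⁅Q, S⁆ : Subgroup G)) := by
      rw [h.hAc, h.card_R]
      exact ((Nat.coprime_primes h.hp h.wprime).2 h.pw).pow _ _
    obtain ⟨a, haA, ha1, v₀, hv₀R, hv₀1, hav⟩ :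
        ∃ a ∈ A, a ≠ 1 ∧ ∃ v ∈ ⁅Q, S⁆, v ≠ 1 ∧ Commute a v := by
      by_contra hno
      push Not at hno
      refine h.R_ne_bot (le_bot_iff.1 (CoprimeGen.le_of_centralizers hncyc hAR hcop ?_))
      intro a ha ha1 v hv
      rw [Subgroup.mem_bot]
      by_contra hv1
      exact hno a ha ha1 v hv.1 hv1 (Subgroup.mem_centralizer_singleton_iff.1 hv.2).symm
    have haZ : a ∉ Subgroup.zpowers z₀ := fun haZ => hv₀1 (hfixR v₀ hv₀R (hgen a haZ ha1 v₀ hav))
    -- an element of `S` normalising `A` and not centralising it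
    obtain ⟨s, hsS, hsC, hsA⟩ : ∃ s ∈ S, s ∉ Subgroup.centralizer (A : Set G) ∧
        s ∈ Subgroup.normalizer (A : Set G) := by
      set C := (Subgroup.centralizer (A : Set G)).subgroupOf S with hC
      have hCt : C < ⊤ := lt_top_iff_ne_top.2 fun e' => by
        obtain ⟨s, hs, hxs⟩ := hx
        exact hxs (Subgroup.mem_centralizer_iff.1 (e'.ge (Subgroup.mem_top (⟨s, hs⟩ : S))) x h.xA)
      obtain ⟨s, hsN, hsC⟩ := SetLike.exists_of_lt (Group.normalizerCondition_of_isNilpotent C hCt)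
      refine ⟨s, s.2, hsC, ?_⟩
      have key : ∀ t : S, t ∈ Subgroup.normalizer (C : Set ↥S) → ∀ y ∈ A, (t : G) * y * (t : G)⁻¹ ∈ A := by
        intro t ht y hy
        refine h.mem_A_of_pow ((Subgroup.mem_normalizer_iff.1 ht ⟨y, h.AS' hy⟩).1
          (Subgroup.mem_centralizer_iff.2 fun b hb => congrArg Subtype.val
            (hAc.is_comm.comm ⟨b, hb⟩ ⟨y, hy⟩))) ?_
        rw [conj_pow, h.hA.2 y hy, mul_one, mul_inv_cancel]
      rw [Subgroup.mem_normalizer_iff]
      refine fun y => ⟨key s hsN y, fun hy => ?_⟩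
      have h1 := key s⁻¹ (Subgroup.inv_mem _ hsN) _ hy
      simpa [mul_assoc] using h1
    have has : a * s ≠ s * a := by
      intro hc
      refine hsC (Subgroup.mem_centralizer_iff.2 fun y hy => ?_)
      have hlt : A ⊓ Subgroup.centralizer ({s} : Set G) = A := by
        by_contra hne
        have h1 := hsmall _ (lt_of_le_of_ne inf_le_left hne)
          ⟨hz₀A, Subgroup.mem_centralizer_singleton_iff.2 (hz₀c s hsS)⟩
        exact haZ (h1.le ⟨haA, Subgroup.mem_centralizer_singleton_iff.2 hc⟩)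
      exact Subgroup.mem_centralizer_singleton_iff.1 (hlt.ge hy).2
    -- the commutator of `s` and `a`
    set I := ⁅A, Subgroup.zpowers s⁆ with hI
    have hsn : Subgroup.zpowers s ≤ Subgroup.normalizer (A : Set G) := Subgroup.zpowers_le.2 hsA
    have hIA : I ≤ A := CoprimeAction.commutator_le_self_of_le_normalizer hsn
    have hsle : Subgroup.zpowers s ≤ S := Subgroup.zpowers_le.2 hsS
    have hA1 : A ≠ ⊥ := fun e' => h.x_ne (by have := h.xA; rwa [e', Subgroup.mem_bot] at this)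
    have hIlt : I < A := lt_of_le_of_ne hIA fun e' => hA1
      (CoprimeGen.eq_bot_of_le_commutator h.AS' (e'.ge.trans (Subgroup.commutator_mono le_rfl hsle)))
    set z₁ := ⁅a, s⁆ with hz₁
    have hz₁I : z₁ ∈ I := Subgroup.commutator_mem_commutator haA (Subgroup.mem_zpowers s)
    have hz₁1 : z₁ ≠ 1 := fun e' => has (commutatorElement_eq_one_iff_mul_comm.1 e')
    have hIp : Nat.card I = p := by
      obtain ⟨j, hj, hjc⟩ := (Nat.dvd_prime_pow h.hp).1 (h.hAc ▸ Subgroup.card_dvd_of_le hIA)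
      rcases j with _ | _ | j
      · exfalso
        rw [pow_zero, Subgroup.card_eq_one] at hjc
        exact hz₁1 (Subgroup.mem_bot.1 (hjc ▸ hz₁I))
      · rw [hjc]; exact pow_one p
      · exfalso
        obtain rfl : j = 0 := by omega
        exact hIlt.ne (Subgroup.eq_of_le_of_card_ge hIA (by rw [hjc, h.hAc]))
    have hIc : Subgroup.zpowers s ≤ Subgroup.centralizer (I : Set G) := by
      have hsI : Subgroup.zpowers s ≤ Subgroup.normalizer (I : Set G) := fun b hb =>
        mem_normalizer_commutator (hsn hb) (Subgroup.le_normalizer hb)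
      have h2 : ⁅I, Subgroup.zpowers s⁆ = ⊥ := by
        have hle : ⁅I, Subgroup.zpowers s⁆ ≤ I := CoprimeAction.commutator_le_self_of_le_normalizer hsI
        rcases (Nat.dvd_prime h.hp).1 (hIp ▸ Subgroup.card_dvd_of_le hle) with h1 | h1
        · exact Subgroup.card_eq_one.1 h1
        · exfalso
          have h3 := Subgroup.eq_of_le_of_card_ge hle (by rw [h1, hIp])
          have h4 := CoprimeGen.eq_bot_of_le_commutator (hIA.trans h.AS')
            (h3.ge.trans (Subgroup.commutator_mono le_rfl hsle))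
          exact hz₁1 (Subgroup.mem_bot.1 (h4 ▸ hz₁I))
      rw [Subgroup.commutator_comm] at h2
      exact Subgroup.commutator_eq_bot_iff_le_centralizer.1 h2
    have hz₁s : Commute s z₁ := (Subgroup.mem_centralizer_iff.1 (hIc (Subgroup.mem_zpowers s)) z₁ hz₁I).symm
    have hz₁Z : z₁ ∈ Subgroup.zpowers z₀ := by
      have h1 := hsmall (A ⊓ Subgroup.centralizer ({s} : Set G)) (lt_of_le_of_ne inf_le_left fun e' => has
        (Subgroup.mem_centralizer_singleton_iff.1 (e'.ge haA).2))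
        ⟨hz₀A, Subgroup.mem_centralizer_singleton_iff.2 (hz₀c s hsS)⟩
      exact h1.le ⟨hIA hz₁I, Subgroup.mem_centralizer_singleton_iff.2 hz₁s.symm.eq⟩
    have hAcomm : ∀ u ∈ A, ∀ v ∈ A, Commute u v := fun u hu v hv =>
      congrArg Subtype.val (hAc.is_comm.comm ⟨u, hu⟩ ⟨v, hv⟩)
    set t := z₁⁻¹ with ht
    have htA : t ∈ A := A.inv_mem (hIA hz₁I)
    have hto : orderOf t = p := by
      rw [ht, orderOf_inv]
      exact orderOf_eq_prime (h.hA.2 _ (hIA hz₁I)) hz₁1
    have hconj : ∀ i : ℕ, s ^ i * a * (s ^ i)⁻¹ = a * t ^ i := by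
      intro i
      induction i with
      | zero => simp
      | succ i ih =>
        have e1 : s * a * s⁻¹ = a * t := by
          rw [(hAcomm a haA t htA).eq, ht, hz₁, commutatorElement_def]
          group
        have e2 : s * t ^ i * s⁻¹ = t ^ i := by
          rw [(hz₁s.inv_right.pow_right i).eq, mul_inv_cancel_right]
        calc s ^ (i + 1) * a * (s ^ (i + 1))⁻¹ = s * (s ^ i * a * (s ^ i)⁻¹) * s⁻¹ := by
              rw [pow_succ']; group
          _ = (s * a * s⁻¹) * (s * t ^ i * s⁻¹) := by rw [ih]; group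
          _ = a * t ^ (i + 1) := by rw [e1, e2, pow_succ', mul_assoc]
    have hsR : s ∈ Subgroup.normalizer ((⁅Q, S⁆ : Subgroup G) : Set G) := h.R_normal (h.DL (h.SD hsS))
    have hbound := pow_le_card_of_lines (R := (⁅Q, S⁆ : Subgroup G)) (a := a) (z := t) (p := p)
      (w := Nat.card ↥(sigmaCore L ⊓ Subgroup.centralizer (K : Set G))) h.hp
      (fun u hu v hv => h.Q_comm (h.R_le hu) (h.R_le hv)) hto (hAcomm a haA t htA) (hAR haA) (hAR htA)
      (fun v hv hc => hfixR v hv (hgen t (Subgroup.inv_mem _ hz₁Z) (by rw [ht]; exact inv_ne_one.2 hz₁1) v hc))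
      (fun v hv hv1 => by
        haveI := Fact.mk h.wprime
        rw [orderOf_eq_prime (h.R_pow hv) hv1])
      (fun i _ => ⟨s ^ i * v₀ * (s ^ i)⁻¹,
        (Subgroup.mem_normalizer_iff.1 (Subgroup.pow_mem _ hsR i) v₀).1 hv₀R, fun e' => hv₀1 (conj_eq_one_iff.1 e'),
        by
          rw [← hconj i]
          exact (Commute.conj_iff (s ^ i)).2 hav⟩)
    rw [h.card_R] at hbound
    have h3 := (Nat.pow_le_pow_iff_right h.wprime.one_lt).1 hbound
    omega
  · -- then `Q ⊔ Z₀` is abelian and normal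
    have hQZ : ∀ b ∈ Q, ∀ y ∈ Z₀, Commute b y := fun b hb y hy =>
      (Subgroup.mem_centralizer_iff.1 (e.ge hb).2 y hy).symm
    have hZQ : Z₀ ≤ Subgroup.normalizer (Q : Set G) := (inf_le_left.trans h.AL).trans h.Qn
    have hQZn : Q ≤ Subgroup.normalizer (Z₀ : Set G) :=
      (e.ge.trans inf_le_right).trans (Subgroup.centralizer_le_normalizer _)
    have hZn : L ≤ Subgroup.normalizer (Z₀ : Set G) := h.invariant hQZn (by
      refine le_trans ?_ (Subgroup.centralizer_le_normalizer _)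
      rw [hZeq, PF12Base.centralizer_zpowers_eq]
      exact fun d hd => Subgroup.mem_centralizer_singleton_iff.2 (hZD d hd).symm) hzZ
    have hc : IsComplIn Q Z₀ (Q ⊔ Z₀) := ⟨le_sup_left, le_sup_right, le_bot_iff.1
      (le_trans (inf_le_inf_left _ (inf_le_left.trans h.AD)) h.QD.2.2.1.le), fun m hm => by
        rw [← SetLike.mem_coe, Subgroup.coe_mul_of_right_le_normalizer_left _ _ hZQ] at hm
        obtain ⟨b, hb, y, hy, hby⟩ := Set.mem_mul.1 hm
        exact ⟨b, hb, y, hy, hby.symm⟩⟩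
    have hNσ : Q ⊔ Z₀ ≤ sigmaCore L := sup_le h.Qσ (inf_le_left.trans h.AS)
    refine h.false_of_bounds (by omega) (fun _ => hep) (Or.inr ⟨Q ⊔ Z₀, hNσ, fun g hg =>
      CoprimeAction.mem_normalizer_of_conj_smul_eq (by
        rw [Subgroup.smul_sup, CoprimeSZ.conj_smul_eq_self (h.Qn hg), CoprimeSZ.conj_smul_eq_self (hZn hg)]),
      fun u hu v hv => ?_, ?_⟩)
    · obtain ⟨b, hb, y, hy, rfl⟩ := hc.2.2.2 u hu
      obtain ⟨b', hb', y', hy', rfl⟩ := hc.2.2.2 v hv
      have hyy : Commute y y' := congrArg Subtype.val (hAc.is_comm.comm ⟨y, hy.1⟩ ⟨y', hy'.1⟩)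
      exact (((show Commute b b' from h.Q_comm hb hb').mul_right (hQZ b hb y' hy')).mul_left
        ((hQZ b' hb' y hy).symm.mul_right hyy)).eq
    · have h1 := Subgroup.relIndex_mul_relIndex _ _ (sigmaCore L) bot_le hNσ
      rw [Subgroup.relIndex_bot_left, Subgroup.relIndex_bot_left, ← card_mul_of_isComplIn hc, hZcard,
        ← card_mul_of_isComplIn h.QD, mul_assoc] at h1
      have h2 := Nat.eq_of_mul_eq_mul_left Nat.card_pos h1
      have h0 : 0 < Nat.card ↥(Q ⊓ Subgroup.centralizer (D : Set G)) := Nat.card_pos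
      calc 2 * Nat.card K * (Q ⊔ Z₀).relIndex (sigmaCore L) ≤ p * (Q ⊔ Z₀).relIndex (sigmaCore L) :=
            Nat.mul_le_mul_right _ (by omega)
        _ = Nat.card D := h2
        _ ≤ _ := Nat.le_mul_of_pos_left _ h0

end Data

theorem false_of_caseIII {M L A K : Subgroup G} {p : ℕ} {x k : G} (P : PPair M L A p x k K)
    (hne : fittingHallOf L ≠ sigmaCore L) : False := by
  obtain ⟨Q, D, S, z, h⟩ := exists_data P hne
  by_cases hS : ∀ a ∈ S, ∀ b ∈ S, a * b = b * a
  · exact h.false_of_abelian hS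
  · exact h.false_of_nonabelian hS

end Cfsg.Agent.PF12CaseIII
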