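import Mathlib
import Cfsg.Agent.Lib.PF12TypeP43
import Cfsg.Agent.Lib.BGNonTI
import Cfsg.Agent.Lib.HallCore
import Cfsg.Agent.Lib.FrobeniusNilpotent
import Cfsg.Agent.S1420

/-!
Peterfalvi, Section 12: the second maximal subgroup is of type P with nilpotent sigma core.
-/

set_option autoImplicit false
set_option linter.unusedSectionVars false
set_option linter.style.haveILetI false

open scoped Pointwise commutatorElement Classical

namespace Cfsg.Agent.PF12CaseV

open Cfsg Cfsg.Agent.BGTypeBasic Cfsg.Agent.PF12TypeP Cfsg.Agent.CharBasic Cfsg.Agent.CharBasicDecomp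

universe u

section

variable {X : Type u} [Group X] [Finite X] [Group.IsNilpotent X] (p : ℕ) [Fact p.Prime]

theorem sup_cores : pCore p X ⊔ pPrimeCore p X = ⊤ := by
  obtain ⟨S, N, hN, hc⟩ := FrobeniusNilpotent.hasNormalPComplement_of_isNilpotent (G := X) (p := p)
  haveI := hN
  haveI : (S : Subgroup X).Normal :=
    Sylow.normal_of_normalizerCondition Group.normalizerCondition_of_isNilpotent S
  refine top_le_iff.1 (hc.sup_eq_top.ge.trans (sup_le ?_ ?_))
  · refine le_sup_of_le_right (le_sSup ⟨hN, ?_⟩)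
    obtain ⟨j, hj⟩ := IsPGroup.iff_card.1 S.isPGroup'
    rw [← hc.index_eq_card]
    exact ((Nat.Prime.coprime_iff_not_dvd Fact.out).2 S.not_dvd_index).symm
  · exact le_sup_of_le_left (le_sSup ⟨inferInstance, S.isPGroup'⟩)

/-- A cyclic `p'`-part is central, with index a power of `p`. -/
theorem central_of_cyclic (h : IsCyclic (pPrimeCore p X)) :
    (∀ b ∈ pPrimeCore p X, ∀ y : X, b * y = y * b) ∧ ∃ m, (pPrimeCore p X).index = p ^ m := by
  refine ⟨fun b hb y => ?_, ?_⟩
  · have : pCore p X ⊔ pPrimeCore p X ≤ Subgroup.centralizer ({b} : Set X) := by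
      refine sup_le (fun a ha => ?_) fun a ha => ?_
      · rw [Subgroup.mem_centralizer_singleton_iff]
        exact (HallCore.commute_pCore_pPrimeCore ha hb).eq
      · rw [Subgroup.mem_centralizer_singleton_iff]
        exact congrArg Subtype.val (IsCyclic.commGroup.mul_comm (⟨a, ha⟩ : pPrimeCore p X) ⟨b, hb⟩)
    exact (Subgroup.mem_centralizer_singleton_iff.1 (this ((sup_cores (X := X) p).symm ▸ Subgroup.mem_top y))).symm
  · obtain ⟨m, hm⟩ := IsPGroup.iff_card.1 (HallCore.isPGroup_pCore p X)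
    refine ⟨m, ?_⟩
    rw [← hm, ← Subgroup.relIndex_top_right, ← sup_cores (X := X) p, Subgroup.relIndex_sup_right,
      ← Subgroup.inf_relIndex_right, inf_comm, HallCore.pCore_inf_pPrimeCore, Subgroup.relIndex_bot_left]

theorem decompose (y : X) : ∃ a ∈ pCore p X, ∃ b ∈ pPrimeCore p X, y = a * b := by
  obtain ⟨a, ha, b, hb, h⟩ := Subgroup.mem_sup_of_normal_left.1
    (sup_cores (X := X) p ▸ Subgroup.mem_top y)
  exact ⟨a, ha, b, hb, h.symm⟩

/-- With a cyclic `p'`-part the derived group is that of the `p`-part. -/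
theorem commutator_le_map (h : IsCyclic (pPrimeCore p X)) :
    commutator X ≤ (commutator ↥(pCore p X)).map (pCore p X).subtype := by
  rw [commutator_def, Subgroup.commutator_le]
  intro y _ z _
  obtain ⟨a, ha, b, hb, rfl⟩ := decompose p y
  obtain ⟨c, hc, d, hd, rfl⟩ := decompose p z
  have hb' := (central_of_cyclic p h).1 b hb
  have hd' := (central_of_cyclic p h).1 d hd
  refine ⟨⁅(⟨a, ha⟩ : pCore p X), ⟨c, hc⟩⁆, Subgroup.commutator_mem_commutator (Subgroup.mem_top _)
    (Subgroup.mem_top _), ?_⟩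
  rw [map_commutatorElement]
  show ⁅a, c⁆ = ⁅a * b, c * d⁆
  calc ⁅a, c⁆ = a * c * a⁻¹ * c⁻¹ * (b * b⁻¹) * (d * d⁻¹) := by rw [commutatorElement_def]; group
    _ = a * (b * (c * (d * (b⁻¹ * (a⁻¹ * (d⁻¹ * c⁻¹)))))) := by
      rw [← mul_assoc b c, hb' c, mul_assoc c b, ← mul_assoc b d, hb' d, mul_assoc d b,
        ← mul_assoc b b⁻¹, mul_inv_cancel, one_mul, ← mul_assoc d a⁻¹, hd' a⁻¹, mul_assoc a⁻¹ d,
        ← mul_assoc d d⁻¹, mul_inv_cancel, one_mul]
      group
    _ = _ := by rw [commutatorElement_def]; group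

/-- The derived group of a non-abelian group of order `p ^ 3` has order dividing `p`. -/
theorem card_commutator_dvd {Y : Type u} [Group Y] [Finite Y] (hY : Nat.card Y = p ^ 3)
    (hna : ¬ IsMulCommutative Y) : Nat.card (commutator Y) ∣ p := by
  have hp : p.Prime := Fact.out
  have hpg : IsPGroup p Y := IsPGroup.of_card hY
  haveI : Nontrivial Y := Finite.one_lt_card_iff_nontrivial.1
    (by rw [hY]; exact Nat.one_lt_pow (by decide) hp.one_lt)
  haveI := hpg.center_nontrivial
  obtain ⟨j, -, hj'⟩ := (Nat.dvd_prime_pow hp).1 (hY ▸ Subgroup.card_subgroup_dvd_card (Subgroup.center Y))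
  have hj1 : 1 ≤ j := Nat.one_le_iff_ne_zero.2 fun e => by
    have := Finite.one_lt_card (α := Subgroup.center Y)
    rw [hj', e, pow_zero] at this
    omega
  have hmul := (Subgroup.center Y).index_mul_card
  rw [hY, hj'] at hmul
  have hj3 : j ≤ 3 := (Nat.pow_dvd_pow_iff_le_right hp.one_lt).1 (Dvd.intro_left _ hmul)
  have hidx : (Subgroup.center Y).index = p ^ (3 - j) := by
    refine Nat.eq_of_mul_eq_mul_right (pow_pos hp.pos j) ?_
    rw [hmul, ← pow_add, Nat.sub_add_cancel hj3]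
  have hcomm : ∀ h : IsCyclic (Y ⧸ Subgroup.center Y), False := fun h => hna <|
    ⟨⟨fun a b => commutative_of_cyclic_center_quotient (QuotientGroup.mk' (Subgroup.center Y))
      (by rw [QuotientGroup.ker_mk']) a b⟩⟩
  have hj2 : j = 1 := by
    by_contra hne
    rcases eq_or_ne j 2 with rfl | h2
    · exact hcomm (isCyclic_of_prime_card (p := p) (hidx.trans (pow_one p)))
    · obtain rfl : j = 3 := by omega
      haveI : Subsingleton (Y ⧸ Subgroup.center Y) :=
        Finite.card_le_one_iff_subsingleton.1 (by rw [← Subgroup.index, hidx]; simp)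
      exact hcomm inferInstance
  subst hj2
  refine (Subgroup.card_dvd_of_le ?_).trans (dvd_of_eq (hj'.trans (pow_one p)))
  have hab := IsPGroup.commutative_of_card_eq_prime_sq (G := Y ⧸ Subgroup.center Y) (p := p) hidx
  rw [← QuotientGroup.ker_mk' (Subgroup.center Y), commutator_def, Subgroup.commutator_le]
  intro a _ b _
  rw [MonoidHom.mem_ker, map_commutatorElement, commutatorElement_eq_one_iff_mul_comm]
  exact hab _ _

/-- An element of prime order `r ∤ p - 1` fixing a non-trivial element of an elementary abelian group of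
order `p ^ 2` centralises it. -/
theorem centralizes_of_fix {G : Type u} [Group G] [Finite G] {A : Subgroup G}
    (hA : IsElementaryAbelian p A) (hAc : Nat.card A = p ^ 2) {z : G}
    (hz : z ∈ Subgroup.normalizer (A : Set G)) {r : ℕ} (hr : r.Prime) (hzo : orderOf z = r) (hrp : r ≠ p)
    (hr1 : ¬ r ∣ p - 1) {v : G} (hv : v ∈ A) (hv1 : v ≠ 1) (hzv : z * v = v * z) :
    ∀ a ∈ A, z * a = a * z := by
  have hp : p.Prime := Fact.out
  haveI : IsMulCommutative A := hA.1
  have hvo : orderOf v = p := orderOf_eq_prime (hA.2 v hv) hv1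
  set V : Subgroup A := Subgroup.zpowers (⟨v, hv⟩ : A) with hV
  haveI : V.Normal := ⟨fun n hn g => by rw [mul_comm' g n, mul_inv_cancel_right]; exact hn⟩
  have hcard : Nat.card (A ⧸ V) = p := by
    have h := V.index_mul_card
    rw [hAc, Nat.card_zpowers, ← Subgroup.orderOf_coe, hvo, sq] at h
    exact Nat.eq_of_mul_eq_mul_right hp.pos h
  haveI := isCyclic_of_prime_card hcard
  let α : MulAut A :=
    { toFun := fun a => ⟨z * a * z⁻¹, (Subgroup.mem_normalizer_iff.1 hz a).1 a.2⟩
      invFun := fun a => ⟨z⁻¹ * a * z, by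
        have := (Subgroup.mem_normalizer_iff.1 (Subgroup.inv_mem _ hz) a).1 a.2
        simpa using this⟩
      left_inv := fun a => Subtype.ext (by simp [mul_assoc])
      right_inv := fun a => Subtype.ext (by simp [mul_assoc])
      map_mul' := fun a b => Subtype.ext (by simp [mul_assoc]) }
  have hαv : V.map (α : A →* A) = V := by
    rw [hV, MonoidHom.map_zpowers]
    congr 1
    refine Subtype.ext ?_
    show z * v * z⁻¹ = v
    rw [hzv, mul_inv_cancel_right]
  let β : MulAut (A ⧸ V) := QuotientGroup.congr V V α hαv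
  have hαpow : ∀ (i : ℕ) (a : A), (((α ^ i) a : A) : G) = z ^ i * a * (z ^ i)⁻¹ := by
    intro i
    induction i with
    | zero => intro a; simp
    | succ i ih =>
      intro a
      rw [pow_succ', MulAut.mul_apply]
      show z * (((α ^ i) a : A) : G) * z⁻¹ = _
      rw [ih, pow_succ']
      group
  have hβpow : ∀ (i : ℕ) (a : A), (β ^ i) (a : A ⧸ V) = (((α ^ i) a : A) : A ⧸ V) := by
    intro i
    induction i with
    | zero => intro a; rfl
    | succ i ih => intro a; rw [pow_succ', MulAut.mul_apply, ih, pow_succ', MulAut.mul_apply]; rfl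
  have hβr : β ^ r = 1 := MulEquiv.ext fun q => by
    obtain ⟨a, rfl⟩ := QuotientGroup.mk_surjective q
    rw [hβpow]
    congr 1
    refine Subtype.ext ?_
    rw [hαpow, ← hzo, pow_orderOf_eq_one]
    simp
  have hβ1 : β = 1 := by
    rcases (Nat.dvd_prime hr).1 (orderOf_dvd_of_pow_eq_one hβr) with h | h
    · exact orderOf_eq_one_iff.1 h
    · refine absurd ?_ hr1
      have := orderOf_dvd_natCard β
      rwa [h, IsCyclic.card_mulAut, hcard, Nat.totient_prime hp] at this
  intro a ha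
  have h1 : (α ⟨a, ha⟩ : A ⧸ V) = ((⟨a, ha⟩ : A) : A ⧸ V) := by
    show β ((⟨a, ha⟩ : A) : A ⧸ V) = _
    rw [hβ1]; rfl
  rw [QuotientGroup.eq] at h1
  obtain ⟨i, hi⟩ := Subgroup.mem_zpowers_iff.1 h1
  have h2 : (z * a * z⁻¹)⁻¹ * a = v ^ i := (congrArg Subtype.val hi).symm
  obtain ⟨c, hc, hac⟩ := CoprimeAction.exists_fixed_mem_coset_zpowers (a := z) (D := Subgroup.zpowers v)
    (by
      refine Subgroup.centralizer_le_normalizer _ ?_
      rintro _ ⟨j, rfl⟩
      exact ((show Commute z v from hzv).zpow_right j).eq.symm)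
    (by rw [hzo, Nat.card_zpowers, hvo]; exact (Nat.coprime_primes hr hp).2 hrp) a⁻¹
    ⟨i, by
      have hc' : Commute a (v ^ i) :=
        Commute.zpow_right (congrArg Subtype.val (mul_comm' (⟨a, ha⟩ : A) ⟨v, hv⟩)) i
      show v ^ i = a⁻¹⁻¹ * z * a⁻¹ * z⁻¹
      rw [inv_inv]
      calc v ^ i = a * v ^ i * a⁻¹ := by rw [hc'.eq, mul_inv_cancel_right]
        _ = _ := by rw [← h2]; group⟩
  rw [inv_inv] at hac
  obtain ⟨j, hj⟩ := Subgroup.mem_zpowers_iff.1 hac
  have hca : a = v ^ j * c⁻¹ := by rw [hj, mul_inv_cancel_right]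
  rw [hca]
  exact (((show Commute z v from hzv).zpow_right j).mul_right (show Commute z c from hc).inv_right).eq

end

section

variable {G : Type u} [Group G] [Finite G]

set_option maxHeartbeats 2000000 in
theorem false_of_caseV {M L A K : Subgroup G} {p : ℕ} {x k : G} (P : PPair M L A p x k K)
    (hLF : fittingHallOf L = sigmaCore L) : False := by
  have hG := P.hG
  have hL := P.hL
  have hp := P.hp
  haveI := Fact.mk hp
  haveI := Fintype.ofFinite G
  have hx1 := P.x_ne
  obtain ⟨c, hc, hcL⟩ : ∃ c ∈ Subgroup.centralizer ({x} : Set G), c ∉ L := SetLike.not_le_iff_exists.1 P.esc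
  have hxF : x ∈ fittingOf L := FittingHallBasic.fittingHallOf_le_fittingOf L (hLF ▸ P.xL)
  have hxX : x ∈ fittingOf L ⊓ (fittingOf L).map (MulAut.conj c).toMonoidHom := ⟨hxF, x, hxF, by
    show c * x * c⁻¹ = x
    rw [Subgroup.mem_centralizer_singleton_iff.1 hc, mul_inv_cancel_right]⟩
  obtain ⟨-, -, halts⟩ := BGNonTI.nonTI_structure hG L hL K ⊥ P.hKU c hcL (fun h => hx1 (by
    rwa [h, Subgroup.mem_bot] at hxX))
  obtain ⟨hcyc, hsplit⟩ : IsCyclic (pPrimeCore p ↥(fittingHallOf L)) ∧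
      (Monoid.exponent (↥L ⧸ fittingHall ↥L) ∣ p - 1 ∨
        (Nat.card (pCore p ↥(fittingHallOf L)) = p ^ 3 ∧
          ¬ IsMulCommutative (pCore p ↥(fittingHallOf L)) ∧ (fittingHallOf L).relIndex L ∣ p + 1)) := by
    have hsame : ∀ q : ℕ, q.Prime →
        Nat.card ↥(fittingOf L ⊓ (fittingOf L).map (MulAut.conj c).toMonoidHom) = q → q = p :=
      fun q hq h => ((Nat.prime_dvd_prime_iff_eq hp hq).1
        (h ▸ P.x_order ▸ Subgroup.orderOf_dvd_natCard _ hxX)).symm
    rcases halts with ⟨h, -⟩ | ⟨q, hq, hX, -, -, -, hc', hexp⟩ | ⟨q, hq, hX, -, -, hc', hc3, hna, -, -, hd⟩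
    · exact absurd h P.hKne
    · obtain rfl := hsame q hq hX
      refine ⟨hc', Or.inl (hexp q hq ?_)⟩
      rw [hLF]
      exact P.x_order ▸ Subgroup.orderOf_dvd_natCard _ P.xL
    · obtain rfl := hsame q hq hX
      exact ⟨hc', Or.inr ⟨hc3, hna, hd⟩⟩
  haveI hnH : Group.IsNilpotent ↥(fittingHallOf L) := PF12Base.isNilpotent_fittingHallOf L
  rw [hLF] at hcyc hsplit hnH
  haveI := hnH
  obtain ⟨hcentral, m, hm⟩ := central_of_cyclic p hcyc
  set σ := sigmaCore L with hσ
  have hσL : σ ≤ L := BGTypeSetup.sigmaCore_le L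
  set W := σ ⊓ Subgroup.centralizer (K : Set G) with hW
  -- every commutator of the core is a `p`-element, so `W` has order `p`
  have hD : ⁅σ, σ⁆ = (commutator ↥σ).map σ.subtype := by rw [Subgroup.map_subtype_commutator]
  have hDle : commutator ↥σ ≤ pCore p ↥σ := (commutator_le_map p hcyc).trans (Subgroup.map_subtype_le _)
  have hwp : Nat.card W = p := by
    obtain ⟨j, hj⟩ := IsPGroup.iff_card.1 (HallCore.isPGroup_pCore p ↥σ)
    refine (Nat.prime_dvd_prime_iff_eq P.card_W_prime hp).1 (P.card_W_prime.dvd_of_dvd_pow (n := j) ?_)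
    rw [← hj]
    refine (Subgroup.card_dvd_of_le P.W_le_derived).trans ?_
    rw [hD, Subgroup.card_map_of_injective σ.subtype_injective]
    exact Subgroup.card_dvd_of_le hDle
  -- the characters
  haveI hKn : ((σ : Subgroup G).subgroupOf L).Normal :=
    Subgroup.normal_subgroupOf_of_le_normalizer (BGTypeSetup.le_normalizer_sigmaCore L)
  set Kl := σ.subgroupOf L with hKl
  let e : ↥σ ≃* ↥Kl := (Subgroup.subgroupOfEquivOfLe hσL).symm
  set N := (pPrimeCore p ↥σ).map e.toMonoidHom with hN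
  have hNc : ∀ n ∈ N, ∀ y : ↥Kl, n * y = y * n := by
    rintro _ ⟨b, hb, rfl⟩ y
    obtain ⟨z, rfl⟩ := e.surjective y
    show e b * e z = e z * e b
    rw [← map_mul, hcentral b hb z, map_mul]
  have hNi : N.index = p ^ m := by
    rw [hN, Subgroup.index_map_eq _ e.surjective
      (by rw [(MonoidHom.ker_eq_bot_iff _).2 e.injective]; exact bot_le), hm]
  have hdeg : ∀ θ : IrrCharacter ↥Kl, ∃ a : ℕ, Cfsg.charDegree (θ : ↥Kl → ℂ) = p ^ a ∧
      p ^ (2 * a) ∣ Nat.card ↥Kl := by
    intro θ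
    obtain ⟨a, h1, h2⟩ := PF12CharAux.deg_of_central (R := (⊥ : Subgroup ↥Kl)) bot_le
      (fun n hn y => by rw [Subgroup.mem_bot, hNc n hn y]; group) hp hNi θ
      (fun r hr => by rw [Subgroup.mem_bot.1 hr])
    exact ⟨a, h1, by rwa [Subgroup.index_bot] at h2⟩
  have hcardKl : Nat.card ↥Kl = Nat.card σ := (Nat.card_congr e.toEquiv).symm
  have hp2 : p ^ 2 ∣ Nat.card ↥Kl := by
    rw [hcardKl, ← P.hAc]; exact Subgroup.card_dvd_of_le P.AS
  have hodd : Odd (Nat.card ↥L) := BGTypeSetup.odd_card hG L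
  have hK3 := P.three_le
  have hKodd : Odd (Nat.card K) := BGTypeSetup.odd_card hG K
  have hidx : Kl.index = Nat.card K := P.index_eq
  have hKtop : Kl ≠ ⊤ := fun h => by rw [h, Subgroup.index_top] at hidx; omega
  haveI : Group.IsSolvable L := BGUnique.isSolvable_of_ne_top hG hL.1
  have hpodd : Odd p := hG.1.of_dvd_nat (P.x_order ▸ orderOf_dvd_natCard x)
  have hlin : ∀ R : Subgroup ↥L, ∀ θ ∈ PF6.aboveFin Kl R, Cfsg.charDegree (θ : ↥Kl → ℂ) = 1 →
      θ ∈ PF12Family.tset Kl R := fun R θ hθ h1 =>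
    PF12Family.mem_tset.2 ⟨hθ, P.irr_linear (PF6.mem_aboveFin.1 hθ).1 h1⟩
  have htriv : ∀ θ : IrrCharacter ↥Kl, (θ : ↥Kl → ℂ) ≠ (fun _ => 1) → θ ∈ PF6.aboveFin Kl (⊥ : Subgroup ↥L) :=
    fun θ hθ => PF6.mem_aboveFin.2 ⟨hθ, fun a ha => by
      rw [Subgroup.mem_bot] at ha
      rw [show a = 1 from Subtype.ext ha]⟩
  rcases hsplit with hexp | ⟨hP3, hPna, hdvd⟩
  · -- `|K|` divides `p - 1`
    have hexpK : Monoid.exponent (↥L ⧸ fittingHall ↥L) = Nat.card K := by
      have heq : fittingHall ↥L = Kl := by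
        rw [hKl, ← hLF, BGTypeSetup.fittingHallOf_subgroupOf]
      haveI := P.hKU.cyclic
      rw [Monoid.exponent_eq_of_mulEquiv (QuotientGroup.quotientMulEquivOfEq heq),
        Monoid.exponent_eq_of_mulEquiv (isComplement'_subgroupOf P.compl_K).symm.QuotientMulEquiv,
        Monoid.exponent_eq_of_mulEquiv (Subgroup.subgroupOfEquivOfLe P.K_le), IsCyclic.exponent_eq_card]
    rw [hexpK] at hexp
    have hq : 2 * Nat.card K ≤ p - 1 := by
      obtain ⟨j, hj⟩ := hexp
      obtain ⟨a, ha⟩ := hKodd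
      obtain ⟨b, hb⟩ := hpodd
      have hj1 : j ≠ 1 := by rintro rfl; omega
      rcases Nat.eq_zero_or_pos j with rfl | hj0
      · have := hp.two_le; omega
      · have : 2 ≤ j := by omega
        have := Nat.mul_le_mul_left (Nat.card K) this
        omega
    have hrel : (⊥ : Subgroup ↥L).relIndex Kl = Nat.card ↥Kl := Subgroup.relIndex_bot_left _
    obtain ⟨ν, ζ, hC, hsz, hbad⟩ := PF12Family.chain_family P.setup hodd hKtop (⊥ : Subgroup ↥L) hp
      (fun θ _ => hrel.symm ▸ hdeg θ) (hlin ⊥) (hwp ▸ P.bad_card ⊥)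
      (fun _ => by rw [hidx]; exact hq)
      (P.exists_linear (bot_lt_iff_ne_bot.2 fun h => by
        rw [show Kl = ⊥ from h, Subgroup.card_bot] at hp2
        exact absurd (Nat.le_of_dvd one_pos hp2) (not_le.2 (Nat.one_lt_pow two_ne_zero hp.one_lt))))
    have hn2 : p ^ 2 ∣ PFPartialCoh.size (PF12Family.tset Kl (⊥ : Subgroup ↥L)) := hsz (hrel.symm ▸ hp2)
    exact PF12Main.false_of_config P.toConfig hC (fun θ h1 h2 => (hbad θ (htriv θ h1) h2).1)
      ((dvd_pow_self p two_ne_zero).trans hn2)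
      (Nat.le_of_dvd (by rw [PFPartialCoh.size]; omega) hn2)
      (Or.inr fun θ h1 h2 => (hbad θ (htriv θ h1) h2).2) P.hu (hidx ▸ hK3) (by rw [hidx]; omega)
  · -- `|K|` divides `p + 1`
    rw [show (σ : Subgroup G).relIndex L = Nat.card K from P.relIndex_core] at hdvd
    have hq : 2 * Nat.card K ≤ p + 1 := by
      obtain ⟨j, hj⟩ := hdvd
      obtain ⟨a, ha⟩ := hKodd
      obtain ⟨b, hb⟩ := hpodd
      have hj1 : j ≠ 1 := by rintro rfl; omega
      rcases Nat.eq_zero_or_pos j with rfl | hj0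
      · omega
      · have : 2 ≤ j := by omega
        have := Nat.mul_le_mul_left (Nat.card K) this
        omega
    set D := ⁅σ, σ⁆ with hDdef
    have hDσ : D ≤ σ := Subgroup.commutator_le_self σ
    haveI hRn : (D.subgroupOf L).Normal := by
      refine Subgroup.normal_subgroupOf_of_le_normalizer fun l hl => ?_
      refine CoprimeAction.mem_normalizer_of_conj_smul_eq ?_
      rw [hDdef, conj_smul_eq_map, Subgroup.map_commutator, ← conj_smul_eq_map]
      have : MulAut.conj l • σ = σ := by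
        ext y
        rw [mem_conj_smul]
        exact ⟨fun h => by simpa [mul_assoc] using BGTypeSetup.conj_mem_sigmaCore hl h,
          fun h => by simpa using BGTypeSetup.conj_mem_sigmaCore (L.inv_mem hl) h⟩
      rw [this]
    set R := D.subgroupOf L with hR
    haveI : (R.subgroupOf Kl).Normal := Subgroup.Normal.subgroupOf hRn Kl
    have hone : ∀ θ ∈ PF6.aboveFin Kl R, Cfsg.charDegree (θ : ↥Kl → ℂ) = 1 := by
      intro θ hθ
      have h := PF12CharAux.dvd_index_of_abelian_mod (R := R.subgroupOf Kl) (N := (⊤ : Subgroup ↥Kl)) le_top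
        (fun a _ b _ => by
          have ha' : ((a : ↥L) : G) ∈ σ := a.2
          have hb' : ((b : ↥L) : G) ∈ σ := b.2
          have h0 := Subgroup.commutator_mem_commutator ha' hb'
          rw [commutatorElement_def] at h0
          exact h0) θ (fun r hr => (PF6.mem_aboveFin.1 hθ).2 r hr)
      rwa [Subgroup.index_top, Nat.dvd_one] at h
    have hall : PF12Family.tset Kl R = PF6.aboveFin Kl R :=
      Finset.ext fun θ => ⟨fun h => (PF12Family.mem_tset.1 h).1, fun h => hlin R θ h (hone θ h)⟩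
    obtain ⟨j, hjcard⟩ : ∃ j, Nat.card σ = p ^ 3 * j := ⟨_, by
      rw [← hP3]; exact ((pCore p ↥σ).card_mul_index).symm⟩
    have hDp : Nat.card D ∣ p := by
      rw [hD, Subgroup.card_map_of_injective σ.subtype_injective]
      refine (Subgroup.card_dvd_of_le (commutator_le_map p hcyc)).trans ?_
      rw [Subgroup.card_map_of_injective (pCore p ↥σ).subtype_injective]
      exact card_commutator_dvd p hP3 hPna
    have hrel : R.relIndex Kl * Nat.card D = Nat.card σ := by
      rw [hR, hKl, Subgroup.relIndex_subgroupOf hσL, mul_comm]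
      exact HallCore.card_mul_relIndex hDσ
    have hsize : PFPartialCoh.size (PF12Family.tset Kl R) = R.relIndex Kl := by
      rw [hall, PFPartialCoh.size, add_comm]
      exact PF6.sum_sq_above
    have hR2 : p ^ 2 ∣ R.relIndex Kl := by
      obtain ⟨t, ht⟩ := hDp
      refine ⟨j * t, Nat.eq_of_mul_eq_mul_right (Nat.card_pos (α := D)) ?_⟩
      rw [hrel, hjcard]
      calc p ^ 3 * j = p ^ 2 * j * p := by ring
        _ = p ^ 2 * j * (Nat.card D * t) := by rw [← ht]
        _ = _ := by ring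
    obtain ⟨ν, ζ, hC, -, -⟩ := PF12Family.chain_family P.setup hodd hKtop R hp
      (fun θ hθ => ⟨0, by rw [hone θ hθ, pow_zero], by simp⟩) (hlin R) (hwp ▸ P.bad_card R)
      (fun ⟨θ, hθ, hne⟩ => absurd (hone θ hθ) hne)
      (P.exists_linear (lt_of_le_of_ne (fun a ha => hDσ ha) fun h => by
        have h1 : R.relIndex Kl = 1 := by rw [h, Subgroup.relIndex_self]
        rw [h1] at hR2
        exact absurd (Nat.le_of_dvd one_pos hR2) (not_le.2 (Nat.one_lt_pow two_ne_zero hp.one_lt))))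
    have hsize_ge : p ^ 2 * (pCore p ↥σ).index ≤ R.relIndex Kl := by
      refine Nat.le_of_mul_le_mul_right (c := Nat.card D) ?_ Nat.card_pos
      rw [hrel, ← (pCore p ↥σ).card_mul_index, hP3]
      calc p ^ 2 * (pCore p ↥σ).index * Nat.card D ≤ p ^ 2 * (pCore p ↥σ).index * p :=
            Nat.mul_le_mul_left _ (Nat.le_of_dvd hp.pos hDp)
        _ = _ := by ring
    -- `M ⊓ L` lies in the sigma core
    obtain ⟨hnA, -, -⟩ := P.structure18
    have hE : M ⊓ L ≤ σ := by
      intro z hz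
      by_contra hzσ
      have hn : ¬ (orderOf z).Coprime (σ.relIndex L) := fun h => hzσ
        (BGTypeSetup.mem_of_orderOf_coprime_relIndex (BGTypeSetup.le_normalizer_sigmaCore L) hz.2 h)
      obtain ⟨r, hr, hrz, hri⟩ := Nat.Prime.not_coprime_iff_dvd.1 hn
      rw [P.relIndex_core] at hri
      have hrσ : ¬ r ∣ Nat.card σ := fun h => hr.ne_one (Nat.eq_one_of_dvd_coprimes P.coprime_K hri h)
      have hrp : r ≠ p := fun e' => hrσ (e' ▸ P.x_order ▸ Subgroup.orderOf_dvd_natCard _ P.xL)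
      obtain ⟨v, hv, z', hz', hvo, hz'o, hcomm⟩ := P.exists_commuting hr hrp
        (hrz.trans (Subgroup.orderOf_dvd_natCard _ hz))
      have hr1 : ¬ r ∣ p - 1 := fun h => by
        have h2 : r ∣ 2 := by
          have := Nat.dvd_sub (hri.trans hdvd) h
          rwa [show p + 1 - (p - 1) = 2 by have := hp.two_le; omega] at this
        rw [(Nat.prime_dvd_prime_iff_eq hr Nat.prime_two).1 h2] at hri
        obtain ⟨a, ha⟩ := hKodd
        omega
      have hfix := centralizes_of_fix p P.hA P.hAc (hnA hz') hr hz'o hrp hr1 hv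
        (fun h => hp.ne_one (by rw [← hvo, h, orderOf_one])) hcomm
      have hle : A ≤ σ ⊓ Subgroup.centralizer ({z'} : Set G) := fun a ha =>
        ⟨P.AS ha, Subgroup.mem_centralizer_singleton_iff.2 (hfix a ha).symm⟩
      have h := Subgroup.card_le_of_le hle
      rw [P.hAc, P.card_fix hz'.2 hr hz'o hrσ, ← hW, hwp] at h
      nlinarith [hp.two_le]
    have hEab : IsMulCommutative ↥(M ⊓ L) := by
      haveI : Group.IsNilpotent ↥((M ⊓ L).subgroupOf σ) := inferInstance
      haveI : Group.IsNilpotent ↥(M ⊓ L) :=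
        Group.nilpotent_of_mulEquiv (Subgroup.subgroupOfEquivOfLe hE)
      exact (S1420.result hG M P.hM (M ⊓ L) P.compl).1 _ inf_le_left ‹_› fun r hr hd =>
        P.not_mem_sigma hr (hd.trans (Subgroup.card_dvd_of_le inf_le_right))
    have hu : Nat.card ↥(M ⊓ L) ≤ p ^ 2 * (pCore p ↥σ).index := by
      set E' := (M ⊓ L).subgroupOf σ with hE'
      rw [show Nat.card ↥(M ⊓ L) = Nat.card E' from
        (Nat.card_congr (Subgroup.subgroupOfEquivOfLe hE).toEquiv).symm]
      have hsmall : Nat.card ↥(pCore p ↥σ ⊓ E') ≤ p ^ 2 := by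
        obtain ⟨i, hi, hi'⟩ := (Nat.dvd_prime_pow hp).1
          (hP3 ▸ Subgroup.card_dvd_of_le (inf_le_left : pCore p ↥σ ⊓ E' ≤ pCore p ↥σ))
        rw [hi']
        refine Nat.pow_le_pow_right hp.pos (Nat.le_of_lt_succ (lt_of_le_of_ne hi fun e' => hPna ?_))
        have heq : pCore p ↥σ ⊓ E' = pCore p ↥σ :=
          Subgroup.eq_of_le_of_card_ge inf_le_left (by rw [hi', e', hP3])
        refine ⟨⟨fun a b => Subtype.ext (Subtype.ext ?_)⟩⟩
        show ((a : ↥σ) : G) * ((b : ↥σ) : G) = ((b : ↥σ) : G) * ((a : ↥σ) : G)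
        exact congrArg Subtype.val (hEab.is_comm.comm (⟨_, (heq.ge a.2).2⟩ : ↥(M ⊓ L)) ⟨_, (heq.ge b.2).2⟩)
      rw [← HallCore.card_mul_relIndex (inf_le_right : pCore p ↥σ ⊓ E' ≤ E'), Subgroup.inf_relIndex_right]
      exact Nat.mul_le_mul hsmall (Nat.le_of_dvd (Nat.pos_of_ne_zero Subgroup.index_ne_zero_of_finite)
        (Subgroup.relIndex_dvd_index_of_normal _ _))
    refine PF12Main.false_of_config P.toConfig hC (fun θ h1 h2 => ?_)
      (by rw [hsize]; exact (dvd_pow_self p two_ne_zero).trans hR2)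
      (by rw [hsize]; exact Nat.le_of_dvd (Nat.pos_of_ne_zero Subgroup.index_ne_zero_of_finite) hR2)
      (Or.inl ?_) P.hu (hidx ▸ hK3) (hidx ▸ hq)
    · obtain ⟨a, ha, -⟩ := hdeg θ
      rw [ha]
      refine dvd_pow_self p fun ha0 => h2 ?_
      rw [hall]
      refine PF6.mem_aboveFin.2 ⟨h1, fun r hr => ?_⟩
      obtain ⟨l, hl⟩ := CharBasicLinear.exists_hom_of_apply_one_eq_one (isCharacter_of_isIrrCharacter θ.2)
        (by rw [PF6.deg_spec (isCharacter_of_isIrrCharacter θ.2), ha, ha0, pow_zero, Nat.cast_one])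
      have hr' : ((r : ↥L) : G) ∈ (commutator ↥σ).map σ.subtype := hD ▸ hr
      obtain ⟨s, hs, hsr⟩ := hr'
      have hes : r = e s := Subtype.ext (Subtype.ext hsr.symm)
      rw [hl, hes]
      show ((l (e s) : ℂˣ) : ℂ) = (l 1 : ℂˣ)
      rw [map_one, show l (e s) = 1 from Abelianization.commutator_subset_ker (l.comp e.toMonoidHom) hs]
    · rw [P.relIndex_eq, hsize, hidx, mul_comm 3]
      exact Nat.mul_le_mul (hu.trans hsize_ge) hK3

end

end Cfsg.Agent.PF12CaseV
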