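import Mathlib
import Cfsg.Agent.Lib.PF12Base43
import Cfsg.Agent.Lib.PF12Family43
import Cfsg.Agent.Lib.BGNonTI
import Cfsg.Agent.Lib.PF12Coherent43
import Cfsg.Agent.S1355
import Cfsg.Agent.S1417

/-!
Peterfalvi, Section 12: the case in which the second maximal subgroup has empty kappa set; it is then a
Frobenius group and its whole family of induced characters is coherent.
-/

set_option autoImplicit false
set_option linter.unusedSectionVars false
set_option linter.style.haveILetI false

open scoped Pointwise commutatorElement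

namespace Cfsg.Agent.PF12FrobCase

open Cfsg Cfsg.Agent.BGTypeBasic Cfsg.Agent.PF12Base

universe u

variable {G : Type u} [Group G] [Finite G]

set_option maxHeartbeats 1000000 in
theorem false_of_frob {M L A : Subgroup G} {p : ℕ} {x k : G} (P : Pair M L A p x k) (hκL : kappa L = ∅)
    (hmin : ∀ (N : Subgroup G) (q : ℕ), Bad N q → p ≤ q) : False := by
  classical
  have hG := P.hG
  have hp := P.hp
  haveI := Fact.mk hp
  have hM := P.hM
  have hL := P.hL
  have hxo := P.x_order
  have hx1 := P.x_ne
  have hxA := P.xA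
  have hA₁ := P.hA
  have hA₁c := P.hAc
  haveI : IsMulCommutative A := hA₁.1
  have hAL := P.AL
  obtain ⟨hnA, hall, hCA⟩ := P.structure18
  have hLF := kappa_facts hG hL hκL
  set H := fittingHallOf L with hHdef
  have hHL : H ≤ L := FittingHallBasic.fittingHallOf_le L
  have hAH : A ≤ H := hLF ▸ P.AS
  have hpH : p ∣ Nat.card H := hxo ▸ Subgroup.orderOf_dvd_natCard _ (hAH hxA)
  have hh : p ^ 2 ≤ Nat.card H := hA₁c ▸ Subgroup.card_le_of_le hAH
  have hodd : Odd (Nat.card G) := hG.1
  have hp_odd : Odd p := hodd.of_dvd_nat (hxo ▸ orderOf_dvd_natCard x)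
  have hpne2 : p ≠ 2 := fun h => by subst h; exact absurd hp_odd (by decide)
  obtain ⟨U, hKU⟩ := PF12Sets.exists_decomp_of_kappa hG hL hκL
  obtain ⟨c, hc, hcL⟩ : ∃ c ∈ Subgroup.centralizer ({x} : Set G), c ∉ L := SetLike.not_le_iff_exists.1 P.esc
  have hxF : x ∈ fittingOf L := FittingHallBasic.fittingHallOf_le_fittingOf L (hAH hxA)
  obtain ⟨-, -, halts⟩ := BGNonTI.nonTI_structure hG L hL ⊥ U hKU c hcL (fun h => hx1 (by
    have : x ∈ fittingOf L ⊓ (fittingOf L).map (MulAut.conj c).toMonoidHom := ⟨hxF, x, hxF, by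
      show c * x * c⁻¹ = x
      rw [Subgroup.mem_centralizer_singleton_iff.1 hc, mul_inv_cancel_right]⟩
    rwa [h, Subgroup.mem_bot] at this))
  have hsplit : (IsMulCommutative H ∧ RankLE 2 H) ∨
      ∀ q : ℕ, q.Prime → q ∣ Nat.card H → Monoid.exponent (↥L ⧸ fittingHall ↥L) ∣ q - 1 := by
    rcases halts with ⟨-, h1, h2, -⟩ | ⟨_, -, -, -, -, -, -, h⟩ | ⟨_, -, -, -, -, -, -, -, h, -⟩
    · exact Or.inl ⟨h1, h2⟩
    · exact Or.inr h
    · exact absurd rfl h
  have hcopH : (Nat.card H).Coprime (H.relIndex L) := FittingHallBasic.fittingHallOf_coprime L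
  have hidxH : (fittingHall ↥L).index = H.relIndex L := by
    rw [Subgroup.relIndex, show H.subgroupOf L = fittingHall ↥L from
      BGTypeSetup.fittingHallOf_subgroupOf L]
  obtain ⟨hH1, -, hsd, hlt, -⟩ := S1355.result hG L hL
  have hK1 : fittingHall ↥L ≠ ⊥ := fun h => hH1 (by rw [fittingHallOf, h, Subgroup.map_bot])
  have hK2 : fittingHall ↥L ≠ ⊤ := fun h => hlt.not_ge (by
    have : H = L := by rw [hHdef, fittingHallOf, h, ← MonoidHom.range_eq_map, Subgroup.range_subtype]
    exact this.ge.trans (hLF ▸ hsd))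
  have hoddL : Odd (Nat.card L) := BGTypeSetup.odd_card hG L
  obtain ⟨C₀, hC₀⟩ := Subgroup.exists_right_complement'_of_coprime
    (FittingHallBasic.fittingHall_coprime_index (G := L))
  have hnormal : IsMulCommutative H → RankLE 2 H → ∀ l ∈ L, ∀ a ∈ A, l * a * l⁻¹ ∈ A :=
    fun hHc hr l hl a ha => mem_of_pow_eq_one hp hHc hr hAH hA₁ hA₁c
      (BGTypeSetup.conj_mem_fittingHallOf hl (hAH ha)) (by rw [conj_pow, hA₁.2 a ha, mul_one, mul_inv_cancel])
  -- `L` is a Frobenius group
  have hfrob : ∀ y ∈ H, y ≠ 1 → L ⊓ Subgroup.centralizer ({y} : Set G) ≤ H := by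
    intro y hy hy1 g hg
    by_contra hgH
    obtain ⟨r, hr⟩ := exists_bad hL hκL hy hy1 hg hgH
    have hrt := bad_tau2 hG hr
    have hrp : p ≤ r := hmin L r hr
    obtain ⟨-, -, hr', hrH, w, hwL, hwo, -⟩ := hr
    have hne : r ≠ p := fun e => hrH (e ▸ hpH)
    have hlt : p < r := lt_of_le_of_ne hrp (Ne.symm hne)
    haveI := Fact.mk hr'
    rcases hsplit with ⟨hHc, hr2⟩ | hexp
    · obtain ⟨B, hBL, hB, hBc⟩ := exists_elementary hrt.2.2.2
      by_cases hBA : ∀ b ∈ B, b ∈ Subgroup.centralizer (A : Set G)
      · have hBM : B ≤ M := fun b hb => (hCA (hBA b hb)).1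
        have h := (S1417.result hG L hL r hrt B ⟨hBL, hB, hBc⟩).2.2.2.2.1 M hM P.LM.symm hBM
        exact hx1 (by
          have hm : x ∈ sigmaCore L ⊓ M := ⟨P.xL, P.xM⟩
          rwa [h, Subgroup.mem_bot] at hm)
      · push Not at hBA
        obtain ⟨b, hb, hbA⟩ := hBA
        letI : CommGroup A := { (inferInstance : Group A) with mul_comm := hA₁.1.is_comm.comm }
        let α : MulAut A :=
          { toFun := fun a => ⟨b * a * b⁻¹, hnormal hHc hr2 b (hBL hb) a a.2⟩
            invFun := fun a => ⟨b⁻¹ * a * b, by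
              simpa using hnormal hHc hr2 b⁻¹ (L.inv_mem (hBL hb)) a a.2⟩
            left_inv := fun a => Subtype.ext (by simp [mul_assoc])
            right_inv := fun a => Subtype.ext (by simp [mul_assoc])
            map_mul' := fun a c => Subtype.ext (by simp [mul_assoc]) }
        have hpow : ∀ (i : ℕ) (a : A), ((α ^ i) a : G) = b ^ i * a * (b ^ i)⁻¹ := by
          intro i
          induction i with
          | zero => intro a; simp
          | succ i ih =>
            intro a
            rw [pow_succ', MulAut.mul_apply]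
            show b * ((α ^ i) a : G) * b⁻¹ = _
            rw [ih, pow_succ']
            group
        have hq := BGRankTwo.prime_lt_of_action hpne2 hr'
          (fun e => absurd hlt (by subst e; exact not_lt.2 hp.two_le)) hne (V := A)
          (fun a => Subtype.ext (by rw [SubgroupClass.coe_pow]; exact hA₁.2 a a.2)) (le_of_eq hA₁c) α
          (MulEquiv.ext fun a => Subtype.ext (by rw [hpow, hB.2 b hb]; simp))
          (fun e => hbA (Subgroup.mem_centralizer_iff.2 fun a ha => by
            have h : ((α ⟨a, ha⟩ : A) : G) = a := by rw [e]; rfl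
            exact (mul_inv_eq_iff_eq_mul.1 h).symm))
        exact absurd hq (not_lt.2 hrp)
    · have hd := hexp p hp hpH
      have hwq : r ∣ Monoid.exponent (↥L ⧸ fittingHall ↥L) := by
        have h2 := Monoid.order_dvd_exponent (QuotientGroup.mk' (fittingHall ↥L) ⟨w, hwL⟩)
        have h3 := orderOf_map_dvd (QuotientGroup.mk' (fittingHall ↥L)) ⟨w, hwL⟩
        rw [Subgroup.orderOf_mk, hwo] at h3
        rcases (Nat.dvd_prime hr').1 h3 with h4 | h4
        · exfalso
          rw [orderOf_eq_one_iff, QuotientGroup.mk'_apply, QuotientGroup.eq_one_iff] at h4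
          exact hrH (hwo ▸ Subgroup.orderOf_dvd_natCard _ ((mem_fittingHallOf _).2 h4))
        · rwa [h4] at h2
      have hle' := Nat.le_of_dvd (by have := hp.two_le; omega) (hwq.trans hd)
      omega
  -- no element outside `H` of prime order normalises the subgroup generated by `x`
  have hnoscal : ∀ z ∈ L, ∀ q : ℕ, q.Prime → orderOf z = q → ¬ q ∣ Nat.card H →
      z ∈ Subgroup.normalizer ((Subgroup.zpowers x : Subgroup G) : Set G) → False := by
    intro z hz q hq hzo hqH hzN
    have hXtop : Subgroup.normalizer ((Subgroup.zpowers x : Subgroup G) : Set G) ≠ ⊤ :=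
      BGTransitivity.normalizer_ne_top hG (by simpa using hx1)
        (fun h => hM.1 (top_le_iff.1 (h ▸ Subgroup.zpowers_le.2 P.xM)))
    obtain ⟨N, hN, hXN⟩ :=
      (eq_top_or_exists_le_coatom (Subgroup.normalizer ((Subgroup.zpowers x : Subgroup G) : Set G))).resolve_left
        hXtop
    have hNM : N = M := P.xU N hN (by
      rw [← centralizer_zpowers_eq]; exact (Subgroup.centralizer_le_normalizer _).trans hXN)
    have hzM : z ∈ M := hNM ▸ hXN hzN
    obtain ⟨u₀, hu₀A, z₀, hz₀E, hu₀o, hz₀o, hcomm⟩ := P.exists_commuting hq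
      (fun e => hqH (e ▸ hpH)) (hzo ▸ Subgroup.orderOf_dvd_natCard _ (show z ∈ M ⊓ L from ⟨hzM, hz⟩))
    refine hqH (hz₀o ▸ Subgroup.orderOf_dvd_natCard _ (hfrob u₀ (hAH hu₀A)
      (fun h => hp.ne_one (by rw [← hu₀o, h, orderOf_one]))
      ⟨hz₀E.2, Subgroup.mem_centralizer_singleton_iff.2 hcomm⟩))
  -- the index of `H`
  haveI : Group.IsSolvable L := BGUnique.isSolvable_of_ne_top hG hL.1
  set e := H.relIndex L with hedef
  have heodd : Odd e := hodd.of_dvd_nat ((Subgroup.relIndex_dvd_index_of_le hHL).trans (Subgroup.index_dvd_card H))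
  have he1 : e ≠ 1 := fun h => hK2 (Subgroup.index_eq_one.1 (hidxH.trans h))
  have hCL : ∀ y ∈ fittingHall ↥L, y ≠ 1 → Subgroup.centralizer ({y} : Set ↥L) ≤ fittingHall ↥L :=
    fun y hy hy1 g hg => (mem_fittingHallOf g).1 (hfrob y ((mem_fittingHallOf y).2 hy)
      (fun h => hy1 (Subtype.ext h)) ⟨g.2, Subgroup.mem_centralizer_singleton_iff.2
        (congrArg Subtype.val (Subgroup.mem_centralizer_singleton_iff.1 hg))⟩)
  have hexpe : Monoid.exponent (↥L ⧸ fittingHall ↥L) = e := by
    rw [PF12.exponent_quot hK1 hCL hoddL FittingHallBasic.fittingHall_coprime_index, hidxH]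
  have hpe : p.Coprime e := hcopH.coprime_dvd_left hpH
  have hep : 2 * e ≤ p + 1 := by
    have key : e ∣ p - 1 ∨ e ∣ p + 1 := by
      rcases hsplit with ⟨hHc, hr2⟩ | hexp
      · obtain ⟨C, hC⟩ : ∃ C : Subgroup ↥L, Subgroup.IsComplement' (fittingHall ↥L) C := ⟨C₀, hC₀⟩
        letI : CommGroup A := { (inferInstance : Group A) with mul_comm := hA₁.1.is_comm.comm }
        let act : C →* MulAut A :=
          { toFun := fun c =>
              { toFun := fun a => ⟨(c : G) * a * (c : G)⁻¹, hnormal hHc hr2 c (SetLike.coe_mem (c : ↥L)) a a.2⟩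
                invFun := fun a => ⟨(c : G)⁻¹ * a * (c : G), by
                  simpa using hnormal hHc hr2 (c : G)⁻¹ (L.inv_mem (SetLike.coe_mem (c : ↥L))) a a.2⟩
                left_inv := fun a => Subtype.ext (by simp [mul_assoc])
                right_inv := fun a => Subtype.ext (by simp [mul_assoc])
                map_mul' := fun a d => Subtype.ext (by simp [mul_assoc]) }
            map_one' := MulEquiv.ext fun a => Subtype.ext (by simp)
            map_mul' := fun c d => MulEquiv.ext fun a => Subtype.ext (by simp [mul_assoc]) }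
        have hCcard : Nat.card C = e := by rw [← hidxH, hC.symm.index_eq_card]
        have hout : ∀ c : C, c ≠ 1 → (c : ↥L) ∉ fittingHall ↥L := fun c hc hm => hc (Subtype.ext (by
          have h : (c : ↥L) ∈ fittingHall ↥L ⊓ C := ⟨hm, c.2⟩
          rwa [disjoint_iff.1 hC.disjoint, Subgroup.mem_bot] at h))
        have h := dvd_of_action (C := C) (hCcard ▸ heodd) hpne2 (hCcard ▸ hpe.symm)
          (by rw [← Monoid.exponent_eq_of_mulEquiv hC.symm.QuotientMulEquiv, hexpe, hCcard])
          (V := A) (fun a => Subtype.ext (by rw [SubgroupClass.coe_pow]; exact hA₁.2 a a.2)) hA₁c act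
          (by
            intro c d h
            by_contra hne
            have hcd : c⁻¹ * d ≠ 1 := fun e' => hne (inv_mul_eq_one.1 e')
            refine hout _ hcd ((mem_fittingHallOf _).1 (hfrob x (hAH hxA) hx1
              ⟨SetLike.coe_mem ((c⁻¹ * d : C) : ↥L), Subgroup.mem_centralizer_singleton_iff.2 ?_⟩))
            have h' : (c : G) * x * (c : G)⁻¹ = (d : G) * x * (d : G)⁻¹ :=
              congrArg (fun z : MulAut A => ((z ⟨x, hxA⟩ : A) : G)) h
            show (c : G)⁻¹ * d * x = x * ((c : G)⁻¹ * d)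
            calc (c : G)⁻¹ * d * x = (c : G)⁻¹ * ((d : G) * x * (d : G)⁻¹) * d := by group
              _ = (c : G)⁻¹ * ((c : G) * x * (c : G)⁻¹) * d := by rw [h']
              _ = _ := by group)
          (by
            rintro c ⟨i, hi⟩
            by_contra hc
            obtain ⟨q, hq, hqd⟩ := Nat.exists_prime_and_dvd (n := orderOf c)
              (fun h => hc (orderOf_eq_one_iff.1 h))
            set z : C := c ^ (orderOf c / q) with hz
            have hzo : orderOf z = q := orderOf_pow_orderOf_div (orderOf_pos c).ne' hqd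
            have hzG : orderOf (z : G) = q := by rw [Subgroup.orderOf_coe, Subgroup.orderOf_coe, hzo]
            refine hnoscal z (SetLike.coe_mem (z : ↥L)) q hq hzG (fun hqH => ?_) ?_
            · exact hq.ne_one (Nat.eq_one_of_dvd_coprimes hcopH hqH
                (hCcard ▸ hzo ▸ orderOf_dvd_natCard z))
            · have hiter : ∀ (m : ℕ) (a : A), act (c ^ m) a = a ^ (i ^ m) := by
                intro m
                induction m with
                | zero => intro a; rw [pow_zero, map_one, pow_zero, pow_one]; rfl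
                | succ m ih => intro a; rw [pow_succ', map_mul, MulAut.mul_apply, ih, hi, ← pow_mul, pow_succ]
              have hzx : (z : G) * x * (z : G)⁻¹ ∈ Subgroup.zpowers x := by
                have h : (z : G) * x * (z : G)⁻¹ = x ^ (i ^ (orderOf c / q)) := by
                  have h' := congrArg (fun a : A => (a : G)) (hiter (orderOf c / q) ⟨x, hxA⟩)
                  simpa [act, hz] using h'
                rw [h]; exact Subgroup.pow_mem _ (Subgroup.mem_zpowers x) _
              have key : ∀ a ∈ Subgroup.zpowers x, (z : G) * a * (z : G)⁻¹ ∈ Subgroup.zpowers x := by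
                rintro a ⟨j, rfl⟩
                rw [← conj_zpow]
                exact Subgroup.zpow_mem _ hzx j
              rw [Subgroup.mem_normalizer_iff]
              refine fun a => ⟨key a, fun ha => ?_⟩
              let ψ : Subgroup.zpowers x → Subgroup.zpowers x := fun y => ⟨_, key y y.2⟩
              have hinj : Function.Injective ψ := fun y y' hy => Subtype.ext (by
                have h := congrArg Subtype.val hy
                simpa [ψ] using h)
              obtain ⟨y, hy⟩ := Finite.injective_iff_surjective.1 hinj ⟨_, ha⟩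
              have : (y : G) = a := by simpa [ψ] using congrArg Subtype.val hy
              exact this ▸ y.2)
        rwa [hCcard] at h
      · left
        rw [← hexpe]
        exact hexp p hp hpH
    have he0 : 0 < e := heodd.pos
    rcases key with h | h
    · obtain ⟨j, hj⟩ := h
      obtain ⟨a, ha⟩ := hp_odd
      obtain ⟨c, hc⟩ := heodd
      have : j ≠ 1 := by rintro rfl; omega
      rcases Nat.eq_zero_or_pos j with rfl | hj0
      · have := hp.two_le; omega
      · have : 2 ≤ j := by omega
        have := Nat.mul_le_mul_left e this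
        omega
    · obtain ⟨j, hj⟩ := h
      obtain ⟨a, ha⟩ := hp_odd
      obtain ⟨c, hc⟩ := heodd
      have : j ≠ 1 := by rintro rfl; omega
      rcases Nat.eq_zero_or_pos j with rfl | hj0
      · omega
      · have : 2 ≤ j := by omega
        have := Nat.mul_le_mul_left e this
        omega
  -- the family of induced characters
  haveI := Fintype.ofFinite G
  set Kl : Subgroup ↥L := (sigmaCore L).subgroupOf L with hKldef
  have hKl : Kl = fittingHall ↥L := by
    rw [hKldef, ← hLF, BGTypeSetup.fittingHallOf_subgroupOf]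
  haveI hKn : Kl.Normal := hKl ▸ inferInstance
  have hS : PFCoherentDade.Setup ((sigmaCore L : Set G) \ {1}) L (supportR L) Kl :=
    ⟨PF12Sets.dade_core hG hL, inferInstance, fun a => by
      rw [hKldef, Subgroup.mem_subgroupOf]
      exact and_congr Iff.rfl ⟨fun h e' => h (by rw [e']; rfl), fun h e' => h (Subtype.ext e')⟩⟩
  obtain ⟨T, ν, ζ, hC, hall', hsize⟩ := PF12Family.kernel_family hS hoddL (hKl ▸ hK1) (hKl ▸ hK2)
    (hKl.symm ▸ FittingHallBasic.fittingHall_isNilpotent) (hKl ▸ FittingHallBasic.fittingHall_coprime_index)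
    (hKl ▸ hCL) (hsplit.imp (fun h => ⟨⟨fun a b => by
      apply Subtype.ext; apply Subtype.ext
      exact (congrArg Subtype.val (h.1.is_comm.comm
        (⟨((a : ↥L) : G), (mem_fittingHallOf _).2 (hKl ▸ a.2)⟩ : H)
        ⟨((b : ↥L) : G), (mem_fittingHallOf _).2 (hKl ▸ b.2)⟩) :)⟩⟩)
      (fun h q hq hd => by
        have hcard : Nat.card ↥Kl = Nat.card H := by
          rw [hHdef, FittingHallBasic.card_fittingHallOf, hKl]
        have := h q hq (hcard ▸ hd)
        rwa [Monoid.exponent_eq_of_mulEquiv (QuotientGroup.quotientMulEquivOfEq hKl)]))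
  have hcard : Nat.card ↥Kl = Nat.card H := by
    rw [hHdef, FittingHallBasic.card_fittingHallOf, hKl]
  have hidx : Kl.index = e := by rw [hKl, hidxH]
  refine PF12Main.false_of_config P.toConfig hC (fun θ h1 h2 => absurd (hall' θ h1) h2) ?_ ?_
    (Or.inr fun θ h1 h2 => absurd (hall' θ h1) h2) P.hu (by rw [hidx]; obtain ⟨c, hc⟩ := heodd; omega)
    (by rw [hidx]; exact hep)
  · rw [hsize, hcard]; exact hpH
  · rw [hsize, hcard]; exact hh

end Cfsg.Agent.PF12FrobCase
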