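import Mathlib
import Cfsg.Agent.Lib.PF12Frobcase43
import Cfsg.Agent.Lib.PF12CaseV43
import Cfsg.Agent.Lib.PF12CaseIII43
import Cfsg.Agent.S1355
import Cfsg.Agent.S1375
import Cfsg.Agent.S1417
import Cfsg.Agent.S1418

/-!
Peterfalvi (12.7): a maximal subgroup with empty kappa set is a Frobenius group whose kernel is `M_F`.
-/

set_option autoImplicit false
set_option linter.unusedSectionVars false
set_option linter.style.haveILetI false

open scoped Pointwise commutatorElement

namespace Cfsg.Agent.PF12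

open Cfsg Cfsg.Agent.BGTypeBasic Cfsg.Agent.PF12Base

universe u

variable {G : Type u} [Group G] [Finite G]

theorem false_of_bad_min (hG : IsMinSimpleOddOrder G) {M : Subgroup G} {p : ℕ} (hbad : Bad M p)
    (hmin : ∀ (N : Subgroup G) (q : ℕ), Bad N q → p ≤ q) : False := by
  classical
  have hp2 := bad_tau2 hG hbad
  obtain ⟨hM, hκ, hp, hpF, -⟩ := hbad
  haveI := Fact.mk hp
  have hMF := kappa_facts hG hM hκ
  set F := fittingHallOf M with hFdef
  have hFM : F ≤ M := FittingHallBasic.fittingHallOf_le M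
  haveI hFnil : Group.IsNilpotent F := isNilpotent_fittingHallOf M
  have hF1 : F ≠ ⊥ := (S1355.result hG M hM).1
  obtain ⟨U, hKU⟩ := PF12Sets.exists_decomp_of_kappa hG hM hκ
  have hcU : IsComplIn F U M := hMF ▸ BGTypeSetup.compl_of_K_bot hG hM hKU rfl
  -- an elementary abelian subgroup of a complement
  obtain ⟨A, hAM, hA, hAc⟩ := exists_elementary hp2.2.2.2
  obtain ⟨n, hn, hle⟩ := CoprimeExtra.exists_le_conj_of_le_sup (N := F) (H := U) (U := A)
    (hcU.2.1.trans (FittingHallBasic.le_normalizer_fittingHallOf M))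
    (hAM.trans (sup_eq_of_isComplIn hcU).ge) (coprime_compl hcU).symm
    (by rw [hAc]; exact ((Nat.Prime.coprime_iff_not_dvd hp).2 hpF).pow_left 2) (Or.inr inferInstance)
  set E : Subgroup G := MulAut.conj n • U with hEdef
  have hcE : IsComplIn F E M := by
    have h := isComplIn_conj hcU n
    rw [conj_smul_le_self (hFM hn), conj_smul_le_self hn] at h
    exact h
  have hcE' : IsComplIn E (sigmaCore M) M := by rw [← hMF]; exact isComplIn_swap hcE
  obtain ⟨-, ⟨-, -, hNA⟩, huniq⟩ := S1418.result hG M hM E hcE' p hp2 A ⟨hle, hA, hAc⟩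
  haveI : IsMulCommutative A := hA.1
  have hAnc : ¬ IsCyclic A := fun h => by
    obtain ⟨g, hg⟩ := h.exists_ofOrder_eq_natCard
    rw [hAc] at hg
    have h1 : g ^ p = 1 := Subtype.ext (by rw [SubgroupClass.coe_pow]; exact hA.2 g g.2)
    have := Nat.le_of_dvd hp.pos (hg ▸ orderOf_dvd_of_pow_eq_one h1)
    nlinarith [hp.two_le]
  -- a fixed point outside `F'`
  obtain ⟨x, hxA, hx1, k, ⟨hkF, hkc⟩, hkD⟩ :
      ∃ x ∈ A, x ≠ 1 ∧ ∃ k ∈ F ⊓ Subgroup.centralizer ({x} : Set G), k ∉ ⁅F, F⁆ := by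
    by_contra hno
    push Not at hno
    have h := CoprimeGen.le_of_centralizers hAnc (hAM.trans (FittingHallBasic.le_normalizer_fittingHallOf M))
      (by rw [hAc]; exact ((Nat.Prime.coprime_iff_not_dvd hp).2 hpF).pow_left 2) hno
    haveI : Nontrivial F := (Subgroup.nontrivial_iff_ne_bot F).2 hF1
    haveI : Group.IsSolvable F := inferInstance
    refine (Group.IsSolvable.commutator_lt_top_of_nontrivial F).ne ?_
    apply Subgroup.map_injective F.subtype_injective
    rw [Subgroup.map_subtype_commutator, ← MonoidHom.range_eq_map, Subgroup.range_subtype]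
    exact le_antisymm (Subgroup.commutator_le_self F) h
  have hxk : Commute x k := (Subgroup.mem_centralizer_singleton_iff.1 hkc).symm
  have hk1 : k ≠ 1 := fun h => hkD (h ▸ Subgroup.one_mem _)
  have hxo : orderOf x = p := orderOf_eq_prime (hA.2 x hxA) hx1
  have hxM : x ∈ M := hAM hxA
  obtain ⟨hxC, hxU⟩ : Subgroup.centralizer ({x} : Set G) ≤ M ∧
      ∀ N : Subgroup G, IsCoatom N → Subgroup.centralizer ({x} : Set G) ≤ N → N = M := by
    have h := huniq (Subgroup.zpowers x) (Subgroup.zpowers_le.2 hxA) (by rw [Nat.card_zpowers, hxo]) ?_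
    · rwa [centralizer_zpowers_eq] at h
    · rw [centralizer_zpowers_eq, ← hMF, ne_eq, Subgroup.eq_bot_iff_forall]
      exact fun h => hk1 (h k ⟨hkF, hkc⟩)
  -- the second maximal subgroup
  have hA1 : A ≠ ⊥ := fun h => hx1 (by rw [h, Subgroup.mem_bot] at hxA; exact hxA)
  have hNtop : Subgroup.normalizer (A : Set G) ≠ ⊤ :=
    BGTransitivity.normalizer_ne_top hG hA1 (fun h => hM.1 (top_le_iff.1 (h ▸ hAM)))
  obtain ⟨L, hL, hNL⟩ := (eq_top_or_exists_le_coatom (Subgroup.normalizer (A : Set G))).resolve_left hNtop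
  have hLM : L ≠ M := fun h => hNA (h ▸ hNL)
  have hAL : A ≤ L := Subgroup.le_normalizer.trans hNL
  have hps : p ∈ sigma L := by
    by_contra hs
    have hnr : ¬ PRankLE p 1 ↥L := by
      intro h
      have := BGSigma.card_le_of_pRankLE h hAL hA
      rw [hAc, pow_one] at this
      nlinarith [hp.two_le]
    have ht : p ∈ tau2 L := ⟨hp, hs, BGSigma.outside_alpha hG hL hp hs, hnr⟩
    obtain ⟨-, hb, -⟩ := S1417.result hG L hL p ht A ⟨hAL, hA, hAc⟩
    obtain ⟨S, hS⟩ := (IsPGroup.of_card (G := A.subgroupOf L) (n := 2)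
      (by rw [Nat.card_congr (Subgroup.subgroupOfEquivOfLe hAL).toEquiv, hAc])).exists_le_sylow
    have hAS : A ≤ (S : Subgroup L).map L.subtype := fun a ha => ⟨⟨a, hAL ha⟩, hS ha, rfl⟩
    obtain ⟨hel, hnot⟩ := (hb S).2 hAS
    refine hnot fun g hg => hNL ?_
    rw [Subgroup.mem_normalizer_iff]
    have key : ∀ g' ∈ Subgroup.normalizer (((S : Subgroup L).map L.subtype : Subgroup G) : Set G),
        ∀ a ∈ A, g' * a * g'⁻¹ ∈ A := fun g' hg' a ha =>
      (hel _ ((Subgroup.mem_normalizer_iff.1 hg' a).1 (hAS ha))).1 (by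
        rw [conj_pow, hA.2 a ha, mul_one, mul_inv_cancel])
    intro a
    exact ⟨key g hg a, fun h => by simpa [mul_assoc] using key g⁻¹ (inv_mem hg) _ h⟩
  have hAσ : A ≤ sigmaCore L := fun a ha => BGTypeSetup.sigma_element_mem hG hL (hAL ha) fun q hq hd => by
    have : q ∣ p := hd.trans (orderOf_dvd_of_pow_eq_one (hA.2 a ha))
    rw [(Nat.prime_dvd_prime_iff_eq hq hp).1 this]; exact hps
  have hesc : ¬ Subgroup.centralizer ({x} : Set G) ≤ L := fun h => hLM (hxU L hL h)
  have hnotConj : ∀ g : G, L ≠ M.map (MulAut.conj g).toMonoidHom := by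
    intro g h
    apply hp2.2.1
    have e : M = MulAut.conj g⁻¹ • L := by
      rw [h, ← conj_smul_eq_map, map_inv, inv_smul_smul]
    rw [e]
    exact BGExc.sigma_conj g⁻¹ hps
  have hcompl : IsComplIn (M ⊓ L) (sigmaCore M) M := by
    obtain ⟨N, ⟨hN, hxN⟩, -, -, -, -, h, -⟩ := S1375.result hG L hL x (hAσ hxA) hx1 hesc
    obtain rfl := hxU N hN hxN
    rwa [inf_comm] at h
  have hu : 3 * F.relIndex M ≤ Nat.card L := by
    have e : F.relIndex M = Nat.card ↥(M ⊓ L) := by rw [hMF]; exact (relIndex_of_isComplIn hcompl).2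
    have hmul := HallCore.card_mul_relIndex (inf_le_right : M ⊓ L ≤ L)
    have hne : (M ⊓ L).relIndex L ≠ 1 := fun h1 => hLM.symm <| by
      have hLM' : L ≤ M := (Subgroup.relIndex_eq_one.1 h1).trans inf_le_left
      rcases hLM'.lt_or_eq with h2 | h2
      · exact absurd (hL.2 M h2) hM.1
      · exact h2.symm
    obtain ⟨a, ha⟩ : Odd ((M ⊓ L).relIndex L) :=
      (BGTypeSetup.odd_card hG L).of_dvd_nat (Dvd.intro_left _ hmul)
    rw [e, ← hmul, mul_comm 3]
    exact Nat.mul_le_mul_left _ (by omega)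
  have hodd : Odd p := hG.1.of_dvd_nat (hxo ▸ orderOf_dvd_natCard x)
  have P : Pair M L A p x k :=
    { hG := hG
      hM := hM
      hκ := hκ
      hMF := hMF
      hL := hL
      notConj := hnotConj
      hp := hp
      xL := hAσ hxA
      xM := hxM
      x_order := hxo
      pK := hpF
      xC := hxC
      xU := hxU
      kK := hkF
      kD := hkD
      xk := hxk
      n_ge := derived_small hG hM hκ hp hodd hpF hcE (hle hxA) hxo hkF hkD
      pτ := hp2
      AM := hAM
      AL := hAL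
      AS := hAσ
      hA := hA
      hAc := hAc
      xA := hxA
      esc := hesc
      LM := hLM
      compl := hcompl
      hu := hu }
  by_cases hκL : kappa L = ∅
  · exact PF12FrobCase.false_of_frob P hκL hmin
  obtain ⟨K, hP⟩ := PF12TypeP.exists_ppair P hκL
  by_cases hLF : fittingHallOf L = sigmaCore L
  · exact PF12CaseV.false_of_caseV hP hLF
  · exact PF12CaseIII.false_of_caseIII hP hLF

/-- Peterfalvi (12.7). -/
theorem frobenius_of_kappa (hG : IsMinSimpleOddOrder G) {M : Subgroup G} (hM : IsCoatom M)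
    (hκ : kappa M = ∅) :
    ∀ y ∈ fittingHallOf M, y ≠ 1 → M ⊓ Subgroup.centralizer ({y} : Set G) ≤ fittingHallOf M := by
  classical
  intro y hy hy1 g hg
  by_contra hgF
  obtain ⟨q, hq⟩ := exists_bad hM hκ hy hy1 hg hgF
  have hex : ∃ r, ∃ N : Subgroup G, Bad N r := ⟨q, M, hq⟩
  obtain ⟨N, hN⟩ := Nat.find_spec hex
  exact false_of_bad_min hG hN fun N' r hr => Nat.find_min' hex ⟨N', hr⟩

end Cfsg.Agent.PF12
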