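import Cfsg.Agent.Lib.BGTypeForward
import Cfsg.Agent.Lib.PF12Kappa43

/-!
Type I of a maximal subgroup without `κ`-primes, using that it is a Frobenius group.
-/

set_option autoImplicit false
set_option linter.style.haveILetI false

namespace Cfsg.Agent.BGTypeForward

open Cfsg
open BGTypeBasic FittingHallBasic BGTypeSetup
open scoped Pointwise commutatorElement

variable {G : Type*} [Group G] [Finite G]
variable {M : Subgroup G} (hG : IsMinSimpleOddOrder G) (hM : IsCoatom M)
include hG hM

/-- `O_p'(M)` lies in `M_F` when `M` is Frobenius with kernel `M_F`. -/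
theorem isCyclic_pPrimeCore_of_frobenius (hk : kappa M = ∅) {p : ℕ} [Fact p.Prime]
    (hpd : p ∣ Nat.card (fittingHallOf M))
    (hcyc : IsCyclic (pPrimeCore p ↥(fittingHallOf M))) : IsCyclic (pPrimeCore p ↥M) := by
  set H := fittingHallOf M with hH
  have hHn : M ≤ Subgroup.normalizer (H : Set G) := le_normalizer_fittingHallOf M
  obtain ⟨⟨y, hy⟩, hyo⟩ := exists_prime_orderOf_dvd_card' p hpd
  rw [Subgroup.orderOf_mk] at hyo
  set N := BGUnique.coreOf p M with hN
  set P := BGFittingUnique.Oc p H with hP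
  have hHnil : Group.IsNilpotent ↥H :=
    (ComponentsCores.isNilpotent_map_subtype_iff _).mpr FittingHallBasic.fittingHall_isNilpotent
  have hyP : y ∈ P := BGNonTI.mem_oc hHnil (i := 1) hy (by rw [hyo, pow_one])
  have hPM : P ≤ M := (BGFittingUnique.Oc_le p H).trans (fittingHallOf_le M)
  have hNM : N ≤ M := BGUnique.coreOf_le p M
  have hMN : M ≤ Subgroup.normalizer (N : Set G) :=
    Subgroup.le_normalizer.trans (BGUnique.le_normalizer_coreOf p M)
  have hMP : M ≤ Subgroup.normalizer (P : Set G) := hHn.trans (BGFittingUnique.normalizer_le_Oc p H)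
  have hdisj : N ⊓ P = ⊥ := by
    refine Subgroup.inf_eq_bot_of_coprime ?_
    obtain ⟨n, hn⟩ := IsPGroup.iff_card.1 (BGFittingUnique.isPGroup_Oc p H)
    rw [hn]
    exact (BGUnique.coprime_coreOf p M).pow_right n
  have hy1 : y ≠ 1 := fun h => (Fact.out : p.Prime).one_lt.ne (by rw [← hyo, h, orderOf_one])
  have hNH : N ≤ H := fun a ha => PF12.frobenius_of_kappa hG hM hk y hy hy1
    ⟨hNM ha, Subgroup.mem_centralizer_singleton_iff.mpr
      (BGFittingUnique.commute_of_normalize (hNM.trans hMP) (hPM.trans hMN) hdisj ha hyP).eq⟩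
  have hle : N.subgroupOf H ≤ pPrimeCore p ↥H := by
    haveI : (N.subgroupOf H).Normal :=
      Subgroup.normal_subgroupOf_of_le_normalizer ((fittingHallOf_le M).trans hMN)
    refine HallCore.le_pPrimeCore ?_
    rw [Nat.card_congr (Subgroup.subgroupOfEquivOfLe hNH).toEquiv]
    exact BGUnique.coprime_coreOf p M
  haveI := hcyc
  haveI : IsCyclic (N.subgroupOf H) :=
    isCyclic_of_injective (Subgroup.inclusion hle) (Subgroup.inclusion_injective hle)
  haveI : IsCyclic N := (Subgroup.subgroupOfEquivOfLe hNH).isCyclic.mp inferInstance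
  exact ((pPrimeCore p ↥M).equivMapOfInjective _ M.subtype_injective).isCyclic.mpr ‹IsCyclic N›

variable {K U : Subgroup G} (hKU : IsSigmaDecomposition M K U)
include hKU

theorem typeI_of (hK : K = ⊥) : IsOfTypeI M := by
  refine ⟨typeF_of hG hM hKU hK, ?_⟩
  rcases typeI_cases hG hM hKU hK with h | h | ⟨h1, p, hp, hpd, -, hcyc⟩
  · exact Or.inl h
  · exact Or.inr (Or.inl h)
  · haveI := Fact.mk hp
    exact Or.inr (Or.inr ⟨h1, p, hp, hpd, isCyclic_pPrimeCore_of_frobenius hG hM
      ((kappa_eq_empty_iff hG hM hKU).mpr hK) hpd hcyc⟩)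

theorem typeI_iff : IsOfTypeI M ↔ K = ⊥ ∧ U ≠ ⊥ :=
  ⟨fun h => eq_bot_of_typeI hG hM hKU h, fun h => typeI_of hG hM hKU h.1⟩

end Cfsg.Agent.BGTypeForward
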