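import Mathlib
import Cfsg.Agent.Lib.BGFinalBasic72
import Cfsg.Agent.Lib.BGTypeBasic
import Cfsg.Agent.S1350
import Cfsg.Agent.S1351
import Cfsg.Agent.S1352
import Cfsg.Agent.S1430
import Cfsg.Agent.S1437
import Cfsg.Agent.S1446

/-!
If `M_F ≠ M_σ` then `M'' ≤ F(M)` (Bender-Glauberman 15.2(g)): the prime-action lemma 3.10 shows
that the derived group of a `K`-invariant complement `D` of `Q` in `M_σ` centralizes `Q`.
-/

set_option autoImplicit false
set_option linter.style.haveILetI false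

open scoped commutatorElement

namespace Cfsg.Agent.BGFinal72

open Subgroup Cfsg.Agent.HallCore Cfsg.Agent.BGUnique

universe u

variable {G : Type u} [Group G] [Finite G]

omit [Finite G] in
/-- If `d` centralizes `z` and moves `c` by `z`, with coprime orders, then `d` commutes with `c`. -/
theorem commute_of_shift {d c z : G} (hdz : Commute d z) (h : d * c * d⁻¹ = z * c)
    (hco : (orderOf d).Coprime (orderOf z)) : Commute d c := by
  have key : ∀ n : ℕ, d ^ n * c * (d ^ n)⁻¹ = z ^ n * c := by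
    intro n
    induction n with
    | zero => simp
    | succ n ih =>
      calc d ^ (n + 1) * c * (d ^ (n + 1))⁻¹ = d * (d ^ n * c * (d ^ n)⁻¹) * d⁻¹ := by
            rw [pow_succ' d, mul_inv_rev]; group
        _ = d * (z ^ n * c) * d⁻¹ := by rw [ih]
        _ = z ^ n * (d * c * d⁻¹) := by
            rw [← mul_assoc d, (hdz.pow_right n).eq]; group
        _ = z ^ (n + 1) * c := by rw [h, ← mul_assoc, ← pow_succ]
  have h1 := key (orderOf d)
  rw [pow_orderOf_eq_one, inv_one, mul_one, one_mul, eq_comm, mul_eq_right] at h1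
  have hz : z = 1 := orderOf_eq_one_iff.1
    (Nat.eq_one_of_dvd_coprimes hco (orderOf_dvd_of_pow_eq_one h1) dvd_rfl)
  rw [hz, one_mul] at h
  exact mul_inv_eq_iff_eq_mul.1 h

theorem derived_sigmaCore_le_fitting (hG : Cfsg.IsMinSimpleOddOrder G) {M : Subgroup G}
    (hM : IsCoatom M) (hne : Cfsg.fittingHallOf M ≠ Cfsg.sigmaCore M) :
    ⁅Cfsg.sigmaCore M, Cfsg.sigmaCore M⁆ ≤ Cfsg.fittingOf M := by
  have hσ := (S1350.result hG M hM).1
  obtain ⟨⟨K, hK⟩, hKc⟩ := S1351.result hG M hM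
  obtain ⟨⟨U, hKU⟩, -⟩ := S1352.result hG M hM K (hKc K hK) hK
  obtain ⟨hU, -, hKp, hq, -, -, Q, hQF, hQM, hQp, hQi, hD⟩ := S1437.result hG M hM K U hKU hne
  haveI := Fact.mk hq
  haveI := isSolvable_of_ne_top hG hM.1
  set S := Cfsg.sigmaCore M with hS
  set q := Nat.card ↥(S ⊓ centralizer (K : Set G)) with hqdef
  have hKM : K ≤ M := hK.1
  have hSM : S ≤ M := sigmaCore_le M
  have hSn := le_normalizer_sigmaCore M
  have hFS := fittingHallOf_le_sigmaCore hG hM
  have hQS : Q ≤ S := hQF.trans hFS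
  have hQM' : Q ≤ M := hQS.trans hSM
  have hqσ : q ∈ Cfsg.sigma M := piNat_sigmaCore M q hq (card_dvd_of_le inf_le_left)
  have hK1 : K ≠ ⊥ := fun h => hKp.ne_one (by rw [h, card_bot])
  have hpq : ¬ q ∣ Nat.card K := fun h => (piNat_K hKU q hq h).2.2.1 hqσ
  obtain ⟨j, hj⟩ := IsPGroup.iff_card.1 hQp
  -- a complement of `Q` in `M_σ` normalised by `K`
  obtain ⟨H, hH, hKH⟩ := HallTheorem.exists_isPiHall_ge_of_solvable (π := {r : ℕ | r ≠ q})
    (U := K.subgroupOf M) (fun r hr hd e => hpq (by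
      rw [Nat.card_congr (subgroupOfEquivOfLe hKM).toEquiv] at hd; exact e ▸ hd))
  set D : Subgroup G := H.map M.subtype ⊓ S with hDdef
  have hKH' : K ≤ H.map M.subtype := fun k hk =>
    ⟨⟨k, hKM hk⟩, hKH (show (⟨k, hKM hk⟩ : M) ∈ K.subgroupOf M from hk), rfl⟩
  have hHq : ∀ A : Subgroup G, A ≤ H.map M.subtype → ¬ q ∣ Nat.card A := fun A hA hd => by
    have h1 := hd.trans (card_dvd_of_le hA)
    rw [card_map_of_injective M.subtype_injective] at h1
    exact hH.1 q hq h1 rfl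
  have hQD : Q ⊓ D = ⊥ := inf_eq_bot_of_coprime (by
    rw [hj]; exact ((Nat.Prime.coprime_iff_not_dvd hq).2 (hHq D inf_le_left)).pow_left j)
  have hDS : D ≤ S := inf_le_right
  have hindex : H.index = Nat.card Q := by
    have hMc : Nat.card M = Nat.card K * (Nat.card Q * Q.relIndex S) := by
      rw [card_mul_relIndex hQS, ← card_eq hKU, hU, card_bot, one_mul]
    have h1 : Nat.card H * H.index = Nat.card M := H.card_mul_index
    have h2 : ∀ r, r.Prime → r ∣ H.index → r = q := fun r hr hd => by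
      by_contra h; exact hH.2 r hr h hd
    have h3 := Nat.eq_prime_pow_of_unique_prime_dvd (index_ne_zero_of_finite (H := H))
      (fun {r} hr hd => h2 r hr hd)
    have h4 : (Nat.card H).Coprime (Nat.card Q) := by
      rw [hj]; exact (((Nat.Prime.coprime_iff_not_dvd hq).2 fun hd => hH.1 q hq hd rfl).pow_left j).symm
    have h5 : H.index.Coprime (Nat.card K * Q.relIndex S) := by
      rw [h3]
      refine Nat.Coprime.pow_left _ ((Nat.Prime.coprime_iff_not_dvd hq).2 fun hd => ?_)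
      rcases (Nat.Prime.dvd_mul hq).1 hd with hd | hd
      · exact hpq hd
      · exact hQi hd
    refine Nat.dvd_antisymm (h5.dvd_of_dvd_mul_left ?_) (h4.symm.dvd_of_dvd_mul_left ?_)
    · exact Dvd.intro_left (Nat.card H) (by rw [h1, hMc]; ring)
    · exact Dvd.intro_left (Nat.card K * Q.relIndex S) (by rw [h1, hMc]; ring)
  have hcompl : Cfsg.IsComplIn Q D S := by
    refine BGTypeBasic.isComplIn_of_card hQS hDS (by rw [hj]; exact ((Nat.Prime.coprime_iff_not_dvd hq).2 (hHq D inf_le_left)).pow_left j) ?_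
    have h1 : D.relIndex S ≤ Nat.card Q := by
      rw [hDdef, inf_relIndex_right]
      refine le_trans ?_ hindex.le
      rw [show H.index = (H.map M.subtype).relIndex M by
        rw [relIndex, subgroupOf, comap_map_eq_self_of_injective M.subtype_injective]]
      exact relIndex_le_of_le_right hSM fun e => Nat.card_pos.ne' (by
          rw [← card_mul_relIndex (map_subtype_le H), e, mul_zero])
    have h2 := card_mul_relIndex hDS
    have h3 : Nat.card D * Nat.card Q ≤ Nat.card S := by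
      have hSQ : S ≤ normalizer (Q : Set G) := hSM.trans hQM
      have hc : (Nat.card Q).Coprime (Nat.card D) := by
        rw [hj]; exact ((Nat.Prime.coprime_iff_not_dvd hq).2 (hHq D inf_le_left)).pow_left j
      rw [mul_comm, ← SFTSigma.card_sup_coprime (hDS.trans hSQ) hc]
      exact card_le_of_le (sup_le hQS hDS)
    have h4 : Nat.card S ≤ Nat.card D * Nat.card Q := h2 ▸ Nat.mul_le_mul_left _ h1
    rw [mul_comm]; omega
  obtain ⟨-, hQ0n, hQ0lt, hQc, -, -⟩ := hD D hcompl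
  set Q0 := Q ⊓ centralizer (D : Set G) with hQ0
  have hQ0M : Q0 ≤ M := inf_le_left.trans hQM'
  haveI : (Q0.subgroupOf M).Normal := normal_subgroupOf_of_le_normalizer hQ0n
  -- shifts by `Q0` are trivial
  have hshift : ∀ d ∈ D, ∀ c ∈ Q, d * c * d⁻¹ * c⁻¹ ∈ Q0 → Commute d c := by
    intro d hd c hc hz
    refine commute_of_shift (z := d * c * d⁻¹ * c⁻¹) (hz.2 d hd) (by group) ?_
    obtain ⟨i, hi⟩ := IsPGroup.iff_orderOf.1 hQp ⟨_, hz.1⟩
    rw [orderOf_mk] at hi
    rw [hi]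
    exact (((Nat.Prime.coprime_iff_not_dvd hq).2 fun h =>
      hHq D inf_le_left (h.trans (D.orderOf_dvd_natCard hd))).pow_left i).symm
  have hDM : D ≤ M := hDS.trans hSM
  have hKD : ∀ k ∈ K, ∀ d ∈ D, k * d * k⁻¹ ∈ D := fun k hk d hd =>
    ⟨Subgroup.mul_mem _ (Subgroup.mul_mem _ (hKH' hk) hd.1) (Subgroup.inv_mem _ (hKH' hk)),
      (mem_normalizer_iff.1 (hSn (hKM hk)) d).1 hd.2⟩
  have hfix : ∀ k ∈ K, k ≠ 1 → ∀ d ∈ D, Commute k d → d = 1 := by
    intro k hk hk1 d hd hc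
    have h1 : d ∈ S ⊓ centralizer ({k} : Set G) := ⟨hd.2, mem_centralizer_iff.2 fun t ht => by
      rw [Set.mem_singleton_iff.1 ht]; exact hc.eq⟩
    rw [(S1430.result hG M hM K hK hK1).1 k hk hk1] at h1
    have h2 : orderOf d ∣ q := Subgroup.orderOf_dvd_natCard _ h1
    rcases (Nat.dvd_prime hq).1 h2 with h | h
    · exact orderOf_eq_one_iff.1 h
    · exact absurd (h ▸ D.orderOf_dvd_natCard hd) (hHq D inf_le_left)
  -- pass to `M / Q0`
  set f := QuotientGroup.mk' (Q0.subgroupOf M)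
  set Db := (D.subgroupOf M).map f
  set Kb := (K.subgroupOf M).map f
  set Qb := (Q.subgroupOf M).map f
  have hker : ∀ v : M, f v = 1 ↔ (v : G) ∈ Q0 := fun v =>
    (QuotientGroup.eq_one_iff v).trans Subgroup.mem_subgroupOf
  have hHb : Db ⊔ Kb ≤ H.map f := sup_le
    (map_mono fun v hv => by
      obtain ⟨w, hw, he⟩ := (show (v : G) ∈ D from hv).1
      exact (Subtype.ext he : w = v) ▸ hw)
    (map_mono hKH)
  have hDKq : ¬ q ∣ Nat.card ↥(Db ⊔ Kb) := fun hd =>
    hH.1 q hq ((hd.trans (card_dvd_of_le hHb)).trans (H.card_map_dvd f)) rfl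
  have hinj : ∀ v : M, (v : G) ∈ H.map M.subtype → f v = 1 → v = 1 := by
    intro v hv hv1
    obtain ⟨i, hi⟩ := IsPGroup.iff_orderOf.1 hQp ⟨(v : G), ((hker v).1 hv1).1⟩
    rw [orderOf_mk] at hi
    rcases Nat.eq_zero_or_pos i with rfl | hi0
    · exact Subtype.ext (orderOf_eq_one_iff.1 (by simpa using hi))
    · exact absurd ((dvd_pow_self q hi0.ne').trans (hi ▸ Subgroup.orderOf_dvd_natCard _ hv))
        (hHq _ le_rfl)
  have hKbc : Nat.card Kb = Nat.card K := by
    rcases (Nat.dvd_prime hKp).1 ((Subgroup.card_map_dvd _ f).trans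
      (dvd_of_eq (Nat.card_congr (subgroupOfEquivOfLe hKM).toEquiv))) with h | h
    · exfalso
      obtain ⟨k, hk, hk1⟩ := K.bot_or_exists_ne_one.resolve_left hK1
      have h0 : Kb = ⊥ := (eq_bot_iff_card _).2 h
      exact hk1 (congrArg Subtype.val (hinj ⟨k, hKM hk⟩ (hKH' hk)
        (mem_bot.1 (h0 ▸ mem_map_of_mem f (show (⟨k, hKM hk⟩ : M) ∈ K.subgroupOf M from hk)))))
    · exact h
  have hres := S1446.result Db Kb Qb ?_ ?_ ?_ ?_ ?_
    (Group.isSolvable_of_isSolvable_injective (Db ⊔ Kb).subtype_injective) ?_ ?_ ?_ ?_ ?_ ?_ ?_ ?_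
  rotate_left
  · -- D nontrivial
    intro h
    apply hQ0lt.not_ge
    have : D = ⊥ := (Subgroup.eq_bot_iff_forall D).2 fun d hd => congrArg Subtype.val
      (hinj ⟨d, hDM hd⟩ hd.1 (mem_bot.1 (h ▸ mem_map_of_mem f
        (show (⟨d, hDM hd⟩ : M) ∈ D.subgroupOf M from hd))))
    intro c hc
    exact ⟨hc, by rw [this, coe_bot]; intro t ht; rw [Set.mem_singleton_iff.1 ht]; simp⟩
  · exact fun h => hKp.ne_one (by rw [← hKbc, h, card_bot])
  · rw [Subgroup.eq_bot_iff_forall]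
    rintro z ⟨⟨d, hd, rfl⟩, k, hk, hkd⟩
    have hd' : (d : G) ∈ H.map M.subtype := (show (d : G) ∈ D from hd).1
    have he : (k : G) = d := by
      have h1 := hinj (k⁻¹ * d) (Subgroup.mul_mem _ (Subgroup.inv_mem _ (hKH' hk)) hd')
        (by rw [map_mul, map_inv, hkd, inv_mul_cancel])
      rw [inv_mul_eq_one] at h1
      exact congrArg Subtype.val h1
    have h2 : (d : G) = 1 := by
      by_contra hne1
      exact hne1 (hfix (d : G) (he ▸ hk) hne1 d hd (Commute.refl _))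
    rw [show d = 1 from Subtype.ext h2, map_one]
  · refine le_trans (map_mono ?_) (le_normalizer_map f)
    intro k hk
    have key : ∀ k : M, (k : G) ∈ K → ∀ d ∈ D.subgroupOf M, k * d * k⁻¹ ∈ D.subgroupOf M :=
      fun k hk d hd => hKD k hk d hd
    rw [mem_normalizer_iff]
    intro d
    exact ⟨key k hk d, fun h => by simpa [mul_assoc] using key k⁻¹ (K.inv_mem hk) _ h⟩
  · rintro r ⟨k, hk, rfl⟩ hr
    rw [Subgroup.eq_bot_iff_forall]
    rintro z ⟨⟨d, hd, rfl⟩, hz⟩
    have hk1 : (k : G) ≠ 1 := fun e => hr (by rw [show k = 1 from Subtype.ext e, map_one])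
    have h1 : f (k * d * k⁻¹ * d⁻¹) = 1 := by
      rw [map_mul, map_mul, map_mul, map_inv, map_inv, mem_centralizer_iff.1 hz (f k) rfl,
        mul_inv_cancel_right, mul_inv_cancel]
    have h2 := hinj _ (Subgroup.mul_mem _ (hKD k hk d hd).1
      (Subgroup.inv_mem _ (show (d : G) ∈ D from hd).1)) h1
    have h3 : Commute (k : G) d := by
      have h4 := congrArg Subtype.val h2
      simp only [Subgroup.coe_mul, Subgroup.coe_inv, Subgroup.coe_one] at h4
      exact mul_inv_eq_iff_eq_mul.1 (mul_inv_eq_one.1 h4)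
    rw [show d = 1 from Subtype.ext (hfix k hk hk1 d hd h3), map_one]
  · exact (odd_card_subgroup hG M).of_dvd_nat
      ((card_subgroup_dvd_card _).trans (Subgroup.card_quotient_dvd_card _))
  · intro h
    refine hQ0lt.not_ge fun c hc => ?_
    exact (hker ⟨c, hQM' hc⟩).1 (mem_bot.1 (h ▸ mem_map_of_mem f
      (show (⟨c, hQM' hc⟩ : M) ∈ Q.subgroupOf M from hc)))
  · exact ((hQp.comap_of_injective M.subtype M.subtype_injective).map f).isNilpotent
  · refine le_trans (map_mono ?_) (le_normalizer_map f)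
    haveI : (Q.subgroupOf M).Normal := normal_subgroupOf_of_le_normalizer hQM
    rw [normalizer_eq_top]; exact le_top
  · refine le_trans (map_mono ?_) (le_normalizer_map f)
    haveI : (Q.subgroupOf M).Normal := normal_subgroupOf_of_le_normalizer hQM
    rw [normalizer_eq_top]; exact le_top
  · obtain ⟨i, hi⟩ := IsPGroup.iff_card.1 ((hQp.comap_of_injective M.subtype M.subtype_injective).map f)
    rw [show Nat.card Qb = q ^ i from hi]
    exact (((Nat.Prime.coprime_iff_not_dvd hq).2 hDKq).pow_left i).symm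
  · rw [Subgroup.eq_bot_iff_forall]
    rintro z ⟨⟨c, hc, rfl⟩, hz⟩
    refine (hker c).2 ⟨hc, fun d hd => ?_⟩
    refine (hshift d hd c hc ((hker ⟨_, M.mul_mem (M.mul_mem (M.mul_mem (hDM hd) c.2)
      (M.inv_mem (hDM hd))) (M.inv_mem c.2)⟩).1 ?_)).eq
    show f (⟨d, hDM hd⟩ * c * (⟨d, hDM hd⟩)⁻¹ * c⁻¹) = 1
    rw [map_mul, map_mul, map_mul, map_inv, map_inv,
      hz _ (mem_map_of_mem f (show (⟨d, hDM hd⟩ : M) ∈ D.subgroupOf M from hd)),
      mul_inv_cancel_right, mul_inv_cancel]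
  · intro x hx hx1
    have hgen : zpowers x = Kb := eq_of_le_of_card_ge (zpowers_le.2 hx) (by
      rw [Nat.card_zpowers, hKbc]
      rcases (Nat.dvd_prime hKp).1 (hKbc ▸ Kb.orderOf_dvd_natCard hx) with h | h
      · exact absurd (orderOf_eq_one_iff.1 h) hx1
      · exact h.ge)
    rw [← hgen, zpowers_eq_closure, centralizer_closure]
  obtain ⟨-, hcard, himp⟩ := hres
  have hQbc : Nat.card Qb = q ^ Nat.card K := by
    have h1 := (f.subgroupMap (Q.subgroupOf M)).ker.card_mul_index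
    rw [Subgroup.index_ker, Nat.card_congr (subgroupOfEquivOfLe hQM').toEquiv, hQc] at h1
    rw [MonoidHom.range_eq_top.2 (f.subgroupMap_surjective _), card_top] at h1
    have hk : Nat.card (f.subgroupMap (Q.subgroupOf M)).ker = Nat.card Q0 := by
      refine Nat.card_congr ⟨fun v => ⟨((v : ↥(Q.subgroupOf M)) : M), (hker _).1 (congrArg Subtype.val v.2)⟩,
        fun w => ⟨⟨⟨w, hQ0M w.2⟩, w.2.1⟩, Subtype.ext ((hker _).2 w.2)⟩, fun v => rfl, fun w => rfl⟩
    rw [hk] at h1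
    exact Nat.eq_of_mul_eq_mul_left Nat.card_pos h1
  rw [hQbc, hKbc] at hcard
  have hqc : Nat.card ↥(Qb ⊓ centralizer (Kb : Set _)) = q :=
    (Nat.pow_left_injective hKp.ne_zero hcard).symm
  have hcent := himp (isCyclic_of_prime_card hqc)
  -- `D'` centralizes `Q`
  have hD' : ⁅D, D⁆ ≤ centralizer (Q : Set G) := by
    intro d hd c hc
    have hdD : d ∈ D := commutator_le_self D hd
    refine (hshift d hdD c hc ((hker ⟨_, M.mul_mem (M.mul_mem (M.mul_mem (hDM hdD) (hQM' hc))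
      (M.inv_mem (hDM hdD))) (M.inv_mem (hQM' hc))⟩).1 ?_)).eq.symm
    show f (⟨d, hDM hdD⟩ * ⟨c, hQM' hc⟩ * (⟨d, hDM hdD⟩)⁻¹ * (⟨c, hQM' hc⟩)⁻¹) = 1
    have hfd : f ⟨d, hDM hdD⟩ ∈ ⁅Db, Db⁆ := by
      rw [← map_commutator]
      refine mem_map_of_mem f ?_
      have h2 : ⁅D.subgroupOf M, D.subgroupOf M⁆.map M.subtype = ⁅D, D⁆ := by
        rw [map_commutator, map_subgroupOf_eq_of_le hDM]
      rw [← h2] at hd
      obtain ⟨w, hw, hwe⟩ := hd
      exact (show w = ⟨d, hDM hdD⟩ from Subtype.ext hwe) ▸ hw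
    rw [map_mul, map_mul, map_mul, map_inv, map_inv,
      ← hcent hfd _ (mem_map_of_mem f (show (⟨c, hQM' hc⟩ : M) ∈ Q.subgroupOf M from hc)),
      mul_inv_cancel_right, mul_inv_cancel]
  -- conclusion
  haveI : Group.IsNilpotent Q := hQp.isNilpotent
  haveI : Group.IsNilpotent D := (hD D hcompl).1
  haveI : Group.IsNilpotent ↥⁅D, D⁆ := ComponentsCores.nilpotent_of_le (commutator_le_self D) inferInstance
  let g : ↥Q × ↥(⁅D, D⁆ : Subgroup G) →* G := MonoidHom.noncommCoprod Q.subtype (⁅D, D⁆).subtype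
    (fun a b => hD' b.2 a a.2)
  haveI : Group.IsNilpotent g.range := Group.nilpotent_of_surjective g.rangeRestrict g.rangeRestrict_surjective
  have hW : ⁅S, S⁆ ≤ g.range := by
    rw [commutator_le]
    intro a ha b hb
    haveI : (Q.subgroupOf S).Normal := normal_subgroupOf_of_le_normalizer (hSM.trans hQM)
    obtain ⟨a₁, ha₁, a₂, ha₂, rfl⟩ := hcompl.2.2.2 a ha
    obtain ⟨b₁, hb₁, b₂, hb₂, rfl⟩ := hcompl.2.2.2 b hb
    set π := QuotientGroup.mk' (Q.subgroupOf S)
    have hQ1 : ∀ w : S, (w : G) ∈ Q → π w = 1 := fun w hw => (QuotientGroup.eq_one_iff w).2 hw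
    have h1 : π (⁅(⟨a₁, hQS ha₁⟩ : S) * ⟨a₂, hDS ha₂⟩, (⟨b₁, hQS hb₁⟩ : S) * ⟨b₂, hDS hb₂⟩⁆ *
        ⁅(⟨a₂, hDS ha₂⟩ : S), (⟨b₂, hDS hb₂⟩ : S)⁆⁻¹) = 1 := by
      rw [map_mul, map_inv, map_commutatorElement, map_commutatorElement, map_mul π, map_mul π,
        hQ1 ⟨a₁, hQS ha₁⟩ ha₁, hQ1 ⟨b₁, hQS hb₁⟩ hb₁, one_mul, one_mul, mul_inv_cancel]
    have h2 := Subgroup.mem_subgroupOf.1 ((QuotientGroup.eq_one_iff (N := Q.subgroupOf S) _).1 h1)
    refine ⟨(⟨_, h2⟩, ⟨⁅a₂, b₂⁆, commutator_mem_commutator ha₂ hb₂⟩), ?_⟩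
    simp only [g, MonoidHom.noncommCoprod_apply]
    exact inv_mul_cancel_right _ _
  haveI : Group.IsNilpotent ↥⁅S, S⁆ := ComponentsCores.nilpotent_of_le hW inferInstance
  intro w hw
  have hWM : ⁅S, S⁆ ≤ M := (commutator_le_self S).trans hSM
  have hWn : M ≤ normalizer ((⁅S, S⁆ : Subgroup G) : Set G) := BGSCNUniqueMain.le_normalizer_commutator' hSn hSn
  haveI : (⁅S, S⁆.subgroupOf M).Normal := normal_subgroupOf_of_le_normalizer hWn
  exact ⟨⟨w, hWM hw⟩, ComponentsCores.le_fitting (N := ⁅S, S⁆.subgroupOf M)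
    (Group.nilpotent_of_mulEquiv (subgroupOfEquivOfLe hWM).symm)
    (show (⟨w, hWM hw⟩ : M) ∈ ⁅S, S⁆.subgroupOf M from hw), rfl⟩

end Cfsg.Agent.BGFinal72
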