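import Cfsg.Agent.Lib.BG14Basic83
import Cfsg.Agent.Lib.FrobeniusOrderConj
import Cfsg.Agent.S1415
import Cfsg.Agent.S1430

/-!
Bender-Glauberman 14.2: what is known about a Hall κ(M)-subgroup K before Theorem 14.7 shows that it is cyclic.
-/

set_option autoImplicit false
set_option linter.style.haveILetI false

namespace Cfsg.Agent.BGKappaEarly

open Subgroup Cfsg.Agent.HallCore

universe u

variable {G : Type u} [Group G] [Finite G] {M K : Subgroup G}
  (hG : Cfsg.IsMinSimpleOddOrder G) (hM : IsCoatom M) (hK : Cfsg.IsPiHallOf (Cfsg.kappa M) K M)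

include hG hM hK

/-- Subgroups of prime order of K are normal in K. -/
theorem prime_normal {X : Subgroup G} (hX : X ≤ K) (hXp : (Nat.card X).Prime) :
    K ≤ normalizer (X : Set G) := by
  have hK1 : K ≠ ⊥ := by
    rintro rfl
    rw [le_bot_iff.1 hX, card_bot] at hXp
    exact hXp.ne_one rfl
  have h := ((S1430.result hG M hM K hK hK1).2.2 X hX hXp).1
  exact (le_sup_left.trans h.ge).trans inf_le_right

/-- K* is nontrivial. -/
theorem Ks_ne (hK1 : K ≠ ⊥) : Cfsg.sigmaCore M ⊓ centralizer (K : Set G) ≠ ⊥ := by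
  obtain ⟨q, X, hq, hX, hXc⟩ := BG14.exists_prime_subgroup hK1
  obtain ⟨x, hx, hx1⟩ := X.bot_or_exists_ne_one.resolve_left (BG14.ne_bot_of_card hq hXc)
  have h := BG14.fixed_ne_bot_of_kappa hG (hK.2.1 q hq (hXc ▸ card_dvd_of_le hX))
    (hX.trans hK.1) hXc
  intro hb
  refine h (eq_bot_iff.2 ?_)
  rw [← hb, ← (S1430.result hG M hM K hK hK1).1 x (hX hx) hx1]
  exact inf_le_inf_left _ (centralizer_le (by simpa using hx))

/-- If some prime outside σ(M) ∪ κ(M) divides |M|, then K is cyclic. -/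
theorem cyclic_of_rest {r : ℕ} (hr : r.Prime) (hrd : r ∣ Nat.card M) (hrσ : r ∉ Cfsg.sigma M)
    (hrκ : r ∉ Cfsg.kappa M) : IsCyclic K := by
  obtain ⟨E, hE, hKE⟩ :=
    BG14.exists_compl_ge hG hM hK.1 (PiNat.mono hK.2.1 fun _ hq => hq.2.2.1)
  have hEs : Group.IsSolvable E := BGUnique.isSolvable_of_ne_top hG fun e =>
    hM.1 (top_le_iff.1 (e ▸ hE.1))
  by_cases hA : ∀ p ∈ Cfsg.kappa M, p ∈ Cfsg.tau1 M
  · obtain ⟨E₁, hE₁, hle⟩ := BGTypeP.exists_hallOf_ge hEs (Cfsg.tau1 M) hKE (PiNat.mono hK.2.1 hA)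
    haveI := (S1415.result hG M hM E hE).2.1 E₁ hE₁
    exact isCyclic_of_injective (inclusion hle) (inclusion_injective hle)
  exfalso
  obtain ⟨p, hp, hp1⟩ : ∃ p ∈ Cfsg.kappa M, p ∉ Cfsg.tau1 M := by
    simpa only [not_forall, exists_prop] using hA
  have hp3 := (BG14.exists_of_kappa hp).1.resolve_left hp1
  have hpK : p ∣ Nat.card K := by
    have hd := hp.2.1
    rw [← BGFinal72.card_mul_relIndex hK.1] at hd
    exact (hp.1.dvd_mul.1 hd).resolve_right (hK.2.2 p hp.1 hp)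
  obtain ⟨X, hX, hXc⟩ := BG14.exists_prime_subgroup_of_dvd hp.1 hpK
  obtain ⟨E₃, hE₃, hX3⟩ := BGTypeP.exists_hallOf_ge hEs (Cfsg.tau3 M) (hX.trans hKE)
    (hXc ▸ BG14.piNat_prime hp.1 hp3)
  obtain ⟨hc, -, hn⟩ := (S1415.result hG M hM E hE).2.2 E₃ hE₃
  haveI := hc
  have hEX : E ≤ normalizer (X : Set G) := by
    intro e he
    refine SFTSigma.mem_normalizer_of_map_conj_eq ?_
    have hle : BGTypeP.cj e X ≤ E₃ := (BGTypeP.cj_mono e hX3).trans_eq (BGTypeP.cj_eq_self (hn he))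
    have h := FrobeniusOrderConj.eq_of_card_eq_of_isCyclic (G := E₃)
      (A := (BGTypeP.cj e X).subgroupOf E₃) (B := X.subgroupOf E₃) (by
        rw [Nat.card_congr (subgroupOfEquivOfLe hle).toEquiv,
          Nat.card_congr (subgroupOfEquivOfLe hX3).toEquiv, BGTypeP.card_cj])
    rw [subgroupOf_inj, inf_eq_left.2 hle, inf_eq_left.2 hX3] at h
    exact h
  have hK1 : K ≠ ⊥ := ne_bot_of_le_ne_bot (BG14.ne_bot_of_card hp.1 hXc) hX
  have hEKs : E ≤ K ⊔ (Cfsg.sigmaCore M ⊓ centralizer (K : Set G)) :=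
    ((S1430.result hG M hM K hK hK1).2.2 X hX (hXc ▸ hp.1)).1 ▸ le_inf hE.1 hEX
  have hcard : Nat.card E ∣ Nat.card K *
      Nat.card ↥(Cfsg.sigmaCore M ⊓ centralizer (K : Set G)) := by
    rw [← SFTSigma.card_sup_coprime
      (V := K) (U := Cfsg.sigmaCore M ⊓ centralizer (K : Set G))
      (inf_le_right.trans (centralizer_le_normalizer _))
      ((PiNat.coprime (PiNat.of_dvd (BGFinal72.piNat_sigmaCore M) (card_dvd_of_le inf_le_left))
        (PiNat.mono hK.2.1 fun _ h => h.2.2.1)).symm)]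
    exact card_dvd_of_le hEKs
  have hrE : r ∣ Nat.card E := by
    rw [← BGTypeBasic.card_mul_of_isComplIn hE] at hrd
    exact (hr.dvd_mul.1 hrd).resolve_right fun h => hrσ (BGFinal72.piNat_sigmaCore M r hr h)
  rcases hr.dvd_mul.1 (hrE.trans hcard) with h | h
  · exact hrκ (hK.2.1 r hr h)
  · exact hrσ (BGFinal72.piNat_sigmaCore M r hr (h.trans (card_dvd_of_le inf_le_left)))

/-- If τ₂(M) is not empty, then K is cyclic. -/
theorem cyclic_of_tau2 {q : ℕ} (hq : q ∈ Cfsg.tau2 M) : IsCyclic K :=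
  cyclic_of_rest hG hM hK hq.1 (BG14.dvd_of_tau2 hq) hq.2.1 fun h =>
    BG14.not_tau2_of_tau13 (BG14.exists_of_kappa h).1 hq

end Cfsg.Agent.BGKappaEarly
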