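import Cfsg.Agent.Lib.BGSupport35
import Cfsg.Agent.Lib.BGTypePBase
import Cfsg.Agent.S1430
import Cfsg.Agent.S1431

/-!
# BG 14.6: `σ(M)'`-elements centralizing an element of `M_σ`
-/

set_option autoImplicit false

namespace Cfsg.Agent.BGSupport35

open Subgroup Cfsg.Agent.BGUnique Cfsg.Agent.BGTypeBasic
open scoped Pointwise

universe u

variable {G : Type u} [Group G] [Finite G]

theorem hall_conj {π : Set ℕ} {M K : Subgroup G} (h : Cfsg.IsPiHallOf π K M) {m : G} (hm : m ∈ M) :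
    Cfsg.IsPiHallOf π (MulAut.conj m • K) M := by
  have hMm := conj_smul_le_self hm
  refine ⟨hMm ▸ pointwise_smul_le_pointwise_smul_iff.2 h.1, fun q hq hd => ?_,
    fun q hq hk hd => h.2.2 q hq hk ?_⟩
  · exact h.2.1 q hq (by rwa [card_smul] at hd)
  · rw [← hMm, relIndex_pointwise_smul] at hd
    exact hd

/-- A subgroup of prime order of a `π`-prime lies in some Hall `π`-subgroup conjugate to a given one. -/
theorem exists_hall_mem {π : Set ℕ} {M K : Subgroup G} (h : Cfsg.IsPiHallOf π K M) {u : G}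
    (hu : u ∈ M) {p : ℕ} [hp : Fact p.Prime] (hpπ : p ∈ π) (hup : orderOf u = p) :
    ∃ K' : Subgroup G, Cfsg.IsPiHallOf π K' M ∧ u ∈ K' := by
  obtain ⟨m, hm, hmu⟩ := exists_conj_mem_of_not_dvd_relIndex (h.2.2 p hp.out hpπ) hu
    (isPGroup_zpowers_of_orderOf hup)
  exact ⟨_, hall_conj h hm, mem_conj_smul.2 hmu⟩

variable (hG : Cfsg.IsMinSimpleOddOrder G)
include hG

/-- BG 14.6. -/
theorem fixed_cases {M : Subgroup G} (hM : IsCoatom M) {x : G} (hx : x ∈ Cfsg.sigmaCore M)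
    (hx1 : x ≠ 1) {x' : G} (hx'M : x' ∈ M) (hxx' : Commute x x') (hx'1 : x' ≠ 1)
    (hσ : ∀ p : ℕ, p.Prime → p ∣ orderOf x' → p ∉ Cfsg.sigma M) :
    ((∀ p : ℕ, p.Prime → p ∣ orderOf x' → p ∈ Cfsg.kappa M) ∧
        centralizer ({x} : Set G) ≤ M) ∨
      ((∀ p : ℕ, p.Prime → p ∣ orderOf x' → p ∈ Cfsg.tau2 M) ∧
        (∃ L : Subgroup G, IsCoatom L ∧ ∀ p : ℕ, p.Prime → p ∣ orderOf x' → p ∈ Cfsg.sigma L) ∧
        (centralizer ({x'} : Set G) ≤ M ∧
          ∀ L : Subgroup G, IsCoatom L → centralizer ({x'} : Set G) ≤ L → L = M)) := by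
  by_cases hk : ∃ p : ℕ, p.Prime ∧ p ∣ orderOf x' ∧ p ∈ Cfsg.kappa M
  · left
    obtain ⟨p, hp, hpd, hpk⟩ := hk
    haveI := Fact.mk hp
    obtain ⟨n, hn⟩ := exists_pow_prime hpd
    obtain ⟨K₀, hK₀⟩ :=
      BGTypeP.exists_hallOf (BGTypeP.solvable hG hM) (Cfsg.kappa M)
    obtain ⟨K, hK, hkK⟩ := exists_hall_mem hK₀ (M.pow_mem hx'M n) hpk hn
    have hk1 : x' ^ n ≠ 1 := fun h => hp.one_lt.ne (by rw [← hn, h, orderOf_one])
    have hKne : K ≠ ⊥ := fun h => hk1 ((mem_bot).1 (h ▸ hkK))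
    have hC := ((Cfsg.Agent.S1430.result hG M hM K hK hKne).2.2 (zpowers (x' ^ n))
      (zpowers_le.2 hkK) (by rw [Nat.card_zpowers, hn]; exact hp)).1
    set Ks := Cfsg.sigmaCore M ⊓ centralizer (K : Set G) with hKs
    have hx'KKs : x' ∈ K ⊔ Ks := by
      rw [← hC]
      refine ⟨hx'M, centralizer_le_normalizer _ (mem_centralizer_iff.2 ?_)⟩
      intro y hy
      obtain ⟨i, rfl⟩ := mem_zpowers_iff.1 hy
      exact (((Commute.refl x').pow_left n).zpow_left i).eq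
    have hcomp : Cfsg.IsComplIn K Ks (K ⊔ Ks) := by
      refine ⟨le_sup_left, le_sup_right, ?_, fun m hm => ?_⟩
      · rw [eq_bot_iff]
        refine (inf_le_inf_left K inf_le_left).trans (inf_eq_bot_of_coprime ?_).le
        exact BGTypeSetup.coprime_of_primes fun q hq h1 h2 =>
          (hK.2.1 q hq h1).2.2.1 (BGTypeSetup.mem_sigma_of_dvd hG hM hq h2)
      · have hn' : K ≤ normalizer (Ks : Set G) :=
          (le_centralizer_iff.1 (inf_le_right : Ks ≤ centralizer (K : Set G))).trans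
            (centralizer_le_normalizer _)
        have hm' : m ∈ ((K ⊔ Ks : Subgroup G) : Set G) := hm
        rw [coe_mul_of_left_le_normalizer_right K Ks hn'] at hm'
        obtain ⟨a, ha, b, hb, rfl⟩ := hm'
        exact ⟨a, ha, b, hb, rfl⟩
    have hcard : orderOf x' ∣ Nat.card K * Nat.card Ks :=
      card_mul_of_isComplIn hcomp ▸ orderOf_dvd_natCard _ hx'KKs
    refine ⟨fun q hq hd => ?_, fun g hg => ?_⟩
    · rcases hq.dvd_mul.1 (hd.trans hcard) with h | h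
      · exact hK.2.1 q hq h
      · exact absurd (BGTypeSetup.mem_sigma_of_dvd hG hM hq
          (h.trans (card_dvd_of_le inf_le_left))) (hσ q hq hd)
    · have hxKs : x ∈ Ks := by
        rw [hKs, ← (Cfsg.Agent.S1430.result hG M hM K hK hKne).1 _ hkK hk1]
        refine ⟨hx, mem_centralizer_iff.2 ?_⟩
        rintro y rfl
        exact (hxx'.pow_right n).eq.symm
      by_contra hgM
      have h0 := (Cfsg.Agent.S1431.result hG M hM K hK hKne).1 g hgM
      refine hx1 ((mem_bot).1 (h0 ▸ ⟨hxKs, ?_⟩))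
      refine ⟨x, hxKs.1 |> fun h => BGTypeSetup.sigmaCore_le M h, ?_⟩
      have hgx : Commute x g := mem_centralizer_iff.1 hg x rfl
      simpa using mul_inv_eq_of_eq_mul hgx.eq.symm
  · right
    push Not at hk
    have hτ : ∀ p : ℕ, p.Prime → p ∣ orderOf x' → p ∈ Cfsg.tau2 M := by
      intro p hp hpd
      obtain ⟨n, hn⟩ := exists_pow_prime hpd
      exact BGFinal72.mem_tau2_of_fixed hG hM hp (hσ p hp hpd) (hk p hp hpd) (M.pow_mem hx'M n)
        hn hx hx1 (hxx'.pow_right n).eq.symm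
    refine ⟨hτ, ?_, ?_⟩
    · obtain ⟨p, hp, hpd⟩ := Nat.exists_prime_and_dvd
        (fun h => hx'1 (orderOf_eq_one_iff.1 h) : orderOf x' ≠ 1)
      haveI := Fact.mk hp
      obtain ⟨A, hAM, hA, hAc⟩ := exists_sq_of_tau2 (hτ p hp hpd)
      have hA1 : A ≠ ⊥ := fun h => by
        rw [h, card_bot] at hAc
        exact absurd hAc (by nlinarith [hp.two_le])
      have hAtop : A ≠ ⊤ := fun h => hM.1 (top_le_iff.1 (h ▸ hAM))
      obtain ⟨L, hL, hNL⟩ := exists_coatom_ge (BGSigma.normalizer_ne_top' hG hA1 hAtop)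
      exact ⟨L, hL, fun q hq hd =>
        tau2_subset_sigma hG hM hL (hτ p hp hpd) hAM hA hAc hNL q (hτ q hq hd)⟩
    · obtain ⟨E, hE⟩ := exists_sigma_compl hG hM
      exact (Cfsg.Agent.S1420.result hG M hM E hE).2.2.2 x' hx'M hx'1 hτ
        ⟨hx'M, x, hx, hx1, hxx'.symm.eq⟩

end Cfsg.Agent.BGSupport35
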