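import Cfsg.Agent.Lib.BGSupportCover35

/-!
# BG 14.4, 14.5: disjointness of the sets `x R(x)` and their count
-/

set_option autoImplicit false

namespace Cfsg.Agent.BGSupport35

open Subgroup Cfsg.Agent.BGUnique Cfsg.Agent.BGTypeBasic
open scoped Pointwise

universe u

variable {G : Type u} [Group G] [Finite G]

omit [Finite G] in
theorem eq_of_mul_eq_mul_of_coprime {x r y s : G} (hxr : Commute x r) (hys : Commute y s)
    (h : x * r = y * s) (hco : (orderOf x * orderOf y).Coprime (orderOf r * orderOf s)) :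
    x = y := by
  obtain ⟨k, hk1, hk0⟩ := Nat.chineseRemainder hco 1 0
  have hp : ∀ {a : G}, orderOf a ∣ orderOf x * orderOf y → a ^ k = a := fun {a} ha => by
    have := pow_eq_pow_iff_modEq.2 (hk1.of_dvd ha)
    rwa [pow_one] at this
  have hz : ∀ {a : G}, orderOf a ∣ orderOf r * orderOf s → a ^ k = 1 := fun {a} ha => by
    rw [← pow_zero a]
    exact pow_eq_pow_iff_modEq.2 (hk0.of_dvd ha)
  have h1 := congrArg (· ^ k) h
  simp only [hxr.mul_pow, hys.mul_pow, hp (dvd_mul_right _ _), hp (dvd_mul_left _ _),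
    hz (dvd_mul_right _ _), hz (dvd_mul_left _ _), mul_one] at h1
  exact h1

variable (hG : Cfsg.IsMinSimpleOddOrder G)
include hG

theorem mem_sigma_of_mem {M : Subgroup G} (hM : IsCoatom M) {x : G} (hx : x ∈ Cfsg.sigmaCore M)
    {p : ℕ} (hp : p.Prime) (hd : p ∣ orderOf x) : p ∈ Cfsg.sigma M :=
  BGTypeSetup.mem_sigma_of_dvd hG hM hp (hd.trans ((Cfsg.sigmaCore M).orderOf_dvd_natCard hx))

/-- The primes of an element of `R(x)`. -/
theorem supportR_prime {M : Subgroup G} (hM : IsCoatom M) {x : G} (hx : x ∈ Cfsg.sigmaCore M)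
    (hx1 : x ≠ 1) {r : G} (hr : r ∈ Cfsg.supportR M x) {p : ℕ} (hp : p.Prime)
    (hd : p ∣ orderOf r) :
    ∃ L : Subgroup G, IsCoatom L ∧ centralizer ({x} : Set G) ≤ L ∧ r ∈ Cfsg.sigmaCore L ∧
      p ∈ Cfsg.sigma L ∧ p ∉ Cfsg.sigma M := by
  by_cases hxM : centralizer ({x} : Set G) ≤ M
  · rw [supportR_of_le hxM, mem_bot] at hr
    rw [hr, orderOf_one] at hd
    exact absurd (Nat.dvd_one.1 hd) hp.ne_one
  obtain ⟨N, hN, hCN, -, -, hnc, -⟩ := centralizer_data hG hM hx hx1 hxM
  rw [supportR_eq hG hM hx hx1 hxM hN hCN] at hr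
  refine ⟨N, hN, hCN, hr.1, mem_sigma_of_mem hG hN hr.1 hp hd, fun h => ?_⟩
  obtain ⟨g, hg⟩ :=
    BGSigmaPartition.conj_of_sigma_inter hG hM hN h (mem_sigma_of_mem hG hN hr.1 hp hd)
  exact hnc g (by rwa [BGTypeBasic.conj_smul_eq_map])

/-- BG 14.4: the sets `x R(x)` are disjoint. -/
theorem cover_disjoint {M N : Subgroup G} (hM : IsCoatom M) (hN : IsCoatom N) {x y : G}
    (hx : x ∈ Cfsg.sigmaCore M) (hy : y ∈ Cfsg.sigmaCore N) (hx1 : x ≠ 1) (hy1 : y ≠ 1)
    {r s : G} (hr : r ∈ Cfsg.supportR M x) (hs : s ∈ Cfsg.supportR N y) (h : x * r = y * s) :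
    x = y := by
  have hxr : Commute x r := mem_centralizer_iff.1 (supportR_le_centralizer M x hr) x rfl
  have hys : Commute y s := mem_centralizer_iff.1 (supportR_le_centralizer N y hs) y rfl
  by_cases hconj : ∃ g : G, N = MulAut.conj g • M
  · obtain ⟨g, rfl⟩ := hconj
    refine eq_of_mul_eq_mul_of_coprime hxr hys h (BGTypeSetup.coprime_of_primes fun p hp h1 h2 => ?_)
    have h1' : p ∈ Cfsg.sigma M := by
      rcases hp.dvd_mul.1 h1 with h1 | h1
      · exact mem_sigma_of_mem hG hM hx hp h1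
      · exact sigma_smul g M ▸ mem_sigma_of_mem hG hN hy hp h1
    rcases hp.dvd_mul.1 h2 with h2 | h2
    · obtain ⟨-, -, -, -, -, h3⟩ := supportR_prime hG hM hx hx1 hr hp h2
      exact h3 h1'
    · obtain ⟨-, -, -, -, -, h3⟩ := supportR_prime hG hN hy hy1 hs hp h2
      exact h3 (by rwa [sigma_smul])
  exfalso
  have hdis : ∀ p : ℕ, p ∈ Cfsg.sigma M → p ∉ Cfsg.sigma N := by
    intro p h1 h2
    obtain ⟨g, hg⟩ := BGSigmaPartition.conj_of_sigma_inter hG hM hN h1 h2
    exact hconj ⟨g, by rwa [BGTypeBasic.conj_smul_eq_map]⟩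
  have hcxr : (orderOf x).Coprime (orderOf r) :=
    BGTypeSetup.coprime_of_primes fun p hp h1 h2 => by
      obtain ⟨-, -, -, -, -, h3⟩ := supportR_prime hG hM hx hx1 hr hp h2
      exact h3 (mem_sigma_of_mem hG hM hx hp h1)
  have hcys : (orderOf y).Coprime (orderOf s) :=
    BGTypeSetup.coprime_of_primes fun p hp h1 h2 => by
      obtain ⟨-, -, -, -, -, h3⟩ := supportR_prime hG hN hy hy1 hs hp h2
      exact h3 (mem_sigma_of_mem hG hN hy hp h1)
  have ho : orderOf x * orderOf r = orderOf y * orderOf s := by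
    rw [← hxr.orderOf_mul_eq_mul_orderOf_of_coprime hcxr,
      ← hys.orderOf_mul_eq_mul_orderOf_of_coprime hcys, h]
  -- a prime of `y` lies in `r`, one of `x` in `s`
  obtain ⟨q, hq, hqd⟩ := Nat.exists_prime_and_dvd
    (fun h => hy1 (orderOf_eq_one_iff.1 h) : orderOf y ≠ 1)
  obtain ⟨p, hp, hpd⟩ := Nat.exists_prime_and_dvd
    (fun h => hx1 (orderOf_eq_one_iff.1 h) : orderOf x ≠ 1)
  have hqr : q ∣ orderOf r :=
    (hq.dvd_mul.1 (ho ▸ hqd.trans (dvd_mul_right _ _))).resolve_left fun h1 =>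
      hdis q (mem_sigma_of_mem hG hM hx hq h1) (mem_sigma_of_mem hG hN hy hq hqd)
  have hps : p ∣ orderOf s :=
    (hp.dvd_mul.1 (ho.symm ▸ hpd.trans (dvd_mul_right _ _))).resolve_left fun h1 =>
      hdis p (mem_sigma_of_mem hG hM hx hp hpd) (mem_sigma_of_mem hG hN hy hp h1)
  obtain ⟨Lx, hLx, hCx, hrLx, hqLx, -⟩ := supportR_prime hG hM hx hx1 hr hq hqr
  obtain ⟨Ly, hLy, hCy, hsLy, hpLy, -⟩ := supportR_prime hG hN hy hy1 hs hp hps
  obtain ⟨a, ha⟩ := BGSigmaPartition.conj_of_sigma_inter hG hN hLx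
    (mem_sigma_of_mem hG hN hy hq hqd) hqLx
  obtain ⟨b, hb⟩ := BGSigmaPartition.conj_of_sigma_inter hG hM hLy
    (mem_sigma_of_mem hG hM hx hp hpd) hpLy
  have hσx : Cfsg.sigma Lx = Cfsg.sigma N := by rw [ha, sigma_map]
  have hσy : Cfsg.sigma Ly = Cfsg.sigma M := by rw [hb, sigma_map]
  have hco : (orderOf x * orderOf s).Coprime (orderOf r * orderOf y) := by
    refine BGTypeSetup.coprime_of_primes fun t ht h1 h2 => hdis t ?_ ?_
    · rcases ht.dvd_mul.1 h1 with h1 | h1
      · exact mem_sigma_of_mem hG hM hx ht h1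
      · exact hσy ▸ mem_sigma_of_mem hG hLy hsLy ht h1
    · rcases ht.dvd_mul.1 h2 with h2 | h2
      · exact hσx ▸ mem_sigma_of_mem hG hLx hrLx ht h2
      · exact mem_sigma_of_mem hG hN hy ht h2
  have hxs : x = s := eq_of_mul_eq_mul_of_coprime hxr hys.symm (h.trans hys.eq) hco
  have hry : r = y := by
    have h' := h
    rw [hys.eq, hxs] at h'
    exact mul_left_cancel h'
  have hCne : ¬ centralizer ({x} : Set G) ≤ Ly := by
    intro hle
    have hxM : ¬ centralizer ({x} : Set G) ≤ M := fun hle' => by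
      rw [supportR_of_le hle', mem_bot] at hr
      exact hy1 (hry.symm.trans hr)
    obtain ⟨N', -, -, huniq, -⟩ := centralizer_data hG hM hx hx1 hxM
    have he : Ly = Lx := (huniq Ly hLy hle).trans (huniq Lx hLx hCx).symm
    exact hdis p (mem_sigma_of_mem hG hM hx hp hpd) (hσx ▸ he ▸ hpLy)
  obtain ⟨N', hN', hCN', huniq, -, -, -, hc, -⟩ :=
    centralizer_data hG hLy (hxs ▸ hsLy) hx1 hCne
  have he : Lx = N' := huniq Lx hLx hCx
  have hyy : y ∈ centralizer ({y} : Set G) := mem_centralizer_iff.2 fun z hz => by rw [hz]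
  have hyLx : y ∈ Cfsg.sigmaCore N' := he ▸ hry ▸ hrLx
  have h0 : y ∈ Ly ⊓ N' ⊓ Cfsg.sigmaCore N' :=
    mem_inf.2 ⟨mem_inf.2 ⟨hCy hyy, BGTypeSetup.sigmaCore_le _ hyLx⟩, hyLx⟩
  rw [hc.2.2.1, mem_bot] at h0
  exact hy1 h0

/-! ### Equivariance -/

theorem supportR_smul {M : Subgroup G} (hM : IsCoatom M) {x : G} (hx : x ∈ Cfsg.sigmaCore M)
    (hx1 : x ≠ 1) (g : G) :
    Cfsg.supportR (MulAut.conj g • M) (g * x * g⁻¹) = MulAut.conj g • Cfsg.supportR M x := by
  by_cases hxM : centralizer ({x} : Set G) ≤ M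
  · rw [supportR_of_le hxM, supportR_of_le, Subgroup.smul_bot]
    rw [← centralizer_singleton_smul]
    exact pointwise_smul_le_pointwise_smul_iff.2 hxM
  obtain ⟨N, hN, hCN, -⟩ := centralizer_data hG hM hx hx1 hxM
  have hx' : g * x * g⁻¹ ∈ Cfsg.sigmaCore (MulAut.conj g • M) := by
    rw [sigmaCore_smul]; exact conj_mem_conj_smul hx
  have hx1' : g * x * g⁻¹ ≠ 1 := fun h => hx1 (conj_eq_one_iff.1 h)
  have hne : ¬ centralizer ({g * x * g⁻¹} : Set G) ≤ MulAut.conj g • M := by
    rw [← centralizer_singleton_smul]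
    exact fun h => hxM (pointwise_smul_le_pointwise_smul_iff.1 h)
  have hle : centralizer ({g * x * g⁻¹} : Set G) ≤ MulAut.conj g • N := by
    rw [← centralizer_singleton_smul]
    exact pointwise_smul_le_pointwise_smul_iff.2 hCN
  rw [supportR_eq hG hM hx hx1 hxM hN hCN,
    supportR_eq hG (isCoatom_conj g hM) hx' hx1' hne (isCoatom_conj g hN) hle, Subgroup.smul_inf,
    sigmaCore_smul, centralizer_singleton_smul]

theorem supportR_conj_indep {M : Subgroup G} (hM : IsCoatom M) {u : G} (hu1 : u ≠ 1) {a b : G}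
    (ha : u ∈ Cfsg.sigmaCore (MulAut.conj a • M)) (hb : u ∈ Cfsg.sigmaCore (MulAut.conj b • M)) :
    Cfsg.supportR (MulAut.conj a • M) u = Cfsg.supportR (MulAut.conj b • M) u := by
  have key : ∀ {c d : G}, u ∈ Cfsg.sigmaCore (MulAut.conj c • M) →
      u ∈ Cfsg.sigmaCore (MulAut.conj d • M) →
      centralizer ({u} : Set G) ≤ MulAut.conj c • M →
      MulAut.conj d • M = MulAut.conj c • M := by
    intro c d hc hd hle
    have hd' : u ∈ MulAut.conj (d * c⁻¹) • MulAut.conj c • M := by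
      rw [smul_smul', inv_mul_cancel_right]
      exact BGTypeSetup.sigmaCore_le _ hd
    obtain ⟨r, hr, hrM⟩ := exists_supportR_conj hG (isCoatom_conj c hM) hc hu1 hd'
    rw [supportR_of_le hle, mem_bot] at hr
    rw [hr, map_one, one_smul, smul_smul', inv_mul_cancel_right] at hrM
    exact hrM.symm
  by_cases h1 : centralizer ({u} : Set G) ≤ MulAut.conj a • M
  · rw [key ha hb h1]
  by_cases h2 : centralizer ({u} : Set G) ≤ MulAut.conj b • M
  · rw [key hb ha h2]
  obtain ⟨N, hN, hCN, -⟩ := centralizer_data hG (isCoatom_conj a hM) ha hu1 h1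
  rw [supportR_eq hG (isCoatom_conj a hM) ha hu1 h1 hN hCN,
    supportR_eq hG (isCoatom_conj b hM) hb hu1 h2 hN hCN]

/-- BG 14.5: the number of elements in the cover attached to `M_σ`. -/
theorem ncard_tilde {M : Subgroup G} (hM : IsCoatom M) :
    Set.ncard (Cfsg.tildeOf M ((Cfsg.sigmaCore M : Set G) \ {1})) =
      (Nat.card (Cfsg.sigmaCore M) - 1) * M.index := by
  classical
  set S := Cfsg.sigmaCore M with hS
  let D := (G ⧸ M) × {h : S // h ≠ 1}
  let el : D → G := fun d => d.1.out * (d.2.1 : G) * d.1.out⁻¹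
  have hel : ∀ d : D, el d ∈ Cfsg.sigmaCore (MulAut.conj d.1.out • M) := fun d => by
    rw [sigmaCore_smul]; exact conj_mem_conj_smul d.2.1.2
  have hel1 : ∀ d : D, el d ≠ 1 := fun d h =>
    d.2.2 (Subtype.ext (conj_eq_one_iff.1 h))
  let base : G → G := fun u =>
    if h : ∃ g : G, u ∈ Cfsg.sigmaCore (MulAut.conj g • M) then h.choose else 1
  have hbase : ∀ {u g : G}, u ∈ Cfsg.sigmaCore (MulAut.conj g • M) →
      u ∈ Cfsg.sigmaCore (MulAut.conj (base u) • M) := fun {u g} h => by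
    have hex : ∃ g : G, u ∈ Cfsg.sigmaCore (MulAut.conj g • M) := ⟨g, h⟩
    simp only [base, dif_pos hex]
    exact hex.choose_spec
  have hexr : ∀ d : D, ∃ r ∈ Cfsg.supportR (MulAut.conj (base (el d)) • M) (el d),
      MulAut.conj r • MulAut.conj (base (el d)) • M = MulAut.conj d.1.out • M := by
    intro d
    have h : el d ∈ MulAut.conj (d.1.out * (base (el d))⁻¹) • MulAut.conj (base (el d)) • M := by
      rw [smul_smul', inv_mul_cancel_right]
      exact BGTypeSetup.sigmaCore_le _ (hel d)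
    obtain ⟨r, hr, hrM⟩ :=
      exists_supportR_conj hG (isCoatom_conj _ hM) (hbase (hel d)) (hel1 d) h
    exact ⟨r, hr, hrM.trans (by rw [smul_smul', inv_mul_cancel_right])⟩
  choose rr hrr hrrM using hexr
  let Ψ : D → G := fun d => el d * rr d
  have hinj : Function.Injective Ψ := by
    intro d d' hdd
    have hu : el d = el d' := cover_disjoint hG (isCoatom_conj _ hM) (isCoatom_conj _ hM)
      (hbase (hel d)) (hbase (hel d')) (hel1 d) (hel1 d') (hrr d) (hrr d') hdd
    have hr : rr d = rr d' := by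
      have h := hdd
      simp only [Ψ, hu] at h
      exact mul_left_cancel h
    have hq : d.1 = d'.1 := by
      have h := hrrM d
      rw [hr, hu, hrrM d'] at h
      have hm : d.1.out⁻¹ * d'.1.out ∈ M := by
        refine BGSigma.mem_of_conj_eq hG hM ?_
        rw [map_mul, mul_smul, h, inv_smul_smul']
      rw [← QuotientGroup.out_eq' d.1, ← QuotientGroup.out_eq' d'.1]
      exact QuotientGroup.eq.2 hm
    obtain ⟨q, h, hh⟩ := d
    obtain ⟨q', h', hh'⟩ := d'
    obtain rfl : q = q' := hq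
    refine Prod.ext rfl (Subtype.ext (Subtype.ext ?_))
    simpa [el] using hu
  have hrange : Set.range Ψ = Cfsg.tildeOf M ((S : Set G) \ {1}) := by
    ext z
    constructor
    · rintro ⟨d, rfl⟩
      set t := base (el d) with ht
      have hu := hbase (hel d)
      rw [← ht, sigmaCore_smul, mem_conj_smul] at hu
      have hu1 : t⁻¹ * el d * t ≠ 1 := fun h => hel1 d (by
        calc el d = t * (t⁻¹ * el d * t) * t⁻¹ := by group
          _ = 1 := by rw [h]; group)
      refine ⟨t⁻¹ * el d * t, ⟨hu, hu1⟩, t⁻¹ * rr d * t, ?_, t, by simp only [Ψ]; group⟩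
      have h := supportR_smul hG hM hu hu1 t
      rw [show t * (t⁻¹ * el d * t) * t⁻¹ = el d by group] at h
      exact mem_conj_smul.1 (h ▸ hrr d)
    · rintro ⟨a, ⟨ha, ha1⟩, r, hr, t, rfl⟩
      set u := t * a * t⁻¹ with hu
      set r' := t * r * t⁻¹ with hr'
      have hut : u ∈ Cfsg.sigmaCore (MulAut.conj t • M) := by
        rw [sigmaCore_smul]; exact conj_mem_conj_smul ha
      have hu1 : u ≠ 1 := fun h => ha1 (conj_eq_one_iff.1 h)
      have hr'R : r' ∈ Cfsg.supportR (MulAut.conj (base u) • M) u := by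
        rw [supportR_conj_indep hG hM hu1 (hbase hut) hut, hu, supportR_smul hG hM ha ha1]
        exact conj_mem_conj_smul hr
      set q : G ⧸ M := QuotientGroup.mk (r' * base u) with hq
      have hqM : MulAut.conj q.out • M = MulAut.conj (r' * base u) • M := by
        obtain ⟨m, hm⟩ := QuotientGroup.mk_out_eq_mul M (r' * base u)
        rw [hq, hm, map_mul, mul_smul, conj_smul_le_self m.2]
      have hcr : Commute u r' := mem_centralizer_iff.1 (supportR_le_centralizer _ u hr'R) u rfl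
      have hh : q.out⁻¹ * u * q.out ∈ S := by
        refine mem_conj_smul.1 ?_
        rw [hS, ← sigmaCore_smul, hqM, ← smul_smul', sigmaCore_smul, mem_conj_smul,
          show r'⁻¹ * u * r' = u by rw [mul_assoc, hcr.eq, inv_mul_cancel_left]]
        exact hbase hut
      have hh1 : (⟨_, hh⟩ : S) ≠ 1 := fun h => hu1 (by
        have h' : q.out⁻¹ * u * q.out = 1 := congrArg Subtype.val h
        calc u = q.out * (q.out⁻¹ * u * q.out) * q.out⁻¹ := by group
          _ = 1 := by rw [h']; group)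
      let d : D := (q, ⟨⟨_, hh⟩, hh1⟩)
      have hed : el d = u := by simp only [el, d]; group
      have hrd : rr d = r' := by
        have h1 := hrr d
        have h2 := hrrM d
        rw [hed] at h1 h2
        refine supportR_conj_inj hG (isCoatom_conj _ hM) (hbase hut) hu1 h1 hr'R ?_
        rw [h2, hqM, smul_smul']
      refine ⟨d, ?_⟩
      simp only [Ψ, hed, hrd, hu, hr']
      group
  rw [← hrange, Set.ncard_range_of_injective hinj, Nat.card_prod, mul_comm]
  congr 1
  have h := Set.ncard_compl ({1} : Set S)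
  rw [Set.ncard_singleton, ← Nat.card_coe_set_eq] at h
  exact h

end Cfsg.Agent.BGSupport35
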