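import Cfsg.Agent.Lib.BGTypePBase
import Cfsg.Agent.Lib.BGSigmaPartition
import Cfsg.Agent.Lib.BGKappaEarly72
import Cfsg.Agent.S1352
import Cfsg.Agent.S1374
import Cfsg.Agent.S1375
import Cfsg.Agent.S1432
import Cfsg.Agent.S1433

/-!
Bender-Glauberman, Lemma 14.6: every non-identity element of G is either in some M̃ or is a product
y y' with y ∈ M_σ and y' a κ(M)-element of C_M(y), and never both.
-/

set_option autoImplicit false
set_option linter.style.haveILetI false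

namespace Cfsg.Agent.BGTypeP

open Subgroup Cfsg.Agent.HallCore

universe u

variable {G : Type u} [Group G] [Finite G]

/-- σ(M) and σ(N) meet only for conjugate M and N. -/
theorem conj_of_inter (hG : Cfsg.IsMinSimpleOddOrder G) {M N : Subgroup G} (hM : IsCoatom M)
    (hN : IsCoatom N) {p : ℕ} (hpM : p ∈ Cfsg.sigma M) (hpN : p ∈ Cfsg.sigma N) :
    ∃ g : G, N = cj g M :=
  BGSigmaPartition.conj_of_sigma_inter hG hM hN hpM hpN

theorem sigma_eq_of_inter (hG : Cfsg.IsMinSimpleOddOrder G) {M N : Subgroup G} (hM : IsCoatom M)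
    (hN : IsCoatom N) {p : ℕ} (hpM : p ∈ Cfsg.sigma M) (hpN : p ∈ Cfsg.sigma N) :
    Cfsg.sigma N = Cfsg.sigma M := by
  obtain ⟨g, rfl⟩ := conj_of_inter hG hM hN hpM hpN
  exact sigma_cj g M

/-- A prime-order element of a non-trivial σ-element gives a prime of σ. -/
theorem exists_prime_of_mem_sigmaCore {M : Subgroup G} {x : G} (hx : x ∈ Cfsg.sigmaCore M)
    (hx1 : x ≠ 1) : ∃ p : ℕ, p.Prime ∧ p ∣ orderOf x ∧ p ∈ Cfsg.sigma M := by
  obtain ⟨p, hp, hd⟩ := Nat.exists_prime_and_dvd (n := orderOf x) (by simpa using hx1)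
  exact ⟨p, hp, hd, piNat_mem_sigmaCore hx p hp hd⟩

/-- The common data attached to an element x of M_σ with C(x) not in M. -/
structure OutN (M : Subgroup G) (x : G) (L : Subgroup G) : Prop where
  coatom : IsCoatom L
  le : centralizer ({x} : Set G) ≤ L
  unique : ∀ L' : Subgroup G, IsCoatom L' → centralizer ({x} : Set G) ≤ L' → L' = L
  compl : Cfsg.IsComplIn (M ⊓ centralizer ({x} : Set G))
    (Cfsg.sigmaCore L ⊓ centralizer ({x} : Set G)) (centralizer ({x} : Set G))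
  supportR_eq : Cfsg.supportR M x = Cfsg.sigmaCore L ⊓ centralizer ({x} : Set G)
  disjoint : ∀ p : ℕ, p ∈ Cfsg.sigma M → p ∉ Cfsg.sigma L
  fittingHall : Cfsg.sigmaCore L = Cfsg.fittingHallOf L
  notMem : x ∉ Cfsg.sigmaCore L
  mem_sigmaA : ∀ K' U' : Subgroup G, Cfsg.IsSigmaDecomposition L K' U' →
    U' ≠ ⊥ ∧ x ∈ Cfsg.sigmaA L U'
  inf_compl : Cfsg.IsComplIn (M ⊓ L) (Cfsg.sigmaCore L) L
  decomp : ∃ K' U' : Subgroup G, Cfsg.IsSigmaDecomposition L K' U'

theorem exists_outN (hG : Cfsg.IsMinSimpleOddOrder G) {M : Subgroup G} (hM : IsCoatom M) {x : G}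
    (hx : x ∈ Cfsg.sigmaCore M) (hx1 : x ≠ 1) (hxM : ¬ centralizer ({x} : Set G) ≤ M) :
    ∃ L : Subgroup G, OutN M x L := by
  obtain ⟨L, ⟨hL, hle⟩, huniq, hF, -, hcompl, hinf, hdec⟩ := S1375.result hG M hM x hx hx1 hxM
  have hdec0 : ∃ K' U' : Subgroup G, Cfsg.IsSigmaDecomposition L K' U' := by
    obtain ⟨N, hN, hCN, -, -, -, -, -, -, hτ, -⟩ := BGSupport35.centralizer_data hG hM hx hx1 hxM
    obtain rfl := huniq N hN hCN
    obtain ⟨q, hq, hd⟩ := Nat.exists_prime_and_dvd (n := orderOf x) (by simpa using hx1)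
    obtain ⟨K', hK'⟩ := exists_hallOf (solvable hG hN) (Cfsg.kappa N)
    exact ⟨K', (S1352.result hG N hN K'
      (BGKappaEarly.cyclic_of_tau2 hG hN hK' (hτ q hq hd)) hK').1⟩
  obtain ⟨K', U', hKU'⟩ := hdec0
  refine ⟨L, hL, hle, huniq, hcompl, ?_, fun p hpM hpL => ?_, hF, (hdec K' U' hKU').2.2,
    fun K U hKU => ⟨(hdec K U hKU).1, (hdec K U hKU).2.1⟩, hinf, K', U', hKU'⟩
  · have hc : ¬ centralizer ({x} : Set G) ≤ M ∧
        ∃! L : Subgroup G, IsCoatom L ∧ centralizer ({x} : Set G) ≤ L :=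
      ⟨hxM, L, ⟨hL, hle⟩, fun L' hL' => huniq L' hL'.1 hL'.2⟩
    rw [Cfsg.supportR, dif_pos hc]
    obtain ⟨h1, h2⟩ := Classical.choose_spec hc.2.exists
    rw [huniq _ h1 h2, ← hF]
  · refine (hdec K' U' hKU').2.2 (mem_sigmaCore hG hL (hle ?_) ?_)
    · exact mem_centralizer_singleton_iff.2 rfl
    · rw [sigma_eq_of_inter hG hM hL hpM hpL]
      exact piNat_mem_sigmaCore hx

theorem supportR_eq_bot {M : Subgroup G} {x : G} (h : centralizer ({x} : Set G) ≤ M) :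
    Cfsg.supportR M x = ⊥ := by
  rw [Cfsg.supportR, dif_neg fun h' => h'.1 h]

/-- g = a r with a ∈ M_σ and r ∈ R(a). -/
structure IsA (M : Subgroup G) (a r : G) : Prop where
  coatom : IsCoatom M
  mem : a ∈ Cfsg.sigmaCore M
  ne : a ≠ 1
  supp : r ∈ Cfsg.supportR M a

theorem IsA.cases (hG : Cfsg.IsMinSimpleOddOrder G) {M : Subgroup G} {a r : G} (h : IsA M a r) :
    r = 1 ∨ ¬ centralizer ({a} : Set G) ≤ M ∧ ∃ L, OutN M a L ∧ r ∈ Cfsg.sigmaCore L ∧
      Commute a r := by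
  by_cases hC : centralizer ({a} : Set G) ≤ M
  · have := h.supp
    rw [supportR_eq_bot hC, mem_bot] at this
    exact Or.inl this
  · obtain ⟨L, hL⟩ := exists_outN hG h.coatom h.mem h.ne hC
    have := h.supp
    rw [hL.supportR_eq] at this
    exact Or.inr ⟨hC, L, hL, this.1, (mem_centralizer_singleton_iff.1 this.2).symm⟩

theorem IsA.commute (hG : Cfsg.IsMinSimpleOddOrder G) {M : Subgroup G} {a r : G} (h : IsA M a r) :
    Commute a r := by
  rcases h.cases hG with rfl | ⟨-, L, -, -, hc⟩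
  · exact Commute.one_right a
  · exact hc

theorem IsA.piNat_right (hG : Cfsg.IsMinSimpleOddOrder G) {M : Subgroup G} {a r : G}
    (h : IsA M a r) : PiNat (Cfsg.sigma M)ᶜ (orderOf r) := by
  rcases h.cases hG with rfl | ⟨-, L, hL, hr, -⟩
  · rw [orderOf_one]; exact piNat_one _
  · exact (piNat_mem_sigmaCore hr).mono fun p hp hpM => hL.disjoint p hpM hp

theorem IsA.mul_ne_one (hG : Cfsg.IsMinSimpleOddOrder G) {M : Subgroup G} {a r : G}
    (h : IsA M a r) : a * r ≠ 1 := by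
  intro e
  refine h.ne (eq_one_of_piNat (piNat_mem_sigmaCore h.mem) ?_)
  rw [eq_inv_of_mul_eq_one_left e, orderOf_inv]
  exact h.piNat_right hG

theorem IsA.mem_tilde {M : Subgroup G} {a r : G} (h : IsA M a r) :
    a * r ∈ Cfsg.tildeOf M ((Cfsg.sigmaCore M : Set G) \ {1}) :=
  ⟨a, ⟨h.mem, h.ne⟩, r, h.supp, 1, by group⟩

theorem exists_isA_of_tilde {M : Subgroup G} (hM : IsCoatom M) {g : G}
    (hg : g ∈ Cfsg.tildeOf M ((Cfsg.sigmaCore M : Set G) \ {1})) :
    ∃ a r y, IsA M a r ∧ g = y * (a * r) * y⁻¹ := by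
  obtain ⟨a, ⟨ha, ha1⟩, r, hr, y, e⟩ := hg
  exact ⟨a, r, y, ⟨hM, ha, ha1, hr⟩, e⟩

theorem IsA.conj (hG : Cfsg.IsMinSimpleOddOrder G) {M : Subgroup G} {a r : G} (h : IsA M a r)
    (g : G) : IsA (cj g M) (g * a * g⁻¹) (g * r * g⁻¹) := by
  have hmem : g * a * g⁻¹ ∈ Cfsg.sigmaCore (cj g M) := by
    rw [sigmaCore_cj g hG h.coatom]
    exact conj_mem_cj.2 h.mem
  have hne : g * a * g⁻¹ ≠ 1 := fun e => h.ne (conj_eq_one_iff.1 e)
  refine ⟨isCoatom_cj g h.coatom, hmem, hne, ?_⟩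
  rcases h.cases hG with rfl | ⟨hC, L, hL, hr, hc⟩
  · simp
  · have hC' : ¬ centralizer ({g * a * g⁻¹} : Set G) ≤ cj g M := by
      rw [← cj_centralizer_singleton]
      intro hle
      exact hC ((map_le_map_iff_of_injective (MulAut.conj g).injective).1 hle)
    obtain ⟨L', hL'⟩ := exists_outN hG (isCoatom_cj g h.coatom) hmem hne hC'
    have e : L' = cj g L := (hL'.unique _ (isCoatom_cj g hL.coatom)
      (by rw [← cj_centralizer_singleton]; exact cj_mono g hL.le)).symm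
    rw [hL'.supportR_eq, e, sigmaCore_cj g hG hL.coatom]
    exact ⟨conj_mem_cj.2 hr, mem_centralizer_singleton_iff.2
      (hc.symm.map (MulAut.conj g).toMonoidHom).eq⟩

/-- g = y y' with y ∈ N_σ and y' a κ(N)-element of C_N(y). -/
structure IsB (N : Subgroup G) (y y' : G) : Prop where
  coatom : IsCoatom N
  mem : y ∈ Cfsg.sigmaCore N
  ne : y ≠ 1
  mem' : y' ∈ N
  ne' : y' ≠ 1
  comm : Commute y y'
  kappa : PiNat (Cfsg.kappa N) (orderOf y')

theorem IsB.centralizer_le (hG : Cfsg.IsMinSimpleOddOrder G) {N : Subgroup G} {y y' : G}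
    (h : IsB N y y') : centralizer ({y} : Set G) ≤ N := by
  rcases S1432.result hG N h.coatom y h.mem h.ne y'
    ⟨h.mem', mem_centralizer_singleton_iff.2 h.comm.eq.symm⟩ h.ne'
    (fun p hp hd => (h.kappa p hp hd).2.2.1) with ⟨-, hle⟩ | ⟨hτ, -⟩
  · exact hle
  · exfalso
    obtain ⟨p, hp, hd⟩ := Nat.exists_prime_and_dvd (n := orderOf y') (by simpa using h.ne')
    haveI := Fact.mk hp
    obtain ⟨-, -, -, hr1⟩ := hτ p hp hd
    obtain ⟨-, -, -, hsyl⟩ := h.kappa p hp hd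
    refine hr1 fun A hA hexp => ?_
    haveI := hA
    have hAp : IsPGroup p A := fun a => ⟨1, Subtype.ext (by simpa using hexp a a.2)⟩
    obtain ⟨P, hP⟩ := hAp.exists_le_sylow
    haveI := (hsyl P).1
    haveI : IsCyclic A :=
      isCyclic_of_injective (Subgroup.inclusion hP) (Subgroup.inclusion_injective hP)
    obtain ⟨a, ha⟩ := IsCyclic.exists_generator (α := A)
    rw [pow_one, ← orderOf_eq_card_of_forall_mem_zpowers ha]
    exact Nat.le_of_dvd hp.pos (orderOf_dvd_of_pow_eq_one (Subtype.ext (by simpa using hexp a a.2)))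

/-- Lemma 14.6, exclusivity. -/
theorem not_isA_and_isB (hG : Cfsg.IsMinSimpleOddOrder G) {M N : Subgroup G} {a r y y' : G}
    (hA : IsA M a r) (hB : IsB N y y') : a * r ≠ y * y' := by
  intro e
  have hy'σ : PiNat (Cfsg.sigma N)ᶜ (orderOf y') := hB.kappa.mono fun p hp => hp.2.2.1
  have hCy := hB.centralizer_le hG
  by_cases hσ : Cfsg.sigma N = Cfsg.sigma M
  · -- y = a
    obtain ⟨e1, e2⟩ := decomp_unique (π := Cfsg.sigma M) (hA.commute hG) hB.comm
      (piNat_mem_sigmaCore hA.mem) (hA.piNat_right hG) (hσ ▸ piNat_mem_sigmaCore hB.mem)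
      (hσ ▸ hy'σ) e
    subst e1
    rcases hA.cases hG with rfl | ⟨-, L, hL, -, -⟩
    · exact hB.ne' e2.symm
    · rw [← hL.unique N hB.coatom hCy] at hL
      obtain ⟨p, hp, -, hpM⟩ := exists_prime_of_mem_sigmaCore hA.mem hA.ne
      exact hL.disjoint p hpM (hσ ▸ hpM)
  · -- y is a component of r
    have hd : ∀ p, p ∈ Cfsg.sigma M → p ∉ Cfsg.sigma N := fun p hpM hpN =>
      hσ (sigma_eq_of_inter hG hA.coatom hB.coatom hpM hpN)
    have hay : PiNat (Cfsg.sigma N)ᶜ (orderOf a) := (piNat_mem_sigmaCore hA.mem).mono hd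
    have hrN : ¬ PiNat (Cfsg.sigma N)ᶜ (orderOf r) := by
      intro hr
      have h1 : PiNat (Cfsg.sigma N)ᶜ (orderOf (a * r)) :=
        (hay.mul hr).of_dvd ((hA.commute hG).orderOf_mul_dvd_lcm.trans (Nat.lcm_dvd_mul _ _))
      rw [e] at h1
      exact hB.ne (eq_one_of_piNat (piNat_mem_sigmaCore hB.mem) (h1.of_dvd
        (orderOf_dvd_of_mem_zpowers (mem_zpowers_mul hB.comm
          (PiNat.coprime (piNat_mem_sigmaCore hB.mem) hy'σ)))))
    rcases hA.cases hG with rfl | ⟨hCa, L, hL, hr, -⟩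
    · exact hrN (by rw [orderOf_one]; exact piNat_one _)
    have hLN : Cfsg.sigma L = Cfsg.sigma N := by
      by_contra hne
      exact hrN ((piNat_mem_sigmaCore hr).mono fun p hpL hpN =>
        hne (sigma_eq_of_inter hG hB.coatom hL.coatom hpN hpL))
    obtain ⟨e1, e2⟩ := decomp_unique (π := Cfsg.sigma N) (hA.commute hG).symm hB.comm
      (hLN ▸ piNat_mem_sigmaCore hr) hay (piNat_mem_sigmaCore hB.mem) hy'σ
      ((hA.commute hG).eq ▸ e)
    subst e1 e2
    -- L contains C(r) inside N, so L = N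
    obtain ⟨p, hp, -, hpN⟩ := exists_prime_of_mem_sigmaCore hB.mem hB.ne
    obtain ⟨g, hg⟩ := conj_of_inter hG hB.coatom hL.coatom hpN (hLN.symm ▸ hpN)
    obtain ⟨-, R, -, hcompl, htrans⟩ := S1374.result hG N hB.coatom r hB.mem hB.ne
    have hR : R = ⊥ := by
      refine eq_bot_iff.2 fun z hz => ?_
      have hzC := hcompl.2.1 hz
      exact hcompl.2.2.1 ▸ (⟨⟨hCy hzC, hzC⟩, hz⟩ :
        z ∈ (N ⊓ centralizer ({r} : Set G)) ⊓ R)
    obtain ⟨z, ⟨hz, hzg⟩, -⟩ := htrans g (by have h1 := BGFinal72.sigmaCore_le L hr; rwa [hg] at h1)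
    rw [hR, mem_bot] at hz
    subst hz
    have hLeq : L = N := by
      rw [hg]
      exact hzg.symm.trans (cj_one N)
    obtain ⟨K', U', hKU'⟩ := hL.decomp
    have haA := (hL.mem_sigmaA K' U' hKU').2.2
    have hcU : PiNat (Cfsg.kappa L)ᶜ (Nat.card ↥(U' ⊔ Cfsg.sigmaCore L)) := by
      rw [BGFinal72.card_U_sigma (hall hG hL.coatom) hKU']
      exact PiNat.mul (fun q hq hd' => (BGFinal72.U_prime (hall hG hL.coatom) hKU' hq hd').2)
        ((piNat_sigmaCore L).mono fun q hq hk => hk.2.2.1 hq)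
    exact hA.ne (eq_one_of_piNat hB.kappa (hLeq ▸ piNat_orderOf hcU haA))

/-- Every element of σ(M)-order lies in a conjugate of M_σ. -/
theorem exists_conj_mem_sigmaCore (hG : Cfsg.IsMinSimpleOddOrder G) {M : Subgroup G}
    (hM : IsCoatom M) {y : G} (hy : PiNat (Cfsg.sigma M) (orderOf y)) :
    ∃ g : G, y ∈ Cfsg.sigmaCore (cj g M) := by
  by_cases hy1 : y = 1
  · exact ⟨1, by rw [hy1]; exact one_mem _⟩
  obtain ⟨p, hp, hpd, z, hz, hzp⟩ := exists_prime_order (orderOf_pos y).ne' hy1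
  haveI := Fact.mk hp
  have hpσ := hy p hp hpd
  obtain ⟨P, hP, -⟩ :=
    BGUnique.exists_isMaxP_ge (p := p) (A := ⊥) (M := M) (IsPGroup.of_bot) bot_le
  obtain ⟨S, hS⟩ := (BGSigma.isMaxP_top_of_sigma hpσ hP).exists_sylow_top
  obtain ⟨T, hT⟩ := (IsPGroup.of_card (G := zpowers z) (p := p) (n := 1)
    (by rw [Nat.card_zpowers, hzp, pow_one])).exists_le_sylow
  obtain ⟨c, hc⟩ := MulAction.exists_smul_eq G S T
  have hzM : z ∈ cj c M := by
    have h1 : z ∈ (T : Subgroup G) := hT (mem_zpowers z)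
    rw [← hc, Sylow.coe_subgroup_smul, hS] at h1
    exact cj_mono c hP.le h1
  -- work in M₁ = cj c M
  have hM₁ := isCoatom_cj c hM
  have hzσ : z ∈ Cfsg.sigmaCore (cj c M) := mem_sigmaCore hG hM₁ hzM (by
    rw [sigma_cj, hzp]
    exact fun q hq hd => (Nat.prime_dvd_prime_iff_eq hq hp).1 hd ▸ hpσ)
  have hz1 : z ≠ 1 := fun e => hp.ne_one (by rw [← hzp, e, orderOf_one])
  have hyC : y ∈ centralizer ({z} : Set G) :=
    mem_centralizer_singleton_iff.2 (commute_of_mem_zpowers (mem_zpowers y) hz).eq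
  suffices h : ∃ s : G, y ∈ cj s (cj c M) by
    obtain ⟨s, hs⟩ := h
    rw [cj_mul] at hs
    exact ⟨s * c, mem_sigmaCore hG (isCoatom_cj _ hM) hs (by rwa [sigma_cj])⟩
  by_cases hC : centralizer ({z} : Set G) ≤ cj c M
  · exact ⟨1, by rw [cj_one]; exact hC hyC⟩
  obtain ⟨L, hL⟩ := exists_outN hG hM₁ hzσ hz1 hC
  set C := centralizer ({z} : Set G)
  set H := cj c M ⊓ C
  set π : Set ℕ := {q | q ∣ Nat.card H}
  have hR : PiNat (Cfsg.sigma L) (H.relIndex C) := by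
    have h1 : H.relIndex C = Nat.card ↥(Cfsg.sigmaCore L ⊓ C) := by
      refine Nat.eq_of_mul_eq_mul_left (Nat.card_pos : 0 < Nat.card H) ?_
      rw [BGFinal72.card_mul_relIndex inf_le_right]
      exact (BGFinal72.compl_card hL.compl).symm
    exact h1 ▸ (piNat_sigmaCore L).of_dvd (card_dvd_of_le inf_le_left)
  have hhall : Cfsg.IsPiHallOf π H C := by
    refine ⟨inf_le_right, fun q _ hd => hd, fun q hq hqπ hd => ?_⟩
    have := (S1374.result hG _ hM₁ z hzσ hz1).1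
    exact hq.not_dvd_one (this.gcd_eq_one ▸ Nat.dvd_gcd hqπ hd)
  obtain ⟨s, -, hs⟩ := le_conj_hallOf (BGUnique.isSolvable_of_ne_top hG
    (BGTransitivity.centralizer_ne_top hG hz1)) hhall (U := zpowers y) (zpowers_le.2 hyC) (by
      intro q hq hd
      rw [Nat.card_zpowers] at hd
      have hdC : q ∣ Nat.card H * H.relIndex C := by
        rw [BGFinal72.card_mul_relIndex inf_le_right]
        exact hd.trans (C.orderOf_dvd_natCard hyC)
      refine (hq.dvd_mul.1 hdC).resolve_right fun h => ?_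
      exact hL.disjoint q (by rw [sigma_cj]; exact hy q hq hd) (hR q hq h))
  exact ⟨s, cj_mono s inf_le_left (hs (mem_zpowers y))⟩

/-- Lemma 14.6, existence. -/
theorem isA_or_isB (hG : Cfsg.IsMinSimpleOddOrder G)
    (hcover : ∀ p : ℕ, p.Prime → p ∣ Nat.card G → ∃ M : Subgroup G, IsCoatom M ∧ p ∈ Cfsg.sigma M)
    {g : G} (hg : g ≠ 1) :
    (∃ M a r, IsA M a r ∧ g = a * r) ∨ ∃ N y y', IsB N y y' ∧ g = y * y' := by
  -- the case of a σ(M)-part x in M_σ whose cofactor lies in M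
  have inM : ∀ (M : Subgroup G) (x x' : G), IsCoatom M → x ∈ Cfsg.sigmaCore M → x ≠ 1 →
      x' ∈ M → Commute x x' → PiNat (Cfsg.sigma M)ᶜ (orderOf x') → x' ≠ 1 → g = x * x' →
      (∃ M a r, IsA M a r ∧ g = a * r) ∨ ∃ N y y', IsB N y y' ∧ g = y * y' := by
    intro M x x' hM hx hx1 hx'M hc hx'σ hx'1 hg'
    rcases S1432.result hG M hM x hx hx1 x'
      ⟨hx'M, mem_centralizer_singleton_iff.2 hc.eq.symm⟩ hx'1 hx'σ with
      ⟨hκ, -⟩ | ⟨-, ⟨L₀, hL₀, hL₀σ⟩, hle, huniq⟩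
    · exact Or.inr ⟨M, x, x', ⟨hM, hx, hx1, hx'M, hx'1, hc, hκ⟩, hg'⟩
    · obtain ⟨s, hs⟩ := exists_conj_mem_sigmaCore hG hL₀ hL₀σ
      have hL := isCoatom_cj s hL₀
      have hC : ¬ centralizer ({x'} : Set G) ≤ cj s L₀ := by
        intro hCL
        obtain ⟨q, hq, hqd⟩ := Nat.exists_prime_and_dvd (n := orderOf x') (by simpa using hx'1)
        exact hx'σ q hq hqd (huniq _ hL hCL ▸ (piNat_mem_sigmaCore hs q hq hqd))
      obtain ⟨M', hM'⟩ := exists_outN hG hL hs hx'1 hC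
      have e : M = M' := hM'.unique M hM hle
      subst e
      refine Or.inl ⟨cj s L₀, x', x, ⟨hL, hs, hx'1, ?_⟩, hg'.trans hc.eq⟩
      rw [hM'.supportR_eq]
      exact ⟨hx, mem_centralizer_singleton_iff.2 hc.eq⟩
  obtain ⟨p, hp, hpd⟩ := Nat.exists_prime_and_dvd (n := orderOf g) (by simpa using hg)
  obtain ⟨M₀, hM₀, hpσ⟩ := hcover p hp (hpd.trans (orderOf_dvd_natCard g))
  obtain ⟨x, x', hxg, hx'g, e, hxσ, hx'σ⟩ := exists_decomp (Cfsg.sigma M₀) g
  have hx1 : x ≠ 1 := by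
    intro h1
    rw [h1, one_mul] at e
    exact hx'σ p hp (e.symm ▸ hpd) hpσ
  obtain ⟨c, hc⟩ := exists_conj_mem_sigmaCore hG hM₀ hxσ
  rw [← sigma_cj c M₀] at hxσ hx'σ
  set M := cj c M₀
  have hM : IsCoatom M := isCoatom_cj c hM₀
  have hcomm : Commute x x' := commute_of_mem_zpowers hxg hx'g
  by_cases hx'1 : x' = 1
  · exact Or.inl ⟨M, x, x', ⟨hM, hc, hx1, hx'1 ▸ one_mem _⟩, e.symm⟩
  have hx'C : x' ∈ centralizer ({x} : Set G) := mem_centralizer_singleton_iff.2 hcomm.eq.symm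
  by_cases hx'M : x' ∈ M
  · exact inM M x x' hM hc hx1 hx'M hcomm hx'σ hx'1 e.symm
  obtain ⟨L, hL⟩ := exists_outN hG hM hc hx1 (fun h => hx'M (h hx'C))
  have hxC : x ∈ centralizer ({x} : Set G) := mem_centralizer_singleton_iff.2 rfl
  obtain ⟨w, v, hwg, hvg, e2, hwσ, hvσ⟩ := exists_decomp (Cfsg.sigma L) g
  have hgC : g ∈ centralizer ({x} : Set G) := e ▸ mul_mem hxC hx'C
  have hwC := zpowers_le.2 hgC hwg
  have hvC := zpowers_le.2 hgC hvg
  by_cases hw1 : w = 1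
  · -- g is a σ(L)'-element of C(x), so lies in a conjugate of C_M(x)
    rw [hw1, one_mul] at e2
    set C := centralizer ({x} : Set G)
    set H := M ⊓ C
    have hhall : Cfsg.IsPiHallOf {q | q ∣ Nat.card H} H C := by
      refine ⟨inf_le_right, fun q _ hd => hd, fun q hq hqπ hd => ?_⟩
      exact hq.not_dvd_one ((S1374.result hG M hM x hc hx1).1.gcd_eq_one ▸ Nat.dvd_gcd hqπ hd)
    obtain ⟨s, hsC, hs⟩ := le_conj_hallOf (BGUnique.isSolvable_of_ne_top hG
      (BGTransitivity.centralizer_ne_top hG hx1)) hhall (U := zpowers g) (zpowers_le.2 hgC) (by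
        intro q hq hd
        rw [Nat.card_zpowers] at hd
        have hdC : q ∣ Nat.card H * H.relIndex C := by
          rw [BGFinal72.card_mul_relIndex inf_le_right]
          exact hd.trans (C.orderOf_dvd_natCard hgC)
        refine (hq.dvd_mul.1 hdC).resolve_right fun h => ?_
        have h1 : H.relIndex C = Nat.card ↥(Cfsg.sigmaCore L ⊓ C) := by
          refine Nat.eq_of_mul_eq_mul_left (Nat.card_pos : 0 < Nat.card H) ?_
          rw [BGFinal72.card_mul_relIndex inf_le_right]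
          exact (BGFinal72.compl_card hL.compl).symm
        exact hvσ q hq (e2.symm ▸ hd)
          ((piNat_sigmaCore L).of_dvd (card_dvd_of_le inf_le_left) q hq (h1 ▸ h)))
    have hgM : g ∈ cj s M := cj_mono s inf_le_left (hs (mem_zpowers g))
    have hxM : x ∈ cj s M := zpowers_le.2 hgM hxg
    exact inM (cj s M) x x' (isCoatom_cj s hM)
      (mem_sigmaCore hG (isCoatom_cj s hM) hxM (by rw [sigma_cj]; exact hxσ)) hx1
      (zpowers_le.2 hgM hx'g) hcomm (by rw [sigma_cj]; exact hx'σ) hx'1 e.symm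
  have hwL : w ∈ Cfsg.sigmaCore L := mem_sigmaCore hG hL.coatom (hL.le hwC) hwσ
  by_cases hx'L : PiNat (Cfsg.sigma L) (orderOf x')
  · -- x' ∈ R(x)
    refine Or.inl ⟨M, x, x', ⟨hM, hc, hx1, ?_⟩, e.symm⟩
    rw [hL.supportR_eq]
    exact ⟨mem_sigmaCore hG hL.coatom (hL.le hx'C) hx'L, hx'C⟩
  refine inM L w v hL.coatom hwL hw1 (hL.le hvC) (commute_of_mem_zpowers hwg hvg) hvσ
    (fun hv1 => hx'L ?_) e2.symm
  rw [hv1, mul_one] at e2
  exact hwσ.of_dvd (orderOf_dvd_of_mem_zpowers (e2.symm ▸ hx'g))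

/-- M̃ and Ñ are disjoint for non-conjugate M and N. -/
theorem tilde_disjoint (hG : Cfsg.IsMinSimpleOddOrder G) {M N : Subgroup G} (hM : IsCoatom M)
    (hN : IsCoatom N) (hMN : ∀ g : G, N ≠ cj g M) {g : G}
    (hgM : g ∈ Cfsg.tildeOf M ((Cfsg.sigmaCore M : Set G) \ {1}))
    (hgN : g ∈ Cfsg.tildeOf N ((Cfsg.sigmaCore N : Set G) \ {1})) : False := by
  obtain ⟨a, r, y, hA, rfl⟩ := exists_isA_of_tilde hM hgM
  obtain ⟨b, s, w, hB, e⟩ := exists_isA_of_tilde hN hgN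
  have hB' := hB.conj hG (y⁻¹ * w)
  set b' := y⁻¹ * w * b * (y⁻¹ * w)⁻¹
  set s' := y⁻¹ * w * s * (y⁻¹ * w)⁻¹
  have e' : a * r = b' * s' := by
    calc a * r = y⁻¹ * (y * (a * r) * y⁻¹) * y := by group
      _ = y⁻¹ * (w * (b * s) * w⁻¹) * y := by rw [e]
      _ = _ := by simp only [b', s', mul_inv_rev, inv_inv]; group
  by_cases hab : a = b'
  · obtain ⟨p, hp, hpd, hpM⟩ := exists_prime_of_mem_sigmaCore hA.mem hA.ne
    obtain ⟨c, hc⟩ := conj_of_inter hG hM hB'.coatom hpM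
      (piNat_mem_sigmaCore (hab ▸ hB'.mem) p hp hpd)
    refine hMN ((y⁻¹ * w)⁻¹ * c) ?_
    rw [← cj_mul, ← hc, cj_inv_cj]
  · exact S1433.result hG M (cj (y⁻¹ * w) N) hA.coatom hB'.coatom a b' hA.mem hB'.mem hA.ne hB'.ne
      hab r hA.supp s' hB'.supp e'

end Cfsg.Agent.BGTypeP
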