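import Cfsg.Agent.Lib.BGTypePTI
import Cfsg.Agent.Lib.BGTypePDichotomy
import Cfsg.Agent.Lib.BGTypePTwo
import Cfsg.Agent.S1377

/-!
Bender-Glauberman, Theorem 14.7: maximal subgroups of type P come in pairs (M, M*) sharing Z = K × K*.
-/

set_option autoImplicit false
set_option linter.style.haveILetI false

namespace Cfsg.Agent.BGTypeP

open Subgroup Cfsg.Agent.HallCore

universe u

variable {G : Type u} [Group G] [Finite G] {M K : Subgroup G}

theorem TypeP.mem_Ks_of_piNat (h : TypeP M K) {z : G} (hz : z ∈ Zs M K)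
    (hzσ : PiNat (Cfsg.sigma M) (orderOf z)) : z ∈ Ks M K := by
  obtain ⟨k, hk, y, hy, rfl⟩ := mem_Z.1 hz
  have hk1 : k = 1 := eq_one_of_piNat (π := Cfsg.sigma M)
    (hzσ.of_dvd (orderOf_dvd_of_mem_zpowers (mem_zpowers_mul (commute_K_Ks hk hy)
      (PiNat.coprime (piNat_orderOf (piNat_Ks M K) hy) (piNat_orderOf h.piNat_K hk)).symm)))
    (piNat_orderOf h.piNat_K hk)
  rwa [hk1, one_mul]

theorem TypeP.mem_K_of_piNat (h : TypeP M K) {z : G} (hz : z ∈ Zs M K)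
    (hzσ : PiNat (Cfsg.sigma M)ᶜ (orderOf z)) : z ∈ K := by
  obtain ⟨k, hk, y, hy, rfl⟩ := mem_Z.1 hz
  have hy1 : y = 1 := eq_one_of_piNat (π := Cfsg.sigma M) (piNat_orderOf (piNat_Ks M K) hy)
    (hzσ.of_dvd (orderOf_dvd_of_mem_zpowers (mem_zpowers_mul_right (commute_K_Ks hk hy)
      (PiNat.coprime (piNat_orderOf (piNat_Ks M K) hy) (piNat_orderOf h.piNat_K hk)).symm)))
  rwa [hy1, mul_one]

theorem TypeP.eq_of_Z {K' : Subgroup G} (h : TypeP M K) (h' : TypeP M K')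
    (e : Zs M K = Zs M K') : K = K' :=
  le_antisymm
    (fun _ hx => h'.mem_K_of_piNat (e ▸ mem_sup_left hx) (piNat_orderOf h.piNat_K hx))
    (fun _ hx => h.mem_K_of_piNat (e.symm ▸ mem_sup_left hx) (piNat_orderOf h'.piNat_K hx))

theorem card_Z (h : TypeP M K) : Nat.card ↥(Zs M K) = Nat.card K * Nat.card ↥(Ks M K) :=
  SFTSigma.card_sup_coprime
    (fun y hy => centralizer_le_normalizer _ hy.2)
    (PiNat.coprime (piNat_Ks M K) h.piNat_K).symm

theorem TypeP.exists_prime_Ks (h : TypeP M K) :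
    ∃ q : ℕ, q.Prime ∧ q ∣ Nat.card ↥(Ks M K) ∧ q ∈ Cfsg.sigma M := by
  obtain ⟨q, hq, hd⟩ := Nat.exists_prime_and_dvd
    (n := Nat.card ↥(Ks M K)) (fun e => h.Ks_ne (eq_bot_of_card_eq _ e))
  exact ⟨q, hq, hd, piNat_Ks M K q hq hd⟩

/-- A maximal subgroup over N(X), X a subgroup of order p of K, shares Z with M. -/
theorem exists_over (h : TypeP M K) {p : ℕ} [Fact p.Prime] (hp : p ∣ Nat.card K) :
    ∃ N K₁, TypeP N K₁ ∧ p ∈ Cfsg.sigma N ∧ Zs N K₁ = Zs M K ∧ Ks M K ≤ K₁ := by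
  have hG := h.min
  obtain ⟨⟨x, hxK⟩, hx⟩ := exists_prime_orderOf_dvd_card' (G := K) p hp
  rw [Subgroup.orderOf_mk] at hx
  have hx1 : x ≠ 1 := fun e => (Fact.out : p.Prime).ne_one (by rw [← hx, e, orderOf_one])
  set X := zpowers x
  have hXK : X ≤ K := zpowers_le.2 hxK
  have hXc : Nat.card X = p := by rw [Nat.card_zpowers, hx]
  obtain ⟨N, hN, hXN⟩ := BGUnique.exists_coatom_ge (BGSigma.normalizer_ne_top' hG
    (X := X) (by simpa [X] using hx1)
    (fun e => h.coatom.1 (top_le_iff.1 (e ▸ hXK.trans h.K_le))))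
  have hxNσ : x ∈ Cfsg.sigmaCore N :=
    ((S1430.result hG M h.coatom K h.hall h.ne).2.2 X hXK (hXc ▸ Fact.out)).2.2 N hN hXN
      (mem_zpowers x)
  have hpN : p ∈ Cfsg.sigma N := piNat_mem_sigmaCore hxNσ p Fact.out (hx ▸ dvd_rfl)
  have hpM : p ∉ Cfsg.sigma M := h.piNat_K p Fact.out hp
  have hdisj : ∀ q, q ∈ Cfsg.sigma M → q ∉ Cfsg.sigma N := fun q hqM hqN =>
    hpM (sigma_eq_of_inter hG h.coatom hN hqM hqN ▸ hpN)
  have hCN : centralizer ({x} : Set G) ≤ N := by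
    refine le_trans (fun c hc => ?_) hXN
    refine centralizer_le_normalizer _ ?_
    rw [show (X : Set G) = ((zpowers x : Subgroup G) : Set G) from rfl, mem_centralizer_iff]
    rintro y hy
    obtain ⟨i, rfl⟩ := mem_zpowers_iff.1 hy
    exact ((show Commute c x from mem_centralizer_singleton_iff.1 hc).zpow_right i).eq.symm
  have hκ : ∀ y ∈ Ks M K, y ≠ 1 → PiNat (Cfsg.kappa N) (orderOf y) := by
    intro y hy hy1
    have hyC : y ∈ centralizer ({x} : Set G) :=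
      mem_centralizer_singleton_iff.2 (commute_K_Ks hxK hy).symm.eq
    rcases S1432.result hG N hN x hxNσ hx1 y ⟨hCN hyC, hyC⟩ hy1
      (fun q hq hd => hdisj q (piNat_orderOf (piNat_Ks M K) hy q hq hd)) with
      ⟨hκ, -⟩ | ⟨-, -, -, huniq⟩
    · exact hκ
    · exact absurd (huniq M h.coatom (h.centralizer_le hy hy1) ▸ hpN) hpM
  have hKsN : Ks M K ≤ N := fun y hy =>
    hCN (mem_centralizer_singleton_iff.2 (commute_K_Ks hxK hy).symm.eq)
  obtain ⟨K₁, hK₁, hKsK₁⟩ := exists_hallOf_ge (solvable hG hN) (Cfsg.kappa N) hKsN (by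
    intro q hq hd
    haveI := Fact.mk hq
    obtain ⟨⟨y, hy⟩, hyq⟩ := exists_prime_orderOf_dvd_card' (G := ↥(Ks M K)) q hd
    rw [Subgroup.orderOf_mk] at hyq
    exact hκ y hy (fun e => hq.ne_one (by rw [← hyq, e, orderOf_one])) q hq (hyq ▸ dvd_rfl))
  have h₁ : TypeP N K₁ := ⟨hG, hN, hK₁, ne_bot_of_le_ne_bot h.Ks_ne hKsK₁⟩
  obtain ⟨t, Y, ht, hY, hYc⟩ := BG14.exists_prime_subgroup h.Ks_ne
  have hY1 : Y ≠ ⊥ := BG14.ne_bot_of_card ht hYc
  have hYK₁ : Y ≤ K₁ := hY.trans hKsK₁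
  have hYp : (Nat.card Y).Prime := hYc ▸ ht
  have hKZ : K ≤ Zs N K₁ := by
    rw [← h₁.normalizer_prime hYK₁ hYp]
    refine le_inf ((h.prime_normal hXK (hXc ▸ Fact.out)).trans hXN)
      (le_trans (fun k hk => mem_centralizer_iff.2 fun y hy => ?_) (centralizer_le_normalizer _))
    exact (commute_K_Ks hk (hY hy)).symm.eq
  have hle : Zs M K ≤ Zs N K₁ := sup_le hKZ (hKsK₁.trans le_sup_left)
  refine ⟨N, K₁, h₁, hpN, le_antisymm ?_ hle, hKsK₁⟩
  -- X lies in K₁*, which is a κ(M)-subgroup of M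
  have hX₁ : X ≤ Ks N K₁ := zpowers_le.2 (h₁.mem_Ks_of_piNat (hKZ hxK)
    (piNat_mem_sigmaCore hxNσ))
  have hYM : normalizer (Y : Set G) ≤ M := h.normalizer_le hY hY1
  obtain ⟨y, hyY, hy1⟩ := Y.bot_or_exists_ne_one.resolve_left hY1
  have hS₁M : Ks N K₁ ≤ M :=
    ((inf_le_right.trans (Subgroup.centralizer_le hYK₁)).trans (centralizer_le_normalizer _)).trans
      hYM
  have hS₁κ : PiNat (Cfsg.kappa M) (Nat.card ↥(Ks N K₁)) := by
    intro q hq hd
    haveI := Fact.mk hq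
    obtain ⟨⟨z, hz⟩, hzq⟩ := exists_prime_orderOf_dvd_card' (G := ↥(Ks N K₁)) q hd
    rw [Subgroup.orderOf_mk] at hzq
    have hz1 : z ≠ 1 := fun e => hq.ne_one (by rw [← hzq, e, orderOf_one])
    have hqN : q ∈ Cfsg.sigma N := piNat_Ks N K₁ q hq hd
    have hqM : q ∉ Cfsg.sigma M := fun hh => hdisj q hh hqN
    rcases S1432.result hG M h.coatom y (hY hyY).1 hy1 z
      ⟨hS₁M hz, mem_centralizer_singleton_iff.2 (commute_K_Ks (hYK₁ hyY) hz).symm.eq⟩ hz1
      (fun s hs hsd => (Nat.prime_dvd_prime_iff_eq hs hq).1 (hzq ▸ hsd) ▸ hqM) with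
      ⟨hκ', -⟩ | ⟨-, -, -, huniq⟩
    · exact hκ' q hq (hzq ▸ dvd_rfl)
    · exact absurd (huniq N hN (h₁.centralizer_le hz hz1) ▸ hpN) hpM
  obtain ⟨K₂, hK₂, hS₁K₂⟩ :=
    exists_hallOf_ge (solvable hG h.coatom) (Cfsg.kappa M) hS₁M hS₁κ
  have hS₁X : Ks N K₁ ≤ normalizer (X : Set G) :=
    hS₁K₂.trans (BGKappaEarly.prime_normal hG h.coatom hK₂ (hX₁.trans hS₁K₂) (hXc ▸ Fact.out))
  rw [← h.normalizer_prime hXK (hXc ▸ Fact.out)]
  refine sup_le (le_inf ((h₁.prime_normal hYK₁ hYp).trans hYM) ?_) (le_inf hS₁M hS₁X)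
  exact le_trans (fun k hk => mem_centralizer_iff.2 fun a ha => (commute_K_Ks hk (hX₁ ha)).symm.eq)
    (centralizer_le_normalizer _)

/-- N is a maximal subgroup of type P with the given Z. -/
def Member (Z N : Subgroup G) : Prop := ∃ K, TypeP N K ∧ Zs N K = Z

theorem member_eq (hG : Cfsg.IsMinSimpleOddOrder G) {Z N N' : Subgroup G} (hN : Member Z N)
    (hN' : Member Z N') {q : ℕ} (hq : q ∈ Cfsg.sigma N) (hq' : q ∈ Cfsg.sigma N') : N = N' := by
  obtain ⟨K₁, h₁, e₁⟩ := hN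
  obtain ⟨K₂, h₂, e₂⟩ := hN'
  obtain ⟨g, hg⟩ := conj_of_inter hG h₁.coatom h₂.coatom hq hq'
  obtain ⟨y, hy, hy1⟩ := (Ks N K₁).bot_or_exists_ne_one.resolve_left h₁.Ks_ne
  have hy₂ : y ∈ Ks N' K₂ := h₂.mem_Ks_of_piNat (by rw [e₂, ← e₁]; exact mem_sup_right hy) (by
    rw [sigma_eq_of_inter hG h₁.coatom h₂.coatom hq hq']
    exact piNat_orderOf (piNat_Ks N K₁) hy)
  have hgN : g ∈ N := h₁.mem_of_conj_mem hy hy1 (hg ▸ Ks_le N' K₂ hy₂)
  rw [hg, cj_of_mem hgN]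

theorem exists_member_of_prime (h : TypeP M K) {q : ℕ} (hq : q.Prime)
    (hd : q ∣ Nat.card ↥(Zs M K)) : ∃ N, Member (Zs M K) N ∧ q ∈ Cfsg.sigma N := by
  rw [card_Z h] at hd
  rcases hq.dvd_mul.1 hd with hd | hd
  · haveI := Fact.mk hq
    obtain ⟨N, K₁, h₁, hqN, e, -⟩ := exists_over h hd
    exact ⟨N, ⟨K₁, h₁, e⟩, hqN⟩
  · exact ⟨M, ⟨K, h, rfl⟩, piNat_Ks M K q hq hd⟩

/-- The union of the conjugates of a set. -/
abbrev conjUnion (S : Set G) : Set G := {a | ∃ g : G, ∃ z ∈ S, a = g * z * g⁻¹}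

/-- Counting the conjugates of a TI-set invariant under its normalizer. -/
theorem ncard_conjUnion {H : Subgroup G} {S : Set G}
    (hinv : ∀ z ∈ S, ∀ h ∈ H, h * z * h⁻¹ ∈ S)
    (hti : ∀ z ∈ S, ∀ g : G, g * z * g⁻¹ ∈ S → g ∈ H) :
    (conjUnion S).ncard = H.index * S.ncard := by
  classical
  let f : (G ⧸ H) × S → G := fun x => x.1.out * x.2 * x.1.out⁻¹
  have hf : Function.Injective f := by
    rintro ⟨a, z, hz⟩ ⟨b, w, hw⟩ e
    simp only [f] at e
    have e' : (b.out⁻¹ * a.out) * z * (b.out⁻¹ * a.out)⁻¹ = w := by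
      calc (b.out⁻¹ * a.out) * z * (b.out⁻¹ * a.out)⁻¹
          = b.out⁻¹ * (a.out * z * a.out⁻¹) * b.out := by group
        _ = b.out⁻¹ * (b.out * w * b.out⁻¹) * b.out := by rw [e]
        _ = w := by group
    have hmem := hti z hz _ (e'.symm ▸ hw)
    have hab : a = b := by
      rw [← QuotientGroup.out_eq' a, ← QuotientGroup.out_eq' b]
      exact (QuotientGroup.eq.2 hmem).symm
    subst hab
    simp only [inv_mul_cancel, one_mul, inv_one, mul_one] at e'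
    subst e'
    rfl
  have hrange : Set.range f = conjUnion S := by
    ext x
    constructor
    · rintro ⟨⟨a, z, hz⟩, rfl⟩
      exact ⟨_, z, hz, rfl⟩
    · rintro ⟨g, z, hz, rfl⟩
      obtain ⟨h, hh⟩ := QuotientGroup.mk_out_eq_mul H g
      refine ⟨⟨(g : G ⧸ H), (h : G)⁻¹ * z * h,
        by simpa using hinv z hz (h : G)⁻¹ (inv_mem h.2)⟩, ?_⟩
      show (g : G ⧸ H).out * ((h : G)⁻¹ * z * h) * ((g : G ⧸ H).out)⁻¹ = _
      rw [hh]
      group
  rw [← hrange, Set.ncard_range_of_injective hf, Nat.card_prod, index_eq_card,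
    Nat.card_coe_set_eq]

theorem ncard_biUnion_finset {ι : Type*} (F : Finset ι) (f : ι → Set G)
    (hd : ∀ i ∈ F, ∀ j ∈ F, i ≠ j → Disjoint (f i) (f j)) :
    (⋃ i ∈ F, f i).ncard = ∑ i ∈ F, (f i).ncard := by
  classical
  induction F using Finset.induction_on with
  | empty => simp
  | insert a F ha ih =>
    rw [Finset.set_biUnion_insert, Finset.sum_insert ha, Set.ncard_union_eq _ (Set.toFinite _)
      (Set.toFinite _), ih fun i hi j hj => hd i (Finset.mem_insert_of_mem hi) j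
      (Finset.mem_insert_of_mem hj)]
    rw [Set.disjoint_iUnion₂_right]
    exact fun i hi => hd a (Finset.mem_insert_self a F) i (Finset.mem_insert_of_mem hi)
      fun e => ha (e ▸ hi)

theorem three_mul_card_Ks_le (h : TypeP M K) :
    3 * Nat.card ↥(Ks M K) ≤ Nat.card (Cfsg.sigmaCore M) := by
  obtain ⟨t, ht⟩ := card_dvd_of_le (inf_le_left : Ks M K ≤ Cfsg.sigmaCore M)
  have hodd : Odd t := (BGUnique.odd_card_subgroup h.min (Cfsg.sigmaCore M)).of_dvd_nat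
    ⟨_, by rw [ht, mul_comm]⟩
  have ht1 : t ≠ 1 := by
    rintro rfl
    have e : Ks M K = Cfsg.sigmaCore M := eq_of_le_of_card_ge inf_le_left (by rw [ht, mul_one])
    obtain ⟨q, hq, hd, -⟩ := h.exists_prime_Ks
    obtain ⟨S⟩ : Nonempty (Sylow q ↥(Cfsg.sigmaCore M)) := inferInstance
    exact ((S1431.result h.min M h.coatom K h.hall h.ne).2.2.1 q hq hd S).2.2
      ((map_subtype_le _).trans e.ge)
  obtain ⟨s, rfl⟩ := hodd
  rw [ht, mul_comm]
  exact Nat.mul_le_mul_left _ (by omega)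

/-- |M| = |K| |M_σ| if every prime of |M| is in σ(M) ∪ κ(M). -/
theorem card_eq_of_no_rest (h : TypeP M K)
    (hall' : ∀ r : ℕ, r.Prime → r ∣ Nat.card M → r ∈ Cfsg.sigma M ∨ r ∈ Cfsg.kappa M) :
    Nat.card M = Nat.card K * Nat.card (Cfsg.sigmaCore M) := by
  have hσ := hallOf_iff.1 (hall h.min h.coatom)
  have hκ := hallOf_iff.1 h.hall
  have e1 := BGFinal72.card_mul_relIndex hκ.1
  have e2 := BGFinal72.card_mul_relIndex hσ.1
  have h1 : PiNat (Cfsg.sigma M) (K.relIndex M) := fun r hr hd =>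
    (hall' r hr (hd.trans (relIndex_dvd_card _ _))).resolve_right (hκ.2.2 r hr hd)
  have h2 : PiNat (Cfsg.kappa M) ((Cfsg.sigmaCore M).relIndex M) := fun r hr hd =>
    (hall' r hr (hd.trans (relIndex_dvd_card _ _))).resolve_left (hσ.2.2 r hr hd)
  rw [← e1]
  congr 1
  refine Nat.dvd_antisymm ?_ ?_
  · exact (PiNat.coprime h1 (h2.mono (kappa_subset_compl M))).dvd_of_dvd_mul_right
      (e2.symm ▸ ⟨Nat.card K, by rw [mul_comm]; exact e1.symm⟩)
  · exact (PiNat.coprime hσ.2.1 (hκ.2.1.mono (kappa_subset_compl M))).dvd_of_dvd_mul_left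
      (e1.symm ▸ ⟨(Cfsg.sigmaCore M).relIndex M, e2.symm⟩)

/-- Some member of the family of Z is of type P₂. -/
theorem exists_member_P2 (h : TypeP M K) :
    ∃ N K' U : Subgroup G, TypeP N K' ∧ Zs N K' = Zs M K ∧
      Cfsg.IsSigmaDecomposition N K' U ∧ U ≠ ⊥ := by
  classical
  by_contra hno
  have hG := h.min
  set Z := Zs M K
  have hfin : {N : Subgroup G | Member Z N}.Finite := Set.toFinite _
  set F := hfin.toFinset
  have hF : ∀ N, N ∈ F ↔ Member Z N := fun N => by simp [F]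
  -- at least two members
  have hn : 2 ≤ F.card := by
    obtain ⟨q, hq, hd⟩ := Nat.exists_prime_and_dvd
      (n := Nat.card K) (fun e => h.ne (eq_bot_of_card_eq _ e))
    haveI := Fact.mk hq
    obtain ⟨N, K₁, h₁, hqN, e, -⟩ := exists_over h hd
    exact Finset.one_lt_card.2 ⟨M, (hF M).2 ⟨K, h, rfl⟩, N, (hF N).2 ⟨K₁, h₁, e⟩,
      fun e' => h.piNat_K q hq hd (e' ▸ hqN)⟩
  -- the σ(N)-parts of Z
  let P : Subgroup G → Set G := fun N =>
    {z | z ∈ Z ∧ PiNat (Cfsg.sigma N) (orderOf z) ∧ z ≠ 1}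
  have hP : ∀ N K', TypeP N K' → Zs N K' = Z →
      (P N).ncard + 1 = Nat.card ↥(Ks N K') := by
    intro N K' h' e
    have e1 : P N = (Ks N K' : Set G) \ {1} := by
      ext z
      exact ⟨fun ⟨hz, hzσ, hz1⟩ => ⟨h'.mem_Ks_of_piNat (e ▸ hz) hzσ, hz1⟩,
        fun ⟨hz, hz1⟩ => ⟨e ▸ mem_sup_right hz, piNat_orderOf (piNat_Ks N K') hz, hz1⟩⟩
    rw [e1, Set.ncard_diff_singleton_add_one (one_mem _) (Set.toFinite _)]
    exact Nat.card_coe_set_eq _
  have hPdisj : ∀ N ∈ F, ∀ N' ∈ F, N ≠ N' → Disjoint (P N) (P N') := by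
    intro N hN N' hN' hne
    rw [Set.disjoint_left]
    rintro z ⟨-, hzN, hz1⟩ ⟨-, hzN', -⟩
    obtain ⟨q, hq, hd⟩ := Nat.exists_prime_and_dvd (n := orderOf z) (by simpa using hz1)
    exact hne (member_eq hG ((hF N).1 hN) ((hF N').1 hN') (hzN q hq hd) (hzN' q hq hd))
  -- the rest of Z
  set S : Set G := (Z : Set G) \ ({1} ∪ ⋃ N ∈ F, P N)
  have hS : ∀ z ∈ S, ∃ N K', N ∈ F ∧ TypeP N K' ∧ Zs N K' = Z ∧ z ∈ Zh N K' := by
    rintro z ⟨hz, hzn⟩
    have hz1 : z ≠ 1 := fun e => hzn (Or.inl e)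
    obtain ⟨q, hq, hd⟩ := Nat.exists_prime_and_dvd (n := orderOf z) (by simpa using hz1)
    obtain ⟨N, ⟨K', h', e⟩, hqN⟩ :=
      exists_member_of_prime h hq (hd.trans (Z.orderOf_dvd_natCard hz))
    refine ⟨N, K', (hF N).2 ⟨K', h', e⟩, h', e, e.symm ▸ hz, ?_⟩
    rintro (hzK | hzS)
    · exact piNat_orderOf h'.piNat_K hzK q hq hd hqN
    · exact hzn (Or.inr (Set.mem_biUnion ((hF N).2 ⟨K', h', e⟩)
        ⟨hz, piNat_orderOf (piNat_Ks N K') hzS, hz1⟩))
  have hti : ∀ z ∈ S, ∀ g : G, g * z * g⁻¹ ∈ S → g ∈ Z := by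
    intro z hz g hgz
    obtain ⟨N, K', hNF, h', e, hzh⟩ := hS z hz
    refine e ▸ h'.mem_Z_of_conj hzh ⟨e.symm ▸ hgz.1, ?_⟩
    obtain ⟨k, hk, y, hy, hk1, hy1, rfl⟩ := h'.mem_Zh.1 hzh
    rintro (hm | hm)
    · refine hy1 (eq_one_of_piNat (piNat_orderOf (piNat_Ks N K') hy)
        ((piNat_orderOf h'.piNat_K hm).of_dvd ?_))
      rw [orderOf_conj]
      exact orderOf_dvd_of_mem_zpowers (mem_zpowers_mul_right (commute_K_Ks hk hy)
        (PiNat.coprime (piNat_orderOf (piNat_Ks N K') hy) (piNat_orderOf h'.piNat_K hk)).symm)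
    · exact hgz.2 (Or.inr (Set.mem_biUnion hNF ⟨hgz.1, piNat_orderOf (piNat_Ks N K') hm,
        fun e1 => hgz.2 (Or.inl e1)⟩))
  set T := conjUnion S
  have hT : T.ncard = Z.index * S.ncard :=
    ncard_conjUnion (fun z hz g hg => by
      refine ⟨mul_mem (mul_mem hg hz.1) (inv_mem hg), ?_⟩
      rintro (h1 | h1)
      · exact hz.2 (Or.inl (conj_eq_one_iff.1 h1))
      · obtain ⟨N, hN, -, hzσ, hz1⟩ := Set.mem_iUnion₂.1 h1
        rw [orderOf_conj] at hzσ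
        exact hz.2 (Or.inr (Set.mem_biUnion hN
          ⟨hz.1, hzσ, fun e => hz1 (conj_eq_one_iff.2 e)⟩))) hti
  -- |Z|
  have hU : (⋃ N ∈ F, P N).ncard = ∑ N ∈ F, (P N).ncard := by
    exact ncard_biUnion_finset F P hPdisj
  have hZc : Nat.card Z = S.ncard + 1 + ∑ N ∈ F, (P N).ncard := by
    have hsub : {1} ∪ (⋃ N ∈ F, P N) ⊆ (Z : Set G) :=
      Set.union_subset (by simp) (Set.iUnion₂_subset fun N _ z hz => hz.1)
    have h1 := Set.ncard_diff_add_ncard_of_subset hsub (Set.toFinite _)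
    rw [Set.ncard_union_eq (by simp [P]) (Set.toFinite _) (Set.toFinite _), Set.ncard_singleton,
      hU] at h1
    have h2 : (Z : Set G).ncard = Nat.card Z := (Nat.card_coe_set_eq _).symm
    have h3 : S.ncard = ((Z : Set G) \ ({1} ∪ ⋃ N ∈ F, P N)).ncard := rfl
    omega
  -- each member
  have hmem : ∀ N ∈ F, ∃ a : ℕ, 3 * a ≤ Nat.card G ∧
      Nat.card Z * (Cfsg.tildeOf N ((Cfsg.sigmaCore N : Set G) \ {1})).ncard + a =
        ((P N).ncard + 1) * Nat.card G := by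
    intro N hN
    obtain ⟨K', h', e⟩ := (hF N).1 hN
    have hall' : ∀ r : ℕ, r.Prime → r ∣ Nat.card N → r ∈ Cfsg.sigma N ∨ r ∈ Cfsg.kappa N := by
      intro r hr hrd
      by_contra hr'
      rw [not_or] at hr'
      have hc : IsCyclic K' :=
        BGKappaEarly.cyclic_of_rest hG h'.coatom h'.hall hr hrd hr'.1 hr'.2
      obtain ⟨U, hU'⟩ := (S1352.result hG N h'.coatom K' hc h'.hall).1
      refine hno ⟨N, K', U, h', e, hU', fun hU1 => ?_⟩
      rw [← BGFinal72.card_eq hU', hU1, card_bot, one_mul] at hrd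
      rcases hr.dvd_mul.1 hrd with h1 | h1
      · exact hr'.2 (h'.hall.2.1 r hr h1)
      · exact hr'.1 (piNat_sigmaCore N r hr h1)
    have hc := (card_eq_of_no_rest h' hall').symm
    have hGc : Nat.card G = Nat.card K' * Nat.card (Cfsg.sigmaCore N) * N.index := by
      rw [hc, N.card_mul_index]
    refine ⟨Nat.card Z * N.index, ?_, ?_⟩
    · rw [hGc, ← e, card_Z h']
      calc 3 * (Nat.card K' * Nat.card ↥(Ks N K') * N.index)
          = Nat.card K' * N.index * (3 * Nat.card ↥(Ks N K')) := by ring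
        _ ≤ Nat.card K' * N.index * Nat.card (Cfsg.sigmaCore N) :=
          Nat.mul_le_mul_left _ (three_mul_card_Ks_le h')
        _ = _ := by ring
    · rw [S1377.result hG N h'.coatom, hP N K' h' e, hGc, ← e, card_Z h']
      obtain ⟨m, hm⟩ : ∃ m, Nat.card (Cfsg.sigmaCore N) = m + 1 :=
        ⟨_, (Nat.succ_pred_eq_of_pos Nat.card_pos).symm⟩
      rw [hm, Nat.add_sub_cancel]
      ring
  choose! a ha3 hae using hmem
  -- disjointness
  let Ti : Subgroup G → Set G := fun N => Cfsg.tildeOf N ((Cfsg.sigmaCore N : Set G) \ {1})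
  have hTi : ∀ N ∈ F, ∀ N' ∈ F, N ≠ N' → Disjoint (Ti N) (Ti N') := by
    intro N hN N' hN' hne
    obtain ⟨K₁, h₁, e₁⟩ := (hF N).1 hN
    obtain ⟨K₂, h₂, e₂⟩ := (hF N').1 hN'
    rw [Set.disjoint_left]
    intro z hz hz'
    refine tilde_disjoint hG h₁.coatom h₂.coatom (fun g hg => hne ?_) hz hz'
    obtain ⟨q, -, -, hq⟩ := h₁.exists_prime_Ks
    exact member_eq hG ((hF N).1 hN) ((hF N').1 hN') hq (by rw [hg, sigma_cj]; exact hq)
  have hTT : ∀ N ∈ F, Disjoint T (Ti N) := by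
    intro N hN
    obtain ⟨K₁, h₁, e₁⟩ := (hF N).1 hN
    rw [Set.disjoint_left]
    rintro _ ⟨g, z, hz, rfl⟩ hz'
    obtain ⟨N', K', -, h', e, hzh⟩ := hS z hz
    obtain ⟨k, hk, y, hy, hk1, hy1, rfl⟩ := h'.mem_Zh.1 hzh
    obtain ⟨b, r, w, hA, e'⟩ := exists_isA_of_tilde h₁.coatom hz'
    refine not_isA_and_isB hG (hA.conj hG (g⁻¹ * w)) (N := N') (y := y) (y' := k)
      ⟨h'.coatom, hy.1, hy1, h'.K_le hk, hk1, (commute_K_Ks hk hy).symm,
        piNat_orderOf h'.card_hall hk⟩ ?_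
    rw [(commute_K_Ks hk hy).symm.eq]
    calc (g⁻¹ * w) * b * (g⁻¹ * w)⁻¹ * ((g⁻¹ * w) * r * (g⁻¹ * w)⁻¹)
        = g⁻¹ * (w * (b * r) * w⁻¹) * g := by group
      _ = g⁻¹ * (g * (k * y) * g⁻¹) * g := by rw [← e']
      _ = k * y := by group
  have htot : T.ncard + ∑ N ∈ F, (Ti N).ncard + 1 ≤ Nat.card G := by
    have h1 : 1 ∉ T ∪ ⋃ N ∈ F, Ti N := by
      rintro (⟨g, z, hz, e⟩ | hmem')
      · exact hz.2 (Or.inl (conj_eq_one_iff.1 e.symm))
      · obtain ⟨N, hN, hN'⟩ := Set.mem_iUnion₂.1 hmem'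
        obtain ⟨K₁, h₁, -⟩ := (hF N).1 hN
        obtain ⟨b, r, w, hA, e⟩ := exists_isA_of_tilde h₁.coatom hN'
        exact hA.mul_ne_one hG (conj_eq_one_iff.1 e.symm)
    have h2 := Set.ncard_insert_of_notMem h1 (Set.toFinite _)
    have h3 := Set.ncard_le_ncard (Set.subset_univ (insert 1 (T ∪ ⋃ N ∈ F, Ti N)))
      (Set.toFinite _)
    rw [h2, Set.ncard_univ, Set.ncard_union_eq (by
        rw [Set.disjoint_iUnion₂_right]
        exact hTT) (Set.toFinite _) (Set.toFinite _)] at h3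
    have h4 : (⋃ N ∈ F, Ti N).ncard = ∑ N ∈ F, (Ti N).ncard := by
      exact ncard_biUnion_finset F Ti hTi
    rw [h4] at h3
    exact h3
  -- arithmetic
  have e1 := Finset.sum_congr rfl hae
  rw [Finset.sum_add_distrib, ← Finset.mul_sum, ← Finset.sum_mul, Finset.sum_add_distrib,
    Finset.sum_const, smul_eq_mul, mul_one] at e1
  have e2 : 3 * ∑ N ∈ F, a N ≤ F.card * Nat.card G := by
    rw [Finset.mul_sum]
    calc ∑ N ∈ F, 3 * a N ≤ ∑ _N ∈ F, Nat.card G := Finset.sum_le_sum ha3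
      _ = _ := by rw [Finset.sum_const, smul_eq_mul]
  have e3 : Nat.card Z * T.ncard = S.ncard * Nat.card G := by
    rw [hT, ← mul_assoc, Z.card_mul_index, mul_comm]
  have e4 := Nat.mul_le_mul_left (Nat.card Z) htot
  have hpos : 0 < Nat.card Z := Nat.card_pos
  have hGpos : 0 < Nat.card G := Nat.card_pos
  rw [hZc] at e4
  nlinarith [e1, e2, e3, e4, hn, hZc]

/-- M* is the partner of M. -/
structure Pair (M K L : Subgroup G) : Prop where
  left : TypeP M K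
  right : TypeP L (Ks M K)
  eq : Ks L (Ks M K) = K

theorem Pair.Z_eq {L : Subgroup G} (h : Pair M K L) : Zs L (Ks M K) = Zs M K := by
  rw [Zs, h.eq, sup_comm]

theorem Pair.symm {L : Subgroup G} (h : Pair M K L) : Pair L (Ks M K) M := by
  refine ⟨h.right, ?_, ?_⟩
  · rw [h.eq]; exact h.left
  · rw [h.eq]

theorem pair_of_prime (h : TypeP M K) (hK : (Nat.card K).Prime) : ∃ L, Pair M K L := by
  haveI := Fact.mk hK
  obtain ⟨N, K₁, h₁, hpN, e, hle⟩ := exists_over h (p := Nat.card K) dvd_rfl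
  have hKN : K ≤ Ks N K₁ := fun k hk => h₁.mem_Ks_of_piNat (e.symm ▸ mem_sup_left hk)
    (fun q hq hd => ((Nat.prime_dvd_prime_iff_eq hq hK).1
      (hd.trans (K.orderOf_dvd_natCard hk))).symm ▸ hpN)
  have hc := card_Z h₁
  rw [e, card_Z h] at hc
  have e1 : K₁ = Ks M K := by
    refine (eq_of_le_of_card_ge hle ?_).symm
    have h2 := card_le_of_le hKN
    have h3 : 0 < Nat.card ↥(Ks N K₁) := Nat.card_pos
    have h4 : 0 < Nat.card K := Nat.card_pos
    nlinarith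
  subst e1
  refine ⟨N, h, h₁, (eq_of_le_of_card_ge hKN ?_).symm⟩
  have h3 : 0 < Nat.card ↥(Ks M K) := Nat.card_pos
  nlinarith

/-- Theorem 14.7: the partner exists. -/
theorem exists_pair (h : TypeP M K) : ∃ L, Pair M K L := by
  obtain ⟨N, K', U, h', e, hU, hU1⟩ := exists_member_P2 h
  obtain ⟨N', hp⟩ := pair_of_prime h' (card_K_prime h' hU hU1)
  obtain ⟨q, hq, hd, hqM⟩ := h.exists_prime_Ks
  have hqZ : q ∣ Nat.card ↥(Zs N K') := by
    rw [e, card_Z h]; exact hd.mul_left _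
  rw [card_Z h'] at hqZ
  have hM : Member (Zs N K') M := ⟨K, h, e.symm⟩
  rcases hq.dvd_mul.1 hqZ with hd' | hd'
  · rw [← hp.eq] at hd'
    have eM : M = N' := member_eq h.min hM ⟨Ks N K', hp.right, hp.Z_eq⟩ hqM
      (piNat_Ks N' (Ks N K') q hq hd')
    subst eM
    have eK : K = Ks N K' := h.eq_of_Z hp.right (by rw [hp.Z_eq, e])
    exact ⟨N, eK ▸ hp.symm⟩
  · have eM : M = N := member_eq h.min hM ⟨K', h', rfl⟩ hqM (piNat_Ks N K' q hq hd')
    subst eM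
    have eK : K = K' := h.eq_of_Z h' e.symm
    exact ⟨N', eK ▸ hp⟩

theorem Pair.prime_mem {L : Subgroup G} (h : Pair M K L) {q : ℕ} (hq : q.Prime)
    (hd : q ∣ Nat.card ↥(Zs M K)) : q ∈ Cfsg.sigma M ∨ q ∈ Cfsg.sigma L := by
  rw [card_Z h.left] at hd
  rcases hq.dvd_mul.1 hd with hd | hd
  · exact Or.inr (by rw [← h.eq] at hd; exact piNat_Ks L (Ks M K) q hq hd)
  · exact Or.inl (piNat_Ks M K q hq hd)

theorem Pair.sigma_disjoint {L : Subgroup G} (h : Pair M K L) {q : ℕ}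
    (hqM : q ∈ Cfsg.sigma M) : q ∉ Cfsg.sigma L := by
  intro hqL
  obtain ⟨p, hp, hd⟩ := Nat.exists_prime_and_dvd
    (n := Nat.card K) (fun e => h.left.ne (eq_bot_of_card_eq _ e))
  have e := sigma_eq_of_inter h.left.min h.left.coatom h.right.coatom hqM hqL
  exact h.left.piNat_K p hp hd (e ▸ (by rw [← h.eq] at hd; exact piNat_Ks L (Ks M K) p hp hd))

theorem Pair.ne {L : Subgroup G} (h : Pair M K L) : M ≠ L := by
  intro e
  obtain ⟨q, -, -, hq⟩ := h.left.exists_prime_Ks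
  exact h.sigma_disjoint hq (e ▸ hq)

/-- The partner is unique. -/
theorem Pair.unique {L L' : Subgroup G} (h : Pair M K L) (h' : Pair M K L') : L' = L := by
  obtain ⟨q, hq, hd, hqL⟩ := h.right.exists_prime_Ks
  have hd' : q ∣ Nat.card ↥(Ks L' (Ks M K)) := by rw [h'.eq, ← h.eq]; exact hd
  exact (member_eq h.left.min ⟨_, h.right, h.Z_eq⟩ ⟨_, h'.right, h'.Z_eq⟩ hqL
    (piNat_Ks L' (Ks M K) q hq hd')).symm

/-- Either M or M* is of type P₂. -/
theorem Pair.p2 {L : Subgroup G} (h : Pair M K L) {U : Subgroup G}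
    (hU : Cfsg.IsSigmaDecomposition M K U) (hU1 : U = ⊥) {U' : Subgroup G}
    (hU' : Cfsg.IsSigmaDecomposition L (Ks M K) U') : U' ≠ ⊥ := by
  intro hU'1
  obtain ⟨N, K', V, h', e, hV, hV1⟩ := exists_member_P2 h.left
  obtain ⟨q, hq, hd, hqN⟩ := h'.exists_prime_Ks
  have hqZ : q ∣ Nat.card ↥(Zs M K) := by
    rw [← e, card_Z h']; exact hd.mul_left _
  rcases h.prime_mem hq hqZ with hqM | hqL
  · have eN : N = M := member_eq h.left.min ⟨K', h', e⟩ ⟨K, h.left, rfl⟩ hqN hqM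
    subst eN
    have eK : K' = K := h'.eq_of_Z h.left e
    subst eK
    have h1 := BGFinal72.card_eq hU
    have h2 := BGFinal72.card_eq hV
    rw [hU1, card_bot, ← h2] at h1
    refine hV1 (eq_bot_of_card_eq _ ?_)
    have : 0 < Nat.card K' * Nat.card (Cfsg.sigmaCore N) :=
      Nat.mul_pos Nat.card_pos Nat.card_pos
    nlinarith
  · have eN : N = L := member_eq h.left.min ⟨K', h', e⟩ ⟨_, h.right, h.Z_eq⟩ hqN hqL
    subst eN
    have eK : K' = Ks M K := h'.eq_of_Z h.right (e.trans h.Z_eq.symm)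
    subst eK
    have h1 := BGFinal72.card_eq hU'
    have h2 := BGFinal72.card_eq hV
    rw [hU'1, card_bot, ← h2] at h1
    refine hV1 (eq_bot_of_card_eq _ ?_)
    have : 0 < Nat.card ↥(Ks M K) * Nat.card (Cfsg.sigmaCore N) :=
      Nat.mul_pos Nat.card_pos Nat.card_pos
    nlinarith

end Cfsg.Agent.BGTypeP
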