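import Cfsg.Agent.Lib.BGTypePSignal
import Cfsg.Agent.Lib.BGTypePTwo
import Cfsg.Agent.S1414
import Cfsg.Agent.Lib.BGFittingUnique

/-!
Bender-Glauberman, Theorem 14.12: U ≤ H_σ, M ∩ H = U K, and H ∩ M* is a complement of H_σ in H with
K in its Fitting subgroup.
-/

set_option autoImplicit false
set_option linter.style.haveILetI false

namespace Cfsg.Agent.BGTypeP

open Subgroup Cfsg.Agent.HallCore
open scoped Pointwise

universe u

variable {G : Type u} [Group G] [Finite G] {M K U L H : Subgroup G}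

/-- All of U lies in H_σ. -/
theorem U_le_sigmaCore (hp : Pair M K L) (hKU : Cfsg.IsSigmaDecomposition M K U) (hU1 : U ≠ ⊥)
    {r : ℕ} [Fact r.Prime] (hr : r ∣ Nat.card U) {R : Subgroup G}
    (hR : ∀ S : Sylow r U, (S : Subgroup U).map U.subtype = R) (hH : IsCoatom H)
    (hNR : normalizer (R : Set G) ≤ H) : U ≤ Cfsg.sigmaCore H := by
  have h := hp.left
  have hG := h.min
  obtain ⟨ho, hrH⟩ := exists_over_normalizer hp hKU hU1 hr hR hH hNR
  refine le_sigmaCore hG hH ho.U_le fun q hq hd => ?_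
  haveI := Fact.mk hq
  obtain ⟨R₂, A₂, hR₂U, hR₂, hR₂p, -, -, hA₂R, hA₂1, -, -, -, -, -⟩ := exists_omega h hKU hd
  have hR₂1 : R₂ ≠ ⊥ := ne_bot_of_le_ne_bot hA₂1 hA₂R
  obtain ⟨H₂, hH₂, hN₂⟩ := BGUnique.exists_coatom_ge (BGSigma.normalizer_ne_top' hG hR₂1
    (BGTransitivity.qgroup_ne_top hG hR₂p))
  obtain ⟨ho₂, hqH₂⟩ := exists_over_normalizer hp hKU hU1 hd hR₂ hH₂ hN₂
  by_contra hqH
  have hdis : ∀ p, p ∈ Cfsg.sigma H → p ∉ Cfsg.sigma H₂ := fun p h1 h2 =>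
    hqH (sigma_eq_of_inter hG hH hH₂ h1 h2 ▸ hqH₂)
  -- elements y of order r and z of order q
  have hUc := U_comm h hKU
  obtain ⟨⟨y, hy⟩, hyr⟩ := exists_prime_orderOf_dvd_card' (G := U) r hr
  obtain ⟨⟨z, hz⟩, hzq⟩ := exists_prime_orderOf_dvd_card' (G := U) q hd
  rw [Subgroup.orderOf_mk] at hyr hzq
  have hyz : Commute y z := PGroupsBasic.comm_of_isMulCommutative hUc hy hz
  have hy1 : y ≠ 1 := fun e => (Fact.out : r.Prime).ne_one (by rw [← hyr, e, orderOf_one])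
  have hz1 : z ≠ 1 := fun e => hq.ne_one (by rw [← hzq, e, orderOf_one])
  have piOne : ∀ {p : ℕ} {π : Set ℕ}, p.Prime → p ∈ π → PiNat π p := fun hp' hπ t ht hd' =>
    (Nat.prime_dvd_prime_iff_eq ht hp').1 hd' ▸ hπ
  have hyσ : y ∈ Cfsg.sigmaCore H :=
    mem_sigmaCore hG hH (ho.U_le hy) (hyr.symm ▸ piOne Fact.out hrH)
  have hzσ : z ∈ Cfsg.sigmaCore H₂ :=
    mem_sigmaCore hG hH₂ (ho₂.U_le hz) (hzq.symm ▸ piOne hq hqH₂)
  have side : ∀ {H H₂ : Subgroup G} (y z : G), Over M K U L H → IsCoatom H₂ →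
      y ∈ Cfsg.sigmaCore H → y ≠ 1 → z ∈ Cfsg.sigmaCore H₂ → z ≠ 1 → z ∈ H → Commute y z →
      (∀ p, p ∈ Cfsg.sigma H₂ → p ∉ Cfsg.sigma H) → y ∈ Cfsg.supportR H₂ z := by
    intro H H₂ y z ho hH₂ hy hy1 hz hz1 hzH hc hdis
    rcases S1432.result hG H ho.coatom y hy hy1 z
        ⟨hzH, mem_centralizer_singleton_iff.2 hc.eq.symm⟩ hz1
        (fun p hp' hd => hdis p (piNat_mem_sigmaCore hz p hp' hd)) with
      ⟨hκ, -⟩ | ⟨-, -, hle, huniq⟩
    · obtain ⟨p, hp', hd⟩ := Nat.exists_prime_and_dvd (n := orderOf z) (by simpa using hz1)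
      exact absurd (hκ p hp' hd) (by rw [ho.kappa]; exact Set.notMem_empty p)
    · have hC : ¬ centralizer ({z} : Set G) ≤ H₂ := fun hle' => by
        have e : H₂ = H := huniq H₂ hH₂ hle'
        subst e
        obtain ⟨p, hp', hd, hpH⟩ := exists_prime_of_mem_sigmaCore hy hy1
        exact hdis p hpH hpH
      obtain ⟨N, hN⟩ := exists_outN hG hH₂ hz hz1 hC
      have e : H = N := hN.unique H ho.coatom hle
      subst e
      rw [hN.supportR_eq]
      exact ⟨hy, mem_centralizer_singleton_iff.2 hc.eq⟩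
  have h1 := side y z ho hH₂ hyσ hy1 hzσ hz1 (ho.U_le hz) hyz (fun p h1 h2 => hdis p h2 h1)
  have h2 := side z y ho₂ hH hzσ hz1 hyσ hy1 (ho₂.U_le hy) hyz.symm hdis
  refine S1433.result hG H H₂ hH hH₂ y z hyσ hzσ hy1 hz1 (fun e => ?_) z h2 y h1 hyz.eq
  exact hdis r hrH (piNat_mem_sigmaCore (e ▸ hzσ : y ∈ Cfsg.sigmaCore H₂) r Fact.out (hyr ▸ dvd_rfl))

theorem inf_eq_U_sup_K (hp : Pair M K L) (hKU : Cfsg.IsSigmaDecomposition M K U) (hU1 : U ≠ ⊥)
    (ho : Over M K U L H) (hUσ : U ≤ Cfsg.sigmaCore H) : M ⊓ H = U ⊔ K := by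
  have h := hp.left
  have hG := h.min
  have hσ := hall hG h.coatom
  obtain ⟨r, hr, hrd⟩ := Nat.exists_prime_and_dvd
    (n := Nat.card U) (fun e => hU1 (eq_bot_of_card_eq U e))
  haveI := Fact.mk hr
  obtain ⟨R, A, hRU, -, -, -, -, hAR, -, -, -, hCA, -, -⟩ := exists_omega h hKU hrd
  set D := M ⊓ H
  have hUD : U ≤ D := le_inf (BGFinal72.U_le hKU) ho.U_le
  have hle : U ⊔ K ≤ D := sup_le hUD (le_inf h.K_le ho.K_le)
  set D₁ := D ⊓ Cfsg.sigmaCore M
  set D₂ := D ⊓ Cfsg.sigmaCore H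
  have hn1 : D ≤ normalizer (D₁ : Set G) :=
    inf_le_normalizer ((inf_le_left : D ≤ M).trans (BGFinal72.le_normalizer_sigmaCore M))
  have hn2 : D ≤ normalizer (D₂ : Set G) :=
    inf_le_normalizer ((inf_le_right : D ≤ H).trans (BGFinal72.le_normalizer_sigmaCore H))
  have hbot : D₁ ⊓ D₂ = ⊥ := inf_eq_bot_of_piNat (π := Cfsg.sigma M)
    ((piNat_sigmaCore M).of_dvd (card_dvd_of_le inf_le_right))
    (((piNat_sigmaCore H).of_dvd (card_dvd_of_le inf_le_right)).mono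
      fun q hq hqM => ho.disjoint_M hp hqM hq)
  have hD₁ : D₁ = ⊥ := by
    refine eq_bot_iff.2 fun z hz => hCA ▸ (⟨hz.2, mem_centralizer_iff.2 fun a ha => ?_⟩ :
      z ∈ Cfsg.sigmaCore M ⊓ centralizer (A : Set G))
    exact (commute_of_normalizes (inf_le_left.trans hn2) (inf_le_left.trans hn1) hbot hz
      ⟨hUD (hRU (hAR ha)), hUσ (hRU (hAR ha))⟩).eq.symm
  have hcard : Nat.card ↥(U ⊔ K) = Nat.card U * Nat.card K :=
    SFTSigma.card_sup_coprime hKU.normal (Nat.coprime_of_dvd fun q hq h1 h2 =>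
      (BGFinal72.U_prime hσ hKU hq h1).2 (h.hall.2.1 q hq h2))
  refine (eq_of_le_of_card_ge hle (Nat.le_of_dvd Nat.card_pos ?_)).symm
  rw [hcard]
  have hDσ : PiNat (Cfsg.sigma M)ᶜ (Nat.card D) := by
    intro q hq hd hqM
    haveI := Fact.mk hq
    obtain ⟨⟨z, hz⟩, hzq⟩ := exists_prime_orderOf_dvd_card' (G := D) q hd
    rw [Subgroup.orderOf_mk] at hzq
    have hzm : z ∈ D₁ := ⟨hz, mem_sigmaCore hG h.coatom (inf_le_left (α := Subgroup G) hz) (by
      rw [hzq]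
      exact fun p hp' hd' => (Nat.prime_dvd_prime_iff_eq hp' hq).1 hd' ▸ hqM)⟩
    rw [hD₁, mem_bot] at hzm
    rw [hzm, orderOf_one] at hzq
    exact hq.ne_one hzq.symm
  refine (PiNat.coprime (piNat_sigmaCore M) hDσ).symm.dvd_of_dvd_mul_right ?_
  rw [show Nat.card U * Nat.card K * Nat.card (Cfsg.sigmaCore M) = Nat.card M by
    rw [← BGFinal72.card_eq hKU]; ring]
  exact card_dvd_of_le inf_le_left

theorem not_normalizer_le (hp : Pair M K L) (hKU : Cfsg.IsSigmaDecomposition M K U) (hU1 : U ≠ ⊥)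
    (ho : Over M K U L H) (hUσ : U ≤ Cfsg.sigmaCore H) :
    ¬ H ⊓ normalizer (U : Set G) ≤ M := by
  intro hle
  have h := hp.left
  have hG := h.min
  have hinf := inf_eq_U_sup_K hp hKU hU1 ho hUσ
  have hKp := card_K_prime h hKU hU1
  haveI := Fact.mk hKp
  have hqH : Nat.card K ∉ Cfsg.sigma H := ho.disjoint_L hp (mem_sigma_K hp hKp dvd_rfl)
  obtain ⟨S⟩ : Nonempty (Sylow (Nat.card K) H) := inferInstance
  have hnil : Group.IsNilpotent (Cfsg.sigmaCore H) := by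
    refine (S1429.result hG H ho.coatom (fun hall' => ?_) (Nat.card K) (card_dvd_of_le ho.K_le)
      (by simp [hqH, ho.kappa]) S).2.2
    exact absurd (hall' _ hKp (card_dvd_of_le ho.K_le) hqH) (by simp [ho.kappa])
  have hU : ∀ z ∈ Cfsg.sigmaCore H, z ∈ M → z ∈ U := by
    intro z hz hzM
    have hzD : z ∈ U ⊔ K := hinf ▸ (⟨hzM, BGFinal72.sigmaCore_le H hz⟩ : z ∈ M ⊓ H)
    rw [sup_comm, ← SetLike.mem_coe, coe_mul_of_left_le_normalizer_right K U hKU.normal] at hzD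
    obtain ⟨k, hk, u, hu, e⟩ := hzD
    change k * u = z at e
    have hkσ : k ∈ Cfsg.sigmaCore H := by
      rw [eq_mul_inv_of_mul_eq e]
      exact mul_mem hz (inv_mem (hUσ hu))
    have hk1 : k = 1 := eq_one_of_piNat (π := Cfsg.sigma H) (piNat_mem_sigmaCore hkσ)
      fun q hq hd => ho.disjoint_L hp (mem_sigma_K hp hq (hd.trans (K.orderOf_dvd_natCard hk)))
    rw [← e, hk1, one_mul]
    exact hu
  have heq : U = Cfsg.sigmaCore H := by
    by_contra hne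
    have hlt : U.subgroupOf (Cfsg.sigmaCore H) < ⊤ :=
      lt_top_iff_ne_top.2 fun e => hne (le_antisymm hUσ (subgroupOf_eq_top.1 e))
    haveI := hnil
    obtain ⟨n, hn, hnU⟩ :=
      SetLike.exists_of_lt (normalizerCondition_of_isNilpotent (G := ↥(Cfsg.sigmaCore H)) _ hlt)
    refine hnU (hU _ n.2 (hle ⟨BGFinal72.sigmaCore_le H n.2, mem_normalizer_iff.2 fun x => ?_⟩))
    by_cases hx : x ∈ Cfsg.sigmaCore H
    · exact mem_normalizer_iff.1 hn ⟨x, hx⟩
    · refine ⟨fun hxU => absurd (hUσ hxU) hx, fun hxU => absurd ?_ hx⟩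
      have := mul_mem (mul_mem (inv_mem n.2) (hUσ hxU)) n.2
      simpa [mul_assoc] using this
  have hHM : H ≤ M := fun x hx =>
    hle ⟨hx, heq.symm ▸ BGFinal72.le_normalizer_sigmaCore H hx⟩
  rcases eq_or_lt_of_le hHM with e | hlt
  · exact ho.notM 1 (by rw [cj_one]; exact e)
  · exact h.coatom.1 (ho.coatom.2 M hlt)

/-- The case s ∈ σ(M*): x and w₀ commute modulo the normal s-complement of M*_σ. -/
theorem false_of_sigma_L (hp : Pair M K L) (ho : Over M K U L H) {x w₀ a : G} {s : ℕ}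
    (hs : s.Prime) (hKp : (Nat.card K).Prime) (hxq : orderOf x = Nat.card K)
    (hsK : s ≠ Nat.card K) (hxL : x ∈ Ks L (Ks M K)) (hx1 : x ≠ 1) {Ω : Subgroup G}
    (hΩp : IsPGroup s Ω) (hΩnc : ¬ IsCyclic Ω) (hΩc : Nat.card Ω = s ^ 2)
    (hxΩ : x ∈ normalizer (Ω : Set G)) (hsH : s ∉ Cfsg.sigma H) (hτ : s ∈ Cfsg.tau2 H)
    (haL : a ∈ L) (hor : orderOf a = s) (hw₀Ω : w₀ ∈ Ω)
    (hmoved : x * w₀ * x⁻¹ * w₀⁻¹ ≠ 1) (hmemΩ : x * w₀ * x⁻¹ * w₀⁻¹ ∈ Ω)
    (hsL : s ∈ Cfsg.sigma L) : False := by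
  have hG := hp.left.min
  haveI := Fact.mk hs
  obtain ⟨g, hg, hNg⟩ := exists_conj_normalizer_le hG hp.right.coatom hsL hΩp hΩnc
  rw [cj_of_mem (hp.right.mem_of_conj_mem hxL hx1 (hNg hxΩ))] at hg
  haveI := Fact.mk hs
  have hnot : ¬ Cfsg.IsIdealPrime s G := (S1408.result hG H ho.coatom s hsH hτ.2.2.1 hτ.2.2.2).1
  obtain ⟨Ps, N, hN, hNP⟩ := ((S1414.result hG L hp.right.coatom).2.2.2.2 s hs
    (hor ▸ L.orderOf_dvd_natCard haL) (fun hb => hnot hb.2)).2.1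
  haveI := hN
  obtain ⟨k, hk⟩ := IsPGroup.iff_card.1 Ps.isPGroup'
  have hNs : ¬ s ∣ Nat.card N := by
    rw [← hNP.index_eq_card]
    exact Ps.not_dvd_index
  have hΩσ : Ω ≤ Cfsg.sigmaCore L := le_sigmaCore hG hp.right.coatom hg (by
    intro q hq hd
    rw [hΩc] at hd
    rwa [(Nat.prime_dvd_prime_iff_eq hq hs).1 (hq.dvd_of_dvd_pow hd)])
  have hxN : (⟨x, hxL.1⟩ : ↥(Cfsg.sigmaCore L)) ∈ N := by
    have hcopx : (orderOf (⟨x, hxL.1⟩ : ↥(Cfsg.sigmaCore L))).Coprime N.index := by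
      rw [Subgroup.orderOf_mk, hxq, hNP.symm.index_eq_card, hk]
      exact ((Nat.coprime_primes hKp hs).2 hsK.symm).pow_right k
    refine (QuotientGroup.eq_one_iff _).1 (orderOf_eq_one_iff.1
      (Nat.eq_one_of_dvd_coprimes hcopx (orderOf_map_dvd (QuotientGroup.mk' N) _) ?_))
    rw [index_eq_card]
    exact orderOf_dvd_natCard _
  have hcm : (⟨x * w₀ * x⁻¹ * w₀⁻¹, hΩσ hmemΩ⟩ : ↥(Cfsg.sigmaCore L)) ∈ N := by
    have := N.mul_mem hxN (hN.conj_mem _ (N.inv_mem hxN) ⟨w₀, hΩσ hw₀Ω⟩)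
    convert this using 1
    exact Subtype.ext (by simp [mul_assoc])
  refine hmoved (eq_one_of_piNat (π := {t | t = s}) ?_ ?_)
  · intro t ht hd
    have h5 := hd.trans (Ω.orderOf_dvd_natCard hmemΩ)
    rw [hΩc] at h5
    exact (Nat.prime_dvd_prime_iff_eq ht hs).1 (ht.dvd_of_dvd_pow h5)
  · intro t ht hd e
    have h5 : t ∣ Nat.card N := by
      refine hd.trans ?_
      have := N.orderOf_dvd_natCard hcm
      rwa [Subgroup.orderOf_mk] at this
    change t = s at e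
    subst e
    exact hNs h5

/-- The case s ∈ κ(M*): a conjugate of M would contain Ω and U. -/
theorem false_of_kappa_L (hp : Pair M K L) (hKU : Cfsg.IsSigmaDecomposition M K U) (hU1 : U ≠ ⊥)
    {r : ℕ} [Fact r.Prime] (hr : r ∣ Nat.card U) {R₀ : Subgroup G}
    (hR₀ : ∀ S : Sylow r U, (S : Subgroup U).map U.subtype = R₀)
    (hNR : normalizer (R₀ : Set G) ≤ H) (ho : Over M K U L H) (hUσ : U ≤ Cfsg.sigmaCore H)
    {w₀ a : G} {s : ℕ} (hs : s.Prime) (hKp : (Nat.card K).Prime) (hsK : s ≠ Nat.card K)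
    {Ω : Subgroup G} (hΩel : Cfsg.IsElementaryAbelian s Ω) (hΩc : Nat.card Ω = s ^ 2)
    (hΩH : Ω ≤ H) (ha : a ∈ Ω) (ha1 : a ≠ 1) (haL : a ∈ L) (hor : orderOf a = s)
    (hw₀Ω : w₀ ∈ Ω) (hw₀1 : w₀ ≠ 1) (hw₀o : orderOf w₀ = s)
    (hwc : w₀ ∈ centralizer (Cfsg.sigmaCore H : Set G))
    (hκa : PiNat (Cfsg.kappa L) (orderOf a)) : False := by
  have h := hp.left
  have hG := h.min
  haveI := Fact.mk hs
  have hsκ := hκa s hs (hor ▸ dvd_rfl)
  obtain ⟨m, hm, hmle⟩ := le_conj_hallOf (solvable hG hp.right.coatom) hp.right.hall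
    (U := zpowers a) (zpowers_le.2 haL) (by rw [Nat.card_zpowers]; exact hκa)
  have haK : m⁻¹ * a * m ∈ Ks M K := mem_cj.1 (hmle (mem_zpowers a))
  have hsM : s ∈ Cfsg.sigma M :=
    piNat_orderOf (piNat_Ks M K) haK s hs (by
      have h6 := orderOf_conj m⁻¹ a
      rw [inv_inv] at h6
      rw [h6, hor])
  set M' := cj m M
  have hM' := isCoatom_cj m h.coatom
  have hTI : ∀ w ∈ Cfsg.sigmaCore M', w ≠ 1 → centralizer ({w} : Set G) ≤ M' := by
    intro w hw hw1 c hc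
    rw [sigmaCore_cj m hG h.coatom, mem_cj] at hw
    by_contra hcM
    have hg : m⁻¹ * c * m ∉ M := fun e => hcM (mem_cj.2 e)
    have := sigmaCore_inf_cj h hKU hU1 hg
    have hmem : m⁻¹ * w * m ∈ Cfsg.sigmaCore M ⊓ cj (m⁻¹ * c * m) M := by
      refine ⟨hw, mem_cj.2 ?_⟩
      have e : (m⁻¹ * c * m)⁻¹ * (m⁻¹ * w * m) * (m⁻¹ * c * m) = m⁻¹ * w * m := by
        have hc' : Commute c w := mem_centralizer_singleton_iff.1 hc
        calc (m⁻¹ * c * m)⁻¹ * (m⁻¹ * w * m) * (m⁻¹ * c * m)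
            = m⁻¹ * (c⁻¹ * (w * c)) * m := by group
          _ = m⁻¹ * (c⁻¹ * (c * w)) * m := by rw [hc'.eq]
          _ = _ := by group
      rw [e]
      exact BGFinal72.sigmaCore_le M hw
    rw [this, mem_bot] at hmem
    exact hw1 (by
      have := congrArg (fun t => m * t * m⁻¹) hmem
      simpa [mul_assoc] using this)
  have haM' : a ∈ Cfsg.sigmaCore M' := by
    rw [sigmaCore_cj m hG h.coatom, mem_cj]
    exact haK.1
  have hΩM' : Ω ≤ M' := fun z hz => hTI a haM' ha1 (mem_centralizer_singleton_iff.2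
    (PGroupsBasic.comm_of_isMulCommutative hΩel.1 hz ha))
  have hsM' : PiNat (Cfsg.sigma M') (Nat.card Ω) := by
    intro q hq hd
    rw [hΩc] at hd
    rwa [(Nat.prime_dvd_prime_iff_eq hq hs).1 (hq.dvd_of_dvd_pow hd), sigma_cj]
  have hUM' : U ≤ M' := fun u hu => hTI w₀
    (le_sigmaCore hG hM' hΩM' hsM' hw₀Ω) hw₀1
    (mem_centralizer_singleton_iff.2 ((mem_centralizer_iff.1 hwc) u (hUσ hu)))
  -- transfer to M
  obtain ⟨R, A, hRU, hR, hRp, -, -, hAR, hA1, -, -, -, -, T, hT⟩ := exists_omega h hKU hr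
  obtain ⟨S₁⟩ : Nonempty (Sylow r U) := inferInstance
  have eR : R = R₀ := (hR S₁).symm.trans (hR₀ S₁)
  subst eR
  have hRmax : BGUnique.IsMaxP r R M := hT ▸ BGUnique.isMaxP_sylow M T
  have hcR : BGUnique.IsMaxP r (cj m R) M' := BGSigma.isMaxP_conj m hRmax
  obtain ⟨k, hk, e⟩ := BGSigma.exists_conj_maxP hcR (hRU.trans hUM') hRp
  have e' : cj (k⁻¹ * m) R = R := by
    have e1 : cj k R = cj m R := eq_of_le_of_card_ge e (by rw [card_cj, card_cj])
    rw [← cj_mul, ← e1, cj_inv_cj]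
  have hn : k⁻¹ * m ∈ H := hNR (SFTSigma.mem_normalizer_of_map_conj_eq e')
  have hM'eq : M' = cj (k⁻¹ * m) M := by
    rw [← cj_mul]
    exact (cj_of_mem (inv_mem hk)).symm
  have hinf := inf_eq_U_sup_K hp hKU hU1 ho hUσ
  have hmem : (k⁻¹ * m)⁻¹ * w₀ * (k⁻¹ * m) ∈ U ⊔ K := by
    rw [← hinf]
    refine ⟨mem_cj.1 (hM'eq ▸ hΩM' hw₀Ω), H.mul_mem (H.mul_mem (H.inv_mem hn) ?_) hn⟩
    exact hΩH hw₀Ω
  have hd' : s ∣ Nat.card ↥(U ⊔ K) := by
    have h8 := (U ⊔ K).orderOf_dvd_natCard hmem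
    have h9 := orderOf_conj (k⁻¹ * m)⁻¹ w₀
    rw [inv_inv] at h9
    rwa [h9, hw₀o] at h8
  rw [SFTSigma.card_sup_coprime hKU.normal (Nat.coprime_of_dvd fun q hq h1 h2 =>
    (BGFinal72.U_prime (hall hG h.coatom) hKU hq h1).2 (h.hall.2.1 q hq h2))] at hd'
  rcases hs.dvd_mul.1 hd' with hd'' | hd''
  · exact (BGFinal72.U_prime (hall hG h.coatom) hKU hs hd'').1 hsM
  · exact hsK ((Nat.prime_dvd_prime_iff_eq hs hKp).1 hd'')

/-- K centralises E', for a complement E ⊇ K of H_σ in H. -/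
theorem le_centralizer_commutator (hp : Pair M K L) (hKU : Cfsg.IsSigmaDecomposition M K U)
    (hU1 : U ≠ ⊥) {r : ℕ} [Fact r.Prime] (hr : r ∣ Nat.card U) {R₀ : Subgroup G}
    (hR₀ : ∀ S : Sylow r U, (S : Subgroup U).map U.subtype = R₀)
    (hNR : normalizer (R₀ : Set G) ≤ H) (ho : Over M K U L H) (hUσ : U ≤ Cfsg.sigmaCore H) {E : Subgroup G}
    (hEc : Cfsg.IsComplIn E (Cfsg.sigmaCore H) H)
    (hE : Cfsg.IsPiHallOf (Cfsg.sigma H)ᶜ E H) (hKE : K ≤ E) :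
    ⁅E, E⁆ ≤ centralizer (K : Set G) := by
  classical
  have h := hp.left
  have hG := h.min
  have hKp := card_K_prime h hKU hU1
  obtain ⟨x, hx, hx1⟩ := K.bot_or_exists_ne_one.resolve_left h.ne
  have hxq : orderOf x = Nat.card K :=
    (hKp.eq_one_or_self_of_dvd _ (K.orderOf_dvd_natCard hx)).resolve_left (by simpa using hx1)
  have hKx : K = zpowers x :=
    (eq_of_le_of_card_ge (zpowers_le.2 hx) (by rw [Nat.card_zpowers, hxq])).symm
  have hxL : x ∈ Ks L (Ks M K) := hp.eq.symm ▸ hx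
  suffices hle : ⁅E, E⁆ ≤ centralizer ({x} : Set G) by
    rw [hKx, zpowers_eq_closure, centralizer_closure]
    exact hle
  set D := (⁅E, E⁆ : Subgroup G)
  have hDE : D ≤ E := commutator_le_self E
  have hDc : IsMulCommutative D := (S1420.result hG H ho.coatom E hEc).2.1
  have hxD : x ∈ normalizer (D : Set G) :=
    le_normalizer_iff_commutator_le_left.2 (commutator_mono hDE le_rfl) (hKE hx)
  refine BGRankTwo.le_of_sylow_le fun s hs v hv ⟨i, hi⟩ => ?_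
  haveI := Fact.mk hs
  -- v has s-power order
  by_contra hfix
  have hw : v⁻¹ * (x * v * x⁻¹) ≠ 1 := fun e => hfix (mem_centralizer_singleton_iff.2
    (mul_inv_eq_iff_eq_mul.1 (inv_mul_eq_one.1 e).symm).symm)
  set f : D →* G :=
    { toFun := fun d => (d : G)⁻¹ * (x * d * x⁻¹)
      map_one' := by simp
      map_mul' := fun a b => by
        have hc : Commute ((b : G)⁻¹) ((a : G)⁻¹ * (x * a * x⁻¹)) :=
          PGroupsBasic.comm_of_isMulCommutative hDc (D.inv_mem b.2)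
            (D.mul_mem (D.inv_mem a.2) ((mem_normalizer_iff.1 hxD a).1 a.2))
        calc ((a * b : D) : G)⁻¹ * (x * (a * b : D) * x⁻¹)
            = (b : G)⁻¹ * ((a : G)⁻¹ * (x * a * x⁻¹)) * (x * b * x⁻¹) := by
              simp only [Subgroup.coe_mul]; group
          _ = _ := by rw [hc.eq]; group }
  -- an element of order s in the range
  have hwo : orderOf (f ⟨v, hv⟩) ∣ s ^ i := by
    rw [← hi, ← Subgroup.orderOf_mk v hv]
    exact orderOf_map_dvd f _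
  obtain ⟨j, hj, hwj⟩ := (Nat.dvd_prime_pow hs).1 hwo
  have hj0 : j ≠ 0 := by
    intro e
    rw [e, pow_zero, orderOf_eq_one_iff] at hwj
    exact hw hwj
  obtain ⟨b, hb, hw₀o⟩ : ∃ b : D, orderOf b ∣ s ^ i ∧ orderOf (f b) = s := by
    refine ⟨⟨v, hv⟩ ^ (orderOf (f ⟨v, hv⟩) / s), ?_, ?_⟩
    · rw [← hi, ← Subgroup.orderOf_mk v hv]
      exact orderOf_pow_dvd _
    · rw [map_pow]
      exact orderOf_pow_orderOf_div (orderOf_pos _).ne' (hwj ▸ dvd_pow_self s hj0)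
  set w₀ := f b with hw₀
  have hw₀1 : w₀ ≠ 1 := fun e => hs.ne_one (by rw [← hw₀o, e, orderOf_one])
  have hfD : ∀ d : D, f d ∈ D := fun d =>
    D.mul_mem (D.inv_mem d.2) ((mem_normalizer_iff.1 hxD d).1 d.2)
  have hw₀E : w₀ ∈ E := hDE (hfD b)
  have hsH : s ∉ Cfsg.sigma H := hE.2.1 s hs (hw₀o ▸ E.orderOf_dvd_natCard hw₀E)
  have hsK : s ≠ Nat.card K := by
    intro e
    have hx' : orderOf x = s := by rw [hxq, e]
    obtain ⟨P, hP, hxP⟩ := BGUnique.exists_isMaxP_ge (p := s)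
      (IsPGroup.of_card (G := zpowers x) (n := 1) (by rw [Nat.card_zpowers, hx', pow_one]))
      (zpowers_le.2 (hKE hx))
    obtain ⟨S, hS⟩ := hP.exists_sylow
    have hvn : D ≤ normalizer (zpowers v : Set G) := fun d hd =>
      centralizer_le_normalizer _ (mem_centralizer_iff.2 fun y hy =>
        PGroupsBasic.comm_of_isMulCommutative hDc (zpowers_le.2 hv hy) hd)
    have hvD : v ∈ BGFittingUnique.Oc s D := BGFittingUnique.le_Oc (zpowers_le.2 hv) hvn
      (IsPGroup.of_card (by rw [Nat.card_zpowers, hi])) (mem_zpowers v)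
    have hvE : v ∈ BGFittingUnique.Oc s E := BGFittingUnique.le_Oc
      ((BGFittingUnique.Oc_le s D).trans hDE)
      ((le_normalizer_iff_commutator_le_left.2 (commutator_mono hDE le_rfl)).trans
        (BGFittingUnique.normalizer_le_Oc s D))
      (BGFittingUnique.isPGroup_Oc s D) hvD
    have hvP : v ∈ P :=
      hS ▸ map_mono ((HallCore.isPGroup_pCore s E).le_sylow_of_normal S) hvE
    have hPc : IsMulCommutative P := comm_of_pgroup hG ho.coatom hsH hP.isPGroup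
      (hP.le.trans hE.1)
    exact hfix (mem_centralizer_singleton_iff.2
      (PGroupsBasic.comm_of_isMulCommutative hPc hvP (hxP (mem_zpowers x))))
  -- the range of f on the s-part
  set W := (closure (f '' {d : D | orderOf d ∣ s ^ i}) : Subgroup G)
  have hWD : W ≤ D := (closure_le _).2 (by rintro _ ⟨d, -, rfl⟩; exact hfD d)
  have hWf : ∀ z ∈ W, ∃ d : D, orderOf d ∣ s ^ i ∧ f d = z := by
    intro z hz
    induction hz using Subgroup.closure_induction with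
    | mem z hz => obtain ⟨d, hd, rfl⟩ := hz; exact ⟨d, hd, rfl⟩
    | one => exact ⟨1, by simp, map_one f⟩
    | mul a b _ _ iha ihb =>
      obtain ⟨d, hd, rfl⟩ := iha
      obtain ⟨d', hd', rfl⟩ := ihb
      refine ⟨d * d', ?_, map_mul f d d'⟩
      have hc : Commute d d' := Subtype.ext (PGroupsBasic.comm_of_isMulCommutative hDc d.2 d'.2)
      exact hc.orderOf_mul_dvd_lcm.trans (Nat.lcm_dvd hd hd')
    | inv a _ iha =>
      obtain ⟨d, hd, rfl⟩ := iha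
      exact ⟨d⁻¹, by rwa [orderOf_inv], map_inv f d⟩
  have hWp : IsPGroup s W := fun z => by
    obtain ⟨d, hd, e⟩ := hWf z z.2
    obtain ⟨k, -, hk⟩ := (Nat.dvd_prime_pow hs).1
      ((Subgroup.orderOf_mk (z : G) z.2 ▸ (e ▸ orderOf_map_dvd f d) :
        orderOf z ∣ orderOf d).trans hd)
    exact ⟨k, hk ▸ pow_orderOf_eq_one z⟩
  have hW0 : w₀ ∈ W := subset_closure ⟨b, hb, rfl⟩
  have hxW : x ∈ normalizer (W : Set G) := by
    rw [mem_normalizer_iff_map_conj_eq, MonoidHom.map_closure]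
    congr 1
    refine Set.eq_of_subset_of_ncard_le ?_ ?_ (Set.toFinite _)
    · rintro _ ⟨_, ⟨d, hd, rfl⟩, rfl⟩
      refine ⟨⟨x * d * x⁻¹, (mem_normalizer_iff.1 hxD d).1 d.2⟩, ?_, ?_⟩
      · show orderOf _ ∣ s ^ i
        rwa [Subgroup.orderOf_mk, orderOf_conj, Subgroup.orderOf_coe]
      · show (x * (d : G) * x⁻¹)⁻¹ * (x * (x * d * x⁻¹) * x⁻¹) = x * ((d : G)⁻¹ * (x * d * x⁻¹)) * x⁻¹
        group
    · exact le_of_eq (Set.ncard_image_of_injective _ (MulAut.conj x).injective).symm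
  -- fixed points of x on W are trivial
  have hWfix : W ⊓ centralizer ({x} : Set G) = ⊥ := by
    refine eq_bot_iff.2 fun z hz => ?_
    obtain ⟨d, hd, e⟩ := hWf z hz.1
    have hzx : Commute z x := mem_centralizer_singleton_iff.1 hz.2
    have e1 : x * (d : G) * x⁻¹ = (d : G) * z := by rw [← e]; exact (mul_inv_cancel_left _ _).symm
    have e2 : ∀ n : ℕ, x ^ n * d * (x ^ n)⁻¹ = (d : G) * z ^ n := by
      intro n
      induction n with
      | zero => simp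
      | succ n ih =>
        calc x ^ (n + 1) * d * (x ^ (n + 1))⁻¹ = x * (x ^ n * d * (x ^ n)⁻¹) * x⁻¹ := by
              rw [pow_succ']; group
          _ = (x * d * x⁻¹) * (x * z ^ n * x⁻¹) := by rw [ih]; group
          _ = (d : G) * z * z ^ n := by
              rw [e1, ((hzx.pow_left n).symm).eq, mul_assoc (z ^ n), mul_inv_cancel, mul_one]
          _ = _ := by rw [mul_assoc, ← pow_succ']
    have e3 := e2 (Nat.card K)
    rw [← hxq, pow_orderOf_eq_one, one_mul, inv_one, mul_one, hxq] at e3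
    have h4 : orderOf z ∣ Nat.card K :=
      orderOf_dvd_of_pow_eq_one (mul_left_cancel (a := (d : G)) (by rw [mul_one]; exact e3.symm))
    obtain ⟨k, hk⟩ := IsPGroup.iff_orderOf.1 hWp ⟨z, hz.1⟩
    rw [Subgroup.orderOf_mk] at hk
    have hcop : (s ^ k).Coprime (Nat.card K) :=
      ((Nat.coprime_primes hs hKp).2 hsK).pow_left k
    rw [mem_bot, ← orderOf_eq_one_iff]
    exact Nat.eq_one_of_dvd_coprimes hcop (hk ▸ dvd_rfl) h4
  have hWH : W ≤ H := hWD.trans (hDE.trans hE.1)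
  have hcop : ∀ {T : Subgroup G}, IsPGroup s T →
      (Nat.card (Cfsg.sigmaCore H)).Coprime (Nat.card T) := fun {T} hT => by
    obtain ⟨k, hk⟩ := IsPGroup.iff_card.1 hT
    rw [hk]
    exact ((Nat.coprime_comm.1 (hs.coprime_iff_not_dvd.2 fun hd =>
      hsH (piNat_sigmaCore H s hs hd)))).pow_right k
  have hWc : W ≤ centralizer (Cfsg.sigmaCore H : Set G) :=
    le_centralizer_of_fpf hKp hxq (BGFinal72.le_normalizer_sigmaCore H (ho.K_le hx)) hxW
      (hWH.trans (BGFinal72.le_normalizer_sigmaCore H)) (hcop hWp) (ho.fpf x hx hx1) hWfix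
  -- Ω₁ of a Sylow s-subgroup
  obtain ⟨P, hP, hWP⟩ := BGUnique.exists_isMaxP_ge hWp (hWD.trans hDE)
  have hPH : BGUnique.IsMaxP s P H := by
    obtain ⟨P', hP', hPP'⟩ := BGUnique.exists_isMaxP_ge hP.isPGroup (hP.le.trans hE.1)
    obtain ⟨S, hS⟩ := hP.exists_sylow
    obtain ⟨S', hS'⟩ := hP'.exists_sylow
    refine eq_of_le_of_card_ge hPP' ?_ ▸ hP'
    rw [← hS, ← hS', card_map_of_injective E.subtype_injective,
      card_map_of_injective H.subtype_injective, S.card_eq_multiplicity, S'.card_eq_multiplicity,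
      ← BGFinal72.card_mul_relIndex hE.1, Nat.factorization_mul Nat.card_pos.ne'
        (fun e => Nat.card_pos.ne' (by rw [← BGFinal72.card_mul_relIndex hE.1, e, mul_zero])),
      Finsupp.add_apply, Nat.factorization_eq_zero_of_not_dvd (hE.2.2 s hs hsH), add_zero]
  obtain ⟨S, hS⟩ := hPH.exists_sylow
  have hPc : IsMulCommutative P := comm_of_pgroup hG ho.coatom hsH hP.isPGroup hPH.le
  have hsdH : s ∣ Nat.card H := hw₀o ▸ H.orderOf_dvd_natCard (hWH hW0)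
  have hP1 : ¬ ∀ q : ℕ, q.Prime → q ∣ Nat.card H → q ∉ Cfsg.sigma H → q ∈ Cfsg.kappa H :=
    fun hall' => absurd (hall' s hs hsdH hsH) (by simp [ho.kappa])
  obtain ⟨hcard, hC, -⟩ :=
    S1429.result hG H ho.coatom hP1 s hsdH (by simp [hsH, ho.kappa]) S
  rw [hS] at hcard hC
  set Ω := closure {y : G | y ∈ P ∧ y ^ s = 1}
  have hΩP : Ω ≤ P := (closure_le _).2 fun y hy => hy.1
  have hw₀Ω : w₀ ∈ Ω := subset_closure ⟨hWP hW0, hw₀o ▸ pow_orderOf_eq_one w₀⟩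
  have hΩel : Cfsg.IsElementaryAbelian s Ω := by
    refine ⟨⟨⟨fun a b => Subtype.ext
      (PGroupsBasic.comm_of_isMulCommutative hPc (hΩP a.2) (hΩP b.2))⟩⟩, fun a ha => ?_⟩
    induction ha using Subgroup.closure_induction with
    | mem y hy => exact hy.2
    | one => exact one_pow s
    | mul a b ha' hb' iha ihb =>
      have hc : Commute a b := PGroupsBasic.comm_of_isMulCommutative hPc
        ((closure_le _).2 (fun y hy => hy.1) ha') ((closure_le _).2 (fun y hy => hy.1) hb')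
      rw [hc.mul_pow, iha, ihb, one_mul]
    | inv a _ iha => rw [inv_pow, iha, inv_one]
  have hσne := BGSigma.sigmaCore_ne_bot hG ho.coatom
  have hnotcent : ¬ Ω ≤ centralizer (Cfsg.sigmaCore H : Set G) := fun hle => by
    rw [inf_eq_left.2 fun z hz => mem_centralizer_iff.2 fun a ha =>
      ((mem_centralizer_iff.1 (hle ha)) z hz).symm] at hC
    exact hσne hC
  have hΩc : Nat.card Ω = s ^ 2 := by
    refine le_antisymm hcard ?_
    obtain ⟨n, hn⟩ := IsPGroup.iff_card.1 (hP.isPGroup.to_le hΩP)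
    rw [hn]
    refine Nat.pow_le_pow_right hs.pos ?_
    by_contra hn2
    refine hnotcent ?_
    rw [show Ω = zpowers w₀ from (eq_of_le_of_card_ge (zpowers_le.2 hw₀Ω) (by
      rw [hn, Nat.card_zpowers, hw₀o]
      calc s ^ n ≤ s ^ 1 := Nat.pow_le_pow_right hs.pos (by omega)
        _ = s := pow_one s)).symm, zpowers_le]
    exact hWc hW0
  have hΩnc : ¬ IsCyclic Ω := fun hcyc => by
    obtain ⟨g, hg⟩ := hcyc.exists_generator
    have h2 : Nat.card Ω ∣ s := by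
      rw [← orderOf_eq_card_of_forall_mem_zpowers hg]
      exact orderOf_dvd_of_pow_eq_one (Subtype.ext (by simpa using hΩel.2 _ g.2))
    rw [hΩc] at h2
    nlinarith [hs.two_le, Nat.le_of_dvd hs.pos h2]
  have hΩH : Ω ≤ H := hΩP.trans hPH.le
  have hτ : s ∈ Cfsg.tau2 H := by
    refine ⟨hs, hsH, ?_, fun hr1 => ?_⟩
    · by_contra h2
      exact hsH (BGSigma.alpha_subset_sigma hG ho.coatom ⟨hs, h2⟩)
    · have h1 := hr1 (Ω.subgroupOf H) ⟨⟨fun u v => Subtype.ext (Subtype.ext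
        (PGroupsBasic.comm_of_isMulCommutative hΩel.1 (x := ((u : H) : G)) u.2 v.2))⟩⟩
        (fun u hu => Subtype.ext (by rw [SubgroupClass.coe_pow]; exact hΩel.2 _ hu))
      rw [Nat.card_congr (subgroupOfEquivOfLe hΩH).toEquiv, hΩc, pow_one] at h1
      exact absurd h1 (by nlinarith [hs.two_le])
  have h18 := S1418.result hG H ho.coatom E hEc s hτ Ω ⟨hΩP.trans hP.le, hΩel, hΩc⟩
  have hxΩ : x ∈ normalizer (Ω : Set G) := h18.1.1 (hKE hx)
  have hΩp : IsPGroup s Ω := hP.isPGroup.to_le hΩP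
  -- a fixed point on Ω
  have hne : Ω ⊓ centralizer ({x} : Set G) ≠ ⊥ := fun e => hnotcent
    (le_centralizer_of_fpf hKp hxq (BGFinal72.le_normalizer_sigmaCore H (ho.K_le hx)) hxΩ
      (hΩH.trans (BGFinal72.le_normalizer_sigmaCore H)) (hcop hΩp) (ho.fpf x hx hx1) e)
  obtain ⟨a, ha, ha1⟩ := (Ω ⊓ centralizer ({x} : Set G)).bot_or_exists_ne_one.resolve_left hne
  have haL : a ∈ L := hp.right.centralizer_le hxL hx1 ha.2
  have hor : orderOf a = s := orderOf_eq_prime (hΩel.2 a ha.1) ha1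
  have hmoved : x * w₀ * x⁻¹ * w₀⁻¹ ≠ 1 := fun e => by
    have h1 : w₀ ∈ W ⊓ centralizer ({x} : Set G) :=
      ⟨hW0, mem_centralizer_singleton_iff.2
        (mul_inv_eq_iff_eq_mul.1 (mul_inv_eq_one.1 e)).symm⟩
    rw [hWfix, mem_bot] at h1
    exact hw₀1 h1
  have hmemΩ : x * w₀ * x⁻¹ * w₀⁻¹ ∈ Ω :=
    mul_mem ((mem_normalizer_iff.1 hxΩ w₀).1 hw₀Ω) (inv_mem hw₀Ω)
  by_cases hsL : s ∈ Cfsg.sigma L
  · exact false_of_sigma_L hp ho hs hKp hxq hsK hxL hx1 hΩp hΩnc hΩc hxΩ hsH hτ haL hor hw₀Ω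
      hmoved hmemΩ hsL
  rcases S1432.result hG L hp.right.coatom x hxL.1 hx1 a ⟨haL, ha.2⟩ ha1 (fun q hq hd => by
      rw [hor] at hd
      rwa [(Nat.prime_dvd_prime_iff_eq hq hs).1 hd]) with ⟨hκa, -⟩ | ⟨-, -, hle, -⟩
  · exact false_of_kappa_L hp hKU hU1 hr hR₀ hNR ho hUσ hs hKp hsK hΩel hΩc hΩH ha.1 ha1 haL hor
      hw₀Ω hw₀1 hw₀o (hWc hW0) hκa
  · -- s ∈ τ₂(M*)
    have hΩL : Ω ≤ L := fun z hz => hle (mem_centralizer_singleton_iff.2
      (PGroupsBasic.comm_of_isMulCommutative hΩel.1 hz ha.1))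
    refine hmoved (eq_one_of_piNat (π := Cfsg.sigma L) (piNat_mem_sigmaCore ?_) ?_)
    · rw [show x * w₀ * x⁻¹ * w₀⁻¹ = x * (w₀ * x⁻¹ * w₀⁻¹) by group]
      exact mul_mem hxL.1 ((mem_normalizer_iff.1
        (BGFinal72.le_normalizer_sigmaCore L (hΩL hw₀Ω)) x⁻¹).1 (inv_mem hxL.1))
    · intro t ht hd
      have h5 := hd.trans (Ω.orderOf_dvd_natCard hmemΩ)
      rw [hΩc] at h5
      rwa [(Nat.prime_dvd_prime_iff_eq ht hs).1 (ht.dvd_of_dvd_pow h5)]

end Cfsg.Agent.BGTypeP
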