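import Cfsg.Agent.Lib.BGTypePBase
import Cfsg.Agent.Lib.BGKappaEarly72
import Cfsg.Agent.S1352
import Cfsg.Agent.S1365
import Cfsg.Agent.S1430
import Cfsg.Agent.S1431

/-!
Bender-Glauberman, Theorem 14.7 (e), first half: the subgroup Z = K × K* of a maximal subgroup of
type P, and its set Ẑ = Z − (K ∪ K*).
-/

set_option autoImplicit false
set_option linter.style.haveILetI false

namespace Cfsg.Agent.BGTypeP

open Subgroup Cfsg.Agent.HallCore

universe u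

variable {G : Type u} [Group G]

/-- K* = M_σ ∩ C(K). -/
abbrev Ks (M K : Subgroup G) : Subgroup G :=
  Cfsg.sigmaCore M ⊓ centralizer (K : Set G)

/-- Z = K K*. -/
abbrev Zs (M K : Subgroup G) : Subgroup G := K ⊔ Ks M K

/-- Ẑ = Z − (K ∪ K*). -/
abbrev Zh (M K : Subgroup G) : Set G :=
  (Zs M K : Set G) \ ((K : Set G) ∪ (Ks M K : Set G))

/-- A maximal subgroup of type P with a chosen Hall κ-subgroup. -/
structure TypeP (M K : Subgroup G) : Prop where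
  min : Cfsg.IsMinSimpleOddOrder G
  coatom : IsCoatom M
  hall : Cfsg.IsPiHallOf (Cfsg.kappa M) K M
  ne : K ≠ ⊥

variable {M K : Subgroup G}

theorem TypeP.K_le (h : TypeP M K) : K ≤ M := h.hall.1

theorem Ks_le (M K : Subgroup G) : Ks M K ≤ M := inf_le_left.trans (BGFinal72.sigmaCore_le M)

theorem TypeP.Z_le (h : TypeP M K) : Zs M K ≤ M := sup_le h.K_le (Ks_le M K)

theorem commute_K_Ks {k y : G} (hk : k ∈ K) (hy : y ∈ Ks M K) : Commute k y := hy.2 k hk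

variable [Finite G]

theorem TypeP.Ks_ne (h : TypeP M K) : Ks M K ≠ ⊥ :=
  BGKappaEarly.Ks_ne h.min h.coatom h.hall h.ne

/-- Subgroups of prime order of K are normal in K. -/
theorem TypeP.prime_normal (h : TypeP M K) {X : Subgroup G} (hX : X ≤ K)
    (hXp : (Nat.card X).Prime) : K ≤ normalizer (X : Set G) :=
  BGKappaEarly.prime_normal h.min h.coatom h.hall hX hXp

/-- M ∩ N(X) = Z for a subgroup X of prime order of K. -/
theorem TypeP.normalizer_prime (h : TypeP M K) {X : Subgroup G} (hX : X ≤ K)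
    (hXp : (Nat.card X).Prime) : M ⊓ normalizer (X : Set G) = Zs M K :=
  ((S1430.result h.min M h.coatom K h.hall h.ne).2.2 X hX hXp).1

theorem TypeP.kappa_nonempty (h : TypeP M K) : (Cfsg.kappa M).Nonempty := by
  obtain ⟨k, hk, hk1⟩ := K.bot_or_exists_ne_one.resolve_left h.ne
  obtain ⟨q, hq, hqd⟩ := Nat.exists_prime_and_dvd (n := orderOf k) (by simpa using hk1)
  exact ⟨q, h.hall.2.1 q hq (hqd.trans (K.orderOf_dvd_natCard hk))⟩

theorem kappa_subset_compl (M : Subgroup G) : Cfsg.kappa M ⊆ (Cfsg.sigma M)ᶜ :=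
  fun _ hq => hq.2.2.1

theorem TypeP.piNat_K (h : TypeP M K) : PiNat (Cfsg.sigma M)ᶜ (Nat.card K) :=
  PiNat.mono h.hall.2.1 (kappa_subset_compl M)

theorem piNat_Ks (M K : Subgroup G) : PiNat (Cfsg.sigma M) (Nat.card ↥(Ks M K)) :=
  (piNat_sigmaCore M).of_dvd (card_dvd_of_le inf_le_left)

theorem TypeP.K_inf_Ks (h : TypeP M K) : K ⊓ Ks M K = ⊥ := by
  rw [inf_comm]
  exact inf_eq_bot_of_piNat (piNat_Ks M K) h.piNat_K

theorem mem_Z {z : G} : z ∈ Zs M K ↔ ∃ k ∈ K, ∃ y ∈ Ks M K, z = k * y := by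
  refine ⟨fun hz => ?_, fun ⟨k, hk, y, hy, e⟩ => e ▸ mul_mem_sup hk hy⟩
  have hN : K ≤ normalizer (Ks M K : Set G) :=
    le_trans (fun k hk => mem_centralizer_iff.2 fun y hy => (commute_K_Ks hk hy).symm.eq)
      (centralizer_le_normalizer _)
  obtain ⟨k, hk, y, hy, e⟩ := mem_sup_of_normalizer_le hN hz
  exact ⟨k, hk, y, hy, e.symm⟩
where
  mem_sup_of_normalizer_le {A B : Subgroup G} (hA : A ≤ normalizer (B : Set G)) {z : G}
      (hz : z ∈ A ⊔ B) : ∃ a ∈ A, ∃ b ∈ B, a * b = z := by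
    rw [← SetLike.mem_coe, coe_mul_of_left_le_normalizer_right A B hA] at hz
    obtain ⟨a, ha, b, hb, e⟩ := hz
    exact ⟨a, ha, b, hb, e⟩

theorem TypeP.decomp_Z (h : TypeP M K) {k k' y y' : G} (hk : k ∈ K) (hk' : k' ∈ K)
    (hy : y ∈ Ks M K) (hy' : y' ∈ Ks M K) (e : k * y = k' * y') : k = k' ∧ y = y' := by
  refine And.symm (decomp_unique (π := Cfsg.sigma M) (commute_K_Ks hk hy).symm
    (commute_K_Ks hk' hy').symm (piNat_orderOf (piNat_Ks M K) hy) (piNat_orderOf h.piNat_K hk)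
    (piNat_orderOf (piNat_Ks M K) hy') (piNat_orderOf h.piNat_K hk') ?_)
  rw [(commute_K_Ks hk hy).symm.eq, (commute_K_Ks hk' hy').symm.eq, e]

theorem TypeP.mem_Zh (h : TypeP M K) {z : G} :
    z ∈ Zh M K ↔ ∃ k ∈ K, ∃ y ∈ Ks M K, k ≠ 1 ∧ y ≠ 1 ∧ z = k * y := by
  constructor
  · rintro ⟨hz, hn⟩
    obtain ⟨k, hk, y, hy, rfl⟩ := mem_Z.1 hz
    refine ⟨k, hk, y, hy, fun e => hn (Or.inr ?_), fun e => hn (Or.inl ?_), rfl⟩
    · simpa [e] using hy
    · simpa [e] using hk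
  · rintro ⟨k, hk, y, hy, hk1, hy1, rfl⟩
    refine ⟨mul_mem_sup hk hy, ?_⟩
    rintro (hm | hm)
    · exact hy1 (h.decomp_Z hk hm hy (one_mem _) (by simp)).2
    · exact hk1 (h.decomp_Z hk (one_mem _) hy hm (by simp)).1

/-- K* ∩ M^g = 1 for g outside M. -/
theorem TypeP.Ks_inf_cj (h : TypeP M K) {g : G} (hg : g ∉ M) : Ks M K ⊓ cj g M = ⊥ :=
  (S1431.result h.min M h.coatom K h.hall h.ne).1 g hg

/-- A non-identity element of K* lies in a unique conjugate of M. -/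
theorem TypeP.mem_of_conj_mem (h : TypeP M K) {y : G} (hy : y ∈ Ks M K) (hy1 : y ≠ 1) {g : G}
    (hg : y ∈ cj g M) : g ∈ M :=
  by_contra fun hgM => hy1 (mem_bot.1 ((h.Ks_inf_cj hgM) ▸ (⟨hy, hg⟩ : y ∈ Ks M K ⊓ cj g M)))

theorem TypeP.centralizer_le (h : TypeP M K) {y : G} (hy : y ∈ Ks M K) (hy1 : y ≠ 1) :
    centralizer ({y} : Set G) ≤ M := by
  intro c hc
  refine h.mem_of_conj_mem hy hy1 (g := c) (mem_cj.2 ?_)
  have e : y * c = c * y := (mem_centralizer_singleton_iff.1 hc).symm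
  rw [show c⁻¹ * y * c = y by rw [mul_assoc, e, ← mul_assoc, inv_mul_cancel, one_mul]]
  exact Ks_le M K hy

/-- N(Y) ≤ M for a nontrivial subgroup Y of K*. -/
theorem TypeP.normalizer_le (h : TypeP M K) {Y : Subgroup G} (hY : Y ≤ Ks M K) (hY1 : Y ≠ ⊥) :
    normalizer (Y : Set G) ≤ M := by
  intro g hg
  obtain ⟨y, hy, hy1⟩ := Y.bot_or_exists_ne_one.resolve_left hY1
  refine inv_mem_iff.1 (h.mem_of_conj_mem (hY hy) hy1 (g := g⁻¹) (mem_cj.2 ?_))
  rw [inv_inv]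
  exact Ks_le M K (hY ((mem_normalizer_iff.1 hg y).1 hy))

theorem TypeP.Z_le_normalizer_K (h : TypeP M K) : Zs M K ≤ normalizer (K : Set G) :=
  sup_le le_normalizer (inf_le_right.trans (centralizer_le_normalizer _))

theorem TypeP.Z_le_normalizer_Ks (h : TypeP M K) : Zs M K ≤ normalizer (Ks M K : Set G) :=
  sup_le (le_trans (fun k hk => mem_centralizer_iff.2 fun y hy => (commute_K_Ks hk hy).symm.eq)
    (centralizer_le_normalizer _)) le_normalizer

/-- Ẑ meets its conjugates only under Z. -/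
theorem TypeP.mem_Z_of_conj (h : TypeP M K) {z g : G} (hz : z ∈ Zh M K)
    (hgz : g * z * g⁻¹ ∈ Zh M K) : g ∈ Zs M K := by
  obtain ⟨k, hk, y, hy, hk1, hy1, rfl⟩ := h.mem_Zh.1 hz
  obtain ⟨k', hk', y', hy', -, -, e⟩ := h.mem_Zh.1 hgz
  have hcomm : Commute (g * y * g⁻¹) (g * k * g⁻¹) :=
    (commute_K_Ks hk hy).symm.map (MulAut.conj g).toMonoidHom
  obtain ⟨ey, ek⟩ := decomp_unique (π := Cfsg.sigma M) hcomm (commute_K_Ks hk' hy').symm
    (piNat_orderOf_conj (piNat_orderOf (piNat_Ks M K) hy) g)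
    (piNat_orderOf_conj (piNat_orderOf h.piNat_K hk) g)
    (piNat_orderOf (piNat_Ks M K) hy') (piNat_orderOf h.piNat_K hk') (by
      rw [hcomm.eq, ← (commute_K_Ks hk' hy').eq, ← e]
      group)
  have hgM : g ∈ M := by
    refine inv_mem_iff.1 (h.mem_of_conj_mem hy hy1 (g := g⁻¹) (mem_cj.2 ?_))
    rw [inv_inv, show g * y * g⁻¹ = y' from ey]
    exact Ks_le M K hy'
  by_contra hgZ
  have hb := (S1431.result h.min M h.coatom K h.hall h.ne).2.1 g hgM hgZ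
  have hmem : k' ∈ K ⊓ cj g K := ⟨hk', ek ▸ conj_mem_cj.2 hk⟩
  rw [show K ⊓ cj g K = ⊥ from hb, mem_bot] at hmem
  exact hk1 (conj_eq_one_iff.1 (ek.trans hmem))

theorem TypeP.Zh_nonempty (h : TypeP M K) : (Zh M K).Nonempty := by
  obtain ⟨k, hk, hk1⟩ := K.bot_or_exists_ne_one.resolve_left h.ne
  obtain ⟨y, hy, hy1⟩ := (Ks M K).bot_or_exists_ne_one.resolve_left h.Ks_ne
  exact ⟨k * y, h.mem_Zh.2 ⟨k, hk, y, hy, hk1, hy1, rfl⟩⟩

theorem TypeP.normalizer_Zh (h : TypeP M K) : normalizer (Zh M K) = Zs M K := by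
  refine le_antisymm (fun g hg => ?_) fun g hg => mem_set_normalizer_iff.2 fun x => ?_
  · obtain ⟨z, hz⟩ := h.Zh_nonempty
    exact h.mem_Z_of_conj hz ((mem_set_normalizer_iff.1 hg z).1 hz)
  · have e1 := mem_normalizer_iff.1 (h.Z_le_normalizer_K hg) x
    have e2 := mem_normalizer_iff.1 (h.Z_le_normalizer_Ks hg) x
    have e3 := mem_normalizer_iff.1 (le_normalizer hg : g ∈ normalizer (Zs M K : Set G)) x
    simp only [Zh, Set.mem_diff, Set.mem_union, SetLike.mem_coe]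
    rw [e1, e2, e3]

theorem TypeP.ti (h : TypeP M K) : Cfsg.IsTISubset (Zh M K) := by
  intro g hg x hx hgx
  exact absurd (h.normalizer_Zh.symm ▸ h.mem_Z_of_conj hx hgx) hg

end Cfsg.Agent.BGTypeP
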