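import Cfsg.Agent.Lib.BGTypeSetup
import Cfsg.Agent.Lib.CoprimeAction
import Cfsg.Agent.Lib.BGNonTI
import Cfsg.Agent.S1356
import Cfsg.Agent.S1351
import Cfsg.Agent.S1352
import Cfsg.Agent.S1354
import Cfsg.Agent.S1355
import Cfsg.Agent.S1357
import Cfsg.Agent.S1359
import Cfsg.Agent.S1360
import Cfsg.Agent.S1363
import Cfsg.Agent.S1364
import Cfsg.Agent.S1365
import Cfsg.Agent.S1366
import Cfsg.Agent.S1368
import Cfsg.Agent.S1370
import Cfsg.Agent.S1372
import Cfsg.Agent.S1437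

/-!
The type of a maximal subgroup is determined by its standard factorisation
(Bender-Glauberman, Proposition 16.1).
-/

set_option autoImplicit false
set_option linter.style.haveILetI false

namespace Cfsg.Agent.BGTypeForward

open Cfsg
open BGTypeBasic FittingHallBasic BGTypeSetup
open scoped Pointwise commutatorElement

variable {G : Type*} [Group G] [Finite G]

theorem fittingHall_characteristic (L : Type*) [Group L] [Finite L] : (fittingHall L).Characteristic := by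
  rw [Subgroup.characteristic_iff_map_le]
  intro φ
  haveI := fittingHall_normal L
  refine le_fittingHall (Subgroup.Normal.map inferInstance _ φ.surjective) ?_ ?_
  · haveI := fittingHall_isNilpotent (G := L)
    exact Group.nilpotent_of_mulEquiv
      ((fittingHall L).equivMapOfInjective φ.toMonoidHom φ.injective)
  · rw [Subgroup.card_map_of_injective (f := φ.toMonoidHom) φ.injective,
      Subgroup.index_map_of_bijective (f := φ.toMonoidHom) φ.bijective]
    exact fittingHall_coprime_index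

theorem exponent_subgroupOf {A L : Subgroup G} (h : A ≤ L) :
    Monoid.exponent (A.subgroupOf L) = Monoid.exponent A :=
  Monoid.exponent_eq_of_mulEquiv (Subgroup.subgroupOfEquivOfLe h)

/-- The common part of the definition of Frobenius type. -/
theorem isOfTypeF_mk {L U U₁ U₀ : Subgroup G} (hsolv : Group.IsSolvable L) (hodd : Odd (Nat.card L))
    (hbot : fittingHallOf L ≠ ⊥) (hU : U ≠ ⊥) (hc : IsComplIn (fittingHallOf L) U L)
    (hU₁ : U₁ ≤ U) (hn : U ≤ Subgroup.normalizer (U₁ : Set G)) (hcomm : IsMulCommutative U₁)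
    (hcent : ∀ x ∈ fittingHallOf L, x ≠ 1 → U ⊓ Subgroup.centralizer ({x} : Set G) ≤ U₁)
    (hU₀ : U₀ ≤ U) (hexp : Monoid.exponent U₀ = Monoid.exponent U)
    (hfpf : ∀ u ∈ U₀, u ≠ 1 → ∀ x ∈ fittingHallOf L, u * x = x * u → x = 1) :
    IsOfTypeF L := by
  have hUL : U ≤ L := hc.2.1
  have hH : ∀ x : L, x ∈ fittingHall L ↔ (x : G) ∈ fittingHallOf L := fun x =>
    ⟨fun h => ⟨x, h, rfl⟩, fun h => fittingHallOf_subgroupOf L ▸ h⟩
  refine ⟨hsolv, hodd, fun h => hbot (by rw [fittingHallOf, h, Subgroup.map_bot]), fun h => hU ?_,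
    U.subgroupOf L, ?_, fittingHallOf_subgroupOf L ▸ isComplement'_subgroupOf hc,
    ⟨U₁.subgroupOf L, Subgroup.comap_mono hU₁, ?_, ?_, fun x hx hx1 => ?_⟩,
    ⟨U₀.subgroupOf L, Subgroup.comap_mono hU₀, ?_, fun u hu hu1 x hx hux => ?_⟩⟩
  · rw [← le_bot_iff, ← hc.2.2.1]
    refine le_inf (fun u hu => ?_) le_rfl
    have h1 : (⟨u, hUL hu⟩ : L) ∈ fittingHall L := h ▸ Subgroup.mem_top _
    exact (hH _).mp h1
  · intro h
    rw [Subgroup.subgroupOf_eq_bot, disjoint_iff, inf_eq_left.mpr hUL] at h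
    exact hU h
  · intro u hu
    rw [Subgroup.mem_normalizer_iff]
    intro z
    exact (Subgroup.mem_normalizer_iff.mp (hn hu)) z
  · refine ⟨⟨fun a b => Subtype.ext (Subtype.ext ?_)⟩⟩
    have := hcomm.is_comm.comm (⟨_, a.2⟩ : U₁) ⟨_, b.2⟩
    simpa using congrArg Subtype.val this
  · rintro u ⟨hu, hux⟩
    refine hcent (x : G) ((hH x).mp hx) (fun h => hx1 (Subtype.ext h)) ⟨hu, ?_⟩
    exact Subgroup.mem_centralizer_singleton_iff.mpr
      (congrArg Subtype.val (Subgroup.mem_centralizer_singleton_iff.mp hux))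
  · rw [exponent_subgroupOf (hU₀.trans hUL), exponent_subgroupOf hUL, hexp]
  · exact Subtype.ext (hfpf (u : G) hu (fun h => hu1 (Subtype.ext h)) (x : G) ((hH x).mp hx)
      (congrArg Subtype.val hux))

variable {M K U : Subgroup G} (hG : IsMinSimpleOddOrder G) (hM : IsCoatom M)
include hG hM

theorem exists_decomp : ∃ K U : Subgroup G, IsSigmaDecomposition M K U := by
  obtain ⟨⟨K, hK⟩, hc⟩ := S1351.result hG M hM
  obtain ⟨⟨U, hU⟩, -⟩ := S1352.result hG M hM K (hc K hK) hK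
  exact ⟨K, U, hU⟩

variable (hKU : IsSigmaDecomposition M K U)
include hKU

theorem derived_eq (hK : K ≠ ⊥) : ⁅M, M⁆ = U ⊔ sigmaCore M :=
  (S1365.result hG M hM K U hKU hK).1

omit hKU in
theorem sigmaCore_le_derived : sigmaCore M ≤ ⁅M, M⁆ := BGSigma.sigmaCore_le_commutator hG hM

theorem compl_derived (hK : K ≠ ⊥) : IsComplIn (sigmaCore M) U ⁅M, M⁆ := by
  refine ⟨sigmaCore_le_derived hG hM, derived_eq hG hM hKU hK ▸ le_sup_left, ?_, fun m hm => ?_⟩
  · rw [inf_comm]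
    exact Subgroup.inf_eq_bot_of_coprime (coprime_U_sigmaCore hG hM hKU)
  · rw [derived_eq hG hM hKU hK, sup_comm, ← SetLike.mem_coe,
      Subgroup.coe_mul_of_right_le_normalizer_left _ _
        ((U_le hKU).trans (le_normalizer_sigmaCore M))] at hm
    obtain ⟨a, ha, b, hb, hab⟩ := Set.mem_mul.mp hm
    exact ⟨a, ha, b, hb, hab.symm⟩

theorem card_derived (hK : K ≠ ⊥) :
    Nat.card ↥⁅M, M⁆ = Nat.card (sigmaCore M) * Nat.card U :=
  (card_mul_of_isComplIn (compl_derived hG hM hKU hK)).symm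

theorem coprime_derived_K (hK : K ≠ ⊥) : (Nat.card ↥⁅M, M⁆).Coprime (Nat.card K) := by
  rw [card_derived hG hM hKU hK]
  exact (coprime_K_sigmaCore hG hM hKU).symm.mul_left (coprime_U_K hG hM hKU)

theorem compl_K (hK : K ≠ ⊥) : IsComplIn ⁅M, M⁆ K M := by
  refine isComplIn_of_card (Subgroup.commutator_le_self M) (K_le hKU)
    (coprime_derived_K hG hM hKU hK) ?_
  rw [card_derived hG hM hKU hK, ← card_decomp hG hM hKU]
  ring

theorem selfNormalizingCyclic (hK : K ≠ ⊥) :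
    IsSelfNormalizingCyclic K (sigmaCore M ⊓ Subgroup.centralizer (K : Set G)) := by
  set W₂ := sigmaCore M ⊓ Subgroup.centralizer (K : Set G) with hW₂
  obtain ⟨Ms, ⟨hMs, hKst, hKstH⟩, -⟩ := S1366.result hG M hM K U hKU hK
  obtain ⟨hTI, hN⟩ := S1370.result hG M hM K U hKU hK
  have hcyc := (S1368.result hG M hM K U hKU hK Ms hMs hKst hKstH).2
  have hcomm : ∀ a ∈ K, ∀ b ∈ W₂, a * b = b * a := fun a ha b hb => hb.2 a ha
  refine ⟨hK, (S1364.result hG M hM K U hKU hK).2.1, ?_, hcomm, hcyc, fun X hX hne => ?_⟩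
  · rw [← le_bot_iff, ← K_inf_sigmaCore hG hM hKU]
    exact inf_le_inf le_rfl inf_le_left
  · set T := (↑(K ⊔ W₂) : Set G) \ ((K : Set G) ∪ ↑W₂) with hT
    obtain ⟨x, hx⟩ := hne
    refine le_antisymm (fun g hg => ?_) (fun w hw => ?_)
    · rw [← hN]
      by_contra hgN
      have h1 : x = 1 := hTI g hgN x (hX hx) (hX ((Subgroup.mem_set_normalizer_iff.mp hg x).mp hx))
      exact (hX hx).2 (Or.inl (h1 ▸ K.one_mem))
    · haveI := hcyc
      refine Subgroup.centralizer_le_normalizer _ (fun z hz => ?_)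
      exact congrArg Subtype.val
        (IsMulCommutative.is_comm.comm (⟨z, (hX hz).1⟩ : ↥(K ⊔ W₂)) ⟨w, hw⟩)

theorem typePWith_of (hK : K ≠ ⊥) {V : Subgroup G} (hVn : Group.IsNilpotent V)
    (hVK : K ≤ Subgroup.normalizer (V : Set G))
    (hV : IsComplIn (fittingHallOf M) V ⁅M, M⁆) :
    IsTypePWith M K V (sigmaCore M ⊓ Subgroup.centralizer (K : Set G)) := by
  set W₂ := sigmaCore M ⊓ Subgroup.centralizer (K : Set G) with hW₂
  obtain ⟨hF1, hF2, hF3⟩ := S1356.result hG M hM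
  obtain ⟨-, -, hW₂H, hHnc⟩ := S1364.result hG M hM K U hKU hK
  refine ⟨hK, hKU.cyclic, ?_, compl_K hG hM hKU hK, hVn, hVK, hV, hHnc, ?_, ?_,
    hF3 ((kappa_nonempty_iff hG hM hKU).mpr hK), le_inf hW₂H (S1365.result hG M hM K U hKU hK).2,
    fun x hx hx1 => ?_, selfNormalizingCyclic hG hM hKU hK⟩
  · rw [relIndex_K hG hM hKU]
    exact (coprime_U_K hG hM hKU).symm.mul_right (coprime_K_sigmaCore hG hM hKU)
  · rw [sup_comm, ← hF2]; exact hF1
  · rw [sup_comm, ← hF2]
  · have h54 := (S1354.result hG M hM K hKU.cyclic hKU.hall).2 hK x hx hx1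
    refine le_antisymm ?_ (fun b hb => ?_)
    · rintro m ⟨hm, hmx⟩
      have h1 : m ∈ W₂ ⊔ K := by
        rw [sup_comm, ← h54]; exact ⟨Subgroup.commutator_le_self M hm, hmx⟩
      rw [← SetLike.mem_coe, Subgroup.coe_mul_of_right_le_normalizer_left W₂ K (fun a ha =>
        Subgroup.centralizer_le_normalizer _ fun b hb => (hb.2 a ha).symm)] at h1
      obtain ⟨b, hb, a, ha, rfl⟩ := Set.mem_mul.mp h1
      have ha' : a ∈ ⁅M, M⁆ := by
        have := ⁅M, M⁆.mul_mem (⁅M, M⁆.inv_mem (sigmaCore_le_derived hG hM hb.1)) hm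
        simpa using this
      have ha1 : a ∈ ⁅M, M⁆ ⊓ K := ⟨ha', ha⟩
      rw [(compl_K hG hM hKU hK).2.2.1, Subgroup.mem_bot] at ha1
      simpa [ha1] using hb
    · exact ⟨sigmaCore_le_derived hG hM hb.1,
        Subgroup.mem_centralizer_singleton_iff.mpr (hb.2 x hx).symm⟩

/-- If `M_F` is not a TI-set, the intersection in S1440 is nontrivial. -/
theorem exists_nonTI (h : ¬ IsTISubset (fittingHallOf M : Set G)) :
    ∃ g : G, g ∉ M ∧ fittingOf M ⊓ (fittingOf M).map (MulAut.conj g).toMonoidHom ≠ ⊥ := by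
  simp only [IsTISubset, not_forall] at h
  obtain ⟨g, hg, x, hx, hgx, hx1⟩ := h
  rw [normalizer_eq_of_normal hG hM (S1355.result hG M hM).1 (fittingHallOf_le M)
    (le_normalizer_fittingHallOf M)] at hg
  refine ⟨g, hg, fun hbot => hx1 ?_⟩
  have h1 : g * x * g⁻¹ ∈ fittingOf M ⊓ (fittingOf M).map (MulAut.conj g).toMonoidHom :=
    ⟨fittingHallOf_le_fittingOf M hgx, x, fittingHallOf_le_fittingOf M hx, rfl⟩
  rw [hbot, Subgroup.mem_bot] at h1
  simpa using h1

theorem fittingHallOf_eq_of_U (hU : U ≠ ⊥) : fittingHallOf M = sigmaCore M :=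
  by_contra fun hne => hU (S1357.result hG M hM K U hKU hne).1

theorem typeF_of (hK : K = ⊥) : IsOfTypeF M := by
  have hUne := U_ne_bot_of_K_bot hG hM hKU hK
  have hH := fittingHallOf_eq_of_U hG hM hKU hUne
  have hc : IsComplIn (fittingHallOf M) U M := hH ▸ compl_of_K_bot hG hM hKU hK
  obtain ⟨U₀, hU₀, hexp, hfpf⟩ := S1360.result hG M hM K U hKU
  have hhat : ∀ u ∈ U, ∀ x ∈ fittingHallOf M, x ≠ 1 → u * x = x * u → u ∈ sigmaHat M :=
    fun u hu x hx hx1 hux => ⟨U_le hKU hu, x, hH ▸ hx, hx1, hux⟩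
  set U₁ := Subgroup.closure ((U : Set G) ∩ sigmaHat M) with hU₁
  refine isOfTypeF_mk (U := U) (U₁ := U₁) (U₀ := U₀) (BGUnique.isSolvable_of_ne_top hG hM.1)
    (odd_card hG _) (S1355.result hG M hM).1 hUne hc ?_ ?_ (S1359.result hG M hM K U hKU)
    (fun x hx hx1 u hu => Subgroup.subset_closure
      ⟨hu.1, hhat u hu.1 x hx hx1 (Subgroup.mem_centralizer_singleton_iff.mp hu.2)⟩)
    hU₀ hexp (fun u hu hu1 x hx hux => by_contra fun hx1 =>
      hu1 (hfpf u hu (hhat u (hU₀ hu) x hx hx1 hux)))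
  · exact (Subgroup.closure_le _).mpr Set.inter_subset_left
  · refine CoprimeAction.le_normalizer_of_conj_mem fun u hu b hb => ?_
    have hmap : U₁.map (MulAut.conj u).toMonoidHom ≤ U₁ := by
      rw [hU₁, MonoidHom.map_closure]
      refine (Subgroup.closure_le _).mpr ?_
      rintro _ ⟨a, ⟨haU, haM, y, hy, hy1, hay⟩, rfl⟩
      refine Subgroup.subset_closure ⟨U.mul_mem (U.mul_mem hu haU) (U.inv_mem hu),
        M.mul_mem (M.mul_mem (U_le hKU hu) haM) (M.inv_mem (U_le hKU hu)), u * y * u⁻¹,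
        conj_mem_sigmaCore (U_le hKU hu) hy, ?_, ?_⟩
      · simpa using hy1
      · exact ((show Commute a y from hay).map (MulAut.conj u)).eq
    exact hmap ⟨b, hb, rfl⟩

/-- The alternatives in the definition of type I, without the cyclicity of `O_p'(M)`. -/
theorem typeI_cases (hK : K = ⊥) :
    IsTISubset (fittingHallOf M : Set G) ∨
    (IsMulCommutative (fittingHallOf M) ∧ RankLE 2 (fittingHallOf M) ∧
      ¬ RankLE 1 (fittingHallOf M)) ∨
    ((∀ p : ℕ, p.Prime → p ∣ Nat.card (fittingHallOf M) →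
        Monoid.exponent (M ⧸ fittingHall M) ∣ p - 1) ∧
      ∃ p : ℕ, p.Prime ∧ p ∣ Nat.card (fittingHallOf M) ∧
        ¬ IsMulCommutative (pCore p ↥(fittingHallOf M)) ∧
        IsCyclic (pPrimeCore p ↥(fittingHallOf M))) := by
  by_cases hTI : IsTISubset (fittingHallOf M : Set G)
  · exact Or.inl hTI
  obtain ⟨g, hg, hX⟩ := exists_nonTI hG hM hKU hTI
  obtain ⟨⟨hXH, -⟩, -, ⟨-, h1, h2, h3⟩ | ⟨p, hp, hXp, -, -, hna, hcyc, hexp⟩ |
    ⟨p, -, -, -, -, -, -, -, hKne, -⟩⟩ := BGNonTI.nonTI_structure hG M hM K U hKU g hg hX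
  · exact Or.inr (Or.inl ⟨h1, h2, h3⟩)
  · exact Or.inr (Or.inr ⟨fun q hq hd => hexp q hq hd, p, hp,
      hXp ▸ Subgroup.card_dvd_of_le hXH, hna, hcyc⟩)
  · exact absurd hK hKne

theorem fittingHallOf_derived (hK : K ≠ ⊥) : fittingHallOf ⁅M, M⁆ = fittingHallOf M := by
  have hH' : fittingHallOf M ≤ ⁅M, M⁆ := (fittingHallOf_le_fittingOf M).trans
    ((S1356.result hG M hM).2.2 ((kappa_nonempty_iff hG hM hKU).mpr hK))
  have hDM : ⁅M, M⁆ ≤ M := Subgroup.commutator_le_self M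
  refine le_antisymm ?_ ?_
  · -- a normal nilpotent Hall subgroup of `M`
    set F' := fittingHallOf ⁅M, M⁆ with hF'
    have hFD : F' ≤ ⁅M, M⁆ := fittingHallOf_le _
    have hn : M ≤ Subgroup.normalizer (F' : Set G) := by
      haveI := fittingHall_characteristic ↥⁅M, M⁆
      exact (le_normalizer_derived M).trans
        (ComponentsCores.normalizer_le_normalizer_map_subtype _ (fittingHall ↥⁅M, M⁆))
    have hle : F'.subgroupOf M ≤ fittingHall M := by
      refine le_fittingHall (Subgroup.normal_subgroupOf_of_le_normalizer hn) ?_ ?_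
      · haveI : Group.IsNilpotent F' :=
          ComponentsCores.nilpotent_of_le (fittingHallOf_le_fittingOf _) (fittingOf_isNilpotent _)
        exact Group.nilpotent_of_mulEquiv (Subgroup.subgroupOfEquivOfLe (hFD.trans hDM)).symm
      · rw [Nat.card_congr (Subgroup.subgroupOfEquivOfLe (hFD.trans hDM)).toEquiv]
        show (Nat.card F').Coprime (F'.relIndex M)
        rw [← Subgroup.relIndex_mul_relIndex _ _ _ hFD hDM,
          (relIndex_of_isComplIn (compl_K hG hM hKU hK)).1]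
        exact (fittingHallOf_coprime _).mul_right
          ((coprime_derived_K hG hM hKU hK).coprime_dvd_left (Subgroup.card_dvd_of_le hFD))
    intro x hx
    exact ⟨⟨x, hDM (hFD hx)⟩, hle hx, rfl⟩
  · have hle : (fittingHallOf M).subgroupOf ⁅M, M⁆ ≤ fittingHall ↥⁅M, M⁆ := by
      refine le_fittingHall (Subgroup.normal_subgroupOf_of_le_normalizer
        (hDM.trans (le_normalizer_fittingHallOf M))) ?_ ?_
      · haveI : Group.IsNilpotent (fittingHallOf M) :=
          ComponentsCores.nilpotent_of_le (fittingHallOf_le_fittingOf M) (fittingOf_isNilpotent M)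
        exact Group.nilpotent_of_mulEquiv (Subgroup.subgroupOfEquivOfLe hH').symm
      · rw [Nat.card_congr (Subgroup.subgroupOfEquivOfLe hH').toEquiv]
        refine (fittingHallOf_coprime M).coprime_dvd_right ?_
        exact ⟨_, (Subgroup.relIndex_mul_relIndex _ _ _ hH' hDM).symm⟩
    intro x hx
    exact ⟨⟨x, hH' hx⟩, hle hx, rfl⟩

theorem typeII_of (hK : K ≠ ⊥) (hU : U ≠ ⊥) : IsOfTypeII M := by
  have hH := fittingHallOf_eq_of_U hG hM hKU hU
  obtain ⟨hUc, hUN⟩ := S1363.result hG M hM K U hKU hK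
  obtain ⟨hKp, hTI, -⟩ := S1372.result hG M hM K U hKU hK hU
  have hc : IsComplIn (fittingHallOf M) U ⁅M, M⁆ := hH ▸ compl_derived hG hM hKU hK
  have hUn : Group.IsNilpotent U := by
    haveI := hUc
    letI : CommGroup U := { (inferInstance : Group U) with mul_comm := fun a b => hUc.is_comm.comm a b }
    infer_instance
  have hFH := fittingHallOf_derived hG hM hKU hK
  obtain ⟨U₀, hU₀, hexp, hfpf⟩ := S1360.result hG M hM K U hKU
  refine ⟨K, U, _, typePWith_of hG hM hKU hK hUn hKU.normal hc, hU, hKp, hTI, hUc, hUN,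
    isOfTypeF_mk (U := U) (U₁ := U) (U₀ := U₀) ?_ (odd_card hG _) ?_ hU ?_ le_rfl
      Subgroup.le_normalizer hUc (fun _ _ _ => inf_le_left) hU₀ hexp
      (fun u hu hu1 x hx hux => by_contra fun hx1 =>
        hu1 (hfpf u hu ⟨U_le hKU (hU₀ hu), x, hH ▸ hFH ▸ hx, hx1, hux⟩)), hFH⟩
  · exact BGUnique.isSolvable_of_ne_top hG (ne_top_of_le_ne_top hM.1 (Subgroup.commutator_le_self M))
  · rw [hFH]; exact (S1355.result hG M hM).1
  · rw [hFH]; exact hc

theorem derived_eq_sigmaCore (hK : K ≠ ⊥) (hU : U = ⊥) : ⁅M, M⁆ = sigmaCore M := by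
  rw [derived_eq hG hM hKU hK, hU, bot_sup_eq]

theorem exists_invariant_compl (hK : K ≠ ⊥) :
    ∃ V : Subgroup G, IsComplIn (fittingHallOf M) V ⁅M, M⁆ ∧ K ≤ Subgroup.normalizer (V : Set G) := by
  have hH' : fittingHallOf M ≤ ⁅M, M⁆ := (fittingHallOf_le_fittingOf M).trans
    ((S1356.result hG M hM).2.2 ((kappa_nonempty_iff hG hM hKU).mpr hK))
  haveI := fittingHall_normal M
  obtain ⟨B, hB⟩ := Subgroup.exists_right_complement'_of_coprime (fittingHall_coprime_index (G := M))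
  set B' := B.map M.subtype with hB'
  have hBM : B' ≤ M := Subgroup.map_subtype_le _
  have hcB : IsComplIn (fittingHallOf M) B' M := by
    refine ⟨fittingHallOf_le M, hBM, ?_, fun m hm => ?_⟩
    · rw [hB', fittingHallOf, ← Subgroup.map_inf _ _ _ M.subtype_injective, hB.disjoint.eq_bot,
        Subgroup.map_bot]
    · obtain ⟨⟨⟨a, ha⟩, ⟨b, hb⟩⟩, hab⟩ := hB.2 ⟨m, hm⟩
      exact ⟨a, ⟨a, ha, rfl⟩, b, ⟨b, hb, rfl⟩, (congrArg Subtype.val hab).symm⟩
  have hKn : K ≤ Subgroup.normalizer (fittingHallOf M : Set G) :=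
    (K_le hKU).trans (le_normalizer_fittingHallOf M)
  have hcopKH : (Nat.card K).Coprime (Nat.card (fittingHallOf M)) :=
    (coprime_derived_K hG hM hKU hK).symm.coprime_dvd_right (Subgroup.card_dvd_of_le hH')
  set A := B' ⊓ (fittingHallOf M ⊔ K) with hA
  have hcA : IsComplIn (fittingHallOf M) A (fittingHallOf M ⊔ K) := by
    refine ⟨le_sup_left, inf_le_right, ?_, fun m hm => ?_⟩
    · rw [← le_bot_iff, ← hcB.2.2.1]
      exact inf_le_inf le_rfl inf_le_left
    · obtain ⟨a, ha, b, hb, hab⟩ := hcB.2.2.2 m (sup_le (fittingHallOf_le M) (K_le hKU) hm)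
      refine ⟨a, ha, b, ⟨hb, ?_⟩, hab⟩
      rw [show b = a⁻¹ * m by rw [hab]; group]
      exact Subgroup.mul_mem _ (Subgroup.mem_sup_left (Subgroup.inv_mem _ ha)) hm
  have hcK : IsComplIn (fittingHallOf M) K (fittingHallOf M ⊔ K) := by
    refine ⟨le_sup_left, le_sup_right, Subgroup.inf_eq_bot_of_coprime hcopKH.symm, fun m hm => ?_⟩
    rw [← SetLike.mem_coe, Subgroup.coe_mul_of_right_le_normalizer_left _ _ hKn] at hm
    obtain ⟨a, ha, b, hb, hab⟩ := Set.mem_mul.mp hm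
    exact ⟨a, ha, b, hb, hab.symm⟩
  have hcard : Nat.card A = Nat.card K :=
    (relIndex_of_isComplIn hcA).1.symm.trans (relIndex_of_isComplIn hcK).1
  obtain ⟨n, hn, hnA⟩ := isComplIn_conjugate (sup_le Subgroup.le_normalizer hKn)
    (hcard ▸ hcopKH.symm) (Or.inl (BGUnique.isSolvable_of_ne_top hG
      (ne_top_of_le_ne_top hM.1 (inf_le_left.trans hBM)))) hcA hcK
  have hnM : n ∈ M := fittingHallOf_le M hn
  set B₁ := MulAut.conj n • B' with hB₁
  have hKB : K ≤ B₁ := hnA ▸ Subgroup.pointwise_smul_le_pointwise_smul_iff.2 inf_le_left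
  have hcB₁ : IsComplIn (fittingHallOf M) B₁ M := by
    have h := isComplIn_conj hcB n
    rwa [conj_smul_le_self hnM,
      BGSigma.conj_le_normalizer (le_normalizer_fittingHallOf M hnM)] at h
  refine ⟨B₁ ⊓ ⁅M, M⁆, ⟨hH', inf_le_right, ?_, fun m hm => ?_⟩, ?_⟩
  · rw [← le_bot_iff, ← hcB₁.2.2.1]
    exact inf_le_inf le_rfl inf_le_left
  · obtain ⟨a, ha, b, hb, hab⟩ := hcB₁.2.2.2 m (Subgroup.commutator_le_self M hm)
    refine ⟨a, ha, b, ⟨hb, ?_⟩, hab⟩
    rw [show b = a⁻¹ * m by rw [hab]; group]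
    exact Subgroup.mul_mem _ (Subgroup.inv_mem _ (hH' ha)) hm
  · exact CoprimeAction.le_normalizer_inf (hKB.trans Subgroup.le_normalizer)
      ((K_le hKU).trans (le_normalizer_derived M))

omit hKU in
theorem compl_isNilpotent {V : Subgroup G} (hV : IsComplIn (fittingHallOf M) V ⁅M, M⁆) :
    Group.IsNilpotent V := by
  have hVM : V ≤ M := hV.2.1.trans (Subgroup.commutator_le_self M)
  haveI := (S1355.result hG M hM).2.2.2.2
  let f : V →* ↥((commutator M).map (QuotientGroup.mk' (fittingHall M))) :=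
    ((QuotientGroup.mk' (fittingHall M)).comp (Subgroup.inclusion hVM)).codRestrict _ fun v => by
      have hv := hV.2.1 v.2
      rw [← Subgroup.map_subtype_commutator] at hv
      obtain ⟨z, hz, hzv⟩ := hv
      exact ⟨z, hz, by
        show _ = QuotientGroup.mk' _ (Subgroup.inclusion hVM v)
        exact congrArg _ (Subtype.ext hzv)⟩
  have hf : Function.Injective f := by
    rw [injective_iff_map_eq_one]
    rintro ⟨v, hv⟩ hv1
    have h1 : (⟨v, hVM hv⟩ : M) ∈ fittingHall M :=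
      (QuotientGroup.eq_one_iff _).mp (congrArg Subtype.val hv1)
    have h2 : v ∈ fittingHallOf M ⊓ V := ⟨⟨_, h1, rfl⟩, hv⟩
    rw [hV.2.2.1, Subgroup.mem_bot] at h2
    exact Subtype.ext h2
  exact Group.nilpotent_of_mulEquiv (MonoidHom.ofInjective hf).symm

theorem exists_typePWith (hK : K ≠ ⊥) :
    ∃ V : Subgroup G, IsTypePWith M K V (sigmaCore M ⊓ Subgroup.centralizer (K : Set G)) := by
  obtain ⟨V, hV, hVK⟩ := exists_invariant_compl hG hM hKU hK
  exact ⟨V, typePWith_of hG hM hKU hK (compl_isNilpotent hG hM hV) hVK hV⟩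

theorem typeIII_or_IV_of (hK : K ≠ ⊥) (hU : U = ⊥) (hne : fittingHallOf M ≠ sigmaCore M) :
    IsOfTypeIII M ∨ IsOfTypeIV M := by
  have hD := derived_eq_sigmaCore hG hM hKU hK hU
  obtain ⟨V, hV, hVK⟩ := exists_invariant_compl hG hM hKU hK
  obtain ⟨-, hTI, hKp⟩ := S1357.result hG M hM K U hKU hne
  have hVne : V ≠ ⊥ := fun h => hne (by rw [← hD, ← sup_eq_of_isComplIn hV, h, sup_bot_eq])
  have hVM : V ≤ M := hV.2.1.trans (Subgroup.commutator_le_self M)
  have hVn := compl_isNilpotent hG hM hV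
  have hN : Subgroup.normalizer (V : Set G) ≤ M := by
    obtain ⟨q, hq, hqV⟩ := Nat.exists_prime_and_dvd (fun h => hVne (V.eq_bot_of_card_eq h))
    haveI := Fact.mk hq
    let S : Sylow q V := default
    haveI : (S : Subgroup V).Characteristic := S.characteristic_of_normal inferInstance
    set T := (S : Subgroup V).map V.subtype with hT
    have hVσ : V ≤ sigmaCore M := hD ▸ hV.2.1
    have hqσ : q ∈ sigma M := mem_sigma_of_dvd hG hM hq (hqV.trans (Subgroup.card_dvd_of_le hVσ))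
    have hTV : T ≤ V := Subgroup.map_subtype_le _
    have hidx : ¬ q ∣ T.relIndex M := by
      rw [← Subgroup.relIndex_mul_relIndex _ _ _ hTV hVM, ← Subgroup.relIndex_mul_relIndex _ _ _ hV.2.1
        (Subgroup.commutator_le_self M), (relIndex_of_isComplIn hV).2,
        (relIndex_of_isComplIn (compl_K hG hM hKU hK)).1, Subgroup.relIndex, hT,
        show ((S : Subgroup V).map V.subtype).subgroupOf V = S from
          Subgroup.comap_map_eq_self_of_injective V.subtype_injective _]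
      intro hd
      rcases hq.dvd_mul.mp hd with h | h
      · exact S.not_dvd_index h
      rcases hq.dvd_mul.mp h with h' | h'
      · refine hq.not_dvd_one ?_
        have hc : (Nat.card V).Coprime (Nat.card (fittingHallOf M)) := by
          rw [← (relIndex_of_isComplIn hV).1]
          refine (Nat.Coprime.coprime_dvd_right ?_ (fittingHallOf_coprime M)).symm
          exact ⟨_, (Subgroup.relIndex_mul_relIndex _ _ _ hV.1 (Subgroup.commutator_le_self M)).symm⟩
        exact hc.gcd_eq_one ▸ Nat.dvd_gcd hqV h'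
      · exact hq.not_dvd_one ((coprime_K_sigmaCore hG hM hKU).gcd_eq_one ▸
          Nat.dvd_gcd h' (hqV.trans (Subgroup.card_dvd_of_le hVσ)))
    have hTmax : BGUnique.IsMaxP q T M := by
      refine ⟨hTV.trans hVM, S.isPGroup'.map _, fun Q hTQ hQM hQ => ?_⟩
      refine (le_antisymm hTQ ?_).symm
      have h1 : T.relIndex Q = 1 := by
        obtain ⟨k, hk⟩ := hQ.exists_card_eq
        have hd1 : T.relIndex Q ∣ q ^ k := hk ▸ ⟨Nat.card T, by
          rw [← HallCore.card_mul_relIndex hTQ]; ring⟩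
        have hd2 : T.relIndex Q ∣ T.relIndex M :=
          ⟨_, (Subgroup.relIndex_mul_relIndex _ _ _ hTQ hQM).symm⟩
        exact Nat.eq_one_of_dvd_coprimes ((hq.coprime_iff_not_dvd.mpr hidx).pow_left k) hd1 hd2
      exact Subgroup.relIndex_eq_one.mp h1
    refine le_trans ?_ (BGSigma.normalizer_le_of_sigma hqσ hTmax)
    exact ComponentsCores.normalizer_le_normalizer_map_subtype V (S : Subgroup V)
  have hP := typePWith_of hG hM hKU hK hVn hVK hV
  by_cases hc : IsMulCommutative V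
  · exact Or.inl ⟨K, V, _, hP, hVne, hKp, hTI, hc, hN⟩
  · exact Or.inr ⟨K, V, _, hP, hVne, hKp, hTI, hc, hN⟩

theorem typeV_of (hK : K ≠ ⊥) (hU : U = ⊥) (heq : fittingHallOf M = sigmaCore M) : IsOfTypeV M := by
  have hD : ⁅M, M⁆ = fittingHallOf M := (derived_eq_sigmaCore hG hM hKU hK hU).trans heq.symm
  have hV : IsComplIn (fittingHallOf M) ⊥ ⁅M, M⁆ :=
    ⟨hD.ge, bot_le, inf_bot_eq _, fun m hm => ⟨m, hD ▸ hm, 1, Subgroup.one_mem _, (mul_one m).symm⟩⟩
  have hP := typePWith_of hG hM hKU hK (V := ⊥) Group.isNilpotent_of_subsingleton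
    (by rw [Subgroup.normalizer_eq_top_iff.mpr Subgroup.normal_bot]; exact le_top) hV
  refine ⟨K, ⊥, _, hP, rfl, ?_⟩
  by_cases hTI : IsTISubset (fittingHallOf M : Set G)
  · exact Or.inl hTI
  obtain ⟨g, hg, hX⟩ := exists_nonTI hG hM hKU hTI
  have hKrel : (fittingHallOf M).relIndex M = Nat.card K := by
    rw [← hD]; exact (relIndex_of_isComplIn (compl_K hG hM hKU hK)).1
  obtain ⟨⟨hXH, -⟩, -, ⟨hK0, -⟩ | ⟨p, hp, hXp, -, -, -, hcyc, hexp⟩ |
    ⟨p, hp, hXp, -, -, hcyc, hcard, -, -, -, hdvd⟩⟩ := BGNonTI.nonTI_structure hG M hM K U hKU g hg hX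
  · exact absurd hK0 hK
  · have hpH : p ∣ Nat.card (fittingHallOf M) := hXp ▸ Subgroup.card_dvd_of_le hXH
    refine Or.inr (Or.inl ⟨p, hp, hpH, ?_, hcyc⟩)
    refine dvd_trans ?_ (hexp p hp hpH)
    haveI := hKU.cyclic
    obtain ⟨⟨k, hk⟩, hord⟩ := IsCyclic.exists_ofOrder_eq_natCard (α := K)
    rw [Subgroup.orderOf_mk] at hord
    refine dvd_trans ?_ (Monoid.order_dvd_exponent (QuotientGroup.mk' (fittingHall M)
      ⟨k, K_le hKU hk⟩))
    rw [← hord]
    refine orderOf_dvd_of_pow_eq_one ?_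
    have h1 : (⟨k, K_le hKU hk⟩ : M) ^ orderOf (QuotientGroup.mk' (fittingHall M) ⟨k, K_le hKU hk⟩) ∈
        fittingHall M := by
      rw [← QuotientGroup.eq_one_iff, ← QuotientGroup.mk'_apply, map_pow, pow_orderOf_eq_one]
    have h2 : k ^ orderOf (QuotientGroup.mk' (fittingHall M) ⟨k, K_le hKU hk⟩) ∈ ⁅M, M⁆ ⊓ K :=
      ⟨hD.ge ⟨_, h1, by simp⟩, K.pow_mem hk _⟩
    rw [(compl_K hG hM hKU hK).2.2.1, Subgroup.mem_bot] at h2
    exact h2
  · have hpH : p ∣ Nat.card (fittingHallOf M) := hXp ▸ Subgroup.card_dvd_of_le hXH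
    exact Or.inr (Or.inr ⟨p, hp, hpH, hcard, hKrel ▸ hdvd, hcyc⟩)

/-! ### The classification -/

theorem eq_bot_of_typeI (h : IsOfTypeI M) : K = ⊥ ∧ U ≠ ⊥ := by
  by_contra hcon
  by_cases hK : K = ⊥
  · exact hcon ⟨hK, U_ne_bot_of_K_bot hG hM hKU hK⟩
  refine not_typeI_of_isOfTypeP ?_ h
  by_cases hU : U = ⊥
  · by_cases hH : fittingHallOf M = sigmaCore M
    · exact isOfTypeP_of_typeV (typeV_of hG hM hKU hK hU hH)
    · exact (typeIII_or_IV_of hG hM hKU hK hU hH).elim isOfTypeP_of_typeIII isOfTypeP_of_typeIV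
  · exact isOfTypeP_of_typeII (typeII_of hG hM hKU hK hU)

theorem K_ne_of_typeP (h : IsOfTypeP M) : K ≠ ⊥ := fun hK => by
  obtain ⟨W₁, V, W₂, hP⟩ := h
  exact not_isOfTypeF_of_typeP hP (typeF_of hG hM hKU hK)
theorem typeII_iff : IsOfTypeII M ↔ K ≠ ⊥ ∧ U ≠ ⊥ := by
  refine ⟨fun h => ?_, fun h => typeII_of hG hM hKU h.1 h.2⟩
  have hK := K_ne_of_typeP hG hM hKU (isOfTypeP_of_typeII h)
  refine ⟨hK, fun hU => ?_⟩
  by_cases hH : fittingHallOf M = sigmaCore M
  · exact not_typeII_of_typeV (typeV_of hG hM hKU hK hU hH) h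
  · exact not_typeIII_or_IV_of_typeII h (typeIII_or_IV_of hG hM hKU hK hU hH)

theorem typeIII_or_IV_iff : (IsOfTypeIII M ∨ IsOfTypeIV M) ↔
    (K ≠ ⊥ ∧ U = ⊥ ∧ fittingHallOf M ≠ sigmaCore M) := by
  refine ⟨fun h => ?_, fun h => typeIII_or_IV_of hG hM hKU h.1 h.2.1 h.2.2⟩
  have hK := K_ne_of_typeP hG hM hKU (h.elim isOfTypeP_of_typeIII isOfTypeP_of_typeIV)
  have hU : U = ⊥ := by_contra fun hU =>
    not_typeIII_or_IV_of_typeII (typeII_of hG hM hKU hK hU) h
  exact ⟨hK, hU, fun hH => not_typeIII_or_IV_of_typeV (typeV_of hG hM hKU hK hU hH) h⟩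

theorem typeV_iff : IsOfTypeV M ↔ (K ≠ ⊥ ∧ U = ⊥ ∧ fittingHallOf M = sigmaCore M) := by
  refine ⟨fun h => ?_, fun h => typeV_of hG hM hKU h.1 h.2.1 h.2.2⟩
  have hK := K_ne_of_typeP hG hM hKU (isOfTypeP_of_typeV h)
  have hU : U = ⊥ := by_contra fun hU => not_typeII_of_typeV h (typeII_of hG hM hKU hK hU)
  exact ⟨hK, hU, by_contra fun hH =>
    not_typeIII_or_IV_of_typeV h (typeIII_or_IV_of hG hM hKU hK hU hH)⟩

omit hKU in
theorem typeCore_eq_sigmaCore : typeCore M = sigmaCore M := by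
  obtain ⟨K, U, hKU⟩ := exists_decomp hG hM
  by_cases h : IsOfTypeIII M ∨ IsOfTypeIV M
  · obtain ⟨hK, hU, -⟩ := (typeIII_or_IV_iff hG hM hKU).mp h
    rw [typeCore_of_typeIII_or_IV h, derived_eq_sigmaCore hG hM hKU hK hU]
  · rw [typeCore_of_not h]
    by_contra hne
    obtain ⟨hU, -, -⟩ := S1357.result hG M hM K U hKU hne
    by_cases hK : K = ⊥
    · exact U_ne_bot_of_K_bot hG hM hKU hK hU
    · exact h (typeIII_or_IV_of hG hM hKU hK hU hne)

end Cfsg.Agent.BGTypeForward
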