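import Cfsg.Agent.Lib.BGTypeFrobenius
import Cfsg.Agent.S1358
import Cfsg.Agent.S1361
import Cfsg.Agent.S1362
import Cfsg.Agent.S1371

/-!
The sets `A₁(M)`, `A(M)`, `A₀(M)` of a maximal subgroup in terms of its standard factorisation
(Bender-Glauberman, section 16).
-/

set_option autoImplicit false
set_option linter.style.haveILetI false

namespace Cfsg.Agent.BGTypeSets

open Cfsg
open BGTypeBasic FittingHallBasic BGTypeSetup BGTypeForward
open scoped Pointwise commutatorElement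

variable {G : Type*} [Group G] [Finite G]

theorem sigma_conj_le (M : Subgroup G) (g : G) : sigma M ⊆ sigma (MulAut.conj g • M) := by
  intro q hq
  obtain ⟨hqp, hqd, -⟩ := id hq
  haveI := Fact.mk hqp
  have hP := BGUnique.isMaxP_sylow M (default : Sylow q M)
  obtain ⟨T, hT⟩ := (BGSigma.isMaxP_conj g hP).exists_sylow
  refine ⟨hqp, hqd.trans (Nat.card_congr (Subgroup.equivSMul _ M).toEquiv).dvd, T, ?_⟩
  rw [hT, conj_smul_normalizer]
  exact Subgroup.pointwise_smul_le_pointwise_smul_iff.2 (BGSigma.normalizer_le_of_sigma hq hP)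

variable {M K U : Subgroup G} (hG : IsMinSimpleOddOrder G) (hM : IsCoatom M)
include hG hM

/-- A complement `U` as in the definitions of types I and II belongs to a standard factorisation. -/
theorem exists_decomp_of_complement
    (hU : (IsOfTypeI M ∧ IsComplIn (fittingHallOf M) U M) ∨
      (IsOfTypeII M ∧ IsComplIn (fittingHallOf M) U ⁅M, M⁆)) :
    ∃ K : Subgroup G, IsSigmaDecomposition M K U ∧ fittingHallOf M = sigmaCore M ∧
      ((K = ⊥ ∧ IsComplIn (fittingHallOf M) U M) ∨ (K ≠ ⊥ ∧ IsComplIn (fittingHallOf M) U ⁅M, M⁆)) := by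
  obtain ⟨K₀, U₀, h₀⟩ := exists_decomp hG hM
  have hU₀M : U₀ ≤ M := U_le h₀
  have hcop : (Nat.card (sigmaCore M)).Coprime (Nat.card U₀) := (coprime_U_sigmaCore hG hM h₀).symm
  have hsolv : Group.IsSolvable U₀ :=
    BGUnique.isSolvable_of_ne_top hG (ne_top_of_le_ne_top hM.1 hU₀M)
  have hσn : ∀ {D : Subgroup G}, D ≤ M → D ≤ Subgroup.normalizer (sigmaCore M : Set G) :=
    fun h => h.trans (le_normalizer_sigmaCore M)
  rcases hU with ⟨hI, hc⟩ | ⟨hII, hc⟩
  · obtain ⟨hK, hU₀⟩ := (typeI_iff hG hM h₀).mp hI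
    have hH := fittingHallOf_eq_of_U hG hM h₀ hU₀
    obtain ⟨a, ha, haU⟩ := isComplIn_conjugate (hσn le_rfl) hcop (Or.inl hsolv)
      (compl_of_K_bot hG hM h₀ hK) (hH ▸ hc : IsComplIn (sigmaCore M) U M)
    refine ⟨MulAut.conj a • K₀, haU ▸ decomp_conj h₀ (sigmaCore_le M ha), hH, Or.inl ⟨?_, hc⟩⟩
    rw [hK]; simp
  · obtain ⟨hK, hU₀⟩ := (typeII_iff hG hM h₀).mp hII
    have hH := fittingHallOf_eq_of_U hG hM h₀ hU₀
    obtain ⟨a, ha, haU⟩ := isComplIn_conjugate (hσn (Subgroup.commutator_le_self M)) hcop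
      (Or.inl hsolv) (compl_derived hG hM h₀ hK) (hH ▸ hc : IsComplIn (sigmaCore M) U ⁅M, M⁆)
    refine ⟨MulAut.conj a • K₀, haU ▸ decomp_conj h₀ (sigmaCore_le M ha), hH, Or.inr ⟨?_, hc⟩⟩
    intro h
    exact hK (by simpa using congrArg (fun D : Subgroup G => (MulAut.conj a)⁻¹ • D) h)

theorem typeA1_eq : typeA1 M = (sigmaCore M : Set G) \ {1} := by
  rw [typeA1, typeCore_eq_sigmaCore hG hM]

variable (hKU : IsSigmaDecomposition M K U)
include hKU

theorem sup_eq_of_K_bot (hK : K = ⊥) : U ⊔ sigmaCore M = M := by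
  rw [sup_comm]; exact sup_eq_of_isComplIn (compl_of_K_bot hG hM hKU hK)

theorem typeA_eq : typeA M = sigmaA M U \ {1} := by
  ext a
  by_cases hI : IsOfTypeI M
  · obtain ⟨hK, hU⟩ := (typeI_iff hG hM hKU).mp hI
    rw [typeA, if_pos hI, fittingHallOf_eq_of_U hG hM hKU hU]
    simp only [sigmaA, sigmaHat, Set.mem_setOf_eq, Set.mem_inter_iff, Set.mem_sdiff,
      Set.mem_singleton_iff, SetLike.mem_coe, sup_eq_of_K_bot hG hM hKU hK]
    constructor
    · rintro ⟨ha, ha1, x, hx, hx1, hax⟩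
      exact ⟨⟨⟨ha, x, hx, hx1, hax⟩, ha⟩, ha1⟩
    · rintro ⟨⟨⟨ha, x, hx, hx1, hax⟩, -⟩, ha1⟩
      exact ⟨ha, ha1, x, hx, hx1, hax⟩
  · have hK : K ≠ ⊥ := fun h => hI (typeI_of hG hM hKU h)
    rw [typeA, if_neg hI, typeCore_eq_sigmaCore hG hM, derived_eq hG hM hKU hK]
    simp only [sigmaA, sigmaHat, Set.mem_setOf_eq, Set.mem_inter_iff, Set.mem_sdiff,
      Set.mem_singleton_iff, SetLike.mem_coe]
    constructor
    · rintro ⟨ha, ha1, x, hx, hx1, hax⟩
      exact ⟨⟨⟨sup_le (U_le hKU) (sigmaCore_le M) ha, x, hx, hx1, hax⟩, ha⟩, ha1⟩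
    · rintro ⟨⟨⟨-, x, hx, hx1, hax⟩, ha⟩, ha1⟩
      exact ⟨ha, ha1, x, hx, hx1, hax⟩

theorem typeA_diff_typeA1 : typeA M \ typeA1 M = sigmaA M U \ (sigmaCore M : Set G) := by
  rw [typeA_eq hG hM hKU, typeA1_eq hG hM]
  ext a
  simp only [Set.mem_sdiff, Set.mem_singleton_iff, SetLike.mem_coe]
  constructor
  · rintro ⟨⟨ha, ha1⟩, h⟩
    exact ⟨ha, fun hσ => h ⟨hσ, ha1⟩⟩
  · rintro ⟨ha, h⟩
    exact ⟨⟨ha, fun h1 => h (h1 ▸ one_mem _)⟩, fun h2 => h h2.1⟩

/-- An element of `U M_σ` has no prime of `κ(M)` in its order. -/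
theorem not_kappa_of_mem_sup {a : G} (ha : a ∈ U ⊔ sigmaCore M) {q : ℕ} (hq : q.Prime)
    (hd : q ∣ orderOf a) : q ∉ kappa M := by
  have hcard : Nat.card ↥(sigmaCore M ⊔ U) ∣ Nat.card (sigmaCore M) * Nat.card U := by
    refine (card_mul_of_isComplIn (A := sigmaCore M) (B := U) ⟨le_sup_left, le_sup_right, ?_, ?_⟩).symm.dvd
    · exact Subgroup.inf_eq_bot_of_coprime (coprime_U_sigmaCore hG hM hKU).symm
    · intro m hm
      rw [← SetLike.mem_coe, Subgroup.coe_mul_of_right_le_normalizer_left _ _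
        ((U_le hKU).trans (le_normalizer_sigmaCore M))] at hm
      obtain ⟨u, hu, v, hv, huv⟩ := Set.mem_mul.mp hm
      exact ⟨u, hu, v, hv, huv.symm⟩
  have h1 : q ∣ Nat.card (sigmaCore M) * Nat.card U :=
    (hd.trans (Subgroup.orderOf_dvd_natCard _ (by rwa [sup_comm] at ha))).trans hcard
  rcases hq.dvd_mul.mp h1 with h | h
  · exact fun hk => not_mem_sigma_of_kappa hk (mem_sigma_of_dvd hG hM hq h)
  · exact (U_primes hG hM hKU hq h).2

/-- The key centralizer bound on `A(M) \ A₁(M)`. -/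
theorem centralizer_le_of_mem_sigmaA {a : G} (ha : a ∈ sigmaA M U) (haσ : a ∉ sigmaCore M) :
    Subgroup.centralizer ({a} : Set G) ≤ M := by
  obtain ⟨⟨haM, y, hy, hy1, hay⟩, haS⟩ := ha
  obtain ⟨q, hq, hqd, hqσ⟩ : ∃ q : ℕ, q.Prime ∧ q ∣ orderOf a ∧ q ∉ sigma M := by
    by_contra hcon
    simp only [not_exists, not_and, not_not] at hcon
    exact haσ (sigma_element_mem hG hM haM hcon)
  haveI := Fact.mk hq
  set b := a ^ (orderOf a / q) with hb
  have hbord : orderOf b = q := orderOf_pow_orderOf_div (orderOf_pos a).ne' hqd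
  have hbM : b ∈ M := M.pow_mem haM _
  have hnd : ¬ q ∣ U.relIndex M := by
    intro hd
    rw [(relIndex_of_isComplIn hKU.compl).1, sup_comm, card_K_sup_sigmaCore hG hM hKU] at hd
    rcases hq.dvd_mul.mp hd with h | h
    · exact hqσ (mem_sigma_of_dvd hG hM hq h)
    · exact not_kappa_of_mem_sup hG hM hKU haS hq hqd (hKU.hall.2.1 q hq h)
  obtain ⟨m, hm, hmU⟩ := exists_conj_mem_of_not_dvd_relIndex hnd hbM
    (IsPGroup.of_card (n := 1) (by rw [Nat.card_zpowers, hbord, pow_one]))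
  set c := m⁻¹ * b * m with hc
  have hXne : Subgroup.zpowers c ≠ ⊥ := by
    rw [Ne, Subgroup.zpowers_eq_bot]
    intro h
    have : b = 1 := by
      have := congrArg (fun t => m * t * m⁻¹) h
      simpa [hc, mul_assoc] using this
    rw [this, orderOf_one] at hbord
    exact hq.ne_one hbord.symm
  have hXc : sigmaCore M ⊓ Subgroup.centralizer (Subgroup.zpowers c : Set G) ≠ ⊥ := by
    intro hbot
    have hy' : m⁻¹ * y * m ∈ sigmaCore M := by
      simpa using conj_mem_sigmaCore (M.inv_mem hm) hy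
    have hmem : m⁻¹ * y * m ∈ sigmaCore M ⊓ Subgroup.centralizer (Subgroup.zpowers c : Set G) := by
      refine ⟨hy', fun z hz => ?_⟩
      obtain ⟨i, rfl⟩ := hz
      have h1 : Commute b y := (show Commute a y from hay).pow_left _
      have h2 := (h1.map (MulAut.conj m⁻¹)).zpow_left i
      simpa [hc, MulAut.conj_apply] using h2.eq
    rw [hbot, Subgroup.mem_bot] at hmem
    apply hy1
    have := congrArg (fun t => m * t * m⁻¹) hmem
    simpa [mul_assoc] using this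
  have hle := (S1361.result hG M hM K U hKU (Subgroup.zpowers c) (Subgroup.zpowers_le.mpr hmU) hXne hXc).1
  intro z hz
  have hzb : Commute z b := ((show Commute z a from
    Subgroup.mem_centralizer_singleton_iff.mp hz)).pow_right _
  have h1 : m⁻¹ * z * m ∈ Subgroup.centralizer (Subgroup.zpowers c : Set G) := by
    rintro _ ⟨i, rfl⟩
    have h2 := ((hzb.symm.map (MulAut.conj m⁻¹)).zpow_left i)
    simpa [hc, MulAut.conj_apply] using h2.eq
  have h2 := M.mul_mem (M.mul_mem hm (hle h1)) (M.inv_mem hm)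
  simpa [mul_assoc] using h2

omit hKU in
/-- The set `A₀(M) \ A(M)`. -/
theorem typeA0_eq_of_K_ne {K U : Subgroup G} (hKU : IsSigmaDecomposition M K U) (hK : K ≠ ⊥) :
    typeA0 M = typeA M ∪ {v | ∃ m ∈ M,
      ∃ z ∈ ((↑(K ⊔ (sigmaCore M ⊓ Subgroup.centralizer (K : Set G))) : Set G) \
        ((K : Set G) ∪ ↑(sigmaCore M ⊓ Subgroup.centralizer (K : Set G)))), v = m * z * m⁻¹} := by
  set W₂ := sigmaCore M ⊓ Subgroup.centralizer (K : Set G) with hW₂
  obtain ⟨V, hV⟩ := exists_typePWith hG hM hKU hK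
  unfold typeA0
  congr 1
  ext v
  constructor
  · rintro ⟨-, W₁', U', W₂', h', m, hm, w, hw, hw1, hw2, rfl⟩
    obtain ⟨n, hn, hnW, hnW₂⟩ := typeP_W_conj hV h'
    refine ⟨m * n, M.mul_mem hm hn, n⁻¹ * w * n, ⟨?_, ?_⟩, by group⟩
    · rw [← hnW, ← hnW₂, ← Subgroup.smul_sup, mem_conj_smul] at hw
      exact hw
    · rintro (h | h)
      · refine hw1 ?_
        rw [← hnW, mem_conj_smul]
        exact h
      · refine hw2 ?_
        rw [← hnW₂, mem_conj_smul]
        exact h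
  · rintro ⟨m, hm, z, ⟨hz, hzn⟩, rfl⟩
    exact ⟨fun hI => hK ((typeI_iff hG hM hKU).mp hI).1, K, V, W₂, hV, m, hm, z, hz,
      fun h => hzn (Or.inl h), fun h => hzn (Or.inr h), rfl⟩

theorem typeA0_eq_of_K_bot (hK : K = ⊥) : typeA0 M = typeA M := by
  unfold typeA0
  refine Set.union_eq_left.mpr ?_
  rintro v ⟨hI, -⟩
  exact absurd (typeI_of hG hM hKU hK) hI

/-- Elements of `A₀(M) \ A(M)`: centralizer and order. -/
theorem of_mem_conjZ (hK : K ≠ ⊥) {m z : G} (hm : m ∈ M)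
    (hz : z ∈ ((↑(K ⊔ (sigmaCore M ⊓ Subgroup.centralizer (K : Set G))) : Set G) \
        ((K : Set G) ∪ ↑(sigmaCore M ⊓ Subgroup.centralizer (K : Set G))))) :
    Subgroup.centralizer ({m * z * m⁻¹} : Set G) ≤ M ∧
      ∃ q : ℕ, q.Prime ∧ q ∈ kappa M ∧ q ∣ orderOf (m * z * m⁻¹) := by
  set W₂ := sigmaCore M ⊓ Subgroup.centralizer (K : Set G) with hW₂
  have hZM : K ⊔ W₂ ≤ M := sup_le (K_le hKU) (inf_le_left.trans (sigmaCore_le M))
  constructor
  · have hN := (selfNormalizingCyclic hG hM hKU hK).2.2.2.2.2 {z} (Set.singleton_subset_iff.mpr hz)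
      (Set.singleton_nonempty z)
    intro c hc
    have h1 : m⁻¹ * c * m ∈ Subgroup.centralizer ({z} : Set G) := by
      rw [Subgroup.mem_centralizer_singleton_iff]
      have h2 := ((show Commute c (m * z * m⁻¹) from
        Subgroup.mem_centralizer_singleton_iff.mp hc)).map (MulAut.conj m⁻¹)
      simpa [MulAut.conj_apply, mul_assoc] using h2.eq
    have h3 := M.mul_mem (M.mul_mem hm (hZM (hN ▸ Subgroup.centralizer_le_normalizer _ h1)))
      (M.inv_mem hm)
    simpa [mul_assoc] using h3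
  · obtain ⟨hzZ, hzn⟩ := hz
    have hKn : K ≤ Subgroup.normalizer (W₂ : Set G) := fun k hk =>
      Subgroup.centralizer_le_normalizer _ fun w hw => (hw.2 k hk).symm
    rw [SetLike.mem_coe, sup_comm, ← SetLike.mem_coe,
      Subgroup.coe_mul_of_right_le_normalizer_left W₂ K hKn] at hzZ
    obtain ⟨w, hw, k, hk, rfl⟩ := Set.mem_mul.mp hzZ
    have hk1 : k ≠ 1 := fun h => hzn (Or.inr (by simpa [h] using hw))
    obtain ⟨q, hq, hqd⟩ := Nat.exists_prime_and_dvd (fun h => hk1 (orderOf_eq_one_iff.mp h))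
    refine ⟨q, hq, hKU.hall.2.1 q hq (hqd.trans (Subgroup.orderOf_dvd_natCard _ hk)), ?_⟩
    have hcomm : Commute w k := (hw.2 k hk).symm
    have hcop : (orderOf w).Coprime (orderOf k) :=
      ((coprime_K_sigmaCore hG hM hKU).symm.coprime_dvd_left
        (Subgroup.orderOf_dvd_natCard _ hw.1)).coprime_dvd_right (Subgroup.orderOf_dvd_natCard _ hk)
    have hord : orderOf (m * (w * k) * m⁻¹) = orderOf (w * k) :=
      orderOf_injective (MulAut.conj m).toMonoidHom (MulAut.conj m).injective _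
    rw [hord, hcomm.orderOf_mul_eq_mul_orderOf_of_coprime hcop]
    exact dvd_mul_of_dvd_right hqd _

end Cfsg.Agent.BGTypeSets
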