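import Cfsg.Agent.Lib.BGSupportFrob35
import Cfsg.Agent.Lib.FrobeniusNilpotent
import Cfsg.Agent.Lib.FrobeniusBasic
import Cfsg.Agent.S1414

/-!
# BG 14.7: `M` is a Frobenius group with cyclic complement
-/

set_option autoImplicit false

namespace Cfsg.Agent.BGSupport35

open Subgroup Cfsg.Agent.BGUnique Cfsg.Agent.BGTypeBasic
open scoped Pointwise commutatorElement

universe u

variable {G : Type u} [Group G] [Finite G]

variable (hG : Cfsg.IsMinSimpleOddOrder G)
include hG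

theorem fittingHallOf_eq_of_nilpotent {M : Subgroup G} (hM : IsCoatom M)
    (hnil : Group.IsNilpotent ↥(Cfsg.piCore (Cfsg.sigma M) M)) :
    Cfsg.fittingHallOf M = Cfsg.sigmaCore M := by
  refine le_antisymm (BGFinal72.fittingHallOf_le_sigmaCore hG hM)
    (Subgroup.map_mono (le_sSup ⟨Cfsg.piCore_normal _ _, hnil, ?_⟩))
  have h := BGTypeSetup.sigmaCore_coprime hG hM
  rw [Cfsg.sigmaCore, card_map_of_injective M.subtype_injective, relIndex,
    BGSigma.subgroupOf_map_subtype_self] at h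
  exact h

/-- BG 14.7. -/
theorem frobenius_of_support {M : Subgroup G} (hM : IsCoatom M) {x : G}
    (hx : x ∈ Cfsg.sigmaCore M) (hx1 : x ≠ 1) (hxM : ¬ centralizer ({x} : Set G) ≤ M)
    {N : Subgroup G} (hN : IsCoatom N) (hCN : centralizer ({x} : Set G) ≤ N)
    (hkN : (Cfsg.kappa N).Nonempty) :
    Cfsg.kappa M = ∅ ∧ (∃ E : Subgroup ↥M, Cfsg.IsFrobeniusComplement E ∧ IsCyclic E) ∧
      ¬ Cfsg.IsTISubset (Cfsg.fittingHallOf M : Set G) := by
  obtain ⟨q, A, K, U, Ns, hq, hqN, hqM, hAU, hA, hAc, hcompl, d, hK1, hKMN, hnU, hNs, hNsne, hKst,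
    hKstH, hKs1, hκM, hUM, hMN, hKF, hEc⟩ := support_config hG hM hx hx1 hxM hN hCN hkN
  haveI := Fact.mk hq
  have hτM := tau2_empty hG hM hx hx1 hxM hN hCN hkN
  refine ⟨hκM, ?_⟩
  set E := M ⊓ Ns with hEdef
  set S := Cfsg.sigmaCore M with hS
  have hEM : E ≤ M := inf_le_left
  have hEσ : ∀ e ∈ E, ∀ r : ℕ, r.Prime → r ∣ orderOf e → r ∉ Cfsg.sigma M := by
    intro e he r hr hd
    refine BGTypeSetup.not_mem_sigma_of_dvd_relIndex hG hM hr ?_
    rw [(relIndex_of_isComplIn hEc).2]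
    exact hd.trans (E.orderOf_dvd_natCard he)
  have hreg : ∀ e ∈ E, e ≠ 1 → ∀ y ∈ S, e * y = y * e → y = 1 := by
    intro e he he1 y hy hey
    by_contra hy1
    obtain ⟨r, hr, hrd⟩ := Nat.exists_prime_and_dvd
      (fun h => he1 (orderOf_eq_one_iff.1 h) : orderOf e ≠ 1)
    obtain ⟨n, hn⟩ := exists_pow_prime hrd
    have := BGFinal72.mem_tau2_of_fixed hG hM hr (hEσ e he r hr hrd) (by simp [hκM])
      (M.pow_mem (hEM he) n) hn hy hy1 ((show Commute e y from hey).pow_left n).eq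
    rw [hτM] at this
    exact this
  have hE1 : E ≠ ⊥ := fun h => hK1 (le_bot_iff.1 (h ▸ hKF.trans (BGFittingUnique.fittingOf_le _)))
  have hES : E ⊓ S = ⊥ := hEc.2.2.1
  have hEnS : ∀ e ∈ E, e ∈ normalizer (S : Set G) := fun e he =>
    BGTypeSetup.le_normalizer_sigmaCore M (hEM he)
  have hfrob : Cfsg.IsFrobeniusComplement (E.subgroupOf M) := by
    refine FrobeniusBasic.isFrobeniusComplement_of_ti ?_ ?_ ?_
    · rw [Ne, subgroupOf_eq_bot, disjoint_iff, inf_eq_left.2 hEM]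
      exact hE1
    · rw [Ne, subgroupOf_eq_top]
      intro h
      have hle : S ≤ E := (BGTypeSetup.sigmaCore_le M).trans h
      exact BGSigma.sigmaCore_ne_bot hG hM (le_bot_iff.1 ((le_inf hle le_rfl).trans hES.le))
    · rintro ⟨g, hg⟩ ⟨y, hy⟩ hyE hy1 hgy
      rw [mem_subgroupOf] at hyE hgy ⊢
      replace hy1 : y ≠ 1 := fun h => hy1 (Subtype.ext h)
      change g⁻¹ * y * g ∈ E at hgy
      obtain ⟨e, he, s, hs, rfl⟩ := hEc.2.2.2 g hg
      set y' := e⁻¹ * y * e with hy'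
      have hy'E : y' ∈ E := mul_mem (mul_mem (inv_mem he) hyE) he
      have hy'1 : y' ≠ 1 := fun h => hy1 (by
        calc y = e * y' * e⁻¹ := by rw [hy']; group
          _ = 1 := by rw [h]; group)
      have h1 : y'⁻¹ * (s⁻¹ * y' * s) ∈ E := by
        refine mul_mem (inv_mem hy'E) ?_
        rwa [show s⁻¹ * y' * s = (e * s)⁻¹ * y * (e * s) by rw [hy']; group]
      have h2 : y'⁻¹ * (s⁻¹ * y' * s) ∈ S := by
        rw [show y'⁻¹ * (s⁻¹ * y' * s) = y'⁻¹ * s⁻¹ * y' * s by group]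
        exact mul_mem ((mem_normalizer_iff''.1 (hEnS _ hy'E) _).1 (inv_mem hs)) hs
      have h3 : y'⁻¹ * (s⁻¹ * y' * s) = 1 := by
        have := mem_inf.2 ⟨h1, h2⟩
        rwa [hES, mem_bot] at this
      have h4 : y' * s = s * y' := by
        calc y' * s = s * y' * (y'⁻¹ * (s⁻¹ * y' * s)) := by group
          _ = s * y' := by rw [h3, mul_one]
      show e * s ∈ E
      rw [hreg y' hy'E hy'1 s hs h4, mul_one]
      exact he
  -- `E` is abelian
  have hrk : ∀ r : ℕ, r.Prime → Cfsg.PRankLE r 1 E := by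
    intro r hr A' hA' hA'p
    by_contra hlt
    haveI := Fact.mk hr
    obtain ⟨B, hBE, hB, hBc⟩ := pow_le_of_not_pRankLE
      (show ¬ Cfsg.PRankLE r 1 E from fun h => hlt (h A' hA' hA'p))
    have hdvd : r ∣ Nat.card B := by
      obtain ⟨j, hj⟩ := (PGroupsBasic.isPGroup_of_isElementaryAbelian hB).exists_card_eq
      rw [hj] at hBc ⊢
      refine dvd_pow_self r fun hj0 => ?_
      rw [hj0, pow_zero] at hBc
      exact absurd hBc (not_le.2 (Nat.one_lt_pow (by norm_num) hr.one_lt))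
    obtain ⟨⟨b, hb⟩, hbo⟩ := exists_prime_orderOf_dvd_card' (G := B) r hdvd
    rw [Subgroup.orderOf_mk] at hbo
    have hrσ : r ∉ Cfsg.sigma M := hEσ b (hBE hb) r hr hbo.symm.dvd
    obtain ⟨B', hB'B, hB'c⟩ := BGSCNUniqueMain.exists_sub_card hB (k := 2) hBc
    have hτ : r ∈ Cfsg.tau2 M := ⟨hr, hrσ, BGSigma.outside_alpha hG hM hr hrσ,
      not_pRankLE_one ((hB'B.trans hBE).trans hEM) (PGroupsBasic.isElementaryAbelian_mono hB hB'B)
        hB'c⟩
    rw [hτM] at hτ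
    exact hτ
  have hqβ : q ∉ Cfsg.beta M := fun h => BGSigma.not_ideal hG hN hqN.2.1 hqN.2.2.2 h.2
  have hAM : A ≤ M := (hAU.trans hUM).trans (BGTypeSetup.sigmaCore_le M)
  have hqd : q ∣ Nat.card M :=
    ((dvd_pow_self q two_ne_zero).trans hAc.symm.dvd).trans (card_dvd_of_le hAM)
  obtain ⟨⟨P, N₀, hN₀n, hN₀⟩, -, -⟩ :=
    (Cfsg.Agent.S1414.result hG M hM).2.2.2.2 q hq hqd hqβ
  set W := coreOf q ⁅M, M⁆ with hW
  have hWle : W ≤ ⁅M, M⁆ := coreOf_le q _
  have hN₀le : N₀ ≤ Cfsg.pPrimeCore q ↥⁅M, M⁆ := by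
    haveI := hN₀n
    refine HallCore.le_pPrimeCore ((Nat.coprime_comm).1 ((hq.coprime_iff_not_dvd).2 ?_))
    rw [← hN₀.index_eq_card]
    exact P.not_dvd_index
  obtain ⟨i, hi⟩ := P.isPGroup'.exists_card_eq
  have hidx : (Cfsg.pPrimeCore q ↥⁅M, M⁆).index ∣ q ^ i := by
    rw [← hi, ← hN₀.symm.index_eq_card]
    exact index_dvd_of_le hN₀le
  have hEE : ⁅E, E⁆ ≤ W := by
    intro u hu
    have huM : u ∈ ⁅M, M⁆ := commutator_mono hEM hEM hu
    refine ⟨⟨u, huM⟩, ?_, rfl⟩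
    haveI := HallCore.pPrimeCore_normal q ↥⁅M, M⁆
    show (⟨u, huM⟩ : ↥⁅M, M⁆) ∈ Cfsg.pPrimeCore q ↥⁅M, M⁆
    rw [← QuotientGroup.eq_one_iff, ← orderOf_eq_one_iff]
    have hcop : (orderOf (⟨u, huM⟩ : ↥⁅M, M⁆)).Coprime (q ^ i) := by
      rw [Subgroup.orderOf_mk]
      refine (Nat.Coprime.pow_right i ?_)
      exact (hq.coprime_iff_not_dvd.2 fun h => hEσ u (commutator_le_self E hu) q hq h hqM).symm
    refine Nat.eq_one_of_dvd_coprimes hcop (orderOf_map_dvd (QuotientGroup.mk' _) _)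
      ((_root_.orderOf_dvd_natCard _).trans ?_)
    rw [← index_eq_card]
    exact hidx
  have hnW : M ≤ normalizer (W : Set G) :=
    ((BGTypeBasic.le_normalizer_derived M)).trans (le_normalizer_coreOf q _)
  have hSsolv : Group.IsSolvable S :=
    hG.2.2.2 _ fun h => hM.1 (top_le_iff.1 (h ▸ BGTypeSetup.sigmaCore_le M))
  have hcopES : (Nat.card E).Coprime (Nat.card S) := by
    have h := BGTypeSetup.sigmaCore_coprime hG hM
    rw [(relIndex_of_isComplIn hEc).2] at h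
    exact h.symm
  obtain ⟨Q, hQn⟩ := CoprimeAction.exists_invariant_sylow (A := E) (K := S)
    (hEM.trans (BGTypeSetup.le_normalizer_sigmaCore M)) hcopES (Or.inr hSsolv) q
  have hQS : (Q : Subgroup S).map S.subtype ≤ S := map_subtype_le _
  have hqS : q ∣ Nat.card S :=
    ((dvd_pow_self q two_ne_zero).trans hAc.symm.dvd).trans (card_dvd_of_le (hAU.trans hUM))
  obtain ⟨⟨y, hy⟩, hy1⟩ : ∃ y : ((Q : Subgroup S).map S.subtype : Subgroup G), y ≠ 1 := by
    haveI : Nontrivial ((Q : Subgroup S).map S.subtype : Subgroup G) := by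
      rw [nontrivial_iff_ne_bot, Ne, map_eq_bot_iff_of_injective _ S.subtype_injective]
      exact Q.ne_bot_of_dvd_card hqS
    exact exists_ne 1
  have hEab : ⁅E, E⁆ = ⊥ := by
    refine eq_bot_iff.2 fun u hu => ?_
    have huE : u ∈ E := commutator_le_self E hu
    by_contra hu1
    rw [mem_bot] at hu1
    refine hy1 (Subtype.ext (hreg u huE hu1 y (hQS hy) ?_))
    have hdisj : W ⊓ (Q : Subgroup S).map S.subtype = ⊥ := by
      refine inf_eq_bot_of_coprime (BGFittingUnique.coprime_card_of_qgroup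
        (Q.isPGroup'.map _) ?_).symm
      exact fun h => hq.coprime_iff_not_dvd.1 (coprime_coreOf q ⁅M, M⁆).symm h
    have h1 : ⁅u, y⁆ ∈ W ⊓ (Q : Subgroup S).map S.subtype := by
      refine mem_inf.2 ⟨?_, ?_⟩
      · rw [commutatorElement_def, show u * y * u⁻¹ * y⁻¹ = u * (y * u⁻¹ * y⁻¹) by group]
        exact mul_mem (hEE hu) ((mem_normalizer_iff.1
          (hnW (BGTypeSetup.sigmaCore_le M (hQS hy))) _).1 (inv_mem (hEE hu)))
      · rw [commutatorElement_def]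
        exact mul_mem ((mem_normalizer_iff.1 (hQn huE) _).1 hy) (inv_mem hy)
    rw [hdisj, mem_bot] at h1
    exact commutatorElement_eq_one_iff_mul_comm.1 h1
  have hcyc : IsCyclic E := by
    haveI hcomm : IsMulCommutative E := ⟨⟨fun a b => Subtype.ext
      (commutator_eq_bot_iff_le_centralizer.1 hEab b.2 a a.2)⟩⟩
    haveI : Group.IsNilpotent E := by
      letI : CommGroup E := { mul_comm := fun a b => hcomm.1.1 a b }
      infer_instance
    haveI := BGSigma.isZGroup_of_rankLE_one hG (H := E) hrk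
    infer_instance
  refine ⟨⟨E.subgroupOf M, hfrob, (subgroupOfEquivOfLe hEM).isCyclic.2 hcyc⟩, ?_⟩
  have hnil : Group.IsNilpotent ↥(Cfsg.piCore (Cfsg.sigma M) M) := by
    haveI := Cfsg.piCore_normal (Cfsg.sigma M) M
    refine FrobeniusNilpotent.isNilpotent_of_complement hfrob.1 fun e he he1 => ?_
    refine eq_bot_iff.2 fun z hz => ?_
    rw [mem_bot]
    rw [mem_subgroupOf] at he
    refine Subtype.ext (hreg e he (fun h => he1 (Subtype.ext h)) z ⟨z, hz.1, rfl⟩ ?_)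
    exact congrArg Subtype.val (mem_centralizer_iff.1 hz.2 e rfl)
  intro hTI
  have hF := fittingHallOf_eq_of_nilpotent hG hM hnil
  rw [hF] at hTI
  obtain ⟨g, hg, hgM⟩ := SetLike.not_le_iff_exists.1 hxM
  refine hx1 (hTI g (fun h => hgM ?_) x hx ?_)
  · rwa [BGTypeSetup.normalizer_eq_of_normal hG hM (BGSigma.sigmaCore_ne_bot hG hM)
      (BGTypeSetup.sigmaCore_le M) (BGTypeSetup.le_normalizer_sigmaCore M)] at h
  · have : x * g = g * x := mem_centralizer_iff.1 hg x rfl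
    rwa [← this, mul_inv_cancel_right]

end Cfsg.Agent.BGSupport35
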