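import Mathlib
import Cfsg.Agent.Lib.CoprimeAction
import Cfsg.Agent.Lib.OddLocalBase

/-! Thompson's lemma: a `p'`-group `Q` normalised by a `p`-group `A`, both acting on a `p`-group `P`
(`p` odd), centralises `P` as soon as it centralises the elements of order `p` of `C_P(A)`. -/

set_option autoImplicit false

open Subgroup
open scoped Pointwise commutatorElement

namespace Cfsg.Agent.ThompsonAQ

variable {G : Type*} [Group G]

/-- The symmetric product `x₁ x₂ … xₙ xₙ … x₂ x₁`. -/
def symProd : List G → G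
  | [] => 1
  | x :: l => x * symProd l * x

theorem symProd_mem {P : Subgroup G} {l : List G} (h : ∀ x ∈ l, x ∈ P) : symProd l ∈ P := by
  induction l with
  | nil => exact one_mem P
  | cons x l ih =>
    exact mul_mem (mul_mem (h x List.mem_cons_self) (ih fun y hy => h y (List.mem_cons_of_mem _ hy)))
      (h x List.mem_cons_self)

theorem symProd_perm {P : Subgroup G} (hP : ∀ x ∈ P, ∀ y ∈ P, ∀ z ∈ P, Commute ⁅x, y⁆ z)
    {l l' : List G} (hl : l.Perm l') (h : ∀ x ∈ l, x ∈ P) : symProd l = symProd l' := by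
  induction hl with
  | nil => rfl
  | cons x _ ih =>
    show x * _ * x = x * _ * x
    rw [ih fun y hy => h y (List.mem_cons_of_mem _ hy)]
  | @swap x y l =>
    have hx : x ∈ P := h x (List.mem_cons_of_mem _ List.mem_cons_self)
    have hy : y ∈ P := h y List.mem_cons_self
    have hF : symProd l ∈ P := symProd_mem fun z hz =>
      h z (List.mem_cons_of_mem _ (List.mem_cons_of_mem _ hz))
    show y * (x * symProd l * x) * y = x * (y * symProd l * y) * x
    set F := symProd l
    have hc : Commute ⁅y, x⁆ (x * y * F * (y * x)) :=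
      hP y hy x hx _ (mul_mem (mul_mem (mul_mem hx hy) hF) (mul_mem hy hx))
    calc y * (x * F * x) * y = ⁅y, x⁆ * (x * y * F * (y * x)) * (⁅y, x⁆)⁻¹ * (⁅y, x⁆ * (y * x)⁻¹ * ⁅y, x⁆⁻¹ * (y * x)) := by
          simp only [commutatorElement_def]; group
      _ = (x * y * F * (y * x)) * (⁅y, x⁆ * (y * x)⁻¹ * ⁅y, x⁆⁻¹ * (y * x)) := by
          rw [hc.eq]; group
      _ = (x * y * F * (y * x)) * 1 := by
          congr 1
          have h2 : Commute ⁅y, x⁆ (y * x)⁻¹ := (hP y hy x hx _ (mul_mem hy hx)).inv_right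
          rw [h2.eq]; group
      _ = _ := by group
  | trans h1 _ ih1 ih2 => exact (ih1 h).trans (ih2 fun x hx => h x (h1.mem_iff.mpr hx))

theorem map_symProd {H : Type*} [Group H] (f : G →* H) (l : List G) :
    f (symProd l) = symProd (l.map f) := by
  induction l with
  | nil => simp [symProd]
  | cons x l ih => simp [symProd, ih]

theorem symProd_mul_of_central {P Z : Subgroup G} (hZ : ∀ z ∈ Z, ∀ x ∈ P, Commute z x) {c : G}
    (hc : c ∈ Z) {l : List G} (h : ∀ x ∈ l, x ∈ P) :
    symProd (l.map (c * ·)) = c ^ (2 * l.length) * symProd l := by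
  induction l with
  | nil => simp [symProd]
  | cons x l ih =>
    have hl := ih fun y hy => h y (List.mem_cons_of_mem _ hy)
    have hx := h x List.mem_cons_self
    have h1 : Commute c x := hZ c hc x hx
    have h2 : Commute c (symProd l) := hZ c hc _ (symProd_mem fun y hy => h y (List.mem_cons_of_mem _ hy))
    show c * x * symProd (l.map (c * ·)) * (c * x) = c ^ (2 * (l.length + 1)) * (x * symProd l * x)
    rw [hl]
    set F := symProd l
    set k := c ^ (2 * l.length) with hk
    have h1k : Commute k x := h1.pow_left _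
    calc c * x * (k * F) * (c * x) = c * (x * k) * (F * c) * x := by group
      _ = c * (k * x) * (c * F) * x := by rw [h1k.eq, h2.eq]
      _ = c * k * (x * c) * F * x := by group
      _ = c * k * (c * x) * F * x := by rw [h1.eq]
      _ = (c * k * c) * (x * F * x) := by group
      _ = _ := by
          rw [hk, ← pow_succ', ← pow_succ]; congr 2

/-- A nontrivial normal subgroup of a nilpotent group meets the centre nontrivially. -/
theorem exists_central_mem [Group.IsNilpotent G] {N : Subgroup G} [hN : N.Normal] (h : N ≠ ⊥) :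
    ∃ x ∈ N, x ≠ 1 ∧ x ∈ center G := by
  obtain ⟨n, hn⟩ := Group.IsNilpotent.nilpotent G
  have key : ∀ i : ℕ, ∀ x ∈ N, x ≠ 1 → x ∈ Subgroup.upperCentralSeries G i →
      ∃ y ∈ N, y ≠ 1 ∧ y ∈ center G := by
    intro i
    induction i with
    | zero =>
      intro x _ hx1 hx
      rw [Subgroup.upperCentralSeries_zero, mem_bot] at hx
      exact absurd hx hx1
    | succ i ih =>
      intro x hxN hx1 hx
      by_cases hc : x ∈ center G
      · exact ⟨x, hxN, hx1, hc⟩
      · rw [mem_center_iff] at hc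
        push Not at hc
        obtain ⟨g, hg⟩ := hc
        refine ih (x * g * x⁻¹ * g⁻¹) ?_ ?_ (Subgroup.mem_upperCentralSeries_succ_iff.mp hx g)
        · have : g * x⁻¹ * g⁻¹ ∈ N := hN.conj_mem _ (inv_mem hxN) g
          simpa [mul_assoc] using mul_mem hxN this
        · intro h1
          apply hg
          calc g * x = (x * g * x⁻¹ * g⁻¹)⁻¹ * (x * g) := by group
            _ = x * g := by rw [h1]; simp
  obtain ⟨x, hxN, hx1⟩ := (bot_or_exists_ne_one N).resolve_left h
  exact key n x hxN hx1 (hn ▸ mem_top x)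

theorem pow_prime_eq_one_of_class_two {P : Subgroup G} {p : ℕ} (hp : p.Prime) (hp2 : p ≠ 2)
    (hP : ∀ x ∈ P, ∀ y ∈ P, ∀ z ∈ P, Commute ⁅x, y⁆ z)
    {x y : G} (hx : x ∈ P) (hy : y ∈ P) (hxp : x ^ p = 1) (hyp : y ^ p = 1) : (x * y) ^ p = 1 := by
  have h := OddLocalBase.mul_pow_of_central x y (hP y hy x hx x hx) (hP y hy x hx y hy) p
  rw [h, hxp, hyp, one_mul, one_mul]
  obtain ⟨k, hk⟩ := (Nat.Prime.dvd_choose_self hp (k := 2) (by norm_num) (lt_of_le_of_ne hp.two_le (Ne.symm hp2)))
  rw [hk, pow_mul]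
  have h2 : ⁅y, x⁆ ^ p = 1 := by
    rw [← OddLocalBase.pow_commutatorElement y x (hP y hy x hx y hy) p, hyp]
    simp
  rw [h2, one_pow]

theorem main [Finite G] {p : ℕ} [hp : Fact p.Prime] (hp2 : p ≠ 2) {A Q : Subgroup G}
    (hA : IsPGroup p A) (hQ : (Nat.card Q).Coprime p) (hAQ : A ≤ normalizer (Q : Set G))
    (P : Subgroup G) (hP : IsPGroup p P) (hAP : A ≤ normalizer (P : Set G))
    (hQP : Q ≤ normalizer (P : Set G))
    (h : ∀ x ∈ P, x ∈ centralizer (A : Set G) → x ^ p = 1 → ∀ q ∈ Q, Commute q x) :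
    Q ≤ centralizer (P : Set G) := by
  induction P using WellFoundedLT.induction with
  | ind P ih =>
  by_contra hne
  have hsub : ∀ R : Subgroup G, R < P → A ≤ normalizer (R : Set G) → Q ≤ normalizer (R : Set G) →
      Q ≤ centralizer (R : Set G) := fun R hR hAR hQR =>
    ih R hR (hP.to_le hR.le) hAR hQR (fun x hx => h x (hR.le hx))
  -- normality of subgroups attached to `P`
  have hmap : ∀ g ∈ (A ⊔ Q : Subgroup G), P.map (MulAut.conj g).toMonoidHom = P := fun g hg =>
    mem_normalizer_iff_map_conj_eq.mp (sup_le hAP hQP hg)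
  have hQmap : ∀ g ∈ (A ⊔ Q : Subgroup G), Q.map (MulAut.conj g).toMonoidHom = Q := fun g hg =>
    mem_normalizer_iff_map_conj_eq.mp (sup_le hAQ le_normalizer hg)
  have hnormH : ∀ R : Subgroup G, (∀ g ∈ (A ⊔ Q : Subgroup G),
      R.map (MulAut.conj g).toMonoidHom = R) → A ≤ normalizer (R : Set G) ∧ Q ≤ normalizer (R : Set G) :=
    fun R hR => ⟨fun g hg => mem_normalizer_iff_map_conj_eq.mpr (hR g (mem_sup_left hg)),
      fun g hg => mem_normalizer_iff_map_conj_eq.mpr (hR g (mem_sup_right hg))⟩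
  have hcop : (Nat.card Q).Coprime (Nat.card P) := by
    obtain ⟨n, hn⟩ := IsPGroup.iff_card.1 hP
    rw [hn]; exact hQ.pow_right n
  have hPsol : Group.IsSolvable Q ∨ Group.IsSolvable P :=
    Or.inr (CoprimeAction.isSolvable_of_isPGroup hP)
  -- `[P, Q] = P`
  have hPQle : ⁅P, Q⁆ ≤ P := CoprimeAction.commutator_le_self_of_le_normalizer hQP
  have hPQ : ⁅P, Q⁆ = P := by
    by_contra hlt
    have hn := hnormH ⁅P, Q⁆ fun g hg => by rw [map_commutator, hmap g hg, hQmap g hg]
    have hc := hsub _ (lt_of_le_of_ne hPQle hlt) hn.1 hn.2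
    have hb : ⁅⁅P, Q⁆, Q⁆ = ⊥ := by
      rw [commutator_comm, commutator_eq_bot_iff_le_centralizer]; exact hc
    rw [CoprimeAction.commutator_commutator_eq hQP hcop hPsol, commutator_comm,
      commutator_eq_bot_iff_le_centralizer] at hb
    exact hne hb
  -- class two
  have hPne : Nontrivial P := by
    rw [nontrivial_iff_ne_bot]
    rintro rfl
    exact hne fun q _ => mem_centralizer_iff.mpr fun y hy => by
      rw [mem_bot.mp hy]; simp
  have hDlt : ⁅P, P⁆ < P := by
    refine lt_of_le_of_ne (commutator_le_self P) fun he => ?_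
    haveI : Group.IsNilpotent P := hP.isNilpotent
    haveI : Group.IsSolvable P := inferInstance
    have h2 : ⁅(⊤ : Subgroup P), (⊤ : Subgroup P)⁆ = ⊤ := by
      apply map_injective P.subtype_injective
      rw [map_commutator, ← MonoidHom.range_eq_map, range_subtype, he]
    exact absurd h2 (Group.IsSolvable.commutator_lt_top_of_nontrivial P).ne
  have hDn := hnormH ⁅P, P⁆ fun g hg => by rw [map_commutator, hmap g hg]
  have hDc : ⁅⁅P, P⁆, Q⁆ = ⊥ := by
    rw [commutator_comm, commutator_eq_bot_iff_le_centralizer]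
    exact hsub _ hDlt hDn.1 hDn.2
  have hDP : ⁅⁅P, P⁆, P⁆ = ⊥ := by
    have h1 : ⁅⁅Q, ⁅P, P⁆⁆, P⁆ = ⊥ := by
      rw [commutator_comm Q ⁅P, P⁆, hDc, commutator_bot_left]
    have h2 : ⁅⁅⁅P, P⁆, P⁆, Q⁆ = ⊥ := by
      rw [← le_bot_iff, ← hDc]
      exact commutator_mono (commutator_mono (commutator_le_self P) le_rfl) le_rfl
    have h3 : ⁅⁅P, Q⁆, ⁅P, P⁆⁆ = ⊥ := commutator_commutator_eq_bot_of_rotate h1 h2
    rwa [hPQ, commutator_comm] at h3
  have hcl : ∀ x ∈ P, ∀ y ∈ P, ∀ z ∈ P, Commute ⁅x, y⁆ z := fun x hx y hy z hz =>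
    (commutatorElement_eq_one_iff_commute.mp (mem_bot.mp (hDP ▸ commutator_mem_commutator
      (commutator_mem_commutator hx hy) hz)))
  -- exponent p
  have hexp : ∀ x ∈ P, x ^ p = 1 := by
    let R : Subgroup G :=
      { carrier := {x | x ∈ P ∧ x ^ p = 1}
        one_mem' := ⟨one_mem P, one_pow p⟩
        mul_mem' := fun ha hb => ⟨mul_mem ha.1 hb.1,
          pow_prime_eq_one_of_class_two hp.out hp2 hcl ha.1 hb.1 ha.2 hb.2⟩
        inv_mem' := fun ha => ⟨inv_mem ha.1, by simp [ha.2]⟩ }
    have hRP : R ≤ P := fun x hx => hx.1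
    have hR : ∀ g ∈ (A ⊔ Q : Subgroup G), R.map (MulAut.conj g).toMonoidHom = R := by
      intro g hg
      have key : ∀ g ∈ (A ⊔ Q : Subgroup G), R.map (MulAut.conj g).toMonoidHom ≤ R := by
        rintro g hg _ ⟨x, hx, rfl⟩
        refine ⟨(mem_normalizer_iff.mp (sup_le hAP hQP hg) x).mp hx.1, ?_⟩
        show (MulAut.conj g x) ^ p = 1
        rw [← map_pow, hx.2, map_one]
      refine le_antisymm (key g hg) fun x hx => ?_
      exact ⟨g⁻¹ * x * g, by simpa using key g⁻¹ (inv_mem hg) (mem_map_of_mem _ hx), by simp [mul_assoc]⟩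
    by_contra hex
    have hlt : R < P := lt_of_le_of_ne hRP fun he => hex fun x hx => (he ▸ hx : x ∈ R).2
    have hn := hnormH R hR
    have hc := hsub R hlt hn.1 hn.2
    refine hne (OddLocalBase.centralizes_of_fix_prime_order p hp2 Q hQ P hP hQP fun x hx hxo => ?_)
    have hxR : x ∈ R := ⟨hx, hxo ▸ pow_orderOf_eq_one x⟩
    exact hc.trans (centralizer_le (Set.singleton_subset_iff.mpr hxR))
  -- the fixed points of `Q`
  set Z := P ⊓ centralizer (Q : Set G) with hZ
  have hZmap : ∀ g ∈ (A ⊔ Q : Subgroup G), Z.map (MulAut.conj g).toMonoidHom = Z := by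
    intro g hg
    rw [hZ, map_inf _ _ _ (MulAut.conj g).injective, hmap g hg]
    congr 1
    apply le_antisymm
    · refine (map_centralizer_le_centralizer_image _ _).trans ?_
      rw [← coe_map, hQmap g hg]
    · intro x hx
      refine ⟨g⁻¹ * x * g, mem_centralizer_iff.mpr fun q hq => ?_, by simp [mul_assoc]⟩
      have := mem_centralizer_iff.mp hx (g * q * g⁻¹)
        ((mem_normalizer_iff.mp (sup_le hAQ le_normalizer hg) q).mp hq)
      calc q * (g⁻¹ * x * g) = g⁻¹ * ((g * q * g⁻¹) * x) * g := by group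
        _ = g⁻¹ * (x * (g * q * g⁻¹)) * g := by rw [this]
        _ = _ := by group
  have hDZ : ⁅P, P⁆ ≤ Z := le_inf (commutator_le_self P)
    (commutator_eq_bot_iff_le_centralizer.mp hDc)
  have hZP : P ≤ normalizer (Z : Set G) := by
    rw [le_normalizer_iff_commutator_le_left]
    exact (commutator_mono inf_le_left le_rfl).trans hDZ
  have hZlt : Z < P := lt_of_le_of_ne inf_le_left fun he =>
    hne (le_centralizer_iff.mp (inf_eq_left.mp he))
  set T := A ⊔ P
  haveI hTnil : Group.IsNilpotent T :=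
    (IsPGroup.to_sup_of_normal_right' hA hP hAP).isNilpotent
  haveI : (Z.subgroupOf T).Normal := normal_subgroupOf_of_le_normalizer
    (sup_le (hnormH Z hZmap).1 hZP)
  haveI : (P.subgroupOf T).Normal := normal_subgroupOf_of_le_normalizer
    (sup_le hAP le_normalizer)
  set N := (P.subgroupOf T).map (QuotientGroup.mk' (Z.subgroupOf T))
  haveI : N.Normal := Normal.map inferInstance _ (QuotientGroup.mk'_surjective _)
  have hN : N ≠ ⊥ := by
    rw [Ne, Subgroup.map_eq_bot_iff, QuotientGroup.ker_mk']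
    intro hle
    refine hZlt.not_ge fun x hx => ?_
    have hxT : x ∈ T := mem_sup_right hx
    exact hle (x := ⟨x, hxT⟩) hx
  obtain ⟨_, ⟨⟨r, hrT⟩, hr, rfl⟩, hr1, hrc⟩ := exists_central_mem hN
  replace hr : r ∈ P := hr
  have hrZ : r ∉ Z := fun hz => hr1 ((QuotientGroup.eq_one_iff _).mpr hz)
  have hra : ∀ a ∈ A, r⁻¹ * (a * r * a⁻¹) ∈ Z := by
    intro a ha
    have h1 := mem_center_iff.mp hrc
      (QuotientGroup.mk' (Z.subgroupOf T) ⟨a, mem_sup_left ha⟩)
    rw [← map_mul, ← map_mul, QuotientGroup.mk'_apply, QuotientGroup.mk'_apply, QuotientGroup.eq] at h1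
    have h2 : ((a * r)⁻¹ * (r * a) : G) ∈ Z := h1
    have h3 := inv_mem h2
    have h4 : a * ((r * a)⁻¹ * (a * r)) * a⁻¹ ∈ Z := by
      have := (mem_normalizer_iff.mp ((hnormH Z hZmap).1 ha) _).mp h3
      simpa [mul_inv_rev] using this
    simpa [mul_assoc] using h4
  -- averaging
  classical
  haveI : Fintype Q := Fintype.ofFinite Q
  set L : List G := (Finset.univ : Finset Q).toList.map fun q : Q => r⁻¹ * ((q : G) * r * (q : G)⁻¹)
  set U : List G := (Finset.univ : Finset Q).toList.map fun q : Q => (q : G) * r * (q : G)⁻¹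
  have hUP : ∀ x ∈ U, x ∈ P := by
    intro x hx
    obtain ⟨q, -, rfl⟩ := List.mem_map.mp hx
    exact (mem_normalizer_iff.mp (hQP q.2) r).mp hr
  have hLP : ∀ x ∈ L, x ∈ P := by
    intro x hx
    obtain ⟨q, -, rfl⟩ := List.mem_map.mp hx
    exact mul_mem (inv_mem hr) ((mem_normalizer_iff.mp (hQP q.2) r).mp hr)
  have hZc : ∀ z ∈ Z, ∀ x ∈ P, Commute z x := by
    intro z hz x hx
    have h1 : ⁅⁅Z, Q⁆, P⁆ = ⊥ := by
      rw [show ⁅Z, Q⁆ = ⊥ from commutator_eq_bot_iff_le_centralizer.mpr inf_le_right,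
        commutator_bot_left]
    have h2 : ⁅⁅P, Z⁆, Q⁆ = ⊥ := by
      rw [← le_bot_iff, ← hDc]
      exact commutator_mono (commutator_mono le_rfl inf_le_left) le_rfl
    have h3 : ⁅⁅Q, P⁆, Z⁆ = ⊥ := commutator_commutator_eq_bot_of_rotate h2 h1
    rw [commutator_comm Q P, hPQ] at h3
    exact (commutatorElement_eq_one_iff_commute.mp
      (mem_bot.mp (h3 ▸ commutator_mem_commutator hx hz))).symm
  have hperm : ∀ e : Q ≃ Q, ((Finset.univ : Finset Q).toList.map e).Perm (Finset.univ : Finset Q).toList := by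
    intro e
    refine List.perm_of_nodup_nodup_toFinset_eq ((Finset.nodup_toList _).map e.injective)
      (Finset.nodup_toList _) ?_
    ext x
    simp only [List.mem_toFinset, List.mem_map, Finset.mem_toList, Finset.mem_univ, iff_true, true_and]
    exact ⟨e.symm x, e.apply_symm_apply x⟩
  set u := symProd U with hu
  have huZ : u ∈ Z := by
    refine ⟨symProd_mem hUP, mem_centralizer_iff.mpr fun q hq => ?_⟩
    have h1 : MulAut.conj q u = u := by
      have e := map_symProd (MulAut.conj q).toMonoidHom U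
      refine e.trans ?_
      refine symProd_perm hcl ?_ ?_
      · have := (hperm (Equiv.mulLeft (⟨q, hq⟩ : Q))).map fun q : Q => (q : G) * r * (q : G)⁻¹
        simpa [U, List.map_map, Function.comp_def, mul_assoc] using this
      · intro x hx
        obtain ⟨y, hy, rfl⟩ := List.mem_map.mp hx
        exact (mem_normalizer_iff.mp (hQP hq) y).mp (hUP y hy)
    rw [MulAut.conj_apply, mul_inv_eq_iff_eq_mul] at h1
    exact h1
  set s := symProd L
  have hsP : s ∈ P := symProd_mem hLP
  have hsA : s ∈ centralizer (A : Set G) := by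
    refine mem_centralizer_iff.mpr fun a ha => ?_
    have h1 : MulAut.conj a s = s := by
      refine (map_symProd (MulAut.conj a).toMonoidHom L).trans ?_
      refine symProd_perm hcl ?_ ?_
      · set z := r⁻¹ * (a * r * a⁻¹) with hz
        have hzZ : z ∈ Z := hra a ha
        have haQ : ∀ q : Q, a * (q : G) * a⁻¹ ∈ Q := fun q => (mem_normalizer_iff.mp (hAQ ha) q).mp q.2
        let e : Q ≃ Q :=
          { toFun := fun q => ⟨a * (q : G) * a⁻¹, haQ q⟩
            invFun := fun q => ⟨a⁻¹ * (q : G) * a, by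
              simpa using (mem_normalizer_iff.mp (inv_mem (hAQ ha)) (q : G)).mp q.2⟩
            left_inv := fun q => Subtype.ext (by simp [mul_assoc])
            right_inv := fun q => Subtype.ext (by simp [mul_assoc]) }
        have h3 : _ := (hperm e).map fun q : Q => r⁻¹ * ((q : G) * r * (q : G)⁻¹)
        show (L.map (MulAut.conj a).toMonoidHom).Perm L
        refine List.Perm.trans (List.Perm.of_eq ?_) h3
        simp only [L]
        rw [List.map_map, List.map_map]
        refine List.map_congr_left fun q _ => ?_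
        set q' := a * (q : G) * a⁻¹
        have hzq : z * q'⁻¹ = q'⁻¹ * z :=
          (mem_centralizer_iff.mp hzZ.2 _ (inv_mem (haQ q))).symm
        show a * (r⁻¹ * ((q : G) * r * (q : G)⁻¹)) * a⁻¹ = r⁻¹ * (q' * r * q'⁻¹)
        calc a * (r⁻¹ * ((q : G) * r * (q : G)⁻¹)) * a⁻¹
            = (r * z)⁻¹ * (q' * (r * z) * q'⁻¹) := by simp only [hz, q']; group
          _ = z⁻¹ * (r⁻¹ * (q' * r * (z * q'⁻¹))) := by group
          _ = (z⁻¹ * (r⁻¹ * (q' * r * q'⁻¹))) * z := by rw [hzq]; group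
          _ = _ := by
              have hc := hZc z hzZ _ (mul_mem (inv_mem hr)
                ((mem_normalizer_iff.mp (hQP (haQ q)) r).mp hr))
              rw [hc.inv_left.eq]; simp only [q']; group
      · intro x hx
        obtain ⟨y, hy, rfl⟩ := List.mem_map.mp hx
        exact (mem_normalizer_iff.mp (hAP ha) y).mp (hLP y hy)
    rw [MulAut.conj_apply, mul_inv_eq_iff_eq_mul] at h1
    exact h1
  have hsZ : s ∈ Z := ⟨hsP, mem_centralizer_iff.mpr fun q hq => h s hsP hsA (hexp s hsP) q hq⟩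
  -- in `P / Z`
  haveI : (Z.subgroupOf P).Normal := normal_subgroupOf_of_le_normalizer hZP
  let π := QuotientGroup.mk' (Z.subgroupOf P)
  have hmul : ∀ x y : P ⧸ Z.subgroupOf P, Commute x y := by
    rintro ⟨x⟩ ⟨y⟩
    refine commutatorElement_eq_one_iff_commute.mp ?_
    show ⁅π x, π y⁆ = 1
    rw [← map_commutatorElement]
    refine (QuotientGroup.eq_one_iff _).mpr ?_
    exact hDZ (commutator_mem_commutator x.2 y.2)
  let rP : P := ⟨r, hr⟩
  let UP : List P := (Finset.univ : Finset Q).toList.map fun q : Q =>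
    ⟨(q : G) * r * (q : G)⁻¹, (mem_normalizer_iff.mp (hQP q.2) r).mp hr⟩
  have e1 : π ⟨u, symProd_mem hUP⟩ = 1 := (QuotientGroup.eq_one_iff _).mpr huZ
  have e2 : π ⟨s, hsP⟩ = 1 := (QuotientGroup.eq_one_iff _).mpr hsZ
  have e3 : symProd (UP.map π) = 1 := by
    rw [← map_symProd, ← e1]
    congr 1
    apply Subtype.ext
    show P.subtype (symProd UP) = u
    rw [map_symProd, hu]
    simp [UP, U, List.map_map, Function.comp_def]
  have e4 : symProd ((UP.map (rP⁻¹ * ·)).map π) = 1 := by
    rw [← map_symProd, ← e2]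
    congr 1
    apply Subtype.ext
    show P.subtype (symProd (UP.map (rP⁻¹ * ·))) = s
    rw [map_symProd]
    simp [UP, L, rP, s, List.map_map, Function.comp_def]
  have e5 : (UP.map (rP⁻¹ * ·)).map π = (UP.map π).map (π rP⁻¹ * ·) := by
    simp [List.map_map, Function.comp_def]
  rw [e5, symProd_mul_of_central (P := ⊤) (Z := ⊤) (fun z _ x _ => hmul z x) (mem_top _)
    (fun x _ => mem_top x), e3, mul_one] at e4
  have hlen : (UP.map π).length = Nat.card Q := by
    simp [UP, Nat.card_eq_fintype_card]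
  rw [hlen] at e4
  have hord : orderOf (π rP⁻¹) = 1 := by
    have hd1 : orderOf (π rP⁻¹) ∣ 2 * Nat.card Q := orderOf_dvd_of_pow_eq_one e4
    obtain ⟨n, hn⟩ := IsPGroup.iff_card.1 hP
    have hd2 : orderOf (π rP⁻¹) ∣ Nat.card P :=
      (orderOf_map_dvd π _).trans (orderOf_dvd_natCard rP⁻¹)
    refine Nat.eq_one_of_dvd_coprimes ?_ hd1 hd2
    refine Nat.Coprime.mul_left ?_ hcop
    rw [hn]
    exact ((Nat.coprime_primes Nat.prime_two hp.out).mpr (Ne.symm hp2)).pow_right n
  rw [orderOf_eq_one_iff] at hord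
  exact hrZ (by simpa [rP, mem_subgroupOf] using (QuotientGroup.eq_one_iff _).mp hord)

end Cfsg.Agent.ThompsonAQ
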