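import Cfsg.Prelude
import Cfsg.Agent.Lib.CharInducedTI
import Cfsg.Agent.Lib.CharBasicLinear
import Cfsg.Agent.Lib.CoherenceBasic
import Cfsg.Agent.Lib.FrobeniusNilpotent
import Cfsg.Agent.Lib.CoprimeAction
import Cfsg.Agent.Lib.ThompsonAQ
import Cfsg.Agent.Lib.ComponentsCores
import Cfsg.Agent.S0161

/-!
Linear characters of a TI Frobenius kernel induced to a group of odd order: the exceptional family
attached to the abelian quotient of the kernel, and the projection bound on the kernel.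
-/

namespace Cfsg.Agent.FrobeniusKernelChars

open Cfsg Cfsg.Agent.CharBasic Cfsg.Agent.CharBasicOrth Cfsg.Agent.CharBasicDecomp
open Cfsg.Agent.CoherenceBasic
open scoped ComplexConjugate

variable {G : Type*} [Group G]

/-- A TI Frobenius kernel `H` with normaliser `L`. -/
structure KHyp (L H : Subgroup G) : Prop where
  lt : H < L
  ne_bot : H ≠ ⊥
  normal : ∀ x ∈ L, ∀ h ∈ H, x * h * x⁻¹ ∈ H
  frob : ∀ h ∈ H, h ≠ 1 → L ⊓ Subgroup.centralizer ({h} : Set G) ≤ H
  ti : ∀ g : G, g ∉ L → ∀ t ∈ H, g * t * g⁻¹ ∈ H → t = 1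

namespace KHyp

variable {L H : Subgroup G} (K : KHyp L H)

/-- Conjugation by an element of `L` on `H`. -/
def conjH (x : L) : H →* H where
  toFun h := ⟨(x : G) * h * (x : G)⁻¹, K.normal x x.2 h h.2⟩
  map_one' := Subtype.ext (by simp)
  map_mul' a b := Subtype.ext (by simp)

theorem conjH_coe (x : L) (h : H) : ((K.conjH x h : H) : G) = (x : G) * h * (x : G)⁻¹ := rfl

/-- The action of `L` on linear characters of `H`. -/
def act (x : L) (lam : H →* ℂˣ) : H →* ℂˣ := lam.comp (K.conjH x)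

theorem act_apply (x : L) (lam : H →* ℂˣ) (h : H) : K.act x lam h = lam (K.conjH x h) := rfl

theorem act_mul (x y : L) (lam : H →* ℂˣ) : K.act (x * y) lam = K.act y (K.act x lam) := by
  ext h
  simp only [act_apply]
  congr 2
  apply Subtype.ext
  simp [conjH_coe, mul_assoc]

theorem act_one (lam : H →* ℂˣ) : K.act 1 lam = lam := by
  ext h
  simp only [act_apply]
  congr 2
  apply Subtype.ext
  simp [conjH_coe]

theorem act_triv (x : L) : K.act x 1 = 1 := by ext; simp [act_apply]

theorem act_inv (x : L) (lam : H →* ℂˣ) : K.act x lam⁻¹ = (K.act x lam)⁻¹ := by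
  ext; simp [act_apply]

theorem act_of_mem (x : L) (hx : (x : G) ∈ H) (lam : H →* ℂˣ) : K.act x lam = lam := by
  ext h
  have : K.conjH x h = (⟨x, hx⟩ : H) * h * (⟨x, hx⟩ : H)⁻¹ := Subtype.ext (by simp [conjH_coe])
  rw [act_apply, this, map_mul, map_mul, map_inv, mul_right_comm, mul_inv_cancel, one_mul]

variable [Finite G]

include K

theorem zpowers_inf {x : G} (hxL : x ∈ L) (hxH : x ∉ H) :
    Subgroup.zpowers x ⊓ H = ⊥ := by
  refine eq_bot_iff.mpr fun y hy => Subgroup.mem_bot.mpr ?_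
  by_contra hy1
  obtain ⟨i, rfl⟩ := Subgroup.mem_zpowers_iff.mp hy.1
  exact hxH (K.frob _ hy.2 hy1 ⟨hxL, Subgroup.mem_centralizer_singleton_iff.mpr
    ((Commute.refl x).zpow_right i).eq⟩)

theorem nilpotent : Group.IsNilpotent H := by
  obtain ⟨x, hxL, hxH⟩ := SetLike.exists_of_lt K.lt
  have hn : (H.subgroupOf L).Normal := ⟨fun h hh g => Subgroup.mem_subgroupOf.mpr (by
    simpa using K.normal g g.2 h (Subgroup.mem_subgroupOf.mp hh))⟩
  have : Group.IsNilpotent (H.subgroupOf L) := by
    refine FrobeniusNilpotent.isNilpotent_of_complement (H := Subgroup.zpowers (⟨x, hxL⟩ : L))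
      (Subgroup.zpowers_ne_bot.mpr fun e => hxH (by
        rw [show x = 1 from congrArg Subtype.val e]; exact one_mem H)) ?_
    intro y hy hy1
    refine eq_bot_iff.mpr fun z hz => Subgroup.mem_bot.mpr ?_
    by_contra hz1
    have hzH : (z : G) ∈ H := Subgroup.mem_subgroupOf.mp hz.1
    have hyH : (y : G) ∈ H := by
      refine K.frob (z : G) hzH (fun e => hz1 (Subtype.ext e)) ⟨y.2, ?_⟩
      exact Subgroup.mem_centralizer_singleton_iff.mpr
        (congrArg Subtype.val (Subgroup.mem_centralizer_singleton_iff.mp hz.2)).symm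
    obtain ⟨i, rfl⟩ := Subgroup.mem_zpowers_iff.mp hy
    have : ((⟨x, hxL⟩ : L) ^ i : L) = 1 := Subtype.ext (Subgroup.mem_bot.mp
      ((K.zpowers_inf hxL hxH) ▸ ⟨⟨i, by simp⟩, hyH⟩))
    exact hy1 this
  exact Group.nilpotent_of_mulEquiv (Subgroup.subgroupOfEquivOfLe K.lt.le)

theorem coprime_orderOf {x : G} (hxL : x ∈ L) (hxH : x ∉ H) :
    (orderOf x).Coprime (Nat.card H) := by
  refine Nat.coprime_of_dvd fun p hp hpx hpH => ?_
  have := Fact.mk hp
  -- an element y of order p outside H normalising H fixes a point of H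
  set y := x ^ (orderOf x / p) with hy
  have hyo : orderOf y = p := orderOf_pow_orderOf_div (orderOf_pos x).ne' hpx
  have hy1 : y ≠ 1 := fun e => hp.one_lt.ne (by rw [← hyo, e, orderOf_one])
  have hyL : y ∈ L := pow_mem hxL _
  have hyH : y ∉ H := fun h => hy1 (Subgroup.mem_bot.mp
    ((K.zpowers_inf hxL hxH) ▸ ⟨Subgroup.pow_mem _ (Subgroup.mem_zpowers x) _, h⟩))
  have hn : (H.subgroupOf L).Normal := ⟨fun h hh g => Subgroup.mem_subgroupOf.mpr (by
    simpa using K.normal g g.2 h (Subgroup.mem_subgroupOf.mp hh))⟩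
  obtain ⟨S, hS⟩ := (IsPGroup.of_card (n := 1) (by
    rw [Nat.card_zpowers, Subgroup.orderOf_mk, hyo, pow_one]) :
      IsPGroup p (Subgroup.zpowers (⟨y, hyL⟩ : L))).exists_le_sylow
  -- the Sylow subgroup meets H
  have hne : (H.subgroupOf L).subgroupOf (S : Subgroup L) ≠ ⊥ := by
    intro e
    obtain ⟨Q, hQ⟩ := exists_prime_orderOf_dvd_card' (G := H) p hpH
    obtain ⟨T, hT⟩ := (IsPGroup.of_card (n := 1) (by
      rw [Nat.card_zpowers, Subgroup.orderOf_mk, Subgroup.orderOf_coe, hQ, pow_one]) : IsPGroup p (Subgroup.zpowers (⟨(Q : G), K.lt.le Q.2⟩ : L))).exists_le_sylow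
    obtain ⟨g, hg⟩ := MulAction.exists_smul_eq L T S
    have hmem : g * ⟨(Q : G), K.lt.le Q.2⟩ * g⁻¹ ∈ (S : Subgroup L) := by
      rw [← hg]
      exact ⟨_, hT (Subgroup.mem_zpowers _), rfl⟩
    have hmemH : g * ⟨(Q : G), K.lt.le Q.2⟩ * g⁻¹ ∈ H.subgroupOf L :=
      hn.conj_mem _ (Subgroup.mem_subgroupOf.mpr Q.2) g
    rw [Subgroup.subgroupOf_eq_bot, disjoint_iff] at e
    have h1 : g * ⟨(Q : G), K.lt.le Q.2⟩ * g⁻¹ ∈ H.subgroupOf L ⊓ (S : Subgroup L) := ⟨hmemH, hmem⟩
    rw [e, Subgroup.mem_bot] at h1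
    rw [conj_eq_one_iff] at h1
    have : (Q : G) = 1 := congrArg Subtype.val h1
    rw [← Subgroup.orderOf_coe, this, orderOf_one] at hQ
    exact hp.one_lt.ne hQ
  have : Group.IsNilpotent (S : Subgroup L) := S.isPGroup'.isNilpotent
  obtain ⟨z, hzH, hz1, hzc⟩ := ThompsonAQ.exists_central_mem hne
  refine hyH (K.frob ((z : L) : G) (Subgroup.mem_subgroupOf.mp (Subgroup.mem_subgroupOf.mp hzH))
    (fun e => hz1 (Subtype.ext (Subtype.ext e))) ⟨hyL, Subgroup.mem_centralizer_singleton_iff.mpr ?_⟩)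
  exact congrArg (fun w : (S : Subgroup L) => ((w : L) : G))
    (Subgroup.mem_center_iff.mp hzc ⟨⟨y, hyL⟩, hS (Subgroup.mem_zpowers _)⟩)

/-- `L` acts semiregularly on the nontrivial linear characters. -/
theorem act_free (x : L) (lam : H →* ℂˣ) (h : K.act x lam = lam) :
    (x : G) ∈ H ∨ lam = 1 := by
  classical
  by_cases hx : (x : G) ∈ H
  · exact Or.inl hx
  right
  let f : H →* Abelianization H :=
    MonoidHom.mk' (fun k => (Abelianization.of k)⁻¹ * Abelianization.of (K.conjH x k)) fun a b => by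
      simp only [map_mul]
      rw [mul_inv, mul_mul_mul_comm]
  let fb : Abelianization H →* Abelianization H := Abelianization.lift f
  have hinj : Function.Injective fb := by
    rw [← MonoidHom.ker_eq_bot_iff, eq_bot_iff]
    intro q hq
    obtain ⟨k, rfl⟩ := QuotientGroup.mk_surjective q
    have hq' : f k = 1 := hq
    set D := (commutator H).map H.subtype with hD
    have hkx : (k : G)⁻¹ * (x : G) * k * (x : G)⁻¹ ∈ D := by
      have : Abelianization.of (k⁻¹ * K.conjH x k) = 1 := by rw [map_mul, map_inv]; exact hq'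
      refine ⟨k⁻¹ * K.conjH x k, (QuotientGroup.eq_one_iff _).mp this, ?_⟩
      simp [conjH_coe, mul_assoc]
    have hxD : (x : G) ∈ Subgroup.normalizer (D : Set G) := by
      have hchar : (commutator H).Characteristic := inferInstance
      refine ComponentsCores.normalizer_le_normalizer_map_subtype H (commutator H) ?_
      refine Subgroup.mem_normalizer_iff.mpr fun z => ⟨fun hz => K.normal x x.2 z hz, fun hz => ?_⟩
      have := K.normal (x⁻¹ : L) (inv_mem x.2) _ hz
      simpa [mul_assoc] using this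
    obtain ⟨c, hxc, hc⟩ := CoprimeAction.exists_fixed_mem_coset_zpowers (a := (x : G)) (D := D) hxD
      (Nat.Coprime.coprime_dvd_right (Subgroup.card_dvd_of_le (Subgroup.map_subtype_le _))
        (K.coprime_orderOf x.2 hx)) (k : G) hkx
    have hcH : c ∈ H := by
      have h1 := mul_mem k.2 (Subgroup.map_subtype_le _ hc)
      simpa using h1
    have hc1 : c = 1 := by
      by_contra hne
      exact hx (K.frob c hcH hne ⟨x.2, Subgroup.mem_centralizer_singleton_iff.mpr hxc⟩)
    rw [hc1, mul_one] at hc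
    obtain ⟨d, hd, hdk⟩ := hc
    refine Subgroup.mem_bot.mpr ((QuotientGroup.eq_one_iff k).mpr ?_)
    have : d = k⁻¹ := Subtype.ext hdk
    rw [← inv_inv k, ← this]
    exact inv_mem hd
  have hsurj : Function.Surjective fb := Finite.surjective_of_injective hinj
  ext k
  obtain ⟨q, hq⟩ := hsurj (Abelianization.of k)
  obtain ⟨k', rfl⟩ := QuotientGroup.mk_surjective q
  have hl : ∀ z, Abelianization.lift lam (Abelianization.of z) = lam z := fun z => Abelianization.lift_apply_of lam z
  have h2 : lam k = lam (K.conjH x k') * (lam k')⁻¹ := by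
    rw [← hl k, ← hq]
    show Abelianization.lift lam (f k') = _
    simp only [f, MonoidHom.mk'_apply, map_mul, map_inv, hl]
    exact mul_comm _ _
  rw [h2, show lam (K.conjH x k') = lam k' from DFunLike.congr_fun h k', mul_inv_cancel]
  simp

omit K [Finite G] in
theorem ne_one_inv {lam : H →* ℂˣ} (hl : lam ≠ 1) : lam⁻¹ ≠ 1 := by
  intro e
  apply hl
  ext h
  have := DFunLike.congr_fun e h
  simp only [MonoidHom.inv_apply, MonoidHom.one_apply, inv_eq_one] at this
  simp [this]

omit K in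
/-- A linear character as a function. -/
def lin (lam : H →* ℂˣ) : H → ℂ := fun h => (lam h : ℂ)

omit K [Finite G] in
theorem lin_one : lin (1 : H →* ℂˣ) = fun _ => 1 := funext fun _ => by simp [lin]

omit K in
theorem lin_inv (lam : H →* ℂˣ) : lin lam⁻¹ = fun h => conj (lin lam h) := by
  funext h
  have h1 : ‖(lam h : ℂ)‖ = 1 := norm_linear lam h
  simp only [lin, MonoidHom.inv_apply, Units.val_inv_eq_inv_val]
  exact Complex.inv_eq_conj h1

omit K in
theorem inner_lin [Fintype H] (lam mu : H →* ℂˣ) [Decidable (lam = mu)] :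
    classInner (lin lam) (lin mu) = if lam = mu then 1 else 0 := by
  classical
  show classInner (fun g => (lam g : ℂ)) (fun g => (mu g : ℂ)) = _
  rw [classInner_irr _ _ (isIrrCharacter_linear lam) (isIrrCharacter_linear mu)]
  refine if_congr ⟨fun e => MonoidHom.ext fun g => Units.ext (congrFun e g), fun e => by rw [e]⟩ rfl rfl

omit K in
theorem cf_lin (lam : H →* ℂˣ) : IsClassFunction H (lin lam) :=
  isClassFunction_of_isCharacter (isCharacter_linear lam)

omit K in
theorem gen_lin (lam : H →* ℂˣ) : IsGeneralizedCharacter H (lin lam) :=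
  isGeneralizedCharacter_of_isCharacter (isCharacter_linear lam)

/-- Number of elements of `L` mapping `lam` to `mu`, divided by `|H|`. -/
noncomputable def kk (lam mu : H →* ℂˣ) : ℂ :=
  (Nat.card {x : L // K.act x mu = lam} : ℂ) / (Nat.card H : ℂ)

omit [Finite G] in
theorem card_fibre_of_eq {lam mu : H →* ℂˣ} {y : L} (hy : K.act y mu = lam) :
    Nat.card {x : L // K.act x mu = lam} = Nat.card {x : L // K.act x lam = lam} := by
  refine Nat.card_congr
    { toFun := fun x => ⟨y⁻¹ * x.1, by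
        have h1 : K.act y⁻¹ lam = mu := by rw [← hy, ← K.act_mul, mul_inv_cancel, K.act_one]
        rw [K.act_mul, h1, x.2]⟩
      invFun := fun x => ⟨y * x.1, by rw [K.act_mul, hy, x.2]⟩
      left_inv := fun x => Subtype.ext (mul_inv_cancel_left y x.1)
      right_inv := fun x => Subtype.ext (inv_mul_cancel_left y x.1) }

theorem kk_cases {lam mu : H →* ℂˣ} (hl : lam ≠ 1) :
    (K.kk lam mu = 1 ∧ ∃ x : L, K.act x mu = lam) ∨ (K.kk lam mu = 0 ∧ ∀ x : L, K.act x mu ≠ lam) := by
  by_cases h : ∃ x : L, K.act x mu = lam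
  · obtain ⟨y, hy⟩ := h
    refine Or.inl ⟨?_, y, hy⟩
    have : Nat.card {x : L // K.act x lam = lam} = Nat.card H :=
      Nat.card_congr
        { toFun := fun x => ⟨(x.1 : G), (K.act_free x.1 lam x.2).resolve_right hl⟩
          invFun := fun h => ⟨⟨h, K.lt.le h.2⟩, K.act_of_mem _ h.2 lam⟩
          left_inv := fun _ => rfl
          right_inv := fun _ => rfl }
    rw [kk, K.card_fibre_of_eq hy, this, div_self (Nat.cast_ne_zero.mpr Nat.card_pos.ne')]
  · push Not at h
    refine Or.inr ⟨?_, h⟩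
    have : IsEmpty {x : L // K.act x mu = lam} := ⟨fun x => h x.1 x.2⟩
    rw [kk, Nat.card_of_isEmpty, Nat.cast_zero, zero_div]

theorem kk_self {lam : H →* ℂˣ} (hl : lam ≠ 1) : K.kk lam lam = 1 := by
  rcases K.kk_cases (mu := lam) hl with h | h
  · exact h.1
  · exact absurd (K.act_one lam) (h.2 1)

theorem kk_symm {lam mu : H →* ℂˣ} (hl : lam ≠ 1) (hm : mu ≠ 1) : K.kk lam mu = K.kk mu lam := by
  rcases K.kk_cases (mu := mu) hl with ⟨h, y, hy⟩ | ⟨h, h'⟩ <;>
    rcases K.kk_cases (mu := lam) hm with ⟨g, z, hz⟩ | ⟨g, g'⟩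
  · rw [h, g]
  · exact absurd (by rw [← hy, ← K.act_mul, mul_inv_cancel, K.act_one]) (g' y⁻¹)
  · exact absurd (by rw [← hz, ← K.act_mul, mul_inv_cancel, K.act_one]) (h' z⁻¹)
  · rw [h, g]

theorem kk_one_left {mu : H →* ℂˣ} (hm : mu ≠ 1) : K.kk 1 mu = 0 := by
  have : IsEmpty {x : L // K.act x mu = 1} := ⟨fun x => hm (by
    have h1 : K.act (x.1)⁻¹ (K.act x.1 mu) = mu := by rw [← K.act_mul, mul_inv_cancel, K.act_one]
    rw [← h1, x.2, K.act_triv])⟩
  rw [kk, Nat.card_of_isEmpty, Nat.cast_zero, zero_div]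

theorem kk_one_right {lam : H →* ℂˣ} (hl : lam ≠ 1) : K.kk lam 1 = 0 := by
  have : IsEmpty {x : L // K.act x 1 = lam} := ⟨fun x => hl (by rw [← x.2, K.act_triv])⟩
  rw [kk, Nat.card_of_isEmpty, Nat.cast_zero, zero_div]

/-- The index `e = [L : H]`. -/
noncomputable def ee {L H : Subgroup G} (_ : KHyp L H) : ℕ := H.relIndex L

theorem card_L : Nat.card L = Nat.card H * K.ee := by
  rw [ee, Subgroup.relIndex, ← Nat.card_congr (Subgroup.subgroupOfEquivOfLe K.lt.le).toEquiv,
    Subgroup.card_mul_index]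

theorem kk_one_one : K.kk 1 1 = K.ee := by
  have : Nat.card {x : L // K.act x 1 = (1 : H →* ℂˣ)} = Nat.card L :=
    Nat.card_congr (Equiv.subtypeUnivEquiv fun x => K.act_triv x)
  rw [kk, this, K.card_L, Nat.cast_mul, mul_comm,
    mul_div_assoc, div_self (Nat.cast_ne_zero.mpr Nat.card_pos.ne'), mul_one]

theorem sum_kk [Fintype (H →* ℂˣ)] (mu : H →* ℂˣ) : ∑ lam, K.kk lam mu = K.ee := by
  classical
  have := Fintype.ofFinite L
  simp only [kk, ← Finset.sum_div, ← Nat.cast_sum]
  have : ∑ lam, Nat.card {x : L // K.act x mu = lam} = Nat.card L := by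
    simp only [Nat.card_eq_fintype_card, Fintype.card_subtype]
    rw [← Finset.card_univ]
    exact (Finset.card_eq_sum_card_fiberwise (fun x _ => Finset.mem_univ _)).symm
  rw [this, K.card_L, Nat.cast_mul, mul_comm, mul_div_assoc,
    div_self (Nat.cast_ne_zero.mpr Nat.card_pos.ne'), mul_one]

variable [Fintype G] [Fintype H]

/-- Restriction to `H` of an induced function vanishing at `1`. -/
theorem res_ind [Fintype L] {f : H → ℂ} (hf1 : f 1 = 0) (h : H) :
    indFun H f (h : G) = (Nat.card H : ℂ)⁻¹ * ∑ x : L, f (K.conjH x h) := by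
  classical
  by_cases h1 : h = 1
  · subst h1
    simp [CharInduced.ind_one_apply, hf1]
  rw [CharInduced.indFun_apply]
  congr 1
  have key : ∀ x : G, x⁻¹ ∉ L → extendByZero H f (x⁻¹ * h * x) = 0 := by
    intro x hx
    by_cases hm : x⁻¹ * h * x ∈ H
    · exact absurd (Subtype.ext (K.ti x⁻¹ hx h h.2 (by rwa [inv_inv]))) h1
    · exact CharInduced.ext_zero_of_not_mem f hm
  rw [← Equiv.sum_comp (Equiv.inv G), ← Finset.sum_subset (Finset.subset_univ
    (Finset.univ.filter fun x : G => x ∈ L))]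
  · rw [Finset.sum_subtype (p := fun x => x ∈ L) _ (fun x => by simp)]
    refine Finset.sum_congr rfl fun x _ => ?_
    simp only [Equiv.inv_apply, inv_inv]
    rw [← CharInduced.ext_zero_coe f (K.conjH x h)]
    rfl
  · intro x _ hx
    simp only [Equiv.inv_apply]
    exact key _ (by simpa using fun hxL => hx (by simp [hxL]))

theorem inner_ind (lam lam' mu mu' : H →* ℂˣ) :
    classInner (indFun H (lin lam - lin lam')) (indFun H (lin mu - lin mu')) =
      K.kk lam mu - K.kk lam mu' - K.kk lam' mu + K.kk lam' mu' := by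
  classical
  have := Fintype.ofFinite L
  rw [CharInduced.inner_ind_left H _ (CharInduced.isClassFunction_ind H _)]
  have hres : (fun h : H => indFun H (lin mu - lin mu') (h : G)) =
      (Nat.card H : ℂ)⁻¹ • ∑ x : L, (lin (K.act x mu) - lin (K.act x mu')) := by
    funext h
    rw [K.res_ind (f := lin mu - lin mu') (by simp [lin]) h]
    simp [lin, act_apply]
  rw [hres, classInner_smul_right, classInner_sum_right, map_inv₀, Complex.conj_natCast]
  simp only [classInner_sub_left, classInner_sub_right, inner_lin, Finset.sum_sub_distrib, kk,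
    Nat.card_eq_fintype_card (α := {x : L // _}), Fintype.card_subtype, Finset.sum_boole]
  simp only [eq_comm (a := lam), eq_comm (a := lam')]
  field_simp
  ring

theorem gen_ind (lam mu : H →* ℂˣ) : IsGeneralizedCharacter G (indFun H (lin lam - lin mu)) :=
  CharInduced.isGenChar_ind H (isGeneralizedCharacter_sub (gen_lin lam) (gen_lin mu))

omit [Fintype H] in
theorem ind_sub_one (lam mu : H →* ℂˣ) : indFun H (lin lam - lin mu) 1 = 0 := by
  simp [CharInduced.ind_one_apply, lin]

omit [Fintype H] in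
theorem ind_add_trans (a b c : H →* ℂˣ) :
    indFun H (lin a - lin b) + indFun H (lin b - lin c) = indFun H (lin a - lin c) := by
  rw [← CharInduced.ind_add, sub_add_sub_cancel]

omit [Fintype H] in
theorem ind_neg' (a b : H →* ℂˣ) : indFun H (lin a - lin b) = - indFun H (lin b - lin a) := by
  rw [← CharInduced.ind_neg, neg_sub]

omit [Fintype H] in
theorem conj_ind (a b : H →* ℂˣ) :
    Cfsg.conjFun (indFun H (lin a - lin b)) = indFun H (lin a⁻¹ - lin b⁻¹) := by
  rw [lin_inv, lin_inv]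
  refine (CharInduced.ind_conj H (lin a - lin b)).symm.trans ?_
  congr 1
  funext h
  simp

variable (hodd : Odd (Nat.card G))
include hodd

theorem odd_ee : Odd K.ee :=
  (Nat.odd_mul.mp (K.card_L ▸ hodd.of_dvd_nat (Subgroup.card_subgroup_dvd_card L))).2

theorem three_le_ee : 3 ≤ K.ee := by
  have h1 := K.odd_ee hodd
  have h2 : K.ee ≠ 1 := fun e => K.lt.ne (le_antisymm K.lt.le (Subgroup.relIndex_eq_one.mp e))
  obtain ⟨k, hk⟩ := h1
  omega

theorem inv_ne {lam : H →* ℂˣ} (hl : lam ≠ 1) (x : L) : K.act x lam ≠ lam⁻¹ := by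
  intro e
  have h2 : K.act (x * x) lam = lam := by rw [K.act_mul, e, K.act_inv, e]; ext h; simp
  have hxH := (K.act_free _ _ h2).resolve_right hl
  have hx : (x : G) ∈ H := by
    obtain ⟨k, hk⟩ := (hodd.of_dvd_nat (orderOf_dvd_natCard (x : G)) : Odd (orderOf (x : G)))
    have : (x : G) = (((x * x : L) : G)) ^ (k + 1) := by
      rw [Subgroup.coe_mul, ← sq, ← pow_mul, show 2 * (k + 1) = orderOf (x : G) + 1 by omega,
        pow_succ, pow_orderOf_eq_one, one_mul]
    rw [this]
    exact pow_mem hxH _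
  rw [K.act_of_mem x hx] at e
  have h3 : ∀ h, lam h * lam h = 1 := fun h => by
    nth_rewrite 2 [e]
    simp
  apply hl
  ext h
  obtain ⟨k, hk⟩ := (hodd.of_dvd_nat ((orderOf_dvd_natCard (h : G))) : Odd (orderOf (h : G)))
  have hp : h ^ (orderOf (h : G)) = 1 := Subtype.ext (by simp [pow_orderOf_eq_one])
  have := congrArg lam hp
  rw [map_pow, hk, pow_succ, pow_mul, sq, h3, one_pow, one_mul, map_one] at this
  simp [this]

theorem kk_inv {lam : H →* ℂˣ} (hl : lam ≠ 1) : K.kk lam⁻¹ lam = 0 := by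
  rcases K.kk_cases (lam := lam⁻¹) (mu := lam) (ne_one_inv hl) with ⟨-, x, hx⟩ | h
  · exact absurd hx (K.inv_ne hodd hl x)
  · exact h.1

/-- The exceptional family. -/
theorem exists_family [Fintype (H →* ℂˣ)] :
    ∃ m : (H →* ℂˣ) → (G → ℂ), ∀ lam mu : H →* ℂˣ, lam ≠ 1 → mu ≠ 1 →
      SignedIrr (m lam) ∧ indFun H (lin lam - lin mu) = m lam - m mu ∧
        classInner (m lam) (m mu) = K.kk lam mu := by
  classical
  -- a nontrivial linear character
  obtain ⟨l0, hl0⟩ : ∃ l : H →* ℂˣ, l ≠ 1 := by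
    by_contra hall
    push Not at hall
    have : Subsingleton (H →* ℂˣ) := ⟨fun a b => by rw [hall a, hall b]⟩
    have hn := K.nilpotent
    have : Nontrivial H := (Subgroup.nontrivial_iff_ne_bot H).mpr K.ne_bot
    have h1 := CharBasicLinear.card_hom_units (G := H)
    rw [Nat.card_of_subsingleton 1] at h1
    exact (Group.IsSolvable.commutator_lt_top_of_nontrivial (G := H)).ne (Subgroup.index_eq_one.mp h1.symm)
  set D : (H →* ℂˣ) → (G → ℂ) := fun l => indFun H (lin l0 - lin l) with hD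
  have hDD : ∀ a b, a ≠ 1 → b ≠ 1 →
      classInner (D a) (D b) = 1 - K.kk l0 b - K.kk a l0 + K.kk a b := fun a b _ _ => by
    rw [hD, K.inner_ind, K.kk_self hl0]
  have hDg : ∀ a, IsGeneralizedCharacter G (D a) := fun a => K.gen_ind _ _
  have hD1 : ∀ a, D a 1 = 0 := fun a => K.ind_sub_one _ _
  have hDz : ∀ a, a ≠ 1 → K.kk l0 a = 1 → D a = 0 := by
    intro a ha h
    apply eq_zero_of_classInner_self
    rw [hDD a a ha ha, K.kk_symm ha hl0, h, K.kk_self ha]
    ring
  set l1 := l0⁻¹ with hl1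
  have hl1' : l1 ≠ 1 := ne_one_inv hl0
  have h01 : K.kk l0 l1 = 0 := by rw [K.kk_symm hl0 hl1', K.kk_inv hodd hl0]
  obtain ⟨a, b, ha, hb, hab, hsum⟩ := si_sum_of_norm_two (hDg l1) (by
    rw [hDD l1 l1 hl1' hl1', h01, K.kk_symm hl1' hl0, h01, K.kk_self hl1']; ring)
  have hba : classInner b a = 0 := by rw [← CharBasicOrth.conj_classInner, hab, map_zero]
  -- integrality
  have hint : ∀ c : G → ℂ, SignedIrr c → ∀ l, ∃ z : ℤ, classInner c (D l) = z := fun c hc l =>
    classInner_isGeneralizedCharacter (si_gen hc) (hDg l)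
  have hcomm : ∀ (u v : G → ℂ), (∃ z : ℤ, classInner u v = z) → classInner v u = classInner u v := by
    rintro u v ⟨z, hz⟩
    rw [← CharBasicOrth.conj_classInner, hz, map_intCast]
  -- one of the two constituents works for all
  obtain ⟨c, hc, hcD⟩ : ∃ c : G → ℂ, SignedIrr c ∧
      ∀ l, l ≠ 1 → K.kk l0 l = 0 → classInner c (D l) = 1 := by
    have hsum' : ∀ l, l ≠ 1 → K.kk l0 l = 0 →
        classInner a (D l) + classInner b (D l) = 1 + K.kk l1 l := by
      intro l hl h
      rw [← classInner_add_left, ← hsum, hDD l1 l hl1' hl, h, K.kk_symm hl1' hl0, h01]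
      ring
    have hval : ∀ l, l ≠ 1 → K.kk l0 l = 0 →
        (classInner a (D l) = 1 ∧ classInner b (D l) = 0) ∨
        (classInner a (D l) = 0 ∧ classInner b (D l) = 1) ∨
        (classInner a (D l) = 1 ∧ classInner b (D l) = 1) := by
      intro l hl h
      obtain ⟨x, hx⟩ := hint a ha l
      obtain ⟨y, hy⟩ := hint b hb l
      have hn2 : classInner (D l) (D l) = 2 := by
        rw [hDD l l hl hl, h, K.kk_symm hl hl0, h, K.kk_self hl]; ring
      have h0 := classInner_self_nonneg (D l - ((x : ℂ) • a + (y : ℂ) • b))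
      have he : classInner (D l - ((x : ℂ) • a + (y : ℂ) • b)) (D l - ((x : ℂ) • a + (y : ℂ) • b)) =
          ((2 - x * x - y * y : ℤ) : ℂ) := by
        simp only [classInner_sub_left, classInner_sub_right, classInner_add_left, classInner_add_right,
          classInner_smul_left, classInner_smul_right, si_self ha, si_self hb, hab, hba, hn2,
          hcomm a (D l) ⟨x, hx⟩, hcomm b (D l) ⟨y, hy⟩, hx, hy, map_intCast]
        push_cast
        ring
      rw [he, Complex.intCast_re] at h0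
      have h0' : (0 : ℤ) ≤ 2 - x * x - y * y := by exact_mod_cast h0
      have h1 := hsum' l hl h
      rw [hx, hy] at h1
      rw [hx, hy]
      rcases K.kk_cases (lam := l1) (mu := l) hl1' with ⟨e, -⟩ | ⟨e, -⟩ <;> rw [e] at h1
      · have h1' : x + y = 2 := by exact_mod_cast (h1.trans (by norm_num : (1 : ℂ) + 1 = ((2 : ℤ) : ℂ)))
        have hxy : x = 1 ∧ y = 1 := by constructor <;> nlinarith [mul_self_nonneg (x - 1), mul_self_nonneg (y - 1)]
        exact Or.inr (Or.inr ⟨by simp [hxy.1], by simp [hxy.2]⟩)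
      · have h1' : x + y = 1 := by exact_mod_cast (h1.trans (by norm_num : (1 : ℂ) + 0 = ((1 : ℤ) : ℂ)))
        have hx1 : x ≤ 1 := by nlinarith [mul_self_nonneg y]
        have hy1 : y ≤ 1 := by nlinarith [mul_self_nonneg x]
        rcases (show x = 0 ∨ x = 1 by omega) with e | e
        · exact Or.inr (Or.inl ⟨by simp [e], by simp [show y = 1 by omega]⟩)
        · exact Or.inl ⟨by simp [e], by simp [show y = 0 by omega]⟩
    by_cases hA : ∀ l, l ≠ 1 → K.kk l0 l = 0 → classInner a (D l) = 1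
    · exact ⟨a, ha, hA⟩
    refine ⟨b, hb, fun k hk hk0 => ?_⟩
    by_contra hbk
    push Not at hA
    obtain ⟨k', hk', hk'0, hak'⟩ := hA
    have hk1 : classInner a (D k) = 1 ∧ classInner b (D k) = 0 := by
      rcases hval k hk hk0 with h | h | h
      · exact h
      · exact absurd h.2 hbk
      · exact absurd h.2 hbk
    have hk1' : classInner a (D k') = 0 ∧ classInner b (D k') = 1 := by
      rcases hval k' hk' hk'0 with h | h | h
      · exact absurd h.1 hak'
      · exact h
      · exact absurd h.1 hak'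
    have hca := hcomm _ _ (hint a ha k)
    have hcb := hcomm _ _ (hint b hb k)
    have hca' := hcomm _ _ (hint a ha k')
    have hcb' := hcomm _ _ (hint b hb k')
    have hn : ∀ l, l ≠ 1 → K.kk l0 l = 0 → classInner (D l) (D l) = 2 := fun l hl h => by
      rw [hDD l l hl hl, h, K.kk_symm hl hl0, h, K.kk_self hl]; ring
    have hkk' : classInner (D k) (D k') = 1 + K.kk k k' := by
      rw [hDD k k' hk hk', hk'0, K.kk_symm hk hl0, hk0]; ring
    have hk'k : classInner (D k') (D k) = 1 + K.kk k k' := by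
      rw [hDD k' k hk' hk, hk0, K.kk_symm hk' hl0, hk'0, K.kk_symm hk' hk]; ring
    set w := (D k - a) - (D k' - b) with hw
    have he : classInner w w = -(2 * K.kk k k') := by
      simp only [hw, classInner_sub_left, classInner_sub_right, si_self ha, si_self hb, hab, hba,
        hn k hk hk0, hn k' hk' hk'0, hkk', hk'k, hk1.1, hk1.2, hk1'.1, hk1'.2, hca, hcb, hca', hcb']
      ring
    have h0 := classInner_self_nonneg w
    rw [he] at h0
    have hkz : K.kk k k' = 0 := by
      rcases K.kk_cases (lam := k) (mu := k') hk with ⟨e, -⟩ | ⟨e, -⟩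
      · rw [e] at h0; norm_num at h0
      · exact e
    rw [hkz, mul_zero, neg_zero] at he
    have hw0 := eq_zero_of_classInner_self he
    have h1 := congrFun hw0 1
    simp only [hw, Pi.sub_apply, hD1, Pi.zero_apply] at h1
    have h2 := congrFun hsum 1
    rw [hD1, Pi.add_apply] at h2
    exact si_apply_one_ne_zero ha (by linear_combination -(h1 + h2) / 2)
  have hcD' : ∀ l, l ≠ 1 → classInner c (D l) = 1 - K.kk l0 l := by
    intro l hl
    rcases K.kk_cases (lam := l0) (mu := l) hl0 with ⟨e, -⟩ | ⟨e, -⟩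
    · rw [e, hDz l hl e, classInner_zero_right, sub_self]
    · rw [e, sub_zero, hcD l hl e]
  refine ⟨fun l => c - D l, fun lam mu hlam hmu => ?_⟩
  have hinner : ∀ x y, x ≠ 1 → y ≠ 1 → classInner (c - D x) (c - D y) = K.kk x y := by
    intro x y hx hy
    simp only [classInner_sub_left, classInner_sub_right, si_self hc, hDD x y hx hy, hcD' y hy,
      hcomm _ _ (hint c hc x), hcD' x hx, K.kk_symm hx hl0]
    ring
  refine ⟨si_of_norm_one (isGeneralizedCharacter_sub (si_gen hc) (hDg lam))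
    (by rw [hinner lam lam hlam hlam, K.kk_self hlam]), ?_, hinner lam mu hlam hmu⟩
  rw [sub_sub_sub_cancel_left, hD]
  simp only
  rw [← CharInduced.ind_sub]
  congr 1
  abel

omit hodd in
/-- Projection bound on the kernel. -/
theorem local_bound [DecidableEq H] [Fintype (H →* ℂˣ)] [DecidableEq (H →* ℂˣ)] (χ : G → ℂ) (hχ : IsClassFunction G χ)
    (r : (H →* ℂˣ) → ℝ) (hr : ∀ l, classInner χ (indFun H (lin 1 - lin l)) = r l) :
    (∑ l ∈ Finset.univ.erase 1, r l ^ 2) - (∑ l ∈ Finset.univ.erase 1, r l) ^ 2 /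
        (Fintype.card (H →* ℂˣ) : ℝ) ≤
      (Nat.card H : ℝ)⁻¹ * ∑ h ∈ (Finset.univ : Finset H).erase 1, ‖χ (h : G)‖ ^ 2 := by
  classical
  set Λ := (Finset.univ : Finset (H →* ℂˣ)).erase 1 with hΛ
  set N : ℝ := (Fintype.card (H →* ℂˣ) : ℝ) with hN
  have hN0 : N ≠ 0 := Nat.cast_ne_zero.mpr Fintype.card_ne_zero
  have hΛc : (Λ.card : ℝ) = N - 1 := by
    rw [hΛ, Finset.card_erase_of_mem (Finset.mem_univ _), Finset.card_univ,
      Nat.cast_sub Fintype.card_pos, Nat.cast_one]
  set w : (H →* ℂˣ) → ℝ := fun l => r l - (∑ l ∈ Λ, r l) / N with hw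
  set f : H → ℂ := ∑ l ∈ Λ, (w l : ℂ) • (lin 1 - lin l) with hf
  have hχf : classInner (fun h : H => χ h) f = ((∑ l ∈ Λ, w l * r l : ℝ) : ℂ) := by
    rw [hf, classInner_sum_right]
    push_cast
    refine Finset.sum_congr rfl fun l _ => ?_
    rw [classInner_smul_right, Complex.conj_ofReal, ← hr, CharInduced.inner_ind_right H _ hχ]
  have hff : classInner f f = ((∑ l ∈ Λ, w l * r l : ℝ) : ℂ) := by
    have e1 : ∀ l ∈ Λ, ∀ l' ∈ Λ, classInner (lin 1 - lin l) (lin 1 - lin l') =
        1 + if l = l' then 1 else 0 := fun l hl l' hl' => by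
      simp only [classInner_sub_left, classInner_sub_right, inner_lin,
        if_neg (Finset.ne_of_mem_erase hl), if_neg (Ne.symm (Finset.ne_of_mem_erase hl'))]
      split_ifs <;> simp
    have e2 : classInner f f = (((∑ l ∈ Λ, w l) ^ 2 + ∑ l ∈ Λ, w l ^ 2 : ℝ) : ℂ) := by
      have e3 : ∀ l ∈ Λ, classInner ((w l : ℂ) • (lin 1 - lin l)) f =
          ((w l * ∑ l ∈ Λ, w l + w l ^ 2 : ℝ) : ℂ) := fun l hl => by
        rw [hf, classInner_smul_left, classInner_sum_right]
        have e4 : ∀ l' ∈ Λ, classInner (lin 1 - lin l) ((w l' : ℂ) • (lin 1 - lin l')) =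
            (w l' : ℂ) + if l = l' then (w l' : ℂ) else 0 := fun l' hl' => by
          rw [classInner_smul_right, Complex.conj_ofReal, e1 l hl l' hl', mul_add, mul_one, mul_ite,
            mul_one, mul_zero]
        rw [Finset.sum_congr rfl e4, Finset.sum_add_distrib, Finset.sum_ite_eq, if_pos hl]
        push_cast
        ring
      calc classInner f f = ∑ l ∈ Λ, classInner ((w l : ℂ) • (lin 1 - lin l)) f := by
            conv_lhs => arg 1; rw [hf]
            rw [classInner_sum_left]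
        _ = _ := by
            rw [Finset.sum_congr rfl e3]
            push_cast
            rw [Finset.sum_add_distrib, ← Finset.sum_mul, sq (∑ l ∈ Λ, (w l : ℂ))]
    rw [e2]
    congr 1
    have hsw : ∑ l ∈ Λ, w l = (∑ l ∈ Λ, r l) / N := by
      simp only [hw, Finset.sum_sub_distrib, Finset.sum_const, nsmul_eq_mul, hΛc]
      field_simp
      ring
    have hww : ∑ l ∈ Λ, w l ^ 2 = ∑ l ∈ Λ, w l * r l - (∑ l ∈ Λ, w l) * ((∑ l ∈ Λ, r l) / N) := by
      rw [Finset.sum_mul, ← Finset.sum_sub_distrib]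
      exact Finset.sum_congr rfl fun l _ => by simp only [hw]; ring
    rw [hww, ← hsw]
    ring
  have hval : ∑ l ∈ Λ, w l * r l = ∑ l ∈ Λ, r l ^ 2 - (∑ l ∈ Λ, r l) ^ 2 / N := by
    have : ∀ l, w l * r l = r l ^ 2 - (∑ l ∈ Λ, r l) / N * r l := fun l => by simp only [hw]; ring
    rw [Finset.sum_congr rfl fun l _ => this l, Finset.sum_sub_distrib, ← Finset.mul_sum]
    ring
  have hf1 : f 1 = 0 := by simp [hf, lin]
  set t := ∑ l ∈ Λ, w l * r l with ht
  rw [← hval]
  have hexp : (Nat.card H : ℝ)⁻¹ * ∑ h ∈ (Finset.univ : Finset H).erase 1, ‖χ (h : G) - f h‖ ^ 2 =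
      (Nat.card H : ℝ)⁻¹ * (∑ h ∈ (Finset.univ : Finset H).erase 1, ‖χ (h : G)‖ ^ 2) - t := by
    have hs : ∀ a : H → ℂ, (Nat.card H : ℂ)⁻¹ * ∑ h ∈ (Finset.univ : Finset H).erase 1, a h * conj (f h) =
        classInner a f := fun a => by
      rw [classInner, Finset.sum_erase _ (by simp [hf1])]
    have hpt : ∀ h : H, ((‖χ (h : G) - f h‖ ^ 2 : ℝ) : ℂ) =
        ((‖χ (h : G)‖ ^ 2 : ℝ) : ℂ) - χ h * conj (f h) - conj (χ h * conj (f h)) + f h * conj (f h) := by
      intro h
      push_cast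
      rw [← Complex.mul_conj', ← Complex.mul_conj', map_sub, map_mul, Complex.conj_conj]
      ring
    have := congrArg (fun z : ℂ => z) (rfl :
      (((Nat.card H : ℝ)⁻¹ * ∑ h ∈ (Finset.univ : Finset H).erase 1, ‖χ (h : G) - f h‖ ^ 2 : ℝ) : ℂ) = _)
    apply Complex.ofReal_injective
    push_cast
    simp only [← Complex.ofReal_pow]
    rw [Finset.sum_congr rfl fun h _ => hpt h]
    simp only [Finset.sum_add_distrib, Finset.sum_sub_distrib, mul_add, mul_sub, ← map_sum]
    have h1 := hs (fun h : H => χ h)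
    have h2 := hs f
    rw [hχf] at h1
    rw [hff] at h2
    have h3 : (Nat.card H : ℂ)⁻¹ * conj (∑ h ∈ (Finset.univ : Finset H).erase 1, χ h * conj (f h)) = t := by
      have := congrArg conj h1
      rwa [map_mul, map_inv₀, Complex.conj_natCast, Complex.conj_ofReal] at this
    rw [h1, h2, h3]
    ring
  have h0 : 0 ≤ (Nat.card H : ℝ)⁻¹ * ∑ h ∈ (Finset.univ : Finset H).erase 1, ‖χ (h : G) - f h‖ ^ 2 := by
    positivity
  rw [hexp] at h0
  linarith

end KHyp

end Cfsg.Agent.FrobeniusKernelChars
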