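import Cfsg.Prelude
import Cfsg.Agent.Lib.FrobeniusKernelChars

/-!
No group of odd order is covered by the conjugates of at least two TI Frobenius kernels of pairwise
coprime order (the character-theoretic step of the CN theorem).
-/

namespace Cfsg.Agent.FrobeniusPartition

open Cfsg Cfsg.Agent.CharBasic Cfsg.Agent.CharBasicOrth Cfsg.Agent.CharBasicDecomp
open Cfsg.Agent.CoherenceBasic Cfsg.Agent.FrobeniusKernelChars
open Cfsg.Agent.FrobeniusKernelChars.KHyp
open scoped ComplexConjugate

/-- The final inequality. -/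
theorem numeric {ι : Type*} [Fintype ι] [DecidableEq ι] (w : ι → ℝ) (a e : ι → ℕ) (n : ι → ℕ)
    (g : ℝ) (i : ι) (A B : Finset ι)
    (hsum : ∑ l, w l + 1 / g = 1)
    (hAB : Finset.univ.erase i = A ∪ B) (hdisj : Disjoint A B) (hne : (Finset.univ.erase i).Nonempty)
    (ha : ∀ l, a l = n l * e l + 1) (he : ∀ l, 3 ≤ e l) (hn : ∀ l, Even (n l) ∧ n l ≠ 0)
    (hodd : ∀ l, Odd (a l)) (heodd : ∀ l, Odd (e l))
    (hmin : ∀ l, l ≠ i → a i + 2 ≤ a l) (hinj : Function.Injective a)
    (hg : ∀ l, l ≠ i → (a i : ℝ) * a l ≤ g)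
    (hw0 : ∀ l, w l ≤ 1 / (e l : ℝ))
    (hw1 : ∀ l, w l * ((a l : ℝ) - 1) ≤ (n l : ℝ))
    (hw2 : ∀ l, w l = (n l : ℝ) / a l ∨ 25 ≤ a l)
    (hA : ∑ l ∈ A, (n l : ℝ) / a l ≤ (e i : ℝ) / a i)
    (hB : ∑ l ∈ B, (n l : ℝ) ≤ (e i : ℝ) - 1) : False := by
  have hsplit : ∑ l, w l = w i + (∑ l ∈ A, w l + ∑ l ∈ B, w l) := by
    rw [← Finset.sum_union hdisj, ← hAB, Finset.add_sum_erase _ _ (Finset.mem_univ i)]
  have memA : ∀ l ∈ A, l ≠ i := fun l hl =>
    Finset.ne_of_mem_erase (hAB ▸ Finset.mem_union_left B hl)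
  have memB : ∀ l ∈ B, l ≠ i := fun l hl =>
    Finset.ne_of_mem_erase (hAB ▸ Finset.mem_union_right A hl)
  obtain ⟨l₁, hl₁⟩ := hne
  have hl₁' := Finset.ne_of_mem_erase hl₁
  set X : ℝ := (a i : ℝ) with hX
  set E : ℝ := (e i : ℝ) with hE
  have hE3 : 3 ≤ E := by rw [hE]; exact_mod_cast he i
  have hXeq : X = n i * E + 1 := by rw [hX, hE]; exact_mod_cast ha i
  have hn2 : 2 ≤ n i := by
    obtain ⟨⟨k, hk⟩, h0⟩ := hn i
    omega
  have hXg : X * (X + 2) ≤ g := by
    refine le_trans (mul_le_mul_of_nonneg_left ?_ (Nat.cast_nonneg _)) (hg l₁ hl₁')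
    rw [hX]; exact_mod_cast hmin l₁ hl₁'
  have hX7 : 7 ≤ X := by
    have : (2 : ℝ) ≤ n i := by exact_mod_cast hn2
    nlinarith
  have hginv : 1 / g ≤ 1 / (X * (X + 2)) :=
    one_div_le_one_div_of_le (by positivity) hXg
  have hq : ∀ l, w l ≤ (n l : ℝ) / ((a l : ℝ) - 1) := fun l => by
    have : (1 : ℝ) < a l := by
      have h1 := ha l; have h2 := he l; have h3 := (hn l).2
      have h4 : 0 < n l * e l := Nat.mul_pos (Nat.pos_of_ne_zero h3) (by omega)
      have h5 : 1 < a l := by omega
      exact_mod_cast h5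
    rw [le_div_iff₀ (by linarith)]
    exact hw1 l
  have hq0 : ∀ l, 0 ≤ (n l : ℝ) / a l := fun l => by positivity
  -- generic estimates
  have estA : ∀ M : ℝ, 0 < M → ∀ l, M + 1 ≤ a l → w l ≤ (n l : ℝ) / a l * ((M + 1) / M) := by
    intro M hM l hl
    refine le_trans (hq l) ?_
    have h1 : (0 : ℝ) < (a l : ℝ) - 1 := by linarith
    have h2 : (0 : ℝ) < a l := by linarith
    rw [div_mul_div_comm, div_le_div_iff₀ h1 (by positivity)]
    nlinarith [mul_nonneg (Nat.cast_nonneg (α := ℝ) (n l)) (show (0 : ℝ) ≤ (a l : ℝ) - (M + 1) by linarith)]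
  have estB : ∀ M : ℝ, 0 < M → ∀ l, M + 1 ≤ a l → w l ≤ (n l : ℝ) / M := by
    intro M hM l hl
    refine le_trans (hq l) (div_le_div_of_nonneg_left (Nat.cast_nonneg _) hM (by linarith))
  have hwi : w i ≤ 1 / E := hw0 i
  by_cases hn4 : 4 ≤ n i
  · have hX4 : 4 * E + 1 ≤ X := by
      have : (4 : ℝ) ≤ n i := by exact_mod_cast hn4
      nlinarith
    have hM : ∀ l, l ≠ i → X + 1 + 1 ≤ (a l : ℝ) := fun l hl => by
      have : ((a i + 2 : ℕ) : ℝ) ≤ a l := by exact_mod_cast hmin l hl
      push_cast at this; linarith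
    have h1 : ∑ l ∈ A, w l ≤ E / X * ((X + 1 + 1) / (X + 1)) := by
      refine (Finset.sum_le_sum fun l hl => estA (X + 1) (by linarith) l (hM l (memA l hl))).trans ?_
      rw [← Finset.sum_mul]
      exact mul_le_mul_of_nonneg_right hA (by positivity)
    have h2 : ∑ l ∈ B, w l ≤ (E - 1) / (X + 1) := by
      refine (Finset.sum_le_sum fun l hl => estB (X + 1) (by linarith) l (hM l (memB l hl))).trans ?_
      rw [← Finset.sum_div]
      exact div_le_div_of_nonneg_right hB (by linarith)
    have h3 : 1 / E ≤ 1 / 3 := one_div_le_one_div_of_le (by norm_num) hE3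
    have h4 : E / X ≤ 1 / 4 := by rw [div_le_iff₀ (by linarith)]; linarith
    have h5 : (X + 1 + 1) / (X + 1) ≤ 9 / 8 := by rw [div_le_iff₀ (by linarith)]; linarith
    have h6 : (E - 1) / (X + 1) ≤ 1 / 4 := by rw [div_le_iff₀ (by linarith)]; linarith
    have h7 : 1 / (X * (X + 2)) ≤ 1 / 63 := one_div_le_one_div_of_le (by norm_num) (by nlinarith)
    have h8 : E / X * ((X + 1 + 1) / (X + 1)) ≤ 1 / 4 * (9 / 8) :=
      mul_le_mul h4 h5 (by positivity) (by norm_num)
    linarith
  have hni : n i = 2 := by obtain ⟨⟨k, hk⟩, h0⟩ := hn i; omega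
  have hX2 : X = 2 * E + 1 := by rw [hXeq, hni]; norm_num
  by_cases hEs : e i ≤ 9
  · -- small cases
    have hw25 : ∀ l, l ≠ i → w l ≤ (n l : ℝ) / a l * (25 / 24) ∧ w l ≤ (n l : ℝ) / (X + 2) := by
      intro l hl
      have hle : X + 2 ≤ (a l : ℝ) := by rw [hX]; exact_mod_cast hmin l hl
      rcases hw2 l with h | h
      · rw [h]
        refine ⟨by nlinarith [hq0 l], ?_⟩
        exact div_le_div_of_nonneg_left (Nat.cast_nonneg _) (by linarith) hle
      · have h' : (25 : ℝ) ≤ a l := by exact_mod_cast h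
        refine ⟨le_trans (estA 24 (by norm_num) l (by linarith)) (by norm_num),
          le_trans (estB 24 (by norm_num) l (by linarith)) ?_⟩
        refine div_le_div_of_nonneg_left (Nat.cast_nonneg _) (by linarith) ?_
        have : E ≤ 9 := by rw [hE]; exact_mod_cast hEs
        linarith
    have h1 : ∑ l ∈ A, w l ≤ E / X * (25 / 24) := by
      refine (Finset.sum_le_sum fun l hl => (hw25 l (memA l hl)).1).trans ?_
      rw [← Finset.sum_mul]
      exact mul_le_mul_of_nonneg_right hA (by norm_num)
    have h2 : ∑ l ∈ B, w l ≤ (E - 1) / (X + 2) := by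
      refine (Finset.sum_le_sum fun l hl => (hw25 l (memB l hl)).2).trans ?_
      rw [← Finset.sum_div]
      exact div_le_div_of_nonneg_right hB (by linarith)
    have ha25 : ¬ 25 ≤ a i := by rw [ha i, hni]; omega
    have hwi' : w i = 2 / X := by rw [(hw2 i).resolve_right ha25, hni, hX]; norm_num
    rw [hX2] at h1 h2 hginv hwi'
    obtain ⟨k, hk⟩ := heodd i
    have hk' : k ∈ Finset.Icc 1 4 := Finset.mem_Icc.mpr ⟨by have := he i; omega, by omega⟩
    fin_cases hk' <;> (rw [hE, hk] at h1 h2 hginv hwi'; norm_num at h1 h2 hginv hwi' hsum; linarith)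
  · -- e ≥ 11
    have hE11 : 11 ≤ E := by
      obtain ⟨k, hk⟩ := heodd i
      have : 11 ≤ e i := by omega
      rw [hE]; exact_mod_cast this
    -- at most one index has a = a i + 2
    have hfour : ∀ l, l ≠ i → a l ≠ a i + 2 → X + 4 ≤ (a l : ℝ) := by
      intro l hl h
      have h1 := hmin l hl
      obtain ⟨k, hk⟩ := hodd l
      obtain ⟨k', hk'⟩ := hodd i
      have : a i + 4 ≤ a l := by omega
      rw [hX]; exact_mod_cast this
    have hextra : ∀ l, l ≠ i → a l = a i + 2 →
        w l ≤ (n l : ℝ) / a l * ((X + 4) / (X + 3)) + 2 / (3 * (X + 3)) ∧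
          w l ≤ (n l : ℝ) / (X + 3) + 2 / (3 * (X + 3)) := by
      intro l hl h
      have hal : (a l : ℝ) = X + 2 := by rw [h, hX]; push_cast; ring
      have hnl : (n l : ℝ) * 3 ≤ X + 1 := by
        have h1 := ha l
        have h2 : n l * 3 ≤ n l * e l := Nat.mul_le_mul_left _ (he l)
        have h3 : n l * 3 ≤ a i + 1 := by omega
        rw [hX]; exact_mod_cast h3
      have hw := hq l
      rw [hal] at hw ⊢
      rw [show X + 2 - 1 = X + 1 by ring] at hw
      have e1 : (n l : ℝ) / (X + 1) ≤ (n l : ℝ) / (X + 2) * ((X + 4) / (X + 3)) + 2 / (3 * (X + 3)) := by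
        rw [div_mul_div_comm, div_add_div _ _ (by positivity) (by positivity),
          div_le_div_iff₀ (by positivity) (by positivity)]
        have hk : 0 ≤ (X + 2) * (X + 1) - 3 * (n l : ℝ) := by nlinarith
        nlinarith [mul_nonneg (show (0:ℝ) ≤ X + 3 by linarith) hk]
      have e2 : (n l : ℝ) / (X + 1) ≤ (n l : ℝ) / (X + 3) + 2 / (3 * (X + 3)) := by
        rw [div_add_div _ _ (by positivity) (by positivity),
          div_le_div_iff₀ (by positivity) (by positivity)]
        nlinarith
      exact ⟨hw.trans e1, hw.trans e2⟩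
    set S := (Finset.univ.erase i).filter (fun l => a l = a i + 2) with hS
    have hScard : (S.card : ℝ) ≤ 1 := by
      have : S.card ≤ 1 := Finset.card_le_one.mpr fun x hx y hy => hinj (by
        rw [(Finset.mem_filter.mp hx).2, (Finset.mem_filter.mp hy).2])
      exact_mod_cast this
    set δ : ℝ := 2 / (3 * (X + 3)) with hδ
    have bA : ∀ l ∈ A, w l ≤ (n l : ℝ) / a l * ((X + 4) / (X + 3)) + if l ∈ S then δ else 0 := by
      intro l hl
      split_ifs with h
      · exact (hextra l (memA l hl) (Finset.mem_filter.mp h).2).1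
      · rw [add_zero]
        have := estA (X + 3) (by linarith) l (by
          have := hfour l (memA l hl) fun e' => h (Finset.mem_filter.mpr
            ⟨Finset.mem_erase.mpr ⟨memA l hl, Finset.mem_univ _⟩, e'⟩)
          linarith)
        rwa [show X + 3 + 1 = X + 4 by ring] at this
    have bB : ∀ l ∈ B, w l ≤ (n l : ℝ) / (X + 3) + if l ∈ S then δ else 0 := by
      intro l hl
      split_ifs with h
      · exact (hextra l (memB l hl) (Finset.mem_filter.mp h).2).2
      · rw [add_zero]
        refine estB (X + 3) (by linarith) l ?_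
        have := hfour l (memB l hl) fun e' => h (Finset.mem_filter.mpr
          ⟨Finset.mem_erase.mpr ⟨memB l hl, Finset.mem_univ _⟩, e'⟩)
        linarith
    have h1 : ∑ l ∈ A, w l + ∑ l ∈ B, w l ≤ E / X * ((X + 4) / (X + 3)) + (E - 1) / (X + 3) + δ := by
      refine (add_le_add (Finset.sum_le_sum bA) (Finset.sum_le_sum bB)).trans ?_
      rw [Finset.sum_add_distrib, Finset.sum_add_distrib, ← Finset.sum_mul, ← Finset.sum_div]
      have hd : ∑ l ∈ A, (if l ∈ S then δ else 0) + ∑ l ∈ B, (if l ∈ S then δ else 0) ≤ δ := by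
        rw [← Finset.sum_union hdisj, ← hAB, ← Finset.sum_filter, Finset.sum_const, nsmul_eq_mul]
        have hsub : (Finset.univ.erase i).filter (fun l => l ∈ S) = S := by
          ext l
          simp only [hS, Finset.mem_filter]
          tauto
        rw [hsub]
        have : 0 ≤ δ := by rw [hδ]; positivity
        nlinarith
      have hA' := mul_le_mul_of_nonneg_right hA (show (0:ℝ) ≤ (X + 4) / (X + 3) by positivity)
      have hB' := div_le_div_of_nonneg_right hB (show (0:ℝ) ≤ X + 3 by linarith)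
      linarith
    have key : 1 / E + (E / X * ((X + 4) / (X + 3)) + (E - 1) / (X + 3) + δ) + 1 / (X * (X + 2)) < 1 := by
      rw [hδ, hX2]
      field_simp
      nlinarith [sq_nonneg (E - 11), mul_nonneg (show (0:ℝ) ≤ E by linarith) (sq_nonneg (E - 11)),
        mul_nonneg (show (0:ℝ) ≤ E - 11 by linarith) (sq_nonneg E)]
    linarith

universe u

variable {G : Type u} [Group G]

/-- A nilpotent group with squarefree abelianisation order is abelian. -/
theorem commutator_eq_bot_of_squarefree {N : Type*} [Group N] [Finite N] [hn : Group.IsNilpotent N]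
    (h : Squarefree (commutator N).index) : commutator N = ⊥ := by
  have hc : IsCyclic (Abelianization N) := by
    have : IsZGroup (Abelianization N) := IsZGroup.of_squarefree h
    infer_instance
  obtain ⟨q, hq⟩ := hc.exists_generator
  obtain ⟨x, rfl⟩ := QuotientGroup.mk_surjective q
  have htop : Subgroup.zpowers x ⊔ commutator N = ⊤ := by
    refine top_le_iff.mp fun y _ => ?_
    obtain ⟨i, hi⟩ := Subgroup.mem_zpowers_iff.mp (hq (Abelianization.of y))
    have h1 : (x ^ i)⁻¹ * y ∈ commutator N := QuotientGroup.eq.mp (by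
      rw [QuotientGroup.mk_zpow]; exact hi)
    have : y = x ^ i * ((x ^ i)⁻¹ * y) := by group
    rw [this]
    exact mul_mem (Subgroup.mem_sup_left (Subgroup.zpow_mem _ (Subgroup.mem_zpowers x) _))
      (Subgroup.mem_sup_right h1)
  have hfr : commutator N ≤ frattini N := by
    refine le_iInf₂ fun M hM => ?_
    have hMn : M.Normal :=
      ((Group.isNilpotent_of_finite_tfae (G := N)).out 0 2 rfl rfl).mp hn M hM
    by_contra hle
    have hsup : M ⊔ commutator N = ⊤ := hM.2 _ (lt_of_le_of_ne le_sup_left fun e =>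
      hle (e ▸ le_sup_right))
    have : Nontrivial (N ⧸ M) := QuotientGroup.nontrivial_iff.mpr hM.1
    refine (Group.IsSolvable.commutator_lt_top_of_nontrivial (G := N ⧸ M)).ne ?_
    have h1 := congrArg (Subgroup.map (QuotientGroup.mk' M)) hsup
    rw [Subgroup.map_sup, QuotientGroup.map_mk'_self, bot_sup_eq,
      Subgroup.map_top_of_surjective _ (QuotientGroup.mk'_surjective M)] at h1
    rw [← h1, commutator_def, commutator_def, Subgroup.map_commutator,
      Subgroup.map_top_of_surjective _ (QuotientGroup.mk'_surjective M)]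
  have hx : Subgroup.zpowers x = ⊤ :=
    frattini_nongenerating (top_le_iff.mp (htop ▸ sup_le_sup_left hfr _))
  rw [commutator_def, Subgroup.commutator_eq_bot_iff_le_centralizer]
  intro a _
  refine Subgroup.mem_centralizer_iff.mpr fun b _ => ?_
  obtain ⟨i, rfl⟩ := Subgroup.mem_zpowers_iff.mp (hx ▸ Subgroup.mem_top a)
  obtain ⟨j, rfl⟩ := Subgroup.mem_zpowers_iff.mp (hx ▸ Subgroup.mem_top b)
  rw [← zpow_add, ← zpow_add, add_comm]

/-- Bessel's inequality for an orthogonal family with real coefficients. -/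
theorem bessel [Fintype G] {κ : Type*} (s : Finset κ) (z : κ → G → ℂ) (β : G → ℂ) (N c : κ → ℝ)
    (hN : ∀ k ∈ s, 0 < N k) (horth : ∀ k ∈ s, ∀ k' ∈ s, k ≠ k' → classInner (z k) (z k') = 0)
    (hzz : ∀ k ∈ s, classInner (z k) (z k) = N k) (hc : ∀ k ∈ s, classInner β (z k) = c k) :
    ∑ k ∈ s, c k ^ 2 / N k ≤ (classInner β β).re := by
  classical
  set T : G → ℂ := ∑ k ∈ s, ((c k / N k : ℝ) : ℂ) • z k with hT
  have h1 : classInner β T = ((∑ k ∈ s, c k ^ 2 / N k : ℝ) : ℂ) := by
    rw [hT, classInner_sum_right]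
    push_cast
    refine Finset.sum_congr rfl fun k hk => ?_
    rw [classInner_smul_right, map_div₀, Complex.conj_ofReal, Complex.conj_ofReal, hc k hk]
    ring
  have h2 : classInner T T = ((∑ k ∈ s, c k ^ 2 / N k : ℝ) : ℂ) := by
    conv_lhs => rw [hT]
    rw [classInner_sum_left]
    push_cast
    refine Finset.sum_congr rfl fun k hk => ?_
    rw [classInner_smul_left, classInner_sum_right, Finset.sum_eq_single k]
    · rw [classInner_smul_right, map_div₀, Complex.conj_ofReal, Complex.conj_ofReal, hzz k hk]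
      have : (N k : ℂ) ≠ 0 := Complex.ofReal_ne_zero.mpr (hN k hk).ne'
      push_cast
      field_simp
    · intro k' hk' hne
      rw [classInner_smul_right, horth k hk k' hk' (Ne.symm hne), mul_zero]
    · exact fun h => absurd hk h
  have h0 := classInner_self_nonneg (β - T)
  rw [classInner_sub_left, classInner_sub_right, classInner_sub_right, h1, h2,
    ← CharBasicOrth.conj_classInner β T, h1, Complex.conj_ofReal] at h0
  simp only [Complex.sub_re, Complex.ofReal_re] at h0
  linarith

theorem conj_fixed_one [Fintype G] (hodd : Odd (Nat.card G)) {χ : G → ℂ} (hχ : IsIrrCharacter G χ)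
    (h : Cfsg.conjFun χ = χ) : χ = fun _ => 1 := by
  refine Cfsg.Agent.S0161.real_eq_one hodd hχ fun g => ?_
  rw [isCharacter_inv (isCharacter_of_isIrrCharacter hχ) g]
  exact congrFun h g

variable [Fintype G] {ι : Type*} [Fintype ι] (L H : ι → Subgroup G) (K : ∀ i, KHyp (L i) (H i))
  (hodd : Odd (Nat.card G)) (hcop : ∀ i j, i ≠ j → (Nat.card (H i)).Coprime (Nat.card (H j)))

include hcop in
theorem conj_disjoint {i j : ι} (hij : i ≠ j) {g x y : G} (hx : x⁻¹ * g * x ∈ H i)
    (hy : y⁻¹ * g * y ∈ H j) : g = 1 := by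
  have h1 : orderOf g ∣ Nat.card (H i) := by
    have := Subgroup.orderOf_dvd_natCard _ hx
    rwa [show orderOf (x⁻¹ * g * x) = orderOf g from by
      have := MulEquiv.orderOf_eq (MulAut.conj x⁻¹) g; simpa using this] at this
  have h2 : orderOf g ∣ Nat.card (H j) := by
    have := Subgroup.orderOf_dvd_natCard _ hy
    rwa [show orderOf (y⁻¹ * g * y) = orderOf g from by
      have := MulEquiv.orderOf_eq (MulAut.conj y⁻¹) g; simpa using this] at this
  exact orderOf_eq_one_iff.mp (Nat.dvd_one.mp ((hcop i j hij) ▸ Nat.dvd_gcd h1 h2))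

include hcop in
theorem inner_disjoint {i j : ι} (hij : i ≠ j) {f : H i → ℂ} {f' : H j → ℂ}
    (hf : f 1 = 0) :
    classInner (indFun (H i) f) (indFun (H j) f') = 0 := by
  rw [classInner, Finset.sum_eq_zero, mul_zero]
  intro g _
  by_cases hg : g = 1
  · subst hg
    simp [CharInduced.ind_one_apply, hf]
  by_cases h1 : ∃ x : G, x⁻¹ * g * x ∈ H i
  · obtain ⟨x, hx⟩ := h1
    rw [CharInduced.ind_eq_zero_of_not_conj (H j) f' g fun y hy => hg (conj_disjoint H hcop hij hx hy)]
    simp
  · push Not at h1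
    rw [CharInduced.ind_eq_zero_of_not_conj (H i) f g h1, zero_mul]

variable (hcover : ∀ g : G, g ≠ 1 → ∃ i, ∃ x : G, x * g * x⁻¹ ∈ H i)

include K hcop hcover in
theorem sum_cover [∀ i, Fintype (H i)] [∀ i, DecidableEq (H i)] (F : G → ℝ)
    (hF : ∀ g x : G, F (x * g * x⁻¹) = F g) :
    ∑ g, F g = F 1 + ∑ i, (Nat.card G : ℝ) / (Nat.card (L i) : ℝ) *
      ∑ h ∈ (Finset.univ : Finset (H i)).erase 1, F h := by
  classical
  rw [← Finset.add_sum_erase _ _ (Finset.mem_univ (1 : G))]
  congr 1
  -- the number of x with x⁻¹ g x ∈ H i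
  let c : ι → G → ℕ := fun i g => (Finset.univ.filter fun x : G => x⁻¹ * g * x ∈ H i).card
  have hL : ∀ i, (Nat.card (L i) : ℝ) ≠ 0 := fun i => Nat.cast_ne_zero.mpr Nat.card_pos.ne'
  have hc1 : ∀ i g, g ≠ 1 → (∃ x : G, x⁻¹ * g * x ∈ H i) → c i g = Nat.card (L i) := by
    intro i g hg ⟨x₀, hx₀⟩
    rw [Nat.card_eq_fintype_card, ← Finset.card_univ]
    refine (Finset.card_bij (fun (l : L i) _ => x₀ * (l : G)) ?_ ?_ ?_).symm
    · intro l _
      refine Finset.mem_filter.mpr ⟨Finset.mem_univ _, ?_⟩
      have := (K i).normal (l⁻¹ : L i) (inv_mem l.2) _ hx₀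
      simpa [mul_assoc] using this
    · intro l _ l' _ h
      exact Subtype.ext (mul_left_cancel h)
    · intro x hx
      have hx' := (Finset.mem_filter.mp hx).2
      refine ⟨⟨x₀⁻¹ * x, ?_⟩, Finset.mem_univ _, mul_inv_cancel_left x₀ x⟩
      by_contra hne
      have := (K i).ti ((x₀⁻¹ * x)⁻¹) (fun h => hne (by simpa using inv_mem h)) _ hx₀
        (by simpa [mul_assoc] using hx')
      exact hg (conj_eq_one_iff.mp (show x₀⁻¹ * g * (x₀⁻¹)⁻¹ = 1 by rwa [inv_inv]))
  have hstep : ∀ i, (Nat.card G : ℝ) / (Nat.card (L i) : ℝ) *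
      ∑ h ∈ (Finset.univ : Finset (H i)).erase 1, F h =
      ∑ g ∈ (Finset.univ : Finset G).erase 1, F g * ((c i g : ℝ) / (Nat.card (L i) : ℝ)) := by
    intro i
    have h1 : ∀ x : G, ∑ h ∈ (Finset.univ : Finset (H i)).erase 1, F h =
        ∑ g ∈ (Finset.univ : Finset G).erase 1, if x⁻¹ * g * x ∈ H i then F g else 0 := by
      intro x
      rw [← Finset.sum_filter]
      refine Finset.sum_bij (fun (h : H i) _ => x * (h : G) * x⁻¹) ?_ ?_ ?_ ?_
      · intro h hh
        simp only [Finset.mem_filter, Finset.mem_erase, Finset.mem_univ, and_true]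
        refine ⟨fun e => (Finset.ne_of_mem_erase hh) (Subtype.ext (conj_eq_one_iff.mp e)), ?_⟩
        simp [mul_assoc]
      · intro h _ h' _ e
        exact Subtype.ext (mul_left_cancel (mul_right_cancel e))
      · intro g hg
        simp only [Finset.mem_filter, Finset.mem_erase, Finset.mem_univ, and_true] at hg
        refine ⟨⟨_, hg.2⟩, Finset.mem_erase.mpr ⟨fun e => hg.1 ?_, Finset.mem_univ _⟩, by group⟩
        have e' : x⁻¹ * g * (x⁻¹)⁻¹ = 1 := by rw [inv_inv]; exact congrArg Subtype.val e
        exact conj_eq_one_iff.mp e'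
      · intro h _
        rw [hF]
    calc (Nat.card G : ℝ) / (Nat.card (L i) : ℝ) * ∑ h ∈ (Finset.univ : Finset (H i)).erase 1, F h
        = (∑ x : G, ∑ h ∈ (Finset.univ : Finset (H i)).erase 1, F h) / (Nat.card (L i) : ℝ) := by
          rw [Finset.sum_const, Finset.card_univ, nsmul_eq_mul, ← Nat.card_eq_fintype_card]; ring
      _ = (∑ g ∈ (Finset.univ : Finset G).erase 1, F g * (c i g : ℝ)) / (Nat.card (L i) : ℝ) := by
          rw [Finset.sum_congr rfl fun x _ => h1 x, Finset.sum_comm]
          refine congrArg (· / _) (Finset.sum_congr rfl fun g _ => ?_)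
          rw [← Finset.sum_filter, Finset.sum_const, nsmul_eq_mul, mul_comm]
      _ = _ := by
          rw [Finset.sum_div]
          exact Finset.sum_congr rfl fun g _ => by ring
  rw [Finset.sum_congr rfl fun i _ => hstep i, Finset.sum_comm]
  refine Finset.sum_congr rfl fun g hg => ?_
  have hg1 := Finset.ne_of_mem_erase hg
  obtain ⟨i, x, hx⟩ := hcover g hg1
  rw [Finset.sum_eq_single i]
  · rw [hc1 i g hg1 ⟨x⁻¹, by simpa using hx⟩, div_self (hL i), mul_one]
  · intro j _ hj
    have : c j g = 0 := Finset.card_eq_zero.mpr (Finset.filter_eq_empty_iff.mpr fun y _ hy =>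
      hg1 (conj_disjoint H hcop hj hy (y := x⁻¹) (by simpa using hx)))
    rw [this]; simp
  · exact fun h => absurd (Finset.mem_univ i) h

include K hodd hcop hcover in
/-- **Theorem.** No such covering exists. -/
theorem no_partition (hι : 2 ≤ Fintype.card ι) : False := by
  classical
  have := fun i => Fintype.ofFinite (H i)
  have := fun i => Fintype.ofFinite (H i →* ℂˣ)
  choose m hm using fun i => (K i).exists_family hodd
  -- one nontrivial linear character for each kernel
  have hexl : ∀ i, ∃ l : H i →* ℂˣ, l ≠ 1 := by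
    intro i
    by_contra hall
    push Not at hall
    have : Subsingleton (H i →* ℂˣ) := ⟨fun a b => by rw [hall a, hall b]⟩
    have hn := (K i).nilpotent
    have : Nontrivial (H i) := (Subgroup.nontrivial_iff_ne_bot _).mpr (K i).ne_bot
    have h1 := CharBasicLinear.card_hom_units (G := H i)
    rw [Nat.card_of_subsingleton 1] at h1
    exact (Group.IsSolvable.commutator_lt_top_of_nontrivial (G := H i)).ne
      (Subgroup.index_eq_one.mp h1.symm)
  choose lam hlam using hexl
  let β : ι → G → ℂ := fun i => indFun (H i) (lin (1 : H i →* ℂˣ) - lin (lam i))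
  let μ : ι → G → ℂ := fun i => m i (lam i)
  let one : G → ℂ := fun _ => 1
  have hone : IsIrrCharacter G one := isIrrCharacter_one
  have hsi1 : SignedIrr one := Or.inl hone
  have hmi : ∀ i, ∀ l : H i →* ℂˣ, l ≠ 1 → SignedIrr (m i l) := fun i l hl => (hm i l l hl hl).1
  have hmg : ∀ i, ∀ l : H i →* ℂˣ, l ≠ 1 → IsGeneralizedCharacter G (m i l) := fun i l hl =>
    si_gen (hmi i l hl)
  have hint : ∀ u v : G → ℂ, IsGeneralizedCharacter G u → IsGeneralizedCharacter G v →
      ∃ z : ℤ, classInner u v = z := fun u v hu hv => classInner_isGeneralizedCharacter hu hv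
  have hcomm : ∀ u v : G → ℂ, IsGeneralizedCharacter G u → IsGeneralizedCharacter G v →
      classInner v u = classInner u v := by
    intro u v hu hv
    obtain ⟨z, hz⟩ := hint u v hu hv
    rw [← CharBasicOrth.conj_classInner, hz, map_intCast]
  have hβg : ∀ i, IsGeneralizedCharacter G (β i) := fun i => (K i).gen_ind _ _
  have honeg : IsGeneralizedCharacter G one := si_gen hsi1
  -- inner products with the principal character
  have hind1 : ∀ i, ∀ a b : H i →* ℂˣ, classInner (indFun (H i) (lin a - lin b)) one =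
      (if a = 1 then 1 else 0) - (if b = 1 then 1 else 0) := by
    intro i a b
    rw [CharInduced.inner_ind_left (H i) _ (isClassFunction_of_isGeneralizedCharacter honeg),
      show (fun h : H i => one (h : G)) = lin (1 : H i →* ℂˣ) from (lin_one).symm,
      classInner_sub_left, inner_lin, inner_lin]
  have hΔ : ∀ i, ∀ l : H i →* ℂˣ, l ≠ 1 →
      indFun (H i) (lin l - lin l⁻¹) = m i l - m i l⁻¹ := fun i l hl =>
    (hm i l l⁻¹ hl (ne_one_inv hl)).2.1
  have hmm : ∀ i, ∀ l : H i →* ℂˣ, l ≠ 1 → classInner (m i l) (m i l⁻¹) = 0 := fun i l hl => by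
    rw [(hm i l l⁻¹ hl (ne_one_inv hl)).2.2, (K i).kk_symm hl (ne_one_inv hl), (K i).kk_inv hodd hl]
  -- orthogonality to the principal character
  have hm1 : ∀ i, ∀ l : H i →* ℂˣ, l ≠ 1 → classInner (m i l) one = 0 := by
    intro i l hl
    rcases si_cases hsi1 (hmi i l hl) with h | ⟨ε, hε, he, -⟩
    · rw [hcomm _ _ honeg (hmg i l hl), h]
    exfalso
    have h1 := hind1 i l l⁻¹
    rw [hΔ i l hl, if_neg hl, if_neg (ne_one_inv hl), sub_zero, classInner_sub_left] at h1
    have h2 : classInner (m i l⁻¹) one = 0 := by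
      have h3 := hmm i l hl
      rw [he, classInner_smul_left, mul_eq_zero] at h3
      rcases h3 with h3 | h3
      · rcases hε with rfl | rfl <;> norm_num at h3
      · rw [hcomm _ _ honeg (hmg i l⁻¹ (ne_one_inv hl)), h3]
    rw [h2, sub_zero, he, classInner_smul_left, si_self hsi1, mul_one] at h1
    rcases hε with rfl | rfl <;> norm_num at h1
  -- complex conjugation
  have hconj : ∀ i, ∀ l : H i →* ℂˣ, l ≠ 1 → Cfsg.conjFun (m i l) = m i l⁻¹ := by
    intro i l hl
    have hli := ne_one_inv hl
    have hcsi : SignedIrr (Cfsg.conjFun (m i l)) := by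
      rcases hmi i l hl with h | h
      · exact Or.inl (conjFun_isIrr h)
      · refine Or.inr ?_
        have h2 := conjFun_isIrr h
        have : Cfsg.conjFun (-(m i l)) = -Cfsg.conjFun (m i l) := by funext g; simp [Cfsg.conjFun]
        rwa [this] at h2
    have hu : classInner (Cfsg.conjFun (m i l)) (m i l - m i l⁻¹) = -1 := by
      have h1 : Cfsg.conjFun (m i l - m i l⁻¹) = -(m i l - m i l⁻¹) := by
        rw [← hΔ i l hl, (K i).conj_ind, show l⁻¹⁻¹ = l from MonoidHom.ext fun x => by simp, (K i).ind_neg']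
      have h2 := classInner_conjFun (m i l) (m i l - m i l⁻¹)
      rw [h1, classInner_neg_right, classInner_sub_right (m i l), hmm i l hl, si_self (hmi i l hl),
        sub_zero, map_one] at h2
      linear_combination -h2
    rcases si_cases (hmi i l⁻¹ hli) hcsi with h | ⟨ε, hε, he, -⟩
    · exfalso
      have hcg := si_gen hcsi
      rw [classInner_sub_right, hcomm _ _ (hmg i l⁻¹ hli) hcg, h, sub_zero] at hu
      rcases si_cases hcsi (hmi i l hl) with h' | ⟨ε, hε, he, he'⟩
      · rw [h'] at hu; norm_num at hu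
      rw [hu] at he'
      have hε1 : ε = -1 := by exact_mod_cast he'.symm
      subst hε1
      -- then the constituent is real, hence principal
      obtain ⟨X, hX, hXm⟩ : ∃ X : G → ℂ, IsIrrCharacter G X ∧ (m i l = X ∨ m i l = -X) := by
        rcases hmi i l hl with h'' | h''
        · exact ⟨_, h'', Or.inl rfl⟩
        · exact ⟨_, h'', Or.inr (neg_neg _).symm⟩
      have hneg : Cfsg.conjFun X = -X := by
        rcases hXm with e | e <;> rw [e] at he <;> funext g <;> have h3 := congrFun he g <;>
          simp [Cfsg.conjFun] at h3 ⊢ <;>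
          first | linear_combination h3 | linear_combination -h3
      have h3 := congrFun hneg 1
      rw [conjFun_apply_one (isCharacter_of_isIrrCharacter hX), Pi.neg_apply] at h3
      exact isIrrCharacter_apply_one_ne_zero hX (by linear_combination h3 / 2)
    · rw [he] at hu
      rw [classInner_smul_left, classInner_sub_right, si_self (hmi i l⁻¹ hli),
        ← hcomm _ _ (hmg i l⁻¹ hli) (hmg i l hl), hmm i l hl] at hu
      have : ε = 1 := by
        have h4 : (ε : ℂ) = 1 := by linear_combination -hu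
        exact_mod_cast h4
      subst this
      simpa using he
  -- families of different kernels are disjoint
  have hcross : ∀ i j, i ≠ j → ∀ l : H i →* ℂˣ, l ≠ 1 → ∀ l' : H j →* ℂˣ, l' ≠ 1 →
      classInner (m i l) (m j l') = 0 := by
    intro i j hij l hl l' hl'
    rcases si_cases (hmi i l hl) (hmi j l' hl') with h | ⟨ε, hε, he, -⟩
    · exact h
    exfalso
    have h0 := inner_disjoint H hcop hij (f := lin l - lin l⁻¹) (f' := lin l' - lin l'⁻¹) (by simp [lin])
    rw [hΔ i l hl, hΔ j l' hl'] at h0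
    have he2 : m j l'⁻¹ = (ε : ℂ) • m i l⁻¹ := by
      rw [← hconj j l' hl', ← hconj i l hl, he]
      funext g; simp [Cfsg.conjFun]
    rw [he, he2, ← smul_sub, classInner_smul_right, Complex.conj_ofReal, mul_eq_zero] at h0
    rcases h0 with h0 | h0
    · rcases hε with rfl | rfl <;> norm_num at h0
    · rw [← hΔ i l hl, (K i).inner_ind] at h0
      rw [(K i).kk_self hl, (K i).kk_self (ne_one_inv hl), (K i).kk_inv hodd hl,
        (K i).kk_symm hl (ne_one_inv hl), (K i).kk_inv hodd hl] at h0
      norm_num at h0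
  -- integer coefficients
  choose cβ hcβ using fun i j => hint (β i) (μ j) (hβg i) (hmg j (lam j) (hlam j))
  have hconst : ∀ i j, i ≠ j → ∀ l : H j →* ℂˣ, l ≠ 1 → classInner (β i) (m j l) = cβ i j := by
    intro i j hij l hl
    have h0 := inner_disjoint H hcop hij (f := lin (1 : H i →* ℂˣ) - lin (lam i))
      (f' := lin l - lin (lam j)) (by simp [lin])
    rw [(hm j l (lam j) hl (hlam j)).2.1, classInner_sub_right, sub_eq_zero] at h0
    rw [← hcβ i j]; exact h0
  -- parity
  have parity : ∀ i j, i ≠ j → Odd (cβ i j + cβ j i) := by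
    intro i j hij
    choose z hz using fun k (ψ : IrrCharacter G) => hint (β k + μ k) ψ
      (isGeneralizedCharacter_add (hβg k) (hmg k _ (hlam k)))
      (isGeneralizedCharacter_of_isCharacter (isCharacter_of_isIrrCharacter ψ.2))
    let bar : IrrCharacter G → IrrCharacter G := fun ψ => ⟨Cfsg.conjFun ψ, conjFun_isIrr ψ.2⟩
    have hbar : ∀ k ψ, (z k (bar ψ) : ZMod 2) = z k ψ := by
      intro k ψ
      have hψg := isGeneralizedCharacter_of_isCharacter (isCharacter_of_isIrrCharacter ψ.2)
      have h1 : classInner (Cfsg.conjFun (β k + μ k)) (bar ψ : G → ℂ) = z k ψ := by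
        rw [classInner_conjFun, hz, map_intCast]
      have h3 : Cfsg.conjFun (β k + μ k) = indFun (H k) (lin (1 : H k →* ℂˣ) - lin (lam k)⁻¹) +
          m k (lam k)⁻¹ := by
        have : Cfsg.conjFun (β k + μ k) = Cfsg.conjFun (β k) + Cfsg.conjFun (μ k) := by
          funext g; simp [Cfsg.conjFun]
        rw [this, (K k).conj_ind, show (1 : H k →* ℂˣ)⁻¹ = 1 from MonoidHom.ext fun x => by simp,
          hconj k _ (hlam k)]
      have h4 : indFun (H k) (lin (1 : H k →* ℂˣ) - lin (lam k)⁻¹) =
          β k + (m k (lam k) - m k (lam k)⁻¹) := by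
        rw [← hΔ k _ (hlam k), (K k).ind_add_trans]
      rw [h3, h4] at h1
      have h5 : classInner (β k + μ k) (bar ψ : G → ℂ) = z k ψ := by
        rw [← h1]; congr 1; simp only [μ]; abel
      rw [hz] at h5
      exact_mod_cast congrArg (fun n : ℤ => (n : ZMod 2)) (Int.cast_injective h5)
    obtain ⟨mi, hmi', hsum⟩ := exists_int_coeff
      (isGeneralizedCharacter_add (hβg i) (hmg i _ (hlam i)))
    have hzi : ∀ ψ, mi ψ = z i ψ := fun ψ => Int.cast_injective (α := ℂ) ((hmi' ψ).symm.trans (hz i ψ))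
    have htot : classInner (β i + μ i) (β j + μ j) = ((∑ ψ, z i ψ * z j ψ : ℤ) : ℂ) := by
      conv_lhs => rw [hsum]
      rw [classInner_sum_left]
      push_cast
      refine Finset.sum_congr rfl fun ψ _ => ?_
      rw [classInner_smul_left, hzi, hcomm (β j + μ j) (ψ : G → ℂ)
        (isGeneralizedCharacter_add (hβg j) (hmg j _ (hlam j)))
        (isGeneralizedCharacter_of_isCharacter (isCharacter_of_isIrrCharacter ψ.2)), hz]
    have hval : classInner (β i + μ i) (β j + μ j) = ((cβ i j + cβ j i : ℤ) : ℂ) := by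
      rw [classInner_add_left, classInner_add_right, classInner_add_right,
        inner_disjoint H hcop hij (by simp [lin]), hcross i j hij _ (hlam i) _ (hlam j), hcβ,
        hcomm (β j) (μ i) (hβg j) (hmg i _ (hlam i)), hcβ]
      push_cast; ring
    rw [hval] at htot
    have heq : (cβ i j + cβ j i : ℤ) = ∑ ψ, z i ψ * z j ψ := Int.cast_injective htot
    have hone' : ∀ k, z k (trivIrr G) = 1 := by
      intro k
      have h1 := hz k (trivIrr G)
      rw [classInner_add_left, show ((trivIrr G : IrrCharacter G) : G → ℂ) = one from rfl, hind1,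
        if_pos rfl, if_neg (hlam k), hm1 k _ (hlam k)] at h1
      have : ((z k (trivIrr G) : ℤ) : ℂ) = ((1 : ℤ) : ℂ) := by rw [← h1]; norm_num
      exact Int.cast_injective this
    have hrest : (∑ ψ ∈ Finset.univ.erase (trivIrr G), ((z i ψ * z j ψ : ℤ) : ZMod 2)) = 0 := by
      refine Finset.sum_involution (fun ψ _ => bar ψ) ?_ ?_ ?_ ?_
      · intro ψ _
        push_cast
        rw [hbar, hbar]
        exact CharTwo.add_self_eq_zero _
      · intro ψ hψ _ e
        exact Finset.ne_of_mem_erase hψ (Subtype.ext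
          (conj_fixed_one hodd ψ.2 (congrArg Subtype.val e)))
      · intro ψ hψ
        refine Finset.mem_erase.mpr ⟨fun e => Finset.ne_of_mem_erase hψ (Subtype.ext ?_),
          Finset.mem_univ _⟩
        have h2 := congrArg (fun q : IrrCharacter G => Cfsg.conjFun (q : G → ℂ)) e
        simp only [bar, conjFun_conjFun] at h2
        rw [h2]; funext g; simp [Cfsg.conjFun, trivIrr]
      · intro ψ _
        exact Subtype.ext (conjFun_conjFun _)
    have h2 : ((cβ i j + cβ j i : ℤ) : ZMod 2) = 1 := by
      rw [heq, Int.cast_sum, ← Finset.add_sum_erase _ _ (Finset.mem_univ (trivIrr G)), hrest,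
        hone', hone']
      norm_num
    rcases Int.even_or_odd (cβ i j + cβ j i) with ⟨q, hq⟩ | h
    · rw [hq, Int.cast_add, CharTwo.add_self_eq_zero] at h2
      exact absurd h2 (by decide)
    · exact h
  -- numerical invariants
  let a : ι → ℕ := fun i => Fintype.card (H i →* ℂˣ)
  let e : ι → ℕ := fun i => (K i).ee
  have haH : ∀ i, a i ∣ Nat.card (H i) := fun i => by
    simp only [a, ← Nat.card_eq_fintype_card, CharBasicLinear.card_hom_units]
    exact Subgroup.index_dvd_card _
  have haodd : ∀ i, Odd (a i) := fun i =>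
    (hodd.of_dvd_nat (Subgroup.card_subgroup_dvd_card (H i))).of_dvd_nat (haH i)
  have ha1 : ∀ i, 1 < a i := fun i => Fintype.one_lt_card_iff.mpr ⟨_, _, hlam i⟩
  have hee : ∀ i, ∀ l : H i →* ℂˣ, l ≠ 1 →
      ((Finset.univ.erase (1 : H i →* ℂˣ)).filter fun l' => m i l' = m i l).card = e i := by
    intro i l hl
    have h1 := (K i).sum_kk (mu := l)
    rw [← Finset.add_sum_erase _ _ (Finset.mem_univ (1 : H i →* ℂˣ)), (K i).kk_one_left hl, zero_add] at h1
    have h2 : ∀ l' ∈ Finset.univ.erase (1 : H i →* ℂˣ),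
        (K i).kk l' l = if m i l' = m i l then 1 else 0 := by
      intro l' hl'
      have hl1 := Finset.ne_of_mem_erase hl'
      have h3 := (hm i l' l hl1 hl).2.2
      split_ifs with h
      · rw [h, si_self (hmi i l hl)] at h3; exact h3.symm
      · rcases (K i).kk_cases (mu := l) hl1 with ⟨h4, -⟩ | ⟨h4, -⟩
        · exfalso
          apply h
          have : classInner (m i l' - m i l) (m i l' - m i l) = 0 := by
            rw [classInner_sub_left, classInner_sub_right, classInner_sub_right, si_self (hmi i l' hl1),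
              si_self (hmi i l hl), h3, h4, hcomm _ _ (hmg i l' hl1) (hmg i l hl), h3, h4]
            ring
          exact sub_eq_zero.mp (eq_zero_of_classInner_self this)
        · exact h4
    rw [Finset.sum_congr rfl h2, Finset.sum_boole] at h1
    exact_mod_cast h1
  let N : ι → ℕ := fun i => ((Finset.univ.erase (1 : H i →* ℂˣ)).image (m i)).card
  have haN : ∀ i, a i = N i * e i + 1 := by
    intro i
    have h1 := Finset.card_eq_sum_card_image (m i) (Finset.univ.erase (1 : H i →* ℂˣ))
    rw [Finset.sum_const_nat (m := e i)] at h1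
    · rw [Finset.card_erase_of_mem (Finset.mem_univ _), Finset.card_univ] at h1
      have := ha1 i
      simp only [N, a] at *
      omega
    · intro u hu
      obtain ⟨l, hl, rfl⟩ := Finset.mem_image.mp hu
      exact hee i l (Finset.ne_of_mem_erase hl)
  have he3 : ∀ i, 3 ≤ e i := fun i => (K i).three_le_ee hodd
  have heodd : ∀ i, Odd (e i) := fun i => (K i).odd_ee hodd
  have hNeven : ∀ i, Even (N i) ∧ N i ≠ 0 := by
    intro i
    have h1 := haN i
    have h2 : Even (N i * e i) := by
      obtain ⟨k, hk⟩ := haodd i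
      exact ⟨k, by omega⟩
    refine ⟨(Nat.even_mul.mp h2).resolve_right (Nat.not_even_iff_odd.mpr (heodd i)), fun e0 => ?_⟩
    have := ha1 i
    rw [e0, zero_mul] at h1
    omega
  have hinj : Function.Injective a := by
    intro i j h
    by_contra hij
    have h2 := Nat.dvd_gcd (haH i) (h ▸ haH j)
    rw [hcop i j hij, Nat.dvd_one] at h2
    have := ha1 i
    omega
  have hι' : Nonempty ι := Fintype.card_pos_iff.mp (by omega)
  obtain ⟨i, -, hi⟩ := Finset.exists_min_image Finset.univ a Finset.univ_nonempty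
  have hne : ((Finset.univ : Finset ι).erase i).Nonempty := by
    rw [← Finset.card_pos, Finset.card_erase_of_mem (Finset.mem_univ _), Finset.card_univ]
    omega
  have hmin : ∀ l, l ≠ i → a i + 2 ≤ a l := by
    intro l hl
    have h1 := hi l (Finset.mem_univ _)
    have h2 : a l ≠ a i := fun h => hl (hinj h)
    obtain ⟨k, hk⟩ := haodd i
    obtain ⟨k', hk'⟩ := haodd l
    omega
  -- weights
  let w : ι → ℝ := fun l => ((Nat.card (H l) : ℝ) - 1) / (Nat.card (L l) : ℝ)
  have hcard : ∀ l, (Nat.card (L l) : ℝ) = (Nat.card (H l) : ℝ) * e l := fun l => by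
    rw [(K l).card_L, Nat.cast_mul]
  have hcG : (Nat.card G : ℝ) ≠ 0 := Nat.cast_ne_zero.mpr Nat.card_pos.ne'
  have hw : ∑ l, w l + 1 / (Nat.card G : ℝ) = 1 := by
    have h1 := sum_cover L H K hcop hcover (fun _ => (1 : ℝ)) (fun _ _ => rfl)
    have h2 : ∀ l, ∑ h ∈ (Finset.univ : Finset (H l)).erase 1, (1 : ℝ) = (Nat.card (H l) : ℝ) - 1 := fun l => by
      rw [Finset.sum_const, Finset.card_erase_of_mem (Finset.mem_univ _), Finset.card_univ,
        nsmul_eq_mul, mul_one, Nat.card_eq_fintype_card, Nat.cast_sub Fintype.card_pos, Nat.cast_one]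
    simp only [h2, Finset.sum_const, Finset.card_univ, nsmul_eq_mul, mul_one,
      ← Nat.card_eq_fintype_card] at h1
    have h3 : ∑ l, (Nat.card G : ℝ) / (Nat.card (L l) : ℝ) * ((Nat.card (H l) : ℝ) - 1) =
        (Nat.card G : ℝ) * ∑ l, w l := by
      rw [Finset.mul_sum]
      exact Finset.sum_congr rfl fun l _ => by simp only [w]; ring
    rw [h3] at h1
    field_simp
    linarith
  set B := ((Finset.univ : Finset ι).erase i).filter (fun l => Odd (cβ i l)) with hBdef
  set A := ((Finset.univ : Finset ι).erase i).filter (fun l => ¬ Odd (cβ i l)) with hAdef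
  refine numeric w a e N (Nat.card G : ℝ) i A B hw ?_ ?_ hne haN he3 hNeven haodd heodd hmin hinj
    ?_ ?_ ?_ ?_ ?_ ?_
  · rw [hAdef, hBdef, Finset.union_comm, Finset.filter_union_filter_not_eq]
  · exact (Finset.disjoint_filter_filter_not _ _ _).symm
  · intro l hl
    have h1 : Nat.card (H i) * Nat.card (H l) ∣ Nat.card G :=
      (hcop i l (Ne.symm hl)).mul_dvd_of_dvd_of_dvd (Subgroup.card_subgroup_dvd_card _)
        (Subgroup.card_subgroup_dvd_card _)
    have h2 := Nat.le_of_dvd Nat.card_pos h1
    have h3 := Nat.mul_le_mul (Nat.le_of_dvd Nat.card_pos (haH i)) (Nat.le_of_dvd Nat.card_pos (haH l))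
    exact_mod_cast h3.trans h2
  · intro l
    simp only [w]
    rw [hcard]
    have : (0 : ℝ) < Nat.card (H l) := Nat.cast_pos.mpr Nat.card_pos
    have : (0 : ℝ) < e l := Nat.cast_pos.mpr (by have := he3 l; omega)
    rw [div_le_div_iff₀ (by positivity) (by positivity)]
    nlinarith
  · intro l
    simp only [w]
    rw [hcard]
    have h0 : (0 : ℝ) < Nat.card (H l) := Nat.cast_pos.mpr Nat.card_pos
    have he0 : (0 : ℝ) < e l := Nat.cast_pos.mpr (by have := he3 l; omega)
    have h1 : (a l : ℝ) = N l * e l + 1 := by exact_mod_cast haN l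
    rw [h1, div_mul_eq_mul_div, div_le_iff₀ (by positivity)]
    have : (0 : ℝ) ≤ (N l : ℝ) * e l := by positivity
    nlinarith
  · intro l
    by_cases h25 : 25 ≤ a l
    · exact Or.inr h25
    left
    have hsq : Squarefree (a l) := by
      have h9 : a l ≠ 9 := by
        intro h9
        have h1 := haN l
        obtain ⟨⟨k, hk⟩, hk0⟩ := hNeven l
        obtain ⟨k', hk'⟩ := heodd l
        have := he3 l
        have h8 : N l * e l = 8 := by omega
        have hdvd : e l ∣ 8 := ⟨N l, by linarith [h8]⟩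
        have := Nat.le_of_dvd (by norm_num) hdvd
        interval_cases hh : e l <;> omega
      obtain ⟨k, hk⟩ := haodd l
      have : k ∈ Finset.Icc 0 11 := Finset.mem_Icc.mpr ⟨Nat.zero_le _, by omega⟩
      rw [hk] at h9 ⊢
      fin_cases this <;> first
        | exact absurd rfl h9
        | exact (Nat.squarefree_iff_prime_squarefree.mpr fun p hp hd => by
            have h3 := Nat.le_of_dvd (by norm_num) hd
            have hp5 : p < 5 := by nlinarith
            interval_cases p <;> revert hp hd <;> norm_num)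
    have hn := (K l).nilpotent
    have hsq' : Squarefree (commutator (H l)).index := by
      rwa [← CharBasicLinear.card_hom_units, Nat.card_eq_fintype_card]
    have hbot := commutator_eq_bot_of_squarefree hsq'
    have hal : Nat.card (H l) = a l := by
      simp only [a]
      rw [← Nat.card_eq_fintype_card, CharBasicLinear.card_hom_units, hbot, Subgroup.index_bot]
    have h1 : (a l : ℝ) = N l * e l + 1 := by exact_mod_cast haN l
    have he0 : (e l : ℝ) ≠ 0 := Nat.cast_ne_zero.mpr (by have := he3 l; omega)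
    have ha0 : (a l : ℝ) ≠ 0 := Nat.cast_ne_zero.mpr (by have := ha1 l; omega)
    simp only [w]
    rw [hcard, hal, h1]
    field_simp
    ring
  · -- bound on A: the norm of μ i
    have hμg : IsGeneralizedCharacter G (μ i) := hmg i _ (hlam i)
    have hcl := isClassFunction_of_isGeneralizedCharacter hμg
    have h1 := sum_cover L H K hcop hcover (fun g => ‖μ i g‖ ^ 2) (fun g x => by
      rw [hcl g x])
    have hnorm : ∑ g, ‖μ i g‖ ^ 2 = (Nat.card G : ℝ) := by
      have := classInner_self_re (μ i)
      rw [si_self (hmi i _ (hlam i)), Complex.one_re] at this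
      field_simp at this
      linarith
    rw [hnorm] at h1
    let Sl : ι → ℝ := fun l => (Nat.card (H l) : ℝ)⁻¹ *
      ∑ h ∈ (Finset.univ : Finset (H l)).erase 1, ‖μ i (h : G)‖ ^ 2
    have hle : ∑ l, Sl l / e l ≤ 1 := by
      have h2 : ∀ l, (Nat.card G : ℝ) / (Nat.card (L l) : ℝ) *
          ∑ h ∈ (Finset.univ : Finset (H l)).erase 1, ‖μ i (h : G)‖ ^ 2 =
          (Nat.card G : ℝ) * (Sl l / e l) := fun l => by
        simp only [Sl]; rw [hcard]; ring
      rw [Finset.sum_congr rfl fun l _ => h2 l, ← Finset.mul_sum] at h1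
      have h3 : (0 : ℝ) ≤ ‖μ i 1‖ ^ 2 := by positivity
      have h4 : (0 : ℝ) < Nat.card G := Nat.cast_pos.mpr Nat.card_pos
      nlinarith
    have hown : 1 - (e i : ℝ) / a i ≤ Sl i / e i := by
      obtain ⟨c0, hc0⟩ := hint (μ i) (β i) hμg (hβg i)
      have hr : ∀ l : H i →* ℂˣ, classInner (μ i) (indFun (H i) (lin (1 : H i →* ℂˣ) - lin l)) =
          (((if l = 1 then (0 : ℝ) else ((c0 : ℝ) + 1) - if m i l = μ i then 1 else 0)) : ℝ) := by
        intro l
        split_ifs with h1' h2'
        · subst h1'; simp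
        all_goals
          rw [← (K i).ind_add_trans 1 (lam i) l, classInner_add_right, hc0,
            (hm i (lam i) l (hlam i) h1').2.1, classInner_sub_right, si_self (hmi i _ (hlam i))]
        · rw [h2', si_self (hmi i _ (hlam i))]; push_cast; ring
        · have h5 : classInner (μ i) (m i l) = 0 := by
            rw [(hm i (lam i) l (hlam i) h1').2.2]
            rcases (K i).kk_cases (mu := l) (hlam i) with ⟨h4, -⟩ | ⟨h4, -⟩
            · exfalso
              apply h2'
              have hx := (hm i (lam i) l (hlam i) h1').2.2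
              have hy : classInner (m i l) (μ i) = 1 := by
                rw [hcomm _ _ hμg (hmg i l h1'), hx, h4]
              have : classInner (m i l - μ i) (m i l - μ i) = 0 := by
                rw [classInner_sub_left, classInner_sub_right, classInner_sub_right,
                  si_self (hmi i l h1'), si_self (hmi i _ (hlam i)), hy, hx, h4]
                ring
              exact sub_eq_zero.mp (eq_zero_of_classInner_self this)
            · exact h4
          rw [h5]; push_cast; ring
      have hb := (K i).local_bound (μ i) hcl _ hr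
      have hs1 : ∑ l ∈ Finset.univ.erase (1 : H i →* ℂˣ),
          (if l = 1 then (0 : ℝ) else ((c0 : ℝ) + 1) - if m i l = μ i then 1 else 0) =
          (N i * e i : ℝ) * ((c0 : ℝ) + 1) - e i := by
        rw [Finset.sum_congr rfl fun l hl => if_neg (Finset.ne_of_mem_erase hl),
          Finset.sum_sub_distrib, Finset.sum_boole, hee i _ (hlam i), Finset.sum_const, nsmul_eq_mul,
          Finset.card_erase_of_mem (Finset.mem_univ _), Finset.card_univ]
        have : Fintype.card (H i →* ℂˣ) - 1 = N i * e i := by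
          have := haN i; simp only [a] at this; omega
        rw [this]; push_cast; ring
      have hs2 : ∑ l ∈ Finset.univ.erase (1 : H i →* ℂˣ),
          (if l = 1 then (0 : ℝ) else ((c0 : ℝ) + 1) - if m i l = μ i then 1 else 0) ^ 2 =
          (N i * e i : ℝ) * ((c0 : ℝ) + 1) ^ 2 + (1 - 2 * ((c0 : ℝ) + 1)) * e i := by
        have hx : ∀ l ∈ Finset.univ.erase (1 : H i →* ℂˣ),
            (if l = 1 then (0 : ℝ) else ((c0 : ℝ) + 1) - if m i l = μ i then 1 else 0) ^ 2 =
            ((c0 : ℝ) + 1) ^ 2 + (1 - 2 * ((c0 : ℝ) + 1)) * (if m i l = μ i then 1 else 0) := fun l hl => by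
          rw [if_neg (Finset.ne_of_mem_erase hl)]; split_ifs <;> ring
        rw [Finset.sum_congr rfl hx, Finset.sum_add_distrib, ← Finset.mul_sum, Finset.sum_boole,
          hee i _ (hlam i), Finset.sum_const, nsmul_eq_mul, Finset.card_erase_of_mem (Finset.mem_univ _),
          Finset.card_univ]
        have : Fintype.card (H i →* ℂˣ) - 1 = N i * e i := by
          have := haN i; simp only [a] at this; omega
        rw [this]; push_cast; ring
      rw [hs1, hs2] at hb
      have he0 : (0 : ℝ) < e i := Nat.cast_pos.mpr (by have := he3 i; omega)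
      have ha' : ((Fintype.card (H i →* ℂˣ) : ℕ) : ℝ) = N i * e i + 1 := by exact_mod_cast haN i
      rw [ha'] at hb
      rw [show ((a i : ℕ) : ℝ) = N i * e i + 1 from ha', le_div_iff₀ he0]
      refine le_trans ?_ hb
      have hpos : (0 : ℝ) < N i * e i + 1 :=
        add_pos_of_nonneg_of_pos (mul_nonneg (Nat.cast_nonneg _) he0.le) one_pos
      rw [sub_div' hpos.ne', sub_div' hpos.ne', div_mul_eq_mul_div, div_le_div_iff_of_pos_right hpos]
      -- the quadratic in the integer `c0 + 1`
      have hq : (0 : ℤ) ≤ (N i : ℤ) * (c0 + 1) ^ 2 - 2 * (c0 + 1) := by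
        obtain ⟨⟨k, hk⟩, hk0⟩ := hNeven i
        have h2 : (2 : ℤ) ≤ N i := by omega
        have h3 : (c0 + 1) ≤ (c0 + 1) ^ 2 := Int.le_self_sq _
        nlinarith [mul_le_mul_of_nonneg_right h2 (sq_nonneg (c0 + 1))]
      have hq' : (0 : ℝ) ≤ (N i : ℝ) * ((c0 : ℝ) + 1) ^ 2 - 2 * ((c0 : ℝ) + 1) := by exact_mod_cast hq
      nlinarith [mul_nonneg he0.le hq']
    have hoth : ∀ l ∈ A, (N l : ℝ) / a l ≤ Sl l / e l := by
      intro l hl
      obtain ⟨hl', hcodd⟩ := Finset.mem_filter.mp hl
      have hli := Finset.ne_of_mem_erase hl'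
      have hodd' : Odd (cβ l i) := by
        rcases Int.even_or_odd (cβ i l) with h | h
        · exact (Int.odd_add.mp (parity l i hli)).mpr h
        · exact absurd h hcodd
      have hr : ∀ q : H l →* ℂˣ, classInner (μ i) (indFun (H l) (lin (1 : H l →* ℂˣ) - lin q)) =
          ((if q = 1 then (0 : ℝ) else (cβ l i : ℝ)) : ℝ) := by
        intro q
        split_ifs with h1'
        · subst h1'; simp
        rw [← (K l).ind_add_trans 1 (lam l) q, classInner_add_right,
          hcomm (β l) (μ i) (hβg l) hμg, hcβ, (hm l (lam l) q (hlam l) h1').2.1, classInner_sub_right,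
          hcross i l (Ne.symm hli) _ (hlam i) _ (hlam l), hcross i l (Ne.symm hli) _ (hlam i) _ h1']
        push_cast; ring
      have hb := (K l).local_bound (μ i) hcl _ hr
      rw [Finset.sum_congr rfl fun q hq => by rw [if_neg (Finset.ne_of_mem_erase hq)],
        Finset.sum_congr rfl fun q hq => if_neg (Finset.ne_of_mem_erase hq)] at hb
      simp only [Finset.sum_const, nsmul_eq_mul, Finset.card_erase_of_mem (Finset.mem_univ _),
        Finset.card_univ] at hb
      have hcnt : Fintype.card (H l →* ℂˣ) - 1 = N l * e l := by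
        have := haN l; simp only [a] at this; omega
      have ha' : ((Fintype.card (H l →* ℂˣ) : ℕ) : ℝ) = N l * e l + 1 := by exact_mod_cast haN l
      rw [hcnt, ha', Nat.cast_mul] at hb
      have he0 : (0 : ℝ) < e l := Nat.cast_pos.mpr (by have := he3 l; omega)
      have hpos : (0 : ℝ) < N l * e l + 1 :=
        add_pos_of_nonneg_of_pos (mul_nonneg (Nat.cast_nonneg _) he0.le) one_pos
      have hc1 : (1 : ℝ) ≤ (cβ l i : ℝ) ^ 2 := by
        have : (1 : ℤ) ≤ (cβ l i) ^ 2 := by
          have h0 : cβ l i ≠ 0 := by rintro h0; rw [h0] at hodd'; exact absurd hodd' (by decide)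
          nlinarith [Int.one_le_abs h0, sq_abs (cβ l i)]
        exact_mod_cast this
      rw [show ((a l : ℕ) : ℝ) = N l * e l + 1 from ha', le_div_iff₀ he0]
      refine le_trans ?_ hb
      rw [sub_div' hpos.ne', div_mul_eq_mul_div, div_le_div_iff_of_pos_right hpos]
      nlinarith [mul_nonneg (Nat.cast_nonneg (α := ℝ) (N l)) he0.le]
    have hsub : ∑ l ∈ A, Sl l / e l + Sl i / e i ≤ ∑ l, Sl l / e l := by
      rw [add_comm, ← Finset.sum_insert (f := fun l => Sl l / e l)
        (fun h => Finset.ne_of_mem_erase (Finset.mem_filter.mp h).1 rfl)]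
      refine Finset.sum_le_univ_sum_of_nonneg fun l => ?_
      simp only [Sl]; positivity
    have := Finset.sum_le_sum hoth
    linarith
  · -- bound on B: the norm of β i
    set γ := β i - (one + ((cβ i i : ℂ) • μ i + ((cβ i i + 1 : ℤ) : ℂ) • m i (lam i)⁻¹)) with hγ
    have hli := ne_one_inv (hlam i)
    have hμg : IsGeneralizedCharacter G (μ i) := hmg i _ (hlam i)
    have hνg : IsGeneralizedCharacter G (m i (lam i)⁻¹) := hmg i _ hli
    have hββ : classInner (β i) (β i) = (e i : ℂ) + 1 := by
      rw [(K i).inner_ind, (K i).kk_one_one, (K i).kk_one_left (hlam i), (K i).kk_one_right (hlam i),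
        (K i).kk_self (hlam i)]
      ring
    have hβ1 : classInner (β i) one = 1 := by rw [hind1, if_pos rfl, if_neg (hlam i)]; ring
    have hβν : classInner (β i) (m i (lam i)⁻¹) = ((cβ i i + 1 : ℤ) : ℂ) := by
      have h1 := (K i).inner_ind 1 (lam i) (lam i) (lam i)⁻¹
      rw [hΔ i _ (hlam i), classInner_sub_right, hcβ, (K i).kk_one_left (hlam i),
        (K i).kk_one_left hli, (K i).kk_self (hlam i), (K i).kk_symm (hlam i) hli,
        (K i).kk_inv hodd (hlam i)] at h1
      push_cast
      linear_combination -h1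
    have hμμ := si_self (hmi i _ (hlam i))
    have hνν := si_self (hmi i _ hli)
    have hγγ : (classInner γ γ).re ≤ (e i : ℝ) - 1 := by
      have h1 : classInner γ γ = (e i : ℂ) + 1 - (1 + ((cβ i i : ℂ) ^ 2 + ((cβ i i + 1 : ℤ) : ℂ) ^ 2)) := by
        simp only [hγ, classInner_sub_left, classInner_sub_right, classInner_add_left, classInner_add_right,
          classInner_smul_left, classInner_smul_right, map_intCast, hββ, hβ1, hβν,
          hcomm (β i) one (hβg i) honeg, hcomm (β i) (μ i) (hβg i) hμg,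
          hcomm (β i) (m i (lam i)⁻¹) (hβg i) hνg, hcβ, si_self hsi1, hm1 i _ (hlam i), hm1 i _ hli,
          hcomm (μ i) one hμg honeg, hcomm (m i (lam i)⁻¹) one hνg honeg, hμμ, hνν,
          hmm i _ (hlam i), hcomm (μ i) (m i (lam i)⁻¹) hμg hνg, μ]
        ring
      have h2 : (1 : ℤ) ≤ cβ i i ^ 2 + (cβ i i + 1) ^ 2 := by
        rcases le_or_gt 0 (cβ i i) with h | h <;> nlinarith
      have h3 : (1 : ℝ) ≤ (cβ i i : ℝ) ^ 2 + ((cβ i i : ℝ) + 1) ^ 2 := by exact_mod_cast h2
      have h4 : classInner γ γ = (((e i : ℝ) + 1 -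
          (1 + ((cβ i i : ℝ) ^ 2 + ((cβ i i : ℝ) + 1) ^ 2)) : ℝ) : ℂ) := by
        rw [h1]; push_cast; ring
      rw [h4, Complex.ofReal_re]
      linarith
    let y : ι → G → ℂ := fun l => ∑ q ∈ Finset.univ.erase (1 : H l →* ℂˣ), m l q
    have hγy : ∀ l ∈ B, classInner γ (y l) = (((N l * e l : ℕ) : ℝ) * (cβ i l : ℝ) : ℝ) := by
      intro l hl
      have hli' : l ≠ i := Finset.ne_of_mem_erase (Finset.mem_filter.mp hl).1
      have hq : ∀ q ∈ Finset.univ.erase (1 : H l →* ℂˣ), classInner γ (m l q) = (cβ i l : ℂ) := by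
        intro q hq
        have hq1 := Finset.ne_of_mem_erase hq
        simp only [hγ, classInner_sub_left, classInner_add_left, classInner_smul_left,
          hcomm (m l q) one (hmg l q hq1) honeg, hm1 l q hq1, μ,
          hcross i l (Ne.symm hli') _ (hlam i) _ hq1, hcross i l (Ne.symm hli') _ hli _ hq1,
          hconst i l (Ne.symm hli') q hq1]
        ring
      rw [classInner_sum_right, Finset.sum_congr rfl hq, Finset.sum_const, nsmul_eq_mul,
        Finset.card_erase_of_mem (Finset.mem_univ _), Finset.card_univ]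
      have : Fintype.card (H l →* ℂˣ) - 1 = N l * e l := by
        have := haN l; simp only [a] at this; omega
      rw [this]; push_cast; ring
    have hyy : ∀ l, classInner (y l) (y l) = ((((N l * e l : ℕ) : ℝ) * e l : ℝ) : ℂ) := by
      intro l
      simp only [y]
      rw [classInner_sum_left, Finset.sum_congr rfl fun q hq => by
        rw [classInner_sum_right, Finset.sum_congr rfl fun q' hq' => by
          rw [(hm l q q' (Finset.ne_of_mem_erase hq) (Finset.ne_of_mem_erase hq')).2.2,
            (K l).kk_symm (Finset.ne_of_mem_erase hq) (Finset.ne_of_mem_erase hq')]]]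
      have h1 : ∀ q ∈ Finset.univ.erase (1 : H l →* ℂˣ),
          ∑ q' ∈ Finset.univ.erase (1 : H l →* ℂˣ), (K l).kk q' q = (e l : ℂ) := fun q hq => by
        have h2 := (K l).sum_kk (mu := q)
        rwa [← Finset.add_sum_erase _ _ (Finset.mem_univ (1 : H l →* ℂˣ)),
          (K l).kk_one_left (Finset.ne_of_mem_erase hq), zero_add] at h2
      rw [Finset.sum_congr rfl h1, Finset.sum_const, nsmul_eq_mul,
        Finset.card_erase_of_mem (Finset.mem_univ _), Finset.card_univ]
      have : Fintype.card (H l →* ℂˣ) - 1 = N l * e l := by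
        have := haN l; simp only [a] at this; omega
      rw [this]; push_cast; ring
    have hb := bessel B y γ (fun l => ((N l * e l : ℕ) : ℝ) * e l)
      (fun l => ((N l * e l : ℕ) : ℝ) * (cβ i l : ℝ))
      (fun l _ => by
        have := he3 l; have := (hNeven l).2
        positivity)
      (fun l _ l' _ hll => by
        simp only [y, classInner_sum_left, classInner_sum_right]
        exact Finset.sum_eq_zero fun q hq => Finset.sum_eq_zero fun q' hq' =>
          hcross l l' hll _ (Finset.ne_of_mem_erase hq') _ (Finset.ne_of_mem_erase hq))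
      (fun l _ => hyy l) hγy
    have hterm : ∀ l ∈ B, (N l : ℝ) ≤
        (((N l * e l : ℕ) : ℝ) * (cβ i l : ℝ)) ^ 2 / (((N l * e l : ℕ) : ℝ) * e l) := by
      intro l hl
      have h0 : cβ i l ≠ 0 := by
        intro h0
        have := (Finset.mem_filter.mp hl).2
        rw [h0] at this
        exact absurd this (by decide)
      have hc1 : (1 : ℝ) ≤ (cβ i l : ℝ) ^ 2 := by
        have : (1 : ℤ) ≤ (cβ i l) ^ 2 := by nlinarith [Int.one_le_abs h0, sq_abs (cβ i l)]
        exact_mod_cast this
      have he0 : (0 : ℝ) < e l := Nat.cast_pos.mpr (by have := he3 l; omega)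
      have hN0 : (0 : ℝ) < N l := Nat.cast_pos.mpr (Nat.pos_of_ne_zero (hNeven l).2)
      push_cast
      rw [le_div_iff₀ (by positivity)]
      nlinarith [mul_le_mul_of_nonneg_left hc1 (show (0:ℝ) ≤ (N l : ℝ) ^ 2 * (e l : ℝ) ^ 2 by positivity)]
    have := Finset.sum_le_sum hterm
    linarith

end Cfsg.Agent.FrobeniusPartition
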