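/-
Trivial-intersection subgroups with Frobenius normalizer: characters of the normalizer and the
values of exceptional characters.
-/
import Mathlib
import Cfsg.Prelude.Def_OddOrderChar
import Cfsg.Agent.Lib.CharInducedTI
import Cfsg.Agent.Lib.CharInducedFrob
import Cfsg.Agent.Lib.CharBasicInt

set_option autoImplicit false

open scoped ComplexConjugate
open Finset

namespace Cfsg.Agent.CharInducedTIFrob

open CharBasic CharBasicOrth CharBasicDecomp CharInduced

universe u

variable {G : Type u} [Group G]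

/-- `χ` takes on `K` a value different from its degree. -/
def Rel (K N : Subgroup G) (χ : N → ℂ) : Prop :=
  ∃ k : N, (k : G) ∈ K ∧ χ k ≠ χ 1

variable {K N : Subgroup G}

theorem eq_apply_one_of_not_rel {χ : N → ℂ} (h : ¬ Rel K N χ) {k : N} (hk : (k : G) ∈ K) :
    χ k = χ 1 := by
  by_contra hne
  exact h ⟨k, hk, hne⟩

variable [hn : (K.subgroupOf N).Normal]

theorem centralizer_le_subgroupOf
    (hC : ∀ k ∈ K, k ≠ 1 → Subgroup.centralizer ({k} : Set G) ≤ K) :
    ∀ n ∈ K.subgroupOf N, n ≠ 1 → Subgroup.centralizer ({n} : Set N) ≤ K.subgroupOf N := by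
  intro n hn' hn1 g hg
  refine hC (n : G) hn' (fun e => hn1 (Subtype.ext e)) ?_
  rw [Subgroup.mem_centralizer_iff]
  rintro y rfl
  exact congrArg Subtype.val (Subgroup.mem_centralizer_iff.1 hg n rfl)

theorem vanish [Fintype N] (hC : ∀ k ∈ K, k ≠ 1 → Subgroup.centralizer ({k} : Set G) ≤ K)
    {χ : N → ℂ} (hχ : IsIrrCharacter N χ) (hr : Rel K N χ) {x : N} (hx : (x : G) ∉ K) :
    χ x = 0 := by
  obtain ⟨k, hk, hne⟩ := hr
  obtain ⟨φ, -, rfl⟩ := exists_ind_eq_of_centralizer (K.subgroupOf N) (centralizer_le_subgroupOf hC)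
    hχ ⟨k, hk, hne⟩
  exact ind_normal_eq_zero (K.subgroupOf N) φ hx

theorem rel_of_ind [Fintype N]
    (hC : ∀ k ∈ K, k ≠ 1 → Subgroup.centralizer ({k} : Set G) ≤ K)
    {θ : K.subgroupOf N → ℂ} (hθ : IsIrrCharacter (K.subgroupOf N) θ) (h1 : θ ≠ fun _ => 1) :
    IsIrrCharacter N (indFun (K.subgroupOf N) θ) ∧ Rel K N (indFun (K.subgroupOf N) θ) := by
  classical
  have hirr := isIrrCharacter_ind_of_centralizer _ (centralizer_le_subgroupOf hC) hθ h1
  refine ⟨hirr, ?_⟩
  by_contra hr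
  have h2 := inner_ind_left (K.subgroupOf N) θ (isClassFunction_irr hirr)
  rw [classInner_irr_self hirr] at h2
  have h3 : (fun x : K.subgroupOf N => indFun (K.subgroupOf N) θ x) =
      (indFun (K.subgroupOf N) θ 1) • fun _ => (1 : ℂ) := by
    funext x
    simp only [Pi.smul_apply, smul_eq_mul, mul_one]
    exact eq_apply_one_of_not_rel hr x.2
  rw [h3, CharInduced.inner_smul_right, classInner_irr_ne hθ isIrrCharacter_one h1, mul_zero] at h2
  exact one_ne_zero h2

theorem sum_rel_eq [Fintype N] (c : IrrCharacter N → ℂ) {a : ℂ}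
    (hc : ∀ χ : IrrCharacter N, Rel K N χ → c χ = a * (χ : N → ℂ) 1)
    {k : N} (hk : (k : G) ∈ K) (hk1 : k ≠ 1) :
    ∑ χ : IrrCharacter N, c χ * (χ : N → ℂ) k =
      ∑ χ : IrrCharacter N, (c χ - a * (χ : N → ℂ) 1) * (χ : N → ℂ) 1 := by
  classical
  have h0 : ∑ χ : IrrCharacter N, a * ((χ : N → ℂ) 1 * (χ : N → ℂ) k) = 0 := by
    rw [← Finset.mul_sum]
    have h := sum_irr_mul_conj k (1 : N)
    rw [if_neg (fun e => hk1 (isConj_one_left.1 e))] at h
    rw [Finset.sum_congr rfl (g := fun χ : IrrCharacter N => (χ : N → ℂ) k * conj ((χ : N → ℂ) 1))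
      fun χ _ => by
        obtain ⟨d, -, hd⟩ := isIrrCharacter_apply_one χ.2
        rw [hd, Complex.conj_natCast, mul_comm], h, mul_zero]
  calc ∑ χ : IrrCharacter N, c χ * (χ : N → ℂ) k
      = ∑ χ : IrrCharacter N, ((c χ - a * (χ : N → ℂ) 1) * (χ : N → ℂ) k +
          a * ((χ : N → ℂ) 1 * (χ : N → ℂ) k)) := Finset.sum_congr rfl fun χ _ => by ring
    _ = ∑ χ : IrrCharacter N, (c χ - a * (χ : N → ℂ) 1) * (χ : N → ℂ) k := by
        rw [Finset.sum_add_distrib, h0, add_zero]
    _ = _ := Finset.sum_congr rfl fun χ _ => by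
        by_cases hr : Rel K N χ
        · rw [hc χ hr, sub_self, zero_mul, zero_mul]
        · rw [eq_apply_one_of_not_rel hr hk]

/-- A class function orthogonal to the differences of relevant characters vanishing at the identity
is constant on the non-identity elements of `K`. -/
theorem const_on [Fintype N] {f : N → ℂ} (hf : IsClassFunction N f)
    (hor : ∀ χ ξ : IrrCharacter N, Rel K N χ → Rel K N ξ →
      (ξ : N → ℂ) 1 * classInner f χ = (χ : N → ℂ) 1 * classInner f ξ)
    {k l : N} (hk : (k : G) ∈ K) (hk1 : k ≠ 1) (hl : (l : G) ∈ K) (hl1 : l ≠ 1) : f k = f l := by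
  classical
  have hexp : ∀ x, f x = ∑ χ : IrrCharacter N, classInner f χ * (χ : N → ℂ) x := fun x => by
    have := congrFun (eq_sum_classInner hf) x
    simpa [Finset.sum_apply] using this
  by_cases hex : ∃ ξ : IrrCharacter N, Rel K N ξ
  · obtain ⟨ξ, hξ⟩ := hex
    have hc : ∀ χ : IrrCharacter N, Rel K N χ →
        classInner f χ = (classInner f ξ / (ξ : N → ℂ) 1) * (χ : N → ℂ) 1 := by
      intro χ hχ
      have h0 := isIrrCharacter_apply_one_ne_zero ξ.2
      field_simp
      linear_combination hor χ ξ hχ hξ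
    rw [hexp k, hexp l, sum_rel_eq (fun χ : IrrCharacter N => classInner f χ) hc hk hk1,
      sum_rel_eq (fun χ : IrrCharacter N => classInner f χ) hc hl hl1]
  · push Not at hex
    rw [hexp k, hexp l]
    exact Finset.sum_congr rfl fun χ _ => by
      rw [eq_apply_one_of_not_rel (hex χ) hk, eq_apply_one_of_not_rel (hex χ) hl]

variable [Fintype G]

theorem sum_on [Fintype N] (hKN : K ≤ N) {χ : N → ℂ} (hχ : IsIrrCharacter N χ) (hr : Rel K N χ)
    (hC : ∀ k ∈ K, k ≠ 1 → Subgroup.centralizer ({k} : Set G) ≤ K) [Fintype (K.subgroupOf N)] :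
    ∑ x : K.subgroupOf N, χ x = 0 := by
  classical
  have h1 : classInner χ (fun _ : N => 1) = 0 := by
    refine classInner_irr_ne hχ isIrrCharacter_one fun e => ?_
    obtain ⟨k, -, hk⟩ := hr
    exact hk (by rw [e])
  rw [classInner, mul_eq_zero] at h1
  have h2 := h1.resolve_left (inv_ne_zero (Nat.cast_ne_zero.2 Nat.card_pos.ne'))
  simp only [map_one, mul_one] at h2
  rw [← Finset.sum_subset (Finset.subset_univ (Finset.univ.filter fun x : N => (x : G) ∈ K))
    (fun x _ hx => vanish hC hχ hr (by simpa using hx))] at h2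
  rw [← h2]
  exact (Finset.sum_subtype (Finset.univ.filter fun x : N => x ∈ K.subgroupOf N)
    (fun x => by simp) χ).symm.trans (Finset.sum_congr (by ext x; simp [Subgroup.mem_subgroupOf])
      fun _ _ => rfl)

theorem ind_eq (hTI : ∀ g : G, g ∉ N → ∀ t ∈ K, g * t * g⁻¹ ∈ K → t = 1) {α : N → ℂ}
    (hα : IsClassFunction N α) (hv : ∀ x : N, (x : G) ∉ K → α x = 0) (k : N) (hk : (k : G) ∈ K)
    (hk1 : k ≠ 1) : indFun N α (k : G) = α k :=
  ind_eq_of_ti (K : Set G) N hTI α hα hv k hk hk1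

theorem inner_ind [Fintype N] (hTI : ∀ g : G, g ∉ N → ∀ t ∈ K, g * t * g⁻¹ ∈ K → t = 1)
    {α β : N → ℂ} (hβ : IsClassFunction N β) (hva : ∀ x : N, (x : G) ∉ K → α x = 0)
    (hvb : ∀ x : N, (x : G) ∉ K → β x = 0) (hα1 : α 1 = 0) :
    classInner (indFun N α) (indFun N β) = classInner α β :=
  classInner_ind_of_ti (K : Set G) N hTI α β hβ hva hvb hα1

/-- The generator `ξ(1)χ - χ(1)ξ` of the span vanishing at the identity. -/
noncomputable def gen (χ ξ : N → ℂ) : N → ℂ := ξ 1 • χ - χ 1 • ξ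

omit [Fintype G] in
theorem gen_one (χ ξ : N → ℂ) : gen χ ξ 1 = 0 := by simp [gen, mul_comm]

omit [Fintype G] in
theorem gen_vanish [Fintype N] (hC : ∀ k ∈ K, k ≠ 1 → Subgroup.centralizer ({k} : Set G) ≤ K)
    {χ ξ : N → ℂ} (hχ : IsIrrCharacter N χ) (hχr : Rel K N χ) (hξ : IsIrrCharacter N ξ)
    (hξr : Rel K N ξ) (x : N) (hx : (x : G) ∉ K) : gen χ ξ x = 0 := by
  simp [gen, vanish hC hχ hχr hx, vanish hC hξ hξr hx]

omit [Fintype G] in
theorem gen_class [Finite N] {χ ξ : N → ℂ} (hχ : IsIrrCharacter N χ) (hξ : IsIrrCharacter N ξ) :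
    IsClassFunction N (gen χ ξ) := fun a b => by
  simp [gen, isClassFunction_irr hχ a b, isClassFunction_irr hξ a b]

end Cfsg.Agent.CharInducedTIFrob
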