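import Mathlib

/-!
Combinatorics of a grid of norm-three integer vectors in which mates of a row or column share exactly one
signed coordinate and all other pairs are orthogonal.
-/

set_option autoImplicit false

open scoped Classical

namespace Cfsg.Agent.TripleGrid

variable {ι : Type*} [Fintype ι]

/-- Standard inner product. -/
def pr (u w : ι → ℤ) : ℤ := ∑ p, u p * w p

/-- Support. -/
noncomputable def sp (u : ι → ℤ) : Finset ι := Finset.univ.filter fun p => u p ≠ 0

theorem mem_sp {u : ι → ℤ} {p : ι} : p ∈ sp u ↔ u p ≠ 0 := by simp [sp]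

theorem pr_comm (u w : ι → ℤ) : pr u w = pr w u := Finset.sum_congr rfl fun _ _ => mul_comm _ _

theorem pr_eq_sum_inter (u w : ι → ℤ) : pr u w = ∑ p ∈ sp u ∩ sp w, u p * w p := by
  refine (Finset.sum_subset (Finset.subset_univ _) fun p _ hp => ?_).symm
  simp only [Finset.mem_inter, mem_sp, not_and_or, not_not] at hp
  rcases hp with h | h <;> rw [h] <;> ring

theorem sq_le {u : ι → ℤ} (h : pr u u = 3) (p : ι) : -1 ≤ u p ∧ u p ≤ 1 := by
  have : u p * u p ≤ 3 :=
    h ▸ Finset.single_le_sum (f := fun q => u q * u q) (fun q _ => mul_self_nonneg _) (Finset.mem_univ p)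
  constructor <;> nlinarith

theorem cases_val {u : ι → ℤ} (h : pr u u = 3) (p : ι) : u p = 0 ∨ u p = 1 ∨ u p = -1 := by
  have := sq_le h p; omega

theorem card_sp {u : ι → ℤ} (h : pr u u = 3) : (sp u).card = 3 := by
  have e := h
  rw [pr_eq_sum_inter, Finset.inter_self,
    Finset.sum_congr rfl (g := fun _ => (1 : ℤ)) fun p hp => by
      rcases cases_val h p with e | e | e
      · exact absurd e (mem_sp.mp hp)
      · rw [e]; rfl
      · rw [e]; rfl] at e
  simp only [Finset.sum_const, nsmul_eq_mul, mul_one] at e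
  exact_mod_cast e

/-- Mates: inner product one, all products nonnegative. -/
def Mate (u w : ι → ℤ) : Prop := pr u w = 1 ∧ ∀ p, 0 ≤ u p * w p

theorem Mate.symm {u w : ι → ℤ} (h : Mate u w) : Mate w u :=
  ⟨pr_comm u w ▸ h.1, fun p => mul_comm (u p) (w p) ▸ h.2 p⟩

theorem mate_point {u w : ι → ℤ} (hu : pr u u = 3) (hw : pr w w = 3) (h : Mate u w) :
    ∃ p, sp u ∩ sp w = {p} ∧ u p = w p := by
  have key : ∀ p ∈ sp u ∩ sp w, u p = w p ∧ u p * w p = 1 := fun p hp => by
    obtain ⟨h1, h2⟩ := Finset.mem_inter.mp hp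
    have h0 := h.2 p
    rcases cases_val hu p with a | a | a <;> rcases cases_val hw p with b | b | b <;>
      simp_all [mem_sp]
  have e := h.1
  rw [pr_eq_sum_inter, Finset.sum_congr rfl (g := fun _ => (1 : ℤ)) fun p hp => (key p hp).2] at e
  obtain ⟨p, hp⟩ := Finset.card_eq_one.mp
    (show (sp u ∩ sp w).card = 1 by simp only [Finset.sum_const, nsmul_eq_mul, mul_one] at e; exact_mod_cast e)
  exact ⟨p, hp, (key p (hp ▸ Finset.mem_singleton_self p)).1⟩

theorem mate_unique {u w : ι → ℤ} (hu : pr u u = 3) (hw : pr w w = 3) (h : Mate u w) {p q : ι}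
    (hp : u p ≠ 0) (hp' : w p ≠ 0) (hq : u q ≠ 0) (hq' : w q ≠ 0) : p = q := by
  obtain ⟨r, hr, -⟩ := mate_point hu hw h
  have h1 : p ∈ sp u ∩ sp w := Finset.mem_inter.mpr ⟨mem_sp.mpr hp, mem_sp.mpr hp'⟩
  have h2 : q ∈ sp u ∩ sp w := Finset.mem_inter.mpr ⟨mem_sp.mpr hq, mem_sp.mpr hq'⟩
  rw [hr, Finset.mem_singleton] at h1 h2
  rw [h1, h2]

theorem mate_val {u w : ι → ℤ} (hu : pr u u = 3) (hw : pr w w = 3) (h : Mate u w) {p : ι}
    (hp : u p ≠ 0) (hp' : w p ≠ 0) : u p = w p := by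
  have h0 := h.2 p
  rcases cases_val hu p with a | a | a <;> rcases cases_val hw p with b | b | b <;> simp_all

/-- Equal degrees turn inner product one into the mate relation. -/
theorem mate_of_deg {u v : ι → ℤ} (hu : pr u u = 3) (hv : pr v v = 3)
    (h : pr u v = 1) (deg : ι → ℂ) (hdeg : ∀ p, deg p ≠ 0)
    (hd : ∑ p, (u p : ℂ) * deg p = ∑ p, (v p : ℂ) * deg p) : Mate u v := by
  refine ⟨h, fun q => ?_⟩
  by_contra hq
  rw [not_le] at hq
  have hval : ∀ ψ, u ψ * v ψ ≤ 1 := fun ψ => by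
    rcases cases_val hu ψ with a | a | a <;> rcases cases_val hv ψ with b | b | b <;>
      simp [a, b]
  have hq0 : u q ≠ 0 := fun e => by simp [e] at hq
  have hq0' : v q ≠ 0 := fun e => by simp [e] at hq
  have hqm : q ∈ sp u ∩ sp v :=
    Finset.mem_inter.mpr ⟨mem_sp.mpr hq0, mem_sp.mpr hq0'⟩
  have e := h
  rw [pr_eq_sum_inter, ← Finset.add_sum_erase _ _ hqm] at e
  have h2 : 2 ≤ ((sp u ∩ sp v).erase q).card := by
    have := Finset.sum_le_card_nsmul ((sp u ∩ sp v).erase q) (fun ψ => u ψ * v ψ) 1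
      fun ψ _ => hval ψ
    simp only [nsmul_eq_mul, mul_one] at this
    omega
  rw [Finset.card_erase_of_mem hqm] at h2
  have h3 : sp u ∩ sp v = sp u :=
    Finset.eq_of_subset_of_card_le Finset.inter_subset_left (by rw [card_sp hu]; omega)
  have h4 : sp u ∩ sp v = sp v :=
    Finset.eq_of_subset_of_card_le Finset.inter_subset_right (by rw [card_sp hv]; omega)
  have hs : sp u = sp v := h3.symm.trans h4
  have heq : ∀ ψ, ψ ≠ q → u ψ = v ψ := by
    intro ψ hψ
    by_cases h0 : u ψ = 0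
    · have : ψ ∉ sp v := hs ▸ fun h' => mem_sp.mp h' h0
      rw [mem_sp, not_not] at this
      rw [h0, this]
    have hψv : v ψ ≠ 0 := mem_sp.mp (hs ▸ mem_sp.mpr h0)
    by_contra hne
    have hneg : u ψ * v ψ = -1 := by
      rcases cases_val hu ψ with a | a | a <;> rcases cases_val hv ψ with b | b | b <;>
        simp_all
    have hψm : ψ ∈ (sp u ∩ sp v).erase q :=
      Finset.mem_erase.mpr ⟨hψ, Finset.mem_inter.mpr ⟨mem_sp.mpr h0, mem_sp.mpr hψv⟩⟩
    rw [h3] at e hψm hqm
    have hrest := Finset.sum_le_card_nsmul (((sp u).erase q).erase ψ)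
      (fun ψ => u ψ * v ψ) 1 fun ψ _ => hval ψ
    rw [← Finset.add_sum_erase _ _ hψm, hneg] at e
    have hc : (((sp u).erase q).erase ψ).card = 1 := by
      rw [Finset.card_erase_of_mem hψm, Finset.card_erase_of_mem hqm, card_sp hu]
    simp only [nsmul_eq_mul, mul_one, hc, Nat.cast_one] at hrest
    omega
  have h5 : ∑ p, (u p : ℂ) * deg p - ∑ p, (v p : ℂ) * deg p = ((u q : ℂ) - (v q : ℂ)) * deg q := by
    rw [← Finset.sum_sub_distrib, Finset.sum_eq_single q (fun ψ _ hψ => by rw [heq ψ hψ, sub_self]) (by simp)]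
    ring
  rw [hd, sub_self] at h5
  rcases mul_eq_zero.mp h5.symm with h6 | h6
  · rw [sub_eq_zero, Int.cast_inj] at h6
    rw [h6] at hq
    nlinarith [mul_self_nonneg (v q)]
  · exact hdeg q h6

/-- Three sign patterns for the transversal. -/
def topt : Fin 3 → Fin 7 → ℤ :=
  ![![0, 1, 0, 0, -1, 0, 0], ![0, 0, 1, 0, 0, -1, 0], ![0, 0, 0, 1, 0, 0, -1]]

/-- Four sign patterns for the spoke number `k`; coordinates are `a b c z x y t`. -/
def sopt : Fin 3 → Fin 4 → Fin 7 → ℤ :=
  ![![![1, 0, 0, 0, 0, -1, -1], ![0, 1, -1, 0, 0, 1, 0], ![0, 1, 0, -1, 0, 0, 1], ![0, 0, 0, 0, 1, 0, 0]],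
    ![![1, 0, 0, 0, -1, 0, -1], ![0, -1, 1, 0, 1, 0, 0], ![0, 0, 1, -1, 0, 0, 1], ![0, 0, 0, 0, 0, 1, 0]],
    ![![1, 0, 0, 0, -1, -1, 0], ![0, -1, 0, 1, 1, 0, 0], ![0, 0, -1, 1, 0, 1, 0], ![0, 0, 0, 0, 0, 0, 1]]]

/-- Compatibility of two sign patterns of mates, as a Boolean. -/
def compat (u w : Fin 7 → ℤ) : Bool :=
  (List.finRange 7).all (fun p => decide (0 ≤ u p * w p)) &&
    decide (((List.finRange 7).map fun p => u p * w p).sum ≤ 1) &&
    ((decide (((List.finRange 7).map fun p => (u p).natAbs).sum < 3) &&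
        decide (((List.finRange 7).map fun p => (w p).natAbs).sum < 3)) ||
      decide (((List.finRange 7).map fun p => u p * w p).sum = 1))

/-- All six compatibilities. -/
def all6 (i : Fin 3) (j k l : Fin 4) : Bool :=
  compat (topt i) (sopt 0 j) && compat (topt i) (sopt 1 k) && compat (topt i) (sopt 2 l) &&
    compat (sopt 0 j) (sopt 1 k) && compat (sopt 0 j) (sopt 2 l) && compat (sopt 1 k) (sopt 2 l)

theorem no_pattern : ∀ i j k l, all6 i j k l = false := by decide +kernel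

theorem spoke_options {a b x c y z t : ℤ} (ha : 0 ≤ a) (hb : 0 ≤ b) (hx : 0 ≤ x) (h0 : a + b + x = 1)
    (h1 : a + c + y = 0) (h2 : a + z + t = 0) (h3 : b + c + z = 0) (hc : -1 ≤ c ∧ c ≤ 1) (hz : -1 ≤ z ∧ z ≤ 1)
    (hn : a.natAbs + b.natAbs + c.natAbs + z.natAbs + x.natAbs + y.natAbs + t.natAbs ≤ 3) :
    (a = 1 ∧ b = 0 ∧ c = 0 ∧ z = 0 ∧ x = 0 ∧ y = -1 ∧ t = -1) ∨
      (a = 0 ∧ b = 1 ∧ c = -1 ∧ z = 0 ∧ x = 0 ∧ y = 1 ∧ t = 0) ∨
      (a = 0 ∧ b = 1 ∧ c = 0 ∧ z = -1 ∧ x = 0 ∧ y = 0 ∧ t = 1) ∨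
      (a = 0 ∧ b = 0 ∧ c = 0 ∧ z = 0 ∧ x = 1 ∧ y = 0 ∧ t = 0) := by
  obtain ⟨hc1, hc2⟩ := hc
  obtain ⟨hz1, hz2⟩ := hz
  obtain ⟨rfl, rfl, rfl⟩ | ⟨rfl, rfl, rfl⟩ | ⟨rfl, rfl, rfl⟩ :
      (a = 1 ∧ b = 0 ∧ x = 0) ∨ (a = 0 ∧ b = 1 ∧ x = 0) ∨ (a = 0 ∧ b = 0 ∧ x = 1) := by omega
  all_goals interval_cases c <;> interval_cases z <;> omega

theorem transversal_options {a b x c y z t : ℤ} (hb : 0 ≤ b) (hc : 0 ≤ c) (hz : 0 ≤ z) (h0 : a + b + x = 0)
    (h1 : a + c + y = 0) (h2 : a + z + t = 0) (h3 : b + c + z = 1) (ha : -1 ≤ a ∧ a ≤ 1)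
    (hn : a.natAbs + b.natAbs + c.natAbs + z.natAbs + x.natAbs + y.natAbs + t.natAbs ≤ 3) :
    (a = 0 ∧ b = 1 ∧ c = 0 ∧ z = 0 ∧ x = -1 ∧ y = 0 ∧ t = 0) ∨
      (a = 0 ∧ b = 0 ∧ c = 1 ∧ z = 0 ∧ x = 0 ∧ y = -1 ∧ t = 0) ∨
      (a = 0 ∧ b = 0 ∧ c = 0 ∧ z = 1 ∧ x = 0 ∧ y = 0 ∧ t = -1) := by
  obtain ⟨ha1, ha2⟩ := ha
  interval_cases a <;> omega

/-- Four mutual mates and four further mutual mates, `w k` being a mate of `v k` and orthogonal to the others. -/
structure Quad (v w : Fin 4 → ι → ℤ) : Prop where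
  nv : ∀ j, pr (v j) (v j) = 3
  nw : ∀ j, pr (w j) (w j) = 3
  mv : ∀ j k, j ≠ k → Mate (v j) (v k)
  mw : ∀ j k, j ≠ k → Mate (w j) (w k)
  same : ∀ j, Mate (v j) (w j)
  off : ∀ j k, j ≠ k → pr (v j) (w k) = 0

theorem Quad.perm {v w : Fin 4 → ι → ℤ} (q : Quad v w) (σ : Equiv.Perm (Fin 4)) :
    Quad (v ∘ σ) (w ∘ σ) :=
  ⟨fun j => q.nv _, fun j => q.nw _, fun j k h => q.mv _ _ (σ.injective.ne h),
    fun j k h => q.mw _ _ (σ.injective.ne h), fun j => q.same _, fun j k h => q.off _ _ (σ.injective.ne h)⟩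

theorem third {u : ι → ℤ} (h : pr u u = 3) {p q : ι} (hp : u p ≠ 0) (hq : u q ≠ 0) (hne : p ≠ q) :
    ∃ r, r ≠ p ∧ r ≠ q ∧ u r ≠ 0 ∧ sp u = {p, q, r} := by
  have hsub : ({p, q} : Finset ι) ⊆ sp u := by
    intro s hs
    rcases Finset.mem_insert.mp hs with rfl | hs
    · exact mem_sp.mpr hp
    · exact mem_sp.mpr (Finset.mem_singleton.mp hs ▸ hq)
  obtain ⟨r, hr⟩ := Finset.card_eq_one.mp
    (show (sp u \ {p, q}).card = 1 by rw [Finset.card_sdiff_of_subset hsub, card_sp h, Finset.card_pair hne])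
  have hr' : r ∈ sp u \ {p, q} := hr ▸ Finset.mem_singleton_self r
  simp only [Finset.mem_sdiff, Finset.mem_insert, Finset.mem_singleton, not_or] at hr'
  refine ⟨r, hr'.2.1, hr'.2.2, mem_sp.mp hr'.1, ?_⟩
  rw [← Finset.sdiff_union_of_subset hsub, hr]
  ext s; simp only [Finset.mem_union, Finset.mem_singleton, Finset.mem_insert]; tauto

/-- No point lies on exactly three of four lines. -/
theorem Quad.not_three {v w : Fin 4 → ι → ℤ} (q : Quad v w) (a : ι) (h0 : v 0 a ≠ 0) (h1 : v 1 a ≠ 0)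
    (h2 : v 2 a ≠ 0) (h3 : v 3 a = 0) : False := by
  have meet : ∀ j, j ≠ 3 → ∃ b, v j b ≠ 0 ∧ v 3 b ≠ 0 ∧ b ≠ a := fun j hj => by
    obtain ⟨b, hb, -⟩ := mate_point (q.nv j) (q.nv 3) (q.mv j 3 hj)
    have hb' : b ∈ sp (v j) ∩ sp (v 3) := hb ▸ Finset.mem_singleton_self b
    rw [Finset.mem_inter, mem_sp, mem_sp] at hb'
    exact ⟨b, hb'.1, hb'.2, fun e => hb'.2 (e ▸ h3)⟩
  obtain ⟨b, hb0, hb3, hba⟩ := meet 0 (by decide)
  obtain ⟨c, hc1, hc3, hca⟩ := meet 1 (by decide)
  obtain ⟨z, hz2, hz3, hza⟩ := meet 2 (by decide)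
  have U : ∀ j k, j ≠ k → ∀ {p r : ι}, v j p ≠ 0 → v k p ≠ 0 → v j r ≠ 0 → v k r ≠ 0 → p = r :=
    fun j k h _ _ => mate_unique (q.nv j) (q.nv k) (q.mv j k h)
  have hbc : b ≠ c := fun e => hba (U 0 1 (by decide) hb0 (e ▸ hc1) h0 h1)
  have hbz : b ≠ z := fun e => hba (U 0 2 (by decide) hb0 (e ▸ hz2) h0 h2)
  have hcz : c ≠ z := fun e => hca (U 1 2 (by decide) hc1 (e ▸ hz2) h1 h2)
  obtain ⟨x, hxa, hxb, hx0, e0⟩ := third (q.nv 0) h0 hb0 (Ne.symm hba)
  obtain ⟨y, hya, hyc, hy1, e1⟩ := third (q.nv 1) h1 hc1 (Ne.symm hca)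
  obtain ⟨t, hta, htz, ht2, e2⟩ := third (q.nv 2) h2 hz2 (Ne.symm hza)
  obtain ⟨z', -, -, -, e3⟩ := third (q.nv 3) hb3 hc3 hbc
  have hz' : z' = z := by
    have : z ∈ sp (v 3) := mem_sp.mpr hz3
    simp only [e3, Finset.mem_insert, Finset.mem_singleton] at this
    rcases this with e | e | e
    · exact absurd e.symm hbz
    · exact absurd e.symm hcz
    · exact e.symm
  rw [hz'] at e3
  have hxy : x ≠ y := fun e => hxa (U 0 1 (by decide) hx0 (e ▸ hy1) h0 h1)
  have hxt : x ≠ t := fun e => hxa (U 0 2 (by decide) hx0 (e ▸ ht2) h0 h2)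
  have hyt : y ≠ t := fun e => hya (U 1 2 (by decide) hy1 (e ▸ ht2) h1 h2)
  have hxc : x ≠ c := fun e => hxa (U 0 1 (by decide) hx0 (e ▸ hc1) h0 h1)
  have hxz : x ≠ z := fun e => hxa (U 0 2 (by decide) hx0 (e ▸ hz2) h0 h2)
  have hyb : y ≠ b := fun e => hya (U 0 1 (by decide) (e ▸ hb0) hy1 h0 h1)
  have hyz : y ≠ z := fun e => hya (U 1 2 (by decide) hy1 (e ▸ hz2) h1 h2)
  have htb : t ≠ b := fun e => hta (U 0 2 (by decide) (e ▸ hb0) ht2 h0 h2)
  have htc : t ≠ c := fun e => hta (U 1 2 (by decide) (e ▸ hc1) ht2 h1 h2)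
  have V : ∀ j k, j ≠ k → ∀ {p : ι}, v j p ≠ 0 → v k p ≠ 0 → v j p = v k p :=
    fun j k h _ => mate_val (q.nv j) (q.nv k) (q.mv j k h)
  let ε : Fin 7 → ℤ := ![v 0 a, v 3 b, v 3 c, v 3 z, v 0 x, v 1 y, v 2 t]
  let P : Fin 7 → ι := ![a, b, c, z, x, y, t]
  let s : Fin 4 → Fin 7 → ℤ := fun k p => ε p * w k (P p)
  have hP : Function.Injective P := by
    intro i j h
    fin_cases i <;> fin_cases j <;> simp_all [P, eq_comm]
  have hε : ∀ p, ε p = 1 ∨ ε p = -1 := by
    intro p
    have aux : ∀ j r, v j r ≠ 0 → v j r = 1 ∨ v j r = -1 := fun j r h =>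
      (cases_val (q.nv j) r).resolve_left h
    fin_cases p <;> simp only [ε] <;> first
      | exact aux _ _ h0
      | exact aux _ _ hb3
      | exact aux _ _ hc3
      | exact aux _ _ hz3
      | exact aux _ _ hx0
      | exact aux _ _ hy1
      | exact aux _ _ ht2
  have line : ∀ j (p r o : ι), p ≠ r → p ≠ o → r ≠ o → sp (v j) = {p, r, o} → ∀ k,
      v j p * w k p + v j r * w k r + v j o * w k o = if j = k then 1 else 0 := by
    intro j p r o hpr hpo hro e k
    have e' : pr (v j) (w k) = if j = k then 1 else 0 := by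
      split_ifs with h
      · exact h ▸ (q.same j).1
      · exact q.off j k h
    rw [← e', pr, ← Finset.sum_subset (Finset.subset_univ (sp (v j))) (fun i _ hi => by
      rw [mem_sp, not_not] at hi; rw [hi, zero_mul]), e, Finset.sum_insert (by simp [hpr, hpo]),
      Finset.sum_pair hro, add_assoc]
  have E0 : ∀ k, s k 0 + s k 1 + s k 4 = if 0 = k then 1 else 0 := fun k => by
    rw [← line 0 a b x (Ne.symm hba) (Ne.symm hxa) (Ne.symm hxb) e0 k, V 0 3 (by decide) hb0 hb3]; rfl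
  have E1 : ∀ k, s k 0 + s k 2 + s k 5 = if 1 = k then 1 else 0 := fun k => by
    rw [← line 1 a c y (Ne.symm hca) (Ne.symm hya) (Ne.symm hyc) e1 k, ← V 0 1 (by decide) h0 h1,
      V 1 3 (by decide) hc1 hc3]; rfl
  have E2 : ∀ k, s k 0 + s k 3 + s k 6 = if 2 = k then 1 else 0 := fun k => by
    rw [← line 2 a z t (Ne.symm hza) (Ne.symm hta) (Ne.symm htz) e2 k, ← V 0 2 (by decide) h0 h2,
      V 2 3 (by decide) hz2 hz3]; rfl
  have E3 : ∀ k, s k 1 + s k 2 + s k 3 = if 3 = k then 1 else 0 := fun k =>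
    line 3 b c z hbc hbz hcz e3 k
  have sbd : ∀ k p, -1 ≤ s k p ∧ s k p ≤ 1 := fun k p => by
    have := sq_le (q.nw k) (P p)
    rcases hε p with h | h <;> simp only [s, h] <;> omega
  have sabs : ∀ k p, ((s k p).natAbs : ℤ) = w k (P p) * w k (P p) := fun k p => by
    rcases hε p with h | h <;> rcases cases_val (q.nw k) (P p) with h' | h' | h' <;> simp [s, h, h']
  have hle : ∀ f : ι → ℤ, (∀ i, 0 ≤ f i) → ∑ p, f (P p) ≤ ∑ i, f i := fun f hf => by
    rw [← Finset.sum_image (f := f) (g := P) hP.injOn]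
    exact Finset.sum_le_sum_of_subset_of_nonneg (Finset.subset_univ _) fun i _ _ => hf i
  have hn : ∀ k, (s k 0).natAbs + (s k 1).natAbs + (s k 2).natAbs + (s k 3).natAbs + (s k 4).natAbs +
      (s k 5).natAbs + (s k 6).natAbs ≤ 3 := fun k => by
    have h := hle (fun i => w k i * w k i) fun i => mul_self_nonneg _
    rw [show ∑ i, w k i * w k i = 3 from q.nw k, Finset.sum_congr rfl fun p _ => (sabs k p).symm,
      Fin.sum_univ_seven] at h
    omega
  have hnn : ∀ k l, k ≠ l → compat (s k) (s l) = true := by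
    intro k l hkl
    have hp : ∀ p, s k p * s l p = w k (P p) * w l (P p) := fun p => by
      rcases hε p with h | h <;> simp [s, h]
    have hm := q.mw k l hkl
    have hsum : ((List.finRange 7).map fun p => s k p * s l p).sum = ∑ p, w k (P p) * w l (P p) := by
      rw [Fin.sum_univ_def]; simp only [hp]
    have hfull : ∀ k, ¬ ((List.finRange 7).map fun p => (s k p).natAbs).sum < 3 →
        ∀ i, i ∉ Set.range P → w k i = 0 := by
      intro k hk i hi
      rw [← Fin.sum_univ_def, not_lt] at hk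
      have hk' : (3 : ℤ) ≤ ∑ p, w k (P p) * w k (P p) := by
        rw [← Finset.sum_congr rfl fun p _ => sabs k p]
        exact_mod_cast hk
      by_contra hne
      have h := hle (fun r => if r = i then 0 else w k r * w k r) fun r => by
        split_ifs
        · exact le_rfl
        · exact mul_self_nonneg _
      simp only [show ∀ p, (P p = i) = False from fun p => eq_false fun e => hi ⟨p, e⟩, if_false] at h
      have h' : ∑ r, (if r = i then 0 else w k r * w k r) + w k i * w k i = 3 := by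
        rw [← q.nw k, pr, ← Finset.add_sum_erase _ _ (Finset.mem_univ i),
          ← Finset.add_sum_erase _ _ (Finset.mem_univ i), if_pos rfl, zero_add, add_comm]
        congr 1
        exact Finset.sum_congr rfl fun r hr => if_neg (Finset.ne_of_mem_erase hr)
      have : 0 < w k i * w k i := mul_self_pos.mpr hne
      omega
    simp only [compat, Bool.and_eq_true, Bool.or_eq_true, decide_eq_true_eq, List.all_eq_true, hsum]
    refine ⟨⟨fun p _ => hp p ▸ hm.2 _, hm.1 ▸ hle (fun i => w k i * w l i) hm.2⟩, ?_⟩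
    by_contra hno
    rw [not_or, not_and_or] at hno
    refine hno.2 ?_
    rw [← hm.1, pr, ← Finset.sum_image (f := fun i => w k i * w l i) (g := P) hP.injOn]
    refine Finset.sum_subset (Finset.subset_univ _) fun i _ hi => ?_
    have hi' : i ∉ Set.range P := fun ⟨p, hp⟩ => hi (Finset.mem_image.mpr ⟨p, Finset.mem_univ _, hp⟩)
    rcases hno.1 with h | h
    · rw [hfull k h i hi', zero_mul]
    · rw [hfull l h i hi', mul_zero]
  have pos : ∀ j (p : Fin 7), ε p = v j (P p) → 0 ≤ s j p := fun j p h => by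
    simp only [s, h]; exact (q.same j).2 _
  obtain ⟨i, hi⟩ : ∃ i, s 3 = topt i := by
    rcases transversal_options (pos 3 1 rfl) (pos 3 2 rfl) (pos 3 3 rfl) (by simpa using E0 3) (by simpa using E1 3)
      (by simpa using E2 3) (by simpa using E3 3) (sbd 3 0) (by have := hn 3; omega) with h | h | h
    · exact ⟨0, funext fun p => by fin_cases p <;> simp [topt, h]⟩
    · exact ⟨1, funext fun p => by fin_cases p <;> simp [topt, h]⟩
    · exact ⟨2, funext fun p => by fin_cases p <;> simp [topt, h]⟩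
  obtain ⟨j, hj⟩ : ∃ j, s 0 = sopt 0 j := by
    rcases spoke_options (pos 0 0 rfl) (pos 0 1 (V 0 3 (by decide) hb0 hb3).symm) (pos 0 4 rfl)
      (by simpa using E0 0) (by simpa using E1 0)
      (by simpa using E2 0) (by simpa using E3 0) (sbd 0 2) (sbd 0 3) (by have := hn 0; omega)
      with h | h | h | h
    · exact ⟨0, funext fun p => by fin_cases p <;> simp [sopt, h]⟩
    · exact ⟨1, funext fun p => by fin_cases p <;> simp [sopt, h]⟩
    · exact ⟨2, funext fun p => by fin_cases p <;> simp [sopt, h]⟩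
    · exact ⟨3, funext fun p => by fin_cases p <;> simp [sopt, h]⟩
  obtain ⟨k, hk⟩ : ∃ k, s 1 = sopt 1 k := by
    rcases spoke_options (a := s 1 0) (b := s 1 2) (x := s 1 5) (c := s 1 1) (y := s 1 4) (z := s 1 3) (t := s 1 6)
      (pos 1 0 (V 0 1 (by decide) h0 h1)) (pos 1 2 (V 1 3 (by decide) hc1 hc3).symm) (pos 1 5 rfl)
      (by simpa using E1 1) (by simpa using E0 1)
      (by simpa using E2 1) (by have := E3 1; simp at this; linarith) (sbd 1 1) (sbd 1 3)
      (by have := hn 1; omega) with h | h | h | h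
    · exact ⟨0, funext fun p => by fin_cases p <;> simp [sopt, h]⟩
    · exact ⟨1, funext fun p => by fin_cases p <;> simp [sopt, h]⟩
    · exact ⟨2, funext fun p => by fin_cases p <;> simp [sopt, h]⟩
    · exact ⟨3, funext fun p => by fin_cases p <;> simp [sopt, h]⟩
  obtain ⟨l, hl⟩ : ∃ l, s 2 = sopt 2 l := by
    rcases spoke_options (a := s 2 0) (b := s 2 3) (x := s 2 6) (c := s 2 1) (y := s 2 4) (z := s 2 2) (t := s 2 5)
      (pos 2 0 (V 0 2 (by decide) h0 h2)) (pos 2 3 (V 2 3 (by decide) hz2 hz3).symm) (pos 2 6 rfl)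
      (by simpa using E2 2) (by simpa using E0 2)
      (by simpa using E1 2) (by have := E3 2; simp at this; linarith) (sbd 2 1) (sbd 2 2)
      (by have := hn 2; omega) with h | h | h | h
    · exact ⟨0, funext fun p => by fin_cases p <;> simp [sopt, h]⟩
    · exact ⟨1, funext fun p => by fin_cases p <;> simp [sopt, h]⟩
    · exact ⟨2, funext fun p => by fin_cases p <;> simp [sopt, h]⟩
    · exact ⟨3, funext fun p => by fin_cases p <;> simp [sopt, h]⟩
  have hall : all6 i j k l = true := by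
    simp only [all6, Bool.and_eq_true, ← hi, ← hj, ← hk, ← hl]
    exact ⟨⟨⟨⟨⟨hnn 3 0 (by decide), hnn 3 1 (by decide)⟩, hnn 3 2 (by decide)⟩, hnn 0 1 (by decide)⟩,
      hnn 0 2 (by decide)⟩, hnn 1 2 (by decide)⟩
  rw [no_pattern] at hall
  exact Bool.false_ne_true hall

/-- Four lines have a common point. -/
theorem Quad.common {v w : Fin 4 → ι → ℤ} (q : Quad v w) : ∃ a, ∀ j, v j a ≠ 0 := by
  by_contra hno
  push Not at hno
  have no3 : ∀ j k l : Fin 4, j ≠ k → j ≠ l → k ≠ l → ∀ a, v j a ≠ 0 → v k a ≠ 0 → v l a = 0 := by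
    intro j k l hjk hjl hkl a hj hk
    by_contra hl
    obtain ⟨m, hm⟩ := hno a
    have hmj : m ≠ j := fun e => hj (e ▸ hm)
    have hmk : m ≠ k := fun e => hk (e ▸ hm)
    have hml : m ≠ l := fun e => hl (e ▸ hm)
    have hf : Function.Bijective ![j, k, l, m] := by
      refine Finite.injective_iff_bijective.mp ?_
      intro r r' h
      fin_cases r <;> fin_cases r' <;> simp_all [eq_comm]
    exact (q.perm (Equiv.ofBijective _ hf)).not_three a hj hk hl hm
  have other : ∀ (j : Fin 4) (p : ι), v j p ≠ 0 → ∃ k, k ≠ j ∧ v k p ≠ 0 := by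
    intro j p hp
    choose f hf _ using fun k : {k // k ≠ j} => mate_point (q.nv j) (q.nv k) (q.mv j k (Ne.symm k.2))
    have hmem : ∀ k, v j (f k) ≠ 0 ∧ v k.1 (f k) ≠ 0 := fun k => by
      have := hf k ▸ Finset.mem_singleton_self (f k)
      simpa [mem_sp] using this
    have hinj : Function.Injective f := by
      intro k l e
      by_contra hne
      exact (hmem l).2 (no3 j k l (Ne.symm k.2) (Ne.symm l.2) (fun h => hne (Subtype.ext h)) _
        ((hmem l).1) (e ▸ (hmem k).2))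
    have himg : Finset.univ.image f = sp (v j) := Finset.eq_of_subset_of_card_le
      (fun r hr => by
        obtain ⟨k, -, rfl⟩ := Finset.mem_image.mp hr
        exact mem_sp.mpr (hmem k).1)
      (by rw [Finset.card_image_of_injective _ hinj, card_sp (q.nv j)]; simp)
    obtain ⟨k, -, hk⟩ := Finset.mem_image.mp (himg.symm ▸ mem_sp.mpr hp : p ∈ Finset.univ.image f)
    exact ⟨k, k.2, hk ▸ (hmem k).2⟩
  have hev : ∀ p, (2 : ℤ) ∣ ∑ j, v j p := by
    intro p
    by_cases h : ∀ j, v j p = 0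
    · simp [h]
    push Not at h
    obtain ⟨j, hj⟩ := h
    obtain ⟨k, hkj, hk⟩ := other j p hj
    rw [← Finset.sum_subset (Finset.subset_univ ({j, k} : Finset (Fin 4))) fun l _ hl => by
      simp only [Finset.mem_insert, Finset.mem_singleton, not_or] at hl
      exact no3 j k l (Ne.symm hkj) (Ne.symm hl.1) (Ne.symm hl.2) p hj hk]
    rw [Finset.sum_pair (Ne.symm hkj), mate_val (q.nv j) (q.nv k) (q.mv j k (Ne.symm hkj)) hj hk]
    exact ⟨v k p, by ring⟩
  have h1 : ∑ p, (∑ j, v j p) * w 0 p = 1 := by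
    simp only [Finset.sum_mul]
    rw [Finset.sum_comm]
    show ∑ j, pr (v j) (w 0) = 1
    rw [Finset.sum_eq_single 0 (fun j _ hj => q.off j 0 hj) (by simp), (q.same 0).1]
  have : (2 : ℤ) ∣ 1 := h1 ▸ Finset.dvd_sum fun p _ => (hev p).mul_right _
  norm_num at this

variable {I J : Type*} [Fintype I] [Fintype J]

/-- The grid hypotheses. -/
structure Grid (v : I → J → ι → ℤ) : Prop where
  norm : ∀ i j, pr (v i j) (v i j) = 3
  row : ∀ i j k, j ≠ k → Mate (v i j) (v i k)
  col : ∀ i l j, i ≠ l → Mate (v i j) (v l j)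
  off : ∀ i l j k, i ≠ l → j ≠ k → pr (v i j) (v l k) = 0

theorem Grid.transpose {v : I → J → ι → ℤ} (g : Grid v) : Grid fun j i => v i j :=
  ⟨fun j i => g.norm i j, fun j i l h => g.col i l j h, fun j k i h => g.row i j k h,
    fun j k i l hjk hil => g.off i l j k hil hjk⟩

theorem Grid.line {v : I → J → ι → ℤ} (g : Grid v) (hI : 2 ≤ Fintype.card I)
    (hJ : Fintype.card J = 2 ∨ 4 ≤ Fintype.card J) (i : I) : ∃ a, ∀ j, v i j a ≠ 0 := by
  obtain ⟨j₀, j₁, hne⟩ := Fintype.exists_pair_of_one_lt_card (α := J) (by omega)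
  obtain ⟨a, ha, -⟩ := mate_point (g.norm i j₀) (g.norm i j₁) (g.row i j₀ j₁ hne)
  have ha' : a ∈ sp (v i j₀) ∩ sp (v i j₁) := ha ▸ Finset.mem_singleton_self a
  rw [Finset.mem_inter, mem_sp, mem_sp] at ha'
  refine ⟨a, fun j => ?_⟩
  by_cases h0 : j = j₀
  · exact h0 ▸ ha'.1
  by_cases h1 : j = j₁
  · exact h1 ▸ ha'.2
  have h3 : 3 ≤ Fintype.card J := by
    have := Finset.card_le_univ ({j, j₀, j₁} : Finset J)
    rw [Finset.card_insert_of_notMem (by simp [h0, h1]), Finset.card_pair hne] at this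
    omega
  obtain ⟨j₂, hj₂⟩ : ∃ j₂, j₂ ∉ ({j, j₀, j₁} : Finset J) := by
    by_contra hall
    push Not at hall
    have := Finset.card_le_card (fun r _ => hall r : Finset.univ ⊆ ({j, j₀, j₁} : Finset J))
    rw [Finset.card_univ, Finset.card_insert_of_notMem (by simp [h0, h1]), Finset.card_pair hne] at this
    omega
  simp only [Finset.mem_insert, Finset.mem_singleton, not_or] at hj₂
  obtain ⟨l, hl⟩ := Fintype.exists_ne_of_one_lt_card (by omega : 1 < Fintype.card I) i
  let f : Fin 4 → J := ![j₀, j₁, j, j₂]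
  have hf : Function.Injective f := by
    intro r r' h
    fin_cases r <;> fin_cases r' <;> simp_all [f, eq_comm]
  obtain ⟨b, hb⟩ := Quad.common (v := fun r => v i (f r)) (w := fun r => v l (f r))
    ⟨fun r => g.norm _ _, fun r => g.norm _ _, fun r r' h => g.row _ _ _ (hf.ne h),
      fun r r' h => g.row _ _ _ (hf.ne h), fun r => g.col _ _ _ (Ne.symm hl),
      fun r r' h => g.off _ _ _ _ (Ne.symm hl) (hf.ne h)⟩
  have : b = a := mate_unique (g.norm i j₀) (g.norm i j₁) (g.row i j₀ j₁ hne) (hb 0) (hb 1) ha'.1 ha'.2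
  exact this ▸ hb 2

/-- The unit vector at `p` with the value of `u` there. -/
noncomputable def unit (u : ι → ℤ) (p : ι) : ι → ℤ := fun r => if r = p then u p else 0

/-- The structure theorem. -/
theorem Grid.structure {v : I → J → ι → ℤ} (g : Grid v) (hI : Fintype.card I = 2 ∨ 4 ≤ Fintype.card I)
    (hJ : 4 ≤ Fintype.card J) :
    ∃ (X : I → ι) (Y : J → ι) (Z : I → J → ι) (a : I → ℤ) (b : J → ℤ) (c : I → J → ℤ),
      (∀ i, a i = 1 ∨ a i = -1) ∧ (∀ j, b j = 1 ∨ b j = -1) ∧ (∀ i j, c i j = 1 ∨ c i j = -1) ∧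
      Function.Injective (Sum.elim X (Sum.elim Y fun p : I × J => Z p.1 p.2)) ∧
      ∀ i j p, v i j p = (if p = X i then a i else 0) + (if p = Y j then b j else 0) +
        (if p = Z i j then c i j else 0) := by
  have hI2 : 2 ≤ Fintype.card I := by omega
  choose X hX using fun i => g.line hI2 (Or.inr hJ) i
  choose Y hY using fun j => g.transpose.line (by omega) hI j
  obtain ⟨j₀, -, -⟩ := Fintype.exists_pair_of_one_lt_card (α := J) (by omega)
  obtain ⟨i₀, -, -⟩ := Fintype.exists_pair_of_one_lt_card (α := I) (by omega)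
  have hXonly : ∀ i l k, l ≠ i → v l k (X i) = 0 := by
    intro i l k hli
    by_contra hne
    have hq : ∀ j : {j // j ≠ k}, ∃ p, p ≠ X i ∧ v i j.1 p ≠ 0 ∧ v l k p ≠ 0 := by
      intro j
      by_contra hno
      push Not at hno
      have := g.off i l j.1 k (Ne.symm hli) j.2
      rw [pr, Finset.sum_eq_single (X i) (fun p _ hp => by
        by_cases h : v i j.1 p = 0
        · rw [h, zero_mul]
        · rw [hno p hp h, mul_zero]) (by simp)] at this
      exact mul_ne_zero (hX i j.1) hne this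
    choose f hfX hfi hfl using hq
    have hinj : Function.Injective f := by
      intro j j' e
      by_contra hne'
      exact hfX j (mate_unique (g.norm i j.1) (g.norm i j'.1) (g.row i j.1 j'.1 fun h => hne' (Subtype.ext h))
        (hfi j) (e ▸ hfi j') (hX i _) (hX i _))
    have hsub : insert (X i) (Finset.univ.image f) ⊆ sp (v l k) := by
      intro p hp
      rcases Finset.mem_insert.mp hp with rfl | hp
      · exact mem_sp.mpr hne
      · obtain ⟨j, -, rfl⟩ := Finset.mem_image.mp hp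
        exact mem_sp.mpr (hfl j)
    have := Finset.card_le_card hsub
    rw [card_sp (g.norm l k), Finset.card_insert_of_notMem (by simpa using hfX),
      Finset.card_image_of_injective _ hinj, Finset.card_univ, Fintype.card_subtype_compl,
      Fintype.card_subtype_eq] at this
    omega
  have hXY : ∀ i j, X i ≠ Y j := fun i j e => by
    obtain ⟨l, hl⟩ := Fintype.exists_ne_of_one_lt_card (by omega : 1 < Fintype.card I) i
    exact hY j l (e ▸ hXonly i l j hl)
  have hYonly : ∀ i j k, k ≠ j → v i k (Y j) = 0 := fun i j k hkj => by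
    by_contra hne
    exact hXY i j (mate_unique (g.norm i k) (g.norm i j) (g.row i k j hkj) (hX i k) (hX i j) hne (hY j i))
  choose Z hZX hZY hZne hZsp using fun i j => third (g.norm i j) (hX i j) (hY j i) (hXY i j)
  have hXv : ∀ i j, v i j (X i) = v i j₀ (X i) := fun i j => by
    by_cases h : j = j₀
    · rw [h]
    · exact mate_val (g.norm _ _) (g.norm _ _) (g.row i j j₀ h) (hX i j) (hX i j₀)
  have hYv : ∀ i j, v i j (Y j) = v i₀ j (Y j) := fun i j => by
    by_cases h : i = i₀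
    · rw [h]
    · exact mate_val (g.norm _ _) (g.norm _ _) (g.col i i₀ j h) (hY j i) (hY j i₀)
  have pm : ∀ i j p, v i j p ≠ 0 → v i j p = 1 ∨ v i j p = -1 := fun i j p h =>
    (cases_val (g.norm i j) p).resolve_left h
  refine ⟨X, Y, Z, fun i => v i j₀ (X i), fun j => v i₀ j (Y j), fun i j => v i j (Z i j),
    fun i => pm _ _ _ (hX i j₀), fun j => pm _ _ _ (hY j i₀), fun i j => pm _ _ _ (hZne i j), ?_, ?_⟩
  · have h2 : Function.Injective fun p : I × J => Z p.1 p.2 := by
      rintro ⟨i, j⟩ ⟨l, k⟩ e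
      simp only at e
      by_cases hil : i = l <;> by_cases hjk : j = k
      · rw [hil, hjk]
      · subst hil
        exact absurd (mate_unique (g.norm i j) (g.norm i k) (g.row i j k hjk) (hZne i j) (e ▸ hZne i k)
          (hX i j) (hX i k)) (hZX i j)
      · subst hjk
        exact absurd (mate_unique (g.norm i j) (g.norm l j) (g.col i l j hil) (hZne i j) (e ▸ hZne l j)
          (hY j i) (hY j l)) (hZY i j)
      · have h0 := g.off i l j k hil hjk
        rw [pr, Finset.sum_eq_single (Z i j) (fun p _ hp => by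
          by_cases h : v i j p = 0
          · rw [h, zero_mul]
          have hp' := mem_sp.mpr h
          simp only [hZsp i j, Finset.mem_insert, Finset.mem_singleton] at hp'
          rcases hp' with rfl | rfl | rfl
          · rw [hXonly i l k (Ne.symm hil), mul_zero]
          · rw [hYonly l j k (Ne.symm hjk), mul_zero]
          · exact absurd rfl hp) (by simp)] at h0
        exact absurd h0 (mul_ne_zero (hZne i j) (e ▸ hZne l k))
    refine Function.Injective.sumElim (fun i l e => ?_) (Function.Injective.sumElim (fun j k e => ?_) h2 ?_) ?_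
    · by_contra h
      exact hX l j₀ (e ▸ hXonly i l j₀ (Ne.symm h))
    · by_contra h
      exact hY k i₀ (e ▸ hYonly i₀ j k (Ne.symm h))
    · rintro j ⟨i, k⟩ e
      by_cases h : k = j
      · exact hZY i k (by rw [← e, h])
      · exact hZne i k (e ▸ hYonly i j k h)
    · rintro i (j | ⟨l, k⟩) e
      · exact hXY i j e
      · replace e : X i = Z l k := e
        by_cases h : l = i
        · exact hZX l k (by rw [h]; exact (h ▸ e).symm)
        · exact hZne l k (e ▸ hXonly i l k h)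
  · intro i j p
    by_cases h1 : p = X i
    · subst h1; simp [hXY i j, Ne.symm (hZX i j), hXv i j]
    by_cases h2 : p = Y j
    · subst h2; simp [Ne.symm (hXY i j), Ne.symm (hZY i j), hYv i j]
    by_cases h3 : p = Z i j
    · subst h3; simp [hZX i j, hZY i j]
    simp only [if_neg h1, if_neg h2, if_neg h3, add_zero]
    by_contra hne
    have := mem_sp.mpr hne
    simp only [hZsp i j, Finset.mem_insert, Finset.mem_singleton] at this
    rcases this with e | e | e <;> contradiction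

end Cfsg.Agent.TripleGrid
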