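import Mathlib
import Cfsg.Prelude.Def_OddOrderChar
import Cfsg.Prelude.Def_OddOrderLocal
import Cfsg.Agent.Lib.CharBasicLinear
import Cfsg.Agent.Lib.CharInducedTI

/-!
A cyclic subgroup `W = W₁ × W₂` that is the normaliser of its elements outside both factors:
characters of `W`, fusion control, and induction from `W`.
-/

set_option autoImplicit false

open scoped ComplexConjugate

namespace Cfsg.Agent.CyclicTI

open Cfsg.Agent.CharBasic Cfsg.Agent.CharBasicOrth Cfsg.Agent.CharBasicDecomp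

universe u

section Abelian

variable {A : Type u} [Group A] [Fintype A]

open Classical in
theorem inner_hom (φ ψ : A →* ℂˣ) :
    Cfsg.classInner (fun a => (φ a : ℂ)) (fun a => (ψ a : ℂ)) = if φ = ψ then 1 else 0 := by
  rw [classInner_irr _ _ (isIrrCharacter_linear φ) (isIrrCharacter_linear ψ)]
  exact if_congr ⟨fun h => MonoidHom.ext fun a => Units.ext (congrFun h a), fun h => by rw [h]⟩ rfl rfl

theorem expand_hom [Fintype (A →* ℂˣ)] (hA : ∀ a b : A, a * b = b * a) (f : A → ℂ) :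
    f = fun a => ∑ ω : A →* ℂˣ, Cfsg.classInner f (fun x => (ω x : ℂ)) * (ω a : ℂ) := by
  classical
  have hf : Cfsg.IsClassFunction A f := fun g h => by rw [hA h g, mul_inv_cancel_right]
  let e : (A →* ℂˣ) ≃ Cfsg.IrrCharacter A :=
    Equiv.ofBijective (fun ω => ⟨fun a => (ω a : ℂ), isIrrCharacter_linear ω⟩)
      ⟨fun φ ψ h => MonoidHom.ext fun a => Units.ext (congrFun (congrArg Subtype.val h) a),
       fun χ => by
        obtain ⟨lam, hl⟩ := CharBasicLinear.exists_hom_of_comm hA χ.2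
        exact ⟨lam, Subtype.ext hl.symm⟩⟩
  conv_lhs => rw [eq_sum_classInner hf]
  funext a
  rw [Finset.sum_apply]
  exact (Fintype.sum_equiv e (fun ω => Cfsg.classInner f (fun x => (ω x : ℂ)) * (ω a : ℂ))
    (fun χ => (Cfsg.classInner f (χ : A → ℂ) • (χ : A → ℂ)) a) fun ω => rfl).symm

theorem hom_fintype (A : Type u) [Group A] [Finite A] : Finite (A →* ℂˣ) := by
  classical
  haveI := Fintype.ofFinite A
  haveI := instFintypeIrrCharacter (G := A)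
  exact Finite.of_injective (β := Cfsg.IrrCharacter A) (fun ω => ⟨fun a => (ω a : ℂ), isIrrCharacter_linear ω⟩)
    fun φ ψ h => MonoidHom.ext fun a => Units.ext (congrFun (congrArg Subtype.val h) a)

end Abelian

section Split

variable {G : Type u} [Group G] {W₁ W₂ : Subgroup G}

/-- `φ` is trivial on the elements of `W` lying in `V`. -/
def TrivOn (V : Subgroup G) {W : Subgroup G} (φ : ↥W →* ℂˣ) : Prop := ∀ w : ↥W, (w : G) ∈ V → φ w = 1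

theorem trivOn_one (V : Subgroup G) {W : Subgroup G} : TrivOn V (1 : ↥W →* ℂˣ) := fun _ _ => rfl

/-- The product map `W₁ × W₂ → W`. -/
noncomputable def prodHom (hc : ∀ a ∈ W₁, ∀ b ∈ W₂, a * b = b * a) : W₁ × W₂ →* ↥(W₁ ⊔ W₂) :=
  MonoidHom.noncommCoprod (Subgroup.inclusion le_sup_left) (Subgroup.inclusion le_sup_right)
    fun m n => Subtype.ext (hc m m.2 n n.2)

theorem prodHom_apply (hc : ∀ a ∈ W₁, ∀ b ∈ W₂, a * b = b * a) (p : W₁ × W₂) :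
    (prodHom hc p : G) = (p.1 : G) * p.2 := rfl

theorem prodHom_bijective (hd : W₁ ⊓ W₂ = ⊥) (hc : ∀ a ∈ W₁, ∀ b ∈ W₂, a * b = b * a) :
    Function.Bijective (prodHom hc) := by
  constructor
  · rintro ⟨a, b⟩ ⟨a', b'⟩ h
    have e : (a : G) * b = (a' : G) * b' := congrArg Subtype.val h
    have e' : ((a' : G)⁻¹ * a) = (b' : G) * (b : G)⁻¹ := by
      rw [eq_mul_inv_iff_mul_eq, mul_assoc, e, inv_mul_cancel_left]
    have hz : ((a' : G)⁻¹ * a) ∈ W₁ ⊓ W₂ :=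
      ⟨W₁.mul_mem (W₁.inv_mem a'.2) a.2, e' ▸ W₂.mul_mem b'.2 (W₂.inv_mem b.2)⟩
    rw [hd, Subgroup.mem_bot] at hz
    rw [hz, eq_comm, mul_inv_eq_one] at e'
    exact Prod.ext (Subtype.ext (inv_mul_eq_one.mp hz).symm) (Subtype.ext e'.symm)
  · rintro ⟨w, hw⟩
    have hn : W₂ ≤ Subgroup.normalizer (W₁ : Set G) := by
      intro v hv
      rw [Subgroup.mem_normalizer_iff]
      intro u
      refine ⟨fun hu => ?_, fun hu => ?_⟩
      · rwa [← hc u hu v hv, mul_inv_cancel_right]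
      · have h3 := hc _ hu v hv
        have : u = v * u * v⁻¹ := by
          apply mul_left_cancel (a := v)
          calc v * u = v * u * v⁻¹ * v := by group
            _ = _ := h3
        rw [this]; exact hu
    have hw' := hw
    rw [← SetLike.mem_coe, Subgroup.coe_mul_of_right_le_normalizer_left W₁ W₂ hn] at hw'
    obtain ⟨a, ha, b, hb, e⟩ := hw'
    exact ⟨(⟨a, ha⟩, ⟨b, hb⟩), Subtype.ext e⟩

variable (hd : W₁ ⊓ W₂ = ⊥) (hc : ∀ a ∈ W₁, ∀ b ∈ W₂, a * b = b * a)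

/-- Projection of `W` to its first factor. -/
noncomputable def proj₁ : ↥(W₁ ⊔ W₂) →* ↥(W₁ ⊔ W₂) :=
  (Subgroup.inclusion le_sup_left).comp
    ((MonoidHom.fst W₁ W₂).comp (MulEquiv.ofBijective (prodHom hc) (prodHom_bijective hd hc)).symm.toMonoidHom)

/-- Projection of `W` to its second factor. -/
noncomputable def proj₂ : ↥(W₁ ⊔ W₂) →* ↥(W₁ ⊔ W₂) :=
  (Subgroup.inclusion le_sup_right).comp
    ((MonoidHom.snd W₁ W₂).comp (MulEquiv.ofBijective (prodHom hc) (prodHom_bijective hd hc)).symm.toMonoidHom)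

theorem proj₁_mem (w : ↥(W₁ ⊔ W₂)) : (proj₁ hd hc w : G) ∈ W₁ := by
  simp [proj₁]

theorem proj₂_mem (w : ↥(W₁ ⊔ W₂)) : (proj₂ hd hc w : G) ∈ W₂ := by
  simp [proj₂]

theorem proj_mul (w : ↥(W₁ ⊔ W₂)) : proj₁ hd hc w * proj₂ hd hc w = w := by
  set e := MulEquiv.ofBijective (prodHom hc) (prodHom_bijective hd hc) with he
  have h : prodHom hc (e.symm w) = w := e.apply_symm_apply w
  exact Subtype.ext (congrArg Subtype.val h)

theorem proj_eq_of (a b : ↥(W₁ ⊔ W₂)) (ha : (a : G) ∈ W₁) (hb : (b : G) ∈ W₂) :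
    proj₁ hd hc (a * b) = a ∧ proj₂ hd hc (a * b) = b := by
  set e := MulEquiv.ofBijective (prodHom hc) (prodHom_bijective hd hc) with he
  have h : e.symm (a * b) = (⟨a, ha⟩, ⟨b, hb⟩) := e.symm_apply_eq.mpr (Subtype.ext rfl)
  exact ⟨Subtype.ext (by simp [proj₁, ← he, h]), Subtype.ext (by simp [proj₂, ← he, h])⟩

theorem proj₁_of_mem {w : ↥(W₁ ⊔ W₂)} (hw : (w : G) ∈ W₂) : proj₁ hd hc w = 1 := by
  have := (proj_eq_of hd hc 1 w W₁.one_mem hw).1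
  rwa [one_mul] at this

theorem proj₂_of_mem {w : ↥(W₁ ⊔ W₂)} (hw : (w : G) ∈ W₁) : proj₂ hd hc w = 1 := by
  have := (proj_eq_of hd hc w 1 hw W₂.one_mem).2
  rwa [mul_one] at this

theorem proj₁_ne_one {w : ↥(W₁ ⊔ W₂)} (hw : (w : G) ∉ W₂) : proj₁ hd hc w ≠ 1 := fun h => hw (by
  rw [← proj_mul hd hc w, h, one_mul]; exact proj₂_mem hd hc w)

theorem proj₂_ne_one {w : ↥(W₁ ⊔ W₂)} (hw : (w : G) ∉ W₁) : proj₂ hd hc w ≠ 1 := fun h => hw (by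
  rw [← proj_mul hd hc w, h, mul_one]; exact proj₁_mem hd hc w)

theorem hom_one_mul {A : Type u} [MulOneClass A] (φ : A →* ℂˣ) : (1 : A →* ℂˣ) * φ = φ :=
  MonoidHom.ext fun _ => by simp

theorem hom_mul_one {A : Type u} [MulOneClass A] (φ : A →* ℂˣ) : φ * (1 : A →* ℂˣ) = φ :=
  MonoidHom.ext fun _ => by simp

/-- The part of a linear character trivial on `W₂`. -/
noncomputable def part₁ (ω : ↥(W₁ ⊔ W₂) →* ℂˣ) : ↥(W₁ ⊔ W₂) →* ℂˣ := ω.comp (proj₁ hd hc)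

/-- The part of a linear character trivial on `W₁`. -/
noncomputable def part₂ (ω : ↥(W₁ ⊔ W₂) →* ℂˣ) : ↥(W₁ ⊔ W₂) →* ℂˣ := ω.comp (proj₂ hd hc)

theorem part₁_triv (ω : ↥(W₁ ⊔ W₂) →* ℂˣ) : TrivOn W₂ (part₁ hd hc ω) := fun w hw => by
  simp [part₁, proj₁_of_mem hd hc hw]

theorem part₂_triv (ω : ↥(W₁ ⊔ W₂) →* ℂˣ) : TrivOn W₁ (part₂ hd hc ω) := fun w hw => by
  simp [part₂, proj₂_of_mem hd hc hw]

theorem part_mul (ω : ↥(W₁ ⊔ W₂) →* ℂˣ) : part₁ hd hc ω * part₂ hd hc ω = ω := by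
  ext w
  rw [MonoidHom.mul_apply, part₁, part₂, MonoidHom.comp_apply, MonoidHom.comp_apply, ← map_mul, proj_mul]

theorem part₁_eq {φ ψ : ↥(W₁ ⊔ W₂) →* ℂˣ} (hφ : TrivOn W₂ φ) (hψ : TrivOn W₁ ψ) :
    part₁ hd hc (φ * ψ) = φ := by
  refine MonoidHom.ext fun w => ?_
  rw [part₁, MonoidHom.comp_apply, MonoidHom.mul_apply, hψ _ (proj₁_mem hd hc w), mul_one]
  conv_rhs => rw [← proj_mul hd hc w, map_mul, hφ _ (proj₂_mem hd hc w), mul_one]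

theorem part₂_eq {φ ψ : ↥(W₁ ⊔ W₂) →* ℂˣ} (hφ : TrivOn W₂ φ) (hψ : TrivOn W₁ ψ) :
    part₂ hd hc (φ * ψ) = ψ := by
  refine MonoidHom.ext fun w => ?_
  rw [part₂, MonoidHom.comp_apply, MonoidHom.mul_apply, hφ _ (proj₂_mem hd hc w), one_mul]
  conv_rhs => rw [← proj_mul hd hc w, map_mul, hψ _ (proj₁_mem hd hc w), one_mul]

include hd hc in
theorem mul_left_inj_of_triv {φ φ' ψ ψ' : ↥(W₁ ⊔ W₂) →* ℂˣ} (hφ : TrivOn W₂ φ) (hφ' : TrivOn W₂ φ')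
    (hψ : TrivOn W₁ ψ) (hψ' : TrivOn W₁ ψ') : φ * ψ = φ' * ψ' ↔ φ = φ' ∧ ψ = ψ' := by
  refine ⟨fun h => ?_, fun h => by rw [h.1, h.2]⟩
  exact ⟨by rw [← part₁_eq hd hc hφ hψ, h, part₁_eq hd hc hφ' hψ'],
    by rw [← part₂_eq hd hc hφ hψ, h, part₂_eq hd hc hφ' hψ']⟩

include hd hc in
theorem eq_one_of_triv_both {φ : ↥(W₁ ⊔ W₂) →* ℂˣ} (h₁ : TrivOn W₁ φ) (h₂ : TrivOn W₂ φ) : φ = 1 := by
  refine MonoidHom.ext fun w => ?_
  rw [← proj_mul hd hc w, map_mul, h₁ _ (proj₁_mem hd hc w), h₂ _ (proj₂_mem hd hc w), one_mul, map_mul,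
    MonoidHom.one_apply, MonoidHom.one_apply, one_mul]

/-- `(1 - φ)(1 - ψ)`, expanded. -/
noncomputable def alphaFun {W : Subgroup G} (φ ψ : ↥W →* ℂˣ) : ↥W → ℂ :=
  fun w => 1 - (φ w : ℂ) - (ψ w : ℂ) + (φ w : ℂ) * (ψ w : ℂ)

theorem alpha_eq_zero {φ ψ : ↥(W₁ ⊔ W₂) →* ℂˣ} (hφ : TrivOn W₂ φ) (hψ : TrivOn W₁ ψ) {w : ↥(W₁ ⊔ W₂)}
    (hw : (w : G) ∈ W₁ ∨ (w : G) ∈ W₂) : alphaFun φ ψ w = 0 := by
  rcases hw with h | h
  · rw [alphaFun, hψ w h, Units.val_one]; ring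
  · rw [alphaFun, hφ w h, Units.val_one]; ring

theorem inner_alpha_hom [Finite G] [Fintype ↥(W₁ ⊔ W₂)] {φ ψ : ↥(W₁ ⊔ W₂) →* ℂˣ}
    (ω : ↥(W₁ ⊔ W₂) →* ℂˣ) [DecidableEq (↥(W₁ ⊔ W₂) →* ℂˣ)] :
    Cfsg.classInner (alphaFun φ ψ) (fun w => (ω w : ℂ)) = (if 1 = ω then 1 else 0) - (if φ = ω then 1 else 0) -
      (if ψ = ω then 1 else 0) + (if φ * ψ = ω then 1 else 0) := by
  have e : alphaFun φ ψ = (fun w => ((1 : ↥(W₁ ⊔ W₂) →* ℂˣ) w : ℂ)) - (fun w => (φ w : ℂ)) -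
      (fun w => (ψ w : ℂ)) + (fun w => ((φ * ψ) w : ℂ)) := by
    funext w; simp [alphaFun]
  rw [e, classInner_add_left, classInner_sub_left, classInner_sub_left, inner_hom, inner_hom, inner_hom, inner_hom]
  congr!

end Split

section TI

variable {G : Type u} [Group G] {W₁ W₂ : Subgroup G} (hW : Cfsg.IsSelfNormalizingCyclic W₁ W₂)

include hW

theorem hdisj : W₁ ⊓ W₂ = ⊥ := hW.2.2.1

theorem hcomm : ∀ a ∈ W₁, ∀ b ∈ W₂, a * b = b * a := hW.2.2.2.1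

theorem comm (a b : ↥(W₁ ⊔ W₂)) : a * b = b * a := by
  obtain ⟨g, hg⟩ := hW.2.2.2.2.1.exists_generator
  obtain ⟨i, rfl⟩ := hg a
  obtain ⟨j, rfl⟩ := hg b
  exact (Commute.refl g).zpow_zpow i j

/-- Distinct members of a common conjugacy class outside both factors are conjugate only by `W`. -/
theorem fusion [Finite G] {g t : G} (ht : t ∈ W₁ ⊔ W₂) (ht₁ : t ∉ W₁) (ht₂ : t ∉ W₂)
    (hs : g * t * g⁻¹ ∈ W₁ ⊔ W₂) (hs₁ : g * t * g⁻¹ ∉ W₁) (hs₂ : g * t * g⁻¹ ∉ W₂) : g ∈ W₁ ⊔ W₂ := by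
  classical
  haveI := Fintype.ofFinite G
  set W := W₁ ⊔ W₂ with hWd
  haveI : IsCyclic ↥W := hW.2.2.2.2.1
  have hN : ∀ {s : G}, s ∈ W → s ∉ W₁ → s ∉ W₂ → Subgroup.normalizer ({s} : Set G) = W :=
    fun {s} h h1 h2 => hW.2.2.2.2.2 {s} (Set.singleton_subset_iff.mpr ⟨h, fun h' => h'.elim h1 h2⟩)
      (Set.singleton_nonempty s)
  have hcen : ∀ {s : G}, s ∈ W → s ∉ W₁ → s ∉ W₂ → ∀ y : G, y ∈ W ↔ y * s = s * y := by
    intro s h h1 h2 y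
    rw [← hN h h1 h2, Subgroup.mem_set_normalizer_iff]
    simp only [Set.mem_singleton_iff]
    refine ⟨fun hy => mul_inv_eq_iff_eq_mul.mp ((hy s).mp rfl), fun hy n => ⟨fun hn => ?_, fun hn => ?_⟩⟩
    · subst hn; exact mul_inv_eq_iff_eq_mul.mpr hy
    · have : y * n * y⁻¹ = y * s * y⁻¹ := hn.trans (mul_inv_eq_iff_eq_mul.mpr hy).symm
      exact mul_left_cancel (mul_right_cancel this)
  have hgW : ∀ y ∈ W, g * y * g⁻¹ ∈ W := by
    intro y hy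
    rw [hcen hs hs₁ hs₂]
    have := (hcen ht ht₁ ht₂ y).mp hy
    calc g * y * g⁻¹ * (g * t * g⁻¹) = g * (y * t) * g⁻¹ := by group
      _ = g * (t * y) * g⁻¹ := by rw [this]
      _ = g * t * g⁻¹ * (g * y * g⁻¹) := by group
  have hroot : ∀ V : Subgroup G, V ≤ W → ∀ y ∈ W, y ^ Nat.card V = 1 → y ∈ V := by
    intro V hV y hy hy1
    have hle := IsCyclic.card_pow_eq_one_le (α := ↥W) (n := Nat.card V) Nat.card_pos
    set T : Finset ↥W := Finset.univ.filter fun z => z ^ Nat.card V = 1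
    set U : Finset ↥W := Finset.univ.filter fun z => (z : G) ∈ V
    have hUT : U ⊆ T := fun z hz => by
      simp only [U, T, Finset.mem_filter, Finset.mem_univ, true_and] at hz ⊢
      exact Subtype.ext (orderOf_dvd_iff_pow_eq_one.mp (Subgroup.orderOf_dvd_natCard V hz))
    have hU : U.card = Nat.card V := by
      rw [← Nat.card_congr (Subgroup.subgroupOfEquivOfLe hV).toEquiv, Nat.card_eq_fintype_card,
        Fintype.card_subtype]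
      simp [U, Subgroup.mem_subgroupOf]
    have hTU : U = T := Finset.eq_of_subset_of_card_le hUT (by rw [hU]; exact hle)
    have : (⟨y, hy⟩ : ↥W) ∈ T := Finset.mem_filter.mpr ⟨Finset.mem_univ _, Subtype.ext hy1⟩
    rw [← hTU] at this
    simpa [U] using this
  have hginv : ∀ y ∈ W, g⁻¹ * y * g ∈ W := by
    intro y hy
    rw [hcen ht ht₁ ht₂]
    have := (hcen hs hs₁ hs₂ y).mp hy
    calc g⁻¹ * y * g * t = g⁻¹ * (y * (g * t * g⁻¹)) * g := by group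
      _ = g⁻¹ * ((g * t * g⁻¹) * y) * g := by rw [this]
      _ = t * (g⁻¹ * y * g) := by group
  have hfac : ∀ V : Subgroup G, V ≤ W → ∀ y ∈ V, g * y * g⁻¹ ∈ V := fun V hV y hy =>
    hroot V hV _ (hgW y (hV hy)) (by
      rw [conj_pow, orderOf_dvd_iff_pow_eq_one.mp (Subgroup.orderOf_dvd_natCard V hy)]; group)
  have hfac' : ∀ V : Subgroup G, V ≤ W → ∀ y ∈ V, g⁻¹ * y * g ∈ V := fun V hV y hy =>
    hroot V hV _ (hginv y (hV hy)) (by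
      have := conj_pow (a := g⁻¹) (b := y) (i := Nat.card V)
      rw [inv_inv] at this
      rw [this, orderOf_dvd_iff_pow_eq_one.mp (Subgroup.orderOf_dvd_natCard V hy)]; group)
  have hNV : Subgroup.normalizer ((↑W : Set G) \ (↑W₁ ∪ ↑W₂)) = W :=
    hW.2.2.2.2.2 _ subset_rfl ⟨t, ht, fun h => h.elim ht₁ ht₂⟩
  rw [← hNV, Subgroup.mem_set_normalizer_iff]
  intro n
  simp only [Set.mem_diff, Set.mem_union, SetLike.mem_coe, not_or]
  have hback : ∀ V : Subgroup G, V ≤ W → g * n * g⁻¹ ∈ V → n ∈ V := fun V hV h => by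
    simpa [mul_assoc] using hfac' V hV _ h
  exact ⟨fun h => ⟨hgW n h.1, fun h' => h.2.1 (hback W₁ le_sup_left h'), fun h' => h.2.2 (hback W₂ le_sup_right h')⟩,
    fun h => ⟨hback W le_rfl h.1, fun h' => h.2.1 (hfac W₁ le_sup_left n h'),
      fun h' => h.2.2 (hfac W₂ le_sup_right n h')⟩⟩

/-- The set of elements of `W` outside both factors, as used for the trivial-intersection lemmas. -/
theorem ti [Finite G] : ∀ g : G, g ∉ W₁ ⊔ W₂ → ∀ t ∈ (↑(W₁ ⊔ W₂) : Set G) \ (↑W₁ ∪ ↑W₂),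
    g * t * g⁻¹ ∈ (↑(W₁ ⊔ W₂) : Set G) \ (↑W₁ ∪ ↑W₂) → t = 1 := by
  rintro g hg t ⟨ht, htn⟩ ⟨hs, hsn⟩
  simp only [Set.mem_union, SetLike.mem_coe, not_or] at htn hsn
  exact absurd (fusion hW ht htn.1 htn.2 hs hsn.1 hsn.2) hg

theorem isClassFunction_W (f : ↥(W₁ ⊔ W₂) → ℂ) : Cfsg.IsClassFunction ↥(W₁ ⊔ W₂) f := fun g h => by
  rw [comm hW h g, mul_inv_cancel_right]

theorem exists_hom_proj₂_ne_one [Finite G] {b : ↥(W₁ ⊔ W₂)} (hb : (b : G) ∈ W₂) (hb1 : b ≠ 1) :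
    ∃ ψ : ↥(W₁ ⊔ W₂) →* ℂˣ, TrivOn W₁ ψ ∧ ψ b ≠ 1 := by
  letI : CommGroup ↥(W₁ ⊔ W₂) := { (inferInstance : Group ↥(W₁ ⊔ W₂)) with mul_comm := comm hW }
  obtain ⟨ν, hν⟩ := CommGroup.exists_apply_ne_one_of_hasEnoughRootsOfUnity ↥(W₁ ⊔ W₂) ℂ hb1
  refine ⟨part₂ (hdisj hW) (hcomm hW) ν, part₂_triv _ _ ν, ?_⟩
  have := (proj_eq_of (hdisj hW) (hcomm hW) 1 b W₁.one_mem hb).2
  rw [one_mul] at this
  simpa [part₂, this] using hν

theorem exists_hom_proj₁_ne_one [Finite G] {a : ↥(W₁ ⊔ W₂)} (ha : (a : G) ∈ W₁) (ha1 : a ≠ 1) :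
    ∃ φ : ↥(W₁ ⊔ W₂) →* ℂˣ, TrivOn W₂ φ ∧ φ a ≠ 1 := by
  letI : CommGroup ↥(W₁ ⊔ W₂) := { (inferInstance : Group ↥(W₁ ⊔ W₂)) with mul_comm := comm hW }
  obtain ⟨ν, hν⟩ := CommGroup.exists_apply_ne_one_of_hasEnoughRootsOfUnity ↥(W₁ ⊔ W₂) ℂ ha1
  refine ⟨part₁ (hdisj hW) (hcomm hW) ν, part₁_triv _ _ ν, ?_⟩
  have := (proj_eq_of (hdisj hW) (hcomm hW) a 1 ha W₂.one_mem).1
  rw [mul_one] at this
  simpa [part₁, this] using hν

theorem inner_ind_alpha [Fintype G] [Fintype ↥(W₁ ⊔ W₂)] {φ φ' ψ ψ' : ↥(W₁ ⊔ W₂) →* ℂˣ} (hφ : TrivOn W₂ φ)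
    (hψ : TrivOn W₁ ψ) (hφ' : TrivOn W₂ φ') (hψ' : TrivOn W₁ ψ') :
    Cfsg.classInner (Cfsg.indFun (W₁ ⊔ W₂) (alphaFun φ ψ)) (Cfsg.indFun (W₁ ⊔ W₂) (alphaFun φ' ψ')) =
      Cfsg.classInner (alphaFun φ ψ) (alphaFun φ' ψ') := by
  have hz : ∀ {φ ψ : ↥(W₁ ⊔ W₂) →* ℂˣ}, TrivOn W₂ φ → TrivOn W₁ ψ → ∀ x : ↥(W₁ ⊔ W₂),
      (x : G) ∉ (↑(W₁ ⊔ W₂) : Set G) \ (↑W₁ ∪ ↑W₂) → alphaFun φ ψ x = 0 := fun {φ ψ} h h' x hx =>
    alpha_eq_zero h h' (not_not.mp fun hn => hx ⟨x.2, hn⟩)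
  exact CharInduced.classInner_ind_of_ti _ _ (ti hW) _ _ (isClassFunction_W hW _) (hz hφ hψ) (hz hφ' hψ')
    (alpha_eq_zero hφ hψ (Or.inl W₁.one_mem))

/-- The inner products of a class function vanishing off both factors against the family split additively. -/
theorem rectangle [Fintype G] {χ : (↥(W₁ ⊔ W₂) →* ℂˣ) → (G → ℂ)} (hχ : Cfsg.IsCyclicTIFamily W₁ W₂ χ)
    {θ : G → ℂ} (hθ : Cfsg.IsClassFunction G θ)
    (hθV : ∀ w : ↥(W₁ ⊔ W₂), (w : G) ∉ W₁ → (w : G) ∉ W₂ → θ w = 0) (ω : ↥(W₁ ⊔ W₂) →* ℂˣ) :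
    Cfsg.classInner θ (χ ω) = Cfsg.classInner θ (χ (part₁ (hdisj hW) (hcomm hW) ω)) +
      Cfsg.classInner θ (χ (part₂ (hdisj hW) (hcomm hW) ω)) - Cfsg.classInner θ (χ 1) := by
  classical
  haveI : Fintype ↥(W₁ ⊔ W₂) := Fintype.ofFinite _
  set φ := part₁ (hdisj hW) (hcomm hW) ω with hφd
  set ψ := part₂ (hdisj hW) (hcomm hW) ω with hψd
  have hω : φ * ψ = ω := part_mul _ _ ω
  by_cases hφ1 : φ = 1
  · have hω' : ψ = ω := hω ▸ MonoidHom.ext fun w => by simp [hφ1]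
    rw [hφ1, hω']; ring
  by_cases hψ1 : ψ = 1
  · have hω' : φ = ω := hω ▸ MonoidHom.ext fun w => by simp [hψ1]
    rw [hψ1, hω']; ring
  have h := hχ.induced_eq φ ψ hφ1 hψ1 (part₁_triv _ _ ω) (part₂_triv _ _ ω)
  have hz : Cfsg.classInner θ (Cfsg.indFun (W₁ ⊔ W₂) (alphaFun φ ψ)) = 0 := by
    rw [CharInduced.inner_ind_right _ _ hθ, Cfsg.classInner, Finset.sum_eq_zero, mul_zero]
    intro w _
    by_cases hw : (w : G) ∈ W₁ ∨ (w : G) ∈ W₂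
    · rw [alpha_eq_zero (part₁_triv _ _ ω) (part₂_triv _ _ ω) hw, map_zero, mul_zero]
    · rw [not_or] at hw; rw [hθV w hw.1 hw.2, zero_mul]
  unfold alphaFun at hz
  rw [h, show (fun g => 1 - χ φ g - χ ψ g + χ (φ * ψ) g) = χ 1 - χ φ - χ ψ + χ (φ * ψ) by
    funext g; simp [hχ.map_one], hω, classInner_add_right, classInner_sub_right, classInner_sub_right] at hz
  linear_combination hz

end TI

end Cfsg.Agent.CyclicTI
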