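import Cfsg.Agent.Lib.CyclicTI
import Cfsg.Agent.Lib.TripleGrid
import Cfsg.Agent.S1503
import Cfsg.Agent.S1505

/-!
Existence of the signed orthonormal family attached to a self-normalising cyclic subgroup of odd order.
-/

set_option autoImplicit false

open scoped ComplexConjugate Classical

namespace Cfsg.Agent.CyclicTIExist

open Cfsg.Agent.CharBasic Cfsg.Agent.CharBasicOrth Cfsg.Agent.CharBasicDecomp Cfsg.Agent.CyclicTI

universe u

variable {G : Type u} [Group G] {W₁ W₂ : Subgroup G}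

/-- Number of characters trivial on `W₂`. -/
theorem card_trivOn₂ [Finite G] (hW : Cfsg.IsSelfNormalizingCyclic W₁ W₂) :
    Nat.card {φ : ↥(W₁ ⊔ W₂) →* ℂˣ // TrivOn W₂ φ} = Nat.card W₁ := by
  have hd := hdisj hW
  have hc := hcomm hW
  letI : CommGroup ↥W₁ := { (inferInstance : Group ↥W₁) with
    mul_comm := fun a b => Subtype.ext (congrArg Subtype.val
      (comm hW ⟨a, Subgroup.mem_sup_left a.2⟩ ⟨b, Subgroup.mem_sup_left b.2⟩) :) }
  rw [← CommGroup.card_monoidHom_of_hasEnoughRootsOfUnity (G := ↥W₁) (M := ℂ)]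
  let inc : ↥W₁ →* ↥(W₁ ⊔ W₂) := Subgroup.inclusion le_sup_left
  let p1 : ↥(W₁ ⊔ W₂) →* ↥W₁ :=
    (((W₁ ⊔ W₂).subtype).comp (proj₁ hd hc)).codRestrict W₁ (proj₁_mem hd hc)
  refine Nat.card_congr
    { toFun := fun φ => φ.1.comp inc
      invFun := fun ν => ⟨ν.comp p1, fun w hw => ?_⟩
      left_inv := fun φ => Subtype.ext (MonoidHom.ext fun w => ?_)
      right_inv := fun ν => MonoidHom.ext fun a => ?_ }
  · rw [MonoidHom.comp_apply, show p1 w = 1 from Subtype.ext (congrArg (fun x : ↥(W₁ ⊔ W₂) => (x : G)) (proj₁_of_mem hd hc hw)), map_one]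
  · show φ.1 (inc (p1 w)) = φ.1 w
    have e : inc (p1 w) = proj₁ hd hc w := Subtype.ext rfl
    conv_rhs => rw [← proj_mul hd hc w, map_mul, φ.2 _ (proj₂_mem hd hc w), mul_one]
    rw [e]
  · show ν (p1 (inc a)) = ν a
    congr 1
    have := (proj_eq_of hd hc (inc a) 1 a.2 W₂.one_mem).1
    rw [mul_one] at this
    exact Subtype.ext (congrArg (fun x : ↥(W₁ ⊔ W₂) => (x : G)) this)

/-- Number of characters trivial on `W₁`. -/
theorem card_trivOn₁ [Finite G] (hW : Cfsg.IsSelfNormalizingCyclic W₁ W₂) :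
    Nat.card {φ : ↥(W₁ ⊔ W₂) →* ℂˣ // TrivOn W₁ φ} = Nat.card W₂ := by
  have hd := hdisj hW
  have hc := hcomm hW
  letI : CommGroup ↥W₂ := { (inferInstance : Group ↥W₂) with
    mul_comm := fun a b => Subtype.ext (congrArg Subtype.val
      (comm hW ⟨a, Subgroup.mem_sup_right a.2⟩ ⟨b, Subgroup.mem_sup_right b.2⟩) :) }
  rw [← CommGroup.card_monoidHom_of_hasEnoughRootsOfUnity (G := ↥W₂) (M := ℂ)]
  let inc : ↥W₂ →* ↥(W₁ ⊔ W₂) := Subgroup.inclusion le_sup_right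
  let p2 : ↥(W₁ ⊔ W₂) →* ↥W₂ :=
    (((W₁ ⊔ W₂).subtype).comp (proj₂ hd hc)).codRestrict W₂ (proj₂_mem hd hc)
  refine Nat.card_congr
    { toFun := fun φ => φ.1.comp inc
      invFun := fun ν => ⟨ν.comp p2, fun w hw => ?_⟩
      left_inv := fun φ => Subtype.ext (MonoidHom.ext fun w => ?_)
      right_inv := fun ν => MonoidHom.ext fun a => ?_ }
  · rw [MonoidHom.comp_apply, show p2 w = 1 from Subtype.ext (congrArg (fun x : ↥(W₁ ⊔ W₂) => (x : G)) (proj₂_of_mem hd hc hw)), map_one]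
  · show φ.1 (inc (p2 w)) = φ.1 w
    have e : inc (p2 w) = proj₂ hd hc w := Subtype.ext rfl
    conv_rhs => rw [← proj_mul hd hc w, map_mul, φ.2 _ (proj₁_mem hd hc w), one_mul]
    rw [e]
  · show ν (p2 (inc a)) = ν a
    congr 1
    have := (proj_eq_of hd hc 1 (inc a) W₁.one_mem a.2).2
    rw [one_mul] at this
    exact Subtype.ext (congrArg (fun x : ↥(W₁ ⊔ W₂) => (x : G)) this)

theorem card_ne [Finite G] (hW : Cfsg.IsSelfNormalizingCyclic W₁ W₂) : Nat.card W₁ ≠ Nat.card W₂ := by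
  intro e
  have : IsCyclic ↥(W₁ ⊔ W₂) := hW.2.2.2.2.1
  haveI : Fintype ↥(W₁ ⊔ W₂) := Fintype.ofFinite _
  obtain ⟨a, ha, ha1⟩ := W₁.bot_or_exists_ne_one.resolve_left hW.1
  refine ha1 (Subgroup.mem_bot.mp (hdisj hW ▸ ⟨ha, ?_⟩))
  -- both factors consist of the solutions of the same power equation
  set T : Finset ↥(W₁ ⊔ W₂) := Finset.univ.filter fun z => z ^ Nat.card W₂ = 1 with hT
  set U : Finset ↥(W₁ ⊔ W₂) := Finset.univ.filter fun z => (z : G) ∈ W₂ with hU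
  have hUT : U ⊆ T := fun z hz => by
    simp only [U, T, Finset.mem_filter, Finset.mem_univ, true_and] at hz ⊢
    exact Subtype.ext (orderOf_dvd_iff_pow_eq_one.mp (Subgroup.orderOf_dvd_natCard W₂ hz))
  have hcard : U.card = Nat.card W₂ := by
    rw [← Nat.card_congr (Subgroup.subgroupOfEquivOfLe (le_sup_right (a := W₁) (b := W₂))).toEquiv,
      Nat.card_eq_fintype_card, Fintype.card_subtype]
    simp [U, Subgroup.mem_subgroupOf]
  have hTU : U = T := Finset.eq_of_subset_of_card_le hUT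
    (by rw [hcard]; exact IsCyclic.card_pow_eq_one_le (α := ↥(W₁ ⊔ W₂)) Nat.card_pos)
  have : (⟨a, Subgroup.mem_sup_left ha⟩ : ↥(W₁ ⊔ W₂)) ∈ T :=
    Finset.mem_filter.mpr ⟨Finset.mem_univ _,
      Subtype.ext (orderOf_dvd_iff_pow_eq_one.mp (e ▸ Subgroup.orderOf_dvd_natCard W₁ ha))⟩
  rw [← hTU] at this
  simpa [U] using this

theorem odd_ge_three [Finite G] {V W : Subgroup G} (hle : V ≤ W) (hne : V ≠ ⊥) (hodd : Odd (Nat.card W)) :
    3 ≤ Nat.card V ∧ Odd (Nat.card V) := by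
  have ho : Odd (Nat.card V) := hodd.of_dvd_nat (Subgroup.card_dvd_of_le hle)
  have h1 : Nat.card V ≠ 1 := fun h => hne (Subgroup.eq_bot_of_card_eq V h)
  obtain ⟨k, hk⟩ := ho
  exact ⟨by omega, ⟨k, hk⟩⟩

variable [Fintype G]

/-- The function of an integer vector over the irreducible characters. -/
noncomputable def fn [Fintype (Cfsg.IrrCharacter G)] (v : Cfsg.IrrCharacter G → ℤ) : G → ℂ :=
  ∑ ψ, (v ψ : ℂ) • (ψ : G → ℂ)

theorem inner_fn (u v : Cfsg.IrrCharacter G → ℤ) :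
    Cfsg.classInner (fn u) (fn v) = (TripleGrid.pr u v : ℂ) := by
  rw [fn, fn, classInner_sum_right]
  simp only [classInner_smul_right, classInner_sum_smul_irr, map_intCast]
  rw [TripleGrid.pr, Int.cast_sum]
  exact Finset.sum_congr rfl fun ψ _ => by push_cast; ring

theorem mate_of_inner {u v : Cfsg.IrrCharacter G → ℤ} (hu : TripleGrid.pr u u = 3) (hv : TripleGrid.pr v v = 3)
    (h : TripleGrid.pr u v = 1) (hd : fn u 1 = fn v 1) : TripleGrid.Mate u v := by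
  refine TripleGrid.mate_of_deg hu hv h (fun ψ => (ψ : G → ℂ) 1)
    (fun ψ => isIrrCharacter_apply_one_ne_zero ψ.2) ?_
  simpa only [fn, Finset.sum_apply, Pi.smul_apply, smul_eq_mul] using hd

/-- The structure of the induced functions. -/
theorem exists_points (hW : Cfsg.IsSelfNormalizingCyclic W₁ W₂) (hodd : Odd (Nat.card ↥(W₁ ⊔ W₂)))
    [Fintype {φ : ↥(W₁ ⊔ W₂) →* ℂˣ // TrivOn W₂ φ ∧ φ ≠ 1}]
    [Fintype {φ : ↥(W₁ ⊔ W₂) →* ℂˣ // TrivOn W₁ φ ∧ φ ≠ 1}] :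
    ∃ (X : {φ : ↥(W₁ ⊔ W₂) →* ℂˣ // TrivOn W₂ φ ∧ φ ≠ 1} → Cfsg.IrrCharacter G)
      (Y : {φ : ↥(W₁ ⊔ W₂) →* ℂˣ // TrivOn W₁ φ ∧ φ ≠ 1} → Cfsg.IrrCharacter G)
      (Z : {φ : ↥(W₁ ⊔ W₂) →* ℂˣ // TrivOn W₂ φ ∧ φ ≠ 1} →
        {φ : ↥(W₁ ⊔ W₂) →* ℂˣ // TrivOn W₁ φ ∧ φ ≠ 1} → Cfsg.IrrCharacter G)
      (a : {φ : ↥(W₁ ⊔ W₂) →* ℂˣ // TrivOn W₂ φ ∧ φ ≠ 1} → ℤ)
      (b : {φ : ↥(W₁ ⊔ W₂) →* ℂˣ // TrivOn W₁ φ ∧ φ ≠ 1} → ℤ)
      (c : {φ : ↥(W₁ ⊔ W₂) →* ℂˣ // TrivOn W₂ φ ∧ φ ≠ 1} →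
        {φ : ↥(W₁ ⊔ W₂) →* ℂˣ // TrivOn W₁ φ ∧ φ ≠ 1} → ℤ),
      (∀ i, a i = 1 ∨ a i = -1) ∧ (∀ j, b j = 1 ∨ b j = -1) ∧ (∀ i j, c i j = 1 ∨ c i j = -1) ∧
      Function.Injective (Sum.elim X (Sum.elim Y fun p :
        {φ : ↥(W₁ ⊔ W₂) →* ℂˣ // TrivOn W₂ φ ∧ φ ≠ 1} × {φ : ↥(W₁ ⊔ W₂) →* ℂˣ // TrivOn W₁ φ ∧ φ ≠ 1} =>
          Z p.1 p.2)) ∧
      (∀ i, (X i : G → ℂ) ≠ fun _ => 1) ∧ (∀ j, (Y j : G → ℂ) ≠ fun _ => 1) ∧
      (∀ i j, (Z i j : G → ℂ) ≠ fun _ => 1) ∧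
      ∀ i j g, Cfsg.indFun (W₁ ⊔ W₂) (alphaFun i.1 j.1) g = 1 + (a i : ℂ) * (X i : G → ℂ) g +
        (b j : ℂ) * (Y j : G → ℂ) g + (c i j : ℂ) * (Z i j : G → ℂ) g := by
  haveI : Fintype ↥(W₁ ⊔ W₂) := Fintype.ofFinite _
  set I := {φ : ↥(W₁ ⊔ W₂) →* ℂˣ // TrivOn W₂ φ ∧ φ ≠ 1}
  set J := {φ : ↥(W₁ ⊔ W₂) →* ℂˣ // TrivOn W₁ φ ∧ φ ≠ 1}
  have one1 : Cfsg.IsIrrCharacter G (fun _ => 1) := isIrrCharacter_one
  set β : I → J → (G → ℂ) := fun i j => Cfsg.indFun (W₁ ⊔ W₂) (alphaFun i.1 j.1) - fun _ => 1 with hβ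
  have hgenlin : ∀ φ : ↥(W₁ ⊔ W₂) →* ℂˣ, Cfsg.IsGeneralizedCharacter ↥(W₁ ⊔ W₂) (fun w => (φ w : ℂ)) :=
    fun φ => isGeneralizedCharacter_of_isCharacter (isCharacter_of_isIrrCharacter (isIrrCharacter_linear φ))
  have hgen : ∀ i j, Cfsg.IsGeneralizedCharacter G (β i j) := fun i j => by
    refine isGeneralizedCharacter_sub (CharInduced.isGenChar_ind _ ?_)
      (isGeneralizedCharacter_of_isCharacter (isCharacter_of_isIrrCharacter one1))
    have : alphaFun i.1 j.1 = (fun w => ((1 : ↥(W₁ ⊔ W₂) →* ℂˣ) w : ℂ)) - (fun w => (i.1 w : ℂ)) -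
        (fun w => (j.1 w : ℂ)) + (fun w => ((i.1 * j.1) w : ℂ)) := by funext w; simp [alphaFun]
    rw [this]
    exact isGeneralizedCharacter_add (isGeneralizedCharacter_sub (isGeneralizedCharacter_sub (hgenlin _) (hgenlin _))
      (hgenlin _)) (hgenlin _)
  choose v hv hvsum using fun i j => exists_int_coeff (hgen i j)
  have hfn : ∀ i j, fn (v i j) = β i j := fun i j => (hvsum i j).symm
  have hval : ∀ (i k : I) (j l : J), Cfsg.classInner (β i j) (β k l) =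
      (if i = k then 1 else 0) + (if j = l then 1 else 0) + (if i = k then 1 else 0) * (if j = l then 1 else 0) := by
    intro i k j l
    obtain ⟨e1, e2⟩ := Cfsg.Agent.S1505.inner_values hW i.2.2 k.2.2 j.2.2 l.2.2 i.2.1 k.2.1 j.2.1 l.2.1
    obtain ⟨e3, -⟩ := Cfsg.Agent.S1505.inner_values hW k.2.2 k.2.2 l.2.2 l.2.2 k.2.1 k.2.1 l.2.1 l.2.1
    have e4 : Cfsg.classInner (fun _ : G => (1 : ℂ)) (Cfsg.indFun (W₁ ⊔ W₂) (alphaFun k.1 l.1)) = 1 := by
      rw [← conj_classInner, e3, map_one]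
    simp only [hβ, classInner_sub_left, classInner_sub_right, classInner_irr_self one1, e1, e2, e4]
    by_cases h1 : i = k <;> by_cases h2 : j = l <;> simp [h1, h2, Subtype.val_inj]
  have hpr : ∀ (i k : I) (j l : J), (TripleGrid.pr (v i j) (v k l) : ℂ) =
      (if i = k then 1 else 0) + (if j = l then 1 else 0) + (if i = k then 1 else 0) * (if j = l then 1 else 0) :=
    fun i k j l => by rw [← inner_fn, hfn, hfn, hval]
  have hone : ∀ i j, fn (v i j) 1 = -1 := fun i j => by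
    rw [hfn]
    have : Cfsg.indFun (W₁ ⊔ W₂) (alphaFun i.1 j.1) 1 = 0 := by
      rw [Cfsg.indFun]
      have : ∀ x : G, Cfsg.extendByZero (W₁ ⊔ W₂) (alphaFun i.1 j.1) (x⁻¹ * 1 * x) = 0 := fun x => by
        rw [mul_one, inv_mul_cancel]
        show Function.extend Subtype.val (alphaFun i.1 j.1) 0 ((1 : ↥(W₁ ⊔ W₂)) : G) = 0
        rw [Subtype.val_injective.extend_apply]
        exact alpha_eq_zero i.2.1 j.2.1 (Or.inl W₁.one_mem)
      simp only [this, Finset.sum_const_zero, mul_zero]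
    simp [hβ, this]
  have hn : ∀ i j, TripleGrid.pr (v i j) (v i j) = 3 := fun i j => by
    have := hpr i i j j
    rw [if_pos rfl, if_pos rfl] at this
    norm_num at this
    exact_mod_cast this
  have grid : TripleGrid.Grid v := by
    refine ⟨hn, fun i j k h => ?_, fun i l j h => ?_, fun i l j k h h' => ?_⟩
    · refine mate_of_inner (hn _ _) (hn _ _) ?_ (by rw [hone, hone])
      have := hpr i i j k
      rw [if_pos rfl, if_neg h] at this
      norm_num at this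
      exact_mod_cast this
    · refine mate_of_inner (hn _ _) (hn _ _) ?_ (by rw [hone, hone])
      have := hpr i l j j
      rw [if_pos rfl, if_neg h] at this
      norm_num at this
      exact_mod_cast this
    · have := hpr i l j k
      rw [if_neg h, if_neg h'] at this
      norm_num at this
      exact_mod_cast this
  have cI : Fintype.card I + 1 = Nat.card W₁ := by
    rw [← card_trivOn₂ hW]
    haveI := hom_fintype ↥(W₁ ⊔ W₂)
    haveI : Fintype {φ : ↥(W₁ ⊔ W₂) →* ℂˣ // TrivOn W₂ φ} := Fintype.ofFinite _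
    rw [Nat.card_eq_fintype_card, ← Fintype.card_option]
    exact Fintype.card_congr
      { toFun := fun o => o.elim ⟨1, trivOn_one _⟩ fun i => ⟨i.1, i.2.1⟩
        invFun := fun φ => if h : φ.1 = 1 then none else some ⟨φ.1, φ.2, h⟩
        left_inv := fun o => by
          cases o with
          | none => simp
          | some i => simp [i.2.2]
        right_inv := fun φ => by
          by_cases h : φ.1 = 1
          · simp only [dif_pos h, Option.elim_none]; exact Subtype.ext h.symm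
          · simp [dif_neg h] }
  have cJ : Fintype.card J + 1 = Nat.card W₂ := by
    rw [← card_trivOn₁ hW]
    haveI := hom_fintype ↥(W₁ ⊔ W₂)
    haveI : Fintype {φ : ↥(W₁ ⊔ W₂) →* ℂˣ // TrivOn W₁ φ} := Fintype.ofFinite _
    rw [Nat.card_eq_fintype_card, ← Fintype.card_option]
    exact Fintype.card_congr
      { toFun := fun o => o.elim ⟨1, trivOn_one _⟩ fun i => ⟨i.1, i.2.1⟩
        invFun := fun φ => if h : φ.1 = 1 then none else some ⟨φ.1, φ.2, h⟩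
        left_inv := fun o => by
          cases o with
          | none => simp
          | some i => simp [i.2.2]
        right_inv := fun φ => by
          by_cases h : φ.1 = 1
          · simp only [dif_pos h, Option.elim_none]; exact Subtype.ext h.symm
          · simp [dif_neg h] }
  obtain ⟨h1, ⟨k1, o1⟩⟩ := odd_ge_three (le_sup_left (a := W₁) (b := W₂)) hW.1 hodd
  obtain ⟨h2, ⟨k2, o2⟩⟩ := odd_ge_three (le_sup_right (a := W₁) (b := W₂)) hW.2.1 hodd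
  have hne := card_ne hW
  obtain ⟨X, Y, Z, a, b, c, ha, hb, hc, hinj, hsum⟩ :
      ∃ (X : I → Cfsg.IrrCharacter G) (Y : J → Cfsg.IrrCharacter G) (Z : I → J → Cfsg.IrrCharacter G)
        (a : I → ℤ) (b : J → ℤ) (c : I → J → ℤ),
      (∀ i, a i = 1 ∨ a i = -1) ∧ (∀ j, b j = 1 ∨ b j = -1) ∧ (∀ i j, c i j = 1 ∨ c i j = -1) ∧
      Function.Injective (Sum.elim X (Sum.elim Y fun p : I × J => Z p.1 p.2)) ∧
      ∀ i j p, v i j p = (if p = X i then a i else 0) + (if p = Y j then b j else 0) +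
        (if p = Z i j then c i j else 0) := by
    by_cases hJ : 4 ≤ Fintype.card J
    · obtain ⟨X, Y, Z, a, b, c, ha, hb, hc, hinj, hsum⟩ := grid.structure (by omega) hJ
      exact ⟨X, Y, Z, a, b, c, ha, hb, hc, hinj, fun i j p => by convert hsum i j p⟩
    · obtain ⟨X, Y, Z, a, b, c, ha, hb, hc, hinj, hsum⟩ := grid.transpose.structure (by omega) (by omega)
      refine ⟨Y, X, fun i j => Z j i, b, a, fun i j => c j i, hb, ha, fun i j => hc j i, ?_,
        fun i j p => by rw [hsum j i p]; split_ifs <;> ring⟩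
      let e : I ⊕ (J ⊕ I × J) → J ⊕ (I ⊕ J × I) :=
        Sum.elim (fun i => Sum.inr (Sum.inl i)) (Sum.elim Sum.inl fun p => Sum.inr (Sum.inr (p.2, p.1)))
      have he : Function.Injective e := by
        rintro (i | j | ⟨i, j⟩) (i' | j' | ⟨i', j'⟩) h <;> simp_all [e]
      convert hinj.comp he using 1
      funext s
      rcases s with i | j | ⟨i, j⟩ <;> rfl
  have htriv : ∀ i j (p : Cfsg.IrrCharacter G), v i j p ≠ 0 → (p : G → ℂ) ≠ fun _ => 1 := by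
    intro i j p hp e
    refine hp ?_
    have h := hv i j p
    rw [e] at h
    obtain ⟨e1, -⟩ := Cfsg.Agent.S1505.inner_values hW i.2.2 i.2.2 j.2.2 j.2.2 i.2.1 i.2.1 j.2.1 j.2.1
    simp only [hβ, classInner_sub_left, classInner_irr_self one1, e1, sub_self] at h
    exact_mod_cast h.symm
  obtain ⟨i0⟩ : Nonempty I := Fintype.card_pos_iff.mp (by omega)
  obtain ⟨j0⟩ : Nonempty J := Fintype.card_pos_iff.mp (by omega)
  have nXY : ∀ i j, X i ≠ Y j := fun i j e => by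
    have := @hinj (Sum.inl i) (Sum.inr (Sum.inl j)) e; simp at this
  have nXZ : ∀ i k j, X i ≠ Z k j := fun i k j e => by
    have := @hinj (Sum.inl i) (Sum.inr (Sum.inr (k, j))) e; simp at this
  have nYZ : ∀ i k j, Y i ≠ Z k j := fun i k j e => by
    have := @hinj (Sum.inr (Sum.inl i)) (Sum.inr (Sum.inr (k, j))) e; simp at this
  refine ⟨X, Y, Z, a, b, c, ha, hb, hc, hinj, fun i => htriv i j0 _ ?_, fun j => htriv i0 j _ ?_,
    fun i j => htriv i j _ ?_, fun i j g => ?_⟩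
  · rw [hsum, if_pos rfl, if_neg (nXY i j0), if_neg (nXZ i i j0), add_zero, add_zero]
    rcases ha i with e | e <;> simp [e]
  · rw [hsum, if_neg (Ne.symm (nXY i0 j)), if_pos rfl, if_neg (nYZ j i0 j), add_zero, zero_add]
    rcases hb j with e | e <;> simp [e]
  · rw [hsum, if_neg (Ne.symm (nXZ i i j)), if_neg (Ne.symm (nYZ j i j)), if_pos rfl, zero_add, zero_add]
    rcases hc i j with e | e <;> simp [e]
  · have h := congrFun (hfn i j) g
    simp only [fn, hsum, Finset.sum_apply, Pi.smul_apply, smul_eq_mul] at h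
    push_cast at h
    simp only [add_mul, Finset.sum_add_distrib, ite_mul, zero_mul, apply_ite (fun x : ℤ => (x : ℂ)),
      Int.cast_zero, Finset.sum_ite_eq', Finset.mem_univ, if_true] at h
    simp only [hβ, Pi.sub_apply] at h
    linear_combination -h

omit [Fintype G] in
/-- A function on `W` with split Fourier coefficients vanishes outside both factors. -/
theorem vanish_of_split [Finite G] (hW : Cfsg.IsSelfNormalizingCyclic W₁ W₂) [Fintype ↥(W₁ ⊔ W₂)]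
    (f : ↥(W₁ ⊔ W₂) → ℂ)
    (hrel : ∀ ω : ↥(W₁ ⊔ W₂) →* ℂˣ, Cfsg.classInner f (fun x => (ω x : ℂ)) =
      Cfsg.classInner f (fun x => (part₁ (hdisj hW) (hcomm hW) ω x : ℂ)) +
        Cfsg.classInner f (fun x => (part₂ (hdisj hW) (hcomm hW) ω x : ℂ)) -
        Cfsg.classInner f (fun x => ((1 : ↥(W₁ ⊔ W₂) →* ℂˣ) x : ℂ)))
    (w : ↥(W₁ ⊔ W₂)) (hw₁ : (w : G) ∉ W₁) (hw₂ : (w : G) ∉ W₂) : f w = 0 := by
  haveI := hom_fintype ↥(W₁ ⊔ W₂)
  haveI : Fintype (↥(W₁ ⊔ W₂) →* ℂˣ) := Fintype.ofFinite _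
  have hd := hdisj hW
  have hc := hcomm hW
  set c : (↥(W₁ ⊔ W₂) →* ℂˣ) → ℂ := fun ω => Cfsg.classInner f (fun x => (ω x : ℂ)) with hcd
  obtain ⟨ψ₀, hψ₀, hψ₀w⟩ := exists_hom_proj₂_ne_one hW (proj₂_mem hd hc w) (proj₂_ne_one hd hc hw₁)
  obtain ⟨φ₀, hφ₀, hφ₀w⟩ := exists_hom_proj₁_ne_one hW (proj₁_mem hd hc w) (proj₁_ne_one hd hc hw₂)
  have hψv : ψ₀ w ≠ 1 := by
    rwa [← proj_mul hd hc w, map_mul, hψ₀ _ (proj₁_mem hd hc w), one_mul]
  have hφv : φ₀ w ≠ 1 := by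
    rwa [← proj_mul hd hc w, map_mul, hφ₀ _ (proj₂_mem hd hc w), mul_one]
  have hS : ∀ (F : (↥(W₁ ⊔ W₂) →* ℂˣ) → ℂ) (η : ↥(W₁ ⊔ W₂) →* ℂˣ), η w ≠ 1 → (∀ ω, F (η * ω) = F ω) →
      ∑ ω : ↥(W₁ ⊔ W₂) →* ℂˣ, F ω * (ω w : ℂ) = 0 := by
    intro F η hη hF
    have h1 : ∑ ω : ↥(W₁ ⊔ W₂) →* ℂˣ, F ω * (ω w : ℂ) = (η w : ℂ) * ∑ ω, F ω * (ω w : ℂ) := by
      conv_lhs => rw [← Equiv.sum_comp (Equiv.mulLeft η)]
      rw [Finset.mul_sum]
      refine Finset.sum_congr rfl fun ω _ => ?_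
      simp [hF ω]; ring
    have h2 : ((η w : ℂ) - 1) * ∑ ω : ↥(W₁ ⊔ W₂) →* ℂˣ, F ω * (ω w : ℂ) = 0 := by linear_combination -h1
    exact (mul_eq_zero.mp h2).resolve_left (sub_ne_zero.mpr fun e => hη (Units.val_eq_one.mp e))
  have e1 : ∀ ω, part₁ hd hc (ψ₀ * ω) = part₁ hd hc ω := fun ω => by
    conv_lhs => rw [show ψ₀ * ω = part₁ hd hc ω * (ψ₀ * part₂ hd hc ω) from MonoidHom.ext fun x => by
      conv_lhs => rw [← part_mul hd hc ω]
      simp [mul_left_comm]]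
    refine part₁_eq hd hc (part₁_triv hd hc ω) ?_
    intro x hx; rw [MonoidHom.mul_apply, hψ₀ x hx, part₂_triv hd hc ω x hx, one_mul]
  have e2 : ∀ ω, part₂ hd hc (φ₀ * ω) = part₂ hd hc ω := fun ω => by
    conv_lhs => rw [show φ₀ * ω = φ₀ * part₁ hd hc ω * part₂ hd hc ω from MonoidHom.ext fun x => by
      conv_lhs => rw [← part_mul hd hc ω]
      simp [mul_assoc]]
    refine part₂_eq hd hc ?_ (part₂_triv hd hc ω)
    intro x hx; rw [MonoidHom.mul_apply, hφ₀ x hx, part₁_triv hd hc ω x hx, one_mul]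
  rw [congrFun (expand_hom (comm hW) f) w]
  calc ∑ ω : ↥(W₁ ⊔ W₂) →* ℂˣ, c ω * (ω w : ℂ)
      = ∑ ω : ↥(W₁ ⊔ W₂) →* ℂˣ, c (part₁ hd hc ω) * (ω w : ℂ) +
        ∑ ω : ↥(W₁ ⊔ W₂) →* ℂˣ, c (part₂ hd hc ω) * (ω w : ℂ) -
        ∑ ω : ↥(W₁ ⊔ W₂) →* ℂˣ, c 1 * (ω w : ℂ) := by
        rw [← Finset.sum_add_distrib, ← Finset.sum_sub_distrib]
        exact Finset.sum_congr rfl fun ω _ => by rw [show c ω = _ from hrel ω]; ring
    _ = 0 := by
      rw [hS (fun ω => c (part₁ hd hc ω)) ψ₀ hψv (fun ω => by rw [e1]),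
        hS (fun ω => c (part₂ hd hc ω)) φ₀ hφv (fun ω => by rw [e2]),
        hS (fun _ => c 1) ψ₀ hψv (fun _ => rfl)]
      ring

/-- The family exists. -/
theorem exists_family (hW : Cfsg.IsSelfNormalizingCyclic W₁ W₂) (hodd : Odd (Nat.card ↥(W₁ ⊔ W₂))) :
    ∃ χ : (↥(W₁ ⊔ W₂) →* ℂˣ) → (G → ℂ), Cfsg.IsCyclicTIFamily W₁ W₂ χ := by
  haveI : Fintype ↥(W₁ ⊔ W₂) := Fintype.ofFinite _
  haveI := hom_fintype ↥(W₁ ⊔ W₂)
  haveI : Fintype {φ : ↥(W₁ ⊔ W₂) →* ℂˣ // TrivOn W₂ φ ∧ φ ≠ 1} := Fintype.ofFinite _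
  haveI : Fintype {φ : ↥(W₁ ⊔ W₂) →* ℂˣ // TrivOn W₁ φ ∧ φ ≠ 1} := Fintype.ofFinite _
  have hd := hdisj hW
  have hc := hcomm hW
  set I := {φ : ↥(W₁ ⊔ W₂) →* ℂˣ // TrivOn W₂ φ ∧ φ ≠ 1}
  set J := {φ : ↥(W₁ ⊔ W₂) →* ℂˣ // TrivOn W₁ φ ∧ φ ≠ 1}
  obtain ⟨X, Y, Z, a, b, c, ha, hb, hcs, hinj, nX, nY, nZ, hind⟩ := exists_points hW hodd
  have one1 : Cfsg.IsIrrCharacter G (fun _ => 1) := isIrrCharacter_one
  let P : Option (I ⊕ J ⊕ I × J) → Cfsg.IrrCharacter G :=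
    fun o => o.elim ⟨_, one1⟩ (Sum.elim X (Sum.elim Y fun p => Z p.1 p.2))
  let sg : Option (I ⊕ J ⊕ I × J) → ℂ :=
    fun o => o.elim 1 (Sum.elim (fun i => -(a i : ℂ)) (Sum.elim (fun j => -(b j : ℂ)) fun p => (c p.1 p.2 : ℂ)))
  have hsg : ∀ o, sg o = 1 ∨ sg o = -1 := by
    rintro (_ | i | j | ⟨i, j⟩)
    · exact Or.inl rfl
    · rcases ha i with e | e <;> simp [sg, e]
    · rcases hb j with e | e <;> simp [sg, e]
    · rcases hcs i j with e | e <;> simp [sg, e]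
  have hPinj : Function.Injective P := by
    have hne : ∀ s, P (some s) ≠ P none := by
      rintro (i | j | ⟨i, j⟩) e
      · exact nX i (congrArg Subtype.val e)
      · exact nY j (congrArg Subtype.val e)
      · exact nZ i j (congrArg Subtype.val e)
    rintro (_ | s) (_ | s') e
    · rfl
    · exact absurd e.symm (hne s')
    · exact absurd e (hne s)
    · exact congrArg some (hinj e)
  let code : (↥(W₁ ⊔ W₂) →* ℂˣ) → Option (I ⊕ J ⊕ I × J) := fun ω =>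
    if h₁ : part₁ hd hc ω = 1 then
      (if h₂ : part₂ hd hc ω = 1 then none else some (Sum.inr (Sum.inl ⟨_, part₂_triv hd hc ω, h₂⟩)))
    else (if h₂ : part₂ hd hc ω = 1 then some (Sum.inl ⟨_, part₁_triv hd hc ω, h₁⟩)
      else some (Sum.inr (Sum.inr (⟨_, part₁_triv hd hc ω, h₁⟩, ⟨_, part₂_triv hd hc ω, h₂⟩))))
  have hcode : Function.Injective code := by
    let dec : Option (I ⊕ J ⊕ I × J) → (↥(W₁ ⊔ W₂) →* ℂˣ) :=
      fun o => o.elim 1 (Sum.elim (fun i => i.1) (Sum.elim (fun j => j.1) fun p => p.1.1 * p.2.1))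
    refine Function.LeftInverse.injective (g := dec) fun ω => ?_
    have hω := part_mul hd hc ω
    by_cases h₁ : part₁ hd hc ω = 1 <;> by_cases h₂ : part₂ hd hc ω = 1
    · simp only [code, dec, dif_pos h₁, dif_pos h₂, Option.elim_none]
      rw [h₁, h₂] at hω; rw [← hω, hom_one_mul]
    · simp only [code, dec, dif_pos h₁, dif_neg h₂, Option.elim_some, Sum.elim_inr, Sum.elim_inl]
      rw [h₁, hom_one_mul] at hω; exact hω
    · simp only [code, dec, dif_neg h₁, dif_pos h₂, Option.elim_some, Sum.elim_inl]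
      rw [h₂, hom_mul_one] at hω; exact hω
    · simp only [code, dec, dif_neg h₁, dif_neg h₂, Option.elim_some, Sum.elim_inr]
      exact hω
  have c1 : code 1 = none := by
    have h₁ : part₁ hd hc (1 : ↥(W₁ ⊔ W₂) →* ℂˣ) = 1 := MonoidHom.ext fun _ => rfl
    have h₂ : part₂ hd hc (1 : ↥(W₁ ⊔ W₂) →* ℂˣ) = 1 := MonoidHom.ext fun _ => rfl
    simp only [code, dif_pos h₁, dif_pos h₂]
  set χ : (↥(W₁ ⊔ W₂) →* ℂˣ) → (G → ℂ) := fun ω => sg (code ω) • (P (code ω) : G → ℂ) with hχ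
  have horth : ∀ ω ω', Cfsg.classInner (χ ω) (χ ω') = if ω = ω' then 1 else 0 := by
    intro ω ω'
    simp only [hχ, classInner_smul_left, classInner_smul_right, classInner_irrCharacter,
      hPinj.eq_iff, hcode.eq_iff]
    split_ifs with h
    · subst h; rcases hsg (code ω) with e | e <;> simp [e]
    · simp
  have hmap1 : χ 1 = fun _ => 1 := by
    funext g; simp [hχ, c1, sg, P]
  have hindeq : ∀ φ ψ : ↥(W₁ ⊔ W₂) →* ℂˣ, φ ≠ 1 → ψ ≠ 1 → TrivOn W₂ φ → TrivOn W₁ ψ →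
      Cfsg.indFun (W₁ ⊔ W₂) (alphaFun φ ψ) = fun g => 1 - χ φ g - χ ψ g + χ (φ * ψ) g := by
    intro φ ψ hφ hψ hφt hψt
    have a1 : part₁ hd hc φ = φ := by
      have := part₁_eq hd hc hφt (trivOn_one W₁); rwa [hom_mul_one] at this
    have a2 : part₂ hd hc φ = 1 := by
      have := part₂_eq hd hc hφt (trivOn_one W₁); rwa [hom_mul_one] at this
    have b1 : part₁ hd hc ψ = 1 := by
      have := part₁_eq hd hc (trivOn_one W₂) hψt; rwa [hom_one_mul] at this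
    have b2 : part₂ hd hc ψ = ψ := by
      have := part₂_eq hd hc (trivOn_one W₂) hψt; rwa [hom_one_mul] at this
    have p1 := part₁_eq hd hc hφt hψt
    have p2 := part₂_eq hd hc hφt hψt
    have cφ : code φ = some (Sum.inl ⟨φ, hφt, hφ⟩) := by
      simp only [code, dif_neg (show ¬ part₁ hd hc φ = 1 from a1.symm ▸ hφ), dif_pos a2]
      exact congrArg (fun i => some (Sum.inl i)) (Subtype.ext a1)
    have cψ : code ψ = some (Sum.inr (Sum.inl ⟨ψ, hψt, hψ⟩)) := by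
      simp only [code, dif_pos b1, dif_neg (show ¬ part₂ hd hc ψ = 1 from b2.symm ▸ hψ)]
      exact congrArg (fun i => some (Sum.inr (Sum.inl i))) (Subtype.ext b2)
    have cp : code (φ * ψ) = some (Sum.inr (Sum.inr (⟨φ, hφt, hφ⟩, ⟨ψ, hψt, hψ⟩))) := by
      simp only [code, dif_neg (show ¬ part₁ hd hc (φ * ψ) = 1 from p1.symm ▸ hφ),
        dif_neg (show ¬ part₂ hd hc (φ * ψ) = 1 from p2.symm ▸ hψ)]
      exact congrArg (fun i => some (Sum.inr (Sum.inr i))) (Prod.ext (Subtype.ext p1) (Subtype.ext p2))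
    funext g
    rw [hind ⟨φ, hφt, hφ⟩ ⟨ψ, hψt, hψ⟩ g]
    simp [hχ, cφ, cψ, cp, sg, P]
  refine ⟨χ, fun ω => ?_, fun ω ω' => by convert horth ω ω', hmap1, ?_, fun φ ψ h1 h2 h3 h4 => hindeq φ ψ h1 h2 h3 h4⟩
  · rcases hsg (code ω) with e | e
    · exact Or.inl (by simpa [hχ, e] using (P (code ω)).2)
    · exact Or.inr (by simpa [hχ, e] using (P (code ω)).2)
  · intro ω₀ w hw₁ hw₂
    set f : ↥(W₁ ⊔ W₂) → ℂ := fun x => χ ω₀ x - (ω₀ x : ℂ) with hf
    have hcl : Cfsg.IsClassFunction G (χ ω₀) := fun g x => by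
      simp [hχ, isClassFunction_of_isCharacter (isCharacter_of_isIrrCharacter (P (code ω₀)).2) g x]
    suffices h : f w = 0 by exact sub_eq_zero.mp h
    refine vanish_of_split hW f (fun ω => ?_) w hw₁ hw₂
    set φ := part₁ hd hc ω with hφd
    set ψ := part₂ hd hc ω with hψd
    have hω : φ * ψ = ω := part_mul hd hc ω
    by_cases hφ1 : φ = 1
    · have hω' : ψ = ω := by rw [← hω, hφ1, hom_one_mul]
      rw [hφ1, hω']; ring
    by_cases hψ1 : ψ = 1
    · have hω' : φ = ω := by rw [← hω, hψ1, hom_mul_one]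
      rw [hψ1, hω']; ring
    have hφt := part₁_triv hd hc ω
    have hψt := part₂_triv hd hc ω
    rw [← hφd] at hφt
    rw [← hψd] at hψt
    have hz : Cfsg.classInner f (alphaFun φ ψ) = 0 := by
      rw [hf, show (fun x : ↥(W₁ ⊔ W₂) => χ ω₀ (x : G) - (ω₀ x : ℂ)) =
        (fun x : ↥(W₁ ⊔ W₂) => χ ω₀ (x : G)) - (fun x => (ω₀ x : ℂ)) from rfl, classInner_sub_left,
        ← CharInduced.inner_ind_right _ _ hcl, hindeq φ ψ hφ1 hψ1 hφt hψt,
        ← conj_classInner (alphaFun φ ψ), inner_alpha_hom,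
        show (fun g => 1 - χ φ g - χ ψ g + χ (φ * ψ) g) = χ 1 - χ φ - χ ψ + χ (φ * ψ) by
          funext g; simp [hmap1],
        classInner_add_right, classInner_sub_right, classInner_sub_right, horth, horth, horth, horth]
      simp only [map_add, map_sub, apply_ite (conj : ℂ → ℂ), map_one, map_zero, eq_comm (a := ω₀)]
      ring
    rw [show alphaFun φ ψ = (fun x => ((1 : ↥(W₁ ⊔ W₂) →* ℂˣ) x : ℂ)) - (fun x => (φ x : ℂ)) -
      (fun x => (ψ x : ℂ)) + (fun x => ((φ * ψ) x : ℂ)) by funext x; simp [alphaFun],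
      classInner_add_right, classInner_sub_right, classInner_sub_right, hω] at hz
    linear_combination hz

end Cfsg.Agent.CyclicTIExist
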