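import Mathlib
import Cfsg.Agent.Lib.CharBasicLinear

/-!
# Sums and products of character values over the generators of a cyclic subgroup
-/

set_option autoImplicit false

open scoped ComplexConjugate

namespace Cfsg.Agent.CharBasicCyclic

open Cfsg.Agent.CharBasic Cfsg.Agent.CharBasicOrth Cfsg.Agent.CharBasicDecomp
  Cfsg.Agent.CharBasicLinear

universe u

variable {G : Type u} [Group G] [Fintype G]

open scoped Classical in
/-- The elements generating a given subgroup. -/
noncomputable def gens (A : Subgroup G) : Finset G :=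
  Finset.univ.filter fun a => Subgroup.zpowers a = A

theorem mem_gens {A : Subgroup G} {a : G} : a ∈ gens A ↔ Subgroup.zpowers a = A := by
  classical
  simp [gens]

omit [Fintype G] in
theorem coe_ne_one_sum (A : Subgroup G) [Fintype A] (f : A →* ℂ) :
    ∃ z : ℤ, ∑ a : A, f a = z := by
  classical
  by_cases hf : f = 1
  · exact ⟨(Fintype.card A : ℤ), by simp [hf]⟩
  · exact ⟨0, by rw [sum_hom_units_eq_zero f hf, Int.cast_zero]⟩

/-- Ramanujan sums: a homomorphism summed over the generators of a subgroup gives an integer. -/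
theorem exists_int_sum_gens (A : Subgroup G) :
    ∀ f : A →* ℂ, ∀ F : G → ℂ, (∀ a : A, F a = f a) → ∃ z : ℤ, ∑ a ∈ gens A, F a = z := by
  classical
  induction A using WellFoundedLT.induction with
  | _ A ih =>
    intro f F hF
    obtain ⟨z, hz⟩ := coe_ne_one_sum A f
    have hB : ∀ B : Subgroup G, B < A → ∃ w : ℤ, ∑ a ∈ gens B, F a = w := fun B hB =>
      ih B hB (f.comp (Subgroup.inclusion hB.le)) F fun b => hF (Subgroup.inclusion hB.le b)
    choose w hw using hB
    let w' : Subgroup G → ℤ := fun B => if h : B < A then w B h else 0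
    have h1 : ∑ a : A, f a =
        ∑ B ∈ Finset.univ.filter (fun B : Subgroup G => B ≤ A), ∑ a ∈ gens B, F a := by
      have h2 : ∑ a : A, f a = ∑ a ∈ Finset.univ.filter (fun a : G => a ∈ A), F a := by
        rw [Finset.sum_subtype (p := fun a : G => a ∈ A)
          (Finset.univ.filter fun a : G => a ∈ A) (fun a => by simp) F]
        exact Finset.sum_congr rfl fun a _ => (hF a).symm
      rw [h2, ← Finset.sum_fiberwise_of_maps_to
        (t := Finset.univ.filter (fun B : Subgroup G => B ≤ A)) (g := Subgroup.zpowers)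
        (fun a ha => by
          rw [Finset.mem_filter] at ha ⊢
          exact ⟨Finset.mem_univ _, Subgroup.zpowers_le.2 ha.2⟩)]
      refine Finset.sum_congr rfl fun B hB' => Finset.sum_congr ?_ fun _ _ => rfl
      ext a
      rw [Finset.mem_filter, Finset.mem_filter, mem_gens]
      exact ⟨fun h => h.2, fun h => ⟨⟨Finset.mem_univ _,
        (Finset.mem_filter.1 hB').2 (h ▸ Subgroup.mem_zpowers a)⟩, h⟩⟩
    rw [hz, ← Finset.sum_erase_add _ _ (show A ∈ Finset.univ.filter (fun B : Subgroup G => B ≤ A) by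
      simp)] at h1
    have h3 : ∑ B ∈ (Finset.univ.filter (fun B : Subgroup G => B ≤ A)).erase A,
        ∑ a ∈ gens B, F a = ((∑ B ∈ (Finset.univ.filter (fun B : Subgroup G => B ≤ A)).erase A,
          w' B : ℤ) : ℂ) := by
      rw [Int.cast_sum]
      refine Finset.sum_congr rfl fun B hB => ?_
      rw [Finset.mem_erase, Finset.mem_filter] at hB
      have hlt : B < A := lt_of_le_of_ne hB.2.2 hB.1
      simp [w', dif_pos hlt, hw B hlt]
    refine ⟨z - ∑ B ∈ (Finset.univ.filter (fun B : Subgroup G => B ≤ A)).erase A, w' B, ?_⟩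
    rw [Int.cast_sub, h1, h3, add_sub_cancel_left]

/-- A generalized character of a subgroup summed over its generators gives an integer. -/
theorem exists_int_sum_gens_char (A : Subgroup G) (hA : IsCyclic A) (θ : A → ℂ)
    (hθ : Cfsg.IsGeneralizedCharacter A θ) (F : G → ℂ) (hF : ∀ a : A, F a = θ a) :
    ∃ z : ℤ, ∑ a ∈ gens A, F a = z := by
  classical
  obtain ⟨m, -, hm⟩ := exists_int_coeff hθ
  have hcomm : ∀ a b : A, a * b = b * a := fun a b => hA.isMulCommutative.is_comm.comm a b
  have h1 : ∀ ψ : Cfsg.IrrCharacter A, ∃ F' : G → ℂ, (∀ a : A, F' a = (ψ : A → ℂ) a) ∧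
      ∃ z : ℤ, ∑ a ∈ gens A, F' a = z := by
    intro ψ
    obtain ⟨lam, hlam⟩ := exists_hom_of_comm hcomm ψ.2
    refine ⟨fun g => if h : g ∈ A then (ψ : A → ℂ) ⟨g, h⟩ else 0, fun a => dif_pos a.2,
      exists_int_sum_gens A ((Units.coeHom ℂ).comp lam) _ fun a => ?_⟩
    rw [dif_pos a.2, hlam]
    rfl
  choose F' hF' z hz using h1
  refine ⟨∑ ψ, m ψ * z ψ, ?_⟩
  rw [Int.cast_sum]
  calc ∑ a ∈ gens A, F a = ∑ a ∈ gens A, ∑ ψ : Cfsg.IrrCharacter A, (m ψ : ℂ) * F' ψ a := by
        refine Finset.sum_congr rfl fun a ha => ?_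
        have haA : a ∈ A := by
          rw [← mem_gens.1 ha]; exact Subgroup.mem_zpowers a
        rw [hF ⟨a, haA⟩, hm, Finset.sum_apply]
        exact Finset.sum_congr rfl fun ψ _ => by
          rw [Pi.smul_apply, smul_eq_mul, hF' ψ ⟨a, haA⟩]
    _ = ∑ ψ : Cfsg.IrrCharacter A, ((m ψ * z ψ : ℤ) : ℂ) := by
        rw [Finset.sum_comm]
        exact Finset.sum_congr rfl fun ψ _ => by rw [← Finset.mul_sum, hz, Int.cast_mul]

/-- A generalized character of the group summed over the generators of a cyclic subgroup. -/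
theorem exists_int_sum_gens_zpowers (g : G) {θ : G → ℂ}
    (hθ : Cfsg.IsGeneralizedCharacter G θ) :
    ∃ z : ℤ, ∑ a ∈ gens (Subgroup.zpowers g), θ a = z :=
  exists_int_sum_gens_char _ (Subgroup.isCyclic_zpowers g) _
    (isGeneralizedCharacter_comap (Subgroup.zpowers g).subtype hθ) θ fun _ => rfl

theorem gens_eq_image (g : G) :
    ∀ a, a ∈ gens (Subgroup.zpowers g) ↔ ∃ m : ℕ, m.Coprime (orderOf g) ∧ g ^ m = a := by
  intro a
  rw [mem_gens]
  constructor
  · intro h
    have ha : a ∈ Subgroup.zpowers g := h ▸ Subgroup.mem_zpowers a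
    obtain ⟨m, rfl⟩ := (mem_powers_iff_mem_zpowers.2 ha)
    refine ⟨m, ?_, rfl⟩
    have hord : orderOf (g ^ m) = orderOf g := by
      rw [← Nat.card_zpowers, ← Nat.card_zpowers]
      exact congrArg (fun B : Subgroup G => Nat.card B) h
    rw [orderOf_pow] at hord
    rcases Nat.div_eq_self.1 hord with h0 | h0
    · exact absurd h0 (isOfFinOrder_of_finite g).orderOf_pos.ne'
    · exact Nat.Coprime.symm h0
  · rintro ⟨m, hm, rfl⟩
    refine Subgroup.eq_of_le_of_card_ge
      (Subgroup.zpowers_le.2 (pow_mem (Subgroup.mem_zpowers g) m)) ?_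
    rw [Nat.card_zpowers, Nat.card_zpowers, Nat.Coprime.orderOf_pow hm.symm]

end Cfsg.Agent.CharBasicCyclic
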