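/-
Rectangular arrays of integer vectors of norm three with the inner products of the induced
characters of a cyclic trivial-intersection set: rows and columns share signed basis vectors.
-/
import Mathlib

set_option autoImplicit false

open Finset

namespace Cfsg.Agent.CyclicTIGrid

universe u

section Lines

variable {I : Type u} [DecidableEq I] {n : ℕ}

/-- A family of three-point sets, two of which meet in exactly one point. -/
structure Lines (T : Fin n → Finset I) : Prop where
  card : ∀ j, (T j).card = 3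
  meet : ∀ j k, j ≠ k → (T j ∩ T k).card = 1

variable {T : Fin n → Finset I}

theorem Lines.unique (h : Lines T) {j k : Fin n} (hjk : j ≠ k) {x y : I} (hxj : x ∈ T j)
    (hxk : x ∈ T k) (hyj : y ∈ T j) (hyk : y ∈ T k) : x = y :=
  Finset.card_le_one.1 (h.meet j k hjk).le x (mem_inter.2 ⟨hxj, hxk⟩) y (mem_inter.2 ⟨hyj, hyk⟩)

theorem Lines.exists_meet (h : Lines T) {j k : Fin n} (hjk : j ≠ k) : ∃ x, x ∈ T j ∧ x ∈ T k := by
  obtain ⟨x, hx⟩ := Finset.card_eq_one.1 (h.meet j k hjk)
  exact ⟨x, mem_inter.1 (hx ▸ mem_singleton_self x)⟩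

/-- No three of the four lines are concurrent. -/
def General (T : Fin n → Finset I) (e : Fin 4 → Fin n) : Prop :=
  Function.Injective e ∧ ∀ a b c : Fin 4, a ≠ b → b ≠ c → a ≠ c → ∀ y,
    y ∈ T (e a) → y ∈ T (e b) → y ∉ T (e c)

/-- Three concurrent lines and a transversal, on seven points. -/
def lineC : Fin 4 → Finset (Fin 7) := ![{1, 2, 3}, {0, 1, 4}, {0, 2, 5}, {0, 3, 6}]

/-- The configuration of three concurrent lines and a transversal. -/
def ConfC (T : Fin n → Finset I) (e : Fin 4 → Fin n) (pts : Fin 7 → I) : Prop :=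
  Function.Injective e ∧ Function.Injective pts ∧ ∀ k, T (e k) = (lineC k).image pts

theorem general_of_triples {e : Fin 4 → Fin n} (he : Function.Injective e)
    (h₀ : ∀ y, y ∈ T (e 0) → y ∈ T (e 1) → y ∉ T (e 2))
    (h₁ : ∀ y, y ∈ T (e 0) → y ∈ T (e 1) → y ∉ T (e 3))
    (h₂ : ∀ y, y ∈ T (e 0) → y ∈ T (e 2) → y ∉ T (e 3))
    (h₃ : ∀ y, y ∈ T (e 1) → y ∈ T (e 2) → y ∉ T (e 3)) : General T e := by
  refine ⟨he, fun a b c hab hbc hac y ha hb hc => ?_⟩
  have h0 := h₀ y
  have h1 := h₁ y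
  have h2 := h₂ y
  have h3 := h₃ y
  fin_cases a <;> fin_cases b <;> first | exact absurd rfl hab | skip
  all_goals fin_cases c
  all_goals first | exact absurd rfl hbc | exact absurd rfl hac | skip
  all_goals simp only [Fin.isValue, Fin.reduceFinMk] at ha hb hc
  all_goals simp_all

theorem injective_four {α : Type*} {a b c d : α} (hab : a ≠ b) (hac : a ≠ c) (had : a ≠ d)
    (hbc : b ≠ c) (hbd : b ≠ d) (hcd : c ≠ d) : Function.Injective ![a, b, c, d] := by
  intro i j h
  fin_cases i <;> fin_cases j <;> first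
    | rfl
    | exact absurd h hab | exact absurd h.symm hab
    | exact absurd h hac | exact absurd h.symm hac
    | exact absurd h had | exact absurd h.symm had
    | exact absurd h hbc | exact absurd h.symm hbc
    | exact absurd h hbd | exact absurd h.symm hbd
    | exact absurd h hcd | exact absurd h.symm hcd

theorem confC_of (h : Lines T) {p q r s : Fin n} (hpq : p ≠ q) (hpr : p ≠ r) (hqr : q ≠ r)
    (hps : p ≠ s) (hqs : q ≠ s) (hrs : r ≠ s) {x : I} (hxp : x ∈ T p) (hxq : x ∈ T q)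
    (hxs : x ∈ T s) (hxr : x ∉ T r) : ∃ e pts, ConfC T e pts := by
  obtain ⟨a, har, hap⟩ := h.exists_meet hpr.symm
  obtain ⟨b, hbr, hbq⟩ := h.exists_meet hqr.symm
  obtain ⟨c, hcr, hcs⟩ := h.exists_meet hrs
  have hax : a ≠ x := fun e => hxr (e ▸ har)
  have hbx : b ≠ x := fun e => hxr (e ▸ hbr)
  have hcx : c ≠ x := fun e => hxr (e ▸ hcr)
  have hnaq : a ∉ T q := fun ha => hax (h.unique hpq hap ha hxp hxq)
  have hnas : a ∉ T s := fun ha => hax (h.unique hps hap ha hxp hxs)
  have hnbp : b ∉ T p := fun hb => hbx (h.unique hpq hb hbq hxp hxq)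
  have hnbs : b ∉ T s := fun hb => hbx (h.unique hqs hbq hb hxq hxs)
  have hncp : c ∉ T p := fun hc => hcx (h.unique hps hc hcs hxp hxs)
  have hncq : c ∉ T q := fun hc => hcx (h.unique hqs hc hcs hxq hxs)
  have third : ∀ {j : Fin n} {y z : I}, y ∈ T j → z ∈ T j → y ≠ z →
      ∃ w, w ≠ y ∧ w ≠ z ∧ T j = {y, z, w} := by
    intro j y z hy hz hyz
    have h1 : (((T j).erase y).erase z).card = 1 := by
      rw [card_erase_of_mem (mem_erase.2 ⟨hyz.symm, hz⟩), card_erase_of_mem hy, h.card j]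
    obtain ⟨w, hw⟩ := card_eq_one.1 h1
    have hwm := mem_erase.1 (hw ▸ mem_singleton_self w : w ∈ ((T j).erase y).erase z)
    refine ⟨w, (mem_erase.1 hwm.2).1, hwm.1, ?_⟩
    ext v
    constructor
    · intro hv
      simp only [mem_insert, mem_singleton]
      by_contra hc
      push Not at hc
      have : v ∈ ((T j).erase y).erase z := mem_erase.2 ⟨hc.2.1, mem_erase.2 ⟨hc.1, hv⟩⟩
      rw [hw, mem_singleton] at this
      exact hc.2.2 this
    · simp only [mem_insert, mem_singleton]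
      rintro (rfl | rfl | rfl)
      · exact hy
      · exact hz
      · exact (mem_erase.1 hwm.2).2
  obtain ⟨e₁, h1x, h1a, hTp⟩ := third hxp hap hax.symm
  obtain ⟨e₂, h2x, h2b, hTq⟩ := third hxq hbq hbx.symm
  obtain ⟨e₃, h3x, h3c, hTs⟩ := third hxs hcs hcx.symm
  have hab : a ≠ b := fun e => hnaq (e ▸ hbq)
  obtain ⟨w, hwa, hwb, hTr⟩ := third har hbr hab
  have hwc : w = c := by
    have : c ∈ T r := hcr
    rw [hTr] at this
    simp only [mem_insert, mem_singleton] at this
    rcases this with e | e | e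
    · exact absurd (e ▸ hcs) hnas
    · exact absurd (e ▸ hcs) hnbs
    · exact e.symm
  rw [hwc] at hTr
  have h1p : e₁ ∈ T p := by rw [hTp]; simp
  have h2q : e₂ ∈ T q := by rw [hTq]; simp
  have h3s : e₃ ∈ T s := by rw [hTs]; simp
  have h1q : e₁ ∉ T q := fun he => h1x (h.unique hpq h1p he hxp hxq)
  have h1s : e₁ ∉ T s := fun he => h1x (h.unique hps h1p he hxp hxs)
  have h1r : e₁ ∉ T r := fun he => h1a (h.unique hpr h1p he hap har)
  have h2p : e₂ ∉ T p := fun he => h2x (h.unique hpq he h2q hxp hxq)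
  have h2s : e₂ ∉ T s := fun he => h2x (h.unique hqs h2q he hxq hxs)
  have h2r : e₂ ∉ T r := fun he => h2b (h.unique hqr h2q he hbq hbr)
  have h3p : e₃ ∉ T p := fun he => h3x (h.unique hps he h3s hxp hxs)
  have h3q : e₃ ∉ T q := fun he => h3x (h.unique hqs he h3s hxq hxs)
  have h3r : e₃ ∉ T r := fun he => h3c (h.unique hrs he h3s hcr hcs)
  let sig : I → Bool × Bool × Bool × Bool := fun y =>
    (decide (y ∈ T r), decide (y ∈ T p), decide (y ∈ T q), decide (y ∈ T s))
  refine ⟨![r, p, q, s], ![x, a, b, c, e₁, e₂, e₃],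
    injective_four hpr.symm hqr.symm hrs hpq hps hqs, ?_, ?_⟩
  · have hs : ∀ i, sig (![x, a, b, c, e₁, e₂, e₃] i) =
        (![(false, true, true, true), (true, true, false, false), (true, false, true, false),
          (true, false, false, true), (false, true, false, false), (false, false, true, false),
          (false, false, false, true)] : Fin 7 → Bool × Bool × Bool × Bool) i := by
      intro i
      fin_cases i <;> simp [sig, hxr, hxp, hxq, hxs, har, hap, hnaq, hnas, hbr, hnbp, hbq, hnbs,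
        hcr, hncp, hncq, hcs, h1r, h1p, h1q, h1s, h2r, h2p, h2q, h2s, h3r, h3p, h3q, h3s]
    intro i j hij
    have := congrArg sig hij
    rw [hs, hs] at this
    revert this
    clear hij
    revert i j
    decide
  · intro k
    fin_cases k <;> simp [lineC, hTr, hTp, hTq, hTs]

/-- At least four lines have a common point, or are in one of two positions. -/
theorem classify (h : Lines T) (hn : 4 ≤ n) :
    (∃ a, ∀ j, a ∈ T j) ∨ (∃ e, General T e) ∨ ∃ e pts, ConfC T e pts := by
  classical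
  let i0 : Fin n := ⟨0, by omega⟩
  let i1 : Fin n := ⟨1, by omega⟩
  have hpq : i0 ≠ i1 := fun e => absurd (Fin.mk.inj e) (by omega)
  obtain ⟨x, hxp, hxq⟩ := h.exists_meet hpq
  by_cases hall : ∀ j, x ∈ T j
  · exact Or.inl ⟨x, hall⟩
  right
  push Not at hall
  obtain ⟨r, hxr⟩ := hall
  generalize hp : i0 = p at hpq hxp
  generalize hq : i1 = q at hpq hxq
  clear hp hq
  have hpr : p ≠ r := fun e => hxr (e ▸ hxp)
  have hqr : q ≠ r := fun e => hxr (e ▸ hxq)
  obtain ⟨a, hap, har⟩ := h.exists_meet hpr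
  obtain ⟨b, hbq, hbr⟩ := h.exists_meet hqr
  have hxa : x ≠ a := fun e => hxr (e ▸ har)
  have hxb : x ≠ b := fun e => hxr (e ▸ hbr)
  have haq : a ∉ T q := fun ha => hxa (h.unique hpq hxp hxq hap ha)
  have hbp : b ∉ T p := fun hb => hxb (h.unique hpq hxp hxq hb hbq)
  by_contra hcon
  push Not at hcon
  obtain ⟨hG, hC⟩ := hcon
  have hvert : ∀ s, s ≠ p → s ≠ q → s ≠ r → x ∈ T s ∨ a ∈ T s ∨ b ∈ T s := by
    intro s hsp hsq hsr
    by_contra hno
    push Not at hno
    refine hG ![p, q, r, s] (general_of_triples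
      (injective_four hpq hpr hsp.symm hqr hsq.symm hsr.symm) ?_ ?_ ?_ ?_)
    all_goals intro y h1 h2 h3
    all_goals simp only [Matrix.cons_val_zero, Matrix.cons_val_one, Matrix.cons_val] at h1 h2 h3
    · exact hxr ((h.unique hpq h1 h2 hxp hxq) ▸ h3)
    · exact hno.1 ((h.unique hpq h1 h2 hxp hxq) ▸ h3)
    · exact hno.2.1 ((h.unique hpr h1 h2 hap har) ▸ h3)
    · exact hno.2.2 ((h.unique hqr h1 h2 hbq hbr) ▸ h3)
  obtain ⟨s, hs⟩ : ∃ s, s ∉ ({p, q, r} : Finset (Fin n)) := by
    refine Finset.exists_mem_notMem_of_card_lt_card (t := Finset.univ) ?_ |>.imp fun s hs => hs.2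
    rw [card_univ, Fintype.card_fin]
    exact lt_of_le_of_lt card_le_three (by omega)
  simp only [mem_insert, mem_singleton, not_or] at hs
  obtain ⟨hsp, hsq, hsr⟩ := hs
  rcases hvert s hsp hsq hsr with hx | ha | hb
  · obtain ⟨e, pts, he⟩ := confC_of h hpq hpr hqr (Ne.symm hsp) (Ne.symm hsq) (Ne.symm hsr) hxp hxq hx hxr
    exact hC e pts he
  · obtain ⟨e, pts, he⟩ := confC_of h hpr hpq hqr.symm (Ne.symm hsp) (Ne.symm hsr) (Ne.symm hsq) hap har ha haq
    exact hC e pts he
  · obtain ⟨e, pts, he⟩ := confC_of h hqr hpq.symm hpr.symm (Ne.symm hsq) (Ne.symm hsr) (Ne.symm hsp) hbq hbr hb hbp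
    exact hC e pts he

end Lines

end Cfsg.Agent.CyclicTIGrid
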