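/-
Sign patterns on seven points against three concurrent lines and a transversal.
-/
import Mathlib

set_option autoImplicit false

namespace Cfsg.Agent.CyclicTIPattern

/-- The entry `i` of the pattern coded by `N`. -/
def dig (N : ℕ) (i : Fin 7) : ℤ := ((N / 3 ^ (i : ℕ) % 3 : ℕ) : ℤ) - 1

/-- The points of the four lines. -/
def pts3 : Fin 4 → List (Fin 7) := ![[1, 2, 3], [0, 1, 4], [0, 2, 5], [0, 3, 6]]

/-- The weight of a pattern. -/
def wt (N : ℕ) : ℕ := ((List.finRange 7).filter fun i => dig N i != 0).length

/-- The pattern of a vector meeting line `k` in one point and orthogonal to the others. -/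
def good (k : Fin 4) (N : ℕ) : Bool :=
  (wt N ≤ 3) && ((List.finRange 4).all fun j =>
    decide (((pts3 j).map (dig N)).sum = if j = k then 1 else 0)) &&
    (((pts3 k).filter fun i => dig N i != 0).length == 1)

/-- Two patterns of vectors with one common entry. -/
def compat (M N : ℕ) : Bool :=
  let c := ((List.finRange 7).map fun i => dig M i * dig N i).filter fun z => z != 0
  (c == [1]) || ((c == []) && (wt M < 3) && (wt N < 3))

/-- The candidates for each line. -/
def cand : Fin 4 → List ℕ :=
  ![[391, 859, 1015], [1174, 1330, 1798, 122], [1180, 1336, 1804, 284], [1198, 1354, 1822, 770]]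

theorem good_mem : ∀ k : Fin 4, ∀ N ∈ List.range 2187, good k N = true → N ∈ cand k := by
  decide +kernel

theorem no_compat : ∀ a ∈ cand 0, ∀ b ∈ cand 1, ∀ c ∈ cand 2, ∀ e ∈ cand 3,
    (compat a b && compat a c && compat a e && compat b c && compat b e && compat c e) = false := by
  decide +kernel

/-- The code of a pattern. -/
def code (p : Fin 7 → ℤ) : ℕ := ∑ i : Fin 7, (p i + 1).toNat * 3 ^ (i : ℕ)

theorem code_lt (p : Fin 7 → ℤ) (hp : ∀ i, p i = 0 ∨ p i = 1 ∨ p i = -1) : code p < 2187 := by
  have h : ∀ i, (p i + 1).toNat ≤ 2 := fun i => by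
    rcases hp i with e | e | e <;> rw [e] <;> decide
  have := h 0; have := h 1; have := h 2; have := h 3; have := h 4; have := h 5; have := h 6
  simp only [code, Fin.sum_univ_seven, Fin.val_zero, Fin.val_one, Fin.val_two]
  norm_num
  omega

theorem dig_code (p : Fin 7 → ℤ) (hp : ∀ i, p i = 0 ∨ p i = 1 ∨ p i = -1) (i : Fin 7) :
    dig (code p) i = p i := by
  have h : ∀ i, (p i + 1).toNat ≤ 2 ∧ ((p i + 1).toNat : ℤ) = p i + 1 := fun i => by
    rcases hp i with e | e | e <;> rw [e] <;> decide
  have := h 0; have := h 1; have := h 2; have := h 3; have := h 4; have := h 5; have := h 6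
  simp only [dig, code, Fin.sum_univ_seven, Fin.val_zero, Fin.val_one, Fin.val_two]
  fin_cases i <;> simp only [Fin.reduceFinMk, Fin.isValue] <;> norm_num <;> omega

end Cfsg.Agent.CyclicTIPattern
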