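/-
Arrays of integer vectors with the inner products of the induced characters of a cyclic
trivial-intersection set are sums of shared signed basis vectors.
-/
import Mathlib
import Cfsg.Agent.Lib.CyclicTIGrid
import Cfsg.Agent.Lib.CyclicTIPattern

set_option autoImplicit false

open Finset

namespace Cfsg.Agent.CyclicTIArray

open CyclicTIGrid CyclicTIPattern

universe u v w

variable {I : Type u} [Fintype I] [DecidableEq I]

/-- Scalar product. -/
def dot (f g : I → ℤ) : ℤ := ∑ y, f y * g y

/-- The support. -/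
def supp (f : I → ℤ) : Finset I := univ.filter fun y => f y ≠ 0

theorem mem_supp {f : I → ℤ} {y : I} : y ∈ supp f ↔ f y ≠ 0 := by simp [supp]

theorem vals {f : I → ℤ} (h : dot f f = 3) (y : I) : f y = 0 ∨ f y = 1 ∨ f y = -1 := by
  have h1 := Finset.single_le_sum (f := fun z => f z * f z) (fun z _ => mul_self_nonneg (f z))
    (mem_univ y)
  rw [← dot, h] at h1
  have ha : -1 ≤ f y := by nlinarith
  have hb : f y ≤ 1 := by nlinarith
  omega

theorem card_supp {f : I → ℤ} (h : dot f f = 3) : (supp f).card = 3 := by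
  have h1 : ∑ y, f y * f y = ∑ y, if f y ≠ 0 then (1 : ℤ) else 0 :=
    Finset.sum_congr rfl fun y _ => by rcases vals h y with e | e | e <;> simp [e]
  rw [← dot, h, Finset.sum_boole] at h1
  exact_mod_cast h1.symm

theorem dot_eq_inter (f g : I → ℤ) : dot f g = ∑ y ∈ supp f ∩ supp g, f y * g y := by
  refine (Finset.sum_subset (subset_univ _) fun y _ hy => ?_).symm
  simp only [mem_inter, mem_supp, not_and_or, not_not] at hy
  rcases hy with e | e <;> simp [e]

theorem cast_dot_two {f g : I → ℤ} (hf : dot f f = 3) (hg : dot g g = 3) :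
    ((dot f g : ℤ) : ZMod 2) = ((supp f ∩ supp g).card : ZMod 2) := by
  rw [dot_eq_inter, Int.cast_sum, Finset.sum_congr rfl (g := fun _ => (1 : ZMod 2)) fun y hy => ?_]
  · simp
  · obtain ⟨h1, h2⟩ := mem_inter.1 hy
    rcases vals hf y with e | e | e <;> rcases vals hg y with e' | e' | e' <;>
      first
      | exact absurd e (mem_supp.1 h1)
      | exact absurd e' (mem_supp.1 h2)
      | (rw [e, e']; decide)

theorem inter_card_le {f g : I → ℤ} (hf : dot f f = 3) : (supp f ∩ supp g).card ≤ 3 :=
  (card_le_card inter_subset_left).trans (card_supp hf).le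

/-- Vectors with scalar product one and the same value on `d` share one signed entry. -/
theorem share_one {f g d : I → ℤ} (hd : ∀ y, 0 < d y) (hf : dot f f = 3) (hg : dot g g = 3)
    (hfg : dot f g = 1) (hdeg : dot f d = dot g d) :
    ∃ y, supp f ∩ supp g = {y} ∧ f y = g y := by
  have h2 := cast_dot_two hf hg
  rw [hfg, Int.cast_one] at h2
  have h3 := inter_card_le (g := g) hf
  have hne : (supp f ∩ supp g).card ≠ 3 := by
    intro hc
    have hsub : supp f ∩ supp g = supp f := eq_of_subset_of_card_le inter_subset_left (by rw [card_supp hf, hc])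
    have hsub' : supp f ∩ supp g = supp g := eq_of_subset_of_card_le inter_subset_right (by rw [card_supp hg, hc])
    have hSS : supp g = supp f := hsub'.symm.trans hsub
    -- the two vectors differ at exactly one place
    let D := (supp f).filter fun y => f y ≠ g y
    have hval : ∀ y ∈ supp f, f y * g y = 1 - 2 * (if f y ≠ g y then (1 : ℤ) else 0) := by
      intro y hy
      have hy' : y ∈ supp g := hSS ▸ hy
      rcases vals hf y with e | e | e <;> rcases vals hg y with e' | e' | e' <;>
        first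
        | exact absurd e (mem_supp.1 hy)
        | exact absurd e' (mem_supp.1 hy')
        | simp [e, e']
    have h4 := dot_eq_inter f g
    rw [hfg, hsub, Finset.sum_congr rfl hval, Finset.sum_sub_distrib, ← Finset.mul_sum,
      Finset.sum_boole, Finset.sum_const, card_supp hf] at h4
    have hD : D.card = 1 := by
      have : (2 : ℤ) * (D.card : ℤ) = 2 := by norm_num at h4 ⊢; linarith
      omega
    obtain ⟨y, hy⟩ := card_eq_one.1 hD
    have hy1 := mem_filter.1 (hy ▸ mem_singleton_self y : y ∈ D)
    have h5 : dot f d - dot g d = (f y - g y) * d y := by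
      rw [dot, dot, ← Finset.sum_sub_distrib, Finset.sum_eq_single y]
      · ring
      · intro z _ hz
        have : f z = g z := by
          by_contra hne
          by_cases hzs : z ∈ supp f
          · have : z ∈ D := mem_filter.2 ⟨hzs, hne⟩
            rw [hy, mem_singleton] at this
            exact hz this
          · have hzg : z ∉ supp g := hSS ▸ hzs
            rw [mem_supp, not_not] at hzs hzg
            exact hne (hzs.trans hzg.symm)
        rw [this, sub_self]
      · simp
    rw [hdeg, sub_self, eq_comm, mul_eq_zero, sub_eq_zero] at h5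
    exact h5.elim hy1.2 (hd y).ne'
  have h1 : (supp f ∩ supp g).card = 1 := by
    rcases (show (supp f ∩ supp g).card = 0 ∨ (supp f ∩ supp g).card = 1 ∨
      (supp f ∩ supp g).card = 2 by omega) with e | e | e
    · rw [e] at h2; exact absurd h2 (by decide)
    · exact e
    · rw [e] at h2; exact absurd h2 (by decide)
  obtain ⟨y, hy⟩ := card_eq_one.1 h1
  refine ⟨y, hy, ?_⟩
  have h4 := dot_eq_inter f g
  rw [hfg, hy, sum_singleton] at h4
  rcases vals hf y with e | e | e <;> rcases vals hg y with e' | e' | e' <;>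
    first | (rw [e, e']; done) | (rw [e, e'] at h4; norm_num at h4)

/-- Orthogonal vectors meet in two entries or none. -/
theorem share_zero {f g : I → ℤ} (hf : dot f f = 3) (hg : dot g g = 3) (hfg : dot f g = 0) :
    supp f ∩ supp g = ∅ ∨ (supp f ∩ supp g).card = 2 := by
  have h2 := cast_dot_two hf hg
  rw [hfg, Int.cast_zero] at h2
  have h3 := inter_card_le (g := g) hf
  rcases (show (supp f ∩ supp g).card = 0 ∨ (supp f ∩ supp g).card = 1 ∨
    (supp f ∩ supp g).card = 2 ∨ (supp f ∩ supp g).card = 3 by omega) with e | e | e | e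
  · exact Or.inl (card_eq_zero.1 e)
  · rw [e] at h2; exact absurd h2 (by decide)
  · exact Or.inr e
  · rw [e] at h2; exact absurd h2 (by decide)

theorem exists_third {T : Finset I} (hT : T.card = 3) {y z : I} (hy : y ∈ T) (hz : z ∈ T) (hyz : y ≠ z) :
    ∃ x, x ≠ y ∧ x ≠ z ∧ T = {y, z, x} := by
  have h1 : ((T.erase y).erase z).card = 1 := by
    rw [card_erase_of_mem (mem_erase.2 ⟨hyz.symm, hz⟩), card_erase_of_mem hy, hT]
  obtain ⟨x, hx⟩ := card_eq_one.1 h1
  have hxm := mem_erase.1 (hx ▸ mem_singleton_self x : x ∈ (T.erase y).erase z)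
  refine ⟨x, (mem_erase.1 hxm.2).1, hxm.1, (eq_of_subset_of_card_le ?_ ?_).symm⟩
  · simp only [insert_subset_iff, singleton_subset_iff]
    exact ⟨hy, hz, (mem_erase.1 hxm.2).2⟩
  · rw [hT, card_insert_of_notMem, card_insert_of_notMem, card_singleton]
    · simp [hxm.1.symm]
    · simp [hyz, (mem_erase.1 hxm.2).1.symm]

/-- The hypotheses on the array. -/
structure Data {m n : ℕ} (f : Fin m → Fin n → I → ℤ) (d : I → ℤ) : Prop where
  pos : ∀ y, 0 < d y
  norm : ∀ i j, dot (f i j) (f i j) = 3
  row : ∀ i j k, j ≠ k → dot (f i j) (f i k) = 1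
  col : ∀ i l j, i ≠ l → dot (f i j) (f l j) = 1
  apart : ∀ i l j k, i ≠ l → j ≠ k → dot (f i j) (f l k) = 0
  deg : ∀ i j l k, dot (f i j) d = dot (f l k) d

variable {m n : ℕ} {f : Fin m → Fin n → I → ℤ} {d : I → ℤ}

theorem Data.share_row (h : Data f d) (i : Fin m) {j k : Fin n} (hjk : j ≠ k) :
    ∃ y, supp (f i j) ∩ supp (f i k) = {y} ∧ f i j y = f i k y :=
  share_one h.pos (h.norm i j) (h.norm i k) (h.row i j k hjk) (h.deg i j i k)

theorem Data.share_col (h : Data f d) {i l : Fin m} (hil : i ≠ l) (j : Fin n) :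
    ∃ y, supp (f i j) ∩ supp (f l j) = {y} ∧ f i j y = f l j y :=
  share_one h.pos (h.norm i j) (h.norm l j) (h.col i l j hil) (h.deg i j l j)

theorem Data.lines (h : Data f d) (i : Fin m) : Lines fun j => supp (f i j) :=
  ⟨fun j => card_supp (h.norm i j), fun j k hjk => by
    obtain ⟨y, hy, -⟩ := h.share_row i hjk
    rw [hy, card_singleton]⟩

theorem Data.eq_on_row (h : Data f d) (i : Fin m) {j k : Fin n} {y : I} (hj : y ∈ supp (f i j))
    (hk : y ∈ supp (f i k)) : f i j y = f i k y := by
  by_cases hjk : j = k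
  · rw [hjk]
  obtain ⟨z, hz, he⟩ := h.share_row i hjk
  have hy := mem_inter.2 ⟨hj, hk⟩
  rw [hz, mem_singleton] at hy
  rw [hy, he]

theorem Data.eq_on_col (h : Data f d) {i l : Fin m} {j : Fin n} {y : I} (hi : y ∈ supp (f i j))
    (hl : y ∈ supp (f l j)) : f i j y = f l j y := by
  by_cases hil : i = l
  · rw [hil]
  obtain ⟨z, hz, he⟩ := h.share_col hil j
  have hy := mem_inter.2 ⟨hi, hl⟩
  rw [hz, mem_singleton] at hy
  rw [hy, he]

theorem not_general (h : Data f d) (hm : 2 ≤ m) (i : Fin m) (e : Fin 4 → Fin n)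
    (hg : General (fun j => supp (f i j)) e) : False := by
  obtain ⟨l, hl⟩ : ∃ l : Fin m, l ≠ i := by
    have : Nontrivial (Fin m) := Fin.nontrivial_iff_two_le.2 hm
    exact exists_ne i
  -- every point of the configuration lies on two of the four lines
  have heven : ∀ y, ∃ z : ℤ, ∑ k, f i (e k) y = 2 * z := by
    intro y
    let C := univ.filter fun k : Fin 4 => y ∈ supp (f i (e k))
    have hle : C.card ≤ 2 := by
      by_contra hc
      push Not at hc
      obtain ⟨a, b, c, ha, hb, hc', hab, hac, hbc⟩ := two_lt_card_iff.1 hc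
      exact hg.2 a b c hab hbc hac y (mem_filter.1 ha).2 (mem_filter.1 hb).2 (mem_filter.1 hc').2
    have hne : C.card ≠ 1 := by
      intro hc
      obtain ⟨k, hk⟩ := card_eq_one.1 hc
      have hky : y ∈ supp (f i (e k)) := (mem_filter.1 (hk ▸ mem_singleton_self k : k ∈ C)).2
      have hmeet : ∀ k' : {k' : Fin 4 // k' ≠ k}, ∃ z, z ∈ supp (f i (e k)) ∧ z ∈ supp (f i (e k')) :=
        fun k' => (h.lines i).exists_meet fun he => k'.2 (hg.1 he).symm
      choose z hz hz' using hmeet
      have hzi : Function.Injective z := by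
        intro a b hab
        by_contra hne
        exact hg.2 k a b (Ne.symm a.2) (fun e' => hne (Subtype.ext e')) (Ne.symm b.2) (z a) (hz a) (hz' a)
          (hab ▸ hz' b)
      have himg : univ.image z = supp (f i (e k)) := by
        refine eq_of_subset_of_card_le (image_subset_iff.2 fun a _ => hz a) ?_
        rw [card_supp (h.norm _ _), card_image_of_injective _ hzi, card_univ, Fintype.card_subtype,
          filter_ne', card_erase_of_mem (mem_univ k), card_univ, Fintype.card_fin]
      obtain ⟨a, -, ha⟩ := mem_image.1 (himg ▸ hky)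
      have : (a : Fin 4) ∈ C := mem_filter.2 ⟨mem_univ _, ha ▸ hz' a⟩
      rw [hk, mem_singleton] at this
      exact a.2 this
    have hsum : ∑ k, f i (e k) y = ∑ k ∈ C, f i (e k) y :=
      (sum_subset (subset_univ C) fun k _ hk => by simpa [C, mem_supp] using hk).symm
    rcases (show C.card = 0 ∨ C.card = 2 by omega) with hc | hc
    · exact ⟨0, by rw [hsum, card_eq_zero.1 hc, sum_empty, mul_zero]⟩
    · obtain ⟨a, b, hab, hCab⟩ := card_eq_two.1 hc
      have ha : a ∈ C := by rw [hCab]; simp
      have hb : b ∈ C := by rw [hCab]; simp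
      refine ⟨f i (e a) y, ?_⟩
      rw [hsum, hCab, sum_pair hab, h.eq_on_row i (mem_filter.1 hb).2 (mem_filter.1 ha).2, two_mul]
  choose z hz using heven
  have h1 : ∑ k, dot (f l (e 0)) (f i (e k)) = 1 := by
    rw [Fin.sum_univ_four, h.col l i _ hl,
      h.apart l i _ _ hl (fun he => absurd (hg.1 he) (by decide)),
      h.apart l i _ _ hl (fun he => absurd (hg.1 he) (by decide)),
      h.apart l i _ _ hl (fun he => absurd (hg.1 he) (by decide))]
    norm_num
  have h2 : ∑ k, dot (f l (e 0)) (f i (e k)) = 2 * dot (f l (e 0)) z := by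
    simp only [dot]
    rw [Finset.sum_comm, Finset.mul_sum]
    exact sum_congr rfl fun y _ => by rw [← Finset.mul_sum, hz]; ring
  omega

theorem not_confC (h : Data f d) (hm : 2 ≤ m) (i : Fin m) (e : Fin 4 → Fin n) (pts : Fin 7 → I)
    (hc : ConfC (fun j => supp (f i j)) e pts) : False := by
  obtain ⟨l, hl⟩ : ∃ l : Fin m, l ≠ i := by
    have : Nontrivial (Fin m) := Fin.nontrivial_iff_two_le.2 hm
    exact exists_ne i
  obtain ⟨he, hpts, hT⟩ := hc
  -- the sign of each point
  have hline : ∀ t : Fin 7, ∃ k, t ∈ lineC k := by decide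
  choose kt hkt using hline
  let σ : Fin 7 → ℤ := fun t => f i (e (kt t)) (pts t)
  have hσ : ∀ k t, t ∈ lineC k → f i (e k) (pts t) = σ t := by
    intro k t ht
    exact h.eq_on_row i (by rw [show supp (f i (e k)) = _ from hT k]; exact mem_image_of_mem pts ht)
      (by rw [show supp (f i (e (kt t))) = _ from hT (kt t)]; exact mem_image_of_mem pts (hkt t))
  have hσ1 : ∀ t, σ t = 1 ∨ σ t = -1 := fun t => by
    have : pts t ∈ supp (f i (e (kt t))) := by
      rw [show supp (f i (e (kt t))) = _ from hT (kt t)]; exact mem_image_of_mem pts (hkt t)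
    exact (vals (h.norm i (e (kt t))) (pts t)).resolve_left (mem_supp.1 this)
  let p : Fin 4 → Fin 7 → ℤ := fun k t => f l (e k) (pts t) * σ t
  have hp : ∀ k t, p k t = 0 ∨ p k t = 1 ∨ p k t = -1 := fun k t => by
    rcases vals (h.norm l (e k)) (pts t) with a | a | a <;> rcases hσ1 t with b | b <;> simp [p, a, b]
  have hpne : ∀ k t, p k t ≠ 0 ↔ pts t ∈ supp (f l (e k)) := fun k t => by
    rcases hσ1 t with b | b <;> simp [p, b, mem_supp]
  have hwt : ∀ k, wt (code (p k)) = (univ.filter fun t => pts t ∈ supp (f l (e k))).card := by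
    intro k
    simp only [wt, dig_code _ (hp k)]
    rw [← List.toFinset_card_of_nodup ((List.nodup_finRange 7).filter _)]
    congr 1
    ext t
    simp [hpne]
  have hwt3 : ∀ k, wt (code (p k)) ≤ 3 := fun k => by
    rw [hwt, ← card_supp (h.norm l (e k)), ← card_image_of_injective _ hpts]
    exact card_le_card (image_subset_iff.2 fun t ht => (mem_filter.1 ht).2)
  have hnd : ∀ j, (pts3 j).Nodup := by decide
  have hl3 : ∀ j, (pts3 j).toFinset = lineC j := by decide
  have hgood : ∀ k, good k (code (p k)) = true := by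
    intro k
    simp only [good, Bool.and_eq_true, decide_eq_true_eq, List.all_eq_true, beq_iff_eq]
    refine ⟨⟨hwt3 k, fun j _ => ?_⟩, ?_⟩
    · rw [show dig (code (p k)) = p k from funext (dig_code _ (hp k)),
        ← List.sum_toFinset _ (hnd j), hl3]
      have h1 : dot (f l (e k)) (f i (e j)) = ∑ t ∈ lineC j, p k t := by
        rw [dot, ← sum_subset (subset_univ (supp (f i (e j)))) (fun y _ hy => by
          rw [mem_supp, not_not] at hy; rw [hy, mul_zero]), show supp (f i (e j)) = _ from hT j,
          sum_image fun a _ b _ hab => hpts hab]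
        exact sum_congr rfl fun t ht => by rw [hσ j t ht]
      rw [← h1]
      split_ifs with hjk
      · rw [hjk, h.col l i _ hl]
      · exact h.apart l i _ _ hl fun he' => hjk (he he').symm
    · rw [show dig (code (p k)) = p k from funext (dig_code _ (hp k)),
        ← List.toFinset_card_of_nodup ((hnd k).filter _), List.toFinset_filter, hl3]
      obtain ⟨y, hy, -⟩ := h.share_col hl (e k)
      rw [← card_image_of_injective _ hpts, ← card_singleton y, ← hy]
      congr 1
      ext z
      simp only [mem_image, mem_filter, mem_inter, bne_iff_ne]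
      rw [show supp (f i (e k)) = _ from hT k]
      simp only [mem_image]
      constructor
      · rintro ⟨t, ⟨ht, ht'⟩, rfl⟩
        exact ⟨(hpne k t).1 ht', t, ht, rfl⟩
      · rintro ⟨hz, t, ht, rfl⟩
        exact ⟨t, ⟨ht, (hpne k t).2 hz⟩, rfl⟩
  have hmem : ∀ k, code (p k) ∈ cand k := fun k =>
    good_mem k _ (List.mem_range.2 (code_lt _ (hp k))) (hgood k)
  have hcompat : ∀ a b, a ≠ b → compat (code (p a)) (code (p b)) = true := by
    intro a b hab
    obtain ⟨y, hy, hyv⟩ := h.share_row l (fun he' => hab (he he'))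
    have hy' := mem_inter.1 (hy ▸ mem_singleton_self y : y ∈ supp (f l (e a)) ∩ supp (f l (e b)))
    have hprod : ∀ t, p a t * p b t = if pts t = y then 1 else 0 := by
      intro t
      split_ifs with ht
      · have hh : f l (e a) y * f l (e b) y = 1 := by
          rw [← hyv]
          rcases (vals (h.norm l (e a)) y).resolve_left (mem_supp.1 hy'.1) with e' | e' <;> simp [e']
        have hs : σ t * σ t = 1 := by rcases hσ1 t with b' | b' <;> simp [b']
        calc p a t * p b t = f l (e a) y * f l (e b) y * (σ t * σ t) := by simp only [p, ht]; ring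
          _ = 1 := by rw [hh, hs, mul_one]
      · have hz : pts t ∉ supp (f l (e a)) ∩ supp (f l (e b)) := by
          rw [hy, mem_singleton]; exact ht
        simp only [mem_inter, mem_supp, not_and_or, not_not] at hz
        rcases hz with z | z <;> simp [p, z]
    simp only [compat, dig_code _ (hp a), dig_code _ (hp b), hprod]
    by_cases hex : ∃ t, pts t = y
    · obtain ⟨t₀, ht₀⟩ := hex
      have : ∀ t, pts t = y ↔ t = t₀ := fun t => ⟨fun e' => hpts (e'.trans ht₀.symm), fun e' => e' ▸ ht₀⟩
      simp only [this]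
      have hone : ∀ u : Fin 7, ((List.finRange 7).map fun t => if t = u then (1 : ℤ) else 0).filter
          (fun z => z != 0) = [1] := by decide
      simp only [hone t₀]
      rfl
    · push Not at hex
      simp only [if_neg (hex _)]
      have hw : ∀ c, c = a ∨ c = b → wt (code (p c)) < 3 := by
        intro c hc
        have hyc : y ∈ supp (f l (e c)) := by rcases hc with rfl | rfl <;> [exact hy'.1; exact hy'.2]
        rw [hwt, ← card_supp (h.norm l (e c)), ← card_image_of_injective _ hpts]
        refine card_lt_card ⟨image_subset_iff.2 fun t ht => (mem_filter.1 ht).2, fun hsub => ?_⟩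
        obtain ⟨t, -, ht⟩ := mem_image.1 (hsub hyc)
        exact hex t ht
      simp [hw a (Or.inl rfl), hw b (Or.inr rfl)]
  have hn := no_compat _ (hmem 0) _ (hmem 1) _ (hmem 2) _ (hmem 3)
  rw [hcompat 0 1 (by decide), hcompat 0 2 (by decide), hcompat 0 3 (by decide), hcompat 1 2 (by decide),
    hcompat 1 3 (by decide), hcompat 2 3 (by decide)] at hn
  exact absurd hn (by decide)

/-- Four or more columns and a number of rows other than three: rows and columns share entries. -/
theorem structure_fin (h : Data f d) (hm : 2 ≤ m) (hm3 : m ≠ 3) (hn : 4 ≤ n) :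
    ∃ (a : Fin m → I) (b : Fin n → I) (x : Fin m → Fin n → I),
      Function.Injective (Sum.elim a (Sum.elim b fun q : Fin m × Fin n => x q.1 q.2)) ∧
        ∀ i j, supp (f i j) = {a i, b j, x i j} := by
  have hrow : ∀ i, ∃ y, ∀ j, y ∈ supp (f i j) := by
    intro i
    rcases classify (h.lines i) hn with hA | ⟨e, he⟩ | ⟨e, pts, he⟩
    · exact hA
    · exact (not_general h hm i e he).elim
    · exact (not_confC h hm i e pts he).elim
  choose a ha using hrow
  have hne : ∀ i : Fin m, ∃ l, l ≠ i := fun i => by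
    have : Nontrivial (Fin m) := Fin.nontrivial_iff_two_le.2 hm
    exact exists_ne i
  have hnen : ∀ j : Fin n, ∃ k, k ≠ j := fun j => by
    have : Nontrivial (Fin n) := Fin.nontrivial_iff_two_le.2 (by omega)
    exact exists_ne j
  -- the common entry of a row is in no other row
  have havoid : ∀ i l k, i ≠ l → a i ∉ supp (f l k) := by
    intro i l k hil hmem
    have hz : ∀ j : {j : Fin n // j ≠ k}, ∃ z, z ∈ supp (f l k) ∧ z ∈ supp (f i j) ∧ z ≠ a i := by
      intro j
      rcases share_zero (h.norm l k) (h.norm i j) (h.apart l i k j hil.symm (Ne.symm j.2)) with e | e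
      · exact absurd (mem_inter.2 ⟨hmem, ha i j⟩) (by rw [e]; simp)
      · obtain ⟨z, hz, hza⟩ := exists_mem_ne (s := supp (f l k) ∩ supp (f i j)) (by omega) (a i)
        exact ⟨z, (mem_inter.1 hz).1, (mem_inter.1 hz).2, hza⟩
    choose z hz1 hz2 hz3 using hz
    have hinj : Function.Injective z := by
      intro j j' hjj
      by_contra hne
      exact hz3 j ((h.lines i).unique (fun e => hne (Subtype.ext e)) (hz2 j) (hjj ▸ hz2 j') (ha i j) (ha i j'))
    have hle : (univ.image z).card ≤ ((supp (f l k)).erase (a i)).card :=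
      card_le_card (image_subset_iff.2 fun j _ => mem_erase.2 ⟨hz3 j, hz1 j⟩)
    rw [card_image_of_injective _ hinj, card_univ, Fintype.card_subtype, filter_ne',
      card_erase_of_mem (mem_univ k), card_univ, Fintype.card_fin, card_erase_of_mem hmem,
      card_supp (h.norm l k)] at hle
    omega
  -- the meeting points in a column
  have hW : ∀ i l k, i ≠ l → ∀ y, y ∈ supp (f i k) → y ∈ supp (f l k) → y ≠ a i ∧ y ≠ a l :=
    fun i l k hil y hyi hyl => ⟨fun e => havoid i l k hil (e ▸ hyl), fun e => havoid l i k hil.symm (e ▸ hyi)⟩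
  have hdisj : ∀ i l j k, i ≠ l → j ≠ k → ∀ y, y ∈ supp (f i j) → y ∉ supp (f l k) := by
    intro i l j k hil hjk y hyi hyl
    obtain ⟨w, hw, -⟩ := h.share_col hil k
    have hw' := mem_inter.1 (hw ▸ mem_singleton_self w : w ∈ supp (f i k) ∩ supp (f l k))
    have hwa := hW i l k hil w hw'.1 hw'.2
    have hwj : w ∉ supp (f i j) := fun hw2 =>
      hwa.1 ((h.lines i).unique (Ne.symm hjk) hw'.1 hw2 (ha i k) (ha i j))
    rcases share_zero (h.norm i j) (h.norm l k) (h.apart i l j k hil hjk) with e | e
    · exact absurd (mem_inter.2 ⟨hyi, hyl⟩) (by rw [e]; simp)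
    · have hsub : supp (f i j) ∩ supp (f l k) ⊆ ((supp (f l k)).erase (a l)).erase w := by
        intro z hz
        obtain ⟨hzi, hzl⟩ := mem_inter.1 hz
        exact mem_erase.2 ⟨fun e' => hwj (e' ▸ hzi), mem_erase.2 ⟨fun e' => havoid l i j hil.symm (e' ▸ hzi), hzl⟩⟩
      have := card_le_card hsub
      rw [e, card_erase_of_mem (mem_erase.2 ⟨hwa.2, hw'.2⟩), card_erase_of_mem (ha l k),
        card_supp (h.norm l k)] at this
      omega
  have hcol : ∀ k, ∃ y, (∀ i, y ∈ supp (f i k)) ∧ ∀ i, y ≠ a i := by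
    intro k
    suffices ∃ y, ∀ i, y ∈ supp (f i k) by
      obtain ⟨y, hy⟩ := this
      refine ⟨y, hy, fun i => ?_⟩
      obtain ⟨l, hl⟩ := hne i
      exact (hW i l k hl.symm y (hy i) (hy l)).1
    let i0 : Fin m := ⟨0, by omega⟩
    let i1 : Fin m := ⟨1, by omega⟩
    have h01 : i0 ≠ i1 := fun e => absurd (Fin.mk.inj e) (by omega)
    obtain ⟨u, hu, -⟩ := h.share_col h01 k
    have hu' := mem_inter.1 (hu ▸ mem_singleton_self u : u ∈ supp (f i0 k) ∩ supp (f i1 k))
    refine ⟨u, fun c => ?_⟩
    by_contra hc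
    have hc0 : c ≠ i0 := fun e => hc (e ▸ hu'.1)
    have hc1 : c ≠ i1 := fun e => hc (e ▸ hu'.2)
    obtain ⟨l, hl⟩ : ∃ l, l ∉ ({i0, i1, c} : Finset (Fin m)) := by
      by_contra hall
      push Not at hall
      have := card_le_card (fun z (_ : z ∈ (univ : Finset (Fin m))) => hall z)
      rw [card_univ, Fintype.card_fin] at this
      have h3 := (card_le_three : ({i0, i1, c} : Finset (Fin m)).card ≤ 3)
      have : 3 ≤ m := by
        rw [← Fintype.card_fin m]
        calc 3 = ({i0, i1, c} : Finset (Fin m)).card := by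
              rw [card_insert_of_notMem (by simp [h01, hc0.symm]), card_insert_of_notMem (by simp [hc1.symm]),
                card_singleton]
          _ ≤ _ := card_le_univ _
      omega
    simp only [mem_insert, mem_singleton, not_or] at hl
    obtain ⟨hl0, hl1, hlc⟩ := hl
    -- the two-element sets left after removing the row entries
    let U : Fin m → Finset I := fun i => (supp (f i k)).erase (a i)
    have hU : ∀ i, (U i).card = 2 := fun i => by
      rw [card_erase_of_mem (ha i k), card_supp (h.norm i k)]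
    have hUmeet : ∀ i j, i ≠ j → ∃ w, U i ∩ U j = {w} := by
      intro i j hij
      obtain ⟨w, hw, -⟩ := h.share_col hij k
      have hw' := mem_inter.1 (hw ▸ mem_singleton_self w : w ∈ supp (f i k) ∩ supp (f j k))
      have hwa := hW i j k hij w hw'.1 hw'.2
      refine ⟨w, ext fun z => ⟨fun hz => ?_, fun hz => ?_⟩⟩
      · rw [← hw]; exact mem_inter.2 ⟨(mem_erase.1 (mem_inter.1 hz).1).2, (mem_erase.1 (mem_inter.1 hz).2).2⟩
      · rw [mem_singleton.1 hz]
        exact mem_inter.2 ⟨mem_erase.2 ⟨hwa.1, hw'.1⟩, mem_erase.2 ⟨hwa.2, hw'.2⟩⟩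
    have huw := hW i0 i1 k h01 u hu'.1 hu'.2
    have huU0 : u ∈ U i0 := mem_erase.2 ⟨huw.1, hu'.1⟩
    have huU1 : u ∈ U i1 := mem_erase.2 ⟨huw.2, hu'.2⟩
    have huUc : u ∉ U c := fun hh => hc (mem_erase.1 hh).2
    obtain ⟨o0, ho0⟩ := hUmeet i0 c hc0.symm
    obtain ⟨o1, ho1⟩ := hUmeet i1 c hc1.symm
    have ho0' := mem_inter.1 (ho0 ▸ mem_singleton_self o0 : o0 ∈ U i0 ∩ U c)
    have ho1' := mem_inter.1 (ho1 ▸ mem_singleton_self o1 : o1 ∈ U i1 ∩ U c)
    have hpair : ∀ i {y z : I}, y ∈ U i → z ∈ U i → y ≠ z → U i = {y, z} := by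
      intro i y z hy hz hyz
      refine (eq_of_subset_of_card_le ?_ ?_).symm
      · simp only [insert_subset_iff, singleton_subset_iff]; exact ⟨hy, hz⟩
      · rw [hU, card_pair hyz]
    have hu0 : u ≠ o0 := fun e => huUc (e ▸ ho0'.2)
    have hu1 : u ≠ o1 := fun e => huUc (e ▸ ho1'.2)
    have hU0 := hpair i0 huU0 ho0'.1 hu0
    have hU1 := hpair i1 huU1 ho1'.1 hu1
    have h01' : o0 ≠ o1 := by
      intro e
      obtain ⟨w, hw⟩ := hUmeet i0 i1 h01
      have : (U i0 ∩ U i1).card = 1 := by rw [hw, card_singleton]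
      rw [hU0, hU1, ← e, inter_self, card_pair hu0] at this
      omega
    have hUc := hpair c ho0'.2 ho1'.2 h01'
    have hno : ∀ i, i ≠ l → ∀ y z : I, y ≠ z → U i = {y, z} → y ∈ U l → z ∈ U l → False := by
      intro i hi y z hyz hUi hy hz
      obtain ⟨w, hw⟩ := hUmeet i l hi
      have hy2 : y ∈ U i ∩ U l := mem_inter.2 ⟨by rw [hUi]; simp, hy⟩
      have hz2 : z ∈ U i ∩ U l := mem_inter.2 ⟨by rw [hUi]; simp, hz⟩
      rw [hw, mem_singleton] at hy2 hz2
      exact hyz (hy2.trans hz2.symm)
    by_cases hul : u ∈ U l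
    · obtain ⟨w, hw⟩ := hUmeet c l (Ne.symm hlc)
      have hw' := mem_inter.1 (hw ▸ mem_singleton_self w : w ∈ U c ∩ U l)
      have hwm := hw'.1
      rw [hUc, mem_insert, mem_singleton] at hwm
      rcases hwm with e | e
      · exact hno i0 (Ne.symm hl0) u o0 hu0 hU0 hul (e ▸ hw'.2)
      · exact hno i1 (Ne.symm hl1) u o1 hu1 hU1 hul (e ▸ hw'.2)
    · have hin : ∀ i o, i ≠ l → U i = {u, o} → o ∈ U l := by
        intro i o hi hUi
        obtain ⟨w, hw⟩ := hUmeet i l hi
        have hw' := mem_inter.1 (hw ▸ mem_singleton_self w : w ∈ U i ∩ U l)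
        have hwm := hw'.1
        rw [hUi, mem_insert, mem_singleton] at hwm
        rcases hwm with e | e
        · exact absurd (e ▸ hw'.2) hul
        · exact e ▸ hw'.2
      exact hno c (Ne.symm hlc) o0 o1 h01' hUc (hin i0 o0 (Ne.symm hl0) hU0) (hin i1 o1 (Ne.symm hl1) hU1)
  choose b hb hba using hcol
  choose x hxa hxb hx using fun i j => exists_third (card_supp (h.norm i j)) (ha i j) (hb j i) (hba j i).symm
  refine ⟨a, b, x, ?_, hx⟩
  have hxm : ∀ i j, x i j ∈ supp (f i j) := fun i j => by rw [hx i j]; simp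
  have haa : ∀ i l, a i = a l → i = l := by
    intro i l e
    by_contra hil
    exact havoid i l ⟨0, by omega⟩ hil (e ▸ ha l _)
  have hax : ∀ i l j, a i ≠ x l j := by
    intro i l j e
    by_cases hil : i = l
    · subst hil; exact hxa i j e.symm
    · exact havoid i l j hil (e ▸ hxm l j)
  have hbb : ∀ j k, b j = b k → j = k := by
    intro j k e
    by_contra hjk
    exact hba j ⟨0, by omega⟩ ((h.lines _).unique hjk (hb j _) (e ▸ hb k _) (ha _ j) (ha _ k))
  have hbx : ∀ j l k, b j ≠ x l k := by
    intro j l k e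
    by_cases hjk : j = k
    · subst hjk; exact hxb l j e.symm
    · exact hba j l ((h.lines l).unique hjk (hb j l) (e ▸ hxm l k) (ha l j) (ha l k))
  have hxx : ∀ i j l k, x i j = x l k → i = l ∧ j = k := by
    intro i j l k e
    have hm' : x i j ∈ supp (f l k) := e ▸ hxm l k
    by_cases hil : i = l
    · subst hil
      refine ⟨rfl, by_contra fun hjk => ?_⟩
      exact hxa i j ((h.lines i).unique hjk (hxm i j) hm' (ha i j) (ha i k))
    · exfalso
      by_cases hjk : j = k
      · subst hjk
        obtain ⟨w, hw, -⟩ := h.share_col hil j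
        have h1 : x i j ∈ supp (f i j) ∩ supp (f l j) := mem_inter.2 ⟨hxm i j, hm'⟩
        have h2 : b j ∈ supp (f i j) ∩ supp (f l j) := mem_inter.2 ⟨hb j i, hb j l⟩
        rw [hw, mem_singleton] at h1 h2
        exact hxb i j (h1.trans h2.symm)
      · exact hdisj i l j k hil hjk _ (hxm i j) hm'
  rintro (i | j | ⟨i, j⟩) (l | k | ⟨l, k⟩) e <;> simp only [Sum.elim_inl, Sum.elim_inr] at e
  · rw [haa i l e]
  · exact absurd e.symm (hba k i)
  · exact absurd e (hax i l k)
  · exact absurd e (hba j l)
  · rw [hbb j k e]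
  · exact absurd e (hbx j l k)
  · exact absurd e.symm (hax l i j)
  · exact absurd e.symm (hbx k i j)
  · obtain ⟨rfl, rfl⟩ := hxx i j l k e; rfl

/-- The array theorem for index types with even numbers of elements. -/
theorem structure_even {A : Type v} {B : Type w} [Fintype A] [Fintype B] (g : A → B → I → ℤ) (d : I → ℤ)
    (hpos : ∀ y, 0 < d y) (hA : Even (Fintype.card A)) (hB : Even (Fintype.card B))
    (hA0 : 2 ≤ Fintype.card A) (hB0 : 2 ≤ Fintype.card B) (h4 : 4 ≤ Fintype.card A ∨ 4 ≤ Fintype.card B)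
    (hnorm : ∀ i j, dot (g i j) (g i j) = 3) (hrow : ∀ i j k, j ≠ k → dot (g i j) (g i k) = 1)
    (hcol : ∀ i l j, i ≠ l → dot (g i j) (g l j) = 1)
    (hapart : ∀ i l j k, i ≠ l → j ≠ k → dot (g i j) (g l k) = 0)
    (hdeg : ∀ i j l k, dot (g i j) d = dot (g l k) d) :
    ∃ (a : A → I) (b : B → I) (x : A → B → I) (sa : A → ℤ) (sb : B → ℤ),
      Function.Injective (Sum.elim a (Sum.elim b fun q : A × B => x q.1 q.2)) ∧
      ∀ i j, supp (g i j) = {a i, b j, x i j} ∧ g i j (a i) = sa i ∧ g i j (b j) = sb j := by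
  classical
  let eA := Fintype.equivFin A
  let eB := Fintype.equivFin B
  have key : ∀ (a : A → I) (b : B → I) (x : A → B → I),
      Function.Injective (Sum.elim a (Sum.elim b fun q : A × B => x q.1 q.2)) →
      (∀ i j, supp (g i j) = {a i, b j, x i j}) →
      ∃ (a : A → I) (b : B → I) (x : A → B → I) (sa : A → ℤ) (sb : B → ℤ),
        Function.Injective (Sum.elim a (Sum.elim b fun q : A × B => x q.1 q.2)) ∧
        ∀ i j, supp (g i j) = {a i, b j, x i j} ∧ g i j (a i) = sa i ∧ g i j (b j) = sb j := by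
    intro a b x hinj hs
    obtain ⟨i₀⟩ : Nonempty A := Fintype.card_pos_iff.1 (by omega)
    obtain ⟨j₀⟩ : Nonempty B := Fintype.card_pos_iff.1 (by omega)
    refine ⟨a, b, x, fun i => g i j₀ (a i), fun j => g i₀ j (b j), hinj, fun i j => ⟨hs i j, ?_, ?_⟩⟩
    · by_cases hj : j = j₀
      · rw [hj]
      obtain ⟨z, hz, he⟩ := share_one hpos (hnorm i j) (hnorm i j₀) (hrow i j j₀ hj) (hdeg i j i j₀)
      have hy : a i ∈ supp (g i j) ∩ supp (g i j₀) := by simp [hs]
      rw [hz, mem_singleton] at hy
      show g i j (a i) = g i j₀ (a i)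
      rw [hy, he]
    · by_cases hi : i = i₀
      · rw [hi]
      obtain ⟨z, hz, he⟩ := share_one hpos (hnorm i j) (hnorm i₀ j) (hcol i i₀ j hi) (hdeg i j i₀ j)
      have hy : b j ∈ supp (g i j) ∩ supp (g i₀ j) := by simp [hs]
      rw [hz, mem_singleton] at hy
      show g i j (b j) = g i₀ j (b j)
      rw [hy, he]
  rcases Nat.lt_or_ge (Fintype.card B) 4 with hlt | hge
  · let f : Fin (Fintype.card B) → Fin (Fintype.card A) → I → ℤ := fun j i => g (eA.symm i) (eB.symm j)
    have hD : Data f d := ⟨hpos, fun _ _ => hnorm _ _,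
      fun _ _ _ h => hcol _ _ _ (fun e => h (eA.symm.injective e)),
      fun _ _ _ h => hrow _ _ _ (fun e => h (eB.symm.injective e)),
      fun _ _ _ _ h h' => hapart _ _ _ _ (fun e => h' (eA.symm.injective e)) (fun e => h (eB.symm.injective e)),
      fun _ _ _ _ => hdeg _ _ _ _⟩
    obtain ⟨a, b, x, hinj, hs⟩ := structure_fin hD hB0 (fun e => by rw [e] at hB; exact absurd hB (by decide))
      (h4.resolve_right (by omega))
    refine key (b ∘ eA) (a ∘ eB) (fun i j => x (eB j) (eA i)) ?_ ?_
    · rintro (i | j | ⟨i, j⟩) (l | k | ⟨l, k⟩) e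
      · have h2 := @hinj (Sum.inr (Sum.inl (eA i))) (Sum.inr (Sum.inl (eA l))) e
        simp only [Sum.inr.injEq, Sum.inl.injEq] at h2
        rw [eA.injective h2]
      · have h2 := @hinj (Sum.inr (Sum.inl (eA i))) (Sum.inl (eB k)) e
        simp at h2
      · have h2 := @hinj (Sum.inr (Sum.inl (eA i))) (Sum.inr (Sum.inr (eB k, eA l))) e
        simp at h2
      · have h2 := @hinj (Sum.inl (eB j)) (Sum.inr (Sum.inl (eA l))) e
        simp at h2
      · have h2 := @hinj (Sum.inl (eB j)) (Sum.inl (eB k)) e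
        simp only [Sum.inl.injEq] at h2
        rw [eB.injective h2]
      · have h2 := @hinj (Sum.inl (eB j)) (Sum.inr (Sum.inr (eB k, eA l))) e
        simp at h2
      · have h2 := @hinj (Sum.inr (Sum.inr (eB j, eA i))) (Sum.inr (Sum.inl (eA l))) e
        simp at h2
      · have h2 := @hinj (Sum.inr (Sum.inr (eB j, eA i))) (Sum.inl (eB k)) e
        simp at h2
      · have h2 := @hinj (Sum.inr (Sum.inr (eB j, eA i))) (Sum.inr (Sum.inr (eB k, eA l))) e
        simp only [Sum.inr.injEq, Prod.mk.injEq] at h2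
        rw [eA.injective h2.2, eB.injective h2.1]
    · intro i j
      have := hs (eB j) (eA i)
      simp only [f, Equiv.symm_apply_apply] at this
      rw [this]
      exact Finset.insert_comm _ _ _
  · let f : Fin (Fintype.card A) → Fin (Fintype.card B) → I → ℤ := fun i j => g (eA.symm i) (eB.symm j)
    have hD : Data f d := ⟨hpos, fun _ _ => hnorm _ _,
      fun _ _ _ h => hrow _ _ _ (fun e => h (eB.symm.injective e)),
      fun _ _ _ h => hcol _ _ _ (fun e => h (eA.symm.injective e)),
      fun _ _ _ _ h h' => hapart _ _ _ _ (fun e => h (eA.symm.injective e)) (fun e => h' (eB.symm.injective e)),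
      fun _ _ _ _ => hdeg _ _ _ _⟩
    obtain ⟨a, b, x, hinj, hs⟩ := structure_fin hD hA0 (fun e => by rw [e] at hA; exact absurd hA (by decide)) hge
    refine key (a ∘ eA) (b ∘ eB) (fun i j => x (eA i) (eB j)) ?_ ?_
    · rintro (i | j | ⟨i, j⟩) (l | k | ⟨l, k⟩) e
      · have h2 := @hinj (Sum.inl (eA i)) (Sum.inl (eA l)) e
        simp only [Sum.inl.injEq] at h2
        rw [eA.injective h2]
      · have h2 := @hinj (Sum.inl (eA i)) (Sum.inr (Sum.inl (eB k))) e
        simp at h2
      · have h2 := @hinj (Sum.inl (eA i)) (Sum.inr (Sum.inr (eA l, eB k))) e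
        simp at h2
      · have h2 := @hinj (Sum.inr (Sum.inl (eB j))) (Sum.inl (eA l)) e
        simp at h2
      · have h2 := @hinj (Sum.inr (Sum.inl (eB j))) (Sum.inr (Sum.inl (eB k))) e
        simp only [Sum.inr.injEq, Sum.inl.injEq] at h2
        rw [eB.injective h2]
      · have h2 := @hinj (Sum.inr (Sum.inl (eB j))) (Sum.inr (Sum.inr (eA l, eB k))) e
        simp at h2
      · have h2 := @hinj (Sum.inr (Sum.inr (eA i, eB j))) (Sum.inl (eA l)) e
        simp at h2
      · have h2 := @hinj (Sum.inr (Sum.inr (eA i, eB j))) (Sum.inr (Sum.inl (eB k))) e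
        simp at h2
      · have h2 := @hinj (Sum.inr (Sum.inr (eA i, eB j))) (Sum.inr (Sum.inr (eA l, eB k))) e
        simp only [Sum.inr.injEq, Prod.mk.injEq] at h2
        rw [eA.injective h2.1, eB.injective h2.2]
    · intro i j
      have := hs (eA i) (eB j)
      simp only [f, Equiv.symm_apply_apply] at this
      exact this

end Cfsg.Agent.CyclicTIArray
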