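/-
Existence of the orthonormal family attached to a cyclic trivial-intersection subgroup of odd order.
-/
import Mathlib
import Cfsg.Agent.Lib.CyclicTI
import Cfsg.Agent.Lib.CyclicTIArray
import Cfsg.Agent.S1505

set_option autoImplicit false

open scoped ComplexConjugate

namespace Cfsg.Agent.CyclicTIFamily

open CharBasic CharBasicOrth CharBasicDecomp CyclicTI CyclicTIArray

universe u

variable {G : Type u} [Group G] {W₁ W₂ : Subgroup G}

/-- Linear characters of `W` trivial on `W₂` are the linear characters of `W₁`. -/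
noncomputable def trivEquiv₁ (hd : W₁ ⊓ W₂ = ⊥) (hc : ∀ a ∈ W₁, ∀ b ∈ W₂, a * b = b * a) :
    {φ : ↥(W₁ ⊔ W₂) →* ℂˣ // TrivOn W₂ φ} ≃ (W₁ →* ℂˣ) where
  toFun φ := φ.1.comp (Subgroup.inclusion le_sup_left)
  invFun ν := ⟨ν.comp ((MonoidHom.fst W₁ W₂).comp
      (MulEquiv.ofBijective (prodHom hc) (prodHom_bijective hd hc)).symm.toMonoidHom), fun w hw => by
    have h : (MulEquiv.ofBijective (prodHom hc) (prodHom_bijective hd hc)).symm w = (1, ⟨w, hw⟩) :=
      (MulEquiv.ofBijective (prodHom hc) (prodHom_bijective hd hc)).symm_apply_eq.2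
        (Subtype.ext (one_mul _).symm)
    simp [h]⟩
  left_inv φ := by
    refine Subtype.ext (MonoidHom.ext fun w => ?_)
    have h := part₁_eq hd hc φ.2 (trivOn_one W₁)
    rw [hom_mul_one] at h
    exact DFunLike.congr_fun h w
  right_inv ν := by
    refine MonoidHom.ext fun w => ?_
    have h : (MulEquiv.ofBijective (prodHom hc) (prodHom_bijective hd hc)).symm
        (Subgroup.inclusion le_sup_left w) = (w, 1) :=
      (MulEquiv.ofBijective (prodHom hc) (prodHom_bijective hd hc)).symm_apply_eq.2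
        (Subtype.ext (mul_one _).symm)
    simp [h]

/-- Linear characters of `W` trivial on `W₁` are the linear characters of `W₂`. -/
noncomputable def trivEquiv₂ (hd : W₁ ⊓ W₂ = ⊥) (hc : ∀ a ∈ W₁, ∀ b ∈ W₂, a * b = b * a) :
    {φ : ↥(W₁ ⊔ W₂) →* ℂˣ // TrivOn W₁ φ} ≃ (W₂ →* ℂˣ) where
  toFun φ := φ.1.comp (Subgroup.inclusion le_sup_right)
  invFun ν := ⟨ν.comp ((MonoidHom.snd W₁ W₂).comp
      (MulEquiv.ofBijective (prodHom hc) (prodHom_bijective hd hc)).symm.toMonoidHom), fun w hw => by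
    have h : (MulEquiv.ofBijective (prodHom hc) (prodHom_bijective hd hc)).symm w = (⟨w, hw⟩, 1) :=
      (MulEquiv.ofBijective (prodHom hc) (prodHom_bijective hd hc)).symm_apply_eq.2
        (Subtype.ext (mul_one _).symm)
    simp [h]⟩
  left_inv φ := by
    refine Subtype.ext (MonoidHom.ext fun w => ?_)
    have h := part₂_eq hd hc (trivOn_one W₂) φ.2
    rw [hom_one_mul] at h
    exact DFunLike.congr_fun h w
  right_inv ν := by
    refine MonoidHom.ext fun w => ?_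
    have h : (MulEquiv.ofBijective (prodHom hc) (prodHom_bijective hd hc)).symm
        (Subgroup.inclusion le_sup_right w) = (1, w) :=
      (MulEquiv.ofBijective (prodHom hc) (prodHom_bijective hd hc)).symm_apply_eq.2
        (Subtype.ext (one_mul _).symm)
    simp [h]

theorem card_dual {A : Type u} [Group A] [Finite A] (h : ∀ a b : A, a * b = b * a) :
    Nat.card (A →* ℂˣ) = Nat.card A := by
  rw [CharBasicLinear.card_hom_units]
  have hbot : commutator A = ⊥ := by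
    rw [commutator_def, eq_bot_iff, Subgroup.commutator_le]
    intro a _ b _
    rw [Subgroup.mem_bot, commutatorElement_eq_one_iff_mul_comm, h]
  rw [hbot, Subgroup.index_bot]

theorem card_triv_ne [Finite G] (hW : Cfsg.IsSelfNormalizingCyclic W₁ W₂) :
    Nat.card {φ : ↥(W₁ ⊔ W₂) →* ℂˣ // φ ≠ 1 ∧ TrivOn W₂ φ} + 1 = Nat.card W₁ ∧
      Nat.card {φ : ↥(W₁ ⊔ W₂) →* ℂˣ // φ ≠ 1 ∧ TrivOn W₁ φ} + 1 = Nat.card W₂ := by
  classical
  have := hom_fintype ↥(W₁ ⊔ W₂)
  have := Fintype.ofFinite (↥(W₁ ⊔ W₂) →* ℂˣ)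
  have hab₁ : ∀ a b : W₁, a * b = b * a := fun a b => Subtype.ext
    (congrArg (Subtype.val : ↥(W₁ ⊔ W₂) → G) (CyclicTI.comm hW ⟨a, Subgroup.mem_sup_left a.2⟩ ⟨b, Subgroup.mem_sup_left b.2⟩))
  have hab₂ : ∀ a b : W₂, a * b = b * a := fun a b => Subtype.ext
    (congrArg (Subtype.val : ↥(W₁ ⊔ W₂) → G) (CyclicTI.comm hW ⟨a, Subgroup.mem_sup_right a.2⟩ ⟨b, Subgroup.mem_sup_right b.2⟩))
  have key : ∀ V : Subgroup G, Nat.card {φ : ↥(W₁ ⊔ W₂) →* ℂˣ // φ ≠ 1 ∧ TrivOn V φ} + 1 =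
      Nat.card {φ : ↥(W₁ ⊔ W₂) →* ℂˣ // TrivOn V φ} := by
    intro V
    rw [Nat.card_eq_fintype_card, Nat.card_eq_fintype_card, Fintype.card_subtype, Fintype.card_subtype,
      show (Finset.univ.filter fun φ : ↥(W₁ ⊔ W₂) →* ℂˣ => TrivOn V φ) =
        insert 1 (Finset.univ.filter fun φ : ↥(W₁ ⊔ W₂) →* ℂˣ => φ ≠ 1 ∧ TrivOn V φ) from ?_,
      Finset.card_insert_of_notMem (by simp)]
    ext φ
    simp only [Finset.mem_filter, Finset.mem_univ, true_and, Finset.mem_insert]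
    refine ⟨fun h => or_iff_not_imp_left.2 fun h1 => ⟨h1, h⟩, ?_⟩
    rintro (rfl | h)
    · exact trivOn_one V
    · exact h.2
  exact ⟨(key W₂).trans ((Nat.card_congr (trivEquiv₁ (hdisj hW) (hcomm hW))).trans (card_dual hab₁)),
    (key W₁).trans ((Nat.card_congr (trivEquiv₂ (hdisj hW) (hcomm hW))).trans (card_dual hab₂))⟩

theorem card_facts [Finite G] (hW : Cfsg.IsSelfNormalizingCyclic W₁ W₂)
    (hodd : Odd (Nat.card ↥(W₁ ⊔ W₂))) :
    Odd (Nat.card W₁) ∧ Odd (Nat.card W₂) ∧ 3 ≤ Nat.card W₁ ∧ 3 ≤ Nat.card W₂ ∧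
      Nat.card W₁ ≠ Nat.card W₂ := by
  classical
  obtain ⟨h1, h2, hd, -, hcyc, -⟩ := hW
  have o1 := hodd.of_dvd_nat (Subgroup.card_dvd_of_le (le_sup_left : W₁ ≤ W₁ ⊔ W₂))
  have o2 := hodd.of_dvd_nat (Subgroup.card_dvd_of_le (le_sup_right : W₂ ≤ W₁ ⊔ W₂))
  have g1 : 1 < Nat.card W₁ := (Subgroup.one_lt_card_iff_ne_bot W₁).2 h1
  have g2 : 1 < Nat.card W₂ := (Subgroup.one_lt_card_iff_ne_bot W₂).2 h2
  have t1 : 3 ≤ Nat.card W₁ := by obtain ⟨k, hk⟩ := o1; omega
  have t2 : 3 ≤ Nat.card W₂ := by obtain ⟨k, hk⟩ := o2; omega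
  refine ⟨o1, o2, t1, t2, fun he => ?_⟩
  have := Fintype.ofFinite ↥(W₁ ⊔ W₂)
  have hle := IsCyclic.card_pow_eq_one_le (α := ↥(W₁ ⊔ W₂)) (n := Nat.card W₁) Nat.card_pos
  set T : Finset ↥(W₁ ⊔ W₂) := Finset.univ.filter fun z => z ^ Nat.card W₁ = 1
  have hsub : ∀ V : Subgroup G, Nat.card V = Nat.card W₁ →
      (Finset.univ.filter fun z : ↥(W₁ ⊔ W₂) => (z : G) ∈ V) ⊆ T := by
    intro V hV z hz
    simp only [T, Finset.mem_filter, Finset.mem_univ, true_and] at hz ⊢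
    exact Subtype.ext (orderOf_dvd_iff_pow_eq_one.1 (hV ▸ Subgroup.orderOf_dvd_natCard V hz))
  have hcard : ∀ V : Subgroup G, V ≤ W₁ ⊔ W₂ →
      (Finset.univ.filter fun z : ↥(W₁ ⊔ W₂) => (z : G) ∈ V).card = Nat.card V := by
    intro V hV
    rw [← Nat.card_congr (Subgroup.subgroupOfEquivOfLe hV).toEquiv, Nat.card_eq_fintype_card,
      Fintype.card_subtype]
    simp [Subgroup.mem_subgroupOf]
  have e1 := Finset.eq_of_subset_of_card_le (hsub W₁ rfl) (by rw [hcard W₁ le_sup_left]; exact hle)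
  have e2 := Finset.eq_of_subset_of_card_le (hsub W₂ he.symm) (by rw [hcard W₂ le_sup_right, ← he]; exact hle)
  obtain ⟨x, hx, hx1⟩ := W₁.bot_or_exists_ne_one.resolve_left h1
  have hxT : (⟨x, Subgroup.mem_sup_left hx⟩ : ↥(W₁ ⊔ W₂)) ∈ T := by
    rw [← e1]; simp [hx]
  rw [← e2] at hxT
  exact hx1 (Subgroup.mem_bot.1 (hd ▸ (⟨hx, (Finset.mem_filter.1 hxT).2⟩ : x ∈ W₁ ⊓ W₂)))

/-- A function of the first part times the characters sums to zero outside the first factor. -/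
theorem sum_part₁_mul [Finite G] (hW : Cfsg.IsSelfNormalizingCyclic W₁ W₂)
    [Fintype (↥(W₁ ⊔ W₂) →* ℂˣ)] (F : (↥(W₁ ⊔ W₂) →* ℂˣ) → ℂ) {w : ↥(W₁ ⊔ W₂)} (hw : (w : G) ∉ W₁) :
    ∑ ω, F (part₁ (hdisj hW) (hcomm hW) ω) * (ω w : ℂ) = 0 := by
  set hd := hdisj hW
  set hc := hcomm hW
  obtain ⟨ψ, hψ, hne⟩ := exists_hom_proj₂_ne_one hW (proj₂_mem hd hc w) (proj₂_ne_one hd hc hw)
  have hψw : ψ w = ψ (proj₂ hd hc w) := by
    conv_lhs => rw [← proj_mul hd hc w, map_mul, hψ _ (proj₁_mem hd hc w), one_mul]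
  have hp : ∀ ω, part₁ hd hc (ω * ψ) = part₁ hd hc ω := by
    intro ω
    refine MonoidHom.ext fun v => ?_
    simp only [part₁, MonoidHom.comp_apply, MonoidHom.mul_apply, hψ _ (proj₁_mem hd hc v), mul_one]
  have h : ∑ ω, F (part₁ hd hc ω) * (ω w : ℂ) = (ψ w : ℂ) * ∑ ω, F (part₁ hd hc ω) * (ω w : ℂ) := by
    conv_lhs => rw [← Equiv.sum_comp (Equiv.mulRight ψ)]
    rw [Finset.mul_sum]
    refine Finset.sum_congr rfl fun ω _ => ?_
    rw [Equiv.coe_mulRight, hp, MonoidHom.mul_apply, Units.val_mul]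
    ring
  by_contra hS
  exact hne (hψw ▸ Units.ext (mul_right_cancel₀ hS (h.symm.trans (one_mul _).symm)))

/-- A function of the second part times the characters sums to zero outside the second factor. -/
theorem sum_part₂_mul [Finite G] (hW : Cfsg.IsSelfNormalizingCyclic W₁ W₂)
    [Fintype (↥(W₁ ⊔ W₂) →* ℂˣ)] (F : (↥(W₁ ⊔ W₂) →* ℂˣ) → ℂ) {w : ↥(W₁ ⊔ W₂)} (hw : (w : G) ∉ W₂) :
    ∑ ω, F (part₂ (hdisj hW) (hcomm hW) ω) * (ω w : ℂ) = 0 := by
  set hd := hdisj hW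
  set hc := hcomm hW
  obtain ⟨φ, hφ, hne⟩ := exists_hom_proj₁_ne_one hW (proj₁_mem hd hc w) (proj₁_ne_one hd hc hw)
  have hφw : φ w = φ (proj₁ hd hc w) := by
    conv_lhs => rw [← proj_mul hd hc w, map_mul, hφ _ (proj₂_mem hd hc w), mul_one]
  have hp : ∀ ω, part₂ hd hc (ω * φ) = part₂ hd hc ω := by
    intro ω
    refine MonoidHom.ext fun v => ?_
    simp only [part₂, MonoidHom.comp_apply, MonoidHom.mul_apply, hφ _ (proj₂_mem hd hc v), mul_one]
  have h : ∑ ω, F (part₂ hd hc ω) * (ω w : ℂ) = (φ w : ℂ) * ∑ ω, F (part₂ hd hc ω) * (ω w : ℂ) := by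
    conv_lhs => rw [← Equiv.sum_comp (Equiv.mulRight φ)]
    rw [Finset.mul_sum]
    refine Finset.sum_congr rfl fun ω _ => ?_
    rw [Equiv.coe_mulRight, hp, MonoidHom.mul_apply, Units.val_mul]
    ring
  by_contra hS
  exact hne (hφw ▸ Units.ext (mul_right_cancel₀ hS (h.symm.trans (one_mul _).symm)))

open Classical in
/-- The values of the family outside both factors follow from the induction identity. -/
theorem eq_on_of_induced [Fintype G] (hW : Cfsg.IsSelfNormalizingCyclic W₁ W₂)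
    (χ : (↥(W₁ ⊔ W₂) →* ℂˣ) → (G → ℂ)) (hcf : ∀ ω, Cfsg.IsClassFunction G (χ ω))
    (horth : ∀ ω ω', Cfsg.classInner (χ ω) (χ ω') = if ω = ω' then 1 else 0)
    (hind : ∀ φ ψ : ↥(W₁ ⊔ W₂) →* ℂˣ, φ ≠ 1 → ψ ≠ 1 → TrivOn W₂ φ → TrivOn W₁ ψ →
      Cfsg.indFun (W₁ ⊔ W₂) (alphaFun φ ψ) = χ 1 - χ φ - χ ψ + χ (φ * ψ))
    (ω₀ : ↥(W₁ ⊔ W₂) →* ℂˣ) (w : ↥(W₁ ⊔ W₂)) (hw₁ : (w : G) ∉ W₁) (hw₂ : (w : G) ∉ W₂) :
    χ ω₀ w = (ω₀ w : ℂ) := by
  classical
  have := hom_fintype ↥(W₁ ⊔ W₂)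
  have := Fintype.ofFinite (↥(W₁ ⊔ W₂) →* ℂˣ)
  have : Fintype ↥(W₁ ⊔ W₂) := Fintype.ofFinite _
  set hd := hdisj hW
  set hc := hcomm hW
  let f : ↥(W₁ ⊔ W₂) → ℂ := fun v => χ ω₀ v - (ω₀ v : ℂ)
  let c : (↥(W₁ ⊔ W₂) →* ℂˣ) → ℂ := fun ω => Cfsg.classInner f (fun v => (ω v : ℂ))
  have hsplit : ∀ ω, c ω = c (part₁ hd hc ω) + c (part₂ hd hc ω) - c 1 := by
    intro ω
    set φ := part₁ hd hc ω with hφd
    set ψ := part₂ hd hc ω with hψd
    have hω : φ * ψ = ω := part_mul _ _ ω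
    by_cases hφ1 : φ = 1
    · have hω' : ψ = ω := by rw [← hω, hφ1, hom_one_mul]
      rw [hφ1, hω']; ring
    by_cases hψ1 : ψ = 1
    · have hω' : φ = ω := by rw [← hω, hψ1, hom_mul_one]
      rw [hψ1, hω']; ring
    have hz : Cfsg.classInner f (alphaFun φ ψ) = 0 := by
      have h1 := CharInduced.inner_ind_right (W₁ ⊔ W₂) (alphaFun φ ψ) (hcf ω₀)
      rw [hind φ ψ hφ1 hψ1 (part₁_triv _ _ ω) (part₂_triv _ _ ω)] at h1
      simp only [classInner_add_right, classInner_sub_right, horth] at h1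
      rw [show f = (fun v : ↥(W₁ ⊔ W₂) => χ ω₀ v) - (fun v => (ω₀ v : ℂ)) from rfl, classInner_sub_left,
        ← h1, ← CharInduced.inner_conj_symm (alphaFun φ ψ), inner_alpha_hom]
      simp only [map_add, map_sub, apply_ite (starRingEnd ℂ), map_one, map_zero, eq_comm (a := ω₀)]
      ring
    have e : alphaFun φ ψ = (fun v => ((1 : ↥(W₁ ⊔ W₂) →* ℂˣ) v : ℂ)) - (fun v => (φ v : ℂ)) -
        (fun v => (ψ v : ℂ)) + (fun v => ((φ * ψ) v : ℂ)) := by
      funext v; simp [alphaFun]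
    rw [e, classInner_add_right, classInner_sub_right, classInner_sub_right, hω] at hz
    show c ω = c φ + c ψ - c 1
    simp only [c]
    linear_combination hz
  have h0 : f w = 0 := by
    rw [congrFun (expand_hom (CyclicTI.comm hW) f) w]
    show ∑ ω, c ω * (ω w : ℂ) = 0
    have hsum : ∑ ω, c ω * (ω w : ℂ) = (∑ ω, c (part₁ hd hc ω) * (ω w : ℂ)) +
        (∑ ω, c (part₂ hd hc ω) * (ω w : ℂ)) - ∑ ω : ↥(W₁ ⊔ W₂) →* ℂˣ, c 1 * (ω w : ℂ) := by
      rw [← Finset.sum_add_distrib, ← Finset.sum_sub_distrib]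
      exact Finset.sum_congr rfl fun ω _ => by rw [hsplit ω]; ring
    rw [hsum, sum_part₁_mul hW c hw₁, sum_part₂_mul hW c hw₂, sum_part₁_mul hW (fun _ => c 1) hw₁]
    ring
  exact sub_eq_zero.1 h0

theorem exists_family [Fintype G] (hW : Cfsg.IsSelfNormalizingCyclic W₁ W₂)
    (hodd : Odd (Nat.card ↥(W₁ ⊔ W₂))) :
    ∃ χ : (↥(W₁ ⊔ W₂) →* ℂˣ) → (G → ℂ), Cfsg.IsCyclicTIFamily W₁ W₂ χ := by
  classical
  have := hom_fintype ↥(W₁ ⊔ W₂)
  have := Fintype.ofFinite (↥(W₁ ⊔ W₂) →* ℂˣ)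
  have : Fintype ↥(W₁ ⊔ W₂) := Fintype.ofFinite _
  set hd := hdisj hW
  set hc := hcomm hW
  obtain ⟨o1, o2, t1, t2, hne12⟩ := card_facts hW hodd
  let A := {φ : ↥(W₁ ⊔ W₂) →* ℂˣ // φ ≠ 1 ∧ TrivOn W₂ φ}
  let B := {ψ : ↥(W₁ ⊔ W₂) →* ℂˣ // ψ ≠ 1 ∧ TrivOn W₁ ψ}
  obtain ⟨hA₀, hB₀⟩ := card_triv_ne hW
  have hA : Fintype.card A + 1 = Nat.card W₁ := by rw [← Nat.card_eq_fintype_card]; exact hA₀
  have hB : Fintype.card B + 1 = Nat.card W₂ := by rw [← Nat.card_eq_fintype_card]; exact hB₀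
  let I := {η : IrrCharacter G // η ≠ trivIrr G}
  have hgenlin : ∀ ω : ↥(W₁ ⊔ W₂) →* ℂˣ, Cfsg.IsGeneralizedCharacter ↥(W₁ ⊔ W₂) (fun v => (ω v : ℂ)) :=
    fun ω => isGeneralizedCharacter_of_isCharacter (isCharacter_linear ω)
  have hgen : ∀ (p : A) (q : B), Cfsg.IsGeneralizedCharacter G (Cfsg.indFun (W₁ ⊔ W₂) (alphaFun p.1 q.1)) := by
    intro p q
    refine CharInduced.isGenChar_ind _ ?_
    rw [show alphaFun p.1 q.1 = (fun v => ((1 : ↥(W₁ ⊔ W₂) →* ℂˣ) v : ℂ)) - (fun v => (p.1 v : ℂ)) -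
      (fun v => (q.1 v : ℂ)) + (fun v => ((p.1 * q.1) v : ℂ)) by funext v; simp [alphaFun]]
    exact isGeneralizedCharacter_add (isGeneralizedCharacter_sub (isGeneralizedCharacter_sub
      (hgenlin 1) (hgenlin p.1)) (hgenlin q.1)) (hgenlin _)
  choose cf hcf hsum using fun p q => exists_int_coeff (hgen p q)
  choose dg hdg hdg1 using fun η : IrrCharacter G => isIrrCharacter_apply_one η.2
  have hinner := fun (p p' : A) (q q' : B) =>
    Cfsg.Agent.S1505.inner_values hW p.2.1 p'.2.1 q.2.1 q'.2.1 p.2.2 p'.2.2 q.2.2 q'.2.2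
  have hcf1 : ∀ p q, cf p q (trivIrr G) = 1 := fun p q => by
    have h := hcf p q (trivIrr G)
    rw [show ((trivIrr G : IrrCharacter G) : G → ℂ) = fun _ => 1 from rfl, (hinner p p q q).1] at h
    exact_mod_cast h.symm
  let g : A → B → I → ℤ := fun p q η => cf p q η.1
  let d : I → ℤ := fun η => (dg η.1 : ℤ)
  have hsplit : ∀ F : IrrCharacter G → ℤ, ∑ η, F η = F (trivIrr G) + ∑ η : I, F η.1 := by
    intro F
    rw [← Finset.add_sum_erase _ _ (Finset.mem_univ (trivIrr G))]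
    congr 1
    exact Finset.sum_subtype _ (fun η => by simp) F
  have hdot : ∀ p q p' q', dot (g p q) (g p' q') =
      (if p = p' then 1 else 0) + (if q = q' then 1 else 0) +
        (if p = p' then 1 else 0) * (if q = q' then 1 else 0) := by
    intro p q p' q'
    have h := (hinner p p' q q').2
    rw [classInner_eq_sum (isClassFunction_of_isGeneralizedCharacter (hgen p q))] at h
    simp only [hcf, map_intCast] at h
    have h' : ∑ η, cf p q η * cf p' q' η = 1 + ((if p = p' then 1 else 0) + (if q = q' then 1 else 0) +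
        (if p = p' then 1 else 0) * (if q = q' then 1 else 0)) := by
      rw [← add_assoc, ← add_assoc]
      by_cases hp : p = p' <;> by_cases hq : q = q'
      · subst hp hq; simp only [if_true] at h ⊢; exact_mod_cast h
      · have hq' : ¬ q.1 = q'.1 := fun e => hq (Subtype.ext e)
        subst hp; simp only [if_true, if_neg hq, if_neg hq'] at h ⊢; exact_mod_cast h
      · have hp' : ¬ p.1 = p'.1 := fun e => hp (Subtype.ext e)
        subst hq; simp only [if_true, if_neg hp, if_neg hp'] at h ⊢; exact_mod_cast h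
      · have hp' : ¬ p.1 = p'.1 := fun e => hp (Subtype.ext e)
        have hq' : ¬ q.1 = q'.1 := fun e => hq (Subtype.ext e)
        simp only [if_neg hp, if_neg hp', if_neg hq, if_neg hq'] at h ⊢; exact_mod_cast h
    rw [hsplit, hcf1, hcf1, one_mul] at h'
    exact add_left_cancel h'
  have hdeg : ∀ p q, dot (g p q) d = -1 := by
    intro p q
    have h := congrFun (hsum p q) 1
    rw [CharInduced.ind_one_apply, alpha_eq_zero p.2.2 q.2.2 (Or.inl W₁.one_mem), mul_zero] at h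
    simp only [Finset.sum_apply, Pi.smul_apply, smul_eq_mul, hdg1] at h
    have h' : (∑ η, cf p q η * (dg η : ℤ)) = 0 := by exact_mod_cast h.symm
    rw [hsplit, hcf1, one_mul] at h'
    have hd1 : dg (trivIrr G) = 1 := by
      have h1 := hdg1 (trivIrr G)
      rw [show ((trivIrr G : IrrCharacter G) : G → ℂ) 1 = 1 from rfl] at h1
      exact_mod_cast h1.symm
    rw [hd1, Nat.cast_one] at h'
    show ∑ η : I, cf p q η.1 * (dg η.1 : ℤ) = -1
    linarith
  obtain ⟨k1, hk1⟩ := o1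
  obtain ⟨k2, hk2⟩ := o2
  obtain ⟨a, b, x, sa, sb, habx, hstr⟩ := structure_even g d (fun η => Int.natCast_pos.2 (hdg η.1))
    ⟨k1, by omega⟩ ⟨k2, by omega⟩ (by omega) (by omega) (by omega)
    (fun p q => by rw [hdot]; simp) (fun p q q' h => by rw [hdot]; simp [h])
    (fun p p' q h => by rw [hdot]; simp [h]) (fun p p' q q' h h' => by rw [hdot]; simp [h, h'])
    (fun p q p' q' => by rw [hdeg, hdeg])
  -- the family as signed irreducible characters
  have hpair : ∀ ω : ↥(W₁ ⊔ W₂) →* ℂˣ, part₁ hd hc ω * part₂ hd hc ω = ω := part_mul hd hc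
  let K := Unit ⊕ A ⊕ B ⊕ (A × B)
  let κ : (↥(W₁ ⊔ W₂) →* ℂˣ) → K := fun ω =>
    if h1 : part₁ hd hc ω = 1 then
      if h2 : part₂ hd hc ω = 1 then Sum.inl () else
        Sum.inr (Sum.inr (Sum.inl ⟨_, h2, part₂_triv hd hc ω⟩))
    else
      if h2 : part₂ hd hc ω = 1 then Sum.inr (Sum.inl ⟨_, h1, part₁_triv hd hc ω⟩) else
        Sum.inr (Sum.inr (Sum.inr (⟨_, h1, part₁_triv hd hc ω⟩, ⟨_, h2, part₂_triv hd hc ω⟩)))
  let back : K → (↥(W₁ ⊔ W₂) →* ℂˣ) :=
    Sum.elim (fun _ => 1) (Sum.elim (fun p => p.1) (Sum.elim (fun q => q.1) fun z => z.1.1 * z.2.1))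
  have hback : ∀ ω, back (κ ω) = ω := by
    intro ω
    have := hpair ω
    simp only [κ]
    split_ifs with h1 h2 h2
    · rw [h1, h2, hom_one_mul] at this; exact this
    · rw [h1, hom_one_mul] at this; exact this
    · rw [h2, hom_mul_one] at this; exact this
    · exact this
  let ir : K → IrrCharacter G := Sum.elim (fun _ => trivIrr G)
    (Sum.elim (fun p => (a p).1) (Sum.elim (fun q => (b q).1) fun z => (x z.1 z.2).1))
  let sg : K → ℤ := Sum.elim (fun _ => 1)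
    (Sum.elim (fun p => -sa p) (Sum.elim (fun q => -sb q) fun z => g z.1 z.2 (x z.1 z.2)))
  have hirinj : Function.Injective ir := by
    rintro (u | s) (u' | s') h
    · rfl
    · exfalso
      rcases s' with p | q | z
      · exact (a p).2 h.symm
      · exact (b q).2 h.symm
      · exact (x z.1 z.2).2 h.symm
    · exfalso
      rcases s with p | q | z
      · exact (a p).2 h
      · exact (b q).2 h
      · exact (x z.1 z.2).2 h
    · congr 1
      refine habx (Subtype.ext ?_)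
      rcases s with p | q | z <;> rcases s' with p' | q' | z' <;> exact h
  obtain ⟨q₀⟩ : Nonempty B := Fintype.card_pos_iff.1 (by omega)
  obtain ⟨p₀⟩ : Nonempty A := Fintype.card_pos_iff.1 (by omega)
  have hmem : ∀ p q η, η ∈ supp (g p q) ↔ η = a p ∨ η = b q ∨ η = x p q := fun p q η => by
    rw [(hstr p q).1]; simp
  have hunit : ∀ k, sg k = 1 ∨ sg k = -1 := by
    rintro (u | p | q | z)
    · exact Or.inl rfl
    · have h1 := (vals (by rw [hdot]; simp : dot (g p q₀) (g p q₀) = 3) (a p)).resolve_left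
        (mem_supp.1 ((hmem p q₀ _).2 (Or.inl rfl)))
      rw [(hstr p q₀).2.1] at h1
      simp only [sg, Sum.elim_inl, Sum.elim_inr]
      omega
    · have h1 := (vals (by rw [hdot]; simp : dot (g p₀ q) (g p₀ q) = 3) (b q)).resolve_left
        (mem_supp.1 ((hmem p₀ q _).2 (Or.inr (Or.inl rfl))))
      rw [(hstr p₀ q).2.2] at h1
      simp only [sg, Sum.elim_inl, Sum.elim_inr]
      omega
    · exact (vals (by rw [hdot]; simp : dot (g z.1 z.2) (g z.1 z.2) = 3) (x z.1 z.2)).resolve_left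
        (mem_supp.1 ((hmem z.1 z.2 _).2 (Or.inr (Or.inr rfl))))
  let χ : (↥(W₁ ⊔ W₂) →* ℂˣ) → (G → ℂ) := fun ω => (sg (κ ω) : ℂ) • (ir (κ ω) : G → ℂ)
  have hκinj : Function.Injective κ := fun ω ω' h => by rw [← hback ω, h, hback]
  have horth : ∀ ω ω', Cfsg.classInner (χ ω) (χ ω') = if ω = ω' then 1 else 0 := by
    intro ω ω'
    simp only [χ, classInner_smul_left, classInner_smul_right, map_intCast, classInner_irrCharacter]
    by_cases h : ω = ω'
    · subst h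
      rw [if_pos rfl, if_pos rfl]
      rcases hunit (κ ω) with e | e <;> rw [e] <;> simp
    · rw [if_neg h, if_neg fun e => h (hκinj (hirinj e)), mul_zero, mul_zero]
  have hone : χ 1 = fun _ => 1 := by
    have e1 : part₁ hd hc (1 : ↥(W₁ ⊔ W₂) →* ℂˣ) = 1 := MonoidHom.ext fun _ => rfl
    have e2 : part₂ hd hc (1 : ↥(W₁ ⊔ W₂) →* ℂˣ) = 1 := MonoidHom.ext fun _ => rfl
    simp only [χ, κ, dif_pos e1, dif_pos e2, sg, ir, Sum.elim_inl, Int.cast_one, one_smul]
    rfl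
  have hind : ∀ φ ψ : ↥(W₁ ⊔ W₂) →* ℂˣ, φ ≠ 1 → ψ ≠ 1 → TrivOn W₂ φ → TrivOn W₁ ψ →
      Cfsg.indFun (W₁ ⊔ W₂) (alphaFun φ ψ) = χ 1 - χ φ - χ ψ + χ (φ * ψ) := by
    intro φ ψ hφ hψ hφt hψt
    let p : A := ⟨φ, hφ, hφt⟩
    let q : B := ⟨ψ, hψ, hψt⟩
    have a1 : part₁ hd hc φ = φ := by
      have := part₁_eq hd hc hφt (trivOn_one W₁); rwa [hom_mul_one] at this
    have a2 : part₂ hd hc φ = 1 := by
      have := part₂_eq hd hc hφt (trivOn_one W₁); rwa [hom_mul_one] at this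
    have b1 : part₁ hd hc ψ = 1 := by
      have := part₁_eq hd hc (trivOn_one W₂) hψt; rwa [hom_one_mul] at this
    have b2 : part₂ hd hc ψ = ψ := by
      have := part₂_eq hd hc (trivOn_one W₂) hψt; rwa [hom_one_mul] at this
    have c1 : part₁ hd hc (φ * ψ) = φ := part₁_eq hd hc hφt hψt
    have c2 : part₂ hd hc (φ * ψ) = ψ := part₂_eq hd hc hφt hψt
    have kφ : κ φ = Sum.inr (Sum.inl p) := by
      simp only [κ]
      rw [dif_neg (by rw [a1]; exact hφ), dif_pos a2]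
      simp only [p]; congr 2; exact Subtype.ext a1
    have kψ : κ ψ = Sum.inr (Sum.inr (Sum.inl q)) := by
      simp only [κ]
      rw [dif_pos b1, dif_neg (by rw [b2]; exact hψ)]
      simp only [q]; congr 3; exact Subtype.ext b2
    have kφψ : κ (φ * ψ) = Sum.inr (Sum.inr (Sum.inr (p, q))) := by
      simp only [κ]
      rw [dif_neg (by rw [c1]; exact hφ), dif_neg (by rw [c2]; exact hψ)]
      simp only [p, q]; congr 3; exact Prod.ext (Subtype.ext c1) (Subtype.ext c2)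
    rw [hone, hsum p q]
    simp only [χ, kφ, kψ, kφψ, sg, ir, Sum.elim_inl, Sum.elim_inr]
    have hab : a p ≠ b q := fun e => by
      have := @habx (Sum.inl p) (Sum.inr (Sum.inl q)) e; simp at this
    have hax : a p ≠ x p q := fun e => by
      have := @habx (Sum.inl p) (Sum.inr (Sum.inr (p, q))) e; simp at this
    have hbx : b q ≠ x p q := fun e => by
      have := @habx (Sum.inr (Sum.inl q)) (Sum.inr (Sum.inr (p, q))) e; simp at this
    rw [← Finset.sum_subset (Finset.subset_univ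
      ({trivIrr G, (a p).1, (b q).1, (x p q).1} : Finset (IrrCharacter G))) (fun η _ hη => by
        simp only [Finset.mem_insert, Finset.mem_singleton, not_or] at hη
        obtain ⟨n0, n1, n2, n3⟩ := hη
        have : cf p q η = 0 := by
          by_contra hne
          rcases (hmem p q ⟨η, n0⟩).1 (mem_supp.2 hne) with e | e | e
          · exact n1 (congrArg Subtype.val e)
          · exact n2 (congrArg Subtype.val e)
          · exact n3 (congrArg Subtype.val e)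
        rw [this, Int.cast_zero, zero_smul]),
      Finset.sum_insert (by simp [Ne.symm (a p).2, Ne.symm (b q).2, Ne.symm (x p q).2]),
      Finset.sum_insert (by
        simp only [Finset.mem_insert, Finset.mem_singleton, not_or]
        exact ⟨fun e => hab (Subtype.ext e), fun e => hax (Subtype.ext e)⟩),
      Finset.sum_pair (fun e => hbx (Subtype.ext e)), hcf1,
      show cf p q (a p).1 = sa p from (hstr p q).2.1, show cf p q (b q).1 = sb q from (hstr p q).2.2,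
      show cf p q (x p q).1 = g p q (x p q) from rfl]
    funext v
    simp only [Pi.add_apply, Pi.sub_apply, Pi.smul_apply, smul_eq_mul, Int.cast_one, Int.cast_neg,
      show ((trivIrr G : IrrCharacter G) : G → ℂ) v = 1 from rfl]
    ring
  have hcls : ∀ ω, Cfsg.IsClassFunction G (χ ω) := fun ω a b => by
    simp only [χ, Pi.smul_apply, CharBasic.isClassFunction_of_isCharacter
      (isCharacter_of_isIrrCharacter (ir (κ ω)).2) a b]
  refine ⟨χ, ⟨fun ω => ?_, fun ω ω' => by rw [horth]; congr!, hone,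
    eq_on_of_induced hW χ hcls (fun ω ω' => by rw [horth]; congr!) hind, fun φ ψ hφ hψ h1 h2 => ?_⟩⟩
  · rcases hunit (κ ω) with e | e
    · left; simp only [χ, e, Int.cast_one, one_smul]; exact (ir (κ ω)).2
    · right; simp only [χ, e, Int.cast_neg, Int.cast_one, neg_smul, one_smul, neg_neg]; exact (ir (κ ω)).2
  · refine (hind φ ψ hφ hψ h1 h2).trans ?_
    funext v
    simp [hone]

end Cfsg.Agent.CyclicTIFamily
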