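import Cfsg.Agent.Lib.BlockTheoryRotation
import Cfsg.Agent.Lib.CharBasicOrth

/-!
The complex group algebra of a finite group through coefficient functions: class functions as
central elements, central characters, block idempotents and the class-sum formula.
-/

namespace Cfsg.Agent.BlockTheoryCentre

open Cfsg Cfsg.Agent.BlockTheoryLocalRing Cfsg.Agent.BlockTheoryRotation
open Cfsg.Agent.CharBasic Cfsg.Agent.CharBasicOrth
open scoped ComplexConjugate

attribute [local instance] Classical.propDecidable

variable {G : Type*} [Group G] [Fintype G]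

/-- The element of the group algebra with the given coefficient function. -/
noncomputable def ofFun (f : G → ℂ) : MonoidAlgebra ℂ G :=
  MonoidAlgebra.ofCoeff (Finsupp.equivFunOnFinite.symm f)

omit [Group G] in
@[simp] theorem coeff_ofFun (f : G → ℂ) (x : G) : (ofFun f).coeff x = f x := rfl

omit [Group G] in
theorem ofFun_coeff (z : MonoidAlgebra ℂ G) : ofFun (fun x => z.coeff x) = z := by
  refine MonoidAlgebra.ext ?_
  ext x
  rfl

omit [Group G] in
theorem eq_sum_single (z : MonoidAlgebra ℂ G) :
    z = ∑ g : G, MonoidAlgebra.single g (z.coeff g) := by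
  refine MonoidAlgebra.ext ?_
  ext a
  simp [MonoidAlgebra.coeff_sum, Finsupp.single_apply, Finset.sum_apply']

theorem coeff_mul_eq (z w : MonoidAlgebra ℂ G) (x : G) :
    (z * w).coeff x = ∑ y : G, z.coeff y * w.coeff (y⁻¹ * x) := by
  conv_lhs => rw [eq_sum_single z, Finset.sum_mul, MonoidAlgebra.coeff_sum]
  rw [Finset.sum_apply']
  refine Finset.sum_congr rfl fun y _ => ?_
  rw [MonoidAlgebra.coeff_single_mul_eq_mul_coeff]
  intro m _
  exact eq_inv_mul_iff_mul_eq.symm

/-- The coefficient function is a class function. -/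
def IsCen (z : MonoidAlgebra ℂ G) : Prop := IsClassFunction G fun x => z.coeff x

theorem IsCen.comm {z : MonoidAlgebra ℂ G} (hz : IsCen z) (w : MonoidAlgebra ℂ G) :
    z * w = w * z := by
  refine MonoidAlgebra.ext ?_
  ext x
  rw [coeff_mul_eq, coeff_mul_eq,
    ← Equiv.sum_comp ((Equiv.inv G).trans (Equiv.mulLeft x))]
  refine Finset.sum_congr rfl fun y _ => ?_
  simp only [Equiv.trans_apply, Equiv.inv_apply, Equiv.coe_mulLeft]
  have h := hz (y⁻¹ * x) y
  simp only [mul_assoc, mul_inv_cancel_left] at h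
  rw [h, mul_comm (z.coeff (y⁻¹ * x))]
  congr 1
  rw [mul_inv_rev, inv_inv, mul_assoc, inv_mul_cancel, mul_one]

theorem isCen_zero : IsCen (0 : MonoidAlgebra ℂ G) := fun g h => by simp

theorem IsCen.add {z w : MonoidAlgebra ℂ G} (hz : IsCen z) (hw : IsCen w) : IsCen (z + w) :=
  fun g h => by simpa using congrArg₂ (· + ·) (hz g h) (hw g h)

theorem IsCen.smul {z : MonoidAlgebra ℂ G} (hz : IsCen z) (c : ℂ) : IsCen (c • z) :=
  fun g h => by simpa using congrArg (c * ·) (hz g h)

theorem IsCen.sub {z w : MonoidAlgebra ℂ G} (hz : IsCen z) (hw : IsCen w) : IsCen (z - w) :=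
  fun g h => by simpa using congrArg₂ (· - ·) (hz g h) (hw g h)

theorem isCen_one : IsCen (1 : MonoidAlgebra ℂ G) := fun g h => by
  simp [MonoidAlgebra.one_def, Finsupp.single_apply, eq_comm (a := (1 : G))]

theorem IsCen.mul {z w : MonoidAlgebra ℂ G} (hz : IsCen z) (hw : IsCen w) : IsCen (z * w) := by
  intro g h
  simp only
  rw [coeff_mul_eq, coeff_mul_eq, ← Equiv.sum_comp (MulAut.conj h).toEquiv]
  refine Finset.sum_congr rfl fun y _ => ?_
  simp only [MulEquiv.toEquiv_eq_coe, MulEquiv.coe_toEquiv, MulAut.conj_apply]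
  have h1 : z.coeff (h * y * h⁻¹) = z.coeff y := hz y h
  have h2 : w.coeff (h * (y⁻¹ * g) * h⁻¹) = w.coeff (y⁻¹ * g) := hw (y⁻¹ * g) h
  rw [h1, show (h * y * h⁻¹)⁻¹ * (h * g * h⁻¹) = h * (y⁻¹ * g) * h⁻¹ by group, h2]

/-- All coefficients are local integers. -/
def IsInt (M : Ideal AlgInt) (z : MonoidAlgebra ℂ G) : Prop := ∀ x, MemLocalRing M (z.coeff x)

section Int
variable {p : ℕ} {M : Ideal AlgInt} (hM : IsPModular p M)
include hM

theorem isInt_single (g : G) {r : ℂ} (hr : MemLocalRing M r) :
    IsInt M (MonoidAlgebra.single g r) := by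
  intro x
  rw [MonoidAlgebra.coeff_single, Finsupp.single_apply]
  split_ifs
  exacts [hr, (localRing hM).zero_mem]

theorem isInt_zero : IsInt M (0 : MonoidAlgebra ℂ G) :=
  fun x => by rw [MonoidAlgebra.coeff_zero]; exact (localRing hM).zero_mem

theorem isInt_one : IsInt M (1 : MonoidAlgebra ℂ G) :=
  isInt_single hM 1 (localRing hM).one_mem

variable {z w : MonoidAlgebra ℂ G}

theorem IsInt.add (hz : IsInt M z) (hw : IsInt M w) : IsInt M (z + w) :=
  fun x => by simpa [mem_localRing] using (localRing hM).add_mem (hz x) (hw x)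

theorem IsInt.sub (hz : IsInt M z) (hw : IsInt M w) : IsInt M (z - w) :=
  fun x => by simpa [mem_localRing] using (localRing hM).sub_mem (hz x) (hw x)

theorem IsInt.smul {c : ℂ} (hc : MemLocalRing M c) (hz : IsInt M z) : IsInt M (c • z) :=
  fun x => by simpa [mem_localRing] using (localRing hM).mul_mem hc (hz x)

theorem IsInt.mul (hz : IsInt M z) (hw : IsInt M w) : IsInt M (z * w) := by
  intro x
  rw [coeff_mul_eq]
  exact (localRing hM).sum_mem fun y _ => (localRing hM).mul_mem (hz y) (hw _)

end Int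

/-- The indicator of the conjugacy class of `g` as an element of the group algebra. -/
noncomputable def classSum (g : G) : MonoidAlgebra ℂ G :=
  ofFun fun x => if IsConj g x then 1 else 0

theorem isCen_classSum (g : G) : IsCen (classSum g) := fun x h => by
  simp only [classSum, coeff_ofFun]
  exact isClassFunction_indicator g x h

theorem isInt_classSum {p : ℕ} {M : Ideal AlgInt} (hM : IsPModular p M) (g : G) :
    IsInt M (classSum g) := by
  intro x
  simp only [classSum, coeff_ofFun]
  split_ifs
  exacts [(localRing hM).one_mem, (localRing hM).zero_mem]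

/-- The linear extension of `χ` to the group algebra. -/
noncomputable def chiSum (χ : G → ℂ) : MonoidAlgebra ℂ G →ₗ[ℂ] ℂ where
  toFun z := ∑ x : G, z.coeff x * χ x
  map_add' z w := by simp [add_mul, Finset.sum_add_distrib]
  map_smul' c z := by simp [Finset.mul_sum, mul_assoc]

theorem chiSum_apply (χ : G → ℂ) (z : MonoidAlgebra ℂ G) :
    chiSum χ z = ∑ x : G, z.coeff x * χ x := rfl

theorem chiSum_single (χ : G → ℂ) (g : G) (r : ℂ) :
    chiSum χ (MonoidAlgebra.single g r) = r * χ g := by
  simp [chiSum_apply, Finsupp.single_apply]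

/-- The central character of `χ` on the group algebra. -/
noncomputable def omega (χ : G → ℂ) : MonoidAlgebra ℂ G →ₗ[ℂ] ℂ := (χ 1)⁻¹ • chiSum χ

theorem omega_apply (χ : G → ℂ) (z : MonoidAlgebra ℂ G) : omega χ z = (χ 1)⁻¹ * chiSum χ z :=
  rfl

omit [Fintype G] in
theorem irr_classFun (χ : IrrCharacter G) : IsClassFunction G (χ : G → ℂ) :=
  isClassFunction_of_isCharacter (isCharacter_of_isIrrCharacter χ.2)

omit [Fintype G] in
theorem irr_one_ne_zero (χ : IrrCharacter G) : (χ : G → ℂ) 1 ≠ 0 :=
  isIrrCharacter_apply_one_ne_zero χ.2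

theorem irr_inv (χ : IrrCharacter G) (g : G) : (χ : G → ℂ) g⁻¹ = conj ((χ : G → ℂ) g) :=
  isCharacter_inv (isCharacter_of_isIrrCharacter χ.2) g

theorem chiSum_character {V : Type*} [AddCommGroup V] [Module ℂ V] [FiniteDimensional ℂ V]
    (ρ : Representation ℂ G V) (z : MonoidAlgebra ℂ G) :
    chiSum ρ.character z = LinearMap.trace ℂ V (ρ.asAlgebraHom z) := by
  conv_rhs => rw [eq_sum_single z]
  rw [map_sum, map_sum, chiSum_apply]
  refine Finset.sum_congr rfl fun x _ => ?_
  rw [Representation.asAlgebraHom_single, map_smul, smul_eq_mul]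
  rfl

/-- A central element acts in an irreducible character by the scalar `omega`. -/
theorem chiSum_mul (χ : IrrCharacter G) {z : MonoidAlgebra ℂ G} (hz : IsCen z)
    (w : MonoidAlgebra ℂ G) :
    chiSum (χ : G → ℂ) (z * w) = omega (χ : G → ℂ) z * chiSum (χ : G → ℂ) w := by
  obtain ⟨n, ρ, hirr, hχ⟩ := χ.2
  obtain ⟨c, hc, htr⟩ := exists_scalar_of_commute ρ (ρ.asAlgebraHom z) fun g v => by
    have := congrArg ρ.asAlgebraHom (hz.comm (MonoidAlgebra.single g 1))
    rw [map_mul, map_mul, Representation.asAlgebraHom_single_one] at this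
    exact LinearMap.congr_fun this v
  rw [omega_apply, ← hχ, chiSum_character, chiSum_character, chiSum_character, map_mul, htr, hc,
    Representation.char_one, smul_mul_assoc]
  rw [show (LinearMap.id : Module.End ℂ (Fin n → ℂ)) = 1 from rfl, one_mul, map_smul, smul_eq_mul]
  have hn : (Module.finrank ℂ (Fin n → ℂ) : ℂ) ≠ 0 :=
    Nat.cast_ne_zero.mpr (finrank_pos_of_irreducible ρ).ne'
  field_simp

theorem omega_mul (χ : IrrCharacter G) {z : MonoidAlgebra ℂ G} (hz : IsCen z)
    (w : MonoidAlgebra ℂ G) :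
    omega (χ : G → ℂ) (z * w) = omega (χ : G → ℂ) z * omega (χ : G → ℂ) w := by
  rw [omega_apply, chiSum_mul χ hz, omega_apply (z := w)]; ring

theorem omega_one (χ : IrrCharacter G) : omega (χ : G → ℂ) 1 = 1 := by
  rw [omega_apply, MonoidAlgebra.one_def, chiSum_single, one_mul,
    inv_mul_cancel₀ (irr_one_ne_zero χ)]

/-- Central elements with equal central characters are equal. -/
theorem ext_omega {z w : MonoidAlgebra ℂ G} (hz : IsCen z) (hw : IsCen w)
    (h : ∀ χ : IrrCharacter G, omega (χ : G → ℂ) z = omega (χ : G → ℂ) w) : z = w := by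
  rw [← sub_eq_zero]
  have hc := hz.sub hw
  have h0 : (fun x => conj ((z - w).coeff x)) = 0 := by
    refine eq_zero_of_forall_classInner (fun g k => congrArg conj (hc g k)) fun χ hχ => ?_
    have h1 := sub_eq_zero.mpr (h ⟨χ, hχ⟩)
    rw [← map_sub, omega_apply, mul_eq_zero] at h1
    rcases h1 with h1 | h1
    · exact absurd (inv_eq_zero.mp h1) (isIrrCharacter_apply_one_ne_zero hχ)
    rw [classInner, ← show conj (chiSum χ (z - w)) =
      ∑ g, conj ((z - w).coeff g) * conj (χ g) by simp [chiSum_apply]]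
    rw [h1, map_zero, mul_zero]
  refine MonoidAlgebra.ext ?_
  ext x
  have := congrArg conj (congrFun h0 x)
  simpa using this

/-- A block idempotent candidate: the sum of the central idempotents of the members of `B`. -/
noncomputable def idem (B : Set (IrrCharacter G)) : MonoidAlgebra ℂ G := ofFun (blockCoeff B)

theorem coeff_idem (B : Set (IrrCharacter G)) (x : G) : (idem B).coeff x = blockCoeff B x :=
  rfl

theorem blockCoeff_eq_sum (B : Set (IrrCharacter G)) (g : G) :
    blockCoeff B g = (Nat.card G : ℂ)⁻¹ *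
      ∑ χ : IrrCharacter G, if χ ∈ B then (χ : G → ℂ) 1 * conj ((χ : G → ℂ) g) else 0 := by
  rw [blockCoeff, ← finsum_eq_sum_of_fintype]
  congr 1
  exact finsum_congr fun χ => finsum_eq_if

theorem isCen_idem (B : Set (IrrCharacter G)) : IsCen (idem B) := by
  intro g h
  simp only [coeff_idem, blockCoeff_eq_sum]
  simp only [irr_classFun _ g h]

theorem omega_idem (B : Set (IrrCharacter G)) (χ : IrrCharacter G) :
    omega (χ : G → ℂ) (idem B) = if χ ∈ B then 1 else 0 := by
  have h1 : chiSum (χ : G → ℂ) (idem B) =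
      ∑ ψ : IrrCharacter G, if ψ ∈ B then (ψ : G → ℂ) 1 * classInner (χ : G → ℂ) ψ else 0 := by
    simp only [chiSum_apply, coeff_idem, blockCoeff_eq_sum, Finset.mul_sum, Finset.sum_mul]
    rw [Finset.sum_comm]
    refine Finset.sum_congr rfl fun ψ _ => ?_
    split_ifs
    · rw [classInner, Finset.mul_sum, Finset.mul_sum]
      refine Finset.sum_congr rfl fun g _ => ?_
      ring
    · simp
  rw [omega_apply, h1, Finset.sum_eq_single χ]
  · rw [classInner_irr_self χ.2]
    split_ifs <;> simp [irr_one_ne_zero χ]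
  · intro ψ _ hne
    rw [classInner_irr_ne χ.2 ψ.2 fun h => hne (Subtype.ext h.symm)]
    simp
  · simp

theorem idem_mul_idem (A B : Set (IrrCharacter G)) : idem A * idem B = idem (A ∩ B) := by
  refine ext_omega ((isCen_idem A).mul (isCen_idem B)) (isCen_idem _) fun χ => ?_
  rw [omega_mul χ (isCen_idem A), omega_idem, omega_idem, omega_idem]
  by_cases hA : χ ∈ A <;> by_cases hB : χ ∈ B <;> simp [hA, hB]

theorem idem_sq (B : Set (IrrCharacter G)) : idem B * idem B = idem B := by
  rw [idem_mul_idem, Set.inter_self]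

theorem idem_univ : idem (Set.univ : Set (IrrCharacter G)) = 1 :=
  ext_omega (isCen_idem _) isCen_one fun χ => by rw [omega_idem, omega_one, if_pos (Set.mem_univ χ)]

theorem idem_empty : idem (∅ : Set (IrrCharacter G)) = 0 :=
  ext_omega (isCen_idem _) isCen_zero fun χ => by rw [omega_idem, map_zero]; simp

theorem idem_union_of_disjoint {A B : Set (IrrCharacter G)} (h : Disjoint A B) :
    idem (A ∪ B) = idem A + idem B := by
  refine ext_omega (isCen_idem _) ((isCen_idem A).add (isCen_idem B)) fun χ => ?_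
  rw [map_add, omega_idem, omega_idem, omega_idem]
  by_cases hA : χ ∈ A
  · simp [hA, fun hB => Set.disjoint_left.mp h hA hB]
  · simp [hA]

theorem chiSum_idem_mul (B : Set (IrrCharacter G)) (χ : IrrCharacter G)
    (w : MonoidAlgebra ℂ G) :
    chiSum (χ : G → ℂ) (idem B * w) = if χ ∈ B then chiSum (χ : G → ℂ) w else 0 := by
  rw [chiSum_mul χ (isCen_idem B), omega_idem]
  split_ifs <;> simp

theorem index_centralizer_eq (g : G) :
    (Subgroup.centralizer ({g} : Set G)).index = Nat.card {x : G // IsConj g x} := by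
  have := card_conj_mul_card_centralizer g
  rw [← Subgroup.index_mul_card (Subgroup.centralizer ({g} : Set G))] at this
  exact (Nat.eq_of_mul_eq_mul_right Nat.card_pos this).symm

theorem chiSum_classSum {χ : G → ℂ} (hχ : IsClassFunction G χ) (g : G) :
    chiSum χ (classSum g) = ((Subgroup.centralizer ({g} : Set G)).index : ℂ) * χ g := by
  rw [index_centralizer_eq, Nat.card_eq_fintype_card, Fintype.card_subtype]
  simp only [chiSum_apply, classSum, coeff_ofFun, ite_mul, one_mul, zero_mul,
    ← Finset.sum_filter]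
  rw [Finset.sum_congr rfl fun x hx =>
    (apply_eq_of_isConj hχ (Finset.mem_filter.1 hx).2).symm, Finset.sum_const, nsmul_eq_mul]

theorem omega_classSum {χ : G → ℂ} (hχ : IsClassFunction G χ) (g : G) :
    omega χ (classSum g) = centralChar χ g := by
  rw [omega_apply, chiSum_classSum hχ, centralChar, div_eq_inv_mul]

/-- A chosen element of a class. -/
theorem isConj_out (C : ConjClasses G) {x : G} : ConjClasses.mk x = C ↔ IsConj C.out x := by
  conv_lhs => rw [← Quotient.out_eq C]
  exact eq_comm.trans ConjClasses.mk_eq_mk_iff_isConj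

/-- A central element is a combination of class sums. -/
theorem IsCen.eq_sum_classSum {z : MonoidAlgebra ℂ G} (hz : IsCen z) :
    z = ∑ C : ConjClasses G, z.coeff C.out • classSum C.out := by
  refine MonoidAlgebra.ext ?_
  ext x
  rw [MonoidAlgebra.coeff_sum, Finset.sum_apply', Finset.sum_eq_single (ConjClasses.mk x)]
  · simp only [MonoidAlgebra.coeff_smul_apply, classSum, coeff_ofFun,
      if_pos ((isConj_out _).mp rfl), smul_eq_mul, mul_one]
    exact (apply_eq_of_isConj hz ((isConj_out _).mp rfl)).symm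
  · intro C _ hC
    simp only [MonoidAlgebra.coeff_smul_apply, classSum, coeff_ofFun, smul_eq_mul]
    rw [if_neg fun h => hC ((isConj_out C).mpr h).symm, mul_zero]
  · simp

/-- Sum over the group of a class function, by classes. -/
theorem sum_eq_sum_classes {f : G → ℂ} :
    ∑ x : G, f x =
      ∑ C : ConjClasses G, ∑ x ∈ Finset.univ.filter (IsConj C.out), f x := by
  rw [← Finset.sum_fiberwise Finset.univ ConjClasses.mk f]
  refine Finset.sum_congr rfl fun C _ => Finset.sum_congr ?_ fun _ _ => rfl
  ext x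
  simp [isConj_out]

theorem classCoeff_apply (h : G) (w : MonoidAlgebra ℂ G) :
    classCoeff h w = ∑ x : G, if IsConj h x then w.coeff x else 0 := by
  rw [← Finset.sum_filter]
  exact Finset.sum_congr (Finset.filter_congr_decidable ..) fun _ _ => rfl

/-- Character sums are determined by the class sums. -/
theorem chiSum_eq_sum_classCoeff {χ : G → ℂ} (hχ : IsClassFunction G χ)
    (w : MonoidAlgebra ℂ G) :
    chiSum χ w = ∑ C : ConjClasses G, χ C.out * classCoeff C.out w := by
  rw [chiSum_apply, sum_eq_sum_classes]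
  refine Finset.sum_congr rfl fun C _ => ?_
  rw [classCoeff_apply, ← Finset.sum_filter, Finset.mul_sum]
  refine Finset.sum_congr rfl fun x hx => ?_
  rw [← apply_eq_of_isConj hχ (Finset.mem_filter.1 hx).2, mul_comm]

/-- The class-sum formula. -/
theorem card_centralizer_mul_classCoeff (h : G) (w : MonoidAlgebra ℂ G) :
    (Nat.card (Subgroup.centralizer ({h} : Set G)) : ℂ) * classCoeff h w =
      ∑ χ : IrrCharacter G, conj ((χ : G → ℂ) h) * chiSum (χ : G → ℂ) w := by
  simp only [chiSum_apply, Finset.mul_sum, classCoeff_apply]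
  rw [Finset.sum_comm]
  refine Finset.sum_congr rfl fun x _ => ?_
  have h1 : ∑ χ : IrrCharacter G, conj ((χ : G → ℂ) h) * (w.coeff x * (χ : G → ℂ) x) =
      w.coeff x * ∑ χ : IrrCharacter G, (χ : G → ℂ) x * conj ((χ : G → ℂ) h) := by
    rw [Finset.mul_sum]
    exact Finset.sum_congr rfl fun χ _ => by ring
  rw [h1, sum_irr_mul_conj x h]
  by_cases hc : IsConj h x
  · rw [if_pos hc, if_pos hc.symm, mul_comm]
    congr 2
    have e1 := card_conj_mul_card_centralizer h
    have e2 := card_conj_mul_card_centralizer x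
    have e3 : Nat.card {g : G // IsConj h g} = Nat.card {g : G // IsConj x g} :=
      Nat.card_congr (Equiv.subtypeEquivRight fun g =>
        ⟨fun e => hc.symm.trans e, fun e => hc.trans e⟩)
    rw [e3, ← e2] at e1
    have : Nonempty {g : G // IsConj x g} := ⟨⟨x, IsConj.refl x⟩⟩
    exact Nat.eq_of_mul_eq_mul_left Nat.card_pos e1
  · rw [if_neg hc, if_neg fun e => hc e.symm]; simp

/-- Central characters are algebraic integers. -/
theorem isIntegral_centralChar (χ : IrrCharacter G) (g : G) :
    IsIntegral ℤ (centralChar (χ : G → ℂ) g) := by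
  obtain ⟨v, hv⟩ : ∃ v : G → ℂ, v = fun x => (χ : G → ℂ) x⁻¹ := ⟨_, rfl⟩
  have hmul : classSum g * idem {χ} = centralChar (χ : G → ℂ) g • idem {χ} := by
    refine ext_omega ((isCen_classSum g).mul (isCen_idem _)) ((isCen_idem _).smul _) fun ψ => ?_
    rw [omega_mul ψ (isCen_classSum g), map_smul, omega_idem, smul_eq_mul,
      omega_classSum (irr_classFun ψ)]
    by_cases h : ψ = χ
    · rw [h]
    · simp [Set.mem_singleton_iff, h]
  have hcoeff : ∀ x, (idem {χ}).coeff x = (Nat.card G : ℂ)⁻¹ * ((χ : G → ℂ) 1 * v x) := by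
    intro x
    subst hv
    rw [coeff_idem, blockCoeff, finsum_mem_singleton]
    simp only [irr_inv]
  have heig : ∀ x, centralChar (χ : G → ℂ) g * v x =
      ∑ y : G, (classSum g).coeff y * v (y⁻¹ * x) := by
    intro x
    have h1 := congrArg (fun t : MonoidAlgebra ℂ G => t.coeff x) hmul
    simp only [coeff_mul_eq, MonoidAlgebra.coeff_smul_apply, smul_eq_mul, hcoeff] at h1
    have hne : (Nat.card G : ℂ)⁻¹ * (χ : G → ℂ) 1 ≠ 0 :=
      mul_ne_zero (inv_ne_zero (Nat.cast_ne_zero.mpr Nat.card_pos.ne')) (irr_one_ne_zero χ)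
    apply mul_left_cancel₀ hne
    calc _ = _ := by ring
      _ = _ := h1.symm
      _ = _ := by rw [Finset.mul_sum]; exact Finset.sum_congr rfl fun y _ => by ring
  let N : Submodule ℤ ℂ := Submodule.span ℤ (Set.range v)
  refine isIntegral_of_smul_mem_submodule (N := N) ?_ (Submodule.fg_span (Set.finite_range v))
    _ ?_
  · intro hN
    have : v 1 ∈ N := Submodule.subset_span ⟨1, rfl⟩
    rw [hN, Submodule.mem_bot, hv] at this
    exact irr_one_ne_zero χ (by simpa using this)
  · intro n hn
    induction hn using Submodule.span_induction with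
    | mem a ha =>
      obtain ⟨x, rfl⟩ := ha
      rw [smul_eq_mul, heig]
      refine N.sum_mem fun y _ => ?_
      simp only [classSum, coeff_ofFun, ite_mul, one_mul, zero_mul]
      split_ifs
      exacts [Submodule.subset_span ⟨_, rfl⟩, N.zero_mem]
    | zero => simp
    | add a b _ _ ha hb => rw [smul_add]; exact N.add_mem ha hb
    | smul c a _ ha => rw [smul_comm]; exact N.smul_mem c ha

theorem omega_mem_localRing {p : ℕ} {M : Ideal AlgInt} (hM : IsPModular p M)
    (χ : IrrCharacter G) {z : MonoidAlgebra ℂ G} (hz : IsCen z) (hzi : IsInt M z) :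
    MemLocalRing M (omega (χ : G → ℂ) z) := by
  rw [hz.eq_sum_classSum, map_sum]
  refine (localRing hM).sum_mem fun C _ => ?_
  rw [map_smul, smul_eq_mul, omega_classSum (irr_classFun χ)]
  exact (localRing hM).mul_mem (hzi _) (of_isIntegral hM (isIntegral_centralChar χ _))

end Cfsg.Agent.BlockTheoryCentre
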