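import Mathlib
import Cfsg.Prelude.Def_Blocks
import Cfsg.Agent.Lib.BlockTheoryCentre
import Cfsg.Agent.Lib.CharBasicDecomp

/-!
Galois action on characters: for `k` prime to the group order the function `g ↦ χ (g ^ k)` is a
character, irreducible when `χ` is, and this action respects blocks containing a fixed member.
-/

set_option autoImplicit false

open scoped ComplexConjugate Cardinal

namespace Cfsg.Agent.GaloisChar80

open Cfsg Cfsg.Agent.CharBasic Cfsg.Agent.CharBasicDecomp Cfsg.Agent.CharBasicOrth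

theorem exists_extend {R : Type} [Field R] [CharZero R] (hR : #R ≤ ℵ₀) {K K' : Type} [Field K]
    [Field K'] [IsAlgClosed K] [IsAlgClosed K'] [Algebra R K] [Algebra R K']
    (hK : ℵ₀ < #K) (hKK : #K = #K') :
    ∃ f : K ≃+* K', ∀ r : R, f (algebraMap R K r) = algebraMap R K' r := by
  obtain ⟨s, hs⟩ := exists_isTranscendenceBasis R K
  obtain ⟨t, ht⟩ := exists_isTranscendenceBasis R K'
  have h1 := IsAlgClosed.cardinal_eq_cardinal_transcendence_basis_of_aleph0_lt' _ hs hR hK
  have h2 := IsAlgClosed.cardinal_eq_cardinal_transcendence_basis_of_aleph0_lt' _ ht hR (hKK ▸ hK)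
  obtain ⟨e⟩ : Nonempty (s ≃ t) := Cardinal.eq.1 (by rw [← h1, ← h2, hKK])
  let v : s → K := Subtype.val
  let w : t → K' := Subtype.val
  haveI := IsAlgClosed.isAlgClosure_of_transcendence_basis v hs
  haveI := IsAlgClosed.isAlgClosure_of_transcendence_basis w ht
  let a : Algebra.adjoin R (Set.range v) ≃ₐ[R] Algebra.adjoin R (Set.range w) :=
    hs.1.aevalEquiv.symm.trans ((MvPolynomial.renameEquiv R e).trans ht.1.aevalEquiv)
  refine ⟨IsAlgClosure.equivOfEquiv K K' a.toRingEquiv, fun r => ?_⟩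
  rw [IsScalarTower.algebraMap_apply R (Algebra.adjoin R (Set.range v)) K,
    IsAlgClosure.equivOfEquiv_algebraMap]
  show algebraMap _ K' (a (algebraMap R _ r)) = _
  rw [AlgEquiv.commutes, ← IsScalarTower.algebraMap_apply]

/-- Every Galois automorphism of the `n`-th roots of unity extends to `ℂ`. -/
theorem exists_aut {n k : ℕ} (hn : 0 < n) (hk : k.Coprime n) :
    ∃ σ : ℂ ≃+* ℂ, ∀ z : ℂ, z ^ n = 1 → σ z = z ^ k := by
  let L := algebraicClosure ℚ ℂ
  haveI : IsAlgClosure ℚ L := algebraicClosure.isAlgClosure ℚ ℂ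
  haveI : IsAlgClosed L := IsAlgClosure.isAlgClosed ℚ
  haveI : Normal ℚ L := IsAlgClosure.normal ℚ L
  obtain ⟨z0, hz0⟩ : ∃ z0 : L, IsPrimitiveRoot z0 n := by
    haveI : NeZero (n : L) := ⟨Nat.cast_ne_zero.2 hn.ne'⟩
    exact HasEnoughRootsOfUnity.exists_primitiveRoot L n
  have hev : Polynomial.aeval (z0 ^ k) (minpoly ℚ z0) = 0 := by
    rw [← Polynomial.cyclotomic_eq_minpoly_rat hz0 hn,
      Polynomial.cyclotomic_eq_minpoly_rat (hz0.pow_of_coprime k hk) hn]
    exact minpoly.aeval ℚ _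
  obtain ⟨σ0, hσ0⟩ := minpoly.exists_algEquiv_of_root' (Algebra.IsAlgebraic.isAlgebraic z0) hev
  have hR : #L ≤ ℵ₀ :=
    (Algebra.IsAlgebraic.cardinalMk_le_max ℚ L).trans (max_le (Cardinal.mk_le_aleph0) le_rfl)
  have hC : ℵ₀ < #ℂ := by rw [Cardinal.mk_complex]; exact Cardinal.aleph0_lt_continuum
  haveI : NeZero n := ⟨hn.ne'⟩
  let j : L →+* ℂ := algebraMap L ℂ
  have hz' : IsPrimitiveRoot (j z0) n := hz0.map_of_injective j.injective
  have key : ∃ f : ℂ ≃+* ℂ, ∀ r : L, f (j r) = j (σ0 r) :=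
    @exists_extend L _ _ hR ℂ ℂ _ _ _ _ _ (j.comp σ0.toRingEquiv.toRingHom).toAlgebra hC rfl
  obtain ⟨f, hf⟩ := key
  refine ⟨f, fun z hz => ?_⟩
  obtain ⟨i, -, rfl⟩ := hz'.eq_pow_of_pow_eq_one hz
  rw [map_pow, hf, hσ0, map_pow, pow_right_comm]

variable {G : Type*} [Group G]

/-- Powering by an exponent prime to the order permutes a finite group. -/
noncomputable def powPerm [Finite G] {k : ℕ} (hk : k.Coprime (Nat.card G)) : G ≃ G :=
  powCoprime hk.symm

theorem powPerm_apply [Finite G] {k : ℕ} (hk : k.Coprime (Nat.card G)) (g : G) :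
    powPerm hk g = g ^ k := rfl

/-- An automorphism of `ℂ` realising the power map on characters. -/
theorem exists_aut_char [Finite G] {k : ℕ} (hk : k.Coprime (Nat.card G)) :
    ∃ σ : ℂ ≃+* ℂ, ∀ χ : G → ℂ, IsCharacter G χ → ∀ g, σ (χ g) = χ (g ^ k) := by
  obtain ⟨σ, hσ⟩ := exists_aut (Nat.card_pos (α := G)) hk
  refine ⟨σ, ?_⟩
  rintro χ ⟨n, ρ, rfl⟩ g
  obtain ⟨b, μ, -, hμ, -, hpow⟩ := exists_rep_eigenbasis ρ g
  have h1 : ρ.character g = ∑ i, μ i := by simpa using hpow 1
  rw [h1, hpow k, map_sum]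
  refine Finset.sum_congr rfl fun i _ => hσ _ ?_
  obtain ⟨m, hm⟩ := orderOf_dvd_natCard g
  rw [hm, pow_mul, hμ, one_pow]

theorem isCharacter_pow [Finite G] {k : ℕ} (hk : k.Coprime (Nat.card G)) {χ : G → ℂ}
    (hχ : IsCharacter G χ) : IsCharacter G (fun g => χ (g ^ k)) := by
  obtain ⟨σ, hσ⟩ := exists_aut_char hk
  have h0 := hσ χ hχ
  obtain ⟨n, ρ, rfl⟩ := hχ
  refine ⟨n, ⟨⟨fun g => Matrix.toLin' ((LinearMap.toMatrix' (ρ g)).map σ), ?_⟩, ?_⟩, ?_⟩
  · have h1 : ρ 1 = LinearMap.id := map_one ρ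
    rw [h1, LinearMap.toMatrix'_id, Matrix.map_one _ (map_zero σ) (map_one σ), Matrix.toLin'_one]
    rfl
  · intro a b
    show Matrix.toLin' _ = Matrix.toLin' _ * Matrix.toLin' _
    rw [map_mul, LinearMap.toMatrix'_mul, Matrix.map_mul, Matrix.toLin'_mul]
    rfl
  · funext g
    rw [← h0]
    show LinearMap.trace ℂ _ (Matrix.toLin' ((LinearMap.toMatrix' (ρ g)).map σ)) = σ (LinearMap.trace ℂ _ (ρ g))
    rw [LinearMap.trace_eq_matrix_trace ℂ (Pi.basisFun ℂ (Fin n)),
      LinearMap.trace_eq_matrix_trace ℂ (Pi.basisFun ℂ (Fin n)) (ρ g)]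
    simp [Matrix.trace, LinearMap.toMatrix'_toLin', LinearMap.toMatrix_eq_toMatrix', map_sum]

theorem isIrrCharacter_pow [Finite G] {k : ℕ} (hk : k.Coprime (Nat.card G)) {χ : G → ℂ}
    (hχ : IsIrrCharacter G χ) : IsIrrCharacter G (fun g => χ (g ^ k)) := by
  classical
  have := Fintype.ofFinite G
  rw [isIrrCharacter_iff]
  refine ⟨isCharacter_pow hk (isCharacter_of_isIrrCharacter hχ), ?_⟩
  rw [← classInner_irr_self hχ]
  simp only [classInner]
  congr 1
  exact Equiv.sum_comp (powPerm hk) (fun g => χ g * conj (χ g))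

/-- The Galois twist of an irreducible character. -/
noncomputable def twist [Finite G] {k : ℕ} (hk : k.Coprime (Nat.card G)) (χ : IrrCharacter G) :
    IrrCharacter G := ⟨fun g => (χ : G → ℂ) (g ^ k), isIrrCharacter_pow hk χ.2⟩

theorem twist_apply [Finite G] {k : ℕ} (hk : k.Coprime (Nat.card G)) (χ : IrrCharacter G) (g : G) :
    (twist hk χ : G → ℂ) g = (χ : G → ℂ) (g ^ k) := rfl

theorem twist_injective [Finite G] {k : ℕ} (hk : k.Coprime (Nat.card G)) :
    Function.Injective (twist (G := G) hk) := fun χ ψ h => Subtype.ext <| funext fun g => by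
  have := congrFun (congrArg Subtype.val h) ((powPerm hk).symm g)
  rw [twist_apply, twist_apply, ← powPerm_apply hk, Equiv.apply_symm_apply] at this
  exact this

theorem centralizer_pow [Finite G] {k : ℕ} (hk : k.Coprime (Nat.card G)) (g : G) :
    Subgroup.centralizer ({g ^ k} : Set G) = Subgroup.centralizer ({g} : Set G) := by
  ext x
  rw [Subgroup.mem_centralizer_singleton_iff, Subgroup.mem_centralizer_singleton_iff]
  refine ⟨fun h => ?_, fun h => (Commute.pow_right h k).eq⟩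
  apply mul_left_cancel (a := 1)
  rw [one_mul, one_mul]
  apply (powPerm hk).injective.eq_iff.1
  have h1 : x * g ^ k * x⁻¹ = g ^ k := by rw [h, mul_assoc, mul_inv_cancel, mul_one]
  have h2 : x * g * x⁻¹ = g := by
    apply (powPerm hk).injective
    rw [powPerm_apply, powPerm_apply, conj_pow, h1]
  rw [show x * g = g * x from mul_inv_eq_iff_eq_mul.1 h2]

/-- The twist preserves the principal block. -/
theorem twist_mem_principalBlock [Finite G] {M : Ideal AlgInt} {k : ℕ}
    (hk : k.Coprime (Nat.card G)) {χ : IrrCharacter G} (hχ : χ ∈ principalBlock M G) :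
    twist hk χ ∈ principalBlock M G := by
  intro g
  have h := hχ (g ^ k)
  simpa [centralChar, twist_apply, centralizer_pow hk g] using h

end Cfsg.Agent.GaloisChar80
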