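/-
Uniqueness of the orthonormal family attached to a cyclic trivial-intersection subgroup of odd order,
its behaviour under the Galois power maps, and rationality of its values away from the order.
-/
import Mathlib
import Cfsg.Agent.Lib.CyclicTIFamily
import Cfsg.Agent.Lib.CharBasicCyclic
import Cfsg.Agent.Lib.GaloisChar80

set_option autoImplicit false

open scoped ComplexConjugate

namespace Cfsg.Agent.CyclicTIGalois

open CharBasic CharBasicOrth CharBasicDecomp CyclicTI CyclicTIFamily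

universe u

variable {G : Type u} [Group G]

section Signed

variable [Fintype G]

omit [Fintype G] in
theorem signed_eq_smul {a : G → ℂ} (h : Cfsg.IsIrrCharacter G a ∨ Cfsg.IsIrrCharacter G (-a)) :
    ∃ (χ : G → ℂ) (s : ℂ), Cfsg.IsIrrCharacter G χ ∧ (s = 1 ∨ s = -1) ∧ a = s • χ := by
  rcases h with h | h
  · exact ⟨a, 1, h, Or.inl rfl, (one_smul _ _).symm⟩
  · exact ⟨-a, -1, h, Or.inr rfl, by simp⟩

/-- Two signed irreducible characters that are not orthogonal agree up to a sign. -/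
theorem signed_cases {a b : G → ℂ} (ha : Cfsg.IsIrrCharacter G a ∨ Cfsg.IsIrrCharacter G (-a))
    (hb : Cfsg.IsIrrCharacter G b ∨ Cfsg.IsIrrCharacter G (-b)) (h : Cfsg.classInner a b ≠ 0) :
    (a = b ∧ Cfsg.classInner a b = 1) ∨ (a = -b ∧ Cfsg.classInner a b = -1) := by
  classical
  obtain ⟨χ, s, hχ, hs, rfl⟩ := signed_eq_smul ha
  obtain ⟨ψ, t, hψ, ht, rfl⟩ := signed_eq_smul hb
  have he : χ = ψ := by
    by_contra hne
    exact h (by rw [classInner_smul_left, classInner_smul_right, classInner_irr_ne hχ hψ hne]; simp)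
  subst he
  rw [classInner_smul_left, classInner_smul_right, classInner_irr_self hχ]
  rcases hs with rfl | rfl <;> rcases ht with rfl | rfl <;> simp

end Signed

variable {W₁ W₂ : Subgroup G}

open Classical in
/-- The orthonormal family of a cyclic trivial-intersection subgroup of odd order is unique. -/
theorem family_unique [Fintype G] (hW : Cfsg.IsSelfNormalizingCyclic W₁ W₂)
    (hodd : Odd (Nat.card ↥(W₁ ⊔ W₂))) {χ χ' : (↥(W₁ ⊔ W₂) →* ℂˣ) → (G → ℂ)}
    (hχ : Cfsg.IsCyclicTIFamily W₁ W₂ χ) (hχ' : Cfsg.IsCyclicTIFamily W₁ W₂ χ') : χ = χ' := by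
  have := hom_fintype ↥(W₁ ⊔ W₂)
  have hd := hdisj hW
  have hc := hcomm hW
  obtain ⟨-, -, t1, t2, -⟩ := card_facts hW hodd
  obtain ⟨hA, hB⟩ := card_triv_ne hW
  have hinj : ∀ {ω ω'}, Cfsg.classInner (χ ω) (χ ω') ≠ 0 → ω = ω' := by
    intro ω ω' h
    by_contra hne
    rw [hχ.orthonormal, if_neg hne] at h
    exact h rfl
  -- the induction identity for both families
  have hkey : ∀ φ ψ : ↥(W₁ ⊔ W₂) →* ℂˣ, φ ≠ 1 → ψ ≠ 1 → TrivOn W₂ φ → TrivOn W₁ ψ →
      χ 1 - χ φ - χ ψ + χ (φ * ψ) = χ' 1 - χ' φ - χ' ψ + χ' (φ * ψ) := by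
    intro φ ψ h h' a b
    have e := (hχ.induced_eq φ ψ h h' a b).symm.trans (hχ'.induced_eq φ ψ h h' a b)
    funext g
    have := congrFun e g
    simp only [Pi.add_apply, Pi.sub_apply, hχ.map_one, hχ'.map_one]
    exact this
  have hne : ∀ {φ ψ : ↥(W₁ ⊔ W₂) →* ℂˣ}, TrivOn W₂ φ → TrivOn W₁ ψ → φ ≠ 1 → ψ ≠ 1 →
      φ ≠ ψ ∧ φ * ψ ≠ φ ∧ φ * ψ ≠ ψ := by
    intro φ ψ a b h h'
    refine ⟨fun e => h (eq_one_of_triv_both hd hc (e ▸ b) a), fun e => h' ?_, fun e => h ?_⟩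
    · exact ((mul_left_inj_of_triv hd hc a a b (trivOn_one _)).mp (by rw [e, hom_mul_one])).2
    · exact ((mul_left_inj_of_triv hd hc a (trivOn_one _) b b).mp (by rw [e, hom_one_mul])).1
  -- a common linear character forces agreement
  have hcore : ∀ η : ↥(W₁ ⊔ W₂) →* ℂˣ, η ≠ 1 →
      (∃ ζ ζ' : ↥(W₁ ⊔ W₂) →* ℂˣ, ζ ≠ ζ' ∧ ζ ≠ η * ζ' ∧ η * ζ ≠ ζ' ∧ η * ζ ≠ η * ζ' ∧
        ∀ z, (z = ζ ∨ z = ζ') → z ≠ η ∧ η * z ≠ η ∧
          χ 1 - χ η - χ z + χ (η * z) = χ' 1 - χ' η - χ' z + χ' (η * z)) →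
      χ η = χ' η := by
    rintro η hη ⟨ζ, ζ', n1, n2, n3, n4, hz⟩
    have h1 : ∀ z, (z = ζ ∨ z = ζ') → - Cfsg.classInner (χ η) (χ' η) - Cfsg.classInner (χ z) (χ' η) +
        Cfsg.classInner (χ (η * z)) (χ' η) = -1 := by
      intro z hz'
      obtain ⟨hz1, hz2, hz3⟩ := hz z hz'
      have := congrArg (fun f => Cfsg.classInner f (χ' η)) hz3
      simp only [classInner_add_left, classInner_sub_left] at this
      rw [show χ 1 = χ' 1 by rw [hχ.map_one, hχ'.map_one], hχ'.orthonormal, hχ'.orthonormal, hχ'.orthonormal,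
        hχ'.orthonormal, if_neg (Ne.symm hη), if_pos rfl, if_neg hz1, if_neg hz2] at this
      linear_combination this
    by_cases h0 : Cfsg.classInner (χ η) (χ' η) = 0
    · have hex : ∀ z, (z = ζ ∨ z = ζ') →
          ∃ i, (i = z ∨ i = η * z) ∧ Cfsg.classInner (χ i) (χ' η) ≠ 0 := by
        intro z hz'
        by_contra hn
        push Not at hn
        have := h1 z hz'
        rw [h0, hn z (Or.inl rfl), hn (η * z) (Or.inr rfl)] at this
        norm_num at this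
      obtain ⟨i, hi, hin⟩ := hex ζ (Or.inl rfl)
      obtain ⟨j, hj, hjn⟩ := hex ζ' (Or.inr rfl)
      have hij : i = j := by
        refine hinj ?_
        rcases signed_cases (hχ.irr_or_neg i) (hχ'.irr_or_neg η) hin with ⟨e, -⟩ | ⟨e, -⟩ <;>
          rcases signed_cases (hχ.irr_or_neg j) (hχ'.irr_or_neg η) hjn with ⟨e', -⟩ | ⟨e', -⟩ <;>
          simp [e, e', classInner_neg_left, classInner_neg_right, hχ'.orthonormal]
      rcases hi with rfl | rfl <;> rcases hj with rfl | rfl <;> contradiction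
    · have hz0 : ∀ i, i ≠ η → Cfsg.classInner (χ i) (χ' η) = 0 := by
        intro i hi
        by_contra hn
        refine hi (hinj ?_)
        rcases signed_cases (hχ.irr_or_neg i) (hχ'.irr_or_neg η) hn with ⟨e, -⟩ | ⟨e, -⟩ <;>
          rcases signed_cases (hχ.irr_or_neg η) (hχ'.irr_or_neg η) h0 with ⟨e', -⟩ | ⟨e', -⟩ <;>
          simp [e, e', classInner_neg_left, classInner_neg_right, hχ'.orthonormal]
      have := h1 ζ (Or.inl rfl)
      rw [hz0 ζ (hz ζ (Or.inl rfl)).1, hz0 (η * ζ) (hz ζ (Or.inl rfl)).2.1, sub_zero, add_zero,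
        neg_inj] at this
      rcases signed_cases (hχ.irr_or_neg η) (hχ'.irr_or_neg η) h0 with ⟨e, -⟩ | ⟨-, e⟩
      · exact e
      · rw [e] at this; norm_num at this
  have hφ : ∀ φ, φ ≠ 1 → TrivOn W₂ φ → χ φ = χ' φ := by
    intro φ h a
    have : 1 < Nat.card {ψ : ↥(W₁ ⊔ W₂) →* ℂˣ // ψ ≠ 1 ∧ TrivOn W₁ ψ} := by omega
    obtain ⟨⟨ψ, h1, b⟩, ⟨ψ', h1', b'⟩, hne'⟩ := Finite.one_lt_card_iff_nontrivial.1 this |>.exists_pair_ne
    have hψ : ψ ≠ ψ' := fun e => hne' (Subtype.ext e)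
    refine hcore φ h ⟨ψ, ψ', hψ, fun e => ?_, fun e => ?_, fun e => hψ ?_, ?_⟩
    · exact h ((mul_left_inj_of_triv hd hc (trivOn_one _) a b b').mp (by rw [hom_one_mul, e])).1.symm
    · exact h ((mul_left_inj_of_triv hd hc a (trivOn_one _) b b').mp (by rw [hom_one_mul, e])).1
    · exact ((mul_left_inj_of_triv hd hc a a b b').mp e).2
    · rintro z (rfl | rfl)
      · exact ⟨(hne a b h h1).1.symm, (hne a b h h1).2.1, hkey φ z h h1 a b⟩
      · exact ⟨(hne a b' h h1').1.symm, (hne a b' h h1').2.1, hkey φ z h h1' a b'⟩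
  have hψ : ∀ ψ, ψ ≠ 1 → TrivOn W₁ ψ → χ ψ = χ' ψ := by
    intro ψ h b
    have : 1 < Nat.card {φ : ↥(W₁ ⊔ W₂) →* ℂˣ // φ ≠ 1 ∧ TrivOn W₂ φ} := by omega
    obtain ⟨⟨φ, h1, a⟩, ⟨φ', h1', a'⟩, hne'⟩ := Finite.one_lt_card_iff_nontrivial.1 this |>.exists_pair_ne
    have hφ' : φ ≠ φ' := fun e => hne' (Subtype.ext e)
    have hcm : ∀ x y : ↥(W₁ ⊔ W₂) →* ℂˣ, x * y = y * x := fun x y =>
      MonoidHom.ext fun w => mul_comm _ _
    refine hcore ψ h ⟨φ, φ', hφ', fun e => ?_, fun e => ?_, fun e => hφ' ?_, ?_⟩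
    · exact h ((mul_left_inj_of_triv hd hc a a' (trivOn_one _) b).mp
        (by rw [hom_mul_one, hcm φ' ψ, e])).2.symm
    · exact h ((mul_left_inj_of_triv hd hc a a' b (trivOn_one _)).mp
        (by rw [hom_mul_one, hcm φ ψ, e])).2
    · exact ((mul_left_inj_of_triv hd hc a a' b b).mp (by rw [hcm φ ψ, hcm φ' ψ, e])).1
    · rintro z (rfl | rfl)
      · refine ⟨(hne a b h1 h).1, by rw [hcm]; exact (hne a b h1 h).2.2, ?_⟩
        rw [hcm ψ z]
        linear_combination hkey z ψ h1 h a b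
      · refine ⟨(hne a' b h1' h).1, by rw [hcm]; exact (hne a' b h1' h).2.2, ?_⟩
        rw [hcm ψ z]
        linear_combination hkey z ψ h1' h a' b
  funext ω
  have hω : part₁ hd hc ω * part₂ hd hc ω = ω := part_mul hd hc ω
  by_cases h1 : part₁ hd hc ω = 1
  · by_cases h2 : part₂ hd hc ω = 1
    · rw [← hω, h1, h2, hom_one_mul, hχ.map_one, hχ'.map_one]
    · have e : part₂ hd hc ω = ω := by rw [h1, hom_one_mul] at hω; exact hω
      rw [← e]; exact hψ _ h2 (part₂_triv _ _ ω)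
  · by_cases h2 : part₂ hd hc ω = 1
    · have e : part₁ hd hc ω = ω := by rw [h2, hom_mul_one] at hω; exact hω
      rw [← e]; exact hφ _ h1 (part₁_triv _ _ ω)
    · have e := hkey _ _ h1 h2 (part₁_triv hd hc ω) (part₂_triv hd hc ω)
      rw [hω, hφ _ h1 (part₁_triv _ _ ω), hψ _ h2 (part₂_triv _ _ ω),
        show χ 1 = χ' 1 by rw [hχ.map_one, hχ'.map_one]] at e
      exact add_left_cancel e

theorem pow_pow_eq {A : Type*} [Group A] [Finite A] {n j k : ℕ} (hn : Nat.card A ∣ n)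
    (hjk : j * k ≡ 1 [MOD n]) (w : A) : w ^ (j * k) = w := by
  conv_rhs => rw [← pow_one w]
  rw [pow_eq_pow_iff_modEq]
  exact (hjk.of_dvd hn).of_dvd (orderOf_dvd_natCard w)

open Classical in
/-- The Galois power maps permute the family. -/
theorem family_pow [Fintype G] (hW : Cfsg.IsSelfNormalizingCyclic W₁ W₂)
    (hodd : Odd (Nat.card ↥(W₁ ⊔ W₂))) {χ : (↥(W₁ ⊔ W₂) →* ℂˣ) → (G → ℂ)}
    (hχ : Cfsg.IsCyclicTIFamily W₁ W₂ χ) {j k : ℕ} (hk : k.Coprime (Nat.card G))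
    (hjk : j * k ≡ 1 [MOD Nat.card G]) (ω : ↥(W₁ ⊔ W₂) →* ℂˣ) (g : G) :
    χ (ω ^ j) (g ^ k) = χ ω g := by
  have hdvd : Nat.card ↥(W₁ ⊔ W₂) ∣ Nat.card G := Subgroup.card_subgroup_dvd_card _
  have hback : ∀ w : ↥(W₁ ⊔ W₂), (w ^ k) ^ j = w := fun w => by
    rw [← pow_mul, mul_comm]; exact pow_pow_eq hdvd hjk w
  have hbackG : ∀ x : G, (x ^ k) ^ j = x := fun x => by
    rw [← pow_mul, mul_comm]; exact pow_pow_eq dvd_rfl hjk x
  have hcancel : ∀ (ν : ↥(W₁ ⊔ W₂) →* ℂˣ) (w : ↥(W₁ ⊔ W₂)), (ν ^ j) (w ^ k) = ν w := fun ν w => by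
    rw [MonoidHom.pow_apply, ← map_pow, hback]
  have hinj : ∀ ν ν' : ↥(W₁ ⊔ W₂) →* ℂˣ, ν ^ j = ν' ^ j → ν = ν' := fun ν ν' h =>
    MonoidHom.ext fun w => by rw [← hcancel ν, h, hcancel]
  have h1j : (1 : ↥(W₁ ⊔ W₂) →* ℂˣ) ^ j = 1 := MonoidHom.ext fun w => by
    rw [MonoidHom.pow_apply, MonoidHom.one_apply, one_pow]
  suffices h : (fun ω g => χ (ω ^ j) (g ^ k)) = χ from congrFun (congrFun h ω) g
  refine family_unique hW hodd ⟨fun ω => ?_, fun ω ω' => ?_, ?_, fun ω w h1 h2 => ?_, ?_⟩ hχ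
  · rcases hχ.irr_or_neg (ω ^ j) with h | h
    · exact Or.inl (GaloisChar80.isIrrCharacter_pow hk h)
    · exact Or.inr (GaloisChar80.isIrrCharacter_pow hk h)
  · have e : Cfsg.classInner (fun g => χ (ω ^ j) (g ^ k)) (fun g => χ (ω' ^ j) (g ^ k)) =
        Cfsg.classInner (χ (ω ^ j)) (χ (ω' ^ j)) := by
      simp only [Cfsg.classInner]
      congr 1
      exact Equiv.sum_comp (GaloisChar80.powPerm hk) (fun g => χ (ω ^ j) g * conj (χ (ω' ^ j) g))
    rw [e, hχ.orthonormal]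
    by_cases h : ω = ω'
    · simp [h]
    · simp [h, mt (hinj ω ω') h]
  · funext x
    rw [h1j, hχ.map_one]
  · show χ (ω ^ j) ((w : G) ^ k) = _
    rw [← SubgroupClass.coe_pow, hχ.eq_on, hcancel]
    · exact fun h => h1 (by simpa [hbackG] using pow_mem h j)
    · exact fun h => h2 (by simpa [hbackG] using pow_mem h j)
  · intro φ ψ hφ hψ a b
    have h1 : ∀ {ν : ↥(W₁ ⊔ W₂) →* ℂˣ}, ν ≠ 1 → ν ^ j ≠ 1 := fun h e =>
      h (hinj _ 1 (e.trans h1j.symm))
    have h := hχ.induced_eq (φ ^ j) (ψ ^ j) (h1 hφ) (h1 hψ)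
      (fun w hw => by rw [MonoidHom.pow_apply, a w hw, one_pow])
      (fun w hw => by rw [MonoidHom.pow_apply, b w hw, one_pow])
    funext g
    show _ = 1 - χ (φ ^ j) (g ^ k) - χ (ψ ^ j) (g ^ k) + χ ((φ * ψ) ^ j) (g ^ k)
    rw [show (φ * ψ) ^ j = φ ^ j * ψ ^ j from MonoidHom.ext fun w => by
      simp only [MonoidHom.pow_apply, MonoidHom.mul_apply, mul_pow], ← congrFun h (g ^ k)]
    simp only [Cfsg.indFun]
    congr 1
    refine Finset.sum_congr rfl fun x _ => ?_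
    have e : x⁻¹ * g ^ k * x = (x⁻¹ * g * x) ^ k := by
      have := conj_pow (a := x⁻¹) (b := g) (i := k)
      rw [inv_inv] at this
      exact this.symm
    simp only [Cfsg.extendByZero]
    rw [e]
    by_cases hy : x⁻¹ * g * x ∈ W₁ ⊔ W₂
    · obtain ⟨v, hv⟩ : ∃ v : ↥(W₁ ⊔ W₂), (v : G) = x⁻¹ * g * x := ⟨⟨_, hy⟩, rfl⟩
      rw [← hv, ← SubgroupClass.coe_pow, Subtype.val_injective.extend_apply, Subtype.val_injective.extend_apply,
        hcancel, hcancel]
    · rw [Function.extend_apply' _ _ _ (fun ⟨v, hv⟩ => hy (hv ▸ v.2)),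
        Function.extend_apply' _ _ _ (fun ⟨v, hv⟩ => hy (by
          have := pow_mem v.2 j
          rwa [hv, hbackG] at this))]
      rfl

/-- Values of the family at elements of order prime to the order of the index are integers. -/
theorem value_integral [Fintype G] (hW : Cfsg.IsSelfNormalizingCyclic W₁ W₂)
    (hodd : Odd (Nat.card ↥(W₁ ⊔ W₂))) {χ : (↥(W₁ ⊔ W₂) →* ℂˣ) → (G → ℂ)}
    (hχ : Cfsg.IsCyclicTIFamily W₁ W₂ χ) (ω : ↥(W₁ ⊔ W₂) →* ℂˣ) (g : G)
    (hg : Nat.Coprime (orderOf g) (orderOf ω)) : ∃ n : ℤ, χ ω g = n := by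
  classical
  have hωW : ω ^ Nat.card ↥(W₁ ⊔ W₂) = 1 := MonoidHom.ext fun w => by
    rw [MonoidHom.pow_apply, ← map_pow, pow_card_eq_one', map_one]; rfl
  have hωdvd : orderOf ω ∣ Nat.card G :=
    (orderOf_dvd_of_pow_eq_one (n := Nat.card ↥(W₁ ⊔ W₂)) (by convert hωW)).trans
      (Subgroup.card_subgroup_dvd_card _)
  have hn : orderOf g * orderOf ω ∣ Nat.card G :=
    hg.mul_dvd_of_dvd_of_dvd (orderOf_dvd_natCard g) hωdvd
  have hconst : ∀ k0 : ℕ, k0.Coprime (orderOf g) → χ ω (g ^ k0) = χ ω g := by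
    intro k0 hk0
    obtain ⟨r, hr1, hr2⟩ := Nat.chineseRemainder hg k0 1
    have hrc : r.Coprime (orderOf g * orderOf ω) :=
      Nat.Coprime.mul_right (show Nat.gcd r _ = 1 by rw [hr1.gcd_eq]; exact hk0)
        (show Nat.gcd r _ = 1 by rw [hr2.gcd_eq]; exact Nat.gcd_one_left _)
    have : NeZero (Nat.card G) := ⟨Nat.card_pos.ne'⟩
    obtain ⟨u, hu⟩ := ZMod.unitsMap_surjective hn (ZMod.unitOfCoprime r hrc)
    set k := ((u : ZMod (Nat.card G))).val with hkd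
    have hk : k.Coprime (Nat.card G) := ZMod.val_coe_unit_coprime u
    have hkr : k ≡ r [MOD orderOf g * orderOf ω] := by
      rw [← ZMod.natCast_eq_natCast_iff]
      have := congrArg (fun v : (ZMod (orderOf g * orderOf ω))ˣ => (v : ZMod (orderOf g * orderOf ω))) hu
      simp only [ZMod.unitsMap_def, Units.coe_map, ZMod.coe_unitOfCoprime] at this
      rw [← this, hkd, ZMod.natCast_val]
      rfl
    set j := ((↑u⁻¹ : ZMod (Nat.card G))).val with hjd
    have hjk : j * k ≡ 1 [MOD Nat.card G] := by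
      rw [← ZMod.natCast_eq_natCast_iff, Nat.cast_mul, hjd, hkd, ZMod.natCast_zmod_val,
        ZMod.natCast_zmod_val, Units.inv_mul, Nat.cast_one]
    have h1 : g ^ k = g ^ k0 := pow_eq_pow_iff_modEq.2 ((hkr.of_mul_right _).trans hr1)
    have h2 : ω ^ j = ω := by
      have hk1 : k ≡ 1 [MOD orderOf ω] := (hkr.of_mul_left _).trans hr2
      have := hjk.of_dvd hωdvd
      have h3 := (Nat.ModEq.mul_left j hk1).symm.trans this
      rw [mul_one] at h3
      refine MonoidHom.ext fun w => ?_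
      have hw : (ω w) ^ orderOf ω = 1 := DFunLike.congr_fun (pow_orderOf_eq_one ω) w
      rw [MonoidHom.pow_apply]
      exact (pow_eq_pow_iff_modEq.2 (h3.of_dvd (orderOf_dvd_of_pow_eq_one hw))).trans (pow_one _)
    rw [← h1]
    have := family_pow hW hodd hχ hk hjk ω g
    rwa [h2] at this
  obtain ⟨ξ, s, hξ, hs, hξe⟩ := signed_eq_smul (hχ.irr_or_neg ω)
  have hgen : Cfsg.IsGeneralizedCharacter G (χ ω) := by
    rcases hs with rfl | rfl
    · rw [hξe, one_smul]; exact isGeneralizedCharacter_of_isCharacter (isCharacter_of_isIrrCharacter hξ)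
    · rw [hξe, show ((-1 : ℂ) • ξ) = 0 - ξ by simp]
      exact isGeneralizedCharacter_sub isGeneralizedCharacter_zero
        (isGeneralizedCharacter_of_isCharacter (isCharacter_of_isIrrCharacter hξ))
  obtain ⟨z, hz⟩ := CharBasicCyclic.exists_int_sum_gens_zpowers g hgen
  rw [Finset.sum_congr rfl (fun a ha => show χ ω a = χ ω g by
    obtain ⟨m, hm, rfl⟩ := (CharBasicCyclic.gens_eq_image g a).1 ha
    exact hconst m hm), Finset.sum_const, nsmul_eq_mul] at hz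
  set c := (CharBasicCyclic.gens (Subgroup.zpowers g)).card with hcd
  have hc0 : (c : ℂ) ≠ 0 := by
    exact_mod_cast (Finset.card_pos.2 ⟨g, CharBasicCyclic.mem_gens.2 rfl⟩).ne'
  have hint : IsIntegral ℤ (χ ω g) := by
    rw [hξe, Pi.smul_apply, smul_eq_mul]
    refine IsIntegral.mul ?_ (isCharacter_integral (isCharacter_of_isIrrCharacter hξ) g)
    rcases hs with rfl | rfl
    · exact isIntegral_one
    · exact isIntegral_one.neg
  have hq : χ ω g = algebraMap ℚ ℂ ((z : ℚ) / c) := by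
    rw [map_div₀, map_intCast, map_natCast, eq_div_iff hc0, mul_comm]
    exact hz
  rw [hq] at hint ⊢
  obtain ⟨n, hn'⟩ := IsIntegrallyClosed.isIntegral_iff.1
    ((isIntegral_algebraMap_iff (algebraMap ℚ ℂ).injective).1 hint)
  exact ⟨n, by rw [← hn']; simp⟩

end Cfsg.Agent.CyclicTIGalois
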