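/-
Coprime action on a finite abelian group: norm map, and the order of an abelian operator group.
-/
import Mathlib

set_option autoImplicit false
set_option linter.unusedSectionVars false
set_option linter.style.haveILetI false

namespace Cfsg.Agent.PF13Alg8

variable {P : Type*} [CommGroup P] [Finite P] {R : Type*} [Group R] [Fintype R]

/-- The norm map of an operator group. -/
noncomputable def normHom (ρ : R →* MulAut P) : P →* P where
  toFun y := ∏ r : R, ρ r y
  map_one' := Finset.prod_eq_one fun r _ => map_one _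
  map_mul' x y := by simp only [map_mul, Finset.prod_mul_distrib]

theorem normHom_apply (ρ : R →* MulAut P) (y : P) : normHom ρ y = ∏ r : R, ρ r y := rfl

theorem normHom_fixed (ρ : R →* MulAut P) (y : P) (s : R) : ρ s (normHom ρ y) = normHom ρ y := by
  rw [normHom_apply, map_prod]
  refine Fintype.prod_equiv (Equiv.mulLeft s) _ _ fun r => ?_
  rw [Equiv.coe_mulLeft, map_mul]
  rfl

theorem normHom_of_fixed (ρ : R →* MulAut P) {y : P} (h : ∀ r, ρ r y = y) :
    normHom ρ y = y ^ Nat.card R := by
  rw [normHom_apply, Finset.prod_congr rfl fun r _ => h r, Finset.prod_const, Finset.card_univ,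
    Nat.card_eq_fintype_card]

theorem eq_one_of_pow_card {y : P} (hcop : (Nat.card R).Coprime (Nat.card P)) (h : y ^ Nat.card R = 1) :
    y = 1 := by
  have h1 : orderOf y ∣ Nat.gcd (Nat.card R) (Nat.card P) :=
    Nat.dvd_gcd (orderOf_dvd_of_pow_eq_one h) (orderOf_dvd_natCard y)
  rw [hcop, Nat.dvd_one, orderOf_eq_one_iff] at h1
  exact h1

/-- An invariant character is trivial when there are no fixed points. -/
theorem hom_eq_one {M : Type*} [CommMonoid M] (ρ : R →* MulAut P) (hcop : (Nat.card R).Coprime (Nat.card P))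
    (hfix : ∀ y : P, (∀ r, ρ r y = y) → y = 1) (f : P →* M) (hf : ∀ r y, f (ρ r y) = f y) (y : P) :
    f y = 1 := by
  have h : f (normHom ρ y) = f y ^ Nat.card R := by
    rw [normHom_apply, map_prod, Finset.prod_congr rfl fun r _ => hf r y, Finset.prod_const, Finset.card_univ,
      Nat.card_eq_fintype_card]
  rw [hfix _ (normHom_fixed ρ y), map_one] at h
  obtain ⟨t, ht⟩ := exists_pow_eq_self_of_coprime (x := y) (n := Nat.card R)
    (hcop.coprime_dvd_right (orderOf_dvd_natCard y))
  rw [← ht, map_pow, map_pow, ← h, one_pow]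

/-- An element fixed up to a common multiple: `y ↦ ρ s y * y⁻¹` kills only fixed points. -/
theorem fixed_of_normHom_mul (ρ : R →* MulAut P) (hcop : (Nat.card R).Coprime (Nat.card P)) {y : P}
    (hfix : ∀ r, ρ r y = y) (hN : normHom ρ y = 1) : y = 1 :=
  eq_one_of_pow_card hcop (by rw [← normHom_of_fixed ρ hfix, hN])

section Bound

variable {B : Type*} [CommGroup B] [Finite B]

/-- The operators fixing a subgroup pointwise. -/
def fixer (ρ : B →* MulAut P) (X : Subgroup P) : Subgroup B where
  carrier := {b | ∀ x ∈ X, ρ b x = x}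
  one_mem' x _ := by simp
  mul_mem' {a b} ha hb x hx := by rw [map_mul, MulAut.mul_apply, hb x hx, ha x hx]
  inv_mem' {a} ha x hx := by
    conv_lhs => rw [← ha x hx]
    rw [map_inv, MulAut.inv_apply_self]

theorem index_fixer_le (ρ : B →* MulAut P) (hcop : (Nat.card B).Coprime (Nat.card P)) :
    ∀ (n : ℕ) (X : Subgroup P), Nat.card X ≤ n → (∀ b, ∀ x ∈ X, ρ b x ∈ X) →
      (fixer ρ X).index ≤ max 1 (Nat.card X - 1) := by
  classical
  intro n
  induction n using Nat.strong_induction_on with
  | _ n ih =>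
  intro X hXn hX
  by_cases hbot : X = ⊥
  · have : fixer ρ X = ⊤ := top_unique fun b _ x hx => by
      subst hbot; rw [Subgroup.mem_bot.1 hx, map_one]
    rw [this, Subgroup.index_top]; exact le_max_left _ _
  obtain ⟨x, hx, hx1⟩ := X.bot_or_exists_ne_one.resolve_left hbot
  let S : Subgroup B :=
    { carrier := {b | ρ b x = x}
      one_mem' := by simp
      mul_mem' := fun {a b} ha hb => by
        simp only [Set.mem_ofPred_eq] at ha hb ⊢
        rw [map_mul, MulAut.mul_apply, hb, ha]
      inv_mem' := fun {a} ha => by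
        simp only [Set.mem_ofPred_eq] at ha ⊢
        conv_lhs => rw [← ha]
        rw [map_inv, MulAut.inv_apply_self] }
  have hle : fixer ρ X ≤ S := fun b hb => hb x hx
  by_cases hS : S = fixer ρ X
  · refine le_trans ?_ (le_max_right _ _)
    rw [← hS]
    let f : B ⧸ S → {y : X // (y : P) ≠ 1} := fun b => Quotient.liftOn' b
      (fun b => ⟨⟨ρ b x, hX b x hx⟩, fun h => hx1 ((ρ b).injective (h.trans (map_one _).symm))⟩)
      (fun a b h => by
        rw [QuotientGroup.leftRel_apply] at h
        refine Subtype.ext (Subtype.ext ?_)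
        have h' : ρ (a⁻¹ * b) x = x := h
        show ρ a x = ρ b x
        conv_lhs => rw [← h', ← MulAut.mul_apply, ← map_mul, mul_inv_cancel_left])
    have hf : Function.Injective f := by
      intro a b
      induction a using QuotientGroup.induction_on with
      | _ a =>
      induction b using QuotientGroup.induction_on with
      | _ b =>
      intro h
      have h' : ρ a x = ρ b x := congrArg (fun z => ((z.1 : X) : P)) h
      rw [QuotientGroup.eq]
      show ρ (a⁻¹ * b) x = x
      rw [map_mul, MulAut.mul_apply, ← h', map_inv, MulAut.inv_apply_self]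
    refine (Nat.card_le_card_of_injective f hf).trans (le_of_eq ?_)
    have hc : Nat.card {y : X // (y : P) ≠ 1} + 1 = Nat.card X := by
      haveI := Fintype.ofFinite X
      rw [Nat.card_eq_fintype_card, Nat.card_eq_fintype_card, Fintype.card_subtype,
        show (Finset.univ.filter fun y : X => (y : P) ≠ 1) = Finset.univ.erase 1 by ext y; simp,
        Finset.card_erase_of_mem (Finset.mem_univ _), Finset.card_univ]
      have := Fintype.card_pos (α := X)
      omega
    omega
  · haveI := Fintype.ofFinite S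
    have hcS : (Nat.card S).Coprime (Nat.card P) := hcop.coprime_dvd_left (Subgroup.card_subgroup_dvd_card S)
    let σ : S →* MulAut P := ρ.comp S.subtype
    have hcomm : ∀ (b : B) (s : S) (y : P), ρ s (ρ b y) = ρ b (ρ s y) := fun b s y => by
      rw [← MulAut.mul_apply, ← map_mul, mul_comm, map_mul, MulAut.mul_apply]
    let Y : Subgroup P :=
      { carrier := {y | y ∈ X ∧ ∀ s : S, ρ s y = y}
        one_mem' := ⟨X.one_mem, fun s => map_one _⟩
        mul_mem' := fun {a b} ha hb => ⟨X.mul_mem ha.1 hb.1, fun s => by rw [map_mul, ha.2 s, hb.2 s]⟩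
        inv_mem' := fun {a} ha => ⟨X.inv_mem ha.1, fun s => by rw [map_inv, ha.2 s]⟩ }
    let Z : Subgroup P := X ⊓ (normHom σ).ker
    have hYi : ∀ b, ∀ y ∈ Y, ρ b y ∈ Y := fun b y hy => ⟨hX b y hy.1, fun s => by rw [hcomm, hy.2 s]⟩
    have hZi : ∀ b, ∀ y ∈ Z, ρ b y ∈ Z := fun b y hy => ⟨hX b y hy.1, by
      show normHom σ (ρ b y) = 1
      rw [normHom_apply, Finset.prod_congr rfl fun s _ => show σ s (ρ b y) = ρ b (σ s y) from hcomm b s y,
        ← map_prod, ← normHom_apply, (show normHom σ y = 1 from hy.2), map_one]⟩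
    have hXN : ∀ y ∈ X, normHom σ y ∈ Y := fun y hy => ⟨by
      rw [normHom_apply]; exact prod_mem fun s _ => hX s y hy, fun s => normHom_fixed σ y s⟩
    have hprod : ∀ y ∈ X, ∃ a ∈ Y, ∃ c ∈ Z, y = a * c := by
      intro y hy
      obtain ⟨t, ht⟩ := exists_pow_eq_self_of_coprime (x := normHom σ y) (n := Nat.card S)
        (hcS.coprime_dvd_right (orderOf_dvd_natCard _))
      refine ⟨normHom σ y ^ t, Y.pow_mem (hXN y hy) t, (normHom σ y ^ t)⁻¹ * y,
        ⟨X.mul_mem (X.inv_mem (X.pow_mem (hXN y hy).1 t)) hy, ?_⟩, by rw [mul_inv_cancel_left]⟩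
      show normHom σ ((normHom σ y ^ t)⁻¹ * y) = 1
      rw [map_mul, map_inv, normHom_of_fixed σ (fun r => (Y.pow_mem (hXN y hy) t).2 r), ← pow_mul,
        mul_comm t, pow_mul, ht, inv_mul_cancel]
    have hYX : Y < X := by
      refine lt_of_le_of_ne (fun y hy => hy.1) fun e => hS (le_antisymm (fun s hs y hy => ?_) hle)
      rw [← e] at hy
      exact hy.2 ⟨s, hs⟩
    have hxY : x ∈ Y := ⟨hx, fun s => s.2⟩
    have hZX : Z < X := by
      refine lt_of_le_of_ne inf_le_left fun e => hx1 ?_
      have hxZ : x ∈ Z := e ▸ hx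
      exact fixed_of_normHom_mul σ hcS (fun r => hxY.2 r) hxZ.2
    have hd : Y ⊓ Z = ⊥ := eq_bot_iff.2 fun y hy => Subgroup.mem_bot.2
      (fixed_of_normHom_mul σ hcS (fun r => hy.1.2 r) hy.2.2)
    have hcard : Nat.card X = Nat.card Y * Nat.card Z := by
      rw [← Nat.card_prod]
      refine (Nat.card_eq_of_bijective (fun p : Y × Z => (⟨p.1 * p.2, X.mul_mem p.1.2.1 p.2.2.1⟩ : X))
        ⟨?_, ?_⟩).symm
      · rintro ⟨a, c⟩ ⟨a', c'⟩ h
        have h' : (a : P) * c = a' * c' := congrArg Subtype.val h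
        have e : (a : P)⁻¹ * a' = c * (c' : P)⁻¹ := by
          rw [eq_mul_inv_iff_mul_eq, mul_assoc, ← h', inv_mul_cancel_left]
        have : (a : P)⁻¹ * a' ∈ Y ⊓ Z :=
          ⟨Y.mul_mem (Y.inv_mem a.2) a'.2, e ▸ Z.mul_mem c.2 (Z.inv_mem c'.2)⟩
        rw [hd, Subgroup.mem_bot] at this
        have ha : a = a' := Subtype.ext (inv_mul_eq_one.1 this)
        subst ha
        rw [Prod.mk.injEq]
        exact ⟨rfl, Subtype.ext (mul_left_cancel h')⟩
      · rintro ⟨y, hy⟩
        obtain ⟨a, ha, c, hc, rfl⟩ := hprod y hy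
        exact ⟨(⟨a, ha⟩, ⟨c, hc⟩), rfl⟩
    have hY2 : 2 ≤ Nat.card Y := Y.one_lt_card_iff_ne_bot.2 fun e => hx1 (Subgroup.mem_bot.1 (e ▸ hxY))
    have hlt : ∀ V : Subgroup P, V < X → Nat.card V < n := fun V hV => lt_of_lt_of_le
      (lt_of_le_of_ne (Subgroup.card_le_card_group V |> fun _ => Subgroup.card_le_of_le hV.le)
        fun e => hV.ne (Subgroup.eq_of_le_of_card_ge hV.le e.ge)) hXn
    have hZ2 : 2 ≤ Nat.card Z := by
      by_contra h
      have h1 : Nat.card Z = 1 := by have := Nat.card_pos (α := Z); omega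
      rw [h1, mul_one] at hcard
      exact hYX.ne (Subgroup.eq_of_le_of_card_ge hYX.le hcard.le)
    have i1 := ih _ (hlt Y hYX) Y le_rfl hYi
    have i2 := ih _ (hlt Z hZX) Z le_rfl hZi
    have hinf : fixer ρ Y ⊓ fixer ρ Z ≤ fixer ρ X := fun b hb y hy => by
      obtain ⟨a, ha, c, hc, rfl⟩ := hprod y hy
      rw [map_mul, hb.1 a ha, hb.2 c hc]
    refine le_trans ((Nat.le_of_dvd (Nat.pos_of_ne_zero Subgroup.index_ne_zero_of_finite)
      (Subgroup.index_dvd_of_le hinf)).trans Subgroup.index_inf_le) (le_trans ?_ (le_max_right _ _))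
    refine le_trans (Nat.mul_le_mul i1 i2) ?_
    rw [max_eq_right (by omega), max_eq_right (by omega), hcard]
    obtain ⟨a, ha⟩ : ∃ a, Nat.card Y = a + 1 := ⟨Nat.card Y - 1, by omega⟩
    obtain ⟨c, hc⟩ : ∃ c, Nat.card Z = c + 1 := ⟨Nat.card Z - 1, by omega⟩
    rw [ha, hc]
    simp only [add_tsub_cancel_right]
    have : (a + 1) * (c + 1) = a * c + a + c + 1 := by ring
    omega

/-- A faithful abelian operator group of coprime order is smaller than the group. -/
theorem card_lt_of_faithful (ρ : B →* MulAut P) (hcop : (Nat.card B).Coprime (Nat.card P))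
    (hinj : Function.Injective ρ) (hP : 1 < Nat.card P) : Nat.card B < Nat.card P := by
  have h := index_fixer_le ρ hcop (Nat.card (⊤ : Subgroup P)) ⊤ le_rfl (fun _ _ _ => Subgroup.mem_top _)
  have e : fixer ρ ⊤ = ⊥ := eq_bot_iff.2 fun b hb => Subgroup.mem_bot.2 (hinj (by
    ext y; rw [map_one, MulAut.one_apply]; exact hb y (Subgroup.mem_top y)))
  rw [e, Subgroup.index_bot, Subgroup.card_top] at h
  omega

end Bound

end Cfsg.Agent.PF13Alg8
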