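/-
Congruences of algebraic integers modulo the radical of a prime, and congruences of character values.
-/
import Mathlib
import Cfsg.Prelude.Def_Blocks
import Cfsg.Agent.Lib.CharBasicDecomp

set_option autoImplicit false
set_option linter.style.haveILetI false

open scoped ComplexConjugate

namespace Cfsg.Agent.PF13Congr8

open CharBasic CharBasicOrth CharBasicDecomp

/-- The radical of the ideal generated by `q` in the algebraic integers. -/
noncomputable def radIdeal (q : ℕ) : Ideal Cfsg.AlgInt := (Ideal.span {(q : Cfsg.AlgInt)}).radical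

/-- `z` is an algebraic integer some power of which is divisible by `q`. -/
def Nul (q : ℕ) (z : ℂ) : Prop := ∃ r : Cfsg.AlgInt, (r : ℂ) = z ∧ r ∈ radIdeal q

variable {q : ℕ} {z w : ℂ}

theorem Nul.zero : Nul q 0 := ⟨0, by simp, zero_mem _⟩

theorem Nul.add (h : Nul q z) (h' : Nul q w) : Nul q (z + w) := by
  obtain ⟨r, rfl, hr⟩ := h
  obtain ⟨s, rfl, hs⟩ := h'
  exact ⟨r + s, by simp, add_mem hr hs⟩

theorem Nul.neg (h : Nul q z) : Nul q (-z) := by
  obtain ⟨r, rfl, hr⟩ := h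
  exact ⟨-r, by simp, neg_mem hr⟩

theorem Nul.sub (h : Nul q z) (h' : Nul q w) : Nul q (z - w) := sub_eq_add_neg z w ▸ h.add h'.neg

theorem Nul.mul_left (h : Nul q z) (hw : IsIntegral ℤ w) : Nul q (w * z) := by
  obtain ⟨r, rfl, hr⟩ := h
  exact ⟨⟨w, hw⟩ * r, by simp, Ideal.mul_mem_left _ _ hr⟩

theorem Nul.sum {ι : Type*} (s : Finset ι) {f : ι → ℂ} (h : ∀ i ∈ s, Nul q (f i)) : Nul q (∑ i ∈ s, f i) := by
  classical
  induction s using Finset.induction_on with
  | empty => simpa using Nul.zero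
  | @insert a s ha ih =>
    rw [Finset.sum_insert ha]
    exact (h a (Finset.mem_insert_self a s)).add (ih fun i hi => h i (Finset.mem_insert_of_mem hi))

theorem Nul.congr (h : Nul q z) (e : z = w) : Nul q w := e ▸ h

theorem nul_self (q : ℕ) : Nul q (q : ℂ) :=
  ⟨(q : Cfsg.AlgInt), by simp, Ideal.le_radical (Ideal.mem_span_singleton_self _)⟩

theorem nul_int (hq : q.Prime) {n : ℤ} : Nul q (n : ℂ) ↔ (q : ℤ) ∣ n := by
  constructor
  · rintro ⟨r, hr, hI⟩
    obtain ⟨k, hk⟩ := hI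
    obtain ⟨s, hs⟩ := Ideal.mem_span_singleton'.1 hk
    have hc : ((n : ℂ)) ^ k = (s : ℂ) * (q : ℂ) := by
      rw [← hr]
      have := congrArg (Subtype.val : Cfsg.AlgInt → ℂ) hs
      simpa using this.symm
    have hq0 : (q : ℂ) ≠ 0 := Nat.cast_ne_zero.2 hq.ne_zero
    have hsi : IsIntegral ℤ (algebraMap ℚ ℂ ((n : ℚ) ^ k / q)) := by
      have e : algebraMap ℚ ℂ ((n : ℚ) ^ k / q) = (s : ℂ) := by
        rw [map_div₀, map_pow, map_intCast, map_natCast, hc, mul_div_assoc, div_self hq0, mul_one]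
      rw [e]; exact s.2
    obtain ⟨t, ht⟩ := IsIntegrallyClosed.isIntegral_iff.1
      ((isIntegral_algebraMap_iff (algebraMap ℚ ℂ).injective).1 hsi)
    have : n ^ k = t * q := by
      have h0 : (q : ℚ) ≠ 0 := Nat.cast_ne_zero.2 hq.ne_zero
      have h1 := ht.symm
      rw [div_eq_iff h0] at h1
      simp only [eq_intCast] at h1
      exact_mod_cast h1
    exact Int.Prime.dvd_pow' hq ⟨t, by rw [this, mul_comm]⟩
  · rintro ⟨t, rfl⟩
    have := (nul_self q).mul_left (w := (t : ℂ)) (isIntegral_algebraMap (R := ℤ) (A := ℂ) (x := t))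
    exact this.congr (by push_cast; ring)

theorem nul_of_mul_int (hq : q.Prime) {n : ℤ} (hn : ¬ (q : ℤ) ∣ n) (hz : IsIntegral ℤ z)
    (h : Nul q ((n : ℂ) * z)) : Nul q z := by
  have hg : Int.gcd n q = 1 := by
    rw [Int.gcd_comm]
    exact Int.isCoprime_iff_gcd_eq_one.1 ((Nat.prime_iff_prime_int.1 hq).coprime_iff_not_dvd.2 hn)
  obtain ⟨a, b, hab⟩ : ∃ a b : ℤ, a * n + b * q = 1 := by
    have := Int.gcd_eq_gcd_ab n q
    rw [hg] at this
    exact ⟨Int.gcdA n q, Int.gcdB n q, by push_cast at this; linarith⟩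
  have hi : ∀ t : ℤ, IsIntegral ℤ (t : ℂ) := fun t => isIntegral_algebraMap (x := t)
  refine ((h.mul_left (hi a)).add ((nul_self q).mul_left ((hi b).mul hz))).congr ?_
  have : (a : ℂ) * n + b * q = 1 := by exact_mod_cast hab
  linear_combination z * this

/-- An eigenvalue identity after raising to a power of `q` gives a congruence. -/
theorem nul_sub_of_pow (hq : q.Prime) {a b : ℂ} (ha : IsIntegral ℤ a) (hb : IsIntegral ℤ b) {e : ℕ}
    (h : a ^ q ^ e = b ^ q ^ e) : Nul q (a - b) := by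
  let A : Cfsg.AlgInt := ⟨a, ha⟩
  let B : Cfsg.AlgInt := ⟨b, hb⟩
  refine ⟨A - B, by simp [A, B], ⟨q ^ e, ?_⟩⟩
  by_cases htop : Ideal.span {(q : Cfsg.AlgInt)} = ⊤
  · rw [htop]; trivial
  haveI : Nontrivial (Cfsg.AlgInt ⧸ Ideal.span {(q : Cfsg.AlgInt)}) := Ideal.Quotient.nontrivial_iff.2 htop
  haveI : Fact q.Prime := ⟨hq⟩
  haveI : CharP (Cfsg.AlgInt ⧸ Ideal.span {(q : Cfsg.AlgInt)}) q := by
    rw [CharP.charP_iff_prime_eq_zero hq, ← map_natCast (Ideal.Quotient.mk _)]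
    exact Ideal.Quotient.eq_zero_iff_mem.2 (Ideal.mem_span_singleton_self _)
  rw [← Ideal.Quotient.eq_zero_iff_mem, map_pow, map_sub, sub_pow_char_pow, ← map_pow, ← map_pow,
    show A ^ q ^ e = B ^ q ^ e from Subtype.ext (by simpa [A, B] using h), sub_self]

variable {G : Type*} [Group G] [Finite G]

theorem char_congr (hq : q.Prime) {χ : G → ℂ} (hχ : Cfsg.IsCharacter G χ) {g : G} {k e : ℕ}
    (h : g ^ (k * q ^ e) = g ^ (q ^ e)) : Nul q (χ (g ^ k) - χ g) := by
  obtain ⟨n, ρ, rfl⟩ := hχ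
  obtain ⟨b, μ, -, h2, -, h4⟩ := exists_rep_eigenbasis ρ g
  have hg : ρ.character g = ∑ i, μ i := by simpa using h4 1
  rw [h4, hg, ← Finset.sum_sub_distrib]
  refine Nul.sum _ fun i _ => ?_
  have hint : IsIntegral ℤ (μ i) :=
    IsIntegral.of_pow (isOfFinOrder_of_finite g).orderOf_pos (by rw [h2]; exact isIntegral_one)
  refine nul_sub_of_pow (e := e) hq (hint.pow k) hint ?_
  rw [← pow_mul]
  have h0 := pow_eq_pow_iff_modEq.1 h
  rw [pow_eq_pow_mod (k * q ^ e) (h2 i), pow_eq_pow_mod (q ^ e) (h2 i), h0]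

theorem genchar_congr (hq : q.Prime) {θ : G → ℂ} (hθ : Cfsg.IsGeneralizedCharacter G θ) {g : G} {k e : ℕ}
    (h : g ^ (k * q ^ e) = g ^ (q ^ e)) : Nul q (θ (g ^ k) - θ g) := by
  obtain ⟨a, b, ha, hb, rfl⟩ := hθ
  exact ((char_congr hq ha h).sub (char_congr hq hb h)).congr (by simp only [Pi.sub_apply]; ring)

/-- Commuting `x`, `y` with `x` of order dividing `q` and `y` of order prime to `q`. -/
theorem genchar_congr_mul (hq : q.Prime) {θ : G → ℂ} (hθ : Cfsg.IsGeneralizedCharacter G θ) {x y : G}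
    (hxy : Commute x y) (hx : x ^ q = 1) (hy : Nat.Coprime q (orderOf y)) : Nul q (θ y - θ (x * y)) := by
  obtain ⟨k, hk1, hk2⟩ := Nat.chineseRemainder hy 0 1
  have hkx : x ^ k = 1 := by
    obtain ⟨t, ht⟩ := Nat.modEq_zero_iff_dvd.1 hk1
    rw [ht, pow_mul, hx, one_pow]
  have hky : y ^ k = y := (pow_eq_pow_iff_modEq.2 hk2).trans (pow_one y)
  have hpow : (x * y) ^ k = y := by rw [hxy.mul_pow, hkx, hky, one_mul]
  have := genchar_congr hq hθ (g := x * y) (k := k) (e := 1) (by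
    rw [pow_one, pow_mul, hpow, hxy.mul_pow, hx, one_mul])
  rwa [hpow] at this

end Cfsg.Agent.PF13Congr8
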