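/-
Norm lower bounds for virtual characters on an abelian TI subgroup `K` carrying an operator group `A` of
prime order with fixed points `B`.
-/
import Mathlib
import Cfsg.Agent.Lib.PF13Congr8
import Cfsg.Agent.Lib.PF13Alg8
import Cfsg.Agent.Lib.CyclicTIFamily

set_option autoImplicit false
set_option linter.unusedSectionVars false
set_option linter.style.haveILetI false

open scoped ComplexConjugate

namespace Cfsg.Agent.PF13Mass8

open CharBasic CharBasicOrth CharBasicDecomp PF13Congr8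

/-- A function taking two different values on two blocks has large variance. -/
theorem variance_bound {ι : Type*} [Fintype ι] [DecidableEq ι] (f : ι → ℤ) (A B : Finset ι)
    (hd : Disjoint A B) {a b : ℤ} (ha : ∀ i ∈ A, f i = a) (hb : ∀ i ∈ B, f i = b) (hab : a ≠ b)
    (hle : A.card ≤ B.card) :
    (A.card : ℤ) * ((Fintype.card ι : ℤ) - A.card) ≤ (Fintype.card ι : ℤ) * ∑ i, f i ^ 2 - (∑ i, f i) ^ 2 := by
  set C := (A ∪ B)ᶜ with hC
  have hsplit : ∀ g : ι → ℤ, ∑ i, g i = ∑ i ∈ A, g i + ∑ i ∈ B, g i + ∑ i ∈ C, g i := fun g => by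
    rw [← Finset.sum_add_sum_compl (A ∪ B), Finset.sum_union hd]
  have hN : (Fintype.card ι : ℤ) = A.card + B.card + C.card := by
    have := hsplit fun _ => 1
    simpa using this
  set D : ι → ι → ℤ := fun i j => (f i - f j) ^ 2 with hD
  have hid : ∑ i, ∑ j, D i j = 2 * ((Fintype.card ι : ℤ) * ∑ i, f i ^ 2 - (∑ i, f i) ^ 2) := by
    have e : ∀ i, ∑ j, D i j = (Fintype.card ι : ℤ) * f i ^ 2 - 2 * f i * ∑ j, f j + ∑ j, f j ^ 2 := by
      intro i
      simp only [hD, sub_sq]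
      rw [Finset.sum_add_distrib, Finset.sum_sub_distrib, Finset.sum_const, Finset.card_univ, nsmul_eq_mul,
        ← Finset.mul_sum]
    simp only [e]
    rw [Finset.sum_add_distrib, Finset.sum_sub_distrib, Finset.sum_const, Finset.card_univ, nsmul_eq_mul,
      ← Finset.mul_sum, ← Finset.sum_mul, ← Finset.mul_sum]
    ring
  have h1 : 1 ≤ (a - b) ^ 2 := by
    have : a - b ≠ 0 := sub_ne_zero.2 hab
    have := sq_pos_of_ne_zero this
    omega
  have hAB : (A.card : ℤ) * B.card ≤ ∑ i ∈ A, ∑ j ∈ B, D i j := by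
    calc (A.card : ℤ) * B.card = ∑ _i ∈ A, ∑ _j ∈ B, (1 : ℤ) := by simp
      _ ≤ _ := Finset.sum_le_sum fun i hi => Finset.sum_le_sum fun j hj => by
        simp only [hD, ha i hi, hb j hj]; exact h1
  have hBA : (A.card : ℤ) * B.card ≤ ∑ i ∈ B, ∑ j ∈ A, D i j := by
    calc (A.card : ℤ) * B.card = ∑ _i ∈ B, ∑ _j ∈ A, (1 : ℤ) := by simp; ring
      _ ≤ _ := Finset.sum_le_sum fun i hi => Finset.sum_le_sum fun j hj => by
        simp only [hD, hb i hi, ha j hj]; rw [← neg_sub, neg_sq]; exact h1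
  have key : ∀ z : ℤ, (A.card : ℤ) ≤ A.card * (a - z) ^ 2 + B.card * (b - z) ^ 2 := by
    intro z
    have hle' : (A.card : ℤ) ≤ B.card := by exact_mod_cast hle
    rcases eq_or_ne a z with rfl | h
    · have h1' : 1 ≤ (b - a) ^ 2 := by rw [← neg_sub, neg_sq]; exact h1
      nlinarith
    · have : 1 ≤ (a - z) ^ 2 := by
        have := sq_pos_of_ne_zero (sub_ne_zero.2 h)
        omega
      nlinarith [sq_nonneg (b - z)]
  have hC1 : (A.card : ℤ) * C.card ≤ ∑ i ∈ A, ∑ j ∈ C, D i j + ∑ i ∈ B, ∑ j ∈ C, D i j := by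
    rw [Finset.sum_comm, Finset.sum_comm (s := B), ← Finset.sum_add_distrib]
    calc (A.card : ℤ) * C.card = ∑ _j ∈ C, (A.card : ℤ) := by simp; ring
      _ ≤ _ := Finset.sum_le_sum fun j _ => by
        rw [Finset.sum_congr rfl fun i hi => show D i j = (a - f j) ^ 2 by simp only [hD, ha i hi],
          Finset.sum_congr (s₁ := B) rfl fun i hi => show D i j = (b - f j) ^ 2 by simp only [hD, hb i hi],
          Finset.sum_const, Finset.sum_const, nsmul_eq_mul, nsmul_eq_mul]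
        exact key (f j)
  have hsym : ∀ s t : Finset ι, ∑ i ∈ s, ∑ j ∈ t, D i j = ∑ i ∈ t, ∑ j ∈ s, D i j := fun s t => by
    rw [Finset.sum_comm]
    exact Finset.sum_congr rfl fun i _ => Finset.sum_congr rfl fun j _ => by simp only [hD]; ring
  have hnn : ∀ s t : Finset ι, 0 ≤ ∑ i ∈ s, ∑ j ∈ t, D i j := fun s t =>
    Finset.sum_nonneg fun i _ => Finset.sum_nonneg fun j _ => sq_nonneg _
  rw [hsplit (fun i => ∑ j, D i j)] at hid
  simp only [fun i => hsplit (D i), Finset.sum_add_distrib] at hid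
  rw [hsym C A, hsym C B] at hid
  have := hnn A A
  have := hnn B B
  have := hnn C C
  rw [hN] at hid ⊢
  linarith

variable {G : Type*} [Group G]

/-- An abelian TI subgroup `K` with normaliser `S` and an operator subgroup `A` of prime order coprime to it. -/
structure Side (S K A B : Subgroup G) (q : ℕ) : Prop where
  ab : ∀ x ∈ K, ∀ y ∈ K, x * y = y * x
  le : K ≤ S
  conjK : ∀ s ∈ S, ∀ k ∈ K, s * k * s⁻¹ ∈ K
  ti : ∀ g k : G, k ∈ K → k ≠ 1 → g * k * g⁻¹ ∈ K → g ∈ S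
  hq : q.Prime
  cardA : Nat.card A = q
  leA : A ≤ S
  cop : q.Coprime (Nat.card K)
  leB : B ≤ K
  commAB : ∀ a ∈ A, ∀ b ∈ B, a * b = b * a
  fix : ∀ k ∈ K, (∀ a ∈ A, a * k = k * a) → k ∈ B
  stab : ∀ φ : ↥K →* ℂˣ, (∃ b : ↥K, (b : G) ∈ B ∧ φ b ≠ 1) →
    (∀ a ∈ A, ∀ k k' : ↥K, (k' : G) = a * k * a⁻¹ → φ k' = φ k) →
    ∀ s ∈ S, (∀ k k' : ↥K, (k' : G) = s * k * s⁻¹ → φ k' = φ k) → s ∈ K ⊔ A

variable {S K A B : Subgroup G} {q : ℕ}

/-- Conjugation as a homomorphism into the automorphisms of `K`. -/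
def conjAut (h : Side S K A B q) : ↥S →* MulAut ↥K where
  toFun s :=
    { toFun := fun k => ⟨s * k * (s : G)⁻¹, h.conjK s s.2 k k.2⟩
      invFun := fun k => ⟨(s : G)⁻¹ * k * s, by simpa using h.conjK _ (S.inv_mem s.2) k k.2⟩
      left_inv := fun k => Subtype.ext (by simp [mul_assoc])
      right_inv := fun k => Subtype.ext (by simp [mul_assoc])
      map_mul' := fun k k' => Subtype.ext (by simp [mul_assoc]) }
  map_one' := by ext k; simp
  map_mul' s t := by ext k; simp [mul_assoc]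

theorem conjAut_coe (h : Side S K A B q) (s : ↥S) (k : ↥K) :
    ((conjAut h s k : ↥K) : G) = s * k * (s : G)⁻¹ := rfl

/-- The action on linear characters of `K`. -/
def act (h : Side S K A B q) (s : ↥S) (φ : ↥K →* ℂˣ) : ↥K →* ℂˣ := φ.comp (conjAut h s⁻¹).toMonoidHom

theorem act_apply (h : Side S K A B q) (s : ↥S) (φ : ↥K →* ℂˣ) (k : ↥K) :
    act h s φ k = φ (conjAut h s⁻¹ k) := rfl

/-- The action on linear characters of `K`, bundled. -/
@[instance_reducible]
def charAction (h : Side S K A B q) : MulAction ↥S (↥K →* ℂˣ) where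
  smul s φ := act h s φ
  one_smul φ := MonoidHom.ext fun k => by
    show φ (conjAut h 1⁻¹ k) = φ k
    rw [inv_one, map_one]; rfl
  mul_smul s t φ := MonoidHom.ext fun k => by
    show φ (conjAut h (s * t)⁻¹ k) = φ (conjAut h t⁻¹ (conjAut h s⁻¹ k))
    rw [mul_inv_rev, map_mul]; rfl

variable [Fintype G]

theorem exists_gen (h : Side S K A B q) : ∃ a ∈ A, A = Subgroup.zpowers a ∧ orderOf a = q := by
  haveI := Fact.mk h.hq
  have hne : A ≠ ⊥ := fun e => by
    have := h.cardA; rw [e, Subgroup.card_bot] at this; exact h.hq.one_lt.ne this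
  obtain ⟨a, ha, ha1⟩ := A.bot_or_exists_ne_one.resolve_left hne
  have ho : orderOf a = q :=
    ((Nat.dvd_prime h.hq).1 (h.cardA ▸ A.orderOf_dvd_natCard ha)).resolve_left (by simpa using ha1)
  exact ⟨a, ha, (Subgroup.eq_of_le_of_card_ge (Subgroup.zpowers_le.2 ha)
    (by rw [Nat.card_zpowers, ho, h.cardA])).symm, ho⟩

/-- The inclusion of the operator group into `S`. -/
def inclA (h : Side S K A B q) : ↥A →* MulAut ↥K := (conjAut h).comp (Subgroup.inclusion h.leA)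

open Classical in
/-- The extension of a character of `B` fixed by `A`. -/
theorem exists_ext (h : Side S K A B q) (ψ : ↥B →* ℂˣ) :
    ∃ φ : ↥K →* ℂˣ, (∀ s : ↥S, (s : G) ∈ A → act h s φ = φ) ∧
      ∀ b : ↥B, φ (Subgroup.inclusion h.leB b) = ψ b := by
  letI : CommGroup ↥K := { (inferInstance : Group ↥K) with mul_comm := fun x y => Subtype.ext (h.ab x x.2 y y.2) }
  haveI : Fintype ↥A := Fintype.ofFinite _
  obtain ⟨t, ht⟩ : ∃ t, Nat.card A * t ≡ 1 [MOD Nat.card K] := by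
    obtain ⟨x, hx0, hx1⟩ := Nat.chineseRemainder (h.cardA ▸ h.cop : (Nat.card A).Coprime (Nat.card K)) 0 1
    obtain ⟨t, rfl⟩ := Nat.modEq_zero_iff_dvd.1 hx0
    exact ⟨t, hx1⟩
  let N : ↥K →* ↥K := PF13Alg8.normHom (inclA h)
  have hN : ∀ k, (N k : G) ∈ B := fun k => h.fix _ (N k).2 fun a ha => by
    have := congrArg (Subtype.val : ↥K → G) (PF13Alg8.normHom_fixed (inclA h) k ⟨a, ha⟩)
    exact mul_inv_eq_iff_eq_mul.1 this
  let NB : ↥K →* ↥B := (K.subtype.comp N).codRestrict B hN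
  refine ⟨(powMonoidHom t).comp (ψ.comp NB), fun s hs => MonoidHom.ext fun k => ?_, fun b => ?_⟩
  · rw [act_apply]
    show ψ (NB (conjAut h s⁻¹ k)) ^ t = ψ (NB k) ^ t
    have hNk : N (conjAut h s⁻¹ k) = N k := by
      show ∏ r : ↥A, inclA h r (conjAut h s⁻¹ k) = ∏ r : ↥A, inclA h r k
      refine Fintype.prod_equiv (Equiv.mulRight (⟨(s : G)⁻¹, A.inv_mem hs⟩ : ↥A)) _ _ fun r => ?_
      rw [Equiv.coe_mulRight]
      refine Subtype.ext ?_
      show (r : G) * ((conjAut h s⁻¹ k : ↥K) : G) * (r : G)⁻¹ = _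
      rw [conjAut_coe]
      show _ = ((r : G) * (s : G)⁻¹) * k * ((r : G) * (s : G)⁻¹)⁻¹
      rw [Subgroup.coe_inv]; group
    rw [show NB (conjAut h s⁻¹ k) = NB k from Subtype.ext (congrArg (Subtype.val : ↥K → G) hNk)]
  · show ψ (NB (Subgroup.inclusion h.leB b)) ^ t = ψ b
    have hb : NB (Subgroup.inclusion h.leB b) = b ^ Nat.card A := by
      refine Subtype.ext ?_
      show ((N (Subgroup.inclusion h.leB b) : ↥K) : G) = _
      rw [PF13Alg8.normHom_of_fixed (inclA h) fun r => Subtype.ext (by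
        show (r : G) * b * (r : G)⁻¹ = b
        rw [h.commAB r r.2 b b.2, mul_inv_cancel_right])]
      rfl
    rw [hb, map_pow, ← pow_mul, ← map_pow]
    congr 1
    conv_rhs => rw [← pow_one b]
    refine pow_eq_pow_iff_modEq.2 (ht.of_dvd ?_)
    rw [← orderOf_submonoid]
    exact K.orderOf_dvd_natCard (h.leB b.2)

open Classical in
/-- A fixed character is determined on `B`. -/
theorem fixed_unique (h : Side S K A B q) {φ φ' : ↥K →* ℂˣ}
    (hφ : ∀ s : ↥S, (s : G) ∈ A → act h s φ = φ) (hφ' : ∀ s : ↥S, (s : G) ∈ A → act h s φ' = φ')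
    (hB : ∀ b : ↥B, φ (Subgroup.inclusion h.leB b) = φ' (Subgroup.inclusion h.leB b)) : φ = φ' := by
  letI : CommGroup ↥K := { (inferInstance : Group ↥K) with mul_comm := fun x y => Subtype.ext (h.ab x x.2 y y.2) }
  haveI : Fintype ↥A := Fintype.ofFinite _
  refine MonoidHom.ext fun k => ?_
  have hinv : ∀ (θ : ↥K →* ℂˣ), (∀ s : ↥S, (s : G) ∈ A → act h s θ = θ) →
      θ (PF13Alg8.normHom (inclA h) k) = θ k ^ q := by
    intro θ hθ
    rw [PF13Alg8.normHom_apply, map_prod, Finset.prod_congr rfl fun (r : ↥A) _ => ?_, Finset.prod_const,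
      Finset.card_univ, ← Nat.card_eq_fintype_card, h.cardA]
    have := DFunLike.congr_fun (hθ (Subgroup.inclusion h.leA r)⁻¹ (A.inv_mem r.2)) k
    rw [act_apply, inv_inv] at this
    exact this
  have hN : ((PF13Alg8.normHom (inclA h) k : ↥K) : G) ∈ B := h.fix _ (Subtype.prop _) fun a ha => by
    have := congrArg (Subtype.val : ↥K → G) (PF13Alg8.normHom_fixed (inclA h) k ⟨a, ha⟩)
    exact mul_inv_eq_iff_eq_mul.1 this
  have e : φ k ^ q = φ' k ^ q := by rw [← hinv φ hφ, ← hinv φ' hφ']; exact hB ⟨_, hN⟩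
  obtain ⟨t, ht⟩ := exists_pow_eq_self_of_coprime (x := k) (n := q)
    (h.cop.coprime_dvd_right (orderOf_dvd_natCard k))
  rw [← ht, map_pow, map_pow, map_pow, map_pow, e]

/-- The coefficient of a linear character in the restriction of a class function to `K`. -/
noncomputable def coef (K : Subgroup G) (η : G → ℂ) (φ : ↥K →* ℂˣ) : ℂ :=
  @Cfsg.classInner ↥K _ (Fintype.ofFinite _) (fun k : ↥K => η k) (fun k => (φ k : ℂ))

theorem coef_eq (K : Subgroup G) [Fintype ↥K] (η : G → ℂ) (φ : ↥K →* ℂˣ) :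
    coef K η φ = Cfsg.classInner (fun k : ↥K => η k) (fun k => (φ k : ℂ)) := by
  unfold coef
  convert rfl

theorem coef_int (h : Side S K A B q) {η : G → ℂ} (hη : Cfsg.IsGeneralizedCharacter G η)
    (φ : ↥K →* ℂˣ) : ∃ n : ℤ, coef K η φ = n := by
  have _ := h
  haveI : Fintype ↥K := Fintype.ofFinite _
  rw [coef_eq]
  exact classInner_isGeneralizedCharacter (CharInduced.isGenChar_res K hη)
    (isGeneralizedCharacter_of_isCharacter (isCharacter_linear φ))

theorem coef_act (h : Side S K A B q) {η : G → ℂ} (hη : Cfsg.IsClassFunction G η) (s : ↥S)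
    (φ : ↥K →* ℂˣ) : coef K η (act h s φ) = coef K η φ := by
  haveI : Fintype ↥K := Fintype.ofFinite _
  rw [coef_eq, coef_eq]
  simp only [Cfsg.classInner]
  congr 1
  refine Fintype.sum_equiv (conjAut h s⁻¹).toEquiv _ _ fun k => ?_
  show η k * conj (φ (conjAut h s⁻¹ k) : ℂ) = η (conjAut h s⁻¹ k : ↥K) * conj (φ (conjAut h s⁻¹ k) : ℂ)
  rw [conjAut_coe, hη]

theorem expand (h : Side S K A B q) (η : G → ℂ) [Fintype (↥K →* ℂˣ)] (k : ↥K) :
    η k = ∑ φ : ↥K →* ℂˣ, coef K η φ * (φ k : ℂ) := by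
  haveI : Fintype ↥K := Fintype.ofFinite _
  simp only [coef_eq]
  exact congrFun (CyclicTI.expand_hom (fun x y => Subtype.ext (h.ab x x.2 y y.2)) (fun k : ↥K => η k)) k

theorem card_chars (h : Side S K A B q) [Fintype (↥K →* ℂˣ)] :
    Fintype.card (↥K →* ℂˣ) = Nat.card K := by
  rw [← Nat.card_eq_fintype_card]
  exact CyclicTIFamily.card_dual fun x y => Subtype.ext (h.ab x x.2 y y.2)

theorem parseval (h : Side S K A B q) (η : G → ℂ) [Fintype (↥K →* ℂˣ)] [Fintype ↥K]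
    (c : (↥K →* ℂˣ) → ℤ) (hc : ∀ φ, coef K η φ = c φ) :
    (Nat.card K : ℝ) * ∑ φ, (c φ : ℝ) ^ 2 = ∑ k : ↥K, ‖η k‖ ^ 2 := by
  have he : (fun k : ↥K => η k) = ∑ φ : ↥K →* ℂˣ, (c φ : ℂ) • fun k : ↥K => (φ k : ℂ) := funext fun k => by
    rw [expand h η k, Finset.sum_apply]
    simp [hc]
  have h1 : Cfsg.classInner (fun k : ↥K => η k) (fun k : ↥K => η k) = ((∑ φ, (c φ) ^ 2 : ℤ) : ℂ) := by
    conv_lhs => arg 2; rw [he]
    rw [classInner_sum_right]
    push_cast
    refine Finset.sum_congr rfl fun φ _ => ?_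
    rw [classInner_smul_right, map_intCast, ← coef_eq, hc]
    ring
  have h2 := classInner_self_re (fun k : ↥K => η k)
  rw [h1, Complex.intCast_re] at h2
  have hne : (Nat.card K : ℝ) ≠ 0 := Nat.cast_ne_zero.2 Nat.card_pos.ne'
  rw [show (∑ φ, (c φ : ℝ) ^ 2) = ((∑ φ, (c φ) ^ 2 : ℤ) : ℝ) by push_cast; rfl, h2]
  field_simp

/-- The mass on `K` off the identity, from two characters with different coefficients. -/
theorem mass_two (h : Side S K A B q) {η : G → ℂ} (hη : Cfsg.IsGeneralizedCharacter G η) [Fintype ↥K]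
    [DecidableEq ↥K] (φ φ' : ↥K →* ℂˣ) {a b : ℕ}
    (ha : Nat.card (letI := charAction h; MulAction.orbit ↥S φ) = a)
    (hb : Nat.card (letI := charAction h; MulAction.orbit ↥S φ') = b) (hab : a ≤ b)
    (hne : coef K η φ ≠ coef K η φ') :
    (a : ℝ) * ((Nat.card K : ℝ) - a) ≤ ∑ k ∈ (Finset.univ : Finset ↥K).erase 1, ‖η k‖ ^ 2 := by
  classical
  haveI := CyclicTI.hom_fintype ↥K
  haveI : Fintype (↥K →* ℂˣ) := Fintype.ofFinite _
  letI := charAction h
  choose c hc using coef_int h hη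
  have hcf := isClassFunction_of_isGeneralizedCharacter hη
  set O := (MulAction.orbit ↥S φ).toFinset with hO
  set O' := (MulAction.orbit ↥S φ').toFinset with hO'
  have hconst : ∀ θ, ∀ i ∈ (MulAction.orbit ↥S θ).toFinset, c i = c θ := by
    intro θ i hi
    rw [Set.mem_toFinset, MulAction.mem_orbit_iff] at hi
    obtain ⟨s, rfl⟩ := hi
    have := (hc (s • θ)).symm.trans ((coef_act h hcf s θ).trans (hc θ))
    exact_mod_cast this
  have hne' : c φ ≠ c φ' := fun e => hne (by rw [hc, hc, e])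
  have hd : Disjoint O O' := Finset.disjoint_left.2 fun i hi hi' =>
    hne' ((hconst φ i hi).symm.trans (hconst φ' i hi'))
  have hcO : O.card = a := by rw [← ha, hO, Set.toFinset_card, ← Nat.card_eq_fintype_card]
  have hcO' : O'.card = b := by rw [← hb, hO', Set.toFinset_card, ← Nat.card_eq_fintype_card]
  have hv := variance_bound c O O' hd (hconst φ) (hconst φ') hne' (by rw [hcO, hcO']; exact hab)
  rw [hcO, card_chars h] at hv
  have hvR : (a : ℝ) * ((Nat.card K : ℝ) - a) ≤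
      (Nat.card K : ℝ) * ∑ i, (c i : ℝ) ^ 2 - (∑ i, (c i : ℝ)) ^ 2 := by exact_mod_cast hv
  rw [parseval h η c hc, ← Finset.add_sum_erase _ _ (Finset.mem_univ (1 : ↥K))] at hvR
  have h1 : ‖η ((1 : ↥K) : G)‖ ^ 2 = (∑ i, (c i : ℝ)) ^ 2 := by
    rw [expand h η 1, show (∑ φ : ↥K →* ℂˣ, coef K η φ * (φ 1 : ℂ)) = ((∑ i, (c i : ℝ) : ℝ) : ℂ) by
      push_cast; simp [hc], Complex.norm_real, Real.norm_eq_abs, sq_abs]
  rw [h1] at hvR
  linarith

/-- The orbit of a fixed character nontrivial on `B`. -/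
theorem card_orbit_fixed (h : Side S K A B q) {φ : ↥K →* ℂˣ}
    (hfix : ∀ s : ↥S, (s : G) ∈ A → act h s φ = φ) (hne : ∃ b : ↥K, (b : G) ∈ B ∧ φ b ≠ 1) :
    Nat.card (letI := charAction h; MulAction.orbit ↥S φ) = (K ⊔ A).relIndex S := by
  letI := charAction h
  rw [Subgroup.relIndex, Nat.card_congr (MulAction.orbitEquivQuotientStabilizer ↥S φ), ← Subgroup.index_eq_card]
  congr 1
  refine le_antisymm (fun s hs => ?_) ?_
  · refine h.stab φ hne (fun a ha k k' e => ?_) s s.2 (fun k k' e => ?_)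
    · have hA' := DFunLike.congr_fun (hfix (Subgroup.inclusion h.leA ⟨a, ha⟩) ha) k'
      rw [act_apply] at hA'
      rw [← hA']
      congr 1
      refine Subtype.ext ?_
      rw [conjAut_coe]
      show a⁻¹ * (k' : G) * a⁻¹⁻¹ = k
      rw [e]; group
    · have hs' := DFunLike.congr_fun (show act h s φ = φ from hs) k'
      rw [act_apply] at hs'
      rw [← hs']
      congr 1
      refine Subtype.ext ?_
      rw [conjAut_coe]
      show (s : G)⁻¹ * (k' : G) * (s : G)⁻¹⁻¹ = k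
      rw [e]; group
  · rw [show (K ⊔ A).subgroupOf S = K.subgroupOf S ⊔ A.subgroupOf S from Subgroup.subgroupOf_sup h.le h.leA,
      sup_le_iff]
    refine ⟨fun s hs => ?_, fun s hs => hfix s hs⟩
    show act h s φ = φ
    refine MonoidHom.ext fun k => ?_
    rw [act_apply]
    congr 1
    refine Subtype.ext ?_
    rw [conjAut_coe, Subgroup.coe_inv, h.ab _ (K.inv_mem (Subgroup.mem_subgroupOf.1 hs)) _ k.2, mul_inv_cancel_right]

/-- The congruence on the nonidentity elements of `B` separates the coefficients of fixed characters. -/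
theorem coef_gap (h : Side S K A B q) {η : G → ℂ} (hη : Cfsg.IsGeneralizedCharacter G η)
    (ψ₀ : ↥B →* ℂˣ) (hcongr : ∀ b : ↥B, b ≠ 1 → Nul q (η b - (ψ₀ b : ℂ))) {ψ₁ : ↥B →* ℂˣ} (hψ : ψ₁ ≠ ψ₀)
    {φ₀ φ₁ : ↥K →* ℂˣ} (h₀ : ∀ s : ↥S, (s : G) ∈ A → act h s φ₀ = φ₀)
    (h₁ : ∀ s : ↥S, (s : G) ∈ A → act h s φ₁ = φ₁)
    (e₀ : ∀ b : ↥B, φ₀ (Subgroup.inclusion h.leB b) = ψ₀ b)
    (e₁ : ∀ b : ↥B, φ₁ (Subgroup.inclusion h.leB b) = ψ₁ b) :
    coef K η φ₀ ≠ coef K η φ₁ := by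
  classical
  haveI := CyclicTI.hom_fintype ↥K
  haveI : Fintype (↥K →* ℂˣ) := Fintype.ofFinite _
  haveI := CyclicTI.hom_fintype ↥B
  haveI : Fintype (↥B →* ℂˣ) := Fintype.ofFinite _
  haveI : Fintype ↥B := Fintype.ofFinite _
  choose c hc using coef_int h hη
  have hcf := isClassFunction_of_isGeneralizedCharacter hη
  have hBab : ∀ x y : ↥B, x * y = y * x := fun x y => Subtype.ext (h.ab x (h.leB x.2) y (h.leB y.2))
  obtain ⟨a, haA, hAz, hao⟩ := exists_gen h
  let s₀ : ↥S := ⟨a, h.leA haA⟩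
  have hfixiff : ∀ φ, act h s₀ φ = φ → ∀ s : ↥S, (s : G) ∈ A → act h s φ = φ := by
    intro φ hφ s hs
    rw [hAz] at hs
    obtain ⟨i, hi⟩ := Subgroup.mem_zpowers_iff.1 hs
    have hs' : s = s₀ ^ i := Subtype.ext (by rw [Subgroup.coe_zpow]; exact hi.symm)
    letI := charAction h
    have : s₀ ∈ MulAction.stabilizer ↥S φ := hφ
    rw [hs']
    exact (MulAction.stabilizer ↥S φ).zpow_mem this i
  choose ext hextfix hextB using exists_ext h
  have hint : ∀ (H : Subgroup G) (ψ : ↥H →* ℂˣ) (k : ↥H), IsIntegral ℤ (ψ k : ℂ) := fun H ψ k =>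
    CharBasic.isCharacter_integral (isCharacter_linear ψ) k
  have hqp : ¬ q ∣ Nat.card B := fun hd => h.hq.one_lt.ne' <| by
    have := h.cop.eq_one_of_dvd (hd.trans (Subgroup.card_dvd_of_le h.leB))
    exact this
  -- the restriction to `B` modulo `q`
  have hsum : ∀ b : ↥B, Nul q (η b - ∑ ψ : ↥B →* ℂˣ, (c (ext ψ) : ℂ) * (ψ b : ℂ)) := by
    intro b
    set kb : ↥K := Subgroup.inclusion h.leB b
    set F := (Finset.univ : Finset (↥K →* ℂˣ)).filter fun φ => act h s₀ φ = φ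
    have hF : ∑ φ ∈ F, (c φ : ℂ) * (φ kb : ℂ) = ∑ ψ : ↥B →* ℂˣ, (c (ext ψ) : ℂ) * (ψ b : ℂ) := by
      refine (Finset.sum_bij (fun ψ _ => ext ψ) (fun ψ _ => ?_) (fun ψ _ ψ' _ e => ?_) (fun φ hφ => ?_)
        (fun ψ _ => ?_)).symm
      · exact Finset.mem_filter.2 ⟨Finset.mem_univ _, hextfix ψ s₀ haA⟩
      · exact MonoidHom.ext fun x => by rw [← hextB ψ x, e, hextB ψ' x]
      · exact ⟨φ.comp (Subgroup.inclusion h.leB), Finset.mem_univ _, fixed_unique h (hextfix _)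
          (hfixiff φ (Finset.mem_filter.1 hφ).2) fun x => hextB _ x⟩
      · rw [hextB]
    have hrest : Nul q (∑ φ ∈ Fᶜ, (c φ : ℂ) * (φ kb : ℂ)) := by
      let v : (↥K →* ℂˣ) → ℤ × ℂ := fun φ => (c φ, (φ kb : ℂ))
      rw [show (∑ φ ∈ Fᶜ, (c φ : ℂ) * (φ kb : ℂ)) = ∑ φ ∈ Fᶜ, (fun z : ℤ × ℂ => (z.1 : ℂ) * z.2) (v φ) from rfl,
        Finset.sum_comp (fun z : ℤ × ℂ => (z.1 : ℂ) * z.2) v]
      refine Nul.sum _ fun z hz => ?_
      obtain ⟨φz, -, rfl⟩ := Finset.mem_image.1 hz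
      set T := Fᶜ.filter fun φ => v φ = v φz
      have hstab : ∀ φ, v (act h s₀ φ) = v φ := by
        intro φ
        refine Prod.ext ?_ ?_
        · have := (hc (act h s₀ φ)).symm.trans ((coef_act h hcf s₀ φ).trans (hc φ))
          exact_mod_cast this
        · show (φ (conjAut h s₀⁻¹ kb) : ℂ) = (φ kb : ℂ)
          rw [show conjAut h s₀⁻¹ kb = kb from Subtype.ext (by
            rw [conjAut_coe, Subgroup.coe_inv, inv_inv]
            show a⁻¹ * (b : G) * a = b
            rw [mul_assoc, ← h.commAB a haA b b.2, inv_mul_cancel_left])]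
      letI := charAction h
      let σ : Equiv.Perm (↥K →* ℂˣ) := MulAction.toPerm s₀
      have hσF : ∀ φ, σ φ ∈ F ↔ φ ∈ F := fun φ => by
        simp only [F, Finset.mem_filter, Finset.mem_univ, true_and]
        constructor
        · intro e; exact σ.injective e
        · intro e; exact congrArg σ e
      have hT : ∀ φ, σ φ ∈ T ↔ φ ∈ T := fun φ => by
        simp only [T, Finset.mem_filter, Finset.mem_compl, hσF]
        rw [show v (σ φ) = v φ from hstab φ]
      have hpow : σ ^ q = 1 := by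
        have e : s₀ ^ q = 1 := Subtype.ext (by rw [Subgroup.coe_pow]; exact hao ▸ pow_orderOf_eq_one a)
        rw [show σ = MulAction.toPermHom ↥S (↥K →* ℂˣ) s₀ from rfl, ← map_pow, e, map_one]
      let τ : Equiv.Perm {φ // φ ∈ T} := σ.subtypePerm hT
      haveI := Fact.mk h.hq
      have hτ : τ ^ q ^ 1 = 1 := by
        rw [pow_one]
        refine Equiv.ext fun x => Subtype.ext ?_
        simp only [τ, Equiv.Perm.subtypePerm_pow, Equiv.Perm.subtypePerm_apply, hpow, Equiv.Perm.coe_one, id_eq]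
      have hdvd : q ∣ T.card := by
        have hsupp : τ.support = Finset.univ := Finset.eq_univ_of_forall fun x => by
          rw [Equiv.Perm.mem_support]
          intro e
          have := x.2
          simp only [T, F, Finset.mem_filter, Finset.mem_compl, Finset.mem_univ, true_and] at this
          exact this.1 (congrArg Subtype.val e)
        have := Equiv.Perm.card_compl_support_modEq (p := q) (n := 1) hτ
        rw [hsupp, Finset.compl_univ, Finset.card_empty, Fintype.card_coe] at this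
        exact Nat.modEq_zero_iff_dvd.1 this.symm
      obtain ⟨n, hn⟩ := hdvd
      show Nul q (T.card • ((c φz : ℂ) * (φz kb : ℂ)))
      refine ((nul_self q).mul_left (w := ((n : ℤ) : ℂ) * ((c φz : ℂ) * (φz kb : ℂ))) ?_).congr ?_
      · exact (isIntegral_algebraMap (R := ℤ) (A := ℂ) (x := (n : ℤ))).mul ((isIntegral_algebraMap (R := ℤ) (A := ℂ) (x := c φz)).mul
          (hint K φz kb))
      · rw [nsmul_eq_mul, hn]; push_cast; ring
    refine hrest.congr ?_
    rw [← hF, show η (b : G) = η (kb : G) from rfl, expand h η kb, ← Finset.sum_add_sum_compl F]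
    simp only [hc]
    ring
  have hE : ∀ b : ↥B, b ≠ 1 → Nul q (∑ ψ : ↥B →* ℂˣ,
      ((c (ext ψ) : ℂ) - (if ψ = ψ₀ then 1 else 0)) * (ψ b : ℂ)) := fun b hb =>
    ((hcongr b hb).sub (hsum b)).congr (by
      simp only [sub_mul, Finset.sum_sub_distrib, ite_mul, one_mul, zero_mul, Finset.sum_ite_eq',
        Finset.mem_univ, if_true]
      ring)
  intro heq
  let E : (↥B →* ℂˣ) → ℂ := fun ψ => (c (ext ψ) : ℂ) - (if ψ = ψ₀ then 1 else 0)
  have hEψ : E ψ₀ - E ψ₁ = -1 := by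
    have i₀ : ext ψ₀ = φ₀ := fixed_unique h (hextfix ψ₀) h₀ fun b => by rw [hextB, e₀]
    have i₁ : ext ψ₁ = φ₁ := fixed_unique h (hextfix ψ₁) h₁ fun b => by rw [hextB, e₁]
    have : (c (ext ψ₀) : ℂ) = c (ext ψ₁) := by rw [i₀, i₁, ← hc, ← hc]; exact heq
    simp only [E, if_neg hψ, this, if_true]
    ring
  have horth : ∀ ψ : ↥B →* ℂˣ, ∑ b : ↥B, conj (ψ b : ℂ) * ∑ θ, E θ * (θ b : ℂ) = (Nat.card B : ℂ) * E ψ := by
    intro ψ
    simp only [Finset.mul_sum]
    rw [Finset.sum_comm]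
    calc ∑ θ, ∑ b : ↥B, conj (ψ b : ℂ) * (E θ * (θ b : ℂ))
        = ∑ θ, E θ * ((Nat.card B : ℂ) * Cfsg.classInner (fun b => (θ b : ℂ)) (fun b => (ψ b : ℂ))) := by
          refine Finset.sum_congr rfl fun θ _ => ?_
          rw [card_mul_classInner, Finset.mul_sum]
          exact Finset.sum_congr rfl fun b _ => by ring
      _ = _ := by simp [CyclicTI.inner_hom, mul_comm]
  have hmain : Nul q (((Nat.card B : ℤ) : ℂ) * (-1 : ℂ)) := by
    rw [← hEψ, Int.cast_natCast, mul_sub, ← horth ψ₀, ← horth ψ₁, ← Finset.sum_sub_distrib]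
    refine Nul.sum _ fun b _ => ?_
    rw [← sub_mul]
    by_cases hb : b = 1
    · subst hb; simp only [map_one, Units.val_one, sub_self, zero_mul]; exact Nul.zero
    · refine (hE b hb).mul_left ?_
      have hconj : ∀ ψ : ↥B →* ℂˣ, IsIntegral ℤ (conj (ψ b : ℂ)) := fun ψ =>
        CharBasic.isCharacter_integral (isCharacter_conj (isCharacter_linear ψ)) b
      exact (hconj ψ₀).sub (hconj ψ₁)
  have := nul_of_mul_int (z := (-1 : ℂ)) h.hq (by exact_mod_cast hqp) isIntegral_one.neg hmain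
  have := (nul_int h.hq).1 (this.congr (show (-1 : ℂ) = ((-1 : ℤ) : ℂ) by simp))
  have := Int.natAbs_dvd_natAbs.2 this
  simp only [Int.natAbs_natCast, Int.natAbs_neg, Int.natAbs_one, Nat.dvd_one] at this
  exact h.hq.one_lt.ne' this

/-- The mass of a virtual character congruent to `ψ₀` on `B`. -/
theorem mass_fixed (h : Side S K A B q) {η : G → ℂ} (hη : Cfsg.IsGeneralizedCharacter G η) [Fintype ↥K]
    [DecidableEq ↥K] [DecidableEq (↥B →* ℂˣ)] (hB : 3 ≤ Nat.card B) (ψ₀ : ↥B →* ℂˣ)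
    (hcongr : ∀ b : ↥B, b ≠ 1 → Nul q (η b - (ψ₀ b : ℂ))) :
    ((if ψ₀ = 1 then 1 else (K ⊔ A).relIndex S : ℕ) : ℝ) *
        ((Nat.card K : ℝ) - (if ψ₀ = 1 then 1 else (K ⊔ A).relIndex S : ℕ)) ≤
      ∑ k ∈ (Finset.univ : Finset ↥K).erase 1, ‖η k‖ ^ 2 := by
  haveI := CyclicTI.hom_fintype ↥B
  haveI : Fintype (↥B →* ℂˣ) := Fintype.ofFinite _
  have hcard : 3 ≤ Fintype.card (↥B →* ℂˣ) := by
    rw [← Nat.card_eq_fintype_card,
      CyclicTIFamily.card_dual fun x y => Subtype.ext (h.ab x (h.leB x.2) y (h.leB y.2))]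
    exact hB
  obtain ⟨ψ₁, hψ10, hψ11⟩ : ∃ ψ₁ : ↥B →* ℂˣ, ψ₁ ≠ ψ₀ ∧ ψ₁ ≠ 1 := by
    by_contra hn
    push Not at hn
    have : (Finset.univ : Finset (↥B →* ℂˣ)) ⊆ {ψ₀, 1} := fun θ _ => by
      simp only [Finset.mem_insert, Finset.mem_singleton]
      exact or_iff_not_imp_left.2 (hn θ)
    have := (Finset.card_le_card this).trans Finset.card_le_two
    rw [Finset.card_univ] at this
    omega
  obtain ⟨φ₀, f₀, e₀⟩ := exists_ext h ψ₀
  obtain ⟨φ₁, f₁, e₁⟩ := exists_ext h ψ₁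
  have hne := coef_gap h hη ψ₀ hcongr hψ10 f₀ f₁ e₀ e₁
  have hnt : ∀ {ψ : ↥B →* ℂˣ} {φ : ↥K →* ℂˣ}, (∀ b : ↥B, φ (Subgroup.inclusion h.leB b) = ψ b) → ψ ≠ 1 →
      ∃ b : ↥K, (b : G) ∈ B ∧ φ b ≠ 1 := by
    intro ψ φ e hψ
    by_contra hn
    push Not at hn
    exact hψ (MonoidHom.ext fun b => by rw [← e b, hn _ b.2]; rfl)
  have hc₁ := card_orbit_fixed h f₁ (hnt e₁ hψ11)
  by_cases hψ0 : ψ₀ = 1
  · rw [if_pos hψ0]
    have hφ0 : φ₀ = 1 := fixed_unique h f₀ (fun s _ => MonoidHom.ext fun k => rfl) fun b => by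
      rw [e₀, hψ0]; rfl
    have hc₀ : Nat.card (letI := charAction h; MulAction.orbit ↥S φ₀) = 1 := by
      letI := charAction h
      rw [hφ0, show MulAction.orbit ↥S (1 : ↥K →* ℂˣ) = {1} from ?_, Nat.card_eq_fintype_card]
      · simp
      · refine Set.eq_singleton_iff_unique_mem.2 ⟨MulAction.mem_orbit_self _, ?_⟩
        rintro x ⟨s, rfl⟩
        exact MonoidHom.ext fun k => rfl
    refine mass_two h hη φ₀ φ₁ hc₀ hc₁ ?_ hne
    exact Nat.one_le_iff_ne_zero.2 (Subgroup.index_ne_zero_of_finite (H := (K ⊔ A).subgroupOf S))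
  · rw [if_neg hψ0]
    exact mass_two h hη φ₀ φ₁ (card_orbit_fixed h f₀ (hnt e₀ hψ0)) hc₁ le_rfl hne

end Cfsg.Agent.PF13Mass8
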