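/-
Tools for the counting argument of the pair of type-P subgroups: sums over conjugates of TI sets, the
Galois invariance of the cyclic TI family at elements of prime-to-`q` order, induced differences.
-/
import Mathlib
import Cfsg.Agent.Lib.PF13Mass8
import Cfsg.Agent.Lib.CyclicTIGalois

set_option autoImplicit false
set_option linter.unusedSectionVars false
set_option linter.style.haveILetI false

open scoped ComplexConjugate

namespace Cfsg.Agent.PF13Tools8

open CharBasic CharBasicOrth CharBasicDecomp CyclicTI PF13Mass8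

variable {G : Type*} [Group G] [Fintype G]

open Classical in
/-- The elements conjugate into a finite set. -/
noncomputable def region (T : Finset G) : Finset G := Finset.univ.filter fun g => ∃ x : G, x * g * x⁻¹ ∈ T

theorem mem_region {T : Finset G} {g : G} : g ∈ region T ↔ ∃ x : G, x * g * x⁻¹ ∈ T := by
  classical
  simp [region]

open Classical in
theorem region_sum (N : Subgroup G) (T : Finset G) (hfus : ∀ x : G, ∀ t ∈ T, x * t * x⁻¹ ∈ T → x ∈ N)
    (hstab : ∀ n ∈ N, ∀ t ∈ T, n * t * n⁻¹ ∈ T) (F : G → ℝ) (hF : ∀ x g, F (x * g * x⁻¹) = F g) :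
    (Nat.card N : ℝ) * ∑ g ∈ region T, F g = (Nat.card G : ℝ) * ∑ t ∈ T, F t := by
  have h1 : (Nat.card G : ℝ) * ∑ t ∈ T, F t = ∑ g : G, ∑ x : G, if x * g * x⁻¹ ∈ T then F g else 0 := by
    rw [Finset.sum_comm, Nat.card_eq_fintype_card, ← nsmul_eq_mul, ← Finset.card_univ, ← Finset.sum_const]
    refine Finset.sum_congr rfl fun x _ => ?_
    rw [← Finset.sum_filter]
    refine Finset.sum_bij (fun t _ => x⁻¹ * t * x) (fun t ht => ?_) (fun t _ t' _ e => ?_) (fun g hg => ?_)
      (fun t _ => ?_)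
    · simp [mul_assoc, ht]
    · simpa using e
    · exact ⟨x * g * x⁻¹, (Finset.mem_filter.1 hg).2, by simp [mul_assoc]⟩
    · have := hF x (x⁻¹ * t * x)
      rw [show x * (x⁻¹ * t * x) * x⁻¹ = t by group] at this
      exact this
  rw [h1, region, Finset.sum_filter, Finset.mul_sum]
  refine Finset.sum_congr rfl fun g _ => ?_
  rw [← Finset.sum_filter, Finset.sum_const, nsmul_eq_mul]
  split_ifs with hg
  · obtain ⟨x₀, hx₀⟩ := hg
    congr 1
    have hN : Nat.card N = (Finset.univ.filter fun x : G => x ∈ N).card := by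
      rw [← Fintype.card_subtype, ← Nat.card_eq_fintype_card]
    rw [hN]
    norm_cast
    refine Finset.card_bij (fun n _ => n * x₀) (fun n hn => ?_) (fun n _ n' _ e => mul_right_cancel e)
      (fun x hx => ⟨x * x₀⁻¹, ?_, by simp [mul_assoc]⟩)
    · have := hstab n (Finset.mem_filter.1 hn).2 _ hx₀
      exact Finset.mem_filter.2 ⟨Finset.mem_univ _, by convert this using 1; group⟩
    · have hx' := (Finset.mem_filter.1 hx).2
      exact Finset.mem_filter.2 ⟨Finset.mem_univ _, hfus _ _ hx₀ (by convert hx' using 1; group)⟩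
  · push Not at hg
    rw [Finset.filter_false_of_mem fun x _ => hg x]
    simp

/-- Bessel's inequality for an orthonormal family. -/
theorem bessel {ι : Type*} [DecidableEq ι] (s : Finset ι) (f : ι → G → ℂ)
    (horth : ∀ i ∈ s, ∀ j ∈ s, Cfsg.classInner (f i) (f j) = if i = j then 1 else 0)
    (α : G → ℂ) (c : ι → ℤ) (hc : ∀ i ∈ s, Cfsg.classInner α (f i) = c i) :
    ((∑ i ∈ s, c i ^ 2 : ℤ) : ℝ) ≤ (Cfsg.classInner α α).re := by
  have hc' : ∀ i ∈ s, Cfsg.classInner (f i) α = c i := fun i hi => by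
    rw [← conj_classInner, hc i hi, map_intCast]
  have hexp : Cfsg.classInner (α - ∑ i ∈ s, (c i : ℂ) • f i) (α - ∑ i ∈ s, (c i : ℂ) • f i) =
      Cfsg.classInner α α - ((∑ i ∈ s, c i ^ 2 : ℤ) : ℂ) := by
    have h2 : Cfsg.classInner α (∑ i ∈ s, (c i : ℂ) • f i) = ((∑ i ∈ s, c i ^ 2 : ℤ) : ℂ) := by
      rw [classInner_sum_right]
      push_cast
      refine Finset.sum_congr rfl fun i hi => ?_
      rw [classInner_smul_right, map_intCast, hc i hi]; ring
    have h3 : Cfsg.classInner (∑ i ∈ s, (c i : ℂ) • f i) α = ((∑ i ∈ s, c i ^ 2 : ℤ) : ℂ) := by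
      rw [← conj_classInner, h2, map_intCast]
    have h4 : Cfsg.classInner (∑ i ∈ s, (c i : ℂ) • f i) (∑ i ∈ s, (c i : ℂ) • f i) =
        ((∑ i ∈ s, c i ^ 2 : ℤ) : ℂ) := by
      rw [classInner_sum_left]
      push_cast
      refine Finset.sum_congr rfl fun i hi => ?_
      rw [classInner_smul_left, classInner_sum_right,
        Finset.sum_congr rfl fun j hj => by rw [classInner_smul_right, map_intCast, horth i hi j hj]]
      simp only [mul_ite, mul_one, mul_zero, Finset.sum_ite_eq, hi, if_true]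
      ring
    rw [classInner_sub_left, classInner_sub_right, classInner_sub_right, h2, h3, h4]
    ring
  have h0 : 0 ≤ (Cfsg.classInner (α - ∑ i ∈ s, (c i : ℂ) • f i) (α - ∑ i ∈ s, (c i : ℂ) • f i)).re := by
    rw [classInner_self_re]; positivity
  rw [hexp, Complex.sub_re, Complex.intCast_re] at h0
  linarith

variable {W₁ W₂ : Subgroup G}

/-- Galois invariance of the family at an element of order prime to `q`. -/
theorem family_galois (hW : Cfsg.IsSelfNormalizingCyclic W₁ W₂) (hodd : Odd (Nat.card ↥(W₁ ⊔ W₂)))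
    {χ : (↥(W₁ ⊔ W₂) →* ℂˣ) → (G → ℂ)} (hχ : Cfsg.IsCyclicTIFamily W₁ W₂ χ) {q : ℕ}
    (hqG : q ∣ Nat.card G) {ω : ↥(W₁ ⊔ W₂) →* ℂˣ} (hω : ∀ w, ω w ^ q = 1) {g : G}
    (hg : (orderOf g).Coprime q) {r m : ℕ} (hr : r.Coprime q) (hm : m.Coprime (orderOf g)) :
    χ (ω ^ r) (g ^ m) = χ ω g := by
  have hq0 : 0 < q := Nat.pos_of_ne_zero fun e => by
    subst e
    have := Nat.eq_zero_of_zero_dvd hqG
    exact Nat.card_pos.ne' this
  obtain ⟨r', hr'⟩ : ∃ r', r * r' ≡ 1 [MOD q] := by
    obtain ⟨x, hx0, hx1⟩ := Nat.chineseRemainder hr 0 1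
    obtain ⟨t, rfl⟩ := Nat.modEq_zero_iff_dvd.1 hx0
    exact ⟨t, hx1⟩
  obtain ⟨k0, hk1, hk2⟩ := Nat.chineseRemainder hg m r'
  have hr'c : r'.Coprime q := by
    have : (r * r').Coprime q := by
      show Nat.gcd _ _ = 1
      rw [hr'.gcd_eq]; exact Nat.gcd_one_left _
    exact this.coprime_mul_left
  have hkc : k0.Coprime (orderOf g * q) :=
    Nat.Coprime.mul_right (show Nat.gcd k0 _ = 1 by rw [hk1.gcd_eq]; exact hm)
      (show Nat.gcd k0 _ = 1 by rw [hk2.gcd_eq]; exact hr'c)
  have hn : orderOf g * q ∣ Nat.card G := hg.mul_dvd_of_dvd_of_dvd (orderOf_dvd_natCard g) hqG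
  haveI : NeZero (Nat.card G) := ⟨Nat.card_pos.ne'⟩
  obtain ⟨u, hu⟩ := ZMod.unitsMap_surjective hn (ZMod.unitOfCoprime k0 hkc)
  set k := ((u : ZMod (Nat.card G))).val with hkd
  have hk : k.Coprime (Nat.card G) := ZMod.val_coe_unit_coprime u
  have hkr : k ≡ k0 [MOD orderOf g * q] := by
    rw [← ZMod.natCast_eq_natCast_iff]
    have := congrArg (fun v : (ZMod (orderOf g * q))ˣ => (v : ZMod (orderOf g * q))) hu
    simp only [ZMod.unitsMap_def, Units.coe_map, ZMod.coe_unitOfCoprime] at this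
    rw [← this, hkd, ZMod.natCast_val]
    rfl
  set j := ((↑u⁻¹ : ZMod (Nat.card G))).val with hjd
  have hjk : j * k ≡ 1 [MOD Nat.card G] := by
    rw [← ZMod.natCast_eq_natCast_iff, Nat.cast_mul, hjd, hkd, ZMod.natCast_zmod_val,
      ZMod.natCast_zmod_val, Units.inv_mul, Nat.cast_one]
  have hjr : j ≡ r [MOD q] := by
    have e1 : j * r' ≡ 1 [MOD q] :=
      (Nat.ModEq.mul_left j ((hkr.of_mul_left _).trans hk2)).symm.trans (hjk.of_dvd hqG)
    calc j ≡ j * (r * r') [MOD q] := by simpa using (hr'.mul_left j).symm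
      _ = r * (j * r') := by ring
      _ ≡ r * 1 [MOD q] := e1.mul_left r
      _ = r := mul_one r
  have h1 : ω ^ j = ω ^ r := MonoidHom.ext fun w => by
    rw [MonoidHom.pow_apply, MonoidHom.pow_apply]
    exact pow_eq_pow_iff_modEq.2 (hjr.of_dvd (orderOf_dvd_of_pow_eq_one (hω w)))
  have h2 : g ^ k = g ^ m := pow_eq_pow_iff_modEq.2 ((hkr.of_mul_right _).trans hk1)
  rw [← h1, ← h2]
  exact CyclicTIGalois.family_pow hW hodd hχ hk hjk ω g

variable {S K A B : Subgroup G} {q : ℕ}

/-- The difference of two linear characters induced from `K`. -/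
noncomputable def indDiff (K : Subgroup G) (φ ψ : ↥K →* ℂˣ) : G → ℂ :=
  Cfsg.indFun K (fun k => (φ k : ℂ) - (ψ k : ℂ))

theorem indDiff_gen (K : Subgroup G) (φ ψ : ↥K →* ℂˣ) : Cfsg.IsGeneralizedCharacter G (indDiff K φ ψ) :=
  CharInduced.isGenChar_ind K (isGeneralizedCharacter_sub
    (isGeneralizedCharacter_of_isCharacter (isCharacter_linear φ))
    (isGeneralizedCharacter_of_isCharacter (isCharacter_linear ψ)))

theorem indDiff_inner (K : Subgroup G) (φ ψ : ↥K →* ℂˣ) {η : G → ℂ} (hη : Cfsg.IsClassFunction G η) :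
    Cfsg.classInner (indDiff K φ ψ) η = conj (coef K η φ) - conj (coef K η ψ) := by
  haveI : Fintype ↥K := Fintype.ofFinite _
  rw [indDiff, CharInduced.inner_ind_left K _ hη,
    show (fun k : ↥K => (φ k : ℂ) - (ψ k : ℂ)) = (fun k => (φ k : ℂ)) - fun k => (ψ k : ℂ) from rfl,
    classInner_sub_left, coef_eq, coef_eq, conj_classInner, conj_classInner]

open Classical in
/-- The number of elements of `S` carrying `b` to `a`, over `|K|`. -/
noncomputable def kk (h : Side S K A B q) (a b : ↥K →* ℂˣ) : ℂ :=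
  (Nat.card K : ℂ)⁻¹ * ((Finset.univ.filter fun s : ↥S => act h s b = a).card : ℂ)

open Classical in
theorem indDiff_inner_alpha (h : Side S K A B q) (a b a' b' : ↥K →* ℂˣ) :
    Cfsg.classInner (indDiff K a b) (indDiff K a' b') = kk h a a' - kk h a b' - kk h b a' + kk h b b' := by
  haveI : Fintype ↥K := Fintype.ofFinite _
  rw [show indDiff K a b = Cfsg.indFun K (fun k => (a k : ℂ) - (b k : ℂ)) from rfl,
    CharInduced.inner_ind_left K _
      (show Cfsg.IsClassFunction G (indDiff K a' b') from CharInduced.isClassFunction_ind K _)]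
  have e : Cfsg.classInner (fun k : ↥K => (a k : ℂ) - (b k : ℂ)) (fun k : ↥K => indDiff K a' b' k) =
      Cfsg.classInner (fun k : ↥K => (a k : ℂ) - (b k : ℂ)) (fun k : ↥K =>
        (Nat.card K : ℂ)⁻¹ * ∑ s : ↥S, (((act h s a') k : ℂ) - ((act h s b') k : ℂ))) := by
    simp only [Cfsg.classInner]
    congr 1
    refine Finset.sum_congr rfl fun k _ => ?_
    by_cases hk : k = 1
    · subst hk; simp
    congr 2
    simp only [indDiff, CharInduced.indFun_apply]
    congr 1
    have hzero : ∀ x : G, x ∉ S →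
        Cfsg.extendByZero K (fun k => (a' k : ℂ) - (b' k : ℂ)) (x⁻¹ * k * x) = 0 := by
      intro x hx
      by_cases hm : x⁻¹ * k * x ∈ K
      · exfalso
        refine hx (S.inv_mem_iff.1 (h.ti x⁻¹ k k.2 (fun e => hk (Subtype.ext e)) ?_))
        rwa [inv_inv]
      · exact CharInduced.ext_zero_of_not_mem _ hm
    rw [← Finset.sum_subset (Finset.subset_univ (Finset.univ.filter fun x : G => x ∈ S))
      (fun x _ hx => hzero x (by simpa using hx))]
    rw [Finset.sum_subtype (p := fun x : G => x ∈ S) _ (fun x => by simp) _]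
    refine Finset.sum_congr rfl fun s _ => ?_
    have hm : (s : G)⁻¹ * k * s = ((conjAut h s⁻¹ k : ↥K) : G) := by
      rw [conjAut_coe, Subgroup.coe_inv, inv_inv]
    rw [hm, CharInduced.ext_zero_coe]
    rfl
  rw [e, show (fun k : ↥K => (Nat.card K : ℂ)⁻¹ * ∑ s : ↥S, (((act h s a') k : ℂ) - ((act h s b') k : ℂ))) =
    (Nat.card K : ℂ)⁻¹ • ∑ s : ↥S, ((fun k : ↥K => ((act h s a') k : ℂ)) - fun k => ((act h s b') k : ℂ)) by
      funext k; simp [Finset.sum_apply],
    show (fun k : ↥K => (a k : ℂ) - (b k : ℂ)) = (fun k => (a k : ℂ)) - fun k => (b k : ℂ) from rfl,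
    classInner_smul_right, classInner_sum_right]
  simp only [classInner_sub_left, classInner_sub_right, CyclicTI.inner_hom, Finset.sum_sub_distrib,
    map_inv₀, map_natCast, kk, eq_comm (a := a), eq_comm (a := b), Finset.sum_boole]
  have key : ∀ c x y z w : ℂ, c * ((x - y) - (z - w)) = c * x - c * z - c * y + c * w :=
    fun _ _ _ _ _ => by ring
  rw [key]
  congr!

theorem kk_of_not_orbit (h : Side S K A B q) {a b : ↥K →* ℂˣ} (hn : ∀ s : ↥S, act h s b ≠ a) :
    kk h a b = 0 := by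
  classical
  rw [kk, Finset.filter_false_of_mem fun s _ => hn s]
  simp

theorem kk_self (h : Side S K A B q) (a : ↥K →* ℂˣ) :
    kk h a a = (Nat.card K : ℂ)⁻¹ * (Nat.card (letI := charAction h; MulAction.stabilizer ↥S a) : ℂ) := by
  classical
  letI := charAction h
  rw [kk]
  congr 2
  rw [Nat.card_eq_fintype_card, Fintype.card_of_subtype]
  intro s
  simp only [Finset.mem_filter, Finset.mem_univ, true_and]
  exact Iff.rfl

end Cfsg.Agent.PF13Tools8
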