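import Mathlib
import Cfsg.Prelude.Def_OddOrderChar
import Cfsg.Agent.S1498
import Cfsg.Agent.S1499
import Cfsg.Agent.Lib.CharBasicDecomp

/-!
The Dade hypothesis and the Dade map: values, class function property, summation over the support, inner products.
-/

set_option autoImplicit false

open scoped ComplexConjugate

namespace Cfsg.Agent.DadeMap

universe u

variable {G : Type u} [Group G] {A : Set G} {L : Subgroup G} {H : G → Subgroup G}

theorem exists_decomp (hD : Cfsg.DadeHypothesis A L H) {a : G} (ha : a ∈ A) {c : G} (hc : c * a = a * c) :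
    ∃ h ∈ H a, ∃ l ∈ L, l * a = a * l ∧ c = l * h := by
  set C := L ⊓ Subgroup.centralizer ({a} : Set G) with hC
  have hn : C ≤ Subgroup.normalizer (H a : Set G) := by
    intro c hc'
    rw [Subgroup.mem_normalizer_iff]
    intro u
    refine ⟨fun hu => hD.conj_mem_H a ha c hc'.2 u hu, fun hu => ?_⟩
    have := hD.conj_mem_H a ha c⁻¹ (inv_mem hc'.2) _ hu
    simpa [mul_assoc] using this
  have hc' : c ∈ H a ⊔ C := by rw [hC, hD.sup_eq a ha]; exact Subgroup.mem_centralizer_singleton_iff.mpr hc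
  rw [sup_comm, ← SetLike.mem_coe, Subgroup.coe_mul_of_left_le_normalizer_right C (H a) hn] at hc'
  obtain ⟨l, hl, h, hh, e⟩ := hc'
  exact ⟨h, hh, l, hl.1, Subgroup.mem_centralizer_singleton_iff.mp hl.2, e.symm⟩

theorem comm_of_mem_H (hD : Cfsg.DadeHypothesis A L H) {a : G} (ha : a ∈ A) {u : G} (hu : u ∈ H a) :
    u * a = a * u := Subgroup.mem_centralizer_singleton_iff.mp (hD.le_centralizer a ha hu)

theorem eq_one_of_mem_H_of_mem (hD : Cfsg.DadeHypothesis A L H) {a : G} (ha : a ∈ A) {u : G} (hu : u ∈ H a)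
    (huL : u ∈ L) : u = 1 := by
  have : u ∈ H a ⊓ (L ⊓ Subgroup.centralizer ({a} : Set G)) := ⟨hu, huL, hD.le_centralizer a ha hu⟩
  rwa [hD.inf_eq_bot a ha, Subgroup.mem_bot] at this

variable [Finite G]

theorem H_conj (hD : Cfsg.DadeHypothesis A L H) {a : G} (ha : a ∈ A) {x : G} (hx : x ∈ L) :
    H (x * a * x⁻¹) = (H a).map (MulAut.conj x).toMonoidHom :=
  Cfsg.Agent.S1498.result A L H hD a ha x hx

theorem conj_mem_H_conj (hD : Cfsg.DadeHypothesis A L H) {a : G} (ha : a ∈ A) {x : G} (hx : x ∈ L) {u : G}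
    (hu : u ∈ H a) : x * u * x⁻¹ ∈ H (x * a * x⁻¹) := by
  rw [H_conj hD ha hx]
  exact ⟨u, hu, rfl⟩

theorem card_H_conj (hD : Cfsg.DadeHypothesis A L H) {a : G} (ha : a ∈ A) {x : G} (hx : x ∈ L) :
    Nat.card (H (x * a * x⁻¹)) = Nat.card (H a) := by
  rw [H_conj hD ha hx, Subgroup.card_map_of_injective (MulAut.conj x).injective]

theorem conj_of_coset_conj (hD : Cfsg.DadeHypothesis A L H) {a b : G} (ha : a ∈ A) (hb : b ∈ A) {g u v : G}
    (hu : u ∈ H a) (hv : v ∈ H b) (hg : g * (a * u) * g⁻¹ = b * v) : ∃ x ∈ L, x * a * x⁻¹ = b :=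
  (Cfsg.Agent.S1499.result A L H hD a b ha hb).1 ⟨u, hu, v, hv, g, hg⟩

theorem centralizes_of_coset (hD : Cfsg.DadeHypothesis A L H) {a : G} (ha : a ∈ A) {g u v : G}
    (hu : u ∈ H a) (hv : v ∈ H a) (hg : g * (a * u) * g⁻¹ = a * v) : g * a = a * g := by
  set C : Subgroup G := L ⊓ Subgroup.centralizer ({a} : Set G)
  obtain ⟨k, hk1, hk2⟩ := Cfsg.Agent.OddCharGroup.exists_exponent (hD.coprime a ha a ha).symm
  have hoa : orderOf a ∣ Nat.card C :=
    Subgroup.orderOf_dvd_natCard _ ⟨hD.subset ha, Subgroup.mem_centralizer_singleton_iff.mpr rfl⟩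
  have key : ∀ w ∈ H a, (a * w) ^ k = a := fun w hw => by
    rw [← comm_of_mem_H hD ha hw]
    exact Cfsg.Agent.OddCharGroup.mul_pow_exponent (comm_of_mem_H hD ha hw) (hk1.of_dvd hoa)
      ((Subgroup.orderOf_dvd_natCard _ hw).trans hk2)
  have := congrArg (· ^ k) hg
  simp only [conj_pow, key u hu, key v hv] at this
  exact mul_inv_eq_iff_eq_mul.mp this

/-- `g` lies in the support of the Dade map. -/
def InSupport (A : Set G) (L : Subgroup G) (H : G → Subgroup G) (g : G) : Prop :=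
  ∃ a : ↥L, (a : G) ∈ A ∧ ∃ x : G, ∃ u ∈ H (a : G), x * g * x⁻¹ = (a : G) * u

theorem inSupport_conj {g y : G} (h : InSupport A L H g) : InSupport A L H (y * g * y⁻¹) := by
  obtain ⟨a, ha, x, u, hu, e⟩ := h
  exact ⟨a, ha, x * y⁻¹, u, hu, by rw [← e]; group⟩

theorem inSupport_iff (hD : Cfsg.DadeHypothesis A L H) (g : G) :
    InSupport A L H g ↔ ∃ a ∈ A, ∃ u ∈ H a, ∃ x : G, x * g * x⁻¹ = a * u :=
  ⟨fun ⟨a, ha, x, u, hu, e⟩ => ⟨a, ha, u, hu, x, e⟩,
    fun ⟨a, ha, u, hu, x, e⟩ => ⟨⟨a, hD.subset ha⟩, ha, x, u, hu, e⟩⟩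

theorem dade_apply (hD : Cfsg.DadeHypothesis A L H) {α : ↥L → ℂ} (hα : Cfsg.IsClassFunction ↥L α) {g : G}
    (a : ↥L) (ha : (a : G) ∈ A) {x u : G} (hu : u ∈ H (a : G)) (e : x * g * x⁻¹ = (a : G) * u) :
    Cfsg.dadeIsometry A L H α g = α a := by
  classical
  have h : ∃ a : ↥L, (a : G) ∈ A ∧ ∃ x : G, ∃ u ∈ H (a : G), x * g * x⁻¹ = (a : G) * u :=
    ⟨a, ha, x, u, hu, e⟩
  unfold Cfsg.dadeIsometry
  rw [dif_pos h]
  obtain ⟨hb, y, v, hv, e'⟩ := Classical.choose_spec h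
  obtain ⟨l, hl, hl'⟩ := conj_of_coset_conj hD ha hb hu hv (g := y * x⁻¹) (by rw [← e', ← e]; group)
  rw [← hα a ⟨l, hl⟩]
  exact congrArg α (Subtype.ext hl'.symm)

theorem dade_apply_coset (hD : Cfsg.DadeHypothesis A L H) {α : ↥L → ℂ} (hα : Cfsg.IsClassFunction ↥L α)
    (a : ↥L) (ha : (a : G) ∈ A) {u : G} (hu : u ∈ H (a : G)) :
    Cfsg.dadeIsometry A L H α ((a : G) * u) = α a :=
  dade_apply hD hα a ha hu (x := 1) (by simp)

theorem dade_eq_zero {α : ↥L → ℂ} {g : G} (hg : ¬ InSupport A L H g) :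
    Cfsg.dadeIsometry A L H α g = 0 := dif_neg hg

theorem dade_isClassFunction (hD : Cfsg.DadeHypothesis A L H) {α : ↥L → ℂ}
    (hα : Cfsg.IsClassFunction ↥L α) : Cfsg.IsClassFunction G (Cfsg.dadeIsometry A L H α) := by
  intro g y
  by_cases hg : InSupport A L H g
  · obtain ⟨a, ha, x, u, hu, e⟩ := hg
    rw [dade_apply hD hα a ha hu e, dade_apply hD hα a ha hu (x := x * y⁻¹) (by rw [← e]; group)]
  · rw [dade_eq_zero hg, dade_eq_zero fun h => hg (by simpa [mul_assoc] using inSupport_conj (y := y⁻¹) h)]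

/-- Every element of the support corresponds to exactly `|L| * |H a|` pairs of a member of `A` and a conjugating
element. -/
theorem card_pairs (hD : Cfsg.DadeHypothesis A L H) {g : G} (a₀ : ↥L) (ha₀ : (a₀ : G) ∈ A) {x₀ u₀ : G}
    (hu₀ : u₀ ∈ H (a₀ : G)) (e₀ : x₀ * g * x₀⁻¹ = (a₀ : G) * u₀) :
    Nat.card {p : ↥L × G // (p.1 : G) ∈ A ∧ (p.1 : G)⁻¹ * (p.2 * g * p.2⁻¹) ∈ H (p.1 : G)} =
      Nat.card L * Nat.card (H (a₀ : G)) := by
  have hmem : ∀ q : ↥L × ↥(H (a₀ : G)), (((q.1 * a₀ * q.1⁻¹ : ↥L) : G) ∈ A) ∧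
      ((q.1 * a₀ * q.1⁻¹ : ↥L) : G)⁻¹ * (((q.1 : G) * q.2 * x₀) * g * ((q.1 : G) * q.2 * x₀)⁻¹) ∈
        H ((q.1 * a₀ * q.1⁻¹ : ↥L) : G) := by
    rintro ⟨l, h, hh⟩
    refine ⟨hD.conj_mem l l.2 a₀ ha₀, ?_⟩
    have h1 : ((l * a₀ * l⁻¹ : ↥L) : G)⁻¹ * (((l : G) * h * x₀) * g * ((l : G) * h * x₀)⁻¹) =
        (l : G) * ((a₀ : G)⁻¹ * (h * ((a₀ : G) * u₀) * h⁻¹)) * (l : G)⁻¹ := by
      rw [← e₀]; simp only [Subgroup.coe_mul, Subgroup.coe_inv]; group
    show ((l * a₀ * l⁻¹ : ↥L) : G)⁻¹ * _ ∈ _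
    rw [h1]
    refine conj_mem_H_conj hD ha₀ l.2 ?_
    have h2 : (a₀ : G)⁻¹ * (h * ((a₀ : G) * u₀) * h⁻¹) = h * u₀ * h⁻¹ := by
      rw [← mul_assoc h, comm_of_mem_H hD ha₀ hh]; group
    rw [h2]
    exact mul_mem (mul_mem hh hu₀) (inv_mem hh)
  let f : ↥L × ↥(H (a₀ : G)) →
      {p : ↥L × G // (p.1 : G) ∈ A ∧ (p.1 : G)⁻¹ * (p.2 * g * p.2⁻¹) ∈ H (p.1 : G)} :=
    fun q => ⟨(q.1 * a₀ * q.1⁻¹, (q.1 : G) * q.2 * x₀), hmem q⟩
  have hf : Function.Bijective f := by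
    constructor
    · rintro ⟨l, h, hh⟩ ⟨l', h', hh'⟩ e
      have e2 : (l : G) * h * x₀ = (l' : G) * h' * x₀ := congrArg Prod.snd (congrArg Subtype.val e)
      have e3 : (l' : G)⁻¹ * l = h' * h⁻¹ := by
        have e4 : (l : G) = (l' : G) * h' * h⁻¹ := eq_mul_inv_of_mul_eq (mul_right_cancel e2)
        rw [e4]; group
      have h1 : h' * h⁻¹ = 1 := eq_one_of_mem_H_of_mem hD ha₀ (mul_mem hh' (inv_mem hh))
        (e3 ▸ mul_mem (inv_mem l'.2) l.2)
      rw [mul_inv_eq_one] at h1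
      subst h1
      rw [mul_inv_cancel, inv_mul_eq_one] at e3
      exact Prod.ext (Subtype.ext e3.symm) rfl
    · rintro ⟨⟨a, x⟩, ha, hax⟩
      set u := (a : G)⁻¹ * (x * g * x⁻¹) with hu
      have e : x * g * x⁻¹ = (a : G) * u := by rw [hu]; group
      obtain ⟨l, hl, hla⟩ := conj_of_coset_conj hD ha₀ ha hu₀ hax (g := x * x₀⁻¹) (by rw [← e, ← e₀]; group)
      set y := l⁻¹ * x * x₀⁻¹ with hy
      have hu' : l⁻¹ * u * l ∈ H (a₀ : G) := by
        have := hax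
        rw [show H (a : G) = H (l * (a₀ : G) * l⁻¹) by rw [hla], H_conj hD ha₀ hl] at this
        obtain ⟨w, hw, hw'⟩ := this
        have : l⁻¹ * u * l = w := by rw [← hw']; simp [mul_assoc]
        rw [this]; exact hw
      have hyc : y * (a₀ : G) = (a₀ : G) * y := by
        refine centralizes_of_coset hD ha₀ hu₀ hu' ?_
        calc y * ((a₀ : G) * u₀) * y⁻¹ = l⁻¹ * (x * g * x⁻¹) * l := by rw [hy, ← e₀]; group
          _ = (a₀ : G) * (l⁻¹ * u * l) := by rw [e, ← hla]; group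
      obtain ⟨h, hh, c, hc, hca, hyd⟩ := exists_decomp hD ha₀ hyc
      refine ⟨(⟨l * c, mul_mem hl hc⟩, ⟨h, hh⟩), Subtype.ext (Prod.ext (Subtype.ext ?_) ?_)⟩
      · show l * c * (a₀ : G) * (l * c)⁻¹ = a
        rw [← hla, mul_assoc l c, hca]; group
      · show l * c * h * x₀ = x
        rw [mul_assoc l c h, ← hyd, hy]; group
  rw [← Nat.card_congr (Equiv.ofBijective f hf), Nat.card_prod]

omit [Finite G] in
theorem sum_support_aux [Fintype G] [Fintype L] (hD : Cfsg.DadeHypothesis A L H) {R : Type*} [Field R]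
    [CharZero R] (f : G → R) (hf : ∀ g : G, ¬ InSupport A L H g → f g = 0)
    (hcl : ∀ g y : G, f (y * g * y⁻¹) = f g) :
    (Nat.card L : R) * ∑ g, f g =
      (Nat.card G : R) * ∑ᶠ a ∈ {a : ↥L | (a : G) ∈ A},
        (Nat.card (H (a : G)) : R)⁻¹ * ∑ᶠ u ∈ (H (a : G) : Set G), f ((a : G) * u) := by
  classical
  have e1 : ∑ᶠ a ∈ {a : ↥L | (a : G) ∈ A},
      (Nat.card (H (a : G)) : R)⁻¹ * ∑ᶠ u ∈ (H (a : G) : Set G), f ((a : G) * u) =
      ∑ a : ↥L, if (a : G) ∈ A then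
        (Nat.card (H (a : G)) : R)⁻¹ * ∑ u : G, (if u ∈ H (a : G) then f ((a : G) * u) else 0) else 0 := by
    rw [finsum_eq_sum_of_fintype]
    refine Finset.sum_congr rfl fun a _ => ?_
    simp only [Set.mem_ofPred_eq]
    split_ifs with h
    · rw [finsum_eq_if, if_pos h]
      congr 1
      rw [finsum_eq_sum_of_fintype]
      refine Finset.sum_congr rfl fun u _ => ?_
      rw [finsum_eq_if]
      rfl
    · rw [finsum_eq_if, if_neg h]
  rw [e1]
  have e2 : ∀ a : ↥L, (Nat.card G : R) * ∑ u : G, (if u ∈ H (a : G) then f ((a : G) * u) else 0) =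
      ∑ g : G, ∑ x : G, if (a : G)⁻¹ * (x * g * x⁻¹) ∈ H (a : G) then f g else 0 := by
    intro a
    rw [Finset.sum_comm, Nat.card_eq_fintype_card, ← nsmul_eq_mul, ← Finset.card_univ, ← Finset.sum_const]
    refine Finset.sum_congr rfl fun x _ => ?_
    refine Fintype.sum_equiv ((Equiv.mulLeft (a : G)).trans (MulAut.conj x⁻¹).toEquiv) _ _ fun u => ?_
    simp only [Equiv.trans_apply, Equiv.coe_mulLeft, MulEquiv.toEquiv_eq_coe, MulEquiv.coe_toEquiv,
      MulAut.conj_apply, inv_inv]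
    rw [show (a : G)⁻¹ * (x * (x⁻¹ * ((a : G) * u) * x) * x⁻¹) = u by group,
      show f (x⁻¹ * ((a : G) * u) * x) = f ((a : G) * u) by
        have := hcl ((a : G) * u) x⁻¹; rwa [inv_inv] at this]
  have e3 : ∀ g : G, ∑ a : ↥L, (if (a : G) ∈ A then (Nat.card (H (a : G)) : R)⁻¹ *
      ∑ x : G, (if (a : G)⁻¹ * (x * g * x⁻¹) ∈ H (a : G) then f g else 0) else 0) = (Nat.card L : R) * f g := by
    intro g
    by_cases hg : InSupport A L H g
    · obtain ⟨a₀, ha₀, x₀, u₀, hu₀, e₀⟩ := hg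
      have hcard := card_pairs hD a₀ ha₀ hu₀ e₀
      rw [Nat.card_eq_fintype_card, Fintype.card_subtype] at hcard
      have hH : ∀ a : ↥L, (a : G) ∈ A → ∀ x : G, (a : G)⁻¹ * (x * g * x⁻¹) ∈ H (a : G) →
          Nat.card (H (a : G)) = Nat.card (H (a₀ : G)) := by
        intro a ha x hx
        obtain ⟨l, hl, hla⟩ := conj_of_coset_conj hD ha₀ ha hu₀ hx (g := x * x₀⁻¹) (by rw [← e₀]; group)
        rw [← hla, card_H_conj hD ha₀ hl]
      have h0 : (Nat.card (H (a₀ : G)) : R) ≠ 0 := Nat.cast_ne_zero.mpr Nat.card_pos.ne'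
      calc ∑ a : ↥L, (if (a : G) ∈ A then (Nat.card (H (a : G)) : R)⁻¹ *
              ∑ x : G, (if (a : G)⁻¹ * (x * g * x⁻¹) ∈ H (a : G) then f g else 0) else 0)
          = ∑ p : ↥L × G, if (p.1 : G) ∈ A ∧ (p.1 : G)⁻¹ * (p.2 * g * p.2⁻¹) ∈ H (p.1 : G) then
              (Nat.card (H (a₀ : G)) : R)⁻¹ * f g else 0 := by
            rw [Fintype.sum_prod_type]
            refine Finset.sum_congr rfl fun a _ => ?_
            split_ifs with h
            · rw [Finset.mul_sum]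
              refine Finset.sum_congr rfl fun x _ => ?_
              split_ifs with h' h'' h''
              · rw [hH a h x h']
              · exact absurd ⟨h, h'⟩ h''
              · exact absurd h''.2 h'
              · rw [mul_zero]
            · exact (Finset.sum_eq_zero fun x _ => if_neg fun hh => h hh.1).symm
        _ = _ := by
            rw [← Finset.sum_filter, Finset.sum_const, hcard, nsmul_eq_mul, Nat.cast_mul]
            field_simp
    · rw [hf g hg, mul_zero]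
      exact Finset.sum_eq_zero fun a _ => by simp
  rw [Finset.mul_sum, Finset.mul_sum, ← Finset.sum_congr rfl fun g _ => e3 g, Finset.sum_comm]
  refine Finset.sum_congr rfl fun a _ => ?_
  split_ifs with h
  · rw [← mul_assoc, mul_comm (Nat.card G : R), mul_assoc, e2 a, Finset.mul_sum]
  · simp

omit [Finite G] in
/-- Inner product of a Dade image with a class function. -/
theorem inner_dade [Fintype G] [Fintype L] (hD : Cfsg.DadeHypothesis A L H) {α : ↥L → ℂ}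
    (hα : Cfsg.IsClassFunction ↥L α) (hαA : ∀ x : ↥L, (x : G) ∉ A → α x = 0) {χ : G → ℂ}
    (hχ : Cfsg.IsClassFunction G χ) (ψ : ↥L → ℂ)
    (hψ : ∀ a : ↥L, (a : G) ∈ A →
      ψ a = (Nat.card (H (a : G)) : ℂ)⁻¹ * ∑ᶠ u ∈ (H (a : G) : Set G), χ ((a : G) * u)) :
    Cfsg.classInner (Cfsg.dadeIsometry A L H α) χ = Cfsg.classInner α ψ := by
  classical
  have hsum := sum_support_aux hD (fun g => Cfsg.dadeIsometry A L H α g * conj (χ g))
    (fun g hg => by rw [dade_eq_zero hg, zero_mul])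
    (fun g y => by rw [dade_isClassFunction hD hα g y, hχ g y])
  have e : ∀ a ∈ {a : ↥L | (a : G) ∈ A},
      (Nat.card (H (a : G)) : ℂ)⁻¹ *
        ∑ᶠ u ∈ (H (a : G) : Set G), Cfsg.dadeIsometry A L H α ((a : G) * u) * conj (χ ((a : G) * u)) =
      α a * conj (ψ a) := by
    intro a ha
    rw [hψ a ha, finsum_mem_congr rfl (fun u hu => by rw [dade_apply_coset hD hα a ha hu]),
      finsum_mem_eq_finite_toFinset_sum _ ((H (a : G) : Set G).toFinite),
      finsum_mem_eq_finite_toFinset_sum _ ((H (a : G) : Set G).toFinite),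
      map_mul, map_inv₀, map_natCast, map_sum, ← Finset.mul_sum]
    ring
  rw [finsum_mem_congr rfl e] at hsum
  have hL : (Nat.card L : ℂ) ≠ 0 := Nat.cast_ne_zero.mpr Nat.card_pos.ne'
  have hG : (Nat.card G : ℂ) ≠ 0 := Nat.cast_ne_zero.mpr Nat.card_pos.ne'
  have hsupp : ∑ᶠ a ∈ {a : ↥L | (a : G) ∈ A}, α a * conj (ψ a) = ∑ a : ↥L, α a * conj (ψ a) := by
    rw [finsum_eq_sum_of_fintype]
    refine Finset.sum_congr rfl fun a _ => ?_
    rw [finsum_eq_if]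
    simp only [Set.mem_ofPred_eq]
    split_ifs with h
    · rfl
    · rw [hαA a h, zero_mul]
  rw [hsupp] at hsum
  rw [Cfsg.classInner, Cfsg.classInner]
  field_simp
  linear_combination hsum

omit [Finite G] in
theorem inner_dade_dade [Fintype G] [Fintype L] (hD : Cfsg.DadeHypothesis A L H) {α β : ↥L → ℂ}
    (hα : Cfsg.IsClassFunction ↥L α) (hαA : ∀ x : ↥L, (x : G) ∉ A → α x = 0)
    (hβ : Cfsg.IsClassFunction ↥L β) :
    Cfsg.classInner (Cfsg.dadeIsometry A L H α) (Cfsg.dadeIsometry A L H β) = Cfsg.classInner α β := by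
  classical
  refine inner_dade hD hα hαA (dade_isClassFunction hD hβ) β fun a ha => ?_
  rw [finsum_mem_congr rfl (fun u hu => dade_apply_coset hD hβ a ha hu),
    finsum_mem_eq_finite_toFinset_sum _ ((H (a : G) : Set G).toFinite),
    Finset.sum_const, nsmul_eq_mul, ← Set.ncard_eq_toFinset_card, ← Nat.card_coe_set_eq, ← mul_assoc]
  rw [show Nat.card ↥(H (a : G) : Set G) = Nat.card (H (a : G)) from rfl,
    inv_mul_cancel₀ (Nat.cast_ne_zero.mpr Nat.card_pos.ne'), one_mul]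

omit [Finite G] in
/-- The average over the cosets `a H(a)` has norm at most the norm over the support. -/
theorem norm_average_le [Fintype G] [Fintype L] (hD : Cfsg.DadeHypothesis A L H) {χ : G → ℂ}
    (hχ : Cfsg.IsClassFunction G χ) (ψ : ↥L → ℂ)
    (hψ : ∀ a : ↥L, (a : G) ∈ A →
      ψ a = (Nat.card (H (a : G)) : ℂ)⁻¹ * ∑ᶠ u ∈ (H (a : G) : Set G), χ ((a : G) * u)) :
    (Nat.card L : ℝ)⁻¹ * ∑ᶠ a ∈ {a : ↥L | (a : G) ∈ A}, ‖ψ a‖ ^ 2 ≤
      (Nat.card G : ℝ)⁻¹ *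
        ∑ᶠ g ∈ {g : G | ∃ a ∈ A, ∃ u ∈ H a, ∃ x : G, x * g * x⁻¹ = a * u}, ‖χ g‖ ^ 2 := by
  classical
  set f : G → ℝ := fun g => if InSupport A L H g then ‖χ g‖ ^ 2 else 0 with hfdef
  have hcl : ∀ g y : G, f (y * g * y⁻¹) = f g := by
    intro g y
    have : InSupport A L H (y * g * y⁻¹) ↔ InSupport A L H g :=
      ⟨fun h => by simpa [mul_assoc] using inSupport_conj (y := y⁻¹) h, fun h => inSupport_conj h⟩
    simp only [hfdef, this, hχ g y]
  have hsum := sum_support_aux hD f (fun g hg => if_neg hg) hcl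
  have hR : ∑ᶠ g ∈ {g : G | ∃ a ∈ A, ∃ u ∈ H a, ∃ x : G, x * g * x⁻¹ = a * u}, ‖χ g‖ ^ 2 = ∑ g, f g := by
    rw [finsum_eq_sum_of_fintype]
    refine Finset.sum_congr rfl fun g _ => ?_
    rw [finsum_eq_if]
    simp only [hfdef, Set.mem_ofPred_eq]
    exact if_congr (inSupport_iff hD g).symm rfl rfl
  have hle : ∑ᶠ a ∈ {a : ↥L | (a : G) ∈ A}, ‖ψ a‖ ^ 2 ≤
      ∑ᶠ a ∈ {a : ↥L | (a : G) ∈ A},
        (Nat.card (H (a : G)) : ℝ)⁻¹ * ∑ᶠ u ∈ (H (a : G) : Set G), f ((a : G) * u) := by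
    rw [finsum_mem_eq_finite_toFinset_sum _ (Set.toFinite {a : ↥L | (a : G) ∈ A}),
      finsum_mem_eq_finite_toFinset_sum _ (Set.toFinite {a : ↥L | (a : G) ∈ A})]
    refine Finset.sum_le_sum fun a ha => ?_
    have haA' : a ∈ {a : ↥L | (a : G) ∈ A} := (Set.Finite.mem_toFinset _).mp ha
    have haA : (a : G) ∈ A := haA'
    set s := (H (a : G) : Set G).toFinite.toFinset with hs
    rw [hψ a haA, finsum_mem_eq_finite_toFinset_sum _ ((H (a : G) : Set G).toFinite),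
      finsum_mem_eq_finite_toFinset_sum _ ((H (a : G) : Set G).toFinite), ← hs]
    have hf : ∀ u ∈ s, f ((a : G) * u) = ‖χ ((a : G) * u)‖ ^ 2 := fun u hu =>
      if_pos ⟨a, haA, 1, u, by simpa [hs] using hu, by simp⟩
    rw [Finset.sum_congr rfl hf]
    have hn : (s.card : ℝ) = Nat.card (H (a : G)) := by
      rw [hs, ← Set.ncard_eq_toFinset_card, ← Nat.card_coe_set_eq]; rfl
    have hN : (0 : ℝ) < Nat.card (H (a : G)) := Nat.cast_pos.mpr Nat.card_pos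
    rw [norm_mul, norm_inv, Complex.norm_natCast, mul_pow, inv_pow, ← hn]
    have h1 : ‖∑ u ∈ s, χ ((a : G) * u)‖ ^ 2 ≤ (s.card : ℝ) * ∑ u ∈ s, ‖χ ((a : G) * u)‖ ^ 2 :=
      (pow_le_pow_left₀ (norm_nonneg _) (norm_sum_le _ _) 2).trans sq_sum_le_card_mul_sum_sq
    rw [← hn] at hN
    calc ((s.card : ℝ) ^ 2)⁻¹ * ‖∑ u ∈ s, χ ((a : G) * u)‖ ^ 2
        ≤ ((s.card : ℝ) ^ 2)⁻¹ * ((s.card : ℝ) * ∑ u ∈ s, ‖χ ((a : G) * u)‖ ^ 2) :=
          mul_le_mul_of_nonneg_left h1 (by positivity)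
      _ = (s.card : ℝ)⁻¹ * ∑ u ∈ s, ‖χ ((a : G) * u)‖ ^ 2 := by field_simp
  rw [hR]
  have hL : (0 : ℝ) < Nat.card L := Nat.cast_pos.mpr Nat.card_pos
  have hG : (0 : ℝ) < Nat.card G := Nat.cast_pos.mpr Nat.card_pos
  rw [inv_mul_le_iff₀ hL]
  calc _ ≤ _ := hle
    _ = (Nat.card L : ℝ) * ((Nat.card G : ℝ)⁻¹ * ∑ g, f g) := by
      generalize (∑ᶠ a ∈ {a : ↥L | (a : G) ∈ A},
        (Nat.card (H (a : G)) : ℝ)⁻¹ * ∑ᶠ u ∈ (H (a : G) : Set G), f ((a : G) * u)) = S at hsum ⊢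
      field_simp
      linear_combination -hsum

end Cfsg.Agent.DadeMap
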