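import Cfsg.Agent.Lib.DadeMap
import Cfsg.Agent.Lib.DadeGenChar
import Cfsg.Agent.Lib.CoherenceBasic
import Cfsg.Agent.Lib.CharInducedClifford
import Cfsg.Agent.S1525
import Cfsg.Agent.S0161

/-!
Peterfalvi, Section 7 (7.1)-(7.5): the adjoint of the Dade map, the norm inequality over disjoint supports, and
parity of inner products of real virtual characters in a group of odd order.
-/

set_option autoImplicit false

open Cfsg Cfsg.Agent.CharBasic Cfsg.Agent.CharBasicOrth Cfsg.Agent.CharBasicDecomp Cfsg.Agent.DadeMap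
open scoped ComplexConjugate Classical

namespace Cfsg.Agent.PFInvDade

universe u

variable {G : Type u} [Group G] {A : Set G} {L : Subgroup G} {H : G → Subgroup G}

/-- The adjoint of the Dade map: the average of `χ` over the cosets `a H(a)`, zero off `A`. -/
noncomputable def invDade (A : Set G) (L : Subgroup G) (H : G → Subgroup G) (χ : G → ℂ) : ↥L → ℂ :=
  fun a => if (a : G) ∈ A then
    (Nat.card (H (a : G)) : ℂ)⁻¹ * ∑ᶠ u ∈ (H (a : G) : Set G), χ ((a : G) * u) else 0

theorem invDade_apply {χ : G → ℂ} (a : ↥L) (ha : (a : G) ∈ A) :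
    invDade A L H χ a = (Nat.card (H (a : G)) : ℂ)⁻¹ * ∑ᶠ u ∈ (H (a : G) : Set G), χ ((a : G) * u) :=
  if_pos ha

theorem invDade_eq_zero {χ : G → ℂ} (a : ↥L) (ha : (a : G) ∉ A) : invDade A L H χ a = 0 := if_neg ha

theorem invDade_one (hD : DadeHypothesis A L H) (χ : G → ℂ) : invDade A L H χ 1 = 0 :=
  invDade_eq_zero 1 hD.one_not_mem

theorem invDade_eq_sum [Fintype G] {χ : G → ℂ} (a : ↥L) (ha : (a : G) ∈ A) :
    invDade A L H χ a =
      (Nat.card (H (a : G)) : ℂ)⁻¹ * ∑ u : G, if u ∈ H (a : G) then χ ((a : G) * u) else 0 := by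
  rw [invDade_apply a ha, finsum_eq_sum_of_fintype]
  congr 1
  refine Finset.sum_congr rfl fun u _ => ?_
  rw [finsum_eq_if]
  rfl

theorem invDade_add [Fintype G] (χ φ : G → ℂ) :
    invDade A L H (χ + φ) = invDade A L H χ + invDade A L H φ := by
  funext a
  by_cases ha : (a : G) ∈ A
  · simp only [Pi.add_apply, invDade_eq_sum a ha, ← mul_add, ← Finset.sum_add_distrib]
    congr 1
    exact Finset.sum_congr rfl fun u _ => by split_ifs <;> simp
  · simp [invDade_eq_zero a ha]

theorem invDade_smul [Fintype G] (c : ℂ) (χ : G → ℂ) :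
    invDade A L H (c • χ) = c • invDade A L H χ := by
  funext a
  by_cases ha : (a : G) ∈ A
  · simp only [Pi.smul_apply, smul_eq_mul, invDade_eq_sum a ha, Finset.mul_sum]
    exact Finset.sum_congr rfl fun u _ => by split_ifs <;> ring
  · simp [invDade_eq_zero a ha]

theorem invDade_sub [Fintype G] (χ φ : G → ℂ) :
    invDade A L H (χ - φ) = invDade A L H χ - invDade A L H φ := by
  have := invDade_add (A := A) (L := L) (H := H) (χ - φ) φ
  rw [sub_add_cancel] at this
  rw [this, add_sub_cancel_right]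

theorem invDade_congr [Fintype G] {χ φ : G → ℂ}
    (h : ∀ g, InSupport A L H g → χ g = φ g) : invDade A L H χ = invDade A L H φ := by
  funext a
  by_cases ha : (a : G) ∈ A
  · rw [invDade_eq_sum a ha, invDade_eq_sum a ha]
    congr 1
    refine Finset.sum_congr rfl fun u _ => ?_
    split_ifs with hu
    · exact h _ ⟨a, ha, 1, u, hu, by simp⟩
    · rfl
  · simp [invDade_eq_zero a ha]

theorem invDade_const [Fintype G] (c : ℂ) (a : ↥L) (ha : (a : G) ∈ A) :
    invDade A L H (fun _ => c) a = c := by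
  rw [invDade_eq_sum a ha, ← Finset.sum_filter, Finset.sum_const, nsmul_eq_mul,
    ← Fintype.card_subtype, ← Nat.card_eq_fintype_card, ← mul_assoc]
  rw [show Nat.card {u // u ∈ H (a : G)} = Nat.card (H (a : G)) from rfl,
    inv_mul_cancel₀ (Nat.cast_ne_zero.mpr Nat.card_pos.ne'), one_mul]

theorem invDade_isClassFunction [Fintype G] (hD : DadeHypothesis A L H) {χ : G → ℂ}
    (hχ : IsClassFunction G χ) : IsClassFunction ↥L (invDade A L H χ) := by
  intro a x
  by_cases ha : (a : G) ∈ A
  · have ha' : ((x * a * x⁻¹ : ↥L) : G) ∈ A := hD.conj_mem _ x.2 _ ha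
    rw [invDade_eq_sum a ha, invDade_eq_sum _ ha']
    simp only [Subgroup.coe_mul, Subgroup.coe_inv]
    rw [card_H_conj hD ha x.2]
    congr 1
    refine Fintype.sum_equiv (MulAut.conj (x : G)⁻¹).toEquiv _ _ fun u => ?_
    simp only [MulEquiv.toEquiv_eq_coe, MulEquiv.coe_toEquiv, MulAut.conj_apply, inv_inv]
    rw [H_conj hD ha x.2, Subgroup.mem_map_equiv]
    simp only [MulAut.conj_symm_apply]
    refine if_congr Iff.rfl ?_ rfl
    rw [← hχ ((a : G) * ((x : G)⁻¹ * u * x)) x]
    congr 1
    group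
  · rw [invDade_eq_zero a ha, invDade_eq_zero]
    intro h
    apply ha
    simpa [mul_assoc] using hD.conj_mem _ (inv_mem x.2) _ h

/-- (7.2)(a): adjunction. -/
theorem inner_dade_eq [Fintype G] [Fintype L] (hD : DadeHypothesis A L H) {α : ↥L → ℂ}
    (hα : IsClassFunction ↥L α) (hαA : ∀ x : ↥L, (x : G) ∉ A → α x = 0) {χ : G → ℂ}
    (hχ : IsClassFunction G χ) :
    classInner (dadeIsometry A L H α) χ = classInner α (invDade A L H χ) :=
  inner_dade hD hα hαA hχ _ fun a ha => invDade_apply a ha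

theorem inner_eq_dade [Fintype G] [Fintype L] (hD : DadeHypothesis A L H) {α : ↥L → ℂ}
    (hα : IsClassFunction ↥L α) (hαA : ∀ x : ↥L, (x : G) ∉ A → α x = 0) {χ : G → ℂ}
    (hχ : IsClassFunction G χ) :
    classInner χ (dadeIsometry A L H α) = classInner (invDade A L H χ) α := by
  rw [← conj_classInner, inner_dade_eq hD hα hαA hχ, conj_classInner]

/-- (7.2)(b): the adjoint is a left inverse of the Dade map. -/
theorem invDade_dade [Fintype G] (hD : DadeHypothesis A L H) {α : ↥L → ℂ}
    (hα : IsClassFunction ↥L α) (hαA : ∀ x : ↥L, (x : G) ∉ A → α x = 0) :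
    invDade A L H (dadeIsometry A L H α) = α := by
  funext a
  by_cases ha : (a : G) ∈ A
  · rw [invDade_eq_sum a ha, ← invDade_const (A := A) (L := L) (H := H) (α a) a ha, invDade_eq_sum a ha]
    congr 1
    refine Finset.sum_congr rfl fun u _ => ?_
    split_ifs with hu
    · exact dade_apply_coset hD hα a ha hu
    · rfl
  · rw [invDade_eq_zero a ha, hαA a ha]

/-- The Dade map commutes with complex conjugation. -/
theorem dade_conjFun (α : ↥L → ℂ) :
    dadeIsometry A L H (conjFun α) = conjFun (dadeIsometry A L H α) := by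
  funext g
  simp only [dadeIsometry, conjFun]
  split_ifs with h
  · rfl
  · simp

/-- (7.3): the norm of the adjoint. -/
theorem norm_invDade_le [Fintype G] [Fintype L] (hD : DadeHypothesis A L H) {χ : G → ℂ}
    (hχ : IsClassFunction G χ) :
    (classInner (invDade A L H χ) (invDade A L H χ)).re ≤
      (Nat.card G : ℝ)⁻¹ * ∑ g ∈ Finset.univ.filter (InSupport A L H), ‖χ g‖ ^ 2 := by
  have h := S1525.result A L H hD χ hχ (invDade A L H χ) fun a ha => invDade_apply a ha
  rw [classInner_self_re]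
  refine le_trans (le_of_eq ?_) (h.trans (le_of_eq ?_))
  · congr 1
    rw [finsum_eq_sum_of_fintype]
    refine Finset.sum_congr rfl fun a _ => ?_
    rw [finsum_eq_if]
    simp only [Set.mem_ofPred_eq]
    split_ifs with ha
    · rfl
    · rw [invDade_eq_zero a ha]; simp
  · congr 1
    rw [finsum_eq_sum_of_fintype, Finset.sum_filter]
    refine Finset.sum_congr rfl fun g _ => ?_
    rw [finsum_eq_if]
    exact if_congr (inSupport_iff hD g).symm rfl rfl

/-- The support of the Dade map takes the proportion `|A| / |L|` of the group. -/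
theorem card_support [Fintype G] [Fintype L] (hD : DadeHypothesis A L H) :
    (Nat.card L : ℝ) * ((Finset.univ.filter (InSupport A L H)).card : ℝ) =
      (Nat.card G : ℝ) * (A.ncard : ℝ) := by
  have hsum := sum_support_aux hD (R := ℝ) (fun g => if InSupport A L H g then 1 else 0)
    (fun g hg => if_neg hg) (fun g y => if_congr
      ⟨fun h => by simpa [mul_assoc] using inSupport_conj (y := y⁻¹) h, fun h => inSupport_conj h⟩ rfl rfl)
  rw [Finset.sum_boole] at hsum
  rw [hsum]
  congr 1
  have e : ∀ a ∈ {a : ↥L | (a : G) ∈ A},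
      (Nat.card (H (a : G)) : ℝ)⁻¹ *
        ∑ᶠ u ∈ (H (a : G) : Set G), (if InSupport A L H ((a : G) * u) then (1 : ℝ) else 0) = 1 := by
    intro a ha
    rw [finsum_mem_congr rfl (fun u hu => if_pos ⟨a, ha, 1, u, hu, by simp⟩),
      finsum_mem_eq_finite_toFinset_sum _ ((H (a : G) : Set G).toFinite), Finset.sum_const,
      ← Set.ncard_eq_toFinset_card, nsmul_eq_mul, mul_one, ← Nat.card_coe_set_eq]
    exact inv_mul_cancel₀ (Nat.cast_ne_zero.mpr Nat.card_pos.ne')
  rw [finsum_mem_congr rfl e, finsum_mem_eq_finite_toFinset_sum _ (Set.toFinite _), Finset.sum_const,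
    ← Set.ncard_eq_toFinset_card, nsmul_eq_mul, mul_one]
  have : Subtype.val '' {a : ↥L | (a : G) ∈ A} = A := by
    ext g
    exact ⟨fun ⟨a, ha, e⟩ => e ▸ ha, fun hg => ⟨⟨g, hD.subset hg⟩, hg, rfl⟩⟩
  conv_rhs => rw [← this, Set.ncard_image_of_injective _ Subtype.val_injective]

/-- (7.5): the norm inequality over a family of disjoint supports, for a class function of norm one.  `G₀` is the
set of elements lying in none of the supports. -/
theorem cover_inequality [Fintype G] {ι : Type*} [Fintype ι] (A : ι → Set G) (L : ι → Subgroup G)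
    [∀ i, Fintype (L i)] (H : ι → G → Subgroup G) (hD : ∀ i, DadeHypothesis (A i) (L i) (H i))
    (hdisj : ∀ i j, i ≠ j → ∀ g, ¬ (InSupport (A i) (L i) (H i) g ∧ InSupport (A j) (L j) (H j) g))
    {χ : G → ℂ} (hχ : IsClassFunction G χ) (hnorm : classInner χ χ = 1) :
    (Nat.card G : ℝ)⁻¹ *
        (∑ g ∈ Finset.univ.filter (fun g => ∀ i, ¬ InSupport (A i) (L i) (H i) g), (‖χ g‖ ^ 2 - 1)) +
      ∑ i, ((classInner (invDade (A i) (L i) (H i) χ) (invDade (A i) (L i) (H i) χ)).re -
        ((A i).ncard : ℝ) / (Nat.card (L i) : ℝ)) ≤ 0 := by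
  set S : ι → Finset G := fun i => Finset.univ.filter (InSupport (A i) (L i) (H i)) with hS
  set G₀ := Finset.univ.filter (fun g => ∀ i, ¬ InSupport (A i) (L i) (H i) g) with hG₀
  have hsplit : ∀ F : G → ℝ, ∑ g, F g = ∑ g ∈ G₀, F g + ∑ i, ∑ g ∈ S i, F g := by
    intro F
    rw [← Finset.sum_biUnion (fun i _ j _ hij => Finset.disjoint_left.2 fun g hi hj =>
      hdisj i j hij g ⟨(Finset.mem_filter.1 hi).2, (Finset.mem_filter.1 hj).2⟩),
      ← Finset.sum_union (Finset.disjoint_left.2 fun g h0 h1 => by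
        obtain ⟨i, -, hi⟩ := Finset.mem_biUnion.1 h1
        exact (Finset.mem_filter.1 h0).2 i (Finset.mem_filter.1 hi).2)]
    congr 1
    ext g
    simp only [hG₀, hS, Finset.mem_union, Finset.mem_biUnion, Finset.mem_filter, Finset.mem_univ,
      true_and, true_iff]
    by_cases h : ∃ i, InSupport (A i) (L i) (H i) g
    · exact Or.inr h
    · exact Or.inl (not_exists.1 h)
  have hG : (0 : ℝ) < Nat.card G := Nat.cast_pos.mpr Nat.card_pos
  have h1 := classInner_self_re χ
  rw [hnorm, Complex.one_re, hsplit] at h1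
  have h2 : (1 : ℝ) = (Nat.card G : ℝ)⁻¹ * (G₀.card : ℝ) + ∑ i, ((A i).ncard : ℝ) / (Nat.card (L i) : ℝ) := by
    have h3 := hsplit (fun _ => 1)
    simp only [Finset.sum_const, nsmul_eq_mul, mul_one, Finset.card_univ] at h3
    rw [← Nat.card_eq_fintype_card] at h3
    have h4 : ∀ i, ((A i).ncard : ℝ) / (Nat.card (L i) : ℝ) = (Nat.card G : ℝ)⁻¹ * ((S i).card : ℝ) := by
      intro i
      have := card_support (hD i)
      have hL : (Nat.card (L i) : ℝ) ≠ 0 := Nat.cast_ne_zero.mpr Nat.card_pos.ne'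
      field_simp
      linear_combination -this
    simp only [h4, ← Finset.mul_sum, ← mul_add, ← h3, inv_mul_cancel₀ hG.ne']
  have h5 : ∀ i, (classInner (invDade (A i) (L i) (H i) χ) (invDade (A i) (L i) (H i) χ)).re ≤
      (Nat.card G : ℝ)⁻¹ * ∑ g ∈ S i, ‖χ g‖ ^ 2 := fun i => norm_invDade_le (hD i) hχ
  have h6 := Finset.sum_le_sum fun i (_ : i ∈ Finset.univ) => h5 i
  rw [← Finset.mul_sum] at h6
  rw [Finset.sum_sub_distrib, Finset.sum_sub_distrib, Finset.sum_const, nsmul_eq_mul, mul_one, mul_sub]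
  rw [mul_add] at h1
  linarith

/-- In a group of odd order, the inner product of two real virtual characters is congruent mod 2 to the product
of their principal coefficients. -/
theorem parity [Fintype G] (hodd : Odd (Nat.card G)) {x y : G → ℂ} (hx : IsGeneralizedCharacter G x)
    (hy : IsGeneralizedCharacter G y) (hxr : conjFun x = x) (hyr : conjFun y = y) {a b c : ℤ}
    (ha : classInner x (fun _ => 1) = a) (hb : classInner y (fun _ => 1) = b) (hc : classInner x y = c) :
    Even (c - a * b) := by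
  obtain ⟨m, hm, -⟩ : ∃ m : IrrCharacter G → ℤ, (∀ ψ : IrrCharacter G, classInner x (ψ : G → ℂ) = m ψ) ∧
      True := by
    choose m hm using fun ψ : IrrCharacter G => classInner_isGeneralizedCharacter hx
      (isGeneralizedCharacter_of_isCharacter (isCharacter_of_isIrrCharacter ψ.2))
    exact ⟨m, hm, trivial⟩
  obtain ⟨n, hn, -⟩ : ∃ n : IrrCharacter G → ℤ, (∀ ψ : IrrCharacter G, classInner y (ψ : G → ℂ) = n ψ) ∧
      True := by
    choose n hn using fun ψ : IrrCharacter G => classInner_isGeneralizedCharacter hy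
      (isGeneralizedCharacter_of_isCharacter (isCharacter_of_isIrrCharacter ψ.2))
    exact ⟨n, hn, trivial⟩
  have hexp : classInner x y = ∑ ψ : IrrCharacter G, (m ψ : ℂ) * (n ψ : ℂ) := by
    rw [classInner_eq_sum (isClassFunction_of_isGeneralizedCharacter hx)]
    refine Finset.sum_congr rfl fun ψ _ => ?_
    rw [hm, hn, map_intCast]
  have hc' : c = ∑ ψ : IrrCharacter G, m ψ * n ψ := by
    have := hc.symm.trans hexp
    exact_mod_cast this
  let bar : IrrCharacter G → IrrCharacter G := fun ψ =>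
    ⟨conjFun (ψ : G → ℂ), CoherenceBasic.conjFun_isIrr ψ.2⟩
  have hbar : ∀ ψ, bar (bar ψ) = ψ := fun ψ => Subtype.ext (CoherenceBasic.conjFun_conjFun _)
  have hmbar : ∀ ψ, m (bar ψ) = m ψ := by
    intro ψ
    have h := CoherenceBasic.classInner_conjFun x (ψ : G → ℂ)
    rw [hxr] at h
    have h' : classInner x ((bar ψ : IrrCharacter G) : G → ℂ) = conj (classInner x (ψ : G → ℂ)) := h
    rw [hm, hm, map_intCast] at h'
    exact_mod_cast h'
  have hnbar : ∀ ψ, n (bar ψ) = n ψ := by
    intro ψ
    have h := CoherenceBasic.classInner_conjFun y (ψ : G → ℂ)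
    rw [hyr] at h
    have h' : classInner y ((bar ψ : IrrCharacter G) : G → ℂ) = conj (classInner y (ψ : G → ℂ)) := h
    rw [hn, hn, map_intCast] at h'
    exact_mod_cast h'
  set t := trivIrr G with ht
  have hmt : m t = a := by
    have h' : classInner x (fun _ => (1 : ℂ)) = m t := hm t
    rw [ha] at h'
    exact_mod_cast h'.symm
  have hnt : n t = b := by
    have h' : classInner y (fun _ => (1 : ℂ)) = n t := hn t
    rw [hb] at h'
    exact_mod_cast h'.symm
  rw [hc', ← Finset.add_sum_erase _ _ (Finset.mem_univ t), hmt, hnt, add_sub_cancel_left,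
    ← ZMod.intCast_eq_zero_iff_even, Int.cast_sum]
  refine Finset.sum_involution (fun ψ _ => bar ψ) (fun ψ _ => ?_) (fun ψ hψ _ => ?_) (fun ψ hψ => ?_)
    (fun ψ _ => hbar ψ)
  · rw [hmbar, hnbar]
    exact ZModModule.add_self _
  · intro hfix
    refine Finset.ne_of_mem_erase hψ (Subtype.ext ?_)
    refine Cfsg.Agent.S0161.real_eq_one hodd ψ.2 fun g => ?_
    rw [isCharacter_inv (isCharacter_of_isIrrCharacter ψ.2) g]
    exact congrFun (congrArg Subtype.val hfix) g
  · refine Finset.mem_erase.2 ⟨fun h => Finset.ne_of_mem_erase hψ ?_, Finset.mem_univ _⟩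
    rw [← hbar ψ, h]
    exact Subtype.ext (funext fun g => by simp [ht, bar, conjFun, trivIrr])

end Cfsg.Agent.PFInvDade
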