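import Mathlib
import Cfsg.Agent.S4574
import Cfsg.Agent.Lib.PFInvDade
import Cfsg.Agent.Lib.PF13Tools8

/-!
Peterfalvi 14, analytic part: a signed irreducible character orthogonal to the principal one has
`∑ (‖x g‖ ^ 2 ± re (x g))` nonnegative on every set closed under generators of cyclic subgroups.
-/

set_option autoImplicit false
set_option linter.unusedSectionVars false

open scoped ComplexConjugate

namespace Cfsg.Agent.PF14Ineq54

open CharBasic CharBasicOrth CharBasicDecomp CharBasicCyclic DadeMap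

variable {G : Type*} [Group G] [Fintype G]

/-- The weight. -/
noncomputable def wt (x : G → ℂ) (s : ℝ) (g : G) : ℝ := ‖x g‖ ^ 2 + s * (x g).re

/-- Closed under passing to generators of the same cyclic subgroup. -/
def Closed (R : Finset G) : Prop := ∀ g ∈ R, ∀ a, Subgroup.zpowers a = Subgroup.zpowers g → a ∈ R

theorem gens_sum_nonneg {x : G → ℂ} (hx : Cfsg.IsIrrCharacter G x ∨ Cfsg.IsIrrCharacter G (-x))
    (s : ℝ) (hs : s = 1 ∨ s = -1) (g : G) :
    0 ≤ ∑ a ∈ gens (Subgroup.zpowers g), wt x s a := by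
  obtain ⟨c, hc, habs⟩ : ∃ c : G → ℂ, Cfsg.IsCharacter G c ∧ ∀ a, ‖c a‖ = ‖x a‖ := by
    rcases hx with h | h
    · exact ⟨x, isCharacter_of_isIrrCharacter h, fun _ => rfl⟩
    · exact ⟨-x, isCharacter_of_isIrrCharacter h, fun a => by simp⟩
  by_cases hne : ∀ a ∈ gens (Subgroup.zpowers g), c a = 0
  · refine Finset.sum_nonneg fun a ha => ?_
    have : x a = 0 := by rw [← norm_eq_zero, ← habs, hne a ha, norm_zero]
    simp [wt, this]
  push Not at hne
  obtain ⟨a₀, ha₀, hane⟩ := hne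
  have hge := S4574.sum_gens_ge a₀ hc hane
  rw [mem_gens.1 ha₀] at hge
  simp only [habs] at hge
  have hterm : ∀ a ∈ gens (Subgroup.zpowers g), (‖x a‖ ^ 2 - 1) / 2 ≤ wt x s a := by
    intro a _
    have h1 : |(x a).re| ≤ ‖x a‖ := Complex.abs_re_le_norm _
    have h2 : -‖x a‖ ≤ s * (x a).re := by
      rcases hs with rfl | rfl
      · linarith [neg_abs_le (x a).re]
      · linarith [le_abs_self (x a).re]
    simp only [wt]
    nlinarith [sq_nonneg (‖x a‖ - 1)]
  refine le_trans ?_ (Finset.sum_le_sum hterm)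
  rw [← Finset.sum_div, Finset.sum_sub_distrib, Finset.sum_const, nsmul_eq_mul, mul_one]
  exact div_nonneg (by linarith) (by norm_num)

theorem closed_nonneg {x : G → ℂ} (hx : Cfsg.IsIrrCharacter G x ∨ Cfsg.IsIrrCharacter G (-x))
    (s : ℝ) (hs : s = 1 ∨ s = -1) {R : Finset G} (hR : Closed R) : 0 ≤ ∑ g ∈ R, wt x s g := by
  classical
  have hpos : ∀ g : G, (0 : ℝ) < (gens (Subgroup.zpowers g)).card := fun g =>
    Nat.cast_pos.2 (Finset.card_pos.2 ⟨g, mem_gens.2 rfl⟩)
  have key : ∑ g ∈ R, wt x s g = ∑ g ∈ R,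
      (∑ a ∈ gens (Subgroup.zpowers g), wt x s a) / (gens (Subgroup.zpowers g)).card := by
    simp only [Finset.sum_div]
    rw [Finset.sum_comm' (t' := R) (s' := fun a => gens (Subgroup.zpowers a)) (fun g a => ?_)]
    · refine Finset.sum_congr rfl fun a _ => ?_
      rw [Finset.sum_congr rfl fun g hg => by rw [mem_gens.1 hg], Finset.sum_const, nsmul_eq_mul,
        mul_div_cancel₀ _ (hpos a).ne']
    · simp only [mem_gens]
      exact ⟨fun ⟨h1, h2⟩ => ⟨h2.symm, hR g h1 a h2⟩, fun ⟨h1, h2⟩ => ⟨hR a h2 g h1, h1.symm⟩⟩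
  rw [key]
  exact Finset.sum_nonneg fun g _ => div_nonneg (gens_sum_nonneg hx s hs g) (hpos g).le

theorem closed_compl [DecidableEq G] {R : Finset G} (hR : Closed R) : Closed Rᶜ := by
  intro g hg a ha
  rw [Finset.mem_compl] at hg ⊢
  exact fun h => hg (hR a h g ha.symm)

theorem closed_union [DecidableEq G] {R R' : Finset G} (h : Closed R) (h' : Closed R') : Closed (R ∪ R') := by
  intro g hg a ha
  rw [Finset.mem_union] at hg ⊢
  exact hg.imp (fun k => h g k a ha) fun k => h' g k a ha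

theorem total {x : G → ℂ} (hn : Cfsg.classInner x x = 1) (h1 : Cfsg.classInner x (fun _ => 1) = 0) (s : ℝ) :
    ∑ g, wt x s g = Nat.card G := by
  have hne : (Nat.card G : ℝ) ≠ 0 := Nat.cast_ne_zero.2 Nat.card_pos.ne'
  have a := classInner_self_re x
  rw [hn, Complex.one_re] at a
  have b : ∑ g, x g = 0 := by
    have h := h1
    simp only [Cfsg.classInner, map_one, mul_one, mul_eq_zero, inv_eq_zero, Nat.cast_eq_zero] at h
    exact h.resolve_left Nat.card_pos.ne'
  simp only [wt]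
  rw [Finset.sum_add_distrib, ← Finset.mul_sum, ← Complex.re_sum, b, Complex.zero_re, mul_zero, add_zero]
  field_simp at a
  linarith

/-- The basic inequality. -/
theorem sum_le {x : G → ℂ} (hx : Cfsg.IsIrrCharacter G x ∨ Cfsg.IsIrrCharacter G (-x))
    (hn : Cfsg.classInner x x = 1) (h1 : Cfsg.classInner x (fun _ => 1) = 0)
    (s : ℝ) (hs : s = 1 ∨ s = -1) {R : Finset G} (hR : Closed R) :
    ∑ g ∈ R, wt x s g ≤ Nat.card G := by
  classical
  rw [← total hn h1 s, ← Finset.sum_add_sum_compl R]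
  linarith [closed_nonneg hx s hs (closed_compl hR)]

theorem closed_region {T : Finset G} (hT : Closed T) : Closed (PF13Tools8.region T) := by
  intro g hg a ha
  rw [PF13Tools8.mem_region] at hg ⊢
  obtain ⟨z, hz⟩ := hg
  refine ⟨z, hT _ hz _ ?_⟩
  have e : ∀ b : G, Subgroup.zpowers (z * b * z⁻¹) = (Subgroup.zpowers b).map (MulAut.conj z).toMonoidHom :=
    fun b => by rw [MonoidHom.map_zpowers]; rfl
  rw [e, e, ha]

theorem wt_conj {x : G → ℂ} (hx : Cfsg.IsClassFunction G x) (s : ℝ) (y g : G) :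
    wt x s (y * g * y⁻¹) = wt x s g := by simp only [wt, hx g y]

/-- The contribution of a set of TI type. -/
theorem region_wt {x : G → ℂ} (hx : Cfsg.IsClassFunction G x) (s : ℝ) (N : Subgroup G) (T : Finset G)
    (hfus : ∀ y : G, ∀ t ∈ T, y * t * y⁻¹ ∈ T → y ∈ N) (hstab : ∀ n ∈ N, ∀ t ∈ T, n * t * n⁻¹ ∈ T) :
    ∑ g ∈ PF13Tools8.region T, wt x s g = (Nat.card G : ℝ) * (∑ t ∈ T, wt x s t) / (Nat.card N : ℝ) := by
  rw [eq_div_iff (Nat.cast_ne_zero.2 Nat.card_pos.ne'), mul_comm,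
    PF13Tools8.region_sum N T hfus hstab (wt x s) (fun y g => wt_conj hx s y g)]

section Dade

variable {A : Set G} {L : Subgroup G} {H : G → Subgroup G}

/-- The normal complement in a centraliser depends only on the cyclic subgroup. -/
theorem H_le_of_zpowers (hD : Cfsg.DadeHypothesis A L H) {a b : G} (ha : a ∈ A) (hb : b ∈ A)
    (h : Subgroup.zpowers b = Subgroup.zpowers a) {u : G} (hu : u ∈ H a) : u ∈ H b := by
  have hC : Subgroup.centralizer ({a} : Set G) ≤ Subgroup.centralizer ({b} : Set G) := by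
    intro z hz
    rw [Subgroup.mem_centralizer_singleton_iff] at hz ⊢
    obtain ⟨k, rfl⟩ : b ∈ Subgroup.zpowers a := h ▸ Subgroup.mem_zpowers b
    exact Commute.zpow_right hz k
  have huC := hC (hD.le_centralizer a ha hu)
  set C' := L ⊓ Subgroup.centralizer ({b} : Set G)
  have hn : C' ≤ Subgroup.normalizer (H b : Set G) := by
    intro z hz
    apply Subgroup.mem_normalizer_iff.2
    intro v
    refine ⟨fun hv => hD.conj_mem_H b hb z hz.2 v hv, fun hv => ?_⟩
    have := hD.conj_mem_H b hb z⁻¹ (inv_mem hz.2) _ hv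
    simpa [mul_assoc] using this
  have hu' : u ∈ ((H b ⊔ C' : Subgroup G) : Set G) := (hD.sup_eq b hb).symm ▸ huC
  rw [Subgroup.coe_mul_of_right_le_normalizer_left _ _ hn] at hu'
  obtain ⟨v, hv, c, hc, e⟩ := hu'
  have key : ∀ k : ℕ, ∃ y ∈ H b, u ^ k = y * c ^ k := by
    intro k
    induction k with
    | zero => exact ⟨1, one_mem _, by simp⟩
    | succ k ih =>
      obtain ⟨y, hy, ey⟩ := ih
      refine ⟨y * (c ^ k * v * (c ^ k)⁻¹), mul_mem hy (hD.conj_mem_H b hb _ (pow_mem hc.2 k) v hv), ?_⟩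
      rw [pow_succ, ey, show u = v * c from e.symm, pow_succ]
      group
  set m := Nat.card (H a)
  obtain ⟨y, hy, ey⟩ := key m
  rw [show u ^ m = 1 from orderOf_dvd_iff_pow_eq_one.1 (Subgroup.orderOf_dvd_natCard _ hu)] at ey
  have hcm : c ^ m ∈ H b ⊓ C' := by
    refine Subgroup.mem_inf.2 ⟨?_, pow_mem hc m⟩
    rw [show c ^ m = y⁻¹ by rw [eq_inv_iff_mul_eq_one, ← mul_eq_one_comm, ← ey]]
    exact inv_mem hy
  rw [hD.inf_eq_bot b hb, Subgroup.mem_bot] at hcm
  have hc1 : c = 1 := orderOf_eq_one_iff.1 (Nat.eq_one_of_dvd_coprimes (hD.coprime a ha b hb)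
    (orderOf_dvd_of_pow_eq_one hcm) (Subgroup.orderOf_dvd_natCard _ hc))
  rw [show u = v * c from e.symm, hc1, mul_one]
  exact hv

open Classical in
theorem closed_support (hD : Cfsg.DadeHypothesis A L H)
    (hA : ∀ a ∈ A, ∀ b, Subgroup.zpowers b = Subgroup.zpowers a → b ∈ A) :
    Closed (Finset.univ.filter (InSupport A L H)) := by
  intro g hg b hb
  rw [Finset.mem_filter] at hg ⊢
  refine ⟨Finset.mem_univ _, ?_⟩
  obtain ⟨a, ha, u, hu, x, hx⟩ := (inSupport_iff hD g).1 hg.2
  have hb' : b ∈ gens (Subgroup.zpowers g) := mem_gens.2 hb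
  obtain ⟨j, hj, rfl⟩ := (gens_eq_image g b).1 hb'
  have hcomm : Commute a u := by
    have := hD.le_centralizer a ha hu
    exact (Subgroup.mem_centralizer_singleton_iff.1 this).symm
  have hco : (orderOf a).Coprime (orderOf u) :=
    Nat.Coprime.coprime_dvd_left (Subgroup.orderOf_dvd_natCard (L ⊓ Subgroup.centralizer ({a} : Set G))
      (Subgroup.mem_inf.2 ⟨hD.subset ha, Subgroup.mem_centralizer_singleton_iff.2 rfl⟩))
      (Nat.Coprime.coprime_dvd_right (Subgroup.orderOf_dvd_natCard _ hu) (hD.coprime a ha a ha).symm)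
  have hg' : orderOf g = orderOf a * orderOf u := by
    rw [← hcomm.orderOf_mul_eq_mul_orderOf_of_coprime hco, ← hx]
    exact (orderOf_injective (MulAut.conj x).toMonoidHom (MulAut.conj x).injective g).symm
  rw [hg'] at hj
  have hja : Subgroup.zpowers (a ^ j) = Subgroup.zpowers a :=
    mem_gens.1 ((gens_eq_image a (a ^ j)).2 ⟨j, hj.coprime_mul_right_right, rfl⟩)
  have haj : a ^ j ∈ A := hA a ha _ hja
  refine (inSupport_iff hD _).2 ⟨a ^ j, haj, u ^ j, pow_mem (H_le_of_zpowers hD ha haj hja hu) j, x, ?_⟩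
  rw [← conj_pow, hx, hcomm.mul_pow]

open Classical in
/-- The contribution of the support of a Dade map on which the adjoint is constant. -/
theorem support_wt [Fintype L] (hD : Cfsg.DadeHypothesis A L H) {x : G → ℂ} (hx : Cfsg.IsClassFunction G x)
    (d : ℝ) (hd : ∀ a : ↥L, (a : G) ∈ A → PFInvDade.invDade A L H x a = (d : ℂ)) (s : ℝ) :
    (Nat.card G : ℝ) * ((d ^ 2 + s * d) * (A.ncard : ℝ) / (Nat.card L : ℝ)) ≤
      ∑ g ∈ Finset.univ.filter (InSupport A L H), wt x s g := by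
  have hG : (Nat.card G : ℝ) ≠ 0 := Nat.cast_ne_zero.2 Nat.card_pos.ne'
  have hAc : (Finset.univ.filter fun a : ↥L => (a : G) ∈ A).card = A.ncard := by
    rw [← Fintype.card_subtype, ← Nat.card_eq_fintype_card, ← Nat.card_coe_set_eq]
    exact Nat.card_congr ⟨fun z => ⟨z.1.1, z.2⟩, fun z => ⟨⟨z.1, hD.subset z.2⟩, z.2⟩, fun _ => rfl, fun _ => rfl⟩
  have h1 := PFInvDade.norm_invDade_le hD hx
  rw [classInner_self_re] at h1
  have hnorm : ∑ a : ↥L, ‖PFInvDade.invDade A L H x a‖ ^ 2 = d ^ 2 * (A.ncard : ℝ) := by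
    rw [← Finset.sum_filter_of_ne (p := fun a : ↥L => (a : G) ∈ A) (fun a _ ha => by
        by_contra h
        exact ha (by rw [PFInvDade.invDade_eq_zero a h]; simp)),
      Finset.sum_congr rfl fun a ha => by rw [hd a (Finset.mem_filter.1 ha).2, Complex.norm_real,
        Real.norm_eq_abs, sq_abs], Finset.sum_const, hAc, nsmul_eq_mul, mul_comm]
  rw [hnorm] at h1
  let one : ↥L → ℂ := fun a => if (a : G) ∈ A then 1 else 0
  have hone : Cfsg.IsClassFunction ↥L one := fun a y => by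
    refine if_congr ⟨fun h => ?_, fun h => ?_⟩ rfl rfl
    · simpa [mul_assoc] using hD.conj_mem _ (inv_mem y.2) _ h
    · exact hD.conj_mem _ y.2 _ h
  have h2 := PFInvDade.inner_dade_eq hD hone (fun a ha => if_neg ha) hx
  have hR : (Cfsg.classInner one (PFInvDade.invDade A L H x)) = ((d * (A.ncard : ℝ) / (Nat.card L : ℝ) : ℝ) : ℂ) := by
    simp only [Cfsg.classInner, one]
    rw [Finset.sum_congr rfl fun (a : ↥L) _ => show (if (a : G) ∈ A then (1 : ℂ) else 0) *
        conj (PFInvDade.invDade A L H x a) = if (a : G) ∈ A then (d : ℂ) else 0 by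
      split_ifs with h
      · rw [hd a h, Complex.conj_ofReal, one_mul]
      · rw [zero_mul], ← Finset.sum_filter, Finset.sum_const, hAc, nsmul_eq_mul]
    push_cast
    ring
  have hL : Cfsg.classInner (Cfsg.dadeIsometry A L H one) x =
      (Nat.card G : ℂ)⁻¹ * ∑ g ∈ Finset.univ.filter (InSupport A L H), conj (x g) := by
    simp only [Cfsg.classInner, Finset.sum_filter]
    congr 1
    refine Finset.sum_congr rfl fun g _ => ?_
    split_ifs with h
    · obtain ⟨a, ha, u, hu, y, hy⟩ := (inSupport_iff hD g).1 h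
      have hv := dade_apply_coset hD hone ⟨a, hD.subset ha⟩ ha hu
      have hc := dade_isClassFunction hD hone g y
      rw [hy, hv] at hc
      simp only [one, ha, if_true] at hc
      rw [← hc, one_mul]
    · rw [dade_eq_zero h, zero_mul]
  rw [hL, hR] at h2
  have h3 := congrArg Complex.re h2
  rw [Complex.ofReal_re, ← Complex.ofReal_natCast, ← Complex.ofReal_inv, Complex.re_ofReal_mul,
    Complex.re_sum] at h3
  simp only [Complex.conj_re] at h3
  simp only [wt]
  rw [Finset.sum_add_distrib, ← Finset.mul_sum]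
  have hGpos : (0 : ℝ) < Nat.card G := Nat.cast_pos.2 Nat.card_pos
  have hLne : (Nat.card L : ℝ) ≠ 0 := Nat.cast_ne_zero.2 Nat.card_pos.ne'
  have h1' : (Nat.card G : ℝ) * (d ^ 2 * (A.ncard : ℝ) / (Nat.card L : ℝ)) ≤
      ∑ g ∈ Finset.univ.filter (InSupport A L H), ‖x g‖ ^ 2 := by
    have := mul_le_mul_of_nonneg_left h1 hGpos.le
    rw [mul_inv_cancel_left₀ hG] at this
    refine le_trans (le_of_eq ?_) this
    field_simp
  have h3' : ∑ g ∈ Finset.univ.filter (InSupport A L H), (x g).re =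
      (Nat.card G : ℝ) * (d * (A.ncard : ℝ) / (Nat.card L : ℝ)) := by
    rw [← h3, mul_inv_cancel_left₀ hG]
  rw [h3']
  have e : (Nat.card G : ℝ) * ((d ^ 2 + s * d) * (A.ncard : ℝ) / (Nat.card L : ℝ)) =
      (Nat.card G : ℝ) * (d ^ 2 * (A.ncard : ℝ) / (Nat.card L : ℝ)) +
        s * ((Nat.card G : ℝ) * (d * (A.ncard : ℝ) / (Nat.card L : ℝ))) := by ring
  rw [e]
  linarith

end Dade

end Cfsg.Agent.PF14Ineq54
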