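/-
The image of the difference of a fixed and a regular character of `K`: a column of the cyclic TI family and
one further character.
-/
import Mathlib
import Cfsg.Agent.Lib.PF13Tools8

set_option autoImplicit false
set_option linter.unusedSectionVars false
set_option linter.style.haveILetI false

open scoped ComplexConjugate

namespace Cfsg.Agent.PF13Cols8

open CharBasic CharBasicOrth CharBasicDecomp CyclicTI PF13Congr8 PF13Mass8 PF13Tools8

variable {G : Type*} [Group G] [Fintype G] {W₁ W₂ : Subgroup G}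

/-- The standing data: the cyclic TI family and the side `K` of `S`. -/
structure Ctx (W₁ W₂ S K : Subgroup G) (p q : ℕ) (χ : (↥(W₁ ⊔ W₂) →* ℂˣ) → (G → ℂ)) : Prop where
  hW : Cfsg.IsSelfNormalizingCyclic W₁ W₂
  hodd : Odd (Nat.card ↥(W₁ ⊔ W₂))
  fam : Cfsg.IsCyclicTIFamily W₁ W₂ χ
  hp : p.Prime
  hp3 : 3 ≤ p
  hq3 : 3 ≤ q
  hpq : p ≠ q
  cW₁ : Nat.card W₁ = q
  cW₂ : Nat.card W₂ = p
  side : Side S K W₁ W₂ q

variable {S K : Subgroup G} {p q : ℕ} {χ : (↥(W₁ ⊔ W₂) →* ℂˣ) → (G → ℂ)}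

theorem gen (C : Ctx W₁ W₂ S K p q χ) (ω : ↥(W₁ ⊔ W₂) →* ℂˣ) : Cfsg.IsGeneralizedCharacter G (χ ω) := by
  rcases C.fam.irr_or_neg ω with h | h
  · exact isGeneralizedCharacter_of_isCharacter (isCharacter_of_isIrrCharacter h)
  · simpa using isGeneralizedCharacter_neg (isGeneralizedCharacter_of_isCharacter (isCharacter_of_isIrrCharacter h))

theorem cls (C : Ctx W₁ W₂ S K p q χ) (ω : ↥(W₁ ⊔ W₂) →* ℂˣ) : Cfsg.IsClassFunction G (χ ω) :=
  isClassFunction_of_isGeneralizedCharacter (gen C ω)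

theorem pow_card_row (C : Ctx W₁ W₂ S K p q χ) {φ : ↥(W₁ ⊔ W₂) →* ℂˣ} (hφ : TrivOn W₂ φ) (w : ↥(W₁ ⊔ W₂)) :
    φ w ^ q = 1 := by
  have hd := hdisj C.hW
  have hc := hcomm C.hW
  rw [← proj_mul hd hc w, map_mul, hφ _ (proj₂_mem hd hc w), mul_one, ← map_pow,
    show (proj₁ hd hc w) ^ q = 1 from Subtype.ext ?_, map_one]
  rw [Subgroup.coe_pow]
  exact orderOf_dvd_iff_pow_eq_one.1 (C.cW₁ ▸ Subgroup.orderOf_dvd_natCard W₁ (proj₁_mem hd hc w))

/-- The values on `W₂` are the restrictions, modulo `q`. -/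
theorem congr_B (C : Ctx W₁ W₂ S K p q χ) (ω : ↥(W₁ ⊔ W₂) →* ℂˣ) (b : ↥W₂) (hb : b ≠ 1) :
    Nul q (χ ω b - ((ω.comp (Subgroup.inclusion le_sup_right)) b : ℂ)) := by
  have hd := hdisj C.hW
  obtain ⟨x, hx, hx1⟩ := W₁.bot_or_exists_ne_one.resolve_left C.hW.1
  have hbW : (b : G) ∈ W₁ ⊔ W₂ := Subgroup.mem_sup_right b.2
  have hxW : x ∈ W₁ ⊔ W₂ := Subgroup.mem_sup_left hx
  have hn1 : x * (b : G) ∉ W₁ := fun h => hb (Subtype.ext (Subgroup.mem_bot.1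
    (hd ▸ (⟨by simpa using W₁.mul_mem (W₁.inv_mem hx) h, b.2⟩ : (b : G) ∈ W₁ ⊓ W₂))))
  have hn2 : x * (b : G) ∉ W₂ := fun h => hx1 (Subgroup.mem_bot.1
    (hd ▸ (⟨hx, by simpa using W₂.mul_mem h (W₂.inv_mem b.2)⟩ : x ∈ W₁ ⊓ W₂)))
  have hxq : x ^ q = 1 := orderOf_dvd_iff_pow_eq_one.1 (C.cW₁ ▸ Subgroup.orderOf_dvd_natCard W₁ hx)
  have h1 := genchar_congr_mul C.side.hq (gen C ω) (C.side.commAB x hx b b.2) hxq
    (C.side.cop.coprime_dvd_right ((Subgroup.orderOf_dvd_natCard W₂ b.2).trans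
      (Subgroup.card_dvd_of_le C.side.leB)))
  have h2 : χ ω (x * (b : G)) = (ω ⟨x, hxW⟩ : ℂ) * (ω ⟨b, hbW⟩ : ℂ) := by
    rw [← Units.val_mul, ← map_mul]
    exact C.fam.eq_on ω (⟨x, hxW⟩ * ⟨b, hbW⟩) hn1 hn2
  have hint : ∀ w : ↥(W₁ ⊔ W₂), IsIntegral ℤ (ω w : ℂ) := fun w =>
    isCharacter_integral (isCharacter_linear ω) w
  have h3 : Nul q ((ω ⟨x, hxW⟩ : ℂ) - 1) := nul_sub_of_pow (e := 1) C.side.hq (hint _) isIntegral_one (by
    rw [pow_one, one_pow, ← Units.val_pow_eq_pow_val, ← map_pow,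
      show (⟨x, hxW⟩ : ↥(W₁ ⊔ W₂)) ^ q = 1 from Subtype.ext hxq, map_one, Units.val_one])
  refine (h1.add (h3.mul_left (hint ⟨b, hbW⟩))).congr ?_
  rw [h2]
  show _ = χ ω b - (ω ⟨b, hbW⟩ : ℂ)
  ring

theorem row_eq_pow (C : Ctx W₁ W₂ S K p q χ) {φ φ' : ↥(W₁ ⊔ W₂) →* ℂˣ} (hφ : TrivOn W₂ φ) (h1 : φ ≠ 1)
    (hφ' : TrivOn W₂ φ') (h1' : φ' ≠ 1) : ∃ r : ℕ, r.Coprime q ∧ φ' = φ ^ r := by
  classical
  obtain ⟨w, hw⟩ : ∃ w, φ w ≠ 1 := by
    by_contra h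
    push Not at h
    exact h1 (MonoidHom.ext h)
  have ho : orderOf (φ w) = q :=
    ((Nat.dvd_prime C.side.hq).1 (orderOf_dvd_of_pow_eq_one (pow_card_row C hφ w))).resolve_left
      (by simpa using hw)
  haveI := hom_fintype ↥(W₁ ⊔ W₂)
  haveI : Fintype (↥(W₁ ⊔ W₂) →* ℂˣ) := Fintype.ofFinite _
  let f : Fin q → {θ : ↥(W₁ ⊔ W₂) →* ℂˣ // TrivOn W₂ θ} := fun i => ⟨φ ^ (i : ℕ), fun x hx => by
    rw [MonoidHom.pow_apply, hφ x hx, one_pow]⟩
  have hf : Function.Injective f := fun i j h => by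
    have e : φ w ^ (i : ℕ) = φ w ^ (j : ℕ) := by
      rw [← MonoidHom.pow_apply, ← MonoidHom.pow_apply]
      exact DFunLike.congr_fun (congrArg Subtype.val h) w
    exact Fin.ext (pow_injOn_Iio_orderOf (x := φ w) (ho.symm ▸ i.2) (ho.symm ▸ j.2) e)
  have hcard : Nat.card {θ : ↥(W₁ ⊔ W₂) →* ℂˣ // TrivOn W₂ θ} = q := by
    rw [Nat.card_congr (CyclicTIFamily.trivEquiv₁ (hdisj C.hW) (hcomm C.hW)),
      CyclicTIFamily.card_dual fun (a b : ↥W₁) => Subtype.ext (congrArg (Subtype.val : ↥(W₁ ⊔ W₂) → G)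
        (CyclicTI.comm C.hW ⟨a, Subgroup.mem_sup_left a.2⟩ ⟨b, Subgroup.mem_sup_left b.2⟩)), C.cW₁]
  obtain ⟨i, hi⟩ := ((Nat.bijective_iff_injective_and_card f).2 ⟨hf, by rw [Nat.card_fin, hcard]⟩).2 ⟨φ', hφ'⟩
  refine ⟨i, (C.side.hq.coprime_iff_not_dvd.2 fun hd => ?_).symm, (congrArg Subtype.val hi).symm⟩
  have h0 : (i : ℕ) = 0 := Nat.eq_zero_of_dvd_of_lt hd i.2
  refine h1' (MonoidHom.ext fun x => ?_)
  rw [← DFunLike.congr_fun (congrArg Subtype.val hi) x]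
  show (φ ^ (i : ℕ)) x = _
  rw [MonoidHom.pow_apply, h0, pow_zero]; rfl

/-- Rows take equal rational values on elements of order prime to `q`, also at coprime powers. -/
theorem row_galois (C : Ctx W₁ W₂ S K p q χ) {φ φ' : ↥(W₁ ⊔ W₂) →* ℂˣ} (hφ : TrivOn W₂ φ) (h1 : φ ≠ 1)
    (hφ' : TrivOn W₂ φ') (h1' : φ' ≠ 1) {g : G} (hg : (orderOf g).Coprime q) {m : ℕ}
    (hm : m.Coprime (orderOf g)) : χ φ' (g ^ m) = χ φ g := by
  obtain ⟨r, hr, rfl⟩ := row_eq_pow C hφ h1 hφ' h1'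
  refine family_galois C.hW C.hodd C.fam ?_ (pow_card_row C hφ) hg hr hm
  exact C.cW₁ ▸ Subgroup.card_subgroup_dvd_card W₁

theorem order_K (C : Ctx W₁ W₂ S K p q χ) (k : ↥K) : (orderOf (k : G)).Coprime q :=
  (C.side.cop.coprime_dvd_right (Subgroup.orderOf_dvd_natCard K k.2)).symm

theorem coef_row (C : Ctx W₁ W₂ S K p q χ) {φ φ' : ↥(W₁ ⊔ W₂) →* ℂˣ} (hφ : TrivOn W₂ φ) (h1 : φ ≠ 1)
    (hφ' : TrivOn W₂ φ') (h1' : φ' ≠ 1) (θ : ↥K →* ℂˣ) : coef K (χ φ') θ = coef K (χ φ) θ := by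
  haveI : Fintype ↥K := Fintype.ofFinite _
  rw [coef_eq, coef_eq]
  congr 1
  funext k
  have := row_galois C hφ h1 hφ' h1' (order_K C k) (Nat.coprime_one_left _)
  rwa [pow_one] at this

theorem conj_notMem_K (C : Ctx W₁ W₂ S K p q χ) {w : ↥(W₁ ⊔ W₂)} (hw : (w : G) ∉ W₂) (x : G) :
    x * w * x⁻¹ ∉ K := by
  intro hk
  have hd := hdisj C.hW
  have hc := hcomm C.hW
  have h0 : (x * w * x⁻¹) ^ Nat.card K = 1 :=
    orderOf_dvd_iff_pow_eq_one.1 (Subgroup.orderOf_dvd_natCard K hk)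
  rw [conj_pow] at h0
  have h1 : w ^ Nat.card K = 1 := Subtype.ext (by
    rw [Subgroup.coe_pow]
    have := congrArg (fun z => x⁻¹ * z * x) h0
    simpa [mul_assoc] using this)
  refine proj₁_ne_one hd hc hw (orderOf_eq_one_iff.1 (Nat.eq_one_of_dvd_coprimes C.side.cop ?_ ?_))
  · rw [← orderOf_submonoid]
    exact C.cW₁ ▸ Subgroup.orderOf_dvd_natCard W₁ (proj₁_mem hd hc w)
  · exact orderOf_dvd_of_pow_eq_one (by rw [← map_pow, h1, map_one])

theorem indDiff_vanish (C : Ctx W₁ W₂ S K p q χ) (a b : ↥K →* ℂˣ) {w : ↥(W₁ ⊔ W₂)} (hw : (w : G) ∉ W₂) :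
    PF13Tools8.indDiff K a b (w : G) = 0 := by
  refine CharInduced.ind_eq_zero_of_not_conj _ _ _ fun x => ?_
  have := conj_notMem_K C hw x⁻¹
  rwa [inv_inv] at this

/-- The linear characters of `W` trivial on `W₂`. -/
noncomputable def rows (W₁ W₂ : Subgroup G) : Finset (↥(W₁ ⊔ W₂) →* ℂˣ) :=
  haveI := hom_fintype ↥(W₁ ⊔ W₂)
  (Set.toFinite {ω : ↥(W₁ ⊔ W₂) →* ℂˣ | TrivOn W₂ ω}).toFinset

theorem mem_rows {ω : ↥(W₁ ⊔ W₂) →* ℂˣ} : ω ∈ rows W₁ W₂ ↔ TrivOn W₂ ω := by simp [rows]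

/-- The sum of a column of the family. -/
noncomputable def colSum (χ : (↥(W₁ ⊔ W₂) →* ℂˣ) → (G → ℂ)) (col : ↥(W₁ ⊔ W₂) →* ℂˣ) : G → ℂ :=
  ∑ φ ∈ rows W₁ W₂, χ (φ * col)


theorem unit_coef (θ : ↥K →* ℂˣ) (h : θ ≠ 1) : coef K (fun _ => 1) θ = 0 := by
  classical
  haveI : Fintype ↥K := Fintype.ofFinite _
  rw [coef_eq, show (fun _ : ↥K => (1 : ℂ)) = fun k => (((1 : ↥K →* ℂˣ) k : ℂˣ) : ℂ) from
    funext fun _ => by simp, CyclicTI.inner_hom, if_neg (Ne.symm h)]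

/-- The linear characters of `W` trivial on `W₁`. -/
noncomputable def cols (W₁ W₂ : Subgroup G) : Finset (↥(W₁ ⊔ W₂) →* ℂˣ) :=
  haveI := hom_fintype ↥(W₁ ⊔ W₂)
  (Set.toFinite {ω : ↥(W₁ ⊔ W₂) →* ℂˣ | TrivOn W₁ ω}).toFinset

theorem mem_cols {ω : ↥(W₁ ⊔ W₂) →* ℂˣ} : ω ∈ cols W₁ W₂ ↔ TrivOn W₁ ω := by simp [cols]

theorem card_rows (C : Ctx W₁ W₂ S K p q χ) : (rows W₁ W₂).card = q := by
  rw [← Nat.card_eq_finsetCard,
    Nat.card_congr ((Equiv.subtypeEquivRight fun ω => mem_rows).trans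
      (CyclicTIFamily.trivEquiv₁ (hdisj C.hW) (hcomm C.hW))),
    CyclicTIFamily.card_dual fun (a b : ↥W₁) => Subtype.ext (congrArg (Subtype.val : ↥(W₁ ⊔ W₂) → G)
      (CyclicTI.comm C.hW ⟨a, Subgroup.mem_sup_left a.2⟩ ⟨b, Subgroup.mem_sup_left b.2⟩)), C.cW₁]

theorem card_cols (C : Ctx W₁ W₂ S K p q χ) : (cols W₁ W₂).card = p := by
  rw [← Nat.card_eq_finsetCard,
    Nat.card_congr ((Equiv.subtypeEquivRight fun ω => mem_cols).trans
      (CyclicTIFamily.trivEquiv₂ (hdisj C.hW) (hcomm C.hW))),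
    CyclicTIFamily.card_dual fun (a b : ↥W₂) => Subtype.ext (congrArg (Subtype.val : ↥(W₁ ⊔ W₂) → G)
      (CyclicTI.comm C.hW ⟨a, Subgroup.mem_sup_right a.2⟩ ⟨b, Subgroup.mem_sup_right b.2⟩)), C.cW₂]

open Classical in
/-- The table of inner products of a function vanishing off the conjugates of `W₂`. -/
theorem table (C : Ctx W₁ W₂ S K p q χ) {θ : G → ℂ} (hθ : Cfsg.IsClassFunction G θ)
    (hv : ∀ w : ↥(W₁ ⊔ W₂), (w : G) ∉ W₂ → θ w = 0) (N : (↥(W₁ ⊔ W₂) →* ℂˣ) → ℤ)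
    (hN : ∀ ω, Cfsg.classInner θ (χ ω) = N ω) (h1 : N 1 = 0) (a : ℤ)
    (ha : ∀ r ∈ (rows W₁ W₂).erase 1, N r = a) :
    (((q : ℤ) - 1) * a ^ 2 + ∑ c ∈ (cols W₁ W₂).erase 1, (N c ^ 2 + ((q : ℤ) - 1) * (a + N c) ^ 2) : ℤ) ≤
      (Cfsg.classInner θ θ).re := by
  have hd := hdisj C.hW
  have hc := hcomm C.hW
  have hb := bessel (rows W₁ W₂ ×ˢ cols W₁ W₂) (fun i => χ (i.1 * i.2))
    (fun i hi j hj => by
      rw [Finset.mem_product, mem_rows, mem_cols] at hi hj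
      have e : i.1 * i.2 = j.1 * j.2 ↔ i = j := by
        rw [mul_left_inj_of_triv hd hc hi.1 hj.1 hi.2 hj.2, ← Prod.ext_iff]
      rw [C.fam.orthonormal]
      by_cases h : i = j
      · rw [if_pos (e.2 h), if_pos h]
      · rw [if_neg (mt e.1 h), if_neg h])
    θ (fun i => N i.1 + N i.2) (fun i hi => by
      rw [Finset.mem_product, mem_rows, mem_cols] at hi
      rw [rectangle C.hW C.fam hθ (fun w _ h2 => hv w h2), part₁_eq hd hc hi.1 hi.2,
        part₂_eq hd hc hi.1 hi.2, hN, hN, hN, h1]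
      push_cast; ring)
  refine le_of_eq_of_le (congrArg (Int.cast : ℤ → ℝ) ?_) hb
  have h1r : (1 : ↥(W₁ ⊔ W₂) →* ℂˣ) ∈ rows W₁ W₂ := mem_rows.2 (trivOn_one _)
  have h1c : (1 : ↥(W₁ ⊔ W₂) →* ℂˣ) ∈ cols W₁ W₂ := mem_cols.2 (trivOn_one _)
  have hcard : (((rows W₁ W₂).erase 1).card : ℤ) = (q : ℤ) - 1 := by
    rw [Finset.card_erase_of_mem h1r, card_rows C, Nat.cast_sub (by have := C.hq3; omega), Nat.cast_one]
  rw [Finset.sum_product_right, ← Finset.add_sum_erase _ _ h1c]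
  refine congrArg₂ (· + ·) ?_ (Finset.sum_congr rfl fun c _ => ?_) <;> symm
  · rw [← Finset.add_sum_erase _ _ h1r, Finset.sum_congr rfl fun r hr => show (N r + N 1) ^ 2 = a ^ 2 by
      rw [ha r hr, h1, add_zero], Finset.sum_const, nsmul_eq_mul, h1, hcard]
    ring
  · rw [← Finset.add_sum_erase _ _ h1r, Finset.sum_congr rfl fun r hr => show (N r + N c) ^ 2 = (a + N c) ^ 2 by
      rw [ha r hr], Finset.sum_const, nsmul_eq_mul, h1, hcard]
    ring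

open Classical in
/-- A table of small total norm consists of the rows only through the columns. -/
theorem table_small (C : Ctx W₁ W₂ S K p q χ) (N : (↥(W₁ ⊔ W₂) →* ℂˣ) → ℤ) (a : ℤ)
    (h : ((q : ℤ) - 1) * a ^ 2 + ∑ c ∈ (cols W₁ W₂).erase 1, (N c ^ 2 + ((q : ℤ) - 1) * (a + N c) ^ 2) ≤ q) :
    a = 0 ∧ (q : ℤ) * ∑ c ∈ (cols W₁ W₂).erase 1, N c ^ 2 =
      ((q : ℤ) - 1) * a ^ 2 + ∑ c ∈ (cols W₁ W₂).erase 1, (N c ^ 2 + ((q : ℤ) - 1) * (a + N c) ^ 2) := by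
  have hq : (3 : ℤ) ≤ q := by exact_mod_cast C.hq3
  have hp : (3 : ℤ) ≤ p := by exact_mod_cast C.hp3
  have hsq : ∀ z : ℤ, z ≠ 0 → 1 ≤ z ^ 2 := fun z hz => by
    have := sq_pos_of_ne_zero hz
    omega
  have ha : a = 0 := by
    by_contra ha
    have hterm : ∀ c ∈ (cols W₁ W₂).erase 1, (1 : ℤ) ≤ N c ^ 2 + ((q : ℤ) - 1) * (a + N c) ^ 2 := by
      intro c _
      rcases eq_or_ne (N c) 0 with e | e
      · rw [e, add_zero]; nlinarith [hsq a ha]
      · nlinarith [hsq _ e, sq_nonneg (a + N c)]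
    have hs := Finset.card_nsmul_le_sum _ _ _ hterm
    rw [nsmul_eq_mul, mul_one, Finset.card_erase_of_mem (mem_cols.2 (trivOn_one _)), card_cols C,
      Nat.cast_sub (by have := C.hp3; omega)] at hs
    push_cast at hs
    nlinarith [hsq a ha]
  refine ⟨ha, ?_⟩
  subst ha
  rw [Finset.mul_sum]
  ring_nf

open Classical in
theorem stab_regular (C : Ctx W₁ W₂ S K p q χ) {ψ : ↥K →* ℂˣ}
    (hst : ∀ s : ↥S, act C.side s ψ = ψ → (s : G) ∈ K) : kk C.side ψ ψ = 1 := by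
  rw [kk_self]
  letI := charAction C.side
  have e : MulAction.stabilizer ↥S ψ = K.subgroupOf S := by
    refine Subgroup.ext fun s => ⟨fun hs => hst s hs, fun hs => ?_⟩
    show act C.side s ψ = ψ
    refine MonoidHom.ext fun k => ?_
    rw [act_apply]
    congr 1
    refine Subtype.ext ?_
    rw [conjAut_coe, Subgroup.coe_inv, C.side.ab _ (K.inv_mem (Subgroup.mem_subgroupOf.1 hs)) _ k.2,
      mul_inv_cancel_right]
  rw [e, Nat.card_congr (Subgroup.subgroupOfEquivOfLe C.side.le).toEquiv]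
  exact inv_mul_cancel₀ (Nat.cast_ne_zero.2 Nat.card_pos.ne')

theorem inf_eq_bot (C : Ctx W₁ W₂ S K p q χ) : K ⊓ W₁ = ⊥ :=
  Subgroup.inf_eq_bot_of_coprime (C.side.cardA.symm ▸ C.side.cop.symm)

theorem notMem_K (C : Ctx W₁ W₂ S K p q χ) : ∃ x ∈ W₁, x ∉ K := by
  obtain ⟨x, hx, hx1⟩ := W₁.bot_or_exists_ne_one.resolve_left C.hW.1
  exact ⟨x, hx, fun h => hx1 (Subgroup.mem_bot.1 (inf_eq_bot C ▸ (⟨h, hx⟩ : x ∈ K ⊓ W₁)))⟩

open Classical in
theorem stab_fixed (C : Ctx W₁ W₂ S K p q χ) {φ : ↥K →* ℂˣ}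
    (hfix : ∀ s : ↥S, (s : G) ∈ W₁ → act C.side s φ = φ) (hne : ∃ b : ↥K, (b : G) ∈ W₂ ∧ φ b ≠ 1) :
    kk C.side φ φ = q := by
  rw [kk_self]
  letI := charAction C.side
  have h1 := card_orbit_fixed C.side hfix hne
  have h2 : Nat.card (MulAction.orbit ↥S φ) * Nat.card (MulAction.stabilizer ↥S φ) = Nat.card ↥S := by
    rw [Nat.card_congr (MulAction.orbitEquivQuotientStabilizer ↥S φ), ← Subgroup.index_eq_card,
      Subgroup.index_mul_card]
  haveI : (K.subgroupOf S).Normal := ⟨fun k hk s => C.side.conjK s s.2 k hk⟩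
  have hle : K ⊔ W₁ ≤ S := sup_le C.side.le C.side.leA
  have h3 : Nat.card ↥((K ⊔ W₁).subgroupOf S) = Nat.card K * q := by
    rw [show (K ⊔ W₁).subgroupOf S = K.subgroupOf S ⊔ W₁.subgroupOf S from
        Subgroup.subgroupOf_sup C.side.le C.side.leA, ← Subgroup.relIndex_bot_left,
      ← Subgroup.relIndex_mul_relIndex ⊥ (K.subgroupOf S) _ bot_le le_sup_left, Subgroup.relIndex_bot_left,
      Subgroup.relIndex_sup_left, ← Subgroup.inf_relIndex_right,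
      show K.subgroupOf S ⊓ W₁.subgroupOf S = ⊥ by
        exact Subgroup.ext fun s => ⟨fun hs => Subgroup.mem_bot.2 (Subtype.ext (Subgroup.mem_bot.1
          (inf_eq_bot C ▸ (hs : (s : G) ∈ K ⊓ W₁)))), fun hs => by rw [Subgroup.mem_bot.1 hs]; exact one_mem _⟩,
      Subgroup.relIndex_bot_left, Nat.card_congr (Subgroup.subgroupOfEquivOfLe C.side.le).toEquiv,
      Nat.card_congr (Subgroup.subgroupOfEquivOfLe C.side.leA).toEquiv, C.cW₁]
  have h4 : (K ⊔ W₁).relIndex S * Nat.card ↥((K ⊔ W₁).subgroupOf S) = Nat.card ↥S :=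
    Subgroup.index_mul_card _
  rw [h1, ← h4] at h2
  rw [Nat.eq_of_mul_eq_mul_left (Nat.pos_of_ne_zero Subgroup.index_ne_zero_of_finite) h2, h3]
  push_cast
  rw [← mul_assoc, inv_mul_cancel₀ (Nat.cast_ne_zero.2 Nat.card_pos.ne'), one_mul]

theorem kk_fixed_regular (C : Ctx W₁ W₂ S K p q χ) {φ ψ : ↥K →* ℂˣ}
    (hfix : ∀ s : ↥S, (s : G) ∈ W₁ → act C.side s φ = φ) (hst : ∀ s : ↥S, act C.side s ψ = ψ → (s : G) ∈ K) :
    kk C.side φ ψ = 0 ∧ kk C.side ψ φ = 0 := by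
  obtain ⟨x, hx, hxK⟩ := notMem_K C
  letI := charAction C.side
  have key : ∀ s : ↥S, s • ψ ≠ φ := fun s e => by
    set a : ↥S := ⟨x, C.side.leA hx⟩
    have h1 : (s⁻¹ * a * s) • ψ = ψ := by
      rw [mul_smul, mul_smul, e, show a • φ = φ from hfix a hx, ← e, inv_smul_smul]
    have h2 := C.side.conjK s s.2 _ (hst _ h1)
    refine hxK ?_
    convert h2 using 1
    simp [a, mul_assoc]
  exact ⟨kk_of_not_orbit _ key, kk_of_not_orbit _ fun s e => key s⁻¹ (by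
    rw [← show s • φ = ψ from e, inv_smul_smul])⟩

open Classical in
/-- The principal statement: one column and a character of norm one separating two regular characters. -/
theorem exists_X (C : Ctx W₁ W₂ S K p q χ) (ψ ψ' : ↥K →* ℂˣ)
    (hst : ∀ s : ↥S, act C.side s ψ = ψ → (s : G) ∈ K) (hst' : ∀ s : ↥S, act C.side s ψ' = ψ' → (s : G) ∈ K)
    (hnc : ∀ s : ↥S, act C.side s ψ ≠ ψ') :
    ∃ (col : ↥(W₁ ⊔ W₂) →* ℂˣ) (ε : ℂ) (X : G → ℂ) (φ : ↥K →* ℂˣ), col ≠ 1 ∧ TrivOn W₁ col ∧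
      (ε = 1 ∨ ε = -1) ∧ Cfsg.IsGeneralizedCharacter G X ∧ Cfsg.classInner X X = 1 ∧
      coef K X ψ ≠ coef K X ψ' ∧
      X = PF13Tools8.indDiff K φ ψ - ε • colSum χ col := by
  have hd := hdisj C.hW
  have hc := hcomm C.hW
  haveI := CyclicTI.hom_fintype ↥(W₁ ⊔ W₂)
  haveI : Fintype ↥K := Fintype.ofFinite _
  have hne1 : ∀ {θ : ↥K →* ℂˣ}, (∀ s : ↥S, act C.side s θ = θ → (s : G) ∈ K) → θ ≠ 1 := fun {θ} h e => by
    obtain ⟨x, hx, hxK⟩ := notMem_K C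
    exact hxK (h ⟨x, C.side.leA hx⟩ (by rw [e]; exact MonoidHom.ext fun _ => rfl))
  have hnc' : ∀ s : ↥S, act C.side s ψ' ≠ ψ := fun s e => hnc s⁻¹ (by
    letI := charAction C.side
    show s⁻¹ • ψ = ψ'
    rw [← show s • ψ' = ψ from e, inv_smul_smul])
  -- a column and a fixed character
  obtain ⟨col0, hcol0, hcol01⟩ := Finset.exists_mem_ne (s := cols W₁ W₂)
    (by rw [card_cols C]; have := C.hp3; omega) 1
  let ψ₀ : ↥W₂ →* ℂˣ := col0.comp (Subgroup.inclusion le_sup_right)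
  have hψ₀ : ψ₀ ≠ 1 := fun e => hcol01 (eq_one_of_triv_both hd hc (mem_cols.1 hcol0) fun w hw =>
    DFunLike.congr_fun e ⟨(w : G), hw⟩)
  -- inner products with the family
  have hInt : ∀ (θ : ↥K →* ℂˣ) (ω : ↥(W₁ ⊔ W₂) →* ℂˣ), ∃ n : ℤ, coef K (χ ω) θ = n := fun θ ω =>
    coef_int C.side (gen C ω) θ
  choose co hco using hInt
  have hin : ∀ a b ω, Cfsg.classInner (PF13Tools8.indDiff K a b) (χ ω) = ((co a ω - co b ω : ℤ) : ℂ) := fun a b ω => by
    rw [indDiff_inner K a b (cls C ω), hco, hco, map_intCast, map_intCast, Int.cast_sub]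
  have hco1 : ∀ θ : ↥K →* ℂˣ, θ ≠ 1 → co θ 1 = 0 := fun θ h => by
    have := hco θ 1
    rw [C.fam.map_one, unit_coef θ h] at this
    exact_mod_cast this.symm
  have hrow : ∀ θ, ∃ a : ℤ, ∀ r ∈ (rows W₁ W₂).erase 1, co θ r = a := fun θ => by
    obtain ⟨r₀, hr₀⟩ : ((rows W₁ W₂).erase 1).Nonempty := by
      rw [← Finset.card_pos, Finset.card_erase_of_mem (mem_rows.2 (trivOn_one _)), card_rows C]
      have := C.hq3; omega
    refine ⟨co θ r₀, fun r hr => ?_⟩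
    rw [Finset.mem_erase, mem_rows] at hr hr₀
    have := coef_row C hr₀.2 hr₀.1 hr.2 hr.1 θ
    rw [hco, hco] at this
    exact_mod_cast this
  choose ra hra using hrow
  -- the two differences agree on the columns, without rows
  have main : ∀ φ : ↥K →* ℂˣ, (∀ s : ↥S, (s : G) ∈ W₁ → act C.side s φ = φ) →
      (∃ b : ↥K, (b : G) ∈ W₂ ∧ φ b ≠ 1) → ra φ = ra ψ ∧ ra ψ' = ra ψ ∧
      (∀ c ∈ (cols W₁ W₂).erase 1, co ψ' c = co ψ c) ∧
      ((q : ℤ) * ∑ c ∈ (cols W₁ W₂).erase 1, (co φ c - co ψ c) ^ 2 ≤ q) := by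
    intro φ hfix hne
    have hφ1 : φ ≠ 1 := fun e => by obtain ⟨b, -, hb⟩ := hne; exact hb (by rw [e]; rfl)
    obtain ⟨k1, k2⟩ := kk_fixed_regular C hfix hst
    obtain ⟨k1', k2'⟩ := kk_fixed_regular C hfix hst'
    have hk := stab_fixed C hfix hne
    have hk1 := stab_regular C hst
    have hk1' := stab_regular C hst'
    have k3 : kk C.side ψ ψ' = 0 := kk_of_not_orbit _ hnc'
    have k3' : kk C.side ψ' ψ = 0 := kk_of_not_orbit _ hnc
    have hclsα : ∀ a b, Cfsg.IsClassFunction G (PF13Tools8.indDiff K a b) := fun a b =>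
      isClassFunction_of_isGeneralizedCharacter (indDiff_gen K a b)
    -- difference
    have hD : ((((q : ℤ) - 1) * (ra ψ' - ra ψ) ^ 2 + ∑ c ∈ (cols W₁ W₂).erase 1,
        ((co ψ' c - co ψ c) ^ 2 + ((q : ℤ) - 1) * (ra ψ' - ra ψ + (co ψ' c - co ψ c)) ^ 2) : ℤ) : ℝ) ≤ 2 := by
      refine (table C (hclsα ψ' ψ) (fun w hw => indDiff_vanish C ψ' ψ hw) (fun ω => co ψ' ω - co ψ ω)
        (hin ψ' ψ) (by rw [hco1 _ (hne1 hst'), hco1 _ (hne1 hst), sub_zero]) _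
        (fun r hr => by rw [hra ψ' r hr, hra ψ r hr])).trans (le_of_eq ?_)
      rw [indDiff_inner_alpha C.side, k3, k3', hk1, hk1']
      norm_num
    have hD' : ((q : ℤ) - 1) * (ra ψ' - ra ψ) ^ 2 + ∑ c ∈ (cols W₁ W₂).erase 1,
        ((co ψ' c - co ψ c) ^ 2 + ((q : ℤ) - 1) * (ra ψ' - ra ψ + (co ψ' c - co ψ c)) ^ 2) ≤ 2 := by
      exact_mod_cast hD
    obtain ⟨hda, hdb⟩ := table_small C (fun ω => co ψ' ω - co ψ ω) _
      (hD'.trans (by have := C.hq3; omega))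
    have hdb' : ∀ c ∈ (cols W₁ W₂).erase 1, co ψ' c = co ψ c := by
      intro c hc
      by_contra e
      have h1 : (1 : ℤ) ≤ (co ψ' c - co ψ c) ^ 2 := by
        have := sq_pos_of_ne_zero (sub_ne_zero.2 e); omega
      have h2 := h1.trans (Finset.single_le_sum
        (f := fun c => (co ψ' c - co ψ c) ^ 2) (fun c _ => sq_nonneg _) hc)
      have hq : (3 : ℤ) ≤ q := by exact_mod_cast C.hq3
      nlinarith
    -- sum
    have hS : (((((q : ℤ) - 1) * (2 * (ra φ - ra ψ)) ^ 2 + ∑ c ∈ (cols W₁ W₂).erase 1,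
        ((2 * (co φ c - co ψ c)) ^ 2 +
          ((q : ℤ) - 1) * (2 * (ra φ - ra ψ) + 2 * (co φ c - co ψ c)) ^ 2)) : ℤ) : ℝ) ≤
        ((4 * (q : ℤ) + 2 : ℤ) : ℝ) := by
      have t := table C (θ := PF13Tools8.indDiff K φ ψ + PF13Tools8.indDiff K φ ψ')
        (isClassFunction_of_isGeneralizedCharacter (isGeneralizedCharacter_add (indDiff_gen K φ ψ)
          (indDiff_gen K φ ψ')))
        (fun w hw => by rw [Pi.add_apply, indDiff_vanish C φ ψ hw, indDiff_vanish C φ ψ' hw, add_zero])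
        (fun ω => (co φ ω - co ψ ω) + (co φ ω - co ψ' ω))
        (fun ω => by rw [classInner_add_left, hin, hin, Int.cast_add (R := ℂ)])
        (by rw [hco1 _ (hne1 hst'), hco1 _ (hne1 hst), hco1 _ hφ1]; rfl)
        (2 * (ra φ - ra ψ))
        (fun r hr => by rw [hra φ r hr, hra ψ' r hr, hra ψ r hr, sub_eq_zero.1 hda]; ring)
      refine (le_of_eq ?_).trans (t.trans (le_of_eq ?_))
      · congr 2
        refine Finset.sum_congr rfl fun c hc => ?_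
        rw [hdb' c hc]; ring
      · rw [classInner_add_left, classInner_add_right, classInner_add_right]
        simp only [indDiff_inner_alpha C.side, k1, k2, k1', k2', k3, k3', hk, hk1, hk1']
        push_cast
        rw [show (q : ℂ) - 0 - 0 + 1 + ((q : ℂ) - 0 - 0 + 0) + ((q : ℂ) - 0 - 0 + 0 + ((q : ℂ) - 0 - 0 + 1)) =
          ((4 * (q : ℝ) + 2 : ℝ) : ℂ) by push_cast; ring, Complex.ofReal_re]
    have hS' : 4 * (((q : ℤ) - 1) * (ra φ - ra ψ) ^ 2 + ∑ c ∈ (cols W₁ W₂).erase 1,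
        ((co φ c - co ψ c) ^ 2 + ((q : ℤ) - 1) * (ra φ - ra ψ + (co φ c - co ψ c)) ^ 2)) ≤ 4 * (q : ℤ) + 2 := by
      refine le_trans (le_of_eq ?_) (Int.cast_le.1 hS)
      rw [mul_add, Finset.mul_sum]
      refine congrArg₂ (· + ·) (by ring) (Finset.sum_congr rfl fun c _ => by ring)
    obtain ⟨haa, hab⟩ := table_small C (fun ω => co φ ω - co ψ ω) (ra φ - ra ψ) (by omega)
    exact ⟨sub_eq_zero.1 haa, sub_eq_zero.1 hda, hdb', by rw [hab]; omega⟩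
  -- some fixed character has a column
  obtain ⟨φ, hfix, hne, col, hcol, hnz⟩ : ∃ φ : ↥K →* ℂˣ, (∀ s : ↥S, (s : G) ∈ W₁ → act C.side s φ = φ) ∧
      (∃ b : ↥K, (b : G) ∈ W₂ ∧ φ b ≠ 1) ∧ ∃ c ∈ (cols W₁ W₂).erase 1, co φ c - co ψ c ≠ 0 := by
    by_contra hn
    push Not at hn
    haveI := CyclicTI.hom_fintype ↥W₂
    haveI : Fintype (↥W₂ →* ℂˣ) := Fintype.ofFinite _
    have hcard : 3 ≤ Fintype.card (↥W₂ →* ℂˣ) := by
      rw [← Nat.card_eq_fintype_card, CyclicTIFamily.card_dual fun x y : ↥W₂ => Subtype.ext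
        (C.side.ab x (C.side.leB x.2) y (C.side.leB y.2)), C.cW₂]
      exact C.hp3
    obtain ⟨ψ₁, hψ10, hψ11⟩ : ∃ ψ₁ : ↥W₂ →* ℂˣ, ψ₁ ≠ ψ₀ ∧ ψ₁ ≠ 1 := by
      by_contra hn
      push Not at hn
      have : (Finset.univ : Finset (↥W₂ →* ℂˣ)) ⊆ {ψ₀, 1} := fun θ _ => by
        simp only [Finset.mem_insert, Finset.mem_singleton]
        exact or_iff_not_imp_left.2 (hn θ)
      have := (Finset.card_le_card this).trans Finset.card_le_two
      rw [Finset.card_univ] at this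
      omega
    have hnt : ∀ {ψb : ↥W₂ →* ℂˣ} {φ : ↥K →* ℂˣ},
        (∀ b : ↥W₂, φ (Subgroup.inclusion C.side.leB b) = ψb b) → ψb ≠ 1 →
        ∃ b : ↥K, (b : G) ∈ W₂ ∧ φ b ≠ 1 := by
      intro ψb φ e hψ
      by_contra h'
      push Not at h'
      exact hψ (MonoidHom.ext fun b => by rw [← e b, h' _ b.2]; rfl)
    obtain ⟨φ₀, f₀, e₀⟩ := exists_ext C.side ψ₀
    obtain ⟨φ₁, f₁, e₁⟩ := exists_ext C.side ψ₁
    have hm : col0 ∈ (cols W₁ W₂).erase 1 := Finset.mem_erase.2 ⟨hcol01, hcol0⟩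
    refine coef_gap C.side (gen C col0) ψ₀ (fun b hb => congr_B C col0 b hb) hψ10 f₀ f₁ e₀ e₁ ?_
    rw [hco, hco, sub_eq_zero.1 (hn φ₀ f₀ (hnt e₀ hψ₀) col0 hm),
      sub_eq_zero.1 (hn φ₁ f₁ (hnt e₁ hψ11) col0 hm)]
  obtain ⟨hr, hr', hc', hle⟩ := main φ hfix hne
  have hq : (3 : ℤ) ≤ q := by exact_mod_cast C.hq3
  have hsum1 : ∑ c ∈ (cols W₁ W₂).erase 1, (co φ c - co ψ c) ^ 2 ≤ 1 := by
    by_contra h; push Not at h; nlinarith
  have hn2 : (co φ col - co ψ col) ^ 2 = 1 := by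
    have h1 := (Finset.single_le_sum (f := fun c => (co φ c - co ψ c) ^ 2)
      (fun c _ => sq_nonneg _) hcol).trans hsum1
    have := sq_pos_of_ne_zero hnz
    omega
  set n := co φ col - co ψ col with hn
  rw [Finset.mem_erase, mem_cols] at hcol
  have hε : (n : ℂ) = 1 ∨ (n : ℂ) = -1 := by
    rcases sq_eq_one_iff.1 hn2 with e | e <;> simp [e]
  have hεε : (n : ℂ) * n = 1 := by rcases hε with e | e <;> simp [e]
  have hgenY : Cfsg.IsGeneralizedCharacter G (colSum χ col) :=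
    isGeneralizedCharacter_sum _ _ fun r _ => gen C _
  have hαY : ∀ θ, ra φ = ra θ → co φ col - co θ col = n → θ ≠ 1 → φ ≠ 1 →
      Cfsg.classInner (PF13Tools8.indDiff K φ θ) (colSum χ col) = (q : ℂ) * n := by
    intro θ ha hb hθ hφ
    have hcr := card_rows C
    rw [colSum, classInner_sum_right, Finset.sum_congr rfl fun r hr => ?_, Finset.sum_const, hcr, nsmul_eq_mul]
    rw [mem_rows] at hr
    rw [rectangle C.hW C.fam (isClassFunction_of_isGeneralizedCharacter (indDiff_gen K φ θ))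
      (fun w _ h2 => indDiff_vanish C φ θ h2), part₁_eq hd hc hr hcol.2, part₂_eq hd hc hr hcol.2,
      hin, hin, hin, hco1 θ hθ, hco1 φ hφ, ← hb]
    rcases eq_or_ne r 1 with e | e
    · rw [e, hco1 θ hθ, hco1 φ hφ]; simp
    · rw [hra φ r (Finset.mem_erase.2 ⟨e, mem_rows.2 hr⟩), hra θ r (Finset.mem_erase.2 ⟨e, mem_rows.2 hr⟩), ha]
      simp
  have hφ1 : φ ≠ 1 := fun e => by obtain ⟨b, -, hb⟩ := hne; exact hb (by rw [e]; rfl)
  have hY1 := hαY ψ hr rfl (hne1 hst) hφ1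
  have hY2 := hαY ψ' (hr.trans hr'.symm) (by rw [hn, hc' col (Finset.mem_erase.2 ⟨hcol.1, mem_cols.2 hcol.2⟩)])
    (hne1 hst') hφ1
  have hYY : Cfsg.classInner (colSum χ col) (colSum χ col) = (q : ℂ) := by
    rw [colSum, classInner_sum_left, Finset.sum_congr rfl fun r hr => ?_, Finset.sum_const, card_rows C,
      nsmul_one]
    rw [classInner_sum_right, Finset.sum_congr rfl fun r' hr' => by
      show Cfsg.classInner (χ (r * col)) (χ (r' * col)) = if r = r' then (1 : ℂ) else 0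
      rw [C.fam.orthonormal]
      have e := mul_left_inj_of_triv hd hc (mem_rows.1 hr) (mem_rows.1 hr') hcol.2 hcol.2
      by_cases h : r = r'
      · rw [if_pos h, if_pos (by rw [h])]
      · rw [if_neg h, if_neg (fun x => h (e.1 x).1)]]
    simp [hr]
  have hYα : Cfsg.classInner (colSum χ col) (PF13Tools8.indDiff K φ ψ) = (q : ℂ) * n := by
    rw [← conj_classInner, hY1, map_mul, map_natCast, map_intCast]
  obtain ⟨k1, k2⟩ := kk_fixed_regular C hfix hst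
  obtain ⟨k1', k2'⟩ := kk_fixed_regular C hfix hst'
  have hk := stab_fixed C hfix hne
  set X := PF13Tools8.indDiff K φ ψ - (n : ℂ) • colSum χ col with hX
  have hgX : Cfsg.IsGeneralizedCharacter G X := by
    rcases hε with e | e
    · rw [hX, e, one_smul]; exact isGeneralizedCharacter_sub (indDiff_gen K φ ψ) hgenY
    · rw [hX, e, neg_one_smul, sub_neg_eq_add]; exact isGeneralizedCharacter_add (indDiff_gen K φ ψ) hgenY
  have hXX : Cfsg.classInner X X = 1 := by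
    rw [hX, classInner_sub_left, classInner_sub_right, classInner_sub_right, classInner_smul_left,
      classInner_smul_left, classInner_smul_right, classInner_smul_right, map_intCast, hY1, hYY, hYα,
      indDiff_inner_alpha C.side, hk, k1, k2, stab_regular C hst]
    linear_combination (-(q : ℂ)) * hεε
  refine ⟨col, (n : ℂ), X, φ, hcol.1, hcol.2, hε, hgX, hXX, fun heq => ?_, rfl⟩
  have hclsX := isClassFunction_of_isGeneralizedCharacter hgX
  have e1 := indDiff_inner K φ ψ hclsX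
  have e2 := indDiff_inner K φ ψ' hclsX
  rw [← heq] at e2
  rw [← e1, hX, classInner_sub_right, classInner_sub_right, classInner_smul_right, classInner_smul_right,
    map_intCast, hY1, hY2, indDiff_inner_alpha C.side, indDiff_inner_alpha C.side, hk, k1, k2, k2',
    stab_regular C hst, kk_of_not_orbit C.side hnc] at e2
  exact one_ne_zero (α := ℂ) (by linear_combination -e2)

end Cfsg.Agent.PF13Cols8
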