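/-
Fixed points of a Frobenius group `U E` acting coprimely on a solvable group `H`:
`|C(UE)| ^ |E| * |H| = |C(E)| ^ |E| * |C(U)|`.
-/
import Mathlib
import Cfsg.Agent.Lib.FrobeniusPrimeAct

open scoped Pointwise commutatorElement

namespace Cfsg.Agent.FrobeniusFixedPoints

universe u

open Cfsg.Agent Cfsg.Agent.CoprimeAction

section free

variable {k : Type*} [Field k] {A : Type*} [Group A] [Finite A] {V : Type*} [AddCommGroup V]
  [Module k V] [Finite V]

omit [Finite V] [Finite A] in
/-- A free module has order the number of fixed points to the power of the group order. -/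
theorem free_card (ρ : Representation k A V) (H : Subgroup A) [Fintype H] (W : Submodule k V)
    (hW : FrobeniusFree.Free ρ H W) :
    Nat.card V = Nat.card {v : V // ∀ h ∈ H, ρ h v = v} ^ Nat.card H := by
  classical
  let Φ : (H → W) → V := fun f => ∑ h : H, ρ (h : A) (f h)
  have hΦ : Function.Bijective Φ := by
    refine ⟨fun f g e => ?_, fun v => ?_⟩
    · have h1 := hW.2 (fun h => (f h : V) - g h) (fun h => W.sub_mem (f h).2 (g h).2) (by
        simp only [map_sub, Finset.sum_sub_distrib]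
        exact sub_eq_zero.2 e)
      exact funext fun h => Subtype.ext (sub_eq_zero.1 (congrFun h1 h))
    · obtain ⟨f, hf, e⟩ := hW.1 v
      exact ⟨fun h => ⟨f h, hf h⟩, e.symm⟩
  have hshift : ∀ (g : H) (f : H → W), ρ (g : A) (Φ f) = Φ fun h => f (g⁻¹ * h) := by
    intro g f
    simp only [Φ, map_sum]
    refine Fintype.sum_equiv (Equiv.mulLeft g) _ _ fun h => ?_
    rw [← Module.End.mul_apply, ← map_mul]
    simp
  have hfixed : ∀ (g : H) (f : H → W), ρ (g : A) (Φ f) = Φ f ↔ ∀ h, f (g * h) = f h := by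
    intro g f
    rw [hshift, hΦ.1.eq_iff, funext_iff]
    exact ⟨fun e h => by simpa using (e (g * h)).symm, fun e h => by simpa using (e (g⁻¹ * h)).symm⟩
  rw [← Nat.card_eq_of_bijective Φ hΦ, Nat.card_fun]
  congr 1
  refine Nat.card_eq_of_bijective
    (fun u : W => (⟨Φ fun _ => u, fun h hh => (hfixed ⟨h, hh⟩ _).2 fun _ => rfl⟩ :
      {v : V // ∀ h ∈ H, ρ h v = v})) ⟨fun u u' e => ?_, fun v => ?_⟩
  · exact congrFun (hΦ.1 (congrArg Subtype.val e)) 1
  · obtain ⟨f, hf⟩ := hΦ.2 v.1
    refine ⟨f 1, Subtype.ext ?_⟩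
    have : (fun _ : H => f 1) = f := funext fun h => by
      have := (hfixed h f).1 (hf.symm ▸ v.2 h h.2) 1
      rw [mul_one] at this
      exact this.symm
    show Φ _ = v.1
    rw [this, hf]

end free

variable {X : Type u} [Group X] [Finite X]

omit [Finite X] in
/-- The order of a product of two subgroups with trivial intersection. -/
theorem card_eq_mul {A B C : Subgroup X} (hA : A ≤ C) (hB : B ≤ C) (hd : A ⊓ B = ⊥)
    (h : ∀ c ∈ C, ∃ a ∈ A, ∃ b ∈ B, a * b = c) : Nat.card C = Nat.card A * Nat.card B := by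
  have hbij : Function.Bijective fun y : A × B =>
      (⟨(y.1 : X) * y.2, C.mul_mem (hA y.1.2) (hB y.2.2)⟩ : C) := by
    refine ⟨fun a b e => ?_, fun x => ?_⟩
    · exact Subgroup.mul_injective_of_disjoint (disjoint_iff.2 hd) (congrArg Subtype.val e)
    · obtain ⟨a, ha, b, hb, e⟩ := h x x.2
      exact ⟨(⟨a, ha⟩, ⟨b, hb⟩), Subtype.ext e⟩
  rw [← Nat.card_eq_of_bijective _ hbij, Nat.card_prod]

/-- On an elementary abelian group without fixed points of the kernel, the complement acts freely. -/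
theorem card_of_fixedPointFree {U E V : Subgroup X} (hUE : E ≤ Subgroup.normalizer (U : Set X))
    (hfpf : ∀ e ∈ E, e ≠ 1 → ∀ u ∈ U, e * u = u * e → u = 1) (hUnil : Group.IsNilpotent U)
    {q : ℕ} (hq : q.Prime) (hVc : ∀ x ∈ V, ∀ y ∈ V, x * y = y * x)
    (hVq : ∀ x ∈ V, x ^ q = 1) (hUV : U ≤ Subgroup.normalizer (V : Set X))
    (hEV : E ≤ Subgroup.normalizer (V : Set X)) (hqU : ¬ q ∣ Nat.card U)
    (hCV : V ⊓ Subgroup.centralizer (U : Set X) = ⊥) :
    Nat.card V = Nat.card ↥(V ⊓ Subgroup.centralizer (E : Set X)) ^ Nat.card E := by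
  classical
  have := Fact.mk hq
  set L := U ⊔ E with hL
  have hLV : L ≤ Subgroup.normalizer (V : Set X) := sup_le hUV hEV
  let _ : CommGroup V := { (inferInstance : Group V) with
    mul_comm := fun a b => Subtype.ext (hVc a a.2 b b.2) }
  let c : L →* MulAut V :=
    { toFun := fun g =>
        { toFun := fun w => ⟨(g : X) * w * (g : X)⁻¹, conj_mem (hLV g.2) w.2⟩
          invFun := fun w => ⟨(g : X)⁻¹ * w * g, by simpa using conj_mem (inv_mem (hLV g.2)) w.2⟩
          left_inv := fun w => Subtype.ext (by simp [mul_assoc])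
          right_inv := fun w => Subtype.ext (by simp [mul_assoc])
          map_mul' := fun a b => Subtype.ext (by simp [mul_assoc]) }
      map_one' := MulEquiv.ext fun w => Subtype.ext (by simp)
      map_mul' := fun a b => MulEquiv.ext fun w => Subtype.ext (by simp [mul_assoc]) }
  have hc : ∀ g w, ((c g w : V) : X) = (g : X) * w * (g : X)⁻¹ := fun _ _ => rfl
  have hexp : ∀ x : Additive V, q • x = 0 := fun x => by
    have h1 : x.toMul ^ q = 1 := Subtype.ext (by simpa using hVq _ x.toMul.2)
    exact Additive.toMul.injective (by simpa using h1)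
  let _ : Module (ZMod q) (Additive V) := AddCommGroup.zmodModule (G := Additive V) (n := q) hexp
  let ρ : Representation (ZMod q) L (Additive V) := FrobeniusPrimeAct.repOf q c
  have hρ : ∀ (g : L) (x : Additive V), ρ g x = x ↔
      (g : X) * (x.toMul : V) = (x.toMul : V) * (g : X) := by
    intro g x
    rw [← mul_inv_eq_iff_eq_mul, ← hc]
    constructor
    · intro h
      exact congrArg (fun y : Additive V => ((y.toMul : V) : X)) h
    · intro h
      exact Additive.toMul.injective (Subtype.ext h)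
  have hUL : U ≤ L := le_sup_left
  have hEL : E ≤ L := le_sup_right
  have hn : (U.subgroupOf L).Normal :=
    Subgroup.normal_subgroupOf_of_le_normalizer (sup_le Subgroup.le_normalizer hUE)
  have hnil : Group.IsNilpotent (U.subgroupOf L) := by
    have := hUnil
    exact Group.nilpotent_of_surjective (Subgroup.subgroupOfEquivOfLe hUL).symm.toMonoidHom
      (Subgroup.subgroupOfEquivOfLe hUL).symm.surjective
  have := Fintype.ofFinite (E.subgroupOf L)
  have : FiniteDimensional (ZMod q) (Additive V) := Module.Finite.of_finite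
  obtain ⟨W, hW⟩ := FrobeniusFree.exists_free_aux (k := ZMod q) (E.subgroupOf L) _ (U.subgroupOf L)
    (Nat.lt_succ_self _) hn hnil
    (by rw [Nat.card_congr (Subgroup.subgroupOfEquivOfLe hUL).toEquiv, ne_eq,
      ZMod.natCast_eq_zero_iff]; exact hqU)
    (fun h hh h1 e he hcomm => Subtype.ext
      (hfpf (h : X) hh (fun e' => h1 (Subtype.ext e')) (e : X) he (congrArg Subtype.val hcomm)))
    (Additive V) ρ (fun x hx => by
      refine Additive.toMul.injective (Subtype.ext (Subgroup.mem_bot.1 (hCV.le ⟨x.toMul.2, ?_⟩)))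
      intro k hk
      exact (hρ ⟨k, hUL hk⟩ x).1 (hx _ hk))
  have hcard := free_card ρ (E.subgroupOf L) W hW
  rw [Nat.card_congr (Subgroup.subgroupOfEquivOfLe hEL).toEquiv] at hcard
  have hfix : Nat.card {x : Additive V // ∀ h ∈ E.subgroupOf L, ρ h x = x} =
      Nat.card ↥(V ⊓ Subgroup.centralizer (E : Set X)) := by
    refine Nat.card_congr ⟨fun x => ⟨(x.1.toMul : V), x.1.toMul.2, fun r hr => (hρ ⟨r, hEL hr⟩ x.1).1
      (x.2 _ hr)⟩, fun y => ⟨Additive.ofMul ⟨y, y.2.1⟩, fun h hh => (hρ h _).2 (y.2.2 (h : X) hh)⟩,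
      fun x => rfl, fun y => rfl⟩
  rw [hfix] at hcard
  exact hcard

/-- The hypotheses. -/
structure Data (U E H : Subgroup X) : Prop where
  normal : H.Normal
  U_norm : E ≤ Subgroup.normalizer (U : Set X)
  fpf : ∀ e ∈ E, e ≠ 1 → ∀ u ∈ U, e * u = u * e → u = 1
  U_nil : Group.IsNilpotent U
  solv : Group.IsSolvable H
  coprime : (Nat.card ↥(U ⊔ E)).Coprime (Nat.card H)

/-- The formula. -/
def Formula (U E H : Subgroup X) : Prop :=
  Nat.card ↥(H ⊓ Subgroup.centralizer ((U ⊔ E : Subgroup X) : Set X)) ^ Nat.card E * Nat.card H =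
    Nat.card ↥(H ⊓ Subgroup.centralizer (E : Set X)) ^ Nat.card E *
      Nat.card ↥(H ⊓ Subgroup.centralizer (U : Set X))

/-- The formula for an elementary abelian layer. -/
theorem layer {U E H V : Subgroup X} (D : Data U E H) (hVH : V ≤ H) (hVn : V.Normal) {q : ℕ}
    (hq : q.Prime) (hVc : ∀ x ∈ V, ∀ y ∈ V, x * y = y * x) (hVq : ∀ x ∈ V, x ^ q = 1)
    (hne : V ≠ ⊥) : Formula U E V := by
  have := Fact.mk hq
  have hN : ∀ Q : Subgroup X, Q ≤ Subgroup.normalizer (V : Set X) := fun Q => by
    rw [Subgroup.normalizer_eq_top_iff.2 hVn]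
    exact le_top
  have hVcomm : IsMulCommutative V := ⟨⟨fun a b => Subtype.ext (hVc a a.2 b b.2)⟩⟩
  have hVsolv : Group.IsSolvable V :=
    Group.isSolvable_of_comm fun a b => Subtype.ext (hVc a a.2 b b.2)
  have hcopH : ∀ Q ≤ U ⊔ E, (Nat.card Q).Coprime (Nat.card V) := fun Q hQ =>
    coprime_of_le_right hVH (coprime_of_le_left hQ D.coprime)
  have hqU : ¬ q ∣ Nat.card U := fun h => hq.not_dvd_one ((hcopH U le_sup_left) ▸ Nat.dvd_gcd h (by
    obtain ⟨x, hx, hx1⟩ := V.bot_or_exists_ne_one.resolve_left hne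
    exact orderOf_eq_prime (hVq x hx) hx1 ▸ Subgroup.orderOf_dvd_natCard _ hx))
  set V₁ := V ⊓ Subgroup.centralizer (U : Set X) with hV₁
  set V₂ := ⁅V, U⁆ with hV₂
  have hle₂ : V₂ ≤ V := commutator_le_self_of_le_normalizer (hN U)
  have hdisj : V₁ ⊓ V₂ = ⊥ :=
    inf_centralizer_inf_commutator_eq_bot (hN U) (hcopH U le_sup_left)
  have hEV₁ : E ≤ Subgroup.normalizer (V₁ : Set X) :=
    le_normalizer_inf (hN E) (CoprimeTools.le_normalizer_centralizer_of_le D.U_norm)
  have hEV₂ : E ≤ Subgroup.normalizer (V₂ : Set X) :=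
    CoprimeTools.le_normalizer_commutator_of_le (hN E) D.U_norm
  have hprod : ∀ v ∈ V, ∃ a ∈ V₁, ∃ b ∈ V₂, a * b = v := fun v hv => by
    obtain ⟨x, hx, c, hc, rfl⟩ :=
      exists_mul_fixed (hN U) (hcopH U le_sup_left) (Or.inr hVsolv) hv
    exact ⟨c, hc, x, hx, hVc c hc.1 x (hle₂ hx)⟩
  have hV₂fix : V₂ ⊓ Subgroup.centralizer (U : Set X) = ⊥ := by
    rw [eq_bot_iff, ← hdisj]
    exact fun x hx => ⟨⟨hle₂ hx.1, hx.2⟩, hx.1⟩
  have hcard₂ := card_of_fixedPointFree D.U_norm D.fpf D.U_nil hq
    (fun x hx y hy => hVc x (hle₂ hx) y (hle₂ hy)) (fun x hx => hVq x (hle₂ hx))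
    (Subgroup.normalizer_commutator_ge_right V U) hEV₂ hqU hV₂fix
  have hcardV : Nat.card V = Nat.card V₁ * Nat.card V₂ := card_eq_mul inf_le_left hle₂ hdisj hprod
  have hCL : V₁ ⊓ Subgroup.centralizer (E : Set X) =
      V ⊓ Subgroup.centralizer ((U ⊔ E : Subgroup X) : Set X) := by
    rw [hV₁, inf_assoc]
    congr 1
    refine le_antisymm ?_ (le_inf (Subgroup.centralizer_le (SetLike.coe_subset_coe.2 le_sup_left))
      (Subgroup.centralizer_le (SetLike.coe_subset_coe.2 le_sup_right)))
    rintro x ⟨hxU, hxE⟩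
    have h1 : (U ⊔ E : Subgroup X) ≤ Subgroup.centralizer ({x} : Set X) :=
      sup_le (fun u hu => Subgroup.mem_centralizer_singleton_iff.2 (hxU u hu))
        (fun u hu => Subgroup.mem_centralizer_singleton_iff.2 (hxE u hu))
    exact fun y hy => Subgroup.mem_centralizer_singleton_iff.1 (h1 hy)
  have hcardE : Nat.card ↥(V ⊓ Subgroup.centralizer (E : Set X)) =
      Nat.card ↥(V₁ ⊓ Subgroup.centralizer (E : Set X)) *
        Nat.card ↥(V₂ ⊓ Subgroup.centralizer (E : Set X)) := by
    refine card_eq_mul (inf_le_inf_right _ inf_le_left) (inf_le_inf_right _ hle₂) ?_ fun v hv => ?_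
    · rw [eq_bot_iff, ← hdisj]
      exact fun x hx => ⟨hx.1.1, hx.2.1⟩
    · obtain ⟨a, ha, b, hb, hab⟩ := hprod v hv.1
      have hVc' : (Nat.card E).Coprime (Nat.card V₁) :=
        coprime_of_le_right inf_le_left (hcopH E le_sup_right)
      obtain ⟨a', ha', b', hb', e⟩ := exists_mul_fixed_of_product hEV₁ hEV₂ hVc'
        (Or.inr (isSolvable_of_le inf_le_left)) ha hb (hab ▸ hv.2)
      exact ⟨a', ha', b', hb', e.symm.trans hab⟩
  show _ = _
  rw [← hCL, hcardE, hcardV, mul_pow, hcard₂]
  ring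

theorem induction_step (n : ℕ) : ∀ (X : Type u) [Group X] [Finite X] (U E H : Subgroup X),
    Nat.card H < n → Data U E H → Formula U E H := by
  induction n with
  | zero => intro X _ _ U E H h; omega
  | succ n ih =>
    intro X _ _ U E H hn D
    by_cases hH : H = ⊥
    · subst hH
      show _ = _
      simp
    have hHn := D.normal
    -- an abelian normal subgroup
    obtain ⟨N, ⟨hNn, hNH, hNne⟩, hmin⟩ := Set.exists_min_image
      {N : Subgroup X | N.Normal ∧ N ≤ H ∧ N ≠ ⊥} (fun N => Nat.card N) (Set.toFinite _)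
      ⟨H, hHn, le_rfl, hH⟩
    have hNsolv : Group.IsSolvable N := by
      have := D.solv
      exact isSolvable_of_le hNH
    have hNc : ∀ x ∈ N, ∀ y ∈ N, x * y = y * x := by
      have hD : ⁅N, N⁆ = ⊥ := by
        by_contra hne
        have hlt : ⁅N, N⁆ ≠ N := by
          intro e
          have : Nontrivial N := (Subgroup.nontrivial_iff_ne_bot N).2 hNne
          apply (Group.IsSolvable.commutator_lt_top_of_nontrivial N).ne
          apply Subgroup.map_injective N.subtype_injective
          rw [Subgroup.map_subtype_commutator, e, ← MonoidHom.range_eq_map, Subgroup.range_subtype]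
        exact hlt (Subgroup.eq_of_le_of_card_ge (Subgroup.commutator_le_self N)
          (hmin _ ⟨inferInstance, (Subgroup.commutator_le_self N).trans hNH, hne⟩))
      intro x hx y hy
      rw [← commutatorElement_eq_one_iff_mul_comm, ← Subgroup.mem_bot, ← hD]
      exact Subgroup.commutator_mem_commutator hx hy
    obtain ⟨q, hq, hqd⟩ := Nat.exists_prime_and_dvd (n := Nat.card N)
      (fun e => hNne (Subgroup.card_eq_one.1 e))
    have := Fact.mk hq
    let V : Subgroup X :=
      { carrier := {x | x ∈ N ∧ x ^ q = 1}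
        one_mem' := ⟨one_mem _, one_pow _⟩
        mul_mem' := fun {x y} hx hy => ⟨mul_mem hx.1 hy.1, by
          rw [(show Commute x y from hNc x hx.1 y hy.1).mul_pow, hx.2, hy.2, one_mul]⟩
        inv_mem' := fun {x} hx => ⟨inv_mem hx.1, by rw [inv_pow, hx.2, inv_one]⟩ }
    have hVn : V.Normal := ⟨fun x hx g => ⟨hNn.conj_mem x hx.1 g,
      by rw [conj_pow, hx.2, mul_one, mul_inv_cancel]⟩⟩
    have hVH : V ≤ H := fun x hx => hNH hx.1
    have hV : V ≠ ⊥ := by
      obtain ⟨x, hx⟩ := exists_prime_orderOf_dvd_card' (G := N) q hqd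
      intro e
      have hxm : (x : X) ∈ V := ⟨x.2, by
        have := congrArg Subtype.val (hx ▸ pow_orderOf_eq_one x : x ^ q = 1)
        simpa using this⟩
      rw [e, Subgroup.mem_bot] at hxm
      rw [show x = 1 from Subtype.ext hxm, orderOf_one] at hx
      exact hq.ne_one hx.symm
    have hlay := layer D hVH hVn hq (fun x hx y hy => hNc x hx.1 y hy.1) (fun x hx => hx.2) hV
    set f := QuotientGroup.mk' V with hf
    have hcopL : ∀ Q ≤ U ⊔ E, (Nat.card Q).Coprime (Nat.card H) := fun Q hQ =>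
      coprime_of_le_left hQ D.coprime
    have hinj : ∀ x ∈ U ⊔ E, f x = 1 → x = 1 :=
      fun x hx e => orderOf_eq_one_iff.1 (Nat.eq_one_of_dvd_coprimes D.coprime
        (Subgroup.orderOf_dvd_natCard _ hx)
        (Subgroup.orderOf_dvd_natCard _ (hVH ((QuotientGroup.eq_one_iff x).1 e))))
    have hnorm : ∀ Q : Subgroup X, Q ≤ Subgroup.normalizer (H : Set X) := fun Q => by
      rw [Subgroup.normalizer_eq_top_iff.2 hHn]
      exact le_top
    have D' : Data (U.map f) (E.map f) (H.map f) :=
      { normal := hHn.map f (QuotientGroup.mk'_surjective V)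
        U_norm := (Subgroup.map_mono D.U_norm).trans (Subgroup.le_normalizer_map f)
        fpf := by
          rintro _ ⟨e, he, rfl⟩ he1 _ ⟨w, hw, rfl⟩ hcomm
          have h1 : f ((w * e)⁻¹ * (e * w)) = 1 := by
            rw [map_mul, map_inv, map_mul, map_mul, hcomm, inv_mul_cancel]
          have hwe : w * e ∈ U ⊔ E := Subgroup.mul_mem_sup hw he
          have hew : e * w ∈ U ⊔ E :=
            mul_mem (Subgroup.mem_sup_right he) (Subgroup.mem_sup_left hw)
          have h2 := hinj _ (mul_mem (inv_mem hwe) hew) h1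
          rw [inv_mul_eq_one] at h2
          rw [D.fpf e he (fun h => he1 (by rw [h, map_one])) w hw h2.symm, map_one]
        U_nil := by
          have := D.U_nil
          exact Group.nilpotent_of_surjective (f.subgroupMap U) (f.subgroupMap_surjective U)
        solv := by
          have := D.solv
          exact Group.isSolvable_of_surjective (f.subgroupMap_surjective H)
        coprime := by
          rw [← Subgroup.map_sup]
          exact (D.coprime.coprime_dvd_left (Subgroup.card_map_dvd _ f)).coprime_dvd_right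
            (Subgroup.card_map_dvd H f) }
    have hHcard := HallCore.card_map_mk'_mul V H hVH
    have hlt : Nat.card (H.map f) < n := by
      have h2 := V.one_lt_card_iff_ne_bot.2 hV
      have h3 : 0 < Nat.card (H.map f) := Nat.card_pos
      nlinarith
    have hquot : _ = _ := ih _ (U.map f) (E.map f) (H.map f) hlt D'
    -- multiplicativity
    have hmult : ∀ Q ≤ U ⊔ E,
        Nat.card ↥(H.map f ⊓ Subgroup.centralizer ((Q.map f : Subgroup (X ⧸ V)) : Set (X ⧸ V))) *
          Nat.card ↥(V ⊓ Subgroup.centralizer (Q : Set X)) =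
            Nat.card ↥(H ⊓ Subgroup.centralizer (Q : Set X)) := by
      intro Q hQ
      rw [← map_inf_centralizer_eq f (hnorm Q) (hcopL Q hQ) (Or.inr D.solv)]
      set C := H ⊓ Subgroup.centralizer (Q : Set X) with hC
      have h1 : (f.comp C.subtype).ker = (V ⊓ Subgroup.centralizer (Q : Set X)).subgroupOf C := by
        ext x
        rw [MonoidHom.mem_ker, Subgroup.mem_subgroupOf, MonoidHom.comp_apply, Subgroup.coe_subtype,
          hf, QuotientGroup.mk'_apply, QuotientGroup.eq_one_iff]
        exact ⟨fun h => ⟨h, x.2.2⟩, fun h => h.1⟩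
      have h2 := (f.comp C.subtype).ker.index_mul_card
      rw [Subgroup.index_ker, MonoidHom.range_comp, Subgroup.range_subtype, h1,
        Nat.card_congr (Subgroup.subgroupOfEquivOfLe (inf_le_inf_right _ hVH)).toEquiv] at h2
      exact h2
    have hEc : Nat.card (E.map f) = Nat.card E := by
      refine (Nat.card_eq_of_bijective _ ⟨?_, f.subgroupMap_surjective E⟩).symm
      intro a b e
      have h1 : f ((a : X)⁻¹ * b) = 1 := by
        rw [map_mul, map_inv, inv_mul_eq_one]
        exact congrArg Subtype.val e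
      exact Subtype.ext (inv_mul_eq_one.1 (hinj _
        (mul_mem (inv_mem (Subgroup.mem_sup_right a.2)) (Subgroup.mem_sup_right b.2)) h1))
    rw [← Subgroup.map_sup, hEc] at hquot
    show _ = _
    have hlay' : _ = _ := hlay
    rw [← hmult _ le_rfl, ← hmult _ le_sup_left, ← hmult _ le_sup_right, ← hHcard]
    calc _ = (Nat.card ↥(H.map f ⊓
            Subgroup.centralizer (((U ⊔ E).map f : Subgroup (X ⧸ V)) : Set (X ⧸ V))) ^ Nat.card E *
              Nat.card (H.map f)) *
          (Nat.card ↥(V ⊓ Subgroup.centralizer ((U ⊔ E : Subgroup X) : Set X)) ^ Nat.card E *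
            Nat.card V) := by ring
      _ = _ := by rw [hquot, hlay']; ring

theorem main (U E H : Subgroup X) (hE1 : E ≠ ⊥)
    (hUn : ∀ e ∈ E, ∀ u ∈ U, e * u * e⁻¹ ∈ U)
    (hfpf : ∀ e ∈ E, e ≠ 1 → ∀ u ∈ U, e * u = u * e → u = 1)
    (hHn : ∀ x ∈ U ⊔ E, ∀ h ∈ H, x * h * x⁻¹ ∈ H) (hsolv : Group.IsSolvable H)
    (hcop : Nat.Coprime (Nat.card H) (Nat.card ↥(U ⊔ E))) : Formula U E H := by
  have hEU : E ≤ Subgroup.normalizer (U : Set X) := FrobeniusThompson.le_normalizer_of_conj hUn
  set X₀ := H ⊔ (U ⊔ E) with hX₀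
  have hHX : H ≤ X₀ := le_sup_left
  have hUX : U ≤ X₀ := le_sup_left.trans le_sup_right
  have hEX : E ≤ X₀ := le_sup_right.trans le_sup_right
  have hcard : ∀ {Q : Subgroup X}, Q ≤ X₀ → Nat.card (Q.subgroupOf X₀) = Nat.card Q := fun h =>
    Nat.card_congr (Subgroup.subgroupOfEquivOfLe h).toEquiv
  have hcen : ∀ (Q : Subgroup X), Q ≤ X₀ →
      (H ⊓ Subgroup.centralizer (Q : Set X)).subgroupOf X₀ =
        H.subgroupOf X₀ ⊓ Subgroup.centralizer ((Q.subgroupOf X₀ : Subgroup X₀) : Set X₀) :=
    fun Q hQ => by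
    rw [Subgroup.subgroupOf, Subgroup.comap_inf,
      FrobeniusPrimeAct.centralizer_comap X₀.subtype X₀.subtype_injective (Q : Set X)
        (fun t ht => ⟨⟨t, hQ ht⟩, rfl⟩)]
    rfl
  have hsup : (U ⊔ E).subgroupOf X₀ = U.subgroupOf X₀ ⊔ E.subgroupOf X₀ :=
    Subgroup.subgroupOf_sup hUX hEX
  have hHnorm : (H.subgroupOf X₀).Normal := Subgroup.normal_subgroupOf_of_le_normalizer
    (sup_le Subgroup.le_normalizer (FrobeniusThompson.le_normalizer_of_conj hHn))
  have hUnil : Group.IsNilpotent (U.subgroupOf X₀) := by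
    set L := U ⊔ E
    have hn : (U.subgroupOf L).Normal :=
      Subgroup.normal_subgroupOf_of_le_normalizer (sup_le Subgroup.le_normalizer hEU)
    have := FrobeniusNilpotent.isNilpotent_of_complement (K := U.subgroupOf L)
      (H := E.subgroupOf L) (fun e => hE1 (by
        rw [Subgroup.subgroupOf_eq_bot, disjoint_iff, inf_eq_left.2 le_sup_right] at e
        exact e)) (fun h hh h1 => by
        rw [Subgroup.eq_bot_iff_forall]
        rintro w ⟨hw, hwc⟩
        exact Subtype.ext (hfpf (h : X) hh (fun e => h1 (Subtype.ext e)) (w : X) hw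
          (congrArg Subtype.val (Subgroup.mem_centralizer_singleton_iff.1 hwc)).symm))
    exact Group.nilpotent_of_surjective
      ((Subgroup.subgroupOfEquivOfLe (le_sup_left : U ≤ L)).trans
        (Subgroup.subgroupOfEquivOfLe hUX).symm).toMonoidHom (MulEquiv.surjective _)
  have D : Data (U.subgroupOf X₀) (E.subgroupOf X₀) (H.subgroupOf X₀) :=
    { normal := hHnorm
      U_norm := fun x hx => Subgroup.mem_normalizer_iff.2 fun y =>
        Subgroup.mem_normalizer_iff.1 (hEU hx) (y : X)
      fpf := fun e he h1 w hw hcomm => Subtype.ext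
        (hfpf (e : X) he (fun h => h1 (Subtype.ext h)) (w : X) hw (congrArg Subtype.val hcomm))
      U_nil := hUnil
      solv := Group.isSolvable_of_surjective (f := (Subgroup.subgroupOfEquivOfLe hHX).symm.toMonoidHom)
        (Subgroup.subgroupOfEquivOfLe hHX).symm.surjective
      coprime := by
        rw [← hsup, hcard (sup_le hUX hEX), hcard hHX]
        exact hcop.symm }
  have h1 : _ = _ := induction_step _ X₀ _ _ _ (Nat.lt_succ_self _) D
  rw [← hsup, ← hcen _ (sup_le hUX hEX), ← hcen _ hEX, ← hcen _ hUX, hcard hEX, hcard hHX,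
    hcard (inf_le_left.trans hHX), hcard (inf_le_left.trans hHX),
    hcard (inf_le_left.trans hHX)] at h1
  exact h1

end Cfsg.Agent.FrobeniusFixedPoints
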