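import Mathlib
import Cfsg.Prelude.Def_Transfer
import Cfsg.Agent.S1545
import Cfsg.Agent.S1546

/-!
Peterfalvi 14, module part: the elementary abelian kernel `P` of order `p ^ q` as a module for an
abelian group `U` normalised by `W1` of order `q`, with fixed points `W2` of order `p`.
Either `3 * |U| ≤ (p ^ q - 1) / (p - 1)` or `|U|` is that number and `P` is a field.
-/

set_option autoImplicit false

namespace Cfsg.Agent.PF14Module54

universe u

variable {G : Type u} [Group G] [Finite G]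

/-- The module configuration. -/
structure Mod (P U W1 W2 : Subgroup G) (p q : ℕ) : Prop where
  hp : p.Prime
  hq : q.Prime
  p_odd : Odd p
  q_odd : Odd q
  elem : Cfsg.IsElementaryAbelian p P
  cardP : Nat.card P = p ^ q
  cardW1 : Nat.card W1 = q
  cardW2 : Nat.card W2 = p
  W2_le : W2 ≤ P
  Ucomm : IsMulCommutative U
  Une : U ≠ ⊥
  UnormP : U ≤ Subgroup.normalizer (P : Set G)
  W1normP : W1 ≤ Subgroup.normalizer (P : Set G)
  W1normU : W1 ≤ Subgroup.normalizer (U : Set G)
  centW1 : P ⊓ Subgroup.centralizer (W1 : Set G) = W2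
  U_fix : ∀ w ∈ W1, w ≠ 1 → ∀ u ∈ U, w * u = u * w → u = 1
  U_faith : U ⊓ Subgroup.centralizer (P : Set G) = ⊥
  copP : (Nat.card U).Coprime p
  copQ : (Nat.card U).Coprime q
  U_odd : Odd (Nat.card U)
  p_ne_q : p ≠ q

variable {P U W1 W2 : Subgroup G} {p q : ℕ}

namespace Mod

theorem mul_comm_U (M : Mod P U W1 W2 p q) {a b : G} (ha : a ∈ U) (hb : b ∈ U) : a * b = b * a :=
  congrArg Subtype.val (M.Ucomm.is_comm.comm (⟨a, ha⟩ : U) ⟨b, hb⟩)

theorem mul_comm_P (M : Mod P U W1 W2 p q) {a b : G} (ha : a ∈ P) (hb : b ∈ P) : a * b = b * a :=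
  congrArg Subtype.val (M.elem.1.is_comm.comm (⟨a, ha⟩ : P) ⟨b, hb⟩)

theorem conjU (M : Mod P U W1 W2 p q) {u x : G} (hu : u ∈ U) (hx : x ∈ P) : u * x * u⁻¹ ∈ P :=
  (Subgroup.mem_normalizer_iff.1 (M.UnormP hu) x).1 hx

theorem conjW1 (M : Mod P U W1 W2 p q) {w x : G} (hw : w ∈ W1) (hx : x ∈ P) : w * x * w⁻¹ ∈ P :=
  (Subgroup.mem_normalizer_iff.1 (M.W1normP hw) x).1 hx

theorem conjW1U (M : Mod P U W1 W2 p q) {w u : G} (hw : w ∈ W1) (hu : u ∈ U) : w * u * w⁻¹ ∈ U :=
  (Subgroup.mem_normalizer_iff.1 (M.W1normU hw) u).1 hu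

theorem comm_W2 (M : Mod P U W1 W2 p q) {w x : G} (hw : w ∈ W1) (hx : x ∈ W2) : w * x = x * w := by
  rw [← M.centW1] at hx
  exact Subgroup.mem_centralizer_iff.1 hx.2 w hw

theorem W1_ne (M : Mod P U W1 W2 p q) : W1 ≠ ⊥ := by
  intro h; have := M.cardW1; rw [h, Subgroup.card_bot] at this; exact M.hq.ne_one this.symm

theorem W2_ne (M : Mod P U W1 W2 p q) : W2 ≠ ⊥ := by
  intro h; have := M.cardW2; rw [h, Subgroup.card_bot] at this; exact M.hp.ne_one this.symm

theorem exists_W1 (M : Mod P U W1 W2 p q) : ∃ w ∈ W1, w ≠ (1 : G) := by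
  by_contra h; push_neg at h
  exact M.W1_ne ((Subgroup.eq_bot_iff_forall _).2 h)

theorem exists_W2 (M : Mod P U W1 W2 p q) : ∃ x ∈ W2, x ≠ (1 : G) := by
  by_contra h; push_neg at h
  exact M.W2_ne ((Subgroup.eq_bot_iff_forall _).2 h)

theorem UW1_card (M : Mod P U W1 W2 p q) : Nat.card ↥(U ⊔ W1) ∣ Nat.card U * q := by
  rw [← M.cardW1]
  haveI : (U.subgroupOf (U ⊔ W1)).Normal := by
    rw [Subgroup.normal_subgroupOf_iff_le_normalizer le_sup_left]
    exact sup_le Subgroup.le_normalizer M.W1normU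
  have h := Subgroup.card_mul_index (U.subgroupOf (U ⊔ W1))
  rw [← h, Nat.card_congr (Subgroup.subgroupOfEquivOfLe le_sup_left).toEquiv]
  apply Nat.mul_dvd_mul_left
  have hsup : W1.subgroupOf (U ⊔ W1) ⊔ U.subgroupOf (U ⊔ W1) = ⊤ := by
    rw [← Subgroup.subgroupOf_sup le_sup_right le_sup_left, sup_comm]
    simp
  calc (U.subgroupOf (U ⊔ W1)).index
      = (U.subgroupOf (U ⊔ W1)).relIndex (W1.subgroupOf (U ⊔ W1) ⊔ U.subgroupOf (U ⊔ W1)) := by
        rw [hsup, Subgroup.relIndex_top_right]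
    _ = (U.subgroupOf (U ⊔ W1)).relIndex (W1.subgroupOf (U ⊔ W1)) := Subgroup.relIndex_sup_right _ _
    _ ∣ Nat.card (W1.subgroupOf (U ⊔ W1)) := Subgroup.relIndex_dvd_card _ _
    _ = Nat.card W1 := Nat.card_congr (Subgroup.subgroupOfEquivOfLe le_sup_right).toEquiv

theorem cop_UW1 (M : Mod P U W1 W2 p q) : (Nat.card ↥(U ⊔ W1)).Coprime p :=
  Nat.Coprime.coprime_dvd_left M.UW1_card
    (Nat.Coprime.mul_left M.copP ((Nat.coprime_primes M.hq M.hp).2 (Ne.symm M.p_ne_q)))

theorem formula (M : Mod P U W1 W2 p q) (H : Subgroup G) (hH : H ≤ P)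
    (hU : ∀ u ∈ U, ∀ h ∈ H, u * h * u⁻¹ ∈ H) (hW : ∀ w ∈ W1, ∀ h ∈ H, w * h * w⁻¹ ∈ H) :
    Nat.card ↥(H ⊓ Subgroup.centralizer ((U ⊔ W1 : Subgroup G) : Set G)) ^ q * Nat.card H
      = Nat.card ↥(H ⊓ W2) ^ q * Nat.card ↥(H ⊓ Subgroup.centralizer (U : Set G)) := by
  haveI := M.elem.1
  have hHcard : Nat.card H ∣ p ^ q := M.cardP ▸ Subgroup.card_dvd_of_le hH
  have hcop : Nat.Coprime (Nat.card H) (Nat.card ↥(U ⊔ W1)) :=
    Nat.Coprime.coprime_dvd_left hHcard (Nat.Coprime.pow_left _ M.cop_UW1.symm)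
  have hsolv : Group.IsSolvable H := by
    apply Group.isSolvable_of_comm
    intro a b
    exact Subtype.ext (M.mul_comm_P (hH a.2) (hH b.2))
  have hUW : U ⊓ W1 = ⊥ :=
    disjoint_iff.1 (Subgroup.disjoint_of_coprime_natCard (M.cardW1 ▸ M.copQ))
  have hnorm : U ⊔ W1 ≤ Subgroup.normalizer (H : Set G) := by
    apply sup_le
    · intro x hx
      apply Subgroup.mem_normalizer_iff.2
      intro h
      refine ⟨fun hh => hU x hx h hh, fun hh => ?_⟩
      have := hU x⁻¹ (inv_mem hx) _ hh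
      simpa [mul_assoc] using this
    · intro x hx
      apply Subgroup.mem_normalizer_iff.2
      intro h
      refine ⟨fun hh => hW x hx h hh, fun hh => ?_⟩
      have := hW x⁻¹ (inv_mem hx) _ hh
      simpa [mul_assoc] using this
  have h := Cfsg.Agent.S1545.result U W1 H M.Une M.W1_ne hUW (fun e he u hu => M.conjW1U he hu)
    M.U_fix (fun x hx h hh => (Subgroup.mem_normalizer_iff.1 (hnorm hx) h).1 hh)
    (disjoint_iff.1 (Subgroup.disjoint_of_coprime_natCard hcop)) hsolv hcop
  rw [M.cardW1] at h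
  rwa [show H ⊓ Subgroup.centralizer (W1 : Set G) = H ⊓ W2 by
    rw [← M.centW1, ← inf_assoc, inf_eq_left.2 hH]] at h

theorem centU (M : Mod P U W1 W2 p q) : P ⊓ Subgroup.centralizer (U : Set G) = ⊥ := by
  haveI : Fact p.Prime := ⟨M.hp⟩
  set C := P ⊓ Subgroup.centralizer ((U ⊔ W1 : Subgroup G) : Set G) with hC
  have hCle : C ≤ W2 := by
    rw [← M.centW1]
    exact inf_le_inf_left _ (Subgroup.centralizer_le (le_sup_right : W1 ≤ U ⊔ W1))
  have h := M.formula P le_rfl (fun u hu x hx => M.conjU hu hx) (fun w hw x hx => M.conjW1 hw hx)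
  rw [inf_eq_right.2 M.W2_le, M.cardP, M.cardW2, mul_comm (p ^ q)] at h
  have h' := Nat.eq_of_mul_eq_mul_right (pow_pos M.hp.pos q) h
  rcases (Nat.dvd_prime M.hp).1 (M.cardW2 ▸ Subgroup.card_dvd_of_le hCle) with h1 | h1
  · rw [h1, one_pow] at h'
    exact Subgroup.card_eq_one.1 h'.symm
  · rw [h1] at h'
    have hPC : P ⊓ Subgroup.centralizer (U : Set G) = P :=
      Subgroup.eq_of_le_of_card_ge inf_le_left (by rw [M.cardP, h'])
    exfalso
    apply M.Une
    rw [← M.U_faith, left_eq_inf]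
    intro u hu
    apply Subgroup.mem_centralizer_iff.2
    intro x hx
    exact (Subgroup.mem_centralizer_iff.1 (inf_eq_left.1 hPC hx) u hu).symm

/-- An invariant subgroup is trivial or everything. -/
theorem inv_bot_or_top (M : Mod P U W1 W2 p q) (H : Subgroup G) (hH : H ≤ P)
    (hU : ∀ u ∈ U, ∀ h ∈ H, u * h * u⁻¹ ∈ H) (hW : ∀ w ∈ W1, ∀ h ∈ H, w * h * w⁻¹ ∈ H) :
    H = ⊥ ∨ H = P := by
  have h := M.formula H hH hU hW
  have h1 : H ⊓ Subgroup.centralizer (U : Set G) = ⊥ :=
    le_bot_iff.1 (M.centU ▸ inf_le_inf_right _ hH)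
  have h2 : H ⊓ Subgroup.centralizer ((U ⊔ W1 : Subgroup G) : Set G) = ⊥ :=
    le_bot_iff.1 (h1 ▸ inf_le_inf_left _ (Subgroup.centralizer_le (le_sup_left : U ≤ U ⊔ W1)))
  rw [h1, h2, Subgroup.card_bot, one_pow, one_mul, mul_one] at h
  rcases (Nat.dvd_prime M.hp).1 (M.cardW2 ▸ Subgroup.card_dvd_of_le (inf_le_right : H ⊓ W2 ≤ W2))
    with h3 | h3
  · rw [h3, one_pow] at h
    exact Or.inl (Subgroup.card_eq_one.1 h)
  · rw [h3] at h
    exact Or.inr (Subgroup.eq_of_le_of_card_ge hH (by rw [M.cardP, h]))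

theorem mem_W2_zpowers (M : Mod P U W1 W2 p q) {x0 x : G} (hx0 : x0 ∈ W2) (hx01 : x0 ≠ 1)
    (hx : x ∈ W2) : x ∈ Subgroup.zpowers x0 := by
  haveI : Fact p.Prime := ⟨M.hp⟩
  have h1 : (Subgroup.zpowers x0).subgroupOf W2 = ⊤ := by
    apply ((Subgroup.zpowers x0).subgroupOf W2).eq_bot_or_eq_top_of_prime_card (hp := ?_) |>.resolve_left
    · intro hb
      have : (⟨x0, hx0⟩ : W2) ∈ (Subgroup.zpowers x0).subgroupOf W2 := Subgroup.mem_zpowers x0
      rw [hb, Subgroup.mem_bot] at this
      exact hx01 (congrArg Subtype.val this)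
    · exact ⟨M.cardW2 ▸ M.hp⟩
  have : (⟨x, hx⟩ : W2) ∈ (Subgroup.zpowers x0).subgroupOf W2 := h1 ▸ Subgroup.mem_top _
  exact this

/-- The `U`-orbit of a nontrivial element of `W2` generates `P`. -/
theorem span (M : Mod P U W1 W2 p q) {x0 : G} (hx0 : x0 ∈ W2) (hx01 : x0 ≠ 1) (H : Subgroup G)
    (hU : ∀ u ∈ U, ∀ h ∈ H, u * h * u⁻¹ ∈ H) (hx : x0 ∈ H) : P ≤ H := by
  set S : Set G := {y | ∃ u ∈ U, y = u * x0 * u⁻¹} with hS
  have hSP : Subgroup.closure S ≤ P := by
    rw [Subgroup.closure_le]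
    rintro y ⟨u, hu, rfl⟩
    exact M.conjU hu (M.W2_le hx0)
  have hSH : Subgroup.closure S ≤ H := by
    rw [Subgroup.closure_le]
    rintro y ⟨u, hu, rfl⟩
    exact hU u hu x0 hx
  have hinv : ∀ g : G, (∀ y ∈ S, g * y * g⁻¹ ∈ S) → ∀ h ∈ Subgroup.closure S,
      g * h * g⁻¹ ∈ Subgroup.closure S := by
    intro g hg h hh
    have : Subgroup.closure S ≤ (Subgroup.closure S).comap (MulAut.conj g).toMonoidHom := by
      rw [Subgroup.closure_le]
      intro y hy
      exact Subgroup.subset_closure (hg y hy)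
    exact this hh
  rcases M.inv_bot_or_top (Subgroup.closure S) hSP
    (fun u hu => hinv u (by
      rintro y ⟨v, hv, rfl⟩
      exact ⟨u * v, mul_mem hu hv, by group⟩))
    (fun w hw => hinv w (by
      rintro y ⟨v, hv, rfl⟩
      refine ⟨w * v * w⁻¹, M.conjW1U hw hv, ?_⟩
      have h := M.comm_W2 hw hx0
      calc w * (v * x0 * v⁻¹) * w⁻¹ = w * v * w⁻¹ * (w * x0) * w⁻¹ * (w * v⁻¹ * w⁻¹) := by group
        _ = w * v * w⁻¹ * (x0 * w) * w⁻¹ * (w * v⁻¹ * w⁻¹) := by rw [h]
        _ = w * v * w⁻¹ * x0 * (w * v * w⁻¹)⁻¹ := by group)) with hb | ht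
  · exfalso
    have : x0 ∈ Subgroup.closure S := Subgroup.subset_closure ⟨1, one_mem _, by simp⟩
    rw [hb, Subgroup.mem_bot] at this
    exact hx01 this
  · rw [← ht]; exact hSH

theorem orbit_W2 (M : Mod P U W1 W2 p q) {x y u : G} (hu : u ∈ U) (hx : x ∈ W2) (hx1 : x ≠ 1)
    (hy : y ∈ W2) (h : u * x * u⁻¹ = y) : u = 1 := by
  obtain ⟨w, hw, hw1⟩ := M.exists_W1
  set v := u⁻¹ * (w * u * w⁻¹) with hv
  have hvU : v ∈ U := mul_mem (inv_mem hu) (M.conjW1U hw hu)
  have hvx : v * x * v⁻¹ = x := by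
    have h1 : x * w = w * x := (M.comm_W2 hw hx).symm
    have h2 : w * y * w⁻¹ = y := by rw [M.comm_W2 hw hy]; group
    calc v * x * v⁻¹ = u⁻¹ * (w * u * (w⁻¹ * x * w) * u⁻¹ * w⁻¹) * u := by rw [hv]; group
      _ = u⁻¹ * (w * (u * x * u⁻¹) * w⁻¹) * u := by rw [mul_assoc w⁻¹, h1]; group
      _ = u⁻¹ * y * u := by rw [h, h2]
      _ = x := by rw [← h]; group
  have hv1 : v = 1 := by
    have : P ≤ Subgroup.centralizer ({v} : Set G) := by
      apply M.span hx hx1
      · intro a ha b hb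
        rw [Subgroup.mem_centralizer_singleton_iff] at hb ⊢
        have hab : a * v = v * a := M.mul_comm_U ha hvU
        calc a * b * a⁻¹ * v = a * b * (a⁻¹ * v) := by group
          _ = a * (b * v) * a⁻¹ := by rw [M.mul_comm_U (inv_mem ha) hvU]; group
          _ = a * v * b * a⁻¹ := by rw [hb]; group
          _ = v * (a * b * a⁻¹) := by rw [hab]; group
      · rw [Subgroup.mem_centralizer_singleton_iff]
        calc x * v = v * x * v⁻¹ * v := by rw [hvx]
          _ = v * x := by group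
    have hmem : v ∈ U ⊓ Subgroup.centralizer (P : Set G) := by
      refine ⟨hvU, Subgroup.mem_centralizer_iff.2 fun z hz => ?_⟩
      exact Subgroup.mem_centralizer_singleton_iff.1 (this hz)
    rwa [M.U_faith, Subgroup.mem_bot] at hmem
  apply M.U_fix w hw hw1 u hu
  calc w * u = u * (u⁻¹ * (w * u * w⁻¹)) * w := by group
    _ = u * w := by rw [← hv, hv1, mul_one]

theorem fix_W2 (M : Mod P U W1 W2 p q) {x u : G} (hu : u ∈ U) (hx : x ∈ W2) (hx1 : x ≠ 1)
    (h : u * x = x * u) : u = 1 :=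
  M.orbit_W2 hu hx hx1 hx (by rw [h]; group)

/-- Dual statement: the stabiliser in `U` of a linear character of `P` invariant under `W1` and
nontrivial on `W2` is trivial. -/
theorem dual_stab {A : Type*} [CommGroup A] (M : Mod P U W1 W2 p q) (f : P →* A)
    (hW : ∀ w, ∀ hw : w ∈ W1, ∀ x, ∀ hx : x ∈ P, f ⟨w * x * w⁻¹, M.conjW1 hw hx⟩ = f ⟨x, hx⟩)
    (hne : ∃ x, ∃ hx : x ∈ W2, f ⟨x, M.W2_le hx⟩ ≠ 1)
    {u : G} (hu : u ∈ U) (hfix : ∀ x, ∀ hx : x ∈ P, f ⟨u * x * u⁻¹, M.conjU hu hx⟩ = f ⟨x, hx⟩) :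
    u = 1 := by
  have hfix' : ∀ x y : P, (y : G) = u * x * u⁻¹ → f y = f x := by
    rintro ⟨x, hx⟩ ⟨y, hy⟩ rfl; exact hfix x hx
  set K : Set G := {v | v ∈ U ∧ ∀ x y : P, (y : G) = v * x * v⁻¹ → f y = f x} with hK
  set S : Set G := {z | ∃ v ∈ K, ∃ x ∈ P, z = v * x * v⁻¹ * x⁻¹} with hSdef
  set D := Subgroup.closure S with hD
  have hDle : D ≤ P := by
    rw [hD, Subgroup.closure_le]
    rintro z ⟨v, hv, x, hx, rfl⟩
    exact mul_mem (M.conjU hv.1 hx) (inv_mem hx)
  have hDker : D ≤ f.ker.map P.subtype := by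
    rw [hD, Subgroup.closure_le]
    rintro z ⟨v, hv, x, hx, rfl⟩
    refine ⟨⟨v * x * v⁻¹, M.conjU hv.1 hx⟩ * (⟨x, hx⟩ : P)⁻¹, ?_, rfl⟩
    simp only [SetLike.mem_coe, MonoidHom.mem_ker, map_mul, map_inv]
    rw [hv.2 ⟨x, hx⟩ _ rfl, mul_inv_cancel]
  have hinv : ∀ g : G, (∀ y ∈ S, g * y * g⁻¹ ∈ S) → ∀ h ∈ D, g * h * g⁻¹ ∈ D := by
    intro g hg h hh
    have : D ≤ D.comap (MulAut.conj g).toMonoidHom := by
      rw [hD, Subgroup.closure_le]
      intro y hy
      exact Subgroup.subset_closure (hg y hy)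
    exact this hh
  rcases M.inv_bot_or_top D hDle
    (fun a ha => hinv a (by
      rintro z ⟨v, hv, x, hx, rfl⟩
      refine ⟨v, hv, a * x * a⁻¹, M.conjU ha hx, ?_⟩
      have h := M.mul_comm_U ha hv.1
      calc a * (v * x * v⁻¹ * x⁻¹) * a⁻¹
          = (a * v) * x * (a * v)⁻¹ * (a * x * a⁻¹)⁻¹ := by group
        _ = (v * a) * x * (v * a)⁻¹ * (a * x * a⁻¹)⁻¹ := by rw [h]
        _ = v * (a * x * a⁻¹) * v⁻¹ * (a * x * a⁻¹)⁻¹ := by group))
    (fun w hw => hinv w (by
      rintro z ⟨v, hv, x, hx, rfl⟩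
      refine ⟨w * v * w⁻¹, ⟨M.conjW1U hw hv.1, ?_⟩, w * x * w⁻¹, M.conjW1 hw hx, by group⟩
      rintro ⟨a, ha⟩ ⟨b, hb⟩ hab
      simp only at hab
      have ha' : w⁻¹ * a * w ∈ P := by simpa using M.conjW1 (inv_mem hw) ha
      have e1 := hW w hw _ ha'
      have e2 := hW w hw _ (M.conjU hv.1 ha')
      have e3 := hv.2 ⟨_, ha'⟩ ⟨_, M.conjU hv.1 ha'⟩ rfl
      calc f ⟨b, hb⟩ = f ⟨w * (v * (w⁻¹ * a * w) * v⁻¹) * w⁻¹, M.conjW1 hw (M.conjU hv.1 ha')⟩ :=
            congrArg f (Subtype.ext (hab.trans (by group)))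
        _ = f ⟨w⁻¹ * a * w, ha'⟩ := e2.trans e3
        _ = f ⟨w * (w⁻¹ * a * w) * w⁻¹, M.conjW1 hw ha'⟩ := e1.symm
        _ = f ⟨a, ha⟩ := congrArg f (Subtype.ext (by group)))) with hb | ht
  · have hmem : u ∈ U ⊓ Subgroup.centralizer (P : Set G) := by
      refine ⟨hu, Subgroup.mem_centralizer_iff.2 fun x hx => ?_⟩
      have : u * x * u⁻¹ * x⁻¹ ∈ D := Subgroup.subset_closure ⟨u, ⟨hu, hfix'⟩, x, hx, rfl⟩
      rw [hb, Subgroup.mem_bot, mul_inv_eq_one, mul_inv_eq_iff_eq_mul] at this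
      exact this.symm
    rwa [M.U_faith, Subgroup.mem_bot] at hmem
  · obtain ⟨x, hx, hxne⟩ := hne
    obtain ⟨y, hy, hyx⟩ := hDker (ht.symm ▸ M.W2_le hx)
    exact absurd ((congrArg f (Subtype.ext hyx)).symm.trans hy) hxne

theorem card_U_mul_le (M : Mod P U W1 W2 p q) : Nat.card U * (p - 1) ≤ p ^ q - 1 := by
  classical
  haveI := Fintype.ofFinite G
  rw [← M.cardP, ← M.cardW2]
  have hinj : Function.Injective (fun a : U × {x : W2 // x ≠ 1} =>
      (⟨⟨(a.1 : G) * (a.2.1 : G) * (a.1 : G)⁻¹, M.conjU a.1.2 (M.W2_le a.2.1.2)⟩, by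
        intro h
        apply a.2.2
        have := congrArg Subtype.val h
        simp only [Subgroup.coe_one, mul_inv_eq_one, mul_eq_left] at this
        exact Subtype.ext this⟩ : {x : P // x ≠ 1})) := by
    rintro ⟨⟨u, hu⟩, ⟨x, hx⟩, hx1⟩ ⟨⟨v, hv⟩, ⟨y, hy⟩, hy1⟩ h
    simp only [Subtype.mk.injEq] at h
    have h1 : v⁻¹ * u = 1 := M.orbit_W2 (mul_mem (inv_mem hv) hu) hx
      (fun e => hx1 (Subtype.ext e)) hy (by
        calc v⁻¹ * u * x * (v⁻¹ * u)⁻¹ = v⁻¹ * (u * x * u⁻¹) * v := by group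
          _ = y := by rw [h]; group)
    rw [inv_mul_eq_one] at h1
    subst h1
    have : x = y := mul_left_cancel (mul_right_cancel h)
    subst this
    rfl
  have hc := Nat.card_le_card_of_injective _ hinj
  rw [Nat.card_prod] at hc
  have e : ∀ H : Subgroup G, Nat.card {x : H // x ≠ 1} = Nat.card H - 1 := by
    intro H
    rw [Nat.card_eq_fintype_card, Nat.card_eq_fintype_card, Fintype.card_subtype_compl,
      Fintype.card_subtype_eq]
  rwa [e, e] at hc

end Mod

/-! ## The module -/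

/-- `P` written additively. -/
def Vec (_M : Mod P U W1 W2 p q) : Type u := Additive P

variable (M : Mod P U W1 W2 p q)
include M

instance : AddCommGroup (Vec M) :=
  { (inferInstance : AddGroup (Additive P)) with
    add_comm := fun a b => Subtype.ext (M.mul_comm_P (Additive.toMul (α := P) a).2
      (Additive.toMul (α := P) b).2) }

instance : Finite (Vec M) := inferInstanceAs (Finite (Additive P))

instance : Module (ZMod p) (Vec M) :=
  AddCommGroup.zmodModule (fun x => by
    apply (Subtype.ext (M.elem.2 _ (Additive.toMul (α := P) x).2) :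
      (Additive.toMul (α := P) x) ^ p = 1))

/-- The element of `G` behind a vector. -/
def out (v : Vec M) : G := ((Additive.toMul (α := P) v : P) : G)

/-- A vector from an element of `P`. -/
def vec (x : G) (hx : x ∈ P) : Vec M := Additive.ofMul (α := P) ⟨x, hx⟩

theorem out_mem (v : Vec M) : out M v ∈ P := (Additive.toMul (α := P) v).2
@[simp] theorem out_vec {x : G} (hx : x ∈ P) : out M (vec M x hx) = x := rfl
@[simp] theorem out_zero : out M 0 = 1 := rfl
@[simp] theorem out_add (v w : Vec M) : out M (v + w) = out M v * out M w := rfl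
theorem out_inj {v w : Vec M} (h : out M v = out M w) : v = w :=
  congrArg (Additive.ofMul (α := P)) (Subtype.ext h)
theorem out_natCast_smul (k : ℕ) (v : Vec M) : out M ((k : ZMod p) • v) = out M v ^ k := by
  rw [Nat.cast_smul_eq_nsmul]
  induction k with
  | zero => simp
  | succ k ih => rw [succ_nsmul, out_add, ih, pow_succ]

/-- Conjugation as a linear map. -/
def lin (g : ↥(Subgroup.normalizer (P : Set G))) : Module.End (ZMod p) (Vec M) :=
  AddMonoidHom.toZModLinearMap p
    (AddMonoidHom.mk' (fun v => vec M ((g : G) * out M v * (g : G)⁻¹)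
        ((Subgroup.mem_normalizer_iff.1 g.2 _).1 (out_mem M v)))
      (fun v w => out_inj M (by simp only [out_vec, out_add]; group)))

@[simp] theorem out_lin (g : ↥(Subgroup.normalizer (P : Set G))) (v : Vec M) :
    out M (lin M g v) = (g : G) * out M v * (g : G)⁻¹ := rfl

/-- The representation of `U`. -/
def rho : U →* Module.End (ZMod p) (Vec M) where
  toFun u := lin M ⟨u, M.UnormP u.2⟩
  map_one' := LinearMap.ext fun v => out_inj M (by simp [out_lin])
  map_mul' u v := LinearMap.ext fun w => out_inj M (by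
    simp only [Module.End.mul_apply, out_lin, Subgroup.coe_mul]; group)

/-- The representation of `W1`. -/
def sig : W1 →* Module.End (ZMod p) (Vec M) where
  toFun u := lin M ⟨u, M.W1normP u.2⟩
  map_one' := LinearMap.ext fun v => out_inj M (by simp [out_lin])
  map_mul' u v := LinearMap.ext fun w => out_inj M (by
    simp only [Module.End.mul_apply, out_lin, Subgroup.coe_mul]; group)

@[simp] theorem out_rho (u : U) (v : Vec M) :
    out M (rho M u v) = (u : G) * out M v * (u : G)⁻¹ := rfl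
@[simp] theorem out_sig (u : W1) (v : Vec M) :
    out M (sig M u v) = (u : G) * out M v * (u : G)⁻¹ := rfl

theorem rho_comm (a b : U) : rho M a * rho M b = rho M b * rho M a := by
  rw [← map_mul, ← map_mul]
  congr 1
  exact Subtype.ext (M.mul_comm_U a.2 b.2)

theorem sig_rho (w : W1) (u : U) :
    sig M w * rho M u = rho M ⟨(w : G) * u * (w : G)⁻¹, M.conjW1U w.2 u.2⟩ * sig M w := by
  refine LinearMap.ext fun v => out_inj M ?_
  simp only [Module.End.mul_apply, out_rho, out_sig]
  group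

/-- Commuting with the action of `U`. -/
def UComm (f : Module.End (ZMod p) (Vec M)) : Prop := ∀ u, Commute f (rho M u)

theorem ucomm_one : UComm M 1 := fun _ => Commute.one_left _
theorem ucomm_rho (u : U) : UComm M (rho M u) := fun v => rho_comm M u v
theorem UComm.mul {f g} (hf : UComm M f) (hg : UComm M g) : UComm M (f * g) :=
  fun u => (hf u).mul_left (hg u)
theorem UComm.add {f g} (hf : UComm M f) (hg : UComm M g) : UComm M (f + g) :=
  fun u => (hf u).add_left (hg u)
theorem UComm.sub {f g} (hf : UComm M f) (hg : UComm M g) : UComm M (f - g) :=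
  fun u => (hf u).sub_left (hg u)
theorem UComm.smul {f} (hf : UComm M f) (c : ZMod p) : UComm M (c • f) :=
  fun u => (hf u).smul_left c
theorem UComm.neg {f} (hf : UComm M f) : UComm M (-f) := fun u => (hf u).neg_left
theorem UComm.sum {ι : Type*} (s : Finset ι) (f : ι → Module.End (ZMod p) (Vec M))
    (hf : ∀ i ∈ s, UComm M (f i)) : UComm M (∑ i ∈ s, f i) :=
  fun u => Commute.sum_left s _ _ fun i hi => hf i hi u
theorem UComm.pow {f} (hf : UComm M f) (k : ℕ) : UComm M (f ^ k) :=
  fun u => (hf u).pow_left k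

/-- Two maps commuting with `U` which agree at a nonzero vector of `W2` are equal. -/
theorem ext_at {x0 : G} (hx0 : x0 ∈ W2) (hx01 : x0 ≠ 1) {f g : Module.End (ZMod p) (Vec M)}
    (hf : UComm M f) (hg : UComm M g)
    (h : f (vec M x0 (M.W2_le hx0)) = g (vec M x0 (M.W2_le hx0))) : f = g := by
  let H : Subgroup G :=
    { carrier := {x | ∃ hx : x ∈ P, f (vec M x hx) = g (vec M x hx)}
      one_mem' := ⟨one_mem _, by
        rw [show vec M (1 : G) (one_mem P) = 0 from rfl, map_zero, map_zero]⟩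
      mul_mem' := by
        rintro a b ⟨ha, ea⟩ ⟨hb, eb⟩
        refine ⟨mul_mem ha hb, ?_⟩
        rw [show vec M (a * b) (mul_mem ha hb) = vec M a ha + vec M b hb from rfl, map_add,
          map_add, ea, eb]
      inv_mem' := by
        rintro a ⟨ha, ea⟩
        refine ⟨inv_mem ha, ?_⟩
        rw [show vec M a⁻¹ (inv_mem ha) = -vec M a ha from rfl, map_neg, map_neg, ea] }
  have hP : P ≤ H := by
    apply M.span hx0 hx01
    · rintro a ha b ⟨hb, eb⟩
      refine ⟨M.conjU ha hb, ?_⟩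
      rw [show vec M (a * b * a⁻¹) (M.conjU ha hb) = rho M ⟨a, ha⟩ (vec M b hb) from rfl,
        ← Module.End.mul_apply, ← Module.End.mul_apply, (hf _).eq, (hg _).eq,
        Module.End.mul_apply, Module.End.mul_apply, eb]
    · exact ⟨M.W2_le hx0, h⟩
  refine LinearMap.ext fun v => ?_
  obtain ⟨hx, e⟩ := hP (out_mem M v)
  exact e

/-- The ring generated by the action of `U`. -/
noncomputable def ring : Subring (Module.End (ZMod p) (Vec M)) := Subring.closure (Set.range (rho M))

theorem ring_ucomm {f : Module.End (ZMod p) (Vec M)} (hf : f ∈ ring M) : UComm M f := by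
  intro u
  have : ring M ≤ Subring.centralizer {rho M u} := by
    rw [ring, Subring.closure_le]
    rintro _ ⟨v, rfl⟩
    rw [SetLike.mem_coe, Subring.mem_centralizer_iff]
    intro g hg
    rw [Set.mem_singleton_iff] at hg
    rw [hg]
    exact rho_comm M u v
  exact (Subring.mem_centralizer_iff.1 (this hf) _ rfl).symm

/-- The commutant of `U` is the ring generated by `U`. -/
theorem mem_ring {f : Module.End (ZMod p) (Vec M)} (hf : UComm M f) : f ∈ ring M := by
  obtain ⟨x0, hx0, hx01⟩ := M.exists_W2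
  set v0 := vec M x0 (M.W2_le hx0) with hv0
  let H : Subgroup G :=
    { carrier := {x | ∃ r ∈ ring M, out M (r v0) = x}
      one_mem' := ⟨0, zero_mem _, rfl⟩
      mul_mem' := by
        rintro a b ⟨r, hr, rfl⟩ ⟨s, hs, rfl⟩
        exact ⟨r + s, add_mem hr hs, rfl⟩
      inv_mem' := by
        rintro a ⟨r, hr, rfl⟩
        exact ⟨-r, neg_mem hr, rfl⟩ }
  have hP : P ≤ H := by
    apply M.span hx0 hx01
    · rintro a ha b ⟨r, hr, rfl⟩
      exact ⟨rho M ⟨a, ha⟩ * r, mul_mem (Subring.subset_closure ⟨_, rfl⟩) hr, rfl⟩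
    · exact ⟨1, one_mem _, rfl⟩
  obtain ⟨r, hr, e⟩ := hP (out_mem M (f v0))
  rw [ext_at M hx0 hx01 hf (ring_ucomm M hr) (out_inj M e.symm)]
  exact hr

theorem ucomm_comm {f g : Module.End (ZMod p) (Vec M)} (hf : UComm M f) (hg : UComm M g) :
    f * g = g * f := by
  have : ring M ≤ Subring.centralizer {g} := by
    rw [ring, Subring.closure_le]
    rintro _ ⟨v, rfl⟩
    rw [SetLike.mem_coe, Subring.mem_centralizer_iff]
    intro a ha
    rw [Set.mem_singleton_iff] at ha
    rw [ha]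
    exact hg v
  exact (Subring.mem_centralizer_iff.1 (this (mem_ring M hf)) _ rfl).symm

theorem two_ne_zero' : (2 : ZMod p) ≠ 0 := by
  intro h
  have := (ZMod.natCast_eq_zero_iff 2 p).1 (by exact_mod_cast h) |> Nat.le_of_dvd (by norm_num)
  have h2 := M.hp.two_le
  obtain ⟨k, hk⟩ := M.p_odd
  omega

theorem vec0_ne {x0 : G} (hx0 : x0 ∈ W2) (hx01 : x0 ≠ 1) : vec M x0 (M.W2_le hx0) ≠ 0 :=
  fun h => hx01 (congrArg (out M) h)

/-- Scalars times the action of `U` form a faithful action of a product. -/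
theorem smul_rho_eq_one {k : ZMod p} {u : U} (h : k • rho M u = 1) : u = 1 ∧ k = 1 := by
  haveI : Fact p.Prime := ⟨M.hp⟩
  obtain ⟨x0, hx0, hx01⟩ := M.exists_W2
  have hk : k ≠ 0 := by
    rintro rfl
    rw [zero_smul] at h
    exact vec0_ne M hx0 hx01
      ((LinearMap.congr_fun h (vec M x0 (M.W2_le hx0))).symm.trans (LinearMap.zero_apply _))
  have h' : rho M u = k⁻¹ • (1 : Module.End (ZMod p) (Vec M)) := by
    rw [← h, smul_smul, inv_mul_cancel₀ hk, one_smul]
  have hu : (u : G) = 1 := by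
    have e := congrArg (out M) (LinearMap.congr_fun h' (vec M x0 (M.W2_le hx0)))
    rw [LinearMap.smul_apply, Module.End.one_apply, ← ZMod.natCast_zmod_val k⁻¹,
      out_natCast_smul, out_rho, out_vec] at e
    exact M.orbit_W2 u.2 hx0 hx01 (pow_mem hx0 _) e
  have hu' : u = 1 := Subtype.ext hu
  subst hu'
  refine ⟨rfl, ?_⟩
  rw [map_one] at h
  have e := LinearMap.congr_fun h (vec M x0 (M.W2_le hx0))
  rw [LinearMap.smul_apply, Module.End.one_apply] at e
  by_contra hk1
  have : (k - 1) • vec M x0 (M.W2_le hx0) = 0 := by rw [sub_smul, e, one_smul, sub_self]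
  rcases smul_eq_zero.1 this with h1 | h1
  · exact hk1 (sub_eq_zero.1 h1)
  · exact vec0_ne M hx0 hx01 h1

theorem rho_injective : Function.Injective (rho M) := by
  rw [injective_iff_map_eq_one]
  intro u hu
  exact (smul_rho_eq_one M (k := 1) (by rw [one_smul, hu])).1

/-- The two possibilities. -/
theorem semiregular_or_involution :
    (∀ (u : U) (k : ZMod p), ∀ v : Vec M, v ≠ 0 → k • rho M u v = v → u = 1 ∧ k = 1) ∨
    ∃ e : Module.End (ZMod p) (Vec M), UComm M e ∧ e * e = e ∧ e ≠ 0 ∧ e ≠ 1 := by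
  haveI : Fact p.Prime := ⟨M.hp⟩
  by_contra hcon
  push_neg at hcon
  obtain ⟨⟨u, k, v, hv, hfix, hne⟩, hno⟩ := hcon
  have hk : k ≠ 0 := by
    rintro rfl
    rw [zero_smul] at hfix
    exact hv hfix.symm
  set g := k • rho M u with hg
  set o := Nat.card U * (p - 1) with ho
  have hgo : g ^ o = 1 := by
    rw [hg, smul_pow, ← map_pow, ho, pow_mul u, pow_card_eq_one', one_pow, map_one,
      mul_comm, pow_mul, ZMod.pow_card_sub_one_eq_one hk, one_pow, one_smul]
  have ho0 : (o : ZMod p) ≠ 0 := by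
    rw [Ne, ZMod.natCast_eq_zero_iff, ho, M.hp.dvd_mul]
    rintro (h | h)
    · exact M.hp.ne_one (Nat.eq_one_of_dvd_coprimes M.copP h dvd_rfl)
    · have := Nat.le_of_dvd (by have := M.hp.two_le; omega) h
      have := M.hp.two_le
      omega
  set e := (o : ZMod p)⁻¹ • ∑ i ∈ Finset.range o, g ^ i with he
  have hgU : UComm M g := UComm.smul M (ucomm_rho M u) k
  have heU : UComm M e := UComm.smul M (UComm.sum M _ _ fun i _ => UComm.pow M hgU i) _
  have hge : g * e = e := by
    rw [he, mul_smul_comm, Finset.mul_sum]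
    congr 1
    have h1 := Finset.sum_range_succ' (fun i => g ^ i) o
    rw [Finset.sum_range_succ, hgo, pow_zero] at h1
    rw [add_right_cancel h1]
    exact Finset.sum_congr rfl fun i _ => (pow_succ' g i).symm
  have hee : e * e = e := by
    have : ∀ i, g ^ i * e = e := by
      intro i; induction i with
      | zero => simp
      | succ i ih => rw [pow_succ, mul_assoc, hge, ih]
    conv_lhs => enter [1]; rw [he]
    rw [smul_mul_assoc, Finset.sum_mul, Finset.sum_congr rfl (fun i _ => this i),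
      Finset.sum_const, Finset.card_range, ← Nat.cast_smul_eq_nsmul (ZMod p), smul_smul,
      inv_mul_cancel₀ ho0, one_smul]
  have hev : e v = v := by
    have hgv : g v = v := hfix
    have : ∀ i, (g ^ i) v = v := by
      intro i; induction i with
      | zero => simp
      | succ i ih => rw [pow_succ, Module.End.mul_apply, hgv, ih]
    rw [he, LinearMap.smul_apply, LinearMap.sum_apply, Finset.sum_congr rfl (fun i _ => this i),
      Finset.sum_const, Finset.card_range, ← Nat.cast_smul_eq_nsmul (ZMod p), smul_smul,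
      inv_mul_cancel₀ ho0, one_smul]
  have he0 : e ≠ 0 := by
    intro h
    rw [h, LinearMap.zero_apply] at hev
    exact hv hev.symm
  have he1 := hno e heU hee he0
  rw [he1, mul_one] at hge
  obtain ⟨h1, h2⟩ := smul_rho_eq_one M hge
  exact hne h1 h2

theorem four_mul_card_le {e : Module.End (ZMod p) (Vec M)} (heU : UComm M e) (hee : e * e = e)
    (he0 : e ≠ 0) (he1 : e ≠ 1) : 4 * (Nat.card U * (p - 1)) ≤ p ^ q - 1 := by
  classical
  haveI : Fact p.Prime := ⟨M.hp⟩
  obtain ⟨x0, hx0, hx01⟩ := M.exists_W2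
  obtain ⟨w, hw, hw1⟩ := M.exists_W1
  have h2 := two_ne_zero' M
  set ε : Module.End (ZMod p) (Vec M) := (2 : ZMod p) • e - 1 with hε
  have hεU : UComm M ε := UComm.sub M (UComm.smul M heU 2) (ucomm_one M)
  have hεε : ε * ε = 1 := by
    rw [hε, mul_sub, mul_one, sub_mul, one_mul, smul_mul_smul_comm, hee, mul_smul, two_smul,
      two_smul]
    abel
  have hε1 : ε ≠ 1 := by
    intro h
    apply he1
    rw [hε, sub_eq_iff_eq_add, ← two_smul (ZMod p)] at h
    exact smul_right_injective _ h2 h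
  have hεm1 : ε ≠ -1 := by
    intro h
    apply he0
    rw [hε, sub_eq_neg_self] at h
    rcases smul_eq_zero.1 h with h' | h'
    · exact absurd h' h2
    · exact h'
  set s := sig M ⟨w, hw⟩ with hs
  set t := sig M ⟨w, hw⟩⁻¹ with ht
  have hts : t * s = 1 := by rw [hs, ht, ← map_mul, inv_mul_cancel, map_one]
  have hst : s * t = 1 := by rw [hs, ht, ← map_mul, mul_inv_cancel, map_one]
  set ε' := s * ε * t with hε'
  have hε'U : UComm M ε' := by
    intro u
    have e1 := sig_rho M ⟨w, hw⟩ ⟨w⁻¹ * (u : G) * w, by simpa using M.conjW1U (inv_mem hw) u.2⟩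
    have eu : (⟨w * (w⁻¹ * (u : G) * w) * w⁻¹, M.conjW1U hw
        (by simpa using M.conjW1U (inv_mem hw) u.2)⟩ : U) = u := Subtype.ext (by group)
    rw [eu, ← hs] at e1
    set r := rho M ⟨w⁻¹ * (u : G) * w, by simpa using M.conjW1U (inv_mem hw) u.2⟩
    have e2 : t * rho M u = r * t := by
      have := congrArg (fun z => t * z * t) e1
      simp only [← mul_assoc, hts, one_mul] at this
      rw [this, mul_assoc _ s t, hst, mul_one]
    calc ε' * rho M u = s * ε * (t * rho M u) := by rw [hε']; simp only [mul_assoc]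
      _ = s * (ε * r) * t := by rw [e2]; simp only [mul_assoc]
      _ = s * r * ε * t := by rw [show ε * r = r * ε from (hεU _).eq]; simp only [mul_assoc]
      _ = rho M u * ε' := by rw [e1, hε']; simp only [mul_assoc]
  have hε'ε' : ε' * ε' = 1 := by
    calc ε' * ε' = s * ε * (t * s) * ε * t := by rw [hε']; simp only [mul_assoc]
      _ = 1 := by rw [hts, mul_one, mul_assoc s ε ε, hεε, mul_one, hst]
  have hback : ∀ {c : Module.End (ZMod p) (Vec M)}, ε' = c → ε = t * c * s := by
    rintro c rfl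
    rw [hε']
    simp only [← mul_assoc, hts, one_mul]
    rw [mul_assoc, hts, mul_one]
  have hε'1 : ε' ≠ 1 := fun h => hε1 (by rw [hback h, mul_one, hts])
  have hε'm1 : ε' ≠ -1 := fun h => hεm1 (by rw [hback h, mul_neg, mul_one, neg_mul, hts])
  have hW1gen : ∀ z : W1, z ∈ Subgroup.zpowers (⟨w, hw⟩ : W1) := by
    intro z
    haveI : Fact (Nat.card W1).Prime := ⟨M.cardW1 ▸ M.hq⟩
    exact mem_zpowers_of_prime_card rfl (fun h => hw1 (congrArg Subtype.val h))
  have hne : ε' ≠ ε := by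
    intro h
    have hse : s * e = e * s := by
      have h' : s * ε = ε * s := by
        calc s * ε = s * ε * (t * s) := by rw [hts, mul_one]
          _ = ε' * s := by rw [hε']; simp only [mul_assoc]
          _ = ε * s := by rw [h]
      rw [hε, mul_sub, sub_mul, mul_one, one_mul, sub_left_inj, mul_smul_comm, smul_mul_assoc]
        at h'
      exact smul_right_injective _ h2 h'
    have hC : ∀ z : W1, sig M z * e = e * sig M z := by
      intro z
      obtain ⟨m, rfl⟩ := (mem_zpowers_iff_mem_range_orderOf.1 (hW1gen z) |> Finset.mem_image.1)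
        |>.imp fun m hm => hm.2
      rw [map_pow, ← hs]
      exact (Commute.pow_left hse m).eq
    let H : Subgroup G :=
      { carrier := {x | ∃ hx : x ∈ P, e (vec M x hx) = vec M x hx}
        one_mem' := ⟨one_mem _, by rw [show vec M (1 : G) (one_mem P) = 0 from rfl, map_zero]⟩
        mul_mem' := by
          rintro a b ⟨ha, ea⟩ ⟨hb, eb⟩
          refine ⟨mul_mem ha hb, ?_⟩
          rw [show vec M (a * b) (mul_mem ha hb) = vec M a ha + vec M b hb from rfl, map_add, ea, eb]
        inv_mem' := by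
          rintro a ⟨ha, ea⟩
          refine ⟨inv_mem ha, ?_⟩
          rw [show vec M a⁻¹ (inv_mem ha) = -vec M a ha from rfl, map_neg, ea] }
    rcases M.inv_bot_or_top H (fun x hx => hx.1)
      (by
        rintro a ha b ⟨hb, eb⟩
        refine ⟨M.conjU ha hb, ?_⟩
        rw [show vec M (a * b * a⁻¹) (M.conjU ha hb) = rho M ⟨a, ha⟩ (vec M b hb) from rfl,
          ← Module.End.mul_apply, (heU _).eq, Module.End.mul_apply, eb])
      (by
        rintro a ha b ⟨hb, eb⟩
        refine ⟨M.conjW1 ha hb, ?_⟩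
        rw [show vec M (a * b * a⁻¹) (M.conjW1 ha hb) = sig M ⟨a, ha⟩ (vec M b hb) from rfl,
          ← Module.End.mul_apply, ← hC, Module.End.mul_apply, eb]) with hb | htop
    · apply he0
      refine LinearMap.ext fun v => ?_
      have : out M (e v) ∈ H := ⟨out_mem M _, by
        rw [show vec M (out M (e v)) (out_mem M _) = e v from rfl, ← Module.End.mul_apply, hee]⟩
      rw [hb, Subgroup.mem_bot] at this
      exact out_inj M (this.trans (out_zero M).symm)
    · apply he1
      refine LinearMap.ext fun v => ?_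
      have : out M v ∈ H := htop.symm ▸ out_mem M v
      obtain ⟨_, e'⟩ := this
      exact e'
  have hnem : ε' ≠ -ε := by
    intro h
    have h' : s * ε = -(ε * s) := by
      calc s * ε = s * ε * (t * s) := by rw [hts, mul_one]
        _ = ε' * s := by rw [hε']; simp only [mul_assoc]
        _ = -(ε * s) := by rw [h, neg_mul]
    have : ∀ m : ℕ, s ^ m * ε = (-1 : ZMod p) ^ m • (ε * s ^ m) := by
      intro m; induction m with
      | zero => simp
      | succ m ih =>
        rw [pow_succ' s, mul_assoc, ih, mul_smul_comm, ← mul_assoc, h', neg_mul, mul_assoc,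
          pow_succ, mul_smul, neg_smul, one_smul]
    have hq1 : s ^ q = 1 := by
      have h1 := pow_card_eq_one' (x := (⟨w, hw⟩ : W1))
      rw [M.cardW1] at h1
      rw [hs, ← map_pow, h1, map_one]
    have e := this q
    rw [hq1, one_mul, mul_one, M.q_odd.neg_one_pow, neg_smul, one_smul] at e
    have : (2 : ZMod p) • ε = 0 := by rw [two_smul]; exact add_eq_zero_iff_eq_neg.2 e
    rcases smul_eq_zero.1 this with h3 | h3
    · exact h2 h3
    · rw [h3, mul_zero] at hεε
      exact vec0_ne M hx0 hx01 ((LinearMap.congr_fun hεε (vec M x0 (M.W2_le hx0))).symm.trans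
        (LinearMap.zero_apply _))
  have hcomm := ucomm_comm M hεU hε'U
  let m : Bool × Bool → Module.End (ZMod p) (Vec M) :=
    fun a => (if a.1 then ε else 1) * (if a.2 then ε' else 1)
  have hmU : ∀ a, UComm M (m a) := fun a =>
    UComm.mul M (by split_ifs <;> [exact hεU; exact ucomm_one M])
      (by split_ifs <;> [exact hε'U; exact ucomm_one M])
  have hεε'ε : ε * ε' * ε = ε' := by rw [hcomm, mul_assoc, hεε, mul_one]
  have hεε'ε' : ε * ε' * ε' = ε := by rw [mul_assoc, hε'ε', mul_one]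
  have hmm : ∀ a b, m a * m b = m (xor a.1 b.1, xor a.2 b.2) := by
    rintro ⟨a₁, a₂⟩ ⟨b₁, b₂⟩
    cases a₁ <;> cases a₂ <;> cases b₁ <;> cases b₂ <;>
      simp [m, hεε, hε'ε', ← mul_assoc, hεε'ε, hεε'ε', ← hcomm]
  have hm : ∀ (a : Bool × Bool) (u : U) (k : ZMod p), k • rho M u = m a →
      u = 1 ∧ k = 1 ∧ a = (false, false) := by
    intro a u k h
    have hsq : (k * k) • rho M (u * u) = 1 := by
      rw [map_mul, ← smul_mul_smul_comm, h, hmm, Bool.xor_self, Bool.xor_self]
      simp [m]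
    obtain ⟨hu2, hk2⟩ := smul_rho_eq_one M hsq
    have hu : u = 1 := by
      have h1 : u ^ Nat.gcd (Nat.card U) 2 = 1 :=
        pow_gcd_eq_one.2 ⟨pow_card_eq_one', by rw [pow_two]; exact hu2⟩
      rwa [Nat.coprime_two_right.2 M.U_odd, pow_one] at h1
    subst hu
    rw [map_one] at h
    rcases mul_self_eq_one_iff.1 hk2 with rfl | rfl
    · refine ⟨rfl, rfl, ?_⟩
      rw [one_smul] at h
      rcases a with ⟨_ | _, _ | _⟩
      · rfl
      · simp [m] at h; exact absurd h.symm hε'1
      · simp [m] at h; exact absurd h.symm hε1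
      · simp [m] at h
        exact absurd (show ε' = ε by
          calc ε' = ε * (ε * ε') := by rw [← mul_assoc, hεε, one_mul]
            _ = ε := by rw [← h, mul_one]) hne
    · exfalso
      rw [neg_smul, one_smul] at h
      rcases a with ⟨_ | _, _ | _⟩
      · simp [m] at h
        have : (2 : ZMod p) • (1 : Module.End (ZMod p) (Vec M)) = 0 := by
          rw [two_smul]; exact add_eq_zero_iff_neg_eq.2 h
        rcases smul_eq_zero.1 this with h3 | h3
        · exact h2 h3
        · exact vec0_ne M hx0 hx01 (LinearMap.congr_fun h3 (vec M x0 (M.W2_le hx0)))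
      · simp [m] at h; exact hε'm1 h.symm
      · simp [m] at h; exact hεm1 h.symm
      · simp [m] at h
        exact hnem (by
          calc ε' = ε * (ε * ε') := by rw [← mul_assoc, hεε, one_mul]
            _ = -ε := by rw [← h, mul_neg, mul_one])
  let F : (U × (ZMod p)ˣ) × Bool × Bool → {v : Vec M // v ≠ 0} := fun a =>
    ⟨((a.1.2 : ZMod p) • rho M a.1.1 * m a.2) (vec M x0 (M.W2_le hx0)), by
      intro h
      have h0 := ext_at M hx0 hx01
        (UComm.mul M (UComm.smul M (ucomm_rho M a.1.1) _) (hmU a.2))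
        (fun u => Commute.zero_left (rho M u)) (h.trans (LinearMap.zero_apply _).symm)
      have h1 := congrArg (fun z => z * (m a.2)) h0
      simp only [mul_assoc, hmm, Bool.xor_self, zero_mul] at h1
      rw [show m (false, false) = 1 from one_mul 1, mul_one] at h1
      have h2 := congrArg (fun z => ((a.1.2⁻¹ : (ZMod p)ˣ) : ZMod p) • (rho M a.1.1⁻¹ * z)) h1
      simp only [mul_smul_comm, smul_smul, ← map_mul, inv_mul_cancel, map_one, mul_zero,
        smul_zero, Units.inv_mul, one_smul] at h2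
      exact vec0_ne M hx0 hx01 (LinearMap.congr_fun h2 (vec M x0 (M.W2_le hx0)))⟩
  have hF : Function.Injective F := by
    rintro ⟨⟨u, k⟩, a⟩ ⟨⟨v, l⟩, b⟩ h
    have h0 : (k : ZMod p) • rho M u * m a = (l : ZMod p) • rho M v * m b :=
      ext_at M hx0 hx01 (UComm.mul M (UComm.smul M (ucomm_rho M u) _) (hmU a))
        (UComm.mul M (UComm.smul M (ucomm_rho M v) _) (hmU b)) (congrArg Subtype.val h)
    have h1 := congrArg (fun z => ((l⁻¹ : (ZMod p)ˣ) : ZMod p) • (rho M v⁻¹ * z * m a)) h0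
    simp only [smul_mul_assoc, mul_smul_comm, smul_smul, Units.inv_mul, one_smul, mul_assoc,
      hmm, Bool.xor_self] at h1
    rw [← mul_assoc (rho M v⁻¹) (rho M v), ← map_mul, inv_mul_cancel, map_one, one_mul,
      show m (false, false) = 1 from one_mul 1, mul_one, ← map_mul] at h1
    obtain ⟨h2, h3, h4⟩ := hm _ _ _ h1
    rw [inv_mul_eq_one] at h2
    rw [← Units.val_mul, Units.val_eq_one, inv_mul_eq_one] at h3
    simp only [Prod.mk.injEq] at h4
    obtain ⟨h5, h6⟩ := h4
    subst h2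
    subst h3
    rcases a with ⟨_ | _, _ | _⟩ <;> rcases b with ⟨_ | _, _ | _⟩ <;>
      first
        | rfl
        | exact absurd h5 (by decide)
        | exact absurd h6 (by decide)
  haveI := Fintype.ofFinite (Vec M)
  have hc := Nat.card_le_card_of_injective F hF
  simp only [Nat.card_prod, Nat.card_units, Nat.card_zmod, Nat.card_eq_fintype_card (α := Bool),
    Fintype.card_bool] at hc
  have e : Nat.card {v : Vec M // v ≠ 0} = p ^ q - 1 := by
    rw [Nat.card_eq_fintype_card, Fintype.card_subtype_compl, Fintype.card_subtype_eq,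
      ← Nat.card_eq_fintype_card, show Nat.card (Vec M) = Nat.card P from rfl, M.cardP]
  rw [e] at hc
  linarith

theorem dvd_of_semiregular
    (h : ∀ (u : U) (k : ZMod p), ∀ v : Vec M, v ≠ 0 → k • rho M u v = v → u = 1 ∧ k = 1) :
    Nat.card U * (p - 1) ∣ p ^ q - 1 := by
  classical
  haveI : Fact p.Prime := ⟨M.hp⟩
  let act : U × (ZMod p)ˣ →* Function.End {v : Vec M // v ≠ 0} :=
    { toFun := fun a v => ⟨(a.2 : ZMod p) • rho M a.1 v.1, by
        intro e
        apply v.2
        rcases smul_eq_zero.1 e with e' | e'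
        · exact absurd e' a.2.ne_zero
        · have := congrArg (rho M a.1⁻¹) e'
          rwa [map_zero, ← Module.End.mul_apply, ← map_mul, inv_mul_cancel, map_one,
            Module.End.one_apply] at this⟩
      map_one' := funext fun v => Subtype.ext (by simp; rfl)
      map_mul' := fun a b => funext fun v => Subtype.ext (by
        show _ = (a.2 : ZMod p) • rho M a.1 ((b.2 : ZMod p) • rho M b.1 v.1)
        simp [map_smul, smul_smul, Module.End.mul_apply]) }
  letI : MulAction (U × (ZMod p)ˣ) {v : Vec M // v ≠ 0} := MulAction.compHom _ act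
  haveI := Fintype.ofFinite (Vec M)
  have hfree : ∀ v : {v : Vec M // v ≠ 0}, MulAction.stabilizer (U × (ZMod p)ˣ) v = ⊥ := by
    intro v
    rw [Subgroup.eq_bot_iff_forall]
    rintro ⟨u, k⟩ hg
    obtain ⟨h1, h2⟩ := h u (k : ZMod p) v.1 v.2 (congrArg Subtype.val (MulAction.mem_stabilizer_iff.1 hg))
    exact Prod.ext h1 (Units.ext h2)
  have e1 := Nat.card_congr (MulAction.selfEquivOrbitsQuotientProd hfree)
  have e : Nat.card {v : Vec M // v ≠ 0} = p ^ q - 1 := by
    rw [Nat.card_eq_fintype_card, Fintype.card_subtype_compl, Fintype.card_subtype_eq,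
      ← Nat.card_eq_fintype_card, show Nat.card (Vec M) = Nat.card P from rfl, M.cardP]
  rw [← e, e1, Nat.card_prod _ (U × (ZMod p)ˣ), Nat.card_prod U, Nat.card_units, Nat.card_zmod]
  exact dvd_mul_left _ _

theorem div_mul_eq : (p ^ q - 1) / (p - 1) * (p - 1) = p ^ q - 1 := by
  apply Nat.div_mul_cancel
  simpa using Nat.sub_one_dvd_pow_sub_one p q

/-- The gap. -/
theorem three_mul_le_or_eq :
    3 * Nat.card U ≤ (p ^ q - 1) / (p - 1) ∨ Nat.card U = (p ^ q - 1) / (p - 1) := by
  have hp1 : 0 < p - 1 := by have := M.hp.two_le; omega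
  have hd := div_mul_eq M
  have hp2 : p ≠ 2 := fun h => absurd (h ▸ M.p_odd) (by decide)
  have hq2 : q ≠ 2 := fun h => absurd (h ▸ M.q_odd) (by decide)
  have hodd := (Cfsg.Agent.S1546.result p q M.hp M.hq hp2 hq2).1
  rcases semiregular_or_involution M with hsr | ⟨e, he, hee, he0, he1⟩
  · have h := dvd_of_semiregular M hsr
    rw [← hd] at h
    obtain ⟨c, hc⟩ := Nat.dvd_of_mul_dvd_mul_right hp1 h
    rw [hc] at hodd ⊢
    obtain ⟨k, hk⟩ := (Nat.odd_mul.1 hodd).2
    rcases Nat.eq_zero_or_pos k with rfl | hk0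
    · right; rw [hk]; simp
    · left
      rw [mul_comm 3]
      exact Nat.mul_le_mul_left _ (by omega)
  · left
    have h := four_mul_card_le M he hee he0 he1
    rw [← hd, ← mul_assoc] at h
    have := Nat.le_of_mul_le_mul_right h hp1
    omega

/-! ## The case `|U| = (p ^ q - 1) / (p - 1)` -/

variable (hn : Nat.card U = (p ^ q - 1) / (p - 1))
include hn

theorem arith :
    p % q ≠ 1 ∧ Nat.Coprime (Nat.card U) (p - 1) ∧ ∀ x, x ∣ Nat.card U → x % q = 1 := by
  have hp2 : p ≠ 2 := fun h => absurd (h ▸ M.p_odd) (by decide)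
  have hq2 : q ≠ 2 := fun h => absurd (h ▸ M.q_odd) (by decide)
  obtain ⟨-, h1, h2⟩ := Cfsg.Agent.S1546.result p q M.hp M.hq hp2 hq2
  have hne : p % q ≠ 1 := fun h =>
    M.hq.ne_one (Nat.eq_one_of_dvd_coprimes M.copQ (hn ▸ h1 h) dvd_rfl)
  rw [hn]
  exact ⟨hne, h2 hne⟩

theorem fpf : ∀ u ∈ U, u ≠ 1 → ∀ x ∈ P, u * x = x * u → x = 1 := by
  intro u hu hu1 x hx hux
  by_contra hx1
  obtain ⟨r, hr, hrd⟩ := Nat.exists_prime_and_dvd
    (fun h => hu1 (orderOf_eq_one_iff.1 h) : orderOf u ≠ 1)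
  set z : G := u ^ (orderOf u / r) with hz
  have hzo : orderOf z = r := by
    rw [hz, orderOf_pow_of_dvd ?_ (Nat.div_dvd_of_dvd hrd), Nat.div_div_self hrd (orderOf_pos u).ne']
    exact (Nat.div_pos (Nat.le_of_dvd (orderOf_pos u) hrd) hr.pos).ne'
  have hzU : z ∈ U := pow_mem hu _
  have hzx : z * x = x * z := (Commute.pow_left hux _).eq
  haveI : Fact r.Prime := ⟨hr⟩
  have hrU : r ∣ Nat.card U := hzo ▸ Subgroup.orderOf_dvd_natCard U hzU
  let Z := Subgroup.zpowers z
  have hZU : Z ≤ U := Subgroup.zpowers_le.2 hzU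
  let act : Z →* Function.End P :=
    { toFun := fun a y => ⟨(a : G) * y * (a : G)⁻¹, M.conjU (hZU a.2) y.2⟩
      map_one' := funext fun y => Subtype.ext (by simp; rfl)
      map_mul' := fun a b => funext fun y => Subtype.ext (by
        show _ = (a : G) * ((b : G) * (y : G) * (b : G)⁻¹) * (a : G)⁻¹
        simp [mul_assoc]) }
  letI : MulAction Z P := MulAction.compHom _ act
  have hZp : IsPGroup r Z := IsPGroup.of_card (n := 1) (by rw [Nat.card_zpowers, hzo, pow_one])
  have hmod := hZp.card_modEq_card_fixedPoints P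
  set C := P ⊓ Subgroup.centralizer ({z} : Set G) with hC
  have hfix : Nat.card (MulAction.fixedPoints Z P) = Nat.card C := by
    apply Nat.card_congr
    refine ⟨fun y => ⟨(y.1 : G), y.1.2, ?_⟩, fun y => ⟨⟨y.1, y.2.1⟩, ?_⟩, fun y => rfl, fun y => rfl⟩
    · refine Subgroup.mem_centralizer_singleton_iff.2 ?_
      have e := congrArg Subtype.val (y.2 ⟨z, Subgroup.mem_zpowers z⟩)
      change z * (y.1 : G) * z⁻¹ = (y.1 : G) at e
      rw [mul_inv_eq_iff_eq_mul] at e
      exact e.symm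
    · rintro ⟨a, k, rfl⟩
      apply Subtype.ext
      show z ^ k * y.1 * (z ^ k)⁻¹ = y.1
      have : Commute z y.1 := (Subgroup.mem_centralizer_singleton_iff.1 y.2.2).symm
      rw [(this.zpow_left k).eq]
      group
  rw [hfix, M.cardP] at hmod
  obtain ⟨e, heq, hCe⟩ := (Nat.dvd_prime_pow M.hp).1 (M.cardP ▸ Subgroup.card_dvd_of_le
    (inf_le_left : C ≤ P))
  have he0 : 0 < e := by
    rcases Nat.eq_zero_or_pos e with rfl | h
    · rw [pow_zero, Subgroup.card_eq_one] at hCe
      have : x ∈ C := ⟨hx, Subgroup.mem_centralizer_singleton_iff.2 hzx.symm⟩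
      exact absurd (Subgroup.mem_bot.1 (hCe.le this)) hx1
    · exact h
  have heq' : e < q := by
    rcases lt_or_eq_of_le heq with h | rfl
    · exact h
    · exfalso
      have hCP : C = P := Subgroup.eq_of_le_of_card_ge inf_le_left (by rw [M.cardP, hCe])
      have : z ∈ U ⊓ Subgroup.centralizer (P : Set G) := ⟨hzU, Subgroup.mem_centralizer_iff.2
        fun y hy => Subgroup.mem_centralizer_singleton_iff.1 ((inf_eq_left.1 hCP) hy)⟩
      rw [M.U_faith, Subgroup.mem_bot] at this
      rw [this, orderOf_one] at hzo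
      exact hr.ne_one hzo.symm
  have hrp : ¬ r ∣ p := fun h => hr.ne_one (Nat.eq_one_of_dvd_coprimes M.copP hrU h)
  rw [hCe] at hmod
  have h1 : r ∣ p ^ (q - e) - 1 := by
    have h := (Nat.modEq_iff_dvd' (Nat.pow_le_pow_right M.hp.pos heq)).1 hmod.symm
    rw [show p ^ q - p ^ e = p ^ e * (p ^ (q - e) - 1) by
      rw [Nat.mul_sub, mul_one, ← pow_add]; congr 2; omega] at h
    exact (hr.dvd_mul.1 h).resolve_left fun h' => hrp (hr.dvd_of_dvd_pow h')
  have h2 : r ∣ p ^ q - 1 := hrU.trans (hn ▸ Dvd.intro _ (div_mul_eq M))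
  have h3 : r ∣ p - 1 := by
    have h := Nat.dvd_gcd h1 h2
    rw [Nat.pow_sub_one_gcd_pow_sub_one] at h
    have : Nat.gcd (q - e) q = 1 :=
      Nat.Coprime.symm ((M.hq.coprime_iff_not_dvd).2 fun h' => by
        have := Nat.le_of_dvd (by omega) h'; omega)
    rwa [this, pow_one] at h
  exact hr.ne_one (Nat.eq_one_of_dvd_coprimes (arith M hn).2.1 hrU h3)

theorem inv_U_bot_or_top (H : Subgroup G) (hH : H ≤ P)
    (hU : ∀ u ∈ U, ∀ h ∈ H, u * h * u⁻¹ ∈ H) : H = ⊥ ∨ H = P := by
  by_contra hcon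
  push_neg at hcon
  obtain ⟨hb, ht⟩ := hcon
  obtain ⟨x, hx, hx1⟩ : ∃ x ∈ H, x ≠ (1 : G) := by
    by_contra h; push_neg at h
    exact hb ((Subgroup.eq_bot_iff_forall _).2 h)
  have hinj : Function.Injective (fun u : U => (⟨(u : G) * x * (u : G)⁻¹, hU u u.2 x hx⟩ : H)) := by
    intro a b h
    have h' : (a : G) * x * (a : G)⁻¹ = (b : G) * x * (b : G)⁻¹ := congrArg Subtype.val h
    by_contra hab
    apply hx1
    refine fpf M hn ((b : G)⁻¹ * a) (mul_mem (inv_mem b.2) a.2) ?_ x (hH hx) ?_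
    · rw [Ne, inv_mul_eq_one]; exact fun e => hab (Subtype.ext e.symm)
    · calc (b : G)⁻¹ * a * x = (b : G)⁻¹ * ((a : G) * x * (a : G)⁻¹) * a := by group
        _ = x * ((b : G)⁻¹ * a) := by rw [h']; group
  have h1 := Nat.card_le_card_of_injective _ hinj
  obtain ⟨e, heq, hHe⟩ := (Nat.dvd_prime_pow M.hp).1 (M.cardP ▸ Subgroup.card_dvd_of_le hH)
  have hlt : e < q := by
    rcases lt_or_eq_of_le heq with h | rfl
    · exact h
    · exact absurd (Subgroup.eq_of_le_of_card_ge hH (by rw [M.cardP, hHe])) ht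
  rw [hHe, hn] at h1
  have h2 : p ^ q - 1 ≤ p ^ e * (p - 1) := div_mul_eq M ▸ Nat.mul_le_mul_right _ h1
  have h3 : p ^ e * (p - 1) + p ^ e = p ^ (e + 1) := by
    rw [pow_succ, Nat.mul_sub, mul_one, Nat.sub_add_cancel]
    exact Nat.le_mul_of_pos_right _ M.hp.pos
  have h4 : p ^ (e + 1) ≤ p ^ q := Nat.pow_le_pow_right M.hp.pos hlt
  have h5 : 1 < p ^ e := Nat.one_lt_pow (by
    rintro rfl
    rw [pow_zero, Subgroup.card_eq_one] at hHe
    exact hb hHe) M.hp.one_lt
  omega

theorem isCyclic_and_field {x0 : G} (hx0 : x0 ∈ W2) (hx01 : x0 ≠ 1) :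
    IsCyclic U ∧ ∃ (F : Type) (_ : Field F) (_ : Fintype F) (f : G → F) (ψ : G → F),
      Fintype.card F = p ^ q ∧ Set.BijOn f (P : Set G) Set.univ ∧
      (∀ x ∈ P, ∀ x' ∈ P, f (x * x') = f x + f x') ∧
      (∀ u ∈ U, ψ u ≠ 0 ∧ ∀ x ∈ P, f (u * x * u⁻¹) = ψ u * f x) ∧
      (∀ u ∈ U, ∀ u' ∈ U, ψ (u * u') = ψ u * ψ u') ∧ Set.InjOn ψ (U : Set G) ∧
      ∀ x ∈ P, x ∈ W2 ↔ f x ^ p = f x := by
  classical
  haveI : Fact p.Prime := ⟨M.hp⟩
  set v0 := vec M x0 (M.W2_le hx0) with hv0
  have hker : ∀ r ∈ ring M, ∀ v : Vec M, r v = 0 → r = 0 ∨ v = 0 := by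
    intro r hr v hv
    let H : Subgroup G :=
      { carrier := {x | ∃ hx : x ∈ P, r (vec M x hx) = 0}
        one_mem' := ⟨one_mem _, by rw [show vec M (1 : G) (one_mem P) = 0 from rfl, map_zero]⟩
        mul_mem' := by
          rintro a b ⟨ha, ea⟩ ⟨hb, eb⟩
          refine ⟨mul_mem ha hb, ?_⟩
          rw [show vec M (a * b) (mul_mem ha hb) = vec M a ha + vec M b hb from rfl, map_add, ea,
            eb, add_zero]
        inv_mem' := by
          rintro a ⟨ha, ea⟩
          refine ⟨inv_mem ha, ?_⟩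
          rw [show vec M a⁻¹ (inv_mem ha) = -vec M a ha from rfl, map_neg, ea, neg_zero] }
    rcases inv_U_bot_or_top M hn H (fun x hx => hx.1)
      (by
        rintro a ha b ⟨hb, eb⟩
        refine ⟨M.conjU ha hb, ?_⟩
        rw [show vec M (a * b * a⁻¹) (M.conjU ha hb) = rho M ⟨a, ha⟩ (vec M b hb) from rfl,
          ← Module.End.mul_apply, (ring_ucomm M hr _).eq, Module.End.mul_apply, eb, map_zero])
      with hb | ht
    · right
      have : out M v ∈ H := ⟨out_mem M v, hv⟩
      rw [hb, Subgroup.mem_bot] at this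
      exact out_inj M (this.trans (out_zero M).symm)
    · left
      refine LinearMap.ext fun w => ?_
      obtain ⟨_, e⟩ : out M w ∈ H := ht.symm ▸ out_mem M w
      exact e
  letI : CommRing (ring M) := { (inferInstance : Ring (ring M)) with
    mul_comm := fun a b => Subtype.ext (ucomm_comm M (ring_ucomm M a.2) (ring_ucomm M b.2)) }
  haveI : Finite (Module.End (ZMod p) (Vec M)) :=
    Finite.of_injective (fun f => (f : Vec M → Vec M)) DFunLike.coe_injective
  haveI : Nontrivial (ring M) := ⟨⟨0, 1, fun h => vec0_ne M hx0 hx01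
    ((LinearMap.congr_fun (congrArg Subtype.val h) v0).symm.trans (LinearMap.zero_apply _))⟩⟩
  haveI : NoZeroDivisors (ring M) := ⟨fun {a b} h => by
    by_contra hab
    push_neg at hab
    have hb : (b : Module.End (ZMod p) (Vec M)) v0 ≠ 0 := by
      intro e
      rcases hker _ b.2 _ e with e' | e'
      · exact hab.2 (Subtype.ext e')
      · exact vec0_ne M hx0 hx01 e'
    rcases hker _ a.2 _ (LinearMap.congr_fun (congrArg Subtype.val h) v0) with e' | e'
    · exact hab.1 (Subtype.ext e')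
    · exact hb e'⟩
  haveI : IsDomain (ring M) := NoZeroDivisors.to_isDomain _
  letI : Field (ring M) := (Finite.isField_of_domain (ring M)).toField
  haveI : Fintype (ring M) := Fintype.ofFinite _
  let ev : ring M → Vec M := fun r => (r : Module.End (ZMod p) (Vec M)) v0
  have hev : Function.Bijective ev := by
    constructor
    · intro a b h
      exact Subtype.ext (ext_at M hx0 hx01 (ring_ucomm M a.2) (ring_ucomm M b.2) h)
    · let H : Subgroup G :=
        { carrier := {x | ∃ r : ring M, out M (ev r) = x}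
          one_mem' := ⟨0, rfl⟩
          mul_mem' := by
            rintro a b ⟨r, rfl⟩ ⟨s, rfl⟩
            exact ⟨r + s, rfl⟩
          inv_mem' := by
            rintro a ⟨r, rfl⟩
            exact ⟨-r, rfl⟩ }
      have hP : P ≤ H := M.span hx0 hx01 H
        (by
          rintro a ha b ⟨r, rfl⟩
          exact ⟨⟨rho M ⟨a, ha⟩, Subring.subset_closure ⟨_, rfl⟩⟩ * r, rfl⟩)
        ⟨1, rfl⟩
      intro v
      obtain ⟨r, hr⟩ := hP (out_mem M v)
      exact ⟨r, out_inj M hr⟩
  have hcard : Fintype.card (ring M) = p ^ q := by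
    rw [← Nat.card_eq_fintype_card, Nat.card_eq_of_bijective ev hev,
      show Nat.card (Vec M) = Nat.card P from rfl, M.cardP]
  haveI : CharP (ring M) p := by
    refine (CharP.charP_iff_prime_eq_zero M.hp).2 (Subtype.ext ?_)
    refine LinearMap.ext fun v => ?_
    rw [SubringClass.coe_natCast, ZeroMemClass.coe_zero, LinearMap.zero_apply,
      ← map_natCast (algebraMap (ZMod p) (Module.End (ZMod p) (Vec M))) p, ZMod.natCast_self,
      map_zero, LinearMap.zero_apply]
  haveI : Fintype (GaloisField p q) := Fintype.ofFinite _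
  have hgf : Fintype.card (GaloisField p q) = p ^ q := by
    rw [← Nat.card_eq_fintype_card, GaloisField.card p q M.hq.ne_zero]
  let φ : ring M ≃+* GaloisField p q :=
    FiniteField.ringEquivOfCardEq (K := ring M) (K' := GaloisField p q) (hcard.trans hgf.symm)
  let eq0 := Equiv.ofBijective ev hev
  let f : G → GaloisField p q := fun x =>
    if hx : x ∈ P then φ (eq0.symm (vec M x hx)) else 0
  let ψ : G → GaloisField p q := fun u =>
    if hu : u ∈ U then φ ⟨rho M ⟨u, hu⟩, Subring.subset_closure ⟨_, rfl⟩⟩ else 0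
  have hf : ∀ (r : ring M), f (out M (ev r)) = φ r := by
    intro r
    simp only [f, dif_pos (out_mem M _)]
    exact congrArg φ (eq0.symm_apply_apply r)
  have hsurj : ∀ x ∈ P, ∃ r, out M (ev r) = x := fun x hx => by
    obtain ⟨r, hr⟩ := hev.2 (vec M x hx)
    exact ⟨r, by rw [hr]; rfl⟩
  have hmap : ∀ u (hu : u ∈ U) x, x ∈ P → f (u * x * u⁻¹) = ψ u * f x := by
    intro u hu x hx
    obtain ⟨r, rfl⟩ := hsurj x hx
    rw [show u * out M (ev r) * u⁻¹ = out M (ev (⟨rho M ⟨u, hu⟩, Subring.subset_closure ⟨_, rfl⟩⟩ * r))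
      from rfl, hf, hf, map_mul]
    simp only [ψ, dif_pos hu]
  have hψinj : Set.InjOn ψ (U : Set G) := by
    intro a ha b hb h
    simp only [ψ, dif_pos (show a ∈ U from ha), dif_pos (show b ∈ U from hb)] at h
    exact congrArg Subtype.val (rho_injective M (congrArg Subtype.val (φ.injective h)))
  have hψmul : ∀ u ∈ U, ∀ u' ∈ U, ψ (u * u') = ψ u * ψ u' := by
    intro a ha b hb
    simp only [ψ, dif_pos ha, dif_pos hb, dif_pos (mul_mem ha hb), ← map_mul]
    exact congrArg φ (Subtype.ext (map_mul (rho M) ⟨a, ha⟩ ⟨b, hb⟩))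
  have hψ0 : ∀ u ∈ U, ψ u ≠ 0 := by
    intro u hu h
    have h1 := hψmul u hu u⁻¹ (inv_mem hu)
    rw [h, zero_mul, mul_inv_cancel] at h1
    simp only [ψ, dif_pos (one_mem U)] at h1
    have h2 : (rho M ⟨1, one_mem U⟩ : Module.End (ZMod p) (Vec M)) = 0 :=
      congrArg Subtype.val (φ.injective (h1.trans (map_zero φ).symm))
    rw [show (⟨1, one_mem U⟩ : U) = 1 from rfl, map_one] at h2
    exact vec0_ne M hx0 hx01 ((LinearMap.congr_fun h2 v0).trans (LinearMap.zero_apply _))
  refine ⟨?_, GaloisField p q, inferInstance, inferInstance, f, ψ, hgf, ⟨fun x _ => Set.mem_univ _,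
    ?_, ?_⟩, ?_, fun u hu => ⟨hψ0 u hu, fun x hx => hmap u hu x hx⟩, hψmul, hψinj, ?_⟩
  · let Ψ : U →* GaloisField p q :=
      { toFun := fun u => φ ⟨rho M u, Subring.subset_closure ⟨_, rfl⟩⟩
        map_one' := by
          rw [← map_one φ]
          exact congrArg φ (Subtype.ext (map_one (rho M)))
        map_mul' := fun a b => by
          rw [← map_mul φ]
          exact congrArg φ (Subtype.ext (map_mul (rho M) a b)) }
    exact isCyclic_of_subgroup_isDomain Ψ fun a b h =>
      rho_injective M (congrArg Subtype.val (φ.injective h))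
  · intro a ha b hb h
    obtain ⟨r, rfl⟩ := hsurj a ha
    obtain ⟨s, rfl⟩ := hsurj b hb
    rw [hf, hf] at h
    rw [φ.injective h]
  · intro z _
    exact ⟨out M (ev (φ.symm z)), out_mem M _, by rw [hf, φ.apply_symm_apply]⟩
  · intro a ha b hb
    obtain ⟨r, rfl⟩ := hsurj a ha
    obtain ⟨s, rfl⟩ := hsurj b hb
    rw [show out M (ev r) * out M (ev s) = out M (ev (r + s)) from rfl, hf, hf, hf, map_add]
  · intro x hx
    have hk : ∀ k : ℕ, f (x0 ^ k) = (k : GaloisField p q) := by
      intro k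
      rw [show x0 ^ k = out M (ev (k : ring M)) by
        simp only [ev, SubringClass.coe_natCast, Module.End.natCast_apply]
        rw [← Nat.cast_smul_eq_nsmul (ZMod p), out_natCast_smul]
        rfl, hf, map_natCast]
    have hpow : ∀ y ∈ W2, ∃ k : ℕ, x0 ^ k = y := by
      intro y hy
      have hfin : IsOfFinOrder x0 := isOfFinOrder_of_finite x0
      exact Submonoid.mem_powers_iff _ _ |>.1
        (hfin.mem_powers_iff_mem_zpowers.2 (M.mem_W2_zpowers hx0 hx01 hy))
    constructor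
    · intro hxW
      obtain ⟨k, rfl⟩ := hpow x hxW
      rw [hk, ← frobenius_def, map_natCast]
    · intro hfx
      let R : Finset (GaloisField p q) :=
        ((Polynomial.X ^ p - Polynomial.X : Polynomial (GaloisField p q))).roots.toFinset
      have hXne : (Polynomial.X ^ p - Polynomial.X : Polynomial (GaloisField p q)) ≠ 0 :=
        FiniteField.X_pow_card_sub_X_ne_zero _ M.hp.one_lt
      have hR : ∀ z, z ∈ R ↔ z ^ p = z := by
        intro z
        simp [R, Polynomial.mem_roots hXne, sub_eq_zero]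
      let T : Finset (GaloisField p q) := (Finset.range p).image fun k => f (x0 ^ k)
      have hTR : T ⊆ R := by
        intro z hz
        simp only [T, Finset.mem_image] at hz
        obtain ⟨k, -, rfl⟩ := hz
        rw [hR, hk, ← frobenius_def, map_natCast]
      have hTc : T.card = p := by
        rw [Finset.card_image_of_injOn, Finset.card_range]
        intro a ha b hb h
        simp only [hk] at h
        exact (CharP.natCast_injOn_Iio (GaloisField p q) p) (Finset.mem_range.1 ha)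
          (Finset.mem_range.1 hb) h
      have hRc : R.card ≤ p := (Multiset.toFinset_card_le _).trans
        ((Polynomial.card_roots' _).trans (FiniteField.X_pow_card_sub_X_natDegree_eq _ M.hp.one_lt).le)
      have hxT : f x ∈ T := by
        rw [Finset.eq_of_subset_of_card_le hTR (by omega)]
        exact (hR _).2 hfx
      simp only [T, Finset.mem_image] at hxT
      obtain ⟨k, -, e⟩ := hxT
      obtain ⟨r, rfl⟩ := hsurj x hx
      obtain ⟨s, hs⟩ := hsurj _ (pow_mem (M.W2_le hx0) k)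
      rw [← hs, hf, hf] at e
      rw [← φ.injective e, hs]
      exact pow_mem hx0 k

end Cfsg.Agent.PF14Module54
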