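import Mathlib
import Cfsg.Agent.Lib.PF14Module54
import Cfsg.Agent.Lib.PF13Cols8
import Cfsg.Agent.Lib.OddCharGroup

/-!
Peterfalvi 14, one side of the configuration: the mass of the cyclic TI family on `P` minus the
identity, and the characters induced from linear characters of `P W1`.
-/

set_option autoImplicit false
set_option linter.unusedSectionVars false
set_option linter.style.haveILetI false

open scoped ComplexConjugate

namespace Cfsg.Agent.PF14Side54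

open CharBasic CharBasicOrth CharBasicDecomp CyclicTI PF13Mass8

variable {G : Type*} [Group G] [Fintype G]

/-- One side `S = P U W1` of the configuration. -/
structure Data (S P U W1 W2 : Subgroup G) (p q : ℕ) : Prop where
  M : PF14Module54.Mod P U W1 W2 p q
  hW : Cfsg.IsSelfNormalizingCyclic W1 W2
  oddG : Odd (Nat.card G)
  leP : P ≤ S
  leU : U ≤ S
  leW : W1 ≤ S
  normP : ∀ s ∈ S, ∀ k ∈ P, s * k * s⁻¹ ∈ P
  decomp : ∀ s ∈ S, ∃ x ∈ P, ∃ u ∈ U, ∃ w ∈ W1, s = x * u * w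
  cardS : Nat.card S = p ^ q * Nat.card U * q
  ti : ∀ g k : G, k ∈ P → k ≠ 1 → g * k * g⁻¹ ∈ P → g ∈ S

variable {S P U W1 W2 : Subgroup G} {p q : ℕ}

theorem Data.oddW (D : Data S P U W1 W2 p q) : Odd (Nat.card ↥(W1 ⊔ W2)) :=
  D.oddG.of_dvd_nat (Subgroup.card_subgroup_dvd_card _)

theorem Data.stab (D : Data S P U W1 W2 p q) (φ : ↥P →* ℂˣ) (hne : ∃ b : ↥P, (b : G) ∈ W2 ∧ φ b ≠ 1)
    (hA : ∀ a ∈ W1, ∀ k k' : ↥P, (k' : G) = a * k * a⁻¹ → φ k' = φ k) (s : G) (hs : s ∈ S)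
    (hfix : ∀ k k' : ↥P, (k' : G) = s * k * s⁻¹ → φ k' = φ k) : s ∈ P ⊔ W1 := by
  obtain ⟨x, hx, u, hu, w, hw, rfl⟩ := D.decomp s hs
  obtain ⟨b, hb, hbne⟩ := hne
  have h1 : u = 1 := by
    refine D.M.dual_stab φ (fun a ha k hk => hA a ha ⟨k, hk⟩ ⟨_, D.M.conjW1 ha hk⟩ rfl)
      ⟨b, hb, hbne⟩ hu fun k hk => ?_
    have hk' : w⁻¹ * k * w ∈ P := by simpa using D.M.conjW1 (inv_mem hw) hk
    have e1 := hA w hw ⟨_, hk'⟩ ⟨k, hk⟩ (by group)
    have e2 := hfix ⟨_, hk'⟩ ⟨u * k * u⁻¹, D.M.conjU hu hk⟩ (by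
      show u * k * u⁻¹ = _
      calc u * k * u⁻¹ = x * (u * k * u⁻¹) * x⁻¹ := by
            rw [D.M.mul_comm_P hx (D.M.conjU hu hk)]; group
        _ = _ := by group)
    exact e2.trans e1.symm
  subst h1
  rw [mul_one]
  exact mul_mem (Subgroup.mem_sup_left hx) (Subgroup.mem_sup_right hw)

theorem Data.side (D : Data S P U W1 W2 p q) : PF13Mass8.Side S P W1 W2 q where
  ab _ hx _ hy := D.M.mul_comm_P hx hy
  le := D.leP
  conjK := D.normP
  ti := D.ti
  hq := D.M.hq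
  cardA := D.M.cardW1
  leA := D.leW
  cop := by
    rw [D.M.cardP]
    exact ((Nat.coprime_primes D.M.hq D.M.hp).2 (Ne.symm D.M.p_ne_q)).pow_right q
  leB := D.M.W2_le
  commAB a ha b hb := D.M.comm_W2 ha hb
  fix k hk h := by
    rw [← D.M.centW1]
    exact ⟨hk, Subgroup.mem_centralizer_iff.2 h⟩
  stab := D.stab

theorem three_le_of_odd_prime {r : ℕ} (hr : r.Prime) (h : Odd r) : 3 ≤ r := by
  have := hr.two_le
  obtain ⟨k, rfl⟩ := h
  omega

theorem Data.ctx (D : Data S P U W1 W2 p q) {χ : (↥(W1 ⊔ W2) →* ℂˣ) → (G → ℂ)}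
    (hχ : Cfsg.IsCyclicTIFamily W1 W2 χ) : PF13Cols8.Ctx W1 W2 S P p q χ where
  hW := D.hW
  hodd := D.oddW
  fam := hχ
  hp := D.M.hp
  hp3 := three_le_of_odd_prime D.M.hp D.M.p_odd
  hq3 := three_le_of_odd_prime D.M.hq D.M.q_odd
  hpq := D.M.p_ne_q
  cW₁ := D.M.cardW1
  cW₂ := D.M.cardW2
  side := D.side

theorem Data.inf_W1 (D : Data S P U W1 W2 p q) : P ⊓ W1 = ⊥ :=
  disjoint_iff.1 (Subgroup.disjoint_of_coprime_natCard (D.side.cardA.symm ▸ D.side.cop.symm))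

theorem Data.normal_form (D : Data S P U W1 W2 p q) (b : ↥(P ⊔ W1)) :
    ∃ x ∈ P, ∃ w ∈ W1, (b : G) = x * w := by
  have h : (b : G) ∈ ((P ⊔ W1 : Subgroup G) : Set G) := b.2
  rw [Subgroup.coe_mul_of_right_le_normalizer_left P W1 D.M.W1normP] at h
  obtain ⟨x, hx, w, hw, e⟩ := h
  exact ⟨x, hx, w, hw, e.symm⟩

theorem Data.normal_form_unique (D : Data S P U W1 W2 p q) {x x' w w' : G} (hx : x ∈ P) (hx' : x' ∈ P)
    (hw : w ∈ W1) (hw' : w' ∈ W1) (e : x * w = x' * w') : x = x' ∧ w = w' := by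
  have h : x'⁻¹ * x = w' * w⁻¹ := by
    calc x'⁻¹ * x = x'⁻¹ * (x * w) * w⁻¹ := by group
      _ = w' * w⁻¹ := by rw [e]; group
  have h2 : x'⁻¹ * x ∈ W1 := h ▸ mul_mem hw' (inv_mem hw)
  have h1 : x'⁻¹ * x ∈ P ⊓ W1 := Subgroup.mem_inf.2 ⟨mul_mem (inv_mem hx') hx, h2⟩
  rw [D.inf_W1, Subgroup.mem_bot, inv_mul_eq_one] at h1
  subst h1
  exact ⟨rfl, mul_left_cancel e⟩

theorem Data.mem_P_of_pow (D : Data S P U W1 W2 p q) {b : G} (hb : b ∈ P ⊔ W1) {m : ℕ}
    (hm : q.Coprime m) (h : b ^ m = 1) : b ∈ P := by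
  obtain ⟨x, hx, w, hw, e⟩ := D.normal_form ⟨b, hb⟩
  have key : ∀ k : ℕ, ∃ y ∈ P, b ^ k = y * w ^ k := by
    intro k
    induction k with
    | zero => exact ⟨1, one_mem _, by simp⟩
    | succ k ih =>
      obtain ⟨y, hy, ey⟩ := ih
      refine ⟨y * (w ^ k * x * (w ^ k)⁻¹), mul_mem hy (D.M.conjW1 (pow_mem hw k) hx), ?_⟩
      rw [pow_succ, ey, show b = x * w from e, pow_succ]
      group
  obtain ⟨y, hy, ey⟩ := key m
  rw [h] at ey
  have hwm : w ^ m = 1 := (D.normal_form_unique (one_mem P) hy (one_mem W1) (pow_mem hw m)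
    (by rw [one_mul]; exact ey)).2.symm
  have hw1 : w = 1 := orderOf_eq_one_iff.1 (Nat.eq_one_of_dvd_coprimes hm
    (D.M.cardW1 ▸ Subgroup.orderOf_dvd_natCard W1 hw) (orderOf_dvd_of_pow_eq_one hwm))
  rw [show b = x * w from e, hw1, mul_one]
  exact hx

/-! ## Fixed characters -/

/-- A character of `P` fixed by `W1`. -/
def Fixed (P W1 : Subgroup G) (a : ↥P →* ℂˣ) : Prop :=
  ∀ w ∈ W1, ∀ k k' : ↥P, (k' : G) = w * k * w⁻¹ → a k' = a k

theorem fixed_one : Fixed P W1 1 := fun _ _ _ _ _ => rfl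

theorem Fixed.inv {a : ↥P →* ℂˣ} (ha : Fixed P W1 a) : Fixed P W1 a⁻¹ := fun w hw k k' e => by
  simp only [MonoidHom.inv_apply, ha w hw k k' e]

theorem Fixed.act_eq (D : Data S P U W1 W2 p q) {a : ↥P →* ℂˣ} (ha : Fixed P W1 a) :
    ∀ s : ↥S, (s : G) ∈ W1 → act D.side s a = a := by
  intro s hs
  refine MonoidHom.ext fun k => ?_
  rw [act_apply]
  exact ha _ (inv_mem hs) k _ (by rw [conjAut_coe]; simp)

theorem fixed_of_act (D : Data S P U W1 W2 p q) {a : ↥P →* ℂˣ}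
    (h : ∀ s : ↥S, (s : G) ∈ W1 → act D.side s a = a) : Fixed P W1 a := by
  intro w hw k k' e
  have := DFunLike.congr_fun (h ⟨w⁻¹, D.leW (inv_mem hw)⟩ (inv_mem hw)) k
  rw [act_apply] at this
  rw [← this]
  congr 1
  refine Subtype.ext ?_
  rw [conjAut_coe, e]
  simp

/-- The fixed character above a linear character of `W`. -/
theorem Data.exists_fixed (D : Data S P U W1 W2 p q) (ω : ↥(W1 ⊔ W2) →* ℂˣ) :
    ∃ a : ↥P →* ℂˣ, Fixed P W1 a ∧
      ∀ w : ↥(W1 ⊔ W2), ∀ hw : (w : G) ∈ W2, a ⟨w, D.M.W2_le hw⟩ = ω w := by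
  obtain ⟨a, h1, h2⟩ := PF13Mass8.exists_ext D.side (ω.comp (Subgroup.inclusion le_sup_right))
  exact ⟨a, fixed_of_act D h1, fun w hw => h2 ⟨w, hw⟩⟩

theorem Data.fixed_eq (D : Data S P U W1 W2 p q) {a b : ↥P →* ℂˣ} (ha : Fixed P W1 a)
    (hb : Fixed P W1 b) (h : ∀ x, ∀ hx : x ∈ W2, a ⟨x, D.M.W2_le hx⟩ = b ⟨x, D.M.W2_le hx⟩) : a = b :=
  PF13Mass8.fixed_unique D.side (ha.act_eq D) (hb.act_eq D) fun x => h x x.2

theorem Data.nontriv (D : Data S P U W1 W2 p q) {a : ↥P →* ℂˣ} (ha : Fixed P W1 a) (h1 : a ≠ 1) :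
    ∃ b : ↥P, (b : G) ∈ W2 ∧ a b ≠ 1 := by
  by_contra h
  push Not at h
  exact h1 (D.fixed_eq ha fixed_one fun x hx => h ⟨x, D.M.W2_le hx⟩ hx)

/-- The translate of a character by an element of `U`. -/
def tr (D : Data S P U W1 W2 p q) (v : ↥U) (a : ↥P →* ℂˣ) : ↥P →* ℂˣ :=
  act D.side ⟨v, D.leU v.2⟩ a

theorem tr_apply (D : Data S P U W1 W2 p q) (v : ↥U) (a : ↥P →* ℂˣ) (k : ↥P) (h : (v : G)⁻¹ * k * v ∈ P) :
    tr D v a k = a ⟨(v : G)⁻¹ * k * v, h⟩ := by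
  rw [tr, act_apply]
  congr 1
  refine Subtype.ext ?_
  rw [conjAut_coe]
  simp

/-- Translates of fixed characters are distinct. -/
theorem Data.tr_eq (D : Data S P U W1 W2 p q) {a b : ↥P →* ℂˣ} (ha : Fixed P W1 a) (hb : Fixed P W1 b)
    {v : ↥U} (h : tr D v a = b) : a = b ∧ (a ≠ 1 → v = 1) := by
  classical
  by_cases h1 : a = 1
  · subst h1
    refine ⟨?_, fun h => absurd rfl h⟩
    rw [← h]
    exact MonoidHom.ext fun k => rfl
  suffices hv : v = 1 by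
    subst hv
    refine ⟨?_, fun _ => rfl⟩
    rw [← h]
    refine MonoidHom.ext fun k => ?_
    rw [tr_apply D 1 a k (by simp)]
    congr 1
    exact Subtype.ext (by simp)
  obtain ⟨w, hw, hw1⟩ := D.M.exists_W1
  obtain ⟨c, hc, hcne⟩ := D.nontriv ha h1
  letI := charAction D.side
  let σ : ↥S := ⟨v, D.leU v.2⟩
  let τ : ↥S := ⟨w, D.leW hw⟩
  have e1 : σ • a = b := h
  have e2 : τ • a = a := ha.act_eq D τ hw
  have e3 : τ • b = b := hb.act_eq D τ hw
  have e4 : (τ⁻¹ * σ⁻¹ * τ * σ) • a = a := by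
    rw [mul_smul, mul_smul, mul_smul, e1, e3, ← e1, inv_smul_smul, inv_smul_eq_iff, e2]
  have hm : w⁻¹ * (v : G)⁻¹ * w * v ∈ U := by
    refine mul_mem ?_ v.2
    simpa using D.M.conjW1U (inv_mem hw) (inv_mem v.2)
  have hv' : w⁻¹ * (v : G)⁻¹ * w * v = 1 := by
    refine D.M.dual_stab a (fun z hz k hk => ha z hz ⟨k, hk⟩ ⟨_, D.M.conjW1 hz hk⟩ rfl) ⟨c, hc, hcne⟩
      hm fun k hk => ?_
    have := DFunLike.congr_fun e4
      (⟨_, D.M.conjU hm hk⟩ : ↥P)
    rw [show ((τ⁻¹ * σ⁻¹ * τ * σ) • a) = act D.side (τ⁻¹ * σ⁻¹ * τ * σ) a from rfl, act_apply] at this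
    rw [← this]
    congr 1
    refine Subtype.ext ?_
    rw [conjAut_coe]
    simp [σ, τ]
    group
  apply Subtype.ext
  refine D.M.U_fix w hw hw1 v v.2 ?_
  calc w * v = (v : G) * w * (w⁻¹ * (v : G)⁻¹ * w * v) := by group
    _ = v * w := by rw [hv', mul_one]

theorem Data.card_B (D : Data S P U W1 W2 p q) : Nat.card ↥(P ⊔ W1) = p ^ q * q := by
  classical
  rw [← D.M.cardP, ← D.side.cardA, ← Nat.card_prod]
  symm
  refine Nat.card_congr (Equiv.ofBijective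
    (fun z : ↥P × ↥W1 => (⟨z.1 * z.2, mul_mem (Subgroup.mem_sup_left z.1.2) (Subgroup.mem_sup_right z.2.2)⟩
      : ↥(P ⊔ W1))) ⟨fun z z' h => ?_, fun b => ?_⟩)
  · obtain ⟨e1, e2⟩ := D.normal_form_unique z.1.2 z'.1.2 z.2.2 z'.2.2 (congrArg Subtype.val h)
    exact Prod.ext (Subtype.ext e1) (Subtype.ext e2)
  · obtain ⟨x, hx, w, hw, e⟩ := D.normal_form b
    exact ⟨(⟨x, hx⟩, ⟨w, hw⟩), Subtype.ext e.symm⟩

theorem Data.relIndex_B (D : Data S P U W1 W2 p q) : (P ⊔ W1).relIndex S = Nat.card U := by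
  have h := Subgroup.card_mul_index ((P ⊔ W1).subgroupOf S)
  rw [Nat.card_congr (Subgroup.subgroupOfEquivOfLe (sup_le D.leP D.leW)).toEquiv, D.card_B, D.cardS] at h
  exact Nat.eq_of_mul_eq_mul_left (Nat.mul_pos (pow_pos D.M.hp.pos q) D.M.hq.pos)
    (h.trans (by ring))

/-! ## The mass of the family -/

theorem mass (D : Data S P U W1 W2 p q) {χ : (↥(W1 ⊔ W2) →* ℂˣ) → (G → ℂ)}
    (hχ : Cfsg.IsCyclicTIFamily W1 W2 χ) (ω : ↥(W1 ⊔ W2) →* ℂˣ)
    (hω : ∃ w : ↥(W1 ⊔ W2), (w : G) ∈ W2 ∧ ω w ≠ 1) (s : ℝ) (hs : s = 1 ∨ s = -1)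
    [Fintype ↥P] [DecidableEq ↥P] :
    (Nat.card U : ℝ) * ((p : ℝ) ^ q - 1 - Nat.card U) ≤
      ∑ k ∈ (Finset.univ : Finset ↥P).erase 1, (‖χ ω k‖ ^ 2 + s * (χ ω k).re) := by
  classical
  haveI := CyclicTI.hom_fintype ↥P
  haveI : Fintype (↥P →* ℂˣ) := Fintype.ofFinite _
  haveI := CyclicTI.hom_fintype ↥W2
  haveI : Fintype (↥W2 →* ℂˣ) := Fintype.ofFinite _
  have h := D.side
  have C := D.ctx hχ
  have hgen := PF13Cols8.gen C ω
  have hcf := isClassFunction_of_isGeneralizedCharacter hgen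
  choose c hc using coef_int h hgen
  set ψ₀ : ↥W2 →* ℂˣ := ω.comp (Subgroup.inclusion le_sup_right) with hψ₀
  have hψ₀1 : ψ₀ ≠ 1 := by
    obtain ⟨w, hw, hne⟩ := hω
    intro e
    exact hne (DFunLike.congr_fun e ⟨w, hw⟩)
  have hcard : 3 ≤ Fintype.card (↥W2 →* ℂˣ) := by
    rw [← Nat.card_eq_fintype_card,
      CyclicTIFamily.card_dual fun x y => Subtype.ext (h.ab x (h.leB x.2) y (h.leB y.2)), D.M.cardW2]
    exact three_le_of_odd_prime D.M.hp D.M.p_odd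
  obtain ⟨ψ₁, hψ10, hψ11⟩ : ∃ ψ₁ : ↥W2 →* ℂˣ, ψ₁ ≠ ψ₀ ∧ ψ₁ ≠ 1 := by
    by_contra hn
    push Not at hn
    have : (Finset.univ : Finset (↥W2 →* ℂˣ)) ⊆ {ψ₀, 1} := fun θ _ => by
      simp only [Finset.mem_insert, Finset.mem_singleton]
      exact or_iff_not_imp_left.2 (hn θ)
    have := (Finset.card_le_card this).trans Finset.card_le_two
    rw [Finset.card_univ] at this
    omega
  obtain ⟨φ₀, f₀, e₀⟩ := exists_ext h ψ₀
  obtain ⟨φ₁, f₁, e₁⟩ := exists_ext h ψ₁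
  have hne := coef_gap h hgen ψ₀ (PF13Cols8.congr_B C ω) hψ10 f₀ f₁ e₀ e₁
  rw [hc, hc, Ne, Int.cast_inj, ← Ne] at hne
  have hnt : ∀ {ψ : ↥W2 →* ℂˣ} {φ : ↥P →* ℂˣ}, (∀ b : ↥W2, φ (Subgroup.inclusion h.leB b) = ψ b) →
      ψ ≠ 1 → ∃ b : ↥P, (b : G) ∈ W2 ∧ φ b ≠ 1 := by
    intro ψ φ e hψ
    by_contra hn
    push Not at hn
    exact hψ (MonoidHom.ext fun b => by rw [← e b, hn _ b.2]; rfl)
  letI := charAction h
  have hconst : ∀ θ, ∀ i ∈ (MulAction.orbit ↥S θ).toFinset, c i = c θ ∧ (θ ≠ 1 → i ≠ 1) := by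
    intro θ i hi
    rw [Set.mem_toFinset, MulAction.mem_orbit_iff] at hi
    obtain ⟨z, rfl⟩ := hi
    constructor
    · have := (hc (z • θ)).symm.trans ((coef_act h hcf z θ).trans (hc θ))
      exact_mod_cast this
    · intro hθ hz
      apply hθ
      rw [← inv_smul_smul z θ, hz]
      exact MonoidHom.ext fun k => rfl
  set O₀ := (MulAction.orbit ↥S φ₀).toFinset with hO₀
  set O₁ := (MulAction.orbit ↥S φ₁).toFinset with hO₁
  have hφ₀1 : φ₀ ≠ 1 := fun e => by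
    obtain ⟨b, -, hb⟩ := hnt e₀ hψ₀1; exact hb (by rw [e]; rfl)
  have hφ₁1 : φ₁ ≠ 1 := fun e => by
    obtain ⟨b, -, hb⟩ := hnt e₁ hψ11; exact hb (by rw [e]; rfl)
  set A : Finset {φ : ↥P →* ℂˣ // φ ≠ 1} := O₀.subtype _ with hA
  set B : Finset {φ : ↥P →* ℂˣ // φ ≠ 1} := O₁.subtype _ with hB
  have hAc : A.card = Nat.card U := by
    rw [hA, Finset.card_subtype, Finset.filter_true_of_mem fun i hi => (hconst φ₀ i hi).2 hφ₀1,
      Set.toFinset_card, ← Nat.card_eq_fintype_card, card_orbit_fixed h f₀ (hnt e₀ hψ₀1), D.relIndex_B]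
  have hBc : B.card = Nat.card U := by
    rw [hB, Finset.card_subtype, Finset.filter_true_of_mem fun i hi => (hconst φ₁ i hi).2 hφ₁1,
      Set.toFinset_card, ← Nat.card_eq_fintype_card, card_orbit_fixed h f₁ (hnt e₁ hψ11), D.relIndex_B]
  have hd : Disjoint A B := Finset.disjoint_left.2 fun i hi hi' => hne <| by
    rw [hA, Finset.mem_subtype] at hi
    rw [hB, Finset.mem_subtype] at hi'
    exact (hconst φ₀ _ hi).1.symm.trans (hconst φ₁ _ hi').1
  have hv := variance_bound (fun i : {φ : ↥P →* ℂˣ // φ ≠ 1} => c i.1) A B hd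
    (fun i hi => (hconst φ₀ _ (by rwa [hA, Finset.mem_subtype] at hi)).1)
    (fun i hi => (hconst φ₁ _ (by rwa [hB, Finset.mem_subtype] at hi)).1) hne (by rw [hAc, hBc])
  rw [hAc] at hv
  have hcardι : (Fintype.card {φ : ↥P →* ℂˣ // φ ≠ 1} : ℤ) = (p : ℤ) ^ q - 1 := by
    rw [Fintype.card_subtype_compl, Fintype.card_subtype_eq, card_chars h, D.M.cardP,
      Nat.cast_sub (Nat.one_le_pow _ _ D.M.hp.pos)]
    push_cast; ring
  rw [hcardι] at hv
  set S1 : ℤ := ∑ i : {φ : ↥P →* ℂˣ // φ ≠ 1}, c i.1 with hS1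
  set S2 : ℤ := ∑ i : {φ : ↥P →* ℂˣ // φ ≠ 1}, c i.1 ^ 2 with hS2
  have hsplit : ∀ F : (↥P →* ℂˣ) → ℤ, ∑ φ, F φ = F 1 + ∑ i : {φ : ↥P →* ℂˣ // φ ≠ 1}, F i.1 := by
    intro F
    rw [← Finset.add_sum_erase _ _ (Finset.mem_univ (1 : ↥P →* ℂˣ))]
    congr 1
    exact Finset.sum_subtype _ (fun x => by simp) _
  have hN : (Nat.card P : ℝ) = (p : ℝ) ^ q := by rw [D.M.cardP]; push_cast; ring
  have h1 : χ ω ((1 : ↥P) : G) = ((c 1 + S1 : ℤ) : ℂ) := by
    rw [expand h (χ ω) 1, hS1, ← hsplit c]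
    push_cast
    simp [hc]
  have hsum : ∑ k : ↥P, χ ω k = (((p : ℤ) ^ q * c 1 : ℤ) : ℂ) := by
    have e := hc 1
    rw [coef_eq] at e
    simp only [Cfsg.classInner] at e
    rw [show (∑ k : ↥P, χ ω k) = (Nat.card P : ℂ) * ((Nat.card P : ℂ)⁻¹ *
        ∑ g : ↥P, χ ω g * conj (((1 : ↥P →* ℂˣ) g : ℂˣ) : ℂ)) by
      rw [← mul_assoc, mul_inv_cancel₀ (Nat.cast_ne_zero.2 Nat.card_pos.ne'), one_mul]; simp, e, D.M.cardP]
    push_cast; ring
  have hp2 := parseval h (χ ω) c hc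
  rw [hN, show (∑ φ, (c φ : ℝ) ^ 2) = ((∑ φ, c φ ^ 2 : ℤ) : ℝ) by push_cast; rfl,
    hsplit (fun φ => c φ ^ 2)] at hp2
  have hre : ∑ k : ↥P, (χ ω k).re = (p : ℝ) ^ q * (c 1 : ℝ) := by
    rw [← Complex.re_sum, hsum, Complex.intCast_re]; push_cast; ring
  rw [Finset.sum_add_distrib, ← Finset.mul_sum,
    eq_sub_of_add_eq' (Finset.add_sum_erase Finset.univ (fun k : ↥P => ‖χ ω k‖ ^ 2) (Finset.mem_univ 1)),
    eq_sub_of_add_eq' (Finset.add_sum_erase Finset.univ (fun k : ↥P => (χ ω k).re) (Finset.mem_univ 1)),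
    ← hp2, hre, h1, Complex.intCast_re, Complex.norm_intCast, sq_abs]
  have hQ : ∀ σ : ℤ, (σ = 1 ∨ σ = -1) →
      0 ≤ S2 - 2 * c 1 * S1 + ((p : ℤ) ^ q - 1) * c 1 ^ 2 - σ * (S1 - ((p : ℤ) ^ q - 1) * c 1) := by
    intro σ hσ
    rw [← hcardι, hS1, hS2, ← Finset.card_univ, Finset.mul_sum, ← Finset.sum_sub_distrib,
      ← nsmul_eq_mul, ← Finset.sum_const, ← Finset.sum_add_distrib, mul_sub, Finset.mul_sum,
      ← nsmul_eq_mul, ← Finset.sum_const, Finset.mul_sum, ← Finset.sum_sub_distrib,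
      ← Finset.sum_sub_distrib]
    refine Finset.sum_nonneg fun i _ => ?_
    have : 0 ≤ (c i.1 - c 1) ^ 2 - σ * (c i.1 - c 1) := by
      rcases eq_or_ne (c i.1 - c 1) 0 with e | e
      · rw [e]; simp
      · have h1 : 1 ≤ |c i.1 - c 1| := Int.one_le_abs e
        have h2 : σ * (c i.1 - c 1) ≤ |c i.1 - c 1| := by
          rcases hσ with rfl | rfl
          · simpa using le_abs_self (c i.1 - c 1)
          · simpa using neg_abs_le (c i.1 - c 1) |> fun h => by linarith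
        nlinarith [sq_abs (c i.1 - c 1)]
    linarith
  obtain ⟨σ, hσ, rfl⟩ : ∃ σ : ℤ, (σ = 1 ∨ σ = -1) ∧ s = (σ : ℝ) := by
    rcases hs with rfl | rfl
    · exact ⟨1, Or.inl rfl, by norm_num⟩
    · exact ⟨-1, Or.inr rfl, by norm_num⟩
  have key : (Nat.card U : ℤ) * ((p : ℤ) ^ q - 1 - Nat.card U) ≤
      (p : ℤ) ^ q * (c 1 ^ 2 + S2) - (c 1 + S1) ^ 2 + σ * ((p : ℤ) ^ q * c 1 - (c 1 + S1)) := by
    linarith [hQ σ hσ]
  exact_mod_cast key

/-! ## Induction from `P W1` -/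

/-- The extension to `P W1`, trivial on `W1`. -/
noncomputable def lam (D : Data S P U W1 W2 p q) {a : ↥P →* ℂˣ} (ha : Fixed P W1 a) : ↥(P ⊔ W1) →* ℂˣ :=
  MonoidHom.mk' (fun b => a ⟨(D.normal_form b).choose, (D.normal_form b).choose_spec.1⟩) (by
    intro b b'
    obtain ⟨hx, w, hw, e⟩ := (D.normal_form b).choose_spec
    obtain ⟨hx', w', hw', e'⟩ := (D.normal_form b').choose_spec
    obtain ⟨hz, v, hv, ez⟩ := (D.normal_form (b * b')).choose_spec
    have h : (D.normal_form (b * b')).choose =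
        (D.normal_form b).choose * (w * (D.normal_form b').choose * w⁻¹) :=
      (D.normal_form_unique hz (mul_mem hx (D.M.conjW1 hw hx')) hv (mul_mem hw hw') (by
        rw [← ez, Subgroup.coe_mul]
        conv_lhs => rw [e, e']
        group)).1
    rw [← ha w hw ⟨_, hx'⟩ ⟨_, D.M.conjW1 hw hx'⟩ rfl, ← map_mul]
    exact congrArg a (Subtype.ext h))

theorem lam_apply (D : Data S P U W1 W2 p q) {a : ↥P →* ℂˣ} (ha : Fixed P W1 a) (b : ↥(P ⊔ W1)) (x : ↥P)
    {w : G} (hw : w ∈ W1) (e : (b : G) = x * w) : lam D ha b = a x := by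
  obtain ⟨hx, w', hw', e'⟩ := (D.normal_form b).choose_spec
  show a _ = a x
  exact congrArg a (Subtype.ext (D.normal_form_unique hx x.2 hw' hw (e'.symm.trans e)).1)

theorem lam_inj (D : Data S P U W1 W2 p q) {a b : ↥P →* ℂˣ} (ha : Fixed P W1 a) (hb : Fixed P W1 b)
    (h : lam D ha = lam D hb) : a = b := by
  refine MonoidHom.ext fun x => ?_
  rw [← lam_apply D ha ⟨x, Subgroup.mem_sup_left x.2⟩ x (one_mem W1) (mul_one _).symm,
    ← lam_apply D hb ⟨x, Subgroup.mem_sup_left x.2⟩ x (one_mem W1) (mul_one _).symm, h]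

/-- The difference on `P W1`. -/
noncomputable def alpha (D : Data S P U W1 W2 p q) {a b : ↥P →* ℂˣ} (ha : Fixed P W1 a) (hb : Fixed P W1 b) :
    ↥(P ⊔ W1) → ℂ := fun z => (lam D ha z : ℂ) - (lam D hb z : ℂ)

/-- The difference induced to `G`. -/
noncomputable def diff (D : Data S P U W1 W2 p q) {a b : ↥P →* ℂˣ} (ha : Fixed P W1 a) (hb : Fixed P W1 b) :
    G → ℂ := Cfsg.indFun (P ⊔ W1) (alpha D ha hb)

theorem diff_gen (D : Data S P U W1 W2 p q) {a b : ↥P →* ℂˣ} (ha : Fixed P W1 a) (hb : Fixed P W1 b) :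
    Cfsg.IsGeneralizedCharacter G (diff D ha hb) :=
  CharInduced.isGenChar_ind _ (isGeneralizedCharacter_sub
    (isGeneralizedCharacter_of_isCharacter (isCharacter_linear (lam D ha)))
    (isGeneralizedCharacter_of_isCharacter (isCharacter_linear (lam D hb))))

theorem alpha_class (D : Data S P U W1 W2 p q) {a b : ↥P →* ℂˣ} (ha : Fixed P W1 a) (hb : Fixed P W1 b) :
    Cfsg.IsClassFunction ↥(P ⊔ W1) (alpha D ha hb) := fun x y => by
  simp only [alpha, map_mul, map_inv]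
  rw [mul_comm (lam D ha y), mul_inv_cancel_right, mul_comm (lam D hb y), mul_inv_cancel_right]

theorem mem_P_of_conj_order (D : Data S P U W1 W2 p q) {k : G} (hk : k ∈ P) (hk1 : k ≠ 1) {x : G}
    (hx : x⁻¹ * k * x ∈ P ⊔ W1) : x ∈ S := by
  have hp : x⁻¹ * k * x ∈ P := by
    refine D.mem_P_of_pow (m := Nat.card P) hx D.side.cop ?_
    have := congrArg (fun z => x⁻¹ * z * x) (orderOf_dvd_iff_pow_eq_one.1 (Subgroup.orderOf_dvd_natCard P hk))
    rw [show x⁻¹ * k * x = x⁻¹ * k * (x⁻¹)⁻¹ by rw [inv_inv], conj_pow, inv_inv]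
    simpa using this
  exact inv_mem_iff.1 (D.ti x⁻¹ k hk hk1 (by rwa [inv_inv]))

open Classical in
theorem sum_decomp (D : Data S P U W1 W2 p q) [Fintype ↥U] (F : G → ℂ)
    (hF : ∀ x ∈ P, ∀ u ∈ U, ∀ w ∈ W1, F (x * u * w) = F u) :
    ∑ x ∈ Finset.univ.filter (fun x : G => x ∈ S), F x =
      ((p ^ q * q : ℕ) : ℂ) * ∑ u : ↥U, F u := by
  haveI : Fintype ↥P := Fintype.ofFinite _
  haveI : Fintype ↥W1 := Fintype.ofFinite _
  let f : ↥P × ↥U × ↥W1 → ↥S := fun z =>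
    ⟨z.1 * z.2.1 * z.2.2, mul_mem (mul_mem (D.leP z.1.2) (D.leU z.2.1.2)) (D.leW z.2.2.2)⟩
  have hf : Function.Bijective f := by
    refine (Nat.bijective_iff_surjective_and_card f).2 ⟨fun s => ?_, ?_⟩
    · obtain ⟨x, hx, u, hu, w, hw, e⟩ := D.decomp s s.2
      exact ⟨(⟨x, hx⟩, ⟨u, hu⟩, ⟨w, hw⟩), Subtype.ext e.symm⟩
    · rw [Nat.card_prod, Nat.card_prod, D.M.cardP, D.M.cardW1, D.cardS, mul_assoc]
  rw [Finset.sum_subtype (p := fun x : G => x ∈ S) _ (fun x => by simp) _,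
    ← Fintype.sum_bijective f hf (fun z => F (z.1 * z.2.1 * z.2.2)) _ (fun z => rfl),
    Fintype.sum_prod_type, Finset.sum_congr rfl fun x _ => by
      rw [Fintype.sum_prod_type, Finset.sum_congr rfl fun (u : ↥U) _ => by
        rw [Finset.sum_congr rfl fun (w : ↥W1) _ => hF x x.2 u u.2 w w.2, Finset.sum_const]],
    Finset.sum_const, ← Finset.smul_sum, smul_smul, Finset.card_univ, Finset.card_univ,
    ← Nat.card_eq_fintype_card, ← Nat.card_eq_fintype_card, D.M.cardP, D.M.cardW1, nsmul_eq_mul]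

/-- The values on `P`. -/
theorem diff_P (D : Data S P U W1 W2 p q) [Fintype ↥U] {a b : ↥P →* ℂˣ} (ha : Fixed P W1 a)
    (hb : Fixed P W1 b) (k : ↥P) :
    diff D ha hb k = ∑ u : ↥U, ((tr D u a k : ℂ) - (tr D u b k : ℂ)) := by
  classical
  by_cases hk : k = 1
  · subst hk
    rw [diff, Subgroup.coe_one, CharInduced.ind_one_apply]
    simp [alpha]
  have hzero : ∀ x : G, x ∉ S →
      Cfsg.extendByZero (P ⊔ W1) (alpha D ha hb) (x⁻¹ * k * x) = 0 := fun x hx =>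
    CharInduced.ext_zero_of_not_mem _ fun h =>
      hx (mem_P_of_conj_order D k.2 (fun e => hk (Subtype.ext e)) h)
  set F : G → ℂ := fun x => Cfsg.extendByZero (P ⊔ W1) (alpha D ha hb) (x⁻¹ * k * x) with hFdef
  have hval : ∀ x ∈ P, ∀ u, ∀ hu : u ∈ U, ∀ w ∈ W1,
      F (x * u * w) = (tr D ⟨u, hu⟩ a k : ℂ) - (tr D ⟨u, hu⟩ b k : ℂ) := by
    intro x hx u hu w hw
    have h1 : u⁻¹ * k * u ∈ P := by simpa using D.M.conjU (inv_mem hu) k.2
    have h2 : w⁻¹ * (u⁻¹ * k * u) * w ∈ P := by simpa using D.M.conjW1 (inv_mem hw) h1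
    have e : (x * u * w)⁻¹ * k * (x * u * w) = w⁻¹ * (u⁻¹ * k * u) * w := by
      calc (x * u * w)⁻¹ * k * (x * u * w) = w⁻¹ * u⁻¹ * (x⁻¹ * ((k : G) * x)) * u * w := by group
        _ = w⁻¹ * u⁻¹ * (x⁻¹ * (x * k)) * u * w := by rw [D.M.mul_comm_P k.2 hx]
        _ = _ := by group
    simp only [hFdef, e]
    rw [CharInduced.ext_zero_of_mem _ (Subgroup.mem_sup_left h2)]
    simp only [alpha]
    rw [lam_apply D ha _ ⟨_, h2⟩ (one_mem W1) (mul_one _).symm,
      lam_apply D hb _ ⟨_, h2⟩ (one_mem W1) (mul_one _).symm,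
      tr_apply D ⟨u, hu⟩ a k h1, tr_apply D ⟨u, hu⟩ b k h1,
      ha w hw ⟨_, h2⟩ ⟨_, h1⟩ (by group), hb w hw ⟨_, h2⟩ ⟨_, h1⟩ (by group)]
  rw [diff, CharInduced.indFun_apply, ← Finset.sum_subset
      (Finset.subset_univ (Finset.univ.filter fun x : G => x ∈ S))
      (fun x _ hx => hzero x (by simpa using hx)),
    sum_decomp D F (fun x hx u hu w hw => by
      rw [hval x hx u hu w hw, ← hval 1 (one_mem P) u hu 1 (one_mem W1)]; simp),
    D.card_B, ← mul_assoc, inv_mul_cancel₀ (Nat.cast_ne_zero.2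
      (Nat.mul_pos (pow_pos D.M.hp.pos q) D.M.hq.pos).ne'), one_mul]
  refine Finset.sum_congr rfl fun u _ => ?_
  rw [← hval 1 (one_mem P) u u.2 1 (one_mem W1)]
  simp

theorem conj_into_hat (D : Data S P U W1 W2 p q) {z : ↥(P ⊔ W1)} (hz : (z : G) ∉ P) :
    ∃ y ∈ P, ∃ c ∈ W2, ∃ w ∈ W1, w ≠ 1 ∧ y * z * y⁻¹ = c * w := by
  obtain ⟨x, hx, w, hw, e⟩ := D.normal_form z
  have hw1 : w ≠ 1 := fun h => hz (by rw [e, h, mul_one]; exact hx)
  obtain ⟨y, hy, c, hc, hcw, ey⟩ := OddCharGroup.coset_conj P w (D.M.W1normP hw)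
    (D.side.cop.coprime_dvd_left (D.M.cardW1 ▸ Subgroup.orderOf_dvd_natCard W1 hw)) x hx
  refine ⟨y, hy, c, ?_, w, hw, hw1, by rw [e, ey]⟩
  refine D.side.fix c hc fun a ha => ?_
  have hgen : a ∈ Subgroup.zpowers w := by
    haveI : Fact (Nat.card W1).Prime := ⟨D.M.cardW1 ▸ D.M.hq⟩
    obtain ⟨m, hm⟩ := mem_zpowers_of_prime_card (g := (⟨w, hw⟩ : W1)) (g' := ⟨a, ha⟩) rfl
      (fun h => hw1 (congrArg Subtype.val h))
    exact ⟨m, congrArg Subtype.val hm⟩
  obtain ⟨m, rfl⟩ := hgen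
  exact ((Commute.zpow_left (show Commute w c from hcw.symm) m).eq)

theorem lam_W (D : Data S P U W1 W2 p q) {a : ↥P →* ℂˣ} (ha : Fixed P W1 a) {c w : G} (hc : c ∈ W2)
    (hw : w ∈ W1) (z : ↥(P ⊔ W1)) (e : (z : G) = c * w) : lam D ha z = a ⟨c, D.M.W2_le hc⟩ :=
  lam_apply D ha z ⟨c, D.M.W2_le hc⟩ hw e

/-- The values on the elements of `W` outside both factors. -/
theorem diff_hat (D : Data S P U W1 W2 p q) {a b : ↥P →* ℂˣ} (ha : Fixed P W1 a) (hb : Fixed P W1 b)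
    (z : ↥(P ⊔ W1)) (hzW : (z : G) ∈ W1 ⊔ W2) (h1 : (z : G) ∉ W1) (h2 : (z : G) ∉ W2) :
    diff D ha hb z = alpha D ha hb z := by
  classical
  have hd := hdisj D.hW
  have hc := hcomm D.hW
  have hzP : (z : G) ∉ P := by
    intro h
    refine proj₁_ne_one hd hc (w := ⟨z, hzW⟩) h2 (orderOf_eq_one_iff.1
      (Nat.eq_one_of_dvd_coprimes D.side.cop ?_ ?_))
    · rw [← orderOf_submonoid]
      exact D.M.cardW1 ▸ Subgroup.orderOf_dvd_natCard W1 (proj₁_mem hd hc _)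
    · refine orderOf_dvd_of_pow_eq_one ?_
      rw [← map_pow, show (⟨z, hzW⟩ : ↥(W1 ⊔ W2)) ^ Nat.card P = 1 from Subtype.ext (by
        rw [Subgroup.coe_pow]; exact orderOf_dvd_iff_pow_eq_one.1 (Subgroup.orderOf_dvd_natCard P h)),
        map_one]
  have key : ∀ x : G, x⁻¹ * z * x ∈ P ⊔ W1 → x ∈ P ⊔ W1 := by
    intro x hx
    have hnP : ((⟨_, hx⟩ : ↥(P ⊔ W1)) : G) ∉ P := by
      intro h
      refine hzP (D.mem_P_of_pow (m := Nat.card P) z.2 D.side.cop ?_)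
      have h0 : (x⁻¹ * (z : G) * (x⁻¹)⁻¹) ^ Nat.card P = 1 := by
        rw [inv_inv]
        exact orderOf_dvd_iff_pow_eq_one.1 (Subgroup.orderOf_dvd_natCard P h)
      rw [conj_pow, inv_inv] at h0
      have := congrArg (fun t => x * t * x⁻¹) h0
      simpa [mul_assoc] using this
    obtain ⟨y, hy, c, hcW, w, hw, hw1, ey⟩ := conj_into_hat D hnP
    simp only at ey
    have hyz : y * x⁻¹ * z * (y * x⁻¹)⁻¹ = c * w := by rw [← ey]; group
    have hc1 : c ≠ 1 := by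
      rintro rfl
      rw [one_mul] at hyz
      refine h1 ?_
      have h3 : (z : G) ^ q = 1 := by
        have h4 : (y * x⁻¹ * z * (y * x⁻¹)⁻¹) ^ q = 1 := by
          rw [hyz]; exact orderOf_dvd_iff_pow_eq_one.1 (D.M.cardW1 ▸ Subgroup.orderOf_dvd_natCard W1 hw)
        rw [conj_pow] at h4
        have := congrArg (fun t => (y * x⁻¹)⁻¹ * t * (y * x⁻¹)) h4
        simpa [mul_assoc] using this
      by_contra hz1
      refine proj₂_ne_one hd hc (w := ⟨z, hzW⟩) hz1 (orderOf_eq_one_iff.1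
        (Nat.eq_one_of_dvd_coprimes ((Nat.coprime_primes D.M.hp D.M.hq).2 D.M.p_ne_q) ?_ ?_))
      · rw [← orderOf_submonoid]
        exact D.M.cardW2 ▸ Subgroup.orderOf_dvd_natCard W2 (proj₂_mem hd hc _)
      · refine orderOf_dvd_of_pow_eq_one ?_
        rw [← map_pow, show (⟨z, hzW⟩ : ↥(W1 ⊔ W2)) ^ q = 1 from Subtype.ext (by
          rw [Subgroup.coe_pow]; exact h3), map_one]
    have hyx : y * x⁻¹ ∈ W1 ⊔ W2 := by
      by_contra hn
      have hmem : c * w ∈ (↑(W1 ⊔ W2) : Set G) \ (↑W1 ∪ ↑W2) := by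
        refine ⟨mul_mem (Subgroup.mem_sup_right hcW) (Subgroup.mem_sup_left hw), ?_⟩
        rintro (h | h)
        · exact hc1 (Subgroup.mem_bot.1 (hd ▸ (⟨by simpa using W1.mul_mem h (W1.inv_mem hw), hcW⟩ :
            c ∈ W1 ⊓ W2)))
        · exact hw1 (Subgroup.mem_bot.1 (hd ▸ (⟨hw, by simpa using W2.mul_mem (W2.inv_mem hcW) h⟩ :
            w ∈ W1 ⊓ W2)))
      have := CyclicTI.ti D.hW (y * x⁻¹) hn z ⟨hzW, fun h => h.elim h1 h2⟩ (by rw [hyz]; exact hmem)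
      exact h1 (by rw [this]; exact one_mem _)
    have hle : W1 ⊔ W2 ≤ P ⊔ W1 := sup_le le_sup_right (D.M.W2_le.trans le_sup_left)
    have := mul_mem (inv_mem (hle hyx)) (Subgroup.mem_sup_left hy)
    simpa using this
  rw [diff, CharInduced.indFun_apply, Finset.sum_congr rfl fun x _ =>
    show Cfsg.extendByZero (P ⊔ W1) (alpha D ha hb) (x⁻¹ * z * x) =
      if x ∈ P ⊔ W1 then alpha D ha hb z else 0 by
    split_ifs with hx
    · rw [show x⁻¹ * (z : G) * x = ((⟨x, hx⟩⁻¹ * z * ⟨x, hx⟩ : ↥(P ⊔ W1)) : G) from rfl,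
        CharInduced.ext_zero_coe]
      have := alpha_class D ha hb z (⟨x, hx⟩⁻¹ : ↥(P ⊔ W1))
      rwa [inv_inv] at this
    · exact CharInduced.ext_zero_of_not_mem _ fun h => hx (key x h)]
  rw [← Finset.sum_filter, Finset.sum_const, nsmul_eq_mul, ← Fintype.card_subtype,
    ← Nat.card_eq_fintype_card, show Nat.card {x // x ∈ P ⊔ W1} = Nat.card ↥(P ⊔ W1) from rfl,
    ← mul_assoc, inv_mul_cancel₀ (Nat.cast_ne_zero.2 Nat.card_pos.ne'), one_mul]

/-- The inner product with the principal character. -/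
theorem diff_one (D : Data S P U W1 W2 p q) {a b : ↥P →* ℂˣ} (ha : Fixed P W1 a) (hb : Fixed P W1 b) :
    Cfsg.classInner (diff D ha hb) (fun _ => 1) =
      (open Classical in (if a = 1 then 1 else 0) - if b = 1 then (1 : ℂ) else 0) := by
  classical
  haveI : Fintype ↥(P ⊔ W1) := Fintype.ofFinite _
  rw [diff, CharInduced.inner_ind_left _ _ (fun g h => rfl),
    show (fun _ : ↥(P ⊔ W1) => (1 : ℂ)) = fun z => ((lam D (fixed_one (P := P) (W1 := W1)) z : ℂˣ) : ℂ)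
      from funext fun z => by simp [lam],
    show alpha D ha hb = (fun z => (lam D ha z : ℂ)) - fun z => (lam D hb z : ℂ) from rfl,
    classInner_sub_left, CyclicTI.inner_hom, CyclicTI.inner_hom,
    if_congr (show lam D ha = lam D fixed_one ↔ a = 1 from
      ⟨lam_inj D ha fixed_one, fun h => by subst h; rfl⟩) rfl rfl,
    if_congr (show lam D hb = lam D fixed_one ↔ b = 1 from
      ⟨lam_inj D hb fixed_one, fun h => by subst h; rfl⟩) rfl rfl]

open Classical in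
/-- The norm. -/
theorem diff_norm (D : Data S P U W1 W2 p q) {a b : ↥P →* ℂˣ} (ha : Fixed P W1 a) (hb : Fixed P W1 b)
    (hab : a ≠ b) (hb1 : b ≠ 1) :
    Cfsg.classInner (diff D ha hb) (diff D ha hb) =
      if a = 1 then 2 + ((Nat.card U : ℂ) - 1) / q else 2 := by
  haveI : Fintype ↥(P ⊔ W1) := Fintype.ofFinite _
  haveI : Fintype ↥P := Fintype.ofFinite _
  haveI : Fintype ↥U := Fintype.ofFinite _
  set α := alpha D ha hb with hα
  set F := diff D ha hb with hF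
  rw [show Cfsg.classInner F F = Cfsg.classInner (Cfsg.indFun (P ⊔ W1) α) F by rw [hF, hα]; rfl,
    CharInduced.inner_ind_left _ _
    (show Cfsg.IsClassFunction G F by rw [hF]; exact CharInduced.isClassFunction_ind _ _)]
  let iP : ↥P → ↥(P ⊔ W1) := Subgroup.inclusion le_sup_left
  have hiP : Function.Injective iP := Subgroup.inclusion_injective _
  have hsplit : ∀ f : ↥(P ⊔ W1) → ℂ,
      ∑ z, f z = ∑ k : ↥P, f (iP k) + ∑ z ∈ (Finset.univ.image iP)ᶜ, f z := fun f => by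
    rw [← Finset.sum_add_sum_compl (Finset.univ.image iP), Finset.sum_image fun x _ y _ h => hiP h]
  have hout : ∀ z ∈ (Finset.univ.image iP)ᶜ,
      α z * conj (F z) = α z * conj (α z) := by
    intro z hz
    simp only [Finset.mem_compl, Finset.mem_image, Finset.mem_univ, true_and, not_exists] at hz
    have hzP : (z : G) ∉ P := fun h => hz ⟨z, h⟩ rfl
    obtain ⟨y, hy, c, hc, w, hw, hw1, ey⟩ := conj_into_hat D hzP
    set z' : ↥(P ⊔ W1) := ⟨y, Subgroup.mem_sup_left hy⟩ * z * ⟨y, Subgroup.mem_sup_left hy⟩⁻¹ with hz'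
    have ez' : (z' : G) = c * w := ey
    have eα : α z = α z' := (alpha_class D ha hb z _).symm
    by_cases hc1 : c = 1
    · have : α z' = 0 := by
        subst hc1
        simp only [hα, alpha, lam_W D ha hc hw z' ez', lam_W D hb hc hw z' ez']
        rw [show (⟨1, D.M.W2_le hc⟩ : ↥P) = 1 from rfl, map_one, map_one, sub_self]
      rw [eα, this, zero_mul, zero_mul]
    · have hd := hdisj D.hW
      have hFz : F z = α z' := by
        have hzW : (z' : G) ∈ W1 ⊔ W2 := by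
          rw [ez']
          exact mul_mem (Subgroup.mem_sup_right hc) (Subgroup.mem_sup_left hw)
        rw [hα, ← diff_hat D ha hb z' hzW ?_ ?_]
        · rw [hF]
          exact ((CharInduced.isClassFunction_ind (P ⊔ W1) (alpha D ha hb)) z y).symm
        · rw [ez']
          exact fun h => hc1 (Subgroup.mem_bot.1 (hd ▸ (⟨by simpa using W1.mul_mem h (W1.inv_mem hw), hc⟩ :
            c ∈ W1 ⊓ W2)))
        · rw [ez']
          exact fun h => hw1 (Subgroup.mem_bot.1 (hd ▸ (⟨hw, by simpa using W2.mul_mem (W2.inv_mem hc) h⟩ :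
            w ∈ W1 ⊓ W2)))
      rw [hFz, eα]
  have hB : ∑ z, α z * conj (α z) = (Nat.card ↥(P ⊔ W1) : ℂ) * 2 := by
    rw [← card_mul_classInner, show α = (fun z => (lam D ha z : ℂ)) - fun z => (lam D hb z : ℂ) from rfl]
    simp only [classInner_sub_left, classInner_sub_right, CyclicTI.inner_hom]
    rw [if_neg fun h => hab (lam_inj D ha hb h), if_neg fun h => hab (lam_inj D hb ha h).symm]
    simp
    ring
  have hαP : ∀ k : ↥P, α (iP k) = (a k : ℂ) - (b k : ℂ) := fun k => by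
    simp only [hα, alpha]
    rw [lam_apply D ha (iP k) k (one_mem W1) (mul_one _).symm,
      lam_apply D hb (iP k) k (one_mem W1) (mul_one _).symm]
  have hPa : ∑ k : ↥P, α (iP k) * conj (α (iP k)) = (Nat.card ↥P : ℂ) * 2 := by
    simp only [hαP]
    rw [← card_mul_classInner (fun k : ↥P => (a k : ℂ) - (b k : ℂ)) fun k => (a k : ℂ) - (b k : ℂ),
      show (fun k : ↥P => (a k : ℂ) - (b k : ℂ)) = (fun k => (a k : ℂ)) - fun k => (b k : ℂ) from rfl]
    simp only [classInner_sub_left, classInner_sub_right, CyclicTI.inner_hom]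
    rw [if_neg hab, if_neg (Ne.symm hab)]
    simp
    ring
  have hPF : ∑ k : ↥P, α (iP k) * conj (F (iP k)) =
      (Nat.card ↥P : ℂ) * ∑ v : ↥U, (((if a = tr D v a then 1 else 0) - if a = tr D v b then 1 else 0) -
        ((if b = tr D v a then 1 else 0) - if b = tr D v b then (1 : ℂ) else 0)) := by
    have hFk : ∀ k : ↥P, F (iP k) = ∑ v : ↥U, ((tr D v a k : ℂ) - (tr D v b k : ℂ)) := diff_P D ha hb
    simp only [hαP, hFk, map_sum, Finset.mul_sum]
    rw [Finset.sum_comm]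
    refine Finset.sum_congr rfl fun v _ => ?_
    rw [← card_mul_classInner (fun k : ↥P => (a k : ℂ) - (b k : ℂ))
        (fun k => (tr D v a k : ℂ) - (tr D v b k : ℂ)),
      show (fun k : ↥P => (a k : ℂ) - (b k : ℂ)) = (fun k => (a k : ℂ)) - fun k => (b k : ℂ) from rfl,
      show (fun k : ↥P => (tr D v a k : ℂ) - (tr D v b k : ℂ)) =
        (fun k => (tr D v a k : ℂ)) - fun k => (tr D v b k : ℂ) from rfl]
    simp only [classInner_sub_left, classInner_sub_right, CyclicTI.inner_hom]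
    ring
  have hbb : ∀ v : ↥U, b = tr D v b ↔ v = 1 := fun v => by
    constructor
    · exact fun h => (D.tr_eq hb hb h.symm).2 hb1
    · rintro rfl
      refine MonoidHom.ext fun k => ?_
      rw [tr_apply D 1 b k (by simp)]
      exact congrArg b (Subtype.ext (by simp))
  have hab' : ∀ v : ↥U, a ≠ tr D v b := fun v h => hab (D.tr_eq hb ha h.symm).1.symm
  have hba : ∀ v : ↥U, b ≠ tr D v a := fun v h => hab (D.tr_eq ha hb h.symm).1
  have haa : ∀ v : ↥U, a = tr D v a ↔ (a = 1 ∨ v = 1) := fun v => by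
    constructor
    · intro h
      rcases eq_or_ne a 1 with h1 | h1
      · exact Or.inl h1
      · exact Or.inr ((D.tr_eq ha ha h.symm).2 h1)
    · rintro (rfl | rfl)
      · exact MonoidHom.ext fun k => rfl
      · refine MonoidHom.ext fun k => ?_
        rw [tr_apply D 1 a k (by simp)]
        exact congrArg a (Subtype.ext (by simp))
  have hPF' : ∑ k : ↥P, α (iP k) * conj (F (iP k)) =
      (Nat.card ↥P : ℂ) * ((if a = 1 then (Nat.card U : ℂ) else 1) + 1) := by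
    rw [hPF]
    congr 1
    simp only [hab', hba, hbb, haa, if_false, sub_zero, zero_sub, sub_neg_eq_add, Finset.sum_add_distrib]
    congr 1
    · by_cases h : a = 1 <;> simp [h]
    · simp
  have htot := hsplit (fun z => α z * conj (F z))
  rw [Finset.sum_congr rfl hout, hPF'] at htot
  have hBs := hsplit (fun z => α z * conj (α z))
  rw [hB, hPa] at hBs
  show (Nat.card ↥(P ⊔ W1) : ℂ)⁻¹ * ∑ z : ↥(P ⊔ W1), α z * conj (F z) = _
  have hp0 : (p : ℂ) ^ q ≠ 0 := pow_ne_zero _ (Nat.cast_ne_zero.2 D.M.hp.ne_zero)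
  have hq0 : (q : ℂ) ≠ 0 := Nat.cast_ne_zero.2 D.M.hq.ne_zero
  rw [htot, show (∑ z ∈ (Finset.univ.image iP)ᶜ, α z * conj (α z)) =
    (Nat.card ↥(P ⊔ W1) : ℂ) * 2 - (Nat.card ↥P : ℂ) * 2 by linear_combination -hBs]
  rw [show Nat.card ↥(P ⊔ W1) = p ^ q * q from D.card_B, D.M.cardP]
  push_cast
  split_ifs <;> field_simp <;> ring

/-- Conjugating a member of the family inverts the index. -/
theorem conj_family (hW : Cfsg.IsSelfNormalizingCyclic W1 W2) (hodd : Odd (Nat.card ↥(W1 ⊔ W2)))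
    {χ : (↥(W1 ⊔ W2) →* ℂˣ) → (G → ℂ)} (hχ : Cfsg.IsCyclicTIFamily W1 W2 χ) (ω : ↥(W1 ⊔ W2) →* ℂˣ) :
    Cfsg.conjFun (χ ω) = χ ω⁻¹ := by
  set n := Nat.card G with hn
  have hn1 : 1 ≤ n := Nat.card_pos
  obtain ⟨m, hm⟩ : ∃ m, n = m + 1 := ⟨n - 1, by omega⟩
  have hk : m.Coprime n := by rw [hm]; exact Nat.coprime_self_add_right.2 (Nat.coprime_one_right m)
  have hjk : m * m ≡ 1 [MOD n] := by
    rw [← ZMod.natCast_eq_natCast_iff]
    have : (m : ZMod n) = -1 := by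
      rw [eq_neg_iff_add_eq_zero, ← Nat.cast_one, ← Nat.cast_add, ← hm, ZMod.natCast_self]
    push_cast
    rw [this]; ring
  have hpow : ω ^ m = ω⁻¹ := by
    refine MonoidHom.ext fun w => ?_
    rw [MonoidHom.pow_apply, MonoidHom.inv_apply, eq_inv_iff_mul_eq_one, ← pow_succ, ← hm, ← map_pow,
      show w ^ n = 1 from Subtype.ext (by rw [Subgroup.coe_pow, hn]; exact pow_card_eq_one'), map_one]
  funext g
  have h := CyclicTIGalois.family_pow hW hodd hχ hk hjk ω (g⁻¹)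
  rw [hpow, show (g⁻¹) ^ m = g by
    rw [inv_pow, inv_eq_iff_mul_eq_one, ← pow_succ, ← hm, hn]; exact pow_card_eq_one'] at h
  rw [h]
  show conj (χ ω g) = _
  rcases hχ.irr_or_neg ω with h' | h'
  · exact (isCharacter_inv (isCharacter_of_isIrrCharacter h') g).symm
  · have := (isCharacter_inv (isCharacter_of_isIrrCharacter h') g).symm
    simpa using this

theorem alpha_hat (D : Data S P U W1 W2 p q) {a b : ↥P →* ℂˣ} (ha : Fixed P W1 a) (hb : Fixed P W1 b)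
    (j k : ↥(W1 ⊔ W2) →* ℂˣ) (hj : TrivOn W1 j) (hk : TrivOn W1 k)
    (hja : ∀ w : ↥(W1 ⊔ W2), ∀ hw : (w : G) ∈ W2, a ⟨w, D.M.W2_le hw⟩ = j w)
    (hkb : ∀ w : ↥(W1 ⊔ W2), ∀ hw : (w : G) ∈ W2, b ⟨w, D.M.W2_le hw⟩ = k w)
    (w : ↥(W1 ⊔ W2)) (h1 : (w : G) ∉ W1) (h2 : (w : G) ∉ W2) :
    diff D ha hb w = (j w : ℂ) - (k w : ℂ) := by
  have hd := hdisj D.hW
  have hc := hcomm D.hW
  have hle : W1 ⊔ W2 ≤ P ⊔ W1 := sup_le le_sup_right (D.M.W2_le.trans le_sup_left)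
  rw [show (w : G) = ((⟨w, hle w.2⟩ : ↥(P ⊔ W1)) : G) from rfl,
    diff_hat D ha hb ⟨w, hle w.2⟩ w.2 h1 h2]
  have e : (w : G) = (proj₂ hd hc w : G) * (proj₁ hd hc w : G) := by
    rw [← hc _ (proj₁_mem hd hc w) _ (proj₂_mem hd hc w), ← Subgroup.coe_mul, proj_mul]
  simp only [alpha]
  rw [lam_W D ha (proj₂_mem hd hc w) (proj₁_mem hd hc w) ⟨w, hle w.2⟩ e,
    lam_W D hb (proj₂_mem hd hc w) (proj₁_mem hd hc w) ⟨w, hle w.2⟩ e,
    hja _ (proj₂_mem hd hc w), hkb _ (proj₂_mem hd hc w)]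
  conv_rhs => rw [← proj_mul hd hc w, map_mul, map_mul, hj _ (proj₁_mem hd hc w),
    hk _ (proj₁_mem hd hc w), one_mul, one_mul]

theorem conj_diff (D : Data S P U W1 W2 p q) {a b : ↥P →* ℂˣ} (ha : Fixed P W1 a) (hb : Fixed P W1 b) :
    Cfsg.conjFun (diff D ha hb) = diff D ha.inv hb.inv := by
  unfold diff Cfsg.conjFun
  rw [← CharInduced.ind_conj]
  congr 1
  funext z
  simp only [alpha, map_sub]
  have : ∀ {c : ↥P →* ℂˣ} (hc : Fixed P W1 c), conj ((lam D hc z : ℂˣ) : ℂ) = (lam D hc.inv z : ℂˣ) := by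
    intro c hc
    have e : lam D hc.inv z = (lam D hc z)⁻¹ := rfl
    rw [e, Units.val_inv_eq_inv_val]
    refine (Complex.inv_eq_conj ?_).symm
    refine Complex.norm_eq_one_of_pow_eq_one (n := Nat.card ↥(P ⊔ W1)) ?_ Nat.card_pos.ne'
    rw [← Units.val_pow_eq_pow_val, ← map_pow, pow_card_eq_one', map_one, Units.val_one]
  rw [this ha, this hb]

theorem diff_sub (D : Data S P U W1 W2 p q) {a b c : ↥P →* ℂˣ} (ha : Fixed P W1 a) (hb : Fixed P W1 b)
    (hc : Fixed P W1 c) : diff D ha hc - diff D ha hb = diff D hb hc := by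
  unfold diff
  rw [← CharInduced.ind_sub]
  congr 1
  funext z
  simp only [alpha, Pi.sub_apply]
  ring

/-! ## The table argument -/

theorem grid_case {A A' x y : ℤ}
    (h : (x + 1) ^ 2 + (y - 1) ^ 2 + (A ^ 2 + (A + x) ^ 2 + (A + y) ^ 2) +
      (A' ^ 2 + (A' + x) ^ 2 + (A' + y) ^ 2) ≤ 2) : A = 0 ∧ x = 0 ∧ y = 0 := by
  have b : ∀ z : ℤ, z ^ 2 ≤ 2 → -1 ≤ z ∧ z ≤ 1 := fun z hz => ⟨by nlinarith, by nlinarith⟩
  have q1 := sq_nonneg A
  have q2 := sq_nonneg (A + x)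
  have q3 := sq_nonneg (A + y)
  have q4 := sq_nonneg A'
  have q5 := sq_nonneg (A' + x)
  have q6 := sq_nonneg (A' + y)
  have q7 := sq_nonneg (x + 1)
  have q8 := sq_nonneg (y - 1)
  obtain ⟨hA1, hA2⟩ := b A (by linarith)
  obtain ⟨hB1, hB2⟩ := b A' (by linarith)
  obtain ⟨hx1, hx2⟩ := b (x + 1) (by linarith)
  obtain ⟨hy1, hy2⟩ := b (y - 1) (by linarith)
  have hx1' : -2 ≤ x := by omega
  have hx2' : x ≤ 0 := by omega
  have hy1' : 0 ≤ y := by omega
  have hy2' : y ≤ 2 := by omega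
  interval_cases A <;> interval_cases A' <;> interval_cases x <;> interval_cases y <;> simp_all

variable {R C : Type*} [DecidableEq R] [DecidableEq C]

/-- A table of total at most two, a difference of two corner columns, is trivial. -/
theorem grid (rows : Finset R) (cols : Finset C) (A : R → ℤ) (B : C → ℤ) {r0 : R} {c0 j k : C}
    (hr0 : r0 ∈ rows) (hc0 : c0 ∈ cols) (hj : j ∈ cols) (hk : k ∈ cols) (hjc : j ≠ c0) (hkc : k ≠ c0)
    (hjk : j ≠ k) (hA0 : A r0 = 0) (hB0 : B c0 = 0) (hr : 3 ≤ rows.card)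
    (h : ∑ r ∈ rows, ∑ c ∈ cols,
      (A r + B c + if r = r0 then ((if c = j then 1 else 0) - if c = k then 1 else 0) else 0) ^ 2 ≤ 2) :
    (∀ r ∈ rows, A r = 0) ∧ ∀ c ∈ cols, B c = 0 := by
  set f : R → C → ℤ := fun r c =>
    A r + B c + if r = r0 then ((if c = j then 1 else 0) - if c = k then 1 else 0) else 0 with hf
  have h3 : ({c0, j, k} : Finset C) ⊆ cols := by
    intro c hc
    simp only [Finset.mem_insert, Finset.mem_singleton] at hc
    rcases hc with rfl | rfl | rfl <;> assumption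
  have hAx : ∀ r ∈ rows, r ≠ r0 → A r = 0 ∧ B j = 0 ∧ B k = 0 := by
    intro r hr' hr1
    obtain ⟨r', hr'm, hr'1⟩ := Finset.exists_mem_ne (s := rows.erase r0)
      (by rw [Finset.card_erase_of_mem hr0]; omega) r
    rw [Finset.mem_erase] at hr'm
    have hsub : ({r0, r, r'} : Finset R) ⊆ rows := by
      intro x hx
      simp only [Finset.mem_insert, Finset.mem_singleton] at hx
      rcases hx with rfl | rfl | rfl
      · exact hr0
      · exact hr'
      · exact hr'm.2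
    have hle := (Finset.sum_le_sum_of_subset_of_nonneg hsub
      (fun i _ _ => Finset.sum_nonneg fun c _ => sq_nonneg (f i c))).trans h
    have hrow : ∀ i, f i c0 ^ 2 + (f i j ^ 2 + f i k ^ 2) ≤ ∑ c ∈ cols, f i c ^ 2 := fun i => by
      refine le_trans (le_of_eq ?_) (Finset.sum_le_sum_of_subset_of_nonneg h3 fun c _ _ => sq_nonneg (f i c))
      rw [Finset.sum_insert (by simp [Ne.symm hjc, Ne.symm hkc]), Finset.sum_insert (by simp [hjk]),
        Finset.sum_singleton]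
    rw [Finset.sum_insert (by simp [Ne.symm hr1, Ne.symm hr'm.1]),
      Finset.sum_insert (by simp [Ne.symm hr'1]), Finset.sum_singleton] at hle
    have e1 := hrow r0
    have e2 := hrow r
    have e3 := hrow r'
    simp only [hf, hA0, hB0, if_pos, if_neg hr1, if_neg hr'm.1, hjc.symm, hkc.symm, hjk, Ne.symm hjk,
      if_false, if_true, sub_zero, zero_sub, add_zero, zero_add] at e1 e2 e3 hle
    obtain ⟨hA, hx, hy⟩ := grid_case (A := A r) (A' := A r') (x := B j) (y := B k) (by nlinarith)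
    exact ⟨hA, hx, hy⟩
  have hA : ∀ r ∈ rows, A r = 0 := fun r hr' => by
    rcases eq_or_ne r r0 with rfl | h1
    · exact hA0
    · exact (hAx r hr' h1).1
  refine ⟨hA, fun c hc => ?_⟩
  obtain ⟨r, hr1⟩ : (rows.erase r0).Nonempty := by
    rw [← Finset.card_pos, Finset.card_erase_of_mem hr0]; omega
  rw [Finset.mem_erase] at hr1
  obtain ⟨-, hBj, hBk⟩ := hAx r hr1.2 hr1.1
  by_cases hcj : c = j
  · rw [hcj, hBj]
  by_cases hck : c = k
  · rw [hck, hBk]
  by_contra hBc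
  have hsub : ({r0, r} : Finset R) ⊆ rows := by
    intro x hx
    simp only [Finset.mem_insert, Finset.mem_singleton] at hx
    rcases hx with rfl | rfl
    · exact hr0
    · exact hr1.2
  have hle := (Finset.sum_le_sum_of_subset_of_nonneg hsub
    (fun i _ _ => Finset.sum_nonneg fun c _ => sq_nonneg (f i c))).trans h
  rw [Finset.sum_insert (by simp [Ne.symm hr1.1]), Finset.sum_singleton] at hle
  have h4 : ({j, k, c} : Finset C) ⊆ cols := by
    intro x hx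
    simp only [Finset.mem_insert, Finset.mem_singleton] at hx
    rcases hx with rfl | rfl | rfl <;> assumption
  have e1 : f r0 j ^ 2 + (f r0 k ^ 2 + f r0 c ^ 2) ≤ ∑ c ∈ cols, f r0 c ^ 2 := by
    refine le_trans (le_of_eq ?_) (Finset.sum_le_sum_of_subset_of_nonneg h4 fun c _ _ => sq_nonneg (f r0 c))
    rw [Finset.sum_insert (by simp [hjk, Ne.symm hcj]), Finset.sum_insert (by simp [Ne.symm hck]),
      Finset.sum_singleton]
  have e2 : f r c ^ 2 ≤ ∑ c ∈ cols, f r c ^ 2 :=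
    Finset.single_le_sum (f := fun c => f r c ^ 2) (fun _ _ => sq_nonneg _) hc
  simp only [hf, hA0, hBj, hBk, hA r hr1.2, hcj, hck, hjk, Ne.symm hjk, if_neg hr1.1, if_pos, if_true,
    if_false, sub_zero, zero_sub, add_zero, zero_add] at e1 e2 hle
  have : 0 < B c ^ 2 := by positivity
  nlinarith

/-- A table of total at most two with a zero corner is trivial. -/
theorem grid_zero (rows : Finset R) (cols : Finset C) (A : R → ℤ) (B : C → ℤ) {r0 : R} {c0 : C}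
    (hr0 : r0 ∈ rows) (hc0 : c0 ∈ cols) (hA0 : A r0 = 0) (hB0 : B c0 = 0) (hr : 3 ≤ rows.card)
    (hc : 3 ≤ cols.card) (h : ∑ r ∈ rows, ∑ c ∈ cols, (A r + B c) ^ 2 ≤ 2) :
    (∀ r ∈ rows, A r = 0) ∧ ∀ c ∈ cols, B c = 0 := by
  have hA : ∀ r ∈ rows, A r = 0 := by
    intro r hr'
    by_contra hA
    have hr1 : r ≠ r0 := fun e => hA (e ▸ hA0)
    have hsub : ({r0, r} : Finset R) ⊆ rows := by
      intro x hx
      simp only [Finset.mem_insert, Finset.mem_singleton] at hx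
      rcases hx with rfl | rfl <;> assumption
    have hle := (Finset.sum_le_sum_of_subset_of_nonneg hsub
      (fun i _ _ => Finset.sum_nonneg fun c _ => sq_nonneg (A i + B c))).trans h
    rw [Finset.sum_insert (by simp [Ne.symm hr1]), Finset.sum_singleton, ← Finset.sum_add_distrib] at hle
    have hterm : ∀ c ∈ cols, (1 : ℤ) ≤ (A r0 + B c) ^ 2 + (A r + B c) ^ 2 := by
      intro c _
      rw [hA0, zero_add]
      rcases eq_or_ne (B c) 0 with e | e
      · rw [e, add_zero]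
        have := sq_pos_of_ne_zero hA
        nlinarith
      · have := sq_pos_of_ne_zero e
        nlinarith [sq_nonneg (A r + B c)]
    have := (Finset.card_nsmul_le_sum _ _ _ hterm).trans hle
    rw [nsmul_eq_mul, mul_one] at this
    omega
  refine ⟨hA, fun c hc' => ?_⟩
  by_contra hBc
  have : ∑ r ∈ rows, (A r + B c) ^ 2 ≤ 2 := le_trans (Finset.sum_le_sum fun r _ =>
    Finset.single_le_sum (f := fun c => (A r + B c) ^ 2) (fun _ _ => sq_nonneg _) hc') h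
  rw [Finset.sum_congr rfl fun r hr' => by rw [hA r hr', zero_add], Finset.sum_const, nsmul_eq_mul] at this
  have h1 : 0 < B c ^ 2 := by positivity
  nlinarith

omit [DecidableEq R] [DecidableEq C]

open Classical in
/-- The difference of two fixed characters goes to the difference of the columns. -/
theorem diff_eq (D : Data S P U W1 W2 p q) {χ : (↥(W1 ⊔ W2) →* ℂˣ) → (G → ℂ)}
    (hχ : Cfsg.IsCyclicTIFamily W1 W2 χ) {a b : ↥P →* ℂˣ} (ha : Fixed P W1 a) (hb : Fixed P W1 b)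
    {j k : ↥(W1 ⊔ W2) →* ℂˣ} (hj : TrivOn W1 j) (hk : TrivOn W1 k) (hj1 : j ≠ 1) (hk1 : k ≠ 1)
    (hjk : j ≠ k)
    (hja : ∀ w : ↥(W1 ⊔ W2), ∀ hw : (w : G) ∈ W2, a ⟨w, D.M.W2_le hw⟩ = j w)
    (hkb : ∀ w : ↥(W1 ⊔ W2), ∀ hw : (w : G) ∈ W2, b ⟨w, D.M.W2_le hw⟩ = k w) :
    diff D ha hb = χ j - χ k := by
  haveI := hom_fintype ↥(W1 ⊔ W2)
  have K := D.ctx hχ
  have hd := hdisj D.hW
  have hc := hcomm D.hW
  have hne1 : ∀ {a : ↥P →* ℂˣ} {j : ↥(W1 ⊔ W2) →* ℂˣ}, TrivOn W1 j → j ≠ 1 →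
      (∀ w : ↥(W1 ⊔ W2), ∀ hw : (w : G) ∈ W2, a ⟨w, D.M.W2_le hw⟩ = j w) → a ≠ 1 := by
    intro a j hj hj1 hja e
    exact hj1 (eq_one_of_triv_both hd hc hj fun w hw => by rw [← hja w hw, e]; rfl)
  have ha1 := hne1 hj hj1 hja
  have hb1 := hne1 hk hk1 hkb
  have hab : a ≠ b := by
    intro e
    apply hjk
    refine MonoidHom.ext fun w => ?_
    rw [← proj_mul hd hc w, map_mul, map_mul, hj _ (proj₁_mem hd hc w), hk _ (proj₁_mem hd hc w),
      one_mul, one_mul, ← hja _ (proj₂_mem hd hc w), ← hkb _ (proj₂_mem hd hc w), e]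
  set F := diff D ha hb with hF
  have hFg : Cfsg.IsGeneralizedCharacter G F := diff_gen D ha hb
  have hint : ∀ ω, ∃ n : ℤ, Cfsg.classInner F (χ ω) = n := fun ω =>
    classInner_isGeneralizedCharacter hFg (PF13Cols8.gen K ω)
  choose c hcF using hint
  set R : (↥(W1 ⊔ W2) →* ℂˣ) → ℤ :=
    fun ω => c ω - ((if ω = j then 1 else 0) - if ω = k then 1 else 0) with hR
  set θ := F - (χ j - χ k) with hθ
  have hθc : Cfsg.IsClassFunction G θ := isClassFunction_of_isGeneralizedCharacter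
    (isGeneralizedCharacter_sub hFg (isGeneralizedCharacter_sub (PF13Cols8.gen K j) (PF13Cols8.gen K k)))
  have hθV : ∀ w : ↥(W1 ⊔ W2), (w : G) ∉ W1 → (w : G) ∉ W2 → θ w = 0 := fun w h1 h2 => by
    simp only [hθ, Pi.sub_apply]
    rw [hF, alpha_hat D ha hb j k hj hk hja hkb w h1 h2, hχ.eq_on j w h1 h2, hχ.eq_on k w h1 h2, sub_self]
  have hθin : ∀ ω, Cfsg.classInner θ (χ ω) = R ω := fun ω => by
    simp only [hθ, classInner_sub_left, hcF, hχ.orthonormal, hR, eq_comm (a := j), eq_comm (a := k)]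
    push_cast
    ring
  have hR1 : R 1 = 0 := by
    have h := diff_one D ha hb
    rw [← hχ.map_one, hcF, if_neg ha1, if_neg hb1, sub_zero] at h
    simp only [hR, if_neg (Ne.symm hj1), if_neg (Ne.symm hk1), sub_zero]
    exact_mod_cast h
  have hdec : ∀ r ∈ PF13Cols8.rows W1 W2, ∀ l ∈ PF13Cols8.cols W1 W2, R (r * l) = R r + R l := by
    intro r hr l hl
    rw [PF13Cols8.mem_rows] at hr
    rw [PF13Cols8.mem_cols] at hl
    have h := rectangle D.hW hχ hθc hθV (r * l)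
    rw [part₁_eq hd hc hr hl, part₂_eq hd hc hr hl, hθin, hθin, hθin, hθin, hR1, Int.cast_zero,
      sub_zero] at h
    exact_mod_cast h
  have horth : ∀ i ∈ PF13Cols8.rows W1 W2 ×ˢ PF13Cols8.cols W1 W2,
      ∀ i' ∈ PF13Cols8.rows W1 W2 ×ˢ PF13Cols8.cols W1 W2,
      Cfsg.classInner (χ (i.1 * i.2)) (χ (i'.1 * i'.2)) = if i = i' then 1 else 0 := by
    intro i hi i' hi'
    rw [Finset.mem_product, PF13Cols8.mem_rows, PF13Cols8.mem_cols] at hi hi'
    have e : i.1 * i.2 = i'.1 * i'.2 ↔ i = i' := by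
      rw [mul_left_inj_of_triv hd hc hi.1 hi'.1 hi.2 hi'.2, ← Prod.ext_iff]
    rw [hχ.orthonormal]
    by_cases h : i = i'
    · rw [if_pos (e.2 h), if_pos h]
    · rw [if_neg (mt e.1 h), if_neg h]
  have hb' := PF13Tools8.bessel (PF13Cols8.rows W1 W2 ×ˢ PF13Cols8.cols W1 W2)
    (fun i => χ (i.1 * i.2)) horth F (fun i => c (i.1 * i.2)) (fun i _ => hcF _)
  rw [show Cfsg.classInner F F = 2 by rw [hF, diff_norm D ha hb hab hb1, if_neg ha1]] at hb'
  have hb2 : ∑ i ∈ PF13Cols8.rows W1 W2 ×ˢ PF13Cols8.cols W1 W2, c (i.1 * i.2) ^ 2 ≤ 2 := by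
    have : ((∑ i ∈ PF13Cols8.rows W1 W2 ×ˢ PF13Cols8.cols W1 W2, c (i.1 * i.2) ^ 2 : ℤ) : ℝ) ≤ ((2 : ℤ) : ℝ) := by
      simpa using hb'
    exact_mod_cast this
  rw [Finset.sum_product] at hb2
  have h1r : (1 : ↥(W1 ⊔ W2) →* ℂˣ) ∈ PF13Cols8.rows W1 W2 := PF13Cols8.mem_rows.2 (trivOn_one _)
  have h1c : (1 : ↥(W1 ⊔ W2) →* ℂˣ) ∈ PF13Cols8.cols W1 W2 := PF13Cols8.mem_cols.2 (trivOn_one _)
  have hterm : ∀ r ∈ PF13Cols8.rows W1 W2, ∀ l ∈ PF13Cols8.cols W1 W2,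
      c (r * l) = R r + R l + if r = 1 then ((if l = j then 1 else 0) - if l = k then 1 else 0) else 0 := by
    intro r hr l hl
    rw [← hdec r hr l hl]
    rw [PF13Cols8.mem_rows] at hr
    rw [PF13Cols8.mem_cols] at hl
    have e : ∀ i, TrivOn W1 i → (r * l = i ↔ r = 1 ∧ l = i) := fun i hi => by
      conv_lhs => rw [← hom_one_mul i]
      exact mul_left_inj_of_triv hd hc hr (trivOn_one _) hl hi
    simp only [hR, e j hj, e k hk]
    by_cases hr1 : r = 1 <;> simp [hr1]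
  rw [Finset.sum_congr rfl fun r hr => Finset.sum_congr rfl fun l hl => by rw [hterm r hr l hl]] at hb2
  obtain ⟨-, hB⟩ := grid (PF13Cols8.rows W1 W2) (PF13Cols8.cols W1 W2) R R h1r h1c
    (PF13Cols8.mem_cols.2 hj) (PF13Cols8.mem_cols.2 hk) hj1 hk1 hjk hR1 hR1
    (by rw [PF13Cols8.card_rows K]; exact K.hq3) hb2
  have hzero : Cfsg.classInner θ θ = 0 := by
    have ej := hB j (PF13Cols8.mem_cols.2 hj)
    have ek := hB k (PF13Cols8.mem_cols.2 hk)
    simp only [hR, if_true, if_neg hjk, if_neg (Ne.symm hjk), sub_zero, zero_sub] at ej ek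
    have ej' : Cfsg.classInner F (χ j) = 1 := by rw [hcF, show c j = 1 by omega]; norm_num
    have ek' : Cfsg.classInner F (χ k) = -1 := by rw [hcF, show c k = -1 by omega]; norm_num
    have ej'' : Cfsg.classInner (χ j) F = 1 := by rw [← conj_classInner, ej', map_one]
    have ek'' : Cfsg.classInner (χ k) F = -1 := by rw [← conj_classInner, ek', map_neg, map_one]
    simp only [hθ, classInner_sub_left, classInner_sub_right, ej', ek', ej'', ek'', hχ.orthonormal,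
      if_true, if_neg hjk, if_neg (Ne.symm hjk)]
    rw [hF, diff_norm D ha hb hab hb1, if_neg ha1]
    ring
  exact sub_eq_zero.1 (eq_zero_of_classInner_self hzero)

/-- The principal function of one side. -/
theorem exists_X (D : Data S P U W1 W2 p q) {χ : (↥(W1 ⊔ W2) →* ℂˣ) → (G → ℂ)}
    (hχ : Cfsg.IsCyclicTIFamily W1 W2 χ) {j : ↥(W1 ⊔ W2) →* ℂˣ} (hj : TrivOn W1 j) (hj1 : j ≠ 1) :
    ∃ (a : ↥P →* ℂˣ) (ha : Fixed P W1 a),
      Cfsg.classInner (diff D fixed_one ha) (fun _ => 1) = 1 ∧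
      Cfsg.classInner (diff D fixed_one ha) (diff D fixed_one ha) = 2 + ((Nat.card U : ℂ) - 1) / q ∧
      Cfsg.conjFun (diff D fixed_one ha + χ j) = diff D fixed_one ha + χ j ∧
      ∃ ω, ω ≠ 1 ∧ Cfsg.classInner (diff D fixed_one ha) (χ ω) ≠ 0 := by
  classical
  have K := D.ctx hχ
  have hd := hdisj D.hW
  have hc := hcomm D.hW
  obtain ⟨a, ha, hja⟩ := D.exists_fixed j
  have ha1 : a ≠ 1 := fun e => hj1 (eq_one_of_triv_both hd hc hj fun w hw => by rw [← hja w hw, e]; rfl)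
  have hX1 : Cfsg.classInner (diff D fixed_one ha) (fun _ => 1) = 1 := by
    rw [diff_one, if_pos rfl, if_neg ha1, sub_zero]
  refine ⟨a, ha, hX1, ?_, ?_, ?_⟩
  · rw [diff_norm D fixed_one ha (Ne.symm ha1) ha1, if_pos rfl]
  · have hjinv : TrivOn W1 j⁻¹ := fun w hw => by rw [MonoidHom.inv_apply, hj w hw, inv_one]
    have hj2 : j ≠ j⁻¹ := by
      intro e
      apply hj1
      refine MonoidHom.ext fun w => ?_
      have h1 : (j w) ^ 2 = 1 := by
        rw [pow_two]; nth_rewrite 2 [e]; rw [MonoidHom.inv_apply, mul_inv_cancel]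
      have h2 : (j w) ^ Nat.card ↥(W1 ⊔ W2) = 1 := by rw [← map_pow, pow_card_eq_one', map_one]
      have h3 := pow_gcd_eq_one.2 ⟨h1, h2⟩
      rw [Nat.coprime_two_left.2 D.oddW, pow_one] at h3
      exact h3
    have hjainv : ∀ w : ↥(W1 ⊔ W2), ∀ hw : (w : G) ∈ W2, a⁻¹ ⟨w, D.M.W2_le hw⟩ = j⁻¹ w := fun w hw => by
      rw [MonoidHom.inv_apply, MonoidHom.inv_apply, hja w hw]
    have e := diff_eq D hχ ha ha.inv hj hjinv hj1 (fun e => hj1 (MonoidHom.ext fun w => inv_eq_one.1 (DFunLike.congr_fun e w))) hj2 hja hjainv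
    rw [← diff_sub D fixed_one ha ha.inv] at e
    have hc1 : Cfsg.conjFun (diff D fixed_one ha) = diff D fixed_one ha.inv := by
      rw [conj_diff D fixed_one ha]
      congr 1
    funext g
    have h1 := congrFun hc1 g
    have h2 := congrFun (conj_family D.hW D.oddW hχ j) g
    have h3 := congrFun e g
    simp only [Cfsg.conjFun, Pi.add_apply, Pi.sub_apply, map_add] at h1 h2 h3 ⊢
    linear_combination h1 + h2 + h3
  · by_contra hall
    push Not at hall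
    set X := diff D fixed_one ha with hX
    set θ := X - χ 1 + χ j with hθ
    have hθc : Cfsg.IsClassFunction G θ := isClassFunction_of_isGeneralizedCharacter
      (isGeneralizedCharacter_add (isGeneralizedCharacter_sub (diff_gen D fixed_one ha)
        (PF13Cols8.gen K 1)) (PF13Cols8.gen K j))
    have hθV : ∀ w : ↥(W1 ⊔ W2), (w : G) ∉ W1 → (w : G) ∉ W2 → θ w = 0 := fun w h1 h2 => by
      simp only [hθ, Pi.add_apply, Pi.sub_apply]
      rw [hX, alpha_hat D fixed_one ha 1 j (trivOn_one _) hj (fun _ _ => rfl) hja w h1 h2,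
        hχ.eq_on j w h1 h2, hχ.eq_on 1 w h1 h2]
      ring
    obtain ⟨r, hr1⟩ : ((PF13Cols8.rows W1 W2).erase 1).Nonempty := by
      rw [← Finset.card_pos, Finset.card_erase_of_mem (PF13Cols8.mem_rows.2 (trivOn_one _)),
        PF13Cols8.card_rows K]
      have := K.hq3; omega
    rw [Finset.mem_erase, PF13Cols8.mem_rows] at hr1
    have h := rectangle D.hW hχ hθc hθV (r * j)
    rw [part₁_eq hd hc hr1.2 hj, part₂_eq hd hc hr1.2 hj] at h
    have hrj : r * j ≠ 1 := by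
      intro e
      rw [← hom_one_mul (1 : ↥(W1 ⊔ W2) →* ℂˣ)] at e
      exact hr1.1 ((mul_left_inj_of_triv hd hc hr1.2 (trivOn_one _) hj (trivOn_one _)).1 e).1
    have hrj' : r * j ≠ j := by
      intro e
      conv_rhs at e => rw [← hom_one_mul j]
      exact hr1.1 ((mul_left_inj_of_triv hd hc hr1.2 (trivOn_one _) hj hj).1 e).1
    have hrne : r ≠ j := fun e => hr1.1 (eq_one_of_triv_both hd hc (e ▸ hj) hr1.2)
    simp only [hθ, classInner_add_left, classInner_sub_left, hχ.orthonormal, hall _ hrj, hall _ hr1.1,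
      hall _ hj1, if_neg (Ne.symm hrj), if_neg (Ne.symm hr1.1), if_neg (Ne.symm hj1), if_neg hj1,
      if_neg (Ne.symm hrj'), if_neg (Ne.symm hrne), if_true] at h
    rw [hχ.map_one, hX1] at h
    norm_num at h

end Cfsg.Agent.PF14Side54
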