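import Mathlib
import Cfsg.Prelude.Def_OddOrder
import Cfsg.Agent.Lib.PF14Side54
import Cfsg.Agent.Lib.FTGlue54
import Cfsg.Agent.Lib.FittingHallBasic

/-!
Peterfalvi 14, the setting: a pair of maximal subgroups of type P with the structure of (13.2), (13.11).
-/

set_option autoImplicit false

namespace Cfsg.Agent.PF14Setup54

open scoped commutatorElement

variable {G : Type*} [Group G]

/-- The configuration together with the facts established in the earlier sections. -/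
structure Pair (S T W1 W2 U V : Subgroup G) : Prop where
  hG : Cfsg.IsMinSimpleOddOrder G
  hS : IsCoatom S
  hT : IsCoatom T
  hSP : Cfsg.IsTypePWith S W1 U W2
  hTP : Cfsg.IsTypePWith T W2 V W1
  hST : S ⊓ T = W1 ⊔ W2
  typeS : Cfsg.IsOfTypeII S ∨ Cfsg.IsOfTypeIII S
  typeT : Cfsg.IsOfTypeII T ∨ Cfsg.IsOfTypeIII T
  elemS : Cfsg.IsElementaryAbelian (Nat.card W2) (Cfsg.fittingHallOf S)
  cardS : Nat.card (Cfsg.fittingHallOf S) = Nat.card W2 ^ Nat.card W1
  elemT : Cfsg.IsElementaryAbelian (Nat.card W1) (Cfsg.fittingHallOf T)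
  cardT : Nat.card (Cfsg.fittingHallOf T) = Nat.card W1 ^ Nat.card W2
  faithS : U ⊓ Subgroup.centralizer ((Cfsg.fittingHallOf S : Subgroup G) : Set G) = ⊥
  faithT : V ⊓ Subgroup.centralizer ((Cfsg.fittingHallOf T : Subgroup G) : Set G) = ⊥

variable {S T W1 W2 U V : Subgroup G}

theorem Pair.symm (C : Pair S T W1 W2 U V) : Pair T S W2 W1 V U where
  hG := C.hG
  hS := C.hT
  hT := C.hS
  hSP := C.hTP
  hTP := C.hSP
  hST := by rw [inf_comm, C.hST, sup_comm]
  typeS := C.typeT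
  typeT := C.typeS
  elemS := C.elemT
  cardS := C.cardT
  elemT := C.elemS
  cardT := C.cardS
  faithS := C.faithT
  faithT := C.faithS

variable [Finite G]

theorem Pair.oddG (C : Pair S T W1 W2 U V) : Odd (Nat.card G) := C.hG.1

theorem Pair.type_data (C : Pair S T W1 W2 U V) : ∃ W1' U' W2' : Subgroup G,
    Cfsg.IsTypePWith S W1' U' W2' ∧ U' ≠ ⊥ ∧ (Nat.card W1').Prime ∧
      Cfsg.IsTISubset (Cfsg.fittingOf S : Set G) ∧ IsMulCommutative U' := by
  rcases C.typeS with ⟨a, b, c, h1, h2, h3, h4, h5, -⟩ | ⟨a, b, c, h1, h2, h3, h4, h5, -⟩ <;>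
    exact ⟨a, b, c, h1, h2, h3, h4, h5⟩

theorem Pair.prime_q (C : Pair S T W1 W2 U V) : (Nat.card W1).Prime := by
  obtain ⟨W1', U', W2', h, -, hp, -⟩ := C.type_data
  rwa [← FittingHallBasic.card_compl_eq_relIndex C.hSP.W₁_compl,
    FittingHallBasic.card_compl_eq_relIndex h.W₁_compl]

theorem Pair.prime_p (C : Pair S T W1 W2 U V) : (Nat.card W2).Prime := C.symm.prime_q

theorem Pair.le_derived (C : Pair S T W1 W2 U V) : Cfsg.fittingHallOf S ≤ ⁅S, S⁆ := C.hSP.U_compl.1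

theorem Pair.U_le (C : Pair S T W1 W2 U V) : U ≤ S :=
  C.hSP.U_compl.2.1.trans C.hSP.W₁_compl.1

theorem Pair.conj_mem (_C : Pair S T W1 W2 U V) {s x : G} (hs : s ∈ S)
    (hx : x ∈ Cfsg.fittingHallOf S) : s * x * s⁻¹ ∈ Cfsg.fittingHallOf S :=
  (Subgroup.mem_normalizer_iff.1 (FittingHallBasic.le_normalizer_fittingHallOf S hs) x).1 hx

theorem Pair.U_ne (C : Pair S T W1 W2 U V) : U ≠ ⊥ := by
  obtain ⟨W1', U', W2', h, hne, -⟩ := C.type_data
  intro e
  apply hne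
  rw [← Subgroup.card_eq_one, ← FittingHallBasic.card_compl_eq_relIndex h.U_compl,
    FittingHallBasic.card_compl_eq_relIndex C.hSP.U_compl, e, Subgroup.card_bot]

theorem Pair.U_comm (C : Pair S T W1 W2 U V) : IsMulCommutative U := by
  obtain ⟨W1', U', W2', h, -, -, -, hc⟩ := C.type_data
  refine ⟨⟨fun a b => Subtype.ext ?_⟩⟩
  show (a : G) * b = b * a
  obtain ⟨x, hx, c, hcm, ea⟩ := h.U_compl.2.2.2 a (C.hSP.U_compl.2.1 a.2)
  obtain ⟨y, hy, d, hdm, eb⟩ := h.U_compl.2.2.2 b (C.hSP.U_compl.2.1 b.2)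
  have hcd : c * d = d * c := congrArg Subtype.val (hc.is_comm.comm (⟨c, hcm⟩ : U') ⟨d, hdm⟩)
  have hleS : U' ≤ S := h.U_compl.2.1.trans h.W₁_compl.1
  have hcS : c ∈ S := hleS hcm
  have hdS : d ∈ S := hleS hdm
  have key : (a : G) * b * ((b : G) * a)⁻¹ ∈ Cfsg.fittingHallOf S ⊓ U := by
    refine Subgroup.mem_inf.2 ⟨?_, mul_mem (mul_mem a.2 b.2) (inv_mem (mul_mem b.2 a.2))⟩
    rw [ea, eb]
    have e : x * c * (y * d) * (y * d * (x * c))⁻¹ =
        x * (c * y * c⁻¹) * ((c * d) * (d * c)⁻¹) * (d * x⁻¹ * d⁻¹) * y⁻¹ := by group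
    rw [e, hcd, mul_inv_cancel, mul_one]
    exact mul_mem (mul_mem (mul_mem hx (C.conj_mem hcS hy)) (C.conj_mem hdS (inv_mem hx))) (inv_mem hy)
  rw [C.hSP.U_compl.2.2.1, Subgroup.mem_bot, mul_inv_eq_one] at key
  exact key

theorem Pair.card_derived (C : Pair S T W1 W2 U V) :
    Nat.card ↥⁅S, S⁆ = Nat.card W2 ^ Nat.card W1 * Nat.card U := by
  rw [← FTGlue54.card_of_isComplIn C.hSP.U_compl, C.cardS]

theorem Pair.card_self (C : Pair S T W1 W2 U V) :
    Nat.card S = Nat.card W2 ^ Nat.card W1 * Nat.card U * Nat.card W1 := by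
  rw [← FTGlue54.card_of_isComplIn C.hSP.W₁_compl, C.card_derived]

theorem Pair.hall_P (C : Pair S T W1 W2 U V) :
    (Nat.card W2 ^ Nat.card W1).Coprime (Nat.card U * Nat.card W1) := by
  have h := FittingHallBasic.fittingHallOf_coprime S
  have hle := C.le_derived.trans C.hSP.W₁_compl.1
  have e : (Cfsg.fittingHallOf S).relIndex S = Nat.card U * Nat.card W1 := by
    have h1 := Subgroup.card_mul_index ((Cfsg.fittingHallOf S).subgroupOf S)
    rw [Nat.card_congr (Subgroup.subgroupOfEquivOfLe hle).toEquiv, C.cardS, C.card_self] at h1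
    exact Nat.eq_of_mul_eq_mul_left (pow_pos C.prime_p.pos _) (h1.trans (by ring))
  rwa [C.cardS, e] at h

theorem Pair.cop_up (C : Pair S T W1 W2 U V) : (Nat.card U).Coprime (Nat.card W2) :=
  (Nat.Coprime.coprime_dvd_left (dvd_pow_self _ C.prime_q.ne_zero)
    (Nat.Coprime.coprime_dvd_right (Dvd.intro _ rfl) C.hall_P)).symm

theorem Pair.p_ne_q (C : Pair S T W1 W2 U V) : Nat.card W2 ≠ Nat.card W1 :=
  (FTGlue54.ne_card_of_selfNormalizing C.hSP.selfNormalizing).symm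

theorem Pair.cop_uq (C : Pair S T W1 W2 U V) : (Nat.card U).Coprime (Nat.card W1) := by
  have h := C.hSP.W₁_hall
  have e : W1.relIndex S = Nat.card W2 ^ Nat.card W1 * Nat.card U := by
    have h1 := Subgroup.card_mul_index (W1.subgroupOf S)
    rw [Nat.card_congr (Subgroup.subgroupOfEquivOfLe C.hSP.W₁_compl.2.1).toEquiv, C.card_self] at h1
    exact Nat.eq_of_mul_eq_mul_left C.prime_q.pos (h1.trans (by ring))
  rw [e] at h
  exact (Nat.Coprime.coprime_dvd_right (Dvd.intro_left _ rfl) h).symm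

theorem Pair.odd_card (C : Pair S T W1 W2 U V) (K : Subgroup G) : Odd (Nat.card K) :=
  C.oddG.of_dvd_nat (Subgroup.card_subgroup_dvd_card K)

theorem Pair.fitting_eq_P (C : Pair S T W1 W2 U V) : Cfsg.fittingOf S = Cfsg.fittingHallOf S := by
  rw [← C.hSP.fitting_eq]
  refine le_antisymm (sup_le le_rfl fun z hz => ?_) le_sup_left
  have hzF : z ∈ ⁅S, S⁆ := C.hSP.fitting_le (C.hSP.fitting_eq ▸ Subgroup.mem_sup_right hz)
  obtain ⟨x, hx, u, hu, e⟩ := C.hSP.U_compl.2.2.2 z hzF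
  have hu' : u ∈ U ⊓ Subgroup.centralizer ((Cfsg.fittingHallOf S : Subgroup G) : Set G) := by
    refine Subgroup.mem_inf.2 ⟨hu, Subgroup.mem_centralizer_iff.2 fun k hk => ?_⟩
    have h1 := Subgroup.mem_centralizer_iff.1 (Subgroup.mem_inf.1 hz).2 k hk
    have h2 : k * x = x * k := congrArg Subtype.val (C.elemS.1.is_comm.comm
      (⟨k, hk⟩ : Cfsg.fittingHallOf S) ⟨x, hx⟩)
    rw [e] at h1
    apply mul_left_cancel (a := x)
    calc x * (k * u) = k * x * u := by rw [h2]; group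
      _ = x * u * k := by rw [← h1]; group
      _ = x * (u * k) := by group
  rw [C.faithS, Subgroup.mem_bot] at hu'
  rw [e, hu', mul_one]
  exact hx

theorem Pair.P_ne_bot (C : Pair S T W1 W2 U V) : Cfsg.fittingHallOf S ≠ ⊥ := by
  intro e
  have h := C.cardS
  rw [e, Subgroup.card_bot] at h
  exact (Nat.one_lt_pow C.prime_q.ne_zero C.prime_p.one_lt).ne h

theorem Pair.normalizer_P (C : Pair S T W1 W2 U V) :
    Subgroup.normalizer (Cfsg.fittingHallOf S : Set G) = S := by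
  haveI := C.hG.2.1
  refine (C.hS.le_iff.1 (FittingHallBasic.le_normalizer_fittingHallOf S)).resolve_left fun h => ?_
  rcases (Subgroup.normalizer_eq_top_iff.mp h).eq_bot_or_eq_top with h' | h'
  · exact C.P_ne_bot h'
  · exact C.hS.1 (top_le_iff.1 (h' ▸ FittingHallBasic.fittingHallOf_le S))

theorem Pair.ti (C : Pair S T W1 W2 U V) {g k : G} (hk : k ∈ Cfsg.fittingHallOf S) (hk1 : k ≠ 1)
    (h : g * k * g⁻¹ ∈ Cfsg.fittingHallOf S) : g ∈ S := by
  obtain ⟨-, -, -, -, -, -, hti, -⟩ := C.type_data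
  rw [C.fitting_eq_P] at hti
  by_contra hg
  exact hk1 (hti g (by rwa [C.normalizer_P]) k hk h)

theorem Pair.mod (C : Pair S T W1 W2 U V) :
    PF14Module54.Mod (Cfsg.fittingHallOf S) U W1 W2 (Nat.card W2) (Nat.card W1) where
  hp := C.prime_p
  hq := C.prime_q
  p_odd := C.odd_card W2
  q_odd := C.odd_card W1
  elem := C.elemS
  cardP := C.cardS
  cardW1 := rfl
  cardW2 := rfl
  W2_le := C.hSP.W₂_le.trans inf_le_left
  Ucomm := C.U_comm
  Une := C.U_ne
  UnormP := C.U_le.trans (FittingHallBasic.le_normalizer_fittingHallOf S)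
  W1normP := C.hSP.W₁_compl.2.1.trans (FittingHallBasic.le_normalizer_fittingHallOf S)
  W1normU := C.hSP.U_normal
  centW1 := by
    refine le_antisymm (fun x hx => ?_) (fun x hx => ?_)
    · obtain ⟨w, hw, hw1⟩ := W1.bot_or_exists_ne_one.resolve_left C.hSP.W₁_ne
      rw [← C.hSP.W₂_centralizer w hw hw1]
      exact Subgroup.mem_inf.2 ⟨C.le_derived (Subgroup.mem_inf.1 hx).1,
        Subgroup.mem_centralizer_singleton_iff.2
          (Subgroup.mem_centralizer_iff.1 (Subgroup.mem_inf.1 hx).2 w hw).symm⟩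
    · refine Subgroup.mem_inf.2 ⟨(C.hSP.W₂_le.trans inf_le_left) hx,
        Subgroup.mem_centralizer_iff.2 fun w hw => ?_⟩
      exact C.hSP.selfNormalizing.2.2.2.1 w hw x hx
  U_fix w hw hw1 u hu h := by
    have h2 : u ∈ W2 := by
      rw [← C.hSP.W₂_centralizer w hw hw1]
      exact Subgroup.mem_inf.2 ⟨C.hSP.U_compl.2.1 hu, Subgroup.mem_centralizer_singleton_iff.2 h.symm⟩
    have h3 : u ∈ Cfsg.fittingHallOf S ⊓ U :=
      Subgroup.mem_inf.2 ⟨(C.hSP.W₂_le.trans inf_le_left) h2, hu⟩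
    rwa [C.hSP.U_compl.2.2.1, Subgroup.mem_bot] at h3
  U_faith := C.faithS
  copP := C.cop_up
  copQ := C.cop_uq
  U_odd := C.odd_card U
  p_ne_q := C.p_ne_q

theorem Pair.decomp (C : Pair S T W1 W2 U V) (s : G) (hs : s ∈ S) :
    ∃ x ∈ Cfsg.fittingHallOf S, ∃ u ∈ U, ∃ w ∈ W1, s = x * u * w := by
  obtain ⟨d, hd, w, hw, rfl⟩ := C.hSP.W₁_compl.2.2.2 s hs
  obtain ⟨x, hx, u, hu, rfl⟩ := C.hSP.U_compl.2.2.2 d hd
  exact ⟨x, hx, u, hu, w, hw, rfl⟩

theorem Pair.data [Fintype G] (C : Pair S T W1 W2 U V) :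
    PF14Side54.Data S (Cfsg.fittingHallOf S) U W1 W2 (Nat.card W2) (Nat.card W1) where
  M := C.mod
  hW := C.hSP.selfNormalizing
  oddG := C.oddG
  leP := FittingHallBasic.fittingHallOf_le S
  leU := C.U_le
  leW := C.hSP.W₁_compl.2.1
  normP _ hs _ hk := C.conj_mem hs hk
  decomp := C.decomp
  cardS := C.card_self
  ti _ _ := C.ti

/-- The centraliser of a nontrivial element of `P` lies in `S`. -/
theorem Pair.centralizer_le (C : Pair S T W1 W2 U V) {x : G} (hx : x ∈ Cfsg.fittingHallOf S)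
    (hx1 : x ≠ 1) : Subgroup.centralizer ({x} : Set G) ≤ S := fun c hc => by
  refine C.ti hx hx1 ?_
  rw [Subgroup.mem_centralizer_singleton_iff.1 hc]
  simpa using hx

/-- `S / S'` has order prime to that of `U`: elements of coprime order lie in `S'`. -/
theorem Pair.mem_derived (C : Pair S T W1 W2 U V) {z : G} (hz : z ∈ S)
    (ho : (orderOf z).Coprime (Nat.card W1)) : z ∈ ⁅S, S⁆ := by
  obtain ⟨d, hd, w, hw, e⟩ := C.hSP.W₁_compl.2.2.2 z hz
  have hnorm : S ≤ Subgroup.normalizer ((⁅S, S⁆ : Subgroup G) : Set G) := by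
    intro s hs
    refine Subgroup.mem_normalizer_iff.2 fun y => ?_
    have key : ∀ s ∈ S, ∀ y ∈ ⁅S, S⁆, s * y * s⁻¹ ∈ ⁅S, S⁆ := by
      intro s hs y hy
      have h1 : (⁅S, S⁆).map (MulAut.conj s).toMonoidHom = ⁅S, S⁆ := by
        rw [Subgroup.map_commutator, FTGlue54.map_conj_of_mem hs]
      exact h1.le ⟨y, hy, rfl⟩
    exact ⟨key s hs y, fun h => by simpa [mul_assoc] using key s⁻¹ (inv_mem hs) _ h⟩
  have key : ∀ k : ℕ, ∃ y ∈ ⁅S, S⁆, z ^ k = y * w ^ k := by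
    intro k
    induction k with
    | zero => exact ⟨1, one_mem _, by simp⟩
    | succ k ih =>
      obtain ⟨y, hy, ey⟩ := ih
      refine ⟨y * (w ^ k * d * (w ^ k)⁻¹), mul_mem hy
        ((Subgroup.mem_normalizer_iff.1 (hnorm (pow_mem (C.hSP.W₁_compl.2.1 hw) k)) d).1 hd), ?_⟩
      rw [pow_succ, ey, e, pow_succ]
      group
  obtain ⟨y, hy, ey⟩ := key (orderOf z)
  rw [pow_orderOf_eq_one] at ey
  have hm : w ^ orderOf z ∈ ⁅S, S⁆ ⊓ W1 := by
    refine Subgroup.mem_inf.2 ⟨?_, pow_mem hw _⟩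
    rw [show w ^ orderOf z = y⁻¹ by rw [eq_inv_iff_mul_eq_one, ← mul_eq_one_comm, ← ey]]
    exact inv_mem hy
  rw [C.hSP.W₁_compl.2.2.1, Subgroup.mem_bot] at hm
  have hw1 : w = 1 := orderOf_eq_one_iff.1 (Nat.eq_one_of_dvd_coprimes ho
    (orderOf_dvd_of_pow_eq_one hm) (Subgroup.orderOf_dvd_natCard _ hw))
  rw [e, hw1, mul_one]
  exact hd

end Cfsg.Agent.PF14Setup54
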