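import Mathlib
import Cfsg.Agent.Lib.PF14Setup54
import Cfsg.Agent.Lib.PF14Ineq54
import Cfsg.Agent.Lib.CyclicTIExist

/-!
Peterfalvi 14, the basic inequality over the regions attached to the pair of subgroups of type P.
-/

set_option autoImplicit false
set_option linter.unusedSectionVars false

open scoped ComplexConjugate

namespace Cfsg.Agent.PF14Core54

open CharBasic CharBasicOrth CharBasicDecomp CyclicTI PF14Ineq54 PF14Setup54

variable {G : Type*} [Group G] [Fintype G]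
variable {S T W1 W2 U V : Subgroup G}

theorem indFun_comp_congr {H K : Subgroup G} (h : H = K) (f : ↥K → ℂ) :
    Cfsg.indFun K f = Cfsg.indFun H (fun x => f (MulEquiv.subgroupCongr h x)) := by
  subst h; rfl

/-- The identification of `W1 ⊔ W2` with `W2 ⊔ W1`. -/
def swapEquiv (W1 W2 : Subgroup G) : ↥(W1 ⊔ W2) ≃* ↥(W2 ⊔ W1) := MulEquiv.subgroupCongr (sup_comm W1 W2)

theorem swapEquiv_coe (x : ↥(W1 ⊔ W2)) : (swapEquiv W1 W2 x : G) = (x : G) := rfl

/-- The family indexed from the other side. -/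
def swapFam (χ : (↥(W1 ⊔ W2) →* ℂˣ) → (G → ℂ)) : (↥(W2 ⊔ W1) →* ℂˣ) → (G → ℂ) :=
  fun ω => χ (ω.comp (swapEquiv W1 W2).toMonoidHom)

theorem swap_inj {ω ω' : ↥(W2 ⊔ W1) →* ℂˣ}
    (h : ω.comp (swapEquiv W1 W2).toMonoidHom = ω'.comp (swapEquiv W1 W2).toMonoidHom) : ω = ω' :=
  MonoidHom.ext fun y => by
    have := DFunLike.congr_fun h ((swapEquiv W1 W2).symm y)
    simpa using this

theorem swapFam_family {χ : (↥(W1 ⊔ W2) →* ℂˣ) → (G → ℂ)} (hχ : Cfsg.IsCyclicTIFamily W1 W2 χ) :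
    Cfsg.IsCyclicTIFamily W2 W1 (swapFam χ) where
  irr_or_neg ω := hχ.irr_or_neg _
  orthonormal ω ω' := by
    classical
    rw [show Cfsg.classInner (swapFam χ ω) (swapFam χ ω') = _ from hχ.orthonormal _ _]
    split_ifs with a b b
    · rfl
    · exact absurd (swap_inj a) b
    · exact absurd (by rw [b]) a
    · rfl
  map_one := hχ.map_one
  eq_on ω w h2 h1 := by
    have h := hχ.eq_on (ω.comp (swapEquiv W1 W2).toMonoidHom) ((swapEquiv W1 W2).symm w) h1 h2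
    simp only [MonoidHom.comp_apply, MulEquiv.coe_toMonoidHom, MulEquiv.apply_symm_apply] at h
    exact h
  induced_eq φ ψ hφ hψ hφ1 hψ2 := by
    have h := hχ.induced_eq (ψ.comp (swapEquiv W1 W2).toMonoidHom) (φ.comp (swapEquiv W1 W2).toMonoidHom)
      (fun e => hψ (swap_inj (e.trans (MonoidHom.one_comp _).symm)))
      (fun e => hφ (swap_inj (e.trans (MonoidHom.one_comp _).symm)))
      (fun w hw => hψ2 _ hw) (fun w hw => hφ1 _ hw)
    rw [indFun_comp_congr (sup_comm W1 W2)]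
    calc _ = Cfsg.indFun (W1 ⊔ W2) (fun w => 1 - ((ψ.comp (swapEquiv W1 W2).toMonoidHom) w : ℂ)
          - ((φ.comp (swapEquiv W1 W2).toMonoidHom) w : ℂ) +
          ((ψ.comp (swapEquiv W1 W2).toMonoidHom) w : ℂ) *
          ((φ.comp (swapEquiv W1 W2).toMonoidHom) w : ℂ)) := by
            congr 1
            funext w
            show (1 : ℂ) - (φ (swapEquiv W1 W2 w) : ℂ) - (ψ (swapEquiv W1 W2 w) : ℂ) +
              (φ (swapEquiv W1 W2 w) : ℂ) * (ψ (swapEquiv W1 W2 w) : ℂ) = _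
            simp only [MonoidHom.comp_apply, MulEquiv.coe_toMonoidHom]
            ring
      _ = _ := h
      _ = _ := by
            funext g
            simp only [swapFam]
            rw [show (ψ.comp (swapEquiv W1 W2).toMonoidHom) * φ.comp (swapEquiv W1 W2).toMonoidHom =
              (φ * ψ).comp (swapEquiv W1 W2).toMonoidHom from MonoidHom.ext fun w => by
                simp [mul_comm]]
            ring

/-! ## Three sets -/

open Classical in
/-- Nontrivial elements of a subgroup. -/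
noncomputable def sharp (K : Subgroup G) : Finset G := Finset.univ.filter fun g => g ∈ K ∧ g ≠ 1

open Classical in
/-- Elements of `W` outside both factors. -/
noncomputable def hat (W1 W2 : Subgroup G) : Finset G :=
  Finset.univ.filter fun g => g ∈ W1 ⊔ W2 ∧ g ∉ W1 ∧ g ∉ W2

theorem mem_sharp {K : Subgroup G} {g : G} : g ∈ sharp K ↔ g ∈ K ∧ g ≠ 1 := by
  classical
  simp [sharp]

theorem mem_hat {g : G} : g ∈ hat W1 W2 ↔ g ∈ W1 ⊔ W2 ∧ g ∉ W1 ∧ g ∉ W2 := by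
  classical
  simp [hat]

theorem closed_sharp (K : Subgroup G) : Closed (sharp K) := by
  intro g hg a ha
  rw [mem_sharp] at hg ⊢
  refine ⟨Subgroup.zpowers_le.1 (ha ▸ Subgroup.zpowers_le.2 hg.1), fun e => hg.2 ?_⟩
  subst e
  rw [Subgroup.zpowers_one_eq_bot] at ha
  exact Subgroup.zpowers_eq_bot.1 ha.symm

theorem closed_hat : Closed (hat W1 W2) := by
  intro g hg a ha
  rw [mem_hat] at hg ⊢
  have key : ∀ K : Subgroup G, a ∈ K ↔ g ∈ K := fun K => by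
    rw [← Subgroup.zpowers_le, ← Subgroup.zpowers_le, ha]
  simpa only [key] using hg

theorem pow_p_of_mem_P (C : Pair S T W1 W2 U V) {x : G} (hx : x ∈ Cfsg.fittingHallOf S) :
    x ^ Nat.card W2 = 1 := C.elemS.2 x hx

theorem hat_pow (C : Pair S T W1 W2 U V) {g : G} (hg : g ∈ hat W1 W2) :
    g ^ Nat.card W2 ≠ 1 ∧ g ^ Nat.card W1 ≠ 1 := by
  have hW := C.hSP.selfNormalizing
  have hd := hdisj hW
  have hc := hcomm hW
  rw [mem_hat] at hg
  have hco : (Nat.card W1).Coprime (Nat.card W2) :=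
    (Nat.coprime_primes C.prime_q C.prime_p).2 C.p_ne_q.symm
  set w : ↥(W1 ⊔ W2) := ⟨g, hg.1⟩ with hw
  constructor
  · intro h
    refine proj₁_ne_one hd hc (w := w) hg.2.2 (orderOf_eq_one_iff.1 (Nat.eq_one_of_dvd_coprimes hco ?_ ?_))
    · rw [← orderOf_submonoid]; exact Subgroup.orderOf_dvd_natCard _ (proj₁_mem hd hc w)
    · refine orderOf_dvd_of_pow_eq_one ?_
      rw [← map_pow, show w ^ Nat.card W2 = 1 from Subtype.ext (by rw [Subgroup.coe_pow]; exact h), map_one]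
  · intro h
    refine proj₂_ne_one hd hc (w := w) hg.2.1 (orderOf_eq_one_iff.1 (Nat.eq_one_of_dvd_coprimes hco.symm ?_ ?_))
    · rw [← orderOf_submonoid]; exact Subgroup.orderOf_dvd_natCard _ (proj₂_mem hd hc w)
    · refine orderOf_dvd_of_pow_eq_one ?_
      rw [← map_pow, show w ^ Nat.card W1 = 1 from Subtype.ext (by rw [Subgroup.coe_pow]; exact h), map_one]

theorem hat_pow_pq (C : Pair S T W1 W2 U V) {g : G} (hg : g ∈ hat W1 W2) :
    g ^ (Nat.card W2 * Nat.card W1) = 1 := by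
  have hW := C.hSP.selfNormalizing
  rw [mem_hat] at hg
  set w : ↥(W1 ⊔ W2) := ⟨g, hg.1⟩ with hw
  have hcard : Nat.card W1 * Nat.card W2 = Nat.card ↥(W1 ⊔ W2) := by
    rw [← Nat.card_prod]
    exact Nat.card_congr (Equiv.ofBijective _ (prodHom_bijective (hdisj hW) (hcomm hW)))
  have h := congrArg Subtype.val (pow_card_eq_one' (x := w))
  rw [Subgroup.coe_pow, ← hcard, mul_comm] at h
  exact h

theorem pow_conj_invariant {m : ℕ} {z g : G} : (z * g * z⁻¹) ^ m = 1 ↔ g ^ m = 1 := by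
  rw [conj_pow]
  constructor
  · intro h
    have := congrArg (fun t => z⁻¹ * t * z) h
    simpa [mul_assoc] using this
  · intro h; simp [h]

theorem sharp_region_wt (C : Pair S T W1 W2 U V) {x : G → ℂ} (hx : Cfsg.IsClassFunction G x) (s : ℝ) :
    ∑ g ∈ PF13Tools8.region (sharp (Cfsg.fittingHallOf S)), wt x s g =
      (Nat.card G : ℝ) * (∑ t ∈ sharp (Cfsg.fittingHallOf S), wt x s t) / (Nat.card S : ℝ) := by
  refine region_wt hx s S _ (fun y t ht hy => ?_) (fun n hn t ht => ?_)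
  · rw [mem_sharp] at ht hy
    exact C.ti ht.1 ht.2 hy.1
  · rw [mem_sharp] at ht ⊢
    exact ⟨C.conj_mem hn ht.1, fun e => ht.2 (by simpa [mul_inv_eq_one] using e)⟩

theorem hat_region_wt (C : Pair S T W1 W2 U V) {x : G → ℂ} (hx : Cfsg.IsClassFunction G x) (s : ℝ) :
    ∑ g ∈ PF13Tools8.region (hat W1 W2), wt x s g =
      (Nat.card G : ℝ) * (∑ t ∈ hat W1 W2, wt x s t) / (Nat.card ↥(W1 ⊔ W2) : ℝ) := by
  refine region_wt hx s (W1 ⊔ W2) _ (fun y t ht hy => ?_) (fun n hn t ht => ?_)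
  · rw [mem_hat] at ht hy
    by_contra hn
    have := CyclicTI.ti C.hSP.selfNormalizing y hn t ⟨ht.1, fun h => h.elim ht.2.1 ht.2.2⟩
      ⟨hy.1, fun h => h.elim hy.2.1 hy.2.2⟩
    exact ht.2.1 (this ▸ one_mem W1)
  · have ht' := mem_hat.1 ht
    have e : n * t * n⁻¹ = t := by
      have := congrArg Subtype.val (CyclicTI.comm C.hSP.selfNormalizing ⟨n, hn⟩ ⟨t, ht'.1⟩)
      simp only [Subgroup.coe_mul] at this
      rw [this]; group
    rw [e]; exact ht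

theorem sum_sharp_eq (K : Subgroup G) [Fintype ↥K] [DecidableEq ↥K] (F : G → ℝ) :
    ∑ t ∈ sharp K, F t = ∑ k ∈ (Finset.univ : Finset ↥K).erase 1, F k := by
  classical
  refine Finset.sum_bij' (fun t ht => (⟨t, (mem_sharp.1 ht).1⟩ : ↥K)) (fun k _ => (k : G))
    (fun t ht => ?_) (fun k hk => ?_) (fun _ _ => rfl) (fun _ _ => rfl) (fun _ _ => rfl)
  · exact Finset.mem_erase.2 ⟨fun e => (mem_sharp.1 ht).2 (congrArg Subtype.val e), Finset.mem_univ _⟩
  · exact mem_sharp.2 ⟨k.2, fun e => (Finset.mem_erase.1 hk).1 (Subtype.ext e)⟩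

open Classical in
theorem sum_hom_sharp {W : Subgroup G} (ω : ↥W →* ℂˣ) (K : Subgroup G) (hK : K ≤ W) [Fintype ↥K] :
    ∑ k ∈ (Finset.univ : Finset ↥K).erase 1, (ω (Subgroup.inclusion hK k) : ℂ) =
      (if ∀ w : ↥W, (w : G) ∈ K → ω w = 1 then (Nat.card K : ℂ) - 1 else -1) := by
  rw [Finset.sum_erase_eq_sub (Finset.mem_univ _), map_one, map_one, Units.val_one]
  have h := sum_hom_units ((Units.coeHom ℂ).comp (ω.comp (Subgroup.inclusion hK)))
  simp only [MonoidHom.comp_apply, Units.coeHom_apply] at h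
  rw [h]
  have hiff : (Units.coeHom ℂ).comp (ω.comp (Subgroup.inclusion hK)) = 1 ↔
      ∀ w : ↥W, (w : G) ∈ K → ω w = 1 := by
    constructor
    · intro e w hw
      have := DFunLike.congr_fun e ⟨(w : G), hw⟩
      exact Units.ext this
    · intro e
      refine MonoidHom.ext fun k => ?_
      show ((ω (Subgroup.inclusion hK k) : ℂˣ) : ℂ) = 1
      rw [e _ k.2]
      rfl
  by_cases hω : ∀ w : ↥W, (w : G) ∈ K → ω w = 1
  · rw [if_pos hω, if_pos (hiff.2 hω), Nat.card_eq_fintype_card]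
  · rw [if_neg hω, if_neg (mt hiff.1 hω), Nat.cast_zero, zero_sub]

open Classical in
/-- The weights on `W` outside both factors. -/
theorem hat_sum (C : Pair S T W1 W2 U V) {χ : (↥(W1 ⊔ W2) →* ℂˣ) → (G → ℂ)}
    (hχ : Cfsg.IsCyclicTIFamily W1 W2 χ) (ω : ↥(W1 ⊔ W2) →* ℂˣ) (s : ℝ) :
    ∑ t ∈ hat W1 W2, wt (χ ω) s t =
      ((Nat.card W1 : ℝ) - 1) * ((Nat.card W2 : ℝ) - 1) +
        s * ((if TrivOn W1 ω then (Nat.card W1 : ℝ) - 1 else -1) *
          (if TrivOn W2 ω then (Nat.card W2 : ℝ) - 1 else -1)) := by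
  haveI : Fintype ↥W1 := Fintype.ofFinite _
  haveI : Fintype ↥W2 := Fintype.ofFinite _
  have hW := C.hSP.selfNormalizing
  have hd := hdisj hW
  have hc := hcomm hW
  let i1 : ↥W1 →* ↥(W1 ⊔ W2) := Subgroup.inclusion le_sup_left
  let i2 : ↥W2 →* ↥(W1 ⊔ W2) := Subgroup.inclusion le_sup_right
  have e : ∑ t ∈ hat W1 W2, wt (χ ω) s t =
      ∑ z ∈ ((Finset.univ : Finset ↥W1).erase 1) ×ˢ ((Finset.univ : Finset ↥W2).erase 1),
        (1 + s * (((ω (i1 z.1) : ℂ) * (ω (i2 z.2) : ℂ))).re) := by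
    symm
    refine Finset.sum_bij (fun z _ => (z.1 : G) * z.2) (fun z hz => ?_) (fun z _ z' _ h => ?_)
      (fun t ht => ?_) (fun z hz => ?_)
    · rw [Finset.mem_product, Finset.mem_erase, Finset.mem_erase] at hz
      rw [mem_hat]
      refine ⟨mul_mem (Subgroup.mem_sup_left z.1.2) (Subgroup.mem_sup_right z.2.2), fun h => ?_, fun h => ?_⟩
      · exact hz.2.1 (Subtype.ext (Subgroup.mem_bot.1 (hd ▸ (⟨by simpa using mul_mem (inv_mem z.1.2) h, z.2.2⟩ :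
          (z.2 : G) ∈ W1 ⊓ W2))))
      · exact hz.1.1 (Subtype.ext (Subgroup.mem_bot.1 (hd ▸ (⟨z.1.2, by simpa using mul_mem h (inv_mem z.2.2)⟩ :
          (z.1 : G) ∈ W1 ⊓ W2))))
    · exact (prodHom_bijective hd hc).1 (Subtype.ext h)
    · rw [mem_hat] at ht
      obtain ⟨z, hz⟩ := (prodHom_bijective hd hc).2 ⟨t, ht.1⟩
      have hzt : (z.1 : G) * z.2 = t := congrArg Subtype.val hz
      refine ⟨z, Finset.mem_product.2 ⟨Finset.mem_erase.2 ⟨fun e => ?_, Finset.mem_univ _⟩,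
        Finset.mem_erase.2 ⟨fun e => ?_, Finset.mem_univ _⟩⟩, hzt⟩
      · rw [e, Subgroup.coe_one, one_mul] at hzt
        exact ht.2.2 (hzt ▸ z.2.2)
      · rw [e, Subgroup.coe_one, mul_one] at hzt
        exact ht.2.1 (hzt ▸ z.1.2)
    · rw [Finset.mem_product, Finset.mem_erase, Finset.mem_erase] at hz
      have h1 : (z.1 : G) * z.2 ∉ W1 := fun h =>
        hz.2.1 (Subtype.ext (Subgroup.mem_bot.1 (hd ▸ (⟨by simpa using mul_mem (inv_mem z.1.2) h, z.2.2⟩ :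
          (z.2 : G) ∈ W1 ⊓ W2))))
      have h2 : (z.1 : G) * z.2 ∉ W2 := fun h =>
        hz.1.1 (Subtype.ext (Subgroup.mem_bot.1 (hd ▸ (⟨z.1.2, by simpa using mul_mem h (inv_mem z.2.2)⟩ :
          (z.1 : G) ∈ W1 ⊓ W2))))
      have hval : χ ω ((z.1 : G) * z.2) = (ω (i1 z.1) : ℂ) * (ω (i2 z.2) : ℂ) := by
        rw [← Units.val_mul, ← map_mul]
        exact hχ.eq_on ω (i1 z.1 * i2 z.2) h1 h2
      simp only [wt, hval]
      have hn : ∀ y : ↥(W1 ⊔ W2), ‖(ω y : ℂ)‖ = 1 := fun y => by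
        refine Complex.norm_eq_one_of_pow_eq_one (n := Nat.card ↥(W1 ⊔ W2)) ?_ Nat.card_pos.ne'
        rw [← Units.val_pow_eq_pow_val, ← map_pow, pow_card_eq_one', map_one, Units.val_one]
      rw [norm_mul, hn, hn]
      ring
  rw [e, Finset.sum_add_distrib, Finset.sum_const, nsmul_eq_mul, mul_one, ← Finset.mul_sum,
    ← Complex.re_sum, Finset.sum_product]
  simp only []
  rw [← Finset.sum_mul_sum, sum_hom_sharp ω W1 le_sup_left,
    sum_hom_sharp ω W2 le_sup_right, Finset.card_product, Finset.card_erase_of_mem (Finset.mem_univ _),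
    Finset.card_erase_of_mem (Finset.mem_univ _), Finset.card_univ, Finset.card_univ,
    ← Nat.card_eq_fintype_card, ← Nat.card_eq_fintype_card]
  push_cast [Nat.cast_sub (Nat.one_le_iff_ne_zero.2 (Nat.card_pos (α := ↥W1)).ne'),
    Nat.cast_sub (Nat.one_le_iff_ne_zero.2 (Nat.card_pos (α := ↥W2)).ne')]
  unfold TrivOn
  split_ifs <;>
    simp only [Complex.mul_re, Complex.sub_re, Complex.sub_im, Complex.neg_re, Complex.neg_im,
      Complex.natCast_re, Complex.natCast_im, Complex.one_re, Complex.one_im] <;> ring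

theorem P_pow_q (C : Pair S T W1 W2 U V) {x : G} (hx1 : x ≠ 1)
    (hp : x ^ Nat.card W2 = 1) (hq : x ^ Nat.card W1 = 1) : False := by
  have h := pow_gcd_eq_one.2 ⟨hp, hq⟩
  rw [(Nat.coprime_primes C.prime_p C.prime_q).2 C.p_ne_q, pow_one] at h
  exact hx1 h

/-- The basic inequality, with an extra closed set `E` avoiding the elements of order dividing `p q`. -/
theorem basic (C : Pair S T W1 W2 U V) {x : G → ℂ}
    (hx : Cfsg.IsIrrCharacter G x ∨ Cfsg.IsIrrCharacter G (-x)) (hn : Cfsg.classInner x x = 1)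
    (h1 : Cfsg.classInner x (fun _ => 1) = 0) (hcls : Cfsg.IsClassFunction G x)
    (s : ℝ) (hs : s = 1 ∨ s = -1) {E : Finset G} (hE : Closed E)
    (hEo : ∀ g ∈ E, g ^ (Nat.card W2 * Nat.card W1) ≠ 1) :
    (∑ t ∈ sharp (Cfsg.fittingHallOf S), wt x s t) / (Nat.card S : ℝ) +
      (∑ t ∈ sharp (Cfsg.fittingHallOf T), wt x s t) / (Nat.card T : ℝ) +
      (∑ t ∈ hat W1 W2, wt x s t) / (Nat.card ↥(W1 ⊔ W2) : ℝ) +
      (∑ g ∈ E, wt x s g) / (Nat.card G : ℝ) ≤ 1 := by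
  classical
  set RS := PF13Tools8.region (sharp (Cfsg.fittingHallOf S)) with hRS
  set RT := PF13Tools8.region (sharp (Cfsg.fittingHallOf T)) with hRT
  set RW := PF13Tools8.region (hat W1 W2) with hRW
  have iS : ∀ g ∈ RS, g ^ Nat.card W2 = 1 ∧ g ≠ 1 := fun g hg => by
    obtain ⟨z, hz⟩ := PF13Tools8.mem_region.1 hg
    rw [mem_sharp] at hz
    exact ⟨pow_conj_invariant.1 (pow_p_of_mem_P C hz.1), fun e => hz.2 (by simp [e])⟩
  have iT : ∀ g ∈ RT, g ^ Nat.card W1 = 1 ∧ g ≠ 1 := fun g hg => by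
    obtain ⟨z, hz⟩ := PF13Tools8.mem_region.1 hg
    rw [mem_sharp] at hz
    exact ⟨pow_conj_invariant.1 (pow_p_of_mem_P C.symm hz.1), fun e => hz.2 (by simp [e])⟩
  have iW : ∀ g ∈ RW, g ^ Nat.card W2 ≠ 1 ∧ g ^ Nat.card W1 ≠ 1 ∧
      g ^ (Nat.card W2 * Nat.card W1) = 1 := fun g hg => by
    obtain ⟨z, hz⟩ := PF13Tools8.mem_region.1 hg
    exact ⟨fun h => (hat_pow C hz).1 (pow_conj_invariant.2 h),
      fun h => (hat_pow C hz).2 (pow_conj_invariant.2 h), pow_conj_invariant.1 (hat_pow_pq C hz)⟩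
  have d1 : Disjoint RS RT := Finset.disjoint_left.2 fun g h h' =>
    P_pow_q C (iS g h).2 (iS g h).1 (iT g h').1
  have d2 : Disjoint (RS ∪ RT) RW := Finset.disjoint_left.2 fun g h h' => by
    rcases Finset.mem_union.1 h with h | h
    · exact (iW g h').1 (iS g h).1
    · exact (iW g h').2.1 (iT g h).1
  have d3 : Disjoint (RS ∪ RT ∪ RW) E := Finset.disjoint_left.2 fun g h h' => by
    apply hEo g h'
    rcases Finset.mem_union.1 h with h | h
    · rcases Finset.mem_union.1 h with h | h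
      · rw [pow_mul, (iS g h).1, one_pow]
      · rw [mul_comm, pow_mul, (iT g h).1, one_pow]
    · exact (iW g h).2.2
  have hclosed : Closed (RS ∪ RT ∪ RW ∪ E) :=
    closed_union (closed_union (closed_union (closed_region (closed_sharp _))
      (closed_region (closed_sharp _))) (closed_region closed_hat)) hE
  have h := sum_le hx hn h1 s hs hclosed
  rw [Finset.sum_union d3, Finset.sum_union d2, Finset.sum_union d1, hRS, hRT, hRW,
    sharp_region_wt C hcls s, sharp_region_wt C.symm hcls s, hat_region_wt C hcls s] at h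
  have hG : (0 : ℝ) < Nat.card G := Nat.cast_pos.2 Nat.card_pos
  have key := div_le_div_of_nonneg_right h hG.le
  rw [div_self hG.ne'] at key
  refine le_trans (le_of_eq ?_) key
  field_simp

theorem card_W (C : Pair S T W1 W2 U V) :
    Nat.card ↥(W1 ⊔ W2) = Nat.card W1 * Nat.card W2 := by
  rw [← Nat.card_prod]
  exact (Nat.card_congr (Equiv.ofBijective _
    (prodHom_bijective (hdisj C.hSP.selfNormalizing) (hcomm C.hSP.selfNormalizing)))).symm

theorem mass_sharp (C : Pair S T W1 W2 U V) {χ : (↥(W1 ⊔ W2) →* ℂˣ) → (G → ℂ)}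
    (hχ : Cfsg.IsCyclicTIFamily W1 W2 χ) (ω : ↥(W1 ⊔ W2) →* ℂˣ) (hω : ¬ TrivOn W2 ω)
    (s : ℝ) (hs : s = 1 ∨ s = -1) :
    (1 - ((Nat.card U : ℝ) + 1) / (Nat.card W2 : ℝ) ^ Nat.card W1) / (Nat.card W1 : ℝ) ≤
      (∑ t ∈ sharp (Cfsg.fittingHallOf S), wt (χ ω) s t) / (Nat.card S : ℝ) := by
  classical
  haveI : Fintype ↥(Cfsg.fittingHallOf S) := Fintype.ofFinite _
  have hω' : ∃ w : ↥(W1 ⊔ W2), (w : G) ∈ W2 ∧ ω w ≠ 1 := by
    simp only [TrivOn] at hω
    push Not at hω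
    exact hω
  have h := PF14Side54.mass C.data hχ ω hω' s hs
  rw [sum_sharp_eq]
  refine le_trans (le_of_eq ?_) (div_le_div_of_nonneg_right h (Nat.cast_nonneg _))
  rw [C.card_self]
  push_cast
  have hu : (Nat.card U : ℝ) ≠ 0 := Nat.cast_ne_zero.2 Nat.card_pos.ne'
  have hN : (Nat.card W2 : ℝ) ^ Nat.card W1 ≠ 0 := pow_ne_zero _ (Nat.cast_ne_zero.2 Nat.card_pos.ne')
  have hq : (Nat.card W1 : ℝ) ≠ 0 := Nat.cast_ne_zero.2 Nat.card_pos.ne'
  field_simp
  ring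

theorem mass_sharp' (C : Pair S T W1 W2 U V) {χ : (↥(W1 ⊔ W2) →* ℂˣ) → (G → ℂ)}
    (hχ : Cfsg.IsCyclicTIFamily W1 W2 χ) (ω : ↥(W1 ⊔ W2) →* ℂˣ) (hω : ¬ TrivOn W1 ω)
    (s : ℝ) (hs : s = 1 ∨ s = -1) :
    (1 - ((Nat.card V : ℝ) + 1) / (Nat.card W1 : ℝ) ^ Nat.card W2) / (Nat.card W2 : ℝ) ≤
      (∑ t ∈ sharp (Cfsg.fittingHallOf T), wt (χ ω) s t) / (Nat.card T : ℝ) := by
  have h := mass_sharp C.symm (swapFam_family hχ) (ω.comp (swapEquiv W2 W1).toMonoidHom)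
    (fun h => hω fun w hw => h ((swapEquiv W2 W1).symm w) hw) s hs
  exact h

theorem eta_props (C : Pair S T W1 W2 U V) {χ : (↥(W1 ⊔ W2) →* ℂˣ) → (G → ℂ)}
    (hχ : Cfsg.IsCyclicTIFamily W1 W2 χ) {ω : ↥(W1 ⊔ W2) →* ℂˣ} (hω : ω ≠ 1) :
    Cfsg.classInner (χ ω) (χ ω) = 1 ∧ Cfsg.classInner (χ ω) (fun _ => 1) = 0 ∧
      Cfsg.IsClassFunction G (χ ω) := by
  classical
  refine ⟨by rw [hχ.orthonormal, if_pos rfl], by rw [← hχ.map_one, hχ.orthonormal, if_neg hω],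
    PF13Cols8.cls (C.data.ctx hχ) ω⟩

/-- A character nontrivial on both factors. -/
theorem ineq_full (C : Pair S T W1 W2 U V) {χ : (↥(W1 ⊔ W2) →* ℂˣ) → (G → ℂ)}
    (hχ : Cfsg.IsCyclicTIFamily W1 W2 χ) {ω : ↥(W1 ⊔ W2) →* ℂˣ} (h1 : ¬ TrivOn W1 ω) (h2 : ¬ TrivOn W2 ω)
    {E : Finset G} (hE : Closed E) (hEo : ∀ g ∈ E, g ^ (Nat.card W2 * Nat.card W1) ≠ 1) :
    2 + (Nat.card W2 : ℝ) * (Nat.card W1 : ℝ) * ((∑ g ∈ E, wt (χ ω) 1 g) / (Nat.card G : ℝ)) ≤
      (Nat.card W2 : ℝ) * ((Nat.card U : ℝ) + 1) / (Nat.card W2 : ℝ) ^ Nat.card W1 +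
        (Nat.card W1 : ℝ) * ((Nat.card V : ℝ) + 1) / (Nat.card W1 : ℝ) ^ Nat.card W2 := by
  classical
  have hω1 : ω ≠ 1 := fun e => h1 (e ▸ trivOn_one _)
  obtain ⟨hn, h0, hc⟩ := eta_props C hχ hω1
  have hb := basic C (hχ.irr_or_neg ω) hn h0 hc 1 (Or.inl rfl) hE hEo
  have hS := mass_sharp C hχ ω h2 1 (Or.inl rfl)
  have hT := mass_sharp' C hχ ω h1 1 (Or.inl rfl)
  rw [hat_sum C hχ ω 1, if_neg h1, if_neg h2, card_W C] at hb
  push_cast at hb
  set p : ℝ := (Nat.card W2 : ℝ) with hpd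
  set q : ℝ := (Nat.card W1 : ℝ) with hqd
  have hp : 0 < p := Nat.cast_pos.2 Nat.card_pos
  have hq : 0 < q := Nat.cast_pos.2 Nat.card_pos
  have hsum : (1 - ((Nat.card U : ℝ) + 1) / p ^ Nat.card W1) / q +
      (1 - ((Nat.card V : ℝ) + 1) / q ^ Nat.card W2) / p +
      ((q - 1) * (p - 1) + 1 * (-1 * -1)) / (q * p) + (∑ g ∈ E, wt (χ ω) 1 g) / (Nat.card G : ℝ) ≤ 1 := by
    linarith
  have := mul_le_mul_of_nonneg_left hsum (mul_pos hp hq).le
  have e : p * q * ((1 - ((Nat.card U : ℝ) + 1) / p ^ Nat.card W1) / q +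
      (1 - ((Nat.card V : ℝ) + 1) / q ^ Nat.card W2) / p +
      ((q - 1) * (p - 1) + 1 * (-1 * -1)) / (q * p) + (∑ g ∈ E, wt (χ ω) 1 g) / (Nat.card G : ℝ)) =
      p * q + 2 + p * q * ((∑ g ∈ E, wt (χ ω) 1 g) / (Nat.card G : ℝ)) -
        p * ((Nat.card U : ℝ) + 1) / p ^ Nat.card W1 - q * ((Nat.card V : ℝ) + 1) / q ^ Nat.card W2 := by
    field_simp
    ring
  rw [e] at this
  linarith

/-- A character trivial on `W2` only. -/
theorem ineq_row (C : Pair S T W1 W2 U V) {χ : (↥(W1 ⊔ W2) →* ℂˣ) → (G → ℂ)}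
    (hχ : Cfsg.IsCyclicTIFamily W1 W2 χ) {ω : ↥(W1 ⊔ W2) →* ℂˣ} (h1 : ¬ TrivOn W1 ω) (h2 : TrivOn W2 ω)
    {E : Finset G} (hE : Closed E) (hEo : ∀ g ∈ E, g ^ (Nat.card W2 * Nat.card W1) ≠ 1) :
    (Nat.card W2 : ℝ) * (Nat.card W1 : ℝ) * ((∑ g ∈ E, wt (χ ω) (-1) g) / (Nat.card G : ℝ)) ≤
        (Nat.card W1 : ℝ) * ((Nat.card V : ℝ) + 1) / (Nat.card W1 : ℝ) ^ Nat.card W2 := by
  classical
  have hω1 : ω ≠ 1 := fun e => h1 (e ▸ trivOn_one _)
  obtain ⟨hn, h0, hc⟩ := eta_props C hχ hω1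
  have hb := basic C (hχ.irr_or_neg ω) hn h0 hc (-1) (Or.inr rfl) hE hEo
  have hT := mass_sharp' C hχ ω h1 (-1) (Or.inr rfl)
  have hS : 0 ≤ (∑ t ∈ sharp (Cfsg.fittingHallOf S), wt (χ ω) (-1) t) / (Nat.card S : ℝ) :=
    div_nonneg (closed_nonneg (hχ.irr_or_neg ω) (-1) (Or.inr rfl) (closed_sharp _)) (Nat.cast_nonneg _)
  rw [hat_sum C hχ ω (-1), if_neg h1, if_pos h2, card_W C] at hb
  push_cast at hb
  set p : ℝ := (Nat.card W2 : ℝ) with hpd
  set q : ℝ := (Nat.card W1 : ℝ) with hqd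
  have hp : 0 < p := Nat.cast_pos.2 Nat.card_pos
  have hq : 0 < q := Nat.cast_pos.2 Nat.card_pos
  have hsum : (1 - ((Nat.card V : ℝ) + 1) / q ^ Nat.card W2) / p +
      ((q - 1) * (p - 1) + -1 * (-1 * (p - 1))) / (q * p) +
      (∑ g ∈ E, wt (χ ω) (-1) g) / (Nat.card G : ℝ) ≤ 1 := by
    linarith
  have := mul_le_mul_of_nonneg_left hsum (mul_pos hp hq).le
  have e : p * q * ((1 - ((Nat.card V : ℝ) + 1) / q ^ Nat.card W2) / p +
      ((q - 1) * (p - 1) + -1 * (-1 * (p - 1))) / (q * p) +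
      (∑ g ∈ E, wt (χ ω) (-1) g) / (Nat.card G : ℝ)) =
      p * q + p * q * ((∑ g ∈ E, wt (χ ω) (-1) g) / (Nat.card G : ℝ)) -
        q * ((Nat.card V : ℝ) + 1) / q ^ Nat.card W2 := by
    field_simp
    ring
  rw [e] at this
  linarith

/-! ## The orders of `U` and `V` -/

theorem upper {p q u n : ℕ} {c : ℝ} (hp : 2 ≤ p) (hq : 3 ≤ q) (hn : n * (p - 1) + 1 = p ^ q)
    (hu : (u : ℝ) ≤ c * n) (hc0 : 0 ≤ c) (hc : c ≤ 1) :
    (p : ℝ) * ((u : ℝ) + 1) / (p : ℝ) ^ q ≤ c * ((p : ℝ) / ((p : ℝ) - 1)) + (p : ℝ) / (p : ℝ) ^ q := by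
  have hp' : (2 : ℝ) ≤ p := by exact_mod_cast hp
  have hN : (0 : ℝ) < (p : ℝ) ^ q := by positivity
  have hn' : (n : ℝ) * ((p : ℝ) - 1) + 1 = (p : ℝ) ^ q := by
    have : ((n * (p - 1) + 1 : ℕ) : ℝ) = ((p ^ q : ℕ) : ℝ) := by rw [hn]
    push_cast [Nat.cast_sub (by omega : 1 ≤ p)] at this
    exact this
  rw [mul_add, mul_one, add_div]
  refine add_le_add ?_ le_rfl
  rw [div_le_iff₀ hN]
  have h1 : (n : ℝ) ≤ (p : ℝ) ^ q / ((p : ℝ) - 1) := by
    rw [le_div_iff₀ (by linarith)]; linarith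
  calc (p : ℝ) * u ≤ (p : ℝ) * (c * ((p : ℝ) ^ q / ((p : ℝ) - 1))) :=
        mul_le_mul_of_nonneg_left (hu.trans (mul_le_mul_of_nonneg_left h1 hc0)) (by linarith)
    _ = c * ((p : ℝ) / ((p : ℝ) - 1)) * (p : ℝ) ^ q := by ring

theorem ratio_le {p k : ℕ} (hk : 2 ≤ k) (hp : k ≤ p) : (p : ℝ) / ((p : ℝ) - 1) ≤ (k : ℝ) / ((k : ℝ) - 1) := by
  have h1 : (2 : ℝ) ≤ k := by exact_mod_cast hk
  have h2 : (k : ℝ) ≤ p := by exact_mod_cast hp
  rw [div_le_div_iff₀ (by linarith) (by linarith)]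
  nlinarith

theorem small_le {p q a b : ℕ} (ha : 1 ≤ a) (hb : 1 ≤ b) (hp : a ≤ p) (hq : b ≤ q) :
    (p : ℝ) / (p : ℝ) ^ q ≤ 1 / (a : ℝ) ^ (b - 1) := by
  have hp0 : (0 : ℝ) < p := by exact_mod_cast (by omega : 0 < p)
  have ha0 : (0 : ℝ) < a := by exact_mod_cast (by omega : 0 < a)
  rw [div_le_div_iff₀ (by positivity) (by positivity), one_mul]
  have h : a ^ (b - 1) * p ≤ p ^ q := by
    calc a ^ (b - 1) * p ≤ p ^ (b - 1) * p := Nat.mul_le_mul_right _ (Nat.pow_le_pow_left hp _)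
      _ = p ^ b := by rw [← pow_succ]; congr 1; omega
      _ ≤ p ^ q := Nat.pow_le_pow_right (by omega) hq
  rw [mul_comm]
  exact_mod_cast h

theorem arith {p q u v n n' : ℕ} (hp : 3 ≤ p) (hq : 3 ≤ q) (hne : 5 ≤ p ∨ 5 ≤ q)
    (hn : n * (p - 1) + 1 = p ^ q) (hn' : n' * (q - 1) + 1 = q ^ p)
    (hu : 3 * u ≤ n ∨ u = n) (hv : 3 * v ≤ n') :
    (p : ℝ) * ((u : ℝ) + 1) / (p : ℝ) ^ q + (q : ℝ) * ((v : ℝ) + 1) / (q : ℝ) ^ p < 2 := by
  have hu' : (u : ℝ) ≤ 1 * n := by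
    rw [one_mul]
    exact_mod_cast (show u ≤ n by rcases hu with h | h <;> omega)
  have hv' : (v : ℝ) ≤ 1 / 3 * n' := by
    have : ((3 * v : ℕ) : ℝ) ≤ n' := by exact_mod_cast hv
    push_cast at this
    linarith
  have h1 := upper (by omega) hq hn hu' (by norm_num) le_rfl
  have h2 := upper (by omega) hp hn' hv' (by norm_num) (by norm_num)
  rw [one_mul] at h1
  rcases hne with h5 | h5
  · have r1 := ratio_le (p := p) (by norm_num) h5
    have r2 := ratio_le (p := q) (by norm_num) hq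
    have s1 := small_le (a := 5) (b := 3) (by norm_num) (by norm_num) h5 hq
    have s2 := small_le (p := q) (q := p) (a := 3) (b := 5) (by norm_num) (by norm_num) hq h5
    norm_num at r1 r2 s1 s2
    linarith
  · have r1 := ratio_le (p := p) (by norm_num) hp
    have r2 := ratio_le (p := q) (by norm_num) h5
    have s1 := small_le (a := 3) (b := 5) (by norm_num) (by norm_num) hp h5
    have s2 := small_le (p := q) (q := p) (a := 5) (b := 3) (by norm_num) (by norm_num) h5 hp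
    norm_num at r1 r2 s1 s2
    linarith

/-- `|U|` and `|V|` are as large as possible. -/
theorem card_eq (C : Pair S T W1 W2 U V) :
    Nat.card U = (Nat.card W2 ^ Nat.card W1 - 1) / (Nat.card W2 - 1) ∧
      Nat.card V = (Nat.card W1 ^ Nat.card W2 - 1) / (Nat.card W1 - 1) := by
  classical
  haveI := CyclicTI.hom_fintype ↥(W1 ⊔ W2)
  have hW := C.hSP.selfNormalizing
  obtain ⟨χ, hχ⟩ := CyclicTIExist.exists_family hW (C.oddG.of_dvd_nat (Subgroup.card_subgroup_dvd_card _))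
  have K := C.data.ctx hχ
  have h1r : (1 : ↥(W1 ⊔ W2) →* ℂˣ) ∈ PF13Cols8.rows W1 W2 := PF13Cols8.mem_rows.2 (trivOn_one _)
  have h1c : (1 : ↥(W1 ⊔ W2) →* ℂˣ) ∈ PF13Cols8.cols W1 W2 := PF13Cols8.mem_cols.2 (trivOn_one _)
  obtain ⟨r, hr, hr1⟩ := Finset.exists_mem_ne (s := PF13Cols8.rows W1 W2)
    (by rw [PF13Cols8.card_rows K]; have := K.hq3; omega) 1
  obtain ⟨c, hc, hc1⟩ := Finset.exists_mem_ne (s := PF13Cols8.cols W1 W2)
    (by rw [PF13Cols8.card_cols K]; have := K.hp3; omega) 1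
  rw [PF13Cols8.mem_rows] at hr
  rw [PF13Cols8.mem_cols] at hc
  have hd := hdisj hW
  have hcm := hcomm hW
  have t1 : ¬ TrivOn W1 (r * c) := fun h => hr1 (eq_one_of_triv_both hd hcm (fun w hw => by
    have := h w hw
    rwa [MonoidHom.mul_apply, hc w hw, mul_one] at this) hr)
  have t2 : ¬ TrivOn W2 (r * c) := fun h => hc1 (eq_one_of_triv_both hd hcm hc (fun w hw => by
    have := h w hw
    rwa [MonoidHom.mul_apply, hr w hw, one_mul] at this))
  have key := ineq_full C hχ t1 t2 (E := ∅) (fun g hg => absurd hg (Finset.notMem_empty g))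
    (fun g hg => absurd hg (Finset.notMem_empty g))
  simp only [Finset.sum_empty, zero_div, mul_zero, add_zero] at key
  have hp3 : 3 ≤ Nat.card W2 := K.hp3
  have hq3 : 3 ≤ Nat.card W1 := K.hq3
  have hne : 5 ≤ Nat.card W2 ∨ 5 ≤ Nat.card W1 := by
    have := C.p_ne_q
    obtain ⟨a, ha⟩ := C.odd_card W2
    obtain ⟨b, hb⟩ := C.odd_card W1
    omega
  set p := Nat.card W2
  set q := Nat.card W1
  have dn : (p ^ q - 1) / (p - 1) * (p - 1) + 1 = p ^ q := by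
    rw [PF14Module54.div_mul_eq C.mod, Nat.sub_add_cancel (Nat.one_le_pow _ _ (by omega))]
  have dn' : (q ^ p - 1) / (q - 1) * (q - 1) + 1 = q ^ p := by
    rw [PF14Module54.div_mul_eq C.symm.mod, Nat.sub_add_cancel (Nat.one_le_pow _ _ (by omega))]
  have gU := PF14Module54.three_mul_le_or_eq C.mod
  have gV := PF14Module54.three_mul_le_or_eq C.symm.mod
  have hV : Nat.card V = (q ^ p - 1) / (q - 1) := by
    refine gV.resolve_left fun h => ?_
    exact absurd key (not_le.2 (arith hp3 hq3 hne dn dn' gU h))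
  refine ⟨gU.resolve_left fun h => ?_, hV⟩
  have := arith (u := Nat.card V) (v := Nat.card U) hq3 hp3 hne.symm dn' dn gV h
  linarith

end Cfsg.Agent.PF14Core54
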