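import Mathlib
import Cfsg.Agent.Lib.PFCoherentDade
import Cfsg.Agent.Lib.PF8Sets
import Cfsg.Agent.Lib.FittingHallBasic
import Cfsg.Agent.Lib.FrobeniusBasic
import Cfsg.Agent.Lib.CharBasicLinear
import Cfsg.Agent.S0161

/-!
A maximal subgroup of type I that is a Frobenius group with kernel its Fitting Hall subgroup: the coherent set
of induced characters and the vector attached to it.
-/

set_option autoImplicit false
set_option linter.unusedSectionVars false
set_option linter.style.haveILetI false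

open scoped ComplexConjugate Classical

namespace Cfsg.Agent.PF14Frob54

open Cfsg CharBasic CharBasicOrth CharBasicDecomp CoherenceBasic DadeMap PFCoherentDade PFInvDade

variable {G : Type*} [Group G] [Fintype G] {L : Subgroup G}

/-- The maximal subgroup data. -/
structure Frob (L : Subgroup G) : Prop where
  max : IsCoatom L
  typeI : Cfsg.IsOfTypeI L
  fix : ∀ x ∈ Cfsg.fittingHallOf L, x ≠ 1 → L ⊓ Subgroup.centralizer ({x} : Set G) ≤ Cfsg.fittingHallOf L
  dade : Cfsg.DadeHypothesis (Cfsg.typeA L) L (Cfsg.supportR L)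
  irr : ∀ [Fintype ↥L], ∀ χ ∈ Cfsg.inducedIrrAbove (Cfsg.fittingHall L) ⊥, Cfsg.IsIrrCharacter L χ
  coh : ∀ [Fintype ↥L], Cfsg.IsCoherent (Cfsg.inducedIrrAbove (Cfsg.fittingHall L) ⊥) {1}ᶜ
    (Cfsg.dadeIsometry (Cfsg.typeA L) L (Cfsg.supportR L))

theorem mem_fitting {a : ↥L} : (a : G) ∈ Cfsg.fittingHallOf L ↔ a ∈ Cfsg.fittingHall L :=
  Subgroup.mem_map_iff_mem L.subtype_injective

theorem mem_typeA (F : Frob L) {a : G} :
    a ∈ Cfsg.typeA L ↔ a ∈ Cfsg.fittingHallOf L ∧ a ≠ 1 := by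
  simp only [Cfsg.typeA, if_pos F.typeI, Set.mem_setOf_eq]
  constructor
  · rintro ⟨haL, ha1, x, hx, hx1, hax⟩
    exact ⟨F.fix x hx hx1 (Subgroup.mem_inf.2 ⟨haL, Subgroup.mem_centralizer_singleton_iff.2 hax⟩), ha1⟩
  · rintro ⟨ha, ha1⟩
    exact ⟨FittingHallBasic.fittingHallOf_le L ha, ha1, a, ha, ha1, rfl⟩

theorem typeA1_eq (F : Frob L) : Cfsg.typeA1 L = Cfsg.typeA L := by
  ext a
  rw [mem_typeA F, PF8Sets.mem_typeA1_iff, PF8Sets.typeCore_eq_of_typeI F.typeI]

theorem typeA_eq (F : Frob L) : Cfsg.typeA L = (Cfsg.fittingHallOf L : Set G) \ {1} := by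
  ext a
  rw [mem_typeA F, Set.mem_sdiff, Set.mem_singleton_iff, SetLike.mem_coe]

theorem ncard_A (F : Frob L) : (Cfsg.typeA L).ncard = Nat.card (Cfsg.fittingHallOf L) - 1 := by
  rw [typeA_eq F, Set.ncard_sdiff_singleton_of_mem (one_mem _), ← Nat.card_coe_set_eq]
  rfl

/-- A complement acts freely. -/
theorem dvd_sub_one (F : Frob L) {E : Subgroup G} (hE : E ≤ L) (hd : Cfsg.fittingHallOf L ⊓ E = ⊥) :
    Nat.card E ∣ Nat.card (Cfsg.fittingHallOf L) - 1 := by
  classical
  let X : Set G := (Cfsg.fittingHallOf L : Set G) \ {1}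
  have hN : ∀ (e : ↥E) (x : G), x ∈ X → (e : G) * x * (e : G)⁻¹ ∈ X := fun e x hx => by
    refine ⟨(Subgroup.mem_normalizer_iff.1 (FittingHallBasic.le_normalizer_fittingHallOf L (hE e.2)) x).1 hx.1,
      fun h => hx.2 ?_⟩
    exact conj_eq_one_iff.1 h
  let _ : MulAction ↥E ↥X :=
    { smul := fun e x => ⟨(e : G) * x * (e : G)⁻¹, hN e x x.2⟩
      one_smul := fun x => Subtype.ext (by
        change ((1 : ↥E) : G) * x * ((1 : ↥E) : G)⁻¹ = x
        simp)
      mul_smul := fun a b x => Subtype.ext (by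
        change ((a * b : ↥E) : G) * x * ((a * b : ↥E) : G)⁻¹ =
          (a : G) * ((b : G) * x * (b : G)⁻¹) * (a : G)⁻¹
        push_cast; group) }
  have hX : Nat.card ↥X = Nat.card (Cfsg.fittingHallOf L) - 1 := by
    rw [Nat.card_coe_set_eq, Set.ncard_sdiff_singleton_of_mem (one_mem _), ← Nat.card_coe_set_eq]
    rfl
  rw [← hX]
  refine FrobeniusBasic.card_dvd_of_free fun e x h => ?_
  have h' : (e : G) * x * (e : G)⁻¹ = x := congrArg Subtype.val h
  have hm := F.fix x x.2.1 (by simpa using x.2.2) (Subgroup.mem_inf.2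
    ⟨hE e.2, Subgroup.mem_centralizer_singleton_iff.2 (mul_inv_eq_iff_eq_mul.1 h')⟩)
  exact Subtype.ext (Subgroup.mem_bot.1 (hd ▸ Subgroup.mem_inf.2 ⟨hm, e.2⟩))

theorem index_eq_card {E : Subgroup G} (hE : E ≤ L) (hd : Cfsg.fittingHallOf L ⊓ E = ⊥)
    (hs : Cfsg.fittingHallOf L ⊔ E = L) : (Cfsg.fittingHall L).index = Nat.card E := by
  have hc : Cfsg.IsComplIn (Cfsg.fittingHallOf L) E L := by
    refine ⟨FittingHallBasic.fittingHallOf_le L, hE, hd, fun m hm => ?_⟩
    rw [← hs, sup_comm] at hm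
    have h' : m ∈ ((E ⊔ Cfsg.fittingHallOf L : Subgroup G) : Set G) := hm
    rw [Subgroup.coe_mul_of_left_le_normalizer_right _ _
      (fun x hx => FittingHallBasic.le_normalizer_fittingHallOf L (hE hx))] at h'
    obtain ⟨e, he, a, ha, rfl⟩ := h'
    refine ⟨e * a * e⁻¹,
      (Subgroup.mem_normalizer_iff.1 (FittingHallBasic.le_normalizer_fittingHallOf L (hE he)) a).1 ha,
      e, he, by group⟩
  rw [← FittingHallBasic.relIndex_fittingHallOf L]
  exact (FittingHallBasic.card_compl_eq_relIndex hc).symm.symm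

theorem card_L : Nat.card ↥L = Nat.card (Cfsg.fittingHallOf L) * (Cfsg.fittingHall L).index := by
  rw [FittingHallBasic.card_fittingHallOf]
  exact (Subgroup.card_mul_index _).symm

/-- Bessel's inequality for an orthogonal family. -/
theorem bessel {κ : Type*} (f : G → ℂ) (s : Finset κ) (y : κ → G → ℂ) (N c : κ → ℝ) (hN : ∀ k ∈ s, 0 < N k)
    (horth : ∀ k ∈ s, ∀ k' ∈ s, k ≠ k' → classInner (y k) (y k') = 0)
    (hyy : ∀ k ∈ s, classInner (y k) (y k) = N k) (hc : ∀ k ∈ s, classInner f (y k) = c k) :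
    ∑ k ∈ s, c k ^ 2 / N k ≤ (classInner f f).re := by
  classical
  set T : G → ℂ := ∑ k ∈ s, ((c k / N k : ℝ) : ℂ) • y k with hT
  have hfT : classInner f T = ((∑ k ∈ s, c k ^ 2 / N k : ℝ) : ℂ) := by
    rw [hT, CharBasicOrth.classInner_sum_right]
    push_cast
    refine Finset.sum_congr rfl fun k hk => ?_
    rw [CharBasicOrth.classInner_smul_right, map_div₀, Complex.conj_ofReal, Complex.conj_ofReal, hc k hk]
    ring
  have hTT : classInner T T = ((∑ k ∈ s, c k ^ 2 / N k : ℝ) : ℂ) := by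
    conv_lhs => rw [hT]
    rw [CharBasicOrth.classInner_sum_left]
    push_cast
    refine Finset.sum_congr rfl fun k hk => ?_
    rw [CharBasicOrth.classInner_smul_left, CharBasicOrth.classInner_sum_right, Finset.sum_eq_single k]
    · rw [CharBasicOrth.classInner_smul_right, map_div₀, Complex.conj_ofReal, Complex.conj_ofReal, hyy k hk]
      have : (N k : ℂ) ≠ 0 := Complex.ofReal_ne_zero.mpr (hN k hk).ne'
      push_cast
      field_simp
    · intro k' hk' hne
      rw [CharBasicOrth.classInner_smul_right, horth k hk k' hk' (Ne.symm hne), mul_zero]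
    · exact fun h => absurd hk h
  have hTf : classInner T f = ((∑ k ∈ s, c k ^ 2 / N k : ℝ) : ℂ) := by
    rw [← CharBasicOrth.conj_classInner, hfT, Complex.conj_ofReal]
  clear_value T
  have h0 := classInner_self_nonneg (f - T)
  rw [CharBasicOrth.classInner_sub_left, CharBasicOrth.classInner_sub_right,
    CharBasicOrth.classInner_sub_right, hfT, hTT, hTf] at h0
  simp only [Complex.sub_re, Complex.ofReal_re] at h0
  linarith

section coherent

variable {A : Set G} [Fintype ↥L] {H : G → Subgroup G} {K : Subgroup ↥L}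
  {ν : (↥L → ℂ) → (G → ℂ)} {ζ : ↥L → ℂ}

/-- The component `Σ θ(1) ν(Ind θ) / e`. -/
noncomputable def Tv (K : Subgroup ↥L) (ν : (↥L → ℂ) → (G → ℂ)) : G → ℂ :=
  ((K.index : ℂ)⁻¹) • ∑ θ ∈ Finset.univ.erase (trivIrr ↥K), (θ : ↥K → ℂ) 1 • ν (indFun K θ)

variable (hC : CohSetup A L H K ν ζ)
include hC

theorem inner_Tv {f : G → ℂ} {c : ℂ}
    (hc : ∀ θ : ↥K → ℂ, IsIrrCharacter ↥K θ → θ ≠ (fun _ => 1) → classInner f (ν (indFun K θ)) = θ 1 * c) :
    classInner f (Tv K ν) = c * (((Nat.card K : ℂ) - 1) / (K.index : ℂ)) := by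
  classical
  have hne : ∀ θ ∈ Finset.univ.erase (trivIrr ↥K), (θ : ↥K → ℂ) ≠ fun _ => 1 := fun θ hθ h =>
    Finset.ne_of_mem_erase hθ (Subtype.ext h)
  rw [Tv, CharBasicOrth.classInner_smul_right, CharBasicOrth.classInner_sum_right, map_inv₀, map_natCast]
  have hterm : ∀ θ ∈ Finset.univ.erase (trivIrr ↥K), classInner f ((θ : ↥K → ℂ) 1 • ν (indFun K θ)) =
      c * ((θ : ↥K → ℂ) 1 * (θ : ↥K → ℂ) 1) := fun θ hθ => by
    obtain ⟨d, -, hd⟩ := exists_deg θ.2
    rw [CharBasicOrth.classInner_smul_right, hc _ θ.2 (hne θ hθ), hd, map_natCast]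
    ring
  have h := sum_deg_mul hC (1 : ↥K)
  rw [if_pos rfl] at h
  rw [Finset.sum_congr rfl hterm, ← Finset.mul_sum]
  calc (K.index : ℂ)⁻¹ * (c * ∑ θ ∈ Finset.univ.erase (trivIrr ↥K), (θ : ↥K → ℂ) 1 * (θ : ↥K → ℂ) 1)
      = c * ((∑ θ ∈ Finset.univ.erase (trivIrr ↥K), (θ : ↥K → ℂ) 1 * (θ : ↥K → ℂ) 1) / (K.index : ℂ)) := by
        ring
    _ = _ := by rw [h]

theorem Tv_inner_nu {θ : ↥K → ℂ} (hθ : IsIrrCharacter ↥K θ) (h1 : θ ≠ fun _ => 1) :
    classInner (ν (indFun K θ)) (Tv K ν) = θ 1 := by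
  classical
  haveI := hC.normal
  have hi : (K.index : ℂ) ≠ 0 := Nat.cast_ne_zero.2 Subgroup.index_ne_zero_of_finite
  have hne : ∀ θ ∈ Finset.univ.erase (trivIrr ↥K), (θ : ↥K → ℂ) ≠ fun _ => 1 := fun θ hθ h =>
    Finset.ne_of_mem_erase hθ (Subtype.ext h)
  have hdc : ∀ θ : IrrCharacter ↥K, conj ((θ : ↥K → ℂ) 1) = (θ : ↥K → ℂ) 1 := fun θ => by
    obtain ⟨d, -, hd⟩ := exists_deg θ.2; rw [hd, map_natCast]
  rw [Tv, CharBasicOrth.classInner_smul_right, CharBasicOrth.classInner_sum_right, map_inv₀, map_natCast]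
  have hterm : ∀ φ ∈ Finset.univ.erase (trivIrr ↥K),
      classInner (ν (indFun K θ)) ((φ : ↥K → ℂ) 1 • ν (indFun K φ)) =
      (φ : ↥K → ℂ) 1 * classInner (fun h : ↥K => indFun K θ h) φ := by
    intro φ hφ
    rw [CharBasicOrth.classInner_smul_right, hdc, hC.iso.2.2.1 _ (subset_zspan (mem_induced hθ h1)) _
      (subset_zspan (mem_induced φ.2 (hne φ hφ))),
      CharInduced.inner_ind_right K _ (CharInduced.isClassFunction_ind K θ)]
  rw [Finset.sum_congr rfl hterm]
  have hres : IsClassFunction ↥K (fun h : ↥K => indFun K θ h) := fun u v => by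
    exact CharInduced.isClassFunction_ind K θ (u : ↥L) (v : ↥L)
  have h2 := congrFun (eq_sum_classInner hres) 1
  simp only [Finset.sum_apply, Pi.smul_apply, smul_eq_mul, Subgroup.coe_one, CharInduced.ind_one_apply] at h2
  rw [← Finset.add_sum_erase _ _ (Finset.mem_univ (trivIrr ↥K))] at h2
  have h0 : classInner (fun h : ↥K => indFun K θ h) ((trivIrr ↥K : IrrCharacter ↥K) : ↥K → ℂ) = 0 := by
    show classInner (fun h : ↥K => indFun K θ h) (fun _ => 1) = 0
    rw [← CharInduced.inner_ind_right K _ (CharInduced.isClassFunction_ind K θ)]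
    exact inner_ind_ind1 hθ h1
  rw [h0, zero_mul, zero_add] at h2
  rw [show ∑ φ ∈ Finset.univ.erase (trivIrr ↥K), (φ : ↥K → ℂ) 1 *
      classInner (fun h : ↥K => indFun K θ h) φ = (K.index : ℂ) * θ 1 from
      (Finset.sum_congr rfl fun φ _ => mul_comm _ _).trans h2.symm,
    ← mul_assoc, inv_mul_cancel₀ hi, one_mul]

theorem Tv_norm : classInner (Tv K ν) (Tv K ν) = ((Nat.card K : ℂ) - 1) / (K.index : ℂ) := by
  rw [inner_Tv hC (c := 1) (fun θ hθ h1 => ?_), one_mul]
  obtain ⟨d, -, hd⟩ := exists_deg hθ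
  rw [mul_one, ← CharBasicOrth.conj_classInner, Tv_inner_nu hC hθ h1, hd, map_natCast]

theorem Tv_principal (hodd : Odd (Nat.card G)) : classInner (Tv K ν) (fun _ => 1) = 0 := by
  rw [← CharBasicOrth.conj_classInner, inner_Tv hC (c := 0) (fun θ hθ h1 => ?_), zero_mul, map_zero]
  rw [mul_zero, ← CharBasicOrth.conj_classInner, (nu_conj hC hodd).2 _ (mem_induced hθ h1), map_zero]

theorem Tv_orth {f : G → ℂ} (hf : ∀ φ ∈ inducedIrrAbove K ⊥, classInner f (ν φ) = 0) :
    classInner f (Tv K ν) = 0 := by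
  rw [inner_Tv hC (c := 0) (fun θ hθ h1 => by rw [mul_zero]; exact hf _ (mem_induced hθ h1)), zero_mul]

/-- A function orthogonal to the image of the Dade map meets `ν` proportionally to the degree. -/
theorem inner_nu_of_orth {f : G → ℂ} (hf : ∀ α : ↥L → ℂ, classInner f (dadeIsometry A L H α) = 0)
    {θ : ↥K → ℂ} (hθ : IsIrrCharacter ↥K θ) (h1 : θ ≠ fun _ => 1) :
    classInner f (ν (indFun K θ)) = θ 1 * classInner f (ν ζ) := by
  obtain ⟨d, -, hd⟩ := exists_deg hθ
  have hm := subset_zspan (mem_induced (K := K) hθ h1)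
  have hz := subset_zspan hC.mem
  have hdz := zspan_natCast_smul d hz
  have hmem : indFun K θ - (d : ℂ) • ζ ∈ zspanOn (inducedIrrAbove K ⊥) {1}ᶜ :=
    mem_zspanOn_one (zspan_sub hm hdz) (by
      simp only [Pi.sub_apply, Pi.smul_apply, smul_eq_mul, CharInduced.ind_one_apply, hC.deg, hd]
      ring)
  have e := hC.ext _ hmem
  rw [span_map_sub hC.iso hm hdz, span_map_natCast_smul hC.iso d hz] at e
  have h0 := hf (indFun K θ - (d : ℂ) • ζ)
  rw [← e, CharBasicOrth.classInner_sub_right, CharBasicOrth.classInner_smul_right, map_natCast] at h0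
  rw [hd]
  linear_combination h0

theorem inner_Tv_of_orth {f : G → ℂ} (hf : ∀ α : ↥L → ℂ, classInner f (dadeIsometry A L H α) = 0) :
    classInner f (Tv K ν) = classInner f (ν ζ) * (((Nat.card K : ℂ) - 1) / (K.index : ℂ)) :=
  inner_Tv hC fun _ hθ h1 => inner_nu_of_orth hC hf hθ h1

theorem nu_gen' {φ : ↥L → ℂ} (hφ : φ ∈ inducedIrrAbove K ⊥) : IsGeneralizedCharacter G (ν φ) :=
  hC.iso.2.2.2 _ (subset_zspan hφ)

theorem conj_mem {φ : ↥L → ℂ} (hφ : φ ∈ inducedIrrAbove K ⊥) : conjFun φ ∈ inducedIrrAbove K ⊥ := by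
  obtain ⟨θ, hθ, h1, -, rfl⟩ := hφ
  rw [show conjFun (indFun K θ) = indFun K (fun h => conj (θ h)) from (CharInduced.ind_conj _ θ).symm]
  refine mem_induced (conjFun_isIrr hθ) fun h => h1 ?_
  funext x
  have := congrArg (starRingEnd ℂ) (congrFun h x)
  simpa using this

variable (hirr : ∀ χ ∈ inducedIrrAbove K ⊥, IsIrrCharacter ↥L χ) (hoddL : Odd (Nat.card ↥L)) (he : 2 ≤ K.index)
include hirr hoddL he

theorem conj_ne_self {φ : ↥L → ℂ} (hφ : φ ∈ inducedIrrAbove K ⊥) : conjFun φ ≠ φ := by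
  intro h
  have hi := hirr φ hφ
  have h1 := Cfsg.Agent.S0161.real_eq_one hoddL hi fun g => by
    rw [isCharacter_inv (isCharacter_of_isIrrCharacter hi)]
    exact congrFun h g
  obtain ⟨θ, hθ, -, -, e⟩ := hφ
  obtain ⟨d, hd0, hd⟩ := exists_deg hθ
  have h2 := congrFun (e.symm.trans h1) 1
  rw [CharInduced.ind_one_apply, hd] at h2
  have h3 : K.index * d = 1 := by exact_mod_cast h2
  have := (mul_eq_one.1 h3).1
  omega

/-- A pair of conjugate images, orthogonal to a pair of signed irreducible characters with which their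
difference is orthogonal. -/
theorem nu_orth_pair {φ : ↥L → ℂ} (hφ : φ ∈ inducedIrrAbove K ⊥) {a b : G → ℂ} (ha : SignedIrr a)
    (hb : SignedIrr b) (hab : classInner a b = 0) (h1 : a 1 = b 1)
    (hmix : ∀ α : ↥L → ℂ, classInner (dadeIsometry A L H α) (a - b) = 0) :
    classInner (ν φ) a = 0 := by
  have hm := subset_zspan hφ
  have hm' := subset_zspan (conj_mem hC hφ)
  have hi := hirr φ hφ
  have hi' := conjFun_isIrr hi
  have s1 : SignedIrr (ν φ) := si_of_norm_one (hC.iso.2.2.2 _ hm)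
    (by rw [hC.iso.2.2.1 _ hm _ hm, classInner_irr_self hi])
  have s2 : SignedIrr (ν (conjFun φ)) := si_of_norm_one (hC.iso.2.2.2 _ hm')
    (by rw [hC.iso.2.2.1 _ hm' _ hm', classInner_irr_self hi'])
  have h12 : classInner (ν φ) (ν (conjFun φ)) = 0 := by
    rw [hC.iso.2.2.1 _ hm _ hm', classInner_irr_ne hi hi' (conj_ne_self hC hirr hoddL he hφ).symm]
  have e : ν φ - ν (conjFun φ) = dadeIsometry A L H (φ - conjFun φ) := by
    rw [← span_map_sub hC.iso hm hm']
    exact hC.ext _ (mem_zspanOn_one (zspan_sub hm hm')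
      (by simp [conjFun_apply_one (isCharacter_of_isIrrCharacter hi)]))
  have h2 : ν φ 1 = ν (conjFun φ) 1 := by
    have h := congrFun e 1
    have hns : ¬ InSupport A L H (1 : G) := by
      rintro ⟨c, hc, x, u, hu, hxu⟩
      rw [mul_one, mul_inv_cancel] at hxu
      have hcu : (c : G) = u⁻¹ := eq_inv_of_mul_eq_one_left hxu.symm
      have hc1 : (c : G) = 1 := eq_one_of_mem_H_of_mem hC.dade hc (by have := inv_mem hu; convert this using 1) c.2
      exact hC.dade.one_not_mem (hc1 ▸ hc)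
    rw [dade_eq_zero hns, Pi.sub_apply] at h
    exact sub_eq_zero.1 h
  refine (four_si s1 s2 ha hb (s := 1) (t := 1) (u := 1) (v := 1) one_ne_zero one_ne_zero one_ne_zero
    one_ne_zero h12 hab ?_ ?_ ?_).1
  · simpa [e] using hmix (φ - conjFun φ)
  · simpa using h2
  · simpa using h1

end coherent

/-- The coherent set of a Frobenius maximal subgroup. -/
theorem exists_cohSetup [Fintype ↥L] (F : Frob L) (hodd : Odd (Nat.card G)) (he : 2 ≤ (Cfsg.fittingHall L).index)
    (hne : Cfsg.fittingHallOf L ≠ ⊥) :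
    ∃ ν ζ, CohSetup (Cfsg.typeA L) L (Cfsg.supportR L) (Cfsg.fittingHall L) ν ζ := by
  classical
  haveI := FittingHallBasic.fittingHall_isNilpotent (G := ↥L)
  obtain ⟨-, ν, hiso, hext⟩ := F.coh
  have hKne : Nontrivial ↥(Cfsg.fittingHall L) := by
    rw [Subgroup.nontrivial_iff_ne_bot]
    intro h
    apply hne
    rw [Cfsg.fittingHallOf, h, Subgroup.map_bot]
  obtain ⟨θ, hθ, hθ1, hθd⟩ : ∃ θ : ↥(Cfsg.fittingHall L) → ℂ, IsIrrCharacter _ θ ∧ θ ≠ (fun _ => 1) ∧ θ 1 = 1 := by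
    have hlt : commutator ↥(Cfsg.fittingHall L) < ⊤ :=
      Group.IsSolvable.commutator_lt_top_of_nontrivial _
    have hidx : 1 < (commutator ↥(Cfsg.fittingHall L)).index := by
      refine Nat.one_lt_iff_ne_zero_and_ne_one.2 ⟨Subgroup.index_ne_zero_of_finite, fun h => hlt.ne ?_⟩
      exact Subgroup.index_eq_one.1 h
    rw [← CharBasicLinear.card_hom_units] at hidx
    haveI := Finite.one_lt_card_iff_nontrivial.1 hidx
    obtain ⟨f, hf⟩ := exists_ne (1 : ↥(Cfsg.fittingHall L) →* ℂˣ)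
    refine ⟨fun x => (f x : ℂ), isIrrCharacter_linear f, fun h => hf ?_, by simp⟩
    exact MonoidHom.ext fun x => Units.ext (congrFun h x)
  have hmem : indFun (Cfsg.fittingHall L) θ ∈ Cfsg.inducedIrrAbove (Cfsg.fittingHall L) ⊥ := mem_induced hθ hθ1
  have hdeg : indFun (Cfsg.fittingHall L) θ 1 = ((Cfsg.fittingHall L).index : ℂ) := by
    rw [CharInduced.ind_one_apply, hθd, mul_one]
  refine ⟨ν, indFun (Cfsg.fittingHall L) θ,
    { dade := F.dade
      normal := inferInstance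
      mem_iff := fun a => by
        rw [mem_typeA F, mem_fitting]
        simp only [ne_eq, OneMemClass.coe_eq_one]
      iso := hiso
      ext := hext
      mem := hmem
      irr := F.irr _ hmem
      deg := hdeg
      conj_ne := fun h => ?_ }⟩
  have h1 := Cfsg.Agent.S0161.real_eq_one (hodd.of_dvd_nat (Subgroup.card_subgroup_dvd_card L)) (F.irr _ hmem)
    fun g => by
      rw [isCharacter_inv (isCharacter_of_isIrrCharacter (F.irr _ hmem))]
      exact congrFun h g
  have h2 := congrFun h1 1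
  rw [hdeg] at h2
  have : (Cfsg.fittingHall L).index = 1 := by exact_mod_cast h2
  omega

end Cfsg.Agent.PF14Frob54
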