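import Mathlib
import Cfsg.Agent.Lib.PF14Core54
import Cfsg.Agent.Lib.PF14Frob54

/-!
The coherent set of a Frobenius maximal subgroup against the pair of subgroups of type P: the coefficients on the
cyclic TI family and the bounds they give.
-/

set_option autoImplicit false
set_option linter.unusedSectionVars false
set_option linter.style.haveILetI false

open scoped ComplexConjugate Classical

namespace Cfsg.Agent.PF14Bridge54

open Cfsg CharBasic CharBasicOrth CharBasicDecomp CoherenceBasic DadeMap CyclicTI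
open PFCoherentDade PFInvDade PF14Frob54 PF14Setup54 PF14Core54 PF14Ineq54

variable {G : Type*} [Group G] [Fintype G]
variable {S T W1 W2 U V : Subgroup G}
variable {A : Set G} {L : Subgroup G} [Fintype ↥L] {H : G → Subgroup G} {K : Subgroup ↥L}
  {ν : (↥L → ℂ) → (G → ℂ)} {ζ : ↥L → ℂ}

theorem hat_pow_one (C : Pair S T W1 W2 U V) (w : ↥(W1 ⊔ W2)) :
    (w : G) ^ (Nat.card W2 * Nat.card W1) = 1 := by
  have h := congrArg Subtype.val (pow_card_eq_one' (x := w))
  rw [Subgroup.coe_pow, card_W C, mul_comm] at h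
  exact h

theorem diff_supp (C : Pair S T W1 W2 U V) {a b : ↥(Cfsg.fittingHallOf S) →* ℂˣ}
    (ha : PF14Side54.Fixed (Cfsg.fittingHallOf S) W1 a) (hb : PF14Side54.Fixed (Cfsg.fittingHallOf S) W1 b)
    (g : G) (hg : g ^ (Nat.card W2 * Nat.card W1) ≠ 1) : PF14Side54.diff C.data ha hb g = 0 := by
  rw [PF14Side54.diff, CharInduced.indFun_apply, Finset.sum_eq_zero, mul_zero]
  intro x _
  rw [CharInduced.ext_zero_eq_dite, dif_neg]
  intro hx
  apply hg
  rw [← pow_conj_invariant (z := x⁻¹), inv_inv]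
  set z := x⁻¹ * g * x with hzd
  obtain ⟨k, hk, w, hw, e⟩ := C.data.normal_form ⟨z, hx⟩ |>.imp fun k h => h
  have key : ∀ m : ℕ, ∃ y ∈ Cfsg.fittingHallOf S, z ^ m = y * w ^ m := by
    intro m
    induction m with
    | zero => exact ⟨1, one_mem _, by simp⟩
    | succ m ih =>
      obtain ⟨y, hy, ey⟩ := ih
      refine ⟨y * (w ^ m * k * (w ^ m)⁻¹), mul_mem hy (C.mod.conjW1 (pow_mem hw _) hk), ?_⟩
      rw [pow_succ, ey, show z = k * w from e, pow_succ]
      group
  obtain ⟨y, hy, ey⟩ := key (Nat.card W1)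
  rw [show w ^ Nat.card W1 = 1 from orderOf_dvd_iff_pow_eq_one.1 (Subgroup.orderOf_dvd_natCard _ hw),
    mul_one] at ey
  rw [mul_comm, pow_mul, ey]
  exact pow_p_of_mem_P C hy

section coherent

variable (C : Pair S T W1 W2 U V) (hC : CohSetup A L H K ν ζ)
  (hcop : (Nat.card ↥K).Coprime (Nat.card W2 * Nat.card W1))

include hC in
theorem avoid {m : ℕ} (hm : (Nat.card ↥K).Coprime m) {g : G} (hg : InSupport A L H g) : g ^ m ≠ 1 := by
  intro h
  obtain ⟨a, ha, u, hu, x, e⟩ := (inSupport_iff hC.dade g).1 hg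
  have hc : Commute a u := (Subgroup.mem_centralizer_singleton_iff.1 (hC.dade.le_centralizer a ha hu)).symm
  have h1 : a ^ m * u ^ m = 1 := by
    rw [← hc.mul_pow, ← e, conj_pow, h]; group
  have h2 : a ^ m ∈ H a ⊓ (L ⊓ Subgroup.centralizer ({a} : Set G)) := by
    refine Subgroup.mem_inf.2 ⟨?_, pow_mem (Subgroup.mem_inf.2 ⟨hC.dade.subset ha,
      Subgroup.mem_centralizer_singleton_iff.2 rfl⟩) m⟩
    rw [eq_inv_of_mul_eq_one_left h1]
    exact inv_mem (pow_mem hu m)
  rw [hC.dade.inf_eq_bot a ha, Subgroup.mem_bot] at h2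
  obtain ⟨haK, ha1⟩ := (hC.mem_iff ⟨a, hC.dade.subset ha⟩).1 ha
  apply ha1
  have h3 : (⟨a, hC.dade.subset ha⟩ : ↥L) ^ m = 1 := Subtype.ext (by simpa using h2)
  exact orderOf_eq_one_iff.1 (Nat.eq_one_of_dvd_coprimes hm
    (Subgroup.orderOf_dvd_natCard _ haK) (orderOf_dvd_of_pow_eq_one h3))

include hC hcop in
theorem dade_zero (α : ↥L → ℂ) {g : G} (hg : g ^ (Nat.card W2 * Nat.card W1) = 1) :
    dadeIsometry A L H α g = 0 :=
  dade_eq_zero fun h => avoid hC hcop h hg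

include hC hcop in
theorem orth_dade {f : G → ℂ} (hf : ∀ g, g ^ (Nat.card W2 * Nat.card W1) ≠ 1 → f g = 0) (α : ↥L → ℂ) :
    classInner f (dadeIsometry A L H α) = 0 := by
  rw [classInner, Finset.sum_eq_zero, mul_zero]
  intro g _
  by_cases h : g ^ (Nat.card W2 * Nat.card W1) = 1
  · rw [dade_zero hC hcop α h, map_zero, mul_zero]
  · rw [hf g h, zero_mul]

include hC in
theorem ncard_A : A.ncard = Nat.card ↥K - 1 := by
  have e : Nat.card A = Nat.card {k : ↥K // k ≠ 1} := Nat.card_congr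
    ⟨fun a => ⟨⟨⟨a.1, hC.dade.subset a.2⟩, ((hC.mem_iff _).1 a.2).1⟩,
      fun h => ((hC.mem_iff ⟨a.1, hC.dade.subset a.2⟩).1 a.2).2 (congrArg Subtype.val h)⟩,
    fun k => ⟨((k.1 : ↥L) : G), (hC.mem_iff _).2 ⟨k.1.2, fun h => k.2 (Subtype.ext h)⟩⟩,
    fun _ => rfl, fun _ => rfl⟩
  rw [← Nat.card_coe_set_eq, e, Nat.card_eq_fintype_card, Fintype.card_subtype_compl,
    Fintype.card_subtype_eq, Nat.card_eq_fintype_card]

include hC in
theorem gens_closed : ∀ a ∈ A, ∀ b, Subgroup.zpowers b = Subgroup.zpowers a → b ∈ A := by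
  intro a ha b hb
  have hbL : b ∈ L := Subgroup.zpowers_le.1 (hb ▸ Subgroup.zpowers_le.2 (hC.dade.subset ha))
  obtain ⟨haK, ha1⟩ := (hC.mem_iff ⟨a, hC.dade.subset ha⟩).1 ha
  refine (hC.mem_iff ⟨b, hbL⟩).2 ⟨?_, fun h => ha1 ?_⟩
  · have : Subgroup.zpowers (⟨b, hbL⟩ : ↥L) ≤ K := by
      intro z hz
      obtain ⟨i, rfl⟩ := hz
      have hb' : b ∈ Subgroup.zpowers a := hb ▸ Subgroup.mem_zpowers b
      obtain ⟨j, hj⟩ := hb'
      have : (⟨b, hbL⟩ : ↥L) = (⟨a, hC.dade.subset ha⟩ : ↥L) ^ j := Subtype.ext (by simpa using hj.symm)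
      show (⟨b, hbL⟩ : ↥L) ^ i ∈ K
      rw [this]
      exact zpow_mem (zpow_mem haK j) i
    exact this (Subgroup.mem_zpowers _)
  · have hb1 : b = 1 := congrArg Subtype.val h
    rw [hb1, Subgroup.zpowers_one_eq_bot] at hb
    exact Subtype.ext (Subgroup.zpowers_eq_bot.1 hb.symm)

variable {χ : (↥(W1 ⊔ W2) →* ℂˣ) → (G → ℂ)} (hχ : Cfsg.IsCyclicTIFamily W1 W2 χ)
  (hirr : ∀ φ ∈ inducedIrrAbove K ⊥, IsIrrCharacter ↥L φ) (he : 2 ≤ K.index)

include C hC hcop hχ hirr he

theorem eta_zero {φ : ↥L → ℂ} (hφ : φ ∈ inducedIrrAbove K ⊥) (ω : ↥(W1 ⊔ W2) →* ℂˣ) :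
    classInner (ν φ) (χ ω) = 0 := by
  haveI := CyclicTI.hom_fintype ↥(W1 ⊔ W2)
  haveI : Fintype (↥(W1 ⊔ W2) →* ℂˣ) := Fintype.ofFinite _
  have hodd : Odd (Nat.card G) := C.oddG
  have hoddL : Odd (Nat.card ↥L) := hodd.of_dvd_nat (Subgroup.card_subgroup_dvd_card L)
  have hW := C.hSP.selfNormalizing
  have hd := hdisj hW
  have hc := hcomm hW
  have X := C.data.ctx hχ
  have hφ' := PF14Frob54.conj_mem hC hφ
  have hm := subset_zspan hφ
  have hm' := subset_zspan hφ'
  have hi := hirr φ hφ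
  have hne := (conj_ne_self hC hirr hoddL he hφ).symm
  have h12 : classInner (ν φ) (ν (conjFun φ)) = 0 := by
    rw [hC.iso.2.2.1 _ hm _ hm', classInner_irr_ne hi (conjFun_isIrr hi) hne]
  have e : ν φ - ν (conjFun φ) = dadeIsometry A L H (φ - conjFun φ) := by
    rw [← span_map_sub hC.iso hm hm']
    exact hC.ext _ (mem_zspanOn_one (zspan_sub hm hm')
      (by simp [conjFun_apply_one (isCharacter_of_isIrrCharacter hi)]))
  set f := ν φ - ν (conjFun φ) with hf
  have hfg : IsGeneralizedCharacter G f :=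
    isGeneralizedCharacter_sub (hC.iso.2.2.2 _ hm) (hC.iso.2.2.2 _ hm')
  have hfc := isClassFunction_of_isGeneralizedCharacter hfg
  have hfV : ∀ w : ↥(W1 ⊔ W2), (w : G) ∉ W1 → (w : G) ∉ W2 → f w = 0 := fun w _ _ => by
    rw [e]; exact dade_zero hC hcop _ (hat_pow_one C w)
  choose z hz using fun ω => classInner_isGeneralizedCharacter hfg (PF13Cols8.gen X ω)
  have hz1 : z 1 = 0 := by
    have h := hz 1
    rw [hf, hχ.map_one, CharBasicOrth.classInner_sub_left, (nu_conj hC hodd).2 _ hφ,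
      (nu_conj hC hodd).2 _ hφ', sub_zero] at h
    exact_mod_cast h.symm
  have hrect : ∀ ω, z ω = z (part₁ hd hc ω) + z (part₂ hd hc ω) := fun ω => by
    have h := rectangle hW hχ hfc hfV ω
    rw [hz, hz, hz, hz, hz1, Int.cast_zero, sub_zero] at h
    exact_mod_cast h
  have hff : classInner f f = 2 := by
    rw [hf, CharBasicOrth.classInner_sub_left, CharBasicOrth.classInner_sub_right,
      CharBasicOrth.classInner_sub_right, h12,
      show classInner (ν (conjFun φ)) (ν φ) = 0 by rw [← CharBasicOrth.conj_classInner, h12, map_zero],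
      hC.iso.2.2.1 _ hm _ hm, hC.iso.2.2.1 _ hm' _ hm', classInner_irr_self hi,
      classInner_irr_self (conjFun_isIrr hi)]
    norm_num
  have hB := bessel f (PF13Cols8.rows W1 W2 ×ˢ PF13Cols8.cols W1 W2) (fun k => χ (k.1 * k.2))
    (fun _ => 1) (fun k => (z (k.1 * k.2) : ℝ)) (fun _ _ => one_pos) (fun k hk k' hk' hne => ?_)
    (fun k _ => by rw [hχ.orthonormal]; simp) (fun k _ => by rw [hz]; simp)
  swap
  · rw [Finset.mem_product, PF13Cols8.mem_rows, PF13Cols8.mem_cols] at hk hk'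
    rw [hχ.orthonormal, if_neg]
    intro h
    exact hne (Prod.ext_iff.2 ((mul_left_inj_of_triv hd hc hk.1 hk'.1 hk.2 hk'.2).1 h))
  rw [hff] at hB
  have hsum : ∑ r ∈ PF13Cols8.rows W1 W2, ∑ c ∈ PF13Cols8.cols W1 W2, (z r + z c) ^ 2 ≤ 2 := by
    have h' : ∀ r ∈ PF13Cols8.rows W1 W2, ∀ c ∈ PF13Cols8.cols W1 W2, z (r * c) = z r + z c := by
      intro r hr c hc'
      rw [PF13Cols8.mem_rows] at hr
      rw [PF13Cols8.mem_cols] at hc'
      rw [hrect, part₁_eq hd hc hr hc', part₂_eq hd hc hr hc']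
    simp only [div_one, Finset.sum_product] at hB
    rw [Finset.sum_congr rfl fun r hr => Finset.sum_congr rfl fun c hc' => by rw [h' r hr c hc']] at hB
    norm_num at hB
    refine (Int.cast_le (R := ℝ)).1 ?_
    push_cast
    exact hB
  obtain ⟨hr0, hc0⟩ := PF14Side54.grid_zero _ _ z z (PF13Cols8.mem_rows.2 (trivOn_one _))
    (PF13Cols8.mem_cols.2 (trivOn_one _)) hz1 hz1 (by rw [PF13Cols8.card_rows X]; exact X.hq3)
    (by rw [PF13Cols8.card_cols X]; exact X.hp3) hsum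
  have hz0 : z ω = 0 := by
    rw [hrect, hr0 _ (PF13Cols8.mem_rows.2 (part₁_triv hd hc ω)),
      hc0 _ (PF13Cols8.mem_cols.2 (part₂_triv hd hc ω)), add_zero]
  have h0 := hz ω
  rw [hz0, Int.cast_zero, hf, CharBasicOrth.classInner_sub_left, sub_eq_zero] at h0
  have s1 : SignedIrr (ν φ) := si_of_norm_one (hC.iso.2.2.2 _ hm)
    (by rw [hC.iso.2.2.1 _ hm _ hm, classInner_irr_self hi])
  have s2 : SignedIrr (χ ω) := si_of_norm_one (PF13Cols8.gen X ω) (by rw [hχ.orthonormal, if_pos rfl])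
  rcases si_cases s1 s2 with h | ⟨ε, hε, heq, hin⟩
  · exact h
  · exfalso
    rw [hin, heq, CharBasicOrth.classInner_smul_right,
      show classInner (ν (conjFun φ)) (ν φ) = 0 by rw [← CharBasicOrth.conj_classInner, h12, map_zero],
      mul_zero] at h0
    rcases hε with rfl | rfl <;> norm_num at h0

theorem D_mul {r c : ↥(W1 ⊔ W2) →* ℂˣ} (hr : TrivOn W2 r) (hc : TrivOn W1 c) :
    classInner (PFCoherentDade.beta A L H K ζ) (χ (r * c)) =
      classInner (PFCoherentDade.beta A L H K ζ) (χ r) + classInner (PFCoherentDade.beta A L H K ζ) (χ c) - 1 := by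
  have hW := C.hSP.selfNormalizing
  have h := rectangle hW hχ (beta_class hC) (fun w _ _ => dade_zero hC hcop _ (hat_pow_one C w)) (r * c)
  rw [part₁_eq (hdisj hW) (hcomm hW) hr hc, part₂_eq (hdisj hW) (hcomm hW) hr hc, hχ.map_one,
    beta_inner_one hC] at h
  exact h

theorem D_col {j k : ↥(W1 ⊔ W2) →* ℂˣ} (hj : TrivOn W1 j) (hk : TrivOn W1 k) (hj1 : j ≠ 1) (hk1 : k ≠ 1) :
    classInner (PFCoherentDade.beta A L H K ζ) (χ j) = classInner (PFCoherentDade.beta A L H K ζ) (χ k) := by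
  by_cases hjk : j = k
  · rw [hjk]
  obtain ⟨a, ha, hja⟩ := C.data.exists_fixed j
  obtain ⟨b, hb, hkb⟩ := C.data.exists_fixed k
  have e := PF14Side54.diff_eq C.data hχ ha hb hj hk hj1 hk1 hjk hja hkb
  have h0 : classInner (PFCoherentDade.beta A L H K ζ) (PF14Side54.diff C.data ha hb) = 0 := by
    rw [← CharBasicOrth.conj_classInner, PFCoherentDade.beta, orth_dade hC hcop (diff_supp C ha hb), map_zero]
  rw [e, CharBasicOrth.classInner_sub_right, sub_eq_zero] at h0
  exact h0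

theorem invDade_eta (ω : ↥(W1 ⊔ W2) →* ℂˣ) {d : ℤ} (hd : classInner (PFCoherentDade.beta A L H K ζ) (χ ω) = d) (a : ↥L)
    (ha : (a : G) ∈ A) : invDade A L H (χ ω) a = ((d : ℝ) : ℂ) := by
  rw [invDade_orthogonal hC (PF13Cols8.cls (C.data.ctx hχ) ω) (fun φ hφ => by
    rw [← CharBasicOrth.conj_classInner, eta_zero C hC hcop hχ hirr he hφ ω, map_zero]) a ha,
    ← CharBasicOrth.conj_classInner, hd, map_intCast]
  simp

/-- The contribution of the support. -/
theorem support_term (ω : ↥(W1 ⊔ W2) →* ℂˣ) {d : ℤ} (hd : classInner (PFCoherentDade.beta A L H K ζ) (χ ω) = d)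
    (hle : K.index ≤ Nat.card W2 * Nat.card W1) (h7 : 7 ≤ Nat.card ↥K) (s : ℝ)
    (h2 : 2 ≤ (d : ℝ) ^ 2 + s * d) :
    12 / 7 ≤ (Nat.card W2 : ℝ) * (Nat.card W1 : ℝ) *
      ((∑ g ∈ Finset.univ.filter (InSupport A L H), wt (χ ω) s g) / (Nat.card G : ℝ)) := by
  have hS := support_wt hC.dade (PF13Cols8.cls (C.data.ctx hχ) ω) (d : ℝ)
    (invDade_eta C hC hcop hχ hirr he ω hd) s
  rw [ncard_A hC, show Nat.card ↥L = Nat.card ↥K * K.index from (Subgroup.card_mul_index K).symm] at hS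
  set h := Nat.card ↥K
  set e := K.index
  set t := (d : ℝ) ^ 2 + s * d
  have hG : (0 : ℝ) < Nat.card G := Nat.cast_pos.2 Nat.card_pos
  have hpq : (e : ℝ) ≤ (Nat.card W2 : ℝ) * (Nat.card W1 : ℝ) := by exact_mod_cast hle
  have he0 : (2 : ℝ) ≤ e := by exact_mod_cast he
  have hh : (7 : ℝ) ≤ h := by exact_mod_cast h7
  push_cast [Nat.cast_sub (show 1 ≤ h by omega)] at hS
  rw [← le_div_iff₀' hG] at hS
  refine le_trans ?_ (mul_le_mul_of_nonneg_left hS (by positivity))
  rw [← mul_div_assoc, le_div_iff₀ (by positivity)]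
  calc 12 / 7 * ((h : ℝ) * e) ≤ (2 * ((h : ℝ) - 1)) * e := by nlinarith
    _ ≤ (t * ((h : ℝ) - 1)) * ((Nat.card W2 : ℝ) * (Nat.card W1 : ℝ)) := by
        refine mul_le_mul (mul_le_mul_of_nonneg_right h2 (by linarith)) hpq (by linarith) ?_
        exact mul_nonneg (by linarith) (by linarith)
    _ = _ := by ring

/-- The parity argument against the induced difference of linear characters. -/
theorem X_bound {j : ↥(W1 ⊔ W2) →* ℂˣ} (hj : TrivOn W1 j) (hj1 : j ≠ 1) {d : ℤ}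
    (hd : classInner (PFCoherentDade.beta A L H K ζ) (χ j) = d) (hev : Even d) :
    ((Nat.card ↥K : ℝ) - 1) / (K.index : ℝ) ≤ ((Nat.card U : ℝ) - 1) / (Nat.card W1 : ℝ) := by
  have hodd := C.oddG
  have K' := C.data.ctx hχ
  obtain ⟨a, ha, hX1, hXX, hXr, ω, hω1, hω⟩ := PF14Side54.exists_X C.data hχ hj hj1
  set X := PF14Side54.diff C.data PF14Side54.fixed_one ha with hXd
  have horth : ∀ α, classInner X (dadeIsometry A L H α) = 0 :=
    orth_dade hC hcop (diff_supp C PF14Side54.fixed_one ha)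
  have hXg : IsGeneralizedCharacter G X := PF14Side54.diff_gen C.data PF14Side54.fixed_one ha
  have gν : IsGeneralizedCharacter G (ν ζ) := hC.iso.2.2.2 _ (subset_zspan hC.mem)
  obtain ⟨c, hc⟩ := classInner_isGeneralizedCharacter hXg gν
  obtain ⟨m, hm⟩ := classInner_isGeneralizedCharacter hXg (PF13Cols8.gen K' ω)
  have hpar := parity hodd (isGeneralizedCharacter_add hXg (PF13Cols8.gen K' j))
    (isGeneralizedCharacter_add (beta_gen hC) gν) hXr (beta_add_nu_real hC hodd) (a := 1) (b := 1) (c := c + d)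
    (by rw [CharBasicOrth.classInner_add_left, hX1, (eta_props C hχ hj1).2.1]; simp)
    (by rw [CharBasicOrth.classInner_add_left, beta_inner_one hC, (nu_conj hC hodd).2 _ hC.mem]; simp)
    (by
      rw [CharBasicOrth.classInner_add_left, CharBasicOrth.classInner_add_right,
        CharBasicOrth.classInner_add_right, hc, show classInner X (PFCoherentDade.beta A L H K ζ) = 0 from horth _,
        show classInner (χ j) (PFCoherentDade.beta A L H K ζ) = (d : ℂ) by
          rw [← CharBasicOrth.conj_classInner, hd, map_intCast],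
        show classInner (χ j) (ν ζ) = 0 by
          rw [← CharBasicOrth.conj_classInner, eta_zero C hC hcop hχ hirr he hC.mem j, map_zero]]
      push_cast; ring)
  have hc0 : c ≠ 0 := by
    rintro rfl
    obtain ⟨k, hk⟩ := hev
    obtain ⟨l, hl⟩ := hpar
    omega
  have hm0 : m ≠ 0 := by
    rintro rfl
    exact hω (by rw [hm, Int.cast_zero])
  set N : ℝ := ((Nat.card ↥K : ℝ) - 1) / (K.index : ℝ) with hN
  by_cases hN0 : N ≤ 0
  · refine hN0.trans (div_nonneg ?_ (Nat.cast_nonneg _))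
    have : (1 : ℝ) ≤ Nat.card U := by exact_mod_cast (Nat.card_pos (α := ↥U))
    linarith
  push Not at hN0
  have hT1 := Tv_principal hC hodd
  have hωp := eta_props C hχ hω1
  have hTω : classInner (χ ω) (Tv K ν) = 0 := Tv_orth hC fun φ hφ => by
    rw [← CharBasicOrth.conj_classInner, eta_zero C hC hcop hχ hirr he hφ ω, map_zero]
  have hflip : ∀ f g : G → ℂ, classInner f g = 0 → classInner g f = 0 := fun f g h => by
    rw [← CharBasicOrth.conj_classInner, h, map_zero]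
  have hone : classInner (fun _ : G => (1 : ℂ)) (fun _ => 1) = 1 := classInner_irr_self isIrrCharacter_one
  have hTT : classInner (Tv K ν) (Tv K ν) = (N : ℂ) := by rw [Tv_norm hC, hN]; push_cast; ring
  have hXT : classInner X (Tv K ν) = (((c : ℝ) * N : ℝ) : ℂ) := by
    rw [inner_Tv_of_orth hC horth, hc, hN]; push_cast; ring
  have hB := bessel X (Finset.univ : Finset (Fin 3)) ![fun _ => 1, χ ω, Tv K ν] ![1, 1, N]
    ![1, (m : ℝ), (c : ℝ) * N] (by intro k _; fin_cases k <;> simp [hN0])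
    (by
      intro k _ k' _ hne
      fin_cases k <;> fin_cases k' <;>
        simp_all [hωp.2.1, hflip _ _ hωp.2.1, hflip _ _ hT1, hflip _ _ hTω])
    (by intro k _; fin_cases k <;> simp [hone, hωp.1, hTT])
    (by intro k _; fin_cases k <;> simp [hX1, hm, hXT])
  rw [hXX, Fin.sum_univ_three] at hB
  simp only [Matrix.cons_val_zero, Matrix.cons_val_one, Matrix.cons_val, one_pow, div_one] at hB
  have hc2 : (1 : ℝ) ≤ (c : ℝ) ^ 2 := by
    exact_mod_cast (show (1 : ℤ) ≤ c ^ 2 by have := sq_pos_of_ne_zero hc0; omega)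
  have hm2 : (1 : ℝ) ≤ (m : ℝ) ^ 2 := by
    exact_mod_cast (show (1 : ℤ) ≤ m ^ 2 by have := sq_pos_of_ne_zero hm0; omega)
  have e1 : ((c : ℝ) * N) ^ 2 / N = (c : ℝ) ^ 2 * N := by field_simp
  have e2 : (2 + ((Nat.card U : ℂ) - 1) / (Nat.card W1 : ℂ)).re =
      2 + ((Nat.card U : ℝ) - 1) / (Nat.card W1 : ℝ) := by
    rw [show (2 + ((Nat.card U : ℂ) - 1) / (Nat.card W1 : ℂ)) =
      ((2 + ((Nat.card U : ℝ) - 1) / (Nat.card W1 : ℝ) : ℝ) : ℂ) by push_cast; ring, Complex.ofReal_re]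
  rw [e1, e2] at hB
  nlinarith

end coherent

/-- Two coherent sets with disjoint supports. -/
theorem cross {A' : Set G} {L' : Subgroup G} [Fintype ↥L'] {H' : G → Subgroup G} {K' : Subgroup ↥L'}
    {ν' : (↥L' → ℂ) → (G → ℂ)} {ζ' : ↥L' → ℂ} (h₁ : CohSetup A L H K ν ζ) (h₂ : CohSetup A' L' H' K' ν' ζ')
    (hdisj : ∀ g, ¬ (InSupport A L H g ∧ InSupport A' L' H' g)) (hodd : Odd (Nat.card G))
    (hirr₁ : ∀ φ ∈ inducedIrrAbove K ⊥, IsIrrCharacter ↥L φ)
    (hirr₂ : ∀ φ ∈ inducedIrrAbove K' ⊥, IsIrrCharacter ↥L' φ) (he₁ : 2 ≤ K.index) (he₂ : 2 ≤ K'.index)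
    (hbig₁ : 2 * K.index < Nat.card ↥K) (hbig₂ : 2 * K'.index < Nat.card ↥K')
    (hne : classInner (PFCoherentDade.beta A L H K ζ) (ν' ζ') ≠ 0) :
    ((Nat.card ↥K' : ℝ) - 1) / (K'.index : ℝ) ≤ (K.index : ℝ) - 1 := by
  set N : ℝ := ((Nat.card ↥K' : ℝ) - 1) / (K'.index : ℝ) with hN
  have hN0 : 0 < N := by
    refine div_pos ?_ (by exact_mod_cast (show 0 < K'.index by omega))
    have : ((1 : ℕ) : ℝ) < (Nat.card ↥K' : ℕ) := Nat.cast_lt.2 (by omega)
    push_cast at this; linarith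
  obtain ⟨z, hz⟩ := classInner_isGeneralizedCharacter (beta_gen h₁) (h₂.iso.2.2.2 _ (subset_zspan h₂.mem))
  have hz0 : z ≠ 0 := by
    rintro rfl
    exact hne (by rw [hz, Int.cast_zero])
  have hB := bessel_beta h₁ hodd hbig₁ (Finset.univ : Finset Unit) (fun _ => Tv K' ν') (fun _ => N)
    (fun _ => (z : ℝ) * N) (fun _ _ => hN0) (fun k _ k' _ h => absurd (Subsingleton.elim k k') h)
    (fun _ _ => by rw [Tv_norm h₂, hN]; push_cast; ring)
    (fun _ _ => Tv_principal h₂ hodd)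
    (fun _ _ φ hφ => by
      rw [← CharBasicOrth.conj_classInner, Tv_orth h₂ (fun φ' hφ' => ?_), map_zero]
      have hi := hirr₂ φ' hφ'
      have hm := subset_zspan hφ'
      have hm' := subset_zspan (PF14Frob54.conj_mem h₂ hφ')
      have hne' := (conj_ne_self h₂ hirr₂ (hodd.of_dvd_nat (Subgroup.card_subgroup_dvd_card L')) he₂ hφ').symm
      have e : ν' φ' - ν' (conjFun φ') = dadeIsometry A' L' H' (φ' - conjFun φ') := by
        rw [← span_map_sub h₂.iso hm hm']
        exact h₂.ext _ (mem_zspanOn_one (zspan_sub hm hm')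
          (by simp [conjFun_apply_one (isCharacter_of_isIrrCharacter hi)]))
      refine nu_orth_pair h₁ hirr₁ (hodd.of_dvd_nat (Subgroup.card_subgroup_dvd_card L)) he₁ hφ
        (si_of_norm_one (h₂.iso.2.2.2 _ hm) (by rw [h₂.iso.2.2.1 _ hm _ hm, classInner_irr_self hi]))
        (si_of_norm_one (h₂.iso.2.2.2 _ hm') (by
          rw [h₂.iso.2.2.1 _ hm' _ hm', classInner_irr_self (conjFun_isIrr hi)]))
        (by rw [h₂.iso.2.2.1 _ hm _ hm', classInner_irr_ne hi (conjFun_isIrr hi) hne']) ?_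
        (fun α => by rw [e]; exact inner_disjoint hdisj α _)
      have h := congrFun e 1
      rw [dade_eq_zero (fun h => avoid h₂ (m := 1) (Nat.coprime_one_right _) h (one_pow 1)),
        Pi.sub_apply] at h
      exact sub_eq_zero.1 h)
    (fun _ _ => by
      rw [inner_Tv_of_orth h₂ (f := PFCoherentDade.beta A L H K ζ) (fun α => inner_disjoint hdisj _ α), hz, hN]
      push_cast; ring)
  simp only [Finset.univ_unique, Finset.sum_singleton] at hB
  have e1 : ((z : ℝ) * N) ^ 2 / N = (z : ℝ) ^ 2 * N := by field_simp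
  rw [e1] at hB
  have hz2 : (1 : ℝ) ≤ (z : ℝ) ^ 2 := by
    exact_mod_cast (show (1 : ℤ) ≤ z ^ 2 by have := sq_pos_of_ne_zero hz0; omega)
  nlinarith

end Cfsg.Agent.PF14Bridge54
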