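import Mathlib
import Cfsg.Agent.Lib.PF14Bridge54
import Cfsg.Agent.Lib.CharInducedTIFrob
import Cfsg.Agent.Lib.CoherenceExtend
import Cfsg.Agent.S1514

/-!
Exceptional characters of a subgroup of type III with trivial-intersection derived subgroup, against a disjoint
coherent set.
-/

set_option autoImplicit false
set_option linter.unusedSectionVars false
set_option linter.style.haveILetI false

open scoped ComplexConjugate Classical

namespace Cfsg.Agent.PF14Three54

open Cfsg CharBasic CharBasicOrth CharBasicDecomp CoherenceBasic DadeMap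
open PFCoherentDade PFInvDade PF14Frob54 PF14Setup54

variable {G : Type*} [Group G] [Fintype G] {S T W1 W2 U V : Subgroup G}

/-- The derived subgroup of `T`, inside `T`. -/
abbrev K3 (T : Subgroup G) : Subgroup ↥T := ⁅T, T⁆.subgroupOf T

instance K3_normal (T : Subgroup G) : (K3 T).Normal :=
  (Subgroup.normal_subgroupOf_iff_le_normalizer (Subgroup.commutator_le_self T)).2
    (BGTypeBasic.le_normalizer_derived T)

theorem exists_decomp (C : Pair S T W1 W2 U V) (x : ↥(K3 T)) :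
    ∃ b : ↥V, ∃ a ∈ Cfsg.fittingHallOf T, ((x : ↥T) : G) = a * b := by
  obtain ⟨a, ha, b, hb, e⟩ := C.hTP.U_compl.2.2.2 _ (Subgroup.mem_subgroupOf.1 x.2)
  exact ⟨⟨b, hb⟩, a, ha, e⟩

theorem decomp_unique (C : Pair S T W1 W2 U V) {a a' b b' : G} (ha : a ∈ Cfsg.fittingHallOf T)
    (ha' : a' ∈ Cfsg.fittingHallOf T) (hb : b ∈ V) (hb' : b' ∈ V) (e : a * b = a' * b') : b = b' := by
  have h : a'⁻¹ * a ∈ Cfsg.fittingHallOf T ⊓ V := by
    refine Subgroup.mem_inf.2 ⟨mul_mem (inv_mem ha') ha, ?_⟩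
    rw [show a'⁻¹ * a = b' * b⁻¹ by
      rw [eq_mul_inv_iff_mul_eq, mul_assoc, e]; group]
    exact mul_mem hb' (inv_mem hb)
  rw [C.hTP.U_compl.2.2.1, Subgroup.mem_bot, inv_mul_eq_one] at h
  exact mul_left_cancel (h ▸ e)

/-- The projection to `V`. -/
noncomputable def proj (C : Pair S T W1 W2 U V) : ↥(K3 T) →* ↥V :=
  MonoidHom.mk' (fun x => (exists_decomp C x).choose) (by
    intro x y
    obtain ⟨a, ha, ea⟩ := (exists_decomp C x).choose_spec
    obtain ⟨a', ha', ea'⟩ := (exists_decomp C y).choose_spec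
    obtain ⟨c, hc, ec⟩ := (exists_decomp C (x * y)).choose_spec
    set b := (exists_decomp C x).choose
    set b' := (exists_decomp C y).choose
    refine Subtype.ext (decomp_unique C hc (mul_mem ha (C.symm.mod.conjU b.2 ha'))
      (Subtype.coe_prop _) (mul_mem b.2 b'.2) (ec.symm.trans ?_))
    simp only [Subgroup.coe_mul, ea, ea']
    group)

theorem proj_apply (C : Pair S T W1 W2 U V) (x : ↥(K3 T)) {a : G} (ha : a ∈ Cfsg.fittingHallOf T)
    {b : ↥V} (e : ((x : ↥T) : G) = a * b) : proj C x = b := by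
  obtain ⟨c, hc, ec⟩ := (exists_decomp C x).choose_spec
  exact Subtype.ext (decomp_unique C hc ha (Subtype.coe_prop _) b.2 (ec.symm.trans e))

theorem proj_eq_one (C : Pair S T W1 W2 U V) (x : ↥(K3 T)) :
    proj C x = 1 ↔ ((x : ↥T) : G) ∈ Cfsg.fittingHallOf T := by
  refine ⟨fun h => ?_, fun h => proj_apply C x h (by simp)⟩
  obtain ⟨c, hc, ec⟩ := (exists_decomp C x).choose_spec
  rw [ec, show (exists_decomp C x).choose = 1 from h]
  simpa using hc

/-- The character of `T'` through `V`. -/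
noncomputable def th (C : Pair S T W1 W2 U V) (ψ : ↥V →* ℂˣ) : ↥(K3 T) → ℂ := fun x => (ψ (proj C x) : ℂ)

theorem th_irr (C : Pair S T W1 W2 U V) (ψ : ↥V →* ℂˣ) : IsIrrCharacter ↥(K3 T) (th C ψ) :=
  isIrrCharacter_linear (ψ.comp (proj C))

theorem th_inj (C : Pair S T W1 W2 U V) {ψ ψ' : ↥V →* ℂˣ} (h : th C ψ = th C ψ') : ψ = ψ' := by
  refine MonoidHom.ext fun b => Units.ext ?_
  have hT' : (b : G) ∈ ⁅T, T⁆ := C.hTP.U_compl.2.1 b.2
  have hb : (⟨(b : G), Subgroup.commutator_le_self T hT'⟩ : ↥T) ∈ K3 T := Subgroup.mem_subgroupOf.2 hT'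
  have := congrFun h ⟨_, hb⟩
  simp only [th] at this
  rwa [proj_apply C ⟨_, hb⟩ (one_mem _) (one_mul _).symm] at this

theorem sum_th (C : Pair S T W1 W2 U V) [Fintype (↥V →* ℂˣ)] (x : ↥(K3 T)) :
    ∑ ψ : ↥V →* ℂˣ, th C ψ x =
      if ((x : ↥T) : G) ∈ Cfsg.fittingHallOf T then (Nat.card V : ℂ) else 0 := by
  haveI : Fintype ↥V := Fintype.ofFinite _
  have hV : ∀ a b : ↥V, a * b = b * a := fun a b => Subtype.ext (C.symm.mod.mul_comm_U a.2 b.2)
  set f : ↥V → ℂ := fun a => if a = 1 then 1 else 0 with hf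
  have h := congrFun (CyclicTI.expand_hom hV f) (proj C x)
  have hin : ∀ ω : ↥V →* ℂˣ, classInner f (fun a => (ω a : ℂ)) = (Nat.card V : ℂ)⁻¹ := fun ω => by
    rw [classInner, Finset.sum_eq_single 1]
    · simp [hf]
    · intro b _ hb; simp [hf, hb]
    · simp
  simp only [hin, ← Finset.mul_sum] at h
  have hn : (Nat.card V : ℂ) ≠ 0 := Nat.cast_ne_zero.2 Nat.card_pos.ne'
  show ∑ ψ : ↥V →* ℂˣ, (ψ (proj C x) : ℂ) = _
  rw [← mul_inv_cancel_left₀ hn (∑ ψ : ↥V →* ℂˣ, (ψ (proj C x) : ℂ)), ← h, hf]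
  simp [proj_eq_one]

theorem th_inertia (C : Pair S T W1 W2 U V) {ψ : ↥V →* ℂˣ} (hψ : ψ ≠ 1) :
    CharInduced.inertia (K3 T) (th C ψ) = K3 T := by
  refine le_antisymm (fun g hg => ?_) (CharInduced.le_inertia _ (CharInduced.isClassFunction_irr (th_irr C ψ)))
  obtain ⟨d, hd, w, hw, e⟩ := C.hTP.W₁_compl.2.2.2 _ g.2
  suffices hw1 : w = 1 by
    rw [Subgroup.mem_subgroupOf, e, hw1, mul_one]; exact hd
  by_contra hw1
  apply hψ
  have hwT : w ∈ T := C.hTP.W₁_compl.2.1 hw
  set wT : ↥T := ⟨w, hwT⟩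
  set dT : ↥T := ⟨d, Subgroup.commutator_le_self T hd⟩
  have hgw : g = dT * wT := Subtype.ext e
  have hdi : dT ∈ CharInduced.inertia (K3 T) (th C ψ) :=
    CharInduced.le_inertia _ (CharInduced.isClassFunction_irr (th_irr C ψ)) (Subgroup.mem_subgroupOf.2 hd)
  have hwi : wT ∈ CharInduced.inertia (K3 T) (th C ψ) := by
    have := mul_mem (inv_mem hdi) (hgw ▸ hg)
    rwa [inv_mul_cancel_left] at this
  rw [CharInduced.mem_inertia_iff] at hwi
  have hfix : ∀ b : ↥V, ψ ⟨w * b * w⁻¹, C.symm.mod.conjW1U hw b.2⟩ = ψ b := fun b => by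
    have hT' : (b : G) ∈ ⁅T, T⁆ := C.hTP.U_compl.2.1 b.2
    have hb : (⟨(b : G), Subgroup.commutator_le_self T hT'⟩ : ↥T) ∈ K3 T := Subgroup.mem_subgroupOf.2 hT'
    have h := hwi ⟨_, hb⟩
    simp only [th] at h
    rw [proj_apply C ⟨_, hb⟩ (one_mem _) (one_mul _).symm,
      proj_apply C _ (one_mem _) (b := ⟨w * b * w⁻¹, C.symm.mod.conjW1U hw b.2⟩)
        (by rw [one_mul]; rfl)] at h
    exact Units.ext h
  let F : ↥V → ↥V := fun b => ⟨w * b * w⁻¹, C.symm.mod.conjW1U hw b.2⟩ * b⁻¹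
  have hF : Function.Bijective F := by
    refine Finite.injective_iff_bijective.1 fun a b hab => ?_
    have h1 : (w : G) * a * w⁻¹ * (a : G)⁻¹ = w * b * w⁻¹ * (b : G)⁻¹ := congrArg Subtype.val hab
    have hba : (b : G)⁻¹ * a ∈ V := mul_mem (inv_mem b.2) a.2
    have h2 : w * ((b : G)⁻¹ * a) = ((b : G)⁻¹ * a) * w := by
      have h3 : w * a * w⁻¹ = w * b * w⁻¹ * (b : G)⁻¹ * a := by rw [← h1]; group
      have h4 : w * ((b : G)⁻¹ * a) * w⁻¹ = (b : G)⁻¹ * a := by
        calc w * ((b : G)⁻¹ * a) * w⁻¹ = (w * b * w⁻¹)⁻¹ * (w * a * w⁻¹) := by group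
          _ = _ := by rw [h3]; group
      exact mul_inv_eq_iff_eq_mul.1 h4
    have := C.symm.mod.U_fix w hw hw1 _ hba h2
    exact Subtype.ext (inv_mul_eq_one.1 this).symm
  refine MonoidHom.ext fun v => ?_
  obtain ⟨b, rfl⟩ := hF.2 v
  simp only [F, map_mul, map_inv, hfix, mul_inv_cancel, MonoidHom.one_apply]

theorem index_K3 (C : Pair S T W1 W2 U V) : (K3 T).index = Nat.card W2 := by
  show ⁅T, T⁆.relIndex T = _
  exact FittingHallBasic.card_compl_eq_relIndex C.hTP.W₁_compl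

/-- The induced characters. -/
noncomputable def S3 (C : Pair S T W1 W2 U V) [Fintype ↥T] : Set (↥T → ℂ) :=
  {φ | ∃ ψ : ↥V →* ℂˣ, ψ ≠ 1 ∧ φ = indFun (K3 T) (th C ψ)}

variable [Fintype ↥T]

theorem S3_irr (C : Pair S T W1 W2 U V) {φ : ↥T → ℂ} (hφ : φ ∈ S3 C) : IsIrrCharacter ↥T φ := by
  obtain ⟨ψ, hψ, rfl⟩ := hφ
  rw [isIrrCharacter_iff]
  refine ⟨CharInduced.isCharacter_ind _ (isCharacter_of_isIrrCharacter (th_irr C ψ)), ?_⟩
  rw [CharInduced.classInner_ind_self _ (th_irr C ψ), th_inertia C hψ,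
    div_self (Nat.cast_ne_zero.2 Nat.card_pos.ne')]

theorem S3_deg (C : Pair S T W1 W2 U V) {φ : ↥T → ℂ} (hφ : φ ∈ S3 C) : φ 1 = (Nat.card W2 : ℂ) := by
  obtain ⟨ψ, -, rfl⟩ := hφ
  rw [CharInduced.ind_one_apply, index_K3 C]
  simp [th]

theorem S3_conj (C : Pair S T W1 W2 U V) {φ : ↥T → ℂ} (hφ : φ ∈ S3 C) : conjFun φ ∈ S3 C ∧ conjFun φ ≠ φ := by
  have hirr := S3_irr C hφ
  refine ⟨?_, fun h => ?_⟩
  · obtain ⟨ψ, hψ, rfl⟩ := hφ
    refine ⟨ψ⁻¹, fun h => hψ (MonoidHom.ext fun v => inv_eq_one.1 (DFunLike.congr_fun h v)), ?_⟩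
    rw [show conjFun (indFun (K3 T) (th C ψ)) = indFun (K3 T) (fun h => conj (th C ψ h)) from
      (CharInduced.ind_conj _ _).symm]
    congr 1
    funext x
    have hn : ‖(ψ (proj C x) : ℂ)‖ = 1 := by
      refine Complex.norm_eq_one_of_pow_eq_one (n := Nat.card ↥V) ?_ Nat.card_pos.ne'
      rw [← Units.val_pow_eq_pow_val, ← map_pow, pow_card_eq_one', map_one, Units.val_one]
    simp only [th, MonoidHom.inv_apply, Units.val_inv_eq_inv_val]
    rw [← Complex.inv_eq_conj hn]
  · have h1 := Cfsg.Agent.S0161.real_eq_one (C.oddG.of_dvd_nat (Subgroup.card_subgroup_dvd_card T)) hirr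
      fun g => by rw [isCharacter_inv (isCharacter_of_isIrrCharacter hirr)]; exact congrFun h g
    have h2 := congrFun h1 1
    rw [S3_deg C hφ] at h2
    have : Nat.card W2 = 1 := by exact_mod_cast h2
    exact C.prime_p.ne_one this

theorem S3_off (C : Pair S T W1 W2 U V) {φ : ↥T → ℂ} (hφ : φ ∈ S3 C) {x : ↥T} (hx : (x : G) ∉ ⁅T, T⁆) :
    φ x = 0 := by
  obtain ⟨ψ, -, rfl⟩ := hφ
  exact CharInduced.ind_normal_eq_zero (K3 T) _ (fun h => hx (Subgroup.mem_subgroupOf.1 h))

theorem span_off (C : Pair S T W1 W2 U V) {α : ↥T → ℂ} (hα : α ∈ zspanOn (S3 C) {1}ᶜ) :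
    IsClassFunction ↥T α ∧ IsGeneralizedCharacter ↥T α ∧ α 1 = 0 ∧ ∀ x : ↥T, (x : G) ∉ ⁅T, T⁆ → α x = 0 := by
  have h : ∀ β ∈ zspan (S3 C), IsGeneralizedCharacter ↥T β ∧ ∀ x : ↥T, (x : G) ∉ ⁅T, T⁆ → β x = 0 := by
    intro β hβ
    induction hβ using Submodule.span_induction with
    | mem a ha => exact ⟨isGeneralizedCharacter_of_isCharacter (isCharacter_of_isIrrCharacter (S3_irr C ha)),
        fun x hx => S3_off C ha hx⟩
    | zero =>
        refine ⟨?_, fun x _ => rfl⟩
        obtain ⟨⟩ := ()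
        exact isGeneralizedCharacter_zero
    | add a b _ _ ha hb => exact ⟨isGeneralizedCharacter_add ha.1 hb.1, fun x hx => by simp [ha.2 x hx, hb.2 x hx]⟩
    | smul n a _ ha =>
        refine ⟨?_, fun x hx => by simp [ha.2 x hx]⟩
        rw [← Int.cast_smul_eq_zsmul ℂ]
        exact isGeneralizedCharacter_zsmul ha.1 n
  obtain ⟨hg, hoff⟩ := h α hα.1
  exact ⟨isClassFunction_of_isGeneralizedCharacter hg, hg, apply_one_of_mem_zspanOn hα, hoff⟩

variable (hti : ∀ g : G, g ∉ T → ∀ t ∈ ⁅T, T⁆, g * t * g⁻¹ ∈ ⁅T, T⁆ → t = 1)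
include hti

theorem inner_ind3 (C : Pair S T W1 W2 U V) {α β : ↥T → ℂ} (hα : α ∈ zspanOn (S3 C) {1}ᶜ)
    (hβ : IsClassFunction ↥T β) (hvb : ∀ x : ↥T, (x : G) ∉ ⁅T, T⁆ → β x = 0) :
    classInner (indFun T α) (indFun T β) = classInner α β :=
  CharInducedTIFrob.inner_ind (K := ⁅T, T⁆) hti hβ (span_off C hα).2.2.2 hvb (span_off C hα).2.2.1

theorem exists_star (C : Pair S T W1 W2 U V) : ∃ ν : (↥T → ℂ) → (G → ℂ),
    IsLinearIsometryOn (zspan (S3 C)) ν ∧ ∀ α ∈ zspanOn (S3 C) {1}ᶜ, ν α = indFun T α := by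
  haveI : Fintype ↥V := Fintype.ofFinite _
  have hV : ∀ a b : ↥V, a * b = b * a := fun a b => Subtype.ext (C.symm.mod.mul_comm_U a.2 b.2)
  have hne : (S3 C).Nonempty := by
    haveI := CyclicTI.hom_fintype ↥V
    have h1 : 1 < Nat.card (↥V →* ℂˣ) := by
      rw [CyclicTIFamily.card_dual hV]
      exact Finite.one_lt_card_iff_nontrivial.2 ((Subgroup.nontrivial_iff_ne_bot _).2 C.symm.U_ne)
    haveI := Finite.one_lt_card_iff_nontrivial.1 h1
    obtain ⟨ψ, hψ⟩ := exists_ne (1 : ↥V →* ℂˣ)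
    exact ⟨_, ψ, hψ, rfl⟩
  obtain ⟨R, hR⟩ := Cfsg.Agent.S1514.coherence_system_of_irr hne (fun φ h => S3_irr C h)
    (fun φ h => S3_conj C h) (τ := indFun T) ⟨fun a _ b _ => CharInduced.ind_add T a b, fun a _ n => by
      rw [← Int.cast_smul_eq_zsmul ℂ, CharInduced.ind_smul, Int.cast_smul_eq_zsmul],
      fun a ha b hb => inner_ind3 hti C ha (span_off C hb).1 (span_off C hb).2.2.2,
      fun a ha => CharInduced.isGenChar_ind T (span_off C ha).2.1⟩
    (fun a ha => by rw [CharInduced.ind_one_apply, (span_off C ha).2.2.1, mul_zero])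
  obtain ⟨-, ν, h1, h2⟩ := CoherenceExtend.coherent_of_constant_degree hR
    (fun φ hφ ψ hψ => by rw [S3_deg C hφ, S3_deg C hψ])
  exact ⟨ν, h1, h2⟩

variable {A : Set G} {L : Subgroup G} [Fintype ↥L] {H : G → Subgroup G} {K : Subgroup ↥L}
  {ν' : (↥L → ℂ) → (G → ℂ)} {ζ : ↥L → ℂ}

/-- One of the two bounds. -/
theorem three_bound (C : Pair S T W1 W2 U V) (hC : CohSetup A L H K ν' ζ)
    (hirr : ∀ φ ∈ inducedIrrAbove K ⊥, IsIrrCharacter ↥L φ) (he : 2 ≤ K.index)
    (hbig : 2 * K.index < Nat.card ↥K)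
    (hdisj : ∀ g, InSupport A L H g → ∀ x : G, x * g * x⁻¹ ∈ ⁅T, T⁆ → g = 1) :
    ((Nat.card V : ℝ) - 1) / (Nat.card W2 : ℝ) ≤ (K.index : ℝ) - 1 ∨
      ((Nat.card ↥K : ℝ) - 1) / (K.index : ℝ) ≤ (Nat.card W2 : ℝ) := by
  haveI : Fintype ↥V := Fintype.ofFinite _
  haveI := CyclicTI.hom_fintype ↥V
  haveI : Fintype (↥V →* ℂˣ) := Fintype.ofFinite _
  have hodd := C.oddG
  have hV : ∀ a b : ↥V, a * b = b * a := fun a b => Subtype.ext (C.symm.mod.mul_comm_U a.2 b.2)
  obtain ⟨ν, hiso, hext⟩ := exists_star hti C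
  have hvanish : ∀ (α : ↥T → ℂ) (β : ↥L → ℂ), α 1 = 0 → (∀ x : ↥T, (x : G) ∉ ⁅T, T⁆ → α x = 0) →
      classInner (dadeIsometry A L H β) (indFun T α) = 0 := by
    intro α β h1 hoff
    rw [classInner, Finset.sum_eq_zero, mul_zero]
    intro g _
    by_cases hs : InSupport A L H g
    · have hz : indFun T α g = 0 := by
        rw [CharInduced.indFun_apply, Finset.sum_eq_zero, mul_zero]
        intro x _
        rw [CharInduced.ext_zero_eq_dite]
        split_ifs with hx
        · by_cases hT' : (x⁻¹ * g * x) ∈ ⁅T, T⁆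
          · have hg1 := hdisj g hs x⁻¹ (by simpa using hT')
            subst hg1
            exact absurd (one_pow 1) (PF14Bridge54.avoid hC (Nat.coprime_one_right _) hs)
          · exact hoff _ hT'
        · rfl
      rw [hz, map_zero, mul_zero]
    · rw [dade_eq_zero hs, zero_mul]
  have hdiff : ∀ φ ∈ S3 C, ∀ φ' ∈ S3 C, φ - φ' ∈ zspanOn (S3 C) {1}ᶜ := fun φ hφ φ' hφ' =>
    mem_zspanOn_one (zspan_sub (subset_zspan hφ) (subset_zspan hφ')) (by simp [S3_deg C hφ, S3_deg C hφ'])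
  have hsi : ∀ φ ∈ S3 C, SignedIrr (ν φ) := fun φ hφ => si_of_norm_one (hiso.2.2.2 _ (subset_zspan hφ))
    (by rw [hiso.2.2.1 _ (subset_zspan hφ) _ (subset_zspan hφ), classInner_irr_self (S3_irr C hφ)])
  have hpair : ∀ φ ∈ S3 C, classInner (ν φ) (ν (conjFun φ)) = 0 := fun φ hφ => by
    have hc := S3_conj C hφ
    rw [hiso.2.2.1 _ (subset_zspan hφ) _ (subset_zspan hc.1),
      classInner_irr_ne (S3_irr C hφ) (S3_irr C hc.1) hc.2.symm]
  have hsub : ∀ φ ∈ S3 C, ∀ φ' ∈ S3 C, ν φ - ν φ' = indFun T (φ - φ') := fun φ hφ φ' hφ' => by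
    rw [← span_map_sub hiso (subset_zspan hφ) (subset_zspan hφ')]
    exact hext _ (hdiff φ hφ φ' hφ')
  have hne1 : ∀ φ ∈ S3 C, φ ≠ fun _ => (1 : ℂ) := fun φ hφ h => by
    have h2 := congrFun h 1
    rw [S3_deg C hφ] at h2
    exact C.prime_p.ne_one (by exact_mod_cast h2)
  have hone : ∀ φ ∈ S3 C, classInner (ν φ) (fun _ => 1) = 0 := by
    intro φ hφ
    have hc := (S3_conj C hφ).1
    have h : classInner (ν φ - ν (conjFun φ)) (fun _ => 1) = 0 := by
      rw [hsub φ hφ _ hc, CharInduced.inner_ind_left T _ (fun _ _ => rfl),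
        CharBasicOrth.classInner_sub_left,
        classInner_irr_ne (S3_irr C hφ) isIrrCharacter_one (hne1 φ hφ),
        classInner_irr_ne (S3_irr C hc) isIrrCharacter_one (hne1 _ hc), sub_zero]
    rw [CharBasicOrth.classInner_sub_left, sub_eq_zero] at h
    have s1 : SignedIrr (fun _ : G => (1 : ℂ)) := Or.inl isIrrCharacter_one
    rcases si_cases s1 (hsi φ hφ) with h0 | ⟨ε, hε, heq, hin⟩
    · rw [← CharBasicOrth.conj_classInner, h0, map_zero]
    · exfalso
      rw [heq, CharBasicOrth.classInner_smul_left,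
        classInner_irr_self isIrrCharacter_one] at h
      have hp := hpair φ hφ
      rw [heq, CharBasicOrth.classInner_smul_left, mul_eq_zero] at hp
      rcases hp with hp | hp
      · rcases hε with rfl | rfl <;> norm_num at hp
      · rw [← CharBasicOrth.conj_classInner, hp, map_zero] at h
        rcases hε with rfl | rfl <;> norm_num at h
  have hνconj : ∀ φ ∈ S3 C, conjFun (ν φ) = ν (conjFun φ) := by
    intro φ hφ
    have hc := (S3_conj C hφ).1
    set a := ν φ
    set b := ν (conjFun φ)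
    have e : a - b = indFun T (φ - conjFun φ) := hsub φ hφ _ hc
    have e' : conjFun a - conjFun b = b - a := by
      funext g
      have h1 := congrFun e g
      simp only [Pi.sub_apply] at h1
      simp only [Cfsg.conjFun, Pi.sub_apply]
      rw [← map_sub, h1, ← congrFun (CharInduced.ind_conj T (φ - conjFun φ)) g]
      have : (fun h => conj ((φ - conjFun φ) h)) = (-1 : ℂ) • (φ - conjFun φ) := by
        funext h; simp [Cfsg.conjFun]
      rw [this, CharInduced.ind_smul, Pi.smul_apply, ← h1, smul_eq_mul]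
      ring
    have hbb : classInner b b = 1 := si_self (hsi _ hc)
    have hcb : classInner (conjFun b) b = 0 := by
      obtain ⟨ψ, hψ, hψb⟩ : ∃ ψ, IsIrrCharacter G ψ ∧ (b = ψ ∨ b = -ψ) := by
        rcases hsi _ hc with h | h
        · exact ⟨b, h, Or.inl rfl⟩
        · exact ⟨-b, h, Or.inr (neg_neg b).symm⟩
      have hψne : conjFun ψ ≠ ψ := by
        intro h
        have h1 := Cfsg.Agent.S0161.real_eq_one hodd hψ fun g => by
          rw [isCharacter_inv (isCharacter_of_isIrrCharacter hψ)]; exact congrFun h g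
        have hb1 := hone _ hc
        change classInner b (fun _ => 1) = 0 at hb1
        rcases hψb with e1 | e1 <;> rw [e1, h1] at hb1
        · rw [classInner_irr_self isIrrCharacter_one] at hb1; exact one_ne_zero hb1
        · rw [CharBasicOrth.classInner_neg_left, classInner_irr_self isIrrCharacter_one] at hb1
          norm_num at hb1
      have h0 := classInner_irr_ne (conjFun_isIrr hψ) hψ hψne
      rcases hψb with e1 | e1 <;> rw [e1]
      · exact h0
      · rw [show conjFun (-ψ) = -conjFun ψ by funext g; simp [Cfsg.conjFun],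
          CharBasicOrth.classInner_neg_left, CharBasicOrth.classInner_neg_right, neg_neg, h0]
    have hab : classInner a b = 0 := hpair φ hφ
    have h1 := congrArg (fun f => classInner f b) e'
    simp only [CharBasicOrth.classInner_sub_left, hcb, sub_zero, hbb, hab] at h1
    have hsa : SignedIrr (conjFun a) := by
      rcases hsi φ hφ with h | h
      · exact Or.inl (conjFun_isIrr h)
      · refine Or.inr ?_
        rw [show -conjFun a = conjFun (-a) by funext g; simp [Cfsg.conjFun]]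
        exact conjFun_isIrr h
    rcases si_cases hsa (hsi _ hc) with h0 | ⟨ε, hε, heq, hin⟩
    · rw [h0] at h1; exact absurd h1 zero_ne_one
    · rw [hin] at h1
      have h2 := heq
      rw [h1, one_smul] at h2
      exact h2.symm
  -- the choice of a character
  have hne : ∃ ψ : ↥V →* ℂˣ, ψ ≠ 1 := by
    have h1 : 1 < Nat.card (↥V →* ℂˣ) := by
      rw [CyclicTIFamily.card_dual hV]
      exact Finite.one_lt_card_iff_nontrivial.2 ((Subgroup.nontrivial_iff_ne_bot _).2 C.symm.U_ne)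
    haveI := Finite.one_lt_card_iff_nontrivial.1 h1
    exact exists_ne 1
  obtain ⟨ψ1, hψ1⟩ := hne
  set φ1 := indFun (K3 T) (th C ψ1) with hφ1d
  have hφ1 : φ1 ∈ S3 C := ⟨ψ1, hψ1, rfl⟩
  set o1 : ↥T → ℂ := indFun (K3 T) (fun _ => 1) with ho1
  set β' : G → ℂ := indFun T (o1 - φ1) with hβ'
  have hoff1 : ∀ x : ↥T, (x : G) ∉ ⁅T, T⁆ → (o1 - φ1) x = 0 := fun x hx => by
    rw [Pi.sub_apply, S3_off C hφ1 hx, ho1,
      CharInduced.ind_normal_eq_zero (K3 T) _ (fun h => hx (Subgroup.mem_subgroupOf.1 h)), sub_zero]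
  have h01 : (o1 - φ1) 1 = 0 := by
    rw [Pi.sub_apply, S3_deg C hφ1, ho1, CharInduced.ind_one_apply, index_K3 C, mul_one, sub_self]
  have hgen1 : IsGeneralizedCharacter ↥T (o1 - φ1) := isGeneralizedCharacter_sub
    (isGeneralizedCharacter_of_isCharacter (CharInduced.isCharacter_ind _ (isCharacter_of_isIrrCharacter
      isIrrCharacter_one))) (isGeneralizedCharacter_of_isCharacter (isCharacter_of_isIrrCharacter (S3_irr C hφ1)))
  have hcls1 := isClassFunction_of_isGeneralizedCharacter hgen1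
  have hg' : IsGeneralizedCharacter G β' := CharInduced.isGenChar_ind T hgen1
  have hino : ∀ ψ : ↥V →* ℂˣ, ψ ≠ 1 → classInner (indFun (K3 T) (th C ψ)) o1 = 0 := by
    intro ψ hψ
    refine CharInduced.classInner_ind_ind_eq_zero _ (th_irr C ψ) isIrrCharacter_one fun h => ?_
    obtain ⟨g, hg⟩ := (CharInduced.mem_orbitFin _).1 h
    have h2 : th C ψ = fun _ => 1 := by
      funext n
      have := congrFun hg ⟨g⁻¹ * n * g, by simpa using (K3_normal T).conj_mem n n.2 g⁻¹⟩
      simp only [CharInduced.conjFun] at this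
      rw [← this]
      congr 1
      exact Subtype.ext (by simp [mul_assoc])
    exact hψ (th_inj C (h2.trans (by funext n; simp [th])))
  have hoo : classInner o1 o1 = (Nat.card W2 : ℂ) := by
    have hN : (Nat.card ↥(K3 T) : ℂ) ≠ 0 := Nat.cast_ne_zero.2 Nat.card_pos.ne'
    rw [ho1, CharInduced.classInner_ind_self _ isIrrCharacter_one,
      show CharInduced.inertia (K3 T) (fun _ => (1 : ℂ)) = ⊤ from eq_top_iff.2 fun g _ => rfl,
      Nat.card_congr Subgroup.topEquiv.toEquiv, ← Subgroup.card_mul_index (K3 T), index_K3 C]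
    push_cast
    field_simp
  have ho1one : classInner (o1 - φ1) (fun _ => 1) = 1 := by
    rw [CharBasicOrth.classInner_sub_left, ho1,
      CharInduced.inner_ind_left (K3 T) _ (χ := fun _ => (1 : ℂ)) (fun _ _ => rfl),
      classInner_irr_self isIrrCharacter_one, classInner_irr_ne (S3_irr C hφ1) isIrrCharacter_one, sub_zero]
    intro h
    have h2 := congrFun h 1
    rw [S3_deg C hφ1] at h2
    exact C.prime_p.ne_one (by exact_mod_cast h2)
  have hb1 : classInner β' (fun _ => 1) = 1 := by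
    rw [hβ', CharInduced.inner_ind_left T _ (fun _ _ => rfl)]
    exact ho1one
  have hbb : classInner β' β' = (Nat.card W2 : ℂ) + 1 := by
    rw [hβ', CharInducedTIFrob.inner_ind (K := ⁅T, T⁆) hti hcls1 hoff1 hoff1 h01,
      CharBasicOrth.classInner_sub_left, CharBasicOrth.classInner_sub_right, CharBasicOrth.classInner_sub_right,
      hoo, hino ψ1 hψ1, classInner_irr_self (S3_irr C hφ1),
      show classInner o1 φ1 = 0 by rw [← CharBasicOrth.conj_classInner, hino ψ1 hψ1, map_zero]]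
    ring
  have hreal : conjFun (β' + ν φ1) = β' + ν φ1 := by
    funext g
    have h1 := congrFun (hνconj φ1 hφ1) g
    have hcj : (fun h => conj ((o1 - φ1) h)) = (o1 - φ1) + (φ1 - conjFun φ1) := by
      funext h
      simp only [Pi.sub_apply, Pi.add_apply, map_sub, Cfsg.conjFun]
      have hr : conj (o1 h) = o1 h := by
        rw [ho1, ← congrFun (CharInduced.ind_conj (K3 T) fun _ => (1 : ℂ)) h]
        simp
      rw [hr]; ring
    have h2 : conj (β' g) = β' g + (ν φ1 g - ν (conjFun φ1) g) := by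
      rw [hβ', ← congrFun (CharInduced.ind_conj T (o1 - φ1)) g, hcj, CharInduced.ind_add, Pi.add_apply,
        ← hsub φ1 hφ1 _ (S3_conj C hφ1).1, Pi.sub_apply]
    simp only [Cfsg.conjFun, Pi.add_apply, map_add] at h1 ⊢
    rw [h2, h1]
    ring
  have horth : classInner (PFCoherentDade.beta A L H K ζ) β' = 0 := hvanish _ _ h01 hoff1
  have hnν : ∀ φ ∈ inducedIrrAbove K ⊥, ∀ φ' ∈ S3 C, classInner (ν' φ) (ν φ') = 0 := by
    intro φ hφ φ' hφ'
    have hc := (S3_conj C hφ').1
    refine nu_orth_pair hC hirr (hodd.of_dvd_nat (Subgroup.card_subgroup_dvd_card L)) he hφ (hsi _ hφ') (hsi _ hc)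
      (hpair φ' hφ') ?_ (fun α => ?_)
    · have h := congrFun (hsub φ' hφ' _ hc) 1
      rw [CharInduced.ind_one_apply, Pi.sub_apply, (span_off C (hdiff φ' hφ' _ hc)).2.2.1, mul_zero] at h
      exact sub_eq_zero.1 h
    · rw [hsub φ' hφ' _ hc]
      exact hvanish _ _ (span_off C (hdiff φ' hφ' _ hc)).2.2.1 (span_off C (hdiff φ' hφ' _ hc)).2.2.2
  obtain ⟨c, hc⟩ := classInner_isGeneralizedCharacter (beta_gen hC) (hiso.2.2.2 _ (subset_zspan hφ1))
  obtain ⟨c', hc'⟩ := classInner_isGeneralizedCharacter hg' (hC.iso.2.2.2 _ (subset_zspan hC.mem))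
  have hpar := parity hodd (isGeneralizedCharacter_add (beta_gen hC) (hC.iso.2.2.2 _ (subset_zspan hC.mem)))
    (isGeneralizedCharacter_add hg' (hiso.2.2.2 _ (subset_zspan hφ1))) (beta_add_nu_real hC hodd) hreal
    (a := 1) (b := 1) (c := c + c')
    (by rw [CharBasicOrth.classInner_add_left, beta_inner_one hC, (nu_conj hC hodd).2 _ hC.mem]; simp)
    (by rw [CharBasicOrth.classInner_add_left, hb1, hone φ1 hφ1]; simp)
    (by
      rw [CharBasicOrth.classInner_add_left, CharBasicOrth.classInner_add_right,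
        CharBasicOrth.classInner_add_right, horth, hc, hnν _ hC.mem _ hφ1,
        show classInner (ν' ζ) β' = (c' : ℂ) by rw [← CharBasicOrth.conj_classInner, hc', map_intCast]]
      push_cast; ring)
  by_cases hc0 : c = 0
  · right
    have hc'0 : c' ≠ 0 := by
      rintro rfl
      subst hc0
      obtain ⟨k, hk⟩ := hpar
      omega
    set N : ℝ := ((Nat.card ↥K : ℝ) - 1) / (K.index : ℝ) with hN
    have hN0 : 0 < N := by
      refine div_pos ?_ (by exact_mod_cast (show 0 < K.index by omega))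
      have : ((1 : ℕ) : ℝ) < (Nat.card ↥K : ℕ) := Nat.cast_lt.2 (by omega)
      push_cast at this; linarith
    have hT1 := Tv_principal hC hodd
    have hB := bessel β' (Finset.univ : Finset (Fin 2)) ![fun _ => 1, Tv K ν'] ![1, N] ![1, (c' : ℝ) * N]
      (by intro k _; fin_cases k <;> simp [hN0])
      (by
        intro k _ k' _ hne
        fin_cases k <;> fin_cases k' <;>
          simp_all [show classInner (fun _ : G => (1 : ℂ)) (Tv K ν') = 0 by
            rw [← CharBasicOrth.conj_classInner, hT1, map_zero]])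
      (by
        intro k _
        fin_cases k
        · simp [classInner_irr_self (isIrrCharacter_one (G := G))]
        · simp only [Matrix.cons_val_one, Matrix.cons_val_zero, Fin.mk_one, Tv_norm hC, hN]
          push_cast; ring)
      (by
        intro k _
        fin_cases k
        · simp [hb1]
        · simp only [Matrix.cons_val_one, Matrix.cons_val_zero, Fin.mk_one]
          rw [inner_Tv_of_orth hC (f := β') (fun α => by
            rw [← CharBasicOrth.conj_classInner, hvanish _ α h01 hoff1, map_zero]), hc', hN]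
          push_cast; ring)
    rw [hbb, Fin.sum_univ_two] at hB
    simp only [Matrix.cons_val_zero, Matrix.cons_val_one, one_pow, div_one] at hB
    have e1 : ((c' : ℝ) * N) ^ 2 / N = (c' : ℝ) ^ 2 * N := by field_simp
    rw [e1] at hB
    simp only [Complex.add_re, Complex.natCast_re, Complex.one_re] at hB
    have hc2 : (1 : ℝ) ≤ (c' : ℝ) ^ 2 := by
      exact_mod_cast (show (1 : ℤ) ≤ c' ^ 2 by have := sq_pos_of_ne_zero hc'0; omega)
    nlinarith
  · left
    set Ψ := Finset.univ.erase (1 : ↥V →* ℂˣ) with hΨ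
    set Y : G → ℂ := ((Nat.card W2 : ℂ)⁻¹) • ∑ ψ ∈ Ψ, ν (indFun (K3 T) (th C ψ)) with hY
    have hp0 : (Nat.card W2 : ℂ) ≠ 0 := Nat.cast_ne_zero.2 Nat.card_pos.ne'
    have hmem : ∀ ψ ∈ Ψ, indFun (K3 T) (th C ψ) ∈ S3 C := fun ψ hψ => ⟨ψ, Finset.ne_of_mem_erase hψ, rfl⟩
    have hcard : (Ψ.card : ℂ) = (Nat.card V : ℂ) - 1 := by
      rw [hΨ, Finset.card_erase_of_mem (Finset.mem_univ _), Finset.card_univ, ← Nat.card_eq_fintype_card,
        CyclicTIFamily.card_dual hV, Nat.cast_sub Nat.card_pos, Nat.cast_one]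
    have hsum : ∀ ψ ∈ Ψ, ∑ ψ' ∈ Ψ, classInner (indFun (K3 T) (th C ψ)) (indFun (K3 T) (th C ψ')) =
        (Nat.card W2 : ℂ) := by
      intro ψ hψ
      rw [← CharBasicOrth.classInner_sum_right, ← CharInduced.ind_sum,
        CharInduced.inner_ind_right _ _ (CharInduced.isClassFunction_ind (K3 T) _)]
      have h0 := hino ψ (Finset.ne_of_mem_erase hψ)
      rw [ho1, CharInduced.inner_ind_right _ _ (CharInduced.isClassFunction_ind (K3 T) _)] at h0
      have hres : ∀ x : ↥(K3 T), ((x : ↥T) : G) ∈ Cfsg.fittingHallOf T →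
          indFun (K3 T) (th C ψ) x = (Nat.card W2 : ℂ) := by
        intro x hx
        have hN : (Nat.card ↥(K3 T) : ℂ) ≠ 0 := Nat.cast_ne_zero.2 Nat.card_pos.ne'
        rw [CharInduced.indFun_apply, Finset.sum_congr rfl (g := fun _ => (1 : ℂ)) (fun g _ => ?_),
          Finset.sum_const, Finset.card_univ, nsmul_eq_mul, mul_one, ← Nat.card_eq_fintype_card,
          ← Subgroup.card_mul_index (K3 T), index_K3 C]
        · push_cast; field_simp
        · have hgx : g⁻¹ * (x : ↥T) * g ∈ K3 T := by simpa using (K3_normal T).conj_mem x x.2 g⁻¹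
          rw [CharInduced.ext_zero_of_mem (th C ψ) hgx]
          have hone' : proj C ⟨_, hgx⟩ = 1 := (proj_eq_one C _).2 (by
            have := (Subgroup.mem_normalizer_iff.1 (FittingHallBasic.le_normalizer_fittingHallOf T
              (inv_mem g.2)) ((x : ↥T) : G)).1 hx
            simpa using this)
          simp [th, hone']
      have hfun : (∑ ψ' ∈ Ψ, th C ψ') = fun x : ↥(K3 T) =>
          (if ((x : ↥T) : G) ∈ Cfsg.fittingHallOf T then (Nat.card V : ℂ) else 0) - 1 := by
        funext x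
        rw [Finset.sum_apply, hΨ, Finset.sum_erase_eq_sub (Finset.mem_univ _), sum_th C x]
        simp [th]
      rw [hfun, show (fun x : ↥(K3 T) =>
          (if ((x : ↥T) : G) ∈ Cfsg.fittingHallOf T then (Nat.card V : ℂ) else 0) - 1) =
        (fun x : ↥(K3 T) => if ((x : ↥T) : G) ∈ Cfsg.fittingHallOf T then (Nat.card V : ℂ) else 0) -
          fun _ => 1 from rfl, CharBasicOrth.classInner_sub_right, h0, sub_zero, classInner]
      set Qs := (Finset.univ : Finset ↥(K3 T)).filter fun x : ↥(K3 T) => ((x : ↥T) : G) ∈ Cfsg.fittingHallOf T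
      have hQ : Qs.card = Nat.card (Cfsg.fittingHallOf T) := by
        rw [← Nat.card_eq_finsetCard]
        refine Nat.card_congr ⟨fun x => ⟨((x.1 : ↥T) : G), (Finset.mem_filter.1 x.2).2⟩,
          fun y => ⟨(⟨(⟨(y : G), FittingHallBasic.fittingHallOf_le T y.2⟩ : ↥T),
            Subgroup.mem_subgroupOf.2 (C.symm.le_derived y.2)⟩ : ↥(K3 T)),
            Finset.mem_filter.2 ⟨Finset.mem_univ _, y.2⟩⟩,
          fun _ => rfl, fun _ => rfl⟩
      have hKcard : Nat.card ↥(K3 T) = Nat.card (Cfsg.fittingHallOf T) * Nat.card V := by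
        exact (Nat.card_congr (Subgroup.subgroupOfEquivOfLe (Subgroup.commutator_le_self T)).toEquiv).trans
          (BGTypeBasic.card_mul_of_isComplIn C.hTP.U_compl).symm
      have hterm : ∀ x : ↥(K3 T), indFun (K3 T) (th C ψ) x *
          conj (if ((x : ↥T) : G) ∈ Cfsg.fittingHallOf T then (Nat.card V : ℂ) else 0) =
          if ((x : ↥T) : G) ∈ Cfsg.fittingHallOf T then (Nat.card W2 : ℂ) * (Nat.card V : ℂ) else 0 := fun x => by
        split_ifs with hx
        · rw [map_natCast, hres x hx]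
        · simp
      simp only [hterm]
      rw [← Finset.sum_filter, Finset.sum_const, hQ, hKcard, nsmul_eq_mul]
      have h1 : (Nat.card (Cfsg.fittingHallOf T) : ℂ) ≠ 0 := Nat.cast_ne_zero.2 Nat.card_pos.ne'
      have h2 : (Nat.card V : ℂ) ≠ 0 := Nat.cast_ne_zero.2 Nat.card_pos.ne'
      push_cast
      field_simp
    set N : ℝ := ((Nat.card V : ℝ) - 1) / (Nat.card W2 : ℝ) with hN
    have hYY : classInner Y Y = (N : ℂ) := by
      rw [hY, CharBasicOrth.classInner_smul_left, CharBasicOrth.classInner_smul_right,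
        CharBasicOrth.classInner_sum_left, map_inv₀, map_natCast,
        Finset.sum_congr rfl (g := fun _ => (Nat.card W2 : ℂ)) (fun ψ hψ => by
          rw [CharBasicOrth.classInner_sum_right, Finset.sum_congr rfl (fun ψ' hψ' =>
            hiso.2.2.1 _ (subset_zspan (hmem ψ hψ)) _ (subset_zspan (hmem ψ' hψ'))), hsum ψ hψ]),
        Finset.sum_const, nsmul_eq_mul, hcard, hN]
      push_cast
      field_simp
    have hbY : classInner (PFCoherentDade.beta A L H K ζ) Y = (((c : ℝ) * N : ℝ) : ℂ) := by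
      rw [hY, CharBasicOrth.classInner_smul_right, CharBasicOrth.classInner_sum_right, map_inv₀, map_natCast,
        Finset.sum_congr rfl (g := fun _ => (c : ℂ)) (fun ψ hψ => by
          have h := hvanish (indFun (K3 T) (th C ψ) - φ1) (ind1 K - ζ)
            (span_off C (hdiff _ (hmem ψ hψ) _ hφ1)).2.2.1 (span_off C (hdiff _ (hmem ψ hψ) _ hφ1)).2.2.2
          rw [← hsub _ (hmem ψ hψ) _ hφ1, CharBasicOrth.classInner_sub_right, sub_eq_zero] at h
          exact h.trans hc),
        Finset.sum_const, nsmul_eq_mul, hcard, hN]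
      push_cast
      field_simp
    have hN0 : 0 < N := by
      refine div_pos ?_ (Nat.cast_pos.2 Nat.card_pos)
      have : ((1 : ℕ) : ℝ) < (Nat.card V : ℕ) := Nat.cast_lt.2
        (Finite.one_lt_card_iff_nontrivial.2 ((Subgroup.nontrivial_iff_ne_bot _).2 C.symm.U_ne))
      push_cast at this; linarith
    have hB := bessel_beta hC hodd hbig (Finset.univ : Finset Unit) (fun _ => Y) (fun _ => N)
      (fun _ => (c : ℝ) * N) (fun _ _ => hN0) (fun k _ k' _ h => absurd (Subsingleton.elim k k') h)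
      (fun _ _ => hYY)
      (fun _ _ => by
        rw [hY, CharBasicOrth.classInner_smul_left, CharBasicOrth.classInner_sum_left,
          Finset.sum_eq_zero (fun ψ hψ => hone _ (hmem ψ hψ)), mul_zero])
      (fun _ _ φ hφ => by
        rw [hY, CharBasicOrth.classInner_smul_left, CharBasicOrth.classInner_sum_left,
          Finset.sum_eq_zero (fun ψ hψ => by
            rw [← CharBasicOrth.conj_classInner, hnν φ hφ _ (hmem ψ hψ), map_zero]), mul_zero])
      (fun _ _ => hbY)
    simp only [Finset.univ_unique, Finset.sum_singleton] at hB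
    have e1 : ((c : ℝ) * N) ^ 2 / N = (c : ℝ) ^ 2 * N := by field_simp
    rw [e1] at hB
    have hc2 : (1 : ℝ) ≤ (c : ℝ) ^ 2 := by
      exact_mod_cast (show (1 : ℤ) ≤ c ^ 2 by have := sq_pos_of_ne_zero hc0; omega)
    nlinarith

end Cfsg.Agent.PF14Three54
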