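import Mathlib
import Cfsg.Agent.Lib.PF14Three54

/-!
The conclusion about the maximal subgroup over the normalizer of `U`.
-/

set_option autoImplicit false
set_option linter.unusedSectionVars false
set_option linter.style.haveILetI false

open scoped ComplexConjugate Classical

namespace Cfsg.Agent.PF14Main54

open Cfsg CharBasic CharBasicOrth CharBasicDecomp CoherenceBasic DadeMap CyclicTI
open PFCoherentDade PFInvDade PF14Frob54 PF14Setup54 PF14Core54 PF14Ineq54 PF14Bridge54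

/-! ## Arithmetic -/

theorem geom_ge {p q n : ℕ} (hp : 2 ≤ p) (hq : 1 ≤ q) (h : n * (p - 1) + 1 = p ^ q) : p ^ (q - 1) ≤ n := by
  by_contra hn
  push Not at hn
  have h1 : n * (p - 1) ≤ (p ^ (q - 1) - 1) * (p - 1) := Nat.mul_le_mul_right _ (by omega)
  have h2 : p ^ q = p ^ (q - 1) * p := by rw [← pow_succ]; congr 1; omega
  have h4 : 1 ≤ p ^ (q - 1) := Nat.one_le_pow _ _ (by omega)
  obtain ⟨a, ha⟩ : ∃ a, p ^ (q - 1) = a + 1 := ⟨p ^ (q - 1) - 1, by omega⟩
  obtain ⟨b, rfl⟩ : ∃ b, p = b + 1 := ⟨p - 1, by omega⟩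
  rw [h2, ha] at h
  rw [ha] at h1
  simp only [Nat.add_sub_cancel] at h1 h
  nlinarith

theorem geom_mod {p q n : ℕ} (hp : 2 ≤ p) (hq : 1 ≤ q) (h : n * (p - 1) + 1 = p ^ q) : n % p = 1 := by
  obtain ⟨b, rfl⟩ : ∃ b, p = b + 1 := ⟨p - 1, by omega⟩
  obtain ⟨k, rfl⟩ : ∃ k, q = k + 1 := ⟨q - 1, by omega⟩
  simp only [Nat.add_sub_cancel] at h
  have h3 := congrArg (Nat.cast (R := ZMod (b + 1))) h
  push_cast at h3
  have hb : ((b : ℕ) : ZMod (b + 1)) = -1 := by
    have := ZMod.natCast_self (b + 1)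
    push_cast at this
    linear_combination this
  have h0 : ((b : ZMod (b + 1)) + 1) = 0 := by rw [hb]; ring
  rw [h0, hb, zero_pow (Nat.succ_ne_zero k)] at h3
  have h4 : (n : ZMod (b + 1)) = ((1 : ℕ) : ZMod (b + 1)) := by push_cast; linear_combination -h3
  have h5 := (ZMod.natCast_eq_natCast_iff' n 1 (b + 1)).1 h4
  rw [h5, Nat.mod_eq_of_lt (by omega)]

/-- A large multiple makes `v` large. -/
theorem big {p q u v k : ℕ} (hq : 3 ≤ q) (hp : q + 2 ≤ p) (hu : p ^ (q - 1) ≤ u)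
    (hk : 2 * (p * q) + 1 ≤ k) (h : k * u ≤ q * (v - 1) + 1) (hv : 1 ≤ v) :
    p * p * (q * q) < v ∧ 2 * (p * q) * (p * p) < k * u := by
  obtain ⟨r, rfl⟩ : ∃ r, q = r + 3 := ⟨q - 3, by omega⟩
  have hpp : p * p ≤ u := by
    refine le_trans (le_trans (le_of_eq (pow_two p).symm) (Nat.pow_le_pow_right (by omega) (by omega))) hu
  constructor
  · have h1 : (r + 3) * (2 * p * u) < (r + 3) * v := by
      have : (2 * (p * (r + 3)) + 1) * u ≤ k * u := Nat.mul_le_mul_right _ hk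
      obtain ⟨w, rfl⟩ : ∃ w, v = w + 1 := ⟨v - 1, by omega⟩
      simp only [Nat.add_sub_cancel] at h
      nlinarith
    have h2 := Nat.lt_of_mul_lt_mul_left h1
    refine lt_of_le_of_lt ?_ h2
    rcases Nat.eq_zero_or_pos r with rfl | hr
    · nlinarith
    · have h3 : p * p * p ≤ u := by
        refine le_trans (le_trans (le_of_eq (by ring)) (Nat.pow_le_pow_right (n := p) (i := 3) (j := r + 3 - 1)
          (by omega) (by omega))) hu
      calc p * p * ((r + 3) * (r + 3)) ≤ p * p * (p * p) :=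
            Nat.mul_le_mul_left _ (Nat.mul_le_mul (by omega) (by omega))
        _ = p * (p * p * p) := by ring
        _ ≤ p * u := Nat.mul_le_mul_left _ h3
        _ ≤ 2 * p * u := by rw [mul_assoc]; omega
  · have : (2 * (p * (r + 3)) + 1) * u ≤ k * u := Nat.mul_le_mul_right _ hk
    nlinarith

theorem le_qv {p q h v : ℕ} (hp : 0 < p) (hq : 0 < q) (hv : 1 ≤ v)
    (h' : ((h : ℝ) - 1) / ((p * q : ℕ) : ℝ) ≤ ((v : ℝ) - 1) / (p : ℝ)) : h ≤ q * (v - 1) + 1 := by
  rw [div_le_div_iff₀ (by exact_mod_cast Nat.mul_pos hp hq) (by exact_mod_cast hp)] at h'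
  have h2 : ((h : ℝ) - 1) * p ≤ ((v : ℝ) - 1) * q * p := by
    refine h'.trans (le_of_eq ?_); push_cast; ring
  have h3 := le_of_mul_le_mul_right h2 (by exact_mod_cast hp)
  have h4 : (h : ℝ) ≤ ((q * (v - 1) + 1 : ℕ) : ℝ) := by push_cast [Nat.cast_sub hv]; linarith
  exact_mod_cast h4

theorem mult_eq_one {m a b n : ℕ} (hmod : (m * n) % b = 1) (hn : n % b = 1) (hm : m ≤ a) (hab : a < b) :
    m = 1 := by
  rw [Nat.mul_mod, hn, mul_one, Nat.mod_mod] at hmod
  rwa [Nat.mod_eq_of_lt (by omega)] at hmod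

variable {G : Type*} [Group G] [Fintype G]
variable {S T W1 W2 U V : Subgroup G}
variable {A : Set G} {L : Subgroup G} [Fintype ↥L] {H : G → Subgroup G} {K : Subgroup ↥L}
  {ν : (↥L → ℂ) → (G → ℂ)} {ζ : ↥L → ℂ}

/-- The two alternatives given by the coefficients on the family. -/
theorem bounds (C : Pair S T W1 W2 U V) (hqp : Nat.card W1 < Nat.card W2) (hC : CohSetup A L H K ν ζ)
    (hcop : (Nat.card ↥K).Coprime (Nat.card W2 * Nat.card W1))
    (hirr : ∀ φ ∈ inducedIrrAbove K ⊥, IsIrrCharacter ↥L φ) (he : 2 ≤ K.index)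
    (hle : K.index ≤ Nat.card W2 * Nat.card W1) (h7 : 7 ≤ Nat.card ↥K) (hbig : 2 * K.index < Nat.card ↥K) :
    ((Nat.card ↥K : ℝ) - 1) / (K.index : ℝ) ≤ ((Nat.card U : ℝ) - 1) / (Nat.card W1 : ℝ) ∨
      (Nat.card W2 ≤ K.index ∧
        ((Nat.card ↥K : ℝ) - 1) / (K.index : ℝ) ≤ ((Nat.card V : ℝ) - 1) / (Nat.card W2 : ℝ)) := by
  haveI := CyclicTI.hom_fintype ↥(W1 ⊔ W2)
  have hW := C.hSP.selfNormalizing
  obtain ⟨χ, hχ⟩ := CyclicTIExist.exists_family hW (C.oddG.of_dvd_nat (Subgroup.card_subgroup_dvd_card _))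
  have X := C.data.ctx hχ
  have hd := hdisj hW
  have hcm := hcomm hW
  set p := Nat.card W2 with hpd
  set q := Nat.card W1 with hqd
  have hq3 : 3 ≤ q := X.hq3
  have hp5 : 5 ≤ p := by
    obtain ⟨a, ha⟩ := C.odd_card W2
    obtain ⟨b, hb⟩ := C.odd_card W1
    omega
  obtain ⟨hcu, hcv⟩ := card_eq C
  have dn : Nat.card U * (p - 1) + 1 = p ^ q := by
    rw [hcu, PF14Module54.div_mul_eq C.mod, Nat.sub_add_cancel (Nat.one_le_pow _ _ (by omega))]
  have dn' : Nat.card V * (q - 1) + 1 = q ^ p := by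
    rw [hcv, PF14Module54.div_mul_eq C.symm.mod, Nat.sub_add_cancel (Nat.one_le_pow _ _ (by omega))]
  have hU := upper (c := 1) (by omega) hq3 dn (le_of_eq (one_mul _).symm) zero_le_one le_rfl
  have hV := upper (p := q) (q := p) (c := 1) (by omega) (by omega) dn' (le_of_eq (one_mul _).symm)
    zero_le_one le_rfl
  have r1 := ratio_le (p := p) (k := 5) (by norm_num) hp5
  have r2 := ratio_le (p := q) (k := 3) (by norm_num) hq3
  have s1 := small_le (p := p) (q := q) (a := 5) (b := 3) (by norm_num) (by norm_num) hp5 hq3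
  have s2 := small_le (p := q) (q := p) (a := 3) (b := 5) (by norm_num) (by norm_num) hq3 hp5
  simp only [one_mul] at hU hV
  norm_num at r1 r2 s1 s2
  -- the support
  have hEc : Closed ((Finset.univ : Finset G).filter (InSupport A L H)) :=
    closed_support hC.dade (gens_closed hC)
  have hEo : ∀ g ∈ (Finset.univ : Finset G).filter (InSupport A L H), g ^ (p * q) ≠ 1 :=
    fun g hg => avoid hC hcop (Finset.mem_filter.1 hg).2
  choose z hz using fun ω => classInner_isGeneralizedCharacter (beta_gen hC) (PF13Cols8.gen X ω)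
  obtain ⟨r, hr, hr1⟩ := Finset.exists_mem_ne (s := PF13Cols8.rows W1 W2)
    (by rw [PF13Cols8.card_rows X]; omega) 1
  obtain ⟨c, hc, hc1⟩ := Finset.exists_mem_ne (s := PF13Cols8.cols W1 W2)
    (by rw [PF13Cols8.card_cols X]; omega) 1
  rw [PF13Cols8.mem_rows] at hr
  rw [PF13Cols8.mem_cols] at hc
  have hr1' : ¬ TrivOn W1 r := fun h => hr1 (eq_one_of_triv_both hd hcm h hr)
  have hc1' : ¬ TrivOn W2 c := fun h => hc1 (eq_one_of_triv_both hd hcm hc h)
  have t1 : ¬ TrivOn W1 (r * c) := fun h => hr1' fun w hw => by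
    have := h w hw
    rwa [MonoidHom.mul_apply, hc w hw, mul_one] at this
  have t2 : ¬ TrivOn W2 (r * c) := fun h => hc1' fun w hw => by
    have := h w hw
    rwa [MonoidHom.mul_apply, hr w hw, one_mul] at this
  have hrc : z (r * c) = z r + z c - 1 := by
    have h := D_mul C hC hcop hχ hirr he hr hc
    rw [hz, hz, hz] at h
    exact_mod_cast h
  have hval : ∀ x : ℤ, x ≠ 0 → x ≠ 1 → (2 : ℝ) ≤ (x : ℝ) ^ 2 + (-1) * (x : ℝ) := fun x h0 h1 => by
    have : (2 : ℤ) ≤ x ^ 2 + (-1) * x := by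
      rcases (by omega : x ≤ -1 ∨ 2 ≤ x) with h | h <;> nlinarith
    exact_mod_cast this
  have hzr : z r = 0 ∨ z r = 1 := by
    by_contra hcon
    push Not at hcon
    have h1 := support_term C hC hcop hχ hirr he r (hz r) hle h7 (-1) (hval _ hcon.1 hcon.2)
    have h2 := ineq_row C hχ hr1' hr hEc hEo
    linarith
  have hback : ∀ ω : ↥(W1 ⊔ W2) →* ℂˣ, swapFam χ (ω.comp (swapEquiv W2 W1).toMonoidHom) = χ ω := fun ω => by
    show χ _ = χ ω
    exact congrArg χ (MonoidHom.ext fun w => rfl)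
  have htr : ∀ (K : Subgroup G) (ω : ↥(W1 ⊔ W2) →* ℂˣ),
      TrivOn K (ω.comp (swapEquiv W2 W1).toMonoidHom) ↔ TrivOn K ω := fun K ω =>
    ⟨fun h w hw => h ((swapEquiv W2 W1).symm w) hw, fun h w hw => h (swapEquiv W2 W1 w) hw⟩
  have hzc : z c = 0 ∨ z c = 1 := by
    by_contra hcon
    push Not at hcon
    have h1 := support_term C hC hcop hχ hirr he c (hz c) hle h7 (-1) (hval _ hcon.1 hcon.2)
    have h2 := ineq_row C.symm (swapFam_family hχ) (ω := c.comp (swapEquiv W2 W1).toMonoidHom)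
      (fun h => hc1' ((htr _ _).1 h)) ((htr _ _).2 hc) hEc (fun g hg => by rw [mul_comm]; exact hEo g hg)
    rw [hback c, mul_comm (Nat.card W1 : ℝ)] at h2
    linarith
  have hnot : ¬ (z r = 1 ∧ z c = 1) := by
    rintro ⟨e1, e2⟩
    have h1 := support_term C hC hcop hχ hirr he (r * c) (hz _) hle h7 1
      (by rw [hrc, e1, e2]; norm_num)
    have h2 := ineq_full C hχ t1 t2 hEc hEo
    linarith
  by_cases hc0 : z c = 0
  · exact Or.inl (X_bound C hC hcop hχ hirr he hc hc1 (hz c) ⟨0, by omega⟩)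
  have hc' : z c = 1 := hzc.resolve_left hc0
  have hr0 : z r = 0 := hzr.resolve_right fun h => hnot ⟨h, hc'⟩
  refine Or.inr ⟨?_, ?_⟩
  · have hB := bessel_beta hC C.oddG hbig ((PF13Cols8.cols W1 W2).erase 1) χ (fun _ => 1)
      (fun j => (1 : ℝ)) (fun _ _ => one_pos)
      (fun j _ k _ hne => by rw [hχ.orthonormal, if_neg hne])
      (fun j _ => by rw [hχ.orthonormal]; simp)
      (fun j hj => by
        rw [Finset.mem_erase] at hj
        rw [← hχ.map_one, hχ.orthonormal, if_neg hj.1])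
      (fun j _ φ hφ => by
        rw [← CharBasicOrth.conj_classInner, eta_zero C hC hcop hχ hirr he hφ j, map_zero])
      (fun j hj => by
        rw [Finset.mem_erase, PF13Cols8.mem_cols] at hj
        rw [D_col C hC hcop hχ hirr he hj.2 hc hj.1 hc1, hz, hc']; simp)
    simp only [one_pow, div_one, Finset.sum_const, nsmul_eq_mul, mul_one] at hB
    rw [Finset.card_erase_of_mem (PF13Cols8.mem_cols.2 (trivOn_one _)), PF13Cols8.card_cols X,
      Nat.cast_sub (by omega : 1 ≤ p), Nat.cast_one, sub_le_sub_iff_right] at hB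
    exact_mod_cast hB
  · have h := X_bound C.symm hC (by rwa [mul_comm]) (swapFam_family hχ) hirr he
      (j := r.comp (swapEquiv W2 W1).toMonoidHom) ((htr _ _).2 hr)
      (fun h => hr1' ((htr W1 r).1 (by rw [h]; exact trivOn_one _)))
      (d := z r) (by rw [hback]; exact hz r) ⟨0, by omega⟩
    exact h

/-! ## Disjoint supports -/

theorem mem_tilde {M : Subgroup G} {B : Set G} (hD : Cfsg.DadeHypothesis B M (Cfsg.supportR M)) {g : G}
    (h : InSupport B M (Cfsg.supportR M) g) : g ∈ Cfsg.tildeOf M B := by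
  obtain ⟨a, ha, u, hu, x, e⟩ := (inSupport_iff hD g).1 h
  exact ⟨a, ha, u, hu, x⁻¹, by rw [← e]; group⟩

/-- The separation of the sets attached to two maximal subgroups that are not conjugate. -/
def Separated (G : Type*) [Group G] : Prop :=
  ∀ M N : Subgroup G, IsCoatom M → IsCoatom N → (∀ g : G, N.map (MulAut.conj g).toMonoidHom ≠ M) →
    Cfsg.tildeOf M (Cfsg.typeA1 M) ∩ Cfsg.tildeOf N (Cfsg.typeA N) = ∅ ∨
      Cfsg.tildeOf N (Cfsg.typeA1 N) ∩ Cfsg.tildeOf M (Cfsg.typeA M) = ∅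

theorem frob_disjoint (hsep : Separated G) {M N : Subgroup G} (F : Frob M) (F' : Frob N)
    (hnc : ∀ g : G, N.map (MulAut.conj g).toMonoidHom ≠ M) (g : G) :
    ¬ (InSupport (Cfsg.typeA M) M (Cfsg.supportR M) g ∧ InSupport (Cfsg.typeA N) N (Cfsg.supportR N) g) := by
  rintro ⟨h1, h2⟩
  have m1 := mem_tilde F.dade h1
  have m2 := mem_tilde F'.dade h2
  rcases hsep M N F.max F'.max hnc with h | h
  · rw [typeA1_eq F] at h; exact (h ▸ Set.mem_inter m1 m2 : g ∈ (∅ : Set G))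
  · rw [typeA1_eq F'] at h; exact (h ▸ Set.mem_inter m2 m1 : g ∈ (∅ : Set G))

theorem three_disjoint (hG : Cfsg.IsMinSimpleOddOrder G) (hsep : Separated G) (F : Frob L) (hT : IsCoatom T) (hT3 : Cfsg.IsOfTypeIII T) (g : G)
    (h : InSupport (Cfsg.typeA L) L (Cfsg.supportR L) g) (x : G) (hx : x * g * x⁻¹ ∈ ⁅T, T⁆) : g = 1 := by
  by_contra hg
  have hx1 : x * g * x⁻¹ ≠ 1 := fun e => hg (conj_eq_one_iff.1 e)
  have hA1 : x * g * x⁻¹ ∈ Cfsg.typeA1 T := by
    rw [PF8Sets.mem_typeA1_iff, PF8Sets.typeCore_eq_derived (Or.inl (Or.inl hT3))]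
    exact ⟨hx, hx1⟩
  have hg1 : g ∈ Cfsg.tildeOf T (Cfsg.typeA1 T) :=
    ⟨_, hA1, 1, one_mem _, x⁻¹, by group⟩
  have hg2 : g ∈ Cfsg.tildeOf T (Cfsg.typeA T) :=
    ⟨_, PF8Sets.typeA1_subset_typeA hG hT hA1, 1, one_mem _, x⁻¹, by group⟩
  have hnc : ∀ y : G, L.map (MulAut.conj y).toMonoidHom ≠ T := fun y e =>
    BGTypeBasic.not_typeI_of_isOfTypeP (BGTypeBasic.isOfTypeP_of_typeIII hT3)
      (e ▸ BGTypeConj.isOfTypeI_map _ F.typeI)
  have m := mem_tilde F.dade h
  rcases hsep T L hT F.max hnc with e | e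
  · exact (e ▸ Set.mem_inter hg1 m : g ∈ (∅ : Set G))
  · rw [typeA1_eq F] at e; exact (e ▸ Set.mem_inter m hg2 : g ∈ (∅ : Set G))

/-! ## The maximal subgroup over the normalizer of `U` -/

theorem le_normalizer_of_cyclic {K' B : Subgroup G} {M : Subgroup G} (hK : IsCyclic ↥K') (hB : B ≤ K')
    (hM : M ≤ Subgroup.normalizer (K' : Set G)) : M ≤ Subgroup.normalizer (B : Set G) := by
  have key : ∀ x ∈ M, ∀ b ∈ B, x * b * x⁻¹ ∈ B := by
    intro x hx b hb
    let f : ↥K' →* ↥K' :=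
      MonoidHom.mk' (fun k => ⟨x * k * x⁻¹, (Subgroup.mem_normalizer_iff.1 (hM hx) k).1 k.2⟩)
        (fun a c => Subtype.ext (by simp [mul_assoc]))
    obtain ⟨m, hm⟩ := MonoidHom.map_cyclic f
    have h := congrArg Subtype.val (hm ⟨b, hB hb⟩)
    change x * b * x⁻¹ = _ at h
    rw [h, Subgroup.coe_zpow]
    exact zpow_mem hb m
  intro x hx
  refine Subgroup.mem_normalizer_iff.2 fun b => ⟨key x hx b, fun h => ?_⟩
  simpa [mul_assoc] using key x⁻¹ (inv_mem hx) _ h

theorem isCyclic_map_conj {B : Subgroup G} (g : G) :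
    IsCyclic ↥(B.map (MulAut.conj g).toMonoidHom) ↔ IsCyclic ↥B := BGTypeConj.isCyclic_map _ _

/-- The subgroup data on the side of `T`. -/
def TSide (T V : Subgroup G) (m : ℕ) : Prop :=
  (∃ M : Subgroup G, Frob M ∧ V ≤ Cfsg.fittingHallOf M ∧ 2 ≤ (Cfsg.fittingHall M).index ∧
      (Cfsg.fittingHall M).index ≤ m) ∨
    (Cfsg.IsOfTypeIII T ∧ ∀ g : G, g ∉ T → ∀ t ∈ ⁅T, T⁆, g * t * g⁻¹ ∈ ⁅T, T⁆ → t = 1)

theorem coprime_p (C : Pair S T W1 W2 U V) {L' : Subgroup G} (hUH : U ≤ Cfsg.fittingHallOf L') :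
    (Nat.card (Cfsg.fittingHallOf L')).Coprime (Nat.card W2) := by
  haveI : Group.IsNilpotent ↥(Cfsg.fittingHallOf L') :=
    (ComponentsCores.isNilpotent_map_subtype_iff _).mpr FittingHallBasic.fittingHall_isNilpotent
  refine Nat.Coprime.symm ((Nat.Prime.coprime_iff_not_dvd C.prime_p).2 fun hdvd => ?_)
  haveI := Fact.mk C.prime_p
  obtain ⟨z, hz⟩ := exists_prime_orderOf_dvd_card' (Nat.card W2) hdvd
  have hzG : orderOf (z : G) = Nat.card W2 := by rw [Subgroup.orderOf_coe]; exact hz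
  -- a Sylow subgroup containing `z` is conjugate to the Fitting Hall subgroup of `S`
  have hPp : IsPGroup (Nat.card W2) (Cfsg.fittingHallOf S) := IsPGroup.of_card C.cardS
  obtain ⟨Q, hQ⟩ := hPp.exists_le_sylow
  have hQS : (Q : Subgroup G) = Cfsg.fittingHallOf S := by
    by_contra hne
    have hlt : Cfsg.fittingHallOf S < (Q : Subgroup G) := lt_of_le_of_ne hQ (Ne.symm hne)
    haveI : Group.IsNilpotent ↥(Q : Subgroup G) := Q.2.isNilpotent
    have hsub : (Cfsg.fittingHallOf S).subgroupOf (Q : Subgroup G) < ⊤ := by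
      rw [lt_top_iff_ne_top, Ne, Subgroup.subgroupOf_eq_top]
      exact hlt.not_ge
    obtain ⟨y, hy1, hy2⟩ := SetLike.exists_of_lt (Group.normalizerCondition_of_isNilpotent _ hsub)
    rw [Subgroup.mem_subgroupOf] at hy2
    have hyS : (y : G) ∈ S := by
      rw [← C.normalizer_P, Subgroup.mem_normalizer_iff]
      intro a
      rw [Subgroup.mem_normalizer_iff] at hy1
      constructor
      · intro ha
        have := (hy1 ⟨a, hQ ha⟩).1 (Subgroup.mem_subgroupOf.2 ha)
        simpa [Subgroup.mem_subgroupOf] using this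
      · intro ha
        have haQ : a ∈ (Q : Subgroup G) := by
          have := mul_mem (mul_mem (inv_mem y.2) (hQ ha)) y.2
          simpa [mul_assoc] using this
        exact Subgroup.mem_subgroupOf.1 ((hy1 ⟨a, haQ⟩).2 (Subgroup.mem_subgroupOf.2 (by simpa using ha)))
    have ho : (orderOf (y : G)).Coprime (Nat.card W1) := by
      obtain ⟨k, hk⟩ := IsPGroup.iff_orderOf.1 Q.2 y
      rw [Subgroup.orderOf_coe, hk]
      exact ((Nat.coprime_primes C.prime_p C.prime_q).2 C.p_ne_q).pow_left k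
    obtain ⟨a, ha, b, hb, e⟩ := C.hSP.U_compl.2.2.2 _ (C.mem_derived hyS ho)
    have hbQ : b ∈ (Q : Subgroup G) := by
      have := mul_mem (inv_mem (hQ ha)) y.2
      rwa [e, inv_mul_cancel_left] at this
    obtain ⟨k, hk⟩ := IsPGroup.iff_orderOf.1 Q.2 ⟨b, hbQ⟩
    rw [← Subgroup.orderOf_coe] at hk
    have hb1 : b = 1 := orderOf_eq_one_iff.1 (Nat.eq_one_of_dvd_coprimes (C.cop_up.pow_right k)
      (Subgroup.orderOf_dvd_natCard _ hb) (dvd_of_eq hk))
    exact hy2 (by rw [e, hb1, mul_one]; exact ha)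
  obtain ⟨R, hR⟩ := (IsPGroup.of_card (p := Nat.card W2) (n := 1)
    (by rw [Nat.card_zpowers, hzG, pow_one]) : IsPGroup (Nat.card W2) (Subgroup.zpowers (z : G))).exists_le_sylow
  obtain ⟨g, hg⟩ := MulAction.exists_smul_eq G R Q
  set x := g * (z : G) * g⁻¹ with hx
  have hxP : x ∈ Cfsg.fittingHallOf S := by
    rw [← hQS, ← hg]
    exact ⟨z, hR (Subgroup.mem_zpowers _), rfl⟩
  have hx1 : x ≠ 1 := fun h => C.prime_p.ne_one (by rw [← hzG, conj_eq_one_iff.1 h, orderOf_one])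
  obtain ⟨u, hu, hu1⟩ := U.bot_or_exists_ne_one.resolve_left C.U_ne
  have hco : (orderOf (⟨u, hUH hu⟩ : ↥(Cfsg.fittingHallOf L'))).Coprime (orderOf z) := by
    rw [← Subgroup.orderOf_coe, hz]
    exact C.cop_up.coprime_dvd_left (Subgroup.orderOf_dvd_natCard _ hu)
  have hcz : u * (z : G) = z * u :=
    congrArg Subtype.val (FittingHallBasic.commute_of_coprime_orderOf hco)
  set u' := g * u * g⁻¹ with hu'
  have hcx : u' * x = x * u' := by
    calc u' * x = g * (u * z) * g⁻¹ := by rw [hu', hx]; group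
      _ = g * (z * u) * g⁻¹ := by rw [hcz]
      _ = _ := by rw [hu', hx]; group
  have ho' : orderOf u' = orderOf u :=
    orderOf_injective (MulAut.conj g).toMonoidHom (MulAut.conj g).injective u
  have hcq : (orderOf u').Coprime (Nat.card W1) := by
    rw [ho']; exact C.cop_uq.coprime_dvd_left (Subgroup.orderOf_dvd_natCard _ hu)
  have huS : u' ∈ S := C.centralizer_le hxP hx1 (Subgroup.mem_centralizer_singleton_iff.2 hcx)
  obtain ⟨a, ha, b, hb, e⟩ := C.hSP.U_compl.2.2.2 _ (C.mem_derived huS hcq)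
  have hb1 : b = 1 := by
    by_contra hb1
    refine hx1 (PF14Module54.fpf C.mod (card_eq C).1 b hb hb1 x hxP ?_)
    have h1 : a * (b * x) = a * (x * b) := by
      rw [← mul_assoc, ← e, hcx, e, ← mul_assoc, ← mul_assoc, C.mod.mul_comm_P hxP ha]
    exact mul_left_cancel h1
  rw [hb1, mul_one] at e
  have hu'1 : u' = 1 := orderOf_eq_one_iff.1 (Nat.eq_one_of_dvd_coprimes (C.cop_up.pow_right (Nat.card W1))
    (ho' ▸ Subgroup.orderOf_dvd_natCard _ hu) (by rw [← C.cardS]; exact e ▸ Subgroup.orderOf_dvd_natCard _ ha))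
  exact hu1 (conj_eq_one_iff.1 hu'1)

theorem conj_cyclic (C : Pair S T W1 W2 U V) (hqp : Nat.card W1 < Nat.card W2) {L M : Subgroup G}
    (g : G) (hg : L.map (MulAut.conj g).toMonoidHom = M) (hVM : V ≤ Cfsg.fittingHallOf M)
    (hv1 : Nat.card V % (Nat.card W2 * Nat.card W1) = 1)
    (hh1 : Nat.card (Cfsg.fittingHallOf L) % (Nat.card W2 * Nat.card W1) = 1)
    (hvb : Nat.card (Cfsg.fittingHallOf L) ≤ Nat.card W1 * (Nat.card V - 1) + 1) :
    IsCyclic ↥(Cfsg.fittingHallOf L) := by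
  set p := Nat.card W2 with hpd
  set q := Nat.card W1 with hqd
  set h := Nat.card (Cfsg.fittingHallOf L) with hhd
  have hq := C.prime_q
  have hp := C.prime_p
  obtain ⟨-, hcv⟩ := card_eq C
  have hqlt : q < p * q := by
    calc q = 1 * q := (one_mul q).symm
      _ < p * q := Nat.mul_lt_mul_of_pos_right hp.one_lt hq.pos
  have hMF : Cfsg.fittingHallOf M = (Cfsg.fittingHallOf L).map (MulAut.conj g).toMonoidHom := by
    rw [← hg, BGTypeConj.fittingHallOf_map]
  have hcm : Nat.card (Cfsg.fittingHallOf M) = h := by rw [hMF, BGTypeConj.card_map]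
  obtain ⟨m, hm⟩ : Nat.card V ∣ h := hcm ▸ Subgroup.card_dvd_of_le hVM
  have hmq : m ≤ q := by
    by_contra hlt
    have h0 : Nat.card V * (q + 1) ≤ Nat.card V * m := Nat.mul_le_mul_left _ (by omega)
    obtain ⟨w, hw⟩ : ∃ w, Nat.card V = w + 1 := ⟨Nat.card V - 1, by
      have := Nat.card_pos (α := ↥V); omega⟩
    rw [hw] at h0 hm
    rw [hw, Nat.add_sub_cancel] at hvb
    nlinarith
  have hm1 : m = 1 := by
    refine mult_eq_one (b := p * q) (n := Nat.card V) ?_ hv1 hmq hqlt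
    rw [mul_comm m, ← hm]; exact hh1
  have hVM' : V = Cfsg.fittingHallOf M :=
    Subgroup.eq_of_le_of_card_ge hVM (by rw [hcm, hm, hm1, mul_one])
  have hVcyc : IsCyclic ↥V := by
    obtain ⟨x0, hx0, hx01⟩ := C.symm.mod.exists_W2
    exact (PF14Module54.isCyclic_and_field C.symm.mod hcv hx0 hx01).1
  rw [hVM', hMF] at hVcyc
  exact (isCyclic_map_conj g).1 hVcyc

theorem separate_typeII (C : Pair S T W1 W2 U V) {L : Subgroup G} [Fintype ↥L] (F : Frob L)
    (hqp : Nat.card W1 < Nat.card W2) (hepq : (Cfsg.fittingHall L).index = Nat.card W2 * Nat.card W1)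
    (h2e : 2 * (Cfsg.fittingHall L).index < Nat.card ↥(Cfsg.fittingHall L))
    (hvbig : Nat.card W2 * Nat.card W2 * (Nat.card W1 * Nat.card W1) < Nat.card V)
    (hhbig : 2 * (Nat.card W2 * Nat.card W1) * (Nat.card W2 * Nat.card W2) < Nat.card (Cfsg.fittingHallOf L))
    {ν : (↥L → ℂ) → (G → ℂ)} {ζ : ↥L → ℂ}
    (hC : CohSetup (Cfsg.typeA L) L (Cfsg.supportR L) (Cfsg.fittingHall L) ν ζ) (hsep : Separated G)
    {M : Subgroup G} (FM : Frob M) (hVM : V ≤ Cfsg.fittingHallOf M)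
    (heM2 : 2 ≤ (Cfsg.fittingHall M).index) (heM : (Cfsg.fittingHall M).index ≤ Nat.card W2 * Nat.card W1)
    (hconj : ∀ g : G, L.map (MulAut.conj g).toMonoidHom ≠ M) : False := by
  have hodd := C.oddG
  set p := Nat.card W2 with hpd
  set q := Nat.card W1 with hqd
  set h := Nat.card (Cfsg.fittingHallOf L) with hhd
  set e := (Cfsg.fittingHall L).index with hed
  change e = p * q at hepq
  have hq := C.prime_q
  have hp := C.prime_p
  obtain ⟨a0, ha0⟩ := C.odd_card W1
  have hq3 : 3 ≤ q := by have := hq.two_le; omega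
  have hpq : q * q ≤ p * q := Nat.mul_le_mul_right q (by omega)
  have h9 : 9 ≤ q * q := Nat.mul_le_mul hq3 hq3
  have he2 : 2 ≤ e := by omega
  have hcardK : Nat.card ↥(Cfsg.fittingHall L) = h := (FittingHallBasic.card_fittingHallOf L).symm
  haveI : Fintype ↥M := Fintype.ofFinite _
  have hcM : Nat.card ↥(Cfsg.fittingHall M) = Nat.card (Cfsg.fittingHallOf M) :=
    (FittingHallBasic.card_fittingHallOf M).symm
  have hvle : Nat.card V ≤ Nat.card (Cfsg.fittingHallOf M) := Subgroup.card_le_of_le hVM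
  have hppqq : p * q ≤ p * p * (q * q) := by
    rw [show p * p * (q * q) = p * q * (p * q) by ring]
    exact Nat.le_mul_self _
  have h3pq : 3 * (p * q) ≤ p * p * (q * q) := by
    rw [show p * p * (q * q) = p * q * (p * q) by ring]
    exact Nat.mul_le_mul_right _ (by omega)
  have hMne : Cfsg.fittingHallOf M ≠ ⊥ := fun h0 => by
    rw [h0, Subgroup.card_bot] at hvle; omega
  obtain ⟨νM, ζM, hCM⟩ := exists_cohSetup FM hodd heM2 hMne
  have hdisj : ∀ g, ¬ (InSupport (Cfsg.typeA L) L (Cfsg.supportR L) g ∧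
      InSupport (Cfsg.typeA M) M (Cfsg.supportR M) g) := fun g hg =>
    frob_disjoint hsep FM F hconj g ⟨hg.2, hg.1⟩
  have hbigM : 2 * (Cfsg.fittingHall M).index < Nat.card ↥(Cfsg.fittingHall M) := by omega
  rcases nonorthogonal hC hCM hdisj hodd with hn | hn
  · have h0 := cross hC hCM hdisj hodd F.irr FM.irr he2 heM2 h2e hbigM hn
    rw [hcM, ← hed, hepq, div_le_iff₀ (by exact_mod_cast (show 0 < (Cfsg.fittingHall M).index by omega))] at h0
    have hv : (p : ℝ) * p * (q * q) + 1 ≤ (Nat.card (Cfsg.fittingHallOf M) : ℝ) := by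
      exact_mod_cast (show p * p * (q * q) + 1 ≤ Nat.card (Cfsg.fittingHallOf M) by omega)
    have he' : ((Cfsg.fittingHall M).index : ℝ) ≤ ((p * q : ℕ) : ℝ) := by exact_mod_cast heM
    have hpq1 : (1 : ℝ) ≤ ((p * q : ℕ) : ℝ) := by exact_mod_cast (show 1 ≤ p * q by omega)
    push_cast at h0 he' hpq1
    nlinarith
  · have h0 := cross hCM hC (fun g hg => hdisj g ⟨hg.2, hg.1⟩) hodd FM.irr F.irr heM2 he2 hbigM
      h2e hn
    rw [hcardK, ← hed, hepq, div_le_iff₀ (by exact_mod_cast (show 0 < p * q by omega))] at h0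
    have hh' : 2 * ((p : ℝ) * q) * (p * p) + 1 ≤ (h : ℝ) := by
      exact_mod_cast (show 2 * (p * q) * (p * p) + 1 ≤ h by omega)
    have he' : ((Cfsg.fittingHall M).index : ℝ) ≤ (p : ℝ) * q := by exact_mod_cast heM
    have hp' : (q : ℝ) ≤ p := by exact_mod_cast (show q ≤ p by omega)
    have hq' : (0 : ℝ) < q := by exact_mod_cast hq.pos
    push_cast at h0
    nlinarith [mul_le_mul_of_nonneg_left hp' (show (0 : ℝ) ≤ (p : ℝ) * q * p by positivity),
      mul_pos (mul_pos (hq'.trans_le hp') hq') (mul_pos (hq'.trans_le hp') (hq'.trans_le hp'))]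

theorem separate_typeIII (C : Pair S T W1 W2 U V) {L : Subgroup G} [Fintype ↥L] (F : Frob L)
    (hqp : Nat.card W1 < Nat.card W2) (hepq : (Cfsg.fittingHall L).index = Nat.card W2 * Nat.card W1)
    (h2e : 2 * (Cfsg.fittingHall L).index < Nat.card ↥(Cfsg.fittingHall L))
    (hvbig : Nat.card W2 * Nat.card W2 * (Nat.card W1 * Nat.card W1) < Nat.card V)
    (hhbig : 2 * (Nat.card W2 * Nat.card W1) * (Nat.card W2 * Nat.card W2) < Nat.card (Cfsg.fittingHallOf L))
    {ν : (↥L → ℂ) → (G → ℂ)} {ζ : ↥L → ℂ}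
    (hC : CohSetup (Cfsg.typeA L) L (Cfsg.supportR L) (Cfsg.fittingHall L) ν ζ) (hsep : Separated G)
    (hT3 : Cfsg.IsOfTypeIII T)
    (hti : ∀ g : G, g ∉ T → ∀ t ∈ ⁅T, T⁆, g * t * g⁻¹ ∈ ⁅T, T⁆ → t = 1) : False := by
  have hodd := C.oddG
  set p := Nat.card W2 with hpd
  set q := Nat.card W1 with hqd
  set h := Nat.card (Cfsg.fittingHallOf L) with hhd
  set e := (Cfsg.fittingHall L).index with hed
  change e = p * q at hepq
  have hq := C.prime_q
  have hp := C.prime_p
  obtain ⟨a0, ha0⟩ := C.odd_card W1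
  have hq3 : 3 ≤ q := by have := hq.two_le; omega
  have hpq : q * q ≤ p * q := Nat.mul_le_mul_right q (by omega)
  have h9 : 9 ≤ q * q := Nat.mul_le_mul hq3 hq3
  have he2 : 2 ≤ e := by omega
  have hcardK : Nat.card ↥(Cfsg.fittingHall L) = h := (FittingHallBasic.card_fittingHallOf L).symm
  haveI : Fintype ↥T := Fintype.ofFinite _
  have hb3 := PF14Three54.three_bound hti C hC F.irr he2 h2e
    (fun g hg x hx => three_disjoint C.hG hsep F C.hT hT3 g hg x hx)
  rw [hcardK, ← hed, hepq, ← hpd] at hb3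
  have hp0 : (0 : ℝ) < p := by exact_mod_cast hp.pos
  have hq0 : (3 : ℝ) ≤ q := by exact_mod_cast hq3
  have hp' : (q : ℝ) ≤ p := by exact_mod_cast (show q ≤ p by omega)
  rcases hb3 with h0 | h0
  · rw [div_le_iff₀ hp0] at h0
    have hv : (p : ℝ) * p * (q * q) + 1 ≤ (Nat.card V : ℝ) := by
      exact_mod_cast (show p * p * (q * q) + 1 ≤ Nat.card V by omega)
    push_cast at h0
    nlinarith [mul_le_mul_of_nonneg_left hq0 (show (0 : ℝ) ≤ (p : ℝ) * p * q by positivity),
      show (0 : ℝ) < (p : ℝ) * p * q by positivity]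
  · rw [div_le_iff₀ (by exact_mod_cast (show 0 < p * q by omega))] at h0
    have hh' : 2 * ((p : ℝ) * q) * (p * p) + 1 ≤ (h : ℝ) := by
      exact_mod_cast (show 2 * (p * q) * (p * p) + 1 ≤ h by omega)
    push_cast at h0
    nlinarith [show (0 : ℝ) < (p : ℝ) * p * q by positivity,
      mul_le_mul_of_nonneg_left (show (1 : ℝ) ≤ p by linarith) (show (0 : ℝ) ≤ (p : ℝ) * p * q by positivity)]

/-- `W2` has a conjugate normalizing `U`. -/
theorem main (C : Pair S T W1 W2 U V) (hqp : Nat.card W1 < Nat.card W2) {L : Subgroup G} [Fintype ↥L]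
    (F : Frob L) (hUH : U ≤ Cfsg.fittingHallOf L)
    (hshape : ((Cfsg.fittingHall L).index = Nat.card W1 ∧ Cfsg.fittingHallOf L ⊔ W1 = L) ∨
      ((Cfsg.fittingHall L).index = Nat.card W2 * Nat.card W1 ∧
        ∃ y ∈ Cfsg.fittingHallOf T, W2.map (MulAut.conj y).toMonoidHom ≤ L))
    (hdvd : (Cfsg.fittingHall L).index ∣ Nat.card (Cfsg.fittingHallOf L) - 1)
    (hsep : Separated G) (hT : TSide T V (Nat.card W2 * Nat.card W1)) :
    ∃ y ∈ Cfsg.fittingHallOf T, W2.map (MulAut.conj y).toMonoidHom ≤ Subgroup.normalizer (U : Set G) := by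
  set p := Nat.card W2 with hpd
  set q := Nat.card W1 with hqd
  set h := Nat.card (Cfsg.fittingHallOf L) with hhd
  set e := (Cfsg.fittingHall L).index with hed
  have hq := C.prime_q
  have hp := C.prime_p
  have hodd := C.oddG
  obtain ⟨a0, ha0⟩ := C.odd_card W1
  obtain ⟨b0, hb0⟩ := C.odd_card W2
  have hq3 : 3 ≤ q := by have := hq.two_le; omega
  have hp5 : q + 2 ≤ p := by omega
  have hpq : q * 5 ≤ p * q := by rw [mul_comm p]; exact Nat.mul_le_mul_left q (by omega)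
  obtain ⟨hcu, hcv⟩ := card_eq C
  have dn : Nat.card U * (p - 1) + 1 = p ^ q := by
    rw [hcu, PF14Module54.div_mul_eq C.mod, Nat.sub_add_cancel (Nat.one_le_pow _ _ (by omega))]
  have dn' : Nat.card V * (q - 1) + 1 = q ^ p := by
    rw [hcv, PF14Module54.div_mul_eq C.symm.mod, Nat.sub_add_cancel (Nat.one_le_pow _ _ (by omega))]
  have hone : 1 % (p * q) = 1 := Nat.mod_eq_of_lt (show 1 < p * q by omega)
  have hu1 : Nat.card U % (p * q) = 1 := by
    have h1 : Nat.card U ≡ 1 [MOD p] := by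
      have := geom_mod (by omega) (by omega) dn
      unfold Nat.ModEq; rw [this, Nat.mod_eq_of_lt hp.one_lt]
    have h2 : Nat.card U ≡ 1 [MOD q] := by
      have := (PF14Module54.arith C.mod hcu).2.2 _ dvd_rfl
      unfold Nat.ModEq; rw [this, Nat.mod_eq_of_lt hq.one_lt]
    have := (Nat.modEq_and_modEq_iff_modEq_mul ((Nat.coprime_primes hp hq).2 C.p_ne_q)).1 ⟨h1, h2⟩
    unfold Nat.ModEq at this; rw [this, hone]
  have hv1 : Nat.card V % (p * q) = 1 := by
    have h1 : Nat.card V ≡ 1 [MOD p] := by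
      have := (PF14Module54.arith C.symm.mod hcv).2.2 _ dvd_rfl
      unfold Nat.ModEq; rw [this, Nat.mod_eq_of_lt hp.one_lt]
    have h2 : Nat.card V ≡ 1 [MOD q] := by
      have := geom_mod (by omega) (by omega) dn'
      unfold Nat.ModEq; rw [this, Nat.mod_eq_of_lt hq.one_lt]
    have := (Nat.modEq_and_modEq_iff_modEq_mul ((Nat.coprime_primes hp hq).2 C.p_ne_q)).1 ⟨h1, h2⟩
    unfold Nat.ModEq at this; rw [this, hone]
  have hU1 : 1 < Nat.card U :=
    Finite.one_lt_card_iff_nontrivial.2 ((Subgroup.nontrivial_iff_ne_bot _).2 C.U_ne)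
  obtain ⟨k, hk⟩ : Nat.card U ∣ h := Subgroup.card_dvd_of_le hUH
  have hh1 : 1 < h := lt_of_lt_of_le hU1 (Subgroup.card_le_of_le hUH)
  have hhne : Cfsg.fittingHallOf L ≠ ⊥ := fun h0 => by
    rw [hhd, h0, Subgroup.card_bot] at hh1; omega
  have hodd_h : Odd h := C.odd_card _
  have heq : e = q ∨ e = p * q := hshape.imp (·.1) (·.1)
  have he2 : 2 ≤ e := by omega
  have hle : e ≤ p * q := by rcases heq with h0 | h0 <;> omega
  obtain ⟨t, ht⟩ := hdvd
  obtain ⟨h2e, h7⟩ : 2 * e < h ∧ 7 ≤ h := by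
    have hodde : Odd e := by rcases heq with h0 | h0 <;> rw [h0]
                             · exact C.odd_card W1
                             · exact (C.odd_card W2).mul (C.odd_card W1)
    obtain ⟨i, hi⟩ := hodd_h
    obtain ⟨j, hj⟩ := hodde
    have ht2 : 2 ≤ t := by
      rcases (by omega : t = 0 ∨ t = 1 ∨ 2 ≤ t) with rfl | rfl | h0
      · simp at ht; omega
      · rw [mul_one] at ht; omega
      · exact h0
    have : e * 2 ≤ e * t := Nat.mul_le_mul_left e ht2
    omega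
  have hcop : (Nat.card ↥(Cfsg.fittingHall L)).Coprime (p * q) := by
    rw [← FittingHallBasic.card_fittingHallOf]
    refine Nat.Coprime.mul_right (coprime_p C hUH) (Nat.Coprime.symm ((Nat.Prime.coprime_iff_not_dvd hq).2 ?_))
    intro hd
    have hqe : q ∣ h - 1 := ht ▸ Dvd.dvd.mul_right (by rcases heq with h0 | h0 <;> simp [h0]) t
    have := Nat.dvd_sub hd hqe
    rw [show h - (h - 1) = 1 by omega] at this
    exact hq.ne_one (Nat.dvd_one.1 this)
  obtain ⟨ν, ζ, hC⟩ := exists_cohSetup F hodd he2 hhne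
  have hcardK : Nat.card ↥(Cfsg.fittingHall L) = h := (FittingHallBasic.card_fittingHallOf L).symm
  have hb := bounds C hqp hC hcop F.irr he2 hle (hcardK ▸ h7) (hcardK ▸ h2e)
  rw [hcardK, ← hed, ← hpd, ← hqd] at hb
  have hnorm : L ≤ Subgroup.normalizer (Cfsg.fittingHallOf L : Set G) :=
    FittingHallBasic.le_normalizer_fittingHallOf L
  have hUcyc : IsCyclic ↥U := by
    obtain ⟨x0, hx0, hx01⟩ := C.mod.exists_W2
    exact (PF14Module54.isCyclic_and_field C.mod hcu hx0 hx01).1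
  -- it is enough that the kernel be cyclic
  suffices hcyc : e = p * q ∧ IsCyclic ↥(Cfsg.fittingHallOf L) by
    have hy := hshape.resolve_left fun h0 => by
      have : p * q = q := hcyc.1.symm.trans h0.1
      omega
    obtain ⟨-, y, hy, hyL⟩ := hy
    exact ⟨y, hy, hyL.trans (le_normalizer_of_cyclic hcyc.2 hUH hnorm)⟩
  have hkU : k = 1 → Cfsg.fittingHallOf L = U := fun hk1 =>
    (Subgroup.eq_of_le_of_card_ge hUH (by rw [← hhd, hk, hk1, mul_one])).symm
  rcases hshape with ⟨heW, hL⟩ | ⟨hepq, -⟩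
  · exfalso
    change e = q at heW
    have hb1 := hb.resolve_right fun h0 => by omega
    rw [heW, div_le_div_iff_of_pos_right (by exact_mod_cast hq.pos)] at hb1
    have hhu : h ≤ Nat.card U := by
      have : (h : ℝ) ≤ (Nat.card U : ℕ) := by linarith
      exact_mod_cast this
    have hHU : U = Cfsg.fittingHallOf L := Subgroup.eq_of_le_of_card_ge hUH hhu
    have hLS : L ≤ S := by
      rw [← hL, ← hHU]
      exact sup_le C.U_le C.hSP.W₁_compl.2.1
    have hLS' : L = S := ((F.max.le_iff).1 hLS).resolve_left C.hS.1 |>.symm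
    exact BGTypeBasic.not_typeI_of_typeP C.hSP (hLS' ▸ F.typeI)
  refine ⟨hepq, ?_⟩
  change e = p * q at hepq
  by_cases hk1 : k = 1
  · rw [hkU hk1]; exact hUcyc
  have hhmod : h % (p * q) = 1 := by
    rw [show h = p * q * t + 1 by rw [← hepq]; omega, Nat.mul_add_mod, hone]
  have hkmod : k % (p * q) = 1 := by
    have h1 := hhmod
    rw [hk, Nat.mul_mod, hu1, one_mul, Nat.mod_mod] at h1
    exact h1
  have hkbig : 2 * (p * q) + 1 ≤ k := by
    have hko : Odd k := (Nat.odd_mul.1 (hk ▸ hodd_h)).2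
    have hd := Nat.div_add_mod k (p * q)
    rw [hkmod] at hd
    have hD : ∀ D : ℕ, D = 0 ∨ D = 1 ∨ 2 ≤ D := fun D => by omega
    rcases hD (k / (p * q)) with h0 | h0 | h0
    · rw [h0] at hd; omega
    · rw [h0, mul_one] at hd
      obtain ⟨i, hi⟩ := hko
      have := Nat.odd_mul.2 ⟨C.odd_card W2, C.odd_card W1⟩
      obtain ⟨j, hj⟩ := this
      change p * q = 2 * j + 1 at hj
      omega
    · have : p * q * 2 ≤ p * q * (k / (p * q)) := Nat.mul_le_mul_left _ h0
      omega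
  have hu_lb : p ^ (q - 1) ≤ Nat.card U := geom_ge (by omega) (by omega) dn
  have hvb : h ≤ q * (Nat.card V - 1) + 1 := by
    rcases hb with hb | ⟨-, hb⟩
    · exfalso
      have hle' := le_qv (p := q) (q := p) hq.pos hp.pos (show 1 ≤ Nat.card U by omega) (h := h)
        (by rw [hepq, mul_comm p q] at hb; exact hb)
      rw [hk] at hle'
      have : Nat.card U * (2 * (p * q) + 1) ≤ Nat.card U * k := Nat.mul_le_mul_left _ hkbig
      have : p * (Nat.card U - 1) + 1 ≤ p * Nat.card U := by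
        rw [Nat.mul_sub, mul_one]
        have : p ≤ p * Nat.card U := Nat.le_mul_of_pos_right _ (by omega)
        omega
      nlinarith
    · exact le_qv hp.pos hq.pos Nat.card_pos (by rw [hepq] at hb; exact hb)
  obtain ⟨hvbig, hhbig⟩ := big hq3 hp5 hu_lb hkbig (by rw [mul_comm k, ← hk]; exact hvb) Nat.card_pos
  rw [mul_comm k, ← hk] at hhbig
  rcases hT with ⟨M, FM, hVM, heM2, heM⟩ | ⟨hT3, hti⟩
  · by_cases hconj : ∃ g : G, L.map (MulAut.conj g).toMonoidHom = M
    · obtain ⟨g, hg⟩ := hconj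
      exact conj_cyclic C hqp g hg hVM hv1 hhmod hvb
    · push Not at hconj
      exact (separate_typeII C F hqp hepq (hcardK ▸ h2e) hvbig hhbig hC hsep FM hVM heM2 heM hconj).elim
  · exact (separate_typeIII C F hqp hepq (hcardK ▸ h2e) hvbig hhbig hC hsep hT3 hti).elim

end Cfsg.Agent.PF14Main54
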