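import Mathlib
import Cfsg.Agent.Lib.PF8Sets
import Cfsg.Agent.S1385

/-!
Every maximal subgroup of a minimal simple group of odd order is of one of the five types.
-/

set_option autoImplicit false

namespace Cfsg.Agent.PF8Types

open Cfsg

universe u

variable {G : Type u} [Group G] [Finite G]

theorem type_cases (hG : Cfsg.IsMinSimpleOddOrder G) {M : Subgroup G} (hM : IsCoatom M) :
    IsOfTypeI M ∨ IsOfTypeII M ∨ (IsOfTypeIII M ∨ IsOfTypeIV M) ∨ IsOfTypeV M := by
  refine PF8Sets.type_cases_of (fun N hN => ?_) hM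
  rcases S1385.result hG with h | ⟨W₁, W₂, S, T, -, -, -, -, -, -, -, hS, hT, h⟩
  · exact Or.inl (h N hN)
  · rcases h N hN with h' | ⟨g, h' | h'⟩
    · exact Or.inl h'
    · exact Or.inr ⟨S, hS, g, h'⟩
    · exact Or.inr ⟨T, hT, g, h'⟩

theorem fittingHallOf_ne_bot (hG : Cfsg.IsMinSimpleOddOrder G) {M : Subgroup G} (hM : IsCoatom M) :
    fittingHallOf M ≠ ⊥ :=
  PF8Sets.fittingHallOf_ne_bot (type_cases hG hM)

theorem typeA1_nonempty (hG : Cfsg.IsMinSimpleOddOrder G) {M : Subgroup G} (hM : IsCoatom M) :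
    (typeA1 M).Nonempty := by
  have hle : fittingHallOf M ≤ typeCore M := by
    rcases type_cases hG hM with h | h | h
    · exact (PF8Sets.typeCore_eq_of_typeI h).ge
    · exact (PF8Sets.typeCore_eq_of_typeII h).ge
    · rw [PF8Sets.typeCore_eq_derived h]
      exact (BGFinal72.fittingHallOf_le_sigmaCore hG hM).trans
        (BGFinal72.sigmaCore_le_commutator hG hM)
  obtain ⟨x, hx, hx1⟩ :=
    (fittingHallOf M).bot_or_exists_ne_one.resolve_left (fittingHallOf_ne_bot hG hM)
  exact ⟨x, hle hx, hx1⟩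

end Cfsg.Agent.PF8Types
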