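import Mathlib
import Cfsg.Agent.Lib.PF8Types
import Cfsg.Agent.Lib.CoprimeExtra
import Cfsg.Agent.S1378
import Cfsg.Agent.S1389
import Cfsg.Agent.S1390

/-!
Peterfalvi, section 8: meeting of `A₁(S)` and `A(T)` for non-conjugate maximal subgroups `S`, `T`.
-/

set_option autoImplicit false

namespace Cfsg.Agent.PF8Supports

open Cfsg
open scoped Pointwise

universe u

variable {G : Type u} [Group G] [Finite G]

theorem notConj_symm {S T : Subgroup G} (hnc : ∀ g : G, T.map (MulAut.conj g).toMonoidHom ≠ S)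
    (g : G) : S.map (MulAut.conj g).toMonoidHom ≠ T := by
  intro h
  exact hnc g⁻¹ (by rw [← h, PF8Sets.map_conj_conj])

theorem notConj_map {S T : Subgroup G} (hnc : ∀ g : G, T.map (MulAut.conj g).toMonoidHom ≠ S)
    (w g : G) : (T.map (MulAut.conj w).toMonoidHom).map (MulAut.conj g).toMonoidHom ≠ S := by
  intro h
  refine hnc (g * w) ?_
  rw [← h, Subgroup.map_map]
  congr 1
  ext x
  simp [mul_assoc]

theorem typeCore_le_sigmaCore (hG : IsMinSimpleOddOrder G) {M : Subgroup G} (hM : IsCoatom M) :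
    (∀ p : ℕ, p.Prime → p ∣ Nat.card (typeCore M) → p ∈ sigma M) ∧ typeCore M ≤ sigmaCore M :=
  PF8Sets.typeCore_le_sigmaCore (S1389.result hG M hM).1 (S1389.result hG M hM).2.2

theorem coprime_typeCore (hG : IsMinSimpleOddOrder G) {S T : Subgroup G} (hS : IsCoatom S)
    (hT : IsCoatom T) (hnc : ∀ g : G, T.map (MulAut.conj g).toMonoidHom ≠ S) :
    (Nat.card (typeCore S)).Coprime (Nat.card (typeCore T)) := by
  refine Nat.coprime_of_dvd fun p hp hpS hpT => ?_
  obtain ⟨g, hg⟩ := (S1378.result hG).2 S T hS hT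
    ⟨p, (typeCore_le_sigmaCore hG hS).1 p hp hpS, (typeCore_le_sigmaCore hG hT).1 p hp hpT⟩
  exact notConj_symm hnc g hg.symm

/-- Powers of an element of `A(M)` other than `1` lie in `A(M)`. -/
theorem pow_mem_typeA {M : Subgroup G} {a : G} (ha : a ∈ typeA M) {k : ℕ} (hk : a ^ k ≠ 1) :
    a ^ k ∈ typeA M := by
  unfold typeA at ha ⊢
  by_cases h : IsOfTypeI M
  · rw [if_pos h] at ha ⊢
    obtain ⟨h1, -, x, hx, hx1, hc⟩ := ha
    exact ⟨Subgroup.pow_mem _ h1 k, hk, x, hx, hx1, Commute.pow_left hc k⟩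
  · rw [if_neg h] at ha ⊢
    obtain ⟨h1, -, x, hx, hx1, hc⟩ := ha
    exact ⟨Subgroup.pow_mem _ h1 k, hk, x, hx, hx1, Commute.pow_left hc k⟩

/-- An element of `A₁(S) ∩ A(T)` has its centraliser inside `T` and not inside `S`. -/
theorem centralizer_of_mem_inter (hG : IsMinSimpleOddOrder G) {S T : Subgroup G} (hS : IsCoatom S)
    (hT : IsCoatom T) (hnc : ∀ g : G, T.map (MulAut.conj g).toMonoidHom ≠ S) {x : G}
    (hx1 : x ∈ typeA1 S) (hxA : x ∈ typeA T) :
    ¬ Subgroup.centralizer ({x} : Set G) ≤ S ∧ Subgroup.centralizer ({x} : Set G) ≤ T := by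
  obtain ⟨hxS, hxne⟩ := hx1
  have hxord : orderOf x ∣ Nat.card (typeCore S) := Subgroup.orderOf_dvd_natCard _ hxS
  have hcop := coprime_typeCore hG hS hT hnc
  have hxT : x ∉ typeCore T := fun h => hxne (orderOf_eq_one_iff.1
    (Nat.eq_one_of_dvd_coprimes hcop hxord (Subgroup.orderOf_dvd_natCard _ h)))
  have hIorII : IsOfTypeI T ∨ IsOfTypeII T := by
    rcases PF8Types.type_cases hG hT with h | h | h
    · exact Or.inl h
    · exact Or.inr h
    exfalso
    have hI : ¬ IsOfTypeI T := by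
      rcases h with (h | h) | h
      · exact BGTypeBasic.not_typeI_of_isOfTypeP (BGTypeBasic.isOfTypeP_of_typeIII h)
      · exact BGTypeBasic.not_typeI_of_isOfTypeP (BGTypeBasic.isOfTypeP_of_typeIV h)
      · exact BGTypeBasic.not_typeI_of_isOfTypeP (BGTypeBasic.isOfTypeP_of_typeV h)
    unfold typeA at hxA
    rw [if_neg hI] at hxA
    exact hxT (by rw [PF8Sets.typeCore_eq_derived h]; exact hxA.1)
  have hFeq := PF8Sets.typeCore_eq_of_typeI_or_II hIorII
  obtain ⟨N, U, hxN, hNT, hcompl, hU, y, hy, hy1, hxy⟩ :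
      ∃ N U : Subgroup G, x ∈ N ∧ N ≤ T ∧ IsComplIn (fittingHallOf T) U N ∧
        ((IsOfTypeI T ∧ IsComplIn (fittingHallOf T) U T) ∨
          (IsOfTypeII T ∧ IsComplIn (fittingHallOf T) U ⁅T, T⁆)) ∧
        ∃ y ∈ fittingHallOf T, y ≠ 1 ∧ x * y = y * x := by
    by_cases hI : IsOfTypeI T
    · unfold typeA at hxA
      rw [if_pos hI] at hxA
      obtain ⟨U₀, -, hU₀, -⟩ := hI.1.2.2.2.2
      have hc : IsComplIn (fittingHallOf T) (U₀.map T.subtype) T := by
        refine ⟨FittingHallBasic.fittingHallOf_le T, Subgroup.map_subtype_le _, ?_, ?_⟩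
        · rw [fittingHallOf, ← Subgroup.map_inf _ _ _ T.subtype_injective,
            disjoint_iff.1 hU₀.disjoint, Subgroup.map_bot]
        · intro m hm
          obtain ⟨⟨⟨a, ha⟩, ⟨b, hb⟩⟩, hab⟩ := hU₀.2 ⟨m, hm⟩
          exact ⟨a, ⟨a, ha, rfl⟩, b, ⟨b, hb, rfl⟩, (congrArg Subtype.val hab).symm⟩
      exact ⟨T, _, hxA.1, le_rfl, hc, Or.inl ⟨hI, hc⟩, hxA.2.2⟩
    · unfold typeA at hxA
      rw [if_neg hI, hFeq] at hxA
      have hII := hIorII.resolve_left hI
      obtain ⟨W₁, U, W₂, hd, -⟩ := id hII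
      exact ⟨⁅T, T⁆, U, hxA.1, Subgroup.commutator_le_self T, hd.U_compl, Or.inr ⟨hII, hd.U_compl⟩,
        hxA.2.2⟩
  set F := fittingHallOf T with hF
  have hUT : U ≤ T := hcompl.2.1.trans hNT
  have hcopU : (Nat.card U).Coprime (Nat.card F) := by
    rw [← FittingHallBasic.card_compl_eq_relIndex hcompl]
    exact ((FittingHallBasic.fittingHallOf_coprime T).coprime_dvd_right
      ⟨_, (Subgroup.relIndex_mul_relIndex _ _ _ hcompl.1 hNT).symm⟩).symm
  have hcopx : (Nat.card (Subgroup.zpowers x)).Coprime (Nat.card F) := by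
    rw [Nat.card_zpowers, ← hFeq]
    exact hcop.coprime_dvd_left hxord
  have hsolv : Group.IsSolvable F := by
    have : Group.IsNilpotent ↥F :=
      (ComponentsCores.isNilpotent_map_subtype_iff _).mpr FittingHallBasic.fittingHall_isNilpotent
    infer_instance
  obtain ⟨n, hn, hxU⟩ := CoprimeExtra.exists_le_conj_of_le_sup (N := F) (H := U)
    (U := Subgroup.zpowers x) (hUT.trans (FittingHallBasic.le_normalizer_fittingHallOf T))
    (by rw [BGTypeBasic.sup_eq_of_isComplIn hcompl, Subgroup.zpowers_le]; exact hxN)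
    hcopU hcopx (Or.inr hsolv)
  have hu : n⁻¹ * x * n ∈ U := BGTypeBasic.mem_conj_smul.1 (hxU (Subgroup.mem_zpowers x))
  have hnT : n ∈ T := FittingHallBasic.fittingHallOf_le T hn
  set u := n⁻¹ * x * n with hu_def
  have hu1 : u ≠ 1 := fun h => hxne (by
    have := congrArg (fun t => n * t * n⁻¹) h
    simpa [hu_def, mul_assoc] using this)
  have huy : u * (n⁻¹ * y * n) = n⁻¹ * y * n * u := by
    have h1 : n⁻¹ * (x * y) * n = n⁻¹ * (y * x) * n := by rw [hxy]
    simpa [hu_def, mul_assoc] using h1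
  have hmeet : F ⊓ Subgroup.centralizer ({u} : Set G) ≠ ⊥ := by
    intro h
    have : n⁻¹ * y * n ∈ F ⊓ Subgroup.centralizer ({u} : Set G) :=
      ⟨F.mul_mem (F.mul_mem (F.inv_mem hn) hy) hn,
        Subgroup.mem_centralizer_singleton_iff.2 huy.symm⟩
    rw [h, Subgroup.mem_bot] at this
    apply hy1
    have h2 := congrArg (fun t => n * t * n⁻¹) this
    simpa [mul_assoc] using h2
  obtain ⟨hle, huniq⟩ := (S1390.result hG T hT U hU).2.1 {u}
    (Set.singleton_subset_iff.2 ⟨hu, hu1⟩) (Set.singleton_nonempty u) hmeet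
  have hconj : ∀ c : G, c ∈ Subgroup.centralizer ({x} : Set G) ↔
      n⁻¹ * c * n ∈ Subgroup.centralizer ({u} : Set G) := by
    intro c
    simp only [Subgroup.mem_centralizer_singleton_iff, hu_def]
    constructor
    · intro h
      have h1 : n⁻¹ * (c * x) * n = n⁻¹ * (x * c) * n := by rw [h]
      simpa [mul_assoc] using h1
    · intro h
      have h1 := congrArg (fun t => n * t * n⁻¹) h
      simpa [mul_assoc] using h1
  refine ⟨fun hxS' => ?_, fun c hc => ?_⟩
  · have hL := huniq (S.map (MulAut.conj n⁻¹).toMonoidHom) (PF8Sets.isCoatom_map_conj hS _) ?_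
    · exact notConj_symm hnc n⁻¹ hL
    · intro c hc
      rw [Subgroup.mem_map_equiv]
      refine hxS' ?_
      have : n * c * n⁻¹ ∈ Subgroup.centralizer ({x} : Set G) :=
        (hconj _).2 (by simpa [mul_assoc] using hc)
      simpa [mul_assoc] using this
  · have := T.mul_mem (T.mul_mem hnT (hle ((hconj c).1 hc))) (T.inv_mem hnT)
    simpa [mul_assoc] using this

end Cfsg.Agent.PF8Supports
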