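import Cfsg.Prelude.Def_OddOrderLocal
import Cfsg.Prelude.Def_OddOrderChar
import Cfsg.Agent.S1391
import Cfsg.Agent.S1537
import Cfsg.Agent.S1540
import Mathlib

/-!
`A₀(M)` is a TI-subset for every maximal subgroup of type `P`.
-/

set_option autoImplicit false

open scoped Pointwise commutatorElement

namespace Cfsg.Agent.FTPTI78

open Cfsg

variable {G : Type*} [Group G] [Finite G]

theorem fittingHallOf_le_typeCore (L : Subgroup G) : fittingHallOf L ≤ typeCore L := by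
  unfold typeCore
  split_ifs with h
  · rcases h with h | h <;> obtain ⟨W₁, U, W₂, hP, -⟩ := h <;> exact hP.U_compl.1
  · exact le_rfl

/-- A group with type `P` data is no Frobenius group with kernel `M_F`. -/
theorem not_frobenius {M W₁ U W₂ : Subgroup G} (hP : IsTypePWith M W₁ U W₂)
    (h : ∃ E : Subgroup ↥M, IsFrobeniusComplement E ∧
      frobeniusKernel E = ((fittingHall ↥M : Subgroup ↥M) : Set ↥M)) : False := by
  obtain ⟨E, hE, hk⟩ := h
  obtain ⟨⟨w, hw⟩, hw1⟩ := Subgroup.ne_bot_iff_exists_ne_one.1 hP.W₁_ne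
  obtain ⟨⟨y, hy⟩, hy1⟩ := Subgroup.ne_bot_iff_exists_ne_one.1 hP.selfNormalizing.2.1
  have hw1' : w ≠ 1 := fun e => hw1 (Subtype.ext e)
  have hy1' : y ≠ 1 := fun e => hy1 (Subtype.ext e)
  have hwM : w ∈ M := hP.W₁_compl.2.1 hw
  obtain ⟨y', hy', hyy⟩ := (hP.W₂_le hy).1
  have hcomm : (⟨w, hwM⟩ : ↥M) * y' = y' * ⟨w, hwM⟩ := Subtype.ext (by
    simp only [Subgroup.coe_mul]
    rw [show (y' : G) = y from hyy]
    exact hP.selfNormalizing.2.2.2.1 w hw y hy)
  have hyne : y' ≠ 1 := fun e => hy1' (by rw [← hyy, e]; rfl)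
  have hwk : (⟨w, hwM⟩ : ↥M) ∈ frobeniusKernel E := by
    refine Or.inr fun g hg => ?_
    have hyk : y' ∈ frobeniusKernel E := by rw [hk]; exact hy'
    rw [Subgroup.mem_pointwise_smul_iff_inv_smul_mem, MulAut.smul_def] at hg
    set e := (MulAut.conj g)⁻¹ (⟨w, hwM⟩ : ↥M) with he
    set c := (MulAut.conj g)⁻¹ y' with hc
    have hec : e * c = c * e := by rw [he, hc, ← map_mul, hcomm, map_mul]
    have hcE : c ∈ E := by
      by_contra hcE
      have h2 : e ∈ E ⊓ (MulAut.conj c • E) := by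
        refine ⟨hg, ?_⟩
        refine Subgroup.mem_pointwise_smul_iff_inv_smul_mem.2 ?_
        rw [MulAut.smul_def, MulAut.conj_inv_apply,
          mul_assoc, hec, inv_mul_cancel_left]
        exact hg
      rw [hE.2.2 c hcE, Subgroup.mem_bot, he] at h2
      exact hw1' (congrArg Subtype.val ((MulEquiv.map_eq_one_iff _).1 h2))
    rcases hyk with h3 | h3
    · exact hyne h3
    · refine h3 g ?_
      rw [Subgroup.mem_pointwise_smul_iff_inv_smul_mem, MulAut.smul_def]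
      exact hcE
  rw [hk] at hwk
  have hwF : w ∈ fittingHallOf M := ⟨⟨w, hwM⟩, hwk, rfl⟩
  have : w ∈ ⁅M, M⁆ ⊓ W₁ := ⟨hP.U_compl.1 hwF, hw⟩
  rw [hP.W₁_compl.2.2.1, Subgroup.mem_bot] at this
  exact hw1' this

/-- `A₀(M)` is TI with normaliser `M`, and contains the centralisers of its elements. -/
theorem ti_typeA0 (hG : IsMinSimpleOddOrder G) {M W₁ U W₂ : Subgroup G} (hM : IsCoatom M)
    (hP : IsTypePWith M W₁ U W₂) :
    IsTISubset (typeA0 M) ∧ Subgroup.normalizer (typeA0 M) = M ∧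
      ∀ x ∈ typeA0 M, Subgroup.centralizer ({x} : Set G) ≤ M := by
  obtain ⟨hfus, hD, hL⟩ := S1391.result hG M hM (typeA0 M) (Or.inr rfl)
  have hN := (S1537.result hG M hM (typeA0 M) (Or.inr (Or.inr rfl))).1
  have hcent : ∀ x ∈ typeA0 M, Subgroup.centralizer ({x} : Set G) ≤ M := by
    intro x hx
    by_contra hx'
    obtain ⟨-, L, ⟨hLc, hLx⟩, -⟩ := hD x hx hx'
    obtain ⟨-, -, -, -, ⟨hxA, hxA1⟩, htyp, hfrob⟩ := hL x hx hx' L hLc hLx
    rcases htyp with hI | hII
    · refine hxA1 ?_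
      unfold typeA at hxA
      rw [if_pos hI] at hxA
      obtain ⟨hxL, hx1, z, hz, hz1, hcom⟩ := hxA
      exact ⟨fittingHallOf_le_typeCore L (S1540.result hG L hLc hI z hz hz1
        ⟨hxL, Subgroup.mem_centralizer_singleton_iff.2 hcom⟩), hx1⟩
    · exact not_frobenius hP (hfrob hII)
  refine ⟨fun g hg x hx hgx => absurd ?_ (hN ▸ hg), hN, hcent⟩
  obtain ⟨m, hm, e⟩ := hfus x hx g hgx
  have h1 : g⁻¹ * m ∈ Subgroup.centralizer ({x} : Set G) := by
    rw [Subgroup.mem_centralizer_singleton_iff]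
    calc g⁻¹ * m * x = g⁻¹ * (m * x * m⁻¹) * m := by group
      _ = x * (g⁻¹ * m) := by rw [e]; group
  have h2 := M.mul_mem hm (M.inv_mem (hcent x hx h1))
  simpa [mul_assoc] using h2

end Cfsg.Agent.FTPTI78
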