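import Mathlib
import Cfsg.Prelude.Def_OddOrder
import Cfsg.Prelude.Def_OddOrderLocal
import Cfsg.Prelude.Def_OddOrderChar

/-!
The abstract configuration behind Peterfalvi (10) and (11): a subgroup `M` of type III, IV or V, seen
only through its derived subgroup, the cyclic subgroup `W = W₁ × W₂`, and the fact that
`M'# ∪ (W - W₁ - W₂)^M` is a trivial intersection set with normaliser `M`.  Here the Dade map is plain
induction from `M`.
-/

set_option autoImplicit false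

open scoped commutatorElement

namespace Cfsg.Agent.PFPrimeTI

universe u

variable {G : Type u} [Group G]

/-- `M'# ∪ (W - W₁ - W₂)^M`. -/
def supp (M W₁ W₂ : Subgroup G) : Set G :=
  (((⁅M, M⁆ : Subgroup G) : Set G) \ {1}) ∪
    {v | ∃ m ∈ M, ∃ w ∈ W₁ ⊔ W₂, w ∉ W₁ ∧ w ∉ W₂ ∧ v = m * w * m⁻¹}

/-- The standing hypotheses. -/
structure Setup (M W₁ W₂ : Subgroup G) : Prop where
  hodd : Odd (Nat.card G)
  solv : Group.IsSolvable M
  selfNorm : Cfsg.IsSelfNormalizingCyclic W₁ W₂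
  cyc : IsCyclic W₁
  hall : (Nat.card W₁).Coprime (W₁.relIndex M)
  compl : Cfsg.IsComplIn ⁅M, M⁆ W₁ M
  cent : ∀ x ∈ W₁, x ≠ 1 → ⁅M, M⁆ ⊓ Subgroup.centralizer ({x} : Set G) = W₂
  W2_le : W₂ ≤ ⁅⁅M, M⁆, ⁅M, M⁆⁆
  prime : (Nat.card W₂).Prime
  ti : ∀ x ∈ supp M W₁ W₂, ∀ g : G, g * x * g⁻¹ ∈ supp M W₁ W₂ → g ∈ M

/-- `M'` as a subgroup of `M`. -/
def ker (M : Subgroup G) : Subgroup ↥M := (⁅M, M⁆ : Subgroup G).subgroupOf M

instance ker_normal (M : Subgroup G) : (ker M).Normal := by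
  refine ⟨fun n hn g => ?_⟩
  have h : (⁅M, M⁆ : Subgroup G) = (⁅(⊤ : Subgroup ↥M), (⊤ : Subgroup ↥M)⁆ : Subgroup ↥M).map M.subtype := by
    rw [Subgroup.map_commutator, ← MonoidHom.range_eq_map, Subgroup.range_subtype]
  rw [ker, Subgroup.mem_subgroupOf, h] at hn ⊢
  obtain ⟨m, hm, e⟩ := hn
  refine ⟨g * m * g⁻¹, (Subgroup.commutator_normal (⊤ : Subgroup ↥M) ⊤).conj_mem m hm g, ?_⟩
  simp only [map_mul, map_inv]
  rw [e]
  rfl

variable [Fintype G]

/-- The reducible members of the family induced from `M'`. -/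
def redChars (M : Subgroup G) [Fintype ↥M] : Set (↥M → ℂ) :=
  {φ | φ ∈ Cfsg.inducedIrrAbove (ker M) ⊥ ∧ ¬ Cfsg.IsIrrCharacter ↥M φ}

/-- The degree `|M : M'|` characters together with the reducible members are coherent for induction. -/
def Key (M : Subgroup G) [Fintype ↥M] : Prop :=
  Cfsg.IsCoherent (Cfsg.inducedIrrAbove (ker M) ⁅ker M, ker M⁆ ∪ redChars M) {1}ᶜ
    (fun α : ↥M → ℂ => Cfsg.indFun M α)

/-- The whole family induced from `M'` is coherent for induction. -/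
def AllCoherent (M : Subgroup G) [Fintype ↥M] : Prop :=
  Cfsg.IsCoherent (Cfsg.inducedIrrAbove (ker M) ⊥) {1}ᶜ (fun α : ↥M → ℂ => Cfsg.indFun M α)

/-- The virtual character furnished by a type I subgroup `L` supporting the partner of `M`:
`τ_L(Ind 1 - ξ)`, where `e = |L : L_F|`. -/
structure Supporter (M W₁ W₂ : Subgroup G) (β : G → ℂ) (e : ℕ) : Prop where
  gen : Cfsg.IsGeneralizedCharacter G β
  inner_one : Cfsg.classInner β (fun _ => 1) = 1
  norm : Cfsg.classInner β β = (e : ℂ) + 1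
  vanish : ∀ x ∈ supp M W₁ W₂, β x = 0
  conj_norm : Cfsg.classInner (Cfsg.conjFun β - β) (Cfsg.conjFun β - β) = 2

end Cfsg.Agent.PFPrimeTI
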