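import Cfsg.Agent.Lib.FTPCount78
import Cfsg.Agent.Lib.FTPTI78
import Cfsg.Agent.Lib.PFPrimeTIDefs39

/-!
Pieces of the structure theorem for a pair of maximal subgroups of type `P`: the abstract configuration attached to a
member of type III, IV or V, and the structure of `S_F` for a member of type II.
-/

set_option autoImplicit false
set_option linter.unusedSectionVars false
set_option linter.style.haveILetI false

open scoped commutatorElement Pointwise

namespace Cfsg.Agent.FTPMain78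

open Cfsg Cfsg.Agent.BGTypeBasic Cfsg.Agent.FTPCount78 Cfsg.Agent.FTPLayer78

attribute [local instance] Classical.propDecidable

universe u

variable {G : Type u} [Group G] [Fintype G] {M W₁ U W₂ : Subgroup G}

/-- The cyclic complement of a member of type II, III or IV has prime order. -/
theorem prime_W₁ (hP : IsTypePWith M W₁ U W₂) (h : IsOfTypeII M ∨ IsOfTypeIII M ∨ IsOfTypeIV M) :
    (Nat.card W₁).Prime := by
  obtain ⟨W₁', U', W₂', h', hpr⟩ : ∃ W₁' U' W₂' : Subgroup G, IsTypePWith M W₁' U' W₂' ∧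
      (Nat.card W₁').Prime := by
    rcases h with ⟨a, b, c, h1, -, h2, -⟩ | ⟨a, b, c, h1, -, h2, -⟩ | ⟨a, b, c, h1, -, h2, -⟩ <;>
      exact ⟨a, b, c, h1, h2⟩
  obtain ⟨m, -, hmW, -⟩ := typeP_W_conj hP h'
  rwa [← hmW, conj_smul_eq_map, Subgroup.card_map_of_injective (MulAut.conj m).injective] at hpr

/-- The configuration attached to a member of type III, IV or V. -/
theorem setup_of_typeP (hG : IsMinSimpleOddOrder G) (hM : IsCoatom M) (hP : IsTypePWith M W₁ U W₂)
    (h : IsOfTypeIII M ∨ IsOfTypeIV M ∨ IsOfTypeV M) (hp : (Nat.card W₂).Prime) :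
    PFPrimeTI.Setup M W₁ W₂ := by
  refine ⟨hG.1, hG.2.2.2 M hM.1, hP.selfNormalizing, hP.W₁_cyclic, hP.W₁_hall, hP.W₁_compl,
    hP.W₂_centralizer, hP.W₂_le.trans inf_le_right, hp, ?_⟩
  obtain ⟨hti, hN, -⟩ := FTPTI78.ti_typeA0 hG hM hP
  have hcore : typeCore M = ⁅M, M⁆ := by
    rcases h with h | h | h
    · exact typeCore_of_typeIII_or_IV (Or.inl h)
    · exact typeCore_of_typeIII_or_IV (Or.inr h)
    · rw [typeCore_of_not (not_typeIII_or_IV_of_typeV h), derived_eq_of_typeV h]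
  have hsub : ∀ x ∈ PFPrimeTI.supp M W₁ W₂, x ∈ typeA0 M ∧ x ≠ 1 := by
    rintro x (⟨hx, hx1⟩ | ⟨m, hm, w, hw, hw1, hw2, rfl⟩)
    · refine ⟨Or.inl ?_, hx1⟩
      unfold typeA
      rw [if_neg (not_typeI_of_typeP hP)]
      exact ⟨hx, hx1, x, hcore ▸ hx, hx1, rfl⟩
    · refine ⟨Or.inr ⟨not_typeI_of_typeP hP, W₁, U, W₂, hP, m, hm, w, hw, hw1, hw2, rfl⟩, fun e => hw1 ?_⟩
      have e' : w = 1 := by
        have h := congrArg (fun z => m⁻¹ * z * m) e
        simpa [mul_assoc] using h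
      rw [e']; exact W₁.one_mem
  intro x hx g hgx
  by_contra hg
  exact (hsub x hx).2 (hti g (by rw [hN]; exact hg) x (hsub x hx).1 (hsub _ hgx).1)

/-- The elements of order dividing `p` in the centre of `H`. -/
def omegaCenter (H : Subgroup G) (p : ℕ) : Subgroup G where
  carrier := {x | x ∈ H ∧ (∀ y ∈ H, x * y = y * x) ∧ x ^ p = 1}
  one_mem' := ⟨H.one_mem, fun y _ => by simp, one_pow p⟩
  mul_mem' := by
    rintro a b ⟨ha, ha', hap⟩ ⟨hb, hb', hbp⟩
    refine ⟨H.mul_mem ha hb, fun y hy => ?_, ?_⟩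
    · rw [mul_assoc, hb' y hy, ← mul_assoc, ha' y hy, mul_assoc]
    · rw [Commute.mul_pow (ha' b hb), hap, hbp, one_mul]
  inv_mem' := by
    rintro a ⟨ha, ha', hap⟩
    exact ⟨H.inv_mem ha, fun y hy => (Commute.inv_left (ha' y hy)), by rw [inv_pow, hap, inv_one]⟩

/-- `S_F` of a member of type II is elementary abelian of order `p ^ q`. -/
theorem structure_typeII (hG : IsMinSimpleOddOrder G) (hM : IsCoatom M) (hP : IsTypePWith M W₁ U W₂)
    (hII : IsOfTypeII M) (hp : (Nat.card W₂).Prime) :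
    IsElementaryAbelian (Nat.card W₂) (fittingHallOf M) ∧
      Nat.card (fittingHallOf M) = Nat.card W₂ ^ Nat.card W₁ := by
  set D : Side M W₁ U W₂ := ⟨hG, hM, hP, hII⟩
  obtain ⟨U₀, hle, hexp, hfpf⟩ := D.exists_fpf
  have hU₀ : U₀ ≠ ⊥ := fun e => D.facts.2.2.1 ((Subgroup.eq_bot_iff_forall _).2 fun x hx => by
    haveI : Subsingleton U₀ := by rw [e]; infer_instance
    have h1 : Monoid.exponent U₀ = 1 := Monoid.exp_eq_one_iff.2 inferInstance
    have h2 := Monoid.order_dvd_exponent (⟨x, hx⟩ : U)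
    rw [← hexp, h1, Nat.dvd_one, Subgroup.orderOf_mk, orderOf_eq_one_iff] at h2
    exact h2)
  obtain ⟨L, hcent⟩ := D.layer hle hU₀ hfpf
  set H := fittingHallOf M with hH
  have hconj : ∀ x ∈ U ⊔ W₁, ∀ h ∈ H, x * h * x⁻¹ ∈ H := fun x hx h hh =>
    (Subgroup.mem_normalizer_iff.1 (FittingHallBasic.le_normalizer_fittingHallOf M
      ((sup_le (typeP_U_le hP) (typeP_W₁_le hP)) hx)) h).1 hh
  have hcard : Nat.card H = Nat.card W₂ ^ Nat.card W₁ := by
    rw [L.card_eq le_rfl hconj, hcent]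
  refine ⟨?_, hcard⟩
  haveI := Fact.mk hp
  set p := Nat.card W₂ with hpd
  set Z := omegaCenter H p with hZ
  have hZH : Z ≤ H := fun x hx => hx.1
  have hZinv : ∀ x ∈ U ⊔ W₁, ∀ z ∈ Z, x * z * x⁻¹ ∈ Z := by
    rintro x hx z ⟨hz, hz', hzp⟩
    refine ⟨hconj x hx z hz, fun y hy => ?_, by rw [conj_pow, hzp, mul_one, mul_inv_cancel]⟩
    have h1 := hz' _ (hconj x⁻¹ (inv_mem hx) y hy)
    rw [inv_inv] at h1
    calc x * z * x⁻¹ * y = x * (z * (x⁻¹ * y * x)) * x⁻¹ := by group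
      _ = x * (x⁻¹ * y * x * z) * x⁻¹ := by rw [h1]
      _ = y * (x * z * x⁻¹) := by group
  have hpg : IsPGroup p H := IsPGroup.of_card hcard
  have hne : Z ≠ ⊥ := by
    haveI : Nontrivial H := by
      rw [Subgroup.nontrivial_iff_ne_bot]
      exact fun e => hP.H_not_cyclic (by rw [← hH, e]; infer_instance)
    haveI := hpg.center_nontrivial
    obtain ⟨z, hz⟩ := exists_prime_orderOf_dvd_card' (G := Subgroup.center H) p (by
      obtain ⟨n, hn, hc⟩ := (hpg.to_subgroup (Subgroup.center H)).nontrivial_iff_card.1 inferInstance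
      rw [hc]; exact dvd_pow_self p hn.ne')
    intro e
    have hmem : ((z : H) : G) ∈ Z := by
      refine ⟨(z : H).2, fun y hy => ?_, ?_⟩
      · exact (congrArg Subtype.val (Subgroup.mem_center_iff.1 z.2 ⟨y, hy⟩)).symm
      · have := pow_orderOf_eq_one z
        rw [hz] at this
        exact_mod_cast congrArg (fun w : Subgroup.center H => ((w : H) : G)) this
    rw [e, Subgroup.mem_bot] at hmem
    have : z = 1 := Subtype.ext (Subtype.ext hmem)
    rw [this, orderOf_one] at hz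
    exact hp.ne_one hz.symm
  have hcZ := L.card_eq hZH hZinv
  have hd : Nat.card ↥(Z ⊓ Subgroup.centralizer (W₁ : Set G)) ∣ p := by
    rw [hpd, ← hcent]
    exact Subgroup.card_dvd_of_le (inf_le_inf_right _ hZH)
  rcases (Nat.dvd_prime hp).1 hd with e | e <;> rw [e] at hcZ
  · rw [one_pow] at hcZ
    exact absurd (Subgroup.card_eq_one.1 hcZ) hne
  · have hZe : Z = H := Subgroup.eq_of_le_of_card_ge hZH (by rw [hcZ, hcard])
    refine ⟨⟨⟨fun x y => Subtype.ext ?_⟩⟩, fun a ha => ?_⟩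
    · have hx : (x : G) ∈ Z := hZe.symm ▸ x.2
      exact hx.2.1 y y.2
    · have ha' : a ∈ Z := hZe.symm ▸ ha
      exact ha'.2.2

end Cfsg.Agent.FTPMain78
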