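import Cfsg.Agent.Lib.FTPCore78

/-!
The contradiction from `s = 0`, and `s = 0` from coherence of all characters induced from `K`.
-/

set_option autoImplicit false
set_option linter.unusedSectionVars false
set_option maxHeartbeats 800000

open scoped ComplexConjugate

namespace Cfsg.Agent.FTPMu78

open Cfsg
open Cfsg.Agent.CharBasic Cfsg.Agent.CharBasicOrth Cfsg.Agent.CharBasicDecomp
open Cfsg.Agent.CyclicTI Cfsg.Agent.FTPBase78 Cfsg.Agent.FTPGrid78 Cfsg.Agent.FTPTau78

attribute [local instance] Classical.propDecidable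

universe u

variable {G : Type u} [Group G] [Fintype G] {M K W₁ W₂ : Subgroup G} {R : G → Subgroup G} [Fintype ↥M]

namespace Core

variable (C : Core M K W₁ W₂ R)
include C

/-- The number of linear characters of `K` plus the squares of the degrees of the `θ_j`, `j ≠ 1`. -/
noncomputable def ke : ℤ :=
  ((Nat.card W₁ * C.Z1.card + 1 : ℕ) : ℤ) + ∑ j ∈ Finset.univ.erase j₀, C.deg j.1 ^ 2

theorem q_lt_ke : (Nat.card W₁ : ℤ) < C.ke := by
  have h1 : (0 : ℤ) ≤ ∑ j ∈ Finset.univ.erase j₀, C.deg j.1 ^ 2 := Finset.sum_nonneg fun j _ => sq_nonneg _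
  have h2 : Nat.card W₁ * 2 ≤ Nat.card W₁ * C.Z1.card := Nat.mul_le_mul_left _ C.two_Z1
  unfold ke
  push_cast
  have h3 : (Nat.card W₁ : ℤ) * 2 ≤ (Nat.card W₁ : ℤ) * C.Z1.card := by exact_mod_cast h2
  have h4 : (0 : ℤ) ≤ Nat.card W₁ := by positivity
  linarith

/-- `P`, on `K`. -/
noncomputable def regPart : ↥(K.subgroupOf M) → ℂ :=
  (∑ l : ↥(K.subgroupOf M) →* ℂˣ, fun k => (l k : ℂ)) +
    ∑ j ∈ Finset.univ.erase j₀, (C.deg j.1 : ℂ) • C.th j

theorem lam_ne_th {j : ColJ W₁ W₂} (hj : j ≠ j₀) (l : ↥(K.subgroupOf M) →* ℂˣ) :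
    C.th j ≠ fun k => (l k : ℂ) := fun h => hj (C.th_linear h)

theorem regPart_inner [Fintype ↥(K.subgroupOf M)] :
    Cfsg.classInner C.regPart C.regPart = (C.ke : ℂ) := by
  have h1 : ∀ (l : ↥(K.subgroupOf M) →* ℂˣ) (j : ColJ W₁ W₂), j ∈ Finset.univ.erase j₀ →
      Cfsg.classInner (fun k => (l k : ℂ)) (C.th j) = 0 ∧ Cfsg.classInner (C.th j) (fun k => (l k : ℂ)) = 0 :=
    fun l j hj => by
      have hne := C.lam_ne_th (Finset.mem_erase.1 hj).1 l
      exact ⟨classInner_irr_ne (isIrrCharacter_linear l) (C.th_irr j) hne.symm,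
        classInner_irr_ne (C.th_irr j) (isIrrCharacter_linear l) hne⟩
  rw [regPart, classInner_add_left, classInner_add_right, classInner_add_right, classInner_sum_left,
    Finset.sum_congr rfl (fun l _ => (classInner_sum_right _ _ _).trans
      (Finset.sum_congr rfl fun l' _ => CyclicTI.inner_hom l l')),
    classInner_sum_left, Finset.sum_eq_zero (s := Finset.univ) (f := fun l : ↥(K.subgroupOf M) →* ℂˣ =>
      Cfsg.classInner (fun k => (l k : ℂ)) (∑ j ∈ Finset.univ.erase j₀, (C.deg j.1 : ℂ) • C.th j))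
      (fun l _ => by
        rw [classInner_sum_right]
        exact Finset.sum_eq_zero fun j hj => by rw [classInner_smul_right, (h1 l j hj).1, mul_zero]),
    classInner_sum_left, Finset.sum_eq_zero (s := Finset.univ.erase j₀) (f := fun j : ColJ W₁ W₂ =>
      Cfsg.classInner ((C.deg j.1 : ℂ) • C.th j) (∑ l : ↥(K.subgroupOf M) →* ℂˣ, fun k => (l k : ℂ)))
      (fun j hj => by
        rw [classInner_smul_left, classInner_sum_right, Finset.sum_eq_zero (fun l _ => (h1 l j hj).2), mul_zero]),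
    classInner_sum_left]
  simp only [classInner_sum_right, classInner_smul_left, classInner_smul_right, C.th_orth, map_intCast,
    mul_ite, mul_one, mul_zero, Finset.sum_ite_eq, Finset.mem_univ, if_true, Finset.sum_const,
    Finset.card_univ, C.card_lam, nsmul_eq_mul, add_zero, zero_add]
  rw [ke]
  push_cast
  congr 1
  · refine (Finset.sum_congr rfl (g := fun _ => (1 : ℂ)) fun l _ => ?_).trans ?_
    · rw [Finset.sum_eq_single l]
      · exact if_pos rfl
      · intro b _ hb; exact if_neg (Ne.symm hb)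
      · intro h; exact absurd (Finset.mem_univ _) h
    · simp [Finset.card_univ, C.card_lam]
  refine Finset.sum_congr rfl fun j hj => ?_
  rw [if_pos hj]
  ring

theorem inner_res_ind [Fintype ↥(K.subgroupOf M)] {ζ : ↥M → ℂ} (h : ζ ∈ C.Z1)
    {l : ↥(K.subgroupOf M) →* ℂˣ} :
    Cfsg.classInner (fun k => (l k : ℂ)) (C.res ζ) = Cfsg.classInner (C.indLam l) ζ :=
  (CharInduced.inner_ind_left _ _ (isClassFunction_of_isCharacter (isCharacter_of_isIrrCharacter
    (C.Z1_irr h)))).symm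

theorem regPart_zeta [Fintype ↥(K.subgroupOf M)] :
    Cfsg.classInner C.regPart (C.res C.z0) = (Nat.card W₁ : ℂ) := by
  have h0 := C.z0_mem
  have hth : ∀ j : ColJ W₁ W₂, Cfsg.classInner (C.th j) (C.res C.z0) = 0 := fun j => by
    have h := C.inner_K (χ := C.mu.μ j.1) (C.Z1_K h0)
    rw [← conj_classInner (C.mu.μ j.1), C.inner_mu_zeta h0, map_zero] at h
    have h' := (mul_eq_zero.1 h.symm).resolve_left (inv_ne_zero C.q_ne)
    rw [← conj_classInner (C.res C.z0), show C.th j = C.res (C.mu.μ j.1) from rfl, h', map_zero]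
  have hl : ∀ l : ↥(K.subgroupOf M) →* ℂˣ, Cfsg.classInner (fun k => (l k : ℂ)) (C.res C.z0) =
      if l ≠ 1 ∧ C.indLam l = C.z0 then 1 else 0 := fun l => by
    rw [C.inner_res_ind h0]
    by_cases hl : l = 1
    · subst hl
      rw [if_neg (fun h => h.1 rfl)]
      have e : C.indLam (1 : ↥(K.subgroupOf M) →* ℂˣ) = (Nat.card W₁ : ℂ) • C.oneK := by
        rw [C.q_oneK, indLam]
        congr 1
      rw [e, classInner_smul_left, C.inner_oneK_zeta h0, mul_zero]
    · rw [classInner_irr _ _ (C.indLam_irr hl) (C.Z1_irr h0)]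
      exact if_congr ⟨fun e => ⟨hl, e⟩, fun e => e.2⟩ rfl rfl
  rw [regPart, classInner_add_left, classInner_sum_left, classInner_sum_left,
    Finset.sum_eq_zero (s := Finset.univ.erase j₀) (fun j _ => by rw [classInner_smul_left, hth, mul_zero]),
    add_zero, Finset.sum_congr rfl (fun l _ => hl l), Finset.sum_boole, ← C.fibre_card h0, Finset.filter_filter]

/-- The test function. -/
noncomputable def test (t : ℂ) : ↥M → ℂ :=
  C.gam C.z0 - t • ((Nat.card W₁ : ℂ)⁻¹ • (∑ l ∈ Finset.univ.filter (· ≠ 1), C.gam (C.indLam l)) +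
    ∑ j ∈ Finset.univ.erase j₀, (C.deg j.1 : ℂ) • (C.alp j C.z0 + (C.nn j.1 : ℂ) • C.gam C.z0))

theorem test_class (t : ℂ) : IsClassFunction ↥M (C.test t) ∧
    ∀ x : ↥M, (x : G) ∉ suppSet M K W₁ W₂ → C.test t x = 0 := by
  have h0 := C.z0_mem
  have hsum : ∀ l : ↥(K.subgroupOf M) →* ℂˣ, l ∈ Finset.univ.filter (· ≠ 1) → C.Sup (C.gam (C.indLam l)) :=
    fun l hl => C.sup_gam (C.mem_Z1.2 ⟨l, (Finset.mem_filter.1 hl).2, rfl⟩)
  refine ⟨fun g h => ?_, fun x hx => ?_⟩
  · simp only [test, Pi.sub_apply, Pi.smul_apply, Pi.add_apply, Finset.sum_apply, smul_eq_mul,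
      isClassFunction_of_isGeneralizedCharacter (C.sup_gam h0).1 g h]
    rw [Finset.sum_congr rfl (fun l hl => isClassFunction_of_isGeneralizedCharacter (hsum l hl).1 g h),
      Finset.sum_congr rfl (fun (j : ColJ W₁ W₂) _ => by
        rw [isClassFunction_of_isGeneralizedCharacter (C.sup_alp (j := j) h0).1 g h])]
  · simp only [test, Pi.sub_apply, Pi.smul_apply, Pi.add_apply, Finset.sum_apply, smul_eq_mul,
      (C.sup_gam h0).2 x hx]
    rw [Finset.sum_eq_zero (fun l hl => (hsum l hl).2 x hx),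
      Finset.sum_eq_zero (fun (j : ColJ W₁ W₂) _ => by rw [(C.sup_alp (j := j) h0).2 x hx]; ring)]
    simp

theorem test_on_K (t : ℂ) (ht : t * (C.ke : ℂ) = (Nat.card W₁ : ℂ)) (k : ↥(K.subgroupOf M)) :
    C.test t k = C.res C.z0 k - t * C.regPart k := by
  have h0 := C.z0_mem
  have hk : ((k : ↥M) : G) ∈ K := k.2
  haveI := C.KM_normal
  have hlam : ∑ l ∈ Finset.univ.filter (· ≠ 1), C.indLam l k =
      (Nat.card W₁ : ℂ) * ((∑ l : ↥(K.subgroupOf M) →* ℂˣ, (l k : ℂ)) - 1) := by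
    have hall : ∑ l : ↥(K.subgroupOf M) →* ℂˣ, C.indLam l k =
        (Nat.card W₁ : ℂ) * ∑ l : ↥(K.subgroupOf M) →* ℂˣ, (l k : ℂ) := by
      simp only [indLam, CharInduced.ind_normal_coe]
      rw [← Finset.mul_sum, Finset.sum_comm, Finset.sum_congr rfl (fun x _ => show
          ∑ l : ↥(K.subgroupOf M) →* ℂˣ, CharInduced.conjFun (K.subgroupOf M) (fun k => (l k : ℂ)) x k =
            ∑ l : ↥(K.subgroupOf M) →* ℂˣ, (l k : ℂ) from
        Fintype.sum_equiv
          { toFun := fun l => l.comp (MulAut.conjNormal x).toMonoidHom,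
            invFun := fun l => l.comp (MulAut.conjNormal x).symm.toMonoidHom,
            left_inv := fun l => MonoidHom.ext fun z => by simp,
            right_inv := fun l => MonoidHom.ext fun z => by simp } _ _ fun l => by
          simp only [CharInduced.conjFun, Equiv.coe_fn_mk, MonoidHom.comp_apply]
          congr 2),
        Finset.sum_const, Finset.card_univ, nsmul_eq_mul, ← Nat.card_eq_fintype_card, C.card_M, ← mul_assoc,
        inv_mul_cancel_left₀ (Nat.cast_ne_zero.2 Nat.card_pos.ne')]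
    have h1 : C.indLam (1 : ↥(K.subgroupOf M) →* ℂˣ) k = (Nat.card W₁ : ℂ) := by
      have e : C.indLam (1 : ↥(K.subgroupOf M) →* ℂˣ) = (Nat.card W₁ : ℂ) • C.oneK := by
        rw [C.q_oneK, indLam]
        congr 1
      simp [e, oneK, hk]
    rw [show Finset.univ.filter (· ≠ (1 : ↥(K.subgroupOf M) →* ℂˣ)) = Finset.univ.erase 1 by ext; simp,
      Finset.sum_erase_eq_sub (Finset.mem_univ _), hall, h1]
    ring
  have hcard : ((Finset.univ.filter (· ≠ (1 : ↥(K.subgroupOf M) →* ℂˣ))).card : ℂ) =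
      (Nat.card W₁ : ℂ) * C.Z1.card := by
    rw [show Finset.univ.filter (· ≠ (1 : ↥(K.subgroupOf M) →* ℂˣ)) = Finset.univ.erase 1 by ext; simp,
      Finset.card_erase_of_mem (Finset.mem_univ _), Finset.card_univ, C.card_lam, Nat.add_sub_cancel]
    push_cast; rfl
  have ej : ∀ j : ColJ W₁ W₂, (C.deg j.1 : ℂ) * (C.alp j C.z0 k + (C.nn j.1 : ℂ) * C.gam C.z0 k) =
      (C.deg j.1 : ℂ) * C.th j k - (C.deg j.1 : ℂ) ^ 2 := fun j => by
    simp only [alp, gam, oneK, Pi.sub_apply, Pi.smul_apply, smul_eq_mul, hk, if_true, th, res, deg]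
    push_cast
    ring
  have hsg : ∑ l ∈ Finset.univ.filter (· ≠ 1), C.gam (C.indLam l) k =
      (∑ l ∈ Finset.univ.filter (· ≠ 1), C.indLam l k) -
        ((Finset.univ.filter (· ≠ (1 : ↥(K.subgroupOf M) →* ℂˣ))).card : ℂ) * (Nat.card W₁ : ℂ) := by
    simp only [gam, oneK, Pi.sub_apply, Pi.smul_apply, smul_eq_mul, hk, if_true, mul_one,
      Finset.sum_sub_distrib, Finset.sum_const, nsmul_eq_mul]
  have hke : (C.ke : ℂ) = (Nat.card W₁ : ℂ) * C.Z1.card + 1 +
      ∑ j ∈ Finset.univ.erase j₀, (C.deg j.1 : ℂ) ^ 2 := by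
    unfold ke; push_cast; rfl
  simp only [test, Pi.sub_apply, Pi.smul_apply, Pi.add_apply, Finset.sum_apply, smul_eq_mul, ej, hsg, hlam,
    hcard, regPart, Finset.sum_sub_distrib]
  simp only [gam, oneK, Pi.sub_apply, Pi.smul_apply, smul_eq_mul, hk, if_true, res, th]
  field_simp [C.q_ne]
  rw [hke] at ht
  linear_combination ht

/-- The support of the Dade map. -/
abbrev InS (_C : Core M K W₁ W₂ R) (g : G) : Prop := DadeMap.InSupport (suppSet M K W₁ W₂) M R g

theorem R_V_bot {a : G} (ha : a ∈ suppSet M K W₁ W₂) (hK : a ∉ K) :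
    R a = ⊥ ∧ ∃ (w : ↥(W₁ ⊔ W₂)) (m : G), InV w ∧ m⁻¹ * a * m = (w : G) := by
  obtain ⟨m, hm, hw, hw1, hw2⟩ := ha.2.resolve_left hK
  refine ⟨?_, ⟨_, hw⟩, m, ⟨hw1, hw2⟩, rfl⟩
  have hc : Subgroup.centralizer ({a} : Set G) ≤ M := by
    intro c hc
    rw [Subgroup.mem_centralizer_singleton_iff] at hc
    have h1 : m⁻¹ * c * m ∈ W₁ ⊔ W₂ := by
      refine CyclicTI.fusion C.base.sn hw hw1 hw2 ?_ ?_ ?_ <;>
      · rw [show m⁻¹ * c * m * (m⁻¹ * a * m) * (m⁻¹ * c * m)⁻¹ = m⁻¹ * (c * a * c⁻¹) * m by group, hc,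
          mul_inv_cancel_right]
        assumption
    have h2 := C.base.W_le h1
    have h3 := M.mul_mem (M.mul_mem hm h2) (M.inv_mem hm)
    simpa [mul_assoc] using h3
  rw [← C.dade.inf_eq_bot a ha]
  exact (inf_eq_left.2 (le_inf ((C.dade.le_centralizer a ha).trans hc) (C.dade.le_centralizer a ha))).symm

theorem row_pow (i : RowI W₁ W₂) : i.1 ^ Nat.card W₁ = 1 := by
  refine MonoidHom.ext fun w => ?_
  obtain ⟨a, ha, b, hb, e⟩ := C.base.decompW w.2
  have e' : w = (⟨a, Subgroup.mem_sup_left ha⟩ : ↥(W₁ ⊔ W₂)) * ⟨b, Subgroup.mem_sup_right hb⟩ := Subtype.ext e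
  rw [MonoidHom.pow_apply, e', map_mul, i.2 ⟨b, _⟩ hb, mul_one, ← map_pow, MonoidHom.one_apply,
    show (⟨a, Subgroup.mem_sup_left ha⟩ : ↥(W₁ ⊔ W₂)) ^ Nat.card W₁ = 1 from Subtype.ext
      (orderOf_dvd_iff_pow_eq_one.1 (Subgroup.orderOf_dvd_natCard _ ha)), map_one]

/-- Outside the support and at elements of order prime to `q`, the family takes odd integer values. -/
theorem f1_odd (hG : C.GExact) {g : G} (hg : ¬ C.InS g) (hcop : (orderOf g).Coprime (Nat.card W₁)) :
    ∃ z : ℤ, Odd z ∧ C.f1 C.z0 g = z := by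
  have h := congrFun (C.gamma_eq hG C.z0_mem) g
  rw [show C.τ (C.gam C.z0) g = 0 from DadeMap.dade_eq_zero hg, Pi.sub_apply, eq_comm, sub_eq_zero,
    Finset.sum_apply] at h
  have hint : ∀ i : RowI W₁ W₂, ∃ n : ℤ, C.η i.1 g = n := fun i =>
    CyclicTIGalois.value_integral C.base.sn C.oddW C.eta_fam i.1 g
      (hcop.coprime_dvd_right (orderOf_dvd_of_pow_eq_one (by convert C.row_pow i)))
  choose z hz using hint
  refine ⟨∑ i, z i, ?_, by rw [h, Int.cast_sum]; exact Finset.sum_congr rfl fun i _ => hz i⟩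
  rw [← Finset.add_sum_erase Finset.univ z (Finset.mem_univ i₀)]
  have hz0 : z i₀ = 1 := by
    have := hz i₀
    rw [show (i₀ : RowI W₁ W₂).1 = 1 from rfl, C.eta_fam.map_one] at this
    simp only at this
    exact_mod_cast this.symm
  rw [hz0]
  have hev : Even (∑ i ∈ Finset.univ.erase i₀, z i) := by
    rw [← ZMod.intCast_eq_zero_iff_even, Int.cast_sum]
    refine Finset.sum_involution (fun i _ => C.iinv i) (fun i _ => ?_) (fun i hi _ e => ?_) (fun i hi => ?_)
      (fun i _ => Subtype.ext (MonoidHom.ext fun w => inv_inv _))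
    · have : z (C.iinv i) = z i := by
        have h1 := hz (C.iinv i)
        rw [show (C.iinv i).1 = i.1⁻¹ from rfl, C.eta_conj] at h1
        simp only [Cfsg.conjFun, hz i, map_intCast] at h1
        exact_mod_cast h1.symm
      rw [this]
      exact CharTwo.add_self_eq_zero _
    · exact (Finset.mem_erase.1 hi).1 (Subtype.ext (C.eq_one_of_inv (congrArg Subtype.val e)))
    · refine Finset.mem_erase.2 ⟨fun e => (Finset.mem_erase.1 hi).1 (Subtype.ext ?_), Finset.mem_univ _⟩
      exact MonoidHom.ext fun w => inv_eq_one.1 (DFunLike.congr_fun (congrArg Subtype.val e) w)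
  obtain ⟨r, hr⟩ := hev
  exact ⟨r, by rw [hr]; ring⟩

theorem j₁_exists : ∃ j : ColJ W₁ W₂, j ≠ j₀ := by
  obtain ⟨l, hl, -⟩ := exists_third C.three_col (j₀ : ColJ W₁ W₂) j₀
  exact ⟨l, hl⟩

/-- If every `s_j` vanishes there is no room for many integer values outside the support. -/
theorem false_of_s_zero (hs : ∀ j : ColJ W₁ W₂, j ≠ j₀ → C.sv j = 0) (X : Finset G)
    (hX : ∀ g ∈ X, ¬ C.InS g ∧ (orderOf g).Coprime (Nat.card W₁))
    (hcount : (Nat.card W₁ : ℤ) * Nat.card G < X.card * C.ke) : False := by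
  haveI : Fintype ↥(K.subgroupOf M) := Fintype.ofFinite _
  obtain ⟨j₁, hj₁⟩ := C.j₁_exists
  have hGE := C.gamma_of_alpha hj₁ (hs j₁ hj₁)
  have h0 := C.z0_mem
  have hke : (0 : ℝ) < C.ke := by
    have := C.q_lt_ke
    exact_mod_cast lt_of_le_of_lt (Int.natCast_nonneg _) this
  have hkeC : (C.ke : ℂ) ≠ 0 := by
    have : (C.ke : ℝ) ≠ 0 := hke.ne'
    exact_mod_cast this
  set tr : ℝ := (Nat.card W₁ : ℝ) / C.ke with htr
  have ht : (tr : ℂ) * (C.ke : ℂ) = (Nat.card W₁ : ℂ) := by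
    rw [htr]; push_cast; rw [div_mul_cancel₀ _ hkeC]
  have htr1 : tr < 1 := by
    rw [htr, div_lt_one hke]; exact_mod_cast C.q_lt_ke
  have htrq : (tr : ℂ) * (Nat.card W₁ : ℂ) = (tr : ℂ) * (tr : ℂ) * (C.ke : ℂ) := by
    rw [mul_assoc, ht]
  obtain ⟨hTc, hTA⟩ := C.test_class (tr : ℂ)
  set T := C.test (tr : ℂ) with hT
  set h : ↥M → ℂ := fun x => if (x : G) ∈ K then T x else 0 with hh
  have hhc : IsClassFunction ↥M h := fun g y => by
    have : ((y * g * y⁻¹ : ↥M) : G) ∈ K ↔ (g : G) ∈ K :=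
      ⟨fun hh' => by simpa [mul_assoc] using C.base.conj_K (M.inv_mem y.2) hh',
        fun hh' => C.base.conj_K y.2 hh'⟩
    simp only [hh, this, hTc g y]
  have hhA : ∀ x : ↥M, (x : G) ∉ suppSet M K W₁ W₂ → h x = 0 := fun x hx => by
    simp only [hh, hTA x hx, ite_self]
  have hnorm : Cfsg.classInner h h = ((1 - tr : ℝ) : ℂ) := by
    have e : C.res h = C.res C.z0 - (tr : ℂ) • C.regPart := by
      funext k
      have hk : ((k : ↥M) : G) ∈ K := k.2
      simp only [res, hh, hk, if_true, hT, C.test_on_K _ ht k, Pi.sub_apply, Pi.smul_apply, smul_eq_mul]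
    have ez : Cfsg.classInner (C.res C.z0) (C.res C.z0) = (Nat.card W₁ : ℂ) := by
      have := C.inner_K (χ := C.z0) (C.Z1_K h0)
      rw [C.inner_zeta_zeta h0 h0, if_pos rfl, eq_inv_mul_iff_mul_eq₀ C.q_ne, mul_one] at this
      exact this.symm
    rw [C.inner_K (fun x hx => by simp [hh, hx]), e]
    simp only [classInner_sub_left, classInner_sub_right, classInner_smul_left, classInner_smul_right,
      C.regPart_inner, C.regPart_zeta, ← conj_classInner C.regPart (C.res C.z0), map_natCast,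
      Complex.conj_ofReal, ez]
    push_cast
    field_simp [C.q_ne]
    linear_combination -htrq
  set f := C.f1 C.z0 with hf
  have hfgen : IsGeneralizedCharacter G f := C.fam_gen C.f1_fam h0
  have hfc := isClassFunction_of_isGeneralizedCharacter hfgen
  -- the inner product with the family
  have hTf : Cfsg.classInner (C.τ T) f = ((1 - tr : ℝ) : ℂ) := by
    have e1 : ∀ l ∈ Finset.univ.filter (· ≠ (1 : ↥(K.subgroupOf M) →* ℂˣ)),
        Cfsg.classInner (C.τ (C.gam (C.indLam l))) f = if C.indLam l = C.z0 then 1 else 0 := fun l hl => by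
      rw [C.gamma_coeff (C.mem_Z1.2 ⟨l, (Finset.mem_filter.1 hl).2, rfl⟩) h0, hGE.1, zero_add]
      split_ifs <;> simp
    have e2 : ∀ j ∈ Finset.univ.erase (j₀ : ColJ W₁ W₂), Cfsg.classInner
        ((C.deg j.1 : ℂ) • (C.τ (C.alp j C.z0) + (C.nn j.1 : ℂ) • C.τ (C.gam C.z0))) f = 0 := fun j hj => by
      rw [classInner_smul_left, classInner_add_left, classInner_smul_left, C.alpha_coeff h0 h0,
        C.gamma_coeff h0 h0, hs j (Finset.mem_erase.1 hj).1, hGE.1, if_pos rfl]
      push_cast; ring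
    simp only [hT, test, C.tau_sub, C.tau_smul, C.tau_add, C.tau_sum]
    rw [classInner_sub_left, classInner_smul_left, classInner_add_left, classInner_smul_left,
      classInner_sum_left, classInner_sum_left, Finset.sum_congr rfl e1, Finset.sum_eq_zero e2,
      C.gamma_coeff h0 h0, hGE.1, if_pos rfl, Finset.sum_boole, C.fibre_card h0, add_zero,
      inv_mul_cancel₀ C.q_ne]
    push_cast; ring
  have hdiff : ∀ g : G, C.τ T g * conj (f g) = C.τ h g * conj (f g) := by
    intro g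
    by_cases hg : C.InS g
    · obtain ⟨a, ha, x, u, hu, e⟩ := hg
      by_cases haK : (a : G) ∈ K
      · rw [show C.τ T g = T a from DadeMap.dade_apply C.dade hTc a ha hu e,
          show C.τ h g = h a from DadeMap.dade_apply C.dade hhc a ha hu e]
        simp only [hh, haK, if_true]
      · obtain ⟨hR, w, m, hw, hmw⟩ := C.R_V_bot ha haK
        rw [hR, Subgroup.mem_bot] at hu
        subst hu
        rw [mul_one] at e
        have hg' : g = (x⁻¹ * m) * (w : G) * (x⁻¹ * m)⁻¹ := by rw [← hmw, ← e]; group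
        have : f g = 0 := by
          rw [hg', hfc]
          exact C.vanish_of_orth hfc (fun ω => C.f1_fam.eta _ h0 ω) hw
        rw [this, map_zero, mul_zero, mul_zero]
    · simp only [PCtx.τ, DadeMap.dade_eq_zero hg]
  have hhf : Cfsg.classInner (C.τ h) f = ((1 - tr : ℝ) : ℂ) := by
    rw [← hTf]; simp only [Cfsg.classInner, hdiff]
  have hhn : Cfsg.classInner (C.τ h) (C.τ h) = ((1 - tr : ℝ) : ℂ) := by
    rw [C.tau_inner hhc hhA hhc, hnorm]
  -- Cauchy-Schwarz
  set S : Finset G := Finset.univ.filter fun g => C.InS g with hS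
  have hG0 : (0 : ℝ) < Nat.card G := Nat.cast_pos.2 Nat.card_pos
  have hsumh : ∑ g, ‖C.τ h g‖ ^ 2 = (Nat.card G : ℝ) * (1 - tr) := by
    have h1 : ((∑ g, ‖C.τ h g‖ ^ 2 : ℝ) : ℂ) = ((Nat.card G : ℝ) * (1 - tr) : ℝ) := by
      push_cast
      rw [show ((1 : ℂ) - (tr : ℂ)) = ((1 - tr : ℝ) : ℂ) by push_cast; rfl, ← hhn, card_mul_classInner]
      exact Finset.sum_congr rfl fun g _ => (Complex.mul_conj' _).symm
    exact_mod_cast h1
  have hsumf : ∑ g, ‖f g‖ ^ 2 = (Nat.card G : ℝ) := by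
    have h1 : ((∑ g, ‖f g‖ ^ 2 : ℝ) : ℂ) = ((Nat.card G : ℝ) : ℂ) := by
      push_cast
      conv_rhs => rw [← mul_one (Nat.card G : ℂ), ← CoherenceBasic.si_self (C.f1_fam.si _ h0), card_mul_classInner]
      exact Finset.sum_congr rfl fun g _ => (Complex.mul_conj' _).symm
    exact_mod_cast h1
  have habs : (Nat.card G : ℝ) * (1 - tr) ≤ ∑ g ∈ S, ‖C.τ h g‖ * ‖f g‖ := by
    have h1 : ∑ g, C.τ h g * conj (f g) = (((Nat.card G : ℝ) * (1 - tr) : ℝ) : ℂ) := by
      rw [← card_mul_classInner, hhf]; push_cast; rfl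
    have h2 : ∑ g, C.τ h g * conj (f g) = ∑ g ∈ S, C.τ h g * conj (f g) :=
      (Finset.sum_subset (Finset.subset_univ _) fun g _ hg => by
        simp only [hS, Finset.mem_filter, Finset.mem_univ, true_and] at hg
        rw [show C.τ h g = 0 from DadeMap.dade_eq_zero hg, zero_mul]).symm
    have h3 := norm_sum_le S (fun g => C.τ h g * conj (f g))
    rw [← h2, h1, Complex.norm_real, Real.norm_of_nonneg (by nlinarith)] at h3
    refine h3.trans (le_of_eq (Finset.sum_congr rfl fun g _ => ?_))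
    rw [norm_mul, Complex.norm_conj]
  have hcs := Finset.sum_mul_sq_le_sq_mul_sq S (fun g => ‖C.τ h g‖) (fun g => ‖f g‖)
  have hle : ∑ g ∈ S, ‖C.τ h g‖ ^ 2 ≤ (Nat.card G : ℝ) * (1 - tr) := by
    rw [← hsumh]; exact Finset.sum_le_sum_of_subset_of_nonneg (Finset.subset_univ _) fun g _ _ => sq_nonneg _
  set Sf := ∑ g ∈ S, ‖f g‖ ^ 2 with hSf
  have hpos : 0 < (Nat.card G : ℝ) * (1 - tr) := by nlinarith
  have h4 : ((Nat.card G : ℝ) * (1 - tr)) ^ 2 ≤ (Nat.card G : ℝ) * (1 - tr) * Sf :=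
    calc ((Nat.card G : ℝ) * (1 - tr)) ^ 2 ≤ (∑ g ∈ S, ‖C.τ h g‖ * ‖f g‖) ^ 2 :=
          pow_le_pow_left₀ hpos.le habs 2
      _ ≤ _ := hcs
      _ ≤ _ := mul_le_mul_of_nonneg_right hle (Finset.sum_nonneg fun g _ => sq_nonneg _)
  have h5 : (Nat.card G : ℝ) * (1 - tr) ≤ Sf := by
    rw [pow_two] at h4; exact le_of_mul_le_mul_left h4 hpos
  have hdisj : Disjoint S X := Finset.disjoint_left.2 fun g h1 h2 =>
    (hX g h2).1 (Finset.mem_filter.1 h1).2
  have h6 : Sf + ∑ g ∈ X, ‖f g‖ ^ 2 ≤ Nat.card G := by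
    rw [hSf, ← Finset.sum_union hdisj, ← hsumf]
    exact Finset.sum_le_sum_of_subset_of_nonneg (Finset.subset_univ _) fun g _ _ => sq_nonneg _
  have h7 : (X.card : ℝ) ≤ ∑ g ∈ X, ‖f g‖ ^ 2 := by
    rw [← nsmul_one X.card, ← Finset.sum_const]
    refine Finset.sum_le_sum fun g hg => ?_
    obtain ⟨z, hz, hfz⟩ := C.f1_odd hGE (hX g hg).1 (hX g hg).2
    rw [show f g = _ from hfz, Complex.norm_intCast, sq_abs]
    have hz0 : z ≠ 0 := fun e => by rw [e] at hz; exact (Int.not_odd_zero hz).elim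
    have : (1 : ℤ) ≤ z ^ 2 := sq_pos_of_ne hz0
    exact_mod_cast this
  have h8 : (X.card : ℝ) * C.ke ≤ Nat.card W₁ * Nat.card G := by
    have h9 : (X.card : ℝ) ≤ (Nat.card G : ℝ) * tr := by nlinarith
    calc (X.card : ℝ) * C.ke ≤ (Nat.card G : ℝ) * tr * C.ke := mul_le_mul_of_nonneg_right h9 hke.le
      _ = _ := by rw [htr]; field_simp
  have h9 : (Nat.card W₁ : ℝ) * Nat.card G < X.card * C.ke := by exact_mod_cast hcount
  linarith

/-! ### Coherence -/

theorem pos_ne (x : ↥M) (hx : (x : G) ∉ K) : x ≠ 1 := fun h => hx (by rw [h]; exact K.one_mem)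

/-- Coherence of all characters induced from `K` forces `s = 0`, provided `|K|` is not tiny. -/
theorem s_zero_of_coherent
    (hcoh : Cfsg.IsCoherent (Cfsg.inducedIrrAbove (K.subgroupOf M) ⊥) {1}ᶜ C.τ)
    (hbig : 2 * Nat.card W₁ + 4 ≤ Nat.card K) {j : ColJ W₁ W₂} (hj : j ≠ j₀) : C.sv j = 0 := by
  haveI : Fintype ↥(K.subgroupOf M) := Fintype.ofFinite _
  haveI := C.KM_normal
  obtain ⟨-, τ₁, h₁, h₂⟩ := hcoh
  set S := Cfsg.inducedIrrAbove (K.subgroupOf M) ⊥ with hSd
  have h0 := C.z0_mem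
  have hmemZ : ∀ χ ∈ C.Z1, χ ∈ S := fun χ hχ => by
    obtain ⟨l, hl, rfl⟩ := C.mem_Z1.1 hχ
    refine ⟨_, isIrrCharacter_linear l, fun e => hl (MonoidHom.ext fun k => Units.ext (congrFun e k)),
      fun a ha => ?_, rfl⟩
    rw [show a = 1 from Subtype.ext (Subgroup.mem_bot.1 ha)]
  -- the sum of all the induced characters weighted by degree, minus `q z0`
  set regM : ↥M → ℂ := fun x => if x = 1 then (Nat.card ↥M : ℂ) else 0 with hreg
  set Φ : ↥M → ℂ := regM - (Nat.card W₁ : ℂ) • C.oneK - (Nat.card W₁ : ℂ) • C.z0 with hΦ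
  haveI := finite_irrCharacter (G := ↥(K.subgroupOf M))
  haveI : Fintype (Cfsg.IrrCharacter ↥(K.subgroupOf M)) := Fintype.ofFinite _
  have hregsum : regM - (Nat.card W₁ : ℂ) • C.oneK = ∑ θ ∈ (Finset.univ : Finset (Cfsg.IrrCharacter
      ↥(K.subgroupOf M))).erase (trivIrr ↥(K.subgroupOf M)),
      ((θ : ↥(K.subgroupOf M) → ℂ) 1) • Cfsg.indFun (K.subgroupOf M) (θ : ↥(K.subgroupOf M) → ℂ) := by
    have hall : ∑ θ : Cfsg.IrrCharacter ↥(K.subgroupOf M),
        ((θ : ↥(K.subgroupOf M) → ℂ) 1) • Cfsg.indFun (K.subgroupOf M) (θ : ↥(K.subgroupOf M) → ℂ) = regM := by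
      rw [Finset.sum_congr rfl (fun θ _ => (CharInduced.ind_smul _ _ _).symm), ← CharInduced.ind_sum]
      funext x
      have hsumreg : ∀ k : ↥(K.subgroupOf M), (∑ θ : Cfsg.IrrCharacter ↥(K.subgroupOf M),
          ((θ : ↥(K.subgroupOf M) → ℂ) 1) • (θ : ↥(K.subgroupOf M) → ℂ)) k =
          if k = 1 then (Nat.card (K.subgroupOf M) : ℂ) else 0 := by
        intro k
        have h := sum_irr_mul_conj (G := ↥(K.subgroupOf M)) k 1
        simp only [Finset.sum_apply, Pi.smul_apply, smul_eq_mul]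
        rw [Finset.sum_congr rfl (fun (θ : Cfsg.IrrCharacter ↥(K.subgroupOf M)) _ => show (θ : ↥(K.subgroupOf M) → ℂ) 1 * (θ : ↥(K.subgroupOf M) → ℂ) k =
          (θ : ↥(K.subgroupOf M) → ℂ) k * conj ((θ : ↥(K.subgroupOf M) → ℂ) 1) by
            obtain ⟨d, -, hd, -⟩ := CharBasicInt.exists_apply_one_dvd_card θ.2
            rw [hd, map_natCast, mul_comm])]
        refine Eq.trans ?_ (h.trans ?_)
        · convert rfl using 2
          exact Finset.ext fun _ => by simp
        simp only [isConj_one_left, eq_comm (a := (1 : ↥(K.subgroupOf M)))]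
        split_ifs with hk
        · subst hk
          rw [show Subgroup.centralizer ({1} : Set ↥(K.subgroupOf M)) = ⊤ from top_unique fun z _ => by
            simp [Subgroup.mem_centralizer_singleton_iff]]
          simp [Subgroup.card_top]
        · rfl
      by_cases hxK : x ∈ K.subgroupOf M
      · rw [show x = ((⟨x, hxK⟩ : ↥(K.subgroupOf M)) : ↥M) from rfl, CharInduced.ind_normal_coe]
        simp only [CharInduced.conjFun, hsumreg]
        by_cases hx1 : x = 1
        · subst hx1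
          simp only [hreg, if_true]
          rw [Finset.sum_congr rfl (fun y _ => if_pos (Subtype.ext (by simp))), Finset.sum_const,
            Finset.card_univ, nsmul_eq_mul, ← Nat.card_eq_fintype_card]
          field_simp
        · rw [Finset.sum_eq_zero (fun y _ => if_neg (fun e => hx1 (by
            have := congrArg Subtype.val e
            simpa using this))), mul_zero]
          simp [hreg, hx1]
      · rw [CharInduced.ind_normal_eq_zero _ _ hxK]
        have : x ≠ 1 := fun e => hxK (e ▸ Subgroup.one_mem _)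
        simp [hreg, this]
    rw [← hall, ← Finset.add_sum_erase _ _ (Finset.mem_univ (trivIrr ↥(K.subgroupOf M))), C.q_oneK]
    simp [trivIrr]
  have hΦspan : Φ ∈ Cfsg.zspan S := by
    rw [hΦ, hregsum]
    refine CoherenceBasic.zspan_sub ?_ (CoherenceBasic.zspan_natCast_smul _ (CoherenceBasic.subset_zspan
      (hmemZ _ h0)))
    refine Finset.sum_induction _ (· ∈ Cfsg.zspan S) (fun a b => CoherenceBasic.zspan_add)
      CoherenceBasic.zspan_zero fun θ hθ => ?_
    obtain ⟨d, -, hd, -⟩ := CharBasicInt.exists_apply_one_dvd_card θ.2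
    rw [hd]
    refine CoherenceBasic.zspan_natCast_smul _ (CoherenceBasic.subset_zspan ⟨_, θ.2, ?_, ?_, rfl⟩)
    · exact fun e => (Finset.mem_erase.1 hθ).1 (Subtype.ext e)
    · intro a ha; rw [show a = 1 from Subtype.ext (Subgroup.mem_bot.1 ha)]
  set a : ℤ := (Nat.card K : ℤ) - 1 - Nat.card W₁ with ha
  have hcM : (Nat.card ↥M : ℂ) = (Nat.card K : ℂ) * Nat.card W₁ := by rw [C.card_M, C.card_KM]
  have hΦ1 : Φ 1 = (Nat.card W₁ : ℂ) * (a : ℂ) := by
    simp only [hΦ, hreg, oneK, Pi.sub_apply, Pi.smul_apply, smul_eq_mul, if_true, OneMemClass.coe_one,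
      K.one_mem, C.Z1_one h0, hcM, ha]
    push_cast; ring
  have hz1 : C.z0 1 = (Nat.card W₁ : ℂ) := C.Z1_one h0
  set ψ0 : ↥M → ℂ := Φ - (a : ℂ) • C.z0 with hψ0
  have hψS : ψ0 ∈ Cfsg.zspanOn S {1}ᶜ := by
    refine ⟨CoherenceBasic.zspan_sub hΦspan
      (CoherenceBasic.zspan_intCast_smul _ (CoherenceBasic.subset_zspan (hmemZ _ h0))), fun x hx => ?_⟩
    simp only [Set.mem_compl_iff, Set.mem_singleton_iff, not_not] at hx
    subst hx
    simp [hψ0, hΦ1, hz1]; ring
  have hregK : ∀ x : ↥M, (x : G) ∉ K → Φ x = 0 := fun x hx => by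
    simp [hΦ, hreg, oneK, hx, C.Z1_K h0 x hx, C.pos_ne x hx]
  have hΦgen : IsGeneralizedCharacter ↥M Φ := by
    refine Submodule.span_induction ?_ ?_ ?_ ?_ hΦspan
    · rintro χ ⟨θ, hθ, -, -, rfl⟩
      exact CharInduced.isGenChar_ind _
        (isGeneralizedCharacter_of_isCharacter (isCharacter_of_isIrrCharacter hθ))
    · exact isGeneralizedCharacter_zero
    · exact fun x y _ _ => isGeneralizedCharacter_add
    · intro n x _ hx
      rw [show n • x = (n : ℂ) • x by funext z; simp]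
      exact isGeneralizedCharacter_zsmul hx n
  have hψsup : C.Sup ψ0 := C.sup_of_K (isGeneralizedCharacter_sub hΦgen (isGeneralizedCharacter_zsmul
    (isGeneralizedCharacter_of_isCharacter (isCharacter_of_isIrrCharacter (C.Z1_irr h0))) _))
    (hψS.2 1 (by simp)) (fun x hx => by simp [hψ0, hregK x hx, C.Z1_K h0 x hx])
  -- inner products
  have hreg_inner : ∀ χ : ↥M → ℂ, Cfsg.classInner χ regM = χ 1 := fun χ => by
    simp only [Cfsg.classInner, hreg, apply_ite (conj : ℂ → ℂ), map_natCast, map_zero, mul_ite, mul_zero,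
      Finset.sum_ite_eq', Finset.mem_univ, if_true]
    field_simp
  have hα1 : C.alp j C.z0 1 = 0 := (C.sup_alp h0).2 1 fun h => h.1 rfl
  have eαone : Cfsg.classInner (C.alp j C.z0) C.oneK = -(C.dz j.1 : ℂ) / (Nat.card W₁ : ℂ) := by
    rw [← conj_classInner C.oneK]
    simp only [alp, classInner_sub_right, classInner_smul_right, C.inner_oneK_mu hj,
      C.inner_oneK_one, C.inner_oneK_zeta h0, map_sub, map_mul, map_zero, map_inv₀, map_natCast, map_intCast]
    ring
  have eαΦ : Cfsg.classInner (C.alp j C.z0) Φ =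
      ((C.dz j.1 + C.nn j.1 * Nat.card W₁ : ℤ) : ℂ) := by
    simp only [hΦ, classInner_sub_right, classInner_smul_right, hreg_inner, hα1, eαone, C.alp_zeta h0 h0,
      if_true, map_natCast]
    field_simp [C.q_ne]
    push_cast; ring
  have eΦΦ : Cfsg.classInner Φ Φ = (((Nat.card W₁ : ℤ) * a : ℤ) : ℂ) := by
    have e1 : Cfsg.classInner Φ C.z0 = 0 := by
      simp only [hΦ, classInner_sub_left, classInner_smul_left, C.inner_oneK_zeta h0, C.inner_zeta_zeta h0 h0,
        ← conj_classInner C.z0 regM, hreg_inner, hz1, if_true, map_natCast]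
      ring
    have e2 : Cfsg.classInner Φ C.oneK = 0 := by
      have e3 : Cfsg.classInner C.oneK C.oneK = (Nat.card W₁ : ℂ)⁻¹ := by
        rw [← C.inner_oneK_one]
        simp only [Cfsg.classInner, oneK]
        congr 1
        refine Finset.sum_congr rfl fun x _ => ?_
        split_ifs <;> simp
      simp only [hΦ, classInner_sub_left, classInner_smul_left, e3,
        ← conj_classInner C.oneK regM, hreg_inner, ← conj_classInner C.oneK C.z0, C.inner_oneK_zeta h0]
      simp [oneK, K.one_mem]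
    conv_lhs => arg 2; rw [hΦ]
    rw [classInner_sub_right, classInner_sub_right, classInner_smul_right, classInner_smul_right, e1, e2,
      hreg_inner, hΦ1]
    push_cast; ring
  have hz0S := CoherenceBasic.subset_zspan (hmemZ _ h0)
  have hτΦ : τ₁ Φ = C.τ ψ0 + (a : ℂ) • τ₁ C.z0 := by
    have e : Φ = ψ0 + (a : ℂ) • C.z0 := by rw [hψ0]; simp
    conv_lhs => rw [e]
    rw [h₁.1 _ hψS.1 _ (CoherenceBasic.zspan_intCast_smul _ hz0S), h₂ _ hψS,
      show (a : ℂ) • C.z0 = a • C.z0 by funext x; simp, h₁.2.1 _ hz0S]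
    funext g; simp
  have hsi : ∀ χ ∈ C.Z1, CoherenceBasic.SignedIrr (τ₁ χ) := fun χ hχ =>
    CoherenceBasic.si_of_norm_one (h₁.2.2.2 χ (CoherenceBasic.subset_zspan (hmemZ χ hχ)))
      (by rw [h₁.2.2.1 χ (CoherenceBasic.subset_zspan (hmemZ χ hχ)) χ (CoherenceBasic.subset_zspan (hmemZ χ hχ))]
          exact classInner_irr_self (C.Z1_irr hχ))
  have hzc := (C.Z1_conj h0).1
  have hzne := (C.Z1_conj h0).2
  have hzcS := CoherenceBasic.subset_zspan (hmemZ _ hzc)
  have hdiff : C.τ (C.z0 - Cfsg.conjFun C.z0) = τ₁ C.z0 - τ₁ (Cfsg.conjFun C.z0) := by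
    rw [← h₂ _ ⟨CoherenceBasic.zspan_sub hz0S hzcS, fun x hx => by
      simp only [Set.mem_compl_iff, Set.mem_singleton_iff, not_not] at hx
      simp [hx, hz1, C.Z1_one hzc]⟩, CoherenceBasic.span_map_sub h₁ hz0S hzcS]
  have hθg : IsGeneralizedCharacter G (C.τ (C.alp j C.z0)) := C.tau_gen (C.sup_alp h0)
  -- orthogonality of `τ₁ z0` and `τ₁ Φ`, and their norms
  set e1v := τ₁ C.z0 with he1v
  set e2v := τ₁ Φ with he2v
  have o12 : Cfsg.classInner e1v e2v = 0 := by
    rw [he1v, he2v, h₁.2.2.1 _ hz0S _ hΦspan, hΦ]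
    simp only [classInner_sub_right, classInner_smul_right, hreg_inner, hz1, C.inner_zeta_zeta h0 h0,
      ← conj_classInner C.oneK C.z0, C.inner_oneK_zeta h0, if_true, map_natCast, map_zero]
    ring
  have o11 : Cfsg.classInner e1v e1v = 1 := CoherenceBasic.si_self (hsi _ h0)
  have o22 : Cfsg.classInner e2v e2v = (((Nat.card W₁ : ℤ) * a : ℤ) : ℂ) := by
    rw [he2v, h₁.2.2.1 _ hΦspan _ hΦspan, eΦΦ]
  have he2g : IsGeneralizedCharacter G e2v := h₁.2.2.2 _ hΦspan
  have he1g : IsGeneralizedCharacter G e1v := CoherenceBasic.si_gen (hsi _ h0)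
  set θ := C.τ (C.alp j C.z0) with hθ
  set c := ipz θ e1v + C.nn j.1 with hc
  have hp1 : Cfsg.classInner θ e1v = ((c - C.nn j.1 : ℤ) : ℂ) := by
    rw [ipz_spec hθg he1g, hc]; push_cast; ring
  have hp2 : Cfsg.classInner θ e2v = ((a * c + C.dz j.1 + C.nn j.1 * Nat.card W₁ : ℤ) : ℂ) := by
    rw [hτΦ, classInner_add_right, classInner_smul_right, C.tau_inner_sup (C.sup_alp h0) hψsup, hp1, hψ0,
      classInner_sub_right, classInner_smul_right, eαΦ, C.alp_zeta h0 h0, if_pos rfl, map_intCast]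
    push_cast; ring
  have hNθ : Cfsg.classInner θ θ = ((2 + C.nn j.1 ^ 2 : ℤ) : ℂ) := by
    rw [hθ, C.tau_inner_sup (C.sup_alp h0) (C.sup_alp h0), C.alp_alp hj h0]
  have hq3 : (3 : ℤ) ≤ Nat.card W₁ := by exact_mod_cast C.three_W₁
  have hbig' : (2 * Nat.card W₁ + 4 : ℤ) ≤ Nat.card K := by exact_mod_cast hbig
  have hapos : (Nat.card W₁ : ℤ) + 3 ≤ a := by rw [ha]; linarith
  have hc0 : c = 0 := by
    by_contra hcne
    set X : ℤ := a * c + C.dz j.1 + C.nn j.1 * Nat.card W₁ with hX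
    set N : ℤ := (Nat.card W₁ : ℤ) * a with hN
    set r : G → ℂ := (N : ℂ) • θ - ((N * (c - C.nn j.1) : ℤ) : ℂ) • e1v - (X : ℂ) • e2v with hr
    have h1θ : Cfsg.classInner e1v θ = ((c - C.nn j.1 : ℤ) : ℂ) := by rw [← conj_classInner, hp1, map_intCast]
    have h2θ : Cfsg.classInner e2v θ = (X : ℂ) := by rw [← conj_classInner, hp2, map_intCast]
    have o21 : Cfsg.classInner e2v e1v = 0 := by rw [← conj_classInner, o12, map_zero]
    have hrr : Cfsg.classInner r r =
        ((N * (N * (2 + C.nn j.1 ^ 2 - (c - C.nn j.1) ^ 2) - X ^ 2) : ℤ) : ℂ) := by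
      simp only [hr, classInner_sub_left, classInner_sub_right, classInner_smul_left, classInner_smul_right,
        hNθ, hp1, hp2, h1θ, h2θ, o11, o12, o21, o22, map_intCast]
      push_cast; ring
    have hnn := CoherenceBasic.classInner_self_nonneg r
    rw [hrr, Complex.intCast_re] at hnn
    have hnn' : 0 ≤ N * (N * (2 + C.nn j.1 ^ 2 - (c - C.nn j.1) ^ 2) - X ^ 2) := by exact_mod_cast hnn
    have hNpos : 0 < N := by rw [hN]; exact mul_pos (by linarith) (by linarith)
    have h5 : X ^ 2 ≤ N * (2 + C.nn j.1 ^ 2 - (c - C.nn j.1) ^ 2) := by nlinarith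
    rw [hX, hN] at h5
    have h6 : (a * a + Nat.card W₁ * a) * c ^ 2 + 2 * a * (c * C.dz j.1) +
        (C.dz j.1 + C.nn j.1 * Nat.card W₁) ^ 2 ≤ 2 * (Nat.card W₁ * a) := by linarith
    have h7 : -(c ^ 2) ≤ c * C.dz j.1 := by
      rcases C.dz_cases j.1 with e | e <;> rw [e] <;> nlinarith [mul_self_pos.2 hcne]
    have h2a : (0 : ℤ) ≤ 2 * a := by linarith
    have h8 : (a * a + Nat.card W₁ * a - 2 * a) * c ^ 2 ≤ 2 * (Nat.card W₁ * a) := by
      linarith [mul_le_mul_of_nonneg_left h7 h2a, sq_nonneg (C.dz j.1 + C.nn j.1 * Nat.card W₁)]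
    have h9 : (1 : ℤ) ≤ c ^ 2 := sq_pos_of_ne hcne
    have h10 : 0 ≤ a * a + Nat.card W₁ * a - 2 * a := by
      rw [show a * a + Nat.card W₁ * a - 2 * a = a * (a + Nat.card W₁ - 2) by ring]
      exact mul_nonneg (by linarith) (by linarith)
    have h11 := (le_mul_of_one_le_right h10 h9).trans h8
    have h12 : a * (a + Nat.card W₁ - 2) ≤ a * (2 * Nat.card W₁) := by linarith
    have h13 := le_of_mul_le_mul_left h12 (by linarith)
    linarith
  -- grid and transfer to `f1`
  have hb := bessel_int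
    (Sum.elim (fun _ : Unit => e1v) (fun p : RowI W₁ W₂ × ColJ W₁ W₂ => C.η (p.1.1 * p.2.1)))
    (by rintro (u | p); exacts [he1g, C.eta_gen _]) (?_) hθg hNθ
  · obtain ⟨hbd, -⟩ := hb
    simp only [Fintype.sum_sum_type, Sum.elim_inl, Sum.elim_inr, Fintype.sum_prod_type,
      Finset.univ_unique, Finset.sum_singleton] at hbd
    have hgr : ∑ i, ∑ j', C.ag j i j' ^ 2 ≤ 2 := by
      change ipz θ e1v ^ 2 + ∑ i, ∑ j', C.ag j i j' ^ 2 ≤ _ at hbd
      have : ipz θ e1v = -C.nn j.1 := by omega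
      rw [this] at hbd
      linarith
    have hf := C.f1_fam
    have e3 : Cfsg.classInner (e1v - τ₁ (Cfsg.conjFun C.z0)) (C.f1 C.z0) = 1 := by
      rw [← hdiff, hf.diff _ h0 _ hzc, classInner_sub_left, hf.orth _ h0 _ h0, if_pos rfl,
        hf.orth _ hzc _ h0, if_neg hzne, sub_zero]
    rw [classInner_sub_left] at e3
    rcases CoherenceBasic.si_cases (hsi _ h0) (hf.si _ h0) with h | ⟨ε, hε, he, hεv⟩
    · have e4 : Cfsg.classInner (τ₁ (Cfsg.conjFun C.z0)) (C.f1 C.z0) = -1 := by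
        rw [← he1v] at h; rw [h] at e3; linear_combination -e3
      rcases CoherenceBasic.si_cases (hsi _ hzc) (hf.si _ h0) with h' | ⟨ε, hε, he, hεv⟩
      · rw [h'] at e4; norm_num at e4
      · rcases hε with rfl | rfl
        · rw [hεv] at e4; norm_num at e4
        · have hsv : C.sv j = C.nn j.1 := by
            have e5 : Cfsg.classInner θ (τ₁ (Cfsg.conjFun C.z0)) = 0 := by
              have e6 : Cfsg.classInner θ (τ₁ C.z0 - τ₁ (Cfsg.conjFun C.z0)) = -(C.nn j.1 : ℂ) := by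
                rw [← hdiff, hθ, C.tau_inner_sup (C.sup_alp h0) (C.sup_diff h0 hzc), classInner_sub_right,
                  C.alp_zeta h0 h0, C.alp_zeta h0 hzc, if_pos rfl, if_neg hzne.symm]
                ring
              rw [classInner_sub_right, ← he1v, hp1, hc0] at e6
              push_cast at e6
              linear_combination -e6
            have e7 : Cfsg.classInner θ (C.f1 C.z0) = ((0 : ℤ) : ℂ) := by
              rw [he, classInner_smul_right, e5]; simp
            simp only [sv, ← hθ, ipz_eq e7, zero_add]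
          have hbud := C.alpha_budget hj
          have hgp := C.alpha_grid_pos hj
          rw [hsv] at hbud
          have hn := C.nn_ge_two hj
          have hm : C.Z1.card = 2 := by
            by_contra hm
            have h3 : (3 : ℤ) ≤ C.Z1.card := by
              have := C.two_Z1
              exact_mod_cast (by omega : 3 ≤ C.Z1.card)
            nlinarith
          exact C.s_zero_of_grid hj hgr (by rw [hsv, hm]; push_cast; ring) (hsv ▸ C.nn_even j.1)
    · rcases hε with rfl | rfl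
      · have e7 : Cfsg.classInner θ (C.f1 C.z0) = ((-C.nn j.1 : ℤ) : ℂ) := by
          rw [he, classInner_smul_right, ← he1v, hp1, hc0]; simp
        simp only [sv, ← hθ, ipz_eq e7, neg_add_cancel]
      · exfalso
        rw [← he1v] at hεv
        rw [hεv] at e3
        rcases CoherenceBasic.si_cases (hsi _ hzc) (hf.si _ h0) with h' | ⟨ε, hε, -, hε'⟩
        · rw [h'] at e3; norm_num at e3
        · rcases hε with rfl | rfl <;> rw [hε'] at e3 <;> norm_num at e3
  · have hvV : ∀ ω, Cfsg.classInner e1v (C.η ω) = 0 := by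
      intro ω
      have hg : IsGeneralizedCharacter G (C.τ (C.z0 - Cfsg.conjFun C.z0)) := C.tau_gen (C.sup_diff h0 hzc)
      have hcell : Cfsg.classInner (C.τ (C.z0 - Cfsg.conjFun C.z0)) (C.η ω) = 0 := by
        rw [C.f1_fam.diff _ h0 _ hzc, classInner_sub_left, C.f1_fam.eta _ h0, C.f1_fam.eta _ hzc, sub_zero]
      rw [hdiff, classInner_sub_left, sub_eq_zero] at hcell
      rcases CoherenceBasic.si_cases (hsi _ h0) (C.eta_si ω) with h | ⟨ε, hε, he, hεv⟩
      · exact h
      · exfalso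
        have hoo : Cfsg.classInner (τ₁ (Cfsg.conjFun C.z0)) (τ₁ C.z0) = 0 := by
          rw [h₁.2.2.1 _ hzcS _ hz0S, C.inner_zeta_zeta hzc h0, if_neg hzne]
        rw [hεv, he, classInner_smul_right, hoo, mul_zero] at hcell
        rcases hε with rfl | rfl <;> norm_num at hcell
    rintro (u | p) (u' | p')
    · simp [o11]
    · simp [hvV]
    · simp only [Sum.elim_inr, Sum.elim_inl, reduceCtorEq, if_false]
      rw [← conj_classInner, hvV, map_zero]
    · simp only [Sum.elim_inr, Sum.inr.injEq, C.eta_cell, Prod.ext_iff]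

end Core

end Cfsg.Agent.FTPMu78
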