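import Mathlib
import Cfsg.Agent.Lib.CharKernel
import Cfsg.Agent.Lib.CharBasicDecomp

/-!
A trivial intersection lemma of Leonard (helper83): if the Sylow `p`-subgroup `P` is TI and a
nonprincipal irreducible character has degree less than `|P|`, then it has no fixed vector for
`N(P)`. Consequently a character `χ` with `χ(1)² ≤ |P|` has the same norm on every subgroup
containing `N(P)`.

The proof reduces an integral model modulo a prime over `p`: a sum over a regular `P`-orbit
vanishes in dimension less than `|P|`.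
-/

set_option autoImplicit false

open scoped ComplexConjugate Pointwise
open Matrix

namespace Cfsg.Agent.TIFixed

open Cfsg.Agent.CharBasic Cfsg.Agent.CharBasicOrth Cfsg.Agent.CharBasicDecomp
open Cfsg.Agent.CharAverage

universe u

/-! ### A valuation subring over `p` -/

theorem exists_valuationSubring (p : ℕ) [Fact p.Prime] :
    ∃ V : ValuationSubring ℂ, (p : ℂ) ∈ V.nonunits := by
  let A : Subring ℂ := ⊥
  let I : Ideal A := Ideal.span {(p : A)}
  have hI : I ≠ ⊤ := by
    intro h
    rw [Ideal.span_singleton_eq_top, isUnit_iff_exists_inv] at h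
    obtain ⟨b, hb⟩ := h
    obtain ⟨z, hz⟩ := Subring.mem_bot.1 b.2
    have h2 : (p : ℂ) * (b : ℂ) = 1 := by simpa using congrArg Subtype.val hb
    rw [← hz] at h2
    have h3 : (p : ℤ) * z = 1 := by exact_mod_cast h2
    exact (Nat.prime_iff_prime_int.1 (Fact.out : p.Prime)).not_isUnit ⟨⟨_, z, h3, by rwa [mul_comm]⟩, rfl⟩
  obtain ⟨V, -, h2⟩ := Ideal.image_subset_nonunits_valuationSubring (A := A) I hI
  exact ⟨V, h2 ⟨(p : A), Ideal.subset_span rfl, by simp⟩⟩

/-! ### Integral models -/

theorem exists_integral_basis {G : Type u} [Group G] [Finite G] {n : ℕ} (V : ValuationSubring ℂ)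
    (ρ : Representation ℂ G (Fin n → ℂ)) :
    ∃ (ι : Type) (_ : Fintype ι) (_ : DecidableEq ι) (b : Module.Basis ι ℂ (Fin n → ℂ)),
      Fintype.card ι = n ∧ ∀ g i j, LinearMap.toMatrix b b (ρ g) i j ∈ V := by
  classical
  have := Fintype.ofFinite G
  let W := Fin n → ℂ
  let T : Finset W := Finset.univ.image fun x : G × Fin n => ρ x.1 (Pi.basisFun ℂ (Fin n) x.2)
  let L : Submodule V W := Submodule.span V (T : Set W)
  have hex : ∃ k : ℕ, ∃ s : Finset W, s.card = k ∧ Submodule.span V (s : Set W) = L :=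
    ⟨_, T, rfl, rfl⟩
  obtain ⟨s, hs, hsL⟩ := Nat.find_spec hex
  have hind : LinearIndependent ℂ (fun x : (s : Set W) => (x : W)) := by
    by_contra hdep
    rw [Fintype.not_linearIndependent_iff] at hdep
    obtain ⟨c, hc, i, hi⟩ := hdep
    obtain ⟨k, -, hk⟩ := Finset.exists_max_image Finset.univ (fun j => V.valuation (c j))
      ⟨i, Finset.mem_univ i⟩
    have hk0 : c k ≠ 0 := by
      intro h0
      have h1 := hk i (Finset.mem_univ i)
      rw [h0, map_zero] at h1
      exact hi (V.valuation.zero_iff.1 (le_antisymm h1 zero_le))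
    have hq : ∀ j, c j / c k ∈ V := fun j => by
      rw [← V.valuation_le_one_iff, map_div₀]
      exact div_le_one_of_le₀ (hk j (Finset.mem_univ j)) zero_le
    have hmem : (k : W) ∈ Submodule.span V ((s.erase (k : W) : Finset W) : Set W) := by
      have h2 : (k : W) = -∑ j ∈ Finset.univ.erase k, (⟨c j / c k, hq j⟩ : V) • (j : W) := by
        rw [← Finset.add_sum_erase _ _ (Finset.mem_univ k)] at hc
        have h3 := congrArg (fun w => (c k)⁻¹ • w) hc
        simp only [smul_add, smul_smul, inv_mul_cancel₀ hk0, one_smul, smul_zero, Finset.smul_sum] at h3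
        rw [eq_neg_of_add_eq_zero_left h3]
        congr 1
        refine Finset.sum_congr rfl fun j _ => ?_
        show _ = (c j / c k) • (j : W)
        rw [div_eq_inv_mul]
      refine (congrArg (· ∈ Submodule.span V ((s.erase (k : W) : Finset W) : Set W)) h2).mpr
        (neg_mem (sum_mem fun j hj => Submodule.smul_mem _ _ (Submodule.subset_span ?_)))
      exact Finset.mem_erase.2 ⟨fun e => (Finset.mem_erase.1 hj).1 (Subtype.ext e), j.2⟩
    have hspan : Submodule.span V ((s.erase (k : W) : Finset W) : Set W) = L := by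
      refine le_antisymm ?_ ?_
      · rw [← hsL]; exact Submodule.span_mono (by simp)
      · rw [← hsL, Submodule.span_le]
        intro x hx
        by_cases hxk : x = (k : W)
        · exact hxk ▸ hmem
        · exact Submodule.subset_span (Finset.mem_erase.2 ⟨hxk, hx⟩)
    exact Nat.find_min hex (by rw [← hs]; exact Finset.card_erase_lt_of_mem k.2)
      ⟨_, rfl, hspan⟩
  have htop : ⊤ ≤ Submodule.span ℂ (Set.range fun x : (s : Set W) => (x : W)) := by
    rw [Subtype.range_coe_subtype, Set.ofPred_mem_eq, ← (Pi.basisFun ℂ (Fin n)).span_eq,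
      Submodule.span_le]
    rintro _ ⟨i, rfl⟩
    have h1 : Pi.basisFun ℂ (Fin n) i ∈ L := Submodule.subset_span
      (Finset.mem_image.2 ⟨(1, i), Finset.mem_univ _, by simp⟩)
    rw [← hsL] at h1
    exact Submodule.span_le_restrictScalars V ℂ _ h1
  let b := Module.Basis.mk hind htop
  have hn : Fintype.card (s : Set W) = n := by
    rw [← Module.finrank_eq_card_basis b]; simp [W]
  let e : (s : Set W) ≃ Fin n := Fintype.equivFinOfCardEq hn
  refine ⟨Fin n, inferInstance, inferInstance, b.reindex e, Fintype.card_fin n, fun g i j => ?_⟩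
  -- the lattice is invariant
  have hinv : ∀ x ∈ L, ρ g x ∈ L := by
    intro x hx
    induction hx using Submodule.span_induction with
    | mem y hy =>
      obtain ⟨⟨g', i'⟩, -, rfl⟩ := Finset.mem_image.1 hy
      rw [← Module.End.mul_apply, ← map_mul]
      exact Submodule.subset_span (Finset.mem_image.2 ⟨(g * g', i'), Finset.mem_univ _, rfl⟩)
    | zero => simp
    | add y z _ _ hy hz => rw [map_add]; exact add_mem hy hz
    | smul a y _ hy =>
      show ρ g ((a : ℂ) • y) ∈ L
      rw [map_smul]
      exact L.smul_mem a hy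
  have hint : ∀ x ∈ L, ∀ k, b.repr x k ∈ V := by
    intro x hx
    rw [← hsL] at hx
    induction hx using Submodule.span_induction with
    | mem y hy =>
      intro k
      have : b ⟨y, hy⟩ = y := Module.Basis.mk_apply _ _ _
      rw [← this, Module.Basis.repr_self, Finsupp.single_apply]
      split_ifs
      · exact one_mem _
      · exact zero_mem _
    | zero => intro k; simp
    | add y z _ _ hy hz => intro k; simpa using add_mem (hy k) (hz k)
    | smul a y _ hy =>
      intro k
      show b.repr ((a : ℂ) • y) k ∈ V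
      simpa using mul_mem a.2 (hy k)
  rw [LinearMap.toMatrix_apply, Module.Basis.repr_reindex_apply, Module.Basis.reindex_apply]
  refine hint _ (hinv _ ?_) _
  rw [Module.Basis.mk_apply, ← hsL]
  exact Submodule.subset_span (e.symm j).2

/-! ### Regular orbit sums in characteristic `p` -/

theorem card_le_of_orbit_sum_ne_zero {P : Type u} [Group P] [Fintype P] {p : ℕ} [Fact p.Prime]
    (hP : IsPGroup p P) {k : Type*} [Field k] [CharP k p] {ι : Type*} [Fintype ι] [DecidableEq ι]
    (π : P →* Matrix ι ι k) (w : ι → k) (hw : ∑ x : P, π x *ᵥ w ≠ 0) :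
    Fintype.card P ≤ Fintype.card ι := by
  classical
  let f : (P → k) →ₗ[k] (ι → k) :=
    { toFun := fun c => ∑ x : P, c x • (π x *ᵥ w)
      map_add' := fun a b => by simp [add_smul, Finset.sum_add_distrib]
      map_smul' := fun a b => by simp [Finset.smul_sum, smul_smul] }
  suffices Function.Injective f by
    simpa using LinearMap.finrank_le_finrank_of_injective this
  rw [← LinearMap.ker_eq_bot, eq_bot_iff]
  intro c hc
  by_contra hc0
  rw [Submodule.mem_bot] at hc0
  have heq : ∀ (c : P → k) (y : P), f (fun x => c (y⁻¹ * x)) = π y *ᵥ f c := by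
    intro c y
    show ∑ x : P, c (y⁻¹ * x) • (π x *ᵥ w) = π y *ᵥ ∑ x : P, c x • (π x *ᵥ w)
    rw [← Equiv.sum_comp (Equiv.mulLeft y), Matrix.mulVec_sum]
    refine Finset.sum_congr rfl fun x _ => ?_
    simp [Matrix.mulVec_smul, ← Matrix.mulVec_mulVec]
  letI : Algebra (ZMod p) k := ZMod.algebra k p
  let A : Submodule (ZMod p) (P → k) :=
    Submodule.span (ZMod p) (Set.range fun y : P => fun x => c (y⁻¹ * x))
  haveI : Module.Finite (ZMod p) A := Module.Finite.span_of_finite (ZMod p) (Set.finite_range _)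
  haveI : Finite A := Module.finite_of_finite (ZMod p)
  have hAker : ∀ a ∈ A, f a = 0 := by
    intro a ha
    induction ha using Submodule.span_induction with
    | mem a ha =>
      obtain ⟨y, rfl⟩ := ha
      rw [heq, show f c = 0 from hc, Matrix.mulVec_zero]
    | zero => simp
    | add a b _ _ ha hb => rw [map_add, ha, hb, add_zero]
    | smul r a _ ha =>
      rw [show r • a = (algebraMap (ZMod p) k r) • a from funext fun x => Algebra.smul_def r (a x),
        map_smul, ha, smul_zero]
  have hAinv : ∀ (y : P) (a : P → k), a ∈ A → (fun x => a (y⁻¹ * x)) ∈ A := by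
    intro y a ha
    induction ha using Submodule.span_induction with
    | mem a ha =>
      obtain ⟨z, rfl⟩ := ha
      refine Submodule.subset_span ⟨y * z, funext fun x => ?_⟩
      simp [mul_assoc]
    | zero => exact A.zero_mem
    | add a b _ _ ha hb => exact A.add_mem ha hb
    | smul r a _ ha => exact A.smul_mem r ha
  letI : MulAction P A :=
    { smul := fun y a => ⟨fun x => (a : P → k) (y⁻¹ * x), hAinv y a a.2⟩
      one_smul := fun a => Subtype.ext (funext fun x => by
        show (a : P → k) (1⁻¹ * x) = _; simp)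
      mul_smul := fun y z a => Subtype.ext (funext fun x => by
        show (a : P → k) ((y * z)⁻¹ * x) = (a : P → k) (z⁻¹ * (y⁻¹ * x)); simp [mul_assoc]) }
  have hcA : c ∈ A := Submodule.subset_span ⟨1, funext fun x => by simp⟩
  have hnt : Nontrivial A := ⟨⟨⟨c, hcA⟩, 0, fun e => hc0 (congrArg Subtype.val e)⟩⟩
  have hdvd : p ∣ Nat.card A := by
    rw [Module.natCard_eq_pow_finrank (K := ZMod p), Nat.card_zmod]
    exact dvd_pow_self p Module.finrank_pos.ne'
  have h0 : (0 : A) ∈ MulAction.fixedPoints P A := fun y => Subtype.ext rfl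
  obtain ⟨a, ha, hne⟩ := hP.exists_fixed_point_of_prime_dvd_card_of_fixed_point A hdvd h0
  have hconst : ∀ x : P, (a : P → k) x = (a : P → k) 1 := by
    intro x
    have := congrArg (fun z : A => (z : P → k) x) (ha x)
    change (a : P → k) (x⁻¹ * x) = (a : P → k) x at this
    rw [inv_mul_cancel] at this
    exact this.symm
  have h1 : f a = (a : P → k) 1 • ∑ x : P, π x *ᵥ w := by
    show ∑ x : P, (a : P → k) x • (π x *ᵥ w) = _
    rw [Finset.smul_sum]
    exact Finset.sum_congr rfl fun x _ => by rw [hconst x]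
  rw [hAker _ a.2] at h1
  rcases smul_eq_zero.1 h1.symm with h | h
  · exact hne (Subtype.ext (funext fun x => by rw [hconst x, h]; rfl))
  · exact hw h

/-! ### Splitting a sum into regular orbits -/

theorem sum_eq_sum_orbit_reps {P Y M : Type*} [Group P] [Fintype P] [Fintype Y] [AddCommMonoid M]
    [MulAction P Y] (hfree : ∀ (x : P) (y : Y), x • y = y → x = 1) (F : Y → M) :
    ∃ (R : Finset Y), ∑ y : Y, F y = ∑ x : P, ∑ r ∈ R, F (x • r) := by
  classical
  let Q := Quotient (MulAction.orbitRel P Y)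
  have : Fintype Q := Fintype.ofFinite Q
  let φ : P × Q → Y := fun z => z.1 • z.2.out
  have hφ : Function.Bijective φ := by
    constructor
    · rintro ⟨x, q⟩ ⟨x', q'⟩ h
      have hq : q = q' := by
        rw [← q.out_eq, ← q'.out_eq]
        refine Quotient.sound ?_
        show q.out ∈ MulAction.orbit P q'.out
        exact ⟨x⁻¹ * x', by
          show (x⁻¹ * x') • q'.out = q.out
          rw [mul_smul, ← show x • q.out = x' • q'.out from h, inv_smul_smul]⟩
      subst hq
      have h1 : (x'⁻¹ * x) • q.out = q.out := by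
        rw [mul_smul, show x • q.out = x' • q.out from h, inv_smul_smul]
      simp [inv_mul_eq_one.1 (hfree _ _ h1)]
    · intro y
      have : (⟦y⟧ : Q).out ∈ MulAction.orbit P y :=
        MulAction.orbitRel_apply.1 (Quotient.mk_out (s := MulAction.orbitRel P Y) y)
      obtain ⟨x, hx⟩ := this
      exact ⟨⟨x⁻¹, ⟦y⟧⟩, by show x⁻¹ • _ = y; rw [← hx, inv_smul_smul]⟩
  refine ⟨Finset.univ.image fun q : Q => q.out, ?_⟩
  rw [← Fintype.sum_bijective φ hφ (fun z => F (φ z)) F (fun _ => rfl), Fintype.sum_prod_type]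
  refine Finset.sum_congr rfl fun x _ => ?_
  rw [Finset.sum_image fun a _ b _ h => Quotient.out_injective h]

/-! ### The lemma -/

variable {G : Type u} [Group G]

/-- The trivial intersection condition used in the statements. -/
def IsTI {p : ℕ} (P : Sylow p G) : Prop :=
  ∀ g : G, g ∉ Subgroup.normalizer ((P : Subgroup G) : Set G) →
    (P : Subgroup G) ⊓ (MulAut.conj g • (P : Subgroup G)) = ⊥

variable [Finite G] {p : ℕ} [Fact p.Prime]

omit [Finite G] in
theorem mem_sylow_of_mem_normalizer (P : Sylow p G) {x : G} (hx : ∃ k, orderOf x = p ^ k)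
    (hN : x ∈ Subgroup.normalizer ((P : Subgroup G) : Set G)) : x ∈ (P : Subgroup G) := by
  obtain ⟨k, hk⟩ := hx
  have hz : IsPGroup p (Subgroup.zpowers x) := IsPGroup.of_card (by rw [Nat.card_zpowers, hk])
  have hle : Subgroup.zpowers x ≤ Subgroup.normalizer ((P : Subgroup G) : Set G) :=
    Subgroup.zpowers_le.2 hN
  have hsup := P.2.to_sup_of_normal_left' hz hle
  rw [← P.3 hsup le_sup_left]
  exact Subgroup.mem_sup_right (Subgroup.mem_zpowers x)

theorem smul_quotient_fixed (P : Sylow p G) (hTI : IsTI P) (x : (P : Subgroup G))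
    (q : G ⧸ Subgroup.normalizer ((P : Subgroup G) : Set G))
    (h : (x : G) • q = q) (hq : q ≠ ((1 : G) : G ⧸ Subgroup.normalizer ((P : Subgroup G) : Set G))) :
    x = 1 := by
  obtain ⟨g, rfl⟩ := QuotientGroup.mk_surjective q
  rw [MulAction.Quotient.smul_mk, QuotientGroup.eq, smul_eq_mul] at h
  have hg : g ∉ Subgroup.normalizer ((P : Subgroup G) : Set G) := fun hg => hq (by
    rw [QuotientGroup.eq, mul_one]; exact inv_mem hg)
  have h1 : g⁻¹ * (x : G) * g ∈ Subgroup.normalizer ((P : Subgroup G) : Set G) := by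
    have := inv_mem h
    rwa [show (((x : G) * g)⁻¹ * g)⁻¹ = g⁻¹ * x * g by group] at this
  have h2 : g⁻¹ * (x : G) * g ∈ (P : Subgroup G) := by
    refine mem_sylow_of_mem_normalizer P ?_ h1
    obtain ⟨k, hk⟩ := IsPGroup.iff_orderOf.1 P.2 x
    refine ⟨k, ?_⟩
    rw [← hk, show g⁻¹ * (x : G) * g = MulAut.conj g⁻¹ (x : G) by simp [MulAut.conj_apply],
      (MulAut.conj g⁻¹).orderOf_eq, Subgroup.orderOf_coe]
  have h3 : (x : G) ∈ (P : Subgroup G) ⊓ (MulAut.conj g • (P : Subgroup G)) :=
    ⟨x.2, Subgroup.mem_map.2 ⟨_, h2, by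
      show g * (g⁻¹ * (x : G) * g) * g⁻¹ = x
      group⟩⟩
  rw [hTI g hg, Subgroup.mem_bot] at h3
  exact Subtype.ext h3

/-- A nonprincipal irreducible character of degree less than `|P|` has no `N(P)`-fixed vector. -/
theorem no_fixed_vector (P : Sylow p G) (hTI : IsTI P) (χ : Cfsg.IrrCharacter G)
    (hne : χ ≠ trivIrr G) (hdeg : Cfsg.charDegree (χ : G → ℂ) < Nat.card (P : Subgroup G))
    {n : ℕ} (ρ : Representation ℂ G (Fin n → ℂ)) (hi : ρ.IsIrreducible)
    (hρ : ρ.character = (χ : G → ℂ)) (v : Fin n → ℂ)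
    (hv : ∀ a ∈ Subgroup.normalizer ((P : Subgroup G) : Set G), ρ a v = v) : v = 0 := by
  classical
  by_contra hv0
  have := Fintype.ofFinite G
  set N := Subgroup.normalizer ((P : Subgroup G) : Set G) with hN
  have := Fintype.ofFinite (G ⧸ N)
  have := Fintype.ofFinite (P : Subgroup G)
  obtain ⟨V, hpV⟩ := exists_valuationSubring p
  obtain ⟨ι, _, _, b, hcard, hint⟩ := exists_integral_basis V ρ
  obtain ⟨i₀, -, hi₀⟩ := Finset.exists_max_image Finset.univ (fun i => V.valuation (b.repr v i))
    (by
      by_contra hemp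
      rw [Finset.not_nonempty_iff_eq_empty, Finset.univ_eq_empty_iff] at hemp
      exact hv0 (b.repr.injective (Finsupp.ext fun i => hemp.elim i)))
  set c := b.repr v i₀ with hc
  have hc0 : c ≠ 0 := by
    intro h0
    refine hv0 (b.repr.injective (Finsupp.ext fun i => ?_))
    have := hi₀ i (Finset.mem_univ i)
    rw [h0, map_zero] at this
    simpa using V.valuation.zero_iff.1 (le_antisymm this zero_le)
  set u := c⁻¹ • v with hu
  have hu1 : b.repr u i₀ = 1 := by
    rw [hu, map_smul, Finsupp.smul_apply, smul_eq_mul, ← hc, inv_mul_cancel₀ hc0]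
  have huV : ∀ i, b.repr u i ∈ V := fun i => by
    rw [hu, map_smul, Finsupp.smul_apply, smul_eq_mul, ← V.valuation_le_one_iff, map_mul, map_inv₀]
    exact inv_mul_le_one_of_le₀ (hi₀ i (Finset.mem_univ i)) zero_le
  have hun : ∀ a ∈ N, ρ a u = u := fun a ha => by rw [hu, map_smul, hv a ha]
  -- the function on the cosets
  let F : G ⧸ N → (Fin n → ℂ) := fun q => ρ q.out u
  have hF : ∀ g : G, F (g : G ⧸ N) = ρ g u := by
    intro g
    obtain ⟨a, ha⟩ := QuotientGroup.mk_out_eq_mul N g
    show ρ _ u = _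
    rw [ha, map_mul, Module.End.mul_apply, hun a a.2]
  have hFsmul : ∀ (g : G) (q : G ⧸ N), F (g • q) = ρ g (F q) := by
    intro g q
    obtain ⟨a, rfl⟩ := QuotientGroup.mk_surjective q
    rw [MulAction.Quotient.smul_mk, hF, hF, smul_eq_mul, map_mul, Module.End.mul_apply]
  have hsum : ∑ q, F q = 0 := by
    let U : Subrepresentation ρ := ⟨⨅ a : G, LinearMap.ker (ρ a - 1), fun g w hw => by
      have hw' : ∀ a : G, ρ a w = w := fun a => by
        have := (Submodule.mem_iInf _).1 hw a
        simpa [sub_eq_zero] using this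
      rw [hw' g]; exact hw⟩
    have hmem : (∑ q, F q) ∈ U.toSubmodule := by
      have hfix : ∀ a : G, ρ a (∑ q, F q) = ∑ q, F q := fun a => by
        rw [map_sum]
        simp only [← hFsmul]
        exact Equiv.sum_comp (MulAction.toPerm a) F
      exact (Submodule.mem_iInf _).2 fun a => by
        rw [LinearMap.mem_ker, LinearMap.sub_apply, Module.End.one_apply, hfix a, sub_self]
    rcases eq_bot_or_eq_top U with h | h
    · rw [h] at hmem; exact (Submodule.mem_bot ℂ).1 hmem
    · exfalso
      have hall : ∀ a : G, ρ a = 1 := fun a => LinearMap.ext fun w => by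
        have hw : w ∈ U.toSubmodule := by rw [h]; exact Submodule.mem_top
        have := (Submodule.mem_iInf _).1 hw a
        simpa [sub_eq_zero] using this
      have hχ : (χ : G → ℂ) = fun _ => (χ : G → ℂ) 1 := funext fun g => by
        rw [← hρ]; show LinearMap.trace ℂ _ (ρ g) = LinearMap.trace ℂ _ (ρ 1)
        rw [hall g, hall 1]
      have h1 := classInner_irr_ne χ.2 (isIrrCharacter_one (G := G))
        (fun e => hne (Subtype.ext e))
      rw [hχ, Cfsg.classInner] at h1
      simp [irr_one_ne_zero χ] at h1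
  -- split off the base point
  let q₀ : G ⧸ N := ((1 : G) : G ⧸ N)
  have hq₀ : ∀ x : (P : Subgroup G), (x : G) • q₀ = q₀ := fun x => by
    rw [MulAction.Quotient.smul_mk, QuotientGroup.eq, smul_eq_mul, mul_one, mul_one]
    exact inv_mem (Subgroup.le_normalizer x.2)
  let Y := {q : G ⧸ N // q ≠ q₀}
  letI : MulAction (P : Subgroup G) Y :=
    { smul := fun x q => ⟨(x : G) • q.1, fun e => q.2 (by
        have := congrArg (fun z => ((x : G))⁻¹ • z) e
        simp only [inv_smul_smul] at this
        rw [this]; exact hq₀ x⁻¹)⟩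
      one_smul := fun q => Subtype.ext (one_smul G q.1)
      mul_smul := fun x y q => Subtype.ext (mul_smul (x : G) (y : G) q.1) }
  obtain ⟨R, hR⟩ := sum_eq_sum_orbit_reps (P := (P : Subgroup G)) (Y := Y)
    (fun x q h => smul_quotient_fixed P hTI x q.1 (congrArg Subtype.val h) q.2) (fun q => F q.1)
  let w : Fin n → ℂ := ∑ r ∈ R, F r.1
  have hsplit : u + ∑ x : (P : Subgroup G), ρ (x : G) w = 0 := by
    rw [← hsum, ← Fintype.sum_subtype_add_sum_subtype (fun q => q = q₀) F]
    congr 1
    · refine Eq.symm (Eq.trans (Finset.sum_eq_single (a := ⟨q₀, rfl⟩)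
        (fun q _ hq => absurd (Subtype.ext q.2) hq)
        (fun h => absurd (@Finset.mem_univ _ (_) _) h)) ?_)
      show F q₀ = u
      rw [hF 1, map_one]; rfl
    · refine (Eq.trans ?_ hR.symm)
      refine Finset.sum_congr rfl fun x _ => ?_
      rw [map_sum]
      exact Finset.sum_congr rfl fun r _ => (hFsmul (x : G) r.1).symm
  -- pass to coordinates and reduce
  let B : G → Matrix ι ι V := fun g => Matrix.of fun i j => ⟨_, hint g i j⟩
  have hB : ∀ g, (B g).map V.subtype = LinearMap.toMatrix b b (ρ g) := fun g => rfl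
  let q : V →+* IsLocalRing.ResidueField V := IsLocalRing.residue _
  let π : G →* Matrix ι ι (IsLocalRing.ResidueField V) :=
    { toFun := fun g => (B g).map q
      map_one' := by
        have : B 1 = 1 := Matrix.map_injective Subtype.val_injective (by
          show (B 1).map V.subtype = (1 : Matrix ι ι V).map V.subtype
          rw [hB, map_one, LinearMap.toMatrix_one, Matrix.map_one _ (map_zero _) (map_one _)])
        rw [this, Matrix.map_one _ (map_zero _) (map_one _)]
      map_mul' := fun g h => by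
        have : B (g * h) = B g * B h := Matrix.map_injective Subtype.val_injective (by
          show (B (g * h)).map V.subtype = (B g * B h).map V.subtype
          rw [Matrix.map_mul, hB, hB, hB, map_mul, LinearMap.toMatrix_mul])
        rw [this, Matrix.map_mul] }
  have hwV : ∀ i, b.repr w i ∈ V := by
    intro i
    show b.repr (∑ r ∈ R, F r.1) i ∈ V
    rw [map_sum, Finsupp.finsetSum_apply]
    refine sum_mem fun r _ => ?_
    rw [← congrFun (LinearMap.toMatrix_mulVec_repr b b (ρ r.1.out) u) i]
    exact sum_mem fun j _ => mul_mem (hint _ _ _) (huV j)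
  let wV : ι → V := fun i => ⟨_, hwV i⟩
  let uV : ι → V := fun i => ⟨_, huV i⟩
  have hVsum : uV + ∑ x : (P : Subgroup G), B (x : G) *ᵥ wV = 0 := by
    funext i
    apply Subtype.ext
    have h := congrArg (fun z => b.repr z i) hsplit
    simp only [map_add, map_sum, Finsupp.add_apply, Finsupp.finsetSum_apply, map_zero,
      Finsupp.zero_apply] at h
    rw [Pi.add_apply, Finset.sum_apply, Pi.zero_apply, AddMemClass.coe_add,
      AddSubmonoidClass.coe_finsetSum, ZeroMemClass.coe_zero, ← h]
    congr 1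
    refine Finset.sum_congr rfl fun x _ => ?_
    rw [← congrFun (LinearMap.toMatrix_mulVec_repr b b (ρ (x : G)) w) i]
    simp [Matrix.mulVec, dotProduct, B, wV]
  have hchar : CharP (IsLocalRing.ResidueField V) p := by
    refine (CharP.charP_iff_prime_eq_zero Fact.out).2 ?_
    have h1 : ((p : ℕ) : V) ∈ IsLocalRing.maximalIdeal V := by
      rw [ValuationSubring.valuation_lt_one_iff]
      simpa using (V.mem_nonunits_iff).1 hpV
    rw [← map_natCast q]
    exact (IsLocalRing.residue_eq_zero_iff _).2 h1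
  have hne0 : ∑ x : (P : Subgroup G), (π.comp (P : Subgroup G).subtype) x *ᵥ (q ∘ wV) ≠ 0 := by
    intro h0
    have h := congrArg (fun z : ι → V => q (z i₀)) hVsum
    simp only [Pi.add_apply, Finset.sum_apply, map_add, map_sum, Pi.zero_apply, map_zero] at h
    have h2 : ∀ x : (P : Subgroup G), q ((B (x : G) *ᵥ wV) i₀) =
        ((π.comp (P : Subgroup G).subtype) x *ᵥ (q ∘ wV)) i₀ := fun x =>
      RingHom.map_mulVec q (B (x : G)) wV i₀
    simp only [h2] at h
    rw [← Finset.sum_apply, h0, Pi.zero_apply, add_zero] at h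
    have h3 : uV i₀ = 1 := Subtype.ext (by simpa [uV] using hu1)
    rw [h3, map_one] at h
    exact one_ne_zero h
  have hle := card_le_of_orbit_sum_ne_zero P.2 (π.comp (P : Subgroup G).subtype) (q ∘ wV) hne0
  rw [hcard, ← Nat.card_eq_fintype_card] at hle
  have hn : Cfsg.charDegree (χ : G → ℂ) = n := by
    simp [Cfsg.charDegree, ← hρ]
  omega

/-- A nonprincipal irreducible character of degree less than `|P|` is orthogonal to the trivial
character on every subgroup containing `N(P)`. -/
theorem sum_eq_zero (P : Sylow p G) (hTI : IsTI P) (χ : Cfsg.IrrCharacter G) (hne : χ ≠ trivIrr G)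
    (hdeg : Cfsg.charDegree (χ : G → ℂ) < Nat.card (P : Subgroup G))
    (H : Subgroup G) [Fintype H]
    (hH : Subgroup.normalizer ((P : Subgroup G) : Set G) ≤ H) :
    ∑ h : H, (χ : G → ℂ) h = 0 := by
  obtain ⟨n, ρ, hi, hρ⟩ := χ.2
  have hzero : ∑ h : H, ρ (h : G) = 0 := by
    refine LinearMap.ext fun v => ?_
    refine no_fixed_vector P hTI χ hne hdeg ρ hi hρ _ fun a ha => ?_
    rw [LinearMap.sum_apply, map_sum]
    exact Fintype.sum_equiv (Equiv.mulLeft (⟨a, hH ha⟩ : H)) _ _ fun h => by
      simp [map_mul]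
  have h := congrArg (LinearMap.trace ℂ (Fin n → ℂ)) hzero
  rw [map_sum, map_zero] at h
  rw [← hρ]
  exact h

/-- The norm of a small character is the same on every subgroup containing `N(P)`. -/
theorem classInner_eq [Fintype G] (P : Sylow p G) (hTI : IsTI P) (χ : G → ℂ)
    (hχ : Cfsg.IsCharacter G χ) (hdeg : Cfsg.charDegree χ ^ 2 ≤ Nat.card (P : Subgroup G))
    (H : Subgroup G) [Fintype H] (hH : Subgroup.normalizer ((P : Subgroup G) : Set G) ≤ H) :
    Cfsg.classInner χ χ = Cfsg.classInner (fun h : H => χ h) (fun h : H => χ h) := by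
  classical
  by_cases h0 : χ 1 = 0
  · rw [isCharacter_eq_zero_of_apply_one hχ h0]
    simp [Cfsg.classInner]
  set η : G → ℂ := χ * fun g => conj (χ g) with hη
  have hηc : Cfsg.IsCharacter G η := isCharacter_mul hχ (isCharacter_conj hχ)
  obtain ⟨m, hm, hsum⟩ := exists_mult hηc
  have hG : (Nat.card G : ℂ) ≠ 0 := Nat.cast_ne_zero.2 Nat.card_pos.ne'
  have hm1 : Cfsg.classInner χ χ = m (trivIrr G) := by
    rw [← hm, Cfsg.classInner, Cfsg.classInner]
    simp [hη, trivIrr]
  have hpos : 0 < m (trivIrr G) := by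
    refine Nat.pos_of_ne_zero fun e => h0 ?_
    rw [e, Nat.cast_zero] at hm1
    rw [eq_zero_of_classInner_self hm1]; rfl
  have hd : ∑ ψ, m ψ * Cfsg.charDegree (ψ : G → ℂ) = Cfsg.charDegree χ ^ 2 := by
    apply Nat.cast_injective (R := ℂ)
    have h1 := congrFun hsum 1
    simp only [hη, Finset.sum_apply, Pi.smul_apply, Pi.mul_apply, smul_eq_mul,
      apply_one_eq_charDegree hχ, Complex.conj_natCast] at h1
    rw [Nat.cast_pow, pow_two, h1, Nat.cast_sum]
    exact Finset.sum_congr rfl fun ψ _ => by rw [irr_apply_one ψ, Nat.cast_mul]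
  have hz : ∀ ψ : Cfsg.IrrCharacter G, ψ ≠ trivIrr G → m ψ ≠ 0 →
      ∑ h : H, (ψ : G → ℂ) h = 0 := by
    intro ψ hne hmψ
    refine sum_eq_zero P hTI ψ hne ?_ H hH
    have h2 : m (trivIrr G) * Cfsg.charDegree (trivIrr G : G → ℂ) +
        m ψ * Cfsg.charDegree (ψ : G → ℂ) ≤ Cfsg.charDegree χ ^ 2 := by
      rw [← hd, ← Finset.sum_pair (Ne.symm hne) (f := fun ψ => m ψ * Cfsg.charDegree (ψ : G → ℂ))]
      exact Finset.sum_le_sum_of_subset (Finset.subset_univ _)
    have h3 : Cfsg.charDegree (trivIrr G : G → ℂ) = 1 := by simp [Cfsg.charDegree, trivIrr]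
    rw [h3, mul_one] at h2
    have h4 : Cfsg.charDegree (ψ : G → ℂ) ≤ m ψ * Cfsg.charDegree (ψ : G → ℂ) :=
      Nat.le_mul_of_pos_left _ (Nat.pos_of_ne_zero hmψ)
    omega
  have hHc : (Nat.card H : ℂ) ≠ 0 := Nat.cast_ne_zero.2 Nat.card_pos.ne'
  rw [hm1, Cfsg.classInner, eq_inv_mul_iff_mul_eq₀ hHc]
  have h1 : ∑ h : H, χ h * conj (χ h) = ∑ ψ, (m ψ : ℂ) * ∑ h : H, (ψ : G → ℂ) h := by
    simp only [Finset.mul_sum]
    rw [Finset.sum_comm]
    refine Finset.sum_congr rfl fun h _ => ?_
    have := congrFun hsum (h : G)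
    simpa [hη] using this
  rw [h1, Finset.sum_eq_single (trivIrr G)]
  · simp [trivIrr, Nat.card_eq_fintype_card, mul_comm]
  · intro ψ _ hne
    by_cases hmψ : m ψ = 0
    · simp [hmψ]
    · simp [hz ψ hne hmψ]
  · simp

end Cfsg.Agent.TIFixed
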