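import Mathlib
import Cfsg.Prelude.Def_Characters
import Cfsg.Prelude.Def_OddOrderLocal
import Cfsg.Agent.Lib.CharBasicInt
import Cfsg.Agent.Lib.CharInducedClifford
import Cfsg.Agent.Lib.TIFixed

/-!
Characters constant on the non-identity elements of a central subgroup of a trivial-intersection
Sylow subgroup: the value is congruent to the degree modulo the Sylow order.
-/

set_option autoImplicit false
set_option linter.unusedSectionVars false
set_option linter.style.haveILetI false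

namespace Cfsg.Agent.PFConstMod

open Cfsg.Agent.CharBasic Cfsg.Agent.CharBasicOrth Cfsg.Agent.CharBasicDecomp

universe u

variable {G : Type u} [Group G] [Fintype G]

open Classical in
/-- The conjugates of `g`. -/
noncomputable def cls (g : G) : Finset G := Finset.univ.filter (IsConj g)

theorem mem_cls {g x : G} : x ∈ cls g ↔ IsConj g x := by simp [cls]

theorem card_cls (g : G) : (cls g).card = (Subgroup.centralizer ({g} : Set G)).index := by
  classical
  refine Nat.eq_of_mul_eq_mul_right (Nat.card_pos (α := Subgroup.centralizer ({g} : Set G))) ?_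
  rw [Subgroup.index_mul_card, ← card_conj_mul_card_centralizer g]
  congr 1
  rw [cls, ← Fintype.card_subtype, ← Nat.card_eq_fintype_card]

/-- `x` is an algebraic integer multiple of `m`. -/
def AM (m : ℕ) (x : ℂ) : Prop := ∃ α : ℂ, IsIntegral ℤ α ∧ x = (m : ℂ) * α

theorem AM.sub {m : ℕ} {x y : ℂ} (hx : AM m x) (hy : AM m y) : AM m (x - y) := by
  obtain ⟨a, ha, rfl⟩ := hx; obtain ⟨b, hb, rfl⟩ := hy
  exact ⟨a - b, ha.sub hb, by ring⟩

theorem AM.mul {m : ℕ} {x y : ℂ} (hx : AM m x) (hy : IsIntegral ℤ y) : AM m (y * x) := by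
  obtain ⟨a, ha, rfl⟩ := hx
  exact ⟨y * a, hy.mul ha, by ring⟩

theorem AM.dvd {m : ℕ} {k : ℤ} (hm : m ≠ 0) (h : AM m (k : ℂ)) : (m : ℤ) ∣ k := by
  obtain ⟨α, hα, h⟩ := h
  have h1 : α = algebraMap ℚ ℂ ((k : ℚ) / m) := by
    simp only [map_div₀, map_intCast, map_natCast]
    rw [h, mul_div_cancel_left₀ _ (Nat.cast_ne_zero.2 hm)]
  rw [h1, isIntegral_algebraMap_iff (algebraMap ℚ ℂ).injective] at hα
  obtain ⟨j, hj⟩ := IsIntegrallyClosed.isIntegral_iff.1 hα
  refine ⟨j, ?_⟩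
  rw [eq_div_iff (Nat.cast_ne_zero.2 hm)] at hj
  simp only [eq_intCast] at hj
  have : (((m : ℤ) * j : ℤ) : ℚ) = ((k : ℤ) : ℚ) := by push_cast; rw [← hj]; ring
  exact_mod_cast this.symm

/-- The product of two class sums under an irreducible character. -/
theorem sum_mul_cls {ψ : G → ℂ} (hψ : Cfsg.IsIrrCharacter G ψ) (a b : G) :
    ψ 1 * ∑ x ∈ cls a, ∑ y ∈ cls b, ψ (x * y) =
      ((cls a).card : ℂ) * ψ a * (((cls b).card : ℂ) * ψ b) := by
  classical
  obtain ⟨d, ρ, hρ, rfl⟩ := hψ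
  have hcf := isClassFunction_character ρ
  have hsc := CharBasicInt.sum_smul_rep_eq ρ (isClassFunction_indicator (G := G) a)
  simp only [ite_smul, one_smul, zero_smul, ite_mul, one_mul, zero_mul, ← Finset.sum_filter] at hsc
  rw [show (Finset.univ.filter fun x => IsConj a x) = cls a from rfl] at hsc
  set c := (∑ x ∈ cls a, ρ.character x) / (Module.finrank ℂ (Fin d → ℂ) : ℂ) with hc
  have h1 : ∀ y : G, ∑ x ∈ cls a, ρ.character (x * y) = c * ρ.character y := by
    intro y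
    show ∑ x ∈ cls a, LinearMap.trace ℂ _ (ρ (x * y)) = c * LinearMap.trace ℂ _ (ρ y)
    rw [← map_sum, Finset.sum_congr rfl fun x _ => map_mul ρ x y, ← Finset.sum_mul, hsc, smul_mul_assoc,
      map_smul, smul_eq_mul]
    rfl
  have ha : ∑ x ∈ cls a, ρ.character x = (cls a).card * ρ.character a := by
    rw [Finset.sum_congr rfl fun x hx => (apply_eq_of_isConj hcf (mem_cls.1 hx)).symm,
      Finset.sum_const, nsmul_eq_mul]
  have hb : ∑ y ∈ cls b, ρ.character y = (cls b).card * ρ.character b := by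
    rw [Finset.sum_congr rfl fun x hx => (apply_eq_of_isConj hcf (mem_cls.1 hx)).symm,
      Finset.sum_const, nsmul_eq_mul]
  have hn : (Module.finrank ℂ (Fin d → ℂ) : ℂ) ≠ 0 :=
    Nat.cast_ne_zero.2 (finrank_pos_of_irreducible ρ).ne'
  rw [Finset.sum_comm, Finset.sum_congr rfl (fun y _ => h1 y), ← Finset.mul_sum, hb, hc, ha,
    Representation.char_one]
  field_simp

/-- A sum over a finset on which `P` acts freely with invariant summand is a multiple of `|P|`. -/
theorem am_of_free {P : Subgroup G} {Y : Type*} [Fintype Y] [MulAction P Y]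
    (hfree : ∀ (x : P) (y : Y), x • y = y → x = 1) (F : Y → ℂ) (hF : ∀ (x : P) (y : Y), F (x • y) = F y)
    (hint : ∀ y, IsIntegral ℤ (F y)) : AM (Nat.card P) (∑ y, F y) := by
  classical
  haveI := Fintype.ofFinite P
  obtain ⟨R, hR⟩ := TIFixed.sum_eq_sum_orbit_reps hfree F
  refine ⟨∑ r ∈ R, F r, IsIntegral.sum _ fun r _ => hint r, ?_⟩
  rw [hR, Finset.sum_congr rfl fun x _ => Finset.sum_congr rfl fun r _ => hF x r, Finset.sum_const,
    Finset.card_univ, ← Nat.card_eq_fintype_card, nsmul_eq_mul]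

theorem isConj_inv_inv {a b : G} (h : IsConj a b) : IsConj a⁻¹ b⁻¹ := by
  obtain ⟨c, hc⟩ := isConj_iff.1 h
  exact isConj_iff.2 ⟨c, by rw [← hc]; group⟩

theorem const_congr {p : ℕ} [Fact p.Prime] (P : Sylow p G) (hTI : Cfsg.IsTISubset ((P : Subgroup G) : Set G))
    (hodd : Odd (Nat.card (Subgroup.normalizer ((P : Subgroup G) : Set G)))) (Z : Subgroup G) (hZP : Z ≤ P)
    (hZn : ∀ x ∈ Subgroup.normalizer ((P : Subgroup G) : Set G), ∀ z ∈ Z, x * z * x⁻¹ ∈ Z)
    (hZc : ∀ z ∈ Z, ∀ y ∈ (P : Subgroup G), z * y = y * z)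
    (hCL : ∀ z ∈ Z, ∀ z' ∈ Z, z ≠ 1 → z' ≠ 1 →
      Nat.card ↥(Subgroup.normalizer ((P : Subgroup G) : Set G) ⊓ Subgroup.centralizer ({z} : Set G)) =
        Nat.card ↥(Subgroup.normalizer ((P : Subgroup G) : Set G) ⊓ Subgroup.centralizer ({z'} : Set G)))
    (ψ : G → ℂ) (hψ : Cfsg.IsIrrCharacter G ψ) (hconst : ∀ z ∈ Z, ∀ z' ∈ Z, z ≠ 1 → z' ≠ 1 → ψ z = ψ z')
    (z : G) (hz : z ∈ Z) (hz1 : z ≠ 1) :
    ∃ n d : ℤ, ψ z = n ∧ ψ 1 = d ∧ (Nat.card (P : Subgroup G) : ℤ) ∣ d - n := by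
  classical
  set N := Subgroup.normalizer ((P : Subgroup G) : Set G) with hN
  have hcf := CharInduced.isClassFunction_irr hψ
  have hψc := isCharacter_of_isIrrCharacter hψ
  obtain ⟨d, hd⟩ := isCharacter_apply_one hψc
  haveI := Fintype.ofFinite Z
  obtain ⟨k, hk⟩ : ∃ k : ℕ, Cfsg.classInner (fun x : Z => ψ x) (fun _ => 1) = k :=
    CharInduced.coeff_nat (CharInduced.isCharacter_res Z hψc) isIrrCharacter_one
  have hr1 : 1 < Fintype.card Z := Fintype.one_lt_card_iff.2 ⟨⟨z, hz⟩, 1, fun e => hz1 (congrArg Subtype.val e)⟩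
  have hsum : (d : ℂ) + ((Fintype.card Z : ℂ) - 1) * ψ z = (Fintype.card Z : ℂ) * k := by
    have h := card_mul_classInner (fun x : Z => ψ x) (fun _ => (1 : ℂ))
    rw [hk, Nat.card_eq_fintype_card] at h
    simp only [map_one, mul_one] at h
    rw [h, ← Finset.add_sum_erase _ _ (Finset.mem_univ (1 : Z)), Finset.sum_congr rfl (fun x hx => by
      rw [hconst x x.2 z hz (fun e => (Finset.ne_of_mem_erase hx) (Subtype.ext e)) hz1]),
      Finset.sum_const, Finset.card_erase_of_mem (Finset.mem_univ _), Finset.card_univ, nsmul_eq_mul,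
      Subgroup.coe_one, hd, Nat.cast_sub hr1.le, Nat.cast_one]
  obtain ⟨n, hn⟩ : ∃ n : ℤ, ψ z = n := by
    have hrat : ψ z = algebraMap ℚ ℂ (((Fintype.card Z : ℚ) * k - d) / ((Fintype.card Z : ℚ) - 1)) := by
      have hne : (Fintype.card Z : ℂ) - 1 ≠ 0 := by
        rw [sub_ne_zero]; exact_mod_cast hr1.ne'
      simp only [map_div₀, map_sub, map_mul, map_natCast, map_one]
      rw [eq_div_iff hne]
      linear_combination hsum
    have hint := isCharacter_integral hψc z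
    rw [hrat, isIntegral_algebraMap_iff (algebraMap ℚ ℂ).injective] at hint
    obtain ⟨j, hj⟩ := IsIntegrallyClosed.isIntegral_iff.1 hint
    exact ⟨j, by rw [hrat, ← hj]; simp⟩
  refine ⟨n, d, hn, by rw [hd]; simp, ?_⟩
  -- fusion and centralizers
  have hPN : (P : Subgroup G) ≤ N := Subgroup.le_normalizer
  have hmemP : ∀ a : G, (∃ k, orderOf a = p ^ k) → ∀ u ∈ (P : Subgroup G), u ≠ 1 → a * u = u * a →
      a ∈ (P : Subgroup G) := by
    intro a ha u hu hu1 hau
    refine TIFixed.mem_sylow_of_mem_normalizer P ha ?_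
    by_contra hnot
    exact hu1 (hTI a hnot u hu (by rw [hau, mul_inv_cancel_right]; exact hu))
  have hfus : ∀ z' ∈ Z, z' ≠ 1 → ∀ g : G, g * z' * g⁻¹ ∈ (P : Subgroup G) → g ∈ N := by
    intro z' hz' h1 g hg
    by_contra hnot
    exact h1 (hTI g hnot z' (hZP hz') hg)
  have hcen : ∀ z' ∈ Z, z' ≠ 1 → Subgroup.centralizer ({z'} : Set G) ≤ N := by
    intro z' hz' h1 g hg
    rw [Subgroup.mem_centralizer_singleton_iff] at hg
    exact hfus z' hz' h1 g (by rw [hg, mul_inv_cancel_right]; exact hZP hz')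
  have hord : ∀ z' ∈ Z, ∀ g : G, ∃ k, orderOf (g * z' * g⁻¹) = p ^ k := by
    intro z' hz' g
    obtain ⟨k, hk⟩ := IsPGroup.iff_orderOf.1 P.2 ⟨z', hZP hz'⟩
    refine ⟨k, ?_⟩
    rw [← hk, show g * z' * g⁻¹ = MulAut.conj g z' from rfl, (MulAut.conj g).orderOf_eq, Subgroup.orderOf_mk]
  have hz' : z⁻¹ ∈ Z := inv_mem hz
  have hz'1 : z⁻¹ ≠ 1 := by simpa using hz1
  set s := (cls z).card with hs
  have hs' : (cls z⁻¹).card = s := by
    rw [hs, card_cls, card_cls]
    refine congrArg Subgroup.index (Subgroup.ext fun g => ?_)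
    simp only [Subgroup.mem_centralizer_singleton_iff]
    exact ⟨fun h => (Commute.inv_right_iff (a := g) (b := z)).1 h, fun h => Commute.inv_right h⟩
  have hscop : Nat.Coprime (Nat.card (P : Subgroup G)) s := by
    have hle : (P : Subgroup G) ≤ Subgroup.centralizer ({z} : Set G) := fun y hy =>
      Subgroup.mem_centralizer_singleton_iff.2 (hZc z hz y hy).symm
    obtain ⟨a, ha⟩ := P.2.exists_card_eq
    rw [hs, card_cls, ha]
    refine Nat.Coprime.pow_left _ ((Nat.Prime.coprime_iff_not_dvd Fact.out).2 fun h =>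
      P.not_dvd_index (h.trans (Subgroup.index_dvd_of_le hle)))
  have hinv : ¬ IsConj z z⁻¹ := by
    rw [isConj_iff]
    rintro ⟨g, hg⟩
    have hgN : g ∈ N := hfus z hz hz1 g (hg ▸ hZP hz')
    have h2 : Commute (g ^ 2) z := by
      show g ^ 2 * z = z * g ^ 2
      have e : g ^ 2 * z * (g ^ 2)⁻¹ = z := by
        calc g ^ 2 * z * (g ^ 2)⁻¹ = g * (g * z * g⁻¹) * g⁻¹ := by rw [sq]; group
          _ = g * z⁻¹ * g⁻¹ := by rw [hg]
          _ = (g * z * g⁻¹)⁻¹ := by group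
          _ = z := by rw [hg, inv_inv]
      exact mul_inv_eq_iff_eq_mul.1 e
    obtain ⟨m, hm⟩ : Odd (orderOf g) := hodd.of_dvd_nat (Subgroup.orderOf_dvd_natCard N hgN)
    have hgg : g = (g ^ 2) ^ (m + 1) := by
      rw [← pow_mul, show 2 * (m + 1) = orderOf g + 1 by omega, pow_succ, pow_orderOf_eq_one, one_mul]
    have hcz : g * z * g⁻¹ = z := by
      have h3 : Commute g z := hgg.symm ▸ h2.pow_left _
      rw [h3.eq, mul_inv_cancel_right]
    rw [hg] at hcz
    have hz2 : z ^ 2 = 1 := by rw [sq]; nth_rw 1 [← hcz]; rw [inv_mul_cancel]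
    have hodz : Odd (orderOf z) := hodd.of_dvd_nat (Subgroup.orderOf_dvd_natCard N (hPN (hZP hz)))
    rcases (Nat.dvd_prime Nat.prime_two).1 (orderOf_dvd_of_pow_eq_one hz2) with h | h
    · exact hz1 (orderOf_eq_one_iff.1 h)
    · rw [h] at hodz; exact absurd hodz (by decide)
  -- free actions
  have hZPn : ∀ x ∈ (P : Subgroup G), ∀ a : G, x * a * x⁻¹ ∈ Z ↔ a ∈ Z := fun x hx a =>
    ⟨fun h => by
      have := hZn x⁻¹ (hPN (inv_mem hx)) _ h
      simpa [mul_assoc] using this, fun h => hZn x (hPN hx) a h⟩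
  have hfix : ∀ z₀ ∈ Z, z₀ ≠ 1 → ∀ a ∈ cls z₀, ∀ x ∈ (P : Subgroup G), x * a * x⁻¹ = a → x ≠ 1 → a ∈ Z := by
    intro z₀ h0 h01 a ha x hx hxa hx1
    obtain ⟨g, rfl⟩ := isConj_iff.1 (mem_cls.1 ha)
    have hP := hmemP _ (hord z₀ h0 g) x hx hx1 (mul_inv_eq_iff_eq_mul.1 hxa).symm
    exact hZn g (hfus z₀ h0 h01 g hP) z₀ h0
  have hconjcls : ∀ (z₀ a x : G), a ∈ cls z₀ → x * a * x⁻¹ ∈ cls z₀ := fun z₀ a x ha =>
    mem_cls.2 ((mem_cls.1 ha).trans (isConj_iff.2 ⟨x, rfl⟩))
  have ham1 : AM (Nat.card (P : Subgroup G)) ((s : ℂ) - ((cls z).filter (· ∈ Z)).card) := by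
    letI : MulAction (P : Subgroup G) {a : G // a ∈ (cls z).filter (· ∉ Z)} :=
      { smul := fun x a => ⟨(x : G) * a.1 * (x : G)⁻¹, by
          have h := Finset.mem_filter.1 a.2
          exact Finset.mem_filter.2 ⟨hconjcls z _ _ h.1, fun hh => h.2 ((hZPn x x.2 _).1 hh)⟩⟩
        one_smul := fun a => Subtype.ext (by show (1 : G) * a.1 * (1 : G)⁻¹ = a.1; group)
        mul_smul := fun x y a => Subtype.ext (by
          show ((x : G) * y) * a.1 * ((x : G) * y)⁻¹ = x * (y * a.1 * (y : G)⁻¹) * (x : G)⁻¹; group) }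
    have h := am_of_free (P := (P : Subgroup G)) (Y := {a : G // a ∈ (cls z).filter (· ∉ Z)})
      (fun x a h => by
        by_contra hx
        have h' := Finset.mem_filter.1 a.2
        exact h'.2 (hfix z hz hz1 _ h'.1 x x.2 (congrArg Subtype.val h) fun e => hx (Subtype.ext e)))
      (fun _ => 1) (fun _ _ => rfl) (fun _ => isIntegral_one)
    simp only [Finset.sum_const, Finset.card_univ, Fintype.card_coe, nsmul_eq_mul, mul_one] at h
    convert h using 1
    rw [hs, ← Finset.card_filter_add_card_filter_not (s := cls z) (fun a => a ∈ Z)]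
    push_cast; ring
  have hpairs : ∀ z₀ ∈ Z, z₀ ≠ 1 → ∀ F : G → ℂ, Cfsg.IsClassFunction G F → (∀ g, IsIntegral ℤ (F g)) →
      AM (Nat.card (P : Subgroup G)) ((∑ a ∈ cls z, ∑ b ∈ cls z₀, F (a * b)) -
        ∑ w ∈ (cls z ×ˢ cls z₀).filter (fun w => w.1 ∈ Z ∧ w.2 ∈ Z), F (w.1 * w.2)) := by
    intro z₀ h0 h01 F hF hFi
    let T := (cls z ×ˢ cls z₀).filter (fun w => ¬ (w.1 ∈ Z ∧ w.2 ∈ Z))
    letI : MulAction (P : Subgroup G) {w : G × G // w ∈ T} :=
      { smul := fun x w => ⟨((x : G) * w.1.1 * (x : G)⁻¹, (x : G) * w.1.2 * (x : G)⁻¹), by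
          obtain ⟨h, hnot⟩ := Finset.mem_filter.1 w.2
          obtain ⟨h1, h2⟩ := Finset.mem_product.1 h
          exact Finset.mem_filter.2 ⟨Finset.mem_product.2 ⟨hconjcls _ _ _ h1, hconjcls _ _ _ h2⟩,
            fun hh => hnot ⟨(hZPn x x.2 _).1 hh.1, (hZPn x x.2 _).1 hh.2⟩⟩⟩
        one_smul := fun w => Subtype.ext (Prod.ext
          (by show (1 : G) * w.1.1 * (1 : G)⁻¹ = w.1.1; group)
          (by show (1 : G) * w.1.2 * (1 : G)⁻¹ = w.1.2; group))
        mul_smul := fun x y w => Subtype.ext (Prod.ext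
          (by show ((x : G) * y) * w.1.1 * ((x : G) * y)⁻¹ = x * (y * w.1.1 * (y : G)⁻¹) * (x : G)⁻¹; group)
          (by show ((x : G) * y) * w.1.2 * ((x : G) * y)⁻¹ = x * (y * w.1.2 * (y : G)⁻¹) * (x : G)⁻¹; group)) }
    have h := am_of_free (P := (P : Subgroup G)) (Y := {w : G × G // w ∈ T})
      (fun x w h => by
        by_contra hx
        obtain ⟨hh, hnot⟩ := Finset.mem_filter.1 w.2
        obtain ⟨h1, h2⟩ := Finset.mem_product.1 hh
        have e := congrArg Subtype.val h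
        exact hnot ⟨hfix z hz hz1 _ h1 x x.2 (congrArg Prod.fst e) fun e => hx (Subtype.ext e),
          hfix z₀ h0 h01 _ h2 x x.2 (congrArg Prod.snd e) fun e => hx (Subtype.ext e)⟩)
      (fun w => F (w.1.1 * w.1.2)) (fun x w => by
        show F ((x : G) * w.1.1 * (x : G)⁻¹ * ((x : G) * w.1.2 * (x : G)⁻¹)) = _
        rw [show (x : G) * w.1.1 * (x : G)⁻¹ * ((x : G) * w.1.2 * (x : G)⁻¹) =
          (x : G) * (w.1.1 * w.1.2) * (x : G)⁻¹ by group]
        exact hF _ _)
      (fun w => hFi _)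
    rw [Finset.sum_coe_sort T (fun w => F (w.1 * w.2))] at h
    convert h using 1
    rw [← Finset.sum_product', ← Finset.sum_filter_add_sum_filter_not (cls z ×ˢ cls z₀)
      (fun w => w.1 ∈ Z ∧ w.2 ∈ Z)]
    ring
  have hψi : ∀ g, IsIntegral ℤ (ψ g) := fun g => isCharacter_integral hψc g
  have hone : Cfsg.IsClassFunction G (fun _ : G => (1 : ℂ)) := fun _ _ => rfl
  have hd0 : (d : ℂ) ≠ 0 := hd ▸ isIrrCharacter_apply_one_ne_zero hψ
  obtain ⟨ω, hω, hωi⟩ : ∃ ω : ℂ, (d : ℂ) * ω = (s : ℂ) * n ∧ IsIntegral ℤ ω := by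
    obtain ⟨dd, ρ, hρ, hρe⟩ := id hψ
    have h := CharBasicInt.isIntegral_classSum ρ z
    rw [← card_cls, ← hs, show ρ.character z = ψ z by rw [hρe], hn,
      show (Module.finrank ℂ (Fin dd → ℂ) : ℂ) = d by rw [← Representation.char_one ρ, ← hd, hρe]] at h
    exact ⟨_, by rw [mul_comm, div_mul_cancel₀ _ hd0], h⟩
  -- first pair of classes
  have E1 : AM (Nat.card (P : Subgroup G)) ((s : ℂ) * ω * ((n : ℂ) - d)) := by
    set T := (cls z ×ˢ cls z).filter (fun w => w.1 ∈ Z ∧ w.2 ∈ Z) with hT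
    have hA := hpairs z hz hz1 ψ hcf hψi
    have hB := hpairs z hz hz1 _ hone (fun _ => isIntegral_one)
    have hmul := sum_mul_cls hψ z z
    rw [hd, hn, ← hs] at hmul
    have hval : ∑ w ∈ T, ψ (w.1 * w.2) = (T.card : ℂ) * n := by
      rw [Finset.sum_congr rfl fun w hw => ?_, Finset.sum_const, nsmul_eq_mul]
      obtain ⟨h, h1, h2⟩ := Finset.mem_filter.1 hw
      obtain ⟨ha, hb⟩ := Finset.mem_product.1 h
      rw [hconst _ (mul_mem h1 h2) z hz ?_ hz1, hn]
      intro e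
      apply hinv
      have hb' := mem_cls.1 hb
      rw [eq_inv_of_mul_eq_one_right e] at hb'
      exact hb'.trans (isConj_inv_inv (mem_cls.1 ha)).symm
    have hS : (d : ℂ) * ((∑ a ∈ cls z, ∑ b ∈ cls z, ψ (a * b)) - (s : ℂ) * ω * n) = 0 := by
      linear_combination hmul - (s : ℂ) * (n : ℂ) * hω
    rw [mul_eq_zero, or_iff_right hd0, sub_eq_zero] at hS
    rw [hS, hval] at hA
    simp only [Finset.sum_const, nsmul_eq_mul, mul_one, ← hs] at hB
    convert hA.sub (hB.mul (isIntegral_algebraMap (R := ℤ) (x := n))) using 1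
    simp only [algebraMap_int_eq, eq_intCast, ← hT]
    linear_combination -(s : ℂ) * hω
  -- second pair of classes
  have E2 : AM (Nat.card (P : Subgroup G)) ((s : ℂ) * (ω + 1) * ((n : ℂ) - d)) := by
    set T := (cls z ×ˢ cls z⁻¹).filter (fun w => w.1 ∈ Z ∧ w.2 ∈ Z) with hT
    set t := ((cls z).filter (· ∈ Z)).card with ht
    have hA := hpairs z⁻¹ hz' hz'1 ψ hcf hψi
    have hB := hpairs z⁻¹ hz' hz'1 _ hone (fun _ => isIntegral_one)
    have hmul := sum_mul_cls hψ z z⁻¹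
    rw [hd, hconst z⁻¹ hz' z hz hz'1 hz1, hn, hs', ← hs] at hmul
    have hcount : (T.filter fun w => w.1 * w.2 = 1).card = t := by
      refine Finset.card_bij' (fun w _ => w.1) (fun a _ => (a, a⁻¹)) ?_ ?_ ?_ ?_
      · intro w hw
        obtain ⟨⟨h, h1, -⟩, -⟩ := (Finset.mem_filter.1 hw).imp_left Finset.mem_filter.1
        exact Finset.mem_filter.2 ⟨(Finset.mem_product.1 h).1, h1⟩
      · intro a ha
        obtain ⟨h, h1⟩ := Finset.mem_filter.1 ha
        exact Finset.mem_filter.2 ⟨Finset.mem_filter.2 ⟨Finset.mem_product.2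
          ⟨h, mem_cls.2 (isConj_inv_inv (mem_cls.1 h))⟩, h1, inv_mem h1⟩, mul_inv_cancel a⟩
      · intro w hw
        exact Prod.ext rfl (eq_inv_of_mul_eq_one_right (Finset.mem_filter.1 hw).2).symm
      · intro a _; rfl
    have hval : ∑ w ∈ T, ψ (w.1 * w.2) = (t : ℂ) * d + ((T.card : ℂ) - t) * n := by
      rw [← Finset.sum_filter_add_sum_filter_not T (fun w => w.1 * w.2 = 1),
        Finset.sum_congr rfl (s₁ := T.filter fun w => w.1 * w.2 = 1) (fun w hw => by
          rw [(Finset.mem_filter.1 hw).2, hd]),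
        Finset.sum_congr rfl (s₁ := T.filter fun w => ¬ w.1 * w.2 = 1) (fun w hw => by
          obtain ⟨hw', hne⟩ := Finset.mem_filter.1 hw
          obtain ⟨-, h1, h2⟩ := Finset.mem_filter.1 hw'
          rw [hconst _ (mul_mem h1 h2) z hz hne hz1, hn]),
        Finset.sum_const, Finset.sum_const, hcount, nsmul_eq_mul, nsmul_eq_mul]
      rw [← hcount, ← Finset.card_filter_add_card_filter_not (s := T) (fun w => w.1 * w.2 = 1)]
      push_cast; ring
    have hS : (d : ℂ) * ((∑ a ∈ cls z, ∑ b ∈ cls z⁻¹, ψ (a * b)) - (s : ℂ) * ω * n) = 0 := by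
      linear_combination hmul - (s : ℂ) * (n : ℂ) * hω
    rw [mul_eq_zero, or_iff_right hd0, sub_eq_zero] at hS
    rw [hS, hval] at hA
    simp only [Finset.sum_const, nsmul_eq_mul, mul_one, ← hs, hs'] at hB
    convert (hA.sub (hB.mul (isIntegral_algebraMap (R := ℤ) (x := n)))).sub
      (ham1.mul ((isIntegral_algebraMap (R := ℤ) (x := (d : ℤ))).sub (isIntegral_algebraMap (R := ℤ) (x := n)))) using 1
    simp only [algebraMap_int_eq, eq_intCast, Int.cast_natCast, ← hT, ← ht]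
    linear_combination -(s : ℂ) * hω
  have E3 := E2.sub E1
  have hk3 : AM (Nat.card (P : Subgroup G)) (((s : ℤ) * (n - d) : ℤ) : ℂ) := by
    convert E3 using 1
    push_cast; ring
  have h4 := hk3.dvd Nat.card_pos.ne'
  have h5 : IsCoprime (Nat.card (P : Subgroup G) : ℤ) (s : ℤ) := Nat.Coprime.isCoprime hscop
  have := h5.dvd_of_dvd_mul_left h4
  rwa [dvd_sub_comm]

end Cfsg.Agent.PFConstMod
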