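import Mathlib
import Cfsg.Agent.Lib.PFPrimeTIDefs39
import Cfsg.Agent.Lib.PFConstMod43
import Cfsg.Agent.Lib.FittingHallBasic
import Cfsg.Agent.Lib.CharInducedTI

/-!
`close_multiple`: a signed irreducible character of `G`, constant on the non-identity elements of a
central subgroup of the nilpotent kernel of a prime TI configuration, restricts to the kernel close to a
multiple of the regular character.
-/

set_option autoImplicit false
set_option linter.unusedSectionVars false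
set_option linter.style.haveILetI false

open scoped commutatorElement ComplexConjugate

namespace Cfsg.Agent.PFClose19

open Cfsg.Agent.CharBasic Cfsg.Agent.CharBasicOrth Cfsg.Agent.CharBasicDecomp
open Cfsg.Agent.PFConstMod Cfsg.Agent.PFPrimeTI

universe u

variable {G : Type u} [Group G] [Fintype G]

/-- The congruence for a trivial-intersection Hall subgroup. -/
theorem congr_of_ti (H N : Subgroup G) (hHN : H ≤ N) (hodd : Odd (Nat.card N))
    (hfus : ∀ u ∈ H, u ≠ 1 → ∀ g : G, g * u * g⁻¹ ∈ H → g ∈ N)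
    (hmem : ∀ a : G, orderOf a ∣ Nat.card H → ∀ u ∈ H, u ≠ 1 → a * u = u * a → a ∈ H)
    (hHall : (Nat.card H).Coprime H.index) (Z : Subgroup G) (hZP : Z ≤ H)
    (hZn : ∀ x ∈ N, ∀ z ∈ Z, x * z * x⁻¹ ∈ Z) (hZc : ∀ z ∈ Z, ∀ y ∈ H, z * y = y * z)
    (ψ : G → ℂ) (hψ : Cfsg.IsIrrCharacter G ψ)
    (hconst : ∀ z ∈ Z, ∀ z' ∈ Z, z ≠ 1 → z' ≠ 1 → ψ z = ψ z')
    (z : G) (hz : z ∈ Z) (hz1 : z ≠ 1) :
    ∃ n d : ℤ, ψ z = n ∧ ψ 1 = d ∧ (Nat.card H : ℤ) ∣ d - n := by
  classical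
  have hcf := CharInduced.isClassFunction_irr hψ
  have hψc := isCharacter_of_isIrrCharacter hψ
  obtain ⟨d, hd⟩ := isCharacter_apply_one hψc
  haveI := Fintype.ofFinite Z
  obtain ⟨k, hk⟩ : ∃ k : ℕ, Cfsg.classInner (fun x : Z => ψ x) (fun _ => 1) = k :=
    CharInduced.coeff_nat (CharInduced.isCharacter_res Z hψc) isIrrCharacter_one
  have hr1 : 1 < Fintype.card Z := Fintype.one_lt_card_iff.2 ⟨⟨z, hz⟩, 1, fun e => hz1 (congrArg Subtype.val e)⟩
  have hsum : (d : ℂ) + ((Fintype.card Z : ℂ) - 1) * ψ z = (Fintype.card Z : ℂ) * k := by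
    have h := card_mul_classInner (fun x : Z => ψ x) (fun _ => (1 : ℂ))
    rw [hk, Nat.card_eq_fintype_card] at h
    simp only [map_one, mul_one] at h
    rw [h, ← Finset.add_sum_erase _ _ (Finset.mem_univ (1 : Z)), Finset.sum_congr rfl (fun x hx => by
      rw [hconst x x.2 z hz (fun e => (Finset.ne_of_mem_erase hx) (Subtype.ext e)) hz1]),
      Finset.sum_const, Finset.card_erase_of_mem (Finset.mem_univ _), Finset.card_univ, nsmul_eq_mul,
      Subgroup.coe_one, hd, Nat.cast_sub hr1.le, Nat.cast_one]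
  obtain ⟨n, hn⟩ : ∃ n : ℤ, ψ z = n := by
    have hrat : ψ z = algebraMap ℚ ℂ (((Fintype.card Z : ℚ) * k - d) / ((Fintype.card Z : ℚ) - 1)) := by
      have hne : (Fintype.card Z : ℂ) - 1 ≠ 0 := by
        rw [sub_ne_zero]; exact_mod_cast hr1.ne'
      simp only [map_div₀, map_sub, map_mul, map_natCast, map_one]
      rw [eq_div_iff hne]
      linear_combination hsum
    have hint := isCharacter_integral hψc z
    rw [hrat, isIntegral_algebraMap_iff (algebraMap ℚ ℂ).injective] at hint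
    obtain ⟨j, hj⟩ := IsIntegrallyClosed.isIntegral_iff.1 hint
    exact ⟨j, by rw [hrat, ← hj]; simp⟩
  refine ⟨n, d, hn, by rw [hd]; simp, ?_⟩
  -- fusion and centralizers
  have hord : ∀ z' ∈ Z, ∀ g : G, orderOf (g * z' * g⁻¹) ∣ Nat.card H := by
    intro z' hz' g
    rw [show g * z' * g⁻¹ = MulAut.conj g z' from rfl, (MulAut.conj g).orderOf_eq]
    exact Subgroup.orderOf_dvd_natCard H (hZP hz')
  have hz' : z⁻¹ ∈ Z := inv_mem hz
  have hz'1 : z⁻¹ ≠ 1 := by simpa using hz1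
  set s := (cls z).card with hs
  have hs' : (cls z⁻¹).card = s := by
    rw [hs, card_cls, card_cls]
    refine congrArg Subgroup.index (Subgroup.ext fun g => ?_)
    simp only [Subgroup.mem_centralizer_singleton_iff]
    exact ⟨fun h => (Commute.inv_right_iff (a := g) (b := z)).1 h, fun h => Commute.inv_right h⟩
  have hscop : Nat.Coprime (Nat.card H) s := by
    have hle : H ≤ Subgroup.centralizer ({z} : Set G) := fun y hy =>
      Subgroup.mem_centralizer_singleton_iff.2 (hZc z hz y hy).symm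
    rw [hs, card_cls]
    exact hHall.coprime_dvd_right (Subgroup.index_dvd_of_le hle)
  have hinv : ¬ IsConj z z⁻¹ := by
    rw [isConj_iff]
    rintro ⟨g, hg⟩
    have hgN : g ∈ N := hfus z (hZP hz) hz1 g (hg ▸ hZP hz')
    have h2 : Commute (g ^ 2) z := by
      show g ^ 2 * z = z * g ^ 2
      have e : g ^ 2 * z * (g ^ 2)⁻¹ = z := by
        calc g ^ 2 * z * (g ^ 2)⁻¹ = g * (g * z * g⁻¹) * g⁻¹ := by rw [sq]; group
          _ = g * z⁻¹ * g⁻¹ := by rw [hg]
          _ = (g * z * g⁻¹)⁻¹ := by group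
          _ = z := by rw [hg, inv_inv]
      exact mul_inv_eq_iff_eq_mul.1 e
    obtain ⟨m, hm⟩ : Odd (orderOf g) := hodd.of_dvd_nat (Subgroup.orderOf_dvd_natCard N hgN)
    have hgg : g = (g ^ 2) ^ (m + 1) := by
      rw [← pow_mul, show 2 * (m + 1) = orderOf g + 1 by omega, pow_succ, pow_orderOf_eq_one, one_mul]
    have hcz : g * z * g⁻¹ = z := by
      have h3 : Commute g z := hgg.symm ▸ h2.pow_left _
      rw [h3.eq, mul_inv_cancel_right]
    rw [hg] at hcz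
    have hz2 : z ^ 2 = 1 := by rw [sq]; nth_rw 1 [← hcz]; rw [inv_mul_cancel]
    have hodz : Odd (orderOf z) := hodd.of_dvd_nat (Subgroup.orderOf_dvd_natCard N (hHN (hZP hz)))
    rcases (Nat.dvd_prime Nat.prime_two).1 (orderOf_dvd_of_pow_eq_one hz2) with h | h
    · exact hz1 (orderOf_eq_one_iff.1 h)
    · rw [h] at hodz; exact absurd hodz (by decide)
  -- free actions
  have hZPn : ∀ x ∈ H, ∀ a : G, x * a * x⁻¹ ∈ Z ↔ a ∈ Z := fun x hx a =>
    ⟨fun h => by
      have := hZn x⁻¹ (hHN (inv_mem hx)) _ h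
      simpa [mul_assoc] using this, fun h => hZn x (hHN hx) a h⟩
  have hfix : ∀ z₀ ∈ Z, z₀ ≠ 1 → ∀ a ∈ cls z₀, ∀ x ∈ H, x * a * x⁻¹ = a → x ≠ 1 → a ∈ Z := by
    intro z₀ h0 h01 a ha x hx hxa hx1
    obtain ⟨g, rfl⟩ := isConj_iff.1 (mem_cls.1 ha)
    have hP := hmem _ (hord z₀ h0 g) x hx hx1 (mul_inv_eq_iff_eq_mul.1 hxa).symm
    exact hZn g (hfus z₀ (hZP h0) h01 g hP) z₀ h0
  have hconjcls : ∀ (z₀ a x : G), a ∈ cls z₀ → x * a * x⁻¹ ∈ cls z₀ := fun z₀ a x ha =>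
    mem_cls.2 ((mem_cls.1 ha).trans (isConj_iff.2 ⟨x, rfl⟩))
  have ham1 : AM (Nat.card H) ((s : ℂ) - ((cls z).filter (· ∈ Z)).card) := by
    letI : MulAction H {a : G // a ∈ (cls z).filter (· ∉ Z)} :=
      { smul := fun x a => ⟨(x : G) * a.1 * (x : G)⁻¹, by
          have h := Finset.mem_filter.1 a.2
          exact Finset.mem_filter.2 ⟨hconjcls z _ _ h.1, fun hh => h.2 ((hZPn x x.2 _).1 hh)⟩⟩
        one_smul := fun a => Subtype.ext (by show (1 : G) * a.1 * (1 : G)⁻¹ = a.1; group)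
        mul_smul := fun x y a => Subtype.ext (by
          show ((x : G) * y) * a.1 * ((x : G) * y)⁻¹ = x * (y * a.1 * (y : G)⁻¹) * (x : G)⁻¹; group) }
    have h := am_of_free (P := H) (Y := {a : G // a ∈ (cls z).filter (· ∉ Z)})
      (fun x a h => by
        by_contra hx
        have h' := Finset.mem_filter.1 a.2
        exact h'.2 (hfix z hz hz1 _ h'.1 x x.2 (congrArg Subtype.val h) fun e => hx (Subtype.ext e)))
      (fun _ => 1) (fun _ _ => rfl) (fun _ => isIntegral_one)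
    simp only [Finset.sum_const, Finset.card_univ, Fintype.card_coe, nsmul_eq_mul, mul_one] at h
    convert h using 1
    rw [hs, ← Finset.card_filter_add_card_filter_not (s := cls z) (fun a => a ∈ Z)]
    push_cast; ring
  have hpairs : ∀ z₀ ∈ Z, z₀ ≠ 1 → ∀ F : G → ℂ, Cfsg.IsClassFunction G F → (∀ g, IsIntegral ℤ (F g)) →
      AM (Nat.card H) ((∑ a ∈ cls z, ∑ b ∈ cls z₀, F (a * b)) -
        ∑ w ∈ (cls z ×ˢ cls z₀).filter (fun w => w.1 ∈ Z ∧ w.2 ∈ Z), F (w.1 * w.2)) := by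
    intro z₀ h0 h01 F hF hFi
    let T := (cls z ×ˢ cls z₀).filter (fun w => ¬ (w.1 ∈ Z ∧ w.2 ∈ Z))
    letI : MulAction H {w : G × G // w ∈ T} :=
      { smul := fun x w => ⟨((x : G) * w.1.1 * (x : G)⁻¹, (x : G) * w.1.2 * (x : G)⁻¹), by
          obtain ⟨h, hnot⟩ := Finset.mem_filter.1 w.2
          obtain ⟨h1, h2⟩ := Finset.mem_product.1 h
          exact Finset.mem_filter.2 ⟨Finset.mem_product.2 ⟨hconjcls _ _ _ h1, hconjcls _ _ _ h2⟩,
            fun hh => hnot ⟨(hZPn x x.2 _).1 hh.1, (hZPn x x.2 _).1 hh.2⟩⟩⟩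
        one_smul := fun w => Subtype.ext (Prod.ext
          (by show (1 : G) * w.1.1 * (1 : G)⁻¹ = w.1.1; group)
          (by show (1 : G) * w.1.2 * (1 : G)⁻¹ = w.1.2; group))
        mul_smul := fun x y w => Subtype.ext (Prod.ext
          (by show ((x : G) * y) * w.1.1 * ((x : G) * y)⁻¹ = x * (y * w.1.1 * (y : G)⁻¹) * (x : G)⁻¹; group)
          (by show ((x : G) * y) * w.1.2 * ((x : G) * y)⁻¹ = x * (y * w.1.2 * (y : G)⁻¹) * (x : G)⁻¹; group)) }
    have h := am_of_free (P := H) (Y := {w : G × G // w ∈ T})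
      (fun x w h => by
        by_contra hx
        obtain ⟨hh, hnot⟩ := Finset.mem_filter.1 w.2
        obtain ⟨h1, h2⟩ := Finset.mem_product.1 hh
        have e := congrArg Subtype.val h
        exact hnot ⟨hfix z hz hz1 _ h1 x x.2 (congrArg Prod.fst e) fun e => hx (Subtype.ext e),
          hfix z₀ h0 h01 _ h2 x x.2 (congrArg Prod.snd e) fun e => hx (Subtype.ext e)⟩)
      (fun w => F (w.1.1 * w.1.2)) (fun x w => by
        show F ((x : G) * w.1.1 * (x : G)⁻¹ * ((x : G) * w.1.2 * (x : G)⁻¹)) = _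
        rw [show (x : G) * w.1.1 * (x : G)⁻¹ * ((x : G) * w.1.2 * (x : G)⁻¹) =
          (x : G) * (w.1.1 * w.1.2) * (x : G)⁻¹ by group]
        exact hF _ _)
      (fun w => hFi _)
    rw [Finset.sum_coe_sort T (fun w => F (w.1 * w.2))] at h
    convert h using 1
    rw [← Finset.sum_product', ← Finset.sum_filter_add_sum_filter_not (cls z ×ˢ cls z₀)
      (fun w => w.1 ∈ Z ∧ w.2 ∈ Z)]
    ring
  have hψi : ∀ g, IsIntegral ℤ (ψ g) := fun g => isCharacter_integral hψc g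
  have hone : Cfsg.IsClassFunction G (fun _ : G => (1 : ℂ)) := fun _ _ => rfl
  have hd0 : (d : ℂ) ≠ 0 := hd ▸ isIrrCharacter_apply_one_ne_zero hψ
  obtain ⟨ω, hω, hωi⟩ : ∃ ω : ℂ, (d : ℂ) * ω = (s : ℂ) * n ∧ IsIntegral ℤ ω := by
    obtain ⟨dd, ρ, hρ, hρe⟩ := id hψ
    have h := CharBasicInt.isIntegral_classSum ρ z
    rw [← card_cls, ← hs, show ρ.character z = ψ z by rw [hρe], hn,
      show (Module.finrank ℂ (Fin dd → ℂ) : ℂ) = d by rw [← Representation.char_one ρ, ← hd, hρe]] at h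
    exact ⟨_, by rw [mul_comm, div_mul_cancel₀ _ hd0], h⟩
  -- first pair of classes
  have E1 : AM (Nat.card H) ((s : ℂ) * ω * ((n : ℂ) - d)) := by
    set T := (cls z ×ˢ cls z).filter (fun w => w.1 ∈ Z ∧ w.2 ∈ Z) with hT
    have hA := hpairs z hz hz1 ψ hcf hψi
    have hB := hpairs z hz hz1 _ hone (fun _ => isIntegral_one)
    have hmul := sum_mul_cls hψ z z
    rw [hd, hn, ← hs] at hmul
    have hval : ∑ w ∈ T, ψ (w.1 * w.2) = (T.card : ℂ) * n := by
      rw [Finset.sum_congr rfl fun w hw => ?_, Finset.sum_const, nsmul_eq_mul]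
      obtain ⟨h, h1, h2⟩ := Finset.mem_filter.1 hw
      obtain ⟨ha, hb⟩ := Finset.mem_product.1 h
      rw [hconst _ (mul_mem h1 h2) z hz ?_ hz1, hn]
      intro e
      apply hinv
      have hb' := mem_cls.1 hb
      rw [eq_inv_of_mul_eq_one_right e] at hb'
      exact hb'.trans (isConj_inv_inv (mem_cls.1 ha)).symm
    have hS : (d : ℂ) * ((∑ a ∈ cls z, ∑ b ∈ cls z, ψ (a * b)) - (s : ℂ) * ω * n) = 0 := by
      linear_combination hmul - (s : ℂ) * (n : ℂ) * hω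
    rw [mul_eq_zero, or_iff_right hd0, sub_eq_zero] at hS
    rw [hS, hval] at hA
    simp only [Finset.sum_const, nsmul_eq_mul, mul_one, ← hs] at hB
    convert hA.sub (hB.mul (isIntegral_algebraMap (R := ℤ) (x := n))) using 1
    simp only [algebraMap_int_eq, eq_intCast, ← hT]
    linear_combination -(s : ℂ) * hω
  -- second pair of classes
  have E2 : AM (Nat.card H) ((s : ℂ) * (ω + 1) * ((n : ℂ) - d)) := by
    set T := (cls z ×ˢ cls z⁻¹).filter (fun w => w.1 ∈ Z ∧ w.2 ∈ Z) with hT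
    set t := ((cls z).filter (· ∈ Z)).card with ht
    have hA := hpairs z⁻¹ hz' hz'1 ψ hcf hψi
    have hB := hpairs z⁻¹ hz' hz'1 _ hone (fun _ => isIntegral_one)
    have hmul := sum_mul_cls hψ z z⁻¹
    rw [hd, hconst z⁻¹ hz' z hz hz'1 hz1, hn, hs', ← hs] at hmul
    have hcount : (T.filter fun w => w.1 * w.2 = 1).card = t := by
      refine Finset.card_bij' (fun w _ => w.1) (fun a _ => (a, a⁻¹)) ?_ ?_ ?_ ?_
      · intro w hw
        obtain ⟨⟨h, h1, -⟩, -⟩ := (Finset.mem_filter.1 hw).imp_left Finset.mem_filter.1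
        exact Finset.mem_filter.2 ⟨(Finset.mem_product.1 h).1, h1⟩
      · intro a ha
        obtain ⟨h, h1⟩ := Finset.mem_filter.1 ha
        exact Finset.mem_filter.2 ⟨Finset.mem_filter.2 ⟨Finset.mem_product.2
          ⟨h, mem_cls.2 (isConj_inv_inv (mem_cls.1 h))⟩, h1, inv_mem h1⟩, mul_inv_cancel a⟩
      · intro w hw
        exact Prod.ext rfl (eq_inv_of_mul_eq_one_right (Finset.mem_filter.1 hw).2).symm
      · intro a _; rfl
    have hval : ∑ w ∈ T, ψ (w.1 * w.2) = (t : ℂ) * d + ((T.card : ℂ) - t) * n := by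
      rw [← Finset.sum_filter_add_sum_filter_not T (fun w => w.1 * w.2 = 1),
        Finset.sum_congr rfl (s₁ := T.filter fun w => w.1 * w.2 = 1) (fun w hw => by
          rw [(Finset.mem_filter.1 hw).2, hd]),
        Finset.sum_congr rfl (s₁ := T.filter fun w => ¬ w.1 * w.2 = 1) (fun w hw => by
          obtain ⟨hw', hne⟩ := Finset.mem_filter.1 hw
          obtain ⟨-, h1, h2⟩ := Finset.mem_filter.1 hw'
          rw [hconst _ (mul_mem h1 h2) z hz hne hz1, hn]),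
        Finset.sum_const, Finset.sum_const, hcount, nsmul_eq_mul, nsmul_eq_mul]
      rw [← hcount, ← Finset.card_filter_add_card_filter_not (s := T) (fun w => w.1 * w.2 = 1)]
      push_cast; ring
    have hS : (d : ℂ) * ((∑ a ∈ cls z, ∑ b ∈ cls z⁻¹, ψ (a * b)) - (s : ℂ) * ω * n) = 0 := by
      linear_combination hmul - (s : ℂ) * (n : ℂ) * hω
    rw [mul_eq_zero, or_iff_right hd0, sub_eq_zero] at hS
    rw [hS, hval] at hA
    simp only [Finset.sum_const, nsmul_eq_mul, mul_one, ← hs, hs'] at hB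
    convert (hA.sub (hB.mul (isIntegral_algebraMap (R := ℤ) (x := n)))).sub
      (ham1.mul ((isIntegral_algebraMap (R := ℤ) (x := (d : ℤ))).sub (isIntegral_algebraMap (R := ℤ) (x := n)))) using 1
    simp only [algebraMap_int_eq, eq_intCast, Int.cast_natCast, ← hT, ← ht]
    linear_combination -(s : ℂ) * hω
  have E3 := E2.sub E1
  have hk3 : AM (Nat.card H) (((s : ℤ) * (n - d) : ℤ) : ℂ) := by
    convert E3 using 1
    push_cast; ring
  have h4 := hk3.dvd Nat.card_pos.ne'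
  have h5 : IsCoprime (Nat.card H : ℤ) (s : ℤ) := Nat.Coprime.isCoprime hscop
  have := h5.dvd_of_dvd_mul_left h4
  rwa [dvd_sub_comm]

/-- Bessel's inequality, complex coefficients. -/
theorem bessel {X : Type*} [Group X] [Fintype X] (T : Finset (X → ℂ))
    (hT : ∀ θ ∈ T, Cfsg.IsIrrCharacter X θ) (φ : X → ℂ) :
    ∑ θ ∈ T, Complex.normSq (Cfsg.classInner φ θ) ≤ (Cfsg.classInner φ φ).re := by
  classical
  set a : (X → ℂ) → ℂ := fun θ => Cfsg.classInner φ θ with ha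
  set S : X → ℂ := ∑ θ ∈ T, a θ • θ with hS
  have h1 : Cfsg.classInner φ S = ((∑ θ ∈ T, Complex.normSq (a θ) : ℝ) : ℂ) := by
    rw [hS, classInner_sum_right, Complex.ofReal_sum]
    exact Finset.sum_congr rfl fun θ _ => by rw [classInner_smul_right, Complex.normSq_eq_conj_mul_self]
  have h2 : Cfsg.classInner S φ = ((∑ θ ∈ T, Complex.normSq (a θ) : ℝ) : ℂ) := by
    rw [← conj_classInner, h1, Complex.conj_ofReal]
  have h3 : Cfsg.classInner S S = ((∑ θ ∈ T, Complex.normSq (a θ) : ℝ) : ℂ) := by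
    rw [hS, classInner_sum_left, Complex.ofReal_sum]
    refine Finset.sum_congr rfl fun θ hθ => ?_
    rw [classInner_smul_left, classInner_sum_right, Finset.sum_congr rfl fun η hη => by
      rw [classInner_smul_right, classInner_irr θ η (hT θ hθ) (hT η hη)]]
    simp [hθ, Complex.mul_conj]
  have h0 : 0 ≤ (Cfsg.classInner (φ - S) (φ - S)).re := by
    rw [classInner_self_re]; positivity
  rw [classInner_sub_left, classInner_sub_right, classInner_sub_right, h1, h2, h3] at h0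
  simp only [Complex.sub_re, Complex.ofReal_re] at h0
  show ∑ θ ∈ T, Complex.normSq (a θ) ≤ _
  linarith

section

variable {M W₁ W₂ : Subgroup G}

theorem le_M (hS : Setup M W₁ W₂) : (⁅M, M⁆ : Subgroup G) ≤ M := hS.compl.1

theorem card_ker (hS : Setup M W₁ W₂) : Nat.card ↥(ker M) = Nat.card ↥(⁅M, M⁆ : Subgroup G) :=
  Nat.card_congr (Subgroup.subgroupOfEquivOfLe (le_M hS)).toEquiv

theorem index_ker (hS : Setup M W₁ W₂) : (ker M).index = Nat.card W₁ :=
  FittingHallBasic.card_compl_eq_relIndex hS.compl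

theorem card_M (hS : Setup M W₁ W₂) :
    Nat.card M = Nat.card ↥(⁅M, M⁆ : Subgroup G) * Nat.card W₁ := by
  rw [← card_ker hS, ← index_ker hS, Subgroup.card_mul_index]

theorem coprime_card (hS : Setup M W₁ W₂) :
    (Nat.card ↥(⁅M, M⁆ : Subgroup G)).Coprime (Nat.card W₁) := by
  have h1 := hS.hall
  have h2 : W₁.relIndex M * Nat.card W₁ = Nat.card M := by
    rw [← Nat.card_congr (Subgroup.subgroupOfEquivOfLe hS.compl.2.1).toEquiv]
    exact (W₁.subgroupOf M).index_mul_card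
  rw [card_M hS] at h2
  rw [Nat.eq_of_mul_eq_mul_right Nat.card_pos h2] at h1
  exact h1.symm

theorem mem_derived_of_coprime (hS : Setup M W₁ W₂) {a : G} (ha : a ∈ M)
    (hc : (orderOf a).Coprime (Nat.card W₁)) : a ∈ (⁅M, M⁆ : Subgroup G) := by
  have h : (⟨a, ha⟩ : M) ^ (ker M).index ∈ ker M := (ker M).pow_index_mem _
  rw [index_ker hS, ker, Subgroup.mem_subgroupOf, SubmonoidClass.coe_pow] at h
  obtain ⟨m, hm⟩ := exists_pow_eq_self_of_coprime hc.symm
  rw [← hm]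
  exact pow_mem h m

theorem mem_M_of_ti (hS : Setup M W₁ W₂) {u g : G} (hu : u ∈ (⁅M, M⁆ : Subgroup G)) (hu1 : u ≠ 1)
    (hg : g * u * g⁻¹ ∈ (⁅M, M⁆ : Subgroup G)) : g ∈ M :=
  hS.ti u (Or.inl ⟨hu, hu1⟩) g (Or.inl ⟨hg, by simpa using hu1⟩)

theorem mem_M_of_commute (hS : Setup M W₁ W₂) {u a : G} (hu : u ∈ (⁅M, M⁆ : Subgroup G)) (hu1 : u ≠ 1)
    (h : a * u = u * a) : a ∈ M :=
  mem_M_of_ti hS hu hu1 (by rw [h, mul_inv_cancel_right]; exact hu)

/-- `M'` is a Hall subgroup of `G`. -/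
theorem hall_derived (hS : Setup M W₁ W₂) :
    (Nat.card ↥(⁅M, M⁆ : Subgroup G)).Coprime (⁅M, M⁆ : Subgroup G).index := by
  set H : Subgroup G := ⁅M, M⁆
  refine Nat.coprime_of_dvd fun r hr hrH hri => ?_
  haveI := Fact.mk hr
  have hrW : ¬ r ∣ Nat.card W₁ := fun h =>
    hr.ne_one (Nat.eq_one_of_dvd_coprimes (coprime_card hS) hrH h)
  rw [← Subgroup.relIndex_mul_index (le_M hS)] at hri
  rcases hr.dvd_mul.1 hri with h | h
  · rw [FittingHallBasic.card_compl_eq_relIndex hS.compl] at h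
    exact hrW h
  obtain ⟨P₀⟩ : Nonempty (Sylow r ↥M) := inferInstance
  set Q : Subgroup G := (P₀ : Subgroup ↥M).map M.subtype with hQ
  obtain ⟨P, hP⟩ := (P₀.2.map M.subtype).exists_le_sylow
  rw [← hQ] at hP
  have hQH : Q ≤ H := by
    rintro _ ⟨⟨a, ha⟩, haP, rfl⟩
    refine mem_derived_of_coprime hS ha ?_
    obtain ⟨k, hk⟩ := (IsPGroup.iff_orderOf.1 P₀.2) ⟨⟨a, ha⟩, haP⟩
    rw [Subgroup.orderOf_mk, Subgroup.orderOf_mk] at hk
    rw [show M.subtype ⟨a, ha⟩ = a from rfl] at *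
    rw [hk]
    exact Nat.Coprime.pow_left _ ((Nat.Prime.coprime_iff_not_dvd hr).2 hrW)
  have hQ1 : Q ≠ ⊥ := by
    rw [hQ, Ne, Subgroup.map_eq_bot_iff_of_injective _ M.subtype_injective]
    exact P₀.ne_bot_of_dvd_card (hrH.trans (Subgroup.card_dvd_of_le (le_M hS)))
  have hPM : ((P : Subgroup G) ⊓ M) ≤ Q := by
    have h1 : IsPGroup r ↥(((P : Subgroup G) ⊓ M).subgroupOf M) :=
      (P.2.to_le inf_le_left).of_equiv (Subgroup.subgroupOfEquivOfLe inf_le_right).symm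
    have h2 : (P₀ : Subgroup ↥M) ≤ ((P : Subgroup G) ⊓ M).subgroupOf M := fun x hx =>
      ⟨hP (Subgroup.mem_map_of_mem _ hx), x.2⟩
    intro x hx
    have h3 : (⟨x, hx.2⟩ : M) ∈ ((P : Subgroup G) ⊓ M).subgroupOf M := hx
    rw [P₀.3 h1 h2] at h3
    exact ⟨_, h3, rfl⟩
  have heq : Q.subgroupOf (P : Subgroup G) = ⊤ := by
    by_contra hne
    haveI := P.2.isNilpotent
    have hlt := normalizerCondition_of_isNilpotent (G := (P : Subgroup G)) _ (lt_top_iff_ne_top.2 hne)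
    obtain ⟨g, hg, hgn⟩ := SetLike.exists_of_lt hlt
    obtain ⟨x, hxQ, hx1⟩ := Q.bot_or_exists_ne_one.resolve_left hQ1
    have h1 := (Subgroup.mem_normalizer_iff.1 hg ⟨x, hP hxQ⟩).1 (Subgroup.mem_subgroupOf.2 hxQ)
    rw [Subgroup.mem_subgroupOf] at h1
    have hgM : (g : G) ∈ M := mem_M_of_ti hS (hQH hxQ) hx1 (hQH h1)
    exact hgn (Subgroup.mem_subgroupOf.2 (hPM ⟨g.2, hgM⟩))
  rw [Subgroup.subgroupOf_eq_top] at heq
  exact P.not_dvd_index (h.trans (Subgroup.index_dvd_of_le (heq.trans (hQH.trans (le_M hS)))))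

theorem mem_derived_of_dvd (hS : Setup M W₁ W₂) (a : G)
    (ha : orderOf a ∣ Nat.card ↥(⁅M, M⁆ : Subgroup G)) (u : G) (hu : u ∈ (⁅M, M⁆ : Subgroup G))
    (hu1 : u ≠ 1) (h : a * u = u * a) : a ∈ (⁅M, M⁆ : Subgroup G) :=
  mem_derived_of_coprime hS (mem_M_of_commute hS hu hu1 h) ((coprime_card hS).coprime_dvd_left ha)

/-- The squares of a class function on `M' - 1` against those on `G`. -/
theorem sum_lt (hS : Setup M W₁ W₂) {ψ : G → ℂ} (hcf : Cfsg.IsClassFunction G ψ)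
    (hnorm : Cfsg.classInner ψ ψ = 1) (h1 : ψ 1 ≠ 0) (S : Finset G)
    (hSs : ∀ u ∈ S, u ∈ (⁅M, M⁆ : Subgroup G) ∧ u ≠ 1) :
    ∑ u ∈ S, ‖ψ u‖ ^ 2 < (Nat.card M : ℝ) := by
  classical
  have htot : ∑ g : G, ‖ψ g‖ ^ 2 = (Nat.card G : ℝ) := by
    have h := classInner_self_re ψ
    rw [hnorm, Complex.one_re, eq_comm, inv_mul_eq_iff_eq_mul₀ (Nat.cast_ne_zero.2 Nat.card_pos.ne'),
      mul_one] at h
    exact h
  have hpush : (Nat.card G : ℝ) * ∑ u ∈ S, ‖ψ u‖ ^ 2 ≤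
      (Nat.card M : ℝ) * ∑ y ∈ Finset.univ.erase (1 : G), ‖ψ y‖ ^ 2 := by
    have h2 : (Nat.card G : ℝ) * ∑ u ∈ S, ‖ψ u‖ ^ 2 =
        ∑ w ∈ (Finset.univ : Finset G) ×ˢ S, ‖ψ (w.1 * w.2 * w.1⁻¹)‖ ^ 2 := by
      rw [Finset.sum_product]
      simp only [hcf _ _]
      rw [Finset.sum_const, Finset.card_univ, nsmul_eq_mul, Nat.card_eq_fintype_card]
    rw [h2, Finset.mul_sum, ← Finset.sum_fiberwise_of_maps_to (g := fun w : G × G => w.1 * w.2 * w.1⁻¹)
      (t := Finset.univ.erase (1 : G)) (fun w hw => Finset.mem_erase.2 ⟨by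
        simpa using (hSs _ (Finset.mem_product.1 hw).2).2, Finset.mem_univ _⟩)]
    refine Finset.sum_le_sum fun y hy => ?_
    rw [Finset.sum_congr rfl fun w hw => by rw [(Finset.mem_filter.1 hw).2], Finset.sum_const, nsmul_eq_mul]
    refine mul_le_mul_of_nonneg_right ?_ (by positivity)
    norm_cast
    rcases Finset.eq_empty_or_nonempty
      (((Finset.univ : Finset G) ×ˢ S).filter fun w => w.1 * w.2 * w.1⁻¹ = y) with he | ⟨w₀, hw₀⟩
    · rw [he]; simp
    have hM : Nat.card M = (Finset.univ.filter fun m : G => m ∈ M).card := by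
      rw [← Fintype.card_subtype, ← Nat.card_eq_fintype_card]
    rw [hM]
    refine Finset.card_le_card_of_injOn (fun w => w₀.1⁻¹ * w.1) (fun w hw => ?_) (fun w hw w' hw' e => ?_)
    · obtain ⟨hw1, hw2⟩ := Finset.mem_filter.1 hw
      obtain ⟨h01, h02⟩ := Finset.mem_filter.1 hw₀
      refine Finset.mem_coe.2 (Finset.mem_filter.2 ⟨Finset.mem_univ _, ?_⟩)
      obtain ⟨hwH, hw1'⟩ := hSs _ (Finset.mem_product.1 hw1).2
      refine mem_M_of_ti hS hwH hw1' ?_
      convert (hSs _ (Finset.mem_product.1 h01).2).1 using 1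
      calc w₀.1⁻¹ * w.1 * w.2 * (w₀.1⁻¹ * w.1)⁻¹ = w₀.1⁻¹ * (w.1 * w.2 * w.1⁻¹) * w₀.1 := by group
        _ = w₀.1⁻¹ * (w₀.1 * w₀.2 * w₀.1⁻¹) * w₀.1 := by rw [hw2, h02]
        _ = w₀.2 := by group
    · have e1 : w.1 = w'.1 := mul_left_cancel e
      have h3 := (Finset.mem_filter.1 hw).2.trans (Finset.mem_filter.1 hw').2.symm
      rw [e1] at h3
      exact Prod.ext e1 (mul_left_cancel (mul_right_cancel h3))
  rw [← Finset.add_sum_erase _ _ (Finset.mem_univ (1 : G))] at htot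
  have hpos : 0 < ‖ψ 1‖ ^ 2 := by positivity
  have hG : (0 : ℝ) < Nat.card G := Nat.cast_pos.2 Nat.card_pos
  have hMp : (0 : ℝ) < Nat.card M := Nat.cast_pos.2 Nat.card_pos
  nlinarith

theorem close_multiple [Fintype ↥(ker M)] (hS : Setup M W₁ W₂) (_hnil : Group.IsNilpotent ↥(ker M))
    (Z : Subgroup ↥M) [Z.Normal] (hZ1 : Z ≠ ⊥) (hZK : Z ≤ ker M)
    (hZc : ∀ z ∈ Z, ∀ k ∈ ker M, z * k = k * z) (psi : G → ℂ)
    (gen : Cfsg.IsGeneralizedCharacter G psi) (norm : Cfsg.classInner psi psi = 1)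
    (hconst : ∀ z ∈ Z, ∀ z' ∈ Z, z ≠ 1 → z' ≠ 1 → psi (z : G) = psi (z' : G)) :
    ∃ c : ℤ, ∀ T : Finset (↥(ker M) → ℂ), (∀ th ∈ T, Cfsg.IsIrrCharacter ↥(ker M) th) →
      2 * ∑ th ∈ T, Complex.normSq
        (Cfsg.classInner (fun x : ↥(ker M) => psi ((x : ↥M) : G)) th - (c : ℂ) * th 1) <
        3 * (Nat.card W₁ : ℝ) := by
  classical
  set H : Subgroup G := ⁅M, M⁆ with hH
  obtain ⟨χ, hχ, hs⟩ := eq_or_neg_irr_of_norm_one gen norm
  obtain ⟨z, hz, hz1⟩ := Z.bot_or_exists_ne_one.resolve_left hZ1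
  have hzG : (z : G) ≠ 1 := fun e => hz1 (Subtype.ext e)
  obtain ⟨n, d, hn, hd, hdvd⟩ : ∃ n d : ℤ, psi (z : G) = n ∧ psi 1 = d ∧ (Nat.card H : ℤ) ∣ d - n := by
    have hodd : Odd (Nat.card M) := hS.hodd.of_dvd_nat M.card_subgroup_dvd_card
    have hcong := congr_of_ti H M (le_M hS) hodd (fun u hu hu1 g hg => mem_M_of_ti hS hu hu1 hg)
      (mem_derived_of_dvd hS) (hall_derived hS) (Z.map M.subtype)
      (by rintro _ ⟨a, ha, rfl⟩; exact hZK ha)
      (by rintro x hx _ ⟨a, ha, rfl⟩; exact ⟨_, (inferInstance : Z.Normal).conj_mem a ha ⟨x, hx⟩, rfl⟩)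
      (by
        rintro _ ⟨a, ha, rfl⟩ y hy
        exact congrArg Subtype.val (hZc a ha ⟨y, le_M hS hy⟩ hy))
      χ hχ
      (by
        rintro _ ⟨a, ha, rfl⟩ _ ⟨b, hb, rfl⟩ h1 h2
        have := hconst a ha b hb (fun e => h1 (by rw [e, map_one])) (fun e => h2 (by rw [e, map_one]))
        rcases hs with rfl | rfl
        · exact this
        · simpa using this)
      z ⟨z, hz, rfl⟩ hzG
    obtain ⟨n, d, hn, hd, hdvd⟩ := hcong
    rcases hs with rfl | rfl
    · exact ⟨n, d, hn, hd, hdvd⟩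
    · exact ⟨-n, -d, by simp [hn], by simp [hd], by rw [neg_sub_neg, ← neg_sub]; exact hdvd.neg_right⟩
  obtain ⟨c, hc⟩ := hdvd
  refine ⟨c, fun T hT => ?_⟩
  have hcard : (Nat.card ↥(ker M) : ℂ) = (Nat.card H : ℂ) := by rw [card_ker hS]
  set φ : ↥(ker M) → ℂ := fun x => psi ((x : ↥M) : G) - if x = 1 then (c : ℂ) * Nat.card ↥(ker M) else 0
    with hφ
  have hinner : ∀ θ ∈ T, Cfsg.classInner φ θ =
      Cfsg.classInner (fun x : ↥(ker M) => psi ((x : ↥M) : G)) θ - (c : ℂ) * θ 1 := by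
    intro θ hθ
    obtain ⟨m, -, hm⟩ := isIrrCharacter_apply_one (hT θ hθ)
    rw [show φ = (fun x : ↥(ker M) => psi ((x : ↥M) : G)) -
      (fun x : ↥(ker M) => if x = 1 then (c : ℂ) * Nat.card ↥(ker M) else 0) from rfl, classInner_sub_left]
    congr 1
    simp only [Cfsg.classInner, ite_mul, zero_mul, Finset.sum_ite_eq', Finset.mem_univ, if_true, hm, map_natCast]
    have hne : (Nat.card ↥(ker M) : ℂ) ≠ 0 := Nat.cast_ne_zero.2 Nat.card_pos.ne'
    field_simp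
  have hb := bessel T hT φ
  rw [Finset.sum_congr rfl fun θ hθ => by rw [hinner θ hθ]] at hb
  -- the norm of `φ`
  set S : Finset G := ((Finset.univ : Finset ↥(ker M)).erase 1).image fun x : ↥(ker M) => ((x : ↥M) : G) with hSdef
  have hinj : Function.Injective (fun x : ↥(ker M) => ((x : ↥M) : G)) := fun a b e =>
    Subtype.ext (Subtype.ext e)
  have hSH : ∀ u ∈ S, u ∈ H ∧ u ≠ 1 := by
    intro u hu
    obtain ⟨x, hx, rfl⟩ := Finset.mem_image.1 hu
    exact ⟨x.2, fun e => (Finset.ne_of_mem_erase hx) (hinj e)⟩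
  have hψ1 : psi 1 ≠ 0 := by
    have := isIrrCharacter_apply_one_ne_zero hχ
    rcases hs with rfl | rfl
    · exact this
    · simpa using this
  have hlt := sum_lt hS (isClassFunction_of_isGeneralizedCharacter gen) norm hψ1 S hSH
  have hφ1 : φ 1 = (n : ℂ) := by
    show psi ((((1 : ↥(ker M)) : ↥M)) : G) - (if (1 : ↥(ker M)) = 1 then _ else _) = _
    rw [if_pos rfl, show (((1 : ↥(ker M)) : ↥M) : G) = 1 from rfl, hd, hcard]
    have e : (((d - n : ℤ)) : ℂ) = (((Nat.card H : ℤ) * c : ℤ) : ℂ) := by rw [hc]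
    push_cast at e
    linear_combination e
  have hsum : ∑ x : ↥(ker M), ‖φ x‖ ^ 2 = (n : ℝ) ^ 2 + ∑ u ∈ S, ‖psi u‖ ^ 2 := by
    rw [← Finset.add_sum_erase _ _ (Finset.mem_univ (1 : ↥(ker M))), hφ1, Complex.norm_intCast, sq_abs,
      hSdef, Finset.sum_image fun a _ b _ e => hinj e]
    refine congrArg _ (Finset.sum_congr rfl fun x hx => ?_)
    show ‖psi ((x : ↥M) : G) - _‖ ^ 2 = _
    rw [if_neg (Finset.ne_of_mem_erase hx), sub_zero]
  have hn2 : 2 * (n : ℝ) ^ 2 ≤ ∑ u ∈ S, ‖psi u‖ ^ 2 := by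
    obtain ⟨x, hx, hx1, hxz⟩ : ∃ x : ↥M, x ∈ Z ∧ x ≠ 1 ∧ x ≠ z := by
      refine ⟨z ^ 2, pow_mem hz 2, fun e => ?_, fun e => hz1 (by rwa [sq, mul_eq_left] at e)⟩
      have h2 : orderOf (z : G) ∣ 2 := orderOf_dvd_of_pow_eq_one (congrArg Subtype.val e)
      rcases (Nat.dvd_prime Nat.prime_two).1 h2 with h | h
      · exact hzG (orderOf_eq_one_iff.1 h)
      · have := hS.hodd.of_dvd_nat (orderOf_dvd_natCard (z : G))
        rw [h] at this
        exact absurd this (by decide)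
    have hmemS : ∀ y : ↥M, y ∈ Z → y ≠ 1 → (y : G) ∈ S := fun y hy hy1 =>
      Finset.mem_image.2 ⟨⟨y, hZK hy⟩, Finset.mem_erase.2
        ⟨fun e => hy1 (congrArg Subtype.val e), Finset.mem_univ _⟩, rfl⟩
    calc 2 * (n : ℝ) ^ 2 = ∑ u ∈ ({(x : G), (z : G)} : Finset G), ‖psi u‖ ^ 2 := by
          rw [Finset.sum_pair (fun e => hxz (Subtype.ext e)), hconst x hx z hz hx1 hz1, hn,
            Complex.norm_intCast, sq_abs]
          ring
      _ ≤ _ := Finset.sum_le_sum_of_subset_of_nonneg (by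
          intro u hu
          simp only [Finset.mem_insert, Finset.mem_singleton] at hu
          rcases hu with rfl | rfl
          · exact hmemS x hx hx1
          · exact hmemS z hz hz1) (fun _ _ _ => by positivity)
  have hKpos : (0 : ℝ) < Nat.card ↥(ker M) := Nat.cast_pos.2 Nat.card_pos
  have hM : (Nat.card M : ℝ) = Nat.card ↥(ker M) * Nat.card W₁ := by
    rw [card_ker hS, card_M hS, Nat.cast_mul]
  rw [classInner_self_re, hsum] at hb
  refine lt_of_le_of_lt (mul_le_mul_of_nonneg_left hb zero_le_two) ?_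
  rw [← mul_assoc, mul_comm (2 : ℝ), mul_assoc, inv_mul_lt_iff₀ hKpos]
  rw [hM] at hlt
  nlinarith

end

end Cfsg.Agent.PFClose19
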