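import Mathlib

/-!
Integer vectors whose differences have norm two: the signed orthonormal shape of an isometry on
differences (coherence for a set of vectors with Gram matrix `m + 1` on the diagonal classes and
`m` elsewhere).
-/

set_option autoImplicit false

namespace Cfsg.Agent.SignedDifferences86

attribute [local instance] Classical.propDecidable

variable {α ι : Type*}

theorem exists_pair (W : Finset α) (D : α → ℤ) (deg : α → ℤ) (hdeg : ∀ χ ∈ W, 0 < deg χ)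
    (h2 : ∑ χ ∈ W, D χ * D χ = 2) (h0 : ∑ χ ∈ W, D χ * deg χ = 0) :
    ∃ a ∈ W, ∃ b ∈ W, a ≠ b ∧
      ∀ χ ∈ W, D χ = (if χ = a then 1 else 0) - (if χ = b then 1 else 0) := by
  have hne : ∃ χ ∈ W, D χ ≠ 0 := by
    by_contra h
    push Not at h
    rw [Finset.sum_eq_zero fun χ hχ => by simp [h χ hχ]] at h2
    omega
  have hsmall : ∀ χ ∈ W, D χ = 0 ∨ D χ = 1 ∨ D χ = -1 := by
    intro χ hχ
    have := Finset.single_le_sum (fun ψ _ => mul_self_nonneg (D ψ)) hχ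
    rw [h2] at this
    have h4 : -1 ≤ D χ ∧ D χ ≤ 1 := ⟨by nlinarith, by nlinarith⟩
    omega
  have hpos : ∃ a ∈ W, D a = 1 := by
    by_contra h
    push Not at h
    obtain ⟨χ, hχ, hχ0⟩ := hne
    refine absurd h0 (ne_of_lt ?_)
    refine Finset.sum_neg' (fun ψ hψ => ?_) ⟨χ, hχ, ?_⟩
    · rcases hsmall ψ hψ with e | e | e
      · simp [e]
      · exact absurd e (h ψ hψ)
      · rw [e]; have := hdeg ψ hψ; omega
    · rcases hsmall χ hχ with e | e | e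
      · exact absurd e hχ0
      · exact absurd e (h χ hχ)
      · rw [e]; have := hdeg χ hχ; omega
  have hneg : ∃ b ∈ W, D b = -1 := by
    by_contra h
    push Not at h
    obtain ⟨χ, hχ, hχ0⟩ := hne
    refine absurd h0 (ne_of_gt ?_)
    refine Finset.sum_pos' (fun ψ hψ => ?_) ⟨χ, hχ, ?_⟩
    · rcases hsmall ψ hψ with e | e | e
      · simp [e]
      · rw [e]; have := hdeg ψ hψ; omega
      · exact absurd e (h ψ hψ)
    · rcases hsmall χ hχ with e | e | e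
      · exact absurd e hχ0
      · rw [e]; have := hdeg χ hχ; omega
      · exact absurd e (h χ hχ)
  obtain ⟨a, ha, hDa⟩ := hpos
  obtain ⟨b, hb, hDb⟩ := hneg
  have hab : a ≠ b := by rintro rfl; omega
  refine ⟨a, ha, b, hb, hab, fun χ hχ => ?_⟩
  by_cases h1 : χ = a
  · subst h1; rw [if_pos rfl, if_neg hab, hDa]; rfl
  by_cases h2' : χ = b
  · subst h2'; rw [if_neg h1, if_pos rfl, hDb]; rfl
  rw [if_neg h1, if_neg h2']
  rw [← Finset.add_sum_erase W _ ha, ← Finset.add_sum_erase (W.erase a) _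
    (Finset.mem_erase.2 ⟨hab.symm, hb⟩), hDa, hDb] at h2
  have h3 : ∑ ψ ∈ (W.erase a).erase b, D ψ * D ψ = 0 := by linarith
  have h4 := (Finset.sum_eq_zero_iff_of_nonneg fun ψ _ => mul_self_nonneg (D ψ)).1 h3 χ
    (Finset.mem_erase.2 ⟨h2', Finset.mem_erase.2 ⟨h1, hχ⟩⟩)
  simpa using h4

theorem inner_pairs (W : Finset α) {a b a' b' : α} (ha : a ∈ W) (hb : b ∈ W) :
    ∑ χ ∈ W, ((if χ = a then (1 : ℤ) else 0) - (if χ = b then 1 else 0)) *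
        ((if χ = a' then (1 : ℤ) else 0) - (if χ = b' then 1 else 0)) =
      ((if a = a' then (1 : ℤ) else 0) - (if a = b' then 1 else 0)) -
        ((if b = a' then (1 : ℤ) else 0) - (if b = b' then 1 else 0)) := by
  simp only [sub_mul, Finset.sum_sub_distrib, ite_mul, one_mul, zero_mul, Finset.sum_ite_eq', if_pos ha, if_pos hb]

/-- The signed orthonormal shape. -/
theorem exists_signed (W : Finset α) (T : Set ι) (r : ι → ι → Prop) (hrefl : ∀ ψ ∈ T, r ψ ψ)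
    (hsymm : ∀ {ψ φ}, r ψ φ → r φ ψ) (htrans : ∀ {ψ φ χ}, r ψ φ → r φ χ → r ψ χ)
    (htwo : ∃ ψ ∈ T, ∃ φ ∈ T, ¬ r ψ φ) (w : α → ι → ℤ) (deg : α → ℤ)
    (hdeg : ∀ χ ∈ W, 0 < deg χ) (m : ℤ)
    (hgram : ∀ ψ ∈ T, ∀ φ ∈ T, ∑ χ ∈ W, w χ ψ * w χ φ = m + if r ψ φ then 1 else 0)
    (hsum : ∀ ψ ∈ T, ∑ χ ∈ W, w χ ψ * deg χ = 0) :
    ∃ (ζ : ι → α) (δ : ℤ) (R : α → ℤ) (c : ℤ), (δ = 1 ∨ δ = -1) ∧
      (∀ ψ ∈ T, ζ ψ ∈ W ∧ R (ζ ψ) = c) ∧
      (∀ ψ ∈ T, ∀ φ ∈ T, ζ ψ = ζ φ ↔ r ψ φ) ∧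
      ∀ ψ ∈ T, ∀ χ ∈ W, w χ ψ = R χ + δ * if χ = ζ ψ then 1 else 0 := by
  obtain ⟨ψ₀, hψ₀, ψ₁, hψ₁, h01⟩ := htwo
  haveI : Nonempty α := by
    by_contra h
    have := hgram ψ₀ hψ₀ ψ₁ hψ₁
    have h' := hgram ψ₀ hψ₀ ψ₀ hψ₀
    rw [if_neg h01] at this
    rw [if_pos (hrefl _ hψ₀)] at h'
    have hW : W = ∅ := Finset.eq_empty_of_forall_notMem fun x _ => h ⟨x⟩
    rw [hW, Finset.sum_empty] at this h'
    omega
  have hequal : ∀ ψ ∈ T, ∀ φ ∈ T, r ψ φ → ∀ χ ∈ W, w χ ψ = w χ φ := by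
    intro ψ hψ φ hφ h χ hχ
    have h0 : ∑ x ∈ W, (w x ψ - w x φ) * (w x ψ - w x φ) = 0 := by
      have e1 := hgram ψ hψ ψ hψ
      have e2 := hgram φ hφ φ hφ
      have e3 := hgram ψ hψ φ hφ
      rw [if_pos (hrefl _ hψ)] at e1
      rw [if_pos (hrefl _ hφ)] at e2
      rw [if_pos h] at e3
      have e4 : ∑ x ∈ W, (w x ψ - w x φ) * (w x ψ - w x φ) =
          (∑ x ∈ W, w x ψ * w x ψ) - 2 * (∑ x ∈ W, w x ψ * w x φ) + ∑ x ∈ W, w x φ * w x φ := by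
        rw [Finset.mul_sum, ← Finset.sum_sub_distrib, ← Finset.sum_add_distrib]
        exact Finset.sum_congr rfl fun x _ => by ring
      rw [e4, e1, e2, e3]; ring
    have := (Finset.sum_eq_zero_iff_of_nonneg fun x _ => mul_self_nonneg (w x ψ - w x φ)).1 h0 χ hχ
    simpa [sub_eq_zero] using this
  have hD : ∀ ψ, ∃ a b : α, ψ ∈ T → ¬ r ψ₀ ψ → a ∈ W ∧ b ∈ W ∧ a ≠ b ∧
      ∀ χ ∈ W, w χ ψ₀ - w χ ψ = (if χ = a then 1 else 0) - (if χ = b then 1 else 0) := by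
    intro ψ
    by_cases h : ψ ∈ T ∧ ¬ r ψ₀ ψ
    swap
    · obtain ⟨x⟩ := ‹Nonempty α›
      exact ⟨x, x, fun h1 h2 => absurd ⟨h1, h2⟩ h⟩
    obtain ⟨hψ, hne⟩ := h
    have hq : ∑ χ ∈ W, (w χ ψ₀ - w χ ψ) * (w χ ψ₀ - w χ ψ) = 2 := by
      have e1 := hgram ψ hψ ψ hψ
      have e2 := hgram ψ₀ hψ₀ ψ₀ hψ₀
      have e3 := hgram ψ₀ hψ₀ ψ hψ
      rw [if_pos (hrefl _ hψ)] at e1
      rw [if_pos (hrefl _ hψ₀)] at e2
      rw [if_neg hne] at e3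
      have e4 : ∑ χ ∈ W, (w χ ψ₀ - w χ ψ) * (w χ ψ₀ - w χ ψ) =
          (∑ x ∈ W, w x ψ₀ * w x ψ₀) - 2 * (∑ x ∈ W, w x ψ₀ * w x ψ) + ∑ x ∈ W, w x ψ * w x ψ := by
        rw [Finset.mul_sum, ← Finset.sum_sub_distrib, ← Finset.sum_add_distrib]
        exact Finset.sum_congr rfl fun x _ => by ring
      rw [e4, e1, e2, e3]; ring
    have hz : ∑ χ ∈ W, (w χ ψ₀ - w χ ψ) * deg χ = 0 := by
      simp only [sub_mul, Finset.sum_sub_distrib, hsum _ hψ, hsum _ hψ₀, sub_zero]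
    obtain ⟨a, ha, b, hb, hab, hD⟩ := exists_pair W (fun χ => w χ ψ₀ - w χ ψ) deg hdeg hq hz
    exact ⟨a, b, fun _ _ => ⟨ha, hb, hab, hD⟩⟩
  choose a b hab using hD
  have hinner : ∀ ψ ∈ T, ∀ φ ∈ T, ¬ r ψ₀ ψ → ¬ r ψ₀ φ → ¬ r ψ φ →
      ((if a ψ = a φ then (1 : ℤ) else 0) - (if a ψ = b φ then 1 else 0)) -
        ((if b ψ = a φ then (1 : ℤ) else 0) - (if b ψ = b φ then 1 else 0)) = 1 := by
    intro ψ hψ φ hφ h1 h2 h3
    obtain ⟨ha, hb, -, hDψ⟩ := hab ψ hψ h1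
    obtain ⟨-, -, -, hDφ⟩ := hab φ hφ h2
    rw [← inner_pairs W ha hb]
    rw [Finset.sum_congr rfl fun χ hχ => by rw [← hDψ χ hχ, ← hDφ χ hχ]]
    have e1 := hgram ψ hψ φ hφ
    have e2 := hgram ψ₀ hψ₀ φ hφ
    have e3 := hgram ψ hψ ψ₀ hψ₀
    have e5 := hgram ψ₀ hψ₀ ψ₀ hψ₀
    rw [if_neg h3] at e1
    rw [if_neg h2] at e2
    rw [if_neg fun h => h1 (hsymm h)] at e3
    rw [if_pos (hrefl _ hψ₀)] at e5
    have e4 : ∑ χ ∈ W, (w χ ψ₀ - w χ ψ) * (w χ ψ₀ - w χ φ) =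
        (∑ x ∈ W, w x ψ₀ * w x ψ₀) - (∑ x ∈ W, w x ψ₀ * w x φ) - (∑ x ∈ W, w x ψ * w x ψ₀) +
          ∑ x ∈ W, w x ψ * w x φ := by
      rw [← Finset.sum_sub_distrib, ← Finset.sum_sub_distrib, ← Finset.sum_add_distrib]
      exact Finset.sum_congr rfl fun x _ => by ring
    rw [e4, e1, e2, e3, e5]; ring
  have hsame : ∀ ψ ∈ T, ∀ φ ∈ T, ¬ r ψ₀ ψ → r ψ φ → a ψ = a φ ∧ b ψ = b φ := by
    intro ψ hψ φ hφ h1 h
    have h2 : ¬ r ψ₀ φ := fun h' => h1 (htrans h' (hsymm h))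
    obtain ⟨ha, hb, hne, hDψ⟩ := hab ψ hψ h1
    obtain ⟨-, -, -, hDφ⟩ := hab φ hφ h2
    have ea := hDφ (a ψ) ha
    rw [← hequal ψ hψ φ hφ h _ ha, hDψ _ ha, if_pos rfl, if_neg hne] at ea
    have eb := hDφ (b ψ) hb
    rw [← hequal ψ hψ φ hφ h _ hb, hDψ _ hb, if_pos rfl, if_neg hne.symm] at eb
    constructor
    · by_contra hh; rw [if_neg hh] at ea; split_ifs at ea <;> omega
    · by_contra hh; rw [if_neg hh] at eb; split_ifs at eb <;> omega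
  have hshare : ∀ ψ ∈ T, ∀ φ ∈ T, ¬ r ψ₀ ψ → ¬ r ψ₀ φ → a ψ = a φ ∨ b ψ = b φ := by
    intro ψ hψ φ hφ h1 h2
    by_cases h : r ψ φ
    · exact Or.inl (hsame ψ hψ φ hφ h1 h).1
    by_contra hh
    push Not at hh
    have := hinner ψ hψ φ hφ h1 h2 h
    rw [if_neg hh.1, if_neg hh.2] at this
    split_ifs at this <;> omega
  have hinj : ∀ ψ ∈ T, ∀ φ ∈ T, ¬ r ψ₀ ψ → ¬ r ψ₀ φ → a ψ = a φ → b ψ = b φ → r ψ φ := by
    intro ψ hψ φ hφ h1 h2 ea eb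
    by_contra h
    have := hinner ψ hψ φ hφ h1 h2 h
    obtain ⟨-, -, hne, -⟩ := hab φ hφ h2
    rw [ea, eb, if_pos rfl, if_pos rfl, if_neg hne, if_neg hne.symm] at this
    omega
  suffices H : ∃ (ζ : ι → α) (δ : ℤ) (R : α → ℤ), (δ = 1 ∨ δ = -1) ∧ (∀ ψ ∈ T, ζ ψ ∈ W) ∧
      (∀ ψ ∈ T, ∀ φ ∈ T, ζ ψ = ζ φ ↔ r ψ φ) ∧
      ∀ ψ ∈ T, ∀ χ ∈ W, w χ ψ = R χ + δ * if χ = ζ ψ then 1 else 0 by
    obtain ⟨ζ, δ, R, hδ, hW, hr, hw⟩ := H
    refine ⟨ζ, δ, R, R (ζ ψ₀), hδ, fun ψ hψ => ⟨hW ψ hψ, ?_⟩, hr, hw⟩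
    have key : ∀ φ ∈ T, m + 1 = (∑ χ ∈ W, R χ * R χ) + (2 * δ * R (ζ φ) + δ * δ) := by
      intro φ hφ
      have e := hgram φ hφ φ hφ
      rw [if_pos (hrefl _ hφ), Finset.sum_congr rfl fun χ hχ => show w χ φ * w χ φ =
        R χ * R χ + (if χ = ζ φ then 2 * δ * R χ + δ * δ else 0) by
          rw [hw φ hφ χ hχ]; split_ifs <;> ring,
        Finset.sum_add_distrib, Finset.sum_ite_eq', if_pos (hW φ hφ)] at e
      exact e.symm
    have e := (key ψ hψ).symm.trans (key ψ₀ hψ₀)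
    rcases hδ with rfl | rfl <;> linarith
  by_cases hA : ∀ ψ ∈ T, ¬ r ψ₀ ψ → a ψ = a ψ₁
  · refine ⟨fun ψ => if r ψ₀ ψ then a ψ₁ else b ψ, 1,
      fun χ => w χ ψ₀ - (if χ = a ψ₁ then 1 else 0), Or.inl rfl, ?_, ?_, ?_⟩
    · intro ψ hψ
      dsimp only
      split_ifs with h
      · exact (hab ψ₁ hψ₁ h01).1
      · exact (hab ψ hψ h).2.1
    · intro ψ hψ φ hφ
      dsimp only
      split_ifs with h1 h2 h2
      · exact iff_of_true rfl (htrans (hsymm h1) h2)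
      · refine iff_of_false (fun e => (hab φ hφ h2).2.2.1 ?_) (fun e => h2 (htrans h1 e))
        rw [hA φ hφ h2, e]
      · refine iff_of_false (fun e => (hab ψ hψ h1).2.2.1 ?_) (fun e => h1 (htrans h2 (hsymm e)))
        rw [hA ψ hψ h1, e]
      · exact ⟨hinj ψ hψ φ hφ h1 h2 ((hA ψ hψ h1).trans (hA φ hφ h2).symm),
          fun e => (hsame ψ hψ φ hφ h1 e).2⟩
    · intro ψ hψ χ hχ
      by_cases h : r ψ₀ ψ
      · simp only [if_pos h]; rw [← hequal ψ₀ hψ₀ ψ hψ h χ hχ]; ring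
      · simp only [if_neg h]
        have e := (hab ψ hψ h).2.2.2 χ hχ
        rw [hA ψ hψ h] at e
        linarith
  · push Not at hA
    obtain ⟨j, hjT, hj0, hj⟩ := hA
    have hB : ∀ ψ ∈ T, ¬ r ψ₀ ψ → b ψ = b ψ₁ := by
      intro ψ hψ h
      by_contra hne
      have hbj : b j = b ψ₁ := (hshare j hjT ψ₁ hψ₁ hj0 h01).resolve_left hj
      have hak : a ψ = a ψ₁ := (hshare ψ hψ ψ₁ hψ₁ h h01).resolve_right hne
      rcases hshare j hjT ψ hψ hj0 h with e | e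
      · exact hj (e.trans hak)
      · exact hne (e.symm.trans hbj)
    refine ⟨fun ψ => if r ψ₀ ψ then b ψ₁ else a ψ, -1,
      fun χ => w χ ψ₀ + (if χ = b ψ₁ then 1 else 0), Or.inr rfl, ?_, ?_, ?_⟩
    · intro ψ hψ
      dsimp only
      split_ifs with h
      · exact (hab ψ₁ hψ₁ h01).2.1
      · exact (hab ψ hψ h).1
    · intro ψ hψ φ hφ
      dsimp only
      split_ifs with h1 h2 h2
      · exact iff_of_true rfl (htrans (hsymm h1) h2)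
      · refine iff_of_false (fun e => (hab φ hφ h2).2.2.1 ?_) (fun e => h2 (htrans h1 e))
        rw [hB φ hφ h2, e]
      · refine iff_of_false (fun e => (hab ψ hψ h1).2.2.1 ?_) (fun e => h1 (htrans h2 (hsymm e)))
        rw [hB ψ hψ h1, e]
      · exact ⟨fun e => hinj ψ hψ φ hφ h1 h2 e ((hB ψ hψ h1).trans (hB φ hφ h2).symm),
          fun e => (hsame ψ hψ φ hφ h1 e).1⟩
    · intro ψ hψ χ hχ
      by_cases h : r ψ₀ ψ
      · simp only [if_pos h]; rw [← hequal ψ₀ hψ₀ ψ hψ h χ hχ]; ring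
      · simp only [if_neg h]
        have e := (hab ψ hψ h).2.2.2 χ hχ
        rw [hB ψ hψ h] at e
        linarith

end Cfsg.Agent.SignedDifferences86
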