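/-
The characters of a group with a prime action: a cyclic Hall complement `W₁` acting on `K` with common
fixed points `W₂`, so that `W \ W₂` is a trivial-intersection set.
-/
import Mathlib
import Cfsg.Agent.Lib.CyclicTIFamily
import Cfsg.Agent.Lib.SignedDifferences86
import Cfsg.Agent.Lib.OddCharGroup
import Cfsg.Agent.S1510

set_option autoImplicit false
set_option linter.style.haveILetI false
set_option linter.unusedSectionVars false

open scoped ComplexConjugate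

namespace Cfsg.Agent.CyclicTIPrime

open CharBasic CharBasicOrth CharBasicDecomp CyclicTI CyclicTIFamily

universe u

variable {L : Type u} [Group L]

/-- Conjugation fusing `W \ W₂` lies in `W`. -/
theorem fusion_T [Finite L] {K W₁ W₂ : Subgroup L} [hK : K.Normal] (hKW₁ : K ⊓ W₁ = ⊥) (hKW₁' : K ⊔ W₁ = ⊤)
    (hHall : Nat.Coprime (Nat.card W₁) W₁.index) (hW₂K : W₂ ≤ K)
    (hC : ∀ x ∈ W₁, x ≠ 1 → K ⊓ Subgroup.centralizer ({x} : Set L) = W₂)
    (hW : Cfsg.IsSelfNormalizingCyclic W₁ W₂) {g t : L} (ht : t ∈ W₁ ⊔ W₂) (ht₂ : t ∉ W₂)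
    (hs : g * t * g⁻¹ ∈ W₁ ⊔ W₂) : g ∈ W₁ ⊔ W₂ := by
  classical
  have hd := hdisj hW
  have hc := hcomm hW
  have hcompl : Subgroup.IsComplement' K W₁ :=
    Subgroup.isComplement'_of_disjoint_and_mul_eq_univ (disjoint_iff.mpr hKW₁)
      (by rw [← Subgroup.normal_mul K W₁, hKW₁', Subgroup.coe_top])
  have hcop : Nat.Coprime (Nat.card W₁) (Nat.card W₂) := by
    rw [hcompl.index_eq_card] at hHall
    exact hHall.coprime_dvd_right (Subgroup.card_dvd_of_le hW₂K)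
  obtain ⟨m, hm1, hm2⟩ := Cfsg.Agent.OddCharGroup.exists_exponent hcop
  have hpow : ∀ z : ↥(W₁ ⊔ W₂), (z : L) ^ m = (proj₁ hd hc z : L) := by
    intro z
    have hu := proj₁_mem hd hc z
    have hv := proj₂_mem hd hc z
    conv_lhs => rw [← proj_mul hd hc z, Subgroup.coe_mul, hc _ hu _ hv]
    exact Cfsg.Agent.OddCharGroup.mul_pow_exponent (hc _ hu _ hv).symm
      (hm1.of_dvd (Subgroup.orderOf_dvd_natCard W₁ hu)) ((Subgroup.orderOf_dvd_natCard W₂ hv).trans hm2)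
  have hu : (proj₁ hd hc ⟨t, ht⟩ : L) ∈ W₁ := proj₁_mem _ _ _
  have hu' : (proj₁ hd hc ⟨g * t * g⁻¹, hs⟩ : L) ∈ W₁ := proj₁_mem _ _ _
  set u : L := (proj₁ hd hc ⟨t, ht⟩ : L) with hud
  set u' : L := (proj₁ hd hc ⟨g * t * g⁻¹, hs⟩ : L) with hud'
  have hu1 : u ≠ 1 := fun h => proj₁_ne_one hd hc (w := ⟨t, ht⟩) ht₂ (Subtype.ext h)
  have hgu : g * u * g⁻¹ = u' := by rw [hud, hud', ← hpow, ← hpow, conj_pow]
  obtain ⟨⟨⟨k, hk⟩, ⟨s, hsW⟩⟩, hks⟩ := hcompl.2 g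
  simp only at hks
  have hsu : s * u = u * s := by
    have := congrArg (Subtype.val : ↥(W₁ ⊔ W₂) → L)
      (CyclicTI.comm hW ⟨s, Subgroup.mem_sup_left hsW⟩ ⟨u, Subgroup.mem_sup_left hu⟩)
    simpa using this
  have hku : k * u * k⁻¹ = u' := by
    rw [← hgu, ← hks]
    calc k * u * k⁻¹ = k * (u * s) * s⁻¹ * k⁻¹ := by group
      _ = k * (s * u) * s⁻¹ * k⁻¹ := by rw [hsu]
      _ = k * s * u * (k * s)⁻¹ := by group
  have h6 : k * (u * k⁻¹ * u⁻¹) = u' * u⁻¹ := by rw [← hku]; group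
  have h7 : u' * u⁻¹ ∈ K ⊓ W₁ :=
    ⟨h6 ▸ K.mul_mem hk (hK.conj_mem _ (K.inv_mem hk) u), W₁.mul_mem hu' (W₁.inv_mem hu)⟩
  rw [hKW₁, Subgroup.mem_bot, mul_inv_eq_one] at h7
  have hkW : k ∈ W₂ := by
    rw [← hC u hu hu1]
    refine ⟨hk, Subgroup.mem_centralizer_singleton_iff.mpr ?_⟩
    rw [h7] at hku
    exact mul_inv_eq_iff_eq_mul.mp hku
  rw [← hks]
  exact Subgroup.mul_mem _ (Subgroup.mem_sup_right hkW) (Subgroup.mem_sup_left hsW)

variable [Fintype L] {W₁ W₂ : Subgroup L}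

theorem gen_linear (ω : ↥(W₁ ⊔ W₂) →* ℂˣ) :
    Cfsg.IsGeneralizedCharacter ↥(W₁ ⊔ W₂) (fun v => (ω v : ℂ)) :=
  isGeneralizedCharacter_of_isCharacter (isCharacter_linear ω)

theorem part₂_eq_iff (hd : W₁ ⊓ W₂ = ⊥) (hc : ∀ a ∈ W₁, ∀ b ∈ W₂, a * b = b * a)
    {ω ω' : ↥(W₁ ⊔ W₂) →* ℂˣ} :
    part₂ hd hc ω = part₂ hd hc ω' ↔ ∀ w : ↥(W₁ ⊔ W₂), (w : L) ∈ W₂ → ω w = ω' w := by
  refine ⟨fun h w hw => ?_, fun h => MonoidHom.ext fun w => h _ (proj₂_mem hd hc w)⟩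
  have e : proj₂ hd hc w = w := by
    have := proj_mul hd hc w
    rwa [proj₁_of_mem hd hc hw, one_mul] at this
  simpa [part₂, e] using DFunLike.congr_fun h w

open Classical in
/-- The differences of linear characters agreeing on `W₂` induce isometrically to signed differences. -/
theorem exists_line (hW : Cfsg.IsSelfNormalizingCyclic W₁ W₂) (hodd : Odd (Nat.card ↥(W₁ ⊔ W₂)))
    (hTI : ∀ g t : L, t ∈ W₁ ⊔ W₂ → t ∉ W₂ → g * t * g⁻¹ ∈ W₁ ⊔ W₂ → g ∈ W₁ ⊔ W₂)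
    (ψ : ↥(W₁ ⊔ W₂) →* ℂˣ) :
    ∃ (μ : (↥(W₁ ⊔ W₂) →* ℂˣ) → Cfsg.IrrCharacter L) (δ : ℂ), (δ = 1 ∨ δ = -1) ∧
      (∀ φ φ', TrivOn W₂ φ → TrivOn W₂ φ' → μ φ = μ φ' → φ = φ') ∧
      ∀ φ φ', TrivOn W₂ φ → TrivOn W₂ φ' →
        Cfsg.indFun (W₁ ⊔ W₂) (fun w => ((φ * ψ) w : ℂ) - ((φ' * ψ) w : ℂ)) =
          δ • ((μ φ : L → ℂ) - (μ φ' : L → ℂ)) := by
  haveI : Fintype ↥(W₁ ⊔ W₂) := Fintype.ofFinite _
  let Φ := {φ : ↥(W₁ ⊔ W₂) →* ℂˣ // TrivOn W₂ φ}
  let v : Φ → L → ℂ := fun p => Cfsg.indFun (W₁ ⊔ W₂) (fun w => ((p.1 * ψ) w : ℂ))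
  have hcls : ∀ p, Cfsg.IsClassFunction L (v p) := fun p => CharInduced.isClassFunction_ind (W₁ ⊔ W₂) _
  have hgen : ∀ p, Cfsg.IsGeneralizedCharacter L (v p) := fun p =>
    CharInduced.isGenChar_ind (W₁ ⊔ W₂) (gen_linear _)
  choose m hm hsum using fun p => exists_int_coeff (hgen p)
  choose dg hdg hdg1 using fun η : Cfsg.IrrCharacter L => isIrrCharacter_apply_one η.2
  -- values of the induced functions on `(W₁ ⊔ W₂)` outside `W₂`
  have hval : ∀ (p : Φ) (x : ↥(W₁ ⊔ W₂)), (x : L) ∉ W₂ → v p x = ((p.1 * ψ) x : ℂ) := by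
    intro p x hx
    have hc : (Finset.univ.filter fun g : L => g ∈ (W₁ ⊔ W₂)).card = Nat.card ↥(W₁ ⊔ W₂) := by
      rw [← Fintype.card_subtype, ← Nat.card_eq_fintype_card]
    have key : ∀ g : L, Cfsg.extendByZero (W₁ ⊔ W₂) (fun w => ((p.1 * ψ) w : ℂ)) (g⁻¹ * x * g) =
        if g ∈ (W₁ ⊔ W₂) then ((p.1 * ψ) x : ℂ) else 0 := by
      intro g
      split_ifs with hg
      · have h := CharInduced.ext_zero_conj_inv (θ := fun w => ((p.1 * ψ) w : ℂ))
          (CyclicTI.isClassFunction_W hW _) ((W₁ ⊔ W₂).inv_mem hg) (x : L)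
        rw [inv_inv] at h
        rw [h, CharInduced.ext_zero_coe]
      · refine CharInduced.ext_zero_of_not_mem _ fun hm' => hg ?_
        have := hTI g⁻¹ x x.2 hx (by rwa [inv_inv])
        exact (W₁ ⊔ W₂).inv_mem_iff.1 this
    have := CharInduced.card_subgroup_ne_zero (W₁ ⊔ W₂)
    simp only [v]
    rw [CharInduced.indFun_apply, Finset.sum_congr rfl fun g _ => key g, Finset.sum_ite,
      Finset.sum_const_zero, add_zero, Finset.sum_const, hc, nsmul_eq_mul]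
    field_simp
  -- Gram matrix
  have hG1 : ∀ p q r : Φ, Cfsg.classInner (v p) (v r) - Cfsg.classInner (v q) (v r) =
      (if p = r then 1 else 0) - (if q = r then 1 else 0) := by
    intro p q r
    simp only [v]
    rw [← classInner_sub_left, ← CharInduced.ind_sub, CharInduced.inner_ind_left (W₁ ⊔ W₂) _ (hcls r)]
    have e : Cfsg.classInner ((fun w => ((p.1 * ψ) w : ℂ)) - fun w => ((q.1 * ψ) w : ℂ))
        (fun x : ↥(W₁ ⊔ W₂) => v r x) =
        Cfsg.classInner ((fun w => ((p.1 * ψ) w : ℂ)) - fun w => ((q.1 * ψ) w : ℂ))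
          (fun w => ((r.1 * ψ) w : ℂ)) := by
      simp only [Cfsg.classInner]
      congr 1
      refine Finset.sum_congr rfl fun x _ => ?_
      by_cases hx : (x : L) ∈ W₂
      · simp [p.2 x hx, q.2 x hx]
      · rw [hval r x hx]
    rw [e, classInner_sub_left, CyclicTI.inner_hom, CyclicTI.inner_hom]
    have hinj : ∀ a b : Φ, a.1 * ψ = b.1 * ψ ↔ a = b := fun a b =>
      ⟨fun h => Subtype.ext (MonoidHom.ext fun w => mul_right_cancel (DFunLike.congr_fun h w)),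
        fun h => by rw [h]⟩
    simp only [hinj]
  have hz : ∀ p q, Cfsg.classInner (v p) (v q) = ((∑ η, m p η * m q η : ℤ) : ℂ) := by
    intro p q
    rw [classInner_eq_sum (hcls p)]
    simp only [hm, map_intCast]
    push_cast
    rfl
  have hG2 : ∀ p q r : Φ, (∑ η, m p η * m r η) - (∑ η, m q η * m r η) =
      (if p = r then 1 else 0) - (if q = r then (1 : ℤ) else 0) := by
    intro p q r
    have := hG1 p q r
    rw [hz, hz, ← Int.cast_sub] at this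
    split_ifs at this ⊢ <;> exact_mod_cast this
  let p₀ : Φ := ⟨1, trivOn_one _⟩
  have hgram : ∀ p q : Φ, ∑ η, m p η * m q η =
      (∑ η, m p₀ η * m p₀ η) - 1 + if p = q then 1 else 0 := by
    intro p q
    have h1 := hG2 p p₀ q
    have h2 := hG2 q p₀ p₀
    have h3 : ∑ η, m p₀ η * m q η = ∑ η, m q η * m p₀ η := Finset.sum_congr rfl fun η _ => mul_comm _ _
    rw [h3] at h1
    rw [if_pos rfl] at h2
    have h4 : (if p₀ = q then (1 : ℤ) else 0) = if q = p₀ then 1 else 0 := by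
      by_cases h : q = p₀ <;> simp [h, eq_comm]
    rw [h4] at h1
    linarith
  -- an extra coordinate absorbing the degree
  let D : ℤ := ((W₁ ⊔ W₂).index : ℤ)
  have hD : ∀ p, ∑ η, m p η * (dg η : ℤ) = D := by
    intro p
    have h := congrFun (hsum p) 1
    simp only [Finset.sum_apply, Pi.smul_apply, smul_eq_mul, hdg1, v] at h
    rw [CharInduced.ind_one_apply, map_one, Units.val_one, mul_one] at h
    exact_mod_cast h.symm
  let w : Option (Cfsg.IrrCharacter L) → Φ → ℤ := fun o p => o.elim (-D) (fun η => m p η)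
  obtain ⟨o1, o2, t1, -, -⟩ := card_facts hW hodd
  obtain ⟨hA, -⟩ := card_triv_ne hW
  have htwo : ∃ p : Φ, p ≠ p₀ := by
    have h : 0 < Nat.card {φ : ↥(W₁ ⊔ W₂) →* ℂˣ // φ ≠ 1 ∧ TrivOn W₂ φ} := by omega
    obtain ⟨⟨φ, h1, h2⟩⟩ := (Nat.card_pos_iff.1 h).1
    exact ⟨⟨φ, h2⟩, fun e => h1 (congrArg Subtype.val e)⟩
  obtain ⟨p₁, hp₁⟩ := htwo
  obtain ⟨ζ, δ, R, c, hδ, -, hζ, hw⟩ := SignedDifferences86.exists_signed
    (W := (Finset.univ : Finset (Option (Cfsg.IrrCharacter L)))) (T := (Set.univ : Set Φ)) (r := (· = ·))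
    (fun _ _ => rfl) Eq.symm Eq.trans ⟨p₁, trivial, p₀, trivial, hp₁⟩ w
    (fun o => o.elim 1 fun η => (dg η : ℤ)) (fun o _ => by
      cases o with
      | none => exact one_pos
      | some η => exact Int.natCast_pos.2 (hdg η))
    ((∑ η, m p₀ η * m p₀ η) - 1 + D * D)
    (fun p _ q _ => by
      rw [Fintype.sum_option]
      simp only [w, Option.elim]
      rw [hgram p q]; ring)
    (fun p _ => by
      rw [Fintype.sum_option]
      simp only [w, Option.elim]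
      rw [hD p]; ring)
  have hnone : ∀ p : Φ, ζ p ≠ none := by
    intro p hp
    obtain ⟨q, hq⟩ : ∃ q : Φ, q ≠ p := by
      by_cases h : p = p₀
      · exact ⟨p₁, h ▸ hp₁⟩
      · exact ⟨p₀, Ne.symm h⟩
    have e1 := hw p trivial none (Finset.mem_univ _)
    have e2 := hw q trivial none (Finset.mem_univ _)
    have hq' : ζ q ≠ none := fun e => hq ((hζ q trivial p trivial).1 (e.trans hp.symm))
    simp only [w, Option.elim, if_pos hp.symm, if_neg (Ne.symm hq')] at e1 e2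
    rcases hδ with rfl | rfl <;> omega
  choose μ₀ hμ₀ using fun p => Option.ne_none_iff_exists'.1 (hnone p)
  let μ : (↥(W₁ ⊔ W₂) →* ℂˣ) → Cfsg.IrrCharacter L := fun φ => if h : TrivOn W₂ φ then μ₀ ⟨φ, h⟩ else trivIrr L
  refine ⟨μ, (δ : ℂ), by rcases hδ with rfl | rfl <;> simp, fun φ φ' h h' e => ?_, fun φ φ' h h' => ?_⟩
  · simp only [μ, dif_pos h, dif_pos h'] at e
    have := (hζ ⟨φ, h⟩ trivial ⟨φ', h'⟩ trivial).1 (by rw [hμ₀, hμ₀, e])
    exact congrArg Subtype.val this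
  · simp only [μ, dif_pos h, dif_pos h']
    rw [show (fun x => ((φ * ψ) x : ℂ) - ((φ' * ψ) x : ℂ)) =
      (fun x => ((φ * ψ) x : ℂ)) - fun x => ((φ' * ψ) x : ℂ) from rfl, CharInduced.ind_sub]
    show v ⟨φ, h⟩ - v ⟨φ', h'⟩ = _
    rw [hsum, hsum, ← Finset.sum_sub_distrib]
    have e : ∀ η, ((m ⟨φ, h⟩ η : ℂ) • (η : L → ℂ) - (m ⟨φ', h'⟩ η : ℂ) • (η : L → ℂ)) =
        (if η = μ₀ ⟨φ, h⟩ then (δ : ℂ) • (η : L → ℂ) else 0) -
          (if η = μ₀ ⟨φ', h'⟩ then (δ : ℂ) • (η : L → ℂ) else 0) := by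
      intro η
      have e1 := hw ⟨φ, h⟩ trivial (some η) (Finset.mem_univ _)
      have e2 := hw ⟨φ', h'⟩ trivial (some η) (Finset.mem_univ _)
      simp only [w, Option.elim, hμ₀, Option.some.injEq] at e1 e2
      rw [e1, e2]
      split_ifs <;> push_cast <;> module
    rw [Finset.sum_congr rfl fun η _ => e η, Finset.sum_sub_distrib, Finset.sum_ite_eq', Finset.sum_ite_eq',
      if_pos (Finset.mem_univ _), if_pos (Finset.mem_univ _), smul_sub]

open Classical in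
theorem exists_prime_chars (hW : Cfsg.IsSelfNormalizingCyclic W₁ W₂) (hodd : Odd (Nat.card ↥(W₁ ⊔ W₂)))
    (hTI : ∀ g t : L, t ∈ W₁ ⊔ W₂ → t ∉ W₂ → g * t * g⁻¹ ∈ W₁ ⊔ W₂ → g ∈ W₁ ⊔ W₂) :
    ∃ (μ : (↥(W₁ ⊔ W₂) →* ℂˣ) → (L → ℂ)) (δ : (↥(W₁ ⊔ W₂) →* ℂˣ) → ℂ), Function.Injective μ ∧
      (∀ ω, Cfsg.IsIrrCharacter L (μ ω)) ∧ (∀ ω, δ ω = 1 ∨ δ ω = -1) ∧
      (∀ ω ω' : ↥(W₁ ⊔ W₂) →* ℂˣ, (∀ w : ↥(W₁ ⊔ W₂), (w : L) ∈ W₂ → ω w = ω' w) → δ ω = δ ω' ∧
        Cfsg.indFun (W₁ ⊔ W₂) (fun w => (ω w : ℂ) - (ω' w : ℂ)) = δ ω • (μ ω - μ ω')) ∧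
      (∀ ω, ∀ w : ↥(W₁ ⊔ W₂), (w : L) ∉ W₂ → μ ω w = δ ω * (ω w : ℂ)) ∧
      (∀ θ : L → ℂ, Cfsg.IsIrrCharacter L θ → (∀ ω, θ ≠ μ ω) →
        ∀ w : ↥(W₁ ⊔ W₂), (w : L) ∉ W₂ → θ w = 0) ∧
      (∀ ω, ∃ n : ℤ, μ ω 1 - δ ω = n * (Nat.card W₁ : ℂ)) := by
  haveI : Fintype ↥(W₁ ⊔ W₂) := Fintype.ofFinite _
  haveI := hom_fintype ↥(W₁ ⊔ W₂)
  haveI : Fintype (↥(W₁ ⊔ W₂) →* ℂˣ) := Fintype.ofFinite _
  have hd := hdisj hW
  have hc := hcomm hW
  choose M D hD hMinj hMind using exists_line hW hodd hTI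
  let P := part₁ hd hc
  let Q := part₂ hd hc
  let μ : (↥(W₁ ⊔ W₂) →* ℂˣ) → Cfsg.IrrCharacter L := fun ω => M (Q ω) (P ω)
  let δ : (↥(W₁ ⊔ W₂) →* ℂˣ) → ℂ := fun ω => D (Q ω)
  have hind : ∀ ω ω', Q ω = Q ω' → δ ω = δ ω' ∧
      Cfsg.indFun (W₁ ⊔ W₂) (fun w => (ω w : ℂ) - (ω' w : ℂ)) =
        δ ω • ((μ ω : L → ℂ) - (μ ω' : L → ℂ)) := by
    intro ω ω' h
    have := hMind (Q ω) (P ω) (P ω') (part₁_triv hd hc ω) (part₁_triv hd hc ω')
    have e1 : P ω * Q ω = ω := part_mul hd hc ω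
    have e2 : P ω' * Q ω = ω' := h ▸ part_mul hd hc ω'
    rw [e1, e2] at this
    refine ⟨by simp only [δ, h], ?_⟩
    simp only [μ, δ, ← h]
    exact this
  have hsupp : ∀ {ω ω' : ↥(W₁ ⊔ W₂) →* ℂˣ}, Q ω = Q ω' → ∀ x : ↥(W₁ ⊔ W₂),
      (x : L) ∉ (↑(W₁ ⊔ W₂) \ ↑W₂ : Set L) → (ω x : ℂ) - (ω' x : ℂ) = 0 := by
    intro ω ω' h x hx
    have hx2 : (x : L) ∈ W₂ := by
      by_contra hn
      exact hx ⟨x.2, hn⟩
    rw [(part₂_eq_iff hd hc).1 h x hx2, sub_self]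
  have hδne : ∀ ω, δ ω ≠ 0 := fun ω => by rcases hD (Q ω) with h | h <;> simp [δ, h]
  have hinner : ∀ {a b : Cfsg.IrrCharacter L},
      Cfsg.classInner (a : L → ℂ) (b : L → ℂ) = if a = b then 1 else 0 := fun {a b} => classInner_irrCharacter a b
  have hmem : ∀ ω, ∃ ω', Q ω' = Q ω ∧ ω' ≠ ω := by
    intro ω
    obtain ⟨hA, -⟩ := card_triv_ne hW
    obtain ⟨-, -, t1, -, -⟩ := card_facts hW hodd
    have h : 0 < Nat.card {φ : ↥(W₁ ⊔ W₂) →* ℂˣ // φ ≠ 1 ∧ TrivOn W₂ φ} := by omega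
    obtain ⟨⟨φ, h1, h2⟩⟩ := (Nat.card_pos_iff.1 h).1
    refine ⟨φ * ω, (part₂_eq_iff hd hc).2 fun w hw => by rw [MonoidHom.mul_apply, h2 w hw, one_mul],
      fun e => h1 (MonoidHom.ext fun w => ?_)⟩
    have := DFunLike.congr_fun e w
    rw [MonoidHom.mul_apply] at this
    simpa using this
  have hμinj : Function.Injective μ := by
    intro ω ω' e
    by_cases h : Q ω = Q ω'
    · have hP : P ω = P ω' := hMinj (Q ω) _ _ (part₁_triv hd hc ω) (part₁_triv hd hc ω') (by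
        simpa only [μ, h] using e)
      rw [← part_mul hd hc ω, ← part_mul hd hc ω']
      show P ω * Q ω = P ω' * Q ω'
      rw [hP, h]
    · exfalso
      obtain ⟨ν, hν, hνne⟩ := hmem ω
      obtain ⟨ν', hν', hνne'⟩ := hmem ω'
      have hcl : ∀ f : ↥(W₁ ⊔ W₂) → ℂ, Cfsg.IsClassFunction _ f := CyclicTI.isClassFunction_W hW
      have hz : Cfsg.classInner (fun w => (ω w : ℂ) - (ν w : ℂ)) (fun w => (ω' w : ℂ) - (ν' w : ℂ)) = 0 := by
        rw [show (fun w => (ω w : ℂ) - (ν w : ℂ)) = (fun w => (ω w : ℂ)) - fun w => (ν w : ℂ) from rfl,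
          show (fun w => (ω' w : ℂ) - (ν' w : ℂ)) = (fun w => (ω' w : ℂ)) - fun w => (ν' w : ℂ) from rfl,
          classInner_sub_left, classInner_sub_right, classInner_sub_right, CyclicTI.inner_hom,
          CyclicTI.inner_hom, CyclicTI.inner_hom, CyclicTI.inner_hom,
          if_neg fun x => h (by rw [x]), if_neg fun x : ω = ν' => h (by rw [x, hν']),
          if_neg fun x : ν = ω' => h (by rw [← hν, x]), if_neg fun x : ν = ν' => h (by rw [← hν, x, hν'])]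
        ring
      rw [← CharInduced.classInner_ind_of_ti (↑(W₁ ⊔ W₂) \ ↑W₂ : Set L) _
          (fun g hg t ht ht' => absurd (hTI g t ht.1 ht.2 ht'.1) hg) _ _ (hcl _)
          (hsupp hν.symm) (hsupp hν'.symm) (by simp), (hind ω ν hν.symm).2, (hind ω' ν' hν'.symm).2] at hz
      rw [classInner_smul_left, classInner_smul_right, classInner_sub_left, classInner_sub_right,
        classInner_sub_right, hinner, hinner, hinner, hinner] at hz
      have hne1 : μ ν ≠ μ ω := fun x => hνne (by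
        have hP : P ν = P ω := hMinj (Q ω) _ _ (part₁_triv hd hc ν) (part₁_triv hd hc ω) (by
          simpa only [μ, hν] using x)
        rw [← part_mul hd hc ν, ← part_mul hd hc ω]
        show P ν * Q ν = P ω * Q ω
        rw [hP, hν])
      have hne2 : μ ν' ≠ μ ω' := fun x => hνne' (by
        have hP : P ν' = P ω' := hMinj (Q ω') _ _ (part₁_triv hd hc ν') (part₁_triv hd hc ω') (by
          simpa only [μ, hν'] using x)
        rw [← part_mul hd hc ν', ← part_mul hd hc ω']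
        show P ν' * Q ν' = P ω' * Q ω'
        rw [hP, hν'])
      rw [if_pos e, if_neg (fun x => hne2 (x.symm.trans e)), if_neg (fun x => hne1 (x.trans e.symm))] at hz
      have hc1 : conj (δ ω') ≠ 0 := (map_ne_zero _).2 (hδne ω')
      simp only [mul_eq_zero, hδne ω, hc1, false_or] at hz
      split_ifs at hz <;> norm_num at hz
  have hvals : ∀ θ : Cfsg.IrrCharacter L, ∀ w : ↥(W₁ ⊔ W₂), (w : L) ∉ W₂ →
      (θ : L → ℂ) w = ∑ ω, (if μ ω = θ then δ ω else 0) * (ω w : ℂ) := by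
    intro θ w hw
    let f : ↥(W₁ ⊔ W₂) → ℂ := fun x => (θ : L → ℂ) x
    let c : (↥(W₁ ⊔ W₂) →* ℂˣ) → ℂ := fun ω => Cfsg.classInner f (fun x => (ω x : ℂ))
    let a : (↥(W₁ ⊔ W₂) →* ℂˣ) → ℂ := fun ψ => c ψ - if μ ψ = θ then δ ψ else 0
    have hc' : ∀ ω ω', Q ω = Q ω' → a ω = a ω' := by
      intro ω ω' h
      obtain ⟨hδ, hi⟩ := hind ω ω' h
      have h1 := CharInduced.inner_ind_left (W₁ ⊔ W₂) (fun w => (ω w : ℂ) - (ω' w : ℂ))
        (CharBasic.isClassFunction_of_isCharacter (isCharacter_of_isIrrCharacter θ.2))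
      rw [hi, classInner_smul_left, classInner_sub_left, hinner, hinner,
        show (fun w => (ω w : ℂ) - (ω' w : ℂ)) = (fun w => (ω w : ℂ)) - fun w => (ω' w : ℂ) from rfl,
        classInner_sub_left] at h1
      have hs : ∀ ν : ↥(W₁ ⊔ W₂) →* ℂˣ, c ν = conj (Cfsg.classInner (fun x => (ν x : ℂ)) f) :=
        fun ν => (conj_classInner _ _).symm
      show c ω - _ = c ω' - _
      rw [hs, hs]
      have h2 := congrArg (starRingEnd ℂ) h1
      simp only [map_mul, map_sub, apply_ite (starRingEnd ℂ), map_one, map_zero] at h2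
      have hr : conj (δ ω) = δ ω := by rcases hD (Q ω) with h | h <;> simp [δ, h]
      rw [hr] at h2
      rw [← hδ]
      split_ifs at h2 ⊢ <;> linear_combination -h2
    have hQQ : ∀ ω, Q (Q ω) = Q ω := fun ω => (part₂_eq_iff hd hc).2 fun x hx => by
      have e : proj₂ hd hc x = x := by
        have := proj_mul hd hc x
        rwa [proj₁_of_mem hd hc hx, one_mul] at this
      simp [Q, part₂, e]
    have he := congrFun (expand_hom (CyclicTI.comm hW) f) w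
    show f w = _
    rw [he]
    show ∑ ω, c ω * (ω w : ℂ) = _
    have hzero := sum_part₂_mul hW a hw
    have : ∑ ω, c ω * (ω w : ℂ) = ∑ ω, ((if μ ω = θ then δ ω else 0) * (ω w : ℂ) + a (Q ω) * (ω w : ℂ)) :=
      Finset.sum_congr rfl fun ω _ => by rw [← hc' ω (Q ω) (hQQ ω).symm]; simp only [a]; ring
    rw [this, Finset.sum_add_distrib, hzero, add_zero]
  have hμval : ∀ ω, ∀ w : ↥(W₁ ⊔ W₂), (w : L) ∉ W₂ → (μ ω : L → ℂ) w = δ ω * (ω w : ℂ) := by
    intro ω w hw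
    rw [hvals (μ ω) w hw, Finset.sum_eq_single ω (fun b _ hb => by
      rw [if_neg fun e => hb (hμinj e), zero_mul]) (by simp), if_pos rfl]
  refine ⟨fun ω => (μ ω : L → ℂ), δ, fun ω ω' h => hμinj (Subtype.ext h), fun ω => (μ ω).2,
    fun ω => hD (Q ω), fun ω ω' h => hind ω ω' ((part₂_eq_iff hd hc).2 h), hμval, ?_, ?_⟩
  · intro θ hθ hne w hw
    have := hvals ⟨θ, hθ⟩ w hw
    rw [show θ (w : L) = _ from this, Finset.sum_eq_zero]
    intro ω _
    rw [if_neg fun e => hne ω (congrArg Subtype.val e).symm, zero_mul]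
  · intro ω
    haveI : Fintype ↥W₁ := Fintype.ofFinite _
    let ν : ↥W₁ →* ℂˣ := ω.comp (Subgroup.inclusion le_sup_left)
    obtain ⟨k, hk⟩ := classInner_isGeneralizedCharacter
      (CharInduced.isGenChar_res W₁ (isGeneralizedCharacter_of_isCharacter (isCharacter_of_isIrrCharacter (μ ω).2)))
      (isGeneralizedCharacter_of_isCharacter (isCharacter_linear ν))
    obtain ⟨e, he⟩ : ∃ e : ℤ, δ ω = e := by
      rcases hD (Q ω) with h | h
      · exact ⟨1, by simp [δ, h]⟩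
      · exact ⟨-1, by simp [δ, h]⟩
    refine ⟨k - e, ?_⟩
    have hmain : ∀ x : ↥W₁, x ≠ 1 → (μ ω : L → ℂ) x * conj (ν x : ℂ) = δ ω := by
      intro x hx
      have hx2 : (x : L) ∉ W₂ := fun h => hx (Subtype.ext (Subgroup.mem_bot.1 (hd ▸ (⟨x.2, h⟩ : (x : L) ∈ W₁ ⊓ W₂))))
      rw [hμval ω ⟨x, Subgroup.mem_sup_left x.2⟩ hx2, mul_assoc]
      have hn : (ν x : ℂ) * conj (ν x : ℂ) = 1 := by
        have h0 : (ν x) ^ Nat.card W₁ = 1 := by rw [← map_pow, pow_card_eq_one', map_one]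
        have h1 : (ν x : ℂ) ^ Nat.card W₁ = 1 := by rw [← Units.val_pow_eq_pow_val, h0, Units.val_one]
        have h2 : ‖(ν x : ℂ)‖ = 1 := Complex.norm_eq_one_of_pow_eq_one h1 Nat.card_pos.ne'
        rw [Complex.mul_conj, Complex.normSq_eq_norm_sq, h2]; simp
      show δ ω * ((ν x : ℂ) * conj (ν x : ℂ)) = δ ω
      rw [hn, mul_one]
    have hsum : ∑ x : ↥W₁, (μ ω : L → ℂ) x * conj (ν x : ℂ) =
        (μ ω : L → ℂ) 1 + ((Nat.card W₁ : ℂ) - 1) * δ ω := by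
      rw [← Finset.add_sum_erase _ _ (Finset.mem_univ (1 : ↥W₁)),
        Finset.sum_congr rfl fun x hx => hmain x (Finset.mem_erase.1 hx).1, Finset.sum_const,
        Finset.card_erase_of_mem (Finset.mem_univ _), Finset.card_univ, nsmul_eq_mul,
        Nat.cast_sub Fintype.card_pos, Nat.cast_one, ← Nat.card_eq_fintype_card]
      simp
    simp only [Cfsg.classInner] at hk
    rw [hsum, inv_mul_eq_iff_eq_mul₀ (CharInduced.card_subgroup_ne_zero W₁)] at hk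
    push_cast
    rw [← he]
    linear_combination hk

end Cfsg.Agent.CyclicTIPrime
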