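import Mathlib
import Cfsg.Agent.Lib.PFPrimeTIDefs39
import Cfsg.Agent.Lib.CharInducedTI
import Cfsg.Agent.Lib.CharInducedClifford
import Cfsg.Agent.Lib.CharBasicDecomp
import Cfsg.Agent.Lib.CoherenceBasic
import Cfsg.Agent.Lib.CyclicTIPrime
import Cfsg.Agent.Lib.CyclicTIExist
import Cfsg.Agent.S1510

/-!
The configuration `PFPrimeTI.Setup`: facts inside `M`, and induction of functions supported on the trivial
intersection set.
-/

set_option autoImplicit false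
set_option linter.unusedSectionVars false
set_option linter.style.haveILetI false

open scoped commutatorElement ComplexConjugate

namespace Cfsg.Agent.PFPrimeTI

open Cfsg.Agent.CharBasic Cfsg.Agent.CharBasicOrth Cfsg.Agent.CharBasicDecomp

universe u

variable {G : Type u} [Group G] {M W₁ W₂ : Subgroup G}

theorem mem_ker {x : ↥M} : x ∈ ker M ↔ (x : G) ∈ (⁅M, M⁆ : Subgroup G) := Subgroup.mem_subgroupOf

theorem commutator_le : (⁅M, M⁆ : Subgroup G) ≤ M :=
  Subgroup.commutator_le.2 fun a ha b hb => M.mul_mem (M.mul_mem (M.mul_mem ha hb) (M.inv_mem ha)) (M.inv_mem hb)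

section setup

variable [Finite G] (hS : Setup M W₁ W₂)

include hS

theorem W1_le : W₁ ≤ M := hS.compl.2.1

theorem W2_le_ker : W₂ ≤ (⁅M, M⁆ : Subgroup G) :=
  hS.W2_le.trans (Subgroup.commutator_mono commutator_le commutator_le)

theorem W_le : W₁ ⊔ W₂ ≤ M := sup_le (W1_le hS) ((W2_le_ker hS).trans commutator_le)

theorem odd_W : Odd (Nat.card ↥(W₁ ⊔ W₂)) := hS.hodd.of_dvd_nat (Subgroup.card_subgroup_dvd_card _)

theorem odd_M : Odd (Nat.card M) := hS.hodd.of_dvd_nat (Subgroup.card_subgroup_dvd_card _)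

theorem three_le_W1 : 3 ≤ Nat.card W₁ :=
  CyclicTIExist.odd_ge_three le_sup_left hS.selfNorm.1 (odd_W hS) |>.1

theorem three_le_W2 : 3 ≤ Nat.card W₂ :=
  CyclicTIExist.odd_ge_three le_sup_right hS.selfNorm.2.1 (odd_W hS) |>.1

theorem card_W_ne : Nat.card W₁ ≠ Nat.card W₂ := CyclicTIExist.card_ne hS.selfNorm

theorem ker_inf : ker M ⊓ W₁.subgroupOf M = ⊥ := by
  rw [eq_bot_iff]
  rintro x ⟨hx, hx'⟩
  have h : (x : G) ∈ (⁅M, M⁆ : Subgroup G) ⊓ W₁ := ⟨mem_ker.1 hx, Subgroup.mem_subgroupOf.1 hx'⟩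
  rw [hS.compl.2.2.1, Subgroup.mem_bot] at h
  exact Subgroup.mem_bot.2 (Subtype.ext h)

theorem ker_sup : ker M ⊔ W₁.subgroupOf M = ⊤ := by
  rw [eq_top_iff]
  intro x _
  obtain ⟨a, ha, b, hb, h⟩ := hS.compl.2.2.2 x x.2
  have e : x = (⟨a, commutator_le ha⟩ : ↥M) * ⟨b, W1_le hS hb⟩ := Subtype.ext h
  rw [e]
  exact Subgroup.mul_mem _ (Subgroup.mem_sup_left (mem_ker.2 ha))
    (Subgroup.mem_sup_right (Subgroup.mem_subgroupOf.2 hb))

theorem ker_compl : Subgroup.IsComplement' (ker M) (W₁.subgroupOf M) :=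
  Subgroup.isComplement'_of_disjoint_and_mul_eq_univ (disjoint_iff.mpr (ker_inf hS))
    (by rw [← Subgroup.normal_mul (ker M), ker_sup hS, Subgroup.coe_top])

theorem ker_index : (ker M).index = Nat.card W₁ := by
  rw [(ker_compl hS).symm.index_eq_card,
    Nat.card_congr (Subgroup.subgroupOfEquivOfLe (W1_le hS)).toEquiv]

theorem W1_hall' : Nat.Coprime (Nat.card (W₁.subgroupOf M)) (W₁.subgroupOf M).index := by
  rw [Nat.card_congr (Subgroup.subgroupOfEquivOfLe (W1_le hS)).toEquiv]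
  exact hS.hall

theorem W2_le' : W₂.subgroupOf M ≤ ker M := fun _ hx => mem_ker.2 (W2_le_ker hS (Subgroup.mem_subgroupOf.1 hx))

theorem cent' : ∀ x ∈ W₁.subgroupOf M, x ≠ 1 →
    ker M ⊓ Subgroup.centralizer ({x} : Set ↥M) = W₂.subgroupOf M := by
  intro x hx hx1
  have h := hS.cent x (Subgroup.mem_subgroupOf.1 hx) fun e => hx1 (Subtype.ext e)
  ext y
  rw [Subgroup.mem_subgroupOf, ← h, Subgroup.mem_inf, Subgroup.mem_inf, mem_ker,
    Subgroup.mem_centralizer_singleton_iff, Subgroup.mem_centralizer_singleton_iff]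
  exact and_congr_right fun _ => ⟨fun e => congrArg Subtype.val e, fun e => Subtype.ext e⟩

theorem W1_ne' : W₁.subgroupOf M ≠ ⊥ := fun h =>
  hS.selfNorm.1 (eq_bot_iff.2 fun x hx => by
    have : (⟨x, W1_le hS hx⟩ : ↥M) ∈ W₁.subgroupOf M := Subgroup.mem_subgroupOf.2 hx
    rw [h, Subgroup.mem_bot] at this
    exact Subgroup.mem_bot.2 (congrArg Subtype.val this))

theorem W2_ne' : W₂.subgroupOf M ≠ ⊥ := fun h =>
  hS.selfNorm.2.1 (eq_bot_iff.2 fun x hx => by
    have : (⟨x, commutator_le (W2_le_ker hS hx)⟩ : ↥M) ∈ W₂.subgroupOf M := Subgroup.mem_subgroupOf.2 hx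
    rw [h, Subgroup.mem_bot] at this
    exact Subgroup.mem_bot.2 (congrArg Subtype.val this))

theorem sup' : W₁.subgroupOf M ⊔ W₂.subgroupOf M = (W₁ ⊔ W₂).subgroupOf M :=
  (Subgroup.subgroupOf_sup (W1_le hS) ((W2_le_ker hS).trans commutator_le)).symm

theorem mem_sup' {x : ↥M} : x ∈ W₁.subgroupOf M ⊔ W₂.subgroupOf M ↔ (x : G) ∈ W₁ ⊔ W₂ := by
  rw [sup' hS, Subgroup.mem_subgroupOf]

theorem cyc' : IsCyclic ↥(W₁.subgroupOf M) :=
  haveI := hS.cyc
  isCyclic_of_surjective (Subgroup.subgroupOfEquivOfLe (W1_le hS)).symm.toMonoidHom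
    (Subgroup.subgroupOfEquivOfLe (W1_le hS)).symm.surjective

theorem cyc2' : IsCyclic ↥(W₂.subgroupOf M) := by
  haveI : Fact (Nat.card W₂).Prime := ⟨hS.prime⟩
  exact isCyclic_of_prime_card (p := Nat.card W₂)
    (Nat.card_congr (Subgroup.subgroupOfEquivOfLe ((W2_le_ker hS).trans commutator_le)).toEquiv)

theorem odd_W' : Odd (Nat.card ↥(W₁.subgroupOf M ⊔ W₂.subgroupOf M)) :=
  (odd_M hS).of_dvd_nat (Subgroup.card_subgroup_dvd_card _)

theorem selfNorm' [Fintype ↥M] : Cfsg.IsSelfNormalizingCyclic (W₁.subgroupOf M) (W₂.subgroupOf M) :=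
  Cfsg.Agent.S1510.result (ker M) (W₁.subgroupOf M) (W₂.subgroupOf M) (ker_inf hS) (ker_sup hS)
    (W1_ne' hS) (cyc' hS) (W1_hall' hS) (W2_ne' hS) (cyc2' hS) (W2_le' hS) (cent' hS) (odd_W' hS)

/-- Conjugation inside `M` fusing `W ∖ W₂` lies in `W`. -/
theorem fusion_M [Fintype ↥M] {g t : G} (hg : g ∈ M) (ht : t ∈ W₁ ⊔ W₂) (ht2 : t ∉ W₂)
    (hs : g * t * g⁻¹ ∈ W₁ ⊔ W₂) : g ∈ W₁ ⊔ W₂ := by
  have := CyclicTIPrime.fusion_T (g := (⟨g, hg⟩ : ↥M)) (t := ⟨t, W_le hS ht⟩) (ker_inf hS) (ker_sup hS)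
    (W1_hall' hS) (W2_le' hS) (cent' hS) (selfNorm' hS) ((mem_sup' hS).2 ht)
    (fun h => ht2 (Subgroup.mem_subgroupOf.1 h)) ((mem_sup' hS).2 hs)
  exact (mem_sup' hS).1 this

/-- Every element of `M` outside `M'` is conjugate in `M` to an element of `W ∖ W₂`. -/
theorem exists_conj_W [Fintype ↥M] {x : ↥M} (hx : x ∉ ker M) :
    ∃ m ∈ M, ∃ w ∈ W₁ ⊔ W₂, w ∉ W₂ ∧ (x : G) = m * w * m⁻¹ := by
  classical
  obtain ⟨⟨⟨k₀, hk₀⟩, ⟨w₁, hw₁⟩⟩, he⟩ := (ker_compl hS).2 x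
  have hw : (w₁ : G) ≠ 1 := by
    intro h
    apply hx
    simp only at he
    have e : w₁ = 1 := Subtype.ext h
    rw [← he, e, mul_one]
    exact hk₀
  have hw₁' : (w₁ : G) ∈ W₁ := Subgroup.mem_subgroupOf.1 hw₁
  haveI : Fintype ↥(ker M) := Fintype.ofFinite _
  haveI : Fintype ↥(W₂.subgroupOf M) := Fintype.ofFinite _
  let f : ↥(ker M) × ↥(W₂.subgroupOf M) → ↥(ker M) := fun p =>
    ⟨(p.1 : ↥M) * ((p.2 : ↥M) * w₁) * (p.1 : ↥M)⁻¹ * w₁⁻¹, by
      have h1 := (ker_normal M).conj_mem _ ((ker M).inv_mem p.1.2) w₁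
      have h2 : (p.2 : ↥M) ∈ ker M := W2_le' hS p.2.2
      have := (ker M).mul_mem ((ker M).mul_mem p.1.2 h2) h1
      convert this using 1
      group⟩
  have hmem : ∀ z : ↥(W₂.subgroupOf M), ((z : ↥M) : G) * w₁ ∈ W₁ ⊔ W₂ ∧ ((z : ↥M) : G) * w₁ ∉ W₂ := by
    intro z
    have hz : ((z : ↥M) : G) ∈ W₂ := Subgroup.mem_subgroupOf.1 z.2
    refine ⟨Subgroup.mul_mem _ (Subgroup.mem_sup_right hz) (Subgroup.mem_sup_left hw₁'), fun h => hw ?_⟩
    have h' : (w₁ : G) ∈ W₁ ⊓ W₂ := ⟨hw₁', by simpa using W₂.mul_mem (W₂.inv_mem hz) h⟩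
    rwa [hS.selfNorm.2.2.1, Subgroup.mem_bot] at h'
  have hfib : ∀ b : ↥(ker M), (Finset.univ.filter fun p => f p = b).card ≤ Nat.card ↥(W₂.subgroupOf M) := by
    intro b
    by_cases hb : ∃ p, f p = b
    · obtain ⟨p, hp⟩ := hb
      let g : ↥(ker M) × ↥(W₂.subgroupOf M) → ↥M := fun r => (r.1 : ↥M)⁻¹ * (p.1 : ↥M)
      have hsub : ∀ r ∈ Finset.univ.filter (fun r => f r = b), g r ∈ W₂.subgroupOf M := by
        intro r hr
        have e : f r = f p := ((Finset.mem_filter.1 hr).2).trans hp.symm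
        have e' : ((r.1 : ↥M) : G) * (((r.2 : ↥M) : G) * w₁) * ((r.1 : ↥M) : G)⁻¹ =
            ((p.1 : ↥M) : G) * (((p.2 : ↥M) : G) * w₁) * ((p.1 : ↥M) : G)⁻¹ := by
          have := congrArg (fun z : ↥(ker M) => ((z : ↥M) : G)) e
          simpa [f] using this
        have hg : (g r : G) ∈ W₁ ⊔ W₂ := fusion_M hS (g r).2 (hmem p.2).1 (hmem p.2).2 (by
          have : (g r : G) * (((p.2 : ↥M) : G) * w₁) * (g r : G)⁻¹ = ((r.2 : ↥M) : G) * w₁ := by
            simp only [g, Subgroup.coe_mul, Subgroup.coe_inv]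
            calc _ = ((r.1 : ↥M) : G)⁻¹ *
                  (((p.1 : ↥M) : G) * (((p.2 : ↥M) : G) * w₁) * ((p.1 : ↥M) : G)⁻¹) * ((r.1 : ↥M) : G) := by
                    group
              _ = _ := by rw [← e']; group
          rw [this]
          exact (hmem r.2).1)
        have hgK : g r ∈ ker M := (ker M).mul_mem ((ker M).inv_mem r.1.2) p.1.2
        obtain ⟨a, ha, c, hc, hac⟩ : ∃ a ∈ W₁, ∃ c ∈ W₂, (g r : G) = a * c := by
          have hd := CyclicTI.hdisj hS.selfNorm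
          have hcm := CyclicTI.hcomm hS.selfNorm
          refine ⟨_, CyclicTI.proj₁_mem hd hcm ⟨_, hg⟩, _, CyclicTI.proj₂_mem hd hcm ⟨_, hg⟩, ?_⟩
          rw [← Subgroup.coe_mul, CyclicTI.proj_mul]
        have ha' : a ∈ (⁅M, M⁆ : Subgroup G) ⊓ W₁ := by
          refine ⟨?_, ha⟩
          have e2 : a = (g r : G) * c⁻¹ := by rw [hac]; group
          rw [e2]
          exact Subgroup.mul_mem _ (mem_ker.1 hgK) (Subgroup.inv_mem _ (W2_le_ker hS hc))
        rw [hS.compl.2.2.1, Subgroup.mem_bot] at ha'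
        rw [Subgroup.mem_subgroupOf, hac, ha', one_mul]
        exact hc
      have hinj : ∀ r ∈ Finset.univ.filter (fun r => f r = b), ∀ r' ∈ Finset.univ.filter (fun r => f r = b),
          g r = g r' → r = r' := by
        intro r hr r' hr' h
        have h1 : r.1 = r'.1 := by
          have := mul_right_cancel h
          exact Subtype.ext (inv_injective this)
        have e : f r = f r' := ((Finset.mem_filter.1 hr).2).trans (Finset.mem_filter.1 hr').2.symm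
        have e' := congrArg Subtype.val e
        simp only [f, h1, mul_left_inj, mul_right_inj] at e'
        exact Prod.ext h1 (Subtype.ext e')
      calc _ ≤ (Finset.univ.filter fun z : ↥M => z ∈ W₂.subgroupOf M).card :=
            Finset.card_le_card_of_injOn g (fun r hr => Finset.mem_filter.2 ⟨Finset.mem_univ _, hsub r hr⟩)
              (fun r hr r' hr' h => hinj r hr r' hr' h)
        _ = _ := by rw [← Fintype.card_subtype, Nat.card_eq_fintype_card]
    · rw [not_exists] at hb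
      rw [Finset.filter_eq_empty_iff.2 fun p _ => hb p]
      simp
  have hsurj : Function.Surjective f := by
    by_contra hcon
    simp only [Function.Surjective, not_forall, not_exists] at hcon
    obtain ⟨b₀, hb₀⟩ := hcon
    have h1 := Finset.card_eq_sum_card_fiberwise (s := (Finset.univ : Finset (↥(ker M) × ↥(W₂.subgroupOf M))))
      (t := (Finset.univ : Finset ↥(ker M))) (f := f) fun p _ => Finset.mem_univ _
    rw [← Finset.add_sum_erase _ _ (Finset.mem_univ b₀),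
      Finset.filter_eq_empty_iff.2 fun p _ => hb₀ p, Finset.card_empty, zero_add] at h1
    have h2 := Finset.sum_le_card_nsmul (Finset.univ.erase b₀) _ _ fun b _ => hfib b
    rw [← h1, Finset.card_univ, Fintype.card_prod, smul_eq_mul, Finset.card_erase_of_mem (Finset.mem_univ _),
      Finset.card_univ, Nat.card_eq_fintype_card] at h2
    have h3 : 0 < Fintype.card ↥(W₂.subgroupOf M) := Fintype.card_pos
    have h4 : 0 < Fintype.card ↥(ker M) := Fintype.card_pos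
    have := Nat.le_of_mul_le_mul_right h2 h3
    omega
  obtain ⟨⟨k, z⟩, hkz⟩ := hsurj ⟨k₀, hk₀⟩
  refine ⟨(k : ↥M), (k : ↥M).2, _, (hmem z).1, (hmem z).2, ?_⟩
  have e := congrArg Subtype.val hkz
  simp only [f] at e
  simp only at he
  calc (x : G) = ((k₀ * w₁ : ↥M) : G) := by rw [he]
    _ = _ := by rw [← e]; simp [mul_assoc]

/-- The trivial-intersection property in the form used by the induction lemmas. -/
theorem ti' : ∀ g : G, g ∉ M → ∀ t ∈ supp M W₁ W₂, g * t * g⁻¹ ∈ supp M W₁ W₂ → t = 1 :=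
  fun g hg t ht ht' => absurd (hS.ti t ht g ht') hg

theorem supp_ne_one {x : G} (hx : x ∈ supp M W₁ W₂) : x ≠ 1 := by
  rcases hx with hx | ⟨m, -, w, -, hw1, -, rfl⟩
  · exact hx.2
  · intro h
    apply hw1
    rw [show w = 1 by simpa using h]
    exact one_mem _

theorem ker_mem_supp {x : ↥M} (hx : x ∈ ker M) (hx1 : x ≠ 1) : (x : G) ∈ supp M W₁ W₂ :=
  Or.inl ⟨mem_ker.1 hx, fun h => hx1 (Subtype.ext h)⟩

theorem W_mem_supp {w : G} (hw : w ∈ W₁ ⊔ W₂) (h1 : w ∉ W₁) (h2 : w ∉ W₂) : w ∈ supp M W₁ W₂ :=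
  Or.inr ⟨1, M.one_mem, w, hw, h1, h2, by group⟩

theorem ker_sup_supp (x : ↥M) (hx : x ∉ ker M) : (x : G) ∈ supp M W₁ W₂ ∨
    ∃ m ∈ M, ∃ w ∈ W₁, w ≠ 1 ∧ (x : G) = m * w * m⁻¹ := by
  haveI := Fintype.ofFinite ↥M
  obtain ⟨m, hm, w, hw, hw2, e⟩ := exists_conj_W hS hx
  by_cases h1 : w ∈ W₁
  · exact Or.inr ⟨m, hm, w, h1, fun h => hw2 (h ▸ one_mem _), e⟩
  · exact Or.inl (Or.inr ⟨m, hm, w, hw, h1, hw2, e⟩)

end setup

section ind

variable [Fintype G] [Fintype ↥M] (hS : Setup M W₁ W₂)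

/-- A class function of `M` supported on the trivial intersection set. -/
def Supported (M W₁ W₂ : Subgroup G) (α : ↥M → ℂ) : Prop :=
  Cfsg.IsClassFunction ↥M α ∧ ∀ x : ↥M, (x : G) ∉ supp M W₁ W₂ → α x = 0

include hS

theorem ind_apply {α : ↥M → ℂ} (hα : Supported M W₁ W₂ α) (x : ↥M) (hx : (x : G) ∈ supp M W₁ W₂) :
    Cfsg.indFun M α (x : G) = α x :=
  CharInduced.ind_eq_of_ti _ M (ti' hS) α hα.1 hα.2 x hx
    fun h => supp_ne_one hS hx (congrArg Subtype.val h)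

theorem supported_one {α : ↥M → ℂ} (hα : Supported M W₁ W₂ α) : α 1 = 0 :=
  hα.2 1 fun h => supp_ne_one hS h rfl

theorem ind_inner {α β : ↥M → ℂ} (hα : Supported M W₁ W₂ α) (hβ : Supported M W₁ W₂ β) :
    Cfsg.classInner (Cfsg.indFun M α) (Cfsg.indFun M β) = Cfsg.classInner α β :=
  CharInduced.classInner_ind_of_ti _ M (ti' hS) α β hβ.1 hα.2 hβ.2 (supported_one hS hα)

theorem ind_apply_one {α : ↥M → ℂ} (hα : Supported M W₁ W₂ α) : Cfsg.indFun M α 1 = 0 := by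
  rw [CharInduced.ind_one_apply, supported_one hS hα, mul_zero]

omit hS in
theorem ind_inner_one (α : ↥M → ℂ) :
    Cfsg.classInner (Cfsg.indFun M α) (fun _ => 1) = Cfsg.classInner α (fun _ => 1) := by
  rw [CharInduced.inner_ind_left M α (fun _ _ => rfl)]

end ind

section sub

variable {M W₁ W₂ : Subgroup G} [Fintype ↥M]

theorem Supported.add {α β : ↥M → ℂ} (h : Supported M W₁ W₂ α) (h' : Supported M W₁ W₂ β) :
    Supported M W₁ W₂ (α + β) :=
  ⟨fun a b => by simp [h.1 a b, h'.1 a b], fun x hx => by simp [h.2 x hx, h'.2 x hx]⟩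

theorem Supported.sub {α β : ↥M → ℂ} (h : Supported M W₁ W₂ α) (h' : Supported M W₁ W₂ β) :
    Supported M W₁ W₂ (α - β) :=
  ⟨fun a b => by simp [h.1 a b, h'.1 a b], fun x hx => by simp [h.2 x hx, h'.2 x hx]⟩

theorem Supported.smul {α : ↥M → ℂ} (c : ℂ) (h : Supported M W₁ W₂ α) : Supported M W₁ W₂ (c • α) :=
  ⟨fun a b => by simp [h.1 a b], fun x hx => by simp [h.2 x hx]⟩

theorem Supported.conj {α : ↥M → ℂ} (h : Supported M W₁ W₂ α) : Supported M W₁ W₂ (Cfsg.conjFun α) :=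
  ⟨fun a b => by simp [Cfsg.conjFun, h.1 a b], fun x hx => by simp [Cfsg.conjFun, h.2 x hx]⟩

variable [Fintype G]

theorem ind_conjFun (α : ↥M → ℂ) :
    Cfsg.indFun M (Cfsg.conjFun α) = Cfsg.conjFun (Cfsg.indFun M α) := by
  funext g
  simp only [Cfsg.conjFun, CharInduced.indFun_apply, map_mul, map_inv₀, map_natCast, map_sum]
  congr 1
  exact Finset.sum_congr rfl fun x _ => CharInduced.ext_zero_conj α _

end sub

end Cfsg.Agent.PFPrimeTI
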