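import Mathlib
import Cfsg.Agent.Lib.PFPrimeTIBasic39
import Cfsg.Agent.Lib.CyclicTIGalois
import Cfsg.Agent.Lib.GaloisChar80
import Cfsg.Agent.S1511

/-!
The cyclic trivial intersection family of `W` in `G` and the exceptional characters of `M`, indexed by pairs
of linear characters of `W₁` and `W₂`.
-/

set_option autoImplicit false
set_option linter.unusedSectionVars false
set_option linter.style.haveILetI false

open scoped commutatorElement ComplexConjugate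

namespace Cfsg.Agent.PFPrimeTI

open Cfsg.Agent.CharBasic Cfsg.Agent.CharBasicOrth Cfsg.Agent.CharBasicDecomp
open Cfsg.Agent.CyclicTI

universe u

variable {G : Type u} [Group G] [Fintype G] (M W₁ W₂ : Subgroup G) [Fintype ↥M]

/-- Linear characters of `W` trivial on `W₂`. -/
abbrev Row : Type u := {φ : ↥(W₁ ⊔ W₂) →* ℂˣ // TrivOn W₂ φ}

/-- Linear characters of `W` trivial on `W₁`. -/
abbrev Col : Type u := {ψ : ↥(W₁ ⊔ W₂) →* ℂˣ // TrivOn W₁ ψ}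

/-- The two families. -/
structure Data where
  chi : (↥(W₁ ⊔ W₂) →* ℂˣ) → G → ℂ
  hchi : Cfsg.IsCyclicTIFamily W₁ W₂ chi
  muRaw : (↥(W₁ ⊔ W₂) →* ℂˣ) → ↥M → ℂ
  delRaw : (↥(W₁ ⊔ W₂) →* ℂˣ) → ℂ
  mu_inj : Function.Injective muRaw
  mu_irr : ∀ ω, Cfsg.IsIrrCharacter ↥M (muRaw ω)
  del_cases : ∀ ω, delRaw ω = 1 ∨ delRaw ω = -1
  ind_eq : ∀ ω ω' : ↥(W₁ ⊔ W₂) →* ℂˣ, (∀ w : ↥(W₁ ⊔ W₂), (w : G) ∈ W₂ → ω w = ω' w) →
    delRaw ω = delRaw ω' ∧ Cfsg.indFun (W₁ ⊔ W₂) (fun w => (ω w : ℂ) - (ω' w : ℂ)) =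
      delRaw ω • Cfsg.indFun M (muRaw ω - muRaw ω')
  mu_val : ∀ ω, ∀ (x : ↥M) (w : ↥(W₁ ⊔ W₂)), (x : G) = w → (w : G) ∉ W₂ →
    muRaw ω x = delRaw ω * (ω w : ℂ)
  vanish_other : ∀ θ : ↥M → ℂ, Cfsg.IsIrrCharacter ↥M θ → (∀ ω, θ ≠ muRaw ω) →
    ∀ x : ↥M, (x : G) ∈ W₁ ⊔ W₂ → (x : G) ∉ W₂ → θ x = 0
  ind_loc : ∀ ω ω' : ↥(W₁ ⊔ W₂) →* ℂˣ, (∀ w : ↥(W₁ ⊔ W₂), (w : G) ∈ W₂ → ω w = ω' w) →
    Cfsg.indFun ((W₁ ⊔ W₂).subgroupOf M) (CharInduced.toSubgroupOf fun w => (ω w : ℂ) - (ω' w : ℂ)) =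
      delRaw ω • (muRaw ω - muRaw ω')
  congr_deg : ∀ ω, ∃ n : ℤ, muRaw ω 1 - delRaw ω = n * (Nat.card W₁ : ℂ)

variable {M W₁ W₂}

theorem exists_data (hS : Setup M W₁ W₂) : Nonempty (Data M W₁ W₂) := by
  classical
  obtain ⟨chi, hchi⟩ := CyclicTIExist.exists_family hS.selfNorm (odd_W hS)
  obtain ⟨μ, δ, hinj, hirr, hδ, hind, hval, hoth, hn⟩ := Cfsg.Agent.S1511.result (ker M) (W₁.subgroupOf M)
    (W₂.subgroupOf M) (ker_inf hS) (ker_sup hS) (W1_ne' hS) (cyc' hS) (W1_hall' hS) (W2_ne' hS)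
    (cyc2' hS) (W2_le' hS) (cent' hS) (odd_W' hS)
  let e : ↥(W₁.subgroupOf M ⊔ W₂.subgroupOf M) →* ↥(W₁ ⊔ W₂) :=
    { toFun := fun x => ⟨((x : ↥M) : G), (mem_sup' hS).1 x.2⟩
      map_one' := rfl
      map_mul' := fun _ _ => rfl }
  have hes : Function.Surjective e := fun w =>
    ⟨⟨⟨w, W_le hS w.2⟩, (mem_sup' hS).2 w.2⟩, rfl⟩
  let T : (↥(W₁ ⊔ W₂) →* ℂˣ) → (↥(W₁.subgroupOf M ⊔ W₂.subgroupOf M) →* ℂˣ) := fun ω => ω.comp e
  have hTi : Function.Injective T := fun a b h => MonoidHom.ext fun w => by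
    obtain ⟨v, rfl⟩ := hes w
    exact DFunLike.congr_fun h v
  have hloc : ∀ ω ω' : ↥(W₁ ⊔ W₂) →* ℂˣ, (∀ w : ↥(W₁ ⊔ W₂), (w : G) ∈ W₂ → ω w = ω' w) →
      δ (T ω) = δ (T ω') ∧
      Cfsg.indFun ((W₁ ⊔ W₂).subgroupOf M) (CharInduced.toSubgroupOf fun w => (ω w : ℂ) - (ω' w : ℂ)) =
        δ (T ω) • (μ (T ω) - μ (T ω')) := by
    intro ω ω' h
    obtain ⟨h1, h2⟩ := hind (T ω) (T ω') fun v hv => h (e v) (Subgroup.mem_subgroupOf.1 hv)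
    refine ⟨h1, ?_⟩
    have e2 : Cfsg.indFun ((W₁ ⊔ W₂).subgroupOf M)
        (CharInduced.toSubgroupOf fun w => (ω w : ℂ) - (ω' w : ℂ)) =
        Cfsg.indFun (W₁.subgroupOf M ⊔ W₂.subgroupOf M) (fun v => (T ω v : ℂ) - (T ω' v : ℂ)) := by
      funext y
      rw [CharInduced.indFun_apply, CharInduced.indFun_apply,
        show Nat.card ↥(W₁.subgroupOf M ⊔ W₂.subgroupOf M) = Nat.card ↥((W₁ ⊔ W₂).subgroupOf M) from
          Nat.card_congr (Equiv.subtypeEquivRight fun z => by rw [sup' hS])]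
      congr 1
      refine Finset.sum_congr rfl fun z _ => ?_
      rw [CharInduced.ext_zero_subgroupOf]
      by_cases hz : z⁻¹ * y * z ∈ W₁.subgroupOf M ⊔ W₂.subgroupOf M
      · rw [CharInduced.ext_zero_of_mem _ ((mem_sup' hS).1 hz), CharInduced.ext_zero_of_mem _ hz]
        rfl
      · rw [CharInduced.ext_zero_of_not_mem _ (fun h' => hz ((mem_sup' hS).2 h')),
          CharInduced.ext_zero_of_not_mem _ hz]
    rw [e2, h2]
  refine ⟨⟨chi, hchi, μ ∘ T, δ ∘ T, hinj.comp hTi, fun ω => hirr _, fun ω => hδ _, fun ω ω' h => ?_,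
    fun ω x w hxw hw => ?_, fun θ hθ hne x hx hx2 => ?_, fun ω ω' h => (hloc ω ω' h).2, fun ω => ?_⟩⟩
  · obtain ⟨h1, h2⟩ := hloc ω ω' h
    refine ⟨h1, ?_⟩
    rw [← CharInduced.ind_trans (W_le hS), h2, CharInduced.ind_smul]
    rfl
  · have hx : x ∈ W₁.subgroupOf M ⊔ W₂.subgroupOf M := (mem_sup' hS).2 (hxw ▸ w.2)
    have := hval (T ω) ⟨x, hx⟩ fun h => hw (hxw ▸ Subgroup.mem_subgroupOf.1 h)
    show μ (T ω) x = _
    rw [this]
    show δ (T ω) * ((ω (e _) : ℂˣ) : ℂ) = _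
    have e2 : e ⟨x, hx⟩ = w := Subtype.ext hxw
    rw [e2]
    rfl
  · refine hoth θ hθ (fun ν => ?_) ⟨x, (mem_sup' hS).2 hx⟩ fun h => hx2 (Subgroup.mem_subgroupOf.1 h)
    have hcomp : ∀ a b : ↥(W₁ ⊔ W₂), ∀ u v, e u = a → e v = b → e (u * v) = a * b := by
      intro a b u v hu hv; rw [map_mul, hu, hv]
    have hei : Function.Injective e := fun u v h =>
      Subtype.ext (Subtype.ext (congrArg (Subtype.val : ↥(W₁ ⊔ W₂) → G) h))
    let f := (MulEquiv.ofBijective e ⟨hei, hes⟩)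
    have : ν = T (ν.comp f.symm.toMonoidHom) := MonoidHom.ext fun v => by
      simp [T, f, show e v = f v from rfl]
    rw [this]
    exact hne _
  · obtain ⟨n, hn'⟩ := hn (T ω)
    refine ⟨n, ?_⟩
    rw [Nat.card_congr (Subgroup.subgroupOfEquivOfLe (W1_le hS)).toEquiv] at hn'
    exact hn'

variable (D : Data M W₁ W₂)

/-- The signed irreducible `η_ij`. -/
def Data.eta (i : Row W₁ W₂) (j : Col W₁ W₂) : G → ℂ := D.chi (i.1 * j.1)

/-- The exceptional character `μ_ij`. -/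
def Data.mu (i : Row W₁ W₂) (j : Col W₁ W₂) : ↥M → ℂ := D.muRaw (i.1 * j.1)

/-- Its sign. -/
def Data.del (j : Col W₁ W₂) : ℂ := D.delRaw j.1

instance : One (Row W₁ W₂) := ⟨⟨1, trivOn_one W₂⟩⟩

instance : One (Col W₁ W₂) := ⟨⟨1, trivOn_one W₁⟩⟩

/-- Inversion of rows. -/
def Row.bar (i : Row W₁ W₂) : Row W₁ W₂ := ⟨i.1⁻¹, fun w hw => by simp [i.2 w hw]⟩

/-- Inversion of columns. -/
def Col.bar (j : Col W₁ W₂) : Col W₁ W₂ := ⟨j.1⁻¹, fun w hw => by simp [j.2 w hw]⟩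

section

variable (hS : Setup M W₁ W₂)

include hS

theorem pair_inj {i i' : Row W₁ W₂} {j j' : Col W₁ W₂} :
    i.1 * j.1 = i'.1 * j'.1 ↔ i = i' ∧ j = j' := by
  rw [mul_left_inj_of_triv (hdisj hS.selfNorm) (hcomm hS.selfNorm) i.2 i'.2 j.2 j'.2, Subtype.ext_iff,
    Subtype.ext_iff]

theorem eta_si (i : Row W₁ W₂) (j : Col W₁ W₂) : CoherenceBasic.SignedIrr (D.eta i j) :=
  D.hchi.irr_or_neg _

open Classical in
theorem eta_inner (i i' : Row W₁ W₂) (j j' : Col W₁ W₂) :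
    Cfsg.classInner (D.eta i j) (D.eta i' j') = if i = i' ∧ j = j' then 1 else 0 := by
  rw [Data.eta, Data.eta, D.hchi.orthonormal]
  simp only [pair_inj hS]

theorem eta_one : D.eta 1 1 = fun _ => 1 := by
  show D.chi (1 * 1) = _
  rw [hom_one_mul, D.hchi.map_one]

theorem eta_val (i : Row W₁ W₂) (j : Col W₁ W₂) (w : ↥(W₁ ⊔ W₂)) (h1 : (w : G) ∉ W₁) (h2 : (w : G) ∉ W₂) :
    D.eta i j (w : G) = (i.1 w : ℂ) * (j.1 w : ℂ) := by
  rw [Data.eta, D.hchi.eq_on _ w h1 h2, MonoidHom.mul_apply, Units.val_mul]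

theorem mu_ne {i i' : Row W₁ W₂} {j j' : Col W₁ W₂} (h : ¬ (i = i' ∧ j = j')) : D.mu i j ≠ D.mu i' j' :=
  fun e => h ((pair_inj hS).1 (D.mu_inj e))

open Classical in
theorem mu_inner (i i' : Row W₁ W₂) (j j' : Col W₁ W₂) :
    Cfsg.classInner (D.mu i j) (D.mu i' j') = if i = i' ∧ j = j' then 1 else 0 := by
  by_cases h : i = i' ∧ j = j'
  · rw [if_pos h, h.1, h.2]; exact classInner_irr_self (D.mu_irr _)
  · rw [if_neg h]; exact classInner_irr_ne (D.mu_irr _) (D.mu_irr _) (mu_ne D hS h)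

theorem mu_apply (i : Row W₁ W₂) (j : Col W₁ W₂) (x : ↥M) (w : ↥(W₁ ⊔ W₂)) (hxw : (x : G) = w)
    (hw : (w : G) ∉ W₂) : D.mu i j x = D.del j * ((i.1 w : ℂ) * (j.1 w : ℂ)) := by
  have hd : D.delRaw (i.1 * j.1) = D.delRaw j.1 :=
    (D.ind_eq _ _ fun v hv => by rw [MonoidHom.mul_apply, i.2 v hv, one_mul]).1
  rw [Data.mu, D.mu_val _ x w hxw hw, hd, MonoidHom.mul_apply, Units.val_mul]
  rfl

/-- An irreducible character of `M` with the values `s ω` on `W ∖ W₂` is `μ_ω`. -/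
theorem mu_unique {θ : ↥M → ℂ} (hθ : Cfsg.IsIrrCharacter ↥M θ) {s : ℂ} (hs : s = 1 ∨ s = -1)
    {ω : ↥(W₁ ⊔ W₂) →* ℂˣ}
    (h : ∀ (x : ↥M) (w : ↥(W₁ ⊔ W₂)), (x : G) = w → (w : G) ∉ W₂ → θ x = s * (ω w : ℂ)) :
    θ = D.muRaw ω ∧ D.delRaw ω = s := by
  obtain ⟨a, ha, ha1⟩ := W₁.bot_or_exists_ne_one.resolve_left hS.selfNorm.1
  have hanotW2 : ∀ {b : G}, b ∈ W₁ → b ≠ 1 → b ∉ W₂ := fun hb hb1 h => hb1 (by
    have : _ ∈ W₁ ⊓ W₂ := ⟨hb, h⟩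
    rwa [hS.selfNorm.2.2.1, Subgroup.mem_bot] at this)
  have hsne : s ≠ 0 := by rcases hs with rfl | rfl <;> norm_num
  set wa : ↥(W₁ ⊔ W₂) := ⟨a, Subgroup.mem_sup_left ha⟩ with hwa
  obtain ⟨ν, rfl⟩ : ∃ ν, θ = D.muRaw ν := by
    by_contra hcon
    rw [not_exists] at hcon
    have h0 := D.vanish_other θ hθ hcon ⟨a, W1_le hS ha⟩ (Subgroup.mem_sup_left ha) (hanotW2 ha ha1)
    rw [h _ wa rfl (hanotW2 ha ha1)] at h0
    exact mul_ne_zero hsne (Units.ne_zero _) h0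
  have key : ∀ w : ↥(W₁ ⊔ W₂), (w : G) ∉ W₂ → D.delRaw ν * (ν w : ℂ) = s * (ω w : ℂ) := by
    intro w hw
    rw [← D.mu_val ν ⟨w, W_le hS w.2⟩ w rfl hw]
    exact h _ w rfl hw
  have hν : ∀ w : ↥(W₁ ⊔ W₂), (w : G) ∉ W₂ → D.delRaw ν = s ∧ ν w = ω w := by
    intro w hw
    have h1 : (wa : G) ∉ W₂ := hanotW2 ha ha1
    have hsq : a * a ≠ 1 := fun e => by
      have hdvd : orderOf a ∣ 2 := orderOf_dvd_of_pow_eq_one (by rw [sq]; exact e)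
      have hodd : Odd (orderOf a) := hS.hodd.of_dvd_nat (orderOf_dvd_natCard a)
      rcases (Nat.dvd_prime Nat.prime_two).1 hdvd with h | h
      · exact ha1 (orderOf_eq_one_iff.1 h)
      · rw [h] at hodd; exact absurd hodd (by decide)
    have h2 : ((wa * wa : ↥(W₁ ⊔ W₂)) : G) ∉ W₂ := hanotW2 (W₁.mul_mem ha ha) hsq
    have k1 := key wa h1
    have k2 := key _ h2
    rw [map_mul, map_mul, Units.val_mul, Units.val_mul] at k2
    have hds : D.delRaw ν = s := by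
      have hs1 : s * s = 1 := by rcases hs with e | e <;> simp [e]
      have hne : (ω wa : ℂ) * (ω wa : ℂ) ≠ 0 := mul_ne_zero (Units.ne_zero _) (Units.ne_zero _)
      apply mul_right_cancel₀ hne
      linear_combination (-s * D.delRaw ν) * k2 + (s * (D.delRaw ν * (ν wa : ℂ) + s * (ω wa : ℂ))) * k1 +
        (s * (ω wa : ℂ) * (ω wa : ℂ) - D.delRaw ν * (ω wa : ℂ) * (ω wa : ℂ)) * hs1
    refine ⟨hds, Units.ext (mul_left_cancel₀ hsne ?_)⟩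
    rw [← key w hw, hds]
  have hall : ν = ω := by
    refine MonoidHom.ext fun w => ?_
    by_cases hw : (w : G) ∈ W₂
    · have h3 : ((w * wa : ↥(W₁ ⊔ W₂)) : G) ∉ W₂ := fun h4 => hanotW2 ha ha1 (by
        simpa using W₂.mul_mem (W₂.inv_mem hw) h4)
      have := (hν _ h3).2
      rw [map_mul, map_mul, (hν wa (hanotW2 ha ha1)).2] at this
      exact mul_right_cancel this
    · exact (hν w hw).2
  subst hall
  exact ⟨rfl, (hν wa (hanotW2 ha ha1)).1⟩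

theorem mu_one : D.mu 1 1 = (fun _ => 1) ∧ D.del 1 = 1 := by
  obtain ⟨h1, h2⟩ := mu_unique D hS isIrrCharacter_one (Or.inl rfl) (ω := 1) fun x w _ _ => by simp
  refine ⟨?_, h2⟩
  show D.muRaw (1 * 1) = _
  rw [hom_one_mul, ← h1]

/-- `τ (μ_ij − μ_kj)` is `δ_j` times the induced difference from `W`. -/
theorem ind_row (i k : Row W₁ W₂) (j : Col W₁ W₂) :
    Cfsg.indFun (W₁ ⊔ W₂) (fun w => (i.1 w : ℂ) * (j.1 w : ℂ) - (k.1 w : ℂ) * (j.1 w : ℂ)) =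
      D.del j • Cfsg.indFun M (D.mu i j - D.mu k j) := by
  obtain ⟨-, h2⟩ := D.ind_eq (i.1 * j.1) (k.1 * j.1) fun v hv => by
    rw [MonoidHom.mul_apply, MonoidHom.mul_apply, i.2 v hv, k.2 v hv]
  have hd : D.delRaw (i.1 * j.1) = D.delRaw j.1 :=
    (D.ind_eq _ _ fun v hv => by rw [MonoidHom.mul_apply, i.2 v hv, one_mul]).1
  rw [hd] at h2
  simp only [MonoidHom.mul_apply, Units.val_mul] at h2
  exact h2

end

end Cfsg.Agent.PFPrimeTI
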