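import Mathlib
import Cfsg.Agent.Lib.PFPrimeTIData39

/-!
Functions vanishing on `W - W₁ - W₂`, Galois action on the exceptional characters.
-/

set_option autoImplicit false
set_option linter.unusedSectionVars false
set_option linter.style.haveILetI false

open scoped commutatorElement ComplexConjugate

namespace Cfsg.Agent.PFPrimeTI

open Cfsg.Agent.CharBasic Cfsg.Agent.CharBasicOrth Cfsg.Agent.CharBasicDecomp
open Cfsg.Agent.CyclicTI

universe u

variable {G : Type u} [Group G] [Fintype G] {M W₁ W₂ : Subgroup G} [Fintype ↥M]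

noncomputable instance [Finite G] : Fintype (Row W₁ W₂) :=
  haveI := hom_fintype ↥(W₁ ⊔ W₂)
  Fintype.ofFinite _

noncomputable instance [Finite G] : Fintype (Col W₁ W₂) :=
  haveI := hom_fintype ↥(W₁ ⊔ W₂)
  Fintype.ofFinite _

variable (D : Data M W₁ W₂) (hS : Setup M W₁ W₂)

include hS

theorem card_row : Fintype.card (Row W₁ W₂) = Nat.card W₁ := by
  rw [← Nat.card_eq_fintype_card]
  have hd := hdisj hS.selfNorm
  have hc := hcomm hS.selfNorm
  have hab : ∀ a b : W₁, a * b = b * a := fun a b => Subtype.ext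
    (congrArg (Subtype.val : ↥(W₁ ⊔ W₂) → G)
      (CyclicTI.comm hS.selfNorm ⟨a, Subgroup.mem_sup_left a.2⟩ ⟨b, Subgroup.mem_sup_left b.2⟩))
  exact (Nat.card_congr (CyclicTIFamily.trivEquiv₁ hd hc)).trans (CyclicTIFamily.card_dual hab)

theorem card_col : Fintype.card (Col W₁ W₂) = Nat.card W₂ := by
  rw [← Nat.card_eq_fintype_card]
  have hd := hdisj hS.selfNorm
  have hc := hcomm hS.selfNorm
  have hab : ∀ a b : W₂, a * b = b * a := fun a b => Subtype.ext
    (congrArg (Subtype.val : ↥(W₁ ⊔ W₂) → G)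
      (CyclicTI.comm hS.selfNorm ⟨a, Subgroup.mem_sup_right a.2⟩ ⟨b, Subgroup.mem_sup_right b.2⟩))
  exact (Nat.card_congr (CyclicTIFamily.trivEquiv₂ hd hc)).trans (CyclicTIFamily.card_dual hab)

open Classical in
theorem exists_row_avoid (s : Finset (Row W₁ W₂)) (h : s.card < Nat.card W₁) : ∃ i, i ∉ s := by
  by_contra hcon
  simp only [not_exists, not_not] at hcon
  rw [Finset.eq_univ_of_forall hcon, Finset.card_univ, card_row hS] at h
  omega

open Classical in
theorem exists_col_avoid (s : Finset (Col W₁ W₂)) (h : s.card < Nat.card W₂) : ∃ j, j ∉ s := by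
  by_contra hcon
  simp only [not_exists, not_not] at hcon
  rw [Finset.eq_univ_of_forall hcon, Finset.card_univ, card_col hS] at h
  omega

/-- Rectangle identity for class functions vanishing on `W - W₁ - W₂`. -/
theorem rect {f : G → ℂ} (hf : Cfsg.IsClassFunction G f)
    (hfV : ∀ w : ↥(W₁ ⊔ W₂), (w : G) ∉ W₁ → (w : G) ∉ W₂ → f w = 0) (i : Row W₁ W₂) (j : Col W₁ W₂) :
    Cfsg.classInner f (D.eta i j) =
      Cfsg.classInner f (D.eta i 1) + Cfsg.classInner f (D.eta 1 j) - Cfsg.classInner f (D.eta 1 1) := by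
  have h := rectangle hS.selfNorm D.hchi hf hfV (i.1 * j.1)
  rw [part₁_eq _ _ i.2 j.2, part₂_eq _ _ i.2 j.2] at h
  show Cfsg.classInner f (D.chi (i.1 * j.1)) = Cfsg.classInner f (D.chi (i.1 * 1)) +
    Cfsg.classInner f (D.chi (1 * j.1)) - Cfsg.classInner f (D.chi (1 * 1))
  rw [hom_mul_one, hom_one_mul, hom_one_mul]
  exact h

/-- Bessel's inequality for a finite orthonormal family. -/
theorem bessel {κ : Type*} (s : Finset κ) (f : G → ℂ) (v : κ → G → ℂ)
    (horth : ∀ a ∈ s, ∀ b ∈ s, a ≠ b → Cfsg.classInner (v a) (v b) = 0)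
    (hone : ∀ a ∈ s, Cfsg.classInner (v a) (v a) = 1) :
    ∑ a ∈ s, Complex.normSq (Cfsg.classInner f (v a)) ≤ (Cfsg.classInner f f).re := by
  classical
  set y : G → ℂ := f - ∑ a ∈ s, Cfsg.classInner f (v a) • v a with hy
  have h0 := CoherenceBasic.classInner_self_nonneg y
  have e : Cfsg.classInner y y =
      Cfsg.classInner f f - ∑ a ∈ s, (Complex.normSq (Cfsg.classInner f (v a)) : ℂ) := by
    have h1 : ∀ a ∈ s, Cfsg.classInner y (v a) = 0 := by
      intro a ha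
      rw [hy, classInner_sub_left, classInner_sum_left, Finset.sum_eq_single a (fun b hb hne => by
        rw [classInner_smul_left, horth b hb a ha hne, mul_zero]) (fun h => absurd ha h),
        classInner_smul_left, hone a ha, mul_one, sub_self]
    conv_lhs => arg 2; rw [hy]
    rw [classInner_sub_right, classInner_sum_right, Finset.sum_eq_zero fun a ha => by
      rw [classInner_smul_right, h1 a ha, mul_zero], sub_zero, hy, classInner_sub_left, classInner_sum_left]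
    congr 1
    refine Finset.sum_congr rfl fun a _ => ?_
    rw [classInner_smul_left, ← conj_classInner f (v a), Complex.mul_conj]
  rw [e, Complex.sub_re, Complex.re_sum] at h0
  simp only [Complex.ofReal_re] at h0
  linarith

open Classical in
/-- Few non-zero coefficients among the `η_ij` force all of them to vanish, if `f` vanishes on `W - W₁ - W₂`. -/
theorem eta_orth_of_few {f : G → ℂ} (hf : Cfsg.IsGeneralizedCharacter G f)
    (hfV : ∀ w : ↥(W₁ ⊔ W₂), (w : G) ∉ W₁ → (w : G) ∉ W₂ → f w = 0)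
    (hn : (Cfsg.classInner f f).re ≤ 2) (i : Row W₁ W₂) (j : Col W₁ W₂) :
    Cfsg.classInner f (D.eta i j) = 0 := by
  have hcl := isClassFunction_of_isGeneralizedCharacter hf
  have hint : ∀ a b, ∃ z : ℤ, Cfsg.classInner f (D.eta a b) = z := fun a b =>
    classInner_isGeneralizedCharacter hf (CoherenceBasic.si_gen (eta_si D hS a b))
  choose c hc using hint
  set P : Finset (Row W₁ W₂ × Col W₁ W₂) := Finset.univ.filter fun x => c x.1 x.2 ≠ 0 with hP
  have hle : P.card ≤ 2 := by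
    have hb := bessel hS P f (fun x => D.eta x.1 x.2)
      (fun a _ b _ hab => by
        rw [eta_inner D hS, if_neg]
        exact fun h => hab (Prod.ext h.1 h.2))
      (fun a _ => by rw [eta_inner D hS, if_pos ⟨rfl, rfl⟩])
    have h1 : (P.card : ℝ) ≤ ∑ x ∈ P, Complex.normSq (Cfsg.classInner f (D.eta x.1 x.2)) := by
      rw [Finset.cast_card]
      refine Finset.sum_le_sum fun x hx => ?_
      rw [hc, show ((c x.1 x.2 : ℂ)) = (((c x.1 x.2 : ℝ)) : ℂ) by simp, Complex.normSq_ofReal]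
      have h : (1 : ℤ) ≤ c x.1 x.2 * c x.1 x.2 := by
        have := (Finset.mem_filter.1 hx).2
        nlinarith [mul_self_pos.2 this]
      exact_mod_cast h
    have : (P.card : ℝ) ≤ 2 := by linarith
    exact_mod_cast this
  obtain ⟨i', hi'⟩ := exists_row_avoid hS (P.image Prod.fst)
    (lt_of_le_of_lt (Finset.card_image_le.trans hle) (by have := three_le_W1 hS; omega))
  obtain ⟨j', hj'⟩ := exists_col_avoid hS (P.image Prod.snd)
    (lt_of_le_of_lt (Finset.card_image_le.trans hle) (by have := three_le_W2 hS; omega))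
  have z1 : ∀ b, c i' b = 0 := fun b => by
    by_contra h
    exact hi' (Finset.mem_image.2 ⟨(i', b), Finset.mem_filter.2 ⟨Finset.mem_univ _, h⟩, rfl⟩)
  have z2 : ∀ a, c a j' = 0 := fun a => by
    by_contra h
    exact hj' (Finset.mem_image.2 ⟨(a, j'), Finset.mem_filter.2 ⟨Finset.mem_univ _, h⟩, rfl⟩)
  have r1 := rect D hS hcl hfV i j
  have r2 := rect D hS hcl hfV i' j
  have r3 := rect D hS hcl hfV i j'
  have r4 := rect D hS hcl hfV i' j'
  simp only [hc, z1, z2, Int.cast_zero] at r1 r2 r3 r4 ⊢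
  linear_combination r1 - r2 - r3 + r4

/-- A class function orthogonal to every `η` vanishes on `W - W₁ - W₂`. -/
theorem vanish_of_orth {f : G → ℂ} (hf : Cfsg.IsClassFunction G f)
    (h : ∀ i j, Cfsg.classInner f (D.eta i j) = 0) (w : ↥(W₁ ⊔ W₂)) (h1 : (w : G) ∉ W₁) (h2 : (w : G) ∉ W₂) :
    f w = 0 := by
  classical
  haveI : Fintype ↥(W₁ ⊔ W₂) := Fintype.ofFinite _
  have hall : ∀ ω, Cfsg.classInner f (D.chi ω) = 0 := fun ω => by
    have := h ⟨_, part₁_triv (hdisj hS.selfNorm) (hcomm hS.selfNorm) ω⟩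
      ⟨_, part₂_triv (hdisj hS.selfNorm) (hcomm hS.selfNorm) ω⟩
    rwa [Data.eta, part_mul] at this
  refine CyclicTIExist.vanish_of_split hS.selfNorm (fun v => f v) (fun ω => ?_) w h1 h2
  set φ := part₁ (hdisj hS.selfNorm) (hcomm hS.selfNorm) ω with hφd
  set ψ := part₂ (hdisj hS.selfNorm) (hcomm hS.selfNorm) ω with hψd
  have hω : φ * ψ = ω := part_mul _ _ ω
  by_cases hφ : φ = 1
  · rw [← hω, hφ, hom_one_mul]; ring
  by_cases hψ : ψ = 1
  · rw [← hω, hψ, hom_mul_one]; ring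
  have a' := part₁_triv (hdisj hS.selfNorm) (hcomm hS.selfNorm) ω
  have b' := part₂_triv (hdisj hS.selfNorm) (hcomm hS.selfNorm) ω
  have e := D.hchi.induced_eq φ ψ hφ hψ a' b'
  have h0 : Cfsg.classInner f (Cfsg.indFun (W₁ ⊔ W₂) (alphaFun φ ψ)) = 0 := by
    unfold alphaFun
    rw [e, show (fun g => 1 - D.chi φ g - D.chi ψ g + D.chi (φ * ψ) g) =
      D.chi 1 - D.chi φ - D.chi ψ + D.chi (φ * ψ) by funext g; simp [D.hchi.map_one],
      classInner_add_right, classInner_sub_right, classInner_sub_right, hall, hall, hall, hall]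
    ring
  rw [CharInduced.inner_ind_right _ _ hf,
    show alphaFun φ ψ = (fun x => ((1 : ↥(W₁ ⊔ W₂) →* ℂˣ) x : ℂ)) - (fun x => (φ x : ℂ)) -
      (fun x => (ψ x : ℂ)) + fun x => ((φ * ψ) x : ℂ) by funext x; simp [alphaFun],
    classInner_add_right, classInner_sub_right, classInner_sub_right, hω] at h0
  linear_combination h0

/-- Two signed irreducibles whose difference vanishes on `W - W₁ - W₂` are orthogonal to every `η`. -/
theorem si_orth {α β : G → ℂ} (hα : CoherenceBasic.SignedIrr α) (hβ : CoherenceBasic.SignedIrr β)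
    (hαβ : Cfsg.classInner α β = 0)
    (hV : ∀ w : ↥(W₁ ⊔ W₂), (w : G) ∉ W₁ → (w : G) ∉ W₂ → α w - β w = 0) (i : Row W₁ W₂) (j : Col W₁ W₂) :
    Cfsg.classInner α (D.eta i j) = 0 := by
  classical
  have hg := isGeneralizedCharacter_sub (CoherenceBasic.si_gen hα) (CoherenceBasic.si_gen hβ)
  have hn : Cfsg.classInner (α - β) (α - β) = 2 := by
    rw [classInner_sub_left, classInner_sub_right, classInner_sub_right, CoherenceBasic.si_self hα,
      CoherenceBasic.si_self hβ, hαβ, ← conj_classInner α β, hαβ, map_zero]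
    norm_num
  have h := eta_orth_of_few D hS hg hV (by rw [hn]; simp) i j
  rw [classInner_sub_left, sub_eq_zero] at h
  by_contra hne
  rcases CyclicTIGalois.signed_cases hα (eta_si D hS i j) hne with ⟨e, -⟩ | ⟨e, -⟩
  all_goals
    rw [e] at hαβ h
    simp only [classInner_neg_left, eta_inner D hS, if_pos, and_self] at hαβ h
    rw [← conj_classInner (D.eta i j) β] at h
    simp_all

/-- Powers prime to `|G|`. -/
theorem eta_pow {j₀ k : ℕ} (hk : k.Coprime (Nat.card G)) (hjk : j₀ * k ≡ 1 [MOD Nat.card G])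
    (ω : ↥(W₁ ⊔ W₂) →* ℂˣ) (g : G) : D.chi (ω ^ j₀) (g ^ k) = D.chi ω g :=
  CyclicTIGalois.family_pow hS.selfNorm (odd_W hS) D.hchi hk hjk ω g

theorem mu_pow {k : ℕ} (hk : k.Coprime (Nat.card G)) (ω : ↥(W₁ ⊔ W₂) →* ℂˣ) :
    (fun x => D.muRaw ω (x ^ k)) = D.muRaw (ω ^ k) ∧ D.delRaw (ω ^ k) = D.delRaw ω := by
  have hkM : k.Coprime (Nat.card M) := hk.coprime_dvd_right (Subgroup.card_subgroup_dvd_card M)
  refine mu_unique D hS (GaloisChar80.isIrrCharacter_pow hkM (D.mu_irr ω)) (D.del_cases ω) ?_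
  intro x w hxw hw
  have hw' : ((w ^ k : ↥(W₁ ⊔ W₂)) : G) ∉ W₂ := by
    rw [SubgroupClass.coe_pow]
    intro h
    obtain ⟨l, hl⟩ := exists_pow_eq_self_of_coprime
      (Nat.Coprime.of_dvd_left (orderOf_dvd_natCard (w : G)) hk.symm).symm
    exact hw (hl ▸ pow_mem h l)
  rw [D.mu_val ω (x ^ k) (w ^ k) (by rw [SubgroupClass.coe_pow, SubgroupClass.coe_pow, hxw]) hw', map_pow,
    MonoidHom.pow_apply]

theorem coprime_pred : (Nat.card G - 1).Coprime (Nat.card G) ∧
    (Nat.card G - 1) * (Nat.card G - 1) ≡ 1 [MOD Nat.card G] := by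
  obtain ⟨n, hn⟩ : ∃ n, Nat.card G = n + 1 := ⟨Nat.card G - 1, (Nat.succ_pred_eq_of_pos Nat.card_pos).symm⟩
  rw [hn, Nat.add_sub_cancel]
  refine ⟨by simp, ?_⟩
  rw [Nat.modEq_iff_dvd]
  exact ⟨1 - (n : ℤ), by push_cast; ring⟩

theorem pow_pred (x : G) : x ^ (Nat.card G - 1) = x⁻¹ := by
  refine eq_inv_of_mul_eq_one_left ?_
  rw [← pow_succ, Nat.sub_add_cancel Nat.card_pos, pow_card_eq_one']

theorem hom_pow_pred (ω : ↥(W₁ ⊔ W₂) →* ℂˣ) : ω ^ (Nat.card G - 1) = ω⁻¹ := by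
  refine MonoidHom.ext fun w => ?_
  rw [MonoidHom.pow_apply, MonoidHom.inv_apply, ← map_pow]
  have : w ^ (Nat.card G - 1) = w⁻¹ := Subtype.ext (by
    rw [SubgroupClass.coe_pow, pow_pred hS]; rfl)
  rw [this, map_inv]

theorem eta_conj (i : Row W₁ W₂) (j : Col W₁ W₂) :
    Cfsg.conjFun (D.eta i j) = D.eta i.bar j.bar := by
  obtain ⟨hk, hjk⟩ := coprime_pred hS
  funext g
  have hgen := CoherenceBasic.si_gen (eta_si D hS i j)
  have hinv : conj (D.eta i j g) = D.eta i j g⁻¹ := by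
    rcases eta_si D hS i j with h | h
    · rw [isCharacter_inv (isCharacter_of_isIrrCharacter h)]
    · have := isCharacter_inv (isCharacter_of_isIrrCharacter h) g
      simp only [Pi.neg_apply, map_neg, neg_inj] at this
      rw [this]
  have h := eta_pow D hS hk hjk (i.1 * j.1) g⁻¹
  rw [pow_pred hS, inv_inv, hom_pow_pred hS] at h
  have e2 : (i.1 * j.1)⁻¹ = i.1⁻¹ * j.1⁻¹ := MonoidHom.ext fun w => by
    rw [MonoidHom.inv_apply, MonoidHom.mul_apply, MonoidHom.mul_apply, MonoidHom.inv_apply, MonoidHom.inv_apply, mul_inv]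
  rw [e2] at h
  show conj (D.eta i j g) = D.chi (i.1⁻¹ * j.1⁻¹) g
  rw [h, hinv]
  rfl

theorem mu_conj (i : Row W₁ W₂) (j : Col W₁ W₂) :
    Cfsg.conjFun (D.mu i j) = D.mu i.bar j.bar ∧ D.del j.bar = D.del j := by
  obtain ⟨hk, -⟩ := coprime_pred hS
  obtain ⟨h1, -⟩ := mu_pow D hS hk (i.1 * j.1)
  obtain ⟨-, h2⟩ := mu_pow D hS hk j.1
  rw [hom_pow_pred hS] at h2
  refine ⟨?_, h2⟩
  rw [hom_pow_pred hS] at h1
  have e2 : (i.1 * j.1)⁻¹ = i.1⁻¹ * j.1⁻¹ := MonoidHom.ext fun w => by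
    rw [MonoidHom.inv_apply, MonoidHom.mul_apply, MonoidHom.mul_apply, MonoidHom.inv_apply, MonoidHom.inv_apply, mul_inv]
  rw [e2] at h1
  show _ = D.muRaw (i.1⁻¹ * j.1⁻¹)
  rw [← h1]
  funext x
  show conj (D.muRaw (i.1 * j.1) x) = D.muRaw (i.1 * j.1) (x ^ (Nat.card G - 1))
  rw [← isCharacter_inv (isCharacter_of_isIrrCharacter (D.mu_irr (i.1 * j.1))) x]
  congr 1
  exact Subtype.ext (by rw [SubgroupClass.coe_pow, pow_pred hS]; rfl)

/-- All non-trivial columns are Galois conjugate: same sign, same degrees. -/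
theorem col_galois {j j' : Col W₁ W₂} (hj : j ≠ 1) (hj' : j' ≠ 1) :
    D.del j = D.del j' ∧ ∀ i, ∃ i', D.mu i' j' 1 = D.mu i j 1 := by
  classical
  have hp := hS.prime
  haveI : Fact (Nat.card W₂).Prime := ⟨hp⟩
  obtain ⟨b, hb, hb1⟩ := W₂.bot_or_exists_ne_one.resolve_left hS.selfNorm.2.1
  set wb : ↥(W₁ ⊔ W₂) := ⟨b, Subgroup.mem_sup_right hb⟩ with hwb
  have hgen : ∀ c ∈ W₂, ∃ t : ℕ, c = b ^ t := by
    intro c hc
    have hz : Subgroup.zpowers (⟨b, hb⟩ : W₂) = ⊤ :=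
      zpowers_eq_top_of_prime_card (p := Nat.card W₂) rfl fun h => hb1 (congrArg Subtype.val h)
    have hm : (⟨c, hc⟩ : W₂) ∈ Subgroup.zpowers (⟨b, hb⟩ : W₂) := hz ▸ Subgroup.mem_top _
    obtain ⟨t, ht⟩ := ((isOfFinOrder_of_finite (⟨b, hb⟩ : W₂)).mem_powers_iff_mem_zpowers).2 hm
    exact ⟨t, by
      have := congrArg Subtype.val ht
      simpa using this.symm⟩
  have hcol : ∀ a a' : Col W₁ W₂, a.1 wb = a'.1 wb → a = a' := by
    intro a a' h
    refine Subtype.ext (MonoidHom.ext fun w => ?_)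
    have hd := hdisj hS.selfNorm
    have hc := hcomm hS.selfNorm
    obtain ⟨t, ht⟩ := hgen _ (proj₂_mem hd hc w)
    have e : proj₂ hd hc w = wb ^ t := Subtype.ext (by rw [SubgroupClass.coe_pow]; exact ht)
    rw [← proj_mul hd hc w, map_mul, map_mul, a.2 _ (proj₁_mem hd hc w), a'.2 _ (proj₁_mem hd hc w), e,
      map_pow, map_pow, h]
  have hone : ∀ a : Col W₁ W₂, a.1 wb = 1 → a = 1 := fun a h => hcol a 1 (by rw [h]; rfl)
  -- find the exponent
  have hpow : ((j.1 wb : ℂˣ)) ^ Nat.card W₂ = 1 := by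
    rw [← map_pow, show wb ^ Nat.card W₂ = 1 from Subtype.ext (by
      rw [SubgroupClass.coe_pow, OneMemClass.coe_one]
      exact orderOf_dvd_iff_pow_eq_one.1 (Subgroup.orderOf_dvd_natCard W₂ hb)), map_one]
  have hpow' : ((j'.1 wb : ℂˣ)) ^ Nat.card W₂ = 1 := by
    rw [← map_pow, show wb ^ Nat.card W₂ = 1 from Subtype.ext (by
      rw [SubgroupClass.coe_pow, OneMemClass.coe_one]
      exact orderOf_dvd_iff_pow_eq_one.1 (Subgroup.orderOf_dvd_natCard W₂ hb)), map_one]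
  have hord : orderOf (j.1 wb) = Nat.card W₂ :=
    orderOf_eq_prime hpow fun h => hj (hone j h)
  have hroot : IsPrimitiveRoot ((j.1 wb : ℂˣ) : ℂ) (Nat.card W₂) :=
    IsPrimitiveRoot.coe_units_iff.2 (hord ▸ IsPrimitiveRoot.orderOf _)
  obtain ⟨t, -, ht'⟩ := hroot.eq_pow_of_pow_eq_one (ξ := ((j'.1 wb : ℂˣ) : ℂ))
    (by rw [← Units.val_pow_eq_pow_val, hpow', Units.val_one])
  have ht : (j.1 wb) ^ t = j'.1 wb := Units.ext (by rw [Units.val_pow_eq_pow_val, ht'])
  have htp : ¬ Nat.card W₂ ∣ t := fun h => hj' (hone j' (by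
    rw [← ht, orderOf_dvd_iff_pow_eq_one.1 (hord ▸ h)]))
  obtain ⟨k, hk, hkt⟩ : ∃ k : ℕ, k.Coprime (Nat.card G) ∧ k ≡ t [MOD Nat.card W₂] := by
    set p := Nat.card W₂
    have hG : Nat.card G ≠ 0 := Nat.card_pos.ne'
    obtain ⟨a, m, hm, hGm⟩ := Nat.exists_eq_pow_mul_and_not_dvd hG p hp.ne_one
    have hpm : p.Coprime m := hp.coprime_iff_not_dvd.2 hm
    obtain ⟨k, hk1, hk2⟩ := Nat.chineseRemainder hpm t 1
    refine ⟨k, ?_, hk1⟩
    rw [hGm]
    refine Nat.Coprime.mul_right (Nat.Coprime.pow_right _ ?_) ?_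
    · rw [Nat.coprime_comm, hp.coprime_iff_not_dvd]
      exact fun h => htp ((Nat.ModEq.dvd_iff hk1 dvd_rfl).1 h)
    · rw [Nat.coprime_iff_gcd_eq_one, Nat.ModEq.gcd_eq hk2, Nat.gcd_one_left]
  have hjk : j.1 ^ k = j'.1 := by
    have hk' : (⟨j.1 ^ k, fun w hw => by rw [MonoidHom.pow_apply, j.2 w hw, one_pow]⟩ : Col W₁ W₂) = j' :=
      hcol _ _ (by
        show (j.1 ^ k) wb = _
        rw [MonoidHom.pow_apply, ← ht, pow_eq_pow_iff_modEq, hord]
        exact hkt)
    exact congrArg Subtype.val hk'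
  refine ⟨?_, fun i => ⟨⟨i.1 ^ k, fun w hw => by rw [MonoidHom.pow_apply, i.2 w hw, one_pow]⟩, ?_⟩⟩
  · have := (mu_pow D hS hk j.1).2
    rw [hjk] at this
    exact this.symm
  · obtain ⟨h1, -⟩ := mu_pow D hS hk (i.1 * j.1)
    rw [show (i.1 * j.1) ^ k = i.1 ^ k * j'.1 by
      rw [← hjk]
      exact MonoidHom.ext fun w => by simp [MonoidHom.pow_apply, MonoidHom.mul_apply, mul_pow]] at h1
    show D.muRaw (i.1 ^ k * j'.1) 1 = D.muRaw (i.1 * j.1) 1
    rw [← h1]
    simp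

end Cfsg.Agent.PFPrimeTI
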