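import Mathlib
import Cfsg.Agent.Lib.PFPrimeTIPattern39
import Cfsg.Agent.Lib.PF6Core43
import Cfsg.Agent.Lib.PF6Frob43
import Cfsg.Agent.Lib.DegreeDvd
import Cfsg.Agent.Lib.FourCoherence
import Cfsg.Agent.S1513

/-!
The invariant characters of `M'`, the family induced from `M'`, degrees.
-/

set_option autoImplicit false
set_option linter.unusedSectionVars false
set_option linter.style.haveILetI false

open scoped commutatorElement ComplexConjugate

namespace Cfsg.Agent.PFPrimeTI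

open Cfsg.Agent.CharBasic Cfsg.Agent.CharBasicOrth Cfsg.Agent.CharBasicDecomp
open Cfsg.Agent.CyclicTI

universe u

variable {G : Type u} [Group G] [Fintype G] {M W₁ W₂ : Subgroup G} [Fintype ↥M]

/-- The restriction of the exceptional characters of the column `j` to `M'`. -/
noncomputable def Data.theta (D : Data M W₁ W₂) (j : Col W₁ W₂) : ↥(ker M) → ℂ :=
  fun x => D.mu 1 j (x : ↥M)

/-- The sum of the exceptional characters in the column `j`. -/
noncomputable def Data.rd (D : Data M W₁ W₂) (j : Col W₁ W₂) : ↥M → ℂ := ∑ i, D.mu i j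

/-- The number `|M' : M''|`. -/
noncomputable def abIndex (M : Subgroup G) : ℕ := (⁅ker M, ker M⁆).relIndex (ker M)

/-- The family of degree `|M : M'|`. -/
def linFam (M : Subgroup G) [Fintype ↥M] : Set (↥M → ℂ) :=
  Cfsg.inducedIrrAbove (ker M) ⁅ker M, ker M⁆

noncomputable instance kerFintype (M : Subgroup G) [Fintype ↥M] : Fintype ↥(ker M) := Fintype.ofFinite _

variable (D : Data M W₁ W₂) (hS : Setup M W₁ W₂)

include hS

theorem mu_res (i k : Row W₁ W₂) (j : Col W₁ W₂) (x : ↥(ker M)) :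
    D.mu i j (x : ↥M) = D.mu k j (x : ↥M) := by
  classical
  have hag : ∀ v : ↥(W₁ ⊔ W₂), (v : G) ∈ W₂ → (i.1 * j.1) v = (k.1 * j.1) v := fun v hv => by
    rw [MonoidHom.mul_apply, MonoidHom.mul_apply, i.2 v hv, k.2 v hv]
  have h := congrFun (D.ind_loc _ _ hag) (x : ↥M)
  have h0 : Cfsg.indFun ((W₁ ⊔ W₂).subgroupOf M)
      (CharInduced.toSubgroupOf fun w => ((i.1 * j.1) w : ℂ) - ((k.1 * j.1) w : ℂ)) (x : ↥M) = 0 := by
    rw [CharInduced.indFun_apply, Finset.sum_eq_zero, mul_zero]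
    intro z _
    rw [CharInduced.ext_zero_subgroupOf]
    set y : ↥M := z⁻¹ * (x : ↥M) * z with hy
    by_cases hyW : (y : G) ∈ W₁ ⊔ W₂
    · rw [CharInduced.ext_zero_of_mem _ hyW]
      have hyK : y ∈ ker M := by
        have := (ker_normal M).conj_mem _ x.2 z⁻¹
        rwa [inv_inv] at this
      have h2 : (y : G) ∈ W₂ := by
        have hd := hdisj hS.selfNorm
        have hcm := hcomm hS.selfNorm
        set a : ↥(W₁ ⊔ W₂) := proj₁ hd hcm ⟨y, hyW⟩
        set b : ↥(W₁ ⊔ W₂) := proj₂ hd hcm ⟨y, hyW⟩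
        have hab : (a : G) * (b : G) = (y : G) := by rw [← Subgroup.coe_mul, proj_mul]
        have ha : (a : G) ∈ (⁅M, M⁆ : Subgroup G) ⊓ W₁ := by
          refine ⟨?_, proj₁_mem hd hcm _⟩
          rw [show (a : G) = (y : G) * (b : G)⁻¹ by rw [← hab]; group]
          exact Subgroup.mul_mem _ (mem_ker.1 hyK) (Subgroup.inv_mem _ (W2_le_ker hS (proj₂_mem hd hcm _)))
        rw [hS.compl.2.2.1, Subgroup.mem_bot] at ha
        rw [← hab, ha, one_mul]
        exact proj₂_mem hd hcm _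
      rw [hag _ h2, sub_self]
    · exact CharInduced.ext_zero_of_not_mem _ hyW
  rw [h0, Pi.smul_apply, smul_eq_mul, Pi.sub_apply, eq_comm, mul_eq_zero, sub_eq_zero] at h
  refine h.resolve_left ?_
  rcases D.del_cases (i.1 * j.1) with e | e <;> rw [e] <;> norm_num

theorem mu_res' (i : Row W₁ W₂) (j : Col W₁ W₂) : (fun x : ↥(ker M) => D.mu i j (x : ↥M)) = D.theta j :=
  funext fun x => mu_res D hS i 1 j x

/-- Conjugation fixing by `W₁` and inertia. -/
theorem inertia_eq_top {θ : ↥(ker M) → ℂ} (hθ : Cfsg.IsIrrCharacter ↥(ker M) θ)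
    (h : ∀ x ∈ W₁.subgroupOf M, (fun k : ↥(ker M) => θ ⟨x * k * x⁻¹, (ker_normal M).conj_mem _ k.2 x⟩) = θ) :
    CharInduced.inertia (ker M) θ = ⊤ := by
  rw [eq_top_iff, ← ker_sup hS, sup_le_iff]
  exact ⟨CharInduced.le_inertia _ (CharInduced.isClassFunction_irr hθ), fun x hx => h x hx⟩

theorem inner_theta {θ : ↥(ker M) → ℂ} (i : Row W₁ W₂) (j : Col W₁ W₂) :
    Cfsg.classInner (Cfsg.indFun (ker M) θ) (D.mu i j) = Cfsg.classInner θ (D.theta j) := by
  rw [CharInduced.inner_ind_left (ker M) θ (χ := D.mu i j) (CharInduced.isClassFunction_irr (D.mu_irr (i.1 * j.1))),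
    ← mu_res' D hS i j]

theorem theta_spec (j : Col W₁ W₂) : Cfsg.IsIrrCharacter ↥(ker M) (D.theta j) ∧
    Cfsg.indFun (ker M) (D.theta j) = D.rd j ∧ CharInduced.inertia (ker M) (D.theta j) = ⊤ := by
  classical
  have hc : Cfsg.IsCharacter ↥(ker M) (D.theta j) :=
    CharInduced.isCharacter_res (ker M) (isCharacter_of_isIrrCharacter (D.mu_irr _))
  obtain ⟨θ, hθne⟩ : ∃ θ : Cfsg.IrrCharacter ↥(ker M), Cfsg.classInner (θ : ↥(ker M) → ℂ) (D.theta j) ≠ 0 := by
    by_contra hno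
    simp only [not_exists, not_not] at hno
    have h := congrFun (eq_sum_classInner (isClassFunction_of_isCharacter hc)) 1
    rw [Finset.sum_apply, Finset.sum_eq_zero fun θ _ => by
      rw [Pi.smul_apply, ← conj_classInner, hno θ, map_zero, zero_smul]] at h
    exact isIrrCharacter_apply_one_ne_zero (D.mu_irr _) h
  have hne : ∀ i, Cfsg.classInner (Cfsg.indFun (ker M) (θ : ↥(ker M) → ℂ)) (D.mu i j) ≠ 0 := fun i => by
    rw [inner_theta D hS]; exact hθne
  obtain ⟨h1, -, h3⟩ := S1513.result (ker M) (W₁.subgroupOf M) (W₂.subgroupOf M) (ker_inf hS) (ker_sup hS)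
    (W1_ne' hS) (cyc' hS) (W1_hall' hS) (W2_ne' hS) (cyc2' hS) (W2_le' hS) (cent' hS) (odd_W' hS)
  by_cases hinv : ∀ x ∈ W₁.subgroupOf M,
      (fun k : ↥(ker M) => (θ : ↥(ker M) → ℂ) ⟨x * k * x⁻¹, (ker_normal M).conj_mem _ k.2 x⟩) = θ
  swap
  · exfalso
    push Not at hinv
    have hirr := h1 _ θ.2 hinv
    obtain ⟨i, hi⟩ := exists_row_avoid hS ({1} : Finset (Row W₁ W₂))
      (by rw [Finset.card_singleton]; have := three_le_W1 hS; omega)
    have e1 : Cfsg.indFun (ker M) (θ : ↥(ker M) → ℂ) = D.mu 1 j := by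
      by_contra h; exact hne 1 (classInner_irr_ne hirr (D.mu_irr _) h)
    have e2 : Cfsg.indFun (ker M) (θ : ↥(ker M) → ℂ) = D.mu i j := by
      by_contra h; exact hne i (classInner_irr_ne hirr (D.mu_irr _) h)
    exact mu_ne D hS (fun h => hi (Finset.mem_singleton.2 h.1.symm)) (e1.symm.trans e2)
  obtain ⟨C, hCc, hCirr, hC⟩ := h3 _ θ.2 hinv
  have himg : Finset.univ.image (fun i => D.mu i j) = C := by
    refine Finset.eq_of_subset_of_card_le (fun f hf => ?_) ?_
    · obtain ⟨i, -, rfl⟩ := Finset.mem_image.1 hf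
      by_contra h
      apply hne i
      rw [hC, classInner_sum_left, Finset.sum_eq_zero]
      intro c hc'
      exact classInner_irr_ne (hCirr c hc') (D.mu_irr _) fun e => h (e ▸ hc')
    · rw [hCc, Nat.card_congr (Subgroup.subgroupOfEquivOfLe (W1_le hS)).toEquiv,
        Finset.card_image_of_injective _ (fun a b e => by
          by_contra hab; exact mu_ne D hS (fun h => hab h.1) e), Finset.card_univ, card_row hS]
  have hrd : Cfsg.indFun (ker M) (θ : ↥(ker M) → ℂ) = D.rd j := by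
    rw [hC, ← himg, Finset.sum_image fun a _ b _ e => by
      by_contra hab; exact mu_ne D hS (fun h => hab h.1) e]
    rfl
  have htop := inertia_eq_top hS θ.2 hinv
  have heq : (θ : ↥(ker M) → ℂ) = D.theta j := by
    have h := CharInduced.res_ind_eq_orbit (ker M) (θ : ↥(ker M) → ℂ)
    have ho : CharInduced.orbitFin (ker M) (θ : ↥(ker M) → ℂ) = {(θ : ↥(ker M) → ℂ)} := by
      refine Finset.eq_singleton_iff_unique_mem.2 ⟨CharInduced.self_mem_orbitFin _ _, fun φ hφ => ?_⟩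
      obtain ⟨g, rfl⟩ := (CharInduced.mem_orbitFin _).1 hφ
      exact (CharInduced.mem_inertia _).1 (htop ▸ Subgroup.mem_top g)
    rw [ho, htop, Finset.sum_singleton] at h
    have hq : (Nat.card ↥(⊤ : Subgroup ↥M) : ℂ) / Nat.card ↥(ker M) = Nat.card W₁ := by
      rw [Subgroup.card_top, ← (ker M).index_mul_card, ker_index hS, Nat.cast_mul,
        mul_div_cancel_right₀ _ (Nat.cast_ne_zero.2 Nat.card_pos.ne')]
    rw [hq, hrd] at h
    funext x
    have hx := congrFun h x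
    simp only [Data.rd, Finset.sum_apply, mu_res D hS _ 1 j, Finset.sum_const, Finset.card_univ, card_row hS,
      nsmul_eq_mul, Pi.smul_apply, smul_eq_mul] at hx
    exact (mul_left_cancel₀ (Nat.cast_ne_zero.2 Nat.card_pos.ne') hx).symm
  rw [← heq]
  exact ⟨θ.2, hrd, htop⟩

theorem rd_inner (i : Row W₁ W₂) (j k : Col W₁ W₂) [Decidable (k = j)] :
    Cfsg.classInner (D.mu i k) (D.rd j) = if k = j then 1 else 0 := by
  classical
  rw [Data.rd, classInner_sum_right]
  simp only [mu_inner D hS]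
  split
  · next h => subst h; simp
  · next h => simp [h]

theorem rd_inj {j k : Col W₁ W₂} (h : D.rd j = D.rd k) : j = k := by
  classical
  have := rd_inner D hS 1 j j
  rw [h, rd_inner D hS, if_pos rfl] at this
  by_contra hne
  rw [if_neg hne] at this
  exact one_ne_zero this.symm

theorem theta_inj {j k : Col W₁ W₂} (h : D.theta j = D.theta k) : j = k :=
  rd_inj D hS (by rw [← (theta_spec D hS j).2.1, h, (theta_spec D hS k).2.1])

theorem theta_one : D.theta 1 = fun _ => 1 := by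
  funext x
  show D.mu 1 1 (x : ↥M) = 1
  rw [(mu_one D hS).1]

/-- An irreducible character of `M'` is one of the `θ_j`, or induces irreducibly. -/
theorem theta_or_irr {θ : ↥(ker M) → ℂ} (hθ : Cfsg.IsIrrCharacter ↥(ker M) θ) :
    (∃ j, θ = D.theta j) ∨ Cfsg.IsIrrCharacter ↥M (Cfsg.indFun (ker M) θ) := by
  classical
  obtain ⟨h1, h2, -⟩ := S1513.result (ker M) (W₁.subgroupOf M) (W₂.subgroupOf M) (ker_inf hS) (ker_sup hS)
    (W1_ne' hS) (cyc' hS) (W1_hall' hS) (W2_ne' hS) (cyc2' hS) (W2_le' hS) (cent' hS) (odd_W' hS)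
  by_cases hinv : ∀ x ∈ W₁.subgroupOf M,
      (fun k : ↥(ker M) => θ ⟨x * k * x⁻¹, (ker_normal M).conj_mem _ k.2 x⟩) = θ
  · left
    haveI := finite_irrCharacter (G := ↥(ker M))
    let f : Col W₁ W₂ → {θ : Cfsg.IrrCharacter ↥(ker M) // ∀ x ∈ W₁.subgroupOf M,
        (fun k : ↥(ker M) => (θ : ↥(ker M) → ℂ) ⟨x * k * x⁻¹, (ker_normal M).conj_mem _ k.2 x⟩) = θ} :=
      fun j => ⟨⟨D.theta j, (theta_spec D hS j).1⟩, fun x _ =>
        (CharInduced.mem_inertia _).1 (by rw [(theta_spec D hS j).2.2]; exact Subgroup.mem_top x)⟩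
    have hf : Function.Injective f := fun a b e =>
      theta_inj D hS (congrArg (fun z => ((z.1 : Cfsg.IrrCharacter ↥(ker M)) : ↥(ker M) → ℂ)) e)
    have hbij : Function.Bijective f :=
      hf.bijective_of_nat_card_le (le_of_eq (by
        rw [h2, Nat.card_eq_fintype_card (α := Col W₁ W₂), card_col hS,
          Nat.card_congr (Subgroup.subgroupOfEquivOfLe ((W2_le_ker hS).trans commutator_le)).toEquiv]))
    obtain ⟨j, hj⟩ := hbij.2 ⟨⟨θ, hθ⟩, hinv⟩
    exact ⟨j, (congrArg (fun z => ((z.1 : Cfsg.IrrCharacter ↥(ker M)) : ↥(ker M) → ℂ)) hj).symm⟩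
  · right
    push Not at hinv
    exact h1 _ hθ hinv

theorem solv_ker : Group.IsSolvable ↥(ker M) := by
  haveI := hS.solv
  infer_instance

theorem ker_ne_bot : ker M ≠ ⊥ := fun h =>
  W2_ne' hS (le_bot_iff.1 ((W2_le' hS).trans h.le))

theorem commutator_ker_lt : ⁅ker M, ker M⁆ < ker M := by
  haveI := solv_ker hS
  haveI : Nontrivial ↥(ker M) := (Subgroup.nontrivial_iff_ne_bot _).2 (ker_ne_bot hS)
  refine lt_of_le_of_ne (Subgroup.commutator_le_right _ _) fun h => ?_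
  refine (Group.IsSolvable.commutator_lt_top_of_nontrivial ↥(ker M)).ne ?_
  apply Subgroup.map_injective (ker M).subtype_injective
  rw [Subgroup.map_subtype_commutator, h, ← MonoidHom.range_eq_map, Subgroup.range_subtype]

theorem W2_le_commutator : W₂.subgroupOf M ≤ ⁅ker M, ker M⁆ := by
  intro x hx
  have h := hS.W2_le (Subgroup.mem_subgroupOf.1 hx)
  have e : (⁅⁅M, M⁆, ⁅M, M⁆⁆ : Subgroup G) = (⁅ker M, ker M⁆ : Subgroup ↥M).map M.subtype := by
    rw [Subgroup.map_commutator, ker, Subgroup.map_subgroupOf_eq_of_le commutator_le]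
  rw [e] at h
  obtain ⟨y, hy, hyx⟩ := h
  rwa [← Subtype.ext hyx]

/-- The degree `d` of the non-trivial invariant characters, its sign, and `n = (d − δ)/q`. -/
theorem degrees : ∃ (d : ℕ) (s : ℤ) (n : ℤ), (s = 1 ∨ s = -1) ∧ (d : ℤ) = s + n * Nat.card W₁ ∧
    Even n ∧ 1 ≤ n ∧ Odd d ∧ 2 * Nat.card W₁ ≤ d + 1 ∧
    ∀ j : Col W₁ W₂, j ≠ 1 → D.del j = (s : ℂ) ∧ ∀ i, D.mu i j 1 = (d : ℂ) := by
  classical
  obtain ⟨j₀, hj₀⟩ := exists_col_avoid hS ({1} : Finset (Col W₁ W₂))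
    (by rw [Finset.card_singleton]; have := three_le_W2 hS; omega)
  rw [Finset.mem_singleton] at hj₀
  obtain ⟨d, hdpos, hd⟩ := isIrrCharacter_apply_one (theta_spec D hS j₀).1
  have hdeg : ∀ j : Col W₁ W₂, j ≠ 1 → D.del j = D.del j₀ ∧ ∀ i, D.mu i j 1 = (d : ℂ) := by
    intro j hj
    obtain ⟨h1, h2⟩ := col_galois D hS hj hj₀
    refine ⟨h1, fun i => ?_⟩
    obtain ⟨i', hi'⟩ := h2 i
    rw [← hi', ← hd]
    exact mu_res D hS i' 1 j₀ 1
  obtain ⟨s, hs, hsC⟩ : ∃ s : ℤ, (s = 1 ∨ s = -1) ∧ D.del j₀ = (s : ℂ) := by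
    rcases D.del_cases j₀.1 with e | e
    · exact ⟨1, Or.inl rfl, by rw [Data.del, e]; simp⟩
    · exact ⟨-1, Or.inr rfl, by rw [Data.del, e]; simp⟩
  obtain ⟨n, hn⟩ := D.congr_deg j₀.1
  have hdn : (d : ℤ) = s + n * Nat.card W₁ := by
    have h1 : D.muRaw j₀.1 1 = (d : ℂ) := by
      rw [← (hdeg j₀ hj₀).2 1]
      show _ = D.muRaw (1 * j₀.1) 1
      rw [hom_one_mul]
    rw [h1, show D.delRaw j₀.1 = (s : ℂ) from hsC] at hn
    have : ((d : ℤ) : ℂ) = ((s + n * Nat.card W₁ : ℤ) : ℂ) := by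
      push_cast; linear_combination hn
    exact_mod_cast this
  have hodd : Odd d := by
    obtain ⟨dd, ρ, hρ, hρe⟩ := id (theta_spec D hS j₀).1
    have hdvd := DegreeDvd.finrank_dvd_card ρ
    have hfr : ((Module.finrank ℂ (Fin dd → ℂ) : ℕ) : ℂ) = (d : ℂ) := by
      rw [← hd, ← hρe, Representation.char_one]
    rw [Nat.cast_inj] at hfr
    rw [hfr] at hdvd
    exact ((odd_M hS).of_dvd_nat (Subgroup.card_subgroup_dvd_card _)).of_dvd_nat hdvd
  have hne1 : d ≠ 1 := by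
    intro h1
    obtain ⟨lam, hlam⟩ := CharBasicLinear.exists_hom_of_apply_one_eq_one (isCharacter_of_isIrrCharacter (D.mu_irr (1 * j₀.1)))
      (by show D.mu 1 j₀ 1 = 1; rw [(hdeg j₀ hj₀).2 1, h1, Nat.cast_one])
    obtain ⟨a, ha, ha1⟩ := W₁.bot_or_exists_ne_one.resolve_left hS.selfNorm.1
    apply hj₀
    refine Subtype.ext (MonoidHom.ext fun w => ?_)
    have hd' := hdisj hS.selfNorm
    have hc' := hcomm hS.selfNorm
    show j₀.1 w = 1
    rw [← proj_mul hd' hc' w, map_mul, j₀.2 _ (proj₁_mem hd' hc' w), one_mul]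
    set b := proj₂ hd' hc' w
    have hb : (b : G) ∈ W₂ := proj₂_mem hd' hc' w
    have hker : lam ⟨b, W_le hS b.2⟩ = 1 := by
      have hmem : (⟨b, W_le hS b.2⟩ : ↥M) ∈ W₂.subgroupOf M := Subgroup.mem_subgroupOf.2 hb
      have hle : (⁅ker M, ker M⁆ : Subgroup ↥M) ≤ lam.ker := by
        rw [Subgroup.commutator_le]
        intro x _ y _
        simp [MonoidHom.mem_ker, commutatorElement_def, mul_comm, mul_left_comm]
      exact hle (W2_le_commutator hS hmem)
    set wa : ↥(W₁ ⊔ W₂) := ⟨a, Subgroup.mem_sup_left ha⟩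
    have hna : a ∉ W₂ := fun h => ha1 (by
      have : a ∈ W₁ ⊓ W₂ := ⟨ha, h⟩
      rwa [hS.selfNorm.2.2.1, Subgroup.mem_bot] at this)
    have hnab : ((wa * b : ↥(W₁ ⊔ W₂)) : G) ∉ W₂ := fun h => hna (by
      simpa [wa] using W₂.mul_mem h (W₂.inv_mem hb))
    have e1 := mu_apply D hS 1 j₀ ⟨a, W_le hS wa.2⟩ wa rfl hna
    have e2 := mu_apply D hS 1 j₀ ⟨_, W_le hS (wa * b).2⟩ (wa * b) rfl hnab
    rw [j₀.2 wa ha] at e1
    rw [map_mul, map_mul, j₀.2 wa ha, one_mul] at e2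
    have hμ : ∀ x : ↥M, D.mu 1 j₀ x = (lam x : ℂ) := fun x => congrFun hlam x
    rw [hμ] at e1 e2
    rw [show (⟨_, W_le hS (wa * b).2⟩ : ↥M) = ⟨a, W_le hS wa.2⟩ * ⟨b, W_le hS b.2⟩ from rfl, map_mul, hker,
      mul_one, e1] at e2
    simp only [show ((1 : Row W₁ W₂).1 : ↥(W₁ ⊔ W₂) →* ℂˣ) = 1 from rfl, MonoidHom.one_apply, one_mul,
      Units.val_one, mul_one] at e2
    refine Units.ext ?_
    rw [Units.val_one]
    have hdne : D.del j₀ ≠ 0 := by rw [hsC]; rcases hs with rfl | rfl <;> norm_num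
    exact mul_left_cancel₀ hdne (e2.symm.trans (mul_one _).symm)
  have hqodd : Odd (Nat.card W₁ : ℤ) := by
    have : Odd (Nat.card W₁) := hS.hodd.of_dvd_nat (Subgroup.card_subgroup_dvd_card _)
    exact_mod_cast this
  have hev : Even n := by
    have hsum : Even (n * (Nat.card W₁ : ℤ)) := by
      rw [show n * (Nat.card W₁ : ℤ) = (d : ℤ) - s by omega]
      have : Odd (d : ℤ) := by exact_mod_cast hodd
      rcases hs with rfl | rfl <;> exact this.sub_odd (by decide)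
    rcases Int.even_mul.1 hsum with h | h
    · exact h
    · exact absurd h (Int.not_even_iff_odd.2 hqodd)
  have hn0 : 1 ≤ n := by
    by_contra h
    rcases (show n = 0 ∨ n ≤ -1 by omega) with e | e
    · subst e; rcases hs with rfl | rfl <;> omega
    · have h3 := three_le_W1 hS
      have : n * (Nat.card W₁ : ℤ) ≤ -3 := by
        have : (3 : ℤ) ≤ Nat.card W₁ := by exact_mod_cast h3
        nlinarith
      rcases hs with rfl | rfl <;> omega
  have hn2 : 2 ≤ n := by obtain ⟨k, hk⟩ := hev; omega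
  refine ⟨d, s, n, hs, hdn, hev, hn0, hodd, ?_, fun j hj => ⟨(hdeg j hj).1.trans hsC, (hdeg j hj).2⟩⟩
  have : 2 * (Nat.card W₁ : ℤ) ≤ n * (Nat.card W₁ : ℤ) :=
    mul_le_mul_of_nonneg_right hn2 (by positivity)
  rcases hs with rfl | rfl <;> omega

end Cfsg.Agent.PFPrimeTI
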