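import Mathlib
import Cfsg.Agent.Lib.PFPrimeTICols39
import Cfsg.Agent.Lib.CharInducedTI

/-!
The family induced from `M'`, induction on it, and the coherence system.
-/

set_option autoImplicit false
set_option linter.unusedSectionVars false
set_option linter.style.haveILetI false

open scoped commutatorElement ComplexConjugate

namespace Cfsg.Agent.PFPrimeTI

open Cfsg.Agent.CharBasic Cfsg.Agent.CharBasicOrth Cfsg.Agent.CharBasicDecomp
open Cfsg.Agent.CoherenceBasic

universe u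

variable {G : Type u} [Group G] [Fintype G] {M W₁ W₂ : Subgroup G} [Fintype ↥M]

/-- Induction to `G`. -/
noncomputable abbrev tau (M : Subgroup G) : (↥M → ℂ) → (G → ℂ) := fun α => Cfsg.indFun M α

theorem grid_pair {I J : Type*} [Fintype I] [Fintype J] [DecidableEq I] [DecidableEq J]
    (hI : 3 ≤ Fintype.card I) (A : I → ℤ) (B : J → ℤ) (j₁ : J) (hB : B j₁ = 0) (i : I) {j j' : J}
    (hjj' : j ≠ j') (hj : j₁ ≠ j) (hj' : j₁ ≠ j') {t : ℤ} (ht : t = 1 ∨ t = -1)
    (h : ∑ x : I × J, (A x.1 + B x.2 + if x.1 = i then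
      (if x.2 = j then t else 0) - (if x.2 = j' then t else 0) else 0) ^ 2 ≤ 2) :
    A = 0 ∧ B = 0 := by
  set e : I → J → ℤ := fun a b => A a + B b + if a = i then
    (if b = j then t else 0) - (if b = j' then t else 0) else 0 with he
  have hsum : ∀ s : Finset (I × J), ∑ x ∈ s, e x.1 x.2 ^ 2 ≤ 2 := fun s =>
    (Finset.sum_le_sum_of_subset_of_nonneg (Finset.subset_univ s) fun x _ _ => sq_nonneg _).trans h
  have hne : ∀ z : ℤ, z ≠ 0 → 1 ≤ z ^ 2 := fun z hz => by
    have := sq_pos_of_ne_zero hz; omega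
  have he0 : ∀ a b, a ≠ i → e a b = A a + B b := fun a b ha => by simp [he, ha]
  have hrows : ∀ a a', a ≠ i → a' ≠ i → A a = A a' := by
    intro a a' ha ha'
    by_contra hne'
    have hb : ∀ b, 1 ≤ e a b ^ 2 + e a' b ^ 2 := fun b => by
      rw [he0 a b ha, he0 a' b ha']
      by_cases h0 : A a + B b = 0
      · have := hne (A a' + B b) (by omega)
        nlinarith
      · have := hne _ h0
        nlinarith
    have haa : a ≠ a' := fun e => hne' (e ▸ rfl)
    have h3 := hsum (({a, a'} : Finset I) ×ˢ ({j₁, j, j'} : Finset J))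
    rw [Finset.sum_product_right, Finset.sum_insert (by simp [hj, hj']), Finset.sum_pair hjj',
      Finset.sum_pair haa, Finset.sum_pair haa, Finset.sum_pair haa] at h3
    have := hb j₁; have := hb j; have := hb j'
    linarith
  obtain ⟨a, ha⟩ : ∃ a, a ≠ i := Fintype.exists_ne_of_one_lt_card (by omega) i
  obtain ⟨a', ha', haa'⟩ : ∃ a', a' ≠ i ∧ a ≠ a' := by
    have hc : 1 ≤ ((Finset.univ.erase i).erase a).card := by
      rw [Finset.card_erase_of_mem (Finset.mem_erase.2 ⟨ha, Finset.mem_univ _⟩),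
        Finset.card_erase_of_mem (Finset.mem_univ _), Finset.card_univ]
      omega
    obtain ⟨a', ha'⟩ := Finset.card_pos.1 hc
    simp only [Finset.mem_erase] at ha'
    exact ⟨a', ha'.2.1, fun e => ha'.1 e.symm⟩
  set f : J → ℤ := fun b => A a + B b with hf
  have hrowi : ∀ b, e i b = A i - A a + f b + ((if b = j then t else 0) - (if b = j' then t else 0)) :=
    fun b => by simp [he, hf]; ring
  have hf2 : ∀ b, e a b = f b ∧ e a' b = f b := fun b =>
    ⟨he0 a b ha, by rw [he0 a' b ha', hrows a' a ha' ha]⟩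
  have hfzero : ∀ b, f b = 0 := by
    intro b
    by_contra hb
    have hrow : ∀ c, e i c = 0 := by
      intro c
      by_contra hc
      have h3 := hsum {(a, b), (a', b), (i, c)}
      rw [Finset.sum_insert (by simp [haa', ha]), Finset.sum_pair (by simp [ha']), (hf2 b).1, (hf2 b).2] at h3
      have := hne _ hb; have := hne _ hc
      linarith
    have honly : ∀ c, c ≠ b → f c = 0 := by
      intro c hc
      by_contra h0
      have h3 := hsum {(a, b), (a', b), (a, c)}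
      rw [Finset.sum_insert (by simp [haa', hc.symm]), Finset.sum_pair (by simp [Ne.symm haa']), (hf2 b).1,
        (hf2 b).2, (hf2 c).1] at h3
      have := hne _ hb; have := hne _ h0
      linarith
    have r1 := hrow j₁; have r2 := hrow j; have r3 := hrow j'
    rw [hrowi] at r1 r2 r3
    simp only [hj, hj', hjj', Ne.symm hjj', if_true, if_false, sub_zero, zero_sub, add_zero] at r1 r2 r3
    by_cases e1 : b = j₁
    · subst e1
      rw [honly j hj.symm] at r2; rw [honly j' hj'.symm] at r3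
      rcases ht with rfl | rfl <;> omega
    · rw [honly j₁ (Ne.symm e1)] at r1
      by_cases e2 : b = j
      · subst e2
        rw [honly j' hjj'.symm] at r3
        rcases ht with rfl | rfl <;> omega
      · rw [honly j (Ne.symm e2)] at r2
        rcases ht with rfl | rfl <;> omega
  have hA0 : A a = 0 := by have := hfzero j₁; simp [hf, hB] at this; exact this
  have hB0 : B = 0 := funext fun b => by have := hfzero b; simp [hf, hA0] at this; simp [this]
  have hAi : A i = 0 := by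
    have h3 := hsum {(i, j₁), (i, j), (i, j')}
    rw [Finset.sum_insert (by simp [hj, hj']), Finset.sum_pair (by simp [hjj']), hrowi, hrowi, hrowi, hfzero,
      hfzero, hfzero, hA0] at h3
    simp only [hj, hj', hjj', Ne.symm hjj', if_true, if_false, sub_zero, zero_sub, add_zero] at h3
    rcases ht with rfl | rfl <;>
      · have : A i ^ 2 = 0 := le_antisymm (by nlinarith) (sq_nonneg _)
        exact pow_eq_zero_iff (n := 2) (by norm_num) |>.1 this
  exact ⟨funext fun b => by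
    by_cases hb : b = i
    · rw [hb, hAi]; rfl
    · rw [hrows b a hb ha, hA0]; rfl, hB0⟩

theorem ind_linearity_sub (α β : ↥M → ℂ) : tau M (α - β) = tau M α - tau M β := CharInduced.ind_sub M α β

variable (D : Data M W₁ W₂) (hS : Setup M W₁ W₂)

include hS

theorem supported_of {α : ↥M → ℂ} (hc : Cfsg.IsClassFunction ↥M α) (h1 : α 1 = 0)
    (hW : ∀ x : ↥M, (x : G) ∈ W₁ → x ≠ 1 → α x = 0) : Supported M W₁ W₂ α := by
  refine ⟨hc, fun x hx => ?_⟩
  by_cases hk : x ∈ ker M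
  · by_cases hx1 : x = 1
    · rw [hx1, h1]
    · exact absurd (ker_mem_supp hS hk hx1) hx
  rcases ker_sup_supp hS x hk with h | ⟨m, hm, w, hw, hw1, e⟩
  · exact absurd h hx
  have e' : x = (⟨m, hm⟩ : ↥M) * ⟨w, W1_le hS hw⟩ * (⟨m, hm⟩ : ↥M)⁻¹ := Subtype.ext e
  rw [e', hc _ _]
  exact hW _ hw fun h => hw1 (congrArg Subtype.val h)

theorem supported_of_ker {α : ↥M → ℂ} (hc : Cfsg.IsClassFunction ↥M α) (h1 : α 1 = 0)
    (hk : ∀ x, x ∉ ker M → α x = 0) : Supported M W₁ W₂ α :=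
  supported_of hS hc h1 fun x hx hx1 => hk x fun h => hx1 (by
    have : (x : G) ∈ (⁅M, M⁆ : Subgroup G) ⊓ W₁ := ⟨mem_ker.1 h, hx⟩
    rw [hS.compl.2.2.1, Subgroup.mem_bot] at this
    exact Subtype.ext this)

theorem not_mem_W2 {x : G} (hx : x ∈ W₁) (hx1 : x ≠ 1) : x ∉ W₂ := fun h => hx1 (by
  have : x ∈ W₁ ⊓ W₂ := ⟨hx, h⟩
  rwa [hS.selfNorm.2.2.1, Subgroup.mem_bot] at this)

theorem mu_W1 (i : Row W₁ W₂) (j : Col W₁ W₂) (x : ↥M) (hx : (x : G) ∈ W₁) (hx1 : x ≠ 1) :
    D.mu i j x = D.del j * (i.1 ⟨x, Subgroup.mem_sup_left hx⟩ : ℂ) := by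
  rw [mu_apply D hS i j x ⟨x, Subgroup.mem_sup_left hx⟩ rfl
    (not_mem_W2 hS hx fun h => hx1 (Subtype.ext h)), j.2 _ hx, Units.val_one, mul_one]

omit hS in
theorem mu_gen (i : Row W₁ W₂) (j : Col W₁ W₂) : Cfsg.IsGeneralizedCharacter ↥M (D.mu i j) :=
  isGeneralizedCharacter_of_isCharacter (isCharacter_of_isIrrCharacter (D.mu_irr _))

theorem row_bar_bar (i : Row W₁ W₂) : i.bar.bar = i :=
  Subtype.ext (MonoidHom.ext fun w => by simp [Row.bar])

theorem col_bar_bar (j : Col W₁ W₂) : j.bar.bar = j :=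
  Subtype.ext (MonoidHom.ext fun w => by simp [Col.bar])

theorem hom_sq_eq_one {ω : ↥(W₁ ⊔ W₂) →* ℂˣ} (h : ∀ w, ω w * ω w = 1) : ω = 1 := by
  refine MonoidHom.ext fun w => ?_
  have h2 : orderOf (ω w) ∣ 2 := orderOf_dvd_of_pow_eq_one (by rw [sq]; exact h w)
  have h3 : orderOf (ω w) ∣ Nat.card ↥(W₁ ⊔ W₂) := (orderOf_map_dvd ω w).trans (orderOf_dvd_natCard w)
  rcases (Nat.dvd_prime Nat.prime_two).1 h2 with e | e
  · exact orderOf_eq_one_iff.1 e
  · rw [e] at h3
    exact absurd ((odd_W hS).of_dvd_nat h3) (by decide)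

theorem col_bar_ne {j : Col W₁ W₂} (hj : j ≠ 1) : j.bar ≠ j := fun e => hj (Subtype.ext (hom_sq_eq_one hS fun w => by
  have := DFunLike.congr_fun (congrArg Subtype.val e) w
  simp only [Col.bar, MonoidHom.inv_apply] at this
  rw [← inv_mul_cancel (j.1 w), this]))

theorem col_bar_ne_one {j : Col W₁ W₂} (hj : j ≠ 1) : j.bar ≠ 1 := fun e => hj (by
  rw [← col_bar_bar hS j, e]
  exact Subtype.ext (MonoidHom.ext fun w => by simp [Col.bar, show ((1 : Col W₁ W₂).1) = 1 from rfl]))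

theorem conj_rd (j : Col W₁ W₂) : Cfsg.conjFun (D.rd j) = D.rd j.bar := by
  classical
  funext x
  show conj ((∑ i, D.mu i j) x) = (∑ i, D.mu i j.bar) x
  rw [Finset.sum_apply, Finset.sum_apply, map_sum]
  refine Finset.sum_bij' (fun i _ => i.bar) (fun i _ => i.bar) (fun _ _ => Finset.mem_univ _)
    (fun _ _ => Finset.mem_univ _) (fun i _ => row_bar_bar hS i) (fun i _ => row_bar_bar hS i) fun i _ => ?_
  exact congrFun (mu_conj D hS i j).1 x

theorem rd_self (j : Col W₁ W₂) : Cfsg.classInner (D.rd j) (D.rd j) = (Nat.card W₁ : ℂ) := by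
  classical
  show Cfsg.classInner (∑ i, D.mu i j) (D.rd j) = _
  rw [classInner_sum_left, Finset.sum_congr rfl fun i _ => rd_inner D hS i j j]
  simp [card_row hS]

theorem rd_not_irr (j : Col W₁ W₂) : ¬ Cfsg.IsIrrCharacter ↥M (D.rd j) := fun h => by
  have h1 := rd_self D hS j
  rw [classInner_irr_self h] at h1
  have h3 : Nat.card W₁ = 1 := by exact_mod_cast h1.symm
  have := three_le_W1 hS
  omega

/-- The members of the family. -/
theorem mem_cases {φ : ↥M → ℂ} (hφ : φ ∈ Cfsg.inducedIrrAbove (ker M) ⊥) :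
    (∃ j, j ≠ 1 ∧ φ = D.rd j) ∨ (Cfsg.IsIrrCharacter ↥M φ ∧ (∀ j, φ ≠ D.rd j) ∧
      ∀ i j, Cfsg.classInner φ (D.mu i j) = 0) := by
  obtain ⟨θ, hθ, h1, -, rfl⟩ := hφ
  by_cases hj : ∃ j, θ = D.theta j
  · obtain ⟨j, rfl⟩ := hj
    exact Or.inl ⟨j, fun e => h1 (by rw [e, theta_one D hS]), (theta_spec D hS j).2.1⟩
  have hirr : Cfsg.IsIrrCharacter ↥M (Cfsg.indFun (ker M) θ) :=
    (theta_or_irr D hS hθ).resolve_left hj
  refine Or.inr ⟨hirr, fun j e => rd_not_irr D hS j (e ▸ hirr), fun i j => ?_⟩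
  rw [inner_theta D hS]
  exact classInner_irr_ne hθ (theta_spec D hS j).1 fun e => hj ⟨j, e⟩

theorem rd_mem {j : Col W₁ W₂} (hj : j ≠ 1) : D.rd j ∈ Cfsg.inducedIrrAbove (ker M) ⊥ :=
  ⟨D.theta j, (theta_spec D hS j).1, fun e => hj (theta_inj D hS (e.trans (theta_one D hS).symm)),
    fun a ha => by rw [show a = 1 from Subtype.ext (Subgroup.mem_bot.1 ha)], ((theta_spec D hS j).2.1).symm⟩

theorem redChars_eq : redChars M = {φ | ∃ j, j ≠ 1 ∧ φ = D.rd j} := by
  ext φ
  constructor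
  · rintro ⟨h1, h2⟩
    exact (mem_cases D hS h1).resolve_right fun h => h2 h.1
  · rintro ⟨j, hj, rfl⟩
    exact ⟨rd_mem D hS hj, rd_not_irr D hS j⟩

omit hS in
theorem mem_vanish {φ : ↥M → ℂ} (hφ : φ ∈ Cfsg.inducedIrrAbove (ker M) ⊥) (x : ↥M) (hx : x ∉ ker M) :
    φ x = 0 := by
  obtain ⟨θ, -, -, -, rfl⟩ := hφ
  exact CharInduced.ind_normal_eq_zero _ θ hx

omit hS in
theorem mem_char {φ : ↥M → ℂ} (hφ : φ ∈ Cfsg.inducedIrrAbove (ker M) ⊥) : Cfsg.IsCharacter ↥M φ := by
  obtain ⟨θ, hθ, rfl⟩ := PF6.mem_induced.1 hφ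
  exact PF6.ind_isCharacter _ θ

theorem mem_conj_ne {φ : ↥M → ℂ} (hφ : φ ∈ Cfsg.inducedIrrAbove (ker M) ⊥) : Cfsg.conjFun φ ≠ φ := by
  obtain ⟨D'⟩ := exists_data hS
  rcases mem_cases D' hS hφ with ⟨j, hj, rfl⟩ | ⟨hirr, -, -⟩
  · rw [conj_rd D' hS]
    exact fun e => col_bar_ne hS hj (rd_inj D' hS e)
  · intro hc
    have h1 : φ = fun _ => 1 :=
      FourCoherence.eq_one_of_real (odd_M hS) ⟨φ, hirr⟩ (fun x => congrFun hc x)
    obtain ⟨a, ha, ha1⟩ := W₁.bot_or_exists_ne_one.resolve_left hS.selfNorm.1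
    have h0 := mem_vanish hφ ⟨a, W1_le hS ha⟩ fun h => ha1 (by
      have : a ∈ (⁅M, M⁆ : Subgroup G) ⊓ W₁ := ⟨mem_ker.1 h, ha⟩
      rwa [hS.compl.2.2.1, Subgroup.mem_bot] at this)
    rw [h1] at h0
    exact one_ne_zero h0

theorem mem_orth {φ χ : ↥M → ℂ} (hφ : φ ∈ Cfsg.inducedIrrAbove (ker M) ⊥)
    (hχ : χ ∈ Cfsg.inducedIrrAbove (ker M) ⊥) (h : φ ≠ χ) : Cfsg.classInner φ χ = 0 := by
  obtain ⟨θ, hθ, -, -, rfl⟩ := hφ
  obtain ⟨θ', hθ', -, -, rfl⟩ := hχ
  exact CharInduced.classInner_ind_ind_eq_zero _ hθ hθ' fun hm =>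
    h ((CharInduced.ind_eq_iff_mem_orbit _ hθ hθ').2 hm).symm

theorem span_supported {α : ↥M → ℂ}
    (hα : α ∈ Cfsg.zspanOn (Cfsg.inducedIrrAbove (ker M) ⊥) {1}ᶜ) : Supported M W₁ W₂ α := by
  obtain ⟨h, h1⟩ := hα
  refine supported_of_ker hS (isClassFunction_of_isGeneralizedCharacter (isClassFunction_zspan (fun φ hφ => mem_char hφ) h))
    (h1 1 (by simp)) ?_
  exact zspan_induction (P := fun a => ∀ x, x ∉ ker M → a x = 0) (fun a ha => mem_vanish ha) (fun x _ => rfl)
    (fun a b _ _ ha hb x hx => by simp [ha x hx, hb x hx]) (fun n a _ ha x hx => by simp [ha x hx]) h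

theorem span_gen {α : ↥M → ℂ} (hα : α ∈ Cfsg.zspan (Cfsg.inducedIrrAbove (ker M) ⊥)) :
    Cfsg.IsGeneralizedCharacter ↥M α :=
  isClassFunction_zspan (fun φ hφ => mem_char hφ) hα

theorem tau_iso : Cfsg.IsLinearIsometryOn (Cfsg.zspanOn (Cfsg.inducedIrrAbove (ker M) ⊥) {1}ᶜ) (tau M) :=
  ⟨fun α _ β _ => CharInduced.ind_add M α β, fun α _ n => by
    show Cfsg.indFun M (n • α) = n • Cfsg.indFun M α
    rw [← Int.cast_smul_eq_zsmul ℂ, CharInduced.ind_smul, Int.cast_smul_eq_zsmul],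
    fun _ hα _ hβ => ind_inner hS (span_supported hS hα) (span_supported hS hβ),
    fun _ hα => CharInduced.isGenChar_ind M (span_gen hS hα.1)⟩

theorem tau_one {α : ↥M → ℂ} (hα : α ∈ Cfsg.zspanOn (Cfsg.inducedIrrAbove (ker M) ⊥) {1}ᶜ) :
    tau M α 1 = 0 := ind_apply_one hS (span_supported hS hα)

/-- `τ` of a supported function keeps the values on `W - W₁ - W₂`. -/
theorem tau_W {α : ↥M → ℂ} (hα : Supported M W₁ W₂ α) (w : ↥(W₁ ⊔ W₂)) (h1 : (w : G) ∉ W₁)
    (h2 : (w : G) ∉ W₂) : tau M α w = α ⟨w, W_le hS w.2⟩ :=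
  ind_apply hS hα ⟨w, W_le hS w.2⟩ (W_mem_supp hS w.2 h1 h2)

theorem W_not_ker (w : ↥(W₁ ⊔ W₂)) (h2 : (w : G) ∉ W₂) : (⟨w, W_le hS w.2⟩ : ↥M) ∉ ker M := by
  intro h
  have hd := CyclicTI.hdisj hS.selfNorm
  have hcm := CyclicTI.hcomm hS.selfNorm
  have hab : (CyclicTI.proj₁ hd hcm w : G) * (CyclicTI.proj₂ hd hcm w : G) = (w : G) := by
    rw [← Subgroup.coe_mul, CyclicTI.proj_mul]
  have ha : (CyclicTI.proj₁ hd hcm w : G) ∈ (⁅M, M⁆ : Subgroup G) ⊓ W₁ := by
    refine ⟨?_, CyclicTI.proj₁_mem hd hcm _⟩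
    rw [show (CyclicTI.proj₁ hd hcm w : G) = (w : G) * (CyclicTI.proj₂ hd hcm w : G)⁻¹ by rw [← hab]; group]
    exact Subgroup.mul_mem _ (mem_ker.1 h) (Subgroup.inv_mem _ (W2_le_ker hS (CyclicTI.proj₂_mem hd hcm _)))
  rw [hS.compl.2.2.1, Subgroup.mem_bot] at ha
  apply h2
  rw [← hab, ha, one_mul]
  exact CyclicTI.proj₂_mem hd hcm _

/-- Two columns: `τ (μ_ij − μ_ij')`. -/
theorem ind_col (i : Row W₁ W₂) {j j' : Col W₁ W₂} (hj : j ≠ 1) (hj' : j' ≠ 1) :
    tau M (D.mu i j - D.mu i j') = D.del j • (D.eta i j - D.eta i j') := by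
  classical
  by_cases hjj' : j = j'
  · subst hjj'
    rw [sub_self, sub_self, smul_zero]
    simpa using CharInduced.ind_sub M (0 : ↥M → ℂ) 0
  obtain ⟨d, s, n, hs, -, -, -, -, -, hdeg⟩ := degrees D hS
  set α := D.mu i j - D.mu i j' with hα
  have hgenα : Cfsg.IsGeneralizedCharacter ↥M α := isGeneralizedCharacter_sub (mu_gen D i j) (mu_gen D i j')
  have hsup : Supported M W₁ W₂ α := supported_of hS (isClassFunction_of_isGeneralizedCharacter hgenα)
    (by rw [hα, Pi.sub_apply, (hdeg j hj).2, (hdeg j' hj').2, sub_self])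
    (fun x hx hx1 => by
      rw [hα, Pi.sub_apply, mu_W1 D hS i j x hx hx1, mu_W1 D hS i j' x hx hx1, (hdeg j hj).1,
        (hdeg j' hj').1, sub_self])
  set Y := tau M α with hY
  have hYgen : Cfsg.IsGeneralizedCharacter G Y := CharInduced.isGenChar_ind M hgenα
  have hmm : Cfsg.classInner α α = 2 := by
    rw [hα, classInner_sub_left, classInner_sub_right, classInner_sub_right]
    simp [mu_inner D hS, hjj', Ne.symm hjj']
    norm_num
  have hYY : Cfsg.classInner Y Y = 2 := (ind_inner hS hsup hsup).trans hmm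
  have hY1 : Cfsg.classInner Y (D.eta 1 1) = 0 := by
    rw [eta_one D hS, hY]
    show Cfsg.classInner (Cfsg.indFun M α) _ = 0
    rw [ind_inner_one α, ← (mu_one D hS).1, hα, classInner_sub_left, mu_inner D hS, mu_inner D hS,
      if_neg fun h => hj h.2, if_neg fun h => hj' h.2, sub_zero]
  set Z := Y - (s : ℂ) • (D.eta i j - D.eta i j') with hZ
  have hegen : Cfsg.IsGeneralizedCharacter G (D.eta i j - D.eta i j') :=
    isGeneralizedCharacter_sub (si_gen (eta_si D hS i j)) (si_gen (eta_si D hS i j'))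
  have hZgen : Cfsg.IsGeneralizedCharacter G Z :=
    isGeneralizedCharacter_sub hYgen (isGeneralizedCharacter_zsmul hegen s)
  have hZV : ∀ w : ↥(W₁ ⊔ W₂), (w : G) ∉ W₁ → (w : G) ∉ W₂ → Z w = 0 := by
    intro w h1 h2
    rw [hZ, Pi.sub_apply, Pi.smul_apply, Pi.sub_apply, hY, tau_W hS hsup w h1 h2, hα, Pi.sub_apply,
      mu_apply D hS i j _ w rfl h2, mu_apply D hS i j' _ w rfl h2, (hdeg j hj).1, (hdeg j' hj').1,
      eta_val D hS i j w h1 h2, eta_val D hS i j' w h1 h2, smul_eq_mul]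
    ring
  choose c hc using fun a b => classInner_isGeneralizedCharacter hZgen (si_gen (eta_si D hS a b))
  have he : ∀ a b, Cfsg.classInner Y (D.eta a b) =
      ((c a 1 + c 1 b + if a = i then (if b = j then s else 0) - (if b = j' then s else 0) else 0 : ℤ) : ℂ) := by
    intro a b
    have hr := rect D hS (isClassFunction_of_isGeneralizedCharacter hZgen) hZV a b
    have h11 : Cfsg.classInner Z (D.eta 1 1) = 0 := by
      rw [hZ, classInner_sub_left, hY1, classInner_smul_left, classInner_sub_left, eta_inner D hS,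
        eta_inner D hS, if_neg fun h => hj h.2, if_neg fun h => hj' h.2]
      ring
    rw [h11, sub_zero, hc a 1, hc 1 b, hZ, classInner_sub_left, classInner_smul_left, classInner_sub_left,
      eta_inner D hS, eta_inner D hS, sub_eq_iff_eq_add] at hr
    rw [hr]
    by_cases ha : a = i
    · subst ha
      by_cases hb : b = j
      · subst hb; simp [hjj', Ne.symm hjj']
      by_cases hb' : b = j'
      · subst hb'; simp [hjj', Ne.symm hjj']
      · simp [hb, hb', Ne.symm hb, Ne.symm hb']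
    · simp [ha, Ne.symm ha]
  have hbes := bessel hS (Finset.univ : Finset (Row W₁ W₂ × Col W₁ W₂)) Y (fun x => D.eta x.1 x.2)
    (fun a _ b _ hab => by rw [eta_inner D hS, if_neg fun h => hab (Prod.ext h.1 h.2)])
    (fun a _ => by rw [eta_inner D hS, if_pos ⟨rfl, rfl⟩])
  have hle : ∑ x : Row W₁ W₂ × Col W₁ W₂, (c x.1 1 + c 1 x.2 + if x.1 = i then
      (if x.2 = j then s else 0) - (if x.2 = j' then s else 0) else 0) ^ 2 ≤ 2 := by
    rw [hYY] at hbes
    simp only [he, Complex.normSq_intCast, Complex.re_ofNat] at hbes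
    simp only [← sq] at hbes
    refine (Int.cast_le (R := ℝ)).1 ?_
    push_cast at hbes ⊢
    exact hbes
  have hB1 : c 1 1 = 0 := by
    have h := hc 1 1
    rw [hZ, classInner_sub_left, hY1, classInner_smul_left, classInner_sub_left, eta_inner D hS,
      eta_inner D hS, if_neg fun h => hj h.2, if_neg fun h => hj' h.2] at h
    simp at h
    exact_mod_cast h.symm
  obtain ⟨hA, hB⟩ := grid_pair (by rw [card_row hS]; exact three_le_W1 hS) (fun a => c a 1) (fun b => c 1 b)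
    1 hB1 i hjj' (Ne.symm hj) (Ne.symm hj') hs hle
  have hcoef : Cfsg.classInner Y ((s : ℂ) • (D.eta i j - D.eta i j')) = 2 := by
    rw [classInner_smul_right, classInner_sub_right, he, he]
    have e1 : ∀ a, c a 1 = 0 := fun a => congrFun hA a
    have e2 : ∀ b, c 1 b = 0 := fun b => congrFun hB b
    simp only [e1, e2, hjj', Ne.symm hjj', if_true, if_false, map_intCast]
    rcases hs with rfl | rfl <;> norm_num
  have hEE : Cfsg.classInner ((s : ℂ) • (D.eta i j - D.eta i j')) ((s : ℂ) • (D.eta i j - D.eta i j')) = 2 := by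
    simp only [classInner_smul_left, classInner_smul_right, classInner_sub_left, classInner_sub_right,
      eta_inner D hS, hjj', Ne.symm hjj', and_self, and_false, if_true, if_false, map_intCast]
    rcases hs with rfl | rfl <;> norm_num
  have hzero : Z = 0 := CharInduced.inner_self_eq_zero.1 (by
    rw [hZ, classInner_sub_left, classInner_sub_right, classInner_sub_right, hYY, hcoef, hEE,
      ← conj_classInner Y, hcoef]
    simp [show (starRingEnd ℂ) (2 : ℂ) = 2 from Complex.conj_ofNat 2])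
  rw [(hdeg j hj).1]
  exact sub_eq_zero.1 hzero

/-- The image of `rd j − rd j'`. -/
theorem ind_rd_sub {j j' : Col W₁ W₂} (hj : j ≠ 1) (hj' : j' ≠ 1) :
    tau M (D.rd j - D.rd j') = D.del j • ∑ i, (D.eta i j - D.eta i j') := by
  rw [Data.rd, Data.rd, ← Finset.sum_sub_distrib, Finset.smul_sum]
  show Cfsg.indFun M _ = _
  rw [CharInduced.ind_sum]
  exact Finset.sum_congr rfl fun i _ => ind_col D hS i hj hj'

/-- Signed irreducible images of an irreducible member avoid every `η`. -/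
theorem image_eta_orth {φ : ↥M → ℂ} (hφ : φ ∈ Cfsg.inducedIrrAbove (ker M) ⊥) {ψ : ↥M → ℂ}
    (hψ : ψ ∈ Cfsg.inducedIrrAbove (ker M) ⊥) (hdeg : φ 1 = ψ 1) {a b : G → ℂ} (ha : SignedIrr a)
    (hb : SignedIrr b) (hab : Cfsg.classInner a b = 0) (he : tau M (φ - ψ) = a - b)
    (i : Row W₁ W₂) (j : Col W₁ W₂) : Cfsg.classInner a (D.eta i j) = 0 := by
  refine si_orth D hS ha hb hab (fun w h1 h2 => ?_) i j
  have hm : φ - ψ ∈ Cfsg.zspanOn (Cfsg.inducedIrrAbove (ker M) ⊥) {1}ᶜ :=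
    mem_zspanOn_one (zspan_sub (subset_zspan hφ) (subset_zspan hψ)) (by simp [hdeg])
  have h := tau_W hS (span_supported hS hm) w h1 h2
  rw [he, Pi.sub_apply, Pi.sub_apply, mem_vanish hφ _ (W_not_ker hS w h2),
    mem_vanish hψ _ (W_not_ker hS w h2), sub_zero] at h
  exact h

/-- The coherence system on the whole family. -/
theorem exists_system : ∃ R, Cfsg.IsCoherenceSystem (Cfsg.inducedIrrAbove (ker M) ⊥) (tau M) R := by
  classical
  obtain ⟨D⟩ := exists_data hS
  obtain ⟨d, s, n, hs, -, -, -, -, -, hdeg⟩ := degrees D hS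
  set S := Cfsg.inducedIrrAbove (ker M) ⊥ with hSdef
  set S₀ : Set (↥M → ℂ) := {φ | φ ∈ S ∧ Cfsg.IsIrrCharacter ↥M φ} with hS₀
  have hSc : ∀ φ ∈ S, Cfsg.conjFun φ ∈ S := fun φ hφ => PF6.induced_conj hφ
  have h0c : ∀ φ ∈ S₀, Cfsg.conjFun φ ∈ S₀ ∧ Cfsg.conjFun φ ≠ φ := fun φ hφ =>
    ⟨⟨hSc φ hφ.1, conjFun_isIrr hφ.2⟩, mem_conj_ne hS hφ.1⟩
  have hdiff : ∀ φ ∈ S, φ - Cfsg.conjFun φ ∈ Cfsg.zspanOn S {1}ᶜ := fun φ hφ =>
    mem_zspanOn_one (zspan_sub (subset_zspan hφ) (subset_zspan (hSc φ hφ)))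
      (by simp [conjFun_apply_one (mem_char hφ)])
  have hpairs : ∀ φ ∈ S₀, ∃ a b : G → ℂ, SignedIrr a ∧ SignedIrr b ∧ Cfsg.classInner a b = 0 ∧
      tau M (φ - Cfsg.conjFun φ) = a + b := by
    intro φ hφ
    obtain ⟨hc, hcne⟩ := h0c φ hφ
    refine si_sum_of_norm_two ((tau_iso hS).2.2.2 _ (hdiff φ hφ.1)) ?_
    rw [(tau_iso hS).2.2.1 _ (hdiff φ hφ.1) _ (hdiff φ hφ.1), classInner_sub_left, classInner_sub_right,
      classInner_sub_right, classInner_irr_self hφ.2, classInner_irr_self hc.2,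
      classInner_irr_ne hφ.2 hc.2 hcne.symm, classInner_irr_ne hc.2 hφ.2 hcne]
    norm_num
  choose! a b ha hb hab hsum using hpairs
  have hneg : ∀ {x : G → ℂ}, SignedIrr x → SignedIrr (-x) := fun {x} h => by
    rcases h with h | h
    · exact Or.inr (by simpa using h)
    · exact Or.inl h
  have hne : ∀ φ ∈ S₀, a φ ≠ b φ := fun φ hφ h => by
    have h2 := hab φ hφ
    rw [← h, si_self (ha φ hφ)] at h2
    exact one_ne_zero h2
  have hba : ∀ φ ∈ S₀, Cfsg.classInner (b φ) (a φ) = 0 := fun φ hφ => by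
    rw [← conj_classInner, hab φ hφ, map_zero]
  have horth_eta : ∀ φ ∈ S₀, ∀ x ∈ ({a φ, b φ} : Finset (G → ℂ)), ∀ i j, Cfsg.classInner x (D.eta i j) = 0 := by
    intro φ hφ x hx i j
    simp only [Finset.mem_insert, Finset.mem_singleton] at hx
    have hd1 : φ 1 = Cfsg.conjFun φ 1 := (conjFun_apply_one (mem_char hφ.1)).symm
    rcases hx with rfl | rfl
    · exact image_eta_orth D hS hφ.1 (hSc φ hφ.1) hd1 (ha φ hφ) (hneg (hb φ hφ))
        (by rw [classInner_neg_right, hab φ hφ, neg_zero]) (by rw [sub_neg_eq_add, hsum φ hφ]) i j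
    · exact image_eta_orth D hS hφ.1 (hSc φ hφ.1) hd1 (hb φ hφ) (hneg (ha φ hφ))
        (by rw [classInner_neg_right, hba φ hφ, neg_zero]) (by rw [sub_neg_eq_add, hsum φ hφ, add_comm]) i j
  -- the exceptional part
  let pts : (↥M → ℂ) → Finset (Row W₁ W₂ × Col W₁ W₂) := fun φ =>
    Finset.univ.filter fun x => x.2 ≠ 1 ∧ (φ = D.rd x.2 ∨ φ = D.rd x.2.bar)
  let img : (↥M → ℂ) → Row W₁ W₂ × Col W₁ W₂ → G → ℂ := fun φ x =>
    (if φ = D.rd x.2 then (s : ℂ) else -(s : ℂ)) • D.eta x.1 x.2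
  let R : (↥M → ℂ) → Finset (G → ℂ) := fun φ =>
    if φ ∈ S₀ then {a φ, b φ} else (pts φ).image (img φ)
  have hs2 : (s : ℂ) * (s : ℂ) = 1 := by rcases hs with rfl | rfl <;> norm_num
  have himg : ∀ φ x y, Cfsg.classInner (img φ x) (img φ y) = if x = y then 1 else 0 := by
    intro φ x y
    simp only [img, classInner_smul_left, classInner_smul_right, eta_inner D hS]
    by_cases h : x = y
    · subst h
      split <;> simp [hs2]
    · have hn : ¬ (x.1 = y.1 ∧ x.2 = y.2) := fun h' => h (Prod.ext h'.1 h'.2)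
      rw [if_neg h, if_neg hn]
      ring
  have hinj : ∀ φ, Function.Injective (img φ) := fun φ x y h => by
    have h1 := himg φ x y
    rw [h, himg, if_pos rfl] at h1
    by_contra hne'
    rw [if_neg hne'] at h1
    exact one_ne_zero h1
  have hRirr : ∀ φ ∈ S₀, R φ = {a φ, b φ} := fun φ hφ => if_pos hφ
  have hRrd : ∀ j : Col W₁ W₂, R (D.rd j) = (pts (D.rd j)).image (img (D.rd j)) := fun j =>
    if_neg fun h => rd_not_irr D hS j h.2
  have hcase : ∀ φ ∈ S, φ ∈ S₀ ∨ ∃ j, j ≠ 1 ∧ φ = D.rd j := fun φ hφ => by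
    rcases mem_cases D hS hφ with h | h
    · exact Or.inr h
    · exact Or.inl ⟨hφ, h.1⟩
  obtain ⟨θ₀, hθ₀, -⟩ := PF6.exists_linear (ker M) (solv_ker hS) (bot_lt_iff_ne_bot.2 (ker_ne_bot hS))
  refine ⟨R, ⟨⟨_, PF6.mem_induced.2 ⟨θ₀, hθ₀, rfl⟩⟩, fun φ hφ => mem_char hφ, hSc,
    fun φ hφ => mem_conj_ne hS hφ, tau_iso hS, fun α hα => tau_one hS hα,
    fun φ hφ χ hχ h => mem_orth hS hφ hχ h, ?_, ?_, ?_, ?_⟩⟩
  · intro φ hφ x hx y hy
    rcases hcase φ hφ with h0 | ⟨j, hj, rfl⟩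
    · rw [hRirr φ h0, Finset.mem_insert, Finset.mem_singleton] at hx hy
      rcases hx with rfl | rfl <;> rcases hy with rfl | rfl <;>
        simp [si_self (ha φ h0), si_self (hb φ h0), hab φ h0, hba φ h0, hne φ h0, Ne.symm (hne φ h0)]
    · rw [hRrd] at hx hy
      obtain ⟨x', -, rfl⟩ := Finset.mem_image.1 hx
      obtain ⟨y', -, rfl⟩ := Finset.mem_image.1 hy
      rw [himg]
      simp only [(hinj _).eq_iff]
  · intro φ hφ x hx
    rcases hcase φ hφ with h0 | ⟨j, hj, rfl⟩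
    · rw [hRirr φ h0, Finset.mem_insert, Finset.mem_singleton] at hx
      rcases hx with rfl | rfl
      · exact si_gen (ha φ h0)
      · exact si_gen (hb φ h0)
    · rw [hRrd] at hx
      obtain ⟨x', -, rfl⟩ := Finset.mem_image.1 hx
      show Cfsg.IsGeneralizedCharacter G ((if _ then (s : ℂ) else -(s : ℂ)) • D.eta x'.1 x'.2)
      split
      · exact isGeneralizedCharacter_zsmul (si_gen (eta_si D hS _ _)) s
      · rw [← Int.cast_neg]
        exact isGeneralizedCharacter_zsmul (si_gen (eta_si D hS _ _)) (-s)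
  · intro φ hφ
    rcases hcase φ hφ with h0 | ⟨j, hj, rfl⟩
    · rw [hRirr φ h0, hsum φ h0, Finset.sum_pair (hne φ h0)]
    · rw [conj_rd D hS, hRrd, Finset.sum_image fun x _ y _ h => hinj _ h,
        ind_rd_sub D hS hj (col_bar_ne_one hS hj), (hdeg j hj).1]
      have hp : pts (D.rd j) = Finset.univ ×ˢ {j, j.bar} := by
        ext ⟨i, k⟩
        simp only [pts, Finset.mem_filter, Finset.mem_univ, true_and, Finset.mem_product, Finset.mem_insert,
          Finset.mem_singleton]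
        constructor
        · rintro ⟨-, h | h⟩
          · exact Or.inl (rd_inj D hS h).symm
          · exact Or.inr (by rw [rd_inj D hS h, col_bar_bar hS])
        · rintro (rfl | rfl)
          · exact ⟨hj, Or.inl rfl⟩
          · exact ⟨col_bar_ne_one hS hj, Or.inr (by rw [col_bar_bar hS])⟩
      rw [hp, Finset.sum_product, Finset.smul_sum]
      refine Finset.sum_congr rfl fun i _ => ?_
      rw [Finset.sum_pair (col_bar_ne hS hj).symm]
      have hnj : ¬ D.rd j = D.rd j.bar := fun h => col_bar_ne hS hj (rd_inj D hS h).symm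
      simp only [img, if_true, hnj, if_false]
      rw [smul_sub, neg_smul, sub_eq_add_neg]
  · intro χ hχ φ hφ h1 h2 x hx y hy
    rcases hcase φ hφ with p0 | ⟨j, hj, rfl⟩ <;> rcases hcase χ hχ with c0 | ⟨k, hk, rfl⟩
    · rw [hRirr φ p0, Finset.mem_insert, Finset.mem_singleton] at hx
      rw [hRirr χ c0, Finset.mem_insert, Finset.mem_singleton] at hy
      have h3 : Cfsg.classInner (Cfsg.conjFun φ) χ = 0 := by
        have := classInner_conjFun φ (Cfsg.conjFun χ)
        rwa [conjFun_conjFun, h2, map_zero] at this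
      have h4 : Cfsg.classInner (Cfsg.conjFun φ) (Cfsg.conjFun χ) = 0 := by
        rw [classInner_conjFun, h1, map_zero]
      have hz : Cfsg.classInner (tau M (φ - Cfsg.conjFun φ)) (tau M (χ - Cfsg.conjFun χ)) = 0 := by
        rw [(tau_iso hS).2.2.1 _ (hdiff φ hφ) _ (hdiff χ hχ)]
        simp [classInner_sub_left, classInner_sub_right, h1, h2, h3, h4]
      rw [hsum φ p0, hsum χ c0] at hz
      have hd : ∀ χ ∈ S₀, a χ 1 = -(b χ 1) := fun χ hχ => by
        have := tau_one hS (hdiff χ hχ.1)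
        rw [hsum χ hχ] at this
        exact eq_neg_of_add_eq_zero_left this
      obtain ⟨e1, e2, e3, e4⟩ := four_si (ha φ p0) (hneg (hb φ p0)) (ha χ c0) (hneg (hb χ c0))
        (one_ne_zero : (1 : ℝ) ≠ 0) (one_ne_zero : (1 : ℝ) ≠ 0) (one_ne_zero : (1 : ℝ) ≠ 0)
        (one_ne_zero : (1 : ℝ) ≠ 0) (by simp [classInner_neg_right, hab φ p0])
        (by simp [classInner_neg_right, hab χ c0]) (by simpa using hz) (by simpa using hd φ p0)
        (by simpa using hd χ c0)
      simp only [classInner_neg_left, classInner_neg_right, neg_neg, neg_eq_zero] at e2 e3 e4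
      rcases hx with rfl | rfl <;> rcases hy with rfl | rfl <;> assumption
    · rw [hRirr φ p0] at hx
      rw [hRrd] at hy
      obtain ⟨y', -, rfl⟩ := Finset.mem_image.1 hy
      rw [classInner_smul_right, horth_eta φ p0 x hx, mul_zero]
    · rw [hRrd] at hx
      rw [hRirr χ c0] at hy
      obtain ⟨x', -, rfl⟩ := Finset.mem_image.1 hx
      rw [classInner_smul_left, ← conj_classInner, horth_eta χ c0 y hy, map_zero, mul_zero]
    · rw [hRrd] at hx hy
      obtain ⟨x', hx', rfl⟩ := Finset.mem_image.1 hx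
      obtain ⟨y', hy', rfl⟩ := Finset.mem_image.1 hy
      rw [conj_rd D hS] at h2
      have n1 : j ≠ k := fun e => by
        subst e; rw [rd_self D hS] at h1; exact Nat.cast_ne_zero.2 Nat.card_pos.ne' h1
      have n2 : j ≠ k.bar := fun e => by
        subst e; rw [rd_self D hS] at h2; exact Nat.cast_ne_zero.2 Nat.card_pos.ne' h2
      obtain ⟨-, hxc⟩ := (Finset.mem_filter.1 hx').2
      obtain ⟨-, hyc⟩ := (Finset.mem_filter.1 hy').2
      have hn : ¬ (x'.1 = y'.1 ∧ x'.2 = y'.2) := by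
        rintro ⟨-, e⟩
        rcases hxc with hx1 | hx1 <;> rcases hyc with hy1 | hy1 <;>
          have hxj := rd_inj D hS hx1 <;> have hyk := rd_inj D hS hy1
        · exact n1 (hxj.trans (e.trans hyk.symm))
        · exact n2 (by rw [hxj, e, hyk, col_bar_bar hS])
        · exact n2 (by rw [hxj, e, hyk])
        · exact n1 (by rw [hxj, e, hyk])
      simp only [img, classInner_smul_left, classInner_smul_right, eta_inner D hS, if_neg hn, mul_zero]

end Cfsg.Agent.PFPrimeTI
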