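import Mathlib
import Cfsg.Agent.Lib.FTPBridge78
import Cfsg.Agent.Lib.PFPrimeTIBasic39
import Cfsg.Agent.Lib.PFPrimeTIFam39
import Cfsg.Agent.Lib.PFClose19

/-!
The configuration `PFPrimeTI.Setup` as a `FTPMu78.Core` with trivial Dade kernels, so that the Dade map is
induction, and the first cases in which all the parameters `s_j` vanish.
-/

set_option autoImplicit false

open scoped commutatorElement ComplexConjugate

namespace Cfsg.Agent.PFSZero39

open Cfsg Cfsg.Agent.CharBasic Cfsg.Agent.CharBasicOrth Cfsg.Agent.CharBasicDecomp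
open Cfsg.Agent.CyclicTI Cfsg.Agent.FTPGrid78
open Cfsg.Agent.FTPMu78 Cfsg.Agent.FTPTau78
open Cfsg.Agent.PFPrimeTI (Setup ker supp redChars AllCoherent)

attribute [local instance] Classical.propDecidable

universe u

variable {G : Type u} [Group G] [Fintype G] {M W₁ W₂ : Subgroup G}

theorem mem_suppSet_iff (hS : Setup M W₁ W₂) (x : G) :
    x ∈ suppSet M ⁅M, M⁆ W₁ W₂ ↔ x ∈ supp M W₁ W₂ := by
  constructor
  · rintro ⟨h1, h | ⟨m, hm, hw, hw1, hw2⟩⟩
    · exact Or.inl ⟨h, h1⟩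
    · exact Or.inr ⟨m, hm, _, hw, hw1, hw2, by group⟩
  · intro h
    refine ⟨PFPrimeTI.supp_ne_one hS h, ?_⟩
    rcases h with h | ⟨m, hm, w, hw, hw1, hw2, rfl⟩
    · exact Or.inl h.1
    · refine Or.inr ⟨m, hm, ?_⟩
      rw [show m⁻¹ * (m * w * m⁻¹) * m = w by group]
      exact ⟨hw, hw1, hw2⟩

theorem supp_sub (hS : Setup M W₁ W₂) {x : G} (hx : x ∈ supp M W₁ W₂) : x ∈ M := by
  rcases hx with h | ⟨m, hm, w, hw, -, -, rfl⟩
  · exact PFPrimeTI.commutator_le h.1
  · exact M.mul_mem (M.mul_mem hm (PFPrimeTI.W_le hS hw)) (M.inv_mem hm)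

theorem supp_conj (hS : Setup M W₁ W₂) {x : G} (hx : x ∈ M) {a : G} (ha : a ∈ supp M W₁ W₂) :
    x * a * x⁻¹ ∈ supp M W₁ W₂ := by
  rcases ha with h | ⟨m, hm, w, hw, hw1, hw2, rfl⟩
  · refine Or.inl ⟨?_, by simpa using h.2⟩
    have := (PFPrimeTI.ker_normal M).conj_mem ⟨a, PFPrimeTI.commutator_le h.1⟩
      (PFPrimeTI.mem_ker.2 h.1) ⟨x, hx⟩
    exact PFPrimeTI.mem_ker.1 this
  · exact Or.inr ⟨x * m, M.mul_mem hx hm, w, hw, hw1, hw2, by group⟩

/-- The configuration as a `Core` with trivial kernels. -/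
theorem core_of_setup (hS : Setup M W₁ W₂) : Core M ⁅M, M⁆ W₁ W₂ (fun _ => (⊥ : Subgroup G)) := by
  have hcent : ∀ a ∈ supp M W₁ W₂, Subgroup.centralizer ({a} : Set G) ≤ M := by
    intro a ha c hc
    rw [Subgroup.mem_centralizer_singleton_iff] at hc
    exact hS.ti a ha c (by rw [hc, mul_inv_cancel_right]; exact ha)
  have base : FTPBase78.Base M ⁅M, M⁆ W₁ W₂ :=
    { compl := hS.compl
      normal := fun x hx => Subgroup.mem_normalizer_iff.2 fun n => by
        have key : ∀ {y : G}, y ∈ M → ∀ {k : G}, k ∈ (⁅M, M⁆ : Subgroup G) →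
            y * k * y⁻¹ ∈ (⁅M, M⁆ : Subgroup G) := fun {y} hy {k} hk =>
          PFPrimeTI.mem_ker.1 ((PFPrimeTI.ker_normal M).conj_mem ⟨k, PFPrimeTI.commutator_le hk⟩
            (PFPrimeTI.mem_ker.2 hk) ⟨y, hy⟩)
        exact ⟨key hx, fun h => by simpa [mul_assoc] using key (M.inv_mem hx) h⟩
      W₁c := hS.cyc
      hall := (PFClose19.coprime_card hS).symm
      W₂le := PFPrimeTI.W2_le_ker hS
      cent := hS.cent
      sn := hS.selfNorm
      odd := hS.hodd }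
  refine { base := base, dade := ?_, W₂der := hS.W2_le, Kder := ?_ }
  · refine ⟨fun h => h.1 rfl, fun a ha => supp_sub hS ((mem_suppSet_iff hS a).1 ha),
      fun x hx a ha => (mem_suppSet_iff hS _).2 (supp_conj hS hx ((mem_suppSet_iff hS a).1 ha)),
      fun a ha g hg => ⟨g, hS.ti a ((mem_suppSet_iff hS a).1 ha) g ((mem_suppSet_iff hS _).1 hg), rfl⟩,
      fun a _ => bot_le, ?_, fun a _ => bot_inf_eq _, ?_, fun a _ b _ => ?_⟩
    · intro a _ c _ u hu
      rw [Subgroup.mem_bot] at hu ⊢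
      simp [hu]
    · intro a ha
      rw [bot_sup_eq]
      exact inf_eq_right.2 (hcent a ((mem_suppSet_iff hS a).1 ha))
    · rw [Subgroup.card_bot]
      exact Nat.coprime_one_left _
  · intro h
    have hne : (⁅M, M⁆ : Subgroup G) ≠ ⊥ := fun e =>
      hS.selfNorm.2.1 (le_bot_iff.1 (e ▸ PFPrimeTI.W2_le_ker hS))
    haveI : Nontrivial ↥(⁅M, M⁆ : Subgroup G) := (Subgroup.nontrivial_iff_ne_bot _).2 hne
    haveI := hS.solv
    haveI : Group.IsSolvable ↥(⁅M, M⁆ : Subgroup G) :=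
      solvable_of_solvable_injective (Subgroup.inclusion_injective PFPrimeTI.commutator_le)
    refine (Group.IsSolvable.commutator_lt_top_of_nontrivial ↥(⁅M, M⁆ : Subgroup G)).ne ?_
    refine Subgroup.map_injective (Subgroup.subtype_injective _) ?_
    rw [Subgroup.map_subtype_commutator, h, ← MonoidHom.range_eq_map, Subgroup.range_subtype]

variable [Fintype ↥M]

/-- On functions supported in the trivial intersection set the Dade map is induction. -/
theorem tau_eq_ind (hS : Setup M W₁ W₂) (C : Core M ⁅M, M⁆ W₁ W₂ (fun _ => (⊥ : Subgroup G)))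
    {α : ↥M → ℂ} (hc : IsClassFunction ↥M α) (h0 : ∀ x : ↥M, (x : G) ∉ supp M W₁ W₂ → α x = 0) :
    C.τ α = Cfsg.indFun M α := by
  funext g
  by_cases hg : DadeMap.InSupport (suppSet M ⁅M, M⁆ W₁ W₂) M (fun _ => (⊥ : Subgroup G)) g
  · obtain ⟨a, ha, x, u, hu, e⟩ := hg
    rw [Subgroup.mem_bot.1 hu, mul_one] at e
    rw [← C.tau_class hc g x, ← CharInduced.isClassFunction_ind M α g x, e,
      PFPrimeTI.ind_apply hS ⟨hc, h0⟩ a ((mem_suppSet_iff hS _).1 ha)]
    have h := DadeMap.dade_apply_coset C.dade hc a ha (Subgroup.one_mem _)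
    rw [mul_one] at h
    exact h
  · rw [show C.τ α g = 0 from DadeMap.dade_eq_zero hg, CharInduced.indFun_apply, Finset.sum_eq_zero, mul_zero]
    intro x _
    by_cases hx : x⁻¹ * g * x ∈ M
    · rw [CharInduced.ext_zero_of_mem _ hx]
      refine h0 _ fun h => hg ⟨⟨_, hx⟩, (mem_suppSet_iff hS _).2 h, x⁻¹, 1, Subgroup.one_mem _, ?_⟩
      simp
    · exact CharInduced.ext_zero_of_not_mem _ hx

/-- Induction on `Sup`. -/
theorem tau_eq_ind_sup (hS : Setup M W₁ W₂) (C : Core M ⁅M, M⁆ W₁ W₂ (fun _ => (⊥ : Subgroup G)))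
    {α : ↥M → ℂ} (hα : C.Sup α) : C.τ α = Cfsg.indFun M α :=
  tau_eq_ind hS C (isClassFunction_of_isGeneralizedCharacter hα.1)
    fun x hx => hα.2 x fun h => hx ((mem_suppSet_iff hS _).1 h)

/-- All the parameters `s_j` vanish. -/
def SZero (M W₁ W₂ : Subgroup G) [Fintype ↥M] : Prop :=
  ∀ C : Core M ⁅M, M⁆ W₁ W₂ (fun _ => (⊥ : Subgroup G)), ∀ j : ColJ W₁ W₂, j ≠ j₀ → C.sv j = 0

section

variable (hS : Setup M W₁ W₂) (C : Core M ⁅M, M⁆ W₁ W₂ (fun _ => (⊥ : Subgroup G)))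
include hS C

/-- `|K : K'| = q m + 1`. -/
theorem relIndex_eq : (⁅ker M, ker M⁆).relIndex (ker M) = Nat.card W₁ * C.Z1.card + 1 := by
  have h := C.card_lam
  rw [← Nat.card_eq_fintype_card, CharBasicLinear.card_hom_units] at h
  rw [← h, Subgroup.relIndex]
  congr 1
  show (⁅ker M, ker M⁆).subgroupOf (ker M) = commutator ↥(ker M)
  rw [← Subgroup.map_subtype_commutator, Subgroup.subgroupOf,
    Subgroup.comap_map_eq_self_of_injective (Subgroup.subtype_injective _)]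

/-- `K` has at least `p (2 q + 1)` elements. -/
theorem card_ker_ge : Nat.card W₂ * (2 * Nat.card W₁ + 1) ≤ Nat.card ↥(⁅M, M⁆ : Subgroup G) := by
  have h1 := relIndex_eq hS C
  have h2 : Nat.card ↥(commutator ↥(ker M)) * (commutator ↥(ker M)).index = Nat.card ↥(ker M) :=
    Subgroup.card_mul_index _
  have h5 : (commutator ↥(ker M)).index = (⁅ker M, ker M⁆).relIndex (ker M) := by
    rw [Subgroup.relIndex]
    congr 1
    rw [← Subgroup.map_subtype_commutator, Subgroup.subgroupOf,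
      Subgroup.comap_map_eq_self_of_injective (Subgroup.subtype_injective _)]
  have h3 : Nat.card W₂ ≤ Nat.card ↥(commutator ↥(ker M)) := by
    have hmap : (commutator ↥(ker M)).map ((Subgroup.subtype M).comp (ker M).subtype) =
        ⁅(⁅M, M⁆ : Subgroup G), (⁅M, M⁆ : Subgroup G)⁆ := by
      rw [commutator_def, Subgroup.map_commutator, ← Subgroup.map_map, ← MonoidHom.range_eq_map,
        Subgroup.range_subtype, PFPrimeTI.ker, Subgroup.map_subgroupOf_eq_of_le PFPrimeTI.commutator_le]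
    have e : Nat.card ↥(commutator ↥(ker M)) =
        Nat.card ↥(⁅(⁅M, M⁆ : Subgroup G), (⁅M, M⁆ : Subgroup G)⁆ : Subgroup G) := by
      rw [← hmap]
      exact Nat.card_congr (Subgroup.equivMapOfInjective (commutator ↥(ker M)) (M.subtype.comp (ker M).subtype)
        ((Subgroup.subtype_injective M).comp (Subgroup.subtype_injective (ker M)))).toEquiv
    rw [e]
    exact Subgroup.card_le_of_le hS.W2_le
  rw [h5, h1, PFClose19.card_ker hS] at h2
  rw [← h2]
  refine Nat.mul_le_mul h3 ?_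
  have := Nat.mul_le_mul_left (Nat.card W₁) C.two_Z1
  omega

omit hS in
theorem ind_th_apply (j : ColJ W₁ W₂) (x : ↥M) (hx : (x : G) ∈ (⁅M, M⁆ : Subgroup G)) :
    Cfsg.indFun ((⁅M, M⁆ : Subgroup G).subgroupOf M) (C.th j) x = (Nat.card W₁ : ℂ) * C.mu.μ j.1 x := by
  haveI := C.KM_normal
  have hx' : x ∈ (⁅M, M⁆ : Subgroup G).subgroupOf M := hx
  have h1 := CharInduced.ind_normal_coe ((⁅M, M⁆ : Subgroup G).subgroupOf M) (C.th j) ⟨x, hx'⟩
  have h2 : ∀ y : ↥M, CharInduced.conjFun ((⁅M, M⁆ : Subgroup G).subgroupOf M) (C.th j) y ⟨x, hx'⟩ =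
      C.mu.μ j.1 x := fun y =>
    isClassFunction_of_isCharacter (isCharacter_of_isIrrCharacter (C.mu.irr j.1)) x y
  refine h1.trans ?_
  rw [Finset.sum_congr rfl (fun y _ => h2 y), Finset.sum_const, Finset.card_univ, nsmul_eq_mul,
    ← Nat.card_eq_fintype_card, C.card_M, ← mul_assoc,
    ← mul_assoc, inv_mul_cancel₀ (Nat.cast_ne_zero.2 Nat.card_pos.ne'), one_mul]

omit hS in
theorem ind_th_not_irr {j : ColJ W₁ W₂} :
    ¬ IsIrrCharacter ↥M (Cfsg.indFun ((⁅M, M⁆ : Subgroup G).subgroupOf M) (C.th j)) := fun hirr => by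
  haveI : Fintype ↥((⁅M, M⁆ : Subgroup G).subgroupOf M) := Fintype.ofFinite _
  have h := classInner_irr_self hirr
  have hres : (fun k : ↥((⁅M, M⁆ : Subgroup G).subgroupOf M) =>
      Cfsg.indFun ((⁅M, M⁆ : Subgroup G).subgroupOf M) (C.th j) k) = (Nat.card W₁ : ℂ) • C.th j := by
    funext k
    rw [ind_th_apply C j k k.2]
    rfl
  rw [CharInduced.inner_ind_left _ _ (CharInduced.isClassFunction_ind _ _), hres, classInner_smul_right,
    C.th_orth, if_pos rfl, map_natCast, mul_one] at h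
  have h1 : Nat.card W₁ = 1 := by exact_mod_cast h
  have := C.three_W₁
  omega

omit hS in
theorem ind_th_red {j : ColJ W₁ W₂} (hj : j ≠ j₀) :
    Cfsg.indFun ((⁅M, M⁆ : Subgroup G).subgroupOf M) (C.th j) ∈ redChars M := by
  haveI : Fintype ↥(ker M) := Fintype.ofFinite _
  refine ⟨⟨C.th j, C.th_irr j, fun e => ?_, fun a ha => ?_, rfl⟩, ind_th_not_irr C⟩
  · refine hj (C.th_linear (l := 1) ?_)
    refine e.trans ?_
    funext k
    exact (Units.val_one).symm
  · rw [show a = 1 from Subtype.ext (Subgroup.mem_bot.1 ha)]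

omit hS in
theorem deg_eq {d : ℕ} (hd : ∀ φ ∈ redChars M, φ 1 = (Nat.card W₁ * d : ℂ)) {j : ColJ W₁ W₂} (hj : j ≠ j₀) :
    C.deg j.1 = d := by
  have h := hd _ (ind_th_red C hj)
  rw [ind_th_apply C j 1 (one_mem _), C.mu_one_apply] at h
  exact_mod_cast mul_left_cancel₀ C.q_ne h

/-- `n_j ≤ m` when the exceptional degree is at most `|K : K'|`. -/
theorem nn_le {d : ℕ} (hd : ∀ φ ∈ redChars M, φ 1 = (Nat.card W₁ * d : ℂ))
    (hdL : d ≤ (⁅ker M, ker M⁆).relIndex (ker M)) {j : ColJ W₁ W₂} (hj : j ≠ j₀) :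
    C.nn j.1 ≤ C.Z1.card := by
  have h1 := deg_eq C hd hj
  rw [relIndex_eq hS C] at hdL
  have h2 : C.deg j.1 ≤ (Nat.card W₁ : ℤ) * C.Z1.card + 1 := by rw [h1]; exact_mod_cast hdL
  have hq : (3 : ℤ) ≤ Nat.card W₁ := by exact_mod_cast C.three_W₁
  rw [FTPMu78.Core.deg] at h2
  by_contra hlt
  rcases C.dz_cases j.1 with e | e <;> rw [e] at h2 <;> nlinarith

end

theorem szero_of_allCoherent (hS : Setup M W₁ W₂) (h : AllCoherent M) : SZero M W₁ W₂ := by
  intro C j hj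
  refine C.s_zero_of_coherent ?_ ?_ hj
  · obtain ⟨hne, τ₁, h₁, h₂⟩ := h
    refine ⟨hne, τ₁, h₁, fun α hα => ?_⟩
    have hs := PFPrimeTI.span_supported hS hα
    rw [h₂ α hα, tau_eq_ind hS C hs.1 hs.2]
  · have h1 := card_ker_ge hS C
    have h3 := C.three_W₁
    have h2 := Nat.mul_le_mul_right (2 * Nat.card W₁ + 1) C.three_W₂
    omega

theorem szero_of_lt (hS : Setup M W₁ W₂) (h : Nat.card W₁ < Nat.card W₂) (d : ℕ)
    (hd : ∀ φ ∈ redChars M, φ 1 = (Nat.card W₁ * d : ℂ))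
    (hdL : d ≤ (⁅ker M, ker M⁆).relIndex (ker M)) : SZero M W₁ W₂ := fun C _ hj =>
  C.s_zero_of_le (C.gamma_exact_of_lt h) hj (nn_le hS C hd hdL hj)

/-- The counting conclusion. -/
theorem false_of_szero (hS : Setup M W₁ W₂) (h : SZero M W₁ W₂)
    (hcount : ∀ C : Core M ⁅M, M⁆ W₁ W₂ (fun _ => (⊥ : Subgroup G)), ∃ X : Finset G,
      (∀ g ∈ X, ¬ C.InS g ∧ (orderOf g).Coprime (Nat.card W₁)) ∧
        (Nat.card W₁ : ℤ) * Nat.card G < X.card * C.ke) : False := by
  obtain ⟨X, hX, hc⟩ := hcount (core_of_setup hS)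
  exact (core_of_setup hS).false_of_s_zero (h _) X hX hc

end Cfsg.Agent.PFSZero39
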