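import Mathlib
import Cfsg.Agent.Lib.PFSZeroBridge39
import Cfsg.Agent.Lib.PF6Core43
import Cfsg.Agent.S1517

/-!
A large block of irreducible members of degree `q r` forces all the parameters `s_j` to vanish.
-/

set_option autoImplicit false
set_option linter.unusedSectionVars false

open scoped commutatorElement ComplexConjugate

namespace Cfsg.Agent.PFSZero39

open Cfsg Cfsg.Agent.CharBasic Cfsg.Agent.CharBasicOrth Cfsg.Agent.CharBasicDecomp
open Cfsg.Agent.CyclicTI Cfsg.Agent.FTPGrid78 Cfsg.Agent.FTPMu78 Cfsg.Agent.FTPTau78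
open Cfsg.Agent.PFPrimeTI (Setup ker supp redChars AllCoherent)
open Cfsg.Agent.FTPMu78.Core (alp gam oneK)

attribute [local instance] Classical.propDecidable
attribute [-instance] Cfsg.Agent.PFPrimeTI.instFintypeRowOfFinite Cfsg.Agent.PFPrimeTI.instFintypeColOfFinite

universe u

variable {G : Type u} [Group G] [Fintype G]

/-- Members of an orthogonal signed pair whose difference is orthogonal to a signed irreducible are
orthogonal to it. -/
theorem orth_of_diff {a b v : G → ℂ} (ha : CoherenceBasic.SignedIrr a) (hb : CoherenceBasic.SignedIrr b)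
    (hv : CoherenceBasic.SignedIrr v) (hab : Cfsg.classInner a b = 0)
    (hd : Cfsg.classInner (a - b) v = 0) : Cfsg.classInner a v = 0 := by
  rw [classInner_sub_left, sub_eq_zero] at hd
  rcases CoherenceBasic.si_cases ha hv with h | ⟨ε, hε, he, hεv⟩
  · exact h
  exfalso
  have hba : Cfsg.classInner b a = 0 := by rw [← conj_classInner, hab, map_zero]
  rw [hεv, he, classInner_smul_right, hba, mul_zero] at hd
  rcases hε with rfl | rfl <;> norm_num at hd

/-- Two signed orthogonal families with the same differences on three points agree. -/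
theorem eq_of_diffs {a a' a'' b b' b'' : G → ℂ} (ha : CoherenceBasic.SignedIrr a)
    (hb : CoherenceBasic.SignedIrr b) (hb' : CoherenceBasic.SignedIrr b') (hb'' : CoherenceBasic.SignedIrr b'')
    (ha' : Cfsg.classInner a' a = 0) (ha'' : Cfsg.classInner a'' a = 0)
    (hbb : Cfsg.classInner b' b'' = 0) (h' : a - a' = b - b') (h'' : a - a'' = b - b'') : b = a := by
  have e' : Cfsg.classInner b a - Cfsg.classInner b' a = 1 := by
    rw [← classInner_sub_left, ← h', classInner_sub_left, CoherenceBasic.si_self ha, ha', sub_zero]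
  have e'' : Cfsg.classInner b a - Cfsg.classInner b'' a = 1 := by
    rw [← classInner_sub_left, ← h'', classInner_sub_left, CoherenceBasic.si_self ha, ha'', sub_zero]
  rcases CoherenceBasic.si_cases hb ha with h | ⟨ε, hε, he, hεv⟩
  · exfalso
    rcases CoherenceBasic.si_cases hb' ha with h1 | ⟨ε, hε, he, hεv⟩
    · rw [h, h1] at e'; norm_num at e'
    rcases CoherenceBasic.si_cases hb'' ha with h2 | ⟨δ, hδ, he2, hδv⟩
    · rw [h, h2] at e''; norm_num at e''
    have hzero : (δ : ℂ) * Cfsg.classInner b' b'' = Cfsg.classInner b' a := by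
      rw [he2, classInner_smul_right, Complex.conj_ofReal]
    rw [hbb, mul_zero, hεv] at hzero
    rcases hε with rfl | rfl <;> norm_num at hzero
  · rcases hε with rfl | rfl
    · rw [he]; simp
    · exfalso
      rcases CoherenceBasic.si_cases hb' ha with h1 | ⟨δ, hδ, he2, hδv⟩
      · rw [hεv, h1] at e'; norm_num at e'
      · rw [hεv, hδv] at e'
        rcases hδ with rfl | rfl <;> norm_num at e'

/-- The row estimate. -/
theorem row_bound {p a Q : ℤ} (hp : 5 ≤ p) (hQ : Q = 1 ∨ 3 ≤ |Q - 1|) :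
    2 ≤ a ^ 2 + ((p - 1) * (a + Q) ^ 2 + 2 * (a + Q) + 1) ∧
      (a = 0 → 3 ≤ a ^ 2 + ((p - 1) * (a + Q) ^ 2 + 2 * (a + Q) + 1)) := by
  have e : a ^ 2 + ((p - 1) * (a + Q) ^ 2 + 2 * (a + Q) + 1) =
      a ^ 2 + (a + Q + 1) ^ 2 + (p - 2) * (a + Q) ^ 2 := by ring
  rw [e]
  rcases eq_or_ne (a + Q) 0 with h | h
  · have ha : a = -Q := by linarith
    rw [h, ha]
    rcases hQ with rfl | hQ
    · norm_num
    · have : 4 ≤ Q ^ 2 := by
        rcases le_abs.1 hQ with h1 | h1 <;> nlinarith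
      constructor
      · nlinarith
      · intro _; nlinarith
  · have h1 : 1 ≤ (a + Q) ^ 2 := sq_pos_of_ne h
    constructor
    · nlinarith [sq_nonneg a, sq_nonneg (a + Q + 1)]
    · intro _; nlinarith [sq_nonneg a, sq_nonneg (a + Q + 1)]

variable {M W₁ W₂ : Subgroup G} [Fintype ↥M]

section red

variable (C : Core M ⁅M, M⁆ W₁ W₂ (fun _ => (⊥ : Subgroup G)))

/-- The reducible member attached to a column. -/
noncomputable def red (j : ColJ W₁ W₂) : ↥M → ℂ :=
  Cfsg.indFun ((⁅M, M⁆ : Subgroup G).subgroupOf M) (C.th j)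

theorem red_K (j : ColJ W₁ W₂) (x : ↥M) (hx : (x : G) ∈ (⁅M, M⁆ : Subgroup G)) :
    red C j x = (Nat.card W₁ : ℂ) * C.mu.μ j.1 x := ind_th_apply C j x hx

theorem red_off (j : ColJ W₁ W₂) (x : ↥M) (hx : (x : G) ∉ (⁅M, M⁆ : Subgroup G)) : red C j x = 0 := by
  haveI := C.KM_normal
  exact CharInduced.ind_normal_eq_zero _ _ hx

theorem red_one (j : ColJ W₁ W₂) : red C j 1 = (Nat.card W₁ : ℂ) * (C.deg j.1 : ℂ) := by
  rw [red_K C j 1 (one_mem _), C.mu_one_apply]

theorem red_gen (j : ColJ W₁ W₂) : IsGeneralizedCharacter ↥M (red C j) := by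
  haveI : Fintype ↥((⁅M, M⁆ : Subgroup G).subgroupOf M) := Fintype.ofFinite _
  exact CharInduced.isGenChar_ind _
    (isGeneralizedCharacter_of_isCharacter (isCharacter_of_isIrrCharacter (C.th_irr j)))

theorem red_mu (i : RowI W₁ W₂) (j l : ColJ W₁ W₂) :
    Cfsg.classInner (red C j) (C.mu.μ (i.1 * l.1)) = if j = l then 1 else 0 := by
  haveI : Fintype ↥((⁅M, M⁆ : Subgroup G).subgroupOf M) := Fintype.ofFinite _
  rw [red, CharInduced.inner_ind_left _ _
      (isClassFunction_of_isCharacter (isCharacter_of_isIrrCharacter (C.mu.irr _))),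
    show (fun k : ↥((⁅M, M⁆ : Subgroup G).subgroupOf M) => C.mu.μ (i.1 * l.1) k) = C.th l from
      funext fun k => (C.col_eq i l).2 _ k.2]
  exact C.th_orth j l

theorem red_red (j : ColJ W₁ W₂) : Cfsg.classInner (red C j) (red C j) = (Nat.card W₁ : ℂ) := by
  haveI : Fintype ↥((⁅M, M⁆ : Subgroup G).subgroupOf M) := Fintype.ofFinite _
  have hres : (fun k : ↥((⁅M, M⁆ : Subgroup G).subgroupOf M) => red C j k) =
      (Nat.card W₁ : ℂ) • C.th j := funext fun k => red_K C j k k.2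
  conv_lhs => arg 1; rw [red]
  rw [CharInduced.inner_ind_left _ _ (isClassFunction_of_isGeneralizedCharacter (red_gen C j)), hres,
    classInner_smul_right, C.th_orth, if_pos rfl, map_natCast, mul_one]

theorem red_inner_one {j : ColJ W₁ W₂} (hj : j ≠ j₀) : Cfsg.classInner (red C j) (fun _ => 1) = 0 := by
  have h := red_mu C i₀ j j₀
  rw [if_neg hj, show (i₀ : RowI W₁ W₂).1 * (j₀ : ColJ W₁ W₂).1 = 1 from hom_one_mul _, C.mu.one_eq.1] at h
  exact h

end red

/-- The main theorem of this file. -/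
theorem szero_of_block (hS : Setup M W₁ W₂) (r d : ℕ) (X : Finset (↥M → ℂ))
    (hd : ∀ φ ∈ redChars M, φ 1 = (Nat.card W₁ * d : ℂ))
    (hdu : d = (⁅ker M, ker M⁆).relIndex (ker M)) (hr : 1 < r) (hrd : r ∣ d)
    (hrp : 2 * r + 1 ≤ Nat.card W₂) (hX : ↑X ⊆ Cfsg.inducedIrrAbove (ker M) ⊥)
    (hXirr : ∀ φ ∈ X, Cfsg.IsIrrCharacter ↥M φ) (hXdeg : ∀ φ ∈ X, φ 1 = (Nat.card W₁ * r : ℂ))
    (hXc : ∀ φ ∈ X, Cfsg.conjFun φ ∈ X) (hXcard : (Nat.card W₂ - 1) * d ≤ X.card * r ^ 2) :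
    SZero M W₁ W₂ := by
  intro C j hj
  classical
  have hq3 : (3 : ℤ) ≤ Nat.card W₁ := by exact_mod_cast C.three_W₁
  have hp3 : 3 ≤ Nat.card W₂ := C.three_W₂
  have hL := relIndex_eq hS C
  rw [← hdu] at hL
  have hdeg : ∀ l : ColJ W₁ W₂, l ≠ j₀ → C.deg l.1 = d := fun l hl => deg_eq C hd hl
  have hmn : ∀ l : ColJ W₁ W₂, l ≠ j₀ → C.dz l.1 = 1 ∧ C.nn l.1 = C.Z1.card := by
    intro l hl
    have h := hdeg l hl
    rw [hL, FTPMu78.Core.deg] at h
    push_cast at h
    rcases C.dz_cases l.1 with e | e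
    · refine ⟨e, mul_right_cancel₀ (b := (Nat.card W₁ : ℤ)) (by linarith) ?_⟩
      linear_combination h - e
    · exfalso
      rw [e] at h
      have h2 : (C.nn l.1 - C.Z1.card) * (Nat.card W₁ : ℤ) = 2 := by linear_combination h
      rcases le_or_gt (C.nn l.1 - C.Z1.card) 0 with h3 | h3 <;> nlinarith
  obtain ⟨hdz, hnm⟩ := hmn j hj
  rcases C.gamma_dichotomy with hG | ⟨hall, hpq⟩
  · exact C.s_zero_of_le hG hj hnm.le
  have h0 := C.z0_mem
  have hXn : X.Nonempty := by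
    rw [← Finset.card_pos]
    by_contra h
    rw [Nat.eq_zero_of_not_pos h, zero_mul, Nat.le_zero, mul_eq_zero] at hXcard
    omega
  have hXK : ∀ φ ∈ X, ∀ x : ↥M, (x : G) ∉ (⁅M, M⁆ : Subgroup G) → φ x = 0 := fun φ hφ x hx =>
    PFPrimeTI.mem_vanish (hX hφ) x fun h => hx (PFPrimeTI.mem_ker.1 h)
  have hXne1 : ∀ φ ∈ X, φ ≠ fun _ => 1 := fun φ hφ e => by
    have h := hXdeg φ hφ
    rw [e] at h
    simp only at h
    have h' : Nat.card W₁ * r = 1 := by exact_mod_cast h.symm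
    have := Nat.eq_one_of_mul_eq_one_left h'
    omega
  have hXconj : ∀ φ ∈ X, Cfsg.conjFun φ ∈ X ∧ Cfsg.conjFun φ ≠ φ := fun φ hφ =>
    ⟨hXc φ hφ, fun e => hXne1 φ hφ
      (FourCoherence.eq_one_of_real C.oddM ⟨φ, hXirr φ hφ⟩ fun x => congrFun e x)⟩
  have hXZ : ∀ φ ∈ X, φ ∉ C.Z1 := fun φ hφ hZ => by
    have h := hXdeg φ hφ
    rw [C.Z1_one hZ] at h
    have h' : (r : ℂ) = 1 := mul_left_cancel₀ C.q_ne (by rw [← h, mul_one])
    have : r = 1 := by exact_mod_cast h'
    omega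
  have hXmu : ∀ φ ∈ X, ∀ (i : RowI W₁ W₂) (l : ColJ W₁ W₂), Cfsg.classInner φ (C.mu.μ (i.1 * l.1)) = 0 := by
    intro φ hφ i l
    refine classInner_irr_ne (hXirr φ hφ) (C.mu.irr _) fun e => ?_
    obtain ⟨x, hx, hx1, -⟩ := C.base.exists_W₁_elt
    have e1 := C.mu.val (i.1 * l.1) ⟨x, Subgroup.mem_sup_left hx⟩ (C.base.W₁_not_W₂ hx hx1)
    have hK : x ∉ (⁅M, M⁆ : Subgroup G) := fun hh => by
      have : x ∈ (⁅M, M⁆ : Subgroup G) ⊓ W₁ := ⟨hh, hx⟩
      rw [C.base.disj] at this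
      exact hx1 this
    rw [← e, hXK φ hφ _ hK] at e1
    rcases mul_eq_zero.1 e1.symm with h | h
    · exact C.mu.sign_ne _ h
    · exact Units.ne_zero _ h
  have hXone : ∀ φ ∈ X, Cfsg.classInner φ (fun _ => 1) = 0 := fun φ hφ =>
    classInner_irr_ne (hXirr φ hφ) isIrrCharacter_one (hXne1 φ hφ)
  have hXgen : ∀ φ ∈ X, IsGeneralizedCharacter ↥M φ := fun φ hφ =>
    isGeneralizedCharacter_of_isCharacter (isCharacter_of_isIrrCharacter (hXirr φ hφ))
  have hsupX : ∀ φ ∈ X, C.Sup (φ - (r : ℂ) • C.z0) := fun φ hφ =>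
    C.sup_of_K (isGeneralizedCharacter_sub (hXgen φ hφ) (by
      rw [show (r : ℂ) • C.z0 = ((r : ℤ) : ℂ) • C.z0 by norm_cast]
      exact isGeneralizedCharacter_zsmul (isGeneralizedCharacter_of_isCharacter
        (isCharacter_of_isIrrCharacter (C.Z1_irr h0))) _))
      (by simp [hXdeg φ hφ, C.Z1_one h0, mul_comm])
      (fun x hx => by simp [hXK φ hφ x hx, C.Z1_K h0 x hx])
  have hXd : ((Nat.card W₂ : ℤ) - 1) * d ≤ X.card * (r : ℤ) ^ 2 := by
    have h : (((Nat.card W₂ - 1) * d : ℕ) : ℤ) ≤ ((X.card * r ^ 2 : ℕ) : ℤ) := by exact_mod_cast hXcard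
    rw [Nat.cast_mul, Nat.cast_sub (by omega)] at h
    push_cast at h
    exact h
  have hdZ : (d : ℤ) = Nat.card W₁ * C.Z1.card + 1 := by rw [hL]; push_cast; rfl
  rcases Nat.lt_or_ge (2 * r) C.Z1.card with hm | hm
  · -- the block is coherent with the characters of degree `q`
    obtain ⟨R, hR⟩ := PFPrimeTI.exists_system hS
    set S := Cfsg.inducedIrrAbove (ker M) ⊥ with hSd
    have hZS : ∀ χ ∈ C.Z1, χ ∈ S := fun χ hχ => by
      obtain ⟨l, hl, rfl⟩ := C.mem_Z1.1 hχ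
      refine ⟨_, isIrrCharacter_linear l, fun e => hl (MonoidHom.ext fun k => Units.ext (congrFun e k)),
        fun a ha => ?_, rfl⟩
      rw [show a = 1 from Subtype.ext (Subgroup.mem_bot.1 ha)]
    have hdegq : ∀ χ ∈ C.Z1, Cfsg.charDegree χ = Nat.card W₁ := fun χ hχ =>
      PF6.deg_of_eq (C.Z1_one hχ)
    have hZcoh : Cfsg.IsCoherent (↑C.Z1 : Set (↥M → ℂ)) {1}ᶜ (PFPrimeTI.tau M) := by
      refine S1517.result _ _ R (PF6.system_restrict hR (fun χ hχ => hZS χ hχ) ⟨_, h0⟩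
        fun χ hχ => (C.Z1_conj hχ).1) ?_
      intro χ hχ ψ hψ
      rw [C.Z1_one hχ, C.Z1_one hψ]
    have hSc : ∀ φ ∈ S, Cfsg.conjFun φ ∈ S := fun φ hφ => PF6.induced_conj hφ
    obtain ⟨S₁, h01, hT1, h1S, -, -, τ₁, h₁, h₂⟩ := PF6.coherent_grow hSc
      (PF6.extends_of_system hR subset_rfl) C.Z1 (fun χ hχ => hZS χ hχ) (fun χ hχ => (C.Z1_conj hχ).1)
      hZcoh X hX (fun χ hχ _ => by
        refine ⟨C.z0, h0, ?_, ?_⟩
        · rw [hdegq _ h0, PF6.deg_of_eq (n := Nat.card W₁ * r) (by rw [hXdeg χ hχ]; push_cast; rfl)]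
          exact dvd_mul_right _ _
        · rw [hdegq _ h0, PF6.deg_of_eq (n := Nat.card W₁ * r) (by rw [hXdeg χ hχ]; push_cast; rfl),
            Finset.sum_congr rfl (g := fun _ => (Nat.card W₁ : ℝ) ^ 2) (fun φ hφ => by
              rw [hdegq φ hφ, PF6.nm_of_eq (n := 1) (by rw [classInner_irr_self (C.Z1_irr hφ)]; simp)]
              simp),
            Finset.sum_const, nsmul_eq_mul]
          have hm' : (2 * r : ℝ) < C.Z1.card := by exact_mod_cast hm
          have hq : (0 : ℝ) < (Nat.card W₁ : ℝ) ^ 2 := by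
            have : (0 : ℝ) < Nat.card W₁ := Nat.cast_pos.2 Nat.card_pos
            positivity
          push_cast
          nlinarith [mul_lt_mul_of_pos_right hm' hq])
    have hm3 : 3 ≤ C.Z1.card := by omega
    have hmem : ∀ χ ∈ S₁, χ ∈ Cfsg.zspan (↑S₁ : Set (↥M → ℂ)) := fun χ hχ =>
      CoherenceBasic.subset_zspan hχ
    have hirr : ∀ χ, χ ∈ C.Z1 ∨ χ ∈ X → IsIrrCharacter ↥M χ := fun χ h => h.elim C.Z1_irr (hXirr χ)
    have hin : ∀ χ, χ ∈ C.Z1 ∨ χ ∈ X → χ ∈ S₁ := fun χ h => h.elim (fun h => h01 h) (fun h => hT1 h)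
    have hsi : ∀ χ, χ ∈ C.Z1 ∨ χ ∈ X → CoherenceBasic.SignedIrr (τ₁ χ) := fun χ hχ =>
      CoherenceBasic.si_of_norm_one (h₁.2.2.2 χ (hmem χ (hin χ hχ)))
        (by rw [h₁.2.2.1 χ (hmem χ (hin χ hχ)) χ (hmem χ (hin χ hχ))]; exact classInner_irr_self (hirr χ hχ))
    have horth : ∀ χ, χ ∈ C.Z1 ∨ χ ∈ X → ∀ χ', χ' ∈ C.Z1 ∨ χ' ∈ X →
        Cfsg.classInner (τ₁ χ) (τ₁ χ') = if χ = χ' then 1 else 0 := fun χ hχ χ' hχ' => by
      rw [h₁.2.2.1 χ (hmem χ (hin χ hχ)) χ' (hmem χ' (hin χ' hχ')), classInner_irr _ _ (hirr χ hχ) (hirr χ' hχ')]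
    have hdiff : ∀ χ χ' : ↥M → ℂ, ∀ (hχ : χ ∈ C.Z1 ∨ χ ∈ X) (hχ' : χ' ∈ C.Z1 ∨ χ' ∈ X) (a : ℤ),
        C.Sup (χ - (a : ℂ) • χ') → C.τ (χ - (a : ℂ) • χ') = τ₁ χ - (a : ℂ) • τ₁ χ' := by
      intro χ χ' hχ hχ' a hs
      have hz : (a : ℂ) • χ' ∈ Cfsg.zspan (↑S₁ : Set (↥M → ℂ)) :=
        CoherenceBasic.zspan_intCast_smul _ (hmem χ' (hin χ' hχ'))
      rw [tau_eq_ind_sup hS C hs, show Cfsg.indFun M (χ - (a : ℂ) • χ') = PFPrimeTI.tau M (χ - (a : ℂ) • χ') from rfl,
        ← h₂ _ (CoherenceBasic.mem_zspanOn_one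
          (CoherenceBasic.zspan_sub (hmem χ (hin χ hχ)) hz)
          (hs.2 1 fun h => h.1 rfl)),
        CoherenceBasic.span_map_sub h₁ (hmem χ (hin χ hχ)) hz]
      congr 1
      rw [show (a : ℂ) • χ' = a • χ' by funext x; simp, h₁.2.1 _ (hmem χ' (hin χ' hχ'))]
      funext g; simp
    have hf := C.f1_fam
    have hagree : ∀ χ ∈ C.Z1, τ₁ χ = C.f1 χ := by
      intro χ hχ
      obtain ⟨χ', hχ', hne⟩ := Finset.exists_mem_ne (by omega : 1 < C.Z1.card) χ
      obtain ⟨χ'', hχ'', hne', hne''⟩ : ∃ z ∈ C.Z1, z ≠ χ ∧ z ≠ χ' := by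
        by_contra hh
        push Not at hh
        have hsub : C.Z1 ⊆ {χ, χ'} := fun z hz => by
          simp only [Finset.mem_insert, Finset.mem_singleton]
          exact or_iff_not_imp_left.2 (hh z hz)
        have h4 := (Finset.card_le_card hsub).trans Finset.card_le_two
        omega
      have hd1 : ∀ z ∈ C.Z1, C.f1 χ - C.f1 z = τ₁ χ - τ₁ z := fun z hz => by
        have e := hdiff χ z (Or.inl hχ) (Or.inl hz) 1 (by simpa using C.sup_diff hχ hz)
        simpa [hf.diff χ hχ z hz] using e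
      exact eq_of_diffs (hf.si χ hχ) (hsi χ (Or.inl hχ)) (hsi χ' (Or.inl hχ')) (hsi χ'' (Or.inl hχ''))
        (by rw [hf.orth χ' hχ' χ hχ, if_neg hne]) (by rw [hf.orth χ'' hχ'' χ hχ, if_neg hne'])
        (by rw [horth χ' (Or.inl hχ') χ'' (Or.inl hχ''), if_neg (Ne.symm hne'')]) (hd1 χ' hχ') (hd1 χ'' hχ'')
    obtain ⟨fX, hfX⟩ := C.exists_fam X hXn hXirr (fun a ha b hb => by rw [hXdeg a ha, hXdeg b hb]) hXK hXconj
    have hXeta : ∀ φ ∈ X, ∀ ω, Cfsg.classInner (τ₁ φ) (C.η ω) = 0 := by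
      intro φ hφ ω
      have hc := (hXconj φ hφ).1
      refine orth_of_diff (hsi φ (Or.inr hφ)) (hsi _ (Or.inr hc)) (C.eta_si ω)
        (by rw [horth φ (Or.inr hφ) _ (Or.inr hc), if_neg (hXconj φ hφ).2.symm]) ?_
      have hs : C.Sup (φ - Cfsg.conjFun φ) := C.sup_of_K (isGeneralizedCharacter_sub (hXgen φ hφ) (hXgen _ hc))
        (by simp [hXdeg φ hφ, hXdeg _ hc]) (fun x hx => by simp [hXK φ hφ x hx, hXK _ hc x hx])
      have e := hdiff φ (Cfsg.conjFun φ) (Or.inr hφ) (Or.inr hc) 1 (by simpa using hs)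
      simp only [Int.cast_one, one_smul] at e
      rw [← e, hfX.diff φ hφ _ hc, classInner_sub_left, hfX.eta φ hφ, hfX.eta _ hc, sub_zero]
    set θ := C.τ (C.alp j C.z0) with hθd
    have hθ : IsGeneralizedCharacter G θ := C.tau_gen (C.sup_alp h0)
    have hco : ∀ φ ∈ X, Cfsg.classInner θ (τ₁ φ) = (((r : ℤ) * C.sv j : ℤ) : ℂ) := by
      intro φ hφ
      have hs : C.Sup (φ - ((r : ℤ) : ℂ) • C.z0) := by simpa using hsupX φ hφ
      have e := C.tau_inner_sup (C.sup_alp (j := j) h0) hs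
      rw [hdiff φ C.z0 (Or.inr hφ) (Or.inl h0) r hs, hagree _ h0, classInner_sub_right, classInner_smul_right,
        ← hθd, C.alpha_coeff h0 h0, if_pos rfl, map_intCast, classInner_sub_right, classInner_smul_right,
        C.alp_zeta h0 h0, if_pos rfl, map_intCast] at e
      have e2 : Cfsg.classInner (C.alp j C.z0) φ = 0 := by
        have z1 : Cfsg.classInner (C.mu.μ j.1) φ = 0 := by
          rw [← conj_classInner, show C.mu.μ j.1 = C.mu.μ ((i₀ : RowI W₁ W₂).1 * j.1) by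
            rw [show (i₀ : RowI W₁ W₂).1 * j.1 = j.1 from hom_one_mul _], hXmu φ hφ, map_zero]
        have z2 : Cfsg.classInner (fun _ => (1 : ℂ)) φ = 0 := by rw [← conj_classInner, hXone φ hφ, map_zero]
        have z3 : Cfsg.classInner C.z0 φ = 0 :=
          classInner_irr_ne (C.Z1_irr h0) (hXirr φ hφ) fun h => hXZ φ hφ (h ▸ h0)
        simp only [alp, classInner_sub_left, classInner_smul_left, z1, z2, z3, mul_zero, sub_zero]
      rw [e2] at e
      push_cast at e ⊢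
      linear_combination e
    have hN : Cfsg.classInner θ θ = ((2 + C.nn j.1 ^ 2 : ℤ) : ℂ) := by
      rw [hθd, C.tau_inner_sup (C.sup_alp h0) (C.sup_alp h0), C.alp_alp hj h0]
    have hb := bessel_int (Sum.elim (Sum.elim (fun χ : ↥C.Z1 => C.f1 χ) (fun φ : ↥X => τ₁ φ))
        (fun p : RowI W₁ W₂ × ColJ W₁ W₂ => C.η (p.1.1 * p.2.1))) ?_ ?_ hθ hN
    · obtain ⟨hb, -⟩ := hb
      simp only [Fintype.sum_sum_type, Sum.elim_inl, Sum.elim_inr, Fintype.sum_prod_type] at hb
      rw [Finset.sum_coe_sort C.Z1 (fun χ => ipz θ (C.f1 χ) ^ 2),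
        Finset.sum_coe_sort X (fun χ => ipz θ (τ₁ χ) ^ 2),
        Finset.sum_congr rfl (fun χ hχ => by rw [ipz_eq (C.alpha_coeff h0 hχ), sub_eq_add_neg, ← neg_mul]),
        C.sum_sq_coeff h0, Finset.sum_congr rfl (fun φ hφ => by rw [ipz_eq (hco φ hφ)]), Finset.sum_const,
        nsmul_eq_mul] at hb
      change _ + _ + ∑ i, ∑ j', C.ag j i j' ^ 2 ≤ _ at hb
      have hgp := C.alpha_grid_pos hj
      rw [hnm] at hb
      by_contra hs
      have hs1 : 1 ≤ C.sv j ^ 2 := sq_pos_of_ne hs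
      have hXr : 2 * ((Nat.card W₁ : ℤ) * C.Z1.card + 1) ≤ X.card * (r : ℤ) ^ 2 := by
        have hp' : (3 : ℤ) ≤ Nat.card W₂ := by exact_mod_cast hp3
        rw [hdZ] at hXd
        nlinarith
      have hm2 : (2 : ℤ) ≤ C.Z1.card := by exact_mod_cast C.two_Z1
      have habs : C.sv j ≤ C.sv j ^ 2 := Int.le_self_sq _
      have hA := mul_le_mul_of_nonneg_right hXr (sq_nonneg (C.sv j))
      have hB := mul_le_mul_of_nonneg_left habs (by linarith : (0 : ℤ) ≤ C.Z1.card)
      have hqm : (3 : ℤ) * C.Z1.card ≤ (Nat.card W₁ : ℤ) * C.Z1.card :=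
        mul_le_mul_of_nonneg_right hq3 (by linarith)
      have hC := mul_le_mul_of_nonneg_right hqm (sq_nonneg (C.sv j))
      have hD : (0 : ℤ) ≤ C.Z1.card * C.sv j ^ 2 := by positivity
      nlinarith [hb, hgp, hA, hB, hC, hD, hs1]
    · rintro ((χ | φ) | p)
      · exact C.fam_gen hf χ.2
      · exact CoherenceBasic.si_gen (hsi φ (Or.inr φ.2))
      · exact C.eta_gen _
    · have hfe : ∀ χ ∈ C.Z1, ∀ ω, Cfsg.classInner (C.η ω) (C.f1 χ) = 0 := fun χ hχ ω => by
        rw [← conj_classInner, hf.eta χ hχ, map_zero]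
      have hxe : ∀ φ ∈ X, ∀ ω, Cfsg.classInner (C.η ω) (τ₁ φ) = 0 := fun φ hφ ω => by
        rw [← conj_classInner, hXeta φ hφ, map_zero]
      rintro ((χ | φ) | p) ((χ' | φ') | p')
      · simp only [Sum.elim_inl, hf.orth χ χ.2 χ' χ'.2, Sum.inl.injEq, Subtype.ext_iff]
      · simp only [Sum.elim_inl, Sum.elim_inr, Sum.inl.injEq, reduceCtorEq, if_false]
        rw [← hagree χ χ.2, horth _ (Or.inl χ.2) _ (Or.inr φ'.2), if_neg fun (e : (χ : ↥M → ℂ) = φ') => hXZ φ'.1 φ'.2 (e ▸ χ.2)]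
      · simp [hf.eta χ χ.2]
      · simp only [Sum.elim_inl, Sum.elim_inr, Sum.inl.injEq, reduceCtorEq, if_false]
        rw [← hagree χ' χ'.2, horth _ (Or.inr φ.2) _ (Or.inl χ'.2), if_neg fun (e : (φ : ↥M → ℂ) = χ') => hXZ φ.1 φ.2 (e.symm ▸ χ'.2)]
      · simp only [Sum.elim_inl, Sum.elim_inr, horth _ (Or.inr φ.2) _ (Or.inr φ'.2), Sum.inl.injEq,
          Sum.inr.injEq, Subtype.ext_iff]
      · simp [hXeta φ φ.2]
      · simp [hfe χ' χ'.2]
      · simp [hxe φ' φ'.2]
      · simp only [Sum.elim_inr, Sum.inr.injEq, C.eta_cell, Prod.ext_iff]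
        split_ifs <;> rfl
  · -- the block is too big for the exceptional characters
    exfalso
    obtain ⟨φ, hφ⟩ := hXn
    obtain ⟨c, hc⟩ := hrd
    have hp5 : 5 ≤ Nat.card W₂ := by omega
    have hc3 : 3 ≤ c ∧ Odd c := by
      have ho : Odd d := by
        have h := (C.deg_pos_odd j.1).2
        rw [hdeg j hj] at h
        exact_mod_cast h
      have hoc : Odd c := ho.of_dvd_nat ⟨r, by rw [hc, mul_comm]⟩
      refine ⟨?_, hoc⟩
      obtain ⟨t, ht⟩ := hoc
      rcases Nat.eq_zero_or_pos t with h | h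
      · exfalso
        have hdr : d = r := by rw [hc, ht, h, mul_zero, zero_add, mul_one]
        have := Nat.mul_le_mul_left (Nat.card W₁) C.two_Z1
        omega
      · omega
    have hgen0 := isGeneralizedCharacter_of_isCharacter (isCharacter_of_isIrrCharacter (C.Z1_irr h0))
    have hgen1 := isGeneralizedCharacter_zsmul (hXgen φ hφ) (c : ℤ)
    have hgen2 := isGeneralizedCharacter_zsmul hgen0 (d : ℤ)
    set Yf : ↥M → ℂ := red C j - ((c : ℤ) : ℂ) • φ with hYf
    have hsupY : C.Sup Yf := C.sup_of_K (isGeneralizedCharacter_sub (red_gen C j) hgen1)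
      (by
        simp only [hYf, Pi.sub_apply, Pi.smul_apply, red_one, hdeg j hj, hXdeg φ hφ, smul_eq_mul, hc]
        push_cast; ring)
      (fun x hx => by simp [hYf, red_off C j x hx, hXK φ hφ x hx])
    set y := C.τ Yf with hy
    have hyg : IsGeneralizedCharacter G y := C.tau_gen hsupY
    have hredX : ∀ ψ ∈ X, Cfsg.classInner (red C j) ψ = 0 := fun ψ hψ =>
      PFPrimeTI.mem_orth hS (ind_th_red C hj).1 (hX hψ) fun e => ind_th_not_irr C (j := j)
        (by rw [← red, e]; exact hXirr ψ hψ)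
    have hXred : ∀ ψ ∈ X, Cfsg.classInner ψ (red C j) = 0 := fun ψ hψ => by
      rw [← conj_classInner, hredX ψ hψ, map_zero]
    have hyN : Cfsg.classInner y y = (((Nat.card W₁ : ℤ) + (c : ℤ) ^ 2 : ℤ) : ℂ) := by
      rw [hy, C.tau_inner_sup hsupY hsupY]
      simp only [hYf, classInner_sub_left, classInner_sub_right, classInner_smul_left, classInner_smul_right,
        red_red, hredX φ hφ, hXred φ hφ, classInner_irr_self (hXirr φ hφ), map_intCast]
      push_cast; ring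
    obtain ⟨fX, hfX⟩ := C.exists_fam X ⟨φ, hφ⟩ hXirr (fun a ha b hb => by rw [hXdeg a ha, hXdeg b hb]) hXK
      hXconj
    set t : ℤ := ipz y (fX φ) + c with ht
    have hco : ∀ ψ ∈ X, ipz y (fX ψ) = t - (c : ℤ) * (if φ = ψ then 1 else 0) := by
      intro ψ hψ
      refine ipz_eq ?_
      have hs : C.Sup (ψ - φ) := C.sup_of_K (isGeneralizedCharacter_sub (hXgen ψ hψ) (hXgen φ hφ))
        (by simp [hXdeg φ hφ, hXdeg ψ hψ]) (fun x hx => by simp [hXK φ hφ x hx, hXK ψ hψ x hx])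
      have e := C.tau_inner_sup hsupY hs
      rw [hfX.diff ψ hψ φ hφ, ← hy, classInner_sub_right, ipz_spec hyg (C.fam_gen hfX hφ)] at e
      simp only [hYf, classInner_sub_right, classInner_sub_left, classInner_smul_left, hredX ψ hψ, hredX φ hφ,
        classInner_irr _ _ (hXirr φ hφ) (hXirr ψ hψ), classInner_irr _ _ (hXirr φ hφ) (hXirr φ hφ), if_true] at e
      rw [ht]
      push_cast
      split_ifs with h <;> simp only [h, if_true, if_false] at e ⊢ <;> linear_combination e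
    have hgrid := (C.budget hfX hyg hyN).1
    rw [Finset.sum_congr rfl (fun ψ hψ => by rw [hco ψ hψ])] at hgrid
    have hsum : ∑ ψ ∈ X, (t - (c : ℤ) * (if φ = ψ then 1 else 0)) ^ 2 =
        (X.card : ℤ) * t ^ 2 - 2 * c * t + c ^ 2 := by
      have e : ∀ ψ : ↥M → ℂ, (t - (c : ℤ) * (if φ = ψ then 1 else 0)) ^ 2 =
          t ^ 2 + ((c : ℤ) ^ 2 - 2 * c * t) * (if φ = ψ then 1 else 0) := fun ψ => by split_ifs <;> ring
      rw [Finset.sum_congr rfl (fun ψ _ => e ψ), Finset.sum_add_distrib, Finset.sum_const, ← Finset.mul_sum,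
        Finset.sum_ite_eq, if_pos hφ, nsmul_eq_mul]
      ring
    rw [hsum] at hgrid
    -- the shape of the cells of `y`
    set Y : RowI W₁ W₂ → ColJ W₁ W₂ → ℤ := C.cell y with hYd
    have hY00 : Y i₀ j₀ = 0 := by
      refine C.cell_corner hyg ?_
      rw [hy, C.tau_inner_one (isClassFunction_of_isGeneralizedCharacter hsupY.1) hsupY.2]
      simp [hYf, classInner_sub_left, classInner_smul_left, red_inner_one C hj, hXone φ hφ]
    have hYrect : Rect i₀ j₀ Y := by
      refine C.cell_rect hyg fun w hw => ?_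
      rw [hy, C.tau_on_V (isClassFunction_of_isGeneralizedCharacter hsupY.1) hw]
      have hK : ((⟨(w : G), C.base.W_le w.2⟩ : ↥M) : G) ∉ (⁅M, M⁆ : Subgroup G) :=
        C.base.not_mem_K w.2 hw.2
      simp [hYf, red_off C j _ hK, hXK φ hφ _ hK]
    have hYk : ∀ k k' : ColJ W₁ W₂, k ≠ j₀ → k' ≠ j₀ → Y i₀ k - Y i₀ k' =
        (if j = k then 1 else 0) - (if j = k' then 1 else 0) := by
      intro k k' hk hk'
      by_cases hkk : k = k'
      · subst hkk; simp
      have e := C.delta_eq i₀ hkk hk hk' (by rw [hdeg k hk, hdeg k' hk']) (by rw [(hmn k hk).1, (hmn k' hk').1])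
      have hg : IsGeneralizedCharacter ↥M
          (C.mu.μ ((i₀ : RowI W₁ W₂).1 * k.1) - C.mu.μ ((i₀ : RowI W₁ W₂).1 * k'.1)) :=
        isGeneralizedCharacter_sub
          (isGeneralizedCharacter_of_isCharacter (isCharacter_of_isIrrCharacter (C.mu.irr _)))
          (isGeneralizedCharacter_of_isCharacter (isCharacter_of_isIrrCharacter (C.mu.irr _)))
      have e2 := C.tau_inner (isClassFunction_of_isGeneralizedCharacter hsupY.1) hsupY.2
        (isClassFunction_of_isGeneralizedCharacter hg)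
      rw [e, (hmn k hk).1, Int.cast_one, one_smul, classInner_sub_right, ← hy, C.cell_spec hyg,
        C.cell_spec hyg] at e2
      simp only [hYf, classInner_sub_left, classInner_sub_right, classInner_smul_left, red_mu, hXmu φ hφ,
        mul_zero, sub_zero] at e2
      have e3 : ((Y i₀ k - Y i₀ k' : ℤ) : ℂ) =
          (((if j = k then 1 else 0) - (if j = k' then 1 else 0) : ℤ) : ℂ) := by
        push_cast
        convert e2 using 3
      exact_mod_cast e3
    obtain ⟨k₁, hk₁0, hk₁j⟩ := exists_third C.three_col (j₀ : ColJ W₁ W₂) j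
    -- `τ α` has no cell at `k₁` in the principal row
    have hE : C.ag j i₀ k₁ = 0 := by
      by_contra hne
      have hab := C.alpha_budget hj
      rw [hnm] at hab
      set dd : G → ℂ := (C.dz j.1 : ℂ) • (C.η ((i₀ : RowI W₁ W₂).1 * j.1) -
        C.η ((i₀ : RowI W₁ W₂).1 * (j₀ : ColJ W₁ W₂).1)) with hdd
      have hdg : IsGeneralizedCharacter G dd :=
        isGeneralizedCharacter_zsmul (isGeneralizedCharacter_sub (C.eta_gen _) (C.eta_gen _)) _
      have hθ : IsGeneralizedCharacter G (C.τ (C.alp j C.z0)) := C.tau_gen (C.sup_alp h0)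
      have hrect : Rect i₀ j₀ (C.cell (C.τ (C.alp j C.z0) - dd)) := by
        refine C.cell_rect (isGeneralizedCharacter_sub hθ hdg) fun w hw => ?_
        have hK : ((⟨(w : G), C.base.W_le w.2⟩ : ↥M) : G) ∉ (⁅M, M⁆ : Subgroup G) :=
          C.base.not_mem_K w.2 hw.2
        rw [Pi.sub_apply, C.tau_on_V (isClassFunction_of_isGeneralizedCharacter (C.sup_alp h0).1) hw]
        simp only [hdd, Pi.sub_apply, Pi.smul_apply, smul_eq_mul, C.eta_V _ hw, alp, C.Z1_K h0 _ hK,
          C.mu.val j.1 w hw.2, C.dz_cast]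
        simp [i₀, j₀, hom_one_mul]
        ring
      have hb : ∀ i l, C.cell (C.τ (C.alp j C.z0) - dd) i l =
          C.ag j i l - (C.dz j.1 * E i₀ j i l - C.dz j.1 * E i₀ j₀ i l) := fun i l => by
        rw [C.cell_sub hθ hdg, hdd, C.cell_smul _ (isGeneralizedCharacter_sub (C.eta_gen _) (C.eta_gen _)),
          C.cell_sub (C.eta_gen _) (C.eta_gen _), C.cell_eta, C.cell_eta, FTPMu78.Core.ag]
        ring
      have hrow : ∀ i, 1 ≤ ∑ l, C.ag j i l ^ 2 := by
        intro i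
        by_cases hi : i = i₀
        · subst hi
          refine le_trans ?_ (one_le_sum (f := C.ag j i₀) j₀)
          rw [C.alpha_corner hj, hdz]; norm_num
        · by_cases hz : C.ag j i j₀ = 0
          · refine le_trans ?_ (one_le_sum (f := C.ag j i) k₁)
            have h := hrect i k₁
            rw [hb, hb, hb, hb, C.alpha_corner hj, hz] at h
            simp only [E_ne_left hi, E_self, E_ne_right hk₁0, E_ne_right hk₁j, E_ne_right (Ne.symm hj),
              mul_zero, mul_one, sub_zero] at h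
            refine sq_pos_of_ne fun h' => hne ?_
            linarith
          · exact le_trans (sq_pos_of_ne hz) (one_le_sum (f := C.ag j i) j₀)
      have hsq : (Nat.card W₁ : ℤ) ≤ ∑ i, ∑ l, C.ag j i l ^ 2 := by
        calc (Nat.card W₁ : ℤ) = ∑ _i : RowI W₁ W₂, (1 : ℤ) := by
              rw [Finset.sum_const, Finset.card_univ, C.card_row]; simp
          _ ≤ _ := Finset.sum_le_sum fun i _ => hrow i
      have hmq : (C.Z1.card : ℤ) + 3 ≤ Nat.card W₁ := by
        have h1 : Nat.card W₁ ≠ Nat.card W₂ := CyclicTIExist.card_ne hS.selfNorm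
        obtain ⟨a, ha⟩ := C.base.odd_card W₁
        obtain ⟨b, hb'⟩ := C.base.odd_card W₂
        exact_mod_cast (by omega : C.Z1.card + 3 ≤ Nat.card W₁)
      nlinarith [sq_nonneg (C.sv j - 1)]
    -- hence `c` divides `Y i₀ k₁ - 1`
    set Q : ℤ := Y i₀ k₁ with hQd
    have hdiv : (c : ℤ) ∣ Q - 1 := by
      set u := C.τ (φ - (r : ℂ) • C.z0) with hu
      have hug : IsGeneralizedCharacter G u := C.tau_gen (hsupX φ hφ)
      set Vf : ↥M → ℂ := red C j - ((d : ℤ) : ℂ) • C.z0 with hVf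
      have hVs : C.Sup Vf := C.sup_of_K (isGeneralizedCharacter_sub (red_gen C j) hgen2)
        (by simp [hVf, red_one, hdeg j hj, C.Z1_one h0, mul_comm])
        (fun x hx => by simp [hVf, red_off C j x hx, C.Z1_K h0 x hx])
      have hvg := C.tau_gen hVs
      have hcu : IsGeneralizedCharacter G (((c : ℤ) : ℂ) • u) := isGeneralizedCharacter_zsmul hug _
      have hyv : y = C.τ Vf - ((c : ℤ) : ℂ) • u := by
        rw [hy, hu, ← C.tau_smul, ← C.tau_sub]
        congr 1
        simp only [hYf, hVf, hc]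
        push_cast
        module
      have hv1 : C.cell (C.τ Vf) i₀ k₁ = 1 := by
        refine ipz_eq ?_
        rw [show (i₀ : RowI W₁ W₂).1 * k₁.1 = k₁.1 from hom_one_mul _]
        haveI : Fintype ↥((⁅M, M⁆ : Subgroup G).subgroupOf M) := Fintype.ofFinite _
        haveI : Fintype ↥(W₁ ⊔ W₂) := Fintype.ofFinite _
        haveI := C.KM_normal
        have hcl := (C.eta_gen k₁.1)
        have hclG := isClassFunction_of_isGeneralizedCharacter hcl
        set β : ↥M → ℂ := fun x => if (x : G) ∈ (⁅M, M⁆ : Subgroup G) then 0 else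
          (Nat.card W₁ : ℂ) * C.alp j C.z0 x with hβ
        have hsplit : Vf = (Nat.card W₁ : ℂ) • C.alp j C.z0 - C.gam C.z0 - β := by
          funext x
          have hdq : ((d : ℤ) : ℂ) = (Nat.card W₁ : ℂ) * (C.Z1.card : ℂ) + 1 := by
            rw [hdZ]; push_cast; ring
          by_cases hx : (x : G) ∈ (⁅M, M⁆ : Subgroup G)
          · simp only [hVf, hβ, alp, gam, oneK, Pi.sub_apply, Pi.smul_apply, smul_eq_mul, if_pos hx,
              red_K C j x hx, hdz, hnm, hdq]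
            push_cast; ring
          · simp only [hVf, hβ, gam, oneK, Pi.sub_apply, Pi.smul_apply, smul_eq_mul, if_neg hx,
              red_off C j x hx, C.Z1_K h0 x hx]
            ring
        have hβ0 : Cfsg.classInner β (fun x : ↥M => C.η k₁.1 (x : G)) = 0 := by
          rw [Cfsg.classInner, mul_eq_zero]
          right
          have hF : IsClassFunction ↥M (fun x => β x * conj (C.η k₁.1 (x : G))) := fun g h => by
            have e1 : ((h * g * h⁻¹ : ↥M) : G) ∈ (⁅M, M⁆ : Subgroup G) ↔ (g : G) ∈ (⁅M, M⁆ : Subgroup G) :=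
              ⟨fun hh => by simpa [mul_assoc] using C.base.conj_K (M.inv_mem h.2) hh,
                fun hh => C.base.conj_K h.2 hh⟩
            have e2 := hclG (g : G) (h : G)
            simp only [hβ, e1, isClassFunction_of_isGeneralizedCharacter (C.sup_alp (j := j) h0).1 g h]
            rw [show (((h * g * h⁻¹ : ↥M)) : G) = (h : G) * g * (h : G)⁻¹ from rfl, e2]
          rw [C.sum_out_eq hF, Finset.sum_eq_zero (fun k _ => by simp [hβ, show ((k : ↥M) : G) ∈
              (⁅M, M⁆ : Subgroup G) from k.2]), zero_add, mul_eq_zero]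
          right
          have hterm : ∀ w : {w : ↥(W₁ ⊔ W₂) // (w : G) ∉ W₂},
              β ⟨w.1, C.base.W_le w.1.2⟩ * conj (C.η k₁.1 ((w.1 : ↥(W₁ ⊔ W₂)) : G)) =
                (Nat.card W₁ : ℂ) * (((j.1 * k₁.1⁻¹) w.1 : ℂˣ) : ℂ) -
                  (Nat.card W₁ : ℂ) * (((k₁.1⁻¹) w.1 : ℂˣ) : ℂ) := by
            intro w
            have hK : ((w.1 : ↥(W₁ ⊔ W₂)) : G) ∉ (⁅M, M⁆ : Subgroup G) := C.base.not_mem_K w.1.2 w.2
            simp only [hβ, if_neg hK, alp, Pi.sub_apply, Pi.smul_apply, smul_eq_mul,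
              C.mu.val j.1 w.1 w.2, C.Z1_K h0 ⟨_, C.base.W_le w.1.2⟩ hK, ← C.dz_cast, hdz, Int.cast_one, one_mul, mul_zero, sub_zero]
            by_cases hw1 : ((w.1 : ↥(W₁ ⊔ W₂)) : G) ∈ W₁
            · simp [j.2 _ hw1, k₁.2 _ hw1]
            · rw [C.eta_V _ ⟨hw1, w.2⟩]
              simp only [MonoidHom.mul_apply, MonoidHom.inv_apply, Units.val_mul, Units.val_inv_eq_inv_val,
                Complex.inv_eq_conj (norm_linear k₁.1 w.1)]
              ring
          rw [Finset.sum_congr rfl (fun w _ => hterm w), Finset.sum_sub_distrib, ← Finset.mul_sum,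
            ← Finset.mul_sum, C.sum_compl _ (fun w hw => by simp [j.2 w hw, k₁.2 w hw]),
            C.sum_compl _ (fun w hw => by simp [k₁.2 w hw]), if_neg, if_neg, mul_zero, sub_zero]
          · intro e
            have e' : k₁.1 = 1 := MonoidHom.ext fun w => inv_eq_one.1 (DFunLike.congr_fun e w)
            exact hk₁0 (Subtype.ext e')
          · exact fun e => hk₁j (Subtype.ext (MonoidHom.ext fun w => (mul_inv_eq_one.1 (DFunLike.congr_fun e w)).symm))
        rw [tau_eq_ind_sup hS C hVs, CharInduced.inner_ind_left _ _ hclG, hsplit, classInner_sub_left,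
          classInner_sub_left, classInner_smul_left, hβ0, ← CharInduced.inner_ind_left _ _ hclG,
          ← CharInduced.inner_ind_left _ _ hclG, ← tau_eq_ind_sup hS C (C.sup_alp h0),
          ← tau_eq_ind_sup hS C (C.sup_gam h0)]
        have ea : Cfsg.classInner (C.τ (C.alp j C.z0)) (C.η k₁.1) = 0 := by
          rw [show k₁.1 = (i₀ : RowI W₁ W₂).1 * k₁.1 from (hom_one_mul _).symm,
            C.cell_spec (C.tau_gen (C.sup_alp h0)),
            show C.cell (C.τ (C.alp j C.z0)) i₀ k₁ = C.ag j i₀ k₁ from rfl, hE, Int.cast_zero]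
        have eg : Cfsg.classInner (C.τ (C.gam C.z0)) (C.η k₁.1) = -1 := by
          rw [show k₁.1 = (i₀ : RowI W₁ W₂).1 * k₁.1 from (hom_one_mul _).symm,
            C.cell_spec (C.tau_gen (C.sup_gam h0)),
            show C.cell (C.τ (C.gam C.z0)) i₀ k₁ = C.bg i₀ k₁ from rfl, hall k₁]
          simp
        rw [ea, eg]
        simp
      refine ⟨-C.cell u i₀ k₁, ?_⟩
      rw [hQd, hYd, hyv, C.cell_sub hvg hcu, C.cell_smul _ hug, hv1]
      ring
    have hQ : Q = 1 ∨ 3 ≤ |Q - 1| := by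
      by_cases h : Q - 1 = 0
      · exact Or.inl (by linarith)
      · refine Or.inr (le_trans (by exact_mod_cast hc3.1) (Int.le_of_dvd (abs_pos.2 h) ((dvd_abs _ _).2 hdiv)))
    -- the lower bound for the grid
    have hrowY : ∀ i, ∑ l, Y i l ^ 2 = Y i j₀ ^ 2 +
        (((Nat.card W₂ : ℤ) - 1) * (Y i j₀ + Q) ^ 2 + 2 * (Y i j₀ + Q) + 1) := by
      intro i
      have hl : ∀ l : ColJ W₁ W₂, l ≠ j₀ → Y i l = Y i j₀ + Q + (if j = l then 1 else 0) := fun l hl => by
        have h := hYrect i l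
        rw [hY00] at h
        have h2 := hYk l k₁ hl hk₁0
        rw [if_neg (Ne.symm hk₁j), sub_zero] at h2
        linarith
      rw [← Finset.add_sum_erase Finset.univ (fun l => Y i l ^ 2) (Finset.mem_univ (j₀ : ColJ W₁ W₂)),
        Finset.sum_congr rfl (g := fun l => (Y i j₀ + Q) ^ 2 + (2 * (Y i j₀ + Q) + 1) * (if j = l then 1 else 0))
          (fun l hl' => by rw [hl l (Finset.mem_erase.1 hl').1]; split_ifs <;> ring),
        Finset.sum_add_distrib, Finset.sum_const, ← Finset.mul_sum, Finset.sum_ite_eq,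
        if_pos (Finset.mem_erase.2 ⟨hj, Finset.mem_univ _⟩), Finset.card_erase_of_mem (Finset.mem_univ _),
        Finset.card_univ, C.card_col, nsmul_eq_mul, Nat.cast_sub (by omega)]
      push_cast; ring
    have hp5' : (5 : ℤ) ≤ Nat.card W₂ := by exact_mod_cast hp5
    have hlow : 2 * (Nat.card W₁ : ℤ) + 1 ≤ ∑ i, ∑ l, Y i l ^ 2 := by
      rw [← Finset.add_sum_erase Finset.univ (fun i => ∑ l, Y i l ^ 2) (Finset.mem_univ (i₀ : RowI W₁ W₂))]
      have h1 : (3 : ℤ) ≤ ∑ l, Y i₀ l ^ 2 := by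
        rw [hrowY]; exact (row_bound hp5' hQ).2 hY00
      have h2 : ∑ _i ∈ Finset.univ.erase (i₀ : RowI W₁ W₂), (2 : ℤ) ≤
          ∑ i ∈ Finset.univ.erase (i₀ : RowI W₁ W₂), ∑ l, Y i l ^ 2 :=
        Finset.sum_le_sum fun i _ => by rw [hrowY]; exact (row_bound hp5' hQ).1
      rw [Finset.sum_const, Finset.card_erase_of_mem (Finset.mem_univ _), Finset.card_univ, C.card_row,
        nsmul_eq_mul, Nat.cast_sub (by omega)] at h2
      push_cast at h2
      linarith
    have hXpos : (0 : ℤ) < X.card := by exact_mod_cast Finset.card_pos.2 ⟨φ, hφ⟩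
    have hcd : (c : ℤ) ^ 2 < ((Nat.card W₁ : ℤ) + 1) * X.card := by
      have hmp : (C.Z1.card : ℤ) ≤ (Nat.card W₂ : ℤ) - 1 := by
        have : (C.Z1.card : ℤ) ≤ 2 * r := by exact_mod_cast hm
        have h2 : (2 * r + 1 : ℤ) ≤ Nat.card W₂ := by exact_mod_cast hrp
        linarith
      have hdp : (d : ℤ) < ((Nat.card W₁ : ℤ) + 1) * ((Nat.card W₂ : ℤ) - 1) := by
        rw [hdZ]; nlinarith
      have hdc : (d : ℤ) = r * c := by exact_mod_cast hc
      have hr2 : (0 : ℤ) < (r : ℤ) ^ 2 := by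
        have : (0 : ℤ) < r := by exact_mod_cast (by omega : 0 < r)
        positivity
      have hdpos : (0 : ℤ) < d := Int.natCast_pos.2 (by omega)
      refine lt_of_mul_lt_mul_left (a := (r : ℤ) ^ 2) ?_ hr2.le
      calc (r : ℤ) ^ 2 * (c : ℤ) ^ 2 = d * d := by rw [hdc]; ring
        _ < ((Nat.card W₁ : ℤ) + 1) * ((Nat.card W₂ : ℤ) - 1) * d := mul_lt_mul_of_pos_right hdp hdpos
        _ ≤ ((Nat.card W₁ : ℤ) + 1) * (X.card * (r : ℤ) ^ 2) := by
          rw [mul_assoc]; exact mul_le_mul_of_nonneg_left hXd (by positivity)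
        _ = _ := by ring
    have hgy : (X.card : ℤ) * t ^ 2 - 2 * c * t + (Nat.card W₁ : ℤ) + 1 ≤ 0 := by
      change _ + ∑ i, ∑ l, Y i l ^ 2 ≤ _ at hgrid
      linarith
    nlinarith [sq_nonneg ((X.card : ℤ) * t - c), mul_le_mul_of_nonneg_left hgy hXpos.le]

end Cfsg.Agent.PFSZero39
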