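import Cfsg.Agent.Lib.PF6Feit43
import Cfsg.Agent.S1531

/-!
Gluing two coherent sets of irreducible characters, and the congruence for coefficients of
restrictions that makes the gluing work.
-/

set_option autoImplicit false
set_option linter.unusedSectionVars false
set_option linter.style.haveILetI false

open scoped ComplexConjugate

namespace Cfsg.Agent.PF6

open Cfsg.Agent.CharBasic Cfsg.Agent.CharBasicOrth Cfsg.Agent.CharBasicDecomp Cfsg.Agent.CoherenceBasic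

universe u v

/-- A class function whose coefficients on the characters non-trivial on `Z` are proportional to their
degrees takes a value on `Z \ {1}` that is determined by one coefficient. -/
theorem value_of_proportional {N : Type u} [Group N] [Fintype N] {Z : Subgroup N} {f : N → ℂ}
    (hf : Cfsg.IsClassFunction N f) {χ₁ : N → ℂ}
    (hprop : ∀ χ : Cfsg.IrrCharacter N, (∃ z ∈ Z, (χ : N → ℂ) z ≠ (χ : N → ℂ) 1) →
      χ₁ 1 * Cfsg.classInner f (χ : N → ℂ) = (χ : N → ℂ) 1 * Cfsg.classInner f χ₁)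
    {z : N} (hz : z ∈ Z) (hz1 : z ≠ 1) :
    χ₁ 1 * (f z - f 1) = -(Cfsg.classInner f χ₁) * Nat.card N := by
  classical
  have h := eq_sum_classInner hf
  have hterm : ∀ χ : Cfsg.IrrCharacter N, χ₁ 1 * (Cfsg.classInner f χ * ((χ : N → ℂ) z - (χ : N → ℂ) 1)) =
      Cfsg.classInner f χ₁ * ((χ : N → ℂ) z * conj ((χ : N → ℂ) 1) - (χ : N → ℂ) 1 ^ 2) := by
    intro χ
    obtain ⟨n, -, hn⟩ := isIrrCharacter_apply_one χ.2
    rw [hn, map_natCast]
    by_cases hχ : (χ : N → ℂ) z = (n : ℂ)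
    · rw [hχ]; ring
    · have := hprop χ ⟨z, hz, hn ▸ hχ⟩
      rw [hn] at this
      linear_combination ((χ : N → ℂ) z - (n : ℂ)) * this
  have e1 := congrFun h z
  have e2 := congrFun h 1
  simp only [Finset.sum_apply, Pi.smul_apply, smul_eq_mul] at e1 e2
  rw [e1, e2, ← Finset.sum_sub_distrib, Finset.mul_sum,
    Finset.sum_congr rfl (fun χ _ => by rw [← mul_sub, hterm χ]), ← Finset.mul_sum, Finset.sum_sub_distrib,
    sum_irr_mul_conj, sum_sq_apply_one, if_neg (fun hc => hz1 (isConj_one_left.1 hc)), zero_sub, neg_mul,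
    mul_neg]

theorem nn_aux {u M : ℤ} (hM : 2 ≤ M) : 0 ≤ u * (u * M - 2) := by
  rcases le_or_gt u 0 with h | h
  · exact mul_nonneg_of_nonpos_of_nonpos h (by nlinarith)
  · exact mul_nonneg h.le (by nlinarith)

variable {L : Type u} [Group L] [Fintype L] {G : Type v} [Group G] [Fintype G]
  {τ : (L → ℂ) → (G → ℂ)}

/-- The only way a coherent set can carry a non-trivial coefficient is a sign change of a pair. -/
theorem flip_sol {T : Finset (L → ℂ)} (v : (L → ℂ) → (G → ℂ)) {t₀ : L → ℂ} (h₀ : t₀ ∈ T)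
    (h2 : 1 < T.card) (m : (L → ℂ) → ℕ) (hm : ∀ t ∈ T, 1 ≤ m t) (hm₀ : m t₀ = 1)
    (hM : 2 ≤ ∑ t ∈ T, m t ^ 2) {u : ℤ} (hu : u * (u * (∑ t ∈ T, m t ^ 2 : ℕ) - 2) ≤ 0) :
    ∃ (π : Equiv.Perm (L → ℂ)) (ε : ℤ), (ε = 1 ∨ ε = -1) ∧ (∀ t ∈ T, π t ∈ T) ∧
      (∀ t ∈ T, (ε : ℂ) • v (π t) - (m t : ℂ) • (ε : ℂ) • v (π t₀) = v t - (m t : ℂ) • v t₀) ∧
      ∑ t ∈ T, (((u * m t - if t = t₀ then 1 else 0 : ℤ)) : ℂ) • v t = -((ε : ℂ) • v (π t₀)) := by
  classical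
  by_cases hu0 : u = 0
  · subst hu0
    refine ⟨1, 1, Or.inl rfl, fun t ht => ht, fun t _ => by simp, ?_⟩
    rw [Finset.sum_eq_single t₀]
    · simp
    · intro t _ hne; simp [hne]
    · exact fun h => absurd h₀ h
  have hM' : (2 : ℤ) ≤ (∑ t ∈ T, m t ^ 2 : ℕ) := by exact_mod_cast hM
  set M : ℤ := ((∑ t ∈ T, m t ^ 2 : ℕ) : ℤ) with hMdef
  have hu1 : u = 1 ∧ M = 2 := by
    rcases lt_or_gt_of_ne hu0 with h | h
    · have : 0 < u * (u * M - 2) := mul_pos_of_neg_of_neg h (by nlinarith)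
      omega
    · have h3 : u * M ≤ 2 := by
        by_contra hcon
        have : 0 < u * (u * M - 2) := mul_pos h (by omega)
        omega
      constructor <;> nlinarith
  obtain ⟨rfl, hM2⟩ := hu1
  have hM2' : ∑ t ∈ T, m t ^ 2 = 2 := by omega
  obtain ⟨t₁, h₁, hne⟩ := Finset.exists_mem_ne h2 t₀
  have hsub : ({t₀, t₁} : Finset (L → ℂ)) ⊆ T := Finset.insert_subset h₀ (Finset.singleton_subset_iff.2 h₁)
  have hpair : ∑ t ∈ ({t₀, t₁} : Finset (L → ℂ)), m t ^ 2 = m t₀ ^ 2 + m t₁ ^ 2 := Finset.sum_pair hne.symm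
  have hm₁ : m t₁ = 1 := by
    have h := Finset.sum_le_sum_of_subset (f := fun t => m t ^ 2) hsub
    rw [hpair, hM2', hm₀] at h
    have := hm t₁ h₁
    nlinarith
  have hT : T = {t₀, t₁} := by
    refine (Finset.Subset.antisymm hsub fun t ht => ?_).symm
    by_contra hnot
    have h := Finset.sum_lt_sum_of_subset (f := fun t => m t ^ 2) hsub ht hnot
      (pow_pos (hm t ht) 2) fun _ _ _ => Nat.zero_le _
    rw [hpair, hM2', hm₀, hm₁] at h
    omega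
  subst hT
  refine ⟨Equiv.swap t₀ t₁, -1, Or.inr rfl, fun t ht => ?_, fun t ht => ?_, ?_⟩
  · rcases Finset.mem_insert.1 ht with rfl | ht
    · simp
    · rw [Finset.mem_singleton] at ht; subst ht; simp
  · rcases Finset.mem_insert.1 ht with rfl | ht
    · simp [hm₀]
    · rw [Finset.mem_singleton] at ht; subst ht
      simp [hm₁]
      abel
  · rw [Finset.sum_pair hne.symm]
    simp [hm₀, hm₁, hne]

set_option maxHeartbeats 1600000 in
/-- Gluing two coherent sets along `a • η₀ - χ₁`. -/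
theorem glue {X Y : Finset (L → ℂ)} (hirr : ∀ φ ∈ X ∪ Y, Cfsg.IsIrrCharacter L φ) (hd : Disjoint X Y)
    (hX2 : 1 < X.card) (hY2 : 1 < Y.card)
    (hτ : Cfsg.IsLinearIsometryOn (Cfsg.zspanOn (↑(X ∪ Y) : Set (L → ℂ)) {1}ᶜ) τ)
    (hτ1 : ∀ θ ∈ Cfsg.zspanOn (↑(X ∪ Y) : Set (L → ℂ)) {1}ᶜ, τ θ 1 = 0)
    (v w : (L → ℂ) → (G → ℂ))
    (hv : Cfsg.IsLinearIsometryOn (Cfsg.zspan (↑X : Set (L → ℂ))) v)
    (hvτ : ∀ θ ∈ Cfsg.zspanOn (↑X : Set (L → ℂ)) {1}ᶜ, v θ = τ θ)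
    (hw : Cfsg.IsLinearIsometryOn (Cfsg.zspan (↑Y : Set (L → ℂ))) w)
    (hwτ : ∀ θ ∈ Cfsg.zspanOn (↑Y : Set (L → ℂ)) {1}ᶜ, w θ = τ θ)
    {χ₁ η₀ : L → ℂ} (h₁ : χ₁ ∈ X) (h₀ : η₀ ∈ Y) (e a : ℕ) (m : (L → ℂ) → ℕ) (he0 : e ≠ 0)
    (he : ∀ η ∈ Y, η 1 = (e : ℂ)) (ha : χ₁ 1 = ((e * a : ℕ) : ℂ))
    (hm : ∀ χ ∈ X, χ 1 = (m χ : ℂ) * χ₁ 1) (hM : 2 ≤ ∑ χ ∈ X, m χ ^ 2)
    (hdvd : ∃ k : ℤ, Cfsg.classInner (τ ((a : ℂ) • η₀ - χ₁)) (w η₀) = (a : ℂ) * k) :
    Cfsg.IsCoherent (↑(X ∪ Y) : Set (L → ℂ)) {1}ᶜ τ := by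
  classical
  have hXS : X ⊆ X ∪ Y := Finset.subset_union_left
  have hYS : Y ⊆ X ∪ Y := Finset.subset_union_right
  have hperp : ∀ χ ∈ X, ∀ η ∈ Y, Cfsg.classInner (v χ) (w η) = 0 :=
    (S1531.union_coherent (S := (↑(X ∪ Y) : Set (L → ℂ))) (fun φ hφ => hirr φ hφ) (Finset.coe_subset.2 hXS)
      (Finset.coe_subset.2 hYS) (Finset.disjoint_coe.2 hd) (by simpa using Finset.one_lt_card.1 hX2)
      (by simpa using Finset.one_lt_card.1 hY2) hτ hτ1 hv hvτ hw hwτ).1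
  have hne1 : χ₁ 1 ≠ 0 := isIrrCharacter_apply_one_ne_zero (hirr χ₁ (hXS h₁))
  have ha0 : a ≠ 0 := fun h => hne1 (by rw [ha, h, mul_zero, Nat.cast_zero])
  have hm1 : ∀ χ ∈ X, 1 ≤ m χ := fun χ hχ => Nat.one_le_iff_ne_zero.2 fun h =>
    isIrrCharacter_apply_one_ne_zero (hirr χ (hXS hχ)) (by rw [hm χ hχ, h, Nat.cast_zero, zero_mul])
  have hm₁ : m χ₁ = 1 := by
    have h := hm χ₁ h₁
    have h' : ((m χ₁ : ℕ) : ℂ) = 1 := mul_right_cancel₀ hne1 (by rw [one_mul]; exact h.symm)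
    exact_mod_cast h'
  have hor : ∀ φ ∈ X ∪ Y, ∀ ψ ∈ X ∪ Y, Cfsg.classInner φ ψ = if φ = ψ then 1 else 0 :=
    fun φ hφ ψ hψ => classInner_irr _ _ (hirr φ hφ) (hirr ψ hψ)
  have hxy : ∀ χ ∈ X, ∀ η ∈ Y, χ ≠ η := fun χ hχ η hη h => Finset.disjoint_left.1 hd hχ (h ▸ hη)
  have hvg : ∀ χ ∈ X, ∀ χ' ∈ X, Cfsg.classInner (v χ) (v χ') = if χ = χ' then 1 else 0 := fun χ hχ χ' hχ' =>
    (hv.2.2.1 χ (subset_zspan hχ) χ' (subset_zspan hχ')).trans (hor χ (hXS hχ) χ' (hXS hχ'))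
  have hwg : ∀ η ∈ Y, ∀ η' ∈ Y, Cfsg.classInner (w η) (w η') = if η = η' then 1 else 0 := fun η hη η' hη' =>
    (hw.2.2.1 η (subset_zspan hη) η' (subset_zspan hη')).trans (hor η (hYS hη) η' (hYS hη'))
  have hwv : ∀ η ∈ Y, ∀ χ ∈ X, Cfsg.classInner (w η) (v χ) = 0 := fun η hη χ hχ => by
    rw [← conj_classInner, hperp χ hχ η hη, map_zero]
  -- the degree zero combinations
  have mX : ∀ χ ∈ X, χ - (m χ : ℂ) • χ₁ ∈ Cfsg.zspanOn (↑X : Set (L → ℂ)) {1}ᶜ := fun χ hχ =>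
    mem_zspanOn_one (zspan_sub (subset_zspan hχ) (zspan_natCast_smul _ (subset_zspan h₁))) (by simp [hm χ hχ])
  have mY : ∀ η ∈ Y, η - η₀ ∈ Cfsg.zspanOn (↑Y : Set (L → ℂ)) {1}ᶜ := fun η hη =>
    mem_zspanOn_one (zspan_sub (subset_zspan hη) (subset_zspan h₀)) (by simp [he η hη, he η₀ h₀])
  have tX : ∀ χ ∈ X, τ (χ - (m χ : ℂ) • χ₁) = v χ - (m χ : ℂ) • v χ₁ := fun χ hχ => by
    rw [← hvτ _ (mX χ hχ), span_map_sub hv (subset_zspan hχ) (zspan_natCast_smul _ (subset_zspan h₁)),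
      span_map_natCast_smul hv _ (subset_zspan h₁)]
  have tY : ∀ η ∈ Y, τ (η - η₀) = w η - w η₀ := fun η hη => by
    rw [← hwτ _ (mY η hη), span_map_sub hw (subset_zspan hη) (subset_zspan h₀)]
  set β := (a : ℂ) • η₀ - χ₁ with hβdef
  have mβ : β ∈ Cfsg.zspanOn (↑(X ∪ Y) : Set (L → ℂ)) {1}ᶜ :=
    mem_zspanOn_one (zspan_sub (zspan_natCast_smul _ (subset_zspan (hYS h₀))) (subset_zspan (hXS h₁)))
      (by rw [hβdef, Pi.sub_apply, Pi.smul_apply, smul_eq_mul, he η₀ h₀, ha]; push_cast; ring)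
  have mX' := fun χ hχ => zspanOn_mono (Finset.coe_subset.2 hXS) (mX χ hχ)
  have mY' := fun η hη => zspanOn_mono (Finset.coe_subset.2 hYS) (mY η hη)
  set Φ := τ β with hΦdef
  have hΦg : Cfsg.IsGeneralizedCharacter G Φ := hτ.2.2.2 _ mβ
  have hΦn : Cfsg.classInner Φ Φ = ((a : ℤ) ^ 2 + 1 : ℤ) := by
    rw [hΦdef, hτ.2.2.1 _ mβ _ mβ, hβdef]
    simp only [classInner_sub_left, classInner_sub_right, classInner_smul_left, classInner_smul_right,
      hor η₀ (hYS h₀) η₀ (hYS h₀), hor η₀ (hYS h₀) χ₁ (hXS h₁), hor χ₁ (hXS h₁) η₀ (hYS h₀),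
      hor χ₁ (hXS h₁) χ₁ (hXS h₁), if_true, if_neg (hxy χ₁ h₁ η₀ h₀), if_neg (hxy χ₁ h₁ η₀ h₀).symm,
      map_natCast]
    push_cast; ring
  obtain ⟨u₀, hu₀⟩ := classInner_isGeneralizedCharacter hΦg (hv.2.2.2 χ₁ (subset_zspan h₁))
  set u : ℤ := u₀ + 1 with hudef
  have hc : ∀ χ ∈ X, Cfsg.classInner Φ (v χ) = ((u * m χ - if χ = χ₁ then 1 else 0 : ℤ) : ℂ) := by
    intro χ hχ
    have h := hτ.2.2.1 _ mβ _ (mX' χ hχ)
    rw [tX χ hχ, ← hΦdef, classInner_sub_right, classInner_smul_right, hu₀, hβdef] at h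
    simp only [classInner_sub_left, classInner_sub_right, classInner_smul_left, classInner_smul_right,
      hor η₀ (hYS h₀) χ (hXS hχ), hor η₀ (hYS h₀) χ₁ (hXS h₁), hor χ₁ (hXS h₁) χ (hXS hχ),
      hor χ₁ (hXS h₁) χ₁ (hXS h₁), if_true, if_neg (hxy χ hχ η₀ h₀).symm, if_neg (hxy χ₁ h₁ η₀ h₀).symm,
      map_natCast] at h
    rw [hudef]
    by_cases hc : χ = χ₁
    · subst hc; rw [hm₁, if_pos rfl, hu₀]; push_cast; ring
    · rw [if_neg (Ne.symm hc)] at h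
      rw [if_neg hc]; push_cast; linear_combination h
  obtain ⟨k, hk⟩ := hdvd

  set u' : ℤ := -(k - 1) with hu'def
  have hb : ∀ η ∈ Y, Cfsg.classInner Φ (w η) =
      ((-(a : ℤ) * (u' * (1 : ℕ) - if η = η₀ then 1 else 0) : ℤ) : ℂ) := by
    intro η hη
    have h := hτ.2.2.1 _ mβ _ (mY' η hη)
    rw [tY η hη, ← hΦdef, classInner_sub_right, hk, hβdef] at h
    simp only [classInner_sub_left, classInner_sub_right, classInner_smul_left,
      hor η₀ (hYS h₀) η (hYS hη), hor η₀ (hYS h₀) η₀ (hYS h₀), hor χ₁ (hXS h₁) η (hYS hη),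
      hor χ₁ (hXS h₁) η₀ (hYS h₀), if_true, if_neg (hxy χ₁ h₁ η hη), if_neg (hxy χ₁ h₁ η₀ h₀)] at h
    rw [hu'def]
    by_cases hc : η = η₀
    · subst hc; rw [if_pos rfl, hk]; push_cast; ring
    · rw [if_neg (Ne.symm hc)] at h
      rw [if_neg hc]; push_cast; linear_combination h
  set c : (L → ℂ) → ℤ := fun χ => u * m χ - if χ = χ₁ then 1 else 0 with hcdef
  set b : (L → ℂ) → ℤ := fun η => -(a : ℤ) * (u' * (1 : ℕ) - if η = η₀ then 1 else 0) with hbdef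
  set PX := ∑ χ ∈ X, (c χ : ℂ) • v χ with hPX
  set PY := ∑ η ∈ Y, (b η : ℂ) • w η with hPY
  have pv : ∀ χ ∈ X, Cfsg.classInner (PX + PY) (v χ) = (c χ : ℂ) := by
    intro χ hχ
    rw [classInner_add_left, hPX, hPY, classInner_sum_left, classInner_sum_left,
      Finset.sum_eq_single χ (fun χ' hχ' hne => by
        rw [classInner_smul_left, hvg χ' hχ' χ hχ, if_neg hne, mul_zero]) (fun h => absurd hχ h),
      Finset.sum_eq_zero (fun η hη => by rw [classInner_smul_left, hwv η hη χ hχ, mul_zero]),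
      classInner_smul_left, hvg χ hχ χ hχ, if_pos rfl, mul_one, add_zero]
  have pw : ∀ η ∈ Y, Cfsg.classInner (PX + PY) (w η) = (b η : ℂ) := by
    intro η hη
    rw [classInner_add_left, hPX, hPY, classInner_sum_left, classInner_sum_left,
      Finset.sum_eq_single (s := Y) η (fun η' hη' hne => by
        rw [classInner_smul_left, hwg η' hη' η hη, if_neg hne, mul_zero]) (fun h => absurd hη h),
      Finset.sum_eq_zero (fun χ hχ => by rw [classInner_smul_left, hperp χ hχ η hη, mul_zero]),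
      classInner_smul_left, hwg η hη η hη, if_pos rfl, mul_one, zero_add]
  have hsq : ∀ f : G → ℂ, (∀ χ ∈ X, Cfsg.classInner f (v χ) = (c χ : ℂ)) →
      (∀ η ∈ Y, Cfsg.classInner f (w η) = (b η : ℂ)) →
      Cfsg.classInner f (PX + PY) = ((∑ χ ∈ X, c χ * c χ + ∑ η ∈ Y, b η * b η : ℤ) : ℂ) := by
    intro f h1 h2
    rw [classInner_add_right, hPX, hPY, classInner_sum_right, classInner_sum_right, Int.cast_add,
      Int.cast_sum, Int.cast_sum]
    congr 1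
    · exact Finset.sum_congr rfl fun χ hχ => by
        rw [classInner_smul_right, h1 χ hχ, map_intCast, Int.cast_mul]
    · exact Finset.sum_congr rfl fun η hη => by
        rw [classInner_smul_right, h2 η hη, map_intCast, ← Int.cast_mul]
  have e1 := hsq Φ hc hb
  have e2 := hsq _ pv pw
  have e3 : Cfsg.classInner (PX + PY) Φ = Cfsg.classInner Φ (PX + PY) := by
    rw [← conj_classInner, e1, map_intCast]
  set M : ℤ := ((∑ χ ∈ X, m χ ^ 2 : ℕ) : ℤ) with hMdef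
  set n : ℤ := (Y.card : ℤ) with hndef
  have sc : ∑ χ ∈ X, c χ * c χ = u * (u * M - 2) + 1 := by
    have : ∀ χ ∈ X, c χ * c χ = u * u * ((m χ ^ 2 : ℕ) : ℤ) - (if χ = χ₁ then (2 * u - 1) else 0) := by
      intro χ _
      rw [hcdef]
      by_cases h : χ = χ₁
      · subst h; simp [hm₁]; ring
      · simp [h]; ring
    rw [Finset.sum_congr rfl this, Finset.sum_sub_distrib, ← Finset.mul_sum, ← Nat.cast_sum, ← hMdef,
      Finset.sum_ite_eq' X χ₁, if_pos h₁]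
    ring
  have sb : ∑ η ∈ Y, b η * b η = (a : ℤ) ^ 2 * (u' * (u' * n - 2) + 1) := by
    have : ∀ η ∈ Y, b η * b η = (a : ℤ) ^ 2 * (u' * u') - (if η = η₀ then (a : ℤ) ^ 2 * (2 * u' - 1) else 0) := by
      intro η _
      rw [hbdef]
      by_cases h : η = η₀
      · subst h; simp; ring
      · simp [h]; ring
    rw [Finset.sum_congr rfl this, Finset.sum_sub_distrib, Finset.sum_const, nsmul_eq_mul, ← hndef,
      Finset.sum_ite_eq' Y η₀, if_pos h₀]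
    ring
  have hdiff : Cfsg.classInner (Φ - (PX + PY)) (Φ - (PX + PY)) =
      ((-(u * (u * M - 2)) - (a : ℤ) ^ 2 * (u' * (u' * n - 2)) : ℤ) : ℂ) := by
    rw [classInner_sub_left, classInner_sub_right, classInner_sub_right, e3, e1, e2, hΦn, sc, sb]
    push_cast; ring
  have hM' : (2 : ℤ) ≤ M := by rw [hMdef]; exact_mod_cast hM
  have hn' : (2 : ℤ) ≤ n := by rw [hndef]; exact_mod_cast hY2
  have hge := classInner_self_nonneg (Φ - (PX + PY))
  rw [hdiff, Complex.intCast_re] at hge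
  have hge' : 0 ≤ -(u * (u * M - 2)) - (a : ℤ) ^ 2 * (u' * (u' * n - 2)) := by exact_mod_cast hge
  have k1 := nn_aux (u := u) hM'
  have k2 := nn_aux (u := u') hn'
  have ha2 : (0 : ℤ) < (a : ℤ) ^ 2 := by positivity
  have k3 : u * (u * M - 2) ≤ 0 := by nlinarith
  have k4 : u' * (u' * n - 2) ≤ 0 := by nlinarith
  have hΦ : Φ = PX + PY := by
    refine sub_eq_zero.1 (eq_zero_of_classInner_self ?_)
    rw [hdiff, le_antisymm k3 k1, le_antisymm k4 k2]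
    simp
  obtain ⟨πX, εX, hεX, hπX, hpX, hsX⟩ := flip_sol v h₁ hX2 m hm1 hm₁ hM k3
  obtain ⟨πY, εY, hεY, hπY, hpY, hsY⟩ := flip_sol w h₀ hY2 (fun _ => 1) (fun _ _ => le_rfl) rfl
    (by simp; omega) (u := u') (by simpa using k4)
  have hPY' : PY = (a : ℂ) • (εY : ℂ) • w (πY η₀) := by
    rw [hPY, show (a : ℂ) • (εY : ℂ) • w (πY η₀) = -(a : ℂ) • (-((εY : ℂ) • w (πY η₀))) by module, ← hsY,
      Finset.smul_sum]
    refine Finset.sum_congr rfl fun η _ => ?_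
    rw [smul_smul, hbdef]
    congr 1
    push_cast
    ring
  set f : (L → ℂ) → (G → ℂ) := fun φ => if φ ∈ X then (εX : ℂ) • v (πX φ) else (εY : ℂ) • w (πY φ) with hfdef
  have fX : ∀ φ ∈ X, f φ = (εX : ℂ) • v (πX φ) := fun φ h => if_pos h
  have fY : ∀ φ ∈ Y, f φ = (εY : ℂ) • w (πY φ) := fun φ h => if_neg fun h' => hxy φ h' φ h rfl
  have hεX' : (εX : ℂ) * (εX : ℂ) = 1 := by rcases hεX with rfl | rfl <;> simp
  have hεY' : (εY : ℂ) * (εY : ℂ) = 1 := by rcases hεY with rfl | rfl <;> simp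
  refine coherent_of_pairs (Finset.finite_toSet _)
    (fun φ hφ ψ hψ h => by rw [hor φ hφ ψ hψ, if_neg h])
    (fun φ hφ => by rw [hor φ hφ φ hφ, if_pos rfl]; exact one_ne_zero) hτ f ?_ ?_
    (fun φ => if φ ∈ X then m φ * (e * a) else e) ?_ η₀ (Finset.mem_coe.2 (hYS h₀))
    (by rw [if_neg fun h' => hxy η₀ h' η₀ h₀ rfl]; exact he0)
    ⟨χ₁, Finset.mem_coe.2 (hXS h₁), hxy χ₁ h₁ η₀ h₀⟩ ?_
  · intro φ hφ
    rcases Finset.mem_union.1 hφ with h | h
    · rw [fX φ h]; exact isGeneralizedCharacter_zsmul (hv.2.2.2 _ (subset_zspan (hπX φ h))) εX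
    · rw [fY φ h]; exact isGeneralizedCharacter_zsmul (hw.2.2.2 _ (subset_zspan (hπY φ h))) εY
  · intro φ hφ ψ hψ
    rw [hor φ hφ ψ hψ]
    rcases Finset.mem_union.1 hφ with h | h <;> rcases Finset.mem_union.1 hψ with h' | h'
    · rw [fX φ h, fX ψ h', classInner_smul_left, classInner_smul_right, map_intCast, ← mul_assoc, hεX',
        one_mul, hvg _ (hπX φ h) _ (hπX ψ h')]
      simp only [EmbeddingLike.apply_eq_iff_eq]
    · rw [fX φ h, fY ψ h', classInner_smul_left, classInner_smul_right, hperp _ (hπX φ h) _ (hπY ψ h'),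
        if_neg (hxy φ h ψ h'), mul_zero, mul_zero]
    · rw [fY φ h, fX ψ h', classInner_smul_left, classInner_smul_right, hwv _ (hπY φ h) _ (hπX ψ h'),
        if_neg (hxy ψ h' φ h).symm, mul_zero, mul_zero]
    · rw [fY φ h, fY ψ h', classInner_smul_left, classInner_smul_right, map_intCast, ← mul_assoc, hεY',
        one_mul, hwg _ (hπY φ h) _ (hπY ψ h')]
      simp only [EmbeddingLike.apply_eq_iff_eq]
  · intro φ hφ
    rcases Finset.mem_union.1 hφ with h | h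
    · rw [if_pos h, hm φ h, ha]; push_cast; ring
    · rw [if_neg fun h' => hxy φ h' φ h rfl, he φ h]
  · intro φ hφ
    rw [if_neg fun h' => hxy η₀ h' η₀ h₀ rfl, fY η₀ h₀]
    have hΦ' : Φ = (a : ℂ) • (εY : ℂ) • w (πY η₀) - (εX : ℂ) • v (πX χ₁) := by
      rw [hΦ, hPY', hPX, hsX]; abel
    rcases Finset.mem_union.1 hφ with h | h
    · rw [if_pos h, fX φ h]
      rw [show (e : ℂ) • φ - ((m φ * (e * a) : ℕ) : ℂ) • η₀ =
          (e : ℂ) • (φ - (m φ : ℂ) • χ₁) - ((e * m φ : ℕ) : ℂ) • β by rw [hβdef]; push_cast; module,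
        iso_map_sub hτ (zspanOn_natCast_smul _ (mX' φ h)) (zspanOn_natCast_smul _ mβ),
        iso_map_natCast_smul hτ _ (mX' φ h), iso_map_natCast_smul hτ _ mβ, tX φ h, ← hpX φ h, ← hΦdef, hΦ']
      push_cast; module
    · rw [if_neg fun h' => hxy φ h' φ h rfl, fY φ h, ← smul_sub, ← smul_sub,
        iso_map_natCast_smul hτ _ (mY' φ h), tY φ h]
      have := hpY φ h
      simp only [Nat.cast_one, one_smul] at this
      rw [this]

end Cfsg.Agent.PF6
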