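import Mathlib
import Cfsg.Agent.Lib.PFSZeroBlock39
import Cfsg.Agent.Lib.GaloisChar80
import Cfsg.Agent.Lib.CoprimeAction
import Cfsg.Agent.Lib.PFConstMod43
import Cfsg.Agent.Lib.PF6Glue43
import Cfsg.Agent.S1522

/-!
A nilpotent derived subgroup forces all the parameters `s_j` to vanish.
-/

set_option autoImplicit false
set_option linter.unusedSectionVars false

open scoped commutatorElement ComplexConjugate

namespace Cfsg.Agent.PFSZero39

open Cfsg Cfsg.Agent.CharBasic Cfsg.Agent.CharBasicOrth Cfsg.Agent.CharBasicDecomp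
open Cfsg.Agent.CyclicTI Cfsg.Agent.FTPGrid78 Cfsg.Agent.FTPMu78 Cfsg.Agent.FTPTau78
open Cfsg.Agent.PFPrimeTI (Setup ker supp redChars AllCoherent)
open Cfsg.Agent.FTPMu78.Core (alp gam oneK)

attribute [local instance] Classical.propDecidable
attribute [-instance] Cfsg.Agent.PFPrimeTI.instFintypeRowOfFinite Cfsg.Agent.PFPrimeTI.instFintypeColOfFinite

universe u

/-! ### General facts -/

/-- A non-trivial normal subgroup of a nilpotent group meets the centre. -/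
theorem inf_center_ne_bot {N : Type u} [Group N] [Group.IsNilpotent N] (A : Subgroup N) [A.Normal]
    (hA : A ≠ ⊥) : A ⊓ Subgroup.center N ≠ ⊥ := by
  have hex : ∃ n, A ⊓ Subgroup.upperCentralSeries N n ≠ ⊥ := by
    obtain ⟨n, hn⟩ := Group.IsNilpotent.nilpotent' (G := N)
    exact ⟨n, by rw [hn, inf_top_eq]; exact hA⟩
  have h1 := Nat.find_spec hex
  obtain ⟨k, hk⟩ : ∃ k, Nat.find hex = k + 1 := Nat.exists_eq_succ_of_ne_zero fun h => by
    rw [h, Subgroup.upperCentralSeries_zero, inf_bot_eq] at h1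
    exact h1 rfl
  have h2 : A ⊓ Subgroup.upperCentralSeries N k = ⊥ := not_not.1 (Nat.find_min hex (by omega))
  obtain ⟨x, hx, hx1⟩ := (A ⊓ Subgroup.upperCentralSeries N (Nat.find hex)).bot_or_exists_ne_one.resolve_left h1
  rw [hk] at hx
  intro h
  refine hx1 (Subgroup.mem_bot.1 (h ▸ ⟨hx.1, Subgroup.mem_center_iff.2 fun y => ?_⟩))
  have hy : ⁅x, y⁆ ∈ A ⊓ Subgroup.upperCentralSeries N k := by
    refine ⟨?_, Subgroup.mem_upperCentralSeries_succ_iff.1 hx.2 y⟩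
    rw [commutatorElement_def, show x * y * x⁻¹ * y⁻¹ = x * (y * x⁻¹ * y⁻¹) by group]
    exact A.mul_mem hx.1 ((inferInstance : A.Normal).conj_mem _ (A.inv_mem hx.1) y)
  rw [h2, Subgroup.mem_bot, commutatorElement_eq_one_iff_mul_comm] at hy
  exact hy.symm

/-- Induction commutes with a power map prime to the order. -/
theorem ind_pow {X : Type u} [Group X] [Fintype X] (H : Subgroup X) {k : ℕ} (hk : k.Coprime (Nat.card X))
    (θ : H → ℂ) (g : X) : indFun H θ (g ^ k) = indFun H (fun h => θ (h ^ k)) g := by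
  simp only [CharInduced.indFun_apply]
  congr 1
  refine Finset.sum_congr rfl fun x _ => ?_
  have e : x⁻¹ * g ^ k * x = (x⁻¹ * g * x) ^ k := by
    simpa using (conj_pow (a := x⁻¹) (b := g) (i := k)).symm
  rw [e]
  set y := x⁻¹ * g * x
  by_cases hy : y ∈ H
  · rw [CharInduced.ext_zero_of_mem _ hy, CharInduced.ext_zero_of_mem _ (H.pow_mem hy k)]
    rfl
  · rw [CharInduced.ext_zero_of_not_mem _ hy, CharInduced.ext_zero_of_not_mem _ fun h => hy ?_]
    obtain ⟨m, hm⟩ := exists_pow_eq_self_of_coprime (hk.coprime_dvd_right (orderOf_dvd_natCard y))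
    rw [← hm]
    exact H.pow_mem h m

/-- An irreducible character is multiplicative on the centre. -/
theorem mul_central {X : Type u} [Group X] [Fintype X] {ψ : X → ℂ} (hψ : IsIrrCharacter X ψ) {a : X}
    (ha : ∀ x, a * x = x * a) (b : X) : ψ 1 * ψ (a * b) = ψ a * ψ b := by
  have h := PFConstMod.sum_mul_cls hψ a b
  have ea : PFConstMod.cls a = {a} := by
    ext x
    simp only [PFConstMod.mem_cls, Finset.mem_singleton, isConj_iff]
    constructor
    · rintro ⟨c, rfl⟩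
      rw [← ha c, mul_inv_cancel_right]
    · rintro rfl
      exact ⟨1, by simp⟩
  rw [ea, Finset.sum_singleton, Finset.card_singleton, Nat.cast_one, one_mul] at h
  have hterm : ∀ y ∈ PFConstMod.cls b, ψ (a * y) = ψ (a * b) := by
    intro y hy
    obtain ⟨c, rfl⟩ := isConj_iff.1 (PFConstMod.mem_cls.1 hy)
    rw [← isClassFunction_of_isCharacter (isCharacter_of_isIrrCharacter hψ) (a * b) c]
    congr 1
    rw [← mul_assoc, ← mul_assoc, ha c]
    simp [mul_assoc]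
  rw [Finset.sum_congr rfl hterm, Finset.sum_const, nsmul_eq_mul] at h
  have hpos : ((PFConstMod.cls b).card : ℂ) ≠ 0 :=
    Nat.cast_ne_zero.2 (Finset.card_pos.2 ⟨b, PFConstMod.mem_cls.2 (IsConj.refl b)⟩).ne'
  refine mul_left_cancel₀ hpos ?_
  linear_combination h

/-- The arithmetic at the end: a small combination of `q s`, `g` and `e` forces `s = 0`. -/
theorem eq_zero_of_small {q s h e δ : ℤ} (hδ : δ = 1 ∨ δ = -1) (he : 2 * e ^ 2 < q)
    (hh : 2 * |h| ≤ q) (heq : e = q * s - δ * h) : s = 0 := by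
  have h1 : |q * s| ≤ |e| + |h| := by
    have e1 : q * s = e + δ * h := by linear_combination -heq
    rw [e1]
    refine (abs_add_le _ _).trans (le_of_eq ?_)
    rcases hδ with rfl | rfl <;> simp
  have h2 : 2 * |e| < q := by
    have h3 : |e| ≤ |e| ^ 2 := Int.le_self_sq _
    rw [sq_abs] at h3
    linarith
  by_contra hs
  have h4 : 1 ≤ |s| := abs_pos.2 hs
  rw [abs_mul] at h1
  have h5 : q ≤ |q| := le_abs_self q
  nlinarith [abs_nonneg q]

section config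

variable {G : Type u} [Group G] [Fintype G] {M W₁ W₂ : Subgroup G} [Fintype ↥M]
variable (hS : Setup M W₁ W₂) (C : Core M ⁅M, M⁆ W₁ W₂ (fun _ => (⊥ : Subgroup G)))
include hS

theorem f1_one {χ : ↥M → ℂ} (hχ : χ ∈ C.Z1) : C.f1 χ 1 = C.f1 C.z0 1 := by
  have h := congrFun (C.f1_fam.diff χ hχ _ C.z0_mem) 1
  rw [C.tau_one_eq, Pi.sub_apply] at h
  exact sub_eq_zero.1 h.symm

/-- A central `W₂`: the family is rational on it. -/
theorem const_of_W2_central (Z : Subgroup ↥M) [Z.Normal] (hZW : Z = W₂.subgroupOf M) (z z' : ↥M)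
    (hz : z ∈ Z) (hz' : z' ∈ Z) (h1 : z ≠ 1) (h1' : z' ≠ 1) :
    C.f1 C.z0 (z : G) = C.f1 C.z0 (z' : G) := by
  haveI := C.KM_normal
  have hp := hS.prime
  have hzW : (z : G) ∈ W₂ := by rw [hZW] at hz; exact hz
  have hz'W : (z' : G) ∈ W₂ := by rw [hZW] at hz'; exact hz'
  have hzG : (z : G) ≠ 1 := fun e => h1 (Subtype.ext e)
  have hord : orderOf (z : G) = Nat.card W₂ :=
    ((Nat.dvd_prime hp).1 (Subgroup.orderOf_dvd_natCard _ hzW)).resolve_left fun e => hzG (orderOf_eq_one_iff.1 e)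
  have hgen : Subgroup.zpowers (z : G) = W₂ :=
    Subgroup.eq_of_le_of_card_ge (Subgroup.zpowers_le.2 hzW) (by rw [Nat.card_zpowers, hord])
  obtain ⟨t, ht⟩ := mem_powers_iff_mem_zpowers.2 (hgen ▸ hz'W : (z' : G) ∈ Subgroup.zpowers (z : G))
  have htp : t.Coprime (Nat.card W₂) := (hp.coprime_iff_not_dvd.2 fun hd => h1' (Subtype.ext (by
    rw [← ht]
    exact orderOf_dvd_iff_pow_eq_one.1 (hord ▸ hd)))).symm
  haveI : NeZero (Nat.card G) := ⟨Nat.card_pos.ne'⟩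
  obtain ⟨v, hv⟩ := ZMod.unitsMap_surjective (Subgroup.card_subgroup_dvd_card W₂) (ZMod.unitOfCoprime t htp)
  set k := (v : ZMod (Nat.card G)).val with hkd
  have hk : k.Coprime (Nat.card G) := ZMod.val_coe_unit_coprime v
  have hkt : k ≡ t [MOD Nat.card W₂] := by
    rw [← ZMod.natCast_eq_natCast_iff]
    have h := congrArg (fun w : (ZMod (Nat.card W₂))ˣ => (w : ZMod (Nat.card W₂))) hv
    simp only [ZMod.unitsMap_def, Units.coe_map, MonoidHom.coe_coe, ZMod.castHom_apply,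
      ZMod.coe_unitOfCoprime] at h
    rw [← h, hkd, ZMod.natCast_val]
  have hzk : (z' : G) = (z : G) ^ k := by
    show (z' : G) = _
    rw [← ht, pow_eq_pow_iff_modEq, hord]
    exact hkt.symm
  have hkM : k.Coprime (Nat.card ↥M) := hk.coprime_dvd_right (Subgroup.card_subgroup_dvd_card M)
  have h0 := C.z0_mem
  obtain ⟨l, hl, hl0⟩ := C.mem_Z1.1 h0
  have hpw : ∀ χ ∈ C.Z1, (fun x : ↥M => χ (x ^ k)) ∈ C.Z1 := by
    intro χ hχ
    obtain ⟨l, hl, rfl⟩ := C.mem_Z1.1 hχ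
    refine C.mem_Z1.2 ⟨l ^ k, fun e => hl (MonoidHom.ext fun a => ?_), ?_⟩
    · obtain ⟨m, hm⟩ := exists_pow_eq_self_of_coprime (hkM.coprime_dvd_right
        ((orderOf_dvd_natCard a).trans (Subgroup.card_subgroup_dvd_card _)))
      have := DFunLike.congr_fun e a
      rw [MonoidHom.pow_apply, MonoidHom.one_apply, ← map_pow] at this
      rw [← hm, map_pow, this, one_pow, MonoidHom.one_apply]
    · funext x
      rw [Core.indLam, Core.indLam, ind_pow _ hkM]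
      congr 1
      funext a
      rw [MonoidHom.pow_apply, map_pow]
  set ζ : ↥M → ℂ := fun x => C.z0 (x ^ k) with hζd
  have hζ : ζ ∈ C.Z1 := hpw _ h0
  have hf := C.f1_fam
  have hc := C.Z1_conj hζ
  have hc0 := C.Z1_conj h0
  set a' : G → ℂ := fun g => C.f1 C.z0 (g ^ k) with ha'
  set b' : G → ℂ := fun g => C.f1 (Cfsg.conjFun C.z0) (g ^ k) with hb'
  have hsi : ∀ χ ∈ C.Z1, CoherenceBasic.SignedIrr (fun g => C.f1 χ (g ^ k)) := by
    intro χ hχ
    rcases hf.si χ hχ with h | h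
    · exact Or.inl (GaloisChar80.isIrrCharacter_pow hk h)
    · exact Or.inr (GaloisChar80.isIrrCharacter_pow hk h)
  have hdiff : C.f1 ζ - C.f1 (Cfsg.conjFun ζ) = a' - b' := by
    rw [← hf.diff ζ hζ _ hc.1]
    funext g
    have h := congrFun (hf.diff _ h0 _ hc0.1) (g ^ k)
    rw [tau_eq_ind_sup hS C (C.sup_diff h0 hc0.1), ind_pow M hk, Pi.sub_apply] at h
    rw [tau_eq_ind_sup hS C (C.sup_diff hζ hc.1), Pi.sub_apply, ha', hb', ← h]
    rfl
  have hinner : Cfsg.classInner a' (C.f1 ζ) - Cfsg.classInner b' (C.f1 ζ) = 1 := by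
    rw [← classInner_sub_left, ← hdiff, classInner_sub_left, hf.orth ζ hζ ζ hζ, hf.orth _ hc.1 ζ hζ,
      if_pos rfl, if_neg hc.2, sub_zero]
  have hne : C.f1 C.z0 1 ≠ 0 := CoherenceBasic.si_apply_one_ne_zero (hf.si _ h0)
  have hae : C.f1 ζ = a' := by
    rcases CoherenceBasic.si_cases (hsi _ h0) (hf.si ζ hζ) with h | ⟨ε, hε, he, hεv⟩
    · exfalso
      rw [h] at hinner
      rcases CoherenceBasic.si_cases (hsi _ hc0.1) (hf.si ζ hζ) with h2 | ⟨δ, hδ, he2, hδv⟩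
      · rw [h2] at hinner; norm_num at hinner
      · rw [hδv] at hinner
        rcases hδ with rfl | rfl
        · norm_num at hinner
        · have e1 := congrFun hdiff 1
          simp only [Pi.sub_apply, hb', ha', one_pow, f1_one hS C hζ, f1_one hS C hc.1,
            f1_one hS C hc0.1, sub_self] at e1
          have e2 := congrFun he2 1
          simp only [Pi.smul_apply, smul_eq_mul, one_pow, f1_one hS C hζ, f1_one hS C hc0.1] at e2
          push_cast at e2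
          exact hne (by linear_combination (1 / 2 : ℂ) * e2)
    · rcases hε with rfl | rfl
      · rw [he]; simp [ha']
      · exfalso
        rw [hεv] at hinner
        rcases CoherenceBasic.si_cases (hsi _ hc0.1) (hf.si ζ hζ) with h2 | ⟨δ, hδ, -, hδv⟩
        · rw [h2] at hinner; norm_num at hinner
        · rw [hδv] at hinner
          rcases hδ with rfl | rfl <;> norm_num at hinner
  have hval : ∀ χ ∈ C.Z1, χ z = (Nat.card W₁ : ℂ) := by
    intro χ hχ
    obtain ⟨l, -, rfl⟩ := C.mem_Z1.1 hχ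
    have hzK : z ∈ (⁅M, M⁆ : Subgroup G).subgroupOf M := C.base.W₂le hzW
    have h1 := CharInduced.ind_normal_coe ((⁅M, M⁆ : Subgroup G).subgroupOf M) (fun a => (l a : ℂ)) ⟨z, hzK⟩
    rw [Core.indLam]
    refine h1.trans ?_
    rw [Finset.sum_congr rfl (g := fun _ => (1 : ℂ)) (fun y _ => ?_), Finset.sum_const, Finset.card_univ,
      nsmul_eq_mul, mul_one, ← Nat.card_eq_fintype_card, C.card_M, ← mul_assoc,
      inv_mul_cancel₀ (Nat.cast_ne_zero.2 Nat.card_pos.ne'), one_mul]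
    have hmem : y * z * y⁻¹ ∈ Z := (inferInstance : Z.Normal).conj_mem z hz y
    rw [hZW] at hmem
    simp only [CharInduced.conjFun]
    rw [C.lam_W₂ l ⟨y * z * y⁻¹, (inferInstance : ((⁅M, M⁆ : Subgroup G).subgroupOf M).Normal).conj_mem z hzK y⟩ hmem,
      Units.val_one]
  have hsupp : (z : G) ∈ supp M W₁ W₂ := Or.inl ⟨C.base.W₂le hzW, hzG⟩
  have hd := congrFun (hf.diff ζ hζ _ h0) (z : G)
  have hsd := C.sup_diff hζ h0
  rw [tau_eq_ind_sup hS C hsd, PFPrimeTI.ind_apply hS ⟨isClassFunction_of_isGeneralizedCharacter hsd.1,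
      fun x hx => hsd.2 x fun h => hx ((mem_suppSet_iff hS _).1 h)⟩ z hsupp,
    Pi.sub_apply, Pi.sub_apply, hval ζ hζ, hval _ h0, sub_self] at hd
  calc C.f1 C.z0 (z : G) = C.f1 ζ (z : G) := (sub_eq_zero.1 hd.symm).symm
    _ = C.f1 C.z0 (z' : G) := by rw [hae, ha', hzk]

/-- `M / K'` is a Frobenius group. -/
theorem frobenius_mod (k : ↥M) (hk : k ∈ ker M) (hk' : k ∉ ⁅ker M, ker M⁆) (x : ↥M)
    (hx : x * k * x⁻¹ * k⁻¹ ∈ ⁅ker M, ker M⁆) : x ∈ ker M := by
  by_contra hxK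
  obtain ⟨c, hc, a, ha, hxe⟩ := hS.compl.2.2.2 (x : G) x.2
  have ha1 : a ≠ 1 := fun e => hxK (PFPrimeTI.mem_ker.2 (by rw [hxe, e, mul_one]; exact hc))
  have hmapK : (⁅ker M, ker M⁆ : Subgroup ↥M).map M.subtype =
      ⁅(⁅M, M⁆ : Subgroup G), (⁅M, M⁆ : Subgroup G)⁆ := by
    rw [Subgroup.map_commutator, ker, Subgroup.map_subgroupOf_eq_of_le PFPrimeTI.commutator_le]
  set D : Subgroup G := ⁅(⁅M, M⁆ : Subgroup G), (⁅M, M⁆ : Subgroup G)⁆ with hD
  have hkG : (k : G) ∉ D := fun h => hk' (by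
    rw [← hmapK] at h
    obtain ⟨k', hk1, e⟩ := h
    rwa [show k' = k from Subtype.ext e] at hk1)
  have hconjD : ∀ y ∈ M, ∀ d ∈ D, y * d * y⁻¹ ∈ D := by
    intro y hy d hd
    rw [← hmapK] at hd ⊢
    obtain ⟨d', hd', rfl⟩ := hd
    exact ⟨⟨y, hy⟩ * d' * (⟨y, hy⟩ : ↥M)⁻¹, (inferInstance : (⁅ker M, ker M⁆).Normal).conj_mem d' hd' _, rfl⟩
  have haM : a ∈ M := PFPrimeTI.W1_le hS ha
  have hkM : (k : G) ∈ (⁅M, M⁆ : Subgroup G) := PFPrimeTI.mem_ker.1 hk
  have hak : a * (k : G) * a⁻¹ ∈ (⁅M, M⁆ : Subgroup G) :=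
    PFPrimeTI.mem_ker.1 ((PFPrimeTI.ker_normal M).conj_mem k hk ⟨a, haM⟩)
  have hxD : (x : G) * k * (x : G)⁻¹ * (k : G)⁻¹ ∈ D := by
    rw [← hmapK]
    exact ⟨_, hx, rfl⟩
  have h2 : a * (k : G) * a⁻¹ * (k : G)⁻¹ ∈ D := by
    have e : a * (k : G) * a⁻¹ * (k : G)⁻¹ =
        ⁅c, a * (k : G) * a⁻¹⁆⁻¹ * ((x : G) * k * (x : G)⁻¹ * (k : G)⁻¹) := by
      rw [hxe, commutatorElement_def]; group
    rw [e]
    exact D.mul_mem (D.inv_mem (Subgroup.commutator_mem_commutator hc hak)) hxD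
  -- the coset of `k` is invariant under `⟨a⟩`
  have hfix : ∀ b ∈ Subgroup.zpowers a, (k : G)⁻¹ * b * k * b⁻¹ ∈ D := by
    intro b hb
    obtain ⟨i, rfl⟩ := mem_powers_iff_mem_zpowers.2 hb
    induction i with
    | zero => simp [D.one_mem]
    | succ i ih =>
      have ih' := ih (Subgroup.npow_mem_zpowers a i)
      have hbM : a ^ i ∈ M := M.pow_mem haM i
      have h3 : (k : G)⁻¹ * a * k * a⁻¹ ∈ D := by
        have := hconjD (k : G)⁻¹ (M.inv_mem k.2) _ h2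
        simpa [mul_assoc] using this
      have e : (k : G)⁻¹ * a ^ (i + 1) * k * (a ^ (i + 1))⁻¹ =
          ((k : G)⁻¹ * a * k * a⁻¹) * (a * ((k : G)⁻¹ * a ^ i * k * (a ^ i)⁻¹) * a⁻¹) := by
        rw [pow_succ']; group
      show (k : G)⁻¹ * a ^ (i + 1) * k * (a ^ (i + 1))⁻¹ ∈ D
      rw [e]
      exact D.mul_mem h3 (hconjD a haM _ ih')
  have hcop : (Nat.card (Subgroup.zpowers a)).Coprime (Nat.card D) :=
    Nat.Coprime.of_dvd (Subgroup.card_dvd_of_le (Subgroup.zpowers_le.2 ha))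
      (Subgroup.card_dvd_of_le (hD ▸ Subgroup.commutator_le.2 fun y hy z hz =>
        (⁅M, M⁆ : Subgroup G).mul_mem ((⁅M, M⁆ : Subgroup G).mul_mem ((⁅M, M⁆ : Subgroup G).mul_mem hy hz)
          ((⁅M, M⁆ : Subgroup G).inv_mem hy)) ((⁅M, M⁆ : Subgroup G).inv_mem hz)))
      (PFClose19.coprime_card hS).symm
  obtain ⟨e, he, hek⟩ := CoprimeAction.exists_fixed_mem_coset
    (fun b hb => Subgroup.mem_normalizer_iff.2 fun d => by
      have hbM : b ∈ M := (Subgroup.zpowers_le.2 haM) hb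
      exact ⟨hconjD b hbM d, fun h => by simpa [mul_assoc] using hconjD b⁻¹ (M.inv_mem hbM) _ h⟩)
    hcop (Or.inl (CoprimeAction.isSolvable_zpowers a)) (k : G) hfix
  have heK : e ∈ (⁅M, M⁆ : Subgroup G) := by
    have : (k : G) * ((k : G)⁻¹ * e) ∈ (⁅M, M⁆ : Subgroup G) := by
      refine (⁅M, M⁆ : Subgroup G).mul_mem hkM ?_
      rw [← hmapK] at hek
      obtain ⟨d', hd', e'⟩ := hek
      rw [← e']
      exact PFPrimeTI.mem_ker.1 ((Subgroup.commutator_le.2 fun y hy z hz =>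
        (ker M).mul_mem ((ker M).mul_mem ((ker M).mul_mem hy hz) ((ker M).inv_mem hy)) ((ker M).inv_mem hz)) hd')
    simpa using this
  have heW : e ∈ W₂ := by
    rw [← hS.cent a ha ha1]
    refine ⟨heK, Subgroup.mem_centralizer_singleton_iff.2 ?_⟩
    exact (Subgroup.mem_centralizer_iff.1 he a (Subgroup.mem_zpowers a)).symm
  refine hkG ?_
  have h5 := D.mul_mem (hS.W2_le heW) (D.inv_mem hek)
  simpa [hD] using h5

/-- A central subgroup meeting `W₂` trivially: the family is constant on it. -/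
theorem const_of_disjoint (hnil : Group.IsNilpotent ↥(ker M)) (Z : Subgroup ↥M) [Z.Normal] (hZ1 : Z ≠ ⊥)
    (hZK : Z ≤ ker M) (hZc : ∀ z ∈ Z, ∀ k ∈ ker M, z * k = k * z) (hZD : Z ≤ ⁅ker M, ker M⁆)
    (hZW : Z ⊓ W₂.subgroupOf M = ⊥)
    (z z' : ↥M) (hz : z ∈ Z) (hz' : z' ∈ Z) (h1 : z ≠ 1) (h1' : z' ≠ 1) :
    C.f1 C.z0 (z : G) = C.f1 C.z0 (z' : G) := by
  obtain ⟨a, ha, ha1⟩ := W₁.bot_or_exists_ne_one.resolve_left hS.selfNorm.1
  -- `z ↦ [a, z]` is onto `Z`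
  have hbr : ∀ y : Z, (⟨a, PFPrimeTI.W1_le hS ha⟩ : ↥M) * y * (⟨a, PFPrimeTI.W1_le hS ha⟩ : ↥M)⁻¹ *
      (y : ↥M)⁻¹ ∈ Z := fun y => Z.mul_mem ((inferInstance : Z.Normal).conj_mem _ y.2 _) (Z.inv_mem y.2)
  have hsurj : Function.Surjective (fun y : Z => (⟨_, hbr y⟩ : Z)) := by
    refine Finite.surjective_of_injective fun y y' e => ?_
    set w : ↥M := ⟨a, PFPrimeTI.W1_le hS ha⟩ with hw
    have e1 : w * y * w⁻¹ * (y : ↥M)⁻¹ = w * y' * w⁻¹ * (y' : ↥M)⁻¹ := congrArg Subtype.val e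
    set d : ↥M := (y' : ↥M)⁻¹ * y with hd
    have hdZ : d ∈ Z := Z.mul_mem (Z.inv_mem y'.2) y.2
    have hcm := hZc (w * (y' : ↥M) * w⁻¹) ((inferInstance : Z.Normal).conj_mem _ y'.2 _) (y' : ↥M)⁻¹
      ((ker M).inv_mem (hZK y'.2))
    have e2 : w * d * w⁻¹ = d := by
      calc w * d * w⁻¹ = (w * (y' : ↥M) * w⁻¹)⁻¹ * (w * y * w⁻¹) := by rw [hd]; group
        _ = (w * (y' : ↥M) * w⁻¹)⁻¹ * (w * y' * w⁻¹ * (y' : ↥M)⁻¹ * y) := by rw [← e1]; group
        _ = d := by rw [hd]; group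
    have hdW : (d : G) ∈ W₂ := by
      rw [← hS.cent a ha ha1]
      refine ⟨PFPrimeTI.mem_ker.1 (hZK hdZ), Subgroup.mem_centralizer_singleton_iff.2 ?_⟩
      have := congrArg (fun u : ↥M => (u : G)) (mul_inv_eq_iff_eq_mul.1 e2)
      exact this.symm
    have hd1 : d ∈ Z ⊓ W₂.subgroupOf M := ⟨hdZ, hdW⟩
    rw [hZW, Subgroup.mem_bot, hd, inv_mul_eq_one] at hd1
    exact Subtype.ext hd1.symm
  -- exceptional characters are trivial on `Z`
  have hth : ∀ (j : ColJ W₁ W₂) (y : ↥(ker M)), (y : ↥M) ∈ Z → C.th j y = C.th j 1 := by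
    intro j y hy
    obtain ⟨y₀, hy₀⟩ := hsurj ⟨y, hy⟩
    have e : (⟨a, PFPrimeTI.W1_le hS ha⟩ : ↥M) * y₀ * (⟨a, PFPrimeTI.W1_le hS ha⟩ : ↥M)⁻¹ *
        (y₀ : ↥M)⁻¹ = y := congrArg Subtype.val hy₀
    haveI : Fintype ↥(ker M) := Fintype.ofFinite _
    have hirr : IsIrrCharacter ↥(ker M) (C.th j) := by
      haveI : Fintype ↥((⁅M, M⁆ : Subgroup G).subgroupOf M) := Fintype.ofFinite _
      exact C.th_irr j
    have hcen : ∀ x : ↥(ker M), y * x = x * y := fun x => Subtype.ext (hZc y hy x x.2)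
    have hm := mul_central hirr hcen (⟨y₀, hZK y₀.2⟩ : ↥(ker M))
    have hcen0 : ∀ x : ↥(ker M), (⟨y₀, hZK y₀.2⟩ : ↥(ker M)) * x = x * ⟨y₀, hZK y₀.2⟩ :=
      fun x => Subtype.ext (hZc y₀ y₀.2 x x.2)
    have hne : C.th j (⟨y₀, hZK y₀.2⟩ : ↥(ker M)) ≠ 0 := fun h0 => by
      have h := mul_central hirr hcen0 (⟨y₀, hZK y₀.2⟩ : ↥(ker M))⁻¹
      rw [mul_inv_cancel, h0, zero_mul, mul_self_eq_zero] at h
      exact isIrrCharacter_apply_one_ne_zero hirr h
    have hconj : C.th j ((y * ⟨y₀, hZK y₀.2⟩ : ↥(ker M))) = C.th j (⟨y₀, hZK y₀.2⟩ : ↥(ker M)) := by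
      show C.mu.μ j.1 ((y : ↥M) * y₀) = C.mu.μ j.1 y₀
      rw [← e, inv_mul_cancel_right]
      exact isClassFunction_of_isCharacter (isCharacter_of_isIrrCharacter (C.mu.irr j.1)) _ _
    rw [hconj] at hm
    exact (mul_right_cancel₀ hne hm).symm
  have hirrX : ∀ χ ∈ inducedIrrAbove (ker M) ⊥ \ inducedIrrAbove (ker M) Z, IsIrrCharacter ↥M χ := by
    rintro χ ⟨⟨θ, hθ, hθ1, -, rfl⟩, hnZ⟩
    rcases C.th_or_irr (θ := θ) hθ with ⟨j, hj⟩ | h
    · exact absurd ⟨θ, hθ, hθ1, fun y hy => by rw [hj]; exact hth j y hy, rfl⟩ hnZ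
    · exact h
  obtain ⟨R, hR⟩ := PFPrimeTI.exists_system hS
  haveI := hS.solv
  have hKne : (ker M) ≠ ⊥ := fun h => hZ1 (le_bot_iff.1 (h ▸ hZK))
  have hKlt : ⁅ker M, ker M⁆ < ker M := by
    refine lt_of_le_of_ne (Subgroup.commutator_le.2 fun y hy z hz =>
      (ker M).mul_mem ((ker M).mul_mem ((ker M).mul_mem hy hz) ((ker M).inv_mem hy)) ((ker M).inv_mem hz))
      fun h => ?_
    have h1 := relIndex_eq hS C
    rw [h, Subgroup.relIndex_self] at h1
    have := Nat.mul_pos (Nat.card_pos (α := W₁)) (Finset.card_pos.2 C.Z1_nonempty)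
    omega
  have hKtop : ker M < ⊤ := lt_top_iff_ne_top.2 fun h => by
    have h1 := PFClose19.index_ker hS
    rw [h, Subgroup.index_top] at h1
    have := C.three_W₁
    omega
  obtain ⟨-, -, v, hv, hvτ⟩ := S1522.result (ker M) inferInstance (PFPrimeTI.tau M) R hR C.oddM hnil hKlt
    hKtop (frobenius_mod hS) Z hZ1 hZK hZc hirrX
  set X := inducedIrrAbove (ker M) ⊥ \ inducedIrrAbove (ker M) Z with hXd
  have h0 := C.z0_mem
  have hc0 := C.Z1_conj h0
  have hf := C.f1_fam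
  have hg := C.fam_gen hf h0
  have hclG := isClassFunction_of_isGeneralizedCharacter hg
  have hZ1X : ∀ χ ∈ X, ∀ ζ ∈ C.Z1, Cfsg.classInner ζ χ = 0 := by
    intro χ hχ ζ hζ
    refine classInner_irr_ne (C.Z1_irr hζ) (hirrX χ hχ) fun e => hχ.2 ?_
    obtain ⟨l, hl, rfl⟩ := C.mem_Z1.1 hζ
    rw [← e]
    refine ⟨fun y => (l y : ℂ), isIrrCharacter_linear l, fun h => hl (MonoidHom.ext fun y =>
      Units.ext (congrFun h y)), fun y hy => ?_, rfl⟩
    have hmem : y ∈ commutator ↥(ker M) := by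
      have h := hZD hy
      rw [← Subgroup.map_subtype_commutator] at h
      obtain ⟨y', hy', e'⟩ := h
      rwa [← show y' = y from Subtype.ext e']
    have h1 : l y = 1 := Abelianization.commutator_subset_ker l hmem
    exact congrArg Units.val (h1.trans (map_one l).symm)
  have hmem : ∀ χ ∈ X, χ ∈ Cfsg.zspan X := fun χ hχ => CoherenceBasic.subset_zspan hχ
  have hXc : ∀ χ ∈ X, Cfsg.conjFun χ ∈ X := fun χ hχ => ⟨PF6.induced_conj hχ.1, fun h => hχ.2 (by
    simpa [CoherenceBasic.conjFun_conjFun] using PF6.induced_conj h)⟩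
  have hperp : ∀ χ ∈ X, Cfsg.classInner (C.f1 C.z0) (v χ) = 0 := by
    intro χ hχ
    have hc := hXc χ hχ
    have hne : Cfsg.conjFun χ ≠ χ := hR.conj_ne χ hχ.1
    have hsiv : ∀ φ ∈ X, CoherenceBasic.SignedIrr (v φ) := fun φ hφ =>
      CoherenceBasic.si_of_norm_one (hv.2.2.2 φ (hmem φ hφ))
        (by rw [hv.2.2.1 φ (hmem φ hφ) φ (hmem φ hφ)]; exact classInner_irr_self (hirrX φ hφ))
    have hdz : χ - Cfsg.conjFun χ ∈ Cfsg.zspanOn X {1}ᶜ :=
      CoherenceBasic.mem_zspanOn_one (CoherenceBasic.zspan_sub (hmem χ hχ) (hmem _ hc))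
        (by simp [CoherenceBasic.conjFun_apply_one (hR.isCharacter χ hχ.1)])
    have hsup := PFPrimeTI.span_supported hS (CoherenceBasic.zspanOn_mono (fun _ h => h.1) hdz)
    have hτ : C.τ (χ - Cfsg.conjFun χ) = v χ - v (Cfsg.conjFun χ) := by
      rw [tau_eq_ind hS C hsup.1 hsup.2, ← CoherenceBasic.span_map_sub hv (hmem χ hχ) (hmem _ hc), hvτ _ hdz]
    refine (CoherenceBasic.four_si (hf.si _ h0) (hf.si _ hc0.1) (hsiv χ hχ) (hsiv _ hc)
      (one_ne_zero : (1 : ℝ) ≠ 0) (one_ne_zero : (1 : ℝ) ≠ 0) (one_ne_zero : (1 : ℝ) ≠ 0)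
      (one_ne_zero : (1 : ℝ) ≠ 0) ?_ ?_ ?_ ?_ ?_).1
    · rw [hf.orth _ h0 _ hc0.1, if_neg hc0.2.symm]
    · rw [hv.2.2.1 _ (hmem χ hχ) _ (hmem _ hc), classInner_irr_ne (hirrX χ hχ) (hirrX _ hc) hne.symm]
    · simp only [Complex.ofReal_one, one_smul]
      rw [← hf.diff _ h0 _ hc0.1, ← hτ, C.tau_inner (isClassFunction_of_isGeneralizedCharacter
        (C.sup_diff h0 hc0.1).1) (C.sup_diff h0 hc0.1).2 hsup.1]
      simp only [classInner_sub_left, classInner_sub_right, hZ1X χ hχ _ h0, hZ1X χ hχ _ hc0.1,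
        hZ1X _ hc _ h0, hZ1X _ hc _ hc0.1, sub_self]
    · rw [f1_one hS C hc0.1]
    · have h := congrFun hτ 1
      rw [C.tau_one_eq, Pi.sub_apply] at h
      rw [sub_eq_zero.1 h.symm]
  haveI : Fintype ↥(ker M) := Fintype.ofFinite _
  set fK : ↥(ker M) → ℂ := fun y => C.f1 C.z0 ((y : ↥M) : G) with hfK
  have hfKc : IsClassFunction ↥(ker M) fK := fun g h => hclG _ _
  obtain ⟨θ₀, hθ₀⟩ : ∃ θ : Cfsg.IrrCharacter ↥(ker M), (θ : ↥(ker M) → ℂ) ⟨z, hZK hz⟩ ≠
      (θ : ↥(ker M) → ℂ) 1 := by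
    by_contra hcon
    push Not at hcon
    have h := (CharBasicOrth.isConj_iff_forall_irr (⟨z, hZK hz⟩ : ↥(ker M)) 1).2 fun θ => hcon θ
    rw [isConj_one_left] at h
    exact h1 (congrArg Subtype.val h)
  have hin : ∀ θ : Cfsg.IrrCharacter ↥(ker M), (∃ y ∈ Z.subgroupOf (ker M), (θ : ↥(ker M) → ℂ) y ≠
      (θ : ↥(ker M) → ℂ) 1) → PF6.ind (ker M) θ ∈ X := by
    rintro θ ⟨y, hy, hne⟩
    exact PF6.mem_induced_diff.2 ⟨θ, PF6.mem_aboveFin_bot.2 fun e => hne (by rw [e]),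
      fun h => hne ((PF6.mem_aboveFin.1 h).2 _ hy), rfl⟩
  have hin₀ := hin θ₀ ⟨_, (show (⟨z, hZK hz⟩ : ↥(ker M)) ∈ Z.subgroupOf (ker M) from hz), hθ₀⟩
  have hprop : ∀ θ : Cfsg.IrrCharacter ↥(ker M), (∃ y ∈ Z.subgroupOf (ker M), (θ : ↥(ker M) → ℂ) y ≠
      (θ : ↥(ker M) → ℂ) 1) → (θ₀ : ↥(ker M) → ℂ) 1 * Cfsg.classInner fK (θ : ↥(ker M) → ℂ) =
      (θ : ↥(ker M) → ℂ) 1 * Cfsg.classInner fK (θ₀ : ↥(ker M) → ℂ) := by
    intro θ hθ
    obtain ⟨d, -, hd⟩ := isIrrCharacter_apply_one θ.2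
    obtain ⟨d₀, -, hd₀⟩ := isIrrCharacter_apply_one θ₀.2
    have hφ := hin θ hθ
    set φ := PF6.ind (ker M) θ with hφd
    set φ₀ := PF6.ind (ker M) θ₀ with hφ₀d
    have hω : ((d₀ : ℤ)) • φ - ((d : ℤ)) • φ₀ ∈ Cfsg.zspanOn X {1}ᶜ := by
      refine CoherenceBasic.mem_zspanOn_one (CoherenceBasic.zspan_sub ?_ ?_) ?_
      · exact Submodule.smul_mem _ _ (hmem _ hφ)
      · exact Submodule.smul_mem _ _ (hmem _ hin₀)
      · rw [← Int.cast_smul_eq_zsmul ℂ, ← Int.cast_smul_eq_zsmul ℂ]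
        simp only [hφd, hφ₀d, Pi.sub_apply, Pi.smul_apply, smul_eq_mul, PF6.ind, CharInduced.ind_one_apply,
          hd, hd₀]
        push_cast
        ring
    have hz1 : Cfsg.classInner (C.f1 C.z0) (PFPrimeTI.tau M (((d₀ : ℤ)) • φ - ((d : ℤ)) • φ₀)) = 0 := by
      have hmem' : ∀ (n : ℤ) (χ : ↥M → ℂ), χ ∈ X → n • χ ∈ Cfsg.zspan X := fun n χ hχ =>
        Submodule.smul_mem _ _ (hmem χ hχ)
      rw [← hvτ _ hω, CoherenceBasic.span_map_sub hv (hmem' _ _ hφ) (hmem' _ _ hin₀), hv.2.1 _ (hmem _ hφ),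
        hv.2.1 _ (hmem _ hin₀), ← Int.cast_smul_eq_zsmul ℂ, ← Int.cast_smul_eq_zsmul ℂ, classInner_sub_right,
        classInner_smul_right, classInner_smul_right, hperp _ hφ, hperp _ hin₀, mul_zero, mul_zero, sub_zero]
    have hres : ∀ t : Cfsg.IrrCharacter ↥(ker M), Cfsg.classInner (fun x : ↥M => C.f1 C.z0 (x : G))
        (PF6.ind (ker M) t) = Cfsg.classInner fK (t : ↥(ker M) → ℂ) := fun t => by
      exact CharInduced.inner_ind_right (ker M) (t : ↥(ker M) → ℂ) (χ := fun x : ↥M => C.f1 C.z0 (x : G))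
        (fun g h => hclG _ _)
    simp only [PFPrimeTI.tau] at hz1
    rw [CharInduced.inner_ind_right _ _ hclG, ← Int.cast_smul_eq_zsmul ℂ, ← Int.cast_smul_eq_zsmul ℂ,
      classInner_sub_right, classInner_smul_right, classInner_smul_right, hφd, hφ₀d, hres, hres,
      map_intCast, map_intCast, sub_eq_zero] at hz1
    rw [hd, hd₀]
    exact_mod_cast hz1
  have hzv : ∀ y : ↥M, ∀ hy : y ∈ Z, y ≠ 1 →
      (θ₀ : ↥(ker M) → ℂ) 1 * (C.f1 C.z0 (y : G) - fK 1) =
        -(Cfsg.classInner fK (θ₀ : ↥(ker M) → ℂ)) * Nat.card ↥(ker M) := fun y hy hy1 =>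
    PF6.value_of_proportional (Z := Z.subgroupOf (ker M)) (z := (⟨y, hZK hy⟩ : ↥(ker M))) hfKc hprop hy
      (fun e => hy1 (congrArg Subtype.val e))
  have h := (hzv z hz h1).trans (hzv z' hz' h1').symm
  exact sub_left_injective (mul_left_cancel₀ (isIrrCharacter_apply_one_ne_zero θ₀.2) h)

/-- A central subgroup of `M'` inside `M''` on which the family is constant. -/
theorem exists_const_central (hnil : Group.IsNilpotent ↥(ker M)) :
    ∃ (Z : Subgroup ↥M), Z.Normal ∧ Z ≠ ⊥ ∧ Z ≤ ker M ∧ (∀ z ∈ Z, ∀ k ∈ ker M, z * k = k * z) ∧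
      ∀ z ∈ Z, ∀ z' ∈ Z, z ≠ 1 → z' ≠ 1 → C.f1 C.z0 (z : G) = C.f1 C.z0 (z' : G) := by
  by_cases hcen : ∀ w ∈ W₂, ∀ k ∈ (⁅M, M⁆ : Subgroup G), w * k = k * w
  · have hfix : ∀ y : ↥M, ∀ w ∈ W₂, (y : G) * w * (y : G)⁻¹ = w := by
      intro y w hw
      obtain ⟨c, hc, a, ha, e⟩ := hS.compl.2.2.2 (y : G) y.2
      have e1 : a * w * a⁻¹ = w := by rw [hS.selfNorm.2.2.2.1 a ha w hw, mul_inv_cancel_right]
      have e2 : c * w * c⁻¹ = w := by rw [← hcen w hw c hc, mul_inv_cancel_right]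
      calc (y : G) * w * (y : G)⁻¹ = c * (a * w * a⁻¹) * c⁻¹ := by rw [e]; group
        _ = w := by rw [e1, e2]
    have hn : (W₂.subgroupOf M).Normal := ⟨fun w hw y => by
      have hw' : (w : G) ∈ W₂ := hw
      show (y : G) * w * (y : G)⁻¹ ∈ W₂
      rw [hfix y _ hw']
      exact hw'⟩
    haveI := hn
    refine ⟨W₂.subgroupOf M, hn, PFPrimeTI.W2_ne' hS, PFPrimeTI.W2_le' hS,
      fun w hw k hk => Subtype.ext (hcen _ hw _ (PFPrimeTI.mem_ker.1 hk)),
      fun z hz z' hz' h1 h1' => const_of_W2_central hS C _ rfl z z' hz hz' h1 h1'⟩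
  · set Z : Subgroup ↥M := ⁅ker M, ker M⁆ ⊓ Subgroup.centralizer ((ker M : Subgroup ↥M) : Set ↥M) with hZ
    haveI hn : Z.Normal := by rw [hZ]; infer_instance
    have hle : ⁅ker M, ker M⁆ ≤ ker M := Subgroup.commutator_le.2 fun y hy z hz =>
      (ker M).mul_mem ((ker M).mul_mem ((ker M).mul_mem hy hz) ((ker M).inv_mem hy)) ((ker M).inv_mem hz)
    have hZK : Z ≤ ker M := inf_le_left.trans hle
    have hZc : ∀ z ∈ Z, ∀ k ∈ ker M, z * k = k * z := fun z hz k hk =>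
      (Subgroup.mem_centralizer_iff.1 hz.2 k hk).symm
    have hD : commutator ↥(ker M) ≠ ⊥ := fun h => by
      obtain ⟨w, hw, hw1⟩ := W₂.bot_or_exists_ne_one.resolve_left hS.selfNorm.2.1
      have h2 : (⁅(⁅M, M⁆ : Subgroup G), (⁅M, M⁆ : Subgroup G)⁆ : Subgroup G) =
          (commutator ↥(ker M)).map ((Subgroup.subtype M).comp (ker M).subtype) := by
        rw [commutator_def, Subgroup.map_commutator, ← Subgroup.map_map, ← MonoidHom.range_eq_map,
          Subgroup.range_subtype, ker, Subgroup.map_subgroupOf_eq_of_le PFPrimeTI.commutator_le]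
      have h3 := hS.W2_le hw
      rw [h2, h, Subgroup.map_bot, Subgroup.mem_bot] at h3
      exact hw1 h3
    have hZ1 : Z ≠ ⊥ := by
      obtain ⟨x, hx, hx1⟩ := (commutator ↥(ker M) ⊓ Subgroup.center ↥(ker M)).bot_or_exists_ne_one.resolve_left
        (inf_center_ne_bot _ hD)
      intro h
      refine hx1 (Subtype.ext ?_)
      have hxZ : (x : ↥M) ∈ Z := by
        refine ⟨?_, Subgroup.mem_centralizer_iff.2 fun k hk => ?_⟩
        · rw [← Subgroup.map_subtype_commutator]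
          exact Subgroup.mem_map_of_mem _ hx.1
        · exact congrArg Subtype.val (Subgroup.mem_center_iff.1 hx.2 ⟨k, hk⟩)
      rwa [h, Subgroup.mem_bot] at hxZ
    have hZW : Z ⊓ W₂.subgroupOf M = ⊥ := by
      rw [← le_bot_iff]
      rintro x ⟨hx, hx2⟩
      have hxW : (x : G) ∈ W₂ := hx2
      rw [Subgroup.mem_bot]
      by_contra hx1
      refine hcen fun w hw k hk => ?_
      have hxG : (x : G) ≠ 1 := fun e => hx1 (Subtype.ext e)
      have hord : orderOf (x : G) = Nat.card W₂ :=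
        ((Nat.dvd_prime hS.prime).1 (Subgroup.orderOf_dvd_natCard _ hxW)).resolve_left
          fun e => hxG (orderOf_eq_one_iff.1 e)
      have hgen : Subgroup.zpowers (x : G) = W₂ :=
        Subgroup.eq_of_le_of_card_ge (Subgroup.zpowers_le.2 hxW) (by rw [Nat.card_zpowers, hord])
      obtain ⟨i, hi⟩ := mem_powers_iff_mem_zpowers.2 (hgen ▸ hw : w ∈ Subgroup.zpowers (x : G))
      have hc : (x : G) * k = k * (x : G) :=
        congrArg Subtype.val (hZc x hx ⟨k, PFPrimeTI.commutator_le hk⟩ (PFPrimeTI.mem_ker.2 hk))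
      rw [← hi]
      exact (Commute.pow_left hc i).eq
    exact ⟨Z, hn, hZ1, hZK, hZc, fun z hz z' hz' h1 h1' =>
      const_of_disjoint hS C hnil Z hZ1 hZK hZc inf_le_left hZW z z' hz hz' h1 h1'⟩

omit C in
/-- Type `V`. -/
theorem szero_of_nilpotent (hnil : Group.IsNilpotent ↥(ker M)) : SZero M W₁ W₂ := by
  intro C j hj
  obtain ⟨Z, hZn, hZ1, hZK, hZc, hconst⟩ := exists_const_central hS C hnil
  haveI := hZn
  have h0 := C.z0_mem
  have hf := C.f1_fam
  have hψ := C.fam_gen hf h0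
  have hclG := isClassFunction_of_isGeneralizedCharacter hψ
  set ψ := C.f1 C.z0 with hψd
  obtain ⟨c, hc⟩ := PFClose19.close_multiple hS hnil Z hZ1 hZK hZc ψ hψ (CoherenceBasic.si_self (hf.si _ h0))
    hconst
  letI : Fintype ↥((⁅M, M⁆ : Subgroup G).subgroupOf M) := (inferInstance : Fintype ↥(ker M))
  set fM : ↥M → ℂ := fun x => ψ (x : G) with hfM
  set fK : ↥((⁅M, M⁆ : Subgroup G).subgroupOf M) → ℂ := fun y => ψ ((y : ↥M) : G) with hfK
  have hfMg : IsGeneralizedCharacter ↥M fM := isGeneralizedCharacter_comap M.subtype hψ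
  have hfMc := isClassFunction_of_isGeneralizedCharacter hfMg
  -- coefficients at the members of degree `q`
  set J : ℤ := ipz fM C.z0 - 1 - c with hJ
  have hco : ∀ χ ∈ C.Z1, Cfsg.classInner fM χ = ((J + c + (if C.z0 = χ then 1 else 0) : ℤ) : ℂ) := by
    intro χ hχ
    have hg0 := isGeneralizedCharacter_of_isCharacter (isCharacter_of_isIrrCharacter (C.Z1_irr h0))
    have hs := C.sup_diff hχ h0
    have e1 : Cfsg.classInner ψ (C.τ (χ - C.z0)) = Cfsg.classInner fM χ - Cfsg.classInner fM C.z0 := by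
      rw [tau_eq_ind_sup hS C hs, CharInduced.inner_ind_right _ _ hclG, classInner_sub_right]
    rw [hf.diff χ hχ _ h0, classInner_sub_right, hf.orth _ h0 χ hχ, hf.orth _ h0 _ h0, if_pos rfl,
      ipz_spec hfMg hg0] at e1
    rw [hJ]
    push_cast
    linear_combination -e1
  have hlin : ∀ l : ↥((⁅M, M⁆ : Subgroup G).subgroupOf M) →* ℂˣ, l ≠ 1 →
      Cfsg.classInner fK (fun y => (l y : ℂ)) - (c : ℂ) * ((l 1 : ℂˣ) : ℂ) =
        ((J + 1 * (if C.z0 = C.indLam l then 1 else 0) : ℤ) : ℂ) := by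
    intro l hl
    have e : Cfsg.classInner fM (C.indLam l) = Cfsg.classInner fK (fun y => (l y : ℂ)) :=
      CharInduced.inner_ind_right _ _ hfMc
    rw [← e, hco _ (C.mem_Z1.2 ⟨l, hl, rfl⟩), map_one, Units.val_one]
    push_cast
    ring
  -- the coefficient at the column
  set z : ℤ := ipz fM (red C j) with hz
  set e : ℤ := z - c * C.deg j.1 with he
  have hcol : Cfsg.classInner fK (C.th j) - (c : ℂ) * C.th j 1 = (e : ℂ) := by
    have e1 : Cfsg.classInner fM (red C j) = Cfsg.classInner fK (C.th j) :=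
      CharInduced.inner_ind_right _ _ hfMc
    rw [← e1, ipz_spec hfMg (red_gen C j), C.th_one, he]
    push_cast
    ring
  set F := (Finset.univ : Finset (↥((⁅M, M⁆ : Subgroup G).subgroupOf M) →* ℂˣ)).filter (· ≠ 1) with hF
  set lc : (↥((⁅M, M⁆ : Subgroup G).subgroupOf M) →* ℂˣ) → (↥((⁅M, M⁆ : Subgroup G).subgroupOf M) → ℂ) :=
    fun l y => (l y : ℂ) with hlc
  have hinj : Function.Injective lc := fun l l' h => MonoidHom.ext fun y => Units.ext (congrFun h y)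
  have hnm : C.th j ∉ F.image lc := fun h => by
    obtain ⟨l, -, hl⟩ := Finset.mem_image.1 h
    exact hj (C.th_linear hl.symm)
  have hsum := hc (insert (C.th j) (F.image lc)) fun th hth => by
    rcases Finset.mem_insert.1 hth with rfl | h
    · exact C.th_irr j
    · obtain ⟨l, -, rfl⟩ := Finset.mem_image.1 h
      exact isIrrCharacter_linear l
  change 2 * ∑ th ∈ insert (C.th j) (F.image lc), Complex.normSq (Cfsg.classInner fK th - (c : ℂ) * th 1) < _
    at hsum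
  rw [Finset.sum_insert hnm, Finset.sum_image fun a _ b _ h => hinj h, hcol,
    Finset.sum_congr rfl (g := fun l => (((J + 1 * (if C.z0 = C.indLam l then 1 else 0)) ^ 2 : ℤ) : ℝ))
      (fun l hl => by rw [hlc, hlin l (Finset.mem_filter.1 hl).2, Complex.normSq_intCast]; push_cast; ring),
    Complex.normSq_intCast] at hsum
  have hfib : ∑ l ∈ F, (J + 1 * (if C.z0 = C.indLam l then 1 else 0)) ^ 2 =
      (Nat.card W₁ : ℤ) * (C.Z1.card * J ^ 2 + 2 * J * 1 + 1 ^ 2) := by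
    rw [← Finset.sum_fiberwise_of_maps_to (g := C.indLam) (t := C.Z1)
      (fun l hl => C.mem_Z1.2 ⟨l, (Finset.mem_filter.1 hl).2, rfl⟩), ← C.sum_sq_coeff h0 J 1, Finset.mul_sum]
    refine Finset.sum_congr rfl fun χ hχ => ?_
    rw [Finset.sum_congr rfl (g := fun _ => (J + 1 * (if C.z0 = χ then 1 else 0)) ^ 2)
      (fun l hl => by rw [(Finset.mem_filter.1 hl).2]), Finset.sum_const, C.fibre_card hχ, nsmul_eq_mul]
  have hsumZ : 2 * (e ^ 2 + (Nat.card W₁ : ℤ) * (C.Z1.card * J ^ 2 + 2 * J * 1 + 1 ^ 2)) <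
      3 * (Nat.card W₁ : ℤ) := by
    rw [← hfib, ← Int.cast_lt (R := ℝ)]
    push_cast at hsum ⊢
    linarith [hsum]
  have hq : (3 : ℤ) ≤ Nat.card W₁ := by exact_mod_cast C.three_W₁
  have hm : (2 : ℤ) ≤ C.Z1.card := by exact_mod_cast C.two_Z1
  -- the relation with the parameters
  have hrel : e = (Nat.card W₁ : ℤ) * (C.sv j - C.nn j.1) - C.dz j.1 * (C.gv + 1) + C.deg j.1 * (J + 1) := by
    set β : ↥M → ℂ := fun x => if (x : G) ∈ (⁅M, M⁆ : Subgroup G) then 0 else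
      (Nat.card W₁ : ℂ) * C.alp j C.z0 x with hβ
    have hsplit : red C j - ((C.deg j.1 : ℤ) : ℂ) • C.z0 =
        (Nat.card W₁ : ℂ) • C.alp j C.z0 - (C.dz j.1 : ℂ) • C.gam C.z0 - β := by
      funext x
      have hdq : ((C.deg j.1 : ℤ) : ℂ) = (C.dz j.1 : ℂ) + (C.nn j.1 : ℂ) * (Nat.card W₁ : ℂ) := by
        rw [FTPMu78.Core.deg]; push_cast; ring
      by_cases hx : (x : G) ∈ (⁅M, M⁆ : Subgroup G)
      · simp only [hβ, alp, gam, oneK, Pi.sub_apply, Pi.smul_apply, smul_eq_mul, if_pos hx,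
          red_K C j x hx, hdq]
        ring
      · simp only [hβ, gam, oneK, Pi.sub_apply, Pi.smul_apply, smul_eq_mul, if_neg hx,
          red_off C j x hx, C.Z1_K h0 x hx]
        ring
    have hβ0 : Cfsg.classInner β fM = 0 := by
      rw [Cfsg.classInner, Finset.sum_eq_zero, mul_zero]
      intro x _
      by_cases hx : (x : G) ∈ (⁅M, M⁆ : Subgroup G)
      · simp [hβ, hx]
      by_cases hxs : (x : G) ∈ suppSet M ⁅M, M⁆ W₁ W₂
      · obtain ⟨m, -, hw, hw1, hw2⟩ := hxs.2.resolve_left hx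
        have hv := C.vanish_of_orth hclG (fun ω => hf.eta _ h0 ω) (w := ⟨_, hw⟩) ⟨hw1, hw2⟩
        have hcf := hclG (x : G) m⁻¹
        rw [inv_inv] at hcf
        have hv' : fM x = 0 := by rw [hfM]; exact hcf.symm.trans hv
        rw [hv', map_zero, mul_zero]
      · simp [hβ, hx, (C.sup_alp (j := j) h0).2 x hxs]
    have hi := congrArg (fun F => Cfsg.classInner F fM) hsplit
    have ea : Cfsg.classInner (C.alp j C.z0) fM = ((C.sv j - C.nn j.1 : ℤ) : ℂ) := by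
      rw [← CharInduced.inner_ind_left M _ hclG, ← tau_eq_ind_sup hS C (C.sup_alp h0), hψd,
        C.alpha_coeff h0 h0, if_pos rfl, mul_one]
    have eg : Cfsg.classInner (C.gam C.z0) fM = ((C.gv + 1 : ℤ) : ℂ) := by
      rw [← CharInduced.inner_ind_left M _ hclG, ← tau_eq_ind_sup hS C (C.sup_gam h0), hψd,
        C.gamma_coeff h0 h0, if_pos rfl]
    have er : Cfsg.classInner (red C j) fM = (z : ℂ) := by
      rw [← conj_classInner, ipz_spec hfMg (red_gen C j), map_intCast]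
    have ez : Cfsg.classInner C.z0 fM = ((J + c + 1 : ℤ) : ℂ) := by
      rw [← conj_classInner, hco _ h0, if_pos rfl, map_intCast]
    simp only [classInner_sub_left, classInner_smul_left, hβ0, ea, eg, er, ez] at hi
    have hi' : z - C.deg j.1 * (J + c + 1) =
        (Nat.card W₁ : ℤ) * (C.sv j - C.nn j.1) - C.dz j.1 * (C.gv + 1) := by
      rw [← @Int.cast_inj ℂ]
      push_cast
      push_cast at hi
      linear_combination hi
    rw [he]
    linear_combination hi'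
  -- the bound on `g`
  have hg : (C.Z1.card : ℤ) * C.gv ^ 2 + 2 * C.gv + 1 ≤ Nat.card W₁ := by
    have hb := (C.budget C.f1_fam (C.tau_gen (C.sup_gam h0)) (N := 1 + (Nat.card W₁ : ℤ))
      (by rw [C.tau_inner_sup (C.sup_gam h0) (C.sup_gam h0), C.gam_gam h0 h0, if_pos rfl]; push_cast; rfl)).1
    rw [Finset.sum_congr rfl (fun χ hχ => by rw [ipz_eq (C.gamma_coeff h0 hχ), ← one_mul (ite _ (1 : ℤ) 0)]),
      C.sum_sq_coeff h0] at hb
    change _ + (∑ i, ∑ l, C.bg i l ^ 2) ≤ _ at hb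
    have h1 : (1 : ℤ) ≤ ∑ i, ∑ l, C.bg i l ^ 2 := by
      refine le_trans ?_ (Finset.single_le_sum (f := fun i => ∑ l, C.bg i l ^ 2)
        (fun i _ => Finset.sum_nonneg fun l _ => sq_nonneg _) (Finset.mem_univ i₀))
      refine le_trans ?_ (one_le_sum (f := C.bg i₀) j₀)
      rw [C.gamma_corner]; norm_num
    linarith
  have hg2 : 2 * C.gv ^ 2 + 2 * C.gv + 1 ≤ Nat.card W₁ := by
    nlinarith [mul_le_mul_of_nonneg_right hm (sq_nonneg C.gv)]
  have hcases : (J = 0 ∨ (J = -1 ∧ (C.Z1.card : ℤ) = 2)) ∧ 2 * e ^ 2 < Nat.card W₁ := by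
    have h1 : 1 ≤ (C.Z1.card : ℤ) * J ^ 2 + 2 * J * 1 + 1 ^ 2 := by
      by_cases h : J = 0
      · rw [h]; norm_num
      · nlinarith [sq_pos_of_ne h, sq_nonneg (J + 1), mul_le_mul_of_nonneg_right hm (sq_nonneg J)]
    have h2 : (C.Z1.card : ℤ) * J ^ 2 + 2 * J * 1 + 1 ^ 2 < 2 := by
      by_contra h
      nlinarith [mul_le_mul_of_nonneg_left (not_lt.1 h) (by linarith : (0 : ℤ) ≤ Nat.card W₁), sq_nonneg e]
    have h3 : (C.Z1.card : ℤ) * J ^ 2 + 2 * J * 1 + 1 ^ 2 = 1 := by omega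
    rw [h3] at hsumZ
    refine ⟨?_, by linarith⟩
    have h4 : J * (C.Z1.card * J + 2) = 0 := by linear_combination h3
    rcases mul_eq_zero.1 h4 with h | h
    · exact Or.inl h
    · have h5 : J < 0 := by nlinarith
      have h6 : -1 ≤ J := by nlinarith
      have h7 : J = -1 := by omega
      rw [h7] at h
      exact Or.inr ⟨h7, by linarith⟩
  obtain ⟨hJc, he2⟩ := hcases
  rcases hJc with hJ0 | ⟨hJ1, hm2⟩
  · refine eq_zero_of_small (h := C.gv) (C.dz_cases j.1) he2 ?_ ?_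
    · rcases abs_cases C.gv with ⟨h, -⟩ | ⟨h, -⟩ <;> rw [h] <;> nlinarith
    · rw [hrel, hJ0, FTPMu78.Core.deg]; ring
  · have hsn : C.sv j - C.nn j.1 = 0 := by
      refine eq_zero_of_small (h := C.gv + 1) (C.dz_cases j.1) he2 ?_ ?_
      · rcases abs_cases (C.gv + 1) with ⟨h, -⟩ | ⟨h, -⟩ <;> rw [h] <;> nlinarith
      · rw [hrel, hJ1]; ring
    have hbud := C.alpha_budget hj
    rw [sub_eq_zero.1 hsn, hm2] at hbud
    exact C.s_zero_of_grid hj (by linarith) (by rw [sub_eq_zero.1 hsn, hm2]; ring)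
      ((sub_eq_zero.1 hsn) ▸ C.nn_even j.1)

end config

end Cfsg.Agent.PFSZero39
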