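import Cfsg.Agent.Lib.PFType34Struct46
import Cfsg.Agent.Lib.BGTypeSetup
import Cfsg.Agent.S1351
import Cfsg.Agent.S1352
import Cfsg.Agent.S1382
import Cfsg.Agent.S1437

/-!
The structure theorem for maximal subgroups of type III or IV, with the data of BG section 16 supplied.
-/

set_option autoImplicit false
set_option linter.style.haveILetI false

open scoped Pointwise

namespace Cfsg.Agent.PFType34

universe u

open Subgroup

variable {G : Type u} [Group G] [Fintype G]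

/-- Peterfalvi's structure theorem for a maximal subgroup of type III or IV. -/
theorem structure_of (hG : Cfsg.IsMinSimpleOddOrder G) {M : Subgroup G} [Fintype ↥M] (hM : IsCoatom M)
    {W₁ U W₂ : Subgroup G} (hP : Cfsg.IsTypePWith M W₁ U W₂)
    (h34 : Cfsg.IsOfTypeIII M ∨ Cfsg.IsOfTypeIV M) (hS : PFPrimeTI.Setup M W₁ W₂)
    (hall : ¬ PFPrimeTI.AllCoherent M) (hlt : LtRefuted M W₁ W₂) (hblock : BlockRefuted M W₁ W₂) :
    Cfsg.IsElementaryAbelian (Nat.card W₂) (Cfsg.fittingHallOf M) ∧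
      Nat.card (Cfsg.fittingHallOf M) = Nat.card W₂ ^ Nat.card W₁ ∧
      ¬ Nat.card W₁ < Nat.card W₂ ∧ IsMulCommutative U ∧ Cfsg.IsOfTypeIII M ∧ ¬ Cfsg.IsOfTypeIV M := by
  classical
  -- standard factorisation with `K = W₁`
  obtain ⟨⟨K0, hK0⟩, hKc⟩ := Cfsg.Agent.S1351.result hG M hM
  obtain ⟨⟨U0, hU0⟩, -⟩ := Cfsg.Agent.S1352.result hG M hM K0 (hKc K0 hK0) hK0
  obtain ⟨hK0ne, rfl, hne⟩ := (Cfsg.Agent.S1382.result hG M hM K0 U0 hU0).1 h34
  have hσ0 : Cfsg.sigmaCore M = ⁅M, M⁆ := (Cfsg.Agent.S1437.result hG M hM K0 ⊥ hU0 hne).2.1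
  have hle : ⁅M, M⁆ ≤ M := hP.W₁_compl.1
  have hW1M : W₁ ≤ M := hP.W₁_compl.2.1
  have hcop : (Nat.card ↥⁅M, M⁆).Coprime (Nat.card W₁) := by
    rw [← (BGTypeBasic.relIndex_of_isComplIn (BGTypeBasic.isComplIn_swap hP.W₁_compl)).1]
    exact hP.W₁_hall.symm
  have hK0c : Cfsg.IsComplIn ⁅M, M⁆ K0 M := by
    refine BGTypeBasic.isComplIn_of_card hle (BGTypeSetup.K_le hU0) ?_ ?_
    · rw [← hσ0]
      exact (BGTypeSetup.coprime_K_sigmaCore hG hM hU0).symm
    · rw [← hσ0, ← BGTypeSetup.card_decomp hG hM hU0, Subgroup.card_bot]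
      ring
  haveI := hU0.cyclic
  obtain ⟨m0, hm0', hconj⟩ := BGTypeBasic.isComplIn_conjugate
    (BGTypeBasic.le_normalizer_derived M)
    (by rw [← hσ0]; exact (BGTypeSetup.coprime_K_sigmaCore hG hM hU0).symm)
    (Or.inl (by letI := IsCyclic.commGroup (α := K0); infer_instance)) hK0c hP.W₁_compl
  have hm0 : m0 ∈ M := hle hm0'
  have hdec : Cfsg.IsSigmaDecomposition M W₁ ⊥ := by
    have h1 := BGTypeSetup.decomp_conj hU0 hm0
    rw [hconj, Subgroup.smul_bot] at h1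
    exact h1
  obtain ⟨-, hσ, hWp, -, -, -, Q, hQH, hQn, hQp, hQi, hQD⟩ := Cfsg.Agent.S1437.result hG M hM W₁ ⊥ hdec hne
  have hW2le : W₂ ≤ ⁅M, M⁆ := (hP.W₂_le.trans inf_le_left).trans
    (BGTypeBasic.typeP_fittingHallOf_le_derived hP)
  obtain ⟨x₁, hx₁, hx₁1⟩ := (W₁.bot_or_exists_ne_one).resolve_left hP.W₁_ne
  have hW2 : Cfsg.sigmaCore M ⊓ Subgroup.centralizer (W₁ : Set G) = W₂ := by
    rw [hσ]
    refine le_antisymm (fun y hy => (hP.W₂_centralizer x₁ hx₁ hx₁1).le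
      ⟨hy.1, mem_centralizer_singleton_iff.2 (mem_centralizer_iff.1 hy.2 x₁ hx₁).symm⟩) ?_
    refine le_inf hW2le fun y hy => mem_centralizer_iff.2 fun x hx => ?_
    by_cases hx1 : x = 1
    · simp [hx1]
    · exact (mem_centralizer_singleton_iff.1 ((hP.W₂_centralizer x hx hx1).ge hy).2).symm
  rw [hW2] at hQp hQi hQD
  rw [hσ] at hQi hQD
  exact structure_of_data hG hP h34 hS hall hlt hblock hWp hQH hQn hQp hQi hQD

end Cfsg.Agent.PFType34
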