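/-
The numerical inequality contradicting a nontrivial `C = C_U(S_F)`.
-/
import Mathlib

set_option autoImplicit false

namespace Cfsg.Agent.PF13Arith8

theorem pow_big {q p : ℕ} (hq : 3 ≤ q) (hp : 3 ≤ p) (h : 5 ≤ q ∨ 5 ≤ p) : 8 * (2 * p + 2) ≤ q ^ p := by
  rcases h with h | h
  · obtain ⟨t, rfl⟩ : ∃ t, p = t + 3 := ⟨p - 3, by omega⟩
    have h1 : 5 ^ (t + 3) ≤ q ^ (t + 3) := Nat.pow_le_pow_left h _
    have h2 : ∀ t, 8 * (2 * (t + 3) + 2) ≤ 5 ^ (t + 3) := by
      intro t; induction t with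
      | zero => norm_num
      | succ n ih => rw [show n + 1 + 3 = (n + 3) + 1 by ring, pow_succ]; omega
    exact (h2 t).trans h1
  · obtain ⟨t, rfl⟩ : ∃ t, p = t + 5 := ⟨p - 5, by omega⟩
    have h1 : 3 ^ (t + 5) ≤ q ^ (t + 5) := Nat.pow_le_pow_left hq _
    have h2 : ∀ t, 8 * (2 * (t + 5) + 2) ≤ 3 ^ (t + 5) := by
      intro t; induction t with
      | zero => norm_num
      | succ n ih => rw [show n + 1 + 5 = (n + 5) + 1 by ring, pow_succ]; omega
    exact (h2 t).trans h1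

theorem low_end {p q Q : ℤ} (hp : 3 ≤ p) (hq : 3 ≤ q) (hQ : 8 * (2 * p + 2) ≤ Q) :
    p * q * (2 * p + 1) * Q < ((2 * p + 1) - 1) * (Q - (2 * p + 1) - 1) * ((2 * q + 1) * (p - 1)) := by
  nlinarith [mul_le_mul_of_nonneg_left hQ (show (0 : ℤ) ≤ p * ((2 * q + 1) * (p - 1)) by
    have : 0 ≤ p - 1 := by linarith
    positivity), mul_nonneg (mul_nonneg (mul_nonneg (show (0 : ℤ) ≤ p by linarith)
      (show (0 : ℤ) ≤ q by linarith)) (show (0 : ℤ) ≤ Q by linarith)) (show (0 : ℤ) ≤ 3 * p - 9 by linarith),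
    mul_pos (mul_pos (show (0 : ℤ) < p by linarith) (show (0 : ℤ) < p - 1 by linarith)) (show (0 : ℤ) < Q by linarith)]

theorem high_end_five {p q V Q : ℤ} (hp : 3 ≤ p) (hq : 5 ≤ q) (hV : 31 ≤ V) (hQV : Q = (q - 1) * V + 1) :
    p * q * V * Q < (V - 1) * (Q - V - 1) * ((2 * q + 1) * (p - 1)) := by
  subst hQV
  have key : p * q * ((q - 1) * V + 1) < (V - 1) * (q - 2) * ((2 * q + 1) * (p - 1)) := by
    nlinarith [mul_le_mul_of_nonneg_left hp (show (0 : ℤ) ≤ (V - 1) * (q - 2) * (2 * q + 1) by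
        have h1 : 0 ≤ V - 1 := by linarith
        have h2 : 0 ≤ q - 2 := by linarith
        positivity),
      mul_nonneg (show (0 : ℤ) ≤ p by linarith) (mul_nonneg (show (0 : ℤ) ≤ q - 5 by linarith) (show (0 : ℤ) ≤ V - 31 by linarith)),
      mul_nonneg (mul_nonneg (show (0 : ℤ) ≤ p by linarith) (show (0 : ℤ) ≤ q - 5 by linarith)) (show (0 : ℤ) ≤ q by linarith),
      mul_nonneg (mul_nonneg (mul_nonneg (show (0 : ℤ) ≤ p by linarith) (show (0 : ℤ) ≤ q - 5 by linarith)) (show (0 : ℤ) ≤ q by linarith)) (show (0 : ℤ) ≤ V - 31 by linarith),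
      mul_nonneg (show (0 : ℤ) ≤ p - 3 by linarith) (show (0 : ℤ) ≤ V - 31 by linarith)]
  calc p * q * V * ((q - 1) * V + 1) = V * (p * q * ((q - 1) * V + 1)) := by ring
    _ < V * ((V - 1) * (q - 2) * ((2 * q + 1) * (p - 1))) := by
        exact mul_lt_mul_of_pos_left key (by linarith)
    _ = _ := by ring

theorem high_end_three {p V Q : ℤ} (hp : 11 ≤ p) (hV : 10 * p ≤ V) (hQV : Q = 2 * V + 1) :
    p * 3 * V * Q < (V - 1) * (Q - V - 1) * ((2 * 3 + 1) * (p - 1)) := by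
  subst hQV
  nlinarith [mul_le_mul_of_nonneg_left hp (mul_self_nonneg V),
    mul_le_mul_of_nonneg_left hV (show (0 : ℤ) ≤ V by linarith)]

/-- A concave quadratic with nonnegative ends. -/
theorem concave {a b V v Q : ℤ} (ha : 0 ≤ b) (hv1 : a ≤ v) (hv2 : v ≤ V) {m : ℤ} (_hm : 0 ≤ m)
    (h1 : m * a * Q < (a - 1) * (Q - a - 1) * b) (h2 : m * V * Q < (V - 1) * (Q - V - 1) * b) :
    m * v * Q < (v - 1) * (Q - v - 1) * b := by
  rcases lt_or_eq_of_le hv1 with h | h
  · by_contra hc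
    push Not at hc
    have e : (V - a) * (m * v * Q - (v - 1) * (Q - v - 1) * b) =
        (V - v) * (m * a * Q - (a - 1) * (Q - a - 1) * b) + (v - a) * (m * V * Q - (V - 1) * (Q - V - 1) * b)
          - b * ((V - v) * (v - a) * (V - a)) := by ring
    have p1 : 0 ≤ (V - a) * (m * v * Q - (v - 1) * (Q - v - 1) * b) :=
      mul_nonneg (by linarith) (by linarith)
    have p2 : (V - v) * (m * a * Q - (a - 1) * (Q - a - 1) * b) ≤ 0 :=
      mul_nonpos_of_nonneg_of_nonpos (by linarith) (by linarith)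
    have p3 : (v - a) * (m * V * Q - (V - 1) * (Q - V - 1) * b) < 0 :=
      mul_neg_of_pos_of_neg (by linarith) (by linarith)
    have p4 : 0 ≤ b * ((V - v) * (v - a) * (V - a)) :=
      mul_nonneg ha (mul_nonneg (mul_nonneg (by linarith) (by linarith)) (by linarith))
    linarith
  · subst h; exact h1

theorem no_solution {p q u v c d : ℕ} (hp : p.Prime) (hq : q.Prime) (hp2 : p ≠ 2) (hq2 : q ≠ 2)
    (hpq : p ≠ q) (hu : u * (p - 1) ≤ p ^ q - 1) (hv : v * (q - 1) ≤ q ^ p - 1) (hv2 : 2 * p + 1 ≤ v)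
    (hc : 2 * q + 1 ≤ c) (hd : 1 ≤ d) (hspec : p = 5 → q = 3 → c ≤ 11 → u ≤ 28)
    (hineq : ((v : ℤ) * ((d * q ^ p : ℕ) - v) - ((d * q ^ p : ℕ) - 1)) * ((c * p ^ q : ℕ) : ℤ) ≤
      (d * q ^ p : ℕ) * v * p * (u * q)) : False := by
  have hp3 : 3 ≤ p := by have := hp.two_le; omega
  have hq3 : 3 ≤ q := by have := hq.two_le; omega
  have hp4 : p ≠ 4 := fun h => by subst h; norm_num at hp
  have hq4 : q ≠ 4 := fun h => by subst h; norm_num at hq
  have hp6 : p ≠ 6 := fun h => by subst h; norm_num at hp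
  have hp8 : p ≠ 8 := fun h => by subst h; norm_num at hp
  have hp9 : p ≠ 9 := fun h => by subst h; norm_num at hp
  have hp10 : p ≠ 10 := fun h => by subst h; norm_num at hp
  have hbig : 8 * (2 * p + 2) ≤ q ^ p := pow_big hq3 hp3 (by omega)
  obtain ⟨Q, hQ⟩ : ∃ Q, Q = q ^ p := ⟨_, rfl⟩
  obtain ⟨P, hP⟩ : ∃ P, P = p ^ q := ⟨_, rfl⟩
  rw [← hQ] at hbig hv hineq
  rw [← hP] at hu hineq
  have hQ1 : 1 ≤ Q := hQ ▸ Nat.one_le_pow _ _ (by omega)
  have hP1 : 1 ≤ P := hP ▸ Nat.one_le_pow _ _ (by omega)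
  obtain ⟨pm, rfl⟩ : ∃ t, p = t + 1 := ⟨p - 1, by omega⟩
  obtain ⟨qm, rfl⟩ : ∃ t, q = t + 1 := ⟨q - 1, by omega⟩
  simp only [Nat.add_sub_cancel] at hu hv
  have huZ : (u : ℤ) * pm + 1 ≤ P := by
    have : u * pm + 1 ≤ P := by omega
    exact_mod_cast this
  obtain ⟨V, hV⟩ : ∃ V, Q = qm * V + 1 := by
    obtain ⟨V, hV⟩ := Nat.sub_dvd_pow_sub_pow (qm + 1) 1 (pm + 1)
    rw [one_pow, Nat.add_sub_cancel, ← hQ] at hV
    exact ⟨V, by omega⟩
  have hvV : v ≤ V := Nat.le_of_mul_le_mul_right (c := qm) (by rw [Nat.mul_comm V]; omega) (by omega)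
  -- divide by `d`
  have hineq' : ((v : ℤ) - 1) * ((Q : ℤ) - v - 1) * (c * P) ≤ (Q : ℤ) * v * (pm + 1) * (u * (qm + 1)) := by
    push_cast at hineq
    have h1 : (d : ℤ) * (((v : ℤ) - 1) * ((Q : ℤ) - v - 1) * (c * P)) ≤
        ((v : ℤ) * ((d : ℤ) * Q - v) - ((d : ℤ) * Q - 1)) * (c * P) := by
      have hd' : (0 : ℤ) ≤ (d : ℤ) - 1 := by omega
      have hv' : (0 : ℤ) ≤ (v : ℤ) * v - 1 := by nlinarith
      nlinarith [mul_nonneg (mul_nonneg hd' hv') (show (0 : ℤ) ≤ (c : ℤ) * P by positivity)]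
    have h2 := h1.trans hineq
    have hd0 : (0 : ℤ) < d := by omega
    nlinarith
  by_cases hsmall : qm + 1 = 3 ∧ pm + 1 < 11
  · obtain ⟨e1, e2⟩ := hsmall
    obtain rfl : qm = 2 := by omega
    rcases (show pm = 4 ∨ pm = 6 by omega) with rfl | rfl
    · skip
      have hP' : (P : ℤ) = 125 := by norm_num [hP]
      have hQ' : (Q : ℤ) = 243 := by norm_num [hQ]
      have hV' : V = 121 := by omega
      rw [hP', hQ'] at hineq'
      push_cast at hineq'
      have hv11 : (11 : ℤ) ≤ v := by exact_mod_cast hv2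
      have hv121 : (v : ℤ) ≤ 121 := by exact_mod_cast (hV' ▸ hvV : v ≤ 121)
      have hu31 : (u : ℤ) ≤ 31 := by push_cast at huZ; linarith
      rcases Nat.lt_or_ge c 12 with hc7 | hc7
      · have hu28 : (u : ℤ) ≤ 28 := by exact_mod_cast hspec rfl rfl (by omega)
        have h4 : (420 : ℤ) * v * 243 < ((v : ℤ) - 1) * (243 - v - 1) * 875 :=
          concave (by norm_num) hv11 hv121 (by norm_num) (by norm_num) (by norm_num)
        have hcc : (7 : ℤ) ≤ c := by exact_mod_cast hc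
        have hnn : (0 : ℤ) ≤ ((v : ℤ) - 1) * (243 - v - 1) := mul_nonneg (by linarith) (by linarith)
        linarith [mul_le_mul_of_nonneg_left hcc hnn, mul_le_mul_of_nonneg_left hu28 (show (0 : ℤ) ≤ (v : ℤ) by linarith)]
      · have h4 : (465 : ℤ) * v * 243 < ((v : ℤ) - 1) * (243 - v - 1) * 1500 :=
          concave (by norm_num) hv11 hv121 (by norm_num) (by norm_num) (by norm_num)
        have hcc : (12 : ℤ) ≤ c := by exact_mod_cast hc7
        have hnn : (0 : ℤ) ≤ ((v : ℤ) - 1) * (243 - v - 1) := mul_nonneg (by linarith) (by linarith)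
        linarith [mul_le_mul_of_nonneg_left hcc hnn, mul_le_mul_of_nonneg_left hu31 (show (0 : ℤ) ≤ (v : ℤ) by linarith)]
    · skip
      have hP' : (P : ℤ) = 343 := by norm_num [hP]
      have hQ' : (Q : ℤ) = 2187 := by norm_num [hQ]
      have hV' : V = 1093 := by omega
      rw [hP', hQ'] at hineq'
      push_cast at hineq'
      have hv15 : (15 : ℤ) ≤ v := by exact_mod_cast hv2
      have hv1093 : (v : ℤ) ≤ 1093 := by exact_mod_cast (hV' ▸ hvV : v ≤ 1093)
      have h4 : (1197 : ℤ) * v * 2187 < ((v : ℤ) - 1) * (2187 - v - 1) * 2401 :=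
        concave (by norm_num) hv15 hv1093 (by norm_num) (by norm_num) (by norm_num)
      have hu57 : (u : ℤ) ≤ 57 := by push_cast at huZ; linarith
      have hcc : (7 : ℤ) ≤ c := by exact_mod_cast hc
      have hnn : (0 : ℤ) ≤ ((v : ℤ) - 1) * (2187 - v - 1) := mul_nonneg (by linarith) (by linarith)
      linarith [mul_le_mul_of_nonneg_left hcc hnn, mul_le_mul_of_nonneg_left hu57 (show (0 : ℤ) ≤ (v : ℤ) by linarith)]
  · have hlow := low_end (p := (pm + 1 : ℤ)) (q := (qm + 1 : ℤ)) (Q := (Q : ℤ)) (by omega) (by omega)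
      (by exact_mod_cast hbig)
    have hQV : (Q : ℤ) = ((qm + 1 : ℤ) - 1) * V + 1 := by rw [add_sub_cancel_right]; exact_mod_cast hV
    have hhigh : ((pm + 1 : ℤ)) * (qm + 1) * V * Q <
        ((V : ℤ) - 1) * ((Q : ℤ) - V - 1) * ((2 * (qm + 1 : ℤ) + 1) * ((pm + 1 : ℤ) - 1)) := by
      by_cases h5 : 5 ≤ qm + 1
      · refine high_end_five (by omega) (by omega) ?_ hQV
        have h3 : (qm + 1) ^ 3 ≤ Q := hQ ▸ Nat.pow_le_pow_right (by omega) hp3
        have h3' : qm * (qm * qm + 3 * qm + 3) ≤ qm * V := by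
          have e : (qm + 1) ^ 3 = qm * (qm * qm + 3 * qm + 3) + 1 := by ring
          omega
        have h3'' : 4 * 4 ≤ qm * qm := Nat.mul_le_mul (by omega) (by omega)
        have h3''' := Nat.le_of_mul_le_mul_left h3' (by omega)
        have : 31 ≤ V := by omega
        exact_mod_cast this
      · obtain rfl : qm = 2 := by omega
        have hVb : 10 * (pm + 1) ≤ V := by
          have h1 : ∀ t, 20 * (t + 11) + 1 ≤ 3 ^ (t + 11) := by
            intro t; induction t with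
            | zero => norm_num
            | succ n ih => rw [show n + 1 + 11 = (n + 11) + 1 by ring, pow_succ]; omega
          obtain ⟨t, ht⟩ : ∃ t, pm + 1 = t + 11 := ⟨pm + 1 - 11, by omega⟩
          have := h1 t
          rw [← ht, show (3 : ℕ) = 2 + 1 from rfl, ← hQ] at this
          omega
        have := high_end_three (p := (pm + 1 : ℤ)) (V := (V : ℤ)) (Q := (Q : ℤ)) (by omega)
          (by exact_mod_cast hVb) (by rw [hQV]; norm_num)
        norm_num at this ⊢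
        linarith
    have h4 := concave (b := (2 * (qm + 1 : ℤ) + 1) * ((pm + 1 : ℤ) - 1)) (v := (v : ℤ))
      (mul_nonneg (by omega) (by omega)) (by exact_mod_cast hv2) (by exact_mod_cast hvV) (by positivity) hlow hhigh
    have hnn : (0 : ℤ) ≤ ((v : ℤ) - 1) * ((Q : ℤ) - v - 1) := by
      refine mul_nonneg (by omega) ?_
      have : 2 * v + 1 ≤ Q := by
        have h2 : 2 * V ≤ qm * V := Nat.mul_le_mul_right _ (by omega)
        omega
      omega
    have hcc : ((2 * (qm + 1) + 1 : ℕ) : ℤ) ≤ c := by exact_mod_cast hc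
    push_cast at hcc
    rw [add_sub_cancel_right] at h4
    have hP0 : (0 : ℤ) < P := by omega
    have e1 : ((v : ℤ) - 1) * ((Q : ℤ) - v - 1) * ((2 * (qm + 1 : ℤ) + 1) * P) ≤
        (Q : ℤ) * v * (pm + 1) * (u * (qm + 1)) :=
      le_trans (mul_le_mul_of_nonneg_left (mul_le_mul_of_nonneg_right hcc hP0.le) hnn) hineq'
    have e2 : (Q : ℤ) * v * (pm + 1) * (qm + 1) * (u * pm) ≤ (Q : ℤ) * v * (pm + 1) * (qm + 1) * P :=
      mul_le_mul_of_nonneg_left (by linarith) (by positivity)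
    have e3 := mul_le_mul_of_nonneg_right e1 (show (0 : ℤ) ≤ pm by omega)
    have e4 := mul_lt_mul_of_pos_right h4 hP0
    linarith

end Cfsg.Agent.PF13Arith8
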