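/-
The Galois mean bound for products of generalized characters.
-/
import Mathlib
import Cfsg.Agent.Lib.CharBasicCyclic
import Cfsg.Agent.Lib.CharBasicInt

set_option autoImplicit false
set_option linter.unusedSectionVars false

open scoped ComplexConjugate

namespace Cfsg.Agent.PF13Galois8

open Cfsg.Agent.CharBasic Cfsg.Agent.CharBasicOrth Cfsg.Agent.CharBasicDecomp Cfsg.Agent.CharBasicCyclic

theorem gen_conj {G : Type*} [Group G] [Finite G] {θ : G → ℂ} (h : Cfsg.IsGeneralizedCharacter G θ) :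
    Cfsg.IsGeneralizedCharacter G (fun g => conj (θ g)) := by
  obtain ⟨a, b, ha, hb, rfl⟩ := h
  exact ⟨_, _, isCharacter_conj ha, isCharacter_conj hb, funext fun g => map_sub _ _ _⟩

theorem gen_integral {G : Type*} [Group G] [Finite G] {θ : G → ℂ} (h : Cfsg.IsGeneralizedCharacter G θ)
    (g : G) : IsIntegral ℤ (θ g) := by
  obtain ⟨a, b, ha, hb, rfl⟩ := h
  exact (isCharacter_integral ha g).sub (isCharacter_integral hb g)

theorem prod_gen_norm_sq_ge_one {G : Type*} [Group G] [Fintype G] (g : G) {χ : G → ℂ}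
    (hχ : Cfsg.IsGeneralizedCharacter G χ) (hne : ∀ x ∈ gens (Subgroup.zpowers g), χ x ≠ 0) :
    (1 : ℝ) ≤ ∏ a ∈ gens (Subgroup.zpowers g), ‖χ a‖ ^ 2 := by
  classical
  set A := Subgroup.zpowers g with hA
  have hcomm : ∀ a b : A, a * b = b * a := fun a b => Std.Commutative.comm a b
  let M := (Finset.range (orderOf g)).filter fun m => m.Coprime (orderOf g)
  have hM : gens A = M.image (fun m => g ^ m) := by
    ext a
    rw [gens_eq_image, Finset.mem_image]
    constructor
    · rintro ⟨m, hm, rfl⟩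
      refine ⟨m % orderOf g, ?_, pow_mod_orderOf g m⟩
      simp only [M, Finset.mem_filter, Finset.mem_range]
      exact ⟨Nat.mod_lt _ (isOfFinOrder_of_finite g).orderOf_pos,
        (Nat.ModEq.gcd_eq (Nat.mod_modEq m _)).trans hm⟩
    · rintro ⟨m, hm, rfl⟩
      exact ⟨m, (Finset.mem_filter.1 hm).2, rfl⟩
  have hinjM : Set.InjOn (fun m => g ^ m) M := by
    intro i hi j hj h
    rw [Finset.mem_coe, Finset.mem_filter, Finset.mem_range] at hi hj
    exact pow_injOn_Iio_orderOf hi.1 hj.1 h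
  let θ : A → ℂ := ∏ m ∈ M, fun a : A => χ ((a : G) ^ m) * conj (χ ((a : G) ^ m))
  have hθ : Cfsg.IsGeneralizedCharacter A θ := by
    refine Finset.prod_induction _ (Cfsg.IsGeneralizedCharacter A) (fun _ _ h h' => isGeneralizedCharacter_mul h h')
      (isGeneralizedCharacter_of_isCharacter isCharacter_one) fun m _ => ?_
    let f : A →* G := A.subtype.comp
      { toFun := fun a => a ^ m, map_one' := one_pow m,
        map_mul' := fun a b => (show Commute a b from hcomm a b).mul_pow m }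
    exact isGeneralizedCharacter_comap f (isGeneralizedCharacter_mul hχ (gen_conj hχ))
  have hval : ∀ a (ha : a ∈ gens A), ∀ (haA : a ∈ A),
      θ ⟨a, haA⟩ = ((∏ x ∈ gens A, ‖χ x‖ ^ 2 : ℝ) : ℂ) := by
    intro a ha haA
    simp only [θ, Finset.prod_apply, Complex.ofReal_prod]
    have haeq : gens A = M.image (fun m => a ^ m) := by
      rw [hM]
      obtain ⟨j, hj, rfl⟩ := (gens_eq_image g a).1 ha
      refine (Finset.eq_of_subset_of_card_le ?_ ?_).symm
      · intro x hx
        obtain ⟨m, hm, rfl⟩ := Finset.mem_image.1 hx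
        rw [← hM, gens_eq_image]
        exact ⟨j * m, Nat.Coprime.mul_left hj (Finset.mem_filter.1 hm).2, pow_mul g j m⟩
      · rw [Finset.card_image_of_injOn hinjM, Finset.card_image_of_injOn]
        intro i hi k hk h
        rw [Finset.mem_coe, Finset.mem_filter, Finset.mem_range] at hi hk
        have hord : orderOf (g ^ j) = orderOf g := Nat.Coprime.orderOf_pow hj.symm
        exact pow_injOn_Iio_orderOf (x := g ^ j) (by simpa [hord] using hi.1)
          (by simpa [hord] using hk.1) h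
    have hinja : Set.InjOn (fun m => a ^ m) M := by
      rw [← Finset.card_image_iff, ← haeq, hM, Finset.card_image_of_injOn hinjM]
    rw [haeq, Finset.prod_image hinja]
    refine Finset.prod_congr rfl fun m _ => ?_
    rw [Complex.mul_conj', Complex.ofReal_pow]
  obtain ⟨z, hz⟩ := exists_int_sum_gens_char A (Subgroup.isCyclic_zpowers g) θ
    hθ (fun x => if h : x ∈ A then θ ⟨x, h⟩ else 0)
    (fun a => dif_pos a.2)
  have hmem : ∀ a ∈ gens A, a ∈ A := fun a ha => mem_gens.1 ha ▸ Subgroup.mem_zpowers a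
  rw [Finset.sum_congr rfl fun a ha => by rw [dif_pos (hmem a ha), hval a ha (hmem a ha)],
    Finset.sum_const, nsmul_eq_mul] at hz
  set P : ℝ := ∏ x ∈ gens A, ‖χ x‖ ^ 2 with hP
  have hpos : 0 < P := Finset.prod_pos fun x hx => pow_pos (norm_pos_iff.2 (hne x hx)) 2
  have hcard : 0 < (gens A).card := Finset.card_pos.2 ⟨g, mem_gens.2 rfl⟩
  have hint : IsIntegral ℤ (P : ℂ) := by
    have hgA : g ∈ A := Subgroup.mem_zpowers g
    rw [← hval g (mem_gens.2 rfl) hgA]
    exact gen_integral hθ _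
  have hPq : (P : ℂ) = algebraMap ℚ ℂ ((z : ℚ) / (gens A).card) := by
    rw [map_div₀, eq_div_iff (by simpa using hcard.ne')]
    simpa [mul_comm] using hz
  rw [hPq, isIntegral_algebraMap_iff (algebraMap ℚ ℂ).injective] at hint
  obtain ⟨w, hw⟩ := IsIntegrallyClosed.isIntegral_iff.1 hint
  rw [← hw] at hPq
  have hPw : P = (w : ℝ) := by
    apply Complex.ofReal_injective
    rw [hPq]; simp
  rw [hPw] at hpos ⊢
  exact_mod_cast (show (0 : ℤ) < w from by exact_mod_cast hpos)



/-- Several generalized characters without zeros on the generators of `⟨g⟩` have mean square at least one. -/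
theorem card_le_sum_norm_sq {G : Type*} [Group G] [Fintype G] {ι : Type*} (I : Finset ι) (g : G)
    {θ : ι → G → ℂ} (hθ : ∀ i ∈ I, Cfsg.IsGeneralizedCharacter G (θ i))
    (hne : ∀ i ∈ I, ∀ a ∈ gens (Subgroup.zpowers g), θ i a ≠ 0) :
    ((gens (Subgroup.zpowers g)).card * I.card : ℕ) ≤
      (∑ a ∈ gens (Subgroup.zpowers g), ∑ i ∈ I, ‖θ i a‖ ^ 2 : ℝ) := by
  classical
  set s := gens (Subgroup.zpowers g) with hs
  rcases I.eq_empty_or_nonempty with rfl | hI
  · simp
  set t := s ×ˢ I with ht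
  have hc : 0 < t.card := by
    rw [ht, Finset.card_product]
    exact Nat.mul_pos (Finset.card_pos.2 ⟨g, mem_gens.2 rfl⟩) (Finset.card_pos.2 hI)
  have hw : ∑ _p ∈ t, (1 / (t.card : ℝ)) = 1 := by
    rw [Finset.sum_const, nsmul_eq_mul, mul_one_div, div_self]
    exact_mod_cast hc.ne'
  have h2 := Real.geom_mean_le_arith_mean_weighted t (fun _ => 1 / (t.card : ℝ))
    (fun p => ‖θ p.2 p.1‖ ^ 2) (fun _ _ => by positivity) hw (fun _ _ => sq_nonneg _)
  have hP : (1 : ℝ) ≤ ∏ p ∈ t, ‖θ p.2 p.1‖ ^ 2 := by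
    rw [ht, Finset.prod_product_right]
    exact Finset.one_le_prod fun i hi => prod_gen_norm_sq_ge_one g (hθ i hi) (hne i hi)
  have h3 : (1 : ℝ) ≤ ∏ p ∈ t, (‖θ p.2 p.1‖ ^ 2) ^ (1 / (t.card : ℝ)) := by
    rw [Real.finsetProd_rpow _ _ (fun _ _ => sq_nonneg _)]
    exact Real.one_le_rpow hP (by positivity)
  have h4 := h3.trans h2
  rw [← Finset.mul_sum, one_div, inv_mul_eq_div, le_div_iff₀ (by exact_mod_cast hc), one_mul] at h4
  rw [← Finset.card_product, ← ht]
  refine h4.trans (le_of_eq ?_)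
  rw [ht, Finset.sum_product]

end Cfsg.Agent.PF13Galois8
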