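/-
The counting inequality for a pair of abelian TI subgroups attached to a cyclic TI pair.
-/
import Mathlib
import Cfsg.Agent.Lib.PF13Cols8
import Cfsg.Agent.Lib.PF13Galois8

set_option autoImplicit false
set_option linter.unusedSectionVars false
set_option linter.style.haveILetI false
set_option linter.style.openClassical false

open scoped ComplexConjugate Classical

namespace Cfsg.Agent.PF13Count8

open CharBasic CharBasicOrth CharBasicDecomp CharBasicCyclic CyclicTI PF13Congr8 PF13Mass8 PF13Tools8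
  PF13Cols8 PF13Galois8

variable {G : Type*} [Group G] [Fintype G] {W₁ W₂ S K T L : Subgroup G} {p q : ℕ}
  {χ : (↥(W₁ ⊔ W₂) →* ℂˣ) → (G → ℂ)}

/-- The nonidentity elements of a subgroup. -/
noncomputable def sharp (H : Subgroup G) : Finset G := Finset.univ.filter fun g => g ∈ H ∧ g ≠ 1

/-- The elements of `W` outside both factors. -/
noncomputable def outer (W₁ W₂ : Subgroup G) : Finset G :=
  Finset.univ.filter fun g => g ∈ W₁ ⊔ W₂ ∧ g ∉ W₁ ∧ g ∉ W₂

theorem mem_sharp {H : Subgroup G} {g : G} : g ∈ sharp H ↔ g ∈ H ∧ g ≠ 1 := by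
  classical
  simp [sharp]

theorem mem_outer {g : G} : g ∈ outer W₁ W₂ ↔ g ∈ W₁ ⊔ W₂ ∧ g ∉ W₁ ∧ g ∉ W₂ := by
  classical
  simp [outer]

theorem sum_sharp (H : Subgroup G) [Fintype ↥H] [DecidableEq ↥H] (F : G → ℝ) :
    ∑ g ∈ sharp H, F g = ∑ k ∈ (Finset.univ : Finset ↥H).erase 1, F k := by
  refine Eq.symm ?_
  refine Finset.sum_bij (fun k _ => (k : G)) (fun k hk => ?_) (fun a _ b _ e => Subtype.ext e)
    (fun g hg => ?_) (fun _ _ => rfl)
  · exact mem_sharp.2 ⟨k.2, fun e => (Finset.mem_erase.1 hk).1 (Subtype.ext e)⟩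
  · obtain ⟨h1, h2⟩ := mem_sharp.1 hg
    exact ⟨⟨g, h1⟩, Finset.mem_erase.2 ⟨fun e => h2 (congrArg Subtype.val e), Finset.mem_univ _⟩, rfl⟩

theorem card_sharp (H : Subgroup G) : ((sharp H).card : ℝ) = (Nat.card H : ℝ) - 1 := by
  classical
  haveI : Fintype ↥H := Fintype.ofFinite _
  have := sum_sharp H fun _ => (1 : ℝ)
  simp only [Finset.sum_const, nsmul_eq_mul, mul_one] at this
  rw [this, Finset.card_erase_of_mem (Finset.mem_univ _), Finset.card_univ, Nat.card_eq_fintype_card,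
    Nat.cast_sub Fintype.card_pos, Nat.cast_one]

theorem norm_conj {θ : G → ℂ} (hθ : Cfsg.IsClassFunction G θ) (x g : G) :
    ‖θ (x * g * x⁻¹)‖ ^ 2 = ‖θ g‖ ^ 2 := by rw [hθ]

theorem side_sum (h : ∀ x k : G, k ∈ K → k ≠ 1 → x * k * x⁻¹ ∈ K → x ∈ S)
    (hc : ∀ s ∈ S, ∀ k ∈ K, s * k * s⁻¹ ∈ K) (F : G → ℝ) (hF : ∀ x g, F (x * g * x⁻¹) = F g) :
    (Nat.card S : ℝ) * ∑ g ∈ region (sharp K), F g = (Nat.card G : ℝ) * ∑ g ∈ sharp K, F g := by
  refine region_sum S (sharp K) (fun x t ht ht' => h x t (mem_sharp.1 ht).1 (mem_sharp.1 ht).2 (mem_sharp.1 ht').1)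
    (fun n hn t ht => mem_sharp.2 ⟨hc n hn t (mem_sharp.1 ht).1, fun e => (mem_sharp.1 ht).2 ?_⟩) F hF
  have := congrArg (fun z => n⁻¹ * z * n) e
  simpa [mul_assoc] using this

/-- The congruence on `W₁` of a member of the family. -/
theorem congr_A (C : Ctx W₁ W₂ S K p q χ) (hT : Side T L W₂ W₁ p) (ω : ↥(W₁ ⊔ W₂) →* ℂˣ) (b : ↥W₁)
    (hb : b ≠ 1) : Nul p (χ ω b - ((ω.comp (Subgroup.inclusion le_sup_left)) b : ℂ)) := by
  have hd := hdisj C.hW
  obtain ⟨x, hx, hx1⟩ := W₂.bot_or_exists_ne_one.resolve_left C.hW.2.1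
  have hbW : (b : G) ∈ W₁ ⊔ W₂ := Subgroup.mem_sup_left b.2
  have hxW : x ∈ W₁ ⊔ W₂ := Subgroup.mem_sup_right hx
  have hn1 : x * (b : G) ∉ W₁ := fun h => hx1 (Subgroup.mem_bot.1
    (hd ▸ (⟨by simpa using W₁.mul_mem h (W₁.inv_mem b.2), hx⟩ : x ∈ W₁ ⊓ W₂)))
  have hn2 : x * (b : G) ∉ W₂ := fun h => hb (Subtype.ext (Subgroup.mem_bot.1
    (hd ▸ (⟨b.2, by simpa using W₂.mul_mem (W₂.inv_mem hx) h⟩ : (b : G) ∈ W₁ ⊓ W₂))))
  have hxq : x ^ p = 1 := orderOf_dvd_iff_pow_eq_one.1 (C.cW₂ ▸ Subgroup.orderOf_dvd_natCard W₂ hx)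
  have h1 := genchar_congr_mul hT.hq (gen C ω) (hT.commAB x hx b b.2) hxq
    (hT.cop.coprime_dvd_right ((Subgroup.orderOf_dvd_natCard W₁ b.2).trans (Subgroup.card_dvd_of_le hT.leB)))
  have h2 : χ ω (x * (b : G)) = (ω ⟨x, hxW⟩ : ℂ) * (ω ⟨b, hbW⟩ : ℂ) := by
    rw [← Units.val_mul, ← map_mul]
    exact C.fam.eq_on ω (⟨x, hxW⟩ * ⟨b, hbW⟩) hn1 hn2
  have hint : ∀ w : ↥(W₁ ⊔ W₂), IsIntegral ℤ (ω w : ℂ) := fun w =>
    isCharacter_integral (isCharacter_linear ω) w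
  have h3 : Nul p ((ω ⟨x, hxW⟩ : ℂ) - 1) := nul_sub_of_pow (e := 1) hT.hq (hint _) isIntegral_one (by
    rw [pow_one, one_pow, ← Units.val_pow_eq_pow_val, ← map_pow,
      show (⟨x, hxW⟩ : ↥(W₁ ⊔ W₂)) ^ p = 1 from Subtype.ext hxq, map_one, Units.val_one])
  refine (h1.add (h3.mul_left (hint ⟨b, hbW⟩))).congr ?_
  rw [h2]
  show _ = χ ω b - (ω ⟨b, hbW⟩ : ℂ)
  ring

theorem norm_outer (C : Ctx W₁ W₂ S K p q χ) (ω : ↥(W₁ ⊔ W₂) →* ℂˣ) {g : G} (hg : g ∈ outer W₁ W₂) :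
    ‖χ ω g‖ ^ 2 = 1 := by
  obtain ⟨h0, h1, h2⟩ := mem_outer.1 hg
  rw [show χ ω g = (ω ⟨g, h0⟩ : ℂ) from C.fam.eq_on ω ⟨g, h0⟩ h1 h2,
    Complex.norm_eq_one_of_pow_eq_one (n := Nat.card ↥(W₁ ⊔ W₂)) ?_ Nat.card_pos.ne', one_pow]
  rw [← Units.val_pow_eq_pow_val, ← map_pow, pow_card_eq_one', map_one, Units.val_one]

theorem one_le_norm_one (C : Ctx W₁ W₂ S K p q χ) (ω : ↥(W₁ ⊔ W₂) →* ℂˣ) : (1 : ℝ) ≤ ‖χ ω 1‖ ^ 2 := by
  rcases C.fam.irr_or_neg ω with h | h <;> obtain ⟨n, hn, e⟩ := isIrrCharacter_apply_one h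
  · rw [e, Complex.norm_natCast]; exact one_le_pow₀ (by exact_mod_cast hn)
  · rw [← norm_neg, show -(χ ω 1) = (-χ ω) 1 from rfl, e, Complex.norm_natCast]
    exact one_le_pow₀ (by exact_mod_cast hn)

theorem outer_sum (C : Ctx W₁ W₂ S K p q χ) (ω : ↥(W₁ ⊔ W₂) →* ℂˣ) :
    ∑ g ∈ region (outer W₁ W₂), ‖χ ω g‖ ^ 2 = ((region (outer W₁ W₂)).card : ℝ) := by
  rw [Finset.sum_congr rfl fun g hg => ?_, Finset.sum_const, nsmul_eq_mul, mul_one]
  obtain ⟨x, hx⟩ := mem_region.1 hg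
  rw [← norm_conj (cls C ω) x g]
  exact norm_outer C ω hx

/-- The three regions are disjoint, off the identity. -/
structure Regions (W₁ W₂ K L : Subgroup G) (R : Finset G) : Prop where
  d1 : Disjoint (region (sharp K)) (region (sharp L))
  d2 : Disjoint (region (sharp K) ∪ region (sharp L)) (region (outer W₁ W₂))
  d3 : (1 : G) ∉ region (sharp K) ∪ region (sharp L) ∪ region (outer W₁ W₂)
  mem : ∀ g, g ∈ R ↔ g ≠ 1 ∧ g ∉ region (sharp K) ∪ region (sharp L) ∪ region (outer W₁ W₂)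

theorem prime_dvd_outer (C : Ctx W₁ W₂ S K p q χ) {g : G} (hg : g ∈ outer W₁ W₂) :
    q ∣ orderOf g ∧ p ∣ orderOf g := by
  obtain ⟨h0, h1, h2⟩ := mem_outer.1 hg
  have hd := hdisj C.hW
  have hc := hcomm C.hW
  have key : ∀ (f : ↥(W₁ ⊔ W₂) →* ↥(W₁ ⊔ W₂)) (V : Subgroup G) (n : ℕ), n.Prime → Nat.card V = n →
      (f ⟨g, h0⟩ : G) ∈ V → f ⟨g, h0⟩ ≠ 1 → n ∣ orderOf g := by
    intro f V n hn hV hm hne
    have e : orderOf (f ⟨g, h0⟩ : G) = n := ((Nat.dvd_prime hn).1 (hV ▸ Subgroup.orderOf_dvd_natCard V hm)).resolve_left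
      (by rw [orderOf_eq_one_iff]; exact fun e => hne (Subtype.ext e))
    rw [← e]
    rw [Subgroup.orderOf_coe, ← show orderOf (⟨g, h0⟩ : ↥(W₁ ⊔ W₂)) = orderOf g from Subgroup.orderOf_mk g h0]
    exact orderOf_map_dvd f ⟨g, h0⟩
  exact ⟨key (proj₁ hd hc) W₁ q C.side.hq C.cW₁ (proj₁_mem hd hc _) (proj₁_ne_one hd hc h2),
    key (proj₂ hd hc) W₂ p C.hp C.cW₂ (proj₂_mem hd hc _) (proj₂_ne_one hd hc h1)⟩

theorem order_conj (x g : G) : orderOf (x * g * x⁻¹) = orderOf g :=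
  orderOf_injective (MulAut.conj x).toMonoidHom (MulAut.conj x).injective g

theorem exists_regions (C : Ctx W₁ W₂ S K p q χ) (hT : Side T L W₂ W₁ p)
    (hKL : ¬ Nat.card L ∣ Nat.card S) : ∃ R : Finset G, Regions W₁ W₂ K L R := by
  refine ⟨Finset.univ.filter fun g => g ≠ 1 ∧
    g ∉ region (sharp K) ∪ region (sharp L) ∪ region (outer W₁ W₂), ⟨?_, ?_, ?_, fun g => by simp⟩⟩
  · rw [Finset.disjoint_left]
    intro g hg hg'
    obtain ⟨x, hx⟩ := mem_region.1 hg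
    obtain ⟨y, hy⟩ := mem_region.1 hg'
    obtain ⟨hk, hk1⟩ := mem_sharp.1 hx
    obtain ⟨hl, -⟩ := mem_sharp.1 hy
    refine hKL ?_
    have hle : L.map (MulAut.conj (x * y⁻¹)).toMonoidHom ≤ S := by
      rintro _ ⟨l, hl', rfl⟩
      refine C.side.ti _ _ hk hk1 ?_
      have e := hT.ab l hl' _ hl
      rw [show (MulAut.conj (x * y⁻¹)).toMonoidHom l * (x * g * x⁻¹) *
          ((MulAut.conj (x * y⁻¹)).toMonoidHom l)⁻¹ = x * y⁻¹ * (l * (y * g * y⁻¹) * l⁻¹) * (x * y⁻¹)⁻¹ by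
        simp [mul_assoc], e, mul_inv_cancel_right]
      convert hk using 1
      group
    have := Subgroup.card_dvd_of_le hle
    rwa [Subgroup.card_map_of_injective (MulAut.conj (x * y⁻¹)).injective] at this
  · rw [Finset.disjoint_left]
    intro g hg hg'
    obtain ⟨z, hz⟩ := mem_region.1 hg'
    obtain ⟨hq', hp'⟩ := prime_dvd_outer C hz
    rw [order_conj] at hq' hp'
    rcases Finset.mem_union.1 hg with h | h <;> obtain ⟨x, hx⟩ := mem_region.1 h
    · have := Subgroup.orderOf_dvd_natCard K (mem_sharp.1 hx).1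
      rw [order_conj] at this
      exact C.side.hq.one_lt.ne' (C.side.cop.eq_one_of_dvd (hq'.trans this))
    · have := Subgroup.orderOf_dvd_natCard L (mem_sharp.1 hx).1
      rw [order_conj] at this
      exact C.hp.one_lt.ne' (hT.cop.eq_one_of_dvd (hp'.trans this))
  · simp only [Finset.mem_union, mem_region, mem_sharp, mem_outer, mul_one, mul_inv_cancel,
      ne_eq, not_true, and_false, exists_false, or_false, false_or]
    rintro ⟨-, -, h, -⟩
    exact h (one_mem _)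

theorem sum_split {R : Finset G} (hR : Regions W₁ W₂ K L R) (F : G → ℝ) :
    ∑ g, F g = F 1 + ∑ g ∈ region (sharp K), F g + ∑ g ∈ region (sharp L), F g +
      ∑ g ∈ region (outer W₁ W₂), F g + ∑ g ∈ R, F g := by
  classical
  have e : (Finset.univ : Finset G) =
      insert 1 (region (sharp K) ∪ region (sharp L) ∪ region (outer W₁ W₂) ∪ R) := by
    ext g
    simp only [Finset.mem_univ, Finset.mem_insert, Finset.mem_union, true_iff]
    by_cases h : g = 1
    · exact .inl h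
    · by_cases h' : g ∈ region (sharp K) ∪ region (sharp L) ∪ region (outer W₁ W₂)
      · right; left; simpa [Finset.mem_union, or_assoc] using h'
      · exact .inr (.inr ((hR.mem g).2 ⟨h, h'⟩))
  have h1 : (1 : G) ∉ region (sharp K) ∪ region (sharp L) ∪ region (outer W₁ W₂) ∪ R := by
    rw [Finset.mem_union, not_or]
    exact ⟨hR.d3, fun h => ((hR.mem 1).1 h).1 rfl⟩
  have h2 : Disjoint (region (sharp K) ∪ region (sharp L) ∪ region (outer W₁ W₂)) R :=
    Finset.disjoint_left.2 fun g h h' => ((hR.mem g).1 h').2 h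
  rw [e, Finset.sum_insert h1, Finset.sum_union h2, Finset.sum_union hR.d2, Finset.sum_union hR.d1]
  ring

theorem notMem_region_of_gens {A : Subgroup G} {g b : G} (hb : Subgroup.zpowers b = Subgroup.zpowers g)
    (hg : g ∉ region (sharp A)) : b ∉ region (sharp A) := by
  rintro h
  obtain ⟨x, hx⟩ := mem_region.1 h
  obtain ⟨h1, h2⟩ := mem_sharp.1 hx
  refine hg (mem_region.2 ⟨x, mem_sharp.2 ⟨?_, fun e => h2 ?_⟩⟩)
  · have : Subgroup.zpowers g ≤ A.comap (MulAut.conj x).toMonoidHom := hb ▸ Subgroup.zpowers_le.2 h1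
    exact this (Subgroup.mem_zpowers g)
  · have hg1 : g = 1 := by simpa using e
    rw [hg1, Subgroup.zpowers_one_eq_bot, Subgroup.zpowers_eq_bot] at hb
    simp [hb]

theorem notMem_outer_of_gens (C : Ctx W₁ W₂ S K p q χ) {g b : G}
    (hb : Subgroup.zpowers b = Subgroup.zpowers g) (hg : g ∉ region (outer W₁ W₂)) :
    b ∉ region (outer W₁ W₂) := by
  rintro h
  obtain ⟨x, hx⟩ := mem_region.1 h
  obtain ⟨h0, h1, h2⟩ := mem_outer.1 hx
  refine hg (mem_region.2 ⟨x, mem_outer.2 ⟨?_, fun e => h1 ?_, fun e => h2 ?_⟩⟩)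
  · have : Subgroup.zpowers g ≤ (W₁ ⊔ W₂).comap (MulAut.conj x).toMonoidHom := hb ▸ Subgroup.zpowers_le.2 h0
    exact this (Subgroup.mem_zpowers g)
  · have : Subgroup.zpowers b ≤ W₁.comap (MulAut.conj x).toMonoidHom := hb ▸ Subgroup.zpowers_le.2 e
    exact this (Subgroup.mem_zpowers b)
  · have : Subgroup.zpowers b ≤ W₂.comap (MulAut.conj x).toMonoidHom := hb ▸ Subgroup.zpowers_le.2 e
    exact this (Subgroup.mem_zpowers b)

/-- The formula for a column sum off the conjugates of the outer part of `W`. -/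
theorem colSum_eq (C : Ctx W₁ W₂ S K p q χ) {col : ↥(W₁ ⊔ W₂) →* ℂˣ} (h1 : col ≠ 1) (ht : TrivOn W₁ col)
    {g : G} (hg : g ∉ region (outer W₁ W₂)) :
    colSum χ col g = (q : ℂ) * χ col g + ∑ r ∈ (rows W₁ W₂).erase 1, χ r g - ((q : ℂ) - 1) := by
  have h1r : (1 : ↥(W₁ ⊔ W₂) →* ℂˣ) ∈ rows W₁ W₂ := mem_rows.2 (trivOn_one _)
  have key : ∀ r ∈ (rows W₁ W₂).erase 1, χ (r * col) g = χ col g + χ r g - 1 := by
    intro r hr
    rw [Finset.mem_erase, mem_rows] at hr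
    have h := congrFun (C.fam.induced_eq r col hr.1 h1 hr.2 ht) g
    rw [CharInduced.indFun_apply, Finset.sum_eq_zero, mul_zero] at h
    · linear_combination -h
    intro x _
    by_cases hm : x⁻¹ * g * x ∈ W₁ ⊔ W₂
    · rw [show x⁻¹ * g * x = ((⟨_, hm⟩ : ↥(W₁ ⊔ W₂)) : G) from rfl, CharInduced.ext_zero_coe]
      refine alpha_eq_zero hr.2 ht ?_
      by_contra hn
      rw [not_or] at hn
      exact hg (mem_region.2 ⟨x⁻¹, mem_outer.2 (by rw [inv_inv]; exact ⟨hm, hn.1, hn.2⟩)⟩)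
    · exact CharInduced.ext_zero_of_not_mem _ hm
  rw [colSum, Finset.sum_apply, ← Finset.add_sum_erase _ _ h1r, hom_one_mul,
    Finset.sum_congr rfl key, Finset.sum_sub_distrib, Finset.sum_add_distrib, Finset.sum_const,
    Finset.sum_const, Finset.card_erase_of_mem h1r, card_rows C, nsmul_eq_mul, nsmul_eq_mul, mul_one,
    Nat.cast_sub (by have := C.hq3; omega), Nat.cast_one]
  ring

/-- The exponent of the part prime to `q`. -/
theorem exists_part (hq : q.Prime) (g : G) : ∃ e k : ℕ, g ^ (k * q ^ e) = g ^ (q ^ e) ∧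
    (orderOf (g ^ k)).Coprime q := by
  obtain ⟨e, n, hn, he⟩ := Nat.exists_eq_pow_mul_and_not_dvd (orderOf_pos g).ne' q hq.ne_one
  have hc : (q ^ e).Coprime n := Nat.Coprime.pow_left _ (hq.coprime_iff_not_dvd.2 hn)
  obtain ⟨k, hk0, hk1⟩ := Nat.chineseRemainder hc 0 1
  refine ⟨e, k, pow_eq_pow_iff_modEq.2 ?_, ?_⟩
  · rw [he]
    have := hk1.mul_right' (q ^ e)
    simpa [mul_comm] using this
  · refine Nat.Coprime.coprime_dvd_left (orderOf_dvd_of_pow_eq_one ?_) (hq.coprime_iff_not_dvd.2 hn).symm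
    rw [← pow_mul]
    exact orderOf_dvd_iff_pow_eq_one.1 (he ▸ Nat.mul_dvd_mul_right (Nat.modEq_zero_iff_dvd.1 hk0) n)

/-- The mean bound on one class of generators. -/
theorem fibre_bound (C : Ctx W₁ W₂ S K p q χ) {col : ↥(W₁ ⊔ W₂) →* ℂˣ} (h1 : col ≠ 1) (ht : TrivOn W₁ col)
    {g : G} (hg : g ∉ region (outer W₁ W₂)) :
    ((q : ℝ) - 1) * ((gens (Subgroup.zpowers g)).card : ℝ) ≤ ∑ a ∈ gens (Subgroup.zpowers g),
      (∑ r ∈ (rows W₁ W₂).erase 1, ‖χ r a‖ ^ 2 + ((q : ℝ) - 1) * ‖colSum χ col a‖ ^ 2) := by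
  have hq3 := C.hq3
  have hq1 : (0 : ℝ) ≤ (q : ℝ) - 1 := by
    have : (3 : ℝ) ≤ q := by exact_mod_cast hq3
    linarith
  have hcard : ((rows W₁ W₂).erase 1).card = q - 1 := by
    rw [Finset.card_erase_of_mem (mem_rows.2 (trivOn_one _)), card_rows C]
  rw [Finset.sum_add_distrib, ← Finset.mul_sum]
  by_cases hz : ∀ r ∈ (rows W₁ W₂).erase 1, ∀ a ∈ gens (Subgroup.zpowers g), χ r a ≠ 0
  · have h := card_le_sum_norm_sq ((rows W₁ W₂).erase 1) g (fun r _ => gen C r) hz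
    rw [hcard, Nat.cast_mul, Nat.cast_sub (by omega), Nat.cast_one, mul_comm] at h
    have : 0 ≤ ((q : ℝ) - 1) * ∑ a ∈ gens (Subgroup.zpowers g), ‖colSum χ col a‖ ^ 2 :=
      mul_nonneg hq1 (Finset.sum_nonneg fun _ _ => sq_nonneg _)
    linarith
  push Not at hz
  obtain ⟨r₀, hr₀, a, ha, h0⟩ := hz
  rw [Finset.mem_erase, mem_rows] at hr₀
  obtain ⟨e, k, hk, hkc⟩ := exists_part C.side.hq a
  have hn0 : Nul q (χ r₀ (a ^ k)) := (genchar_congr C.side.hq (gen C r₀) hk).congr (by rw [h0, sub_zero])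
  have hY : ∀ b ∈ gens (Subgroup.zpowers g), colSum χ col b ≠ 0 := by
    intro b hb hY0
    have hzb : Subgroup.zpowers b = Subgroup.zpowers g := mem_gens.1 hb
    obtain ⟨m, hm, rfl⟩ := (gens_eq_image a b).1
      (mem_gens.2 (hzb.trans (mem_gens.1 ha).symm))
    have hrows : ∀ r ∈ (rows W₁ W₂).erase 1, Nul q (χ r (a ^ m)) := by
      intro r hr
      rw [Finset.mem_erase, mem_rows] at hr
      have e1 : χ r ((a ^ k) ^ m) = χ r₀ (a ^ k) :=
        row_galois C hr₀.2 hr₀.1 hr.2 hr.1 hkc (hm.coprime_dvd_right (orderOf_pow_dvd k))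
      have e2 : Nul q (χ r ((a ^ m) ^ k) - χ r (a ^ m)) := genchar_congr C.side.hq (gen C r) (e := e)
        (by rw [← pow_mul, ← pow_mul, mul_comm m, mul_comm m, pow_mul, hk, ← pow_mul])
      rw [← pow_mul, mul_comm, pow_mul, e1] at e2
      exact (hn0.sub e2).congr (by ring)
    have hone : Nul q ((1 : ℤ) : ℂ) := by
      refine (((Nul.sum _ hrows).add (((nul_self q).mul_left (gen_integral (gen C col) (a ^ m))).sub
        (nul_self q))).neg).congr ?_
      rw [colSum_eq C h1 ht (notMem_outer_of_gens C hzb hg)] at hY0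
      push_cast
      linear_combination -hY0
    have := (nul_int C.side.hq).1 hone
    have := Int.natAbs_dvd_natAbs.2 this
    simp only [Int.natAbs_natCast, Int.natAbs_one, Nat.dvd_one] at this
    exact C.side.hq.one_lt.ne' this
  have hgenY : Cfsg.IsGeneralizedCharacter G (colSum χ col) :=
    isGeneralizedCharacter_sum _ _ fun r _ => gen C _
  have h := card_le_sum_norm_sq (Finset.univ : Finset Unit) g (θ := fun _ => colSum χ col)
    (fun _ _ => hgenY) (fun _ _ => hY)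
  simp only [Fintype.card_unit, mul_one, Finset.univ_unique, Finset.sum_singleton, Finset.card_singleton] at h
  have : 0 ≤ ∑ a ∈ gens (Subgroup.zpowers g), ∑ r ∈ (rows W₁ W₂).erase 1, ‖χ r a‖ ^ 2 :=
    Finset.sum_nonneg fun _ _ => Finset.sum_nonneg fun _ _ => sq_nonneg _
  have := mul_le_mul_of_nonneg_left h hq1
  linarith

/-- The inequality of the two sides. -/
theorem inequality (C : Ctx W₁ W₂ S K p q χ) (hT : Side T L W₂ W₁ p) (hKL : ¬ Nat.card L ∣ Nat.card S)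
    (ψ ψ' : ↥K →* ℂˣ) (hst : ∀ s : ↥S, act C.side s ψ = ψ → (s : G) ∈ K)
    (hst' : ∀ s : ↥S, act C.side s ψ' = ψ' → (s : G) ∈ K) (hnc : ∀ s : ↥S, act C.side s ψ ≠ ψ') :
    ((((L ⊔ W₂).relIndex T : ℕ) : ℤ) * ((Nat.card L : ℤ) - ((L ⊔ W₂).relIndex T : ℕ)) -
        ((Nat.card L : ℤ) - 1)) * (Nat.card K : ℤ) ≤ (Nat.card T : ℤ) * (K.relIndex S : ℕ) := by
  obtain ⟨col, ε, X, φ, hcol1, hcol, hε, hgX, hXX, hne, hX⟩ := exists_X C ψ ψ' hst hst' hnc
  obtain ⟨R, hR⟩ := exists_regions C hT hKL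
  haveI := CyclicTI.hom_fintype ↥(W₁ ⊔ W₂)
  haveI : Fintype ↥K := Fintype.ofFinite _
  haveI : Fintype ↥L := Fintype.ofFinite _
  set v := (L ⊔ W₂).relIndex T with hv
  set a := K.relIndex S with ha
  have hS : (Nat.card S : ℝ) = (Nat.card K : ℝ) * a := by
    rw [← Nat.cast_mul]
    congr 1
    rw [← Subgroup.relIndex_bot_left S, ← Subgroup.relIndex_mul_relIndex ⊥ K S bot_le C.side.le,
      Subgroup.relIndex_bot_left]
  have hSpos : (0 : ℝ) < Nat.card S := Nat.cast_pos.2 Nat.card_pos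
  have hTpos : (0 : ℝ) < Nat.card T := Nat.cast_pos.2 Nat.card_pos
  have hKpos : (0 : ℝ) < Nat.card K := Nat.cast_pos.2 Nat.card_pos
  have hGpos : (0 : ℝ) < Nat.card G := Nat.cast_pos.2 Nat.card_pos
  -- cardinalities
  have hRK : (Nat.card S : ℝ) * (region (sharp K)).card = (Nat.card G : ℝ) * ((Nat.card K : ℝ) - 1) := by
    have := side_sum C.side.ti C.side.conjK (fun _ => 1) fun _ _ => rfl
    simpa [card_sharp] using this
  have hRL : (Nat.card T : ℝ) * (region (sharp L)).card = (Nat.card G : ℝ) * ((Nat.card L : ℝ) - 1) := by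
    have := side_sum hT.ti hT.conjK (fun _ => 1) fun _ _ => rfl
    simpa [card_sharp] using this
  have hG : (Nat.card G : ℝ) = 1 + (region (sharp K)).card + (region (sharp L)).card +
      (region (outer W₁ W₂)).card + R.card := by
    have := sum_split hR fun _ => (1 : ℝ)
    simpa using this
  have hnorm : ∀ {θ : G → ℂ}, Cfsg.classInner θ θ = 1 → ∑ g, ‖θ g‖ ^ 2 = (Nat.card G : ℝ) := by
    intro θ h
    have := classInner_self_re θ
    rw [h, Complex.one_re, inv_mul_eq_div, eq_div_iff hGpos.ne'] at this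
    linarith
  -- rows
  have hrow : ∀ r ∈ (rows W₁ W₂).erase 1, ∑ g ∈ R, ‖χ r g‖ ^ 2 ≤ (R.card : ℝ) + (region (sharp L)).card -
      (Nat.card G : ℝ) / Nat.card T * ((v : ℝ) * ((Nat.card L : ℝ) - v)) := by
    intro r hr
    rw [Finset.mem_erase, mem_rows] at hr
    have htot := sum_split hR fun g => ‖χ r g‖ ^ 2
    rw [hnorm (by rw [C.fam.orthonormal, if_pos rfl]), outer_sum C r] at htot
    have hψK : r.comp (Subgroup.inclusion (le_sup_right : W₂ ≤ W₁ ⊔ W₂)) = 1 :=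
      MonoidHom.ext fun b => hr.2 _ b.2
    have hψL : r.comp (Subgroup.inclusion (le_sup_left : W₁ ≤ W₁ ⊔ W₂)) ≠ 1 := fun e =>
      hr.1 (eq_one_of_triv_both (hdisj C.hW) (hcomm C.hW) (fun w hw => DFunLike.congr_fun e ⟨(w : G), hw⟩) hr.2)
    have hmK := mass_fixed C.side (gen C r) (by rw [C.cW₂]; exact C.hp3) _ fun b hb => congr_B C r b hb
    rw [if_pos hψK, Nat.cast_one, one_mul, ← sum_sharp K fun g => ‖χ r g‖ ^ 2] at hmK
    have hmL := mass_fixed hT (gen C r) (by rw [C.cW₁]; exact C.hq3) _ fun b hb => congr_A C hT r b hb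
    rw [if_neg hψL, ← hv, ← sum_sharp L fun g => ‖χ r g‖ ^ 2] at hmL
    have hsK := side_sum C.side.ti C.side.conjK (fun g => ‖χ r g‖ ^ 2) (norm_conj (cls C r))
    have hsL := side_sum hT.ti hT.conjK (fun g => ‖χ r g‖ ^ 2) (norm_conj (cls C r))
    have hK' : ((region (sharp K)).card : ℝ) ≤ ∑ g ∈ region (sharp K), ‖χ r g‖ ^ 2 := by
      refine le_of_mul_le_mul_left ?_ hSpos
      rw [hsK, hRK]
      exact mul_le_mul_of_nonneg_left hmK hGpos.le
    have hL' : (Nat.card G : ℝ) / Nat.card T * ((v : ℝ) * ((Nat.card L : ℝ) - v)) ≤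
        ∑ g ∈ region (sharp L), ‖χ r g‖ ^ 2 := by
      refine le_of_mul_le_mul_left ?_ hTpos
      rw [hsL, ← mul_assoc, mul_div_cancel₀ _ hTpos.ne']
      exact mul_le_mul_of_nonneg_left hmL hGpos.le
    linarith [one_le_norm_one C r]
  -- the separating character
  have hXbound : ∑ g ∈ R, ‖X g‖ ^ 2 ≤ (Nat.card G : ℝ) * a / Nat.card K := by
    have horb : ∀ θ : ↥K →* ℂˣ, (∀ s : ↥S, act C.side s θ = θ → (s : G) ∈ K) →
        Nat.card (letI := charAction C.side; MulAction.orbit ↥S θ) = a := by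
      intro θ hθ
      letI := charAction C.side
      rw [ha, Subgroup.relIndex, Nat.card_congr (MulAction.orbitEquivQuotientStabilizer ↥S θ),
        ← Subgroup.index_eq_card]
      congr 1
      refine Subgroup.ext fun s => ⟨fun hs => hθ s hs, fun hs => ?_⟩
      show act C.side s θ = θ
      refine MonoidHom.ext fun k => ?_
      rw [act_apply]
      congr 1
      refine Subtype.ext ?_
      rw [conjAut_coe, Subgroup.coe_inv, C.side.ab _ (K.inv_mem (Subgroup.mem_subgroupOf.1 hs)) _ k.2,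
        mul_inv_cancel_right]
    have hm := mass_two C.side hgX ψ ψ' (horb ψ hst) (horb ψ' hst') le_rfl hne
    rw [← sum_sharp K fun g => ‖X g‖ ^ 2] at hm
    have hs := side_sum C.side.ti C.side.conjK (fun g => ‖X g‖ ^ 2)
      (norm_conj (isClassFunction_of_isGeneralizedCharacter hgX))
    have htot := sum_split hR fun g => ‖X g‖ ^ 2
    rw [hnorm hXX] at htot
    have h0 : ∀ A : Finset G, 0 ≤ ∑ g ∈ A, ‖X g‖ ^ 2 := fun A => Finset.sum_nonneg fun _ _ => sq_nonneg _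
    have h1 := h0 (region (sharp L))
    have h2 := h0 (region (outer W₁ W₂))
    have h3 : 0 ≤ ‖X 1‖ ^ 2 := sq_nonneg _
    have h4 : (Nat.card G : ℝ) * ((a : ℝ) * ((Nat.card K : ℝ) - a)) ≤
        (Nat.card S : ℝ) * ((Nat.card G : ℝ) - ∑ g ∈ R, ‖X g‖ ^ 2) := by
      refine (mul_le_mul_of_nonneg_left hm hGpos.le).trans ?_
      rw [← hs]
      exact mul_le_mul_of_nonneg_left (by linarith) hSpos.le
    rw [hS] at h4 hSpos
    have hapos : (0 : ℝ) < a := pos_of_mul_pos_right hSpos hKpos.le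
    rw [le_div_iff₀ hKpos]
    refine le_of_mul_le_mul_left ?_ hapos
    nlinarith
  have hYX : ∀ g ∈ R, ‖colSum χ col g‖ ^ 2 = ‖X g‖ ^ 2 := by
    intro g hg
    obtain ⟨hg1, hg2⟩ := (hR.mem g).1 hg
    rw [Finset.mem_union, Finset.mem_union, not_or, not_or] at hg2
    have h0 : PF13Tools8.indDiff K φ ψ g = 0 := by
      refine CharInduced.ind_eq_zero_of_not_conj _ _ _ fun x hx => hg2.1.1 (mem_region.2 ⟨x⁻¹, mem_sharp.2
        ⟨by rwa [inv_inv], fun e => hg1 ?_⟩⟩)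
      rw [inv_inv] at e
      have := congrArg (fun z => x * z * x⁻¹) e
      simpa [mul_assoc] using this
    rw [hX, Pi.sub_apply, h0, zero_sub, norm_neg, Pi.smul_apply, smul_eq_mul, norm_mul]
    rcases hε with rfl | rfl <;> simp
  -- summation over the classes of generators
  have hfib : ((q : ℝ) - 1) * R.card ≤ ∑ g ∈ R,
      (∑ r ∈ (rows W₁ W₂).erase 1, ‖χ r g‖ ^ 2 + ((q : ℝ) - 1) * ‖colSum χ col g‖ ^ 2) := by
    rw [← Finset.sum_fiberwise_of_maps_to (t := R.image Subgroup.zpowers) (g := Subgroup.zpowers)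
      (fun g hg => Finset.mem_image_of_mem _ hg), Finset.card_eq_sum_card_image Subgroup.zpowers R,
      Nat.cast_sum, Finset.mul_sum]
    refine Finset.sum_le_sum fun A hA => ?_
    obtain ⟨g, hg, rfl⟩ := Finset.mem_image.1 hA
    have e : R.filter (fun x => Subgroup.zpowers x = Subgroup.zpowers g) = gens (Subgroup.zpowers g) := by
      ext b
      rw [Finset.mem_filter, mem_gens]
      refine ⟨fun h => h.2, fun h => ⟨(hR.mem b).2 ?_, h⟩⟩
      obtain ⟨hg1, hg2⟩ := (hR.mem g).1 hg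
      simp only [Finset.mem_union, not_or] at hg2 ⊢
      refine ⟨fun e => hg1 ?_, ⟨notMem_region_of_gens h hg2.1.1, notMem_region_of_gens h hg2.1.2⟩,
        notMem_outer_of_gens C h hg2.2⟩
      rw [e, Subgroup.zpowers_one_eq_bot, eq_comm, Subgroup.zpowers_eq_bot] at h
      exact h
    rw [e]
    exact fibre_bound C hcol1 hcol fun h => ((hR.mem g).1 hg).2 (Finset.mem_union_right _ h)
  rw [Finset.sum_add_distrib, Finset.sum_comm, ← Finset.mul_sum, Finset.sum_congr rfl hYX] at hfib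
  have hrows := Finset.sum_le_sum hrow
  rw [Finset.sum_const (b := (R.card : ℝ) + (region (sharp L)).card - _), nsmul_eq_mul,
    Finset.card_erase_of_mem (mem_rows.2 (trivOn_one _)), card_rows C,
    Nat.cast_sub (by have := C.hq3; omega), Nat.cast_one] at hrows
  have hq1 : (0 : ℝ) < (q : ℝ) - 1 := by
    have : (3 : ℝ) ≤ q := by exact_mod_cast C.hq3
    linarith
  have key : (R.card : ℝ) ≤ (R.card : ℝ) + (region (sharp L)).card -
      (Nat.card G : ℝ) / Nat.card T * ((v : ℝ) * ((Nat.card L : ℝ) - v)) + (Nat.card G : ℝ) * a / Nat.card K := by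
    refine le_of_mul_le_mul_left ?_ hq1
    have := mul_le_mul_of_nonneg_left hXbound hq1.le
    linarith
  have hRL' : ((region (sharp L)).card : ℝ) = (Nat.card G : ℝ) / Nat.card T * ((Nat.card L : ℝ) - 1) := by
    rw [div_mul_eq_mul_div, eq_div_iff hTpos.ne']
    linarith
  rw [hRL'] at key
  have key' : (Nat.card G : ℝ) / Nat.card T * ((v : ℝ) * ((Nat.card L : ℝ) - v) - ((Nat.card L : ℝ) - 1)) ≤
      (Nat.card G : ℝ) * a / Nat.card K := by linarith
  rw [div_mul_eq_mul_div, div_le_div_iff₀ hTpos hKpos, mul_assoc, mul_assoc] at key'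
  have := le_of_mul_le_mul_left key' hGpos
  rw [mul_comm (a : ℝ)] at this
  exact_mod_cast this

end Cfsg.Agent.PF13Count8
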