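/-
One side of a pair of type-P maximal subgroups: the subgroup `F(S) = S_F × C_U(S_F)`.
-/
import Mathlib
import Cfsg.Prelude.Def_OddOrder
import Cfsg.Agent.S1545
import Cfsg.Agent.Lib.BGTypeBasic
import Cfsg.Agent.Lib.PF13Mass8

set_option autoImplicit false
set_option linter.unusedSectionVars false
set_option linter.style.haveILetI false

open scoped Pointwise

namespace Cfsg.Agent.PF13Setup8

open Cfsg BGTypeBasic PF13Mass8

variable {G : Type*} [Group G] [Finite G]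

/-- What is used about one side. -/
structure PSide (S W₁ U W₂ : Subgroup G) (p q : ℕ) : Prop where
  hG : Cfsg.IsMinSimpleOddOrder G
  max : IsCoatom S
  data : Cfsg.IsTypePWith S W₁ U W₂
  cW₁ : Nat.card W₁ = q
  cW₂ : Nat.card W₂ = p
  hp : p.Prime
  hq : q.Prime
  Uab : ∀ x ∈ U, ∀ y ∈ U, x * y = y * x
  Une : U ≠ ⊥
  Pab : ∀ x ∈ fittingHallOf S, ∀ y ∈ fittingHallOf S, x * y = y * x
  Pexp : ∀ x ∈ fittingHallOf S, x ^ p = 1
  cardP : Nat.card (fittingHallOf S) = p ^ q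
  tiF : Cfsg.IsTISubset (fittingOf S : Set G)

/-- The facts coming with a side of type II or III. -/
theorem of_types {S W₁ U W₂ : Subgroup G} (hSP : Cfsg.IsTypePWith S W₁ U W₂)
    (h : Cfsg.IsOfTypeII S ∨ Cfsg.IsOfTypeIII S) :
    (Nat.card W₁).Prime ∧ (∀ x ∈ U, ∀ y ∈ U, x * y = y * x) ∧ U ≠ ⊥ ∧
      Cfsg.IsTISubset (fittingOf S : Set G) := by
  obtain ⟨W₁', U', W₂', h', hne, hpr, hti, hab⟩ : ∃ W₁' U' W₂' : Subgroup G, Cfsg.IsTypePWith S W₁' U' W₂' ∧
      U' ≠ ⊥ ∧ (Nat.card W₁').Prime ∧ Cfsg.IsTISubset (fittingOf S : Set G) ∧ IsMulCommutative U' := by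
    rcases h with ⟨a, b, c, h1, h2, h3, h4, h5, -⟩ | ⟨a, b, c, h1, h2, h3, h4, h5, -⟩ <;>
      exact ⟨a, b, c, h1, h2, h3, h4, h5⟩
  obtain ⟨m, -, hmW, -⟩ := typeP_W_conj hSP h'
  obtain ⟨n, -, hnU⟩ := typeP_U_conj hSP h'
  refine ⟨?_, fun x hx y hy => ?_, fun e => hne ?_, hti⟩
  · rwa [← hmW, conj_smul_eq_map, Subgroup.card_map_of_injective (MulAut.conj m).injective] at hpr
  · haveI := hab
    have e := congrArg (Subtype.val : ↥U' → G) (mul_comm'
      (⟨n * x * n⁻¹, hnU ▸ conj_mem_conj_smul hx⟩ : ↥U') ⟨n * y * n⁻¹, hnU ▸ conj_mem_conj_smul hy⟩)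
    have e' := congrArg (fun z => n⁻¹ * z * n) e
    simpa [mul_assoc] using e'
  · rw [← hnU, e, conj_smul_eq_map, Subgroup.map_bot]

variable {S W₁ U W₂ : Subgroup G} {p q : ℕ}

/-- `C_U(S_F)`. -/
def cU (S U : Subgroup G) : Subgroup G := U ⊓ Subgroup.centralizer ((fittingHallOf S : Subgroup G) : Set G)

/-- `F(S)`. -/
def kF (S U : Subgroup G) : Subgroup G := fittingHallOf S ⊔ cU S U

theorem odd_card (h : PSide S W₁ U W₂ p q) (H : Subgroup G) : Odd (Nat.card H) :=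
  h.hG.1.of_dvd_nat (Subgroup.card_subgroup_dvd_card H)

theorem three_le (h : PSide S W₁ U W₂ p q) : 3 ≤ p ∧ 3 ≤ q := by
  have h1 := odd_card h W₂; have h2 := odd_card h W₁
  rw [h.cW₂] at h1; rw [h.cW₁] at h2
  have := h.hp.two_le; have := h.hq.two_le
  obtain ⟨a, ha⟩ := h1; obtain ⟨b, hb⟩ := h2
  omega

theorem P_le (_h : PSide S W₁ U W₂ p q) : fittingHallOf S ≤ S := FittingHallBasic.fittingHallOf_le S

theorem conjP (h : PSide S W₁ U W₂ p q) {s x : G} (hs : s ∈ S) (hx : x ∈ fittingHallOf S) :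
    s * x * s⁻¹ ∈ fittingHallOf S := by
  have _ := h
  exact (Subgroup.mem_normalizer_iff.1 (FittingHallBasic.le_normalizer_fittingHallOf S hs) x).1 hx

theorem mem_cU {x : G} : x ∈ cU S U ↔ x ∈ U ∧ ∀ a ∈ fittingHallOf S, a * x = x * a := by
  rw [cU, Subgroup.mem_inf, Subgroup.mem_centralizer_iff]
  rfl

theorem conjU (h : PSide S W₁ U W₂ p q) {w x : G} (hw : w ∈ W₁) (hx : x ∈ U) : w * x * w⁻¹ ∈ U :=
  (Subgroup.mem_normalizer_iff.1 (h.data.U_normal hw) x).1 hx

theorem conjC (h : PSide S W₁ U W₂ p q) {s x : G} (hs : s ∈ W₁ ∨ s ∈ U) (hx : x ∈ cU S U) :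
    s * x * s⁻¹ ∈ cU S U := by
  obtain ⟨hxU, hxc⟩ := mem_cU.1 hx
  rcases hs with hs | hs
  · refine mem_cU.2 ⟨conjU h hs hxU, fun a ha => ?_⟩
    have hsS : s ∈ S := typeP_W₁_le h.data hs
    have := hxc _ (conjP h (S.inv_mem hsS) ha)
    rw [inv_inv] at this
    have e := congrArg (fun z => s * z * s⁻¹) this
    simpa [mul_assoc] using e
  · rwa [h.Uab s hs x hxU, mul_inv_cancel_right]

theorem mem_S (h : PSide S W₁ U W₂ p q) {s : G} (hs : s ∈ S) :
    ∃ a ∈ fittingHallOf S, ∃ u ∈ U, ∃ w ∈ W₁, s = a * u * w := by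
  obtain ⟨d, hd, w, hw, rfl⟩ := h.data.W₁_compl.2.2.2 s hs
  obtain ⟨a, ha, u, hu, rfl⟩ := h.data.U_compl.2.2.2 d hd
  exact ⟨a, ha, u, hu, w, hw, rfl⟩

theorem cent_eq_one (h : PSide S W₁ U W₂ p q) {u w : G} (hu : u ∈ U) (hw : w ∈ W₁) (hw1 : w ≠ 1)
    (hc : w * u = u * w) : u = 1 := by
  have h1 : u ∈ W₂ := by
    rw [← h.data.W₂_centralizer w hw hw1]
    exact ⟨h.data.U_compl.2.1 hu, Subgroup.mem_centralizer_singleton_iff.2 hc.symm⟩
  rw [← Subgroup.mem_bot, ← h.data.U_compl.2.2.1]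
  exact ⟨typeP_W₂_le_fittingHallOf h.data h1, hu⟩

theorem cop_PU (h : PSide S W₁ U W₂ p q) : (p ^ q).Coprime (Nat.card U) :=
  h.cardP ▸ typeP_card_U_coprime h.data

theorem card_derived (h : PSide S W₁ U W₂ p q) : Nat.card ↥⁅S, S⁆ = p ^ q * Nat.card U := by
  rw [← h.cardP, card_mul_of_isComplIn h.data.U_compl]

theorem card_S (h : PSide S W₁ U W₂ p q) : Nat.card S = p ^ q * Nat.card U * q := by
  rw [← card_derived h, ← h.cW₁, card_mul_of_isComplIn h.data.W₁_compl]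

theorem cop_q (h : PSide S W₁ U W₂ p q) : (p ^ q * Nat.card U).Coprime q := by
  rw [← card_derived h, ← h.cW₁]
  exact typeP_card_W₁_coprime h.data

theorem ne_pq (h : PSide S W₁ U W₂ p q) : p ≠ q := by
  intro e
  have h0 := Nat.Coprime.coprime_dvd_left (Dvd.intro _ rfl) (cop_q h)
  rw [Nat.coprime_pow_left_iff h.hq.pos, h.hp.coprime_iff_not_dvd] at h0
  exact h0 (e ▸ dvd_rfl)

theorem P_ne_bot (h : PSide S W₁ U W₂ p q) : fittingHallOf S ≠ ⊥ := fun e => by
  have := h.cardP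
  rw [e, Subgroup.card_bot] at this
  exact (Nat.one_lt_pow h.hq.ne_zero h.hp.one_lt).ne this

/-- `U` does not centralise `S_F`. -/
theorem not_le_cent (h : PSide S W₁ U W₂ p q) : ¬ ∀ u ∈ U, ∀ a ∈ fittingHallOf S, a * u = u * a := by
  intro hc
  have hd : ⁅⁅S, S⁆, ⁅S, S⁆⁆ = ⊥ := by
    rw [Subgroup.commutator_eq_bot_iff_le_centralizer]
    intro x hx
    obtain ⟨a, ha, u, hu, rfl⟩ := h.data.U_compl.2.2.2 x hx
    rw [Subgroup.mem_centralizer_iff]
    intro y hy
    obtain ⟨b, hb, v, hv, rfl⟩ := h.data.U_compl.2.2.2 y hy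
    have c1 : Commute a b := h.Pab a ha b hb
    have c2 : Commute a v := hc v hv a ha
    have c3 : Commute u b := (hc u hu b hb).symm
    have c4 : Commute u v := h.Uab u hu v hv
    exact (((c1.mul_right c2).mul_left (c3.mul_right c4))).symm
  refine h.data.selfNormalizing.2.1 (le_bot_iff.1 ?_)
  rw [← hd]
  exact h.data.W₂_le.trans inf_le_right

open Classical in
/-- A subgroup of `S_F` invariant under `U` and `W₁` is trivial or all of `S_F`. -/
theorem invariant_cases (h : PSide S W₁ U W₂ p q) {H : Subgroup G} (hHP : H ≤ fittingHallOf S)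
    (hHU : ∀ x ∈ U, ∀ a ∈ H, x * a * x⁻¹ ∈ H) (hHW : ∀ x ∈ W₁, ∀ a ∈ H, x * a * x⁻¹ ∈ H) :
    H = ⊥ ∨ H = fittingHallOf S := by
  set P := fittingHallOf S with hP
  have hUS : U ≤ S := typeP_U_le h.data
  have hWS : W₁ ≤ S := typeP_W₁_le h.data
  -- the fixed point formula
  have hUE : U ⊔ W₁ ≤ S := sup_le hUS hWS
  have hnorm : ∀ {H : Subgroup G}, (∀ x ∈ U, ∀ a ∈ H, x * a * x⁻¹ ∈ H) → (∀ x ∈ W₁, ∀ a ∈ H, x * a * x⁻¹ ∈ H) →
      ∀ x ∈ U ⊔ W₁, ∀ a ∈ H, x * a * x⁻¹ ∈ H := by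
    intro H h1 h2 x hx
    have hn : W₁ ≤ Subgroup.normalizer (U : Set G) := h.data.U_normal
    rw [← SetLike.mem_coe, Subgroup.coe_mul_of_right_le_normalizer_left _ _ hn] at hx
    obtain ⟨y, hy, z, hz, rfl⟩ := hx
    intro a ha
    have := h1 y hy _ (h2 z hz a ha)
    simpa [mul_assoc] using this
  have hcard : Nat.card ↥(U ⊔ W₁) ∣ Nat.card U * q := by
    rw [← h.cW₁]
    have hc : IsComplIn U W₁ (U ⊔ W₁) := ⟨le_sup_left, le_sup_right, by
      rw [← le_bot_iff, ← h.data.W₁_compl.2.2.1]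
      exact inf_le_inf_right _ h.data.U_compl.2.1, fun m hm => by
      rw [← SetLike.mem_coe, Subgroup.coe_mul_of_right_le_normalizer_left _ _ h.data.U_normal] at hm
      obtain ⟨a, ha, b, hb, rfl⟩ := hm
      exact ⟨a, ha, b, hb, rfl⟩⟩
    rw [card_mul_of_isComplIn hc]
  have hcop' : (p ^ q).Coprime (Nat.card U * q) :=
    Nat.Coprime.mul_right (cop_PU h) ((cop_q h).coprime_dvd_left (Dvd.intro _ rfl))
  have formula : ∀ {H : Subgroup G}, H ≤ P → (∀ x ∈ U ⊔ W₁, ∀ a ∈ H, x * a * x⁻¹ ∈ H) →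
      Nat.card ↥(H ⊓ Subgroup.centralizer ((U ⊔ W₁ : Subgroup G) : Set G)) ^ q * Nat.card H =
        Nat.card ↥(H ⊓ Subgroup.centralizer (W₁ : Set G)) ^ q *
          Nat.card ↥(H ⊓ Subgroup.centralizer (U : Set G)) := by
    intro H hHP hn
    have hc : (Nat.card H).Coprime (Nat.card ↥(U ⊔ W₁)) :=
      (hcop'.coprime_dvd_left (h.cardP ▸ Subgroup.card_dvd_of_le hHP)).coprime_dvd_right hcard
    have h45 := Cfsg.Agent.S1545.result U W₁ H h.Une h.data.W₁_ne (by
        rw [← le_bot_iff, ← h.data.W₁_compl.2.2.1]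
        exact inf_le_inf_right _ h.data.U_compl.2.1)
      (fun e he x hx => conjU h he hx) (fun e he he1 x hx hex => cent_eq_one h hx he he1 hex) hn
      (Subgroup.inf_eq_bot_of_coprime hc)
      (Group.isSolvable_of_comm fun a b => Subtype.ext (h.Pab a (hHP a.2) b (hHP b.2))) hc
    rwa [h.cW₁] at h45
  have hW₂P : W₂ ≤ P := typeP_W₂_le_fittingHallOf h.data
  obtain ⟨w₀, hw₀, hw₀1⟩ := W₁.bot_or_exists_ne_one.resolve_left h.data.W₁_ne
  have hPW : P ⊓ Subgroup.centralizer (W₁ : Set G) = W₂ := by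
    refine le_antisymm (fun a ha => ?_) (fun a ha => ⟨hW₂P ha, ?_⟩)
    · rw [← h.data.W₂_centralizer w₀ hw₀ hw₀1]
      exact ⟨h.data.U_compl.1 ha.1, Subgroup.mem_centralizer_singleton_iff.2
        (Subgroup.mem_centralizer_iff.1 ha.2 w₀ hw₀).symm⟩
    · exact Subgroup.mem_centralizer_iff.2 fun x hx => h.data.selfNormalizing.2.2.2.1 x hx a ha
  have hsub : ∀ {H : Subgroup G}, H ≤ W₂ → H = ⊥ ∨ H = W₂ := fun {H} hH => by
    rcases (Nat.dvd_prime h.hp).1 (h.cW₂ ▸ Subgroup.card_dvd_of_le hH) with e | e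
    · exact .inl (Subgroup.eq_bot_of_card_eq H e)
    · exact .inr (Subgroup.eq_of_le_of_card_ge hH (by rw [e, h.cW₂]))
  have hq0 : q ≠ 0 := h.hq.ne_zero
  have hPU : Nat.card ↥(P ⊓ Subgroup.centralizer (U : Set G)) = 1 := by
    have f := formula le_rfl (fun x hx a ha => conjP h (hUE hx) ha)
    rw [hPW, h.cW₂, h.cardP] at f
    rcases hsub (H := P ⊓ Subgroup.centralizer ((U ⊔ W₁ : Subgroup G) : Set G)) (hPW.le.trans' (inf_le_inf_left _
      (Subgroup.centralizer_le (SetLike.coe_subset_coe.2 (le_sup_right : W₁ ≤ U ⊔ W₁))))) with e | e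
    · rw [e, Subgroup.card_bot, one_pow, one_mul] at f
      exact Nat.eq_of_mul_eq_mul_left (pow_pos h.hp.pos q) (by rw [mul_one]; exact f.symm)
    · exfalso
      rw [e, h.cW₂] at f
      have hall : P ⊓ Subgroup.centralizer (U : Set G) = P := Subgroup.eq_of_le_of_card_ge inf_le_left
        (by rw [h.cardP]; exact (Nat.eq_of_mul_eq_mul_left (pow_pos h.hp.pos q) f).le)
      refine not_le_cent h fun x hx a ha => ?_
      exact (Subgroup.mem_centralizer_iff.1 (hall.ge ha).2 x hx).symm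
  have hHU1 : H ⊓ Subgroup.centralizer (U : Set G) = ⊥ := le_bot_iff.1
    ((inf_le_inf_right _ hHP).trans (Subgroup.eq_bot_of_card_eq _ hPU).le)
  have f := formula hHP (hnorm hHU hHW)
  rw [hHU1, Subgroup.card_bot, mul_one] at f
  have hHUE : H ⊓ Subgroup.centralizer ((U ⊔ W₁ : Subgroup G) : Set G) = ⊥ := le_bot_iff.1
    ((inf_le_inf_left _ (Subgroup.centralizer_le (SetLike.coe_subset_coe.2 (le_sup_left : U ≤ U ⊔ W₁)))).trans hHU1.le)
  rw [hHUE, Subgroup.card_bot, one_pow, one_mul] at f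
  rcases hsub (H := H ⊓ Subgroup.centralizer (W₁ : Set G)) (hPW.le.trans' (inf_le_inf_right _ hHP)) with e | e
  · rw [e, Subgroup.card_bot, one_pow] at f
    exact .inl (Subgroup.eq_bot_of_card_eq H f)
  · rw [e, h.cW₂, ← h.cardP] at f
    exact .inr (Subgroup.eq_of_le_of_card_ge hHP f.ge)

/-- An element of `U` centralising `W₂` centralises `S_F`. -/
theorem cent_W₂ (h : PSide S W₁ U W₂ p q) {u : G} (hu : u ∈ U) (hc : ∀ b ∈ W₂, u * b = b * u) :
    u ∈ cU S U := by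
  let H : Subgroup G := fittingHallOf S ⊓ Subgroup.centralizer
    ((U ⊓ Subgroup.centralizer (W₂ : Set G) : Subgroup G) : Set G)
  have hmemH : ∀ {a : G}, a ∈ H ↔ a ∈ fittingHallOf S ∧
      ∀ r ∈ U, (∀ b ∈ W₂, b * r = r * b) → r * a = a * r := fun {a} => by
    simp only [H, Subgroup.mem_inf, Subgroup.mem_centralizer_iff, SetLike.mem_coe, and_imp]
  have hHU : ∀ x ∈ U, ∀ a ∈ H, x * a * x⁻¹ ∈ H := fun x hx a ha => by
    obtain ⟨ha1, ha2⟩ := hmemH.1 ha
    refine hmemH.2 ⟨conjP h (typeP_U_le h.data hx) ha1, fun r hr hr' => ?_⟩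
    have c1 : Commute r x := h.Uab r hr x hx
    exact (c1.mul_right (ha2 r hr hr')).mul_right c1.inv_right
  have hHW : ∀ x ∈ W₁, ∀ a ∈ H, x * a * x⁻¹ ∈ H := fun x hx a ha => by
    obtain ⟨ha1, ha2⟩ := hmemH.1 ha
    refine hmemH.2 ⟨conjP h (typeP_W₁_le h.data hx) ha1, fun r hr hr' => ?_⟩
    have h0 := ha2 (x⁻¹ * r * x) (by simpa using conjU h (W₁.inv_mem hx) hr) (fun b hb => by
      have c0 : Commute x b := h.data.selfNormalizing.2.2.2.1 x hx b hb
      exact (c0.symm.inv_right.mul_right (hr' b hb)).mul_right c0.symm)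
    have e := congrArg (fun z => x * z * x⁻¹) h0
    simpa [mul_assoc] using e
  have hW₂H : W₂ ≤ H := fun b hb => hmemH.2 ⟨typeP_W₂_le_fittingHallOf h.data hb, fun r _ hr' => (hr' b hb).symm⟩
  rcases invariant_cases h (H := H) inf_le_left hHU hHW with e | e
  · exact absurd (le_bot_iff.1 (e ▸ hW₂H)) h.data.selfNormalizing.2.1
  · exact mem_cU.2 ⟨hu, fun a ha => ((hmemH.1 (e.ge ha)).2 u hu fun b hb => (hc b hb).symm).symm⟩

open Classical in
/-- An element of `U` normalising `W₂` centralises `S_F`. -/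
theorem norm_W₂ (h : PSide S W₁ U W₂ p q) {u : G} (hu : u ∈ U) (hn : ∀ b ∈ W₂, u * b * u⁻¹ ∈ W₂) :
    u ∈ cU S U := by
  refine cent_W₂ h hu ?_
  let M : Subgroup G := U ⊓ Subgroup.centralizer (W₂ : Set G)
  have hmemM : ∀ {r : G}, r ∈ M ↔ r ∈ U ∧ ∀ b ∈ W₂, b * r = r * b := fun {r} => by
    simp only [M, Subgroup.mem_inf, Subgroup.mem_centralizer_iff, SetLike.mem_coe]
  letI : CommGroup ↥U := { (inferInstance : Group ↥U) with mul_comm := fun x y => Subtype.ext (h.Uab x x.2 y y.2) }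
  haveI : Fintype ↥W₁ := Fintype.ofFinite _
  let θ : ↥W₁ →* MulAut ↥U :=
    { toFun := fun w =>
        { toFun := fun a => ⟨w * a * (w : G)⁻¹, conjU h w.2 a.2⟩
          invFun := fun a => ⟨(w : G)⁻¹ * a * w, by simpa using conjU h (W₁.inv_mem w.2) a.2⟩
          left_inv := fun a => Subtype.ext (by simp [mul_assoc])
          right_inv := fun a => Subtype.ext (by simp [mul_assoc])
          map_mul' := fun a a' => Subtype.ext (by simp [mul_assoc]) }
      map_one' := by ext a; simp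
      map_mul' := fun a b => by ext c; simp [mul_assoc] }
  have hdiff : ∀ w : ↥W₁, θ w ⟨u, hu⟩ * (⟨u, hu⟩ : ↥U)⁻¹ ∈ M.subgroupOf U := fun w => by
    refine Subgroup.mem_subgroupOf.2 (hmemM.2 ⟨SetLike.coe_mem _, fun b hb => ?_⟩)
    show b * ((w : G) * u * (w : G)⁻¹ * u⁻¹) = (w : G) * u * (w : G)⁻¹ * u⁻¹ * b
    have hb' : u⁻¹ * b * u ∈ W₂ := by
      have hcl : ∀ k : ℕ, ∀ b ∈ W₂, u ^ k * b * (u ^ k)⁻¹ ∈ W₂ := by
        intro k
        induction k with
        | zero => intro b hb; simpa using hb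
        | succ k ih =>
          intro b hb
          have := ih _ (hn b hb)
          rw [pow_succ]
          simpa [mul_assoc] using this
      have := hcl (orderOf u - 1) b hb
      have e : u ^ (orderOf u - 1) = u⁻¹ := by
        rw [eq_inv_iff_mul_eq_one, ← pow_succ, Nat.sub_add_cancel (orderOf_pos u), pow_orderOf_eq_one]
      rwa [e, inv_inv] at this
    have c1 : Commute (w : G) b := h.data.selfNormalizing.2.2.2.1 w w.2 b hb
    have c2 : Commute (w : G) (u⁻¹ * b * u) := h.data.selfNormalizing.2.2.2.1 w w.2 _ hb'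
    have e2 : (w : G)⁻¹ * (u⁻¹ * b * u) * w = u⁻¹ * b * u := by
      rw [mul_assoc, ← c2.eq, inv_mul_cancel_left]
    symm
    calc (w : G) * u * (w : G)⁻¹ * u⁻¹ * b
        = (w : G) * u * ((w : G)⁻¹ * (u⁻¹ * b * u) * w) * ((w : G)⁻¹ * u⁻¹) := by group
      _ = (w : G) * u * (u⁻¹ * b * u) * ((w : G)⁻¹ * u⁻¹) := by rw [e2]
      _ = (w : G) * b * (u * (w : G)⁻¹ * u⁻¹) := by group
      _ = b * ((w : G) * u * (w : G)⁻¹ * u⁻¹) := by rw [c1.eq]; group
  have hN : PF13Alg8.normHom θ ⟨u, hu⟩ = 1 := by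
    obtain ⟨w, hw, hw1⟩ := W₁.bot_or_exists_ne_one.resolve_left h.data.W₁_ne
    refine Subtype.ext (cent_eq_one h (SetLike.coe_mem _) hw hw1 ?_)
    exact mul_inv_eq_iff_eq_mul.1 (congrArg (Subtype.val : ↥U → G)
      (PF13Alg8.normHom_fixed θ ⟨u, hu⟩ ⟨w, hw⟩))
  have hpow : ((⟨u, hu⟩ : ↥U) ^ q)⁻¹ ∈ M.subgroupOf U := by
    have hm : ∏ w : ↥W₁, θ w ⟨u, hu⟩ * (⟨u, hu⟩ : ↥U)⁻¹ ∈ M.subgroupOf U := prod_mem fun w _ => hdiff w
    rwa [Finset.prod_mul_distrib, ← PF13Alg8.normHom_apply, hN, one_mul, Finset.prod_const, Finset.card_univ,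
      ← Nat.card_eq_fintype_card, h.cW₁, inv_pow] at hm
  obtain ⟨t, ht⟩ := exists_pow_eq_self_of_coprime (x := (⟨u, hu⟩ : ↥U)) (n := q)
    (((cop_q h).coprime_dvd_left (Dvd.intro_left _ rfl)).symm.coprime_dvd_right (orderOf_dvd_natCard _))
  have hu' : (⟨u, hu⟩ : ↥U) ∈ M.subgroupOf U := by
    rw [← ht]; exact Subgroup.pow_mem _ (by simpa using Subgroup.inv_mem _ hpow) t
  exact fun b hb => ((hmemM.1 (Subgroup.mem_subgroupOf.1 hu')).2 b hb).symm

open Classical in
/-- An element of `U` fixing a character of `S_F` which is `W₁`-invariant and nontrivial on `W₂` centralises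
`S_F`. -/
theorem mem_cU_of_fix (h : PSide S W₁ U W₂ p q) {K : Subgroup G} (hK : fittingHallOf S ≤ K) (φ : ↥K →* ℂˣ)
    (hne : ∃ b : ↥K, (b : G) ∈ W₂ ∧ φ b ≠ 1)
    (hW : ∀ w ∈ W₁, ∀ k k' : ↥K, (k : G) ∈ fittingHallOf S → (k' : G) = w * k * w⁻¹ → φ k' = φ k)
    {u : G} (hu : u ∈ U) (hfix : ∀ k k' : ↥K, (k : G) ∈ fittingHallOf S → (k' : G) = u * k * u⁻¹ → φ k' = φ k) :
    u ∈ cU S U := by
  set P := fittingHallOf S with hP
  have hUS : U ≤ S := typeP_U_le h.data
  have hWS : W₁ ≤ S := typeP_W₁_le h.data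
  let R : Subgroup G :=
    { carrier := {r | r ∈ U ∧ ∀ k k' : ↥K, (k : G) ∈ P → (k' : G) = r * k * r⁻¹ → φ k' = φ k}
      one_mem' := ⟨U.one_mem, fun k k' _ e => by rw [show k' = k from Subtype.ext (by simpa using e)]⟩
      mul_mem' := fun {r t} hr ht => ⟨U.mul_mem hr.1 ht.1, fun k k' hk e => by
        have hm : t * k * t⁻¹ ∈ P := conjP h (hUS ht.1) hk
        rw [hr.2 ⟨_, hK hm⟩ k' hm (by rw [e]; group), ht.2 k ⟨_, hK hm⟩ hk rfl]⟩
      inv_mem' := fun {r} hr => ⟨U.inv_mem hr.1, fun k k' hk e => by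
        have hm : (k' : G) ∈ P := e ▸ conjP h (S.inv_mem (hUS hr.1)) hk
        exact (hr.2 k' k hm (by rw [e]; group)).symm⟩ }
  have huR : u ∈ R := ⟨hu, hfix⟩
  have hRW : ∀ w ∈ W₁, ∀ r ∈ R, w * r * w⁻¹ ∈ R := fun w hw r hr => ⟨conjU h hw hr.1, fun k k' hk e => by
    have h1 : w⁻¹ * k * w ∈ P := by
      have := conjP h (S.inv_mem (hWS hw)) hk
      rwa [inv_inv] at this
    have h2 : r * (w⁻¹ * k * w) * r⁻¹ ∈ P := conjP h (hUS hr.1) h1
    rw [hW w hw ⟨_, hK h2⟩ k' h2 (by rw [e]; group), hr.2 ⟨_, hK h1⟩ ⟨_, hK h2⟩ h1 rfl,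
      ← hW w hw ⟨_, hK h1⟩ k h1 (by group)]⟩
  let H : Subgroup G := P ⊓ Subgroup.centralizer (R : Set G)
  have hmemH : ∀ {a : G}, a ∈ H ↔ a ∈ P ∧ ∀ r ∈ R, r * a = a * r := fun {a} => by
    simp only [H, Subgroup.mem_inf, Subgroup.mem_centralizer_iff, SetLike.mem_coe]
  have hHU : ∀ x ∈ U, ∀ a ∈ H, x * a * x⁻¹ ∈ H := fun x hx a ha => by
    obtain ⟨ha1, ha2⟩ := hmemH.1 ha
    refine hmemH.2 ⟨conjP h (hUS hx) ha1, fun r hr => ?_⟩
    have c1 : Commute r x := h.Uab r hr.1 x hx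
    exact ((c1.mul_right (ha2 r hr)).mul_right c1.inv_right)
  have hHW : ∀ x ∈ W₁, ∀ a ∈ H, x * a * x⁻¹ ∈ H := fun x hx a ha => by
    obtain ⟨ha1, ha2⟩ := hmemH.1 ha
    refine hmemH.2 ⟨conjP h (hWS hx) ha1, fun r hr => ?_⟩
    have hr' := ha2 _ (hRW x⁻¹ (W₁.inv_mem hx) r hr)
    rw [inv_inv] at hr'
    have e := congrArg (fun z => x * z * x⁻¹) hr'
    simpa [mul_assoc] using e
  rcases invariant_cases h (H := H) inf_le_left hHU hHW with hH1 | hHP
  · exfalso
    obtain ⟨b, hb, hb1⟩ := hne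
    letI : CommGroup ↥P := { (inferInstance : Group ↥P) with mul_comm := fun x y => Subtype.ext (h.Pab x x.2 y y.2) }
    haveI : Fintype ↥R := Fintype.ofFinite _
    let ρ : ↥R →* MulAut ↥P :=
      { toFun := fun r =>
          { toFun := fun a => ⟨r * a * (r : G)⁻¹, conjP h (hUS r.2.1) a.2⟩
            invFun := fun a => ⟨(r : G)⁻¹ * a * r, by simpa using conjP h (S.inv_mem (hUS r.2.1)) a.2⟩
            left_inv := fun a => Subtype.ext (by simp [mul_assoc])
            right_inv := fun a => Subtype.ext (by simp [mul_assoc])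
            map_mul' := fun a a' => Subtype.ext (by simp [mul_assoc]) }
        map_one' := by ext a; simp
        map_mul' := fun r t => by ext a; simp [mul_assoc] }
    refine hb1 (PF13Alg8.hom_eq_one ρ ?_ (fun a ha => ?_) (φ.comp (Subgroup.inclusion hK)) (fun r a => ?_)
      ⟨b, typeP_W₂_le_fittingHallOf h.data hb⟩)
    · rw [h.cardP]
      exact ((cop_PU h).coprime_dvd_right (Subgroup.card_dvd_of_le (show R ≤ U from fun r hr => hr.1))).symm
    · have ha' : (a : G) ∈ H := hmemH.2 ⟨a.2, fun r hr =>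
        mul_inv_eq_iff_eq_mul.1 (congrArg (Subtype.val : ↥P → G) (ha ⟨r, hr⟩))⟩
      rw [hH1] at ha'
      exact Subtype.ext ha'
    · exact r.2.2 (Subgroup.inclusion hK a) _ a.2 rfl
  · exact mem_cU.2 ⟨hu, fun a ha => ((hmemH.1 (hHP.ge ha)).2 u huR).symm⟩

theorem le_kF : fittingHallOf S ≤ kF S U := le_sup_left

theorem C_le_kF : cU S U ≤ kF S U := le_sup_right

theorem cU_le : cU S U ≤ U := inf_le_left

theorem cU_cent {x a : G} (hx : x ∈ cU S U) (ha : a ∈ fittingHallOf S) : Commute a x := (mem_cU.1 hx).2 a ha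

theorem kF_compl (h : PSide S W₁ U W₂ p q) : IsComplIn (fittingHallOf S) (cU S U) (kF S U) := by
  refine ⟨le_sup_left, le_sup_right, le_bot_iff.1 ?_, fun m hm => ?_⟩
  · rw [← h.data.U_compl.2.2.1]
    exact inf_le_inf_left _ cU_le
  · have hn : cU S U ≤ Subgroup.normalizer (fittingHallOf S : Set G) :=
      cU_le.trans ((typeP_U_le h.data).trans (FittingHallBasic.le_normalizer_fittingHallOf S))
    rw [← SetLike.mem_coe, kF, Subgroup.coe_mul_of_right_le_normalizer_left _ _ hn] at hm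
    obtain ⟨a, ha, b, hb, rfl⟩ := hm
    exact ⟨a, ha, b, hb, rfl⟩

theorem mem_kF (h : PSide S W₁ U W₂ p q) {x : G} (hx : x ∈ kF S U) :
    ∃ a ∈ fittingHallOf S, ∃ c ∈ cU S U, x = a * c := (kF_compl h).2.2.2 x hx

theorem kF_comm (h : PSide S W₁ U W₂ p q) : ∀ x ∈ kF S U, ∀ y ∈ kF S U, x * y = y * x := by
  intro x hx y hy
  obtain ⟨a, ha, c, hc, rfl⟩ := mem_kF h hx
  obtain ⟨b, hb, d, hd, rfl⟩ := mem_kF h hy
  have c1 : Commute a b := h.Pab a ha b hb
  have c4 : Commute c d := h.Uab c (cU_le hc) d (cU_le hd)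
  exact (c1.mul_right (cU_cent hd ha)).mul_left ((cU_cent hc hb).symm.mul_right c4)

theorem kF_le_derived (h : PSide S W₁ U W₂ p q) : kF S U ≤ ⁅S, S⁆ :=
  sup_le h.data.U_compl.1 (cU_le.trans h.data.U_compl.2.1)

theorem kF_le (h : PSide S W₁ U W₂ p q) : kF S U ≤ S :=
  (kF_le_derived h).trans (Subgroup.commutator_le_self S)

theorem kF_eq (h : PSide S W₁ U W₂ p q) : kF S U = fittingOf S := by
  refine le_antisymm ?_ fun x hx => ?_
  · rw [← h.data.fitting_eq]
    refine sup_le le_sup_left (le_trans ?_ le_sup_right)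
    exact le_inf (cU_le.trans (typeP_U_le h.data)) inf_le_right
  · rw [← h.data.fitting_eq] at hx
    have hle : S ⊓ Subgroup.centralizer ((fittingHallOf S : Subgroup G) : Set G) ≤ kF S U := by
      intro y hy
      have hy' : y ∈ fittingOf S := by rw [← h.data.fitting_eq]; exact Subgroup.mem_sup_right hy
      obtain ⟨a, ha, u, hu, rfl⟩ := h.data.U_compl.2.2.2 y (h.data.fitting_le hy')
      refine Subgroup.mul_mem_sup ha (mem_cU.2 ⟨hu, fun b hb => ?_⟩)
      have c1 : Commute b a := h.Pab b hb a ha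
      have c2 : Commute b (a * u) := Subgroup.mem_centralizer_iff.1 hy.2 b hb
      have := c1.inv_right.mul_right c2
      have c3 : Commute b u := by simpa using this
      exact c3
    exact sup_le le_sup_left hle hx

theorem conjK (h : PSide S W₁ U W₂ p q) : ∀ s ∈ S, ∀ k ∈ kF S U, s * k * s⁻¹ ∈ kF S U := by
  intro s hs k hk
  rw [kF_eq h] at hk ⊢
  obtain ⟨x, hx, rfl⟩ := hk
  exact ⟨⟨s, hs⟩ * x * ⟨s, hs⟩⁻¹, (inferInstance : (fittingSubgroup ↥S).Normal).conj_mem x hx _, rfl⟩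

theorem normalizer_kF (h : PSide S W₁ U W₂ p q) : Subgroup.normalizer (kF S U : Set G) = S := by
  have hle : S ≤ Subgroup.normalizer (kF S U : Set G) := fun s hs => Subgroup.mem_normalizer_iff.2 fun k =>
    ⟨conjK h s hs k, fun hk => by simpa [mul_assoc] using conjK h s⁻¹ (S.inv_mem hs) _ hk⟩
  rcases h.max.le_iff.1 hle with e | e
  · exfalso
    haveI : IsSimpleGroup G := h.hG.2.1
    have hn : (kF S U).Normal := Subgroup.normalizer_eq_top_iff.1 e
    rcases hn.eq_bot_or_eq_top with e' | e'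
    · exact P_ne_bot h (le_bot_iff.1 (e' ▸ le_kF))
    · exact h.max.1 (top_le_iff.1 (e' ▸ kF_le h))
  · exact e

theorem card_kF (h : PSide S W₁ U W₂ p q) : Nat.card (kF S U) = p ^ q * Nat.card (cU S U) := by
  rw [← h.cardP, card_mul_of_isComplIn (kF_compl h)]

theorem cop_kF (h : PSide S W₁ U W₂ p q) : q.Coprime (Nat.card (kF S U)) :=
  ((cop_q h).coprime_dvd_left (card_derived h ▸ Subgroup.card_dvd_of_le (kF_le_derived h))).symm

theorem side (h : PSide S W₁ U W₂ p q) : Side S (kF S U) W₁ W₂ q where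
  ab := kF_comm h
  le := kF_le h
  conjK := conjK h
  ti g k hk hk1 hgk := by
    by_contra hg
    have ht := h.tiF
    rw [← kF_eq h] at ht
    exact hk1 (ht g (by rw [normalizer_kF h]; exact hg) k hk hgk)
  hq := h.hq
  cardA := h.cW₁
  leA := typeP_W₁_le h.data
  cop := cop_kF h
  leB := (typeP_W₂_le_fittingHallOf h.data).trans le_kF
  commAB := h.data.selfNormalizing.2.2.2.1
  fix k hk hc := by
    obtain ⟨w, hw, hw1⟩ := W₁.bot_or_exists_ne_one.resolve_left h.data.W₁_ne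
    rw [← h.data.W₂_centralizer w hw hw1]
    exact ⟨kF_le_derived h hk, Subgroup.mem_centralizer_singleton_iff.2 (hc w hw).symm⟩
  stab φ hne hA s hs hfix := by
    obtain ⟨a, ha, u, hu, w, hw, rfl⟩ := mem_S h hs
    have hu' : u ∈ cU S U := by
      refine mem_cU_of_fix h le_kF φ hne (fun w hw k k' _ e => hA w hw k k' e) hu (fun k k' hk e => ?_)
      have hm : w⁻¹ * k * w ∈ kF S U := by
        have := conjK h w⁻¹ (S.inv_mem (typeP_W₁_le h.data hw)) k k.2
        rwa [inv_inv] at this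
      rw [hfix ⟨_, hm⟩ k' ?_, ← hA w hw ⟨_, hm⟩ k (by group)]
      have hm2 : u * (k : G) * u⁻¹ ∈ fittingHallOf S := conjP h (typeP_U_le h.data hu) hk
      rw [e, show a * u * w * (w⁻¹ * (k : G) * w) * (a * u * w)⁻¹ = a * (u * k * u⁻¹) * a⁻¹ by group,
        h.Pab a ha _ hm2, mul_inv_cancel_right]
    exact Subgroup.mul_mem_sup (Subgroup.mul_mem _ (le_kF ha) (C_le_kF hu')) hw

theorem kFW_compl (h : PSide S W₁ U W₂ p q) : IsComplIn (kF S U) W₁ (kF S U ⊔ W₁) := by
  refine ⟨le_sup_left, le_sup_right, le_bot_iff.1 ?_, fun m hm => ?_⟩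
  · rw [← h.data.W₁_compl.2.2.1]
    exact inf_le_inf_right _ (kF_le_derived h)
  · have hn : W₁ ≤ Subgroup.normalizer (kF S U : Set G) := by
      rw [normalizer_kF h]; exact typeP_W₁_le h.data
    rw [← SetLike.mem_coe, Subgroup.coe_mul_of_right_le_normalizer_left _ _ hn] at hm
    obtain ⟨a, ha, b, hb, rfl⟩ := hm
    exact ⟨a, ha, b, hb, rfl⟩

/-- `|S|` through the index `u` of `C_U(S_F)` in `U`. -/
theorem card_S_eq (h : PSide S W₁ U W₂ p q) :
    Nat.card S = Nat.card (kF S U) * q * (kF S U ⊔ W₁).relIndex S := by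
  rw [← h.cW₁, card_mul_of_isComplIn (kFW_compl h), ← Subgroup.relIndex_bot_left, ← Subgroup.relIndex_bot_left,
    Subgroup.relIndex_mul_relIndex ⊥ _ _ bot_le (sup_le (kF_le h) (typeP_W₁_le h.data))]

theorem card_U (h : PSide S W₁ U W₂ p q) :
    Nat.card U = Nat.card (cU S U) * (kF S U ⊔ W₁).relIndex S := by
  have e := card_S_eq h
  rw [card_S h, card_kF h] at e
  refine Nat.eq_of_mul_eq_mul_left (Nat.mul_pos (pow_pos h.hp.pos q) h.hq.pos) ?_
  linarith

theorem relIndex_kF (h : PSide S W₁ U W₂ p q) :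
    (kF S U).relIndex S = q * (kF S U ⊔ W₁).relIndex S := by
  rw [← Subgroup.relIndex_mul_relIndex (kF S U) _ S le_sup_left (sup_le (kF_le h) (typeP_W₁_le h.data)),
    (relIndex_of_isComplIn (kFW_compl h)).1, h.cW₁]

/-- A `W₁`-invariant subgroup of `U` has order `1` modulo `q`. -/
theorem card_mod (h : PSide S W₁ U W₂ p q) {H : Subgroup G} (hH : H ≤ U)
    (hinv : ∀ w ∈ W₁, ∀ x ∈ H, w * x * w⁻¹ ∈ H) : Nat.card H ≡ 1 [MOD q] := by
  classical
  haveI := Fact.mk h.hq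
  letI : MulAction ↥W₁ ↥H :=
    { smul := fun w x => ⟨w * x * (w : G)⁻¹, hinv w w.2 x x.2⟩
      one_smul := fun x => Subtype.ext (by show (1 : G) * x * (1 : G)⁻¹ = x; simp)
      mul_smul := fun a b x => Subtype.ext (by
        show ((a : G) * b) * x * ((a : G) * b)⁻¹ = (a : G) * ((b : G) * x * (b : G)⁻¹) * (a : G)⁻¹
        group) }
  have hpg : IsPGroup q ↥W₁ := IsPGroup.of_card (n := 1) (by rw [pow_one, h.cW₁])
  refine (hpg.card_modEq_card_fixedPoints ↥H).trans ?_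
  have hfix : MulAction.fixedPoints ↥W₁ ↥H = {1} := by
    ext x
    simp only [MulAction.mem_fixedPoints, Set.mem_singleton_iff]
    constructor
    · intro hx
      obtain ⟨w, hw, hw1⟩ := W₁.bot_or_exists_ne_one.resolve_left h.data.W₁_ne
      refine Subtype.ext (cent_eq_one h (hH x.2) hw hw1 ?_)
      exact mul_inv_eq_iff_eq_mul.1 (congrArg Subtype.val (hx ⟨w, hw⟩))
    · rintro rfl w
      exact Subtype.ext (by show (w : G) * ((1 : ↥H) : G) * (w : G)⁻¹ = _; simp)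
  rw [hfix]
  simp [Nat.ModEq]

theorem two_mul_le (h : PSide S W₁ U W₂ p q) : 2 * q + 1 ≤ (kF S U ⊔ W₁).relIndex S ∧
    (kF S U ⊔ W₁).relIndex S % (2 * q) = 1 := by
  have hU := card_U h
  set u := (kF S U ⊔ W₁).relIndex S with hu
  have h1 := card_mod h le_rfl (fun w hw x hx => conjU h hw hx)
  have h2 := card_mod h cU_le (fun w hw x hx => conjC h (.inl hw) hx)
  have hm : u ≡ 1 [MOD q] := by
    have := (h2.mul_right u).symm
    rw [one_mul, ← hU] at this
    exact this.trans h1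
  have hodd : Odd u := (odd_card h U).of_dvd_nat ⟨_, hU.trans (mul_comm _ _)⟩
  have hq2 : Nat.Coprime 2 q := (Nat.coprime_primes Nat.prime_two h.hq).2 (by have := (three_le h).2; omega)
  have h3 : u % (2 * q) = 1 := by
    have := (Nat.modEq_and_modEq_iff_modEq_mul hq2).1
      ⟨(show u ≡ 1 [MOD 2] from Nat.odd_iff.1 hodd), hm⟩
    rw [this, Nat.mod_eq_of_lt (by have := (three_le h).2; omega)]
  refine ⟨?_, h3⟩
  have hne : u ≠ 1 := fun e => by
    rw [e, mul_one] at hU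
    have hall : cU S U = U := Subgroup.eq_of_le_of_card_ge cU_le hU.le
    exact not_le_cent h fun x hx a ha => cU_cent (hall.ge hx) ha
  have := Nat.div_add_mod u (2 * q)
  rcases Nat.eq_zero_or_pos (u / (2 * q)) with e | e
  · rw [e, h3] at this; omega
  · have : 2 * q * 1 ≤ 2 * q * (u / (2 * q)) := Nat.mul_le_mul_left _ e
    omega

theorem two_mul_le_cU (h : PSide S W₁ U W₂ p q) (hne : cU S U ≠ ⊥) :
    2 * q + 1 ≤ Nat.card (cU S U) ∧ Nat.card (cU S U) % (2 * q) = 1 := by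
  have h2 := card_mod h cU_le (fun w hw x hx => conjC h (.inl hw) hx)
  have hq2 : Nat.Coprime 2 q := (Nat.coprime_primes Nat.prime_two h.hq).2 (by have := (three_le h).2; omega)
  have hodd : Odd (Nat.card (cU S U)) := odd_card h _
  have h3 : Nat.card (cU S U) % (2 * q) = 1 := by
    have := (Nat.modEq_and_modEq_iff_modEq_mul hq2).1
      ⟨(show Nat.card (cU S U) ≡ 1 [MOD 2] from Nat.odd_iff.1 hodd), h2⟩
    rw [this, Nat.mod_eq_of_lt (by have := (three_le h).2; omega)]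
  refine ⟨?_, h3⟩
  have h1 := (Subgroup.one_lt_card_iff_ne_bot _).2 hne
  have := Nat.div_add_mod (Nat.card (cU S U)) (2 * q)
  rcases Nat.eq_zero_or_pos (Nat.card (cU S U) / (2 * q)) with e | e
  · rw [e, h3] at this; omega
  · have : 2 * q * 1 ≤ 2 * q * (Nat.card (cU S U) / (2 * q)) := Nat.mul_le_mul_left _ e
    omega

open Classical in
/-- The bound on `u`. -/
theorem u_bound (h : PSide S W₁ U W₂ p q) : (kF S U ⊔ W₁).relIndex S * (p - 1) ≤ p ^ q - 1 := by
  haveI := Fact.mk h.hp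
  set P := fittingHallOf S with hP
  letI : CommGroup ↥P := { (inferInstance : Group ↥P) with mul_comm := fun x y => Subtype.ext (h.Pab x x.2 y y.2) }
  letI : CommGroup ↥U := { (inferInstance : Group ↥U) with mul_comm := fun x y => Subtype.ext (h.Uab x x.2 y y.2) }
  haveI : Fintype ↥W₁ := Fintype.ofFinite _
  have hexp : ∀ x : ↥P, x ^ p = 1 := fun x => Subtype.ext (by rw [Subgroup.coe_pow]; exact h.Pexp x x.2)
  have hmod : ∀ (x : ↥P) {a b : ℕ}, (a : ZMod p) = (b : ZMod p) → x ^ a = x ^ b := fun x a b e =>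
    pow_eq_pow_iff_modEq.2 (((ZMod.natCast_eq_natCast_iff _ _ _).1 e).of_dvd (orderOf_dvd_of_pow_eq_one (hexp x)))
  let scal : (ZMod p)ˣ →* MulAut ↥P :=
    { toFun := fun l =>
        { toFun := fun x => x ^ (l : ZMod p).val
          invFun := fun x => x ^ ((l⁻¹ : (ZMod p)ˣ) : ZMod p).val
          left_inv := fun x => by
            show (x ^ _) ^ _ = x
            conv_rhs => rw [← pow_one x]
            rw [← pow_mul]; exact hmod x (by rw [Nat.cast_mul, ZMod.natCast_zmod_val, ZMod.natCast_zmod_val,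
              ← Units.val_mul, mul_inv_cancel, Units.val_one, Nat.cast_one])
          right_inv := fun x => by
            show (x ^ _) ^ _ = x
            conv_rhs => rw [← pow_one x]
            rw [← pow_mul]; exact hmod x (by rw [Nat.cast_mul, ZMod.natCast_zmod_val, ZMod.natCast_zmod_val,
              ← Units.val_mul, inv_mul_cancel, Units.val_one, Nat.cast_one])
          map_mul' := fun x y => mul_pow x y _ }
      map_one' := by
        refine MulEquiv.ext fun x => ?_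
        show x ^ _ = x
        conv_rhs => rw [← pow_one x]
        exact hmod x (by simp)
      map_mul' := fun a b => by
        refine MulEquiv.ext fun x => ?_
        show x ^ _ = (x ^ _) ^ _
        rw [← pow_mul]; exact hmod x (by push_cast; simp [mul_comm]) }
  let cnj : ↥U →* MulAut ↥P :=
    { toFun := fun r =>
        { toFun := fun a => ⟨r * a * (r : G)⁻¹, conjP h (typeP_U_le h.data r.2) a.2⟩
          invFun := fun a => ⟨(r : G)⁻¹ * a * r, by simpa using conjP h (S.inv_mem (typeP_U_le h.data r.2)) a.2⟩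
          left_inv := fun a => Subtype.ext (by simp [mul_assoc])
          right_inv := fun a => Subtype.ext (by simp [mul_assoc])
          map_mul' := fun a a' => Subtype.ext (by simp [mul_assoc]) }
      map_one' := by ext a; simp
      map_mul' := fun r t => by ext a; simp [mul_assoc] }
  let ρ : ↥U × (ZMod p)ˣ →* MulAut ↥P :=
    MonoidHom.noncommCoprod cnj scal fun r l => MulEquiv.ext fun x => by
      show cnj r (scal l x) = scal l (cnj r x)
      exact map_pow (cnj r) x _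
  have hρ : ∀ (r : ↥U) (l : (ZMod p)ˣ) (x : ↥P), ρ (r, l) x = cnj r x ^ (l : ZMod p).val := fun r l x => by
    show cnj r (scal l x) = _
    exact map_pow (cnj r) x _
  have hU : ∀ {x : G}, x ∈ U → ∀ w : ↥W₁, (w : G) * x * (w : G)⁻¹ ∈ U := fun hx w => conjU h w.2 hx
  -- the kernel
  have hker : ∀ r l, ρ (r, l) = 1 → l = 1 ∧ (r : G) ∈ cU S U := by
    intro r l hrl
    have hconj : ∀ w : ↥W₁, ρ (⟨(w : G) * r * (w : G)⁻¹, hU r.2 w⟩, l) = 1 := by
      intro w
      refine MulEquiv.ext fun x => ?_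
      have hx : (w : G)⁻¹ * x * w ∈ P := by
        simpa using conjP h (S.inv_mem (typeP_W₁_le h.data w.2)) x.2
      have h0 := congrArg (Subtype.val : ↥P → G) (MulEquiv.congr_fun hrl ⟨_, hx⟩)
      rw [hρ] at h0 ⊢
      refine Subtype.ext ?_
      simp only [MulAut.one_apply, Subgroup.coe_pow] at h0 ⊢
      change ((r : G) * ((w : G)⁻¹ * x * w) * (r : G)⁻¹) ^ (l : ZMod p).val = (w : G)⁻¹ * x * w at h0
      show ((w : G) * r * (w : G)⁻¹ * x * ((w : G) * r * (w : G)⁻¹)⁻¹) ^ (l : ZMod p).val = (x : G)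
      rw [show (w : G) * r * (w : G)⁻¹ * x * ((w : G) * r * (w : G)⁻¹)⁻¹ =
        (w : G) * ((r : G) * ((w : G)⁻¹ * x * w) * (r : G)⁻¹) * (w : G)⁻¹ by group, conj_pow, h0]
      group
    set N : ↥U := ∏ w : ↥W₁, ⟨(w : G) * r * (w : G)⁻¹, hU r.2 w⟩ with hN
    have hN1 : N = 1 := by
      let θ : ↥W₁ →* MulAut ↥U :=
        { toFun := fun w =>
            { toFun := fun a => ⟨w * a * (w : G)⁻¹, hU a.2 w⟩
              invFun := fun a => ⟨(w : G)⁻¹ * a * w, by simpa using hU a.2 w⁻¹⟩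
              left_inv := fun a => Subtype.ext (by simp [mul_assoc])
              right_inv := fun a => Subtype.ext (by simp [mul_assoc])
              map_mul' := fun a a' => Subtype.ext (by simp [mul_assoc]) }
          map_one' := by ext a; simp
          map_mul' := fun a b => by ext c; simp [mul_assoc] }
      have e : N = PF13Alg8.normHom θ r := rfl
      obtain ⟨w, hw, hw1⟩ := W₁.bot_or_exists_ne_one.resolve_left h.data.W₁_ne
      refine Subtype.ext (cent_eq_one h N.2 hw hw1 ?_)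
      have := congrArg (Subtype.val : ↥U → G) (PF13Alg8.normHom_fixed θ r ⟨w, hw⟩)
      rw [e]
      exact mul_inv_eq_iff_eq_mul.1 this
    obtain ⟨x, hx, hx1⟩ := P.bot_or_exists_ne_one.resolve_left (P_ne_bot h)
    have hord : orderOf (⟨x, hx⟩ : ↥P) = p := ((Nat.dvd_prime h.hp).1 (orderOf_dvd_of_pow_eq_one (hexp _))).resolve_left
      (by rw [orderOf_eq_one_iff]; exact fun e => hx1 (congrArg Subtype.val e))
    have hscal : ∀ l' : (ZMod p)ˣ, ρ (1, l') = 1 → l' = 1 := fun l' e => by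
      have h1 := MulEquiv.congr_fun e ⟨x, hx⟩
      rw [hρ, map_one, MulAut.one_apply] at h1
      conv_rhs at h1 => rw [← pow_one (⟨x, hx⟩ : ↥P)]
      have := pow_eq_pow_iff_modEq.1 h1
      rw [hord, ← ZMod.natCast_eq_natCast_iff, ZMod.natCast_zmod_val, Nat.cast_one] at this
      exact Units.ext this
    have hlq : l ^ q = 1 := hscal _ (by
      rw [show ((1 : ↥U), l ^ q) = ∏ w : ↥W₁, ((⟨(w : G) * r * (w : G)⁻¹, hU r.2 w⟩ : ↥U), l) from
        Prod.ext (by rw [Prod.fst_prod, ← hN, hN1]) (by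
          rw [Prod.snd_prod, Finset.prod_const, Finset.card_univ, ← Nat.card_eq_fintype_card, h.cW₁]),
        ← MonoidHom.mem_ker]
      exact prod_mem fun w _ => MonoidHom.mem_ker.2 (hconj w))
    have hlu : l ^ Nat.card U = 1 := hscal _ (by
      rw [show ((1 : ↥U), l ^ Nat.card U) = (r, l) ^ Nat.card U from
        Prod.ext pow_card_eq_one'.symm rfl, map_pow, hrl, one_pow])
    have hl : l = 1 := orderOf_eq_one_iff.1 (Nat.eq_one_of_dvd_coprimes
      ((cop_q h).coprime_dvd_left (Dvd.intro_left _ rfl)) (orderOf_dvd_of_pow_eq_one hlu)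
      (orderOf_dvd_of_pow_eq_one hlq))
    refine ⟨hl, mem_cU.2 ⟨r.2, fun a ha => ?_⟩⟩
    have h1 := MulEquiv.congr_fun hrl ⟨a, ha⟩
    rw [hρ, hl, MulAut.one_apply, Units.val_one, ZMod.val_one, pow_one] at h1
    exact (mul_inv_eq_iff_eq_mul.1 (congrArg (Subtype.val : ↥P → G) h1)).symm
  have hkercard : Nat.card ρ.ker ≤ Nat.card (cU S U) := by
    refine Nat.card_le_card_of_injective
      (fun z => (⟨(z.1.1 : G), (hker _ _ z.2).2⟩ : ↥(cU S U))) fun z z' e => ?_
    refine Subtype.ext (Prod.ext (Subtype.ext (congrArg (Subtype.val : ↥(cU S U) → G) e)) ?_)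
    rw [(hker _ _ z.2).1, (hker _ _ z'.2).1]
  have hrange : Nat.card U * (p - 1) = Nat.card ρ.range * Nat.card ρ.ker := by
    rw [← Nat.totient_prime h.hp, ← ZMod.card_units_eq_totient, ← Nat.card_eq_fintype_card, ← Nat.card_prod,
      ← Subgroup.index_ker, mul_comm, ρ.ker.card_mul_index]
  letI : CommGroup ↥ρ.range := { (inferInstance : Group ↥ρ.range) with
    mul_comm := fun a b => Subtype.ext (by
      obtain ⟨_, x, rfl⟩ := a
      obtain ⟨_, y, rfl⟩ := b
      show ρ x * ρ y = ρ y * ρ x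
      rw [← map_mul, ← map_mul, mul_comm]) }
  have hpq : (Nat.card U * (p - 1)).Coprime (p ^ q) := by
    refine Nat.Coprime.mul_left (cop_PU h).symm (Nat.Coprime.pow_right _ (Nat.Coprime.symm
      (h.hp.coprime_iff_not_dvd.2 fun hd => ?_)))
    have := Nat.le_of_dvd (by have := h.hp.two_le; omega) hd
    have := h.hp.two_le; omega
  have hlt := PF13Alg8.card_lt_of_faithful (P := ↥P) ρ.range.subtype
    (by rw [h.cardP]; exact hpq.coprime_dvd_left ⟨_, hrange⟩) ρ.range.subtype_injective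
    (by rw [h.cardP]; exact Nat.one_lt_pow h.hq.ne_zero h.hp.one_lt)
  rw [h.cardP] at hlt
  have hle : Nat.card (cU S U) * ((kF S U ⊔ W₁).relIndex S * (p - 1)) ≤
      Nat.card (cU S U) * Nat.card ρ.range := by
    rw [← mul_assoc, ← card_U h, hrange, mul_comm (Nat.card (cU S U))]
    exact Nat.mul_le_mul_left _ hkercard
  have := Nat.le_of_mul_le_mul_left hle Nat.card_pos
  omega

/-- The exceptional numerical case does not occur in type II. -/
theorem no_seven (h : PSide S W₁ U W₂ p q) (hII : Cfsg.IsOfTypeII S)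
    (hc : Nat.card (cU S U) = 7) (hu : (kF S U ⊔ W₁).relIndex S = 31) : False := by
  obtain ⟨-, -, -, -, -, -, -, -, -, hF, hH⟩ := hII
  obtain ⟨-, -, -, -, V, -, hV, -, U₀, -, hexp, hfpf⟩ := hF
  haveI := Fact.mk (show Nat.Prime 7 by norm_num)
  have hUcard : Nat.card U = 217 := by rw [card_U h, hc, hu]
  have hHcard : Nat.card (fittingHall ↥⁅S, S⁆) = p ^ q := by
    rw [← FittingHallBasic.card_fittingHallOf, hH, h.cardP]
  have hVcard : Nat.card V = 217 := by
    have := hV.card_mul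
    rw [hHcard, card_derived h, hUcard] at this
    exact Nat.eq_of_mul_eq_mul_left (pow_pos h.hp.pos q) this
  obtain ⟨v, hv⟩ := exists_prime_orderOf_dvd_card' (G := V) 7 (by rw [hVcard]; norm_num)
  have h7 : 7 ∣ Nat.card U₀ := ((hv ▸ Monoid.order_dvd_exponent v : (7 : ℕ) ∣ Monoid.exponent V).trans
    (hexp ▸ dvd_rfl)).trans (Group.exponent_dvd_nat_card (G := U₀))
  obtain ⟨y, hy⟩ := exists_prime_orderOf_dvd_card' (G := U₀) 7 h7
  set z : ↥⁅S, S⁆ := (y : ↥⁅S, S⁆) with hz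
  have hz7 : orderOf z = 7 := by rw [hz, Subgroup.orderOf_coe, hy]
  haveI : ((kF S U).subgroupOf ⁅S, S⁆).Normal :=
    ⟨fun k hk s => conjK h s (Subgroup.commutator_le_self S s.2) k hk⟩
  have hidx : ((kF S U).subgroupOf ⁅S, S⁆).index = 31 := by
    have e := ((kF S U).subgroupOf ⁅S, S⁆).card_mul_index
    rw [Nat.card_congr (Subgroup.subgroupOfEquivOfLe (kF_le_derived h)).toEquiv, card_kF h, hc, card_derived h,
      hUcard, mul_assoc] at e
    have := Nat.eq_of_mul_eq_mul_left (pow_pos h.hp.pos q) e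
    omega
  have hzK : (z : G) ∈ kF S U := by
    have := Subgroup.pow_mem _ (Subgroup.pow_index_mem ((kF S U).subgroupOf ⁅S, S⁆) z) 5
    rw [hidx, ← pow_mul] at this
    rwa [show z ^ (31 * 5) = z by
      conv_rhs => rw [← pow_one z]
      exact pow_eq_pow_iff_modEq.2 (by rw [hz7]; decide)] at this
  have hHne : fittingHall ↥⁅S, S⁆ ≠ ⊥ := fun e => by
    rw [e, Subgroup.card_bot] at hHcard
    exact (Nat.one_lt_pow h.hq.ne_zero h.hp.one_lt).ne hHcard
  obtain ⟨x, hx, hx1⟩ := (fittingHall ↥⁅S, S⁆).bot_or_exists_ne_one.resolve_left hHne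
  refine hx1 (hfpf z y.2 (fun e => by rw [e, orderOf_one] at hz7; omega) x hx (Subtype.ext ?_))
  refine kF_comm h _ hzK _ (le_kF ?_)
  rw [← hH]
  exact ⟨x, hx, rfl⟩

open Classical in
/-- Two regular characters of `F(S)`, not conjugate in `S`. -/
theorem exists_regular (h : PSide S W₁ U W₂ p q) (hne : cU S U ≠ ⊥) :
    ∃ ψ ψ' : ↥(kF S U) →* ℂˣ, (∀ s : ↥S, act (side h) s ψ = ψ → (s : G) ∈ kF S U) ∧
      (∀ s : ↥S, act (side h) s ψ' = ψ' → (s : G) ∈ kF S U) ∧ ∀ s : ↥S, act (side h) s ψ ≠ ψ' := by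
  haveI : Fintype G := Fintype.ofFinite G
  set K := kF S U with hK
  set hs := side h with hhs
  letI : CommGroup ↥K := { (inferInstance : Group ↥K) with mul_comm := fun x y => Subtype.ext (kF_comm h x x.2 y y.2) }
  -- a character of `B = W₂`
  obtain ⟨b, hb, hb1⟩ := W₂.bot_or_exists_ne_one.resolve_left h.data.selfNormalizing.2.1
  letI : CommGroup ↥W₂ := { (inferInstance : Group ↥W₂) with
    mul_comm := fun x y => Subtype.ext (kF_comm h x (hs.leB x.2) y (hs.leB y.2)) }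
  obtain ⟨ν, hν⟩ := CommGroup.exists_apply_ne_one_of_hasEnoughRootsOfUnity ↥W₂ ℂ
    (a := (⟨b, hb⟩ : ↥W₂)) (fun e => hb1 (congrArg Subtype.val e))
  obtain ⟨φ, hfix, hext⟩ := exists_ext hs ν
  -- a character trivial on `S_F`
  obtain ⟨c, hc, hc1⟩ := (cU S U).bot_or_exists_ne_one.resolve_left hne
  obtain ⟨θ₀, hθ₀⟩ := CommGroup.exists_apply_ne_one_of_hasEnoughRootsOfUnity ↥K ℂ
    (a := (⟨c, C_le_kF hc⟩ : ↥K)) (fun e => hc1 (congrArg Subtype.val e))
  set θ := θ₀ ^ (p ^ q) with hθ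
  have hθP : ∀ k : ↥K, (k : G) ∈ fittingHallOf S → θ k = 1 := fun k hk => by
    have e : k ^ (p ^ q) = 1 := Subtype.ext (by
      rw [Subgroup.coe_pow, Subgroup.coe_one, ← orderOf_dvd_iff_pow_eq_one, ← h.cardP]
      exact Subgroup.orderOf_dvd_natCard _ hk)
    rw [hθ, MonoidHom.pow_apply, ← map_pow, e, map_one]
  have hθne : θ ≠ 1 := fun e => hθ₀ (by
    have h1 : θ₀ ⟨c, C_le_kF hc⟩ ^ (p ^ q) = 1 := by
      rw [← MonoidHom.pow_apply, ← hθ, e]; rfl
    have h2 : θ₀ ⟨c, C_le_kF hc⟩ ^ Nat.card U = 1 := by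
      rw [← map_pow, show (⟨c, C_le_kF hc⟩ : ↥K) ^ Nat.card U = 1 from Subtype.ext (by
        rw [Subgroup.coe_pow, Subgroup.coe_one, ← orderOf_dvd_iff_pow_eq_one]
        exact Subgroup.orderOf_dvd_natCard _ (cU_le hc)), map_one]
    exact orderOf_eq_one_iff.1 (Nat.eq_one_of_dvd_coprimes (cop_PU h) (orderOf_dvd_of_pow_eq_one h1)
      (orderOf_dvd_of_pow_eq_one h2)))
  have hmul : ∀ (s : ↥S) (α β : ↥K →* ℂˣ), act hs s (α * β) = act hs s α * act hs s β := fun _ _ _ => rfl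
  -- `S`-elements moving one into the other
  have key : ∀ (θ θ' : ↥K →* ℂˣ), (∀ k : ↥K, (k : G) ∈ fittingHallOf S → θ k = 1) →
      (∀ k : ↥K, (k : G) ∈ fittingHallOf S → θ' k = 1) →
      ∀ s : ↥S, act hs s (φ * θ) = φ * θ' →
      (s : G) ∈ K ∨ ∃ w : ↥S, (w : G) ∈ W₁ ∧ w ≠ 1 ∧ act hs w θ = θ' := by
    intro θ θ' hθP hθ' s hsfix
    obtain ⟨a, ha, u, hu, w, hw, e⟩ := mem_S h s.2
    have hu' : u ∈ cU S U := by
      refine mem_cU_of_fix h le_kF φ ⟨⟨b, hs.leB hb⟩, hb, fun e' => hν ?_⟩ ?_ hu (fun k k' hk ek => ?_)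
      · rw [← hext]; exact e'
      · intro w' hw' k k' hk ek
        have := DFunLike.congr_fun (hfix ⟨w', typeP_W₁_le h.data hw'⟩ hw') k'
        rw [act_apply] at this
        rw [← this]
        congr 1
        refine Subtype.ext ?_
        rw [conjAut_coe, Subgroup.coe_inv, ek]
        group
      · have hk' : (k' : G) ∈ fittingHallOf S := ek ▸ conjP h (typeP_U_le h.data hu) hk
        have h1 := DFunLike.congr_fun hsfix k'
        rw [hmul, MonoidHom.mul_apply, MonoidHom.mul_apply, hθ' k' hk', mul_one, act_apply, act_apply] at h1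
        have hk'' : ((conjAut hs s⁻¹ k' : ↥K) : G) ∈ fittingHallOf S := by
          rw [conjAut_coe]; exact conjP h (S.inv_mem s.2) hk'
        rw [hθP _ hk'', mul_one] at h1
        rw [← h1]
        have hwS := typeP_W₁_le h.data hw
        have hm : (w⁻¹ * k * w : G) ∈ K := by
          have := conjK h w⁻¹ (S.inv_mem hwS) k k.2
          rwa [inv_inv] at this
        have e2 : conjAut hs s⁻¹ k' = ⟨_, hm⟩ := Subtype.ext (by
          rw [conjAut_coe, Subgroup.coe_inv, e, inv_inv, ek]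
          show (a * u * w)⁻¹ * (u * (k : G) * u⁻¹) * (a * u * w) = w⁻¹ * k * w
          have hm2 : u * (k : G) * u⁻¹ ∈ fittingHallOf S := ek ▸ hk'
          rw [show (a * u * w)⁻¹ * (u * (k : G) * u⁻¹) * (a * u * w) =
            (u * w)⁻¹ * (a⁻¹ * (u * (k : G) * u⁻¹) * a) * (u * w) by group,
            h.Pab _ (Subgroup.inv_mem _ ha) _ hm2, inv_mul_cancel_right]
          group)
        rw [e2]
        have := DFunLike.congr_fun (hfix ⟨w, hwS⟩ hw) k
        rw [act_apply] at this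
        rw [← this]
        congr 1
        exact Subtype.ext (by rw [conjAut_coe, Subgroup.coe_inv, inv_inv])
    have hau : a * u ∈ K := K.mul_mem (le_kF ha) (C_le_kF hu')
    by_cases hw1 : w = 1
    · left; rw [e, hw1, mul_one]; exact hau
    · right
      refine ⟨⟨w, typeP_W₁_le h.data hw⟩, hw, fun e' => hw1 (congrArg Subtype.val e'), ?_⟩
      have e1 : act hs ⟨a * u, hs.le hau⟩ (act hs ⟨w, typeP_W₁_le h.data hw⟩ (φ * θ)) = φ * θ' := by
        letI := charAction hs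
        show (⟨a * u, hs.le hau⟩ : ↥S) • ((⟨w, typeP_W₁_le h.data hw⟩ : ↥S) • (φ * θ)) = _
        rw [← mul_smul, show (⟨a * u, hs.le hau⟩ * ⟨w, typeP_W₁_le h.data hw⟩ : ↥S) = s from Subtype.ext e.symm]
        exact hsfix
      have hid : ∀ α : ↥K →* ℂˣ, act hs ⟨a * u, hs.le hau⟩ α = α := fun α => MonoidHom.ext fun k => by
        rw [act_apply]
        congr 1
        refine Subtype.ext ?_
        rw [conjAut_coe, Subgroup.coe_inv, inv_inv]
        show (a * u)⁻¹ * k * (a * u) = k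
        rw [kF_comm h _ (K.inv_mem hau) _ k.2, inv_mul_cancel_right]
      rw [hid, hmul, hfix ⟨w, typeP_W₁_le h.data hw⟩ hw] at e1
      exact mul_left_cancel e1
  have hθB : ∀ (α : ↥K →* ℂˣ), (∀ k : ↥K, (k : G) ∈ fittingHallOf S → α k = 1) →
      (∀ s : ↥S, (s : G) ∈ W₁ → act hs s α = α) → α = 1 := fun α hα hfα =>
    fixed_unique hs hfα (fun s _ => MonoidHom.ext fun k => rfl) fun x => by
      rw [hα _ (typeP_W₂_le_fittingHallOf h.data x.2)]; rfl
  have hgen : ∀ (α : ↥K →* ℂˣ) (w : ↥S), (w : G) ∈ W₁ → w ≠ 1 → act hs w α = α →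
      ∀ s : ↥S, (s : G) ∈ W₁ → act hs s α = α := by
    intro α w hw hw1 hwα s hsW
    letI := charAction hs
    have ho : orderOf (w : G) = q :=
      ((Nat.dvd_prime h.hq).1 (h.cW₁ ▸ Subgroup.orderOf_dvd_natCard W₁ hw)).resolve_left
        (by rw [orderOf_eq_one_iff]; exact fun e => hw1 (Subtype.ext e))
    have hz : W₁ = Subgroup.zpowers (w : G) := (Subgroup.eq_of_le_of_card_ge (Subgroup.zpowers_le.2 hw) (by
      rw [Nat.card_zpowers, h.cW₁, ho])).symm
    rw [hz] at hsW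
    obtain ⟨i, hi⟩ := Subgroup.mem_zpowers_iff.1 hsW
    rw [show s = w ^ i from Subtype.ext (by rw [Subgroup.coe_zpow]; exact hi.symm)]
    exact (MulAction.stabilizer ↥S α).zpow_mem (show w ∈ MulAction.stabilizer ↥S α from hwα) i
  have hinvP : ∀ k : ↥K, (k : G) ∈ fittingHallOf S → θ⁻¹ k = 1 := fun k hk => by
    rw [MonoidHom.inv_apply, hθP k hk, inv_one]
  refine ⟨φ * θ, φ * θ⁻¹, fun s hsfix => ?_, fun s hsfix => ?_, fun s hsfix => ?_⟩
  · rcases key θ θ hθP hθP s hsfix with h' | ⟨w, hw, hw1, hwθ⟩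
    · exact h'
    · exact absurd (hθB θ hθP (hgen θ w hw hw1 hwθ)) hθne
  · rcases key θ⁻¹ θ⁻¹ hinvP hinvP s hsfix with h' | ⟨w, hw, hw1, hwθ⟩
    · exact h'
    · exact absurd (inv_eq_one.1 (hθB θ⁻¹ hinvP (hgen θ⁻¹ w hw hw1 hwθ))) hθne
  · rcases key θ θ⁻¹ hθP hinvP s hsfix with h' | ⟨w, hw, hw1, hwθ⟩
    · have hid : act hs s (φ * θ) = φ * θ := MonoidHom.ext fun k => by
        rw [act_apply]
        congr 1
        refine Subtype.ext ?_
        rw [conjAut_coe, Subgroup.coe_inv, inv_inv, kF_comm h _ (K.inv_mem h') _ k.2, inv_mul_cancel_right]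
      rw [hid] at hsfix
      have e1 := mul_left_cancel hsfix
      refine hθne (MonoidHom.ext fun k => ?_)
      have e2 : θ k ^ 2 = 1 := by
        rw [sq]
        nth_rw 2 [e1]
        rw [MonoidHom.inv_apply, mul_inv_cancel]
      have e3 : θ k ^ Nat.card K = 1 := by rw [← map_pow, pow_card_eq_one', map_one]
      exact orderOf_eq_one_iff.1 (Nat.eq_one_of_dvd_coprimes (Nat.coprime_two_left.2 (odd_card h K))
        (orderOf_dvd_of_pow_eq_one e2) (orderOf_dvd_of_pow_eq_one e3))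
    · have h2 : act hs (w * w) θ = θ := by
        letI := charAction hs
        show (w * w) • θ = θ
        rw [mul_smul, show w • θ = θ⁻¹ from hwθ]
        show act hs w θ⁻¹ = θ
        refine MonoidHom.ext fun k => ?_
        rw [act_apply, MonoidHom.inv_apply]
        have := DFunLike.congr_fun hwθ k
        rw [act_apply, MonoidHom.inv_apply] at this
        rw [this, inv_inv]
      have hw2 : w * w ≠ 1 := fun e => hw1 (orderOf_eq_one_iff.1 (Nat.eq_one_of_dvd_coprimes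
        (Nat.coprime_two_left.2 (odd_card h S)) (orderOf_dvd_of_pow_eq_one (by rw [sq]; exact e))
        (orderOf_dvd_natCard w)))
      exact hθne (hθB θ hθP (hgen θ (w * w) (W₁.mul_mem hw hw) hw2 h2))

end Cfsg.Agent.PF13Setup8
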