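/-
`C_U(S_F) = 1` for a pair of sides.
-/
import Mathlib
import Cfsg.Agent.Lib.CyclicTIExist
import Cfsg.Agent.Lib.PF13Setup8
import Cfsg.Agent.Lib.PF13Count8
import Cfsg.Agent.Lib.PF13Arith8

set_option autoImplicit false
set_option linter.unusedSectionVars false
set_option linter.style.haveILetI false

namespace Cfsg.Agent.PF13Main8

open Cfsg BGTypeBasic PF13Mass8 PF13Setup8

variable {G : Type*} [Group G] [Finite G]

theorem cU_eq_bot {S T W₁ W₂ U V : Subgroup G} {p q : ℕ} (hS : PSide S W₁ U W₂ p q)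
    (hT : PSide T W₂ V W₁ q p) (hII : q < p → Cfsg.IsOfTypeII S) : cU S U = ⊥ := by
  by_contra hne
  haveI : Fintype G := Fintype.ofFinite G
  obtain ⟨hp3, hq3⟩ := three_le hS
  have hpq := ne_pq hS
  have hodd : Odd (Nat.card ↥(W₁ ⊔ W₂)) := odd_card hS _
  obtain ⟨χ, hχ⟩ := CyclicTIExist.exists_family hS.data.selfNormalizing hodd
  have C : PF13Cols8.Ctx W₁ W₂ S (kF S U) p q χ := ⟨hS.data.selfNormalizing, hodd, hχ, hS.hp, hp3, hq3, hpq,
    hS.cW₁, hS.cW₂, side hS⟩
  have hKL : ¬ Nat.card (kF T V) ∣ Nat.card S := by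
    intro hd
    have h1 : q ^ 2 ∣ Nat.card S := by
      refine (dvd_trans ?_ hd)
      rw [card_kF hT]
      exact (pow_dvd_pow q (by omega)).trans (dvd_mul_right _ _)
    rw [card_S hS] at h1
    have h2 : q ^ 2 ∣ q := ((cop_q hS).symm.pow_left 2).dvd_of_dvd_mul_left h1
    have := Nat.le_of_dvd hS.hq.pos h2
    nlinarith [hS.hq.two_le]
  obtain ⟨ψ, ψ', h1, h2, h3⟩ := exists_regular hS hne
  have hineq := PF13Count8.inequality C (side hT) hKL ψ ψ' h1 h2 h3
  set u := (kF S U ⊔ W₁).relIndex S with hu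
  set v := (kF T V ⊔ W₂).relIndex T with hv
  rw [relIndex_kF hS, ← hu, card_S_eq hT, ← hv, card_kF hS, card_kF hT] at hineq
  refine PF13Arith8.no_solution (d := Nat.card (cU T V)) (c := Nat.card (cU S U)) hS.hp hS.hq (by omega) (by omega)
    hpq (u_bound hS) (u_bound hT) (two_mul_le hT).1 (two_mul_le_cU hS hne).1
    Nat.card_pos (fun hp5 hq5 hc => ?_) ?_
  · by_contra hu28
    obtain ⟨-, hu2⟩ := two_mul_le hS
    obtain ⟨hc1, hc2⟩ := two_mul_le_cU hS hne
    have hb := u_bound hS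
    rw [← hu] at hu2 hb
    subst hp5 hq5
    norm_num at hb hu2 hc2 hc1
    exact no_seven hS (hII (by norm_num)) (by omega) (by rw [← hu]; omega)
  · push_cast at hineq ⊢
    rw [← hu, ← hv]
    nlinarith [hineq]

end Cfsg.Agent.PF13Main8
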