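/-
The two sides of a pair, from the structure of `S` and of `T`.
-/
import Mathlib
import Cfsg.Agent.Lib.PF13Main8

set_option autoImplicit false

namespace Cfsg.Agent.PF13Pair8

open Cfsg PF13Setup8

variable {G : Type*} [Group G] [Finite G]

/-- What the structure theorem says about `S`, as far as needed. -/
def Shape (S W₁ W₂ : Subgroup G) : Prop :=
  (Cfsg.IsOfTypeII S ∨ Cfsg.IsOfTypeIII S) ∧ (Nat.card W₁ < Nat.card W₂ → Cfsg.IsOfTypeII S) ∧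
    Cfsg.IsElementaryAbelian (Nat.card W₂) (Cfsg.fittingHallOf S) ∧
    Nat.card (Cfsg.fittingHallOf S) = Nat.card W₂ ^ Nat.card W₁

theorem pside (hG : Cfsg.IsMinSimpleOddOrder G) {S T W₁ W₂ U V : Subgroup G} (hS : IsCoatom S)
    (hSP : Cfsg.IsTypePWith S W₁ U W₂) (hTP : Cfsg.IsTypePWith T W₂ V W₁) (h : Shape S W₁ W₂)
    (h' : Shape T W₂ W₁) : PSide S W₁ U W₂ (Nat.card W₂) (Nat.card W₁) := by
  obtain ⟨h1, -, ⟨hab, hexp⟩, hc⟩ := h
  obtain ⟨hq, hUab, hne, hti⟩ := of_types hSP h1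
  refine ⟨hG, hS, hSP, rfl, rfl, (of_types hTP h'.1).1, hq, hUab, hne, fun x hx y hy => ?_, hexp, hc, hti⟩
  haveI := hab
  exact congrArg Subtype.val (mul_comm' (⟨x, hx⟩ : ↥(Cfsg.fittingHallOf S)) ⟨y, hy⟩)

theorem centralizer_eq_bot (hG : Cfsg.IsMinSimpleOddOrder G) {S T W₁ W₂ U V : Subgroup G} (hS : IsCoatom S)
    (hT : IsCoatom T) (hSP : Cfsg.IsTypePWith S W₁ U W₂) (hTP : Cfsg.IsTypePWith T W₂ V W₁)
    (h : Shape S W₁ W₂) (h' : Shape T W₂ W₁) : cU S U = ⊥ :=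
  PF13Main8.cU_eq_bot (pside hG hS hSP hTP h h') (pside hG hT hTP hSP h' h) h.2.1

end Cfsg.Agent.PF13Pair8
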