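/-
The normaliser of the factor of `W` lying in `T_F`.
-/
import Mathlib
import Cfsg.Agent.Lib.PF13Setup8

set_option autoImplicit false

namespace Cfsg.Agent.PF13Norm8

open Cfsg BGTypeBasic PF13Mass8 PF13Setup8

variable {G : Type*} [Group G] [Finite G] {T W₁ W₂ V : Subgroup G} {p q : ℕ}

theorem mem_of_normalizes (h : PSide T W₂ V W₁ q p) (h0 : cU T V = ⊥) {x : G}
    (hx : ∀ w ∈ W₁, x * w * x⁻¹ ∈ W₁) : ∃ a ∈ fittingHallOf T, ∃ b ∈ W₂, x = a * b := by
  obtain ⟨w, hw, hw1⟩ := W₁.bot_or_exists_ne_one.resolve_left h.data.selfNormalizing.2.1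
  have hW₁P := typeP_W₂_le_fittingHallOf h.data
  have hxT : x ∈ T := (side h).ti x w (le_kF (hW₁P hw)) hw1 (le_kF (hW₁P (hx w hw)))
  obtain ⟨a, ha, v, hv, b, hb, rfl⟩ := mem_S h hxT
  have hv0 : v ∈ cU T V := norm_W₂ h hv fun c hc => by
    have h1 := hx c hc
    have e1 : b * c * b⁻¹ = c := by rw [h.data.selfNormalizing.2.2.2.1 b hb c hc, mul_inv_cancel_right]
    have h2 : v * c * v⁻¹ ∈ fittingHallOf T := conjP h (typeP_U_le h.data hv) (hW₁P hc)
    rw [show a * v * b * c * (a * v * b)⁻¹ = a * (v * (b * c * b⁻¹) * v⁻¹) * a⁻¹ by group, e1,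
      h.Pab a ha _ h2, mul_inv_cancel_right] at h1
    exact h1
  rw [h0, Subgroup.mem_bot] at hv0
  exact ⟨a, ha, b, hb, by rw [hv0, mul_one]⟩

theorem normalizer_eq (h : PSide T W₂ V W₁ q p) (h0 : cU T V = ⊥) :
    Subgroup.normalizer (W₁ : Set G) = Subgroup.centralizer (W₁ : Set G) ∧
      Subgroup.centralizer (W₁ : Set G) = fittingHallOf T ⊔ W₂ := by
  have h1 : fittingHallOf T ⊔ W₂ ≤ Subgroup.centralizer (W₁ : Set G) := by
    refine sup_le (fun a ha => ?_) fun b hb => ?_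
    · exact Subgroup.mem_centralizer_iff.2 fun w hw => h.Pab w (typeP_W₂_le_fittingHallOf h.data hw) a ha
    · exact Subgroup.mem_centralizer_iff.2 fun w hw => (h.data.selfNormalizing.2.2.2.1 b hb w hw).symm
  have h2 : Subgroup.normalizer (W₁ : Set G) ≤ fittingHallOf T ⊔ W₂ := fun x hx => by
    obtain ⟨a, ha, b, hb, rfl⟩ := mem_of_normalizes h h0 fun w hw => (Subgroup.mem_normalizer_iff.1 hx w).1 hw
    exact Subgroup.mul_mem_sup ha hb
  have h3 : Subgroup.centralizer (W₁ : Set G) ≤ Subgroup.normalizer (W₁ : Set G) :=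
    Subgroup.centralizer_le_normalizer _
  exact ⟨le_antisymm (h2.trans h1) h3, le_antisymm (h3.trans h2) h1⟩

end Cfsg.Agent.PF13Norm8
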