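/-
The maximal subgroup containing the normaliser of `U` for a side of type II.
-/
import Mathlib
import Cfsg.Agent.Lib.PF13Setup8
import Cfsg.Agent.Lib.FrobeniusComplement
import Cfsg.Agent.Lib.FrobeniusOrderConj

set_option autoImplicit false
set_option linter.style.haveILetI false

open scoped Pointwise

namespace Cfsg.Agent.PF13TypeTwo8

open Cfsg BGTypeBasic PF13Setup8

variable {G : Type*} [Group G] [Finite G] {S T W₁ W₂ U V L : Subgroup G} {p q : ℕ}

theorem conj_smul_commutator (g : G) (M : Subgroup G) :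
    MulAut.conj g • ⁅M, M⁆ = ⁅MulAut.conj g • M, MulAut.conj g • M⁆ := by
  rw [conj_smul_eq_map, Subgroup.map_commutator, conj_smul_eq_map]

theorem card_smul (g : G) (H : Subgroup G) : Nat.card ↥(MulAut.conj g • H) = Nat.card H := by
  rw [conj_smul_eq_map, Subgroup.card_map_of_injective (MulAut.conj g).injective]

theorem le_normalizer_U (h : PSide S W₁ U W₂ p q) (hNU : Subgroup.normalizer (U : Set G) ≤ L) :
    U ≤ L ∧ W₁ ≤ L :=
  ⟨Subgroup.le_normalizer.trans hNU, h.data.U_normal.trans hNU⟩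

/-- `L` is not a conjugate of `S`. -/
theorem ne_conj_S (h : PSide S W₁ U W₂ p q) (hNU : Subgroup.normalizer (U : Set G) ≤ L)
    (hN : ¬ Subgroup.normalizer (U : Set G) ≤ S) (g : G) : L ≠ MulAut.conj g • S := by
  intro e
  apply hN
  have hUL := (le_normalizer_U h hNU).1
  have hcd : Nat.card ↥⁅S, S⁆ = p ^ q * Nat.card U := card_derived h
  set P' := MulAut.conj g • fittingHallOf S with hP'
  set D := MulAut.conj g • ⁅S, S⁆ with hD
  have hUD : U ≤ D := by
    intro u hu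
    rw [hD, mem_conj_smul]
    set x := g⁻¹ * u * g with hx
    have hxS : x ∈ S := by
      have := hUL hu
      rw [e, mem_conj_smul] at this
      exact this
    obtain ⟨d, hd, w, hw, hdw⟩ := h.data.W₁_compl.2.2.2 x hxS
    have hxo : x ^ Nat.card U = 1 := by
      have := conj_pow (a := g⁻¹) (b := u) (i := Nat.card U)
      rw [inv_inv] at this
      rw [hx, this, orderOf_dvd_iff_pow_eq_one.1 (Subgroup.orderOf_dvd_natCard _ hu)]
      group
    haveI : (⁅S, S⁆.subgroupOf S).Normal :=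
      Subgroup.normal_subgroupOf_of_le_normalizer (le_normalizer_derived S)
    have hidx : (⁅S, S⁆.subgroupOf S).index = q := by
      rw [← h.cW₁]; exact (relIndex_of_isComplIn h.data.W₁_compl).1
    have hq1 : (x : G) ^ q ∈ ⁅S, S⁆ := by
      have := Subgroup.pow_index_mem (⁅S, S⁆.subgroupOf S) ⟨x, hxS⟩
      rwa [hidx, Subgroup.mem_subgroupOf] at this
    obtain ⟨t, ht⟩ := exists_pow_eq_self_of_coprime (x := x) (n := q)
      (((cop_q h).coprime_dvd_left (Dvd.intro_left _ rfl)).symm.coprime_dvd_right (orderOf_dvd_of_pow_eq_one hxo))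
    rw [← ht]
    exact Subgroup.pow_mem _ hq1 t
  have hcompl : IsComplIn P' U D := isComplIn_of_card (Subgroup.pointwise_smul_le_pointwise_smul_iff.2 h.data.U_compl.1)
    hUD (by rw [hP', card_smul, h.cardP]; exact cop_PU h)
    (by rw [hP', hD, card_smul, card_smul, h.cardP, hcd])
  have hnorm : D ≤ Subgroup.normalizer (P' : Set G) := by
    rw [hP', conj_smul_normalizer, hD]
    exact Subgroup.pointwise_smul_le_pointwise_smul_iff.2
      ((Subgroup.commutator_le_self S).trans (FittingHallBasic.le_normalizer_fittingHallOf S))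
  obtain ⟨a, ha, haU⟩ := isComplIn_conjugate hnorm (by rw [hP', card_smul, h.cardP]; exact cop_PU h)
    (Or.inl (typeP_U_isSolvable h.data)) hcompl (isComplIn_conj h.data.U_compl g)
  have hN' : (g⁻¹ * a) ∈ Subgroup.normalizer (U : Set G) := by
    have e1 : MulAut.conj (g⁻¹ * a) • U = U := by rw [map_mul, mul_smul, haU, map_inv, inv_smul_smul]
    have hfwd : ∀ x ∈ U, (g⁻¹ * a) * x * (g⁻¹ * a)⁻¹ ∈ U := fun x hx => e1 ▸ conj_mem_conj_smul hx
    rw [Subgroup.mem_normalizer_iff]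
    refine fun x => ⟨hfwd x, fun hx => ?_⟩
    rw [← e1, mem_conj_smul] at hx
    simpa [mul_assoc] using hx
  have haL : a ∈ L := by
    rw [e]
    exact Subgroup.pointwise_smul_le_pointwise_smul_iff.2 (FittingHallBasic.fittingHallOf_le S) ha
  have hgL : g ∈ L := by
    have := L.mul_mem (hNU hN') (L.inv_mem haL)
    simpa using L.inv_mem this
  refine hNU.trans (le_of_eq ?_)
  have := conj_smul_le_self (M := L) (L.inv_mem hgL)
  rw [e, smul_smul, ← map_mul, inv_mul_cancel, map_one, one_smul] at this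
  rw [e, ← this]

/-- `L` is not a conjugate of `T`. -/
theorem ne_conj_T (h : PSide S W₁ U W₂ p q) (h' : PSide T W₂ V W₁ q p)
    (hNU : Subgroup.normalizer (U : Set G) ≤ L) (g : G) : L ≠ MulAut.conj g • T := by
  intro e
  obtain ⟨hUL, hWL⟩ := le_normalizer_U h hNU
  set Q := fittingHallOf T with hQ
  haveI : (Q.subgroupOf T).Normal :=
    Subgroup.normal_subgroupOf_of_le_normalizer (FittingHallBasic.le_normalizer_fittingHallOf T)
  have hidx : (Q.subgroupOf T).index = Nat.card V * p := by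
    have e1 := (Q.subgroupOf T).card_mul_index
    rw [Nat.card_congr (Subgroup.subgroupOfEquivOfLe (FittingHallBasic.fittingHallOf_le T)).toEquiv, hQ,
      h'.cardP, card_S h', mul_assoc] at e1
    exact Nat.eq_of_mul_eq_mul_left (pow_pos h.hq.pos p) e1
  have hcopidx : q.Coprime (Nat.card V * p) := Nat.Coprime.mul_right
    ((Nat.coprime_pow_left_iff h.hp.pos _ _).1 (cop_PU h'))
    ((Nat.coprime_pow_left_iff h.hp.pos _ _).1 ((cop_q h').coprime_dvd_left (Dvd.intro _ rfl)))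
  have hWQ : ∀ w ∈ W₁, g⁻¹ * w * g ∈ Q := by
    intro w hw
    have hwT : g⁻¹ * w * g ∈ T := by
      have := hWL hw
      rwa [e, mem_conj_smul] at this
    have h1 := Subgroup.pow_index_mem (Q.subgroupOf T) ⟨_, hwT⟩
    rw [hidx, Subgroup.mem_subgroupOf] at h1
    have hq : (g⁻¹ * w * g) ^ q = 1 := by
      have := conj_pow (a := g⁻¹) (b := w) (i := q)
      rw [inv_inv] at this
      rw [this, orderOf_dvd_iff_pow_eq_one.1 (h.cW₁ ▸ Subgroup.orderOf_dvd_natCard W₁ hw)]
      group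
    obtain ⟨t, ht⟩ := exists_pow_eq_self_of_coprime (x := g⁻¹ * w * g) (n := Nat.card V * p)
      (hcopidx.coprime_dvd_left (orderOf_dvd_of_pow_eq_one hq) |>.symm)
    rw [← ht]
    exact Subgroup.pow_mem _ (by simpa using h1) t
  refine h.Une ((Subgroup.eq_bot_iff_forall _).2 fun u hu => ?_)
  obtain ⟨w, hw, hw1⟩ := W₁.bot_or_exists_ne_one.resolve_left h.data.W₁_ne
  refine cent_eq_one h hu hw hw1 ?_
  set c := w * u * w⁻¹ * u⁻¹ with hc
  have hcU : c ∈ U := U.mul_mem (conjU h hw hu) (U.inv_mem hu)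
  have huT : g⁻¹ * u * g ∈ T := by
    have := hUL hu
    rwa [e, mem_conj_smul] at this
  have hcQ : g⁻¹ * c * g ∈ Q := by
    have h1 := conjP h' huT (Q.inv_mem (hWQ w hw))
    have := Q.mul_mem (hWQ w hw) h1
    rw [hc]
    convert this using 1
    group
  have hc1 : g⁻¹ * c * g = 1 := by
    refine orderOf_eq_one_iff.1 (Nat.eq_one_of_dvd_coprimes
      ((Nat.Coprime.pow_right p ((cop_q h).coprime_dvd_left (Dvd.intro_left _ rfl)))) ?_
      (h'.cardP ▸ Subgroup.orderOf_dvd_natCard _ hcQ))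
    refine orderOf_dvd_of_pow_eq_one ?_
    have := conj_pow (a := g⁻¹) (b := c) (i := Nat.card U)
    rw [inv_inv] at this
    rw [this, orderOf_dvd_iff_pow_eq_one.1 (Subgroup.orderOf_dvd_natCard _ hcU)]
    group
  have hc1' : c = 1 := by
    have := congrArg (fun z => g * z * g⁻¹) hc1
    simpa [mul_assoc] using this
  rw [hc, mul_inv_eq_one, mul_inv_eq_iff_eq_mul] at hc1'
  exact hc1'

theorem not_conj_sides (h : PSide S W₁ U W₂ p q) (h' : PSide T W₂ V W₁ q p) (g : G) :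
    T ≠ MulAut.conj g • S := by
  intro e
  have h1 : Nat.card ↥⁅T, T⁆ = Nat.card ↥⁅S, S⁆ := by rw [e, ← conj_smul_commutator, card_smul]
  have h2 : Nat.card T = Nat.card S := by rw [e, card_smul]
  have h3 := card_mul_of_isComplIn h.data.W₁_compl
  have h4 := card_mul_of_isComplIn h'.data.W₁_compl
  rw [h1, h2, ← h3, h'.cW₁, h.cW₁] at h4
  exact ne_pq h (Nat.eq_of_mul_eq_mul_left Nat.card_pos h4)

/-- Every maximal subgroup not of type I is conjugate to `S` or `T`. -/
theorem typeI_of_classes (h : PSide S W₁ U W₂ p q) (h' : PSide T W₂ V W₁ q p)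
    (hc : (∀ M : Subgroup G, IsCoatom M → Cfsg.IsOfTypeI M) ∨ ∃ S' T' : Subgroup G, ∀ M : Subgroup G,
      IsCoatom M → Cfsg.IsOfTypeI M ∨
        ∃ g : G, M = S'.map (MulAut.conj g).toMonoidHom ∨ M = T'.map (MulAut.conj g).toMonoidHom)
    (hL : IsCoatom L) (hNU : Subgroup.normalizer (U : Set G) ≤ L)
    (hN : ¬ Subgroup.normalizer (U : Set G) ≤ S) : Cfsg.IsOfTypeI L := by
  have hSI := not_typeI_of_typeP h.data
  have hTI := not_typeI_of_typeP h'.data
  rcases hc with hall | ⟨S', T', hc⟩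
  · exact absurd (hall S h.max) hSI
  refine (hc L hL).resolve_right ?_
  rintro ⟨c, hLc⟩
  obtain ⟨a, ha⟩ := (hc S h.max).resolve_left hSI
  obtain ⟨b, hb⟩ := (hc T h'.max).resolve_left hTI
  simp only [← conj_smul_eq_map] at ha hb hLc
  have key : ∀ {X Y Z : Subgroup G} {x y : G}, X = MulAut.conj x • Z → Y = MulAut.conj y • Z →
      X = MulAut.conj (x * y⁻¹) • Y := by
    intro X Y Z x y hx hy
    rw [hx, hy, map_mul, mul_smul, map_inv, inv_smul_smul]
  rcases ha with ha | ha <;> rcases hb with hb | hb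
  · exact not_conj_sides h h' _ (key hb ha)
  · rcases hLc with hl | hl
    · exact ne_conj_S h hNU hN _ (key hl ha)
    · exact ne_conj_T h h' hNU _ (key hl hb)
  · rcases hLc with hl | hl
    · exact ne_conj_T h h' hNU _ (key hl hb)
    · exact ne_conj_S h hNU hN _ (key hl ha)
  · exact not_conj_sides h h' _ (key hb ha)

/-- In a group with cyclic Sylow subgroups and cyclic subgroups of order `rq`, a subgroup of order `q` is
normal. -/
theorem normal_of_prime {E : Type*} [Group E] [Finite E] [IsZGroup E] (A : Subgroup E) {q : ℕ} (hq : q.Prime)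
    (hA : Nat.card A = q)
    (hpair : ∀ B : Subgroup E, (∃ r, r.Prime ∧ Nat.card B = r * q) → IsCyclic B) : A.Normal := by
  haveI hD : IsCyclic (commutator E) := IsZGroup.isCyclic_commutator E
  set D := commutator E with hDdef
  haveI hDn : D.Normal := inferInstance
  have hchar : ∀ B : Subgroup E, B ≤ D → B.Normal := by
    intro B hB
    constructor
    intro b hb e
    have h1 : B.map (MulAut.conj e).toMonoidHom ≤ D := by
      rintro _ ⟨c, hc, rfl⟩
      exact hDn.conj_mem c (hB hc) e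
    have h2 : (B.map (MulAut.conj e).toMonoidHom).subgroupOf D = B.subgroupOf D :=
      FrobeniusOrderConj.eq_of_card_eq_of_isCyclic (by
        rw [Nat.card_congr (Subgroup.subgroupOfEquivOfLe h1).toEquiv,
          Nat.card_congr (Subgroup.subgroupOfEquivOfLe hB).toEquiv,
          Subgroup.card_map_of_injective (MulAut.conj e).injective])
    have h3 : (⟨e * b * e⁻¹, h1 ⟨b, hb, rfl⟩⟩ : ↥D) ∈ B.subgroupOf D := by
      rw [← h2]; exact ⟨b, hb, rfl⟩
    exact h3
  by_cases hqD : q ∣ Nat.card D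
  · refine hchar A fun a ha => ?_
    have h1 := Subgroup.pow_index_mem D a
    obtain ⟨t, ht⟩ := exists_pow_eq_self_of_coprime (x := a) (n := D.index)
      ((IsZGroup.coprime_commutator_index E).coprime_dvd_left hqD |>.coprime_dvd_left
        (hA ▸ Subgroup.orderOf_dvd_natCard A ha) |>.symm)
    rw [← ht]
    exact Subgroup.pow_mem _ h1 t
  have hcopD : q.Coprime (Nat.card D) := hq.coprime_iff_not_dvd.2 hqD
  haveI := Fact.mk hq
  letI : CommGroup ↥D := IsCyclic.commGroup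
  have hcent : ∀ a ∈ A, ∀ d ∈ D, a * d = d * a := by
    intro a ha d hd
    by_cases ha1 : a = 1
    · simp [ha1]
    haveI : Fintype ↥A := Fintype.ofFinite _
    let θ : ↥A →* MulAut ↥D :=
      { toFun := fun x =>
          { toFun := fun c => ⟨x * c * (x : E)⁻¹, hDn.conj_mem c c.2 x⟩
            invFun := fun c => ⟨(x : E)⁻¹ * c * x, by simpa using hDn.conj_mem c c.2 (x : E)⁻¹⟩
            left_inv := fun c => Subtype.ext (by simp [mul_assoc])
            right_inv := fun c => Subtype.ext (by simp [mul_assoc])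
            map_mul' := fun c c' => Subtype.ext (by simp [mul_assoc]) }
        map_one' := by ext c; simp
        map_mul' := fun x y => by ext c; simp [mul_assoc] }
    set f : ↥D := θ ⟨a, ha⟩ ⟨d, hd⟩ * (⟨d, hd⟩ : ↥D)⁻¹ with hf
    suffices hf1 : f = 1 by
      rw [hf, mul_inv_eq_one] at hf1
      exact mul_inv_eq_iff_eq_mul.1 (congrArg (Subtype.val : ↥D → E) hf1)
    by_contra hf1
    have hN : PF13Alg8.normHom θ f = 1 := by
      rw [hf, map_mul, map_inv, mul_inv_eq_one]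
      simp only [PF13Alg8.normHom_apply]
      refine Fintype.prod_equiv (Equiv.mulRight (⟨a, ha⟩ : ↥A)) _ _ fun x => ?_
      rw [Equiv.coe_mulRight, map_mul]
      rfl
    obtain ⟨r, hr, hrd⟩ := Nat.exists_prime_and_dvd (n := orderOf f) (fun e => hf1 (orderOf_eq_one_iff.1 e))
    set z := f ^ (orderOf f / r) with hz
    have hzo : orderOf z = r := orderOf_pow_orderOf_div (orderOf_pos f).ne' hrd
    have hzN : PF13Alg8.normHom θ z = 1 := by rw [hz, map_pow, hN, one_pow]
    have hzfix : ∀ x : ↥A, θ x z = z := by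
      intro x
      refine Subtype.ext ?_
      show (x : E) * z * (x : E)⁻¹ = z
      haveI hZn : (Subgroup.zpowers (z : E)).Normal := hchar _ (Subgroup.zpowers_le.2 z.2)
      set B := Subgroup.zpowers (z : E) ⊔ A with hB
      have hBcard : Nat.card B = r * q := by
        have hzc : Nat.card (Subgroup.zpowers (z : E)) = r := by
          rw [Nat.card_zpowers, Subgroup.orderOf_coe, hzo]
        have hdis : Subgroup.zpowers (z : E) ⊓ A = ⊥ := Subgroup.inf_eq_bot_of_coprime (by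
          rw [hzc, hA]
          refine (hcopD.coprime_dvd_right ?_).symm
          rw [← hzo]; exact orderOf_dvd_natCard z)
        rw [← hzc, ← hA, card_mul_of_isComplIn (M := B) ⟨le_sup_left, le_sup_right, hdis, fun m hm => ?_⟩]
        rw [← SetLike.mem_coe, hB, Subgroup.normal_mul] at hm
        obtain ⟨u, hu, v, hv, rfl⟩ := hm
        exact ⟨u, hu, v, hv, rfl⟩
      haveI := hpair B ⟨r, hr, hBcard⟩
      have := congrArg (Subtype.val : ↥B → E) (IsCyclic.commGroup.mul_comm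
        (⟨x, Subgroup.mem_sup_right x.2⟩ : ↥B) ⟨z, Subgroup.mem_sup_left (Subgroup.mem_zpowers _)⟩)
      exact mul_inv_eq_iff_eq_mul.2 this
    have := PF13Alg8.fixed_of_normHom_mul θ (hA ▸ hcopD) hzfix hzN
    rw [this, orderOf_one] at hzo
    exact hr.one_lt.ne hzo
  constructor
  intro a ha e
  set c : E := e * a * e⁻¹ * a⁻¹ with hc
  have hcD : c ∈ D := Subgroup.commutator_mem_commutator (Subgroup.mem_top e) (Subgroup.mem_top a)
  have hac : Commute c a := (hcent a ha c hcD).symm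
  have haq : a ^ q = 1 := orderOf_dvd_iff_pow_eq_one.1 (hA ▸ Subgroup.orderOf_dvd_natCard A ha)
  have h1 : e * a * e⁻¹ = c * a := by rw [hc]; group
  have h2 : c ^ q = 1 := by
    have : (e * a * e⁻¹) ^ q = 1 := by rw [conj_pow, haq]; group
    rwa [h1, hac.mul_pow, haq, mul_one] at this
  have hc1 : c = 1 := orderOf_eq_one_iff.1 (Nat.eq_one_of_dvd_coprimes hcopD (orderOf_dvd_of_pow_eq_one h2)
    (Subgroup.orderOf_dvd_natCard D hcD))
  rw [h1, hc1, one_mul]
  exact ha

/-- The structure of `L`. -/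
theorem structure_of_L (h : PSide S W₁ U W₂ p q) (h' : PSide T W₂ V W₁ q p)
    (hnorm : Subgroup.normalizer (W₁ : Set G) = fittingHallOf T ⊔ W₂)
    (hNU : Subgroup.normalizer (U : Set G) ≤ L) (hI : Cfsg.IsOfTypeI L)
    (hfrob : ∀ x ∈ fittingHallOf L, x ≠ 1 → L ⊓ Subgroup.centralizer ({x} : Set G) ≤ fittingHallOf L) :
    U ≤ fittingHallOf L ∧ ((fittingHallOf L ⊓ W₁ = ⊥ ∧ fittingHallOf L ⊔ W₁ = L) ∨
      ∃ y ∈ fittingHallOf T, fittingHallOf L ⊓ (W₁ ⊔ W₂.map (MulAut.conj y).toMonoidHom) = ⊥ ∧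
        fittingHallOf L ⊔ (W₁ ⊔ W₂.map (MulAut.conj y).toMonoidHom) = L) := by
  obtain ⟨⟨-, hoddL, hne, -, E₀', -, hE₀', -⟩, -⟩ := hI
  obtain ⟨hUL, hWL⟩ := le_normalizer_U h hNU
  set H := fittingHallOf L with hH
  set m := H.relIndex L with hm
  have hHL : H ≤ L := FittingHallBasic.fittingHallOf_le L
  have hcop : (Nat.card H).Coprime m := FittingHallBasic.fittingHallOf_coprime L
  haveI hHn : (H.subgroupOf L).Normal :=
    Subgroup.normal_subgroupOf_of_le_normalizer (FittingHallBasic.le_normalizer_fittingHallOf L)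
  have hmem : ∀ {x : G}, x ∈ L → (orderOf x).Coprime m → x ∈ H := by
    intro x hx hco
    have h1 := Subgroup.pow_index_mem (H.subgroupOf L) ⟨x, hx⟩
    rw [Subgroup.mem_subgroupOf] at h1
    obtain ⟨t, ht⟩ := exists_pow_eq_self_of_coprime (x := x) (n := m) hco.symm
    rw [← ht]
    exact Subgroup.pow_mem _ (by simpa [hm, Subgroup.relIndex] using h1) t
  have hHne : H ≠ ⊥ := fun e => hne (Subgroup.eq_bot_of_card_eq _ (by
    rw [← FittingHallBasic.card_fittingHallOf, ← hH, e, Subgroup.card_bot]))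
  have hnil : Group.IsNilpotent H := by
    haveI := FittingHallBasic.fittingHall_isNilpotent (G := ↥L)
    exact (ComponentsCores.isNilpotent_map_subtype_iff _).mpr this
  have hconjH : ∀ {x a : G}, x ∈ L → a ∈ H → x * a * x⁻¹ ∈ H := fun {x a} hx ha =>
    (Subgroup.mem_normalizer_iff.1 (FittingHallBasic.le_normalizer_fittingHallOf L hx) a).1 ha
  have hmL : Nat.card H * m = Nat.card L := by
    rw [← Subgroup.relIndex_bot_left, ← Subgroup.relIndex_bot_left, hm,
      Subgroup.relIndex_mul_relIndex ⊥ H L bot_le hHL]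
  -- the part of `U` outside `H`
  let U' : Subgroup G :=
    { carrier := {u | u ∈ U ∧ u ^ m = 1}
      one_mem' := ⟨U.one_mem, one_pow m⟩
      mul_mem' := fun {a b} ha hb => ⟨U.mul_mem ha.1 hb.1, by
        rw [(show Commute a b from h.Uab a ha.1 b hb.1).mul_pow, ha.2, hb.2, one_mul]⟩
      inv_mem' := fun {a} ha => ⟨U.inv_mem ha.1, by rw [inv_pow, ha.2, inv_one]⟩ }
  have hU'U : U' ≤ U := fun x hx => hx.1
  have hU'W : ∀ w ∈ W₁, ∀ x ∈ U', w * x * w⁻¹ ∈ U' := fun w hw x hx =>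
    ⟨conjU h hw hx.1, by rw [conj_pow, hx.2]; group⟩
  have hUH_of : U' = ⊥ → U ≤ H := by
    intro e u hu
    have h1 : u ^ Nat.card H ∈ U' := ⟨U.pow_mem hu _, by
      rw [← pow_mul, hmL, ← orderOf_dvd_iff_pow_eq_one]; exact Subgroup.orderOf_dvd_natCard L (hUL hu)⟩
    rw [e, Subgroup.mem_bot, ← orderOf_dvd_iff_pow_eq_one] at h1
    exact hmem (hUL hu) (hcop.coprime_dvd_left h1)
  have hU'H : U' ⊓ H = ⊥ := (Subgroup.eq_bot_iff_forall _).2 fun x hx =>
    orderOf_eq_one_iff.1 (Nat.eq_one_of_dvd_coprimes hcop (Subgroup.orderOf_dvd_natCard H hx.2)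
      (orderOf_dvd_of_pow_eq_one hx.1.2))
  obtain ⟨w, hw, hw1⟩ := W₁.bot_or_exists_ne_one.resolve_left h.data.W₁_ne
  have hwo : orderOf w = q := ((Nat.dvd_prime h.hq).1 (h.cW₁ ▸ Subgroup.orderOf_dvd_natCard W₁ hw)).resolve_left
    (by rwa [orderOf_eq_one_iff])
  have hWz : W₁ = Subgroup.zpowers w := (Subgroup.eq_of_le_of_card_ge (Subgroup.zpowers_le.2 hw)
    (by rw [Nat.card_zpowers, hwo, h.cW₁])).symm
  have hW₁H : H ⊓ W₁ = ⊥ := by
    rcases (Nat.dvd_prime h.hq).1 (h.cW₁ ▸ Subgroup.card_dvd_of_le (inf_le_right : H ⊓ W₁ ≤ W₁)) with e | e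
    · exact Subgroup.eq_bot_of_card_eq _ e
    exfalso
    have hWH : W₁ ≤ H := fun x hx =>
      ((Subgroup.eq_of_le_of_card_ge (inf_le_right : H ⊓ W₁ ≤ W₁) (by rw [e, h.cW₁])).ge hx).1
    have hU'bot : U' = ⊥ := (Subgroup.eq_bot_iff_forall _).2 fun u hu => by
      refine cent_eq_one h hu.1 hw hw1 ?_
      have hc : w * u * w⁻¹ * u⁻¹ ∈ U' ⊓ H := ⟨U'.mul_mem (hU'W w hw u hu) (U'.inv_mem hu), by
        have := H.mul_mem (hWH hw) (hconjH (hUL hu.1) (H.inv_mem (hWH hw)))
        rw [show w * u * w⁻¹ * u⁻¹ = w * (u * w⁻¹ * u⁻¹) by group]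
        exact this⟩
      rw [hU'H, Subgroup.mem_bot, mul_inv_eq_one, mul_inv_eq_iff_eq_mul] at hc
      exact hc
    have hUH := hUH_of hU'bot
    haveI := hnil
    refine h.Une ((Subgroup.eq_bot_iff_forall _).2 fun u hu => cent_eq_one h hu hw hw1 ?_)
    refine congrArg (Subtype.val : ↥H → G) (FittingHallBasic.commute_of_coprime_orderOf (N := ↥H)
      (a := ⟨w, hWH hw⟩) (b := ⟨u, hUH hu⟩) ?_)
    rw [← Subgroup.orderOf_coe, ← Subgroup.orderOf_coe]
    exact ((cop_q h).coprime_dvd_left (Dvd.intro_left _ rfl)).symm.coprime_dvd_right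
      (Subgroup.orderOf_dvd_natCard U hu) |>.coprime_dvd_left hwo.dvd
  have hfree : ∀ {x a : G}, x ∈ L → x ∉ H → a ∈ H → a * x = x * a → a = 1 := by
    intro x a hx hxH ha hax
    by_contra ha1
    exact hxH (hfrob a ha ha1 ⟨hx, Subgroup.mem_centralizer_singleton_iff.2 hax.symm⟩)
  have hwH : w ∉ H := fun hwH => hw1 (Subgroup.mem_bot.1 (hW₁H ▸ (⟨hwH, hw⟩ : w ∈ H ⊓ W₁)))
  have hqH : ¬ q ∣ Nat.card H := fun hd =>
    hwH (hmem (hWL hw) (hwo ▸ hcop.coprime_dvd_left hd))
  have hUH : U ≤ H := by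
    refine hUH_of ?_
    by_contra hU'
    have hWU : U' ⊓ W₁ = ⊥ := by
      rw [← le_bot_iff, ← h.data.W₁_compl.2.2.1]
      exact inf_le_inf_right _ (hU'U.trans h.data.U_compl.2.1)
    have hn : W₁ ≤ Subgroup.normalizer (U' : Set G) := fun x hx => Subgroup.mem_normalizer_iff.2 fun u =>
      ⟨hU'W x hx u, fun hu => by simpa [mul_assoc] using hU'W x⁻¹ (W₁.inv_mem hx) _ hu⟩
    have hcard : Nat.card ↥(U' ⊔ W₁) = Nat.card U' * q := by
      rw [← h.cW₁, card_mul_of_isComplIn (M := U' ⊔ W₁) ⟨le_sup_left, le_sup_right, hWU, fun z hz => ?_⟩]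
      rw [← SetLike.mem_coe, Subgroup.coe_mul_of_right_le_normalizer_left _ _ hn] at hz
      obtain ⟨a, ha, b, hb, rfl⟩ := hz
      exact ⟨a, ha, b, hb, rfl⟩
    have hc : (Nat.card H).Coprime (Nat.card ↥(U' ⊔ W₁)) := by
      rw [hcard]
      refine Nat.Coprime.mul_right ?_ ((h.hq.coprime_iff_not_dvd.2 hqH).symm)
      by_contra hnc
      obtain ⟨r, hr, hr1, hr2⟩ := Nat.Prime.not_coprime_iff_dvd.1 hnc
      haveI := Fact.mk hr
      obtain ⟨x, hx⟩ := exists_prime_orderOf_dvd_card' (G := U') r hr2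
      have hxm : r ∣ m := hx ▸ orderOf_dvd_of_pow_eq_one (Subtype.ext (by
        rw [Subgroup.coe_pow]; exact x.2.2))
      exact hr.one_lt.ne' (Nat.eq_one_of_dvd_coprimes hcop hr1 hxm)
    haveI := hnil
    have h45 := Cfsg.Agent.S1545.result U' W₁ H hU' h.data.W₁_ne hWU hU'W
      (fun e he he1 x hx hex => cent_eq_one h hx.1 he he1 hex)
      (fun x hx a ha => hconjH ((sup_le (hU'U.trans hUL) hWL : U' ⊔ W₁ ≤ L) hx) ha)
      (Subgroup.inf_eq_bot_of_coprime hc) inferInstance hc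
    have hz : ∀ X : Subgroup G, X ≤ L → (∃ x ∈ X, x ∉ H) → H ⊓ Subgroup.centralizer (X : Set G) = ⊥ := by
      rintro X hX ⟨x, hx, hxH⟩
      exact (Subgroup.eq_bot_iff_forall _).2 fun a ha =>
        hfree (hX hx) hxH ha.1 ((Subgroup.mem_centralizer_iff.1 ha.2 x hx).symm)
    obtain ⟨u, hu, hu1⟩ := U'.bot_or_exists_ne_one.resolve_left hU'
    have huH : u ∉ H := fun huH => hu1 (Subgroup.mem_bot.1 (hU'H ▸ (⟨hu, huH⟩ : u ∈ U' ⊓ H)))
    rw [hz _ (sup_le (hU'U.trans hUL) hWL) ⟨w, Subgroup.mem_sup_right hw, hwH⟩, hz _ hWL ⟨w, hw, hwH⟩,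
      hz _ (hU'U.trans hUL) ⟨u, hu, huH⟩, Subgroup.card_bot, one_pow, one_mul, mul_one] at h45
    exact hHne (Subgroup.eq_bot_of_card_eq _ h45)
  refine ⟨hUH, ?_⟩
  -- a complement containing `W₁`
  have hE₀ : IsComplIn H (E₀'.map L.subtype) L := by
    refine ⟨hHL, Subgroup.map_subtype_le _, ?_, fun z hz => ?_⟩
    · rw [hH, fittingHallOf, ← Subgroup.map_inf _ _ _ L.subtype_injective, hE₀'.disjoint.eq_bot, Subgroup.map_bot]
    · obtain ⟨⟨a, b⟩, hab⟩ := hE₀'.2 ⟨z, hz⟩
      exact ⟨(a : ↥L), ⟨a, a.2, rfl⟩, (b : ↥L), ⟨b, b.2, rfl⟩, (congrArg Subtype.val hab).symm⟩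
  haveI := Fact.mk h.hq
  obtain ⟨g, hg, hwg⟩ := exists_conj_mem_of_not_dvd_relIndex
    (W := E₀'.map L.subtype) (M := L) (p := q) (by rw [(relIndex_of_isComplIn hE₀).2]; exact hqH) (hWL hw)
    (IsPGroup.of_card (n := 1) (by rw [pow_one, Nat.card_zpowers, hwo]))
  set E := MulAut.conj g • E₀'.map L.subtype with hE
  have hEc : IsComplIn H E L := by
    have := isComplIn_conj hE₀ g
    have e1 : MulAut.conj g • H = H := by
      refine Subgroup.eq_of_le_of_card_ge ?_ (card_smul g H).ge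
      intro x hx
      rw [mem_conj_smul] at hx
      have := hconjH hg hx
      simpa [mul_assoc] using this
    rwa [e1, conj_smul_le_self hg] at this
  have hWE : W₁ ≤ E := by
    rw [hWz, Subgroup.zpowers_le, hE, mem_conj_smul]
    exact hwg
  -- the Frobenius complement
  haveI : ((fittingHallOf L).subgroupOf L).Normal := hHn
  have hcompl : Subgroup.IsComplement' (H.subgroupOf L) (E.subgroupOf L) := isComplement'_subgroupOf hEc
  have hKne : H.subgroupOf L ≠ ⊥ := fun e => hHne (by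
    rw [← Subgroup.map_subgroupOf_eq_of_le hHL, e, Subgroup.map_bot])
  have hfpf : ∀ x ∈ E.subgroupOf L, x ≠ 1 → H.subgroupOf L ⊓ Subgroup.centralizer ({x} : Set ↥L) = ⊥ := by
    intro x hx hx1
    refine (Subgroup.eq_bot_iff_forall _).2 fun a ha => Subtype.ext ?_
    refine hfree x.2 (fun hxH => hx1 (Subtype.ext ?_)) ha.1
      (congrArg Subtype.val (Subgroup.mem_centralizer_singleton_iff.1 ha.2))
    exact Subgroup.mem_bot.1 (hEc.2.2.1 ▸ (⟨hxH, hx⟩ : (x : G) ∈ H ⊓ E))
  have hEodd : ¬ 2 ∣ Nat.card ↥(E.subgroupOf L) := fun hd =>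
    (Nat.not_even_iff_odd.2 hoddL) (even_iff_two_dvd.2 (hd.trans (Subgroup.card_subgroup_dvd_card _)))
  haveI hZ : IsZGroup ↥(E.subgroupOf L) := by
    refine (isZGroup_iff _).2 fun r hr R => ?_
    have := Fact.mk hr
    rcases FrobeniusComplement.sylow_cyclic_or_quaternion hcompl hKne hfpf (R : Subgroup ↥(E.subgroupOf L))
      R.isPGroup' with hcyc | ⟨-, n, ⟨f⟩⟩
    · exact hcyc
    · exfalso
      apply hEodd
      have h1 : Nat.card (R : Subgroup ↥(E.subgroupOf L)) = 4 * 2 ^ n := by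
        rw [Nat.card_congr f.toEquiv, Nat.card_eq_fintype_card, QuaternionGroup.card]
      exact (Dvd.intro (2 * 2 ^ n) (by rw [h1]; ring)).trans
        (Subgroup.card_subgroup_dvd_card (R : Subgroup ↥(E.subgroupOf L)))
  have hAc : Nat.card ↥((W₁.subgroupOf L).subgroupOf (E.subgroupOf L)) = q := by
    rw [Nat.card_congr (Subgroup.subgroupOfEquivOfLe (show W₁.subgroupOf L ≤ E.subgroupOf L from
      fun x hx => hWE hx)).toEquiv, Nat.card_congr (Subgroup.subgroupOfEquivOfLe hWL).toEquiv, h.cW₁]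
  have hAn := normal_of_prime ((W₁.subgroupOf L).subgroupOf (E.subgroupOf L)) h.hq hAc fun B hB => by
    obtain ⟨r, hr, hBc⟩ := hB
    haveI := FrobeniusFPF.isCyclic_of_le_complement hcompl hKne hfpf (B.map (E.subgroupOf L).subtype)
      (Subgroup.map_subtype_le _) (Or.inr ⟨r, q, hr, h.hq, by
        rw [Subgroup.card_map_of_injective (Subgroup.subtype_injective _), hBc]⟩)
    exact isCyclic_of_surjective (B.equivMapOfInjective _ (Subgroup.subtype_injective _)).symm.toMonoidHom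
      (B.equivMapOfInjective _ (Subgroup.subtype_injective _)).symm.surjective
  have hEN : E ≤ Subgroup.normalizer (W₁ : Set G) := by
    have hfwd : ∀ x ∈ E, ∀ a ∈ W₁, x * a * x⁻¹ ∈ W₁ := fun x hx a ha =>
      hAn.conj_mem (⟨⟨a, hWL ha⟩, hWE ha⟩ : ↥(E.subgroupOf L)) ha ⟨⟨x, hEc.2.1 hx⟩, hx⟩
    intro x hx
    refine Subgroup.mem_normalizer_iff.2 fun a => ⟨hfwd x hx a, fun ha => ?_⟩
    simpa [mul_assoc] using hfwd x⁻¹ (E.inv_mem hx) _ ha
  rw [hnorm] at hEN
  set Q := fittingHallOf T with hQ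
  have hW₁Q : W₁ ≤ Q := typeP_W₂_le_fittingHallOf h'.data
  have hEQ : E ⊓ Q = W₁ := by
    refine (Subgroup.eq_of_le_of_card_ge (le_inf hWE hW₁Q) ?_).symm
    have hsub : E ⊓ Q ≤ L := inf_le_left.trans hEc.2.1
    haveI hcyc : IsCyclic ↥((E ⊓ Q).subgroupOf L) := FrobeniusFPF.isCyclic_of_le_complement hcompl hKne hfpf _
      (fun x hx => (hx : (x : G) ∈ E ⊓ Q).1) (Or.inl ⟨⟨fun a b => Subtype.ext (Subtype.ext
        (h'.Pab _ (a.2 : ((a : ↥L) : G) ∈ E ⊓ Q).2 _ (b.2 : ((b : ↥L) : G) ∈ E ⊓ Q).2))⟩⟩)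
    obtain ⟨x, hx⟩ := hcyc.exists_ofOrder_eq_natCard
    rw [Nat.card_congr (Subgroup.subgroupOfEquivOfLe hsub).toEquiv] at hx
    rw [← hx, h.cW₁]
    refine Nat.le_of_dvd h.hq.pos (orderOf_dvd_of_pow_eq_one (Subtype.ext (Subtype.ext ?_)))
    rw [Subgroup.coe_pow, Subgroup.coe_pow]
    exact h'.Pexp _ (x.2 : ((x : ↥L) : G) ∈ E ⊓ Q).2
  have hn₂ : W₂ ≤ Subgroup.normalizer (Q : Set G) :=
    (typeP_W₁_le h'.data).trans (FittingHallBasic.le_normalizer_fittingHallOf T)
  have hM : IsComplIn Q W₂ (Q ⊔ W₂) := ⟨le_sup_left, le_sup_right, by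
    rw [← le_bot_iff, ← h'.data.W₁_compl.2.2.1]
    exact inf_le_inf_right _ h'.data.U_compl.1, fun z hz => by
      rw [← SetLike.mem_coe, Subgroup.coe_mul_of_right_le_normalizer_left _ _ hn₂] at hz
      obtain ⟨a, ha, b, hb, rfl⟩ := hz
      exact ⟨a, ha, b, hb, rfl⟩⟩
  have hEcard : Nat.card E ≤ q * p := by
    have h1 : Q.relIndex E ≤ p := by
      rw [← h.cW₂, ← (relIndex_of_isComplIn hM).1]
      exact Subgroup.relIndex_le_of_le_right hEN (by
        rw [(relIndex_of_isComplIn hM).1]; exact Nat.card_pos.ne')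
    have h2 : Nat.card E = q * Q.relIndex E := by
      rw [← h.cW₁, ← hEQ, inf_comm E Q, ← Subgroup.relIndex_bot_left, ← Subgroup.relIndex_bot_left,
        ← Subgroup.inf_relIndex_right Q E, Subgroup.relIndex_mul_relIndex ⊥ _ E bot_le inf_le_right]
    rw [h2]
    exact Nat.mul_le_mul_left q h1
  by_cases hpE : p ∣ Nat.card E
  · right
    haveI := Fact.mk h.hp
    obtain ⟨x, hx⟩ := exists_prime_orderOf_dvd_card' (G := E) p hpE
    have hX : IsComplIn Q (Subgroup.zpowers (x : G)) (Q ⊔ W₂) := by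
      refine isComplIn_of_card le_sup_left (Subgroup.zpowers_le.2 (hEN x.2)) ?_ ?_
      · rw [Nat.card_zpowers, Subgroup.orderOf_coe, hx, hQ, h'.cardP]
        exact Nat.Coprime.pow_left _ ((Nat.coprime_primes h.hq h.hp).2 (ne_pq h).symm)
      · rw [Nat.card_zpowers, Subgroup.orderOf_coe, hx, ← card_mul_of_isComplIn hM, h.cW₂]
    obtain ⟨y, hy, hyW⟩ := isComplIn_conjugate (sup_le Subgroup.le_normalizer hn₂)
      (by rw [hQ, h'.cardP, h.cW₂]; exact Nat.Coprime.pow_left _ ((Nat.coprime_primes h.hq h.hp).2 (ne_pq h).symm))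
      (Or.inl (typeP_W₁_isSolvable h'.data)) hM hX
    refine ⟨y, hy, ?_⟩
    have hle : W₁ ⊔ W₂.map (MulAut.conj y).toMonoidHom ≤ E := by
      rw [← conj_smul_eq_map, hyW]
      exact sup_le hWE (Subgroup.zpowers_le.2 x.2)
    have heq : W₁ ⊔ W₂.map (MulAut.conj y).toMonoidHom = E := by
      refine Subgroup.eq_of_le_of_card_ge hle (hEcard.trans (Nat.le_of_dvd Nat.card_pos ?_))
      refine Nat.Coprime.mul_dvd_of_dvd_of_dvd ((Nat.coprime_primes h.hq h.hp).2 (ne_pq h).symm)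
        (h.cW₁ ▸ Subgroup.card_dvd_of_le le_sup_left) ?_
      rw [← h.cW₂, ← card_smul y W₂, conj_smul_eq_map]
      exact Subgroup.card_dvd_of_le le_sup_right
    rw [heq]
    exact ⟨hEc.2.2.1, sup_eq_of_isComplIn hEc⟩
  · left
    have heq : W₁ = E := by
      refine le_antisymm hWE fun z hz => ?_
      have hzQ : z ∈ Q := by
        haveI : (Q.subgroupOf (Q ⊔ W₂)).Normal :=
          Subgroup.normal_subgroupOf_of_le_normalizer (sup_le Subgroup.le_normalizer hn₂)
        have h1 := Subgroup.pow_index_mem (Q.subgroupOf (Q ⊔ W₂)) ⟨z, hEN hz⟩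
        have hidx : (Q.subgroupOf (Q ⊔ W₂)).index = p := by
          rw [← h.cW₂]; exact (relIndex_of_isComplIn hM).1
        rw [hidx, Subgroup.mem_subgroupOf] at h1
        obtain ⟨t, ht⟩ := exists_pow_eq_self_of_coprime (x := z) (n := p)
          ((h.hp.coprime_iff_not_dvd.2 hpE).coprime_dvd_right (Subgroup.orderOf_dvd_natCard E hz))
        rw [← ht]
        exact Subgroup.pow_mem _ (by simpa using h1) t
      rw [← hEQ]; exact ⟨hz, hzQ⟩
    rw [heq]
    exact ⟨hEc.2.2.1, sup_eq_of_isComplIn hEc⟩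

end Cfsg.Agent.PF13TypeTwo8
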