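import Mathlib

/-!
The final configuration of Appendix C of Bender–Glauberman: a group `H = P ⋊ U` where `P ≅ (F,+)`
and `U` is the group of norm-one elements, an abelian `p'`-group `Q` normalized by `P₀` and `y ∈ Q`
such that `P₀ ^ y` normalizes `U`.
-/

set_option autoImplicit false
set_option linter.unusedSectionVars false

namespace Cfsg.Agent.OddFieldConfig

theorem comm_aux {A : Type*} [CommGroup A] {a b c d e f g : A}
    (h : a * b⁻¹ * (c * d⁻¹) = e * f⁻¹) : b * d * (g * f)⁻¹ = a * c * (e * g)⁻¹ := by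
  apply Additive.ofMul.injective
  have h' := congrArg Additive.ofMul h
  simp only [ofMul_mul, ofMul_inv] at h' ⊢
  rw [← sub_eq_zero] at h' ⊢
  rw [← neg_eq_zero]
  convert h' using 1
  abel

universe u v

/-- The data. -/
structure Cfg (G : Type u) [Group G] (F : Type v) [Field F] (p : ℕ) [Fact p.Prime]
    [Algebra (ZMod p) F] where
  q : ℕ
  hq : q.Prime
  hqp : q < p
  hFq : Module.finrank (ZMod p) F = q
  U : Subgroup G
  Q : Subgroup G
  hU : Nat.card U * (p - 1) = p ^ q - 1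
  hcop : (Nat.card U).Coprime (p - 1)
  e : F → G
  e_add : ∀ c d, e (c + d) = e c * e d
  e_inj : Function.Injective e
  ψ : U →* F
  ψ_inj : Function.Injective ψ
  hconj : ∀ (u : U) (c : F), (u : G) * e c * (u : G)⁻¹ = e (ψ u * c)
  hQc : ∀ a ∈ Q, ∀ b ∈ Q, a * b = b * a
  hQp : (Nat.card Q).Coprime p
  y : G
  hy : y ∈ Q
  hQn : ∀ x : ZMod p, e (algebraMap (ZMod p) F x) ∈ Subgroup.normalizer (Q : Set G)
  hUn : ∀ x : ZMod p, y * e (algebraMap (ZMod p) F x) * y⁻¹ ∈ Subgroup.normalizer (U : Set G)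

namespace Cfg

variable {G : Type u} [Group G] [Finite G] {F : Type v} [Field F] [Finite F] {p : ℕ}
  [Fact p.Prime] [Algebra (ZMod p) F] (C : Cfg G F p)

/-- Elements of the prime field inside `F`. -/
local notation "ι" => algebraMap (ZMod p) F

theorem e_zero : C.e 0 = 1 := by
  have h := C.e_add 0 0
  rw [add_zero] at h
  exact left_eq_mul.1 h

theorem e_comm (c d : F) : C.e c * C.e d = C.e d * C.e c := by
  rw [← C.e_add, ← C.e_add, add_comm]

theorem e_neg (c : F) : C.e (-c) = (C.e c)⁻¹ :=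
  eq_inv_of_mul_eq_one_left (by rw [← C.e_add, neg_add_cancel, C.e_zero])

theorem U_comm (u v : C.U) : u * v = v * u :=
  C.ψ_inj (by rw [map_mul, map_mul, mul_comm])

theorem ψ_ne_zero (u : C.U) : C.ψ u ≠ 0 := fun h => by
  have h1 := congrArg C.ψ (mul_inv_cancel u)
  rw [map_mul, h, zero_mul, map_one] at h1
  exact zero_ne_one h1

theorem eq_one_of_e_eq {c : F} {u : C.U} (h : C.e c = (u : G)) : u = 1 := by
  apply C.ψ_inj
  rw [map_one]
  have h1 := C.hconj u 1
  rw [← h, mul_one, C.e_comm c 1, mul_inv_cancel_right] at h1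
  exact (C.e_inj h1).symm

/-- The element of `H` with given components. -/
def el (c : F) (u : C.U) : G := C.e c * u

theorem el_inj {c d : F} {u v : C.U} (h : C.el c u = C.el d v) : c = d ∧ u = v := by
  have h1 : C.e (-d + c) = ((v * u⁻¹ : C.U) : G) := by
    rw [C.e_add, C.e_neg, Subgroup.coe_mul, Subgroup.coe_inv, eq_mul_inv_iff_mul_eq, mul_assoc,
      inv_mul_eq_iff_eq_mul]
    exact h
  have h2 := C.eq_one_of_e_eq h1
  rw [mul_inv_eq_one] at h2
  subst h2
  exact ⟨C.e_inj (mul_right_cancel h), rfl⟩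

theorem coe_mul_e (u : C.U) (c : F) : (u : G) * C.e c = C.e (C.ψ u * c) * u := by
  rw [← C.hconj, inv_mul_cancel_right]

theorem el_mul (c d : F) (u v : C.U) : C.el c u * C.el d v = C.el (c + C.ψ u * d) (u * v) := by
  simp only [el, C.e_add, Subgroup.coe_mul]
  rw [mul_assoc, ← mul_assoc (u : G), C.coe_mul_e]
  simp only [mul_assoc]

theorem el_coe (u : C.U) : C.el 0 u = (u : G) := by rw [el, C.e_zero, one_mul]

theorem el_e (c : F) : C.el c 1 = C.e c := by rw [el, Subgroup.coe_one, mul_one]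

theorem coe_mul_el (a : C.U) (c : F) (u : C.U) : (a : G) * C.el c u = C.el (C.ψ a * c) (a * u) := by
  rw [← C.el_coe a, C.el_mul, zero_add]

theorem el_mul_coe (c : F) (u a : C.U) : C.el c u * (a : G) = C.el c (u * a) := by
  rw [← C.el_coe a, C.el_mul, mul_zero, add_zero]

theorem inv_el (c : F) (u : C.U) : (C.el c u)⁻¹ = C.el (-(C.ψ u⁻¹ * c)) u⁻¹ := by
  refine inv_eq_of_mul_eq_one_right ?_
  rw [C.el_mul, mul_inv_cancel, mul_neg, ← mul_assoc, ← map_mul, mul_inv_cancel, map_one, one_mul,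
    add_neg_cancel, C.el_coe, Subgroup.coe_one]

/-- The powers of the generator of `P₀`. -/
def S (x : ZMod p) : G := C.e (ι x)

/-- The powers of the generator of `P₀ ^ y`. -/
def T (x : ZMod p) : G := C.y * C.S x * C.y⁻¹

theorem S_add (x z : ZMod p) : C.S (x + z) = C.S x * C.S z := by
  rw [S, map_add, C.e_add]; rfl

theorem S_zero : C.S 0 = 1 := by rw [S, map_zero, C.e_zero]

theorem S_neg (x : ZMod p) : C.S (-x) = (C.S x)⁻¹ := by rw [S, map_neg, C.e_neg]; rfl

theorem T_add (x z : ZMod p) : C.T (x + z) = C.T x * C.T z := by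
  simp only [T, C.S_add]; group

theorem T_zero : C.T 0 = 1 := by rw [T, C.S_zero]; group

theorem T_neg (x : ZMod p) : C.T (-x) = (C.T x)⁻¹ := by simp only [T, C.S_neg]; group

theorem T_mem (x : ZMod p) : C.T x ∈ Subgroup.normalizer (C.U : Set G) := C.hUn x

/-- The action of `T x` on `U`. -/
def τ (x : ZMod p) : C.U →* C.U where
  toFun u := ⟨C.T x * u * (C.T x)⁻¹, (Subgroup.mem_normalizer_iff.1 (C.T_mem x) u).1 u.2⟩
  map_one' := Subtype.ext (by simp)
  map_mul' u v := Subtype.ext (by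
    show C.T x * ((u : G) * v) * (C.T x)⁻¹ = C.T x * u * (C.T x)⁻¹ * (C.T x * v * (C.T x)⁻¹)
    group)

theorem T_mul_coe (x : ZMod p) (u : C.U) : C.T x * u = (C.τ x u : G) * C.T x := by
  show C.T x * u = C.T x * u * (C.T x)⁻¹ * C.T x
  rw [inv_mul_cancel_right]

theorem coe_mul_T (x : ZMod p) (u : C.U) : (u : G) * C.T x = C.T x * (C.τ (-x) u : G) := by
  show (u : G) * C.T x = C.T x * (C.T (-x) * u * (C.T (-x))⁻¹)
  rw [C.T_neg]; group

theorem τ_add (x z : ZMod p) (u : C.U) : C.τ (x + z) u = C.τ x (C.τ z u) := by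
  apply Subtype.ext
  show C.T (x + z) * u * (C.T (x + z))⁻¹ = C.T x * (C.T z * u * (C.T z)⁻¹) * (C.T x)⁻¹
  rw [C.T_add]; group

theorem τ_zero (u : C.U) : C.τ 0 u = u := by
  apply Subtype.ext
  show C.T 0 * (u : G) * (C.T 0)⁻¹ = u
  rw [C.T_zero]; group

theorem card_F : Nat.card F = p ^ C.q := by
  rw [Module.natCard_eq_pow_finrank (K := ZMod p), Nat.card_zmod, C.hFq]

theorem U_coprime : (Nat.card C.U).Coprime p := by
  rw [Nat.coprime_comm, (Fact.out : p.Prime).coprime_iff_not_dvd]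
  intro h
  have h1 : p ∣ p ^ C.q - 1 := C.hU ▸ h.mul_right _
  have h2 : p ∣ p ^ C.q := dvd_pow_self p C.hq.ne_zero
  have h3 : 1 ≤ p ^ C.q := Nat.one_le_pow _ _ (Fact.out : p.Prime).pos
  have := Nat.dvd_sub h2 h1
  rw [Nat.sub_sub_self h3, Nat.dvd_one] at this
  exact (Fact.out : p.Prime).ne_one this

include C in
theorem two_ne : (2 : ZMod p) ≠ 0 := fun h => by
  have h2 : ((2 : ℕ) : ZMod p) = 0 := by exact_mod_cast h
  have h3 : p ∣ 2 := (ZMod.natCast_eq_zero_iff 2 p).1 h2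
  have := Nat.le_of_dvd two_pos h3
  have := C.hq.two_le
  have := C.hqp
  omega

include C in
theorem two_ne' : (2 : F) ≠ 0 := by
  rw [← map_ofNat ι 2, map_ne_zero]
  exact C.two_ne

theorem eq_one_of_ψ_prime {u : C.U} {k : ZMod p} (h : C.ψ u = ι k) : u = 1 := by
  have hk : k ≠ 0 := fun h0 => C.ψ_ne_zero u (by rw [h, h0, map_zero])
  have h1 : u ^ (p - 1) = 1 := C.ψ_inj (by
    rw [map_pow, h, ← map_pow, ZMod.pow_card_sub_one_eq_one hk, map_one, map_one])
  exact orderOf_eq_one_iff.1 (Nat.eq_one_of_dvd_coprimes C.hcop (orderOf_dvd_natCard u)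
    (orderOf_dvd_of_pow_eq_one h1))

theorem decomp {c : F} (hc : c ≠ 0) : ∃ (k : ZMod p) (u : C.U), c = ι k * C.ψ u := by
  let g : (ZMod p)ˣ × C.U → Fˣ := fun z =>
    Units.mk0 (ι (z.1 : ZMod p) * C.ψ z.2)
      (mul_ne_zero (by simpa using z.1.ne_zero) (C.ψ_ne_zero _))
  have hinj : Function.Injective g := by
    rintro ⟨k, u⟩ ⟨l, v⟩ h
    have h1 : ι (k : ZMod p) * C.ψ u = ι (l : ZMod p) * C.ψ v := congrArg Units.val h
    have h2 : C.ψ (u * v⁻¹) = ι ((k : ZMod p)⁻¹ * l) := by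
      have hv : C.ψ v * C.ψ v⁻¹ = 1 := by rw [← map_mul, mul_inv_cancel, map_one]
      have hk : ι (k : ZMod p) ≠ 0 := by simp
      rw [map_mul, map_mul, map_inv₀]
      field_simp
      linear_combination C.ψ v⁻¹ * h1 + ι (l : ZMod p) * hv
    have h3 := mul_inv_eq_one.1 (C.eq_one_of_ψ_prime h2)
    subst h3
    have h4 := mul_right_cancel₀ (C.ψ_ne_zero u) h1
    exact Prod.ext (Units.ext ((algebraMap (ZMod p) F).injective h4)) rfl
  have hcard : Nat.card ((ZMod p)ˣ × C.U) = Nat.card Fˣ := by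
    rw [Nat.card_prod, Nat.card_units, Nat.card_units, Nat.card_zmod, C.card_F, mul_comm, C.hU]
  obtain ⟨z, hz⟩ := (hinj.bijective_of_nat_card_le hcard.ge).2 (Units.mk0 c hc)
  exact ⟨z.1, z.2, (congrArg Units.val hz).symm⟩

theorem exists_ne_one : ∃ u : C.U, u ≠ 1 := by
  by_contra h
  push Not at h
  have : Nat.card C.U = 1 := Nat.card_eq_one_iff_exists.2 ⟨1, h⟩
  have h1 := C.hU
  rw [this, one_mul] at h1
  have h2 : p < p ^ C.q := by
    calc p = p ^ 1 := (pow_one p).symm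
      _ < p ^ C.q := Nat.pow_lt_pow_right (Fact.out : p.Prime).one_lt C.hq.one_lt
  have := (Fact.out : p.Prime).two_le
  omega

theorem y_mul_inv_mem {x : ZMod p} : C.T x * (C.S x)⁻¹ ∈ C.Q := by
  have h : C.T x * (C.S x)⁻¹ = C.y * (C.S x * C.y⁻¹ * (C.S x)⁻¹) := by simp only [T]; group
  rw [h]
  exact mul_mem C.hy ((Subgroup.mem_normalizer_iff.1 (C.hQn x) _).1 (inv_mem C.hy))

theorem eq_one_of_pow_p {g : G} (hg : g ∈ C.Q) (h : g ^ p = 1) : g = 1 :=
  orderOf_eq_one_iff.1 (Nat.eq_one_of_dvd_coprimes C.hQp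
    (C.Q.orderOf_dvd_natCard hg) (orderOf_dvd_of_pow_eq_one h))

theorem S_pow (x : ZMod p) : C.S x ^ p = 1 := by
  have h : ∀ n : ℕ, C.S x ^ n = C.S ((n : ZMod p) * x) := by
    intro n
    induction n with
    | zero => simp [C.S_zero]
    | succ n ih => rw [pow_succ, ih, ← C.S_add]; push_cast; ring_nf
  rw [h, ZMod.natCast_self, zero_mul, C.S_zero]

theorem T_ne_S {k : ZMod p} (hk : k ≠ 0) : C.T k ≠ C.S k := by
  intro h
  obtain ⟨u, hu⟩ := C.exists_ne_one
  have hm : C.T k * u * (C.T k)⁻¹ ∈ C.U := (C.τ k u).2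
  rw [h] at hm
  have h1 : C.S k * u * (C.S k)⁻¹ = C.el (ι k + C.ψ u * -ι k) u := by
    show C.e (ι k) * u * (C.e (ι k))⁻¹ = _
    rw [← C.e_neg, ← C.el_e (-ι k)]
    show C.el (ι k) u * _ = _
    rw [C.el_mul, mul_one]
  rw [h1] at hm
  have h2 := (C.el_inj (u := u) (v := ⟨_, hm⟩) (d := 0) (C.el_coe ⟨_, hm⟩).symm).1
  have h3 : ι k * (1 - C.ψ u) = 0 := by linear_combination h2
  rcases mul_eq_zero.1 h3 with h4 | h4
  · exact hk ((map_eq_zero _).1 h4)
  · exact hu (C.ψ_inj (by rw [map_one]; exact (sub_eq_zero.1 h4).symm))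

/-- `H ∩ H ^ t = U`. -/
theorem tiH {k : ZMod p} (hk : k ≠ 0) {c d : F} {u v : C.U}
    (h : C.T k * C.el c u * (C.T k)⁻¹ = C.el d v) : c = 0 := by
  by_contra hc
  have hpp : p.Prime := Fact.out
  set R : Set F := {x | ∃ d v, C.T k * C.e x * (C.T k)⁻¹ = C.el d v}
  have hR0 : c ∈ R := by
    refine ⟨d, v * C.τ k u⁻¹, ?_⟩
    rw [← C.el_mul_coe, ← h]
    show _ = C.T k * (C.e c * u) * (C.T k)⁻¹ * (C.T k * ((u⁻¹ : C.U) : G) * (C.T k)⁻¹)
    rw [Subgroup.coe_inv]; group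
  have hRadd : ∀ x ∈ R, ∀ z ∈ R, x + z ∈ R := by
    rintro x ⟨d1, v1, h1⟩ z ⟨d2, v2, h2⟩
    refine ⟨d1 + C.ψ v1 * d2, v1 * v2, ?_⟩
    rw [← C.el_mul, ← h1, ← h2, C.e_add]; group
  have hRzero : (0 : F) ∈ R := ⟨0, 1, by rw [C.e_zero, C.el_coe, Subgroup.coe_one]; group⟩
  have hRU : ∀ x ∈ R, ∀ a : C.U, C.ψ a * x ∈ R := by
    rintro x ⟨d1, v1, h1⟩ a
    refine ⟨C.ψ (C.τ k a) * d1, C.τ k a * v1 * (C.τ k a)⁻¹, ?_⟩
    rw [← C.el_mul_coe, ← C.coe_mul_el, ← C.hconj, ← h1, Subgroup.coe_inv]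
    show _ = C.T k * a * (C.T k)⁻¹ * _ * (C.T k * a * (C.T k)⁻¹)⁻¹
    group
  have hRnat : ∀ (n : ℕ), ∀ x ∈ R, (n : F) * x ∈ R := by
    intro n x hx
    induction n with
    | zero => simpa using hRzero
    | succ n ih => push_cast; rw [add_mul, one_mul]; exact hRadd _ ih _ hx
  have hRall : ∀ x, x ∈ R := by
    intro x
    rcases eq_or_ne x 0 with rfl | hx
    · exact hRzero
    obtain ⟨l, a, hl⟩ := C.decomp (div_ne_zero hx hc)
    rw [div_eq_iff hc] at hl
    have := hRnat l.val _ (hRU c hR0 a)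
    rw [← map_natCast ι, ZMod.natCast_zmod_val, ← mul_assoc, ← hl] at this
    exact this
  -- `T k` normalizes `P`
  have hnorm : ∀ x, ∃ d, C.T k * C.e x * (C.T k)⁻¹ = C.e d := by
    intro x
    obtain ⟨d, v, hdv⟩ := hRall x
    have hpow : ∀ n : ℕ, ∃ d', C.el d v ^ n = C.el d' (v ^ n) := by
      intro n
      induction n with
      | zero => exact ⟨0, by rw [pow_zero, pow_zero, C.el_coe, Subgroup.coe_one]⟩
      | succ n ih =>
        obtain ⟨d', h'⟩ := ih
        exact ⟨d' + C.ψ (v ^ n) * d, by rw [pow_succ, h', C.el_mul, pow_succ]⟩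
    obtain ⟨d', h'⟩ := hpow p
    have hex : C.e x ^ p = 1 := by
      have hn : ∀ n : ℕ, C.e x ^ n = C.e ((n : F) * x) := by
        intro n
        induction n with
        | zero => simp [C.e_zero]
        | succ n ih => rw [pow_succ, ih, ← C.e_add]; push_cast; ring_nf
      rw [hn, ← map_natCast ι, ZMod.natCast_self, map_zero, zero_mul, C.e_zero]
    rw [← hdv, conj_pow, hex, mul_one, mul_inv_cancel] at h'
    have hv : v ^ p = 1 := ((C.el_inj (c := 0) (u := 1)
      (by rw [C.el_coe, Subgroup.coe_one]; exact h')).2).symm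
    have hv1 : v = 1 := orderOf_eq_one_iff.1 (Nat.eq_one_of_dvd_coprimes C.U_coprime
      (orderOf_dvd_natCard v) (orderOf_dvd_of_pow_eq_one hv))
    exact ⟨d, by rw [hdv, hv1, C.el_e]⟩
  choose L hL using hnorm
  have hLadd : ∀ x z, L (x + z) = L x + L z := fun x z => C.e_inj (by
    rw [← hL, C.e_add, C.e_add, ← hL, ← hL]; group)
  have hLψ : ∀ (a : C.U) x, L (C.ψ a * x) = C.ψ (C.τ k a) * L x := fun a x => C.e_inj (by
    rw [← hL, ← C.hconj, ← C.hconj, ← hL]
    show _ = C.T k * a * (C.T k)⁻¹ * _ * (C.T k * a * (C.T k)⁻¹)⁻¹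
    group)
  have hL0 : L 0 = 0 := by simpa using hLadd 0 0
  have hLnat : ∀ (n : ℕ) x, L ((n : F) * x) = (n : F) * L x := by
    intro n x
    induction n with
    | zero => simpa using hL0
    | succ n ih => push_cast; rw [add_mul, add_mul, one_mul, one_mul, hLadd, ih]
  have hLι : ∀ (l : ZMod p) x, L (ι l * x) = ι l * L x := fun l x => by
    rw [← ZMod.natCast_zmod_val l, map_natCast]; exact hLnat _ _
  set κ := L 1 with hκ
  have hκ0 : κ ≠ 0 := fun h0 => by
    have h2 := hL 1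
    rw [← hκ, h0, C.e_zero, conj_eq_one_iff, ← C.e_zero] at h2
    exact one_ne_zero (C.e_inj h2)
  let M : F →+* F :=
    { toFun := fun x => L x / κ
      map_one' := div_self hκ0
      map_zero' := by rw [hL0, zero_div]
      map_add' := fun x z => by rw [hLadd, add_div]
      map_mul' := fun x z => by
        rcases eq_or_ne x 0 with rfl | hx
        · simp [hL0]
        obtain ⟨l, a, rfl⟩ := C.decomp hx
        have h2 : L (C.ψ a) = C.ψ (C.τ k a) * κ := by
          rw [hκ, ← hLψ, mul_one]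
        rw [mul_assoc, hLι, hLψ, hLι, h2]
        field_simp }
  have hMψ : ∀ a : C.U, M (C.ψ a) = C.ψ (C.τ k a) := fun a => by
    show L (C.ψ a) / κ = _
    rw [div_eq_iff hκ0, hκ, ← hLψ, mul_one]
  have hMc : ∀ l, M (ι l) = ι l := fun l => by
    show L (ι l) / κ = ι l
    rw [div_eq_iff hκ0, hκ, ← hLι, mul_one]
  let Ma : F →ₐ[ZMod p] F := { M with commutes' := hMc }
  let Me : F ≃ₐ[ZMod p] F := AlgEquiv.ofBijective Ma
    (Finite.injective_iff_bijective.1 Ma.toRingHom.injective)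
  have hMe : ∀ x, Me x = M x := fun _ => rfl
  have hiter : ∀ (n : ℕ) (a : C.U), (Me ^ n) (C.ψ a) = C.ψ (C.τ ((n : ZMod p) * k) a) := by
    intro n a
    induction n with
    | zero => simp [C.τ_zero]
    | succ n ih =>
      rw [pow_succ', AlgEquiv.mul_apply, ih, hMe, hMψ, ← C.τ_add]
      push_cast
      ring_nf
  have hMp : Me ^ p = 1 := by
    ext x
    rcases eq_or_ne x 0 with rfl | hx
    · simp
    obtain ⟨l, a, rfl⟩ := C.decomp hx
    rw [map_mul, hiter, ZMod.natCast_self, zero_mul, C.τ_zero, AlgEquiv.commutes]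
    rfl
  have hMe1 : Me = 1 := by
    have : FiniteDimensional (ZMod p) F := Module.finite_of_finrank_pos (C.hFq ▸ C.hq.pos)
    have h2 : orderOf Me ∣ C.q := by
      rw [← C.hFq, ← IsGalois.card_aut_eq_finrank]
      exact orderOf_dvd_natCard Me
    exact orderOf_eq_one_iff.1 (Nat.eq_one_of_dvd_coprimes
      ((Nat.coprime_primes hpp C.hq).2 (Nat.ne_of_gt C.hqp))
      (orderOf_dvd_of_pow_eq_one hMp) h2)
  have hLlin : ∀ x, L x = κ * x := fun x => by
    have h2 := hMe x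
    rw [hMe1] at h2
    have h3 : x = L x / κ := h2
    rw [eq_div_iff hκ0] at h3
    linear_combination -h3
  have hκp : κ ^ p = 1 := by
    have hn : ∀ n : ℕ, C.T ((n : ZMod p) * k) * C.e 1 * (C.T ((n : ZMod p) * k))⁻¹ = C.e (κ ^ n) := by
      intro n
      induction n with
      | zero => simp [C.T_zero]
      | succ n ih =>
        rw [pow_succ', ← hLlin, ← hL, ← ih]
        push_cast
        rw [add_mul, one_mul, add_comm, C.T_add]; group
    have h2 := hn p
    rw [ZMod.natCast_self, zero_mul, C.T_zero, one_mul, inv_one, mul_one] at h2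
    exact (C.e_inj h2).symm
  have hκ1 : κ = 1 := by
    have : CharP F p := charP_of_injective_algebraMap (algebraMap (ZMod p) F).injective p
    have h2 : (κ - 1) ^ p = 0 := by rw [sub_pow_char, hκp, one_pow, sub_self]
    exact sub_eq_zero.1 (pow_eq_zero_iff hpp.ne_zero |>.1 h2)
  have hcomm : C.T k * C.e (ι k) = C.e (ι k) * C.T k := by
    have h2 := hL (ι k)
    rw [hLlin, hκ1, one_mul, mul_inv_eq_iff_eq_mul] at h2
    exact h2
  apply C.T_ne_S hk
  have hc2 : Commute (C.T k) (C.S k)⁻¹ := Commute.inv_right hcomm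
  have h3 : (C.T k * (C.S k)⁻¹) ^ p = 1 := by
    rw [hc2.mul_pow, inv_pow, C.S_pow, inv_one, mul_one, show C.T k = C.y * C.S k * C.y⁻¹ from rfl,
      conj_pow, C.S_pow, mul_one, mul_inv_cancel]
  exact mul_inv_eq_one.1 (C.eq_one_of_pow_p C.y_mul_inv_mem h3)

/-- Conjugation of `Q` by `S x`. -/
def σ (x : ZMod p) : C.Q →* C.Q where
  toFun a := ⟨C.S x * a * (C.S x)⁻¹, (Subgroup.mem_normalizer_iff.1 (C.hQn x) a).1 a.2⟩
  map_one' := Subtype.ext (by simp)
  map_mul' a b := Subtype.ext (by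
    show C.S x * ((a : G) * b) * (C.S x)⁻¹ = C.S x * a * (C.S x)⁻¹ * (C.S x * b * (C.S x)⁻¹)
    group)

/-- The translates of `y`. -/
def Y (x : ZMod p) : C.Q := C.σ x ⟨C.y, C.hy⟩

/-- An element of `Q ⋊ P₀`. -/
def E (a : C.Q) (x : ZMod p) : G := (a : G) * C.S x

theorem σ_Y (x z : ZMod p) : C.σ x (C.Y z) = C.Y (x + z) := by
  apply Subtype.ext
  show C.S x * (C.S z * C.y * (C.S z)⁻¹) * (C.S x)⁻¹ = C.S (x + z) * C.y * (C.S (x + z))⁻¹
  rw [C.S_add]; group

theorem E_mul (a b : C.Q) (x z : ZMod p) : C.E a x * C.E b z = C.E (a * C.σ x b) (x + z) := by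
  show (a : G) * C.S x * ((b : G) * C.S z) = (a : G) * (C.S x * b * (C.S x)⁻¹) * C.S (x + z)
  rw [C.S_add]; group

theorem E_S (x : ZMod p) : C.S x = C.E 1 x := by simp [E]

theorem E_T (x : ZMod p) : C.T x = C.E (C.Y 0 * (C.Y x)⁻¹) x := by
  show C.y * C.S x * C.y⁻¹ = C.S 0 * C.y * (C.S 0)⁻¹ * (C.S x * C.y * (C.S x)⁻¹)⁻¹ * C.S x
  rw [C.S_zero]; group

theorem E_inj {a b : C.Q} {x z : ZMod p} (h : C.E a x = C.E b z) : a = b ∧ x = z := by
  have h1 : C.S (x - z) = ((a⁻¹ * b : C.Q) : G) := by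
    rw [sub_eq_add_neg, C.S_add, C.S_neg, Subgroup.coe_mul, Subgroup.coe_inv,
      mul_inv_eq_iff_eq_mul, mul_assoc, eq_inv_mul_iff_mul_eq]
    exact h
  have h2 : C.S (x - z) = 1 := by
    refine C.eq_one_of_pow_p ?_ (C.S_pow _)
    rw [h1]; exact (a⁻¹ * b).2
  have hxz : x = z := by
    have h3 : C.e (ι (x - z)) = C.e 0 := h2.trans C.e_zero.symm
    exact sub_eq_zero.1 ((map_eq_zero _).1 (C.e_inj h3))
  subst hxz
  exact ⟨Subtype.ext (mul_right_cancel h), rfl⟩

/-- The commutation identity coming from the commutativity of `Q`. -/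
theorem TST (a b c : ZMod p) (h : a + b + c = 0) :
    C.T a * C.S b * C.T c = C.S (-c) * C.T (-b) * C.S (-a) := by
  letI : CommGroup C.Q := { (inferInstance : Group C.Q) with
    mul_comm := fun u v => Subtype.ext (C.hQc _ u.2 _ v.2) }
  have hc : c = -(a + b) := by linear_combination h
  subst hc
  simp only [C.E_T, C.E_S, C.E_mul, map_mul, map_inv, map_one, C.σ_Y]
  congr 1
  · simp only [add_zero, neg_neg, mul_one, one_mul, add_neg_cancel, add_neg_cancel_right]
    simp [mul_comm, mul_left_comm]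
  · ring

/-- A relation `t^(-l) s^n t^(-l) = s^β t^(-2l) s^γ` forces `β = l`. -/
theorem rule_forces {l n β γ : ZMod p} (hl : l ≠ 0) (hγ : γ ≠ 0)
    (h : C.T (-l) * C.S n * C.T (-l) = C.S β * C.T (-(2 * l)) * C.S γ) : β = l := by
  letI : CommGroup C.Q := { (inferInstance : Group C.Q) with
    mul_comm := fun u v => Subtype.ext (C.hQc _ u.2 _ v.2) }
  rw [C.E_T (-l), C.E_T (-(2 * l)), C.E_S n, C.E_S β, C.E_S γ] at h
  simp only [C.E_mul, map_mul, map_inv, map_one, C.σ_Y, mul_one, one_mul] at h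
  obtain ⟨hQ, hP⟩ := C.E_inj h
  have hn : n = β + γ := by linear_combination hP
  set c : C.Q := C.Y 0 * C.Y (n - l) * (C.Y β * C.Y (β - l))⁻¹ with hc
  have hfix : C.σ (-l) c = c := by
    have e1 : -l + n + 0 = n - l := by ring
    have e2 : -l + n + -l = n - 2 * l := by ring
    have e3 : β + 0 = β := add_zero β
    have e4 : β + -(2 * l) = β - 2 * l := by ring
    simp only [e1, e2, e3, e4] at hQ
    simp only [hc, map_mul, map_inv, C.σ_Y, add_zero]
    rw [show -l + (n - l) = n - 2 * l by ring, show -l + β = β - l by ring,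
      show -l + (β - l) = β - 2 * l by ring]
    exact comm_aux (by simpa [mul_comm, mul_left_comm, mul_assoc] using hQ)
  have hσadd : ∀ (x z : ZMod p) (a : C.Q), C.σ (x + z) a = C.σ x (C.σ z a) := fun x z a => by
    apply Subtype.ext
    show C.S (x + z) * a * (C.S (x + z))⁻¹ = C.S x * (C.S z * a * (C.S z)⁻¹) * (C.S x)⁻¹
    rw [C.S_add]; group
  have hfixall : ∀ x, C.σ x c = c := by
    have h1 : ∀ i : ℕ, C.σ ((i : ZMod p) * -l) c = c := by
      intro i
      induction i with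
      | zero =>
        apply Subtype.ext
        show C.S _ * (c : G) * (C.S _)⁻¹ = c
        simp [C.S_zero]
      | succ i ih => push_cast; rw [add_mul, one_mul, hσadd, hfix, ih]
    intro x
    have := h1 (x / -l).val
    rwa [ZMod.natCast_zmod_val, div_mul_cancel₀ _ (neg_ne_zero.2 hl)] at this
  have hcp : c ^ p = 1 := by
    have h1 : ∏ x : ZMod p, C.σ x c = c ^ p := by
      rw [Finset.prod_congr rfl (fun x _ => hfixall x), Finset.prod_const, Finset.card_univ,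
        ZMod.card]
    rw [← h1, hc]
    simp only [map_mul, map_inv, C.σ_Y, add_zero, Finset.prod_mul_distrib, Finset.prod_inv_distrib]
    have e : ∀ z : ZMod p, ∏ x, C.Y (x + z) = ∏ x, C.Y x := fun z =>
      Equiv.prod_comp (Equiv.addRight z) (fun x => C.Y x)
    rw [e, e, e, mul_inv_cancel]
  have hc1 : c = 1 := Subtype.ext (C.eq_one_of_pow_p c.2 (congrArg Subtype.val hcp))
  have hkey : C.T (β - l) = C.S β * C.T (γ - l) * C.S (-γ) := by
    rw [C.E_T, C.E_T, C.E_S β, C.E_S (-γ)]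
    simp only [C.E_mul, map_mul, map_inv, map_one, C.σ_Y, mul_one, one_mul, add_zero]
    congr 1
    · rw [hc, mul_inv_eq_one] at hc1
      rw [show β + (γ - l) = n - l by rw [hn]; ring]
      rw [mul_inv_eq_iff_eq_mul, mul_right_comm, eq_mul_inv_iff_mul_eq]
      exact hc1
    · ring
  by_cases hf : γ - l = 0
  · rw [hf, C.T_zero, mul_one, ← C.S_add] at hkey
    by_contra hne
    refine C.T_ne_S (sub_ne_zero.2 hne) ?_
    rw [hkey]
    congr 1
    linear_combination -hf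
  · exfalso
    obtain ⟨u, hu⟩ := C.exists_ne_one
    set v := C.τ (β - l) u with hv
    -- `T (γ - l)` maps `S (-γ) u S γ` into `H`
    have h1 : C.T (γ - l) * (C.S (-γ) * u * C.S γ) * (C.T (γ - l))⁻¹ = C.S (-β) * v * C.S β := by
      have h2 : (v : G) = C.T (β - l) * u * (C.T (β - l))⁻¹ := rfl
      rw [h2, hkey, C.S_neg γ, C.S_neg β]; group
    have hl1 : C.S (-γ) * u * C.S γ = C.el (ι (-γ) + C.ψ u * ι γ) u := by
      show C.e _ * u * C.e _ = _
      rw [← C.el_e (ι γ)]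
      show C.el _ u * _ = _
      rw [C.el_mul, mul_one]
    have hr1 : C.S (-β) * v * C.S β = C.el (ι (-β) + C.ψ v * ι β) v := by
      show C.e _ * v * C.e _ = _
      rw [← C.el_e (ι β)]
      show C.el _ v * _ = _
      rw [C.el_mul, mul_one]
    rw [hl1, hr1] at h1
    have h0 := C.tiH hf h1
    have h3 : ι γ * (C.ψ u - 1) = 0 := by rw [map_neg] at h0; linear_combination h0
    rcases mul_eq_zero.1 h3 with h4 | h4
    · exact hγ ((map_eq_zero _).1 h4)
    · exact hu (C.ψ_inj (by rw [map_one]; exact sub_eq_zero.1 h4))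

/-- The relation coming from `s^l w s^l = u⁻¹ s^(2l) v`. -/
theorem block_eq {u v w : C.U} (hw : u * w = v) (huv : C.ψ u + C.ψ v = 2) (l : ZMod p) :
    C.T (-l) * C.el (1 + ι (2 * l - 1) * C.ψ (C.τ (l - 1) w)) (C.τ (l - 1) w) * C.T (-l) =
      C.el (ι (1 - l) + ι (2 * l - 1) * C.ψ (C.τ (-1) u⁻¹)) (C.τ (-1) u⁻¹) * C.T (-(2 * l)) *
        C.el (1 + ι (l - 1) * C.ψ (C.τ (2 * l - 1) v)) (C.τ (2 * l - 1) v) := by
  have hel : ∀ (a b : ZMod p) (z : C.U),
      C.el (ι a + ι b * C.ψ z) z = C.S a * (z : G) * C.S b := by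
    intro a b z
    show _ = C.e _ * z * C.e _
    rw [← C.el_e (ι b)]
    show _ = C.el _ z * _
    rw [C.el_mul, mul_one, mul_comm (C.ψ z)]
  have h1 : (1 : F) = ι 1 := (map_one _).symm
  rw [h1, hel, hel, hel]
  have hR : C.S l * (w : G) * C.S l = (u⁻¹ : C.U) * C.S (2 * l) * (v : G) := by
    rw [← hel]
    show _ = ((u⁻¹ : C.U) : G) * C.e (ι (2 * l)) * v
    rw [C.coe_mul_e, mul_assoc, ← Subgroup.coe_mul, ← hw, inv_mul_cancel_left]
    show C.el _ _ = C.el _ _
    congr 1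
    have h4 : C.ψ u * C.ψ u⁻¹ = 1 := by rw [← map_mul, mul_inv_cancel, map_one]
    have h5 : C.ψ v = C.ψ u * C.ψ w := by rw [← map_mul, hw]
    rw [map_mul ι, map_ofNat]
    linear_combination (ι l * (C.ψ u⁻¹)) * huv - (ι l * C.ψ u⁻¹) * h5
      - ι l * (1 + C.ψ w) * h4
  have hA : (C.τ (l - 1) w : G) = C.T (l - 1) * w * C.T (1 - l) := by
    show C.T (l - 1) * w * (C.T (l - 1))⁻¹ = _
    rw [← C.T_neg, neg_sub]
  rw [hA]
  have e1 : C.T (-l) * C.S 1 * C.T (l - 1) = C.S (1 - l) * C.T (-1) * C.S l := by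
    rw [C.TST _ _ _ (by ring), neg_sub, neg_neg]
  have e2 : C.T (1 - l) * C.S (2 * l - 1) * C.T (-l) =
      C.S l * C.T (1 - 2 * l) * C.S (l - 1) := by
    rw [C.TST _ _ _ (by ring), neg_neg, neg_sub, neg_sub]
  have e3 : C.T (-1) * C.S (2 * l) * C.T (1 - 2 * l) =
      C.S (2 * l - 1) * C.T (-(2 * l)) * C.S 1 := by
    rw [C.TST _ _ _ (by ring), neg_sub, neg_neg]
  calc C.T (-l) * (C.S 1 * (C.T (l - 1) * w * C.T (1 - l)) * C.S (2 * l - 1)) * C.T (-l)
      = (C.T (-l) * C.S 1 * C.T (l - 1)) * w *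
          (C.T (1 - l) * C.S (2 * l - 1) * C.T (-l)) := by group
    _ = C.S (1 - l) * C.T (-1) * (C.S l * w * C.S l) * C.T (1 - 2 * l) * C.S (l - 1) := by
        rw [e1, e2]; group
    _ = C.S (1 - l) * (C.T (-1) * (u⁻¹ : C.U)) * C.S (2 * l) * ((v : G) * C.T (1 - 2 * l)) *
          C.S (l - 1) := by rw [hR]; group
    _ = C.S (1 - l) * (C.τ (-1) u⁻¹ : G) * (C.T (-1) * C.S (2 * l) * C.T (1 - 2 * l)) *
          (C.τ (2 * l - 1) v : G) * C.S (l - 1) := by
        rw [C.T_mul_coe (-1) u⁻¹, C.coe_mul_T (1 - 2 * l) v, neg_sub]; group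
    _ = _ := by rw [e3]; group

theorem value_ne_zero {a b : ZMod p} {z : C.U} (hz : z ≠ 1) (hab : a + b ≠ 0 ∨ b ≠ 0)
    (hsum : a ≠ 0 ∨ b ≠ 0) : ι a + ι b * C.ψ z ≠ 0 := by
  intro h
  by_cases hb : b = 0
  · rw [hb, map_zero, zero_mul, add_zero, map_eq_zero] at h
    exact hsum.elim (fun ha => ha h) (fun hb' => hb' hb)
  · refine hz (C.eq_one_of_ψ_prime (k := -a / b) ?_)
    rw [map_div₀, map_neg, eq_div_iff (by simpa using hb)]
    linear_combination h

theorem τ_ne_one (x : ZMod p) {u : C.U} (hu : u ≠ 1) : C.τ x u ≠ 1 := fun h => hu (by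
  have h1 := C.τ_add (-x) x u
  rwa [neg_add_cancel, C.τ_zero, h, map_one] at h1)

open Polynomial in
theorem mem_prime_of_frob {c : F} (h : c ^ p = c) : ∃ k : ZMod p, c = ι k := by
  classical
  have := Fintype.ofFinite F
  by_contra hk
  push Not at hk
  have hpp : p.Prime := Fact.out
  open Polynomial in
  have hle : (insert c ((Finset.univ : Finset (ZMod p)).image ι)).card ≤ p := by
    refine le_trans (Finset.card_le_card (t := (X ^ p - X : F[X]).roots.toFinset) ?_) ?_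
    · intro x hx
      rw [Multiset.mem_toFinset, mem_roots (FiniteField.X_pow_card_sub_X_ne_zero F hpp.one_lt)]
      rcases Finset.mem_insert.1 hx with rfl | hx
      · simp [h]
      · obtain ⟨k, -, rfl⟩ := Finset.mem_image.1 hx
        simp [← map_pow, ZMod.pow_card]
    · refine (Multiset.toFinset_card_le _).trans ((card_roots' _).trans ?_)
      rw [FiniteField.X_pow_card_sub_X_natDegree_eq F hpp.one_lt]
  rw [Finset.card_insert_of_notMem (by
      intro hx
      obtain ⟨k, -, hkc⟩ := Finset.mem_image.1 hx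
      exact hk k hkc.symm),
    Finset.card_image_of_injective _ (algebraMap (ZMod p) F).injective, Finset.card_univ,
    ZMod.card] at hle
  omega

/-- The main consequence: the value of the middle block is `l` times a norm-one element. -/
theorem block_value {u v : C.U} (hu : u ≠ 1) (huv : C.ψ u + C.ψ v = 2) {l : ZMod p} (hl : l ≠ 0) :
    ∃ a : C.U, ι (1 - l) + ι (2 * l - 1) * C.ψ (C.τ (-1) u⁻¹) = ι l * C.ψ a := by
  have hpp : p.Prime := Fact.out
  set w := u⁻¹ * v with hwdef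
  have hw : u * w = v := mul_inv_cancel_left u v
  have hv : v ≠ 1 := fun h => hu (C.ψ_inj (by
    rw [h, map_one] at huv; rw [map_one]; linear_combination huv))
  have hw1 : w ≠ 1 := fun h => by
    rw [h, mul_one] at hw
    rw [← hw] at huv
    exact hu (C.ψ_inj (mul_left_cancel₀ C.two_ne' (by rw [map_one]; linear_combination huv)))
  set A := 1 + ι (2 * l - 1) * C.ψ (C.τ (l - 1) w) with hA
  set W := C.τ (l - 1) w with hWdef
  set B := ι (1 - l) + ι (2 * l - 1) * C.ψ (C.τ (-1) u⁻¹) with hB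
  set Uu := C.τ (-1) u⁻¹ with hUu
  set D := 1 + ι (l - 1) * C.ψ (C.τ (2 * l - 1) v) with hD
  set V := C.τ (2 * l - 1) v with hVdef
  have hA0 : A ≠ 0 := by
    rw [hA, ← map_one ι]
    exact C.value_ne_zero (C.τ_ne_one _ hw1)
      (Or.inl (by rw [add_sub_cancel]; exact mul_ne_zero C.two_ne hl)) (Or.inl one_ne_zero)
  have hD0 : D ≠ 0 := by
    rw [hD, ← map_one ι]
    exact C.value_ne_zero (C.τ_ne_one _ hv) (Or.inl (by rwa [add_sub_cancel])) (Or.inl one_ne_zero)
  obtain ⟨n, α, hn⟩ := C.decomp hA0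
  -- the equation, and its image under the field automorphism
  have hsplit : ∀ (c : F) (z a : C.U), c = ι n * C.ψ a →
      C.T (-l) * C.el c z * C.T (-l) =
        (C.τ (-l) a : G) * (C.T (-l) * C.S n * C.T (-l)) * (C.τ l (a⁻¹ * z) : G) := by
    intro c z a hc
    have h1 : C.el c z = (a : G) * C.S n * (a⁻¹ * z : C.U) := by
      show _ = (a : G) * C.e (ι n) * _
      rw [C.coe_mul_e, mul_assoc, ← Subgroup.coe_mul, mul_inv_cancel_left, hc, mul_comm]
      rfl
    rw [h1]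
    calc C.T (-l) * ((a : G) * C.S n * (a⁻¹ * z : C.U)) * C.T (-l)
        = (C.T (-l) * a) * C.S n * (((a⁻¹ * z : C.U) : G) * C.T (-l)) := by group
      _ = _ := by rw [C.T_mul_coe (-l) a, C.coe_mul_T (-l) (a⁻¹ * z), neg_neg]; group
  set a' := C.τ (-l) α with ha'
  set z' := C.τ l (α⁻¹ * W) with hz'
  have hE : ∀ (u' v' : C.U), C.ψ u' + C.ψ v' = 2 →
      ∀ (α' : C.U), 1 + ι (2 * l - 1) * C.ψ (C.τ (l - 1) (u'⁻¹ * v')) = ι n * C.ψ α' →
      C.T (-l) * C.S n * C.T (-l) =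
        C.el (C.ψ (C.τ (-l) α')⁻¹ * (ι (1 - l) + ι (2 * l - 1) * C.ψ (C.τ (-1) u'⁻¹)))
          ((C.τ (-l) α')⁻¹ * C.τ (-1) u'⁻¹) * C.T (-(2 * l)) *
        C.el (1 + ι (l - 1) * C.ψ (C.τ (2 * l - 1) v'))
          (C.τ (2 * l - 1) v' * (C.τ l (α'⁻¹ * C.τ (l - 1) (u'⁻¹ * v')))⁻¹) := by
    intro u' v' huv' α' hα'
    have h1 := C.block_eq (mul_inv_cancel_left u' v') huv' l
    rw [hsplit _ _ α' hα'] at h1
    rw [← C.coe_mul_el, ← C.el_mul_coe]
    have h2 : ∀ (a c : C.U) (X R : G), (a : G) * X * c = R →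
        X = ((a⁻¹ : C.U) : G) * R * ((c⁻¹ : C.U) : G) :=
      fun a c X R hX => by rw [← hX, Subgroup.coe_inv, Subgroup.coe_inv]; group
    rw [h2 _ _ _ _ h1]
    group
  have huvp : C.ψ (u ^ p) + C.ψ (v ^ p) = 2 := by
    have : CharP F p := charP_of_injective_algebraMap (algebraMap (ZMod p) F).injective p
    rw [map_pow, map_pow, ← add_pow_char, huv, ← map_ofNat ι 2, ← map_pow, ZMod.pow_card]
  have : CharP F p := charP_of_injective_algebraMap (algebraMap (ZMod p) F).injective p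
  have hfr : ∀ (a b : ZMod p) (z : C.U),
      ι a + ι b * C.ψ (z ^ p) = (ι a + ι b * C.ψ z) ^ p := fun a b z => by
    rw [add_pow_char, mul_pow, ← map_pow, ← map_pow, ZMod.pow_card, ZMod.pow_card, map_pow]
  have hwp : (u ^ p)⁻¹ * v ^ p = w ^ p := by
    rw [hwdef, (show Commute u⁻¹ v from C.U_comm _ _).mul_pow, inv_pow]
  have hαp : 1 + ι (2 * l - 1) * C.ψ (C.τ (l - 1) ((u ^ p)⁻¹ * v ^ p)) = ι n * C.ψ (α ^ p) := by
    rw [hwp, map_pow (C.τ (l - 1)), ← map_one ι, hfr, map_one, ← hA, hn, mul_pow, ← map_pow,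
      ZMod.pow_card, map_pow]
  have e1 := hE u v huv α hn
  have e2 := hE (u ^ p) (v ^ p) huvp (α ^ p) hαp
  rw [← hA, ← hD, ← hB] at *
  set b1 := C.ψ a'⁻¹ * B with hb1
  set u1 := a'⁻¹ * Uu with hu1
  set c1 := D with hc1
  set v1 := V * z'⁻¹ with hv1
  have hU2 : C.τ (-1) (u ^ p)⁻¹ = Uu ^ p := by rw [← inv_pow, map_pow]
  have hbp : C.ψ (C.τ (-l) (α ^ p))⁻¹ *
      (ι (1 - l) + ι (2 * l - 1) * C.ψ (C.τ (-1) (u ^ p)⁻¹)) = b1 ^ p := by
    rw [hU2, hfr, map_pow (C.τ (-l)), ← inv_pow, map_pow, ← mul_pow]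
  have hup : (C.τ (-l) (α ^ p))⁻¹ * C.τ (-1) (u ^ p)⁻¹ = u1 ^ p := by
    rw [hU2, map_pow, ← inv_pow, hu1, (show Commute a'⁻¹ Uu from C.U_comm _ _).mul_pow]
  have hcp : 1 + ι (l - 1) * C.ψ (C.τ (2 * l - 1) (v ^ p)) = c1 ^ p := by
    rw [map_pow (C.τ (2 * l - 1)), ← map_one ι, hfr, map_one]
  have hvp : C.τ (2 * l - 1) (v ^ p) *
      (C.τ l ((α ^ p)⁻¹ * C.τ (l - 1) ((u ^ p)⁻¹ * v ^ p)))⁻¹ = v1 ^ p := by
    rw [hwp, map_pow (C.τ (2 * l - 1)), map_pow (C.τ (l - 1)), ← inv_pow,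
      ← (show Commute α⁻¹ W from C.U_comm _ _).mul_pow, map_pow, ← inv_pow, hv1,
      (show Commute V z'⁻¹ from C.U_comm _ _).mul_pow]
  rw [hbp, hup, hcp, hvp] at e2
  have h2l : (2 * l : ZMod p) ≠ 0 := mul_ne_zero C.two_ne hl
  have hx : C.T (2 * l) * ((C.el b1 u1)⁻¹ * C.el (b1 ^ p) (u1 ^ p)) * (C.T (2 * l))⁻¹ =
      C.el c1 v1 * (C.el (c1 ^ p) (v1 ^ p))⁻¹ := by
    have h3 := e1.symm.trans e2
    rw [C.T_neg] at h3
    calc C.T (2 * l) * ((C.el b1 u1)⁻¹ * C.el (b1 ^ p) (u1 ^ p)) * (C.T (2 * l))⁻¹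
        = C.T (2 * l) * (C.el b1 u1)⁻¹ *
            (C.el (b1 ^ p) (u1 ^ p) * (C.T (2 * l))⁻¹ * C.el (c1 ^ p) (v1 ^ p)) *
            (C.el (c1 ^ p) (v1 ^ p))⁻¹ := by group
      _ = _ := by rw [← h3]; group
  simp only [C.inv_el, C.el_mul] at hx
  have h4 := C.tiH h2l hx
  have hb : b1 ^ p = b1 := by
    have h5 : C.ψ u1⁻¹ * (b1 ^ p - b1) = 0 := by linear_combination h4
    exact sub_eq_zero.1 ((mul_eq_zero.1 h5).resolve_left (C.ψ_ne_zero _))
  obtain ⟨β, hβ⟩ := mem_prime_of_frob hb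
  set g := C.τ (-(2 * l)) with hg
  set c2 := C.ψ (C.τ (-(2 * l)) u1) * c1 with hc2
  set v2 := C.τ (-(2 * l)) u1 * v1 with hv2
  have hmove : ∀ (a : C.U) (c : F) (z : C.U),
      C.el b1 a * C.T (-(2 * l)) * C.el c z =
        C.S β * C.T (-(2 * l)) * C.el (C.ψ (C.τ (2 * l) a) * c) (C.τ (2 * l) a * z) := by
    intro a c z
    show C.e b1 * a * _ * _ = _
    rw [mul_assoc (C.e b1), C.coe_mul_T, neg_neg, hβ, ← C.coe_mul_el]
    show _ = C.e (ι β) * _ * _
    group
  rw [hmove] at e1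
  rw [hb, hmove] at e2
  have h6 := mul_left_cancel (e1.symm.trans e2)
  obtain ⟨h7, h8⟩ := C.el_inj h6
  obtain ⟨γ, hγ⟩ := mem_prime_of_frob (c := C.ψ (C.τ (2 * l) u1) * c1) (by
    rw [map_pow (C.τ (2 * l)), map_pow, ← mul_pow] at h7
    exact h7.symm)
  have h9 : C.τ (2 * l) u1 * v1 = 1 := by
    refine orderOf_eq_one_iff.1 (Nat.eq_one_of_dvd_coprimes C.hcop (orderOf_dvd_natCard _)
      (orderOf_dvd_of_pow_eq_one ?_))
    rw [map_pow (C.τ (2 * l)), ← (show Commute (C.τ (2 * l) u1) v1 from C.U_comm _ _).mul_pow] at h8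
    apply mul_right_cancel (b := C.τ (2 * l) u1 * v1)
    rw [← pow_succ, Nat.sub_add_cancel hpp.pos, one_mul]
    exact h8.symm
  rw [hγ, h9, C.el_e] at e1
  have hγ0 : γ ≠ 0 := fun h => by
    rw [h, map_zero] at hγ
    exact (mul_ne_zero (C.ψ_ne_zero _) hD0) hγ
  have hβl := C.rule_forces hl hγ0 e1
  refine ⟨a', ?_⟩
  have h10 : C.ψ a' * b1 = B := by
    rw [hb1, ← mul_assoc, ← map_mul, mul_inv_cancel, map_one, one_mul]
  rw [← h10, hβ, hβl, mul_comm]

open Polynomial in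
/-- The conclusion of the configuration: it cannot occur. -/
theorem contradiction (hp2 : p ≠ 2) (hq2 : C.q ≠ 2) {u v : C.U} (hu : u ≠ 1)
    (huv : C.ψ u + C.ψ v = 2) : False := by
  classical
  have hpp : p.Prime := Fact.out
  have : CharP F p := charP_of_injective_algebraMap (algebraMap (ZMod p) F).injective p
  set x := C.τ (-1) u with hx
  set z := C.ψ x with hz
  have hx1 : x ≠ 1 := C.τ_ne_one _ hu
  have hz1 : z ≠ 1 := fun h => hx1 (C.ψ_inj (by rw [map_one]; exact h))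
  have hgeom : ∑ i ∈ Finset.range C.q, p ^ i = Nat.card C.U := by
    have h1 : (∑ i ∈ Finset.range C.q, p ^ i) * (p - 1) = p ^ C.q - 1 :=
      geom_sum_mul_of_one_le hpp.one_le C.q
    rw [← C.hU] at h1
    exact Nat.eq_of_mul_eq_mul_right (by have := hpp.two_le; omega) h1
  have hNψ : ∀ a : C.U, ∏ i ∈ Finset.range C.q, C.ψ a ^ p ^ i = 1 := fun a => by
    rw [Finset.prod_pow_eq_pow_sum, hgeom, ← map_pow, pow_card_eq_one', map_one]
  have hιp : ∀ (k : ZMod p) (i : ℕ), (ι k) ^ p ^ i = ι k := by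
    intro k i
    rw [← map_pow, ZMod.pow_card_pow]
  open Polynomial in
  set P : F[X] := (∏ i ∈ Finset.range C.q, (Polynomial.C (2 - z ^ p ^ i) * X + Polynomial.C (z ^ p ^ i - 1))) - X ^ C.q
    with hP
  open Polynomial in
  have hroot : ∀ l : ZMod p, l ≠ 0 → P.eval (ι l) = 0 := by
    intro l hl
    obtain ⟨a, ha⟩ := C.block_value hu huv hl
    have hi : C.ψ (C.τ (-1) u⁻¹) * z = 1 := by rw [hz, hx, ← map_mul, ← map_mul, inv_mul_cancel, map_one, map_one]
    have h1 : ι (1 - l) * z + ι (2 * l - 1) = ι l * C.ψ (a * x) := by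
      rw [map_mul C.ψ, ← hz]
      linear_combination z * ha - ι (2 * l - 1) * hi
    rw [hP, eval_sub, eval_pow, eval_X, eval_prod]
    simp only [eval_add, eval_mul, eval_C, eval_X]
    have h2 : ∀ i ∈ Finset.range C.q, (2 - z ^ p ^ i) * ι l + (z ^ p ^ i - 1)
        = (ι l * C.ψ (a * x)) ^ p ^ i := by
      intro i _
      rw [← h1, add_pow_char_pow, mul_pow, hιp, hιp]
      simp only [map_sub, map_mul, map_one, map_ofNat]
      ring
    rw [Finset.prod_congr rfl h2]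
    simp only [mul_pow, Finset.prod_mul_distrib, hNψ, mul_one, hιp, Finset.prod_const,
      Finset.card_range, sub_self]
  open Polynomial in
  have hP0 : P ≠ 0 := by
    intro h
    have h1 := congrArg (eval 0) h
    simp [hP, eval_prod, zero_pow C.hq.ne_zero] at h1
    obtain ⟨i, -, hi⟩ := Finset.prod_eq_zero_iff.1 h1
    rw [sub_eq_zero] at hi
    apply hz1
    have h3 : (z - 1) ^ p ^ i = 0 := by rw [sub_pow_char_pow, hi, one_pow, sub_self]
    exact sub_eq_zero.1 (pow_eq_zero_iff (pow_ne_zero _ hpp.ne_zero) |>.1 h3)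
  open Polynomial in
  have hdeg : P.natDegree ≤ C.q := by
    refine (natDegree_sub_le _ _).trans (max_le ?_ (by rw [natDegree_X_pow]))
    refine (natDegree_prod_le _ _).trans ?_
    refine (Finset.sum_le_sum (g := fun _ => 1) fun i _ => natDegree_linear_le).trans ?_
    simp
  open Polynomial in
  have hcard : p - 1 ≤ C.q := by
    have h1 : ((Finset.univ : Finset (ZMod p)).erase 0).image ι ⊆ P.roots.toFinset := by
      intro y hy
      obtain ⟨l, hl, rfl⟩ := Finset.mem_image.1 hy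
      rw [Multiset.mem_toFinset, mem_roots hP0]
      exact hroot l (Finset.mem_erase.1 hl).1
    have h2 := (Finset.card_le_card h1).trans ((Multiset.toFinset_card_le _).trans
      ((card_roots' P).trans hdeg))
    rwa [Finset.card_image_of_injective _ (algebraMap (ZMod p) F).injective,
      Finset.card_erase_of_mem (Finset.mem_univ _), Finset.card_univ, ZMod.card] at h2
  have h1 := C.hq.odd_of_ne_two hq2
  have h2 := hpp.odd_of_ne_two hp2
  have h3 := C.hqp
  rw [Nat.odd_iff] at h1 h2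
  omega

/-- Norm-one elements are in the image of `ψ`. -/
theorem exists_ψ_eq {c : F} (hc : ∏ i ∈ Finset.range C.q, c ^ p ^ i = 1) : ∃ u, C.ψ u = c := by
  have hpp : p.Prime := Fact.out
  have hgeom : ∑ i ∈ Finset.range C.q, p ^ i = Nat.card C.U := by
    have h1 : (∑ i ∈ Finset.range C.q, p ^ i) * (p - 1) = p ^ C.q - 1 :=
      geom_sum_mul_of_one_le hpp.one_le C.q
    rw [← C.hU] at h1
    exact Nat.eq_of_mul_eq_mul_right (by have := hpp.two_le; omega) h1
  rw [Finset.prod_pow_eq_pow_sum, hgeom] at hc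
  have hc0 : c ≠ 0 := fun h => by
    rw [h, zero_pow (Nat.card_pos).ne'] at hc
    exact zero_ne_one hc
  obtain ⟨k, u, rfl⟩ := C.decomp hc0
  have hk : k ≠ 0 := fun h => hc0 (by rw [h, map_zero, zero_mul])
  rw [mul_pow, ← map_pow, ← map_pow, pow_card_eq_one', map_one, mul_one] at hc
  have h1 : k ^ Nat.card C.U = 1 := (algebraMap (ZMod p) F).injective (hc.trans (map_one _).symm)
  have hk1 : k = 1 := orderOf_eq_one_iff.1 (Nat.eq_one_of_dvd_coprimes C.hcop
    (orderOf_dvd_of_pow_eq_one h1) (orderOf_dvd_of_pow_eq_one (ZMod.pow_card_sub_one_eq_one hk)))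
  exact ⟨u, by rw [hk1, map_one, one_mul]⟩

end Cfg

end Cfsg.Agent.OddFieldConfig
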