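import Mathlib
import Cfsg.Agent.Lib.FTGlue54
import Cfsg.Agent.S1385
import Cfsg.Agent.S1541
import Cfsg.Agent.S1544
import Cfsg.Agent.S2016

/-!
There is no minimal simple group of odd order.
-/

set_option autoImplicit false

namespace Cfsg.Agent.FTOddOrder54

universe u

variable {G : Type u} [Group G]

theorem exists_typePWith [Finite G] {S W₁ W₂ : Subgroup G} (hs : Group.IsSolvable S)
    (h25 : Cfsg.IsOfTypeII S ∨ Cfsg.IsOfTypeIII S ∨ Cfsg.IsOfTypeIV S ∨ Cfsg.IsOfTypeV S)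
    (hc : Cfsg.IsComplIn ⁅S, S⁆ W₁ S) (hW : Cfsg.IsSelfNormalizingCyclic W₁ W₂) (hW₂ : W₂ ≤ S) :
    ∃ U, Cfsg.IsTypePWith S W₁ U W₂ := by
  obtain ⟨a, b, c, hP, -⟩ | ⟨a, b, c, hP, -⟩ | ⟨a, b, c, hP, -⟩ | ⟨a, b, c, hP, -⟩ := h25 <;>
    exact FTGlue54.exists_typePWith_of_compl hs hP hc hW hW₂

theorem selfNormalizing_symm {W₁ W₂ : Subgroup G} (h : Cfsg.IsSelfNormalizingCyclic W₁ W₂) :
    Cfsg.IsSelfNormalizingCyclic W₂ W₁ := by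
  obtain ⟨h1, h2, h3, h4, h5, h6⟩ := h
  refine ⟨h2, h1, by rw [inf_comm]; exact h3, fun a ha b hb => (h4 b hb a ha).symm,
    by rwa [sup_comm], ?_⟩
  rw [sup_comm, Set.union_comm]
  exact h6

theorem not_minSimple [Finite G] : ¬ Cfsg.IsMinSimpleOddOrder G := by
  intro hG
  obtain ⟨M, hM, hMI⟩ := S1541.result hG
  rcases S1385.result hG with h | ⟨W₁, W₂, S, T, hW, hS, hT, hcS, hcT, hST, hII, hS25, hT25, -⟩
  · exact hMI (h M hM)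
  have hsolv : ∀ {M : Subgroup G}, IsCoatom M → Group.IsSolvable M := fun h => hG.2.2.2 _ h.1
  have hle : W₁ ⊔ W₂ ≤ S ∧ W₁ ⊔ W₂ ≤ T := by rw [← hST]; exact ⟨inf_le_left, inf_le_right⟩
  obtain ⟨U, hU⟩ := exists_typePWith (hsolv hS) hS25 hcS hW (le_sup_right.trans hle.1)
  obtain ⟨V, hV⟩ := exists_typePWith (hsolv hT) hT25 hcT (selfNormalizing_symm hW)
    (le_sup_left.trans hle.2)
  have main : ∀ (S T W₁ W₂ U V : Subgroup G), IsCoatom S → IsCoatom T → Cfsg.IsTypePWith S W₁ U W₂ →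
      Cfsg.IsTypePWith T W₂ V W₁ → S ⊓ T = W₁ ⊔ W₂ → (Cfsg.IsOfTypeII S ∨ Cfsg.IsOfTypeII T) →
      (Cfsg.IsOfTypeII S ∨ Cfsg.IsOfTypeIII S ∨ Cfsg.IsOfTypeIV S ∨ Cfsg.IsOfTypeV S) →
      (Cfsg.IsOfTypeII T ∨ Cfsg.IsOfTypeIII T ∨ Cfsg.IsOfTypeIV T ∨ Cfsg.IsOfTypeV T) →
      Nat.card W₁ < Nat.card W₂ → False := by
    intro S T W₁ W₂ U V hS hT hU hV hST hII hS25 hT25 hlt
    obtain ⟨hq, hp, hP, hPc, hUcyc, hUc, hfpf, hcop, hUP, -, hQ, hW₂Q, y, hy, hyU, -⟩ :=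
      S1544.result hG S T W₁ W₂ U V hS hT hU hV hST hII hS25 hT25 hlt
    exact S2016.result hG _ _ (FTGlue54.isParabolicType_of hG.1 hp hq hlt W₁.card_subgroup_dvd_card
      hcop hP hPc hUcyc hUc hfpf hUP (hU.W₂_le.trans inf_le_left) rfl hQ hW₂Q hy hyU)
  rcases lt_or_gt_of_ne (FTGlue54.ne_card_of_selfNormalizing hW) with h | h
  · exact main S T W₁ W₂ U V hS hT hU hV hST hII hS25 hT25 h
  · exact main T S W₂ W₁ V U hT hS hV hU (by rw [inf_comm, sup_comm]; exact hST) hII.symm hT25 hS25 h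

end Cfsg.Agent.FTOddOrder54
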