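import Mathlib
import Cfsg.Agent.S0144
import Cfsg.Agent.S0205
import Cfsg.Agent.Lib.A8SubgroupsStructure
import Cfsg.Agent.Lib.ComponentsCores

/-!
Nonsolvable subgroups of `A₈` with a nontrivial normal subgroup of odd order.
-/

set_option autoImplicit false

namespace Cfsg.Agent.A8OddRadical92

open Equiv Equiv.Perm

theorem solvable_ext {G H : Type*} [Group G] [Group H] (f : G →* H)
    (h1 : Group.IsSolvable f.ker) (h2 : Group.IsSolvable f.range) : Group.IsSolvable G :=
  Group.isSolvable_of_ker_le_range f.ker.subtype f.rangeRestrict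
    (by rw [MonoidHom.ker_rangeRestrict, Subgroup.range_subtype])

theorem solvable_two_three {G : Type*} [Group G] [Finite G] (a b : ℕ)
    (h : Nat.card G = 2 ^ a * 3 ^ b) : Group.IsSolvable G :=
  Cfsg.Agent.S0144.result 2 3 a b Nat.prime_two Nat.prime_three h

/-- The centraliser of an element of odd prime order which is not a three-cycle is solvable. -/
theorem solvable_centralizer {g : Perm (Fin 8)} (hp : (orderOf g).Prime) (hodd : orderOf g ≠ 2)
    (h3 : g.cycleType ≠ {3}) : Group.IsSolvable (Subgroup.centralizer ({g} : Set (Perm (Fin 8)))) := by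
  classical
  obtain ⟨n, hn⟩ := cycleType_prime_order hp
  set p := orderOf g with hpdef
  have hsum : (n + 1) * p ≤ 8 := by
    have h := (sum_cycleType g).trans_le (Finset.card_le_univ _)
    rwa [hn, Multiset.sum_replicate, Fintype.card_fin] at h
  set C := Subgroup.centralizer ({g} : Set (Perm (Fin 8))) with hC
  have hcard : Nat.card C = (8 - (n + 1) * p).factorial * p ^ (n + 1) * (n + 1).factorial := by
    rw [hC, Equiv.Perm.nat_card_centralizer, hn, Multiset.sum_replicate, Multiset.prod_replicate,
      Multiset.toFinset_replicate, if_neg (Nat.succ_ne_zero n), Finset.prod_singleton,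
      Multiset.count_replicate_self, Fintype.card_fin, smul_eq_mul]
  have hcent : ∀ c ∈ C, g * c = c * g := fun c hc => Subgroup.mem_centralizer_singleton_iff.1 hc |>.symm
  have hle : Subgroup.zpowers g ≤ C := Subgroup.zpowers_le.2
    (Subgroup.mem_centralizer_singleton_iff.2 rfl)
  set Z := (Subgroup.zpowers g).subgroupOf C with hZdef
  have hZc : Z ≤ Subgroup.center C := by
    rintro ⟨z, hz⟩ hmem
    obtain ⟨k, hk⟩ := Subgroup.mem_zpowers_iff.1 (Subgroup.mem_subgroupOf.1 hmem)
    refine Subgroup.mem_center_iff.2 fun c => Subtype.ext ?_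
    show (c : Perm (Fin 8)) * z = z * c
    simp only at hk
    rw [← hk]
    exact ((Commute.zpow_left (hcent c c.2) k).eq).symm
  haveI : Z.Normal := ⟨fun z hz c => by
    have h := Subgroup.mem_center_iff.1 (hZc hz) c
    rw [h, mul_inv_cancel_right]; exact hz⟩
  have hZ : Nat.card Z = p := by
    rw [hpdef, ← Nat.card_zpowers]
    exact Nat.card_congr (Subgroup.subgroupOfEquivOfLe hle).toEquiv
  have hq := Subgroup.card_eq_card_quotient_mul_card_subgroup Z
  rw [hZ, hcard] at hq
  haveI : IsMulCommutative Z := ⟨⟨fun a b =>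
    Subtype.ext (Subgroup.mem_center_iff.1 (hZc b.2) a)⟩⟩
  have hZs : Group.IsSolvable (QuotientGroup.mk' Z).ker := by
    rw [QuotientGroup.ker_mk']
    exact Group.isSolvable_of_comm fun a b => (IsMulCommutative.is_comm (M := Z)).comm a b
  refine solvable_ext (QuotientGroup.mk' Z) hZs ?_
  have hq' : Group.IsSolvable (C ⧸ Z) := by
    have hp8 : p ≤ 8 := le_trans (Nat.le_mul_of_pos_left _ (Nat.succ_pos n)) hsum
    have hn2 : n ≤ 7 := by nlinarith [hp.two_le]
    interval_cases p
    · norm_num at hp
    · norm_num at hp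
    · exact absurd rfl hodd
    · interval_cases n
      · exact absurd hn h3
      · refine solvable_two_three 2 1 ?_
        norm_num [Nat.factorial] at hq ⊢; omega
      all_goals omega
    · norm_num at hp
    · have : n = 0 := by omega
      subst this
      refine solvable_two_three 1 1 ?_
      norm_num [Nat.factorial] at hq ⊢; omega
    · norm_num at hp
    · have : n = 0 := by omega
      subst this
      refine solvable_two_three 0 0 ?_
      norm_num [Nat.factorial] at hq ⊢; omega
    · norm_num at hp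
  haveI := hq'
  exact inferInstance

theorem not_solvable_A5 : ¬ Group.IsSolvable (alternatingGroup (Fin 5)) := by
  intro h
  obtain ⟨hs, hnc⟩ := AltTwoCycles.alt_facts (α := Fin 5) (by simp)
  haveI := hs
  exact hnc ⟨⟨IsSimpleGroup.comm_iff_isSolvable.2 h⟩⟩

/-- Nonsolvable subgroups of `S₅`. -/
theorem S5_subgroup {H : Subgroup (Perm (Fin 5))} (hns : ¬ Group.IsSolvable H) :
    (Nonempty (H ≃* alternatingGroup (Fin 5)) ∨ Nonempty (H ≃* Perm (Fin 5))) ∧
      ∀ N : Subgroup H, N.Normal → IsPGroup 3 N → N = ⊥ := by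
  classical
  obtain ⟨hs, hnc⟩ := AltTwoCycles.alt_facts (α := Fin 5) (by simp)
  haveI := hs
  have hA : Nat.card (alternatingGroup (Fin 5)) = 60 := by
    rw [nat_card_alternatingGroup, Nat.card_fin]; rfl
  set H0 := H.subgroupOf (alternatingGroup (Fin 5)) with hH0
  -- `H` contains the alternating group
  have hle : alternatingGroup (Fin 5) ≤ H := by
    by_contra hne
    have hne' : H0 ≠ ⊤ := fun h => hne (Subgroup.subgroupOf_eq_top.1 h)
    have h5 := SimpleOrder.five_le_index hnc H0 hne'
    have hmul := H0.card_mul_index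
    rw [hA] at hmul
    have h12 : Nat.card H0 ≤ 12 := by nlinarith
    have hdvd : Nat.card H0 ∣ 60 := Dvd.intro _ hmul
    have hsol : Group.IsSolvable H0 := by
      have key : ∀ p q a b : ℕ, p.Prime → q.Prime → Nat.card H0 = p ^ a * q ^ b →
          Group.IsSolvable H0 := fun p q a b hp hq h => Cfsg.Agent.S0144.result p q a b hp hq h
      have hmem : Nat.card H0 ∈ Nat.divisors 60 := Nat.mem_divisors.2 ⟨hdvd, by norm_num⟩
      rw [show Nat.divisors 60 = {1, 2, 3, 4, 5, 6, 10, 12, 15, 20, 30, 60} from rfl] at hmem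
      simp only [Finset.mem_insert, Finset.mem_singleton] at hmem
      rcases hmem with h | h | h | h | h | h | h | h | h | h | h | h <;> try omega
      · exact key 2 3 0 0 (by norm_num) (by norm_num) (by rw [h]; rfl)
      · exact key 2 3 1 0 (by norm_num) (by norm_num) (by rw [h]; rfl)
      · exact key 2 3 0 1 (by norm_num) (by norm_num) (by rw [h]; rfl)
      · exact key 2 3 2 0 (by norm_num) (by norm_num) (by rw [h]; rfl)
      · exact key 2 5 0 1 (by norm_num) (by norm_num) (by rw [h]; rfl)
      · exact key 2 3 1 1 (by norm_num) (by norm_num) (by rw [h]; rfl)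
      · exact key 2 5 1 1 (by norm_num) (by norm_num) (by rw [h]; rfl)
      · exact key 2 3 2 1 (by norm_num) (by norm_num) (by rw [h]; rfl)
    refine hns (solvable_ext ((Perm.sign (α := Fin 5)).comp H.subtype) ?_ ?_)
    · let f : ((Perm.sign (α := Fin 5)).comp H.subtype).ker →* H0 :=
        { toFun := fun x => ⟨⟨x.1.1, Equiv.Perm.mem_alternatingGroup.2 x.2⟩, x.1.2⟩
          map_one' := rfl
          map_mul' := fun _ _ => rfl }
      haveI := hsol
      refine Group.isSolvable_of_isSolvable_injective (f := f) fun x y h => ?_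
      exact Subtype.ext (Subtype.ext (congrArg (fun z : H0 => (z : Perm (Fin 5))) h))
    · exact Group.isSolvable_of_comm fun a b => mul_comm a b
  refine ⟨?_, fun N hN hN3 => ?_⟩
  · have hmul := H.card_mul_index
    have hd : 60 ∣ Nat.card H := hA ▸ Subgroup.card_dvd_of_le hle
    rw [Nat.card_perm, Nat.card_fin, show (5 : ℕ).factorial = 120 from rfl] at hmul
    obtain ⟨k, hk⟩ := hd
    rw [hk] at hmul
    have hkd : k ∣ 2 := ⟨H.index, by nlinarith⟩
    rcases (Nat.dvd_prime Nat.prime_two).1 hkd with rfl | rfl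
    · exact Or.inl ⟨MulEquiv.subgroupCongr
        (Subgroup.eq_of_le_of_card_ge hle (by rw [hA, hk])).symm⟩
    · refine Or.inr ⟨(MulEquiv.subgroupCongr
        (Subgroup.eq_top_of_card_eq H ?_)).trans Subgroup.topEquiv⟩
      rw [hk, Nat.card_perm, Nat.card_fin]; rfl
  · haveI := hN
    set N' := (N.map H.subtype).subgroupOf (alternatingGroup (Fin 5)) with hN'
    haveI : N'.Normal := ⟨fun n hn a => by
      obtain ⟨m, hm, hmn⟩ := Subgroup.mem_subgroupOf.1 hn
      refine Subgroup.mem_subgroupOf.2 ⟨⟨a, hle a.2⟩ * m * ⟨a, hle a.2⟩⁻¹, hN.conj_mem m hm _, ?_⟩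
      simp at hmn ⊢
      rw [hmn]⟩
    have hbot : N' = ⊥ := by
      refine (SimpleOrder.eq_bot_or_top (H := N') inferInstance).resolve_right fun h => ?_
      have h1 : Nat.card (alternatingGroup (Fin 5)) ∣ Nat.card (N.map H.subtype) :=
        Subgroup.card_dvd_of_le (Subgroup.subgroupOf_eq_top.1 h)
      rw [hA, Subgroup.card_map_of_injective H.subtype_injective] at h1
      haveI : Fact (Nat.Prime 3) := ⟨Nat.prime_three⟩
      obtain ⟨j, hj⟩ := hN3.exists_card_eq
      rw [hj] at h1
      have h2 : 2 ∣ 3 := Nat.prime_two.dvd_of_dvd_pow ((show 2 ∣ 60 by norm_num).trans h1)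
      norm_num at h2
    refine (Subgroup.eq_bot_iff_forall _).2 fun n hn => ?_
    have hsq : ((n : Perm (Fin 5)) ^ 2) ∈ alternatingGroup (Fin 5) := by
      rw [Equiv.Perm.mem_alternatingGroup, map_pow, Int.units_sq]
    have h1 : (⟨_, hsq⟩ : alternatingGroup (Fin 5)) ∈ N' :=
      Subgroup.mem_subgroupOf.2 ⟨n ^ 2, N.pow_mem hn 2, rfl⟩
    rw [hbot, Subgroup.mem_bot] at h1
    obtain ⟨j, hj⟩ := hN3 ⟨n, hn⟩
    have h3 : orderOf (n : Perm (Fin 5)) ∣ 3 ^ j := orderOf_dvd_of_pow_eq_one (by
      have := congrArg (fun z : N => ((z : H) : Perm (Fin 5))) hj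
      simpa using this)
    have h4 : orderOf (n : Perm (Fin 5)) ∣ 2 :=
      orderOf_dvd_of_pow_eq_one (congrArg Subtype.val h1)
    exact Subtype.ext (orderOf_eq_one_iff.1 (Nat.eq_one_of_dvd_coprimes
      ((show Nat.Coprime 3 2 by norm_num).pow_left j) h3 h4))

variable {P : Subgroup (Perm (Fin 8))}

theorem solvable_cent_sub {K : Subgroup P} {g : Perm (Fin 8)}
    (hs : Group.IsSolvable (Subgroup.centralizer ({g} : Set (Perm (Fin 8)))))
    (hK : ∀ k ∈ K, (k : Perm (Fin 8)) * g = g * k) : Group.IsSolvable K := by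
  haveI := hs
  refine Group.isSolvable_of_isSolvable_injective
    (f := (P.subtype.comp K.subtype).codRestrict (Subgroup.centralizer {g}) fun k =>
      Subgroup.mem_centralizer_singleton_iff.2 (hK k k.2)) fun a b h => ?_
  exact K.subtype_injective (P.subtype_injective (congrArg (fun z : Subgroup.centralizer ({g} : Set (Perm (Fin 8))) => (z : Perm (Fin 8))) h))

/-- A minimal normal subgroup of odd order is generated by a three-cycle. -/
theorem minimal_three_cycle (hA : P ≤ alternatingGroup (Fin 8)) (hns : ¬ Group.IsSolvable P)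
    (M : Subgroup P) (hM : PermMinimalNormal.IsMinNormal M) (hodd : Odd (Nat.card M)) :
    Nat.card M = 3 ∧ ∀ m ∈ M, m ≠ 1 → (m : Perm (Fin 8)).cycleType = {3} := by
  classical
  haveI := hM.1
  haveI hMs : Group.IsSolvable M := Cfsg.Agent.S0205.result hodd
  have hab : IsMulCommutative M := by
    haveI : Nontrivial M := (Subgroup.nontrivial_iff_ne_bot M).2 hM.2.1
    have hlt := Group.IsSolvable.commutator_lt_top_of_nontrivial (G := M)
    rcases hM.2.2 _ (Subgroup.commutator_normal M M) (Subgroup.commutator_le_self M) with h | h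
    · refine ⟨⟨fun a b => Subtype.ext ?_⟩⟩
      have h2 := Subgroup.commutator_mem_commutator a.2 b.2
      rw [h, Subgroup.mem_bot, commutatorElement_eq_one_iff_mul_comm] at h2
      exact h2
    · refine absurd ?_ hlt.ne
      apply Subgroup.map_injective M.subtype_injective
      rw [Subgroup.map_subtype_commutator, h, ← MonoidHom.range_eq_map, Subgroup.range_subtype]
  obtain ⟨p, hp, hexp⟩ := hM.exists_prime_pow_eq_one hab
  haveI := Fact.mk hp
  obtain ⟨m, hm⟩ := IsPGroup.exists_card_eq (p := p) (G := M)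
    (fun x => ⟨1, Subtype.ext (by simpa using hexp x x.2)⟩)
  have hm0 : m ≠ 0 := fun h => hM.2.1 (Subgroup.eq_bot_of_card_eq M (by rw [hm, h, pow_zero]))
  have hp2 : p ≠ 2 := by
    rintro rfl
    rw [hm] at hodd
    exact (Nat.not_even_iff_odd.2 hodd) ((Nat.even_pow' hm0).2 even_two)
  have hdvd : p ^ m ∣ 20160 := by
    rw [← hm, ← show Nat.card (alternatingGroup (Fin 8)) = 20160 by
      rw [nat_card_alternatingGroup, Nat.card_fin]; rfl]
    exact (Subgroup.card_subgroup_dvd_card M).trans (Subgroup.card_dvd_of_le hA)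
  have hord : ∀ x ∈ M, x ≠ 1 → orderOf (x : Perm (Fin 8)) = p := fun x hx hne => by
    rw [Subgroup.orderOf_coe]
    exact orderOf_eq_prime (hexp x hx) hne
  have hsolv : ∀ x ∈ M, x ≠ 1 → (x : Perm (Fin 8)).cycleType ≠ {3} →
      Group.IsSolvable (Subgroup.centralizer ({(x : Perm (Fin 8))} : Set (Perm (Fin 8)))) :=
    fun x hx hne h3 => solvable_centralizer (by rw [hord x hx hne]; exact hp)
      (by rw [hord x hx hne]; exact hp2) h3
  -- possible orders
  have hcases : Nat.card M = 3 ∨ Nat.card M = 5 ∨ Nat.card M = 7 ∨ Nat.card M = 9 := by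
    have hmem : p ^ m ∈ Nat.divisors 20160 := Nat.mem_divisors.2 ⟨hdvd, by norm_num⟩
    have h1 : p ∣ 20160 := (dvd_pow_self p hm0).trans hdvd
    have hp7 : p = 3 ∨ p = 5 ∨ p = 7 := by
      have : p ∈ Nat.primeFactors 20160 := Nat.mem_primeFactors.2 ⟨hp, h1, by norm_num⟩
      rw [show (20160 : ℕ) = 2 ^ 6 * (9 * 35) from rfl] at h1
      rcases (Nat.Prime.dvd_mul hp).1 h1 with h | h
      · exact absurd ((Nat.prime_dvd_prime_iff_eq hp Nat.prime_two).1 (hp.dvd_of_dvd_pow h)) hp2
      rcases (Nat.Prime.dvd_mul hp).1 h with h | h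
      · left
        exact (Nat.prime_dvd_prime_iff_eq hp Nat.prime_three).1
          (hp.dvd_of_dvd_pow (show p ∣ 3 ^ 2 from h))
      · rcases (Nat.Prime.dvd_mul hp).1 (show p ∣ 5 * 7 from h) with h | h
        · exact Or.inr (Or.inl ((Nat.prime_dvd_prime_iff_eq hp (by norm_num)).1 h))
        · exact Or.inr (Or.inr ((Nat.prime_dvd_prime_iff_eq hp (by norm_num)).1 h))
    have hm3 : m < 3 := by
      by_contra h3
      have h4 : p ^ 3 ∣ 20160 := (pow_dvd_pow p (not_lt.1 h3)).trans hdvd
      rcases hp7 with rfl | rfl | rfl <;> norm_num at h4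
    rw [hm]
    rcases hp7 with rfl | rfl | rfl <;> interval_cases m <;>
      first | (exact absurd rfl hm0) | (exfalso; norm_num at hdvd; done) | norm_num
  have hnsker : ∀ {H : Type} [Group H] (f : P →* H), Group.IsSolvable f.range →
      ¬ Group.IsSolvable f.ker := fun f h2 h1 => hns (solvable_ext f h1 h2)
  have hprime : (Nat.card M).Prime → ∀ x ∈ M, x ≠ 1 → (x : Perm (Fin 8)).cycleType = {3} := by
    intro hpc x hx hne
    by_contra h3
    haveI : IsCyclic M := @isCyclic_of_prime_card _ _ _ (Fact.mk hpc) rfl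
    refine hnsker (MulAut.conjNormal (H := M) : P →* MulAut M) ?_ (solvable_cent_sub
      (hsolv x hx hne h3) fun k hk => ?_)
    · have : ∀ a b : MulAut M, a * b = b * a := fun a b =>
        (IsCyclic.mulAutMulEquiv M).injective (by rw [map_mul, map_mul, mul_comm])
      exact Group.isSolvable_of_comm fun a b => Subtype.ext (this a b)
    · have h1 := congrArg (fun f : MulAut M => ((f ⟨x, hx⟩ : P) : Perm (Fin 8))) (MonoidHom.mem_ker.1 hk)
      simpa [mul_inv_eq_iff_eq_mul] using h1
  have h9 : Nat.card M ≠ 9 := by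
    intro h9
    have hp3 : p = 3 := by
      rw [h9] at hm
      have h1 := dvd_pow_self p hm0
      rw [← hm, show (9 : ℕ) = 3 ^ 2 from rfl] at h1
      exact (Nat.prime_dvd_prime_iff_eq hp Nat.prime_three).1 (hp.dvd_of_dvd_pow h1)
    haveI := Fintype.ofFinite M
    let S : Bool → Finset M := fun b => Finset.univ.filter fun x =>
      x ≠ 1 ∧ decide ((((x : M) : P) : Perm (Fin 8)).cycleType = {3}) = b
    have hdisj : (S true).card + (S false).card = 8 := by
      rw [← Finset.card_union_of_disjoint (by
        rw [Finset.disjoint_left]; intro x h1 h2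
        simp [S] at h1 h2; exact h2.2 h1.2)]
      have : S true ∪ S false = Finset.univ.erase 1 := by
        ext x; simp [S]; tauto
      rw [this, Finset.card_erase_of_mem (Finset.mem_univ _), Finset.card_univ,
        ← Nat.card_eq_fintype_card, h9]
    have hfix : ∀ x : M, x ≠ 1 → ∀ b, x ∈ S b →
        Fintype.card (MulAction.fixedBy (Fin 8) x) = if b then 5 else 2 := by
      intro x hne b hb
      have hcard : Fintype.card (MulAction.fixedBy (Fin 8) x) =
          8 - (((x : M) : P) : Perm (Fin 8)).support.card := by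
        rw [← Nat.card_eq_fintype_card, Nat.card_coe_set_eq,
          Set.ncard_eq_toFinset_card']
        rw [show (MulAction.fixedBy (Fin 8) x).toFinset =
          (((x : M) : P) : Perm (Fin 8)).supportᶜ by ext z; simp; rfl, Finset.card_compl,
          Fintype.card_fin]
      rw [hcard]
      have hne' : ((x : M) : P) ≠ 1 := fun h => hne (Subtype.ext h)
      obtain ⟨n, hn⟩ := cycleType_prime_order (σ := (((x : M) : P) : Perm (Fin 8)))
        (by rw [hord _ x.2 hne']; exact hp)
      rw [hord _ x.2 hne', hp3] at hn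
      have hle := Finset.card_le_univ (((x : M) : P) : Perm (Fin 8)).support
      rw [← sum_cycleType, hn, Multiset.sum_replicate, smul_eq_mul, Fintype.card_fin] at hle
      simp [S] at hb
      rw [← sum_cycleType]
      cases b
      · have : n ≠ 0 := fun h0 => by simp [hn, h0] at hb
        have : n = 1 := by omega
        simp [hn, this]
      · simp at hb
        simp [hb.2]
    have hne : ∀ b, (S b).Nonempty := by
      intro b
      by_contra hb
      rw [Finset.not_nonempty_iff_eq_empty] at hb
      have hsum := MulAction.sum_card_fixedBy_eq_card_orbits_mul_card_group M (Fin 8)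
      rw [← Nat.card_eq_fintype_card (α := M), h9] at hsum
      have hall : ∀ x : M, x ≠ 1 → x ∈ S (!b) := by
        intro x hx
        have h1 : x ∉ S b := by rw [hb]; simp
        cases b <;> simp_all [S]
      rw [← Finset.add_sum_erase _ _ (Finset.mem_univ (1 : M)),
        Finset.sum_congr rfl (fun x hx => hfix x (Finset.ne_of_mem_erase hx) (!b)
          (hall x (Finset.ne_of_mem_erase hx))),
        Finset.sum_const, Finset.card_erase_of_mem (Finset.mem_univ _), Finset.card_univ,
        ← Nat.card_eq_fintype_card (α := M), h9] at hsum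
      have h1 : Fintype.card (MulAction.fixedBy (Fin 8) (1 : M)) = 8 := by
        rw [← Nat.card_eq_fintype_card, Nat.card_coe_set_eq, MulAction.fixedBy_one_eq_univ,
          Set.ncard_univ, Nat.card_fin]
      rw [h1, smul_eq_mul] at hsum
      cases b <;> simp at hsum <;> omega
    obtain ⟨b, hb⟩ : ∃ b, (S b).card ≤ 4 := by
      by_contra h
      push Not at h
      have := h true; have := h false; omega
    have hinv : ∀ (g : P) (x : M), x ∈ S b → MulAut.conjNormal g x ∈ S b := by
      intro g x hx
      simp only [S, Finset.mem_filter, Finset.mem_univ, true_and] at hx ⊢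
      refine ⟨fun h => hx.1 ((map_eq_one_iff _ (MulEquiv.injective _)).1 h), ?_⟩
      rw [show ((((MulAut.conjNormal g x : M)) : P) : Perm (Fin 8)) =
        (g : Perm (Fin 8)) * ((x : P) : Perm (Fin 8)) * (g : Perm (Fin 8))⁻¹ by simp]
      rw [cycleType_conj]; exact hx.2
    letI : MulAction P (S b) :=
      { smul := fun g x => ⟨MulAut.conjNormal g x.1, hinv g x.1 x.2⟩
        one_smul := fun x => Subtype.ext (by show MulAut.conjNormal (1 : P) x.1 = x.1; simp)
        mul_smul := fun g h x => Subtype.ext (by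
          show MulAut.conjNormal (g * h) x.1 = MulAut.conjNormal g (MulAut.conjNormal h x.1)
          simp [map_mul]) }
    obtain ⟨y, hy⟩ := hne false
    simp [S] at hy
    refine hnsker (MulAction.toPermHom P (S b)) ?_ (solvable_cent_sub
      (hsolv y y.2 (fun h => hy.1 (Subtype.ext h)) hy.2) fun k hk => ?_)
    · have hS : Group.IsSolvable (Perm (S b)) := by
        have hc : Nat.card (Perm (S b)) = (S b).card.factorial := by
          rw [Nat.card_perm, Nat.card_eq_fintype_card, Fintype.card_coe]
        have : 0 < (S b).card := Finset.card_pos.2 (hne b)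
        interval_cases hk' : (S b).card
        · exact solvable_two_three 0 0 (by rw [hc]; rfl)
        · exact solvable_two_three 1 0 (by rw [hc]; rfl)
        · exact solvable_two_three 1 1 (by rw [hc]; rfl)
        · exact solvable_two_three 3 1 (by rw [hc]; rfl)
      haveI := hS
      exact inferInstance
    · -- the set generates `M`
      set L := Subgroup.closure ((fun x : M => (x : P)) '' (S b : Set M))
      have hLn : L.Normal := ⟨fun n hn g => by
        induction hn using Subgroup.closure_induction with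
        | mem z hz =>
          obtain ⟨x, hx, rfl⟩ := hz
          exact Subgroup.subset_closure ⟨_, hinv g x hx, by simp⟩
        | one => simp [L.one_mem]
        | mul a c _ _ ha hc => rw [show g * (a * c) * g⁻¹ = g * a * g⁻¹ * (g * c * g⁻¹) by group]
                               exact L.mul_mem ha hc
        | inv a _ ha => rw [show g * a⁻¹ * g⁻¹ = (g * a * g⁻¹)⁻¹ by group]; exact L.inv_mem ha⟩
      have hLM : L ≤ M := (Subgroup.closure_le _).2 (by rintro _ ⟨x, -, rfl⟩; exact x.2)
      have hL : L = M := (hM.2.2 L hLn hLM).resolve_left fun h => by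
        obtain ⟨x, hx⟩ := hne b
        have h1 : (x : P) ∈ L := Subgroup.subset_closure ⟨x, hx, rfl⟩
        simp [S] at hx
        rw [h, Subgroup.mem_bot] at h1
        exact hx.1 (Subtype.ext h1)
      have hC : L ≤ Subgroup.centralizer {k} := (Subgroup.closure_le _).2 (by
        rintro _ ⟨x, hx, rfl⟩
        have h1 := congrArg (fun s : S b => ((s.1 : M) : P))
          (Equiv.congr_fun (MonoidHom.mem_ker.1 hk) ⟨x, hx⟩)
        replace h1 : k * x * k⁻¹ = (x : P) := by
          have h1' : ((MulAut.conjNormal k x : M) : P) = x := h1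
          simpa using h1' 
        exact Subgroup.mem_centralizer_singleton_iff.2 (mul_inv_eq_iff_eq_mul.1 h1).symm)
      exact congrArg Subtype.val
        (Subgroup.mem_centralizer_singleton_iff.1 (hC (hL.symm ▸ y.2))).symm
  obtain ⟨⟨x, hx⟩, hne'⟩ := Subgroup.ne_bot_iff_exists_ne_one.1 hM.2.1
  have hne : x ≠ 1 := fun h => hne' (Subtype.ext h)
  have hpr : (Nat.card M).Prime := by
    rcases hcases with h | h | h | h
    · rw [h]; norm_num
    · rw [h]; norm_num
    · rw [h]; norm_num
    · exact absurd h h9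
  refine ⟨?_, hprime hpr⟩
  have h3 := hprime hpr x hx hne
  have h3' : orderOf (x : Perm (Fin 8)) = 3 := IsThreeCycle.orderOf h3
  have hpM : orderOf x = Nat.card M := by
    have h := orderOf_dvd_natCard (⟨x, hx⟩ : M)
    rw [← Subgroup.orderOf_coe] at h
    exact ((Nat.dvd_prime hpr).1 h).resolve_left fun h => hne (orderOf_eq_one_iff.1 h)
  rw [← hpM, ← Subgroup.orderOf_coe, h3']

/-- The structure of a nonsolvable subgroup of `A₈` with nontrivial odd core. -/
theorem odd_radical (hA : P ≤ alternatingGroup (Fin 8)) (hns : ¬ Group.IsSolvable P)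
    (hO : Cfsg.pPrimeCore 2 P ≠ ⊥) :
    Nat.card (Cfsg.pCore 3 P) = 3 ∧
      (Nonempty (P ⧸ Cfsg.pCore 3 P ≃* alternatingGroup (Fin 5)) ∨
        Nonempty (P ⧸ Cfsg.pCore 3 P ≃* Perm (Fin 5))) := by
  classical
  have hoddK : Odd (Nat.card (Cfsg.pPrimeCore 2 P)) :=
    Nat.coprime_two_right.1 (ComponentsCores.pPrimeCore_coprime 2)
  haveI : (Cfsg.pPrimeCore 2 P).Normal := inferInstance
  obtain ⟨M, hMK, hM⟩ := PermMinimalNormal.exists_isMinNormal_le (Cfsg.pPrimeCore 2 P) hO
  obtain ⟨hc, hcyc⟩ := minimal_three_cycle hA hns M hM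
    (hoddK.of_dvd_nat (Subgroup.card_dvd_of_le hMK))
  haveI := hM.1
  haveI : Fact (Nat.Prime 3) := ⟨Nat.prime_three⟩
  obtain ⟨⟨x, hx⟩, hx1⟩ := Subgroup.ne_bot_iff_exists_ne_one.1 hM.2.1
  have hxne : x ≠ 1 := fun h => hx1 (Subtype.ext h)
  have hx3 := hcyc x hx hxne
  set σ : Perm (Fin 8) := (x : Perm (Fin 8)) with hσ
  have hpow : ∀ y ∈ M, ∀ z, σ z = z → (y : Perm (Fin 8)) z = z := by
    intro y hy z hz
    obtain ⟨k, hk⟩ := Subgroup.mem_zpowers_iff.1
      (mem_zpowers_of_prime_card (p := 3) hc hx1 (g' := ⟨y, hy⟩))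
    have hk' : (y : Perm (Fin 8)) = σ ^ k := by
      have := congrArg (fun w : M => ((w : P) : Perm (Fin 8))) hk
      simpa using this.symm
    rw [hk']; exact Equiv.Perm.zpow_apply_eq_self_of_apply_eq_self hz k
  have hinv : ∀ (g : P) (z : Fin 8), σ z = z → σ ((g : Perm (Fin 8)) z) = (g : Perm (Fin 8)) z := by
    intro g z hz
    have h1 := hpow _ (hM.1.conj_mem x hx g⁻¹) z hz
    simp at h1
    have h2 := congrArg (g : Perm (Fin 8)) h1
    simpa using h2
  have hst : ∀ (g : P) (z : Fin 8), σ ((g : Perm (Fin 8)) z) = (g : Perm (Fin 8)) z ↔ σ z = z :=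
    fun g z => ⟨fun h => by simpa using hinv g⁻¹ _ h, hinv g z⟩
  have hsupp : σ.support.card = 3 := IsThreeCycle.card_support hx3
  have hcard5 : Fintype.card {z // σ z = z} = 5 := by
    rw [Fintype.card_subtype, show Finset.univ.filter (fun z => σ z = z) = σ.supportᶜ by ext; simp,
      Finset.card_compl, hsupp, Fintype.card_fin]
  let e5 : {z // σ z = z} ≃ Fin 5 := Fintype.equivFinOfCardEq hcard5
  let ρ : P →* Perm (Fin 5) := e5.permCongrHom.toMonoidHom.comp
    { toFun := fun g => (g : Perm (Fin 8)).subtypePerm fun z => hst g z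
      map_one' := Equiv.ext fun _ => rfl
      map_mul' := fun _ _ => Equiv.ext fun _ => rfl }
  have hkerapp : ∀ g ∈ ρ.ker, ∀ z, σ z = z → (g : Perm (Fin 8)) z = z := by
    intro g hg z hz
    have h := e5.permCongrHom.injective ((MonoidHom.mem_ker.1 hg).trans (map_one _).symm)
    exact congrArg Subtype.val (Equiv.congr_fun h ⟨z, hz⟩)
  have hMker : M ≤ ρ.ker := by
    intro y hy
    rw [MonoidHom.mem_ker]
    show e5.permCongrHom _ = 1
    rw [← map_one e5.permCongrHom]
    exact congrArg _ (Equiv.ext fun z => Subtype.ext (hpow y hy z z.2))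
  have hcard3 : Fintype.card {z // σ z ≠ z} = 3 := by
    rw [Fintype.card_subtype, show Finset.univ.filter (fun z => σ z ≠ z) = σ.support by ext; simp,
      hsupp]
  haveI : Nontrivial {z // σ z ≠ z} := Fintype.one_lt_card_iff_nontrivial.1 (by omega)
  let f : ρ.ker → alternatingGroup {z // σ z ≠ z} := fun g =>
    ⟨(((g : P)) : Perm (Fin 8)).subtypePerm fun z => not_congr (hst g z), by
      rw [mem_alternatingGroup]
      refine (sign_subtypePerm (p := fun z => σ z ≠ z) _ (fun z => not_congr (hst g z))
        (fun z hz h => hz (hkerapp g g.2 z h))).trans ?_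
      exact mem_alternatingGroup.1 (hA (g : P).2)⟩
  have hf : Function.Injective f := by
    intro g h heq
    refine Subtype.ext (Subtype.ext (Equiv.ext fun z => ?_))
    by_cases hz : σ z = z
    · rw [hkerapp g g.2 z hz, hkerapp h h.2 z hz]
    · exact congrArg Subtype.val (Equiv.congr_fun (congrArg Subtype.val heq) ⟨z, hz⟩)
  have hker : ρ.ker = M := by
    refine (Subgroup.eq_of_le_of_card_ge hMker ?_).symm
    refine (Nat.card_le_card_of_injective f hf).trans_eq ?_
    rw [nat_card_alternatingGroup, Nat.card_eq_fintype_card, hcard3, hc]; rfl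
  have hnsr : ¬ Group.IsSolvable ρ.range := by
    intro h
    refine hns (solvable_ext ρ ?_ h)
    exact solvable_two_three 0 1 (by rw [hker, hc]; rfl)
  obtain ⟨hiso, hno⟩ := S5_subgroup hnsr
  have hcore : Cfsg.pCore 3 P = ρ.ker := by
    refine le_antisymm ?_ ?_
    · have h := hno ((Cfsg.pCore 3 P).map ρ.rangeRestrict)
        (Subgroup.Normal.map inferInstance _ ρ.rangeRestrict_surjective)
        ((ComponentsCores.isPGroup_pCore 3).map _)
      rw [Subgroup.map_eq_bot_iff, MonoidHom.ker_rangeRestrict] at h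
      exact h
    · rw [hker]
      exact ComponentsCores.le_pCore' (IsPGroup.of_card (n := 1) (by rw [hc, pow_one]))
  refine ⟨by rw [hcore, hker, hc], ?_⟩
  let e : P ⧸ Cfsg.pCore 3 P ≃* ρ.range :=
    (QuotientGroup.quotientMulEquivOfEq hcore).trans (QuotientGroup.quotientKerEquivRange ρ)
  exact hiso.imp (fun ⟨i⟩ => ⟨e.trans i⟩) (fun ⟨i⟩ => ⟨e.trans i⟩)

end Cfsg.Agent.A8OddRadical92
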