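import Mathlib

/-!
Three-cycles through two fixed points: they generate the even permutations, and their relations
`x³ = 1`, `(x y)² = 1` define the alternating group.
-/

set_option autoImplicit false

namespace Cfsg.Agent.ShortPresCarmichael

open Equiv Equiv.Perm

variable {α : Type*} [DecidableEq α] (a b : α)

/-- the cycle `a → b → i → a` -/
def cyc (i : α) : Perm α := swap a b * swap b i

variable {a b}

theorem cyc_a (hab : a ≠ b) {i : α} (hia : i ≠ a) : cyc a b i a = b := by
  simp [cyc, swap_apply_of_ne_of_ne hab (Ne.symm hia)]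

theorem cyc_b {i : α} (hia : i ≠ a) (hib : i ≠ b) : cyc a b i b = i := by
  simp [cyc, swap_apply_of_ne_of_ne hia hib]

theorem cyc_i {i : α} : cyc a b i i = a := by
  simp [cyc]

theorem cyc_other {i x : α} (ha : x ≠ a) (hb : x ≠ b) (hi : x ≠ i) : cyc a b i x = x := by
  simp [cyc, swap_apply_of_ne_of_ne hb hi, swap_apply_of_ne_of_ne ha hb]

theorem cyc_swap (hab : a ≠ b) {i : α} (hia : i ≠ a) (hib : i ≠ b) : cyc b a i = (cyc a b i)⁻¹ := by
  refine eq_inv_of_mul_eq_one_left (Equiv.ext fun x => ?_)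
  rw [Perm.mul_apply, Perm.one_apply]
  by_cases ha : x = a
  · subst ha; rw [cyc_a hab hia, cyc_a (Ne.symm hab) hib]
  by_cases hb : x = b
  · subst hb; rw [cyc_b hia hib, cyc_i]
  by_cases hi : x = i
  · subst hi; rw [cyc_i, cyc_b hib hia]
  rw [cyc_other ha hb hi, cyc_other hb ha hi]

theorem conj_cyc (g : Perm α) (i : α) : g * cyc a b i * g⁻¹ = cyc (g a) (g b) (g i) := by
  simp only [cyc]
  rw [Equiv.swap_apply_apply g a b, Equiv.swap_apply_apply g b i]
  group

/-- injectivity from the relations of Carmichael -/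
theorem eq_one_of_map (hab : a ≠ b) {H : Type*} [Group H] (y : α → H) (π : H →* Perm α) :
    ∀ s : Finset α, a ∉ s → b ∉ s → (∀ i ∈ s, π (y i) = cyc a b i) → (∀ i ∈ s, y i * y i * y i = 1) →
      (∀ i ∈ s, ∀ j ∈ s, i ≠ j → y i * y j * (y i * y j) = 1) →
      ∀ g ∈ Subgroup.closure (y '' s), π g = 1 → g = 1 := by
  intro s
  induction s using Finset.induction_on with
  | empty => intro _ _ _ _ _ g hg _; simpa using hg
  | @insert z s hz ih =>
    intro ha hb hπ h3 h2 g hg hg1
    simp only [Finset.mem_insert, not_or] at ha hb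
    have hπ' : ∀ i ∈ s, π (y i) = cyc a b i := fun i hi => hπ i (Finset.mem_insert_of_mem hi)
    set K := Subgroup.closure (y '' (s : Set α)) with hK
    have hK' : ∀ k ∈ s, y k ∈ K := fun k hk => Subgroup.subset_closure ⟨k, Finset.mem_coe.mpr hk, rfl⟩
    set Z := y z
    have Z3 : Z * Z * Z = 1 := h3 z (Finset.mem_insert_self _ _)
    have Zi : Z⁻¹ = Z * Z := inv_eq_of_mul_eq_one_left Z3
    have k3 : ∀ k ∈ s, (y k)⁻¹ = y k * y k := fun k hk =>
      inv_eq_of_mul_eq_one_left (h3 k (Finset.mem_insert_of_mem hk))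
    have hne : ∀ k ∈ s, k ≠ z := fun k hk h => hz (h ▸ hk)
    have r1 : ∀ k ∈ s, y k * Z = Z⁻¹ * (y k)⁻¹ := fun k hk => by
      rw [← mul_inv_rev]
      exact eq_inv_of_mul_eq_one_left (h2 k (Finset.mem_insert_of_mem hk) z (Finset.mem_insert_self _ _) (hne k hk))
    have r2 : ∀ k ∈ s, Z * y k = (y k)⁻¹ * Z⁻¹ := fun k hk => by
      rw [← mul_inv_rev]
      exact eq_inv_of_mul_eq_one_left (h2 z (Finset.mem_insert_self _ _) k (Finset.mem_insert_of_mem hk) (hne k hk).symm)
    let T : Set H := {1, Z, Z⁻¹} ∪ (fun j => y j * Z⁻¹) '' (s : Set α)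
    let P : H → Prop := fun g => ∃ t ∈ T, ∃ h ∈ K, g = t * h
    have tZ : Z ∈ T := Or.inl (by simp)
    have tZi : Z⁻¹ ∈ T := Or.inl (by simp)
    have stepK : ∀ k ∈ s, ∀ g, P g → P (y k * g) := by
      rintro k hk g ⟨t, (rfl | rfl | rfl) | ⟨j, hj, rfl⟩, h, hh, rfl⟩
      · exact ⟨1, Or.inl (by simp), y k * h, K.mul_mem (hK' k hk) hh, by group⟩
      · exact ⟨Z⁻¹, tZi, (y k)⁻¹ * h, K.mul_mem (K.inv_mem (hK' k hk)) hh, by
          rw [← mul_assoc, r1 k hk, mul_assoc]⟩
      · exact ⟨y k * Z⁻¹, Or.inr ⟨k, hk, rfl⟩, h, hh, by group⟩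
      · by_cases hjk : j = k
        · subst hjk
          refine ⟨Z, tZ, y j * h, K.mul_mem (hK' j hk) hh, ?_⟩
          calc y j * (y j * Z⁻¹ * h) = (y j * y j) * Z⁻¹ * h := by group
            _ = (y j)⁻¹ * Z⁻¹ * h := by rw [k3 j hk]
            _ = Z * y j * h := by rw [r2 j hk]
            _ = _ := mul_assoc _ _ _
        · refine ⟨y j * Z⁻¹, Or.inr ⟨j, hj, rfl⟩, (y j)⁻¹ * y k * h,
            K.mul_mem (K.mul_mem (K.inv_mem (hK' j hj)) (hK' k hk)) hh, ?_⟩
          have hj' : j ∈ s := hj
          have e : y k * y j = (y k * y j)⁻¹ := eq_inv_of_mul_eq_one_left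
            (h2 k (Finset.mem_insert_of_mem hk) j (Finset.mem_insert_of_mem hj') (Ne.symm hjk))
          calc y k * (y j * Z⁻¹ * h) = (y k * y j) * Z⁻¹ * h := by group
            _ = (y j)⁻¹ * ((y k)⁻¹ * Z⁻¹) * h := by rw [e, mul_inv_rev]; group
            _ = (y j)⁻¹ * (Z * y k) * h := by rw [r2 k hk]
            _ = (y j * y j) * Z * y k * h := by rw [k3 j hj']; group
            _ = y j * (y j * Z) * y k * h := by group
            _ = y j * (Z⁻¹ * (y j)⁻¹) * y k * h := by rw [r1 j hj']
            _ = _ := by group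
    have stepZ : ∀ g, P g → P (Z * g) := by
      rintro g ⟨t, (rfl | rfl | rfl) | ⟨j, hj, rfl⟩, h, hh, rfl⟩
      · exact ⟨Z, tZ, h, hh, by group⟩
      · exact ⟨Z⁻¹, tZi, h, hh, by rw [Zi, mul_assoc]⟩
      · exact ⟨1, Or.inl (by simp), h, hh, by group⟩
      · have hj' : j ∈ s := hj
        refine ⟨y j * Z⁻¹, Or.inr ⟨j, hj, rfl⟩, (y j)⁻¹ * h, K.mul_mem (K.inv_mem (hK' j hj)) hh, ?_⟩
        calc Z * (y j * Z⁻¹ * h) = (Z * y j) * Z⁻¹ * h := by group
          _ = (y j)⁻¹ * (Z⁻¹ * Z⁻¹) * h := by rw [r2 j hj']; group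
          _ = (y j)⁻¹ * Z * h := by rw [← mul_inv_rev, ← Zi, inv_inv]
          _ = y j * (y j * Z) * h := by rw [k3 j hj']; group
          _ = y j * (Z⁻¹ * (y j)⁻¹) * h := by rw [r1 j hj']
          _ = _ := by group
    have step : ∀ k ∈ (↑(insert z s) : Set α), ∀ g, P g → P (y k * g) := fun k hk => by
      rcases Finset.mem_insert.mp hk with rfl | hk
      exacts [stepZ, stepK k hk]
    have hP : P g := by
      clear hg1
      induction hg using Subgroup.closure_induction_left with
      | one => exact ⟨1, Or.inl (by simp), 1, K.one_mem, by simp⟩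
      | mul_left x hx w _ ih' =>
        obtain ⟨k, hk, rfl⟩ := hx
        exact step k hk w ih'
      | inv_mul_cancel x hx w _ ih' =>
        obtain ⟨k, hk, rfl⟩ := hx
        rw [inv_eq_of_mul_eq_one_left (h3 k hk), mul_assoc]
        exact step k hk _ (step k hk w ih')
    obtain ⟨t, ht, h, hh, rfl⟩ := hP
    have hfix : π h z = z := by
      clear hg hg1
      induction hh using Subgroup.closure_induction with
      | mem x hx =>
        obtain ⟨k, hk, rfl⟩ := hx
        rw [hπ' k hk, cyc_other (Ne.symm ha.1) (Ne.symm hb.1) (hne k hk).symm]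
      | one => simp
      | mul x w _ _ hx hw => simp [map_mul, hw, hx]
      | inv x _ hx => rw [map_inv, Perm.inv_def, Equiv.symm_apply_eq, hx]
    have htz : π t z = z := by
      have := DFunLike.congr_fun hg1 z
      simpa [hfix] using this
    have hZ : π Z = cyc a b z := hπ z (Finset.mem_insert_self _ _)
    have hZb : (cyc a b z)⁻¹ z = b := by
      rw [Perm.inv_def, Equiv.symm_apply_eq, cyc_b (Ne.symm ha.1) (Ne.symm hb.1)]
    rcases ht with (rfl | rfl | rfl) | ⟨j, hj, rfl⟩
    · rw [one_mul] at hg1 ⊢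
      exact ih ha.2 hb.2 hπ' (fun i hi => h3 i (Finset.mem_insert_of_mem hi))
        (fun i hi j hj => h2 i (Finset.mem_insert_of_mem hi) j (Finset.mem_insert_of_mem hj)) h hh hg1
    · rw [hZ, cyc_i] at htz; exact absurd htz ha.1
    · rw [map_inv, hZ, hZb] at htz; exact absurd htz hb.1
    · have hjs : j ∈ s := hj
      have hja : j ≠ a := fun e => ha.2 (e ▸ hjs)
      have hjb : j ≠ b := fun e => hb.2 (e ▸ hjs)
      rw [map_mul, map_inv, hπ' j hjs, hZ, Perm.mul_apply, hZb, cyc_b hja hjb] at htz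
      exact absurd htz (hne j hjs)

section Fin
variable [Fintype α]

theorem sign_cyc (hab : a ≠ b) {i : α} (hib : i ≠ b) : sign (cyc a b i) = 1 := by
  rw [cyc, map_mul, sign_swap hab, sign_swap hib.symm]; rfl

/-- even permutations are products of the cycles -/
theorem mem_closure_cyc (hab : a ≠ b) :
    ∀ s : Finset α, a ∉ s → b ∉ s → ∀ g : Perm α, sign g = 1 →
      (∀ x, x ∉ insert a (insert b s) → g x = x) → g ∈ Subgroup.closure (cyc a b '' s) := by
  intro s
  induction s using Finset.induction_on with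
  | empty =>
    intro _ _ g hs hg
    have hsupp : g.support ⊆ {a, b} := fun x hx => by
      by_contra h; exact mem_support.mp hx (hg x (by simpa using h))
    have hc : g.support.card ≤ 2 := (Finset.card_le_card hsupp).trans Finset.card_le_two
    have : g = 1 := by
      rcases Nat.lt_or_eq_of_le hc with h | h
      · exact card_support_le_one.mp (by omega)
      · rw [card_support_eq_two] at h
        rw [h.sign_eq] at hs
        exact absurd hs (by decide)
    rw [this]; exact Subgroup.one_mem _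
  | @insert z s hz ih =>
    intro ha hb g hs hg
    simp only [Finset.mem_insert, not_or] at ha hb
    set K := Subgroup.closure (cyc a b '' ((insert z s : Finset α) : Set α))
    have hK : ∀ i ∈ insert z s, cyc a b i ∈ K := fun i hi =>
      Subgroup.subset_closure ⟨i, Finset.mem_coe.mpr hi, rfl⟩
    have key : ∀ t ∈ K, sign t = 1 → (∀ x, x ∉ insert a (insert b (insert z s)) → t x = x) →
        t z = g z → g ∈ K := by
      intro t ht ht1 htf htz
      have := ih ha.2 hb.2 (t⁻¹ * g) (by rw [map_mul, map_inv, hs, ht1]; simp) fun x hx => ?_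
      · have h' : t⁻¹ * g ∈ K := Subgroup.closure_mono (Set.image_mono fun i hi => by simp [Finset.mem_coe.mp hi]) this
        simpa using K.mul_mem ht h'
      · simp only [Finset.mem_insert, not_or] at hx
        rw [Perm.mul_apply, Perm.inv_def, Equiv.symm_apply_eq]
        by_cases hxz : x = z
        · subst hxz; exact htz.symm
        · have hx' : x ∉ insert a (insert b (insert z s)) := by simp [hx.1, hx.2.1, hx.2.2, hxz]
          rw [hg x hx', htf x hx']
    have cf : ∀ i ∈ insert z s, ∀ x, x ∉ insert a (insert b (insert z s)) → cyc a b i x = x := by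
      intro i hi x hx
      simp only [Finset.mem_insert, not_or] at hx
      refine cyc_other hx.1 hx.2.1 ?_
      rintro rfl
      exact (Finset.mem_insert.mp hi).elim hx.2.2.1 hx.2.2.2
    have hzb : z ≠ b := Ne.symm hb.1
    have hZm := hK z (Finset.mem_insert_self _ _)
    have hz1 := sign_cyc (a := a) hab hzb
    have hZb : (cyc a b z)⁻¹ z = b := by
      rw [Perm.inv_def, Equiv.symm_apply_eq, cyc_b (Ne.symm ha.1) hzb]
    have cfi : ∀ x, x ∉ insert a (insert b (insert z s)) → (cyc a b z)⁻¹ x = x := fun x hx => by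
      rw [Perm.inv_def, Equiv.symm_apply_eq, cf z (Finset.mem_insert_self _ _) x hx]
    by_cases h1 : g z = z
    · exact key 1 K.one_mem (map_one _) (fun _ _ => rfl) h1.symm
    have hmem : g z ∈ insert a (insert b (insert z s)) := by
      by_contra h
      exact h1 (g.injective (hg _ h))
    simp only [Finset.mem_insert] at hmem
    rcases hmem with h | h | h | h
    · exact key _ hZm hz1 (cf z (Finset.mem_insert_self _ _)) (by rw [cyc_i, h])
    · exact key _ (K.inv_mem hZm) (by simp [hz1]) cfi (by rw [hZb, h])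
    · exact absurd h h1
    · have hjb : g z ≠ b := fun e => hb.2 (e ▸ h)
      refine key _ (K.mul_mem (hK _ (Finset.mem_insert_of_mem h)) (K.inv_mem hZm))
        (by simp [hz1, sign_cyc hab hjb]) (fun x hx => ?_) ?_
      · rw [Perm.mul_apply, cfi x hx, cf _ (Finset.mem_insert_of_mem h) x hx]
      · rw [Perm.mul_apply, hZb, cyc_b (fun e => ha.2 (by rwa [e] at h)) hjb]

end Fin

end Cfsg.Agent.ShortPresCarmichael
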