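import Cfsg.Agent.Lib.A8ThreeLocalChoice45
import Cfsg.Agent.Lib.ShortPresCarmichael

/-!
The two embedded subgroups generate a copy of the alternating group of degree 8.
-/

set_option autoImplicit false

namespace Cfsg.Agent.A8ThreeLocal45

open Equiv Equiv.Perm ShortPresCarmichael

set_option maxRecDepth 100000

variable {G : Type*} [Group G] [Finite G]

/-- An embedding of `Alt(8)` with the local data attached to it. -/
structure Full (f : S8 → G) (D : Subgroup G) : Prop where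
  mul : ∀ x y, sign x = 1 → sign y = 1 → f (x * y) = f x * f y
  inj : ∀ x, sign x = 1 → f x = 1 → x = 1
  memD : ∀ g, g ∈ D ↔ ∃ i j : Fin 3, g = f (z0 ^ i.val * w0 ^ j.val)
  cent : Subgroup.centralizer (D : Set G) = D
  cardD : Nat.card D = 9
  sylow : ∀ R : Subgroup G, IsPGroup 3 R → ∃ g : G, ∀ x ∈ R, g * x * g⁻¹ ∈ D
  norm_z : ∀ g, g ∈ Subgroup.normalizer (Subgroup.zpowers (f z0) : Set G) →
    ∃ x, sign x = 1 ∧ f x = g
  cent_y : ∀ g, g * f y0 = f y0 * g → ∃ x, sign x = 1 ∧ f x = g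
  norm_D : ∀ g, g ∈ Subgroup.normalizer (D : Set G) → ∃ x, sign x = 1 ∧ f x = g
  card_y : Nat.card (Subgroup.centralizer ({f y0} : Set G)) = 18
  not_both : ∀ {i g k : G}, i * i = 1 → i ≠ 1 → Commute i (g * f z0 * g⁻¹) →
    Commute i (k * f y0 * k⁻¹) → False
  cent_V : ∀ g, g * f v1 = f v1 * g → g * f v2 = f v2 * g →
    ∃ (q p : Fin 2 × Fin 2) (i : Fin 3), g = f (vE q * aE p * z0 ^ i.val)

/-- the six generating cycles -/
def cy (i : Fin 8) : S8 := cyc 6 7 i

def sixPts : Finset (Fin 8) := {0, 1, 2, 3, 4, 5}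

theorem sign_even_L1 {x : S8} (hx : x ∈ L1) : sign x = 1 := hx.1

variable {φ : S8 → G} {D : Subgroup G} {s : G}

/-- the second embedding -/
def phi' (φ : S8 → G) (s : G) (t x : S8) : G := s * φ (t * x * t) * s⁻¹

def inL2 (t x : S8) : Prop := t * x * t ∈ L1

theorem phi'_mul (h : Emb φ) {t : S8} (tt : t * t = 1) {x y : S8} (hx : inL2 t x) (hy : inL2 t y) :
    inL2 t (x * y) ∧ phi' φ s t (x * y) = phi' φ s t x * phi' φ s t y := by
  have e : t * (x * y) * t = t * x * t * (t * y * t) := by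
    calc t * (x * y) * t = t * x * (t * t) * y * t := by rw [tt]; group
      _ = _ := by group
  refine ⟨by rw [inL2, e]; exact mul_mem hx hy, ?_⟩
  rw [phi', e, h.mul _ _ hx hy, phi', phi']
  group

omit [Finite G] in
theorem sq_of_commute {H : Type*} [Group H] {x y : H} (hx : x * x = 1) (hy : y * y = 1)
    (hc : x * y = y * x) : x * y * (x * y) = 1 := by
  calc x * y * (x * y) = x * y * (y * x) := by rw [hc]
    _ = x * (y * y) * x := by group
    _ = 1 := by rw [hy, mul_one, hx]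

omit [Finite G] in
theorem sq_swap {H : Type*} [Group H] {x y : H} (h : x * y * (x * y) = 1) :
    y * x * (y * x) = 1 := by
  calc y * x * (y * x) = x⁻¹ * (x * y * (x * y)) * x := by group
    _ = 1 := by rw [h]; group

set_option maxHeartbeats 1600000 in
theorem Swap.exists_full (h : Swap φ D s) : ∃ f : S8 → G, Full f D := by
  classical
  obtain ⟨t, ht, hta, hcV⟩ := h.exists_choice
  have tt : t * t = 1 := by rcases ht with rfl | rfl <;> decide +kernel
  have h2 : ∀ x, inL2 t x → ∀ y, inL2 t y → phi' φ s t (x * y) = phi' φ s t x * phi' φ s t y :=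
    fun x hx y hy => (phi'_mul h.toEmb tt hx hy).2
  have agree : ∀ x, x = z0 ∨ x = w0 ∨ x = e0 ∨ x = b0 →
      inL2 t x ∧ phi' φ s t x = φ x := by
    intro x hx
    rcases ht with rfl | rfl <;> rcases hx with rfl | rfl | rfl | rfl <;>
      refine ⟨by unfold inL2; decide +kernel, ?_⟩ <;> unfold phi'
    · rw [show tau * z0 * tau = w0 by decide +kernel, h.sw]
    · rw [show tau * w0 * tau = z0 by decide +kernel, h.sz]
    · rw [show tau * e0 * tau = b0 by decide +kernel, h.sb]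
    · rw [show tau * b0 * tau = e0 by decide +kernel, h.se]
    · rw [show tau' * z0 * tau' = w0 by decide +kernel, h.sw]
    · rw [show tau' * w0 * tau' = z0 by decide +kernel, h.sz]
    · rw [show tau' * e0 * tau' = b0 by decide +kernel, h.sb]
    · rw [show tau' * b0 * tau' = e0 by decide +kernel, h.se]
  -- the images of the generators
  set Y : Fin 8 → G := fun i => if i.val < 3 then phi' φ s t (cy i) else φ (cy i) with hY
  have hlo : ∀ i : Fin 8, i.val < 3 → inL2 t (cy i) ∧ Y i = phi' φ s t (cy i) := by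
    intro i hi
    refine ⟨?_, if_pos hi⟩
    unfold inL2
    rcases ht with rfl | rfl <;> revert i <;> decide +kernel
  have hhi : ∀ i : Fin 8, i ∈ sixPts → ¬ i.val < 3 → cy i ∈ L1 ∧ Y i = φ (cy i) := by
    intro i hi hi3
    exact ⟨(by decide +kernel : ∀ i : Fin 8, i ∈ sixPts → ¬ i.val < 3 → cy i ∈ L1) i hi hi3,
      if_neg hi3⟩
  have phi'_one : phi' φ s t 1 = 1 := by
    rw [phi', mul_one, tt, h.map_one, mul_one, mul_inv_cancel]
  -- conjugation by `D`
  have hDconj : ∀ a b : Fin 3, ∀ i ∈ sixPts, φ (z0 ^ a.val * w0 ^ b.val) * Y i *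
      (φ (z0 ^ a.val * w0 ^ b.val))⁻¹ = Y ((z0 ^ a.val * w0 ^ b.val) i) := by
    intro a b i hi
    set g := z0 ^ a.val * w0 ^ b.val
    have hg : g ∈ L1 := d0_mem a b
    have hi' : g i ∈ sixPts ∧ ((g i).val < 3 ↔ i.val < 3) ∧ cy (g i) = g * cy i * g⁻¹ :=
      (by decide +kernel : ∀ (a b : Fin 3) (i : Fin 8), i ∈ sixPts →
        (z0 ^ a.val * w0 ^ b.val) i ∈ sixPts ∧
        (((z0 ^ a.val * w0 ^ b.val) i).val < 3 ↔ i.val < 3) ∧
        cy ((z0 ^ a.val * w0 ^ b.val) i) = z0 ^ a.val * w0 ^ b.val * cy i *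
          (z0 ^ a.val * w0 ^ b.val)⁻¹) a b i hi
    have hg2 : inL2 t g ∧ phi' φ s t g = φ g := by
      have hz := agree z0 (Or.inl rfl)
      have hw := agree w0 (Or.inr (Or.inl rfl))
      have hp : ∀ x, inL2 t x → phi' φ s t x = φ x → x ∈ L1 → ∀ n : ℕ,
          inL2 t (x ^ n) ∧ phi' φ s t (x ^ n) = φ (x ^ n) := by
        intro x hx e hxL n
        induction n with
        | zero => exact ⟨by simp [inL2, tt, one_mem], by rw [pow_zero, phi'_one, h.map_one]⟩
        | succ n ih =>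
          rw [pow_succ]
          refine ⟨(phi'_mul (s := s) h.toEmb tt ih.1 hx).1, ?_⟩
          rw [h2 _ ih.1 _ hx, ih.2, e, h.mul _ _ (pow_mem hxL n) hxL]
      have p1 := hp z0 hz.1 hz.2 z0_mem a.val
      have p2 := hp w0 hw.1 hw.2 w0_mem b.val
      refine ⟨(phi'_mul (s := s) h.toEmb tt p1.1 p2.1).1, ?_⟩
      rw [h2 _ p1.1 _ p2.1, p1.2, p2.2, h.mul _ _ (pow_mem z0_mem _) (pow_mem w0_mem _)]
    by_cases h3 : i.val < 3
    · obtain ⟨hc, e⟩ := hlo i h3
      obtain ⟨hc', e'⟩ := hlo _ (hi'.2.1.2 h3)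
      rw [e, e', hi'.2.2, ← hg2.2]
      have hinv : inL2 t g⁻¹ ∧ phi' φ s t g⁻¹ = (phi' φ s t g)⁻¹ := by
        have ht' : t⁻¹ = t := inv_eq_of_mul_eq_one_right tt
        have e1 : t * g⁻¹ * t = (t * g * t)⁻¹ := by
          calc t * g⁻¹ * t = t⁻¹ * g⁻¹ * t⁻¹ := by rw [ht']
            _ = _ := by group
        refine ⟨by rw [inL2, e1]; exact inv_mem hg2.1, ?_⟩
        rw [phi', e1, h.toEmb.map_inv hg2.1, phi']
        group
      rw [h2 _ (phi'_mul (s := s) h.toEmb tt hg2.1 hc).1 _ hinv.1, h2 _ hg2.1 _ hc, hinv.2]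
    · obtain ⟨hc, e⟩ := hhi i hi h3
      obtain ⟨hc', e'⟩ := hhi _ hi'.1 (fun hh => h3 (hi'.2.1.1 hh))
      rw [e, e', hi'.2.2, h.toEmb.conj hg hc]
  -- the basic cross relation
  have cross0 : Y 2 * Y 5 * (Y 2 * Y 5) = 1 := by
    set a := d2 0 1 2 6
    set b := d2 0 1 5 7
    obtain ⟨he2, he⟩ := agree e0 (Or.inr (Or.inr (Or.inl rfl)))
    obtain ⟨hb2, hb⟩ := agree b0 (Or.inr (Or.inr (Or.inr rfl)))
    have ha2 : inL2 t a := by unfold inL2; rcases ht with rfl | rfl <;> decide +kernel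
    have hbL : b ∈ L1 := by decide +kernel
    have e2 : Y 2 = phi' φ s t a * φ e0 := by
      rw [(hlo 2 (by decide)).2, show cy 2 = a * e0 by decide +kernel, h2 _ ha2 _ he2, he]
    have e5 : Y 5 = φ e0 * φ b := by
      rw [(hhi 5 (by decide) (by decide)).2, show cy 5 = e0 * b by decide +kernel,
        h.mul _ _ e0_mem hbL]
    have hee : φ e0 * φ e0 = 1 := by
      rw [← h.mul _ _ e0_mem e0_mem, show e0 * e0 = 1 by decide +kernel, h.map_one]
    rw [show Y 2 * Y 5 = phi' φ s t a * φ b by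
      rw [e2, e5, show phi' φ s t a * φ e0 * (φ e0 * φ b) = phi' φ s t a * (φ e0 * φ e0) * φ b by
        group, hee, mul_one]]
    refine sq_of_commute ?_ ?_ ?_
    · rw [← h2 _ ha2 _ ha2, show a * a = 1 by decide +kernel, phi'_one]
    · rw [← h.mul _ _ hbL hbL, show b * b = 1 by decide +kernel, h.map_one]
    · have hvL : d2 3 4 5 7 ∈ L1 := by decide +kernel
      have c1 : phi' φ s t a * φ a0 = φ a0 * phi' φ s t a := by
        rw [show a0 = e0 * b0 by decide +kernel, h.mul _ _ e0_mem b0_mem, ← he, ← hb,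
          ← h2 _ he2 _ hb2]
        have hab := (phi'_mul (s := s) h.toEmb tt he2 hb2).1
        rw [← h2 _ ha2 _ hab, ← h2 _ hab _ ha2]
        congr 1
        decide +kernel
      have c2 : phi' φ s t a * φ (d2 3 4 5 7) = φ (d2 3 4 5 7) * phi' φ s t a := by
        obtain ⟨haL, hav⟩ := hta (1, 0)
        have hc := (mem_cV.1 hav).1
        have ea : a = e0 * a1 * e0 := by decide +kernel
        have ha12 : inL2 t a1 := by unfold inL2; rcases ht with rfl | rfl <;> decide +kernel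
        have eA : phi' φ s t a = φ e0 * phi' φ s t a1 * φ e0 := by
          rw [ea, h2 _ (phi'_mul (s := s) h.toEmb tt he2 ha12).1 _ he2, h2 _ he2 _ ha12, he]
        have eV : φ (d2 3 4 5 7) = φ e0 * φ v1 * φ e0 := by
          rw [show d2 3 4 5 7 = e0 * v1 * e0 by decide +kernel,
            h.mul _ _ (mul_mem e0_mem v1_mem) e0_mem, h.mul _ _ e0_mem v1_mem]
        have hc' : phi' φ s t a1 * φ v1 = φ v1 * phi' φ s t a1 := by
          simpa [phi', aE] using hc
        rw [eA, eV]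
        calc φ e0 * phi' φ s t a1 * φ e0 * (φ e0 * φ v1 * φ e0)
            = φ e0 * phi' φ s t a1 * (φ e0 * φ e0) * φ v1 * φ e0 := by group
          _ = φ e0 * (phi' φ s t a1 * φ v1) * φ e0 := by rw [hee]; group
          _ = φ e0 * φ v1 * (φ e0 * φ e0) * phi' φ s t a1 * φ e0 := by rw [hc', hee]; group
          _ = _ := by group
      rw [show b = a0 * d2 3 4 5 7 by decide +kernel, h.mul _ _ a0_mem hvL, ← mul_assoc, c1,
        mul_assoc, c2, mul_assoc]
  have hrel : ∀ i ∈ sixPts, ∀ j ∈ sixPts, i ≠ j → Y i * Y j * (Y i * Y j) = 1 := by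
    intro i hi j hj hij
    by_cases hi3 : i.val < 3 <;> by_cases hj3 : j.val < 3
    · obtain ⟨c1, e1⟩ := hlo i hi3
      obtain ⟨c2, e2⟩ := hlo j hj3
      have c12 := (phi'_mul (s := s) h.toEmb tt c1 c2).1
      rw [e1, e2, ← h2 _ c1 _ c2, ← h2 _ c12 _ c12,
        (by decide +kernel : ∀ i j : Fin 8, i ∈ sixPts → j ∈ sixPts → i ≠ j →
          cy i * cy j * (cy i * cy j) = 1) i j hi hj hij, phi'_one]
    · obtain ⟨a, b, ea, eb⟩ := (by decide +kernel : ∀ i j : Fin 8, i ∈ sixPts → j ∈ sixPts →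
        i.val < 3 → ¬ j.val < 3 → ∃ a b : Fin 3, (z0 ^ a.val * w0 ^ b.val) 2 = i ∧
          (z0 ^ a.val * w0 ^ b.val) 5 = j) i j hi hj hi3 hj3
      rw [← ea, ← eb, ← hDconj a b 2 (by decide), ← hDconj a b 5 (by decide)]
      set c := φ (z0 ^ a.val * w0 ^ b.val)
      calc c * Y 2 * c⁻¹ * (c * Y 5 * c⁻¹) * (c * Y 2 * c⁻¹ * (c * Y 5 * c⁻¹))
          = c * (Y 2 * Y 5 * (Y 2 * Y 5)) * c⁻¹ := by group
        _ = 1 := by rw [cross0]; group
    · apply sq_swap
      obtain ⟨a, b, ea, eb⟩ := (by decide +kernel : ∀ i j : Fin 8, i ∈ sixPts → j ∈ sixPts →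
        i.val < 3 → ¬ j.val < 3 → ∃ a b : Fin 3, (z0 ^ a.val * w0 ^ b.val) 2 = i ∧
          (z0 ^ a.val * w0 ^ b.val) 5 = j) j i hj hi hj3 hi3
      rw [← ea, ← eb, ← hDconj a b 2 (by decide), ← hDconj a b 5 (by decide)]
      set c := φ (z0 ^ a.val * w0 ^ b.val)
      calc c * Y 2 * c⁻¹ * (c * Y 5 * c⁻¹) * (c * Y 2 * c⁻¹ * (c * Y 5 * c⁻¹))
          = c * (Y 2 * Y 5 * (Y 2 * Y 5)) * c⁻¹ := by group
        _ = 1 := by rw [cross0]; group
    · obtain ⟨c1, e1⟩ := hhi i hi hi3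
      obtain ⟨c2, e2⟩ := hhi j hj hj3
      rw [e1, e2, ← h.mul _ _ c1 c2, ← h.mul _ _ (mul_mem c1 c2) (mul_mem c1 c2),
        (by decide +kernel : ∀ i j : Fin 8, i ∈ sixPts → j ∈ sixPts → i ≠ j →
          cy i * cy j * (cy i * cy j) = 1) i j hi hj hij, h.map_one]
  have hcube : ∀ i ∈ sixPts, Y i * Y i * Y i = 1 := by
    intro i hi
    have e3 : cy i * cy i * cy i = 1 :=
      (by decide +kernel : ∀ i : Fin 8, i ∈ sixPts → cy i * cy i * cy i = 1) i hi
    by_cases hi3 : i.val < 3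
    · obtain ⟨c, e⟩ := hlo i hi3
      rw [e, ← h2 _ c _ c, ← h2 _ (phi'_mul (s := s) h.toEmb tt c c).1 _ c, e3, phi'_one]
    · obtain ⟨c, e⟩ := hhi i hi hi3
      rw [e, ← h.mul _ _ c c, ← h.mul _ _ (mul_mem c c) c, e3, h.map_one]
  -- the graph
  set y : Fin 8 → G × S8 := fun i => (Y i, cy i) with hy
  set Γ := Subgroup.closure (y '' (sixPts : Set (Fin 8))) with hΓ
  have huniq : ∀ p ∈ Γ, p.2 = 1 → p = 1 := by
    intro p hp hp1
    refine eq_one_of_map (a := (6 : Fin 8)) (b := 7) (by decide) y (MonoidHom.snd G S8) sixPts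
      (by decide) (by decide) (fun i _ => rfl) (fun i hi => ?_) (fun i hi j hj hij => ?_) p hp hp1
    · exact Prod.ext (hcube i hi)
        ((by decide +kernel : ∀ i : Fin 8, i ∈ sixPts → cy i * cy i * cy i = 1) i hi)
    · exact Prod.ext (hrel i hi j hj hij)
        ((by decide +kernel : ∀ i j : Fin 8, i ∈ sixPts → j ∈ sixPts → i ≠ j →
          cy i * cy j * (cy i * cy j) = 1) i j hi hj hij)
  have hexist : ∀ x : S8, sign x = 1 → ∃ g, (g, x) ∈ Γ := by
    intro x hx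
    have hmem := mem_closure_cyc (a := (6 : Fin 8)) (b := 7) (by decide) sixPts (by decide)
      (by decide) x hx (fun z hz => absurd
        ((by decide : ∀ z : Fin 8, z ∈ insert 6 (insert 7 sixPts)) z) hz)
    have hmap : Subgroup.closure (cyc 6 7 '' (sixPts : Set (Fin 8))) ≤
        Γ.map (MonoidHom.snd G S8) := by
      rw [Subgroup.closure_le]
      rintro _ ⟨i, hi, rfl⟩
      exact ⟨y i, Subgroup.subset_closure ⟨i, hi, rfl⟩, rfl⟩
    obtain ⟨⟨g, x'⟩, hg, e⟩ := hmap hmem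
    exact ⟨g, (show x' = x from e) ▸ hg⟩
  set f : S8 → G := fun x => if hx : sign x = 1 then (hexist x hx).choose else 1 with hf
  have hfΓ : ∀ x, sign x = 1 → (f x, x) ∈ Γ := fun x hx => by
    simp only [hf, dif_pos hx]; exact (hexist x hx).choose_spec
  have feq : ∀ {g : G} {x : S8}, sign x = 1 → (g, x) ∈ Γ → f x = g := by
    intro g x hx hg
    have := huniq _ (mul_mem (hfΓ x hx) (inv_mem hg)) (by simp)
    exact mul_inv_eq_one.1 (congrArg Prod.fst this)
  have fmul : ∀ a b, sign a = 1 → sign b = 1 → f (a * b) = f a * f b := fun a b ha hb =>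
    feq (by rw [map_mul, ha, hb, one_mul]) (mul_mem (hfΓ a ha) (hfΓ b hb))
  have fone : f 1 = 1 := feq (map_one _) (one_mem _)
  have fy : ∀ i ∈ sixPts, f (cy i) = Y i := fun i hi =>
    feq ((by decide +kernel : ∀ i : Fin 8, i ∈ sixPts → sign (cy i) = 1) i hi)
      (Subgroup.subset_closure ⟨i, hi, rfl⟩)
  -- agreement with `φ'` and `φ`
  have lowgen : ∀ x, sign x = 1 → x 3 = 3 → x 4 = 4 → x 5 = 5 →
      inL2 t x ∧ f x = phi' φ s t x := by
    intro x hx h3 h4 h5
    have hmem := mem_closure_cyc (a := (6 : Fin 8)) (b := 7) (by decide) {0, 1, 2} (by decide)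
      (by decide) x hx (fun z hz => by
        rcases (by decide : ∀ z : Fin 8, z ∈ insert 6 (insert 7 ({0, 1, 2} : Finset (Fin 8))) ∨
          z = 3 ∨ z = 4 ∨ z = 5) z with e | rfl | rfl | rfl
        · exact absurd e hz
        all_goals assumption)
    clear h3 h4 h5
    revert hx
    induction hmem using Subgroup.closure_induction_left with
    | one => exact fun _ => ⟨by simp [inL2, tt, one_mem], by rw [fone, phi'_one]⟩
    | mul_left c hc w hw ih =>
      intro hx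
      obtain ⟨i, hi, rfl⟩ := hc
      obtain ⟨hi6, hi3, hsi⟩ := (by decide +kernel : ∀ i : Fin 8, i ∈ ({0, 1, 2} : Finset (Fin 8)) →
        i ∈ sixPts ∧ i.val < 3 ∧ sign (cy i) = 1) i (Finset.mem_coe.1 hi)
      have hw1 : sign w = 1 := by rwa [map_mul, show sign (cyc 6 7 i) = 1 from hsi, one_mul] at hx
      obtain ⟨i1, i2⟩ := ih hw1
      obtain ⟨c1, e⟩ := hlo i hi3
      refine ⟨(phi'_mul (s := s) h.toEmb tt c1 i1).1, ?_⟩
      rw [show cyc 6 7 i * w = cy i * w from rfl, fmul _ _ hsi hw1, fy i hi6, e, i2, h2 _ c1 _ i1]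
    | inv_mul_cancel c hc w hw ih =>
      intro hx
      obtain ⟨i, hi, rfl⟩ := hc
      obtain ⟨hi6, hi3, hsi, hinv⟩ := (by decide +kernel :
        ∀ i : Fin 8, i ∈ ({0, 1, 2} : Finset (Fin 8)) →
        i ∈ sixPts ∧ i.val < 3 ∧ sign (cy i) = 1 ∧ (cy i)⁻¹ = cy i * cy i) i (Finset.mem_coe.1 hi)
      have hw1 : sign w = 1 := by
        rwa [map_mul, map_inv, show sign (cyc 6 7 i) = 1 from hsi, inv_one, one_mul] at hx
      obtain ⟨i1, i2⟩ := ih hw1
      obtain ⟨c1, e⟩ := hlo i hi3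
      have c2 := (phi'_mul (s := s) h.toEmb tt c1 c1).1
      rw [show (cyc 6 7 i)⁻¹ = cy i * cy i from hinv]
      refine ⟨(phi'_mul (s := s) h.toEmb tt c2 i1).1, ?_⟩
      rw [fmul _ _ (by rw [map_mul, hsi, one_mul]) hw1, fmul _ _ hsi hsi, fy i hi6, e, i2,
        h2 _ c2 _ i1, h2 _ c1 _ c1]
  have highgen : ∀ r, sign r = 1 → r 0 = 0 → r 1 = 1 → r 2 = 2 → r ∈ L1 ∧ f r = φ r := by
    intro x hx h0 h1 h2'
    have hmem := mem_closure_cyc (a := (6 : Fin 8)) (b := 7) (by decide) {3, 4, 5} (by decide)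
      (by decide) x hx (fun z hz => by
        rcases (by decide : ∀ z : Fin 8, z ∈ insert 6 (insert 7 ({3, 4, 5} : Finset (Fin 8))) ∨
          z = 0 ∨ z = 1 ∨ z = 2) z with e | rfl | rfl | rfl
        · exact absurd e hz
        all_goals assumption)
    clear h0 h1 h2'
    revert hx
    induction hmem using Subgroup.closure_induction_left with
    | one => exact fun _ => ⟨one_mem _, by rw [fone, h.map_one]⟩
    | mul_left c hc w hw ih =>
      intro hx
      obtain ⟨i, hi, rfl⟩ := hc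
      obtain ⟨hi6, hi3, hsi⟩ := (by decide +kernel : ∀ i : Fin 8, i ∈ ({3, 4, 5} : Finset (Fin 8)) →
        i ∈ sixPts ∧ ¬ i.val < 3 ∧ sign (cy i) = 1) i (Finset.mem_coe.1 hi)
      have hw1 : sign w = 1 := by rwa [map_mul, show sign (cyc 6 7 i) = 1 from hsi, one_mul] at hx
      obtain ⟨i1, i2⟩ := ih hw1
      obtain ⟨c1, e⟩ := hhi i hi6 hi3
      refine ⟨mul_mem c1 i1, ?_⟩
      rw [show cyc 6 7 i * w = cy i * w from rfl, fmul _ _ hsi hw1, fy i hi6, e, i2, h.mul _ _ c1 i1]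
    | inv_mul_cancel c hc w hw ih =>
      intro hx
      obtain ⟨i, hi, rfl⟩ := hc
      obtain ⟨hi6, hi3, hsi, hinv⟩ := (by decide +kernel :
        ∀ i : Fin 8, i ∈ ({3, 4, 5} : Finset (Fin 8)) →
        i ∈ sixPts ∧ ¬ i.val < 3 ∧ sign (cy i) = 1 ∧ (cy i)⁻¹ = cy i * cy i) i (Finset.mem_coe.1 hi)
      have hw1 : sign w = 1 := by
        rwa [map_mul, map_inv, show sign (cyc 6 7 i) = 1 from hsi, inv_one, one_mul] at hx
      obtain ⟨i1, i2⟩ := ih hw1
      obtain ⟨c1, e⟩ := hhi i hi6 hi3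
      rw [show (cyc 6 7 i)⁻¹ = cy i * cy i from hinv]
      refine ⟨mul_mem (mul_mem c1 c1) i1, ?_⟩
      rw [fmul _ _ (by rw [map_mul, hsi, one_mul]) hw1, fmul _ _ hsi hsi, fy i hi6, e, i2,
        h.mul _ _ (mul_mem c1 c1) i1, h.mul _ _ c1 c1]
  have fz : f z0 = φ z0 := by
    rw [(lowgen z0 (by decide +kernel) (by decide +kernel) (by decide +kernel)
      (by decide +kernel)).2, (agree z0 (Or.inl rfl)).2]
  have fe : f e0 = φ e0 := by
    rw [(lowgen e0 (by decide +kernel) (by decide +kernel) (by decide +kernel)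
      (by decide +kernel)).2, (agree e0 (Or.inr (Or.inr (Or.inl rfl)))).2]
  have spow : ∀ {x : S8}, sign x = 1 → ∀ n : ℕ, sign (x ^ n) = 1 := fun hx n => by
    rw [map_pow, hx, one_pow]
  have fpow : ∀ {x : S8}, sign x = 1 → ∀ n : ℕ, f (x ^ n) = f x ^ n := by
    intro x hx n
    induction n with
    | zero => simp [fone]
    | succ n ih => rw [pow_succ, fmul _ _ (spow hx n) hx, ih, pow_succ]
  have fL : ∀ x ∈ L1, f x = φ x := by
    intro x hx
    obtain ⟨i, k, r, hr, r0, r1, r2, rfl⟩ := L1_cases hx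
    obtain ⟨rL, er⟩ := highgen r hr r0 r1 r2
    have sz : sign z0 = 1 := z0_mem.1
    have se : sign e0 = 1 := e0_mem.1
    rw [fmul _ _ (by rw [map_mul, spow sz, spow se, one_mul]) hr, fmul _ _ (spow sz _) (spow se _),
      fpow sz, fpow se, fz, fe, er,
      h.mul _ _ (mul_mem (pow_mem z0_mem _) (pow_mem e0_mem _)) rL,
      h.mul _ _ (pow_mem z0_mem _) (pow_mem e0_mem _), h.toEmb.map_pow z0_mem,
      h.toEmb.map_pow e0_mem]
  have finj : ∀ x, sign x = 1 → f x = 1 → x = 1 := by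
    intro x hx hfx
    set K := ((alternatingGroup (Fin 8)) : Subgroup S8)
    let F : K →* G :=
      { toFun := fun a => f a.1
        map_one' := fone
        map_mul' := fun a b => fmul _ _ a.2 b.2 }
    haveI : IsSimpleGroup K := alternatingGroup.isSimpleGroup (by simp)
    rcases (MonoidHom.normal_ker F).eq_bot_or_eq_top with e | e
    · have hm : (⟨x, hx⟩ : K) ∈ F.ker := hfx
      rw [e, Subgroup.mem_bot] at hm
      exact congrArg Subtype.val hm
    · have hm : (⟨z0, z0_mem.1⟩ : K) ∈ F.ker := e ▸ Subgroup.mem_top _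
      exact absurd (fz ▸ (hm : f z0 = 1)) h.toBase.z_ne
  have sd : ∀ i j : Fin 3, sign (z0 ^ i.val * w0 ^ j.val) = 1 := fun i j => (d0_mem i j).1
  have stau : sign tau = 1 := by decide +kernel
  have fty : f tau * f y0 = f y0 * f tau := by
    rw [← fmul _ _ stau y0_mem.1, ← fmul _ _ y0_mem.1 stau]
    congr 1
    decide +kernel
  refine ⟨f, ⟨fmul, finj, fun g => ?_, h.cent, h.cardD, h.sylow, ?_, ?_, ?_, ?_, ?_, ?_⟩⟩
  · rw [h.memD]
    exact exists_congr fun i => exists_congr fun j => by rw [fL _ (d0_mem i j)]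
  · intro g hg
    rw [fz] at hg
    obtain ⟨x, hx, rfl⟩ := (h.img g).1 hg
    exact ⟨x, hx.1, fL x hx⟩
  · intro g hg
    have hfy : f y0 = φ y0 := fL _ y0_mem
    set C := Subgroup.centralizer ({φ y0} : Set G)
    let pt : Fin 3 × Fin 3 × Fin 2 → S8 := fun q => z0 ^ q.1.val * w0 ^ q.2.1.val * tau ^ q.2.2.val
    have hpt : ∀ q, sign (pt q) = 1 := by decide +kernel
    have hcom : ∀ q, pt q * y0 = y0 * pt q := by decide +kernel
    have hinjp : ∀ p q, pt p = pt q → p = q := by decide +kernel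
    have hmem : ∀ q, f (pt q) ∈ C := by
      intro q
      rw [mem_cent_singleton, ← hfy, ← fmul _ _ (hpt q) y0_mem.1, ← fmul _ _ y0_mem.1 (hpt q),
        hcom q]
    have hb : Function.Bijective (fun q => (⟨f (pt q), hmem q⟩ : C)) := by
      rw [Nat.bijective_iff_injective_and_card]
      refine ⟨fun p q e => hinjp p q ?_, ?_⟩
      · have := congrArg Subtype.val e
        refine mul_inv_eq_one.1 (finj _ (by rw [map_mul, map_inv, hpt, hpt]; simp) ?_)
        have hinv : f (pt q)⁻¹ = (f (pt q))⁻¹ := eq_inv_of_mul_eq_one_left (by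
          rw [← fmul _ _ (by rw [map_inv, hpt, inv_one]) (hpt q), inv_mul_cancel, fone])
        rw [fmul _ _ (hpt p) (by rw [map_inv, hpt, inv_one]), hinv]
        simp only at this
        rw [this, mul_inv_cancel]
      · rw [h.toBase.y0_spec.1, Nat.card_eq_fintype_card]; rfl
    obtain ⟨q, hq⟩ := hb.2 ⟨g, mem_cent_singleton.2 (by rw [← hfy]; exact hg)⟩
    exact ⟨pt q, hpt q, congrArg Subtype.val hq⟩
  · intro g hg
    have hz : ∀ a : G, a * φ z0 * a⁻¹ = φ z0 ∨ a * φ z0 * a⁻¹ = (φ z0)⁻¹ →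
        ∃ x, sign x = 1 ∧ f x = a := by
      intro a ha
      obtain ⟨x, hx, rfl⟩ := (h.img a).1 ((mem_normalizer_zpowers h.toBase.z3).2 ha)
      exact ⟨x, hx.1, fL x hx⟩
    obtain ⟨i, j, e⟩ := (h.memD _).1 ((Subgroup.mem_normalizer_iff.1 hg _).1 h.toBase.z_mem)
    have hw : f tau * φ w0 * (f tau)⁻¹ = φ z0 := by
      rw [← fL _ w0_mem, ← fz, mul_inv_eq_iff_eq_mul, ← fmul _ _ stau w0_mem.1,
        ← fmul _ _ z0_mem.1 stau]
      congr 1
      decide +kernel
    have hfix : φ w0 = g * φ z0 * g⁻¹ ∨ (φ w0)⁻¹ = g * φ z0 * g⁻¹ →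
        ∃ x, sign x = 1 ∧ f x = g := by
      intro he
      obtain ⟨x, hx, ex⟩ := hz (f tau * g) (by
        rw [show f tau * g * φ z0 * (f tau * g)⁻¹ = f tau * (g * φ z0 * g⁻¹) * (f tau)⁻¹ by group]
        rcases he with he | he <;> rw [← he]
        · exact Or.inl hw
        · exact Or.inr (conj_eq_inv hw))
      refine ⟨tau * x, by rw [map_mul, stau, hx, one_mul], ?_⟩
      rw [fmul _ _ stau hx, ex, ← mul_assoc, ← fmul _ _ stau stau,
        show tau * tau = 1 by decide +kernel, fone, one_mul]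
    rcases d0_cases i j with ⟨rfl, rfl⟩ | ⟨-, k | k⟩ | ⟨-, k | k⟩ | ⟨c, k | k⟩
    · rw [show (z0 ^ (0 : Fin 3).val * w0 ^ (0 : Fin 3).val) = 1 by simp, h.map_one] at e
      exact absurd (conj_eq_one_iff.1 e) h.toBase.z_ne
    · exact hz g (Or.inl (by rw [e, k]))
    · exact hz g (Or.inr (by rw [e, k, h.toEmb.map_inv z0_mem]))
    · exact hfix (Or.inl (by rw [e, k]))
    · exact hfix (Or.inr (by rw [e, k, h.toEmb.map_inv w0_mem]))
    · exfalso
      apply h.toBase.card_cent_z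
      rw [← card_cent_conj g, e, k, h.toEmb.conj (pow_mem e0_mem _) y0_mem, card_cent_conj]
      exact h.toBase.y0_spec.1
    · exfalso
      apply h.toBase.card_cent_z
      rw [← card_cent_conj g, e, k, h.toEmb.conj (pow_mem e0_mem _) (inv_mem y0_mem),
        card_cent_conj, h.toEmb.map_inv y0_mem, card_cent_inv]
      exact h.toBase.y0_spec.1
  · rw [fL _ y0_mem]; exact h.toBase.y0_spec.1
  · intro i g k hi hi1 c1 c2
    rw [fz] at c1
    rw [fL _ y0_mem] at c2
    exact h.toBase.not_both hi hi1 c1 c2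
  · intro g g1 g2
    rw [fL _ v1_mem] at g1
    rw [fL _ v2_mem] at g2
    obtain ⟨q, p, i, rfl⟩ := hcV g (mem_cV.2 ⟨g1, g2⟩)
    refine ⟨q, p, i, ?_⟩
    have sa : sign (aE p) = 1 := (by decide +kernel : ∀ p, sign (aE p) = 1) p
    obtain ⟨b3, b4, b5⟩ := (by decide +kernel : ∀ p, aE p 3 = 3 ∧ aE p 4 = 4 ∧ aE p 5 = 5) p
    have ea := (lowgen (aE p) sa b3 b4 b5).2
    rw [fmul _ _ (by rw [map_mul, (vE_mem q).1, sa, one_mul]) (spow z0_mem.1 _),
      fmul _ _ (vE_mem q).1 sa, fL _ (vE_mem q), fpow z0_mem.1, fz, ea]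
    rfl

end Cfsg.Agent.A8ThreeLocal45
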