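import Cfsg.Agent.Lib.A8ThreeLocalCentU45
import Cfsg.Agent.Lib.TransferThompson
import Cfsg.Agent.Lib.ZStarTheorem
import Cfsg.Agent.Lib.CoprimeGen

/-!
The centraliser of an involution with four fixed points lies in the image.
-/

set_option autoImplicit false

namespace Cfsg.Agent.A8ThreeLocal45

open Equiv Equiv.Perm

set_option maxRecDepth 100000

variable {G : Type*} [Group G] [Finite G] {f : S8 → G} {D : Subgroup G}

def e8 (q : Fin 2 × Fin 2 × Fin 2) : S8 := v1 ^ q.1.val * a1 ^ q.2.1.val * a0 ^ q.2.2.val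

theorem sign_e8 : ∀ q, sign (e8 q) = 1 := by decide +kernel

abbrev TIdx := ((Fin 2 × Fin 2) × (Fin 2 × Fin 2)) × Fin 2

def pT (x : TIdx) : S8 := sP (x.1, (x.2, 0))

theorem sign_pT (x : TIdx) : sign (pT x) = 1 := sign_sP _

theorem cent_e8 {l : S8} (hl : sign l = 1) (c1 : l * v1 = v1 * l) (c2 : l * a0 = a0 * l)
    (c3 : l * uS = uS * l) : ∃ q, l = e8 q := by
  have h1 : ∀ i, l (v1 i) = v1 (l i) := fun i => congrArg (· i) c1
  have h2 : ∀ i, l (a0 i) = a0 (l i) := fun i => congrArg (· i) c2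
  have h3 : ∀ i, l (uS i) = uS (l i) := fun i => congrArg (· i) c3
  have hne : ∀ {i : Fin 8} (w : S8), (∀ j, l (w j) = w (l j)) → w i ≠ i → w (l i) ≠ l i :=
    fun w hw hi e => hi (l.injective ((hw _).trans e))
  have hfx : ∀ {i : Fin 8} (w : S8), (∀ j, l (w j) = w (l j)) → w i = i → w (l i) = l i :=
    fun w hw hi => by rw [← hw, hi]
  have key : ∀ a b c d : Fin 8, (v1 a = a ∧ a0 a ≠ a) → (v1 b = b ∧ a0 b = b) →
      (v1 c ≠ c ∧ a0 c ≠ c) → (v1 d ≠ d ∧ a0 d = d) →
      ∃ q : Fin 2 × Fin 2 × Fin 2 × Fin 2,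
        let F := swap (0 : Fin 8) 1 ^ q.1.val * swap (2 : Fin 8) 7 ^ q.2.1.val *
          swap (3 : Fin 8) 4 ^ q.2.2.1.val * swap (5 : Fin 8) 6 ^ q.2.2.2.val
        F 0 = a ∧ F 2 = b ∧ F 3 = c ∧ F 5 = d := by decide +kernel
  obtain ⟨q, qa, qb, qc, qd⟩ := key (l 0) (l 2) (l 3) (l 5)
    ⟨hfx v1 h1 (by decide +kernel), hne a0 h2 (by decide +kernel)⟩
    ⟨hfx v1 h1 (by decide +kernel), hfx a0 h2 (by decide +kernel)⟩
    ⟨hne v1 h1 (by decide +kernel), hne a0 h2 (by decide +kernel)⟩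
    ⟨hne v1 h1 (by decide +kernel), hfx a0 h2 (by decide +kernel)⟩
  set F := swap (0 : Fin 8) 1 ^ q.1.val * swap (2 : Fin 8) 7 ^ q.2.1.val *
    swap (3 : Fin 8) 4 ^ q.2.2.1.val * swap (5 : Fin 8) 6 ^ q.2.2.2.val
  have hF : ∀ i, F (uS i) = uS (F i) := fun i => congrArg (· i)
    ((by decide +kernel : ∀ q : Fin 2 × Fin 2 × Fin 2 × Fin 2,
      let F := swap (0 : Fin 8) 1 ^ q.1.val * swap (2 : Fin 8) 7 ^ q.2.1.val *
        swap (3 : Fin 8) 4 ^ q.2.2.1.val * swap (5 : Fin 8) 6 ^ q.2.2.2.val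
      F * uS = uS * F) q)
  have heq : l = F := by
    refine Equiv.ext fun i => ?_
    have p1 : l 1 = F 1 := by
      rw [show (1 : Fin 8) = uS 0 by decide +kernel, h3, hF, qa]
    have p7 : l 7 = F 7 := by
      rw [show (7 : Fin 8) = uS 2 by decide +kernel, h3, hF, qb]
    have p4 : l 4 = F 4 := by
      rw [show (4 : Fin 8) = uS 3 by decide +kernel, h3, hF, qc]
    have p6 : l 6 = F 6 := by
      rw [show (6 : Fin 8) = uS 5 by decide +kernel, h3, hF, qd]
    fin_cases i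
    exacts [qa.symm, p1, qb.symm, qc.symm, p4, qd.symm, p6, p7]
  rw [heq] at hl ⊢
  exact (by decide +kernel : ∀ q : Fin 2 × Fin 2 × Fin 2 × Fin 2,
    let F := swap (0 : Fin 8) 1 ^ q.1.val * swap (2 : Fin 8) 7 ^ q.2.1.val *
      swap (3 : Fin 8) 4 ^ q.2.2.1.val * swap (5 : Fin 8) 6 ^ q.2.2.2.val
    sign F = 1 → ∃ r, F = e8 r) q hl

theorem e8_types : ∀ q, e8 q = 1 ∨ e8 q = uS ∨ e8 q * w0 = w0 * e8 q ∨ ∃ k : Fin 6 × Fin 6 × Fin 6,
    let w := cy ⟨k.1.val, by omega⟩ * cy ⟨k.2.1.val, by omega⟩ * cy ⟨k.2.2.val, by omega⟩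
    sign w = 1 ∧ e8 q * (w * z0 * w⁻¹) = w * z0 * w⁻¹ * e8 q := by decide +kernel

theorem ta_y : ∀ p : Fin 2 × Fin 2, p ≠ 0 → ∃ k : Fin 6 × Fin 6 × Fin 6,
    let w := cy ⟨k.1.val, by omega⟩ * cy ⟨k.2.1.val, by omega⟩ * cy ⟨k.2.2.val, by omega⟩
    sign w = 1 ∧ v1 * aE p * (w * y0 * w⁻¹) = w * y0 * w⁻¹ * (v1 * aE p) := by decide +kernel

theorem ta_tau : ∀ p : Fin 2 × Fin 2, p ≠ 0 → ∃ k : Fin 6 × Fin 6 × Fin 6 × Fin 6,
    let w := cy ⟨k.1.val, by omega⟩ * cy ⟨k.2.1.val, by omega⟩ * cy ⟨k.2.2.1.val, by omega⟩ *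
      cy ⟨k.2.2.2.val, by omega⟩
    sign w = 1 ∧ w * (v1 * aE p) * w⁻¹ = tau := by decide +kernel

/-- Sylow's theorem inside a subgroup whose 2-part is at most 16. -/
theorem exists_conj_into {H A B : Subgroup G} (hA : IsPGroup 2 A) (hAH : A ≤ H) (hBH : B ≤ H)
    (hB : Nat.card B = 16) (h32 : ¬ 32 ∣ Nat.card H) :
    ∃ c ∈ H, ∀ x ∈ A, c * x * c⁻¹ ∈ B := by
  haveI : Fact (Nat.Prime 2) := ⟨Nat.prime_two⟩
  obtain ⟨Q, hQ⟩ :=
    (IsPGroup.of_card (n := 4) (by
      rw [Nat.card_congr (Subgroup.subgroupOfEquivOfLe hBH).toEquiv, hB]; norm_num) :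
      IsPGroup 2 (B.subgroupOf H)).exists_le_sylow
  have hQB : B.subgroupOf H = (Q : Subgroup H) := by
    refine Subgroup.eq_of_le_of_card_ge hQ ?_
    rw [Nat.card_congr (Subgroup.subgroupOfEquivOfLe hBH).toEquiv, hB]
    obtain ⟨n, hn⟩ := IsPGroup.iff_card.1 Q.isPGroup'
    have h4 : n ≤ 4 := by
      by_contra hlt
      exact h32 ((pow_dvd_pow 2 (show 5 ≤ n by omega)).trans
        (hn ▸ Subgroup.card_subgroup_dvd_card (Q : Subgroup H)))
    rw [hn]
    exact le_trans (Nat.pow_le_pow_right (by norm_num) h4) (by norm_num)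
  obtain ⟨R, hR⟩ := (hA.comap_subtype (K := H)).exists_le_sylow
  obtain ⟨c, hc⟩ := MulAction.exists_smul_eq H R Q
  refine ⟨c, c.2, fun x hx => ?_⟩
  have : c * (⟨x, hAH hx⟩ : H) * c⁻¹ ∈ B.subgroupOf H := by
    rw [hQB, ← hc, Sylow.coe_subgroup_smul, Subgroup.mem_pointwise_smul_iff_inv_smul_mem]
    simpa [MulAut.smul_def, mul_assoc] using hR (show (⟨x, hAH hx⟩ : H) ∈ A.subgroupOf H from hx)
  exact this

namespace Full

variable (h : Full f D)
include h

theorem cent_uS {g : G} (hg : g * f uS = f uS * g) : g ∈ h.rng := by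
  have e : f tau = f h0 * f uS * (f h0)⁻¹ := by rw [← h.conj sign_h0 sign_uS, h0_uS]
  have : f h0 * g * (f h0)⁻¹ ∈ h.rng := h.card_cent_tau.2 (mem_cent_singleton.2 (by
    rw [e]
    calc f h0 * g * (f h0)⁻¹ * (f h0 * f uS * (f h0)⁻¹) = f h0 * (g * f uS) * (f h0)⁻¹ := by group
      _ = _ := by rw [hg]; group))
  simpa [mul_assoc] using
    mul_mem (mul_mem (inv_mem (h.mem_rng sign_h0)) this) (h.mem_rng sign_h0)

theorem sq_eq {x : S8} (hx : sign x = 1) (e : x * x = 1) : f x * f x = 1 := by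
  rw [← h.mul _ _ hx hx, e, h.map_one]

theorem ne_one {x : S8} (hx : sign x = 1) (e : x ≠ 1) : f x ≠ 1 := fun e' => e (h.inj _ hx e')

theorem uS_y : Commute (f uS) ((f h0)⁻¹ * f y0 * (f h0)⁻¹⁻¹) := by
  have e : f uS = (f h0)⁻¹ * f tau * f h0 := by
    rw [← h0_uS, h.conj sign_h0 sign_uS]; group
  show _ = _
  rw [e]
  calc (f h0)⁻¹ * f tau * f h0 * ((f h0)⁻¹ * f y0 * (f h0)⁻¹⁻¹)
      = (f h0)⁻¹ * (f tau * f y0) * f h0 := by group
    _ = _ := by rw [h.comm sign_tau y0_mem.1 (by decide +kernel)]; group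

/-- `C(t) ∩ C(a0)` has no subgroup of order 16. -/
theorem no16 : ¬ 16 ∣ Nat.card (Subgroup.centralizer ({f v1, f a0} : Set G)) := by
  haveI : Fact (Nat.Prime 2) := ⟨Nat.prime_two⟩
  intro hd
  set C2 := Subgroup.centralizer ({f v1, f a0} : Set G)
  have hmem : ∀ {x : G}, x ∈ C2 ↔ x * f v1 = f v1 * x ∧ x * f a0 = f a0 * x := by
    intro x
    rw [Subgroup.mem_centralizer_iff]
    constructor
    · exact fun hh => ⟨(hh _ (Or.inl rfl)).symm, (hh _ (Or.inr rfl)).symm⟩
    · rintro ⟨a, b⟩ m (rfl | rfl)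
      · exact a.symm
      · exact b.symm
  let E8 : Subgroup G :=
    { carrier := {g | ∃ q, f (e8 q) = g}
      one_mem' := ⟨0, by rw [show e8 0 = 1 by decide +kernel, h.map_one]⟩
      mul_mem' := by
        rintro _ _ ⟨p, rfl⟩ ⟨q, rfl⟩
        obtain ⟨r, hr⟩ := (by decide +kernel : ∀ p q, ∃ r, e8 p * e8 q = e8 r) p q
        exact ⟨r, by rw [← hr, h.mul _ _ (sign_e8 p) (sign_e8 q)]⟩
      inv_mem' := by
        rintro _ ⟨p, rfl⟩
        obtain ⟨r, hr⟩ := (by decide +kernel : ∀ p, ∃ r, (e8 p)⁻¹ = e8 r) p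
        exact ⟨r, by rw [← hr, h.map_inv (sign_e8 p)]⟩ }
  have hle : E8 ≤ C2 := by
    rintro _ ⟨q, rfl⟩
    obtain ⟨c1, c2⟩ := (by decide +kernel : ∀ q, e8 q * v1 = v1 * e8 q ∧ e8 q * a0 = a0 * e8 q) q
    exact hmem.2 ⟨h.comm (sign_e8 q) v1_mem.1 c1, h.comm (sign_e8 q) a0_mem.1 c2⟩
  have h8 : Nat.card E8 = 8 := by
    have hb : Function.Bijective (fun q : Fin 2 × Fin 2 × Fin 2 => (⟨f (e8 q), q, rfl⟩ : E8)) := by
      constructor
      · intro p q e
        exact (by decide +kernel : ∀ p q, e8 p = e8 q → p = q) p q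
          ((h.eq_iff (sign_e8 p) (sign_e8 q)).1 (congrArg Subtype.val e))
      · rintro ⟨_, q, rfl⟩; exact ⟨q, rfl⟩
    rw [← Nat.card_eq_of_bijective _ hb, Nat.card_eq_fintype_card]; rfl
  have h8' : Nat.card (E8.subgroupOf C2) = 2 ^ 3 := by
    rw [Nat.card_congr (Subgroup.subgroupOfEquivOfLe hle).toEquiv, h8]; norm_num
  obtain ⟨R, hR, hER⟩ := Sylow.exists_subgroup_card_pow_succ (p := 2) (n := 3) (G := C2)
    (by simpa using hd) (H := E8.subgroupOf C2) h8'
  obtain ⟨g, hgR, hgE⟩ := SetLike.exists_of_lt (lt_of_le_of_ne hER (fun e => by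
    rw [← e, h8'] at hR; norm_num at hR))
  have hi : ((E8.subgroupOf C2).subgroupOf R).index = 2 := by
    have := ((E8.subgroupOf C2).subgroupOf R).card_mul_index
    rw [Nat.card_congr (Subgroup.subgroupOfEquivOfLe hER).toEquiv, h8', hR] at this
    norm_num at this
    omega
  have huq : uS = e8 (1, 1, 0) := by decide +kernel
  have hu8 : f uS ∈ E8 := ⟨(1, 1, 0), by rw [huq]⟩
  obtain ⟨r, hr⟩ : ∃ r, f (e8 r) = (g : G) * f uS * (g : G)⁻¹ :=
    Subgroup.mem_subgroupOf.1 (Subgroup.mem_subgroupOf.1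
      ((Subgroup.normal_of_index_eq_two hi).conj_mem ⟨⟨f uS, hle hu8⟩, hER hu8⟩ hu8 ⟨g, hgR⟩))
  apply hgE
  have hru : f (e8 r) = f uS := by
    have ht : e8 r = 1 ∨ e8 r = uS ∨ ∃ w, sign w = 1 ∧
        e8 r * (w * z0 * w⁻¹) = w * z0 * w⁻¹ * e8 r := by
      rcases e8_types r with e | e | e | ⟨k, hw, hc⟩
      · exact Or.inl e
      · exact Or.inr (Or.inl e)
      · refine Or.inr (Or.inr ⟨tau, sign_tau, ?_⟩)
        rw [show tau * z0 * tau⁻¹ = w0 by decide +kernel]; exact e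
      · exact Or.inr (Or.inr ⟨_, hw, hc⟩)
    rcases ht with e | e | ⟨w, hw, hc⟩
    · exfalso
      rw [e, h.map_one] at hr
      exact h.ne_one sign_uS (by decide +kernel) (conj_eq_one_iff.1 hr.symm)
    · rw [e]
    · exfalso
      have c1 : Commute (f (e8 r)) (f w * f z0 * (f w)⁻¹) := by
        rw [← h.conj hw z0_mem.1]
        exact h.comm (sign_e8 r) (by simp [hw, z0_mem.1]) hc
      have c2 : Commute (f (e8 r))
          ((g : G) * (f h0)⁻¹ * f y0 * ((g : G) * (f h0)⁻¹)⁻¹) := by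
        rw [hr]
        show _ = _
        calc (g : G) * f uS * (g : G)⁻¹ * ((g : G) * (f h0)⁻¹ * f y0 * ((g : G) * (f h0)⁻¹)⁻¹)
            = (g : G) * (f uS * ((f h0)⁻¹ * f y0 * (f h0)⁻¹⁻¹)) * (g : G)⁻¹ := by group
          _ = _ := by rw [h.uS_y.eq]; group
      refine h.not_both ?_ ?_ c1 c2
      · rw [hr, show (g : G) * f uS * (g : G)⁻¹ * ((g : G) * f uS * (g : G)⁻¹) =
          (g : G) * (f uS * f uS) * (g : G)⁻¹ by group, h.sq_eq sign_uS (by decide +kernel)]
        group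
      · rw [hr]; exact fun e => h.ne_one sign_uS (by decide +kernel) (conj_eq_one_iff.1 e)
  have hgu : (g : G) * f uS = f uS * g := mul_inv_eq_iff_eq_mul.1 (hr.symm.trans hru)
  obtain ⟨l, hl, e⟩ := h.cent_uS hgu
  obtain ⟨g1', g2'⟩ := hmem.1 g.2
  rw [← e] at g1' g2' hgu
  obtain ⟨q, hq⟩ := cent_e8 hl (h.comm' hl v1_mem.1 g1') (h.comm' hl a0_mem.1 g2')
    (h.comm' hl sign_uS hgu)
  exact ⟨q, by rw [← hq, e]; rfl⟩

set_option maxHeartbeats 2000000 in
theorem cent_v1 {g : G} (hg : g * f v1 = f v1 * g) : g ∈ h.rng := by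
  classical
  haveI : Fact (Nat.Prime 2) := ⟨Nat.prime_two⟩
  set T := Subgroup.centralizer ({f v1} : Set G) with hTdef
  have hT : ∀ {x : G}, x ∈ T ↔ x * f v1 = f v1 * x := mem_cent_singleton
  -- the 2-part of `T` is 32
  have hT64 : ¬ 64 ∣ Nat.card T := by
    intro hd
    obtain ⟨K, hK⟩ := Sylow.exists_subgroup_card_pow_prime (G := T) 2 (n := 6) (by simpa using hd)
    set KG := K.map T.subtype
    have hKG : Nat.card KG = 64 := by
      rw [← Nat.card_congr (K.equivMapOfInjective _ T.subtype_injective).toEquiv, hK]; norm_num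
    obtain ⟨Q, hQ⟩ := (IsPGroup.of_card (n := 6) (by rw [h.card_syl]; norm_num) :
      IsPGroup 2 h.syl).exists_le_sylow
    have hQs : h.syl = (Q : Subgroup G) := by
      refine Subgroup.eq_of_le_of_card_ge hQ ?_
      rw [h.card_syl]
      obtain ⟨n, hn⟩ := IsPGroup.iff_card.1 Q.isPGroup'
      have h6 : n ≤ 6 := by
        by_contra hlt
        exact h.not_dvd_128 ((pow_dvd_pow 2 (show 7 ≤ n by omega)).trans
          (hn ▸ Subgroup.card_subgroup_dvd_card (Q : Subgroup G)))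
      rw [hn]
      exact le_trans (Nat.pow_le_pow_right (by norm_num) h6) (by norm_num)
    obtain ⟨R, hR⟩ := (IsPGroup.of_card (n := 6) (by rw [hKG]; norm_num) :
      IsPGroup 2 KG).exists_le_sylow
    have hKR : KG = (R : Subgroup G) := by
      refine Subgroup.eq_of_le_of_card_ge hR (le_of_eq ?_)
      rw [hKG, ← h.card_syl, hQs]
      exact Nat.card_congr (Sylow.equiv R Q).toEquiv
    obtain ⟨c, hc⟩ := MulAction.exists_smul_eq G R Q
    have hcent : ∀ p, c * f v1 * c⁻¹ * f (sP p) = f (sP p) * (c * f v1 * c⁻¹) := by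
      intro p
      have hm : c⁻¹ * f (sP p) * c ∈ KG := by
        have : f (sP p) ∈ (Q : Subgroup G) := hQs ▸ ⟨p, rfl⟩
        rw [← hc, Sylow.coe_subgroup_smul, Subgroup.mem_pointwise_smul_iff_inv_smul_mem] at this
        rw [hKR]
        simpa [MulAut.smul_def, mul_assoc] using this
      obtain ⟨x, -, hx⟩ := hm
      have hxc : c⁻¹ * f (sP p) * c * f v1 = f v1 * (c⁻¹ * f (sP p) * c) := by
        rw [← hx]; exact hT.1 x.2
      calc c * f v1 * c⁻¹ * f (sP p) = c * (f v1 * (c⁻¹ * f (sP p) * c)) * c⁻¹ := by group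
        _ = _ := by rw [← hxc]; group
    have h2 := h.central_eq
      (by rw [show c * f v1 * c⁻¹ * (c * f v1 * c⁻¹) = c * (f v1 * f v1) * c⁻¹ by group,
        h.sq_eq v1_mem.1 (by decide +kernel)]; group)
      (fun e => h.ne_one v1_mem.1 (by decide +kernel) (conj_eq_one_iff.1 e)) hcent
    refine h.v1_tau (g := f h0 * c) ?_
    rw [show f h0 * c * f v1 * (f h0 * c)⁻¹ = f h0 * (c * f v1 * c⁻¹) * (f h0)⁻¹ by group, h2,
      ← h.conj sign_h0 sign_uS, h0_uS]
  -- the Sylow 2-subgroup and `E`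
  let P32 : Subgroup G :=
    { carrier := {x | ∃ p, f (pT p) = x}
      one_mem' := ⟨0, by rw [show pT 0 = 1 by decide +kernel, h.map_one]⟩
      mul_mem' := by
        rintro _ _ ⟨p, rfl⟩ ⟨q, rfl⟩
        obtain ⟨e', he⟩ := cE_eE (p.2, 0) q.1
        refine ⟨(p.1 + e', p.2 + q.2), ?_⟩
        rw [← h.mul _ _ (sign_pT p) (sign_pT q)]
        congr 1
        simp only [pT, sP]
        rw [← eE_mul, show ((p.2 + q.2, (0 : Fin 2)) : Fin 2 × Fin 2) = (p.2, 0) + (q.2, 0) by simp,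
          ← cE_mul]
        calc eE p.1 * eE e' * (cE (p.2, 0) * cE (q.2, 0))
            = eE p.1 * (eE e' * cE (p.2, 0)) * cE (q.2, 0) := by group
          _ = _ := by rw [← he]; group
      inv_mem' := by
        rintro _ ⟨p, rfl⟩
        obtain ⟨e', he⟩ := cE_eE (p.2, 0) p.1
        refine ⟨(e', p.2), ?_⟩
        rw [← h.map_inv (sign_pT p)]
        congr 1
        refine eq_inv_of_mul_eq_one_left ?_
        simp only [pT, sP]
        have h1 : cE (p.2, 0) * cE (p.2, 0) = 1 := by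
          rw [cE_mul, show ((p.2, (0 : Fin 2)) + (p.2, 0)) = 0 from
            (by decide : ∀ a : Fin 2 × Fin 2, a + a = 0) _, cE_zero]
        have h2 : eE p.1 * eE p.1 = 1 := by
          rw [eE_mul, show p.1 + p.1 = 0 from
            (by decide : ∀ a : (Fin 2 × Fin 2) × (Fin 2 × Fin 2), a + a = 0) p.1, eE_zero]
        calc eE e' * cE (p.2, 0) * (eE p.1 * cE (p.2, 0))
            = cE (p.2, 0) * eE p.1 * (eE p.1 * cE (p.2, 0)) := by rw [he]
          _ = cE (p.2, 0) * (eE p.1 * eE p.1) * cE (p.2, 0) := by group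
          _ = 1 := by rw [h2, mul_one, h1] }
  let EG : Subgroup G :=
    { carrier := {x | ∃ e, f (eE e) = x}
      one_mem' := ⟨0, by rw [eE_zero, h.map_one]⟩
      mul_mem' := by
        rintro _ _ ⟨p, rfl⟩ ⟨q, rfl⟩
        exact ⟨p + q, by rw [← eE_mul, h.mul _ _ (sign_eE p) (sign_eE q)]⟩
      inv_mem' := by
        rintro _ ⟨p, rfl⟩
        refine ⟨p, eq_inv_of_mul_eq_one_left ?_⟩
        rw [← h.mul _ _ (sign_eE p) (sign_eE p), eE_mul, show p + p = 0 from
          (by decide : ∀ a : (Fin 2 × Fin 2) × (Fin 2 × Fin 2), a + a = 0) p, eE_zero, h.map_one] }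
  have hEc : ∀ e, pT (e, 0) = eE e := fun e => by
    rw [pT, sP, show ((0 : Fin 2), (0 : Fin 2)) = (0 : Fin 2 × Fin 2) from rfl, cE_zero, mul_one]
  have hEP : EG ≤ P32 := by
    rintro _ ⟨e, rfl⟩; exact ⟨(e, 0), by rw [hEc]⟩
  have hPT : P32 ≤ T := by
    rintro _ ⟨p, rfl⟩
    exact hT.2 (h.comm (sign_pT p) v1_mem.1
      ((by decide +kernel : ∀ p, pT p * v1 = v1 * pT p) p))
  have hP32 : Nat.card P32 = 32 := by
    have hb : Function.Bijective (fun p : TIdx => (⟨f (pT p), p, rfl⟩ : P32)) := by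
      constructor
      · intro p q e
        have := sP_injective ((h.eq_iff (sign_pT p) (sign_pT q)).1 (congrArg Subtype.val e))
        simp only [Prod.ext_iff] at this ⊢
        exact ⟨this.1, this.2.1⟩
      · rintro ⟨_, p, rfl⟩; exact ⟨p, rfl⟩
    rw [← Nat.card_eq_of_bijective _ hb, Nat.card_eq_fintype_card]; rfl
  have hE16 : Nat.card EG = 16 := by
    have hb : Function.Bijective (fun e : (Fin 2 × Fin 2) × (Fin 2 × Fin 2) =>
        (⟨f (eE e), e, rfl⟩ : EG)) := by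
      constructor
      · intro p q e
        exact eE_injective p q ((h.eq_iff (sign_eE p) (sign_eE q)).1 (congrArg Subtype.val e))
      · rintro ⟨_, p, rfl⟩; exact ⟨p, rfl⟩
    rw [← Nat.card_eq_of_bijective _ hb, Nat.card_eq_fintype_card]; rfl
  -- fusion of `a0`
  have hno : ∀ c ∈ T, ∀ e, c * f a0 * c⁻¹ ≠ f (eE e) := by
    intro c hc e he
    apply h.no16
    rw [← hE16, Nat.card_congr (EG.equivMapOfInjective (MulAut.conj c⁻¹).toMonoidHom (MulAut.conj c⁻¹).injective).toEquiv]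
    refine Subgroup.card_dvd_of_le ?_
    rintro _ ⟨_, ⟨e', rfl⟩, rfl⟩
    simp only [MulEquiv.coe_toMonoidHom, MulAut.conj_apply, inv_inv]
    have k1 := h.comm (sign_eE e') v1_mem.1 ((by decide +kernel :
      ∀ e, eE e * v1 = v1 * eE e) e')
    have k2 := h.comm (sign_eE e') (sign_eE e) (by rw [eE_mul, eE_mul, add_comm])
    have hc' := hT.1 hc
    rw [Subgroup.mem_centralizer_iff]
    rintro m (rfl | rfl)
    · have hv : c * f v1 * c⁻¹ = f v1 := by rw [hc']; group
      calc f v1 * (c⁻¹ * f (eE e') * c) = c⁻¹ * (c * f v1 * c⁻¹ * f (eE e')) * c := by group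
        _ = c⁻¹ * (f (eE e') * (c * f v1 * c⁻¹)) * c := by rw [hv, k1]
        _ = _ := by group
    · calc f a0 * (c⁻¹ * f (eE e') * c) = c⁻¹ * (c * f a0 * c⁻¹ * f (eE e')) * c := by group
        _ = c⁻¹ * (f (eE e') * (c * f a0 * c⁻¹)) * c := by rw [he, k2]
        _ = _ := by group
  -- the transfer
  obtain ⟨P, hP⟩ := (IsPGroup.of_card (n := 5) (by
      rw [Nat.card_congr (Subgroup.subgroupOfEquivOfLe hPT).toEquiv, hP32]; norm_num) :
      IsPGroup 2 (P32.subgroupOf T)).exists_le_sylow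
  have hPeq : P32.subgroupOf T = (P : Subgroup T) := by
    refine Subgroup.eq_of_le_of_card_ge hP ?_
    rw [Nat.card_congr (Subgroup.subgroupOfEquivOfLe hPT).toEquiv, hP32]
    obtain ⟨n, hn⟩ := IsPGroup.iff_card.1 P.isPGroup'
    have h5 : n ≤ 5 := by
      by_contra hlt
      exact hT64 ((pow_dvd_pow 2 (show 6 ≤ n by omega)).trans
        (hn ▸ Subgroup.card_subgroup_dvd_card (P : Subgroup T)))
    rw [hn]
    exact le_trans (Nat.pow_le_pow_right (by norm_num) h5) (by norm_num)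
  have hmemP : ∀ x : T, x ∈ (P : Subgroup T) ↔ ∃ p, f (pT p) = (x : G) := by
    intro x; rw [← hPeq, Subgroup.mem_subgroupOf]; rfl
  set Q : Subgroup (P : Subgroup T) := (EG.subgroupOf T).subgroupOf (P : Subgroup T)
  have hEle : EG.subgroupOf T ≤ (P : Subgroup T) := by
    rw [← hPeq]; exact fun x hx => hEP hx
  have hQi : Q.index = 2 := by
    have hPc : Nat.card (P : Subgroup T) = 32 := by
      rw [← hP32, ← Nat.card_congr (Subgroup.subgroupOfEquivOfLe hPT).toEquiv]
      exact (congrArg (fun S : Subgroup T => Nat.card S) hPeq).symm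
    have := Q.card_mul_index
    rw [Nat.card_congr (Subgroup.subgroupOfEquivOfLe hEle).toEquiv,
      Nat.card_congr (Subgroup.subgroupOfEquivOfLe (hEP.trans hPT)).toEquiv, hE16, hPc] at this
    omega
  haveI : Q.Normal := Subgroup.normal_of_index_eq_two hQi
  haveI : IsCyclic ((P : Subgroup T) ⧸ Q) := isCyclic_of_prime_card (p := 2) hQi
  letI : CommGroup ((P : Subgroup T) ⧸ Q) := IsCyclic.commGroup
  set ϕ : (P : Subgroup T) →* (P : Subgroup T) ⧸ Q := QuotientGroup.mk' Q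
  set aT : T := ⟨f a0, hT.2 (h.comm a0_mem.1 v1_mem.1 (by decide +kernel))⟩
  have haP : aT ∈ (P : Subgroup T) := (hmemP aT).2 ⟨(0, 1), by
    rw [show pT (0, 1) = a0 by decide +kernel]⟩
  have haQ : (⟨aT, haP⟩ : (P : Subgroup T)) ∉ Q := by
    intro hh
    obtain ⟨e, he⟩ : ∃ e, f (eE e) = f a0 := hh
    exact hno 1 (one_mem _) e (by simpa using he.symm)
  have hout : ∀ x : T, x * x = 1 → ∀ hx : x ∈ (P : Subgroup T),
      (⟨x, hx⟩ : (P : Subgroup T)) ∉ Q → ∃ d ∈ T, (x : G) = d * f a0 * d⁻¹ := by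
    intro x hx2 hx hxQ
    obtain ⟨⟨e, k⟩, hp⟩ := (hmemP x).1 hx
    have hk : k = 1 := by
      rcases (by decide : ∀ k : Fin 2, k = 0 ∨ k = 1) k with rfl | rfl
      · exact absurd ⟨e, by rw [← hEc, hp]; rfl⟩ hxQ
      · rfl
    subst hk
    have hsq : pT (e, 1) * pT (e, 1) = 1 := by
      refine h.inj _ (by rw [_root_.map_mul, sign_pT, one_mul]) ?_
      rw [h.mul _ _ (sign_pT _) (sign_pT _), hp]
      exact congrArg Subtype.val hx2
    obtain ⟨d, hd⟩ := (by decide +kernel : ∀ e, pT (e, 1) * pT (e, 1) = 1 →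
      ∃ d, pT (e, 1) = eE d * a0 * (eE d)⁻¹) e hsq
    refine ⟨f (eE d), hT.2 (h.comm (sign_eE d) v1_mem.1
      ((by decide +kernel : ∀ e, eE e * v1 = v1 * eE e) d)), ?_⟩
    rw [← hp, hd, h.conj (sign_eE d) a0_mem.1]
  set V := MonoidHom.transfer ϕ
  have haord : orderOf aT = 2 := orderOf_eq_prime
    (by rw [pow_two]; exact Subtype.ext (h.sq_eq a0_mem.1 (by decide +kernel)))
    (fun e => h.ne_one a0_mem.1 (by decide +kernel) (congrArg Subtype.val e))
  have hVa : V aT ≠ 1 := by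
    refine TransferThompson.transfer_ne_one P (P.isPGroup'.to_quotient Q) ϕ haP
      (fun e => haQ ((QuotientGroup.eq_one_iff _).1 e)) ?_ ?_
    · intro c k hk hh
      have h1 : aT ^ k = 1 := orderOf_dvd_iff_pow_eq_one.1 (haord.symm ▸ hk)
      have e : (⟨_, hh⟩ : (P : Subgroup T)) = 1 := by apply Subtype.ext; simp [h1]
      rw [e, _root_.map_one]
    · intro c hh
      refine (QuotientGroup.eq.mpr ?_).symm
      rw [Subgroup.mul_mem_iff_of_index_two hQi, inv_mem_iff]
      refine iff_of_false haQ ?_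
      intro hq
      obtain ⟨e, he⟩ : ∃ e, f (eE e) = ((c⁻¹ * aT * c : T) : G) := hq
      refine hno (c⁻¹ : T) (c⁻¹).2 e ?_
      rw [he]; simp [aT, mul_assoc]
  have hVE : ∀ x : T, (x : G) ∈ EG → V x = 1 := by
    intro x hx
    by_cases hx1 : x = 1
    · rw [hx1, _root_.map_one]
    obtain ⟨e, he⟩ := hx
    have hx2 : x * x = 1 := by
      apply Subtype.ext
      show (x : G) * x = 1
      rw [← he, h.sq_eq (sign_eE e) ((by decide +kernel : ∀ e, eE e * eE e = 1) e)]
    have hord : orderOf x = 2 ^ 1 := by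
      rw [pow_one]; exact orderOf_eq_prime (by rw [pow_two, hx2]) hx1
    obtain ⟨n, -, hn⟩ := TransferThompson.transfer_eq_pow_fixed (p := 2) ϕ hord 1
      (fun c k hk hh => by
        have h1 : x ^ k = 1 := orderOf_dvd_iff_pow_eq_one.1 (by rw [hord, pow_one]; exact hk)
        have e' : (⟨_, hh⟩ : (P : Subgroup T)) = 1 := by apply Subtype.ext; simp [h1]
        rw [e', _root_.map_one])
      (fun c hh => by
        refine (QuotientGroup.eq_one_iff _).2 ?_
        by_contra hq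
        obtain ⟨d, hd, hde⟩ := hout _ (by
          calc c⁻¹ * x * c * (c⁻¹ * x * c) = c⁻¹ * (x * x) * c := by group
            _ = 1 := by rw [hx2]; group) hh hq
        refine hno ((c : G) * d) (mul_mem c.2 hd) e ?_
        rw [he, show (c : G) * d * f a0 * ((c : G) * d)⁻¹ =
          (c : G) * (d * f a0 * d⁻¹) * (c : G)⁻¹ by group, ← hde]
        simp [mul_assoc])
    rw [hn, one_pow]
  set T0 := V.ker.map T.subtype
  have hT0T : T0 ≤ T := Subgroup.map_subtype_le _
  have hmem0 : ∀ {x : G} (hx : x ∈ T), x ∈ T0 ↔ V ⟨x, hx⟩ = 1 := by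
    intro x hx
    constructor
    · rintro ⟨y, hy, e⟩
      have : y = ⟨x, hx⟩ := Subtype.ext e
      rw [← this]; exact hy
    · exact fun e => ⟨⟨x, hx⟩, e, rfl⟩
  have hT0c : Nat.card T = 2 * Nat.card T0 := by
    have hr : Nat.card V.range = 2 := by
      have h1 := Subgroup.card_subgroup_dvd_card V.range
      rw [show Nat.card ((P : Subgroup T) ⧸ Q) = 2 from hQi] at h1
      rcases (Nat.dvd_prime Nat.prime_two).1 h1 with e | e
      · exact absurd (Subgroup.mem_bot.1
          (Subgroup.card_eq_one.1 e ▸ (⟨aT, rfl⟩ : V aT ∈ V.range))) hVa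
      · exact e
    rw [← V.ker.card_mul_index, Subgroup.index_ker, hr,
      Nat.card_congr (V.ker.equivMapOfInjective _ T.subtype_injective).toEquiv, mul_comm]
  have h032 : ¬ 32 ∣ Nat.card T0 := fun hd => hT64 (hT0c ▸ Nat.mul_dvd_mul_left 2 hd)
  have hE0 : EG ≤ T0 := fun x hx => (hmem0 (hPT (hEP hx))).2 (hVE ⟨x, hPT (hEP hx)⟩ hx)
  have ha0 : f a0 ∉ T0 := fun hh => hVa ((hmem0 aT.2).1 hh)
  have hz0 : f z0 ∈ T0 := by
    have hzT : f z0 ∈ T := hT.2 (h.comm z0_mem.1 v1_mem.1 (by decide +kernel))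
    refine (hmem0 hzT).2 ?_
    have h3 : (⟨f z0, hzT⟩ : T) ^ 3 = 1 := by
      apply Subtype.ext
      show f z0 ^ 3 = 1
      rw [pow_succ, pow_two, ← h.mul _ _ z0_mem.1 z0_mem.1, ← h.mul _ _ (by decide +kernel) z0_mem.1,
        show z0 * z0 * z0 = 1 by decide +kernel, h.map_one]
    have h2 : V (⟨f z0, hzT⟩ : T) ^ 2 = 1 := by
      rw [← orderOf_dvd_iff_pow_eq_one]
      exact (orderOf_dvd_natCard _).trans (dvd_of_eq (show Nat.card ((P : Subgroup T) ⧸ Q) = 2 from hQi))
    have h3' : V (⟨f z0, hzT⟩ : T) ^ 3 = 1 := by rw [← _root_.map_pow, h3, _root_.map_one]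
    rwa [pow_succ, h2, one_mul] at h3'
  have hnormal : ∀ c ∈ T, ∀ x ∈ T0, c * x * c⁻¹ ∈ T0 := by
    intro c hc x hx
    have hxT := hT0T hx
    have hy : V ⟨x, hxT⟩ = 1 := (hmem0 hxT).1 hx
    refine (hmem0 (mul_mem (mul_mem hc hxT) (inv_mem hc))).2 ?_
    have e : (⟨c * x * c⁻¹, mul_mem (mul_mem hc hxT) (inv_mem hc)⟩ : T) =
        ⟨c, hc⟩ * ⟨x, hxT⟩ * ⟨c, hc⟩⁻¹ := rfl
    rw [e, _root_.map_mul, _root_.map_mul, hy, mul_one, ← _root_.map_mul, mul_inv_cancel,
      _root_.map_one]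
  -- fusion of `v2` in `T0`
  have hv2E : f v2 ∈ EG := ⟨((0, 1), 0), by rw [show eE ((0, 1), 0) = v2 by decide +kernel]⟩
  have fus : ∀ n ∈ T0, ∀ e, n * f v2 * n⁻¹ = f (eE e) → n * f v2 * n⁻¹ = f v2 := by
    intro n hn e he
    set H := T0 ⊓ Subgroup.centralizer ({f (eE e)} : Set G)
    have hEH : EG ≤ H := by
      rintro _ ⟨e', rfl⟩
      exact Subgroup.mem_inf.2 ⟨hE0 ⟨e', rfl⟩, mem_cent_singleton.2
        (h.comm (sign_eE e') (sign_eE e) (by rw [eE_mul, eE_mul, add_comm]))⟩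
    have hnH : EG.map (MulAut.conj n).toMonoidHom ≤ H := by
      rintro _ ⟨_, ⟨e', rfl⟩, rfl⟩
      simp only [MulEquiv.coe_toMonoidHom, MulAut.conj_apply]
      refine Subgroup.mem_inf.2 ⟨mul_mem (mul_mem hn (hE0 ⟨e', rfl⟩)) (inv_mem hn),
        mem_cent_singleton.2 ?_⟩
      rw [← he]
      calc n * f (eE e') * n⁻¹ * (n * f v2 * n⁻¹) = n * (f (eE e') * f v2) * n⁻¹ := by group
        _ = _ := by
          rw [h.comm (sign_eE e') v2_mem.1 ((by decide +kernel :
            ∀ e, eE e * v2 = v2 * eE e) e')]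
          group
    obtain ⟨d, hd, hdc⟩ := exists_conj_into (H := H) (B := EG)
      (IsPGroup.map (IsPGroup.of_card (n := 4) (by rw [hE16]; norm_num)) _) hnH hEH hE16
      (fun hh => h032 (hh.trans (Subgroup.card_dvd_of_le inf_le_left)))
    obtain ⟨hd0, hdC⟩ := Subgroup.mem_inf.1 hd
    have hmap : ∀ e', ∃ e'', d * n * f (eE e') * (d * n)⁻¹ = f (eE e'') := by
      intro e'
      obtain ⟨e'', h''⟩ := hdc _ ⟨f (eE e'), ⟨e', rfl⟩, rfl⟩
      refine ⟨e'', ?_⟩
      rw [h'']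
      simp only [MulEquiv.coe_toMonoidHom, MulAut.conj_apply]
      group
    obtain ⟨l, hl, hlg⟩ := h.norm_E hmap
    have hdn : d * n * f v2 * (d * n)⁻¹ = f (eE e) := by
      rw [show d * n * f v2 * (d * n)⁻¹ = d * (n * f v2 * n⁻¹) * d⁻¹ by group, he,
        mem_cent_singleton.1 hdC]
      group
    have hlt := hT.1 (hT0T (mul_mem hd0 hn))
    rw [← hlg] at hdn hlt
    rw [← h.conj hl v2_mem.1] at hdn
    have e1 : l * v2 * l⁻¹ = eE e :=
      (h.eq_iff (by simp [hl, v2_mem.1]) (sign_eE e)).1 hdn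
    have e2 : l * v1 = v1 * l := h.comm' hl v1_mem.1 hlt
    have hfix : ∀ i, v1 i = i → eE e i = i := by
      intro i hi
      have hj : v1 (l⁻¹ i) = l⁻¹ i := by
        apply l.injective
        rw [show l (v1 (l⁻¹ i)) = v1 (l (l⁻¹ i)) from congrArg (· (l⁻¹ i)) e2]
        rw [show l (l⁻¹ i) = i from l.apply_symm_apply i, hi]
      have hj2 : v2 (l⁻¹ i) = l⁻¹ i :=
        (by decide +kernel : ∀ j : Fin 8, v1 j = j → v2 j = j) _ hj
      rw [← e1, Perm.mul_apply, Perm.mul_apply, hj2]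
      exact l.apply_symm_apply i
    have hne0 : eE e ≠ 1 := by
      rw [← e1]; intro hh
      exact (by decide +kernel : v2 ≠ 1) (conj_eq_one_iff.1 hh)
    have hnev : eE e ≠ v1 := by
      rw [← e1]; intro hh
      have : v2 = v1 := by
        calc v2 = l⁻¹ * (l * v2 * l⁻¹) * l := by group
          _ = l⁻¹ * (v1 * l) := by rw [hh, mul_assoc]
          _ = v1 := by rw [← e2]; group
      revert this; decide +kernel
    rcases (by decide +kernel : ∀ e, (∀ i, v1 i = i → eE e i = i) → eE e ≠ 1 → eE e ≠ v1 →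
      eE e = v2 ∨ eE e = v1 * v2) e hfix hne0 hnev with hh | hh
    · rw [he, hh]
    · exfalso
      -- `l * a0` would centralise `V`
      apply ha0
      have hl2 : sign (l * a0) = 1 := by simp [hl, a0_mem.1]
      have c1 : l * a0 * v1 = v1 * (l * a0) := by
        rw [mul_assoc, show a0 * v1 = v1 * a0 by decide +kernel, ← mul_assoc, e2, mul_assoc]
      have c2 : l * a0 * v2 = v2 * (l * a0) := by
        rw [mul_assoc, show a0 * v2 = v1 * v2 * a0 by decide +kernel, ← mul_assoc]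
        calc l * (v1 * v2) * a0 = l * v1 * v2 * a0 := by group
          _ = v1 * (l * v2 * l⁻¹) * l * a0 := by rw [e2]; group
          _ = v1 * (v1 * v2) * l * a0 := by rw [e1, hh]
          _ = _ := by rw [← mul_assoc v1, show v1 * v1 = 1 by decide +kernel, one_mul, mul_assoc]
      obtain ⟨q, p, i, hqp⟩ := h.cent_V (f (l * a0)) (h.comm hl2 v1_mem.1 c1)
        (h.comm hl2 v2_mem.1 c2)
      have hsvp : sign (eE (q, p)) = 1 := sign_eE _
      have hin : f (vE q * aE p * z0 ^ i.val) ∈ T0 := by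
        have hpow : f (z0 ^ i.val) ∈ T0 := by
          fin_cases i
          · simp [h.map_one]
          · simpa using hz0
          · show f (z0 ^ 2) ∈ T0
            rw [pow_two, h.mul _ _ z0_mem.1 z0_mem.1]; exact mul_mem hz0 hz0
        rw [show vE q * aE p = eE (q, p) from rfl, h.mul _ _ hsvp
          (by rw [_root_.map_pow, z0_mem.1, one_pow])]
        exact mul_mem (hE0 ⟨_, rfl⟩) hpow
      rw [← hqp, h.mul _ _ hl a0_mem.1] at hin
      have hl0 : f l ∈ T0 := hlg ▸ mul_mem hd0 hn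
      simpa using mul_mem (inv_mem hl0) hin
  -- `v2` is isolated in `T0`
  set bT : T0 := ⟨f v2, hE0 hv2E⟩
  have hb2 : bT * bT = 1 := Subtype.ext (h.sq_eq v2_mem.1 (by decide +kernel))
  have hiso : Cfsg.IsIsolatedInvolution bT := by
    refine ⟨orderOf_eq_prime (by rw [pow_two, hb2])
      (fun e => h.ne_one v2_mem.1 (by decide +kernel) (congrArg Subtype.val e)), fun x hx => ?_⟩
    set b' := (x : G) * f v2 * (x : G)⁻¹
    have hcb : f v2 * b' = b' * f v2 := congrArg Subtype.val hx.eq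
    have hb'2 : b' * b' = 1 := by
      rw [show b' * b' = (x : G) * (f v2 * f v2) * (x : G)⁻¹ by simp only [b']; group,
        h.sq_eq v2_mem.1 (by decide +kernel)]
      group
    have hsqv : f v2 * f v2 = 1 := h.sq_eq v2_mem.1 (by decide +kernel)
    let A : Subgroup G :=
      { carrier := {y | y = 1 ∨ y = f v2 ∨ y = b' ∨ y = f v2 * b'}
        one_mem' := Or.inl rfl
        mul_mem' := by
          have e1 : ∀ z, f v2 * (f v2 * z) = z := fun z => by rw [← mul_assoc, hsqv, one_mul]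
          have e2 : ∀ z, b' * (b' * z) = z := fun z => by rw [← mul_assoc, hb'2, one_mul]
          have e3 : ∀ z, b' * (f v2 * z) = f v2 * (b' * z) := fun z => by
            rw [← mul_assoc, ← hcb, mul_assoc]
          rintro y z (rfl | rfl | rfl | rfl) (rfl | rfl | rfl | rfl) <;>
            simp [mul_assoc, e1, e2, e3, hsqv, hb'2, hcb.symm]
        inv_mem' := by
          rintro y (rfl | rfl | rfl | rfl)
          · simp
          · exact Or.inr (Or.inl (inv_eq_of_mul_eq_one_right hsqv))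
          · exact Or.inr (Or.inr (Or.inl (inv_eq_of_mul_eq_one_right hb'2)))
          · refine Or.inr (Or.inr (Or.inr (inv_eq_of_mul_eq_one_right ?_)))
            calc f v2 * b' * (f v2 * b') = f v2 * b' * (b' * f v2) := by rw [hcb]
              _ = f v2 * (b' * b') * f v2 := by group
              _ = 1 := by rw [hb'2, mul_one, hsqv] }
    have hA2 : IsPGroup 2 A := by
      rintro ⟨y, hy⟩
      refine ⟨1, Subtype.ext ?_⟩
      show y ^ (2 ^ 1) = 1
      rw [pow_one, pow_two]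
      rcases hy with rfl | rfl | rfl | rfl
      · simp
      · exact hsqv
      · exact hb'2
      · calc f v2 * b' * (f v2 * b') = f v2 * b' * (b' * f v2) := by rw [hcb]
          _ = f v2 * (b' * b') * f v2 := by group
          _ = 1 := by rw [hb'2, mul_one, hsqv]
    have hb'0 : b' ∈ T0 := mul_mem (mul_mem x.2 bT.2) (inv_mem x.2)
    have hA0 : A ≤ T0 := by
      rintro y (rfl | rfl | rfl | rfl)
      · exact one_mem _
      · exact bT.2
      · exact hb'0
      · exact mul_mem bT.2 hb'0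
    obtain ⟨c, hc, hcA⟩ := exists_conj_into hA2 hA0 hE0 hE16 h032
    obtain ⟨e, he⟩ := hcA (f v2) (Or.inr (Or.inl rfl))
    obtain ⟨e', he'⟩ := hcA b' (Or.inr (Or.inr (Or.inl rfl)))
    have f1 := fus c hc e he.symm
    have hx' : c * (x : G) * f v2 * (c * (x : G))⁻¹ = c * b' * c⁻¹ := by simp only [b']; group
    have f2 := fus (c * (x : G)) (mul_mem hc x.2) e' (hx'.trans he'.symm)
    rw [hx'] at f2
    apply Subtype.ext
    show (x : G) * f v2 * (x : G)⁻¹ = f v2
    exact mul_left_cancel (mul_right_cancel (f2.trans f1.symm))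
  -- the odd core of `T0` is trivial
  have hO : Cfsg.pPrimeCore 2 T0 = ⊥ := by
    set W := (Cfsg.pPrimeCore 2 T0).map T0.subtype
    have hWodd : Odd (Nat.card W) := by
      rw [← Nat.card_congr ((Cfsg.pPrimeCore 2 T0).equivMapOfInjective _
        T0.subtype_injective).toEquiv]
      exact ZStarTheorem.odd_card_pPrimeCore
    have hW2 : ¬ 2 ∣ Nat.card W := Nat.two_dvd_ne_zero.2 (Nat.odd_iff.1 hWodd)
    have hWn : ∀ y ∈ T0, y ∈ Subgroup.normalizer (W : Set G) := by
      intro y hy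
      refine Subgroup.mem_normalizer_fintype ?_
      rintro _ ⟨w, hw, rfl⟩
      exact ⟨⟨y, hy⟩ * w * ⟨y, hy⟩⁻¹, (HallCore.pPrimeCore_normal 2 T0).conj_mem w hw _, rfl⟩
    have hA1 : f a1 ∈ EG := ⟨(0, (1, 0)), by rw [show eE (0, (1, 0)) = a1 by decide +kernel]⟩
    have hA2' : f a2 ∈ EG := ⟨(0, (0, 1)), by rw [show eE (0, (0, 1)) = a2 by decide +kernel]⟩
    have s1 : sign a1 = 1 := by decide +kernel
    have s2 : sign a2 = 1 := by decide +kernel
    have hpair : CoprimeGen.IsPairAction 2 (f a1) (f a2) W :=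
      { comm := h.comm s1 s2 (by decide +kernel)
        pow_left := by rw [pow_two]; exact h.sq_eq s1 (by decide +kernel)
        pow_right := by rw [pow_two]; exact h.sq_eq s2 (by decide +kernel)
        right_ne := h.ne_one s2 (by decide +kernel)
        left_not_mem := by
          intro hh
          obtain ⟨n, hn⟩ := Subgroup.mem_zpowers_iff.1 hh
          have hsq : f a2 ^ (2 : ℤ) = 1 := by
            rw [zpow_two]; exact h.sq_eq s2 (by decide +kernel)
          rcases Int.even_or_odd' n with ⟨k, rfl | rfl⟩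
          · rw [zpow_mul, hsq, one_zpow] at hn
            exact h.ne_one s1 (by decide +kernel) hn.symm
          · rw [zpow_add, zpow_mul, hsq, one_zpow, one_mul, zpow_one, h.eq_iff s2 s1] at hn
            revert hn; decide +kernel
        mem_left := hWn _ (hE0 hA1)
        mem_right := hWn _ (hE0 hA2') }
    have hbot : W ≤ ⊥ := by
      refine CoprimeGen.le_of_pair_centralizers hpair hW2 ?_
      intro e he he1 x hx
      obtain ⟨hxW, hxe⟩ := Subgroup.mem_inf.1 hx
      rw [mem_cent_singleton] at hxe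
      let B : Subgroup G :=
        { carrier := {y | ∃ p, f (aE p) = y}
          one_mem' := ⟨0, by rw [show aE 0 = 1 by decide +kernel, h.map_one]⟩
          mul_mem' := by
            rintro _ _ ⟨p, rfl⟩ ⟨q, rfl⟩
            refine ⟨p + q, ?_⟩
            have sa : ∀ p, sign (aE p) = 1 := by decide +kernel
            rw [(by decide +kernel : ∀ p q, aE (p + q) = aE p * aE q) p q, h.mul _ _ (sa p) (sa q)]
          inv_mem' := by
            rintro _ ⟨p, rfl⟩
            have sa : ∀ p, sign (aE p) = 1 := by decide +kernel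
            exact ⟨p, eq_inv_of_mul_eq_one_left
              (h.sq_eq (sa p) ((by decide +kernel : ∀ p, aE p * aE p = 1) p))⟩ }
      obtain ⟨p, rfl⟩ : e ∈ B := CoprimeGen.pairSubgroup_le (H := B)
        ⟨(1, 0), by rw [show aE (1, 0) = a1 by decide +kernel]⟩
        ⟨(0, 1), by rw [show aE (0, 1) = a2 by decide +kernel]⟩ he
      have sp : sign (aE p) = 1 := (by decide +kernel : ∀ p, sign (aE p) = 1) p
      have hp1 : p ≠ 0 := fun hh => he1 (by
        rw [hh, show aE 0 = 1 by decide +kernel, h.map_one])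
      -- `t * a` is fixed-point-free
      obtain ⟨k, sk, hk⟩ := ta_y p hp1
      set w := cy ⟨k.1.val, by omega⟩ * cy ⟨k.2.1.val, by omega⟩ * cy ⟨k.2.2.val, by omega⟩
      have hx0 : x ∈ T0 := Subgroup.map_subtype_le _ hxW
      have hxt : x * f v1 = f v1 * x := hT.1 (hT0T hx0)
      have hxu : x * f (v1 * aE p) = f (v1 * aE p) * x := by
        rw [h.mul _ _ v1_mem.1 sp, ← mul_assoc, hxt, mul_assoc, hxe, mul_assoc]
      by_contra hx1
      have hx1' : x ≠ 1 := fun hh => hx1 (Subgroup.mem_bot.2 hh)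
      -- a prime divisor of its order
      set m := orderOf x
      have hm : m ≠ 1 := fun hh => hx1' (orderOf_eq_one_iff.1 hh)
      obtain ⟨q, hq, hqm⟩ := Nat.exists_prime_and_dvd hm
      haveI := Fact.mk hq
      set y := x ^ (m / q)
      have hyord : orderOf y = q := by
        rw [orderOf_pow_of_dvd (Nat.div_ne_zero_iff_of_dvd hqm |>.2 ⟨(orderOf_pos x).ne', hq.ne_zero⟩)
          (Nat.div_dvd_of_dvd hqm)]
        exact Nat.div_div_self hqm (orderOf_pos x).ne'
      have hyt : Commute y (f v1) := Commute.pow_left hxt _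
      have hyu : Commute y (f (v1 * aE p)) := Commute.pow_left hxu _
      have hq2 : q ≠ 2 := by
        rintro rfl
        exact hW2 (hqm.trans (Subgroup.orderOf_dvd_natCard W hxW))
      -- `C(t a)` has order 192, so `q = 3`
      set u := v1 * aE p
      have su : sign u = 1 := by simp [u, v1_mem.1, sp]
      have cuy : Commute (f u) (f w * f y0 * (f w)⁻¹) := by
        rw [← h.conj sk y0_mem.1]
        exact h.comm su (by simp [sk, y0_mem.1]) hk
      have huu : f u * f u = 1 :=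
        h.sq_eq su ((by decide +kernel : ∀ p, v1 * aE p * (v1 * aE p) = 1) p)
      have hu1 : f u ≠ 1 :=
        h.ne_one su ((by decide +kernel : ∀ p, v1 * aE p ≠ 1) p)
      -- `u` is a conjugate of `tau`
      obtain ⟨k', sk', hk'⟩ := ta_tau p hp1
      set w' := cy ⟨k'.1.val, by omega⟩ * cy ⟨k'.2.1.val, by omega⟩ * cy ⟨k'.2.2.1.val, by omega⟩ *
        cy ⟨k'.2.2.2.val, by omega⟩
      have hq3 : q = 3 := by
        have hy192 : orderOf (f w' * y * (f w')⁻¹) ∣ 192 := by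
          rw [← h.card_cent_tau.1]
          refine Subgroup.orderOf_dvd_natCard _ (mem_cent_singleton.2 ?_)
          rw [← hk', h.conj sk' su]
          calc f w' * y * (f w')⁻¹ * (f w' * f u * (f w')⁻¹) = f w' * (y * f u) * (f w')⁻¹ := by group
            _ = _ := by rw [hyu.eq]; group
        rw [orderOf_cj, hyord, show 192 = 2 ^ 6 * 3 by norm_num] at hy192
        rcases (Nat.Prime.dvd_mul hq).1 hy192 with hh | hh
        · exact absurd ((Nat.prime_dvd_prime_iff_eq hq Nat.prime_two).1 (hq.dvd_of_dvd_pow hh)) hq2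
        · exact (Nat.prime_dvd_prime_iff_eq hq Nat.prime_three).1 hh
      subst hq3
      obtain ⟨c, hc⟩ := h.sylow (Subgroup.zpowers y)
        (IsPGroup.of_card (n := 1) (by rw [Nat.card_zpowers, hyord, pow_one]))
      obtain ⟨i, j, hij⟩ := (h.memD _).1 (hc y (Subgroup.mem_zpowers y))
      have hy1 : y ≠ 1 := fun hh => by rw [hh, orderOf_one] at hyord; norm_num at hyord
      have ht2 : f v1 * f v1 = 1 := h.sq_eq v1_mem.1 (by decide +kernel)
      have ht1 : f v1 ≠ 1 := h.ne_one v1_mem.1 (by decide +kernel)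
      have ctz : Commute (f v1) (1 * f z0 * 1⁻¹) := by
        rw [one_mul, inv_one, mul_one]
        exact h.comm v1_mem.1 z0_mem.1 (by decide +kernel)
      -- `y` is conjugate to one of `z0`, `y0` up to inversion
      have caseZ : ∀ v : S8, sign v = 1 →
          (f (z0 ^ i.val * w0 ^ j.val) = f v * f z0 * (f v)⁻¹ ∨
            f (z0 ^ i.val * w0 ^ j.val) = f v * (f z0)⁻¹ * (f v)⁻¹) → False := by
        intro v _ hv
        refine h.not_both huu hu1 (g := c⁻¹ * f v) ?_ cuy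
        have : Commute (f u) y := hyu.symm
        have hy' : y = c⁻¹ * f (z0 ^ i.val * w0 ^ j.val) * c := by rw [← hij]; group
        rcases hv with hv | hv
        · rw [show c⁻¹ * f v * f z0 * (c⁻¹ * f v)⁻¹ = y by rw [hy', hv]; group]; exact this
        · rw [show c⁻¹ * f v * f z0 * (c⁻¹ * f v)⁻¹ = y⁻¹ by rw [hy', hv]; group]
          exact this.inv_right
      have caseY : ∀ v : S8, sign v = 1 →
          (f (z0 ^ i.val * w0 ^ j.val) = f v * f y0 * (f v)⁻¹ ∨
            f (z0 ^ i.val * w0 ^ j.val) = f v * (f y0)⁻¹ * (f v)⁻¹) → False := by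
        intro v _ hv
        refine h.not_both ht2 ht1 (k := c⁻¹ * f v) ctz ?_
        have : Commute (f v1) y := hyt.symm
        have hy' : y = c⁻¹ * f (z0 ^ i.val * w0 ^ j.val) * c := by rw [← hij]; group
        rcases hv with hv | hv
        · rw [show c⁻¹ * f v * f y0 * (c⁻¹ * f v)⁻¹ = y by rw [hy', hv]; group]; exact this
        · rw [show c⁻¹ * f v * f y0 * (c⁻¹ * f v)⁻¹ = y⁻¹ by rw [hy', hv]; group]
          exact this.inv_right
      have hse : ∀ k : Fin 2, sign (e0 ^ k.val) = 1 := by decide +kernel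
      rcases d0_cases i j with ⟨rfl, rfl⟩ | ⟨-, e' | e'⟩ | ⟨-, e' | e'⟩ | ⟨k'', e' | e'⟩
      · rw [show (z0 ^ (0 : Fin 3).val * w0 ^ (0 : Fin 3).val) = 1 by simp, h.map_one] at hij
        exact hy1 (conj_eq_one_iff.1 hij)
      · exact caseZ 1 (_root_.map_one _) (Or.inl (by rw [e', h.map_one]; group))
      · exact caseZ 1 (_root_.map_one _) (Or.inr (by rw [e', h.map_inv z0_mem.1, h.map_one]; group))
      · exact caseZ tau sign_tau (Or.inl (by
          rw [e', ← h.conj sign_tau z0_mem.1, show tau * z0 * tau⁻¹ = w0 by decide +kernel]))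
      · exact caseZ tau sign_tau (Or.inr (by
          have sz : sign z0⁻¹ = 1 := by decide +kernel
          rw [e', ← h.map_inv z0_mem.1, ← h.conj sign_tau sz,
            show tau * z0⁻¹ * tau⁻¹ = w0⁻¹ by decide +kernel]))
      · exact caseY _ (hse k'') (Or.inl (by rw [e', h.conj (hse k'') y0_mem.1]))
      · exact caseY _ (hse k'') (Or.inr (by
          have sy : sign y0⁻¹ = 1 := by decide +kernel
          rw [e', h.conj (hse k'') sy, h.map_inv y0_mem.1]))
    exact (Subgroup.map_eq_bot_iff_of_injective _ T0.subtype_injective).1 (le_bot_iff.1 hbot)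
  have hcen := ZStarTheorem.mem_center_of_isolated hiso hO
  have hT0R : ∀ x ∈ T0, x ∈ h.rng := by
    intro x hx
    have c2 : x * f v2 = f v2 * x :=
      congrArg Subtype.val (Subgroup.mem_center_iff.1 hcen ⟨x, hx⟩)
    obtain ⟨q, p, i, e⟩ := h.cent_V x (hT.1 (hT0T hx)) c2
    rw [e]
    exact h.mem_rng ((by decide +kernel : ∀ (q p : Fin 2 × Fin 2) (i : Fin 3),
      sign (vE q * aE p * z0 ^ i.val) = 1) q p i)
  have hgT : g ∈ T := hT.2 hg
  by_cases hg0 : g ∈ T0
  · exact hT0R g hg0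
  have hrel : (T0.subgroupOf T).index = 2 := by
    have := (T0.subgroupOf T).card_mul_index
    rw [Nat.card_congr (Subgroup.subgroupOfEquivOfLe hT0T).toEquiv, hT0c, mul_comm 2] at this
    exact Nat.eq_of_mul_eq_mul_left Nat.card_pos this
  have hga : g * f a0 ∈ T0 :=
    (Subgroup.mul_mem_iff_of_index_two hrel (a := ⟨g, hgT⟩) (b := aT)).2 (iff_of_false hg0 ha0)
  simpa using mul_mem (hT0R _ hga) (inv_mem (h.mem_rng a0_mem.1))

end Full

end Cfsg.Agent.A8ThreeLocal45
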