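import Mathlib.GroupTheory.Nilpotent
import Mathlib.GroupTheory.Frattini
import Cfsg.Agent.Lib.TransferPResidual

/-!
# Tate's theorem and control of transfer
-/

set_option linter.style.haveILetI false

namespace Cfsg.Agent.TransferTate

open Subgroup Cfsg.Agent.TransferPResidual
open scoped IsMulCommutative commutatorElement

variable {G : Type*} [Group G] {p : ℕ}

/-- In a `p`-group, a normal subgroup strictly above a normal subgroup `R` has a normal subgroup
of index `p`, containing `R`, with central quotient. -/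
theorem exists_central_maximal {Q : Type*} [Group Q] [Finite Q] [hp : Fact p.Prime]
    (hQ : IsPGroup p Q) {R T : Subgroup Q} [R.Normal] [T.Normal] (hlt : R < T) :
    ∃ M : Subgroup Q, M.Normal ∧ R ≤ M ∧ M ≤ T ∧ ⁅T, (⊤ : Subgroup Q)⁆ ≤ M ∧
      M.relIndex T = p := by
  obtain ⟨M, hM⟩ := (Set.toFinite {M : Subgroup Q | M.Normal ∧ R ≤ M ∧ M < T}).exists_maximal
    ⟨R, ‹R.Normal›, le_rfl, hlt⟩
  obtain ⟨hMn, hRM, hMT⟩ := hM.prop
  haveI := hMn
  have hmax : ∀ M' : Subgroup Q, M'.Normal → M ≤ M' → M' ≤ T → ¬ M' ≤ M → M' = T := by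
    intro M' h1 h2 h3 h4
    by_contra hne
    exact h4 (hM.le_of_ge ⟨h1, hRM.trans h2, lt_of_le_of_ne h3 hne⟩ h2)
  haveI := hQ.isNilpotent
  let π := QuotientGroup.mk' M
  have hπ : Function.Surjective π := QuotientGroup.mk'_surjective M
  have hTP : ⁅T, (⊤ : Subgroup Q)⁆ ≤ M := by
    by_contra hne
    have h1 : M ⊔ ⁅T, (⊤ : Subgroup Q)⁆ = T :=
      hmax _ (sup_normal _ _) le_sup_left (sup_le hMT.le (commutator_le_left _ _))
        (fun h => hne (le_sup_right.trans h))
    have h2 : T.map π = ⁅T.map π, (⊤ : Subgroup (Q ⧸ M))⁆ := by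
      rw [← map_top_of_surjective π hπ, ← map_commutator]
      conv_lhs => rw [← h1]
      rw [Subgroup.map_sup, (Subgroup.map_eq_bot_iff M).mpr (by rw [QuotientGroup.ker_mk']), bot_sup_eq]
    have h3 : ∀ n, T.map π ≤ (⊤ : Subgroup (Q ⧸ M)).lowerCentralSeries n := by
      intro n
      induction n with
      | zero => rw [Subgroup.lowerCentralSeries_zero]; exact le_top
      | succ n ih =>
        rw [Subgroup.lowerCentralSeries_succ, h2]
        exact commutator_mono ih le_rfl
    obtain ⟨n, hn⟩ : ∃ n, (⊤ : Subgroup (Q ⧸ M)).lowerCentralSeries n = ⊥ :=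
      Subgroup.nilpotent_iff_lowerCentralSeries.mp inferInstance
    have h4 : T.map π ≤ ⊥ := hn ▸ h3 n
    rw [le_bot_iff, Subgroup.map_eq_bot_iff, QuotientGroup.ker_mk'] at h4
    exact not_le_of_gt hMT h4
  obtain ⟨t, htT, htM⟩ := SetLike.exists_of_lt hMT
  have hcent : ∀ x ∈ T, ∀ y : Q ⧸ M, π x * y = y * π x := by
    intro x hx y
    obtain ⟨q, rfl⟩ := hπ y
    rw [← map_mul, ← map_mul, QuotientGroup.mk'_eq_mk']
    refine ⟨(x * q)⁻¹ * (q * x), ?_, by group⟩
    have h5 := hTP (commutator_mem_commutator (inv_mem hx) (mem_top q⁻¹))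
    rw [commutatorElement_def, inv_inv, inv_inv] at h5
    have e : (x * q)⁻¹ * (q * x) = (x⁻¹ * q⁻¹ * x * q)⁻¹ := by group
    rw [e]
    exact inv_mem h5
  -- `T / M` is generated by the image of any element outside `M`
  have hgen : ∀ s ∈ T, s ∉ M → T.map π = zpowers (π s) := by
    intro s hsT hsM
    haveI : (zpowers (π s)).Normal := ⟨fun a ha g => by
      obtain ⟨n, rfl⟩ := mem_zpowers_iff.mp ha
      have h7 : Commute (π s) g := hcent s hsT g
      rw [← (h7.zpow_left n).eq, mul_assoc, mul_inv_cancel, mul_one]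
      exact ha⟩
    have h8 : (zpowers (π s)).comap π = T := by
      refine hmax _ (inferInstance) ?_ ?_ ?_
      · intro m hm
        rw [mem_comap, show π m = 1 from (QuotientGroup.eq_one_iff m).mpr hm]
        exact one_mem _
      · intro x hx
        obtain ⟨n, hn⟩ := mem_zpowers_iff.mp (mem_comap.mp hx)
        rw [← map_zpow] at hn
        obtain ⟨m, hm, rfl⟩ := (QuotientGroup.mk'_eq_mk' M).mp hn
        exact mul_mem (zpow_mem hsT n) (hMT.le hm)
      · exact fun h => hsM (h (mem_comap.mpr (mem_zpowers _)))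
    conv_lhs => rw [← h8]
    exact map_comap_eq_self_of_surjective hπ _
  have htp : t ^ p ∈ M := by
    by_contra hne
    have h9 : π t ∈ zpowers (π (t ^ p)) := hgen (t ^ p) (pow_mem htT p) hne ▸ mem_map_of_mem π htT
    obtain ⟨n, hn⟩ := mem_zpowers_iff.mp h9
    rw [map_pow, ← zpow_natCast, ← zpow_mul] at hn
    have h10 : π t ^ ((p : ℤ) * n - 1) = 1 := by rw [zpow_sub_one, hn, mul_inv_cancel]
    have h11 : ((orderOf (π t) : ℕ) : ℤ) ∣ (p : ℤ) * n - 1 :=
      orderOf_dvd_iff_zpow_eq_one.mpr h10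
    obtain ⟨k, hk⟩ := IsPGroup.iff_orderOf.mp (hQ.to_quotient M) (π t)
    rcases k.eq_zero_or_pos with hk0 | hk0
    · rw [hk0, pow_zero, orderOf_eq_one_iff] at hk
      exact htM ((QuotientGroup.eq_one_iff t).mp hk)
    · have h12 : (p : ℤ) ∣ (p : ℤ) * n - 1 :=
        dvd_trans (by exact_mod_cast (hk ▸ dvd_pow_self p hk0.ne')) h11
      have h13 : (p : ℤ) ∣ 1 := by simpa using dvd_sub (dvd_mul_right (p : ℤ) n) h12
      exact hp.out.not_dvd_one (by exact_mod_cast h13)
  refine ⟨M, hMn, hRM, hMT.le, hTP, ?_⟩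
  have h14 : orderOf (π t) = p := by
    refine orderOf_eq_prime ?_ ?_
    · rw [← map_pow]; exact (QuotientGroup.eq_one_iff _).mpr htp
    · exact fun h => htM ((QuotientGroup.eq_one_iff t).mp h)
  rw [← h14, ← Nat.card_zpowers, ← hgen t htT htM]
  have h15 := relIndex_ker T π
  rw [QuotientGroup.ker_mk'] at h15
  exact h15

/-- **Tate's theorem**, general form: if `R` is a proper subgroup of `T = P ∩ O^p(G)` normalized
by the Sylow subgroup `P`, then a maximal subgroup of `P` contains `R` but not `T`. -/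
theorem exists_maximal_of_lt [Finite G] [hp : Fact p.Prime] (P : Sylow p G) {R : Subgroup G}
    (hRn : (P : Subgroup G) ≤ normalizer (R : Set G))
    (hR : R < (P : Subgroup G) ⊓ Cfsg.pResidual p G) :
    ∃ M : Subgroup (P : Subgroup G), M.Normal ∧ M.index = p ∧
      R.subgroupOf (P : Subgroup G) ≤ M ∧
      ¬ ((P : Subgroup G) ⊓ Cfsg.pResidual p G).subgroupOf (P : Subgroup G) ≤ M := by
  set K := Cfsg.pResidual p G with hK
  set T : Subgroup (P : Subgroup G) :=
    ((P : Subgroup G) ⊓ K).subgroupOf (P : Subgroup G) with hT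
  haveI hTn : T.Normal := by
    rw [hT, inf_subgroupOf_left]
    infer_instance
  haveI : (R.subgroupOf (P : Subgroup G)).Normal :=
    normal_subgroupOf_iff_le_normalizer (hR.le.trans inf_le_left) |>.mpr hRn
  have hlt : R.subgroupOf (P : Subgroup G) < T := by
    refine lt_of_le_of_ne (comap_mono hR.le) fun h => hR.ne ?_
    have h' := congrArg (Subgroup.map (P : Subgroup G).subtype) h
    rwa [hT, map_subgroupOf_eq_of_le (hR.le.trans inf_le_left),
      map_subgroupOf_eq_of_le inf_le_left] at h'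
  obtain ⟨M, hMn, hRM, hMT, hMc, hMi⟩ := exists_central_maximal P.isPGroup' hlt
  haveI := hMn
  let π : (P : Subgroup G) →* (P : Subgroup G) ⧸ M := QuotientGroup.mk' M
  have hπ : Function.Surjective π := QuotientGroup.mk'_surjective M
  let ρ : (P : Subgroup G) →* G ⧸ K := (QuotientGroup.mk' K).comp (P : Subgroup G).subtype
  have hρ : ρ.ker = T := by
    ext x
    simp [ρ, hT, mem_subgroupOf]
  let β : (P : Subgroup G) ⧸ M →* G ⧸ K := QuotientGroup.lift M ρ (hρ ▸ hMT)
  have hβπ : ∀ x, β (π x) = ρ x := fun x => rfl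
  let Z : Subgroup ((P : Subgroup G) ⧸ M) := β.ker
  have hZeq : Z = T.map π := by
    refine le_antisymm (fun y hy => ?_) ?_
    · obtain ⟨x, rfl⟩ := hπ y
      exact mem_map_of_mem π (hρ ▸ (MonoidHom.mem_ker.mp hy : ρ x = 1))
    · rintro _ ⟨x, hx, rfl⟩
      exact MonoidHom.mem_ker.mpr ((hβπ x).trans (MonoidHom.mem_ker.mp (hρ.symm ▸ hx)))
  have hZc : Z ≤ center _ := by
    rw [hZeq]
    rintro _ ⟨x, hx, rfl⟩
    rw [mem_center_iff]
    intro y
    obtain ⟨q, rfl⟩ := hπ y
    rw [← map_mul, ← map_mul, QuotientGroup.mk'_eq_mk']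
    refine ⟨(q * x)⁻¹ * (x * q), ?_, by group⟩
    have h5 := hMc (commutator_mem_commutator (inv_mem hx) (mem_top q⁻¹))
    rw [commutatorElement_def, inv_inv, inv_inv] at h5
    have e : (q * x)⁻¹ * (x * q) = x⁻¹ * q⁻¹ * x * q := by group
    rw [e]
    exact h5
  haveI hZcomm : IsMulCommutative Z :=
    ⟨⟨fun a b => Subtype.ext ((mem_center_iff.mp (hZc b.2)) a)⟩⟩
  have hZcard : Nat.card Z = p := by
    rw [hZeq]
    refine Eq.trans ?_ hMi
    have h15 := relIndex_ker T π
    rw [QuotientGroup.ker_mk'] at h15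
    exact h15.symm
  have hρs : ∀ y : G ⧸ K, ∃ x : (P : Subgroup G), ρ x = y := by
    intro y
    induction y using QuotientGroup.induction_on with
    | _ g =>
      have hg : g ∈ ((P : Subgroup G) ⊔ K : Subgroup G) := by
        rw [sylow_sup_pResidual]; exact mem_top g
      obtain ⟨a, ha, b, hb, rfl⟩ := mem_sup_of_normal_right.mp hg
      refine ⟨⟨a, ha⟩, ?_⟩
      change QuotientGroup.mk' K a = QuotientGroup.mk' K (a * b)
      rw [map_mul, show QuotientGroup.mk' K b = 1 from (QuotientGroup.eq_one_iff b).mpr hb, mul_one]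
  -- the pullback of `G → G/K ← P/M`
  let Gh : Subgroup (G × ((P : Subgroup G) ⧸ M)) :=
    ((QuotientGroup.mk' K).comp (MonoidHom.fst G _)).eqLocus (β.comp (MonoidHom.snd G _))
  let f : Gh →* G := (MonoidHom.fst G _).comp Gh.subtype
  have hf : Function.Surjective f := by
    intro g
    obtain ⟨x, hx⟩ := hρs (QuotientGroup.mk' K g)
    exact ⟨⟨(g, π x), ((hβπ x).trans hx).symm⟩, rfl⟩
  let Ph : Subgroup Gh := (P : Subgroup G).comap f
  have hPhi : Ph.index = (P : Subgroup G).index := index_comap_of_surjective _ hf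
  have hmem : ∀ x : Ph, (π ⟨(x : Gh).1.1, x.2⟩)⁻¹ * (x : Gh).1.2 ∈ Z := by
    intro x
    change β _ = 1
    rw [map_mul, map_inv, hβπ, inv_mul_eq_one]
    exact (x : Gh).2
  let ψ : Ph →* Z :=
    { toFun := fun x => ⟨_, hmem x⟩
      map_one' := by
        apply Subtype.ext
        simp only [OneMemClass.coe_one]
        change (π 1)⁻¹ * 1 = 1
        rw [map_one, inv_one, one_mul]
      map_mul' := fun x y => by
        apply Subtype.ext
        change (π (⟨(x : Gh).1.1, x.2⟩ * ⟨(y : Gh).1.1, y.2⟩))⁻¹ * ((x : Gh).1.2 * (y : Gh).1.2) =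
          ((π ⟨(x : Gh).1.1, x.2⟩)⁻¹ * (x : Gh).1.2) * ((π ⟨(y : Gh).1.1, y.2⟩)⁻¹ * (y : Gh).1.2)
        rw [map_mul, mul_inv_rev]
        have hc := mem_center_iff.mp (hZc (hmem x)) ((π ⟨(y : Gh).1.1, y.2⟩)⁻¹)
        simp only [mul_assoc] at hc ⊢
        rw [← mul_assoc (π ⟨(x : Gh).1.1, x.2⟩)⁻¹, ← mul_assoc (π ⟨(y : Gh).1.1, y.2⟩)⁻¹]
        rw [mem_center_iff.mp (hZc (hmem x))]
        simp only [mul_assoc] }
  let ι : Z → Gh := fun z => ⟨(1, (z : (P : Subgroup G) ⧸ M)), by
    change QuotientGroup.mk' K 1 = β z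
    rw [map_one]
    exact (MonoidHom.mem_ker.mp z.2).symm⟩
  haveI : Finite Gh := inferInstance
  let V : Gh →* Z := MonoidHom.transfer ψ
  have hn : (Nat.card Z).Coprime Ph.index := by
    rw [hZcard, hPhi]
    exact (Nat.Prime.coprime_iff_not_dvd hp.out).mpr P.not_dvd_index
  have hV : ∀ z : Z, V (ι z) = z ^ Ph.index := by
    intro z
    have key : ∀ (k : ℕ) (g₀ : Gh), g₀⁻¹ * ι z ^ k * g₀ ∈ Ph →
        g₀⁻¹ * ι z ^ k * g₀ = ι z ^ k := by
      intro k g₀ _
      have hc : Commute g₀ (ι z) := by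
        apply Subtype.ext
        apply Prod.ext
        · change g₀.1.1 * 1 = 1 * g₀.1.1
          rw [mul_one, one_mul]
        · exact mem_center_iff.mp (hZc z.2) g₀.1.2
      rw [mul_assoc, ← (hc.pow_right k).eq, ← mul_assoc, inv_mul_cancel, one_mul]
    have hm : ι z ∈ Ph := by
      change (1 : G) ∈ (P : Subgroup G)
      exact one_mem _
    rw [MonoidHom.transfer_eq_pow ψ (ι z) key]
    have e : (⟨ι z ^ Ph.index, MonoidHom.transfer_eq_pow_aux (ι z) key⟩ : Ph) =
        ⟨ι z, hm⟩ ^ Ph.index := Subtype.ext rfl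
    rw [e, map_pow]
    congr 1
    apply Subtype.ext
    change (π 1)⁻¹ * (z : (P : Subgroup G) ⧸ M) = z
    rw [map_one, inv_one, one_mul]
  let j : V.ker →* G := f.comp V.ker.subtype
  have hj : Function.Bijective j := by
    constructor
    · rw [injective_iff_map_eq_one]
      intro x hx
      have hx1 : (x : Gh).1.1 = 1 := hx
      have hz : (x : Gh).1.2 ∈ Z := by
        change β _ = 1
        refine Eq.trans ((x : Gh).2 : QuotientGroup.mk' K (x : Gh).1.1 = β (x : Gh).1.2).symm ?_
        change QuotientGroup.mk' K (x : Gh).1.1 = 1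
        rw [hx1, map_one]
      have e : (x : Gh) = ι ⟨_, hz⟩ := Subtype.ext (Prod.ext hx1 rfl)
      have h1 : (⟨_, hz⟩ : Z) ^ Ph.index = 1 := by
        rw [← hV, ← e]
        exact x.2
      have h2 : (⟨_, hz⟩ : Z) = 1 := (powCoprime hn).injective (h1.trans (one_pow _).symm)
      apply Subtype.ext
      apply Subtype.ext
      exact Prod.ext hx1 (congrArg Subtype.val h2)
    · intro g
      obtain ⟨x, rfl⟩ := hf g
      obtain ⟨z, hz⟩ := (powCoprime hn).surjective (V x)
      refine ⟨⟨x * (ι z)⁻¹, ?_⟩, ?_⟩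
      · rw [MonoidHom.mem_ker, map_mul, map_inv, hV, mul_inv_eq_one]
        exact hz.symm
      · change f (x * (ι z)⁻¹) = f x
        rw [map_mul, map_inv]
        change f x * (1 : G)⁻¹ = f x
        rw [inv_one, mul_one]
  let σ : G →* (P : Subgroup G) ⧸ M :=
    ((MonoidHom.snd G _).comp (Gh.subtype.comp V.ker.subtype)).comp
      (MulEquiv.ofBijective j hj).symm.toMonoidHom
  have hσβ : ∀ g, β (σ g) = QuotientGroup.mk' K g := by
    intro g
    set n := (MulEquiv.ofBijective j hj).symm g with hn'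
    have h1 : j n = g := (MulEquiv.ofBijective j hj).apply_symm_apply g
    change β (n : Gh).1.2 = _
    rw [← h1]
    exact ((n : Gh).2).symm
  have hσK : ∀ k ∈ K, σ k = 1 := fun k hk =>
    MonoidHom.mem_ker.mp (pResidual_le_ker σ (P.isPGroup'.to_quotient M) hk)
  have hmem' : ∀ x : (P : Subgroup G), (σ x)⁻¹ * π x ∈ Z := by
    intro x
    change β _ = 1
    rw [map_mul, map_inv, hσβ, hβπ, inv_mul_eq_one]
    rfl
  let χ : (P : Subgroup G) →* Z :=
    { toFun := fun x => ⟨_, hmem' x⟩
      map_one' := by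
        apply Subtype.ext
        simp only [OneMemClass.coe_one]
        rw [map_one, map_one, inv_one, one_mul]
      map_mul' := fun x y => by
        apply Subtype.ext
        change (σ ((x : G) * y))⁻¹ * π (x * y) = ((σ x)⁻¹ * π x) * ((σ y)⁻¹ * π y)
        rw [map_mul, map_mul, mul_inv_rev]
        have hc := mem_center_iff.mp (hZc (hmem' x)) ((σ (y : G))⁻¹)
        simp only [mul_assoc] at hc ⊢
        rw [← mul_assoc (σ (x : G))⁻¹, ← mul_assoc (σ (y : G))⁻¹]
        rw [mem_center_iff.mp (hZc (hmem' x))]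
        simp only [mul_assoc] }
  have hχT : ∀ x ∈ T, (χ x : (P : Subgroup G) ⧸ M) = π x := by
    intro x hx
    change (σ x)⁻¹ * π x = π x
    rw [hσK x (mem_subgroupOf.mp hx).2, inv_one, one_mul]
  have hχs : Function.Surjective χ := by
    intro z
    obtain ⟨x, hx, he⟩ := mem_map.mp ((hZeq.le) z.2)
    exact ⟨x, Subtype.ext ((hχT x hx).trans he)⟩
  refine ⟨χ.ker, inferInstance, ?_, ?_, ?_⟩
  · rw [index_ker, MonoidHom.range_eq_top.mpr hχs, card_top, hZcard]
  · intro x hx
    apply MonoidHom.mem_ker.mpr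
    apply Subtype.ext
    rw [hχT x (comap_mono hR.le hx)]
    exact (QuotientGroup.eq_one_iff x).mpr (hRM hx)
  · intro hle
    have hbot : Z = ⊥ := by
      rw [eq_bot_iff]
      intro z hz
      rw [hZeq] at hz
      obtain ⟨x, hx, rfl⟩ := mem_map.mp hz
      rw [mem_bot, ← hχT x hx, MonoidHom.mem_ker.mp (hle hx)]
      rfl
    rw [hbot, card_bot] at hZcard
    exact hp.out.one_lt.ne hZcard

/-- The commutator subgroup of a Sylow subgroup, seen in `G`, lies in every index `p` subgroup. -/
theorem commutator_le_of_index_prime {Q : Type*} [Group Q] [hp : Fact p.Prime] {M : Subgroup Q}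
    [M.Normal] (hM : M.index = p) : commutator Q ≤ M := by
  haveI : IsCyclic (Q ⧸ M) := isCyclic_of_prime_card (p := p) hM
  letI : CommGroup (Q ⧸ M) := IsCyclic.commGroup
  have h := Abelianization.commutator_subset_ker (QuotientGroup.mk' M)
  rwa [QuotientGroup.ker_mk'] at h

/-- A maximal subgroup test: the Frattini subgroup lies in every normal subgroup of index `p`. -/
theorem frattini_le_of_index_prime {Q : Type*} [Group Q] [Finite Q] [hp : Fact p.Prime]
    {M : Subgroup Q} (hM : M.index = p) : frattini Q ≤ M := by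
  refine frattini_le_coatom ⟨fun h => ?_, fun L hL => ?_⟩
  · rw [h, index_top] at hM
    exact hp.out.one_lt.ne hM
  · have h1 := relIndex_mul_index hL.le
    rw [hM] at h1
    rcases (Nat.dvd_prime hp.out).mp (Dvd.intro_left _ h1) with h2 | h2
    · exact index_eq_one.mp h2
    · rw [h2] at h1
      have h3 : M.relIndex L = 1 := mul_right_cancel₀ hp.out.ne_zero (h1.trans (one_mul p).symm)
      exact absurd (relIndex_eq_one.mp h3) (not_le_of_gt hL)

/-- **Tate's theorem**: the hyperfocal subgroup `P ∩ O^p(G)` is minimal among the `P`-invariant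
subgroups covering it modulo the Frattini subgroup of `P`. -/
theorem eq_inf_pResidual_of_le_sup_frattini [Finite G] [Fact p.Prime] (P : Sylow p G)
    {R : Subgroup G} (hRn : (P : Subgroup G) ≤ normalizer (R : Set G))
    (hR : R ≤ (P : Subgroup G) ⊓ Cfsg.pResidual p G)
    (hcov : (P : Subgroup G) ⊓ Cfsg.pResidual p G ≤
      R ⊔ (frattini (P : Subgroup G)).map (P : Subgroup G).subtype) :
    R = (P : Subgroup G) ⊓ Cfsg.pResidual p G := by
  by_contra hne
  obtain ⟨M, _, hMi, hRM, hTM⟩ := exists_maximal_of_lt P hRn (lt_of_le_of_ne hR hne)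
  refine hTM ?_
  rw [← map_subtype_le_map_subtype, map_subgroupOf_eq_of_le inf_le_left]
  refine hcov.trans (sup_le ?_ (map_mono (frattini_le_of_index_prime hMi)))
  have h := map_mono (f := (P : Subgroup G).subtype) hRM
  rwa [map_subgroupOf_eq_of_le (hR.trans inf_le_left)] at h

/-- Tate's theorem, derived subgroup version. -/
theorem eq_inf_pResidual_of_le_sup_commutator [Finite G] [Fact p.Prime] (P : Sylow p G)
    {R : Subgroup G} (hRn : (P : Subgroup G) ≤ normalizer (R : Set G))
    (hR : R ≤ (P : Subgroup G) ⊓ Cfsg.pResidual p G)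
    (hcov : (P : Subgroup G) ⊓ Cfsg.pResidual p G ≤
      R ⊔ ⁅(P : Subgroup G), (P : Subgroup G)⁆) :
    R = (P : Subgroup G) ⊓ Cfsg.pResidual p G := by
  by_contra hne
  obtain ⟨M, hMn, hMi, hRM, hTM⟩ := exists_maximal_of_lt P hRn (lt_of_le_of_ne hR hne)
  haveI := hMn
  refine hTM ?_
  rw [← map_subtype_le_map_subtype, map_subgroupOf_eq_of_le inf_le_left]
  refine hcov.trans (sup_le ?_ ?_)
  · have h := map_mono (f := (P : Subgroup G).subtype) hRM
    rwa [map_subgroupOf_eq_of_le (hR.trans inf_le_left)] at h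
  · rw [← map_subtype_commutator]
    exact map_mono (commutator_le_of_index_prime hMi)

/-- If the hyperfocal subgroup lies in `Φ(P)` then `G` has a normal `p`-complement. -/
theorem hasNormalPComplement_of_le_frattini [Finite G] [Fact p.Prime] (P : Sylow p G)
    (h : (P : Subgroup G) ⊓ Cfsg.pResidual p G ≤
      (frattini (P : Subgroup G)).map (P : Subgroup G).subtype) :
    Cfsg.HasNormalPComplement p G := by
  rw [hasNormalPComplement_iff_inf_eq_bot P]
  refine (eq_inf_pResidual_of_le_sup_frattini P ?_ bot_le (h.trans le_sup_right)).symm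
  intro g _
  rw [normalizer_eq_top]
  exact mem_top g

theorem hasNormalPComplement_of_le_commutator [Finite G] [Fact p.Prime] (P : Sylow p G)
    (h : (P : Subgroup G) ⊓ Cfsg.pResidual p G ≤ ⁅(P : Subgroup G), (P : Subgroup G)⁆) :
    Cfsg.HasNormalPComplement p G := by
  rw [hasNormalPComplement_iff_inf_eq_bot P]
  refine (eq_inf_pResidual_of_le_sup_commutator P ?_ bot_le (h.trans le_sup_right)).symm
  intro g _
  rw [normalizer_eq_top]
  exact mem_top g

/-! ### Control of fusion -/

/-- `H` controls the fusion of elements in `P`: two elements of `P` conjugate in `G` are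
conjugate by an element of `H`. -/
def ControlsFusion (H P : Subgroup G) : Prop :=
  ∀ x ∈ P, ∀ g : G, g * x * g⁻¹ ∈ P → ∃ h ∈ H, h * x * h⁻¹ = g * x * g⁻¹

theorem controlsFusion_mono {H H' P : Subgroup G} (h : ControlsFusion H P) (hle : H ≤ H') :
    ControlsFusion H' P := fun x hx g hg =>
  let ⟨y, hy, he⟩ := h x hx g hg
  ⟨y, hle hy, he⟩

/-- If `H` contains `P` and controls the fusion of its elements, the focal subgroups agree. -/
theorem focalSubgroup_eq_of_control {H P : Subgroup G} (hPH : P ≤ H) (hc : ControlsFusion H P) :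
    P.focalSubgroup = ((P.subgroupOf H).focalSubgroup).map H.subtype := by
  refine le_antisymm ?_ ?_
  · rw [focalSubgroup_def, closure_le]
    rintro _ ⟨hmem, x, hx, u, rfl⟩
    rw [commutatorElement_def] at hmem
    have h1 : u * x⁻¹ * u⁻¹ ∈ P := by
      have := mul_mem (inv_mem hx) hmem
      simpa [mul_assoc] using this
    obtain ⟨h, hh, he⟩ := hc x⁻¹ (inv_mem hx) u h1
    have e : ⁅x, u⁆ = ⁅x, h⁆ := by
      simp only [commutatorElement_def, mul_assoc] at he ⊢
      rw [he]
    refine ⟨⟨⁅x, h⁆, ?_⟩, ?_, e.symm⟩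
    · exact hPH (by rw [← e, commutatorElement_def]; exact hmem)
    · refine subset_closure ⟨?_, ⟨x, hPH hx⟩, ?_, ⟨h, hh⟩, rfl⟩
      · rw [mem_subgroupOf]
        change ⁅x, h⁆ ∈ P
        rw [← e, commutatorElement_def]
        exact hmem
      · exact mem_subgroupOf.mpr hx
  · rw [map_le_iff_le_comap, focalSubgroup_def, closure_le]
    rintro _ ⟨hmem, x, hx, u, rfl⟩
    exact subset_closure ⟨mem_subgroupOf.mp hmem, x, mem_subgroupOf.mp hx, u, rfl⟩

/-- A Sylow subgroup contained in `H`, as a Sylow subgroup of `H`, mapped back to `G`. -/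
theorem map_subtype_sylow {H : Subgroup G} (P : Sylow p G) (hPH : (P : Subgroup G) ≤ H) :
    ((P.subtype hPH : Sylow p H) : Subgroup H).map H.subtype = (P : Subgroup G) := by
  rw [Sylow.coe_subtype, map_subgroupOf_eq_of_le hPH]

/-- Tate: equality of the focal subgroups in `G` and in `H ≥ P` gives equality of the hyperfocal
subgroups. -/
theorem inf_pResidual_eq_of_focal_eq [Finite G] [Fact p.Prime] (P : Sylow p G) {H : Subgroup G}
    (hPH : (P : Subgroup G) ≤ H)
    (hfoc : (P : Subgroup G).focalSubgroup =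
      (((P : Subgroup G).subgroupOf H).focalSubgroup).map H.subtype) :
    (P : Subgroup G) ⊓ Cfsg.pResidual p G =
      (P : Subgroup G) ⊓ (Cfsg.pResidual p H).map H.subtype := by
  symm
  refine eq_inf_pResidual_of_le_sup_commutator P ?_
    (inf_le_inf_left _ (map_pResidual_subtype_le H)) ?_
  · refine le_trans ?_ inf_normalizer_le_normalizer_inf
    refine le_inf le_normalizer ?_
    refine hPH.trans ?_
    intro h hh
    have hn : ((Cfsg.pResidual p H)).Normal := inferInstance
    rw [mem_normalizer_iff]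
    intro y
    constructor
    · rintro ⟨a, ha, rfl⟩
      exact ⟨⟨h, hh⟩ * a * ⟨h, hh⟩⁻¹, hn.conj_mem a ha _, rfl⟩
    · rintro ⟨a, ha, e⟩
      refine ⟨⟨h, hh⟩⁻¹ * a * ⟨h, hh⟩, by simpa using hn.conj_mem a ha ⟨h, hh⟩⁻¹, ?_⟩
      change h⁻¹ * (a : G) * h = y
      rw [show (a : G) = h * y * h⁻¹ from e]
      group
  · refine (inf_pResidual_le_focal P).trans ?_
    rw [hfoc]
    rintro _ ⟨z, hz, rfl⟩
    have hz' : z ∈ ((P.subtype hPH : Sylow p H) : Subgroup H).focalSubgroup := hz
    rw [← inf_pResidual_sup_commutator] at hz'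
    have hzA : z ∈ Cfsg.pResidual p H ⊔ commutator H := (mem_inf.mp hz').1
    have hzP : z ∈ ((P.subtype hPH : Sylow p H) : Subgroup H) := (mem_inf.mp hz').2
    -- `H' ≤ O^p(H) P'`
    have hcomm : commutator H ≤ Cfsg.pResidual p H ⊔
        ⁅((P.subtype hPH : Sylow p H) : Subgroup H), ((P.subtype hPH : Sylow p H) : Subgroup H)⁆ := by
      have htop : ((P.subtype hPH : Sylow p H) : Subgroup H).map
          (QuotientGroup.mk' (Cfsg.pResidual p H)) = ⊤ := by
        refine top_le_iff.mp ?_
        rw [← map_top_of_surjective _ (QuotientGroup.mk'_surjective (Cfsg.pResidual p H)),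
          ← sylow_sup_pResidual (P.subtype hPH), Subgroup.map_sup,
          (Subgroup.map_eq_bot_iff (Cfsg.pResidual p H)).mpr (by rw [QuotientGroup.ker_mk']),
          sup_bot_eq]
      have h2 : (commutator H).map (QuotientGroup.mk' (Cfsg.pResidual p H)) ≤
          (⁅((P.subtype hPH : Sylow p H) : Subgroup H),
            ((P.subtype hPH : Sylow p H) : Subgroup H)⁆).map
            (QuotientGroup.mk' (Cfsg.pResidual p H)) := by
        rw [map_commutator, htop, commutator_def, map_commutator,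
          map_top_of_surjective _ (QuotientGroup.mk'_surjective _)]
      rw [map_le_iff_le_comap, comap_map_eq, QuotientGroup.ker_mk', sup_comm] at h2
      exact h2
    have hz2 := sup_le le_sup_left hcomm hzA
    obtain ⟨a, ha, b, hb, rfl⟩ := mem_sup_of_normal_left.mp hz2
    have hbP : b ∈ ((P.subtype hPH : Sylow p H) : Subgroup H) := by
      exact commutator_le_self _ hb
    have haP : a ∈ ((P.subtype hPH : Sylow p H) : Subgroup H) := by
      have := mul_mem hzP (inv_mem hbP)
      rwa [mul_inv_cancel_right] at this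
    refine mul_mem_sup ?_ ?_
    · exact ⟨mem_subgroupOf.mp haP, ⟨a, ha, rfl⟩⟩
    · have := mem_map_of_mem H.subtype hb
      rw [map_commutator, map_subtype_sylow] at this
      exact this

/-- If `H ≥ P` controls fusion in `P` then `P ∩ O^p(G) = P ∩ O^p(H)`. -/
theorem inf_pResidual_eq_of_control [Finite G] [Fact p.Prime] (P : Sylow p G) {H : Subgroup G}
    (hPH : (P : Subgroup G) ≤ H) (hc : ControlsFusion H (P : Subgroup G)) :
    (P : Subgroup G) ⊓ Cfsg.pResidual p G =
      (P : Subgroup G) ⊓ (Cfsg.pResidual p H).map H.subtype :=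
  inf_pResidual_eq_of_focal_eq P hPH (focalSubgroup_eq_of_control hPH hc)

/-- If `H ≥ P` controls fusion in `P` then `G' ∩ P = H' ∩ P`. -/
theorem commutator_inf_eq_of_control [Finite G] [Fact p.Prime] (P : Sylow p G) {H : Subgroup G}
    (hPH : (P : Subgroup G) ≤ H) (hc : ControlsFusion H (P : Subgroup G)) :
    commutator G ⊓ (P : Subgroup G) = ⁅H, H⁆ ⊓ (P : Subgroup G) := by
  rw [commutator_inf_eq_focalSubgroup P, focalSubgroup_eq_of_control hPH hc,
    ← Sylow.coe_subtype P hPH, ← commutator_inf_eq_focalSubgroup,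
    Subgroup.map_inf _ _ _ H.subtype_injective, map_subtype_commutator, map_subtype_sylow]

/-- Equal hyperfocal subgroups give `O^p(H) = O^p(G) ∩ H`. -/
theorem map_pResidual_eq_inf [Finite G] [Fact p.Prime] (P : Sylow p G) {H : Subgroup G}
    (hPH : (P : Subgroup G) ≤ H)
    (h : (P : Subgroup G) ⊓ Cfsg.pResidual p G =
      (P : Subgroup G) ⊓ (Cfsg.pResidual p H).map H.subtype) :
    (Cfsg.pResidual p H).map H.subtype = Cfsg.pResidual p G ⊓ H := by
  refine le_antisymm (le_inf (map_pResidual_subtype_le H) (map_subtype_le _)) ?_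
  intro x hx0
  obtain ⟨hxK, hxH⟩ := mem_inf.mp hx0
  have hx : (⟨x, hxH⟩ : H) ∈
      (((P.subtype hPH : Sylow p H) : Subgroup H) ⊔ Cfsg.pResidual p H : Subgroup H) := by
    rw [sylow_sup_pResidual]
    exact mem_top _
  obtain ⟨a, ha, b, hb, e⟩ := mem_sup_of_normal_right.mp hx
  have e' : (a : G) * (b : G) = x := congrArg Subtype.val e
  have hb' : (b : G) ∈ (Cfsg.pResidual p H).map H.subtype := mem_map_of_mem _ hb
  have haK : (a : G) ∈ Cfsg.pResidual p G := by
    have := mul_mem hxK (inv_mem (map_pResidual_subtype_le H hb'))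
    rwa [← e', mul_inv_cancel_right] at this
  have ha' : (a : G) ∈ (P : Subgroup G) ⊓ Cfsg.pResidual p G := ⟨mem_subgroupOf.mp ha, haK⟩
  rw [h] at ha'
  rw [← e']
  exact mul_mem ha'.2 hb'

/-- Equal hyperfocal subgroups give `G/O^p(G) ≅ H/O^p(H)`. -/
theorem quotient_pResidual_equiv [Finite G] [Fact p.Prime] (P : Sylow p G) {H : Subgroup G}
    (hPH : (P : Subgroup G) ≤ H)
    (h : (P : Subgroup G) ⊓ Cfsg.pResidual p G =
      (P : Subgroup G) ⊓ (Cfsg.pResidual p H).map H.subtype) :
    Nonempty (G ⧸ Cfsg.pResidual p G ≃* H ⧸ Cfsg.pResidual p H) := by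
  let f := (QuotientGroup.mk' (Cfsg.pResidual p G)).comp H.subtype
  have hf : Function.Surjective f := by
    intro y
    induction y using QuotientGroup.induction_on with
    | _ g =>
      have hg : g ∈ (H ⊔ Cfsg.pResidual p G : Subgroup G) := by
        rw [sup_pResidual_eq_top_of_sylow_le P hPH]
        exact mem_top g
      obtain ⟨a, ha, b, hb, rfl⟩ := mem_sup_of_normal_right.mp hg
      refine ⟨⟨a, ha⟩, ?_⟩
      change QuotientGroup.mk' (Cfsg.pResidual p G) a = QuotientGroup.mk' (Cfsg.pResidual p G) (a * b)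
      rw [map_mul, show QuotientGroup.mk' (Cfsg.pResidual p G) b = 1 from
        (QuotientGroup.eq_one_iff b).mpr hb, mul_one]
  have hk : f.ker = Cfsg.pResidual p H := by
    rw [← MonoidHom.comap_ker, QuotientGroup.ker_mk']
    refine Eq.trans ?_ (comap_map_eq_self_of_injective H.subtype_injective (Cfsg.pResidual p H))
    rw [map_pResidual_eq_inf P hPH h, comap_inf]
    ext y
    simp
  exact ⟨((QuotientGroup.quotientMulEquivOfEq hk.symm).trans
    (QuotientGroup.quotientKerEquivOfSurjective f hf)).symm⟩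

/-- If a Sylow subgroup controls its own fusion, there is a normal `p`-complement. -/
theorem hasNormalPComplement_of_control [Finite G] [Fact p.Prime] (P : Sylow p G)
    (hc : ControlsFusion (P : Subgroup G) (P : Subgroup G)) : Cfsg.HasNormalPComplement p G := by
  rw [hasNormalPComplement_iff_inf_eq_bot P, inf_pResidual_eq_of_control P le_rfl hc,
    pResidual_eq_bot_iff.mpr P.isPGroup', Subgroup.map_bot, inf_bot_eq]

/-- Conversely, with a normal `p`-complement a Sylow subgroup controls its fusion. -/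
theorem control_of_hasNormalPComplement [Finite G] [Fact p.Prime] (P : Sylow p G)
    (h : Cfsg.HasNormalPComplement p G) :
    ControlsFusion (P : Subgroup G) (P : Subgroup G) := by
  intro x hx g hg
  have hbot := (hasNormalPComplement_iff_inf_eq_bot P).mp h
  have hg' : g ∈ ((P : Subgroup G) ⊔ Cfsg.pResidual p G : Subgroup G) := by
    rw [sylow_sup_pResidual]; exact mem_top g
  obtain ⟨a, ha, b, hb, rfl⟩ := mem_sup_of_normal_right.mp hg'
  refine ⟨a, ha, ?_⟩
  have e : a * b * x * (a * b)⁻¹ = a * (b * x * b⁻¹) * a⁻¹ := by group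
  rw [e] at hg ⊢
  have hbx : b * x * b⁻¹ ∈ (P : Subgroup G) := by
    have := mul_mem (mul_mem (inv_mem ha) hg) ha
    simpa [mul_assoc] using this
  have hK : b * x * b⁻¹ * x⁻¹ ∈ (P : Subgroup G) ⊓ Cfsg.pResidual p G := by
    refine mem_inf.mpr ⟨mul_mem hbx (inv_mem hx), ?_⟩
    have h1 : (Cfsg.pResidual p G).Normal := inferInstance
    have := mul_mem hb (h1.conj_mem _ (inv_mem hb) x)
    simpa [mul_assoc] using this
  rw [hbot, mem_bot, mul_inv_eq_one] at hK
  rw [hK]

/-- A normal subgroup meeting a Sylow subgroup inside its Frattini subgroup has a normal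
`p`-complement. -/
theorem hasNormalPComplement_of_normal_inf_le_frattini [Finite G] [Fact p.Prime] (P : Sylow p G)
    (N : Subgroup G) [N.Normal]
    (h : N ⊓ (P : Subgroup G) ≤ (frattini (P : Subgroup G)).map (P : Subgroup G).subtype) :
    Cfsg.HasNormalPComplement p N := by
  set L : Subgroup G := N ⊔ (P : Subgroup G) with hL
  let P1 : Sylow p L := P.subtype le_sup_right
  haveI : (N.subgroupOf L).Normal := normal_subgroupOf
  have hq : Cfsg.pResidual p L ≤ N.subgroupOf L := by
    obtain ⟨k, hk⟩ := IsPGroup.iff_card.mp P.isPGroup'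
    have h1 : (N.subgroupOf L).index ∣ p ^ k := by
      rw [← hk, ← relIndex, hL]
      change N.relIndex (N ⊔ (P : Subgroup G)) ∣ _
      rw [relIndex_sup_left]
      exact relIndex_dvd_card _ _
    obtain ⟨i, -, hi⟩ := (Nat.dvd_prime_pow Fact.out).mp h1
    exact pResidual_le_of_index hi
  suffices hLc : Cfsg.HasNormalPComplement p L from hasNormalPComplement_mono le_sup_left hLc
  rw [hasNormalPComplement_iff_inf_eq_bot P1]
  by_contra hne
  obtain ⟨M, _, hMi, -, hTM⟩ := exists_maximal_of_lt P1 (R := ⊥)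
    (by intro g _; rw [normalizer_eq_top]; exact mem_top g) (bot_lt_iff_ne_bot.mpr hne)
  refine hTM fun x hx => ?_
  obtain ⟨hxP, hxK⟩ := mem_subgroupOf.mp hx
  let e : (P1 : Subgroup L) ≃* (P : Subgroup G) := subgroupOfEquivOfLe le_sup_right
  let M' : Subgroup (P : Subgroup G) := M.comap e.symm.toMonoidHom
  have hM'i : M'.index = p := by
    rw [index_comap_of_surjective _ e.symm.surjective, hMi]
  obtain ⟨y, hy, hy'⟩ := h ⟨mem_subgroupOf.mp (hq hxK), mem_subgroupOf.mp hxP⟩
  have hyM : e.symm y ∈ M := frattini_le_of_index_prime hM'i hy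
  convert hyM using 1
  apply Subtype.ext
  apply Subtype.ext
  exact hy'.symm

/-! ### Consequences of Sylow's theorem in centralisers -/

/-- An abelian Sylow subgroup has its fusion controlled by its normalizer. -/
theorem controlsFusion_normalizer_of_comm [Finite G] [Fact p.Prime] (P : Sylow p G)
    (hP : IsMulCommutative P) :
    ControlsFusion (normalizer ((P : Subgroup G) : Set G)) (P : Subgroup G) := by
  intro x hx g hg
  haveI := hP
  obtain ⟨n, hn, e⟩ := P.conj_eq_normalizer_conj_of_mem x g⁻¹ hx (by rwa [inv_inv])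
  refine ⟨n⁻¹, inv_mem hn, ?_⟩
  rw [inv_inv] at e ⊢
  exact e.symm

/-- If `P` is abelian then `P ∩ G' = P ∩ O^p(G)`. -/
theorem inf_pResidual_eq_inf_commutator [Finite G] [Fact p.Prime] (P : Sylow p G)
    (hP : IsMulCommutative P) :
    (P : Subgroup G) ⊓ Cfsg.pResidual p G = commutator G ⊓ (P : Subgroup G) := by
  have hbot : ⁅(P : Subgroup G), (P : Subgroup G)⁆ = ⊥ := by
    rw [commutator_eq_bot_iff_le_centralizer]
    intro a ha b hb
    exact congrArg Subtype.val (hP.is_comm.comm (⟨b, hb⟩ : (P : Subgroup G)) ⟨a, ha⟩)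
  refine le_antisymm ?_ ?_
  · rw [commutator_inf_eq_focalSubgroup P]
    exact inf_pResidual_le_focal P
  · refine le_inf inf_le_right ?_
    -- `G / O^p(G)` is an image of `P`, hence commutative
    refine le_trans inf_le_left ?_
    have htop : (P : Subgroup G).map (QuotientGroup.mk' (Cfsg.pResidual p G)) = ⊤ := by
      rw [← map_top_of_surjective _ (QuotientGroup.mk'_surjective (Cfsg.pResidual p G)),
        ← sylow_sup_pResidual P, Subgroup.map_sup,
        (Subgroup.map_eq_bot_iff (Cfsg.pResidual p G)).mpr (by rw [QuotientGroup.ker_mk']),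
        sup_bot_eq]
    rw [commutator_def, ← QuotientGroup.ker_mk' (Cfsg.pResidual p G),
      ← Subgroup.map_eq_bot_iff, map_commutator,
      map_top_of_surjective _ (QuotientGroup.mk'_surjective _), ← htop, ← map_commutator, hbot,
      Subgroup.map_bot]

/-- A weakly closed subgroup centralised by `P` controls fusion in `P` through its normalizer. -/
theorem controlsFusion_normalizer_of_isWeaklyClosed [Finite G] [Fact p.Prime] (P : Sylow p G)
    {Z : Subgroup G} (hZ : Z ≤ centralizer ((P : Subgroup G) : Set G))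
    (hW : Cfsg.IsWeaklyClosed Z (P : Subgroup G)) :
    ControlsFusion (normalizer (Z : Set G)) (P : Subgroup G) := by
  intro x hx g hg
  set y := g * x * g⁻¹ with hy
  set C : Subgroup G := centralizer ({y} : Set G) with hC
  have hZC : Z ≤ C := by
    intro z hz
    rw [hC, mem_centralizer_iff]
    intro w hw
    rw [Set.mem_singleton_iff.mp hw]
    exact mem_centralizer_iff.mp (hZ hz) y hg
  have hgZC : Z.map (MulAut.conj g).toMonoidHom ≤ C := by
    rintro _ ⟨z, hz, rfl⟩
    rw [hC, mem_centralizer_iff]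
    intro w hw
    rw [Set.mem_singleton_iff.mp hw, hy]
    have := mem_centralizer_iff.mp (hZ hz) x hx
    simp only [MulEquiv.toMonoidHom_eq_coe, MonoidHom.coe_coe, MulAut.conj_apply]
    calc g * x * g⁻¹ * (g * z * g⁻¹) = g * (x * z) * g⁻¹ := by group
      _ = g * (z * x) * g⁻¹ := by rw [this]
      _ = g * z * g⁻¹ * (g * x * g⁻¹) := by group
  have hZp : IsPGroup p Z := P.isPGroup'.to_le hW.1
  obtain ⟨R, hR⟩ := (hZp.comap_subtype (K := C)).exists_le_sylow
  obtain ⟨R₂, hR₂⟩ := ((hZp.map (MulAut.conj g).toMonoidHom).comap_subtype (K := C)).exists_le_sylow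
  obtain ⟨c, hc⟩ := MulAction.exists_smul_eq C R₂ R
  obtain ⟨Q, hQ⟩ := (R.isPGroup'.map C.subtype).exists_le_sylow
  obtain ⟨a, ha⟩ := MulAction.exists_smul_eq G Q P
  -- every conjugate of `Z` contained in `Q` is the same
  have huniq : ∀ b : G, Z.map (MulAut.conj b).toMonoidHom ≤ (Q : Subgroup G) →
      Z.map (MulAut.conj (a * b)).toMonoidHom = Z := by
    intro b hb
    refine hW.2 _ ?_
    rw [← ha]
    rintro _ ⟨z, hz, rfl⟩
    rw [Sylow.coe_subgroup_smul, mem_pointwise_smul_iff_inv_smul_mem]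
    have := hb ⟨z, hz, rfl⟩
    simpa [mul_assoc] using this
  have h1 := huniq 1 (by
    intro w hw
    obtain ⟨z, hz, rfl⟩ := hw
    simp only [MulEquiv.toMonoidHom_eq_coe, MonoidHom.coe_coe, map_one, MulAut.one_apply]
    exact hQ ⟨⟨z, hZC hz⟩, hR (mem_subgroupOf.mpr hz), rfl⟩)
  have h2 := huniq ((c : G) * g) (by
    rintro _ ⟨z, hz, rfl⟩
    have hm : (⟨g * z * g⁻¹, hgZC ⟨z, hz, rfl⟩⟩ : C) ∈ (R₂ : Subgroup C) :=
      hR₂ (mem_subgroupOf.mpr ⟨z, hz, rfl⟩)
    have hm2 : c * ⟨g * z * g⁻¹, hgZC ⟨z, hz, rfl⟩⟩ * c⁻¹ ∈ (R : Subgroup C) := by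
      rw [← hc, Sylow.coe_subgroup_smul, mem_pointwise_smul_iff_inv_smul_mem]
      simpa [mul_assoc] using hm
    have := hQ ⟨_, hm2, rfl⟩
    simpa [mul_assoc] using this)
  have hnorm : ∀ b : G, Z.map (MulAut.conj b).toMonoidHom = Z → b ∈ normalizer (Z : Set G) := by
    intro b hb
    rw [mem_normalizer_iff]
    intro z
    constructor
    · intro hz
      rw [← hb]
      exact ⟨z, hz, rfl⟩
    · intro hz
      rw [← hb] at hz
      obtain ⟨z', hz', e⟩ := hz
      have : b * z' * b⁻¹ = b * z * b⁻¹ := e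
      simpa using (by simpa using this : z' = z) ▸ hz'
  refine ⟨(a * 1)⁻¹ * (a * ((c : G) * g)), mul_mem (inv_mem (hnorm _ h1)) (hnorm _ h2), ?_⟩
  have hcy : (c : G) * y = y * c :=
    (mem_centralizer_iff.mp c.2 y (Set.mem_singleton _)).symm
  have e : (a * 1)⁻¹ * (a * ((c : G) * g)) = (c : G) * g := by group
  rw [e]
  calc (c : G) * g * x * ((c : G) * g)⁻¹ = (c : G) * y * (c : G)⁻¹ := by rw [hy]; group
    _ = y := by rw [hcy, mul_inv_cancel_right]

end Cfsg.Agent.TransferTate
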