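import Mathlib
import Cfsg.Agent.Lib.ClassTwoPow
import Cfsg.Agent.Lib.TransferTate

namespace Cfsg.Agent.HallNilpotentConj

open Subgroup
open scoped commutatorElement

/-- Elements of coprime orders in a finite nilpotent group commute. -/
theorem commute_of_coprime_orderOf (G : Type*) [Group G] [Group.IsNilpotent G] :
    ∀ a b : G, (orderOf a).Coprime (orderOf b) → Commute a b := by
  refine Group.nilpotent_center_quotient_ind
    (P := fun G _ _ => ∀ a b : G, (orderOf a).Coprime (orderOf b) → Commute a b) G ?_ ?_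
  · intro G _ _ a b _; exact Subsingleton.elim _ _
  · intro G _ _ ih a b hab
    have h1 := ih (QuotientGroup.mk' (center G) a) (QuotientGroup.mk' (center G) b)
      ((hab.coprime_dvd_left (orderOf_map_dvd _ a)).coprime_dvd_right (orderOf_map_dvd _ b))
    rw [← commutatorElement_eq_one_iff_commute, ← map_commutatorElement] at h1
    have h2 : ⁅a, b⁆ ∈ center G := (QuotientGroup.eq_one_iff _).mp h1
    have h3 : ⁅a, b⁆ ^ orderOf a = 1 := by
      rw [← ClassTwoPow.commutator_pow_left h2, pow_orderOf_eq_one, commutatorElement_one_left]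
    have h4 : ⁅b, a⁆ ∈ center G := by
      rw [← commutatorElement_inv]; exact inv_mem h2
    have h5 : ⁅a, b⁆ ^ orderOf b = 1 := by
      rw [← commutatorElement_inv b a, inv_pow, ← ClassTwoPow.commutator_pow_left h4,
        pow_orderOf_eq_one, commutatorElement_one_left, inv_one]
    have h6 := pow_gcd_eq_one.mpr ⟨h3, h5⟩
    rw [hab.gcd_eq_one, pow_one] at h6
    exact commutatorElement_eq_one_iff_commute.mp h6

variable {G : Type*} [Group G] [Finite G]

/-- A nilpotent subgroup splits as a Sylow subgroup and a subgroup centralizing it. -/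
theorem exists_split (H : Subgroup G) [hH : Group.IsNilpotent H] (p : ℕ) [hp : Fact p.Prime] :
    ∃ A B : Subgroup G, IsPGroup p A ∧ A ⊔ B = H ∧ B ≤ centralizer (A : Set G) ∧
      (Nat.card B).Coprime p ∧ Nat.card A * Nat.card B = Nat.card H ∧
      H ≤ normalizer (A : Set G) := by
  obtain ⟨S⟩ : Nonempty (Sylow p H) := inferInstance
  have : (S : Subgroup H).Normal := inferInstance
  obtain ⟨T, hT⟩ := exists_left_complement'_of_coprime (N := (S : Subgroup H)) S.card_coprime_index
  have hcard : (Nat.card T).Coprime p := by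
    rw [← hT.index_eq_card]
    exact (Nat.coprime_comm.mp ((Nat.Prime.coprime_iff_not_dvd hp.out).mpr S.not_dvd_index))
  refine ⟨(S : Subgroup H).map H.subtype, T.map H.subtype, S.isPGroup'.map _, ?_, ?_, ?_, ?_, ?_⟩
  · rw [← Subgroup.map_sup, hT.symm.sup_eq_top, ← MonoidHom.range_eq_map, range_subtype]
  · rintro _ ⟨t, ht, rfl⟩
    rw [mem_centralizer_iff]
    rintro _ ⟨s, hs, rfl⟩
    obtain ⟨k, hk⟩ := IsPGroup.iff_orderOf.mp S.isPGroup' ⟨s, hs⟩
    rw [orderOf_mk] at hk
    have h1 : (orderOf s).Coprime (orderOf t) := by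
      rw [hk]
      exact ((hcard.coprime_dvd_left (Subgroup.orderOf_dvd_natCard _ ht)).symm).pow_left k
    exact congrArg H.subtype (commute_of_coprime_orderOf H s t h1).eq
  · rwa [card_map_of_injective H.subtype_injective]
  · rw [card_map_of_injective H.subtype_injective, card_map_of_injective H.subtype_injective,
      hT.symm.card_mul_card]
  · have h1 := le_normalizer_map (H := (S : Subgroup H)) H.subtype
    rw [normalizer_eq_top, ← MonoidHom.range_eq_map, range_subtype] at h1
    exact h1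

omit [Finite G] in
theorem map_conj_le {C X : Subgroup G} (hX : X ≤ C) {c : G} (hc : c ∈ C) :
    X.map (MulAut.conj c).toMonoidHom ≤ C := by
  rintro _ ⟨x, hx, rfl⟩
  simpa using mul_mem (mul_mem hc (hX hx)) (inv_mem hc)

theorem wielandt_aux : ∀ (n : ℕ) (C H K : Subgroup G), Nat.card H = n → H ≤ C → K ≤ C →
    Group.IsNilpotent H → Group.IsNilpotent K → Nat.card K = Nat.card H →
    (Nat.card H).Coprime (H.relIndex C) →
    ∃ c ∈ C, H.map (MulAut.conj c).toMonoidHom = K := by
  intro n
  induction n using Nat.strong_induction_on with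
  | _ n ih =>
  intro C H K hn hHC hKC hH hK hcard hcop
  by_cases h1 : Nat.card H = 1
  · refine ⟨1, one_mem C, ?_⟩
    rw [Subgroup.card_eq_one.mp h1, Subgroup.map_bot, Subgroup.card_eq_one.mp (hcard.trans h1)]
  obtain ⟨p, hp, hpd⟩ := Nat.exists_prime_and_dvd h1
  have := Fact.mk hp
  obtain ⟨A, B, hA, hAB, hBA, hBp, hAc, -⟩ := exists_split H p
  obtain ⟨A', B', hA', hAB', hBA', hBp', hAc', -⟩ := exists_split K p
  obtain ⟨a, ha⟩ := IsPGroup.iff_card.mp hA
  obtain ⟨a', ha'⟩ := IsPGroup.iff_card.mp hA'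
  have hApos : 0 < Nat.card A := Nat.card_pos
  have hAeq : Nat.card A' = Nat.card A := by
    have e : Nat.card A * Nat.card B = Nat.card A' * Nat.card B' := by rw [hAc, hAc', hcard]
    apply Nat.dvd_antisymm
    · refine Nat.Coprime.dvd_of_dvd_mul_right ?_ (e ▸ dvd_mul_right (Nat.card A') (Nat.card B'))
      rw [ha']; exact hBp.symm.pow_left a'
    · refine Nat.Coprime.dvd_of_dvd_mul_right ?_ (e.symm ▸ dvd_mul_right (Nat.card A) (Nat.card B))
      rw [ha]; exact hBp'.symm.pow_left a
  have hBeq : Nat.card B' = Nat.card B := by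
    have e : Nat.card A * Nat.card B = Nat.card A' * Nat.card B' := by rw [hAc, hAc', hcard]
    rw [hAeq] at e
    exact (Nat.eq_of_mul_eq_mul_left hApos e).symm
  have hAH : A ≤ H := hAB ▸ le_sup_left
  have hBH : B ≤ H := hAB ▸ le_sup_right
  have hA'K : A' ≤ K := hAB' ▸ le_sup_left
  have hB'K : B' ≤ K := hAB' ▸ le_sup_right
  have hrel : ¬ p ∣ A.relIndex C := by
    rw [← relIndex_mul_relIndex A H C hAH hHC]
    intro h
    rcases (Nat.Prime.dvd_mul hp).mp h with h | h
    · have : A.relIndex H = Nat.card B := by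
        have h2 := card_mul_index (A.subgroupOf H)
        rw [Nat.card_congr (subgroupOfEquivOfLe hAH).toEquiv, ← hAc] at h2
        exact Nat.eq_of_mul_eq_mul_left hApos h2
      rw [this] at h
      exact (Nat.Prime.coprime_iff_not_dvd hp).mp hBp.symm h
    · exact hp.one_lt.ne' (Nat.eq_one_of_dvd_coprimes hcop hpd h)
  have hrel' : ¬ p ∣ A'.relIndex C := by
    have h2 : A'.relIndex C = A.relIndex C := by
      have e1 := card_mul_index (A.subgroupOf C)
      have e2 := card_mul_index (A'.subgroupOf C)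
      rw [Nat.card_congr (subgroupOfEquivOfLe (hAH.trans hHC)).toEquiv] at e1
      rw [Nat.card_congr (subgroupOfEquivOfLe (hA'K.trans hKC)).toEquiv, hAeq, ← e1] at e2
      exact Nat.eq_of_mul_eq_mul_left hApos e2
    rwa [h2]
  let S : Sylow p C := (hA.of_equiv (subgroupOfEquivOfLe (hAH.trans hHC)).symm).toSylow hrel
  let T : Sylow p C := (hA'.of_equiv (subgroupOfEquivOfLe (hA'K.trans hKC)).symm).toSylow hrel'
  obtain ⟨c, hc⟩ := MulAction.exists_smul_eq C S T
  set φ := (MulAut.conj (c : G)).toMonoidHom with hφ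
  have hAA : A.map φ = A' := by
    apply Subgroup.eq_of_le_of_card_ge
    · rintro _ ⟨x, hx, rfl⟩
      have h2 : c * ⟨x, (hAH.trans hHC) hx⟩ * c⁻¹ ∈ (T : Subgroup C) := by
        rw [← hc, Sylow.coe_subgroup_smul]
        exact ⟨⟨x, (hAH.trans hHC) hx⟩, hx, by simp [MulAut.smul_def]⟩
      exact h2
    · rw [hAeq, card_map_of_injective (MulAut.conj (c : G)).injective]
  set D := C ⊓ centralizer (A' : Set G) with hD
  have hBD : B.map φ ≤ D := by
    refine le_inf (map_conj_le (hBH.trans hHC) c.2) ?_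
    rintro _ ⟨b, hb, rfl⟩
    rw [mem_centralizer_iff]
    intro x hx
    rw [← hAA] at hx
    obtain ⟨y, hy, rfl⟩ := hx
    rw [← map_mul, ← map_mul]
    exact congrArg φ ((mem_centralizer_iff.mp (hBA hb)) y hy)
  have hcardB : Nat.card (B.map φ) = Nat.card B :=
    card_map_of_injective (MulAut.conj (c : G)).injective
  have hlt : Nat.card (B.map φ) < n := by
    rw [hcardB, ← hn, ← hAc]
    refine (Nat.lt_mul_iff_one_lt_left Nat.card_pos).mpr ?_
    rcases a with _ | a
    · exfalso
      rw [ha] at hAc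
      simp only [pow_zero, one_mul] at hAc
      rw [hAc] at hBp
      exact (Nat.Prime.coprime_iff_not_dvd hp).mp hBp.symm hpd
    · rw [ha]; exact one_lt_pow' hp.one_lt a.succ_ne_zero
  have : Group.IsNilpotent B :=
    Subgroup.isNilpotent_of_ker_le_center (inclusion hBH) (by
      rw [(MonoidHom.ker_eq_bot_iff _).mpr (inclusion_injective hBH)]; exact bot_le)
  have hnB : Group.IsNilpotent (B.map φ) :=
    Group.nilpotent_of_mulEquiv (B.equivMapOfInjective φ (MulAut.conj (c : G)).injective)
  have hnB' : Group.IsNilpotent B' :=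
    Subgroup.isNilpotent_of_ker_le_center (inclusion hB'K) (by
      rw [(MonoidHom.ker_eq_bot_iff _).mpr (inclusion_injective hB'K)]; exact bot_le)
  have hcop2 : (Nat.card (B.map φ)).Coprime ((B.map φ).relIndex D) := by
    have h2 : B.map φ ≤ C := map_conj_le (hBH.trans hHC) c.2
    refine Nat.Coprime.coprime_dvd_right ⟨D.relIndex C, (relIndex_mul_relIndex (B.map φ) D C hBD inf_le_left).symm⟩ ?_
    have e1 := card_mul_index ((B.map φ).subgroupOf C)
    have e2 := card_mul_index (H.subgroupOf C)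
    rw [Nat.card_congr (subgroupOfEquivOfLe h2).toEquiv, hcardB] at e1
    rw [Nat.card_congr (subgroupOfEquivOfLe hHC).toEquiv, ← hAc, ← e1, mul_comm (Nat.card A) _,
      mul_assoc] at e2
    have e3 : (B.map φ).relIndex C = Nat.card A * H.relIndex C :=
      (Nat.eq_of_mul_eq_mul_left Nat.card_pos e2).symm
    rw [e3, hcardB]
    refine Nat.Coprime.mul_right ?_ (hcop.coprime_dvd_left (hAc ▸ dvd_mul_left _ _))
    rw [ha]; exact hBp.pow_right a
  obtain ⟨d, hd, hdeq⟩ := ih _ hlt D (B.map φ) B' rfl hBD (le_inf (hB'K.trans hKC) hBA') hnB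
    hnB' (hBeq.trans hcardB.symm) hcop2
  refine ⟨d * c, mul_mem hd.1 c.2, ?_⟩
  have hcomp : (MulAut.conj (d * (c : G))).toMonoidHom = (MulAut.conj d).toMonoidHom.comp φ := by
    ext x; simp [hφ, mul_assoc]
  rw [hcomp, ← map_map, ← hAB, Subgroup.map_sup, Subgroup.map_sup, hAA, hdeq, ← hAB']
  congr 1
  ext x
  constructor
  · rintro ⟨y, hy, rfl⟩
    have := (mem_centralizer_iff.mp hd.2) y hy
    simpa [← this] using hy
  · intro hx
    exact ⟨x, hx, by simp [← (mem_centralizer_iff.mp hd.2) x hx]⟩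

/-- Wielandt's theorem: nilpotent Hall subgroups of the same order are conjugate. -/
theorem wielandt {H K : Subgroup G} (hH : Group.IsNilpotent H) (hK : Group.IsNilpotent K)
    (hcard : Nat.card K = Nat.card H) (hcop : (Nat.card H).Coprime H.index) :
    ∃ g : G, H.map (MulAut.conj g).toMonoidHom = K := by
  obtain ⟨g, -, hg⟩ := wielandt_aux (Nat.card H) ⊤ H K rfl le_top le_top hH hK hcard
    (by rwa [relIndex_top_right])
  exact ⟨g, hg⟩

/-- A nilpotent Hall subgroup controlling its own fusion has a normal complement. -/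
theorem exists_complement_of_control {H : Subgroup G} [Group.IsNilpotent H]
    (hHall : (Nat.card H).Coprime H.index)
    (hc : ∀ x ∈ H, ∀ y ∈ H, (∃ g : G, g * x * g⁻¹ = y) → ∃ h ∈ H, h * x * h⁻¹ = y) :
    ∃ N : Subgroup G, N.Normal ∧ N.IsComplement' H := by
  have key : ∀ p : ℕ, p.Prime → p ∣ Nat.card H → ¬ p ∣ Nat.card (Cfsg.pResidual p G) := by
    intro p hp hpd
    have := Fact.mk hp
    obtain ⟨A, B, hA, hAB, hBA, hBp, hAc, hN⟩ := exists_split H p
    have hi : ¬ p ∣ A.index := by
      rw [← relIndex_mul_index (hAB ▸ le_sup_left : A ≤ H)]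
      intro h
      rcases (Nat.Prime.dvd_mul hp).mp h with h | h
      · have h2 : A.relIndex H = Nat.card B := by
          have h2 := card_mul_index (A.subgroupOf H)
          rw [Nat.card_congr (subgroupOfEquivOfLe (hAB ▸ le_sup_left : A ≤ H)).toEquiv, ← hAc] at h2
          exact Nat.eq_of_mul_eq_mul_left Nat.card_pos h2
        rw [h2] at h
        exact (Nat.Prime.coprime_iff_not_dvd hp).mp hBp.symm h
      · exact hp.one_lt.ne' (Nat.eq_one_of_dvd_coprimes hHall hpd h)
    let P : Sylow p G := hA.toSylow hi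
    refine TransferPResidual.hasNormalPComplement_iff_not_dvd.mp
      (TransferTate.hasNormalPComplement_of_control P ?_)
    intro x hx g hg
    have hPH : A ≤ H := hAB ▸ le_sup_left
    obtain ⟨h, hh, hhx⟩ := hc x (hPH hx) _ (hPH hg) ⟨g, rfl⟩
    have hmem : h ∈ A ⊔ B := hAB.symm ▸ hh
    rw [← SetLike.mem_coe, coe_mul_of_right_le_normalizer_left A B
      ((hAB ▸ le_sup_right : B ≤ H).trans hN)] at hmem
    obtain ⟨u, hu, v, hv, rfl⟩ := hmem
    refine ⟨u, hu, ?_⟩
    rw [← hhx]
    have := (mem_centralizer_iff.mp (hBA hv)) x hx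
    calc u * x * u⁻¹ = u * (x * v) * v⁻¹ * u⁻¹ := by group
      _ = u * (v * x) * v⁻¹ * u⁻¹ := by rw [this]
      _ = _ := by group
  let N : Subgroup G := ⨅ p : {p : ℕ // p.Prime ∧ p ∣ Nat.card H}, Cfsg.pResidual p.1 G
  have hNn : N.Normal := normal_iInf_normal fun p => inferInstance
  refine ⟨N, hNn, ?_⟩
  have hNcop : (Nat.card N).Coprime (Nat.card H) := by
    refine Nat.coprime_of_dvd fun p hp h1 h2 => ?_
    exact key p hp h2 (h1.trans (card_dvd_of_le (iInf_le _ (⟨p, hp, h2⟩ : {p : ℕ // _}))))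
  have hidx : N.index ∣ Nat.card H := by
    have hdvd : N.index ∣ Nat.card H * H.index := by
      rw [H.card_mul_index]; exact N.index_dvd_card
    refine Nat.Coprime.dvd_of_dvd_mul_right (Nat.coprime_of_dvd fun q hq h1 h2 => ?_) hdvd
    have := Fact.mk hq
    obtain ⟨z, hz⟩ := exists_prime_orderOf_dvd_card' (G := G ⧸ N) q h1
    obtain ⟨x, rfl⟩ := QuotientGroup.mk'_surjective N z
    obtain ⟨k, m, hm, hkm⟩ := Nat.exists_eq_pow_mul_and_not_dvd (orderOf_pos x).ne' q hq.ne_one
    have hx : x ^ m ∈ N := by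
      rw [Subgroup.mem_iInf]
      rintro ⟨p, hp, hpd⟩
      have hpq : q ≠ p := fun e => hq.one_lt.ne' (Nat.eq_one_of_dvd_coprimes hHall (e ▸ hpd) h2)
      refine TransferPResidual.mem_pResidual_of_coprime ?_
      have h3 : orderOf (x ^ m) ∣ q ^ k :=
        orderOf_dvd_of_pow_eq_one (by rw [← pow_mul, mul_comm, ← hkm, pow_orderOf_eq_one])
      exact (((Nat.coprime_primes hq hp).mpr hpq).pow_left k).coprime_dvd_left h3
    rw [← QuotientGroup.eq_one_iff, QuotientGroup.mk_pow] at hx
    exact hm (hz ▸ orderOf_dvd_of_pow_eq_one hx)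
  refine isComplement'_of_coprime (le_antisymm ?_ ?_) hNcop
  · exact Nat.le_of_dvd Nat.card_pos (card_mul_dvd_of_coprime hNcop)
  · rw [← N.card_mul_index]
    exact Nat.mul_le_mul_left _ (Nat.le_of_dvd Nat.card_pos hidx)
where
  card_mul_dvd_of_coprime {A B : Subgroup G} (h : (Nat.card A).Coprime (Nat.card B)) :
      Nat.card A * Nat.card B ∣ Nat.card G :=
    h.mul_dvd_of_dvd_of_dvd (card_subgroup_dvd_card A) (card_subgroup_dvd_card B)

end Cfsg.Agent.HallNilpotentConj
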