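import Mathlib
import Cfsg.Prelude.Def_Local
import Cfsg.Agent.Lib.ComponentsBasic
import Cfsg.Agent.Lib.ComponentsCores
import Cfsg.Agent.Lib.ComponentsFitting

set_option autoImplicit false
set_option linter.style.haveILetI false

namespace Cfsg.Agent.ComponentsNormalizer

open Subgroup Cfsg
open scoped commutatorElement
open Cfsg.Agent.ComponentsBasic Cfsg.Agent.ComponentsCores Cfsg.Agent.ComponentsFitting

variable {G : Type*} [Group G]

theorem commute_of_pow_conj {R : Subgroup G} {p : ℕ} (hR : IsPGroup p R) {a x z : G}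
    (hz : z ∈ R) (hcomm : a * z = z * a) (hax : a * x * a⁻¹ = x * z) {n : ℕ}
    (hn : a ^ n = 1) (hco : n.Coprime p) : z = 1 := by
  have h : ∀ k : ℕ, a ^ k * x * (a ^ k)⁻¹ = x * z ^ k := by
    intro k
    induction k with
    | zero => simp
    | succ k ih =>
      rw [pow_succ' a k]
      calc a * a ^ k * x * (a * a ^ k)⁻¹ = a * (a ^ k * x * (a ^ k)⁻¹) * a⁻¹ := by group
        _ = a * x * a⁻¹ * (a * z ^ k * a⁻¹) := by rw [ih]; group
        _ = x * z * z ^ k := by
          rw [hax, (Commute.pow_right (show Commute a z from hcomm) k).eq, mul_inv_cancel_right]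
        _ = x * z ^ (k + 1) := by rw [pow_succ', mul_assoc]
  have h2 := h n
  rw [hn] at h2
  simp at h2
  obtain ⟨k, hk⟩ := hR ⟨z, hz⟩
  have h3 : z ^ p ^ k = 1 := by simpa [Subtype.ext_iff] using hk
  have := Nat.dvd_gcd (orderOf_dvd_of_pow_eq_one h2) (orderOf_dvd_of_pow_eq_one h3)
  rwa [Nat.Coprime.gcd_eq_one (Nat.Coprime.pow_right k hco), Nat.dvd_one,
    orderOf_eq_one_iff] at this

/-- Ascending along normalisers: `A` centralises the `p`-group `R` as soon as it centralises a
subgroup `P₁` containing its own centraliser in `R`, provided either `A` is perfect or has order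
prime to `p`. -/
theorem commutator_eq_bot_of_centralizes [Finite G] {p : ℕ} [Fact p.Prime] {A R : Subgroup G}
    (hR : IsPGroup p R) (hA : ⁅A, A⁆ = A ∨ (Nat.card A).Coprime p)
    (hnorm : A ≤ normalizer (R : Set G)) {P₁ : Subgroup G} (hle : P₁ ≤ R)
    (hcen : R ⊓ centralizer (P₁ : Set G) ≤ P₁) (h : ⁅A, P₁⁆ = ⊥) : ⁅A, R⁆ = ⊥ := by
  obtain ⟨P, ⟨hP1, hP2, hP3⟩, hmax⟩ := (Set.toFinite
    {P : Subgroup G | P₁ ≤ P ∧ P ≤ R ∧ ⁅A, P⁆ = ⊥}).exists_maximal ⟨P₁, le_rfl, hle, h⟩
  suffices hPR : R ≤ P by
    rw [← le_bot_iff, ← hP3]; exact commutator_mono le_rfl hPR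
  by_contra hPR
  have hlt : P.subgroupOf R < ⊤ := lt_top_iff_ne_top.mpr fun ht => hPR (subgroupOf_eq_top.mp ht)
  haveI := hR.isNilpotent
  have hn := normalizerCondition_of_isNilpotent (P.subgroupOf R) hlt
  set P2 := R ⊓ normalizer (P : Set G) with hP2def
  have hPP2 : P ≤ P2 := le_inf hP2 le_normalizer
  have hAP : A ≤ centralizer (P : Set G) := commutator_eq_bot_iff_le_centralizer.mp hP3
  have hAP2 : A ≤ normalizer (P : Set G) := by
    rw [le_normalizer_iff_commutator_le_right, hP3]; exact bot_le
  -- `A` moves `P2` only inside `C_R(P) ≤ P`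
  have hcomm : ⁅P2, A⁆ ≤ P := by
    refine le_trans (le_inf ?_ ?_) (hcen.trans hP1)
    · exact (commutator_mono inf_le_left le_rfl).trans (commutator_le_left_of_normalizes hnorm)
    · refine le_trans ?_ (centralizer_le hP1)
      rw [← commutator_eq_bot_iff_le_centralizer]
      refine commutator_commutator_eq_bot_of_rotate ?_ ?_
      · rw [hP3, commutator_bot_left]
      · rw [← le_bot_iff]
        refine (commutator_mono (commutator_le_left_of_normalizes (inf_le_right : P2 ≤ normalizer (P : Set G))) le_rfl).trans ?_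
        rw [commutator_comm, hP3]
  have h2 : ⁅A, P2⁆ = ⊥ := by
    rcases hA with hA | hA
    · apply commutator_eq_bot_of_perfect hA
      rw [← le_bot_iff]
      refine (commutator_mono hcomm le_rfl).trans ?_
      rw [commutator_comm, hP3]
    · rw [commutator_eq_bot_iff_le_centralizer]
      intro a ha
      rw [mem_centralizer_iff]
      intro x hx
      have hz : x⁻¹ * (a * x * a⁻¹) ∈ P := by
        have := hcomm (commutator_mem_commutator (inv_mem hx) ha)
        rwa [commutatorElement_def, inv_inv, show x⁻¹ * a * x * a⁻¹ = x⁻¹ * (a * x * a⁻¹) by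
          group] at this
      have hcz : a * (x⁻¹ * (a * x * a⁻¹)) = x⁻¹ * (a * x * a⁻¹) * a :=
        (mem_centralizer_iff.mp (hAP ha) _ hz).symm
      have := commute_of_pow_conj (x := x) hR (hP2 hz) hcz (by group)
        (n := Nat.card A) (congrArg Subtype.val (pow_card_eq_one' (x := (⟨a, ha⟩ : A)))) hA
      have h4 : x⁻¹ * (a * x * a⁻¹) = 1 := this
      rw [inv_mul_eq_one, eq_mul_inv_iff_mul_eq] at h4
      exact h4
  have h3 : P2 ≤ P := hmax ⟨hP1.trans hPP2, inf_le_left, h2⟩ hPP2
  obtain ⟨x, hx, hxn⟩ := SetLike.exists_of_lt hn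
  refine hxn (mem_subgroupOf.mpr (h3 ⟨x.2, mem_normalizer_iff.mpr fun y => ?_⟩))
  rw [mem_normalizer_iff] at hx
  constructor
  · intro hy
    exact mem_subgroupOf.mp ((hx ⟨y, hP2 hy⟩).mp (mem_subgroupOf.mpr hy))
  · intro hy
    have h5 : y ∈ R := by
      have := R.mul_mem (R.mul_mem (R.inv_mem x.2) (hP2 hy)) x.2
      simpa [mul_assoc] using this
    exact mem_subgroupOf.mp ((hx ⟨y, h5⟩).mpr (mem_subgroupOf.mpr hy))

/-- `N_G(P)`-version: a perfect or `p'`-subgroup of `N(P)` centralising `P` and `Q ⊓ N(P)`, for a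
normal `p`-subgroup `Q`, centralises `Q`. -/
theorem le_centralizer_pCore [Finite G] {p : ℕ} [Fact p.Prime] {A P : Subgroup G}
    (hP : IsPGroup p P) (hA : ⁅A, A⁆ = A ∨ (Nat.card A).Coprime p)
    (hAN : A ≤ normalizer (P : Set G))
    (h1 : ⁅A, P⁆ = ⊥) (h2 : ⁅A, pCore p G ⊓ normalizer (P : Set G)⁆ = ⊥) :
    A ≤ centralizer (pCore p G : Set G) := by
  rw [← commutator_eq_bot_iff_le_centralizer]
  set Q := pCore p G
  set R := P ⊔ Q
  have hR : IsPGroup p R := hP.to_sup_of_normal_right (isPGroup_pCore p)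
  have hnorm : A ≤ normalizer (R : Set G) := by
    rw [le_normalizer_iff_commutator_le_right]
    intro x hx
    have h3 : ⁅A, R⁆ ≤ R := by
      rw [commutator_le]
      intro a ha r hr
      obtain ⟨y, hy, z, hz, rfl⟩ := mem_sup_of_normal_right.mp hr
      rw [commutatorElement_mul_right_eq_mul_conj]
      have e1 : ⁅a, y⁆ = 1 := mem_bot.mp (h1 ▸ commutator_mem_commutator ha hy)
      have e2 : ⁅a, z⁆ ∈ Q := commutator_le_right A Q (commutator_mem_commutator ha hz)
      rw [e1, one_mul]
      exact mul_mem (mul_mem (mem_sup_left hy) (mem_sup_right e2)) (inv_mem (mem_sup_left hy))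
    exact h3 hx
  have hP1 : ⁅A, R ⊓ normalizer (P : Set G)⁆ = ⊥ := by
    rw [← le_bot_iff, commutator_le]
    intro a ha r hr
    obtain ⟨hr, hrn⟩ := hr
    obtain ⟨y, hy, z, hz, rfl⟩ := mem_sup_of_normal_right.mp hr
    rw [commutatorElement_mul_right_eq_mul_conj]
    have e1 : ⁅a, y⁆ = 1 := mem_bot.mp (h1 ▸ commutator_mem_commutator ha hy)
    have e3 : z ∈ normalizer (P : Set G) := by
      simpa using mul_mem (inv_mem (le_normalizer hy)) hrn
    have e2 : ⁅a, z⁆ = 1 := mem_bot.mp (h2 ▸ commutator_mem_commutator ha ⟨hz, e3⟩)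
    simp [e1, e2]
  have h := commutator_eq_bot_of_centralizes hR hA hnorm (P₁ := R ⊓ normalizer (P : Set G))
    inf_le_left ?_ hP1
  · rw [← le_bot_iff, ← h]; exact commutator_mono le_rfl le_sup_right
  · refine le_inf inf_le_left ?_
    refine inf_le_right.trans ((centralizer_le (?_ : P ≤ R ⊓ normalizer (P : Set G))).trans ?_)
    · exact le_inf le_sup_left le_normalizer
    · exact centralizer_le_normalizer _

/-- A component of `N_G(P)` centralises `P` and `O_p(G)`. -/
theorem component_normalizer_le_centralizer_pCore [Finite G] {p : ℕ} [Fact p.Prime]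
    {P : Subgroup G} (hP : IsPGroup p P) {L : Subgroup ↥(normalizer (P : Set G))}
    (hL : IsComponent L) :
    L.map (normalizer (P : Set G)).subtype ≤ centralizer (pCore p G : Set G) := by
  have key : ∀ T : Subgroup G, T ≤ normalizer (P : Set G) → IsPGroup p T →
      (T.subgroupOf (normalizer (P : Set G))).Normal →
      ⁅L.map (normalizer (P : Set G)).subtype, T⁆ = ⊥ := by
    intro T hT hTp hTn
    haveI : Group.IsNilpotent (T.subgroupOf (normalizer (P : Set G))) :=
      (IsPGroup.of_equiv hTp (subgroupOfEquivOfLe hT).symm).isNilpotent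
    conv_lhs => rw [← map_subgroupOf_eq_of_le hT]
    rw [← map_commutator, component_commute_solvable hL hTn.isSubnormal, Subgroup.map_bot]
  refine le_centralizer_pCore hP (.inl ?_) (map_subtype_le _)
    (key P le_normalizer hP normal_in_normalizer)
    (key _ inf_le_right ((isPGroup_pCore p).to_le inf_le_left) ?_)
  · rw [← map_commutator, IsComponent.perfect hL]
  · rw [inf_subgroupOf_right]; infer_instance

/-- `E(N_G(P)) = E(G)` for `P ≤ O_p(G)`. -/
theorem layer_normalizer_eq [Finite G] {p : ℕ} [Fact p.Prime] {P : Subgroup G}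
    (hP : P ≤ pCore p G) :
    (layer ↥(normalizer (P : Set G))).map (normalizer (P : Set G)).subtype = layer G := by
  set N := normalizer (P : Set G)
  set C := centralizer (pCore p G : Set G)
  haveI : C.Normal := inferInstance
  have hCN : C ≤ N := (centralizer_le hP).trans (centralizer_le_normalizer _)
  have hcomp : ∀ {L : Subgroup G}, IsComponent L → L ≤ C := fun {L} hL =>
    commutator_eq_bot_iff_le_centralizer.mp
      (haveI : Group.IsNilpotent (pCore p G) := (isPGroup_pCore p).isNilpotent
       component_commute_solvable hL (Normal.isSubnormal inferInstance))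
  apply le_antisymm
  · rw [map_le_iff_le_comap]
    refine sSup_le fun L hL => ?_
    rw [← map_le_iff_le_comap]
    have hle : L.map N.subtype ≤ C :=
      component_normalizer_le_centralizer_pCore ((isPGroup_pCore p).to_le hP) hL
    apply component_le_layer
    refine (isComponent_subgroupOf_iff (Normal.isSubnormal inferInstance) hle).mp ?_
    -- inside `C`
    have h1 : IsComponent (L.comap (inclusion hCN)) := by
      have h2 : (L.comap (inclusion hCN)).map (inclusion hCN) = L := by
        apply map_comap_eq_self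
        intro x hx
        exact ⟨⟨x, hle (mem_map_of_mem _ hx)⟩, rfl⟩
      refine ⟨hL.1.comap _, isQuasisimple_of_mulEquiv ?_ hL.2⟩
      exact ((MulEquiv.subgroupCongr h2.symm).trans
        ((L.comap (inclusion hCN)).equivMapOfInjective _ (inclusion_injective hCN)).symm)
    convert h1 using 1
    ext x
    exact ⟨fun ⟨y, hy, hxy⟩ => mem_comap.mpr (by
      rwa [show inclusion hCN x = y from Subtype.ext hxy.symm]), fun h => ⟨_, h, rfl⟩⟩
  · refine sSup_le fun L hL => ?_
    have hLN := (hcomp hL).trans hCN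
    rw [← map_subgroupOf_eq_of_le hLN]
    exact map_mono (component_le_layer (isComponent_subgroupOf hL hLN))

end Cfsg.Agent.ComponentsNormalizer
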