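import Mathlib
import Cfsg.Prelude.Def_Local
import Cfsg.Agent.Lib.ComponentsBasic
import Cfsg.Agent.Lib.ComponentsCores
import Cfsg.Agent.Lib.ComponentsFitting
import Cfsg.Agent.Lib.HallCore

set_option autoImplicit false
set_option linter.style.haveILetI false

namespace Cfsg.Agent.ComponentsP

open Subgroup Cfsg
open Cfsg.Agent.ComponentsBasic Cfsg.Agent.ComponentsCores Cfsg.Agent.ComponentsFitting

variable {G : Type*} [Group G] {G' : Type*} [Group G'] {p : ℕ}

/-! ### The subgroup generated by the `p`-elements of a subgroup -/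

/-- The subgroup generated by the elements of `p`-power order lying in `W`. -/
def pGen (p : ℕ) (W : Subgroup G) : Subgroup G :=
  Subgroup.closure {x | x ∈ W ∧ ∃ k, orderOf x = p ^ k}

theorem pGen_le (W : Subgroup G) : pGen p W ≤ W := (closure_le _).mpr fun _ hx => hx.1

theorem mem_pGen {W : Subgroup G} {x : G} (hx : x ∈ W) {k : ℕ} (hk : orderOf x = p ^ k) :
    x ∈ pGen p W := subset_closure ⟨hx, k, hk⟩

theorem pGen_mono {W W' : Subgroup G} (h : W ≤ W') : pGen p W ≤ pGen p W' :=
  closure_mono fun _ hx => ⟨h hx.1, hx.2⟩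

theorem pGen_map_mulEquiv (e : G ≃* G') (W : Subgroup G) :
    (pGen p W).map e.toMonoidHom = pGen p (W.map e.toMonoidHom) := by
  rw [pGen, MonoidHom.map_closure]
  congr 1
  ext y
  constructor
  · rintro ⟨x, ⟨hx, hk⟩, rfl⟩
    exact ⟨mem_map_of_mem _ hx, by simpa using hk⟩
  · rintro ⟨⟨x, hx, rfl⟩, hk⟩
    exact ⟨x, ⟨hx, by simpa using hk⟩, rfl⟩

theorem normalizer_le_normalizer_pGen (W : Subgroup G) :
    normalizer (W : Set G) ≤ normalizer (pGen p W : Set G) := by
  have key : ∀ g ∈ normalizer (W : Set G), ∀ x ∈ pGen p W, g * x * g⁻¹ ∈ pGen p W := by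
    intro g hg x hx
    have h2 : pGen p W ≤ (pGen p W).comap (MulAut.conj g).toMonoidHom := by
      refine (closure_le _).mpr fun y hy => mem_comap.mpr (subset_closure ⟨?_, ?_⟩)
      · simpa using (mem_normalizer_iff.mp hg y).mp hy.1
      · obtain ⟨k, hk⟩ := hy.2
        exact ⟨k, (orderOf_injective (MulAut.conj g).toMonoidHom (MulAut.conj g).injective y).trans hk⟩
    simpa using h2 hx
  intro g hg
  rw [mem_normalizer_iff]
  refine fun x => ⟨key g hg x, fun hx => ?_⟩
  simpa [mul_assoc] using key g⁻¹ (inv_mem hg) _ hx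

theorem isSubnormal_pGen {W : Subgroup G} (hW : W.IsSubnormal) : (pGen p W).IsSubnormal :=
  isSubnormal_of_le_normalizer (pGen_le W) hW
    (le_normalizer.trans (normalizer_le_normalizer_pGen W))

theorem relIndex_normal_pow_eq_one [Finite G] {H K : Subgroup G} (hN : (H.subgroupOf K).Normal)
    (hco : (H.relIndex K).Coprime p) {x : G} {k : ℕ} (hx : x ∈ K) (hk : orderOf x = p ^ k) :
    x ∈ H := by
  haveI := hN
  have h1 : orderOf (QuotientGroup.mk' (H.subgroupOf K) ⟨x, hx⟩) ∣ p ^ k := by
    rw [← hk, ← orderOf_mk x hx]; exact orderOf_map_dvd _ _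
  have h2 : orderOf (QuotientGroup.mk' (H.subgroupOf K) ⟨x, hx⟩) ∣ H.relIndex K :=
    orderOf_dvd_natCard _
  have := Nat.dvd_gcd h2 h1
  rw [Nat.Coprime.gcd_eq_one (hco.pow_right k), Nat.dvd_one, orderOf_eq_one_iff] at this
  exact mem_subgroupOf.mp ((QuotientGroup.eq_one_iff _).mp this)

/-- A subnormal subgroup of index prime to `p` contains all elements of `p`-power order. -/
theorem mem_of_index_coprime [Finite G] {H : Subgroup G} (hH : H.IsSubnormal)
    (hco : H.index.Coprime p) {x : G} {k : ℕ} (hk : orderOf x = p ^ k) : x ∈ H := by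
  induction hH with
  | top => trivial
  | step H K h_le hSubn hN ih =>
    rw [← relIndex_mul_index h_le, Nat.coprime_mul_iff_left] at hco
    exact relIndex_normal_pow_eq_one hN hco.1 (ih hco.2) hk

theorem relIndex_sup_normal (H N : Subgroup G) [N.Normal] [Finite G] :
    H.relIndex (H ⊔ N) ∣ Nat.card N := by
  have h1 : Nat.card ↥(H ⊔ N) ∣ Nat.card H * Nat.card N := HallCore.card_sup_dvd H N
  rw [← HallCore.card_mul_relIndex (le_sup_left : H ≤ H ⊔ N)] at h1
  exact (Nat.mul_dvd_mul_iff_left Nat.card_pos).mp h1

/-- A subnormal subgroup covering `W` modulo a normal subgroup of order prime to `p` contains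
all its elements of `p`-power order. -/
theorem pGen_le_of_le_sup [Finite G] {H W N : Subgroup G} [N.Normal]
    (hN : (Nat.card N).Coprime p) (hH : H.IsSubnormal) (hW : W ≤ H ⊔ N) : pGen p W ≤ H := by
  refine (closure_le _).mpr fun x hx => ?_
  obtain ⟨k, hk⟩ := hx.2
  have hco : (H.subgroupOf (H ⊔ N)).index.Coprime p :=
    hN.coprime_dvd_left (relIndex_sup_normal H N)
  exact mem_subgroupOf.mp
    (mem_of_index_coprime hH.subgroupOf hco (x := ⟨x, hW hx.1⟩) (by rw [orderOf_mk]; exact hk))

/-- Every element of prime power order of a quotient lifts to one, up to powers. -/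
theorem map_pGen [Finite G] [Fact p.Prime] {f : G →* G'} (W : Subgroup G) :
    (pGen p W).map f = pGen p (W.map f) := by
  apply le_antisymm
  · rw [map_le_iff_le_comap]
    refine (closure_le _).mpr fun x hx => mem_comap.mpr ?_
    obtain ⟨k, hk⟩ := hx.2
    obtain ⟨j, -, hj⟩ := (Nat.dvd_prime_pow Fact.out).mp (hk ▸ orderOf_map_dvd f x)
    exact mem_pGen (mem_map_of_mem f hx.1) hj
  · refine (closure_le _).mpr ?_
    rintro y ⟨⟨x, hx, rfl⟩, k, hk⟩
    set n := orderOf x
    have hn : n ≠ 0 := (orderOf_pos x).ne'
    set b := n.factorization p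
    set m := n / p ^ b
    have hm : p ^ b * m = n := Nat.ordProj_mul_ordCompl_eq_self n p
    have hord : orderOf (x ^ m) = p ^ b := by
      rw [orderOf_pow, show orderOf x = p ^ b * m from hm.symm, Nat.gcd_mul_left_left, Nat.mul_div_cancel]
      exact Nat.pos_of_ne_zero fun h => hn (by rw [← hm, h, mul_zero])
    have h1 : f x ^ m ∈ (pGen p W).map f := by
      rw [← map_pow]; exact mem_map_of_mem f (mem_pGen (pow_mem hx m) hord)
    have hco : (orderOf (f x)).Coprime m := by
      rw [hk]; exact (Nat.coprime_ordCompl Fact.out hn).pow_left k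
    obtain ⟨j, hj⟩ := exists_pow_eq_self_of_coprime hco.symm
    rw [SetLike.mem_coe, ← hj]
    exact pow_mem h1 j

/-! ### Components of a group with trivial `p'`-core -/

theorem center_prime_dvd_index {L : Type*} [Group L] [Finite L] (hL : IsQuasisimple L)
    {q : ℕ} (hq : q.Prime) (hdiv : q ∣ Nat.card (center L)) : q ∣ (center L).index := by
  haveI := Fact.mk hq
  haveI := hL.1
  obtain ⟨z, hz⟩ := exists_prime_orderOf_dvd_card' q hdiv
  have hker : commutator L ≤ (MonoidHom.transferCenterPow L).ker := by
    rw [commutator_def, commutator_le]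
    intro a _ b _
    rw [MonoidHom.mem_ker, map_commutatorElement]
    exact commutatorElement_eq_one_iff_mul_comm.mpr
      (Subtype.ext (mem_center_iff.mp (MonoidHom.transferCenterPow L b).2 _))
  have h1 := congrArg Subtype.val (MonoidHom.mem_ker.mp (hker (Group.IsPerfect.mem_commutator (g := (z : L)))))
  have h2 : (z : L) ^ (center L).index = 1 := by simpa using h1
  rw [← hz, ← orderOf_coe]
  exact orderOf_dvd_of_pow_eq_one h2

theorem component_dvd_card [Finite G] [Fact p.Prime] (h : pPrimeCore p G = ⊥) {L : Subgroup G}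
    (hL : IsComponent L) : p ∣ Nat.card L := by
  by_contra hp
  exact IsComponent.ne_bot hL (le_bot_iff.mp (h ▸ subnormal_coprime_le_pPrimeCore hL.1
    (((Fact.out : p.Prime).coprime_iff_not_dvd.mpr hp).symm)))

theorem component_dvd_index_center [Finite G] [Fact p.Prime] (h : pPrimeCore p G = ⊥)
    {L : Subgroup G} (hL : IsComponent L) : p ∣ (center L).index := by
  by_contra hp
  have h1 := component_dvd_card h hL
  rw [← card_mul_index (center L)] at h1
  rcases (Fact.out : p.Prime).dvd_mul.mp h1 with h2 | h2
  · exact hp (center_prime_dvd_index hL.2 Fact.out h2)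
  · exact hp h2

/-- A component of a group with trivial `p'`-core has no proper normal subgroup of index prime
to `p`. -/
theorem component_eq_top_of_coprime_index [Finite G] [Fact p.Prime] (h : pPrimeCore p G = ⊥)
    {L : Subgroup G} (hL : IsComponent L) {M : Subgroup L} [M.Normal]
    (hM : M.index.Coprime p) : M = ⊤ := by
  rcases normal_le_center_or_eq_top hL.2 M with h1 | h1
  · have := hM.coprime_dvd_left ((component_dvd_index_center h hL).trans (index_dvd_of_le h1))
    exact absurd (Nat.coprime_self p |>.mp this) (Fact.out : p.Prime).ne_one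
  · exact h1

/-- A component of a group with trivial `p'`-core is generated by its `p`-elements. -/
theorem pGen_component [Finite G] [Fact p.Prime] (h : pPrimeCore p G = ⊥) {L : Subgroup G}
    (hL : IsComponent L) : pGen p L = L := by
  haveI : ((pGen p L).subgroupOf L).Normal :=
    normal_subgroupOf_of_le_normalizer (le_normalizer.trans (normalizer_le_normalizer_pGen L))
  have hco : ((pGen p L).subgroupOf L).index.Coprime p := by
    refine ((Fact.out : p.Prime).coprime_iff_not_dvd.mpr fun hd => ?_).symm
    obtain ⟨P⟩ := (inferInstance : Nonempty (Sylow p L))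
    refine P.not_dvd_index (hd.trans (index_dvd_of_le fun x hx => ?_))
    obtain ⟨k, hk⟩ := (IsPGroup.iff_orderOf.mp P.2) ⟨x, hx⟩
    rw [orderOf_mk] at hk
    exact mem_subgroupOf.mpr (mem_pGen x.2 (by rwa [orderOf_coe]))
  exact le_antisymm (pGen_le L) (subgroupOf_eq_top.mp (component_eq_top_of_coprime_index h hL hco))

/-! ### p-components -/

/-- The reduction map modulo the `p'`-core. -/
abbrev bar (p : ℕ) (G : Type*) [Group G] : G →* G ⧸ pPrimeCore p G :=
  QuotientGroup.mk' (pPrimeCore p G)

theorem bar_surjective : Function.Surjective (bar p G) := QuotientGroup.mk'_surjective _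

theorem ker_bar : (bar p G).ker = pPrimeCore p G := QuotientGroup.ker_mk' _

theorem map_bar_eq_bot_iff {H : Subgroup G} : H.map (bar p G) = ⊥ ↔ H ≤ pPrimeCore p G := by
  rw [Subgroup.map_eq_bot_iff, ker_bar]

/-- The `p`-component belonging to a component of the quotient by the `p'`-core. -/
def pComponentOf (p : ℕ) (C : Subgroup (G ⧸ pPrimeCore p G)) : Subgroup G :=
  pGen p (C.comap (bar p G))

section
variable [Finite G] [Fact p.Prime]

theorem map_pComponentOf {C : Subgroup (G ⧸ pPrimeCore p G)} (hC : IsComponent C) :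
    (pComponentOf p C).map (bar p G) = C := by
  rw [pComponentOf, map_pGen, map_comap_eq_self_of_surjective bar_surjective,
    pGen_component (HallCore.pPrimeCore_quotient_self p G) hC]

theorem isSubnormal_pComponentOf {C : Subgroup (G ⧸ pPrimeCore p G)} (hC : IsComponent C) :
    (pComponentOf p C).IsSubnormal :=
  isSubnormal_pGen (hC.1.comap _)

theorem pComponentOf_le {C : Subgroup (G ⧸ pPrimeCore p G)} {H : Subgroup G}
    (hH : H.IsSubnormal) (h : C ≤ H.map (bar p G)) : pComponentOf p C ≤ H := by
  refine pGen_le_of_le_sup (pPrimeCore_coprime p) hH ?_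
  refine (comap_mono h).trans ?_
  rw [comap_map_eq, ker_bar]

theorem isPComponent_pComponentOf {C : Subgroup (G ⧸ pPrimeCore p G)} (hC : IsComponent C) :
    IsPComponent p (pComponentOf p C) := by
  refine ⟨isSubnormal_pComponentOf hC, by rw [map_pComponentOf hC]; exact hC, fun H hH hle he => ?_⟩
  rw [map_pComponentOf hC] at he
  exact le_antisymm hle (pComponentOf_le hH he.ge)

theorem isPComponent_eq {K : Subgroup G} (hK : IsPComponent p K) :
    K = pComponentOf p (K.map (bar p G)) :=
  (hK.2.2 _ (isSubnormal_pComponentOf hK.2.1) (pComponentOf_le hK.1 le_rfl)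
    (map_pComponentOf hK.2.1)).symm

/-- The characterisation of `p`-components. -/
theorem isPComponent_iff {K : Subgroup G} : IsPComponent p K ↔
    ∃ C : Subgroup (G ⧸ pPrimeCore p G), IsComponent C ∧ K = pComponentOf p C :=
  ⟨fun h => ⟨_, h.2.1, isPComponent_eq h⟩,
    fun ⟨_, hC, h⟩ => h ▸ isPComponent_pComponentOf hC⟩

theorem isPComponent_ext {K L : Subgroup G} (hK : IsPComponent p K) (hL : IsPComponent p L)
    (h : K.map (bar p G) = L.map (bar p G)) : K = L := by
  rw [isPComponent_eq hK, isPComponent_eq hL, h]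

theorem isPComponent_le_of_subnormal {K H : Subgroup G} (hK : IsPComponent p K)
    (hH : H.IsSubnormal) (h : K.map (bar p G) ≤ H.map (bar p G)) : K ≤ H := by
  rw [isPComponent_eq hK]
  exact pComponentOf_le hH h

/-- A `p`-component is generated by its elements of `p`-power order. -/
theorem pGen_pComponent {K : Subgroup G} (hK : IsPComponent p K) : pGen p K = K := by
  refine le_antisymm (pGen_le K) ?_
  refine le_trans ?_ (le_of_eq rfl)
  have h : pComponentOf p (K.map (bar p G)) ≤ pGen p K := by
    refine pComponentOf_le (isSubnormal_pGen hK.1) ?_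
    rw [map_pGen, pGen_component (HallCore.pPrimeCore_quotient_self p G) hK.2.1]
  rwa [← isPComponent_eq hK] at h

theorem isPComponent_perfect {K : Subgroup G} (hK : IsPComponent p K) : ⁅K, K⁆ = K :=
  hK.2.2 _ (isSubnormal_of_le_normalizer (commutator_le_self K) hK.1
    (le_normalizer_iff_commutator_le_left.mpr (commutator_mono (commutator_le_self K) le_rfl)))
    (commutator_le_self K) (by rw [map_commutator, IsComponent.perfect hK.2.1])

theorem isPComponent_ne_bot {K : Subgroup G} (hK : IsPComponent p K) : K ≠ ⊥ := by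
  intro h
  exact IsComponent.ne_bot hK.2.1 (by rw [h, Subgroup.map_bot])

theorem isPComponent_not_le_core {K : Subgroup G} (hK : IsPComponent p K) :
    ¬ K ≤ pPrimeCore p G :=
  fun h => IsComponent.ne_bot hK.2.1 (map_bar_eq_bot_iff.mpr h)

theorem isPComponent_dvd_card {K : Subgroup G} (hK : IsPComponent p K) : p ∣ Nat.card K := by
  by_contra hp
  exact isPComponent_not_le_core hK (subnormal_coprime_le_pPrimeCore hK.1
    (((Fact.out : p.Prime).coprime_iff_not_dvd.mpr hp).symm))

/-- A subnormal subgroup of index prime to `p` in a `p`-component is everything. -/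
theorem pComponent_eq_top_of_coprime {K : Subgroup G} (hK : IsPComponent p K) {N : Subgroup K}
    (hN : N.IsSubnormal) (hco : N.index.Coprime p) : N = ⊤ := by
  have h : pGen p K ≤ N.map K.subtype := by
    refine (closure_le _).mpr fun x hx => ?_
    obtain ⟨k, hk⟩ := hx.2
    exact ⟨⟨x, hx.1⟩, mem_of_index_coprime hN hco (by rw [orderOf_mk]; exact hk), rfl⟩
  rw [pGen_pComponent hK] at h
  rw [eq_top_iff]
  intro x _
  obtain ⟨y, hy, hxy⟩ := h x.2
  rwa [← K.subtype_injective hxy]

theorem normalizer_le_normalizer_pComponent {K : Subgroup G} (hK : IsPComponent p K) :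
    (normalizer ((K.map (bar p G) : Subgroup _) : Set (G ⧸ pPrimeCore p G))).comap (bar p G) ≤
      normalizer (K : Set G) := by
  conv_rhs => rw [isPComponent_eq hK]
  exact (le_normalizer_comap _).trans (normalizer_le_normalizer_pGen _)

theorem pComponent_le_normalizer {K L : Subgroup G} (hK : IsPComponent p K)
    (hL : IsPComponent p L) : K ≤ normalizer (L : Set G) :=
  (le_comap_map (bar p G) K).trans
    ((comap_mono (component_le_normalizer hK.2.1 hL.2.1)).trans
      (normalizer_le_normalizer_pComponent hL))

theorem pPrimeCore_le_normalizer_pComponent {K : Subgroup G} (hK : IsPComponent p K) :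
    pPrimeCore p G ≤ normalizer (K : Set G) := by
  refine le_trans ?_ (normalizer_le_normalizer_pComponent hK)
  intro x hx
  rw [mem_comap, show bar p G x = 1 from (QuotientGroup.eq_one_iff x).mpr hx]
  exact one_mem _

theorem commutator_pComponent_core_le {K : Subgroup G} (hK : IsPComponent p K) :
    ⁅K, pPrimeCore p G⁆ ≤ K ⊓ pPrimeCore p G :=
  le_inf (commutator_le_left_of_normalizes (pPrimeCore_le_normalizer_pComponent hK))
    (commutator_le_right _ _)

/-- `O_{p'}(K) = K ⊓ O_{p'}(G)`. -/
theorem pPrimeCore_pComponent {K : Subgroup G} (hK : IsPComponent p K) :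
    (pPrimeCore p K).map K.subtype = K ⊓ pPrimeCore p G := by
  rw [pPrimeCore_map_subtype_eq hK.1, inf_comm]

theorem pComponent_le_pLayer {K : Subgroup G} (hK : IsPComponent p K) : K ≤ pLayer p G :=
  le_sSup hK

theorem pLayer_le_normalizer {K : Subgroup G} (hK : IsPComponent p K) :
    pLayer p G ≤ normalizer (K : Set G) :=
  sSup_le fun _ hL => pComponent_le_normalizer hL hK

theorem pComponent_normal_in_pLayer {K : Subgroup G} (hK : IsPComponent p K) :
    (K.subgroupOf (pLayer p G)).Normal :=
  normal_subgroupOf_of_le_normalizer (pLayer_le_normalizer hK)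

theorem pLayer_perfect : ⁅pLayer p G, pLayer p G⁆ = pLayer p G :=
  isPerfect_sSup _ fun _ hK => isPComponent_perfect hK

theorem pLayer_map_bar : (pLayer p G).map (bar p G) = layer (G ⧸ pPrimeCore p G) := by
  apply le_antisymm
  · rw [map_le_iff_le_comap]
    refine sSup_le fun K hK => ?_
    rw [← map_le_iff_le_comap]
    exact component_le_layer hK.2.1
  · refine sSup_le fun C hC => ?_
    rw [← map_pComponentOf hC]
    exact map_mono (pComponent_le_pLayer (isPComponent_pComponentOf hC))

theorem pLayer_eq_bot_iff : pLayer p G = ⊥ ↔ layer (G ⧸ pPrimeCore p G) = ⊥ := by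
  refine ⟨fun h => by rw [← pLayer_map_bar, h, Subgroup.map_bot], fun h => ?_⟩
  refine sSup_eq_bot.mpr fun K hK => absurd ?_ (IsComponent.ne_bot hK.2.1)
  exact le_bot_iff.mp (h ▸ component_le_layer hK.2.1)

/-- Distinct `p`-components commute modulo the `p'`-core. -/
theorem pComponents_commutator_le {K L : Subgroup G} (hK : IsPComponent p K)
    (hL : IsPComponent p L) (hne : K ≠ L) : ⁅K, L⁆ ≤ pPrimeCore p G := by
  rw [← map_bar_eq_bot_iff, map_commutator]
  exact components_commute hK.2.1 hL.2.1 fun h => hne (isPComponent_ext hK hL h)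

theorem pComponents_commutator_le_inf {K L : Subgroup G} (hK : IsPComponent p K)
    (hL : IsPComponent p L) (hne : K ≠ L) : ⁅K, L⁆ ≤ K ⊓ L ⊓ pPrimeCore p G :=
  le_inf (le_inf (commutator_le_left_of_normalizes (pComponent_le_normalizer hL hK))
    (le_normalizer_iff_commutator_le_right.mp (pComponent_le_normalizer hK hL)))
    (pComponents_commutator_le hK hL hne)

/-- A `p`-component is contained in a subnormal subgroup or commutes with it modulo the
`p'`-core. -/
theorem pComponent_le_or_commutator_le {K H : Subgroup G} (hK : IsPComponent p K)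
    (hH : H.IsSubnormal) : K ≤ H ∨ ⁅K, H⁆ ≤ pPrimeCore p G := by
  rcases component_le_or_commute hK.2.1 (hH.map bar_surjective) with h | h
  · exact .inl (isPComponent_le_of_subnormal hK hH h)
  · right
    rw [← map_bar_eq_bot_iff, map_commutator]
    exact h

/-- A component with order divisible by `p` is a `p`-component. -/
theorem isPComponent_of_component {L : Subgroup G} (hL : IsComponent L)
    (hne : ¬ L ≤ pPrimeCore p G) : IsPComponent p L := by
  refine ⟨hL.1, ⟨hL.1.map bar_surjective, ?_⟩, fun H hH hle he => ?_⟩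
  · haveI : Nontrivial ↥(L.map (bar p G)) :=
      (nontrivial_iff_ne_bot _).mpr fun h => hne (map_bar_eq_bot_iff.mp h)
    exact isQuasisimple_of_surjective _ ((bar p G).subgroupMap_surjective L) hL.2
  · rcases isSubnormal_le_center_or_eq_top hL.2 (hH.subgroupOf (K := L)) with h | h
    · exfalso
      have h2 : ⁅H, L⁆ = ⊥ := by
        rw [commutator_eq_bot_iff_le_centralizer]
        have h3 := map_mono (f := L.subtype) h
        rw [map_subgroupOf_eq_of_le hle, map_center_subtype] at h3
        exact h3.trans inf_le_right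
      have h4 := congrArg (map (bar p G)) h2
      rw [map_commutator, he, ← map_commutator, IsComponent.perfect hL, Subgroup.map_bot] at h4
      exact hne (map_bar_eq_bot_iff.mp h4)
    · exact le_antisymm hle (subgroupOf_eq_top.mp h)

theorem isPComponent_of_component_dvd {L : Subgroup G} (hL : IsComponent L)
    (hp : p ∣ Nat.card L) : IsPComponent p L := by
  refine isPComponent_of_component hL fun h => ?_
  have := (pPrimeCore_coprime p).coprime_dvd_left (hp.trans (card_dvd_of_le h))
  exact (Fact.out : p.Prime).ne_one (Nat.coprime_self p |>.mp this)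

/-- A `p`-component is quasisimple iff it commutes with its own `p'`-core. -/
theorem isQuasisimple_pComponent_iff {K : Subgroup G} (hK : IsPComponent p K) :
    IsQuasisimple K ↔ ⁅K, K ⊓ pPrimeCore p G⁆ = ⊥ := by
  constructor
  · intro h
    refine (component_le_or_commute (⟨hK.1, h⟩ : IsComponent K)
      (hK.1.inf (Normal.isSubnormal inferInstance))).resolve_left fun hle => ?_
    exact isPComponent_not_le_core hK (hle.trans inf_le_right)
  · intro h
    have hperf := isPComponent_perfect hK
    refine isQuasisimple_of_normal_le_center (isPerfect_iff.mpr hperf)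
      ((nontrivial_iff_ne_bot K).mpr (isPComponent_ne_bot hK)) fun N hN => ?_
    have hsn : (N.map K.subtype).IsSubnormal := isSubnormal_map_subtype hK.1 hN.isSubnormal
    rcases component_le_or_commute hK.2.1 (hsn.map bar_surjective) with h1 | h1
    · right
      have h2 := isPComponent_le_of_subnormal hK hsn h1
      rw [eq_top_iff]
      intro x _
      obtain ⟨y, hy, hxy⟩ := h2 x.2
      rwa [← K.subtype_injective hxy]
    · left
      rw [← map_commutator, map_bar_eq_bot_iff] at h1
      have h2 : ⁅K, N.map K.subtype⁆ = ⊥ := by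
        apply commutator_eq_bot_of_perfect hperf
        rw [← le_bot_iff, ← h, commutator_comm K (K ⊓ pPrimeCore p G)]
        refine commutator_mono (le_inf ?_ ?_) le_rfl
        · exact (commutator_mono (map_subtype_le N) le_rfl).trans (commutator_le_self K)
        · rwa [commutator_comm]
      intro x hx
      rw [mem_center_iff]
      intro y
      have h3 := commutator_eq_bot_iff_le_centralizer.mp h2 y.2
      exact Subtype.ext (mem_centralizer_iff.mp h3 x (mem_map_of_mem _ hx)).symm

/-- `S1275`-type statement: `K / O_{p'}(K)` is quasisimple. -/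
theorem quotient_pPrimeCore_isQuasisimple {K : Subgroup G} (hK : IsPComponent p K) :
    IsQuasisimple (↥K ⧸ pPrimeCore p K) := by
  set φ := (bar p G).subgroupMap K
  have hker : φ.ker = pPrimeCore p K := by
    apply map_injective K.subtype_injective
    rw [pPrimeCore_pComponent hK]
    ext x
    constructor
    · rintro ⟨y, hy, rfl⟩
      exact ⟨y.2, (QuotientGroup.eq_one_iff _).mp (congrArg Subtype.val hy)⟩
    · rintro ⟨hx, hO⟩
      exact ⟨⟨x, hx⟩, Subtype.ext ((QuotientGroup.eq_one_iff x).mpr hO), rfl⟩
  have e := (QuotientGroup.quotientMulEquivOfEq hker.symm).trans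
    (QuotientGroup.quotientKerEquivOfSurjective φ ((bar p G).subgroupMap_surjective K))
  exact isQuasisimple_of_mulEquiv e.symm hK.2.1.2

/-- For a `p`-component: `[K, O_{p'}(G)] = 1` iff quasisimple iff component, provided that
subnormal subgroups of the `p'`-core containing a component are excluded. -/
theorem isQuasisimple_pComponent_iff_core {K : Subgroup G} (hK : IsPComponent p K) :
    IsQuasisimple K ↔ ⁅K, pPrimeCore p G⁆ = ⊥ := by
  refine ⟨fun h => ?_, fun h => (isQuasisimple_pComponent_iff hK).mpr ?_⟩
  · exact (component_le_or_commute (⟨hK.1, h⟩ : IsComponent K)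
      (Normal.isSubnormal inferInstance)).resolve_left (isPComponent_not_le_core hK)
  · rw [← le_bot_iff, ← h]
    exact commutator_mono le_rfl inf_le_right

theorem quasisimple_pComponent_commute {K L : Subgroup G} (hK : IsPComponent p K)
    (hL : IsPComponent p L) (hne : K ≠ L) (hq : IsQuasisimple K) : ⁅K, L⁆ = ⊥ := by
  refine (component_le_or_commute (⟨hK.1, hq⟩ : IsComponent K) hL.1).resolve_left fun h => ?_
  refine hne (isPComponent_ext hK hL ?_)
  exact component_eq_of_le hK.2.1 hL.2.1 (map_mono h)

/-- With a trivial `p'`-core, the `p`-components are exactly the components. -/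
theorem isPComponent_iff_of_bot (h : pPrimeCore p G = ⊥) {K : Subgroup G} :
    IsPComponent p K ↔ IsComponent K := by
  refine ⟨fun hK => ⟨hK.1, (isQuasisimple_pComponent_iff_core hK).mpr (by rw [h, commutator_bot_right])⟩,
    fun hK => isPComponent_of_component hK fun hle => IsComponent.ne_bot hK ?_⟩
  exact le_bot_iff.mp (h ▸ hle)

theorem pLayer_eq_layer_of_bot (h : pPrimeCore p G = ⊥) : pLayer p G = layer G := by
  unfold pLayer layer
  congr 1
  ext K
  exact isPComponent_iff_of_bot h

theorem fitting_eq_pCore_of_bot (h : pPrimeCore p G = ⊥) : fittingSubgroup G = pCore p G := by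
  refine le_antisymm ?_ (pCore_le_fitting Fact.out)
  rw [fittingSubgroup_eq_iSup]
  refine iSup_le fun ⟨q, hq⟩ => ?_
  have hq' := Nat.prime_of_mem_primeFactors hq
  rcases eq_or_ne q p with rfl | hne
  · exact le_rfl
  haveI := Fact.mk hq'
  obtain ⟨n, hn⟩ := IsPGroup.iff_card.mp (ComponentsCores.isPGroup_pCore (G := G) q)
  refine le_trans (le_pPrimeCore' (p := p) ?_) (h ▸ bot_le)
  rw [hn]
  exact ((Nat.coprime_primes hq' Fact.out).mpr hne).pow_left n

end

theorem isPComponent_map_mulEquiv [Finite G] [Fact p.Prime] (e : G ≃* G') {K : Subgroup G}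
    (hK : IsPComponent p K) : IsPComponent p (K.map e.toMonoidHom) := by
  haveI : Finite G' := Finite.of_equiv G e.toEquiv
  set e' := QuotientGroup.congr (pPrimeCore p G) (pPrimeCore p G') e (pPrimeCore_map_mulEquiv e p)
  have hC := isComponent_map_mulEquiv e' hK.2.1
  have hcomp : (bar p G').comp e.toMonoidHom = e'.toMonoidHom.comp (bar p G) := by
    ext x; rfl
  have h2 : (K.map e.toMonoidHom).map (bar p G') = (K.map (bar p G)).map e'.toMonoidHom := by
    rw [map_map, map_map, hcomp]
  refine ⟨isSubnormal_map_mulEquiv e hK.1, h2 ▸ hC, fun H hH hle he => ?_⟩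
  refine le_antisymm hle ?_
  rw [map_le_iff_le_comap]
  refine isPComponent_le_of_subnormal hK (hH.comap _) ?_
  intro y hy
  have hy' : e' y ∈ H.map (bar p G') := by
    rw [he, h2]; exact mem_map_of_mem _ hy
  obtain ⟨z, hz, hzy⟩ := hy'
  refine ⟨e.symm z, by simpa using hz, e'.injective ?_⟩
  rw [← hzy]
  have := DFunLike.congr_fun hcomp (e.symm z)
  simpa using this.symm

theorem pLayer_characteristic [Finite G] [Fact p.Prime] : (pLayer p G).Characteristic := by
  refine characteristic_iff_map_le.mpr fun e => ?_
  rw [map_le_iff_le_comap]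
  refine sSup_le fun K hK => ?_
  rw [← map_le_iff_le_comap]
  exact pComponent_le_pLayer (isPComponent_map_mulEquiv e hK)

instance pLayer_normal_inst [Finite G] [Fact p.Prime] : (pLayer p G).Normal :=
  haveI := pLayer_characteristic (G := G) (p := p)
  inferInstance

/-- The `p`-components of a subnormal subgroup are `p`-components of the group. -/
theorem isPComponent_map_subtype [Finite G] [Fact p.Prime] {H : Subgroup G} (hH : H.IsSubnormal)
    {K : Subgroup H} (hK : IsPComponent p K) : IsPComponent p (K.map H.subtype) := by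
  set L := K.map H.subtype
  have hLsn : L.IsSubnormal := isSubnormal_map_subtype hH hK.1
  have hker : ∀ x : H, bar p G x = 1 ↔ bar p H x = 1 := by
    intro x
    rw [show bar p G x = 1 ↔ (x : G) ∈ pPrimeCore p G from QuotientGroup.eq_one_iff _,
      show bar p H x = 1 ↔ x ∈ pPrimeCore p H from QuotientGroup.eq_one_iff _]
    have := SetLike.ext_iff.mp (pPrimeCore_map_subtype_eq (p := p) hH) (x : G)
    constructor
    · intro hx
      obtain ⟨y, hy, hxy⟩ := this.mpr ⟨hx, x.2⟩
      rwa [← H.subtype_injective hxy]
    · intro hx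
      exact (this.mp (mem_map_of_mem _ hx)).1
  let ψ : H ⧸ pPrimeCore p H →* G ⧸ pPrimeCore p G :=
    QuotientGroup.lift _ ((bar p G).comp H.subtype) fun x hx =>
      (hker x).mpr ((QuotientGroup.eq_one_iff x).mpr hx)
  have hψ : Function.Injective ψ := by
    rw [injective_iff_map_eq_one]
    intro y
    induction y using QuotientGroup.induction_on with
    | H x => exact fun h => (hker x).mp h
  have h2 : L.map (bar p G) = (K.map (bar p H)).map ψ := by
    rw [map_map, map_map]; rfl
  refine ⟨hLsn, ⟨hLsn.map bar_surjective, ?_⟩, fun M hM hle he => ?_⟩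
  · rw [h2]; exact isQuasisimple_map_of_injective _ hψ hK.2.1.2
  · have hMH : M ≤ H := hle.trans (map_subtype_le K)
    have h3 : M.subgroupOf H = K := by
      refine hK.2.2 _ hM.subgroupOf ?_ ?_
      · intro x hx
        obtain ⟨y, hy, hxy⟩ := hle hx
        rwa [← H.subtype_injective hxy]
      · apply map_injective hψ
        rw [← h2, ← he]
        conv_rhs => rw [← map_subgroupOf_eq_of_le hMH]
        rw [map_map, map_map]
        rfl
    rw [← map_subgroupOf_eq_of_le hMH, h3]

end Cfsg.Agent.ComponentsP
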