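import Mathlib
import Cfsg.Prelude.Def_Local
import Cfsg.Agent.Lib.ComponentsP

set_option autoImplicit false
set_option linter.style.haveILetI false

namespace Cfsg.Agent.ComponentsPExtra

open Subgroup Cfsg
open Cfsg.Agent.ComponentsBasic Cfsg.Agent.ComponentsCores Cfsg.Agent.ComponentsP

variable {G : Type*} [Group G] {p : ℕ}

/-- The `p'`-core of `K ≤ M` computed inside `M`. -/
theorem pPrimeCore_map_subgroupOf {K M : Subgroup G} (hKM : K ≤ M) :
    ((pPrimeCore p (K.subgroupOf M)).map (K.subgroupOf M).subtype).map M.subtype =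
      (pPrimeCore p K).map K.subtype := by
  rw [← pPrimeCore_map_mulEquiv (subgroupOfEquivOfLe hKM) p, map_map, map_map]
  congr 1

theorem sup_pPrimeCore_eq_top [Finite G] [Fact p.Prime]
    (h : IsQuasisimple (G ⧸ pPrimeCore p G)) : pLayer p G ⊔ pPrimeCore p G = ⊤ := by
  have h2 : layer (G ⧸ pPrimeCore p G) = ⊤ :=
    top_le_iff.mp (component_le_layer (isComponent_top_iff.mpr h))
  have h3 : (pLayer p G).map (bar p G) = ⊤ := (pLayer_map_bar (p := p) (G := G)).trans h2
  have := congrArg (comap (bar p G)) h3
  rwa [comap_map_eq, ker_bar, comap_top] at this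

theorem index_coprime_of_sup_core [Finite G] {N : Subgroup G} (h : N ⊔ pPrimeCore p G = ⊤) :
    N.index.Coprime p := by
  refine (pPrimeCore_coprime (G := G) p).coprime_dvd_left ?_
  have := relIndex_sup_normal N (pPrimeCore p G)
  rwa [h, relIndex_top_right] at this

/-- A `p`-component, as a group, equals its own `p`-layer. -/
theorem pComponent_pLayer_eq_top [Finite G] [Fact p.Prime] {K : Subgroup G}
    (hK : IsPComponent p K) : pLayer p K = ⊤ :=
  pComponent_eq_top_of_coprime hK (Normal.isSubnormal inferInstance)
    (index_coprime_of_sup_core (sup_pPrimeCore_eq_top (quotient_pPrimeCore_isQuasisimple hK)))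

/-- If a subgroup `C` covers the `p`-component `K` modulo `O_{p'}(K)`, then so does its `p`-layer. -/
theorem le_pLayer_sup_of_cover [Finite G] [Fact p.Prime] {K C : Subgroup G}
    (hK : IsPComponent p K) (hCK : C ≤ K) (h : K ≤ C ⊔ (pPrimeCore p K).map K.subtype) :
    K ≤ (pLayer p C).map C.subtype ⊔ (pPrimeCore p K).map K.subtype := by
  set D := (pPrimeCore p K).map K.subtype
  have hDK : D ≤ K := map_subtype_le _
  have hD : (D.subgroupOf K) = pPrimeCore p K :=
    comap_map_eq_self_of_injective K.subtype_injective _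
  haveI : (D.subgroupOf K).Normal := hD ▸ inferInstance
  have hDn : K ≤ normalizer (D : Set G) := (normal_subgroupOf_iff_le_normalizer hDK).mp inferInstance
  have hDcard : Nat.card D = Nat.card (pPrimeCore p K) :=
    Nat.card_congr ((pPrimeCore p K).equivMapOfInjective _ K.subtype_injective).toEquiv.symm
  -- the core of C lies in D
  set F := (pPrimeCore p C).map C.subtype
  have hFK : F ≤ K := (map_subtype_le _).trans hCK
  have hFC : C ≤ normalizer (F : Set G) :=
    le_normalizer.trans (normalizer_le_normalizer_map_subtype C _)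
  have hFD : F ≤ D := by
    have hn : ((F ⊔ D).subgroupOf K).Normal := by
      refine normal_subgroupOf_of_le_normalizer (h.trans (sup_le ?_ ?_))
      · exact (le_inf hFC (hCK.trans hDn)).trans (normalizer_inf_normalizer_le_normalizer_sup _ _)
      · exact le_sup_right.trans le_normalizer
    have hco : (Nat.card ((F ⊔ D).subgroupOf K)).Coprime p := by
      rw [subgroupOf_sup hFK hDK]
      refine ((Nat.Coprime.mul_left ?_ ?_).coprime_dvd_left (HallCore.card_sup_dvd _ _))
      · rw [Nat.card_congr (subgroupOfEquivOfLe hFK).toEquiv,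
          ← Nat.card_congr ((pPrimeCore p C).equivMapOfInjective _ C.subtype_injective).toEquiv]
        exact pPrimeCore_coprime p
      · rw [hD]; exact pPrimeCore_coprime p
    haveI := hn
    have h2 := map_mono (f := K.subtype) (le_pPrimeCore' hco)
    rw [map_subgroupOf_eq_of_le (sup_le hFK hDK)] at h2
    exact le_sup_left.trans h2
  -- C modulo its core is quasisimple
  set π : C →* ↥K ⧸ pPrimeCore p K := (QuotientGroup.mk' (pPrimeCore p K)).comp (inclusion hCK)
  have hπ : Function.Surjective π := by
    intro y
    obtain ⟨k, rfl⟩ := QuotientGroup.mk'_surjective _ y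
    have hk := h k.2
    rw [← SetLike.mem_coe,
      coe_mul_of_left_le_normalizer_right C D (hCK.trans hDn)] at hk
    obtain ⟨c, hc, d, hd, hcd⟩ := hk
    refine ⟨⟨c, hc⟩, ?_⟩
    refine (QuotientGroup.eq).mpr ?_
    rw [← hD, mem_subgroupOf]
    simp only [← hcd, Subgroup.coe_mul, InvMemClass.coe_inv, coe_inclusion, inv_mul_cancel_left]
    exact hd
  have hker : π.ker ≤ pPrimeCore p C := by
    refine le_pPrimeCore' ((pPrimeCore_coprime (G := K) p).coprime_dvd_left ?_)
    rw [← hDcard, Nat.card_congr (π.ker.equivMapOfInjective _ C.subtype_injective).toEquiv]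
    refine card_dvd_of_le ?_
    rintro _ ⟨c, hc, rfl⟩
    have : inclusion hCK c ∈ pPrimeCore p K := (QuotientGroup.eq_one_iff _).mp hc
    rw [← hD] at this
    exact this
  have hq : IsQuasisimple (↥C ⧸ pPrimeCore p C) := by
    have h1 : IsQuasisimple (↥C ⧸ π.ker) :=
      isQuasisimple_of_mulEquiv (QuotientGroup.quotientKerEquivOfSurjective π hπ).symm
        (quotient_pPrimeCore_isQuasisimple hK)
    haveI : Nontrivial (↥C ⧸ pPrimeCore p C) := by
      rw [QuotientGroup.nontrivial_iff]
      intro ht
      have h3 : (Nat.card C).Coprime p := by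
        have := pPrimeCore_coprime (G := C) p
        rwa [ht, Nat.card_congr topEquiv.toEquiv] at this
      haveI := quotient_pPrimeCore_isQuasisimple hK
      have h4 : p ∣ Nat.card (↥K ⧸ pPrimeCore p K) * Nat.card (pPrimeCore p K) := by
        rw [← card_eq_card_quotient_mul_card_subgroup]; exact isPComponent_dvd_card hK
      rcases (Fact.out : p.Prime).dvd_mul.mp h4 with h5 | h5
      · have := h3.coprime_dvd_left (h5.trans (card_dvd_of_surjective π hπ))
        exact (Fact.out : p.Prime).ne_one (Nat.coprime_self p |>.mp this)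
      · have := (pPrimeCore_coprime (G := K) p).coprime_dvd_left h5
        exact (Fact.out : p.Prime).ne_one (Nat.coprime_self p |>.mp this)
    refine isQuasisimple_of_surjective
      (QuotientGroup.map π.ker (pPrimeCore p C) (MonoidHom.id _) hker) ?_ h1
    intro y
    obtain ⟨c, rfl⟩ := QuotientGroup.mk'_surjective _ y
    exact ⟨QuotientGroup.mk' _ c, rfl⟩
  have h6 := congrArg (map C.subtype) (sup_pPrimeCore_eq_top (G := C) hq)
  rw [Subgroup.map_sup, ← MonoidHom.range_eq_map, range_subtype] at h6
  refine h.trans (sup_le ?_ le_sup_right)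
  conv_lhs => rw [← h6]
  exact sup_le_sup le_rfl hFD

end Cfsg.Agent.ComponentsPExtra
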