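import Mathlib
import Cfsg.Prelude.Def_Local
import Cfsg.Agent.Lib.ComponentsP
import Cfsg.Agent.Lib.ComponentsPExtra

set_option autoImplicit false
set_option linter.style.haveILetI false

namespace Cfsg.Agent.ComponentsPMap

open Subgroup Cfsg
open Cfsg.Agent.ComponentsBasic Cfsg.Agent.ComponentsCores Cfsg.Agent.ComponentsP

variable {G : Type*} [Group G] {G' : Type*} [Group G'] {p : ℕ}

/-- A `p`-component contained in a subnormal subgroup is a `p`-component of it. -/
theorem isPComponent_subgroupOf [Finite G] [Fact p.Prime] {H K : Subgroup G}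
    (hH : H.IsSubnormal) (hK : IsPComponent p K) (hle : K ≤ H) :
    IsPComponent p (K.subgroupOf H) := by
  set K' := K.subgroupOf H
  have hsn : K'.IsSubnormal := hK.1.subgroupOf
  have hmap : K'.map H.subtype = K := map_subgroupOf_eq_of_le hle
  refine ⟨hsn, ⟨hsn.map bar_surjective, ?_⟩, fun M hM hMle he => ?_⟩
  · have hq : IsQuasisimple (↥K' ⧸ pPrimeCore p K') :=
      isQuasisimple_of_mulEquiv (QuotientGroup.congr _ _ (subgroupOfEquivOfLe hle).symm
        (pPrimeCore_map_mulEquiv _ p)) (quotient_pPrimeCore_isQuasisimple hK)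
    have hker : ((bar p H).subgroupMap K').ker = pPrimeCore p K' := by
      apply map_injective K'.subtype_injective
      rw [pPrimeCore_map_subtype_eq hsn]
      ext x
      constructor
      · rintro ⟨y, hy, rfl⟩
        exact ⟨(QuotientGroup.eq_one_iff _).mp (congrArg Subtype.val hy), y.2⟩
      · rintro ⟨hO, hx⟩
        exact ⟨⟨x, hx⟩, Subtype.ext ((QuotientGroup.eq_one_iff x).mpr hO), rfl⟩
    exact isQuasisimple_of_mulEquiv ((QuotientGroup.quotientMulEquivOfEq hker.symm).trans
      (QuotientGroup.quotientKerEquivOfSurjective _ ((bar p H).subgroupMap_surjective K'))) hq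
  · refine le_antisymm hMle ?_
    have h1 : K' ≤ M ⊔ pPrimeCore p H := by
      have h2 := (le_comap_map (bar p H) K').trans (comap_mono he.ge)
      rwa [comap_map_eq, ker_bar] at h2
    have h3 : K ≤ M.map H.subtype ⊔ pPrimeCore p G := by
      rw [← hmap]
      refine (map_mono h1).trans ?_
      rw [Subgroup.map_sup]
      exact sup_le_sup le_rfl (pPrimeCore_map_subtype_le hH)
    have h4 : K.map (bar p G) ≤ (M.map H.subtype).map (bar p G) := by
      refine (map_mono h3).trans ?_
      rw [Subgroup.map_sup]
      exact sup_le le_rfl ((map_bar_eq_bot_iff.mpr le_rfl).le.trans bot_le)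
    have h5 := isPComponent_le_of_subnormal hK (isSubnormal_map_subtype hH hM) h4
    intro x hx
    obtain ⟨y, hy, hxy⟩ := h5 (mem_subgroupOf.mp hx)
    rwa [← H.subtype_injective hxy]

/-- Changing the ambient subgroup along a subnormal inclusion. -/
theorem isPComponent_subgroupOf_iff [Finite G] [Fact p.Prime] {H M K : Subgroup G}
    (hHM : H ≤ M) (hH : (H.subgroupOf M).IsSubnormal) (hKH : K ≤ H) :
    IsPComponent p (K.subgroupOf H) ↔ IsPComponent p (K.subgroupOf M) := by
  have hle : K.subgroupOf M ≤ H.subgroupOf M := fun x hx => hKH hx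
  set e := subgroupOfEquivOfLe hHM
  have h1 : ((K.subgroupOf M).subgroupOf (H.subgroupOf M)).map e.toMonoidHom = K.subgroupOf H := by
    ext x
    constructor
    · rintro ⟨y, hy, rfl⟩; exact hy
    · intro hx
      refine ⟨e.symm x, ?_, e.apply_symm_apply x⟩
      exact hx
  constructor
  · intro h
    have h2 : IsPComponent p ((K.subgroupOf M).subgroupOf (H.subgroupOf M)) := by
      rw [← h1] at h
      have h3 := isPComponent_map_mulEquiv e.symm h
      rwa [map_map, show e.symm.toMonoidHom.comp e.toMonoidHom = MonoidHom.id _ by ext; simp,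
        map_id] at h3
    have h4 := isPComponent_map_subtype hH h2
    rwa [map_subgroupOf_eq_of_le hle] at h4
  · intro h
    rw [← h1]
    exact isPComponent_map_mulEquiv e (isPComponent_subgroupOf hH h hle)

/-- A `p`-component commutes with every normal `p`-subgroup. -/
theorem pComponent_commute_pGroup [Finite G] [Fact p.Prime] {K T : Subgroup G}
    (hK : IsPComponent p K) [T.Normal] (hT : IsPGroup p T) : ⁅K, T⁆ = ⊥ := by
  haveI := hT.isNilpotent
  rcases pComponent_le_or_commutator_le hK (Normal.isSubnormal (inferInstance : T.Normal)) with h | h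
  · exact absurd (perfect_eq_bot_of_le_solvable (isPComponent_perfect hK) h) (isPComponent_ne_bot hK)
  · rw [eq_bot_iff]
    intro x hx
    have h1 := (hT.to_le (commutator_le_right K T))
    obtain ⟨k, hk⟩ := IsPGroup.iff_orderOf.mp h1 ⟨x, hx⟩
    rw [orderOf_mk] at hk
    have h2 : orderOf x ∣ Nat.card (pPrimeCore p G) :=
      orderOf_mk x (h hx) ▸ _root_.orderOf_dvd_natCard (⟨x, h hx⟩ : pPrimeCore p G)
    have := (pPrimeCore_coprime (G := G) p).coprime_dvd_left h2
    rw [hk] at this
    rcases Nat.eq_zero_or_pos k with rfl | hk0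
    · rw [pow_zero, orderOf_eq_one_iff] at hk; exact mem_bot.mpr hk
    · rw [Nat.coprime_pow_left_iff hk0] at this
      exact absurd (Nat.coprime_self p |>.mp this) (Fact.out : p.Prime).ne_one

/-- Image of a `p`-component under a surjection with kernel of order prime to `p`. -/
theorem isPComponent_map [Finite G] [Fact p.Prime] {f : G →* G'} (hf : Function.Surjective f)
    (hker : (Nat.card f.ker).Coprime p) {K : Subgroup G} (hK : IsPComponent p K) :
    IsPComponent p (K.map f) := by
  haveI : Finite G' := Finite.of_surjective f hf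
  have hO : (pPrimeCore p G').comap f = pPrimeCore p G := by
    refine le_antisymm ?_ ?_
    · refine le_pPrimeCore' ?_
      have h1 : Nat.card ((pPrimeCore p G').comap f) ∣ Nat.card f.ker * Nat.card (pPrimeCore p G') := by
        set C := (pPrimeCore p G').comap f
        rw [← HallCore.card_mul_relIndex (ker_le_comap f _ : f.ker ≤ C), relIndex_ker,
          map_comap_eq_self_of_surjective hf]
      exact (hker.mul_left (pPrimeCore_coprime p)).coprime_dvd_left h1
    · rw [← map_le_iff_le_comap]
      haveI : ((pPrimeCore p G).map f).Normal := Normal.map inferInstance f hf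
      exact le_pPrimeCore' ((pPrimeCore_coprime p).coprime_dvd_left (card_map_dvd _ f))
  set θ := (bar p G').comp f
  have hθ : θ.ker = pPrimeCore p G := by
    rw [← MonoidHom.comap_ker, ker_bar, hO]
  have hle : pPrimeCore p G ≤ (pPrimeCore p G').comap f := hO.ge
  set e := (QuotientGroup.quotientMulEquivOfEq hθ.symm).trans
    (QuotientGroup.quotientKerEquivOfSurjective θ (bar_surjective.comp hf))
  have he : e.toMonoidHom.comp (bar p G) = θ := by ext x; rfl
  have h2 : (K.map f).map (bar p G') = (K.map (bar p G)).map e.toMonoidHom := by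
    rw [map_map, map_map, he]
  refine ⟨hK.1.map hf, h2 ▸ isComponent_map_mulEquiv e hK.2.1, fun H hH hHle heq => ?_⟩
  refine le_antisymm hHle ?_
  rw [map_le_iff_le_comap]
  refine isPComponent_le_of_subnormal hK (hH.comap f) ?_
  apply (Subgroup.map_le_map_iff_of_injective (f := e.toMonoidHom) e.injective).mp
  rw [← h2, ← heq, map_map, he, ← map_map, map_comap_eq_self_of_surjective hf]

end Cfsg.Agent.ComponentsPMap
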