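import Mathlib
import Cfsg.Prelude.Def_KGroupFacts
import Cfsg.Agent.Lib.ComponentsBasic
import Cfsg.Agent.Lib.ComponentsFitting

set_option autoImplicit false
set_option linter.style.haveILetI false

namespace Cfsg.Agent.ComponentsSchreier

open Subgroup Cfsg
open scoped commutatorElement
open Cfsg.Agent.ComponentsBasic Cfsg.Agent.ComponentsFitting

variable {G : Type*} [Group G]

theorem center_map_aut {L : Type*} [Group L] (α : MulAut L) :
    (center L).map α.toMonoidHom = center L :=
  characteristic_iff_map_eq.mp inferInstance α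

/-- Automorphisms act on the central quotient. -/
def quotCenterHom (L : Type*) [Group L] : MulAut L →* MulAut (L ⧸ center L) :=
  MonoidHom.mk' (fun α => QuotientGroup.congr (center L) (center L) α (center_map_aut α))
    (fun α β => by
      ext x
      induction x using QuotientGroup.induction_on with
      | H y => rfl)

/-- If `c` centralises a perfect subgroup modulo its centre then it centralises it. -/
theorem mem_centralizer_of_mod_center {L : Subgroup G} (hL : ⁅L, L⁆ = L) {c : G}
    (h : ∀ x ∈ L, x⁻¹ * (c * x * c⁻¹) ∈ L ⊓ centralizer (L : Set G)) :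
    c ∈ centralizer (L : Set G) := by
  rw [mem_centralizer_iff]
  suffices h2 : L ≤ centralizer {c} from fun x hx => mem_centralizer_singleton_iff.mp (h2 hx)
  conv_lhs => rw [← hL]
  rw [commutator_le]
  intro a ha b hb
  rw [mem_centralizer_singleton_iff]
  obtain ⟨hz, hzc⟩ := h a ha
  obtain ⟨hw, hwc⟩ := h b hb
  have e : c * ⁅a, b⁆ * c⁻¹ = ⁅a, b⁆ := by
    rw [conjugate_commutatorElement]
    set z := a⁻¹ * (c * a * c⁻¹)
    set w := b⁻¹ * (c * b * c⁻¹)
    rw [show c * a * c⁻¹ = a * z by simp [z, mul_assoc], show c * b * c⁻¹ = b * w by simp [w, mul_assoc],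
      commutatorElement_mul_left_eq_conj_mul,
      Commute.commutator_eq (mem_centralizer_iff.mp hzc _ (L.mul_mem hb hw)).symm,
      mul_one, mul_inv_cancel, one_mul, commutatorElement_mul_right_eq_mul_conj,
      Commute.commutator_eq (mem_centralizer_iff.mp hwc _ ha)]
    simp
  exact (mul_inv_eq_iff_eq_mul.mp e).symm

/-- The Schreier property makes a perfect group normalising a component act by inner
automorphisms. -/
theorem le_component_mul_centralizer {L K : Subgroup G} (hL : IsComponent L)
    (hout : Group.IsSolvable (Out (↥L ⧸ center L))) (hK : ⁅K, K⁆ = K)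
    (hKN : K ≤ normalizer (L : Set G)) {k : G} (hk : k ∈ K) :
    ∃ l ∈ L, l⁻¹ * k ∈ centralizer (L : Set G) := by
  let φ : ↥(normalizer (L : Set G)) →* Out (↥L ⧸ center L) :=
    ((QuotientGroup.mk' (Inn (↥L ⧸ center L))).comp (quotCenterHom L)).comp L.normalizerMonoidHom
  have hperf : ⁅K.subgroupOf (normalizer (L : Set G)), K.subgroupOf (normalizer (L : Set G))⁆
      = K.subgroupOf (normalizer (L : Set G)) := by
    apply map_injective (normalizer (L : Set G)).subtype_injective
    rw [map_commutator, map_subgroupOf_eq_of_le hKN, hK]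
  have himg : (K.subgroupOf (normalizer (L : Set G))).map φ = ⊥ := by
    haveI : Group.IsSolvable (⊤ : Subgroup (Out (↥L ⧸ center L))) := by
      haveI := hout; infer_instance
    refine perfect_eq_bot_of_le_solvable (S := ⊤) ?_ le_top
    rw [← map_commutator, hperf]
  have h1 : φ ⟨k, hKN hk⟩ = 1 := mem_bot.mp (himg ▸ mem_map_of_mem φ (mem_subgroupOf.mpr hk))
  obtain ⟨s, hs⟩ := (QuotientGroup.eq_one_iff _).mp h1
  obtain ⟨⟨l, hl⟩, rfl⟩ := QuotientGroup.mk'_surjective _ s
  refine ⟨l, hl, mem_centralizer_of_mod_center (IsComponent.perfect hL) fun x hx => ?_⟩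
  have hkx : k * x * k⁻¹ ∈ L := (mem_normalizer_iff.mp (hKN hk) x).mp hx
  have h2 : QuotientGroup.mk' (center L) (⟨l, hl⟩ * ⟨x, hx⟩ * ⟨l, hl⟩⁻¹) =
      QuotientGroup.mk' (center L) ⟨k * x * k⁻¹, hkx⟩ := by
    have h3 := DFunLike.congr_fun hs (QuotientGroup.mk' (center L) ⟨x, hx⟩)
    exact h3
  have h4 := QuotientGroup.eq.mp h2
  rw [← map_center_subtype]
  refine ⟨(⟨x, hx⟩ : L)⁻¹ * (⟨l, hl⟩⁻¹ * ⟨k * x * k⁻¹, hkx⟩ * ⟨l, hl⟩), ?_, ?_⟩
  · have h5 := (inferInstance : (center L).Normal).conj_mem _ h4 (⟨l, hl⟩⁻¹ : L)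
    show _ ∈ center L
    convert h5 using 1
    group
  · simp [mul_assoc]

theorem mem_sup_mul_centralizer (S : Finset (Subgroup G)) (hS : ∀ L ∈ S, IsComponent L) {k : G}
    (h : ∀ L ∈ S, ∃ l ∈ L, l⁻¹ * k ∈ centralizer (L : Set G)) :
    ∃ e ∈ S.sup id, e⁻¹ * k ∈ centralizer ((S.sup id : Subgroup G) : Set G) := by
  induction S using Finset.cons_induction with
  | empty => exact ⟨1, one_mem _, by simp [mem_centralizer_iff]⟩
  | cons a S ha ih =>
    simp only [Finset.mem_cons, forall_eq_or_imp] at hS h
    obtain ⟨e, he, hec⟩ := ih hS.2 h.2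
    obtain ⟨l, hl, hlc⟩ := h.1
    have hcom : a ≤ centralizer ((S.sup id : Subgroup G) : Set G) := by
      rw [le_centralizer_iff]
      exact Finset.sup_le fun L hL => commutator_eq_bot_iff_le_centralizer.mp
        (components_commute (hS.2 L hL) hS.1 fun h => ha (by rwa [← h]))
    have heC : e ∈ centralizer (a : Set G) := le_centralizer_iff.mp hcom he
    simp only [Finset.sup_cons, id_eq]
    refine ⟨e * l, mul_mem (mem_sup_right he) (mem_sup_left hl), ?_⟩
    have h1 : (e * l)⁻¹ * k ∈ centralizer ((S.sup id : Subgroup G) : Set G) := by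
      rw [mul_inv_rev, mul_assoc]
      exact mul_mem (inv_mem (hcom hl)) hec
    have h2 : (e * l)⁻¹ * k ∈ centralizer (a : Set G) := by
      have h3 : e * l = l * e := (mem_centralizer_iff.mp heC l hl).symm
      rw [h3, mul_inv_rev, mul_assoc]
      exact mul_mem (inv_mem heC) hlc
    have h4 : (a ⊔ S.sup id) ≤ centralizer {(e * l)⁻¹ * k} :=
      sup_le (fun y hy => mem_centralizer_singleton_iff.mpr (mem_centralizer_iff.mp h2 y hy))
        (fun y hy => mem_centralizer_singleton_iff.mpr (mem_centralizer_iff.mp h1 y hy))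
    exact mem_centralizer_iff.mpr fun y hy => mem_centralizer_singleton_iff.mp (h4 hy)

/-- A perfect subgroup centralising the Fitting subgroup, normalising every component and acting
by inner automorphisms on each, lies in the layer. -/
theorem perfect_le_layer [Finite G] {K : Subgroup G} (hK : ⁅K, K⁆ = K)
    (hKF : K ≤ centralizer (fittingSubgroup G : Set G))
    (h : ∀ L : Subgroup G, IsComponent L → ∀ k ∈ K, ∃ l ∈ L, l⁻¹ * k ∈ centralizer (L : Set G)) :
    K ≤ layer G := by
  classical
  have hfin := Set.toFinite {L : Subgroup G | IsComponent L}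
  have e : hfin.toFinset.sup id = layer G := by
    rw [Finset.sup_id_eq_sSup, Set.Finite.coe_toFinset]; rfl
  have h1 : K ≤ generalizedFittingSubgroup G := by
    intro k hk
    obtain ⟨x, hx, hxc⟩ := mem_sup_mul_centralizer hfin.toFinset
      (fun L hL => (Set.Finite.mem_toFinset hfin).mp hL)
      (fun L hL => h L ((Set.Finite.mem_toFinset hfin).mp hL) k hk) (k := k)
    rw [e] at hx hxc
    have h2 : x⁻¹ * k ∈ centralizer (fittingSubgroup G : Set G) :=
      mul_mem (inv_mem (layer_le_centralizer_fitting hx)) (hKF hk)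
    have h3 : generalizedFittingSubgroup G ≤ centralizer {x⁻¹ * k} :=
      sup_le (fun y hy => mem_centralizer_singleton_iff.mpr (mem_centralizer_iff.mp hxc y hy))
        (fun y hy => mem_centralizer_singleton_iff.mpr (mem_centralizer_iff.mp h2 y hy))
    have h4 := centralizer_gen_le (mem_centralizer_iff.mpr
      fun y hy => mem_centralizer_singleton_iff.mp (h3 hy))
    have := mul_mem (layer_le_gen hx) h4
    rwa [mul_inv_cancel_left] at this
  set f := QuotientGroup.mk' (layer G)
  have h5 : K.map f ≤ (fittingSubgroup G).map f := by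
    refine (map_mono h1).trans ?_
    unfold generalizedFittingSubgroup
    rw [Subgroup.map_sup, QuotientGroup.map_mk'_self, bot_sup_eq]
  haveI : Group.IsNilpotent ((fittingSubgroup G).map f) :=
    nilpotent_of_surjective _ (f.subgroupMap_surjective (fittingSubgroup G))
  have h6 := perfect_eq_bot_of_le_solvable (by rw [← map_commutator, hK]) h5
  rwa [Subgroup.map_eq_bot_iff, QuotientGroup.ker_mk'] at h6

end Cfsg.Agent.ComponentsSchreier
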