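import Mathlib
import Cfsg.Prelude.Def_Local
import Cfsg.Prelude.Def_KGroupFacts
import Cfsg.Agent.Lib.ComponentsP
import Cfsg.Agent.Lib.ComponentsPMap
import Cfsg.Agent.Lib.ComponentsNormalizer
import Cfsg.Agent.Lib.ComponentsSchreier

/-!
`L_{p'}`-balance under the Schreier property.
-/

set_option autoImplicit false
set_option linter.style.haveILetI false

namespace Cfsg.Agent.ComponentsBalance

open Subgroup Cfsg
open scoped commutatorElement
open Cfsg.Agent.ComponentsBasic Cfsg.Agent.ComponentsCores Cfsg.Agent.ComponentsFitting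
open Cfsg.Agent.ComponentsP Cfsg.Agent.ComponentsPMap

variable {X : Type*} [Group X] {p : ℕ}

/-- The conjugates of `L` under `R`, joined. -/
def orbitSup (R L : Subgroup X) : Subgroup X :=
  ⨆ r : R, L.map (MulAut.conj (r : X)).toMonoidHom

theorem conj_map_map (L : Subgroup X) (a b : X) :
    (L.map (MulAut.conj b).toMonoidHom).map (MulAut.conj a).toMonoidHom =
      L.map (MulAut.conj (a * b)).toMonoidHom := by
  rw [map_map]; congr 1; ext x; simp [mul_assoc]

theorem conj_map_of_mem_normalizer (L : Subgroup X) {g : X}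
    (hg : g ∈ normalizer (L : Set X)) : L.map (MulAut.conj g).toMonoidHom = L :=
  mem_normalizer_iff_map_conj_eq.mp hg

theorem le_orbitSup (R L : Subgroup X) : L ≤ orbitSup R L := by
  refine le_iSup_of_le ⟨1, one_mem R⟩ ?_
  intro x hx
  exact ⟨x, hx, by simp⟩

theorem le_normalizer_orbitSup (R L : Subgroup X) :
    R ≤ normalizer (orbitSup R L : Set X) := by
  intro r hr
  rw [mem_normalizer_iff_map_conj_eq]
  show (orbitSup R L).map (MulAut.conj r).toMonoidHom = _
  rw [orbitSup, Subgroup.map_iSup]
  simp only [conj_map_map]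
  exact (Equiv.mulLeft (⟨r, hr⟩ : R)).iSup_congr fun s => rfl

theorem orbitSup_le_layer {L : Subgroup X} (hL : IsComponent L) (R : Subgroup X) :
    orbitSup R L ≤ layer X :=
  iSup_le fun _ => component_le_layer (isComponent_conj hL _)

theorem layer_le_normalizer_orbitSup {L : Subgroup X} (hL : IsComponent L) (R : Subgroup X) :
    layer X ≤ normalizer (orbitSup R L : Set X) := by
  intro e he
  rw [mem_normalizer_iff_map_conj_eq]
  show (orbitSup R L).map (MulAut.conj e).toMonoidHom = _
  rw [orbitSup, Subgroup.map_iSup]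
  exact iSup_congr fun r => conj_map_of_mem_normalizer _
    (layer_le_normalizer_component (isComponent_conj hL _) he)

theorem commute_layer_orbit {R L : Subgroup X} (hL : IsComponent L) {k : X}
    (hkR : ∀ r ∈ R, r * k = k * r)
    (hk : ∀ r ∈ R, L.map (MulAut.conj k).toMonoidHom ≠ L.map (MulAut.conj r).toMonoidHom) :
    (orbitSup R L).map (MulAut.conj k).toMonoidHom ≤ centralizer (orbitSup R L : Set X) := by
  rw [le_centralizer_iff]
  refine iSup_le fun r => ?_
  rw [le_centralizer_iff, orbitSup, Subgroup.map_iSup]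
  refine iSup_le fun s => ?_
  rw [conj_map_map, ← commutator_eq_bot_iff_le_centralizer]
  refine components_commute (isComponent_conj hL _) (isComponent_conj hL _) fun h => ?_
  refine hk ((s : X)⁻¹ * r) (R.mul_mem (R.inv_mem s.2) r.2) ?_
  have h2 := congrArg (map (MulAut.conj (s : X)⁻¹).toMonoidHom) h
  rw [conj_map_map, conj_map_map, ← hkR s s.2, inv_mul_cancel_left] at h2
  exact h2

/-- A `p`-element of the orbit of a component, normalising `R`, not central in the orbit. -/
theorem exists_pElement [Finite X] [Fact p.Prime] (hcore : pPrimeCore p X = ⊥) {R L : Subgroup X}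
    (hR : IsPGroup p R) (hQ : pCore p X ≤ R) (hL : IsComponent L) :
    ∃ d ∈ orbitSup R L, d ∈ normalizer (R : Set X) ∧
      d ∉ centralizer (orbitSup R L : Set X) ∧ ∃ a, orderOf d = p ^ a := by
  set W := orbitSup R L
  set Z := W ⊓ centralizer (W : Set X)
  have hWN : W ⊔ R ≤ normalizer (W : Set X) := sup_le le_normalizer (le_normalizer_orbitSup R L)
  -- `Z` is a `p`-group inside `R`
  have hZR : Z ≤ R := by
    refine le_trans ?_ (hQ : pCore p X ≤ R)
    rw [← fitting_eq_pCore_of_bot hcore]
    have hWsn : W.IsSubnormal := isSubnormal_of_le_normalizer (orbitSup_le_layer hL R)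
      (Normal.isSubnormal inferInstance) (layer_le_normalizer_orbitSup hL R)
    have hZsn : Z.IsSubnormal := by
      refine isSubnormal_of_le_normalizer inf_le_left hWsn ?_
      rw [le_normalizer_iff_commutator_le_left]
      refine le_trans ?_ bot_le
      rw [le_bot_iff, commutator_eq_bot_iff_le_centralizer]
      exact inf_le_right
    refine subnormal_nilpotent_le_fitting hZsn ?_
    haveI : IsMulCommutative Z :=
      le_centralizer_iff_isMulCommutative.mp (inf_le_right.trans (centralizer_le inf_le_left))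
    open scoped IsMulCommutative in infer_instance
  -- some p-element of W is not central
  have hx : ∃ x ∈ W, x ∉ centralizer (W : Set X) ∧ ∃ a, orderOf x = p ^ a := by
    by_contra hno
    push Not at hno
    have h1 : pGen p L ≤ centralizer (W : Set X) := by
      refine (closure_le _).mpr fun x hx => ?_
      by_contra hxc
      obtain ⟨a, ha⟩ := hx.2
      exact hno x (le_orbitSup R L hx.1) hxc a ha
    rw [pGen_component hcore hL] at h1
    exact IsComponent.ne_bot hL ((IsComponent.perfect hL).symm.trans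
      (commutator_eq_bot_iff_le_centralizer.mpr (h1.trans (centralizer_le (le_orbitSup R L)))))
  obtain ⟨x, hxW, hxc, a, hxa⟩ := hx
  -- move it into a Sylow subgroup containing R
  set M := W ⊔ R
  obtain ⟨S, hS⟩ := (hR.of_equiv (subgroupOfEquivOfLe (le_sup_right : R ≤ M)).symm).exists_le_sylow
  have hxP : IsPGroup p (zpowers (⟨x, mem_sup_left hxW⟩ : M)) := by
    refine IsPGroup.of_card (n := a) ?_
    rw [Nat.card_zpowers, orderOf_mk, hxa]
  obtain ⟨S', hS'⟩ := hxP.exists_le_sylow
  obtain ⟨g, hg⟩ := MulAction.exists_smul_eq M S' S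
  set x' : M := g * ⟨x, mem_sup_left hxW⟩ * g⁻¹
  have hx'S : x' ∈ (S : Subgroup M) := by
    rw [← hg, Sylow.coe_subgroup_smul]
    exact ⟨_, hS' (mem_zpowers _), rfl⟩
  have hgN : (g : X) ∈ normalizer (W : Set X) := hWN g.2
  have hgC : (g : X) ∈ normalizer ((centralizer (W : Set X) : Subgroup X) : Set X) := by
    have hc : normalizer (W : Set X) ≤ normalizer ((centralizer (W : Set X) : Subgroup X) : Set X) := by
      intro m hm
      rw [mem_normalizer_iff]
      intro y
      simp only [mem_centralizer_iff, SetLike.mem_coe]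
      constructor
      · intro hy w hw
        have h3 := hy (m⁻¹ * w * m) ((mem_normalizer_iff''.mp hm w).mp hw)
        have h4 := congrArg (fun t => m * t * m⁻¹) h3
        simpa [mul_assoc] using h4
      · intro hy w hw
        have h3 := hy (m * w * m⁻¹) ((mem_normalizer_iff.mp hm w).mp hw)
        have h4 := congrArg (fun t => m⁻¹ * t * m) h3
        simpa [mul_assoc] using h4
    exact hc hgN
  set T := (W.subgroupOf M).subgroupOf (S : Subgroup M)
  set N := ((centralizer (W : Set X)).subgroupOf M).subgroupOf (S : Subgroup M) ⊓ T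
  haveI : (W.subgroupOf M).Normal := normal_subgroupOf_of_le_normalizer hWN
  haveI : ((centralizer (W : Set X)).subgroupOf M).Normal := by
    refine ⟨fun y hy m => ?_⟩
    rw [mem_subgroupOf] at hy ⊢
    have hc : (m : X) ∈ normalizer ((centralizer (W : Set X) : Subgroup X) : Set X) := by
      rw [mem_normalizer_iff]
      intro y
      simp only [mem_centralizer_iff, SetLike.mem_coe]
      constructor
      · intro hy w hw
        have h3 := hy ((m : X)⁻¹ * w * m) ((mem_normalizer_iff''.mp (hWN m.2) w).mp hw)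
        have h4 := congrArg (fun t => (m : X) * t * (m : X)⁻¹) h3
        simpa [mul_assoc] using h4
      · intro hy w hw
        have h3 := hy (m * w * (m : X)⁻¹) ((mem_normalizer_iff.mp (hWN m.2) w).mp hw)
        have h4 := congrArg (fun t => (m : X)⁻¹ * t * m) h3
        simpa [mul_assoc] using h4
    exact (mem_normalizer_iff.mp hc _).mp hy
  haveI : T.Normal := inferInstance
  haveI : N.Normal := inferInstance
  have hTN : T.map (QuotientGroup.mk' N) ≠ ⊥ := by
    rw [Ne, Subgroup.map_eq_bot_iff, QuotientGroup.ker_mk']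
    intro hle
    have h5 := (hle (x := ⟨x', hx'S⟩)
      (mem_subgroupOf.mpr (mem_subgroupOf.mpr ((mem_normalizer_iff.mp hgN x).mp hxW)))).1
    exact hxc ((mem_normalizer_iff.mp hgC x).mpr h5)
  haveI : (T.map (QuotientGroup.mk' N)).Normal :=
    Normal.map inferInstance _ (QuotientGroup.mk'_surjective _)
  have hSN : IsPGroup p (↥(S : Subgroup M) ⧸ N) := S.2.to_quotient N
  obtain ⟨y, hy, hyc, hy1⟩ : ∃ y ∈ T.map (QuotientGroup.mk' N),
      y ∈ center (↥(S : Subgroup M) ⧸ N) ∧ y ≠ 1 := by
    by_contra hno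
    push Not at hno
    haveI := hSN.isNilpotent
    -- descend along the upper central series
    have hk : ∀ n, T.map (QuotientGroup.mk' N) ⊓ Subgroup.upperCentralSeries (↥(S : Subgroup M) ⧸ N) n = ⊥ := by
      intro n
      induction n with
      | zero => simp
      | succ n ih =>
        rw [eq_bot_iff]
        rintro z ⟨hzT, hzn⟩
        refine mem_bot.mpr (hno z hzT (mem_center_iff.mpr fun w => ?_))
        have h6 : z * w * z⁻¹ * w⁻¹ ∈ T.map (QuotientGroup.mk' N) ⊓
            Subgroup.upperCentralSeries (↥(S : Subgroup M) ⧸ N) n := by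
          refine ⟨?_, Subgroup.mem_upperCentralSeries_succ_iff.mp hzn w⟩
          rw [mul_assoc, mul_assoc]
          exact mul_mem hzT (by
            rw [← mul_assoc]; exact Normal.conj_mem inferInstance _ (inv_mem hzT) w)
        rw [ih, mem_bot, mul_inv_eq_one, mul_inv_eq_iff_eq_mul] at h6
        exact h6.symm
    obtain ⟨n, hn⟩ := Group.IsNilpotent.nilpotent (↥(S : Subgroup M) ⧸ N)
    have := hk n
    rw [hn, inf_top_eq] at this
    exact hTN this
  obtain ⟨s, hs, rfl⟩ := hy
  refine ⟨((s : M) : X), mem_subgroupOf.mp (mem_subgroupOf.mp hs), ?_, ?_, ?_⟩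
  · refine mem_normalizer_fintype fun r hr => ?_
    set rS : ↥(S : Subgroup M) := ⟨⟨r, mem_sup_right hr⟩, hS (mem_subgroupOf.mpr hr)⟩
    have h7 : QuotientGroup.mk' N (s * rS * s⁻¹ * rS⁻¹) = 1 := by
      rw [map_mul, map_mul, map_mul, map_inv, map_inv]
      rw [← mem_center_iff.mp hyc (QuotientGroup.mk' N rS), mul_inv_cancel_right, mul_inv_cancel]
    have h8 := (QuotientGroup.eq_one_iff _).mp h7
    have h9 : ((s : M) : X) * r * ((s : M) : X)⁻¹ * r⁻¹ ∈ Z :=
      ⟨mem_subgroupOf.mp (mem_subgroupOf.mp h8.2), mem_subgroupOf.mp (mem_subgroupOf.mp h8.1)⟩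
    have := R.mul_mem (hZR h9) hr
    simpa using this
  · intro hc
    exact hy1 ((QuotientGroup.eq_one_iff s).mpr ⟨mem_subgroupOf.mpr (mem_subgroupOf.mpr hc), hs⟩)
  · obtain ⟨b, hb⟩ := IsPGroup.iff_orderOf.mp S.2 s
    exact ⟨b, by rwa [orderOf_coe, orderOf_coe]⟩

/-- The kernel of L-balance: trivial `p'`-core and `O_p(X) ≤ R`. -/
theorem pComponent_le_layer [Finite X] [Fact p.Prime] (hcore : pPrimeCore p X = ⊥)
    (hS : ∀ L : Subgroup X, IsComponent L → Group.IsSolvable (Out (↥L ⧸ center L)))
    {R : Subgroup X} (hR : IsPGroup p R) (hQ : pCore p X ≤ R)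
    {K : Subgroup X} (hKN : K ≤ normalizer (R : Set X))
    (hK : IsPComponent p (K.subgroupOf (normalizer (R : Set X)))) : K ≤ layer X := by
  by_contra hKE
  have hperf : ⁅K, K⁆ = K := by
    have h := congrArg (map (normalizer (R : Set X)).subtype) (isPComponent_perfect hK)
    rwa [map_commutator, map_subgroupOf_eq_of_le hKN] at h
  have hKR : ∀ k ∈ K, ∀ r ∈ R, r * k = k * r := by
    intro k hk r hr
    have h := pComponent_commute_pGroup hK (T := R.subgroupOf (normalizer (R : Set X)))
      (hR.of_equiv (subgroupOfEquivOfLe le_normalizer).symm)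
    have h1 : (⟨k, hKN hk⟩ : ↥(normalizer (R : Set X))) ∈ K.subgroupOf (normalizer (R : Set X)) :=
      mem_subgroupOf.mpr hk
    have h1' : (⟨r, le_normalizer hr⟩ : ↥(normalizer (R : Set X))) ∈
        R.subgroupOf (normalizer (R : Set X)) := mem_subgroupOf.mpr hr
    have h3 := commutator_mem_commutator h1 h1'
    rw [h] at h3
    have h2 := mem_bot.mp h3
    rw [commutatorElement_eq_one_iff_mul_comm, Subtype.ext_iff] at h2
    exact h2.symm
  have hcomm : ⁅K.subgroupOf (normalizer (R : Set X)), (layer X).subgroupOf (normalizer (R : Set X))⁆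
      ≤ pPrimeCore p ↥(normalizer (R : Set X)) := by
    refine (pComponent_le_or_commutator_le hK (Normal.isSubnormal inferInstance)).resolve_left
      fun h => hKE fun x hx => ?_
    exact h (mem_subgroupOf.mpr hx : (⟨x, hKN hx⟩ : ↥(normalizer (R : Set X))) ∈ _)
  -- K fixes every component
  have hfix : ∀ L : Subgroup X, IsComponent L → K ≤ normalizer (L : Set X) := by
    intro L hL
    have horb : ∀ k ∈ K, ∃ r ∈ R,
        L.map (MulAut.conj k).toMonoidHom = L.map (MulAut.conj r).toMonoidHom := by
      intro k hk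
      by_contra hno
      push Not at hno
      have hdis := commute_layer_orbit hL (hKR k hk) hno
      obtain ⟨d, hdW, hdN, hdc, a, hda⟩ := exists_pElement hcore hR hQ hL
      set kd := k * d * k⁻¹
      have hkd : kd ∈ centralizer (orbitSup R L : Set X) := hdis (mem_map_of_mem _ hdW)
      have hc : ((kd * d⁻¹) ^ p ^ a) = 1 := by
        have hcd : Commute kd d⁻¹ := (mem_centralizer_iff.mp hkd _ (inv_mem hdW)).symm
        rw [hcd.mul_pow, inv_pow, ← hda, pow_orderOf_eq_one, inv_one, mul_one]
        have : orderOf kd = orderOf d :=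
          orderOf_injective (MulAut.conj k).toMonoidHom (MulAut.conj k).injective d
        rw [← this, pow_orderOf_eq_one]
      have hmem : (⟨k, hKN hk⟩ * ⟨d, hdN⟩ * ⟨k, hKN hk⟩⁻¹ * ⟨d, hdN⟩⁻¹ :
          ↥(normalizer (R : Set X))) ∈ pPrimeCore p ↥(normalizer (R : Set X)) := by
        rw [← commutatorElement_def]
        exact hcomm (commutator_mem_commutator (mem_subgroupOf.mpr hk)
          (mem_subgroupOf.mpr (orbitSup_le_layer hL R hdW)))
      have h1 : kd * d⁻¹ = 1 := by
        rw [← orderOf_eq_one_iff, ← Nat.dvd_one]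
        have h2 : orderOf (kd * d⁻¹) ∣ Nat.card (pPrimeCore p ↥(normalizer (R : Set X))) := by
          have h3 := orderOf_dvd_natCard (⟨_, hmem⟩ : pPrimeCore p ↥(normalizer (R : Set X)))
          rw [orderOf_mk, ← orderOf_coe] at h3
          exact h3
        have h4 := Nat.dvd_gcd h2 (orderOf_dvd_of_pow_eq_one hc)
        rwa [Nat.Coprime.gcd_eq_one ((pPrimeCore_coprime p).pow_right a)] at h4
      rw [mul_inv_eq_one] at h1
      exact hdc (h1 ▸ hkd)
    set KL := (normalizer (L : Set X)).subgroupOf K
    haveI : KL.Normal := by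
      refine ⟨fun g hg k => ?_⟩
      rw [mem_subgroupOf] at hg ⊢
      obtain ⟨r, hr, hkr⟩ := horb ((k : X)⁻¹) (inv_mem k.2)
      rw [mem_normalizer_iff_map_conj_eq]
      show L.map (MulAut.conj ((k : X) * g * (k : X)⁻¹)).toMonoidHom = L
      rw [← conj_map_map, hkr, conj_map_map, mul_assoc, ← hKR g g.2 r hr, ← mul_assoc,
        ← conj_map_map, conj_map_of_mem_normalizer L hg, hKR k k.2 r hr |>.symm,
        ← conj_map_map L r k]
      have h5 := congrArg (map (MulAut.conj (k : X)).toMonoidHom) hkr
      rw [conj_map_map, conj_map_map, mul_inv_cancel] at h5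
      rw [conj_map_map, hKR k k.2 r hr, ← h5]
      ext x; simp
    have hpg : IsPGroup p (↥K ⧸ KL) := by
      intro q
      obtain ⟨k, rfl⟩ := QuotientGroup.mk'_surjective _ q
      obtain ⟨r, hr, hkr⟩ := horb k k.2
      obtain ⟨b, hb⟩ := hR ⟨r, hr⟩
      refine ⟨b, ?_⟩
      rw [← map_pow]
      refine (QuotientGroup.eq_one_iff _).mpr (mem_subgroupOf.mpr ?_)
      rw [mem_normalizer_iff_map_conj_eq]
      have hpow : ∀ n : ℕ, L.map (MulAut.conj ((k : X) ^ n)).toMonoidHom =
          L.map (MulAut.conj (r ^ n)).toMonoidHom := by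
        intro n
        induction n with
        | zero => simp
        | succ n ih =>
          rw [pow_succ, ← conj_map_map, hkr, conj_map_map,
            ← (show Commute r ((k : X) ^ n) from (Commute.pow_right (hKR k k.2 r hr) n)).eq,
            ← conj_map_map, ih, conj_map_map, ← pow_succ']
      show L.map (MulAut.conj ((k ^ p ^ b : K) : X)).toMonoidHom = L
      rw [SubmonoidClass.coe_pow, hpow, show r ^ p ^ b = 1 from congrArg Subtype.val hb]
      ext x; simp
    haveI := hpg.isNilpotent
    have hp2 : ⁅(⊤ : Subgroup K), (⊤ : Subgroup K)⁆ = (⊤ : Subgroup K) := by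
      apply map_injective K.subtype_injective
      rw [map_commutator, ← MonoidHom.range_eq_map, range_subtype, hperf]
    exact subgroupOf_eq_top.mp (top_le_iff.mp (perfect_le_of_quotient_solvable hp2 KL))
  refine hKE (ComponentsSchreier.perfect_le_layer hperf ?_ fun L hL k hk =>
    ComponentsSchreier.le_component_mul_centralizer hL (hS L hL) hperf (hfix L hL) hk)
  intro k hk
  rw [mem_centralizer_iff]
  intro f hf
  rw [SetLike.mem_coe, fitting_eq_pCore_of_bot hcore] at hf
  exact hKR k hk f (hQ hf)

/-- Frattini: the normaliser of the image of a `p`-group modulo a normal `p'`-subgroup. -/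
theorem normalizer_map_bar [Finite X] [Fact p.Prime] {R : Subgroup X} (hR : IsPGroup p R) :
    normalizer ((R.map (bar p X) : Subgroup _) : Set (X ⧸ pPrimeCore p X)) =
      (normalizer (R : Set X)).map (bar p X) := by
  refine le_antisymm ?_ (le_normalizer_map _)
  set H := R ⊔ pPrimeCore p X
  set M := (normalizer ((R.map (bar p X) : Subgroup _) : Set (X ⧸ pPrimeCore p X))).comap (bar p X)
  have hH : (R.map (bar p X)).comap (bar p X) = H := by rw [comap_map_eq, ker_bar]
  have hMH : M ≤ normalizer (H : Set X) := hH ▸ le_normalizer_comap _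
  have hHM : H ≤ M := by
    rw [← hH]; exact comap_mono le_normalizer
  haveI : (H.subgroupOf M).Normal := normal_subgroupOf_of_le_normalizer hMH
  have hsyl : ¬ p ∣ ((R.subgroupOf M).subgroupOf (H.subgroupOf M)).index := by
    intro hd
    have h1 : ((R.subgroupOf M).subgroupOf (H.subgroupOf M)).index = R.relIndex H := by
      show (R.subgroupOf M).relIndex (H.subgroupOf M) = _
      exact relIndex_subgroupOf hHM
    rw [h1] at hd
    have := (pPrimeCore_coprime (G := X) p).coprime_dvd_left (hd.trans (relIndex_sup_normal R _))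
    exact (Fact.out : p.Prime).ne_one (Nat.coprime_self p |>.mp this)
  have hRp : IsPGroup p ((R.subgroupOf M).subgroupOf (H.subgroupOf M)) :=
    (hR.comap_of_injective M.subtype M.subtype_injective).comap_of_injective _
      (H.subgroupOf M).subtype_injective
  have hfr := (hRp.toSylow hsyl).normalizer_sup_eq_top
  rw [IsPGroup.toSylow_coe, map_subgroupOf_eq_of_le
    (show R.subgroupOf M ≤ H.subgroupOf M from fun x hx => mem_sup_left hx)] at hfr
  intro y hy
  obtain ⟨x, rfl⟩ := bar_surjective y
  have hxM : x ∈ M := hy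
  obtain ⟨n, hn, h, hh, hnh⟩ := mem_sup_of_normal_right.mp (hfr.ge (mem_top (⟨x, hxM⟩ : M)))
  have hn' : (n : X) ∈ normalizer (R : Set X) := by
    rw [mem_normalizer_iff] at hn ⊢
    intro z
    constructor
    · intro hz
      exact mem_subgroupOf.mp ((hn ⟨z, hHM (mem_sup_left hz)⟩).mp (mem_subgroupOf.mpr hz))
    · intro hz
      have h3 : z ∈ M := by
        have := M.mul_mem (M.mul_mem (M.inv_mem n.2) (hHM (mem_sup_left hz))) n.2
        simpa [mul_assoc] using this
      exact mem_subgroupOf.mp ((hn ⟨z, h3⟩).mpr (mem_subgroupOf.mpr hz))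
  rw [show x = (n : X) * (h : X) from (congrArg Subtype.val hnh).symm, map_mul]
  refine mul_mem (mem_map_of_mem _ hn') ?_
  have hh' : (h : X) ∈ H := hh
  rw [← hH, mem_comap] at hh'
  exact map_mono le_normalizer hh'

/-- `L_{p'}`-balance for a `p`-local subgroup under the Schreier property. -/
theorem pComponent_le_pLayer [Finite X] [Fact p.Prime]
    (hS : ∀ L : Subgroup (X ⧸ pPrimeCore p X), IsComponent L →
      Group.IsSolvable (Out (↥L ⧸ center L)))
    {R : Subgroup X} (hR : IsPGroup p R) {K : Subgroup ↥(normalizer (R : Set X))}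
    (hK : IsPComponent p K) : K.map (normalizer (R : Set X)).subtype ≤ pLayer p X := by
  have hcore := HallCore.pPrimeCore_quotient_self p X
  set f := bar p X
  set R₁ := R.map f
  have hR₁ : IsPGroup p R₁ := hR.map f
  set K' := K.map (normalizer (R : Set X)).subtype
  set K₁ := K'.map f
  have hY : (normalizer (R : Set X)).map f = normalizer (R₁ : Set (X ⧸ pPrimeCore p X)) :=
    (normalizer_map_bar hR).symm
  have hK₁le : K₁ ≤ normalizer (R₁ : Set (X ⧸ pPrimeCore p X)) :=
    hY ▸ map_mono (map_subtype_le K)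
  -- K₁ is a p-component of N(R₁)
  have hK₁ : IsPComponent p (K₁.subgroupOf (normalizer (R₁ : Set (X ⧸ pPrimeCore p X)))) := by
    have hker : (Nat.card (f.subgroupMap (normalizer (R : Set X))).ker).Coprime p := by
      refine (pPrimeCore_coprime (G := X) p).coprime_dvd_left ?_
      rw [Nat.card_congr ((f.subgroupMap (normalizer (R : Set X))).ker.equivMapOfInjective _
        (normalizer (R : Set X)).subtype_injective).toEquiv]
      refine card_dvd_of_le ?_
      rintro _ ⟨y, hy, rfl⟩
      exact (QuotientGroup.eq_one_iff _).mp (congrArg Subtype.val hy)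
    have h1 := isPComponent_map_mulEquiv (MulEquiv.subgroupCongr hY)
      (isPComponent_map (f.subgroupMap_surjective _) hker hK)
    convert h1 using 1
    rw [map_map]
    ext x
    constructor
    · intro hx
      obtain ⟨_, ⟨z, hz, rfl⟩, hzx⟩ := mem_subgroupOf.mp hx
      exact ⟨z, hz, Subtype.ext hzx⟩
    · rintro ⟨z, hz, rfl⟩
      exact mem_subgroupOf.mpr ⟨z, mem_map_of_mem _ hz, rfl⟩
  -- enlarge R₁ by O_p
  set Q := pCore p (X ⧸ pPrimeCore p X)
  set R₂ := R₁ ⊔ Q
  have hR₂ : IsPGroup p R₂ := hR₁.to_sup_of_normal_right (isPGroup_pCore p)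
  have hN12 : normalizer (R₁ : Set (X ⧸ pPrimeCore p X)) ≤ normalizer (R₂ : Set (X ⧸ pPrimeCore p X)) :=
    normalizer_le_normalizer_sup_normal
  have hperf : ⁅K₁, K₁⁆ = K₁ := by
    rw [← map_commutator, ← map_commutator, isPComponent_perfect hK]
  have key : ∀ T : Subgroup (X ⧸ pPrimeCore p X), T ≤ normalizer (R₁ : Set _) → IsPGroup p T →
      (T.subgroupOf (normalizer (R₁ : Set _))).Normal → ⁅K₁, T⁆ = ⊥ := by
    intro T hT hTp hTn
    haveI := hTn
    have h := congrArg (map (normalizer (R₁ : Set (X ⧸ pPrimeCore p X))).subtype)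
      (pComponent_commute_pGroup hK₁ (T := T.subgroupOf (normalizer (R₁ : Set _)))
        (IsPGroup.of_equiv hTp (subgroupOfEquivOfLe hT).symm))
    rwa [map_commutator, map_subgroupOf_eq_of_le hK₁le, map_subgroupOf_eq_of_le hT,
      Subgroup.map_bot] at h
  have hKQ : K₁ ≤ centralizer (Q : Set (X ⧸ pPrimeCore p X)) :=
    ComponentsNormalizer.le_centralizer_pCore hR₁ (.inl hperf) hK₁le
      (key R₁ le_normalizer hR₁ normal_in_normalizer)
      (key _ inf_le_right ((isPGroup_pCore p).to_le inf_le_left)
        (by rw [inf_subgroupOf_right]; infer_instance))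
  set W := centralizer (R₂ : Set (X ⧸ pPrimeCore p X))
  have hKW : K₁ ≤ W :=
    le_centralizer_iff.mp (sup_le (le_centralizer_iff.mp
      (commutator_eq_bot_iff_le_centralizer.mp (key R₁ le_normalizer hR₁ normal_in_normalizer)))
      (le_centralizer_iff.mp hKQ))
  have hW1 : W ≤ normalizer (R₁ : Set (X ⧸ pPrimeCore p X)) :=
    (centralizer_le (le_sup_left : R₁ ≤ R₂)).trans (centralizer_le_normalizer _)
  have hW2 : W ≤ normalizer (R₂ : Set (X ⧸ pPrimeCore p X)) := centralizer_le_normalizer _
  haveI hn2 : (W.subgroupOf (normalizer (R₂ : Set (X ⧸ pPrimeCore p X)))).Normal := by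
    refine ⟨fun y hy m => ?_⟩
    rw [mem_subgroupOf, mem_centralizer_iff] at hy ⊢
    intro r hr
    have h3 := hy ((m : X ⧸ pPrimeCore p X)⁻¹ * r * m) ((mem_normalizer_iff''.mp m.2 r).mp hr)
    have h4 := congrArg (fun t => (m : X ⧸ pPrimeCore p X) * t * (m : X ⧸ pPrimeCore p X)⁻¹) h3
    simpa [mul_assoc] using h4
  have hn1 : (W.subgroupOf (normalizer (R₁ : Set (X ⧸ pPrimeCore p X)))).Normal := by
    refine normal_subgroupOf_of_le_normalizer (hN12.trans ?_)
    exact (normal_subgroupOf_iff_le_normalizer hW2).mp hn2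
  have hK₂ : IsPComponent p (K₁.subgroupOf (normalizer (R₂ : Set (X ⧸ pPrimeCore p X)))) :=
    (isPComponent_subgroupOf_iff hW2 hn2.isSubnormal hKW).mp
      ((isPComponent_subgroupOf_iff hW1 hn1.isSubnormal hKW).mpr hK₁)
  have hle := pComponent_le_layer hcore hS hR₂ le_sup_right (hK₁le.trans hN12) hK₂
  have h2 : K₁ ≤ (pLayer p X).map f := hle.trans (le_of_eq pLayer_map_bar.symm)
  have h3 : K' ≤ pLayer p X ⊔ pPrimeCore p X := by
    have := (le_comap_map f K').trans (comap_mono h2)
    rwa [comap_map_eq, ker_bar] at this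
  have h4 : pGen p K' ≤ pLayer p X :=
    pGen_le_of_le_sup (pPrimeCore_coprime p) (Normal.isSubnormal inferInstance) h3
  refine le_trans ?_ h4
  rw [← map_pGen, pGen_pComponent hK]

end Cfsg.Agent.ComponentsBalance
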