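import Mathlib
import Cfsg.Prelude.Def_KGroupFacts
import Cfsg.Agent.Lib.ComponentsP
import Cfsg.Agent.Lib.ComponentsPMap
import Cfsg.Agent.Lib.ComponentsSchreier
import Cfsg.Agent.Lib.ComponentsBalance

/-!
# Components moved by an element of prime order

For a group `H` with trivial `p'`-core and an element `u` with `u ^ p = 1`, a `p`-component of
`C_H(u)` lies either in a component fixed by `u` or is the diagonal of an orbit of `p` components
(`exists_component_cases`); properties of the diagonal case.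
-/

set_option autoImplicit false
set_option linter.style.haveILetI false
set_option linter.unusedSectionVars false

namespace Cfsg.Agent.PTerminalDiag

open Subgroup Cfsg
open Cfsg.Agent.ComponentsBasic Cfsg.Agent.ComponentsP
open scoped commutatorElement

variable {H : Type*} [Group H] {p : ℕ}

/-- The conjugate `u ^ i * x * u ^ (-i)`. -/
def cj (u : H) (i : ℕ) (x : H) : H := u ^ i * x * (u ^ i)⁻¹

/-- `∏_{i < n} u ^ i * j * u ^ (-i)`. -/
def phi (u : H) : ℕ → H → H
  | 0, _ => 1
  | n + 1, j => phi u n j * cj u n j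

/-- `∏_{i < n} (u ^ i * t * u ^ (-i)) ^ (i + 1)`. -/
def twist (u : H) : ℕ → H → H
  | 0, _ => 1
  | n + 1, t => twist u n t * cj u n t ^ (n + 1)

theorem cj_zero (u x : H) : cj u 0 x = x := by simp [cj]

theorem cj_succ (u x : H) (i : ℕ) : cj u (i + 1) x = u * cj u i x * u⁻¹ := by
  simp [cj, pow_succ', mul_assoc]

theorem cj_mul (u x y : H) (i : ℕ) : cj u i (x * y) = cj u i x * cj u i y := by
  simp only [cj]; group

theorem cj_eq_self {u : H} (hu : u ^ p = 1) (x : H) : cj u p x = x := by
  simp [cj, hu]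

/-- The conjugate of a subgroup by `u ^ i`. -/
def cjS (u : H) (i : ℕ) (J : Subgroup H) : Subgroup H :=
  J.map (MulAut.conj (u ^ i)).toMonoidHom

theorem cj_mem {u x : H} {J : Subgroup H} (hx : x ∈ J) (i : ℕ) : cj u i x ∈ cjS u i J :=
  ⟨x, hx, rfl⟩

theorem cjS_zero (u : H) (J : Subgroup H) : cjS u 0 J = J := by
  rw [cjS, pow_zero]
  ext x
  simp

theorem cjS_add (u : H) (J : Subgroup H) (i k : ℕ) : cjS u i (cjS u k J) = cjS u (i + k) J := by
  rw [cjS, cjS, cjS, ComponentsBalance.conj_map_map, ← pow_add]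

theorem isComponent_cjS [Finite H] {J : Subgroup H} (hJ : IsComponent J) (u : H) (i : ℕ) :
    IsComponent (cjS u i J) :=
  isComponent_conj hJ (u ^ i)

section order

variable [hp : Fact p.Prime] {u : H} {J : Subgroup H}

theorem cjS_mod (hu : u ^ p = 1) (J : Subgroup H) (i : ℕ) : cjS u (i % p) J = cjS u i J := by
  rw [cjS, cjS, ← pow_mod_eq_pow_of_pow_eq_one]
  exact hu
where
  pow_mod_eq_pow_of_pow_eq_one {u : H} {p i : ℕ} (hu : u ^ p = 1) : u ^ i = u ^ (i % p) := by
    conv_lhs => rw [← Nat.mod_add_div i p, pow_add, pow_mul, hu, one_pow, mul_one]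

/-- An element of prime order moving `J` moves it in an orbit of size `p`. -/
theorem cjS_ne (hu : u ^ p = 1) (hn : u ∉ normalizer (J : Set H)) {i k : ℕ} (hik : i < k)
    (hk : k < p) : cjS u i J ≠ cjS u k J := by
  intro h
  have h1 : cjS u (k - i) J = J := by
    have h2 := congrArg (cjS u (p - i)) h
    rw [cjS_add, cjS_add, show p - i + i = p by omega, show p - i + k = (k - i) + p by omega,
      ← cjS_mod hu J p, Nat.mod_self, cjS_zero, ← cjS_mod hu J (k - i + p),
      Nat.add_mod_right, cjS_mod hu J (k - i)] at h2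
    exact h2.symm
  have hmem : u ^ (k - i) ∈ normalizer (J : Set H) := mem_normalizer_iff_map_conj_eq.mpr h1
  have hco : (k - i).Coprime p :=
    ((Fact.out : p.Prime).coprime_iff_not_dvd.mpr
      (fun hd => by have := Nat.le_of_dvd (by omega) hd; omega)).symm
  obtain ⟨m, hm⟩ := exists_pow_eq_self_of_coprime
    (hco.coprime_dvd_right (orderOf_dvd_of_pow_eq_one hu))
  exact hn (hm ▸ pow_mem hmem m)

variable [Finite H] (hJ : IsComponent J) (hu : u ^ p = 1) (hn : u ∉ normalizer (J : Set H))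

include hJ hu hn

theorem commute_cj {i k : ℕ} (hik : i < p) (hk : k < p) (hne : i ≠ k) {x y : H}
    (hx : x ∈ cjS u i J) (hy : y ∈ cjS u k J) : Commute x y := by
  have hne' : cjS u i J ≠ cjS u k J := by
    rcases lt_or_gt_of_ne hne with h | h
    · exact cjS_ne hu hn h hk
    · exact (cjS_ne hu hn h hik).symm
  have h := components_commute (isComponent_cjS hJ u i) (isComponent_cjS hJ u k) hne'
  exact (mem_centralizer_iff.mp (commutator_eq_bot_iff_le_centralizer.mp h hx) y hy).symm

theorem phi_commute {n k : ℕ} (hnk : n ≤ k) (hk : k < p) {j y : H} (hj : j ∈ J)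
    (hy : y ∈ cjS u k J) : Commute (phi u n j) y := by
  induction n with
  | zero => exact Commute.one_left y
  | succ n ih =>
    exact (ih (by omega)).mul_left (commute_cj hJ hu hn (by omega) hk (by omega) (cj_mem hj n) hy)

theorem phi_mul {n : ℕ} (hle : n ≤ p) {a b : H} (ha : a ∈ J) (hb : b ∈ J) :
    phi u n (a * b) = phi u n a * phi u n b := by
  induction n with
  | zero => simp [phi]
  | succ n ih =>
    simp only [phi, ih (by omega), cj_mul]
    exact (phi_commute hJ hu hn le_rfl (by omega) hb (cj_mem ha n)).mul_mul_mul_comm _ _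

theorem phi_succ' (n : ℕ) (j : H) : phi u (n + 1) j = j * (u * phi u n j * u⁻¹) := by
  induction n with
  | zero => simp [phi, cj_zero]
  | succ n ih =>
    calc phi u (n + 2) j = phi u (n + 1) j * cj u (n + 1) j := rfl
      _ = j * (u * phi u n j * u⁻¹) * (u * cj u n j * u⁻¹) := by rw [ih, cj_succ]
      _ = j * (u * (phi u n j * cj u n j) * u⁻¹) := by group
      _ = j * (u * phi u (n + 1) j * u⁻¹) := rfl

theorem shifted_commute {n : ℕ} (hlt : n < p) {j y : H} (hj : j ∈ J) (hy : y ∈ J) :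
    Commute (u * phi u n j * u⁻¹) y := by
  induction n with
  | zero => simp [phi]
  | succ n ih =>
    have e : u * phi u (n + 1) j * u⁻¹ = u * phi u n j * u⁻¹ * cj u (n + 1) j := by
      rw [cj_succ]; simp only [phi]; group
    rw [e]
    refine (ih (by omega)).mul_left ?_
    exact commute_cj hJ hu hn hlt (Fact.out : p.Prime).pos (by omega) (cj_mem hj _)
      (by rw [cjS_zero]; exact hy)

theorem phi_eq_mul (j : H) : phi u p j = j * (u * phi u (p - 1) j * u⁻¹) := by
  have h : p - 1 + 1 = p := Nat.sub_add_cancel (Fact.out : p.Prime).pos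
  have := phi_succ' hJ hu hn (p - 1) j
  rwa [h] at this

theorem phi_commute_self {j : H} (hj : j ∈ J) : Commute (phi u p j) j := by
  rw [phi_eq_mul hJ hu hn]
  exact (Commute.refl j).mul_left
    (shifted_commute hJ hu hn (by have := (Fact.out : p.Prime).pos; omega) hj hj)

theorem phi_fixed {j : H} (hj : j ∈ J) : u * phi u p j * u⁻¹ = phi u p j := by
  have h1 : phi u (p + 1) j = phi u p j * j := by simp [phi, cj_eq_self hu]
  rw [phi_succ' hJ hu hn p, (phi_commute_self hJ hu hn hj).eq] at h1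
  exact mul_left_cancel h1

theorem phi_conj {j x : H} (hj : j ∈ J) (hx : x ∈ J) :
    phi u p j * x * (phi u p j)⁻¹ = j * x * j⁻¹ := by
  have h := shifted_commute hJ hu hn (n := p - 1)
    (by have := (Fact.out : p.Prime).pos; omega) hj hx
  rw [phi_eq_mul hJ hu hn, mul_inv_rev]
  calc j * (u * phi u (p - 1) j * u⁻¹) * x * ((u * phi u (p - 1) j * u⁻¹)⁻¹ * j⁻¹)
      = j * ((u * phi u (p - 1) j * u⁻¹) * x) * ((u * phi u (p - 1) j * u⁻¹)⁻¹ * j⁻¹) := by group
    _ = j * (x * (u * phi u (p - 1) j * u⁻¹)) * ((u * phi u (p - 1) j * u⁻¹)⁻¹ * j⁻¹) := by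
        rw [h.eq]
    _ = j * x * j⁻¹ := by group

/-- The diagonal map on `J`. -/
def phiHom : ↥J →* H :=
  MonoidHom.mk' (fun j => phi u p (j : H)) fun a b => phi_mul hJ hu hn le_rfl a.2 b.2

theorem phi_pow {j : H} (hj : j ∈ J) (k : ℕ) : phi u p (j ^ k) = phi u p j ^ k :=
  map_pow (phiHom hJ hu hn) ⟨j, hj⟩ k

theorem phi_inv {j : H} (hj : j ∈ J) : phi u p j⁻¹ = (phi u p j)⁻¹ :=
  map_inv (phiHom hJ hu hn) ⟨j, hj⟩

theorem phi_one : phi u p 1 = 1 := map_one (phiHom hJ hu hn)

theorem phi_commute_cj {j : H} (hj : j ∈ J) (i : ℕ) : Commute (phi u p j) (cj u i j) := by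
  induction i with
  | zero => rw [cj_zero]; exact phi_commute_self hJ hu hn hj
  | succ i ih =>
    rw [cj_succ, ← phi_fixed hJ hu hn hj]
    exact ih.map (MulAut.conj u).toMonoidHom

theorem phi_commute_twist {t : H} (ht : t ∈ J) (n : ℕ) :
    Commute (phi u p t) (twist u n t) := by
  induction n with
  | zero => exact Commute.one_right _
  | succ n ih => exact ih.mul_right ((phi_commute_cj hJ hu hn ht n).pow_right _)

theorem shifted_twist {n : ℕ} (hlt : n < p) {t : H} (ht : t ∈ J) :
    u * twist u n t * u⁻¹ * phi u (n + 1) t = twist u (n + 1) t := by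
  induction n with
  | zero => simp [twist, phi, cj_zero]
  | succ n ih =>
    have hc : Commute (phi u (n + 1) t) (cj u (n + 1) t) :=
      phi_commute hJ hu hn le_rfl hlt ht (cj_mem ht _)
    calc u * twist u (n + 1) t * u⁻¹ * phi u (n + 2) t
        = u * twist u n t * u⁻¹ * (u * cj u n t * u⁻¹) ^ (n + 1) *
            (phi u (n + 1) t * cj u (n + 1) t) := by
          rw [show twist u (n + 1) t = twist u n t * cj u n t ^ (n + 1) from rfl,
            show phi u (n + 2) t = phi u (n + 1) t * cj u (n + 1) t from rfl, conj_pow]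
          group
      _ = u * twist u n t * u⁻¹ * (cj u (n + 1) t ^ (n + 1) * phi u (n + 1) t) *
            cj u (n + 1) t := by
          rw [← cj_succ]; group
      _ = u * twist u n t * u⁻¹ * phi u (n + 1) t * cj u (n + 1) t ^ (n + 2) := by
          rw [← (hc.pow_right (n + 1)).eq, pow_succ _ (n + 1)]; group
      _ = twist u (n + 2) t := by rw [ih (by omega)]; rfl

/-- The conjugation moving `u` to its product with a diagonal element of order `p`. -/
theorem exists_conj_eq {t : H} (ht : t ∈ J) (htp : t ^ p = 1) :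
    ∃ a : H, a * u * a⁻¹ = (phi u p t)⁻¹ * u ∧ Commute a (phi u p t) := by
  have h1 : p - 1 + 1 = p := Nat.sub_add_cancel (Fact.out : p.Prime).pos
  set v := twist u p t
  have hv : v = twist u (p - 1) t * cj u (p - 1) t ^ p := by
    conv_lhs => rw [show v = twist u p t from rfl, ← h1]
    rw [twist, h1]
  have hc : cj u (p - 1) t ^ p = 1 := by
    rw [cj, conj_pow, htp, mul_one, mul_inv_cancel]
  have h2 : u * v * u⁻¹ * phi u p t = v := by
    have h3 := shifted_twist hJ hu hn (n := p - 1)
      (by have := (Fact.out : p.Prime).pos; omega) ht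
    rw [h1] at h3
    rw [hv, hc, mul_one, h3, show twist u p t = v from rfl, hv, hc, mul_one]
  have hcv : Commute (phi u p t) v := phi_commute_twist hJ hu hn ht p
  refine ⟨v⁻¹, ?_, hcv.symm.inv_left⟩
  have hcu : Commute (phi u p t) u := (mul_inv_eq_iff_eq_mul.mp (phi_fixed hJ hu hn ht)).symm
  rw [inv_inv]
  calc v⁻¹ * u * v = v⁻¹ * (u * v * u⁻¹ * phi u p t) * (phi u p t)⁻¹ * u := by group
    _ = (phi u p t)⁻¹ * u := by rw [h2]; group

theorem commutator_component_ne {L : Subgroup H}
    (hL : ∀ j ∈ J, phi u p j ∈ L) : ⁅J, L⁆ ≠ ⊥ := by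
  intro h
  have hab : ∀ x ∈ J, ∀ j ∈ J, j * x * j⁻¹ = x := by
    intro x hx j hj
    rw [← phi_conj hJ hu hn hj hx]
    have := mem_centralizer_iff.mp (commutator_eq_bot_iff_le_centralizer.mp h hx) _ (hL j hj)
    rw [this, mul_inv_cancel_right]
  refine IsComponent.ne_bot hJ ?_
  rw [← IsComponent.perfect hJ, commutator_eq_bot_iff_le_centralizer]
  exact fun x hx => mem_centralizer_iff.mpr fun j hj => mul_inv_eq_iff_eq_mul.mp (hab x hx j hj)

/-- The orbit of the components under `u`. -/
theorem exists_cjS_eq {L : Subgroup H} (hL : ∀ j ∈ J, phi u p j ∈ L) {K : Subgroup H}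
    (hK : IsComponent K) (hne : ⁅K, L⁆ ≠ ⊥) (hLle : ∀ l ∈ L, ∃ j ∈ J, l = phi u p j) :
    ∃ i < p, K = cjS u i J := by
  by_contra hcon
  push Not at hcon
  refine hne (commutator_eq_bot_iff_le_centralizer.mpr fun x hx => ?_)
  rw [mem_centralizer_iff]
  intro l hl
  obtain ⟨j, hj, rfl⟩ := hLle l hl
  suffices h : ∀ n ≤ p, Commute (phi u n j) x from (h p le_rfl).eq
  intro n hle
  induction n with
  | zero => exact Commute.one_left x
  | succ n ih =>
    refine (ih (by omega)).mul_left ?_
    have h := components_commute (isComponent_cjS hJ u n) hK fun h => hcon n (by omega) h.symm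
    exact (mem_centralizer_iff.mp (commutator_eq_bot_iff_le_centralizer.mp h (cj_mem hj n)) x hx).symm

/-- An element fixing the diagonal is a power of `u` times an element centralizing `J`. -/
theorem exists_pow_mul_mem {L : Subgroup H} (hL : ∀ j ∈ J, phi u p j ∈ L)
    (hLle : ∀ l ∈ L, ∃ j ∈ J, l = phi u p j) {c : H} (hc : c ∈ centralizer (L : Set H)) :
    ∃ i : ℕ, u ^ i * c ∈ centralizer (J : Set H) := by
  have hK := isComponent_conj hJ c
  have hne : ⁅J.map (MulAut.conj c).toMonoidHom, L⁆ ≠ ⊥ := by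
    intro h
    refine commutator_component_ne hJ hu hn hL (commutator_eq_bot_iff_le_centralizer.mpr
      fun x hx => mem_centralizer_iff.mpr fun l hl => ?_)
    have h2 := mem_centralizer_iff.mp (commutator_eq_bot_iff_le_centralizer.mp h
      (mem_map_of_mem _ hx)) l hl
    have h3 : l * c = c * l := mem_centralizer_iff.mp hc l hl
    change l * (c * x * c⁻¹) = c * x * c⁻¹ * l at h2
    have h4 : c⁻¹ * l = l * c⁻¹ := by
      rw [inv_mul_eq_iff_eq_mul, ← mul_assoc, ← h3, mul_inv_cancel_right]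
    apply mul_left_cancel (a := c)
    apply mul_right_cancel (b := c⁻¹)
    calc c * (l * x) * c⁻¹ = l * (c * x * c⁻¹) := by rw [← mul_assoc c l, ← h3]; group
      _ = c * x * c⁻¹ * l := h2
      _ = c * (x * l) * c⁻¹ := by rw [mul_assoc (c * x) c⁻¹ l, h4]; group
  obtain ⟨i, hi, he⟩ := exists_cjS_eq hJ hu hn hL hK hne hLle
  refine ⟨p - i, ?_⟩
  set d := u ^ (p - i) * c
  have hd : d ∈ normalizer (J : Set H) := by
    rw [mem_normalizer_iff_map_conj_eq]
    show J.map (MulAut.conj d).toMonoidHom = J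
    rw [← ComponentsBalance.conj_map_map, he]
    show cjS u (p - i) (cjS u i J) = J
    rw [cjS_add, show p - i + i = p by omega, ← cjS_mod hu J p, Nat.mod_self, cjS_zero]
  have hdL : ∀ j ∈ J, d * phi u p j * d⁻¹ = phi u p j := by
    intro j hj
    have h1 : phi u p j * c = c * phi u p j := mem_centralizer_iff.mp hc _ (hL j hj)
    have h2 : Commute (u ^ (p - i)) (phi u p j) :=
      (Commute.symm (mul_inv_eq_iff_eq_mul.mp (phi_fixed hJ hu hn hj)).symm).pow_left _
    have h3 : Commute d (phi u p j) := h2.mul_left h1.symm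
    rw [h3.eq, mul_inv_cancel_right]
  refine ComponentsSchreier.mem_centralizer_of_mod_center (IsComponent.perfect hJ)
    fun x hx => Subgroup.mem_inf.mpr
      ⟨mul_mem (inv_mem hx) (mem_normalizer_iff.mp hd x |>.mp hx), ?_⟩
  rw [mem_centralizer_iff]
  intro y hy
  set x' := d * x * d⁻¹
  have hx' : x' ∈ J := mem_normalizer_iff.mp hd x |>.mp hx
  set y0 := d⁻¹ * y * d
  have hy0 : y0 ∈ J := by
    have := mem_normalizer_iff.mp hd y0
    refine this.mpr ?_
    rwa [show d * y0 * d⁻¹ = y by simp only [y0]; group]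
  have h4 : phi u p x * y * (phi u p x)⁻¹ = x * y * x⁻¹ := phi_conj hJ hu hn hx hy
  have h5 : phi u p x * y0 * (phi u p x)⁻¹ = x * y0 * x⁻¹ := phi_conj hJ hu hn hx hy0
  have h6 : x' * y * x'⁻¹ = x * y * x⁻¹ := by
    rw [← h4]
    calc x' * y * x'⁻¹ = d * (x * y0 * x⁻¹) * d⁻¹ := by simp only [x', y0]; group
      _ = d * (phi u p x * y0 * (phi u p x)⁻¹) * d⁻¹ := by rw [h5]
      _ = (d * phi u p x * d⁻¹) * (d * y0 * d⁻¹) * (d * phi u p x * d⁻¹)⁻¹ := by group
      _ = phi u p x * y * (phi u p x)⁻¹ := by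
          rw [hdL x hx]; simp only [y0]; group
  calc y * (x⁻¹ * x') = x⁻¹ * (x * y * x⁻¹) * x' := by group
    _ = x⁻¹ * (x' * y * x'⁻¹) * x' := by rw [h6]
    _ = x⁻¹ * x' * y := by group

end order

/-! ### The Sylow 2-subgroups of simple groups -/

theorem four_dvd_card_of_simple {S : Type*} [Group S] [Finite S] [IsSimpleGroup S]
    (hna : ¬ IsMulCommutative S) (h2 : 2 ∣ Nat.card S) : 4 ∣ Nat.card S := by
  by_contra h4
  obtain ⟨P⟩ := (inferInstance : Nonempty (Sylow 2 S))
  haveI : Fact (Nat.Prime 2) := ⟨Nat.prime_two⟩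
  have hP : Nat.card P = 2 := by
    obtain ⟨k, hk⟩ := IsPGroup.iff_card.mp P.2
    have h1 := P.dvd_card_of_dvd_card h2
    have h3 := Subgroup.card_subgroup_dvd_card (P : Subgroup S)
    rw [hk] at h3 h1 ⊢
    match k with
    | 0 => simp at h1
    | 1 => rfl
    | k + 2 => exact absurd ((pow_dvd_pow 2 (Nat.le_add_left 2 k)).trans h3) h4
  have hcyc : IsCyclic P := isCyclic_of_prime_card hP
  have hmin : (Nat.card S).minFac = 2 := (Nat.minFac_eq_two_iff _).mpr h2
  have hcompl := IsCyclic.isComplement' hmin hcyc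
  set N := (MonoidHom.transferSylow P (hcyc.normalizer_le_centralizer hmin)).ker
  have hmul := hcompl.card_mul
  rcases IsSimpleGroup.eq_bot_or_eq_top_of_normal N inferInstance with h | h
  · rw [h, Subgroup.card_bot, one_mul, hP] at hmul
    haveI : IsCyclic S := isCyclic_of_prime_card hmul.symm
    exact hna (IsCyclic.commutative)
  · rw [h, Subgroup.card_top, hP] at hmul
    have := (Nat.card_pos : 0 < Nat.card S)
    omega

section cases

variable [hp : Fact p.Prime] [Finite H]

theorem center_dvd_of_component (hcore : pPrimeCore p H = ⊥) {J : Subgroup H} (hJ : IsComponent J) :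
    p ^ 1 ∣ (center J).index ∧ (p = 2 → p ^ 2 ∣ (center J).index) := by
  refine ⟨by simpa using component_dvd_index_center hcore hJ, fun h2 => ?_⟩
  subst h2
  haveI := hJ.2.2
  exact four_dvd_card_of_simple (quotient_center_not_commutative hJ.2)
    (component_dvd_index_center hcore hJ)

/-- A `p`-group centralizing a component, joined with a Sylow subgroup of the component. -/
theorem exists_sup_sylow {T J : Subgroup H} (hT : IsPGroup p T) (hTJ : T ≤ centralizer (J : Set H))
    {e : ℕ} (he : p ^ e ∣ (center J).index) :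
    ∃ T' : Subgroup H, IsPGroup p T' ∧ T' ≤ T ⊔ J ∧ p ^ e * Nat.card T ∣ Nat.card T' := by
  obtain ⟨S0⟩ := (inferInstance : Nonempty (Sylow p J))
  set S := (S0 : Subgroup J).map J.subtype
  have hSJ : S ≤ J := map_subtype_le _
  have hS : IsPGroup p S := S0.2.map _
  have hn : S ≤ normalizer (T : Set H) := fun s hs =>
    centralizer_le_normalizer_of_le hTJ (hSJ hs)
  refine ⟨T ⊔ S, hT.to_sup_of_normal_left' hS hn, sup_le_sup le_rfl hSJ, ?_⟩
  obtain ⟨a, ha⟩ := IsPGroup.iff_card.mp hT
  obtain ⟨b, hb⟩ := IsPGroup.iff_card.mp hS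
  obtain ⟨c, hc⟩ := IsPGroup.iff_card.mp (hT.to_le (inf_le_left : T ⊓ S ≤ T))
  obtain ⟨d, hd⟩ := IsPGroup.iff_card.mp (hT.to_sup_of_normal_left' hS hn)
  have hprod : Nat.card ↥(T ⊔ S) * Nat.card ↥(T ⊓ S) = Nat.card T * Nat.card S := by
    haveI : (T.subgroupOf (T ⊔ S)).Normal :=
      normal_subgroupOf_of_le_normalizer (sup_le le_normalizer hn)
    set K := T ⊔ S
    have h1 : (T.subgroupOf K).relIndex (S.subgroupOf K ⊔ T.subgroupOf K) =
        (T.subgroupOf K).relIndex (S.subgroupOf K) := relIndex_sup_right _ _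
    rw [← subgroupOf_sup le_sup_right le_sup_left, sup_comm S T, subgroupOf_self, relIndex_top_right,
      relIndex_subgroupOf (le_sup_right : S ≤ K)] at h1
    change T.relIndex K = T.relIndex S at h1
    rw [← HallCore.card_mul_relIndex (le_sup_left : T ≤ K), h1, ← inf_relIndex_right T S,
      ← HallCore.card_mul_relIndex (inf_le_right : T ⊓ S ≤ S)]
    ring
  have hz : p ^ c ∣ Nat.card (center J) := by
    rw [← hc]
    have h : T ⊓ S ≤ (center J).map J.subtype := by
      rw [map_center_subtype]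
      exact fun x hx => ⟨hSJ hx.2, hTJ hx.1⟩
    exact (card_dvd_of_le h).trans
      (dvd_of_eq (card_map_of_injective J.subtype_injective))
  have hSc : Nat.card S = p ^ (Nat.card J).factorization p := by
    rw [card_map_of_injective J.subtype_injective]
    exact S0.card_eq_multiplicity
  have hbc : e + c ≤ b := by
    have h1 : p ^ (e + c) ∣ Nat.card J := by
      rw [← card_mul_index (center J), mul_comm, pow_add]
      exact mul_dvd_mul he hz
    rw [Nat.Prime.pow_dvd_iff_le_factorization Fact.out Nat.card_pos.ne'] at h1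
    have : b = (Nat.card J).factorization p :=
      Nat.pow_right_injective (Fact.out : p.Prime).two_le (hb.symm.trans hSc)
    omega
  rw [ha, hd, ← pow_add]
  rw [ha, hb, hc, hd, ← pow_add, ← pow_add] at hprod
  have := Nat.pow_right_injective (Fact.out : p.Prime).two_le hprod
  exact pow_dvd_pow p (by omega)
where
  centralizer_le_normalizer_of_le {T J : Subgroup H} (h : T ≤ centralizer (J : Set H)) {s : H}
      (hs : s ∈ J) : s ∈ normalizer (T : Set H) := by
    refine centralizer_le_normalizer (mem_centralizer_iff.mpr fun t ht => ?_)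
    exact (mem_centralizer_iff.mp (h ht) s hs).symm
  centralizer_le_normalizer {X : Subgroup H} {s : H} (hs : s ∈ centralizer (X : Set H)) :
      s ∈ normalizer (X : Set H) := by
    rw [mem_normalizer_iff]
    intro x
    constructor
    · intro hx
      rwa [← mem_centralizer_iff.mp hs x hx, mul_inv_cancel_right]
    · intro hx
      have := mem_centralizer_iff.mp hs _ hx
      have h2 : x = s * x * s⁻¹ := by
        calc x = s⁻¹ * (s * x * s⁻¹ * s) := by group
          _ = s⁻¹ * (s * (s * x * s⁻¹)) := by rw [this]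
          _ = s * x * s⁻¹ := by group
      rwa [h2]

variable {u : H} {L : Subgroup H}

/-- A `p`-component of `C(u)` in the layer lies in a fixed component or in a diagonal. -/
theorem exists_component_cases (hu : u ^ p = 1) (hLc : L ≤ centralizer {u})
    (hLp : IsPComponent p (L.subgroupOf (centralizer {u}))) (hLE : L ≤ layer H) :
    ∃ J : Subgroup H, IsComponent J ∧ ((u ∈ normalizer (J : Set H) ∧ L ≤ J) ∨
      (u ∉ normalizer (J : Set H) ∧ ∀ l ∈ L, ∃ j ∈ J, l = phi u p j)) := by
  classical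
  set C := centralizer ({u} : Set H)
  have hperf : ⁅L, L⁆ = L := by
    have h := congrArg (map C.subtype) (isPComponent_perfect hLp)
    rwa [map_commutator, map_subgroupOf_eq_of_le hLc] at h
  have hLne : L ≠ ⊥ := fun h => isPComponent_ne_bot hLp (by rw [h]; simp)
  obtain ⟨J, hJ, hJL⟩ : ∃ J, IsComponent J ∧ ⁅J, L⁆ ≠ ⊥ := by
    by_contra hcon
    push Not at hcon
    refine hLne ?_
    rw [← hperf, commutator_eq_bot_iff_le_centralizer]
    refine hLE.trans (sSup_le fun J hJ => ?_)
    exact commutator_eq_bot_iff_le_centralizer.mp (hcon J hJ)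
  refine ⟨J, hJ, ?_⟩
  set W := ⨆ i : ℕ, cjS u i J
  set W' := ⨆ K : {K : Subgroup H // IsComponent K ∧ ∀ i, K ≠ cjS u i J}, (K : Subgroup H)
  have hWW' : W ≤ centralizer (W' : Set H) := by
    refine iSup_le fun i => le_centralizer_iff.mp (iSup_le fun K => ?_)
    exact commutator_eq_bot_iff_le_centralizer.mp
      (components_commute K.2.1 (isComponent_cjS hJ u i) (K.2.2 i))
  have hEle : layer H ≤ W ⊔ W' := by
    refine sSup_le fun K hK => ?_
    by_cases h : ∃ i, K = cjS u i J
    · obtain ⟨i, rfl⟩ := h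
      exact le_sup_of_le_left (le_iSup (fun i => cjS u i J) i)
    · push Not at h
      exact le_sup_of_le_right (le_iSup_of_le (⟨K, hK, h⟩ :
        {K : Subgroup H // IsComponent K ∧ ∀ i, K ≠ cjS u i J}) le_rfl)
  have hWE : W ≤ layer H := iSup_le fun i => component_le_layer (isComponent_cjS hJ u i)
  have hW'E : W' ≤ layer H := iSup_le fun K => component_le_layer K.2.1
  have hWu : ∀ w ∈ W, u * w * u⁻¹ ∈ W := by
    intro w hw
    have h : W ≤ W.comap (MulAut.conj u).toMonoidHom := by
      refine iSup_le fun i x hx => ?_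
      obtain ⟨j, hj, rfl⟩ := hx
      refine mem_iSup_of_mem (i + 1) ⟨j, hj, ?_⟩
      change u ^ (i + 1) * j * (u ^ (i + 1))⁻¹ = u * (u ^ i * j * (u ^ i)⁻¹) * u⁻¹
      rw [pow_succ']; group
    exact h hw
  have hW'u : ∀ w ∈ W', u * w * u⁻¹ ∈ W' := by
    intro w hw
    have h : W' ≤ W'.comap (MulAut.conj u).toMonoidHom := by
      refine iSup_le fun K x hx => ?_
      refine mem_iSup_of_mem (⟨K.1.map (MulAut.conj u).toMonoidHom, isComponent_conj K.2.1 u,
        fun i he => K.2.2 (p - 1 + i) ?_⟩ :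
        {K : Subgroup H // IsComponent K ∧ ∀ i, K ≠ cjS u i J}) (mem_map_of_mem _ hx)
      have h1 := congrArg (cjS u (p - 1)) he
      rw [cjS_add] at h1
      rw [← h1, cjS, ComponentsBalance.conj_map_map, ← pow_succ,
        Nat.sub_add_cancel (Fact.out : p.Prime).pos, hu]
      ext z; simp
    exact h hw
  -- fixed elements split
  set V := W ⊓ C
  set V' := W' ⊓ C
  have hsplit : L ≤ V ⊔ V' := by
    rw [← hperf, commutator_le]
    intro e₁ he₁ e₂ he₂
    have hdec : ∀ e ∈ L, ∃ w ∈ W, ∃ w' ∈ W', e = w * w' ∧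
        u * w * u⁻¹ * w⁻¹ ∈ W ⊓ W' := by
      intro e he
      have hn : W' ≤ normalizer (W : Set H) := fun x hx =>
        exists_sup_sylow.centralizer_le_normalizer (le_centralizer_iff.mp hWW' hx)
      have h := (hLE.trans hEle) he
      rw [← SetLike.mem_coe, coe_mul_of_right_le_normalizer_left W W' hn] at h
      obtain ⟨w, hw, w', hw', rfl⟩ := h
      refine ⟨w, hw, w', hw', rfl, Subgroup.mem_inf.mpr
        ⟨mul_mem (hWu w hw) (inv_mem hw), ?_⟩⟩
      have hc : (w * w') * u = u * (w * w') := mem_centralizer_singleton_iff.mp (hLc he)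
      have hw'w : Commute w w' := (mem_centralizer_iff.mp (hWW' hw) w' hw').symm
      have h2 : u * w * u⁻¹ * w⁻¹ = w * (w' * (u * w' * u⁻¹)⁻¹) * w⁻¹ := by
        have h3 : u * (w * w') * u⁻¹ = w * w' := by rw [← hc, mul_inv_cancel_right]
        calc u * w * u⁻¹ * w⁻¹ = u * (w * w') * u⁻¹ * (u * w' * u⁻¹)⁻¹ * w⁻¹ := by group
          _ = _ := by rw [h3]; group
      rw [h2]
      have hm : w' * (u * w' * u⁻¹)⁻¹ ∈ W' := mul_mem hw' (inv_mem (hW'u w' hw'))
      rw [← (mem_centralizer_iff.mp (hWW' hw) _ hm), mul_inv_cancel_right]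
      exact hm
    obtain ⟨w₁, hw₁, w₁', hw₁', rfl, hz₁⟩ := hdec e₁ he₁
    obtain ⟨w₂, hw₂, w₂', hw₂', rfl, hz₂⟩ := hdec e₂ he₂
    have hc : ∀ {a b}, a ∈ W → b ∈ W' → Commute a b :=
      fun ha hb => (mem_centralizer_iff.mp (hWW' ha) _ hb).symm
    have heq : ⁅w₁ * w₁', w₂ * w₂'⁆ = ⁅w₁, w₂⁆ * ⁅w₁', w₂'⁆ := by
      simp only [commutatorElement_def]
      have c1 := hc hw₁ hw₂'
      have c2 := hc hw₂ hw₁'
      calc w₁ * w₁' * (w₂ * w₂') * (w₁ * w₁')⁻¹ * (w₂ * w₂')⁻¹
          = w₁ * (w₁' * w₂) * (w₂' * w₁'⁻¹) * (w₁⁻¹ * w₂'⁻¹) * w₂⁻¹ := by group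
        _ = w₁ * (w₂ * w₁') * (w₂' * w₁'⁻¹) * (w₂'⁻¹ * w₁⁻¹) * w₂⁻¹ := by
            rw [c2.eq, c1.inv_inv.eq]
        _ = w₁ * w₂ * ((w₁' * w₂' * w₁'⁻¹ * w₂'⁻¹) * (w₁⁻¹ * w₂⁻¹)) := by group
        _ = w₁ * w₂ * ((w₁⁻¹ * w₂⁻¹) * (w₁' * w₂' * w₁'⁻¹ * w₂'⁻¹)) := by
            rw [(hc (mul_mem (inv_mem hw₁) (inv_mem hw₂))
              (mul_mem (mul_mem (mul_mem hw₁' hw₂') (inv_mem hw₁')) (inv_mem hw₂'))).eq]
        _ = _ := by group
    have hfix : ∀ {a b}, a ∈ W → b ∈ W → u * a * u⁻¹ * a⁻¹ ∈ W ⊓ W' →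
        u * b * u⁻¹ * b⁻¹ ∈ W ⊓ W' → ⁅a, b⁆ * u = u * ⁅a, b⁆ := by
      intro a b ha hb hza hzb
      set z := u * a * u⁻¹ * a⁻¹
      set z' := u * b * u⁻¹ * b⁻¹
      have h1 : u * ⁅a, b⁆ * u⁻¹ = ⁅z * a, z' * b⁆ := by
        rw [conjugate_commutatorElement]
        congr 1 <;> simp only [z, z'] <;> group
      have cz : ∀ {g}, g ∈ W → Commute z g := fun hg => (hc hg hza.2).symm
      have cz' : ∀ {g}, g ∈ W → Commute z' g := fun hg => (hc hg hzb.2).symm
      have h2 : ⁅z * a, z' * b⁆ = ⁅a, b⁆ := by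
        have hz2 : z' * b ∈ W := mul_mem hzb.1 hb
        have hcomm : ⁅a, b⁆ ∈ W := by
          rw [commutatorElement_def]
          exact mul_mem (mul_mem (mul_mem ha hb) (inv_mem ha)) (inv_mem hb)
        rw [commutatorElement_mul_left_eq_conj_mul, (cz hz2).commutator_eq, mul_one,
          commutatorElement_mul_right_eq_mul_conj, ((cz' ha).symm).commutator_eq, one_mul,
          (cz' hcomm).eq, mul_inv_cancel_right, (cz hcomm).eq, mul_inv_cancel_right]
      rw [← mul_inv_eq_iff_eq_mul.mp (h1.trans h2)]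
    rw [heq]
    have hV : ⁅w₁, w₂⁆ ∈ V := by
      refine Subgroup.mem_inf.mpr ⟨?_, mem_centralizer_singleton_iff.mpr (hfix hw₁ hw₂ hz₁ hz₂)⟩
      rw [commutatorElement_def]
      exact mul_mem (mul_mem (mul_mem hw₁ hw₂) (inv_mem hw₁)) (inv_mem hw₂)
    have htot : ⁅w₁ * w₁', w₂ * w₂'⁆ ∈ C := by
      rw [commutatorElement_def]
      exact mul_mem (mul_mem (mul_mem (hLc he₁) (hLc he₂)) (inv_mem (hLc he₁)))
        (inv_mem (hLc he₂))
    rw [heq] at htot
    refine mul_mem (mem_sup_left hV) (mem_sup_right (Subgroup.mem_inf.mpr ⟨?_, ?_⟩))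
    · rw [commutatorElement_def]
      exact mul_mem (mul_mem (mul_mem hw₁' hw₂') (inv_mem hw₁')) (inv_mem hw₂')
    · have := C.mul_mem (C.inv_mem hV.2) htot
      rwa [inv_mul_cancel_left] at this
  have hsn : ∀ U : Subgroup H, U ≤ layer H → layer H ≤ normalizer (U : Set H) →
      ((U ⊓ C).subgroupOf C).IsSubnormal := by
    intro U hUE hUn
    rw [inf_subgroupOf_right]
    exact isSubnormal_of_le_normalizer (K := (layer H).subgroupOf C) (fun x hx => hUE hx)
      (Normal.isSubnormal inferInstance) fun x hx =>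
        mem_normalizer_iff.mpr fun y => mem_normalizer_iff.mp (hUn hx) y
  have hWn : layer H ≤ normalizer (W : Set H) := by
    intro e he
    exact (iInf_normalizer_le_normalizer_iSup _) (mem_iInf.mpr fun i =>
      layer_le_normalizer_component (isComponent_cjS hJ u i) he)
  have hW'n : layer H ≤ normalizer (W' : Set H) := by
    intro e he
    exact (iInf_normalizer_le_normalizer_iSup _) (mem_iInf.mpr fun K =>
      layer_le_normalizer_component K.2.1 he)
  have hLW : L ≤ W := by
    rcases pComponent_le_or_commutator_le hLp (hsn W hWE hWn) with h | h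
    · exact fun x hx => (mem_subgroupOf.mp (h (mem_subgroupOf.mpr hx : ⟨x, hLc hx⟩ ∈ _))).1
    rcases pComponent_le_or_commutator_le hLp (hsn W' hW'E hW'n) with h' | h'
    · refine absurd (commutator_eq_bot_iff_le_centralizer.mpr ?_) hJL
      refine le_centralizer_iff.mp fun x hx => ?_
      exact centralizer_le (show (J : Set H) ⊆ W from fun y hy =>
          mem_iSup_of_mem 0 (by rw [cjS_zero]; exact hy))
        (le_centralizer_iff.mp hWW' (mem_subgroupOf.mp (h' (mem_subgroupOf.mpr hx :
          ⟨x, hLc hx⟩ ∈ L.subgroupOf C))).1)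
    exfalso
    refine isPComponent_not_le_core hLp ?_
    conv_lhs => rw [← isPComponent_perfect hLp]
    set R := pPrimeCore p C
    have hle : L.subgroupOf C ≤ (W ⊓ C).subgroupOf C ⊔ (W' ⊓ C).subgroupOf C := by
      rw [← subgroupOf_sup inf_le_right inf_le_right]
      exact fun x hx => hsplit hx
    rw [← map_bar_eq_bot_iff, map_commutator, commutator_eq_bot_iff_le_centralizer]
    rw [← map_bar_eq_bot_iff, map_commutator, commutator_eq_bot_iff_le_centralizer] at h h'
    refine le_centralizer_iff.mp ((map_mono hle).trans ?_)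
    rw [Subgroup.map_sup]
    exact sup_le (le_centralizer_iff.mp h) (le_centralizer_iff.mp h')
  by_cases hn : u ∈ normalizer (J : Set H)
  · refine Or.inl ⟨hn, hLW.trans (iSup_le fun i => (le_of_eq ?_))⟩
    exact mem_normalizer_iff_map_conj_eq.mp (pow_mem hn i)
  · refine Or.inr ⟨hn, ?_⟩
    have hWle : W ≤ J ⊔ centralizer (J : Set H) := by
      refine iSup_le fun i => ?_
      rw [← cjS_mod hu J i]
      rcases Nat.eq_zero_or_pos (i % p) with h | h
      · rw [h, cjS_zero]; exact le_sup_left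
      · refine le_sup_of_le_right (commutator_eq_bot_iff_le_centralizer.mp
          (components_commute (isComponent_cjS hJ u _) hJ ?_))
        have := cjS_ne hu hn h (Nat.mod_lt i (Fact.out : p.Prime).pos)
        rwa [cjS_zero, ne_comm] at this
    have hdec : ∀ l ∈ L, ∃ j ∈ J, (phi u p j)⁻¹ * l ∈ centralizer (W : Set H) := by
      intro l hl
      have h := hWle (hLW hl)
      rw [← SetLike.mem_coe, coe_mul_of_right_le_normalizer_left J (centralizer (J : Set H))
        (fun x hx => exists_sup_sylow.centralizer_le_normalizer hx)] at h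
      obtain ⟨j, hj, r, hr, rfl⟩ := h
      refine ⟨j, hj, le_centralizer_iff.mp ?_ (mem_zpowers ((phi u p j)⁻¹ * (j * r)))⟩
      refine iSup_le fun i => le_centralizer_iff.mp ?_
      rw [zpowers_le, mem_centralizer_iff]
      rintro _ ⟨x, hx, rfl⟩
      change u ^ i * x * (u ^ i)⁻¹ * ((phi u p j)⁻¹ * (j * r)) =
        (phi u p j)⁻¹ * (j * r) * (u ^ i * x * (u ^ i)⁻¹)
      set c := (phi u p j)⁻¹ * (j * r)
      have hcx : Commute x c := by
        have h1 : r * x = x * r := (mem_centralizer_iff.mp hr x hx).symm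
        have h2 := phi_conj hJ hu hn hj hx
        have h3 : (phi u p j)⁻¹ * (j * x * j⁻¹) * phi u p j = x := by rw [← h2]; group
        calc x * c = (phi u p j)⁻¹ * (j * x * j⁻¹) * phi u p j * c := by rw [h3]
          _ = (phi u p j)⁻¹ * j * (x * r) := by simp only [c]; group
          _ = (phi u p j)⁻¹ * j * (r * x) := by rw [h1]
          _ = c * x := by simp only [c]; group
      have hcu : Commute (u ^ i) c := by
        refine Commute.pow_left ?_ i
        have h1 : Commute u (phi u p j) := mul_inv_eq_iff_eq_mul.mp (phi_fixed hJ hu hn hj)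
        exact h1.inv_right.mul_right (mem_centralizer_singleton_iff.mp (hLc hl)).symm
      exact ((hcu.mul_left hcx).mul_left hcu.inv_left).eq
    intro l hl
    set D := (phiHom hJ hu hn).range
    suffices hLD : L ≤ D by
      obtain ⟨j, hj⟩ := hLD hl
      exact ⟨j, j.2, hj.symm⟩
    rw [← hperf, commutator_le]
    intro a ha b hb
    obtain ⟨ja, hja, hca⟩ := hdec a ha
    obtain ⟨jb, hjb, hcb⟩ := hdec b hb
    refine ⟨⁅(⟨ja, hja⟩ : J), (⟨jb, hjb⟩ : J)⁆, ?_⟩
    rw [map_commutatorElement]
    change ⁅phi u p ja, phi u p jb⁆ = ⁅a, b⁆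
    set za := (phi u p ja)⁻¹ * a
    set zb := (phi u p jb)⁻¹ * b
    have hphiW : ∀ n, ∀ j ∈ J, phi u n j ∈ W := by
      intro n j hj
      induction n with
      | zero => exact one_mem _
      | succ n ih => exact mul_mem ih (mem_iSup_of_mem n (cj_mem hj n))
    have hzbW : zb ∈ W := mul_mem (inv_mem (hphiW p jb hjb)) (hLW hb)
    have hcaW : ∀ {g}, g ∈ W → Commute za g := fun hg => (mem_centralizer_iff.mp hca _ hg).symm
    have hcbW : ∀ {g}, g ∈ W → Commute zb g := fun hg => (mem_centralizer_iff.mp hcb _ hg).symm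
    rw [show a = phi u p ja * za by simp only [za]; group,
      show b = phi u p jb * zb by simp only [zb]; group,
      commutatorElement_mul_left_eq_conj_mul,
      (hcaW (mul_mem (hphiW p jb hjb) hzbW)).commutator_eq, mul_one, mul_inv_cancel, one_mul,
      commutatorElement_mul_right_eq_mul_conj, ((hcbW (hphiW p ja hja)).symm).commutator_eq,
      mul_one, mul_inv_cancel_right]

end cases

end Cfsg.Agent.PTerminalDiag
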