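import Mathlib

/-!
Arithmetic for groups with a self-centralising element of order three.
-/

set_option autoImplicit false

namespace Cfsg.Agent.SelfCentThreeArith

theorem prod_dvd {S : Finset ℕ} {L : ℕ} (hcop : ∀ a ∈ S, ∀ b ∈ S, a ≠ b → a.Coprime b)
    (hd : ∀ a ∈ S, a ∣ L) : ∏ a ∈ S, a ∣ L := by
  classical
  induction S using Finset.induction_on with
  | empty => simp
  | @insert n S hn ih =>
    rw [Finset.prod_insert hn]
    refine Nat.Coprime.mul_dvd_of_dvd_of_dvd ?_ (hd n (Finset.mem_insert_self _ _))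
      (ih (fun a ha b hb => hcop a (Finset.mem_insert_of_mem ha) b (Finset.mem_insert_of_mem hb))
        fun a ha => hd a (Finset.mem_insert_of_mem ha))
    exact Nat.Coprime.prod_right fun a ha =>
      hcop n (Finset.mem_insert_self _ _) a (Finset.mem_insert_of_mem ha) fun e => hn (e ▸ ha)

theorem prod_mod {S : Finset ℕ} {k : ℕ} (h : ∀ a ∈ S, a % k = 1) : (∏ a ∈ S, a) % k = 1 % k := by
  classical
  induction S using Finset.induction_on with
  | empty => simp
  | @insert n S hn ih =>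
    rw [Finset.prod_insert hn, Nat.mul_mod, h n (Finset.mem_insert_self _ _),
      ih fun a ha => h a (Finset.mem_insert_of_mem ha)]
    simp [Nat.mul_mod]

theorem sum_prod {S : Finset ℕ} (h : ∀ a ∈ S, 7 ≤ a) :
    ∑ a ∈ S, a ≤ ∏ a ∈ S, a ∧ (S.Nonempty → 7 ≤ ∏ a ∈ S, a) ∧
      (2 ≤ S.card → 7 * ∑ a ∈ S, a ≤ 2 * ∏ a ∈ S, a) := by
  classical
  induction S using Finset.induction_on with
  | empty => simp
  | @insert n S hn ih =>
    obtain ⟨h1, h2, h3⟩ := ih fun a ha => h a (Finset.mem_insert_of_mem ha)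
    have h7 := h n (Finset.mem_insert_self _ _)
    rw [Finset.prod_insert hn, Finset.sum_insert hn]
    have hpos : 1 ≤ ∏ a ∈ S, a := by
      rcases S.eq_empty_or_nonempty with rfl | hne
      · simp
      · have := h2 hne; omega
    refine ⟨?_, fun _ => by nlinarith, fun hc => ?_⟩
    · rcases S.eq_empty_or_nonempty with rfl | hne
      · simp
      · have := h2 hne; nlinarith
    · have hne : S.Nonempty := by
        rw [Finset.card_insert_of_notMem hn] at hc
        exact Finset.card_pos.1 (by omega)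
      have := h2 hne
      nlinarith

/-- The odd classes together with one class of even Hall subgroups. -/
theorem with_even {S : Finset ℕ} {L e : ℕ} (hL : L % 3 = 0 ∧ L / 3 % 3 = 2) (he4 : 4 ≤ e)
    (he : e ∣ L) (he3 : e % 3 = 1) (hodd : Odd (L / e))
    (hS : ∀ a ∈ S, 7 ≤ a ∧ a % 3 = 1 ∧ a ∣ L ∧ a.Coprime e)
    (hcop : ∀ a ∈ S, ∀ b ∈ S, a ≠ b → a.Coprime b) :
    (S = ∅ ∧ (L = 15 * e ∨ L = 33 * e)) ∨ 36 * (e + ∑ a ∈ S, a) ≤ L := by
  classical
  set P := ∏ a ∈ S, a with hP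
  have hPL : P ∣ L := prod_dvd hcop fun a ha => (hS a ha).2.2.1
  have hP3 : P % 3 = 1 := prod_mod fun a ha => (hS a ha).2.1
  have hPe : P.Coprime e := Nat.Coprime.prod_left fun a ha => (hS a ha).2.2.2
  have hPeL : P * e ∣ L := hPe.mul_dvd_of_dvd_of_dvd hPL he
  have hc3 : (P * e).Coprime 3 := by
    refine Nat.Coprime.symm ((Nat.Prime.coprime_iff_not_dvd Nat.prime_three).2 fun hd => ?_)
    rw [Nat.dvd_iff_mod_eq_zero, Nat.mul_mod, hP3, he3] at hd
    norm_num at hd
  obtain ⟨j, hj⟩ := hc3.mul_dvd_of_dvd_of_dvd hPeL (Nat.dvd_of_mod_eq_zero hL.1)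
  have hj3 : j % 3 = 2 := by
    have h : L / 3 = P * e * j := by rw [hj]; exact Nat.div_eq_of_eq_mul_left (by norm_num) (by ring)
    rw [h, Nat.mul_mod, Nat.mul_mod P, hP3, he3] at hL
    simpa using hL.2
  have hjodd : j % 2 = 1 := by
    rw [show L / e = P * 3 * j by rw [hj]; exact Nat.div_eq_of_eq_mul_left (by omega) (by ring)] at hodd
    exact Nat.odd_iff.1 (Odd.of_dvd_nat hodd (dvd_mul_left j _))
  rcases S.eq_empty_or_nonempty with rfl | hne
  · simp only [Finset.prod_empty] at hP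
    rw [hP, one_mul] at hj
    rw [Finset.sum_empty]
    rcases Nat.lt_or_ge j 12 with h | h
    · left
      refine ⟨rfl, ?_⟩
      have : j = 5 ∨ j = 11 := by omega
      rcases this with rfl | rfl <;> omega
    · right; rw [hj]; nlinarith
  · right
    obtain ⟨h1, h2, -⟩ := sum_prod (S := S) fun a ha => (hS a ha).1
    have h7 := h2 hne
    have hj5 : 5 ≤ j := by omega
    rw [← hP] at h1 h7
    rw [hj]
    have q : P * e * 3 * 5 ≤ P * e * 3 * j := Nat.mul_le_mul_left _ hj5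
    nlinarith [mul_le_mul h7 he4 (Nat.zero_le _) (Nat.zero_le _)]

/-- The odd classes alone. -/
theorem without_even {S : Finset ℕ} {L : ℕ} (hL : L % 3 = 0 ∧ L / 3 % 3 = 2) (h4 : 4 ∣ L)
    (hS : ∀ a ∈ S, 7 ≤ a ∧ a % 3 = 1 ∧ a ∣ L ∧ a % 2 = 1)
    (hcop : ∀ a ∈ S, ∀ b ∈ S, a ≠ b → a.Coprime b) :
    (∃ n, S = {n} ∧ L = 24 * n) ∨ 36 * ∑ a ∈ S, a ≤ L := by
  classical
  set P := ∏ a ∈ S, a with hP
  have hPL : P ∣ L := prod_dvd hcop fun a ha => (hS a ha).2.2.1
  have hP3 : P % 3 = 1 := prod_mod fun a ha => (hS a ha).2.1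
  have hP2 : P % 2 = 1 := prod_mod fun a ha => (hS a ha).2.2.2
  have hP4 : P.Coprime 4 := by
    have : P.Coprime 2 := Nat.coprime_two_right.2 (Nat.odd_iff.2 hP2)
    simpa using this.pow_right 2
  have h12 : P * 4 ∣ L := hP4.mul_dvd_of_dvd_of_dvd hPL h4
  have hc3 : (P * 4).Coprime 3 := by
    refine Nat.Coprime.symm ((Nat.Prime.coprime_iff_not_dvd Nat.prime_three).2 fun hd => ?_)
    rw [Nat.dvd_iff_mod_eq_zero, Nat.mul_mod, hP3] at hd
    norm_num at hd
  obtain ⟨j, hj⟩ := hc3.mul_dvd_of_dvd_of_dvd h12 (Nat.dvd_of_mod_eq_zero hL.1)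
  have hj3 : j % 3 = 2 := by
    have h : L / 3 = P * 4 * j := by rw [hj]; exact Nat.div_eq_of_eq_mul_left (by norm_num) (by ring)
    rw [h, Nat.mul_mod, Nat.mul_mod P, hP3] at hL
    simpa using hL.2
  obtain ⟨h1, h2, h3⟩ := sum_prod (S := S) fun a ha => (hS a ha).1
  rcases Nat.lt_or_ge S.card 2 with hc | hc
  · rcases Nat.lt_or_ge S.card 1 with h0 | h0
    · right
      rw [Finset.card_eq_zero.1 (by omega : S.card = 0)]
      simp
    · obtain ⟨n, hn⟩ := Finset.card_eq_one.1 (by omega : S.card = 1)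
      subst hn
      simp only [Finset.prod_singleton] at hP
      rw [hP] at hj
      rw [Finset.sum_singleton]
      rcases Nat.lt_or_ge j 3 with h | h
      · left
        refine ⟨n, rfl, ?_⟩
        have : j = 2 := by omega
        subst this
        omega
      · right; rw [hj]; nlinarith
  · right
    have := h3 hc
    rw [← hP] at this
    rw [hj]
    have q : P * 4 * 3 * 2 ≤ P * 4 * 3 * j := Nat.mul_le_mul_left _ (by omega)
    nlinarith

end Cfsg.Agent.SelfCentThreeArith
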