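import Mathlib
import Cfsg.Prelude.Def_Blocks
import Cfsg.Agent.Lib.DegreeDvd
import Cfsg.Agent.Lib.CharInducedRep
import Cfsg.Agent.Lib.TransferTate

/-!
# Characters of degree prime to `p` and normal complements of Sylow normalisers
-/

set_option autoImplicit false

open scoped ComplexConjugate commutatorElement

namespace Cfsg.Agent.NormalizerExt

open Cfsg.Agent

universe u

variable {G : Type u} [Group G]

theorem charDegree_eq {χ : G → ℂ} {n : ℕ} (h : χ 1 = n) : Cfsg.charDegree χ = n := by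
  rw [Cfsg.charDegree, h, Complex.natCast_re, Nat.floor_natCast]

theorem isCharacter_degree {χ : G → ℂ} (h : Cfsg.IsCharacter G χ) : χ 1 = (Cfsg.charDegree χ : ℂ) := by
  obtain ⟨n, hn⟩ := CharBasic.isCharacter_apply_one h
  rw [charDegree_eq hn, hn]

theorem irr_degree (χ : Cfsg.IrrCharacter G) : (χ : G → ℂ) 1 = (Cfsg.charDegree (χ : G → ℂ) : ℂ) :=
  isCharacter_degree (CharBasic.isCharacter_of_isIrrCharacter χ.2)

theorem irr_degree_pos (χ : Cfsg.IrrCharacter G) : 0 < Cfsg.charDegree (χ : G → ℂ) := by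
  obtain ⟨n, hn, h⟩ := CharBasic.isIrrCharacter_apply_one χ.2
  rwa [charDegree_eq h]

theorem irr_isCharacter (χ : Cfsg.IrrCharacter G) : Cfsg.IsCharacter G (χ : G → ℂ) :=
  CharBasic.isCharacter_of_isIrrCharacter χ.2

theorem res_isCharacter {χ : G → ℂ} (h : Cfsg.IsCharacter G χ) (H : Subgroup G) :
    Cfsg.IsCharacter H (fun x : H => χ x) := CharBasic.isCharacter_comap H.subtype h

section Finite

variable [Finite G]

/-- The kernel of a character. -/
def charKer (χ : G → ℂ) (h : Cfsg.IsCharacter G χ) : Subgroup G where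
  carrier := {g | χ g = χ 1}
  one_mem' := rfl
  mul_mem' := fun {a b} ha hb => by
    obtain ⟨n, ρ, rfl⟩ := h
    rw [Set.mem_setOf_eq, Representation.char_one] at ha hb ⊢
    rw [CharBasic.character_eq_finrank_iff] at ha hb ⊢
    rw [map_mul, ha, hb]; rfl
  inv_mem' := fun {a} ha => by
    rw [Set.mem_setOf_eq] at ha ⊢
    obtain ⟨n, hn⟩ := CharBasic.isCharacter_apply_one h
    rw [CharBasic.isCharacter_inv h, ha, hn, map_natCast]

theorem mem_charKer {χ : G → ℂ} {h : Cfsg.IsCharacter G χ} {g : G} : g ∈ charKer χ h ↔ χ g = χ 1 :=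
  Iff.rfl

instance charKer_normal (χ : G → ℂ) (h : Cfsg.IsCharacter G χ) : (charKer χ h).Normal :=
  ⟨fun g hg x => (CharBasic.isClassFunction_of_isCharacter h g x).trans hg⟩

theorem apply_mul_of_mem_charKer {χ : G → ℂ} (h : Cfsg.IsCharacter G χ) {y : G} (hy : χ y = χ 1) (g : G) :
    χ (g * y) = χ g := by
  obtain ⟨n, ρ, rfl⟩ := h
  rw [Representation.char_one, CharBasic.character_eq_finrank_iff] at hy
  show LinearMap.trace ℂ _ (ρ (g * y)) = LinearMap.trace ℂ _ (ρ g)
  rw [map_mul, hy]; rfl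

/-- If a sum of characters takes its degree at `y`, so does each summand of nonzero multiplicity. -/
theorem eq_apply_one_of_sum {ι : Type*} (s : Finset ι) (m : ι → ℕ) (f : ι → G → ℂ)
    (hf : ∀ i ∈ s, Cfsg.IsCharacter G (f i)) {y : G}
    (h : ∑ i ∈ s, (m i : ℂ) * f i y = ∑ i ∈ s, (m i : ℂ) * f i 1) {i : ι} (hi : i ∈ s) (hm : m i ≠ 0) :
    f i y = f i 1 := by
  have hle : ∀ j ∈ s, ((m j : ℂ) * f j y).re ≤ ((m j : ℂ) * f j 1).re := fun j hj => by
    simp only [Complex.mul_re, Complex.natCast_re, Complex.natCast_im, zero_mul, sub_zero]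
    exact mul_le_mul_of_nonneg_left
      ((Complex.re_le_norm _).trans (CharBasic.isCharacter_norm_le (hf j hj) y)) (Nat.cast_nonneg _)
  have hre := congrArg Complex.re h
  rw [Complex.re_sum, Complex.re_sum] at hre
  have h1 := (Finset.sum_eq_sum_iff_of_le hle).1 hre i hi
  simp only [Complex.mul_re, Complex.natCast_re, Complex.natCast_im, zero_mul, sub_zero] at h1
  have h2 : (f i y).re = (f i 1).re := mul_left_cancel₀ (Nat.cast_ne_zero.2 hm) h1
  have h3 : ‖f i y‖ = (f i y).re := le_antisymm (h2 ▸ CharBasic.isCharacter_norm_le (hf i hi) y)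
    (Complex.re_le_norm _)
  have h4 := Complex.nonneg_iff.1 (Complex.re_eq_norm.1 h3.symm)
  obtain ⟨n, hn⟩ := CharBasic.isCharacter_apply_one (hf i hi)
  exact Complex.ext h2 (by rw [← h4.2, hn, Complex.natCast_im])

/-- The coefficient of an irreducible character in an induced character. -/
theorem ind_expansion [Fintype G] (H : Subgroup G) [Fintype H] {θ : H → ℂ} (hθ : Cfsg.IsCharacter H θ) :
    ∃ m : Cfsg.IrrCharacter G → ℕ,
      (∀ χ : Cfsg.IrrCharacter G, Cfsg.classInner (fun h : H => (χ : G → ℂ) h) θ = m χ) ∧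
      ∀ g, Cfsg.indFun H θ g = ∑ χ : Cfsg.IrrCharacter G, (m χ : ℂ) * (χ : G → ℂ) g := by
  choose m hm using fun χ : Cfsg.IrrCharacter G =>
    CharBasicOrth.classInner_isCharacter hθ (res_isCharacter (irr_isCharacter χ) H)
  refine ⟨m, fun χ => ?_, fun g => ?_⟩
  · rw [← CharBasicOrth.conj_classInner, hm, map_natCast]
  · have := congrFun (CharBasicOrth.eq_sum_classInner (CharInduced.isClassFunction_ind H θ)) g
    simp only [Finset.sum_apply, Pi.smul_apply, smul_eq_mul] at this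
    rw [this]
    refine Finset.sum_congr rfl fun χ _ => ?_
    rw [CharInduced.inner_ind_left H θ (CharBasic.isClassFunction_of_isCharacter (irr_isCharacter χ)), hm]

/-- If `θ` is trivial on `Y ≤ H`, normal in `G`, so is every constituent of the induced function. -/
theorem constituent_trivial_on [Fintype G] (H : Subgroup G) [Fintype H] {θ : H → ℂ}
    (hθ : Cfsg.IsCharacter H θ) (Y : Subgroup G) [hY : Y.Normal] (hYH : Y ≤ H)
    (ht : ∀ y : H, (y : G) ∈ Y → θ y = θ 1) (χ : Cfsg.IrrCharacter G)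
    (hne : Cfsg.classInner (fun h : H => (χ : G → ℂ) h) θ ≠ 0) :
    ∀ y ∈ Y, (χ : G → ℂ) y = (χ : G → ℂ) 1 := by
  intro y hy
  obtain ⟨m, hm, hexp⟩ := ind_expansion H hθ
  have hval : ∀ z ∈ Y, Cfsg.indFun H θ z = (Nat.card H : ℂ)⁻¹ * ∑ _x : G, θ 1 := by
    intro z hz
    rw [CharInduced.indFun_apply]
    refine congrArg _ (Finset.sum_congr rfl fun x _ => ?_)
    have hc : x⁻¹ * z * x ∈ Y := by simpa using hY.conj_mem z hz x⁻¹
    rw [CharInduced.ext_zero_of_mem θ (hYH hc), ht _ hc]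
  refine eq_apply_one_of_sum (G := G) Finset.univ m (fun χ : Cfsg.IrrCharacter G => (χ : G → ℂ))
    (fun χ _ => irr_isCharacter χ) ?_ (Finset.mem_univ χ) ?_
  · rw [← hexp, ← hexp, hval y hy, hval 1 Y.one_mem]
  · intro h0; rw [hm, h0, Nat.cast_zero] at hne; exact hne rfl

/-- A linear character is trivial on the derived subgroup. -/
theorem eq_one_on_commutator {χ : G → ℂ} (h : Cfsg.IsCharacter G χ) (h1 : χ 1 = 1) :
    ∀ y ∈ commutator G, χ y = χ 1 := by
  intro y hy
  suffices commutator G ≤ charKer χ h from this hy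
  rw [commutator_def, Subgroup.commutator_le]
  intro a _ b _
  obtain ⟨n, ρ, rfl⟩ := h
  rw [Representation.char_one] at h1
  have hsc : ∀ g, ∃ c : ℂ, ρ g = c • LinearMap.id := by
    intro g
    obtain ⟨bb, μ, he, -, -, -⟩ := CharBasic.exists_rep_eigenbasis ρ g
    have hone : Module.finrank ℂ (Fin n → ℂ) = 1 := by exact_mod_cast h1
    refine ⟨μ ⟨0, hone ▸ Nat.one_pos⟩, bb.ext fun i => ?_⟩
    rw [he]
    simp only [LinearMap.smul_apply, LinearMap.id_apply]
    congr 2
    exact Fin.ext (by have := i.2; omega)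
  show ρ.character _ = ρ.character 1
  rw [Representation.char_one, CharBasic.character_eq_finrank_iff]
  have hc : ρ a * ρ b = ρ b * ρ a := by
    obtain ⟨c, hc⟩ := hsc a; obtain ⟨d, hd⟩ := hsc b
    rw [hc, hd]; ext v; simp [mul_left_comm]
  rw [commutatorElement_def, map_mul, map_mul, map_mul, hc, mul_assoc (ρ b), ← map_mul, mul_inv_cancel,
    map_one, mul_one, ← map_mul, mul_inv_cancel, map_one]
  rfl

/-- An irreducible character trivial on a normal subgroup comes from the quotient. -/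
theorem exists_quotient_irr (R : Subgroup G) [R.Normal] (θ : Cfsg.IrrCharacter G)
    (h : ∀ y ∈ R, (θ : G → ℂ) y = (θ : G → ℂ) 1) :
    ∃ η : Cfsg.IrrCharacter (G ⧸ R), ∀ g : G, (η : G ⧸ R → ℂ) (g : G ⧸ R) = (θ : G → ℂ) g := by
  obtain ⟨θ, n, ρ, hρ, rfl⟩ := θ
  let σ : Representation ℂ (G ⧸ R) (Fin n → ℂ) := QuotientGroup.lift R (ρ : G →* Module.End ℂ (Fin n → ℂ))
    (fun y hy => by
      have : ρ.character y = ρ.character 1 := h y hy
      rw [Representation.char_one, CharBasic.character_eq_finrank_iff] at this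
      exact this)
  have e : Subrepresentation σ ≃o Subrepresentation ρ :=
    { toFun := fun U => ⟨U.toSubmodule, fun g v hv => U.apply_mem_toSubmodule (g : G ⧸ R) hv⟩
      invFun := fun U => ⟨U.toSubmodule, fun q v hv => by
        obtain ⟨g, rfl⟩ := QuotientGroup.mk_surjective q
        exact U.apply_mem_toSubmodule g hv⟩
      left_inv := fun U => rfl
      right_inv := fun U => rfl
      map_rel_iff' := Iff.rfl }
  exact ⟨⟨σ.character, n, σ, e.isSimpleOrder_iff.2 inferInstance, rfl⟩, fun g => rfl⟩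

/-- The irreducible characters of a quotient, as characters trivial on the subgroup. -/
noncomputable def quotientIrrEquiv (R : Subgroup G) [R.Normal] :
    Cfsg.IrrCharacter (G ⧸ R) ≃ {θ : Cfsg.IrrCharacter G // ∀ y ∈ R, (θ : G → ℂ) y = (θ : G → ℂ) 1} :=
  Equiv.ofBijective
    (fun η => ⟨⟨(η : G ⧸ R → ℂ) ∘ QuotientGroup.mk' R,
        CharBasic.isIrrCharacter_comap _ (QuotientGroup.mk'_surjective R) η.2⟩, fun y hy => by
      show (η : G ⧸ R → ℂ) (y : G ⧸ R) = (η : G ⧸ R → ℂ) ((1 : G) : G ⧸ R)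
      rw [(QuotientGroup.eq_one_iff y).2 hy, QuotientGroup.mk_one]⟩)
    ⟨fun η η' h => by
      apply Subtype.ext; funext q
      obtain ⟨g, rfl⟩ := QuotientGroup.mk_surjective q
      exact congrFun (congrArg (fun θ => (θ.1.1 : G → ℂ)) h) g,
    fun θ => by
      obtain ⟨η, hη⟩ := exists_quotient_irr R θ.1 θ.2
      exact ⟨η, Subtype.ext (Subtype.ext (funext hη))⟩⟩

theorem sum_sq_quotient (R : Subgroup G) [R.Normal]
    [Fintype {θ : Cfsg.IrrCharacter G // ∀ y ∈ R, (θ : G → ℂ) y = (θ : G → ℂ) 1}] :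
    ∑ θ : {θ : Cfsg.IrrCharacter G // ∀ y ∈ R, (θ : G → ℂ) y = (θ : G → ℂ) 1},
      Cfsg.charDegree (θ.1 : G → ℂ) ^ 2 = R.index := by
  have h := CharBasicOrth.sum_sq_apply_one (G := G ⧸ R)
  simp only [irr_degree, ← Nat.cast_pow, ← Nat.cast_sum, Nat.cast_inj] at h
  rw [Subgroup.index, ← h]
  exact (Equiv.sum_comp (quotientIrrEquiv R)
    (fun θ : {θ : Cfsg.IrrCharacter G // ∀ y ∈ R, (θ : G → ℂ) y = (θ : G → ℂ) 1} =>
      Cfsg.charDegree (θ.1 : G → ℂ) ^ 2)).symm

/-- Sums over a group acted on by a `p`-group, modulo `p`. -/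
theorem sum_eq_fixed_add {α : Type*} [Fintype α] {P : Type*} [Group P] [Finite P] [MulAction P α]
    {p : ℕ} [Fact p.Prime] (hP : IsPGroup p P) (f : α → ℂ) (hf : ∀ (x : P) a, f (x • a) = f a)
    (hint : ∀ a, IsIntegral ℤ (f a)) [DecidablePred (· ∈ MulAction.fixedPoints P α)] :
    ∃ z : ℂ, IsIntegral ℤ z ∧
      ∑ a : α, f a = (∑ a ∈ Finset.univ.filter (· ∈ MulAction.fixedPoints P α), f a) + (p : ℂ) * z := by
  classical
  rw [← Finset.sum_filter_add_sum_filter_not Finset.univ (· ∈ MulAction.fixedPoints P α)]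
  set s : Finset α := Finset.univ.filter (fun a => ¬ a ∈ MulAction.fixedPoints P α)
  haveI : Fintype (Quotient (MulAction.orbitRel P α)) := Fintype.ofFinite _
  suffices h : ∃ z : ℂ, IsIntegral ℤ z ∧ ∑ a ∈ s, f a = (p : ℂ) * z by
    obtain ⟨z, hz, h⟩ := h
    exact ⟨z, hz, by rw [h]⟩
  rw [← Finset.sum_fiberwise s (fun a => (Quotient.mk'' a : Quotient (MulAction.orbitRel P α))) f]
  have key : ∀ o : Quotient (MulAction.orbitRel P α),
      ∃ z : ℂ, IsIntegral ℤ z ∧ ∑ a ∈ s.filter (fun a => Quotient.mk'' a = o), f a = (p : ℂ) * z := by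
    intro o
    rcases (s.filter (fun a => Quotient.mk'' a = o)).eq_empty_or_nonempty with he | ⟨b, hb⟩
    · exact ⟨0, isIntegral_zero, by simp [he]⟩
    obtain ⟨hbs, rfl⟩ := Finset.mem_filter.1 hb
    have hbfix : b ∉ MulAction.fixedPoints P α := (Finset.mem_filter.1 hbs).2
    have heq : s.filter (fun a => (Quotient.mk'' a : Quotient (MulAction.orbitRel P α)) = Quotient.mk'' b) =
        (MulAction.orbit P b).toFinset := by
      ext a
      simp only [Finset.mem_filter, Set.mem_toFinset, s, Finset.mem_univ, true_and]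
      rw [Quotient.eq'', MulAction.orbitRel_apply]
      refine ⟨fun h => h.2, fun h => ⟨fun ha => hbfix ?_, h⟩⟩
      obtain ⟨x, rfl⟩ := h
      intro y
      exact smul_left_cancel x (by
        rw [← mul_smul, show (x * y) • b = (x * y * x⁻¹) • (x • b) from by rw [← mul_smul]; simp]
        exact ha _)
    obtain ⟨k, hk⟩ := hP.index (MulAction.stabilizer P b)
    have hk0 : k ≠ 0 := by
      rintro rfl
      refine hbfix fun y => ?_
      have : MulAction.stabilizer P b = ⊤ := Subgroup.index_eq_one.1 (by simpa using hk)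
      exact (this ▸ Subgroup.mem_top y : y ∈ MulAction.stabilizer P b)
    refine ⟨(p : ℂ) ^ (k - 1) * f b, IsIntegral.mul (IsIntegral.pow (isIntegral_algebraMap (x := (p : ℤ))) _) (hint b), ?_⟩
    rw [heq, Finset.sum_congr rfl (g := fun _ => f b), Finset.sum_const, nsmul_eq_mul, ← mul_assoc, ← pow_succ',
      Nat.sub_add_cancel (Nat.pos_of_ne_zero hk0), ← Nat.cast_pow, ← hk, MulAction.index_stabilizer]
    · congr 2
      exact (Set.ncard_eq_toFinset_card' _).symm
    · intro a ha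
      obtain ⟨x, rfl⟩ := Set.mem_toFinset.1 ha
      exact hf x b
  choose z hz hze using key
  exact ⟨∑ o, z o, IsIntegral.sum _ (fun o _ => hz o), by
    rw [Finset.mul_sum]; exact Finset.sum_congr rfl (fun o _ => hze o)⟩

end Finite

section Sylow

variable [Finite G] {p : ℕ} [Fact p.Prime] (P : Sylow p G)

/-- The normaliser of a Sylow subgroup. -/
abbrev NP : Subgroup G := Subgroup.normalizer ((P : Subgroup G) : Set G)

theorem P_le : (P : Subgroup G) ≤ NP P := Subgroup.le_normalizer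

/-- The derived subgroup of the Sylow subgroup inside its normaliser. -/
abbrev DN : Subgroup (NP P) :=
  ⁅(P : Subgroup G).subgroupOf (NP P), (P : Subgroup G).subgroupOf (NP P)⁆

instance PN_normal : ((P : Subgroup G).subgroupOf (NP P)).Normal := Subgroup.normal_in_normalizer

theorem map_DN : (DN P).map (NP P).subtype = ⁅(P : Subgroup G), (P : Subgroup G)⁆ := by
  rw [Subgroup.map_commutator, Subgroup.map_subgroupOf_eq_of_le (P_le P)]

theorem not_dvd_relIndex : ¬ p ∣ (P : Subgroup G).relIndex (NP P) := fun h =>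
  P.not_dvd_index (h.trans (Subgroup.relIndex_dvd_index_of_le (P_le P)))

/-- Characters of the normaliser trivial on `P'` have degree prime to `p`. -/
theorem not_dvd_of_trivial (θ : Cfsg.IrrCharacter (NP P))
    (h : ∀ y ∈ DN P, (θ : NP P → ℂ) y = (θ : NP P → ℂ) 1) : ¬ p ∣ Cfsg.charDegree (θ : NP P → ℂ) := by
  obtain ⟨η, hη⟩ := exists_quotient_irr (DN P) θ h
  let A : Subgroup (NP P ⧸ DN P) := ((P : Subgroup G).subgroupOf (NP P)).map (QuotientGroup.mk' (DN P))
  haveI : A.Normal := Subgroup.Normal.map inferInstance _ (QuotientGroup.mk'_surjective _)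
  have hA : ∀ a b : A, a * b = b * a := by
    rintro ⟨_, a, ha, rfl⟩ ⟨_, b, hb, rfl⟩
    apply Subtype.ext
    show QuotientGroup.mk' (DN P) a * QuotientGroup.mk' (DN P) b = QuotientGroup.mk' (DN P) b * QuotientGroup.mk' (DN P) a
    rw [← map_mul, ← map_mul, QuotientGroup.mk'_eq_mk']
    refine ⟨⁅b⁻¹, a⁻¹⁆, Subgroup.commutator_mem_commutator (inv_mem hb) (inv_mem ha), ?_⟩
    rw [commutatorElement_def]; group
  obtain ⟨n, -, hn, hdvd⟩ := DegreeDvd.degree_dvd_index_abelian η.2 A hA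
  have : (θ : NP P → ℂ) 1 = n := by rw [← hη 1, QuotientGroup.mk_one, hn]
  rw [charDegree_eq this]
  exact fun hp => not_dvd_relIndex P (hp.trans (hdvd.trans (Subgroup.index_map_dvd _ (QuotientGroup.mk'_surjective _))))

/-- Conversely, a character of the normaliser of degree prime to `p` is trivial on `P'`. -/
theorem trivial_of_not_dvd (θ : Cfsg.IrrCharacter (NP P)) (h : ¬ p ∣ Cfsg.charDegree (θ : NP P → ℂ)) :
    ∀ y ∈ DN P, (θ : NP P → ℂ) y = (θ : NP P → ℂ) 1 := by
  classical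
  set S := (P : Subgroup G).subgroupOf (NP P) with hS
  haveI := Fintype.ofFinite (NP P)
  haveI := Fintype.ofFinite S
  obtain ⟨m, hm, hsum⟩ := CharBasicDecomp.exists_mult (res_isCharacter (irr_isCharacter θ) S)
  have h1 := congrFun hsum 1
  simp only [OneMemClass.coe_one, Finset.sum_apply, Pi.smul_apply, smul_eq_mul, irr_degree, ← Nat.cast_mul,
    ← Nat.cast_sum, Nat.cast_inj] at h1
  have : ∃ lam : Cfsg.IrrCharacter S, m lam ≠ 0 ∧ Cfsg.charDegree (lam : S → ℂ) = 1 := by
    by_contra hno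
    push Not at hno
    refine h (h1 ▸ Finset.dvd_sum fun lam _ => ?_)
    rcases eq_or_ne (m lam) 0 with h0 | h0
    · simp [h0]
    obtain ⟨k, σ, hσ, hσc⟩ := lam.2
    have hk : Cfsg.charDegree (lam : S → ℂ) = k := charDegree_eq (by
      rw [← hσc, Representation.char_one, Module.finrank_fin_fun])
    have hd := DegreeDvd.finrank_dvd_card σ
    rw [Module.finrank_fin_fun] at hd
    obtain ⟨a, ha⟩ := IsPGroup.iff_card.1 (P.isPGroup'.of_equiv (Subgroup.subgroupOfEquivOfLe (P_le P)).symm)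
    rw [ha] at hd
    obtain ⟨i, -, hi⟩ := (Nat.dvd_prime_pow Fact.out).1 hd
    rcases i.eq_zero_or_pos with h' | h'
    · exact absurd (by rw [hk, hi, h', pow_zero]) (hno lam h0)
    · exact dvd_mul_of_dvd_right (hk ▸ hi ▸ dvd_pow_self p h'.ne') _
  obtain ⟨lam, hlam, hlam1⟩ := this
  refine constituent_trivial_on S (irr_isCharacter lam) (DN P) (Subgroup.commutator_le_self _) ?_ θ ?_
  · intro y hy
    refine eq_one_on_commutator (irr_isCharacter lam) (by rw [irr_degree, hlam1, Nat.cast_one]) y ?_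
    have : (commutator S).map S.subtype = DN P := by
      rw [commutator_def, Subgroup.map_commutator, ← MonoidHom.range_eq_map, Subgroup.range_subtype]
    obtain ⟨z, hz, hzy⟩ := (this ▸ hy : (y : NP P) ∈ (commutator S).map S.subtype)
    rwa [← S.subtype_injective hzy]
  · rw [hm]; exact_mod_cast hlam

/-- `X ∩ N(P) = R` for the common kernel of extensions of the characters trivial on `R`. -/
theorem exists_inf_eq (R : Subgroup (NP P)) [R.Normal] (hDR : DN P ≤ R)
    (hext : ∀ θ : Cfsg.IrrCharacter (NP P), (∀ y ∈ DN P, (θ : NP P → ℂ) y = (θ : NP P → ℂ) 1) →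
      ∃ χ : G → ℂ, Cfsg.IsCharacter G χ ∧ ∀ x : NP P, χ x = (θ : NP P → ℂ) x) :
    ∃ X : Subgroup G, X.Normal ∧ ∀ x : NP P, (x : G) ∈ X ↔ x ∈ R := by
  choose ext hext1 hext2 using hext
  refine ⟨⨅ θ : {θ : Cfsg.IrrCharacter (NP P) // ∀ y ∈ R, (θ : NP P → ℂ) y = (θ : NP P → ℂ) 1},
    charKer (ext θ.1 (fun y hy => θ.2 y (hDR hy))) (hext1 _ _),
    Subgroup.normal_iInf_normal (fun θ => charKer_normal _ _), fun x => ?_⟩
  rw [Subgroup.mem_iInf]
  constructor
  · intro h
    have hq : IsConj (x : NP P ⧸ R) 1 := by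
      rw [CharBasicOrth.isConj_iff_forall_irr]
      intro η
      have := mem_charKer.1 (h (quotientIrrEquiv R η))
      rw [hext2] at this
      erw [show (ext (quotientIrrEquiv R η).1 (fun y hy => (quotientIrrEquiv R η).2 y (hDR hy))) 1 =
        ((quotientIrrEquiv R η).1 : NP P → ℂ) 1 from hext2 _ _ 1] at this
      exact this
    exact (QuotientGroup.eq_one_iff x).1 (isConj_one_left.1 hq)
  · intro hx θ
    have h1 : ext θ.1 (fun y hy => θ.2 y (hDR hy)) 1 = (θ.1 : NP P → ℂ) 1 := hext2 _ _ 1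
    rw [mem_charKer, hext2, h1]
    exact θ.2 x hx

/-- If all characters of `N(P)` of degree prime to `p` extend then `N(P)` has a normal complement. -/
theorem exists_complement
    (hext : ∀ θ : Cfsg.IrrCharacter (NP P), (∀ y ∈ DN P, (θ : NP P → ℂ) y = (θ : NP P → ℂ) 1) →
      ∃ χ : G → ℂ, Cfsg.IsCharacter G χ ∧ ∀ x : NP P, χ x = (θ : NP P → ℂ) x) :
    ∃ K : Subgroup G, K.Normal ∧ K ⊔ NP P = ⊤ ∧ K ⊓ NP P = ⊥ := by
  obtain ⟨M, hMn, hM⟩ := exists_inf_eq P ((P : Subgroup G).subgroupOf (NP P)) (Subgroup.commutator_le_self _) hext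
  obtain ⟨K0, hKn, hK⟩ := exists_inf_eq P (DN P) le_rfl hext
  haveI := hMn; haveI := hKn
  have hPM : (P : Subgroup G) ≤ M := fun x hx => (hM ⟨x, P_le P hx⟩).2 hx
  have hMN : ∀ x, x ∈ M → x ∈ NP P → x ∈ (P : Subgroup G) := fun x h1 h2 => (hM ⟨x, h2⟩).1 h1
  have hKN : ∀ x, x ∈ K0 → x ∈ NP P → x ∈ ⁅(P : Subgroup G), (P : Subgroup G)⁆ := fun x h1 h2 => by
    rw [← map_DN]; exact ⟨⟨x, h2⟩, (hK ⟨x, h2⟩).1 h1, rfl⟩
  have hDK : ∀ x ∈ ⁅(P : Subgroup G), (P : Subgroup G)⁆, x ∈ K0 := fun x hx => by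
    rw [← map_DN] at hx
    obtain ⟨y, hy, rfl⟩ := hx
    exact (hK y).2 hy
  let PM : Sylow p M := P.subtype hPM
  have hPMmem : ∀ m : M, m ∈ (PM : Subgroup M) ↔ (m : G) ∈ (P : Subgroup G) := fun m => Iff.rfl
  haveI : (K0.subgroupOf M).Normal := Subgroup.normal_subgroupOf
  let f : M →* M ⧸ K0.subgroupOf M := QuotientGroup.mk' _
  have hf : Function.Surjective f := QuotientGroup.mk'_surjective _
  let Pb : Sylow p (M ⧸ K0.subgroupOf M) := PM.mapSurjective hf
  have hPb : (Pb : Subgroup _) = (PM : Subgroup M).map f := Sylow.coe_mapSurjective _ _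
  have hab : ∀ a ∈ (Pb : Subgroup (M ⧸ K0.subgroupOf M)), ∀ b ∈ (Pb : Subgroup (M ⧸ K0.subgroupOf M)), a * b = b * a := by
    rw [hPb]
    rintro _ ⟨a, ha, rfl⟩ _ ⟨b, hb, rfl⟩
    rw [← map_mul, ← map_mul]
    refine QuotientGroup.eq.2 (Subgroup.mem_subgroupOf.2 (hDK _ ?_))
    have : (((a * b)⁻¹ * (b * a) : M) : G) = ⁅((b : G))⁻¹, ((a : G))⁻¹⁆ := by
      simp [commutatorElement_def, mul_assoc]
    rw [this]
    exact Subgroup.commutator_mem_commutator (inv_mem hb) (inv_mem ha)
  have hnorm : Subgroup.normalizer ((Pb : Subgroup (M ⧸ K0.subgroupOf M)) : Set (M ⧸ K0.subgroupOf M)) ≤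
      Subgroup.centralizer ((Pb : Subgroup (M ⧸ K0.subgroupOf M)) : Set (M ⧸ K0.subgroupOf M)) := by
    intro y hy
    obtain ⟨m, rfl⟩ := hf y
    suffices f m ∈ (Pb : Subgroup (M ⧸ K0.subgroupOf M)) from Subgroup.mem_centralizer_iff.2 fun b hb => hab b hb _ this
    rw [hPb] at hy ⊢
    set U : Subgroup M := ((PM : Subgroup M).map f).comap f with hU
    have hPU : (PM : Subgroup M) ≤ U := Subgroup.le_comap_map f _
    have hconj : ((m • PM : Sylow p M) : Subgroup M) ≤ U := by
      intro x hx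
      rw [Sylow.coe_subgroup_smul, Subgroup.mem_pointwise_smul_iff_inv_smul_mem] at hx
      have h1 := (Subgroup.mem_normalizer_iff.1 hy (f ((MulAut.conj m)⁻¹ • x))).1 ⟨_, hx, rfl⟩
      show f x ∈ (PM : Subgroup M).map f
      convert h1 using 1
      rw [MulAut.smul_def, MulAut.inv_def, MulAut.conj_symm_apply, map_mul, map_mul, map_inv]
      group
    obtain ⟨⟨t, htU⟩, ht⟩ := MulAction.exists_smul_eq U ((m • PM : Sylow p M).subtype hconj)
      (PM.subtype hPU)
    rw [Sylow.smul_subtype] at ht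
    have ht' := Sylow.subtype_injective ht
    rw [Subgroup.smul_def, smul_smul] at ht'
    have hn : t * m ∈ Subgroup.normalizer ((PM : Subgroup M) : Set M) := Sylow.smul_eq_iff_mem_normalizer.1 ht'
    have hmem : t * m ∈ (PM : Subgroup M) := by
      refine hMN ((t * m : M) : G) (SetLike.coe_mem (t * m)) (Subgroup.mem_normalizer_iff.2 fun x => ?_)
      constructor
      · intro hx; exact (Subgroup.mem_normalizer_iff.1 hn ⟨x, hPM hx⟩).1 hx
      · intro hx
        have hxM : x ∈ M := by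
          have := hMn.conj_mem _ (hPM hx) ((t * m : M) : G)⁻¹
          simpa [mul_assoc] using this
        exact (Subgroup.mem_normalizer_iff.1 hn ⟨x, hxM⟩).2 hx
    have h2 : f (t * m) ∈ (PM : Subgroup M).map f := ⟨_, hmem, rfl⟩
    rw [map_mul] at h2
    exact (Subgroup.mul_mem_cancel_left _ htU).1 h2
  have hcomp := MonoidHom.ker_transferSylow_isComplement' Pb hnorm
  set L1 : Subgroup M := (MonoidHom.transferSylow Pb hnorm).ker.comap f with hL1
  obtain ⟨k, hk⟩ := IsPGroup.iff_card.1 Pb.isPGroup'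
  have hres : Cfsg.pResidual p M ≤ L1 := by
    refine TransferPResidual.pResidual_le_of_index (k := k) ?_
    rw [hL1, Subgroup.index_comap_of_surjective _ hf, hcomp.symm.index_eq_card, hk]
  have hle : (PM : Subgroup M) ⊓ Cfsg.pResidual p M ≤ ⁅(PM : Subgroup M), (PM : Subgroup M)⁆ := by
    rintro x ⟨hxP, hxR⟩
    have h1 : f x = 1 := by
      refine Subgroup.mem_bot.1 (hcomp.disjoint.le_bot ⟨hres hxR, ?_⟩)
      rw [hPb]; exact ⟨x, hxP, rfl⟩
    have h2 := hKN x (Subgroup.mem_subgroupOf.1 ((QuotientGroup.eq_one_iff x).1 h1)) (P_le P hxP)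
    have h3 : ⁅(PM : Subgroup M), (PM : Subgroup M)⁆.map M.subtype = ⁅(P : Subgroup G), (P : Subgroup G)⁆ := by
      rw [Subgroup.map_commutator, show (PM : Subgroup M).map M.subtype = (P : Subgroup G) from
        Subgroup.map_subgroupOf_eq_of_le hPM]
    rw [← h3] at h2
    obtain ⟨z, hz, hzx⟩ := h2
    rwa [← M.subtype_injective hzx]
  have hnpc := TransferTate.hasNormalPComplement_of_le_commutator PM hle
  refine ⟨(Cfsg.pResidual p M).map M.subtype, inferInstance, ?_, ?_⟩
  · rw [eq_top_iff, ← Sylow.normalizer_sup_eq_top' P hPM]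
    refine sup_le le_sup_right fun x hx => ?_
    have h1 : (⟨x, hx⟩ : M) ∈ (PM : Subgroup M) ⊔ Cfsg.pResidual p M := by
      rw [TransferPResidual.sylow_sup_pResidual]; exact Subgroup.mem_top _
    have h2 := Subgroup.mem_map_of_mem M.subtype h1
    rw [Subgroup.map_sup] at h2
    refine (sup_le ?_ le_sup_left : _ ≤ (Cfsg.pResidual p M).map M.subtype ⊔ NP P) h2
    rintro _ ⟨y, hy, rfl⟩
    exact (le_sup_right : NP P ≤ _) (P_le P hy)
  · rw [eq_bot_iff]
    rintro x ⟨⟨y, hy, rfl⟩, hxN⟩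
    have hyP : y ∈ (PM : Subgroup M) := hMN _ y.2 hxN
    have hcop := (TransferPResidual.mem_pResidual_iff_coprime hnpc y).1 hy
    obtain ⟨j, hj⟩ := IsPGroup.iff_orderOf.1 PM.isPGroup' ⟨y, hyP⟩
    rw [Subgroup.orderOf_mk] at hj
    rcases j.eq_zero_or_pos with h0 | h0
    · rw [h0, pow_zero, orderOf_eq_one_iff] at hj
      rw [hj]; exact Subgroup.mem_bot.2 rfl
    · rw [hj, Nat.coprime_pow_left_iff h0, Nat.coprime_self] at hcop
      exact absurd hcop (Fact.out : p.Prime).ne_one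

/-- A character of degree prime to `p` is trivial on a normal complement of `N(P)`. -/
theorem trivial_on_complement [Fintype G] {K : Subgroup G} [K.Normal] (hK : K ⊓ NP P = ⊥)
    (hKtop : K ⊔ NP P = ⊤) (χ : Cfsg.IrrCharacter G) (hχ : ¬ p ∣ Cfsg.charDegree (χ : G → ℂ)) :
    ∀ k ∈ K, (χ : G → ℂ) k = (χ : G → ℂ) 1 := by
  classical
  haveI := Fintype.ofFinite K
  letI act : MulAction (P : Subgroup G) K :=
    MulAction.compHom K ((MulAut.conjNormal (H := K)).comp (P : Subgroup G).subtype)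
  have hsmul : ∀ (x : (P : Subgroup G)) (k : K), ((x • k : K) : G) = x * k * (x : G)⁻¹ := fun x k => rfl
  have hint : ∀ k : K, IsIntegral ℤ ((χ : G → ℂ) k) := fun k => CharBasic.isCharacter_integral (irr_isCharacter χ) _
  obtain ⟨z, hz, hzsum⟩ := sum_eq_fixed_add (α := K) P.isPGroup' (fun k : K => (χ : G → ℂ) k)
    (fun x k => by rw [hsmul]; exact CharBasic.isClassFunction_of_isCharacter (irr_isCharacter χ) _ _) hint
  have hfix : Finset.univ.filter (· ∈ MulAction.fixedPoints (P : Subgroup G) K) = {1} := by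
    ext k
    simp only [Finset.mem_filter, Finset.mem_univ, true_and, Finset.mem_singleton]
    constructor
    · intro hk
      have hcent : (k : G) ∈ NP P := by
        refine Subgroup.centralizer_le_normalizer _ (Subgroup.mem_centralizer_iff.2 fun x hx => ?_)
        have := congrArg Subtype.val (hk ⟨x, hx⟩)
        rw [hsmul] at this
        exact mul_inv_eq_iff_eq_mul.1 this
      exact Subtype.ext (Subgroup.mem_bot.1 (hK.le ⟨k.2, hcent⟩))
    · rintro rfl x
      exact Subtype.ext (by rw [hsmul]; simp)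
  obtain ⟨m0, hm0⟩ := CharBasicOrth.classInner_isCharacter (res_isCharacter (irr_isCharacter χ) K)
    (CharBasicDecomp.isCharacter_one (G := K))
  have hsum : (Nat.card K : ℂ) * m0 = ∑ k : K, (χ : G → ℂ) k := by
    rw [← hm0, CharBasicOrth.card_mul_classInner]
    simp
  refine constituent_trivial_on K (CharBasicDecomp.isCharacter_one (G := K)) K le_rfl (fun _ _ => rfl) χ ?_
  intro h0
  rw [hm0, Nat.cast_eq_zero] at h0
  rw [h0, Nat.cast_zero, mul_zero, hzsum, hfix, Finset.sum_singleton, OneMemClass.coe_one, irr_degree] at hsum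
  apply hχ
  refine DegreeDvd.dvd_of_isIntegral_div (Fact.out : p.Prime).ne_zero ?_
  have hpne : (p : ℂ) ≠ 0 := Nat.cast_ne_zero.2 (Fact.out : p.Prime).ne_zero
  have : (Cfsg.charDegree (χ : G → ℂ) : ℂ) / p = -z := by
    rw [div_eq_iff hpne, eq_neg_of_add_eq_zero_left hsum.symm]; ring
  rw [this]; exact hz.neg

/-- The retraction onto a complemented subgroup. -/
theorem exists_retraction {K N : Subgroup G} [K.Normal] (hK : K ⊓ N = ⊥) (hKtop : K ⊔ N = ⊤) :
    ∃ f : G →* N, Function.Surjective f ∧ (∀ n : N, f n = n) ∧ ∀ g, (g * ((f g : N) : G)⁻¹) ∈ K := by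
  let j : N →* G ⧸ K := (QuotientGroup.mk' K).comp N.subtype
  have hb : Function.Bijective j := by
    constructor
    · rw [injective_iff_map_eq_one]
      intro n hn
      exact Subtype.ext (Subgroup.mem_bot.1 (hK.le ⟨(QuotientGroup.eq_one_iff _).1 hn, n.2⟩))
    · intro q
      obtain ⟨g, rfl⟩ := QuotientGroup.mk_surjective q
      obtain ⟨k, hk, n, hn, rfl⟩ := Subgroup.mem_sup_of_normal_left.1 (hKtop.ge (Subgroup.mem_top g))
      refine ⟨⟨n, hn⟩, ?_⟩
      show ((n : G) : G ⧸ K) = ((k * n : G) : G ⧸ K)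
      rw [QuotientGroup.mk_mul, (QuotientGroup.eq_one_iff k).2 hk, one_mul]
  let e := MulEquiv.ofBijective j hb
  refine ⟨e.symm.toMonoidHom.comp (QuotientGroup.mk' K), ?_, fun n => e.symm_apply_apply n, fun g => ?_⟩
  · exact e.symm.surjective.comp (QuotientGroup.mk'_surjective K)
  · have := e.apply_symm_apply (g : G ⧸ K)
    have h2 : ((((e.symm (g : G ⧸ K)) : N) : G) : G ⧸ K) = (g : G ⧸ K) := this
    rw [QuotientGroup.eq] at h2
    exact Subgroup.Normal.mem_comm inferInstance h2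

end Sylow

end Cfsg.Agent.NormalizerExt
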