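import Mathlib
import Cfsg.Agent.Lib.FrobeniusNilpotent

/-!
Subgroups invariant under a self-centralising element of order three.
-/

set_option autoImplicit false

namespace Cfsg.Agent.SelfCentThreeBase

variable {G : Type*} [Group G]

/-- A self-centralising element of order three. -/
structure SC3 (x : G) : Prop where
  ord : orderOf x = 3
  cent : ∀ g : G, Commute g x → g = 1 ∨ g = x ∨ g = x⁻¹

/-- An invariant subgroup of order prime to three. -/
structure Inv3 (x : G) (K : Subgroup G) : Prop where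
  inv : ∀ k ∈ K, x * k * x⁻¹ ∈ K
  cop : ¬ 3 ∣ Nat.card K

theorem SC3.pow_three {x : G} (h : SC3 x) : x * x * x = 1 := by
  have := pow_orderOf_eq_one x
  rwa [h.ord, pow_succ, pow_two] at this

theorem SC3.ne_one {x : G} (h : SC3 x) : x ≠ 1 := fun e => by
  have := h.ord; rw [e, orderOf_one] at this; omega

theorem SC3.inv_eq {x : G} (h : SC3 x) : x⁻¹ = x * x := inv_eq_of_mul_eq_one_left h.pow_three

theorem SC3.inv_ne {x : G} (h : SC3 x) : x⁻¹ ≠ x := fun e => by
  have h1 : x * x = x := h.inv_eq.symm.trans e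
  exact h.ne_one (mul_eq_left.1 h1)

theorem SC3.mem_zpowers_iff {x : G} (h : SC3 x) [Finite G] (g : G) :
    g ∈ Subgroup.zpowers x ↔ g = 1 ∨ g = x ∨ g = x⁻¹ := by
  classical
  rw [mem_zpowers_iff_mem_range_orderOf, h.ord]
  constructor
  · intro hg
    obtain ⟨k, hk, rfl⟩ := Finset.mem_image.1 hg
    rw [Finset.mem_range] at hk
    interval_cases k
    · exact Or.inl (pow_zero x)
    · exact Or.inr (Or.inl (pow_one x))
    · exact Or.inr (Or.inr (by rw [h.inv_eq, pow_two]))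
  · rintro (rfl | rfl | rfl)
    · exact Finset.mem_image.2 ⟨0, by simp⟩
    · exact Finset.mem_image.2 ⟨1, by simp⟩
    · exact Finset.mem_image.2 ⟨2, by simp [h.inv_eq, pow_two]⟩

theorem SC3.inv {x : G} (h : SC3 x) : SC3 x⁻¹ := by
  refine ⟨by rw [orderOf_inv, h.ord], fun g hg => ?_⟩
  rcases h.cent g (by simpa using hg.inv_right) with h1 | h1 | h1
  · exact Or.inl h1
  · exact Or.inr (Or.inr (by rw [h1, inv_inv]))
  · exact Or.inr (Or.inl h1)

theorem SC3.conj {x : G} (h : SC3 x) (g : G) : SC3 (g * x * g⁻¹) := by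
  refine ⟨(MulEquiv.orderOf_eq (MulAut.conj g) x).trans h.ord, fun k hk => ?_⟩
  have h1 : Commute (g⁻¹ * k * g) x := by
    have := hk.map (MulAut.conj g⁻¹).toMonoidHom
    simpa [mul_assoc] using this
  have h2 : k = g * (g⁻¹ * k * g) * g⁻¹ := by group
  rcases h.cent _ h1 with e | e | e <;> rw [e] at h2 <;> rw [h2]
  · exact Or.inl (by group)
  · exact Or.inr (Or.inl rfl)
  · exact Or.inr (Or.inr (by group))

theorem Inv3.inv' {x : G} (hx : SC3 x) {K : Subgroup G} (hK : Inv3 x K) : Inv3 x⁻¹ K := by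
  refine ⟨fun k hk => ?_, hK.cop⟩
  have := hK.inv _ (hK.inv k hk)
  rw [inv_inv]
  have e : x⁻¹ * k * x = x * (x * k * x⁻¹) * x⁻¹ := by
    rw [hx.inv_eq]
    calc x * x * k * x = x * x * k * (x * (x * x * x)⁻¹) := by rw [hx.pow_three, inv_one, mul_one]
      _ = x * (x * k * (x⁻¹)) * x⁻¹ := by group
      _ = _ := by rw [hx.inv_eq]
  rwa [e]

theorem Inv3.fpf {x : G} (hx : SC3 x) {K : Subgroup G} (hK : Inv3 x K) {k : G} (hk : k ∈ K)
    (hc : Commute k x) : k = 1 := by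
  have key : ∀ g ∈ K, orderOf g ≠ 3 := fun g hg h3 => hK.cop (by
    have := orderOf_dvd_natCard (⟨g, hg⟩ : K)
    rwa [Subgroup.orderOf_mk, h3] at this)
  rcases hx.cent k hc with e | e | e
  · exact e
  · exact absurd (by rw [e, hx.ord]) (key k hk)
  · exact absurd (by rw [e, hx.inv.ord]) (key k hk)

variable [Finite G]

theorem Inv3.exists_preimage {x : G} (hx : SC3 x) {K : Subgroup G} (hK : Inv3 x K) {k : G}
    (hk : k ∈ K) : ∃ u ∈ K, k = u⁻¹ * (x * u * x⁻¹) := by
  let f : K → K := fun u => ⟨(u : G)⁻¹ * (x * u * x⁻¹), K.mul_mem (K.inv_mem u.2) (hK.inv _ u.2)⟩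
  have hf : Function.Injective f := by
    intro u v h
    have h' : (u : G)⁻¹ * (x * u * x⁻¹) = (v : G)⁻¹ * (x * v * x⁻¹) := congrArg Subtype.val h
    have hc : Commute ((v : G) * (u : G)⁻¹) x := by
      have e : (v : G) * (u : G)⁻¹ = x * ((v : G) * (u : G)⁻¹) * x⁻¹ := by
        calc (v : G) * (u : G)⁻¹ = v * ((u : G)⁻¹ * (x * u * x⁻¹)) * (x * u * x⁻¹)⁻¹ := by group
          _ = x * ((v : G) * (u : G)⁻¹) * x⁻¹ := by rw [h']; group
      exact eq_mul_inv_iff_mul_eq.1 e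
    exact Subtype.ext (mul_inv_eq_one.1 (hK.fpf hx (K.mul_mem v.2 (K.inv_mem u.2)) hc)).symm
  obtain ⟨u, hu⟩ := (Finite.injective_iff_surjective.1 hf) ⟨k, hk⟩
  exact ⟨u, u.2, (congrArg Subtype.val hu).symm⟩

theorem Inv3.rel {x : G} (hx : SC3 x) {K : Subgroup G} (hK : Inv3 x K) {k : G} (hk : k ∈ K) :
    k * (x * k * x⁻¹) * (x * x * k * (x * x)⁻¹) = 1 := by
  obtain ⟨u, -, rfl⟩ := hK.exists_preimage hx hk
  have e : u⁻¹ * (x * u * x⁻¹) * (x * (u⁻¹ * (x * u * x⁻¹)) * x⁻¹) *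
      (x * x * (u⁻¹ * (x * u * x⁻¹)) * (x * x)⁻¹) = u⁻¹ * ((x * x * x) * u * (x * x * x)⁻¹) := by group
  rw [e, hx.pow_three]
  group

theorem Inv3.pow_mul_eq {x : G} (hx : SC3 x) {K : Subgroup G} (hK : Inv3 x K) {k : G} (hk : k ∈ K) :
    (k * x) ^ 3 = 1 := by
  calc (k * x) ^ 3 = k * (x * k * x⁻¹) * (x * x * k * (x * x)⁻¹) * (x * x * x) := by
        rw [pow_succ, pow_two]; group
    _ = 1 := by rw [hK.rel hx hk, hx.pow_three, mul_one]

theorem Inv3.commute_conj {x : G} (hx : SC3 x) {K : Subgroup G} (hK : Inv3 x K) {k : G}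
    (hk : k ∈ K) : Commute k (x * k * x⁻¹) := by
  have h1 := hK.rel hx hk
  have h2 := hK.rel hx (K.inv_mem hk)
  have e1 : x * x * k * (x * x)⁻¹ = (k * (x * k * x⁻¹))⁻¹ := eq_inv_of_mul_eq_one_right h1
  have e2 : x * x * k⁻¹ * (x * x)⁻¹ = (k⁻¹ * (x * k⁻¹ * x⁻¹))⁻¹ := eq_inv_of_mul_eq_one_right h2
  show k * (x * k * x⁻¹) = x * k * x⁻¹ * k
  calc k * (x * k * x⁻¹) = (x * x * k * (x * x)⁻¹)⁻¹ := by rw [e1, inv_inv]
    _ = x * x * k⁻¹ * (x * x)⁻¹ := by simp [mul_assoc]
    _ = _ := by rw [e2]; group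

theorem Inv3.exists_conj {x : G} (hx : SC3 x) {K : Subgroup G} (hK : Inv3 x K) {t : G} (ht : t ∈ K) :
    ∃ u ∈ K, t * x = u⁻¹ * x * u := by
  obtain ⟨u, hu, rfl⟩ := hK.exists_preimage hx ht
  exact ⟨u, hu, by group⟩

theorem Inv3.mul_inv3 {x : G} (hx : SC3 x) {K : Subgroup G} (hK : Inv3 x K) {t : G} (ht : t ∈ K) :
    SC3 (t * x) ∧ Inv3 (t * x) K := by
  obtain ⟨u, hu, he⟩ := hK.exists_conj hx ht
  refine ⟨?_, fun k hk => ?_, hK.cop⟩
  · rw [he]; simpa using hx.conj u⁻¹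
  · rw [mul_inv_rev, show t * x * k * (x⁻¹ * t⁻¹) = t * (x * k * x⁻¹) * t⁻¹ by group]
    exact K.mul_mem (K.mul_mem ht (hK.inv k hk)) (K.inv_mem ht)

/-- An element commutes with all its conjugates in an invariant subgroup. -/
theorem Inv3.commute_conjugate {x : G} (hx : SC3 x) {K : Subgroup G} (hK : Inv3 x K) {k t : G}
    (hk : k ∈ K) (ht : t ∈ K) : Commute k (t * k * t⁻¹) := by
  have h : ∀ y : G, SC3 y → Inv3 y K → ∀ t ∈ K, Commute k (t * (y * k * y⁻¹) * t⁻¹) := by
    intro y hy hKy t ht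
    obtain ⟨h1, h2⟩ := hKy.mul_inv3 hy ht
    have := h2.commute_conj h1 hk
    rwa [mul_inv_rev, show t * y * k * (y⁻¹ * t⁻¹) = t * (y * k * y⁻¹) * t⁻¹ by group] at this
  have e : t * k⁻¹ * t⁻¹ = (t * (x * k * x⁻¹) * t⁻¹) * (t * (x⁻¹ * k * x⁻¹⁻¹) * t⁻¹) := by
    have h1 := hK.rel hx hk
    rw [mul_assoc] at h1
    rw [← eq_inv_of_mul_eq_one_right h1, hx.inv_eq]
    group
  have := (h x hx hK t ht).mul_right (h x⁻¹ hx.inv (hK.inv' hx) t ht)
  rw [← e] at this
  simpa [mul_assoc] using this.inv_right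

theorem Inv3.card_mod {x : G} (hx : SC3 x) {K : Subgroup G} (hK : Inv3 x K) :
    Nat.card K % 3 = 1 := by
  classical
  haveI := Fintype.ofFinite K
  haveI : Fact (Nat.Prime 3) := ⟨Nat.prime_three⟩
  let f : Function.End K := fun k => ⟨x * k * x⁻¹, hK.inv _ k.2⟩
  have hf : f ^ 3 ^ 1 = 1 := by
    funext k
    apply Subtype.ext
    show x * (x * (x * (k : G) * x⁻¹) * x⁻¹) * x⁻¹ = k
    calc x * (x * (x * (k : G) * x⁻¹) * x⁻¹) * x⁻¹ = (x * x * x) * k * (x * x * x)⁻¹ := by group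
      _ = k := by rw [hx.pow_three]; group
  have h := Equiv.Perm.card_fixedPoints_modEq hf
  have h1 : Fintype.card f.fixedPoints = 1 := by
    rw [Fintype.card_eq_one_iff]
    refine ⟨⟨1, Subtype.ext (show x * ((1 : K) : G) * x⁻¹ = ((1 : K) : G) by simp)⟩, fun k => ?_⟩
    refine Subtype.ext (Subtype.ext ?_)
    refine hK.fpf hx k.1.2 ?_
    exact ((mul_inv_eq_iff_eq_mul.1 (congrArg Subtype.val k.2 : x * (k.1 : G) * x⁻¹ = k.1))).symm
  rw [h1, ← Nat.card_eq_fintype_card] at h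
  exact h

theorem Inv3.isNilpotent {x : G} (hx : SC3 x) {K : Subgroup G} (hK : Inv3 x K) :
    Group.IsNilpotent K := by
  have hcube : ∀ k : G, x * (x * (x * k * x⁻¹) * x⁻¹) * x⁻¹ = k := by
    intro k
    calc x * (x * (x * k * x⁻¹) * x⁻¹) * x⁻¹ = (x * x * x) * k * (x * x * x)⁻¹ := by group
      _ = k := by rw [hx.pow_three]; group
  let φ : MulAut K :=
    { toFun := fun k => ⟨x * k * x⁻¹, hK.inv _ k.2⟩
      invFun := fun k => ⟨x * (x * k * x⁻¹) * x⁻¹, hK.inv _ (hK.inv _ k.2)⟩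
      left_inv := fun k => Subtype.ext (hcube k)
      right_inv := fun k => Subtype.ext (hcube k)
      map_mul' := fun a b => Subtype.ext (by
        show x * ((a : G) * b) * x⁻¹ = x * a * x⁻¹ * (x * b * x⁻¹)
        group) }
  refine FrobeniusNilpotent.isNilpotent_of_fpf φ (fun k hk => ?_) 3 Nat.prime_three ?_
  · refine Subtype.ext (hK.fpf hx k.2 ?_)
    exact (mul_inv_eq_iff_eq_mul.1 (congrArg Subtype.val hk : x * (k : G) * x⁻¹ = k)).symm
  · refine MulEquiv.ext fun k => Subtype.ext ?_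
    rw [pow_succ, pow_two]
    exact hcube k

omit [Finite G] in
theorem conj_inv {x i : G} (hi : i * i = 1) (hix : i * x * i = x⁻¹) (hx : SC3 x) :
    x * i * x⁻¹ = i * x := by
  calc x * i * x⁻¹ = (i * i) * x * i * x⁻¹ := by rw [hi, one_mul]
    _ = i * (i * x * i) * x⁻¹ := by group
    _ = i * (x⁻¹ * x⁻¹) := by rw [hix]; group
    _ = i * x := by rw [← mul_inv_rev, ← hx.inv_eq, inv_inv]

omit [Finite G] in
/-- Nothing non-trivial commutes with two of the inverting involutions. -/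
theorem eq_one_of_commute_two {x i g : G} (hx : SC3 x) (hi : i * i = 1) (hix : i * x * i = x⁻¹)
    (h1 : Commute g i) (h2 : Commute g (i * x)) : g = 1 := by
  have hgx : Commute g x := by
    have := h1.mul_right h2
    rwa [← mul_assoc, hi, one_mul] at this
  have hne : i * x * i ≠ x := hix ▸ hx.inv_ne
  rcases hx.cent g hgx with e | e | e
  · exact e
  · subst e
    exact absurd (by rw [← h1.eq, mul_assoc, hi, mul_one]) hne
  · subst e
    have h3 : Commute x i := by simpa using h1.inv_left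
    exact absurd (by rw [← h3.eq, mul_assoc, hi, mul_one]) hne

/-- The centraliser of an inverting involution in an invariant subgroup. -/
theorem card_centralizer_sq {x i : G} (hx : SC3 x) (hi : i * i = 1) (hix : i * x * i = x⁻¹)
    {K : Subgroup G} (hK : Inv3 x K) (hiK : ∀ k ∈ K, i * k * i ∈ K) :
    Nat.card ↥(K ⊓ Subgroup.centralizer ({i} : Set G)) ^ 2 = Nat.card K := by
  classical
  haveI := Fintype.ofFinite G
  set U := K ⊓ Subgroup.centralizer ({i} : Set G) with hU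
  have memU : ∀ g, g ∈ U ↔ g ∈ K ∧ Commute g i := fun g => by
    rw [hU, Subgroup.mem_inf, Subgroup.mem_centralizer_singleton_iff]; rfl
  set q := Nat.card U with hq
  set m := Nat.card K with hm
  -- at most
  have hle : q * q ≤ m := by
    have hmem : ∀ u : U, x * (u : G) * x⁻¹ ∈ K := fun u => hK.inv _ ((memU _).1 u.2).1
    rw [hq, ← Nat.card_prod]
    refine Nat.card_le_card_of_injective
      (fun p : U × U => (⟨(p.1 : G) * (x * p.2 * x⁻¹), K.mul_mem ((memU _).1 p.1.2).1 (hmem _)⟩ : K)) ?_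
    rintro ⟨u, v⟩ ⟨u', v'⟩ h
    have h' : (u : G) * (x * v * x⁻¹) = u' * (x * v' * x⁻¹) := congrArg Subtype.val h
    have e : (u' : G)⁻¹ * u = x * ((v' : G) * (v : G)⁻¹) * x⁻¹ := by
      calc (u' : G)⁻¹ * u = (u' : G)⁻¹ * ((u : G) * (x * v * x⁻¹)) * (x * (v : G) * x⁻¹)⁻¹ := by group
        _ = _ := by rw [h']; group
    have c1 : Commute ((u' : G)⁻¹ * u) i := ((memU _).1 u'.2).2.inv_left.mul_left ((memU _).1 u.2).2
    have c2 : Commute ((u' : G)⁻¹ * u) (i * x) := by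
      rw [e, ← conj_inv hi hix hx]
      exact (((memU _).1 v'.2).2.mul_left ((memU _).1 v.2).2.inv_left).map (MulAut.conj x).toMonoidHom
    have h1 := eq_one_of_commute_two hx hi hix c1 c2
    have hu : u = u' := Subtype.ext (inv_mul_eq_one.1 h1).symm
    subst hu
    exact Prod.ext rfl (Subtype.ext (mul_left_cancel (mul_right_cancel (mul_left_cancel h'))))
  -- at least
  let K' : Finset G := Finset.univ.filter fun g => g ∈ K
  have hK' : K'.card = m := by
    rw [hm, Nat.card_eq_fintype_card, Fintype.card_subtype]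
  set O := K'.image (fun u => u⁻¹ * i * u) with hO
  have hfib : ∀ b ∈ O, (K'.filter fun u => u⁻¹ * i * u = b).card = q := by
    intro b hb
    obtain ⟨u₀, hu₀, rfl⟩ := Finset.mem_image.1 hb
    have hu₀' : u₀ ∈ K := (Finset.mem_filter.1 hu₀).2
    rw [hq, Nat.card_eq_fintype_card, Fintype.card_subtype]
    refine Finset.card_bij' (fun u _ => u * u₀⁻¹) (fun g _ => g * u₀) ?_ ?_ ?_ ?_
    · intro u hu
      simp only [K', Finset.mem_filter, Finset.mem_univ, true_and] at hu ⊢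
      refine (memU _).2 ⟨K.mul_mem hu.1 (K.inv_mem hu₀'), ?_⟩
      show u * u₀⁻¹ * i = i * (u * u₀⁻¹)
      calc u * u₀⁻¹ * i = u * (u₀⁻¹ * i * u₀) * u₀⁻¹ := by group
        _ = i * (u * u₀⁻¹) := by rw [← hu.2]; group
    · intro g hg
      simp only [K', Finset.mem_filter, Finset.mem_univ, true_and] at hg ⊢
      obtain ⟨hgK, hgc⟩ := (memU _).1 hg
      refine ⟨K.mul_mem hgK hu₀', ?_⟩
      calc (g * u₀)⁻¹ * i * (g * u₀) = u₀⁻¹ * (g⁻¹ * (i * g)) * u₀ := by group
        _ = u₀⁻¹ * i * u₀ := by rw [← hgc.eq, inv_mul_cancel_left]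
    · intro u _; simp
    · intro g _; simp
  have horb : O.card * q = m := by
    rw [← hK', Finset.card_eq_sum_card_image (fun u => u⁻¹ * i * u) K', ← hO,
      Finset.sum_congr rfl hfib, Finset.sum_const, smul_eq_mul]
  set O' := O.image (fun b => x * b * x⁻¹) with hO'
  have hO'c : O'.card = O.card :=
    Finset.card_image_of_injective _ fun a b h => mul_left_cancel (mul_right_cancel h)
  have hform : ∀ b ∈ O, b * b = 1 ∧ ∃ k ∈ K, b = k * i := by
    intro b hb
    obtain ⟨u, hu, rfl⟩ := Finset.mem_image.1 hb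
    have hu' : u ∈ K := (Finset.mem_filter.1 hu).2
    refine ⟨by rw [show u⁻¹ * i * u * (u⁻¹ * i * u) = u⁻¹ * (i * i) * u by group, hi]; group,
      u⁻¹ * (i * u * i), K.mul_mem (K.inv_mem hu') (hiK u hu'), ?_⟩
    calc u⁻¹ * i * u = u⁻¹ * (i * u) * (i * i) := by rw [hi]; group
      _ = _ := by group
  have hge : O.card * O.card ≤ m := by
    rw [← hK']
    nth_rewrite 2 [← hO'c]
    rw [← Finset.card_product]
    refine Finset.card_le_card_of_injOn (fun p => p.1 * p.2 * x⁻¹) ?_ ?_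
    · rintro ⟨b, b'⟩ hp
      obtain ⟨hb, hb'⟩ := Finset.mem_product.1 (Finset.mem_coe.1 hp)
      obtain ⟨b₀, hb₀, rfl⟩ := Finset.mem_image.1 hb'
      obtain ⟨-, k, hk, rfl⟩ := hform b hb
      obtain ⟨-, k', hk', rfl⟩ := hform b₀ hb₀
      refine Finset.mem_coe.2 (Finset.mem_filter.2 ⟨Finset.mem_univ _, ?_⟩)
      have e : k * i * (x * (k' * i) * x⁻¹) * x⁻¹ = k * (i * (x * k' * x⁻¹) * i) := by
        calc k * i * (x * (k' * i) * x⁻¹) * x⁻¹ = k * i * (x * k' * x⁻¹) * (x * i * x⁻¹) * x⁻¹ := by group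
          _ = _ := by rw [conj_inv hi hix hx]; group
      show k * i * (x * (k' * i) * x⁻¹) * x⁻¹ ∈ K
      rw [e]
      exact K.mul_mem hk (hiK _ (hK.inv _ hk'))
    · rintro ⟨b, b'⟩ hp ⟨c, c'⟩ hp' h
      obtain ⟨hb, hb'⟩ := Finset.mem_product.1 (Finset.mem_coe.1 hp)
      obtain ⟨hc, hc'⟩ := Finset.mem_product.1 (Finset.mem_coe.1 hp')
      have h' : b * b' = c * c' := mul_right_cancel h
      obtain ⟨hbb, k, hk, hbk⟩ := hform b hb
      obtain ⟨hcc, l, hl, hcl⟩ := hform c hc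
      obtain ⟨b₀, hb₀, hb₀e⟩ := Finset.mem_image.1 hb'
      obtain ⟨c₀, hc₀, hc₀e⟩ := Finset.mem_image.1 hc'
      change x * b₀ * x⁻¹ = b' at hb₀e
      change x * c₀ * x⁻¹ = c' at hc₀e
      obtain ⟨hb₀b, k', hk', hbk'⟩ := hform b₀ hb₀
      have hb'b' : b' * b' = 1 := by
        rw [← hb₀e, show x * b₀ * x⁻¹ * (x * b₀ * x⁻¹) = x * (b₀ * b₀) * x⁻¹ by group, hb₀b]; group
      obtain ⟨hc₀c, -⟩ := hform c₀ hc₀
      have hc'c' : c' * c' = 1 := by
        rw [← hc₀e, show x * c₀ * x⁻¹ * (x * c₀ * x⁻¹) = x * (c₀ * c₀) * x⁻¹ by group, hc₀c]; group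
      -- the product is an element of order three inverted by both
      set y := b * b' with hy
      have hyk : ∃ t ∈ K, y = t * x := by
        refine ⟨k * (i * (x * k' * x⁻¹) * i), K.mul_mem hk (hiK _ (hK.inv _ hk')), ?_⟩
        rw [hy, ← hb₀e, hbk, hbk']
        calc k * i * (x * (k' * i) * x⁻¹) = k * i * (x * k' * x⁻¹) * (x * i * x⁻¹) := by group
          _ = _ := by rw [conj_inv hi hix hx]; group
      obtain ⟨t, ht, hyt⟩ := hyk
      obtain ⟨hy3, hKy⟩ := hK.mul_inv3 hx ht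
      rw [← hyt] at hy3 hKy
      have i1 : b * y * b = y⁻¹ := by
        rw [hy, mul_inv_rev, inv_eq_of_mul_eq_one_right hbb, inv_eq_of_mul_eq_one_right hb'b',
          ← mul_assoc, hbb, one_mul]
      have i2 : c * y * c = y⁻¹ := by
        rw [show y = c * c' from h', mul_inv_rev, inv_eq_of_mul_eq_one_right hcc,
          inv_eq_of_mul_eq_one_right hc'c', ← mul_assoc, hcc, one_mul]
      have hcomm : Commute (c * b) y := by
        have e1 : b * y = y⁻¹ * b := by
          calc b * y = b * y * (b * b) := by rw [hbb, mul_one]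
            _ = (b * y * b) * b := by group
            _ = _ := by rw [i1]
        have e2 : c * y⁻¹ = y * c := by
          calc c * y⁻¹ = c * (c * y * c) := by rw [i2]
            _ = (c * c) * y * c := by group
            _ = _ := by rw [hcc, one_mul]
        show c * b * y = y * (c * b)
        rw [mul_assoc, e1, ← mul_assoc, e2, mul_assoc]
      have hcb : c * b ∈ K := by
        rw [hcl, hbk, show l * i * (k * i) = l * (i * k * i) by group]
        exact K.mul_mem hl (hiK k hk)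
      have hcb1 : c = b := by
        have := hKy.fpf hy3 hcb hcomm
        rw [eq_inv_of_mul_eq_one_left this, inv_eq_of_mul_eq_one_right hbb]
      subst hcb1
      exact Prod.ext rfl (mul_left_cancel h')
  -- compare
  have hqpos : 0 < q := Nat.card_pos
  have hge' : m ≤ q * q := by
    have : (O.card * q) * (O.card * q) ≤ m * (q * q) := by
      calc O.card * q * (O.card * q) = O.card * O.card * (q * q) := by ring
        _ ≤ _ := Nat.mul_le_mul_right _ hge
    rw [horb] at this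
    exact Nat.le_of_mul_le_mul_left this Nat.card_pos
  rw [pow_two]
  exact le_antisymm hle hge'

end Cfsg.Agent.SelfCentThreeBase
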