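import Mathlib
import Cfsg.Agent.Lib.SelfCentThreeBase
import Cfsg.Agent.Lib.ClassAlgebraVal
import Cfsg.Agent.Lib.CharBasicDecomp
import Cfsg.Agent.Lib.NormalizerExt

/-!
Characters of a simple group with a self-centralising element of order three.
-/

set_option autoImplicit false

namespace Cfsg.Agent.SelfCentThreeChar

open scoped ComplexConjugate
open SelfCentThreeBase
open Cfsg.Agent.CharBasicOrth Cfsg.Agent.CharBasicDecomp Cfsg.Agent.CharBasic

universe u

variable {G : Type u} [Group G] [Finite G] {x i : G}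

theorem card_centralizer (hx : SC3 x) : Nat.card (Subgroup.centralizer ({x} : Set G)) = 3 := by
  have e : Subgroup.centralizer ({x} : Set G) = Subgroup.zpowers x := by
    ext g
    rw [Subgroup.mem_centralizer_singleton_iff, hx.mem_zpowers_iff]
    refine ⟨hx.cent g, ?_⟩
    rintro (rfl | rfl | rfl) <;> simp
  rw [e, Nat.card_zpowers, hx.ord]

theorem exists_int (hx : SC3 x) (hi : i * i = 1) (hix : i * x * i = x⁻¹) {χ : G → ℂ}
    (hχ : Cfsg.IsCharacter G χ) : ∃ k : ℤ, χ x = k := by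
  classical
  haveI := Fintype.ofFinite G
  obtain ⟨m, hm⟩ := classInner_isCharacter (isCharacter_comap (Subgroup.zpowers x).subtype hχ)
    (isCharacter_one (G := Subgroup.zpowers x))
  obtain ⟨n, hn⟩ := isCharacter_apply_one hχ
  have hset : (Finset.univ.filter fun g => g ∈ Subgroup.zpowers x) = {1, x, x⁻¹} := by
    ext g; simp [hx.mem_zpowers_iff]
  have h2 : χ x⁻¹ = χ x :=
    (apply_eq_of_isConj (isClassFunction_of_isCharacter hχ)
      (isConj_iff.2 ⟨i, by rw [show i⁻¹ = i from inv_eq_of_mul_eq_one_right hi, hix]⟩)).symm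
  have hsum : ∑ k : Subgroup.zpowers x, χ (k : G) = (3 : ℂ) * m := by
    have h := card_mul_classInner (G := Subgroup.zpowers x) (χ ∘ (Subgroup.zpowers x).subtype) (fun _ => 1)
    rw [hm, Nat.card_zpowers, hx.ord] at h
    simp only [Function.comp_apply, map_one, mul_one, Subgroup.subtype_apply] at h
    exact_mod_cast h.symm
  rw [← Finset.sum_subtype (Finset.univ.filter fun g => g ∈ Subgroup.zpowers x) (by simp) χ, hset,
    Finset.sum_insert (by
      simp only [Finset.mem_insert, Finset.mem_singleton]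
      push Not
      exact ⟨hx.ne_one.symm, fun e => hx.ne_one (inv_eq_one.1 e.symm)⟩),
    Finset.sum_pair hx.inv_ne.symm, h2, hn] at hsum
  set k : ℤ := 3 * (m : ℤ) - n with hk
  have hkz : (k : ℂ) = 2 * χ x := by rw [hk]; push_cast; linear_combination -hsum
  have hint := isCharacter_integral hχ x
  have hd : 2 ∣ k.natAbs := by
    refine ClassAlgebraVal.dvd_of_integral (by norm_num) (z := if 0 ≤ k then χ x else -χ x) ?_ ?_
    · split_ifs
      · exact hint
      · exact hint.neg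
    · split_ifs with h
      · rw [show ((k.natAbs : ℕ) : ℂ) = (k : ℂ) by
          rw [← Int.cast_natCast, Int.natAbs_of_nonneg h], hkz]; norm_num
      · rw [show ((k.natAbs : ℕ) : ℂ) = -(k : ℂ) by
          rw [← Int.cast_natCast, Int.ofNat_natAbs_of_nonpos (by omega), Int.cast_neg], hkz]
        push_cast; ring
  obtain ⟨j, hj⟩ := (Int.natCast_dvd (n := k) (m := 2)).2 hd
  exact ⟨j, by rw [hj] at hkz; push_cast at hkz; linear_combination -hkz / 2⟩

/-- The three characters not vanishing at `x`. -/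
theorem exists_pair (hx : SC3 x) (hi : i * i = 1) (hix : i * x * i = x⁻¹) :
    ∃ (φ ψ : Cfsg.IrrCharacter G) (f : ℕ), 0 < f ∧ φ ≠ trivIrr G ∧ (φ : G → ℂ) 1 = f ∧
      (ψ : G → ℂ) 1 = f + 1 ∧ (φ : G → ℂ) x = 1 ∧ (ψ : G → ℂ) x = -1 ∧
      ∀ F : Cfsg.IrrCharacter G → ℂ,
        ∑ χ, F χ * conj ((χ : G → ℂ) x) = F (trivIrr G) + F φ - F ψ := by
  classical
  haveI := Fintype.ofFinite G
  set o := trivIrr G
  choose v hv using fun χ : Cfsg.IrrCharacter G => exists_int hx hi hix (isCharacter_of_isIrrCharacter χ.2)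
  choose n hn0 hn using fun χ : Cfsg.IrrCharacter G => isIrrCharacter_apply_one χ.2
  have hvo : v o = 1 := by
    have : ((v o : ℤ) : ℂ) = ((1 : ℤ) : ℂ) := by rw [← hv o]; simp [o, trivIrr]
    exact Int.cast_injective this
  have hno : n o = 1 := by
    have h : ((n o : ℕ) : ℂ) = ((1 : ℕ) : ℂ) := by rw [← hn o]; simp [o, trivIrr]
    exact Nat.cast_injective h
  have hv3 : ∑ χ, v χ * v χ = 3 := by
    have h := sum_irr_mul_conj x x
    rw [if_pos (IsConj.refl x), card_centralizer hx] at h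
    simp only [hv, map_intCast] at h
    have : ((∑ χ, v χ * v χ : ℤ) : ℂ) = ((3 : ℤ) : ℂ) := by push_cast at h ⊢; exact h
    exact Int.cast_injective this
  set V := Finset.univ.filter fun χ : Cfsg.IrrCharacter G => χ ≠ o ∧ v χ ≠ 0 with hV
  have hsplit0 : ∀ {M : Type} [AddCommMonoid M] (f : Cfsg.IrrCharacter G → M),
      (∀ χ, v χ = 0 → f χ = 0) → ∑ χ, f χ = f o + ∑ χ ∈ V, f χ := by
    intro M _ f hf
    rw [← Finset.add_sum_erase _ _ (Finset.mem_univ o)]
    congr 1
    refine (Finset.sum_subset (fun i hi => Finset.mem_erase.2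
      ⟨(Finset.mem_filter.1 hi).2.1, Finset.mem_univ _⟩) fun i hi hiV => hf i ?_).symm
    by_contra hne
    exact hiV (Finset.mem_filter.2 ⟨Finset.mem_univ _, (Finset.mem_erase.1 hi).1, hne⟩)
  have hsum2 : ∑ χ ∈ V, v χ * v χ = 2 := by
    have h := hsplit0 (fun χ => v χ * v χ) (fun χ h => by simp [h])
    rw [hv3, hvo] at h
    omega
  have hone : ∀ χ ∈ V, v χ = 1 ∨ v χ = -1 := by
    intro χ hχ
    have hne := (Finset.mem_filter.1 hχ).2.2
    have hle : v χ * v χ ≤ 2 := hsum2 ▸ Finset.single_le_sum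
      (f := fun χ => v χ * v χ) (fun i _ => mul_self_nonneg (v i)) hχ
    have : -1 ≤ v χ ∧ v χ ≤ 1 := by constructor <;> nlinarith
    omega
  have hV2 : V.card = 2 := by
    have h := Finset.sum_congr rfl (fun χ hχ =>
      (by rcases hone χ hχ with h | h <;> rw [h] <;> rfl : v χ * v χ = 1)) (s₁ := V)
    rw [hsum2] at h
    simp at h
    omega
  obtain ⟨P, Q, hPQ, hVeq⟩ := Finset.card_eq_two.1 hV2
  have hPV : P ∈ V := by simp [hVeq]
  have hQV : Q ∈ V := by simp [hVeq]
  have hz : 1 + (v P * n P + v Q * n Q) = 0 := by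
    have h := sum_irr_mul_conj (1 : G) x
    rw [if_neg (fun e => hx.ne_one (isConj_one_right.1 e)),
      hsplit0 _ (fun χ h => by simp [hv, h]), hVeq, Finset.sum_pair hPQ] at h
    simp only [hn, hv, map_intCast, hno, hvo] at h
    have : ((1 + (v P * n P + v Q * n Q) : ℤ) : ℂ) = ((0 : ℤ) : ℂ) := by
      push_cast at h ⊢; linear_combination h
    exact Int.cast_injective this
  have hPn := hn0 P
  have hQn := hn0 Q
  have fin : ∀ A B, ({A, B} : Finset _) = V → A ≠ B → v A = 1 → v B = -1 → n B = n A + 1 →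
      ∃ (φ ψ : Cfsg.IrrCharacter G) (f : ℕ), 0 < f ∧ φ ≠ trivIrr G ∧ (φ : G → ℂ) 1 = f ∧
      (ψ : G → ℂ) 1 = f + 1 ∧ (φ : G → ℂ) x = 1 ∧ (ψ : G → ℂ) x = -1 ∧
      ∀ F : Cfsg.IrrCharacter G → ℂ,
        ∑ χ, F χ * conj ((χ : G → ℂ) x) = F (trivIrr G) + F φ - F ψ := by
    intro A B hAB hne hA hB hn1
    have hAV : A ∈ V := by simp [← hAB]
    refine ⟨A, B, n A, hn0 A, (Finset.mem_filter.1 hAV).2.1, hn A, by rw [hn, hn1]; push_cast; ring,
      by rw [hv, hA]; norm_num, by rw [hv, hB]; norm_num, fun F => ?_⟩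
    rw [hsplit0 _ (fun χ h => by simp [hv, h]), ← hAB, Finset.sum_pair hne]
    simp only [hv, hvo, hA, hB, map_intCast]
    push_cast
    ring
  rcases hone P hPV with hP | hP <;> rcases hone Q hQV with hQ | hQ <;> rw [hP, hQ] at hz
  · omega
  · exact fin P Q hVeq.symm hPQ hP hQ (by omega)
  · exact fin Q P (by rw [hVeq, Finset.pair_comm]) hPQ.symm hQ hP (by omega)
  · omega

/-- There are many conjugates of `x` whose product with `x` is again conjugate to `x`. -/
theorem card_lt (hx : SC3 x) (hi : i * i = 1) (hix : i * x * i = x⁻¹) :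
    Nat.card G < 3 * Nat.card {g : G // IsConj x (x * (g * x * g⁻¹))} := by
  classical
  haveI := Fintype.ofFinite G
  obtain ⟨φ, ψ, f, hf, -, hφ1, hψ1, hφx, hψx, hsum⟩ := exists_pair hx hi hix
  have h := ClassAlgebraVal.sum_irr_triple x x x
  rw [card_centralizer hx] at h
  have e : ∀ χ : Cfsg.IrrCharacter G,
      (χ : G → ℂ) x * (χ : G → ℂ) x * conj ((χ : G → ℂ) x) / (χ : G → ℂ) 1 =
      ((χ : G → ℂ) x * (χ : G → ℂ) x / (χ : G → ℂ) 1) * conj ((χ : G → ℂ) x) := fun χ => by ring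
  rw [Finset.sum_congr rfl fun χ _ => e χ, hsum] at h
  rw [hφx, hψx, hφ1, hψ1] at h
  have ho1 : ∀ y : G, (trivIrr G : G → ℂ) y = 1 := fun y => rfl
  rw [ho1, ho1] at h
  set N := Nat.card {g : G // IsConj x (x * (g * x * g⁻¹))}
  have hL : (Nat.card G : ℂ) ≠ 0 := Nat.cast_ne_zero.2 Nat.card_pos.ne'
  have hf' : (f : ℂ) ≠ 0 := Nat.cast_ne_zero.2 hf.ne'
  have hf1 : (f : ℂ) + 1 ≠ 0 := by exact_mod_cast Nat.succ_ne_zero f
  field_simp at h
  have h' : ((Nat.card G * (f * (f + 1) + 1) : ℕ) : ℂ) = ((3 * N * (f * (f + 1)) : ℕ) : ℂ) := by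
    push_cast at h ⊢; linear_combination h
  have h'' := Nat.cast_injective h'
  by_contra hle
  push Not at hle
  have := Nat.mul_le_mul_right (f * (f + 1)) hle
  have := Nat.card_pos (α := G)
  nlinarith

/-- The involutions inverting `x` are conjugate. -/
theorem isConj_of_inverts (hx : SC3 x) (hi : i * i = 1) (hix : i * x * i = x⁻¹) {t : G}
    (ht : t * t = 1) (htx : t * x * t = x⁻¹) : IsConj i t := by
  have h : Commute (i * t) x := by
    show i * t * x = x * (i * t)
    have e1 : t * x = x⁻¹ * t := by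
      calc t * x = t * x * (t * t) := by rw [ht, mul_one]
        _ = (t * x * t) * t := by group
        _ = _ := by rw [htx]
    have e2 : i * x⁻¹ = x * i := by
      calc i * x⁻¹ = i * (i * x * i) := by rw [hix]
        _ = (i * i) * x * i := by group
        _ = _ := by rw [hi, one_mul]
    rw [mul_assoc, e1, ← mul_assoc, e2, mul_assoc]
  have ht' : t = i * (i * t) := by rw [← mul_assoc, hi, one_mul]
  rcases hx.cent _ h with e | e | e <;> rw [e] at ht' <;> rw [ht']
  · rw [mul_one]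
  · exact isConj_iff.2 ⟨x, conj_inv hi hix hx⟩
  · refine isConj_iff.2 ⟨x⁻¹, ?_⟩
    rw [inv_inv]
    calc x⁻¹ * i * x = (i * x * i) * i * x := by rw [hix]
      _ = i * x * (i * i) * x := by group
      _ = i * (x * x) := by rw [hi]; group
      _ = _ := by rw [hx.inv_eq]

/-- One class of involutions. -/
theorem isConj_involution [IsSimpleGroup G] (hx : SC3 x) (hi : i * i = 1)
    (hix : i * x * i = x⁻¹) {y : G} (hy : y * y = 1) (hy1 : y ≠ 1) : IsConj i y := by
  classical
  haveI := Fintype.ofFinite G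
  by_contra hyi
  obtain ⟨φ, ψ, f, hf, hφo, hφ1, hψ1, hφx, hψx, hsum⟩ := exists_pair hx hi hix
  have hi1 : i ≠ 1 := fun e => hx.inv_ne (by rw [← hix, e]; group)
  have hnx : ∀ t : G, t * t = 1 → t ≠ 1 → ¬ IsConj t x := by
    intro t ht ht1 hc
    obtain ⟨g, hg⟩ := isConj_iff.1 hc
    have : x * x = 1 := by
      rw [← hg, show g * t * g⁻¹ * (g * t * g⁻¹) = g * (t * t) * g⁻¹ by group, ht]; group
    exact hx.ne_one (by have h3 := hx.pow_three; rwa [this, one_mul] at h3)
  have hval : ∀ t : G, t * t = 1 → t ≠ 1 → (ψ : G → ℂ) t = 1 + (φ : G → ℂ) t := by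
    intro t ht ht1
    have h := sum_irr_mul_conj t x
    rw [if_neg (hnx t ht ht1), hsum] at h
    have ho1 : (trivIrr G : G → ℂ) t = 1 := rfl
    rw [ho1] at h
    linear_combination -h
  have hF : ∀ t : G, t * t = 1 → t ≠ 1 →
      ∑ χ : Cfsg.IrrCharacter G, (χ : G → ℂ) i * (χ : G → ℂ) t * conj ((χ : G → ℂ) x) / (χ : G → ℂ) 1 =
        ((f : ℂ) - (φ : G → ℂ) i) * ((f : ℂ) - (φ : G → ℂ) t) / ((f : ℂ) * (f + 1)) := by
    intro t ht ht1
    have e : ∀ χ : Cfsg.IrrCharacter G,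
        (χ : G → ℂ) i * (χ : G → ℂ) t * conj ((χ : G → ℂ) x) / (χ : G → ℂ) 1 =
        ((χ : G → ℂ) i * (χ : G → ℂ) t / (χ : G → ℂ) 1) * conj ((χ : G → ℂ) x) := fun χ => by ring
    rw [Finset.sum_congr rfl fun χ _ => e χ, hsum, hval i hi hi1, hval t ht ht1, hφ1, hψ1]
    have ho1 : ∀ y : G, (trivIrr G : G → ℂ) y = 1 := fun y => rfl
    rw [ho1, ho1, ho1]
    have hf' : (f : ℂ) ≠ 0 := Nat.cast_ne_zero.2 hf.ne'
    have hf1 : (f : ℂ) + 1 ≠ 0 := by exact_mod_cast Nat.succ_ne_zero f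
    field_simp
    ring
  have hpos := ClassAlgebraVal.sum_irr_triple i i x
  rw [hF i hi hi1, card_centralizer hx] at hpos
  have hfi : (f : ℂ) - (φ : G → ℂ) i ≠ 0 := by
    intro h0
    rw [h0, zero_mul, zero_div, eq_comm, div_eq_zero_iff] at hpos
    rcases hpos with h | h
    · rcases mul_eq_zero.1 h with h | h
      · norm_num at h
      · rw [Nat.cast_eq_zero, Nat.card_eq_zero] at h
        rcases h with h | h
        · refine h.elim' ⟨x, ?_⟩
          rw [conj_inv hi hix hx, ← mul_assoc, hi, one_mul]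
        · exact not_infinite_iff_finite.2 inferInstance h
    · exact Nat.cast_ne_zero.2 Nat.card_pos.ne' h
  have hzero := ClassAlgebraVal.sum_irr_triple i y x
  rw [hF y hy hy1] at hzero
  have hempty : Nat.card {g : G // IsConj x (i * (g * y * g⁻¹))} = 0 := by
    rw [Nat.card_eq_zero]
    refine Or.inl ⟨fun ⟨g, hg⟩ => ?_⟩
    obtain ⟨h, hh⟩ := isConj_iff.1 hg
    set y' := g * y * g⁻¹
    have hy' : y' * y' = 1 := by
      rw [show g * y * g⁻¹ * (g * y * g⁻¹) = g * (y * y) * g⁻¹ by group, hy]; group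
    have hh' : h⁻¹ * (i * y') * h = x := by rw [← hh]; group
    have hinv : x⁻¹ = h⁻¹ * (y' * i) * h := by
      rw [← hh', mul_inv_rev, mul_inv_rev, mul_inv_rev, inv_eq_of_mul_eq_one_right hi,
        inv_eq_of_mul_eq_one_right hy']
      group
    have c1 : (h⁻¹ * i * h) * x * (h⁻¹ * i * h) = x⁻¹ := by
      rw [hinv, ← hh']
      calc h⁻¹ * i * h * (h⁻¹ * (i * y') * h) * (h⁻¹ * i * h) = h⁻¹ * ((i * i) * y' * i) * h := by group
        _ = _ := by rw [hi]; group
    have c2 : (h⁻¹ * y' * h) * x * (h⁻¹ * y' * h) = x⁻¹ := by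
      rw [hinv, ← hh']
      calc h⁻¹ * y' * h * (h⁻¹ * (i * y') * h) * (h⁻¹ * y' * h) = h⁻¹ * (y' * i * (y' * y')) * h := by group
        _ = _ := by rw [hy']; group
    have s1 : (h⁻¹ * i * h) * (h⁻¹ * i * h) = 1 := by
      rw [show h⁻¹ * i * h * (h⁻¹ * i * h) = h⁻¹ * (i * i) * h by group, hi]; group
    have s2 : (h⁻¹ * y' * h) * (h⁻¹ * y' * h) = 1 := by
      rw [show h⁻¹ * y' * h * (h⁻¹ * y' * h) = h⁻¹ * (y' * y') * h by group, hy']; group
    refine hyi ((isConj_of_inverts hx hi hix s2 c2).trans (isConj_iff.2 ⟨g⁻¹ * h, ?_⟩))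
    simp only [y']
    group
  rw [hempty, Nat.cast_zero, mul_zero, zero_div, div_eq_zero_iff] at hzero
  have hfy : (φ : G → ℂ) y = (φ : G → ℂ) 1 := by
    rcases hzero with h | h
    · rw [hφ1]; exact (sub_eq_zero.1 ((mul_eq_zero.1 h).resolve_left hfi)).symm
    · exact absurd h (mul_ne_zero (Nat.cast_ne_zero.2 hf.ne') (by exact_mod_cast Nat.succ_ne_zero f))
  set K := NormalizerExt.charKer (φ : G → ℂ) (isCharacter_of_isIrrCharacter φ.2)
  have hKn : K.Normal := inferInstance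
  rcases hKn.eq_bot_or_eq_top with hK | hK
  · exact hy1 (by
      have hmem : y ∈ K := hfy
      rwa [hK, Subgroup.mem_bot] at hmem)
  · have hall : ∀ g, (φ : G → ℂ) g = (φ : G → ℂ) 1 := fun g =>
      NormalizerExt.mem_charKer.1 (hK ▸ Subgroup.mem_top g : g ∈ K)
    refine hφo (Subtype.ext (funext fun g => ?_))
    rw [hall g, ← hall x, hφx]
    rfl

/-- The centraliser of an involution is small. -/
theorem four_card_centralizer_sq_le (hx : SC3 x) (hi : i * i = 1) (hix : i * x * i = x⁻¹) :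
    4 * Nat.card (Subgroup.centralizer ({i} : Set G)) ^ 2 ≤ 3 * Nat.card G := by
  classical
  haveI := Fintype.ofFinite G
  obtain ⟨φ, ψ, f, hf, hφo, hφ1, hψ1, hφx, hψx, hsum⟩ := exists_pair hx hi hix
  have hi1 : i ≠ 1 := fun e => hx.inv_ne (by rw [← hix, e]; group)
  have hxi : ¬ IsConj i x := by
    intro hc
    obtain ⟨g, hg⟩ := isConj_iff.1 hc
    have h2 : x * x = 1 := by
      rw [← hg, show g * i * g⁻¹ * (g * i * g⁻¹) = g * (i * i) * g⁻¹ by group, hi]; group
    exact hx.ne_one (by have h3 := hx.pow_three; rwa [h2, one_mul] at h3)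
  -- the value at the involution is a rational integer
  obtain ⟨a, ha⟩ : ∃ a : ℤ, (φ : G → ℂ) i = a := by
    have h2 : orderOf i = 2 := orderOf_eq_prime (by rw [pow_two]; exact hi) hi1
    obtain ⟨m, hm⟩ := ClassAlgebraVal.exists_sum_subgroup
      (ClassAlgebraVal.irr_isCharacter φ) (Subgroup.zpowers i)
    have hset : (Finset.univ.filter fun g => g ∈ Subgroup.zpowers i) = {1, i} := by
      ext g
      simp only [Finset.mem_filter, Finset.mem_univ, true_and, Finset.mem_insert, Finset.mem_singleton]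
      rw [mem_zpowers_iff_mem_range_orderOf, h2]
      simp only [Finset.mem_image, Finset.mem_range]
      constructor
      · rintro ⟨k, hk, rfl⟩; interval_cases k <;> simp
      · rintro (rfl | rfl)
        · exact ⟨0, by norm_num, pow_zero _⟩
        · exact ⟨1, by norm_num, pow_one _⟩
    rw [← Finset.sum_subtype (Finset.univ.filter fun g => g ∈ Subgroup.zpowers i) (by simp)
      (fun g => conj ((φ : G → ℂ) g)), hset, Finset.sum_pair hi1.symm, Nat.card_zpowers, h2, hφ1,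
      map_natCast] at hm
    refine ⟨2 * (m : ℤ) - f, ?_⟩
    have h := congrArg conj hm
    simp only [map_add, map_mul, map_natCast, Complex.conj_conj, Nat.cast_ofNat, map_ofNat] at h
    push_cast
    linear_combination h
  have hval : (ψ : G → ℂ) i = 1 + (φ : G → ℂ) i := by
    have h := sum_irr_mul_conj i x
    rw [if_neg hxi, hsum] at h
    have ho1 : (trivIrr G : G → ℂ) i = 1 := rfl
    rw [ho1] at h
    linear_combination -h
  have ho1 : ∀ y : G, (trivIrr G : G → ℂ) y = 1 := fun y => rfl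
  have hf' : (f : ℂ) ≠ 0 := Nat.cast_ne_zero.2 hf.ne'
  have hf1 : (f : ℂ) + 1 ≠ 0 := by exact_mod_cast Nat.succ_ne_zero f
  have hL : (Nat.card G : ℂ) ≠ 0 := Nat.cast_ne_zero.2 Nat.card_pos.ne'
  set c := Nat.card (Subgroup.centralizer ({i} : Set G))
  -- pairs of involutions with product conjugate to `x`
  have h1 := ClassAlgebraVal.sum_irr_triple i i x
  rw [card_centralizer hx] at h1
  set N1 := Nat.card {g : G // IsConj x (i * (g * i * g⁻¹))}
  have hN1 : c * c ≤ N1 := by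
    show Nat.card _ * Nat.card _ ≤ _
    rw [← Nat.card_prod]
    refine Nat.card_le_card_of_injective
      (fun p : Subgroup.centralizer ({i} : Set G) × Subgroup.centralizer ({i} : Set G) =>
        (⟨(p.1 : G) * x * p.2, ?_⟩ : {g : G // IsConj x (i * (g * i * g⁻¹))})) ?_
    · refine isConj_iff.2 ⟨(p.1 : G), ?_⟩
      have hu : i * (p.1 : G) = p.1 * i := (Subgroup.mem_centralizer_singleton_iff.1 p.1.2).symm
      have hv : (p.2 : G) * i * (p.2 : G)⁻¹ = i :=
        mul_inv_eq_iff_eq_mul.2 (Subgroup.mem_centralizer_singleton_iff.1 p.2.2)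
      symm
      calc i * ((p.1 : G) * x * p.2 * i * ((p.1 : G) * x * p.2)⁻¹)
          = (i * p.1) * (x * ((p.2 : G) * i * (p.2 : G)⁻¹) * x⁻¹) * (p.1 : G)⁻¹ := by group
        _ = (p.1 * i) * (i * x) * (p.1 : G)⁻¹ := by rw [hu, hv, conj_inv hi hix hx]
        _ = p.1 * ((i * i) * x) * (p.1 : G)⁻¹ := by group
        _ = _ := by rw [hi, one_mul]
    · rintro ⟨u, v⟩ ⟨u', v'⟩ h
      have h' : (u : G) * x * v = u' * x * v' := congrArg Subtype.val h
      have e : (u' : G)⁻¹ * u = x * ((v' : G) * (v : G)⁻¹) * x⁻¹ := by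
        calc (u' : G)⁻¹ * u = (u' : G)⁻¹ * ((u : G) * x * v) * (x * (v : G))⁻¹ := by group
          _ = _ := by rw [h']; group
      have cu : ∀ w : Subgroup.centralizer ({i} : Set G), Commute (w : G) i := fun w =>
        Subgroup.mem_centralizer_singleton_iff.1 w.2
      have c2 : Commute ((u' : G)⁻¹ * u) (i * x) := by
        rw [e, ← conj_inv hi hix hx]
        exact ((cu v').mul_left (cu v).inv_left).map (MulAut.conj x).toMonoidHom
      have h1 := eq_one_of_commute_two hx hi hix ((cu u').inv_left.mul_left (cu u)) c2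
      have hu : u = u' := Subtype.ext (inv_mul_eq_one.1 h1).symm
      subst hu
      exact Prod.ext rfl (Subtype.ext (mul_left_cancel h'))
  -- pairs of conjugates of `x` with product an involution
  have h2 := ClassAlgebraVal.sum_irr_triple x x i
  set N2 := Nat.card {g : G // IsConj i (x * (g * x * g⁻¹))}
  have hxreal : ∀ χ : Cfsg.IrrCharacter G, conj ((χ : G → ℂ) x) = (χ : G → ℂ) x := fun χ => by
    obtain ⟨k, hk⟩ := exists_int hx hi hix (ClassAlgebraVal.irr_isCharacter χ)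
    rw [hk, map_intCast]
  have e1 : ∀ χ : Cfsg.IrrCharacter G,
      (χ : G → ℂ) i * (χ : G → ℂ) i * conj ((χ : G → ℂ) x) / (χ : G → ℂ) 1 =
      ((χ : G → ℂ) i * (χ : G → ℂ) i / (χ : G → ℂ) 1) * conj ((χ : G → ℂ) x) := fun χ => by ring
  have e2 : ∀ χ : Cfsg.IrrCharacter G,
      (χ : G → ℂ) x * (χ : G → ℂ) x * conj ((χ : G → ℂ) i) / (χ : G → ℂ) 1 =
      ((χ : G → ℂ) x * conj ((χ : G → ℂ) i) / (χ : G → ℂ) 1) * conj ((χ : G → ℂ) x) := fun χ => by
    rw [hxreal]; ring
  rw [Finset.sum_congr rfl fun χ _ => e1 χ, hsum, ho1, ho1, hval, hφ1, hψ1, ha] at h1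
  rw [Finset.sum_congr rfl fun χ _ => e2 χ, hsum, ho1, ho1, ho1, hval, hφx, hψx, hφ1, hψ1, ha] at h2
  simp only [map_add, map_one, map_intCast] at h2
  field_simp at h1 h2
  have k1 : (((f : ℤ) - a) ^ 2 * Nat.card G : ℤ) = 3 * N1 * ((f : ℤ) * (f + 1)) := by
    have : ((((f : ℤ) - a) ^ 2 * Nat.card G : ℤ) : ℂ) = ((3 * N1 * ((f : ℤ) * (f + 1)) : ℤ) : ℂ) := by
      push_cast at h1 ⊢; linear_combination h1
    exact Int.cast_injective this
  have k2 : ((f : ℤ) ^ 2 + 2 * f + (2 * f + 1) * a) * Nat.card G = (c : ℤ) * N2 * ((f : ℤ) * (f + 1)) := by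
    have : ((((f : ℤ) ^ 2 + 2 * f + (2 * f + 1) * a) * Nat.card G : ℤ) : ℂ) =
        (((c : ℤ) * N2 * ((f : ℤ) * (f + 1)) : ℤ) : ℂ) := by
      push_cast at h2 ⊢; linear_combination h2
    exact Int.cast_injective this
  have hle : a ≤ f := by
    have hn := isCharacter_norm_le (ClassAlgebraVal.irr_isCharacter φ) i
    rw [ha, hφ1] at hn
    simp only [Complex.norm_intCast, Complex.norm_natCast, Complex.natCast_re] at hn
    have h' := le_trans (le_abs_self (a : ℝ)) hn
    exact_mod_cast h'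
  have hLpos : (0 : ℤ) < Nat.card G := by exact_mod_cast Nat.card_pos
  have hpos : 0 ≤ (f : ℤ) ^ 2 + 2 * f + (2 * f + 1) * a := by
    refine nonneg_of_mul_nonneg_left ?_ hLpos
    rw [k2]; positivity
  have hfz : (1 : ℤ) ≤ f := by exact_mod_cast hf
  have hup : (2 * (f : ℤ) + 1) * (f - a) ≤ 3 * f * (f + 1) := by nlinarith
  have hsq : ((2 * (f : ℤ) + 1) * (f - a)) ^ 2 ≤ (3 * f * (f + 1)) ^ 2 :=
    pow_le_pow_left₀ (by nlinarith) hup 2
  have h4 : 4 * ((f : ℤ) - a) ^ 2 ≤ 9 * f * (f + 1) := by nlinarith [sq_nonneg ((f : ℤ) - a)]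
  have hN : ((c : ℤ) * c) ≤ N1 := by exact_mod_cast hN1
  have hgoal : 4 * (c : ℤ) ^ 2 ≤ 3 * Nat.card G := by
    have p1 : 4 * (3 * N1 * ((f : ℤ) * (f + 1))) ≤ 9 * f * (f + 1) * Nat.card G := by
      rw [← k1]; nlinarith
    have p2 : 12 * (N1 : ℤ) ≤ 9 * Nat.card G := by
      have hff : (0 : ℤ) < (f : ℤ) * (f + 1) := by positivity
      nlinarith
    nlinarith
  exact_mod_cast hgoal

end Cfsg.Agent.SelfCentThreeChar
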