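import Mathlib
import Cfsg.Agent.Lib.SelfCentThreeBase

/-!
Local structure of a group with a self-centralising element of order three: the maximal invariant
subgroups of order prime to three and their normalisers.
-/

set_option autoImplicit false

namespace Cfsg.Agent.SelfCentThreeLocal

open SelfCentThreeBase
open scoped Pointwise

variable {G : Type*} [Group G]

/-- A nilpotent normal subgroup with quotient of order three or six. -/
def TypeSmall (x : G) (H : Subgroup G) : Prop :=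
  ∃ N : Subgroup G, N ≤ H ∧ (∀ h ∈ H, ∀ n ∈ N, h * n * h⁻¹ ∈ N) ∧ Inv3 x N ∧
    (∀ K : Subgroup G, K ≤ H → Inv3 x K → K ≤ N) ∧
    (Nat.card H = 3 * Nat.card N ∨ Nat.card H = 6 * Nat.card N)

/-- A normal 2-subgroup with simple quotient of order sixty. -/
def TypeA5 (x : G) (H : Subgroup G) : Prop :=
  ∃ N T : Subgroup G, N < T ∧ T ≤ H ∧ (∀ h ∈ H, ∀ n ∈ N, h * n * h⁻¹ ∈ N) ∧ IsPGroup 2 N ∧
    Inv3 x T ∧ Nat.card H = 60 * Nat.card N ∧
    (∀ K : Subgroup G, K ≤ H → (∀ h ∈ H, ∀ n ∈ K, h * n * h⁻¹ ∈ K) → ¬ 3 ∣ Nat.card K → K ≤ N) ∧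
    ∀ K : Subgroup G, N ≤ K → K ≤ H → (∀ h ∈ H, ∀ n ∈ K, h * n * h⁻¹ ∈ K) → K = N ∨ K = H

/-- A simple subgroup. -/
def TypeL (H : Subgroup G) : Prop :=
  ∀ K : Subgroup G, K ≤ H → (∀ h ∈ H, ∀ n ∈ K, h * n * h⁻¹ ∈ K) → K = ⊥ ∨ K = H

/-- The situation in a simple group all whose proper subgroups containing `x` are known. -/
structure Setup (x i : G) : Prop where
  sc : SC3 x
  hi : i * i = 1
  hix : i * x * i = x⁻¹
  simple : IsSimpleGroup G
  noncomm : ¬ IsMulCommutative G
  sub : ∀ H : Subgroup G, H ≠ ⊤ → x ∈ H → TypeSmall x H ∨ TypeA5 x H ∨ TypeL H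

/-- A maximal invariant subgroup of order prime to three. -/
def MaxI (x : G) (M : Subgroup G) : Prop := Inv3 x M ∧ ∀ K, Inv3 x K → M ≤ K → K = M

theorem Setup.inv_i {x i : G} (hs : Setup x i) : i⁻¹ = i := inv_eq_of_mul_eq_one_right hs.hi

theorem Setup.i_ne_one {x i : G} (hs : Setup x i) : i ≠ 1 := fun e =>
  hs.sc.inv_ne (by rw [← hs.hix, e]; group)

theorem Setup.i_x {x i : G} (hs : Setup x i) : i * x = x⁻¹ * i := by
  calc i * x = i * x * (i * i) := by rw [hs.hi, mul_one]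
    _ = (i * x * i) * i := by group
    _ = _ := by rw [hs.hix]

theorem Setup.i_not_mem_zpowers [Finite G] {x i : G} (hs : Setup x i) : i ∉ Subgroup.zpowers x := by
  rw [hs.sc.mem_zpowers_iff]
  rintro (h | h | h)
  · exact hs.i_ne_one h
  · have := hs.hi
    rw [h] at this
    exact hs.sc.ne_one (by have h3 := hs.sc.pow_three; rwa [this, one_mul] at h3)
  · have := hs.hi
    rw [h, ← mul_inv_rev, inv_eq_one] at this
    exact hs.sc.ne_one (by have h3 := hs.sc.pow_three; rwa [this, one_mul] at h3)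

variable [Finite G] {x i : G}

theorem Setup.normalizes (hs : Setup x i) {g : G} (hg : g * x * g⁻¹ = x ∨ g * x * g⁻¹ = x⁻¹) :
    g ∈ Subgroup.zpowers x ∨ i * g ∈ Subgroup.zpowers x := by
  rcases hg with hg | hg
  · exact Or.inl ((hs.sc.mem_zpowers_iff g).2 (hs.sc.cent g (mul_inv_eq_iff_eq_mul.1 hg)))
  · refine Or.inr ((hs.sc.mem_zpowers_iff _).2 (hs.sc.cent _ ?_))
    show i * g * x = x * (i * g)
    have e : g * x = x⁻¹ * g := mul_inv_eq_iff_eq_mul.1 hg
    have e2 : i * x⁻¹ = x * i := by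
      calc i * x⁻¹ = i * (i * x * i) := by rw [hs.hix]
        _ = (i * i) * x * i := by group
        _ = _ := by rw [hs.hi, one_mul]
    rw [mul_assoc, e, ← mul_assoc, e2, mul_assoc]

/-- The Sylow count in a subgroup containing `x`. -/
theorem Setup.subgroup_mod (hs : Setup x i) {H : Subgroup G} (hxH : x ∈ H) :
    (i ∈ H → ∃ r, r % 3 = 1 ∧ Nat.card H = 6 * r) ∧
      (i ∉ H → ∃ r, r % 3 = 1 ∧ Nat.card H = 3 * r) := by
  classical
  haveI : Fact (Nat.Prime 3) := ⟨Nat.prime_three⟩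
  haveI := Fintype.ofFinite G
  let x' : H := ⟨x, hxH⟩
  have hpg : IsPGroup 3 (Subgroup.zpowers x') := IsPGroup.of_card (n := 1) (by
    rw [Nat.card_zpowers, Subgroup.orderOf_mk, hs.sc.ord, pow_one])
  obtain ⟨P, hP⟩ := hpg.exists_le_sylow
  have hPX : ∀ p ∈ (P : Subgroup H), (p : G) ∈ Subgroup.zpowers x := by
    have hxP : x' ∈ (P : Subgroup H) := hP (Subgroup.mem_zpowers x')
    haveI : Nontrivial (P : Subgroup H) := ⟨⟨⟨x', hxP⟩, 1, fun e =>
      hs.sc.ne_one (congrArg (fun t : (P : Subgroup H) => ((t : H) : G)) e)⟩⟩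
    haveI := P.isPGroup'.center_nontrivial
    obtain ⟨⟨z, hz⟩, hz1⟩ := exists_ne (1 : Subgroup.center (P : Subgroup H))
    have hzc : ∀ p ∈ (P : Subgroup H), Commute ((z : H) : G) (p : G) := fun p hp =>
      (congrArg (fun t : (P : Subgroup H) => ((t : H) : G)) (Subgroup.mem_center_iff.1 hz ⟨p, hp⟩)).symm
    intro p hp
    rw [hs.sc.mem_zpowers_iff]
    refine hs.sc.cent _ ?_
    rcases hs.sc.cent _ (hzc x' hxP) with h | h | h
    · exact absurd (Subtype.ext (Subtype.ext (Subtype.ext h))) hz1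
    · rw [← h]; exact (hzc p hp).symm
    · have := (hzc p hp).symm
      rw [h] at this
      simpa using this.inv_right
  have hmemP : ∀ h : H, h ∈ (P : Subgroup H) ↔ (h : G) ∈ Subgroup.zpowers x := by
    refine fun h => ⟨hPX h, fun hh => hP ?_⟩
    obtain ⟨k, hk⟩ := hh
    exact ⟨k, Subtype.ext (by simpa using hk)⟩
  have hN : ∀ h : H, h ∈ Subgroup.normalizer ((P : Subgroup H) : Set H) ↔
      (h : G) ∈ Subgroup.zpowers x ∨ i * (h : G) ∈ Subgroup.zpowers x := by
    intro h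
    constructor
    · intro hh
      refine hs.normalizes ?_
      have h1 := (hmemP _).1 ((Subgroup.mem_normalizer_iff.1 hh x').1 ((hmemP x').2 (Subgroup.mem_zpowers x)))
      simp only [Subgroup.coe_mul, InvMemClass.coe_inv, x'] at h1
      rcases (hs.sc.mem_zpowers_iff _).1 h1 with e | e | e
      · exact absurd (conj_eq_one_iff.1 e) hs.sc.ne_one
      · exact Or.inl e
      · exact Or.inr e
    · intro hh
      have hik : ∀ k ∈ Subgroup.zpowers x, i * k * i ∈ Subgroup.zpowers x := by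
        intro k hk
        rw [hs.sc.mem_zpowers_iff] at hk ⊢
        rcases hk with rfl | rfl | rfl
        · exact Or.inl (by rw [mul_one, hs.hi])
        · exact Or.inr (Or.inr hs.hix)
        · refine Or.inr (Or.inl ?_)
          rw [← hs.hix, show i * (i * x * i) * i = (i * i) * x * (i * i) by group, hs.hi]
          group
      have hconj : ∀ g : G, (g ∈ Subgroup.zpowers x ∨ i * g ∈ Subgroup.zpowers x) →
          ∀ k ∈ Subgroup.zpowers x, g * k * g⁻¹ ∈ Subgroup.zpowers x := by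
        rintro g (hg | hg) k hk
        · exact mul_mem (mul_mem hg hk) (inv_mem hg)
        · have e : g * k * g⁻¹ = i * ((i * g) * k * (i * g)⁻¹) * i := by
            rw [mul_inv_rev, hs.inv_i]
            calc g * k * g⁻¹ = (i * i) * g * k * g⁻¹ * (i * i) := by rw [hs.hi]; group
              _ = _ := by group
          rw [e]
          exact hik _ (mul_mem (mul_mem hg hk) (inv_mem hg))
      rw [Subgroup.mem_normalizer_iff]
      intro k
      rw [hmemP, hmemP]
      simp only [Subgroup.coe_mul, InvMemClass.coe_inv]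
      refine ⟨fun hk => hconj _ hh _ hk, fun hk => ?_⟩
      have hinv : (h : G)⁻¹ ∈ Subgroup.zpowers x ∨ i * (h : G)⁻¹ ∈ Subgroup.zpowers x := by
        rcases hh with hh | hh
        · exact Or.inl (inv_mem hh)
        · refine Or.inr ?_
          have h1 := hik _ (inv_mem hh)
          rwa [mul_inv_rev, hs.inv_i, show i * ((h : G)⁻¹ * i) * i = i * (h : G)⁻¹ * (i * i) by group,
            hs.hi, mul_one] at h1
      have := hconj _ hinv _ hk
      simpa [mul_assoc] using this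
  set Nx := Subgroup.normalizer ((P : Subgroup H) : Set H)
  have hr : Nat.card (Sylow 3 H) % 3 = 1 := card_sylow_modEq_one 3 H
  have hmul := Nx.card_mul_index
  rw [show Nx.index = Nat.card (Sylow 3 H) from P.card_eq_index_normalizer.symm] at hmul
  have hcardN : Nat.card Nx =
      ((Finset.univ.filter fun g : G => g ∈ H ∧ (g ∈ Subgroup.zpowers x ∨ i * g ∈ Subgroup.zpowers x))).card := by
    rw [← Fintype.card_subtype, ← Nat.card_eq_fintype_card]
    exact Nat.card_congr
      { toFun := fun h => ⟨(h.1 : G), h.1.2, (hN h.1).1 h.2⟩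
        invFun := fun g => ⟨⟨g.1, g.2.1⟩, (hN _).2 g.2.2⟩
        left_inv := fun _ => rfl
        right_inv := fun _ => rfl }
  have hiX := hs.i_not_mem_zpowers
  have h3 : (Finset.univ.filter fun g : G => g ∈ Subgroup.zpowers x).card = 3 := by
    rw [← Fintype.card_subtype, ← Nat.card_eq_fintype_card]
    exact (Nat.card_zpowers x).trans hs.sc.ord
  constructor
  · intro hiH
    refine ⟨_, hr, ?_⟩
    have : Nat.card Nx = 6 := by
      rw [hcardN]
      have hsplit : (Finset.univ.filter fun g : G => g ∈ H ∧ (g ∈ Subgroup.zpowers x ∨ i * g ∈ Subgroup.zpowers x)) =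
          (Finset.univ.filter fun g : G => g ∈ Subgroup.zpowers x) ∪
            (Finset.univ.filter fun g : G => g ∈ Subgroup.zpowers x).image (i * ·) := by
        ext g
        simp only [Finset.mem_filter, Finset.mem_univ, true_and, Finset.mem_union, Finset.mem_image]
        constructor
        · rintro ⟨-, h | h⟩
          · exact Or.inl h
          · exact Or.inr ⟨i * g, h, by rw [← mul_assoc, hs.hi, one_mul]⟩
        · rintro (h | ⟨k, hk, rfl⟩)
          · exact ⟨(Subgroup.zpowers_le.2 hxH) h, Or.inl h⟩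
          · exact ⟨H.mul_mem hiH ((Subgroup.zpowers_le.2 hxH) hk), Or.inr (by rwa [← mul_assoc, hs.hi, one_mul])⟩
      rw [hsplit, Finset.card_union_of_disjoint, Finset.card_image_of_injective _ (mul_right_injective i), h3]
      rw [Finset.disjoint_left]
      intro g hg hg'
      obtain ⟨k, hk, rfl⟩ := Finset.mem_image.1 hg'
      exact hiX ((Subgroup.mul_mem_cancel_right _ (Finset.mem_filter.1 hk).2).1 (Finset.mem_filter.1 hg).2)
    rw [← hmul, this]
  · intro hiH
    refine ⟨_, hr, ?_⟩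
    have : Nat.card Nx = 3 := by
      rw [hcardN, ← h3]
      congr 1
      refine Finset.filter_congr fun g _ => ⟨?_, fun h => ⟨(Subgroup.zpowers_le.2 hxH) h, Or.inl h⟩⟩
      rintro ⟨hg, h | h⟩
      · exact h
      · exact absurd ((H.mul_mem_cancel_right hg).1 ((Subgroup.zpowers_le.2 hxH) h)) hiH
    rw [← hmul, this]

omit [Finite G] in
theorem mem_normalizer_of_invariant [Finite G] {K : Subgroup G} {g : G} (h : ∀ k ∈ K, g * k * g⁻¹ ∈ K) :
    g ∈ Subgroup.normalizer (K : Set G) := by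
  let f : K → K := fun k => ⟨g * k * g⁻¹, h k k.2⟩
  have hf : Function.Surjective f := Finite.injective_iff_surjective.1 fun a b e => by
    exact Subtype.ext (mul_left_cancel (mul_right_cancel (congrArg Subtype.val e)))
  rw [Subgroup.mem_normalizer_iff]
  intro k
  refine ⟨h k, fun hk => ?_⟩
  obtain ⟨⟨a, ha⟩, e⟩ := hf ⟨_, hk⟩
  have : a = k := mul_left_cancel (mul_right_cancel (congrArg Subtype.val e))
  exact this ▸ ha

/-- A product with a normalised prime order element is larger. -/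
theorem mul_prime_dvd {K L : Subgroup G} {g : G} {p : ℕ} (hp : p.Prime) (hKL : K ≤ L) (hgL : g ∈ L)
    (hn : ∀ l ∈ L, ∀ k ∈ K, l * k * l⁻¹ ∈ K) (hg : g ^ p = 1) (hgK : g ∉ K) :
    Nat.card K * p ∣ Nat.card L := by
  haveI : (K.subgroupOf L).Normal := ⟨fun k hk l => hn _ l.2 _ hk⟩
  have hmul := (K.subgroupOf L).card_mul_index
  rw [Nat.card_congr (Subgroup.subgroupOfEquivOfLe hKL).toEquiv] at hmul
  rw [← hmul]
  refine Nat.mul_dvd_mul_left _ ?_
  have ho : orderOf (QuotientGroup.mk' (K.subgroupOf L) ⟨g, hgL⟩) = p := by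
    haveI : Fact p.Prime := ⟨hp⟩
    refine orderOf_eq_prime ?_ ?_
    · rw [← map_pow, show (⟨g, hgL⟩ : L) ^ p = 1 from Subtype.ext hg, map_one]
    · exact fun e => hgK ((QuotientGroup.eq_one_iff (N := K.subgroupOf L) _).1 e)
  rw [← ho]
  exact orderOf_dvd_natCard _

/-- The join with a subgroup of a normaliser. -/
theorem inv3_sup {K N : Subgroup G} (hK : Inv3 x K) (hN : Inv3 x N)
    (hle : K ≤ Subgroup.normalizer (N : Set G)) : Inv3 x (K ⊔ N) := by
  refine ⟨fun g hg => ?_, ?_⟩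
  · have hs : (((K ⊔ N : Subgroup G)) : Set G) = (K : Set G) * (N : Set G) :=
      Subgroup.coe_mul_of_left_le_normalizer_right K N hle
    rw [← SetLike.mem_coe, hs] at hg ⊢
    obtain ⟨k, hk, n, hn, rfl⟩ := hg
    exact ⟨_, hK.inv k hk, _, hN.inv n hn, by group⟩
  · intro h3
    haveI : Fact (Nat.Prime 3) := ⟨Nat.prime_three⟩
    obtain ⟨g, hg⟩ := exists_prime_orderOf_dvd_card' 3 h3
    haveI : (N.subgroupOf (K ⊔ N)).Normal :=
      Subgroup.normal_subgroupOf_of_le_normalizer (sup_le hle Subgroup.le_normalizer)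
    let π := QuotientGroup.mk' (N.subgroupOf (K ⊔ N))
    have hs : (((K ⊔ N : Subgroup G)) : Set G) = (K : Set G) * (N : Set G) :=
      Subgroup.coe_mul_of_left_le_normalizer_right K N hle
    obtain ⟨k, hk, n, hn, hkn⟩ := (hs ▸ g.2 : (g : G) ∈ (K : Set G) * (N : Set G))
    have hg' : g = ⟨k, Subgroup.mem_sup_left hk⟩ * ⟨n, Subgroup.mem_sup_right hn⟩ := Subtype.ext hkn.symm
    have e : π g = π ⟨k, Subgroup.mem_sup_left hk⟩ := by
      rw [hg', map_mul, show π ⟨n, Subgroup.mem_sup_right hn⟩ = 1 from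
        (QuotientGroup.eq_one_iff _).2 hn, mul_one]
    have h1 : orderOf (π g) ∣ Nat.card K := by
      rw [e]
      refine (orderOf_map_dvd π _).trans ?_
      rw [Subgroup.orderOf_mk, ← Subgroup.orderOf_mk k hk]
      exact orderOf_dvd_natCard _
    have h2 : orderOf (π g) ∣ 3 := hg ▸ orderOf_map_dvd π g
    rcases (Nat.dvd_prime Nat.prime_three).1 h2 with h | h
    · have hgN : (g : G) ∈ N := (QuotientGroup.eq_one_iff g).1 (orderOf_eq_one_iff.1 h)
      exact hN.cop (by
        have := orderOf_dvd_natCard (⟨(g : G), hgN⟩ : N)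
        rwa [Subgroup.orderOf_mk, Subgroup.orderOf_coe, hg] at this)
    · exact hK.cop (h ▸ h1)

/-- A nilpotent subgroup grows in its normaliser. -/
theorem lt_inf_normalizer {M D : Subgroup G} [Group.IsNilpotent M] (h : D < M) :
    D < M ⊓ Subgroup.normalizer (D : Set G) := by
  have h1 : D.subgroupOf M < ⊤ := lt_top_iff_ne_top.2 fun e => h.not_ge (Subgroup.subgroupOf_eq_top.1 e)
  obtain ⟨m, hm, hm'⟩ := SetLike.exists_of_lt (Group.normalizerCondition_of_isNilpotent _ h1)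
  refine lt_of_le_of_ne (le_inf h.le Subgroup.le_normalizer) fun e => hm' ?_
  refine Subgroup.mem_subgroupOf.2 (e.ge ⟨m.2, mem_normalizer_of_invariant fun d hd => ?_⟩)
  have := (Subgroup.mem_normalizer_iff.1 hm ⟨d, h.le hd⟩).1 (by simpa [Subgroup.mem_subgroupOf] using hd)
  simpa [Subgroup.mem_subgroupOf] using this

theorem exists_maxI (x : G) {K : Subgroup G} (hK : Inv3 x K) : ∃ M, MaxI x M ∧ K ≤ M := by
  obtain ⟨M, hKM, hM⟩ := Finite.exists_le_maximal (p := fun L : Subgroup G => Inv3 x L) hK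
  exact ⟨M, ⟨hM.prop, fun L hL hle => le_antisymm (hM.le_of_ge hL hle) hle⟩, hKM⟩

theorem Setup.ne_top (hs : Setup x i) {K : Subgroup G} (hK : Inv3 x K) : K ≠ ⊤ := fun e =>
  hK.cop (by
    rw [e, Subgroup.card_top]
    exact hs.sc.ord ▸ orderOf_dvd_natCard x)

theorem Setup.normalizer_ne_top (hs : Setup x i) {K : Subgroup G} (hK : Inv3 x K) (hK1 : K ≠ ⊥) :
    Subgroup.normalizer (K : Set G) ≠ ⊤ := by
  intro e
  haveI := hs.simple
  rcases (Subgroup.normalizer_eq_top_iff.1 e).eq_bot_or_eq_top with h | h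
  · exact hK1 h
  · exact hs.ne_top hK h

theorem x_mem_normalizer {K : Subgroup G} (hK : Inv3 x K) : x ∈ Subgroup.normalizer (K : Set G) :=
  mem_normalizer_of_invariant hK.inv

theorem Setup.not_typeL (hs : Setup x i) {K H : Subgroup G} (hK : Inv3 x K) (hK1 : K ≠ ⊥)
    (hle : K ≤ H) (hxH : x ∈ H) (hn : ∀ h ∈ H, ∀ n ∈ K, h * n * h⁻¹ ∈ K) : ¬ TypeL H := by
  intro hL
  rcases hL K hle hn with h | h
  · exact hK1 h
  · refine hK.cop ?_
    rw [h, ← hs.sc.ord, ← Subgroup.orderOf_mk x hxH]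
    exact orderOf_dvd_natCard _

theorem conj_mem_of_le_normalizer {H K : Subgroup G} (h : H ≤ Subgroup.normalizer (K : Set G)) :
    ∀ a ∈ H, ∀ n ∈ K, a * n * a⁻¹ ∈ K := fun a ha n hn =>
  (Subgroup.mem_normalizer_iff.1 (h ha) n).1 hn

/-- The normaliser of a maximal invariant subgroup. -/
theorem Setup.normalizer_small (hs : Setup x i) {M : Subgroup G} (hM : MaxI x M) (hM1 : M ≠ ⊥) :
    (Nat.card (Subgroup.normalizer (M : Set G)) = 3 * Nat.card M ∧
        i ∉ Subgroup.normalizer (M : Set G) ∨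
      Nat.card (Subgroup.normalizer (M : Set G)) = 6 * Nat.card M ∧
        i ∈ Subgroup.normalizer (M : Set G)) ∧
      ∀ K, K ≤ Subgroup.normalizer (M : Set G) → Inv3 x K → K ≤ M := by
  set H := Subgroup.normalizer (M : Set G) with hH
  have hxH : x ∈ H := x_mem_normalizer hM.1
  have hMH : M ≤ H := Subgroup.le_normalizer
  have hn := conj_mem_of_le_normalizer (le_refl H)
  rcases hs.sub H (hs.normalizer_ne_top hM.1 hM1) hxH with hS | hA | hL
  · obtain ⟨N, hNH, hNn, hN, hmax, hcard⟩ := hS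
    have hNM : N = M := hM.2 N hN (hmax M hMH hM.1)
    subst hNM
    refine ⟨?_, hmax⟩
    have hm := hN.card_mod hs.sc
    obtain ⟨h1, h2⟩ := hs.subgroup_mod hxH
    by_cases hiH : i ∈ H
    · obtain ⟨r, hr, he⟩ := h1 hiH
      exact Or.inr ⟨by omega, hiH⟩
    · obtain ⟨r, hr, he⟩ := h2 hiH
      exact Or.inl ⟨by omega, hiH⟩
  · obtain ⟨N, T, hNT, hTH, hNn, hN2, hT, hcard, hmax, hsimp⟩ := hA
    have hMN : M ≤ N := hmax M hMH hn hM.1.cop
    have := hM.2 T hT (hMN.trans hNT.le)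
    exact absurd (this ▸ hNT) (fun h => h.not_ge hMN)
  · exact absurd hL (hs.not_typeL hM.1 hM1 hMH hxH hn)

theorem Setup.i_not_mem (hs : Setup x i) {M : Subgroup G} (hM : Inv3 x M) : i ∉ M := fun h => by
  have h2 := hM.inv i h
  rw [conj_inv hs.hi hs.hix hs.sc] at h2
  have hx : x ∈ M := (M.mul_mem_cancel_left h).1 h2
  exact hs.sc.ne_one (hM.fpf hs.sc hx (Commute.refl x))

/-- Invariant subgroups in a known subgroup of type `A₅`. -/
theorem Setup.relIndex_cases (hs : Setup x i) {H N K : Subgroup G} (hcard : Nat.card H = 60 * Nat.card N)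
    (hN : Inv3 x N) (hK : Inv3 x K) (hNK : N ≤ K) (hKH : K ≤ H) :
    ∃ d, Nat.card K = d * Nat.card N ∧ (d = 1 ∨ d = 4 ∨ d = 10) := by
  obtain ⟨d, hd⟩ := Subgroup.card_dvd_of_le hNK
  rw [mul_comm] at hd
  refine ⟨d, hd, ?_⟩
  have hd60 : d ∣ 60 := by
    have h := Subgroup.card_dvd_of_le hKH
    rw [hd, hcard] at h
    exact Nat.dvd_of_mul_dvd_mul_right Nat.card_pos h
  have h3 : ¬ 3 ∣ d := fun h => hK.cop (hd ▸ dvd_mul_of_dvd_left h _)
  have hn := hN.card_mod hs.sc
  have hk := hK.card_mod hs.sc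
  rw [hd, Nat.mul_mod, hn, mul_one, Nat.mod_mod] at hk
  have key : ∀ d ∈ Nat.divisors 60, d % 3 = 1 → d = 1 ∨ d = 4 ∨ d = 10 := by decide
  exact key d (Nat.mem_divisors.2 ⟨hd60, by norm_num⟩) hk

theorem Setup.i_mem_typeA5 (hs : Setup x i) {H N : Subgroup G} (hxH : x ∈ H)
    (hcard : Nat.card H = 60 * Nat.card N) (hN : Inv3 x N) : i ∈ H := by
  by_contra h
  obtain ⟨r, hr, he⟩ := (hs.subgroup_mod hxH).2 h
  have := hN.card_mod hs.sc
  omega

/-- A normalised invariant subgroup above the 2-core in a subgroup of type `A₅`. -/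
theorem Setup.typeA5_sub (hs : Setup x i) {H N K : Subgroup G}
    (hcard : Nat.card H = 60 * Nat.card N) (hN : Inv3 x N) (hNH : N ≤ H)
    (hsimp : ∀ K : Subgroup G, N ≤ K → K ≤ H → (∀ h ∈ H, ∀ n ∈ K, h * n * h⁻¹ ∈ K) → K = N ∨ K = H)
    (hK : Inv3 x K) (hNK : N ≤ K) (hKH : K ≤ H) (hne : K ≠ N) (hxH : x ∈ H) :
    Nat.card K = 4 * Nat.card N ∧ ¬ (∀ k ∈ K, i * k * i ∈ K) := by
  obtain ⟨d, hd, hdc⟩ := hs.relIndex_cases hcard hN hK hNK hKH
  set L := H ⊓ Subgroup.normalizer (K : Set G) with hL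
  have hKL : K ≤ L := le_inf hKH Subgroup.le_normalizer
  have hxL : x ∈ L := ⟨hxH, x_mem_normalizer hK⟩
  have hn := conj_mem_of_le_normalizer (inf_le_right : L ≤ Subgroup.normalizer (K : Set G))
  have h3 : Nat.card K * 3 ∣ Nat.card L := mul_prime_dvd Nat.prime_three hKL hxL hn
    (by rw [pow_succ, pow_two]; exact hs.sc.pow_three)
    (fun h => hs.sc.ne_one (hK.fpf hs.sc h (Commute.refl x)))
  have hLH : Nat.card L ∣ Nat.card H := Subgroup.card_dvd_of_le inf_le_left
  have hKne : K ≠ H := fun e => hs.sc.ne_one (hK.fpf hs.sc (e ▸ hxH) (Commute.refl x))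
  have hLne : L ≠ H := fun e => by
    rcases hsimp K hNK hKH (fun h hh n hn' => hn h (show h ∈ L by rw [e]; exact hh) n hn') with h | h
    · exact hne h
    · exact hKne h
  have hd1 : d ≠ 1 := fun e => by
    subst e
    exact hne (Subgroup.eq_of_le_of_card_ge hNK (by omega)).symm
  obtain ⟨r, hr⟩ := hLH
  have hr1 : r ≠ 1 := fun e => hLne (Subgroup.eq_of_le_of_card_ge inf_le_left (by rw [hr, e, mul_one]))
  obtain ⟨s, hsL⟩ := h3
  have heq : d * s * r * 3 = 60 := by
    have h' : d * s * r * 3 * Nat.card N = 60 * Nat.card N := by rw [← hcard, hr, hsL, hd]; ring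
    exact Nat.eq_of_mul_eq_mul_right Nat.card_pos h'
  have hd10 : d ≠ 10 := by
    intro e
    subst e
    have hsr : s * r = 2 := by linarith [heq]
    have hs1 : s = 1 ∧ r = 2 := by
      rcases Nat.prime_two.eq_one_or_self_of_dvd r ⟨s, by rw [← hsr]; ring⟩ with h | h
      · exact absurd h hr1
      · exact ⟨by rw [h] at hsr; omega, h⟩
    obtain ⟨-, rfl⟩ := hs1
    -- a subgroup of index two
    have hidx : (L.subgroupOf H).index = 2 := by
      have h := (L.subgroupOf H).card_mul_index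
      rw [Nat.card_congr (Subgroup.subgroupOfEquivOfLe (inf_le_left : L ≤ H)).toEquiv, hr] at h
      exact Nat.eq_of_mul_eq_mul_left Nat.card_pos h
    haveI := Subgroup.normal_of_index_eq_two hidx
    rcases hsimp L (hNK.trans hKL) inf_le_left (fun h hh n hn' =>
      (Subgroup.mem_subgroupOf).1 (Subgroup.Normal.conj_mem (H := L.subgroupOf H) inferInstance
        ⟨n, hn'.1⟩ (Subgroup.mem_subgroupOf.2 hn') ⟨h, hh⟩)) with h | h
    · exact hs.sc.ne_one (hN.fpf hs.sc (h ▸ hxL) (Commute.refl x))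
    · exact hLne h
  obtain rfl : d = 4 := by omega
  refine ⟨hd, fun hiK => ?_⟩
  have hiL : i ∈ L := ⟨hs.i_mem_typeA5 hxH hcard hN, mem_normalizer_of_invariant (by rw [hs.inv_i]; exact hiK)⟩
  have h2 : Nat.card K * 2 ∣ Nat.card L := mul_prime_dvd Nat.prime_two hKL hiL hn
    (by rw [pow_two]; exact hs.hi) (hs.i_not_mem hK)
  rw [hsL, hd, mul_assoc] at h2
  have h2' : 2 ∣ 3 * s := by
    refine Nat.dvd_of_mul_dvd_mul_left (k := 4 * Nat.card N) (Nat.mul_pos (by norm_num) Nat.card_pos) ?_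
    simpa [mul_assoc] using h2
  obtain ⟨s', rfl⟩ : 2 ∣ s := by omega
  have : 24 ∣ 60 := ⟨s' * r, by linarith [heq]⟩
  omega

theorem Setup.conj_maxI (hs : Setup x i) {M : Subgroup G} (hM : MaxI x M) :
    MaxI x (M.map (MulAut.conj i).toMonoidHom) := by
  have hinv : ∀ K : Subgroup G, Inv3 x K → Inv3 x (K.map (MulAut.conj i).toMonoidHom) := by
    intro K hK
    refine ⟨?_, by rw [Subgroup.card_map_of_injective (MulAut.conj i).injective]; exact hK.cop⟩
    rintro _ ⟨k, hk, rfl⟩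
    refine ⟨x⁻¹ * k * x⁻¹⁻¹, (hK.inv' hs.sc).inv k hk, ?_⟩
    show i * (x⁻¹ * k * x⁻¹⁻¹) * i⁻¹ = x * (i * k * i⁻¹) * x⁻¹
    have e1 : i * x⁻¹ = x * i := by
      calc i * x⁻¹ = i * (i * x * i) := by rw [hs.hix]
        _ = (i * i) * x * i := by group
        _ = _ := by rw [hs.hi, one_mul]
    calc i * (x⁻¹ * k * x⁻¹⁻¹) * i⁻¹ = (i * x⁻¹) * k * (i * x⁻¹)⁻¹ := by group
      _ = _ := by rw [e1]; group
  refine ⟨hinv M hM.1, fun K hK hle => ?_⟩
  have hii : ∀ K : Subgroup G, (K.map (MulAut.conj i).toMonoidHom).map (MulAut.conj i).toMonoidHom = K := by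
    intro K
    rw [Subgroup.map_map]
    convert Subgroup.map_id K
    ext g
    show i * (i * g * i⁻¹) * i⁻¹ = g
    rw [hs.inv_i, show i * (i * g * i) * i = (i * i) * g * (i * i) by group, hs.hi]
    group
  have h := hM.2 _ (hinv K hK) (by rw [← hii M]; exact Subgroup.map_mono hle)
  rw [← h, hii]

/-- Members of one conjugacy class. -/
theorem Setup.conj_cases (hs : Setup x i) {M : Subgroup G} (hM : MaxI x M) (hM1 : M ≠ ⊥) {g : G}
    (hg : Inv3 x (M.map (MulAut.conj g).toMonoidHom)) :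
    M.map (MulAut.conj g).toMonoidHom = M ∨
      M.map (MulAut.conj g).toMonoidHom = M.map (MulAut.conj i).toMonoidHom := by
  haveI : Fact (Nat.Prime 3) := ⟨Nat.prime_three⟩
  set H := Subgroup.normalizer (M : Set G)
  have hxH : x ∈ H := x_mem_normalizer hM.1
  have hxg : g⁻¹ * x * g ∈ H := by
    refine mem_normalizer_of_invariant fun k hk => ?_
    obtain ⟨k', hk', e⟩ := hg.inv _ ⟨k, hk, rfl⟩
    have e' : g * k' * g⁻¹ = x * (g * k * g⁻¹) * x⁻¹ := e
    have : g⁻¹ * x * g * k * (g⁻¹ * x * g)⁻¹ = k' := by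
      calc g⁻¹ * x * g * k * (g⁻¹ * x * g)⁻¹ = g⁻¹ * (x * (g * k * g⁻¹) * x⁻¹) * g := by group
        _ = k' := by rw [← e']; group
    exact this ▸ hk'
  obtain ⟨⟨h1, -⟩, -⟩ := (⟨hs.subgroup_mod hxH, trivial⟩ : _ ∧ True)
  have hord : ∀ (a : G) (ha : a ∈ H), orderOf a = 3 → IsPGroup 3 (Subgroup.zpowers (⟨a, ha⟩ : H)) :=
    fun a ha h => IsPGroup.of_card (n := 1) (by rw [Nat.card_zpowers, Subgroup.orderOf_mk, h, pow_one])
  have ho2 : orderOf (g⁻¹ * x * g) = 3 := by
    have := MulEquiv.orderOf_eq (MulAut.conj g⁻¹) x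
    simp only [MulAut.conj_apply, inv_inv] at this
    rw [this, hs.sc.ord]
  obtain ⟨P, hP⟩ := (hord x hxH hs.sc.ord).exists_le_sylow
  obtain ⟨Q, hQ⟩ := (hord _ hxg ho2).exists_le_sylow
  obtain ⟨h, hh⟩ := MulAction.exists_smul_eq H Q P
  -- the conjugate lies in the same Sylow subgroup, hence is a power of `x`
  have hmem : h * ⟨_, hxg⟩ * h⁻¹ ∈ (P : Subgroup H) := by
    rw [← hh, Sylow.coe_subgroup_smul]
    exact ⟨_, hQ (Subgroup.mem_zpowers _), rfl⟩
  have hPcard : Nat.card (P : Subgroup H) = 3 := by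
    obtain ⟨k, hk⟩ := IsPGroup.iff_card.1 P.isPGroup'
    have hd : 3 ∣ Nat.card (P : Subgroup H) := by
      have := Subgroup.card_dvd_of_le hP
      rwa [Nat.card_zpowers, Subgroup.orderOf_mk, hs.sc.ord] at this
    have hle : Nat.card (P : Subgroup H) ∣ Nat.card H := Subgroup.card_subgroup_dvd_card _
    have hk2 : k ≤ 1 := by
      by_contra hk2
      have h9 : 9 ∣ Nat.card H := ((pow_dvd_pow 3 (by omega : 2 ≤ k)).trans (hk ▸ hle))
      obtain ⟨h1, h2⟩ := hs.subgroup_mod hxH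
      by_cases hiH : i ∈ H
      · obtain ⟨r, hr, he⟩ := h1 hiH; omega
      · obtain ⟨r, hr, he⟩ := h2 hiH; omega
    interval_cases k
    · rw [hk] at hd; norm_num at hd
    · exact hk
  have hPeq : (P : Subgroup H) = Subgroup.zpowers ⟨x, hxH⟩ := by
    refine (Subgroup.eq_of_le_of_card_ge hP ?_).symm
    rw [hPcard, Nat.card_zpowers, Subgroup.orderOf_mk, hs.sc.ord]
  rw [hPeq] at hmem
  have hz : (h : G) * (g⁻¹ * x * g) * (h : G)⁻¹ ∈ Subgroup.zpowers x := by
    obtain ⟨k, hk⟩ := hmem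
    exact ⟨k, by simpa using congrArg Subtype.val hk⟩
  set a := (h : G) * g⁻¹ with ha
  have hax : a * x * a⁻¹ = x ∨ a * x * a⁻¹ = x⁻¹ := by
    have e : a * x * a⁻¹ = (h : G) * (g⁻¹ * x * g) * (h : G)⁻¹ := by rw [ha]; group
    rcases (hs.sc.mem_zpowers_iff _).1 hz with k | k | k
    · rw [← e] at k; exact absurd (conj_eq_one_iff.1 k) hs.sc.ne_one
    · exact Or.inl (e.trans k)
    · exact Or.inr (e.trans k)
  -- `g = a⁻¹ h` with `h` in the normaliser
  have hmapH : ∀ b ∈ H, M.map (MulAut.conj b).toMonoidHom = M := by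
    intro b hb
    ext y
    constructor
    · rintro ⟨m, hm, rfl⟩; exact (Subgroup.mem_normalizer_iff.1 hb m).1 hm
    · intro hy
      refine ⟨b⁻¹ * y * b, (Subgroup.mem_normalizer_iff.1 hb _).2 (by simpa [mul_assoc] using hy), ?_⟩
      show b * (b⁻¹ * y * b) * b⁻¹ = y
      group
  have hcomp : ∀ a b : G, M.map (MulAut.conj (a * b)).toMonoidHom =
      (M.map (MulAut.conj b).toMonoidHom).map (MulAut.conj a).toMonoidHom := by
    intro a b
    rw [Subgroup.map_map]
    congr 1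
    ext y
    show a * b * y * (a * b)⁻¹ = a * (b * y * b⁻¹) * a⁻¹
    group
  have hg' : g = a⁻¹ * (h : G) := by rw [ha]; group
  rw [hg', hcomp, hmapH _ h.2]
  have hXH : Subgroup.zpowers x ≤ H := Subgroup.zpowers_le.2 hxH
  rcases hs.normalizes hax with hb | hb
  · exact Or.inl (hmapH _ (H.inv_mem (hXH hb)))
  · right
    have hb' : (i * a)⁻¹ ∈ Subgroup.zpowers x := inv_mem hb
    rw [mul_inv_rev, hs.inv_i] at hb'
    -- `a⁻¹ = z i` with `z` a power of `x`, and `z i = i z⁻¹`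
    set z := a⁻¹ * i
    have hza : a⁻¹ = z * i := by simp only [z]; rw [mul_assoc, hs.hi, mul_one]
    have hzi : z * i = i * z⁻¹ := by
      rcases (hs.sc.mem_zpowers_iff z).1 hb' with e | e | e <;> rw [e]
      · simp
      · calc x * i = x * i * 1 := (mul_one _).symm
          _ = (i * i) * x * i := by rw [hs.hi]; group
          _ = i * (i * x * i) := by group
          _ = _ := by rw [hs.hix]
      · rw [inv_inv, hs.i_x]
    rw [hza, hzi, hcomp, hmapH _ (H.inv_mem (hXH hb'))]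

end Cfsg.Agent.SelfCentThreeLocal
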