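import Mathlib
import Cfsg.Agent.Lib.SelfCentThreeLocal
import Cfsg.Agent.Lib.SelfCentThreeChar
import Cfsg.Agent.Lib.SimpleOrder

/-!
The classes of maximal invariant subgroups of order prime to three in a simple group with a
self-centralising element of order three.
-/

set_option autoImplicit false

namespace Cfsg.Agent.SelfCentThreeClasses

open SelfCentThreeBase SelfCentThreeLocal
open scoped Pointwise

variable {G : Type*} [Group G] [Finite G] {x i : G}

/-- The maximal invariant subgroups. -/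
noncomputable def maxSet (x : G) : Finset (Subgroup G) :=
  (Set.toFinite {M : Subgroup G | MaxI x M}).toFinset

theorem mem_maxSet {M : Subgroup G} : M ∈ maxSet x ↔ MaxI x M := Set.Finite.mem_toFinset _

theorem inv3_of_le {M K : Subgroup G} (hM : Inv3 x M) (hle : K ≤ M) (hK : ∀ k ∈ K, x * k * x⁻¹ ∈ K) :
    Inv3 x K :=
  ⟨hK, fun h => hM.cop (h.trans (Subgroup.card_dvd_of_le hle))⟩

/-- Products of `x` with a conjugate which are conjugate to `x` give invariant subgroups. -/
theorem exists_maxI_of_pair (hx : SC3 x) {g : G} (hg : IsConj x (x * (g * x * g⁻¹))) :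
    ∃ M, MaxI x M ∧ g * x * g⁻¹ * x⁻¹ ∈ M := by
  classical
  haveI : Fact (Nat.Prime 3) := ⟨Nat.prime_three⟩
  haveI := Fintype.ofFinite G
  set a := g * x * g⁻¹ * x⁻¹ with ha
  set a1 := x * a * x⁻¹ with ha1
  set a2 := x * x * a * (x * x)⁻¹ with ha2
  have hax : g * x * g⁻¹ = a * x := by rw [ha, inv_mul_cancel_right]
  have h3 : ∀ y : G, SC3 y → y * y * y = 1 := fun y hy => hy.pow_three
  have r1 : a * a1 * a2 = 1 := by
    have := h3 _ (hx.conj g)
    rw [hax] at this
    calc a * a1 * a2 = (a * x) * (a * x) * (a * x) * (x * x * x)⁻¹ := by rw [ha1, ha2]; group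
      _ = 1 := by rw [this, hx.pow_three, one_mul, inv_one]
  have r2 : a * a2 * a1 = 1 := by
    obtain ⟨h, hh⟩ := isConj_iff.1 hg
    have := h3 _ (hx.conj h)
    rw [hh, hax] at this
    have e : a * a2 * a1 = x⁻¹ * ((x * (a * x)) * (x * (a * x)) * (x * (a * x))) * x * (x * x * x)⁻¹ * (x * x * x)⁻¹ := by
      have e1 : a1 = x * x * x * x * a * (x * x * x * x)⁻¹ := by rw [hx.pow_three, one_mul, ha1]
      rw [e1, ha2]
      simp only [mul_inv_rev, mul_assoc, inv_mul_cancel_left, mul_inv_cancel_left]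
    rw [e, this, hx.pow_three]; group
  have hA1 : a1 * a2 = a⁻¹ := eq_inv_of_mul_eq_one_right (by rw [← mul_assoc]; exact r1)
  have hA2 : a2 * a1 = a⁻¹ := eq_inv_of_mul_eq_one_right (by rw [← mul_assoc]; exact r2)
  have hc : Commute a a1 := by
    have h1 : Commute a1 (a1 * a2) := (Commute.refl a1).mul_right (hA1.trans hA2.symm)
    rw [hA1] at h1
    simpa using h1.symm.inv_left
  set A := Subgroup.closure ({a, a1} : Set G) with hA
  haveI hcomm : IsMulCommutative A := Subgroup.isMulCommutative_closure (by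
    intro u hu v hv
    simp only [Set.mem_insert_iff, Set.mem_singleton_iff] at hu hv
    rcases hu with rfl | rfl <;> rcases hv with rfl | rfl
    exacts [rfl, hc.eq, hc.eq.symm, rfl])
  have haA : a ∈ A := Subgroup.subset_closure (by simp)
  have ha1A : a1 ∈ A := Subgroup.subset_closure (by simp)
  have ha2A : a2 ∈ A := by
    have : a2 = a1⁻¹ * a⁻¹ := by rw [← mul_inv_rev]; exact eq_inv_of_mul_eq_one_right r1
    rw [this]; exact mul_mem (inv_mem ha1A) (inv_mem haA)
  have hAinv : ∀ k ∈ A, x * k * x⁻¹ ∈ A := by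
    intro k hk
    have hle : A ≤ A.comap (MulAut.conj x).toMonoidHom := by
      rw [hA, Subgroup.closure_le]
      intro u hu
      simp only [Set.mem_insert_iff, Set.mem_singleton_iff] at hu
      rcases hu with rfl | rfl
      · exact ha1A
      · show x * (x * a * x⁻¹) * x⁻¹ ∈ A
        rw [show x * (x * a * x⁻¹) * x⁻¹ = a2 by rw [ha2]; group]
        exact ha2A
    exact hle hk
  by_cases h3A : 3 ∣ Nat.card A
  swap
  · obtain ⟨M, hM, hle⟩ := exists_maxI x (K := A) ⟨hAinv, h3A⟩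
    exact ⟨M, hM, hle haA⟩
  -- `x` would centralise an element of order three of `A`
  exfalso
  let S : Subgroup G :=
    { carrier := {e | e ∈ A ∧ e ^ 3 = 1}
      one_mem' := ⟨A.one_mem, one_pow _⟩
      mul_mem' := fun {u v} hu hv => ⟨A.mul_mem hu.1 hv.1, by
        have huv : Commute u v := congrArg Subtype.val (hcomm.is_comm.comm (⟨u, hu.1⟩ : A) ⟨v, hv.1⟩)
        rw [huv.mul_pow, hu.2, hv.2, one_mul]⟩
      inv_mem' := fun {u} hu => ⟨A.inv_mem hu.1, by rw [inv_pow, hu.2, inv_one]⟩ }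
  have hS3 : 3 ∣ Nat.card S := by
    obtain ⟨e, he⟩ := exists_prime_orderOf_dvd_card' 3 h3A
    have heS : (e : G) ∈ S := ⟨e.2, by
      rw [← he, ← Subgroup.orderOf_coe, pow_orderOf_eq_one]⟩
    have := orderOf_dvd_natCard (⟨(e : G), heS⟩ : S)
    rwa [Subgroup.orderOf_mk, Subgroup.orderOf_coe, he] at this
  have hSinv : ∀ k ∈ S, x * k * x⁻¹ ∈ S := fun k hk =>
    ⟨hAinv k hk.1, by rw [conj_pow, hk.2, mul_one, mul_inv_cancel]⟩
  haveI := Fintype.ofFinite S
  let F : Function.End S := fun k => ⟨x * k * x⁻¹, hSinv _ k.2⟩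
  have hF : F ^ 3 ^ 1 = 1 := by
    funext k
    apply Subtype.ext
    show x * (x * (x * (k : G) * x⁻¹) * x⁻¹) * x⁻¹ = k
    calc x * (x * (x * (k : G) * x⁻¹) * x⁻¹) * x⁻¹ = (x * x * x) * k * (x * x * x)⁻¹ := by group
      _ = k := by rw [hx.pow_three]; group
  have hmod := Equiv.Perm.card_fixedPoints_modEq hF
  rw [← Nat.card_eq_fintype_card (α := S)] at hmod
  have hfix : 3 ∣ Fintype.card F.fixedPoints := (Nat.modEq_zero_iff_dvd.1 (hmod.symm.trans (Nat.modEq_zero_iff_dvd.2 hS3)))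
  have h1 : (1 : S) ∈ F.fixedPoints := Subtype.ext (show x * ((1 : S) : G) * x⁻¹ = ((1 : S) : G) by simp)
  obtain ⟨⟨k, hk⟩, hne⟩ := Fintype.exists_ne_of_one_lt_card (by
    have : 0 < Fintype.card F.fixedPoints := Fintype.card_pos_iff.2 ⟨⟨1, h1⟩⟩
    have h3 := Nat.le_of_dvd this hfix
    exact lt_of_lt_of_le (by norm_num) h3) (⟨1, h1⟩ : F.fixedPoints)
  have hkx : Commute (k : G) x :=
    ((mul_inv_eq_iff_eq_mul.1 (congrArg Subtype.val hk : x * (k : G) * x⁻¹ = k))).symm
  have hxA : x ∈ A := by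
    rcases hx.cent _ hkx with e | e | e
    · exact absurd (Subtype.ext (Subtype.ext e)) hne
    · exact e ▸ k.2.1
    · have := A.inv_mem k.2.1; rwa [e, inv_inv] at this
  have hax' : Commute a x := congrArg Subtype.val (hcomm.is_comm.comm (⟨a, haA⟩ : A) ⟨x, hxA⟩)
  rcases hx.cent a hax' with e | e | e
  · have hbot : A = ⊥ := by
      rw [hA, Subgroup.closure_eq_bot_iff]
      intro u hu
      simp only [Set.mem_insert_iff, Set.mem_singleton_iff] at hu ⊢
      rcases hu with rfl | rfl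
      · exact e
      · rw [ha1, e]; group
    rw [hbot, Subgroup.card_bot] at h3A
    norm_num at h3A
  · obtain ⟨h, hh⟩ := isConj_iff.1 hg
    rw [hax, e, ← mul_assoc, hx.pow_three, conj_eq_one_iff] at hh
    exact hx.ne_one hh
  · rw [e, inv_mul_cancel, conj_eq_one_iff] at hax
    exact hx.ne_one hax

/-- The maximal invariant subgroups cover many elements. -/
theorem cover (hs : Setup x i) : Nat.card G < 9 * ∑ M ∈ maxSet x, Nat.card M := by
  classical
  haveI := Fintype.ofFinite G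
  set F := Finset.univ.filter fun g : G => IsConj x (x * (g * x * g⁻¹)) with hF
  have hlt := SelfCentThreeChar.card_lt hs.sc hs.hi hs.hix
  rw [Nat.card_eq_fintype_card (α := {g : G // _}), Fintype.card_subtype, ← hF] at hlt
  have h3 : F.card ≤ 3 * (F.image fun g => g * x * g⁻¹ * x⁻¹).card := by
    refine Finset.card_le_mul_card_image F 3 fun b hb => ?_
    obtain ⟨g₀, -, rfl⟩ := Finset.mem_image.1 hb
    have hc : (Finset.univ.filter fun c : G => c ∈ Subgroup.zpowers x).card = 3 := by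
      rw [← Fintype.card_subtype, ← Nat.card_eq_fintype_card]
      exact (Nat.card_zpowers x).trans hs.sc.ord
    rw [← hc]
    refine Finset.card_le_card_of_injOn (fun g => g₀⁻¹ * g) ?_ ((mul_right_injective _).injOn)
    intro g hg
    obtain ⟨-, hge⟩ := Finset.mem_filter.1 (Finset.mem_coe.1 hg)
    refine Finset.mem_coe.2 (Finset.mem_filter.2 ⟨Finset.mem_univ _,
      (hs.sc.mem_zpowers_iff _).2 (hs.sc.cent _ ?_)⟩)
    show g₀⁻¹ * g * x = x * (g₀⁻¹ * g)
    calc g₀⁻¹ * g * x = g₀⁻¹ * (g * x * g⁻¹) * g := by group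
      _ = g₀⁻¹ * (g₀ * x * g₀⁻¹) * g := by rw [mul_right_cancel hge]
      _ = _ := by group
  have himg : (F.image fun g => g * x * g⁻¹ * x⁻¹).card ≤ ∑ M ∈ maxSet x, Nat.card M := by
    have hsub : (F.image fun g => g * x * g⁻¹ * x⁻¹) ⊆
        (maxSet x).biUnion fun M => Finset.univ.filter (fun c => c ∈ M) := by
      intro b hb
      obtain ⟨g, hg, rfl⟩ := Finset.mem_image.1 hb
      obtain ⟨M, hM, hm⟩ := exists_maxI_of_pair hs.sc (Finset.mem_filter.1 hg).2
      exact Finset.mem_biUnion.2 ⟨M, mem_maxSet.2 hM, Finset.mem_filter.2 ⟨Finset.mem_univ _, hm⟩⟩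
    refine (Finset.card_le_card hsub).trans (Finset.card_biUnion_le.trans (le_of_eq ?_))
    refine Finset.sum_congr rfl fun M _ => ?_
    rw [Nat.card_eq_fintype_card, Fintype.card_subtype]
  omega

theorem ne_bot (hs : Setup x i) {M : Subgroup G} (hM : MaxI x M) : M ≠ ⊥ := by
  intro h
  subst h
  haveI := hs.simple
  have hall : maxSet x = {⊥} := by
    refine Finset.eq_singleton_iff_unique_mem.2 ⟨mem_maxSet.2 hM, fun K hK => hM.2 K (mem_maxSet.1 hK).1 bot_le⟩
  have h := cover hs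
  rw [hall, Finset.sum_singleton, Subgroup.card_bot] at h
  have hX : Subgroup.zpowers x ≠ ⊤ := by
    intro e
    refine hs.noncomm ?_
    haveI : IsCyclic G := isCyclic_iff_exists_zpowers_eq_top.2 ⟨x, e⟩
    exact IsCyclic.isMulCommutative
  have h5 := SimpleOrder.five_le_index hs.noncomm _ hX
  have hmul := (Subgroup.zpowers x).card_mul_index
  rw [Nat.card_zpowers, hs.sc.ord] at hmul
  omega

/-- Every element of order three is self-centralising. -/
theorem sc3_of_order (hs : Setup x i) {e : G} (he : orderOf e = 3) : SC3 e := by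
  haveI : Fact (Nat.Prime 3) := ⟨Nat.prime_three⟩
  have hpg : ∀ y : G, orderOf y = 3 → IsPGroup 3 (Subgroup.zpowers y) := fun y hy =>
    IsPGroup.of_card (n := 1) (by rw [Nat.card_zpowers, hy, pow_one])
  obtain ⟨P, hP⟩ := (hpg x hs.sc.ord).exists_le_sylow
  obtain ⟨Q, hQ⟩ := (hpg e he).exists_le_sylow
  obtain ⟨g, hg⟩ := MulAction.exists_smul_eq G Q P
  have hmem : g * e * g⁻¹ ∈ (P : Subgroup G) := by
    rw [← hg, Sylow.coe_subgroup_smul]
    exact ⟨e, hQ (Subgroup.mem_zpowers e), rfl⟩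
  have hcard : Nat.card (P : Subgroup G) ≤ 3 := by
    obtain ⟨k, hk⟩ := IsPGroup.iff_card.1 P.isPGroup'
    by_contra hk3
    push Not at hk3
    have hk2 : 2 ≤ k := by
      by_contra h
      have : 3 ^ k ≤ 3 ^ 1 := Nat.pow_le_pow_right (by norm_num) (by omega)
      rw [hk] at hk3; norm_num at this; omega
    have h9 : 9 ∣ Nat.card G := (pow_dvd_pow 3 hk2).trans (hk ▸ Subgroup.card_subgroup_dvd_card _)
    obtain ⟨h1, h2⟩ := hs.subgroup_mod (Subgroup.mem_top x)
    obtain ⟨r, hr, he'⟩ := h1 (Subgroup.mem_top i)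
    rw [Subgroup.card_top] at he'
    omega
  have hPx : (P : Subgroup G) = Subgroup.zpowers x :=
    (Subgroup.eq_of_le_of_card_ge hP (by rwa [Nat.card_zpowers, hs.sc.ord])).symm
  rw [hPx, hs.sc.mem_zpowers_iff] at hmem
  have hconj : ∀ y, g * e * g⁻¹ = y → SC3 y → SC3 e := fun y hy h => by
    have := h.conj g⁻¹
    rwa [inv_inv, ← hy, show g⁻¹ * (g * e * g⁻¹) * g = e by group] at this
  rcases hmem with h | h | h
  · rw [conj_eq_one_iff.1 h, orderOf_one] at he; omega
  · exact hconj _ h hs.sc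
  · exact hconj _ h hs.sc.inv

theorem not_three_dvd_centralizer (hs : Setup x i) {w : G} (hw : w * w = 1) (hw1 : w ≠ 1) :
    ¬ 3 ∣ Nat.card (Subgroup.centralizer ({w} : Set G)) := by
  intro h
  haveI : Fact (Nat.Prime 3) := ⟨Nat.prime_three⟩
  obtain ⟨e, he⟩ := exists_prime_orderOf_dvd_card' 3 h
  have hes := sc3_of_order hs (e := (e : G)) (by rw [Subgroup.orderOf_coe, he])
  have hc : Commute w (e : G) := (Subgroup.mem_centralizer_singleton_iff.1 e.2).symm
  rcases hes.cent w hc with h | h | h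
  · exact hw1 h
  · exact hes.ne_one (by have h3 := hes.pow_three; rwa [← h, hw, one_mul, h] at h3)
  · have h2 : (e : G) * e = 1 := by
      rw [h, ← mul_inv_rev, inv_eq_one] at hw; exact hw
    exact hes.ne_one (by have h3 := hes.pow_three; rwa [h2, one_mul] at h3)

/-- The `p`-part of an invariant subgroup. -/
theorem exists_part (hs : Setup x i) {M : Subgroup G} (hM : Inv3 x M) {p : ℕ} (hp : p.Prime) :
    ∃ P : Subgroup G, P ≤ M ∧ IsPGroup p P ∧ Nat.card P = p ^ (Nat.card M).factorization p ∧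
      (∀ g : G, (∀ m ∈ M, g * m * g⁻¹ ∈ M) → ∀ k ∈ P, g * k * g⁻¹ ∈ P) ∧
      ∀ m ∈ M, IsPGroup p (Subgroup.zpowers m) → m ∈ P := by
  haveI : Fact p.Prime := ⟨hp⟩
  haveI := hM.isNilpotent hs.sc
  obtain ⟨R⟩ : Nonempty (Sylow p M) := inferInstance
  have hRn : (R : Subgroup M).Normal :=
    Sylow.normal_of_normalizerCondition Group.normalizerCondition_of_isNilpotent R
  have hall : ∀ m : M, IsPGroup p (Subgroup.zpowers m) → m ∈ (R : Subgroup M) := by
    intro m hm
    obtain ⟨R', hR'⟩ := hm.exists_le_sylow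
    haveI := Sylow.unique_of_normal R hRn
    rw [Subsingleton.elim R R']
    exact hR' (Subgroup.mem_zpowers m)
  have hz : ∀ (m : M), IsPGroup p (Subgroup.zpowers (m : G)) → IsPGroup p (Subgroup.zpowers m) := by
    intro m hm y
    obtain ⟨j, hj⟩ := Subgroup.mem_zpowers_iff.1 y.2
    obtain ⟨k, hk⟩ := hm ⟨((y : M) : G), ⟨j, by rw [← hj]; simp⟩⟩
    exact ⟨k, Subtype.ext (Subtype.ext (by simpa using congrArg Subtype.val hk))⟩
  have hmemR : ∀ m ∈ M, IsPGroup p (Subgroup.zpowers m) → m ∈ (R : Subgroup M).map M.subtype :=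
    fun m hm hmp => ⟨⟨m, hm⟩, hall _ (hz ⟨m, hm⟩ hmp), rfl⟩
  have hPp : IsPGroup p ((R : Subgroup M).map M.subtype) := R.isPGroup'.map _
  refine ⟨(R : Subgroup M).map M.subtype, Subgroup.map_subtype_le _, hPp,
    by rw [Subgroup.card_map_of_injective M.subtype_injective, R.card_eq_multiplicity], ?_, hmemR⟩
  intro g hg k hk
  have hkM : k ∈ M := Subgroup.map_subtype_le _ hk
  refine hmemR _ (hg k hkM) fun y => ?_
  obtain ⟨j, hj⟩ := Subgroup.mem_zpowers_iff.1 y.2
  obtain ⟨n, hn⟩ := hPp ⟨k ^ j, zpow_mem hk j⟩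
  refine ⟨n, Subtype.ext ?_⟩
  have hn' : (k ^ j) ^ p ^ n = 1 := by simpa using congrArg Subtype.val hn
  simp only [SubmonoidClass.coe_pow, OneMemClass.coe_one]
  rw [← hj, conj_zpow, conj_pow, hn', mul_one, mul_inv_cancel]

theorem part_ne_bot {M P : Subgroup G} {p : ℕ} (hp : p.Prime)
    (hcard : Nat.card P = p ^ (Nat.card M).factorization p) (hd : p ∣ Nat.card M) : P ≠ ⊥ := by
  intro h
  rw [h, Subgroup.card_bot] at hcard
  have := hp.factorization_pos_of_dvd Nat.card_pos.ne' hd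
  have h2 := Nat.one_lt_pow this.ne' hp.one_lt
  omega

/-- The normaliser of a part is the normaliser of the whole. -/
theorem part_normalizer (hs : Setup x i) {M P : Subgroup G} (hM : MaxI x M) {p : ℕ} (hp : p.Prime)
    (hd : p ∣ Nat.card M) (hle : P ≤ M) (hpg : IsPGroup p P)
    (hcard : Nat.card P = p ^ (Nat.card M).factorization p)
    (hinv : ∀ g : G, (∀ m ∈ M, g * m * g⁻¹ ∈ M) → ∀ k ∈ P, g * k * g⁻¹ ∈ P)
    (hmem : ∀ m ∈ M, IsPGroup p (Subgroup.zpowers m) → m ∈ P) :
    Subgroup.normalizer (P : Set G) = Subgroup.normalizer (M : Set G) := by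
  have hPinv : Inv3 x P := inv3_of_le hM.1 hle (hinv x hM.1.inv)
  have hP1 := part_ne_bot hp hcard hd
  set H := Subgroup.normalizer (P : Set G) with hH
  have hNM : Subgroup.normalizer (M : Set G) ≤ H := fun g hg =>
    mem_normalizer_of_invariant (hinv g fun m hm => (Subgroup.mem_normalizer_iff.1 hg m).1 hm)
  refine le_antisymm ?_ hNM
  have hxH : x ∈ H := x_mem_normalizer hPinv
  have hMH : M ≤ H := Subgroup.le_normalizer.trans hNM
  have hn := conj_mem_of_le_normalizer (le_refl H)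
  rcases hs.sub H (hs.normalizer_ne_top hPinv hP1) hxH with hS | hA | hL
  · obtain ⟨N, hNH, hNn, hN, hmax, -⟩ := hS
    have hNM' : N = M := hM.2 N hN (hmax M hMH hM.1)
    subst hNM'
    exact fun g hg => mem_normalizer_of_invariant (hNn g hg)
  · obtain ⟨N, T, hNT, hTH, hNn, hN2, hT, hcardH, hmax, hsimp⟩ := hA
    have hN : Inv3 x N := inv3_of_le hT hNT.le fun k hk => hNn x hxH k hk
    have hMN : M ⊔ N = M := hM.2 _ (inv3_sup hM.1 hN
      (fun m hm => mem_normalizer_of_invariant (hNn m (hMH hm)))) le_sup_left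
    have hNleM : N ≤ M := le_of_le_of_eq le_sup_right hMN
    have hne : M ≠ N := fun e => by
      have := hM.2 T hT (e ▸ hNT.le)
      exact hNT.ne (e.symm.trans this.symm)
    obtain ⟨h4, -⟩ := hs.typeA5_sub hcardH hN (hNT.le.trans hTH) hsimp hM.1 hNleM hMH hne hxH
    obtain ⟨k, hk⟩ := IsPGroup.iff_card.1 hN2
    have hM2 : Nat.card M = 2 ^ (k + 2) := by rw [h4, hk]; ring
    have hp2 : p = 2 := by
      rw [hM2] at hd
      exact (Nat.prime_dvd_prime_iff_eq hp Nat.prime_two).1 (hp.dvd_of_dvd_pow hd)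
    subst hp2
    have hPM : P = M := by
      refine Subgroup.eq_of_le_of_card_ge hle ?_
      rw [hcard, hM2, Nat.prime_two.factorization_pow, Finsupp.single_eq_same]
    rw [hH, hPM]
  · exact absurd hL (hs.not_typeL hPinv hP1 (hle.trans hMH) hxH hn)

/-- A Hall part: either odd or with normaliser of order three times. -/
theorem part_sylow (hs : Setup x i) {M : Subgroup G} (hM : MaxI x M) {p : ℕ} (hp : p.Prime)
    (hd : p ∣ Nat.card M) (hgood : p ≠ 2 ∨ i ∉ Subgroup.normalizer (M : Set G)) :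
    ∃ S : Sylow p G, (S : Subgroup G) ≤ M ∧
      Subgroup.normalizer ((S : Subgroup G) : Set G) = Subgroup.normalizer (M : Set G) ∧
      Nat.card (S : Subgroup G) = p ^ (Nat.card M).factorization p := by
  haveI : Fact p.Prime := ⟨hp⟩
  have hp3 : p ≠ 3 := fun e => hM.1.cop (e ▸ hd)
  obtain ⟨P, hle, hpg, hcard, hinv, hmem⟩ := exists_part hs hM.1 hp
  have hN := part_normalizer hs hM hp hd hle hpg hcard hinv hmem
  obtain ⟨S, hS⟩ := hpg.exists_le_sylow
  have hPS : P = (S : Subgroup G) := by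
    by_contra hne
    haveI := S.isPGroup'.isNilpotent
    have hlt := lt_inf_normalizer (lt_of_le_of_ne hS hne)
    rw [hN] at hlt
    set Q := (S : Subgroup G) ⊓ Subgroup.normalizer (M : Set G) with hQ
    have hQp : IsPGroup p Q := S.isPGroup'.to_le inf_le_left
    obtain ⟨b, hb⟩ := IsPGroup.iff_card.1 hQp
    have hbd : p ^ b ∣ Nat.card (Subgroup.normalizer (M : Set G)) :=
      hb ▸ Subgroup.card_dvd_of_le inf_le_right
    have hgt : (Nat.card M).factorization p < b := by
      by_contra hle'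
      push Not at hle'
      refine hlt.ne (Subgroup.eq_of_le_of_card_ge hlt.le ?_)
      rw [hcard, hb]
      exact Nat.pow_le_pow_right hp.pos hle'
    have hdm : p ^ b ∣ Nat.card M := by
      have hc3 : (p ^ b).Coprime 3 := ((Nat.coprime_primes hp Nat.prime_three).2 hp3).pow_left b
      obtain ⟨⟨h3, hni⟩ | ⟨h6, hin⟩, -⟩ := hs.normalizer_small hM (ne_bot hs hM)
      · rw [h3] at hbd
        exact hc3.dvd_of_dvd_mul_left hbd
      · rcases hgood with h2 | h2
        · rw [h6, show (6 : ℕ) = 3 * 2 from rfl, mul_assoc] at hbd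
          exact (((Nat.coprime_primes hp Nat.prime_two).2 h2).pow_left b).dvd_of_dvd_mul_left
            (hc3.dvd_of_dvd_mul_left hbd)
        · exact absurd hin h2
    have := (hp.pow_dvd_iff_le_factorization Nat.card_pos.ne').1 hdm
    omega
  exact ⟨S, hPS ▸ hle, hPS ▸ hN, hPS ▸ hcard⟩

/-- Two such subgroups with a common prime are equal or interchanged by `i`. -/
theorem same_class (hs : Setup x i) {M M' : Subgroup G} (hM : MaxI x M) (hM' : MaxI x M') {p : ℕ}
    (hp : p.Prime) (hd : p ∣ Nat.card M) (hd' : p ∣ Nat.card M')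
    (hg : p ≠ 2 ∨ i ∉ Subgroup.normalizer (M : Set G))
    (hg' : p ≠ 2 ∨ i ∉ Subgroup.normalizer (M' : Set G)) :
    (M' = M ∨ M' = M.map (MulAut.conj i).toMonoidHom) ∧ Nat.card M' = Nat.card M := by
  haveI : Fact p.Prime := ⟨hp⟩
  obtain ⟨S, hSM, hSN, -⟩ := part_sylow hs hM hp hd hg
  obtain ⟨S', hSM', hSN', -⟩ := part_sylow hs hM' hp hd' hg'
  obtain ⟨g, hgS⟩ := MulAction.exists_smul_eq G S S'
  have hmemS : ∀ y, y ∈ (S : Subgroup G) ↔ g * y * g⁻¹ ∈ (S' : Subgroup G) := by
    intro y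
    rw [← hgS, Sylow.coe_subgroup_smul]
    constructor
    · exact fun hy => ⟨y, hy, rfl⟩
    · rintro ⟨z, hz, he⟩
      rwa [← (mul_left_cancel (mul_right_cancel (he : g * z * g⁻¹ = g * y * g⁻¹)))]
  have hmapN : (Subgroup.normalizer (M : Set G)).map (MulAut.conj g).toMonoidHom =
      Subgroup.normalizer (M' : Set G) := by
    rw [← hSN, ← hSN']
    ext y
    constructor
    · rintro ⟨z, hz, rfl⟩
      refine mem_normalizer_of_invariant fun k hk => ?_
      have hk' : g⁻¹ * k * g ∈ (S : Subgroup G) := (hmemS _).2 (by simpa [mul_assoc] using hk)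
      have := (hmemS _).1 ((Subgroup.mem_normalizer_iff.1 hz _).1 hk')
      simpa [mul_assoc] using this
    · intro hy
      refine ⟨g⁻¹ * y * g, ?_, by show g * (g⁻¹ * y * g) * g⁻¹ = y; group⟩
      refine mem_normalizer_of_invariant fun k hk => (hmemS _).2 ?_
      have := (Subgroup.mem_normalizer_iff.1 hy _).1 ((hmemS k).1 hk)
      simpa [mul_assoc] using this
  obtain ⟨hc, hmax⟩ := hs.normalizer_small hM (ne_bot hs hM)
  obtain ⟨hc', hmax'⟩ := hs.normalizer_small hM' (ne_bot hs hM')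
  have hcN : Nat.card (Subgroup.normalizer (M' : Set G)) = Nat.card (Subgroup.normalizer (M : Set G)) := by
    rw [← hmapN, Subgroup.card_map_of_injective (MulAut.conj g).injective]
  have hm := hM.1.card_mod hs.sc
  have hm' := hM'.1.card_mod hs.sc
  have hcard : Nat.card M' = Nat.card M := by
    rcases hc with ⟨e, -⟩ | ⟨e, -⟩ <;> rcases hc' with ⟨e', -⟩ | ⟨e', -⟩ <;>
      (rw [e, e'] at hcN; omega)
  refine ⟨?_, hcard⟩
  set M₂ := M.map (MulAut.conj g).toMonoidHom
  have hM₂le : M₂ ≤ Subgroup.normalizer (M' : Set G) := hmapN ▸ Subgroup.map_mono Subgroup.le_normalizer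
  have hM₂c : Nat.card M₂ = Nat.card M := Subgroup.card_map_of_injective (MulAut.conj g).injective
  have hM₂inv : Inv3 x M₂ := by
    refine ⟨fun k hk => ?_, hM₂c ▸ hM.1.cop⟩
    have hx' : g⁻¹ * x * g ∈ Subgroup.normalizer (M : Set G) := by
      have hx0 := x_mem_normalizer hM'.1
      rw [← hmapN] at hx0
      obtain ⟨z, hz, he⟩ := hx0
      have he' : g * z * g⁻¹ = x := he
      have : z = g⁻¹ * x * g := by
        conv_rhs => rw [← he']
        group
      exact this ▸ hz
    obtain ⟨m, hm, rfl⟩ := hk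
    refine ⟨g⁻¹ * x * g * m * (g⁻¹ * x * g)⁻¹, (Subgroup.mem_normalizer_iff.1 hx' m).1 hm, ?_⟩
    show g * (g⁻¹ * x * g * m * (g⁻¹ * x * g)⁻¹) * g⁻¹ = x * (g * m * g⁻¹) * x⁻¹
    group
  have heq : M₂ = M' := Subgroup.eq_of_le_of_card_ge (hmax' M₂ hM₂le hM₂inv) (by rw [hM₂c, hcard])
  rw [← heq]
  exact hs.conj_cases hM (ne_bot hs hM) hM₂inv

theorem index_normalizer_mul (hs : Setup x i) {M : Subgroup G} (hM : MaxI x M) :
    (i ∉ Subgroup.normalizer (M : Set G) ∧
        Nat.card G = 3 * Nat.card M * (Subgroup.normalizer (M : Set G)).index) ∨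
      (i ∈ Subgroup.normalizer (M : Set G) ∧
        Nat.card G = 6 * Nat.card M * (Subgroup.normalizer (M : Set G)).index) := by
  obtain ⟨h | h, -⟩ := hs.normalizer_small hM (ne_bot hs hM)
  · exact Or.inl ⟨h.2, by rw [← h.1]; exact (Subgroup.card_mul_index _).symm⟩
  · exact Or.inr ⟨h.2, by rw [← h.1]; exact (Subgroup.card_mul_index _).symm⟩

end Cfsg.Agent.SelfCentThreeClasses
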