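import Mathlib
import Cfsg.Agent.Lib.CharBasicOrth
import Cfsg.Agent.Lib.PGroupsBasic

/-!
A 2-group has at most two classes of self-centralising four-groups.
-/

set_option autoImplicit false

namespace Cfsg.Agent.SelfCentThreeFour

open scoped commutatorElement

variable {P : Type*} [Group P] [Finite P]

/-- Two of three self-centralising four-groups are conjugate. -/
theorem exists_conj (hP : IsPGroup 2 P) (h8 : 8 ≤ Nat.card P) (V : Fin 3 → Subgroup P)
    (h4 : ∀ j, Nat.card (V j) = 4) (h2 : ∀ j, ∀ v ∈ V j, v * v = 1)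
    (hC : ∀ j, Subgroup.centralizer (V j : Set P) = V j) :
    ∃ j k, j ≠ k ∧ ∃ g : P, (V j).map (MulAut.conj g).toMonoidHom = V k := by
  classical
  haveI := Fintype.ofFinite P
  haveI : Fact (Nat.Prime 2) := ⟨Nat.prime_two⟩
  haveI : Nontrivial P := Finite.one_lt_card_iff_nontrivial.1 (by omega)
  haveI := hP.center_nontrivial
  have hZV : ∀ j, Subgroup.center P ≤ V j := fun j => (hC j) ▸ Subgroup.center_le_centralizer _
  have hnotop : ∀ j, V j ≠ ⊤ := fun j e => by
    have := h4 j
    rw [e, Subgroup.card_top] at this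
    omega
  -- a non-central element determines the four-group
  have ht : ∀ j, ∃ t ∈ V j, t ∉ Subgroup.center P ∧ ∀ g, Commute g t → g ∈ V j := by
    intro j
    obtain ⟨t, htV, htZ⟩ : ∃ t ∈ V j, t ∉ Subgroup.center P := by
      by_contra hcon
      push Not at hcon
      refine hnotop j ?_
      rw [← hC j, Subgroup.eq_top_iff']
      exact fun g => Subgroup.mem_centralizer_iff.2 fun v hv => (Subgroup.mem_center_iff.1 (hcon v hv) g).symm
    refine ⟨t, htV, htZ, fun g hg => ?_⟩
    rw [← hC j, Subgroup.mem_centralizer_iff]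
    intro v hv
    -- `V j` is generated by the centre and `t`
    have hK : V j ≤ Subgroup.center P ⊔ Subgroup.zpowers t := by
      have hle : Subgroup.center P ⊔ Subgroup.zpowers t ≤ V j := sup_le (hZV j) (Subgroup.zpowers_le.2 htV)
      have h1 : 2 ≤ Nat.card (Subgroup.center P) := Finite.one_lt_card
      obtain ⟨r, hr⟩ := Subgroup.card_dvd_of_le (le_sup_left : Subgroup.center P ≤ Subgroup.center P ⊔ Subgroup.zpowers t)
      obtain ⟨r', hr'⟩ := Subgroup.card_dvd_of_le hle
      refine (Subgroup.eq_of_le_of_card_ge hle ?_).ge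
      have hne : r ≠ 1 := fun e => htZ (by
        have heq := Subgroup.eq_of_le_of_card_ge (le_sup_left : Subgroup.center P ≤
          Subgroup.center P ⊔ Subgroup.zpowers t) (by rw [hr, e, mul_one])
        rw [heq]
        exact Subgroup.mem_sup_right (Subgroup.mem_zpowers t))
      have hpos : 0 < Nat.card ↥(Subgroup.center P ⊔ Subgroup.zpowers t) := Nat.card_pos
      rw [hr] at hpos
      rw [h4 j, hr]
      have : 2 ≤ r := by
        rcases r with _ | _ | r <;> simp_all
      calc 4 = 2 * 2 := rfl
        _ ≤ _ := Nat.mul_le_mul h1 this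
    have hv' := hK hv
    have hsup : Subgroup.center P ⊔ Subgroup.zpowers t ≤ Subgroup.centralizer ({g} : Set P) := by
      refine sup_le (Subgroup.center_le_centralizer _) (Subgroup.zpowers_le.2 ?_)
      exact Subgroup.mem_centralizer_singleton_iff.2 hg.symm.eq
    exact Subgroup.mem_centralizer_singleton_iff.1 (hsup hv')
  choose t htV htZ htC using ht
  set D := commutator P with hD
  have hncomm : ¬ IsMulCommutative P := fun h => hnotop 0 (by
    rw [← hC 0, Subgroup.eq_top_iff']
    exact fun g => Subgroup.mem_centralizer_iff.2 fun v _ => h.is_comm.comm v g)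
  have hcl : ∀ j, Nat.card {g : P // IsConj (t j) g} * 4 = Nat.card P := by
    intro j
    rw [← CharBasicOrth.card_conj_mul_card_centralizer (t j), ← h4 j]
    congr 2
    refine congrArg (fun H : Subgroup P => ↥H) (le_antisymm ?_ ?_)
    · intro g hg
      rw [Subgroup.mem_centralizer_singleton_iff]
      exact (Subgroup.mem_centralizer_iff.1 ((hC j).ge hg) (t j) (htV j)).symm
    · exact fun g hg => htC j g (Subgroup.mem_centralizer_singleton_iff.1 hg)
  have hsub : ∀ j g, IsConj (t j) g → (t j)⁻¹ * g ∈ D := by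
    intro j g hg
    obtain ⟨c, rfl⟩ := isConj_iff.1 hg
    have e : (t j)⁻¹ * (c * t j * c⁻¹) = ⁅(t j)⁻¹, c⁆ := by
      rw [commutatorElement_def, inv_inv]; group
    rw [e, hD, commutator_def]
    exact Subgroup.commutator_mem_commutator (Subgroup.mem_top _) (Subgroup.mem_top _)
  let emb : ∀ j, {g : P // IsConj (t j) g} → D := fun j g => ⟨(t j)⁻¹ * g.1, hsub j _ g.2⟩
  have hemb : ∀ j, Function.Injective (emb j) := fun j a b e =>
    Subtype.ext (mul_left_cancel (congrArg Subtype.val e))
  have hmul := D.card_mul_index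
  have hidx : D.index = 4 := by
    have h1 : Nat.card P ≤ Nat.card D * 4 := by
      rw [← hcl 0]
      exact Nat.mul_le_mul_right _ (Nat.card_le_card_of_injective _ (hemb 0))
    have hle : D.index ≤ 4 := by
      rw [← hmul] at h1
      exact Nat.le_of_mul_le_mul_left h1 Nat.card_pos
    obtain ⟨k, hk⟩ := hP.index D
    have hk2 : 3 ≤ D.index := by
      by_contra hk2
      apply hncomm
      obtain ⟨a, ha⟩ : ∃ a : P, Subgroup.zpowers a ⊔ D = ⊤ := by
        by_cases hDt : D = ⊤
        · exact ⟨1, by rw [hDt]; simp⟩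
        obtain ⟨a, ha⟩ : ∃ a : P, a ∉ D := by
          by_contra hall; push Not at hall; exact hDt ((Subgroup.eq_top_iff' D).2 hall)
        refine ⟨a, ?_⟩
        obtain ⟨r, hr⟩ := Subgroup.card_dvd_of_le (le_sup_right : D ≤ Subgroup.zpowers a ⊔ D)
        have hr1 : r ≠ 1 := fun e => ha (by
          have heq := Subgroup.eq_of_le_of_card_ge (le_sup_right : D ≤ Subgroup.zpowers a ⊔ D)
            (by rw [hr, e, mul_one])
          rw [heq]
          exact Subgroup.mem_sup_left (Subgroup.mem_zpowers a))
        refine Subgroup.eq_top_of_le_card _ ?_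
        have hpos : 0 < Nat.card ↥(Subgroup.zpowers a ⊔ D) := Nat.card_pos
        rw [hr] at hpos
        rw [hr, ← hmul]
        have : 2 ≤ r := by rcases r with _ | _ | r <;> simp_all
        exact Nat.mul_le_mul_left _ (by omega)
      have hfr : D ≤ frattini P := PGroupsBasic.commutator_le_frattini hP
      have htop : Subgroup.zpowers a = ⊤ :=
        frattini_nongenerating (top_le_iff.1 (ha ▸ sup_le_sup_left hfr _))
      haveI : IsCyclic P := isCyclic_iff_exists_zpowers_eq_top.2 ⟨a, htop⟩
      exact IsCyclic.isMulCommutative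
    rcases Nat.lt_or_ge k 2 with h | h
    · have : (2 : ℕ) ^ k ≤ 2 ^ 1 := Nat.pow_le_pow_right (by norm_num) (by omega)
      omega
    · have : (2 : ℕ) ^ 2 ≤ 2 ^ k := Nat.pow_le_pow_right (by norm_num) h
      omega
  have hfull : ∀ j g, (t j)⁻¹ * g ∈ D → IsConj (t j) g := by
    intro j g hg
    have hcard : Nat.card {g : P // IsConj (t j) g} = Nat.card D := by
      have h := hcl j
      rw [← hmul, hidx] at h
      omega
    obtain ⟨⟨b, hb⟩, e⟩ := ((Nat.bijective_iff_injective_and_card _).2 ⟨hemb j, hcard⟩).2 ⟨_, hg⟩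
    have : b = g := mul_left_cancel (congrArg Subtype.val e)
    exact this ▸ hb
  by_contra hcon
  push Not at hcon
  haveI : D.Normal := by rw [hD]; infer_instance
  let π := QuotientGroup.mk' D
  have hinj : Function.Injective fun j => π (t j) := by
    intro j k e
    by_contra hjk
    obtain ⟨c, hc⟩ := isConj_iff.1 (hfull j (t k) (QuotientGroup.eq.1 e))
    refine hcon j k hjk c (Subgroup.eq_of_le_of_card_ge ?_ ?_)
    · rintro _ ⟨v, hv, rfl⟩
      refine htC k _ ?_
      have hcv : Commute v (t j) := Subgroup.mem_centralizer_iff.1 ((hC j).ge hv) (t j) (htV j) |>.symm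
      have := hcv.map (MulAut.conj c).toMonoidHom
      rw [← hc]
      exact this
    · rw [Subgroup.card_map_of_injective (MulAut.conj c).injective, h4, h4]
  have hone : ∀ j, π (t j) ≠ 1 := by
    intro j e
    have h1 : t j ∈ D := (QuotientGroup.eq_one_iff _).1 e
    have h1' := hfull j 1 (by simpa using D.inv_mem h1)
    have ht1 := isConj_one_left.1 h1'
    exact htZ j (ht1.symm ▸ Subgroup.one_mem _)
  have hQ : ∀ q : P ⧸ D, q = 1 ∨ ∃ j, π (t j) = q := by
    intro q
    by_contra hq
    push Not at hq
    let s : Fin 5 → P ⧸ D := ![1, π (t 0), π (t 1), π (t 2), q]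
    have hs : Function.Injective s := by
      intro a b e
      fin_cases a <;> fin_cases b <;>
        simp_all [s, hinj.eq_iff, (hone 0).symm, (hone 1).symm, (hone 2).symm, hq.1.symm, (hq.2 0).symm,
          (hq.2 1).symm, (hq.2 2).symm]
    have := Nat.card_le_card_of_injective s hs
    rw [← Subgroup.index_eq_card, hidx] at this
    simp at this
  have hinv : ∀ g : P, g ∉ D → g * g = 1 := by
    intro g hg
    rcases hQ (π g) with h | ⟨j, hj⟩
    · exact absurd ((QuotientGroup.eq_one_iff g).1 h) hg
    · obtain ⟨c, hc⟩ := isConj_iff.1 (hfull j g (QuotientGroup.eq.1 hj))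
      rw [← hc, show c * t j * c⁻¹ * (c * t j * c⁻¹) = c * (t j * t j) * c⁻¹ by group, h2 j _ (htV j)]
      group
  have hcomm : ∀ g h : P, g ∉ D → h ∉ D → π g ≠ π h → Commute g h := by
    intro g h hg hh hne
    have hgh : g * h ∉ D := by
      intro hm
      apply hne
      have e1 : π g * π h = 1 := (map_mul π g h).symm.trans ((QuotientGroup.eq_one_iff _).2 hm)
      have e2 : π h * π h = 1 := by rw [← map_mul, hinv h hh, map_one]
      exact mul_right_cancel (e1.trans e2.symm)
    show g * h = h * g
    calc g * h = (g * h)⁻¹ := (inv_eq_of_mul_eq_one_right (hinv _ hgh)).symm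
      _ = h * g := by
        rw [mul_inv_rev, inv_eq_of_mul_eq_one_right (hinv g hg), inv_eq_of_mul_eq_one_right (hinv h hh)]
  -- every element outside `D` is central
  apply htZ 0
  rw [Subgroup.mem_center_iff]
  intro g
  have h0 : t 0 ∉ D := fun h => hone 0 ((QuotientGroup.eq_one_iff _).2 h)
  have h1 : t 1 ∉ D := fun h => hone 1 ((QuotientGroup.eq_one_iff _).2 h)
  have h10 : π (t 1) ≠ π (t 0) := fun e => by simpa using hinj e
  have c01 := hcomm _ _ h0 h1 h10.symm
  have key : ∀ g, g ∉ D → π g ≠ π (t 0) → Commute g (t 0) := fun g hg hne => hcomm g _ hg h0 hne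
  show Commute g (t 0)
  by_cases hg : g ∈ D
  · have hg1 : g * t 1 ∉ D := fun h => h1 ((D.mul_mem_cancel_left hg).1 h)
    have hp : π (g * t 1) = π (t 1) := by
      rw [map_mul, show π g = 1 from (QuotientGroup.eq_one_iff g).2 hg, one_mul]
    have := (key _ hg1 (hp ▸ h10)).mul_left c01.symm.inv_left
    simpa using this
  by_cases hg0 : π g = π (t 0)
  · have hg1 : π (g * t 1) = π (t 0) * π (t 1) := by rw [map_mul, hg0]
    have hnd : g * t 1 ∉ D := fun h => h10 (by
      have e := (QuotientGroup.eq_one_iff _).2 h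
      rw [show (QuotientGroup.mk (g * t 1) : P ⧸ D) = π (t 0) * π (t 1) from hg1] at e
      have e2 : π (t 0) * π (t 0) = 1 := by rw [← map_mul, hinv _ h0, map_one]
      exact mul_left_cancel (e.trans e2.symm))
    have := (key _ hnd (by rw [hg1]; exact fun e => hone 1 (mul_eq_left.1 e))).mul_left c01.symm.inv_left
    simpa using this
  · exact key g hg hg0

end Cfsg.Agent.SelfCentThreeFour
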