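import Mathlib
import Cfsg.Agent.Lib.SelfCentThreeClasses
import Cfsg.Agent.Lib.SelfCentThreeArith
import Cfsg.Agent.Lib.SelfCentThreeFour
import Cfsg.Agent.Lib.PTerminalDiag
import Cfsg.Agent.Lib.HallNilpotentConj

/-!
A simple group with a self-centralising element of order three has order sixty or 168.
-/

set_option autoImplicit false

namespace Cfsg.Agent.SelfCentThreeSimple

open SelfCentThreeBase SelfCentThreeLocal SelfCentThreeClasses

open scoped Pointwise

variable {G : Type*} [Group G] [Finite G] {x i : G}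

theorem iinv (hs : Setup x i) {M : Subgroup G} (hi : i ∈ Subgroup.normalizer (M : Set G)) :
    ∀ k ∈ M, i * k * i ∈ M := fun k hk => by
  have := (Subgroup.mem_normalizer_iff.1 hi k).1 hk
  rwa [hs.inv_i] at this

theorem i_mem (hs : Setup x i) {M : Subgroup G} (h : ∀ k ∈ M, i * k * i ∈ M) :
    i ∈ Subgroup.normalizer (M : Set G) :=
  mem_normalizer_of_invariant (by rw [hs.inv_i]; exact h)

/-- A normalised maximal invariant subgroup meets the other normalised invariant ones trivially. -/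
theorem le_or_inf_eq_bot (hs : Setup x i) {M L : Subgroup G} (hM : MaxI x M)
    (hiM : ∀ k ∈ M, i * k * i ∈ M) (hL : Inv3 x L) (hiL : ∀ k ∈ L, i * k * i ∈ L) :
    L ≤ M ∨ M ⊓ L = ⊥ := by
  by_contra hcon
  push Not at hcon
  let P : Subgroup G → Prop := fun D =>
    D ≠ ⊥ ∧ Inv3 x D ∧ (∀ k ∈ D, i * k * i ∈ D) ∧
      ∃ M L : Subgroup G, MaxI x M ∧ (∀ k ∈ M, i * k * i ∈ M) ∧ Inv3 x L ∧
        (∀ k ∈ L, i * k * i ∈ L) ∧ ¬ L ≤ M ∧ D ≤ M ⊓ L
  have hinv : ∀ {A B : Subgroup G}, Inv3 x A → (∀ k ∈ B, x * k * x⁻¹ ∈ B) → Inv3 x (A ⊓ B) :=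
    fun {A B} hA hB => inv3_of_le hA inf_le_left fun k hk => ⟨hA.inv k hk.1, hB k hk.2⟩
  have h0 : P (M ⊓ L) := ⟨hcon.2, hinv hM.1 hL.inv, fun k hk => ⟨hiM k hk.1, hiL k hk.2⟩,
    M, L, hM, hiM, hL, hiL, hcon.1, le_rfl⟩
  obtain ⟨D, -, hD, hmax⟩ := Finite.exists_le_maximal (p := P) h0
  obtain ⟨hD1, hDinv, hiD, A, B, hA, hiA, hB, hiB, hBA, hDAB⟩ := hD
  set H := Subgroup.normalizer (D : Set G) with hH
  have hiH : i ∈ H := i_mem hs hiD
  have hxH : x ∈ H := x_mem_normalizer hDinv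
  have hDH : D ≤ H := Subgroup.le_normalizer
  have hn := conj_mem_of_le_normalizer (le_refl H)
  haveI := hA.1.isNilpotent hs.sc
  haveI := hB.isNilpotent hs.sc
  have hDA : D < A := lt_of_le_of_ne (le_inf_iff.1 hDAB).1 fun e => by
    subst e
    exact hBA (hA.2 B hB (le_inf_iff.1 hDAB).2).le
  have hDB : D < B := lt_of_le_of_ne (le_inf_iff.1 hDAB).2 fun e => by
    subst e
    exact hBA (le_inf_iff.1 hDAB).1
  have hK := lt_inf_normalizer hDA
  have hK' := lt_inf_normalizer hDB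
  have hiK : ∀ k ∈ A ⊓ H, i * k * i ∈ A ⊓ H := fun k hk =>
    ⟨hiA k hk.1, by
      have := H.mul_mem (H.mul_mem hiH hk.2) hiH
      exact this⟩
  have hiK' : ∀ k ∈ B ⊓ H, i * k * i ∈ B ⊓ H := fun k hk =>
    ⟨hiB k hk.1, H.mul_mem (H.mul_mem hiH hk.2) hiH⟩
  have hxconj : ∀ k ∈ H, x * k * x⁻¹ ∈ H := fun k hk => H.mul_mem (H.mul_mem hxH hk) (H.inv_mem hxH)
  -- everything invariant in the normaliser lies in one invariant subgroup
  obtain ⟨N, hN, hiN, hall⟩ : ∃ N : Subgroup G, Inv3 x N ∧ (∀ k ∈ N, i * k * i ∈ N) ∧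
      ∀ K, K ≤ H → Inv3 x K → (∀ k ∈ K, i * k * i ∈ K) → K ≤ N := by
    rcases hs.sub H (hs.normalizer_ne_top hDinv hD1) hxH with hS | hT | hL'
    · obtain ⟨N, hNH, hNn, hN, hall, -⟩ := hS
      refine ⟨N, hN, fun k hk => ?_, fun K h1 h2 _ => hall K h1 h2⟩
      have := hNn i hiH k hk
      rwa [hs.inv_i] at this
    · obtain ⟨N, T, hNT, hTH, hNn, -, hT, hcard, -, hsimp⟩ := hT
      have hNH : N ≤ H := hNT.le.trans hTH
      have hN : Inv3 x N := inv3_of_le hT hNT.le fun k hk => hNn x hxH k hk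
      have hiN : ∀ k ∈ N, i * k * i ∈ N := fun k hk => by
        have := hNn i hiH k hk
        rwa [hs.inv_i] at this
      refine ⟨N, hN, hiN, fun K hKH hKi hiK => ?_⟩
      have hKN : K ≤ Subgroup.normalizer (N : Set G) := fun k hk =>
        mem_normalizer_of_invariant (hNn k (hKH hk))
      by_contra hne
      have hiS : ∀ k ∈ K ⊔ N, i * k * i ∈ K ⊔ N := by
        intro g hg
        have e : ((K ⊔ N : Subgroup G) : Set G) = (K : Set G) * (N : Set G) :=
          Subgroup.coe_mul_of_left_le_normalizer_right K N hKN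
        rw [← SetLike.mem_coe, e] at hg ⊢
        obtain ⟨k, hk, n, hn, rfl⟩ := hg
        refine ⟨_, hiK k hk, _, hiN n hn, ?_⟩
        show i * k * i * (i * n * i) = i * (k * n) * i
        calc i * k * i * (i * n * i) = i * k * (i * i) * n * i := by group
          _ = _ := by rw [hs.hi]; group
      exact (hs.typeA5_sub hcard hN hNH hsimp (inv3_sup hKi hN hKN) le_sup_right
        (sup_le hKH hNH) (fun e => hne (le_sup_left.trans e.le)) hxH).2 hiS
    · exact absurd hL' (hs.not_typeL hDinv hD1 hDH hxH hn)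
  have hne : ∀ K : Subgroup G, D < K → K ≠ ⊥ := fun K h e => not_lt_bot (e ▸ h)
  have hKN := hall _ inf_le_right (hinv hA.1 hxconj) hiK
  have hKN' := hall _ inf_le_right (hinv hB hxconj) hiK'
  by_cases hNA : N ≤ A
  · exact hK'.not_ge (hmax ⟨hne _ hK', hinv hB hxconj, hiK', A, B, hA, hiA, hB, hiB, hBA,
      le_inf (hKN'.trans hNA) inf_le_left⟩ hK'.le)
  · exact hK.not_ge (hmax ⟨hne _ hK, hinv hA.1 hxconj, hiK, A, N, hA, hiA, hN, hiN, hNA,
      le_inf inf_le_left hKN⟩ hK.le)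

/-- An even invariant subgroup has a central involution. -/
theorem central_involutions (hs : Setup x i) {M : Subgroup G} (hM : Inv3 x M)
    (h2 : 2 ∣ Nat.card M) :
    ∃ W : Subgroup G, W ≤ M ∧ Inv3 x W ∧ W ≠ ⊥ ∧
      (∀ g : G, (∀ m ∈ M, g * m * g⁻¹ ∈ M) → ∀ w ∈ W, g * w * g⁻¹ ∈ W) ∧
      ∀ w ∈ W, w * w = 1 ∧ ∀ m ∈ M, Commute w m := by
  haveI : Fact (Nat.Prime 2) := ⟨Nat.prime_two⟩
  let W : Subgroup G :=
    { carrier := {w | w ∈ M ∧ w * w = 1 ∧ ∀ m ∈ M, Commute w m}
      one_mem' := ⟨M.one_mem, one_mul 1, fun m _ => Commute.one_left m⟩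
      mul_mem' := fun {a b} ha hb => ⟨M.mul_mem ha.1 hb.1, by
          calc a * b * (a * b) = a * (b * a) * b := by group
            _ = a * (a * b) * b := by rw [(hb.2.2 a ha.1).eq]
            _ = (a * a) * (b * b) := by group
            _ = 1 := by rw [ha.2.1, hb.2.1, one_mul],
        fun m hm => (ha.2.2 m hm).mul_left (hb.2.2 m hm)⟩
      inv_mem' := fun {a} ha => ⟨M.inv_mem ha.1, by rw [← mul_inv_rev, ha.2.1, inv_one],
        fun m hm => (ha.2.2 m hm).inv_left⟩ }
  have hinv : ∀ g : G, (∀ m ∈ M, g * m * g⁻¹ ∈ M) → ∀ w ∈ W, g * w * g⁻¹ ∈ W := by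
    intro g hg w hw
    refine ⟨hg w hw.1, by rw [show g * w * g⁻¹ * (g * w * g⁻¹) = g * (w * w) * g⁻¹ by group, hw.2.1]; group,
      fun m hm => ?_⟩
    obtain ⟨m', hm', rfl⟩ : ∃ m' ∈ M, m = g * m' * g⁻¹ :=
      ⟨g⁻¹ * m * g, ((Subgroup.mem_normalizer_iff.1 (mem_normalizer_of_invariant hg)) _).2
        (by rw [show g * (g⁻¹ * m * g) * g⁻¹ = m by group]; exact hm), by group⟩
    exact (hw.2.2 m' hm').map (MulAut.conj g).toMonoidHom
  refine ⟨W, fun w hw => hw.1, inv3_of_le hM (fun w hw => hw.1) (hinv x hM.inv), ?_, hinv,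
    fun w hw => hw.2⟩
  haveI := hM.isNilpotent hs.sc
  obtain ⟨A, B, hA, hAB, hBA, hBc, hcard, -⟩ := HallNilpotentConj.exists_split M 2
  have hA2 : 2 ∣ Nat.card A := by
    rw [← hcard] at h2
    exact (Nat.Coprime.dvd_of_dvd_mul_right hBc.symm h2)
  haveI : Nontrivial A := Finite.one_lt_card_iff_nontrivial.1 (Nat.le_of_dvd Nat.card_pos hA2)
  haveI := hA.center_nontrivial
  have hZ : 2 ∣ Nat.card (Subgroup.center A) := by
    obtain ⟨k, hk⟩ := IsPGroup.iff_card.1 (hA.to_subgroup (Subgroup.center A))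
    have h1 : 1 < Nat.card (Subgroup.center A) := Finite.one_lt_card
    rw [hk] at h1 ⊢
    exact dvd_pow_self 2 (fun e => by rw [e, pow_zero] at h1; exact lt_irrefl _ h1)
  obtain ⟨z, hz⟩ := exists_prime_orderOf_dvd_card' 2 hZ
  set z' : G := ((z : A) : G) with hz'
  have hoz : orderOf z' = 2 := by rw [hz', Subgroup.orderOf_coe, Subgroup.orderOf_coe, hz]
  intro hW
  have h1 : z' ∈ W := by
    refine ⟨hAB ▸ Subgroup.mem_sup_left (z : A).2, by rw [← pow_two, ← hoz, pow_orderOf_eq_one],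
      fun m hm => ?_⟩
    have hsup : A ⊔ B ≤ Subgroup.centralizer ({z'} : Set G) := sup_le
      (fun a ha => Subgroup.mem_centralizer_singleton_iff.2
        (congrArg Subtype.val (Subgroup.mem_center_iff.1 z.2 ⟨a, ha⟩)))
      (fun b hb => Subgroup.mem_centralizer_singleton_iff.2 (hBA hb z' (z : A).2).symm)
    exact (Subgroup.mem_centralizer_singleton_iff.1 (hsup (hAB ▸ hm))).symm
  rw [hW] at h1
  rw [Subgroup.mem_bot.1 h1, orderOf_one] at hoz
  omega

theorem centralizer_card_eq (hs : Setup x i) {z : G} (hz : z * z = 1) (hz1 : z ≠ 1) :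
    Nat.card (Subgroup.centralizer ({z} : Set G)) = Nat.card (Subgroup.centralizer ({i} : Set G)) := by
  haveI := hs.simple
  have hc := SelfCentThreeChar.isConj_involution hs.sc hs.hi hs.hix hz hz1
  have h1 := CharBasicOrth.card_conj_mul_card_centralizer z
  have h2 := CharBasicOrth.card_conj_mul_card_centralizer i
  have e : Nat.card {g : G // IsConj z g} = Nat.card {g : G // IsConj i g} :=
    Nat.card_congr (Equiv.subtypeEquivRight fun g => ⟨fun h => hc.trans h, fun h => hc.symm.trans h⟩)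
  rw [e, ← h2] at h1
  exact Nat.eq_of_mul_eq_mul_left (Nat.pos_of_mul_pos_right (h2.symm ▸ Nat.card_pos)) h1

/-- The order of an even invariant subgroup divides the order of the centraliser of an involution. -/
theorem card_dvd_centralizer (hs : Setup x i) {M : Subgroup G} (hM : MaxI x M)
    (h2 : 2 ∣ Nat.card M) :
    Nat.card M ∣ Nat.card (Subgroup.centralizer ({i} : Set G)) ∧
      (i ∈ Subgroup.normalizer (M : Set G) →
        2 * Nat.card M ∣ Nat.card (Subgroup.centralizer ({i} : Set G))) := by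
  obtain ⟨W, hWM, hW, hW1, hWn, hWc⟩ := central_involutions hs hM.1 h2
  constructor
  · obtain ⟨z, hz, hz1⟩ := (Subgroup.ne_bot_iff_exists_ne_one.1 hW1).elim
      (fun z hz => (⟨z.1, z.2, fun e => hz (Subtype.ext e)⟩ : ∃ z ∈ W, z ≠ 1))
    rw [← centralizer_card_eq hs (hWc z hz).1 hz1]
    exact Subgroup.card_dvd_of_le fun m hm =>
      Subgroup.mem_centralizer_singleton_iff.2 ((hWc z hz).2 m hm).symm.eq
  · intro hiN
    have hiW : ∀ k ∈ W, i * k * i ∈ W := fun k hk => by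
      have := hWn i (fun m hm => (Subgroup.mem_normalizer_iff.1 hiN m).1 hm) k hk
      rwa [hs.inv_i] at this
    have hsq := card_centralizer_sq hs.sc hs.hi hs.hix hW hiW
    have hne : W ⊓ Subgroup.centralizer ({i} : Set G) ≠ ⊥ := by
      intro e
      rw [e, Subgroup.card_bot, one_pow] at hsq
      exact hW1 (Subgroup.card_eq_one.1 hsq.symm)
    obtain ⟨⟨z, hz, hzi⟩, hz1⟩ := Subgroup.ne_bot_iff_exists_ne_one.1 hne
    have hz1' : z ≠ 1 := fun e => hz1 (Subtype.ext e)
    rw [← centralizer_card_eq hs (hWc z hz).1 hz1']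
    set C := Subgroup.centralizer ({z} : Set G) ⊓ Subgroup.normalizer (M : Set G) with hC
    have hMC : M ≤ C := le_inf (fun m hm =>
      Subgroup.mem_centralizer_singleton_iff.2 ((hWc z hz).2 m hm).symm.eq) Subgroup.le_normalizer
    have hiC : i ∈ C := ⟨Subgroup.mem_centralizer_singleton_iff.2
      (Subgroup.mem_centralizer_singleton_iff.1 hzi).symm, hiN⟩
    have h := mul_prime_dvd Nat.prime_two hMC hiC (conj_mem_of_le_normalizer inf_le_right)
      (by rw [pow_two]; exact hs.hi) (hs.i_not_mem hM.1)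
    rw [mul_comm]
    exact h.trans (Subgroup.card_dvd_of_le inf_le_left)

/-- The order, and the index of the normaliser of a normalised class. -/
theorem forty_two_mul_le (hs : Setup x i) {M : Subgroup G} (hM : MaxI x M)
    (hiN : i ∈ Subgroup.normalizer (M : Set G)) : 42 * Nat.card M ≤ Nat.card G := by
  haveI := hs.simple
  rcases index_normalizer_mul hs hM with h | h
  · exact absurd hiN h.1
  · have h5 := SimpleOrder.five_le_index hs.noncomm _ (hs.normalizer_ne_top hM.1 (ne_bot hs hM))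
    obtain ⟨r, hr, he⟩ := (hs.subgroup_mod (Subgroup.mem_top x)).1 (Subgroup.mem_top i)
    rw [Subgroup.card_top, h.2] at he
    have hm := hM.1.card_mod hs.sc
    set k := (Subgroup.normalizer (M : Set G)).index
    have hr' : r = Nat.card M * k := by
      have : 6 * r = 6 * (Nat.card M * k) := by rw [← he]; ring
      omega
    rw [hr', Nat.mul_mod, hm, one_mul, Nat.mod_mod] at hr
    rw [h.2]
    have h7 : 7 ≤ k := by omega
    calc 42 * Nat.card M = 6 * Nat.card M * 7 := by ring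
      _ ≤ 6 * Nat.card M * k := Nat.mul_le_mul_left _ h7

/-- An invariant group of order sixteen is abelian. -/
theorem comm_sixteen (hx : SC3 x) {M : Subgroup G} (hM : Inv3 x M) (h16 : Nat.card M = 16) :
    ∀ a ∈ M, ∀ b ∈ M, Commute a b := by
  haveI : Fact (Nat.Prime 2) := ⟨Nat.prime_two⟩
  have hMp : IsPGroup 2 M := IsPGroup.of_card (n := 4) h16
  haveI : Nontrivial M := Finite.one_lt_card_iff_nontrivial.1 (by omega)
  haveI := hMp.center_nontrivial
  intro a ha b hb
  set Z := (Subgroup.center M).map M.subtype with hZ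
  have hZM : Z ≤ M := Subgroup.map_subtype_le _
  have hZc : ∀ z ∈ Z, ∀ m ∈ M, Commute z m := by
    rintro _ ⟨z, hz, rfl⟩ m hm
    exact (congrArg Subtype.val (Subgroup.mem_center_iff.1 hz ⟨m, hm⟩)).symm
  have hmem : ∀ z ∈ M, (∀ m ∈ M, Commute z m) → z ∈ Z := fun z hz h =>
    ⟨⟨z, hz⟩, Subgroup.mem_center_iff.2 fun m => Subtype.ext (h m m.2).symm.eq, rfl⟩
  by_contra hab
  have haZ : a ∉ Z := fun h => hab (hZc a h b hb)
  set a1 := x * a * x⁻¹ with ha1
  have ha1M : a1 ∈ M := hM.inv a ha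
  have hc : Commute a a1 := hM.commute_conj hx ha
  set A := Subgroup.closure ((Z : Set G) ∪ {a, a1}) with hA
  have hAM : A ≤ M := (Subgroup.closure_le _).2 (Set.union_subset hZM (by
    rintro u (rfl | rfl)
    · exact ha
    · exact ha1M))
  haveI hcomm : IsMulCommutative A := Subgroup.isMulCommutative_closure (by
    rintro u (hu | rfl | rfl) v (hv | rfl | rfl)
    · exact (hZc u hu v (hZM hv)).eq
    · exact (hZc u hu _ ha).eq
    · exact (hZc u hu _ ha1M).eq
    · exact (hZc v hv _ ha).eq.symm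
    · rfl
    · exact hc.eq
    · exact (hZc v hv _ ha1M).eq.symm
    · exact hc.eq.symm
    · rfl)
  have haA : a ∈ A := Subgroup.subset_closure (Or.inr (by simp))
  have ha1A : a1 ∈ A := Subgroup.subset_closure (Or.inr (by simp))
  have hZA : Z ≤ A := fun z hz => Subgroup.subset_closure (Or.inl hz)
  have hAinv : Inv3 x A := by
    refine inv3_of_le hM hAM ?_
    have hle : A ≤ A.comap (MulAut.conj x).toMonoidHom := by
      rw [hA, Subgroup.closure_le]
      rintro u (hu | rfl | rfl)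
      · refine hZA (hmem _ (hM.inv u (hZM hu)) fun m hm => ?_)
        obtain ⟨m', hm', rfl⟩ : ∃ m' ∈ M, m = x * m' * x⁻¹ :=
          ⟨x⁻¹ * m * x⁻¹⁻¹, (hM.inv' hx).inv m hm, by group⟩
        exact (hZc u hu m' hm').map (MulAut.conj x).toMonoidHom
      · exact ha1A
      · show x * (x * a * x⁻¹) * x⁻¹ ∈ A
        have h1 := hM.rel hx ha
        rw [show x * (x * a * x⁻¹) * x⁻¹ = x * x * a * (x * x)⁻¹ by group,
          eq_inv_of_mul_eq_one_right h1]
        exact A.inv_mem (A.mul_mem haA ha1A)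
    exact fun k hk => hle hk
  have hAne : A ≠ M := fun e => hab (by
    have := hcomm.is_comm.comm (⟨a, haA⟩ : A) ⟨b, e ▸ hb⟩
    exact congrArg Subtype.val this)
  have hlt : Z < A := lt_of_le_of_ne hZA fun e => haZ (e ▸ haA)
  have hZinv : Inv3 x Z := inv3_of_le hM hZM fun u hu => hmem _ (hM.inv u (hZM hu)) fun m hm => by
    obtain ⟨m', hm', rfl⟩ : ∃ m' ∈ M, m = x * m' * x⁻¹ :=
      ⟨x⁻¹ * m * x⁻¹⁻¹, (hM.inv' hx).inv m hm, by group⟩
    exact (hZc u hu m' hm').map (MulAut.conj x).toMonoidHom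
  have h1 := hZinv.card_mod hx
  have h2 := hAinv.card_mod hx
  have hlt1 : Nat.card Z < Nat.card A := lt_of_not_ge fun h =>
    hlt.ne (Subgroup.eq_of_le_of_card_ge hlt.le h)
  have hlt2 : Nat.card A < 16 := lt_of_not_ge fun h =>
    hAne (Subgroup.eq_of_le_of_card_ge hAM (h16 ▸ h))
  have hZ1 : 1 < Nat.card Z := by
    rw [hZ, Subgroup.card_map_of_injective M.subtype_injective]
    exact Finite.one_lt_card
  have key : ∀ d ∈ Nat.divisors 16, d % 3 = 1 → d = 1 ∨ d = 4 ∨ d = 16 := by decide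
  have hz4 := key _ (Nat.mem_divisors.2 ⟨h16 ▸ Subgroup.card_dvd_of_le hZM, by norm_num⟩) h1
  have ha4 := key _ (Nat.mem_divisors.2 ⟨h16 ▸ Subgroup.card_dvd_of_le hAM, by norm_num⟩) h2
  omega

/-- A small normalised class is self-centralising. -/
theorem centralizer_eq (hs : Setup x i) {M : Subgroup G} (hM : MaxI x M) (h2 : 2 ∣ Nat.card M)
    (hab : ∀ a ∈ M, ∀ b ∈ M, Commute a b) : Subgroup.centralizer (M : Set G) = M := by
  obtain ⟨W, hWM, hW, hW1, -, hWc⟩ := central_involutions hs hM.1 h2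
  obtain ⟨⟨z, hz⟩, hz1⟩ := Subgroup.ne_bot_iff_exists_ne_one.1 hW1
  refine hM.2 _ ⟨fun g hg => Subgroup.mem_centralizer_iff.2 fun m hm => ?_, fun h3 => ?_⟩
    fun m hm => Subgroup.mem_centralizer_iff.2 fun k hk => (hab k hk m hm).eq
  · obtain ⟨m', hm', rfl⟩ : ∃ m' ∈ M, m = x * m' * x⁻¹ :=
      ⟨x⁻¹ * m * x⁻¹⁻¹, (hM.1.inv' hs.sc).inv m hm, by group⟩
    have := Subgroup.mem_centralizer_iff.1 hg m' hm'
    exact ((show Commute m' g from this).map (MulAut.conj x).toMonoidHom).eq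
  · exact not_three_dvd_centralizer hs (hWc z hz).1 (fun e => hz1 (Subtype.ext e))
      (h3.trans (Subgroup.card_dvd_of_le (Subgroup.centralizer_le (Set.singleton_subset_iff.2 (hWM hz)))))

end Cfsg.Agent.SelfCentThreeSimple
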