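import Mathlib
import Cfsg.Agent.Lib.SelfCentThreeSimple

/-!
Bounds on the classes of maximal invariant subgroups, and the possible orders of a simple group
with a self-centralising element of order three.
-/

set_option autoImplicit false

namespace Cfsg.Agent.SelfCentThreeBound

open SelfCentThreeBase SelfCentThreeLocal SelfCentThreeClasses SelfCentThreeSimple
open scoped Pointwise

variable {G : Type*} [Group G] [Finite G] {x i : G}

/-- A normalised invariant subgroup with the involution. -/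
theorem exists_double (hs : Setup x i) {M : Subgroup G} (hM : Inv3 x M)
    (hiM : ∀ k ∈ M, i * k * i ∈ M) :
    ∃ T : Subgroup G, M ≤ T ∧ i ∈ T ∧ Nat.card T = 2 * Nat.card M ∧
      ∀ g ∈ T, g ∈ M ∨ g * i ∈ M := by
  classical
  have hii : ∀ g, i * (g * i) * i = i * g := fun g => by
    rw [show i * (g * i) * i = i * g * (i * i) by group, hs.hi, mul_one]
  let T : Subgroup G :=
    { carrier := {g | g ∈ M ∨ g * i ∈ M}
      one_mem' := Or.inl M.one_mem
      mul_mem' := fun {g h} hg hh => by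
        rcases hg with hg | hg <;> rcases hh with hh | hh
        · exact Or.inl (M.mul_mem hg hh)
        · exact Or.inr (by rw [mul_assoc]; exact M.mul_mem hg hh)
        · refine Or.inr ?_
          have := M.mul_mem hg (hiM h hh)
          rwa [show g * i * (i * h * i) = g * (i * i) * (h * i) by group, hs.hi, mul_one,
            ← mul_assoc] at this
        · refine Or.inl ?_
          have := M.mul_mem hg (hiM _ hh)
          rwa [hii, show g * i * (i * h) = g * (i * i) * h by group, hs.hi, mul_one] at this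
      inv_mem' := fun {g} hg => by
        rcases hg with hg | hg
        · exact Or.inl (M.inv_mem hg)
        · refine Or.inr ?_
          have := M.inv_mem (hiM _ hg)
          rwa [hii, mul_inv_rev, hs.inv_i] at this }
  have hMT : M ≤ T := fun g hg => Or.inl hg
  have hiT : i ∈ T := Or.inr (by rw [hs.hi]; exact M.one_mem)
  refine ⟨T, hMT, hiT, ?_, fun g hg => hg⟩
  have hle : Nat.card T ≤ 2 * Nat.card M := by
    let f : T → Bool × M := fun g =>
      if h : (g : G) ∈ M then (true, ⟨g, h⟩) else (false, ⟨g * i, g.2.resolve_left h⟩)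
    have hf : Function.Injective f := by
      intro a b e
      simp only [f] at e
      split_ifs at e <;> simp only [Prod.mk.injEq, Subtype.mk.injEq, Bool.true_eq_false,
        Bool.false_eq_true, false_and, true_and] at e
      · exact Subtype.ext e
      · exact Subtype.ext (mul_right_cancel e)
    have := Nat.card_le_card_of_injective f hf
    rwa [Nat.card_prod, Nat.card_eq_fintype_card (α := Bool), Fintype.card_bool] at this
  have hdvd := mul_prime_dvd (g := i) Nat.prime_two hMT hiT (fun l hl k hk => ?_)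
    (by rw [pow_two]; exact hs.hi) (hs.i_not_mem hM)
  · have := Nat.le_of_dvd Nat.card_pos hdvd
    omega
  · rcases (hl : l ∈ M ∨ l * i ∈ M) with hl | hl
    · exact M.mul_mem (M.mul_mem hl hk) (M.inv_mem hl)
    · have := M.mul_mem (M.mul_mem hl (hiM k hk)) (M.inv_mem hl)
      rwa [mul_inv_rev, hs.inv_i, show l * i * (i * k * i) * (i * l⁻¹) = l * (i * i) * k * (i * i) * l⁻¹
        by group, hs.hi, mul_one, mul_one] at this

theorem map_conj_i (hs : Setup x i) {M : Subgroup G} (hiM : ∀ k ∈ M, i * k * i ∈ M) :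
    M.map (MulAut.conj i).toMonoidHom = M := by
  refine Subgroup.eq_of_le_of_card_ge ?_ (Subgroup.card_map_of_injective (MulAut.conj i).injective).ge
  rintro _ ⟨k, hk, rfl⟩
  show i * k * i⁻¹ ∈ M
  rw [hs.inv_i]
  exact hiM k hk

/-- Conjugate normalised classes are equal. -/
theorem eq_of_conj (hs : Setup x i) {M M' : Subgroup G} (hM : MaxI x M)
    (hiM : ∀ k ∈ M, i * k * i ∈ M) (hM' : MaxI x M') {g : G}
    (hg : M.map (MulAut.conj g).toMonoidHom = M') : M' = M := by
  rcases hs.conj_cases hM (ne_bot hs hM) (g := g) (hg ▸ hM'.1) with h | h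
  · exact hg.symm.trans h
  · exact hg.symm.trans (h.trans (map_conj_i hs hiM))

theorem map_centralizer {M : Subgroup G} (hC : Subgroup.centralizer (M : Set G) = M) (g : G) :
    Subgroup.centralizer ((M.map (MulAut.conj g).toMonoidHom : Subgroup G) : Set G) ≤
      M.map (MulAut.conj g).toMonoidHom := by
  intro u hu
  refine ⟨g⁻¹ * u * g, hC.le (Subgroup.mem_centralizer_iff.2 fun m hm => ?_),
    by show g * (g⁻¹ * u * g) * g⁻¹ = u; group⟩
  have h := Subgroup.mem_centralizer_iff.1 hu _ ⟨m, hm, rfl⟩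
  change g * m * g⁻¹ * u = u * (g * m * g⁻¹) at h
  calc m * (g⁻¹ * u * g) = g⁻¹ * (g * m * g⁻¹ * u) * g := by group
    _ = g⁻¹ * u * g * m := by rw [h]; group

theorem exists_conj_le_sylow {p : ℕ} [Fact p.Prime] (P : Sylow p G) {A : Subgroup G} (hA : IsPGroup p A) :
    ∃ g : G, A.map (MulAut.conj g).toMonoidHom ≤ (P : Subgroup G) := by
  obtain ⟨Q, hQ⟩ := hA.exists_le_sylow
  obtain ⟨g, hg⟩ := MulAction.exists_smul_eq G Q P
  refine ⟨g, ?_⟩
  rw [← hg, Sylow.coe_subgroup_smul]
  rintro _ ⟨a, ha, rfl⟩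
  exact ⟨a, hQ ha, rfl⟩

/-- The normalised even classes when there is one of order sixteen. -/
theorem sixteen (hs : Setup x i) {M : Subgroup G} (hM : MaxI x M)
    (hiN : i ∈ Subgroup.normalizer (M : Set G)) (h16 : Nat.card M = 16) {M' : Subgroup G}
    (hM' : MaxI x M') (hiN' : i ∈ Subgroup.normalizer (M' : Set G))
    (h' : Nat.card M' = 4 ∨ Nat.card M' = 16) : M' = M := by
  classical
  haveI : Fact (Nat.Prime 2) := ⟨Nat.prime_two⟩
  have hiM := iinv hs hiN
  have hab := comm_sixteen hs.sc hM.1 h16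
  obtain ⟨T, hMT, hiT, hT, hmem⟩ := exists_double hs hM.1 hiM
  rw [h16] at hT
  set U := M ⊓ Subgroup.centralizer ({i} : Set G) with hU
  have hUc : Nat.card U = 4 := by
    have := card_centralizer_sq hs.sc hs.hi hs.hix hM.1 hiM
    rw [h16] at this
    exact Nat.pow_left_injective (by norm_num : (2 : ℕ) ≠ 0) (this.trans (by norm_num))
  have uniq : ∀ A : Subgroup G, A ≤ T → Nat.card A = 16 →
      (∀ u ∈ A, ∀ v ∈ A, Commute u v) → A = M := by
    intro A hAT hA hAc
    by_contra hne
    obtain ⟨a, haA, haM⟩ : ∃ a ∈ A, a ∉ M := by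
      by_contra hall
      push Not at hall
      exact hne (Subgroup.eq_of_le_of_card_ge hall (by omega))
    have hai := (hmem a (hAT haA)).resolve_left haM
    have hsub : A ⊓ M ≤ U := fun u hu => ⟨hu.2, Subgroup.mem_centralizer_singleton_iff.2 (by
      have h := (hAc u hu.1 a haA).inv_right.mul_right (hab u hu.2 (a * i) hai)
      rw [inv_mul_cancel_left] at h
      exact h.eq)⟩
    let f : A → Bool × ↥(A ⊓ M) := fun g =>
      if h : (g : G) ∈ M then (true, ⟨g, g.2, h⟩) else
        (false, ⟨g * a⁻¹, A.mul_mem g.2 (A.inv_mem haA), by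
          have := M.mul_mem ((hmem g (hAT g.2)).resolve_left h) (M.inv_mem hai)
          rwa [mul_inv_rev, ← mul_assoc, mul_assoc (g : G), mul_inv_cancel, mul_one] at this⟩)
    have hf : Function.Injective f := by
      intro u v e
      simp only [f] at e
      split_ifs at e <;> simp only [Prod.mk.injEq, Subtype.mk.injEq, Bool.true_eq_false,
        Bool.false_eq_true, false_and, true_and] at e
      · exact Subtype.ext (congrArg (fun z : ↥(A ⊓ M) => (z : G)) e)
      · exact Subtype.ext (mul_right_cancel (congrArg (fun z : ↥(A ⊓ M) => (z : G)) e))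
    have h1 := Nat.card_le_card_of_injective f hf
    rw [Nat.card_prod, Nat.card_eq_fintype_card (α := Bool), Fintype.card_bool, hA] at h1
    have h2 := Subgroup.card_le_of_le hsub
    omega
  -- the double is a Sylow subgroup
  obtain ⟨P, hP⟩ := (IsPGroup.of_card (n := 5) hT : IsPGroup 2 T).exists_le_sylow
  have hPT : (P : Subgroup G) = T := by
    by_contra hne
    haveI := P.isPGroup'.isNilpotent
    obtain ⟨g, hg, hgT⟩ := SetLike.exists_of_lt (lt_inf_normalizer (lt_of_le_of_ne hP (Ne.symm hne)))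
    have hgN : g ∈ Subgroup.normalizer (M : Set G) := by
      have hle : M.map (MulAut.conj g).toMonoidHom ≤ T := by
        rintro _ ⟨m, hm, rfl⟩
        exact (Subgroup.mem_normalizer_iff.1 hg.2 m).1 (hMT hm)
      have heq := uniq _ hle (by rw [Subgroup.card_map_of_injective (MulAut.conj g).injective, h16]) (by
        rintro _ ⟨u, hu, rfl⟩ _ ⟨v, hv, rfl⟩
        exact (hab u hu v hv).map (MulAut.conj g).toMonoidHom)
      exact mem_normalizer_of_invariant fun k hk => heq.le ⟨k, hk, rfl⟩
    set R := (P : Subgroup G) ⊓ Subgroup.normalizer (M : Set G) with hR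
    obtain ⟨k, hk⟩ := IsPGroup.iff_card.1 (P.isPGroup'.to_le (inf_le_left : R ≤ (P : Subgroup G)))
    have hTR : T ≤ R := le_inf hP fun t ht => by
      rcases hmem t ht with h | h
      · exact Subgroup.le_normalizer h
      · have := (Subgroup.normalizer (M : Set G)).mul_mem (Subgroup.le_normalizer h) hiN
        rwa [mul_assoc, hs.hi, mul_one] at this
    have hlt : Nat.card T < Nat.card R := lt_of_not_ge fun h =>
      hgT ((Subgroup.eq_of_le_of_card_ge hTR h) ▸ (⟨hg.1, hgN⟩ : g ∈ R))
    obtain ⟨⟨-, hni⟩ | ⟨h6, -⟩, -⟩ := hs.normalizer_small hM (ne_bot hs hM)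
    · exact hni hiN
    · have hd : 2 ^ k ∣ 96 := by
        have := Subgroup.card_dvd_of_le (inf_le_right : R ≤ Subgroup.normalizer (M : Set G))
        rw [h6, h16, hk] at this
        exact this
      rw [hT, hk] at hlt
      have hk6 : 6 ≤ k := by
        by_contra hk6
        have : 2 ^ k ≤ 2 ^ 5 := Nat.pow_le_pow_right (by norm_num) (by omega)
        omega
      have := (pow_dvd_pow 2 hk6).trans hd
      norm_num at this
  have hM'2 : IsPGroup 2 M' := by
    rcases h' with h | h
    · exact IsPGroup.of_card (n := 2) h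
    · exact IsPGroup.of_card (n := 4) h
  obtain ⟨g, hg⟩ := exists_conj_le_sylow P hM'2
  rw [hPT] at hg
  set V := M'.map (MulAut.conj g).toMonoidHom with hV
  have hVc : Nat.card V = Nat.card M' := Subgroup.card_map_of_injective (MulAut.conj g).injective
  rcases h' with h | h
  · exfalso
    haveI : IsMulCommutative M' := IsPGroup.isMulCommutative_of_card_eq_prime_sq (p := 2) (by rw [h]; norm_num)
    have hC := centralizer_eq hs hM' (by rw [h]; norm_num) fun a ha b hb =>
      congrArg Subtype.val (‹IsMulCommutative M'›.is_comm.comm (⟨a, ha⟩ : M') ⟨b, hb⟩)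
    have hUV : U ≤ V := fun u hu => map_centralizer hC g (Subgroup.mem_centralizer_iff.2 fun v hv => by
      have hc1 : Commute u i := (Subgroup.mem_centralizer_singleton_iff.1 hu.2)
      rcases hmem v (hg hv) with hvM | hvM
      · exact (hab v hvM u hu.1).eq
      · have := (hab u hu.1 (v * i) hvM).mul_right hc1
        rw [mul_assoc, hs.hi, mul_one] at this
        exact this.eq.symm)
    have hVU : V = U := (Subgroup.eq_of_le_of_card_ge hUV (by omega)).symm
    have hMV : M ≤ V := fun m hm => map_centralizer hC g (Subgroup.mem_centralizer_iff.2 fun v hv =>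
      (hab v (hVU.le hv).1 m hm).eq)
    have := Subgroup.card_le_of_le hMV
    omega
  · have hab' := comm_sixteen hs.sc hM'.1 h
    have heq := uniq V hg (hVc.trans h) (by
      rintro _ ⟨u, hu, rfl⟩ _ ⟨v, hv, rfl⟩
      exact (hab' u hu v hv).map (MulAut.conj g).toMonoidHom)
    exact (eq_of_conj hs hM' (iinv hs hiN') hM heq).symm

/-- There are at most two normalised classes of order four. -/
theorem four (hs : Setup x i) (M : Fin 3 → Subgroup G) (hinj : Function.Injective M)
    (hM : ∀ j, MaxI x (M j)) (hiN : ∀ j, i ∈ Subgroup.normalizer (M j : Set G))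
    (h4 : ∀ j, Nat.card (M j) = 4) : False := by
  classical
  haveI : Fact (Nat.Prime 2) := ⟨Nat.prime_two⟩
  have hab : ∀ j, ∀ a ∈ M j, ∀ b ∈ M j, Commute a b := fun j a ha b hb => by
    haveI : IsMulCommutative (M j) :=
      IsPGroup.isMulCommutative_of_card_eq_prime_sq (p := 2) (by rw [h4 j]; norm_num)
    exact congrArg Subtype.val (‹IsMulCommutative (M j)›.is_comm.comm (⟨a, ha⟩ : M j) ⟨b, hb⟩)
  have hsq : ∀ j, ∀ v ∈ M j, v * v = 1 := by
    intro j v hv
    have hrel := (hM j).1.rel hs.sc hv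
    obtain ⟨W, hWM, hW, hW1, -, hWc⟩ := central_involutions hs (hM j).1 (by rw [h4 j]; norm_num)
    have hWe : W = M j := by
      refine Subgroup.eq_of_le_of_card_ge hWM ?_
      have h1 := hW.card_mod hs.sc
      have h2 : Nat.card W ≠ 1 := fun e => hW1 (Subgroup.card_eq_one.1 e)
      have := Subgroup.card_le_of_le hWM
      have := Nat.card_pos (α := W)
      rw [h4 j]
      omega
    exact (hWc v (hWe ▸ hv)).1
  have hC := fun j => centralizer_eq hs (hM j) (by rw [h4 j]; norm_num) (hab j)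
  obtain ⟨T, -, -, hT, -⟩ := exists_double hs (hM 0).1 (iinv hs (hiN 0))
  rw [h4 0] at hT
  obtain ⟨P, hP⟩ := (IsPGroup.of_card (n := 3) hT : IsPGroup 2 T).exists_le_sylow
  choose g hg using fun j => exists_conj_le_sylow P (IsPGroup.of_card (n := 2) (h4 j) : IsPGroup 2 (M j))
  let V : Fin 3 → Subgroup (P : Subgroup G) := fun j =>
    ((M j).map (MulAut.conj (g j)).toMonoidHom).subgroupOf (P : Subgroup G)
  have hVc : ∀ j, Nat.card (V j) = 4 := fun j => by
    rw [Nat.card_congr (Subgroup.subgroupOfEquivOfLe (hg j)).toEquiv,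
      Subgroup.card_map_of_injective (MulAut.conj (g j)).injective, h4 j]
  obtain ⟨a, b, hne, p, hp⟩ := SelfCentThreeFour.exists_conj P.isPGroup'
    (le_of_eq_of_le hT.symm (Subgroup.card_le_of_le hP)) V hVc (fun j v hv => by
      obtain ⟨m, hm, e⟩ := Subgroup.mem_subgroupOf.1 hv
      refine Subtype.ext ?_
      show (v : G) * v = 1
      rw [← e]
      show g j * m * (g j)⁻¹ * (g j * m * (g j)⁻¹) = 1
      rw [show g j * m * (g j)⁻¹ * (g j * m * (g j)⁻¹) = g j * (m * m) * (g j)⁻¹ by group, hsq j m hm]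
      group)
    (fun j => le_antisymm (fun u hu => Subgroup.mem_subgroupOf.2 (map_centralizer (hC j) (g j)
        (Subgroup.mem_centralizer_iff.2 fun v hv => congrArg Subtype.val
          (Subgroup.mem_centralizer_iff.1 hu ⟨v, hg j hv⟩ (Subgroup.mem_subgroupOf.2 hv)))))
      (fun u hu => Subgroup.mem_centralizer_iff.2 fun v hv => by
        obtain ⟨m, hm, e⟩ := Subgroup.mem_subgroupOf.1 hu
        obtain ⟨m', hm', e'⟩ := Subgroup.mem_subgroupOf.1 (show v ∈ V j from hv)
        refine Subtype.ext ?_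
        show (v : G) * u = u * v
        rw [← e, ← e']
        exact ((hab j m' hm' m hm).map (MulAut.conj (g j)).toMonoidHom).eq))
  refine hne (hinj (eq_of_conj hs (hM a) (iinv hs (hiN a)) (hM b) (g := (g b)⁻¹ * p * g a) ?_).symm)
  refine Subgroup.eq_of_le_of_card_ge ?_ (by
    rw [Subgroup.card_map_of_injective (MulAut.conj _).injective, h4, h4])
  rintro _ ⟨m, hm, rfl⟩
  have h1 : (⟨g a * m * (g a)⁻¹, hg a ⟨m, hm, rfl⟩⟩ : (P : Subgroup G)) ∈ V a :=
    Subgroup.mem_subgroupOf.2 ⟨m, hm, rfl⟩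
  have h2 := hp.le ⟨_, h1, rfl⟩
  obtain ⟨m', hm', e⟩ := Subgroup.mem_subgroupOf.1 h2
  change g b * m' * (g b)⁻¹ = (p : G) * (g a * m * (g a)⁻¹) * (p : G)⁻¹ at e
  show (g b)⁻¹ * (p : G) * g a * m * ((g b)⁻¹ * (p : G) * g a)⁻¹ ∈ M b
  rw [show (g b)⁻¹ * (p : G) * g a * m * ((g b)⁻¹ * (p : G) * g a)⁻¹ =
    (g b)⁻¹ * ((p : G) * (g a * m * (g a)⁻¹) * (p : G)⁻¹) * g b by group, ← e,
    show (g b)⁻¹ * (g b * m' * (g b)⁻¹) * g b = m' by group]
  exact hm'

/-- The bound for the normalised even classes. -/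
theorem even_bound (hs : Setup x i) (S : Finset (Subgroup G))
    (hS : ∀ M ∈ S, MaxI x M ∧ i ∈ Subgroup.normalizer (M : Set G) ∧ 2 ∣ Nat.card M) :
    21 * ∑ M ∈ S, Nat.card M ≤ Nat.card G ∨
      (56 * ∑ M ∈ S, Nat.card M ≤ 3 * Nat.card G ∧
        128 ≤ Nat.card (Subgroup.centralizer ({i} : Set G))) := by
  classical
  haveI := Fintype.ofFinite G
  haveI := hs.simple
  let U : Subgroup G → Subgroup G := fun M => M ⊓ Subgroup.centralizer ({i} : Set G)
  have hsq : ∀ M ∈ S, Nat.card (U M) ^ 2 = Nat.card M := fun M hM =>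
    card_centralizer_sq hs.sc hs.hi hs.hix (hS M hM).1.1 (iinv hs (hS M hM).2.1)
  have hq : ∀ M ∈ S, 2 ∣ Nat.card (U M) ∧ Nat.card (U M) % 3 ≠ 0 := by
    intro M hM
    have h1 := (hS M hM).2.2
    rw [← hsq M hM] at h1
    have h2 := (hS M hM).1.1.card_mod hs.sc
    rw [← hsq M hM, Nat.pow_mod] at h2
    exact ⟨Nat.prime_two.dvd_of_dvd_pow h1, fun e => by rw [e] at h2; norm_num at h2⟩
  by_cases hsmall : ∀ M ∈ S, Nat.card M ≤ 16
  · left
    have h416 : ∀ M ∈ S, Nat.card M = 4 ∨ Nat.card M = 16 := by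
      intro M hM
      have h1 := hsq M hM
      obtain ⟨h2, h3⟩ := hq M hM
      have h4 := hsmall M hM
      have hpos : 0 < Nat.card (U M) := Nat.card_pos
      have h5 : Nat.card (U M) ≤ 4 := by nlinarith
      generalize hn : Nat.card (U M) = n at *
      interval_cases n <;> omega
    have hcard : S.card ≤ 2 := by
      by_cases h16 : ∃ M ∈ S, Nat.card M = 16
      · obtain ⟨M, hM, h⟩ := h16
        have : S ⊆ {M} := fun M' hM' => Finset.mem_singleton.2
          (sixteen hs (hS M hM).1 (hS M hM).2.1 h (hS M' hM').1 (hS M' hM').2.1 (h416 M' hM'))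
        exact (Finset.card_le_card this).trans (by simp)
      · by_contra hc
        push Not at h16
        obtain ⟨A, hA, B, hB, C, hC, hAB, hAC, hBC⟩ := Finset.two_lt_card.1 (not_le.1 hc)
        refine four hs ![A, B, C] ?_ ?_ ?_ ?_
        · intro a b e
          fin_cases a <;> fin_cases b <;> simp_all
        all_goals intro j; fin_cases j
        all_goals first
          | exact (hS _ hA).1 | exact (hS _ hB).1 | exact (hS _ hC).1
          | exact (hS _ hA).2.1 | exact (hS _ hB).2.1 | exact (hS _ hC).2.1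
          | exact (h416 _ hA).resolve_right (h16 _ hA) | exact (h416 _ hB).resolve_right (h16 _ hB)
          | exact (h416 _ hC).resolve_right (h16 _ hC)
    have h2 : 2 * (21 * ∑ M ∈ S, Nat.card M) ≤ 2 * Nat.card G := by
      rw [show 2 * (21 * ∑ M ∈ S, Nat.card M) = ∑ M ∈ S, 42 * Nat.card M by rw [← Finset.mul_sum]; ring]
      calc ∑ M ∈ S, 42 * Nat.card M ≤ S.card • Nat.card G :=
            Finset.sum_le_card_nsmul _ _ _ fun M hM => forty_two_mul_le hs (hS M hM).1 (hS M hM).2.1
        _ ≤ 2 * Nat.card G := by rw [smul_eq_mul]; exact Nat.mul_le_mul_right _ hcard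
    omega
  · right
    push Not at hsmall
    obtain ⟨M₀, hM₀, hbig⟩ := hsmall
    obtain ⟨M₁, hM₁, hmax⟩ := Finset.exists_max_image S (fun M => Nat.card (U M)) ⟨M₀, hM₀⟩
    set c := Nat.card (Subgroup.centralizer ({i} : Set G)) with hc
    set q₁ := Nat.card (U M₁) with hq₁
    have h8 : 8 ≤ q₁ := by
      have h0 := hmax M₀ hM₀
      have h1 := hsq M₀ hM₀
      obtain ⟨h2, h3⟩ := hq M₁ hM₁
      have h4 : 4 < Nat.card (U M₀) := by nlinarith
      rw [← hq₁] at h2 h3
      omega
    have hdis : (∑ M ∈ S, (Nat.card (U M) - 1)) + 1 ≤ c := by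
      have h1 : ∀ K : Subgroup G, ((Finset.univ.filter fun g => g ∈ K).erase 1).card = Nat.card K - 1 := by
        intro K
        rw [Finset.card_erase_of_mem (by simp [K.one_mem]), Nat.card_eq_fintype_card, Fintype.card_subtype]
      have hpd : (S : Set (Subgroup G)).PairwiseDisjoint
          fun M => (Finset.univ.filter fun g => g ∈ U M).erase 1 := by
        intro M hM M' hM' hne
        rw [Function.onFun, Finset.disjoint_left]
        intro g hg hg'
        simp only [Finset.mem_erase, Finset.mem_filter, Finset.mem_univ, true_and] at hg hg'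
        rcases le_or_inf_eq_bot hs (hS M hM).1 (iinv hs (hS M hM).2.1) (hS M' hM').1.1
          (iinv hs (hS M' hM').2.1) with h | h
        · exact hne ((hS M' hM').1.2 M (hS M hM).1.1 h)
        · exact hg.1 (Subgroup.mem_bot.1 (h ▸ (⟨hg.2.1, hg'.2.1⟩ : g ∈ M ⊓ M')))
      have hsub : S.biUnion (fun M => (Finset.univ.filter fun g => g ∈ U M).erase 1) ⊆
          (Finset.univ.filter fun g => g ∈ Subgroup.centralizer ({i} : Set G)).erase 1 := by
        intro g hg
        obtain ⟨M, -, hgM⟩ := Finset.mem_biUnion.1 hg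
        simp only [Finset.mem_erase, Finset.mem_filter, Finset.mem_univ, true_and] at hgM ⊢
        exact ⟨hgM.1, hgM.2.2⟩
      have := Finset.card_le_card hsub
      rw [Finset.card_biUnion hpd, h1, Finset.sum_congr rfl fun M _ => h1 (U M)] at this
      have hpos : 0 < c := Nat.card_pos
      omega
    have h2q : 2 * q₁ ^ 2 ≤ c := by
      rw [hq₁, hsq M₁ hM₁]
      exact Nat.le_of_dvd Nat.card_pos
        ((card_dvd_centralizer hs (hS M₁ hM₁).1 (hS M₁ hM₁).2.2).2 (hS M₁ hM₁).2.1)
    have hsum : (q₁ - 1) * ∑ M ∈ S, Nat.card M ≤ q₁ ^ 2 * c := by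
      calc (q₁ - 1) * ∑ M ∈ S, Nat.card M = ∑ M ∈ S, (q₁ - 1) * Nat.card M := Finset.mul_sum ..
        _ ≤ ∑ M ∈ S, q₁ ^ 2 * (Nat.card (U M) - 1) := Finset.sum_le_sum fun M hM => by
          rw [← hsq M hM]
          have h1 : Nat.card (U M) ≤ q₁ := hmax M hM
          have h2 : 2 ≤ Nat.card (U M) := Nat.le_of_dvd Nat.card_pos (hq M hM).1
          obtain ⟨b, hb⟩ := Nat.exists_eq_add_of_le h2
          obtain ⟨d, hd⟩ := Nat.exists_eq_add_of_le h1
          rw [hd, hb, show 2 + b + d - 1 = 1 + b + d by omega, show 2 + b - 1 = 1 + b by omega]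
          nlinarith [Nat.zero_le (b * d), Nat.zero_le (b * d * d), Nat.zero_le (b * b * d),
            Nat.zero_le (d * d)]
        _ = q₁ ^ 2 * ∑ M ∈ S, (Nat.card (U M) - 1) := (Finset.mul_sum ..).symm
        _ ≤ q₁ ^ 2 * c := Nat.mul_le_mul_left _ (by omega)
    have hG := SelfCentThreeChar.four_card_centralizer_sq_le hs.sc hs.hi hs.hix
    rw [← hc] at hG
    refine ⟨?_, by nlinarith⟩
    have h7 : 7 * ∑ M ∈ S, Nat.card M ≤ q₁ ^ 2 * c :=
      le_trans (Nat.mul_le_mul_right _ (by omega)) hsum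
    nlinarith [Nat.mul_le_mul_right c h2q]

/-- Summing over classes with at most two members each. -/
theorem sum_le (hs : Setup x i) (F : Finset (Subgroup G))
    (hF : ∀ M ∈ F, ∀ M' ∈ F, Nat.card M' = Nat.card M →
      M' = M ∨ M' = M.map (MulAut.conj i).toMonoidHom) :
    ∑ M ∈ F, Nat.card M ≤ 2 * ∑ a ∈ F.image (fun M : Subgroup G => Nat.card M), a := by
  classical
  refine le_of_eq_of_le (Finset.sum_fiberwise_of_maps_to (g := fun M : Subgroup G => Nat.card M)
    (fun M hM => Finset.mem_image_of_mem (fun M : Subgroup G => Nat.card M) hM) (fun M : Subgroup G => Nat.card M)).symm ?_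
  rw [Finset.mul_sum]
  refine Finset.sum_le_sum fun a ha => ?_
  obtain ⟨M, hM, rfl⟩ := Finset.mem_image.1 ha
  rw [Finset.sum_congr rfl fun K hK => (Finset.mem_filter.1 hK).2, Finset.sum_const, smul_eq_mul]
  refine Nat.mul_le_mul_right _ ((Finset.card_le_card (t := {M, M.map (MulAut.conj i).toMonoidHom})
    fun K hK => ?_).trans Finset.card_le_two)
  obtain ⟨hKF, hKc⟩ := Finset.mem_filter.1 hK
  rcases hF M hM K hKF hKc with e | e <;> simp [e]

theorem isPGroup_and_four (hs : Setup x i) {M : Subgroup G} (hM : MaxI x M)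
    (hiN : i ∈ Subgroup.normalizer (M : Set G)) (h2 : 2 ∣ Nat.card M) (hG : Nat.card G = 168) :
    Nat.card M = 4 := by
  have hq := card_centralizer_sq hs.sc hs.hi hs.hix hM.1 (iinv hs hiN)
  have hm := hM.1.card_mod hs.sc
  have hd : Nat.card M ∣ 168 := hG ▸ Subgroup.card_subgroup_dvd_card M
  rw [← hq] at hd h2 hm ⊢
  have hle := Nat.le_of_dvd (by norm_num) hd
  generalize Nat.card ↥(M ⊓ Subgroup.centralizer ({i} : Set G)) = n at *
  have : n ≤ 12 := by nlinarith
  interval_cases n <;> norm_num at *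

/-- The simple groups. -/
theorem simple_orders (hs : Setup x i) :
    (Nat.card G = 60 ∧ ∃ T : Subgroup G, Inv3 x T ∧ Nat.card T = 4) ∨
      (Nat.card G = 168 ∧ ∃ A B : Subgroup G, Inv3 x A ∧ Inv3 x B ∧ A ≠ ⊥ ∧ IsPGroup 2 A ∧
        Nat.card B = 7) := by
  classical
  haveI := hs.simple
  set L := Nat.card G with hLdef
  set F := maxSet x
  set E := (F.filter fun M : Subgroup G => 2 ∣ Nat.card M).filter fun M : Subgroup G => i ∉ Subgroup.normalizer (M : Set G)
    with hE
  set S := (F.filter fun M : Subgroup G => 2 ∣ Nat.card M).filter fun M : Subgroup G => i ∈ Subgroup.normalizer (M : Set G)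
    with hS
  set O := F.filter fun M : Subgroup G => ¬ 2 ∣ Nat.card M with hO
  have hFm : ∀ {M}, M ∈ F → MaxI x M := fun h => mem_maxSet.1 h
  have hsum : ∑ M ∈ F, Nat.card M = ∑ M ∈ S, Nat.card M + ∑ M ∈ E, Nat.card M + ∑ M ∈ O, Nat.card M := by
    rw [hS, hE, hO, Finset.sum_filter_add_sum_filter_not, Finset.sum_filter_add_sum_filter_not]
  have hcover : L < 9 * ∑ M ∈ F, Nat.card M := cover hs
  rw [hsum] at hcover
  have hb := even_bound hs S fun M hM => by
    obtain ⟨h1, h2⟩ := Finset.mem_filter.1 hM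
    obtain ⟨h1, h3⟩ := Finset.mem_filter.1 h1
    exact ⟨hFm h1, h2, h3⟩
  set sS := ∑ M ∈ S, Nat.card M with hsS
  -- the divisibility
  obtain ⟨r, hr, hL6⟩ := (hs.subgroup_mod (Subgroup.mem_top x)).1 (Subgroup.mem_top i)
  rw [Subgroup.card_top, ← hLdef] at hL6
  have hL : L % 3 = 0 ∧ L / 3 % 3 = 2 := by omega
  have hOm : ∀ {M}, M ∈ O → MaxI x M ∧ Nat.card M % 2 = 1 := fun h => by
    obtain ⟨h1, h2⟩ := Finset.mem_filter.1 h
    exact ⟨hFm h1, by omega⟩
  have hEm : ∀ {M}, M ∈ E → MaxI x M ∧ 2 ∣ Nat.card M ∧ i ∉ Subgroup.normalizer (M : Set G) := fun h => by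
    obtain ⟨h1, h2⟩ := Finset.mem_filter.1 h
    obtain ⟨h1, h3⟩ := Finset.mem_filter.1 h1
    exact ⟨hFm h1, h3, h2⟩
  have hgood : ∀ {M}, M ∈ O → ∀ {p}, p ∣ Nat.card M → p ≠ 2 := fun h p hp e => by
    subst e
    have := (hOm h).2
    omega
  have hOsum := sum_le hs O fun M hM M' hM' he => by
    have hne : Nat.card M ≠ 1 := fun e => ne_bot hs (hOm hM).1 (Subgroup.card_eq_one.1 e)
    obtain ⟨p, hp, hpd⟩ := Nat.exists_prime_and_dvd hne
    exact (same_class hs (hOm hM).1 (hOm hM').1 hp hpd (he ▸ hpd) (Or.inl (hgood hM hpd))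
      (Or.inl (hgood hM hpd))).1
  set V := O.image fun M : Subgroup G => Nat.card M with hV
  have hV1 : ∀ a ∈ V, 7 ≤ a ∧ a % 3 = 1 ∧ a ∣ L ∧ a % 2 = 1 := by
    intro a ha
    obtain ⟨M, hM, rfl⟩ := Finset.mem_image.1 ha
    have h1 := (hOm hM).1.1.card_mod hs.sc
    have h2 := (hOm hM).2
    have hne : Nat.card M ≠ 1 := fun e => ne_bot hs (hOm hM).1 (Subgroup.card_eq_one.1 e)
    exact ⟨by omega, h1, Subgroup.card_subgroup_dvd_card M, h2⟩
  have hVc : ∀ a ∈ V, ∀ b ∈ V, a ≠ b → a.Coprime b := by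
    intro a ha b hb hab
    obtain ⟨M, hM, rfl⟩ := Finset.mem_image.1 ha
    obtain ⟨M', hM', rfl⟩ := Finset.mem_image.1 hb
    by_contra hc
    obtain ⟨p, hp, hp1, hp2⟩ := Nat.Prime.not_coprime_iff_dvd.1 hc
    exact hab (same_class hs (hOm hM).1 (hOm hM').1 hp hp1 hp2 (Or.inl (hgood hM hp1))
      (Or.inl (hgood hM hp1))).2.symm
  -- an odd class with index eight
  rcases E.eq_empty_or_nonempty with hE0 | ⟨M₀, hM₀⟩
  · rw [hE0, Finset.sum_empty] at hcover
    rcases SelfCentThreeArith.without_even hL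
        (PTerminalDiag.four_dvd_card_of_simple hs.noncomm ⟨3 * r, by omega⟩) hV1 hVc with
      ⟨n, hVn, hLn⟩ | hb'
    · right
      obtain ⟨M, hM, hMn⟩ := Finset.mem_image.1 (show n ∈ V by rw [hVn]; exact Finset.mem_singleton_self n)
      obtain ⟨hn7, hn3, -, hn2⟩ := hV1 n (by rw [hVn]; exact Finset.mem_singleton_self n)
      rw [hVn, Finset.sum_singleton] at hOsum
      have hk : (Subgroup.normalizer (M : Set G)).index = 8 ∨ (Subgroup.normalizer (M : Set G)).index = 4 := by
        rcases index_normalizer_mul hs (hOm hM).1 with ⟨-, h⟩ | ⟨-, h⟩ <;> rw [hMn, ← hLdef, hLn] at h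
        · exact Or.inl (Nat.eq_of_mul_eq_mul_left (show 0 < 3 * n by omega) (by linarith))
        · exact Or.inr (Nat.eq_of_mul_eq_mul_left (show 0 < 6 * n by omega) (by linarith))
      have h5 := SimpleOrder.five_le_index hs.noncomm _
        (hs.normalizer_ne_top (hOm hM).1.1 (ne_bot hs (hOm hM).1))
      have hd := SimpleOrder.two_mul_card_dvd_factorial_index hs.noncomm _
        (hs.normalizer_ne_top (hOm hM).1.1 (ne_bot hs (hOm hM).1))
      rw [hk.resolve_right (by omega), ← hLdef, hLn, show Nat.factorial 8 = 48 * 840 from rfl,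
        show 2 * (24 * n) = 48 * n by ring] at hd
      have hn : n ∣ 840 := Nat.dvd_of_mul_dvd_mul_left (by norm_num) hd
      have key : ∀ d ∈ Nat.divisors 840, 7 ≤ d → d % 3 = 1 → d % 2 = 1 → d = 7 := by decide +kernel
      have hn' := key n (Nat.mem_divisors.2 ⟨hn, by norm_num⟩) hn7 hn3 hn2
      subst hn'
      refine ⟨hLn, ?_⟩
      obtain ⟨A, hA⟩ : S.Nonempty := by
        rw [Finset.nonempty_iff_ne_empty]
        intro e
        rw [hsS, e, Finset.sum_empty] at hcover
        omega
      obtain ⟨h1, h2⟩ := Finset.mem_filter.1 hA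
      obtain ⟨h1, h3⟩ := Finset.mem_filter.1 h1
      refine ⟨A, M, (hFm h1).1, (hOm hM).1.1, ne_bot hs (hFm h1), ?_, hMn⟩
      haveI : Fact (Nat.Prime 2) := ⟨Nat.prime_two⟩
      exact IsPGroup.of_card (n := 2) (isPGroup_and_four hs (hFm h1) h2 h3 hLn)
    · exfalso
      rcases hb with hb | ⟨hb, -⟩ <;> omega
  · obtain ⟨hM₀m, hM₀2, hM₀i⟩ := hEm hM₀
    set e := Nat.card M₀ with he
    have hesum : ∑ M ∈ E, Nat.card M ≤ 2 * e := by
      have hall : ∀ M ∈ E, Nat.card M = e ∧ (M = M₀ ∨ M = M₀.map (MulAut.conj i).toMonoidHom) := by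
        intro M hM
        obtain ⟨h1, h2, h3⟩ := hEm hM
        have := same_class hs hM₀m h1 Nat.prime_two hM₀2 h2 (Or.inr hM₀i) (Or.inr h3)
        exact ⟨this.2, this.1⟩
      rw [Finset.sum_congr rfl fun M hM => (hall M hM).1, Finset.sum_const, smul_eq_mul]
      refine Nat.mul_le_mul_right _ ((Finset.card_le_card (t := {M₀, M₀.map (MulAut.conj i).toMonoidHom})
        fun K hK => ?_).trans Finset.card_le_two)
      rcases (hall K hK).2 with h | h <;> simp [h]
    have he3 := hM₀m.1.card_mod hs.sc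
    have he4 : 4 ≤ e := by
      have := Nat.card_pos (α := M₀)
      omega
    have hedvd : e ∣ L := Subgroup.card_subgroup_dvd_card M₀
    have hodd : Odd (L / e) := by
      haveI : Fact (Nat.Prime 2) := ⟨Nat.prime_two⟩
      obtain ⟨P, -, -, hPc⟩ := part_sylow hs hM₀m Nat.prime_two hM₀2 (Or.inr hM₀i)
      rw [P.card_eq_multiplicity] at hPc
      have hf := Nat.pow_right_injective (le_refl 2) hPc
      rw [Nat.odd_iff]
      by_contra hev
      obtain ⟨k, hk⟩ : 2 ∣ L / e := by omega
      have hLe : L = e * (2 * k) := by rw [← hk, Nat.mul_div_cancel' hedvd]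
      have hd : 2 ^ ((Nat.card M₀).factorization 2 + 1) ∣ L := by
        rw [hLe, pow_succ]
        exact Nat.mul_dvd_mul (Nat.ordProj_dvd _ 2) (dvd_mul_right 2 k)
      have := (Nat.prime_two.pow_dvd_iff_le_factorization Nat.card_pos.ne').1 hd
      omega
    have hVe : ∀ a ∈ V, a.Coprime e := by
      intro a ha
      obtain ⟨M, hM, rfl⟩ := Finset.mem_image.1 ha
      by_contra hc
      obtain ⟨p, hp, hp1, hp2⟩ := Nat.Prime.not_coprime_iff_dvd.1 hc
      have h := (same_class hs (hOm hM).1 hM₀m hp hp1 hp2 (Or.inl (hgood hM hp1))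
        (Or.inl (hgood hM hp1))).2
      have := (hOm hM).2
      omega
    rcases SelfCentThreeArith.with_even hL he4 hedvd he3 hodd
        (fun a ha => ⟨(hV1 a ha).1, (hV1 a ha).2.1, (hV1 a ha).2.2.1, hVe a ha⟩) hVc with
      ⟨hV0, hLe⟩ | hb'
    · rw [hV0, Finset.sum_empty] at hOsum
      rcases hLe with hLe | hLe
      · left
        have hk : (Subgroup.normalizer (M₀ : Set G)).index = 5 := by
          rcases index_normalizer_mul hs hM₀m with ⟨-, h⟩ | ⟨h, -⟩
          · rw [← hLdef, hLe, ← he] at h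
            exact Nat.eq_of_mul_eq_mul_left (show 0 < 3 * e by omega) (by linarith)
          · exact absurd h hM₀i
        have hd := SimpleOrder.two_mul_card_dvd_factorial_index hs.noncomm _
          (hs.normalizer_ne_top hM₀m.1 (ne_bot hs hM₀m))
        rw [hk, ← hLdef, hLe, show Nat.factorial 5 = 30 * 4 from rfl,
          show 2 * (15 * e) = 30 * e by ring] at hd
        have h4 : e ∣ 4 := Nat.dvd_of_mul_dvd_mul_left (by norm_num) hd
        have := Nat.le_of_dvd (by norm_num) h4
        exact ⟨by omega, M₀, hM₀m.1, show e = 4 by omega⟩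
      · exfalso
        rcases hb with hb | ⟨-, hb⟩
        · omega
        · have hec := Nat.le_of_dvd Nat.card_pos (card_dvd_centralizer hs hM₀m hM₀2).1
          have hG := SelfCentThreeChar.four_card_centralizer_sq_le hs.sc hs.hi hs.hix
          rw [← hLdef, hLe] at hG
          rw [← he] at hec
          nlinarith
    · exfalso
      rcases hb with hb | ⟨hb, -⟩ <;> omega

end Cfsg.Agent.SelfCentThreeBound
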