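import Mathlib
import Cfsg.Agent.Lib.SelfCentThreeBase
import Cfsg.Agent.Lib.CoprimeGen
import Cfsg.Agent.Lib.HallNilpotentConj

/-!
The normal 3'-subgroup above a simple quotient of a group with a self-centralising element of
order three.
-/

set_option autoImplicit false

namespace Cfsg.Agent.SelfCentThreeLift

open SelfCentThreeBase
open scoped commutatorElement

variable {G : Type*} [Group G] [Finite G] {x : G}

theorem inv3_normal {O : Subgroup G} [O.Normal] (h : ¬ 3 ∣ Nat.card O) (y : G) : Inv3 y O :=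
  ⟨fun k hk => Subgroup.Normal.conj_mem inferInstance k hk y, h⟩

/-- The image of a self-centralising element of order three modulo an invariant normal subgroup. -/
theorem sc3_quotient (hx : SC3 x) {N : Subgroup G} [N.Normal] (hN : Inv3 x N) :
    SC3 (QuotientGroup.mk' N x) := by
  have hxN : x ∉ N := fun h => hx.ne_one (hN.fpf hx h (Commute.refl x))
  haveI : Fact (Nat.Prime 3) := ⟨Nat.prime_three⟩
  refine ⟨orderOf_eq_prime ?_ (fun e => hxN ((QuotientGroup.eq_one_iff x).1 e)), fun g hg => ?_⟩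
  · rw [← map_pow, ← hx.ord, pow_orderOf_eq_one, map_one]
  · obtain ⟨g, rfl⟩ := QuotientGroup.mk'_surjective N g
    have ho : g * x * g⁻¹ * x⁻¹ ∈ N := by
      rw [← QuotientGroup.eq_one_iff]
      show QuotientGroup.mk' N (g * x * g⁻¹ * x⁻¹) = 1
      rw [map_mul, map_mul, map_mul, map_inv, map_inv, hg.eq]
      group
    obtain ⟨u, hu, he⟩ := hN.exists_conj hx ho
    rw [inv_mul_cancel_right] at he
    have hc : Commute (u * g) x := by
      show u * g * x = x * (u * g)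
      calc u * g * x = u * (g * x * g⁻¹) * g := by group
        _ = x * (u * g) := by rw [he]; group
    have hu1 : QuotientGroup.mk' N u = 1 := (QuotientGroup.eq_one_iff u).2 hu
    have e : QuotientGroup.mk' N g = QuotientGroup.mk' N (u * g) := by rw [map_mul, hu1, one_mul]
    rw [e]
    rcases hx.cent _ hc with h | h | h <;> rw [h]
    · exact Or.inl (map_one _)
    · exact Or.inr (Or.inl rfl)
    · exact Or.inr (Or.inr (map_inv _ x))

theorem inv3_map {H : Type*} [Group H] (f : G →* H) {K : Subgroup G} (hK : Inv3 x K) :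
    Inv3 (f x) (K.map f) := by
  refine ⟨?_, fun h => hK.cop (h.trans (Subgroup.card_map_dvd _ _))⟩
  rintro _ ⟨k, hk, rfl⟩
  exact ⟨x * k * x⁻¹, hK.inv k hk, by simp⟩

/-- Every normal subgroup above `O` is trivial over it. -/
def Smp (O : Subgroup G) : Prop := ∀ K : Subgroup G, K.Normal → O ≤ K → K = O ∨ K = ⊤

omit [Finite G] in
theorem eq_top_of_smp {O K : Subgroup G} [O.Normal] (hS : Smp O) [K.Normal] (hOK : O ≤ K) {t : G}
    (ht : t ∈ K) (htO : t ∉ O) : K = ⊤ :=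
  (hS K inferInstance hOK).resolve_left fun e => htO (e ▸ ht)

/-- A `p`-element of an invariant subgroup above `O` forces the other primes out of `O`. -/
theorem prime_dvd (hx : SC3 x) {O T : Subgroup G} [O.Normal] (hS : Smp O) (hT : Inv3 x T)
    (hOT : O ≤ T) {p r : ℕ} (hr : r.Prime) (hrp : r ≠ p) (hp : p.Prime) {t : G}
    (htT : t ∈ T) (htO : t ∉ O) {a : ℕ} (hta : t ^ p ^ a = 1) : ¬ r ∣ Nat.card O := by
  intro hd
  haveI : Fact r.Prime := ⟨hr⟩
  have hO : Inv3 x O := ⟨fun k hk => Subgroup.Normal.conj_mem inferInstance k hk x,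
    fun h => hT.cop (h.trans (Subgroup.card_dvd_of_le hOT))⟩
  let R : Subgroup G :=
    { carrier := {w | w ∈ O ∧ w ^ r = 1 ∧ ∀ m ∈ O, Commute w m}
      one_mem' := ⟨O.one_mem, one_pow r, fun m _ => Commute.one_left m⟩
      mul_mem' := fun {a b} ha hb => ⟨O.mul_mem ha.1 hb.1,
        by rw [(ha.2.2 b hb.1).mul_pow, ha.2.1, hb.2.1, one_mul],
        fun m hm => (ha.2.2 m hm).mul_left (hb.2.2 m hm)⟩
      inv_mem' := fun {a} ha => ⟨O.inv_mem ha.1, by rw [inv_pow, ha.2.1, inv_one],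
        fun m hm => (ha.2.2 m hm).inv_left⟩ }
  haveI : R.Normal := ⟨fun w hw g => ⟨Subgroup.Normal.conj_mem inferInstance w hw.1 g,
    by rw [conj_pow, hw.2.1, mul_one, mul_inv_cancel], fun m hm => by
      have hm' : g⁻¹ * m * g ∈ O := by
        simpa using Subgroup.Normal.conj_mem (inferInstance : O.Normal) m hm g⁻¹
      have := (hw.2.2 _ hm').map (MulAut.conj g).toMonoidHom
      simpa [mul_assoc] using this⟩⟩
  -- `R` is not trivial
  obtain ⟨z, hz, hz1⟩ : ∃ z ∈ R, z ≠ 1 := by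
    haveI := hO.isNilpotent hx
    obtain ⟨A, B, hA, hAB, hBA, hBc, hcard, -⟩ := HallNilpotentConj.exists_split O r
    have hA2 : r ∣ Nat.card A := by
      rw [← hcard] at hd
      exact Nat.Coprime.dvd_of_dvd_mul_right hBc.symm hd
    haveI : Nontrivial A :=
      Finite.one_lt_card_iff_nontrivial.1 (hr.one_lt.trans_le (Nat.le_of_dvd Nat.card_pos hA2))
    haveI := hA.center_nontrivial
    have hZ : r ∣ Nat.card (Subgroup.center A) := by
      obtain ⟨k, hk⟩ := IsPGroup.iff_card.1 (hA.to_subgroup (Subgroup.center A))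
      have h1 : 1 < Nat.card (Subgroup.center A) := Finite.one_lt_card
      rw [hk] at h1 ⊢
      exact dvd_pow_self r (fun e => by rw [e, pow_zero] at h1; exact lt_irrefl _ h1)
    obtain ⟨z, hz⟩ := exists_prime_orderOf_dvd_card' r hZ
    refine ⟨((z : A) : G), ⟨hAB ▸ Subgroup.mem_sup_left (z : A).2, ?_, fun m hm => ?_⟩, fun e => ?_⟩
    · rw [← hz, ← Subgroup.orderOf_coe, ← Subgroup.orderOf_coe, pow_orderOf_eq_one]
    · have hsup : A ⊔ B ≤ Subgroup.centralizer ({((z : A) : G)} : Set G) := sup_le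
        (fun a ha => Subgroup.mem_centralizer_singleton_iff.2
          (congrArg Subtype.val (Subgroup.mem_center_iff.1 z.2 ⟨a, ha⟩)))
        (fun b hb => Subgroup.mem_centralizer_singleton_iff.2 (hBA hb _ (z : A).2).symm)
      exact (Subgroup.mem_centralizer_singleton_iff.1 (hsup (hAB ▸ hm))).symm
    · rw [← Subgroup.orderOf_coe, ← Subgroup.orderOf_coe, e, orderOf_one] at hz
      exact hr.ne_one hz.symm
  haveI := hT.isNilpotent hx
  have hOC : O ≤ Subgroup.centralizer (R : Set G) := fun m hm =>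
    Subgroup.mem_centralizer_iff.2 fun w hw => ((hw : w ∈ R).2.2 m hm).eq
  have htC : t ∈ Subgroup.centralizer (R : Set G) := Subgroup.mem_centralizer_iff.2 fun w hw => by
    have hco : (orderOf (⟨w, hOT (hw : w ∈ R).1⟩ : T)).Coprime (orderOf (⟨t, htT⟩ : T)) :=
      Nat.Coprime.of_dvd (orderOf_dvd_of_pow_eq_one (Subtype.ext (hw : w ∈ R).2.1))
        (orderOf_dvd_of_pow_eq_one (Subtype.ext hta))
        (((Nat.coprime_primes hr hp).2 hrp).pow_right a)
    exact congrArg Subtype.val (FrobeniusNilpotent.commute_of_coprime _ _ hco)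
  have htop := eq_top_of_smp hS hOC htC htO
  have hzx : Commute z x := Subgroup.mem_centralizer_iff.1 (show x ∈ _ from htop ▸ Subgroup.mem_top x) z hz
  exact hz1 (hO.fpf hx hz.1 hzx)

/-- The twisted symmetry of the commutator form. -/
theorem twist {O : Subgroup G} [O.Normal] {y : G} (hy : SC3 y) (hO : Inv3 y O)
    (hC : ∀ a ∈ O, ∀ b ∈ O, ∀ c ∈ O, Commute ⁅a, b⁆ c) {a b : G} (ha : a ∈ O) (hb : b ∈ O) :
    ⁅a, y * b * y⁻¹⁆ = y⁻¹ * ⁅a, b⁆ * y := by
  have bl : ∀ a ∈ O, ∀ b ∈ O, ∀ c ∈ O, ⁅a * b, c⁆ = ⁅a, c⁆ * ⁅b, c⁆ := fun a ha b hb c hc => by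
    rw [show ⁅a * b, c⁆ = a * ⁅b, c⁆ * a⁻¹ * ⁅a, c⁆ by simp only [commutatorElement_def]; group,
      ← (hC b hb c hc a ha).eq, mul_inv_cancel_right]
    exact (hC b hb c hc _ (by
      rw [commutatorElement_def]
      exact O.mul_mem (O.mul_mem (O.mul_mem ha hc) (O.inv_mem ha)) (O.inv_mem hc))).eq
  have br : ∀ a ∈ O, ∀ b ∈ O, ∀ c ∈ O, ⁅a, b * c⁆ = ⁅a, b⁆ * ⁅a, c⁆ := fun a ha b hb c hc => by
    rw [show ⁅a, b * c⁆ = ⁅a, b⁆ * (b * ⁅a, c⁆ * b⁻¹) by simp only [commutatorElement_def]; group,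
      ← (hC a ha c hc b hb).eq, mul_inv_cancel_right]
  have h0 : ∀ a ∈ O, ⁅a, y * a * y⁻¹⁆ = 1 := fun a ha =>
    commutatorElement_eq_one_iff_commute.2 (hO.commute_conj hy ha)
  have pol : ∀ a ∈ O, ∀ b ∈ O, ⁅a, y * b * y⁻¹⁆ = ⁅y * a * y⁻¹, b⁆ := fun a ha b hb => by
    have h := h0 _ (O.mul_mem ha hb)
    rw [show y * (a * b) * y⁻¹ = (y * a * y⁻¹) * (y * b * y⁻¹) by group,
      bl a ha b hb _ (O.mul_mem (hO.inv a ha) (hO.inv b hb)),
      br a ha _ (hO.inv a ha) _ (hO.inv b hb), br b hb _ (hO.inv a ha) _ (hO.inv b hb),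
      h0 a ha, h0 b hb, one_mul, mul_one] at h
    rw [eq_inv_of_mul_eq_one_left h, commutatorElement_inv]
  set w := ⁅a, b⁆ with hw
  have hwO : w ∈ O := by
    rw [hw, commutatorElement_def]
    exact O.mul_mem (O.mul_mem (O.mul_mem ha hb) (O.inv_mem ha)) (O.inv_mem hb)
  set u := y * w * y⁻¹ with hu
  have h1 : u = ⁅a, y * (y * b * y⁻¹) * y⁻¹⁆ := by
    rw [pol a ha _ (hO.inv b hb), hu, hw]
    simp only [commutatorElement_def]; group
  have h2 : w * ⁅a, y * b * y⁻¹⁆ * u = 1 := by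
    rw [h1, hw, ← br a ha b hb _ (hO.inv b hb), ← br a ha _ (O.mul_mem hb (hO.inv b hb)) _
      (hO.inv _ (hO.inv b hb)), show y * (y * b * y⁻¹) * y⁻¹ = y * y * b * (y * y)⁻¹ by group,
      hO.rel hy hb, commutatorElement_one_right]
  have h3 := hO.rel hy hwO
  rw [← hu] at h3
  have hc : Commute w u := hO.commute_conj hy hwO
  have h4 : y⁻¹ * w * y = (w * u)⁻¹ := by
    rw [← eq_inv_of_mul_eq_one_right h3, ← hy.inv_eq, inv_inv]
  have h5 : ⁅a, y * b * y⁻¹⁆ = w⁻¹ * u⁻¹ := by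
    calc ⁅a, y * b * y⁻¹⁆ = w⁻¹ * (w * ⁅a, y * b * y⁻¹⁆ * u) * u⁻¹ := by group
      _ = _ := by rw [h2, mul_one]
  rw [h4, h5, hc.eq]
  group

/-- If `O` has class two it is abelian. -/
theorem comm_of_class_two (hx : SC3 x) {O T : Subgroup G} [O.Normal] (hS : Smp O) (hT : Inv3 x T)
    (hOT : O ≤ T) {s : G} (hsT : s ∈ T) (hsO : s ∉ O)
    (hC : ∀ a ∈ O, ∀ b ∈ O, ∀ c ∈ O, Commute ⁅a, b⁆ c) : ∀ a ∈ O, ∀ b ∈ O, Commute a b := by
  have hO3 : ¬ 3 ∣ Nat.card O := fun h => hT.cop (h.trans (Subgroup.card_dvd_of_le hOT))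
  have e1 : x * s = x * s * x⁻¹ * x := by group
  have hh : SC3 (x * s) := e1 ▸ (hT.mul_inv3 hx (hT.inv s hsT)).1
  have e2 : x * (x * s) = x⁻¹ * s * x⁻¹⁻¹ * x⁻¹ := by rw [← mul_assoc, ← hx.inv_eq]; group
  have hgh : SC3 (x * (x * s)) := e2 ▸ ((hT.inv' hx).mul_inv3 hx.inv ((hT.inv' hx).inv s hsT)).1
  set c := x * s * x * (x * s)⁻¹ * x⁻¹ with hc
  have hfix : ∀ a ∈ O, ∀ b ∈ O, Commute c ⁅a, b⁆ := by
    intro a ha b hb
    have hhb : x * s * b * (x * s)⁻¹ ∈ O := Subgroup.Normal.conj_mem inferInstance b hb _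
    have k1 := twist hx (inv3_normal hO3 x) hC ha hhb
    rw [twist hh (inv3_normal hO3 _) hC ha hb] at k1
    have k2 := twist hgh (inv3_normal hO3 _) hC ha hb
    rw [show x * (x * s * b * (x * s)⁻¹) * x⁻¹ = x * (x * s) * b * (x * (x * s))⁻¹ by group, k2] at k1
    show c * ⁅a, b⁆ = ⁅a, b⁆ * c
    calc c * ⁅a, b⁆ = x * s * x * ((x * (x * s))⁻¹ * ⁅a, b⁆ * (x * (x * s))) * (x * (x * s))⁻¹ := by
          rw [hc]; group
      _ = _ := by rw [k1, hc]; group
  haveI : (Subgroup.centralizer ((⁅O, O⁆ : Subgroup G) : Set G)).Normal := inferInstance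
  have hcK : c ∈ Subgroup.centralizer ((⁅O, O⁆ : Subgroup G) : Set G) := by
    have hle : ⁅O, O⁆ ≤ Subgroup.centralizer ({c} : Set G) := Subgroup.commutator_le.2 fun a ha b hb =>
      Subgroup.mem_centralizer_singleton_iff.2 (hfix a ha b hb).eq.symm
    exact Subgroup.mem_centralizer_iff.2 fun w hw => Subgroup.mem_centralizer_singleton_iff.1 (hle hw)
  have hOK : O ≤ Subgroup.centralizer ((⁅O, O⁆ : Subgroup G) : Set G) := fun m hm => by
    have hle : ⁅O, O⁆ ≤ Subgroup.centralizer ({m} : Set G) := Subgroup.commutator_le.2 fun a ha b hb =>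
      Subgroup.mem_centralizer_singleton_iff.2 (hC a ha b hb m hm).eq
    exact Subgroup.mem_centralizer_iff.2 fun w hw => Subgroup.mem_centralizer_singleton_iff.1 (hle hw)
  have hcO : c ∉ O := by
    intro h
    have h' : s * x * s⁻¹ * x⁻¹ ∈ O := by
      have := Subgroup.Normal.conj_mem (inferInstance : O.Normal) c h x⁻¹
      rwa [hc, show x⁻¹ * (x * s * x * (x * s)⁻¹ * x⁻¹) * x⁻¹⁻¹ = s * x * s⁻¹ * x⁻¹ by group] at this
    obtain ⟨u, hu, he⟩ := (inv3_normal hO3 x).exists_conj hx h'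
    rw [inv_mul_cancel_right] at he
    have hcu : Commute (u * s) x := by
      show u * s * x = x * (u * s)
      calc u * s * x = u * (s * x * s⁻¹) * s := by group
        _ = x * (u * s) := by rw [he]; group
    have := hT.fpf hx (T.mul_mem (hOT hu) hsT) hcu
    exact hsO (eq_inv_of_mul_eq_one_right this ▸ O.inv_mem hu)
  have htop := eq_top_of_smp hS hOK hcK hcO
  intro a ha b hb
  refine commutatorElement_eq_one_iff_commute.1 ?_
  refine (inv3_normal hO3 x).fpf hx (show ⁅a, b⁆ ∈ O from ?_) ?_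
  · rw [commutatorElement_def]
    exact O.mul_mem (O.mul_mem (O.mul_mem ha hb) (O.inv_mem ha)) (O.inv_mem hb)
  · exact Subgroup.mem_centralizer_iff.1 (show x ∈ _ from htop ▸ Subgroup.mem_top x) _
      (Subgroup.commutator_mem_commutator ha hb)

/-- `O` is abelian. -/
theorem comm (hx : SC3 x) {O T : Subgroup G} [O.Normal] (hS : Smp O) (hT : Inv3 x T) (hOT : O ≤ T)
    {s : G} (hsT : s ∈ T) (hsO : s ∉ O) : ∀ a ∈ O, ∀ b ∈ O, Commute a b := by
  have hO : Inv3 x O := ⟨fun k hk => Subgroup.Normal.conj_mem inferInstance k hk x,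
    fun h => hT.cop (h.trans (Subgroup.card_dvd_of_le hOT))⟩
  haveI := hO.isNilpotent hx
  set D : Subgroup G := ⁅⁅O, O⁆, O⁆
  have hCO : ⁅O, O⁆ ≤ O := Subgroup.commutator_le_right O O
  have hDO : D ≤ O := Subgroup.commutator_le_right _ O
  have hD : Inv3 x D := ⟨fun k hk => Subgroup.Normal.conj_mem inferInstance k hk x,
    fun h => hO.cop (h.trans (Subgroup.card_dvd_of_le hDO))⟩
  set π := QuotientGroup.mk' D
  have hsur : Function.Surjective π := QuotientGroup.mk'_surjective D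
  haveI : (O.map π).Normal := Subgroup.Normal.map inferInstance π hsur
  have hker : π.ker = D := QuotientGroup.ker_mk' D
  have hmem : ∀ g, π g ∈ O.map π → g ∈ O := by
    rintro g ⟨k, hk, e⟩
    have : k⁻¹ * g ∈ D := hker ▸ (by rw [MonoidHom.mem_ker, map_mul, map_inv, e, inv_mul_cancel])
    simpa using O.mul_mem hk (hDO this)
  have hS' : Smp (O.map π) := by
    intro K hK hle
    rcases hS (K.comap π) (hK.comap π) (fun k hk => hle ⟨k, hk, rfl⟩) with e | e
    · exact Or.inl ((Subgroup.map_comap_eq_self_of_surjective hsur K).symm.trans (congrArg (Subgroup.map π) e))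
    · exact Or.inr (by rw [← Subgroup.map_comap_eq_self_of_surjective hsur K, e,
        Subgroup.map_top_of_surjective π hsur])
  have h2 := comm_of_class_two (sc3_quotient hx hD) hS' (inv3_map π hT) (Subgroup.map_mono hOT)
    (s := π s) ⟨s, hsT, rfl⟩ (fun h => hsO (hmem s h)) (by
      rintro _ ⟨a, ha, rfl⟩ _ ⟨b, hb, rfl⟩ _ ⟨c, hc, rfl⟩
      rw [← map_commutatorElement]
      refine commutatorElement_eq_one_iff_commute.1 ?_
      rw [← map_commutatorElement]
      exact (QuotientGroup.eq_one_iff _).2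
        (Subgroup.commutator_mem_commutator (Subgroup.commutator_mem_commutator ha hb) hc))
  have hCD : ⁅O, O⁆ ≤ D := Subgroup.commutator_le.2 fun a ha b hb => by
    rw [← hker, MonoidHom.mem_ker, map_commutatorElement]
    exact commutatorElement_eq_one_iff_commute.2 (h2 _ ⟨a, ha, rfl⟩ _ ⟨b, hb, rfl⟩)
  have hbot := CoprimeGen.eq_bot_of_le_commutator hCO hCD
  intro a ha b hb
  refine commutatorElement_eq_one_iff_commute.1 ?_
  have := Subgroup.commutator_mem_commutator ha hb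
  rw [hbot] at this
  exact this

/-- `O` has exponent two, if the squares of `T` lie in it. -/
theorem sq_eq_one (hx : SC3 x) {O T : Subgroup G} [O.Normal] (hS : Smp O) (hT : Inv3 x T)
    (hOT : O ≤ T) {s : G} (hsT : s ∈ T) (hsO : s ∉ O) (hsq : ∀ t ∈ T, t * t ∈ O) :
    ∀ o ∈ O, o * o = 1 := by
  have hO : Inv3 x O := ⟨fun k hk => Subgroup.Normal.conj_mem inferInstance k hk x,
    fun h => hT.cop (h.trans (Subgroup.card_dvd_of_le hOT))⟩
  have hab := comm hx hS hT hOT hsT hsO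
  have hconj : ∀ g : G, ∀ v ∈ O, g * v * g⁻¹ ∈ O := fun g v hv => Subgroup.Normal.conj_mem inferInstance v hv g
  have hd : ∀ g : G, ∀ v ∈ O, v⁻¹ * (g * v * g⁻¹) ∈ O := fun g v hv =>
    O.mul_mem (O.inv_mem hv) (hconj g v hv)
  let K : Subgroup G :=
    { carrier := {g | ∀ v ∈ O, v⁻¹ * (g * v * g⁻¹) * (v⁻¹ * (g * v * g⁻¹)) = 1}
      one_mem' := fun v _ => by group
      mul_mem' := fun {g k} hg hk v hv => by
        have e : v⁻¹ * (g * k * v * (g * k)⁻¹) =
            v⁻¹ * (g * v * g⁻¹) * (g * (v⁻¹ * (k * v * k⁻¹)) * g⁻¹) := by group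
        rw [e, show ∀ p q : G, p * q * (p * q) = p * (q * p) * q from fun p q => by group]
        rw [(hab _ (hconj g _ (hd k v hv)) _ (hd g v hv)).eq]
        calc v⁻¹ * (g * v * g⁻¹) * (v⁻¹ * (g * v * g⁻¹) * (g * (v⁻¹ * (k * v * k⁻¹)) * g⁻¹)) *
              (g * (v⁻¹ * (k * v * k⁻¹)) * g⁻¹) =
            (v⁻¹ * (g * v * g⁻¹) * (v⁻¹ * (g * v * g⁻¹))) *
              (g * (v⁻¹ * (k * v * k⁻¹) * (v⁻¹ * (k * v * k⁻¹))) * g⁻¹) := by group
          _ = 1 := by rw [hg v hv, hk v hv]; group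
      inv_mem' := fun {g} hg v hv => by
        have hu : g⁻¹ * v * g ∈ O := by simpa using hconj g⁻¹ v hv
        have h := congrArg Inv.inv (hg _ hu)
        rw [inv_one, mul_inv_rev] at h
        rw [← h]
        have hc := hab _ (O.inv_mem hv) _ hu
        rw [show (g⁻¹ * v * g)⁻¹ * (g * (g⁻¹ * v * g) * g⁻¹) = (g⁻¹ * v * g)⁻¹ * v by group,
          mul_inv_rev, inv_inv, inv_inv] }
  haveI : K.Normal := ⟨fun g hg k v hv => by
    have hu : k⁻¹ * v * k ∈ O := by simpa using hconj k⁻¹ v hv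
    have h := hg _ hu
    calc v⁻¹ * (k * g * k⁻¹ * v * (k * g * k⁻¹)⁻¹) * (v⁻¹ * (k * g * k⁻¹ * v * (k * g * k⁻¹)⁻¹)) =
        k * ((k⁻¹ * v * k)⁻¹ * (g * (k⁻¹ * v * k) * g⁻¹) *
          ((k⁻¹ * v * k)⁻¹ * (g * (k⁻¹ * v * k) * g⁻¹))) * k⁻¹ := by group
      _ = 1 := by rw [h]; group⟩
  have hOK : O ≤ K := fun o ho v hv => by
    rw [(hab o ho v hv).eq, mul_inv_cancel_right, inv_mul_cancel, one_mul]
  have hsK : s ∈ K := by
    intro v hv
    have h1 : Commute s (v⁻¹ * s * v⁻¹⁻¹) := hT.commute_conjugate hx hsT (hOT (O.inv_mem hv))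
    rw [inv_inv] at h1
    set w := v⁻¹ * (s * v * s⁻¹) with hw
    have hsw : Commute s w := by
      have h := h1.mul_right (Commute.refl s).inv_right
      rwa [show v⁻¹ * s * v * s⁻¹ = w by rw [hw]; group] at h
    have h2 : s * s * v * (s * s)⁻¹ = v := by
      rw [(hab _ (hsq s hsT) v hv).eq, mul_inv_cancel_right]
    calc w * w = w * (s * w * s⁻¹) := by rw [hsw.eq, mul_inv_cancel_right]
      _ = v⁻¹ * (s * v * s⁻¹) * (s * v⁻¹ * s⁻¹) * (s * s * v * (s * s)⁻¹) := by rw [hw]; group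
      _ = 1 := by rw [h2]; group
  have htop := eq_top_of_smp hS hOK hsK hsO
  intro o ho
  obtain ⟨u, hu, rfl⟩ := hO.exists_preimage hx ho
  exact (show x ∈ K from htop ▸ Subgroup.mem_top x) u hu

end Cfsg.Agent.SelfCentThreeLift
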