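import Mathlib
import Cfsg.Agent.Lib.SelfCentThreeBound
import Cfsg.Agent.Lib.SelfCentThreeLift
import Cfsg.Agent.Lib.HallCore

/-!
Groups with a self-centralising element of order three.
-/

set_option autoImplicit false

universe u

namespace Cfsg.Agent.SelfCentThreeMain

open SelfCentThreeBase SelfCentThreeLocal SelfCentThreeLift

section CoreFree

variable {G : Type*} [Group G] [Finite G] {x : G}

theorem fixed_mem (hx : SC3 x) {N : Subgroup G} (hN : ∀ k ∈ N, x * k * x⁻¹ ∈ N)
    (h3 : 3 ∣ Nat.card N) : x ∈ N := by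
  classical
  haveI := Fintype.ofFinite N
  haveI : Fact (Nat.Prime 3) := ⟨Nat.prime_three⟩
  let f : Function.End N := fun k => ⟨x * k * x⁻¹, hN _ k.2⟩
  have hf : f ^ 3 ^ 1 = 1 := by
    funext k
    apply Subtype.ext
    show x * (x * (x * (k : G) * x⁻¹) * x⁻¹) * x⁻¹ = k
    calc x * (x * (x * (k : G) * x⁻¹) * x⁻¹) * x⁻¹ = (x * x * x) * k * (x * x * x)⁻¹ := by group
      _ = k := by rw [hx.pow_three]; group
  have h := Equiv.Perm.card_fixedPoints_modEq hf
  rw [← Nat.card_eq_fintype_card, ← Nat.card_eq_fintype_card] at h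
  have h1 : (1 : N) ∈ f.fixedPoints := Subtype.ext (show x * ((1 : N) : G) * x⁻¹ = ((1 : N) : G) by simp)
  haveI : Nonempty f.fixedPoints := ⟨⟨1, h1⟩⟩
  have hpos : 0 < Nat.card f.fixedPoints := Nat.card_pos
  have hdvd : 3 ∣ Nat.card f.fixedPoints :=
    Nat.modEq_zero_iff_dvd.1 (h.symm.trans (Nat.modEq_zero_iff_dvd.2 h3))
  haveI : Nontrivial f.fixedPoints :=
    Finite.one_lt_card_iff_nontrivial.1 (lt_of_lt_of_le (by norm_num) (Nat.le_of_dvd hpos hdvd))
  obtain ⟨⟨k, hk⟩, hne⟩ := exists_ne (⟨1, h1⟩ : f.fixedPoints)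
  have hkx : Commute (k : G) x :=
    (mul_inv_eq_iff_eq_mul.1 (congrArg Subtype.val hk : x * (k : G) * x⁻¹ = k)).symm
  rcases hx.cent _ hkx with e | e | e
  · exact absurd (Subtype.ext (Subtype.ext e)) hne
  · exact e ▸ k.2
  · have := N.inv_mem k.2; rwa [e, inv_inv] at this

theorem exists_sylow (hx : SC3 x) : ∃ P : Sylow 3 G, (P : Subgroup G) = Subgroup.zpowers x := by
  haveI : Fact (Nat.Prime 3) := ⟨Nat.prime_three⟩
  obtain ⟨P, hP⟩ := (IsPGroup.of_card (n := 1) (by rw [Nat.card_zpowers, hx.ord, pow_one]) :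
    IsPGroup 3 (Subgroup.zpowers x)).exists_le_sylow
  refine ⟨P, le_antisymm (fun p hp => (hx.mem_zpowers_iff p).2 (hx.cent p ?_)) hP⟩
  have hxP := hP (Subgroup.mem_zpowers x)
  haveI : Nontrivial (P : Subgroup G) :=
    ⟨⟨⟨x, hxP⟩, 1, fun e => hx.ne_one (congrArg Subtype.val e)⟩⟩
  haveI := P.isPGroup'.center_nontrivial
  obtain ⟨⟨z, hz⟩, hz1⟩ := exists_ne (1 : Subgroup.center (P : Subgroup G))
  have hzc : ∀ q ∈ (P : Subgroup G), Commute (z : G) q := fun q hq =>
    (congrArg Subtype.val (Subgroup.mem_center_iff.1 hz ⟨q, hq⟩)).symm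
  rcases hx.cent _ (hzc x hxP) with h | h | h
  · exact absurd (Subtype.ext (Subtype.ext h)) hz1
  · rw [← h]; exact (hzc p hp).symm
  · have := (hzc p hp).symm
    rw [h] at this
    simpa using this.inv_right

theorem inverting (hx : SC3 x) {g : G} (hg : g * x * g⁻¹ = x⁻¹) : g * g = 1 ∧ g * x * g = x⁻¹ := by
  have h1 : Commute (g * g) x := by
    show g * g * x = x * (g * g)
    calc g * g * x = g * (g * x * g⁻¹) * g := by group
      _ = g * x⁻¹ * g := by rw [hg]
      _ = (g * x * g⁻¹)⁻¹ * (g * g) := by group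
      _ = x * (g * g) := by rw [hg, inv_inv]
  have hgg : g * g = 1 := by
    have hcg : ¬ Commute g x := fun h => hx.inv_ne (by rw [← hg, h.eq, mul_inv_cancel_right])
    rcases hx.cent _ h1 with e | e | e
    · exact e
    · exact absurd (e ▸ (Commute.refl g).mul_right (Commute.refl g)) hcg
    · refine absurd ?_ hcg
      have h : Commute g x⁻¹ := e ▸ (Commute.refl g).mul_right (Commute.refl g)
      simpa using h.inv_right
  exact ⟨hgg, by rwa [inv_eq_of_mul_eq_one_right hgg] at hg⟩

/-- Without a normal 3'-subgroup the group is small or simple. -/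
theorem core_free (hx : SC3 x) (hcore : ∀ N : Subgroup G, N.Normal → ¬ 3 ∣ Nat.card N → N = ⊥) :
    (Nat.card G = 3 ∨ Nat.card G = 6) ∨
      (IsSimpleGroup G ∧ ¬ IsMulCommutative G ∧ ∃ i : G, i * i = 1 ∧ i * x * i = x⁻¹) := by
  classical
  haveI : Fact (Nat.Prime 3) := ⟨Nat.prime_three⟩
  have h3 : 3 ∣ Nat.card G := hx.ord ▸ orderOf_dvd_natCard x
  set M := Subgroup.normalClosure ({x} : Set G) with hM
  have hxM : x ∈ M := Subgroup.subset_normalClosure (Set.mem_singleton x)
  have hnorm : ∀ N : Subgroup G, N.Normal → N = ⊥ ∨ M ≤ N := by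
    intro N hN
    by_cases h : 3 ∣ Nat.card N
    · exact Or.inr (Subgroup.normalClosure_le_normal (Set.singleton_subset_iff.2
        (fixed_mem hx (fun k hk => hN.conj_mem k hk x) h)))
    · exact Or.inl (hcore N hN h)
  have hMsimp : ∀ N : Subgroup M, N.Normal → N = ⊥ ∨ N = ⊤ := by
    intro N hN
    by_cases h : 3 ∣ Nat.card N
    · right
      rw [Subgroup.eq_top_iff']
      have hle : M ≤ N.map M.subtype := by
        refine Subgroup.closure_le _ |>.2 ?_
        intro y hy
        obtain ⟨a, ha, hay⟩ := Group.mem_conjugatesOfSet_iff.1 hy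
        rw [Set.mem_singleton_iff] at ha
        subst ha
        obtain ⟨g, rfl⟩ := isConj_iff.1 hay
        have hyM : g * a * g⁻¹ ∈ M := Subgroup.Normal.conj_mem inferInstance a hxM g
        refine fixed_mem (hx.conj g) ?_ (by rwa [Subgroup.card_map_of_injective M.subtype_injective])
        rintro _ ⟨k, hk, rfl⟩
        exact ⟨⟨g * a * g⁻¹, hyM⟩ * k * (⟨g * a * g⁻¹, hyM⟩ : M)⁻¹, hN.conj_mem k hk _, rfl⟩
      intro m
      obtain ⟨k, hk, e⟩ := hle m.2
      exact (Subtype.ext e : k = m) ▸ hk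
    · left
      haveI := HallCore.pPrimeCore_characteristic 3 M
      haveI : N.Normal := hN
      have h1 : N ≤ Cfsg.pPrimeCore 3 M := HallCore.le_pPrimeCore
        ((Nat.Prime.coprime_iff_not_dvd Nat.prime_three).2 h).symm
      haveI : ((Cfsg.pPrimeCore 3 M).map M.subtype).Normal := inferInstance
      have h2 := hcore ((Cfsg.pPrimeCore 3 M).map M.subtype) inferInstance (by
        rw [Subgroup.card_map_of_injective M.subtype_injective]
        exact HallCore.not_dvd_card_pPrimeCore 3 M)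
      rw [Subgroup.map_eq_bot_iff_of_injective _ M.subtype_injective] at h2
      exact le_bot_iff.1 (h2 ▸ h1)
  have hxM' : SC3 (⟨x, hxM⟩ : M) := by
    refine ⟨by rw [Subgroup.orderOf_mk, hx.ord], fun g hg => ?_⟩
    rcases hx.cent g (congrArg Subtype.val hg) with e | e | e
    · exact Or.inl (Subtype.ext e)
    · exact Or.inr (Or.inl (Subtype.ext e))
    · exact Or.inr (Or.inr (Subtype.ext e))
  haveI : IsSimpleGroup M :=
    { exists_pair_ne := ⟨⟨x, hxM⟩, 1, hxM'.ne_one⟩
      eq_bot_or_eq_top_of_normal := hMsimp }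
  by_cases hcomm : IsMulCommutative M
  · left
    have hM3 : ∀ g : G, g * x * g⁻¹ = x ∨ g * x * g⁻¹ = x⁻¹ := by
      intro g
      have hgM : g * x * g⁻¹ ∈ M := Subgroup.Normal.conj_mem inferInstance x hxM g
      rcases hx.cent _ (congrArg Subtype.val (hcomm.is_comm.comm (⟨_, hgM⟩ : M) ⟨x, hxM⟩)) with e | e | e
      · exact absurd (conj_eq_one_iff.1 e) hx.ne_one
      · exact Or.inl e
      · exact Or.inr e
    have hle : Nat.card G ≤ 6 := by
      by_cases hg₀ : ∃ g₀ : G, g₀ * x * g₀⁻¹ = x⁻¹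
      · obtain ⟨g₀, hg₀⟩ := hg₀
        obtain ⟨h1, h2⟩ := inverting hx hg₀
        let f : G → Bool × Subgroup.zpowers x := fun g =>
          if h : Commute g x then (true, ⟨g, (hx.mem_zpowers_iff g).2 (hx.cent g h)⟩)
          else (false, ⟨g₀ * g, (hx.mem_zpowers_iff _).2 (hx.cent _ (by
            have hg : g * x * g⁻¹ = x⁻¹ := (hM3 g).resolve_left fun e => h (mul_inv_eq_iff_eq_mul.1 e)
            show g₀ * g * x = x * (g₀ * g)
            calc g₀ * g * x = g₀ * (g * x * g⁻¹) * g := by group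
              _ = (g₀ * x * g₀⁻¹)⁻¹ * g₀ * g := by rw [hg]; group
              _ = _ := by rw [hg₀, inv_inv, mul_assoc]))⟩)
        have hf : Function.Injective f := by
          intro a b e
          simp only [f] at e
          split_ifs at e <;> simp only [Prod.mk.injEq, Subtype.mk.injEq, Bool.true_eq_false,
            Bool.false_eq_true, false_and, true_and] at e
          · exact e
          · exact mul_left_cancel e
        have := Nat.card_le_card_of_injective f hf
        rwa [Nat.card_prod, Nat.card_eq_fintype_card (α := Bool), Fintype.card_bool, Nat.card_zpowers,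
          hx.ord] at this
      · push Not at hg₀
        have hall : ∀ g : G, g ∈ Subgroup.zpowers x := fun g => (hx.mem_zpowers_iff g).2 (hx.cent g
          (mul_inv_eq_iff_eq_mul.1 ((hM3 g).resolve_right (hg₀ g))))
        have := Nat.card_le_card_of_injective (fun g : G => (⟨g, hall g⟩ : Subgroup.zpowers x))
          (fun a b e => congrArg Subtype.val e)
        rw [Nat.card_zpowers, hx.ord] at this
        omega
    have := Nat.card_pos (α := G)
    omega
  · right
    obtain ⟨P, hP⟩ := exists_sylow hxM'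
    have hnot := SimpleOrder.not_normalizer_le_centralizer (p := 3) hcomm
      (hxM'.ord ▸ orderOf_dvd_natCard (⟨x, hxM⟩ : M)) P
    obtain ⟨g, hgN, hgC⟩ := SetLike.not_le_iff_exists.1 hnot
    rw [hP] at hgN hgC
    have hgx := (hxM'.mem_zpowers_iff _).1
      ((Subgroup.mem_normalizer_iff.1 hgN _).1 (Subgroup.mem_zpowers (⟨x, hxM⟩ : M)))
    have hgi : g * ⟨x, hxM⟩ * g⁻¹ = (⟨x, hxM⟩ : M)⁻¹ := by
      rcases hgx with e | e | e
      · exact absurd (conj_eq_one_iff.1 e) hxM'.ne_one
      · refine absurd (Subgroup.mem_centralizer_iff.2 fun k hk => ?_) hgC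
        obtain ⟨j, rfl⟩ := Subgroup.mem_zpowers_iff.1 hk
        exact ((show Commute g ⟨x, hxM⟩ from mul_inv_eq_iff_eq_mul.1 e).zpow_right j).eq.symm
      · exact e
    obtain ⟨hi1, hi2⟩ := inverting hxM' hgi
    have hi1' : (g : G) * g = 1 := congrArg Subtype.val hi1
    have hi2' : (g : G) * x * g = x⁻¹ := congrArg Subtype.val hi2
    have htop : M = ⊤ := by
      rw [Subgroup.eq_top_iff']
      intro a
      have haM : a * x * a⁻¹ ∈ M := Subgroup.Normal.conj_mem inferInstance x hxM a
      have ho : orderOf (⟨a * x * a⁻¹, haM⟩ : M) = 3 := by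
        rw [Subgroup.orderOf_mk]; exact (hx.conj a).ord
      obtain ⟨Q, hQ⟩ := (IsPGroup.of_card (n := 1) (by rw [Nat.card_zpowers, ho, pow_one]) :
        IsPGroup 3 (Subgroup.zpowers (⟨a * x * a⁻¹, haM⟩ : M))).exists_le_sylow
      obtain ⟨m, hm⟩ := MulAction.exists_smul_eq M Q P
      have hmem : m * ⟨a * x * a⁻¹, haM⟩ * m⁻¹ ∈ (P : Subgroup M) := by
        rw [← hm, Sylow.coe_subgroup_smul]
        exact ⟨_, hQ (Subgroup.mem_zpowers _), rfl⟩
      rw [hP] at hmem
      have key : (m : G) * a * x * ((m : G) * a)⁻¹ = x ∨ (m : G) * a * x * ((m : G) * a)⁻¹ = x⁻¹ := by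
        have e0 : (m : G) * a * x * ((m : G) * a)⁻¹ = (m : G) * (a * x * a⁻¹) * (m : G)⁻¹ := by group
        rw [e0]
        rcases (hxM'.mem_zpowers_iff _).1 hmem with e | e | e
        · exact absurd (conj_eq_one_iff.1 e) (fun h => (hx.conj a).ne_one (congrArg Subtype.val h))
        · exact Or.inl (congrArg Subtype.val e)
        · exact Or.inr (congrArg Subtype.val e)
      have hma : (m : G) * a ∈ M := by
        rcases key with e | e
        · rcases hx.cent _ (mul_inv_eq_iff_eq_mul.1 e) with h | h | h <;> rw [h]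
          · exact M.one_mem
          · exact hxM
          · exact M.inv_mem hxM
        · have hc : Commute ((g : G) * ((m : G) * a)) x := by
            show (g : G) * ((m : G) * a) * x = x * ((g : G) * ((m : G) * a))
            calc (g : G) * ((m : G) * a) * x
                = (g : G) * ((m : G) * a * x * ((m : G) * a)⁻¹) * ((g : G) * g) * ((m : G) * a) := by
                  rw [hi1']; group
              _ = ((g : G) * x⁻¹ * g) * ((g : G) * ((m : G) * a)) := by rw [e]; group
              _ = _ := by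
                rw [show (g : G) * x⁻¹ * g = ((g : G) * x * g)⁻¹ by
                  rw [mul_inv_rev, mul_inv_rev, inv_eq_of_mul_eq_one_right hi1', mul_assoc], hi2', inv_inv]
          have hgma : (g : G) * ((m : G) * a) ∈ M := by
            rcases hx.cent _ hc with h | h | h <;> rw [h]
            · exact M.one_mem
            · exact hxM
            · exact M.inv_mem hxM
          exact (M.mul_mem_cancel_left g.2).1 hgma
      exact (M.mul_mem_cancel_left m.2).1 hma
    have e : M ≃* G := (MulEquiv.subgroupCongr htop).trans Subgroup.topEquiv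
    refine ⟨e.symm.isSimpleGroup, fun h => hcomm ?_, g, hi1', hi2'⟩
    exact ⟨⟨fun a b => Subtype.ext (h.is_comm.comm (a : G) b)⟩⟩

end CoreFree

/-- The three conclusions. -/
def Tri {G : Type u} [Group G] (x : G) : Prop :=
  (∃ N : Subgroup G, N.Normal ∧ Inv3 x N ∧
      (Nat.card G = 3 * Nat.card N ∨ Nat.card G = 6 * Nat.card N)) ∨
    (∃ N T : Subgroup G, N.Normal ∧ N < T ∧ Inv3 x T ∧ (∀ n ∈ N, n * n = 1) ∧
      Nat.card G = 60 * Nat.card N ∧ Smp N) ∨
    (IsSimpleGroup G ∧ Nat.card G = 168)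

theorem sub_types {G : Type u} [Group G] [Finite G] {H : Subgroup G} {x : G} (hx : SC3 x)
    (hxH : x ∈ H)
    (h : Tri (⟨x, hxH⟩ : H)) : TypeSmall x H ∨ TypeA5 x H ∨ TypeL H := by
  haveI : Fact (Nat.Prime 2) := ⟨Nat.prime_two⟩
  have hcard : ∀ N : Subgroup H, Nat.card (N.map H.subtype) = Nat.card N := fun N =>
    Subgroup.card_map_of_injective H.subtype_injective
  have hinv : ∀ N : Subgroup H, Inv3 (⟨x, hxH⟩ : H) N → Inv3 x (N.map H.subtype) := fun N hN =>
    inv3_map H.subtype hN
  have hnc : ∀ N : Subgroup H, N.Normal → ∀ h ∈ H, ∀ n ∈ N.map H.subtype,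
      h * n * h⁻¹ ∈ N.map H.subtype := by
    rintro N hN h hh _ ⟨n, hn, rfl⟩
    exact ⟨⟨h, hh⟩ * n * (⟨h, hh⟩ : H)⁻¹, hN.conj_mem n hn _, rfl⟩
  have hsub : ∀ K : Subgroup G, K ≤ H → (∀ h ∈ H, ∀ n ∈ K, h * n * h⁻¹ ∈ K) →
      (K.subgroupOf H).Normal := fun K _ hn => ⟨fun k hk h => hn _ h.2 _ hk⟩
  have hback : ∀ K : Subgroup G, K ≤ H → (K.subgroupOf H).map H.subtype = K := fun K hK => by
    rw [Subgroup.subgroupOf_map_subtype, inf_eq_left.2 hK]
  rcases h with ⟨N, hN, hNi, hc⟩ | ⟨N, T, hN, hNT, hT, hsq, hc, hsmp⟩ | ⟨hs, -⟩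
  · refine Or.inl ⟨N.map H.subtype, Subgroup.map_subtype_le _, hnc N hN, hinv N hNi, ?_,
      by rwa [hcard]⟩
    intro K hKH hK
    by_contra hne
    -- the join would be larger
    have hle : K ≤ Subgroup.normalizer ((N.map H.subtype : Subgroup G) : Set G) := fun k hk =>
      mem_normalizer_of_invariant (hnc N hN k (hKH hk))
    have hsup : Inv3 x (K ⊔ N.map H.subtype) := inv3_sup hK (hinv N hNi) hle
    obtain ⟨d, hd⟩ := Subgroup.card_dvd_of_le
      (le_sup_right : N.map H.subtype ≤ K ⊔ N.map H.subtype)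
    have hd1 : d ≠ 1 := fun e => hne (le_sup_left.trans
      (Subgroup.eq_of_le_of_card_ge le_sup_right (by rw [hd, e, mul_one])).ge)
    have hsupH := Subgroup.card_dvd_of_le (sup_le hKH (Subgroup.map_subtype_le N))
    have hm := hsup.card_mod hx
    have hm' := (hinv N hNi).card_mod hx
    rw [hd, Nat.mul_mod, hm', one_mul, Nat.mod_mod] at hm
    rw [hd, hcard] at hsupH
    have hd6 : d ∣ 6 := by
      rcases hc with hc | hc <;> rw [hc, mul_comm _ (Nat.card N)] at hsupH
      · exact (Nat.dvd_of_mul_dvd_mul_left Nat.card_pos hsupH).trans (by norm_num)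
      · exact Nat.dvd_of_mul_dvd_mul_left Nat.card_pos hsupH
    have key : ∀ d ∈ Nat.divisors 6, d % 3 = 1 → d = 1 := by decide
    exact hd1 (key d (Nat.mem_divisors.2 ⟨hd6, by norm_num⟩) hm)
  · refine Or.inr (Or.inl ⟨N.map H.subtype, T.map H.subtype, ?_, Subgroup.map_subtype_le _, hnc N hN,
      ?_, hinv T hT, by rwa [hcard], ?_, ?_⟩)
    · exact (Subgroup.map_lt_map_iff_of_injective H.subtype_injective).2 hNT
    · refine IsPGroup.map (fun n => ⟨1, Subtype.ext ?_⟩) _
      simpa [pow_two] using hsq n n.2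
    · intro K hKH hKn h3
      have hKn' := hsub K hKH hKn
      haveI := hKn'
      haveI := hN
      have hle : K.subgroupOf H ≤ N := by
        by_contra hne
        rcases hsmp (K.subgroupOf H ⊔ N) inferInstance le_sup_right with e | e
        · exact hne (le_sup_left.trans e.le)
        · have hNi : ¬ 3 ∣ Nat.card N := fun h => hT.cop (h.trans (Subgroup.card_dvd_of_le hNT.le))
          have hsup := inv3_sup (x := (⟨x, hxH⟩ : H)) (inv3_normal (O := K.subgroupOf H)
            (fun h => h3 (by rwa [Nat.card_congr (Subgroup.subgroupOfEquivOfLe hKH).toEquiv] at h)) _)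
            (inv3_normal (O := N) hNi _) (by
              rw [Subgroup.normalizer_eq_top_iff.2 hN]; exact le_top)
          refine hsup.cop ?_
          rw [e, Subgroup.card_top, hc]
          exact dvd_mul_of_dvd_left (by norm_num) _
      rw [← hback K hKH]
      exact Subgroup.map_mono hle
    · intro K hNK hKH hKn
      rcases hsmp (K.subgroupOf H) (hsub K hKH hKn)
        (fun n hn => Subgroup.mem_subgroupOf.2 (hNK ⟨n, hn, rfl⟩)) with e | e
      · exact Or.inl (by rw [← hback K hKH, e])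
      · exact Or.inr (le_antisymm hKH (Subgroup.subgroupOf_eq_top.1 e))
  · refine Or.inr (Or.inr fun K hKH hKn => ?_)
    rcases (hsub K hKH hKn).eq_bot_or_eq_top with e | e
    · exact Or.inl (by rw [← hback K hKH, e, Subgroup.map_bot])
    · exact Or.inr (le_antisymm hKH (Subgroup.subgroupOf_eq_top.1 e))

/-- The classification, by induction on the order. -/
theorem tri : ∀ (n : ℕ) (G : Type u) [Group G] [Finite G] (x : G), Nat.card G = n → SC3 x → Tri x := by
  intro n
  induction n using Nat.strong_induction_on with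
  | _ n ih =>
  intro G _ _ x hn hx
  haveI : Fact (Nat.Prime 3) := ⟨Nat.prime_three⟩
  haveI : Fact (Nat.Prime 2) := ⟨Nat.prime_two⟩
  set O := Cfsg.pPrimeCore 3 G with hOdef
  have hO3 : ¬ 3 ∣ Nat.card O := HallCore.not_dvd_card_pPrimeCore 3 G
  have hO : Inv3 x O := inv3_normal hO3 x
  set π := QuotientGroup.mk' O with hπ
  have hsur : Function.Surjective π := QuotientGroup.mk'_surjective O
  have hxq : SC3 (π x) := sc3_quotient hx hO
  have hcardG : Nat.card G = Nat.card (G ⧸ O) * Nat.card O := Subgroup.card_eq_card_quotient_mul_card_subgroup O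
  have hcore : ∀ N : Subgroup (G ⧸ O), N.Normal → ¬ 3 ∣ Nat.card N → N = ⊥ := fun N hN h => by
    haveI := hN
    rw [← le_bot_iff, ← HallCore.pPrimeCore_quotient_self 3 G]
    exact HallCore.le_pPrimeCore ((Nat.Prime.coprime_iff_not_dvd Nat.prime_three).2 h).symm
  rcases core_free hxq hcore with hc | ⟨hsimp, hnc, i, hi, hix⟩
  · refine Or.inl ⟨O, inferInstance, hO, ?_⟩
    rw [hcardG]
    rcases hc with h | h <;> simp [h]
  have hle : Nat.card (G ⧸ O) ≤ n := hn ▸ hcardG ▸ Nat.le_mul_of_pos_right _ Nat.card_pos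
  have hset : Setup (π x) i := by
    refine ⟨hxq, hi, hix, hsimp, hnc, fun H hH hxH => sub_types hxq hxH ?_⟩
    have hlt : Nat.card H < Nat.card (G ⧸ O) :=
      lt_of_le_of_ne (Subgroup.card_le_card_group H) fun e => hH (Subgroup.eq_top_of_card_eq H e)
    refine ih _ (lt_of_lt_of_le hlt hle) H ⟨π x, hxH⟩ rfl ⟨by rw [Subgroup.orderOf_mk, hxq.ord],
      fun g hg => ?_⟩
    rcases hxq.cent g (congrArg Subtype.val hg) with e | e | e
    · exact Or.inl (Subtype.ext e)
    · exact Or.inr (Or.inl (Subtype.ext e))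
    · exact Or.inr (Or.inr (Subtype.ext e))
  have hker : π.ker = O := QuotientGroup.ker_mk' O
  have hS : Smp O := fun K hK hOK => by
    rcases (hK.map π hsur).eq_bot_or_eq_top with e | e
    · exact Or.inl (le_antisymm (by rw [← hker]; exact (Subgroup.map_eq_bot_iff K).1 e) hOK)
    · refine Or.inr ?_
      have hle : π.ker ≤ K := by rw [hker]; exact hOK
      rw [← Subgroup.comap_map_eq_self hle, e, Subgroup.comap_top]
  have hpre : ∀ T' : Subgroup (G ⧸ O), Inv3 (π x) T' → Inv3 x (T'.comap π) := by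
    intro T' hT'
    refine ⟨fun k hk => ?_, fun h3 => ?_⟩
    · show π (x * k * x⁻¹) ∈ T'
      rw [map_mul, map_mul, map_inv]
      exact hT'.inv _ hk
    · obtain ⟨e, he⟩ := exists_prime_orderOf_dvd_card' 3 h3
      have h1 : orderOf (π (e : G)) ∣ Nat.card T' := by
        rw [← Subgroup.orderOf_mk (π (e : G)) e.2]; exact orderOf_dvd_natCard _
      have h2 : orderOf (π (e : G)) ∣ 3 := by
        have := orderOf_map_dvd π (e : G)
        rwa [Subgroup.orderOf_coe, he] at this
      rcases (Nat.dvd_prime Nat.prime_three).1 h2 with h | h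
      · have heO : (e : G) ∈ O := (QuotientGroup.eq_one_iff _).1 (orderOf_eq_one_iff.1 h)
        refine hO3 ?_
        rw [← he, ← Subgroup.orderOf_coe e, ← Subgroup.orderOf_mk (e : G) heO]
        exact orderOf_dvd_natCard _
      · exact hT'.cop (by rw [h] at h1; exact h1)
  have hOle : ∀ T' : Subgroup (G ⧸ O), O ≤ T'.comap π := fun T' m hm => by
    show π m ∈ T'
    rw [show π m = 1 from (QuotientGroup.eq_one_iff m).2 hm]
    exact T'.one_mem
  rcases SelfCentThreeBound.simple_orders hset with ⟨h60, T', hT', hT4⟩ | ⟨h168, A, B, hA, hB, hA1, hA2, hB7⟩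
  · right; left
    set T := T'.comap π with hTdef
    have hT : Inv3 x T := hpre T' hT'
    have hT1 : T' ≠ ⊥ := fun e => by rw [e, Subgroup.card_bot] at hT4; omega
    obtain ⟨⟨s', hs'⟩, hs1⟩ := Subgroup.ne_bot_iff_exists_ne_one.1 hT1
    obtain ⟨s, rfl⟩ := hsur s'
    have hsO : s ∉ O := fun h => hs1 (Subtype.ext ((QuotientGroup.eq_one_iff s).2 h))
    obtain ⟨W, hWT, hW, hW1, -, hWc⟩ := SelfCentThreeSimple.central_involutions hset hT' (by
      rw [hT4]; norm_num)
    have hWe : W = T' := by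
      refine Subgroup.eq_of_le_of_card_ge hWT ?_
      have h1 := hW.card_mod hxq
      have h2 : Nat.card W ≠ 1 := fun e => hW1 (Subgroup.card_eq_one.1 e)
      have := Subgroup.card_le_of_le hWT
      have := Nat.card_pos (α := W)
      omega
    have hsq : ∀ t ∈ T, t * t ∈ O := fun t ht => by
      refine (QuotientGroup.eq_one_iff _).1 ?_
      show π (t * t) = 1
      rw [map_mul]
      exact (hWc _ (hWe ▸ (ht : π t ∈ T'))).1
    refine ⟨O, T, inferInstance, lt_of_le_of_ne (hOle T') fun e => hsO (e ▸ (hs' : s ∈ T)), hT,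
      sq_eq_one hx hS hT (hOle T') hs' hsO hsq, by rw [hcardG, h60], hS⟩
  · right; right
    have helt : ∀ (p : ℕ) (T' : Subgroup (G ⧸ O)), p.Prime → IsPGroup p T' → T' ≠ ⊥ →
        ∃ (t : G) (a : ℕ), t ∈ T'.comap π ∧ t ∉ O ∧ t ^ p ^ a = 1 := by
      intro p T' hp hTp hT1
      obtain ⟨⟨q, hq⟩, hq1⟩ := Subgroup.ne_bot_iff_exists_ne_one.1 hT1
      obtain ⟨u, rfl⟩ := hsur q
      set m := orderOf u / p ^ (orderOf u).factorization p
      refine ⟨u ^ m, (orderOf u).factorization p, ?_, ?_, ?_⟩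
      · show π (u ^ m) ∈ T'
        rw [map_pow]; exact T'.pow_mem hq m
      · intro h
        have h1 : π u ^ m = 1 := by rw [← map_pow]; exact (QuotientGroup.eq_one_iff _).2 h
        obtain ⟨k, hk⟩ := hTp ⟨π u, hq⟩
        have h2 : π u ^ p ^ k = 1 := congrArg Subtype.val hk
        have hco : m.Coprime (p ^ k) :=
          ((Nat.coprime_ordCompl hp (orderOf_pos u).ne').symm).pow_right k
        have := pow_gcd_eq_one.2 ⟨h1, h2⟩
        rw [hco.gcd_eq_one, pow_one] at this
        exact hq1 (Subtype.ext this)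
      · rw [← pow_mul, Nat.div_mul_cancel (Nat.ordProj_dvd _ p), pow_orderOf_eq_one]
    obtain ⟨t, a, ht, htO, hta⟩ := helt 2 A Nat.prime_two hA2 hA1
    haveI : Fact (Nat.Prime 7) := ⟨by norm_num⟩
    obtain ⟨t', a', ht', htO', hta'⟩ := helt 7 B (by norm_num) (IsPGroup.of_card (n := 1) (by rw [hB7, pow_one]))
      (fun e => by rw [e, Subgroup.card_bot] at hB7; omega)
    have hO1 : O = ⊥ := by
      by_contra hne
      obtain ⟨r, hr, hrd⟩ := Nat.exists_prime_and_dvd (fun e => hne (Subgroup.card_eq_one.1 e))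
      rcases eq_or_ne r 2 with rfl | h2
      · exact prime_dvd hx hS (hpre B hB) (hOle B) hr (by norm_num : (2 : ℕ) ≠ 7) (by norm_num) ht' htO'
          hta' hrd
      · exact prime_dvd hx hS (hpre A hA) (hOle A) hr h2 Nat.prime_two ht htO hta hrd
    have hG : Nat.card G = 168 := by rw [hcardG, h168, hO1, Subgroup.card_bot, mul_one]
    haveI : Nontrivial G := Finite.one_lt_card_iff_nontrivial.1 (by omega)
    refine ⟨⟨fun K hK => ?_⟩, hG⟩
    exact hO1 ▸ hS K hK (hO1 ▸ bot_le)

end Cfsg.Agent.SelfCentThreeMain
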