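import Cfsg.Agent.Lib.A8ThreeLocalSylow45
import Cfsg.Agent.Lib.SelfCentThreeMain
import Cfsg.Agent.Lib.HallNilpotentConj

/-!
The centraliser of a fixed-point-free involution lies in the image and has order 192.
-/

set_option autoImplicit false

namespace Cfsg.Agent.A8ThreeLocal45

open Equiv Equiv.Perm SelfCentThreeBase SelfCentThreeMain

set_option maxRecDepth 100000

variable {G : Type*} [Group G] [Finite G] {f : S8 → G} {D : Subgroup G}

def uS : S8 := v1 * a1
def h0 : S8 := cy 0 * cy 1 * cy 2 * cy 3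
def g1 : S8 := cy 1 * cy 0 * cy 3 * cy 5
def p1 : S8 := d2 0 3 1 4
def s67 : S8 := swap 6 7

theorem sign_tau : sign tau = 1 := by decide +kernel
theorem sign_uS : sign uS = 1 := by decide +kernel
theorem sign_h0 : sign h0 = 1 := by decide +kernel
theorem sign_g1 : sign g1 = 1 := by decide +kernel
theorem h0_uS : h0 * uS * h0⁻¹ = tau := by decide +kernel
theorem uS_comm : ∀ p, sP p * uS = uS * sP p := by
  intro p
  have h1 : ∀ e, eE e * uS = uS * eE e := by decide +kernel
  have h2 : ∀ c, cE c * uS = uS * cE c := by decide +kernel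
  rw [sP, mul_assoc, h2, ← mul_assoc, h1, mul_assoc]

theorem cent_y_tau {l : S8} (hl : sign l = 1) (hy : l * y0 = y0 * l) (ht : l * tau = tau * l) :
    ∃ (k : Fin 3) (m : Fin 2), l = y0 ^ k.val * tau ^ m.val := by
  have cy' : ∀ i, l (y0 i) = y0 (l i) := fun i => congrArg (· i) hy
  have ct' : ∀ i, l (tau i) = tau (l i) := fun i => congrArg (· i) ht
  have e0' := cy' 0; have e1' := cy' 1; have e2' := cy' 6; have e3' := ct' 0; have e4' := ct' 1
  have e5' := ct' 2; have e6' := ct' 6
  rw [show y0 0 = 1 by decide +kernel] at e0'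
  rw [show y0 1 = 2 by decide +kernel] at e1'
  rw [show y0 6 = 6 by decide +kernel] at e2'
  rw [show tau 0 = 3 by decide +kernel] at e3'
  rw [show tau 1 = 4 by decide +kernel] at e4'
  rw [show tau 2 = 5 by decide +kernel] at e5'
  rw [show tau 6 = 7 by decide +kernel] at e6'
  have key : ∀ a b : Fin 8, b = y0 b → tau a ≠ a → a ≠ b → a ≠ tau b → y0 a ≠ a →
      ∃ (k : Fin 3) (m n : Fin 2),
        (y0 ^ k.val * tau ^ m.val * s67 ^ n.val) 0 = a ∧
        (y0 ^ k.val * tau ^ m.val * s67 ^ n.val) 6 = b := by decide +kernel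
  have hne : ∀ {i j : Fin 8}, i ≠ j → l i ≠ l j := fun h e => h (l.injective e)
  obtain ⟨k, m, n, ka, kb⟩ := key (l 0) (l 6) e2'
    (fun e => hne (by decide : (3 : Fin 8) ≠ 0) (by rw [e3', e]))
    (hne (by decide)) (fun e => hne (by decide : (0 : Fin 8) ≠ 7) (by rw [e6', e]))
    (fun e => hne (by decide : (1 : Fin 8) ≠ 0) (by rw [e0', e]))
  suffices hl' : l = y0 ^ k.val * tau ^ m.val * s67 ^ n.val by
    refine ⟨k, m, ?_⟩
    have hn : n = 0 := (by decide +kernel : ∀ (k : Fin 3) (m n : Fin 2),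
      sign (y0 ^ k.val * tau ^ m.val * s67 ^ n.val) = 1 → n = 0) k m n (hl' ▸ hl)
    simpa [hn] using hl'
  refine Equiv.ext fun i => ?_
  set g := y0 ^ k.val * tau ^ m.val * s67 ^ n.val
  have cg : ∀ i, g (y0 i) = y0 (g i) := fun i => congrArg (· i)
    ((by decide +kernel : ∀ (k : Fin 3) (m n : Fin 2), y0 ^ k.val * tau ^ m.val * s67 ^ n.val * y0 =
      y0 * (y0 ^ k.val * tau ^ m.val * s67 ^ n.val)) k m n)
  have tg : ∀ i, g (tau i) = tau (g i) := fun i => congrArg (· i)
    ((by decide +kernel : ∀ (k : Fin 3) (m n : Fin 2), y0 ^ k.val * tau ^ m.val * s67 ^ n.val * tau =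
      tau * (y0 ^ k.val * tau ^ m.val * s67 ^ n.val)) k m n)
  have a1' : l 1 = g 1 := by
    rw [e0', ← ka, ← cg, show y0 0 = 1 by decide +kernel]
  have a2' : l 2 = g 2 := by rw [e1', a1', ← cg, show y0 1 = 2 by decide +kernel]
  have a3' : l 3 = g 3 := by rw [e3', ← ka, ← tg, show tau 0 = 3 by decide +kernel]
  have a4' : l 4 = g 4 := by rw [e4', a1', ← tg, show tau 1 = 4 by decide +kernel]
  have a5' : l 5 = g 5 := by rw [e5', a2', ← tg, show tau 2 = 5 by decide +kernel]
  have a7' : l 7 = g 7 := by rw [e6', ← kb, ← tg, show tau 6 = 7 by decide +kernel]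
  fin_cases i
  exacts [ka.symm, a1', a2', a3', a4', a5', kb.symm, a7']

theorem sP_central : ∀ p : SIdx,
    (sP p * eE ((1, 0), 0) = eE ((1, 0), 0) * sP p ∧ sP p * eE ((0, 1), 0) = eE ((0, 1), 0) * sP p ∧
      sP p * eE (0, (1, 0)) = eE (0, (1, 0)) * sP p ∧ sP p * eE (0, (0, 1)) = eE (0, (0, 1)) * sP p ∧
      sP p * cE (1, 0) = cE (1, 0) * sP p ∧ sP p * cE (0, 1) = cE (0, 1) * sP p) →
    sP p = 1 ∨ sP p = uS := by decide +kernel

namespace Full

variable (h : Full f D)
include h

theorem tau_sq : f tau * f tau = 1 := by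
  rw [← h.mul _ _ sign_tau sign_tau, show tau * tau = 1 by decide +kernel, h.map_one]

theorem tau_ne : f tau ≠ 1 := fun e => by
  have := h.inj _ sign_tau e
  revert this; decide +kernel

theorem y_cube : f y0 * f y0 * f y0 = 1 := by
  rw [← h.mul _ _ y0_mem.1 y0_mem.1, ← h.mul _ _ (by decide +kernel) y0_mem.1,
    show y0 * y0 * y0 = 1 by decide +kernel, h.map_one]

theorem y_ne' : f y0 ≠ 1 := fun e => by
  have := h.inj _ y0_mem.1 e
  revert this; decide +kernel

/-- an involution centralising the Sylow 2-subgroup is `f uS` -/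
theorem central_eq {x : G} (hx : x * x = 1) (hx1 : x ≠ 1)
    (hc : ∀ p, x * f (sP p) = f (sP p) * x) : x = f uS := by
  haveI : Fact (Nat.Prime 2) := ⟨Nat.prime_two⟩
  have hcomm : ∀ a ∈ h.syl, ∀ b ∈ Subgroup.zpowers x, a * b = b * a := by
    rintro _ ⟨p, rfl⟩ b hb
    obtain ⟨n, rfl⟩ := Subgroup.mem_zpowers_iff.1 hb
    exact (Commute.zpow_left (show Commute x (f (sP p)) from hc p) n).eq.symm
  set K := prodComm h.syl (Subgroup.zpowers x) hcomm
  have hle : h.syl ≤ K := fun a ha => ⟨a, ha, 1, one_mem _, (mul_one a).symm⟩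
  have hxK : x ∈ K := ⟨1, one_mem _, x, Subgroup.mem_zpowers x, (one_mul x).symm⟩
  have hxs : x ∈ h.syl := by
    by_contra hns
    have hp : IsPGroup 2 K := by
      rintro ⟨_, a, ha, b, hb, rfl⟩
      refine ⟨6, Subtype.ext ?_⟩
      show (a * b) ^ (2 ^ 6) = 1
      have h1 : a ^ 64 = 1 := by
        have := pow_card_eq_one' (x := (⟨a, ha⟩ : h.syl))
        rw [h.card_syl] at this
        simpa using congrArg Subtype.val this
      have h2 : b ^ 64 = 1 := by
        obtain ⟨n, rfl⟩ := Subgroup.mem_zpowers_iff.1 hb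
        have e : x ^ (2 : ℕ) = 1 := by rw [pow_two, hx]
        rw [show 64 = 2 * 32 from rfl, pow_mul, ← zpow_natCast (x ^ n) 2, ← zpow_mul, mul_comm,
          zpow_mul, zpow_natCast, e, one_zpow, one_pow]
      rw [show (2 : ℕ) ^ 6 = 64 by norm_num, (show Commute a b from hcomm a ha b hb).mul_pow, h1, h2,
        one_mul]
    obtain ⟨n, hn⟩ := IsPGroup.iff_card.1 hp
    have h7 : 7 ≤ n := by
      by_contra hlt
      apply hns
      have : h.syl = K := Subgroup.eq_of_le_of_card_ge hle (by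
        rw [hn, h.card_syl, show 64 = 2 ^ 6 by norm_num]
        exact Nat.pow_le_pow_right (by norm_num) (by omega))
      rw [this]; exact hxK
    exact h.not_dvd_128 ((pow_dvd_pow 2 h7).trans (hn ▸ Subgroup.card_subgroup_dvd_card K))
  obtain ⟨p, rfl⟩ := hxs
  have hc' : ∀ q, sP p * sP q = sP q * sP p := fun q => h.comm' (sign_sP p) (sign_sP q) (hc q)
  have hgen : ∀ e, sP (e, 0) = eE e := fun e => by rw [sP, cE_zero, mul_one]
  have hgen' : ∀ c, sP (0, c) = cE c := fun c => by rw [sP, eE_zero, one_mul]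
  rcases sP_central p ⟨hgen _ ▸ hc' _, hgen _ ▸ hc' _, hgen _ ▸ hc' _, hgen _ ▸ hc' _,
    hgen' _ ▸ hc' _, hgen' _ ▸ hc' _⟩ with e | e
  · exact absurd (by rw [e, h.map_one]) hx1
  · rw [e]

set_option maxHeartbeats 700000 in
theorem card_cent_tau : Nat.card (Subgroup.centralizer ({f tau} : Set G)) = 192 ∧
    Subgroup.centralizer ({f tau} : Set G) ≤ h.rng := by
  classical
  haveI : Fact (Nat.Prime 2) := ⟨Nat.prime_two⟩
  haveI : Fact (Nat.Prime 3) := ⟨Nat.prime_three⟩
  set C := Subgroup.centralizer ({f tau} : Set G) with hCdef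
  have inC : ∀ {x : S8}, sign x = 1 → x * tau = tau * x → f x ∈ C := fun hx e =>
    mem_cent_singleton.2 (h.comm hx sign_tau e)
  -- the part inside the image
  have h192 : 192 ∣ Nat.card (C ⊓ h.rng : Subgroup G) := by
    have h64 : 64 ∣ Nat.card (C ⊓ h.rng : Subgroup G) := by
      set S' := h.syl.map (MulAut.conj (f h0)).toMonoidHom
      have hc : Nat.card S' = 64 := by
        rw [← h.card_syl]
        exact (Nat.card_congr
          (h.syl.equivMapOfInjective _ (MulAut.conj (f h0)).injective).toEquiv).symm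
      rw [← hc]
      refine Subgroup.card_dvd_of_le ?_
      rintro _ ⟨_, ⟨p, rfl⟩, rfl⟩
      simp only [MulEquiv.coe_toMonoidHom, MulAut.conj_apply]
      rw [← h.conj sign_h0 (sign_sP p)]
      have hsg : sign (h0 * sP p * h0⁻¹) = 1 := by simp [sign_sP p]
      refine Subgroup.mem_inf.2 ⟨inC hsg ?_, h.mem_rng hsg⟩
      rw [← h0_uS]
      calc h0 * sP p * h0⁻¹ * (h0 * uS * h0⁻¹) = h0 * (sP p * uS) * h0⁻¹ := by group
        _ = _ := by rw [uS_comm]; group
    have h3 : 3 ∣ Nat.card (C ⊓ h.rng : Subgroup G) := by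
      rw [← card_zpowers_three h.y_cube h.y_ne']
      exact Subgroup.card_dvd_of_le (Subgroup.zpowers_le.2
        (Subgroup.mem_inf.2 ⟨inC y0_mem.1 (by decide +kernel), h.mem_rng y0_mem.1⟩))
    exact Nat.Coprime.mul_dvd_of_dvd_of_dvd (by norm_num : Nat.Coprime 64 3) h64 h3
  have hC64 : 64 ∣ Nat.card C :=
    ((by norm_num : 64 ∣ 192).trans h192).trans (Subgroup.card_dvd_of_le inf_le_left)
  have hC128 : ¬ 128 ∣ Nat.card C := fun hd =>
    h.not_dvd_128 (hd.trans (Subgroup.card_subgroup_dvd_card C))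
  suffices hcard : Nat.card C = 192 by
    refine ⟨hcard, inf_eq_left.1 (Subgroup.eq_of_le_of_card_ge inf_le_left ?_)⟩
    rw [hcard]
    exact Nat.le_of_dvd Nat.card_pos h192
  -- the quotient by `⟨f tau⟩`
  set uC : C := ⟨f tau, mem_cent_singleton.2 rfl⟩
  set yC : C := ⟨f y0, inC y0_mem.1 (by decide +kernel)⟩
  set aC : C := ⟨f a0, inC a0_mem.1 (by decide +kernel)⟩
  set Z : Subgroup C := Subgroup.zpowers uC
  have hucen : ∀ g : C, g * uC = uC * g := fun g => Subtype.ext (mem_cent_singleton.1 g.2)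
  haveI hZn : Z.Normal := ⟨fun z hz g => by
    obtain ⟨n, rfl⟩ := Subgroup.mem_zpowers_iff.1 hz
    rw [(Commute.zpow_right (show Commute g uC from hucen g) n).eq, mul_assoc, mul_inv_cancel,
      mul_one]
    exact Subgroup.zpow_mem _ (Subgroup.mem_zpowers _) n⟩
  set π := QuotientGroup.mk' Z with hπ
  have hu2 : uC * uC = 1 := Subtype.ext h.tau_sq
  have hu1 : uC ≠ 1 := fun e => h.tau_ne (congrArg Subtype.val e)
  have hZmem : ∀ g : C, g ∈ Z ↔ g = 1 ∨ g = uC := by
    intro g
    constructor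
    · intro hg
      obtain ⟨n, rfl⟩ := Subgroup.mem_zpowers_iff.1 hg
      rcases Int.even_or_odd n with ⟨k, rfl⟩ | ⟨k, rfl⟩
      · left; rw [zpow_add, ← (Commute.refl uC).mul_zpow, hu2, one_zpow]
      · right; rw [zpow_add_one, two_mul, zpow_add, ← (Commute.refl uC).mul_zpow, hu2, one_zpow,
          one_mul]
    · rintro (rfl | rfl)
      · exact one_mem _
      · exact Subgroup.mem_zpowers _
  have hy3 : yC * yC * yC = 1 := Subtype.ext h.y_cube
  have hsc : SC3 (π yC) := by
    refine ⟨orderOf_eq_prime (by rw [← _root_.map_pow, pow_succ, pow_two, hy3, _root_.map_one]) ?_, ?_⟩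
    · intro e
      rcases (hZmem _).1 ((QuotientGroup.eq_one_iff yC).1 e) with e' | e'
      · exact h.y_ne' (congrArg Subtype.val e')
      · rw [e', hu2, one_mul] at hy3
        exact hu1 hy3
    · intro g' hg'
      obtain ⟨g, rfl⟩ := QuotientGroup.mk'_surjective Z g'
      have hmem : g * yC * g⁻¹ * yC⁻¹ ∈ Z := by
        refine (QuotientGroup.eq_one_iff _).1 ?_
        show π (g * yC * g⁻¹ * yC⁻¹) = 1
        have hg'' : π g * π yC = π yC * π g := hg'
        rw [_root_.map_mul, _root_.map_mul, _root_.map_mul, _root_.map_inv, _root_.map_inv, hg'']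
        group
      have hgy : g * yC * g⁻¹ = yC := by
        rcases (hZmem _).1 hmem with e | e
        · exact mul_inv_eq_one.1 e
        · exfalso
          have e' : g * yC * g⁻¹ = uC * yC := mul_inv_eq_iff_eq_mul.1 e
          have h3 : (uC * yC) * (uC * yC) * (uC * yC) = 1 := by
            rw [← e', show g * yC * g⁻¹ * (g * yC * g⁻¹) * (g * yC * g⁻¹) =
              g * (yC * yC * yC) * g⁻¹ by group, hy3]
            group
          apply hu1
          calc uC = uC * (uC * uC) * (yC * yC * yC) := by rw [hu2, hy3]; group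
            _ = uC * uC * (uC * yC) * yC * yC := by group
            _ = uC * uC * (yC * uC) * yC * yC := by rw [← hucen yC]
            _ = uC * (uC * yC) * (uC * yC) * yC := by group
            _ = uC * (uC * yC) * (yC * uC) * yC := by rw [← hucen yC]
            _ = uC * (uC * yC) * yC * (uC * yC) := by group
            _ = uC * yC * (uC * yC) * (uC * yC) := by
              rw [show uC * (uC * yC) * yC = uC * yC * (uC * yC) by
                rw [show uC * yC * (uC * yC) = uC * (yC * uC) * yC by group, hucen yC]]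
            _ = 1 := h3
      have hgy' : (g : G) * f y0 * (g : G)⁻¹ = f y0 := congrArg Subtype.val hgy
      obtain ⟨l, hl, hlg⟩ := h.cent_y g (mul_inv_eq_iff_eq_mul.1 hgy')
      have hgt : (g : G) * f tau = f tau * g := mem_cent_singleton.1 g.2
      rw [← hlg] at hgt hgy'
      obtain ⟨k, m, rfl⟩ := cent_y_tau hl (h.comm' hl y0_mem.1 (mul_inv_eq_iff_eq_mul.1 hgy'))
        (h.comm' hl sign_tau hgt)
      have hpow : ∀ {x : S8}, sign x = 1 → ∀ n : ℕ, f (x ^ n) = f x ^ n := by
        intro x hx n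
        induction n with
        | zero => simp [h.map_one]
        | succ n ih => rw [pow_succ, h.mul _ _ (by rw [_root_.map_pow, hx, one_pow]) hx, ih, pow_succ]
      have hg : g = yC ^ k.val * uC ^ m.val := by
        apply Subtype.ext
        rw [← hlg, h.mul _ _ (by rw [_root_.map_pow, y0_mem.1, one_pow])
          (by rw [_root_.map_pow, sign_tau, one_pow]), hpow y0_mem.1, hpow sign_tau]
        simp [uC, yC]
      have hu : π uC = 1 := (QuotientGroup.eq_one_iff _).2 (Subgroup.mem_zpowers _)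
      rw [hg, _root_.map_mul, _root_.map_pow, _root_.map_pow, hu, one_pow, mul_one]
      fin_cases k
      · left; exact pow_zero _
      · right; left; exact pow_one _
      · right; right
        refine eq_inv_of_mul_eq_one_left ?_
        rw [← pow_succ, ← _root_.map_pow, pow_succ, pow_two, hy3, _root_.map_one]
  have hZ2 : Nat.card Z = 2 := by
    rw [Nat.card_zpowers]; exact orderOf_eq_prime (by rw [pow_two, hu2]) hu1
  have hQ : Nat.card C = 2 * Nat.card (C ⧸ Z) := by
    rw [Subgroup.card_eq_card_quotient_mul_card_subgroup Z, hZ2, mul_comm]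
  rcases tri _ (C ⧸ Z) (π yC) rfl hsc with ⟨N, hN, hNi, hc⟩ | ⟨N, T, hN, hNT, hT, hsq, hc, -⟩ |
      ⟨-, hc⟩
  rotate_left
  · -- `Alt(5)` on top
    exfalso
    have hN2 : IsPGroup 2 N := fun n => ⟨1, Subtype.ext (by simpa [pow_two] using hsq _ n.2)⟩
    obtain ⟨k, hk⟩ := IsPGroup.iff_card.1 hN2
    have hi : Inv3 (π yC) N :=
      ⟨fun n hn => hN.conj_mem n hn _, fun hd => hT.cop (hd.trans (Subgroup.card_dvd_of_le hNT.le))⟩
    have h1 := hi.card_mod hsc
    rw [hc, hk] at hQ
    rw [hQ] at hC64 hC128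
    rw [hk] at h1
    have : k = 3 := by
      by_contra hk3
      rcases Nat.lt_or_gt_of_ne hk3 with h' | h'
      · interval_cases k <;> norm_num at hC64
      · apply hC128
        obtain ⟨j, rfl⟩ : ∃ j, k = 4 + j := ⟨k - 4, by omega⟩
        exact ⟨15 * 2 ^ j, by rw [pow_add]; ring⟩
    subst this
    norm_num at h1
  · -- `PSL(2,7)`
    exfalso
    rw [hc] at hQ
    rw [hQ] at hC64
    norm_num at hC64
  haveI := hN
  -- `M`, nilpotent of index 6
  set M : Subgroup C := N.comap π
  haveI hMn : M.Normal := hN.comap π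
  have hMcard : Nat.card M = 2 * Nat.card N := by
    have h1 := M.card_mul_index
    rw [Subgroup.index_comap_of_surjective N (QuotientGroup.mk'_surjective Z), hQ,
      ← N.card_mul_index, ← mul_assoc] at h1
    exact Nat.eq_of_mul_eq_mul_right (Nat.pos_of_ne_zero N.index_ne_zero_of_finite) h1
  haveI hMnil : Group.IsNilpotent M := by
    haveI := hNi.isNilpotent hsc
    refine Subgroup.isNilpotent_of_ker_le_center (π.subgroupComap N) ?_
    intro m hm
    rw [Subgroup.mem_center_iff]
    intro m'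
    have hmz : (m : C) ∈ Z := by
      have h1 : π (m : C) = 1 := congrArg Subtype.val hm
      exact (QuotientGroup.eq_one_iff _).1 h1
    apply Subtype.ext
    rcases (hZmem _).1 hmz with e | e <;> simp [Subgroup.coe_mul, e, hucen]
  have hy2 : π yC ∉ N := fun hh => hNi.cop (hsc.ord ▸ Subgroup.orderOf_dvd_natCard _ hh)
  have hinv : aC * yC * aC⁻¹ = yC⁻¹ := by
    apply Subtype.ext
    show f a0 * f y0 * (f a0)⁻¹ = (f y0)⁻¹
    rw [← h.conj a0_mem.1 y0_mem.1, ← h.map_inv y0_mem.1,
      show a0 * y0 * a0⁻¹ = y0⁻¹ by decide +kernel]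
  set ρ := (QuotientGroup.mk' N).comp π
  have hρy : ρ yC ≠ 1 := fun e => hy2 ((QuotientGroup.eq_one_iff _).1 e)
  have hρy3 : orderOf (ρ yC) = 3 :=
    orderOf_eq_prime (by rw [← _root_.map_pow, pow_succ, pow_two, hy3, _root_.map_one]) hρy
  have h6 : Nat.card (C ⧸ Z) = 6 * Nat.card N := by
    rcases hc with e | e
    · exfalso
      have hq3 : Nat.card ((C ⧸ Z) ⧸ N) = 3 := by
        have := Subgroup.card_eq_card_quotient_mul_card_subgroup N
        rw [e] at this
        exact (Nat.eq_of_mul_eq_mul_right Nat.card_pos this).symm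
      haveI : IsCyclic ((C ⧸ Z) ⧸ N) := isCyclic_of_prime_card hq3
      letI : CommGroup ((C ⧸ Z) ⧸ N) := IsCyclic.commGroup
      have h1 := congrArg ρ hinv
      rw [_root_.map_mul, _root_.map_mul, _root_.map_inv, _root_.map_inv, mul_comm (ρ aC), mul_assoc, mul_inv_cancel,
        mul_one] at h1
      have h2 : ρ yC ^ 2 = 1 := by
        rw [pow_two]
        calc ρ yC * ρ yC = (ρ yC)⁻¹ * ρ yC := by rw [← h1]
          _ = 1 := inv_mul_cancel _
      have := orderOf_dvd_of_pow_eq_one h2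
      rw [hρy3] at this
      norm_num at this
    · exact e
  have hq6 : Nat.card ((C ⧸ Z) ⧸ N) = 6 := by
    have := Subgroup.card_eq_card_quotient_mul_card_subgroup N
    rw [h6] at this
    exact (Nat.eq_of_mul_eq_mul_right Nat.card_pos this).symm
  -- `v` lies in `M`
  set vC : C := ⟨f p1, inC (by decide +kernel) (by decide +kernel)⟩
  have hv2 : vC * vC = 1 := by
    apply Subtype.ext
    show f p1 * f p1 = 1
    have s1 : sign p1 = 1 := by decide +kernel
    rw [← h.mul _ _ s1 s1, show p1 * p1 = 1 by decide +kernel, h.map_one]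
  have hvy : vC * (yC * vC * yC⁻¹) * (vC * (yC * vC * yC⁻¹)) = 1 := by
    apply Subtype.ext
    show f p1 * (f y0 * f p1 * (f y0)⁻¹) * (f p1 * (f y0 * f p1 * (f y0)⁻¹)) = 1
    have s1 : sign p1 = 1 := by decide +kernel
    have s2 : sign (y0 * p1 * y0⁻¹) = 1 := by decide +kernel
    have s3 : sign (p1 * (y0 * p1 * y0⁻¹)) = 1 := by decide +kernel
    rw [← h.conj y0_mem.1 s1, ← h.mul _ _ s1 s2, ← h.mul _ _ s3 s3,
      show p1 * (y0 * p1 * y0⁻¹) * (p1 * (y0 * p1 * y0⁻¹)) = 1 by decide +kernel, h.map_one]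
  have hvM : vC ∈ M := by
    show π vC ∈ N
    refine (QuotientGroup.eq_one_iff _).1 ?_
    show ρ vC = 1
    by_contra hv1
    set Y := Subgroup.zpowers (ρ yC)
    have hY : Y.index = 2 := by
      have := Y.card_mul_index
      rw [Nat.card_zpowers, hρy3, hq6] at this
      omega
    have hsq : ∀ g : (C ⧸ Z) ⧸ N, g * g = 1 → g ≠ 1 → g ∉ Y := by
      intro g hg hg1 hgY
      rcases (mem_zpowers_three (show ρ yC * ρ yC * ρ yC = 1 by
        rw [← _root_.map_mul, ← _root_.map_mul, hy3, _root_.map_one])).1 hgY with e | e | e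
      · exact hg1 e
      · rw [e] at hg
        have := orderOf_dvd_of_pow_eq_one (show ρ yC ^ 2 = 1 by rw [pow_two, hg])
        rw [hρy3] at this; norm_num at this
      · rw [e, ← mul_inv_rev, inv_eq_one] at hg
        have := orderOf_dvd_of_pow_eq_one (show ρ yC ^ 2 = 1 by rw [pow_two, hg])
        rw [hρy3] at this; norm_num at this
    have ha2 : ρ aC * ρ aC = 1 := by
      rw [← _root_.map_mul, show aC * aC = 1 from Subtype.ext (by
        show f a0 * f a0 = 1
        rw [← h.mul _ _ a0_mem.1 a0_mem.1, show a0 * a0 = 1 by decide +kernel, h.map_one]), _root_.map_one]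
    have hainv : ρ aC * ρ yC * (ρ aC)⁻¹ = (ρ yC)⁻¹ := by
      rw [← _root_.map_inv, ← _root_.map_inv, ← _root_.map_mul, ← _root_.map_mul, hinv]
    have ha1 : ρ aC ≠ 1 := by
      intro e
      rw [e, one_mul, inv_one, mul_one] at hainv
      have := orderOf_dvd_of_pow_eq_one
        (show ρ yC ^ 2 = 1 by rw [pow_two]; nth_rewrite 1 [hainv]; exact inv_mul_cancel _)
      rw [hρy3] at this; norm_num at this
    have hvv : ρ vC * ρ vC = 1 := by rw [← _root_.map_mul, hv2, _root_.map_one]
    have hav : ρ aC * ρ vC ∈ Y := (Subgroup.mul_mem_iff_of_index_two hY).2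
      (iff_of_false (hsq _ ha2 ha1) (hsq _ hvv hv1))
    obtain ⟨n, hn⟩ := Subgroup.mem_zpowers_iff.1 hav
    have hvinv : ρ vC * ρ yC * (ρ vC)⁻¹ = (ρ yC)⁻¹ := by
      have e : ρ vC = ρ aC * ρ yC ^ n := by
        rw [hn, ← mul_assoc, ha2, one_mul]
      rw [e]
      calc ρ aC * ρ yC ^ n * ρ yC * (ρ aC * ρ yC ^ n)⁻¹
          = ρ aC * (ρ yC ^ n * ρ yC * (ρ yC ^ n)⁻¹) * (ρ aC)⁻¹ := by group
        _ = ρ aC * ρ yC * (ρ aC)⁻¹ := by
            rw [((Commute.refl (ρ yC)).zpow_left n).eq, mul_assoc (ρ yC), mul_inv_cancel, mul_one]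
        _ = _ := hainv
    have hX : ρ vC * (ρ yC * ρ vC * (ρ yC)⁻¹) = ρ yC := by
      calc ρ vC * (ρ yC * ρ vC * (ρ yC)⁻¹) = ρ vC * ρ yC * (ρ vC)⁻¹ * (ρ vC * ρ vC) * (ρ yC)⁻¹ := by
            group
        _ = ρ yC := by
          rw [hvinv, hvv, mul_one, ← mul_inv_rev]
          refine inv_eq_of_mul_eq_one_right ?_
          rw [← _root_.map_mul, ← _root_.map_mul, hy3, _root_.map_one]
    have h2 := congrArg ρ hvy
    simp only [_root_.map_mul, _root_.map_inv, _root_.map_one] at h2
    rw [hX] at h2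
    have := orderOf_dvd_of_pow_eq_one (show ρ yC ^ 2 = 1 by rw [pow_two, h2])
    rw [hρy3] at this
    norm_num at this
  -- `M` is a 2-group
  have hMp : IsPGroup 2 M := by
    refine IsPGroup.of_card (n := (Nat.card M).primeFactorsList.length)
      (Nat.eq_prime_pow_of_unique_prime_dvd Nat.card_pos.ne' ?_)
    intro q hq hqd
    by_contra hq2
    haveI : Fact q.Prime := ⟨hq⟩
    have hq3 : q ≠ 3 := by
      rintro rfl
      rw [hMcard] at hqd
      rcases (Nat.Prime.dvd_mul Nat.prime_three).1 hqd with e | e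
      · norm_num at e
      · exact hNi.cop e
    obtain ⟨P⟩ := (inferInstance : Nonempty (Sylow q M))
    have hPn : (P : Subgroup M).Normal := by
      have hall := (Group.isNilpotent_of_finite_tfae (G := M)).out 0 3
      exact hall.1 hMnil q ‹_› P
    haveI := Sylow.characteristic_of_normal P hPn
    set Qm : Subgroup C := (P : Subgroup M).map M.subtype
    haveI hQn : Qm.Normal := ConjAct.normal_of_characteristic_of_normal
    have hQM : Qm ≤ M := Subgroup.map_subtype_le _
    have hQp : IsPGroup q Qm := P.isPGroup'.map _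
    have hord : ∀ x ∈ Qm, ∀ n : ℕ, n.Coprime q → x ^ n = 1 → x = 1 := by
      intro x hx n hn e
      obtain ⟨k, hk⟩ := hQp ⟨x, hx⟩
      have h1 : orderOf x ∣ q ^ k := orderOf_dvd_of_pow_eq_one (congrArg Subtype.val hk)
      exact orderOf_eq_one_iff.1 (Nat.eq_one_of_dvd_coprimes (Nat.Coprime.pow_left k hn.symm) h1
        (orderOf_dvd_of_pow_eq_one e))
    have hqc : Nat.Coprime 2 q := (Nat.coprime_primes Nat.prime_two hq).2 (Ne.symm hq2)
    have hq3c : Nat.Coprime 3 q := (Nat.coprime_primes Nat.prime_three hq).2 (Ne.symm hq3)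
    -- elements of `Qm` centralised by `aC` are trivial
    have hfree : ∀ x ∈ Qm, aC * x * aC⁻¹ = x → x = 1 := by
      intro x hx hxa
      refine hord x hx 6 (Nat.Coprime.mul_left hqc hq3c) ?_
      have hvx : Commute (⟨vC, hvM⟩ : M) ⟨x, hQM hx⟩ := by
        refine HallNilpotentConj.commute_of_coprime_orderOf M _ _ ?_
        obtain ⟨k, hk⟩ := hQp ⟨x, hx⟩
        have h1 : orderOf (⟨x, hQM hx⟩ : M) ∣ q ^ k :=
          orderOf_dvd_of_pow_eq_one (Subtype.ext (by simpa using congrArg Subtype.val hk))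
        have h2 : orderOf (⟨vC, hvM⟩ : M) ∣ 2 :=
          orderOf_dvd_of_pow_eq_one (Subtype.ext (by rw [pow_two]; exact hv2))
        exact (Nat.Coprime.coprime_dvd_left h2 (Nat.Coprime.coprime_dvd_right h1 (hqc.pow_right k)))
      have c1 : f p1 * (x : G) = x * f p1 :=
        congrArg (fun t : M => ((t : C) : G)) hvx.eq
      have c2 : f a0 * (x : G) = x * f a0 :=
        mul_inv_eq_iff_eq_mul.1 (congrArg Subtype.val hxa)
      rw [show p1 = g1 * v1 * g1⁻¹ by decide +kernel, h.conj sign_g1 v1_mem.1] at c1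
      rw [show a0 = g1 * v2 * g1⁻¹ by decide +kernel, h.conj sign_g1 v2_mem.1] at c2
      obtain ⟨qq, pp, i, e⟩ := h.cent_V ((f g1)⁻¹ * x * f g1)
        (by calc (f g1)⁻¹ * x * f g1 * f v1 =
              (f g1)⁻¹ * (x * (f g1 * f v1 * (f g1)⁻¹)) * f g1 := by group
              _ = _ := by rw [← c1]; group)
        (by calc (f g1)⁻¹ * x * f g1 * f v2 =
              (f g1)⁻¹ * (x * (f g1 * f v2 * (f g1)⁻¹)) * f g1 := by group
              _ = _ := by rw [← c2]; group)
      obtain ⟨sl, l6⟩ := (by decide +kernel : ∀ (q p : Fin 2 × Fin 2) (i : Fin 3),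
        sign (vE q * aE p * z0 ^ i.val) = 1 ∧ (vE q * aE p * z0 ^ i.val) ^ 6 = 1) qq pp i
      have hpow : ∀ n : ℕ, f ((vE qq * aE pp * z0 ^ i.val) ^ n) =
          f (vE qq * aE pp * z0 ^ i.val) ^ n := by
        intro n
        induction n with
        | zero => simp [h.map_one]
        | succ n ih => rw [pow_succ, h.mul _ _ (by rw [_root_.map_pow, sl, one_pow]) sl, ih, pow_succ]
      have he6 := hpow 6
      rw [l6, h.map_one, ← e] at he6
      apply Subtype.ext
      show (x : G) ^ 6 = 1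
      rw [show (x : G) = f g1 * ((f g1)⁻¹ * x * f g1) * (f g1)⁻¹ by group, conj_pow, ← he6]
      group
    -- so `aC` inverts `Qm`
    let α : Qm →* Qm :=
      { toFun := fun x => ⟨aC * x * aC⁻¹, hQn.conj_mem _ x.2 _⟩
        map_one' := Subtype.ext (by simp)
        map_mul' := fun x y => Subtype.ext (by simp) }
    have hα2 : Function.Involutive α := fun x => Subtype.ext (by
      show aC * (aC * (x : C) * aC⁻¹) * aC⁻¹ = x
      have : aC * aC = 1 := Subtype.ext (by
        show f a0 * f a0 = 1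
        rw [← h.mul _ _ a0_mem.1 a0_mem.1, show a0 * a0 = 1 by decide +kernel, h.map_one])
      calc aC * (aC * (x : C) * aC⁻¹) * aC⁻¹ = aC * aC * x * (aC * aC)⁻¹ := by group
        _ = x := by rw [this]; group)
    have hff : MonoidHom.FixedPointFree α := fun x hx =>
      Subtype.ext (hfree _ x.2 (congrArg Subtype.val hx))
    have hinvQ : ∀ x ∈ Qm, aC * x * aC⁻¹ = x⁻¹ := fun x hx =>
      congrArg Subtype.val (congrFun (hff.coe_eq_inv_of_involutive hα2) ⟨x, hx⟩)
    have hQ1 : ∀ x ∈ Qm, x = 1 := by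
      intro x hx
      have hw : yC = aC * (yC * aC * yC⁻¹) := by
        apply Subtype.ext
        show f y0 = f a0 * (f y0 * f a0 * (f y0)⁻¹)
        have s2 : sign (y0 * a0 * y0⁻¹) = 1 := by decide +kernel
        rw [← h.conj y0_mem.1 a0_mem.1, ← h.mul _ _ a0_mem.1 s2,
          show a0 * (y0 * a0 * y0⁻¹) = y0 by decide +kernel]
      have hxy : yC * x * yC⁻¹ = x := by
        have h1 := hinvQ (yC⁻¹ * x * yC) (by simpa using hQn.conj_mem x hx yC⁻¹)
        have h2 : (yC * aC * yC⁻¹) * x * (yC * aC * yC⁻¹)⁻¹ = x⁻¹ := by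
          rw [show (yC * aC * yC⁻¹) * x * (yC * aC * yC⁻¹)⁻¹ =
            yC * (aC * (yC⁻¹ * x * yC) * aC⁻¹) * yC⁻¹ by group, h1]
          group
        calc yC * x * yC⁻¹ = aC * (yC * aC * yC⁻¹) * x * (aC * (yC * aC * yC⁻¹))⁻¹ := by rw [← hw]
          _ = aC * ((yC * aC * yC⁻¹) * x * (yC * aC * yC⁻¹)⁻¹) * aC⁻¹ := by group
          _ = aC * x⁻¹ * aC⁻¹ := by rw [h2]
          _ = x := by rw [hinvQ _ (inv_mem hx), inv_inv]
      have hxπ : π x ∈ N := hQM hx
      have hcomm : Commute (π x) (π yC) := by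
        show _ = _
        rw [← _root_.map_mul, ← _root_.map_mul]
        congr 1
        exact (mul_inv_eq_iff_eq_mul.1 hxy).symm
      rcases hsc.cent _ hcomm with e | e | e
      · rcases (hZmem x).1 ((QuotientGroup.eq_one_iff _).1 e) with e' | e'
        · exact e'
        · exact hord x hx 2 hqc (by rw [e', pow_two, hu2])
      · exact absurd (e ▸ hxπ) hy2
      · rw [e] at hxπ; exact absurd ((inv_mem_iff (x := π yC)).1 hxπ) hy2
    have hbot : (P : Subgroup M) = ⊥ := by
      rw [Subgroup.eq_bot_iff_forall]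
      intro x hx
      exact Subtype.ext (hQ1 _ ⟨x, hx, rfl⟩)
    have := P.dvd_card_of_dvd_card hqd
    rw [hbot, Subgroup.card_bot] at this
    exact hq.one_lt.ne' (Nat.dvd_one.1 this)
  obtain ⟨n, hn⟩ := IsPGroup.iff_card.1 hMp
  have hCn : Nat.card C = 6 * 2 ^ n := by rw [hQ, h6, ← hn, hMcard]; ring
  have : n = 5 := by
    rw [hCn] at hC64 hC128
    by_contra hk
    rcases Nat.lt_or_gt_of_ne hk with h' | h'
    · interval_cases n <;> norm_num at hC64
    · apply hC128
      obtain ⟨j, rfl⟩ : ∃ j, n = 6 + j := ⟨n - 6, by omega⟩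
      exact ⟨3 * 2 ^ j, by rw [pow_add]; ring⟩
  rw [hCn, this]; norm_num

end Full

end Cfsg.Agent.A8ThreeLocal45
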