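import Cfsg.Agent.Lib.A8ThreeLocalKlein45

/-!
`C_K(φ w0)` is not trivial, and the resulting choice of the outer automorphism.
-/

set_option autoImplicit false

namespace Cfsg.Agent.A8ThreeLocal45

open Equiv Equiv.Perm

set_option maxRecDepth 100000

variable {G : Type*} [Group G] [Finite G] {φ : S8 → G} {D : Subgroup G}

/-- `{1, a1, a2, a1 a2}` -/
def aE (q : Fin 2 × Fin 2) : S8 := a1 ^ q.1.val * a2 ^ q.2.val

/-- `⟨v1, v2, a0⟩` -/
def sE (q : Fin 2 × Fin 2 × Fin 2) : S8 := v1 ^ q.1.val * v2 ^ q.2.1.val * a0 ^ q.2.2.val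

theorem sE_mem : ∀ q, sE q ∈ L1 := by decide +kernel
theorem sE_injective : ∀ p q, sE p = sE q → p = q := by decide +kernel

def sSub : Subgroup S8 where
  carrier := {x | ∃ q, x = sE q}
  one_mem' := ⟨(0, 0, 0), by decide +kernel⟩
  mul_mem' := by
    rintro _ _ ⟨p, rfl⟩ ⟨q, rfl⟩
    exact (by decide +kernel : ∀ p q, ∃ r, sE p * sE q = sE r) p q
  inv_mem' := by
    rintro _ ⟨p, rfl⟩
    exact (by decide +kernel : ∀ p, ∃ r, (sE p)⁻¹ = sE r) p

theorem sSub_le : sSub ≤ L1 := by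
  rintro _ ⟨q, rfl⟩; exact sE_mem q

def vSub : Subgroup S8 where
  carrier := {x | ∃ q, x = vE q}
  one_mem' := ⟨(0, 0), by decide +kernel⟩
  mul_mem' := by
    rintro _ _ ⟨p, rfl⟩ ⟨q, rfl⟩
    exact ⟨p + q, vE_mul p q⟩
  inv_mem' := by
    rintro _ ⟨p, rfl⟩
    exact ⟨p, (by decide +kernel : ∀ p, (vE p)⁻¹ = vE p) p⟩

theorem vSub_le : vSub ≤ L1 := by
  rintro _ ⟨q, rfl⟩; exact vE_mem q

theorem v1_eq_vE : v1 = vE (1, 0) := by decide +kernel
theorem v2_eq_vE : v2 = vE (0, 1) := by decide +kernel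

/-- every involution of `L1` commutes with a conjugate of `z0` or of `w0` -/
theorem L1_invol {x : S8} (hx : x ∈ L1) (h2 : x * x = 1) :
    ∃ g ∈ L1, Commute x (g * z0 * g⁻¹) ∨ Commute x (g * w0 * g⁻¹) := by
  obtain ⟨⟨a, b⟩, hs, rfl⟩ := exists_iota_of_mem hx
  rw [← map_mul, ← _root_.map_one iota] at h2
  have h2' := iota_injective h2
  by_cases ha : a = 1
  · subst ha
    refine ⟨1, one_mem _, Or.inl ?_⟩
    rw [one_mul, inv_one, mul_one, z0_iota]
    show _ = _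
    rw [← map_mul, ← map_mul]; simp
  · have key : ∀ a : Perm (Fin 3), a * a = 1 → a ≠ 1 → sign a = -1 := by decide +kernel
    have hsb : sign b = -1 := by
      simp only at hs
      rw [key a (congrArg Prod.fst h2') ha] at hs
      rcases Int.units_eq_one_or (sign b) with e | e
      · rw [e] at hs; exact absurd hs (by decide)
      · exact e
    obtain ⟨g, hg, hc⟩ := perm5_odd_invol b (congrArg Prod.snd h2') hsb
    refine ⟨iota (1, g), iota_mem_L1 _ (by simp [hg]), Or.inr ?_⟩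
    rw [w0_iota]
    show _ = _
    rw [← map_inv, ← map_mul, ← map_mul, ← map_mul, ← map_mul]
    congr 1
    exact Prod.ext (by simp) hc

namespace Swap

variable {s : G} (h : Swap φ D s)
include h

/-- involutions of `φ(L1)` centralise no conjugate of `φ y0` -/
theorem L1_not_u {x : S8} (hx : x ∈ L1) (h2 : φ x * φ x = 1) (h1 : φ x ≠ 1) {k : G}
    (hc : Commute (φ x) (k * φ y0 * k⁻¹)) : False := by
  have hxx : x * x = 1 := by
    refine (h.toEmb.eq_iff (mul_mem hx hx) (one_mem _)).1 ?_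
    rw [h.mul _ _ hx hx, h2, h.map_one]
  obtain ⟨g, hg, e | e⟩ := L1_invol hx hxx
  · refine h.toBase.not_both h2 h1 (g := φ g) ?_ hc
    rw [← h.toEmb.conj hg z0_mem]
    exact (h.toEmb.comm_iff hx (mul_mem (mul_mem hg z0_mem) (inv_mem hg))).2 e
  · refine h.toBase.not_both h2 h1 (g := φ g * s) ?_ hc
    rw [show φ g * s * φ z0 * (φ g * s)⁻¹ = φ g * (s * φ z0 * s⁻¹) * (φ g)⁻¹ by group, h.sz,
      ← h.toEmb.conj hg w0_mem]
    exact (h.toEmb.comm_iff hx (mul_mem (mul_mem hg w0_mem) (inv_mem hg))).2 e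

theorem exists_choice : ∃ t : S8, (t = tau ∨ t = tau') ∧
    (∀ q, t * aE q * t ∈ L1 ∧ s * φ (t * aE q * t) * s⁻¹ ∈ cV φ) ∧
    ∀ x ∈ cV φ, ∃ (q p : Fin 2 × Fin 2) (i : Fin 3),
      x = φ (vE q) * (s * φ (t * aE p * t) * s⁻¹) * φ z0 ^ i.val := by
  classical
  haveI : Fact (Nat.Prime 2) := ⟨Nat.prime_two⟩
  obtain ⟨K, hK, hKz, hK3⟩ := h.toBase.exists_complement
  -- the common finish in the two good cases
  have good : ∀ (t : S8), (t = tau ∨ t = tau') → ∀ (k1 k2 : Perm (Fin 5)),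
      k1 ∈ wSet φ s K → k2 ∈ wSet φ s K → t * a1 * t = iota (1, k1) → t * a2 * t = iota (1, k2) →
      (∀ b ∈ wSet φ s K, b = 1 ∨ b = k1 ∨ b = k2 ∨ b = k1 * k2) →
      ∃ t : S8, (t = tau ∨ t = tau') ∧
        (∀ q, t * aE q * t ∈ L1 ∧ s * φ (t * aE q * t) * s⁻¹ ∈ cV φ) ∧
        ∀ x ∈ cV φ, ∃ (q p : Fin 2 × Fin 2) (i : Fin 3),
          x = φ (vE q) * (s * φ (t * aE p * t) * s⁻¹) * φ z0 ^ i.val := by
    intro t ht k1 k2 hk1 hk2 e1 e2 hall
    have tt : t * t = 1 := by rcases ht with rfl | rfl <;> decide +kernel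
    have hsplit : ∀ x y : S8, t * (x * y) * t = t * x * t * (t * y * t) := by
      intro x y
      calc t * (x * y) * t = t * x * (t * t) * y * t := by rw [tt]; group
        _ = _ := by group
    have himg : ∀ q, ∃ b ∈ wSet φ s K, t * aE q * t = iota (1, b) := by
      rintro ⟨q1, q2⟩
      fin_cases q1 <;> fin_cases q2
      · exact ⟨1, h.wSet_one, by
          simp [aE, tt, show ((1 : Perm (Fin 3)), (1 : Perm (Fin 5))) = 1 from rfl]⟩
      · exact ⟨k2, hk2, by simpa [aE] using e2⟩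
      · exact ⟨k1, hk1, by simpa [aE] using e1⟩
      · refine ⟨k1 * k2, h.wSet_mul hk1 hk2, ?_⟩
        simp only [aE, Fin.isValue, pow_one, Fin.mk_one, Fin.val_one]
        rw [hsplit, e1, e2, ← map_mul]; simp
    refine ⟨t, ht, fun q => ?_, fun x hx => ?_⟩
    · obtain ⟨b, hb, e⟩ := himg q
      rw [e]
      exact ⟨h.iota_one_mem hb.1, ((hK _).1 hb.2).1⟩
    · obtain ⟨i, k, hk, rfl⟩ := hKz x hx
      have hB : ∀ q, ∃ y, t * aE q * t ∈ L1 ∧ y = s * φ (t * aE q * t) * s⁻¹ ∧ y ∈ K := by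
        intro q
        obtain ⟨b, hb, e⟩ := himg q
        exact ⟨_, e ▸ h.iota_one_mem hb.1, rfl, e ▸ hb.2⟩
      let A := h.toEmb.image vSub vSub_le
      let B : Subgroup G :=
        { carrier := {x | ∃ b, b ∈ wSet φ s K ∧ x = s * φ (iota (1, b)) * s⁻¹}
          one_mem' := ⟨1, h.wSet_one, by
            rw [show ((1 : Perm (Fin 3)), (1 : Perm (Fin 5))) = 1 from rfl, _root_.map_one,
              h.map_one]; group⟩
          mul_mem' := by
            rintro _ _ ⟨a, ha, rfl⟩ ⟨b, hb, rfl⟩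
            refine ⟨a * b, h.wSet_mul ha hb, ?_⟩
            rw [show iota (1, a * b) = iota (1, a) * iota (1, b) by rw [← map_mul]; simp,
              h.mul _ _ (h.iota_one_mem ha.1) (h.iota_one_mem hb.1)]
            group
          inv_mem' := by
            rintro _ ⟨a, ha, rfl⟩
            refine ⟨a⁻¹, h.wSet_inv ha, ?_⟩
            rw [show iota (1, a⁻¹) = (iota (1, a))⁻¹ by rw [← map_inv]; simp,
              h.toEmb.map_inv (h.iota_one_mem ha.1)]
            group }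
      have hAB : ∀ a ∈ A, ∀ b ∈ B, a * b = b * a := by
        rintro _ ⟨_, ⟨q, rfl⟩, rfl⟩ _ ⟨b, hb, rfl⟩
        exact (h.toBase.cV_comm ((hK _).1 hb.2).1 q).symm
      have hle : K ≤ prodComm A B hAB := by
        refine h.K_le hK hK3 (fun q => ⟨φ (vE q), ⟨_, ⟨q, rfl⟩, rfl⟩, 1, one_mem _, (mul_one _).symm⟩)
          fun y hy hyw => ?_
        obtain ⟨b, hb, rfl⟩ := h.cent_w_K hK hy hyw
        exact ⟨1, one_mem _, _, ⟨b, hb, rfl⟩, (one_mul _).symm⟩
      obtain ⟨_, ⟨_, ⟨q, rfl⟩, rfl⟩, _, ⟨b, hb, rfl⟩, rfl⟩ := hle hk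
      obtain ⟨p, hp⟩ : ∃ p, t * aE p * t = iota (1, b) := by
        rcases hall b hb with rfl | rfl | rfl | rfl
        · exact ⟨(0, 0), by
            simp [aE, tt, show ((1 : Perm (Fin 3)), (1 : Perm (Fin 5))) = 1 from rfl]⟩
        · exact ⟨(1, 0), by simpa [aE] using e1⟩
        · exact ⟨(0, 1), by simpa [aE] using e2⟩
        · refine ⟨(1, 1), ?_⟩
          simp only [aE, Fin.isValue, pow_one, Fin.val_one]
          rw [hsplit, e1, e2, ← map_mul]; simp
      exact ⟨q, p, i, by rw [hp]⟩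
  rcases h.wSet_cases hK with hW | ⟨⟨k1, k2⟩, hA⟩ | ⟨⟨k1, k2⟩, hC⟩
  swap
  · exact good tau (Or.inl rfl) kB1 kB2 k1 k2 (by decide +kernel) (by decide +kernel) hA
  swap
  · exact good tau' (Or.inr rfl) kB1' kB2' k1 k2 (by decide +kernel) (by decide +kernel) hC
  -- the trivial case is impossible
  exfalso
  have hKV : K ≤ h.toEmb.image vSub vSub_le := by
    refine h.K_le hK hK3 (fun q => ⟨_, ⟨q, rfl⟩, rfl⟩) fun x hx hxw => ?_
    obtain ⟨b, hb, rfl⟩ := h.cent_w_K hK hx hxw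
    rw [hW b hb, show ((1 : Perm (Fin 3)), (1 : Perm (Fin 5))) = 1 from rfl, _root_.map_one,
      h.map_one, mul_one, mul_inv_cancel]
    exact one_mem _
  -- the normaliser of `φ V` is inside `φ L1`
  have hNV : ∀ g : G, (∀ q, ∃ q', g * φ (vE q) * g⁻¹ = φ (vE q')) → ∃ l ∈ L1, φ l = g := by
    intro g hg
    have hgn : g ∈ Subgroup.normalizer (h.toEmb.image vSub vSub_le : Set G) := by
      refine Subgroup.mem_normalizer_fintype ?_
      rintro _ ⟨_, ⟨q, rfl⟩, rfl⟩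
      obtain ⟨q', e⟩ := hg q
      exact ⟨_, ⟨q', rfl⟩, e.symm⟩
    have hin : g * φ z0 * g⁻¹ ∈ cV φ := by
      have key : ∀ v ∈ vSub, g * φ z0 * g⁻¹ * φ v = φ v * (g * φ z0 * g⁻¹) := by
        intro v hv
        obtain ⟨_, ⟨q, rfl⟩, e⟩ := (Subgroup.mem_normalizer_iff''.1 hgn (φ v)).1 ⟨v, hv, rfl⟩
        calc g * φ z0 * g⁻¹ * φ v = g * (φ z0 * (g⁻¹ * φ v * g)) * g⁻¹ := by group
          _ = g * (g⁻¹ * φ v * g * φ z0) * g⁻¹ := by rw [← e, h.toBase.cV_comm h.toBase.z_mem_cV q]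
          _ = _ := by group
      exact mem_cV.2 ⟨key v1 ⟨_, v1_eq_vE⟩, key v2 ⟨_, v2_eq_vE⟩⟩
    obtain ⟨i, k, hk, e⟩ := hKz _ hin
    obtain ⟨_, ⟨q, rfl⟩, rfl⟩ := hKV hk
    have hl : vE q * z0 ^ i.val ∈ L1 := mul_mem (vE_mem q) (pow_mem z0_mem _)
    rw [← h.toEmb.map_pow z0_mem, ← h.mul _ _ (vE_mem q) (pow_mem z0_mem _)] at e
    have hc3 : φ (vE q * z0 ^ i.val * (vE q * z0 ^ i.val) * (vE q * z0 ^ i.val)) = φ 1 := by
      rw [h.mul _ _ (mul_mem hl hl) hl, h.mul _ _ hl hl, ← e, h.map_one,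
        show g * φ z0 * g⁻¹ * (g * φ z0 * g⁻¹) * (g * φ z0 * g⁻¹) =
          g * (φ z0 * φ z0 * φ z0) * g⁻¹ by group, h.toBase.z3]
      group
    have key : ∀ (q : Fin 2 × Fin 2) (i : Fin 3),
        vE q * z0 ^ i.val * (vE q * z0 ^ i.val) * (vE q * z0 ^ i.val) = 1 →
        vE q * z0 ^ i.val = 1 ∨ vE q * z0 ^ i.val = z0 ∨ vE q * z0 ^ i.val = z0⁻¹ := by
      decide +kernel
    refine (h.img g).1 ((mem_normalizer_zpowers h.toBase.z3).2 ?_)
    rcases key q i ((h.toEmb.eq_iff (mul_mem (mul_mem hl hl) hl) (one_mem _)).1 hc3) with k | k | k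
    · rw [k, h.map_one] at e
      exact absurd (conj_eq_one_iff.1 e) h.toBase.z_ne
    · exact Or.inl (by rw [e, k])
    · exact Or.inr (by rw [e, k, h.toEmb.map_inv z0_mem])
  -- an involution normalising `φ F'` which centralises a conjugate of `φ y0`
  set g' := c3 7 6 5
  have hg' : g' ∈ L1 := by decide +kernel
  set s' := φ g' * s * (φ g')⁻¹
  have hcs : ∀ {a b : S8}, a ∈ L1 → b ∈ L1 → s * φ a * s⁻¹ = φ b →
      s' * φ (g' * a * g'⁻¹) * s'⁻¹ = φ (g' * b * g'⁻¹) := by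
    intro a b ha hb e
    rw [h.toEmb.conj hg' ha, h.toEmb.conj hg' hb, ← e]
    simp only [s']
    group
  have hs'2 : s' * s' = 1 := by
    rw [show s' * s' = φ g' * (s * s) * (φ g')⁻¹ by simp only [s']; group, h.s_sq]; group
  have hs'1 : s' ≠ 1 := fun e => h.s_ne (conj_eq_one_iff.1 e)
  have hs'y : Commute s' (φ g' * φ y0 * (φ g')⁻¹) := by
    show _ = _
    calc s' * (φ g' * φ y0 * (φ g')⁻¹) = φ g' * (s * φ y0 * s⁻¹ * s) * (φ g')⁻¹ := by
          simp only [s']; group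
      _ = _ := by rw [h.sy]; simp only [s']; group
  have hs'a : s' * φ a0 * s'⁻¹ = φ a0 := by
    have h1 : s * φ a0 * s⁻¹ = φ a0 := by
      rw [show a0 = e0 * b0 by decide +kernel, h.mul _ _ e0_mem b0_mem,
        show s * (φ e0 * φ b0) * s⁻¹ = s * φ e0 * s⁻¹ * (s * φ b0 * s⁻¹) by group, h.se, h.sb,
        ← h.mul _ _ b0_mem e0_mem, ← h.mul _ _ e0_mem b0_mem]
      congr 1; decide +kernel
    have := hcs a0_mem a0_mem h1
    rwa [show g' * a0 * g'⁻¹ = a0 by decide +kernel] at this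
  have hs'v : s' * φ v1 * s'⁻¹ = φ (v1 * a0) := by
    have := hcs b0_mem e0_mem h.sb
    rwa [show g' * b0 * g'⁻¹ = v1 by decide +kernel,
      show g' * e0 * g'⁻¹ = v1 * a0 by decide +kernel] at this
  -- `φ S` of order 8 is a Sylow 2-subgroup
  set S := h.toEmb.image sSub sSub_le
  have hS : Nat.card S = 8 := by
    have hb : Function.Bijective (fun q : Fin 2 × Fin 2 × Fin 2 =>
        (⟨φ (sE q), _, ⟨q, rfl⟩, rfl⟩ : S)) := by
      constructor
      · intro p q e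
        exact sE_injective p q ((h.toEmb.eq_iff (sE_mem p) (sE_mem q)).1 (congrArg Subtype.val e))
      · rintro ⟨_, _, ⟨q, rfl⟩, rfl⟩
        exact ⟨q, rfl⟩
    rw [← Nat.card_eq_of_bijective _ hb, Nat.card_eq_fintype_card]; rfl
  have h16 : ¬ 16 ∣ Nat.card G := by
    intro hd
    obtain ⟨R, hR, hSR⟩ := Sylow.exists_subgroup_card_pow_succ (p := 2) (n := 3)
      (G := G) (by simpa using hd) (H := S) (by rw [hS]; norm_num)
    obtain ⟨g, hgR, hgS⟩ := SetLike.exists_of_lt (lt_of_le_of_ne hSR (fun e => by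
      rw [← e, hS] at hR; norm_num at hR))
    have hi : (S.subgroupOf R).index = 2 := by
      have := (S.subgroupOf R).card_mul_index
      rw [Nat.card_congr (Subgroup.subgroupOfEquivOfLe hSR).toEquiv, hS, hR] at this
      norm_num at this
      omega
    have hnS : ∀ x ∈ S, g * x * g⁻¹ ∈ S := fun x hx => Subgroup.mem_subgroupOf.1
      ((Subgroup.normal_of_index_eq_two hi).conj_mem ⟨x, hSR hx⟩ hx ⟨g, hgR⟩)
    have hconj : ∀ x ∈ sSub, ∃ p, g * φ x * g⁻¹ = φ (sE p) := by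
      intro x hx
      obtain ⟨_, ⟨p, rfl⟩, e⟩ := hnS _ ⟨x, hx, rfl⟩
      exact ⟨p, e.symm⟩
    have hv1S : v1 ∈ sSub := ⟨(1, 0, 0), by decide +kernel⟩
    have hv2S : v2 ∈ sSub := ⟨(0, 1, 0), by decide +kernel⟩
    obtain ⟨p1, hp1⟩ := hconj v1 hv1S
    obtain ⟨p2, hp2⟩ := hconj v2 hv2S
    have hprop : ∀ {x : S8} {p}, x ∈ sSub → g * φ x * g⁻¹ = φ (sE p) → (x * x = 1 → x ≠ 1 →
        sE p * sE p = 1 ∧ sE p ≠ 1) := by
      intro x p hx e hxx hx1
      have hxL := sSub_le hx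
      refine ⟨(h.toEmb.eq_iff (mul_mem (sE_mem p) (sE_mem p)) (one_mem _)).1 ?_, fun e1 => hx1 ?_⟩
      · rw [h.mul _ _ (sE_mem p) (sE_mem p), ← e, show g * φ x * g⁻¹ * (g * φ x * g⁻¹) =
          g * (φ x * φ x) * g⁻¹ by group, ← h.mul _ _ hxL hxL, hxx, h.map_one]
        group
      · rw [e1, h.map_one] at e
        exact h.inj _ hxL (conj_eq_one_iff.1 e)
    have hp1' : sE p1 = v1 := by
      have hc : ∀ q, sE p1 * sE q = sE q * sE p1 := by
        intro q
        refine ((h.toEmb.comm_iff (sE_mem p1) (sE_mem q)).1 ?_).eq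
        rw [← hp1]
        obtain ⟨_, ⟨r, rfl⟩, er⟩ := (Subgroup.mem_normalizer_iff''.1
          (Subgroup.mem_normalizer_fintype (S := (S : Set G)) hnS) (φ (sE q))).1 ⟨_, ⟨q, rfl⟩, rfl⟩
        have hvr : φ v1 * φ (sE r) = φ (sE r) * φ v1 :=
          ((h.toEmb.comm_iff v1_mem (sE_mem r)).2
            ((by decide +kernel : ∀ r, v1 * sE r = sE r * v1) r)).eq
        show _ = _
        calc g * φ v1 * g⁻¹ * φ (sE q) = g * (φ v1 * (g⁻¹ * φ (sE q) * g)) * g⁻¹ := by group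
          _ = g * (g⁻¹ * φ (sE q) * g * φ v1) * g⁻¹ := by rw [← er, hvr]
          _ = _ := by group
      obtain ⟨hq1, hq2⟩ := hprop hv1S hp1 (by decide +kernel) (by decide +kernel)
      exact (by decide +kernel : ∀ p, (∀ q, sE p * sE q = sE q * sE p) → sE p ≠ 1 → sE p = v1)
        p1 hc hq2
    rw [hp1'] at hp1
    obtain ⟨hq1, hq2⟩ := hprop hv2S hp2 (by decide +kernel) (by decide +kernel)
    have hne : sE p2 ≠ v1 := fun e => by
      rw [e, ← hp1] at hp2
      have h3 : φ v2 = φ v1 := mul_left_cancel (mul_right_cancel hp2)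
      have h4 := (h.toEmb.eq_iff v2_mem v1_mem).1 h3
      revert h4; decide +kernel
    rcases (by decide +kernel : ∀ p, sE p * sE p = 1 → sE p ≠ 1 → sE p ≠ v1 →
        (sE p = v2 ∨ sE p = v1 * v2) ∨ (sE p = a0 ∨ sE p = v1 * a0)) p2 hq1 hq2 hne with hV' | hF
    · -- `g` normalises `V`
      obtain ⟨l, hl, rfl⟩ := hNV g (by
        rintro ⟨k1, k2⟩
        have e3 : g * φ (vE (k1, k2)) * g⁻¹ = (φ v1) ^ k1.val * (φ (sE p2)) ^ k2.val := by
          rw [vE, h.mul _ _ (pow_mem v1_mem _) (pow_mem v2_mem _), h.toEmb.map_pow v1_mem,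
            h.toEmb.map_pow v2_mem,
            show g * (φ v1 ^ k1.val * φ v2 ^ k2.val) * g⁻¹ =
              g * φ v1 ^ k1.val * g⁻¹ * (g * φ v2 ^ k2.val * g⁻¹) by group,
            ← conj_pow, ← conj_pow, hp1, hp2]
        rw [e3, ← h.toEmb.map_pow v1_mem, ← h.toEmb.map_pow (sE_mem p2),
          ← h.mul _ _ (pow_mem v1_mem _) (pow_mem (sE_mem p2) _)]
        rcases hV' with e | e <;> rw [e]
        · exact ⟨(k1, k2), rfl⟩
        · obtain ⟨r, hr⟩ := (by decide +kernel : ∀ k1 k2 : Fin 2, ∃ r,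
            v1 ^ k1.val * (v1 * v2) ^ k2.val = vE r) k1 k2
          exact ⟨r, by rw [hr]⟩)
      have ha0S : a0 ∈ sSub := ⟨(0, 0, 1), by decide +kernel⟩
      obtain ⟨p3, hp3⟩ := hconj a0 ha0S
      rw [← h.toEmb.conj hl v1_mem] at hp1
      rw [← h.toEmb.conj hl a0_mem] at hp3
      have e1 := (h.toEmb.eq_iff (mul_mem (mul_mem hl v1_mem) (inv_mem hl)) v1_mem).1 hp1
      have e2 : l * v2 * l⁻¹ = v2 ∨ l * v2 * l⁻¹ = v1 * v2 := by
        rw [← h.toEmb.conj hl v2_mem] at hp2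
        have := (h.toEmb.eq_iff (mul_mem (mul_mem hl v2_mem) (inv_mem hl)) (sE_mem p2)).1 hp2
        rw [this]; exact hV'
      have e3 := (h.toEmb.eq_iff (mul_mem (mul_mem hl a0_mem) (inv_mem hl)) (sE_mem p3)).1 hp3
      obtain ⟨⟨a, b⟩, hsg, rfl⟩ := exists_iota_of_mem hl
      have hkey : ∀ a : Perm (Fin 3), ∀ b : Perm (Fin 5), sign a * sign b = 1 →
          b * kB1 * b⁻¹ = kB1 → (b * kB2 * b⁻¹ = kB2 ∨ b * kB2 * b⁻¹ = kB1 * kB2) →
          a * tA * a⁻¹ = tA → ∃ i j k : Fin 2,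
            a = tA ^ k.val ∧ b = kB1 ^ i.val * kB2 ^ j.val * sB ^ k.val := by decide +kernel
      have hfst : ∀ p, ∃ k : Fin 2, sE p = iota (tA ^ k.val, (kB1 ^ p.1.val * kB2 ^ p.2.1.val *
          sB ^ k.val)) := fun p => ⟨p.2.2, (by decide +kernel : ∀ p : Fin 2 × Fin 2 × Fin 2,
            sE p = iota (tA ^ p.2.2.val, (kB1 ^ p.1.val * kB2 ^ p.2.1.val * sB ^ p.2.2.val))) p⟩
      obtain ⟨k3, hk3⟩ := hfst p3
      rw [hk3, show a0 = iota (tA, sB) by decide +kernel, ← map_inv, ← map_mul, ← map_mul] at e3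
      have hta : a * tA * a⁻¹ = tA := by
        have := congrArg Prod.fst (iota_injective e3)
        simp only [Prod.fst_mul, Prod.fst_inv] at this
        rw [this]
        fin_cases k3
        · exfalso
          simp only [pow_zero] at this
          exact (by decide : tA ≠ 1) (conj_eq_one_iff.1 this)
        · simp
      rw [v1_iota, ← map_inv, ← map_mul, ← map_mul] at e1
      rw [v2_iota, v1_iota, ← map_inv, ← map_mul, ← map_mul, ← map_mul] at e2
      obtain ⟨i, j, k, rfl, rfl⟩ := hkey a b hsg (congrArg Prod.snd (iota_injective e1))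
        (e2.imp (fun e => congrArg Prod.snd (iota_injective e))
          (fun e => congrArg Prod.snd (iota_injective e))) hta
      exact hgS ⟨_, ⟨(i, j, k), ((by decide +kernel : ∀ i j k : Fin 2,
        iota (tA ^ k.val, kB1 ^ i.val * kB2 ^ j.val * sB ^ k.val) = sE (i, j, k)) i j k)⟩, rfl⟩
    · -- `g` maps `V` to `F'`
      have hgF : ∀ x : S8, (x = a0 ∨ x = v1 * a0 ∨ x = v1) →
          ∃ q, g⁻¹ * φ x * g = φ (vE q) := by
        intro x hx
        rcases hF with e | e <;> rw [e] at hp2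
        · rcases hx with rfl | rfl | rfl
          · exact ⟨(0, 1), by rw [← v2_eq_vE, ← hp2]; group⟩
          · refine ⟨(1, 1), ?_⟩
            rw [h.mul _ _ v1_mem a0_mem, ← hp1, ← hp2, vE,
              h.mul _ _ (pow_mem v1_mem _) (pow_mem v2_mem _), h.toEmb.map_pow v1_mem,
              h.toEmb.map_pow v2_mem, Fin.val_one, pow_one, pow_one]
            group
          · exact ⟨(1, 0), by rw [← v1_eq_vE]; nth_rewrite 1 [← hp1]; group⟩
        · rcases hx with rfl | rfl | rfl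
          · refine ⟨(1, 1), ?_⟩
            rw [show a0 = v1 * (v1 * a0) by decide +kernel,
              h.mul _ _ v1_mem (mul_mem v1_mem a0_mem), ← hp1, ← hp2, vE,
              h.mul _ _ (pow_mem v1_mem _) (pow_mem v2_mem _), h.toEmb.map_pow v1_mem,
              h.toEmb.map_pow v2_mem, Fin.val_one, pow_one, pow_one]
            group
          · exact ⟨(0, 1), by rw [← v2_eq_vE, ← hp2]; group⟩
          · exact ⟨(1, 0), by rw [← v1_eq_vE]; nth_rewrite 1 [← hp1]; group⟩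
      set s'' := g⁻¹ * s' * g
      have hs'va : s' * φ (v1 * a0) * s'⁻¹ = φ v1 := by
        rw [← hs'v, show s' * (s' * φ v1 * s'⁻¹) * s'⁻¹ = s' * s' * φ v1 * (s' * s')⁻¹ by group,
          hs'2]
        group
      obtain ⟨l, hl, hle⟩ := hNV s'' (by
        rintro ⟨k1, k2⟩
        have hq : ∃ x, (x = a0 ∨ x = v1 * a0 ∨ x = v1 ∨ x = 1) ∧
            s' * (g * φ (vE (k1, k2)) * g⁻¹) * s'⁻¹ = φ x := by
          rcases hF with e | e <;> rw [e] at hp2 <;> fin_cases k1 <;> fin_cases k2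
          all_goals rw [vE, h.mul _ _ (pow_mem v1_mem _) (pow_mem v2_mem _),
            h.toEmb.map_pow v1_mem, h.toEmb.map_pow v2_mem]
          all_goals simp only [Fin.mk_one, Fin.val_one, Fin.zero_eta, Fin.val_zero, pow_zero,
            pow_one, one_mul, mul_one, Fin.isValue]
          · exact ⟨1, Or.inr (Or.inr (Or.inr rfl)), by rw [h.map_one]; group⟩
          · exact ⟨a0, Or.inl rfl, by rw [hp2, hs'a]⟩
          · exact ⟨v1 * a0, Or.inr (Or.inl rfl), by rw [hp1, hs'v]⟩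
          · refine ⟨v1, Or.inr (Or.inr (Or.inl rfl)), ?_⟩
            rw [show g * (φ v1 * φ v2) * g⁻¹ = g * φ v1 * g⁻¹ * (g * φ v2 * g⁻¹) by group, hp1,
              hp2, ← h.mul _ _ v1_mem a0_mem, hs'va]
          · exact ⟨1, Or.inr (Or.inr (Or.inr rfl)), by rw [h.map_one]; group⟩
          · exact ⟨v1, Or.inr (Or.inr (Or.inl rfl)), by rw [hp2, hs'va]⟩
          · exact ⟨v1 * a0, Or.inr (Or.inl rfl), by rw [hp1, hs'v]⟩
          · refine ⟨a0, Or.inl rfl, ?_⟩
            rw [show g * (φ v1 * φ v2) * g⁻¹ = g * φ v1 * g⁻¹ * (g * φ v2 * g⁻¹) by group, hp1,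
              hp2, ← h.mul _ _ v1_mem (mul_mem v1_mem a0_mem),
              show v1 * (v1 * a0) = a0 by decide +kernel, hs'a]
        obtain ⟨x, hx, e⟩ := hq
        have : s'' * φ (vE (k1, k2)) * s''⁻¹ = g⁻¹ * φ x * g := by
          rw [← e]; simp only [s'']; group
        rw [this]
        rcases hx with e' | e' | e' | e'
        · exact hgF x (Or.inl e')
        · exact hgF x (Or.inr (Or.inl e'))
        · exact hgF x (Or.inr (Or.inr e'))
        · exact ⟨(0, 0), by simp [e', vE, h.map_one]⟩)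
      refine h.L1_not_u hl (k := g⁻¹ * φ g') ?_ ?_ ?_
      · rw [hle, show s'' * s'' = g⁻¹ * (s' * s') * g by simp only [s'']; group, hs'2]; group
      · rw [hle]
        intro e
        apply hs'1
        rw [show s' = g * s'' * g⁻¹ by simp only [s'']; group, e]; group
      · rw [hle]
        show _ = _
        calc s'' * (g⁻¹ * φ g' * φ y0 * (g⁻¹ * φ g')⁻¹)
            = g⁻¹ * (s' * (φ g' * φ y0 * (φ g')⁻¹)) * g := by simp only [s'']; group
          _ = g⁻¹ * ((φ g' * φ y0 * (φ g')⁻¹) * s') * g := by rw [hs'y.eq]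
          _ = _ := by simp only [s'']; group
  -- so `s` is conjugate into `φ L1`
  obtain ⟨P, hP⟩ := (IsPGroup.of_card (n := 3) (by rw [hS]; norm_num) :
    IsPGroup 2 S).exists_le_sylow
  have hPS : S = (P : Subgroup G) := Subgroup.eq_of_le_of_card_ge hP (by
    obtain ⟨n, hn⟩ := IsPGroup.iff_card.1 P.isPGroup'
    rw [hn, hS]
    by_contra hgt
    have h4 : 4 ≤ n := by
      by_contra hlt
      interval_cases n <;> omega
    exact h16 ((pow_dvd_pow 2 h4).trans (hn ▸ Subgroup.card_subgroup_dvd_card (P : Subgroup G))))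
  have hs2 : IsPGroup 2 (Subgroup.zpowers s) := IsPGroup.of_card (n := 1) (by
    rw [Nat.card_zpowers, pow_one]
    exact orderOf_eq_prime (by rw [pow_two, h.s_sq]) h.s_ne)
  obtain ⟨Q, hQ⟩ := hs2.exists_le_sylow
  obtain ⟨c, hc⟩ := MulAction.exists_smul_eq G Q P
  have hm : c * s * c⁻¹ ∈ S := by
    rw [hPS, ← hc, Sylow.coe_subgroup_smul, Subgroup.mem_pointwise_smul_iff_inv_smul_mem]
    simpa [MulAut.smul_def, mul_assoc] using hQ (Subgroup.mem_zpowers _)
  obtain ⟨_, ⟨q, rfl⟩, hq⟩ := hm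
  refine h.L1_not_u (sE_mem q) (k := c) ?_ ?_ ?_
  · rw [hq, show c * s * c⁻¹ * (c * s * c⁻¹) = c * (s * s) * c⁻¹ by group, h.s_sq]; group
  · rw [hq]
    exact fun e => h.s_ne (conj_eq_one_iff.1 e)
  · rw [hq]
    show _ = _
    calc c * s * c⁻¹ * (c * φ y0 * c⁻¹) = c * (s * φ y0 * s⁻¹ * s) * c⁻¹ := by group
      _ = _ := by rw [h.sy]; group

end Swap

end Cfsg.Agent.A8ThreeLocal45
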