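import Cfsg.Agent.Lib.A8ThreeLocalModel45
import Cfsg.Agent.Lib.ShortPresCarmichael

/-!
Facts about the model that are checked by evaluation in `Sym(3) × Sym(5)`.
-/

set_option autoImplicit false

namespace Cfsg.Agent.A8ThreeLocal45

open Equiv Equiv.Perm ShortPresCarmichael

set_option maxRecDepth 100000
set_option maxHeartbeats 4000000

def cA : Perm (Fin 3) := swap 0 1 * swap 1 2
def tA : Perm (Fin 3) := swap 0 1
def cB : Perm (Fin 5) := swap 0 1 * swap 1 2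
def sB : Perm (Fin 5) := swap 0 1
def uB : Perm (Fin 5) := swap 3 4
def kB1 : Perm (Fin 5) := swap 0 1 * swap 2 3
def kB2 : Perm (Fin 5) := swap 0 2 * swap 1 3

theorem z0_iota : z0 = iota (cA, 1) := by decide +kernel
theorem w0_iota : w0 = iota (1, cB) := by decide +kernel
theorem e0_iota : e0 = iota (tA, uB) := by decide +kernel
theorem b0_iota : b0 = iota (1, sB * uB) := by decide +kernel
theorem v1_iota : v1 = iota (1, kB1) := by decide +kernel
theorem v2_iota : v2 = iota (1, kB2) := by decide +kernel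

theorem perm3_cases : ∀ a : Perm (Fin 3), ∃ i : Fin 3, ∃ k : Fin 2, a = cA ^ i.val * tA ^ k.val := by
  decide +kernel

theorem perm3_even : ∀ a : Perm (Fin 3), sign a = 1 → ∃ i : Fin 3, a = cA ^ i.val := by decide +kernel

theorem perm3_ord3 : ∀ a : Perm (Fin 3), a * a * a = 1 → a = 1 ∨ a = cA ∨ a = cA⁻¹ := by decide +kernel

theorem perm5_ord3 : ∀ b : Perm (Fin 5), b * b * b = 1 →
    (kB2 * b * kB2⁻¹ = b ∨ kB2 * b * kB2⁻¹ = b⁻¹) →
    (kB1 * b * kB1⁻¹ = b ∨ kB1 * b * kB1⁻¹ = b⁻¹) →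
    (cB * b * cB⁻¹ = b ∨ cB * b * cB⁻¹ = b⁻¹) → b = 1 := by decide +kernel

theorem perm5_centK : ∀ b : Perm (Fin 5), b * kB1 = kB1 * b → b * kB2 = kB2 * b →
    ∃ k l : Fin 2, b = kB1 ^ k.val * kB2 ^ l.val := by decide +kernel

set_option maxHeartbeats 800000 in
theorem perm5_normC : ∀ b : Perm (Fin 5), (b * cB * b⁻¹ = cB ∨ b * cB * b⁻¹ = cB⁻¹) →
    ∃ j : Fin 3, ∃ l : Fin 2, ∃ m : Fin 2, b = cB ^ j.val * sB ^ l.val * uB ^ m.val := by decide +kernel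

theorem perm5_odd_invol : ∀ b : Perm (Fin 5), b * b = 1 → sign b = -1 →
    ∃ g : Perm (Fin 5), sign g = 1 ∧ b * (g * cB * g⁻¹) = g * cB * g⁻¹ * b := by decide +kernel

def isO3 (w : Perm (Fin 5)) : Prop := w * w * w = 1 ∧ w ≠ 1

instance (w : Perm (Fin 5)) : Decidable (isO3 w) := inferInstanceAs (Decidable (_ ∧ _))

def kB2' : Perm (Fin 5) := swap 0 2 * swap 1 4
def kB1' : Perm (Fin 5) := swap 0 1 * swap 2 4
def kA (b : Perm (Fin 5)) : Prop := b = kB1 ∨ b = kB2 ∨ b = kB1 * kB2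
def kC (b : Perm (Fin 5)) : Prop := b = kB1' ∨ b = kB2' ∨ b = kB1' * kB2'

instance (b : Perm (Fin 5)) : Decidable (kA b) := inferInstanceAs (Decidable (_ ∨ _))
instance (b : Perm (Fin 5)) : Decidable (kC b) := inferInstanceAs (Decidable (_ ∨ _))

theorem perm5_word : ∀ x : Perm (Fin 5), sign x = 1 → x ≠ 1 → kA x ∨ kC x ∨
    isO3 x ∨ isO3 (x * (cB * x * cB⁻¹)) ∨ isO3 (x⁻¹ * (cB * x * cB⁻¹)) ∨
    isO3 (x * (cB * x * cB⁻¹)⁻¹) ∨
    isO3 (x * (cB * x * cB⁻¹) * x * (cB⁻¹ * x * cB)) := by decide +kernel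

theorem kA_conj : ∀ x : Perm (Fin 5), kA x → kA (cB * x * cB⁻¹) ∧ cB * x * cB⁻¹ ≠ x := by decide +kernel
theorem kC_conj : ∀ x : Perm (Fin 5), kC x → kC (cB * x * cB⁻¹) ∧ cB * x * cB⁻¹ ≠ x := by decide +kernel

theorem kA_kC : isO3 (kB1 * kB1') := by decide +kernel

theorem L1_cases {x : S8} (h : x ∈ L1) : ∃ i : Fin 3, ∃ k : Fin 2, ∃ r : S8,
    sign r = 1 ∧ r 0 = 0 ∧ r 1 = 1 ∧ r 2 = 2 ∧ x = z0 ^ i.val * e0 ^ k.val * r := by
  obtain ⟨⟨a, b⟩, hs, rfl⟩ := exists_iota_of_mem h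
  obtain ⟨i, k, rfl⟩ := perm3_cases a
  refine ⟨i, k, iota (1, (uB ^ k.val)⁻¹ * b), ?_, ?_, ?_, ?_, ?_⟩
  · rw [sign_iota]
    simp only [map_mul, map_pow] at hs
    rw [map_one, one_mul, map_mul, map_inv, map_pow]
    rw [show sign cA = 1 by decide, show sign tA = -1 by decide] at hs
    rw [show sign uB = -1 by decide]
    fin_cases k <;> simp_all
  all_goals first
    | rfl
    | (rw [z0_iota, e0_iota, ← map_pow, ← map_pow, ← map_mul, ← map_mul]
       congr 1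
       simp)

end Cfsg.Agent.A8ThreeLocal45
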