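import Cfsg.Agent.Lib.A8ThreeLocalFacts45

/-!
The embedded local subgroup `φ(L1) = N(⟨z⟩)` and the swap of the two special lines of `D`.
-/

set_option autoImplicit false

namespace Cfsg.Agent.A8ThreeLocal45

open Equiv Equiv.Perm

set_option maxRecDepth 100000

variable {G : Type*} [Group G]

/-- A map which is an injective homomorphism on `L1`. -/
structure Emb (φ : S8 → G) : Prop where
  mul : ∀ x y, x ∈ L1 → y ∈ L1 → φ (x * y) = φ x * φ y
  inj : ∀ x, x ∈ L1 → φ x = 1 → x = 1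

namespace Emb

variable {φ : S8 → G} (h : Emb φ)
include h

theorem map_one : φ 1 = 1 := by
  have := h.mul 1 1 (one_mem _) (one_mem _)
  rw [one_mul] at this
  exact left_eq_mul.1 this

theorem map_inv {x : S8} (hx : x ∈ L1) : φ x⁻¹ = (φ x)⁻¹ :=
  eq_inv_of_mul_eq_one_left (by rw [← h.mul _ _ (inv_mem hx) hx, inv_mul_cancel, h.map_one])

theorem map_pow {x : S8} (hx : x ∈ L1) (n : ℕ) : φ (x ^ n) = φ x ^ n := by
  induction n with
  | zero => simp [h.map_one]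
  | succ n ih => rw [pow_succ, h.mul _ _ (pow_mem hx n) hx, ih, pow_succ]

theorem conj {x y : S8} (hx : x ∈ L1) (hy : y ∈ L1) :
    φ (x * y * x⁻¹) = φ x * φ y * (φ x)⁻¹ := by
  rw [h.mul _ _ (mul_mem hx hy) (inv_mem hx), h.mul _ _ hx hy, h.map_inv hx]

theorem eq_iff {x y : S8} (hx : x ∈ L1) (hy : y ∈ L1) : φ x = φ y ↔ x = y := by
  refine ⟨fun e => ?_, fun e => e ▸ rfl⟩
  have : φ (x * y⁻¹) = 1 := by rw [h.mul _ _ hx (inv_mem hy), h.map_inv hy, e, mul_inv_cancel]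
  exact mul_inv_eq_one.1 (h.inj _ (mul_mem hx (inv_mem hy)) this)

theorem comm_iff {x y : S8} (hx : x ∈ L1) (hy : y ∈ L1) : Commute (φ x) (φ y) ↔ Commute x y := by
  show φ x * φ y = φ y * φ x ↔ x * y = y * x
  rw [← h.mul _ _ hx hy, ← h.mul _ _ hy hx, h.eq_iff (mul_mem hx hy) (mul_mem hy hx)]

end Emb

theorem mem_zpowers_three {x z : G} (h3 : z * z * z = 1) :
    x ∈ Subgroup.zpowers z ↔ x = 1 ∨ x = z ∨ x = z⁻¹ := by
  have hz : z ^ (3 : ℤ) = 1 := by rw [show (3 : ℤ) = ((3 : ℕ) : ℤ) from rfl, zpow_natCast,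
    pow_succ, pow_two, h3]
  constructor
  · intro hx
    obtain ⟨k, rfl⟩ := Subgroup.mem_zpowers_iff.1 hx
    have e : z ^ k = z ^ (k % 3) := by
      conv_lhs => rw [← Int.mul_ediv_add_emod k 3, zpow_add, zpow_mul, hz, one_zpow, one_mul]
    rcases (by omega : k % 3 = 0 ∨ k % 3 = 1 ∨ k % 3 = 2) with r | r | r <;> rw [e, r]
    · exact Or.inl (zpow_zero _)
    · exact Or.inr (Or.inl (zpow_one _))
    · refine Or.inr (Or.inr (eq_inv_of_mul_eq_one_left ?_))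
      rw [zpow_two, h3]
  · rintro (rfl | rfl | rfl)
    · exact one_mem _
    · exact Subgroup.mem_zpowers _
    · exact inv_mem (Subgroup.mem_zpowers _)

theorem mem_normalizer_zpowers [Finite G] {g z : G} (h3 : z * z * z = 1) :
    g ∈ Subgroup.normalizer (Subgroup.zpowers z : Set G) ↔
      g * z * g⁻¹ = z ∨ g * z * g⁻¹ = z⁻¹ := by
  constructor
  · intro hg
    have := (Subgroup.mem_normalizer_iff.1 hg z).1 (Subgroup.mem_zpowers z)
    rcases (mem_zpowers_three h3).1 this with e | e | e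
    · left
      have : z = 1 := conj_eq_one_iff.1 e
      rw [this]; simp
    · exact Or.inl e
    · exact Or.inr e
  · intro hg
    refine Subgroup.mem_normalizer_fintype ?_
    intro x hx
    rcases (mem_zpowers_three h3).1 hx with rfl | rfl | rfl
    · simp
    · rcases hg with e | e <;> rw [e]
      exacts [Subgroup.mem_zpowers _, inv_mem (Subgroup.mem_zpowers _)]
    · rw [show g * z⁻¹ * g⁻¹ = (g * z * g⁻¹)⁻¹ by group]
      rcases hg with e | e <;> rw [e]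
      exacts [inv_mem (Subgroup.mem_zpowers _), inv_mem (inv_mem (Subgroup.mem_zpowers _))]

/-- the elements `z0 ^ i * w0 ^ j * e0 ^ k * b0 ^ l` -/
def m0 (q : Fin 3 × Fin 3 × Fin 2 × Fin 2) : S8 :=
  z0 ^ q.1.val * w0 ^ q.2.1.val * e0 ^ q.2.2.1.val * b0 ^ q.2.2.2.val

theorem m0_mem (q : Fin 3 × Fin 3 × Fin 2 × Fin 2) : m0 q ∈ L1 :=
  mul_mem (mul_mem (mul_mem (pow_mem z0_mem _) (pow_mem w0_mem _)) (pow_mem e0_mem _))
    (pow_mem b0_mem _)

theorem d0_mem (i j : Fin 3) : z0 ^ i.val * w0 ^ j.val ∈ L1 :=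
  mul_mem (pow_mem z0_mem _) (pow_mem w0_mem _)

theorem m0_injective : Function.Injective m0 := by
  have h : ∀ q q', m0 q = m0 q' → q = q' := by decide +kernel
  exact h

theorem m0_gen {x : S8} (hx : x ∈ L1) (hn : ∃ i j : Fin 3, x * w0 * x⁻¹ = z0 ^ i.val * w0 ^ j.val) :
    ∃ q, x = m0 q := by
  obtain ⟨⟨a, b⟩, hs, rfl⟩ := exists_iota_of_mem hx
  obtain ⟨i, j, hn⟩ := hn
  rw [w0_iota, z0_iota, ← map_inv, ← map_mul, ← map_mul, ← map_pow, ← map_pow, ← map_mul] at hn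
  have hn' := iota_injective hn
  simp only [Prod.ext_iff, Prod.fst_mul, Prod.snd_mul, Prod.fst_inv, Prod.snd_inv, Prod.fst_one,
    Prod.snd_one, Prod.pow_fst, Prod.pow_snd, mul_one, one_pow, one_mul] at hn'
  have hc : b * cB * b⁻¹ = cB ∨ b * cB * b⁻¹ = cB⁻¹ := by
    rw [hn'.2]
    fin_cases j
    · exfalso
      have := hn'.2
      simp only [pow_zero] at this
      exact (by decide : cB ≠ 1) (conj_eq_one_iff.1 this)
    · left; simp
    · right; decide +kernel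
  obtain ⟨j', l, m, rfl⟩ := perm5_normC b hc
  obtain ⟨i', k, rfl⟩ := perm3_cases a
  have key : ∀ (i' j' : Fin 3) (k l m : Fin 2),
      sign (cA ^ i'.val * tA ^ k.val) * sign (cB ^ j'.val * sB ^ l.val * uB ^ m.val) = 1 →
      iota (cA ^ i'.val * tA ^ k.val, cB ^ j'.val * sB ^ l.val * uB ^ m.val) =
        m0 (i', j', k, l) := by decide +kernel
  exact ⟨_, key i' j' k l m hs⟩

theorem d0_e0 : ∀ i j : Fin 3,
    e0 * (z0 ^ i.val * w0 ^ j.val) * e0⁻¹ = z0 ^ i.val * w0 ^ j.val ∨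
      e0 * (z0 ^ i.val * w0 ^ j.val) * e0⁻¹ = (z0 ^ i.val * w0 ^ j.val)⁻¹ →
    i = 0 ∨ j = 0 := by decide +kernel

theorem d0_cases : ∀ i j : Fin 3, (i = 0 ∧ j = 0) ∨ (j = 0 ∧ (z0 ^ i.val * w0 ^ j.val = z0 ∨
    z0 ^ i.val * w0 ^ j.val = z0⁻¹)) ∨ (i = 0 ∧ (z0 ^ i.val * w0 ^ j.val = w0 ∨
    z0 ^ i.val * w0 ^ j.val = w0⁻¹)) ∨
    ∃ k : Fin 2, z0 ^ i.val * w0 ^ j.val = e0 ^ k.val * y0 * (e0 ^ k.val)⁻¹ ∨
      z0 ^ i.val * w0 ^ j.val = e0 ^ k.val * y0⁻¹ * (e0 ^ k.val)⁻¹ := by decide +kernel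

/-- The hypotheses about `φ(L1)` and `D`. -/
structure Base (φ : S8 → G) (D : Subgroup G) : Prop extends Emb φ where
  img : ∀ g, g ∈ Subgroup.normalizer (Subgroup.zpowers (φ z0) : Set G) ↔ ∃ x ∈ L1, φ x = g
  memD : ∀ g, g ∈ D ↔ ∃ i j : Fin 3, g = φ (z0 ^ i.val * w0 ^ j.val)
  cent : Subgroup.centralizer (D : Set G) = D
  cardD : Nat.card D = 9
  sylow : ∀ R : Subgroup G, IsPGroup 3 R → ∃ g : G, ∀ x ∈ R, g * x * g⁻¹ ∈ D
  cardN : Nat.card (Subgroup.normalizer (D : Set G)) = 72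
  yspec : ∃ y ∈ D, Nat.card (Subgroup.centralizer ({y} : Set G)) = 18 ∧
    Subgroup.centralizer ({y} : Set G) ≤ Subgroup.normalizer (D : Set G)

theorem mem_cent_singleton {g a : G} :
    g ∈ Subgroup.centralizer ({a} : Set G) ↔ g * a = a * g := by
  rw [Subgroup.mem_centralizer_iff]
  simp [eq_comm]

theorem card_cent_conj (g a : G) :
    Nat.card (Subgroup.centralizer ({g * a * g⁻¹} : Set G)) =
      Nat.card (Subgroup.centralizer ({a} : Set G)) := by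
  have : Subgroup.centralizer ({g * a * g⁻¹} : Set G) =
      (Subgroup.centralizer ({a} : Set G)).map (MulAut.conj g).toMonoidHom := by
    ext x
    rw [mem_cent_singleton, Subgroup.mem_map]
    constructor
    · intro hx
      refine ⟨g⁻¹ * x * g, mem_cent_singleton.2 ?_, by simp [MulAut.conj_apply]; group⟩
      calc g⁻¹ * x * g * a = g⁻¹ * (x * (g * a * g⁻¹)) * g := by group
        _ = g⁻¹ * (g * a * g⁻¹ * x) * g := by rw [hx]
        _ = _ := by group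
    · rintro ⟨w, hw, rfl⟩
      simp only [MulEquiv.coe_toMonoidHom, MulAut.conj_apply]
      calc g * w * g⁻¹ * (g * a * g⁻¹) = g * (w * a) * g⁻¹ := by group
        _ = g * (a * w) * g⁻¹ := by rw [mem_cent_singleton.1 hw]
        _ = _ := by group
  rw [this]
  exact (Nat.card_congr
    ((Subgroup.centralizer ({a} : Set G)).equivMapOfInjective _
      (MulAut.conj g).injective).toEquiv).symm

theorem card_cent_inv (a : G) :
    Nat.card (Subgroup.centralizer ({a⁻¹} : Set G)) =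
      Nat.card (Subgroup.centralizer ({a} : Set G)) := by
  congr 2
  ext x
  rw [mem_cent_singleton, mem_cent_singleton]
  exact ⟨fun h => (Commute.inv_right_iff.1 h).eq, fun h => (Commute.inv_right h).eq⟩

theorem conj_eq_inv {g a b : G} (h : g * a * g⁻¹ = b) : g * a⁻¹ * g⁻¹ = b⁻¹ := by
  rw [← h]; group

namespace Base

variable [Finite G] {φ : S8 → G} {D : Subgroup G} (h : Base φ D)
include h

theorem z3 : φ z0 * φ z0 * φ z0 = 1 := by
  rw [← h.mul _ _ z0_mem z0_mem, ← h.mul _ _ (mul_mem z0_mem z0_mem) z0_mem,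
    show z0 * z0 * z0 = 1 by decide, h.map_one]

theorem d_mem {i j : Fin 3} : φ (z0 ^ i.val * w0 ^ j.val) ∈ D := (h.memD _).2 ⟨i, j, rfl⟩

theorem z_mem : φ z0 ∈ D := (h.memD _).2 ⟨1, 0, by simp⟩
theorem w_mem : φ w0 ∈ D := (h.memD _).2 ⟨0, 1, by simp⟩
theorem y_mem : φ y0 ∈ D := (h.memD _).2 ⟨1, 1, by simp [y0]⟩

theorem m0_norm (q : Fin 3 × Fin 3 × Fin 2 × Fin 2) :
    φ (m0 q) ∈ Subgroup.normalizer (D : Set G) := by
  have hg : ∀ x ∈ L1, (∀ i j : Fin 3, ∃ i' j' : Fin 3,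
      x * (z0 ^ i.val * w0 ^ j.val) * x⁻¹ = z0 ^ i'.val * w0 ^ j'.val) →
      φ x ∈ Subgroup.normalizer (D : Set G) := by
    intro x hx hc
    refine Subgroup.mem_normalizer_fintype ?_
    intro d hd
    obtain ⟨i, j, rfl⟩ := (h.memD _).1 hd
    obtain ⟨i', j', e⟩ := hc i j
    rw [← h.toEmb.conj hx (d0_mem i j), e]
    exact h.d_mem
  have hz : φ z0 ∈ Subgroup.normalizer (D : Set G) := Subgroup.le_normalizer h.z_mem
  have hw : φ w0 ∈ Subgroup.normalizer (D : Set G) := Subgroup.le_normalizer h.w_mem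
  have he := hg _ e0_mem (by decide +kernel)
  have hb := hg _ b0_mem (by decide +kernel)
  rw [m0, h.mul _ _ (mul_mem (mul_mem (pow_mem z0_mem _) (pow_mem w0_mem _)) (pow_mem e0_mem _))
      (pow_mem b0_mem _), h.mul _ _ (mul_mem (pow_mem z0_mem _) (pow_mem w0_mem _))
      (pow_mem e0_mem _), h.mul _ _ (pow_mem z0_mem _) (pow_mem w0_mem _),
    h.toEmb.map_pow z0_mem, h.toEmb.map_pow w0_mem, h.toEmb.map_pow e0_mem,
    h.toEmb.map_pow b0_mem]
  exact mul_mem (mul_mem (mul_mem (pow_mem hz _) (pow_mem hw _)) (pow_mem he _)) (pow_mem hb _)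

theorem norm_L1 {x : S8} (hx : x ∈ L1) (hn : φ x ∈ Subgroup.normalizer (D : Set G)) :
    ∃ q, x = m0 q := by
  refine m0_gen hx ?_
  obtain ⟨i, j, e⟩ := (h.memD _).1 ((Subgroup.mem_normalizer_iff.1 hn _).1 h.w_mem)
  rw [← h.toEmb.conj hx w0_mem] at e
  exact ⟨i, j, (h.toEmb.eq_iff (mul_mem (mul_mem hx w0_mem) (inv_mem hx)) (d0_mem i j)).1 e⟩

theorem card_cent_z : Nat.card (Subgroup.centralizer ({φ z0} : Set G)) ≠ 18 := by
  intro hc
  set C := Subgroup.centralizer ({φ z0} : Set G)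
  have hDC : D ≤ C := fun d hd => by
    obtain ⟨i, j, rfl⟩ := (h.memD _).1 hd
    exact mem_cent_singleton.2 ((h.toEmb.comm_iff (d0_mem i j) z0_mem).2
      ((by decide +kernel : ∀ i j : Fin 3,
        z0 ^ i.val * w0 ^ j.val * z0 = z0 * (z0 ^ i.val * w0 ^ j.val)) i j)).eq
  have hi : (D.subgroupOf C).index = 2 := by
    have := (D.subgroupOf C).card_mul_index
    rw [Nat.card_congr (Subgroup.subgroupOfEquivOfLe hDC).toEquiv, h.cardD, hc] at this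
    omega
  haveI := Subgroup.normal_of_index_eq_two hi
  have hv : φ v1 ∈ C := mem_cent_singleton.2
    ((h.toEmb.comm_iff v1_mem z0_mem).2 (show v1 * z0 = z0 * v1 by decide +kernel)).eq
  have hn : φ v1 ∈ Subgroup.normalizer (D : Set G) := by
    refine Subgroup.mem_normalizer_fintype ?_
    intro d hd
    exact Subgroup.mem_subgroupOf.1 (this.conj_mem ⟨d, hDC hd⟩ hd ⟨_, hv⟩)
  obtain ⟨q, hq⟩ := h.norm_L1 v1_mem hn
  revert q; decide +kernel

/-- an element swapping the two special lines, with its action on `φ(M0)` normalised -/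
theorem exists_swap : ∃ s ∈ Subgroup.normalizer (D : Set G),
    s * φ z0 * s⁻¹ = φ w0 ∧ s * φ w0 * s⁻¹ = φ z0 ∧
    s * φ e0 * s⁻¹ = φ b0 ∧ s * φ b0 * s⁻¹ = φ e0 := by
  classical
  set N := Subgroup.normalizer (D : Set G)
  set L := Subgroup.normalizer (Subgroup.zpowers (φ z0) : Set G) with hL
  set K := L.subgroupOf N
  have hK : Nat.card K = 36 := by
    have hb : Function.Bijective (fun q : Fin 3 × Fin 3 × Fin 2 × Fin 2 =>
        (⟨⟨φ (m0 q), h.m0_norm q⟩, (h.img _).2 ⟨_, m0_mem q, rfl⟩⟩ : K)) := by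
      constructor
      · intro q q' e
        apply m0_injective
        exact (h.toEmb.eq_iff (m0_mem q) (m0_mem q')).1 (congrArg (fun t : K => ((t : N) : G)) e)
      · rintro ⟨⟨g, hgN⟩, hgL⟩
        obtain ⟨x, hx, rfl⟩ := (h.img g).1 hgL
        obtain ⟨q, rfl⟩ := h.norm_L1 hx hgN
        exact ⟨q, rfl⟩
    rw [← Nat.card_eq_of_bijective _ hb, Nat.card_eq_fintype_card]
    rfl
  have hi : K.index = 2 := by
    have := K.card_mul_index
    rw [hK, h.cardN] at this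
    omega
  have hne : K ≠ ⊤ := fun e => by simp [e] at hi
  obtain ⟨⟨n, hn⟩, -, hnK⟩ := SetLike.exists_of_lt (lt_top_iff_ne_top.2 hne)
  have hnL : n ∉ L := hnK
  have hout : ∀ a b : G, a ∈ N → b ∈ N → a ∉ L → b ∉ L → a * b ∈ L := by
    intro a b ha hb haL hbL
    exact (Subgroup.mul_mem_iff_of_index_two hi (a := ⟨a, ha⟩) (b := ⟨b, hb⟩)).2
      (iff_of_false haL hbL)
  have hnn : n * n ∈ L := hout n n hn hn hnL hnL
  obtain ⟨i, j, hij⟩ := (h.memD _).1 ((Subgroup.mem_normalizer_iff.1 hn _).1 h.z_mem)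
  -- the image line is fixed by `e0`
  have heN : φ e0 ∈ N := by simpa [m0] using h.m0_norm (0, 0, 1, 0)
  have heL : φ e0 ∈ L := (h.img _).2 ⟨_, e0_mem, rfl⟩
  have hfix : n⁻¹ * φ e0 * n ∈ L := by
    have h1 : φ e0 * n ∉ L := fun hh => hnL (by simpa using mul_mem (inv_mem heL) hh)
    exact (mul_assoc n⁻¹ (φ e0) n) ▸
      hout n⁻¹ (φ e0 * n) (inv_mem hn) (mul_mem heN hn) (fun hh => hnL (by simpa using inv_mem hh)) h1
  have hd : i = 0 ∨ j = 0 := by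
    apply d0_e0
    have hm := mul_mem (mul_mem e0_mem (d0_mem i j)) (inv_mem e0_mem)
    rcases (mem_normalizer_zpowers h.z3).1 hfix with e | e
    · left
      refine (h.toEmb.eq_iff hm (d0_mem i j)).1 ?_
      rw [h.toEmb.conj e0_mem (d0_mem i j), ← hij]
      calc φ e0 * (n * φ z0 * n⁻¹) * (φ e0)⁻¹
          = n * (n⁻¹ * φ e0 * n * φ z0 * (n⁻¹ * φ e0 * n)⁻¹) * n⁻¹ := by group
        _ = _ := by rw [e]
    · right
      refine (h.toEmb.eq_iff hm (inv_mem (d0_mem i j))).1 ?_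
      rw [h.toEmb.conj e0_mem (d0_mem i j), h.toEmb.map_inv (d0_mem i j), ← hij]
      calc φ e0 * (n * φ z0 * n⁻¹) * (φ e0)⁻¹
          = n * (n⁻¹ * φ e0 * n * φ z0 * (n⁻¹ * φ e0 * n)⁻¹) * n⁻¹ := by group
        _ = _ := by rw [e]; group
  have hzw : n * φ z0 * n⁻¹ = φ w0 ∨ n * φ z0 * n⁻¹ = (φ w0)⁻¹ := by
    have hnz : ¬ (n * φ z0 * n⁻¹ = φ z0 ∨ n * φ z0 * n⁻¹ = (φ z0)⁻¹) := fun hh =>
      hnL ((mem_normalizer_zpowers h.z3).2 hh)
    rcases d0_cases i j with ⟨rfl, rfl⟩ | ⟨-, e | e⟩ | ⟨-, e | e⟩ | ⟨k, hk⟩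
    · exfalso
      rw [show (z0 ^ (0 : Fin 3).val * w0 ^ (0 : Fin 3).val) = 1 by simp, h.map_one] at hij
      have hz1 := conj_eq_one_iff.1 hij
      exact hnL ((mem_normalizer_zpowers h.z3).2 (Or.inl (by rw [hz1]; group)))
    · exact absurd (Or.inl (by rw [hij, e])) hnz
    · exact absurd (Or.inr (by rw [hij, e, h.toEmb.map_inv z0_mem])) hnz
    · exact Or.inl (by rw [hij, e])
    · exact Or.inr (by rw [hij, e, h.toEmb.map_inv w0_mem])
    · exact ((by decide +kernel : ∀ (i j : Fin 3) (k : Fin 2), (i = 0 ∨ j = 0) →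
        (z0 ^ i.val * w0 ^ j.val = e0 ^ k.val * y0 * (e0 ^ k.val)⁻¹ ∨
          z0 ^ i.val * w0 ^ j.val = e0 ^ k.val * y0⁻¹ * (e0 ^ k.val)⁻¹) → False) i j k hd hk).elim
  -- correct the signs
  have hb0N : φ b0 ∈ N := by simpa [m0] using h.m0_norm (0, 0, 0, 1)
  have hb0L : φ b0 ∈ L := (h.img _).2 ⟨_, b0_mem, rfl⟩
  obtain ⟨n1, hn1, hn1L, hz⟩ : ∃ n1 ∈ N, n1 ∉ L ∧ n1 * φ z0 * n1⁻¹ = φ w0 := by
    rcases hzw with e | e
    · exact ⟨n, hn, hnL, e⟩
    · refine ⟨φ b0 * n, mul_mem hb0N hn,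
        fun hh => hnL (by simpa using mul_mem (inv_mem hb0L) hh), ?_⟩
      rw [show φ b0 * n * φ z0 * (φ b0 * n)⁻¹ = φ b0 * (n * φ z0 * n⁻¹) * (φ b0)⁻¹ by group, e,
        ← h.toEmb.map_inv w0_mem, ← h.toEmb.conj b0_mem (inv_mem w0_mem)]
      congr 1
      decide +kernel
  obtain ⟨n2, hn2, hn2L, hz2, hw2⟩ : ∃ n2 ∈ N, n2 ∉ L ∧ n2 * φ z0 * n2⁻¹ = φ w0 ∧
      n2 * φ w0 * n2⁻¹ = φ z0 := by
    have hq : n1 * φ w0 * n1⁻¹ = φ z0 ∨ n1 * φ w0 * n1⁻¹ = (φ z0)⁻¹ := by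
      rw [← hz]
      have := (mem_normalizer_zpowers h.z3).1 (hout n1 n1 hn1 hn1 hn1L hn1L)
      simpa [mul_assoc] using this
    rcases hq with e | e
    · exact ⟨n1, hn1, hn1L, hz, e⟩
    · refine ⟨φ e0 * n1, mul_mem heN hn1,
        fun hh => hn1L (by simpa using mul_mem (inv_mem heL) hh), ?_, ?_⟩
      · rw [show φ e0 * n1 * φ z0 * (φ e0 * n1)⁻¹ = φ e0 * (n1 * φ z0 * n1⁻¹) * (φ e0)⁻¹ by group,
          hz, ← h.toEmb.conj e0_mem w0_mem]
        congr 1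
        decide +kernel
      · rw [show φ e0 * n1 * φ w0 * (φ e0 * n1)⁻¹ = φ e0 * (n1 * φ w0 * n1⁻¹) * (φ e0)⁻¹ by group,
          e, ← h.toEmb.map_inv z0_mem, ← h.toEmb.conj e0_mem (inv_mem z0_mem)]
        congr 1
        decide +kernel
  -- images of the two involutions
  have himg : ∀ x ∈ L1, φ x ∈ N → ∃ q, n2 * φ x * n2⁻¹ = φ (m0 q) := by
    intro x hx hxN
    have h1 : φ x * n2⁻¹ ∉ L := fun hh => hn2L (by
      have := inv_mem (mul_mem (inv_mem ((h.img _).2 ⟨x, hx, rfl⟩)) hh)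
      simpa using this)
    have hL' : n2 * φ x * n2⁻¹ ∈ L := (mul_assoc n2 (φ x) n2⁻¹) ▸
      hout n2 (φ x * n2⁻¹) hn2 (mul_mem hxN (inv_mem hn2)) hn2L h1
    obtain ⟨x', hx', e⟩ := (h.img _).1 hL'
    obtain ⟨q, rfl⟩ := h.norm_L1 hx' (e ▸ mul_mem (mul_mem hn2 hxN) (inv_mem hn2))
    exact ⟨q, e.symm⟩
  obtain ⟨qe, hqe⟩ := himg e0 e0_mem heN
  obtain ⟨qb, hqb⟩ := himg b0 b0_mem hb0N
  have hrel : ∀ {a b x y : S8} {q : Fin 3 × Fin 3 × Fin 2 × Fin 2} {X Y : S8}, a ∈ L1 → b ∈ L1 →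
      x ∈ L1 → X ∈ L1 → Y ∈ L1 → n2 * φ a * n2⁻¹ = φ (m0 q) → n2 * φ x * n2⁻¹ = φ X →
      n2 * φ y * n2⁻¹ = φ Y → y = b → a * x * a⁻¹ = y → m0 q * X * (m0 q)⁻¹ = Y := by
    intro a b x y q X Y ha hb hx hX hY e1 e2 e3 hy e
    refine (h.toEmb.eq_iff (mul_mem (mul_mem (m0_mem q) hX) (inv_mem (m0_mem q))) hY).1 ?_
    rw [h.toEmb.conj (m0_mem q) hX, ← e1, ← e2, ← e3, ← e, h.toEmb.conj ha hx]
    group
  have hsq : ∀ (a : S8) (q : Fin 3 × Fin 3 × Fin 2 × Fin 2), a ∈ L1 → a * a = 1 → a ≠ 1 →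
      n2 * φ a * n2⁻¹ = φ (m0 q) → m0 q * m0 q = 1 ∧ m0 q ≠ 1 := by
    intro a q ha haa hane e
    refine ⟨(h.toEmb.eq_iff (mul_mem (m0_mem q) (m0_mem q)) (one_mem _)).1 ?_, fun hq => hane ?_⟩
    · rw [h.mul _ _ (m0_mem q) (m0_mem q), ← e, h.map_one,
        show n2 * φ a * n2⁻¹ * (n2 * φ a * n2⁻¹) = n2 * (φ a * φ a) * n2⁻¹ by group,
        ← h.mul _ _ ha ha, haa, h.map_one]
      group
    · rw [hq, h.map_one] at e
      exact h.inj _ ha (conj_eq_one_iff.1 e)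
  have hz2i : n2 * φ z0⁻¹ * n2⁻¹ = φ w0⁻¹ := by
    rw [h.toEmb.map_inv z0_mem, h.toEmb.map_inv w0_mem]; exact conj_eq_inv hz2
  have hw2i : n2 * φ w0⁻¹ * n2⁻¹ = φ z0⁻¹ := by
    rw [h.toEmb.map_inv z0_mem, h.toEmb.map_inv w0_mem]; exact conj_eq_inv hw2
  have E1 := hrel e0_mem (inv_mem z0_mem) z0_mem w0_mem (inv_mem w0_mem) hqe hz2 hz2i rfl
    (by decide +kernel)
  have E2 := hrel e0_mem w0_mem w0_mem z0_mem z0_mem hqe hw2 hw2 rfl (by decide +kernel)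
  have B1 := hrel b0_mem z0_mem z0_mem w0_mem w0_mem hqb hz2 hz2 rfl (by decide +kernel)
  have B2 := hrel b0_mem (inv_mem w0_mem) w0_mem z0_mem (inv_mem z0_mem) hqb hw2 hw2i rfl
    (by decide +kernel)
  obtain ⟨E3, E4⟩ := hsq e0 qe e0_mem (by decide +kernel) (by decide +kernel) hqe
  obtain ⟨B3, B4⟩ := hsq b0 qb b0_mem (by decide +kernel) (by decide +kernel) hqb
  have keyE : ∀ q, m0 q * w0 * (m0 q)⁻¹ = w0⁻¹ → m0 q * z0 * (m0 q)⁻¹ = z0 → m0 q * m0 q = 1 →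
      m0 q ≠ 1 → ∃ j : Fin 3, m0 q = w0 ^ j.val * b0 := by decide +kernel
  have keyB : ∀ q, m0 q * w0 * (m0 q)⁻¹ = w0 → m0 q * z0 * (m0 q)⁻¹ = z0⁻¹ → m0 q * m0 q = 1 →
      m0 q ≠ 1 → ∃ j : Fin 3, m0 q = z0 ^ j.val * e0 := by decide +kernel
  obtain ⟨j, hj⟩ := keyE qe E1 E2 E3 E4
  obtain ⟨k, hk⟩ := keyB qb B1 B2 B3 B4
  have fix : ∀ k j : Fin 3,
      let m := z0 ^ k.val * w0 ^ j.val
      m * w0 * m⁻¹ = w0 ∧ m * z0 * m⁻¹ = z0 ∧ m * (w0 ^ j.val * b0) * m⁻¹ = b0 ∧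
        m * (z0 ^ k.val * e0) * m⁻¹ = e0 := by decide +kernel
  obtain ⟨f1, f2, f3, f4⟩ := fix k j
  refine ⟨φ (z0 ^ k.val * w0 ^ j.val) * n2, mul_mem (Subgroup.le_normalizer h.d_mem) hn2, ?_⟩
  have conj2 : ∀ a : G, φ (z0 ^ k.val * w0 ^ j.val) * n2 * a * (φ (z0 ^ k.val * w0 ^ j.val) * n2)⁻¹
      = φ (z0 ^ k.val * w0 ^ j.val) * (n2 * a * n2⁻¹) * (φ (z0 ^ k.val * w0 ^ j.val))⁻¹ :=
    fun a => by group
  simp only [conj2, hz2, hw2, hqe, hqb, hj, hk, ← h.toEmb.conj (d0_mem k j) w0_mem,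
    ← h.toEmb.conj (d0_mem k j) z0_mem,
    ← h.toEmb.conj (d0_mem k j) (mul_mem (pow_mem w0_mem _) b0_mem),
    ← h.toEmb.conj (d0_mem k j) (mul_mem (pow_mem z0_mem _) e0_mem), f1, f2, f3, f4, and_self]

/-- `C(φ y0)` has order 18 and lies in `N(D)`. -/
theorem y0_spec : Nat.card (Subgroup.centralizer ({φ y0} : Set G)) = 18 ∧
    Subgroup.centralizer ({φ y0} : Set G) ≤ Subgroup.normalizer (D : Set G) := by
  obtain ⟨y, hy, hc, hle⟩ := h.yspec
  obtain ⟨s, hs, hsz, -⟩ := h.exists_swap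
  obtain ⟨i, j, rfl⟩ := (h.memD _).1 hy
  have hz := h.card_cent_z
  have hw : Nat.card (Subgroup.centralizer ({φ w0} : Set G)) ≠ 18 := by
    rw [← hsz, card_cent_conj]; exact hz
  have key : ∀ {t : S8}, t ∈ L1 → φ t ∈ Subgroup.normalizer (D : Set G) →
      ∀ {a : G}, φ (z0 ^ i.val * w0 ^ j.val) = φ t * a * (φ t)⁻¹ →
      Nat.card (Subgroup.centralizer ({a} : Set G)) = 18 ∧
        Subgroup.centralizer ({a} : Set G) ≤ Subgroup.normalizer (D : Set G) := by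
    intro t _ htN a ha
    refine ⟨by rw [← card_cent_conj (φ t) a, ← ha]; exact hc, fun x hx => ?_⟩
    have hx' : φ t * x * (φ t)⁻¹ ∈ Subgroup.normalizer (D : Set G) := by
      refine hle (mem_cent_singleton.2 ?_)
      rw [ha]
      calc φ t * x * (φ t)⁻¹ * (φ t * a * (φ t)⁻¹) = φ t * (x * a) * (φ t)⁻¹ := by group
        _ = φ t * (a * x) * (φ t)⁻¹ := by rw [mem_cent_singleton.1 hx]
        _ = _ := by group
    simpa [mul_assoc] using mul_mem (mul_mem (inv_mem htN) hx') htN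
  rcases d0_cases i j with ⟨rfl, rfl⟩ | ⟨-, e | e⟩ | ⟨-, e | e⟩ | ⟨k, e | e⟩
  · exfalso
    rw [show (z0 ^ (0 : Fin 3).val * w0 ^ (0 : Fin 3).val) = 1 by simp, h.map_one] at hle
    have hall : ∀ g : G, g ∈ Subgroup.normalizer (D : Set G) := fun g =>
      hle (mem_cent_singleton.2 (by simp))
    obtain ⟨q, hq⟩ := h.norm_L1 v1_mem (hall _)
    revert q; decide +kernel
  · exact absurd (e ▸ hc) hz
  · rw [e, h.toEmb.map_inv z0_mem, card_cent_inv] at hc; exact absurd hc hz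
  · exact absurd (e ▸ hc) hw
  · rw [e, h.toEmb.map_inv w0_mem, card_cent_inv] at hc; exact absurd hc hw
  · have hN : φ (e0 ^ k.val) ∈ Subgroup.normalizer (D : Set G) := by
      simpa [m0] using h.m0_norm (0, 0, k, 0)
    refine key (pow_mem e0_mem _) hN ?_
    rw [e, h.toEmb.conj (pow_mem e0_mem _) y0_mem]
  · have hN : φ (e0 ^ k.val) ∈ Subgroup.normalizer (D : Set G) := by
      simpa [m0] using h.m0_norm (0, 0, k, 0)
    have h2 := key (pow_mem e0_mem _) hN (a := (φ y0)⁻¹)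
      (by rw [e, h.toEmb.conj (pow_mem e0_mem _) (inv_mem y0_mem), h.toEmb.map_inv y0_mem])
    rw [card_cent_inv] at h2
    refine ⟨h2.1, fun x hx => h2.2 (mem_cent_singleton.2 ?_)⟩
    exact (Commute.inv_right (mem_cent_singleton.1 hx)).eq

end Base

end Cfsg.Agent.A8ThreeLocal45
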