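import Cfsg.Agent.Lib.A8ThreeLocalSwap45
import Cfsg.Agent.Lib.CoprimeGen

/-!
The centraliser of the four group `V` on `{3,4,5,6}`: it has a normal 3-complement `K`, and
`C_K(φ w0)` is a conjugate of one of two four groups.
-/

set_option autoImplicit false

namespace Cfsg.Agent.A8ThreeLocal45

open Equiv Equiv.Perm

set_option maxRecDepth 100000

variable {G : Type*} [Group G]

/-- the image of a subgroup of `L1` -/
def Emb.image {φ : S8 → G} (h : Emb φ) (S : Subgroup S8) (hS : S ≤ L1) : Subgroup G where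
  carrier := {g | ∃ x ∈ S, φ x = g}
  one_mem' := ⟨1, one_mem _, h.map_one⟩
  mul_mem' := by
    rintro _ _ ⟨x, hx, rfl⟩ ⟨y, hy, rfl⟩
    exact ⟨x * y, mul_mem hx hy, h.mul _ _ (hS hx) (hS hy)⟩
  inv_mem' := by
    rintro _ ⟨x, hx, rfl⟩
    exact ⟨x⁻¹, inv_mem hx, h.map_inv (hS hx)⟩

/-- `V = {1, v1, v2, v1 v2}` -/
def vE (q : Fin 2 × Fin 2) : S8 := v1 ^ q.1.val * v2 ^ q.2.val

theorem vE_mul : ∀ p q : Fin 2 × Fin 2, vE p * vE q = vE (p + q) := by decide +kernel
theorem vE_mem : ∀ q : Fin 2 × Fin 2, vE q ∈ L1 := by decide +kernel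

/-- the set of products of two commuting subgroups -/
def prodComm (A B : Subgroup G) (h : ∀ a ∈ A, ∀ b ∈ B, a * b = b * a) : Subgroup G where
  carrier := {x | ∃ a ∈ A, ∃ b ∈ B, x = a * b}
  one_mem' := ⟨1, one_mem _, 1, one_mem _, (one_mul 1).symm⟩
  mul_mem' := by
    rintro _ _ ⟨a, ha, b, hb, rfl⟩ ⟨a', ha', b', hb', rfl⟩
    refine ⟨a * a', mul_mem ha ha', b * b', mul_mem hb hb', ?_⟩
    calc a * b * (a' * b') = a * (b * a') * b' := by group
      _ = a * (a' * b) * b' := by rw [h a' ha' b hb]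
      _ = _ := by group
  inv_mem' := by
    rintro _ ⟨a, ha, b, hb, rfl⟩
    exact ⟨a⁻¹, inv_mem ha, b⁻¹, inv_mem hb, by rw [mul_inv_rev, h _ (inv_mem ha) _ (inv_mem hb)]⟩

theorem three_dvd_of_isO3 {H : Type*} [Group H] {x : H} (h3 : x * x * x = 1) (h1 : x ≠ 1) :
    3 ∣ orderOf x := by
  have : Fact (Nat.Prime 3) := ⟨Nat.prime_three⟩
  rw [orderOf_eq_prime (by rw [pow_succ, pow_two, h3]) h1]

variable [Finite G] {φ : S8 → G} {D : Subgroup G}

omit [Finite G] in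
theorem orderOf_cj (g x : G) : orderOf (g * x * g⁻¹) = orderOf x := by
  rw [← MulAut.conj_apply]
  exact orderOf_injective (MulAut.conj g).toMonoidHom (MulAut.conj g).injective x

/-- `C(φ V)` -/
def cV (φ : S8 → G) : Subgroup G := Subgroup.centralizer {φ v1, φ v2}

omit [Finite G] in
theorem mem_cV {x : G} : x ∈ cV φ ↔ x * φ v1 = φ v1 * x ∧ x * φ v2 = φ v2 * x := by
  rw [cV, Subgroup.mem_centralizer_iff]
  constructor
  · exact fun hh => ⟨(hh _ (Or.inl rfl)).symm, (hh _ (Or.inr rfl)).symm⟩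
  · rintro ⟨a, b⟩ m (rfl | rfl)
    · exact a.symm
    · exact b.symm

namespace Base

variable (h : Base φ D)
include h

theorem cV_comm {x : G} (hx : x ∈ cV φ) (q : Fin 2 × Fin 2) : x * φ (vE q) = φ (vE q) * x := by
  rw [vE, h.mul _ _ (pow_mem v1_mem _) (pow_mem v2_mem _), h.toEmb.map_pow v1_mem,
    h.toEmb.map_pow v2_mem]
  exact ((Commute.pow_right (mem_cV.1 hx).1 _).mul_right (Commute.pow_right (mem_cV.1 hx).2 _)).eq

theorem v1_sq : φ v1 * φ v1 = 1 := by
  rw [← h.mul _ _ v1_mem v1_mem, ← h.map_one]; congr 1; decide +kernel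

theorem v1_ne : φ v1 ≠ 1 := fun e => by
  have := h.inj _ v1_mem e
  revert this; decide +kernel

theorem cV_inter_L {x : S8} (hx : x ∈ L1) (hc : φ x ∈ cV φ) :
    ∃ (i : Fin 3) (q : Fin 2 × Fin 2), x = z0 ^ i.val * vE q := by
  obtain ⟨h1, h2⟩ := mem_cV.1 hc
  have c1 := ((h.toEmb.comm_iff hx v1_mem).1 h1).eq
  have c2 := ((h.toEmb.comm_iff hx v2_mem).1 h2).eq
  obtain ⟨⟨a, b⟩, hs, rfl⟩ := exists_iota_of_mem hx
  rw [v1_iota, ← map_mul, ← map_mul] at c1
  rw [v2_iota, ← map_mul, ← map_mul] at c2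
  obtain ⟨k, l, rfl⟩ := perm5_centK b (congrArg Prod.snd (iota_injective c1))
    (congrArg Prod.snd (iota_injective c2))
  have hsb : ∀ k l : Fin 2, sign (kB1 ^ k.val * kB2 ^ l.val) = 1 := by decide +kernel
  obtain ⟨i, rfl⟩ := perm3_even a (by simpa [hsb] using hs)
  refine ⟨i, (k, l), ?_⟩
  exact (by decide +kernel : ∀ (i : Fin 3) (k l : Fin 2),
    iota (cA ^ i.val, kB1 ^ k.val * kB2 ^ l.val) = z0 ^ i.val * vE (k, l)) i k l

theorem z_mem_cV : φ z0 ∈ cV φ := mem_cV.2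
  ⟨((h.toEmb.comm_iff z0_mem v1_mem).2 (show z0 * v1 = v1 * z0 by decide +kernel)).eq,
    ((h.toEmb.comm_iff z0_mem v2_mem).2 (show z0 * v2 = v2 * z0 by decide +kernel)).eq⟩

theorem vE_mem_cV (q : Fin 2 × Fin 2) : φ (vE q) ∈ cV φ := mem_cV.2
  ⟨((h.toEmb.comm_iff (vE_mem q) v1_mem).2
      ((by decide +kernel : ∀ q, vE q * v1 = v1 * vE q) q)).eq,
    ((h.toEmb.comm_iff (vE_mem q) v2_mem).2
      ((by decide +kernel : ∀ q, vE q * v2 = v2 * vE q) q)).eq⟩

/-- `C(φ V)` has a normal 3-complement. -/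
theorem exists_complement : ∃ K : Subgroup G, (∀ x, x ∈ K ↔ x ∈ cV φ ∧ ¬ 3 ∣ orderOf x) ∧
    (∀ x ∈ cV φ, ∃ i : Fin 3, ∃ k ∈ K, x = k * φ z0 ^ i.val) ∧ ¬ 3 ∣ Nat.card K := by
  classical
  haveI : Fact (Nat.Prime 3) := ⟨Nat.prime_three⟩
  set C := cV φ
  set zz : C := ⟨φ z0, h.z_mem_cV⟩
  have hzc : Nat.card (Subgroup.zpowers zz) = 3 :=
    card_zpowers_three (Subtype.ext h.z3) (fun e => h.z_ne (congrArg Subtype.val e))
  obtain ⟨P, hP⟩ := (IsPGroup.of_card (n := 1) (by rw [hzc, pow_one]) :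
    IsPGroup 3 (Subgroup.zpowers zz)).exists_le_sylow
  have hsmall : Nat.card (P : Subgroup C) ∣ 3 := by
    rw [Nat.card_congr ((P : Subgroup C).equivMapOfInjective _ C.subtype_injective).toEquiv]
    refine h.three_small (P.isPGroup'.map _) h.v1_sq h.v1_ne ?_
    rintro _ ⟨x, -, rfl⟩
    exact (mem_cV.1 x.2).1.symm
  have hPz : Subgroup.zpowers zz = (P : Subgroup C) :=
    Subgroup.eq_of_le_of_card_ge hP (by rw [hzc]; exact Nat.le_of_dvd (by norm_num) hsmall)
  have hN : Subgroup.normalizer ((P : Subgroup C) : Set C) ≤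
      Subgroup.centralizer ((P : Subgroup C) : Set C) := by
    intro x hx
    rw [← hPz] at hx ⊢
    have hxn := (mem_normalizer_zpowers (show zz * zz * zz = 1 from Subtype.ext h.z3)).1 hx
    obtain ⟨l, hl, e⟩ := (h.img (x : G)).1 ((mem_normalizer_zpowers h.z3).2
      (hxn.imp (congrArg Subtype.val) (congrArg Subtype.val)))
    obtain ⟨i, q, rfl⟩ := h.cV_inter_L hl (by rw [e]; exact x.2)
    have hc : (x : G) * φ z0 = φ z0 * x := by
      rw [← e]
      exact ((h.toEmb.comm_iff hl z0_mem).2 ((by decide +kernel : ∀ (i : Fin 3) (q : Fin 2 × Fin 2),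
        z0 ^ i.val * vE q * z0 = z0 * (z0 ^ i.val * vE q)) i q)).eq
    rw [Subgroup.mem_centralizer_iff]
    intro y hy
    obtain ⟨n, rfl⟩ := Subgroup.mem_zpowers_iff.1 hy
    exact ((Commute.zpow_right (show Commute x zz from Subtype.ext hc) n)).eq.symm
  set M := (MonoidHom.transferSylow P hN).ker
  have hM : Subgroup.IsComplement' M (P : Subgroup C) := MonoidHom.ker_transferSylow_isComplement' P hN
  have hidx : M.index = 3 := by
    rw [hM.symm.index_eq_card, ← hPz, hzc]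
  have hMc : ¬ 3 ∣ Nat.card M := by
    have := P.not_dvd_index
    rwa [hM.index_eq_card] at this
  refine ⟨M.map C.subtype, fun x => ⟨?_, fun ⟨hx, h3⟩ => ?_⟩, fun x hx => ?_, ?_⟩
  · rintro ⟨m, hm, rfl⟩
    refine ⟨m.2, fun hd => hMc (hd.trans ?_)⟩
    rw [Subgroup.coe_subtype, Subgroup.orderOf_coe]
    exact Subgroup.orderOf_dvd_natCard M hm
  · refine ⟨⟨x, hx⟩, ?_, rfl⟩
    have h1 : orderOf (MonoidHom.transferSylow P hN ⟨x, hx⟩) ∣ orderOf x := by
      rw [show orderOf x = orderOf (⟨x, hx⟩ : C) from (Subgroup.orderOf_mk x hx).symm]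
      exact orderOf_map_dvd _ _
    have h2 : orderOf (MonoidHom.transferSylow P hN ⟨x, hx⟩) ∣ 3 := by
      have := orderOf_dvd_natCard (MonoidHom.transferSylow P hN ⟨x, hx⟩)
      have e3 : Nat.card (P : Subgroup C) = 3 :=
        (congrArg (fun S : Subgroup C => Nat.card S) hPz).symm.trans hzc
      exact this.trans (dvd_of_eq e3)
    show MonoidHom.transferSylow P hN ⟨x, hx⟩ = 1
    rw [← orderOf_eq_one_iff]
    rcases (Nat.dvd_prime Nat.prime_three).1 h2 with e | e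
    · exact e
    · rw [e] at h1; exact absurd h1 h3
  · obtain ⟨⟨m, p⟩, hmp⟩ := (hM : Subgroup.IsComplement (M : Set C) _).2 ⟨x, hx⟩
    have hp : (p : C) ∈ Subgroup.zpowers zz := by rw [hPz]; exact p.2
    have hv : ((p : C) : G) = φ z0 ^ (0 : Fin 3).val ∨ ((p : C) : G) = φ z0 ^ (1 : Fin 3).val ∨
        ((p : C) : G) = φ z0 ^ (2 : Fin 3).val := by
      rcases (mem_zpowers_three (show zz * zz * zz = 1 from Subtype.ext h.z3)).1 hp with e | e | e
      · left; simp [e]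
      · right; left; simp [e, zz]
      · right; right
        rw [e]
        show (φ z0)⁻¹ = φ z0 ^ 2
        rw [pow_two]
        exact inv_eq_of_mul_eq_one_left h.z3
    have hx' : x = ((m : C) : G) * ((p : C) : G) := (congrArg Subtype.val hmp).symm
    rcases hv with e | e | e <;>
      exact ⟨_, _, ⟨m, m.2, rfl⟩, hx'.trans (congrArg (((m : C) : G) * ·) e)⟩
  · rw [← Nat.card_congr (M.equivMapOfInjective _ C.subtype_injective).toEquiv]
    exact hMc

theorem D_norm_cV {d : G} (hd : d ∈ D) {x : G} (hx : x ∈ cV φ) : d * x * d⁻¹ ∈ cV φ := by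
  have hv : ∀ v, v = v1 ∨ v = v2 → ∃ q, d⁻¹ * φ v * d = φ (vE q) := by
    intro v hv
    obtain ⟨i, j, e⟩ := (h.memD _).1 (inv_mem hd)
    obtain ⟨k1, k2⟩ := (by decide +kernel : ∀ i j : Fin 3, (∃ q,
      z0 ^ i.val * w0 ^ j.val * v1 * (z0 ^ i.val * w0 ^ j.val)⁻¹ = vE q) ∧ ∃ q,
      z0 ^ i.val * w0 ^ j.val * v2 * (z0 ^ i.val * w0 ^ j.val)⁻¹ = vE q) i j
    obtain ⟨q, hq⟩ : ∃ q, z0 ^ i.val * w0 ^ j.val * v * (z0 ^ i.val * w0 ^ j.val)⁻¹ = vE q := by
      rcases hv with rfl | rfl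
      exacts [k1, k2]
    refine ⟨q, ?_⟩
    have hvm : v ∈ L1 := by rcases hv with rfl | rfl; exacts [v1_mem, v2_mem]
    rw [← hq, h.toEmb.conj (d0_mem i j) hvm, ← e, inv_inv]
  have key : ∀ v, v = v1 ∨ v = v2 → d * x * d⁻¹ * φ v = φ v * (d * x * d⁻¹) := by
    intro v hv'
    obtain ⟨q, hq⟩ := hv v hv'
    calc d * x * d⁻¹ * φ v = d * (x * (d⁻¹ * φ v * d)) * d⁻¹ := by group
      _ = d * (d⁻¹ * φ v * d * x) * d⁻¹ := by rw [hq, h.cV_comm hx q]
      _ = _ := by group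
  exact mem_cV.2 ⟨key v1 (Or.inl rfl), key v2 (Or.inr rfl)⟩

end Base

/-- the elements of `Sym(5)` whose conjugates lie in `C_K(φ w0)` -/
def wSet (φ : S8 → G) (s : G) (K : Subgroup G) : Set (Perm (Fin 5)) :=
  {b | sign b = 1 ∧ s * φ (iota (1, b)) * s⁻¹ ∈ K}

namespace Swap

variable {s : G} (h : Swap φ D s) {K : Subgroup G}
include h

omit [Finite G] in
theorem iota_one_mem {b : Perm (Fin 5)} (hb : sign b = 1) : iota (1, b) ∈ L1 :=
  iota_mem_L1 _ (by simp [hb])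

theorem wSet_mul {a b : Perm (Fin 5)} (ha : a ∈ wSet φ s K) (hb : b ∈ wSet φ s K) :
    a * b ∈ wSet φ s K := by
  refine ⟨by rw [map_mul, ha.1, hb.1, one_mul], ?_⟩
  have e : iota (1, a * b) = iota (1, a) * iota (1, b) := by rw [← map_mul]; simp
  rw [e, h.mul _ _ (h.iota_one_mem ha.1) (h.iota_one_mem hb.1)]
  convert mul_mem ha.2 hb.2 using 1
  group

theorem wSet_inv {a : Perm (Fin 5)} (ha : a ∈ wSet φ s K) : a⁻¹ ∈ wSet φ s K := by
  refine ⟨by rw [map_inv, ha.1, inv_one], ?_⟩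
  have e : iota (1, a⁻¹) = (iota (1, a))⁻¹ := by rw [← map_inv]; simp
  rw [e, h.toEmb.map_inv (h.iota_one_mem ha.1)]
  convert inv_mem ha.2 using 1
  group

theorem wSet_one : (1 : Perm (Fin 5)) ∈ wSet φ s K :=
  ⟨_root_.map_one _, by rw [show ((1 : Perm (Fin 3)), (1 : Perm (Fin 5))) = 1 from rfl,
    _root_.map_one, h.map_one, mul_one, mul_inv_cancel]; exact one_mem _⟩

variable (hK : ∀ x, x ∈ K ↔ x ∈ cV φ ∧ ¬ 3 ∣ orderOf x)
include hK

theorem K_norm {d : G} (hd : d ∈ D) {x : G} (hx : x ∈ K) : d * x * d⁻¹ ∈ K :=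
  (hK _).2 ⟨h.toBase.D_norm_cV hd ((hK x).1 hx).1, by rw [orderOf_cj]; exact ((hK x).1 hx).2⟩

theorem wSet_conj {a : Perm (Fin 5)} (ha : a ∈ wSet φ s K) : cB * a * cB⁻¹ ∈ wSet φ s K := by
  have hs : sign (cB * a * cB⁻¹) = 1 := by simp [ha.1]
  refine ⟨hs, ?_⟩
  have e : iota (1, cB * a * cB⁻¹) = w0 * iota (1, a) * w0⁻¹ := by
    rw [w0_iota, ← map_inv, ← map_mul, ← map_mul]; simp
  rw [e, h.toEmb.conj w0_mem (h.iota_one_mem ha.1)]
  convert h.K_norm hK h.z_mem ha.2 using 1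
  rw [← h.sw]
  group

theorem wSet_O3 {a : Perm (Fin 5)} (ha : a ∈ wSet φ s K) : ¬ isO3 a := by
  rintro ⟨h3, h1⟩
  refine ((hK _).1 ha.2).2 ?_
  rw [orderOf_cj]
  have hm := h.iota_one_mem ha.1
  refine three_dvd_of_isO3 ?_ ?_
  · rw [← h.mul _ _ hm hm, ← h.mul _ _ (mul_mem hm hm) hm, ← map_mul, ← map_mul]
    simp [h3, show ((1 : Perm (Fin 3)), (1 : Perm (Fin 5))) = 1 from rfl, h.map_one]
  · intro e
    have := h.inj _ hm e
    rw [← _root_.map_one iota] at this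
    exact h1 (congrArg Prod.snd (iota_injective this))

theorem cent_w_K {x : G} (hx : x ∈ K) (hw : x * φ w0 = φ w0 * x) :
    ∃ b ∈ wSet φ s K, x = s * φ (iota (1, b)) * s⁻¹ := by
  obtain ⟨l, hl, hlz, rfl⟩ := h.cent_w hw
  obtain ⟨⟨a, b⟩, hs, rfl⟩ := exists_iota_of_mem hl
  have c1 := hlz.eq
  rw [z0_iota, ← map_mul, ← map_mul] at c1
  have ca : a * cA = cA * a := congrArg Prod.fst (iota_injective c1)
  have key : ∀ a : Perm (Fin 3), a * cA = cA * a → a * a * a = 1 ∧ sign a = 1 := by decide +kernel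
  obtain ⟨a3, asn⟩ := key a ca
  have ha : a = 1 := by
    by_contra ha
    refine ((hK _).1 hx).2 ?_
    rw [orderOf_cj]
    have e1 : orderOf (iota (a, b)) ∣ orderOf (φ (iota (a, b))) := by
      refine orderOf_dvd_of_pow_eq_one (h.inj _ (pow_mem hl _) ?_)
      rw [h.toEmb.map_pow hl]
      exact pow_orderOf_eq_one _
    refine dvd_trans ?_ e1
    rw [orderOf_injective iota iota_injective, Prod.orderOf]
    exact dvd_trans (three_dvd_of_isO3 a3 ha) (Nat.dvd_lcm_left _ _)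
  subst ha
  exact ⟨b, ⟨by simpa using hs, hx⟩, rfl⟩

omit hK in
/-- the three possibilities -/
theorem wSet_cases (hK : ∀ x, x ∈ K ↔ x ∈ cV φ ∧ ¬ 3 ∣ orderOf x) :
    (∀ b ∈ wSet φ s K, b = 1) ∨
    ((kB1 ∈ wSet φ s K ∧ kB2 ∈ wSet φ s K) ∧ ∀ b ∈ wSet φ s K, b = 1 ∨ kA b) ∨
    ((kB1' ∈ wSet φ s K ∧ kB2' ∈ wSet φ s K) ∧ ∀ b ∈ wSet φ s K, b = 1 ∨ kC b) := by
  have hcl : ∀ b ∈ wSet φ s K, b = 1 ∨ kA b ∨ kC b := by
    intro b hb
    by_cases h1 : b = 1
    · exact Or.inl h1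
    right
    have hd := h.wSet_conj hK hb
    have hd2 : cB⁻¹ * b * cB ∈ wSet φ s K := by
      convert h.wSet_conj hK hd using 1
      have c3' : cB⁻¹ = cB * cB := by decide +kernel
      calc cB⁻¹ * b * cB = cB * cB * b * (cB * cB)⁻¹ := by rw [← c3', inv_inv]
        _ = _ := by group
    rcases perm5_word b hb.1 h1 with e | e | e | e | e | e | e
    · exact Or.inl e
    · exact Or.inr e
    · exact absurd e (h.wSet_O3 hK hb)
    · exact absurd e (h.wSet_O3 hK (h.wSet_mul hb hd))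
    · exact absurd e (h.wSet_O3 hK (h.wSet_mul (h.wSet_inv hb) hd))
    · exact absurd e (h.wSet_O3 hK (h.wSet_mul hb (h.wSet_inv hd)))
    · exact absurd e (h.wSet_O3 hK (h.wSet_mul (h.wSet_mul (h.wSet_mul hb hd) hb) hd2))
  have genA : ∀ b ∈ wSet φ s K, kA b → kB1 ∈ wSet φ s K ∧ kB2 ∈ wSet φ s K := by
    intro b hb e
    have hd := h.wSet_conj hK hb
    have hp := h.wSet_mul hb hd
    have key : ∀ b, kA b → (b = kB1 ∨ cB * b * cB⁻¹ = kB1 ∨ b * (cB * b * cB⁻¹) = kB1) ∧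
        (b = kB2 ∨ cB * b * cB⁻¹ = kB2 ∨ b * (cB * b * cB⁻¹) = kB2) := by decide +kernel
    obtain ⟨k1, k2⟩ := key b e
    constructor
    · rcases k1 with k | k | k <;> rw [← k] <;> assumption
    · rcases k2 with k | k | k <;> rw [← k] <;> assumption
  have genC : ∀ b ∈ wSet φ s K, kC b → kB1' ∈ wSet φ s K ∧ kB2' ∈ wSet φ s K := by
    intro b hb e
    have hd := h.wSet_conj hK hb
    have hp := h.wSet_mul hb hd
    have key : ∀ b, kC b → (b = kB1' ∨ cB * b * cB⁻¹ = kB1' ∨ b * (cB * b * cB⁻¹) = kB1') ∧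
        (b = kB2' ∨ cB * b * cB⁻¹ = kB2' ∨ b * (cB * b * cB⁻¹) = kB2') := by decide +kernel
    obtain ⟨k1, k2⟩ := key b e
    constructor
    · rcases k1 with k | k | k <;> rw [← k] <;> assumption
    · rcases k2 with k | k | k <;> rw [← k] <;> assumption
  by_cases hA : ∃ b ∈ wSet φ s K, kA b
  · obtain ⟨b, hb, e⟩ := hA
    have hg := genA b hb e
    refine Or.inr (Or.inl ⟨hg, fun c hc => ?_⟩)
    rcases hcl c hc with e' | e' | e'
    · exact Or.inl e'
    · exact Or.inr e'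
    · exact absurd kA_kC (h.wSet_O3 hK (h.wSet_mul hg.1 (genC c hc e').1))
  · by_cases hC : ∃ b ∈ wSet φ s K, kC b
    · obtain ⟨b, hb, e⟩ := hC
      refine Or.inr (Or.inr ⟨genC b hb e, fun c hc => ?_⟩)
      rcases hcl c hc with e' | e' | e'
      · exact Or.inl e'
      · exact absurd ⟨c, hc, e'⟩ hA
      · exact Or.inr e'
    · refine Or.inl fun c hc => ?_
      rcases hcl c hc with e' | e' | e'
      · exact e'
      · exact absurd ⟨c, hc, e'⟩ hA
      · exact absurd ⟨c, hc, e'⟩ hC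

/-- `K` is inside any subgroup containing `φ V` and `C_K(φ w0)`. -/
theorem K_le (hK3 : ¬ 3 ∣ Nat.card K) {H : Subgroup G} (hV : ∀ q, φ (vE q) ∈ H)
    (hW : ∀ x ∈ K, x * φ w0 = φ w0 * x → x ∈ H) : K ≤ H := by
  haveI : Fact (Nat.Prime 3) := ⟨Nat.prime_three⟩
  have hzw : Commute (φ z0) (φ w0) :=
    (h.toEmb.comm_iff z0_mem w0_mem).2 (show z0 * w0 = w0 * z0 by decide +kernel)
  have hn : ∀ d ∈ D, d ∈ Subgroup.normalizer (K : Set G) := fun d hd =>
    Subgroup.mem_normalizer_fintype fun x hx => h.K_norm hK hd hx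
  have hpair : CoprimeGen.IsPairAction 3 (φ z0) (φ w0) K :=
    { comm := hzw
      pow_left := by rw [pow_succ, pow_two, h.z3]
      pow_right := by rw [pow_succ, pow_two, h.toBase.D_pow h.w_mem]
      right_ne := fun e => by
        have := h.inj _ w0_mem e
        revert this; decide +kernel
      left_not_mem := by
        rw [mem_zpowers_three (h.toBase.D_pow h.w_mem)]
        rintro (e | e | e)
        · exact h.z_ne e
        · have := (h.toEmb.eq_iff z0_mem w0_mem).1 e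
          revert this; decide +kernel
        · rw [← h.toEmb.map_inv w0_mem] at e
          have := (h.toEmb.eq_iff z0_mem (inv_mem w0_mem)).1 e
          revert this; decide +kernel
      mem_left := hn _ h.z_mem
      mem_right := hn _ h.w_mem }
  refine CoprimeGen.le_of_pair_centralizers hpair hK3 ?_
  intro e he he1 x hx
  obtain ⟨hxK, hxe⟩ := Subgroup.mem_inf.1 hx
  rw [mem_cent_singleton] at hxe
  have heD : e ∈ D := CoprimeGen.pairSubgroup_le h.z_mem h.w_mem he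
  obtain ⟨i, j, rfl⟩ := (h.memD _).1 heD
  by_cases hi : i = 0
  · subst hi
    apply hW x hxK
    fin_cases j
    · exact absurd (by simp [h.map_one]) he1
    · simpa using hxe
    · have : Commute x (φ w0⁻¹) := by
        have e2 : z0 ^ (0 : Fin 3).val * w0 ^ (2 : Fin 3).val = w0⁻¹ := by decide +kernel
        rw [← e2]; exact hxe
      rw [h.toEmb.map_inv w0_mem] at this
      exact (Commute.inv_right_iff.1 this).eq
  by_cases hj : j = 0
  · subst hj
    have hz : x * φ z0 = φ z0 * x := by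
      fin_cases i
      · exact absurd rfl hi
      · simpa using hxe
      · have : Commute x (φ z0⁻¹) := by
          have e2 : z0 ^ (2 : Fin 3).val * w0 ^ (0 : Fin 3).val = z0⁻¹ := by decide +kernel
          rw [← e2]; exact hxe
        rw [h.toEmb.map_inv z0_mem] at this
        exact (Commute.inv_right_iff.1 this).eq
    obtain ⟨l, hl, rfl⟩ := (h.img x).1 ((mem_normalizer_zpowers h.z3).2 (Or.inl (by
      rw [hz]; group)))
    obtain ⟨hxc, hx3⟩ := (hK _).1 hxK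
    obtain ⟨k, q, rfl⟩ := h.toBase.cV_inter_L hl hxc
    by_cases hk : k = 0
    · subst hk; simpa using hV q
    · exfalso
      apply hx3
      set g := z0 ^ k.val * vE q
      have key : g ^ 6 = 1 ∧ g ^ 2 ≠ 1 :=
        (by decide +kernel : ∀ (k : Fin 3) (q : Fin 2 × Fin 2), k ≠ 0 →
          (z0 ^ k.val * vE q) ^ 6 = 1 ∧ (z0 ^ k.val * vE q) ^ 2 ≠ 1) k q hk
      by_contra hc
      have h6 : orderOf (φ g) ∣ 3 * 2 := orderOf_dvd_of_pow_eq_one (by
        rw [show 3 * 2 = 6 from rfl, ← h.toEmb.map_pow hl, key.1, h.map_one])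
      have h2 := orderOf_dvd_iff_pow_eq_one.1
        (((Nat.Prime.coprime_iff_not_dvd Nat.prime_three).2 hc).symm.dvd_of_dvd_mul_left h6)
      rw [← h.toEmb.map_pow hl] at h2
      exact key.2 (h.inj _ (pow_mem hl _) h2)
  · have hxN := h.toBase.diag_le i j hi hj (mem_cent_singleton.2 hxe)
    have hxD : x ∈ D := by
      rw [← h.cent, Subgroup.mem_centralizer_iff]
      intro d hd
      have h1 : d * x * d⁻¹ * x⁻¹ ∈ K := mul_mem (h.K_norm hK hd hxK) (inv_mem hxK)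
      have h2 : d * x * d⁻¹ * x⁻¹ ∈ D := by
        have := mul_mem hd ((Subgroup.mem_normalizer_iff.1 hxN d⁻¹).1 (inv_mem hd))
        simpa [mul_assoc] using this
      have h3 : d * x * d⁻¹ * x⁻¹ = 1 := by
        by_contra hne
        exact ((hK _).1 h1).2 (three_dvd_of_isO3 (h.toBase.D_pow h2) hne)
      rw [mul_inv_eq_one, mul_inv_eq_iff_eq_mul] at h3
      exact h3
    have : x = 1 := by
      by_contra hne
      exact ((hK x).1 hxK).2 (three_dvd_of_isO3 (h.toBase.D_pow hxD) hne)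
    rw [this]; exact one_mem _

end Swap

end Cfsg.Agent.A8ThreeLocal45
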