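import Mathlib

/-!
The model for the 3-local characterisation of the alternating group of degree 8: the stabiliser of
`{0,1,2}` in the even permutations of eight points, some named elements, and facts about them that
are checked by evaluation.
-/

set_option autoImplicit false

namespace Cfsg.Agent.A8ThreeLocal45

open Equiv Equiv.Perm

abbrev S8 := Equiv.Perm (Fin 8)

/-- `Sym(3) × Sym(5)` on the points `{0,1,2}` and `{3,..,7}`. -/
def iota : Perm (Fin 3) × Perm (Fin 5) →* S8 :=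
  (finSumFinEquiv (m := 3) (n := 5)).permCongrHom.toMonoidHom.comp
    (Equiv.Perm.sumCongrHom (Fin 3) (Fin 5))

theorem iota_injective : Function.Injective iota :=
  (finSumFinEquiv (m := 3) (n := 5)).permCongrHom.injective.comp Equiv.Perm.sumCongrHom_injective

theorem sign_iota (p : Perm (Fin 3) × Perm (Fin 5)) : sign (iota p) = sign p.1 * sign p.2 := by
  simp [iota, Equiv.Perm.sign_sumCongr, Equiv.Perm.sign_permCongr]

/-- The even permutations stabilising `{0,1,2}`. -/
def L1 : Subgroup S8 where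
  carrier := {x | sign x = 1 ∧ ∀ i : Fin 8, (x i).val < 3 ↔ i.val < 3}
  one_mem' := by simp
  mul_mem' := by
    rintro x y ⟨hx, hx'⟩ ⟨hy, hy'⟩
    exact ⟨by rw [map_mul, hx, hy, one_mul], fun i => (hx' (y i)).trans (hy' i)⟩
  inv_mem' := by
    rintro x ⟨hx, hx'⟩
    refine ⟨by rw [map_inv, hx, inv_one], fun i => ?_⟩
    have := hx' (x⁻¹ i)
    rw [show x (x⁻¹ i) = i from x.apply_symm_apply i] at this
    exact this.symm

theorem mem_L1 {x : S8} : x ∈ L1 ↔ sign x = 1 ∧ ∀ i : Fin 8, (x i).val < 3 ↔ i.val < 3 := Iff.rfl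

instance (x : S8) : Decidable (x ∈ L1) := decidable_of_iff _ mem_L1.symm

theorem iota_mem_L1 (p : Perm (Fin 3) × Perm (Fin 5)) (h : sign p.1 * sign p.2 = 1) :
    iota p ∈ L1 := by
  refine ⟨by rw [sign_iota, h], fun i => ?_⟩
  obtain ⟨k, rfl⟩ := (finSumFinEquiv (m := 3) (n := 5)).surjective i
  rcases k with k | k <;> simp [iota] <;> simp [finSumFinEquiv]

theorem exists_iota_of_mem {x : S8} (h : x ∈ L1) :
    ∃ p : Perm (Fin 3) × Perm (Fin 5), sign p.1 * sign p.2 = 1 ∧ iota p = x := by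
  set y : Perm (Fin 3 ⊕ Fin 5) := (finSumFinEquiv (m := 3) (n := 5)).symm.permCongr x with hy
  have hm : Set.MapsTo y (Set.range Sum.inl) (Set.range Sum.inl) := by
    rintro _ ⟨k, rfl⟩
    have h3 : (x (finSumFinEquiv (m := 3) (n := 5) (Sum.inl k))).val < 3 :=
      (h.2 _).2 (k.isLt)
    rcases hk : y (Sum.inl k) with j | j
    · exact ⟨j, rfl⟩
    · exfalso
      have : finSumFinEquiv (m := 3) (n := 5) (y (Sum.inl k)) =
          x (finSumFinEquiv (m := 3) (n := 5) (Sum.inl k)) := by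
        simp [hy]
      rw [← this, hk] at h3
      simp [finSumFinEquiv] at h3
  obtain ⟨p, hp⟩ := Equiv.Perm.mem_sumCongrHom_range_of_perm_mapsTo_inl hm
  have hx : iota p = x := by
    show (finSumFinEquiv (m := 3) (n := 5)).permCongr (sumCongrHom (Fin 3) (Fin 5) p) = x
    rw [hp, hy]
    ext i
    simp
  exact ⟨p, by rw [← sign_iota, hx, h.1], hx⟩

/-- the three-cycle `(i j k)` -/
def c3 (i j k : Fin 8) : S8 := swap i j * swap j k
/-- the product `(i j)(k l)` -/
def d2 (i j k l : Fin 8) : S8 := swap i j * swap k l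

def z0 : S8 := c3 0 1 2
def w0 : S8 := c3 3 4 5
def y0 : S8 := z0 * w0
def e0 : S8 := d2 0 1 6 7
def b0 : S8 := d2 3 4 6 7
def a0 : S8 := d2 0 1 3 4
def v1 : S8 := d2 3 4 5 6
def v2 : S8 := d2 3 5 4 6
def a1 : S8 := d2 0 1 2 7
def a2 : S8 := d2 0 2 1 7
def tau : S8 := swap 0 3 * swap 1 4 * swap 2 5 * swap 6 7
def tau' : S8 := swap 0 3 * swap 1 4 * swap 2 5

theorem z0_mem : z0 ∈ L1 := by decide
theorem w0_mem : w0 ∈ L1 := by decide
theorem y0_mem : y0 ∈ L1 := by decide
theorem e0_mem : e0 ∈ L1 := by decide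
theorem b0_mem : b0 ∈ L1 := by decide
theorem a0_mem : a0 ∈ L1 := by decide
theorem v1_mem : v1 ∈ L1 := by decide
theorem v2_mem : v2 ∈ L1 := by decide

end Cfsg.Agent.A8ThreeLocal45
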