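import Cfsg.Agent.Lib.A8ThreeLocalFrame45

/-!
The normalised swap `s`, and the lemma that no involution centralises conjugates of both
`φ z0` and `φ y0`.
-/

set_option autoImplicit false

namespace Cfsg.Agent.A8ThreeLocal45

open Equiv Equiv.Perm

set_option maxRecDepth 100000

variable {G : Type*} [Group G]

structure Swap (φ : S8 → G) (D : Subgroup G) (s : G) : Prop extends Base φ D where
  mem : s ∈ Subgroup.normalizer (D : Set G)
  sz : s * φ z0 * s⁻¹ = φ w0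
  sw : s * φ w0 * s⁻¹ = φ z0
  se : s * φ e0 * s⁻¹ = φ b0
  sb : s * φ b0 * s⁻¹ = φ e0

theorem three_comm {x d : G} (h : x * d = d * x) (hd : d * d * d = 1) (hx : x * x = 1)
    (hd1 : d ≠ 1) : x * d ≠ 1 := by
  intro e
  have : x = d⁻¹ := eq_inv_of_mul_eq_one_left e
  apply hd1
  have h2 : d⁻¹ * d⁻¹ = 1 := by rw [← this]; exact hx
  have h3 : d * d = 1 := by rw [← inv_inv (d * d), mul_inv_rev, h2, inv_one]
  rwa [h3, one_mul] at hd

theorem card_zpowers_three {a : G} (ha : a * a * a = 1) (ha1 : a ≠ 1) :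
    Nat.card (Subgroup.zpowers a) = 3 := by
  haveI : Fact (Nat.Prime 3) := ⟨Nat.prime_three⟩
  rw [Nat.card_zpowers]
  exact orderOf_eq_prime (by rw [pow_succ, pow_two, ha]) ha1

variable [Finite G] {φ : S8 → G} {D : Subgroup G}

namespace Base

variable (h : Base φ D)
include h

theorem D_pow {d : G} (hd : d ∈ D) : d * d * d = 1 := by
  obtain ⟨i, j, rfl⟩ := (h.memD _).1 hd
  rw [← h.mul _ _ (d0_mem i j) (d0_mem i j), ← h.mul _ _ (mul_mem (d0_mem i j) (d0_mem i j))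
    (d0_mem i j), ← h.map_one]
  congr 1
  exact (by decide +kernel : ∀ i j : Fin 3, z0 ^ i.val * w0 ^ j.val * (z0 ^ i.val * w0 ^ j.val) *
    (z0 ^ i.val * w0 ^ j.val) = 1) i j

theorem D_invol {d : G} (hd : d ∈ D) (h2 : d * d = 1) : d = 1 := by
  simpa [h2] using h.D_pow hd

/-- A 3-subgroup centralised by an involution has order dividing 3. -/
theorem three_small {R : Subgroup G} (hR : IsPGroup 3 R) {i : G} (hi : i * i = 1) (hi1 : i ≠ 1)
    (hc : ∀ x ∈ R, i * x = x * i) : Nat.card R ∣ 3 := by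
  haveI : Fact (Nat.Prime 3) := ⟨Nat.prime_three⟩
  obtain ⟨g, hg⟩ := h.sylow R hR
  have hle : R.map (MulAut.conj g).toMonoidHom ≤ D := by
    rintro _ ⟨x, hx, rfl⟩; exact hg x hx
  have hc' : Nat.card (R.map (MulAut.conj g).toMonoidHom) = Nat.card R :=
    (Nat.card_congr (R.equivMapOfInjective _ (MulAut.conj g).injective).toEquiv).symm
  have hd : Nat.card R ∣ 3 ^ 2 := by
    rw [← hc', show (3 : ℕ) ^ 2 = Nat.card D by rw [h.cardD]; norm_num]
    exact Subgroup.card_dvd_of_le hle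
  obtain ⟨k, hk, e⟩ := (Nat.dvd_prime_pow Nat.prime_three).1 hd
  rw [e]
  interval_cases k
  · simp
  · simp
  · exfalso
    have heq := Subgroup.eq_of_le_of_card_ge hle (by rw [hc', h.cardD, e]; norm_num)
    have hi' : g * i * g⁻¹ ∈ D := by
      rw [← h.cent, Subgroup.mem_centralizer_iff]
      intro d hd
      rw [SetLike.mem_coe, ← heq] at hd
      obtain ⟨x, hx, rfl⟩ := hd
      simp only [MulEquiv.coe_toMonoidHom, MulAut.conj_apply]
      calc g * x * g⁻¹ * (g * i * g⁻¹) = g * (x * i) * g⁻¹ := by group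
        _ = g * (i * x) * g⁻¹ := by rw [hc x hx]
        _ = _ := by group
    exact hi1 (conj_eq_one_iff.1 (h.D_invol hi' (by
      rw [show g * i * g⁻¹ * (g * i * g⁻¹) = g * (i * i) * g⁻¹ by group, hi]; group)))

theorem z_ne : φ z0 ≠ 1 := fun e => by
  have := h.inj _ z0_mem e
  revert this; decide +kernel

theorem y3 : φ y0 * φ y0 * φ y0 = 1 := h.D_pow h.y_mem

theorem y_ne : φ y0 ≠ 1 := fun e => by
  have := h.inj _ y0_mem e
  revert this; decide +kernel

/-- No involution centralises conjugates of both `φ z0` and `φ y0`. -/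
theorem not_both {i g k : G} (hi : i * i = 1) (hi1 : i ≠ 1)
    (hz : Commute i (g * φ z0 * g⁻¹)) (hy : Commute i (k * φ y0 * k⁻¹)) : False := by
  haveI : Fact (Nat.Prime 3) := ⟨Nat.prime_three⟩
  set a := g * φ z0 * g⁻¹ with ha
  set b := k * φ y0 * k⁻¹ with hb
  have ha3 : a * a * a = 1 := by
    rw [ha, show g * φ z0 * g⁻¹ * (g * φ z0 * g⁻¹) * (g * φ z0 * g⁻¹) =
      g * (φ z0 * φ z0 * φ z0) * g⁻¹ by group, h.z3]; group
  have hb3 : b * b * b = 1 := by
    rw [hb, show k * φ y0 * k⁻¹ * (k * φ y0 * k⁻¹) * (k * φ y0 * k⁻¹) =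
      k * (φ y0 * φ y0 * φ y0) * k⁻¹ by group, h.y3]; group
  have ha1 : a ≠ 1 := fun e => h.z_ne (conj_eq_one_iff.1 e)
  have hb1 : b ≠ 1 := fun e => h.y_ne (conj_eq_one_iff.1 e)
  set C := Subgroup.centralizer ({i} : Set G)
  have haC : a ∈ C := mem_cent_singleton.2 hz.eq.symm
  have hbC : b ∈ C := mem_cent_singleton.2 hy.eq.symm
  have hsmall : ∀ R : Subgroup C, IsPGroup 3 R → Nat.card R ∣ 3 := by
    intro R hR
    rw [Nat.card_congr (R.equivMapOfInjective _ C.subtype_injective).toEquiv]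
    refine h.three_small (hR.map _) hi hi1 ?_
    rintro _ ⟨x, -, rfl⟩
    exact (mem_cent_singleton.1 x.2).symm
  have hcz : ∀ {x : G} (hx : x ∈ C), x * x * x = 1 → x ≠ 1 →
      Nat.card (Subgroup.zpowers (⟨x, hx⟩ : C)) = 3 := by
    intro x hx h3 h1
    exact card_zpowers_three (Subtype.ext h3) (fun e => h1 (congrArg Subtype.val e))
  have hpa : IsPGroup 3 (Subgroup.zpowers (⟨a, haC⟩ : C)) :=
    IsPGroup.of_card (n := 1) (by rw [hcz haC ha3 ha1, pow_one])
  have hpb : IsPGroup 3 (Subgroup.zpowers (⟨b, hbC⟩ : C)) :=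
    IsPGroup.of_card (n := 1) (by rw [hcz hbC hb3 hb1, pow_one])
  obtain ⟨P, hP⟩ := hpa.exists_le_sylow
  obtain ⟨Q, hQ⟩ := hpb.exists_le_sylow
  have hPa : Subgroup.zpowers (⟨a, haC⟩ : C) = (P : Subgroup C) :=
    Subgroup.eq_of_le_of_card_ge hP (by
      rw [hcz haC ha3 ha1]; exact Nat.le_of_dvd (by norm_num) (hsmall _ P.isPGroup'))
  obtain ⟨c, hc⟩ := MulAction.exists_smul_eq C Q P
  have hmem : (c : G) * b * (c : G)⁻¹ ∈ Subgroup.zpowers a := by
    have h1 : c * ⟨b, hbC⟩ * c⁻¹ ∈ ((c • Q : Sylow 3 C) : Subgroup C) := by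
      rw [Sylow.coe_subgroup_smul, Subgroup.mem_pointwise_smul_iff_inv_smul_mem]
      simpa [MulAut.smul_def, mul_assoc] using hQ (Subgroup.mem_zpowers _)
    rw [hc, ← hPa] at h1
    obtain ⟨n, hn⟩ := Subgroup.mem_zpowers_iff.1 h1
    refine Subgroup.mem_zpowers_iff.2 ⟨n, ?_⟩
    have := congrArg Subtype.val hn
    simpa using this
  have hcard : Nat.card (Subgroup.centralizer ({(c : G) * b * (c : G)⁻¹} : Set G)) = 18 := by
    rw [card_cent_conj, hb, card_cent_conj]; exact h.y0_spec.1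
  rcases (mem_zpowers_three ha3).1 hmem with e | e | e
  · exact hb1 (conj_eq_one_iff.1 e)
  · rw [e, ha, card_cent_conj] at hcard; exact h.card_cent_z hcard
  · rw [e, card_cent_inv, ha, card_cent_conj] at hcard; exact h.card_cent_z hcard

/-- `C(φ d)` normalises `D` for the four diagonal elements `d`. -/
theorem diag_le (i j : Fin 3) (hi : i ≠ 0) (hj : j ≠ 0) :
    Subgroup.centralizer ({φ (z0 ^ i.val * w0 ^ j.val)} : Set G) ≤
      Subgroup.normalizer (D : Set G) := by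
  intro x hx
  rw [mem_cent_singleton] at hx
  rcases d0_cases i j with ⟨e, -⟩ | ⟨e, -⟩ | ⟨e, -⟩ | ⟨k, e⟩
  · exact absurd e hi
  · exact absurd e hj
  · exact absurd e hi
  · have hN : φ (e0 ^ k.val) ∈ Subgroup.normalizer (D : Set G) := by
      simpa [m0] using h.m0_norm (0, 0, k, 0)
    have hy : Commute ((φ (e0 ^ k.val))⁻¹ * x * φ (e0 ^ k.val)) (φ y0) := by
      rcases e with e | e
      · rw [e, h.toEmb.conj (pow_mem e0_mem _) y0_mem] at hx
        show _ * φ y0 = φ y0 * _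
        calc (φ (e0 ^ k.val))⁻¹ * x * φ (e0 ^ k.val) * φ y0
            = (φ (e0 ^ k.val))⁻¹ * (x * (φ (e0 ^ k.val) * φ y0 * (φ (e0 ^ k.val))⁻¹)) *
              φ (e0 ^ k.val) := by group
          _ = _ := by rw [hx]; group
      · rw [e, h.toEmb.conj (pow_mem e0_mem _) (inv_mem y0_mem), h.toEmb.map_inv y0_mem] at hx
        refine Commute.inv_right_iff.1 ?_
        show _ * (φ y0)⁻¹ = (φ y0)⁻¹ * _
        calc (φ (e0 ^ k.val))⁻¹ * x * φ (e0 ^ k.val) * (φ y0)⁻¹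
            = (φ (e0 ^ k.val))⁻¹ * (x * (φ (e0 ^ k.val) * (φ y0)⁻¹ * (φ (e0 ^ k.val))⁻¹)) *
              φ (e0 ^ k.val) := by group
          _ = _ := by rw [hx]; group
    have := h.y0_spec.2 (mem_cent_singleton.2 hy.eq)
    simpa [mul_assoc] using mul_mem (mul_mem hN this) (inv_mem hN)

end Base

namespace Swap

variable {s : G} (h : Swap φ D s)
include h

theorem sy : s * φ y0 * s⁻¹ = φ y0 := by
  rw [y0, h.mul _ _ z0_mem w0_mem, show s * (φ z0 * φ w0) * s⁻¹ =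
    s * φ z0 * s⁻¹ * (s * φ w0 * s⁻¹) by group, h.sz, h.sw, ← h.mul _ _ w0_mem z0_mem,
    ← h.mul _ _ z0_mem w0_mem]
  congr 1
  decide +kernel

theorem s_sq : s * s = 1 := by
  have key : ∀ x ∈ L1, ∀ y ∈ L1, s * φ x * s⁻¹ = φ y → s * φ y * s⁻¹ = φ x →
      s * s * φ x = φ x * (s * s) := by
    intro x _ y _ h1 h2
    calc s * s * φ x = s * (s * φ x * s⁻¹) * s⁻¹ * (s * s) := by group
      _ = _ := by rw [h1, h2]
  have hz := key z0 z0_mem w0 w0_mem h.sz h.sw
  have hw := key w0 w0_mem z0 z0_mem h.sw h.sz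
  have he := key e0 e0_mem b0 b0_mem h.se h.sb
  have hb := key b0 b0_mem e0 e0_mem h.sb h.se
  have hD : s * s ∈ D := by
    rw [← h.cent, Subgroup.mem_centralizer_iff]
    intro d hd
    obtain ⟨i, j, rfl⟩ := (h.memD _).1 hd
    rw [h.mul _ _ (pow_mem z0_mem _) (pow_mem w0_mem _), h.toEmb.map_pow z0_mem,
      h.toEmb.map_pow w0_mem]
    exact ((Commute.pow_right hz _).mul_right (Commute.pow_right hw _)).eq.symm
  obtain ⟨i, j, e⟩ := (h.memD _).1 hD
  rw [e] at he hb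
  have he' := (h.toEmb.comm_iff (d0_mem i j) e0_mem).1 he
  have hb' := (h.toEmb.comm_iff (d0_mem i j) b0_mem).1 hb
  have : z0 ^ i.val * w0 ^ j.val = 1 := (by decide +kernel : ∀ i j : Fin 3,
    z0 ^ i.val * w0 ^ j.val * e0 = e0 * (z0 ^ i.val * w0 ^ j.val) →
    z0 ^ i.val * w0 ^ j.val * b0 = b0 * (z0 ^ i.val * w0 ^ j.val) →
    z0 ^ i.val * w0 ^ j.val = 1) i j he'.eq hb'.eq
  rw [e, this, h.map_one]

theorem s_ne : s ≠ 1 := fun e => by
  have := h.sz
  rw [e, one_mul, inv_one, mul_one] at this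
  have := (h.toEmb.eq_iff z0_mem w0_mem).1 this
  revert this; decide +kernel

theorem s_inv : s⁻¹ = s := inv_eq_of_mul_eq_one_right h.s_sq

theorem cent_w {x : G} (hx : x * φ w0 = φ w0 * x) :
    ∃ l ∈ L1, Commute l z0 ∧ x = s * φ l * s⁻¹ := by
  have hc : s⁻¹ * x * s * φ z0 = φ z0 * (s⁻¹ * x * s) := by
    rw [← h.sz] at hx
    calc s⁻¹ * x * s * φ z0 = s⁻¹ * (x * (s * φ z0 * s⁻¹)) * s := by group
      _ = _ := by rw [hx]; group
  obtain ⟨l, hl, e⟩ := (h.img (s⁻¹ * x * s)).1 ((mem_normalizer_zpowers h.z3).2 (Or.inl (by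
    rw [hc]; group)))
  refine ⟨l, hl, (h.toEmb.comm_iff hl z0_mem).1 ?_, by rw [e]; group⟩
  show _ = _
  rw [e]; exact hc

end Swap

end Cfsg.Agent.A8ThreeLocal45
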