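import Cfsg.Agent.Lib.A8ThreeLocalAmalgam45

/-!
The image `R` of `Alt(8)`: normalisers of the four group and of `E`, and its Sylow 2-subgroup.
-/

set_option autoImplicit false

namespace Cfsg.Agent.A8ThreeLocal45

open Equiv Equiv.Perm

set_option maxRecDepth 100000

variable {G : Type*} [Group G] [Finite G] {f : S8 → G} {D : Subgroup G}

/-- `E = V × V'` -/
def eE (e : (Fin 2 × Fin 2) × (Fin 2 × Fin 2)) : S8 := vE e.1 * aE e.2

/-- a complement of `E` in a Sylow 2-subgroup -/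
def cE (c : Fin 2 × Fin 2) : S8 := a0 ^ c.1.val * tau ^ c.2.val

abbrev SIdx := ((Fin 2 × Fin 2) × (Fin 2 × Fin 2)) × (Fin 2 × Fin 2)

def sP (x : SIdx) : S8 := eE x.1 * cE x.2

theorem sign_eE : ∀ e, sign (eE e) = 1 := by decide +kernel
theorem sign_cE : ∀ c, sign (cE c) = 1 := by decide +kernel
theorem sign_sP (x : SIdx) : sign (sP x) = 1 := by rw [sP, map_mul, sign_eE, sign_cE, one_mul]

theorem eE_mul : ∀ e e', eE e * eE e' = eE (e + e') := by decide +kernel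
theorem cE_mul : ∀ c c', cE c * cE c' = cE (c + c') := by decide +kernel
theorem cE_eE : ∀ c e, ∃ e', cE c * eE e = eE e' * cE c := by decide +kernel
theorem eE_eq_cE : ∀ e c, eE e = cE c → e = 0 ∧ c = 0 := by decide +kernel
theorem eE_injective : ∀ e e', eE e = eE e' → e = e' := by decide +kernel
theorem eE_zero : eE 0 = 1 := by decide +kernel
theorem cE_zero : cE 0 = 1 := by decide +kernel

def eSub : Subgroup S8 where
  carrier := {x | ∃ e, x = eE e}
  one_mem' := ⟨0, eE_zero.symm⟩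
  mul_mem' := by
    rintro _ _ ⟨p, rfl⟩ ⟨q, rfl⟩
    exact ⟨p + q, eE_mul p q⟩
  inv_mem' := by
    rintro _ ⟨p, rfl⟩
    refine ⟨p, inv_eq_of_mul_eq_one_right ?_⟩
    rw [eE_mul, show p + p = 0 by revert p; decide, eE_zero]

def cSub : Subgroup S8 where
  carrier := {x | ∃ e, x = cE e}
  one_mem' := ⟨0, cE_zero.symm⟩
  mul_mem' := by
    rintro _ _ ⟨p, rfl⟩ ⟨q, rfl⟩
    exact ⟨p + q, cE_mul p q⟩
  inv_mem' := by
    rintro _ ⟨p, rfl⟩
    refine ⟨p, inv_eq_of_mul_eq_one_right ?_⟩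
    rw [cE_mul, show p + p = 0 by revert p; decide, cE_zero]

def s64 : Subgroup S8 where
  carrier := {x | ∃ p, x = sP p}
  one_mem' := ⟨(0, 0), by rw [sP, eE_zero, cE_zero, one_mul]⟩
  mul_mem' := by
    rintro _ _ ⟨p, rfl⟩ ⟨q, rfl⟩
    obtain ⟨e', he⟩ := cE_eE p.2 q.1
    refine ⟨(p.1 + e', p.2 + q.2), ?_⟩
    rw [sP, sP, sP, ← eE_mul, ← cE_mul]
    calc eE p.1 * cE p.2 * (eE q.1 * cE q.2) = eE p.1 * (cE p.2 * eE q.1) * cE q.2 := by group
      _ = _ := by rw [he]; group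
  inv_mem' := by
    rintro _ ⟨p, rfl⟩
    obtain ⟨e', he⟩ := cE_eE p.2 p.1
    refine ⟨(e', p.2), inv_eq_of_mul_eq_one_right ?_⟩
    rw [sP, sP]
    obtain ⟨e'', he'⟩ := cE_eE p.2 e'
    have h1 : cE p.2 * cE p.2 = 1 := by
      rw [cE_mul, show p.2 + p.2 = 0 from (by decide : ∀ a : Fin 2 × Fin 2, a + a = 0) p.2, cE_zero]
    have h2 : eE p.1 * eE p.1 = 1 := by
      rw [eE_mul, show p.1 + p.1 = 0 from
        (by decide : ∀ a : (Fin 2 × Fin 2) × (Fin 2 × Fin 2), a + a = 0) p.1, eE_zero]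
    calc eE p.1 * cE p.2 * (eE e' * cE p.2) = eE p.1 * cE p.2 * (cE p.2 * eE p.1) := by rw [he]
      _ = eE p.1 * (cE p.2 * cE p.2) * eE p.1 := by group
      _ = 1 := by rw [h1, mul_one, h2]

theorem sP_injective {p q : SIdx} (e : sP p = sP q) : p = q := by
  obtain ⟨p1, p2⟩ := p
  obtain ⟨q1, q2⟩ := q
  have h2 : ∀ a : Fin 2 × Fin 2, a + a = 0 := by decide
  have h1 : ∀ a : (Fin 2 × Fin 2) × (Fin 2 × Fin 2), a + a = 0 := by decide
  simp only [sP] at e
  have key : eE (q1 + p1) = cE (q2 + p2) := by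
    rw [← eE_mul, ← cE_mul]
    calc eE q1 * eE p1 = eE q1 * (eE p1 * cE p2) * cE p2 := by
          rw [mul_assoc (eE q1), mul_assoc (eE p1), cE_mul, h2, cE_zero, mul_one]
      _ = eE q1 * (eE q1 * cE q2) * cE p2 := by rw [e]
      _ = cE q2 * cE p2 := by rw [← mul_assoc, eE_mul, h1, eE_zero, one_mul]
  obtain ⟨k1, k2⟩ := eE_eq_cE _ _ key
  refine Prod.ext ?_ ?_
  · exact (by decide : ∀ a b : (Fin 2 × Fin 2) × (Fin 2 × Fin 2), a + b = 0 → b = a) _ _ k1
  · exact (by decide : ∀ a b : Fin 2 × Fin 2, a + b = 0 → b = a) _ _ k2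

namespace Full

variable (h : Full f D)
include h

theorem map_one : f 1 = 1 := by
  have := h.mul 1 1 (_root_.map_one _) (_root_.map_one _)
  rw [one_mul] at this
  exact left_eq_mul.1 this

theorem map_inv {x : S8} (hx : sign x = 1) : f x⁻¹ = (f x)⁻¹ :=
  eq_inv_of_mul_eq_one_left (by
    rw [← h.mul _ _ (by rw [_root_.map_inv, hx, inv_one]) hx, inv_mul_cancel, h.map_one])

theorem conj {x y : S8} (hx : sign x = 1) (hy : sign y = 1) :
    f (x * y * x⁻¹) = f x * f y * (f x)⁻¹ := by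
  rw [h.mul _ _ (by rw [_root_.map_mul, hx, hy, one_mul]) (by rw [_root_.map_inv, hx, inv_one]),
    h.mul _ _ hx hy, h.map_inv hx]

theorem eq_iff {x y : S8} (hx : sign x = 1) (hy : sign y = 1) : f x = f y ↔ x = y := by
  refine ⟨fun e => ?_, fun e => e ▸ rfl⟩
  have hy' : sign y⁻¹ = 1 := by rw [_root_.map_inv, hy, inv_one]
  refine mul_inv_eq_one.1 (h.inj _ (by rw [_root_.map_mul, hx, hy', one_mul]) ?_)
  rw [h.mul _ _ hx hy', h.map_inv hy, e, mul_inv_cancel]

theorem comm {x y : S8} (hx : sign x = 1) (hy : sign y = 1) (e : x * y = y * x) :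
    f x * f y = f y * f x := by
  rw [← h.mul _ _ hx hy, ← h.mul _ _ hy hx, e]

theorem comm' {x y : S8} (hx : sign x = 1) (hy : sign y = 1) (e : f x * f y = f y * f x) :
    x * y = y * x := by
  rw [← h.mul _ _ hx hy, ← h.mul _ _ hy hx] at e
  exact (h.eq_iff (by rw [_root_.map_mul, hx, hy, one_mul])
    (by rw [_root_.map_mul, hx, hy, one_mul])).1 e

/-- the image of `Alt(8)` -/
def rng : Subgroup G where
  carrier := {g | ∃ x, sign x = 1 ∧ f x = g}
  one_mem' := ⟨1, _root_.map_one _, h.map_one⟩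
  mul_mem' := by
    rintro _ _ ⟨x, hx, rfl⟩ ⟨y, hy, rfl⟩
    exact ⟨x * y, by rw [_root_.map_mul, hx, hy, one_mul], h.mul _ _ hx hy⟩
  inv_mem' := by
    rintro _ ⟨x, hx, rfl⟩
    exact ⟨x⁻¹, by rw [_root_.map_inv, hx, inv_one], h.map_inv hx⟩

theorem mem_rng {x : S8} (hx : sign x = 1) : f x ∈ h.rng := ⟨x, hx, rfl⟩

/-- the restriction to the alternating group -/
def hom : alternatingGroup (Fin 8) →* G where
  toFun a := f a.1
  map_one' := h.map_one
  map_mul' a b := h.mul _ _ a.2 b.2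

theorem hom_injective : Function.Injective h.hom := by
  rw [injective_iff_map_eq_one]
  exact fun a ha => Subtype.ext (h.inj _ a.2 ha)

theorem card_rng : Nat.card h.rng = 20160 := by
  have hr : h.hom.range = h.rng := by
    ext g
    constructor
    · rintro ⟨a, rfl⟩; exact ⟨a.1, a.2, rfl⟩
    · rintro ⟨x, hx, rfl⟩; exact ⟨⟨x, hx⟩, rfl⟩
  rw [← hr, ← Nat.card_congr (MonoidHom.ofInjective h.hom_injective).toEquiv]
  have := two_mul_nat_card_alternatingGroup (α := Fin 8)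
  rw [Nat.card_perm, Nat.card_eq_fintype_card (α := Fin 8), Fintype.card_fin] at this
  rw [show (8 : ℕ).factorial = 40320 from rfl] at this
  omega

/-- `t`-type and `u`-type elements -/
theorem not_both' {i : S8} (hi : sign i = 1) (hi2 : i * i = 1) (hi1 : i ≠ 1) {g k : G}
    (c1 : Commute (f i) (g * f z0 * g⁻¹)) (c2 : Commute (f i) (k * f y0 * k⁻¹)) : False :=
  h.not_both (by rw [← h.mul _ _ hi hi, hi2, h.map_one])
    (fun e => hi1 (h.inj _ hi e)) c1 c2

theorem v1_tau {g : G} (e : g * f v1 * g⁻¹ = f tau) : False := by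
  have c1 : Commute (f v1) (1 * f z0 * 1⁻¹) := by
    rw [one_mul, inv_one, mul_one]
    exact h.comm v1_mem.1 z0_mem.1 (by decide +kernel)
  have c2 : Commute (f tau) (1 * f y0 * 1⁻¹) := by
    rw [one_mul, inv_one, mul_one]
    exact h.comm (by decide +kernel) y0_mem.1 (by decide +kernel)
  refine h.not_both' (i := v1) v1_mem.1 (by decide +kernel) (by decide +kernel)
    (g := 1) (k := g⁻¹) c1 ?_
  show _ = _
  rw [← e] at c2
  have c2' : g * f v1 * g⁻¹ * f y0 = f y0 * (g * f v1 * g⁻¹) := by simpa using c2.eq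
  calc f v1 * (g⁻¹ * f y0 * g⁻¹⁻¹) = g⁻¹ * (g * f v1 * g⁻¹ * f y0) * g := by group
    _ = _ := by rw [c2']; group

theorem norm_z' {g : G} (e : g * f z0 * g⁻¹ = f z0 ∨ g * f z0 * g⁻¹ = (f z0)⁻¹) :
    g ∈ h.rng := by
  have h3 : f z0 * f z0 * f z0 = 1 := by
    rw [← h.mul _ _ z0_mem.1 z0_mem.1, ← h.mul _ _ (by decide +kernel) z0_mem.1,
      show z0 * z0 * z0 = 1 by decide +kernel, h.map_one]
  exact h.norm_z g ((mem_normalizer_zpowers h3).2 e)

/-- the normaliser of `f V` is inside the image -/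
theorem norm_V {g : G} (hg : ∀ q, ∃ q', g * f (vE q) * g⁻¹ = f (vE q')) : g ∈ h.rng := by
  have hsurj : ∀ q', ∃ q, g * f (vE q) * g⁻¹ = f (vE q') := by
    choose σ hσ using hg
    have hinj : Function.Injective σ := by
      intro a b e
      have : g * f (vE a) * g⁻¹ = g * f (vE b) * g⁻¹ := by rw [hσ, hσ, e]
      exact (by decide +kernel : ∀ a b, vE a = vE b → a = b) a b
        ((h.eq_iff (vE_mem a).1 (vE_mem b).1).1 (mul_left_cancel (mul_right_cancel this)))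
    intro q'
    obtain ⟨q, hq⟩ := (Finite.injective_iff_surjective.1 hinj) q'
    exact ⟨q, by rw [hσ, hq]⟩
  have key : ∀ q', g * f z0 * g⁻¹ * f (vE q') = f (vE q') * (g * f z0 * g⁻¹) := by
    intro q'
    obtain ⟨q, e⟩ := hsurj q'
    rw [← e]
    have hc := h.comm z0_mem.1 (vE_mem q).1
      ((by decide +kernel : ∀ q, z0 * vE q = vE q * z0) q)
    calc g * f z0 * g⁻¹ * (g * f (vE q) * g⁻¹) = g * (f z0 * f (vE q)) * g⁻¹ := by group
      _ = _ := by rw [hc]; group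
  obtain ⟨q, p, i, e⟩ := h.cent_V (g * f z0 * g⁻¹)
    (by rw [v1_eq_vE]; exact key _) (by rw [v2_eq_vE]; exact key _)
  set x := vE q * aE p * z0 ^ i.val
  have hx : sign x = 1 := (by decide +kernel : ∀ (q p : Fin 2 × Fin 2) (i : Fin 3),
    sign (vE q * aE p * z0 ^ i.val) = 1) q p i
  have hx3 : x * x * x = 1 := by
    refine h.inj _ (by simp [hx]) ?_
    rw [h.mul _ _ (by simp [hx]) hx, h.mul _ _ hx hx, ← e,
      show g * f z0 * g⁻¹ * (g * f z0 * g⁻¹) * (g * f z0 * g⁻¹) =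
        g * (f z0 * f z0 * f z0) * g⁻¹ by group, ← h.mul _ _ z0_mem.1 z0_mem.1,
      ← h.mul _ _ (by decide +kernel) z0_mem.1, show z0 * z0 * z0 = 1 by decide +kernel, h.map_one]
    group
  have hx1 : x ≠ 1 := by
    intro hh
    rw [hh, h.map_one] at e
    have := h.inj _ z0_mem.1 (conj_eq_one_iff.1 e)
    revert this; decide +kernel
  obtain ⟨m, sm, hm⟩ := (by decide +kernel : ∀ (q p : Fin 2 × Fin 2) (i : Fin 3),
    vE q * aE p * z0 ^ i.val * (vE q * aE p * z0 ^ i.val) * (vE q * aE p * z0 ^ i.val) = 1 →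
    vE q * aE p * z0 ^ i.val ≠ 1 → ∃ m : Fin 2 × Fin 2, sign (aE m) = 1 ∧
      (aE m * (vE q * aE p * z0 ^ i.val) * (aE m)⁻¹ = z0 ∨
       aE m * (vE q * aE p * z0 ^ i.val) * (aE m)⁻¹ = z0⁻¹)) q p i hx3 hx1
  have : f (aE m) * g ∈ h.rng := by
    apply h.norm_z'
    rw [show f (aE m) * g * f z0 * (f (aE m) * g)⁻¹ = f (aE m) * (g * f z0 * g⁻¹) * (f (aE m))⁻¹ by
      group, e, ← h.conj sm hx, ← h.map_inv z0_mem.1]
    exact hm.imp (congrArg f) (congrArg f)
  simpa using mul_mem (inv_mem (h.mem_rng sm)) this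

set_option synthInstance.maxSize 4000 in
/-- the normaliser of `f E` is inside the image -/
theorem norm_E {g : G} (hg : ∀ e, ∃ e', g * f (eE e) * g⁻¹ = f (eE e')) : g ∈ h.rng := by
  -- images of `t`-type elements are `t`-type
  have htype : ∀ q : Fin 2 × Fin 2, q ≠ 0 → ∀ e', g * f (eE (q, 0)) * g⁻¹ = f (eE e') →
      e' ≠ 0 ∧ (e'.1 = 0 ∨ e'.2 = 0) := by
    intro q hq e' he
    have he0 : e' ≠ 0 := by
      intro hh
      rw [hh, eE_zero, h.map_one] at he
      have := h.inj _ (sign_eE _) (conj_eq_one_iff.1 he)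
      exact hq ((by decide +kernel : ∀ q : Fin 2 × Fin 2, eE (q, 0) = 1 → q = 0) q this)
    refine ⟨he0, ?_⟩
    by_contra hc
    push_neg at hc
    obtain ⟨k, sk, hk⟩ := (by decide +kernel : ∀ a b : Fin 2 × Fin 2, a ≠ 0 → b ≠ 0 →
      ∃ k : Fin 6 × Fin 6 × Fin 6,
        sign (cy ⟨k.1.val, by omega⟩ * cy ⟨k.2.1.val, by omega⟩ * cy ⟨k.2.2.val, by omega⟩) = 1 ∧
        eE (a, b) * (cy ⟨k.1.val, by omega⟩ * cy ⟨k.2.1.val, by omega⟩ * cy ⟨k.2.2.val, by omega⟩ *
            y0 * (cy ⟨k.1.val, by omega⟩ * cy ⟨k.2.1.val, by omega⟩ * cy ⟨k.2.2.val, by omega⟩)⁻¹) =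
          cy ⟨k.1.val, by omega⟩ * cy ⟨k.2.1.val, by omega⟩ * cy ⟨k.2.2.val, by omega⟩ * y0 *
            (cy ⟨k.1.val, by omega⟩ * cy ⟨k.2.1.val, by omega⟩ * cy ⟨k.2.2.val, by omega⟩)⁻¹ *
              eE (a, b)) e'.1 e'.2 hc.1 hc.2
    set w := cy ⟨k.1.val, by omega⟩ * cy ⟨k.2.1.val, by omega⟩ * cy ⟨k.2.2.val, by omega⟩
    have c1 : Commute (f (eE (q, 0))) (1 * f z0 * 1⁻¹) := by
      rw [one_mul, inv_one, mul_one]
      exact h.comm (sign_eE _) z0_mem.1 ((by decide +kernel :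
        ∀ q, eE (q, 0) * z0 = z0 * eE (q, 0)) q)
    refine h.not_both' (sign_eE (q, 0)) ((by decide +kernel :
      ∀ q, eE (q, 0) * eE (q, 0) = 1) q) ((by decide +kernel :
      ∀ q, q ≠ 0 → eE (q, 0) ≠ 1) q hq) (g := 1) (k := g⁻¹ * f w) c1 ?_
    have c2 := h.comm (sign_eE e') (by simp [sk, y0_mem.1]) hk
    rw [h.conj sk y0_mem.1, ← he] at c2
    show _ = _
    calc f (eE (q, 0)) * (g⁻¹ * f w * f y0 * (g⁻¹ * f w)⁻¹)
        = g⁻¹ * (g * f (eE (q, 0)) * g⁻¹ * (f w * f y0 * (f w)⁻¹)) * g := by group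
      _ = _ := by rw [c2]; group
  obtain ⟨x, hx⟩ := hg ((1, 0), 0)
  obtain ⟨y, hy⟩ := hg ((0, 1), 0)
  have hxy : g * f (eE ((1, 1), 0)) * g⁻¹ = f (eE (x + y)) := by
    rw [show eE ((1, 1), 0) = eE ((1, 0), 0) * eE ((0, 1), 0) by decide +kernel,
      h.mul _ _ (sign_eE _) (sign_eE _), ← eE_mul, h.mul _ _ (sign_eE _) (sign_eE _), ← hx, ← hy]
    group
  obtain ⟨x0, x1⟩ := htype (1, 0) (by decide) x hx
  obtain ⟨y0', y1⟩ := htype (0, 1) (by decide) y hy
  obtain ⟨s0, s1⟩ := htype (1, 1) (by decide) (x + y) hxy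
  have hcl : (x.2 = 0 ∧ y.2 = 0) ∨ (x.1 = 0 ∧ y.1 = 0) :=
    (by decide +kernel : ∀ x y : (Fin 2 × Fin 2) × (Fin 2 × Fin 2),
      (x ≠ 0 ∧ y ≠ 0 ∧ x + y ≠ 0 ∧ (x.1 = 0 ∨ x.2 = 0) ∧ (y.1 = 0 ∨ y.2 = 0) ∧
        ((x + y).1 = 0 ∨ (x + y).2 = 0)) →
      (x.2 = 0 ∧ y.2 = 0) ∨ (x.1 = 0 ∧ y.1 = 0)) x y ⟨x0, y0', s0, x1, y1, s1⟩
  have all4 : ∀ q : Fin 2 × Fin 2, g * f (vE q) * g⁻¹ = 1 ∨ g * f (vE q) * g⁻¹ = f (eE x) ∨
      g * f (vE q) * g⁻¹ = f (eE y) ∨ g * f (vE q) * g⁻¹ = f (eE (x + y)) := by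
    intro q
    rcases (by decide +kernel : ∀ q, vE q = 1 ∨ vE q = eE ((1, 0), 0) ∨ vE q = eE ((0, 1), 0) ∨
      vE q = eE ((1, 1), 0)) q with e | e | e | e <;> rw [e]
    · left; rw [h.map_one]; group
    · exact Or.inr (Or.inl hx)
    · exact Or.inr (Or.inr (Or.inl hy))
    · exact Or.inr (Or.inr (Or.inr hxy))
  rcases hcl with ⟨ex, ey⟩ | ⟨ex, ey⟩
  · refine h.norm_V fun q => ?_
    have he : ∀ e : (Fin 2 × Fin 2) × (Fin 2 × Fin 2), e.2 = 0 → eE e = vE e.1 := by decide +kernel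
    rcases all4 q with e | e | e | e
    · exact ⟨0, by rw [e, show vE 0 = 1 by decide +kernel, h.map_one]⟩
    · exact ⟨_, by rw [e, he x ex]⟩
    · exact ⟨_, by rw [e, he y ey]⟩
    · exact ⟨_, by rw [e, he (x + y) (by simp [ex, ey])]⟩
  · have stau : sign tau = 1 := by decide +kernel
    have : f tau * g ∈ h.rng := by
      refine h.norm_V fun q => ?_
      have he : ∀ e : (Fin 2 × Fin 2) × (Fin 2 × Fin 2), e.1 = 0 →
          ∃ q', tau * eE e * tau⁻¹ = vE q' := by decide +kernel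
      rw [show f tau * g * f (vE q) * (f tau * g)⁻¹ = f tau * (g * f (vE q) * g⁻¹) * (f tau)⁻¹ by
        group]
      rcases all4 q with e | e | e | e <;> rw [e]
      · exact ⟨0, by rw [show vE 0 = 1 by decide +kernel, h.map_one]; group⟩
      · obtain ⟨q', hq⟩ := he x ex
        exact ⟨q', by rw [← h.conj stau (sign_eE _), hq]⟩
      · obtain ⟨q', hq⟩ := he y ey
        exact ⟨q', by rw [← h.conj stau (sign_eE _), hq]⟩
      · obtain ⟨q', hq⟩ := he (x + y) (by simp [ex, ey])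
        exact ⟨q', by rw [← h.conj stau (sign_eE _), hq]⟩
    simpa using mul_mem (inv_mem (h.mem_rng stau)) this

/-- the image of `s64` -/
def syl : Subgroup G where
  carrier := {g | ∃ p, f (sP p) = g}
  one_mem' := by
    obtain ⟨p, hp⟩ := s64.one_mem
    exact ⟨p, by rw [← hp, h.map_one]⟩
  mul_mem' := by
    rintro _ _ ⟨x, rfl⟩ ⟨y, rfl⟩
    obtain ⟨r, hr⟩ := s64.mul_mem ⟨x, rfl⟩ ⟨y, rfl⟩
    exact ⟨r, by rw [← hr, h.mul _ _ (sign_sP x) (sign_sP y)]⟩
  inv_mem' := by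
    rintro _ ⟨x, rfl⟩
    obtain ⟨r, hr⟩ := s64.inv_mem ⟨x, rfl⟩
    exact ⟨r, by rw [← hr, h.map_inv (sign_sP x)]⟩

theorem card_syl : Nat.card h.syl = 64 := by
  have hb : Function.Bijective (fun p : SIdx => (⟨f (sP p), p, rfl⟩ : h.syl)) := by
    constructor
    · intro p q e
      exact sP_injective ((h.eq_iff (sign_sP p) (sign_sP q)).1 (congrArg Subtype.val e))
    · rintro ⟨_, p, rfl⟩; exact ⟨p, rfl⟩
  rw [← Nat.card_eq_of_bijective _ hb, Nat.card_eq_fintype_card]; rfl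

theorem syl_le : h.syl ≤ h.rng := by
  rintro _ ⟨p, rfl⟩; exact h.mem_rng (sign_sP p)

/-- `E` is the only elementary abelian subgroup of order 16 of the Sylow 2-subgroup. -/
theorem norm_syl {g : G} (hg : ∀ p, ∃ p', g * f (sP p) * g⁻¹ = f (sP p')) : g ∈ h.rng := by
  classical
  apply h.norm_E
  intro e
  choose σ hσ using hg
  set ι' : (Fin 2 × Fin 2) × (Fin 2 × Fin 2) → SIdx := fun e => σ (e, 0) with hι
  have hinj : Function.Injective ι' := by
    intro a b hab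
    have h1 : g * f (sP (a, 0)) * g⁻¹ = g * f (sP (b, 0)) * g⁻¹ := by
      rw [hσ, hσ]; exact congrArg (fun p => f (sP p)) hab
    exact (Prod.ext_iff.1 (sP_injective ((h.eq_iff (sign_sP _) (sign_sP _)).1
      (mul_left_cancel (mul_right_cancel h1))))).1
  have hcomm : ∀ a b, sP (ι' a) * sP (ι' b) = sP (ι' b) * sP (ι' a) := by
    intro a b
    apply h.comm' (sign_sP _) (sign_sP _)
    rw [hι]
    simp only
    rw [← hσ, ← hσ]
    have hab : f (sP (a, 0)) * f (sP (b, 0)) = f (sP (b, 0)) * f (sP (a, 0)) := by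
      refine h.comm (sign_sP _) (sign_sP _) ?_
      simp only [sP, cE_zero, mul_one, eE_mul, add_comm a b]
    calc g * f (sP (a, 0)) * g⁻¹ * (g * f (sP (b, 0)) * g⁻¹)
        = g * (f (sP (a, 0)) * f (sP (b, 0))) * g⁻¹ := by group
      _ = _ := by rw [hab]; group
  -- the fibres over the complement
  suffices hall : ∀ a, (ι' a).2 = 0 by
    refine ⟨(ι' e).1, ?_⟩
    have := hσ (e, 0)
    simp only [sP, cE_zero, mul_one] at this
    rw [this]
    show f (eE (σ (e, 0)).1 * cE (σ (e, 0)).2) = _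
    rw [show (σ (e, 0)).2 = 0 from hall e, cE_zero, mul_one]
  by_contra hex
  push_neg at hex
  obtain ⟨a, ha⟩ := hex
  have hadd : ∀ x y, ι' (x + y) = ((ι' (x + y)).1, (ι' x).2 + (ι' y).2) := by
    intro x y
    refine Prod.ext rfl ?_
    obtain ⟨e', he⟩ := cE_eE (ι' x).2 (ι' y).1
    have h1 : f (sP (ι' (x + y))) = f (sP ((ι' x).1 + e', (ι' x).2 + (ι' y).2)) := by
      rw [hι]
      simp only
      rw [← hσ]
      simp only [sP, cE_zero, mul_one, ← eE_mul x y, h.mul _ _ (sign_eE x) (sign_eE y)]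
      have e2 : eE ((σ (x, 0)).1 + e') * cE ((σ (x, 0)).2 + (σ (y, 0)).2) =
          eE (σ (x, 0)).1 * cE (σ (x, 0)).2 * (eE (σ (y, 0)).1 * cE (σ (y, 0)).2) := by
        rw [← eE_mul, ← cE_mul]
        calc _ = eE (σ (x, 0)).1 * (eE e' * cE (σ (x, 0)).2) * cE (σ (y, 0)).2 := by group
          _ = _ := by
            rw [← (show cE (σ (x, 0)).2 * eE (σ (y, 0)).1 = eE e' * cE (σ (x, 0)).2 from he)]
            group
      have hs1 : sign (eE (σ (x, 0)).1 * cE (σ (x, 0)).2) = 1 := sign_sP (σ (x, 0))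
      have hs2 : sign (eE (σ (y, 0)).1 * cE (σ (y, 0)).2) = 1 := sign_sP (σ (y, 0))
      rw [e2, h.mul _ _ hs1 hs2]
      have hx' := hσ (x, 0)
      have hy' := hσ (y, 0)
      simp only [sP, cE_zero, mul_one] at hx' hy'
      rw [← hx', ← hy']
      group
    have h2 := sP_injective ((h.eq_iff (sign_sP _) (sign_sP _)).1 h1)
    exact (congrArg Prod.snd h2 :)
  -- the kernel of the projection
  let K0 : Finset ((Fin 2 × Fin 2) × (Fin 2 × Fin 2)) := Finset.univ.filter fun x => (ι' x).2 = 0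
  let cent : (Fin 2 × Fin 2) → Finset ((Fin 2 × Fin 2) × (Fin 2 × Fin 2)) := fun c =>
    Finset.univ.filter fun e => eE e * cE c = cE c * eE e
  have hK0 : ∀ b, (ι' b).2 ≠ 0 → (K0.image fun x => (ι' x).1) ⊆ cent (ι' b).2 := by
    intro b _ e he
    obtain ⟨x, hx, rfl⟩ := Finset.mem_image.1 he
    have hx0 : (ι' x).2 = 0 := (Finset.mem_filter.1 hx).2
    refine Finset.mem_filter.2 ⟨Finset.mem_univ _, ?_⟩
    have hc := hcomm x b
    simp only [sP, hx0, cE_zero, mul_one] at hc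
    rw [← mul_assoc, eE_mul, add_comm, ← eE_mul, mul_assoc, mul_assoc] at hc
    exact mul_left_cancel hc
  have hcardK : (K0.image fun x => (ι' x).1).card = K0.card := by
    refine Finset.card_image_of_injOn fun x hx y hy e => hinj (Prod.ext e ?_)
    rw [(Finset.mem_filter.1 hx).2, (Finset.mem_filter.1 hy).2]
  -- every fibre is a translate of the kernel
  have hfib : ∀ c, (Finset.univ.filter fun x => (ι' x).2 = c).card ≤ K0.card := by
    intro c
    by_cases hne : (Finset.univ.filter fun x => (ι' x).2 = c).Nonempty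
    · obtain ⟨x0, hx0⟩ := hne
      refine Finset.card_le_card_of_injOn (fun x => x + x0) ?_ (fun _ _ _ _ e => add_right_cancel e)
      intro x hx
      refine Finset.mem_coe.2 (Finset.mem_filter.2 ⟨Finset.mem_univ _, ?_⟩)
      rw [congrArg Prod.snd (hadd x x0)]
      simp only [(Finset.mem_filter.1 hx).2, (Finset.mem_filter.1 hx0).2]
      exact (by decide : ∀ a : Fin 2 × Fin 2, a + a = 0) c
    · rw [Finset.not_nonempty_iff_eq_empty.1 hne, Finset.card_empty]; exact Nat.zero_le _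
  set img := (Finset.univ.image fun x => (ι' x).2)
  have htot : 16 ≤ K0.card * img.card := by
    have := Finset.card_le_mul_card_image_of_maps_to
      (f := fun x => (ι' x).2) (s := Finset.univ) (t := img)
      (fun x _ => Finset.mem_image_of_mem _ (Finset.mem_univ x)) K0.card (fun c _ => hfib c)
    simpa [Fintype.card_prod, Fintype.card_fin] using this
  have hK4 : ∀ c, c ≠ 0 → c ∈ img → (K0.image fun x => (ι' x).1) ⊆ cent c := by
    intro c hc hci
    obtain ⟨b, -, rfl⟩ := Finset.mem_image.1 hci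
    exact hK0 b hc
  have c4 : ∀ c, c ≠ 0 → (cent c).card ≤ 4 := by
    intro c
    exact (by decide +kernel : ∀ c : Fin 2 × Fin 2, c ≠ 0 → (Finset.univ.filter fun
      e : (Fin 2 × Fin 2) × (Fin 2 × Fin 2) => eE e * cE c = cE c * eE e).card ≤ 4) c
  have c2 : ∀ c c', c ≠ 0 → c' ≠ 0 → c ≠ c' → (cent c ∩ cent c').card ≤ 2 := by
    intro c c'
    exact (by decide +kernel : ∀ c c' : Fin 2 × Fin 2, c ≠ 0 → c' ≠ 0 → c ≠ c' →
      ((Finset.univ.filter fun
      e : (Fin 2 × Fin 2) × (Fin 2 × Fin 2) => eE e * cE c = cE c * eE e) ∩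
      (Finset.univ.filter fun
      e : (Fin 2 × Fin 2) × (Fin 2 × Fin 2) => eE e * cE c' = cE c' * eE e)).card ≤ 2) c c'
  have hm : (ι' a).2 ∈ img := Finset.mem_image_of_mem _ (Finset.mem_univ a)
  by_cases htwo : ∃ c ∈ img, c ≠ 0 ∧ c ≠ (ι' a).2
  · obtain ⟨c, hc, hc0, hca⟩ := htwo
    have h1 : K0.card ≤ 2 := by
      rw [← hcardK]
      exact le_trans (Finset.card_le_card (Finset.subset_inter (hK4 _ hc0 hc) (hK4 _ ha hm)))
        (c2 _ _ hc0 ha hca)
    have h2 : img.card ≤ 4 := le_trans (Finset.card_le_univ _) (by simp)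
    have := Nat.mul_le_mul h1 h2
    omega
  · push_neg at htwo
    have h1 : K0.card ≤ 4 := by
      rw [← hcardK]
      exact le_trans (Finset.card_le_card (hK4 _ ha hm)) (c4 _ ha)
    have h2 : img.card ≤ 2 := by
      refine le_trans (Finset.card_le_card (t := {0, (ι' a).2}) fun c hc => ?_) Finset.card_le_two
      by_cases hc0 : c = 0
      · simp [hc0]
      · simp [htwo c hc hc0]
    have := Nat.mul_le_mul h1 h2
    omega

theorem not_dvd_128 : ¬ 128 ∣ Nat.card G := by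
  haveI : Fact (Nat.Prime 2) := ⟨Nat.prime_two⟩
  intro hd
  obtain ⟨R, hR, hSR⟩ := Sylow.exists_subgroup_card_pow_succ (p := 2) (n := 6) (G := G)
    (by simpa using hd) (H := h.syl) (by rw [h.card_syl]; norm_num)
  have hi : (h.syl.subgroupOf R).index = 2 := by
    have := (h.syl.subgroupOf R).card_mul_index
    rw [Nat.card_congr (Subgroup.subgroupOfEquivOfLe hSR).toEquiv, h.card_syl, hR] at this
    norm_num at this
    omega
  have hle : R ≤ h.rng := by
    intro g hg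
    refine h.norm_syl fun p => ?_
    obtain ⟨p', hp'⟩ := Subgroup.mem_subgroupOf.1
      ((Subgroup.normal_of_index_eq_two hi).conj_mem ⟨f (sP p), hSR ⟨p, rfl⟩⟩ ⟨p, rfl⟩ ⟨g, hg⟩)
    exact ⟨p', hp'.symm⟩
  have h128 := Subgroup.card_dvd_of_le hle
  rw [hR, h.card_rng] at h128
  norm_num at h128

end Full

end Cfsg.Agent.A8ThreeLocal45
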