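import Mathlib
import Cfsg.Agent.Lib.PSL2Small
import Cfsg.Agent.Lib.SmallGroupBasic

/-!
Groups of order 12, 24 and 60 without normal cyclic subgroups, and dihedral groups from an index-two
cyclic subgroup inverted by every outer element (used for Dickson's classification).
-/

set_option autoImplicit false
set_option linter.unusedSectionVars false

namespace Cfsg.Agent.DicksonSmall

variable {G : Type*} [Group G] [Finite G]

/-- An element of prime order `p` normalising a subgroup of order `p` Sylow lies in it. -/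
theorem mem_of_mem_normalizer_sylow {p : ℕ} [Fact p.Prime] (Q : Sylow p G) {x : G}
    (hx : x ∈ Subgroup.normalizer ((Q : Subgroup G) : Set G)) {n : ℕ} (hp : x ^ p ^ n = 1) :
    x ∈ (Q : Subgroup G) := by
  have h : IsPGroup p (Subgroup.zpowers x) := by
    rintro ⟨y, hy⟩
    obtain ⟨i, rfl⟩ := Subgroup.mem_zpowers_iff.mp hy
    refine ⟨n, Subtype.ext ?_⟩
    show (x ^ i) ^ p ^ n = 1
    rw [← zpow_natCast, zpow_comm, zpow_natCast, hp, one_zpow]
  have h2 : x ∈ Subgroup.zpowers x ⊓ Subgroup.normalizer ((Q : Subgroup G) : Set G) :=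
    ⟨Subgroup.mem_zpowers x, hx⟩
  exact ((h.inf_normalizer_sylow Q).le h2).2

theorem sylow_card (p : ℕ) [hp : Fact p.Prime] {m : ℕ} (hc : Nat.card G = p * m) (hm : ¬ p ∣ m)
    (Q : Sylow p G) : Nat.card (Q : Subgroup G) = p := by
  have hm0 : m ≠ 0 := fun h => hm (h ▸ dvd_zero p)
  rw [Q.card_eq_multiplicity, hc, Nat.factorization_mul hp.out.ne_zero hm0, Finsupp.add_apply,
    Nat.factorization_eq_zero_of_not_dvd hm, hp.out.factorization_self, pow_one]

theorem sylow_count_dvd (p : ℕ) [Fact p.Prime] {m : ℕ} (hc : Nat.card G = p * m) (hm : ¬ p ∣ m) :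
    Nat.card (Sylow p G) ∣ m := by
  obtain ⟨Q⟩ : Nonempty (Sylow p G) := inferInstance
  have := (Q : Subgroup G).card_mul_index
  rw [sylow_card p hc hm Q, hc] at this
  have h0 : (Q : Subgroup G).index = m :=
    Nat.eq_of_mul_eq_mul_left (Fact.out : p.Prime).pos this
  exact h0 ▸ Q.card_dvd_index

theorem sylow_count_ne_one (p : ℕ) [Fact p.Prime] {m : ℕ} (hc : Nat.card G = p * m) (hm : ¬ p ∣ m)
    (hnc : ∀ x : G, x ≠ 1 → ¬ (Subgroup.zpowers x).Normal) : Nat.card (Sylow p G) ≠ 1 := by
  intro h1
  obtain ⟨Q⟩ : Nonempty (Sylow p G) := inferInstance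
  have : Subsingleton (Sylow p G) := (Nat.card_eq_one_iff_unique.mp h1).1
  have hQ : (Q : Subgroup G).Normal := Q.normal_of_subsingleton
  have hQc := sylow_card p hc hm Q
  have : IsCyclic (Q : Subgroup G) := isCyclic_of_prime_card hQc
  obtain ⟨x, hx⟩ := (Q : Subgroup G).isCyclic_iff_exists_zpowers_eq_top.mp this
  have hx1 : x ≠ 1 := by
    rintro rfl
    rw [Subgroup.zpowers_one_eq_bot] at hx
    rw [← hx, Subgroup.card_bot] at hQc
    exact (Fact.out : p.Prime).ne_one hQc.symm
  exact hnc x hx1 (hx ▸ hQ)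

/-- Order 12 or 24 without normal cyclic subgroups: faithful on the four Sylow 3-subgroups. -/
theorem exists_perm_four {m : ℕ} (hm : m = 4 ∨ m = 8) (hc : Nat.card G = 3 * m)
    (hnc : ∀ x : G, x ≠ 1 → ¬ (Subgroup.zpowers x).Normal) :
    ∃ φ : G →* Equiv.Perm (Fin 4), Function.Injective φ := by
  have : Fact (Nat.Prime 3) := ⟨Nat.prime_three⟩
  have h3 : ¬ 3 ∣ m := by omega
  have hn : Nat.card (Sylow 3 G) = 4 := by
    have h1 := sylow_count_dvd 3 hc h3
    have h2 : Nat.card (Sylow 3 G) ≡ 1 [MOD 3] := card_sylow_modEq_one 3 G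
    have h4 := sylow_count_ne_one 3 hc h3 hnc
    have hle : Nat.card (Sylow 3 G) ≤ 8 :=
      (Nat.le_of_dvd (by omega) h1).trans (by omega)
    rw [Nat.ModEq] at h2
    generalize Nat.card (Sylow 3 G) = n at h1 h2 h4 hle
    rcases hm with rfl | rfl <;> interval_cases n <;> omega
  let φ : G →* Equiv.Perm (Sylow 3 G) := MulAction.toPermHom G (Sylow 3 G)
  have hker : ∀ x ∈ φ.ker, ∀ Q : Sylow 3 G, x ∈ Subgroup.normalizer ((Q : Subgroup G) : Set G) :=
    fun x hx Q => Sylow.smul_eq_iff_mem_normalizer.1 (Equiv.ext_iff.1 (MonoidHom.mem_ker.1 hx) Q)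
  have hk3 : ¬ 3 ∣ Nat.card φ.ker := by
    intro h
    obtain ⟨x, hx⟩ := exists_prime_orderOf_dvd_card' 3 h
    have hx' : orderOf (x : G) = 3 := by rw [Subgroup.orderOf_coe, hx]
    have hall : ∀ Q : Sylow 3 G, (Q : Subgroup G) = Subgroup.zpowers (x : G) := fun Q => by
      refine (Subgroup.eq_of_le_of_card_ge ?_ ?_).symm
      · exact Subgroup.zpowers_le.mpr (mem_of_mem_normalizer_sylow Q (hker _ x.2 Q) (n := 1)
          (by rw [pow_one]; exact orderOf_dvd_iff_pow_eq_one.mp hx'.dvd))
      · rw [Nat.card_zpowers, hx', sylow_card 3 hc h3 Q]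
    have : Subsingleton (Sylow 3 G) := ⟨fun a b => Sylow.ext ((hall a).trans (hall b).symm)⟩
    rw [Nat.card_of_subsingleton (Classical.arbitrary (Sylow 3 G))] at hn
    omega
  obtain ⟨Q⟩ : Nonempty (Sylow 3 G) := inferInstance
  have hkd : Nat.card φ.ker ∣ 6 := by
    have h := Subgroup.card_dvd_of_le (fun x hx => hker x hx Q :
      φ.ker ≤ Subgroup.normalizer ((Q : Subgroup G) : Set G))
    have h' := (Subgroup.normalizer ((Q : Subgroup G) : Set G)).card_mul_index
    rw [show (Subgroup.normalizer ((Q : Subgroup G) : Set G)).index = 4 from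
      Q.card_eq_index_normalizer.symm.trans hn, hc] at h'
    refine h.trans ?_
    rcases hm with rfl | rfl
    · exact ⟨2, by omega⟩
    · exact dvd_of_eq (by omega)
  have hk : Nat.card φ.ker = 1 := by
    have hle := Nat.le_of_dvd (by norm_num) hkd
    generalize hk : Nat.card φ.ker = k at hkd hk3 hle
    interval_cases k <;> try omega
    exfalso
    have : IsCyclic φ.ker := isCyclic_of_prime_card (p := 2) hk
    obtain ⟨x, hx⟩ := φ.ker.isCyclic_iff_exists_zpowers_eq_top.mp this
    refine hnc x ?_ (hx ▸ φ.normal_ker)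
    rintro rfl
    rw [Subgroup.zpowers_one_eq_bot] at hx
    rw [← hx, Subgroup.card_bot] at hk
    omega
  have hinj : Function.Injective φ := by
    rw [← MonoidHom.ker_eq_bot_iff, ← Subgroup.card_eq_one]; exact hk
  have := Fintype.ofFinite (Sylow 3 G)
  let e : Sylow 3 G ≃ Fin 4 := Fintype.equivFinOfCardEq (by rw [← Nat.card_eq_fintype_card, hn])
  exact ⟨e.permCongrHom.toMonoidHom.comp φ, e.permCongrHom.injective.comp hinj⟩

theorem iso_A4 (hc : Nat.card G = 12)
    (hnc : ∀ x : G, x ≠ 1 → ¬ (Subgroup.zpowers x).Normal) :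
    Nonempty (G ≃* alternatingGroup (Fin 4)) := by
  obtain ⟨φ, hφ⟩ := exists_perm_four (m := 4) (Or.inl rfl) hc hnc
  have hr : φ.range = alternatingGroup (Fin 4) := by
    refine Equiv.Perm.eq_alternatingGroup_of_index_eq_two ?_
    have h := φ.range.card_mul_index
    rw [← Nat.card_congr (MonoidHom.ofInjective hφ).toEquiv, hc, Nat.card_perm, Nat.card_fin] at h
    have h24 : Nat.factorial 4 = 24 := rfl
    omega
  exact ⟨(MonoidHom.ofInjective hφ).trans (MulEquiv.subgroupCongr hr)⟩

theorem iso_S4 (hc : Nat.card G = 24)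
    (hnc : ∀ x : G, x ≠ 1 → ¬ (Subgroup.zpowers x).Normal) :
    Nonempty (G ≃* Equiv.Perm (Fin 4)) := by
  obtain ⟨φ, hφ⟩ := exists_perm_four (m := 8) (Or.inr rfl) hc hnc
  exact ⟨MulEquiv.ofBijective φ ((Nat.bijective_iff_injective_and_card _).2 ⟨hφ, by
    rw [hc, Nat.card_perm, Nat.card_fin]; rfl⟩)⟩

/-- A permutation set of size below `5` is fixed by elements of order `5`. -/
theorem smul_eq_of_lt {X : Type*} [MulAction G X] [Finite X] (hX : Nat.card X < 5) {y : G}
    (hy : orderOf y = 5) (a : X) : y • a = a := by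
  have : Fact (Nat.Prime 5) := ⟨by norm_num⟩
  have hP : IsPGroup 5 (Subgroup.zpowers y) := IsPGroup.of_card (n := 1) (by
    rw [Nat.card_zpowers, hy, pow_one])
  obtain ⟨j, hj⟩ := hP.card_orbit a
  have hle : Nat.card (MulAction.orbit (Subgroup.zpowers y) a) ≤ Nat.card X :=
    Nat.card_le_card_of_injective Subtype.val Subtype.val_injective
  have hj0 : j = 0 := by
    by_contra h
    have := Nat.le_self_pow h 5
    omega
  rw [hj0, pow_zero, Nat.card_eq_one_iff_unique] at hj
  have := Set.subsingleton_coe _ |>.mp hj.1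
  exact this (MulAction.mem_orbit a (⟨y, Subgroup.mem_zpowers y⟩ : Subgroup.zpowers y))
    (MulAction.mem_orbit_self a)

theorem iso_A5 (hc : Nat.card G = 60)
    (hnc : ∀ x : G, x ≠ 1 → ¬ (Subgroup.zpowers x).Normal) :
    Nonempty (G ≃* alternatingGroup (Fin 5)) := by
  have h5 : Fact (Nat.Prime 5) := ⟨by norm_num⟩
  have : Fact (Nat.Prime 3) := ⟨Nat.prime_three⟩
  have hc5 : Nat.card G = 5 * 12 := by omega
  have hc3 : Nat.card G = 3 * 20 := by omega
  have hn5 : Nat.card (Sylow 5 G) = 6 := by
    have h1 := sylow_count_dvd 5 hc5 (by norm_num)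
    have h2 : Nat.card (Sylow 5 G) ≡ 1 [MOD 5] := card_sylow_modEq_one 5 G
    have h4 := sylow_count_ne_one 5 hc5 (by norm_num) hnc
    have hle := Nat.le_of_dvd (by norm_num) h1
    rw [Nat.ModEq] at h2
    generalize Nat.card (Sylow 5 G) = n at h1 h2 h4 hle
    interval_cases n <;> omega
  -- normalisers of Sylow 5-subgroups have order 10
  have hN : ∀ Q : Sylow 5 G, Nat.card (Subgroup.normalizer ((Q : Subgroup G) : Set G)) = 10 := by
    intro Q
    have h' := (Subgroup.normalizer ((Q : Subgroup G) : Set G)).card_mul_index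
    rw [show (Subgroup.normalizer ((Q : Subgroup G) : Set G)).index = 6 from
      Q.card_eq_index_normalizer.symm.trans hn5, hc] at h'
    omega
  have hno35 : ∀ x y : G, orderOf x = 3 → orderOf y = 5 → ¬ Commute x y := by
    intro x y hx hy hxy
    have hP : Nat.card (Subgroup.zpowers y) = 5 ^ (Nat.card G).factorization 5 := by
      rw [Nat.card_zpowers, hy, hc5, Nat.factorization_mul (by norm_num) (by norm_num),
        Finsupp.add_apply, (Fact.out : Nat.Prime 5).factorization_self,
        Nat.factorization_eq_zero_of_not_dvd (by norm_num)]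
      rfl
    let Q : Sylow 5 G := Sylow.ofCard _ hP
    have hxN : x ∈ Subgroup.normalizer ((Q : Subgroup G) : Set G) := by
      refine Subgroup.centralizer_le_normalizer _ ?_
      rw [Subgroup.mem_centralizer_iff]
      intro z hz
      obtain ⟨i, rfl⟩ := Subgroup.mem_zpowers_iff.mp (show z ∈ Subgroup.zpowers y from hz)
      exact (hxy.symm.zpow_left i).eq
    have := Subgroup.orderOf_dvd_natCard _ hxN
    rw [hx, hN Q] at this
    omega
  have hn3 : Nat.card (Sylow 3 G) = 10 := by
    have h1 := sylow_count_dvd 3 hc3 (by norm_num)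
    have h2 : Nat.card (Sylow 3 G) ≡ 1 [MOD 3] := card_sylow_modEq_one 3 G
    have hle := Nat.le_of_dvd (by norm_num) h1
    by_contra hne
    have hlt : Nat.card (Sylow 3 G) < 5 := by
      rw [Nat.ModEq] at h2
      generalize Nat.card (Sylow 3 G) = n at h1 h2 hle hne
      interval_cases n <;> omega
    obtain ⟨y, hy⟩ := exists_prime_orderOf_dvd_card' (G := G) 5 ⟨12, hc5⟩
    obtain ⟨Q⟩ : Nonempty (Sylow 3 G) := inferInstance
    have hQ := sylow_card 3 hc3 (by norm_num) Q
    obtain ⟨x, hx⟩ := exists_prime_orderOf_dvd_card' (G := (Q : Subgroup G)) 3 (by rw [hQ])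
    have hyN : y ∈ Subgroup.normalizer ((Q : Subgroup G) : Set G) :=
      Sylow.smul_eq_iff_mem_normalizer.1 (smul_eq_of_lt hlt hy Q)
    -- `y` permutes the three elements of `Q`
    let c : Equiv.Perm (Q : Subgroup G) :=
      { toFun := fun z => ⟨y * z * y⁻¹, (Subgroup.mem_normalizer_iff.mp hyN _).mp z.2⟩
        invFun := fun z => ⟨y⁻¹ * z * y, by
          have := (Subgroup.mem_normalizer_iff.mp (Subgroup.inv_mem _ hyN) _).mp z.2
          rwa [inv_inv] at this⟩
        left_inv := fun z => Subtype.ext (by simp; group)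
        right_inv := fun z => Subtype.ext (by simp; group) }
    have hc' : c ^ 5 = 1 := by
      have hk : ∀ (k : ℕ) (z : (Q : Subgroup G)), ((c ^ k) z : G) = y ^ k * z * (y ^ k)⁻¹ := by
        intro k
        induction k with
        | zero => simp
        | succ k ih =>
          intro z
          rw [pow_succ', Equiv.Perm.mul_apply]
          show y * ((c ^ k) z : G) * y⁻¹ = _
          rw [ih, pow_succ']
          group
      ext z
      rw [hk, ← hy, pow_orderOf_eq_one]
      simp
    have hcd : orderOf c ∣ 6 := by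
      have := orderOf_dvd_natCard c
      rwa [Nat.card_perm, hQ, show Nat.factorial 3 = 6 from rfl] at this
    have hc1 : c = 1 := by
      rw [← orderOf_eq_one_iff]
      exact Nat.eq_one_of_dvd_coprimes (by norm_num : Nat.Coprime 5 6)
        (orderOf_dvd_of_pow_eq_one hc') hcd
    refine hno35 (x : G) y (by rw [Subgroup.orderOf_coe, hx]) hy ?_
    have h := congrArg Subtype.val (Equiv.ext_iff.mp hc1 x)
    exact (mul_inv_eq_iff_eq_mul.mp h).symm
  have h24 : Nat.card {g : G // orderOf g = 5} = 24 := by
    rw [SmallGroupBasic.card_orderOf_eq (sylow_card 5 hc5 (by norm_num)), hn5]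
  have h20 : Nat.card {g : G // orderOf g = 3} = 20 := by
    rw [SmallGroupBasic.card_orderOf_eq (sylow_card 3 hc3 (by norm_num)), hn3]
  -- every normal subgroup is trivial or everything
  have : IsSimpleGroup G := by
    have : Nontrivial G := Finite.one_lt_card_iff_nontrivial.mp (by omega)
    refine ⟨fun M hM => ?_⟩
    by_contra hMne
    push Not at hMne
    obtain ⟨hb, ht⟩ := hMne
    have hall : ∀ p m : ℕ, p.Prime → Nat.card G = p * m → ¬ p ∣ m → p ∣ Nat.card M →
        ∀ g : G, orderOf g = p → g ∈ M := by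
      intro p m hp hpm hnd hpM g hg
      have := Fact.mk hp
      obtain ⟨x, hx⟩ := exists_prime_orderOf_dvd_card' p hpM
      have hx' : orderOf (x : G) = p := by rw [Subgroup.orderOf_coe, hx]
      obtain ⟨P, hP⟩ := SmallGroupBasic.exists_sylow_of_orderOf (sylow_card p hpm hnd) hg
      obtain ⟨Q, hQ⟩ := SmallGroupBasic.exists_sylow_of_orderOf (sylow_card p hpm hnd) hx'
      obtain ⟨c, hc⟩ := MulAction.exists_smul_eq G Q P
      have hQM : (Q : Subgroup G) ≤ M := by rw [hQ]; exact Subgroup.zpowers_le.mpr x.2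
      have hgP : g ∈ ((c • Q : Sylow p G) : Subgroup G) := by
        rw [hc, hP]; exact Subgroup.mem_zpowers g
      rw [Sylow.coe_subgroup_smul, Subgroup.mem_pointwise_smul_iff_inv_smul_mem] at hgP
      have := hM.conj_mem _ (hQM hgP) c
      simpa [MulAut.smul_def, MulAut.conj_inv_apply, mul_assoc] using this
    have hlt : Nat.card M < 60 := by
      rw [← hc]
      exact lt_of_le_of_ne (Subgroup.card_le_card_group M)
        (fun h => ht (Subgroup.card_eq_iff_eq_top M |>.mp h))
    have h60 : Nat.card M ∣ 60 := hc ▸ Subgroup.card_subgroup_dvd_card M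
    have hge5 : 5 ∣ Nat.card M → 24 < Nat.card M := by
      intro h
      rw [← h24, Nat.lt_iff_add_one_le, ← Finite.card_option]
      refine Nat.card_le_card_of_injective
        (fun o => Option.elim o (1 : M) (fun g => (⟨g.1, hall 5 12 (by norm_num) hc5 (by norm_num) h g.1 g.2⟩ : M))) ?_
      rintro (_ | a) (_ | b) e
      · rfl
      · have e' : (1 : G) = b := congrArg (fun z : M => (z : G)) e
        have hb' := b.2
        simp [← e'] at hb'
      · have e' : (a : G) = 1 := congrArg (fun z : M => (z : G)) e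
        have ha' := a.2
        simp [e'] at ha'
      · exact congrArg some (Subtype.ext (congrArg (fun z : M => (z : G)) e))
    have hge3 : 3 ∣ Nat.card M → 20 < Nat.card M := by
      intro h
      rw [← h20, Nat.lt_iff_add_one_le, ← Finite.card_option]
      refine Nat.card_le_card_of_injective
        (fun o => Option.elim o (1 : M) (fun g => (⟨g.1, hall 3 20 Nat.prime_three hc3 (by norm_num) h g.1 g.2⟩ : M))) ?_
      rintro (_ | a) (_ | b) e
      · rfl
      · have e' : (1 : G) = b := congrArg (fun z : M => (z : G)) e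
        have hb' := b.2
        simp [← e'] at hb'
      · have e' : (a : G) = 1 := congrArg (fun z : M => (z : G)) e
        have ha' := a.2
        simp [e'] at ha'
      · exact congrArg some (Subtype.ext (congrArg (fun z : M => (z : G)) e))
    have h35 : ¬ (5 ∣ Nat.card M ∧ 3 ∣ Nat.card M) := by
      rintro ⟨ha, hb'⟩
      have hM30 : Nat.card M = 30 := by
        have := hge5 ha
        obtain ⟨r, hr⟩ := h60
        have : r ≤ 2 := by nlinarith
        interval_cases r <;> omega
      let f : {g : G // orderOf g = 5} ⊕ {g : G // orderOf g = 3} → M := fun s => Sum.elim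
        (fun g => ⟨g.1, hall 5 12 (by norm_num) hc5 (by norm_num) ha g.1 g.2⟩)
        (fun g => ⟨g.1, hall 3 20 Nat.prime_three hc3 (by norm_num) hb' g.1 g.2⟩) s
      have hf : Function.Injective f := by
        rintro (a | a) (b | b) e <;> have e' := congrArg (fun z : M => (z : G)) e <;> simp [f] at e'
        · exact congrArg _ (Subtype.ext e')
        · have h' := congrArg orderOf e'
          rw [a.2, b.2] at h'
          norm_num at h'
        · have h' := congrArg orderOf e'
          rw [a.2, b.2] at h'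
          norm_num at h'
        · exact congrArg _ (Subtype.ext e')
      have := Nat.card_le_card_of_injective f hf
      rw [Nat.card_sum, h24, h20] at this
      omega
    have hsmall : Nat.card M = 2 ∨ Nat.card M = 4 := by
      have hpos : Nat.card M ≠ 1 := fun h => hb (Subgroup.card_eq_one.mp h)
      have hM : Nat.card M ∈ Nat.divisors 60 := Nat.mem_divisors.mpr ⟨h60, by norm_num⟩
      rw [show Nat.divisors 60 = {1, 2, 3, 4, 5, 6, 10, 12, 15, 20, 30, 60} from rfl] at hM
      simp only [Finset.mem_insert, Finset.mem_singleton] at hM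
      rcases hM with h | h | h | h | h | h | h | h | h | h | h | h <;> rw [h] at hge5 hge3 h35 <;>
        omega
    rcases hsmall with h | h
    · have : IsCyclic M := isCyclic_of_prime_card (p := 2) h
      obtain ⟨x, hx⟩ := M.isCyclic_iff_exists_zpowers_eq_top.mp this
      refine hnc x ?_ (hx ▸ hM)
      rintro rfl
      rw [Subgroup.zpowers_one_eq_bot] at hx
      exact hb hx.symm
    · obtain ⟨y, hy⟩ := exists_prime_orderOf_dvd_card' (G := G) 5 ⟨12, hc5⟩
      have hP : Nat.card (Subgroup.zpowers y) = 5 ^ (Nat.card G).factorization 5 := by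
        rw [Nat.card_zpowers, hy, hc5, Nat.factorization_mul (by norm_num) (by norm_num),
          Finsupp.add_apply, (Fact.out : Nat.Prime 5).factorization_self,
          Nat.factorization_eq_zero_of_not_dvd (by norm_num)]
        rfl
      let Q : Sylow 5 G := Sylow.ofCard _ hP
      have hle : M ≤ Subgroup.normalizer ((Q : Subgroup G) : Set G) := by
        intro z hz
        refine Subgroup.centralizer_le_normalizer _ ?_
        rw [Subgroup.mem_centralizer_iff]
        intro w hw
        obtain ⟨i, rfl⟩ := Subgroup.mem_zpowers_iff.mp (show w ∈ Subgroup.zpowers y from hw)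
        have hcz : Commute y z := by
          let : MulAction G M := MulAction.compHom M (ConjAct.toConjAct : G ≃* ConjAct G).toMonoidHom
          have := smul_eq_of_lt (X := M) (by omega) hy ⟨z, hz⟩
          have h' := congrArg Subtype.val this
          exact mul_inv_eq_iff_eq_mul.mp h'
        exact (hcz.zpow_left i).eq
      have := Subgroup.card_dvd_of_le hle
      rw [h, hN Q] at this
      omega
  exact PSL2Small.iso_A5_of_simple_card hc

/-- An index-two cyclic subgroup all whose outer elements are involutions gives a dihedral group. -/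
theorem iso_dihedral {C : Subgroup G} [IsCyclic C] (hi : C.index = 2)
    (hout : ∀ g : G, g ∉ C → g * g = 1) :
    Nonempty (G ≃* DihedralGroup (Nat.card C)) := by
  obtain ⟨x, hx⟩ := C.isCyclic_iff_exists_zpowers_eq_top.mp inferInstance
  obtain ⟨y, hy⟩ : ∃ y, y ∉ C := by
    by_contra h
    push Not at h
    rw [show C = ⊤ from eq_top_iff.mpr fun g _ => h g, Subgroup.index_top] at hi
    omega
  have hxC : x ∈ C := hx ▸ Subgroup.mem_zpowers x
  have : NeZero (Nat.card C) := ⟨Nat.card_pos.ne'⟩
  refine SmallGroupBasic.nonempty_dihedral_equiv (x := x) (y := y) ?_ ?_ (hout y hy) ?_ ?_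
  · rw [← C.card_mul_index, hi, mul_comm]
  · rw [← Nat.card_zpowers, hx]
  · have hyx : y * x ∉ C := fun h => hy ((C.mul_mem_cancel_right hxC).mp h)
    have := hout _ hyx
    rw [eq_inv_iff_mul_eq_one]
    rw [← this]
    group
  · rw [hx]; exact hy

end Cfsg.Agent.DicksonSmall
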