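import Mathlib
import Cfsg.Agent.Lib.CharInducedBurnside
import Cfsg.Agent.Lib.DicksonSmall

/-!
Finite groups of even order in which every non-identity element has prime order: if such a group is
not solvable and has three prime divisors then it is the alternating group of degree 5
(counting products of two involutions).
-/

set_option autoImplicit false
set_option linter.all false

open Pointwise Subgroup

namespace Cfsg.Agent.PrimeOrderGroups

universe u v

theorem card_eq_mul_of_fibres {α : Type u} {β : Type v} [Finite α] [Finite β] (f : α → β) (d : ℕ)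
    (h : ∀ b, Nat.card {x // f x = b} = d) : Nat.card α = Nat.card β * d := by
  classical
  haveI := Fintype.ofFinite β
  rw [← Nat.card_congr (Equiv.sigmaFiberEquiv f), Nat.card_sigma]
  simp only [h, Finset.sum_const, Finset.card_univ, smul_eq_mul, Nat.card_eq_fintype_card]

theorem card_eq_sum_of_fibres {α : Type u} {β : Type v} [Finite α] [DecidableEq β] (f : α → β)
    (s : Finset β) (h : ∀ a, f a ∈ s) : Nat.card α = ∑ b ∈ s, Nat.card {x // f x = b} := by
  classical
  haveI := Fintype.ofFinite α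
  rw [Nat.card_eq_fintype_card, ← Finset.card_univ, Finset.card_eq_sum_card_fiberwise (f := f) (t := s)
    (fun a _ => h a)]
  exact Finset.sum_congr rfl fun b _ => by rw [Nat.card_eq_fintype_card, Fintype.card_subtype]

variable {G : Type u} [Group G]

theorem isConj_of_odd_mul {t u : G} (ht : t * t = 1) (hu : u * u = 1) (h : Odd (orderOf (t * u))) :
    IsConj t u := by
  obtain ⟨k, hk⟩ := h
  refine isConj_iff.mpr ⟨(t * u) ^ k, ?_⟩
  have h1 : SemiconjBy t (t * u)⁻¹ (t * u) := by
    show t * (t * u)⁻¹ = t * u * t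
    rw [mul_inv_rev, inv_eq_of_mul_eq_one_left ht, inv_eq_of_mul_eq_one_left hu]
    group
  have h2 : t * ((t * u)⁻¹) ^ k = (t * u) ^ k * t := (h1.pow_right k).eq
  rw [← inv_pow, mul_assoc, h2, ← mul_assoc, ← pow_add]
  have h3 : (t * u) ^ (k + k) = (t * u)⁻¹ := by
    refine eq_inv_of_mul_eq_one_left ?_
    rw [← pow_succ, show k + k + 1 = orderOf (t * u) by omega, pow_orderOf_eq_one]
  rw [h3, mul_inv_rev, inv_eq_of_mul_eq_one_left ht, inv_eq_of_mul_eq_one_left hu, mul_assoc, ht, mul_one]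

variable (hord : ∀ g : G, g ≠ 1 → (orderOf g).Prime)
include hord

theorem pow_eq_one_of_commute {x y : G} {r : ℕ} (hr : r.Prime) (hx : orderOf x = r)
    (hxy : Commute x y) : y ^ r = 1 := by
  by_cases hy : y = 1
  · rw [hy, one_pow]
  by_cases hs : orderOf y = r
  · rw [← hs]; exact pow_orderOf_eq_one y
  exfalso
  have hp := hord y hy
  have h1 := hxy.orderOf_mul_eq_mul_orderOf_of_coprime (by
    rw [hx]; exact (Nat.coprime_primes hr hp).mpr (Ne.symm hs))
  rw [hx] at h1
  by_cases hxy1 : x * y = 1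
  · rw [hxy1, orderOf_one] at h1
    exact hr.ne_one (Nat.eq_one_of_mul_eq_one_right h1.symm)
  · have h2 := hord _ hxy1
    rw [h1] at h2
    exact Nat.not_prime_mul hr.ne_one hp.ne_one h2

theorem pow_eq_one_of_pow {x : G} {r k : ℕ} (hr : r.Prime) (hx : x ^ r ^ k = 1) : x ^ r = 1 := by
  by_cases h : x = 1
  · rw [h, one_pow]
  have h1 := (hord x h).dvd_of_dvd_pow (p := orderOf x) (orderOf_dvd_of_pow_eq_one hx)
  exact orderOf_dvd_iff_pow_eq_one.mp h1

theorem pow_eq_one_of_mem {H : Subgroup G} {r : ℕ} (hr : r.Prime) (hH : IsPGroup r H) {x : G}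
    (hx : x ∈ H) : x ^ r = 1 := by
  obtain ⟨k, hk⟩ := hH ⟨x, hx⟩
  exact pow_eq_one_of_pow hord hr (congrArg Subtype.val hk)

theorem centralizer_isPGroup {x : G} {r : ℕ} (hr : r.Prime) (hx : orderOf x = r) :
    IsPGroup r (centralizer ({x} : Set G)) := fun y => ⟨1, Subtype.ext (by
      rw [pow_one]
      exact pow_eq_one_of_commute hord hr hx (mem_centralizer_singleton_iff.mp y.2).symm)⟩

theorem sq_of_orderOf_two {t : G} (ht : orderOf t = 2) : t * t = 1 := by
  rw [← sq, ← ht, pow_orderOf_eq_one]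

theorem sylow_two_comm (T : Sylow 2 G) {a b : G} (ha : a ∈ (T : Subgroup G)) (hb : b ∈ (T : Subgroup G)) :
    a * b = b * a := by
  have h : ∀ c ∈ (T : Subgroup G), c⁻¹ = c := fun c hc => inv_eq_of_mul_eq_one_left (by
    rw [← sq]; exact pow_eq_one_of_mem hord Nat.prime_two T.isPGroup' hc)
  calc a * b = (a * b)⁻¹ := (h _ (mul_mem ha hb)).symm
    _ = b * a := by rw [mul_inv_rev, h a ha, h b hb]

theorem centralizer_involution (T : Sylow 2 G) {t : G} (ht : t ∈ (T : Subgroup G)) (h1 : t ≠ 1) :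
    centralizer ({t} : Set G) = T := by
  have ho : orderOf t = 2 := orderOf_eq_prime (pow_eq_one_of_mem hord Nat.prime_two T.isPGroup' ht) h1
  refine T.is_maximal' (centralizer_isPGroup hord Nat.prime_two ho) fun a ha => ?_
  exact mem_centralizer_singleton_iff.mpr (sylow_two_comm hord T ha ht)

theorem sylow_two_eq {T T' : Sylow 2 G} {t : G} (ht : t ∈ (T : Subgroup G)) (ht' : t ∈ (T' : Subgroup G))
    (h1 : t ≠ 1) : T = T' :=
  Sylow.ext ((centralizer_involution hord T ht h1).symm.trans (centralizer_involution hord T' ht' h1))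

theorem exists_sylow_mem {t : G} {p : ℕ} [Fact p.Prime] (ht : orderOf t = p) :
    ∃ T : Sylow p G, t ∈ (T : Subgroup G) := by
  obtain ⟨T, hT⟩ := (IsPGroup.of_card (n := 1) (by rw [Nat.card_zpowers, ht, pow_one]) :
    IsPGroup p (zpowers t)).exists_le_sylow
  exact ⟨T, hT (mem_zpowers t)⟩

theorem involution_isConj [Finite G] {T₁ T₂ : Sylow 2 G} (hne : T₁ ≠ T₂) {t u : G} (ht : orderOf t = 2)
    (hu : orderOf u = 2) : IsConj t u := by
  have key : ∀ {a b : G}, orderOf a = 2 → orderOf b = 2 → ∀ T : Sylow 2 G, a ∈ (T : Subgroup G) →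
      b ∉ (T : Subgroup G) → IsConj a b := by
    intro a b ha hb T haT hbT
    refine isConj_of_odd_mul (sq_of_orderOf_two hord ha) (sq_of_orderOf_two hord hb) ?_
    by_contra hodd
    have hne1 : a * b ≠ 1 := fun h => hbT (eq_inv_of_mul_eq_one_right h ▸ inv_mem haT)
    have h2 : orderOf (a * b) = 2 :=
      (hord _ hne1).eq_two_or_odd'.resolve_right hodd
    have hc : a * b = b * a := by
      have h3 := inv_eq_of_mul_eq_one_left (sq_of_orderOf_two hord h2)
      rw [mul_inv_rev, inv_eq_of_mul_eq_one_left (sq_of_orderOf_two hord ha),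
        inv_eq_of_mul_eq_one_left (sq_of_orderOf_two hord hb)] at h3
      exact h3.symm
    apply hbT
    rw [← centralizer_involution hord T haT (fun h => by rw [h, orderOf_one] at ha; omega)]
    exact mem_centralizer_singleton_iff.mpr hc.symm
  obtain ⟨T, htT⟩ := exists_sylow_mem hord ht
  by_cases huT : u ∈ (T : Subgroup G)
  · obtain ⟨T', hT'⟩ : ∃ T' : Sylow 2 G, T' ≠ T := by
      by_cases h : T₁ = T
      · exact ⟨T₂, fun h2 => hne (h.trans h2.symm)⟩
      · exact ⟨T₁, h⟩
    obtain ⟨v, hv, hv1⟩ : ∃ v ∈ (T' : Subgroup G), v ≠ 1 := by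
      by_contra hh
      push Not at hh
      have h0 : (⟨t, htT⟩ : (T : Subgroup G)) = 1 := (T.equiv T').injective (Subtype.ext
        ((hh _ ((T.equiv T') ⟨t, htT⟩).2).trans (hh _ ((T.equiv T') 1).2).symm))
      rw [show t = 1 from congrArg Subtype.val h0, orderOf_one] at ht
      omega
    have ho : orderOf v = 2 := orderOf_eq_prime (pow_eq_one_of_mem hord Nat.prime_two T'.isPGroup' hv) hv1
    have hvT : v ∉ (T : Subgroup G) := fun h => hT' (sylow_two_eq hord hv h hv1)
    exact (key ht ho T htT hvT).trans (key hu ho T huT hvT).symm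
  · exact key ht hu T htT huT

theorem card_normalizer_two [Finite G] {T₁ T₂ : Sylow 2 G} (hne : T₁ ≠ T₂) (T : Sylow 2 G) {t : G}
    (htT : t ∈ (T : Subgroup G)) (ht : orderOf t = 2) :
    Nat.card (normalizer ((T : Subgroup G) : Set G)) =
      Nat.card (T : Subgroup G) * (Nat.card (T : Subgroup G) - 1) := by
  classical
  set N := normalizer ((T : Subgroup G) : Set G)
  have ht1 : t ≠ 1 := fun h => by rw [h, orderOf_one] at ht; omega
  have htN : t ∈ N := le_normalizer htT
  have h2 := MulAction.index_stabilizer (ConjAct N) (⟨t, htN⟩ : N)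
  rw [ConjAct.stabilizer_eq_centralizer] at h2
  have h2' : (centralizer ({⟨t, htN⟩} : Set N)).index =
      (MulAction.orbit (ConjAct N) (⟨t, htN⟩ : N)).ncard := h2
  have hC : centralizer ({⟨t, htN⟩} : Set N) = (T : Subgroup G).subgroupOf N := by
    ext g
    rw [mem_centralizer_singleton_iff, mem_subgroupOf, ← centralizer_involution hord T htT ht1,
      mem_centralizer_singleton_iff]
    exact Subtype.ext_iff
  have horb : (MulAction.orbit (ConjAct N) (⟨t, htN⟩ : N)).ncard = Nat.card (T : Subgroup G) - 1 := by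
    have him : Subtype.val '' MulAction.orbit (ConjAct N) (⟨t, htN⟩ : N) = ((T : Subgroup G) : Set G) \ {1} := by
      ext u
      constructor
      · rintro ⟨_, ⟨g, rfl⟩, rfl⟩
        refine ⟨((mem_normalizer_iff.mp (ConjAct.ofConjAct g).2) t).mp htT, ?_⟩
        simp only [Set.mem_singleton_iff, ConjAct.smul_def]
        simpa using ht1
      · rintro ⟨huT, hu1⟩
        have ho : orderOf u = 2 := orderOf_eq_prime (pow_eq_one_of_mem hord Nat.prime_two T.isPGroup' huT) hu1
        obtain ⟨g, hg⟩ := isConj_iff.mp (involution_isConj hord hne ht ho)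
        have hgN : g ∈ normalizer ((T : Subgroup G) : Set G) := by
          refine Sylow.smul_eq_iff_mem_normalizer.mp ?_
          refine (sylow_two_eq hord (t := u) huT ?_ hu1).symm
          exact ⟨t, htT, hg⟩
        exact ⟨ConjAct.toConjAct (⟨g, hgN⟩ : N) • ⟨t, htN⟩, MulAction.mem_orbit _ _, by
          simpa [ConjAct.smul_def] using hg⟩
    rw [← Set.ncard_image_of_injective _ Subtype.val_injective, him,
      Set.ncard_sdiff (by simp), Set.ncard_singleton, ← Nat.card_coe_set_eq]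
    rfl
  rw [hC, horb] at h2'
  rw [← Subgroup.card_mul_index ((T : Subgroup G).subgroupOf N), h2',
    Nat.card_congr (subgroupOfEquivOfLe (le_normalizer : (T : Subgroup G) ≤ N)).toEquiv]

/-- An involution normalising `C(x)` inverts it, for `x` of odd prime order. -/
theorem inverts_of_normalizes [Finite G] {x t : G} {r : ℕ} (hr : r.Prime) (hr2 : r ≠ 2)
    (hx : orderOf x = r) (ht : orderOf t = 2)
    (hn : ∀ y ∈ centralizer ({x} : Set G), t * y * t⁻¹ ∈ centralizer ({x} : Set G))
    {y : G} (hy : y ∈ centralizer ({x} : Set G)) : t * y * t⁻¹ = y⁻¹ := by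
  set A := centralizer ({x} : Set G)
  let φ : A →* A :=
    { toFun := fun a => ⟨t * a * t⁻¹, hn a a.2⟩
      map_one' := Subtype.ext (by simp)
      map_mul' := fun a b => Subtype.ext (by simp [mul_assoc]) }
  have hfp : MonoidHom.FixedPointFree φ := by
    intro a ha
    have h1 : t * (a : G) * t⁻¹ = a := congrArg Subtype.val ha
    have h2 : (a : G) ^ 2 = 1 := pow_eq_one_of_commute hord Nat.prime_two ht (mul_inv_eq_iff_eq_mul.mp h1)
    have h3 : (a : G) ^ r = 1 := pow_eq_one_of_commute hord hr hx (mem_centralizer_singleton_iff.mp a.2).symm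
    have h4 := pow_gcd_eq_one.mpr ⟨h2, h3⟩
    rw [(Nat.coprime_primes Nat.prime_two hr).mpr (Ne.symm hr2), pow_one] at h4
    exact Subtype.ext h4
  have hinv : Function.Involutive φ := by
    intro a
    refine Subtype.ext ?_
    show t * (t * (a : G) * t⁻¹) * t⁻¹ = a
    rw [inv_eq_of_mul_eq_one_left (sq_of_orderOf_two hord ht)]
    calc t * (t * (a : G) * t) * t = (t * t) * a * (t * t) := by group
      _ = a := by rw [sq_of_orderOf_two hord ht, one_mul, mul_one]
  exact congrArg Subtype.val (congrFun (hfp.coe_eq_inv_of_involutive hinv) ⟨y, hy⟩)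

theorem inverts_centralizer [Finite G] {x t : G} {r : ℕ} (hr : r.Prime) (hr2 : r ≠ 2)
    (hx : orderOf x = r) (ht : orderOf t = 2) (hinv : t * x * t⁻¹ = x⁻¹)
    {y : G} (hy : y ∈ centralizer ({x} : Set G)) : t * y * t⁻¹ = y⁻¹ := by
  refine inverts_of_normalizes hord hr hr2 hx ht (fun a ha => ?_) hy
  rw [mem_centralizer_singleton_iff] at ha ⊢
  have h1 : Commute (t * a * t⁻¹) (t * x * t⁻¹) := (Commute.map (show Commute a x from ha) (MulAut.conj t).toMonoidHom)
  rw [hinv] at h1
  have h5 := h1.inv_right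
  rw [inv_inv] at h5
  exact h5.eq

theorem comm_centralizer [Finite G] {x t : G} {r : ℕ} (hr : r.Prime) (hr2 : r ≠ 2)
    (hx : orderOf x = r) (ht : orderOf t = 2) (hinv : t * x * t⁻¹ = x⁻¹)
    {y z : G} (hy : y ∈ centralizer ({x} : Set G)) (hz : z ∈ centralizer ({x} : Set G)) :
    y * z = z * y := by
  have h : ∀ {a : G}, a ∈ centralizer ({x} : Set G) → t * a * t⁻¹ = a⁻¹ := fun ha =>
    inverts_centralizer hord hr hr2 hx ht hinv ha
  have h1 := h (inv_mem (mul_mem hz hy))
  rw [inv_inv, mul_inv_rev] at h1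
  calc y * z = (t * y⁻¹ * t⁻¹) * (t * z⁻¹ * t⁻¹) := by rw [h (inv_mem hy), h (inv_mem hz), inv_inv, inv_inv]
    _ = t * (y⁻¹ * z⁻¹) * t⁻¹ := by group
    _ = z * y := h1

theorem centralizer_eq_of_mem [Finite G] {x t : G} {r : ℕ} (hr : r.Prime) (hr2 : r ≠ 2)
    (hx : orderOf x = r) (ht : orderOf t = 2) (hinv : t * x * t⁻¹ = x⁻¹)
    {y : G} (hy : y ∈ centralizer ({x} : Set G)) (hy1 : y ≠ 1) :
    centralizer ({y} : Set G) = centralizer ({x} : Set G) := by
  haveI := Fact.mk hr
  have hoy : orderOf y = r :=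
    orderOf_eq_prime (pow_eq_one_of_commute hord hr hx (mem_centralizer_singleton_iff.mp hy).symm) hy1
  have hiy := inverts_centralizer hord hr hr2 hx ht hinv hy
  have hxy : x ∈ centralizer ({y} : Set G) :=
    mem_centralizer_singleton_iff.mpr (mem_centralizer_singleton_iff.mp hy).symm
  refine le_antisymm (fun z hz => mem_centralizer_singleton_iff.mpr ?_) (fun z hz => mem_centralizer_singleton_iff.mpr ?_)
  · exact comm_centralizer hord hr hr2 hoy ht hiy hz hxy
  · exact comm_centralizer hord hr hr2 hx ht hinv hz hy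

theorem mem_normalizer_cases [Finite G] {x t : G} {r : ℕ} (hr : r.Prime) (hr2 : r ≠ 2)
    (hx : orderOf x = r) (ht : orderOf t = 2) (hinv : t * x * t⁻¹ = x⁻¹)
    {g : G} (hg : g ∈ normalizer ((centralizer ({x} : Set G)) : Set G)) :
    g ∈ centralizer ({x} : Set G) ∨ g * t ∈ centralizer ({x} : Set G) := by
  set A := centralizer ({x} : Set G) with hA
  have hxA : x ∈ A := mem_centralizer_singleton_iff.mpr rfl
  have htt := sq_of_orderOf_two hord ht
  have hti : t⁻¹ = t := inv_eq_of_mul_eq_one_left htt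
  have hrodd : Odd r := hr.odd_of_ne_two hr2
  -- involutions normalising A lie in A * t
  have hinvol : ∀ s : G, orderOf s = 2 → s ∈ normalizer (A : Set G) → s * t ∈ A := by
    intro s hs hsN
    have h1 := inverts_of_normalizes hord hr hr2 hx hs (fun a ha => ((mem_normalizer_iff.mp hsN) a).mp ha) hxA
    rw [hA, mem_centralizer_singleton_iff]
    calc s * t * x = s * (t * x * t⁻¹) * t := by group
      _ = s * x⁻¹ * t := by rw [hinv]
      _ = (s * x * s⁻¹)⁻¹ * (s * t) := by group
      _ = x * (s * t) := by rw [h1, inv_inv]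
  have hoc : orderOf (g * t * g⁻¹) = 2 := by
    rw [← MulAut.conj_apply, MulEquiv.orderOf_eq, ht]
  have htN : t ∈ normalizer (A : Set G) := by
    rw [mem_normalizer_iff]
    intro a
    refine ⟨fun ha => by rw [inverts_centralizer hord hr hr2 hx ht hinv ha]; exact inv_mem ha, fun ha => ?_⟩
    have h2 := inverts_centralizer hord hr hr2 hx ht hinv ha
    have h3 : t * (t * a * t⁻¹) * t⁻¹ = a := by
      rw [hti]
      calc t * (t * a * t) * t = (t * t) * a * (t * t) := by group
        _ = a := by rw [htt, one_mul, mul_one]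
    rw [h3] at h2
    rw [h2]; exact inv_mem ha
  have ha : g * t * g⁻¹ * t ∈ A := hinvol _ hoc (mul_mem (mul_mem hg htN) (inv_mem hg))
  set a := g * t * g⁻¹ * t with had
  set b := a ^ ((r + 1) / 2) with hb
  have hbA : b ∈ A := pow_mem ha _
  have hbb : b * b = a := by
    obtain ⟨k, hk⟩ := hrodd
    rw [hb, ← pow_add, show (r + 1) / 2 + (r + 1) / 2 = r + 1 by omega, pow_succ,
      pow_eq_one_of_commute hord hr hx (mem_centralizer_singleton_iff.mp ha).symm, one_mul]
  have hbt : b * t * b⁻¹ = g * t * g⁻¹ := by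
    have h1 := inverts_centralizer hord hr hr2 hx ht hinv (inv_mem hbA)
    rw [inv_inv] at h1
    calc b * t * b⁻¹ = b * (t * b⁻¹ * t⁻¹) * t := by group
      _ = a * t := by rw [h1, hbb]
      _ = g * t * g⁻¹ := by rw [had, mul_assoc (g * t * g⁻¹), htt, mul_one]
  set h := b⁻¹ * g with hh
  have hcomm : h * t = t * h := by
    have h1 : b * (t * (b⁻¹ * g)) = b * ((b⁻¹ * g) * t) := by
      calc b * (t * (b⁻¹ * g)) = (b * t * b⁻¹) * g := by group
        _ = (g * t * g⁻¹) * g := by rw [hbt]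
        _ = b * ((b⁻¹ * g) * t) := by group
    exact (mul_left_cancel h1).symm
  have hgbh : g = b * h := by rw [hh, mul_inv_cancel_left]
  by_cases h1 : h = 1
  · left; rw [hgbh, h1, mul_one]; exact hbA
  right
  have hoh : orderOf h = 2 := orderOf_eq_prime (pow_eq_one_of_commute hord Nat.prime_two ht hcomm.symm) h1
  have hhN : h ∈ normalizer (A : Set G) := mul_mem (inv_mem (le_normalizer hbA)) hg
  rw [hgbh, mul_assoc]
  exact mul_mem hbA (hinvol h hoh hhN)

theorem sylow_of_real [Finite G] {x t : G} {r : ℕ} [Fact r.Prime] (hr2 : r ≠ 2)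
    (hx : orderOf x = r) (ht : orderOf t = 2) (hinv : t * x * t⁻¹ = x⁻¹) :
    ∃ R : Sylow r G, (R : Subgroup G) = centralizer ({x} : Set G) := by
  have hr : r.Prime := Fact.out
  set A := centralizer ({x} : Set G) with hA
  obtain ⟨R, hR⟩ := (centralizer_isPGroup hord hr hx).exists_le_sylow
  refine ⟨R, le_antisymm ?_ hR⟩
  by_contra hle
  haveI := (R.isPGroup' : IsPGroup r (R : Subgroup G)).isNilpotent
  have hlt : A.subgroupOf (R : Subgroup G) < ⊤ := by
    rw [lt_top_iff_ne_top, Ne, subgroupOf_eq_top]; exact hle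
  obtain ⟨g, hgN, hgA⟩ := SetLike.exists_of_lt (normalizerCondition_of_isNilpotent (A.subgroupOf (R : Subgroup G)) hlt)
  have hgN' : (g : G) ∈ normalizer (A : Set G) := by
    rw [mem_normalizer_iff]
    intro a
    constructor
    · intro ha
      exact ((mem_normalizer_iff.mp hgN) ⟨a, hR ha⟩).mp ha
    · intro ha
      have haR : a ∈ (R : Subgroup G) := by
        have := mul_mem (mul_mem (inv_mem g.2) (hR ha)) g.2
        simpa [mul_assoc] using this
      exact ((mem_normalizer_iff.mp hgN) ⟨a, haR⟩).mpr ha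
  rcases mem_normalizer_cases hord hr hr2 hx ht hinv hgN' with h | h
  · exact hgA (mem_subgroupOf.mpr h)
  · apply hgA
    rw [mem_subgroupOf]
    have h2 : (g : G) ^ 2 = 1 := by
      have h3 := inverts_centralizer hord hr hr2 hx ht hinv h
      have htt := sq_of_orderOf_two hord ht
      have hti : t⁻¹ = t := inv_eq_of_mul_eq_one_left htt
      calc (g : G) ^ 2 = ((g : G) * t) * (t * ((g : G) * t) * t⁻¹) := by
            rw [hti, sq]; simp only [← mul_assoc]; simp only [mul_assoc, htt, mul_one]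
        _ = 1 := by rw [h3, mul_inv_cancel]
    have h3 : (g : G) ^ r = 1 := pow_eq_one_of_mem hord hr R.isPGroup' g.2
    have h4 := pow_gcd_eq_one.mpr ⟨h2, h3⟩
    rw [(Nat.coprime_primes Nat.prime_two hr).mpr (Ne.symm hr2), pow_one] at h4
    rw [h4]; exact one_mem A

omit hord

/-- `r` is real: some element of order `r` is inverted by an involution. -/
def IsReal (G : Type u) [Group G] (r : ℕ) : Prop :=
  ∃ x t : G, orderOf x = r ∧ orderOf t = 2 ∧ t * x * t⁻¹ = x⁻¹

include hord

theorem exists_inverting [Finite G] {r : ℕ} [Fact r.Prime] (hr2 : r ≠ 2) (hreal : IsReal G r) {y : G}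
    (hy : orderOf y = r) : ∃ t : G, orderOf t = 2 ∧ t * y * t⁻¹ = y⁻¹ := by
  have hr : r.Prime := Fact.out
  obtain ⟨x, t, hx, ht, hinv⟩ := hreal
  obtain ⟨R₀, hR₀⟩ := sylow_of_real hord hr2 hx ht hinv
  obtain ⟨R, hyR⟩ := exists_sylow_mem hord hy
  obtain ⟨g, hg⟩ := MulAction.exists_smul_eq G R₀ R
  obtain ⟨y₀, hy₀, hy0⟩ : y ∈ ((g • R₀ : Sylow r G) : Subgroup G) := hg.symm ▸ hyR
  have hy₀' : y₀ ∈ centralizer ({x} : Set G) := hR₀ ▸ hy₀
  refine ⟨MulAut.conj g t, by rw [MulEquiv.orderOf_eq, ht], ?_⟩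
  have h1 : MulAut.conj g (t * y₀ * t⁻¹) = MulAut.conj g y₀⁻¹ := by
    rw [inverts_centralizer hord hr hr2 hx ht hinv hy₀']
  rw [map_mul, map_mul, map_inv, map_inv] at h1
  have hy0' : MulAut.conj g y₀ = y := hy0
  rw [hy0'] at h1
  exact h1

theorem sylow_eq_centralizer [Finite G] {r : ℕ} [Fact r.Prime] (hr2 : r ≠ 2) (hreal : IsReal G r) {y : G}
    (hy : orderOf y = r) (R : Sylow r G) (hyR : y ∈ (R : Subgroup G)) :
    (R : Subgroup G) = centralizer ({y} : Set G) := by
  have hr : r.Prime := Fact.out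
  have hy1 : y ≠ 1 := fun h => by rw [h, orderOf_one] at hy; exact hr.ne_one hy.symm
  haveI : Nontrivial (R : Subgroup G) := ⟨⟨⟨y, hyR⟩, 1, fun h => hy1 (congrArg Subtype.val h)⟩⟩
  haveI := R.isPGroup'.center_nontrivial
  obtain ⟨⟨z, hz⟩, hz1⟩ := exists_ne (1 : center (R : Subgroup G))
  have hzo : orderOf (z : G) = r := orderOf_eq_prime (pow_eq_one_of_mem hord hr R.isPGroup' z.2)
    (fun h => hz1 (Subtype.ext (Subtype.ext h)))
  obtain ⟨t, ht, hinv⟩ := exists_inverting hord hr2 hreal hzo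
  obtain ⟨R', hR'⟩ := sylow_of_real hord hr2 hzo ht hinv
  have hle : (R : Subgroup G) ≤ centralizer ({(z : G)} : Set G) := fun a ha => mem_centralizer_singleton_iff.mpr
    (congrArg Subtype.val (mem_center_iff.mp hz ⟨a, ha⟩))
  have h1 : (R : Subgroup G) = centralizer ({(z : G)} : Set G) :=
    (R.is_maximal' (hR' ▸ R'.isPGroup') hle).symm
  rw [h1, centralizer_eq_of_mem hord hr hr2 hzo ht hinv (h1 ▸ hyR) hy1]

theorem card_normalizer_real [Finite G] {r : ℕ} [Fact r.Prime] (hr2 : r ≠ 2) (hreal : IsReal G r)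
    (R : Sylow r G) {y : G} (hy : orderOf y = r) (hyR : y ∈ (R : Subgroup G)) :
    Nat.card (normalizer ((R : Subgroup G) : Set G)) = 2 * Nat.card (R : Subgroup G) := by
  have hr : r.Prime := Fact.out
  obtain ⟨t, ht, hinv⟩ := exists_inverting hord hr2 hreal hy
  have hR := sylow_eq_centralizer hord hr2 hreal hy R hyR
  have htN : t ∈ normalizer ((R : Subgroup G) : Set G) := by
    refine Sylow.smul_eq_iff_mem_normalizer.mp ?_
    refine Sylow.ext ?_
    rw [sylow_eq_centralizer hord hr2 hreal hy (t • R) ?_, hR]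
    exact ⟨y⁻¹, inv_mem hyR, show t * y⁻¹ * t⁻¹ = y by
      rw [inverts_centralizer hord hr hr2 hy ht hinv (inv_mem (mem_centralizer_singleton_iff.mpr rfl)), inv_inv]⟩
  have hidx : ((R : Subgroup G).subgroupOf (normalizer ((R : Subgroup G) : Set G))).index = 2 := by
    rw [Subgroup.index_eq_two_iff]
    refine ⟨⟨t, htN⟩, fun g => ?_⟩
    have htR : t ∉ (R : Subgroup G) := fun h => by
      have h1 := pow_eq_one_of_mem hord hr R.isPGroup' h
      rw [← orderOf_dvd_iff_pow_eq_one, ht, Nat.prime_dvd_prime_iff_eq Nat.prime_two hr] at h1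
      exact hr2 h1.symm
    simp only [mem_subgroupOf, Subgroup.coe_mul]
    have hgN : (g : G) ∈ normalizer ((centralizer ({y} : Set G)) : Set G) := hR ▸ g.2
    rcases mem_normalizer_cases hord hr hr2 hy ht hinv hgN with h | h
    · rw [← hR] at h
      exact Or.inr ⟨h, fun h2 => htR (by simpa using mul_mem (inv_mem h) h2)⟩
    · rw [← hR] at h
      exact Or.inl ⟨h, fun h2 => htR (by simpa using mul_mem (inv_mem h2) h)⟩
  rw [← Subgroup.card_mul_index ((R : Subgroup G).subgroupOf (normalizer ((R : Subgroup G) : Set G))), hidx,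
    Nat.card_congr (subgroupOfEquivOfLe (le_normalizer : (R : Subgroup G) ≤ _)).toEquiv, mul_comm]

theorem card_inverting [Finite G] {r : ℕ} [Fact r.Prime] (hr2 : r ≠ 2) (hreal : IsReal G r)
    (R : Sylow r G) {y : G} (hy : orderOf y = r) :
    Nat.card {i : G // orderOf i = 2 ∧ orderOf (i * y) = 2} = Nat.card (R : Subgroup G) := by
  have hr : r.Prime := Fact.out
  obtain ⟨t, ht, hinv⟩ := exists_inverting hord hr2 hreal hy
  obtain ⟨Ry, hRy⟩ := sylow_of_real hord hr2 hy ht hinv
  rw [Nat.card_congr (R.equiv Ry).toEquiv, hRy]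
  have htt := sq_of_orderOf_two hord ht
  have hti : t⁻¹ = t := inv_eq_of_mul_eq_one_left htt
  have hyC : y ∈ centralizer ({y} : Set G) := mem_centralizer_singleton_iff.mpr rfl
  have h := inverts_centralizer hord hr hr2 hy ht hinv hyC
  have hne : ∀ c ∈ centralizer ({y} : Set G), t ≠ c := by
    intro c hc h1
    have h3 : t ^ r = 1 := pow_eq_one_of_mem hord hr (centralizer_isPGroup hord hr hy) (h1 ▸ hc)
    rw [← orderOf_dvd_iff_pow_eq_one, ht, Nat.prime_dvd_prime_iff_eq Nat.prime_two hr] at h3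
    exact hr2 h3.symm
  have hfwd : ∀ a ∈ centralizer ({y} : Set G),
      orderOf (a * t) = 2 ∧ orderOf (a * t * y) = 2 := by
    intro a ha
    have h' := inverts_centralizer hord hr hr2 hy ht hinv ha
    have hc : a * y⁻¹ = y⁻¹ * a := (Commute.inv_right (mem_centralizer_singleton_iff.mp ha)).eq
    constructor
    · refine orderOf_eq_prime ?_ fun h1 => hne a⁻¹ (inv_mem ha) (eq_inv_of_mul_eq_one_right h1)
      rw [sq, show a * t * (a * t) = a * (t * a * t) by group]
      nth_rewrite 2 [← hti]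
      rw [h', mul_inv_cancel]
    · refine orderOf_eq_prime ?_ fun h1 => ?_
      · rw [sq]
        calc a * t * y * (a * t * y) = a * (t * y * t⁻¹) * (t * a * t⁻¹) * (t * t) * y := by group
          _ = a * y⁻¹ * a⁻¹ * y := by rw [h, h', htt, mul_one]
          _ = 1 := by rw [hc]; group
      · refine hne (a⁻¹ * y⁻¹) (mul_mem (inv_mem ha) (inv_mem hyC)) ?_
        rw [eq_mul_inv_iff_mul_eq]
        exact eq_inv_of_mul_eq_one_right (by rw [← mul_assoc]; exact h1)
  have hbwd : ∀ i : G, orderOf i = 2 → orderOf (i * y) = 2 → i * t ∈ centralizer ({y} : Set G) := by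
    intro i hi hiy
    have hii := sq_of_orderOf_two hord hi
    have h1 : i * y * i = y⁻¹ := by
      refine eq_inv_of_mul_eq_one_left ?_
      rw [show i * y * i * y = (i * y) * (i * y) by group]
      exact sq_of_orderOf_two hord hiy
    rw [mem_centralizer_singleton_iff]
    calc i * t * y = i * (t * y * t⁻¹) * t := by group
      _ = i * (i * y * i) * t := by rw [hinv, h1]
      _ = (i * i) * y * (i * t) := by group
      _ = y * (i * t) := by rw [hii, one_mul]
  exact (Nat.card_congr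
    { toFun := fun a => ⟨(a : G) * t, hfwd a a.2⟩
      invFun := fun i => ⟨i.1 * t, hbwd i.1 i.2.1 i.2.2⟩
      left_inv := fun a => Subtype.ext (by show (a : G) * t * t = a; rw [mul_assoc, htt, mul_one])
      right_inv := fun i => Subtype.ext (by show i.1 * t * t = i.1; rw [mul_assoc, htt, mul_one]) }).symm

theorem card_orderOf_of_unique [Finite G] {r : ℕ} [Fact r.Prime] (R : Sylow r G)
    (huniq : ∀ x : G, orderOf x = r → ∀ Q Q' : Sylow r G, x ∈ (Q : Subgroup G) → x ∈ (Q' : Subgroup G) → Q = Q') :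
    Nat.card {x : G // orderOf x = r} = Nat.card (Sylow r G) * (Nat.card (R : Subgroup G) - 1) := by
  classical
  have hr : r.Prime := Fact.out
  choose S hS using fun x : {x : G // orderOf x = r} => exists_sylow_mem hord x.2
  refine card_eq_mul_of_fibres S _ fun Q => ?_
  rw [Nat.card_congr (R.equiv Q).toEquiv]
  have h1 : ((Q : Subgroup G) : Set G).ncard = Nat.card (Q : Subgroup G) := (Nat.card_coe_set_eq _).symm
  rw [← h1, ← Set.ncard_sdiff_singleton_of_mem (show (1 : G) ∈ ((Q : Subgroup G) : Set G) from one_mem _),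
    ← Nat.card_coe_set_eq]
  refine Nat.card_congr
    { toFun := fun x => ⟨x.1.1, ?_, ?_⟩
      invFun := fun x => ⟨⟨x.1, orderOf_eq_prime (pow_eq_one_of_mem hord hr Q.isPGroup' x.2.1) x.2.2⟩, ?_⟩
      left_inv := fun x => rfl
      right_inv := fun x => rfl }
  · have h2 := hS x.1
    rwa [x.2] at h2
  · intro h
    have h2 := x.1.2
    rw [h, orderOf_one] at h2
    exact hr.ne_one h2.symm
  · have ho := orderOf_eq_prime (pow_eq_one_of_mem hord hr Q.isPGroup' x.2.1) x.2.2
    exact huniq x.1 ho _ Q (hS ⟨x.1, ho⟩) x.2.1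

theorem card_orderOf_real [Finite G] {r : ℕ} [Fact r.Prime] (hr2 : r ≠ 2) (hreal : IsReal G r)
    (R : Sylow r G) :
    Nat.card {x : G // orderOf x = r} * (2 * Nat.card (R : Subgroup G)) =
      Nat.card G * (Nat.card (R : Subgroup G) - 1) := by
  classical
  have hr : r.Prime := Fact.out
  have hfib := card_orderOf_of_unique hord R fun x hx Q Q' hQ hQ' => Sylow.ext
    ((sylow_eq_centralizer hord hr2 hreal hx Q hQ).trans (sylow_eq_centralizer hord hr2 hreal hx Q' hQ').symm)
  rw [hfib]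
  by_cases h : Nat.card (R : Subgroup G) - 1 = 0
  · rw [h]; simp
  obtain ⟨x, hx⟩ : ∃ x : (R : Subgroup G), x ≠ 1 := by
    haveI : Nontrivial (R : Subgroup G) := Finite.one_lt_card_iff_nontrivial.mp (by omega)
    exact exists_ne 1
  have hxo : orderOf (x : G) = r := orderOf_eq_prime (pow_eq_one_of_mem hord hr R.isPGroup' x.2)
    (fun h => hx (Subtype.ext h))
  rw [← card_normalizer_real hord hr2 hreal R hxo x.2, mul_right_comm, R.card_eq_index_normalizer]
  exact congrArg (· * (Nat.card (R : Subgroup G) - 1)) (Subgroup.index_mul_card _)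

omit hord

theorem card_eq_three_primes [Finite G] {r s : ℕ} [Fact r.Prime] [Fact s.Prime] (hr2 : r ≠ 2) (hs2 : s ≠ 2)
    (hrs : r ≠ s) (hpf : (Nat.card G).primeFactors = {2, r, s}) (T : Sylow 2 G) (R : Sylow r G) (S : Sylow s G) :
    Nat.card G = Nat.card (T : Subgroup G) * (Nat.card (R : Subgroup G) * Nat.card (S : Subgroup G)) := by
  conv_lhs => rw [← Nat.prod_factorization_pow_eq_self (Nat.card_pos (α := G)).ne']
  rw [Finsupp.prod, Nat.support_factorization, hpf, Finset.prod_insert (by simp [Ne.symm hr2, Ne.symm hs2]),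
    Finset.prod_insert (by simp [hrs]), Finset.prod_singleton, T.card_eq_multiplicity, R.card_eq_multiplicity,
    S.card_eq_multiplicity]

include hord

theorem orderOf_cases [Finite G] {r s : ℕ} (hpf : ∀ p : ℕ, p.Prime → p ∣ Nat.card G → p = 2 ∨ p = r ∨ p = s)
    (g : G) : orderOf g ∈ ({1, 2, r, s} : Finset ℕ) := by
  by_cases h : g = 1
  · simp [h]
  rcases hpf _ (hord g h) (orderOf_dvd_natCard g) with h1 | h1 | h1 <;> simp [h1]

theorem not_both_dvd_normalizer [Finite G] {T₁ T₂ : Sylow 2 G} (hne : T₁ ≠ T₂) {r s : ℕ} [Fact r.Prime]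
    [Fact s.Prime] (hr2 : r ≠ 2) (hs2 : s ≠ 2) (hrs : r ≠ s) (hpf : (Nat.card G).primeFactors = {2, r, s})
    (hrr : IsReal G r) (hsr : IsReal G s) (T : Sylow 2 G)
    (hdr : r ∣ Nat.card (normalizer ((T : Subgroup G) : Set G)))
    (hds : s ∣ Nat.card (normalizer ((T : Subgroup G) : Set G))) : False := by
  classical
  set N := normalizer ((T : Subgroup G) : Set G) with hN
  have hordN : ∀ g : N, g ≠ 1 → (orderOf g).Prime := fun g hg => by
    rw [← Subgroup.orderOf_coe]; exact hord g fun h => hg (Subtype.ext h)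
  have hTN : (T : Subgroup G) ≤ N := le_normalizer
  have hinvT : ∀ g ∈ N, g ^ 2 = 1 → g ∈ (T : Subgroup G) := by
    intro g hg hg2
    have hp : IsPGroup 2 ((T : Subgroup G) ⊔ zpowers g : Subgroup G) := by
      refine IsPGroup.to_sup_of_normal_left' T.isPGroup' ?_ (zpowers_le.mpr hg)
      rintro ⟨x, hx⟩
      obtain ⟨i, rfl⟩ := mem_zpowers_iff.mp hx
      refine ⟨1, Subtype.ext ?_⟩
      show (g ^ i) ^ (2 ^ 1) = 1
      rw [pow_one, ← zpow_natCast, ← zpow_mul, mul_comm, zpow_mul, zpow_natCast, hg2, one_zpow]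
    exact (T.is_maximal' hp le_sup_left) ▸ (le_sup_right : zpowers g ≤ _) (mem_zpowers g)
  have key : ∀ (p : ℕ) [Fact p.Prime], p ≠ 2 → IsReal G p → p ∣ Nat.card N → ∀ P : Sylow p N,
      Nat.card {x : N // orderOf x = p} = (P : Subgroup N).index * (Nat.card (P : Subgroup N) - 1) ∧
        1 < Nat.card (P : Subgroup N) := by
    intro p _ hp2 hpreal hpd P
    have hp : p.Prime := Fact.out
    have hle : ∀ (Q : Sylow p N) (x : N), orderOf x = p → x ∈ (Q : Subgroup N) →
        (Q : Subgroup N) = (centralizer ({(x : G)} : Set G)).subgroupOf N := by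
      intro Q x hx hxQ
      have hx' : orderOf (x : G) = p := by rw [Subgroup.orderOf_coe, hx]
      obtain ⟨Qt, hQt⟩ := (Q.isPGroup'.map N.subtype).exists_le_sylow
      have h1 := sylow_eq_centralizer hord hp2 hpreal hx' Qt (hQt ⟨x, hxQ, rfl⟩)
      refine (Q.is_maximal' ?_ ?_).symm
      · exact (h1 ▸ Qt.isPGroup').comap_of_injective N.subtype N.subtype_injective
      · intro a ha
        rw [mem_subgroupOf, ← h1]
        exact hQt ⟨a, ha, rfl⟩
    have hcard := card_orderOf_of_unique hordN P fun x hx Q Q' hQ hQ' => Sylow.ext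
      ((hle Q x hx hQ).trans (hle Q' x hx hQ').symm)
    have h1 : 1 < Nat.card (P : Subgroup N) :=
      lt_of_lt_of_le hp.one_lt (Nat.le_of_dvd Nat.card_pos (P.dvd_card_of_dvd_card hpd))
    haveI : Nontrivial (P : Subgroup N) := Finite.one_lt_card_iff_nontrivial.mp h1
    obtain ⟨⟨x, hxP⟩, hx1⟩ := exists_ne (1 : (P : Subgroup N))
    have hxo : orderOf x = p := orderOf_eq_prime (pow_eq_one_of_mem hordN hp P.isPGroup' hxP)
      fun h => hx1 (Subtype.ext h)
    have hx' : orderOf (x : G) = p := by rw [Subgroup.orderOf_coe, hxo]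
    have hPC := hle P x hxo hxP
    have hNP : normalizer ((P : Subgroup N) : Set N) = P := by
      refine le_antisymm (fun g hg => ?_) le_normalizer
      obtain ⟨Q, hQx⟩ := exists_sylow_mem hord hx'
      have hQ := sylow_eq_centralizer hord hp2 hpreal hx' Q hQx
      have hgQ : (g : G) ∈ normalizer ((centralizer ({(x : G)} : Set G)) : Set G) := by
        rw [← hQ]
        refine Sylow.smul_eq_iff_mem_normalizer.mp (Sylow.ext ?_)
        have h2 : (g : G) * x * (g : G)⁻¹ ∈ centralizer ({(x : G)} : Set G) := by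
          have h3 := ((mem_normalizer_iff.mp hg) x).mp hxP
          have h4 : g * x * g⁻¹ ∈ (centralizer ({(x : G)} : Set G)).subgroupOf N := hPC ▸ h3
          exact h4
        have h5 : orderOf ((g : G) * x * (g : G)⁻¹) = p := by
          rw [← MulAut.conj_apply, MulEquiv.orderOf_eq, hx']
        exact (sylow_eq_centralizer hord hp2 hpreal h5 ((g : G) • Q)
          (show _ ∈ (((g : G) • Q : Sylow p G) : Subgroup G) from ⟨x, hQx, rfl⟩)).trans
          (sylow_eq_centralizer hord hp2 hpreal h5 Q (hQ.symm ▸ h2)).symm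
      obtain ⟨t, ht, hinv⟩ := exists_inverting hord hp2 hpreal hx'
      rcases mem_normalizer_cases hord hp hp2 hx' ht hinv hgQ with h | h
      · exact hPC.symm ▸ h
      · exfalso
        have hxC : (x : G) ∈ centralizer ({(x : G)} : Set G) := mem_centralizer_singleton_iff.mpr rfl
        have htt := sq_of_orderOf_two hord ht
        have hti : t⁻¹ = t := inv_eq_of_mul_eq_one_left htt
        have hiv := inverts_centralizer hord hp hp2 hx' ht hinv h
        have hg2 : (g : G) ^ 2 = 1 := by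
          calc (g : G) ^ 2 = ((g : G) * t) * (t * ((g : G) * t) * t⁻¹) := by
                rw [hti, sq]; simp only [← mul_assoc]; simp only [mul_assoc, htt, mul_one]
            _ = 1 := by rw [hiv, mul_inv_cancel]
        have hgT := hinvT g g.2 hg2
        have hgx : (g : G) * x * (g : G)⁻¹ = (x : G)⁻¹ := by
          have hc : (g : G) * t * x = x * ((g : G) * t) := mem_centralizer_singleton_iff.mp h
          calc (g : G) * x * (g : G)⁻¹ = ((g : G) * t) * (t⁻¹ * x * t) * ((g : G) * t)⁻¹ := by group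
            _ = ((g : G) * t) * (t * x * t⁻¹) * ((g : G) * t)⁻¹ := by rw [hti]
            _ = (((g : G) * t) * x * ((g : G) * t)⁻¹)⁻¹ := by rw [hinv]; group
            _ = (x : G)⁻¹ := by rw [hc]; group
        have hmem : ((x : G) ^ 2)⁻¹ ∈ (T : Subgroup G) := by
          have h6 : (g : G) * ((x : G) * (g : G)⁻¹ * (x : G)⁻¹) ∈ (T : Subgroup G) :=
            mul_mem hgT (((mem_normalizer_iff.mp x.2) _).mp (inv_mem hgT))
          have h7 : (g : G) * ((x : G) * (g : G)⁻¹ * (x : G)⁻¹) = ((x : G) ^ 2)⁻¹ := by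
            rw [← mul_assoc, ← mul_assoc, hgx, sq, mul_inv_rev]
          rwa [h7] at h6
        have h8 := pow_eq_one_of_mem hord Nat.prime_two T.isPGroup' (inv_mem hmem)
        rw [inv_inv, ← pow_mul, ← orderOf_dvd_iff_pow_eq_one, hx'] at h8
        have := (Nat.prime_dvd_prime_iff_eq hp Nat.prime_two).mp ((hp.dvd_mul.mp h8).elim id id)
        exact hp2 this
    refine ⟨?_, h1⟩
    rw [hcard, P.card_eq_index_normalizer]
    exact congrArg (fun H : Subgroup N => H.index * _) hNP
  have h2 : Nat.card {x : N // orderOf x = 2} = Nat.card (T : Subgroup G) - 1 := by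
    have h1 : ((T : Subgroup G) : Set G).ncard = Nat.card (T : Subgroup G) := (Nat.card_coe_set_eq _).symm
    rw [← h1, ← Set.ncard_sdiff_singleton_of_mem (show (1 : G) ∈ ((T : Subgroup G) : Set G) from one_mem _),
      ← Nat.card_coe_set_eq]
    refine Nat.card_congr
      { toFun := fun x => ⟨(x.1 : G), hinvT _ x.1.2 (by
            rw [← Subgroup.coe_pow, ← Subgroup.coe_one N]
            refine congrArg _ ?_
            have h' := pow_orderOf_eq_one x.1
            rwa [x.2] at h'),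
          fun h => by
            have h' := x.2
            rw [show x.1 = 1 from Subtype.ext h, orderOf_one] at h'
            omega⟩
        invFun := fun x => ⟨⟨x.1, hTN x.2.1⟩, by
          rw [Subgroup.orderOf_mk]
          exact orderOf_eq_prime (pow_eq_one_of_mem hord Nat.prime_two T.isPGroup' x.2.1) x.2.2⟩
        left_inv := fun x => rfl
        right_inv := fun x => rfl }
  have hpfN : (Nat.card N).primeFactors = {2, r, s} := by
    refine Finset.Subset.antisymm (hpf ▸ Nat.primeFactors_mono (Subgroup.card_subgroup_dvd_card N) Nat.card_pos.ne') ?_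
    have h2N : 2 ∣ Nat.card N := by
      refine dvd_trans ?_ (Subgroup.card_dvd_of_le hTN)
      have h2G : 2 ∈ (Nat.card G).primeFactors := by rw [hpf]; simp
      exact T.dvd_card_of_dvd_card (Nat.dvd_of_mem_primeFactors h2G)
    intro p hp
    simp only [Finset.mem_insert, Finset.mem_singleton] at hp
    rw [Nat.mem_primeFactors_of_ne_zero Nat.card_pos.ne']
    rcases hp with rfl | rfl | rfl
    exacts [⟨Nat.prime_two, h2N⟩, ⟨Fact.out, hdr⟩, ⟨Fact.out, hds⟩]
  obtain ⟨R⟩ : Nonempty (Sylow r N) := inferInstance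
  obtain ⟨S⟩ : Nonempty (Sylow s N) := inferInstance
  obtain ⟨hR, hR1⟩ := key r hr2 hrr hdr R
  obtain ⟨hS, hS1⟩ := key s hs2 hsr hds S
  have hcards := card_eq_three_primes hr2 hs2 hrs hpfN (T.subtype hTN) R S
  have hTc : Nat.card (T.subtype hTN : Subgroup N) = Nat.card (T : Subgroup G) :=
    Nat.card_congr (subgroupOfEquivOfLe hTN).toEquiv
  rw [hTc] at hcards
  have hr : r.Prime := Fact.out
  have hs : s.Prime := Fact.out
  have hsum := card_eq_sum_of_fibres (fun x : N => orderOf x) {1, 2, r, s} (orderOf_cases hordN fun p hp hpd => by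
    have : p ∈ (Nat.card N).primeFactors := Nat.mem_primeFactors.mpr ⟨hp, hpd, Nat.card_pos.ne'⟩
    rw [hpfN] at this
    simpa using this)
  rw [Finset.sum_insert (by simp [hr.ne_one.symm, hs.ne_one.symm]),
    Finset.sum_insert (by simp [Ne.symm hr2, Ne.symm hs2]), Finset.sum_insert (by simp [hrs]),
    Finset.sum_singleton] at hsum
  rw [h2, hR, hS] at hsum
  have h1c : Nat.card {x : N // orderOf x = 1} = 1 := by
    rw [Nat.card_congr (Equiv.subtypeEquivRight (q := fun x : N => x = 1) fun x => orderOf_eq_one_iff)]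
    simp
  rw [h1c] at hsum
  have hRi := (R : Subgroup N).card_mul_index
  have hSi := (S : Subgroup N).card_mul_index
  set q := Nat.card (T : Subgroup G)
  set A := Nat.card (R : Subgroup N)
  set B := Nat.card (S : Subgroup N)
  have hq : 0 < q := Nat.card_pos
  have hRi' : (R : Subgroup N).index = q * B :=
    Nat.eq_of_mul_eq_mul_left (show 0 < A by omega) (by rw [hRi, hcards]; ring)
  have hSi' : (S : Subgroup N).index = q * A :=
    Nat.eq_of_mul_eq_mul_left (show 0 < B by omega) (by rw [hSi, hcards]; ring)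
  rw [hRi', hSi'] at hsum
  obtain ⟨a, ha⟩ : ∃ a, A = a + 2 := ⟨A - 2, by omega⟩
  obtain ⟨b, hb⟩ : ∃ b, B = b + 2 := ⟨B - 2, by omega⟩
  rw [ha, hb] at hsum hcards
  simp only [Nat.add_succ_sub_one] at hsum
  rw [hcards, show 1 + (q - 1 + (q * (b + 2) * (a + 1) + q * (a + 2) * (b + 1))) =
    q + (q * (b + 2) * (a + 1) + q * (a + 2) * (b + 1)) by omega] at hsum
  nlinarith

theorem card_pairs [Finite G] (k d : ℕ)
    (h : ∀ g : G, orderOf g = k → Nat.card {i : G // orderOf i = 2 ∧ orderOf (i * g) = 2} = d) :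
    Nat.card {p : {i : G // orderOf i = 2} × {i : G // orderOf i = 2} // orderOf (p.1.1 * p.2.1) = k} =
      Nat.card {g : G // orderOf g = k} * d := by
  refine card_eq_mul_of_fibres (fun p => ⟨p.1.1.1 * p.1.2.1, p.2⟩) d ?_
  rintro ⟨g, hg⟩
  rw [← h g hg]
  refine Nat.card_congr
    { toFun := fun p => ⟨p.1.1.1.1, p.1.1.1.2, ?_⟩
      invFun := fun i => ⟨⟨(⟨i.1, i.2.1⟩, ⟨i.1 * g, i.2.2⟩), ?_⟩, ?_⟩
      left_inv := ?_
      right_inv := fun i => rfl }
  · have e0 : p.1.1.1.1 * p.1.1.2.1 = g := congrArg Subtype.val p.2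
    refine (congrArg orderOf ?_).trans p.1.1.2.2
    calc p.1.1.1.1 * g = p.1.1.1.1 * (p.1.1.1.1 * p.1.1.2.1) := congrArg _ e0.symm
      _ = p.1.1.2.1 := by rw [← mul_assoc, sq_of_orderOf_two hord p.1.1.1.2, one_mul]
  · show orderOf (i.1 * (i.1 * g)) = k
    rw [← mul_assoc, sq_of_orderOf_two hord i.2.1, one_mul, hg]
  · refine Subtype.ext ?_
    show i.1 * (i.1 * g) = g
    rw [← mul_assoc, sq_of_orderOf_two hord i.2.1, one_mul]
  · rintro ⟨⟨⟨⟨u, hu⟩, ⟨v, hv⟩⟩, huv⟩, huvg⟩
    have h1 : u * v = g := congrArg Subtype.val huvg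
    refine Subtype.ext (Subtype.ext (Prod.ext rfl (Subtype.ext ?_)))
    show u * g = v
    rw [← h1, ← mul_assoc, sq_of_orderOf_two hord hu, one_mul]

theorem card_pairs_two [Finite G] {g : G} (hg : orderOf g = 2) (T : Sylow 2 G) :
    Nat.card {i : G // orderOf i = 2 ∧ orderOf (i * g) = 2} = Nat.card (T : Subgroup G) - 2 := by
  obtain ⟨Z, hgZ⟩ := exists_sylow_mem hord hg
  have hg1 : g ≠ 1 := fun h => by rw [h, orderOf_one] at hg; omega
  rw [Nat.card_congr (T.equiv Z).toEquiv]
  have h1 : ((Z : Subgroup G) : Set G).ncard = Nat.card (Z : Subgroup G) := (Nat.card_coe_set_eq _).symm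
  have h2 : (((Z : Subgroup G) : Set G) \ {1, g}).ncard = Nat.card (Z : Subgroup G) - 2 := by
    rw [Set.ncard_sdiff (Set.insert_subset (one_mem _) (Set.singleton_subset_iff.mpr hgZ)), h1,
      Set.ncard_pair hg1.symm]
  rw [← h2, ← Nat.card_coe_set_eq]
  refine Nat.card_congr (Equiv.subtypeEquivRight fun i => ?_)
  simp only [Set.mem_sdiff, Set.mem_insert_iff, Set.mem_singleton_iff, not_or, SetLike.mem_coe]
  constructor
  · rintro ⟨hi, hig⟩
    refine ⟨?_, fun h => by rw [h, orderOf_one] at hi; omega, fun h => ?_⟩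
    · rw [← centralizer_involution hord Z hgZ hg1, mem_centralizer_singleton_iff]
      have h3 := inv_eq_of_mul_eq_one_left (sq_of_orderOf_two hord hig)
      rw [mul_inv_rev, inv_eq_of_mul_eq_one_left (sq_of_orderOf_two hord hi),
        inv_eq_of_mul_eq_one_left (sq_of_orderOf_two hord hg)] at h3
      exact h3.symm
    · rw [h, sq_of_orderOf_two hord hg, orderOf_one] at hig; omega
  · rintro ⟨hiZ, hi1, hig⟩
    refine ⟨orderOf_eq_prime (pow_eq_one_of_mem hord Nat.prime_two Z.isPGroup' hiZ) hi1,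
      orderOf_eq_prime (pow_eq_one_of_mem hord Nat.prime_two Z.isPGroup' (mul_mem hiZ hgZ)) fun h => ?_⟩
    exact hig ((eq_inv_of_mul_eq_one_left h).trans (inv_eq_of_mul_eq_one_left (sq_of_orderOf_two hord hg)))

open Classical in
/-- The equation obtained by counting products of two involutions. -/
theorem count_equation [Finite G] {T₁ T₂ : Sylow 2 G} (hne : T₁ ≠ T₂) {r s : ℕ} [Fact r.Prime] [Fact s.Prime]
    (hr2 : r ≠ 2) (hs2 : s ≠ 2) (hrs : r ≠ s) (hpf : (Nat.card G).primeFactors = {2, r, s})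
    (T : Sylow 2 G) (R : Sylow r G) (S : Sylow s G) :
    2 * (Nat.card (R : Subgroup G) * Nat.card (S : Subgroup G)) + 2 = 2 * Nat.card (T : Subgroup G) +
      (if IsReal G r then Nat.card (T : Subgroup G) * (Nat.card (R : Subgroup G) - 1) else 0) +
      (if IsReal G s then Nat.card (T : Subgroup G) * (Nat.card (S : Subgroup G) - 1) else 0) := by
  have hr : r.Prime := Fact.out
  have hs : s.Prime := Fact.out
  have hcard := card_eq_three_primes hr2 hs2 hrs hpf T R S
  have h2dvd : 2 ∣ Nat.card (T : Subgroup G) := T.dvd_card_of_dvd_card (Nat.dvd_of_mem_primeFactors (by rw [hpf]; simp))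
  obtain ⟨⟨t, htT⟩, ht1⟩ : ∃ x : (T : Subgroup G), x ≠ 1 := by
    haveI : Nontrivial (T : Subgroup G) := Finite.one_lt_card_iff_nontrivial.mp (Nat.le_of_dvd Nat.card_pos h2dvd)
    exact exists_ne 1
  have ht1' : t ≠ 1 := fun h => ht1 (Subtype.ext h)
  have hto : orderOf t = 2 := orderOf_eq_prime (pow_eq_one_of_mem hord Nat.prime_two T.isPGroup' htT) ht1'
  have hI : Nat.card {i : G // orderOf i = 2} = (T : Subgroup G).index := by
    have h2 := MulAction.index_stabilizer (ConjAct G) t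
    rw [ConjAct.stabilizer_eq_centralizer] at h2
    have h2' : (centralizer ({t} : Set G)).index = (MulAction.orbit (ConjAct G) t).ncard := h2
    rw [← centralizer_involution hord T htT ht1', h2', ← Nat.card_coe_set_eq]
    refine Nat.card_congr (Equiv.subtypeEquivRight fun i => ?_)
    rw [ConjAct.mem_orbit_conjAct]
    refine ⟨fun hi => (involution_isConj hord hne hto hi).symm, fun h => ?_⟩
    obtain ⟨c, hc⟩ := isConj_iff.mp h.symm
    rw [← hc, ← MulAut.conj_apply, MulEquiv.orderOf_eq, hto]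
  have hIi : Nat.card {i : G // orderOf i = 2} = Nat.card (R : Subgroup G) * Nat.card (S : Subgroup G) := by
    rw [hI]
    exact Nat.eq_of_mul_eq_mul_left Nat.card_pos ((T : Subgroup G).card_mul_index.trans hcard)
  have hsum := card_eq_sum_of_fibres
    (fun p : {i : G // orderOf i = 2} × {i : G // orderOf i = 2} => orderOf (p.1.1 * p.2.1))
    {1, 2, r, s} (fun p => orderOf_cases hord (fun p hp hpd => by
      have : p ∈ (Nat.card G).primeFactors := Nat.mem_primeFactors.mpr ⟨hp, hpd, Nat.card_pos.ne'⟩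
      rw [hpf] at this
      simpa using this) _)
  rw [Finset.sum_insert (by simp [hr.ne_one.symm, hs.ne_one.symm]),
    Finset.sum_insert (by simp [Ne.symm hr2, Ne.symm hs2]), Finset.sum_insert (by simp [hrs]),
    Finset.sum_singleton, Nat.card_prod] at hsum
  have h1 := card_pairs hord 1 (Nat.card {i : G // orderOf i = 2}) fun g hg => by
    rw [orderOf_eq_one_iff.mp hg]; simp
  have h1c : Nat.card {x : G // orderOf x = 1} = 1 := by
    rw [Nat.card_congr (Equiv.subtypeEquivRight (q := fun x : G => x = 1) fun x => orderOf_eq_one_iff)]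
    simp
  rw [h1c, one_mul] at h1
  have h2 := card_pairs hord 2 _ fun g hg => card_pairs_two hord hg T
  have hr' : ∀ (p : ℕ) [Fact p.Prime], p ≠ 2 → ∀ P : Sylow p G,
      2 * Nat.card {x : {i : G // orderOf i = 2} × {i : G // orderOf i = 2} // orderOf (x.1.1 * x.2.1) = p} =
        if IsReal G p then Nat.card G * (Nat.card (P : Subgroup G) - 1) else 0 := by
    intro p _ hp2 P
    have hp : p.Prime := Fact.out
    split_ifs with hreal
    · rw [card_pairs hord p _ fun g hg => card_inverting hord hp2 hreal P hg, ← card_orderOf_real hord hp2 hreal P]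
      ring
    · rw [card_pairs hord p 0 fun g hg => ?_, mul_zero, mul_zero]
      rw [Nat.card_eq_zero]
      refine Or.inl ⟨fun ⟨i, hi, hig⟩ => hreal ⟨g, i, hg, hi, ?_⟩⟩
      have h3 := sq_of_orderOf_two hord hig
      rw [inv_eq_of_mul_eq_one_left (sq_of_orderOf_two hord hi)]
      exact eq_inv_of_mul_eq_one_left (by rw [← h3]; group)
  have hRr := hr' r hr2 R
  have hSs := hr' s hs2 S
  rw [h1, h2, hIi] at hsum
  rw [hcard] at hRr hSs
  generalize Nat.card {x : {i : G // orderOf i = 2} × {i : G // orderOf i = 2} // orderOf (x.1.1 * x.2.1) = r} = Er at hsum hRr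
  generalize Nat.card {x : {i : G // orderOf i = 2} × {i : G // orderOf i = 2} // orderOf (x.1.1 * x.2.1) = s} = Es at hsum hSs
  set q := Nat.card (T : Subgroup G)
  set m := Nat.card (R : Subgroup G) * Nat.card (S : Subgroup G)
  obtain ⟨q', hq'⟩ : ∃ q', q = q' + 2 := ⟨q - 2, by have := Nat.le_of_dvd Nat.card_pos h2dvd; omega⟩
  have hm : 0 < m := Nat.mul_pos Nat.card_pos Nat.card_pos
  rw [hq'] at hsum hRr hSs ⊢
  rw [Nat.add_sub_cancel] at hsum
  refine Nat.eq_of_mul_eq_mul_left hm ?_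
  split_ifs at hRr hSs ⊢ <;> linear_combination 2 * hsum + hRr + hSs

omit hord

theorem both_arith {q a b : ℕ} (hq : 4 ≤ q) (hb : Odd b) (hb3 : 3 ≤ b) (ha : q - 1 ∣ a) (ha0 : 0 < a)
    (heq : 2 * (a * b) + 2 = 2 * q + q * (a - 1) + q * (b - 1)) : a = q - 1 ∧ b = q + 1 := by
  obtain ⟨m, hm⟩ := ha
  obtain ⟨p, rfl⟩ : ∃ p, q = p + 1 := ⟨q - 1, by omega⟩
  rw [Nat.add_sub_cancel] at hm
  obtain ⟨a', rfl⟩ : ∃ a', a = a' + 1 := ⟨a - 1, by omega⟩
  obtain ⟨b', rfl⟩ : ∃ b', b = b' + 1 := ⟨b - 1, by omega⟩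
  rw [Nat.add_sub_cancel, Nat.add_sub_cancel] at heq
  have hdvd : p ∣ b' - 1 := by
    have h1 : (p : ℤ) ∣ ((b' : ℤ) - 1) := by
      refine ⟨2 * (m : ℤ) * (b' + 1) - (p + 1) * m - b' - 1, ?_⟩
      have hm' : (a' : ℤ) + 1 = p * m := by exact_mod_cast hm
      have heq' : (2 : ℤ) * ((a' + 1) * (b' + 1)) + 2 = 2 * (p + 1) + (p + 1) * a' + (p + 1) * b' := by
        exact_mod_cast heq
      linear_combination (-1 : ℤ) * heq' + (2 * ((b' : ℤ) + 1) - (p + 1)) * hm'
    rw [← Int.natCast_dvd_natCast]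
    rwa [Nat.cast_sub (by omega), Nat.cast_one]
  have hb' : b' ≠ 1 := by rintro rfl; exact absurd hb (by decide)
  have h2 := Nat.le_of_dvd (by omega) hdvd
  have h3 : p ≤ a' + 1 := hm ▸ Nat.le_mul_of_pos_right p (Nat.pos_of_ne_zero fun h => by rw [h] at hm; simp at hm)
  have h4 : a' + 1 = p := by
    by_contra hne
    obtain ⟨i, hi⟩ : ∃ i, a' = p + i := ⟨a' - p, by omega⟩
    obtain ⟨k, hk⟩ : ∃ k, b' = p + 1 + k := ⟨b' - (p + 1), by omega⟩
    subst hi hk
    nlinarith [Nat.zero_le (i * k), Nat.zero_le (p * i), Nat.zero_le (p * k), Nat.zero_le i, Nat.zero_le k]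
  refine ⟨by omega, ?_⟩
  subst h4
  nlinarith

theorem two_pow_cases {q r s n j v : ℕ} (hr : r.Prime) (hs : s.Prime) (hq : q = 2 ^ n) (hq4 : 4 ≤ q)
    (hj : q - 1 = r ^ j) (hv : q + 1 = s ^ v) : q = 4 ∨ q = 8 := by
  have h3 : Nat.Prime 3 := Nat.prime_three
  have hsplit : ∀ {p e x : ℕ}, p.Prime → x * (x + 2) = p ^ e → 1 < x → p = 2 ∧ x = 2 := by
    intro p e x hp hx hx1
    obtain ⟨k, hk, hxk⟩ := (Nat.dvd_prime_pow hp).mp (Dvd.intro _ hx)
    obtain ⟨l, hl, hxl⟩ := (Nat.dvd_prime_pow hp).mp (Dvd.intro_left _ hx)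
    have hk1 : 1 ≤ k := by
      rcases Nat.eq_zero_or_pos k with rfl | h
      · simp at hxk; omega
      · exact h
    have hkl : k < l := (Nat.pow_lt_pow_iff_right hp.one_lt).mp (by omega)
    have hd : p ^ k ∣ 2 := by
      have h1 : p ^ k ∣ x + 2 := hxl ▸ pow_dvd_pow p hkl.le
      have h2 : p ^ k ∣ x := hxk ▸ dvd_rfl
      exact (Nat.dvd_add_right h2).mp h1
    have h2 := Nat.le_of_dvd two_pos hd
    have hp2 : p ≤ p ^ k := Nat.le_self_pow (by omega) p
    have := hp.two_le
    omega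
  rcases Nat.even_or_odd n with ⟨m, hm⟩ | hodd
  · left
    subst hm
    obtain ⟨x, hx⟩ : ∃ x, 2 ^ m = x + 1 := ⟨2 ^ m - 1, by have := Nat.one_le_two_pow (n := m); omega⟩
    have h4 : x * (x + 2) = r ^ j := by
      rw [← hj, hq, pow_add, hx]
      exact Nat.eq_sub_of_add_eq (by ring)
    rcases Nat.lt_or_ge 1 x with hx1 | hx1
    · obtain ⟨-, rfl⟩ := hsplit hr h4 hx1
      exfalso
      rcases m with _ | m
      · simp at hx
      · rw [pow_succ] at hx; omega
    · rw [hq, pow_add, hx] at hq4 ⊢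
      interval_cases x
      · omega
      · rfl
  · right
    obtain ⟨m, hm⟩ := hodd
    subst hm
    have h3q : 3 ∣ q + 1 := by
      rw [hq, pow_succ, pow_mul, Nat.dvd_iff_mod_eq_zero, Nat.add_mod, Nat.mul_mod, Nat.pow_mod]
      norm_num
    have hs3 : s = 3 := ((Nat.prime_dvd_prime_iff_eq h3 hs).mp (h3.dvd_of_dvd_pow (hv ▸ h3q))).symm
    subst hs3
    rcases Nat.even_or_odd v with ⟨w, hw⟩ | ⟨w, hw⟩
    · subst hw
      obtain ⟨x, hx⟩ : ∃ x, 3 ^ w = x + 1 := ⟨3 ^ w - 1, by have := Nat.one_le_pow w 3 (by omega); omega⟩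
      have h4 : x * (x + 2) = 2 ^ (2 * m + 1) := by
        rw [← hq]
        rw [pow_add, hx] at hv
        linarith [show (x + 1) * (x + 1) = x * (x + 2) + 1 by ring]
      rcases Nat.lt_or_ge 1 x with hx1 | hx1
      · obtain ⟨-, rfl⟩ := hsplit Nat.prime_two h4 hx1
        rw [hq, ← h4]
      · rw [pow_succ] at h4
        have : 0 < 2 ^ (2 * m) := Nat.pow_pos two_pos
        interval_cases x <;> omega
    · exfalso
      subst hw
      rw [pow_succ, pow_mul] at hv
      have hm1 : 1 ≤ m := by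
        rcases Nat.eq_zero_or_pos m with rfl | h
        · simp at hq; omega
        · exact h
      have h8 : q % 8 = 0 := by
        rw [hq]
        exact Nat.mod_eq_zero_of_dvd ((show 8 = 2 ^ 3 from rfl) ▸ pow_dvd_pow 2 (by omega))
      have h9 : ((3 ^ 2) ^ w * 3) % 8 = 3 := by
        rw [Nat.mul_mod, Nat.pow_mod]; norm_num
      omega

include hord

/-- The configuration of order 504 does not occur. -/
theorem false_of_order_504 [Finite G] {T₁ T₂ : Sylow 2 G} (hne : T₁ ≠ T₂) (T : Sylow 2 G)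
    (hT : Nat.card (T : Subgroup G) = 8) (hG : Nat.card G = 504) (h7 : IsReal G 7) : False := by
  classical
  haveI : Fact (Nat.Prime 7) := ⟨by norm_num⟩
  obtain ⟨⟨t, htT⟩, ht1⟩ : ∃ x : (T : Subgroup G), x ≠ 1 := by
    haveI : Nontrivial (T : Subgroup G) := Finite.one_lt_card_iff_nontrivial.mp (by omega)
    exact exists_ne 1
  have hto : orderOf t = 2 := orderOf_eq_prime (pow_eq_one_of_mem hord Nat.prime_two T.isPGroup' htT)
    fun h => ht1 (Subtype.ext h)
  have hNc : Nat.card (normalizer ((T : Subgroup G) : Set G)) = 56 := by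
    rw [card_normalizer_two hord hne T htT hto, hT]
  have hΩ : Nat.card (Sylow 2 G) = 9 := by
    rw [T.card_eq_index_normalizer]
    have h1 : Nat.card (normalizer ((T : Subgroup G) : Set G)) * (normalizer ((T : Subgroup G) : Set G)).index = 504 :=
      (Subgroup.card_mul_index _).trans hG
    rw [hNc] at h1
    have h2 : (normalizer ((T : Subgroup G) : Set G)).index = (normalizer (T : Set G)).index := rfl
    omega
  obtain ⟨⟨k, hkN⟩, hko⟩ := exists_prime_orderOf_dvd_card' 7 (show 7 ∣ Nat.card (normalizer ((T : Subgroup G) : Set G)) by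
    rw [hNc]; norm_num)
  rw [Subgroup.orderOf_mk] at hko
  have hfix : ∀ g : G, g ^ 2 = 1 → ∀ S : Sylow 2 G, g • S = S → g ∈ (S : Subgroup G) := by
    intro g hg S hgS
    have hgN : g ∈ normalizer ((S : Subgroup G) : Set G) := Sylow.smul_eq_iff_mem_normalizer.mp hgS
    have hp : IsPGroup 2 ((S : Subgroup G) ⊔ zpowers g : Subgroup G) := by
      refine IsPGroup.to_sup_of_normal_left' S.isPGroup' ?_ (zpowers_le.mpr hgN)
      rintro ⟨x, hx⟩
      obtain ⟨i, rfl⟩ := mem_zpowers_iff.mp hx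
      refine ⟨1, Subtype.ext ?_⟩
      show (g ^ i) ^ (2 ^ 1) = 1
      rw [pow_one, ← zpow_natCast, ← zpow_mul, mul_comm, zpow_mul, zpow_natCast, hg, one_zpow]
    exact (S.is_maximal' hp le_sup_left) ▸ (le_sup_right : zpowers g ≤ _) (mem_zpowers g)
  have hTsmul : ∀ u ∈ (T : Subgroup G), u • T = T := fun u hu =>
    Sylow.smul_eq_iff_mem_normalizer.mpr ((le_normalizer : (T : Subgroup G) ≤ _) hu)
  have hregular : ∀ u ∈ (T : Subgroup G), ∀ S : Sylow 2 G, S ≠ T → u • S = S → u = 1 := by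
    intro u hu S hS huS
    by_contra hu1
    exact hS (sylow_two_eq hord (hfix u (pow_eq_one_of_mem hord Nat.prime_two T.isPGroup' hu) S huS) hu hu1)
  have hkT : k • T = T := Sylow.smul_eq_iff_mem_normalizer.mpr hkN
  have hP : IsPGroup 7 (zpowers k) := IsPGroup.of_card (n := 1) (by rw [Nat.card_zpowers, hko, pow_one])
  obtain ⟨T₀, hT₀, hT₀T⟩ : ∃ T₀ : Sylow 2 G, k • T₀ = T₀ ∧ T₀ ≠ T := by
    by_contra hh
    push Not at hh
    have h1 := hP.card_modEq_card_fixedPoints (Sylow 2 G)
    have h2 : MulAction.fixedPoints (zpowers k) (Sylow 2 G) = {T} := by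
      refine Set.eq_singleton_iff_unique_mem.mpr ⟨?_, fun S hS => hh S (hS ⟨k, mem_zpowers k⟩)⟩
      rintro ⟨x, hx⟩
      exact Sylow.smul_eq_iff_mem_normalizer.mpr ((zpowers_le.mpr hkN) hx)
    rw [h2, hΩ] at h1
    simp [Nat.ModEq] at h1
  let φ : ↥(T : Subgroup G) → Sylow 2 G := fun u => (u : G) • T₀
  have hφinj : Function.Injective φ := by
    intro u v huv
    have h1 := hregular ((v : G)⁻¹ * u) (mul_mem (inv_mem v.2) u.2) T₀ hT₀T (by
      rw [mul_smul, show (u : G) • T₀ = (v : G) • T₀ from huv, inv_smul_smul])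
    exact Subtype.ext (inv_mul_eq_one.mp h1).symm
  have hφT : ∀ u, φ u ≠ T := fun u h => hT₀T (by
    have h1 := congrArg (fun S => (u : G)⁻¹ • S) h
    simp only [φ, inv_smul_smul] at h1
    rw [h1]; exact hTsmul _ (inv_mem u.2))
  have hφsurj : ∀ S : Sylow 2 G, S ≠ T → ∃ u, φ u = S := by
    intro S hS
    have h1 : Set.range φ = {S : Sylow 2 G | S ≠ T} := by
      refine Set.eq_of_subset_of_ncard_le ?_ ?_ (Set.toFinite _)
      · rintro _ ⟨u, rfl⟩; exact hφT u
      · rw [← Nat.card_coe_set_eq (Set.range φ), Nat.card_range_of_injective hφinj, hT]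
        rw [show {S : Sylow 2 G | S ≠ T} = {T}ᶜ from rfl, Set.ncard_compl, Set.ncard_singleton, hΩ]
    exact (h1.symm ▸ hS : S ∈ Set.range φ)
  have hconjT : ∀ (g : G), g ∈ normalizer ((T : Subgroup G) : Set G) → ∀ u : (T : Subgroup G),
      g * (u : G) * g⁻¹ ∈ (T : Subgroup G) := fun g hg u => ((mem_normalizer_iff.mp hg) u).mp u.2
  let c : ℕ → ↥(T : Subgroup G) → ↥(T : Subgroup G) := fun i u =>
    ⟨k ^ i * (u : G) * (k ^ i)⁻¹, hconjT _ (pow_mem hkN i) u⟩
  have hTki : ∀ i : ℕ, (k ^ i) • T₀ = T₀ := by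
    intro i
    induction i with
    | zero => rw [pow_zero, one_smul]
    | succ i ih => rw [pow_succ, mul_smul, hT₀, ih]
  have hkφ : ∀ (i : ℕ) u, (k ^ i) • φ u = φ (c i u) := by
    intro i u
    show (k ^ i) • (u : G) • T₀ = (k ^ i * (u : G) * (k ^ i)⁻¹) • T₀
    rw [mul_smul, mul_smul, inv_smul_eq_iff.mpr (hTki i).symm]
  have hkfix : ∀ S : Sylow 2 G, k • S = S → S = T ∨ S = T₀ := by
    intro S hS
    by_cases hST : S = T
    · exact Or.inl hST
    right
    obtain ⟨u, rfl⟩ := hφsurj S hST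
    have h1 : c 1 u = u := hφinj (by rw [← hkφ, pow_one]; exact hS)
    have h2 : k * (u : G) = u * k := by
      have := congrArg Subtype.val h1
      simp only [c, pow_one] at this
      exact mul_inv_eq_iff_eq_mul.mp this
    have h3 : (u : G) ^ 7 = 1 := pow_eq_one_of_commute hord (by norm_num) hko h2
    have h4 := pow_gcd_eq_one.mpr ⟨pow_eq_one_of_mem hord Nat.prime_two T.isPGroup' u.2, h3⟩
    norm_num at h4
    show (u : G) • T₀ = T₀
    rw [h4, Subgroup.coe_one, one_smul]
  -- orbit of a fixed involution under `k`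
  set t1 : (T : Subgroup G) := ⟨t, htT⟩ with ht1d
  have hci : ∀ i : ℕ, c i t1 = t1 → 7 ∣ i := by
    intro i hi
    by_contra h7i
    have h2 : Commute t (k ^ i) := (mul_inv_eq_iff_eq_mul.mp (congrArg Subtype.val hi)).symm
    have h3 := pow_eq_one_of_commute hord Nat.prime_two hto h2
    rw [← pow_mul, ← orderOf_dvd_iff_pow_eq_one, hko] at h3
    exact h7i ((Nat.Coprime.dvd_of_dvd_mul_right (by norm_num) h3))
  have hc_add : ∀ i j u, c (i + j) u = c i (c j u) := fun i j u => Subtype.ext (by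
    simp only [c, pow_add, mul_inv_rev]; simp only [mul_assoc])
  have hc_one : ∀ u, c 7 u = u := fun u => Subtype.ext (by
    simp only [c, show k ^ 7 = 1 from hko ▸ pow_orderOf_eq_one k]; simp)
  have hc0 : ∀ i, c i 1 = 1 := fun i => Subtype.ext (by simp [c])
  have hc7 : ∀ m u, c (7 * m) u = u := by
    intro m u
    induction m with
    | zero => exact Subtype.ext (by simp [c])
    | succ m ih => rw [Nat.mul_succ, hc_add, hc_one, ih]
  have hcinj : ∀ i, Function.Injective (c i) := fun i u v h => Subtype.ext (by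
    have := congrArg Subtype.val h
    simpa [c] using this)
  have horbit : ∀ u : (T : Subgroup G), u ≠ 1 → ∃ i : Fin 7, c i t1 = u := by
    intro u hu
    let e : Fin 7 → {u : (T : Subgroup G) // u ≠ 1} := fun i => ⟨c i t1, fun h => ht1 (hcinj _ (h.trans (hc0 _).symm))⟩
    have hei : Function.Injective e := by
      intro i j hij
      have h1 : c (i : ℕ) t1 = c (j : ℕ) t1 := congrArg Subtype.val hij
      rcases le_total (i : ℕ) (j : ℕ) with hle | hle
      · obtain ⟨d, hd⟩ := Nat.exists_eq_add_of_le hle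
        rw [hd, hc_add] at h1
        have := hci d (hcinj _ h1.symm)
        exact Fin.ext (by omega)
      · obtain ⟨d, hd⟩ := Nat.exists_eq_add_of_le hle
        rw [hd, hc_add] at h1
        have := hci d (hcinj _ h1)
        exact Fin.ext (by omega)
    have hes := (Nat.bijective_iff_injective_and_card e).mpr ⟨hei, by
      rw [Nat.card_fin]
      haveI := Fintype.ofFinite (T : Subgroup G)
      rw [Nat.card_eq_fintype_card, Fintype.card_subtype_compl, Fintype.card_subtype_eq,
        ← Nat.card_eq_fintype_card, hT]⟩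
    obtain ⟨i, hi⟩ := hes.2 ⟨u, hu⟩
    exact ⟨i, congrArg Subtype.val hi⟩
  -- an involution inverting `k`
  have hinv_props : ∀ w : G, orderOf w = 2 → w * k * w⁻¹ = k⁻¹ → w • T = T₀ ∧ w • T₀ = T := by
    intro w hw hwk
    have hww : w * w = 1 := sq_of_orderOf_two hord hw
    have hkw : k * w = w * k⁻¹ := by
      have h1 : w * k⁻¹ * w⁻¹ = k := by
        have h0 := congrArg (·⁻¹) hwk
        simp only [mul_inv_rev, inv_inv] at h0
        rw [← mul_assoc] at h0
        exact h0
      exact (mul_inv_eq_iff_eq_mul.mp h1).symm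
    have hk' : ∀ S : Sylow 2 G, k • S = S → k • (w • S) = w • S := by
      intro S hS
      rw [smul_smul, hkw, mul_smul]
      exact congrArg (w • ·) (inv_smul_eq_iff.mpr hS.symm)
    have hwT : w • T ≠ T := by
      intro h
      have hwT' := hfix w (by rw [sq]; exact hww) T h
      have h3 : w⁻¹ * (k * w * k⁻¹) ∈ (T : Subgroup G) := mul_mem (inv_mem hwT') (hconjT k hkN ⟨w, hwT'⟩)
      have h4 : w⁻¹ * (k * w * k⁻¹) = (k⁻¹) ^ 2 := by rw [hkw, sq]; group
      rw [h4] at h3
      have h5 := pow_eq_one_of_mem hord Nat.prime_two T.isPGroup' h3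
      rw [← pow_mul, ← orderOf_dvd_iff_pow_eq_one, orderOf_inv, hko] at h5
      norm_num at h5
    have hwT₀ : w • T = T₀ := (hkfix _ (hk' T hkT)).resolve_left hwT
    refine ⟨hwT₀, ?_⟩
    rw [← hwT₀, smul_smul, hww, one_smul]
  obtain ⟨w₁, hw₁, hw₁k⟩ := exists_inverting hord (by norm_num) h7 hko
  have hne0 : ∀ w : G, orderOf w = 2 → w * k * w⁻¹ = k⁻¹ → ∀ u : (T : Subgroup G), u ≠ 1 →
      ∃ v : (T : Subgroup G), v ≠ 1 ∧ w • φ u = φ v := by
    intro w hw hwk u hu
    obtain ⟨hwT, hwT₀⟩ := hinv_props w hw hwk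
    have h1 : w • φ u ≠ T := by
      intro h
      rw [← hwT₀] at h
      exact hu (hφinj ((MulAction.injective w h).trans (one_smul G T₀).symm))
    obtain ⟨v, hv⟩ := hφsurj _ h1
    refine ⟨v, fun hv1 => ?_, hv.symm⟩
    rw [hv1] at hv
    have h2 : w • φ u = w • T := by
      rw [hwT, ← hv]
      exact one_smul G T₀
    exact hφT u (MulAction.injective w h2)
  have ht1ne : t1 ≠ 1 := ht1
  obtain ⟨w, hw, hwk, hwt⟩ : ∃ w : G, orderOf w = 2 ∧ w * k * w⁻¹ = k⁻¹ ∧ w • φ t1 = φ t1 := by
    obtain ⟨v, hv1, hv⟩ := hne0 w₁ hw₁ hw₁k t1 ht1ne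
    obtain ⟨d, hd⟩ := horbit v hv1
    set j := 7 - (d : ℕ) with hj
    have hk1 : w₁ * k ^ j * w₁⁻¹ = (k ^ j)⁻¹ := by
      rw [← MulAut.conj_apply, map_pow, MulAut.conj_apply, hw₁k, inv_pow]
    refine ⟨k ^ j * w₁, ?_, ?_, ?_⟩
    · refine orderOf_eq_prime ?_ ?_
      · rw [sq]
        calc k ^ j * w₁ * (k ^ j * w₁) = k ^ j * (w₁ * k ^ j * w₁⁻¹) * (w₁ * w₁) := by group
          _ = 1 := by rw [hk1, sq_of_orderOf_two hord hw₁]; group
      · intro h
        have h1 : w₁ = (k ^ j)⁻¹ := eq_inv_of_mul_eq_one_right h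
        have h2 : w₁ ^ 7 = 1 := by
          rw [h1, inv_pow, ← pow_mul, mul_comm, pow_mul, show k ^ 7 = 1 from hko ▸ pow_orderOf_eq_one k, one_pow, inv_one]
        rw [← orderOf_dvd_iff_pow_eq_one, hw₁] at h2
        norm_num at h2
    · calc k ^ j * w₁ * k * (k ^ j * w₁)⁻¹
          = k ^ j * (w₁ * k * w₁⁻¹) * (k ^ j)⁻¹ := by group
        _ = k⁻¹ := by rw [hw₁k]; group
    · rw [mul_smul, hv, hkφ, ← hd, ← hc_add, show j + (d : ℕ) = 7 by omega, hc_one]
  obtain ⟨hwT, hwT₀⟩ := hinv_props w hw hwk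
  have hww : w * w = 1 := sq_of_orderOf_two hord hw
  choose σ hσ1 hσ using fun u : {u : (T : Subgroup G) // u ≠ 1} => hne0 w hw hwk u.1 u.2
  have hσσ : ∀ u : {u : (T : Subgroup G) // u ≠ 1}, σ ⟨σ u, hσ1 u⟩ = u.1 := fun u => hφinj (by
    rw [← hσ, ← hσ, smul_smul, hww, one_smul])
  have hσfix : ∀ u : {u : (T : Subgroup G) // u ≠ 1}, σ u = u.1 → u.1 = t1 := by
    intro u hu
    obtain ⟨i, hi⟩ := horbit u.1 u.2
    have h1 : w • φ u.1 = φ u.1 := by rw [hσ, hu]
    rw [← hi, ← hkφ, smul_smul] at h1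
    have hwki : w * k ^ (i : ℕ) = (k ^ (i : ℕ))⁻¹ * w := by
      have h2 : w * k ^ (i : ℕ) * w⁻¹ = (k ^ (i : ℕ))⁻¹ := by
        rw [← MulAut.conj_apply, map_pow, MulAut.conj_apply, hwk, inv_pow]
      exact mul_inv_eq_iff_eq_mul.mp h2
    rw [hwki, mul_smul, hwt, inv_smul_eq_iff, smul_smul, ← pow_add, hkφ] at h1
    have h3 := hci _ (hφinj h1).symm
    have h4 : (i : ℕ) = 0 := by omega
    rw [← hi, h4]
    exact Subtype.ext (by simp [c])
  haveI := Fintype.ofFinite (T : Subgroup G)
  set U : Finset (T : Subgroup G) := Finset.univ \ {1, t1} with hU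
  have hUc : U.card = 6 := by
    rw [hU, Finset.card_sdiff_of_subset (Finset.subset_univ _), Finset.card_univ, Finset.card_pair ht1ne.symm,
      ← Nat.card_eq_fintype_card, hT]
  let f : ↥(T : Subgroup G) → ↥(T : Subgroup G) := fun u => if h : u ≠ 1 then u * σ ⟨u, h⟩ else 1
  obtain ⟨c0, hc0U, hc0f⟩ : ∃ c0 ∈ U, c0 ∉ U.image f := by
    refine Finset.exists_mem_notMem_of_card_lt_card ?_
    have h1 : 2 * (U.image f).card ≤ U.card := by
      refine Finset.mul_card_image_le_card _ 2 fun b hb => ?_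
      obtain ⟨u, hu, rfl⟩ := Finset.mem_image.mp hb
      have hu' : u ≠ 1 ∧ u ≠ t1 := by simpa [hU] using hu
      have hne' : σ ⟨u, hu'.1⟩ ≠ u := fun h => hu'.2 (hσfix ⟨u, hu'.1⟩ h)
      refine le_trans (le_of_eq (Finset.card_pair hne').symm) (Finset.card_le_card ?_)
      intro z hz
      simp only [Finset.mem_insert, Finset.mem_singleton] at hz
      rw [Finset.mem_filter]
      rcases hz with rfl | rfl
      · have hv1 := hσ1 ⟨u, hu'.1⟩
        refine ⟨?_, ?_⟩
        · simp only [hU, Finset.mem_sdiff, Finset.mem_univ, true_and, Finset.mem_insert, Finset.mem_singleton,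
            not_or]
          refine ⟨hv1, fun h => hu'.2 ?_⟩
          have h5 := hσσ ⟨u, hu'.1⟩
          have h6 : σ ⟨t1, ht1ne⟩ = t1 := hφinj (by rw [← hσ]; exact hwt)
          have h7 : (⟨σ ⟨u, hu'.1⟩, hv1⟩ : {u : (T : Subgroup G) // u ≠ 1}) = ⟨t1, ht1ne⟩ := Subtype.ext h
          rw [h7, h6] at h5
          exact h5.symm
        · simp only [f, dif_pos hv1, dif_pos hu'.1]
          rw [hσσ ⟨u, hu'.1⟩]
          exact Subtype.ext (sylow_two_comm hord T (σ ⟨u, hu'.1⟩).2 u.2)
      · exact ⟨hu, rfl⟩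
    omega
  have hc0' : c0 ≠ 1 ∧ c0 ≠ t1 := by simpa [hU] using hc0U
  set g := (c0 : G) * w with hg
  have hφ1 : φ 1 = T₀ := one_smul G T₀
  have hgT₀ : g • T₀ = T := by rw [hg, mul_smul, hwT₀, hTsmul _ c0.2]
  have hgT : g • T = φ c0 := by rw [hg, mul_smul, hwT]
  have hg1 : g ≠ 1 := fun h => hT₀T (by rwa [h, one_smul] at hgT₀)
  have hg2 : g ^ 2 ≠ 1 := fun h => by
    have h1 : (g ^ 2) • T₀ = T₀ := by rw [h, one_smul]
    rw [sq, mul_smul, hgT₀, hgT, ← hφ1] at h1
    exact hc0'.1 (hφinj h1)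
  have hg3 : g ^ 3 ≠ 1 := fun h => by
    have h1 : (g ^ 3) • T₀ = T₀ := by rw [h, one_smul]
    rw [pow_succ, sq, mul_smul, mul_smul, hgT₀, hgT] at h1
    have h2 : g • φ c0 = φ (c0 * σ ⟨c0, hc0'.1⟩) := by
      rw [hg, mul_smul, hσ ⟨c0, hc0'.1⟩]
      exact (mul_smul _ _ _).symm
    rw [h2, ← hφ1] at h1
    have h3 := hφinj h1
    have h4 : σ ⟨c0, hc0'.1⟩ = c0 := by
      rw [eq_inv_of_mul_eq_one_right h3]
      exact Subtype.ext (inv_eq_of_mul_eq_one_left (by
        rw [← sq]; exact pow_eq_one_of_mem hord Nat.prime_two T.isPGroup' c0.2))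
    exact hc0'.2 (hσfix ⟨c0, hc0'.1⟩ h4)
  have hord7 : orderOf g = 7 := by
    have hp := hord g hg1
    have hdvd : orderOf g ∣ 504 := hG ▸ orderOf_dvd_natCard g
    have h' : orderOf g ∣ 2 ^ 3 * 3 ^ 2 * 7 := hdvd
    rcases hp.dvd_mul.mp h' with h | h
    · rcases hp.dvd_mul.mp h with h | h
      · exact absurd (orderOf_dvd_iff_pow_eq_one.mp (hp.dvd_of_dvd_pow h)) hg2
      · exact absurd (orderOf_dvd_iff_pow_eq_one.mp (hp.dvd_of_dvd_pow h)) hg3
    · exact (Nat.prime_dvd_prime_iff_eq hp (by norm_num)).mp h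
  have hPg : IsPGroup 7 (zpowers g) := IsPGroup.of_card (n := 1) (by rw [Nat.card_zpowers, hord7, pow_one])
  obtain ⟨S, hS⟩ := hPg.nonempty_fixed_point_of_prime_not_dvd_card (Sylow 2 G) (by rw [hΩ]; norm_num)
  have hgS : g • S = S := hS ⟨g, mem_zpowers g⟩
  by_cases hST : S = T
  · rw [hST, hgT] at hgS; exact hφT _ hgS
  obtain ⟨u, rfl⟩ := hφsurj S hST
  by_cases hu1 : u = 1
  · rw [hu1, hφ1, hgT₀] at hgS; exact hT₀T hgS.symm
  have h1 : g • φ u = φ (c0 * σ ⟨u, hu1⟩) := by
    rw [hg, mul_smul, hσ ⟨u, hu1⟩]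
    exact (mul_smul _ _ _).symm
  rw [h1] at hgS
  have h2 := hφinj hgS
  by_cases hut : u = t1
  · subst hut
    have h6 : σ ⟨t1, hu1⟩ = t1 := hφinj (by rw [← hσ]; exact hwt)
    rw [h6] at h2
    exact hc0'.1 (mul_eq_right.mp h2)
  · refine hc0f (Finset.mem_image.mpr ⟨u, by simp [hU, hu1, hut], ?_⟩)
    simp only [f, dif_pos hu1, ne_eq, not_false_eq_true]
    have h3 : σ ⟨u, hu1⟩ * σ ⟨u, hu1⟩ = 1 := Subtype.ext (by
      rw [Subgroup.coe_mul, ← sq]; exact pow_eq_one_of_mem hord Nat.prime_two T.isPGroup' (σ ⟨u, hu1⟩).2)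
    calc u * σ ⟨u, hu1⟩ = c0 * σ ⟨u, hu1⟩ * σ ⟨u, hu1⟩ := by rw [h2]
      _ = c0 := by rw [mul_assoc, h3, mul_one]

/-- A non-solvable group of even order with three prime divisors, all whose non-identity elements
have prime order, is the alternating group of degree five. -/
theorem iso_A5_of_prime_orders [Finite G] (hns : ¬ Group.IsSolvable G) (heven : 2 ∣ Nat.card G)
    (h3 : (Nat.card G).primeFactors.card = 3) : Nonempty (G ≃* alternatingGroup (Fin 5)) := by
  classical
  haveI : Fact (Nat.Prime 2) := ⟨Nat.prime_two⟩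
  have h2mem : 2 ∈ (Nat.card G).primeFactors := Nat.mem_primeFactors.mpr ⟨Nat.prime_two, heven, Nat.card_pos.ne'⟩
  obtain ⟨r, s, hrs, hers⟩ : ∃ r s, r ≠ s ∧ (Nat.card G).primeFactors.erase 2 = {r, s} := by
    refine Finset.card_eq_two.mp ?_
    rw [Finset.card_erase_of_mem h2mem, h3]
  have hmem : ∀ p, p ∈ (Nat.card G).primeFactors.erase 2 → p ≠ 2 ∧ p.Prime := fun p hp =>
    ⟨(Finset.mem_erase.mp hp).1, Nat.prime_of_mem_primeFactors (Finset.mem_erase.mp hp).2⟩
  obtain ⟨hr2, hr⟩ := hmem r (by rw [hers]; simp)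
  obtain ⟨hs2, hs⟩ := hmem s (by rw [hers]; simp)
  haveI := Fact.mk hr
  haveI := Fact.mk hs
  have hpf : (Nat.card G).primeFactors = {2, r, s} := by
    rw [← Finset.insert_erase h2mem, hers]
  obtain ⟨T⟩ : Nonempty (Sylow 2 G) := inferInstance
  obtain ⟨R⟩ : Nonempty (Sylow r G) := inferInstance
  obtain ⟨S⟩ : Nonempty (Sylow s G) := inferInstance
  have hcard := card_eq_three_primes hr2 hs2 hrs hpf T R S
  have hrdvd : r ∣ Nat.card G := Nat.dvd_of_mem_primeFactors (by rw [hpf]; simp)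
  have hsdvd : s ∣ Nat.card G := Nat.dvd_of_mem_primeFactors (by rw [hpf]; simp)
  obtain ⟨n, hn⟩ := IsPGroup.iff_card.mp T.isPGroup'
  obtain ⟨i, hi⟩ := IsPGroup.iff_card.mp R.isPGroup'
  obtain ⟨l, hl⟩ := IsPGroup.iff_card.mp S.isPGroup'
  -- `T` is not normal
  obtain ⟨T', hne⟩ : ∃ T' : Sylow 2 G, T' ≠ T := by
    by_contra hh
    push Not at hh
    haveI : Subsingleton (Sylow 2 G) := ⟨fun a b => (hh a).trans (hh b).symm⟩
    have hTn : (T : Subgroup G).Normal := T.normal_of_subsingleton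
    haveI : Group.IsNilpotent (T : Subgroup G) := T.isPGroup'.isNilpotent
    have hq : Nat.card (G ⧸ (T : Subgroup G)) = r ^ i * s ^ l := by
      have h1 := Subgroup.card_eq_card_quotient_mul_card_subgroup (T : Subgroup G)
      rw [hcard, mul_comm] at h1
      exact (Nat.eq_of_mul_eq_mul_right Nat.card_pos h1).symm.trans (by rw [hi, hl])
    haveI := CharInduced.solvable_of_card_two_primes r s i l hr hs hq
    exact hns (Group.isSolvable_of_ker_le_range (T : Subgroup G).subtype (QuotientGroup.mk' (T : Subgroup G))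
      (by simp))
  have hT2 : 2 ∣ Nat.card (T : Subgroup G) := T.dvd_card_of_dvd_card heven
  obtain ⟨⟨t, htT⟩, ht1⟩ : ∃ x : (T : Subgroup G), x ≠ 1 := by
    haveI : Nontrivial (T : Subgroup G) := Finite.one_lt_card_iff_nontrivial.mp (Nat.le_of_dvd Nat.card_pos hT2)
    exact exists_ne 1
  have hto : orderOf t = 2 := orderOf_eq_prime (pow_eq_one_of_mem hord Nat.prime_two T.isPGroup' htT)
    fun h => ht1 (Subtype.ext h)
  have hN := card_normalizer_two hord hne T htT hto
  have heq := count_equation hord hne hr2 hs2 hrs hpf T R S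
  have hqdvd : Nat.card (T : Subgroup G) - 1 ∣ Nat.card (R : Subgroup G) * Nat.card (S : Subgroup G) := by
    have h1 := Subgroup.card_subgroup_dvd_card (normalizer ((T : Subgroup G) : Set G))
    rw [hN, hcard] at h1
    exact Nat.dvd_of_mul_dvd_mul_left Nat.card_pos h1
  have hR3 : 3 ≤ Nat.card (R : Subgroup G) := le_trans
    (by have := hr.two_le; omega) (Nat.le_of_dvd Nat.card_pos (R.dvd_card_of_dvd_card hrdvd))
  have hS3 : 3 ≤ Nat.card (S : Subgroup G) := le_trans
    (by have := hs.two_le; omega) (Nat.le_of_dvd Nat.card_pos (S.dvd_card_of_dvd_card hsdvd))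
  -- one real prime is impossible
  have one_real : ∀ a b : ℕ, 3 ≤ a → 3 ≤ b → Nat.card (T : Subgroup G) - 1 ∣ a * b →
      2 * (a * b) + 2 = 2 * Nat.card (T : Subgroup G) + Nat.card (T : Subgroup G) * (a - 1) → False := by
    intro a b ha hb hd he
    obtain ⟨q', hq'⟩ : ∃ q', Nat.card (T : Subgroup G) = q' + 2 :=
      ⟨Nat.card (T : Subgroup G) - 2, by have := Nat.le_of_dvd Nat.card_pos hT2; omega⟩
    rw [hq'] at hd he
    obtain ⟨a', rfl⟩ : ∃ a', a = a' + 1 := ⟨a - 1, by omega⟩
    rw [Nat.add_sub_cancel] at he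
    -- `a ∣ q'`
    have he' : 2 * ((a' + 1) * b) = (q' + 2) * (a' + 1) + q' := by linear_combination he
    have hdq : a' + 1 ∣ q' :=
      (Nat.dvd_add_right (dvd_mul_left _ _)).mp (he' ▸ dvd_mul_of_dvd_right (dvd_mul_right _ _) 2)
    rcases Nat.eq_zero_or_pos q' with rfl | hq0
    · nlinarith
    have hale := Nat.le_of_dvd hq0 hdq
    have hco : (q' + 1).Coprime (a' + 1) := by
      obtain ⟨c, hc⟩ := hdq
      rw [hc, Nat.coprime_comm, Nat.add_comm ((a' + 1) * c) 1]
      exact (Nat.coprime_add_mul_left_right _ 1 c).mpr (Nat.coprime_one_right _)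
    have hb' : q' + 1 ≤ b := Nat.le_of_dvd (by omega) (hco.dvd_of_dvd_mul_left (show q' + 1 ∣ (a' + 1) * b from hd))
    nlinarith
  by_cases hrr : IsReal G r <;> by_cases hsr : IsReal G s
  rotate_left
  · rw [if_pos hrr, if_neg hsr, add_zero] at heq
    exact (one_real _ _ hR3 hS3 hqdvd heq).elim
  · rw [if_neg hrr, if_pos hsr, add_zero, mul_comm (Nat.card (R : Subgroup G))] at heq
    exact (one_real _ _ hS3 hR3 (mul_comm (Nat.card (R : Subgroup G)) _ ▸ hqdvd) heq).elim
  · rw [if_neg hrr, if_neg hsr, add_zero, add_zero] at heq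
    have h1 : Nat.card (normalizer ((T : Subgroup G) : Set G)) = Nat.card G := by
      rw [hN, hcard]; congr 1; omega
    have h2 : normalizer ((T : Subgroup G) : Set G) = ⊤ := Subgroup.eq_top_of_card_eq _ h1
    exact (hne (Sylow.smul_eq_iff_mem_normalizer.mpr (h2 ▸ mem_top (Classical.choose (MulAction.exists_smul_eq G T T')))
      ▸ (Classical.choose_spec (MulAction.exists_smul_eq G T T')).symm)).elim
  rw [if_pos hrr, if_pos hsr] at heq
  -- both primes real
  have hq4 : 4 ≤ Nat.card (T : Subgroup G) := by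
    rcases n with _ | _ | n
    · rw [hn] at hT2; omega
    · rw [hn] at heq
      norm_num at heq
      obtain ⟨a', ha'⟩ : ∃ a', Nat.card (R : Subgroup G) = a' + 3 := ⟨Nat.card (R : Subgroup G) - 3, by omega⟩
      obtain ⟨b', hb'⟩ : ∃ b', Nat.card (S : Subgroup G) = b' + 3 := ⟨Nat.card (S : Subgroup G) - 3, by omega⟩
      rw [ha', hb'] at heq
      norm_num at heq
      nlinarith
    · rw [hn]
      calc 4 = 2 ^ 2 := rfl
        _ ≤ _ := Nat.pow_le_pow_right two_pos (by omega)
  have main : ∀ (r s : ℕ) [Fact r.Prime] [Fact s.Prime] (R : Sylow r G) (S : Sylow s G) (i l : ℕ), r ≠ 2 → s ≠ 2 →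
      r ≠ s → (Nat.card G).primeFactors = {2, r, s} → IsReal G r → IsReal G s →
      Nat.card (R : Subgroup G) = r ^ i → Nat.card (S : Subgroup G) = s ^ l → 3 ≤ Nat.card (S : Subgroup G) →
      r ∣ Nat.card (T : Subgroup G) - 1 →
      (Nat.card (T : Subgroup G) = 4 ∧ Nat.card G = 60) := by
    intro r s _ _ R S i l hr2 hs2 hrs hpf hrr hsr hi hl hS3 hrq
    have hr : r.Prime := Fact.out
    have hs : s.Prime := Fact.out
    have hcard := card_eq_three_primes hr2 hs2 hrs hpf T R S
    have heq := count_equation hord hne hr2 hs2 hrs hpf T R S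
    rw [if_pos hrr, if_pos hsr] at heq
    have hqd : Nat.card (T : Subgroup G) - 1 ∣ Nat.card (normalizer ((T : Subgroup G) : Set G)) :=
      hN ▸ dvd_mul_left _ _
    have hsq : ¬ s ∣ Nat.card (T : Subgroup G) - 1 := fun h =>
      not_both_dvd_normalizer hord hne hr2 hs2 hrs hpf hrr hsr T (hrq.trans hqd) (h.trans hqd)
    have hqa : Nat.card (T : Subgroup G) - 1 ∣ Nat.card (R : Subgroup G) := by
      refine Nat.Coprime.dvd_of_dvd_mul_right ?_ (show _ ∣ Nat.card (R : Subgroup G) * Nat.card (S : Subgroup G) from ?_)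
      · rw [hl]; exact ((hs.coprime_iff_not_dvd.mpr hsq).symm).pow_right l
      · have h1 := Subgroup.card_subgroup_dvd_card (normalizer ((T : Subgroup G) : Set G))
        rw [hN, hcard] at h1
        exact Nat.dvd_of_mul_dvd_mul_left Nat.card_pos h1
    have hodd : Odd (Nat.card (S : Subgroup G)) := by rw [hl]; exact (hs.odd_of_ne_two hs2).pow
    obtain ⟨ha, hb⟩ := both_arith hq4 hodd hS3 hqa Nat.card_pos heq
    rcases two_pow_cases hr hs hn hq4 (j := i) (v := l) (by rw [← ha, hi]) (by rw [← hb, hl]) with h | h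
    · exact ⟨h, by rw [hcard, ha, hb, h]⟩
    · exfalso
      have h7 : r = 7 := by
        have h1 : r ^ i = 7 := by rw [← hi, ha, h]
        rw [h] at hrq
        exact (Nat.prime_dvd_prime_iff_eq hr (by norm_num)).mp hrq
      exact false_of_order_504 hord hne T h (by rw [hcard, ha, hb, h]) (h7 ▸ hrr)
  obtain ⟨p, hp, hpd⟩ := Nat.exists_prime_and_dvd (show Nat.card (T : Subgroup G) - 1 ≠ 1 by omega)
  have hres : Nat.card (T : Subgroup G) = 4 ∧ Nat.card G = 60 := by
    rcases (hp.dvd_mul.mp (hpd.trans hqdvd)) with h | h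
    · have : p = r := (Nat.prime_dvd_prime_iff_eq hp hr).mp (hp.dvd_of_dvd_pow (hi ▸ h))
      exact main r s R S i l hr2 hs2 hrs hpf hrr hsr hi hl hS3 (this ▸ hpd)
    · have : p = s := (Nat.prime_dvd_prime_iff_eq hp hs).mp (hp.dvd_of_dvd_pow (hl ▸ h))
      exact main s r S R l i hs2 hr2 hrs.symm (by rw [hpf, Finset.pair_comm]) hsr hrr hl hi hR3 (this ▸ hpd)
  refine DicksonSmall.iso_A5 hres.2 fun x hx hxn => ?_
  have hpx := hord x hx
  rcases eq_or_ne (orderOf x) 2 with h2 | h2
  · -- an involution generating a normal subgroup is central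
    have hc : ∀ g : G, g * x = x * g := by
      intro g
      obtain ⟨j, hj⟩ := mem_zpowers_iff.mp (hxn.conj_mem x (mem_zpowers x) g)
      rcases Int.even_or_odd j with ⟨m, hm⟩ | ⟨m, hm⟩
      · exfalso
        rw [hm, ← two_mul, zpow_mul, show x ^ (2 : ℤ) = 1 by
          rw [show (2 : ℤ) = ((2 : ℕ) : ℤ) from rfl, zpow_natCast, sq, sq_of_orderOf_two hord h2], one_zpow] at hj
        have h9 : g * x * g⁻¹ = 1 := hj.symm
        rw [mul_inv_eq_one, mul_eq_left] at h9
        exact hx h9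
      · rw [hm, zpow_add, zpow_mul, show x ^ (2 : ℤ) = 1 by
          rw [show (2 : ℤ) = ((2 : ℕ) : ℤ) from rfl, zpow_natCast, sq, sq_of_orderOf_two hord h2], one_zpow,
          one_mul, zpow_one] at hj
        exact (mul_inv_eq_iff_eq_mul.mp hj.symm)
    obtain ⟨Z, hZ⟩ := exists_sylow_mem hord h2
    have h9 : (⊤ : Subgroup G) ≤ Z := by
      rw [← centralizer_involution hord Z hZ hx]
      exact fun g _ => mem_centralizer_singleton_iff.mpr (hc g)
    have h10 := Subgroup.card_le_of_le h9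
    have h11 := Nat.card_congr (Z.equiv T).toEquiv
    rw [Subgroup.card_top, hres.2] at h10
    omega
  · haveI := Fact.mk hpx
    have hxreal : IsReal G (orderOf x) := by
      have : orderOf x ∈ (Nat.card G).primeFactors :=
        Nat.mem_primeFactors.mpr ⟨hpx, orderOf_dvd_natCard x, Nat.card_pos.ne'⟩
      rw [hpf] at this
      simp only [Finset.mem_insert, Finset.mem_singleton] at this
      rcases this with h | h | h
      exacts [absurd h h2, h ▸ hrr, h ▸ hsr]
    obtain ⟨u, hu, hinv⟩ := exists_inverting hord h2 hxreal rfl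
    obtain ⟨Q, hQ⟩ := sylow_of_real hord h2 rfl hu hinv
    have hxQ : x ∈ (Q : Subgroup G) := hQ ▸ mem_centralizer_singleton_iff.mpr rfl
    have h1 := card_normalizer_real hord h2 hxreal Q rfl hxQ
    have h2' : normalizer ((Q : Subgroup G) : Set G) = ⊤ := by
      rw [eq_top_iff]
      intro g _
      refine Sylow.smul_eq_iff_mem_normalizer.mp (Sylow.ext ?_)
      have hmem : g * x * g⁻¹ ∈ ((g • Q : Sylow (orderOf x) G) : Subgroup G) := ⟨x, hxQ, rfl⟩
      have hmem' : g * x * g⁻¹ ∈ (Q : Subgroup G) := (zpowers_le.mpr hxQ) (hxn.conj_mem x (mem_zpowers x) g)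
      have ho : orderOf (g * x * g⁻¹) = orderOf x := by rw [← MulAut.conj_apply, MulEquiv.orderOf_eq]
      exact (sylow_eq_centralizer hord h2 hxreal ho _ hmem).trans (sylow_eq_centralizer hord h2 hxreal ho Q hmem').symm
    rw [h2', Subgroup.card_top, hres.2] at h1
    have h3 : Nat.card (Q : Subgroup G) = 30 := by omega
    obtain ⟨e, he⟩ := IsPGroup.iff_card.mp Q.isPGroup'
    rw [h3] at he
    have h12 : (30 : ℕ).primeFactors = (orderOf x ^ e).primeFactors := by rw [← he]
    rcases e with _ | e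
    · simp at he
    rw [Nat.primeFactors_prime_pow (by omega) hpx] at h12
    have h13 : 2 ∈ (30 : ℕ).primeFactors := Nat.mem_primeFactors.mpr ⟨Nat.prime_two, by norm_num, by norm_num⟩
    rw [h12, Finset.mem_singleton] at h13
    exact h2 h13.symm

end Cfsg.Agent.PrimeOrderGroups
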