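import Cfsg.Agent.Lib.A8ThreeLocalCentT45
import Cfsg.Agent.Lib.PrimeOrderGroups

/-!
The image of `Alt(8)` is the whole group.
-/

set_option autoImplicit false

namespace Cfsg.Agent.A8ThreeLocal45

open Equiv Equiv.Perm

set_option maxRecDepth 100000

variable {G : Type*} [Group G] [Finite G] {f : S8 → G} {D : Subgroup G}

theorem even_invol {l : S8} (hl : sign l = 1) (h2 : l * l = 1) (h1 : l ≠ 1) :
    ∃ g : S8, sign g = 1 ∧ (g * v1 * g⁻¹ = l ∨ g * tau * g⁻¹ = l) := by
  haveI : Fact (Nat.Prime 2) := ⟨Nat.prime_two⟩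
  have hord : ∀ x : S8, x * x = 1 → x ≠ 1 → (orderOf x).Prime := fun x hx hx1 => by
    rw [orderOf_eq_prime (by rw [pow_two, hx]) hx1]; exact Nat.prime_two
  have hct : ∀ x : S8, x * x = 1 → x ≠ 1 →
      ∃ n : ℕ, x.cycleType = Multiset.replicate (n + 1) 2 ∧ x.support.card = 2 * (n + 1) := by
    intro x hx hx1
    obtain ⟨n, hn⟩ := cycleType_prime_order (hord x hx hx1)
    rw [orderOf_eq_prime (p := 2) (by rw [pow_two, hx]) hx1] at hn
    refine ⟨n, hn, ?_⟩
    rw [← sum_cycleType, hn, Multiset.sum_replicate, smul_eq_mul, mul_comm]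
  obtain ⟨n, hn, hs⟩ := hct l h2 h1
  have hev : (n + 1) % 2 = 0 := by
    have := sign_of_cycleType l
    rw [hl, hn, Multiset.sum_replicate, Multiset.card_replicate, smul_eq_mul] at this
    by_contra hc
    rw [Odd.neg_one_pow (Nat.odd_iff.2 (by omega))] at this
    exact absurd this (by decide)
  have h8 : 2 * (n + 1) ≤ 8 := hs ▸ (Finset.card_le_univ _).trans (by simp)
  have key : ∀ m : S8, m * m = 1 → m ≠ 1 → m.support.card = 2 * (n + 1) →
      ∃ g : S8, g * m * g⁻¹ = l := by
    intro m hm hm1 hms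
    obtain ⟨k, hk, hks⟩ := hct m hm hm1
    have : k = n := by omega
    subst this
    exact isConj_iff.1 (isConj_iff_cycleType_eq.2 (hk.trans hn.symm))
  have fix : ∀ (m o : S8), sign o = -1 → o * m * o⁻¹ = m → ∀ g, g * m * g⁻¹ = l →
      ∃ g : S8, sign g = 1 ∧ g * m * g⁻¹ = l := by
    intro m o ho hom g hg
    rcases Int.units_eq_one_or (sign g) with e | e
    · exact ⟨g, e, hg⟩
    · refine ⟨g * o, by rw [_root_.map_mul, e, ho]; rfl, ?_⟩
      rw [← hg]
      calc g * o * m * (g * o)⁻¹ = g * (o * m * o⁻¹) * g⁻¹ := by group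
        _ = _ := by rw [hom]
  rcases (by omega : n = 1 ∨ n = 3) with rfl | rfl
  · obtain ⟨g, hg⟩ := key v1 (by decide +kernel) (by decide +kernel) (by decide +kernel)
    obtain ⟨g', sg, hg'⟩ := fix v1 (swap 3 4) (by decide +kernel) (by decide +kernel) g hg
    exact ⟨g', sg, Or.inl hg'⟩
  · obtain ⟨g, hg⟩ := key tau (by decide +kernel) (by decide +kernel) (by decide +kernel)
    obtain ⟨g', sg, hg'⟩ := fix tau (swap 6 7) (by decide +kernel) (by decide +kernel) g hg
    exact ⟨g', sg, Or.inr hg'⟩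

namespace Full

variable (h : Full f D)
include h

/-- centralisers of involutions of the image are inside the image -/
theorem cent_invol {c : G} (hc : c ∈ h.rng) (h2 : c * c = 1) (h1 : c ≠ 1) {x : G}
    (hx : x * c = c * x) : x ∈ h.rng := by
  obtain ⟨l, hl, rfl⟩ := hc
  have hll : l * l = 1 := h.inj _ (by rw [_root_.map_mul, hl, one_mul])
    (by rw [h.mul _ _ hl hl, h2])
  obtain ⟨g, sg, hg⟩ := even_invol hl hll (fun e => h1 (by rw [e, h.map_one]))
  have key : ∀ m : S8, sign m = 1 → g * m * g⁻¹ = l →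
      (∀ y, y * f m = f m * y → y ∈ h.rng) → x ∈ h.rng := by
    intro m hm e hm'
    rw [← e, h.conj sg hm] at hx
    have := hm' ((f g)⁻¹ * x * f g) (by
      calc (f g)⁻¹ * x * f g * f m = (f g)⁻¹ * (x * (f g * f m * (f g)⁻¹)) * f g := by group
        _ = _ := by rw [hx]; group)
    simpa [mul_assoc] using mul_mem (mul_mem (h.mem_rng sg) this) (inv_mem (h.mem_rng sg))
  rcases hg with e | e
  · exact key v1 v1_mem.1 e fun y hy => h.cent_v1 hy
  · exact key tau sign_tau e fun y hy => h.card_cent_tau.2 (mem_cent_singleton.2 hy)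

theorem rng_top : h.rng = ⊤ := by
  classical
  haveI : Fact (Nat.Prime 2) := ⟨Nat.prime_two⟩
  haveI : Fact (Nat.Prime 3) := ⟨Nat.prime_three⟩
  rw [Subgroup.eq_top_iff']
  by_cases hall : ∀ x : G, x * x = 1 → x ∈ h.rng
  · intro g
    set N := Subgroup.closure {x : G | x * x = 1}
    have hN : N.Normal := ⟨fun n hn k => by
      induction hn using Subgroup.closure_induction with
      | mem x hx =>
        refine Subgroup.subset_closure ?_
        show k * x * k⁻¹ * (k * x * k⁻¹) = 1
        rw [show k * x * k⁻¹ * (k * x * k⁻¹) = k * (x * x) * k⁻¹ by group, hx]; group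
      | one => simp
      | mul x y _ _ hx hy =>
        rw [show k * (x * y) * k⁻¹ = k * x * k⁻¹ * (k * y * k⁻¹) by group]; exact mul_mem hx hy
      | inv x _ hx =>
        rw [show k * x⁻¹ * k⁻¹ = (k * x * k⁻¹)⁻¹ by group]; exact inv_mem hx⟩
    have hNle : N ≤ h.rng := (Subgroup.closure_le _).2 hall
    haveI := hN
    haveI : (N.comap h.hom).Normal := hN.comap _
    haveI : IsSimpleGroup (alternatingGroup (Fin 8)) := alternatingGroup.isSimpleGroup (by simp)
    have hmem : (⟨v1, v1_mem.1⟩ : alternatingGroup (Fin 8)) ∈ N.comap h.hom :=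
      Subgroup.subset_closure (h.sq_eq v1_mem.1 (by decide +kernel))
    have htop : N.comap h.hom = ⊤ := by
      rcases (inferInstance : (N.comap h.hom).Normal).eq_bot_or_eq_top with e | e
      · rw [e, Subgroup.mem_bot] at hmem
        exact absurd (congrArg Subtype.val hmem) (show v1 ≠ (1 : S8) by decide +kernel)
      · exact e
    have hrN : h.rng ≤ N := by
      rintro _ ⟨x, hx, rfl⟩
      exact (htop ▸ Subgroup.mem_top _ : (⟨x, hx⟩ : alternatingGroup (Fin 8)) ∈ N.comap h.hom)
    have hD : ∀ d ∈ D, d ∈ h.rng := by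
      intro d hd
      obtain ⟨i, j, rfl⟩ := (h.memD d).1 hd
      exact h.mem_rng ((d0_mem i j).1)
    have hDg : ∀ d ∈ D, g * d * g⁻¹ ∈ h.rng := fun d hd =>
      hNle (hN.conj_mem d (hrN (hD d hd)) g)
    -- Sylow's theorem inside the image
    set D1 := D.subgroupOf h.rng
    set D2 := (D.map (MulAut.conj g).toMonoidHom).subgroupOf h.rng
    have hmapD : D.map (MulAut.conj g).toMonoidHom ≤ h.rng := by
      rintro _ ⟨d, hd, rfl⟩; exact hDg d hd
    have hc1 : Nat.card D1 = 3 ^ 2 := by
      rw [Nat.card_congr (Subgroup.subgroupOfEquivOfLe (show D ≤ h.rng from hD)).toEquiv, h.cardD]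
      norm_num
    have hc2 : Nat.card D2 = 3 ^ 2 := by
      rw [Nat.card_congr (Subgroup.subgroupOfEquivOfLe hmapD).toEquiv,
        ← Nat.card_congr (D.equivMapOfInjective _ (MulAut.conj g).injective).toEquiv, h.cardD]
      norm_num
    have hmax : ∀ R : Subgroup h.rng, IsPGroup 3 R → Nat.card R ≤ 9 := by
      intro R hR
      obtain ⟨c, hc⟩ := h.sylow (R.map h.rng.subtype) (hR.map _)
      calc Nat.card R = Nat.card ((R.map h.rng.subtype).map (MulAut.conj c).toMonoidHom) := by
            rw [← Nat.card_congr ((R.map h.rng.subtype).equivMapOfInjective _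
              (MulAut.conj c).injective).toEquiv,
              ← Nat.card_congr (R.equivMapOfInjective _ h.rng.subtype_injective).toEquiv]
        _ ≤ Nat.card D := Subgroup.card_le_of_le (by
            rintro _ ⟨x, hx, rfl⟩; exact hc x hx)
        _ = 9 := h.cardD
    obtain ⟨P1, hP1⟩ := (IsPGroup.of_card hc1 : IsPGroup 3 D1).exists_le_sylow
    obtain ⟨P2, hP2⟩ := (IsPGroup.of_card hc2 : IsPGroup 3 D2).exists_le_sylow
    have e1 : D1 = (P1 : Subgroup h.rng) :=
      Subgroup.eq_of_le_of_card_ge hP1 (by rw [hc1]; exact hmax _ P1.isPGroup')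
    obtain ⟨c, hc⟩ := MulAction.exists_smul_eq h.rng P2 P1
    have hn : (c : G) * g ∈ Subgroup.normalizer (D : Set G) := by
      refine Subgroup.mem_normalizer_fintype fun d hd => ?_
      have hd2 : (⟨g * d * g⁻¹, hDg d hd⟩ : h.rng) ∈ (P2 : Subgroup h.rng) :=
        hP2 ⟨d, hd, rfl⟩
      have hd1 : c * (⟨g * d * g⁻¹, hDg d hd⟩ : h.rng) * c⁻¹ ∈ D1 := by
        rw [e1, ← hc, Sylow.coe_subgroup_smul, Subgroup.mem_pointwise_smul_iff_inv_smul_mem]
        simpa [MulAut.smul_def, mul_assoc] using hd2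
      have : (c : G) * (g * d * g⁻¹) * (c : G)⁻¹ ∈ D := hd1
      simpa [mul_assoc] using this
    obtain ⟨x, hx, e⟩ := h.norm_D _ hn
    have := mul_mem (inv_mem c.2) (h.mem_rng hx)
    rw [e] at this
    simpa using this
  · exfalso
    push_neg at hall
    obtain ⟨x, hx, hxn⟩ := hall
    have hx1 : x ≠ 1 := fun e => hxn (e ▸ one_mem _)
    have key : ∀ m : S8, sign m = 1 → m * m = 1 → m ≠ 1 → ¬ IsConj x (f m) → False := by
      intro m hm hm2 hm1 hnc
      have hi2 := h.sq_eq hm hm2
      have hodd : ¬ Odd (orderOf (x * f m)) := fun ho =>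
        hnc (PrimeOrderGroups.isConj_of_odd_mul hx hi2 ho)
      obtain ⟨k, hk⟩ := Nat.not_odd_iff_even.1 hodd
      set w := x * f m
      have hk0 : 0 < k := by
        have := orderOf_pos w
        omega
      set c := w ^ k
      have hc2 : c * c = 1 := by rw [← pow_add, ← hk, pow_orderOf_eq_one]
      have hc1 : c ≠ 1 := fun e => by
        have := Nat.le_of_dvd hk0 (orderOf_dvd_of_pow_eq_one e)
        omega
      have hcinv : c⁻¹ = c := inv_eq_of_mul_eq_one_right hc2
      have hconj : ∀ a : G, a * a = 1 → a * w * a⁻¹ = w⁻¹ → a * c = c * a := by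
        intro a _ e
        have : a * c * a⁻¹ = c := by
          rw [← conj_pow, e, inv_pow]; exact hcinv
        exact mul_inv_eq_iff_eq_mul.1 this
      have hwinv : w⁻¹ = f m * x := by
        show (x * f m)⁻¹ = _
        rw [mul_inv_rev, inv_eq_of_mul_eq_one_right hi2, inv_eq_of_mul_eq_one_right hx]
      have hix : x * c = c * x := by
        refine hconj x hx ?_
        rw [hwinv, inv_eq_of_mul_eq_one_right hx]
        show x * (x * f m) * x = _
        rw [← mul_assoc, hx, one_mul]
      have him : f m * c = c * f m := by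
        refine hconj (f m) hi2 ?_
        rw [hwinv, inv_eq_of_mul_eq_one_right hi2]
        show f m * (x * f m) * f m = _
        rw [mul_assoc, mul_assoc x, hi2, mul_one]
      have hcR : c ∈ h.rng :=
        h.cent_invol (h.mem_rng hm) hi2 (h.ne_one hm hm1) him.symm
      exact hxn (h.cent_invol hcR hc2 hc1 hix)
    by_cases hxt : IsConj x (f v1)
    · refine key tau sign_tau (by decide +kernel) (by decide +kernel) fun hxu => ?_
      obtain ⟨c, hc⟩ := isConj_iff.1 (hxt.symm.trans hxu)
      exact h.v1_tau hc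
    · exact key v1 v1_mem.1 (by decide +kernel) (by decide +kernel) hxt

theorem iso : Nonempty (G ≃* alternatingGroup (Fin 8)) := by
  refine ⟨(MulEquiv.ofBijective h.hom ⟨h.hom_injective, fun g => ?_⟩).symm⟩
  obtain ⟨x, hx, rfl⟩ : g ∈ h.rng := h.rng_top ▸ Subgroup.mem_top g
  exact ⟨⟨x, hx⟩, rfl⟩

end Full

end Cfsg.Agent.A8ThreeLocal45
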