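import Mathlib

/-!
Interface for the degree nine three-local recognition (S3339), alternating branch.
Blocks `{0,1,2}`, `{3,4,5}`, `{6,7,8}`. Pieces: `pc 0..2` = even permutations fixing a block
setwise, `pc 3` = even permutations preserving the block partition.
-/

set_option autoImplicit false

namespace Cfsg.Agent.A9Base59

open Equiv

abbrev P9 := Equiv.Perm (Fin 9)

/-- The block of a point. -/
def bk (i : Fin 9) : Fin 3 := ⟨i.val / 3, by omega⟩

theorem forall_of_perm {p : P9} {Q : Fin 9 → Prop} (h : ∀ i, Q (p i)) (i : Fin 9) : Q i := by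
  simpa using h (p.symm i)

/-- Even permutations preserving the block partition. -/
def H9 : Subgroup P9 where
  carrier := {p | Perm.sign p = 1 ∧ ∀ i j, bk i = bk j ↔ bk (p i) = bk (p j)}
  one_mem' := by simp
  mul_mem' := by
    rintro p q ⟨hp, hp'⟩ ⟨hq, hq'⟩
    exact ⟨by simp [hp, hq], fun i j => (hq' i j).trans (hp' (q i) (q j))⟩
  inv_mem' := by
    rintro p ⟨hp, hp'⟩
    exact ⟨by simp [hp], fun i j => by simpa using (hp' (p⁻¹ i) (p⁻¹ j)).symm⟩

/-- Even permutations fixing the block `k` setwise. -/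
def N9 (k : Fin 3) : Subgroup P9 where
  carrier := {p | Perm.sign p = 1 ∧ ∀ i, bk i = k ↔ bk (p i) = k}
  one_mem' := by simp
  mul_mem' := by
    rintro p q ⟨hp, hp'⟩ ⟨hq, hq'⟩
    exact ⟨by simp [hp, hq], fun i => (hq' i).trans (hp' (q i))⟩
  inv_mem' := by
    rintro p ⟨hp, hp'⟩
    exact ⟨by simp [hp], fun i => by simpa using (hp' (p⁻¹ i)).symm⟩

instance : DecidablePred (· ∈ H9) := fun p =>
  decidable_of_iff (Perm.sign p = 1 ∧ ∀ i j, bk i = bk j ↔ bk (p i) = bk (p j)) Iff.rfl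

instance (k : Fin 3) : DecidablePred (· ∈ N9 k) := fun p =>
  decidable_of_iff (Perm.sign p = 1 ∧ ∀ i, bk i = k ↔ bk (p i) = k) Iff.rfl

/-- The three-cycle of the block `k`. -/
def e : Fin 3 → P9 :=
  ![swap 0 1 * swap 1 2, swap 3 4 * swap 4 5, swap 6 7 * swap 7 8]

theorem e_mem : ∀ k, e k ∈ H9 := by decide +kernel

theorem e_mem_N : ∀ k l, e k ∈ N9 l := by decide +kernel

/-- The element `e k` of `H9`. -/
def E (k : Fin 3) : H9 := ⟨e k, e_mem k⟩

/-- double involution `(45)(78)` -/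
def v : P9 := swap 4 5 * swap 7 8
/-- double involution `(36)(45)` -/
def d : P9 := swap 3 6 * swap 4 5
/-- quadruple involution `(03)(14)(25)(67)` -/
def q : P9 := swap 0 3 * swap 1 4 * swap 2 5 * swap 6 7

theorem v_mem : v ∈ H9 := by decide +kernel
theorem d_mem : d ∈ N9 0 := by decide +kernel
theorem q_mem : q ∈ H9 := by decide +kernel

variable {G : Type*} [Group G]

/-- The local facts shared by both branches. -/
structure Loc (J : Subgroup G) (φ : H9 →* G) : Prop where
  inj : Function.Injective φ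
  range_eq : φ.range = Subgroup.normalizer (J : Set G)
  base : J = Subgroup.closure {φ (E 0), φ (E 1), φ (E 2)}
  cJ : Subgroup.centralizer (J : Set G) = J
  sylow : ¬ 3 ^ 5 ∣ Nat.card G
  cw : Subgroup.centralizer ({φ (E 0 * E 1)} : Set G) ≤ Subgroup.normalizer (J : Set G)
  cx : Subgroup.centralizer ({φ (E 0 * E 1 * E 2)} : Set G) ≤ Subgroup.normalizer (J : Set G)

/-- The alternating branch: the normalisers of the three weight one cycles. -/
structure Branch (φ : H9 →* G) (ι : ∀ k : Fin 3, N9 k →* G) : Prop where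
  inj : ∀ k, Function.Injective (ι k)
  ext : ∀ k (p : P9) (h : p ∈ H9) (h' : p ∈ N9 k), ι k ⟨p, h'⟩ = φ ⟨p, h⟩
  cent : ∀ k, Subgroup.centralizer ({φ (E k)} : Set G) ≤ (ι k).range

/-- A copy of the alternating group of degree nine extending the pieces. -/
structure Nine (φ : H9 →* G) (ι : ∀ k : Fin 3, N9 k →* G)
    (ψ : alternatingGroup (Fin 9) →* G) : Prop where
  inj : Function.Injective ψ
  ext : ∀ (p : alternatingGroup (Fin 9)) (h : (p : P9) ∈ H9), ψ p = φ ⟨(p : P9), h⟩
  extN : ∀ k (p : alternatingGroup (Fin 9)) (h : (p : P9) ∈ N9 k), ψ p = ι k ⟨(p : P9), h⟩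
  four : ∀ g : G, g * φ ⟨v, v_mem⟩ = φ ⟨v, v_mem⟩ * g → g * ι 0 ⟨d, d_mem⟩ = ι 0 ⟨d, d_mem⟩ * g →
    g ∈ ψ.range

end Cfsg.Agent.A9Base59
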