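import Cfsg.Agent.Lib.A9Fusion59

/-! The bridge relations between the three linking involutions (S3339). -/

set_option autoImplicit false

namespace Cfsg.Agent.A9Base59

open Equiv

theorem tp_mem' : tp ∈ N9 0 := tp_facts.1

/-- The quadruple involutions of the centraliser of `⟨v, d⟩`. -/
def qd (j : Fin 3) : P9 := (e 0) ^ j.val * (v * tp) * ((e 0) ^ j.val)⁻¹

theorem qd_mem (j : Fin 3) : qd j ∈ N9 0 :=
  mul_mem (mul_mem (pow_mem (e_mem_N 0 0) _) (mul_mem (v_memN 0) tp_mem'))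
    (inv_mem (pow_mem (e_mem_N 0 0) _))

theorem qd_rel : ∀ i j k : Fin 3, i ≠ j → i ≠ k → j ≠ k → qd i * qd j * qd i = qd k := by
  decide +kernel

theorem perm3_aux : ∀ a b c : Fin 3, (a ≠ b ∧ a ≠ c ∧ b ≠ c) →
    (e 0 ⟨a.val, by omega⟩ = ⟨b.val, by omega⟩ ∧ e 0 ⟨b.val, by omega⟩ = ⟨c.val, by omega⟩ ∧
      e 0 ⟨c.val, by omega⟩ = ⟨a.val, by omega⟩) ∨
    (e 0 ⟨a.val, by omega⟩ = ⟨c.val, by omega⟩ ∧ e 0 ⟨b.val, by omega⟩ = ⟨a.val, by omega⟩ ∧
      e 0 ⟨c.val, by omega⟩ = ⟨b.val, by omega⟩) := by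
  decide +kernel

theorem bk_zero : ∀ a : Fin 9, bk a = 0 → a.val < 3 := by decide

theorem perm3 (a b c : Fin 9) (ha : bk a = 0) (hb : bk b = 0) (hc : bk c = 0) (h1 : a ≠ b)
    (h2 : a ≠ c) (h3 : b ≠ c) :
    (e 0 a = b ∧ e 0 b = c ∧ e 0 c = a) ∨ (e 0 a = c ∧ e 0 b = a ∧ e 0 c = b) :=
  perm3_aux ⟨a.val, bk_zero a ha⟩ ⟨b.val, bk_zero b hb⟩ ⟨c.val, bk_zero c hc⟩
    ⟨fun h => h1 (Fin.ext (congrArg Fin.val h :)), fun h => h2 (Fin.ext (congrArg Fin.val h :)),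
      fun h => h3 (Fin.ext (congrArg Fin.val h :))⟩

theorem e0_fix : ∀ i : Fin 9, bk i ≠ 0 → e 0 i = i ∧ (e 0)⁻¹ i = i := by decide +kernel

/-- An element of `N9 0` centralises or inverts `e 0`. -/
theorem e0_dicho {p : P9} (hp : p ∈ N9 0) :
    p * e 0 = e 0 * p ∨ p * e 0 = (e 0)⁻¹ * p := by
  have hb : ∀ i, bk i = 0 → bk (p i) = 0 := fun i hi => (hp.2 i).1 hi
  have hn : ∀ i, bk i ≠ 0 → bk (p i) ≠ 0 := fun i hi h => hi ((hp.2 i).2 h)
  rcases perm3 (p 0) (p 1) (p 2) (hb 0 (by decide)) (hb 1 (by decide)) (hb 2 (by decide))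
    (p.injective.ne (by decide)) (p.injective.ne (by decide)) (p.injective.ne (by decide)) with
    ⟨h0, h1, h2⟩ | ⟨h0, h1, h2⟩
  · refine Or.inl (Equiv.ext fun i => ?_)
    rw [Perm.mul_apply, Perm.mul_apply]
    by_cases hi : bk i = 0
    · rcases (by revert hi; revert i; decide : i = 0 ∨ i = 1 ∨ i = 2) with rfl | rfl | rfl
      · rw [h0, show e 0 (0 : Fin 9) = 1 by decide +kernel]
      · rw [h1, show e 0 (1 : Fin 9) = 2 by decide +kernel]
      · rw [h2, show e 0 (2 : Fin 9) = 0 by decide +kernel]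
    · rw [(e0_fix i hi).1, (e0_fix _ (hn i hi)).1]
  · refine Or.inr (Equiv.ext fun i => ?_)
    rw [Perm.mul_apply, Perm.mul_apply, eq_comm, Perm.inv_eq_iff_eq]
    by_cases hi : bk i = 0
    · rcases (by revert hi; revert i; decide : i = 0 ∨ i = 1 ∨ i = 2) with rfl | rfl | rfl
      · rw [show e 0 (0 : Fin 9) = 1 by decide +kernel, h1]
      · rw [show e 0 (1 : Fin 9) = 2 by decide +kernel, h2]
      · rw [show e 0 (2 : Fin 9) = 0 by decide +kernel, h0]
    · rw [(e0_fix i hi).1, (e0_fix _ (hn i hi)).1]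

theorem four_facts : tp * e 0 = (e 0)⁻¹ * tp ∧ e 0 * cc = tp * e 0 ∧ e 0 * zz = d * tp * e 0 ∧
    e 0 * (v * zz) = v * d * tp * e 0 ∧ e 0 * (cc * v) = v * tp * e 0 ∧
    ∀ k : Fin 3, ∃ j : Fin 3, ∀ w ∈ odd', (e 0) ^ k.val * w * tp =
      (e 0) ^ j.val * (w * tp) * ((e 0) ^ j.val)⁻¹ := by
  refine ⟨by decide +kernel, by decide +kernel, by decide +kernel, by decide +kernel,
    by decide +kernel, ?_⟩
  have h : ∀ k : Fin 3, ∃ j : Fin 3,
      (e 0) ^ k.val * (1 : P9) * tp = (e 0) ^ j.val * ((1 : P9) * tp) * ((e 0) ^ j.val)⁻¹ ∧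
      (e 0) ^ k.val * v * tp = (e 0) ^ j.val * (v * tp) * ((e 0) ^ j.val)⁻¹ ∧
      (e 0) ^ k.val * d * tp = (e 0) ^ j.val * (d * tp) * ((e 0) ^ j.val)⁻¹ ∧
      (e 0) ^ k.val * (v * d) * tp = (e 0) ^ j.val * ((v * d) * tp) * ((e 0) ^ j.val)⁻¹ := by
    decide +kernel
  intro k
  obtain ⟨j, h1, h2, h3, h4⟩ := h k
  refine ⟨j, fun w hw => ?_⟩
  simp only [odd', List.mem_cons, List.not_mem_nil, or_false] at hw
  rcases hw with rfl | rfl | rfl | rfl
  exacts [h1, h2, h3, h4]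

theorem model24 {p : P9} (hp : p ∈ N9 0) (hv : p * v = v * p) (hd : p * d = d * p) :
    ∃ k : Fin 3, ∃ w ∈ odd', p = (e 0) ^ k.val * w ∨ p = (e 0) ^ k.val * w * tp := by
  rcases e0_dicho hp with h | h
  · obtain ⟨k, w, hw, e'⟩ := cent_model hp h hv hd
    exact ⟨k, w, hw, Or.inl e'⟩
  · obtain ⟨hm, htv, htd, htt, -⟩ := tp_facts
    obtain ⟨k, w, hw, e'⟩ := cent_model (mul_mem hp hm)
      (by
        calc p * tp * e 0 = p * (tp * e 0) := mul_assoc _ _ _
          _ = p * (e 0)⁻¹ * tp := by rw [four_facts.1, mul_assoc]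
          _ = e 0 * (p * tp) := by
            rw [show p * (e 0)⁻¹ = e 0 * p by
              rw [mul_inv_eq_iff_eq_mul, mul_assoc, h, mul_inv_cancel_left], mul_assoc])
      (Commute.mul_left (show Commute p v from hv) (show Commute tp v from htv)).eq
      (Commute.mul_left (show Commute p d from hd) (show Commute tp d from htd)).eq
    refine ⟨k, w, hw, Or.inr ?_⟩
    rw [← e', mul_assoc, htt, mul_one]

variable {G : Type*} [Group G] {J : Subgroup G} {φ : H9 →* G} {ι : ∀ k : Fin 3, N9 k →* G}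

theorem conjF_N0 (B : Branch φ ι) {x y s : P9} (hx : x ∈ N9 0) (hy : y ∈ N9 0) (hs : s ∈ N9 0)
    (h : s * x = y * s) : F φ ι s * F φ ι x * (F φ ι s)⁻¹ = F φ ι y :=
  F_conj B (okN hs hx) (okN hy hs) h

/-- A quadruple element of the centraliser of `v` and `d` is one of the three `qd`. -/
theorem quad_qd [Finite G] (L : Loc J φ) (B : Branch φ ι) {g : G} (hv : Commute g (F φ ι v))
    (hd : Commute g (F φ ι d)) (hq : Quad φ ι g) : ∃ j, g = F φ ι (qd j) := by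
  obtain ⟨p, hp, hpv, hpd, rfl⟩ := cent_four L B hv hd
  have hsq : p * p = 1 := F_inj_N B (mul_mem hp hp) (one_mem _) (by
    obtain ⟨g, hg⟩ := hq
    rw [F_mul B (okN hp hp), F_one, ← hg,
      show g * F φ ι q * g⁻¹ * (g * F φ ι q * g⁻¹) = g * (F φ ι q * F φ ι q) * g⁻¹ by group,
      ← F_mul B (okN q_memN q_memN), show q * q = 1 by decide +kernel, F_one]
    group)
  obtain ⟨k, w, hw, rfl | rfl⟩ := model24 hp hpv hpd
  · have hk : k = 0 := by
      by_contra hk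
      exact (e0_not_mem k w hw hk).2 (by
        rw [show (4 : ℕ) = 2 * 2 from rfl, pow_mul, pow_two ((e 0) ^ k.val * w), hsq, one_pow])
    subst hk
    simp only [Fin.val_zero, pow_zero, one_mul] at hq ⊢
    simp only [odd', List.mem_cons, List.not_mem_nil, or_false] at hw
    exfalso
    rcases hw with rfl | rfl | rfl | rfl
    · obtain ⟨g, hg⟩ := hq
      rw [F_one, conj_eq_one_iff] at hg
      exact fusion_facts.2.2.2.2.1 (F_inj_N B q_memN (one_mem _) (hg.trans F_one.symm))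
    · exact sep B L (dbl_v B) hq
    · exact sep B L (dbl_six B 0) hq
    · exact sep B L (dbl_six B 1) hq
  · obtain ⟨j, hj⟩ := four_facts.2.2.2.2.2 k
    rw [hj w hw] at hq ⊢
    have hwm : w * tp ∈ N9 0 := mul_mem (odd_mem w hw) tp_mem'
    have hr : (e 0) ^ j.val ∈ N9 0 := pow_mem (e_mem_N 0 0) _
    have hc : F φ ι ((e 0) ^ j.val) * F φ ι (w * tp) * (F φ ι ((e 0) ^ j.val))⁻¹ =
        F φ ι ((e 0) ^ j.val * (w * tp) * ((e 0) ^ j.val)⁻¹) :=
      conjF_N0 B hwm (mul_mem (mul_mem hr hwm) (inv_mem hr)) hr (by group)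
    simp only [odd', List.mem_cons, List.not_mem_nil, or_false] at hw
    rcases hw with rfl | rfl | rfl | rfl
    · exfalso
      have h := ((dbl_cc B).conj (F φ ι (e 0))).conj (F φ ι ((e 0) ^ j.val))
      rw [conjF_N0 B cc_mem tp_mem' (e_mem_N 0 0) four_facts.2.1] at h
      rw [one_mul] at hq hc
      rw [hc] at h
      rw [← one_mul tp] at h
      exact sep B L (by simpa using h) hq
    · exact ⟨j, rfl⟩
    · exfalso
      have h := ((dbl_zz B).conj (F φ ι (e 0))).conj (F φ ι ((e 0) ^ j.val))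
      rw [conjF_N0 B (zz_memN 0) hwm (e_mem_N 0 0) four_facts.2.2.1, hc] at h
      exact sep B L h hq
    · exfalso
      have h := ((dbl_six B 3).conj (F φ ι (e 0))).conj (F φ ι ((e 0) ^ j.val))
      rw [show sixF 3 = v * zz from rfl, conjF_N0 B (mul_mem (v_memN 0) (zz_memN 0)) hwm
        (e_mem_N 0 0) four_facts.2.2.2.1, hc] at h
      exact sep B L h hq

theorem link_ne (B : Branch φ ι) :
    F φ ι aa ≠ F φ ι bb ∧ F φ ι aa ≠ F φ ι cc ∧ F φ ι bb ≠ F φ ι cc := by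
  have key : ∀ {k : Fin 3} {x y : P9}, x ∈ N9 k → y ∈ N9 k → Commute (F φ ι x) (F φ ι y) →
      x * y = y * x := fun hx hy h => F_inj_N B (mul_mem hx hy) (mul_mem hy hx) (by
    rw [F_mul B (okN hx hy), F_mul B (okN hy hx), h.eq])
  have ha : Commute (F φ ι aa) (F φ ι (e 2)) :=
    F_comm B (okN aa_mem (e_mem_N 2 2)) (okN (e_mem_N 2 2) aa_mem)
      comm_facts.2.2.2.2.2.2.2.2.2.2.2.2.2.2.2.2.1.symm
  have hb : Commute (F φ ι bb) (F φ ι (e 1)) :=
    F_comm B (okN bb_mem (e_mem_N 1 1)) (okN (e_mem_N 1 1) bb_mem)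
      comm_facts.2.2.2.2.2.2.2.2.2.2.2.2.2.2.2.2.2.symm
  refine ⟨fun h => (ne_facts 0 0).1 ?_, fun h => (ne_facts 0 0).2.1 ?_,
    fun h => (ne_facts 0 0).2.2 ?_⟩
  · simpa using key bb_mem (e_mem_N 2 1) (h ▸ ha)
  · simpa using key cc_mem (e_mem_N 2 0) (h ▸ ha)
  · simpa using key cc_mem (e_mem_N 1 0) (h ▸ hb)

/-- The two bridge relations. -/
theorem bridge [Finite G] (L : Loc J φ) (B : Branch φ ι) :
    F φ ι aa * F φ ι bb * F φ ι aa = F φ ι cc ∧ F φ ι bb * F φ ι aa * F φ ι bb = F φ ι cc := by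
  obtain ⟨n, hn, hnd⟩ := fusion L B
  obtain ⟨ca, cb, ccv, za, zb, zc, -, -, -, vv, vz, -⟩ := comm_facts
  have main : ∀ {k : Fin 3} {x : P9}, x ∈ N9 k → x * v = v * x → x * zz = zz * x →
      Quad φ ι (F φ ι (x * v)) → ∃ j, n⁻¹ * F φ ι (x * v) * n = F φ ι (qd j) := by
    intro k x hx hxv hxz hq
    have hm : x * v ∈ N9 k := mul_mem hx (v_memN k)
    have c1 : Commute (F φ ι (x * v)) (F φ ι v) :=
      F_comm B (okN hm (v_memN k)) (okN (v_memN k) hm)
        (Commute.mul_left (show Commute x v from hxv) (Commute.refl v)).eq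
    have c2 : Commute (F φ ι (x * v)) (F φ ι zz) :=
      F_comm B (okN hm (zz_memN k)) (okN (zz_memN k) hm)
        (Commute.mul_left (show Commute x zz from hxz) (show Commute v zz from vz)).eq
    have c3 : Commute (F φ ι (x * v)) (n * F φ ι d * n⁻¹) := by
      rcases hnd with h | h <;> rw [h]
      · exact c2
      · rw [F_mul B (okH v_mem zz_mem)]
        exact c1.mul_right c2
    have t1 : Commute (n⁻¹ * F φ ι (x * v) * n) (F φ ι v) :=
      (hn.inv_left.mul_left c1).mul_left hn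
    have t2 : Commute (n⁻¹ * F φ ι (x * v) * n) (F φ ι d) := by
      have h := c3.map (MulAut.conj n⁻¹).toMonoidHom
      simpa [mul_assoc] using h
    exact quad_qd L B t1 t2 (by simpa using hq.conj n⁻¹)
  obtain ⟨i, hi⟩ := main aa_mem ca za (quad_av B)
  obtain ⟨j, hj⟩ := main bb_mem cb zb (quad_bv B)
  obtain ⟨k, hk⟩ := main cc_mem ccv zc (quad_cv B)
  rw [F_mul B (okN aa_mem (v_memN 2))] at hi
  rw [F_mul B (okN bb_mem (v_memN 1))] at hj
  rw [F_mul B (okN cc_mem (v_memN 0))] at hk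
  obtain ⟨n1, n2, n3⟩ := link_ne B
  have hne : ∀ {x y : G} {i j : Fin 3}, n⁻¹ * (x * F φ ι v) * n = F φ ι (qd i) →
      n⁻¹ * (y * F φ ι v) * n = F φ ι (qd j) → x ≠ y → i ≠ j := by
    intro x y i j hx hy hxy hij
    subst hij
    exact hxy (mul_right_cancel (mul_left_cancel (mul_right_cancel (hx.trans hy.symm))))
  have hA : Commute (F φ ι aa) (F φ ι v) :=
    F_comm B (okN aa_mem (v_memN 2)) (okN (v_memN 2) aa_mem) ca
  have hB : Commute (F φ ι bb) (F φ ι v) :=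
    F_comm B (okN bb_mem (v_memN 1)) (okN (v_memN 1) bb_mem) cb
  have hV : F φ ι v * F φ ι v = 1 := by
    rw [← F_mul B (okN (v_memN 0) (v_memN 0)), vv, F_one]
  have calc3 : ∀ {x y : G} {i j : Fin 3}, Commute x (F φ ι v) → Commute y (F φ ι v) →
      n⁻¹ * (x * F φ ι v) * n = F φ ι (qd i) → n⁻¹ * (y * F φ ι v) * n = F φ ι (qd j) →
      i ≠ j → i ≠ k → j ≠ k → x * y * x = F φ ι cc := by
    intro x y i j hx hy hxi hyj h1 h2 h3
    have key : n⁻¹ * (x * y * x * F φ ι v) * n = n⁻¹ * (F φ ι cc * F φ ι v) * n := by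
      rw [hk, ← qd_rel i j k h1 h2 h3, F_mul B (okN (mul_mem (qd_mem i) (qd_mem j)) (qd_mem i)),
        F_mul B (okN (qd_mem i) (qd_mem j)), ← hxi, ← hyj]
      calc n⁻¹ * (x * y * x * F φ ι v) * n
          = n⁻¹ * (x * (F φ ι v * F φ ι v) * y * x * F φ ι v) * n := by rw [hV, mul_one]
        _ = n⁻¹ * (x * F φ ι v * (F φ ι v * y) * x * F φ ι v) * n := by group
        _ = n⁻¹ * (x * F φ ι v * (y * F φ ι v) * x * F φ ι v) * n := by rw [hy.eq]
        _ = _ := by group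
    exact mul_right_cancel (mul_left_cancel (mul_right_cancel key))
  exact ⟨calc3 hA hB hi hj (hne hi hj n1) (hne hi hk n2) (hne hj hk n3),
    calc3 hB hA hj hi (hne hj hi n1.symm) (hne hj hk n3) (hne hi hk n2)⟩

end Cfsg.Agent.A9Base59
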