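import Cfsg.Agent.Lib.A9Base59

/-!
The union `F` of the four partial maps `φ, ι 0, ι 1, ι 2` and its calculus.
-/

set_option autoImplicit false

namespace Cfsg.Agent.A9Base59

open Equiv

variable {G : Type*} [Group G]

/-- Two permutations lying in a common piece. -/
def Ok (a b : P9) : Prop := (a ∈ H9 ∧ b ∈ H9) ∨ ∃ k, a ∈ N9 k ∧ b ∈ N9 k

instance (a b : P9) : Decidable (Ok a b) :=
  inferInstanceAs (Decidable ((a ∈ H9 ∧ b ∈ H9) ∨ ∃ k, a ∈ N9 k ∧ b ∈ N9 k))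

theorem fin3_aux : ∀ x y k l : Fin 3, k ≠ l → (x = k ↔ y = k) → (x = l ↔ y = l) → y = x := by
  decide

/-- Two fixed blocks force the third. -/
theorem overlap {p : P9} {k l : Fin 3} (hkl : k ≠ l) (hk : p ∈ N9 k) (hl : p ∈ N9 l) :
    p ∈ H9 := by
  refine ⟨hk.1, fun i j => ?_⟩
  have key : ∀ i, bk (p i) = bk i := fun i => by
    exact fin3_aux _ _ k l hkl (hk.2 i) (hl.2 i)
  rw [key i, key j]

open Classical in
/-- The union of the partial maps. -/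
noncomputable def F (φ : H9 →* G) (ι : ∀ k : Fin 3, N9 k →* G) (p : P9) : G :=
  if h : p ∈ H9 then φ ⟨p, h⟩ else
    if h' : ∃ k, p ∈ N9 k then ι h'.choose ⟨p, h'.choose_spec⟩ else 1

variable {φ : H9 →* G} {ι : ∀ k : Fin 3, N9 k →* G}

theorem F_H {p : P9} (h : p ∈ H9) : F φ ι p = φ ⟨p, h⟩ := dif_pos h

theorem F_E (k : Fin 3) : F φ ι (e k) = φ (E k) := F_H (e_mem k)

variable (B : Branch φ ι)
include B

theorem F_N {p : P9} {k : Fin 3} (h : p ∈ N9 k) : F φ ι p = ι k ⟨p, h⟩ := by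
  by_cases hp : p ∈ H9
  · rw [F_H hp, B.ext k p hp h]
  · have h' : ∃ k, p ∈ N9 k := ⟨k, h⟩
    have : F φ ι p = ι h'.choose ⟨p, h'.choose_spec⟩ := by rw [F, dif_neg hp, dif_pos h']
    rw [this]
    by_cases hk : h'.choose = k
    · generalize h'.choose_spec = hs
      revert hs
      rw [hk]
      intro hs
      rfl
    · exact absurd (overlap hk h'.choose_spec h) hp

omit B in
theorem F_one : F φ ι 1 = 1 := by
  rw [F_H (one_mem H9)]
  exact map_one φ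

theorem F_mul {a b : P9} (h : Ok a b) : F φ ι (a * b) = F φ ι a * F φ ι b := by
  rcases h with ⟨ha, hb⟩ | ⟨k, ha, hb⟩
  · rw [F_H ha, F_H hb, F_H (mul_mem ha hb), ← map_mul]
    rfl
  · rw [F_N B ha, F_N B hb, F_N B (mul_mem ha hb), ← map_mul]
    rfl

theorem F_eq {a b c : P9} (h : Ok a b) (he : a * b = c) : F φ ι a * F φ ι b = F φ ι c := by
  rw [← F_mul B h, he]

theorem F_mul_eq {a b a' b' : P9} (h : Ok a b) (h' : Ok a' b') (he : a * b = a' * b') :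
    F φ ι a * F φ ι b = F φ ι a' * F φ ι b' := by
  rw [← F_mul B h, ← F_mul B h', he]

theorem F_comm {a b : P9} (h : Ok a b) (h' : Ok b a) (he : a * b = b * a) :
    Commute (F φ ι a) (F φ ι b) := F_mul_eq B h h' he

theorem F_inv {a : P9} (h : Ok a a⁻¹) : F φ ι a⁻¹ = (F φ ι a)⁻¹ :=
  eq_inv_of_mul_eq_one_right (by rw [← F_mul B h, mul_inv_cancel, F_one])

theorem F_conj {a b c : P9} (h : Ok a b) (h' : Ok c a) (he : a * b = c * a) :
    F φ ι a * F φ ι b * (F φ ι a)⁻¹ = F φ ι c :=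
  mul_inv_eq_iff_eq_mul.2 (F_mul_eq B h h' he)

theorem F_inj_N {a b : P9} {k : Fin 3} (ha : a ∈ N9 k) (hb : b ∈ N9 k)
    (h : F φ ι a = F φ ι b) : a = b := by
  rw [F_N B ha, F_N B hb] at h
  exact congrArg Subtype.val (B.inj k h)

theorem F_pow_N {a : P9} {k : Fin 3} (ha : a ∈ N9 k) (n : ℕ) :
    F φ ι (a ^ n) = F φ ι a ^ n := by
  rw [F_N B (pow_mem ha n), F_N B ha, ← map_pow]
  rfl

theorem cent_exists {k : Fin 3} {g : G} (h : Commute g (F φ ι (e k))) :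
    ∃ p, p ∈ N9 k ∧ p * e k = e k * p ∧ g = F φ ι p := by
  rw [F_E] at h
  obtain ⟨⟨p, hp⟩, rfl⟩ := B.cent k (Subgroup.mem_centralizer_singleton_iff.2 h.eq)
  refine ⟨p, hp, ?_, (F_N B hp).symm⟩
  have h1 : ι k ⟨p, hp⟩ * ι k ⟨e k, e_mem_N k k⟩ = ι k ⟨e k, e_mem_N k k⟩ * ι k ⟨p, hp⟩ := by
    rw [B.ext k (e k) (e_mem k) (e_mem_N k k)]
    exact h.eq
  rw [← map_mul, ← map_mul] at h1
  exact congrArg Subtype.val (B.inj k h1)

end Cfsg.Agent.A9Base59
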