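import Mathlib
import Cfsg.Agent.S2119

/-!
An automorphism of an alternating group preserving three-cycles is conjugation by a permutation.
-/

set_option autoImplicit false

namespace Cfsg.Agent.AltSixAut64

open Equiv Equiv.Perm Cfsg.Agent.S2119

theorem conjNormal_injective {n : ℕ} (hn : 4 ≤ n) :
    Function.Injective (MulAut.conjNormal : Equiv.Perm (Fin n) →* MulAut ↥(alternatingGroup (Fin n))) := by
  rw [injective_iff_map_eq_one]
  intro σ hσ
  refine eq_one_of_commute_threeCycles hn fun g hg => ?_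
  have := congrArg (fun ψ : MulAut _ => ((ψ ⟨g, hg.mem_alternatingGroup⟩ :
    alternatingGroup (Fin n)) : Perm (Fin n))) hσ
  simpa [MulAut.conjNormal_apply] using this

theorem exists_perm_of_threeCycle (n : ℕ) (hn : 4 ≤ n) (φ : MulAut ↥(alternatingGroup (Fin n)))
    (hφ : ∀ x : alternatingGroup (Fin n), (x : Perm (Fin n)).IsThreeCycle → (φ x : Perm (Fin n)).IsThreeCycle) :
    ∃ σ : Equiv.Perm (Fin n), (MulAut.conjNormal σ : MulAut ↥(alternatingGroup (Fin n))) = φ := by
  obtain ⟨m, rfl⟩ : ∃ m, n = m + 4 := ⟨n - 4, by omega⟩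
  let t : Fin (m + 4) := 0
  let u : Fin (m + 4) := 1
  have htu : t ≠ u := Fin.zero_ne_one
  -- the generators
  have hXc : ∀ i : Fin (m + 4), i ≠ t → i ≠ u → (swap t u * swap u i).IsThreeCycle := by
    intro i hit hiu
    rw [swap_comm t u]
    exact isThreeCycle_swap_mul_swap_same (Ne.symm htu) (Ne.symm hiu) (Ne.symm hit)
  let X : ∀ i : Fin (m + 4), i ≠ t → i ≠ u → alternatingGroup (Fin (m + 4)) :=
    fun i hit hiu => ⟨swap t u * swap u i, (hXc i hit hiu).mem_alternatingGroup⟩
  have hXinj : ∀ i hi hi' j hj hj', i ≠ j → X i hi hi' ≠ X j hj hj' := by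
    intro i hi hi' j hj hj' hij he
    have := congrArg (fun g : alternatingGroup _ => (g : Perm (Fin (m + 4))) u) he
    simp [X, swap_apply_of_ne_of_ne hi hi', swap_apply_of_ne_of_ne hj hj', hij] at this
  let Y : ∀ i : Fin (m + 4), i ≠ t → i ≠ u → Perm (Fin (m + 4)) :=
    fun i hi hi' => φ (X i hi hi')
  have hY : ∀ i hi hi', (Y i hi hi').IsThreeCycle := fun i hi hi' =>
    hφ _ (hXc i hi hi')
  have hpair : ∀ i hi hi' j hj hj', i ≠ j → ∃ a, Y i hi hi' a ≠ a ∧ Y i hi hi' a = Y j hj hj' a := by
    intro i hi hi' j hj hj' hij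
    have hd : Disjoint (swap t i) (swap u j) := fun z => by
      by_cases h1 : z = t
      · subst h1; exact Or.inr (swap_apply_of_ne_of_ne htu (Ne.symm hj))
      by_cases h2 : z = i
      · subst h2; exact Or.inr (swap_apply_of_ne_of_ne hi' hij)
      exact Or.inl (swap_apply_of_ne_of_ne h1 h2)
    have hprod : ((X i hi hi' * X j hj hj' : alternatingGroup _) : Perm (Fin (m + 4))) =
        swap t i * swap u j := by
      show swap t u * swap u i * (swap t u * swap u j) = _
      have e := Equiv.swap_apply_apply (swap t u) u i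
      rw [swap_apply_right, swap_apply_of_ne_of_ne hi hi', swap_inv] at e
      rw [e]; simp only [mul_assoc]
    have h2 : (X i hi hi' * X j hj hj') * (X i hi hi' * X j hj hj') = 1 := by
      apply Subtype.ext
      rw [Subgroup.coe_mul, hprod, Subgroup.coe_one, mul_assoc, ← mul_assoc (swap u j),
        ← hd.commute.eq, mul_assoc, swap_mul_self, mul_one, swap_mul_self]
    refine exists_shared_edge (hY i hi hi') (hY j hj hj') ?_ ?_
    · simp only [Y, ← Subgroup.coe_mul, ← map_mul, h2, map_one, Subgroup.coe_one]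
    · simp only [Y, ← Subgroup.coe_mul, ← map_mul, ne_eq, OneMemClass.coe_eq_one,
        MulEquiv.map_eq_one_iff]
      intro he
      have := congrArg (fun g : alternatingGroup _ => (g : Perm (Fin (m + 4))) j) he
      simp only [hprod, Subgroup.coe_one, mul_apply, one_apply, swap_apply_right,
        swap_apply_of_ne_of_ne (Ne.symm htu) (Ne.symm hi')] at this
      exact hj' this.symm
  -- two distinguished indices
  let i0 : Fin (m + 4) := ⟨2, by omega⟩
  let j0 : Fin (m + 4) := ⟨3, by omega⟩
  have hi0 : i0 ≠ t ∧ i0 ≠ u ∧ j0 ≠ t ∧ j0 ≠ u ∧ i0 ≠ j0 := by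
    simp [i0, j0, t, u, Fin.ext_iff]
  obtain ⟨hi0t, hi0u, hj0t, hj0u, hij0⟩ := hi0
  obtain ⟨a, ha, haz⟩ := hpair i0 hi0t hi0u j0 hj0t hj0u hij0
  have hinjY : ∀ i hi hi' j hj hj', i ≠ j → Y i hi hi' ≠ Y j hj hj' := by
    intro i hi hi' j hj hj' hij he
    exact hXinj i hi hi' j hj hj' hij (φ.injective (Subtype.ext he))
  set b := Y i0 hi0t hi0u a with hb
  have hall : ∀ i hi hi', Y i hi hi' a = b := by
    intro i hi hi'
    by_cases h1 : i = i0
    · subst h1; rfl
    by_cases h2 : i = j0
    · subst h2; exact haz.symm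
    obtain ⟨e, he, hew⟩ := hpair i0 hi0t hi0u i hi hi' (Ne.symm h1)
    obtain ⟨f, hf, hfw⟩ := hpair j0 hj0t hj0u i hi hi' (Ne.symm h2)
    exact shared_edge_all (hY i0 hi0t hi0u) (hY j0 hj0t hj0u) (hY i hi hi')
      (hinjY i0 hi0t hi0u j0 hj0t hj0u hij0) ha haz he hew hf hfw
  have p3 : ∀ (w : Perm (Fin (m + 4))), w.IsThreeCycle → ∀ x, w (w (w x)) = x := fun w hw x => by
    have := pow_orderOf_eq_one w
    rw [hw.orderOf] at this
    simpa [pow_succ] using congrArg (fun f : Perm _ => f x) this
  have hab : a ≠ b := Ne.symm ha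
  -- the permutation
  let s : Fin (m + 4) → Fin (m + 4) := fun i =>
    if hi : i = t then a else if hi' : i = u then b else Y i hi hi' b
  have hst : s t = a := by simp [s]
  have hsu : s u = b := by simp [s, Ne.symm htu]
  have hsi : ∀ i (hi : i ≠ t) (hi' : i ≠ u), s i = Y i hi hi' b := fun i hi hi' => by simp [s, hi, hi']
  have hne_a : ∀ i, i ≠ t → i ≠ u → s i ≠ a ∧ s i ≠ b := by
    intro i hi hi'
    rw [hsi i hi hi']
    constructor
    · intro h
      have := p3 _ (hY i hi hi') a
      rw [hall i hi hi', h, hall i hi hi'] at this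
      exact hab this.symm
    · intro h
      exact hab ((Y i hi hi').injective ((hall i hi hi').trans h.symm))
  have hyeq : ∀ i (hi : i ≠ t) (hi' : i ≠ u), Y i hi hi' = swap a b * swap b (s i) := by
    intro i hi hi'
    obtain ⟨n1, n2⟩ := hne_a i hi hi'
    have hc : Y i hi hi' (s i) = a := by
      rw [hsi i hi hi', ← hall i hi hi']
      exact p3 _ (hY i hi hi') a
    ext z : 1
    simp only [mul_apply]
    by_cases za : z = a
    · subst za; rw [hall i hi hi']; simp [swap_apply_of_ne_of_ne hab (Ne.symm n1)]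
    by_cases zb : z = b
    · subst zb; rw [← hsi i hi hi']; simp [swap_apply_of_ne_of_ne n1 n2]
    by_cases zc : z = s i
    · subst zc; rw [hc]; simp
    rw [swap_apply_of_ne_of_ne zb zc, swap_apply_of_ne_of_ne za zb]
    by_contra hz
    exact four_moved (hY i hi hi') (a := a) (b := b) (c := s i) (d := z)
      (by rw [hall i hi hi']; exact Ne.symm hab) (by rw [← hsi i hi hi']; exact n2)
      (by rw [hc]; exact Ne.symm n1) hz hab (Ne.symm n1) (Ne.symm za) (Ne.symm n2) (Ne.symm zb)
      (Ne.symm zc)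
  have hs : Function.Injective s := by
    intro i j h
    by_cases hit : i = t
    · by_cases hjt : j = t
      · rw [hit, hjt]
      by_cases hju : j = u
      · rw [hit, hju, hst, hsu] at h; exact absurd h hab
      exact absurd (hit ▸ h : s t = s j) (by rw [hst]; exact Ne.symm (hne_a j hjt hju).1)
    by_cases hiu : i = u
    · by_cases hjt : j = t
      · rw [hiu, hjt, hsu, hst] at h; exact absurd h.symm hab
      by_cases hju : j = u
      · rw [hiu, hju]
      exact absurd (hiu ▸ h : s u = s j) (by rw [hsu]; exact Ne.symm (hne_a j hjt hju).2)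
    by_cases hjt : j = t
    · exact absurd (hjt ▸ h : s i = s t) (by rw [hst]; exact (hne_a i hit hiu).1)
    by_cases hju : j = u
    · exact absurd (hju ▸ h : s i = s u) (by rw [hsu]; exact (hne_a i hit hiu).2)
    by_contra hne
    exact hinjY i hit hiu j hjt hju hne (by rw [hyeq i hit hiu, hyeq j hjt hju, h])
  let σ : Perm (Fin (m + 4)) := Equiv.ofBijective s (Finite.injective_iff_bijective.1 hs)
  refine ⟨σ, ?_⟩
  have hgen : ∀ i (hi : i ≠ t) (hi' : i ≠ u), ((MulAut.conjNormal σ : MulAut _) (X i hi hi')) = φ (X i hi hi') := by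
    intro i hi hi'
    apply Subtype.ext
    show _ = Y i hi hi'
    rw [MulAut.conjNormal_apply, hyeq i hi hi']
    show σ * (swap t u * swap u i) * σ⁻¹ = _
    rw [← hst, ← hsu]
    show σ * (swap t u * swap u i) * σ⁻¹ = swap (σ t) (σ u) * swap (σ u) (σ i)
    rw [Equiv.swap_apply_apply, Equiv.swap_apply_apply]
    group
  -- the subgroup where they agree
  let E : Subgroup (Perm (Fin (m + 4))) :=
    (MonoidHom.eqLocus ((MulAut.conjNormal σ : MulAut (alternatingGroup (Fin (m + 4)))) : _ ≃* _).toMonoidHom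
      φ.toMonoidHom).map (alternatingGroup (Fin (m + 4))).subtype
  let H : Subgroup (Perm (Fin (m + 4))) :=
    Subgroup.closure {g | ∃ i, ∃ hi : i ≠ t, ∃ hi' : i ≠ u, g = (X i hi hi' : Perm (Fin (m + 4)))}
  have hHE : H ≤ E := by
    rw [Subgroup.closure_le]
    rintro _ ⟨i, hi, hi', rfl⟩
    exact ⟨X i hi hi', hgen i hi hi', rfl⟩
  have hHA : H ≤ alternatingGroup (Fin (m + 4)) := by
    rw [Subgroup.closure_le]
    rintro _ ⟨i, hi, hi', rfl⟩
    exact (X i hi hi').2
  set τ := swap t u with hτ
  have hτ2 : τ * τ = 1 := swap_mul_self t u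
  have hconj : ∀ g ∈ H, τ * g * τ ∈ H := by
    intro g hg
    induction hg using Subgroup.closure_induction with
    | mem g hg =>
      obtain ⟨i, hi, hi', rfl⟩ := hg
      have : τ * (X i hi hi' : Perm (Fin (m + 4))) * τ = (X i hi hi' : Perm (Fin (m + 4)))⁻¹ := by
        show τ * (τ * swap u i) * τ = (τ * swap u i)⁻¹
        rw [← mul_assoc τ τ, hτ2, one_mul, mul_inv_rev, swap_inv, swap_inv]
      rw [this]
      exact H.inv_mem (Subgroup.subset_closure ⟨i, hi, hi', rfl⟩)
    | one => rw [mul_one, hτ2]; exact H.one_mem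
    | mul g g' _ _ h h' =>
      have : τ * (g * g') * τ = (τ * g * τ) * (τ * g' * τ) := by
        simp only [mul_assoc]; rw [← mul_assoc τ τ, hτ2, one_mul]
      rw [this]; exact H.mul_mem h h'
    | inv g _ h =>
      have : τ * g⁻¹ * τ = (τ * g * τ)⁻¹ := by
        rw [mul_inv_rev, mul_inv_rev, inv_eq_of_mul_eq_one_right hτ2, mul_assoc]
      rw [this]; exact H.inv_mem h
  let T : Subgroup (Perm (Fin (m + 4))) :=
    { carrier := {g | g ∈ H ∨ g * τ ∈ H}
      one_mem' := Or.inl H.one_mem
      mul_mem' := by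
        rintro g g' (h | h) (h' | h')
        · exact Or.inl (H.mul_mem h h')
        · right; rw [mul_assoc]; exact H.mul_mem h h'
        · right
          have : g * g' * τ = (g * τ) * (τ * g' * τ) := by
            simp only [mul_assoc]; rw [← mul_assoc τ τ, hτ2, one_mul]
          rw [this]; exact H.mul_mem h (hconj _ h')
        · left
          have : g * g' = (g * τ) * (τ * (g' * τ) * τ) := by
            simp only [mul_assoc, hτ2, mul_one]; rw [← mul_assoc τ τ, hτ2, one_mul]
          rw [this]; exact H.mul_mem h (hconj _ h')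
      inv_mem' := by
        rintro g (h | h)
        · exact Or.inl (H.inv_mem h)
        · right
          have : g⁻¹ * τ = τ * (g * τ)⁻¹ * τ := by
            rw [mul_inv_rev, ← mul_assoc τ, inv_eq_of_mul_eq_one_right hτ2, hτ2, one_mul]
          rw [this]; exact hconj _ (H.inv_mem h) }
  have hT : T = ⊤ := by
    refine closure_swaps t u htu T fun i hi => ?_
    by_cases hit : i = t
    · subst hit
      right
      rw [swap_comm u t, ← hτ, hτ2]
      exact H.one_mem
    · right
      have hx : (X i hit hi : Perm (Fin (m + 4))) ∈ H := Subgroup.subset_closure ⟨i, hit, hi, rfl⟩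
      have := hconj _ hx
      have e : τ * (X i hit hi : Perm (Fin (m + 4))) * τ = swap u i * τ := by
        show τ * (τ * swap u i) * τ = _
        rw [← mul_assoc τ τ, hτ2, one_mul]
      rwa [e] at this
  apply MulEquiv.ext
  intro g
  have hg : (g : Perm (Fin (m + 4))) ∈ T := hT ▸ Subgroup.mem_top _
  rcases hg with hg | hg
  · obtain ⟨g', hg', he⟩ := hHE hg
    rw [Subgroup.coe_subtype] at he
    have := Subtype.ext he
    subst this
    exact hg'
  · exfalso
    have := mem_alternatingGroup.1 (hHA hg)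
    rw [Equiv.Perm.sign_mul, mem_alternatingGroup.1 g.2, hτ, sign_swap htu] at this
    norm_num at this


end Cfsg.Agent.AltSixAut64
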