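import Mathlib

/-!
Two integer columns of norm nine, orthogonal to each other and to the degrees.
-/

set_option autoImplicit false

namespace Cfsg.Agent.SelfCentNineArith64

variable {ι : Type*} [Fintype ι] [DecidableEq ι]

/-- The shape of two orthogonal columns of norm nine congruent modulo three. -/
structure Shape (o : ι) (d a b : ι → ℤ) (P R : ι) (D : ℤ) (T : Finset ι) : Prop where
  neP : P ≠ o
  neR : R ≠ o
  ne : P ≠ R
  notMem : o ∉ T ∧ P ∉ T ∧ R ∉ T
  card : T.card = 3
  aP : a P = -2 * b P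
  bR : b R = -2 * a R
  bP : b P = 1 ∨ b P = -1
  aR : a R = 1 ∨ a R = -1
  dP : D = -(b P) * d P
  dR : D = -(a R) * d R
  memT : ∀ i ∈ T, (a i = 1 ∨ a i = -1) ∧ b i = a i
  orth : 1 + D + ∑ i ∈ T, d i * a i = 0
  split : ∀ F : ι → ℚ, (∀ i, a i = 0 → b i = 0 → F i = 0) → ∑ i, F i = F o + F P + F R + ∑ i ∈ T, F i
  uniqueA : ∀ i, a i * a i = 4 → i = P
  uniqueB : ∀ i, b i * b i = 4 → i = R

set_option maxHeartbeats 1000000 in
theorem exists_shape (o : ι) (d a b : ι → ℤ) (haa : ∑ i, a i * a i = 9) (hbb : ∑ i, b i * b i = 9)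
    (hab : ∑ i, a i * b i = 0) (hda : ∑ i, d i * a i = 0) (hdb : ∑ i, d i * b i = 0)
    (hao : a o = 1) (hbo : b o = 1) (hdo : d o = 1) (h3 : ∀ i, (3 : ℤ) ∣ a i - b i) :
    ∃ (P R : ι) (D : ℤ) (T : Finset ι), Shape o d a b P R D T := by
  have hle : ∀ (c : ι → ℤ), ∑ i, c i * c i = 9 → ∀ i, c i * c i ≤ 9 := fun c hc i =>
    hc ▸ Finset.single_le_sum (f := fun i => c i * c i) (fun j _ => mul_self_nonneg (c j))
      (Finset.mem_univ i)
  have hc2 : ∑ i, (a i - b i) * (a i - b i) = 18 := by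
    have : ∀ i, (a i - b i) * (a i - b i) = a i * a i + b i * b i - 2 * (a i * b i) := fun i => by ring
    simp only [this, Finset.sum_sub_distrib, Finset.sum_add_distrib, ← Finset.mul_sum, haa, hbb, hab]
    norm_num
  set U := Finset.univ.filter fun i => a i ≠ b i with hU
  have hUsum : ∑ i ∈ U, (a i - b i) * (a i - b i) = 18 := by
    rw [← hc2]
    refine Finset.sum_subset (Finset.subset_univ _) fun i _ hi => ?_
    have : a i = b i := by simpa [hU] using hi
    rw [this, sub_self, zero_mul]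
  have h9 : ∀ i ∈ U, (a i - b i) * (a i - b i) = 9 := by
    intro i hi
    obtain ⟨k, hk⟩ := h3 i
    have hk0 : k ≠ 0 := fun h => (Finset.mem_filter.1 hi).2 (by rw [h] at hk; linarith)
    have hle18 : (a i - b i) * (a i - b i) ≤ 18 := hUsum ▸ Finset.single_le_sum
      (f := fun i => (a i - b i) * (a i - b i)) (fun j _ => mul_self_nonneg _) hi
    have h1 : 1 ≤ k * k := by
      have : 0 < k * k := mul_self_pos.2 hk0
      omega
    have h2 : k * k ≤ 2 := by rw [hk] at hle18; nlinarith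
    have h4 : k * k = 1 := by
      rcases eq_or_ne (k * k) 2 with h | h
      · exfalso
        have : -2 ≤ k ∧ k ≤ 2 := by constructor <;> nlinarith
        obtain ⟨hl, hu⟩ := this
        interval_cases k <;> omega
      · omega
    rw [hk]; linear_combination 9 * h4
  have hU2 : U.card = 2 := by
    rw [Finset.sum_congr rfl h9, Finset.sum_const, nsmul_eq_mul] at hUsum
    omega
  obtain ⟨P₀, R₀, hne₀, hU'⟩ := Finset.card_eq_two.1 hU2
  set S := Finset.univ.filter fun i => i ≠ o ∧ a i = b i with hS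
  have hsplit : ∀ {M : Type} [AddCommMonoid M] (F : ι → M), ∑ i, F i = F o + (F P₀ + F R₀) + ∑ i ∈ S, F i := by
    intro M _ F
    have hoU : o ∉ U := by simp [hU, hao, hbo]
    rw [← Finset.add_sum_erase _ _ (Finset.mem_univ o), add_assoc]
    congr 1
    rw [← Finset.sum_pair (f := F) hne₀, ← hU', ← Finset.sum_union]
    · refine Finset.sum_congr ?_ fun _ _ => rfl
      ext i
      simp only [hU, hS, Finset.mem_erase, Finset.mem_union, Finset.mem_filter, Finset.mem_univ,
        true_and, and_true]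
      constructor
      · intro hi; by_cases h : a i = b i
        · exact Or.inr ⟨hi, h⟩
        · exact Or.inl h
      · rintro (h | h)
        · rintro rfl; exact h (hao.trans hbo.symm)
        · exact h.1
    · rw [Finset.disjoint_left]
      intro i hi hi'
      exact (Finset.mem_filter.1 hi).2 (Finset.mem_filter.1 hi').2.2
  have hPU : P₀ ∈ U := by simp [hU']
  have hRU : R₀ ∈ U := by simp [hU']
  have hmem : ∀ i ∈ U, (a i * a i = 9 ∧ b i * b i = 0 ∧ a i * b i = 0) ∨
      (a i * a i = 0 ∧ b i * b i = 9 ∧ a i * b i = 0) ∨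
      (a i * a i = 4 ∧ b i * b i = 1 ∧ a i * b i = -2) ∨
      (a i * a i = 1 ∧ b i * b i = 4 ∧ a i * b i = -2) := by
    intro i hi
    have h := h9 i hi
    have ha := hle a haa i
    have hb := hle b hbb i
    have : -3 ≤ a i ∧ a i ≤ 3 := by constructor <;> nlinarith
    obtain ⟨hal, hau⟩ := this
    have : -3 ≤ b i ∧ b i ≤ 3 := by constructor <;> nlinarith
    obtain ⟨hbl, hbu⟩ := this
    generalize a i = x at *
    generalize b i = y at *
    interval_cases x <;> interval_cases y <;> omega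
  have hrel : ∀ x y : ℤ, x * x = 4 → x * y = -2 → x = -2 * y := by
    intro x y h1 h2
    have : x * (x + 2 * y) = 0 := by linear_combination h1 + 2 * h2
    rcases mul_eq_zero.1 this with h | h
    · rw [h] at h1; norm_num at h1
    · linarith
  have hA := hsplit (fun i => a i * a i)
  have hB := hsplit (fun i => b i * b i)
  have hAB := hsplit (fun i => a i * b i)
  rw [haa, hao] at hA
  rw [hbb, hbo] at hB
  rw [hab, hao, hbo] at hAB
  have hSB : ∑ i ∈ S, b i * b i = ∑ i ∈ S, a i * a i :=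
    Finset.sum_congr rfl fun i hi => by rw [(Finset.mem_filter.1 hi).2.2]
  have hSAB : ∑ i ∈ S, a i * b i = ∑ i ∈ S, a i * a i :=
    Finset.sum_congr rfl fun i hi => by rw [(Finset.mem_filter.1 hi).2.2]
  rw [hSB] at hB
  rw [hSAB] at hAB
  have hSnn : (0 : ℤ) ≤ ∑ i ∈ S, a i * a i := Finset.sum_nonneg fun i _ => mul_self_nonneg (a i)
  have fin : ∀ P R, P ≠ R → ({P, R} : Finset ι) = U → a P = -2 * b P → b P * b P = 1 →
      b R = -2 * a R → a R * a R = 1 → ∑ i ∈ S, a i * a i = 3 →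
      ∃ (P R : ι) (D : ℤ) (T : Finset ι), Shape o d a b P R D T := by
    intro P R hne hPR h1 h2 h4 h5 hS3
    have hb1 : b P = 1 ∨ b P = -1 := mul_self_eq_one_iff.1 h2
    have ha1 : a R = 1 ∨ a R = -1 := mul_self_eq_one_iff.1 h5
    set T := S.filter fun i => a i ≠ 0 with hT
    have hTone : ∀ i ∈ T, a i * a i = 1 := by
      intro i hi
      have hl : a i * a i ≤ 3 := hS3 ▸ Finset.single_le_sum
        (f := fun i => a i * a i) (fun j _ => mul_self_nonneg _) (Finset.mem_filter.1 hi).1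
      have h0 := (Finset.mem_filter.1 hi).2
      have : -1 ≤ a i ∧ a i ≤ 1 := by constructor <;> nlinarith
      obtain ⟨hl', hu'⟩ := this
      generalize a i = x at *
      interval_cases x <;> omega
    have hTS : ∑ i ∈ T, a i * a i = 3 := by
      rw [← hS3]
      refine Finset.sum_subset (Finset.filter_subset _ _) fun i hi hi' => ?_
      have : a i = 0 := by by_contra h; exact hi' (Finset.mem_filter.2 ⟨hi, h⟩)
      rw [this, zero_mul]
    have hT3 : T.card = 3 := by
      rw [Finset.sum_congr rfl hTone, Finset.sum_const, nsmul_eq_mul, mul_one] at hTS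
      omega
    have hPU : P ∈ U := by simp [← hPR]
    have hRU : R ∈ U := by simp [← hPR]
    have hPo : P ≠ o := by rintro rfl; exact (Finset.mem_filter.1 hPU).2 (hao.trans hbo.symm)
    have hRo : R ≠ o := by rintro rfl; exact (Finset.mem_filter.1 hRU).2 (hao.trans hbo.symm)
    have hsp : ∀ F : ι → ℤ, ∑ i, F i = F o + (F P + F R) + ∑ i ∈ S, F i := by
      intro F
      rw [hsplit F, ← Finset.sum_pair (f := F) hne, hPR, hU', Finset.sum_pair hne₀]
    have hTd : ∑ i ∈ T, d i * a i = ∑ i ∈ S, d i * a i := by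
      refine Finset.sum_subset (Finset.filter_subset _ _) fun i hi hi' => ?_
      have : a i = 0 := by by_contra h; exact hi' (Finset.mem_filter.2 ⟨hi, h⟩)
      rw [this, mul_zero]
    have hdA := hsp fun i => d i * a i
    have hdB := hsp fun i => d i * b i
    rw [hda, hdo, hao, h1] at hdA
    rw [hdb, hdo, hbo, h4] at hdB
    rw [show ∑ i ∈ S, d i * b i = ∑ i ∈ S, d i * a i from
      Finset.sum_congr rfl fun i hi => by rw [(Finset.mem_filter.1 hi).2.2]] at hdB
    have hD : -(b P) * d P = -(a R) * d R := by linarith [hdA, hdB]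
    refine ⟨P, R, -(b P) * d P, T, hPo, hRo, hne, ⟨?_, ?_, ?_⟩, hT3, h1, h4, hb1, ha1, rfl, hD, ?_, ?_,
      ?_, ?_, ?_⟩
    · exact fun h => (Finset.mem_filter.1 (Finset.mem_filter.1 h).1).2.1 rfl
    · exact fun h => (Finset.mem_filter.1 hPU).2 (Finset.mem_filter.1 (Finset.mem_filter.1 h).1).2.2
    · exact fun h => (Finset.mem_filter.1 hRU).2 (Finset.mem_filter.1 (Finset.mem_filter.1 h).1).2.2
    · exact fun i hi => ⟨mul_self_eq_one_iff.1 (hTone i hi),
        (Finset.mem_filter.1 (Finset.mem_filter.1 hi).1).2.2.symm⟩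
    · rw [hTd]; linarith [hdA, hdB]
    · intro F hF
      rw [hsplit F, ← Finset.sum_pair (f := F) hne₀, ← hU', ← hPR, Finset.sum_pair hne]
      rw [show ∑ i ∈ T, F i = ∑ i ∈ S, F i from Finset.sum_subset (Finset.filter_subset _ _)
        fun i hi hi' => by
          have h : a i = 0 := by by_contra h; exact hi' (Finset.mem_filter.2 ⟨hi, h⟩)
          exact hF i h ((Finset.mem_filter.1 hi).2.2 ▸ h)]
      abel
    · intro i hi
      by_contra hne'
      by_cases hiU : i ∈ U
      · rw [← hPR, Finset.mem_insert, Finset.mem_singleton] at hiU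
        rcases hiU with rfl | rfl
        · exact hne' rfl
        · omega
      · have hio : i ≠ o := by rintro rfl; rw [hao] at hi; norm_num at hi
        have hab' : a i = b i := by simpa [hU] using hiU
        have hiS : i ∈ S := Finset.mem_filter.2 ⟨Finset.mem_univ _, hio, hab'⟩
        have : a i * a i ≤ 3 := hS3 ▸ Finset.single_le_sum
          (f := fun i => a i * a i) (fun j _ => mul_self_nonneg _) hiS
        omega
    · intro i hi
      by_contra hne'
      by_cases hiU : i ∈ U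
      · rw [← hPR, Finset.mem_insert, Finset.mem_singleton] at hiU
        rcases hiU with rfl | rfl
        · omega
        · exact hne' rfl
      · have hio : i ≠ o := by rintro rfl; rw [hbo] at hi; norm_num at hi
        have hab' : a i = b i := by simpa [hU] using hiU
        have hiS : i ∈ S := Finset.mem_filter.2 ⟨Finset.mem_univ _, hio, hab'⟩
        have : a i * a i ≤ 3 := hS3 ▸ Finset.single_le_sum
          (f := fun i => a i * a i) (fun j _ => mul_self_nonneg _) hiS
        rw [hab'] at this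
        omega
  rcases hmem P₀ hPU with ⟨p1, p2, p3⟩ | ⟨p1, p2, p3⟩ | ⟨p1, p2, p3⟩ | ⟨p1, p2, p3⟩ <;>
    rcases hmem R₀ hRU with ⟨r1, r2, r3⟩ | ⟨r1, r2, r3⟩ | ⟨r1, r2, r3⟩ | ⟨r1, r2, r3⟩ <;>
    simp only [p1, p2, p3, r1, r2, r3] at hA hB hAB <;>
    first
    | omega
    | exact fin P₀ R₀ hne₀ hU'.symm (hrel _ _ p1 p3) p2 (hrel _ _ r2 (by linarith)) r1 (by omega)
    | exact fin R₀ P₀ hne₀.symm (by rw [hU', Finset.pair_comm]) (hrel _ _ r1 r3) r2
        (hrel _ _ p2 (by linarith)) p1 (by omega)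

/-- The weighted triple sum of two columns. -/
theorem Shape.triple {o : ι} {d a b : ι → ℤ} {P R : ι} {D : ℤ} {T : Finset ι}
    (h : Shape o d a b P R D T) (hao : a o = 1) (hbo : b o = 1) (hdo : d o = 1) :
    ∑ i, ((a i : ℚ) * a i * b i / d i) = 1 - 2 / (D : ℚ) + ∑ i ∈ T, ((a i : ℚ) / d i) := by
  rw [h.split _ (fun i h1 h2 => by rw [h1]; simp), hao, hbo, hdo,
    show ∑ i ∈ T, ((a i : ℚ) * a i * b i / d i) = ∑ i ∈ T, ((a i : ℚ) / d i) from
      Finset.sum_congr rfl fun i hi => by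
        obtain ⟨h1, h2⟩ := h.memT i hi
        rw [h2]; rcases h1 with e | e <;> rw [e] <;> norm_num]
  have e1 : (a P : ℚ) * a P * b P / d P = -4 / (D : ℚ) := by
    rw [h.aP, h.dP]
    rcases h.bP with e | e <;> rw [e] <;> push_cast <;> ring
  have e2 : (a R : ℚ) * a R * b R / d R = 2 / (D : ℚ) := by
    rw [h.bR, h.dR]
    rcases h.aR with e | e <;> rw [e] <;> push_cast <;> ring
  rw [e1, e2]
  push_cast
  ring

/-- Two classes of elements of order three. -/
theorem bound_two {o : ι} {d a b : ι → ℤ} (haa : ∑ i, a i * a i = 9) (hbb : ∑ i, b i * b i = 9)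
    (hab : ∑ i, a i * b i = 0) (hda : ∑ i, d i * a i = 0) (hdb : ∑ i, d i * b i = 0)
    (hao : a o = 1) (hbo : b o = 1) (hdo : d o = 1) (h3 : ∀ i, (3 : ℤ) ∣ a i - b i)
    (hd : ∀ i, i ≠ o → 2 ≤ d i) (h9 : ∀ i, (9 : ℤ) ∣ d i + 4 * (a i + b i)) :
    9 / 40 ≤ ∑ i, ((a i : ℚ) * a i * b i / d i) := by
  obtain ⟨P, R, D, T, h⟩ := exists_shape o d a b haa hbb hab hda hdb hao hbo hdo h3
  rw [h.triple hao hbo hdo]
  have hT : ∀ i ∈ T, (-1 / 8 : ℚ) ≤ (a i : ℚ) / d i := by
    intro i hi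
    have hio : i ≠ o := fun e => h.notMem.1 (e ▸ hi)
    have h2 := hd i hio
    have hk := h9 i
    obtain ⟨ha, hb⟩ := h.memT i hi
    rw [hb] at hk
    rcases ha with e | e <;> rw [e] at hk ⊢
    · exact le_trans (by norm_num) (div_nonneg (by norm_num) (by exact_mod_cast (by omega : (0 : ℤ) ≤ d i)))
    · have : 8 ≤ d i := by omega
      rw [Int.cast_neg, Int.cast_one, le_div_iff₀ (by exact_mod_cast (by omega : (0 : ℤ) < d i))]
      have : (8 : ℚ) ≤ d i := by exact_mod_cast this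
      linarith
  have hsum : (-3 / 8 : ℚ) ≤ ∑ i ∈ T, (a i : ℚ) / d i := by
    have := Finset.card_nsmul_le_sum T _ _ hT
    rw [h.card, nsmul_eq_mul] at this
    linarith
  have hD : (2 : ℚ) / (D : ℚ) ≤ 2 / 5 := by
    have hk := h9 P
    have h2 := hd P h.neP
    rw [h.aP] at hk
    have hD5 : 5 ≤ D ∨ D < 0 := by
      rw [h.dP]
      rcases h.bP with e | e <;> rw [e] at hk ⊢ <;> omega
    rcases hD5 with h5 | h5
    · have : (5 : ℚ) ≤ D := by exact_mod_cast h5
      exact div_le_div_of_nonneg_left (by norm_num) (by norm_num) this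
    · exact le_trans (div_nonpos_of_nonneg_of_nonpos (by norm_num) (by exact_mod_cast h5.le)) (by norm_num)
  linarith

set_option maxHeartbeats 1000000 in
/-- Four classes are impossible. -/
theorem false_of_four {o : ι} {d : ι → ℤ} (a : Fin 4 → ι → ℤ) (haa : ∀ j, ∑ i, a j i * a j i = 9)
    (hab : ∀ j k, j ≠ k → ∑ i, a j i * a k i = 0) (hda : ∀ j, ∑ i, d i * a j i = 0)
    (hao : ∀ j, a j o = 1) (hdo : d o = 1) (h3 : ∀ j k i, (3 : ℤ) ∣ a j i - a k i)
    (hd : ∀ i, i ≠ o → 2 ≤ d i) (h0 : ∑ i, ((a 0 i : ℚ) * a 0 i * a 1 i / d i) = 0) : False := by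
  have ex : ∀ j k, j ≠ k → ∃ (P R : ι) (D : ℤ) (T : Finset ι), Shape o d (a j) (a k) P R D T :=
    fun j k hjk => exists_shape o d (a j) (a k) (haa j) (haa k) (hab j k hjk) (hda j) (hda k)
      (hao j) (hao k) hdo (h3 j k)
  obtain ⟨P, R, D, T, h⟩ := ex 0 1 (by decide)
  obtain ⟨P2, R2, D2, T2, h2⟩ := ex 0 2 (by decide)
  obtain ⟨P3, R3, D3, T3, h3'⟩ := ex 0 3 (by decide)
  obtain ⟨Q2, S2, _, _, g2⟩ := ex 1 2 (by decide)
  obtain ⟨Q3, S3, _, _, g3⟩ := ex 1 3 (by decide)
  obtain ⟨Q4, S4, _, _, g4⟩ := ex 2 3 (by decide)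
  have sq4 : ∀ x y : ℤ, x = -2 * y → (y = 1 ∨ y = -1) → x * x = 4 := by
    rintro x y rfl (rfl | rfl) <;> norm_num
  have sq1 : ∀ x y : ℤ, x = -2 * y → (y = 1 ∨ y = -1) → y * y ≠ 4 := by
    rintro x y rfl (rfl | rfl) <;> norm_num
  obtain rfl : P2 = P := h.uniqueA _ (sq4 _ _ h2.aP h2.bP)
  obtain rfl : P3 = P2 := h.uniqueA _ (sq4 _ _ h3'.aP h3'.bP)
  have hR2 : R2 ∈ T ∧ a 0 R2 * a 0 R2 ≠ 4 := by
    have n0 := sq1 _ _ h2.bR h2.aR
    refine ⟨?_, n0⟩
    by_contra hT
    have hz := h.split (fun i => if i = R2 then 1 else 0) fun i h1 h1' => by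
      have : i ≠ R2 := by rintro rfl; rcases h2.aR with e | e <;> omega
      simp [this]
    have e1 : R2 ≠ o := h2.neR
    have e2 : R2 ≠ P3 := h2.ne.symm
    have e3 : R2 ≠ R := by
      rintro rfl
      have e := g2.uniqueA _ (sq4 _ _ h.bR h.aR)
      have e' := g2.uniqueB _ (sq4 _ _ h2.bR h2.aR)
      exact g2.ne (e.symm.trans e')
    simp only [Finset.sum_ite_eq', Finset.mem_univ, hT, e1.symm, e2.symm, e3.symm, if_true, if_false] at hz
    norm_num at hz
  have hR3 : R3 ∈ T ∧ R3 ≠ R2 := by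
    refine ⟨?_, ?_⟩
    · by_contra hT
      have hz := h.split (fun i => if i = R3 then 1 else 0) fun i h1 h1' => by
        have : i ≠ R3 := by rintro rfl; rcases h3'.aR with e | e <;> omega
        simp [this]
      have e1 : R3 ≠ o := h3'.neR
      have e2 : R3 ≠ P3 := h3'.ne.symm
      have e3 : R3 ≠ R := by
        rintro rfl
        have e := g3.uniqueA _ (sq4 _ _ h.bR h.aR)
        have e' := g3.uniqueB _ (sq4 _ _ h3'.bR h3'.aR)
        exact g3.ne (e.symm.trans e')
      simp only [Finset.sum_ite_eq', Finset.mem_univ, hT, e1.symm, e2.symm, e3.symm, if_true, if_false] at hz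
      norm_num at hz
    · rintro rfl
      have e := g4.uniqueA _ (sq4 _ _ h2.bR h2.aR)
      have e' := g4.uniqueB _ (sq4 _ _ h3'.bR h3'.aR)
      exact g4.ne (e.symm.trans e')
  obtain ⟨W, hW⟩ : ∃ W, (T.erase R2).erase R3 = {W} := Finset.card_eq_one.1 (by
    rw [Finset.card_erase_of_mem (Finset.mem_erase.2 ⟨hR3.2, hR3.1⟩), Finset.card_erase_of_mem hR2.1, h.card])
  have hWT : W ∈ T := Finset.mem_of_mem_erase (Finset.mem_of_mem_erase (hW ▸ Finset.mem_singleton_self W))
  have hsum : ∀ {M : Type} [AddCommMonoid M] (F : ι → M), ∑ i ∈ T, F i = F R2 + (F R3 + F W) := by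
    intro M _ F
    rw [← Finset.add_sum_erase _ _ hR2.1, ← Finset.add_sum_erase _ _ (Finset.mem_erase.2 ⟨hR3.2, hR3.1⟩),
      hW, Finset.sum_singleton]
  have hD2 : D2 = D := by
    rw [h2.dP, h.dP, show a 2 P3 = a 1 P3 by have := h2.aP; have := h.aP; omega]
  have hD3 : D3 = D := by
    rw [h3'.dP, h.dP, show a 3 P3 = a 1 P3 by have := h3'.aP; have := h.aP; omega]
  have horth : d W * a 0 W = D - 1 := by
    have := h.orth
    rw [hsum] at this
    have q2 := h2.dR
    have q3 := h3'.dR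
    rw [hD2] at q2
    rw [hD3] at q3
    linarith
  have hWd := hd W (fun e => h.notMem.1 (e ▸ hWT))
  have hWa := (h.memT W hWT).1
  have q : ∀ j, j ≠ o → ∀ E : ℤ, E = -(a 0 j) * d j → (a 0 j = 1 ∨ a 0 j = -1) →
      (a 0 j : ℚ) / d j = -1 / (E : ℚ) := by
    intro j _ E hE ha
    rw [hE]
    rcases ha with e | e <;> rw [e] <;> push_cast <;> ring
  rw [h.triple (hao 0) (hao 1) hdo, hsum, q R2 h2.neR D (hD2 ▸ h2.dR) h2.aR,
    q R3 h3'.neR D (hD3 ▸ h3'.dR) h3'.aR] at h0
  have hD0 : (D : ℚ) ≠ 0 := by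
    have hp := hd P3 h.neP
    have : D ≠ 0 := by rw [h.dP]; rcases h.bP with e | e <;> rw [e] <;> omega
    exact_mod_cast this
  have hdW : (d W : ℚ) ≠ 0 := by exact_mod_cast (by omega : d W ≠ 0)
  field_simp at h0
  have h0' : ((d W * D - 4 * d W + a 0 W * D : ℤ) : ℚ) = ((0 : ℤ) : ℚ) := by push_cast; linarith
  have h0'' := Int.cast_injective h0'
  rcases hWa with e | e <;> rw [e] at h0'' horth <;> nlinarith

end Cfsg.Agent.SelfCentNineArith64
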