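import Mathlib
import Cfsg.Agent.Lib.SelfCentNineArith64
import Cfsg.Agent.Lib.ClassAlgebraVal
import Cfsg.Agent.Lib.CharBasicLinear
import Cfsg.Agent.Lib.Simple360

/-!
A simple group with a self-centralising elementary abelian Sylow subgroup of order nine and more
than one class of elements of order three has order 360.
-/

set_option autoImplicit false

namespace Cfsg.Agent.SelfCentNineA6Core64

open scoped ComplexConjugate
open Cfsg.Agent.CharBasic Cfsg.Agent.CharBasicOrth Cfsg.Agent.CharBasicDecomp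

universe u

variable {G : Type u} [Group G] [Finite G] {S : Subgroup G}

/-- The hypotheses. -/
structure Conf (S : Subgroup G) : Prop where
  comm : ∀ a ∈ S, ∀ b ∈ S, a * b = b * a
  exp : ∀ a ∈ S, a ^ 3 = 1
  card : Nat.card S = 9
  cent : ∀ s ∈ S, s ≠ 1 → Subgroup.centralizer ({s} : Set G) = S

theorem Conf.mem_of_commute (h : Conf S) {u g : G} (hu : u ∈ S) (hu1 : u ≠ 1) (hg : g * u = u * g) :
    g ∈ S := by
  rw [← h.cent u hu hu1]
  exact Subgroup.mem_centralizer_singleton_iff.2 hg

theorem Conf.orderOf_eq (h : Conf S) {u : G} (hu : u ∈ S) (hu1 : u ≠ 1) : orderOf u = 3 :=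
  haveI : Fact (Nat.Prime 3) := ⟨Nat.prime_three⟩
  orderOf_eq_prime (h.exp u hu) hu1

/-- A triangle of elements of order three lies in `S` unless the classes are `(K, K, K²)`. -/
theorem Conf.triangle (h : Conf S) {u y : G} (hu : u ∈ S) (hu1 : u ≠ 1) (hy : y ^ 3 = 1)
    (ht : (u * y) ^ 3 = 1) (hn : ¬ IsConj (u * u) (u * y)) : y ∈ S := by
  have hu3 : u * u * u = 1 := by rw [← pow_three']; exact h.exp u hu
  have hu' : u⁻¹ = u * u := inv_eq_of_mul_eq_one_right (by rw [← mul_assoc, hu3])
  have hy3 : y * y * y = 1 := by rw [← pow_three']; exact hy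
  have hy' : y * y = y⁻¹ := eq_inv_of_mul_eq_one_left hy3
  have hxyx : u * y * u = (y * u * y)⁻¹ := eq_inv_of_mul_eq_one_left (by
    rw [pow_three'] at ht; simpa [mul_assoc] using ht)
  set p := u * y⁻¹ with hp
  set q := y⁻¹ * u with hq
  have hpq : p * q = u * y * u := by
    rw [hp, hq, ← hy']; calc u * (y * y) * (y * y * u) = u * (y * y * y) * y * u := by group
      _ = u * y * u := by rw [hy3, mul_one]
  have hqp : q * p = u * y * u := by
    rw [hp, hq, hxyx]
    calc y⁻¹ * u * (u * y⁻¹) = y⁻¹ * (u * u) * y⁻¹ := by group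
      _ = (y * u * y)⁻¹ := by rw [← hu']; group
  set A := Subgroup.closure ({p, q} : Set G) with hA
  have hAc : ∀ a ∈ A, ∀ b ∈ A, a * b = b * a := by
    have hgen : ∀ a ∈ ({p, q} : Set G), ∀ b ∈ ({p, q} : Set G), a * b = b * a := by
      rintro a (rfl | rfl) b (rfl | rfl)
      · rfl
      · rw [hpq, hqp]
      · rw [hpq, hqp]
      · rfl
    intro a ha b hb
    have h1 : A ≤ Subgroup.centralizer ({p, q} : Set G) := (Subgroup.closure_le _).2 fun a ha =>
      Subgroup.mem_centralizer_iff.2 fun b hb => hgen b hb a ha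
    have h2 : A ≤ Subgroup.centralizer (A : Set G) := (Subgroup.closure_le _).2 fun a ha =>
      Subgroup.mem_centralizer_iff.2 fun b hb =>
        ((Subgroup.mem_centralizer_iff.1 (h1 hb)) a ha).symm
    exact ((Subgroup.mem_centralizer_iff.1 (h2 ha)) b hb).symm
  have hpA : p ∈ A := Subgroup.subset_closure (Set.mem_insert _ _)
  have hqA : q ∈ A := Subgroup.subset_closure (Set.mem_insert_of_mem _ rfl)
  have hinv : ∀ a ∈ A, u * a * u⁻¹ ∈ A := by
    intro a ha
    have : A ≤ A.comap (MulAut.conj u).toMonoidHom := (Subgroup.closure_le _).2 (by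
      rintro a (rfl | rfl)
      · show u * (u * y⁻¹) * u⁻¹ ∈ A
        have e : u * (u * y⁻¹) * u⁻¹ = (p * q)⁻¹ := by
          rw [hpq, mul_inv_rev, mul_inv_rev, hu']
          group
        rw [e]; exact A.inv_mem (A.mul_mem hpA hqA)
      · show u * (y⁻¹ * u) * u⁻¹ ∈ A
        rwa [← mul_assoc, mul_inv_cancel_right, ← hp])
    exact this ha
  have hy_eq : y = u * q⁻¹ := by rw [hq]; group
  by_cases hfix : ∃ z ∈ A, z ≠ 1 ∧ z * u = u * z
  · obtain ⟨z, hzA, hz1, hzu⟩ := hfix
    have hzS := h.mem_of_commute hu hu1 hzu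
    have hqS := h.mem_of_commute hzS hz1 (hAc q hqA z hzA)
    rw [hy_eq]; exact S.mul_mem hu (S.inv_mem hqS)
  · exfalso
    push Not at hfix
    let f : A → A := fun a => ⟨u * a * u⁻¹ * (a : G)⁻¹, A.mul_mem (hinv a a.2) (A.inv_mem a.2)⟩
    have hf : Function.Injective f := by
      intro a b hab
      have h1 : u * a * u⁻¹ * (a : G)⁻¹ = u * b * u⁻¹ * (b : G)⁻¹ := congrArg Subtype.val hab
      have h2 := hfix ((b : G)⁻¹ * a) (A.mul_mem (A.inv_mem b.2) a.2)
      by_contra hne
      refine h2 (fun e => hne (Subtype.ext (by rwa [inv_mul_eq_one, eq_comm] at e))) ?_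
      have h3 : u * a * u⁻¹ = u * b * u⁻¹ * ((b : G)⁻¹ * a) := by
        calc u * a * u⁻¹ = u * a * u⁻¹ * (a : G)⁻¹ * a := by group
          _ = _ := by rw [h1]; group
      calc (b : G)⁻¹ * a * u = (u * b * u⁻¹)⁻¹ * (u * a * u⁻¹) * u := by rw [h3]; group
        _ = u * ((b : G)⁻¹ * a) := by group
    obtain ⟨a, ha⟩ := Finite.injective_iff_surjective.1 hf ⟨q⁻¹, A.inv_mem hqA⟩
    have ha' : u * a * u⁻¹ * (a : G)⁻¹ = q⁻¹ := congrArg Subtype.val ha
    -- `u * y = u * u * q⁻¹` is conjugate to `u * u`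
    apply hn
    refine isConj_iff.2 ⟨(a : G), ?_⟩
    rw [hy_eq, ← ha']
    calc (a : G) * (u * u) * (a : G)⁻¹ = u * u * u * ((a : G) * u⁻¹ * (a : G)⁻¹) := by rw [hu3, one_mul, hu']
      _ = u * (u * (u * a * u⁻¹ * (a : G)⁻¹)) := by group

theorem Conf.fusion (h : Conf S) {u v g : G} (hu : u ∈ S) (hu1 : u ≠ 1) (hv : v ∈ S)
    (hg : g * u * g⁻¹ = v) : g ∈ Subgroup.normalizer (S : Set G) := by
  have hv1 : v ≠ 1 := by rw [← hg]; simpa using hu1
  refine Subgroup.mem_normalizer_iff.2 fun x => ⟨fun hx => h.mem_of_commute hv hv1 ?_, fun hx => ?_⟩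
  · rw [← hg]
    calc g * x * g⁻¹ * (g * u * g⁻¹) = g * (x * u) * g⁻¹ := by group
      _ = g * (u * x) * g⁻¹ := by rw [h.comm x hx u hu]
      _ = _ := by group
  · refine h.mem_of_commute hu hu1 ?_
    have := h.comm _ hx v hv
    rw [← hg] at this
    calc x * u = g⁻¹ * (g * x * g⁻¹ * (g * u * g⁻¹)) * g := by group
      _ = g⁻¹ * (g * u * g⁻¹ * (g * x * g⁻¹)) * g := by rw [this]
      _ = u * x := by group

theorem Conf.card_coset (h : Conf S) {u s : G} (hu : u ∈ S) (hu1 : u ≠ 1) (hs : IsConj u s) :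
    Nat.card {g : G // g * u * g⁻¹ = s} = 9 := by
  obtain ⟨x, hx⟩ := isConj_iff.1 hs
  rw [← h.card]
  refine (Nat.card_congr (Equiv.ofBijective (fun t : S => (⟨x * t, ?_⟩ : {g : G // g * u * g⁻¹ = s}))
    ⟨fun a b hab => Subtype.ext (mul_left_cancel (congrArg Subtype.val hab)), fun g => ⟨⟨x⁻¹ * g, ?_⟩, Subtype.ext (by simp)⟩⟩)).symm
  · rw [← hx]
    calc x * t * u * (x * t)⁻¹ = x * ((t : G) * u * (t : G)⁻¹) * x⁻¹ := by group
      _ = x * u * x⁻¹ := by rw [h.comm _ t.2 u hu, mul_inv_cancel_right]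
  · refine h.mem_of_commute hu hu1 ?_
    have e : (g : G) * u * (g : G)⁻¹ = x * u * x⁻¹ := by rw [g.2, hx]
    calc x⁻¹ * g * u = x⁻¹ * ((g : G) * u * (g : G)⁻¹) * g := by group
      _ = u * (x⁻¹ * g) := by rw [e]; group

/-- The conjugates of `u` in `S`. -/
noncomputable def cls (S : Subgroup G) (u : G) : Finset G :=
  haveI := Fintype.ofFinite G
  haveI := Classical.decPred fun v : G => v ∈ S ∧ IsConj u v
  Finset.univ.filter fun v => v ∈ S ∧ IsConj u v

theorem mem_cls {u v : G} : v ∈ cls S u ↔ v ∈ S ∧ IsConj u v := by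
  classical
  simp [cls]

theorem Conf.card_cls (h : Conf S) {u : G} (hu : u ∈ S) (hu1 : u ≠ 1) :
    (cls S u).card * 9 = Nat.card (Subgroup.normalizer (S : Set G)) := by
  classical
  haveI := Fintype.ofFinite G
  symm
  rw [Nat.card_eq_fintype_card, Fintype.card_subtype,
    Finset.card_eq_sum_card_fiberwise (f := fun g : G => g * u * g⁻¹) (t := cls S u) (fun g hg => by
      simp only [Finset.coe_filter, Finset.mem_univ, true_and, Set.mem_setOf_eq] at hg
      exact mem_cls.2 ⟨(Subgroup.mem_normalizer_iff.1 hg u).1 hu, isConj_iff.2 ⟨g, rfl⟩⟩),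
    Finset.sum_const_nat (m := 9)]
  intro s hs
  obtain ⟨hsS, hsc⟩ := mem_cls.1 hs
  rw [← h.card_coset hu hu1 hsc, Nat.card_eq_fintype_card, Fintype.card_subtype, Finset.filter_filter]
  congr 1
  refine Finset.filter_congr fun g _ => ⟨fun hg => hg.2, fun hg => ⟨h.fusion hu hu1 hsS hg, hg⟩⟩

theorem Conf.exists_invert (h : Conf S) (heven : Even (Nat.card (Subgroup.normalizer (S : Set G))))
    {s : G} (hs : s ∈ S) : IsConj s s⁻¹ := by
  haveI : Fact (Nat.Prime 2) := ⟨Nat.prime_two⟩
  obtain ⟨j, hj⟩ := exists_prime_orderOf_dvd_card' (G := Subgroup.normalizer (S : Set G)) 2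
    (even_iff_two_dvd.1 heven)
  rw [← Subgroup.orderOf_coe] at hj
  have hj2 : (j : G) * j = 1 := by rw [← sq, ← hj]; exact pow_orderOf_eq_one _
  have hji : (j : G)⁻¹ = j := inv_eq_of_mul_eq_one_right hj2
  refine isConj_iff.2 ⟨j, ?_⟩
  have hm : (j : G) * s * (j : G)⁻¹ ∈ S := (Subgroup.mem_normalizer_iff.1 j.2 s).1 hs
  rw [hji] at hm ⊢
  set t := s * ((j : G) * s * j) with ht
  have htS : t ∈ S := S.mul_mem hs hm
  have htj : (j : G) * t = t * j := by
    calc (j : G) * t = (j : G) * s * j * ((j : G) * j) * s * j := by rw [ht, hj2]; group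
      _ = ((j : G) * s * j) * s * j := by rw [hj2, mul_one]
      _ = t * j := by rw [ht, h.comm _ hm s hs]
  by_contra hne
  have ht1 : t ≠ 1 := fun e => hne (eq_inv_of_mul_eq_one_right e)
  have hjS := h.mem_of_commute htS ht1 htj
  rw [h.orderOf_eq hjS (fun e => by rw [e, orderOf_one] at hj; norm_num at hj)] at hj
  norm_num at hj

theorem Conf.exists_int (h : Conf S) (heven : Even (Nat.card (Subgroup.normalizer (S : Set G))))
    {u : G} (hu : u ∈ S) (hu1 : u ≠ 1) (χ : Cfsg.IrrCharacter G) :
    ∃ a : ℤ, (χ : G → ℂ) u = a ∧ ∃ m : ℤ, (Cfsg.charDegree (χ : G → ℂ) : ℤ) + 2 * a = 3 * m := by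
  classical
  haveI := Fintype.ofFinite G
  have hχ := ClassAlgebraVal.irr_isCharacter χ
  have hord := h.orderOf_eq hu hu1
  obtain ⟨m, hm⟩ := ClassAlgebraVal.exists_sum_subgroup hχ (Subgroup.zpowers u)
  have hinv : (χ : G → ℂ) u⁻¹ = (χ : G → ℂ) u :=
    (ClassAlgebraVal.irr_conj χ (h.exists_invert heven hu)).symm
  have hne : u ≠ u⁻¹ := fun e => by
    have : u * u = 1 := by nth_rewrite 2 [e]; exact mul_inv_cancel u
    rw [← sq] at this
    have := orderOf_dvd_of_pow_eq_one this
    rw [hord] at this; norm_num at this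
  have hset : (Finset.univ.filter fun g => g ∈ Subgroup.zpowers u) = {1, u, u⁻¹} := by
    symm
    refine Finset.eq_of_subset_of_card_le (fun g hg => ?_) ?_
    · simp only [Finset.mem_insert, Finset.mem_singleton] at hg
      rcases hg with rfl | rfl | rfl <;> simp [Subgroup.mem_zpowers]
    · rw [← Fintype.card_subtype, ← Nat.card_eq_fintype_card, Nat.card_zpowers, hord,
        Finset.card_insert_of_notMem (by simp [hu1, Ne.symm hu1]), Finset.card_pair hne]
  rw [← Finset.sum_subtype (Finset.univ.filter fun g => g ∈ Subgroup.zpowers u) (by simp)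
      (fun g => conj ((χ : G → ℂ) g)), hset, Finset.sum_insert (by simp [hu1, Ne.symm hu1]),
    Finset.sum_pair hne, hinv, ClassAlgebraVal.apply_one_eq_charDegree, Nat.card_zpowers, hord] at hm
  have hm' := congrArg conj hm
  simp only [map_add, Complex.conj_conj, map_natCast, map_mul, map_ofNat] at hm'
  set d := Cfsg.charDegree (χ : G → ℂ)
  obtain ⟨j, hj⟩ : ∃ j : ℤ, (3 * (m : ℤ) - d) = 2 * j := by
    refine Int.even_iff.2 ?_ |>.two_dvd
    by_contra hodd
    have hint : IsIntegral ℤ ((χ : G → ℂ) u - ((3 * (m : ℤ) - d) / 2 : ℤ)) :=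
      (isCharacter_integral hχ u).sub isIntegral_algebraMap
    have hhalf : (χ : G → ℂ) u - ((((3 * (m : ℤ) - d) / 2 : ℤ)) : ℂ) = 1 / 2 := by
      have e : (3 * (m : ℤ) - d) = 2 * ((3 * (m : ℤ) - d) / 2) + 1 := by omega
      have e' := congrArg (fun z : ℤ => (z : ℂ)) e
      push_cast at e'
      linear_combination (hm' + e') / 2
    rw [hhalf] at hint
    exact absurd (ClassAlgebraVal.dvd_of_integral (n := 1) (d := 2) (by norm_num) hint (by norm_num)) (by norm_num)
  refine ⟨j, ?_, m, by omega⟩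
  have e' := congrArg (fun z : ℤ => (z : ℂ)) hj
  push_cast at e'
  linear_combination (hm' + e') / 2

theorem two_le_degree [IsSimpleGroup G] (hG : ¬ IsMulCommutative G) {χ : Cfsg.IrrCharacter G}
    (hχ : χ ≠ trivIrr G) : 2 ≤ Cfsg.charDegree (χ : G → ℂ) := by
  by_contra hlt
  have h1 : Cfsg.charDegree (χ : G → ℂ) = 1 := by
    have := ClassAlgebraVal.charDegree_pos χ
    omega
  obtain ⟨lam, hlam⟩ := CharBasicLinear.exists_hom_of_apply_one_eq_one (ClassAlgebraVal.irr_isCharacter χ)
    (by rw [ClassAlgebraVal.apply_one_eq_charDegree, h1, Nat.cast_one])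
  refine hχ (Subtype.ext ?_)
  rw [hlam]
  funext g
  rw [Simple360.hom_comm_eq_one hG lam g]
  rfl

theorem Conf.card_count (h : Conf S) {u c : G} (hu : u ∈ S) (hu1 : u ≠ 1) (hc : c ∈ S)
    (hn : ¬ IsConj (u * u) c) (F : Finset G) (hF : ∀ s, s ∈ F ↔ (s ∈ S ∧ IsConj u s ∧ IsConj c (u * s))) :
    Nat.card {x : G // IsConj c (u * (x * u * x⁻¹))} = F.card * 9 := by
  classical
  haveI := Fintype.ofFinite G
  rw [Nat.card_eq_fintype_card, Fintype.card_subtype,
    Finset.card_eq_sum_card_fiberwise (f := fun g : G => g * u * g⁻¹) (t := F) (fun g hg => by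
      simp only [Finset.coe_filter, Finset.mem_univ, true_and, Set.mem_setOf_eq] at hg
      refine (hF _).2 ⟨h.triangle hu hu1 ?_ ?_ ?_, isConj_iff.2 ⟨g, rfl⟩, hg⟩
      · rw [conj_pow, h.exp u hu, mul_one, mul_inv_cancel]
      · obtain ⟨y, hy⟩ := isConj_iff.1 hg
        rw [← hy, conj_pow, h.exp c hc, mul_one, mul_inv_cancel]
      · exact fun e => hn (e.trans hg.symm)),
    Finset.sum_const_nat (m := 9)]
  intro s hs
  obtain ⟨-, hsc, hcs⟩ := (hF s).1 hs
  rw [← h.card_coset hu hu1 hsc, Nat.card_eq_fintype_card, Fintype.card_subtype, Finset.filter_filter]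
  congr 1
  exact Finset.filter_congr fun g _ => ⟨fun hg => hg.2, fun hg => ⟨hg ▸ hcs, hg⟩⟩

/-- The class of `u` and the relevant integer column. -/
structure Col (S : Subgroup G) (u : G) (a : Cfsg.IrrCharacter G → ℤ) : Prop where
  mem : u ∈ S
  ne : u ≠ 1
  val : ∀ χ : Cfsg.IrrCharacter G, (χ : G → ℂ) u = a χ

theorem Conf.gram (h : Conf S) {u v : G} {a b : Cfsg.IrrCharacter G → ℤ} (ha : Col S u a)
    (hb : Col S v b) [Decidable (IsConj u v)] :
    ∑ χ, a χ * b χ = if IsConj u v then 9 else 0 := by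
  have e := sum_irr_mul_conj u v
  rw [h.cent u ha.mem ha.ne, h.card] at e
  simp only [ha.val, hb.val, map_intCast] at e
  apply Int.cast_injective (α := ℂ)
  push_cast
  rw [e]
  split_ifs <;> norm_num

theorem Conf.degree_orth (_h : Conf S) {u : G} {a : Cfsg.IrrCharacter G → ℤ} (ha : Col S u a) :
    ∑ χ : Cfsg.IrrCharacter G, (Cfsg.charDegree (χ : G → ℂ) : ℤ) * a χ = 0 := by
  classical
  have e := sum_irr_mul_conj (1 : G) u
  rw [if_neg (fun e => ha.ne (isConj_one_right.1 e))] at e
  simp only [ha.val, map_intCast, ClassAlgebraVal.apply_one_eq_charDegree] at e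
  apply Int.cast_injective (α := ℂ)
  push_cast
  exact e

theorem Conf.triple_eq (h : Conf S) {u v : G} {a b : Cfsg.IrrCharacter G → ℤ} (ha : Col S u a)
    (hb : Col S v b) [Fintype G] :
    ∑ χ : Cfsg.IrrCharacter G, ((a χ : ℚ) * a χ * b χ / ((Cfsg.charDegree (χ : G → ℂ) : ℤ) : ℚ)) =
      9 * (Nat.card {x : G // IsConj v (u * (x * u * x⁻¹))} : ℚ) / (Nat.card G : ℚ) := by
  have e := ClassAlgebraVal.sum_irr_triple u u v
  rw [h.cent v hb.mem hb.ne, h.card] at e
  simp only [ha.val, hb.val, map_intCast, ClassAlgebraVal.apply_one_eq_charDegree] at e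
  apply Rat.cast_injective (α := ℂ)
  push_cast at e ⊢
  exact e

theorem card_eq [IsSimpleGroup G] (hG : ¬ IsMulCommutative G) (h : Conf S) (P : Sylow 3 G)
    (hP : S = (P : Subgroup G))
    (hcl : ∃ a b : G, orderOf a = 3 ∧ orderOf b = 3 ∧ ∀ g : G, g * a * g⁻¹ ≠ b) :
    Nat.card G = 360 := by
  classical
  haveI := Fintype.ofFinite G
  haveI : Fact (Nat.Prime 3) := ⟨Nat.prime_three⟩
  -- two classes in `S`
  have into : ∀ x : G, orderOf x = 3 → ∃ s ∈ S, IsConj x s ∧ s ≠ 1 := by
    intro x hx
    have hp : IsPGroup 3 (Subgroup.zpowers x) := IsPGroup.of_card (n := 1) (by rw [Nat.card_zpowers, hx, pow_one])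
    obtain ⟨Q, hQ⟩ := hp.exists_le_sylow
    obtain ⟨g, hg⟩ := MulAction.exists_smul_eq G Q P
    refine ⟨g * x * g⁻¹, ?_, isConj_iff.2 ⟨g, rfl⟩, ?_⟩
    · rw [hP, ← hg]
      exact Subgroup.smul_mem_pointwise_smul x (MulAut.conj g) (Q : Subgroup G) (hQ (Subgroup.mem_zpowers x))
    · intro e
      rw [conj_eq_one_iff] at e
      rw [e, orderOf_one] at hx; norm_num at hx
  obtain ⟨u, v₀, hu, hu1, hv₀, hv₀1, hnc⟩ : ∃ u v : G, u ∈ S ∧ u ≠ 1 ∧ v ∈ S ∧ v ≠ 1 ∧ ¬ IsConj u v := by
    obtain ⟨a, b, ha, hb, hab⟩ := hcl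
    obtain ⟨s, hs, hsa, hs1⟩ := into a ha
    obtain ⟨t, ht, htb, ht1⟩ := into b hb
    refine ⟨s, t, hs, hs1, ht, ht1, fun e => ?_⟩
    obtain ⟨g, hg⟩ := isConj_iff.1 ((hsa.trans e).trans htb.symm)
    exact hab g hg
  set N := Subgroup.normalizer (S : Set G) with hN
  obtain ⟨k, hk⟩ : ∃ k, (cls S u).card = k := ⟨_, rfl⟩
  have hkN : Nat.card N = k * 9 := by rw [← hk, h.card_cls hu hu1]
  have hcard : ∀ s ∈ S, s ≠ 1 → (cls S s).card = k := fun s hs hs1 => by
    have := h.card_cls hs hs1
    rw [← hN, hkN] at this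
    omega
  set S' := (Finset.univ.filter fun s => s ∈ S).erase 1 with hS'
  have hS'c : S'.card = 8 := by
    rw [hS', Finset.card_erase_of_mem (by simp), ← Fintype.card_subtype, ← Nat.card_eq_fintype_card, h.card]
  have hsub : ∀ s ∈ S, s ≠ 1 → cls S s ⊆ S' := fun s _ hs1 t ht => by
    obtain ⟨htS, hst⟩ := mem_cls.1 ht
    refine Finset.mem_erase.2 ⟨fun e => hs1 ?_, by simp [htS]⟩
    subst e
    exact isConj_one_left.1 hst
  have hkpos : 0 < k := hk ▸ Finset.card_pos.2 ⟨u, mem_cls.2 ⟨hu, IsConj.refl u⟩⟩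
  have hdisj : ∀ s t : G, ¬ IsConj s t → Disjoint (cls S s) (cls S t) := fun s t hst => by
    rw [Finset.disjoint_left]
    exact fun x hx hx' => hst ((mem_cls.1 hx).2.trans (mem_cls.1 hx').2.symm)
  have hk4 : k ≤ 4 := by
    have := Finset.card_le_card (Finset.union_subset (hsub u hu hu1) (hsub v₀ hv₀ hv₀1))
    rw [Finset.card_union_of_disjoint (hdisj u v₀ hnc), hk, hcard v₀ hv₀ hv₀1, hS'c] at this
    omega
  have hdvd : k ∣ 8 := by
    rw [← hS'c, Finset.card_eq_sum_card_fiberwise (f := fun s => cls S s) (t := S'.image (fun s => cls S s))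
      (fun s hs => Finset.mem_image_of_mem _ hs)]
    refine Finset.dvd_sum fun T hT => ?_
    obtain ⟨s, hs, rfl⟩ := Finset.mem_image.1 hT
    have hsS : s ∈ S := by simpa using (Finset.mem_erase.1 hs).2
    have hs1 := (Finset.mem_erase.1 hs).1
    suffices e : (S'.filter fun x => cls S x = cls S s) = cls S s by rw [e, hcard s hsS hs1]
    ext x
    rw [Finset.mem_filter]
    constructor
    · rintro ⟨hx, e⟩
      rw [← e]
      exact mem_cls.2 ⟨by simpa using (Finset.mem_erase.1 hx).2, IsConj.refl x⟩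
    · intro hx
      refine ⟨hsub s hsS hs1 hx, ?_⟩
      ext y
      simp only [mem_cls]
      exact and_congr_right fun _ => ⟨fun e => (mem_cls.1 hx).2.trans e, fun e => (mem_cls.1 hx).2.symm.trans e⟩
  have hkne1 : k ≠ 1 := by
    intro e
    have hNS : N = S := (Subgroup.eq_of_le_of_card_ge Subgroup.le_normalizer (by rw [hkN, e, h.card])).symm
    have hle : Subgroup.normalizer ((P : Subgroup G) : Set G) ≤ Subgroup.centralizer ((P : Subgroup G) : Set G) := by
      rw [← hP, ← hN, hNS]
      exact fun x hx => Subgroup.mem_centralizer_iff.2 fun y hy => h.comm y hy x hx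
    have hco := MonoidHom.ker_transferSylow_isComplement' P hle
    rcases Subgroup.Normal.eq_bot_or_eq_top (MonoidHom.normal_ker (MonoidHom.transferSylow P hle)) with hb | hb
    · rw [hb, Subgroup.isComplement'_bot_left, ← hP] at hco
      exact hG ⟨⟨fun a b => h.comm a (hco ▸ Subgroup.mem_top a) b (hco ▸ Subgroup.mem_top b)⟩⟩
    · rw [hb, Subgroup.isComplement'_top_left, ← hP] at hco
      exact hu1 (by simpa [hco] using hu)
  have hk24 : k = 2 ∨ k = 4 := by
    obtain ⟨l, hl⟩ := hdvd
    interval_cases k <;> omega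
  have heven : Even (Nat.card N) := by rw [hkN]; rcases hk24 with e | e <;> rw [e] <;> decide
  have hinv : ∀ s ∈ S, IsConj s s⁻¹ := fun s hs => h.exists_invert heven hs
  have hsq : ∀ s ∈ S, s * s = s⁻¹ := fun s hs =>
    eq_inv_of_mul_eq_one_left (by rw [← pow_three']; exact h.exp s hs)
  have hne_inv : ∀ s ∈ S, s ≠ 1 → s ≠ s⁻¹ := by
    intro s hs hs1 e
    rw [← hsq s hs] at e
    exact hs1 (left_eq_mul.1 e)
  have hexcol : ∀ s ∈ S, s ≠ 1 → ∃ a, Col S s a ∧ ∀ χ : Cfsg.IrrCharacter G,
      (3 : ℤ) ∣ (Cfsg.charDegree (χ : G → ℂ) : ℤ) + 2 * a χ := by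
    intro s hs hs1
    choose a ha m hm using fun χ => h.exists_int heven hs hs1 χ
    exact ⟨a, ⟨hs, hs1, ha⟩, fun χ => ⟨m χ, hm χ⟩⟩
  set o := trivIrr G
  have hdo : (Cfsg.charDegree (o : G → ℂ) : ℤ) = 1 := by
    apply Int.cast_injective (α := ℂ)
    push_cast
    rw [← ClassAlgebraVal.apply_one_eq_charDegree]
    rfl
  have hao : ∀ {s : G} {a : Cfsg.IrrCharacter G → ℤ}, Col S s a → a o = 1 := fun ha => by
    apply Int.cast_injective (α := ℂ)
    rw [← ha.val o, Int.cast_one]
    rfl
  have hd : ∀ χ : Cfsg.IrrCharacter G, χ ≠ o → (2 : ℤ) ≤ (Cfsg.charDegree (χ : G → ℂ) : ℤ) :=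
    fun χ hχ => by exact_mod_cast two_le_degree hG hχ
  rcases hk24 with hk2 | hk4'
  · -- four classes
    exfalso
    have hcls : ∀ s ∈ S, s ≠ 1 → ∀ t, t ∈ cls S s → t = s ∨ t = s⁻¹ := by
      intro s hs hs1 t ht
      have e : ({s, s⁻¹} : Finset G) = cls S s := Finset.eq_of_subset_of_card_le (by
          intro x hx
          simp only [Finset.mem_insert, Finset.mem_singleton] at hx
          rcases hx with rfl | rfl
          · exact mem_cls.2 ⟨hs, IsConj.refl _⟩
          · exact mem_cls.2 ⟨S.inv_mem hs, hinv _ hs⟩)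
        (by rw [hcard s hs hs1, hk2, Finset.card_pair (hne_inv s hs hs1)])
      rw [← e] at ht
      simpa using ht
    obtain ⟨v, hvd⟩ : ∃ v, v = v₀ := ⟨_, rfl⟩
    subst hvd
    have hvu : v ≠ u ∧ v ≠ u⁻¹ :=
      ⟨fun e => hnc (e ▸ IsConj.refl u), fun e => hnc (e ▸ hinv u hu)⟩
    have hcm := h.comm u hu v hv₀
    have hu3 : u * u * u = 1 := by rw [← pow_three']; exact h.exp u hu
    let f : Fin 4 → G := ![u, v, u * v, u * v⁻¹]
    have hfS : ∀ j, f j ∈ S ∧ f j ≠ 1 := by
      intro j
      fin_cases j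
      · exact ⟨hu, hu1⟩
      · exact ⟨hv₀, hv₀1⟩
      · exact ⟨S.mul_mem hu hv₀, fun e => hvu.2 (eq_inv_of_mul_eq_one_right e)⟩
      · exact ⟨S.mul_mem hu (S.inv_mem hv₀), fun e => hvu.1 (inv_injective (eq_inv_of_mul_eq_one_right e))⟩
    have hfnc : ∀ j l, j ≠ l → ¬ IsConj (f j) (f l) := by
      have main : ∀ j l, j < l → ¬ IsConj (f j) (f l) := by
        intro j l hjl e
        have hh := hcls _ (hfS j).1 (hfS j).2 _ (mem_cls.2 ⟨(hfS l).1, e⟩)
        fin_cases j <;> fin_cases l <;> simp [f] at hjl hh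
        · rcases hh with e' | e'
          · exact hvu.1 e'
          · exact hvu.2 e'
        · rcases hh with e' | e'
          · exact hv₀1 e'
          · rw [← hsq u hu] at e'
            exact hvu.1 (mul_left_cancel e')
        · rcases hh with e' | e'
          · exact hv₀1 (by simpa using e')
          · rw [← hsq u hu] at e'
            exact hvu.2 (inv_eq_iff_eq_inv.1 (mul_left_cancel e'))
        · rcases hh with e' | e'
          · exact hu1 (by simpa using e')
          · rw [← hsq v hv₀] at e'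
            exact hvu.1 (mul_right_cancel e').symm
        · rcases hh with e' | e'
          · have : u = v * v := by
              calc u = u * v⁻¹ * v := by group
                _ = v * v := by rw [e']
            rw [hsq v hv₀] at this
            exact hvu.2 (by rw [this, inv_inv])
          · exact hu1 (by simpa using e')
        · rcases hh with e' | e'
          · exact hne_inv v hv₀ hv₀1 e'.symm
          · have : u * u = 1 := by
              calc u * u = (u * v⁻¹) * (u * v) := by
                    rw [mul_assoc u v⁻¹, ← mul_assoc v⁻¹ u v]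
                    rw [show v⁻¹ * u * v = u by rw [mul_assoc, hcm, inv_mul_cancel_left]]
                _ = 1 := by rw [e']; group
            rw [hsq u hu, inv_eq_one] at this
            exact hu1 this
      intro j l hjl
      rcases lt_or_gt_of_ne hjl with h' | h'
      · exact main j l h'
      · exact fun e => main l j h' e.symm
    choose A hA h3A using fun j => hexcol (f j) (hfS j).1 (hfS j).2
    refine SelfCentNineArith64.false_of_four (o := o)
      (d := fun χ : Cfsg.IrrCharacter G => (Cfsg.charDegree (χ : G → ℂ) : ℤ)) A ?_ ?_ ?_ (fun j => hao (hA j))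
      hdo ?_ hd ?_
    · intro j; rw [h.gram (hA j) (hA j), if_pos (IsConj.refl _)]
    · intro j l hjl; rw [h.gram (hA j) (hA l), if_neg (hfnc j l hjl)]
    · exact fun j => h.degree_orth (hA j)
    · intro j l χ
      have := h3A j χ
      have := h3A l χ
      omega
    · have hzero : Nat.card {x : G // IsConj v (u * (x * u * x⁻¹))} = 0 * 9 := by
        rw [h.card_count hu hu1 hv₀ (by rw [hsq u hu]; exact fun e => hnc ((hinv u hu).trans e)) ∅ ?_]
        · rfl
        intro s
        refine ⟨fun hs => absurd hs (Finset.notMem_empty s), ?_⟩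
        rintro ⟨hs, hus, hvs⟩
        exfalso
        rcases hcls u hu hu1 s (mem_cls.2 ⟨hs, hus⟩) with e | e <;> rw [e] at hvs
        · rw [hsq u hu] at hvs; exact hnc ((hinv u hu).trans hvs.symm)
        · rw [mul_inv_cancel] at hvs; exact hv₀1 (isConj_one_left.1 hvs)
      have := h.triple_eq (hA 0) (hA 1)
      simp only [f, Matrix.cons_val_zero, Matrix.cons_val_one] at this
      rw [hzero] at this
      simpa using this
  · -- two classes
    obtain ⟨v, hv, hvne⟩ : ∃ v ∈ cls S u, v ≠ u ∧ v ≠ u⁻¹ := by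
      by_contra hc
      push Not at hc
      have := Finset.card_le_card (show cls S u ⊆ {u, u⁻¹} from fun x hx => by
        simp only [Finset.mem_insert, Finset.mem_singleton]
        by_cases e : x = u
        · exact Or.inl e
        · exact Or.inr (hc x hx e))
      rw [hk, hk4', Finset.card_pair (hne_inv u hu hu1)] at this
      omega
    obtain ⟨hvS, huv⟩ := mem_cls.1 hv
    have hv1 : v ≠ 1 := fun e => hu1 (by subst e; exact isConj_one_left.1 huv)
    have hcm := h.comm u hu v hvS
    have hset : ({u, u⁻¹, v, v⁻¹} : Finset G) = cls S u := by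
      refine Finset.eq_of_subset_of_card_le (fun x hx => ?_) ?_
      · simp only [Finset.mem_insert, Finset.mem_singleton] at hx
        rcases hx with rfl | rfl | rfl | rfl
        · exact mem_cls.2 ⟨hu, IsConj.refl _⟩
        · exact mem_cls.2 ⟨S.inv_mem hu, hinv _ hu⟩
        · exact hv
        · exact mem_cls.2 ⟨S.inv_mem hvS, huv.trans (hinv _ hvS)⟩
      · rw [hk, hk4', Finset.card_insert_of_notMem, Finset.card_insert_of_notMem,
          Finset.card_pair (hne_inv v hvS hv1)]
        · simp only [Finset.mem_insert, Finset.mem_singleton, inv_inj]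
          rintro (e | e)
          · exact hvne.2 e.symm
          · exact hvne.1 e.symm
        · simp only [Finset.mem_insert, Finset.mem_singleton]
          rintro (e | e | e)
          · exact hne_inv u hu hu1 e
          · exact hvne.1 e.symm
          · exact hvne.2 (by rw [e, inv_inv])
    have hu3 : u * u = u⁻¹ := hsq u hu
    have hw : ∀ t ∈ ({v, v⁻¹} : Finset G), u * t ∈ S ∧ u * t ≠ 1 ∧ ¬ IsConj u (u * t) := by
      intro t ht
      simp only [Finset.mem_insert, Finset.mem_singleton] at ht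
      have htS : t ∈ S := by rcases ht with e | e <;> rw [e] <;> [exact hvS; exact S.inv_mem hvS]
      have ht' : t ≠ 1 ∧ t ≠ u ∧ t ≠ u⁻¹ := by
        rcases ht with e | e <;> rw [e]
        · exact ⟨hv1, hvne.1, hvne.2⟩
        · exact ⟨inv_ne_one.2 hv1, fun e' => hvne.2 (by rw [← e', inv_inv]),
            fun e' => hvne.1 (inv_injective e')⟩
      refine ⟨S.mul_mem hu htS, fun e => ht'.2.2 (eq_inv_of_mul_eq_one_right e), fun e => ?_⟩
      have hmem : u * t ∈ cls S u := mem_cls.2 ⟨S.mul_mem hu htS, e⟩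
      rw [← hset] at hmem
      simp only [Finset.mem_insert, Finset.mem_singleton] at hmem
      rcases hmem with e' | e' | e' | e'
      · exact ht'.1 (mul_eq_left.1 e')
      · rw [← hu3] at e'; exact ht'.2.1 (mul_left_cancel e')
      · rcases ht with r | r <;> rw [r] at e'
        · exact hu1 (mul_eq_right.1 e')
        · have : u = v * v := by
            calc u = u * v⁻¹ * v := by group
              _ = v * v := by rw [e']
          rw [hsq v hvS] at this
          exact hvne.2 (by rw [this, inv_inv])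
      · rcases ht with r | r <;> rw [r] at e'
        · have : u = v⁻¹ * v⁻¹ := by
            calc u = u * v * v⁻¹ := by group
              _ = v⁻¹ * v⁻¹ := by rw [e']
          rw [← mul_inv_rev, hsq v hvS, inv_inv] at this
          exact hvne.1 this.symm
        · exact hu1 (mul_eq_right.1 e')
    obtain ⟨hwS, hw1, hwn⟩ := hw v (by simp)
    set w := u * v with hwdef
    have hall : S' = cls S u ∪ cls S w := (Finset.eq_of_subset_of_card_le
      (Finset.union_subset (hsub u hu hu1) (hsub w hwS hw1))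
      (by rw [Finset.card_union_of_disjoint (hdisj u w hwn), hk, hcard w hwS hw1, hS'c]; omega)).symm
    have hwconj : ∀ x ∈ S, x ≠ 1 → ¬ IsConj u x → IsConj w x := by
      intro x hx hx1 hxu
      have : x ∈ S' := Finset.mem_erase.2 ⟨hx1, by simp [hx]⟩
      rw [hall, Finset.mem_union] at this
      rcases this with e | e
      · exact absurd (mem_cls.1 e).2 hxu
      · exact (mem_cls.1 e).2
    obtain ⟨a, ha, h3a⟩ := hexcol u hu hu1
    obtain ⟨b, hb, h3b⟩ := hexcol w hwS hw1
    have h9 : ∀ χ : Cfsg.IrrCharacter G, (9 : ℤ) ∣ (Cfsg.charDegree (χ : G → ℂ) : ℤ) + 4 * (a χ + b χ) := by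
      intro χ
      obtain ⟨m, hm⟩ := ClassAlgebraVal.exists_sum_subgroup (ClassAlgebraVal.irr_isCharacter χ) S
      rw [← Finset.sum_subtype (Finset.univ.filter fun g => g ∈ S) (by simp)
          (fun g => conj ((χ : G → ℂ) g)), ← Finset.add_sum_erase _ _ (show (1 : G) ∈ _ by simp),
        ← hS', hall, Finset.sum_union (hdisj u w hwn), h.card] at hm
      rw [Finset.sum_congr rfl (fun x hx => show conj ((χ : G → ℂ) x) = (a χ : ℂ) by
          rw [← ClassAlgebraVal.irr_conj χ (mem_cls.1 hx).2, ha.val, map_intCast]),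
        Finset.sum_congr rfl (fun x hx => show conj ((χ : G → ℂ) x) = (b χ : ℂ) by
          rw [← ClassAlgebraVal.irr_conj χ (mem_cls.1 hx).2, hb.val, map_intCast]),
        Finset.sum_const, Finset.sum_const, hk, hcard w hwS hw1, hk4',
        ClassAlgebraVal.apply_one_eq_charDegree, map_natCast] at hm
      refine ⟨m, Int.cast_injective (α := ℂ) ?_⟩
      push_cast
      simp only [nsmul_eq_mul] at hm
      push_cast at hm
      linear_combination hm
    have hbound := SelfCentNineArith64.bound_two (o := o)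
      (d := fun χ : Cfsg.IrrCharacter G => (Cfsg.charDegree (χ : G → ℂ) : ℤ)) (a := a) (b := b)
      (by rw [h.gram ha ha, if_pos (IsConj.refl _)]) (by rw [h.gram hb hb, if_pos (IsConj.refl _)])
      (by rw [h.gram ha hb, if_neg hwn]) (h.degree_orth ha) (h.degree_orth hb) (hao ha) (hao hb) hdo
      (fun χ => by have := h3a χ; have := h3b χ; omega) hd h9
    have hcount : Nat.card {x : G // IsConj w (u * (x * u * x⁻¹))} = ({v, v⁻¹} : Finset G).card * 9 := by
      refine h.card_count hu hu1 hwS (by rw [hu3]; exact fun e => hwn ((hinv u hu).trans e)) _ fun s => ?_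
      constructor
      · intro hs
        obtain ⟨h1, h2, h3⟩ := hw s hs
        have hsm : s ∈ cls S u := by
          rw [← hset]; simp only [Finset.mem_insert, Finset.mem_singleton] at hs ⊢; tauto
        exact ⟨(mem_cls.1 hsm).1, (mem_cls.1 hsm).2, hwconj _ h1 h2 h3⟩
      · rintro ⟨hs, hus, hws⟩
        have hsm : s ∈ cls S u := mem_cls.2 ⟨hs, hus⟩
        rw [← hset] at hsm
        simp only [Finset.mem_insert, Finset.mem_singleton] at hsm ⊢
        rcases hsm with e | e | e | e
        · exfalso; subst e; rw [hu3] at hws; exact hwn ((hinv _ hu).trans hws.symm)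
        · exfalso; subst e; rw [mul_inv_cancel] at hws; exact hw1 (isConj_one_left.1 hws)
        · exact Or.inl e
        · exact Or.inr e
    rw [Finset.card_pair (hne_inv v hvS hv1)] at hcount
    rw [h.triple_eq ha hb, hcount] at hbound
    have hle : Nat.card G ≤ 720 := by
      have hpos : (0 : ℚ) < Nat.card G := by exact_mod_cast Nat.card_pos
      rw [le_div_iff₀ hpos] at hbound
      have : (Nat.card G : ℚ) ≤ 720 := by push_cast at hbound; linarith
      exact_mod_cast this
    have hGN : Nat.card G = 36 * N.index := by rw [← N.card_mul_index, hkN, hk4']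
    -- `S` acts semiregularly on the other cosets of its normalizer
    have hmod : 9 ∣ N.index - 1 := by
      let X := {x : G ⧸ N // x ≠ (QuotientGroup.mk 1 : G ⧸ N)}
      have hfixed : ∀ s : G, s ∈ S → s • (QuotientGroup.mk 1 : G ⧸ N) = QuotientGroup.mk 1 := fun s hs =>
        QuotientGroup.eq.2 (by simpa using N.inv_mem (Subgroup.le_normalizer hs))
      letI : MulAction S X :=
        { smul := fun s x => ⟨(s : G) • x.1, fun e => x.2 (by
            have := congrArg (fun y => ((s : G))⁻¹ • y) e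
            rwa [inv_smul_smul, hfixed _ (S.inv_mem s.2)] at this)⟩
          one_smul := fun x => Subtype.ext (one_smul G x.1)
          mul_smul := fun s t x => Subtype.ext (mul_smul (s : G) (t : G) x.1) }
      have hfree : ∀ x : X, MulAction.stabilizer S x = ⊥ := by
        rintro ⟨x, hx⟩
        induction x using QuotientGroup.induction_on with
        | H g =>
          refine (Subgroup.eq_bot_iff_forall _).2 fun s hs => ?_
          by_contra hs1
          have h1 : (s : G) • (QuotientGroup.mk g : G ⧸ N) = QuotientGroup.mk g := congrArg Subtype.val hs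
          have h2 : ((s : G) * g)⁻¹ * g ∈ N := QuotientGroup.eq.1 h1
          have h3 : g⁻¹ * (s : G) * g ∈ N := by
            have := N.inv_mem h2
            simpa [mul_assoc] using this
          have hsne : (s : G) ≠ 1 := fun e => hs1 (Subtype.ext e)
          have h4 : g⁻¹ * (s : G) * g ∈ S := by
            have hord : orderOf (g⁻¹ * (s : G) * g) = 3 := by
              rw [show g⁻¹ * (s : G) * g = MulAut.conj g⁻¹ (s : G) by simp]
              rw [MulEquiv.orderOf_eq]
              exact h.orderOf_eq s.2 hsne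
            -- the only elements of order three in `N` lie in `S`
            haveI : (S.subgroupOf N).Normal := Subgroup.normal_in_normalizer
            have hidx : (S.subgroupOf N).index = 4 := by
              have e := (S.subgroupOf N).card_mul_index
              rw [Nat.card_congr (Subgroup.subgroupOfEquivOfLe Subgroup.le_normalizer).toEquiv, h.card,
                hkN, hk4'] at e
              omega
            set n : N := ⟨g⁻¹ * (s : G) * g, h3⟩
            have h5 : n ^ 4 ∈ S.subgroupOf N := hidx ▸ Subgroup.pow_index_mem _ n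
            have h6 : n ^ 4 = n := by
              apply Subtype.ext
              show (g⁻¹ * (s : G) * g) ^ 4 = _
              rw [pow_succ, ← hord, pow_orderOf_eq_one, one_mul]
            rwa [h6] at h5
          have h7 : g⁻¹ ∈ N := h.fusion s.2 hsne h4 (by rw [inv_inv])
          exact hx (QuotientGroup.eq.2 (by simpa using h7))
      have e := Nat.card_congr (MulAction.selfEquivOrbitsQuotientProd hfree)
      rw [Nat.card_prod, h.card] at e
      have e2 : Nat.card X = N.index - 1 := by
        haveI := Fintype.ofFinite (G ⧸ N)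
        rw [Nat.card_eq_fintype_card, Fintype.card_subtype_compl, Fintype.card_subtype_eq,
          ← Nat.card_eq_fintype_card, Subgroup.index]
      exact ⟨_, e2 ▸ (e.trans (mul_comm _ _))⟩
    have hne1 : N.index ≠ 1 := by
      intro e
      rw [Subgroup.index_eq_one] at e
      have : S.Normal := Subgroup.normalizer_eq_top_iff.1 e
      rcases Subgroup.Normal.eq_bot_or_eq_top this with hb | hb
      · exact hu1 (by simpa [hb] using hu)
      · exact hG ⟨⟨fun a b => h.comm a (hb ▸ Subgroup.mem_top a) b (hb ▸ Subgroup.mem_top b)⟩⟩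
    have hne19 : N.index ≠ 19 := by
      intro e
      rw [e] at hGN
      haveI : Fact (Nat.Prime 19) := ⟨by norm_num⟩
      let Q : Sylow 19 G := default
      have h1 := card_sylow_modEq_one 19 G
      have h2 := Q.card_dvd_index
      have hQc : Nat.card (Q : Subgroup G) = 19 := by
        rw [Q.card_eq_multiplicity, hGN, show (36 * 19 : ℕ) = 19 ^ 1 * 36 by norm_num,
          Nat.factorization_mul (by norm_num) (by norm_num), Finsupp.add_apply,
          Nat.Prime.factorization_pow (by norm_num), Nat.factorization_eq_zero_of_not_dvd (n := 36) (by norm_num)]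
        simp
      have hQi : (Q : Subgroup G).index = 36 := by
        have := (Q : Subgroup G).card_mul_index
        rw [hQc, hGN] at this
        omega
      rw [hQi] at h2
      have hle36 := Nat.le_of_dvd (by norm_num) h2
      have h19 : Nat.card (Sylow 19 G) = 1 := by
        unfold Nat.ModEq at h1
        interval_cases hh : Nat.card (Sylow 19 G) <;> omega
      haveI : Subsingleton (Sylow 19 G) := (Nat.card_eq_one_iff_unique.1 h19).1
      rcases Subgroup.Normal.eq_bot_or_eq_top (Sylow.normal_of_subsingleton Q) with hb | hb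
      · rw [hb, Subgroup.card_bot] at hQc; norm_num at hQc
      · rw [hb, Subgroup.card_top, hGN] at hQc; norm_num at hQc
    have hpos := Nat.pos_of_ne_zero (N.index_ne_zero_of_finite)
    omega

theorem nonempty_equiv_alternating [IsSimpleGroup G] (hG : ¬ IsMulCommutative G) (h : Conf S)
    (P : Sylow 3 G) (hP : S = (P : Subgroup G))
    (hcl : ∃ a b : G, orderOf a = 3 ∧ orderOf b = 3 ∧ ∀ g : G, g * a * g⁻¹ ≠ b) :
    Nonempty (G ≃* alternatingGroup (Fin 6)) :=
  Simple360.nonempty_equiv_alternating (card_eq hG h P hP hcl)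

end Cfsg.Agent.SelfCentNineA6Core64
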