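import Mathlib

/-!
A search for the multiplicities of rows with a prescribed total, arranged so that evaluation by the
kernel forces each state once and stops each loop at the first failure.
-/

set_option autoImplicit false

namespace Cfsg.Agent.GramSearch64

variable {S : Type}

/-- Increase the first entry. -/
def incHead : List ℕ → List ℕ
  | c :: cs => (c + 1) :: cs
  | [] => []

/-- The multiplicities of one row, from zero upwards while the state stays admissible. -/
def loop (step : S → S → S) (frc : S → (S → List (List ℕ)) → List (List ℕ)) (ok : S → Bool) (v : S) :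
    ℕ → (S → List (List ℕ)) → S → List (List ℕ)
  | 0, k, R => (k R).map (0 :: ·)
  | n + 1, k, R => (k R).map (0 :: ·) ++
      frc (step R v) fun R' => cond (ok R') ((loop step frc ok v n k R').map incHead) []

/-- The search. -/
def search (step : S → S → S) (frc : S → (S → List (List ℕ)) → List (List ℕ)) (ok fin : S → Bool)
    (b : ℕ) : List S → S → List (List ℕ)
  | [], R => cond (fin R) [[]] []
  | v :: t, R => loop step frc ok v b (search step frc ok fin b t) R

/-- Completeness, for any valuation `tot` of multiplicities compatible with the steps. -/
theorem mem_search {step : S → S → S} {frc : S → (S → List (List ℕ)) → List (List ℕ)}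
    (hfrc : ∀ R k, frc R k = k R) {ok fin : S → Bool} {b : ℕ} (tot : List ℕ → List S → S)
    (hfin : fin (tot [] []) = true) (hzero : ∀ cs v t, tot (0 :: cs) (v :: t) = tot cs t)
    (hstep : ∀ c cs v t, step (tot ((c + 1) :: cs) (v :: t)) v = tot (c :: cs) (v :: t))
    (good : List S → Prop) (htail : ∀ v t, good (v :: t) → good t)
    (hok : ∀ cs l, good l → ok (tot cs l) = true) :
    ∀ (l : List S), good l → ∀ cs : List ℕ, cs.length = l.length → (∀ c ∈ cs, c ≤ b) →
      cs ∈ search step frc ok fin b l (tot cs l) := by
  intro l
  induction l with
  | nil =>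
    intro _ cs hlen _
    obtain rfl := List.length_eq_zero_iff.1 hlen
    simp [search, hfin]
  | cons v t ih =>
    intro hg cs hlen hb
    rcases cs with _ | ⟨c, cs⟩
    · simp at hlen
    simp only [List.length_cons, Nat.add_right_cancel_iff] at hlen
    have hrec := ih (htail v t hg) cs hlen fun x hx => hb x (by simp [hx])
    have key : ∀ n c, c ≤ n → (c :: cs) ∈
        loop step frc ok v n (search step frc ok fin b t) (tot (c :: cs) (v :: t)) := by
      intro n
      induction n with
      | zero =>
        intro c hc
        obtain rfl : c = 0 := by omega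
        rw [loop, hzero]
        exact List.mem_map.2 ⟨cs, hrec, rfl⟩
      | succ n ihn =>
        intro c hc
        rw [loop, List.mem_append]
        rcases c with _ | c
        · rw [hzero]
          exact Or.inl (List.mem_map.2 ⟨cs, hrec, rfl⟩)
        · refine Or.inr ?_
          rw [hfrc, hstep, hok _ _ hg, cond_true]
          exact List.mem_map.2 ⟨c :: cs, ihn c (by omega), rfl⟩
    exact key b c (hb c (by simp))

/-- Evaluate an integer before passing it on. -/
def forceI {β : Type} (x : ℤ) (k : ℤ → β) : β :=
  match x with
  | Int.ofNat 0 => k (Int.ofNat 0)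
  | Int.ofNat (n + 1) => k (Int.ofNat (n + 1))
  | Int.negSucc 0 => k (Int.negSucc 0)
  | Int.negSucc (n + 1) => k (Int.negSucc (n + 1))

theorem forceI_eq {β : Type} (x : ℤ) (k : ℤ → β) : forceI x k = k x := by
  rcases x with (_ | _) | (_ | _) <;> rfl

end Cfsg.Agent.GramSearch64
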