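import Mathlib

/-!
Finite search for the shapes of integer columns with a prescribed Gram matrix.
-/

set_option autoImplicit false

namespace Cfsg.Agent.GramShapes64

/-- All ways of writing `R` as a combination of the products of the candidates, with at most `b`
copies of each, keeping the first `m` entries non-negative. -/
def dfs {n : ℕ} (m b : ℕ) : List (Fin n → ℤ) → (Fin n → ℤ) → List (List ℕ)
  | [], R => if (List.finRange n).all (fun k => R k == 0) then [[]] else []
  | v :: t, R => (List.range (b + 1)).flatMap fun (c : ℕ) =>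
      if (List.finRange n).all (fun k => decide (m ≤ k.1 ∨ 0 ≤ R k - (c : ℤ) * v k)) then
        (dfs m b t fun k => R k - (c : ℤ) * v k).map (c :: ·) else []

theorem mem_dfs {n : ℕ} (m b : ℕ) (l : List (Fin n → ℤ))
    (hpos : ∀ v ∈ l, ∀ k : Fin n, k.1 < m → 0 ≤ v k) :
    ∀ (cs : List ℕ) (R : Fin n → ℤ), cs.length = l.length → (∀ c ∈ cs, c ≤ b) →
      (∀ k, R k = ((List.zip cs l).map fun p => (p.1 : ℤ) * p.2 k).sum) → cs ∈ dfs m b l R := by
  induction l with
  | nil =>
    intro cs R hlen _ hR
    obtain rfl := List.length_eq_zero_iff.1 hlen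
    have : ∀ k, R k = 0 := fun k => by simp [hR k]
    simp [dfs, this]
  | cons v t ih =>
    intro cs R hlen hb hR
    rcases cs with _ | ⟨c, cs⟩
    · simp at hlen
    simp only [List.length_cons, Nat.add_right_cancel_iff] at hlen
    have hsub : ∀ k, R k - c * v k = ((List.zip cs t).map fun p => (p.1 : ℤ) * p.2 k).sum := fun k => by
      rw [hR k]; simp
    simp only [dfs, List.mem_flatMap, List.mem_range]
    refine ⟨c, Nat.lt_succ_of_le (hb c (by simp)), ?_⟩
    rw [if_pos]
    · exact List.mem_map.2 ⟨cs, ih (fun w hw => hpos w (by simp [hw])) cs _ hlen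
        (fun x hx => hb x (by simp [hx])) hsub, rfl⟩
    · simp only [List.all_eq_true, decide_eq_true_eq]
      intro k _
      by_cases hk : m ≤ k.1
      · exact Or.inl hk
      · refine Or.inr ?_
        rw [hsub]
        refine List.sum_nonneg fun x hx => ?_
        obtain ⟨⟨c', w⟩, hp, rfl⟩ := List.mem_map.1 hx
        exact mul_nonneg (Int.natCast_nonneg _) (hpos w (by simp [(List.of_mem_zip hp).2]) k (by omega))

/-- Group the rows of a matrix by candidate, with the sign moved into the second entry. -/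
theorem collect {ι : Type*} [DecidableEq ι] {n N : ℕ} (T : Finset ι) (f : ι → Fin n → ℤ) (d : ι → ℤ)
    (cand : Fin N → Fin n → ℤ) (h : ∀ i ∈ T, f i = 0 ∨ ∃ j, f i = cand j ∨ f i = -cand j) :
    ∃ L : Fin N → List ℤ,
      (∀ j, ∀ x ∈ L j, ∃ i ∈ T, (f i = cand j ∧ x = d i) ∨ (f i = -cand j ∧ x = -d i)) ∧
      ∀ (M : Type) [AddCommMonoid M] (φ : (Fin n → ℤ) → ℤ → M), (∀ x, φ 0 x = 0) →
        (∀ v x, φ (-v) (-x) = φ v x) →
        ∑ i ∈ T, φ (f i) (d i) = ∑ j, ((L j).map (φ (cand j))).sum := by
  induction T using Finset.induction_on with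
  | empty => exact ⟨fun _ => [], by simp, fun M _ φ _ _ => by simp⟩
  | @insert a T ha ih =>
    obtain ⟨L, hL, hsum⟩ := ih fun i hi => h i (Finset.mem_insert_of_mem hi)
    rcases h a (Finset.mem_insert_self a T) with h0 | ⟨j, hj⟩
    · refine ⟨L, fun j x hx => ?_, fun M _ φ z s => ?_⟩
      · obtain ⟨i, hi, hh⟩ := hL j x hx
        exact ⟨i, Finset.mem_insert_of_mem hi, hh⟩
      · rw [Finset.sum_insert ha, hsum M φ z s, h0, z, zero_add]
    · obtain ⟨e, he⟩ : ∃ e : ℤ, (f a = cand j ∧ e = d a) ∨ (f a = -cand j ∧ e = -d a) :=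
        hj.elim (fun h => ⟨_, Or.inl ⟨h, rfl⟩⟩) fun h => ⟨_, Or.inr ⟨h, rfl⟩⟩
      refine ⟨Function.update L j (e :: L j), fun k x hx => ?_, fun M _ φ z s => ?_⟩
      · by_cases hk : k = j
        · subst hk
          rw [Function.update_self, List.mem_cons] at hx
          rcases hx with rfl | hx
          · exact ⟨a, Finset.mem_insert_self a T, he⟩
          · obtain ⟨i, hi, hh⟩ := hL _ x hx
            exact ⟨i, Finset.mem_insert_of_mem hi, hh⟩
        · rw [Function.update_of_ne hk] at hx
          obtain ⟨i, hi, hh⟩ := hL _ x hx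
          exact ⟨i, Finset.mem_insert_of_mem hi, hh⟩
      · have hφ : φ (f a) (d a) = φ (cand j) e := by
          rcases he with ⟨h1, h2⟩ | ⟨h1, h2⟩
          · rw [h1, h2]
          · rw [h1, h2]; nth_rewrite 1 [← neg_neg (d a)]; exact s _ _
        rw [Finset.sum_insert ha, hsum M φ z s, hφ, ← Finset.add_sum_erase _ _ (Finset.mem_univ j),
          ← Finset.add_sum_erase _ _ (Finset.mem_univ j), Function.update_self, List.map_cons,
          List.sum_cons, add_assoc]
        congr 2
        exact Finset.sum_congr rfl fun k hk => by rw [Function.update_of_ne (Finset.ne_of_mem_erase hk)]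

/-- The numbers of rows of each candidate, from the products. -/
theorem counts_mem_dfs {n m b N : ℕ} (w : Fin N → Fin n → ℤ) (R : Fin n → ℤ) (L : Fin N → List ℤ)
    (hpos : ∀ j, ∀ k : Fin n, k.1 < m → 0 ≤ w j k) (hb : ∀ j, (L j).length ≤ b)
    (h : ∀ k, R k = ∑ j, ((L j).length : ℤ) * w j k) :
    List.ofFn (fun j => (L j).length) ∈ dfs m b (List.ofFn w) R := by
  refine mem_dfs m b _ ?_ _ _ (by simp) (fun c hc => ?_) fun k => ?_
  · intro v hv
    obtain ⟨j, rfl⟩ := List.mem_ofFn.1 hv
    exact hpos j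
  · obtain ⟨j, rfl⟩ := List.mem_ofFn.1 hc
    exact hb j
  · rw [h k, List.zip, ← List.sum_ofFn]
    congr 1
    apply List.ext_getElem <;> simp

end Cfsg.Agent.GramShapes64
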