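import Mathlib
import Cfsg.Agent.Lib.GramShapes64
import Cfsg.Agent.Lib.GramSearch64

/-!
Arithmetic of the four integer columns belonging to a self-centralising Sylow subgroup of order nine
with dihedral automiser of order eight.
-/

set_option autoImplicit false
set_option Elab.async false

namespace Cfsg.Agent.SelfCentNineD8Arith64

/-- The possible rows up to sign, as (u, w, uτ, wσ). -/
def cand : Fin 88 → Fin 4 → ℤ :=
  ![![4, 4, -2, -2], ![4, 4, -2, 2], ![4, 4, 2, -2], ![4, 4, 2, 2],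
    ![2, -4, -2, -2], ![2, -4, -2, 2], ![2, -4, 2, -2], ![2, -4, 2, 2],
    ![4, -2, -2, -2], ![4, -2, -2, 2], ![4, -2, 2, -2], ![4, -2, 2, 2],
    ![2, 2, -2, -2], ![2, 2, -2, 2], ![2, 2, 2, -2], ![2, 2, 2, 2],
    ![0, 0, 2, -2], ![0, 0, 2, 2], ![4, 1, -2, -1], ![4, 1, -2, 1],
    ![4, 1, 2, -1], ![4, 1, 2, 1], ![0, 3, -2, -1], ![0, 3, -2, 1],
    ![0, 3, 2, -1], ![0, 3, 2, 1], ![2, -1, -2, -1], ![2, -1, -2, 1],
    ![2, -1, 2, -1], ![2, -1, 2, 1], ![4, 4, -2, 0], ![4, 4, 2, 0],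
    ![2, -4, -2, 0], ![2, -4, 2, 0], ![4, -2, -2, 0], ![4, -2, 2, 0],
    ![2, 2, -2, 0], ![2, 2, 2, 0], ![0, 0, 2, 0], ![1, 4, -1, -2],
    ![1, 4, -1, 2], ![1, 4, 1, -2], ![1, 4, 1, 2], ![3, 0, -1, -2],
    ![3, 0, -1, 2], ![3, 0, 1, -2], ![3, 0, 1, 2], ![1, -2, -1, -2],
    ![1, -2, -1, 2], ![1, -2, 1, -2], ![1, -2, 1, 2], ![3, -3, -1, -1],
    ![3, -3, -1, 1], ![3, -3, 1, -1], ![3, -3, 1, 1], ![3, 3, -1, -1],
    ![3, 3, -1, 1], ![3, 3, 1, -1], ![3, 3, 1, 1], ![1, 1, -1, -1],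
    ![1, 1, -1, 1], ![1, 1, 1, -1], ![1, 1, 1, 1], ![1, 4, -1, 0],
    ![1, 4, 1, 0], ![3, 0, -1, 0], ![3, 0, 1, 0], ![1, -2, -1, 0],
    ![1, -2, 1, 0], ![4, 4, 0, -2], ![4, 4, 0, 2], ![2, -4, 0, -2],
    ![2, -4, 0, 2], ![4, -2, 0, -2], ![4, -2, 0, 2], ![2, 2, 0, -2],
    ![2, 2, 0, 2], ![0, 0, 0, 2], ![4, 1, 0, -1], ![4, 1, 0, 1],
    ![0, 3, 0, -1], ![0, 3, 0, 1], ![2, -1, 0, -1], ![2, -1, 0, 1],
    ![4, 4, 0, 0], ![2, -4, 0, 0], ![4, -2, 0, 0], ![2, 2, 0, 0]]

/-! ### The shapes -/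

/-- The products of the entries of a row. -/
structure R10 where
  a : ℤ
  b : ℤ
  c : ℤ
  e : ℤ
  ab : ℤ
  ac : ℤ
  ae : ℤ
  bc : ℤ
  be : ℤ
  ce : ℤ
  deriving DecidableEq

/-- Add a multiple of the products of a row. -/
def addMul (n : ℤ) (v : Fin 4 → ℤ) (R : R10) : R10 :=
  ⟨R.a + n * (v 0 * v 0), R.b + n * (v 1 * v 1), R.c + n * (v 2 * v 2), R.e + n * (v 3 * v 3),
    R.ab + n * (v 0 * v 1), R.ac + n * (v 0 * v 2), R.ae + n * (v 0 * v 3), R.bc + n * (v 1 * v 2),
    R.be + n * (v 1 * v 3), R.ce + n * (v 2 * v 3)⟩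

/-- The sum of the products. -/
def resid : List ℕ → List (Fin 4 → ℤ) → R10
  | c :: cs, v :: l => addMul c v (resid cs l)
  | _, _ => ⟨0, 0, 0, 0, 0, 0, 0, 0, 0, 0⟩

/-- Non-negative diagonal and Cauchy-Schwarz. -/
def Good (R : R10) : Prop :=
  0 ≤ R.a ∧ 0 ≤ R.b ∧ 0 ≤ R.c ∧ 0 ≤ R.e ∧ R.ab * R.ab ≤ R.a * R.b ∧ R.ac * R.ac ≤ R.a * R.c ∧
    R.ae * R.ae ≤ R.a * R.e ∧ R.bc * R.bc ≤ R.b * R.c ∧ R.be * R.be ≤ R.b * R.e ∧ R.ce * R.ce ≤ R.c * R.e

/-- Boolean form of `Good`. -/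
def good (R : R10) : Bool :=
  decide (0 ≤ R.a) && decide (0 ≤ R.b) && decide (0 ≤ R.c) && decide (0 ≤ R.e) &&
  decide (R.ab * R.ab ≤ R.a * R.b) && decide (R.ac * R.ac ≤ R.a * R.c) &&
  decide (R.ae * R.ae ≤ R.a * R.e) && decide (R.bc * R.bc ≤ R.b * R.c) &&
  decide (R.be * R.be ≤ R.b * R.e) && decide (R.ce * R.ce ≤ R.c * R.e)

theorem cs_add {A B C x y n : ℤ} (hn : 0 ≤ n) (hA : 0 ≤ A) (hB : 0 ≤ B) (h : C * C ≤ A * B) :
    (C + n * (x * y)) * (C + n * (x * y)) ≤ (A + n * (x * x)) * (B + n * (y * y)) := by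
  have key : 2 * (x * y) * C ≤ A * (y * y) + B * (x * x) := by
    have hp : 0 ≤ A * (y * y) + B * (x * x) := add_nonneg (mul_nonneg hA (mul_self_nonneg y)) (mul_nonneg hB (mul_self_nonneg x))
    nlinarith [sq_nonneg (A * (y * y) - B * (x * x)), mul_le_mul_of_nonneg_left h (sq_nonneg (x * y))]
  nlinarith [mul_le_mul_of_nonneg_left key hn]

theorem good_resid (cs : List ℕ) (l : List (Fin 4 → ℤ)) : Good (resid cs l) := by
  induction l generalizing cs with
  | nil => cases cs <;> simp [resid, Good]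
  | cons v l ih =>
    rcases cs with _ | ⟨c, cs⟩
    · simp [resid, Good]
    obtain ⟨ha, hb, hc, he, h1, h2, h3, h4, h5, h6⟩ := ih cs
    have hn : (0 : ℤ) ≤ c := Int.natCast_nonneg c
    exact ⟨add_nonneg ha (mul_nonneg hn (mul_self_nonneg _)), add_nonneg hb (mul_nonneg hn (mul_self_nonneg _)),
      add_nonneg hc (mul_nonneg hn (mul_self_nonneg _)), add_nonneg he (mul_nonneg hn (mul_self_nonneg _)),
      cs_add hn ha hb h1, cs_add hn ha hc h2, cs_add hn ha he h3, cs_add hn hb hc h4, cs_add hn hb he h5,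
      cs_add hn hc he h6⟩

/-- The search. -/
def dfs4 (b : ℕ) : List (Fin 4 → ℤ) → R10 → List (List ℕ)
  | [], R => if R = ⟨0, 0, 0, 0, 0, 0, 0, 0, 0, 0⟩ then [[]] else []
  | v :: t, R => (List.range (b + 1)).flatMap fun (c : ℕ) =>
      if good (addMul (-(c : ℤ)) v R) then (dfs4 b t (addMul (-(c : ℤ)) v R)).map (c :: ·) else []

theorem mem_dfs4 (b : ℕ) (l : List (Fin 4 → ℤ)) : ∀ cs : List ℕ, cs.length = l.length →
    (∀ c ∈ cs, c ≤ b) → cs ∈ dfs4 b l (resid cs l) := by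
  induction l with
  | nil =>
    intro cs hlen _
    obtain rfl := List.length_eq_zero_iff.1 hlen
    simp [dfs4, resid]
  | cons v t ih =>
    intro cs hlen hb
    rcases cs with _ | ⟨c, cs⟩
    · simp at hlen
    simp only [List.length_cons, Nat.add_right_cancel_iff] at hlen
    have hsub : addMul (-(c : ℤ)) v (resid (c :: cs) (v :: t)) = resid cs t := by
      simp [resid, addMul]
    simp only [dfs4, List.mem_flatMap, List.mem_range]
    refine ⟨c, Nat.lt_succ_of_le (hb c (by simp)), ?_⟩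
    rw [hsub, if_pos]
    · exact List.mem_map.2 ⟨cs, ih cs hlen fun x hx => hb x (by simp [hx]), rfl⟩
    · obtain ⟨ha, hb', hc, he, h1, h2, h3, h4, h5, h6⟩ := good_resid cs t
      simp [good, *]

theorem resid_eval (π : R10 → ℤ) (φ : (Fin 4 → ℤ) → ℤ) (h0 : π ⟨0, 0, 0, 0, 0, 0, 0, 0, 0, 0⟩ = 0)
    (h : ∀ n v R, π (addMul n v R) = n * φ v + π R) (cs : List ℕ) (l : List (Fin 4 → ℤ)) :
    π (resid cs l) = ((List.zip cs l).map fun p => (p.1 : ℤ) * φ p.2).sum := by
  induction l generalizing cs with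
  | nil => cases cs <;> simp [resid, h0]
  | cons v l ih =>
    rcases cs with _ | ⟨c, cs⟩
    · simp [resid, h0]
    · simp [resid, h, ih]

theorem resid_ofFn {N : ℕ} (π : R10 → ℤ) (φ : (Fin 4 → ℤ) → ℤ) (h0 : π ⟨0, 0, 0, 0, 0, 0, 0, 0, 0, 0⟩ = 0)
    (h : ∀ n v R, π (addMul n v R) = n * φ v + π R) (n : Fin N → ℕ) (w : Fin N → Fin 4 → ℤ) :
    π (resid (List.ofFn n) (List.ofFn w)) = ∑ j, (n j : ℤ) * φ (w j) := by
  rw [resid_eval π φ h0 h, List.zip, ← List.sum_ofFn]
  congr 1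
  apply List.ext_getElem <;> simp

/-- The Gram matrix of the non-trivial part. -/
def target : R10 := ⟨17, 17, 5, 5, -1, -1, -1, -1, -1, -1⟩

/-- Multiplicities from a sparse list. -/
def ofSparse (s : List (ℕ × ℕ)) : List ℕ :=
  List.ofFn fun j : Fin 88 => ((s.find? fun p => p.1 == j.1).map Prod.snd).getD 0

/-- The products of all rows. -/
def rows : List R10 :=
  [⟨16, 16, 4, 4, 16, -8, -8, -8, -8, 4⟩,
   ⟨16, 16, 4, 4, 16, -8, 8, -8, 8, -4⟩,
   ⟨16, 16, 4, 4, 16, 8, -8, 8, -8, -4⟩,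
   ⟨16, 16, 4, 4, 16, 8, 8, 8, 8, 4⟩,
   ⟨4, 16, 4, 4, -8, -4, -4, 8, 8, 4⟩,
   ⟨4, 16, 4, 4, -8, -4, 4, 8, -8, -4⟩,
   ⟨4, 16, 4, 4, -8, 4, -4, -8, 8, -4⟩,
   ⟨4, 16, 4, 4, -8, 4, 4, -8, -8, 4⟩,
   ⟨16, 4, 4, 4, -8, -8, -8, 4, 4, 4⟩,
   ⟨16, 4, 4, 4, -8, -8, 8, 4, -4, -4⟩,
   ⟨16, 4, 4, 4, -8, 8, -8, -4, 4, -4⟩,
   ⟨16, 4, 4, 4, -8, 8, 8, -4, -4, 4⟩,
   ⟨4, 4, 4, 4, 4, -4, -4, -4, -4, 4⟩,
   ⟨4, 4, 4, 4, 4, -4, 4, -4, 4, -4⟩,
   ⟨4, 4, 4, 4, 4, 4, -4, 4, -4, -4⟩,
   ⟨4, 4, 4, 4, 4, 4, 4, 4, 4, 4⟩,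
   ⟨0, 0, 4, 4, 0, 0, 0, 0, 0, -4⟩,
   ⟨0, 0, 4, 4, 0, 0, 0, 0, 0, 4⟩,
   ⟨16, 1, 4, 1, 4, -8, -4, -2, -1, 2⟩,
   ⟨16, 1, 4, 1, 4, -8, 4, -2, 1, -2⟩,
   ⟨16, 1, 4, 1, 4, 8, -4, 2, -1, -2⟩,
   ⟨16, 1, 4, 1, 4, 8, 4, 2, 1, 2⟩,
   ⟨0, 9, 4, 1, 0, 0, 0, -6, -3, 2⟩,
   ⟨0, 9, 4, 1, 0, 0, 0, -6, 3, -2⟩,
   ⟨0, 9, 4, 1, 0, 0, 0, 6, -3, -2⟩,
   ⟨0, 9, 4, 1, 0, 0, 0, 6, 3, 2⟩,
   ⟨4, 1, 4, 1, -2, -4, -2, 2, 1, 2⟩,
   ⟨4, 1, 4, 1, -2, -4, 2, 2, -1, -2⟩,
   ⟨4, 1, 4, 1, -2, 4, -2, -2, 1, -2⟩,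
   ⟨4, 1, 4, 1, -2, 4, 2, -2, -1, 2⟩,
   ⟨16, 16, 4, 0, 16, -8, 0, -8, 0, 0⟩,
   ⟨16, 16, 4, 0, 16, 8, 0, 8, 0, 0⟩,
   ⟨4, 16, 4, 0, -8, -4, 0, 8, 0, 0⟩,
   ⟨4, 16, 4, 0, -8, 4, 0, -8, 0, 0⟩,
   ⟨16, 4, 4, 0, -8, -8, 0, 4, 0, 0⟩,
   ⟨16, 4, 4, 0, -8, 8, 0, -4, 0, 0⟩,
   ⟨4, 4, 4, 0, 4, -4, 0, -4, 0, 0⟩,
   ⟨4, 4, 4, 0, 4, 4, 0, 4, 0, 0⟩,
   ⟨0, 0, 4, 0, 0, 0, 0, 0, 0, 0⟩,
   ⟨1, 16, 1, 4, 4, -1, -2, -4, -8, 2⟩,
   ⟨1, 16, 1, 4, 4, -1, 2, -4, 8, -2⟩,
   ⟨1, 16, 1, 4, 4, 1, -2, 4, -8, -2⟩,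
   ⟨1, 16, 1, 4, 4, 1, 2, 4, 8, 2⟩,
   ⟨9, 0, 1, 4, 0, -3, -6, 0, 0, 2⟩,
   ⟨9, 0, 1, 4, 0, -3, 6, 0, 0, -2⟩,
   ⟨9, 0, 1, 4, 0, 3, -6, 0, 0, -2⟩,
   ⟨9, 0, 1, 4, 0, 3, 6, 0, 0, 2⟩,
   ⟨1, 4, 1, 4, -2, -1, -2, 2, 4, 2⟩,
   ⟨1, 4, 1, 4, -2, -1, 2, 2, -4, -2⟩,
   ⟨1, 4, 1, 4, -2, 1, -2, -2, 4, -2⟩,
   ⟨1, 4, 1, 4, -2, 1, 2, -2, -4, 2⟩,
   ⟨9, 9, 1, 1, -9, -3, -3, 3, 3, 1⟩,
   ⟨9, 9, 1, 1, -9, -3, 3, 3, -3, -1⟩,
   ⟨9, 9, 1, 1, -9, 3, -3, -3, 3, -1⟩,
   ⟨9, 9, 1, 1, -9, 3, 3, -3, -3, 1⟩,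
   ⟨9, 9, 1, 1, 9, -3, -3, -3, -3, 1⟩,
   ⟨9, 9, 1, 1, 9, -3, 3, -3, 3, -1⟩,
   ⟨9, 9, 1, 1, 9, 3, -3, 3, -3, -1⟩,
   ⟨9, 9, 1, 1, 9, 3, 3, 3, 3, 1⟩,
   ⟨1, 1, 1, 1, 1, -1, -1, -1, -1, 1⟩,
   ⟨1, 1, 1, 1, 1, -1, 1, -1, 1, -1⟩,
   ⟨1, 1, 1, 1, 1, 1, -1, 1, -1, -1⟩,
   ⟨1, 1, 1, 1, 1, 1, 1, 1, 1, 1⟩,
   ⟨1, 16, 1, 0, 4, -1, 0, -4, 0, 0⟩,
   ⟨1, 16, 1, 0, 4, 1, 0, 4, 0, 0⟩,
   ⟨9, 0, 1, 0, 0, -3, 0, 0, 0, 0⟩,
   ⟨9, 0, 1, 0, 0, 3, 0, 0, 0, 0⟩,
   ⟨1, 4, 1, 0, -2, -1, 0, 2, 0, 0⟩,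
   ⟨1, 4, 1, 0, -2, 1, 0, -2, 0, 0⟩,
   ⟨16, 16, 0, 4, 16, 0, -8, 0, -8, 0⟩,
   ⟨16, 16, 0, 4, 16, 0, 8, 0, 8, 0⟩,
   ⟨4, 16, 0, 4, -8, 0, -4, 0, 8, 0⟩,
   ⟨4, 16, 0, 4, -8, 0, 4, 0, -8, 0⟩,
   ⟨16, 4, 0, 4, -8, 0, -8, 0, 4, 0⟩,
   ⟨16, 4, 0, 4, -8, 0, 8, 0, -4, 0⟩,
   ⟨4, 4, 0, 4, 4, 0, -4, 0, -4, 0⟩,
   ⟨4, 4, 0, 4, 4, 0, 4, 0, 4, 0⟩,
   ⟨0, 0, 0, 4, 0, 0, 0, 0, 0, 0⟩,
   ⟨16, 1, 0, 1, 4, 0, -4, 0, -1, 0⟩,
   ⟨16, 1, 0, 1, 4, 0, 4, 0, 1, 0⟩,
   ⟨0, 9, 0, 1, 0, 0, 0, 0, -3, 0⟩,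
   ⟨0, 9, 0, 1, 0, 0, 0, 0, 3, 0⟩,
   ⟨4, 1, 0, 1, -2, 0, -2, 0, 1, 0⟩,
   ⟨4, 1, 0, 1, -2, 0, 2, 0, -1, 0⟩,
   ⟨16, 16, 0, 0, 16, 0, 0, 0, 0, 0⟩,
   ⟨4, 16, 0, 0, -8, 0, 0, 0, 0, 0⟩,
   ⟨16, 4, 0, 0, -8, 0, 0, 0, 0, 0⟩,
   ⟨4, 4, 0, 0, 4, 0, 0, 0, 0, 0⟩]

/-- The products of a row. -/
def sq10 (v : Fin 4 → ℤ) : R10 := addMul 1 v ⟨0, 0, 0, 0, 0, 0, 0, 0, 0, 0⟩

/-- Difference. -/
def step10 (R v : R10) : R10 :=
  ⟨R.a - v.a, R.b - v.b, R.c - v.c, R.e - v.e, R.ab - v.ab, R.ac - v.ac, R.ae - v.ae, R.bc - v.bc, R.be - v.be, R.ce - v.ce⟩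

/-- Evaluate the ten entries. -/
def frc10 (R : R10) (k : R10 → List (List ℕ)) : List (List ℕ) :=
  GramSearch64.forceI R.a fun x0 => GramSearch64.forceI R.b fun x1 => GramSearch64.forceI R.c fun x2 => GramSearch64.forceI R.e fun x3 => GramSearch64.forceI R.ab fun x4 => GramSearch64.forceI R.ac fun x5 => GramSearch64.forceI R.ae fun x6 => GramSearch64.forceI R.bc fun x7 => GramSearch64.forceI R.be fun x8 => GramSearch64.forceI R.ce fun x9 =>
    k ⟨x0, x1, x2, x3, x4, x5, x6, x7, x8, x9⟩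

/-- The final state. -/
def fin10 (R : R10) : Bool :=
  decide (R.a = 0) && decide (R.b = 0) && decide (R.c = 0) && decide (R.e = 0) && decide (R.ab = 0) && decide (R.ac = 0) && decide (R.ae = 0) && decide (R.bc = 0) && decide (R.be = 0) && decide (R.ce = 0)

/-- The weighted sum of rows of products. -/
def tot10 : List ℕ → List R10 → R10
  | c :: cs, v :: t => ⟨(tot10 cs t).a + c * v.a, (tot10 cs t).b + c * v.b, (tot10 cs t).c + c * v.c, (tot10 cs t).e + c * v.e, (tot10 cs t).ab + c * v.ab, (tot10 cs t).ac + c * v.ac, (tot10 cs t).ae + c * v.ae, (tot10 cs t).bc + c * v.bc, (tot10 cs t).be + c * v.be, (tot10 cs t).ce + c * v.ce⟩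
  | _, _ => ⟨0, 0, 0, 0, 0, 0, 0, 0, 0, 0⟩

theorem tot10_resid (l : List (Fin 4 → ℤ)) : ∀ cs : List ℕ, tot10 cs (l.map sq10) = resid cs l := by
  induction l with
  | nil => intro cs; cases cs <;> rfl
  | cons v t ih =>
    intro cs
    rcases cs with _ | ⟨c, cs⟩
    · rfl
    · simp only [List.map_cons, tot10, resid, ih]
      simp [sq10, addMul]

theorem search_shapes :
    (GramSearch64.search step10 frc10 good fin10 17 rows target).all (fun cs => cs ∈
    [ofSparse [(61, 1), (65, 1), (67, 1), (68, 2), (77, 1), (87, 1)],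
     ofSparse [(60, 1), (61, 1), (62, 1), (65, 1), (68, 1), (80, 1), (82, 1)],
     ofSparse [(59, 1), (61, 2), (65, 1), (68, 1), (81, 1), (83, 1)],
     ofSparse [(59, 1), (60, 1), (61, 1), (67, 1), (68, 1), (82, 1), (83, 1), (87, 1)],
     ofSparse [(59, 1), (60, 2), (66, 1), (67, 1), (80, 1), (82, 1)],
     ofSparse [(38, 1), (60, 1), (80, 1), (82, 2), (83, 1), (87, 1)]]) = true := by
  decide +kernel

theorem rows_eq : rows = (List.ofFn cand).map sq10 := by decide +kernel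

theorem dfs4_resid (l : List (Fin 4 → ℤ)) : ∀ (R : R10) (cs : List ℕ), cs ∈ dfs4 17 l R →
    cs.length = l.length ∧ (∀ c ∈ cs, c ≤ 17) ∧ R = resid cs l := by
  induction l with
  | nil =>
    intro R cs h
    simp only [dfs4] at h
    split_ifs at h with h0
    · obtain rfl : cs = [] := by simpa using h
      exact ⟨rfl, by simp, by simp [resid, h0]⟩
    · simp at h
  | cons v t ih =>
    intro R cs h
    simp only [dfs4, List.mem_flatMap, List.mem_range] at h
    obtain ⟨c, hc, h⟩ := h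
    split_ifs at h with h0
    · obtain ⟨cs', hcs', rfl⟩ := List.mem_map.1 h
      obtain ⟨h1, h2, h3⟩ := ih _ cs' hcs'
      refine ⟨by simp [h1], ?_, ?_⟩
      · simp only [List.mem_cons, forall_eq_or_imp]
        exact ⟨by omega, h2⟩
      · rw [resid, ← h3]
        simp [addMul]
    · simp at h

theorem shapes : dfs4 17 (List.ofFn cand) target ⊆
    [ofSparse [(61, 1), (65, 1), (67, 1), (68, 2), (77, 1), (87, 1)],
     ofSparse [(60, 1), (61, 1), (62, 1), (65, 1), (68, 1), (80, 1), (82, 1)],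
     ofSparse [(59, 1), (61, 2), (65, 1), (68, 1), (81, 1), (83, 1)],
     ofSparse [(59, 1), (60, 1), (61, 1), (67, 1), (68, 1), (82, 1), (83, 1), (87, 1)],
     ofSparse [(59, 1), (60, 2), (66, 1), (67, 1), (80, 1), (82, 1)],
     ofSparse [(38, 1), (60, 1), (80, 1), (82, 2), (83, 1), (87, 1)]] := by
  intro cs hcs
  obtain ⟨h1, h2, h3⟩ := dfs4_resid _ _ cs hcs
  have hm := GramSearch64.mem_search (step := step10) (frc := frc10) (ok := good) (fin := fin10) (b := 17)
    (fun R k => by simp only [frc10, GramSearch64.forceI_eq]) tot10 (by simp [tot10, fin10])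
    (fun cs v t => by simp [tot10])
    (fun c cs v t => by simp [tot10, step10]; ring_nf; simp)
    (fun l => ∃ l', l = List.map sq10 l') (fun v t h => by
      obtain ⟨l', hl⟩ := h
      rcases l' with _ | ⟨w, l'⟩
      · simp at hl
      · simp only [List.map_cons, List.cons.injEq] at hl
        exact ⟨l', hl.2⟩)
    (fun cs l h => by
      obtain ⟨l', rfl⟩ := h
      obtain ⟨ha, hb, hc, he, g1, g2, g3, g4, g5, g6⟩ := good_resid cs l'
      rw [tot10_resid]
      simp [good, *])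
    rows ⟨_, rows_eq⟩ cs (by rw [h1, rows_eq, List.length_map]) h2
  rw [rows_eq, tot10_resid, ← h3, ← rows_eq] at hm
  exact of_decide_eq_true (List.all_eq_true.1 search_shapes cs hm)

theorem exists_cand (a b c e : ℤ) (ha : a * a ≤ 17) (hb : b * b ≤ 17) (hc : c * c ≤ 5) (he : e * e ≤ 5)
    (hab : (3 : ℤ) ∣ a - b) (hac : (2 : ℤ) ∣ c - a) (hbe : (2 : ℤ) ∣ e - b) :
    ![a, b, c, e] = 0 ∨ ∃ j, ![a, b, c, e] = cand j ∨ ![a, b, c, e] = -cand j := by
  have b1 : -4 ≤ a ∧ a ≤ 4 := ⟨by nlinarith, by nlinarith⟩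
  have b2 : -4 ≤ b ∧ b ≤ 4 := ⟨by nlinarith, by nlinarith⟩
  have b3 : -2 ≤ c ∧ c ≤ 2 := ⟨by nlinarith, by nlinarith⟩
  have b4 : -2 ≤ e ∧ e ≤ 2 := ⟨by nlinarith, by nlinarith⟩
  have key : ∀ a' ∈ Finset.Icc (-4 : ℤ) 4, ∀ b' ∈ Finset.Icc (-4 : ℤ) 4, (a' - b') % 3 = 0 →
      ∀ c' ∈ Finset.Icc (-2 : ℤ) 2, (c' - a') % 2 = 0 → ∀ e' ∈ Finset.Icc (-2 : ℤ) 2, (e' - b') % 2 = 0 →
      ![a', b', c', e'] = 0 ∨ ∃ j, ![a', b', c', e'] = cand j ∨ ![a', b', c', e'] = -cand j := by decide +kernel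
  exact key a (Finset.mem_Icc.2 b1) b (Finset.mem_Icc.2 b2) (Int.emod_eq_zero_of_dvd hab)
    c (Finset.mem_Icc.2 b3) (Int.emod_eq_zero_of_dvd hac) e (Finset.mem_Icc.2 b4) (Int.emod_eq_zero_of_dvd hbe)

theorem supp_sum {M : Type*} [AddCommMonoid M] (L : Fin 88 → List ℤ) (φ : Fin 88 → ℤ → M) (I : List (Fin 88))
    (hI : I.Nodup) (h : ∀ j, j ∉ I → L j = []) :
    ∑ j, ((L j).map (φ j)).sum = (I.map fun j => ((L j).map (φ j)).sum).sum := by
  rw [← List.sum_toFinset _ hI]
  exact (Finset.sum_subset (Finset.subset_univ _) fun j _ hj => by rw [h j (by simpa using hj)]; simp).symm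

/-! ### The main equation -/

/-- The weight of each variable. -/
def coef : ℕ → ℤ
  | 0 => 4
  | 1 => -2
  | 2 => 16
  | 3 => 4
  | _ => -4

/-- The residue of each variable modulo nine. -/
def res : ℕ → ℤ
  | 0 => 1
  | 1 => 8
  | 2 => 2
  | 3 => 4
  | _ => 5

/-- The product of the known values. -/
def den : List (Option ℤ) → ℕ
  | [] => 1
  | none :: t => den t
  | some x :: t => x.natAbs * den t

/-- The known part of the weighted sum of inverses, times `D`. -/
def numAux (D : ℤ) : ℕ → List (Option ℤ) → ℤ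
  | _, [] => 0
  | i, none :: t => numAux D (i + 1) t
  | i, some x :: t => coef i * (D / x) + numAux D (i + 1) t

/-- The weight of the unknown variables. -/
def wFree : ℕ → List (Option ℤ) → ℕ
  | _, [] => 0
  | i, none :: t => (coef i).natAbs + wFree (i + 1) t
  | i, some _ :: t => wFree (i + 1) t

/-- An upper approximation of the square root. -/
def sqrtUp : ℕ → ℕ → ℕ → ℕ → ℕ
  | 0, _, hi, _ => hi
  | f + 1, lo, hi, n => if (lo + hi) / 2 * ((lo + hi) / 2) ≤ n then sqrtUp f ((lo + hi) / 2) hi n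
      else sqrtUp f lo ((lo + hi) / 2) n

/-- Combine two known values. -/
def lift2 : Option ℤ → Option ℤ → (ℤ → ℤ → ℤ) → Option ℤ
  | some x, some y, f => some (f x y)
  | _, _, _ => none

/-- The first known value. -/
def orE : Option ℤ → Option ℤ → Option ℤ
  | some x, _ => some x
  | none, b => b

/-- Use the two linear relations. -/
def prop5 (U V C p q : Option ℤ) : List (Option ℤ) :=
  let U1 := orE U (lift2 C q fun c q => -1 - q - c)
  let C1 := orE C (lift2 U1 q fun u q => -1 - q - u)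
  let q1 := orE q (orE (lift2 U1 C1 fun u c => -1 - u - c) (lift2 V p fun v p => -1 - p - v))
  let U2 := orE U1 (lift2 C1 q1 fun c q => -1 - q - c)
  let C2 := orE C1 (lift2 U2 q1 fun u q => -1 - q - u)
  let V1 := orE V (lift2 p q1 fun p q => -1 - p - q)
  let p1 := orE p (lift2 V1 q1 fun v q => -1 - v - q)
  [U2, V1, C2, p1, q1]

/-- Use the two linear relations. -/
def propL : List (Option ℤ) → List (Option ℤ)
  | [U, V, C, p, q] => prop5 U V C p q
  | l => l

/-- Residues and lower bounds. -/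
def okAux : ℕ → List (Option ℤ) → Bool
  | _, [] => true
  | i, none :: t => okAux (i + 1) t
  | i, some x :: t => (decide (x % 9 = res i) && decide (4 ≤ x.natAbs)) && okAux (i + 1) t

/-- Assign a value. -/
def set1 : List (Option ℤ) → ℕ → ℤ → List (Option ℤ)
  | [], _, _ => []
  | _ :: t, 0, x => some x :: t
  | a :: t, i + 1, x => a :: set1 t i x

/-- The surviving solutions. -/
def exc (l : List ℤ) : Bool :=
  l == [10, -10, -16, 4, 5] || l == [10, 8, -16, -14, 5] || l == [-8, -28, -25, -5, 32]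

/-- The test on a complete assignment. -/
def fin5 (num : ℤ) (D : ℕ) : List (Option ℤ) → Bool
  | [some U, some V, some C, some p, some q] =>
    decide (num ≤ 0) || exc [U, V, C, p, q] ||
    decide ((1296 * D : ℤ) < num * (1 + 2 * U * U + V * V + C * C + 2 * p * p + 2 * q * q)) ||
    decide ((18 * D : ℤ) % num ≠ 0) || decide ((18 * D : ℤ) / num % 9 ≠ 1) ||
    decide (num * (p * q).natAbs < 36 * (q - p) * D * (p * q).sign)
  | _ => false

/-- All numbers of a residue class in a range. -/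
def allUpTo (r : ℤ) : ℕ → (ℤ → Bool) → Bool
  | 0, f => f r && f (r - 9)
  | n + 1, f => f (r + 9 * (n + 1)) && f (r - 9 * (n + 2)) && allUpTo r n f

/-- The search for solutions of the main equation. -/
def check : ℕ → List (Option ℤ) → Bool
  | 0, _ => false
  | f + 1, s =>
    let s := propL s
    if okAux 0 s then
      let D := den s
      let num := 2 * (D : ℤ) + numAux D 0 s
      if s.all Option.isSome then fin5 num D s
      else if num = 0 then false else
        let w := wFree 0 s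
        if num < 0 then
          let L := w * D / num.natAbs
          (List.range 5).all fun i => (s.getD i none).isSome ||
            allUpTo (res i) (L / 9) fun x =>
              decide (coef i * x ≤ 0) || decide (L < x.natAbs) || check f (set1 s i x)
        else
          let L := 4 * w * D / (3 * num.natAbs)
          let M := sqrtUp 14 0 4096 (5184 * D / num.natAbs)
          decide (5184 * D / num.natAbs < M * M) &&
          ((List.range 5).all fun i => (s.getD i none).isSome ||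
            allUpTo (res i) (L / 9) fun x =>
              decide (0 ≤ coef i * x) || decide (L < x.natAbs) || check f (set1 s i x)) &&
          (let i := s.findIdx fun o => o.isNone
           allUpTo (res i) (M / 9) fun x => decide (M < x.natAbs) || check f (set1 s i x))
    else true

theorem check_top : check 5 [none, none, none, none, none] = true := by
  rw [show (5 : ℕ) = 4 + 1 from rfl]
  rw [check]
  simp only [propL, prop5, orE, lift2, okAux, den, numAux, wFree, Option.isSome, List.all_cons,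
    List.all_nil, show List.range 5 = [0, 1, 2, 3, 4] from rfl, List.getD_cons_zero, List.getD_cons_succ,
    Bool.false_and, Bool.false_or, Bool.and_true, Bool.false_eq_true, if_false, if_true, Bool.and_eq_true,
    Nat.cast_one, mul_one, add_zero, OfNat.ofNat_ne_zero, reduceIte, Int.reduceLT]
  repeat' apply And.intro
  all_goals decide +kernel

theorem allUpTo_spec {r : ℤ} {n : ℕ} {f : ℤ → Bool} (h : allUpTo r n f = true) :
    ∀ j : ℤ, -((n : ℤ) + 1) ≤ j → j ≤ n → f (r + 9 * j) = true := by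
  induction n with
  | zero =>
    intro j h1 h2
    simp only [allUpTo, Bool.and_eq_true] at h
    obtain rfl | rfl : j = 0 ∨ j = -1 := by omega
    · simpa using h.1
    · simpa [sub_eq_add_neg] using h.2
  | succ n ih =>
    intro j h1 h2
    simp only [allUpTo, Bool.and_eq_true] at h
    push_cast at h1 h2 h
    by_cases e1 : j = (n : ℤ) + 1
    · rw [e1]; exact h.1.1
    by_cases e2 : j = -((n : ℤ) + 2)
    · rw [e2, mul_neg, ← sub_eq_add_neg]; exact h.1.2
    exact ih h.2 j (by omega) (by omega)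

theorem res_nonneg (i : ℕ) : 0 ≤ res i ∧ res i < 9 := by
  rcases i with _ | _ | _ | _ | _ <;> simp [res]

theorem allUpTo_mem {i L : ℕ} {f : ℤ → Bool} (h : allUpTo (res i) (L / 9) f = true) {x : ℤ}
    (hx : x % 9 = res i) (hL : x.natAbs ≤ L) : f x = true := by
  have hr := res_nonneg i
  have e : x = res i + 9 * (x / 9) := by omega
  rw [e]
  exact allUpTo_spec h _ (by omega) (by omega)

/-- A partial assignment agrees with a solution. -/
abbrev Comp : List (Option ℤ) → List ℤ → Prop := List.Forall₂ fun o x => ∀ y ∈ o, y = x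

theorem comp_orE {a b : Option ℤ} {x : ℤ} (ha : ∀ y ∈ a, y = x) (hb : ∀ y ∈ b, y = x) :
    ∀ y ∈ orE a b, y = x := by
  cases a with
  | none => exact hb
  | some z => exact ha

theorem comp_lift2 {a b : Option ℤ} {f : ℤ → ℤ → ℤ} {x y z : ℤ} (ha : ∀ t ∈ a, t = x) (hb : ∀ t ∈ b, t = y)
    (h : f x y = z) : ∀ t ∈ lift2 a b f, t = z := by
  cases a with
  | none => simp [lift2]
  | some a =>
    cases b with
    | none => simp [lift2]
    | some b =>
      intro t ht
      simp only [lift2, Option.mem_def, Option.some.injEq] at ht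
      rw [← ht, ha a rfl, hb b rfl, h]

theorem comp_prop {s : List (Option ℤ)} {U V C p q : ℤ} (h : Comp s [U, V, C, p, q])
    (h1 : U + C + q = -1) (h2 : V + p + q = -1) : Comp (propL s) [U, V, C, p, q] := by
  obtain _ | ⟨hU, _ | ⟨hV, _ | ⟨hC, _ | ⟨hp, _ | ⟨hq, _ | _⟩⟩⟩⟩⟩ := h
  rename_i oU oV oC op oq
  have e1 := comp_orE hU (comp_lift2 (f := fun c q => -1 - q - c) hC hq (z := U) (by omega))
  have e2 := comp_orE hC (comp_lift2 (f := fun u q => -1 - q - u) e1 hq (z := C) (by omega))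
  have e3 := comp_orE hq (comp_orE (comp_lift2 (f := fun u c => -1 - u - c) e1 e2 (z := q) (by omega))
    (comp_lift2 (f := fun v p => -1 - p - v) hV hp (z := q) (by omega)))
  have e4 := comp_orE e1 (comp_lift2 (f := fun c q => -1 - q - c) e2 e3 (z := U) (by omega))
  have e5 := comp_orE e2 (comp_lift2 (f := fun u q => -1 - q - u) e4 e3 (z := C) (by omega))
  have e6 := comp_orE hV (comp_lift2 (f := fun p q => -1 - p - q) hp e3 (z := V) (by omega))
  have e7 := comp_orE hp (comp_lift2 (f := fun v q => -1 - v - q) e6 e3 (z := p) (by omega))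
  exact .cons e4 (.cons e6 (.cons e5 (.cons e7 (.cons e3 .nil))))

theorem comp_set1 {s : List (Option ℤ)} {X : List ℤ} (h : Comp s X) :
    ∀ i, Comp (set1 s i (X.getD i 0)) X := by
  induction h with
  | nil => exact fun i => .nil
  | @cons a x s X ha h ih =>
    intro i
    cases i with
    | zero => exact .cons (by simp) h
    | succ i => exact .cons ha (by simpa only [List.getD_cons_succ] using ih i)

/-- The weighted sum of the inverses. -/
def tot : ℕ → List ℤ → ℚ
  | _, [] => 0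
  | i, x :: t => (coef i : ℚ) / x + tot (i + 1) t

/-- Its unknown part. -/
def free : ℕ → List (Option ℤ) → List ℤ → ℚ
  | i, none :: t, x :: X => (coef i : ℚ) / x + free (i + 1) t X
  | i, some _ :: t, _ :: X => free (i + 1) t X
  | _, _, _ => 0

theorem okAux_of {s : List (Option ℤ)} {X : List ℤ} (h : Comp s X) :
    ∀ i, (∀ j, j < X.length → X.getD j 0 % 9 = res (i + j) ∧ 4 ≤ (X.getD j 0).natAbs) → okAux i s = true := by
  induction h with
  | nil => intro i _; rfl
  | @cons a x s X ha h ih =>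
    intro i hX
    have hrest := ih (i + 1) fun j hj => by
      have := hX (j + 1) (by simp; omega)
      simpa [add_assoc, add_comm, add_left_comm] using this
    have h0 := hX 0 (by simp)
    cases a with
    | none => simpa [okAux] using hrest
    | some a =>
      obtain rfl := ha a rfl
      simp [okAux, hrest] at h0 ⊢
      exact h0

theorem den_pos {s : List (Option ℤ)} {X : List ℤ} (h : Comp s X) (hnz : ∀ x ∈ X, x ≠ (0 : ℤ)) :
    0 < den s := by
  induction h with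
  | nil => simp [den]
  | @cons a x s X ha h ih =>
    have := ih fun y hy => hnz y (by simp [hy])
    cases a with
    | none => exact this
    | some a =>
      obtain rfl := ha a rfl
      exact Nat.mul_pos (Int.natAbs_pos.2 (hnz a (by simp))) this

theorem tot_eq {s : List (Option ℤ)} {X : List ℤ} (h : Comp s X) (hnz : ∀ x ∈ X, x ≠ (0 : ℤ)) (D : ℤ) :
    ∀ i, (den s : ℤ) ∣ D → (D : ℚ) * tot i X = numAux D i s + D * free i s X := by
  induction h with
  | nil => intro i _; simp [tot, numAux, free]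
  | @cons a x s X ha h ih =>
    intro i hD
    have hrec := ih (fun y hy => hnz y (by simp [hy]))
    cases a with
    | none =>
      simp only [tot, numAux, free]
      rw [mul_add, hrec (i + 1) hD]
      ring
    | some a =>
      obtain rfl := ha a rfl
      have ha0 := hnz a (by simp)
      simp only [den, Nat.cast_mul] at hD
      have hda : a ∣ D := Int.natAbs_dvd.1 ((dvd_mul_right _ _).trans hD)
      simp only [tot, numAux, free]
      rw [mul_add, hrec (i + 1) ((dvd_mul_left _ _).trans hD), Int.cast_add, Int.cast_mul,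
        Int.cast_div hda (by exact_mod_cast ha0)]
      ring

theorem free_le {s : List (Option ℤ)} {X : List ℤ} (h : Comp s X) (L : ℕ) :
    ∀ i, free i s X ≤ (wFree i s : ℚ) / (L + 1) ∨
      ∃ j, j < X.length ∧ (s.getD j none).isSome = false ∧ 0 < coef (i + j) * X.getD j 0 ∧
        (X.getD j 0).natAbs ≤ L := by
  induction h with
  | nil => intro i; left; simp [free, wFree]
  | @cons a x s X ha h ih =>
    intro i
    rcases ih (i + 1) with hle | ⟨j, hj, h1, h2, h3⟩
    swap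
    · exact Or.inr ⟨j + 1, by simp; omega, by simpa using h1, by simpa [add_assoc, add_comm, add_left_comm] using h2,
        by simpa using h3⟩
    cases a with
    | some a => left; simpa [free, wFree] using hle
    | none =>
      by_cases hc : 0 < coef i * x ∧ x.natAbs ≤ L
      · exact Or.inr ⟨0, by simp, by simp, by simpa using hc.1, by simpa using hc.2⟩
      left
      have hb : (coef i : ℚ) / x ≤ ((coef i).natAbs : ℚ) / (L + 1) := by
        by_cases hp : 0 < coef i * x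
        · have hL : L + 1 ≤ x.natAbs := by
            by_contra hh
            exact hc ⟨hp, by omega⟩
          refine (le_abs_self _).trans ?_
          rw [abs_div, Nat.cast_natAbs, Int.cast_abs]
          refine div_le_div_of_nonneg_left (abs_nonneg _) (by positivity) ?_
          rw [← Int.cast_abs, Int.abs_eq_natAbs]
          exact_mod_cast hL
        · refine le_trans ?_ (by positivity)
          rcases eq_or_ne x 0 with rfl | hx
          · simp
          rw [← mul_div_mul_right (coef i : ℚ) (x : ℚ) (c := (x : ℚ)) (by exact_mod_cast hx)]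
          exact div_nonpos_of_nonpos_of_nonneg (by exact_mod_cast not_lt.1 hp) (mul_self_nonneg _)
      simp only [free, wFree, Nat.cast_add, add_div]
      exact add_le_add hb hle

theorem free_neg {s : List (Option ℤ)} {X : List ℤ} (h : Comp s X) (i : ℕ) :
    free i s (X.map Neg.neg) = -free i s X := by
  induction h generalizing i with
  | nil => simp [free]
  | @cons a x s X ha h ih =>
    cases a with
    | none => simp [free, ih, div_neg]; ring
    | some a => simp [free, ih]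

theorem free_ge {s : List (Option ℤ)} {X : List ℤ} (h : Comp s X) (L : ℕ) :
    ∀ i, -((wFree i s : ℚ) / (L + 1)) ≤ free i s X ∨
      ∃ j, j < X.length ∧ (s.getD j none).isSome = false ∧ coef (i + j) * X.getD j 0 < 0 ∧
        (X.getD j 0).natAbs ≤ L := by
  induction h with
  | nil => intro i; left; simp [free, wFree]
  | @cons a x s X ha h ih =>
    intro i
    rcases ih (i + 1) with hle | ⟨j, hj, h1, h2, h3⟩
    swap
    · exact Or.inr ⟨j + 1, by simp; omega, by simpa using h1, by simpa [add_assoc, add_comm, add_left_comm] using h2,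
        by simpa using h3⟩
    cases a with
    | some a => left; simpa [free, wFree] using hle
    | none =>
      by_cases hc : coef i * x < 0 ∧ x.natAbs ≤ L
      · exact Or.inr ⟨0, by simp, by simp, by simpa using hc.1, by simpa using hc.2⟩
      left
      have hb : -(((coef i).natAbs : ℚ) / (L + 1)) ≤ (coef i : ℚ) / x := by
        by_cases hp : coef i * x < 0
        · have hL : L + 1 ≤ x.natAbs := by
            by_contra hh
            exact hc ⟨hp, by omega⟩
          refine le_trans (neg_le_neg ?_) (neg_abs_le _)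
          rw [abs_div, Nat.cast_natAbs, Int.cast_abs]
          refine div_le_div_of_nonneg_left (abs_nonneg _) (by positivity) ?_
          rw [← Int.cast_abs, Int.abs_eq_natAbs]
          exact_mod_cast hL
        · refine le_trans (neg_nonpos.2 (by positivity)) ?_
          rcases eq_or_ne x 0 with rfl | hx
          · simp
          rw [← mul_div_mul_right (coef i : ℚ) (x : ℚ) (c := (x : ℚ)) (by exact_mod_cast hx)]
          exact div_nonneg (by exact_mod_cast not_lt.1 hp) (mul_self_nonneg _)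
      simp only [free, wFree, Nat.cast_add, add_div, neg_add]
      exact add_le_add hb hle

theorem all_some {s : List (Option ℤ)} {X : List ℤ} (h : Comp s X) (ha : s.all Option.isSome = true) :
    s = X.map some ∧ ∀ i, free i s X = 0 := by
  induction h with
  | nil => simp [free]
  | @cons a x s X hax h ih =>
    simp only [List.all_cons, Bool.and_eq_true] at ha
    obtain ⟨e, hf⟩ := ih ha.2
    cases a with
    | none => simp at ha
    | some a =>
      obtain rfl := hax a rfl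
      exact ⟨by simp [e], fun i => by simpa [free] using hf (i + 1)⟩

/-- The hypotheses of the main equation. -/
structure Sol (g : ℕ) (U V C p q : ℤ) : Prop where
  lin₁ : U + C + q = -1
  lin₂ : V + p + q = -1
  loc : ∀ j, j < 5 → [U, V, C, p, q].getD j 0 % 9 = res j ∧ 4 ≤ ([U, V, C, p, q].getD j 0).natAbs
  pos : 0 < g
  eqn : 2 + tot 0 [U, V, C, p, q] = 1296 / (g : ℚ)
  sq : 1 + 2 * U * U + V * V + C * C + 2 * p * p + 2 * q * q ≤ (g : ℤ)
  idx : ∃ i : ℕ, g = 72 * i ∧ i % 9 = 1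
  cube : 1 / (p : ℚ) - 1 / q ≤ 36 / (g : ℚ)

theorem Sol.check_sound {g : ℕ} {U V C p q : ℤ} (hs : Sol g U V C p q) :
    ∀ f s, Comp s [U, V, C, p, q] → check f s = true → exc [U, V, C, p, q] = true := by
  intro f
  induction f with
  | zero => intro s _ h; simp [check] at h
  | succ f ih =>
    intro s hc h
    have hc' := comp_prop hc hs.lin₁ hs.lin₂
    set t := propL s with ht
    set X := [U, V, C, p, q] with hX
    have hnz : ∀ x ∈ X, x ≠ (0 : ℤ) := by
      intro x hx e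
      subst e
      obtain ⟨j, hj, e⟩ := List.mem_iff_getElem.1 hx
      have := (hs.loc j (by simpa [hX] using hj)).2
      rw [List.getD_eq_getElem _ _ hj, e] at this
      simp at this
    have hok : okAux 0 t = true := okAux_of hc' 0 fun j hj => by
      rw [zero_add]; exact hs.loc j (by simpa [hX] using hj)
    simp only [check, ← ht, hok, if_true] at h
    set D := den t with hD
    have hDpos : 0 < D := den_pos hc' hnz
    set num : ℤ := 2 * (D : ℤ) + numAux D 0 t with hnum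
    have hg : (0 : ℚ) < g := by exact_mod_cast hs.pos
    have key : (num : ℚ) + (D : ℚ) * free 0 t X = (D : ℚ) * (1296 / g) := by
      have := tot_eq hc' hnz (D : ℤ) 0 dvd_rfl
      rw [← hs.eqn, mul_add, hX] at *
      push_cast [hnum] at this ⊢
      linarith
    by_cases hall : t.all Option.isSome = true
    · obtain ⟨e, hf⟩ := all_some hc' hall
      rw [if_pos hall, e, hX] at h
      rw [hf 0, mul_zero, add_zero] at key
      have keyZ : num * (g : ℤ) = 1296 * D := by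
        have : (num : ℚ) * g = 1296 * D := by rw [key]; field_simp
        exact_mod_cast this
      obtain ⟨i, hi, hi9⟩ := hs.idx
      simp only [List.map_cons, List.map_nil, fin5, Bool.or_eq_true, decide_eq_true_eq] at h
      have hgz : (0 : ℤ) < g := by exact_mod_cast hs.pos
      have hnpos : 0 < num := by
        by_contra hle
        have : num * (g : ℤ) ≤ 0 := mul_nonpos_of_nonpos_of_nonneg (by omega) hgz.le
        omega
      have hiz : (18 * D : ℤ) = num * i := by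
        rw [hi] at keyZ; push_cast at keyZ; linarith
      rcases h with ((((h | h) | h) | h) | h) | h
      · omega
      · exact h
      · have := mul_le_mul_of_nonneg_left hs.sq hnpos.le
        linarith
      · exact absurd (by rw [hiz]; exact Int.mul_emod_right _ _) h
      · refine absurd ?_ h
        rw [hiz, Int.mul_ediv_cancel_left _ hnpos.ne']
        omega
      · exfalso
        have hp0 : p ≠ 0 := hnz p (by simp [hX])
        have hq0 : q ≠ 0 := hnz q (by simp [hX])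
        have hh : 36 * ((q : ℚ) - p) * D / (p * q) ≤ num := by
          have h3 := hs.cube
          have hnq : (num : ℚ) = D * (1296 / g) := key
          have e2 : 36 * ((q : ℚ) - p) * D / (p * q) = (36 * (D : ℚ)) * (1 / (p : ℚ) - 1 / q) := by
            field_simp
          rw [e2, hnq]
          calc (36 * (D : ℚ)) * (1 / (p : ℚ) - 1 / q) ≤ (36 * D) * (36 / g) :=
                mul_le_mul_of_nonneg_left h3 (by positivity)
            _ = D * (1296 / g) := by ring
        rcases lt_or_gt_of_ne (mul_ne_zero hp0 hq0) with hpq | hpq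
        · have hpq' : (p : ℚ) * q < 0 := by exact_mod_cast hpq
          rw [Int.sign_eq_neg_one_of_neg hpq, Int.ofNat_natAbs_of_nonpos hpq.le] at h
          have h' := (Int.cast_lt (R := ℚ)).2 h
          rw [div_le_iff_of_neg hpq'] at hh
          push_cast at h'
          linarith
        · have hpq' : (0 : ℚ) < p * q := by exact_mod_cast hpq
          rw [Int.sign_eq_one_of_pos hpq, Int.natAbs_of_nonneg hpq.le] at h
          have h' := (Int.cast_lt (R := ℚ)).2 h
          rw [div_le_iff₀ hpq'] at hh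
          push_cast at h'
          linarith
    rw [if_neg hall] at h
    by_cases hn0 : num = 0
    · simp [hn0] at h
    rw [if_neg hn0] at h
    have hlen : t.length = 5 := by rw [List.Forall₂.length_eq hc', hX]; rfl
    have recur : ∀ j, check f (set1 t j (X.getD j 0)) = true → exc X = true := fun j =>
      ih _ (comp_set1 hc' j)
    by_cases hneg : num < 0
    · rw [if_pos hneg] at h
      set L := wFree 0 t * D / num.natAbs with hL
      rcases free_le hc' L 0 with hle | ⟨j, hj, hj1, hj2, hj3⟩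
      · exfalso
        have h1 : (wFree 0 t * D : ℕ) < (L + 1) * num.natAbs := by
          rw [hL, mul_comm _ num.natAbs]
          exact Nat.lt_mul_div_succ _ (Int.natAbs_pos.2 hn0)
        have h1' : (wFree 0 t : ℚ) * D < (L + 1) * -(num : ℚ) := by
          have : ((num.natAbs : ℕ) : ℚ) = -(num : ℚ) := by
            rw [Nat.cast_natAbs, abs_of_neg hneg, Int.cast_neg]
          rw [← this]; exact_mod_cast h1
        have h2 : (D : ℚ) * free 0 t X ≤ (wFree 0 t : ℚ) * D / (L + 1) := by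
          rw [mul_comm, div_eq_mul_inv, mul_right_comm, ← div_eq_mul_inv]
          exact mul_le_mul_of_nonneg_right hle (by positivity)
        have h3 : (wFree 0 t : ℚ) * D / (L + 1) < -(num : ℚ) := by
          rw [div_lt_iff₀ (by positivity)]; linarith
        have h4 : (0 : ℚ) < D * (1296 / g) := by positivity
        linarith
      · rw [zero_add] at hj2
        rw [List.all_eq_true] at h
        have := h j (List.mem_range.2 (by simpa [hX] using hj))
        rw [hj1, Bool.false_or] at this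
        have := allUpTo_mem this (hs.loc j (by simpa [hX] using hj)).1 hj3
        simp only [Bool.or_eq_true, decide_eq_true_eq] at this
        rcases this with (e | e) | e
        · simp only [hX] at hj2; omega
        · simp only [hX] at hj3; omega
        · exact recur j e
    rw [if_neg hneg] at h
    have hpos : 0 < num := by omega
    simp only [Bool.and_eq_true, decide_eq_true_eq] at h
    obtain ⟨⟨hM, hA⟩, hB⟩ := h
    set L := 4 * wFree 0 t * D / (3 * num.natAbs) with hL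
    rcases free_ge hc' L 0 with hge | ⟨j, hj, hj1, hj2, hj3⟩
    swap
    · rw [zero_add] at hj2
      rw [List.all_eq_true] at hA
      have := hA j (List.mem_range.2 (by simpa [hX] using hj))
      rw [hj1, Bool.false_or] at this
      have := allUpTo_mem this (hs.loc j (by simpa [hX] using hj)).1 hj3
      simp only [Bool.or_eq_true, decide_eq_true_eq] at this
      rcases this with (e | e) | e
      · simp only [hX] at hj2; omega
      · simp only [hX] at hj3; omega
      · exact recur j e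
    set M := sqrtUp 14 0 4096 (5184 * D / num.natAbs) with hMd
    set j := t.findIdx fun o => o.isNone with hjd
    have hj : j < 5 := by
      rw [← hlen, hjd, List.findIdx_lt_length]
      simp only [List.all_eq_true, not_forall] at hall
      obtain ⟨x, hx, hx'⟩ := hall
      exact ⟨x, hx, by cases x <;> simp at hx' ⊢⟩
    have hxsq : (X.getD j 0) * (X.getD j 0) ≤ (g : ℤ) := by
      have := hs.sq
      interval_cases j <;> simp [hX] <;> nlinarith [mul_self_nonneg U, mul_self_nonneg V, mul_self_nonneg C,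
        mul_self_nonneg p, mul_self_nonneg q]
    have hxM : (X.getD j 0).natAbs ≤ M := by
      have hnum' : ((num.natAbs : ℕ) : ℚ) = (num : ℚ) := by
        rw [Nat.cast_natAbs, abs_of_pos hpos]
      have h1 : (4 * wFree 0 t * D : ℕ) < (L + 1) * (3 * num.natAbs) := by
        rw [hL, mul_comm _ (3 * num.natAbs)]
        exact Nat.lt_mul_div_succ _ (Nat.mul_pos (by norm_num) (Int.natAbs_pos.2 hn0))
      have h1' : 4 * (wFree 0 t : ℚ) * D < (L + 1) * (3 * (num : ℚ)) := by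
        rw [← hnum']; exact_mod_cast h1
      have h2 : -((wFree 0 t : ℚ) * D / (L + 1)) ≤ (D : ℚ) * free 0 t X := by
        have := mul_le_mul_of_nonneg_left hge (show (0 : ℚ) ≤ D by positivity)
        refine le_trans (le_of_eq ?_) this
        ring
      have h3 : (wFree 0 t : ℚ) * D / (L + 1) < 3 / 4 * (num : ℚ) := by
        rw [div_lt_iff₀ (by positivity)]; linarith
      have h4 : (num : ℚ) / 4 < D * (1296 / g) := by linarith
      have h5 : (num : ℚ) * g < 5184 * D := by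
        rw [mul_div_assoc', lt_div_iff₀ hg] at h4; linarith
      have h6 : g * num.natAbs < 5184 * D := by
        have : ((num.natAbs : ℕ) : ℚ) * g < 5184 * D := by rw [hnum']; exact h5
        rw [mul_comm]; exact_mod_cast this
      have h7 : g ≤ 5184 * D / num.natAbs :=
        (Nat.le_div_iff_mul_le (Int.natAbs_pos.2 hn0)).2 h6.le
      have h8 : (X.getD j 0).natAbs * (X.getD j 0).natAbs ≤ g := by
        have : (((X.getD j 0).natAbs * (X.getD j 0).natAbs : ℕ) : ℤ) ≤ g := by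
          push_cast; rw [abs_mul_abs_self]; exact hxsq
        exact_mod_cast this
      exact (Nat.mul_self_lt_mul_self_iff.1 (by omega)).le
    have := allUpTo_mem hB (hs.loc j hj).1 hxM
    simp only [Bool.or_eq_true, decide_eq_true_eq] at this
    rcases this with e | e
    · simp only [hX] at hxM; omega
    · exact recur j e

theorem Sol.exceptional {g : ℕ} {U V C p q : ℤ} (hs : Sol g U V C p q) :
    exc [U, V, C, p, q] = true :=
  hs.check_sound 5 _ (.cons (by simp) (.cons (by simp) (.cons (by simp) (.cons (by simp) (.cons (by simp) .nil)))))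
    check_top

/-- The finite case with a pair of rows of value three. -/
theorem shapeC_false (P Z : ℤ) (hP : |P| ≤ 54) (hZ : |Z| ≤ 54) :
    P % 9 = 5 → Z % 9 = 6 → 4 ≤ P.natAbs → 4 ≤ Z.natAbs →
    ∀ U R : ℤ, U = -P - 2 * Z → R = P + Z - 1 → 4 ≤ U.natAbs → 4 ≤ R.natAbs →
    ∀ num den : ℤ, num = 2 * U * R * P + 4 * R * P + 2 * U * P - 4 * U * R → den = U * R * P →
    ∀ i : ℕ, i % 9 = 1 → num * i = 18 * den →
    1 + 2 * U * U + R * R + 2 * P * P + 2 * Z * Z ≤ 72 * (i : ℤ) → False := by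
  intro hP9 hZ9 hP4 hZ4 U R eU eR hU4 hR4 num den en ed i hi hni hsq
  have key : ∀ P ∈ Finset.Icc (-54 : ℤ) 54, P % 9 = 5 → 4 ≤ P.natAbs → ∀ Z ∈ Finset.Icc (-54 : ℤ) 54,
      Z % 9 = 6 → 4 ≤ Z.natAbs → 4 ≤ (-P - 2 * Z).natAbs → 4 ≤ (P + Z - 1).natAbs →
      ((2 * (-P - 2 * Z) * (P + Z - 1) * P + 4 * (P + Z - 1) * P + 2 * (-P - 2 * Z) * P
          - 4 * (-P - 2 * Z) * (P + Z - 1)) = 0 ∨
        (18 * ((-P - 2 * Z) * (P + Z - 1) * P)) % (2 * (-P - 2 * Z) * (P + Z - 1) * P + 4 * (P + Z - 1) * P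
          + 2 * (-P - 2 * Z) * P - 4 * (-P - 2 * Z) * (P + Z - 1)) ≠ 0 ∨
        (18 * ((-P - 2 * Z) * (P + Z - 1) * P)) / (2 * (-P - 2 * Z) * (P + Z - 1) * P + 4 * (P + Z - 1) * P
          + 2 * (-P - 2 * Z) * P - 4 * (-P - 2 * Z) * (P + Z - 1)) % 9 ≠ 1 ∨
        72 * ((18 * ((-P - 2 * Z) * (P + Z - 1) * P)) / (2 * (-P - 2 * Z) * (P + Z - 1) * P + 4 * (P + Z - 1) * P
          + 2 * (-P - 2 * Z) * P - 4 * (-P - 2 * Z) * (P + Z - 1))) <
          1 + 2 * (-P - 2 * Z) * (-P - 2 * Z) + (P + Z - 1) * (P + Z - 1) + 2 * P * P + 2 * Z * Z) := by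
    decide +kernel
  have hd : den ≠ 0 := by
    rw [ed]; exact mul_ne_zero (mul_ne_zero (fun e => by rw [e] at hU4; simp at hU4) (fun e => by rw [e] at hR4; simp at hR4)) (fun e => by rw [e] at hP4; simp at hP4)
  have hn : num ≠ 0 := fun e => hd (by rw [e, zero_mul] at hni; omega)
  have := key P (Finset.mem_Icc.2 (abs_le.1 hP)) hP9 hP4 Z (Finset.mem_Icc.2 (abs_le.1 hZ)) hZ9 hZ4
    (eU ▸ hU4) (eR ▸ hR4)
  rw [← eU, ← eR, ← en, ← ed, ← hni, Int.mul_emod_right, Int.mul_ediv_cancel_left _ hn] at this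
  omega

/-- Three inverses of numbers congruent to four, or to five, modulo nine do not sum to zero. -/
theorem three_inverses {r : ℤ} {s : ℤ} (hr : (r = 4 ∧ s = 5) ∨ (r = 5 ∧ s = 4)) {x y z : ℤ} (hx : x % 9 = r)
    (hy : y % 9 = r) (hz : z % 9 = r) (h : (1 : ℚ) / x + 1 / y + 1 / z = 0) : False := by
  have hx0 : (x : ℚ) ≠ 0 := by exact_mod_cast (show x ≠ 0 by omega)
  have hy0 : (y : ℚ) ≠ 0 := by exact_mod_cast (show y ≠ 0 by omega)
  have hz0 : (z : ℚ) ≠ 0 := by exact_mod_cast (show z ≠ 0 by omega)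
  field_simp at h
  have e : y * z + x * z + x * y = 0 := by
    have : ((y * z + x * z + x * y : ℤ) : ℚ) = 0 := by push_cast; linarith
    exact_mod_cast this
  have e' := congrArg (fun n : ℤ => (n : ZMod 9)) e
  have cast_eq : ∀ n : ℤ, n % 9 = r → (n : ZMod 9) = (r : ZMod 9) := fun n hn => by
    rw [← hn]; exact (ZMod.intCast_mod n 9).symm
  simp only [Int.cast_add, Int.cast_mul, Int.cast_zero, cast_eq x hx, cast_eq y hy, cast_eq z hz] at e'
  rcases hr with ⟨rfl, -⟩ | ⟨rfl, -⟩ <;> revert e' <;> decide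

theorem inv_add_zero {x y : ℤ} (hx : x ≠ 0) (hy : y ≠ 0) (h : (1 : ℚ) / x + 1 / y = 0) : x = -y := by
  have hx' : (x : ℚ) ≠ 0 := by exact_mod_cast hx
  have hy' : (y : ℚ) ≠ 0 := by exact_mod_cast hy
  field_simp at h
  have : ((x : ℤ) : ℚ) = ((-y : ℤ) : ℚ) := by push_cast; linarith
  exact_mod_cast this

theorem pair_eq {a b c e : ℤ} (ha : a ≠ 0) (hb : b ≠ 0) (hc : c ≠ 0) (he : e ≠ 0) (hs : c + e = -(a + b))
    (hne : a + b ≠ 0) (h : (1 : ℚ) / a + 1 / b + (1 / c + 1 / e) = 0) : c = -a ∨ c = -b := by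
  have ha' : (a : ℚ) ≠ 0 := by exact_mod_cast ha
  have hb' : (b : ℚ) ≠ 0 := by exact_mod_cast hb
  have hc' : (c : ℚ) ≠ 0 := by exact_mod_cast hc
  have he' : (e : ℚ) ≠ 0 := by exact_mod_cast he
  field_simp at h
  have h' : (b + a) * (c * e) + a * b * (e + c) = 0 := by
    have : (((b + a) * (c * e) + a * b * (e + c) : ℤ) : ℚ) = 0 := by push_cast; linarith
    exact_mod_cast this
  have h2 : (a + b) * (c * e - a * b) = 0 := by
    linear_combination h' - a * b * hs
  have h3 : c * e = a * b := sub_eq_zero.1 ((mul_eq_zero.1 h2).resolve_left hne)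
  have h4 : (c + a) * (c + b) = 0 := by linear_combination c * hs - h3
  rcases mul_eq_zero.1 h4 with h5 | h5
  · exact Or.inl (by linarith)
  · exact Or.inr (by linarith)

theorem natAbs_of {x : ℤ} (h : 4 ≤ |x|) : 4 ≤ x.natAbs := by
  rw [Int.abs_eq_natAbs] at h; omega

theorem inv_ge {x : ℤ} {n : ℕ} (hn : 0 < n) (h : (n : ℤ) ≤ x ∨ x ≤ -(n : ℤ)) : -(1 / (n : ℚ)) ≤ 1 / (x : ℚ) := by
  have hn' : (0 : ℚ) < n := by exact_mod_cast hn
  rcases h with h | h
  · have : (0 : ℚ) < x := by exact_mod_cast (show (0 : ℤ) < x by omega)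
    have h1 : (0 : ℚ) < 1 / x := by positivity
    have h2 : (0 : ℚ) < 1 / n := by positivity
    linarith
  · have h' : (n : ℚ) ≤ -(x : ℚ) := by exact_mod_cast (show (n : ℤ) ≤ -x by omega)
    have := one_div_le_one_div_of_le hn' h'
    rw [div_neg] at this
    linarith

theorem inv_le {x : ℤ} {n : ℕ} (hn : 0 < n) (h : (n : ℤ) ≤ x ∨ x ≤ -1) : 1 / (x : ℚ) ≤ 1 / (n : ℚ) := by
  rcases h with h | h
  · exact one_div_le_one_div_of_le (by exact_mod_cast hn) (by exact_mod_cast h)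
  · refine le_trans ?_ (by positivity)
    exact div_nonpos_of_nonneg_of_nonpos zero_le_one (by exact_mod_cast (show x ≤ 0 by omega))

theorem g_eq {g n : ℕ} (hg : 0 < g) (h : (1296 : ℚ) / n = 1296 / g) : g = n := by
  have hg' : (0 : ℚ) < g := by exact_mod_cast hg
  rcases Nat.eq_zero_or_pos n with rfl | hn
  · rw [Nat.cast_zero, div_zero] at h
    exact absurd h.symm (ne_of_gt (by positivity))
  have hn' : (0 : ℚ) < n := by exact_mod_cast hn
  rw [div_eq_div_iff hn'.ne' hg'.ne'] at h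
  have : (g : ℚ) = n := by linarith
  exact_mod_cast this

set_option maxHeartbeats 1600000 in
theorem arith (g : ℕ) (L : Fin 88 → List ℤ) (hlen : ∀ j, (L j).length ≤ 17)
    (hgram : resid (List.ofFn fun j => (L j).length) (List.ofFn cand) = target)
    (hres : ∀ j, ∀ x ∈ L j, 4 ≤ |x| ∧ (x + 4 * cand j 0 + 4 * cand j 1) % 9 = 0)
    (hlin : ∀ k, ∑ j, ((L j).map fun x => x * cand j k).sum = -1)
    (h01 : 1 + ∑ j, ((L j).map fun x : ℤ => ((cand j 0 : ℚ) * cand j 0 * cand j 1) / (x : ℚ)).sum = 648 / (g : ℚ))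
    (h10 : 1 + ∑ j, ((L j).map fun x : ℤ => ((cand j 1 : ℚ) * cand j 1 * cand j 0) / (x : ℚ)).sum = 648 / (g : ℚ))
    (h00 : (324 : ℚ) / g ≤ 1 + ∑ j, ((L j).map fun x : ℤ => ((cand j 0 : ℚ) * cand j 0 * cand j 0) / (x : ℚ)).sum)
    (hsq : 1 + ∑ j, ((L j).map fun x => x * x).sum ≤ (g : ℤ)) (hgpos : 0 < g)
    (hidx : ∃ i : ℕ, g = 72 * i ∧ i % 9 = 1) :
    g = 720 ∨ ((g = 20160 ∨ g = 201600) ∧
      ∑ j, ((L j).map fun x : ℤ => if (cand j 0 = 2 ∧ x = 5) ∨ (cand j 0 = -2 ∧ x = -5) then (1 : ℕ) else 0).sum = 1) := by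
  have hm := mem_dfs4 17 (List.ofFn cand) (List.ofFn fun j => (L j).length) (by simp) (fun c hc => by
    obtain ⟨j, rfl⟩ := List.mem_ofFn.1 hc
    exact hlen j)
  rw [hgram] at hm
  have hm := shapes hm
  have hg : (0 : ℚ) < g := by exact_mod_cast hgpos
  have hlenOf : ∀ s, (List.ofFn fun j => (L j).length) = ofSparse s →
      ∀ j : Fin 88, (L j).length = ((s.find? fun p => p.1 == j.1).map Prod.snd).getD 0 := fun s e j =>
    congrFun (List.ofFn_inj.1 e) j
  have hnil : ∀ (s : List (ℕ × ℕ)) (I : List (Fin 88)), (List.ofFn fun j => (L j).length) = ofSparse s →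
      (∀ j : Fin 88, j ∉ I → ((s.find? fun p => p.1 == j.1).map Prod.snd).getD 0 = 0) →
      ∀ j, j ∉ I → L j = [] := fun s I e hI j hj =>
    List.length_eq_zero_iff.1 ((hlenOf s e j).trans (hI j hj))
  simp only [List.mem_cons, List.not_mem_nil, or_false] at hm
  rcases hm with hm | hm | hm | hm | hm | hm
  · have hn := hnil _ [61, 65, 67, 68, 77, 87] hm (by decide +kernel)
    obtain ⟨a, ha⟩ := List.length_eq_one_iff.1 ((hlenOf _ hm 67).trans (by rfl))
    obtain ⟨b, c, hbc⟩ := List.length_eq_two.1 ((hlenOf _ hm 68).trans (by rfl))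
    rw [supp_sum L _ [61, 65, 67, 68, 77, 87] (by decide) hn] at h01 h10
    have ra := hres 67 a (by rw [ha]; simp)
    have rb := hres 68 b (by rw [hbc]; simp)
    have rc := hres 68 c (by rw [hbc]; simp)
    obtain ⟨u, hu⟩ := List.length_eq_one_iff.1 ((hlenOf _ hm 61).trans (by rfl))
    obtain ⟨x, hx⟩ := List.length_eq_one_iff.1 ((hlenOf _ hm 65).trans (by rfl))
    obtain ⟨w, hw⟩ := List.length_eq_one_iff.1 ((hlenOf _ hm 77).trans (by rfl))
    obtain ⟨t, ht⟩ := List.length_eq_one_iff.1 ((hlenOf _ hm 87).trans (by rfl))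
    simp [cand, ha, hbc, hu, hx, hw, ht] at h01 h10 ra rb rc
    exact absurd (three_inverses (r := 4) (s := 5) (Or.inl ⟨rfl, rfl⟩) (x := a) (y := b) (z := c) (by omega) (by omega) (by omega)
      (by simp only [div_eq_mul_inv] at *; linarith)) id
  · have hn := hnil _ [60, 61, 62, 65, 68, 80, 82] hm (by decide +kernel)
    obtain ⟨U, hU⟩ := List.length_eq_one_iff.1 ((hlenOf _ hm 60).trans (by rfl))
    obtain ⟨V, hV⟩ := List.length_eq_one_iff.1 ((hlenOf _ hm 61).trans (by rfl))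
    obtain ⟨R, hR⟩ := List.length_eq_one_iff.1 ((hlenOf _ hm 62).trans (by rfl))
    obtain ⟨X, hX⟩ := List.length_eq_one_iff.1 ((hlenOf _ hm 65).trans (by rfl))
    obtain ⟨Q, hQ⟩ := List.length_eq_one_iff.1 ((hlenOf _ hm 68).trans (by rfl))
    obtain ⟨Z, hZ⟩ := List.length_eq_one_iff.1 ((hlenOf _ hm 80).trans (by rfl))
    obtain ⟨P, hP⟩ := List.length_eq_one_iff.1 ((hlenOf _ hm 82).trans (by rfl))
    rw [supp_sum L _ [60, 61, 62, 65, 68, 80, 82] (by decide) hn] at h01 h10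
    have l0 := hlin 0
    have l1 := hlin 1
    have l2 := hlin 2
    have l3 := hlin 3
    rw [supp_sum L _ [60, 61, 62, 65, 68, 80, 82] (by decide) hn] at l0 l1 l2 l3
    have rU := hres 60 U (by rw [hU]; simp)
    have rV := hres 61 V (by rw [hV]; simp)
    have rR := hres 62 R (by rw [hR]; simp)
    have rX := hres 65 X (by rw [hX]; simp)
    have rQ := hres 68 Q (by rw [hQ]; simp)
    have rZ := hres 80 Z (by rw [hZ]; simp)
    have rP := hres 82 P (by rw [hP]; simp)
    simp [cand, hU, hV, hR, hX, hQ, hZ, hP] at h01 h10 l0 l1 l2 l3 rU rV rR rX rQ rZ rP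
    have hQP : Q = -P := inv_add_zero (by intro e; subst e; simp at rQ) (by intro e; subst e; simp at rP)
      (by simp only [div_eq_mul_inv] at *; linarith)
    have hXZ : X = Z := by omega
    have hVU : V = U := by omega
    have hUe : U = -P - 2 * Z := by omega
    have hRe : R = P + Z - 1 := by omega
    subst hQP hXZ hVU
    have nV : (V : ℚ) ≠ 0 := by exact_mod_cast (show V ≠ 0 by intro e; subst e; simp at rV)
    have nR : (R : ℚ) ≠ 0 := by exact_mod_cast (show R ≠ 0 by intro e; subst e; simp at rR)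
    have nP : (P : ℚ) ≠ 0 := by exact_mod_cast (show P ≠ 0 by intro e; subst e; simp at rP)
    have ek : 1 + 2 / (V : ℚ) + 1 / R - 2 / P = 648 / (g : ℚ) := by
      rw [← h01]
      push_cast
      simp only [div_eq_mul_inv, inv_neg]
      ring
    have bU : -(1 / 8 : ℚ) ≤ 1 / V := inv_ge (n := 8) (by norm_num) (by
      rcases abs_cases V with ⟨e, e'⟩ | ⟨e, e'⟩ <;> rw [e] at rV <;> omega)
    have bR : -(1 / 8 : ℚ) ≤ 1 / R := inv_ge (n := 8) (by norm_num) (by
      rcases abs_cases R with ⟨e, e'⟩ | ⟨e, e'⟩ <;> rw [e] at rR <;> omega)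
    have bP : (1 : ℚ) / P ≤ 1 / 5 := inv_le (n := 5) (by norm_num) (by
      rcases abs_cases P with ⟨e, e'⟩ | ⟨e, e'⟩ <;> rw [e] at rP <;> omega)
    have hg2880 : g ≤ 2880 := by
      have h1 : (9 / 40 : ℚ) ≤ 648 / g := by
        rw [← ek]
        simp only [div_eq_mul_inv] at bU bR bP ⊢
        linarith
      rw [le_div_iff₀ hg] at h1
      have : (g : ℚ) ≤ 2880 := by linarith
      exact_mod_cast this
    rw [supp_sum L _ [60, 61, 62, 65, 68, 80, 82] (by decide) hn] at hsq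
    simp [hU, hV, hR, hX, hQ, hZ, hP] at hsq
    have hPb : |P| ≤ 54 := abs_le.2 ⟨by nlinarith, by nlinarith⟩
    have hZb : |X| ≤ 54 := abs_le.2 ⟨by nlinarith, by nlinarith⟩
    obtain ⟨i, hgi, hi9⟩ := hidx
    refine (shapeC_false P X hPb hZb (by omega) (by omega) (natAbs_of rP.1) (natAbs_of rZ.1) V R hUe hRe
      (natAbs_of rU.1) (natAbs_of rR.1) _ _ rfl rfl i hi9 ?_ ?_).elim
    · have hi0 : (i : ℚ) ≠ 0 := by exact_mod_cast (show i ≠ 0 by omega)
      rw [hgi, Nat.cast_mul, Nat.cast_ofNat] at ek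
      field_simp at ek
      have : (((2 * V * R * P + 4 * R * P + 2 * V * P - 4 * V * R) * (i : ℤ) : ℤ) : ℚ) =
          ((18 * (V * R * P) : ℤ) : ℚ) := by
        push_cast
        linarith
      exact_mod_cast this
    · have : (g : ℤ) = 72 * (i : ℤ) := by exact_mod_cast hgi
      nlinarith
  · have hn := hnil _ [59, 61, 65, 68, 81, 83] hm (by decide +kernel)
    obtain ⟨R, hR⟩ := List.length_eq_one_iff.1 ((hlenOf _ hm 59).trans (by rfl))
    obtain ⟨U, V, hU⟩ := List.length_eq_two.1 ((hlenOf _ hm 61).trans (by rfl))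
    obtain ⟨X, hX⟩ := List.length_eq_one_iff.1 ((hlenOf _ hm 65).trans (by rfl))
    obtain ⟨Q, hQ⟩ := List.length_eq_one_iff.1 ((hlenOf _ hm 68).trans (by rfl))
    obtain ⟨Z, hZ⟩ := List.length_eq_one_iff.1 ((hlenOf _ hm 81).trans (by rfl))
    obtain ⟨P, hP⟩ := List.length_eq_one_iff.1 ((hlenOf _ hm 83).trans (by rfl))
    rw [supp_sum L _ [59, 61, 65, 68, 81, 83] (by decide) hn] at h01 h10
    have l0 := hlin 0
    have l1 := hlin 1
    have l2 := hlin 2
    have l3 := hlin 3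
    rw [supp_sum L _ [59, 61, 65, 68, 81, 83] (by decide) hn] at l0 l1 l2 l3
    have rR := hres 59 R (by rw [hR]; simp)
    have rU := hres 61 U (by rw [hU]; simp)
    have rV := hres 61 V (by rw [hU]; simp)
    have rX := hres 65 X (by rw [hX]; simp)
    have rQ := hres 68 Q (by rw [hQ]; simp)
    have rZ := hres 81 Z (by rw [hZ]; simp)
    have rP := hres 83 P (by rw [hP]; simp)
    simp [cand, hR, hU, hX, hQ, hZ, hP] at h01 h10 l0 l1 l2 l3 rR rU rV rX rQ rZ rP
    have hQP : Q = -P := inv_add_zero (by intro e; subst e; simp at rQ) (by intro e; subst e; simp at rP)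
      (by simp only [div_eq_mul_inv] at *; linarith)
    have : R = 1 := by omega
    subst this
    norm_num at rR
  · have hn := hnil _ [59, 60, 61, 67, 68, 82, 83, 87] hm (by decide +kernel)
    obtain ⟨U, hU⟩ := List.length_eq_one_iff.1 ((hlenOf _ hm 59).trans (by rfl))
    obtain ⟨W, hW⟩ := List.length_eq_one_iff.1 ((hlenOf _ hm 60).trans (by rfl))
    obtain ⟨W2, hW2⟩ := List.length_eq_one_iff.1 ((hlenOf _ hm 61).trans (by rfl))
    obtain ⟨Q1, hQ1⟩ := List.length_eq_one_iff.1 ((hlenOf _ hm 67).trans (by rfl))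
    obtain ⟨Q2, hQ2⟩ := List.length_eq_one_iff.1 ((hlenOf _ hm 68).trans (by rfl))
    obtain ⟨P1, hP1⟩ := List.length_eq_one_iff.1 ((hlenOf _ hm 82).trans (by rfl))
    obtain ⟨P2, hP2⟩ := List.length_eq_one_iff.1 ((hlenOf _ hm 83).trans (by rfl))
    obtain ⟨T, hT⟩ := List.length_eq_one_iff.1 ((hlenOf _ hm 87).trans (by rfl))
    rw [supp_sum L _ [59, 60, 61, 67, 68, 82, 83, 87] (by decide) hn] at h01 h10 h00
    have l0 := hlin 0
    have l1 := hlin 1
    have l2 := hlin 2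
    have l3 := hlin 3
    rw [supp_sum L _ [59, 60, 61, 67, 68, 82, 83, 87] (by decide) hn] at l0 l1 l2 l3
    have rU := hres 59 U (by rw [hU]; simp)
    have rW := hres 60 W (by rw [hW]; simp)
    have rW2 := hres 61 W2 (by rw [hW2]; simp)
    have rQ1 := hres 67 Q1 (by rw [hQ1]; simp)
    have rQ2 := hres 68 Q2 (by rw [hQ2]; simp)
    have rP1 := hres 82 P1 (by rw [hP1]; simp)
    have rP2 := hres 83 P2 (by rw [hP2]; simp)
    have rT := hres 87 T (by rw [hT]; simp)
    simp [cand, hU, hW, hW2, hQ1, hQ2, hP1, hP2, hT] at h01 h10 h00 l0 l1 l2 l3 rU rW rW2 rQ1 rQ2 rP1 rP2 rT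
    have nz : ∀ x : ℤ, 4 ≤ |x| → x ≠ 0 := fun x hx e => by subst e; simp at hx
    have hsumP : P1 + P2 = -(Q1 + Q2) := by omega
    have hH : (1 : ℚ) / Q1 + 1 / Q2 + (1 / P1 + 1 / P2) = 0 := by
      simp only [div_eq_mul_inv] at *; linarith
    rcases pair_eq (nz _ rQ1.1) (nz _ rQ2.1) (nz _ rP1.1) (nz _ rP2.1) hsumP (by omega) hH with hP | hP
    · have : U = 1 := by omega
      subst this
      norm_num at rU
    obtain rfl : P1 = -Q2 := hP
    obtain rfl : P2 = -Q1 := by omega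
    obtain rfl : W2 = W := by omega
    have eS : 2 + tot 0 [W2, -U, T, Q2, -Q1] = 1296 / (g : ℚ) := by
      rw [show (1296 : ℚ) / g = 2 * (648 / g) by ring, ← h01]
      simp only [tot, coef]
      push_cast
      simp only [div_eq_mul_inv, inv_neg]
      ring
    rw [supp_sum L _ [59, 60, 61, 67, 68, 82, 83, 87] (by decide) hn] at hsq ⊢
    simp [hU, hW, hW2, hQ1, hQ2, hP1, hP2, hT] at hsq
    have hs : Sol g W2 (-U) T Q2 (-Q1) := by
      refine ⟨by omega, by omega, ?_, hgpos, eS, by nlinarith, hidx, ?_⟩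
      · intro j hj
        have a1 := natAbs_of rW.1
        have a2 := natAbs_of rU.1
        have a3 := natAbs_of rT.1
        have a4 := natAbs_of rQ2.1
        have a5 := natAbs_of rQ1.1
        interval_cases j <;> simp [res] <;> omega
      · rw [show (36 : ℚ) / g = (648 / g - 324 / g) / 9 by ring]
        push_cast at h01 h00 ⊢
        simp only [div_eq_mul_inv, inv_neg] at *
        linarith
    have hexc := hs.exceptional
    simp only [exc, Bool.or_eq_true, beq_iff_eq, List.cons.injEq, and_true] at hexc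
    rcases hexc with (⟨rfl, e2, rfl, rfl, e5⟩ | ⟨rfl, e2, rfl, rfl, e5⟩) | ⟨rfl, e2, rfl, rfl, e5⟩
    · left
      rw [e2, e5] at eS
      exact g_eq hgpos (n := 720) (by rw [← eS]; norm_num [tot, coef])
    · right
      rw [e2, e5] at eS
      refine ⟨Or.inl (g_eq hgpos (n := 20160) (by rw [← eS]; norm_num [tot, coef])), ?_⟩
      obtain rfl : Q1 = -5 := by omega
      obtain rfl : U = -8 := by omega
      simp [cand, hU, hW, hW2, hQ1, hQ2, hP1, hP2, hT]
    · right
      rw [e2, e5] at eS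
      refine ⟨Or.inr (g_eq hgpos (n := 201600) (by rw [← eS]; norm_num [tot, coef])), ?_⟩
      obtain rfl : Q1 = -32 := by omega
      obtain rfl : U = 28 := by omega
      simp [cand, hU, hW, hW2, hQ1, hQ2, hP1, hP2, hT]
  · have hn := hnil _ [59, 60, 66, 67, 80, 82] hm (by decide +kernel)
    obtain ⟨R, hR⟩ := List.length_eq_one_iff.1 ((hlenOf _ hm 59).trans (by rfl))
    obtain ⟨U, V, hU⟩ := List.length_eq_two.1 ((hlenOf _ hm 60).trans (by rfl))
    obtain ⟨X, hX⟩ := List.length_eq_one_iff.1 ((hlenOf _ hm 66).trans (by rfl))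
    obtain ⟨Q, hQ⟩ := List.length_eq_one_iff.1 ((hlenOf _ hm 67).trans (by rfl))
    obtain ⟨Z, hZ⟩ := List.length_eq_one_iff.1 ((hlenOf _ hm 80).trans (by rfl))
    obtain ⟨P, hP⟩ := List.length_eq_one_iff.1 ((hlenOf _ hm 82).trans (by rfl))
    rw [supp_sum L _ [59, 60, 66, 67, 80, 82] (by decide) hn] at h01 h10
    have l0 := hlin 0
    have l1 := hlin 1
    have l2 := hlin 2
    have l3 := hlin 3
    rw [supp_sum L _ [59, 60, 66, 67, 80, 82] (by decide) hn] at l0 l1 l2 l3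
    have rR := hres 59 R (by rw [hR]; simp)
    have rU := hres 60 U (by rw [hU]; simp)
    have rV := hres 60 V (by rw [hU]; simp)
    have rX := hres 66 X (by rw [hX]; simp)
    have rQ := hres 67 Q (by rw [hQ]; simp)
    have rZ := hres 80 Z (by rw [hZ]; simp)
    have rP := hres 82 P (by rw [hP]; simp)
    simp [cand, hR, hU, hX, hQ, hZ, hP] at h01 h10 l0 l1 l2 l3 rR rU rV rX rQ rZ rP
    have hQP : Q = -P := inv_add_zero (by intro e; subst e; simp at rQ) (by intro e; subst e; simp at rP)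
      (by simp only [div_eq_mul_inv] at *; linarith)
    have : R = 1 := by omega
    subst this
    norm_num at rR
  · have hn := hnil _ [38, 60, 80, 82, 83, 87] hm (by decide +kernel)
    obtain ⟨W, hW⟩ := List.length_eq_one_iff.1 ((hlenOf _ hm 38).trans (by rfl))
    obtain ⟨U, hU⟩ := List.length_eq_one_iff.1 ((hlenOf _ hm 60).trans (by rfl))
    obtain ⟨Z, hZ⟩ := List.length_eq_one_iff.1 ((hlenOf _ hm 80).trans (by rfl))
    obtain ⟨a, b, ha⟩ := List.length_eq_two.1 ((hlenOf _ hm 82).trans (by rfl))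
    obtain ⟨c, hc⟩ := List.length_eq_one_iff.1 ((hlenOf _ hm 83).trans (by rfl))
    obtain ⟨T, hT⟩ := List.length_eq_one_iff.1 ((hlenOf _ hm 87).trans (by rfl))
    rw [supp_sum L _ [38, 60, 80, 82, 83, 87] (by decide) hn] at h01 h10
    have l0 := hlin 0
    have l1 := hlin 1
    have l2 := hlin 2
    have l3 := hlin 3
    rw [supp_sum L _ [38, 60, 80, 82, 83, 87] (by decide) hn] at l0 l1 l2 l3
    have rW := hres 38 W (by rw [hW]; simp)
    have rU := hres 60 U (by rw [hU]; simp)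
    have rZ := hres 80 Z (by rw [hZ]; simp)
    have ra := hres 82 a (by rw [ha]; simp)
    have rb := hres 82 b (by rw [ha]; simp)
    have rc := hres 83 c (by rw [hc]; simp)
    have rT := hres 87 T (by rw [hT]; simp)
    simp [cand, hW, hU, hZ, ha, hc, hT] at h01 h10 l0 l1 l2 l3 rW rU rZ ra rb rc rT
    exact absurd (three_inverses (r := 5) (s := 4) (Or.inr ⟨rfl, rfl⟩) (x := a) (y := b) (z := c) (by omega) (by omega) (by omega)
      (by simp only [div_eq_mul_inv] at *; linarith)) id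

end Cfsg.Agent.SelfCentNineD8Arith64
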