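import Mathlib
import Cfsg.Agent.Lib.ClassAlgebraVal
import Cfsg.Agent.Lib.CharBasicLinear
import Cfsg.Agent.Lib.Simple360

/-!
Groups with a self-centralising elementary abelian Sylow subgroup of order nine whose non-trivial
elements have centralisers inside the normaliser: triangles and character columns.
-/

set_option autoImplicit false

namespace Cfsg.Agent.SelfCentNineLoc64

open scoped ComplexConjugate
open Cfsg.Agent.CharBasic Cfsg.Agent.CharBasicOrth Cfsg.Agent.CharBasicDecomp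

universe u

variable {G : Type u} [Group G] [Finite G] {S : Subgroup G}

/-- The hypotheses. -/
structure Loc (S : Subgroup G) : Prop where
  comm : ∀ a ∈ S, ∀ b ∈ S, a * b = b * a
  exp : ∀ a ∈ S, a ^ 3 = 1
  card : Nat.card S = 9
  self : ∀ g : G, (∀ s ∈ S, g * s = s * g) → g ∈ S
  cent : ∀ s ∈ S, s ≠ 1 → Subgroup.centralizer ({s} : Set G) ≤ Subgroup.normalizer (S : Set G)
  sylow : ∀ x ∈ Subgroup.normalizer (S : Set G), x ^ 3 ∈ S → x ∈ S

theorem pow_three_mem_cases {x : G} (h3 : orderOf x ∣ 3) : x * x * x = 1 := by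
  have := orderOf_dvd_iff_pow_eq_one.1 h3
  rwa [pow_three'] at this

theorem Loc.of_sylow (P : Sylow 3 G) (hP : S = (P : Subgroup G)) (hcomm : ∀ a ∈ S, ∀ b ∈ S, a * b = b * a)
    (hexp : ∀ a ∈ S, a ^ 3 = 1) (hcard : Nat.card S = 9) (hC : Subgroup.centralizer (S : Set G) = S)
    (hcent : ∀ s ∈ S, s ≠ 1 → Subgroup.centralizer ({s} : Set G) ≤ Subgroup.normalizer (S : Set G)) :
    Loc S := by
  refine ⟨hcomm, hexp, hcard, fun g hg => ?_, hcent, fun x hx hx3 => ?_⟩
  · rw [← hC]; exact Subgroup.mem_centralizer_iff.2 fun s hs => (hg s hs).symm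
  · haveI : Fact (Nat.Prime 3) := ⟨Nat.prime_three⟩
    haveI hn : (S.subgroupOf (Subgroup.normalizer (S : Set G))).Normal := Subgroup.normal_in_normalizer
    set n : Subgroup.normalizer (S : Set G) := ⟨x, hx⟩ with hndef
    have hcop : ¬ 3 ∣ (S.subgroupOf (Subgroup.normalizer (S : Set G))).index := fun hd => by
      rw [← Subgroup.relIndex] at hd
      subst hP
      exact P.not_dvd_index (hd.trans (Subgroup.relIndex_dvd_index_of_le Subgroup.le_normalizer))
    have h3 : ((QuotientGroup.mk n : _ ⧸ S.subgroupOf (Subgroup.normalizer (S : Set G)))) ^ 3 = 1 := by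
      rw [← QuotientGroup.mk_pow, QuotientGroup.eq_one_iff]
      exact hx3
    have ho := orderOf_dvd_natCard (QuotientGroup.mk n : _ ⧸ S.subgroupOf (Subgroup.normalizer (S : Set G)))
    rcases (Nat.dvd_prime Nat.prime_three).1 (orderOf_dvd_of_pow_eq_one h3) with h | h
    · rw [orderOf_eq_one_iff, QuotientGroup.eq_one_iff] at h
      exact h
    · rw [h] at ho
      exact absurd ho hcop

theorem Loc.orderOf_eq (h : Loc S) {u : G} (hu : u ∈ S) (hu1 : u ≠ 1) : orderOf u = 3 :=
  haveI : Fact (Nat.Prime 3) := ⟨Nat.prime_three⟩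
  orderOf_eq_prime (h.exp u hu) hu1

theorem Loc.mem_of_three (h : Loc S) {x : G} (hx : x ∈ Subgroup.normalizer (S : Set G)) (h3 : x ^ 3 = 1) :
    x ∈ S :=
  h.sylow x hx (h3.symm ▸ S.one_mem)

theorem Loc.cube (h : Loc S) {u : G} (hu : u ∈ S) : u * u * u = 1 := by
  rw [← pow_three']; exact h.exp u hu

theorem Loc.sq_eq_inv (h : Loc S) {u : G} (hu : u ∈ S) : u * u = u⁻¹ :=
  eq_inv_of_mul_eq_one_left (h.cube hu)

theorem Loc.ne_inv (h : Loc S) {u : G} (hu : u ∈ S) (hu1 : u ≠ 1) : u ≠ u⁻¹ := fun e => by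
  have h2 : u * u = 1 := by nth_rewrite 2 [e]; exact mul_inv_cancel u
  have h3 := h.cube hu
  rw [h2, one_mul] at h3
  exact hu1 h3

/-- Coordinates with respect to two elements. -/
def coord (u v : G) (x : ZMod 3 × ZMod 3) : G := u ^ x.1.val * v ^ x.2.val

theorem Loc.coord_mem (h : Loc S) {u v : G} (hu : u ∈ S) (hv : v ∈ S) (x : ZMod 3 × ZMod 3) :
    coord u v x ∈ S := S.mul_mem (S.pow_mem hu _) (S.pow_mem hv _)

theorem Loc.coord_add (h : Loc S) {u v : G} (hu : u ∈ S) (hv : v ∈ S) (x y : ZMod 3 × ZMod 3) :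
    coord u v (x + y) = coord u v x * coord u v y := by
  have red : ∀ w ∈ S, ∀ a b : ZMod 3, w ^ (a + b).val = w ^ a.val * w ^ b.val := by
    intro w hw a b
    rw [← pow_add, ZMod.val_add]
    nth_rewrite 2 [← Nat.div_add_mod (a.val + b.val) 3]
    rw [pow_add, pow_mul, h.exp w hw, one_pow, one_mul]
  simp only [coord, Prod.fst_add, Prod.snd_add, red u hu, red v hv]
  have hc : u ^ y.1.val * v ^ x.2.val = v ^ x.2.val * u ^ y.1.val :=
    h.comm _ (S.pow_mem hu _) _ (S.pow_mem hv _)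
  calc u ^ x.1.val * u ^ y.1.val * (v ^ x.2.val * v ^ y.2.val)
      = u ^ x.1.val * (u ^ y.1.val * v ^ x.2.val) * v ^ y.2.val := by group
    _ = _ := by rw [hc]; group

theorem coord_zero (u v : G) : coord u v 0 = 1 := by simp [coord]

theorem coord_one_zero (u v : G) : coord u v (1, 0) = u := by simp [coord, ZMod.val_one]

theorem coord_zero_one (u v : G) : coord u v (0, 1) = v := by simp [coord, ZMod.val_one]

theorem Loc.coord_neg (h : Loc S) {u v : G} (hu : u ∈ S) (hv : v ∈ S) (x : ZMod 3 × ZMod 3) :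
    coord u v (-x) = (coord u v x)⁻¹ :=
  eq_inv_of_mul_eq_one_left (by rw [← h.coord_add hu hv, neg_add_cancel, coord_zero])

theorem Loc.coord_bij (h : Loc S) {u v : G} (hu : u ∈ S) (hu1 : u ≠ 1) (hv : v ∈ S)
    (hvu : v ∉ Subgroup.zpowers u) :
    Function.Bijective (fun x => (⟨coord u v x, h.coord_mem hu hv x⟩ : S)) := by
  refine (Nat.bijective_iff_injective_and_card _).2 ⟨?_, by simp [h.card]⟩
  have key : ∀ x, coord u v x = 1 → x = 0 := by
    rintro ⟨i, j⟩ hx
    have hv' : v ^ j.val ∈ Subgroup.zpowers u := by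
      rw [show v ^ j.val = (u ^ i.val)⁻¹ from eq_inv_of_mul_eq_one_right hx]
      exact Subgroup.inv_mem _ (Subgroup.pow_mem _ (Subgroup.mem_zpowers u) _)
    have hj : j = 0 := by
      fin_cases j
      · rfl
      · exact absurd (by simpa [ZMod.val] using hv') hvu
      · refine absurd ?_ hvu
        have h2 : (v ^ 2)⁻¹ = v := inv_eq_of_mul_eq_one_left (by rw [sq, ← mul_assoc, h.cube hv])
        rw [← h2]
        exact Subgroup.inv_mem _ (by simpa [ZMod.val] using hv')
    subst hj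
    have hi : u ^ i.val = 1 := by simpa [coord] using hx
    have hd := orderOf_dvd_of_pow_eq_one hi
    rw [h.orderOf_eq hu hu1] at hd
    have hlt := i.val_lt
    exact Prod.ext (show i = 0 from (ZMod.val_eq_zero i).1 (by omega)) rfl
  intro x y hxy
  have e : coord u v x = coord u v y := congrArg Subtype.val hxy
  refine sub_eq_zero.1 (key _ ?_)
  rw [sub_eq_add_neg, h.coord_add hu hv, h.coord_neg hu hv, e, mul_inv_cancel]

theorem Loc.exists_indep (h : Loc S) (u : G) (hu : u ∈ S) (hu1 : u ≠ 1) :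
    ∃ v ∈ S, v ∉ Subgroup.zpowers u := by
  by_contra hc
  push Not at hc
  have := Subgroup.card_le_of_le (show S ≤ Subgroup.zpowers u from hc)
  rw [h.card, Nat.card_zpowers, h.orderOf_eq hu hu1] at this
  omega

theorem Loc.conj_coord (h : Loc S) {u v g : G} (hu : u ∈ S) (hv : v ∈ S) {a b : ZMod 3 × ZMod 3}
    (ha : g * u * g⁻¹ = coord u v a) (hb : g * v * g⁻¹ = coord u v b) (x : ZMod 3 × ZMod 3) :
    g * coord u v x * g⁻¹ = coord u v (x.1.val • a + x.2.val • b) := by
  have hpow : ∀ (n : ℕ) (c : ZMod 3 × ZMod 3), coord u v (n • c) = coord u v c ^ n := by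
    intro n c
    induction n with
    | zero => simp [coord_zero]
    | succ n ih => rw [succ_nsmul, h.coord_add hu hv, ih, pow_succ]
  rw [h.coord_add hu hv, hpow, hpow, ← ha, ← hb, conj_pow, conj_pow, coord]
  group

theorem centralizer_mem {u g : G} :
    g ∈ Subgroup.centralizer ({u} : Set G) ↔ g * u = u * g := Subgroup.mem_centralizer_singleton_iff

theorem Loc.mem_normalizer (h : Loc S) {u g : G} (hu : u ∈ S) (hu1 : u ≠ 1) (hg : g * u = u * g) :
    g ∈ Subgroup.normalizer (S : Set G) :=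
  h.cent u hu hu1 (centralizer_mem.2 hg)

theorem Loc.le_centralizer (h : Loc S) {u : G} (hu : u ∈ S) : S ≤ Subgroup.centralizer ({u} : Set G) :=
  fun x hx => centralizer_mem.2 (h.comm x hx u hu)

/-- Outside `S` the centraliser of an element of `S` has a single coset. -/
theorem Loc.two_cosets (h : Loc S) {u g g' : G} (hu : u ∈ S) (hu1 : u ≠ 1) (hg : g * u = u * g)
    (hg' : g' * u = u * g') (hgS : g ∉ S) (hgS' : g' ∉ S) : g' * g⁻¹ ∈ S := by
  obtain ⟨v, hv, hvu⟩ := h.exists_indep u hu hu1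
  have bij := h.coord_bij hu hu1 hv hvu
  have act : ∀ x : G, x * u = u * x → x ∉ S → ∃ k : ZMod 3, x * v * x⁻¹ = coord u v (k, 2) := by
    intro x hx hxS
    have hxN := h.mem_normalizer hu hu1 hx
    obtain ⟨⟨i, j⟩, hij⟩ := bij.2 ⟨x * v * x⁻¹, (Subgroup.mem_normalizer_iff.1 hxN v).1 hv⟩
    have hij' : x * v * x⁻¹ = coord u v (i, j) := (congrArg Subtype.val hij).symm
    have hu' : x * u * x⁻¹ = coord u v (1, 0) := by rw [hx, mul_inv_cancel_right, coord_one_zero]
    fin_cases j
    · exfalso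
      refine hvu ?_
      have : v = x⁻¹ * u ^ i.val * x := by
        rw [show u ^ i.val = x * v * x⁻¹ by rw [hij']; simp [coord, ZMod.val]]
        group
      rw [this, mul_assoc, (Commute.pow_right (show Commute x u from hx) i.val).eq.symm, inv_mul_cancel_left]
      exact Subgroup.pow_mem _ (Subgroup.mem_zpowers u) _
    · exfalso
      refine hxS (h.sylow x hxN (h.self _ fun s hs => ?_))
      have l1 : ∀ y, x * coord u v y * x⁻¹ = coord u v (y.1.val • (1, 0) + y.2.val • (i, 1)) :=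
        h.conj_coord hu hv hu' hij'
      obtain ⟨y, hy⟩ := bij.2 ⟨s, hs⟩
      have hy' : coord u v y = s := congrArg Subtype.val hy
      have e3 : x ^ 3 * coord u v y * (x ^ 3)⁻¹ = coord u v y := by
        have : x ^ 3 * coord u v y * (x ^ 3)⁻¹ = x * (x * (x * coord u v y * x⁻¹) * x⁻¹) * x⁻¹ := by
          rw [pow_three']; group
        rw [this, l1, l1, l1]
        congr 1
        clear hy' hy this l1 hij' hij hu'
        revert i y
        decide
      rw [hy'] at e3
      calc x ^ 3 * s = x ^ 3 * s * (x ^ 3)⁻¹ * x ^ 3 := by group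
        _ = s * x ^ 3 := by rw [e3]
    · exact ⟨i, hij'⟩
  by_contra hd
  have hdc : g' * g⁻¹ * u = u * (g' * g⁻¹) := by
    have : g⁻¹ * u = u * g⁻¹ := ((show Commute g u from hg).inv_left).eq
    rw [mul_assoc, this, ← mul_assoc, hg', mul_assoc]
  obtain ⟨k, hk⟩ := act g hg hgS
  obtain ⟨k', hk'⟩ := act g' hg' hgS'
  obtain ⟨l, hl⟩ := act _ hdc hd
  have hu' : g' * g⁻¹ * u * (g' * g⁻¹)⁻¹ = coord u v (1, 0) := by rw [hdc, mul_inv_cancel_right, coord_one_zero]
  have e := h.conj_coord hu hv hu' hl (k, 2)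
  rw [← hk] at e
  have e2 : g' * g⁻¹ * (g * v * g⁻¹) * (g' * g⁻¹)⁻¹ = g' * v * g'⁻¹ := by group
  rw [e2, hk'] at e
  have := bij.1 (Subtype.ext e : (⟨coord u v (k', 2), h.coord_mem hu hv _⟩ : S) = ⟨_, h.coord_mem hu hv _⟩)
  revert this
  clear e e2 hk hk' hl hu'
  revert k k' l
  decide

theorem Loc.card_centralizer (h : Loc S) {u : G} (hu : u ∈ S) (hu1 : u ≠ 1) :
    Nat.card (Subgroup.centralizer ({u} : Set G)) = 9 ∨ Nat.card (Subgroup.centralizer ({u} : Set G)) = 18 := by
  by_cases hc : Subgroup.centralizer ({u} : Set G) ≤ S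
  · exact Or.inl ((le_antisymm hc (h.le_centralizer hu)) ▸ h.card)
  · right
    obtain ⟨g, hg, hgS⟩ := SetLike.not_le_iff_exists.1 hc
    have hidx : S.relIndex (Subgroup.centralizer ({u} : Set G)) = 2 := by
      rw [Subgroup.relIndex, Subgroup.index_eq_two_iff']
      refine ⟨⟨g, hg⟩, fun b => ?_⟩
      by_cases hb : (b : G) ∈ S
      · refine Or.inr ⟨Subgroup.mem_subgroupOf.2 hb, fun hm => hgS ?_⟩
        have hm' : g * (b : G) ∈ S := hm
        simpa using S.mul_mem hm' (S.inv_mem hb)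
      · refine Or.inl ⟨?_, fun hm => hb hm⟩
        have hginv : g⁻¹ ∈ Subgroup.centralizer ({u} : Set G) := Subgroup.inv_mem _ hg
        have := h.two_cosets hu hu1 (centralizer_mem.1 hginv) (centralizer_mem.1 b.2)
          (fun e => hgS (by simpa using S.inv_mem e)) hb
        rw [inv_inv] at this
        have hconj : g * ((b : G) * g) * g⁻¹ ∈ S :=
          (Subgroup.mem_normalizer_iff.1 (h.mem_normalizer hu hu1 (centralizer_mem.1 hg)) _).1 this
        show g * (b : G) ∈ S
        rwa [← mul_assoc, mul_inv_cancel_right] at hconj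
    have e := Subgroup.card_mul_index (S.subgroupOf (Subgroup.centralizer ({u} : Set G)))
    rw [← Subgroup.relIndex, hidx, Nat.card_congr (Subgroup.subgroupOfEquivOfLe (h.le_centralizer hu)).toEquiv,
      h.card] at e
    omega

/-- A triangle either fixes an element or has type `(K, K, K²)`. -/
theorem triangle_split {H : Type*} [Group H] [Finite H] {u y : H} (hu3 : u * u * u = 1)
    (hy3 : y * y * y = 1) (ht : u * y * (u * y) * (u * y) = 1) (hn : ¬ IsConj (u * u) (u * y)) :
    ∃ z : H, z ≠ 1 ∧ z * u = u * z ∧ z * y = y * z := by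
  have hu' : u⁻¹ = u * u := inv_eq_of_mul_eq_one_right (by rw [← mul_assoc, hu3])
  have hy' : y * y = y⁻¹ := eq_inv_of_mul_eq_one_left hy3
  have hxyx : u * y * u = (y * u * y)⁻¹ := eq_inv_of_mul_eq_one_left (by simpa [mul_assoc] using ht)
  set p := u * y⁻¹ with hp
  set q := y⁻¹ * u with hq
  have hpq : p * q = u * y * u := by
    rw [hp, hq, ← hy']; calc u * (y * y) * (y * y * u) = u * (y * y * y) * y * u := by group
      _ = u * y * u := by rw [hy3, mul_one]
  have hqp : q * p = u * y * u := by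
    rw [hp, hq, hxyx]
    calc y⁻¹ * u * (u * y⁻¹) = y⁻¹ * (u * u) * y⁻¹ := by group
      _ = (y * u * y)⁻¹ := by rw [← hu']; group
  set A := Subgroup.closure ({p, q} : Set H) with hA
  have hAc : ∀ a ∈ A, ∀ b ∈ A, a * b = b * a := by
    have hgen : ∀ a ∈ ({p, q} : Set H), ∀ b ∈ ({p, q} : Set H), a * b = b * a := by
      rintro a (rfl | rfl) b (rfl | rfl)
      · rfl
      · rw [hpq, hqp]
      · rw [hpq, hqp]
      · rfl
    intro a ha b hb
    have h1 : A ≤ Subgroup.centralizer ({p, q} : Set H) := (Subgroup.closure_le _).2 fun a ha =>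
      Subgroup.mem_centralizer_iff.2 fun b hb => hgen b hb a ha
    have h2 : A ≤ Subgroup.centralizer (A : Set H) := (Subgroup.closure_le _).2 fun a ha =>
      Subgroup.mem_centralizer_iff.2 fun b hb =>
        ((Subgroup.mem_centralizer_iff.1 (h1 hb)) a ha).symm
    exact ((Subgroup.mem_centralizer_iff.1 (h2 ha)) b hb).symm
  have hpA : p ∈ A := Subgroup.subset_closure (Set.mem_insert _ _)
  have hqA : q ∈ A := Subgroup.subset_closure (Set.mem_insert_of_mem _ rfl)
  have hinv : ∀ a ∈ A, u * a * u⁻¹ ∈ A := by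
    intro a ha
    have : A ≤ A.comap (MulAut.conj u).toMonoidHom := (Subgroup.closure_le _).2 (by
      rintro a (rfl | rfl)
      · show u * (u * y⁻¹) * u⁻¹ ∈ A
        have e : u * (u * y⁻¹) * u⁻¹ = (p * q)⁻¹ := by
          rw [hpq, mul_inv_rev, mul_inv_rev, hu']
          group
        rw [e]; exact A.inv_mem (A.mul_mem hpA hqA)
      · show u * (y⁻¹ * u) * u⁻¹ ∈ A
        rwa [← mul_assoc, mul_inv_cancel_right, ← hp])
    exact this ha
  have hy_eq : y = u * q⁻¹ := by rw [hq]; group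
  by_contra hfix
  push Not at hfix
  let f : A → A := fun a => ⟨u * a * u⁻¹ * (a : H)⁻¹, A.mul_mem (hinv a a.2) (A.inv_mem a.2)⟩
  have hf : Function.Injective f := by
    intro a b hab
    have h1 : u * a * u⁻¹ * (a : H)⁻¹ = u * b * u⁻¹ * (b : H)⁻¹ := congrArg Subtype.val hab
    have hd : (b : H)⁻¹ * a ∈ A := A.mul_mem (A.inv_mem b.2) a.2
    by_contra hne
    have h3 : u * a * u⁻¹ = u * b * u⁻¹ * ((b : H)⁻¹ * a) := by
      calc u * a * u⁻¹ = u * a * u⁻¹ * (a : H)⁻¹ * a := by group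
        _ = _ := by rw [h1]; group
    have hzu : (b : H)⁻¹ * a * u = u * ((b : H)⁻¹ * a) := by
      calc (b : H)⁻¹ * a * u = (u * b * u⁻¹)⁻¹ * (u * a * u⁻¹) * u := by rw [h3]; group
        _ = u * ((b : H)⁻¹ * a) := by group
    refine hfix _ (fun e => hne (Subtype.ext (by rwa [inv_mul_eq_one, eq_comm] at e))) hzu ?_
    have hzq : (b : H)⁻¹ * a * q⁻¹ = q⁻¹ * ((b : H)⁻¹ * a) := hAc _ hd _ (A.inv_mem hqA)
    rw [hy_eq, ← mul_assoc, hzu, mul_assoc, hzq, ← mul_assoc]
  obtain ⟨a, ha⟩ := Finite.injective_iff_surjective.1 hf ⟨q⁻¹, A.inv_mem hqA⟩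
  have ha' : u * a * u⁻¹ * (a : H)⁻¹ = q⁻¹ := congrArg Subtype.val ha
  -- `u * y = u * u * q⁻¹` is conjugate to `u * u`
  apply hn
  refine isConj_iff.2 ⟨(a : H), ?_⟩
  rw [hy_eq, ← ha']
  calc (a : H) * (u * u) * (a : H)⁻¹ = u * u * u * ((a : H) * u⁻¹ * (a : H)⁻¹) := by rw [hu3, one_mul, hu']
    _ = u * (u * (u * a * u⁻¹ * (a : H)⁻¹)) := by group

/-- An element centralising both sides of a triangle places it in `S`, if its order is divisible by three. -/
theorem Loc.mem_of_three_dvd (h : Loc S) {u y z : G} (hu : u ∈ S) (hu1 : u ≠ 1) (hy : y ^ 3 = 1)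
    (hzu : z * u = u * z) (hzy : z * y = y * z) (hz : 3 ∣ orderOf z) : y ∈ S := by
  obtain ⟨k, hk⟩ := hz
  have hpos := orderOf_pos z
  have hs : orderOf (z ^ k) = 3 := by
    rw [orderOf_pow' z (by rintro rfl; omega), hk, Nat.gcd_eq_right (Dvd.intro_left 3 rfl)]
    exact Nat.mul_div_cancel _ (Nat.pos_of_ne_zero (by rintro rfl; omega))
  have hsS : z ^ k ∈ S := h.mem_of_three
    (h.mem_normalizer hu hu1 ((show Commute z u from hzu).pow_left k).eq) (by rw [← hs]; exact pow_orderOf_eq_one _)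
  refine h.mem_of_three (h.mem_normalizer hsS ?_ ((show Commute z y from hzy).pow_left k).eq.symm) hy
  intro e
  rw [e, orderOf_one] at hs
  norm_num at hs

/-- A triangle of elements of order three lies in `S` unless its type is `(K, K, K²)`. -/
theorem Loc.triangle (h : Loc S) {u y : G} (hu : u ∈ S) (hu1 : u ≠ 1) (hy : y ^ 3 = 1)
    (ht : (u * y) ^ 3 = 1) (hn : ¬ IsConj (u * u) (u * y)) : y ∈ S := by
  have hy3 : y * y * y = 1 := by rw [← pow_three']; exact hy
  have ht3 : u * y * (u * y) * (u * y) = 1 := by rw [← pow_three']; exact ht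
  have invol : ∀ z : G, z ≠ 1 → z * u = u * z → z * y = y * z → y ∉ S → z ∉ S ∧ z * z = 1 := by
    intro z hz1 hzu hzy hyS
    have h3 : ¬ 3 ∣ orderOf z := fun hd => hyS (h.mem_of_three_dvd hu hu1 hy hzu hzy hd)
    have hzS : z ∉ S := fun hzS => h3 (by rw [h.orderOf_eq hzS hz1])
    refine ⟨hzS, ?_⟩
    by_contra hzz
    have hzzu : z * z * u = u * (z * z) := by rw [mul_assoc, hzu, ← mul_assoc, hzu, mul_assoc]
    by_cases hzzS : z * z ∈ S
    · have h6 : orderOf (z * z) ∣ orderOf z := orderOf_dvd_of_pow_eq_one (by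
        rw [← sq, ← pow_mul, mul_comm, pow_mul, pow_orderOf_eq_one, one_pow])
      rw [h.orderOf_eq hzzS hzz] at h6
      exact h3 h6
    · have := h.two_cosets hu hu1 hzu hzzu hzS hzzS
      rw [mul_inv_cancel_right] at this
      exact hzS this
  by_contra hyS
  obtain ⟨z, hz1, hzu, hzy⟩ := triangle_split (h.cube hu) hy3 ht3 hn
  obtain ⟨hzS, hzz⟩ := invol z hz1 hzu hzy hyS
  -- repeat the argument in the centraliser of the involution
  set C := Subgroup.centralizer ({z} : Set G) with hC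
  let Z : Subgroup C := Subgroup.zpowers ⟨z, centralizer_mem.2 rfl⟩
  haveI hZn : Z.Normal := ⟨fun n hn g => by
    obtain ⟨i, rfl⟩ := Subgroup.mem_zpowers_iff.1 hn
    refine Subgroup.mem_zpowers_iff.2 ⟨i, Subtype.ext ?_⟩
    have hg : Commute (g : G) z := centralizer_mem.1 g.2
    simp only [Subgroup.coe_mul, Subgroup.coe_inv, SubgroupClass.coe_zpow]
    rw [(hg.zpow_right i).eq, mul_inv_cancel_right]⟩
  have hmem : ∀ w : C, w ∈ Z → (w : G) = 1 ∨ (w : G) = z := by
    intro w hw
    obtain ⟨i, rfl⟩ := Subgroup.mem_zpowers_iff.1 hw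
    rcases Int.even_or_odd' i with ⟨j, rfl | rfl⟩
    · left
      show z ^ (2 * j) = 1
      rw [_root_.zpow_mul, zpow_two, hzz, _root_.one_zpow]
    · right
      show z ^ (2 * j + 1) = z
      rw [_root_.zpow_add, _root_.zpow_mul, zpow_two, hzz, _root_.one_zpow, one_mul, zpow_one]
  let a : C := ⟨u, centralizer_mem.2 hzu.symm⟩
  let b : C := ⟨y, centralizer_mem.2 hzy.symm⟩
  have strip : ∀ (w x : G) (g : G), x * x * x = 1 → w * w * w = 1 → g * z = z * g →
      (g * w * g⁻¹ = x ∨ g * w * g⁻¹ = x * z) → x * z = z * x → g * w * g⁻¹ = x := by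
    intro w x g hx hw hgz hor hxz
    rcases hor with e | e
    · exact e
    · exfalso
      have e3 : (g * w * g⁻¹) ^ 3 = 1 := by rw [conj_pow, pow_three', hw, mul_one, mul_inv_cancel]
      rw [e, (show Commute x z from hxz).mul_pow, pow_three', hx, one_mul, pow_three', hzz, one_mul] at e3
      exact hz1 e3
  have e1 : (QuotientGroup.mk a : C ⧸ Z) * QuotientGroup.mk a * QuotientGroup.mk a = 1 := by
    rw [← QuotientGroup.mk_mul, ← QuotientGroup.mk_mul, show a * a * a = 1 from Subtype.ext (h.cube hu)]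
    rfl
  have e2 : (QuotientGroup.mk b : C ⧸ Z) * QuotientGroup.mk b * QuotientGroup.mk b = 1 := by
    rw [← QuotientGroup.mk_mul, ← QuotientGroup.mk_mul, show b * b * b = 1 from Subtype.ext hy3]
    rfl
  have e3 : (QuotientGroup.mk a : C ⧸ Z) * QuotientGroup.mk b * (QuotientGroup.mk a * QuotientGroup.mk b) *
      (QuotientGroup.mk a * QuotientGroup.mk b) = 1 := by
    rw [← QuotientGroup.mk_mul, ← QuotientGroup.mk_mul, ← QuotientGroup.mk_mul,
      show a * b * (a * b) * (a * b) = 1 from Subtype.ext ht3]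
    rfl
  have e4 : ¬ IsConj ((QuotientGroup.mk a : C ⧸ Z) * QuotientGroup.mk a) (QuotientGroup.mk a * QuotientGroup.mk b) := by
    intro hc
    obtain ⟨g, hg⟩ := isConj_iff.1 hc
    induction g using QuotientGroup.induction_on with
    | H g =>
      rw [← QuotientGroup.mk_mul, ← QuotientGroup.mk_mul, ← QuotientGroup.mk_inv, ← QuotientGroup.mk_mul,
        ← QuotientGroup.mk_mul, QuotientGroup.eq] at hg
      have hor := hmem _ hg
      simp only [Subgroup.coe_mul, Subgroup.coe_inv] at hor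
      refine hn (isConj_iff.2 ⟨(g : G), strip (u * u) (u * y) g ht3 ?_ (centralizer_mem.1 g.2) ?_ ?_⟩)
      · calc u * u * (u * u) * (u * u) = (u * u * u) * (u * u * u) := by group
          _ = 1 := by rw [h.cube hu, one_mul]
      · rcases hor with e | e
        · exact Or.inl (inv_mul_eq_one.1 e)
        · right
          have e' : u * y = (g : G) * (u * u) * (g : G)⁻¹ * z := by
            calc u * y = (g : G) * (u * u) * (g : G)⁻¹ * (((g : G) * (u * u) * (g : G)⁻¹)⁻¹ * (u * y)) := by group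
              _ = _ := by rw [e]
          rw [e', mul_assoc _ z z, hzz, mul_one]
      · rw [mul_assoc, ← hzy, ← mul_assoc, ← hzu, mul_assoc]
  obtain ⟨w, hw1, hwu, hwy⟩ := triangle_split e1 e2 e3 e4
  induction w using QuotientGroup.induction_on with
  | H w =>
    have comm_of : ∀ c : C, (c : G) * c * c = 1 →
        (QuotientGroup.mk w : C ⧸ Z) * QuotientGroup.mk c = QuotientGroup.mk c * QuotientGroup.mk w →
        (w : G) * c = c * w := by
      intro c hc3 hc
      rw [← QuotientGroup.mk_mul, ← QuotientGroup.mk_mul, QuotientGroup.eq] at hc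
      have hor := hmem _ hc
      simp only [Subgroup.coe_mul, Subgroup.coe_inv] at hor
      have key := strip c c w hc3 hc3 (centralizer_mem.1 w.2) ?_ (centralizer_mem.1 c.2)
      · calc (w : G) * c = (w : G) * c * (w : G)⁻¹ * w := by group
          _ = c * w := by rw [key]
      rcases hor with e | e
      · exact Or.inl (by rw [inv_mul_eq_one.1 e, mul_inv_cancel_right])
      · right
        have e' : (c : G) * w = (w : G) * c * z := by
          calc (c : G) * w = (w : G) * c * (((w : G) * c)⁻¹ * ((c : G) * w)) := by group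
            _ = _ := by rw [e]
        have hwz : z * (w : G)⁻¹ = (w : G)⁻¹ * z := ((show Commute (w : G) z from centralizer_mem.1 w.2).symm.inv_right).eq
        calc (w : G) * c * (w : G)⁻¹ = (w : G) * c * z * z * (w : G)⁻¹ := by rw [mul_assoc _ z z, hzz, mul_one]
          _ = (c : G) * w * (z * (w : G)⁻¹) := by rw [← e']; group
          _ = c * z := by rw [hwz, ← mul_assoc, mul_inv_cancel_right]
    have hwu' : (w : G) * u = u * w := comm_of a (h.cube hu) hwu
    have hwy' : (w : G) * y = y * w := comm_of b hy3 hwy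
    have hw1' : (w : G) ≠ 1 := fun e => hw1 (by rw [show w = 1 from Subtype.ext e]; rfl)
    obtain ⟨hwS, hww⟩ := invol w hw1' hwu' hwy' hyS
    -- two commuting involutions in the centraliser of `u` coincide
    have hd := h.two_cosets hu hu1 hzu hwu' hzS hwS
    have hzinv : z⁻¹ = z := inv_eq_of_mul_eq_one_right hzz
    rw [hzinv] at hd
    have hwz : (w : G) * z = z * w := centralizer_mem.1 w.2
    have hsq : (w : G) * z * ((w : G) * z) = 1 := by
      calc (w : G) * z * ((w : G) * z) = (w : G) * (z * w) * z := by group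
        _ = ((w : G) * w) * (z * z) := by rw [← hwz]; group
        _ = 1 := by rw [hww, hzz, one_mul]
    have hone : (w : G) * z = 1 := by
      have := h.cube hd
      rwa [hsq, one_mul] at this
    have hwz' : (w : G) = z := by rw [← mul_inv_eq_one, hzinv]; exact hone
    refine hw1 ((QuotientGroup.eq_one_iff _).2 ?_)
    exact Subgroup.mem_zpowers_iff.2 ⟨1, Subtype.ext (by simpa using hwz'.symm)⟩

theorem Loc.fusion (h : Loc S) {u v g : G} (hu : u ∈ S) (hu1 : u ≠ 1) (hv : v ∈ S)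
    (hg : g * u * g⁻¹ = v) : g ∈ Subgroup.normalizer (S : Set G) := by
  have hv1 : v ≠ 1 := by rw [← hg]; simpa using hu1
  have fwd : ∀ x ∈ S, g * x * g⁻¹ ∈ S := fun x hx => by
    refine h.mem_of_three (h.mem_normalizer hv hv1 ?_) (by rw [conj_pow, h.exp x hx, mul_one, mul_inv_cancel])
    rw [← hg]
    calc g * x * g⁻¹ * (g * u * g⁻¹) = g * (x * u) * g⁻¹ := by group
      _ = g * (u * x) * g⁻¹ := by rw [h.comm x hx u hu]
      _ = _ := by group
  refine Subgroup.mem_normalizer_iff.2 fun x => ⟨fwd x, fun hx => ?_⟩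
  have hinj : Function.Injective (fun s : S => (⟨g * s * g⁻¹, fwd s s.2⟩ : S)) := fun a b e =>
    Subtype.ext (by simpa using congrArg Subtype.val e)
  obtain ⟨s, hs⟩ := Finite.injective_iff_surjective.1 hinj ⟨_, hx⟩
  have : g * (s : G) * g⁻¹ = g * x * g⁻¹ := congrArg Subtype.val hs
  rw [show x = (s : G) by simpa using this.symm]
  exact s.2

theorem card_coset {u s : G} (hs : IsConj u s) :
    Nat.card {g : G // g * u * g⁻¹ = s} = Nat.card (Subgroup.centralizer ({u} : Set G)) := by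
  obtain ⟨x, hx⟩ := isConj_iff.1 hs
  refine (Nat.card_congr (Equiv.ofBijective
    (fun t : Subgroup.centralizer ({u} : Set G) => (⟨x * t, ?_⟩ : {g : G // g * u * g⁻¹ = s}))
    ⟨fun a b hab => Subtype.ext (mul_left_cancel (congrArg Subtype.val hab)), fun g => ⟨⟨x⁻¹ * g, ?_⟩, Subtype.ext (by simp)⟩⟩)).symm
  · rw [← hx]
    calc x * t * u * (x * t)⁻¹ = x * ((t : G) * u * (t : G)⁻¹) * x⁻¹ := by group
      _ = x * u * x⁻¹ := by rw [centralizer_mem.1 t.2, mul_inv_cancel_right]
  · refine centralizer_mem.2 ?_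
    have e : (g : G) * u * (g : G)⁻¹ = x * u * x⁻¹ := by rw [g.2, hx]
    calc x⁻¹ * g * u = x⁻¹ * ((g : G) * u * (g : G)⁻¹) * g := by group
      _ = u * (x⁻¹ * g) := by rw [e]; group

/-- The conjugates of `u` in `S`. -/
noncomputable def cls (S : Subgroup G) (u : G) : Finset G :=
  haveI := Fintype.ofFinite G
  haveI := Classical.decPred fun v : G => v ∈ S ∧ IsConj u v
  Finset.univ.filter fun v => v ∈ S ∧ IsConj u v

theorem mem_cls {u v : G} : v ∈ cls S u ↔ v ∈ S ∧ IsConj u v := by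
  classical
  simp [cls]

theorem Loc.card_cls (h : Loc S) {u : G} (hu : u ∈ S) (hu1 : u ≠ 1) :
    (cls S u).card * Nat.card (Subgroup.centralizer ({u} : Set G)) =
      Nat.card (Subgroup.normalizer (S : Set G)) := by
  classical
  haveI := Fintype.ofFinite G
  symm
  rw [Nat.card_eq_fintype_card, Fintype.card_subtype,
    Finset.card_eq_sum_card_fiberwise (f := fun g : G => g * u * g⁻¹) (t := cls S u) (fun g hg => by
      simp only [Finset.coe_filter, Finset.mem_univ, true_and, Set.mem_setOf_eq] at hg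
      exact mem_cls.2 ⟨(Subgroup.mem_normalizer_iff.1 hg u).1 hu, isConj_iff.2 ⟨g, rfl⟩⟩),
    Finset.sum_const_nat (m := Nat.card (Subgroup.centralizer ({u} : Set G)))]
  intro s hs
  obtain ⟨hsS, hsc⟩ := mem_cls.1 hs
  rw [← card_coset hsc, Nat.card_eq_fintype_card, Fintype.card_subtype, Finset.filter_filter]
  congr 1
  refine Finset.filter_congr fun g _ => ⟨fun hg => hg.2, fun hg => ⟨h.fusion hu hu1 hsS hg, hg⟩⟩

theorem Loc.card_count (h : Loc S) {a b c : G} (ha : a ∈ S) (ha1 : a ≠ 1) (hb : b ∈ S) (hc : c ∈ S)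
    (hn : ¬ IsConj (a * a) c) (F : Finset G)
    (hF : ∀ s, s ∈ F ↔ (s ∈ S ∧ IsConj b s ∧ IsConj c (a * s))) :
    Nat.card {x : G // IsConj c (a * (x * b * x⁻¹))} =
      F.card * Nat.card (Subgroup.centralizer ({b} : Set G)) := by
  classical
  haveI := Fintype.ofFinite G
  rw [Nat.card_eq_fintype_card, Fintype.card_subtype,
    Finset.card_eq_sum_card_fiberwise (f := fun g : G => g * b * g⁻¹) (t := F) (fun g hg => by
      simp only [Finset.coe_filter, Finset.mem_univ, true_and, Set.mem_setOf_eq] at hg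
      refine (hF _).2 ⟨h.triangle ha ha1 ?_ ?_ ?_, isConj_iff.2 ⟨g, rfl⟩, hg⟩
      · rw [conj_pow, h.exp b hb, mul_one, mul_inv_cancel]
      · obtain ⟨y, hy⟩ := isConj_iff.1 hg
        rw [← hy, conj_pow, h.exp c hc, mul_one, mul_inv_cancel]
      · exact fun e => hn (e.trans hg.symm)),
    Finset.sum_const_nat (m := Nat.card (Subgroup.centralizer ({b} : Set G)))]
  intro s hs
  obtain ⟨-, hsc, hcs⟩ := (hF s).1 hs
  rw [← card_coset hsc, Nat.card_eq_fintype_card, Fintype.card_subtype, Finset.filter_filter]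
  congr 1
  exact Finset.filter_congr fun g _ => ⟨fun hg => hg.2, fun hg => ⟨hg ▸ hcs, hg⟩⟩

theorem Loc.count_pos (h : Loc S) {a : G} (ha : a ∈ S) (hr : IsConj a a⁻¹) :
    Nat.card (Subgroup.centralizer ({a} : Set G)) ≤ Nat.card {x : G // IsConj a (a * (x * a * x⁻¹))} := by
  refine Nat.card_le_card_of_injective (fun t => ⟨t, ?_⟩) fun s t e => Subtype.ext (by simpa using congrArg Subtype.val e)
  rw [centralizer_mem.1 t.2, mul_inv_cancel_right, h.sq_eq_inv ha]
  exact hr

theorem Loc.exists_int (h : Loc S) {u : G} (hu : u ∈ S) (hu1 : u ≠ 1) (hr : IsConj u u⁻¹)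
    (χ : Cfsg.IrrCharacter G) :
    ∃ a : ℤ, (χ : G → ℂ) u = a ∧ ∃ m : ℤ, 0 ≤ m ∧ (Cfsg.charDegree (χ : G → ℂ) : ℤ) + 2 * a = 3 * m := by
  classical
  haveI := Fintype.ofFinite G
  have hχ := ClassAlgebraVal.irr_isCharacter χ
  have hord := h.orderOf_eq hu hu1
  obtain ⟨m, hm⟩ := ClassAlgebraVal.exists_sum_subgroup hχ (Subgroup.zpowers u)
  have hinv : (χ : G → ℂ) u⁻¹ = (χ : G → ℂ) u := (ClassAlgebraVal.irr_conj χ hr).symm
  have hne : u ≠ u⁻¹ := h.ne_inv hu hu1
  have hset : (Finset.univ.filter fun g => g ∈ Subgroup.zpowers u) = {1, u, u⁻¹} := by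
    symm
    refine Finset.eq_of_subset_of_card_le (fun g hg => ?_) ?_
    · simp only [Finset.mem_insert, Finset.mem_singleton] at hg
      rcases hg with rfl | rfl | rfl <;> simp [Subgroup.mem_zpowers]
    · rw [← Fintype.card_subtype, ← Nat.card_eq_fintype_card, Nat.card_zpowers, hord,
        Finset.card_insert_of_notMem (by simp [hu1, Ne.symm hu1]), Finset.card_pair hne]
  rw [← Finset.sum_subtype (Finset.univ.filter fun g => g ∈ Subgroup.zpowers u) (by simp)
      (fun g => conj ((χ : G → ℂ) g)), hset, Finset.sum_insert (by simp [hu1, Ne.symm hu1]),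
    Finset.sum_pair hne, hinv, ClassAlgebraVal.apply_one_eq_charDegree, Nat.card_zpowers, hord] at hm
  have hm' := congrArg conj hm
  simp only [map_add, Complex.conj_conj, map_natCast, map_mul, map_ofNat] at hm'
  set d := Cfsg.charDegree (χ : G → ℂ)
  obtain ⟨j, hj⟩ : ∃ j : ℤ, (3 * (m : ℤ) - d) = 2 * j := by
    refine Int.even_iff.2 ?_ |>.two_dvd
    by_contra hodd
    have hint : IsIntegral ℤ ((χ : G → ℂ) u - ((3 * (m : ℤ) - d) / 2 : ℤ)) :=
      (isCharacter_integral hχ u).sub isIntegral_algebraMap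
    have hhalf : (χ : G → ℂ) u - ((((3 * (m : ℤ) - d) / 2 : ℤ)) : ℂ) = 1 / 2 := by
      have e : (3 * (m : ℤ) - d) = 2 * ((3 * (m : ℤ) - d) / 2) + 1 := by omega
      have e' := congrArg (fun z : ℤ => (z : ℂ)) e
      push_cast at e'
      linear_combination (hm' + e') / 2
    rw [hhalf] at hint
    exact absurd (ClassAlgebraVal.dvd_of_integral (n := 1) (d := 2) (by norm_num) hint (by norm_num)) (by norm_num)
  refine ⟨j, ?_, m, by omega, by omega⟩
  have e' := congrArg (fun z : ℤ => (z : ℂ)) hj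
  push_cast at e'
  linear_combination (hm' + e') / 2

/-- A class and the relevant integer column. -/
structure Col (u : G) (a : Cfsg.IrrCharacter G → ℤ) : Prop where
  ne : u ≠ 1
  val : ∀ χ : Cfsg.IrrCharacter G, (χ : G → ℂ) u = a χ

theorem gram {u v : G} {a b : Cfsg.IrrCharacter G → ℤ} (ha : Col u a)
    (hb : Col v b) [Decidable (IsConj u v)] :
    ∑ χ, a χ * b χ = if IsConj u v then (Nat.card (Subgroup.centralizer ({u} : Set G)) : ℤ) else 0 := by
  have e := sum_irr_mul_conj u v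
  simp only [ha.val, hb.val, map_intCast] at e
  apply Int.cast_injective (α := ℂ)
  push_cast
  rw [e]

theorem degree_orth {u : G} {a : Cfsg.IrrCharacter G → ℤ} (ha : Col u a) :
    ∑ χ : Cfsg.IrrCharacter G, (Cfsg.charDegree (χ : G → ℂ) : ℤ) * a χ = 0 := by
  classical
  have e := sum_irr_mul_conj (1 : G) u
  rw [if_neg (fun e => ha.ne (isConj_one_right.1 e))] at e
  simp only [ha.val, map_intCast, ClassAlgebraVal.apply_one_eq_charDegree] at e
  apply Int.cast_injective (α := ℂ)
  push_cast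
  exact e

theorem triple_eq {u v w : G} {a b c : Cfsg.IrrCharacter G → ℤ} (ha : Col u a)
    (hb : Col v b) (hc : Col w c) [Fintype G] :
    ∑ χ : Cfsg.IrrCharacter G, ((a χ : ℚ) * b χ * c χ / ((Cfsg.charDegree (χ : G → ℂ) : ℤ) : ℚ)) =
      (Nat.card (Subgroup.centralizer ({w} : Set G)) : ℚ) *
        (Nat.card {x : G // IsConj w (u * (x * v * x⁻¹))} : ℚ) / (Nat.card G : ℚ) := by
  have e := ClassAlgebraVal.sum_irr_triple u v w
  simp only [ha.val, hb.val, hc.val, map_intCast, ClassAlgebraVal.apply_one_eq_charDegree] at e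
  apply Rat.cast_injective (α := ℂ)
  push_cast at e ⊢
  exact e

theorem two_le_degree [IsSimpleGroup G] (hG : ¬ IsMulCommutative G) {χ : Cfsg.IrrCharacter G}
    (hχ : χ ≠ trivIrr G) : 2 ≤ Cfsg.charDegree (χ : G → ℂ) := by
  by_contra hlt
  have h1 : Cfsg.charDegree (χ : G → ℂ) = 1 := by
    have := ClassAlgebraVal.charDegree_pos χ
    omega
  obtain ⟨lam, hlam⟩ := CharBasicLinear.exists_hom_of_apply_one_eq_one (ClassAlgebraVal.irr_isCharacter χ)
    (by rw [ClassAlgebraVal.apply_one_eq_charDegree, h1, Nat.cast_one])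
  refine hχ (Subtype.ext ?_)
  rw [hlam]
  funext g
  rw [Simple360.hom_comm_eq_one hG lam g]
  rfl

theorem val_ne_degree [IsSimpleGroup G] (hG : ¬ IsMulCommutative G) {χ : Cfsg.IrrCharacter G}
    (hχ : χ ≠ trivIrr G) {g : G} (hg : g ≠ 1) {a : ℤ} (ha : (χ : G → ℂ) g = a) :
    a ≠ (Cfsg.charDegree (χ : G → ℂ) : ℤ) := by
  intro e
  haveI := Fintype.ofFinite G
  have hc := ClassAlgebraVal.irr_isCharacter χ
  have hmem : g ∈ CharBasicLinear.charKer (χ : G → ℂ) hc := by
    show (χ : G → ℂ) g = (χ : G → ℂ) 1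
    rw [ha, e, ClassAlgebraVal.apply_one_eq_charDegree, Int.cast_natCast]
  rcases (CharBasicLinear.charKer_normal _ hc).eq_bot_or_eq_top with hb | hb
  · rw [hb] at hmem; exact hg hmem
  · have hall : ∀ x : G, (χ : G → ℂ) x = (Cfsg.charDegree (χ : G → ℂ) : ℂ) := fun x => by
      rw [← ClassAlgebraVal.apply_one_eq_charDegree]
      exact (hb ▸ Subgroup.mem_top x : x ∈ CharBasicLinear.charKer (χ : G → ℂ) hc)
    have h1 := classInner_irr_self χ.2
    rw [Cfsg.classInner] at h1
    simp only [hall, map_natCast, Finset.sum_const, Finset.card_univ, nsmul_eq_mul] at h1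
    rw [← Nat.card_eq_fintype_card, ← mul_assoc, inv_mul_cancel₀ (Nat.cast_ne_zero.2 Nat.card_pos.ne'),
      one_mul, ← Nat.cast_mul, Nat.cast_eq_one, mul_eq_one] at h1
    have := two_le_degree hG hχ
    omega

/-- The classes of `S` read off in coordinates. -/
structure Fusion (S : Subgroup G) (u v : G) {N : ℕ} (rep : Fin N → G) (κ : ZMod 3 × ZMod 3 → Option (Fin N)) : Prop where
  mem : u ∈ S ∧ v ∈ S
  surj : ∀ s ∈ S, ∃ x, coord u v x = s
  inj : ∀ x y, coord u v x = coord u v y → x = y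
  repMem : ∀ i, rep i ∈ S
  clsIff : ∀ i x, IsConj (rep i) (coord u v x) ↔ κ x = some i

theorem Loc.card_count_coord (h : Loc S) {u v : G} {N : ℕ} {rep : Fin N → G}
    {κ : ZMod 3 × ZMod 3 → Option (Fin N)} (hf : Fusion S u v rep κ) {xa : ZMod 3 × ZMod 3} (i j : Fin N)
    (h0 : coord u v xa ≠ 1) (hn : κ (xa + xa) ≠ some j) :
    Nat.card {x : G // IsConj (rep j) (coord u v xa * (x * rep i * x⁻¹))} =
      (Finset.univ.filter fun x => κ x = some i ∧ κ (xa + x) = some j).card *
        Nat.card (Subgroup.centralizer ({rep i} : Set G)) := by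
  classical
  obtain ⟨hu, hv⟩ := hf.mem
  rw [h.card_count (h.coord_mem hu hv xa) h0 (hf.repMem i) (hf.repMem j) ?_
    ((Finset.univ.filter fun x => κ x = some i ∧ κ (xa + x) = some j).image (coord u v)) ?_,
    Finset.card_image_of_injective _ hf.inj]
  · intro e
    rw [← h.coord_add hu hv] at e
    exact hn ((hf.clsIff j _).1 e.symm)
  · intro s
    simp only [Finset.mem_image, Finset.mem_filter, Finset.mem_univ, true_and]
    constructor
    · rintro ⟨x, ⟨hx, hx'⟩, rfl⟩
      exact ⟨h.coord_mem hu hv x, (hf.clsIff i x).2 hx, by rw [← h.coord_add hu hv]; exact (hf.clsIff j _).2 hx'⟩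
    · rintro ⟨hs, hc, hc'⟩
      obtain ⟨x, rfl⟩ := hf.surj s hs
      rw [← h.coord_add hu hv] at hc'
      exact ⟨x, ⟨(hf.clsIff i x).1 hc, (hf.clsIff j _).1 hc'⟩, rfl⟩

/-- The sum of a character over `S` in coordinates. -/
theorem Loc.sum_coord (h : Loc S) {u v : G} (hu : u ∈ S) (hu1 : u ≠ 1) (hv : v ∈ S)
    (hvu : v ∉ Subgroup.zpowers u) (χ : Cfsg.IrrCharacter G) :
    ∃ m : ℕ, ∑ x : ZMod 3 × ZMod 3, conj ((χ : G → ℂ) (coord u v x)) = 9 * (m : ℂ) := by
  classical
  haveI := Fintype.ofFinite G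
  obtain ⟨m, hm⟩ := ClassAlgebraVal.exists_sum_subgroup (ClassAlgebraVal.irr_isCharacter χ) S
  refine ⟨m, ?_⟩
  rw [h.card] at hm
  rw [show ((9 : ℂ)) = ((9 : ℕ) : ℂ) by norm_num, ← hm]
  exact Fintype.sum_bijective _ (h.coord_bij hu hu1 hv hvu) _ _ fun x => rfl

end Cfsg.Agent.SelfCentNineLoc64
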