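import Mathlib
import Cfsg.Agent.Lib.CharInducedBurnside
import Cfsg.Agent.Lib.SimpleCentralizerKill
import Cfsg.Agent.Lib.SimpleStarKill
import Cfsg.Agent.Lib.Simple720
import Cfsg.Agent.S0987
import Cfsg.Agent.S1010

/-!
The orders up to `1092` needing individual arguments: no simple group has order 288, 420, 576, 612,
720, 756, 840, 1008, 1040 or 1080.
-/

set_option autoImplicit false

namespace Cfsg.Agent.SimpleOrdersSmall

open Subgroup Cfsg.Agent.SimpleOrder Cfsg.Agent.SimpleOrderCheck

variable {G : Type*} [Group G] [Finite G] [IsSimpleGroup G]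

theorem card_ne_two_primes (hG : ¬ IsMulCommutative G) {n p q a b : ℕ} (hp : p.Prime)
    (hq : q.Prime) (hn : n = p ^ a * q ^ b) : Nat.card G ≠ n := by
  intro h
  have hs : IsSolvable G := CharInduced.solvable_of_card_two_primes p q a b hp hq (h.trans hn)
  exact hG ⟨⟨IsSimpleGroup.comm_iff_isSolvable.2 hs⟩⟩

/-- A prime `p` with `d` Sylow subgroups, none of the admissible quotients `[N : C]`. -/
theorem card_ne_420 (hG : ¬ IsMulCommutative G) : Nat.card G ≠ 420 := by
  intro hn
  have : Fact (Nat.Prime 5) := ⟨by norm_num⟩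
  have h := mem_cand hG (p := 5) (v := 1) (m := 84) Nat.one_pos (by rw [hn]; norm_num) (by norm_num)
  rw [hn] at h
  have h2 : ∀ d ∈ cand 420 5 84, d = 21 := by decide +kernel
  exact S1010.result (h2 _ h)

theorem card_ne_840 (hG : ¬ IsMulCommutative G) : Nat.card G ≠ 840 := by
  intro hn
  have : Fact (Nat.Prime 5) := ⟨by norm_num⟩
  have hn' : Nat.card G = 5 ^ 1 * 168 := by rw [hn]; norm_num
  obtain ⟨P⟩ : Nonempty (Sylow 5 G) := inferInstance
  obtain ⟨e, he, -, -⟩ := exists_eList hG P (by
    rw [sylow_card_of_eq hn' (by norm_num) P, pow_one])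
  have h := mem_cand hG (v := 1) Nat.one_pos hn' (by norm_num)
  rw [hn] at h he
  have h2 : ∀ d ∈ cand 840 5 168, d = 21 ∨ eList 840 5 d = [] := by decide +kernel
  rcases h2 _ h with h' | h'
  · exact S1010.result h'
  · rw [h'] at he; simp at he

theorem card_ne_612 (hG : ¬ IsMulCommutative G) : Nat.card G ≠ 612 :=
  SimpleStarKill.card_ne hG (p := 17) (e := 2) (d := 18) (by norm_num) (by norm_num) (by norm_num)
    (by norm_num) (by norm_num) (by decide +kernel) (by norm_num) (by decide +kernel)

theorem card_ne_1040 (hG : ¬ IsMulCommutative G) : Nat.card G ≠ 1040 :=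
  SimpleStarKill.card_ne hG (p := 13) (e := 2) (d := 40) (by norm_num) (by norm_num) (by norm_num)
    (by norm_num) (by norm_num) (by decide +kernel) (by norm_num) (by decide +kernel)

theorem card_ne_756 (hG : ¬ IsMulCommutative G) : Nat.card G ≠ 756 :=
  SimpleStarKill.card_ne hG (p := 7) (e := 3) (d := 36) (by norm_num) (by norm_num) (by norm_num)
    (by norm_num) (by norm_num) (by decide +kernel) (by norm_num) (by decide +kernel)

/-- The data attached to a Sylow subgroup of prime order. -/
theorem exists_local (hG : ¬ IsMulCommutative G) {n p m : ℕ} [Fact p.Prime] (hn : Nat.card G = n)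
    (hnm : n = p ^ 1 * m) (hm : ¬ p ∣ m) :
    ∃ (P : Sylow p G) (d e : ℕ), Nat.card ↥(P : Subgroup G) = p ∧ d ∈ cand n p m ∧
      Nat.card (Sylow p G) = d ∧ e ∈ eList n p d ∧
      Nat.card ↥(Subgroup.normalizer ((P : Subgroup G) : Set G)) = n / d ∧
      Nat.card ↥(Subgroup.centralizer ((P : Subgroup G) : Set G)) = n / d / e := by
  subst hn
  obtain ⟨P⟩ : Nonempty (Sylow p G) := inferInstance
  have hP : Nat.card ↥(P : Subgroup G) = p := by
    rw [sylow_card_of_eq hnm hm P, pow_one]
  obtain ⟨e, he, heC, hN⟩ := exists_eList hG P hP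
  exact ⟨P, _, e, hP, mem_cand hG Nat.one_pos hnm hm, rfl, he, hN.symm, heC.symm⟩

/-- Using an admissible index. -/
theorem iOK_sylow (hG : ¬ IsMulCommutative G) {n p : ℕ} [Fact p.Prime] (hn : Nat.card G = n)
    (hd : p ∣ n) (qs : List ℕ) (P : Sylow p G) : iOK n qs (Nat.card (Sylow p G)) = true := by
  subst hn
  rw [P.card_eq_index_normalizer]
  exact iOK_index hG qs _ (normalizer_ne_top hG hd P)

theorem card_ne_720 (hG : ¬ IsMulCommutative G) : Nat.card G ≠ 720 := by
  intro hn
  have : Fact (Nat.Prime 5) := ⟨by norm_num⟩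
  obtain ⟨P, d, e, hP, hd, hcard, he, hN, hC⟩ :=
    exists_local hG hn (p := 5) (m := 144) (by norm_num) (by norm_num)
  have h : ∀ d ∈ cand 720 5 144, ∀ e ∈ eList 720 5 d, d = 36 ∧ (e = 2 ∨ e = 4) := by decide +kernel
  obtain ⟨rfl, rfl | rfl⟩ := h d hd e he
  · exact SimpleCentralizerKill.card_ne_of_two hG (by norm_num) hn (by norm_num) P hP hcard
      (by rw [hC]) (by norm_num) (by decide +kernel)
  · exact Simple720.false_of_four hG hn P hP (by rw [hN]) (by rw [hC])

theorem card_ne_1008 (hG : ¬ IsMulCommutative G) : Nat.card G ≠ 1008 := by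
  intro hn
  have : Fact (Nat.Prime 7) := ⟨by norm_num⟩
  obtain ⟨P, d, e, hP, hd, hcard, he, hN, hC⟩ :=
    exists_local hG hn (p := 7) (m := 144) (by norm_num) (by norm_num)
  have hi := iOK_sylow hG hn (by norm_num) [7] P
  rw [hcard] at hi
  have h : ∀ d ∈ cand 1008 7 144, ∀ e ∈ eList 1008 7 d,
      iOK 1008 [7] d = true → d = 36 ∧ e = 2 := by decide +kernel
  obtain ⟨rfl, rfl⟩ := h d hd e he hi
  exact SimpleCentralizerKill.card_ne_of_two hG (by norm_num) hn (by norm_num) P hP hcard
    (by rw [hC]) (by norm_num) (by decide +kernel)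

theorem subsingleton_sylow_five {H : Type*} [Group H] [Finite H] {k : H}
    (hk : orderOf k = 3) (hc : k ∈ Subgroup.center H) (hH : Nat.card H = 90) [Fact (Nat.Prime 5)] :
    Subsingleton (Sylow 5 H) := by
  set Z := Subgroup.zpowers k with hZdef
  have hZ : Z ≤ Subgroup.center H := Subgroup.zpowers_le.2 hc
  have : Z.Normal := Subgroup.Normal.mk fun a ha g => by
    rw [Subgroup.mem_center_iff.1 (hZ ha) g, mul_inv_cancel_right]
    exact ha
  have hQ : Nat.card (H ⧸ Z) = 30 := by
    have h := Z.card_mul_index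
    rw [Nat.card_zpowers, hk, hH, Subgroup.index] at h
    omega
  obtain ⟨R⟩ : Nonempty (Sylow 5 (H ⧸ Z)) := inferInstance
  have hRn : (R : Subgroup (H ⧸ Z)).Normal :=
    S0987.result 2 3 5 Nat.prime_two Nat.prime_three (by norm_num) (by norm_num) (by rw [hQ]) R
  have hR : Nat.card ↥(R : Subgroup (H ⧸ Z)) = 5 := by
    rw [sylow_card_of_eq (k := 1) (m := 6) (by rw [hQ]; norm_num) (by norm_num) R, pow_one]
  set K := (R : Subgroup (H ⧸ Z)).comap (QuotientGroup.mk' Z) with hKdef
  have hK : Nat.card K = 15 := by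
    have h1 := K.card_mul_index
    have h2 := (R : Subgroup (H ⧸ Z)).card_mul_index
    rw [hKdef, Subgroup.index_comap_of_surjective _ (QuotientGroup.mk'_surjective Z)] at h1
    rw [hR, hQ] at h2
    rw [hH, ← hKdef, show (R : Subgroup (H ⧸ Z)).index = 6 by omega] at h1
    omega
  have hle : ∀ S : Sylow 5 H, (S : Subgroup H) ≤ K := by
    intro S
    rw [hKdef, ← Subgroup.map_le_iff_le_comap]
    have hp : IsPGroup 5 ↥((S : Subgroup H).map (QuotientGroup.mk' Z)) := S.2.map _
    obtain ⟨R', hR'⟩ := hp.exists_le_sylow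
    have := Sylow.unique_of_normal R hRn
    have : Subsingleton (Sylow 5 (H ⧸ Z)) := Unique.instSubsingleton
    rwa [Subsingleton.elim R' R] at hR'
  have hone : Subsingleton (Sylow 5 ↥K) := by
    have h := card_sylow_mem (G := ↥K) (p := 5) (k := 1) (m := 3) (by rw [hK]; norm_num)
      (by norm_num)
    have h' : (3 : ℕ).divisors.filter (fun d => d % 5 = 1) = {1} := by decide
    rw [h', Finset.mem_singleton] at h
    exact (Nat.card_eq_one_iff_unique.1 h).1
  exact ⟨fun S T => Sylow.subtype_injective (Subsingleton.elim (S.subtype (hle S)) (T.subtype (hle T)))⟩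

theorem card_ne_1080 (hG : ¬ IsMulCommutative G) : Nat.card G ≠ 1080 := by
  intro hn
  have : Fact (Nat.Prime 5) := ⟨by norm_num⟩
  have : Fact (Nat.Prime 3) := ⟨by norm_num⟩
  obtain ⟨P, d, e, hP, hd, hcard, he, hN, hC⟩ :=
    exists_local hG hn (p := 5) (m := 216) (by norm_num) (by norm_num)
  have h : ∀ d ∈ cand 1080 5 216, ∀ e ∈ eList 1080 5 d, d = 36 ∧ e = 2 := by decide +kernel
  obtain ⟨rfl, rfl⟩ := h d hd e he
  obtain ⟨⟨k, hkC⟩, hk⟩ := exists_prime_orderOf_dvd_card' 3
    (G := ↥(Subgroup.centralizer ((P : Subgroup G) : Set G))) (by rw [hC]; norm_num)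
  rw [Subgroup.orderOf_mk] at hk
  set H := Subgroup.centralizer ({k} : Set G) with hHdef
  have hPH : (P : Subgroup G) ≤ H := fun a ha => by
    rw [hHdef, Subgroup.mem_centralizer_singleton_iff]
    exact Subgroup.mem_centralizer_iff.1 hkC a ha
  -- the `3`-part
  obtain ⟨S, hS⟩ := (IsPGroup.of_card (G := Subgroup.zpowers k) (p := 3) (n := 1)
    (by rw [Nat.card_zpowers, hk, pow_one])).exists_le_sylow
  have hScard : Nat.card ↥(S : Subgroup G) = 27 := by
    rw [sylow_card_of_eq (k := 3) (m := 40) (by rw [hn]; norm_num) (by norm_num) S]; norm_num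
  have h9 : 9 ∣ Nat.card H := by
    set s : ↥(S : Subgroup G) := ⟨k, hS (Subgroup.mem_zpowers k)⟩ with hs
    set A := Subgroup.centralizer ({s} : Set ↥(S : Subgroup G)) with hA
    have hA9 : 9 ∣ Nat.card A := by
      obtain ⟨j, hj⟩ := (S.2.to_subgroup A).exists_card_eq
      suffices 3 < Nat.card A by
        rw [hj] at this ⊢
        rcases j with _ | _ | j
        · simp at this
        · simp at this
        · exact Dvd.intro_left (3 ^ j) (by ring)
      have hsA : Subgroup.zpowers s ≤ A :=
        Subgroup.zpowers_le.2 (Subgroup.mem_centralizer_singleton_iff.2 rfl)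
      have hs3 : Nat.card (Subgroup.zpowers s) = 3 := by
        rw [Nat.card_zpowers, hs, Subgroup.orderOf_mk, hk]
      have hzA : Subgroup.center ↥(S : Subgroup G) ≤ A := fun z hz =>
        Subgroup.mem_centralizer_singleton_iff.2 (Subgroup.mem_center_iff.1 hz s).symm
      by_contra hle
      push Not at hle
      have hAe : Subgroup.zpowers s = A := Subgroup.eq_of_le_of_card_ge hsA (by omega)
      have : Nontrivial ↥(S : Subgroup G) := Finite.one_lt_card_iff_nontrivial.1 (by omega)
      have := S.2.center_nontrivial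
      have hz : Subgroup.center ↥(S : Subgroup G) = A := by
        refine Subgroup.eq_of_le_of_card_ge hzA ?_
        have h1 : 1 < Nat.card (Subgroup.center ↥(S : Subgroup G)) := Finite.one_lt_card
        have h2 := Subgroup.card_dvd_of_le hzA
        rw [← hAe, hs3] at h2
        rw [← hAe, hs3]
        rcases (Nat.dvd_prime Nat.prime_three).1 h2 with h | h <;> omega
      have hsc : s ∈ Subgroup.center ↥(S : Subgroup G) :=
        hz ▸ hsA (Subgroup.mem_zpowers s)
      have : A = ⊤ := by
        rw [eq_top_iff]; intro y _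
        exact Subgroup.mem_centralizer_singleton_iff.2 (Subgroup.mem_center_iff.1 hsc y)
      rw [this, Subgroup.card_top, hScard] at hle
      omega
    refine hA9.trans ?_
    rw [← Subgroup.card_map_of_injective (S : Subgroup G).subtype_injective]
    refine Subgroup.card_dvd_of_le ?_
    rintro _ ⟨c, hc, rfl⟩
    rw [hHdef, Subgroup.mem_centralizer_singleton_iff]
    exact congrArg Subtype.val (Subgroup.mem_centralizer_singleton_iff.1 hc)
  have h5 : 5 ∣ Nat.card H := hP ▸ Subgroup.card_dvd_of_le hPH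
  have h45 : 45 ∣ Nat.card H := Nat.Coprime.mul_dvd_of_dvd_of_dvd (m := 5) (n := 9) (by norm_num) h5 h9
  have hH : H ≠ ⊤ := by
    intro h
    have hm : k ∈ Subgroup.center G := Subgroup.mem_center_iff.2 fun g =>
      Subgroup.mem_centralizer_singleton_iff.1 (h ▸ Subgroup.mem_top g : g ∈ H)
    rcases eq_bot_or_top (inferInstance : (Subgroup.center G).Normal) with hz | hz
    · rw [hz, Subgroup.mem_bot] at hm
      rw [hm, orderOf_one] at hk
      omega
    · exact hG ⟨⟨fun a b => (Subgroup.mem_center_iff.1 (hz ▸ Subgroup.mem_top b) a)⟩⟩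
  have hi := iOK_index hG [5] H hH
  rw [hn] at hi
  obtain ⟨c, hc⟩ := h45
  have hmul := H.card_mul_index
  rw [hn, hc, mul_assoc] at hmul
  have hci : c * H.index = 24 := by omega
  have hopts : ∀ c ∈ List.range 25, ∀ i ∈ List.range 25, c * i = 24 →
      iOK 1080 [5] i = true → c = 1 ∨ c = 2 := by decide +kernel
  have hi1 : H.index ≤ 24 := Nat.le_of_dvd (by norm_num) (Dvd.intro_left c hci)
  have hc1 : c ≤ 24 := Nat.le_of_dvd (by norm_num) (Dvd.intro _ hci)
  have hsub : Subsingleton (Sylow 5 ↥H) := by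
    rcases hopts c (List.mem_range.2 (by omega)) H.index (List.mem_range.2 (by omega)) hci hi
      with rfl | rfl
    · have h := card_sylow_mem (G := ↥H) (p := 5) (k := 1) (m := 9) (by rw [hc]; norm_num)
        (by norm_num)
      have h' : (9 : ℕ).divisors.filter (fun d => d % 5 = 1) = {1} := by decide
      rw [h', Finset.mem_singleton] at h
      exact (Nat.card_eq_one_iff_unique.1 h).1
    · exact subsingleton_sylow_five (k := (⟨k, Subgroup.mem_centralizer_singleton_iff.2 rfl⟩ : ↥H))
        (by rw [Subgroup.orderOf_mk, hk])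
        (Subgroup.mem_center_iff.2 fun g => Subtype.ext
          (Subgroup.mem_centralizer_singleton_iff.1 g.2)) (by rw [hc])
  have hn' : ((P.subtype hPH : Sylow 5 ↥H) : Subgroup ↥H).Normal :=
    Sylow.normal_of_subsingleton _
  have hHN : H ≤ Subgroup.normalizer ((P : Subgroup G) : Set G) :=
    (Subgroup.normal_subgroupOf_iff_le_normalizer hPH).1 hn'
  have h30 := Subgroup.card_dvd_of_le hHN
  rw [hN, hc] at h30
  have := Nat.le_of_dvd (by norm_num) h30
  have hc0 : 0 < c := by
    rcases Nat.eq_zero_or_pos c with rfl | h0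
    · simp at hci
    · exact h0
  omega

end Cfsg.Agent.SimpleOrdersSmall
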