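import Mathlib
import Cfsg.Agent.Lib.SelfCentNineLoc64
import Cfsg.Agent.Lib.SelfCentNineD8Arith64
import Cfsg.Agent.Lib.GaloisChar80
import Cfsg.Agent.Lib.SimpleOrdersSmall

/-!
No simple group has a self-centralising Sylow subgroup of order nine with normaliser of order 72
in which every non-trivial element has a centraliser of order 18.
-/

set_option autoImplicit false

namespace Cfsg.Agent.SelfCentNineD8_64

open scoped ComplexConjugate
open Cfsg.Agent.SelfCentNineLoc64 Cfsg.Agent.CharBasicOrth Cfsg.Agent.CharBasicDecomp Cfsg.Agent.GramShapes64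
  Cfsg.Agent.SelfCentNineD8Arith64

theorem int_dvd_of_integral {N : ℤ} {z : ℂ} (hz : IsIntegral ℤ z) (h : (N : ℂ) = 2 * z) : (2 : ℤ) ∣ N := by
  obtain ⟨n, rfl | rfl⟩ := N.eq_nat_or_neg
  · rw [Int.cast_natCast] at h
    exact Int.natCast_dvd_natCast.2 (ClassAlgebraVal.dvd_of_integral (by norm_num) hz (by exact_mod_cast h))
  · rw [Int.cast_neg, Int.cast_natCast] at h
    exact (Int.natCast_dvd_natCast.2 (ClassAlgebraVal.dvd_of_integral (by norm_num) hz.neg (by
      push_cast; linear_combination -h))).neg_right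

theorem mu_int {μ : ℂ} (h : μ ^ 6 = 1) : ∃ n : ℤ, μ + μ ^ 5 = n := by
  have e : (μ - 1) * ((μ + 1) * ((μ ^ 2 + μ + 1) * (μ ^ 2 - μ + 1))) = 0 := by linear_combination h
  rcases mul_eq_zero.1 e with e | e
  · exact ⟨2, by rw [sub_eq_zero.1 e]; norm_num⟩
  rcases mul_eq_zero.1 e with e | e
  · exact ⟨-2, by rw [eq_neg_of_add_eq_zero_left e]; norm_num⟩
  rcases mul_eq_zero.1 e with e | e
  · exact ⟨-1, by push_cast; linear_combination (μ ^ 3 - μ ^ 2 + 1) * e⟩
  · exact ⟨1, by push_cast; linear_combination (μ ^ 3 + μ ^ 2 - 1) * e⟩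

universe w

variable {G : Type w} [Group G] [Finite G] {S : Subgroup G}

theorem six_int {y : G} (hy : y ^ 6 = 1) (hreal : IsConj y (y ^ 5)) (χ : Cfsg.IrrCharacter G) {a : ℤ}
    (ha : (χ : G → ℂ) (y ^ 4) = a) : ∃ x : ℤ, (χ : G → ℂ) y = x ∧ (2 : ℤ) ∣ x - a := by
  classical
  have hc := ClassAlgebraVal.irr_isCharacter χ
  have hint := CharBasic.isCharacter_integral hc y
  have h5 : (χ : G → ℂ) (y ^ 5) = (χ : G → ℂ) y := (ClassAlgebraVal.irr_conj χ hreal).symm
  obtain ⟨n, ρ, hρ⟩ := hc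
  rw [← hρ] at ha hint h5 ⊢
  obtain ⟨b, μ, -, hμ, -, hpow⟩ := CharBasic.exists_rep_eigenbasis ρ y
  have h6 : ∀ i, μ i ^ 6 = 1 := fun i => by
    obtain ⟨k, hk⟩ := orderOf_dvd_of_pow_eq_one hy
    rw [hk, pow_mul, hμ, one_pow]
  choose m hm using fun i => mu_int (h6 i)
  have e1 : ρ.character y = ∑ i, μ i := by simpa using hpow 1
  have e4 := hpow 4
  have e5 := hpow 5
  rw [ha] at e4
  rw [h5] at e5
  have hN : ((∑ i, m i : ℤ) : ℂ) = 2 * ρ.character y := by
    rw [Int.cast_sum, two_mul]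
    nth_rewrite 1 [e1]
    rw [e5, ← Finset.sum_add_distrib]
    exact Finset.sum_congr rfl fun i _ => (hm i).symm
  obtain ⟨x, hx⟩ := int_dvd_of_integral hint hN
  have hxy : ρ.character y = x := by
    rw [hx, Int.cast_mul, Int.cast_ofNat] at hN
    exact (mul_left_cancel₀ (two_ne_zero' ℂ) hN).symm
  refine ⟨x, hxy, ?_⟩
  have hI : IsIntegral ℤ (∑ i ∈ Finset.univ.filter (fun i => μ i ^ 3 = 1), μ i) :=
    IsIntegral.sum _ fun i _ => IsIntegral.of_pow (by norm_num : 0 < 6) (by rw [h6 i]; exact isIntegral_one)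
  have hsum : ((x + a : ℤ) : ℂ) = 2 * ∑ i ∈ Finset.univ.filter (fun i => μ i ^ 3 = 1), μ i := by
    push_cast
    rw [← hxy, e1, e4, ← Finset.sum_add_distrib, Finset.mul_sum, Finset.sum_filter]
    refine Finset.sum_congr rfl fun i _ => ?_
    by_cases h3 : μ i ^ 3 = 1
    · rw [if_pos h3]
      linear_combination μ i * h3
    · rw [if_neg h3]
      have : (μ i ^ 3 - 1) * (μ i ^ 3 + 1) = 0 := by linear_combination h6 i
      linear_combination μ i * (mul_eq_zero.1 this).resolve_left (sub_ne_zero.2 h3)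
  have := int_dvd_of_integral hI hsum
  omega

theorem exists_inverted (h : Loc S) {u : G} (hu : u ∈ S) (hu1 : u ≠ 1)
    (hCu : Nat.card (Subgroup.centralizer ({u} : Set G)) = 18) :
    ∃ g v : G, g ∈ Subgroup.normalizer (S : Set G) ∧ g * u = u * g ∧ v ∈ S ∧ v ∉ Subgroup.zpowers u ∧
      g * v * g⁻¹ = v⁻¹ := by
  classical
  obtain ⟨g, hgC, hgS⟩ := SetLike.not_le_iff_exists.1 (show ¬ Subgroup.centralizer ({u} : Set G) ≤ S from
    fun hle => by
      have := Subgroup.card_le_of_le hle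
      rw [hCu, h.card] at this
      omega)
  have hgu : g * u = u * g := centralizer_mem.1 hgC
  obtain ⟨v₀, hv₀, hv₀u⟩ := h.exists_indep u hu hu1
  set N := Subgroup.normalizer (S : Set G) with hNdef
  have hgN : g ∈ N := h.mem_normalizer hu hu1 hgu
  have hbij₀ := h.coord_bij hu hu1 hv₀ hv₀u
  obtain ⟨⟨k, e⟩, hke⟩ := hbij₀.2 ⟨g * v₀ * g⁻¹, (Subgroup.mem_normalizer_iff.1 hgN v₀).1 hv₀⟩
  have hke' : g * v₀ * g⁻¹ = coord u v₀ (k, e) := (congrArg Subtype.val hke).symm
  have hgu' : g * u * g⁻¹ = coord u v₀ (1, 0) := by rw [hgu, mul_inv_cancel_right, coord_one_zero]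
  have he : e = 2 := by
    by_contra hne
    fin_cases e
    · refine hv₀u ?_
      have e1 : v₀ = g⁻¹ * u ^ k.val * g := by
        rw [show u ^ k.val = g * v₀ * g⁻¹ by rw [hke']; simp [coord, ZMod.val]]
        group
      rw [e1, mul_assoc, (Commute.pow_right (show Commute g u from hgu) k.val).eq.symm, inv_mul_cancel_left]
      exact Subgroup.pow_mem _ (Subgroup.mem_zpowers u) _
    · refine hgS (h.sylow g hgN (h.self _ fun s hs => ?_))
      have l1 := h.conj_coord hu hv₀ hgu' hke'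
      obtain ⟨y, hy⟩ := hbij₀.2 ⟨s, hs⟩
      rw [← show coord u v₀ y = s from congrArg Subtype.val hy]
      have e3 : g ^ 3 * coord u v₀ y * (g ^ 3)⁻¹ = coord u v₀ y := by
        have : g ^ 3 * coord u v₀ y * (g ^ 3)⁻¹ = g * (g * (g * coord u v₀ y * g⁻¹) * g⁻¹) * g⁻¹ := by
          rw [pow_three']; group
        rw [this, l1, l1, l1]
        congr 1
        clear hy this l1 hke' hke hgu'
        revert k y
        decide
      calc g ^ 3 * coord u v₀ y = g ^ 3 * coord u v₀ y * (g ^ 3)⁻¹ * g ^ 3 := by group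
        _ = coord u v₀ y * g ^ 3 := by rw [e3]
    · exact hne rfl
  subst he
  refine ⟨g, coord u v₀ (k, 1), hgN, hgu, h.coord_mem hu hv₀ _, fun hm => hv₀u ?_, ?_⟩
  · have e1 : v₀ = (u ^ k.val)⁻¹ * coord u v₀ (k, 1) := by simp [coord, ZMod.val_one]
    rw [e1]
    exact Subgroup.mul_mem _ (Subgroup.inv_mem _ (Subgroup.pow_mem _ (Subgroup.mem_zpowers u) _)) hm
  · rw [h.conj_coord hu hv₀ hgu' hke', ← h.coord_neg hu hv₀]
    congr 1
    clear hke hke'
    revert k
    decide

/-- The class of a point in coordinates. -/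
def κ : ZMod 3 × ZMod 3 → Option (Fin 2) := fun x =>
  if x = 0 then none else if x.1 = 0 ∨ x.2 = 0 then some 0 else some 1

/-- Representatives in coordinates. -/
def pt : Fin 2 → ZMod 3 × ZMod 3 := ![(1, 0), (1, 1)]

/-- The reflection fixing the first coordinate. -/
def flipSnd (x : ZMod 3 × ZMod 3) : ZMod 3 × ZMod 3 := (x.1, -x.2)

theorem neg_mem_four : ∀ A : Finset (ZMod 3 × ZMod 3), A.card = 4 → (1, 0) ∈ A → 0 ∉ A →
    (∀ x ∈ A, flipSnd x ∈ A) → (2, 0) ∈ A := by decide +kernel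

theorem four_eq : ∀ A : Finset (ZMod 3 × ZMod 3), A.card = 4 → (1, 0) ∈ A → 0 ∉ A →
    (∀ x ∈ A, flipSnd x ∈ A) → (∀ x ∈ A, -x ∈ A) → A = Finset.univ.filter fun x => κ x = some 0 := by
  decide +kernel

theorem four_rest : ∀ B : Finset (ZMod 3 × ZMod 3), B.card = 4 → 0 ∉ B → (∀ x ∈ B, κ x ≠ some 0) →
    B = Finset.univ.filter fun x => κ x = some 1 := by decide +kernel

theorem exists_fusion (h : Loc S) (hN : Nat.card (Subgroup.normalizer (S : Set G)) = 72)
    (hC : ∀ s ∈ S, s ≠ 1 → Nat.card (Subgroup.centralizer ({s} : Set G)) = 18) :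
    ∃ u v : G, u ≠ 1 ∧ v ∉ Subgroup.zpowers u ∧ Fusion S u v (fun i => coord u v (pt i)) κ := by
  classical
  obtain ⟨u, hu, hu1⟩ : ∃ u ∈ S, u ≠ 1 := by
    by_contra hc
    push Not at hc
    have : S = ⊥ := (Subgroup.eq_bot_iff_forall _).2 hc
    have h9 := h.card
    rw [this, Subgroup.card_bot] at h9
    omega
  obtain ⟨g, v, hgN, hgu, hv, hvu, hgv⟩ := exists_inverted h hu hu1 (hC u hu hu1)
  have bij := h.coord_bij hu hu1 hv hvu
  have inj : ∀ x y, coord u v x = coord u v y → x = y := fun x y e => bij.1 (Subtype.ext e)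
  have surj : ∀ s ∈ S, ∃ x, coord u v x = s := fun s hs => by
    obtain ⟨x, hx⟩ := bij.2 ⟨s, hs⟩
    exact ⟨x, congrArg Subtype.val hx⟩
  have hgu2 : g * u * g⁻¹ = coord u v (1, 0) := by rw [hgu, mul_inv_cancel_right, coord_one_zero]
  have hgv2 : g * v * g⁻¹ = coord u v (0, 2) := by
    rw [hgv, show ((0, 2) : ZMod 3 × ZMod 3) = -(0, 1) by decide, h.coord_neg hu hv, coord_zero_one]
  have hflip : ∀ x, IsConj (coord u v x) (coord u v (flipSnd x)) := fun x => isConj_iff.2 ⟨g, by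
    rw [h.conj_coord hu hv hgu2 hgv2]
    congr 1
    revert x
    decide⟩
  have hcl : ∀ p : ZMod 3 × ZMod 3, p ≠ 0 →
      (Finset.univ.filter fun x => IsConj (coord u v p) (coord u v x)).card = 4 := by
    intro p hp
    have hp1 : coord u v p ≠ 1 := fun e => hp (inj p 0 (e.trans (coord_zero u v).symm))
    have e := h.card_cls (h.coord_mem hu hv p) hp1
    rw [hC _ (h.coord_mem hu hv p) hp1, hN] at e
    have : cls S (coord u v p) =
        (Finset.univ.filter fun x => IsConj (coord u v p) (coord u v x)).image (coord u v) := by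
      ext z
      simp only [mem_cls, Finset.mem_image, Finset.mem_filter, Finset.mem_univ, true_and]
      constructor
      · rintro ⟨hz, hc⟩
        obtain ⟨x, rfl⟩ := surj z hz
        exact ⟨x, hc, rfl⟩
      · rintro ⟨x, hc, rfl⟩
        exact ⟨h.coord_mem hu hv x, hc⟩
    rw [this, Finset.card_image_of_injective _ inj] at e
    omega
  have hne0 : ∀ p : ZMod 3 × ZMod 3, p ≠ 0 → ¬ IsConj (coord u v p) (coord u v 0) := fun p hp e => by
    rw [coord_zero] at e
    exact hp (inj p 0 ((isConj_one_left.1 e).trans (coord_zero u v).symm))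
  set A := Finset.univ.filter fun x => IsConj (coord u v (1, 0)) (coord u v x) with hA
  have hA4 := hcl (1, 0) (by decide)
  have hA1 : (1, 0) ∈ A := by
    simp only [hA, Finset.mem_filter, Finset.mem_univ, true_and]; exact IsConj.refl _
  have hA0 : (0 : ZMod 3 × ZMod 3) ∉ A := by simpa [hA] using hne0 (1, 0) (by decide)
  have hAflip : ∀ x ∈ A, flipSnd x ∈ A := fun x hx => by
    simp only [hA, Finset.mem_filter, Finset.mem_univ, true_and] at hx ⊢
    exact hx.trans (hflip x)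
  have hA2 := neg_mem_four A hA4 hA1 hA0 hAflip
  have hAneg : ∀ x ∈ A, -x ∈ A := fun x hx => by
    simp only [hA, Finset.mem_filter, Finset.mem_univ, true_and] at hx hA2 ⊢
    refine hA2.trans ?_
    rw [show ((2, 0) : ZMod 3 × ZMod 3) = -(1, 0) by decide, h.coord_neg hu hv, h.coord_neg hu hv]
    obtain ⟨z, hz⟩ := isConj_iff.1 hx
    exact isConj_iff.2 ⟨z, by rw [← hz]; group⟩
  have hAeq := four_eq A hA4 hA1 hA0 hAflip hAneg
  have hBeq := four_rest (Finset.univ.filter fun x => IsConj (coord u v (1, 1)) (coord u v x))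
    (hcl (1, 1) (by decide)) (by simpa using hne0 (1, 1) (by decide)) (fun x hx e => by
      simp only [Finset.mem_filter, Finset.mem_univ, true_and] at hx
      have hxA : x ∈ A := by rw [hAeq]; simp [e]
      simp only [hA, Finset.mem_filter, Finset.mem_univ, true_and] at hxA
      have h11 : ((1, 1) : ZMod 3 × ZMod 3) ∈ A := by
        simp only [hA, Finset.mem_filter, Finset.mem_univ, true_and]; exact hxA.trans hx.symm
      rw [hAeq] at h11
      exact absurd h11 (by decide))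
  refine ⟨u, v, hu1, hvu, ⟨hu, hv⟩, surj, inj, fun i => h.coord_mem hu hv _, fun i x => ?_⟩
  fin_cases i
  · have := congrArg (fun F => x ∈ F) hAeq
    simpa [hA, pt] using this
  · have := congrArg (fun F => x ∈ F) hBeq
    simpa [pt] using this

theorem exists_six (h : Loc S) {s : G} (hs : s ∈ S) (hs1 : s ≠ 1)
    (hCs : Nat.card (Subgroup.centralizer ({s} : Set G)) = 18) (hr : IsConj s s⁻¹) :
    ∃ y : G, y ^ 6 = 1 ∧ y ^ 3 ≠ 1 ∧ y ^ 4 = s ∧ IsConj y (y ^ 5) ∧
      Nat.card (Subgroup.centralizer ({y} : Set G)) = 6 := by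
  classical
  haveI : Fact (Nat.Prime 2) := ⟨Nat.prime_two⟩
  obtain ⟨t', ht'⟩ := exists_prime_orderOf_dvd_card' (G := Subgroup.centralizer ({s} : Set G)) 2 (by rw [hCs]; norm_num)
  set t : G := (t' : G) with htdef
  have ht : orderOf t = 2 := by rw [htdef, Subgroup.orderOf_coe, ht']
  have hts : Commute t s := centralizer_mem.1 t'.2
  have ht2 : t * t = 1 := by
    have := pow_orderOf_eq_one t
    rwa [ht, sq] at this
  have htinv : t⁻¹ = t := inv_eq_of_mul_eq_one_right ht2
  have htS : t ∉ S := fun hm => by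
    have e := h.cube hm
    rw [ht2, one_mul] at e
    rw [e, orderOf_one] at ht
    omega
  have hs3 := h.exp s hs
  have hy3 : (s * t) ^ 3 = t := by
    rw [hts.symm.mul_pow, hs3, one_mul, pow_three, ht2, mul_one]
  have hy4 : (s * t) ^ 4 = s := by
    rw [hts.symm.mul_pow, show (4 : ℕ) = 3 + 1 from rfl, pow_add, hs3, one_mul, pow_one,
      pow_add, pow_one, pow_three, ht2, mul_one, ht2, mul_one]
  have hy6 : (s * t) ^ 6 = 1 := by
    rw [show (6 : ℕ) = 3 * 2 from rfl, pow_mul, hy3, sq, ht2]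
  have hy5 : (s * t) ^ 5 = (s * t)⁻¹ := eq_inv_of_mul_eq_one_left (by rw [← pow_succ, hy6])
  have ht1 : t ≠ 1 := fun e => by rw [e, orderOf_one] at ht; omega
  refine ⟨s * t, hy6, by rw [hy3]; exact ht1, hy4, ?_, ?_⟩
  · rw [hy5]
    obtain ⟨z, hz⟩ := isConj_iff.1 hr
    have hzN : z ∈ Subgroup.normalizer (S : Set G) := h.fusion hs hs1 (S.inv_mem hs) hz
    have hcz : (z * t * z⁻¹) * s = s * (z * t * z⁻¹) := by
      have e : Commute (z * t * z⁻¹) (z * s * z⁻¹) := hts.conj z
      rw [hz] at e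
      simpa using e.inv_right.eq
    have htN : t ∈ Subgroup.normalizer (S : Set G) := h.mem_normalizer hs hs1 hts.eq
    have hzS : z * t * z⁻¹ ∉ S := fun hm => htS ((Subgroup.mem_normalizer_iff.1 hzN t).2 hm)
    have hx := h.two_cosets hs hs1 hts.eq hcz htS hzS
    rw [htinv] at hx
    set x := z * t * z⁻¹ * t with hxdef
    have hx2 : x * t * x * t = 1 := by
      have : z * t * z⁻¹ = x * t := by rw [hxdef, mul_assoc _ t t, ht2, mul_one]
      calc x * t * x * t = (z * t * z⁻¹) * (z * t * z⁻¹) := by rw [this]; group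
        _ = 1 := by rw [show z * t * z⁻¹ * (z * t * z⁻¹) = z * (t * t) * z⁻¹ by group, ht2]; simp
    have hsq : x * x = x⁻¹ := h.sq_eq_inv hx
    have htx : t * x * t = x⁻¹ := eq_inv_of_mul_eq_one_right (by rw [← mul_assoc, ← mul_assoc, hx2])
    refine isConj_iff.2 ⟨x * z, ?_⟩
    have hcx : x * s⁻¹ = s⁻¹ * x := h.comm x hx _ (S.inv_mem hs)
    have htxi : t * x⁻¹ = x * t := by
      rw [← htx, ← mul_assoc, ← mul_assoc, ht2, one_mul]
    calc x * z * (s * t) * (x * z)⁻¹ = x * ((z * s * z⁻¹) * (z * t * z⁻¹)) * x⁻¹ := by group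
      _ = x * (s⁻¹ * (x * t)) * x⁻¹ := by rw [hz, show z * t * z⁻¹ = x * t by rw [hxdef, mul_assoc _ t t, ht2, mul_one]]
      _ = s⁻¹ * (x * x) * (t * x⁻¹) := by rw [← mul_assoc x, hcx]; group
      _ = s⁻¹ * t := by rw [htxi, ← mul_assoc, mul_assoc s⁻¹, show x * x * x = 1 from h.cube hx, mul_one]
      _ = (s * t)⁻¹ := by rw [mul_inv_rev, htinv]; exact (hts.inv_right).eq.symm
  · have hle : Subgroup.centralizer ({s * t} : Set G) ≤ Subgroup.centralizer ({s} : Set G) := fun x hx => by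
      have e : Commute x (s * t) := centralizer_mem.1 hx
      have := e.pow_right 4
      rw [hy4] at this
      exact centralizer_mem.2 this.eq
    have hne : Subgroup.centralizer ({s * t} : Set G) ≠ Subgroup.centralizer ({s} : Set G) := fun e => by
      refine htS (h.self t fun r hr => ?_)
      have hr' : r ∈ Subgroup.centralizer ({s * t} : Set G) := e ▸ h.le_centralizer hs hr
      have hc : Commute r (s * t) := centralizer_mem.1 hr'
      have := hc.pow_right 3
      rw [hy3] at this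
      exact this.eq.symm
    have h2 : orderOf (s * t) = 6 := by
      rw [hts.symm.orderOf_mul_eq_mul_orderOf_of_coprime (by rw [h.orderOf_eq hs hs1, ht]; norm_num),
        h.orderOf_eq hs hs1, ht]
    have h6 : 6 ∣ Nat.card (Subgroup.centralizer ({s * t} : Set G)) := by
      rw [← h2]
      exact Subgroup.orderOf_dvd_natCard _ (centralizer_mem.2 rfl)
    have h18 := Subgroup.card_dvd_of_le hle
    rw [hCs] at h18
    have hlt : Nat.card (Subgroup.centralizer ({s * t} : Set G)) ≠ 18 := fun e =>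
      hne (Subgroup.eq_of_le_of_card_ge hle (by rw [e, hCs]))
    obtain ⟨k, hk⟩ := h6
    have hk3 : k ∣ 3 := by
      rw [hk] at h18
      exact Nat.dvd_of_mul_dvd_mul_left (by norm_num : 0 < 6) h18
    rcases (Nat.dvd_prime Nat.prime_three).1 hk3 with rfl | rfl <;> omega

theorem orbit_mul_stab {α : Type*} [Group α] {X : Type*} [MulAction α X] (q : X) :
    Nat.card (MulAction.orbit α q) * Nat.card (MulAction.stabilizer α q) = Nat.card α := by
  rw [Nat.card_coe_set_eq, ← MulAction.index_stabilizer, mul_comm, Subgroup.card_mul_index]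

theorem index_mod_nine (h : Loc S) : (Subgroup.normalizer (S : Set G)).index % 9 = 1 := by
  classical
  set N := Subgroup.normalizer (S : Set G) with hN
  haveI := Fintype.ofFinite (G ⧸ N)
  haveI := Fintype.ofFinite (Quotient (MulAction.orbitRel S (G ⧸ N)))
  have horb : ∀ q : G ⧸ N, Nat.card (MulAction.orbit S q) =
      if q = ((1 : G) : G ⧸ N) then 1 else 9 := by
    intro q
    obtain ⟨x, rfl⟩ := QuotientGroup.mk_surjective q
    split_ifs with hq
    · rw [hq, Nat.card_eq_one_iff_unique]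
      refine ⟨⟨?_⟩, ⟨⟨_, MulAction.mem_orbit_self _⟩⟩⟩
      rintro ⟨a, s, rfl⟩ ⟨b, s', rfl⟩
      apply Subtype.ext
      show (((s : G) * 1 : G) : G ⧸ N) = (((s' : G) * 1 : G) : G ⧸ N)
      rw [QuotientGroup.eq]
      simpa using Subgroup.le_normalizer (S.mul_mem (S.inv_mem s.2) s'.2)
    · have hst : MulAction.stabilizer S ((x : G) : G ⧸ N) = ⊥ := by
        refine (Subgroup.eq_bot_iff_forall _).2 fun s hs => ?_
        by_contra hs1
        refine hq (QuotientGroup.eq.2 ?_)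
        have hsx : (((s : G) * x : G) : G ⧸ N) = (x : G ⧸ N) := hs
        rw [QuotientGroup.eq, mul_inv_rev, mul_assoc] at hsx
        have hm : x⁻¹ * (s : G) * x ∈ S := by
          have hin : x⁻¹ * (s : G) * x ∈ N := by
            have := N.inv_mem hsx
            simpa [mul_assoc] using this
          refine h.mem_of_three hin ?_
          rw [show x⁻¹ * (s : G) * x = x⁻¹ * (s : G) * x⁻¹⁻¹ by rw [inv_inv], conj_pow, h.exp _ s.2]
          group
        have := h.fusion (g := x⁻¹) s.2 (fun e => hs1 (Subtype.ext e)) hm (by rw [inv_inv])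
        simpa using this
      have e := SelfCentNineD8_64.orbit_mul_stab (α := S) ((x : G) : G ⧸ N)
      rw [hst, Subgroup.card_bot, mul_one, h.card] at e
      exact e
  set q₀ : Quotient (MulAction.orbitRel S (G ⧸ N)) := Quotient.mk'' ((1 : G) : G ⧸ N) with hq₀
  have hcard : Nat.card (G ⧸ N) =
      ∑ ω : Quotient (MulAction.orbitRel S (G ⧸ N)), Nat.card (MulAction.orbit S ω.out) := by
    rw [Nat.card_congr (MulAction.selfEquivSigmaOrbits S (G ⧸ N)), Nat.card_sigma]
  have hone : Nat.card (MulAction.orbit S q₀.out) = 1 := by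
    have : MulAction.orbit S q₀.out = MulAction.orbit S ((1 : G) : G ⧸ N) :=
      MulAction.orbit_eq_iff.2 (MulAction.orbitRel_apply.1 (Quotient.exact (s := MulAction.orbitRel S (G ⧸ N)) (Quotient.out_eq q₀)))
    rw [this, horb, if_pos rfl]
  have hnine : ∀ ω ∈ (Finset.univ.erase q₀), Nat.card (MulAction.orbit S ω.out) = 9 := fun ω hω => by
    rw [horb, if_neg]
    intro e
    refine Finset.ne_of_mem_erase hω ?_
    rw [hq₀, ← e, Quotient.out_eq']
  rw [Subgroup.index, hcard, ← Finset.add_sum_erase _ _ (Finset.mem_univ q₀), hone, Finset.sum_congr rfl hnine,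
    Finset.sum_const, smul_eq_mul, Nat.add_mul_mod_self_right]

theorem twist_seven (hdvd : ∀ p : ℕ, p.Prime → p ∣ Nat.card G → p ≤ 7) (j : ℕ) (hj : j < 7) (hj0 : j ≠ 0) :
    ∃ k : ℕ, k.Coprime (Nat.card G) ∧ k % 3 = 1 ∧ k % 7 = j := by
  have hbig : ∀ k : ℕ, k.Prime → 7 < k → k.Coprime (Nat.card G) := fun k hk h7 =>
    hk.coprime_iff_not_dvd.2 fun e => absurd (hdvd k hk e) (by omega)
  obtain rfl | rfl | rfl | rfl | rfl | rfl : j = 1 ∨ j = 2 ∨ j = 3 ∨ j = 4 ∨ j = 5 ∨ j = 6 := by omega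
  · exact ⟨1, Nat.coprime_one_left _, rfl, rfl⟩
  · exact ⟨37, hbig _ (by norm_num) (by norm_num), rfl, rfl⟩
  · exact ⟨31, hbig _ (by norm_num) (by norm_num), rfl, rfl⟩
  · exact ⟨67, hbig _ (by norm_num) (by norm_num), rfl, rfl⟩
  · exact ⟨19, hbig _ (by norm_num) (by norm_num), rfl, rfl⟩
  · exact ⟨13, hbig _ (by norm_num) (by norm_num), rfl, rfl⟩

theorem rational_five_false [IsSimpleGroup G] (hG : ¬ IsMulCommutative G)
    (hdvd : ∀ p : ℕ, p.Prime → p ∣ Nat.card G → p ≤ 7) (h7 : 7 ∣ Nat.card G) {u : G} (hu : u ^ 3 = 1)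
    {χ : Cfsg.IrrCharacter G} (hd : Cfsg.charDegree (χ : G → ℂ) = 5) (hne : χ ≠ trivIrr G)
    (huniq : ∀ ψ : Cfsg.IrrCharacter G, Cfsg.charDegree (ψ : G → ℂ) = 5 → (ψ : G → ℂ) u = (χ : G → ℂ) u → ψ = χ) :
    False := by
  classical
  haveI := Fintype.ofFinite G
  haveI : Fact (Nat.Prime 7) := ⟨by norm_num⟩
  obtain ⟨y, hy⟩ := exists_prime_orderOf_dvd_card' (G := G) 7 h7
  set z := (χ : G → ℂ) y with hz
  have hconst : ∀ j : ℕ, j < 7 → j ≠ 0 → (χ : G → ℂ) (y ^ j) = z := by
    intro j hj hj0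
    obtain ⟨k, hk, hk3, hk7⟩ := twist_seven hdvd j hj hj0
    have e : GaloisChar80.twist hk χ = χ := by
      refine huniq _ ?_ ?_
      · apply Nat.cast_injective (R := ℂ)
        rw [← ClassAlgebraVal.apply_one_eq_charDegree, GaloisChar80.twist_apply, one_pow,
          ClassAlgebraVal.apply_one_eq_charDegree, hd]
      · rw [GaloisChar80.twist_apply, pow_eq_pow_mod k hu, hk3, pow_one]
    have := congrFun (congrArg Subtype.val e) y
    rw [GaloisChar80.twist_apply] at this
    rw [hz, ← this, ← hk7, ← hy, pow_mod_orderOf]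
  obtain ⟨m, hm⟩ := ClassAlgebraVal.exists_sum_subgroup (ClassAlgebraVal.irr_isCharacter χ) (Subgroup.zpowers y)
  rw [← Equiv.sum_comp (finEquivZPowers (isOfFinOrder_of_finite y)), Nat.card_zpowers] at hm
  simp only [finEquivZPowers_apply] at hm
  rw [Fin.sum_univ_eq_sum_range (fun i => conj ((χ : G → ℂ) (y ^ i))), hy, Finset.sum_range_succ',
    pow_zero, ClassAlgebraVal.apply_one_eq_charDegree, hd, map_natCast,
    Finset.sum_congr rfl (fun i hi => by rw [hconst (i + 1) (by rw [Finset.mem_range] at hi; omega) (Nat.succ_ne_zero i)]),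
    Finset.sum_const, Finset.card_range, nsmul_eq_mul] at hm
  have hm' := congrArg conj hm
  simp only [map_add, map_mul, map_natCast, Complex.conj_conj] at hm'
  push_cast at hm'
  have hnorm : ‖z‖ ≤ 5 := by
    obtain ⟨n, ρ, hρ⟩ := ClassAlgebraVal.irr_isCharacter χ
    have h1 := ClassAlgebraVal.apply_one_eq_charDegree χ
    rw [← hρ, Representation.char_one] at h1
    rw [hρ, hd] at h1
    have := CharBasic.norm_character_le ρ y
    rw [hρ, show Module.finrank ℂ (Fin n → ℂ) = 5 by exact_mod_cast h1] at this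
    exact_mod_cast this
  have hint : IsIntegral ℤ z := CharBasic.isCharacter_integral (ClassAlgebraVal.irr_isCharacter χ) y
  have hq : z = ((((7 * (m : ℤ) - 5 : ℤ) : ℝ) / 6 : ℝ) : ℂ) := by
    push_cast
    linear_combination hm' / 6
  rw [hq, Complex.norm_real, Real.norm_eq_abs, abs_le] at hnorm
  have hm5 : m ≤ 5 := by
    have : (m : ℝ) ≤ 5 := by push_cast at hnorm; linarith [hnorm.2]
    exact_mod_cast this
  have hdiv : (2 : ℤ) ∣ 7 * (m : ℤ) - 5 ∧ (3 : ℤ) ∣ 7 * (m : ℤ) - 5 := by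
    have key : ∀ p : ℕ, p ≠ 0 → p ∣ 6 → (p : ℤ) ∣ 7 * (m : ℤ) - 5 := by
      intro p hp hp6
      obtain ⟨c, hc⟩ := hp6
      have h' : ((7 * (m : ℤ) - 5 : ℤ) : ℂ) = (p : ℂ) * ((c : ℂ) * z) := by
        rw [← mul_assoc, show ((p : ℂ) * c) = 6 by exact_mod_cast hc.symm]
        push_cast
        linear_combination -hm'
      have hci : IsIntegral ℤ ((c : ℂ) * z) := IsIntegral.mul (by exact_mod_cast isIntegral_algebraMap (x := (c : ℤ))) hint
      obtain ⟨n, e | e⟩ := (7 * (m : ℤ) - 5).eq_nat_or_neg <;> rw [e] at h' ⊢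
      · rw [Int.cast_natCast] at h'
        exact Int.natCast_dvd_natCast.2 (ClassAlgebraVal.dvd_of_integral hp hci h')
      · rw [Int.cast_neg, Int.cast_natCast] at h'
        exact (Int.natCast_dvd_natCast.2 (ClassAlgebraVal.dvd_of_integral hp hci.neg (by linear_combination -h'))).neg_right
    exact ⟨key 2 (by norm_num) (by norm_num), key 3 (by norm_num) (by norm_num)⟩
  obtain rfl : m = 5 := by omega
  exact val_ne_degree hG hne (a := (5 : ℤ)) (g := y) (fun e : y = 1 => by rw [e, orderOf_one] at hy; omega)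
    (by rw [← hz]; push_cast at hm' ⊢; linear_combination hm' / 6) (by rw [hd]; rfl)

theorem four_le_degree {d a b : ℤ} (hd : 2 ≤ d) (hu : 0 ≤ d + 2 * a) (hv : 0 ≤ d + 2 * b)
    (h3 : (3 : ℤ) ∣ d + 2 * a) (h3' : (3 : ℤ) ∣ d + 2 * b) (h9 : (9 : ℤ) ∣ d + 4 * a + 4 * b)
    (ha : a ≠ d) (hb : b ≠ d) (hab : a * a ≤ 17) (hbb : b * b ≤ 17) : 4 ≤ d := by
  have b1 : -4 ≤ a ∧ a ≤ 4 := ⟨by nlinarith, by nlinarith⟩
  have b2 : -4 ≤ b ∧ b ≤ 4 := ⟨by nlinarith, by nlinarith⟩
  by_contra hlt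
  interval_cases d <;> omega

set_option maxHeartbeats 800000 in
theorem d8_false [IsSimpleGroup G] (hG : ¬ IsMulCommutative G) (h : Loc S)
    (hN : Nat.card (Subgroup.normalizer (S : Set G)) = 72)
    (hC : ∀ s ∈ S, s ≠ 1 → Nat.card (Subgroup.centralizer ({s} : Set G)) = 18) : False := by
  classical
  haveI := Fintype.ofFinite G
  obtain ⟨u, v, hu1, hvu, hf⟩ := exists_fusion h hN hC
  obtain ⟨hu, hv⟩ := hf.mem
  set p : Fin 2 → G := fun i => coord u v (pt i) with hp
  have hp1 : ∀ i, p i ≠ 1 := fun i e => by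
    have := hf.inj (pt i) 0 (e.trans (coord_zero u v).symm)
    revert this; fin_cases i <;> decide
  have hreal : ∀ i, IsConj (p i) (p i)⁻¹ := fun i => by
    rw [hp, ← h.coord_neg hu hv]
    exact (hf.clsIff i _).2 (by fin_cases i <;> decide)
  have hpC : ∀ i, Nat.card (Subgroup.centralizer ({p i} : Set G)) = 18 := fun i => hC _ (hf.repMem i) (hp1 i)
  choose y hy6 hy3 hy4 hyr hyC using fun i => exists_six h (hf.repMem i) (hp1 i) (hpC i) (hreal i)
  choose A hA m hm0 hm using fun i χ => h.exists_int (hf.repMem i) (hp1 i) (hreal i) χ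
  choose B hB hBdvd using fun i χ => six_int (hy6 i) (hyr i) χ (a := A i χ) (by rw [hy4]; exact hA i χ)
  have hy1 : ∀ i, y i ≠ 1 := fun i e => hy3 i (by rw [e, one_pow])
  have hpnc : ¬ IsConj (p 0) (p 1) := fun e => by
    have := (hf.clsIff 0 (pt 1)).1 e
    revert this; decide
  have hpy : ∀ i j, ¬ IsConj (p i) (y j) := fun i j e => by
    obtain ⟨z, hz⟩ := isConj_iff.1 e
    refine hy3 j ?_
    rw [← hz, conj_pow, h.exp _ (hf.repMem i), mul_one, mul_inv_cancel]
  have hyy : ¬ IsConj (y 0) (y 1) := fun e => hpnc (by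
    obtain ⟨z, hz⟩ := isConj_iff.1 e
    exact isConj_iff.2 ⟨z, by rw [← hy4 0, ← conj_pow, hz, hy4]⟩)
  set r : Fin 4 → G := ![p 0, p 1, y 0, y 1] with hr
  set K : Fin 4 → Cfsg.IrrCharacter G → ℤ := ![A 0, A 1, B 0, B 1] with hK
  have hcol : ∀ i, Col (r i) (K i) := by
    intro i
    fin_cases i
    · exact ⟨hp1 0, hA 0⟩
    · exact ⟨hp1 1, hA 1⟩
    · exact ⟨hy1 0, hB 0⟩
    · exact ⟨hy1 1, hB 1⟩
  have hnc : ∀ i j, i ≠ j → ¬ IsConj (r i) (r j) := by
    intro i j hij e
    fin_cases i <;> fin_cases j <;> first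
      | exact hij rfl
      | exact hpnc e
      | exact hpnc e.symm
      | exact hpy 0 0 e
      | exact hpy 0 1 e
      | exact hpy 1 0 e
      | exact hpy 1 1 e
      | exact hpy 0 0 e.symm
      | exact hpy 0 1 e.symm
      | exact hpy 1 0 e.symm
      | exact hpy 1 1 e.symm
      | exact hyy e
      | exact hyy e.symm
  have gr : ∀ i j, ∑ χ, K i χ * K j χ = if i = j then (![18, 18, 6, 6] i : ℤ) else 0 := fun i j => by
    rw [gram (hcol i) (hcol j)]
    by_cases e : i = j
    · subst e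
      rw [if_pos (IsConj.refl _), if_pos rfl]
      fin_cases i
      · show (Nat.card (Subgroup.centralizer ({p 0} : Set G)) : ℤ) = 18
        rw [hpC 0]; rfl
      · show (Nat.card (Subgroup.centralizer ({p 1} : Set G)) : ℤ) = 18
        rw [hpC 1]; rfl
      · show (Nat.card (Subgroup.centralizer ({y 0} : Set G)) : ℤ) = 6
        rw [hyC 0]; rfl
      · show (Nat.card (Subgroup.centralizer ({y 1} : Set G)) : ℤ) = 6
        rw [hyC 1]; rfl
    · rw [if_neg (hnc i j e), if_neg e]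
  set o : Cfsg.IrrCharacter G := trivIrr G with ho
  have hKo : ∀ i, K i o = 1 := fun i => by
    have := (hcol i).val o
    apply Int.cast_injective (α := ℂ)
    rw [← this, Int.cast_one]; rfl
  have hdo : (Cfsg.charDegree (o : G → ℂ) : ℤ) = 1 := by
    apply Int.cast_injective (α := ℂ)
    rw [Int.cast_natCast, ← ClassAlgebraVal.apply_one_eq_charDegree, Int.cast_one]; rfl
  set d : Cfsg.IrrCharacter G → ℤ := fun χ => (Cfsg.charDegree (χ : G → ℂ) : ℤ) with hd
  set T := (Finset.univ : Finset (Cfsg.IrrCharacter G)).erase o with hT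
  set f : Cfsg.IrrCharacter G → Fin 4 → ℤ := fun χ => ![K 0 χ, K 1 χ, K 2 χ, K 3 χ] with hfdef
  have hf' : ∀ χ i, f χ i = K i χ := fun χ i => by fin_cases i <;> rfl
  have split : ∀ {M : Type} [AddCommGroup M] (F : Cfsg.IrrCharacter G → M), ∑ χ ∈ T, F χ = (∑ χ, F χ) - F o := by
    intro M _ F
    rw [hT, Finset.sum_erase_eq_sub (Finset.mem_univ o)]
  have hsq : ∀ i, ∀ χ ∈ T, K i χ * K i χ ≤ (![18, 18, 6, 6] i : ℤ) - 1 := fun i χ hχ => by
    have h1 : K i χ * K i χ ≤ ∑ ψ ∈ T, K i ψ * K i ψ :=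
      Finset.single_le_sum (f := fun ψ => K i ψ * K i ψ) (fun ψ _ => mul_self_nonneg _) hχ
    rw [split, gr, if_pos rfl, hKo, one_mul] at h1
    exact h1
  have hmod : ∀ χ : Cfsg.IrrCharacter G, ∃ n : ℕ, d χ + 4 * A 0 χ + 4 * A 1 χ = 9 * (n : ℤ) := by
    intro χ
    obtain ⟨n, hn⟩ := h.sum_coord hu hu1 hv hvu χ
    refine ⟨n, Int.cast_injective (α := ℂ) ?_⟩
    have hval : ∀ x : ZMod 3 × ZMod 3, conj ((χ : G → ℂ) (coord u v x)) =
        ((match κ x with | none => d χ | some i => A i χ : ℤ) : ℂ) := by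
      intro x
      rcases hk : κ x with _ | i
      · have hx0 : x = 0 := by revert hk; revert x; decide
        subst hx0
        rw [coord_zero, ClassAlgebraVal.apply_one_eq_charDegree, map_natCast]
        simp [hd]
      · rw [← ClassAlgebraVal.irr_conj χ ((hf.clsIff i x).2 hk), hA i χ, map_intCast]
    simp only [hval] at hn
    rw [← Int.cast_sum] at hn
    rw [Int.cast_mul, Int.cast_natCast, show ((9 : ℤ) : ℂ) = 9 by norm_num, ← hn]
    congr 1
    rw [Fintype.sum_prod_type]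
    have key : ∀ F : ZMod 3 → ℤ, ∑ x, F x = F 0 + F 1 + F 2 := fun F => Fin.sum_univ_three F
    simp only [key]
    simp [κ, Prod.ext_iff, show (2 : ZMod 3) ≠ 0 by decide, show (1 : ZMod 3) ≠ 0 by decide]
    ring
  have hd4 : ∀ χ ∈ T, 4 ≤ d χ := by
    intro χ hχ
    have hne := Finset.ne_of_mem_erase hχ
    obtain ⟨n, hn⟩ := hmod χ
    exact four_le_degree (d := d χ) (a := A 0 χ) (b := A 1 χ)
      (by show (2 : ℤ) ≤ (Cfsg.charDegree (χ : G → ℂ) : ℤ); exact_mod_cast two_le_degree hG hne)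
      (by rw [hd, hm]; have := hm0 0 χ; omega) (by rw [hd, hm]; have := hm0 1 χ; omega)
      ⟨_, hm 0 χ⟩ ⟨_, hm 1 χ⟩ ⟨_, hn⟩
      (val_ne_degree hG hne (hp1 0) (hA 0 χ)) (val_ne_degree hG hne (hp1 1) (hA 1 χ))
      (hsq 0 χ hχ) (hsq 1 χ hχ)
  have hrow : ∀ χ ∈ T, f χ = 0 ∨ ∃ j, f χ = cand j ∨ f χ = -cand j := by
    intro χ hχ
    have e0 := hm 0 χ
    have e1 := hm 1 χ
    exact exists_cand _ _ _ _ (hsq 0 χ hχ) (hsq 1 χ hχ) (hsq 2 χ hχ) (hsq 3 χ hχ)
      (by show (3 : ℤ) ∣ A 0 χ - A 1 χ; omega) (hBdvd 0 χ) (hBdvd 1 χ)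
  obtain ⟨L, hL, hsum⟩ := collect T f d cand hrow
  have hcnt : ∀ i j : Fin 4, ∑ t, ((L t).length : ℤ) * (cand t i * cand t j) =
      (if i = j then (![18, 18, 6, 6] i : ℤ) else 0) - 1 := by
    intro i j
    have e := hsum ℤ (fun v _ => v i * v j) (fun x => by simp) (fun v x => by simp)
    simp only [List.map_const', List.sum_replicate, nsmul_eq_mul] at e
    rw [← e]
    simp only [hf']
    rw [split, gr, hKo, hKo, one_mul]
  have hlen : ∀ j, (L j).length ≤ 17 := by
    intro j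
    by_contra hj
    have h0 : ∀ k : Fin 4, ((L j).length : ℤ) * (cand j k * cand j k) ≤ 17 := by
      intro k
      refine le_trans (Finset.single_le_sum (f := fun j => ((L j).length : ℤ) * (cand j k * cand j k))
        (fun i _ => mul_nonneg (Int.natCast_nonneg _) (mul_self_nonneg _)) (Finset.mem_univ j)) ?_
      rw [hcnt, if_pos rfl]
      fin_cases k <;> simp
    have hpos' : ∀ i, ∃ k, 1 ≤ cand i k * cand i k := by decide +kernel
    have hpos := hpos' j
    obtain ⟨k, hk⟩ := hpos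
    have := h0 k
    nlinarith
  have hgram : resid (List.ofFn fun j => (L j).length) (List.ofFn cand) = target := by
    have key : ∀ (π : R10 → ℤ) (i j : Fin 4), π ⟨0, 0, 0, 0, 0, 0, 0, 0, 0, 0⟩ = 0 →
        (∀ n v R, π (addMul n v R) = n * (v i * v j) + π R) →
        π (resid (List.ofFn fun j => (L j).length) (List.ofFn cand)) =
          (if i = j then (![18, 18, 6, 6] i : ℤ) else 0) - 1 := fun π i j h0 h1 =>
      (resid_ofFn π (fun v => v i * v j) h0 h1 _ _).trans (hcnt i j)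
    rcases hR : resid (List.ofFn fun j => (L j).length) (List.ofFn cand) with ⟨a, b, c, e, ab, ac, ae, bc, be, ce⟩
    rw [hR] at key
    have k1 := key R10.a 0 0 rfl (fun n v R => by simp [addMul]; ring)
    have k2 := key R10.b 1 1 rfl (fun n v R => by simp [addMul]; ring)
    have k3 := key R10.c 2 2 rfl (fun n v R => by simp [addMul]; ring)
    have k4 := key R10.e 3 3 rfl (fun n v R => by simp [addMul]; ring)
    have k5 := key R10.ab 0 1 rfl (fun n v R => by simp [addMul]; ring)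
    have k6 := key R10.ac 0 2 rfl (fun n v R => by simp [addMul]; ring)
    have k7 := key R10.ae 0 3 rfl (fun n v R => by simp [addMul]; ring)
    have k8 := key R10.bc 1 2 rfl (fun n v R => by simp [addMul]; ring)
    have k9 := key R10.be 1 3 rfl (fun n v R => by simp [addMul]; ring)
    have k10 := key R10.ce 2 3 rfl (fun n v R => by simp [addMul]; ring)
    simp at k1 k2 k3 k4 k5 k6 k7 k8 k9 k10
    simp [target, *]
  set g := Nat.card G with hg
  have hgi : g = 72 * (Subgroup.normalizer (S : Set G)).index := by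
    rw [hg, ← hN, Subgroup.card_mul_index]
  have hcount : ∀ i j : Fin 2, i ≠ j →
      Nat.card {x : G // IsConj (p j) (p i * (x * p i * x⁻¹))} = 36 := by
    intro i j hij
    have hk := h.card_count_coord hf (xa := pt i) i j (hp1 i)
      (by revert hij; fin_cases i <;> fin_cases j <;> decide)
    rw [hp]
    rw [hk, show (Finset.univ.filter fun x => κ x = some i ∧ κ (pt i + x) = some j).card = 2 by
      revert hij; fin_cases i <;> fin_cases j <;> decide, hpC i]
  have hcub : ∀ i j : Fin 2, i ≠ j → ∀ k l : Fin 4, K k = A i → K l = A j →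
      1 + ∑ t, ((L t).map fun x : ℤ => ((cand t k : ℚ) * cand t k * cand t l) / (x : ℚ)).sum = 648 / (g : ℚ) := by
    intro i j hij k l hk hl
    rw [← hsum ℚ (fun v x => ((v k : ℚ) * v k * v l) / (x : ℚ)) (fun x => by simp) (fun v x => by
      simp only [Pi.neg_apply, Int.cast_neg, neg_mul, mul_neg, neg_neg, neg_div_neg_eq]), split]
    have e := triple_eq (u := p i) (v := p i) (w := p j) ⟨hp1 i, hA i⟩ ⟨hp1 i, hA i⟩ ⟨hp1 j, hA j⟩
    rw [hcount i j hij, hpC j] at e
    simp only [hf', hd, hk, hl, e]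
    rw [← hk, ← hl, hKo, hKo, hdo, ← hg]
    norm_num
  have h00 : (324 : ℚ) / g ≤ 1 + ∑ t, ((L t).map fun x : ℤ => ((cand t 0 : ℚ) * cand t 0 * cand t 0) / (x : ℚ)).sum := by
    rw [← hsum ℚ (fun v x => ((v 0 : ℚ) * v 0 * v 0) / (x : ℚ)) (fun x => by simp) (fun v x => by
      simp only [Pi.neg_apply, Int.cast_neg, neg_mul, mul_neg, neg_neg, neg_div_neg_eq]), split]
    have e := triple_eq (u := p 0) (v := p 0) (w := p 0) ⟨hp1 0, hA 0⟩ ⟨hp1 0, hA 0⟩ ⟨hp1 0, hA 0⟩
    have hcp := h.count_pos (hf.repMem 0) (hreal 0)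
    rw [hpC 0] at e hcp
    simp only [hf', hd, show K 0 = A 0 from rfl, e]
    rw [show A 0 o = 1 from hKo 0, hdo, ← hg]
    have : (18 : ℚ) ≤ (Nat.card {x : G // IsConj (p 0) (p 0 * (x * p 0 * x⁻¹))} : ℚ) := by exact_mod_cast hcp
    simp only [Int.cast_one, mul_one, div_one, add_sub_cancel]
    rw [show (324 : ℚ) = 18 * 18 by norm_num, Nat.cast_ofNat]
    gcongr
  have hsq' : 1 + ∑ t, ((L t).map fun x => x * x).sum ≤ (g : ℤ) := by
    have e := hsum ℤ (fun v x => if v = 0 then 0 else x * x) (fun x => by simp) (fun v x => by simp)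
    have hne : ∀ t, cand t ≠ 0 := by decide +kernel
    simp only [hne, if_false] at e
    rw [← e]
    have hall : ∑ χ, d χ * d χ = (g : ℤ) := by
      apply Int.cast_injective (α := ℂ)
      rw [Int.cast_sum, Int.cast_natCast, hg, ← sum_sq_apply_one]
      refine Finset.sum_congr rfl fun χ _ => ?_
      rw [ClassAlgebraVal.apply_one_eq_charDegree, hd]; push_cast; ring
    have hTle : ∑ χ ∈ T, (if f χ = 0 then 0 else d χ * d χ) ≤ ∑ χ ∈ T, d χ * d χ :=
      Finset.sum_le_sum fun χ _ => by split_ifs <;> nlinarith [mul_self_nonneg (d χ)]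
    rw [split (fun χ => d χ * d χ), hall, show d o = 1 from hdo] at hTle
    linarith
  have hres : ∀ j, ∀ x ∈ L j, 4 ≤ |x| ∧ (x + 4 * cand j 0 + 4 * cand j 1) % 9 = 0 := by
    intro j x hx
    obtain ⟨χ, hχ, hh⟩ := hL j x hx
    have h4 := hd4 χ hχ
    obtain ⟨n, hn⟩ := hmod χ
    rcases hh with ⟨hv', rfl⟩ | ⟨hv', rfl⟩
    · refine ⟨le_abs.2 (Or.inl h4), ?_⟩
      rw [← hv', hf', hf', show K 0 χ = A 0 χ from rfl, show K 1 χ = A 1 χ from rfl]; omega
    · refine ⟨le_abs.2 (Or.inr (by omega)), ?_⟩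
      have e : cand j = -f χ := by rw [hv', neg_neg]
      rw [e, Pi.neg_apply, Pi.neg_apply, hf', hf', show K 0 χ = A 0 χ from rfl, show K 1 χ = A 1 χ from rfl]; omega
  have hlin : ∀ k, ∑ j, ((L j).map fun x => x * cand j k).sum = -1 := by
    intro k
    rw [← hsum ℤ (fun v x => x * v k) (fun x => by simp) (fun v x => by simp), split]
    have e := degree_orth (hcol k)
    simp only [hf', hd, e, hKo, hdo]
    norm_num
  rcases arith g L hlen hgram hres hlin (hcub 0 1 (by decide) 0 1 rfl rfl) (hcub 1 0 (by decide) 1 0 rfl rfl) h00 hsq'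
      Nat.card_pos ⟨_, hgi, index_mod_nine h⟩ with hg720 | ⟨hg2, hone⟩
  · exact SimpleOrdersSmall.card_ne_720 hG hg720
  · have hcard : (T.filter fun χ => d χ = 5 ∧ A 0 χ = 2).card = 1 := by
      refine Eq.trans ?_ hone
      rw [← hsum ℕ (fun v x => if (v 0 = 2 ∧ x = 5) ∨ (v 0 = -2 ∧ x = -5) then 1 else 0)
        (fun x => by simp) (fun v x => by
          refine if_congr ?_ rfl rfl
          simp only [Pi.neg_apply]; omega), Finset.card_filter]
      refine Finset.sum_congr rfl fun χ hχ => if_congr ?_ rfl rfl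
      have := hd4 χ hχ
      rw [hf', show K 0 χ = A 0 χ from rfl]
      omega
    obtain ⟨χ, hχset⟩ := Finset.card_eq_one.1 hcard
    have hχ : χ ∈ T.filter fun χ => d χ = 5 ∧ A 0 χ = 2 := by rw [hχset]; simp
    obtain ⟨hχT, hχ5, hχa⟩ := Finset.mem_filter.1 hχ
    have hdvd : ∀ q : ℕ, q.Prime → q ∣ Nat.card G → q ≤ 7 := by
      intro q hq hdv
      rw [← hg] at hdv
      by_contra hlt
      have hco : ∀ n : ℕ, n.Prime → n ≤ 7 → q.Coprime n := fun n hn hn7 =>
        (Nat.coprime_primes hq hn).2 (by omega)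
      have c2 := hco 2 (by norm_num) (by norm_num)
      have c3 := hco 3 (by norm_num) (by norm_num)
      have c5 := hco 5 (by norm_num) (by norm_num)
      have c7 := hco 7 (by norm_num) le_rfl
      have hc : q.Coprime g := by
        rcases hg2 with e | e <;> rw [e]
        · rw [show 20160 = 2 ^ 6 * 3 ^ 2 * 5 * 7 by norm_num]
          exact (((c2.pow_right 6).mul_right (c3.pow_right 2)).mul_right c5).mul_right c7
        · rw [show 201600 = 2 ^ 7 * 3 ^ 2 * 5 ^ 2 * 7 by norm_num]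
          exact (((c2.pow_right 7).mul_right (c3.pow_right 2)).mul_right (c5.pow_right 2)).mul_right c7
      exact (hq.coprime_iff_not_dvd.1 hc) hdv
    refine rational_five_false hG hdvd (by rcases hg2 with e | e <;> rw [← hg, e] <;> norm_num)
      (h.exp _ (hf.repMem 0)) (χ := χ) (by simp only [hd] at hχ5; exact_mod_cast hχ5) (Finset.ne_of_mem_erase hχT) fun ψ hψ hψu => ?_
    have hψm : ψ ∈ T.filter fun χ => d χ = 5 ∧ A 0 χ = 2 := by
      refine Finset.mem_filter.2 ⟨Finset.mem_erase.2 ⟨fun e => ?_, Finset.mem_univ _⟩, by simp [hd, hψ], ?_⟩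
      · rw [e] at hψ
        rw [hψ] at hdo
        norm_num at hdo
      · apply Int.cast_injective (α := ℂ)
        rw [← hA 0 ψ, ← hχa, ← hA 0 χ]
        exact hψu
    rw [hχset, Finset.mem_singleton] at hψm
    exact hψm

end Cfsg.Agent.SelfCentNineD8_64
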