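import Mathlib
import Cfsg.Agent.Lib.SelfCentNineLoc64
import Cfsg.Agent.Lib.GramShapes64
import Cfsg.Agent.Lib.GramSearch64

/-!
No simple group has a self-centralising Sylow subgroup of order nine with normaliser of order 36
containing an element of centraliser order 18.
-/

set_option autoImplicit false
set_option Elab.async false

namespace Cfsg.Agent.SelfCentNineKlein64

open scoped ComplexConjugate
open Cfsg.Agent.SelfCentNineLoc64 Cfsg.Agent.CharBasicOrth Cfsg.Agent.CharBasicDecomp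
  Cfsg.Agent.GramShapes64

/-! ### Arithmetic -/

/-- The possible rows up to sign. -/
def cand : Fin 22 → Fin 3 → ℤ :=
  ![![0, 3, 0], ![1, -2, -2], ![1, -2, 1], ![1, 1, -2], ![1, 1, 1], ![1, 4, -2], ![1, 4, 1],
    ![2, -4, -1], ![2, -4, 2], ![2, -1, -1], ![2, -1, 2], ![2, 2, -1], ![2, 2, 2], ![3, -3, 0],
    ![3, 0, 0], ![3, 3, 0], ![4, -2, -2], ![4, -2, 1], ![4, 1, -2], ![4, 1, 1], ![4, 4, -2], ![4, 4, 1]]

/-- The products of the entries of a row. -/
def prods (v : Fin 3 → ℤ) : Fin 6 → ℤ :=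
  ![v 0 * v 0, v 1 * v 1, v 2 * v 2, v 0 * v 1, v 0 * v 2, v 1 * v 2]

/-- A row of products, evaluated. -/
abbrev R6 := ℤ × ℤ × ℤ × ℤ × ℤ × ℤ

/-- The products of all rows. -/
def rows : List R6 :=
  [(0, 9, 0, 0, 0, 0),
   (1, 4, 4, -2, -2, 4),
   (1, 4, 1, -2, 1, -2),
   (1, 1, 4, 1, -2, -2),
   (1, 1, 1, 1, 1, 1),
   (1, 16, 4, 4, -2, -8),
   (1, 16, 1, 4, 1, 4),
   (4, 16, 1, -8, -2, 4),
   (4, 16, 4, -8, 4, -8),
   (4, 1, 1, -2, -2, 1),
   (4, 1, 4, -2, 4, -2),
   (4, 4, 1, 4, -2, -2),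
   (4, 4, 4, 4, 4, 4),
   (9, 9, 0, -9, 0, 0),
   (9, 0, 0, 0, 0, 0),
   (9, 9, 0, 9, 0, 0),
   (16, 4, 4, -8, -8, 4),
   (16, 4, 1, -8, 4, -2),
   (16, 1, 4, 4, -8, -2),
   (16, 1, 1, 4, 4, 1),
   (16, 16, 4, 16, -8, -8),
   (16, 16, 1, 16, 4, 4)]

/-- Read off the six entries. -/
def pk (R : Fin 6 → ℤ) : R6 := (R 0, R 1, R 2, R 3, R 4, R 5)

/-- Difference. -/
def step6 (R v : R6) : R6 :=
  (R.1 - v.1, R.2.1 - v.2.1, R.2.2.1 - v.2.2.1, R.2.2.2.1 - v.2.2.2.1, R.2.2.2.2.1 - v.2.2.2.2.1,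
    R.2.2.2.2.2 - v.2.2.2.2.2)

/-- Evaluate the six entries. -/
def frc6 (R : R6) (k : R6 → List (List ℕ)) : List (List ℕ) :=
  GramSearch64.forceI R.1 fun a => GramSearch64.forceI R.2.1 fun b => GramSearch64.forceI R.2.2.1 fun c =>
    GramSearch64.forceI R.2.2.2.1 fun d => GramSearch64.forceI R.2.2.2.2.1 fun e =>
      GramSearch64.forceI R.2.2.2.2.2 fun f => k (a, b, c, d, e, f)

/-- Admissible states. -/
def ok6 (R : R6) : Bool := decide (0 ≤ R.1) && decide (0 ≤ R.2.1) && decide (0 ≤ R.2.2.1)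

/-- The final state. -/
def fin6 (R : R6) : Bool :=
  decide (R.1 = 0) && decide (R.2.1 = 0) && decide (R.2.2.1 = 0) && decide (R.2.2.2.1 = 0) &&
    decide (R.2.2.2.2.1 = 0) && decide (R.2.2.2.2.2 = 0)

/-- The weighted sum of rows. -/
def tot6 : List ℕ → List R6 → R6
  | c :: cs, v :: t => (c * v.1 + (tot6 cs t).1, c * v.2.1 + (tot6 cs t).2.1,
      c * v.2.2.1 + (tot6 cs t).2.2.1, c * v.2.2.2.1 + (tot6 cs t).2.2.2.1,
      c * v.2.2.2.2.1 + (tot6 cs t).2.2.2.2.1, c * v.2.2.2.2.2 + (tot6 cs t).2.2.2.2.2)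
  | _, _ => (0, 0, 0, 0, 0, 0)

theorem search_shapes :
    (GramSearch64.search step6 frc6 ok6 fin6 17 rows (17, 17, 8, -1, -1, -1)).all (fun cs => cs ∈
    [[1, 0, 1, 1, 2, 0, 0, 0, 0, 1, 0, 0, 0, 0, 1, 0, 0, 0, 0, 0, 0, 0],
     [1, 0, 0, 0, 1, 0, 0, 0, 0, 2, 1, 1, 0, 0, 0, 0, 0, 0, 0, 0, 0, 0],
     [0, 1, 2, 0, 1, 0, 0, 0, 0, 0, 0, 1, 0, 0, 1, 0, 0, 0, 0, 0, 0, 0],
     [0, 0, 2, 0, 3, 0, 0, 0, 0, 2, 0, 1, 0, 0, 0, 0, 0, 0, 0, 0, 0, 0],
     [0, 0, 0, 1, 3, 0, 0, 0, 0, 0, 0, 1, 0, 1, 0, 0, 0, 0, 0, 0, 0, 0]]) = true := by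
  decide +kernel

theorem rows_eq : rows = (List.ofFn fun j => prods (cand j)).map pk := by decide +kernel

theorem dfs_tot (l : List (Fin 6 → ℤ)) : ∀ (R : Fin 6 → ℤ) (cs : List ℕ), cs ∈ dfs 3 17 l R →
    cs.length = l.length ∧ (∀ c ∈ cs, c ≤ 17) ∧ pk R = tot6 cs (l.map pk) := by
  induction l with
  | nil =>
    intro R cs h
    simp only [dfs] at h
    split_ifs at h with h0
    · obtain rfl : cs = [] := by simpa using h
      simp only [List.all_eq_true, List.mem_finRange, true_implies, beq_iff_eq] at h0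
      simp [pk, tot6, h0]
    · simp at h
  | cons v t ih =>
    intro R cs h
    simp only [dfs, List.mem_flatMap, List.mem_range] at h
    obtain ⟨c, hc, h⟩ := h
    split_ifs at h with h0
    · obtain ⟨cs', hcs', rfl⟩ := List.mem_map.1 h
      obtain ⟨h1, h2, h3⟩ := ih _ cs' hcs'
      refine ⟨by simp [h1], ?_, ?_⟩
      · simp only [List.mem_cons, forall_eq_or_imp]
        exact ⟨by omega, h2⟩
      · simp only [List.map_cons, tot6, ← h3]
        simp [pk]
    · simp at h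

theorem ok6_tot : ∀ (cs : List ℕ) (l : List R6),
    (∀ v ∈ l, 0 ≤ v.1 ∧ 0 ≤ v.2.1 ∧ 0 ≤ v.2.2.1) → ok6 (tot6 cs l) = true := by
  intro cs l h
  induction l generalizing cs with
  | nil => cases cs <;> simp [tot6, ok6]
  | cons v t ih =>
    rcases cs with _ | ⟨c, cs⟩
    · simp [tot6, ok6]
    · have := ih cs fun w hw => h w (by simp [hw])
      simp only [ok6, Bool.and_eq_true, decide_eq_true_eq] at this
      obtain ⟨h1, h2, h3⟩ := h v (by simp)
      simp only [tot6, ok6, Bool.and_eq_true, decide_eq_true_eq]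
      exact ⟨⟨decide_eq_true (add_nonneg (mul_nonneg (Int.natCast_nonneg c) h1) this.1.1),
        decide_eq_true (add_nonneg (mul_nonneg (Int.natCast_nonneg c) h2) this.1.2)⟩,
        decide_eq_true (add_nonneg (mul_nonneg (Int.natCast_nonneg c) h3) this.2)⟩

theorem shapes : dfs 3 17 (List.ofFn fun j => prods (cand j)) ![17, 17, 8, -1, -1, -1] ⊆
    [[1, 0, 1, 1, 2, 0, 0, 0, 0, 1, 0, 0, 0, 0, 1, 0, 0, 0, 0, 0, 0, 0],
     [1, 0, 0, 0, 1, 0, 0, 0, 0, 2, 1, 1, 0, 0, 0, 0, 0, 0, 0, 0, 0, 0],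
     [0, 1, 2, 0, 1, 0, 0, 0, 0, 0, 0, 1, 0, 0, 1, 0, 0, 0, 0, 0, 0, 0],
     [0, 0, 2, 0, 3, 0, 0, 0, 0, 2, 0, 1, 0, 0, 0, 0, 0, 0, 0, 0, 0, 0],
     [0, 0, 0, 1, 3, 0, 0, 0, 0, 0, 0, 1, 0, 1, 0, 0, 0, 0, 0, 0, 0, 0]] := by
  intro cs hcs
  obtain ⟨h1, h2, h3⟩ := dfs_tot _ _ cs hcs
  have h4 := List.all_eq_true.1 search_shapes cs (by
    have hm := GramSearch64.mem_search (step := step6) (frc := frc6) (ok := ok6) (fin := fin6) (b := 17)
      (fun R k => by simp only [frc6, GramSearch64.forceI_eq]) tot6 (by simp [tot6, fin6])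
      (fun cs v t => by simp [tot6])
      (fun c cs v t => by simp [tot6, step6]; ring_nf; simp)
      (fun l => ∀ v ∈ l, 0 ≤ v.1 ∧ 0 ≤ v.2.1 ∧ 0 ≤ v.2.2.1) (fun v t h w hw => h w (by simp [hw]))
      ok6_tot rows (by decide +kernel) cs (by rw [h1, rows_eq, List.length_map]) h2
    rw [rows_eq, ← h3] at hm
    rw [rows_eq]
    exact hm)
  exact of_decide_eq_true h4

theorem exists_cand (a b c : ℤ) (ha : a * a ≤ 17) (hb : b * b ≤ 17) (hc : c * c ≤ 8)
    (hab : (3 : ℤ) ∣ a - b) (hac : (3 : ℤ) ∣ a - c) :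
    ![a, b, c] = 0 ∨ ∃ j, ![a, b, c] = cand j ∨ ![a, b, c] = -cand j := by
  have b1 : -4 ≤ a ∧ a ≤ 4 := ⟨by nlinarith, by nlinarith⟩
  have b2 : -4 ≤ b ∧ b ≤ 4 := ⟨by nlinarith, by nlinarith⟩
  have b3 : -2 ≤ c ∧ c ≤ 2 := ⟨by nlinarith, by nlinarith⟩
  have key : ∀ a' ∈ Finset.Icc (-4 : ℤ) 4, ∀ b' ∈ Finset.Icc (-4 : ℤ) 4, ∀ c' ∈ Finset.Icc (-2 : ℤ) 2,
      (a' - b') % 3 = 0 → (a' - c') % 3 = 0 →
      ![a', b', c'] = 0 ∨ ∃ j, ![a', b', c'] = cand j ∨ ![a', b', c'] = -cand j := by decide +kernel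
  exact key a (Finset.mem_Icc.2 b1) b (Finset.mem_Icc.2 b2) c (Finset.mem_Icc.2 b3)
    (Int.emod_eq_zero_of_dvd hab) (Int.emod_eq_zero_of_dvd hac)

theorem inv_abs_le {x : ℤ} (h : 8 ≤ |x|) : -(1 / 8) ≤ (1 : ℚ) / x ∧ (1 : ℚ) / x ≤ 1 / 8 := by
  have h1 : (8 : ℚ) ≤ |(x : ℚ)| := by exact_mod_cast h
  refine abs_le.1 ?_
  rw [abs_div, abs_one]
  exact one_div_le_one_div_of_le (by norm_num) h1

set_option maxHeartbeats 1000000 in
theorem arith (L : Fin 22 → List ℤ)
    (hmem : List.ofFn (fun j => (L j).length) ∈ dfs 3 17 (List.ofFn fun j => prods (cand j)) ![17, 17, 8, -1, -1, -1])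
    (hres : ∀ j, ∀ x ∈ L j, 4 ≤ |x| ∧ (x + (2 * cand j 0 + 2 * cand j 1 + 4 * cand j 2)) % 9 = 0)
    (hlin : ∀ k, ∑ j, ((L j).map fun x => x * cand j k).sum = -1)
    (hcub : ∀ k l, (k, l) ∈ [((0 : Fin 3), (1 : Fin 3)), (0, 2), (1, 0), (1, 2)] →
      ∑ j, ((L j).map fun x : ℤ => ((cand j k : ℚ) * cand j k * cand j l) / (x : ℚ)).sum = -1) : False := by
  have hm := shapes hmem
  have c1 := hcub 0 1 (by simp)
  have c2 := hcub 0 2 (by simp)
  have c3 := hcub 1 0 (by simp)
  have c4 := hcub 1 2 (by simp)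
  have hnz : ∀ j, ∀ x ∈ L j, (x : ℚ) ≠ 0 := fun j x hx => by
    have := (hres j x hx).1
    exact_mod_cast (fun e => by rw [e] at this; norm_num at this : x ≠ 0)
  simp only [List.mem_cons, List.not_mem_nil, or_false] at hm
  simp only [Fin.sum_univ_succ, Fin.sum_univ_zero] at c1 c2 c3 c4
  simp [List.ofFn_succ] at hm
  rcases hm with hm | hm | hm | hm | hm <;>
    obtain ⟨h0, h1, h2, h3, h4, h5, h6, h7, h8, h9, h10, h11, h12, h13, h14, h15, h16, h17, h18, h19, h20, h21⟩ := hm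
  · obtain ⟨a, ha⟩ := List.length_eq_one_iff.1 h0
    obtain ⟨b, hb⟩ := List.length_eq_one_iff.1 h2
    obtain ⟨c, hc⟩ := List.length_eq_one_iff.1 h3
    obtain ⟨e, f, hef⟩ := List.length_eq_two.1 h4
    obtain ⟨g, hg⟩ := List.length_eq_one_iff.1 h9
    obtain ⟨k, hk⟩ := List.length_eq_one_iff.1 h14
    simp [cand, h1, h5, h6, h7, h8, h10, h11, h12, h13, h15, h16, h17, h18, h19, h20, h21, ha, hb, hc, hef, hg, hk] at c1 c2
    have rb := hres 2 b (by rw [hb]; simp)
    have rc := hres 3 c (by rw [hc]; simp)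
    have nb := hnz 2 b (by rw [hb]; simp)
    have nc := hnz 3 c (by rw [hc]; simp)
    simp [cand] at rb rc
    have e1 : (1 : ℚ) / b = 1 / c := by
      simp only [div_eq_mul_inv] at c1 c2 ⊢
      linear_combination (c2 - c1) / 3
    rw [div_eq_div_iff nb nc] at e1
    have : b = c := by exact_mod_cast (by linarith : (b : ℚ) = c)
    omega
  · obtain ⟨a, ha⟩ := List.length_eq_one_iff.1 h0
    obtain ⟨e, he⟩ := List.length_eq_one_iff.1 h4
    obtain ⟨g, g', hg⟩ := List.length_eq_two.1 h9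
    obtain ⟨b, hb⟩ := List.length_eq_one_iff.1 h10
    obtain ⟨k, hk⟩ := List.length_eq_one_iff.1 h11
    simp [cand, h1, h2, h3, h5, h6, h7, h8, h12, h13, h14, h15, h16, h17, h18, h19, h20, h21, ha, he, hg, hb, hk] at c1 c2 c3 c4
    have nb := hnz 10 b (by rw [hb]; simp)
    have : (1 : ℚ) / b = 0 := by
      simp only [div_eq_mul_inv] at c1 c2 c3 c4 ⊢
      linear_combination (-c1 + 2 * c2 + c3 - 2 * c4) / 18
    exact (one_div_ne_zero nb) this
  · obtain ⟨a, ha⟩ := List.length_eq_one_iff.1 h1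
    obtain ⟨b, b', hb⟩ := List.length_eq_two.1 h2
    obtain ⟨e, he⟩ := List.length_eq_one_iff.1 h4
    obtain ⟨k, hk⟩ := List.length_eq_one_iff.1 h11
    obtain ⟨g, hg⟩ := List.length_eq_one_iff.1 h14
    simp [cand, h0, h3, h5, h6, h7, h8, h9, h10, h12, h13, h15, h16, h17, h18, h19, h20, h21, ha, he, hg, hb, hk] at c1 c2 c3 c4
    have na := hnz 1 a (by rw [ha]; simp)
    have : (1 : ℚ) / a = 0 := by
      simp only [div_eq_mul_inv] at c1 c2 c3 c4 ⊢
      linear_combination (-c1 + 2 * c2 + c3 - 2 * c4) / 18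
    exact (one_div_ne_zero na) this
  · obtain ⟨b, b', hb⟩ := List.length_eq_two.1 h2
    obtain ⟨e, f, k', hef⟩ := List.length_eq_three.1 h4
    obtain ⟨g, g', hg⟩ := List.length_eq_two.1 h9
    obtain ⟨K, hK⟩ := List.length_eq_one_iff.1 h11
    have l0 := hlin 0
    have l1 := hlin 1
    have l2 := hlin 2
    simp only [Fin.sum_univ_succ, Fin.sum_univ_zero] at l0 l1 l2
    simp [cand, h0, h1, h3, h5, h6, h7, h8, h10, h12, h13, h14, h15, h16, h17, h18, h19, h20, h21, hb, hef, hg, hK] at c1 c2 c3 c4 l0 l1 l2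
    have rb := hres 2 b (by rw [hb]; simp)
    have rb' := hres 2 b' (by rw [hb]; simp)
    have re := hres 4 e (by rw [hef]; simp)
    have rf := hres 4 f (by rw [hef]; simp)
    have rk := hres 4 k' (by rw [hef]; simp)
    have nb := hnz 2 b (by rw [hb]; simp)
    have nb' := hnz 2 b' (by rw [hb]; simp)
    have nK := hnz 11 K (by rw [hK]; simp)
    simp [cand] at rb rb' re rf rk
    have hSB : K = b + b' := by omega
    have hS1 : e + f + k' = -1 - K := by omega
    have eB : (1 : ℚ) / b + 1 / b' = 4 / K := by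
      simp only [div_eq_mul_inv] at c1 c2 c3 c4 ⊢
      linear_combination (-2 * c1 + 3 * c2 + c3 - 2 * c4) / 3
    have eq : b = b' := by
      have hKQ : (K : ℚ) = b + b' := by exact_mod_cast hSB
      rw [div_add_div _ _ nb nb', div_eq_div_iff (mul_ne_zero nb nb') nK, hKQ] at eB
      have : ((b : ℚ) - b') ^ 2 = 0 := by linear_combination eB
      exact_mod_cast sub_eq_zero.1 ((pow_eq_zero_iff two_ne_zero).1 this)
    subst eq
    have hKQ : (K : ℚ) = 2 * b := by exact_mod_cast (by omega : K = 2 * b)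
    have eH : (1 : ℚ) / e + 1 / f + 1 / k' = -1 - 8 / b := by
      have h8 : (16 : ℚ) / K = 8 / b := by
        rw [hKQ, div_eq_div_iff (by simp [nb]) nb]; ring
      rw [← h8]
      simp only [div_eq_mul_inv] at c1 c2 c3 c4 eB ⊢
      linear_combination c1 + 2 * eB + (4 / 3) * (-2 * c1 + 3 * c2 + 2 * c3 - 3 * c4) - 4 * eB
    have he8 : 8 ≤ |e| := by
      rcases abs_cases e with ⟨h, h'⟩ | ⟨h, h'⟩ <;> rw [h] <;> omega
    have hf8 : 8 ≤ |f| := by
      rcases abs_cases f with ⟨h, h'⟩ | ⟨h, h'⟩ <;> rw [h] <;> omega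
    have hk8 : 8 ≤ |k'| := by
      rcases abs_cases k' with ⟨h, h'⟩ | ⟨h, h'⟩ <;> rw [h] <;> omega
    obtain ⟨e1, e2⟩ := inv_abs_le he8
    obtain ⟨f1, f2⟩ := inv_abs_le hf8
    obtain ⟨k1, k2⟩ := inv_abs_le hk8
    have hb13 : -13 < b ∧ b < 13 := by
      have h58 : (5 : ℚ) / 8 ≤ |(8 : ℚ) / b| := le_abs.2 (Or.inr (by linarith))
      have hp : (0 : ℚ) < |(b : ℚ)| := abs_pos.2 nb
      rw [abs_div, le_div_iff₀ hp, show |(8 : ℚ)| = 8 by norm_num] at h58
      have : |(b : ℚ)| < 13 := by linarith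
      have hz : |b| < 13 := by exact_mod_cast this
      exact abs_lt.1 hz
    have : b = 7 ∨ b = -11 ∨ b = -2 := by omega
    rcases this with rfl | rfl | rfl
    · norm_num at eH
      simp only [one_div] at *
      linarith
    · norm_num at eH
      have hpos : 0 < e ∨ 0 < f ∨ 0 < k' := by omega
      rcases hpos with hp | hp | hp
      · have : (0 : ℚ) < 1 / (e : ℚ) := by positivity
        simp only [one_div] at *
        linarith
      · have : (0 : ℚ) < 1 / (f : ℚ) := by positivity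
        simp only [one_div] at *
        linarith
      · have : (0 : ℚ) < 1 / (k' : ℚ) := by positivity
        simp only [one_div] at *
        linarith
    · norm_num at rb
  · obtain ⟨c, hc⟩ := List.length_eq_one_iff.1 h3
    obtain ⟨e, f, k', hef⟩ := List.length_eq_three.1 h4
    obtain ⟨k, hk⟩ := List.length_eq_one_iff.1 h11
    obtain ⟨z, hz⟩ := List.length_eq_one_iff.1 h13
    simp [cand, h0, h1, h2, h5, h6, h7, h8, h9, h10, h12, h14, h15, h16, h17, h18, h19, h20, h21, hc, hef, hk, hz] at c1 c2 c3 c4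
    have nz := hnz 13 z (by rw [hz]; simp)
    have : (1 : ℚ) / z = 0 := by
      simp only [div_eq_mul_inv] at c1 c2 c3 c4 ⊢
      linear_combination (-c1 - 4 * c2 + c3 + 4 * c4) / 54
    exact (one_div_ne_zero nz) this

/-! ### Group theory -/

universe w

variable {G : Type w} [Group G] [Finite G] {S : Subgroup G}

/-- The class of a point in coordinates. -/
def κ : ZMod 3 × ZMod 3 → Option (Fin 3) := fun x =>
  if x = 0 then none else if x.2 = 0 then some 0 else if x.1 = 0 then some 1 else some 2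

/-- Representatives in coordinates. -/
def pt : Fin 3 → ZMod 3 × ZMod 3 := ![(1, 0), (0, 1), (1, 1)]

theorem exists_fusion (h : Loc S) (hN : Nat.card (Subgroup.normalizer (S : Set G)) = 36)
    (hex : ∃ u ∈ S, u ≠ 1 ∧ Nat.card (Subgroup.centralizer ({u} : Set G)) = 18) :
    ∃ u v : G, u ≠ 1 ∧ v ∉ Subgroup.zpowers u ∧ Fusion S u v (fun i => coord u v (pt i)) κ ∧
      ∀ i, Nat.card (Subgroup.centralizer ({coord u v (pt i)} : Set G)) = ![18, 18, 9] i := by
  classical
  obtain ⟨u, hu, hu1, hCu⟩ := hex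
  obtain ⟨g, hgC, hgS⟩ := SetLike.not_le_iff_exists.1 (show ¬ Subgroup.centralizer ({u} : Set G) ≤ S from
    fun hle => by
      have := Subgroup.card_le_of_le hle
      rw [hCu, h.card] at this
      omega)
  have hgu : g * u = u * g := centralizer_mem.1 hgC
  obtain ⟨v₀, hv₀, hv₀u⟩ := h.exists_indep u hu hu1
  set N := Subgroup.normalizer (S : Set G) with hNdef
  have hgN : g ∈ N := h.mem_normalizer hu hu1 hgu
  have hcl2 : (cls S u).card = 2 := by
    have e := h.card_cls hu hu1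
    rw [hCu, hN] at e
    omega
  -- `u` is real
  have hux : ∀ y ∈ N, y * u * y⁻¹ = u ∨ y * u * y⁻¹ = u⁻¹ := by
    obtain ⟨p, q, hpq, hcls⟩ := Finset.card_eq_two.1 hcl2
    obtain ⟨x, hx, hxu⟩ : ∃ x, x ∈ cls S u ∧ x ≠ u := by
      by_cases e : p = u
      · exact ⟨q, by rw [hcls]; simp, fun e' => hpq (e.trans e'.symm)⟩
      · exact ⟨p, by rw [hcls]; simp, e⟩
    have hset : cls S u = {u, x} := (Finset.eq_of_subset_of_card_le (by
      intro z hz
      simp only [Finset.mem_insert, Finset.mem_singleton] at hz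
      rcases hz with rfl | rfl
      · exact mem_cls.2 ⟨hu, IsConj.refl _⟩
      · exact hx) (by rw [hcl2, Finset.card_pair (Ne.symm hxu)])).symm
    have hxinv : x = u⁻¹ := by
      by_contra hne
      have hxz : x ∉ Subgroup.zpowers u := fun hm => by
        obtain ⟨i, hi⟩ := Subgroup.mem_zpowers_iff.1 hm
        rw [zpow_eq_zpow_emod' i (h.exp u hu)] at hi
        have h0 := Int.emod_nonneg i (by norm_num : (3 : ℤ) ≠ 0)
        have h3 := Int.emod_lt_of_pos i (by norm_num : (0 : ℤ) < 3)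
        interval_cases hj : i % 3
        · have hx1 : x = 1 := by rw [← hi, zpow_zero]
          exact hu1 (isConj_one_left.1 (hx1 ▸ (mem_cls.1 hx).2))
        · exact hxu (by rw [← hi, zpow_one])
        · exact hne (by rw [← hi, zpow_two, h.sq_eq_inv hu])
      have bij := h.coord_bij hu hu1 (mem_cls.1 hx).1 hxz
      have htriv : N ≤ Subgroup.centralizer ({u} : Set G) ⊔ S := by
        intro y hy
        have hyu : y * u * y⁻¹ ∈ cls S u :=
          mem_cls.2 ⟨(Subgroup.mem_normalizer_iff.1 hy u).1 hu, isConj_iff.2 ⟨y, rfl⟩⟩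
        rw [hset] at hyu
        simp only [Finset.mem_insert, Finset.mem_singleton] at hyu
        have hyx : y * x * y⁻¹ ∈ cls S u :=
          mem_cls.2 ⟨(Subgroup.mem_normalizer_iff.1 hy x).1 (mem_cls.1 hx).1,
            (mem_cls.1 hx).2.trans (isConj_iff.2 ⟨y, rfl⟩)⟩
        rw [hset] at hyx
        simp only [Finset.mem_insert, Finset.mem_singleton] at hyx
        rcases hyu with e | e
        · exact Subgroup.mem_sup_left (centralizer_mem.2 (mul_inv_eq_iff_eq_mul.1 e))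
        · exfalso
          -- `g` fixes `u` hence `x`, hence centralises `S`
          have hgx : g * x * g⁻¹ ∈ cls S u :=
            mem_cls.2 ⟨(Subgroup.mem_normalizer_iff.1 hgN x).1 (mem_cls.1 hx).1,
              (mem_cls.1 hx).2.trans (isConj_iff.2 ⟨g, rfl⟩)⟩
          rw [hset] at hgx
          simp only [Finset.mem_insert, Finset.mem_singleton] at hgx
          rcases hgx with e' | e'
          · exact hxu (by
              have : g * x * g⁻¹ = g * u * g⁻¹ := by rw [e', hgu, mul_inv_cancel_right]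
              simpa using this)
          · refine hgS (h.self g fun s hs => ?_)
            obtain ⟨z, hz⟩ := bij.2 ⟨s, hs⟩
            rw [← show coord u x z = s from congrArg Subtype.val hz]
            have hcx : Commute g x := mul_inv_eq_iff_eq_mul.1 e'
            exact (((show Commute g u from hgu).pow_right _).mul_right (hcx.pow_right _)).eq
      rw [sup_eq_left.2 (h.le_centralizer hu)] at htriv
      have := Subgroup.card_le_of_le htriv
      omega
    intro y hy
    have hyu : y * u * y⁻¹ ∈ cls S u :=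
      mem_cls.2 ⟨(Subgroup.mem_normalizer_iff.1 hy u).1 hu, isConj_iff.2 ⟨y, rfl⟩⟩
    rw [hset, hxinv] at hyu
    simpa using hyu
  obtain ⟨y₀, hy₀N, hy₀⟩ : ∃ y ∈ N, y * u * y⁻¹ = u⁻¹ := by
    by_contra hc
    push Not at hc
    have hle : N ≤ Subgroup.centralizer ({u} : Set G) := fun y hy =>
      centralizer_mem.2 (mul_inv_eq_iff_eq_mul.1 ((hux y hy).resolve_right (hc y hy)))
    have := Subgroup.card_le_of_le hle
    omega
  -- choose `v` inverted by `g`
  have hbij₀ := h.coord_bij hu hu1 hv₀ hv₀u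
  obtain ⟨⟨k, e⟩, hke⟩ := hbij₀.2 ⟨g * v₀ * g⁻¹, (Subgroup.mem_normalizer_iff.1 hgN v₀).1 hv₀⟩
  have hke' : g * v₀ * g⁻¹ = coord u v₀ (k, e) := (congrArg Subtype.val hke).symm
  have hgu' : g * u * g⁻¹ = coord u v₀ (1, 0) := by rw [hgu, mul_inv_cancel_right, coord_one_zero]
  have he : e = 2 := by
    by_contra hne
    fin_cases e
    · refine hv₀u ?_
      have e1 : v₀ = g⁻¹ * u ^ k.val * g := by
        rw [show u ^ k.val = g * v₀ * g⁻¹ by rw [hke']; simp [coord, ZMod.val]]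
        group
      rw [e1, mul_assoc, (Commute.pow_right (show Commute g u from hgu) k.val).eq.symm, inv_mul_cancel_left]
      exact Subgroup.pow_mem _ (Subgroup.mem_zpowers u) _
    · refine hgS (h.sylow g hgN (h.self _ fun s hs => ?_))
      have l1 := h.conj_coord hu hv₀ hgu' hke'
      obtain ⟨y, hy⟩ := hbij₀.2 ⟨s, hs⟩
      rw [← show coord u v₀ y = s from congrArg Subtype.val hy]
      have e3 : g ^ 3 * coord u v₀ y * (g ^ 3)⁻¹ = coord u v₀ y := by
        have : g ^ 3 * coord u v₀ y * (g ^ 3)⁻¹ = g * (g * (g * coord u v₀ y * g⁻¹) * g⁻¹) * g⁻¹ := by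
          rw [pow_three']; group
        rw [this, l1, l1, l1]
        congr 1
        clear hy this l1 hke' hke hgu'
        revert k y
        decide
      calc g ^ 3 * coord u v₀ y = g ^ 3 * coord u v₀ y * (g ^ 3)⁻¹ * g ^ 3 := by group
        _ = coord u v₀ y * g ^ 3 := by rw [e3]
    · exact hne rfl
  subst he
  set v := coord u v₀ (k, 1) with hvdef
  have hv : v ∈ S := h.coord_mem hu hv₀ _
  have hgv : g * v * g⁻¹ = v⁻¹ := by
    rw [hvdef, h.conj_coord hu hv₀ hgu' hke', ← h.coord_neg hu hv₀]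
    congr 1
    clear hke hke' hvdef hv v
    revert k
    decide
  have hvu : v ∉ Subgroup.zpowers u := fun hm => hv₀u (by
    have e1 : v₀ = (u ^ k.val)⁻¹ * v := by simp [hvdef, coord, ZMod.val_one]
    rw [e1]
    exact Subgroup.mul_mem _ (Subgroup.inv_mem _ (Subgroup.pow_mem _ (Subgroup.mem_zpowers u) _)) hm)
  have hv1 : v ≠ 1 := fun e => hvu (e ▸ Subgroup.one_mem _)
  have bij := h.coord_bij hu hu1 hv hvu
  have inj : ∀ x y, coord u v x = coord u v y → x = y := fun x y e => bij.1 (Subtype.ext e)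
  have hgu2 : g * u * g⁻¹ = coord u v (1, 0) := by rw [hgu, mul_inv_cancel_right, coord_one_zero]
  have hgv2 : g * v * g⁻¹ = coord u v (0, 2) := by
    rw [hgv, show ((0, 2) : ZMod 3 × ZMod 3) = -(0, 1) by decide, h.coord_neg hu hv, coord_zero_one]
  -- conjugates of `v`
  have hvy : ∀ y ∈ N, y * v * y⁻¹ = v ∨ y * v * y⁻¹ = v⁻¹ := by
    intro y hy
    obtain ⟨⟨a, b⟩, hab⟩ := bij.2 ⟨y * v * y⁻¹, (Subgroup.mem_normalizer_iff.1 hy v).1 hv⟩
    have hab' : coord u v (a, b) = y * v * y⁻¹ := congrArg Subtype.val hab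
    have hd : (y * g * y⁻¹) * g⁻¹ ∈ S := by
      refine h.two_cosets hu hu1 hgu ?_ hgS ?_
      · have : Commute g (y⁻¹ * u * y) := by
          rcases hux y⁻¹ (N.inv_mem hy) with e | e <;> rw [inv_inv] at e <;> rw [e]
          · exact hgu
          · exact (show Commute g u from hgu).inv_right
        calc y * g * y⁻¹ * u = y * (g * (y⁻¹ * u * y)) * y⁻¹ := by group
          _ = y * (y⁻¹ * u * y * g) * y⁻¹ := by rw [this.eq]
          _ = u * (y * g * y⁻¹) := by group
      · intro hm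
        exact hgS ((Subgroup.mem_normalizer_iff.1 hy g).2 hm)
    have e1 : g * coord u v (a, b) * g⁻¹ = (coord u v (a, b))⁻¹ := by
      have hc : Commute ((y * g * y⁻¹ * g⁻¹)⁻¹) ((coord u v (a, b))⁻¹) :=
        h.comm _ (S.inv_mem hd) _ (S.inv_mem (h.coord_mem hu hv _))
      calc g * coord u v (a, b) * g⁻¹
          = (y * g * y⁻¹ * g⁻¹)⁻¹ * (y * (g * v * g⁻¹) * y⁻¹) * (y * g * y⁻¹ * g⁻¹) := by rw [hab']; group
        _ = (y * g * y⁻¹ * g⁻¹)⁻¹ * (coord u v (a, b))⁻¹ * (y * g * y⁻¹ * g⁻¹) := by rw [hgv, hab']; group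
        _ = _ := by rw [hc.eq, inv_mul_cancel_right]
    rw [h.conj_coord hu hv hgu2 hgv2, ← h.coord_neg hu hv] at e1
    have e2 := inj _ _ e1
    have hb0 : (a, b) ≠ 0 := fun e => by
      rw [e, coord_zero] at hab'
      exact hv1 (by simpa using hab'.symm)
    have hmain : (a, b) = ((0, 1) : ZMod 3 × ZMod 3) ∨ (a, b) = -(0, 1) := by
      clear hab hab' e1
      revert a b
      decide
    rw [← hab']
    rcases hmain with e | e <;> rw [e]
    · exact Or.inl (coord_zero_one u v)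
    · exact Or.inr (by rw [h.coord_neg hu hv, coord_zero_one])
  have hclv : cls S v ⊆ {v, v⁻¹} := by
    intro z hz
    obtain ⟨hzS, hzc⟩ := mem_cls.1 hz
    obtain ⟨y, rfl⟩ := isConj_iff.1 hzc
    rcases hvy y (h.fusion hv hv1 hzS rfl) with e | e <;> simp [e]
  have hcv : (cls S v).card = 2 ∧ Nat.card (Subgroup.centralizer ({v} : Set G)) = 18 := by
    have e := h.card_cls hv hv1
    rw [← hNdef, hN] at e
    have hle := Finset.card_le_card hclv
    rw [Finset.card_pair (h.ne_inv hv hv1)] at hle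
    rcases h.card_centralizer hv hv1 with e' | e' <;> rw [e'] at e <;> omega
  have hv_inv : IsConj v v⁻¹ := by
    refine ((mem_cls (S := S)).1 ?_).2
    rw [Finset.eq_of_subset_of_card_le hclv (by rw [hcv.1, Finset.card_pair (h.ne_inv hv hv1)])]
    simp
  -- the third class
  set w := coord u v (1, 1) with hwdef
  have hw : w ∈ S := h.coord_mem hu hv _
  have hw1 : w ≠ 1 := fun e => absurd (inj _ 0 (e.trans (coord_zero u v).symm)) (by decide)
  have act : ∀ y ∈ N, ∃ a b : ZMod 3, a ≠ 0 ∧ b ≠ 0 ∧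
      y * u * y⁻¹ = coord u v (a, 0) ∧ y * v * y⁻¹ = coord u v (0, b) := by
    intro y hy
    have hc : ∀ (z : G) (p : ZMod 3 × ZMod 3), coord u v p = z →
        y * z * y⁻¹ = z ∨ y * z * y⁻¹ = z⁻¹ → ∃ a : ZMod 3, a ≠ 0 ∧ y * z * y⁻¹ = coord u v (a • p) := by
      intro z p hp hor
      rcases hor with e | e
      · exact ⟨1, one_ne_zero, by rw [one_smul, hp, e]⟩
      · exact ⟨-1, by decide, by rw [neg_one_smul, h.coord_neg hu hv, hp, e]⟩
    obtain ⟨a, ha, hau⟩ := hc u (1, 0) (coord_one_zero u v) (hux y hy)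
    obtain ⟨b, hb, hbv⟩ := hc v (0, 1) (coord_zero_one u v) (hvy y hy)
    exact ⟨a, b, ha, hb, by simpa using hau, by simpa using hbv⟩
  have hCw : Nat.card (Subgroup.centralizer ({w} : Set G)) = 9 := by
    rw [← h.card, le_antisymm (fun y hy => ?_) (h.le_centralizer hw)]
    have hyN := h.mem_normalizer hw hw1 (centralizer_mem.1 hy)
    obtain ⟨a, b, ha, hb, hau, hbv⟩ := act y hyN
    have e1 := h.conj_coord hu hv hau hbv (1, 1)
    rw [← hwdef, centralizer_mem.1 hy, mul_inv_cancel_right, hwdef] at e1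
    have e2 := inj _ _ e1
    have hab : a = 1 ∧ b = 1 := by
      clear e1 hau hbv
      revert a b
      decide
    refine h.self y fun s hs => ?_
    obtain ⟨z, hz⟩ := bij.2 ⟨s, hs⟩
    rw [← show coord u v z = s from congrArg Subtype.val hz]
    rw [hab.1, coord_one_zero] at hau
    rw [hab.2, coord_zero_one] at hbv
    exact (((show Commute y u from mul_inv_eq_iff_eq_mul.1 hau).pow_right _).mul_right
      ((show Commute y v from mul_inv_eq_iff_eq_mul.1 hbv).pow_right _)).eq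
  have hcw : (cls S w).card = 4 := by
    have e := h.card_cls hw hw1
    rw [← hNdef, hN, hCw] at e
    omega
  have hsubw : cls S w ⊆ (Finset.univ.filter fun x => κ x = some 2).image (coord u v) := by
    intro z hz
    obtain ⟨hzS, hzc⟩ := mem_cls.1 hz
    obtain ⟨y, rfl⟩ := isConj_iff.1 hzc
    obtain ⟨a, b, ha, hb, hau, hbv⟩ := act y (h.fusion hw hw1 hzS rfl)
    refine Finset.mem_image.2 ⟨_, Finset.mem_filter.2 ⟨Finset.mem_univ _, ?_⟩, (h.conj_coord hu hv hau hbv (1, 1)).symm⟩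
    clear hau hbv
    revert a b
    decide
  have heqw : cls S w = (Finset.univ.filter fun x => κ x = some 2).image (coord u v) :=
    Finset.eq_of_subset_of_card_le hsubw (by
      rw [hcw, Finset.card_image_of_injective _ inj]
      decide)
  refine ⟨u, v, hu1, hvu, ⟨⟨hu, hv⟩, fun s hs => ?_, inj, fun i => h.coord_mem hu hv _, fun i x => ?_⟩, fun i => ?_⟩
  · obtain ⟨x, hx⟩ := bij.2 ⟨s, hs⟩
    exact ⟨x, congrArg Subtype.val hx⟩
  · have hxS := h.coord_mem hu hv x
    fin_cases i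
    · show IsConj (coord u v (1, 0)) (coord u v x) ↔ κ x = some 0
      rw [coord_one_zero]
      constructor
      · intro hc
        obtain ⟨y, hy⟩ := isConj_iff.1 hc
        rcases hux y (h.fusion hu hu1 hxS hy) with e | e <;> rw [e] at hy
        · rw [← inj (1, 0) x ((coord_one_zero u v).trans hy)]; decide
        · rw [← inj (-(1, 0)) x (((h.coord_neg hu hv _).trans (congrArg _ (coord_one_zero u v))).trans hy)]; decide
      · intro hk
        have : x = (1, 0) ∨ x = -(1, 0) := by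
          clear hxS
          revert x
          decide
        rcases this with rfl | rfl
        · rw [coord_one_zero]
        · rw [h.coord_neg hu hv, coord_one_zero]
          exact isConj_iff.2 ⟨y₀, hy₀⟩
    · show IsConj (coord u v (0, 1)) (coord u v x) ↔ κ x = some 1
      rw [coord_zero_one]
      constructor
      · intro hc
        obtain ⟨y, hy⟩ := isConj_iff.1 hc
        rcases hvy y (h.fusion hv hv1 hxS hy) with e | e <;> rw [e] at hy
        · rw [← inj (0, 1) x ((coord_zero_one u v).trans hy)]; decide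
        · rw [← inj (-(0, 1)) x (((h.coord_neg hu hv _).trans (congrArg _ (coord_zero_one u v))).trans hy)]; decide
      · intro hk
        have : x = (0, 1) ∨ x = -(0, 1) := by
          clear hxS
          revert x
          decide
        rcases this with rfl | rfl
        · rw [coord_zero_one]
        · rw [h.coord_neg hu hv, coord_zero_one]
          exact hv_inv
    · show IsConj w (coord u v x) ↔ κ x = some 2
      constructor
      · intro hc
        have := mem_cls.2 (show coord u v x ∈ S ∧ IsConj w (coord u v x) from ⟨hxS, hc⟩)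
        rw [heqw] at this
        obtain ⟨z, hz, hzx⟩ := Finset.mem_image.1 this
        rw [← inj z x hzx]
        exact (Finset.mem_filter.1 hz).2
      · intro hk
        have : coord u v x ∈ cls S w := by
          rw [heqw]
          exact Finset.mem_image.2 ⟨x, Finset.mem_filter.2 ⟨Finset.mem_univ _, hk⟩, rfl⟩
        exact (mem_cls.1 this).2
  · fin_cases i
    · show Nat.card (Subgroup.centralizer ({coord u v (1, 0)} : Set G)) = 18
      rw [coord_one_zero, hCu]
    · show Nat.card (Subgroup.centralizer ({coord u v (0, 1)} : Set G)) = 18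
      rw [coord_zero_one, hcv.2]
    · exact hCw

theorem four_le_degree {d a b c : ℤ} (hd : 2 ≤ d) (hu : 0 ≤ d + 2 * a) (hv : 0 ≤ d + 2 * b)
    (h3 : (3 : ℤ) ∣ d + 2 * a) (h3' : (3 : ℤ) ∣ d + 2 * b) (h3c : (3 : ℤ) ∣ d + 2 * c) (hc : 0 ≤ d + 2 * c)
    (hS : 0 ≤ d + 2 * a + 2 * b + 4 * c) (h9 : (9 : ℤ) ∣ d + 2 * a + 2 * b + 4 * c)
    (ha : a ≠ d) (hb : b ≠ d) (hc' : c ≠ d) (hab : a * a ≤ 17) (hbb : b * b ≤ 17) (hcc : c * c ≤ 8) :
    4 ≤ d := by
  have b1 : -4 ≤ a ∧ a ≤ 4 := ⟨by nlinarith, by nlinarith⟩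
  have b2 : -4 ≤ b ∧ b ≤ 4 := ⟨by nlinarith, by nlinarith⟩
  have b3 : -2 ≤ c ∧ c ≤ 2 := ⟨by nlinarith, by nlinarith⟩
  by_contra hlt
  interval_cases d <;> omega

theorem klein_false [IsSimpleGroup G] (hG : ¬ IsMulCommutative G) (h : Loc S)
    (hN : Nat.card (Subgroup.normalizer (S : Set G)) = 36)
    (hex : ∃ u ∈ S, u ≠ 1 ∧ Nat.card (Subgroup.centralizer ({u} : Set G)) = 18) : False := by
  classical
  haveI := Fintype.ofFinite G
  obtain ⟨u, v, hu1, hvu, hf, hC⟩ := exists_fusion h hN hex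
  obtain ⟨hu, hv⟩ := hf.mem
  set r : Fin 3 → G := fun i => coord u v (pt i) with hr
  have hr1 : ∀ i, r i ≠ 1 := fun i e => by
    have := hf.inj (pt i) 0 (e.trans (coord_zero u v).symm)
    revert this; fin_cases i <;> decide
  have hreal : ∀ i, IsConj (r i) (r i)⁻¹ := fun i => by
    rw [hr, ← h.coord_neg hu hv]
    exact (hf.clsIff i _).2 (by fin_cases i <;> decide)
  choose A hA m hm0 hm using fun i χ => h.exists_int (hf.repMem i) (hr1 i) (hreal i) χ
  have hcol : ∀ i, Col (r i) (A i) := fun i => ⟨hr1 i, hA i⟩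
  have hnc : ∀ i j, i ≠ j → ¬ IsConj (r i) (r j) := fun i j hij e => by
    have := (hf.clsIff i (pt j)).1 e
    revert this hij; fin_cases i <;> fin_cases j <;> decide
  set o : Cfsg.IrrCharacter G := trivIrr G with ho
  have hAo : ∀ i, A i o = 1 := fun i => by
    have := hA i o
    apply Int.cast_injective (α := ℂ)
    rw [← this, Int.cast_one]; rfl
  have hdo : (Cfsg.charDegree (o : G → ℂ) : ℤ) = 1 := by
    apply Int.cast_injective (α := ℂ)
    rw [Int.cast_natCast, ← ClassAlgebraVal.apply_one_eq_charDegree, Int.cast_one]; rfl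
  set d : Cfsg.IrrCharacter G → ℤ := fun χ => (Cfsg.charDegree (χ : G → ℂ) : ℤ) with hd
  set T := (Finset.univ : Finset (Cfsg.IrrCharacter G)).erase o with hT
  set f : Cfsg.IrrCharacter G → Fin 3 → ℤ := fun χ => ![A 0 χ, A 1 χ, A 2 χ] with hfdef
  have split : ∀ {M : Type} [AddCommGroup M] (F : Cfsg.IrrCharacter G → M), ∑ χ ∈ T, F χ = (∑ χ, F χ) - F o := by
    intro M _ F
    rw [hT, Finset.sum_erase_eq_sub (Finset.mem_univ o)]
  have gr : ∀ i j, ∑ χ, A i χ * A j χ = if i = j then (![18, 18, 9] i : ℤ) else 0 := fun i j => by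
    rw [gram (hcol i) (hcol j)]
    by_cases e : i = j
    · subst e; rw [if_pos (IsConj.refl _), if_pos rfl, hC i]; fin_cases i <;> rfl
    · rw [if_neg (hnc i j e), if_neg e]
  have hsq : ∀ i, ∀ χ ∈ T, A i χ * A i χ ≤ (![18, 18, 9] i : ℤ) - 1 := fun i χ hχ => by
    have h1 : A i χ * A i χ ≤ ∑ ψ ∈ T, A i ψ * A i ψ :=
      Finset.single_le_sum (f := fun ψ => A i ψ * A i ψ) (fun ψ _ => mul_self_nonneg _) hχ
    rw [split, gr, if_pos rfl, hAo, one_mul] at h1
    exact h1
  have hmod : ∀ χ : Cfsg.IrrCharacter G, ∃ n : ℕ, d χ + 2 * A 0 χ + 2 * A 1 χ + 4 * A 2 χ = 9 * (n : ℤ) := by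
    intro χ
    obtain ⟨n, hn⟩ := h.sum_coord hu hu1 hv hvu χ
    refine ⟨n, Int.cast_injective (α := ℂ) ?_⟩
    have hval : ∀ x : ZMod 3 × ZMod 3, conj ((χ : G → ℂ) (coord u v x)) =
        ((match κ x with | none => d χ | some i => A i χ : ℤ) : ℂ) := by
      intro x
      rcases hk : κ x with _ | i
      · have hx0 : x = 0 := by revert hk; revert x; decide
        subst hx0
        rw [coord_zero, ClassAlgebraVal.apply_one_eq_charDegree, map_natCast]
        simp [hd]
      · rw [← ClassAlgebraVal.irr_conj χ ((hf.clsIff i x).2 hk), hA i χ, map_intCast]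
    simp only [hval] at hn
    rw [← Int.cast_sum] at hn
    rw [Int.cast_mul, Int.cast_natCast, show ((9 : ℤ) : ℂ) = 9 by norm_num, ← hn]
    congr 1
    rw [Fintype.sum_prod_type]
    have key : ∀ F : ZMod 3 → ℤ, ∑ x, F x = F 0 + F 1 + F 2 := fun F => Fin.sum_univ_three F
    simp only [key]
    simp [κ, Prod.ext_iff, show (2 : ZMod 3) ≠ 0 by decide, show (1 : ZMod 3) ≠ 0 by decide]
    ring
  have hd4 : ∀ χ ∈ T, 4 ≤ d χ := by
    intro χ hχ
    have hne := Finset.ne_of_mem_erase hχ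
    obtain ⟨n, hn⟩ := hmod χ
    have s0 : A 0 χ * A 0 χ ≤ 17 := hsq 0 χ hχ
    have s1 : A 1 χ * A 1 χ ≤ 17 := hsq 1 χ hχ
    have s2 : A 2 χ * A 2 χ ≤ 8 := hsq 2 χ hχ
    exact four_le_degree (d := d χ) (a := A 0 χ) (b := A 1 χ) (c := A 2 χ)
      (by show (2 : ℤ) ≤ (Cfsg.charDegree (χ : G → ℂ) : ℤ); exact_mod_cast two_le_degree hG hne)
      (by rw [hd, hm]; have := hm0 0 χ; omega) (by rw [hd, hm]; have := hm0 1 χ; omega)
      ⟨_, hm 0 χ⟩ ⟨_, hm 1 χ⟩ ⟨_, hm 2 χ⟩ (by rw [hd, hm]; have := hm0 2 χ; omega)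
      (by rw [hn]; positivity) ⟨_, hn⟩
      (val_ne_degree hG hne (hr1 0) (hA 0 χ)) (val_ne_degree hG hne (hr1 1) (hA 1 χ))
      (val_ne_degree hG hne (hr1 2) (hA 2 χ)) (by omega) (by omega) (by omega)
  have hrow : ∀ χ ∈ T, f χ = 0 ∨ ∃ j, f χ = cand j ∨ f χ = -cand j := by
    intro χ hχ
    have s0 : A 0 χ * A 0 χ ≤ 17 := hsq 0 χ hχ
    have s1 : A 1 χ * A 1 χ ≤ 17 := hsq 1 χ hχ
    have s2 : A 2 χ * A 2 χ ≤ 8 := hsq 2 χ hχ
    have e0 := hm 0 χ
    have e1 := hm 1 χ
    have e2 := hm 2 χ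
    exact exists_cand _ _ _ (by omega) (by omega) (by omega) (by omega) (by omega)
  obtain ⟨L, hL, hsum⟩ := collect T f d cand hrow
  have hcnt : ∀ k, (![17, 17, 8, -1, -1, -1] : Fin 6 → ℤ) k = ∑ j, ((L j).length : ℤ) * prods (cand j) k := by
    intro k
    have e := hsum ℤ (fun v _ => prods v k) (fun x => by fin_cases k <;> simp [prods])
      (fun v x => by fin_cases k <;> simp [prods])
    simp only [List.map_const', List.sum_replicate, nsmul_eq_mul] at e
    rw [← e, split]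
    fin_cases k <;> simp [prods, hfdef, gr, hAo]
  have hlen : ∀ j, (L j).length ≤ 17 := by
    intro j
    by_contra hj
    have h0 : ∀ k : Fin 6, k.1 < 3 → ((L j).length : ℤ) * prods (cand j) k ≤ ![17, 17, 8, -1, -1, -1] k := by
      intro k hk
      rw [hcnt k]
      refine Finset.single_le_sum (f := fun j => ((L j).length : ℤ) * prods (cand j) k) (fun i _ => ?_) (Finset.mem_univ j)
      refine mul_nonneg (Int.natCast_nonneg _) ?_
      revert hk; revert k; revert i; decide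
    have a0 := h0 0 (by norm_num)
    have a1 := h0 1 (by norm_num)
    have hpos' : ∀ i, 1 ≤ prods (cand i) 0 ∨ 1 ≤ prods (cand i) 1 := by decide
    have hpos := hpos' j
    simp only [Matrix.cons_val_zero, Matrix.cons_val_one] at a0 a1
    rcases hpos with hp | hp <;> nlinarith
  refine arith L (counts_mem_dfs (m := 3) (b := 17) (fun j => prods (cand j)) _ L ?_ hlen hcnt) ?_ ?_ ?_
  · decide
  · intro j x hx
    obtain ⟨χ, hχ, hh⟩ := hL j x hx
    have h4 := hd4 χ hχ
    obtain ⟨n, hn⟩ := hmod χ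
    rcases hh with ⟨hv', rfl⟩ | ⟨hv', rfl⟩
    · refine ⟨le_abs.2 (Or.inl h4), ?_⟩
      rw [← hv']; simp [hfdef]; omega
    · refine ⟨le_abs.2 (Or.inr (by omega)), ?_⟩
      have e : cand j = -f χ := by rw [hv', neg_neg]
      rw [e]; simp [hfdef]; omega
  · intro k
    rw [← hsum ℤ (fun v x => x * v k) (fun x => by simp) (fun v x => by simp), split]
    have e := degree_orth (hcol k)
    fin_cases k <;> simp [hfdef, hd, hdo, hAo] at e ⊢ <;> linarith
  · intro k l hkl
    rw [← hsum ℚ (fun v x => ((v k : ℚ) * v k * v l) / (x : ℚ)) (fun x => by simp) (fun v x => by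
      simp only [Pi.neg_apply, Int.cast_neg, neg_mul, mul_neg, neg_neg, neg_div_neg_eq]), split]
    have e := triple_eq (hcol k) (hcol k) (hcol l)
    have hzero : Nat.card {x : G // IsConj (r l) (r k * (x * r k * x⁻¹))} = 0 := by
      have hk := h.card_count_coord hf (xa := pt k) k l (hr1 k)
        (by revert hkl; fin_cases k <;> fin_cases l <;> decide)
      rw [hr]
      rw [hk, show (Finset.univ.filter fun x => κ x = some k ∧ κ (pt k + x) = some l).card = 0 by
        revert hkl; fin_cases k <;> fin_cases l <;> decide, zero_mul]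
    rw [hzero, Nat.cast_zero, mul_zero, zero_div] at e
    have fk : ∀ χ i, f χ i = A i χ := fun χ i => by fin_cases i <;> rfl
    simp only [fk, hd, e, hAo, hdo]
    norm_num

end Cfsg.Agent.SelfCentNineKlein64
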