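import Mathlib
import Cfsg.Agent.Lib.SelfCentNineKlein64
import Cfsg.Agent.Lib.SelfCentNineD8_64
import Cfsg.Agent.Lib.SelfCentNineA6Core64
import Cfsg.Agent.Lib.CoprimeGen
import Cfsg.Agent.Lib.CharInducedBurnside
import Cfsg.Agent.Lib.PSLCard
import Cfsg.Agent.Lib.PSLSimple
import Cfsg.Agent.Lib.AltSixAut64
import Cfsg.Agent.S3331

/-!
Reduction of groups with a self-centralising Sylow subgroup of order nine to simple groups.
-/

set_option autoImplicit false

namespace Cfsg.Agent.SelfCentNineReduce64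

open Cfsg.Agent.SelfCentNineLoc64

universe w

variable {G : Type w} [Group G] [Finite G] {S : Subgroup G}

theorem _root_.Cfsg.Agent.SelfCentNineLoc64.Loc.not_isCyclic (h : Loc S) : ¬ IsCyclic S := by
  intro hc
  obtain ⟨g, hg⟩ := hc.exists_generator
  have h9 : orderOf g = 9 := by rw [orderOf_eq_card_of_forall_mem_zpowers hg, h.card]
  have : orderOf g ∣ 3 := orderOf_dvd_of_pow_eq_one (Subtype.ext (by simpa using h.exp _ g.2))
  rw [h9] at this
  norm_num at this

theorem _root_.Cfsg.Agent.SelfCentNineLoc64.Loc.eq_bot_of_normal (h : Loc S) (K : Subgroup G) [hK : K.Normal] (h3 : ¬ 3 ∣ Nat.card K) : K = ⊥ := by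
  set N := Subgroup.normalizer (S : Set G) with hN
  have hKS : ∀ x ∈ K, x ∈ S → x = 1 := fun x hx hxS => by
    by_contra hx1
    have := Subgroup.orderOf_dvd_natCard K hx
    rw [h.orderOf_eq hxS hx1] at this
    exact h3 this
  have hKN : ∀ x ∈ K, x ∈ N → x = 1 := fun x hx hxN => by
    refine hKS x hx (h.self x fun s hs => ?_)
    have h1 : x * s * x⁻¹ * s⁻¹ ∈ S := S.mul_mem ((Subgroup.mem_normalizer_iff.1 hxN s).1 hs) (S.inv_mem hs)
    have h2 : x * s * x⁻¹ * s⁻¹ ∈ K := by
      rw [show x * s * x⁻¹ * s⁻¹ = x * (s * x⁻¹ * s⁻¹) by group]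
      exact K.mul_mem hx (hK.conj_mem _ (K.inv_mem hx) s)
    exact mul_inv_eq_iff_eq_mul.1 (mul_inv_eq_one.1 (hKS _ h2 h1))
  haveI : IsMulCommutative S := ⟨⟨fun a b => Subtype.ext (h.comm a a.2 b b.2)⟩⟩
  refine (Subgroup.eq_bot_iff_forall _).2 fun x hx => ?_
  have hle : K ≤ ⊥ := CoprimeGen.le_of_centralizers (A := S) h.not_isCyclic
    (by rw [Subgroup.normalizer_eq_top]; exact le_top)
    (by rw [h.card, show 9 = 3 ^ 2 by norm_num]; exact Nat.Coprime.pow_left 2 ((Nat.Prime.coprime_iff_not_dvd Nat.prime_three).2 h3))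
    (fun a ha ha1 y hy => Subgroup.mem_bot.2 (hKN y hy.1 (h.cent a ha ha1 hy.2)))
  exact Subgroup.mem_bot.1 (hle hx)

theorem _root_.Cfsg.Agent.SelfCentNineLoc64.Loc.subgroupOf (h : Loc S) {M : Subgroup G} (hSM : S ≤ M) : Loc (S.subgroupOf M) := by
  have hn : ∀ x : M, x ∈ Subgroup.normalizer ((S.subgroupOf M : Subgroup M) : Set M) ↔
      (x : G) ∈ Subgroup.normalizer (S : Set G) := fun x => by
    simp only [Subgroup.mem_normalizer_iff, Subgroup.mem_subgroupOf]
    constructor
    · intro hx y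
      constructor
      · intro hy; exact (hx ⟨y, hSM hy⟩).1 hy
      · intro hy
        have hyM : y ∈ M := by
          have := M.mul_mem (M.mul_mem (M.inv_mem x.2) (hSM hy)) x.2
          simpa [mul_assoc] using this
        exact (hx ⟨y, hyM⟩).2 hy
    · intro hx y; exact hx y
  refine ⟨fun a ha b hb => Subtype.ext (h.comm _ ha _ hb), fun a ha => Subtype.ext (by simpa using h.exp _ ha),
    by rw [Nat.card_congr (Subgroup.subgroupOfEquivOfLe hSM).toEquiv, h.card],
    fun g hg => h.self (g : G) fun s hs => congrArg Subtype.val (hg ⟨s, hSM hs⟩ hs), fun s hs hs1 x hx => ?_,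
    fun x hx hx3 => h.sylow (x : G) ((hn x).1 hx) (by simpa [Subgroup.mem_subgroupOf] using hx3)⟩
  rw [hn]
  exact h.cent (s : G) hs (fun e => hs1 (Subtype.ext e)) (centralizer_mem.2 (congrArg Subtype.val (centralizer_mem.1 hx)))

theorem card_normalizer_subgroupOf {M : Subgroup G} (hSM : S ≤ M) :
    Nat.card (Subgroup.normalizer ((S.subgroupOf M : Subgroup M) : Set M)) =
      Nat.card (Subgroup.normalizer (S : Set G) ⊓ M : Subgroup G) := by
  rw [← Nat.card_congr (Subgroup.subgroupOfEquivOfLe (inf_le_right : Subgroup.normalizer (S : Set G) ⊓ M ≤ M)).toEquiv]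
  refine Nat.card_congr (Equiv.subtypeEquivRight fun x => ?_)
  simp only [Subgroup.mem_normalizer_iff, Subgroup.mem_subgroupOf, Subgroup.mem_inf, SetLike.coe_mem, and_true]
  constructor
  · intro hx y
    constructor
    · intro hy; exact (hx ⟨y, hSM hy⟩).1 hy
    · intro hy
      have hyM : y ∈ M := by
        have := M.mul_mem (M.mul_mem (M.inv_mem x.2) (hSM hy)) x.2
        simpa [mul_assoc] using this
      exact (hx ⟨y, hyM⟩).2 hy
  · intro hx y; exact hx y

theorem exists_minimal_normal (K : Subgroup G) [K.Normal] (hK : K ≠ ⊥) :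
    ∃ M : Subgroup G, M.Normal ∧ M ≤ K ∧ M ≠ ⊥ ∧ ∀ L : Subgroup G, L.Normal → L ≤ M → L = ⊥ ∨ L = M := by
  classical
  have hex : ∃ n, ∃ M : Subgroup G, M.Normal ∧ M ≤ K ∧ M ≠ ⊥ ∧ Nat.card M = n := ⟨_, K, ‹_›, le_rfl, hK, rfl⟩
  obtain ⟨M, hMn, hMK, hM1, hMc⟩ := Nat.find_spec hex
  refine ⟨M, hMn, hMK, hM1, fun L hLn hLM => ?_⟩
  by_cases hL : L = ⊥
  · exact Or.inl hL
  refine Or.inr (Subgroup.eq_of_le_of_card_ge hLM ?_)
  rw [hMc]
  exact Nat.find_min' hex ⟨L, hLn, hLM.trans hMK, hL, rfl⟩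

theorem _root_.Cfsg.Agent.SelfCentNineLoc64.Loc.conj_mem_of_mem (h : Loc S) {g s : G} (hs : s ∈ S) (hg : g * s * g⁻¹ ∈ Subgroup.normalizer (S : Set G)) :
    g * s * g⁻¹ ∈ S :=
  h.mem_of_three hg (by rw [conj_pow, h.exp s hs, mul_one, mul_inv_cancel])

theorem _root_.Cfsg.Agent.SelfCentNineLoc64.Loc.normal_of_le (h : Loc S) (K : Subgroup G) [hK : K.Normal] (hSK : S ≤ K)
    (hKN : K ≤ Subgroup.normalizer (S : Set G)) : S.Normal :=
  ⟨fun _ hs g => h.conj_mem_of_mem hs (hKN (hK.conj_mem _ (hSK hs) g))⟩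

theorem centralizer_self (h : Loc S) (M : Subgroup G) [hM : M.Normal] (hX : Nat.card (S ⊓ M : Subgroup G) = 3)
    {c : G} (hc : c ∈ M) (hcX : ∀ x ∈ S ⊓ M, c * x = x * c) : c ∈ S := by
  obtain ⟨x₀, hx₀, hx₀1⟩ : ∃ x ∈ S ⊓ M, x ≠ 1 := by
    by_contra hcon
    push Not at hcon
    rw [(Subgroup.eq_bot_iff_forall _).2 hcon, Subgroup.card_bot] at hX
    omega
  have hcN : c ∈ Subgroup.normalizer (S : Set G) := h.mem_normalizer hx₀.1 hx₀1 (hcX x₀ hx₀)
  refine h.sylow c hcN (h.self _ fun s hs => ?_)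
  set z := c * s * c⁻¹ * s⁻¹ with hz
  have hzmem : z ∈ S ⊓ M := ⟨S.mul_mem ((Subgroup.mem_normalizer_iff.1 hcN s).1 hs) (S.inv_mem hs), by
    rw [hz, show c * s * c⁻¹ * s⁻¹ = c * (s * c⁻¹ * s⁻¹) by group]
    exact M.mul_mem hc (hM.conj_mem _ (M.inv_mem hc) s)⟩
  have hzc : c * z * c⁻¹ = z := by rw [hcX z hzmem, mul_inv_cancel_right]
  have e1 : c * s * c⁻¹ = z * s := by rw [hz]; group
  have e3 : c ^ 3 * s * (c ^ 3)⁻¹ = z * z * z * s := by
    have step : ∀ w, c * (z * w) * c⁻¹ = z * (c * w * c⁻¹) := fun w => by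
      rw [← mul_assoc c, hcX z hzmem]; group
    calc c ^ 3 * s * (c ^ 3)⁻¹ = c * (c * (c * s * c⁻¹) * c⁻¹) * c⁻¹ := by rw [pow_three']; group
      _ = z * (z * (z * s)) := by rw [e1, step, step, e1, step, e1]
      _ = z * z * z * s := by group
  rw [h.cube hzmem.1, one_mul] at e3
  exact mul_inv_eq_iff_eq_mul.1 e3

theorem card_three_false (h : Loc S) (hnn : ¬ S.Normal)
    (h5 : ¬ 5 ∣ Nat.card (Subgroup.normalizer (S : Set G))) (h7 : ¬ 7 ∣ Nat.card (Subgroup.normalizer (S : Set G)))
    (hconj : ∀ q : G, orderOf q = 3 → ∃ g : G, g * q * g⁻¹ ∈ S)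
    (M : Subgroup G) [hM : M.Normal] (hM1 : M ≠ ⊥) (hmin : ∀ L : Subgroup G, L.Normal → L ≤ M → L = ⊥ ∨ L = M)
    (hX : Nat.card (S ⊓ M : Subgroup G) = 3) : False := by
  classical
  set X : Subgroup M := S.subgroupOf M with hXdef
  have hXc : Nat.card X = 3 := by
    rw [hXdef, ← Subgroup.inf_subgroupOf_right, Nat.card_congr (Subgroup.subgroupOfEquivOfLe inf_le_right).toEquiv, hX]
  have hCX : Subgroup.centralizer (X : Set M) = X := by
    refine le_antisymm (fun c hc => ?_) fun c hc => Subgroup.mem_centralizer_iff.2 fun x hx => Subtype.ext (h.comm _ hx _ hc)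
    refine centralizer_self h M hX c.2 fun x hx => ?_
    exact (congrArg Subtype.val (Subgroup.mem_centralizer_iff.1 hc ⟨x, hx.2⟩ hx.1)).symm
  have hkey : ∀ p : ℕ, p.Prime → (p = 5 ∧ Nat.card M = 60) ∨ (p = 7 ∧ Nat.card M = 168) → IsSimpleGroup M → False := by
    intro p hp hcase hs
    haveI := Fact.mk hp
    haveI := hs
    have hn : Nat.card (Sylow p M) ≤ 8 := by
      have h1 := card_sylow_modEq_one p M
      obtain ⟨P⟩ : Nonempty (Sylow p M) := inferInstance
      have h2 := P.card_dvd_index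
      have hPc : Nat.card (P : Subgroup M) = p := by
        rw [P.card_eq_multiplicity]
        rcases hcase with ⟨rfl, e⟩ | ⟨rfl, e⟩ <;> rw [e]
        · rw [show (60 : ℕ) = 5 ^ 1 * 12 by norm_num, Nat.factorization_mul (by norm_num) (by norm_num), Finsupp.add_apply,
            Nat.Prime.factorization_pow (by norm_num), Nat.factorization_eq_zero_of_not_dvd (n := 12) (by norm_num)]
          simp
        · rw [show (168 : ℕ) = 7 ^ 1 * 24 by norm_num, Nat.factorization_mul (by norm_num) (by norm_num), Finsupp.add_apply,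
            Nat.Prime.factorization_pow (by norm_num), Nat.factorization_eq_zero_of_not_dvd (n := 24) (by norm_num)]
          simp
      have h3 := (P : Subgroup M).card_mul_index
      have hle := Nat.le_of_dvd (Nat.pos_of_ne_zero Subgroup.index_ne_zero_of_finite) h2
      unfold Nat.ModEq at h1
      rcases hcase with ⟨rfl, e⟩ | ⟨rfl, e⟩ <;> rw [hPc, e] at h3
      · have hi : (P : Subgroup M).index = 12 := by omega
        rw [hi] at h2 hle
        interval_cases hh : Nat.card (Sylow 5 M) <;> omega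
      · have hi : (P : Subgroup M).index = 24 := by omega
        rw [hi] at h2 hle
        interval_cases hh : Nat.card (Sylow 7 M) <;> omega
    letI act : MulAction S (Sylow p M) := MulAction.compHom (Sylow p M) ((MulAut.conjNormal (H := M)).comp S.subtype)
    obtain ⟨P, hP7⟩ : ∃ P : Sylow p M, p = 7 → MulAction.stabilizer S P = ⊤ := by
      obtain ⟨P₀⟩ : Nonempty (Sylow p M) := inferInstance
      by_cases hp7 : p = 7
      · subst hp7
        have hp3 : IsPGroup 3 S := IsPGroup.of_card (n := 2) (by rw [h.card]; norm_num)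
        haveI : Fact (Nat.Prime 3) := ⟨Nat.prime_three⟩
        have hfx := hp3.card_modEq_card_fixedPoints (Sylow 7 M)
        have h8 : Nat.card (Sylow 7 M) % 3 ≠ 0 := by
          have h1 := card_sylow_modEq_one 7 M
          have := Nat.card_pos (α := Sylow 7 M)
          unfold Nat.ModEq at h1
          omega
        have hne : Nat.card (MulAction.fixedPoints S (Sylow 7 M)) ≠ 0 := fun e => by
          rw [e] at hfx
          unfold Nat.ModEq at hfx
          omega
        obtain ⟨⟨Q, hQ⟩⟩ := (Nat.card_ne_zero.1 hne).1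
        exact ⟨Q, fun _ => eq_top_iff.2 fun s _ => hQ s⟩
      · exact ⟨P₀, fun e => absurd e hp7⟩
    set T := MulAction.stabilizer S P with hT
    have hTS : Nat.card T ∣ 9 := h.card ▸ Subgroup.card_subgroup_dvd_card T
    have horb := SelfCentNineD8_64.orbit_mul_stab (α := S) P
    have hTc : Nat.card T ≠ 1 := fun e => by
      rw [← hT, e, mul_one, h.card] at horb
      have := Finite.card_subtype_le (fun Q : Sylow p M => Q ∈ MulAction.orbit S P)
      rw [show Nat.card {Q : Sylow p M // Q ∈ MulAction.orbit S P} = 9 from horb] at this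
      omega
    have hPp : Nat.card (P : Subgroup M) = p := by
      rw [P.card_eq_multiplicity]
      rcases hcase with ⟨rfl, e⟩ | ⟨rfl, e⟩ <;> rw [e]
      · rw [show (60 : ℕ) = 5 ^ 1 * 12 by norm_num, Nat.factorization_mul (by norm_num) (by norm_num), Finsupp.add_apply,
          Nat.Prime.factorization_pow (by norm_num), Nat.factorization_eq_zero_of_not_dvd (n := 12) (by norm_num)]
        simp
      · rw [show (168 : ℕ) = 7 ^ 1 * 24 by norm_num, Nat.factorization_mul (by norm_num) (by norm_num), Finsupp.add_apply,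
          Nat.Prime.factorization_pow (by norm_num), Nat.factorization_eq_zero_of_not_dvd (n := 24) (by norm_num)]
        simp
    -- `T` acts on `P`
    have hmem : ∀ (t : T) (q : (P : Subgroup M)), MulAut.conjNormal ((t : S) : G) (q : M) ∈ (P : Subgroup M) := by
      intro t q
      have e : (MulAut.conjNormal (H := M) ((t : S) : G)) • P = P := t.2
      have := congrArg (fun R : Sylow p M => MulAut.conjNormal ((t : S) : G) (q : M) ∈ (R : Subgroup M)) e
      exact this.mp (Subgroup.smul_mem_pointwise_smul (q : M) _ (P : Subgroup M) q.2)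
    letI actP : MulAction T (P : Subgroup M) :=
      { smul := fun t q => ⟨MulAut.conjNormal ((t : S) : G) (q : M), hmem t q⟩
        one_smul := fun q => Subtype.ext (by show MulAut.conjNormal ((1 : G)) (q : M) = q; rw [map_one]; rfl)
        mul_smul := fun a b q => Subtype.ext (by
          show MulAut.conjNormal ((a : S) * (b : S) : G) (q : M) = MulAut.conjNormal ((a : S) : G) (MulAut.conjNormal ((b : S) : G) (q : M))
          rw [map_mul]; rfl) }
    have hTp : IsPGroup 3 T := (IsPGroup.of_card (p := 3) (n := 2) (G := S) (by rw [h.card]; norm_num)).to_subgroup T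
    have hfix : ∃ (t : T) (q : (P : Subgroup M)), t ≠ 1 ∧ q ≠ 1 ∧ t • q = q := by
      rcases (Nat.dvd_prime_pow Nat.prime_three).1 (show Nat.card T ∣ 3 ^ 2 by simpa using hTS) with ⟨i, hi, hTi⟩
      have hnt : Nontrivial T := Finite.one_lt_card_iff_nontrivial.1 (by have := Nat.card_pos (α := T); omega)
      rcases hcase with ⟨rfl, -⟩ | ⟨rfl, e⟩
      · have hmod := hTp.card_modEq_card_fixedPoints (P : Subgroup M)
        rw [hPp] at hmod
        obtain ⟨t, ht⟩ := exists_ne (1 : T)
        by_contra hcon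
        push Not at hcon
        have : Nat.card (MulAction.fixedPoints T (P : Subgroup M)) = 1 := by
          rw [Nat.card_eq_one_iff_unique]
          refine ⟨⟨fun a b => Subtype.ext ?_⟩, ⟨⟨1, fun s => Subtype.ext (map_one _)⟩⟩⟩
          have one_of : ∀ a : MulAction.fixedPoints T (P : Subgroup M), (a : (P : Subgroup M)) = 1 := fun a => by
            by_contra ha
            exact hcon t a.1 ht ha (a.2 t)
          rw [one_of a, one_of b]
        rw [this] at hmod
        norm_num [Nat.ModEq] at hmod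
      · have hT9 : Nat.card T = 9 := by
          have e : T = ⊤ := hP7 rfl
          rw [e, Subgroup.card_top, h.card]
        obtain ⟨q, hq⟩ : ∃ q : (P : Subgroup M), q ≠ 1 := by
          haveI : Nontrivial (P : Subgroup M) := Finite.one_lt_card_iff_nontrivial.1 (by rw [hPp]; norm_num)
          exact exists_ne 1
        have ho := SelfCentNineD8_64.orbit_mul_stab (α := T) q
        rw [hT9] at ho
        have hle : Nat.card (MulAction.orbit T q) ≤ 7 := (Finite.card_subtype_le _).trans hPp.le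
        have hst : MulAction.stabilizer T q ≠ ⊥ := fun e => by
          rw [e, Subgroup.card_bot, mul_one] at ho
          omega
        obtain ⟨t, ht, ht1⟩ := (Subgroup.bot_or_exists_ne_one _).resolve_left hst
        exact ⟨t, q, ht1, hq, ht⟩
    obtain ⟨t, q, ht, hq, htq⟩ := hfix
    have hs1 : ((t : S) : G) ≠ 1 := fun e => ht (Subtype.ext (Subtype.ext e))
    have hcomm : ((q : M) : G) * ((t : S) : G) = ((t : S) : G) * ((q : M) : G) := by
      have := congrArg (fun r : (P : Subgroup M) => ((r : M) : G)) htq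
      change ((MulAut.conjNormal ((t : S) : G) (q : M) : M) : G) = _ at this
      rw [MulAut.conjNormal_apply] at this
      exact (mul_inv_eq_iff_eq_mul.1 this).symm
    have hqN := h.cent _ (t : S).2 hs1 (centralizer_mem.2 hcomm)
    have hqo : orderOf ((q : M) : G) = p := by
      rw [Subgroup.orderOf_coe, Subgroup.orderOf_coe]
      have := orderOf_dvd_natCard q
      rw [hPp] at this
      exact ((Nat.dvd_prime hp).1 this).resolve_left (fun e => hq (orderOf_eq_one_iff.1 e))
    have hdvd := Subgroup.orderOf_dvd_natCard _ hqN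
    rw [hqo] at hdvd
    rcases hcase with ⟨rfl, -⟩ | ⟨rfl, -⟩
    · exact h5 hdvd
    · exact h7 hdvd
  have hsolv : Group.IsSolvable M → False := by
    intro hs
    haveI := hs
    have hC : ∀ a b : M, a * b = b * a := by
      have hne : commutator M ≠ ⊤ := fun e => by
        haveI : Nontrivial M := Subgroup.nontrivial_iff_ne_bot M |>.2 hM1
        exact (ne_of_lt (Group.IsSolvable.commutator_lt_top_of_nontrivial M)) e
      rcases hmin ((commutator M).map M.subtype) inferInstance (Subgroup.map_subtype_le _) with e | e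
      · intro a b
        have hm := Subgroup.commutator_mem_commutator (Subgroup.mem_top a) (Subgroup.mem_top b)
        rw [← commutator_def, (Subgroup.map_eq_bot_iff_of_injective _ Subtype.coe_injective).1 e, Subgroup.mem_bot,
          commutatorElement_eq_one_iff_mul_comm] at hm
        exact hm
      · exact absurd (Subgroup.map_injective Subtype.coe_injective (e.trans (by rw [← MonoidHom.range_eq_map, M.range_subtype]))) hne
    have hMX : M ≤ S := fun c hc => centralizer_self h M hX hc fun x hx => congrArg Subtype.val (hC ⟨c, hc⟩ ⟨x, hx.2⟩)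
    haveI : (Subgroup.centralizer (M : Set G)).Normal := inferInstance
    obtain ⟨x₀, hx₀, hx₀1⟩ := (Subgroup.bot_or_exists_ne_one _).resolve_left hM1
    exact hnn (h.normal_of_le (Subgroup.centralizer (M : Set G))
      (fun s hs => Subgroup.mem_centralizer_iff.2 fun m hm => h.comm m (hMX hm) s hs)
      (fun c hc => h.mem_normalizer (hMX hx₀) hx₀1 (Subgroup.mem_centralizer_iff.1 hc x₀ hx₀).symm))
  rcases Cfsg.Agent.S3331.result X hXc hCX with ⟨K, hK, hnil, -, hq⟩ | ⟨K, hK, hKc, hK2, ⟨e⟩⟩ | he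
  · refine hsolv ?_
    haveI := hK
    haveI := hnil
    haveI : Group.IsSolvable K := inferInstance
    haveI : Group.IsSolvable (M ⧸ K) := by
      rcases hq with hq | ⟨⟨e⟩⟩
      · exact CharInduced.solvable_of_card_two_primes 2 3 0 1 Nat.prime_two Nat.prime_three (by rw [hq]; norm_num)
      · exact CharInduced.solvable_of_card_two_primes 2 3 1 1 Nat.prime_two Nat.prime_three (by
          rw [Nat.card_congr e.toEquiv, Nat.card_perm, Nat.card_fin]; rfl)
    exact (Group.isSolvable_iff_subgroup_quotient K).2 ⟨inferInstance, inferInstance⟩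
  · haveI := hK
    have hA5 : IsSimpleGroup (M ⧸ K) := by
      haveI : IsSimpleGroup (alternatingGroup (Fin 5)) := alternatingGroup.isSimpleGroup_five
      exact e.isSimpleGroup
    have hnc : ¬ IsMulCommutative (M ⧸ K) := fun hc => by
      haveI := hA5
      open scoped IsMulCommutative in
      have hp := IsSimpleGroup.prime_card (α := M ⧸ K)
      rw [Nat.card_congr e.toEquiv, nat_card_alternatingGroup, Nat.card_fin] at hp
      norm_num [Nat.factorial] at hp
    have hKle : ∀ g : G, K.map (MulAut.conjNormal (H := M) g).toMonoidHom ≤ K := by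
      intro g
      haveI : (K.map (MulAut.conjNormal (H := M) g).toMonoidHom).Normal :=
        hK.map _ (MulAut.conjNormal (H := M) g).surjective
      refine ((Subgroup.map_eq_bot_iff (f := QuotientGroup.mk' K) _).1 ?_).trans (QuotientGroup.ker_mk' K).le
      haveI : ((K.map (MulAut.conjNormal (H := M) g).toMonoidHom).map (QuotientGroup.mk' K)).Normal :=
        Subgroup.Normal.map inferInstance _ (QuotientGroup.mk'_surjective K)
      haveI := hA5
      refine (Subgroup.Normal.eq_bot_or_eq_top (inferInstance :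
        ((K.map (MulAut.conjNormal (H := M) g).toMonoidHom).map (QuotientGroup.mk' K)).Normal)).resolve_right fun ht => hnc ⟨⟨fun a b => ?_⟩⟩
      obtain ⟨a', ha', rfl⟩ := (ht ▸ Subgroup.mem_top a : a ∈ (K.map (MulAut.conjNormal (H := M) g).toMonoidHom).map (QuotientGroup.mk' K))
      obtain ⟨b', hb', rfl⟩ := (ht ▸ Subgroup.mem_top b : b ∈ (K.map (MulAut.conjNormal (H := M) g).toMonoidHom).map (QuotientGroup.mk' K))
      obtain ⟨a₀, ha₀, rfl⟩ := ha'
      obtain ⟨b₀, hb₀, rfl⟩ := hb'
      rw [← map_mul, ← map_mul, ← map_mul, ← map_mul]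
      exact congrArg _ (congrArg _ (congrArg Subtype.val (hKc.is_comm.comm (⟨a₀, ha₀⟩ : K) ⟨b₀, hb₀⟩)))
    haveI : (K.map M.subtype).Normal := ⟨by
      rintro _ ⟨k, hk, rfl⟩ g
      exact ⟨MulAut.conjNormal g k, hKle g ⟨k, hk, rfl⟩, MulAut.conjNormal_apply g k⟩⟩
    have hK0 : K.map M.subtype = ⊥ := h.eq_bot_of_normal _ fun hd => by
      rw [Subgroup.card_map_of_injective Subtype.coe_injective] at hd
      haveI : Fact (Nat.Prime 3) := ⟨Nat.prime_three⟩
      obtain ⟨x, hx⟩ := exists_prime_orderOf_dvd_card' (G := K) 3 hd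
      have : orderOf x ∣ 2 := orderOf_dvd_of_pow_eq_one (Subtype.ext (by simpa using hK2 _ x.2))
      rw [hx] at this
      norm_num at this
    have hKb : K = ⊥ := (Subgroup.map_eq_bot_iff_of_injective _ Subtype.coe_injective).1 hK0
    have hcard : Nat.card M = 60 := by
      have h1 := Subgroup.card_eq_card_quotient_mul_card_subgroup K
      rw [Nat.card_congr e.toEquiv, nat_card_alternatingGroup, Nat.card_fin, hKb, Subgroup.card_bot] at h1
      rw [h1]; rfl
    subst hKb
    haveI := hA5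
    exact hkey 5 (by norm_num) (Or.inl ⟨rfl, hcard⟩) (QuotientGroup.quotientBot (G := M)).symm.isSimpleGroup
  · obtain ⟨e⟩ := he
    haveI : Fact (Nat.Prime 7) := ⟨by norm_num⟩
    have hcard : Nat.card M = 168 := by
      rw [Nat.card_congr e.toEquiv, PSLCard.card_PSL2, Nat.card_zmod]; rfl
    haveI : IsSimpleGroup (Matrix.ProjectiveSpecialLinearGroup (Fin 2) (ZMod 7)) :=
      PSLSimple.isSimpleGroup_PSL_fin' le_rfl (fun _ => by rw [Nat.card_zmod]; norm_num)
    exact hkey 7 (by norm_num) (Or.inr ⟨rfl, hcard⟩) e.isSimpleGroup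


theorem conj_into (P : Sylow 3 G) (hP : S = (P : Subgroup G)) {x : G} (hx : orderOf x = 3) :
    ∃ g : G, g * x * g⁻¹ ∈ S := by
  haveI : Fact (Nat.Prime 3) := ⟨Nat.prime_three⟩
  have hp : IsPGroup 3 (Subgroup.zpowers x) := IsPGroup.of_card (n := 1) (by rw [Nat.card_zpowers, hx, pow_one])
  obtain ⟨Q, hQ⟩ := hp.exists_le_sylow
  obtain ⟨g, hg⟩ := MulAction.exists_smul_eq G Q P
  refine ⟨g, ?_⟩
  rw [hP, ← hg]
  exact Subgroup.smul_mem_pointwise_smul x (MulAut.conj g) (Q : Subgroup G) (hQ (Subgroup.mem_zpowers x))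

theorem inf_card (h : Loc S) (P : Sylow 3 G) (hP : S = (P : Subgroup G)) (K : Subgroup G) [hK : K.Normal]
    (hK1 : K ≠ ⊥) : Nat.card (S ⊓ K : Subgroup G) = 3 ∨ S ≤ K := by
  haveI : Fact (Nat.Prime 3) := ⟨Nat.prime_three⟩
  have h3 : 3 ∣ Nat.card K := by
    by_contra hc
    exact hK1 (h.eq_bot_of_normal K hc)
  obtain ⟨x, hx⟩ := exists_prime_orderOf_dvd_card' (G := K) 3 h3
  obtain ⟨g, hg⟩ := conj_into P hP (x := (x : G)) (by rw [Subgroup.orderOf_coe, hx])
  have hne : g * (x : G) * g⁻¹ ≠ 1 := fun e => by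
    rw [conj_eq_one_iff, OneMemClass.coe_eq_one] at e
    rw [e, orderOf_one] at hx
    omega
  have hd : Nat.card (S ⊓ K : Subgroup G) ∣ 9 := h.card ▸ Subgroup.card_dvd_of_le inf_le_left
  obtain ⟨i, hi, he⟩ := (Nat.dvd_prime_pow Nat.prime_three).1 (show _ ∣ 3 ^ 2 from hd)
  interval_cases i
  · exfalso
    rw [pow_zero, Subgroup.card_eq_one] at he
    exact hne (Subgroup.mem_bot.1 (he ▸ ⟨hg, hK.conj_mem _ x.2 g⟩))
  · exact Or.inl (by rw [he, pow_one])
  · refine Or.inr ?_
    rw [← Subgroup.eq_of_le_of_card_ge (inf_le_left : S ⊓ K ≤ S) (by rw [he, h.card]; norm_num)]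
    exact inf_le_right

/-- A minimal normal subgroup which is simple and contains the Sylow subgroup. -/
theorem exists_simple (h : Loc S) (P : Sylow 3 G) (hP : S = (P : Subgroup G)) (hnn : ¬ S.Normal)
    (h5 : ¬ 5 ∣ Nat.card (Subgroup.normalizer (S : Set G))) (h7 : ¬ 7 ∣ Nat.card (Subgroup.normalizer (S : Set G))) :
    ∃ M : Subgroup G, M.Normal ∧ S ≤ M ∧ IsSimpleGroup M ∧ ¬ IsMulCommutative M := by
  classical
  haveI : Fact (Nat.Prime 3) := ⟨Nat.prime_three⟩
  have htop : (⊤ : Subgroup G) ≠ ⊥ := fun e => by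
    have hb : S = ⊥ := le_bot_iff.1 (e ▸ le_top)
    have h9 := h.card
    rw [hb, Subgroup.card_bot] at h9
    omega
  obtain ⟨M, hMn, -, hM1, hmin⟩ := exists_minimal_normal (G := G) ⊤ htop
  haveI := hMn
  have hSM : S ≤ M := (inf_card h P hP M hM1).resolve_left fun h3 =>
    card_three_false h hnn h5 h7 (fun q hq => conj_into P hP hq) M hM1 hmin h3
  have hM' := h.subgroupOf hSM
  have hnnM : ¬ (S.subgroupOf M).Normal := fun hn => hnn (h.normal_of_le M hSM fun m hm => by
    have hm' : (⟨m, hm⟩ : M) ∈ Subgroup.normalizer ((S.subgroupOf M : Subgroup M) : Set M) := by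
      rw [Subgroup.normalizer_eq_top_iff.2 hn]; trivial
    rw [Subgroup.mem_normalizer_iff] at hm' ⊢
    intro y
    constructor
    · intro hy; exact (hm' ⟨y, hSM hy⟩).1 hy
    · intro hy
      have hyM : y ∈ M := by
        have := M.mul_mem (M.mul_mem (M.inv_mem hm) (hSM hy)) hm
        simpa [mul_assoc] using this
      exact (hm' ⟨y, hyM⟩).2 hy)
  have hdvd : Nat.card (Subgroup.normalizer ((S.subgroupOf M : Subgroup M) : Set M)) ∣
      Nat.card (Subgroup.normalizer (S : Set G)) := by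
    rw [card_normalizer_subgroupOf hSM]
    exact Subgroup.card_dvd_of_le inf_le_left
  let PM : Sylow 3 M := P.subtype (hP ▸ hSM)
  have hPM : S.subgroupOf M = (PM : Subgroup M) := by rw [Sylow.coe_subtype, hP]
  refine ⟨M, hMn, hSM, ?_, fun hc => hnnM ?_⟩
  · haveI : Nontrivial M := Subgroup.nontrivial_iff_ne_bot M |>.2 hM1
    refine ⟨fun K hK => ?_⟩
    by_cases hK1 : K = ⊥
    · exact Or.inl hK1
    haveI := hK
    refine Or.inr ?_
    obtain ⟨K₀, hK₀n, hK₀K, hK₀1, hK₀min⟩ := exists_minimal_normal K hK1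
    haveI := hK₀n
    have hSK : S.subgroupOf M ≤ K := le_trans ((inf_card hM' PM hPM K₀ hK₀1).resolve_left fun h3 =>
      card_three_false hM' hnnM (fun e => h5 (e.trans hdvd)) (fun e => h7 (e.trans hdvd))
        (fun q hq => conj_into PM hPM hq) K₀ hK₀1 hK₀min h3) hK₀K
    have hcl : Subgroup.normalClosure (S : Set G) ≤ K.map M.subtype := by
      rw [Subgroup.normalClosure, Subgroup.closure_le]
      intro y hy
      obtain ⟨s, hs, hsy⟩ := Group.mem_conjugatesOfSet_iff.1 hy
      obtain ⟨g, rfl⟩ := isConj_iff.1 hsy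
      -- the conjugate of `S` is conjugate inside `M`
      have hle : ((g • P : Sylow 3 G) : Subgroup G) ≤ M := fun z hz => by
        rw [Sylow.coe_subgroup_smul, Subgroup.mem_pointwise_smul_iff_inv_smul_mem, ← hP] at hz
        have := hMn.conj_mem _ (hSM hz) g
        simpa [MulAut.conj, mul_assoc] using this
      obtain ⟨m, hm⟩ := MulAction.exists_smul_eq M PM ((g • P).subtype hle)
      have hmem : (⟨g * s * g⁻¹, hMn.conj_mem _ (hSM hs) g⟩ : M) ∈ ((g • P).subtype hle : Subgroup M) := by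
        rw [Sylow.coe_subtype, Subgroup.mem_subgroupOf, Sylow.coe_subgroup_smul, ← hP]
        exact Subgroup.smul_mem_pointwise_smul s (MulAut.conj g) S hs
      rw [← hm, Sylow.coe_subgroup_smul, Subgroup.mem_pointwise_smul_iff_inv_smul_mem, ← hPM] at hmem
      refine ⟨⟨g * s * g⁻¹, hMn.conj_mem _ (hSM hs) g⟩, ?_, rfl⟩
      have := hK.conj_mem _ (hSK hmem) m
      simpa [MulAut.conj, mul_assoc] using this
    have hnorm : Subgroup.normalClosure (S : Set G) = M := by
      refine (hmin _ Subgroup.normalClosure_normal (Subgroup.normalClosure_le_normal hSM)).resolve_left fun hb => ?_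
      have : S ≤ ⊥ := hb ▸ Subgroup.subset_normalClosure
      have h9 := h.card
      rw [le_bot_iff.1 this, Subgroup.card_bot] at h9
      omega
    rw [hnorm] at hcl
    refine eq_top_iff.2 fun x _ => ?_
    obtain ⟨k, hk, hkx⟩ := hcl x.2
    rw [← Subtype.coe_injective hkx]
    exact hk
  · exact ⟨fun a ha g => by rw [hc.is_comm.comm g a, mul_inv_cancel_right]; exact ha⟩

/-- An element inverting or fixing. -/
theorem fixed_or_inverts (h : Loc S) {t : G} (ht : t ∈ Subgroup.normalizer (S : Set G)) (ht2 : t * t ∈ S) :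
    (∃ s ∈ S, s ≠ 1 ∧ t * s = s * t) ∨ ∀ s ∈ S, t * s * t⁻¹ = s⁻¹ := by
  refine or_iff_not_imp_left.2 fun hno s hs => ?_
  push Not at hno
  have hts : t * s * t⁻¹ ∈ S := (Subgroup.mem_normalizer_iff.1 ht s).1 hs
  have hy : t * (t * s * t⁻¹ * s) * t⁻¹ = t * s * t⁻¹ * s := by
    have e : t * t * s * (t * t)⁻¹ = s := by rw [h.comm _ ht2 _ hs, mul_inv_cancel_right]
    calc t * (t * s * t⁻¹ * s) * t⁻¹ = (t * t * s * (t * t)⁻¹) * (t * s * t⁻¹) := by group
      _ = t * s * t⁻¹ * s := by rw [e, h.comm _ hs _ hts]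
  by_contra hne
  refine hno _ (S.mul_mem hts hs) (fun e => hne (eq_inv_of_mul_eq_one_left e)) ?_
  exact mul_inv_eq_iff_eq_mul.1 hy

theorem inverts_unique (h : Loc S) {t t' : G} (h1 : ∀ s ∈ S, t * s * t⁻¹ = s⁻¹)
    (h2 : ∀ s ∈ S, t' * s * t'⁻¹ = s⁻¹) : t⁻¹ * t' ∈ S :=
  h.self _ fun s hs => by
    refine mul_inv_eq_iff_eq_mul.1 ?_
    calc t⁻¹ * t' * s * (t⁻¹ * t')⁻¹ = t⁻¹ * (t' * s * t'⁻¹) * t := by group
      _ = t⁻¹ * (t * s * t⁻¹) * t := by rw [h2 s hs, h1 s hs]
      _ = s := by group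

theorem card18_of_commute (h : Loc S) {s t : G} (hs : s ∈ S) (hs1 : s ≠ 1) (ht : t ∉ S) (hc : t * s = s * t) :
    Nat.card (Subgroup.centralizer ({s} : Set G)) = 18 := by
  rcases h.card_centralizer hs hs1 with e | e
  · exfalso
    have := Subgroup.eq_of_le_of_card_ge (h.le_centralizer hs) (by rw [e, h.card])
    exact ht (this ▸ centralizer_mem.2 hc)
  · exact e

/-- The classes of `S` are small when centralisers are small. -/
theorem two_classes (h : Loc S) (hN : Nat.card (Subgroup.normalizer (S : Set G)) < 72)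
    (hC : ∀ s ∈ S, s ≠ 1 → Nat.card (Subgroup.centralizer ({s} : Set G)) = 9) :
    ∃ a b : G, orderOf a = 3 ∧ orderOf b = 3 ∧ ∀ g : G, g * a * g⁻¹ ≠ b := by
  classical
  haveI := Fintype.ofFinite G
  obtain ⟨u, hu, hu1⟩ := (Subgroup.bot_or_exists_ne_one S).resolve_left fun e => by
    have h9 := h.card
    rw [e, Subgroup.card_bot] at h9
    omega
  set F := (Finset.univ.filter fun s => s ∈ S).erase 1 with hF
  have hF8 : F.card = 8 := by
    rw [hF, Finset.card_erase_of_mem (by simp), ← Fintype.card_subtype, ← Nat.card_eq_fintype_card, h.card]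
  have hcl := h.card_cls hu hu1
  rw [hC u hu hu1] at hcl
  obtain ⟨b, hb, hbc⟩ := Finset.exists_mem_notMem_of_card_lt_card (s := cls S u) (t := F) (by rw [hF8]; omega)
  rw [hF, Finset.mem_erase, Finset.mem_filter] at hb
  exact ⟨u, b, h.orderOf_eq hu hu1, h.orderOf_eq hb.2.2 hb.1, fun g hg => hbc (mem_cls.2 ⟨hb.2.2, isConj_iff.2 ⟨g, hg⟩⟩)⟩

theorem simple_small [IsSimpleGroup G] (hG : ¬ IsMulCommutative G) (h : Loc S) (P : Sylow 3 G)
    (hP : S = (P : Subgroup G))
    (hN : Nat.card (Subgroup.normalizer (S : Set G)) = 9 ∨ Nat.card (Subgroup.normalizer (S : Set G)) = 18 ∨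
      Nat.card (Subgroup.normalizer (S : Set G)) = 36) :
    Nat.card G = 360 ∧ Nat.card (Subgroup.normalizer (S : Set G)) = 36 ∧
      ∀ s ∈ S, s ≠ 1 → Nat.card (Subgroup.centralizer ({s} : Set G)) = 9 := by
  classical
  by_cases hex : ∃ u ∈ S, u ≠ 1 ∧ Nat.card (Subgroup.centralizer ({u} : Set G)) = 18
  · exfalso
    obtain ⟨u, hu, hu1, hC⟩ := hex
    have hcl := h.card_cls hu hu1
    rw [hC] at hcl
    rcases hN with e | e | e
    · omega
    · -- `u` is central in the normaliser
      have h1 : (cls S u).card = 1 := by omega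
      obtain ⟨a, ha⟩ := Finset.card_eq_one.1 h1
      have hau : ∀ z, z ∈ S → IsConj u z → z = u := fun z hz hc => by
        have e1 : z ∈ cls S u := mem_cls.2 ⟨hz, hc⟩
        have e2 : u ∈ cls S u := mem_cls.2 ⟨hu, IsConj.refl u⟩
        rw [ha, Finset.mem_singleton] at e1 e2
        rw [e1, e2]
      haveI : IsMulCommutative S := ⟨⟨fun a b => Subtype.ext (h.comm a a.2 b b.2)⟩⟩
      open scoped IsMulCommutative in
      have hkey : ∀ (k : ℕ) (g₀ : G), g₀⁻¹ * u ^ k * g₀ ∈ S → g₀⁻¹ * u ^ k * g₀ = u ^ k := by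
        intro k g₀ hm
        have hu3 : u ^ 3 = 1 := h.exp u hu
        have hk3 := Nat.mod_lt k (by norm_num : 3 > 0)
        rw [pow_eq_pow_mod k hu3] at hm ⊢
        interval_cases hkk : k % 3
        · simp
        · rw [pow_one] at hm ⊢
          exact hau _ hm (isConj_iff.2 ⟨g₀⁻¹, by group⟩)
        · have e' : g₀⁻¹ * u ^ 2 * g₀ = (g₀⁻¹ * u * g₀)⁻¹ := by rw [sq, h.sq_eq_inv hu]; group
          rw [e'] at hm ⊢
          rw [hau _ (S.inv_mem_iff.1 hm) (isConj_iff.2 ⟨g₀⁻¹, by group⟩), sq, h.sq_eq_inv hu]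
      open scoped IsMulCommutative in
      have htr := MonoidHom.transfer_eq_pow (ϕ := (MonoidHom.id S)) u hkey
      open scoped IsMulCommutative in
      rw [Simple360.hom_comm_eq_one hG] at htr
      have hpow : u ^ S.index = 1 := (congrArg Subtype.val htr).symm
      have hd : orderOf u ∣ S.index := orderOf_dvd_of_pow_eq_one hpow
      rw [h.orderOf_eq hu hu1] at hd
      haveI : Fact (Nat.Prime 3) := ⟨Nat.prime_three⟩
      subst hP
      exact P.not_dvd_index hd
    · exact SelfCentNineKlein64.klein_false hG h e ⟨u, hu, hu1, hC⟩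
  · push Not at hex
    have hC : ∀ s ∈ S, s ≠ 1 → Nat.card (Subgroup.centralizer ({s} : Set G)) = 9 := fun s hs hs1 =>
      (h.card_centralizer hs hs1).resolve_right (hex s hs hs1)
    have hconf : SelfCentNineA6Core64.Conf S := ⟨h.comm, h.exp, h.card, fun s hs hs1 =>
      (Subgroup.eq_of_le_of_card_ge (h.le_centralizer hs) (by rw [hC s hs hs1, h.card])).symm⟩
    have hcard := SelfCentNineA6Core64.card_eq hG hconf P hP (two_classes h (by omega) hC)
    refine ⟨hcard, ?_, hC⟩
    have hi := SelfCentNineD8_64.index_mod_nine h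
    have hm := (Subgroup.normalizer (S : Set G)).card_mul_index
    rw [hcard] at hm
    rcases hN with e | e | e
    · rw [e] at hm; omega
    · rw [e] at hm; omega
    · exact e

/-- With five involutions in the automiser every centraliser has order 18. -/
theorem all_eighteen (h : Loc S) [hn : (S.subgroupOf (Subgroup.normalizer (S : Set G))).Normal]
    (hinv : 5 ≤ Nat.card {q : Subgroup.normalizer (S : Set G) ⧸ S.subgroupOf (Subgroup.normalizer (S : Set G)) //
      q * q = 1 ∧ q ≠ 1}) :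
    ∀ s ∈ S, s ≠ 1 → Nat.card (Subgroup.centralizer ({s} : Set G)) = 18 := by
  classical
  haveI := Fintype.ofFinite G
  set N := Subgroup.normalizer (S : Set G)
  set Q := N ⧸ S.subgroupOf N
  haveI := Fintype.ofFinite Q
  set I := (Finset.univ : Finset Q).filter fun q => q * q = 1 ∧ q ≠ 1 with hI
  have hIc : 5 ≤ I.card := by
    rw [hI, ← Fintype.card_subtype, ← Nat.card_eq_fintype_card]; exact hinv
  have hlift : ∀ q ∈ I, ∃ t : N, (t : Q) = q ∧ (t : G) * t ∈ S ∧ (t : G) ∉ S := by
    intro q hq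
    obtain ⟨t, rfl⟩ := QuotientGroup.mk_surjective q
    simp only [hI, Finset.mem_filter, Finset.mem_univ, true_and] at hq
    refine ⟨t, rfl, ?_, fun hm => hq.2 ((QuotientGroup.eq_one_iff t).2 hm)⟩
    have e := hq.1
    rw [← QuotientGroup.mk_mul, QuotientGroup.eq_one_iff] at e
    exact e
  choose! t htq ht2 htS using hlift
  set A := I.filter fun q => ∀ s ∈ S, (t q : G) * s * (t q : G)⁻¹ = s⁻¹ with hA
  have hA1 : A.card ≤ 1 := Finset.card_le_one.2 fun a ha b hb => by
    simp only [hA, Finset.mem_filter] at ha hb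
    rw [← htq a ha.1, ← htq b hb.1, QuotientGroup.eq]
    exact inverts_unique h ha.2 hb.2
  have hfix : ∀ q ∈ I \ A, ∃ s ∈ S, s ≠ 1 ∧ (t q : G) * s = s * (t q : G) := by
    intro q hq
    rw [Finset.mem_sdiff] at hq
    exact (fixed_or_inverts h (t q).2 (ht2 q hq.1)).resolve_right fun hi => hq.2 (by simp [hA, hq.1]; exact hi)
  choose! f hfS hf1 hfc using hfix
  set B := (I \ A) ×ˢ (Finset.univ : Finset Bool) with hB
  set φ : Q × Bool → G := fun x => if x.2 then f x.1 else (f x.1)⁻¹ with hφ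
  have hfact : ∀ x ∈ B, φ x ∈ S ∧ φ x ≠ 1 ∧ (t x.1 : G) * φ x = φ x * (t x.1 : G) := by
    rintro ⟨q, b⟩ hx
    have hq := (Finset.mem_product.1 hx).1
    cases b
    · exact ⟨S.inv_mem (hfS q hq), by simpa [hφ] using hf1 q hq, (show Commute (t q : G) (f q) from hfc q hq).inv_right.eq⟩
    · exact ⟨hfS q hq, hf1 q hq, hfc q hq⟩
  set F := (Finset.univ.filter fun s : G => s ∈ S).erase 1 with hF
  have hF8 : F.card = 8 := by
    rw [hF, Finset.card_erase_of_mem (by simp), ← Fintype.card_subtype, ← Nat.card_eq_fintype_card, h.card]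
  have hinj : Set.InjOn φ (B : Set (Q × Bool)) := by
    rintro ⟨q, b⟩ hx ⟨q', b'⟩ hx' e
    obtain ⟨hs1, hs2, hs3⟩ := hfact _ hx
    obtain ⟨-, -, hs3'⟩ := hfact _ hx'
    rw [← e] at hs3'
    have hq := (Finset.mem_sdiff.1 (Finset.mem_product.1 hx).1).1
    have hq' := (Finset.mem_sdiff.1 (Finset.mem_product.1 hx').1).1
    have hm := h.two_cosets hs1 hs2 hs3' hs3 (htS q' hq') (htS q hq)
    have hqq : q = q' := by
      rw [← htq q hq, ← htq q' hq', QuotientGroup.eq, Subgroup.mem_subgroupOf]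
      have := (Subgroup.mem_normalizer_iff.1 (N.inv_mem (t q).2) _).1 (S.inv_mem hm)
      simpa [mul_assoc] using this
    subst hqq
    have hne := h.ne_inv (hfS q (Finset.mem_product.1 hx).1) (hf1 q (Finset.mem_product.1 hx).1)
    cases b <;> cases b' <;> simp [hφ] at e ⊢ <;> first | exact hne e.symm | exact hne e
  have hle : F.card ≤ B.card := by
    rw [hF8, hB, Finset.card_product, Finset.card_univ, Fintype.card_bool]
    have := Finset.card_sdiff_add_card_inter I A
    have := Finset.card_le_card (Finset.inter_subset_right (s₁ := I) (s₂ := A))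
    omega
  have hsurj : ∀ s ∈ F, ∃ x ∈ B, φ x = s := fun s hs => by
    obtain ⟨x, hx, e⟩ := Finset.surjOn_of_injOn_of_card_le φ (s := B) (t := F)
      (fun x hx => by
        obtain ⟨h1, h2, -⟩ := hfact x hx
        simp [hF, h1, h2]) hinj hle hs
    exact ⟨x, hx, e⟩
  intro s hs hs1
  obtain ⟨x, hx, e⟩ := hsurj s (by simp [hF, hs, hs1])
  have hq := (Finset.mem_sdiff.1 (Finset.mem_product.1 hx).1).1
  exact card18_of_commute h hs hs1 (htS x.1 hq) (e ▸ (hfact x hx).2.2)

/-- With two involutions in the automiser some centraliser has order 18. -/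
theorem exists_eighteen (h : Loc S) {t t' : G} (ht : t ∈ Subgroup.normalizer (S : Set G))
    (ht' : t' ∈ Subgroup.normalizer (S : Set G)) (h2 : t * t ∈ S) (h2' : t' * t' ∈ S) (htS : t ∉ S) (htS' : t' ∉ S)
    (hne : t⁻¹ * t' ∉ S) : ∃ u ∈ S, u ≠ 1 ∧ Nat.card (Subgroup.centralizer ({u} : Set G)) = 18 := by
  rcases fixed_or_inverts h ht h2 with ⟨s, hs, hs1, hc⟩ | hi
  · exact ⟨s, hs, hs1, card18_of_commute h hs hs1 htS hc⟩
  rcases fixed_or_inverts h ht' h2' with ⟨s, hs, hs1, hc⟩ | hi'
  · exact ⟨s, hs, hs1, card18_of_commute h hs hs1 htS' hc⟩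
  exact absurd (inverts_unique h hi hi') hne


theorem five_involutions {Q : Type*} [Group Q] (e : Q ≃* DihedralGroup 4) :
    Nat.card {q : Q // q * q = 1 ∧ q ≠ 1} = 5 := by
  have e5 : Nat.card {x : DihedralGroup 4 // x * x = 1 ∧ x ≠ 1} = 5 := by
    rw [Nat.card_eq_fintype_card]; decide
  rw [← e5]
  refine Nat.card_congr (e.toEquiv.subtypeEquiv fun q => ?_)
  simp only [MulEquiv.toEquiv_eq_coe, MulEquiv.coe_toEquiv, ← map_mul, ne_eq, MulEquiv.map_eq_one_iff]

theorem mulAut_cyclic_comm {A : Type*} [Group A] [IsCyclic A] (f g : MulAut A) : f * g = g * f := by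
  obtain ⟨z, hz⟩ := IsCyclic.exists_generator (α := A)
  obtain ⟨i, hi⟩ := Subgroup.mem_zpowers_iff.1 (hz (f z))
  obtain ⟨j, hj⟩ := Subgroup.mem_zpowers_iff.1 (hz (g z))
  ext x
  obtain ⟨k, rfl⟩ := Subgroup.mem_zpowers_iff.1 (hz x)
  simp only [MulAut.mul_apply, map_zpow, ← hi, ← hj]
  rw [← zpow_mul, ← zpow_mul, ← zpow_mul, ← zpow_mul]
  ring_nf

theorem exp_of_elementary {S : Subgroup G} (hT : Cfsg.IsElementaryAbelian 3 S) : ∀ a ∈ S, a ^ 3 = 1 :=
  fun a ha => hT.2 a ha

/-- The centraliser orders inside a normal subgroup containing the normaliser. -/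
theorem card_centralizer_subgroupOf {M : Subgroup G} (h : Loc S) (hNM : Subgroup.normalizer (S : Set G) ≤ M)
    (x : M) (hx : x ∈ S.subgroupOf M) (hx1 : x ≠ 1) :
    Nat.card (Subgroup.centralizer ({x} : Set M)) = Nat.card (Subgroup.centralizer ({(x : G)} : Set G)) := by
  rw [← Nat.card_congr (Subgroup.subgroupOfEquivOfLe ((h.cent (x : G) hx (fun e => hx1 (Subtype.ext e))).trans hNM)).toEquiv]
  refine Nat.card_congr (Equiv.subtypeEquivRight fun y => ?_)
  simp only [Subgroup.mem_subgroupOf, centralizer_mem, Subtype.ext_iff, Subgroup.coe_mul]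

theorem nonempty_equiv_sym_six (h : Loc S) (P : Sylow 3 G) (hP : S = (P : Subgroup G)) {M : Subgroup G}
    [hM : M.Normal] [IsSimpleGroup M] (hSM : S ≤ M) (hM360 : Nat.card M = 360) (hG : Nat.card G = 720)
    (h18 : ∀ s ∈ S, s ≠ 1 → Nat.card (Subgroup.centralizer ({s} : Set G)) = 18)
    (h9 : ∀ x ∈ S.subgroupOf M, x ≠ 1 → Nat.card (Subgroup.centralizer ({x} : Set M)) = 9)
    (hN : Nat.card (Subgroup.normalizer (S : Set G)) = 72)
    (hNM : Nat.card (Subgroup.normalizer ((S.subgroupOf M : Subgroup M) : Set M)) = 36) :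
    Nonempty (G ≃* Equiv.Perm (Fin 6)) := by
  classical
  haveI := Fintype.ofFinite G
  haveI : Fact (Nat.Prime 3) := ⟨Nat.prime_three⟩
  have h' := h.subgroupOf hSM
  let PM : Sylow 3 M := P.subtype (hP ▸ hSM)
  have hPM : S.subgroupOf M = (PM : Subgroup M) := by rw [Sylow.coe_subtype, hP]
  have hfuse : ∀ x y : M, orderOf x = 3 → IsConj (x : G) (y : G) → IsConj x y := by
    intro x y hx hc
    have hy : orderOf y = 3 := by
      obtain ⟨z, hz⟩ := isConj_iff.1 hc
      rw [← Subgroup.orderOf_coe, ← hz]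
      exact ((MulAut.conj z).orderOf_eq (x : G)).trans (by rw [Subgroup.orderOf_coe, hx])
    obtain ⟨a, ha⟩ := conj_into PM hPM hx
    obtain ⟨b, hb⟩ := conj_into PM hPM hy
    set s := a * x * a⁻¹ with hs
    set t := b * y * b⁻¹ with ht
    have hxs : IsConj x s := isConj_iff.2 ⟨a, rfl⟩
    have hyt : IsConj y t := isConj_iff.2 ⟨b, rfl⟩
    have hs1 : s ≠ 1 := fun e => by
      rw [hs, conj_eq_one_iff] at e
      rw [e, orderOf_one] at hx
      omega
    have hsG1 : (s : G) ≠ 1 := fun e => hs1 (Subtype.ext e)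
    have hst : IsConj (s : G) (t : G) :=
      ((M.subtype.map_isConj hxs.symm).trans hc).trans (M.subtype.map_isConj hyt)
    have c1 := h'.card_cls ha hs1
    rw [h9 s ha hs1, hNM] at c1
    have c2 := h.card_cls (u := (s : G)) ha hsG1
    rw [h18 (s : G) ha hsG1, hN] at c2
    have heq : (cls (S.subgroupOf M) s).image M.subtype = cls S (s : G) :=
      Finset.eq_of_subset_of_card_le (fun z hz => by
        obtain ⟨w, hw, rfl⟩ := Finset.mem_image.1 hz
        obtain ⟨hwS, hwc⟩ := mem_cls.1 hw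
        exact mem_cls.2 ⟨hwS, M.subtype.map_isConj hwc⟩)
        (by
          have k1 : (cls (S.subgroupOf M) s).card = 4 := by omega
          have k2 : (cls S (s : G)).card = 4 := by omega
          rw [Finset.card_image_of_injective _ M.subtype_injective, k1, k2])
    have htm : (t : G) ∈ cls S (s : G) := mem_cls.2 ⟨hb, hst⟩
    rw [← heq, Finset.mem_image] at htm
    obtain ⟨w, hw, hwt⟩ := htm
    obtain rfl : w = t := Subtype.coe_injective hwt
    exact (hxs.trans (mem_cls.1 hw).2).trans hyt.symm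
  obtain ⟨e⟩ := Simple360.nonempty_equiv_alternating (G := M) hM360
  let ψ : G → MulAut (alternatingGroup (Fin 6)) := fun g => (e.symm.trans (MulAut.conjNormal g)).trans e
  have hψ : ∀ g x, ψ g x = e (MulAut.conjNormal g (e.symm x)) := fun g x => rfl
  have hthree : ∀ g, ∀ x : alternatingGroup (Fin 6), (x : Equiv.Perm (Fin 6)).IsThreeCycle →
      (ψ g x : Equiv.Perm (Fin 6)).IsThreeCycle := by
    intro g x hx
    have hc : IsConj (e.symm x) (MulAut.conjNormal g (e.symm x)) := hfuse _ _
      (by rw [MulEquiv.orderOf_eq, ← Subgroup.orderOf_coe, hx.orderOf])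
      (isConj_iff.2 ⟨g, (MulAut.conjNormal_apply g _).symm⟩)
    have hc' := e.toMonoidHom.map_isConj hc
    simp only [MulEquiv.coe_toMonoidHom, MulEquiv.apply_symm_apply] at hc'
    rw [hψ]
    have hcP := (alternatingGroup (Fin 6)).subtype.map_isConj hc'
    exact (Equiv.Perm.isConj_iff_cycleType_eq.1 hcP).symm.trans hx
  choose σ hσ using fun g => AltSixAut64.exists_perm_of_threeCycle 6 (by norm_num) (ψ g) (hthree g)
  have hinj := AltSixAut64.conjNormal_injective (n := 6) (by norm_num)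
  let f : G →* Equiv.Perm (Fin 6) := MonoidHom.mk' σ fun a b => hinj (by
    rw [map_mul, hσ, hσ, hσ]
    ext x : 1
    simp [hψ, MulAut.mul_apply, map_mul])
  have hker : Function.Injective f := by
    rw [injective_iff_map_eq_one]
    intro g hg
    have hC : g ∈ Subgroup.centralizer (M : Set G) := Subgroup.mem_centralizer_iff.2 fun m hm => by
      have e1 : ψ g = 1 := by rw [← hσ g, show σ g = 1 from hg, map_one]
      have e2 := congrArg (fun φ : MulAut _ => φ (e ⟨m, hm⟩)) e1
      simp only [hψ, MulEquiv.symm_apply_apply, MulAut.one_apply] at e2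
      have e3 := congrArg Subtype.val (e.injective e2)
      rw [MulAut.conjNormal_apply] at e3
      exact (mul_inv_eq_iff_eq_mul.1 e3).symm
    have hbot : Subgroup.centralizer (M : Set G) = ⊥ := h.eq_bot_of_normal _ fun hd => by
      obtain ⟨x, hx⟩ := exists_prime_orderOf_dvd_card' (G := Subgroup.centralizer (M : Set G)) 3 hd
      obtain ⟨z, hz⟩ := conj_into P hP (x := (x : G)) (by rw [Subgroup.orderOf_coe, hx])
      have hzc : z * (x : G) * z⁻¹ ∈ Subgroup.centralizer (M : Set G) :=
        (inferInstance : (Subgroup.centralizer (M : Set G)).Normal).conj_mem _ x.2 z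
      have hmem : (⟨_, hSM hz⟩ : M) ∈ Subgroup.center M :=
        Subgroup.mem_center_iff.2 fun m => Subtype.ext (Subgroup.mem_centralizer_iff.1 hzc m m.2)
      rcases Subgroup.Normal.eq_bot_or_eq_top (inferInstance : (Subgroup.center M).Normal) with hb | hb
      · rw [hb, Subgroup.mem_bot] at hmem
        have := congrArg Subtype.val hmem
        simp only [OneMemClass.coe_one, conj_eq_one_iff] at this
        rw [OneMemClass.coe_eq_one] at this
        rw [this, orderOf_one] at hx
        omega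
      · have hc : IsMulCommutative M := ⟨⟨fun a b => Subgroup.mem_center_iff.1 (hb ▸ Subgroup.mem_top b) a⟩⟩
        haveI := hc
        open scoped IsMulCommutative in
        have hp := IsSimpleGroup.prime_card (α := M)
        rw [hM360] at hp
        norm_num at hp
    exact Subgroup.mem_bot.1 (hbot ▸ hC)
  exact ⟨MulEquiv.ofBijective f ((Nat.bijective_iff_injective_and_card _).2 ⟨hker, by
    rw [hG, Nat.card_perm, Nat.card_fin]; rfl⟩)⟩

end Cfsg.Agent.SelfCentNineReduce64
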