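import Mathlib
import Cfsg.Agent.Lib.SelfCentNineReduce64

/-!
General tools for the small automiser cases of S3343: a group with a self-centralising subgroup of
order nine of small automiser, the centraliser engine built on it, and elementary group facts.
-/

set_option autoImplicit false

namespace Cfsg.Agent.S9Small37

open Cfsg.Agent.SelfCentNineLoc64 Cfsg.Agent.SelfCentNineReduce64

/-- A subset of a finite group closed under multiplication as a subgroup. -/
def ofMul {H : Type*} [Group H] [Finite H] (s : Set H) (h1 : (1 : H) ∈ s)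
    (hm : ∀ x ∈ s, ∀ y ∈ s, x * y ∈ s) : Subgroup H where
  carrier := s
  mul_mem' := fun {x y} hx hy => hm x hx y hy
  one_mem' := h1
  inv_mem' := fun {x} hx => by
    have hp : ∀ n : ℕ, x ^ n ∈ s := by
      intro n
      induction n with
      | zero => simpa using h1
      | succ n ih => rw [pow_succ]; exact hm _ ih _ hx
    have he : x⁻¹ = x ^ (orderOf x - 1) := by
      rw [inv_eq_iff_mul_eq_one, ← pow_succ', Nat.sub_add_cancel (orderOf_pos x), pow_orderOf_eq_one]
    rw [he]
    exact hp _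

theorem mem_ofMul {H : Type*} [Group H] [Finite H] {s : Set H} {h1 : (1 : H) ∈ s}
    {hm : ∀ x ∈ s, ∀ y ∈ s, x * y ∈ s} {x : H} : x ∈ ofMul s h1 hm ↔ x ∈ s := Iff.rfl

theorem mem_normalizer_of_conj {H : Type*} [Group H] [Finite H] {K : Subgroup H} {g : H}
    (h : ∀ k ∈ K, g * k * g⁻¹ ∈ K) : g ∈ Subgroup.normalizer (K : Set H) := by
  have heq : K.map (MulAut.conj g).toMonoidHom = K := by
    refine Subgroup.eq_of_le_of_card_ge (fun y hy => ?_) (le_of_eq ?_)
    · obtain ⟨k, hk, rfl⟩ := Subgroup.mem_map.1 hy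
      exact h k hk
    · exact Nat.card_congr (K.equivMapOfInjective _ (MulAut.conj g).injective).toEquiv
  refine Subgroup.mem_normalizer_iff.2 fun y => ⟨h y, fun hy => ?_⟩
  rw [← heq, Subgroup.mem_map] at hy
  obtain ⟨k, hk, he⟩ := hy
  have : k = y := by
    have he' : g * k * g⁻¹ = g * y * g⁻¹ := by simpa using he
    exact mul_left_cancel (mul_right_cancel he')
  exact this ▸ hk

theorem eq_of_normalizer_le {H : Type*} [Group H] [Finite H] {p : ℕ} [Fact p.Prime]
    {A T : Subgroup H} (hAT : A ≤ T) (hT : IsPGroup p T)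
    (h : ∀ g ∈ T, (∀ a ∈ A, g * a * g⁻¹ ∈ A) → g ∈ A) : A = T := by
  haveI := hT.isNilpotent
  by_contra hne
  have hlt : A.subgroupOf T < ⊤ := lt_top_iff_ne_top.2 fun e =>
    hne (le_antisymm hAT (Subgroup.subgroupOf_eq_top.1 e))
  have hn := Group.normalizerCondition_of_isNilpotent (G := T) _ hlt
  obtain ⟨g, hg, hgA⟩ := SetLike.exists_of_lt hn
  refine hgA (Subgroup.mem_subgroupOf.2 (h g g.2 fun a ha => ?_))
  exact Subgroup.mem_subgroupOf.1 ((Subgroup.mem_normalizer_iff.1 hg ⟨a, hAT ha⟩).1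
    (Subgroup.mem_subgroupOf.2 ha))

universe u

/-- A self-centralising exponent three subgroup of order nine with small automiser and local
centralisers is normal. -/
theorem normal_of_eighteen {Q : Type u} [Group Q] [Finite Q] (S : Subgroup Q)
    (hcomm : ∀ a ∈ S, ∀ b ∈ S, a * b = b * a) (hexp : ∀ a ∈ S, a ^ 3 = 1) (hcard : Nat.card S = 9)
    (hself : ∀ g : Q, (∀ s ∈ S, g * s = s * g) → g ∈ S)
    (hcent : ∀ s ∈ S, s ≠ 1 →
      Subgroup.centralizer ({s} : Set Q) ≤ Subgroup.normalizer (S : Set Q))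
    (hN : Nat.card (Subgroup.normalizer (S : Set Q)) ≤ 18) : S.Normal := by
  classical
  haveI : Fact (Nat.Prime 3) := ⟨Nat.prime_three⟩
  have h27 : ¬ 3 ^ 3 ∣ Nat.card Q := fun hd => by
    obtain ⟨T, hTc, hST⟩ := Sylow.exists_subgroup_card_pow_succ (p := 3) (n := 2) hd
      (H := S) (by rw [hcard]; norm_num)
    have hTn : T ≤ Subgroup.normalizer (S : Set Q) := by
      have hidx : (S.subgroupOf T).index = (Nat.card T).minFac := by
        have hm := Subgroup.card_mul_index (S.subgroupOf T)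
        rw [Nat.card_congr (Subgroup.subgroupOfEquivOfLe hST).toEquiv, hcard, hTc] at hm
        have hmf : (3 ^ (2 + 1)).minFac = 3 := Nat.Prime.pow_minFac Nat.prime_three (by norm_num)
        rw [hTc, hmf]
        norm_num at hm
        omega
      haveI := Subgroup.normal_of_index_eq_minFac_card hidx
      exact Subgroup.normal_subgroupOf_iff_le_normalizer hST |>.1 inferInstance
    have := Nat.le_of_dvd Nat.card_pos (Subgroup.card_dvd_of_le hTn)
    rw [hTc] at this
    omega
  obtain ⟨P, hSP⟩ := (IsPGroup.of_card (G := S) (p := 3) (n := 2)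
    (by rw [hcard]; norm_num)).exists_le_sylow
  have hP : S = (P : Subgroup Q) := by
    refine Subgroup.eq_of_le_of_card_ge hSP ?_
    obtain ⟨k, hk⟩ := IsPGroup.iff_card.1 P.isPGroup'
    have hd : 3 ^ k ∣ Nat.card Q := hk ▸ Subgroup.card_subgroup_dvd_card _
    have : k ≤ 2 := by
      by_contra hc
      exact h27 ((pow_dvd_pow 3 (by omega)).trans hd)
    rw [hk, hcard]
    calc 3 ^ k ≤ 3 ^ 2 := Nat.pow_le_pow_right (by norm_num) this
      _ = 9 := by norm_num
  have hC : Subgroup.centralizer (S : Set Q) = S := le_antisymm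
    (fun g hg => hself g fun s hs => (Subgroup.mem_centralizer_iff.1 hg s hs).symm)
    (fun g hg => Subgroup.mem_centralizer_iff.2 fun s hs => hcomm s hs g hg)
  have h := Loc.of_sylow P hP hcomm hexp hcard hC hcent
  by_contra hnn
  have h9 : 9 ∣ Nat.card (Subgroup.normalizer (S : Set Q)) :=
    hcard ▸ Subgroup.card_dvd_of_le Subgroup.le_normalizer
  have hpos := Nat.card_pos (α := Subgroup.normalizer (S : Set Q))
  obtain ⟨M, -, hSM, hMs, hMc⟩ := exists_simple h P hP hnn (by omega) (by omega)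
  haveI := hMs
  have hPM : (P : Subgroup Q) ≤ M := hP ▸ hSM
  have hk := card_normalizer_subgroupOf (S := S) hSM
  have hd : Nat.card (Subgroup.normalizer (S : Set Q) ⊓ M : Subgroup Q) ≤ 18 :=
    (Nat.le_of_dvd hpos (Subgroup.card_dvd_of_le inf_le_left)).trans hN
  have h9' : 9 ∣ Nat.card (Subgroup.normalizer (S : Set Q) ⊓ M : Subgroup Q) :=
    hcard ▸ Subgroup.card_dvd_of_le (le_inf Subgroup.le_normalizer hSM)
  have hpos' := Nat.card_pos (α := (Subgroup.normalizer (S : Set Q) ⊓ M : Subgroup Q))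
  have hPeq : S.subgroupOf M = ((P.subtype hPM : Sylow 3 M) : Subgroup M) := by
    rw [Sylow.coe_subtype P hPM, hP]
  obtain ⟨-, h36, -⟩ := simple_small hMc (h.subgroupOf hSM) (P.subtype hPM) hPeq
    (by rw [hk]; omega)
  rw [hk] at h36
  omega

variable {G : Type u} [Group G] [Finite G]

/-- The centraliser engine: `C(a) ≤ N` when the image of `R` in `C(a)/⟨a⟩` is a self-centralising
subgroup of order nine with automiser of order at most two. -/
theorem cent_le_of_engine (N : Subgroup G) {a : G} (R : Subgroup G) (haR : a ∈ R)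
    (hRc : ∀ r ∈ R, r * a = a * r) (hcomm : ∀ r ∈ R, ∀ s ∈ R, r * s = s * r)
    (hcard : Nat.card R = 9 * orderOf a) (hexp : ∀ r ∈ R, r ^ 3 ∈ Subgroup.zpowers a)
    (hN : ∀ g, g * a = a * g → (∀ r ∈ R, g * r * g⁻¹ ∈ R) → g ∈ N)
    (hRnorm : ∀ g, g * a = a * g → g ∈ N → ∀ r ∈ R, g * r * g⁻¹ ∈ R)
    (u : G) (htwo : ∀ g, g * a = a * g → g ∈ N → g ∈ R ∨ u⁻¹ * g ∈ R)
    (hself : ∀ g, g * a = a * g → g ∈ N →
      (∀ r ∈ R, g * r * g⁻¹ * r⁻¹ ∈ Subgroup.zpowers a) → g ∈ R)
    (hcent : ∀ g, g * a = a * g → ∀ r ∈ R, r ∉ Subgroup.zpowers a →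
      g * r * g⁻¹ * r⁻¹ ∈ Subgroup.zpowers a → g ∈ N) :
    Subgroup.centralizer ({a} : Set G) ≤ N := by
  classical
  set C := Subgroup.centralizer ({a} : Set G) with hCdef
  have memC : ∀ {g : G}, g ∈ C ↔ g * a = a * g := fun {g} => by
    rw [hCdef, Subgroup.mem_centralizer_singleton_iff]
  have hRC : R ≤ C := fun r hr => memC.2 (hRc r hr)
  set Z := (Subgroup.zpowers a).subgroupOf C with hZdef
  haveI hZn : Z.Normal := ⟨fun z hz g => by
    rw [hZdef, Subgroup.mem_subgroupOf] at hz ⊢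
    obtain ⟨k, hk⟩ := Subgroup.mem_zpowers_iff.1 hz
    have hc : Commute (g : G) (z : G) := by rw [← hk]; exact Commute.zpow_right (memC.1 g.2) k
    simpa [hc.eq] using hz⟩
  set π := QuotientGroup.mk' Z with hπ
  have hπ1 : ∀ x : C, π x = 1 ↔ (x : G) ∈ Subgroup.zpowers a := fun x => by
    rw [hπ, QuotientGroup.mk'_apply, QuotientGroup.eq_one_iff, hZdef, Subgroup.mem_subgroupOf]
  set S := (R.subgroupOf C).map π with hS
  have hZR : Subgroup.zpowers a ≤ R := Subgroup.zpowers_le.2 haR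
  have memS : ∀ x : C, π x ∈ S ↔ (x : G) ∈ R := fun x => by
    constructor
    · intro hx
      obtain ⟨r, hr, he⟩ := Subgroup.mem_map.1 hx
      rw [Subgroup.mem_subgroupOf] at hr
      have hz : ((r⁻¹ * x : C) : G) ∈ Subgroup.zpowers a := (hπ1 _).1 (by simp [he])
      have := R.mul_mem hr (hZR hz)
      simpa using this
    · exact fun hx => Subgroup.mem_map_of_mem π (Subgroup.mem_subgroupOf.2 hx)
  have hScard : Nat.card S = 9 := by
    have h1 := Subgroup.card_mul_index (Z.subgroupOf (R.subgroupOf C))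
    have hZle : Z ≤ R.subgroupOf C := fun x hx => by
      rw [hZdef, Subgroup.mem_subgroupOf] at hx
      exact Subgroup.mem_subgroupOf.2 (hZR hx)
    have h2 : Nat.card (Z.subgroupOf (R.subgroupOf C)) = orderOf a := by
      rw [Nat.card_congr (Subgroup.subgroupOfEquivOfLe hZle).toEquiv, hZdef,
        Nat.card_congr (Subgroup.subgroupOfEquivOfLe (hZR.trans hRC)).toEquiv, Nat.card_zpowers]
    have h3 : Nat.card (R.subgroupOf C) = 9 * orderOf a := by
      rw [Nat.card_congr (Subgroup.subgroupOfEquivOfLe hRC).toEquiv, hcard]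
    rw [h2, h3] at h1
    have h4 : Nat.card S = (Z.subgroupOf (R.subgroupOf C)).index := by
      have h5 := Subgroup.relIndex_ker π (K := R.subgroupOf C)
      rw [hπ, QuotientGroup.ker_mk'] at h5
      exact h5.symm
    rw [h4]
    have hpos := orderOf_pos a
    nlinarith
  have hSnorm : ∀ g : C, π g ∈ Subgroup.normalizer (S : Set (C ⧸ Z)) →
      ∀ r ∈ R, (g : G) * r * (g : G)⁻¹ ∈ R := fun g hg r hr => by
    have := (Subgroup.mem_normalizer_iff.1 hg (π ⟨r, hRC hr⟩)).1 ((memS _).2 hr)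
    rw [← map_inv, ← map_mul, ← map_mul, memS] at this
    exact this
  have hnormN : ∀ g : C, π g ∈ Subgroup.normalizer (S : Set (C ⧸ Z)) → (g : G) ∈ N :=
    fun g hg => hN g (memC.1 g.2) (hSnorm g hg)
  have hSN : Nat.card (Subgroup.normalizer (S : Set (C ⧸ Z))) ≤ 18 := by
    by_cases hu : ∃ g : C, π g ∈ Subgroup.normalizer (S : Set (C ⧸ Z)) ∧ (g : G) ∉ R
    · obtain ⟨g₀, hg₀, hg₀R⟩ := hu
      have hu₀ : u⁻¹ * (g₀ : G) ∈ R :=
        (htwo g₀ (memC.1 g₀.2) (hnormN g₀ hg₀)).resolve_left hg₀R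
      set f : S × Bool → C ⧸ Z := fun p => (if p.2 then π g₀ else 1) * (p.1 : C ⧸ Z) with hf
      have hle : (Subgroup.normalizer (S : Set (C ⧸ Z)) : Set (C ⧸ Z)) ⊆ Set.range f := by
        intro y hy
        obtain ⟨g, rfl⟩ := QuotientGroup.mk'_surjective Z y
        rcases htwo g (memC.1 g.2) (hnormN g hy) with h | h
        · exact ⟨(⟨π g, (memS g).2 h⟩, false), by simp [hf, hπ]⟩
        · have hm : ((g₀⁻¹ * g : C) : G) ∈ R := by
            have := R.mul_mem (R.inv_mem hu₀) h
            simpa [mul_assoc] using this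
          exact ⟨(⟨π (g₀⁻¹ * g), (memS _).2 hm⟩, true), by simp [hf, hπ]⟩
      calc Nat.card (Subgroup.normalizer (S : Set (C ⧸ Z))) ≤ Nat.card (Set.range f) :=
            Nat.card_mono (Set.toFinite _) hle
        _ ≤ Nat.card (S × Bool) := Finite.card_range_le f
        _ = 18 := by simp [hScard]
    · push Not at hu
      have hle : Subgroup.normalizer (S : Set (C ⧸ Z)) ≤ S := fun y hy => by
        obtain ⟨g, rfl⟩ := QuotientGroup.mk'_surjective Z y
        exact (memS g).2 (hu g hy)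
      have := Nat.le_of_dvd Nat.card_pos (Subgroup.card_dvd_of_le hle)
      omega
  have hnorm : S.Normal := by
    refine normal_of_eighteen S ?_ ?_ hScard ?_ ?_ hSN
    · rintro _ ⟨r, hr, rfl⟩ _ ⟨s, hs, rfl⟩
      rw [SetLike.mem_coe, Subgroup.mem_subgroupOf] at hr hs
      rw [← map_mul, ← map_mul]
      exact congrArg π (Subtype.ext (hcomm _ hr _ hs))
    · rintro _ ⟨r, hr, rfl⟩
      rw [SetLike.mem_coe, Subgroup.mem_subgroupOf] at hr
      rw [← map_pow, hπ1]
      simpa using hexp _ hr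
    · intro y hy
      obtain ⟨g, rfl⟩ := QuotientGroup.mk'_surjective Z y
      have hc : ∀ r ∈ R, (g : G) * r * (g : G)⁻¹ * r⁻¹ ∈ Subgroup.zpowers a := fun r hr => by
        have he := hy (π ⟨r, hRC hr⟩) ((memS _).2 hr)
        have h1 : π (g * ⟨r, hRC hr⟩ * g⁻¹ * (⟨r, hRC hr⟩ : C)⁻¹) = 1 := by
          rw [map_mul, map_mul, map_mul, map_inv, map_inv, hπ] at *
          rw [he]
          group
        simpa using (hπ1 _).1 h1
      have hgN : (g : G) ∈ N := hN g (memC.1 g.2) fun r hr => by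
        have := R.mul_mem (hZR (hc r hr)) hr
        simpa using this
      exact (memS g).2 (hself g (memC.1 g.2) hgN hc)
    · intro s hs hs1 y hy
      obtain ⟨g, rfl⟩ := QuotientGroup.mk'_surjective Z y
      obtain ⟨r, hr, rfl⟩ := Subgroup.mem_map.1 hs
      rw [Subgroup.mem_subgroupOf] at hr
      have hrZ : (r : G) ∉ Subgroup.zpowers a := fun e => hs1 ((hπ1 r).2 e)
      rw [Subgroup.mem_centralizer_singleton_iff] at hy
      have h1 : π (g * r * g⁻¹ * r⁻¹) = 1 := by
        rw [map_mul, map_mul, map_mul, map_inv, map_inv, hπ] at *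
        rw [hy]
        group
      have hgN : (g : G) ∈ N := hcent g (memC.1 g.2) r hr hrZ (by simpa using (hπ1 _).1 h1)
      refine mem_normalizer_of_conj fun t ht => ?_
      obtain ⟨t', ht', rfl⟩ := Subgroup.mem_map.1 ht
      rw [Subgroup.mem_subgroupOf] at ht'
      rw [hπ, ← map_inv, ← map_mul, ← map_mul]
      exact (memS _).2 (hRnorm g (memC.1 g.2) hgN t' ht')
  intro g hg
  refine hN g (memC.1 hg) (hSnorm ⟨g, hg⟩ ?_)
  rw [Subgroup.normalizer_eq_top_iff.2 hnorm]
  exact Subgroup.mem_top _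

end Cfsg.Agent.S9Small37
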