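import Cfsg.Agent.Lib.A9CentQ67Model
import Cfsg.Agent.Lib.A9Pieces59
import Cfsg.Agent.Lib.PSLCard
import Cfsg.Agent.Lib.S9Small37Gen
import Cfsg.Agent.S3331

/-!
S3339, alternating branch: once the centraliser of a double involution lies in the image of the
alternating group of degree nine, so does the centraliser of the quadruple involution.
-/

set_option autoImplicit false

namespace Cfsg.Agent.A9CentQ67

open Equiv Cfsg.Agent.A9Base59 Cfsg.Agent.S9Small37

theorem cent_card_bound (a : P9) (m : ℕ) (hm : Nat.card (Subgroup.centralizer ({a} : Set P9)) = 2 * m)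
    (hodd : ∃ o : P9, o * a = a * o ∧ Perm.sign o ≠ 1) :
    Nat.card (Subgroup.centralizer ({a} : Set P9) ⊓ alternatingGroup (Fin 9) : Subgroup P9) = m := by
  obtain ⟨o, ho, hs⟩ := hodd
  set C := Subgroup.centralizer ({a} : Set P9) with hC
  have hidx : ((alternatingGroup (Fin 9)).subgroupOf C).index = 2 := by
    rw [Subgroup.index_eq_two_iff]
    have hoC : o ∈ C := Subgroup.mem_centralizer_singleton_iff.2 ho
    refine ⟨⟨o, hoC⟩, fun b => ?_⟩
    simp only [Subgroup.mem_subgroupOf, Subgroup.coe_mul, Perm.mem_alternatingGroup, map_mul]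
    rcases Int.units_eq_one_or (Perm.sign (b : P9)) with e | e <;>
      rcases Int.units_eq_one_or (Perm.sign o) with e' | e' <;>
      simp [e, e'] at hs ⊢
  have hmul := Subgroup.card_mul_index ((alternatingGroup (Fin 9)).subgroupOf C)
  have he : (alternatingGroup (Fin 9)).subgroupOf C =
      (C ⊓ alternatingGroup (Fin 9)).subgroupOf C := (Subgroup.inf_subgroupOf_left _ _).symm
  rw [hidx, hm, he, Nat.card_congr (Subgroup.subgroupOfEquivOfLe inf_le_left).toEquiv] at hmul
  exact Nat.eq_of_mul_eq_mul_right two_pos (hmul.trans (mul_comm 2 m))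

theorem card_cent_q :
    Nat.card (Subgroup.centralizer ({q} : Set P9) ⊓ alternatingGroup (Fin 9) : Subgroup P9) = 192 := by
  refine cent_card_bound q 192 ?_ ⟨_, odd_cent.1⟩
  rw [Perm.nat_card_centralizer, cycle_types.1]
  decide

theorem card_cent_a1 :
    Nat.card (Subgroup.centralizer ({a1} : Set P9) ⊓ alternatingGroup (Fin 9) : Subgroup P9) = 480 := by
  refine cent_card_bound a1 480 ?_ ⟨_, odd_cent.2, odd_cent.1.2⟩
  rw [Perm.nat_card_centralizer, cycle_types.2]
  decide

theorem exists_el {p : P9} (hp : p * q = q * p) (hs : Perm.sign p = 1) : ∃ r, el r = p := by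
  set C := (Subgroup.centralizer ({q} : Set P9) ⊓ alternatingGroup (Fin 9) : Subgroup P9) with hC
  have hin : ∀ r, el r ∈ C := fun r =>
    ⟨Subgroup.mem_centralizer_singleton_iff.2 (el_facts r).2,
      Perm.mem_alternatingGroup.2 (el_facts r).1⟩
  have hbij : Function.Bijective (fun r => (⟨el r, hin r⟩ : C)) := by
    rw [Nat.bijective_iff_injective_and_card]
    refine ⟨fun r r' e => el_inj r r' (congrArg Subtype.val e), ?_⟩
    rw [hC, card_cent_q]
    simp [Par, Idx]
  obtain ⟨r, hr⟩ := hbij.2 ⟨p, ⟨Subgroup.mem_centralizer_singleton_iff.2 hp,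
    Perm.mem_alternatingGroup.2 hs⟩⟩
  exact ⟨r, congrArg Subtype.val hr⟩

universe u

variable {G : Type u} [Group G] {J : Subgroup G} {φ : H9 →* G} {ι : ∀ k : Fin 3, N9 k →* G}
  {ψ : alternatingGroup (Fin 9) →* G}

open Classical in
/-- The image of an even permutation. -/
noncomputable def im (ψ : alternatingGroup (Fin 9) →* G) (p : P9) : G :=
  if h : p ∈ alternatingGroup (Fin 9) then ψ ⟨p, h⟩ else 1

theorem im_of {p : P9} (h : p ∈ alternatingGroup (Fin 9)) : im ψ p = ψ ⟨p, h⟩ := dif_pos h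

theorem im_mul {a b : P9} (ha : Perm.sign a = 1) (hb : Perm.sign b = 1) :
    im ψ (a * b) = im ψ a * im ψ b := by
  have hab : Perm.sign (a * b) = 1 := by simp [ha, hb]
  rw [im_of (Perm.mem_alternatingGroup.2 ha), im_of (Perm.mem_alternatingGroup.2 hb),
    im_of (Perm.mem_alternatingGroup.2 hab), ← map_mul]
  rfl

theorem im_one : im ψ (1 : P9) = 1 := by
  rw [im_of (one_mem _)]
  exact map_one ψ

theorem im_inv {a : P9} (ha : Perm.sign a = 1) : im ψ a⁻¹ = (im ψ a)⁻¹ :=
  eq_inv_of_mul_eq_one_left (by rw [← im_mul (by simp [ha]) ha, inv_mul_cancel, im_one])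

theorem im_pow {a : P9} (ha : Perm.sign a = 1) (n : ℕ) : im ψ (a ^ n) = im ψ a ^ n := by
  induction n with
  | zero => simp [im_one]
  | succ n ih => rw [pow_succ, pow_succ, im_mul (by simp [ha]) ha, ih]

theorem im_conj {a b : P9} (ha : Perm.sign a = 1) (hb : Perm.sign b = 1) :
    im ψ (a * b * a⁻¹) = im ψ a * im ψ b * (im ψ a)⁻¹ := by
  rw [im_mul (by simp [ha, hb]) (by simp [ha]), im_mul ha hb, im_inv ha]

theorem im_mem (p : P9) : im ψ p ∈ ψ.range := by
  unfold im
  split
  · exact ⟨_, rfl⟩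
  · exact ψ.range.one_mem

variable [Finite G] (L : Loc J φ) (N : Nine φ ι ψ)

include N in
theorem im_inj {a b : P9} (ha : Perm.sign a = 1) (hb : Perm.sign b = 1) (h : im ψ a = im ψ b) :
    a = b := by
  rw [im_of (Perm.mem_alternatingGroup.2 ha), im_of (Perm.mem_alternatingGroup.2 hb)] at h
  exact congrArg Subtype.val (N.inj h)

include N in
theorem im_eq_H {p : P9} (h : p ∈ H9) : im ψ p = φ ⟨p, h⟩ := by
  rw [im_of (Perm.mem_alternatingGroup.2 h.1)]
  exact N.ext _ h

include N in
theorem commute_iff {a b : P9} (ha : Perm.sign a = 1) (hb : Perm.sign b = 1)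
    (h : im ψ a * im ψ b = im ψ b * im ψ a) : a * b = b * a := by
  rw [← im_mul ha hb, ← im_mul hb ha] at h
  exact im_inj N (by simp [ha, hb]) (by simp [ha, hb]) h

include N in
/-- The centraliser of `q` inside the copy of the alternating group. -/
theorem exists_el_im {g : G} (hg : g ∈ ψ.range) (hc : g * im ψ q = im ψ q * g) :
    ∃ r, im ψ (el r) = g := by
  obtain ⟨⟨p, hp⟩, rfl⟩ := hg
  rw [← im_of hp] at hc ⊢
  have hs := Perm.mem_alternatingGroup.1 hp
  obtain ⟨r, rfl⟩ := exists_el (commute_iff N hs rels.2.2.2.1 hc) hs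
  exact ⟨r, rfl⟩

theorem conj_comm {g a : G} {R : Subgroup G} {s : G} (hs : s ∈ R)
    (hR : Subgroup.centralizer ({a} : Set G) ≤ R) (hg : g * (s * a * s⁻¹) = s * a * s⁻¹ * g) :
    g ∈ R := by
  have h1 : s⁻¹ * g * s ∈ R := hR (Subgroup.mem_centralizer_singleton_iff.2 (by
    calc s⁻¹ * g * s * a = s⁻¹ * (g * (s * a * s⁻¹)) * s := by group
      _ = s⁻¹ * (s * a * s⁻¹ * g) * s := by rw [hg]
      _ = a * (s⁻¹ * g * s) := by group))
  have := R.mul_mem (R.mul_mem hs h1) (R.inv_mem hs)
  simpa [mul_assoc] using this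

include L N in
theorem cent_xw : Subgroup.centralizer ({im ψ xw} : Set G) ≤ ψ.range := by
  have hH : xw ∈ H9 := rels.2.2.2.2.2.2.2.2.2.2.2.2.1 ▸ mul_mem (e_mem 0) (e_mem 1)
  rw [im_eq_H N hH, show (⟨xw, hH⟩ : H9) = E 0 * E 1 from
    Subtype.ext rels.2.2.2.2.2.2.2.2.2.2.2.2.1.symm]
  refine L.cw.trans ?_
  rw [← L.range_eq]
  rintro _ ⟨⟨p, hp⟩, rfl⟩
  exact ⟨⟨p, Perm.mem_alternatingGroup.2 hp.1⟩, N.ext _ hp⟩

include N in
theorem cent_a1 (hv : Subgroup.centralizer ({φ ⟨v, v_mem⟩} : Set G) ≤ ψ.range) :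
    Subgroup.centralizer ({im ψ a1} : Set G) ≤ ψ.range := fun g hg => by
  rw [Subgroup.mem_centralizer_singleton_iff, ← rels.2.1, im_conj rels.1 v_mem.1] at hg
  refine conj_comm (im_mem sig) ?_ hg
  rwa [im_eq_H N v_mem]

include N in
/-- A double involution is not conjugate to a quadruple one. -/
theorem not_conj (hv : Subgroup.centralizer ({φ ⟨v, v_mem⟩} : Set G) ≤ ψ.range) (g : G) :
    g * im ψ a1 * g⁻¹ ≠ im ψ q := fun he => by
  have ha := rels.2.2.1
  set f : (Subgroup.centralizer ({q} : Set P9) ⊓ alternatingGroup (Fin 9) : Subgroup P9) → G :=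
    fun p => g⁻¹ * im ψ p * g with hf
  set C' := Subgroup.centralizer ({im ψ a1} : Set G) with hC'
  have hC'card : Nat.card C' = 480 := by
    rw [← card_cent_a1]
    have hmem : ∀ p : (Subgroup.centralizer ({a1} : Set P9) ⊓ alternatingGroup (Fin 9) :
        Subgroup P9), im ψ p ∈ C' := fun p => by
      have hs := Perm.mem_alternatingGroup.1 p.2.2
      refine Subgroup.mem_centralizer_singleton_iff.2 ?_
      rw [← im_mul hs ha, ← im_mul ha hs, Subgroup.mem_centralizer_singleton_iff.1 p.2.1]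
    refine (Nat.card_congr (Equiv.ofBijective (fun p : (Subgroup.centralizer ({a1} : Set P9) ⊓ alternatingGroup (Fin 9) : Subgroup P9) => (⟨im ψ p, hmem p⟩ : C')) ⟨fun p r e => ?_,
      ?_⟩)).symm
    · exact Subtype.ext (im_inj N (Perm.mem_alternatingGroup.1 p.2.2)
        (Perm.mem_alternatingGroup.1 r.2.2) (congrArg Subtype.val e))
    · rintro ⟨x, hx⟩
      obtain ⟨⟨p, hp⟩, rfl⟩ := cent_a1 N hv hx
      have hx' := Subgroup.mem_centralizer_singleton_iff.1 hx
      rw [← im_of hp] at hx'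
      exact ⟨⟨p, Subgroup.mem_centralizer_singleton_iff.2
        (commute_iff N (Perm.mem_alternatingGroup.1 hp) ha hx'), hp⟩, Subtype.ext (im_of hp)⟩
  -- the image of the centraliser of `q`, pulled back
  let P := (Subgroup.centralizer ({q} : Set P9) ⊓ alternatingGroup (Fin 9) : Subgroup P9)
  let fh : P →* G :=
    { toFun := f
      map_one' := by simp [hf, im_one]
      map_mul' := fun a b => by
        simp only [hf, Subgroup.coe_mul,
          im_mul (Perm.mem_alternatingGroup.1 a.2.2) (Perm.mem_alternatingGroup.1 b.2.2)]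
        group }
  have hle : fh.range ≤ C' := by
    rintro _ ⟨p, rfl⟩
    have hs := Perm.mem_alternatingGroup.1 p.2.2
    refine Subgroup.mem_centralizer_singleton_iff.2 ?_
    have hc : im ψ p * im ψ q = im ψ q * im ψ p := by
      rw [← im_mul hs rels.2.2.2.1, ← im_mul rels.2.2.2.1 hs,
        Subgroup.mem_centralizer_singleton_iff.1 p.2.1]
    rw [← he] at hc
    show g⁻¹ * im ψ p * g * im ψ a1 = im ψ a1 * (g⁻¹ * im ψ p * g)
    calc g⁻¹ * im ψ p * g * im ψ a1 = g⁻¹ * (im ψ p * (g * im ψ a1 * g⁻¹)) * g := by group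
      _ = g⁻¹ * (g * im ψ a1 * g⁻¹ * im ψ p) * g := by rw [hc]
      _ = _ := by group
  have hinj : Function.Injective fh := fun p r e => by
    have e' : g⁻¹ * im ψ p * g = g⁻¹ * im ψ r * g := e
    exact Subtype.ext (im_inj N (Perm.mem_alternatingGroup.1 p.2.2)
      (Perm.mem_alternatingGroup.1 r.2.2) (mul_left_cancel (mul_right_cancel e')))
  have hd := Subgroup.card_dvd_of_le hle
  rw [← Nat.card_congr (MonoidHom.ofInjective hinj).toEquiv, card_cent_q, hC'card] at hd
  norm_num at hd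

/-- The centraliser of the quadruple involution. -/
theorem cent_q {G : Type*} [Group G] [Finite G] {J : Subgroup G} {φ : H9 →* G}
    {ι : ∀ k : Fin 3, N9 k →* G} {ψ : alternatingGroup (Fin 9) →* G} (L : Loc J φ)
    (_B : Branch φ ι) (N : Nine φ ι ψ)
    (hv : Subgroup.centralizer ({φ ⟨v, v_mem⟩} : Set G) ≤ ψ.range) :
    Subgroup.centralizer ({φ ⟨q, q_mem⟩} : Set G) ≤ ψ.range := by
  classical
  rw [← im_eq_H N q_mem]
  obtain ⟨-, -, sa, sq, hqq, hq1, haa, ha1, hx3, hx1, haq, hxq, -, sx, hxneq⟩ := rels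
  set Q := im ψ q with hQdef
  set C := Subgroup.centralizer ({Q} : Set G) with hC
  have memC : ∀ {g : G}, g ∈ C ↔ g * Q = Q * g := fun {g} => by
    rw [hC, Subgroup.mem_centralizer_singleton_iff]
  have hel : ∀ r, im ψ (el r) ∈ C := fun r => memC.2 (by
    rw [hQdef, ← im_mul (el_facts r).1 sq, ← im_mul sq (el_facts r).1, (el_facts r).2])
  let c : Par → C := fun r => ⟨im ψ (el r), hel r⟩
  have hc_inj : Function.Injective c := fun r r' e =>
    el_inj r r' (im_inj N (el_facts r).1 (el_facts r').1 (congrArg Subtype.val e))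
  set q' : C := ⟨Q, memC.2 rfl⟩ with hq'
  have hqord : orderOf q' = 2 := by
    haveI : Fact (Nat.Prime 2) := ⟨Nat.prime_two⟩
    refine orderOf_eq_prime (Subtype.ext ?_) fun e => ?_
    · show Q ^ 2 = 1
      rw [hQdef, ← im_pow sq, pow_two, hqq, im_one]
    · exact hq1 (im_inj N sq (map_one _) ((congrArg Subtype.val e).trans im_one.symm))
  set Z := Subgroup.zpowers q' with hZ
  have hZc : Z ≤ Subgroup.center C := Subgroup.zpowers_le.2
    (Subgroup.mem_center_iff.2 fun g => Subtype.ext (memC.1 g.2))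
  haveI hZn : Z.Normal := ⟨fun z hz g => by
    rwa [Subgroup.mem_center_iff.1 (hZc hz) g, mul_inv_cancel_right]⟩
  have hZmem : ∀ z ∈ Z, z = 1 ∨ z = q' := fun z hz => by
    obtain ⟨n, rfl⟩ := Subgroup.mem_zpowers_iff.1 hz
    rw [← zpow_mod_orderOf, hqord]
    rcases Int.emod_two_eq_zero_or_one n with e | e <;>
      simp [show ((2 : ℕ) : ℤ) = 2 from rfl, e]
  set π := QuotientGroup.mk' Z with hπ
  have hπ1 : ∀ g : C, π g = 1 ↔ g ∈ Z := fun g => QuotientGroup.eq_one_iff g
  -- the element of order three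
  set x : C := ⟨im ψ xw, memC.2 (by rw [hQdef, ← im_mul sx sq, ← im_mul sq sx, hxq])⟩ with hx
  have hx3' : x ^ 3 = 1 := Subtype.ext (by
    show im ψ xw ^ 3 = 1
    rw [← im_pow sx, hx3, im_one])
  haveI : Fact (Nat.Prime 3) := ⟨Nat.prime_three⟩
  have hxo : orderOf (π x) = 3 := by
    refine orderOf_eq_prime (by rw [← map_pow, hx3', map_one]) fun e => ?_
    rcases hZmem x ((hπ1 x).1 e) with e' | e'
    · exact hx1 (im_inj N sx (map_one _) ((congrArg Subtype.val e').trans im_one.symm))
    · exact hxneq (im_inj N sx sq (congrArg Subtype.val e'))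
  have hX : Nat.card (Subgroup.zpowers (π x)) = 3 := by rw [Nat.card_zpowers, hxo]
  have hsc : Subgroup.centralizer ((Subgroup.zpowers (π x) : Subgroup (C ⧸ Z)) : Set (C ⧸ Z)) =
      Subgroup.zpowers (π x) := by
    refine le_antisymm (fun y hy => ?_) fun y hy => Subgroup.mem_centralizer_iff.2 fun z hz => ?_
    · obtain ⟨g, rfl⟩ := QuotientGroup.mk'_surjective Z y
      have hcm := Subgroup.mem_centralizer_iff.1 hy _ (Subgroup.mem_zpowers _)
      have hz : g * x * g⁻¹ * x⁻¹ ∈ Z := (hπ1 _).1 (by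
        simp only [hπ, map_mul, map_inv] at hcm ⊢
        rw [← hcm]
        group)
      have hcomm : g * x = x * g := by
        rcases hZmem _ hz with e | e
        · exact mul_inv_eq_iff_eq_mul.1 (mul_inv_eq_one.1 e)
        · exfalso
          have e' : g * x * g⁻¹ = q' * x := by rw [← e]; group
          have h3 : (q' * x) ^ 3 = 1 := by rw [← e', conj_pow, hx3', mul_one, mul_inv_cancel]
          have hcq : Commute q' x := Subtype.ext (memC.1 x.2).symm
          rw [hcq.mul_pow, hx3', mul_one] at h3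
          have := orderOf_dvd_of_pow_eq_one h3
          rw [hqord] at this
          norm_num at this
      obtain ⟨r, hr⟩ := exists_el_im N (cent_xw L N
        (Subgroup.mem_centralizer_singleton_iff.2 (congrArg Subtype.val hcomm))) (memC.1 g.2)
      have hgr : g = c r := Subtype.ext hr.symm
      have hrx := commute_iff N (el_facts r).1 sx (by
        rw [hr]; exact congrArg Subtype.val hcomm)
      have hq'' : π q' = 1 := (hπ1 q').2 (Subgroup.mem_zpowers q')
      have key : g = 1 ∨ g = x ∨ g = x * x ∨ g = q' ∨ g = q' * x ∨ g = q' * (x * x) := by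
        have sxx : Perm.sign (xw * xw) = 1 := by simp [sx]
        rcases cent_x r hrx with e | e | e | e | e | e
        · exact Or.inl (Subtype.ext (by rw [← hr, e, im_one]; rfl))
        · exact Or.inr (Or.inl (Subtype.ext (by rw [← hr, e])))
        · exact Or.inr (Or.inr (Or.inl (Subtype.ext (by rw [← hr, e, im_mul sx sx]; rfl))))
        · exact Or.inr (Or.inr (Or.inr (Or.inl (Subtype.ext (by rw [← hr, e])))))
        · exact Or.inr (Or.inr (Or.inr (Or.inr (Or.inl (Subtype.ext (by
            rw [← hr, e, im_mul sq sx]; rfl))))))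
        · exact Or.inr (Or.inr (Or.inr (Or.inr (Or.inr (Subtype.ext (by
            rw [← hr, e, im_mul sq sxx, im_mul sx sx]; rfl))))))
      have hq'' : π q' ∈ Subgroup.zpowers (π x) := hq''.symm ▸ one_mem _
      have hxm : π x ∈ Subgroup.zpowers (π x) := Subgroup.mem_zpowers _
      rcases key with e | e | e | e | e | e <;> rw [e] <;>
        (try simp only [map_mul, map_one]) <;>
        first
          | exact one_mem _
          | exact hq''
          | exact hxm
          | exact mul_mem hxm hxm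
          | exact mul_mem hq'' hxm
          | exact mul_mem hq'' (mul_mem hxm hxm)
    · obtain ⟨a, rfl⟩ := Subgroup.mem_zpowers_iff.1 hz
      obtain ⟨b, rfl⟩ := Subgroup.mem_zpowers_iff.1 hy
      exact (Commute.zpow_zpow_self (π x) a b).eq
  -- the image of the model
  have hXX : ∀ r r', ∃ s, c s = c r * c r' := fun r r' => by
    obtain ⟨s, hs⟩ := exists_el (p := el r * el r') (by
      rw [mul_assoc, (el_facts r').2, ← mul_assoc, (el_facts r).2, mul_assoc])
      (by simp [(el_facts r).1, (el_facts r').1])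
    exact ⟨s, Subtype.ext (show im ψ (el s) = im ψ (el r) * im ψ (el r') by
      rw [hs, im_mul (el_facts r).1 (el_facts r').1])⟩
  have hc0 : c ((0, 0, 0, 0, 0), 0, 0) = 1 := Subtype.ext (show im ψ (el _) = 1 by
    rw [nn_el, nn_named.2.2.1, im_one])
  let X : Subgroup C := ofMul (Set.range c) ⟨_, hc0⟩ (by
    rintro _ ⟨r, rfl⟩ _ ⟨r', rfl⟩
    exact hXX r r')
  have hXc : Nat.card X = 192 := by
    show Nat.card (Set.range c) = 192
    rw [Nat.card_range_of_injective hc_inj]
    simp [Par, Idx]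
  have hqX : q' ∈ X := ⟨((1, 0, 1, 0, 0), 0, 0), Subtype.ext (show im ψ (el _) = Q by
    rw [nn_el, nn_named.1])⟩
  -- the nilpotent normal subgroup of index dividing sixty
  obtain ⟨K, hKn, hqK, hKnil, hK3, hKi⟩ : ∃ K : Subgroup C, K.Normal ∧ q' ∈ K ∧
      Group.IsNilpotent K ∧ (Nat.card K).Coprime 3 ∧ K.index ∣ 60 := by
    have hbuild : ∀ N' : Subgroup (C ⧸ Z), N'.Normal → Group.IsNilpotent N' →
        (Nat.card N').Coprime 3 → N'.index ∣ 60 → ∃ K : Subgroup C, K.Normal ∧ q' ∈ K ∧
        Group.IsNilpotent K ∧ (Nat.card K).Coprime 3 ∧ K.index ∣ 60 := by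
      intro N' hn hnil h3 hi
      have hsur : Function.Surjective π := QuotientGroup.mk'_surjective Z
      refine ⟨N'.comap π, hn.comap π, ?_, ?_, ?_, by rwa [Subgroup.index_comap_of_surjective _ hsur]⟩
      · rw [Subgroup.mem_comap, (hπ1 q').2 (Subgroup.mem_zpowers q')]
        exact one_mem _
      · haveI := hnil
        refine Subgroup.isNilpotent_of_ker_le_center
          (f := (π.comp (N'.comap π).subtype).codRestrict N' fun k => k.2) (fun k hk => ?_)
        refine Subgroup.mem_center_iff.2 fun m => Subtype.ext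
          (Subgroup.mem_center_iff.1 (hZc ((hπ1 _).1 ?_)) _)
        exact congrArg Subtype.val hk
      · have h1 := Subgroup.card_mul_index (N'.comap π)
        rw [Subgroup.index_comap_of_surjective _ hsur] at h1
        have h2 := Subgroup.card_mul_index N'
        have h4 := Subgroup.card_eq_card_quotient_mul_card_subgroup Z
        rw [hZ, Nat.card_zpowers, hqord, ← hZ, ← h2] at h4
        rw [h4] at h1
        have hpos : 0 < N'.index := Nat.pos_of_ne_zero Subgroup.index_ne_zero_of_finite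
        have hcd : Nat.card (N'.comap π) = Nat.card N' * 2 :=
          Nat.eq_of_mul_eq_mul_right hpos (by rw [h1]; ring)
        rw [hcd]
        exact Nat.Coprime.mul_left h3 (by norm_num)
    rcases Cfsg.Agent.S3331.result (Subgroup.zpowers (π x)) hX hsc with
      ⟨N', hn, hnil, h3, hq3⟩ | ⟨N', hn, hcomm, h2, ⟨e⟩⟩ | ⟨⟨e⟩⟩
    · refine hbuild N' hn hnil h3 ?_
      rw [Subgroup.index_eq_card]
      rcases hq3 with h | ⟨⟨e⟩⟩
      · rw [h]; norm_num
      · rw [Nat.card_congr e.toEquiv, Nat.card_perm, Nat.card_fin]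
        norm_num [Nat.factorial]
    · haveI := hcomm
      refine hbuild N' hn ?_ ?_ ?_
      · exact (IsPGroup.isNilpotent (p := 2) fun n => ⟨1, Subtype.ext (by simpa using h2 n n.2)⟩)
      · obtain ⟨k, hk⟩ := IsPGroup.iff_card.1
          (fun n => ⟨1, Subtype.ext (by simpa using h2 n n.2)⟩ : IsPGroup 2 N')
        rw [hk]
        exact Nat.Coprime.pow_left _ (by norm_num)
      · rw [Subgroup.index_eq_card, Nat.card_congr e.toEquiv,
          nat_card_alternatingGroup, Nat.card_fin]
        norm_num [Nat.factorial]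
    · exfalso
      have hd := Subgroup.card_subgroup_dvd_card (X.map π)
      have h96 : Nat.card (X.map π) = 96 := by
        have h1 := Subgroup.card_mul_index (Z.subgroupOf X)
        have hZX : Z ≤ X := Subgroup.zpowers_le.2 hqX
        have hZ2 : Nat.card Z = 2 := by rw [hZ, Nat.card_zpowers, hqord]
        rw [Nat.card_congr (Subgroup.subgroupOfEquivOfLe hZX).toEquiv, hXc, hZ2] at h1
        have h2 : Z.relIndex X = Nat.card (X.map π) := by
          have := Subgroup.relIndex_ker π (K := X)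
          rwa [show π.ker = Z from QuotientGroup.ker_mk' Z] at this
        rw [← h2, Subgroup.relIndex]
        omega
      haveI : Fact (Nat.Prime 7) := ⟨by norm_num⟩
      have h168 : Nat.card (Matrix.ProjectiveSpecialLinearGroup (Fin 2) (ZMod 7)) = 168 := by
        rw [Cfsg.Agent.PSLCard.card_PSL2_odd (F := ZMod 7) (by rw [Nat.card_zmod]; decide),
          Nat.card_zmod]
        norm_num
      rw [h96, Nat.card_congr e.toEquiv, h168] at hd
      norm_num at hd
  haveI := hKn
  haveI : Fact (Nat.Prime 2) := ⟨Nat.prime_two⟩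
  -- the intersection with the model
  set M := K ⊓ X with hM
  have hMd : 192 / Nat.card M ∣ 60 ∧ Nat.card M ∣ 192 ∧ (Nat.card M).Coprime 3 := by
    have h1 := Subgroup.card_mul_index (M.subgroupOf X)
    rw [Nat.card_congr (Subgroup.subgroupOfEquivOfLe (inf_le_right : M ≤ X)).toEquiv, hXc] at h1
    refine ⟨?_, ⟨_, h1.symm⟩, hK3.coprime_dvd_left (Subgroup.card_dvd_of_le inf_le_left)⟩
    rw [← h1, Nat.mul_div_cancel_left _ Nat.card_pos]
    have h2 : M.subgroupOf X = K.subgroupOf X := Subgroup.inf_subgroupOf_right K X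
    rw [h2]
    exact (Subgroup.relIndex_dvd_index_of_normal K X).trans hKi
  have hM64 : 16 ≤ Nat.card M ∧ Nat.card M ∣ 64 := by
    have h3 : Nat.card M ∣ 64 :=
      hMd.2.2.dvd_of_dvd_mul_right (show Nat.card M ∣ 64 * 3 from hMd.2.1)
    refine ⟨?_, h3⟩
    obtain ⟨i, hi, he⟩ := (Nat.dvd_prime_pow Nat.prime_two).1 (show Nat.card M ∣ 2 ^ 6 from h3)
    have h60 := hMd.1
    rw [he] at h60 ⊢
    interval_cases i <;> first | omega | norm_num at h60
  have memN : ∀ {i}, im ψ (nn i) ∈ C := fun {i} => nn_el i ▸ hel _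
  let n : Idx → C := fun i => ⟨im ψ (nn i), memN⟩
  have hn_inj : Function.Injective n := fun i j e => by
    have h1 : Perm.sign (nn i) = 1 := nn_el i ▸ (el_facts _).1
    have h2 : Perm.sign (nn j) = 1 := nn_el j ▸ (el_facts _).1
    have := el_inj (i, 0, 0) (j, 0, 0) (by
      rw [nn_el, nn_el]; exact im_inj N h1 h2 (congrArg Subtype.val e))
    exact congrArg Prod.fst this
  have hn_sign : ∀ i, Perm.sign (nn i) = 1 := fun i => nn_el i ▸ (el_facts _).1
  let N0 : Subgroup C := ofMul (Set.range n)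
    ⟨(0, 0, 0, 0, 0), Subtype.ext (show im ψ (nn _) = 1 by rw [nn_named.2.2.1, im_one])⟩ (by
      rintro _ ⟨i, rfl⟩ _ ⟨j, rfl⟩
      obtain ⟨k, hk⟩ := nn_mul i j
      exact ⟨k, Subtype.ext (show im ψ (nn k) = im ψ (nn i) * im ψ (nn j) by
        rw [hk, im_mul (hn_sign i) (hn_sign j)])⟩)
  have hN0c : Nat.card N0 = 32 := by
    show Nat.card (Set.range n) = 32
    rw [Nat.card_range_of_injective hn_inj]
    simp [Idx]
  have hN0X : N0 ≤ X := by
    rintro _ ⟨i, rfl⟩
    exact ⟨(i, 0, 0), Subtype.ext (show im ψ (el _) = im ψ (nn i) by rw [nn_el])⟩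
  have hxX : x ∈ X := ⟨((0, 0, 0, 0, 0), 1, 0), Subtype.ext (show im ψ (el _) = im ψ xw by
    rw [nn_named.2.2.2])⟩
  -- `M` consists of elements of `N0`
  have hcommx : ∀ m ∈ M, x * m * x⁻¹ * m⁻¹ ∈ M := fun m hm =>
    ⟨K.mul_mem (hKn.conj_mem m hm.1 x) (K.inv_mem hm.1),
      X.mul_mem (X.mul_mem (X.mul_mem hxX hm.2) (X.inv_mem hxX)) (X.inv_mem hm.2)⟩
  have hM4 : ∀ r, c r ∈ M → el r ^ 4 = 1 := fun r hr => by
    have hs := (el_facts r).1
    have h64 : c r ^ 64 = 1 :=
      orderOf_dvd_iff_pow_eq_one.1 ((Subgroup.orderOf_dvd_natCard M hr).trans hM64.2)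
    have h64' : el r ^ 64 = 1 := im_inj N (by simp [hs]) (map_one _)
      (by rw [im_pow hs, im_one]; exact congrArg Subtype.val h64)
    have h4 : orderOf (el r) ∣ Nat.gcd 64 12 :=
      Nat.dvd_gcd (orderOf_dvd_of_pow_eq_one h64') (orderOf_dvd_of_pow_eq_one (el_pow r))
    exact orderOf_dvd_iff_pow_eq_one.1 h4
  have hMN : M ≤ N0 := by
    intro m hm
    obtain ⟨r, rfl⟩ := hm.2
    have hs := (el_facts r).1
    obtain ⟨s, hs'⟩ := (hcommx _ hm).2
    have hval : el s = xw * el r * xw⁻¹ * (el r)⁻¹ := by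
      refine im_inj N (el_facts s).1 (by simp [sx, hs]) ?_
      rw [im_mul (by simp [sx, hs]) (by simp [hs]), im_inv hs, im_conj sx hs]
      exact congrArg Subtype.val hs'
    rcases out_nn r with e | e | e
    · refine ⟨r.1, Subtype.ext (show im ψ (nn r.1) = im ψ (el r) from ?_)⟩
      rw [← nn_el, show ((r.1, 0, 0) : Par) = r from Prod.ext rfl e.symm]
    · exact absurd (hM4 r hm) e
    · refine absurd ?_ e
      rw [← hval]
      exact hM4 s (hs'.symm ▸ hcommx _ hm)
  have hN0M : N0 ≤ M := by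
    have hqM : q' ∈ M := ⟨hqK, hqX⟩
    have hcm : ∀ j, x * n j * x⁻¹ * (n j)⁻¹ ∈ M := fun j => by
      obtain ⟨j', hj'⟩ := nn_conj_x j
      have hconj : n j' = x * n j * x⁻¹ := Subtype.ext (show im ψ (nn j') =
        im ψ xw * im ψ (nn j) * (im ψ xw)⁻¹ by rw [hj', im_conj sx (hn_sign j)])
      have hidx : (M.subgroupOf N0).index = 1 ∨ (M.subgroupOf N0).index = 2 := by
        have h1 := Subgroup.card_mul_index (M.subgroupOf N0)
        rw [Nat.card_congr (Subgroup.subgroupOfEquivOfLe hMN).toEquiv, hN0c] at h1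
        have hle : (M.subgroupOf N0).index ≤ 2 := by nlinarith [hM64.1]
        have h0 := Subgroup.index_ne_zero_of_finite (H := M.subgroupOf N0)
        omega
      rcases hidx with h1 | h2
      · have : N0 ≤ M := Subgroup.subgroupOf_eq_top.1 (Subgroup.index_eq_one.1 h1)
        exact M.mul_mem (hconj ▸ this ⟨j', rfl⟩) (M.inv_mem (this ⟨j, rfl⟩))
      · have hmm := (Subgroup.mul_mem_iff_of_index_two h2 (a := ⟨n j', j', rfl⟩)
          (b := (⟨n j, j, rfl⟩ : N0)⁻¹)).2 ?_
        · rw [Subgroup.mem_subgroupOf] at hmm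
          exact hconj ▸ hmm
        rw [Subgroup.inv_mem_iff, Subgroup.mem_subgroupOf, Subgroup.mem_subgroupOf]
        show n j' ∈ M ↔ n j ∈ M
        rw [hconj]
        constructor
        · intro hh
          have h3 : n j ∈ K := by
            have := hKn.conj_mem _ hh.1 x⁻¹
            simpa [mul_assoc] using this
          exact ⟨h3, hN0X ⟨j, rfl⟩⟩
        · intro hh
          exact ⟨hKn.conj_mem _ hh.1 x, X.mul_mem (X.mul_mem hxX hh.2) (X.inv_mem hxX)⟩
    rintro _ ⟨i, rfl⟩
    obtain ⟨j, hj | hj⟩ := nn_comm i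
    · have : n i = x * n j * x⁻¹ * (n j)⁻¹ := Subtype.ext (show im ψ (nn i) =
        im ψ xw * im ψ (nn j) * (im ψ xw)⁻¹ * (im ψ (nn j))⁻¹ by
          rw [hj, im_mul (by simp [sx, hn_sign j]) (by simp [hn_sign j]), im_inv (hn_sign j),
            im_conj sx (hn_sign j)])
      exact this ▸ hcm j
    · have : n i = x * n j * x⁻¹ * (n j)⁻¹ * q' := Subtype.ext (show im ψ (nn i) =
        im ψ xw * im ψ (nn j) * (im ψ xw)⁻¹ * (im ψ (nn j))⁻¹ * Q by
          rw [hj, im_mul (by simp [sx, hn_sign j]) sq, im_mul (by simp [sx, hn_sign j])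
            (by simp [hn_sign j]), im_inv (hn_sign j), im_conj sx (hn_sign j)])
      exact this ▸ M.mul_mem (hcm j) hqM
  have hA : n (1, 0, 0, 0, 0) ∈ N0 := ⟨_, rfl⟩
  -- an element normalising `N0` lies in the copy
  have hnorm : ∀ g : C, (∀ a ∈ N0, g * a * g⁻¹ ∈ N0) → g ∈ X := fun g hg => by
    obtain ⟨i, hi⟩ := hg _ hA
    have hi' : im ψ (nn i) = (g : G) * im ψ a1 * (g : G)⁻¹ := by
      have := congrArg Subtype.val hi
      rw [← show ((n (1, 0, 0, 0, 0) : C) : G) = im ψ a1 from congrArg (im ψ) nn_named.2.1]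
      exact this
    have hsq : nn i * nn i = 1 := by
      refine im_inj N (by simp [hn_sign i]) (map_one _) ?_
      rw [im_mul (hn_sign i) (hn_sign i), hi', im_one,
        show (g : G) * im ψ a1 * (g : G)⁻¹ * ((g : G) * im ψ a1 * (g : G)⁻¹) =
          (g : G) * (im ψ a1 * im ψ a1) * (g : G)⁻¹ by group, ← im_mul sa sa, haa, im_one,
        mul_one, mul_inv_cancel]
    have hgR : (g : G) ∈ ψ.range := by
      rcases nn_inv_cases i hsq with e | ⟨p, -, e⟩ | ⟨⟨p, k⟩, -, e⟩
      · rw [e, im_one] at hi'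
        exact absurd (im_inj N sa (map_one _) ((conj_eq_one_iff.1 hi'.symm).trans im_one.symm)) ha1
      · rw [← e, im_conj (el_facts p).1 sa] at hi'
        have h1 : (im ψ (el p))⁻¹ * g ∈ ψ.range :=
          cent_a1 N hv (Subgroup.mem_centralizer_singleton_iff.2 (by
            calc (im ψ (el p))⁻¹ * g * im ψ a1
                = (im ψ (el p))⁻¹ * ((g : G) * im ψ a1 * (g : G)⁻¹) * g := by group
              _ = (im ψ (el p))⁻¹ * (im ψ (el p) * im ψ a1 * (im ψ (el p))⁻¹) * g := by rw [hi']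
              _ = _ := by group))
        have := ψ.range.mul_mem (im_mem (el p)) h1
        simpa using this
      · exfalso
        have hs : Perm.sign (el p * qmap k) = 1 := by simp [(el_facts p).1, qmap_sign k]
        rw [← e, im_conj hs sq] at hi'
        refine not_conj N hv ((im ψ (el p * qmap k))⁻¹ * g) ?_
        calc (im ψ (el p * qmap k))⁻¹ * g * im ψ a1 * ((im ψ (el p * qmap k))⁻¹ * g)⁻¹
            = (im ψ (el p * qmap k))⁻¹ * ((g : G) * im ψ a1 * (g : G)⁻¹) * im ψ (el p * qmap k) := by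
              group
          _ = Q := by rw [← hi', hQdef]; group
    obtain ⟨r, hr⟩ := exists_el_im N hgR (memC.1 g.2)
    exact ⟨r, Subtype.ext hr⟩
  -- `K` is a two-group
  have hK2 : IsPGroup 2 K := by
    obtain ⟨m, hm⟩ : ∃ m, Nat.card K = 2 ^ m := by
      by_contra hne
      obtain ⟨p, hp, hpd, hp2⟩ : ∃ p, p.Prime ∧ p ∣ Nat.card K ∧ p ≠ 2 := by
        by_contra hcon
        push Not at hcon
        exact hne ⟨_, Nat.eq_prime_pow_of_unique_prime_dvd Nat.card_pos.ne' fun {d} hd hdd => hcon d hd hdd⟩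
      haveI : Fact p.Prime := ⟨hp⟩
      haveI := hKnil
      obtain ⟨z, hz⟩ := exists_prime_orderOf_dvd_card' (G := K) p hpd
      set a' : K := ⟨n (1, 0, 0, 0, 0), (hN0M hA).1⟩
      have ha2 : a' * a' = 1 := Subtype.ext (Subtype.ext (show im ψ (nn _) * im ψ (nn _) = 1 by
        rw [nn_named.2.1, ← im_mul sa sa, haa, im_one]))
      obtain ⟨P, hP⟩ := (IsPGroup.of_card (G := Subgroup.zpowers z) (p := p) (n := 1)
        (by rw [Nat.card_zpowers, hz, pow_one])).exists_le_sylow
      have h2 : IsPGroup 2 (Subgroup.zpowers a') := fun w => ⟨1, Subtype.ext (by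
        obtain ⟨k, hk⟩ := Subgroup.mem_zpowers_iff.1 w.2
        show (w : K) ^ 2 ^ 1 = 1
        rw [← hk, pow_one, ← zpow_natCast, ← zpow_mul, mul_comm, zpow_mul, zpow_natCast, pow_two,
          ha2, one_zpow])⟩
      obtain ⟨T, hT⟩ := h2.exists_le_sylow
      haveI hPn : (P : Subgroup K).Normal :=
        Sylow.normal_of_normalizerCondition Group.normalizerCondition_of_isNilpotent P
      haveI hTn : (T : Subgroup K).Normal :=
        Sylow.normal_of_normalizerCondition Group.normalizerCondition_of_isNilpotent T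
      have hcomm : Commute z a' := Subgroup.commute_of_normal_of_disjoint _ _ hPn hTn
        (IsPGroup.disjoint_of_ne p 2 hp2 _ _ P.isPGroup' T.isPGroup') z a'
        (hP (Subgroup.mem_zpowers z)) (hT (Subgroup.mem_zpowers a'))
      have hzR : ((z : C) : G) ∈ ψ.range := cent_a1 N hv (Subgroup.mem_centralizer_singleton_iff.2 (by
        rw [← nn_named.2.1]
        exact congrArg (fun w : K => ((w : C) : G)) hcomm.eq))
      obtain ⟨r, hr⟩ := exists_el_im N hzR (memC.1 (z : C).2)
      have hzX : (z : C) ∈ X := ⟨r, Subtype.ext hr⟩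
      have hd : p ∣ Nat.card M := by
        rw [← hz, ← Subgroup.orderOf_coe]
        exact Subgroup.orderOf_dvd_natCard M ⟨z.2, hzX⟩
      exact hp2 ((Nat.prime_dvd_prime_iff_eq hp Nat.prime_two).1
        (hp.dvd_of_dvd_pow (show p ∣ 2 ^ 6 from hd.trans hM64.2)))
    exact IsPGroup.of_card hm
  have hKN : K ≤ N0 := by
    refine le_of_eq (eq_of_normalizer_le (fun a ha => (hN0M ha).1) hK2 fun g hg hgn => ?_).symm
    exact hMN ⟨hg, hnorm g hgn⟩
  intro g hg
  obtain ⟨r, hr⟩ := hnorm ⟨g, hg⟩ fun a ha => hKN (hKn.conj_mem a (hN0M ha).1 ⟨g, hg⟩)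
  have hgr : im ψ (el r) = g := congrArg Subtype.val hr
  exact hgr ▸ im_mem _

end Cfsg.Agent.A9CentQ67
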