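import Cfsg.Agent.Lib.A9Base59

/-!
The centraliser of the quadruple involution `q = (03)(14)(25)(67)` in the alternating group of
degree nine, for the endgame of S3339: its parametrisation and the decided facts.
-/

set_option autoImplicit false
set_option maxRecDepth 100000

namespace Cfsg.Agent.A9CentQ67

open Equiv Cfsg.Agent.A9Base59

/-- `(03)(14)` -/
def a1 : P9 := swap 0 3 * swap 1 4
/-- `(14)(25)` -/
def a2 : P9 := swap 1 4 * swap 2 5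
/-- `(25)(67)` -/
def a3 : P9 := swap 2 5 * swap 6 7
/-- `(01)(34)(26)(57)` -/
def t1 : P9 := swap 0 1 * swap 3 4 * swap 2 6 * swap 5 7
/-- `(02)(35)(16)(47)` -/
def t2 : P9 := swap 0 2 * swap 3 5 * swap 1 6 * swap 4 7
/-- `(012)(345)` -/
def xw : P9 := swap 0 1 * swap 1 2 * (swap 3 4 * swap 4 5)
/-- `(01)(34)` -/
def sw : P9 := swap 0 1 * swap 3 4

abbrev Idx := Fin 2 × Fin 2 × Fin 2 × Fin 2 × Fin 2

/-- The elements of `O₂(C(q))`. -/
def nn (i : Idx) : P9 :=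
  a1 ^ i.1.val * a2 ^ i.2.1.val * a3 ^ i.2.2.1.val * t1 ^ i.2.2.2.1.val * t2 ^ i.2.2.2.2.val

abbrev Par := Idx × Fin 3 × Fin 2

/-- The elements of `C(q)`. -/
def el (p : Par) : P9 := nn p.1 * xw ^ p.2.1.val * sw ^ p.2.2.val

theorem el_facts : ∀ p : Par, Perm.sign (el p) = 1 ∧ el p * q = q * el p := by
  decide +kernel

/-- The keys of the parameters, in lexicographic order. -/
def keys : List ℕ :=
  [105, 753, 897, 1545, 1473, 177, 1945, 4537, 4393, 505, 217, 1513, 785, 137, 497, 4385,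
   4457, 1217, 4545, 1953, 1593, 945, 1233, 4473, 133, 781, 1141, 3733, 3661, 421, 4213, 5509,
   5149, 613, 469, 3709, 797, 149, 581, 5117, 5189, 1301, 5517, 4221, 3789, 1197, 1341, 5229,
   375, 2967, 3327, 3975, 3687, 447, 4135, 4783, 4423, 535, 463, 3703, 2975, 383, 527, 4415,
   4703, 3407, 4815, 4167, 4023, 3375, 3447, 4743, 349, 2941, 3085, 1789, 1501, 205, 2029, 5269,
   5125, 589, 229, 1525, 2981, 389, 605, 5141, 5429, 3485, 5301, 2061, 1845, 3141, 3501, 5445,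
   2535, 3183, 3111, 1815, 1743, 2391, 1975, 4567, 4639, 2695, 2407, 1759, 3215, 2567, 2711, 4655,
   4727, 3431, 4575, 1983, 1839, 3135, 3423, 4719, 2563, 3211, 3355, 4003, 3931, 2635, 4243, 5539,
   5395, 2803, 2659, 3955, 3227, 2579, 2795, 5387, 5459, 3515, 5547, 4251, 4035, 3387, 3531, 5475,
   2319, 1023, 1167, 3759, 3903, 2607, 4159, 4807, 4663, 2719, 2647, 3943, 1031, 2327, 2687, 4631,
   4487, 1247, 4791, 4143, 3783, 1191, 1263, 4503, 2293, 997, 925, 1573, 1717, 2365, 2053, 5293,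
   5365, 2773, 2413, 1765, 1037, 2333, 2765, 5357, 5213, 1325, 5277, 2037, 1605, 957, 1317, 5205]

/-- The key of a permutation. -/
def key (p : P9) : ℕ := (((p 0).val * 9 + (p 1).val) * 9 + (p 2).val) * 9 + (p 6).val

/-- The parameter at a position. -/
def ofPos (n : ℕ) : Par :=
  ((Fin.ofNat 2 (n / 96), Fin.ofNat 2 (n / 48), Fin.ofNat 2 (n / 24), Fin.ofNat 2 (n / 12),
    Fin.ofNat 2 (n / 6)), Fin.ofNat 3 (n / 2), Fin.ofNat 2 n)

theorem key_spec : ∀ p : Par, ofPos (keys.idxOf (key (el p))) = p := by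
  decide +kernel

theorem el_inj (p r : Par) (h : el p = el r) : p = r := by
  rw [← key_spec p, ← key_spec r, h]

theorem nn_mul : ∀ i j : Idx, ∃ k, nn k = nn i * nn j := by
  decide +kernel

theorem nn_el : ∀ i : Idx, el (i, 0, 0) = nn i := by
  decide +kernel

theorem nn_named : nn (1, 0, 1, 0, 0) = q ∧ nn (1, 0, 0, 0, 0) = a1 ∧
    nn (0, 0, 0, 0, 0) = 1 ∧ el ((0, 0, 0, 0, 0), 1, 0) = xw := by
  decide +kernel

theorem el_pow : ∀ p : Par, el p ^ 12 = 1 := by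
  decide +kernel

theorem out_nn : ∀ p : Par, p.2 = (0, 0) ∨ el p ^ 4 ≠ 1 ∨
    (xw * el p * xw⁻¹ * (el p)⁻¹) ^ 4 ≠ 1 := by
  decide +kernel

theorem nn_comm : ∀ i : Idx, ∃ j, nn i = xw * nn j * xw⁻¹ * (nn j)⁻¹ ∨
    nn i = xw * nn j * xw⁻¹ * (nn j)⁻¹ * q := by
  decide +kernel

theorem nn_conj_x : ∀ i : Idx, ∃ j, nn j = xw * nn i * xw⁻¹ := by
  decide +kernel

theorem cent_x : ∀ p : Par, el p * xw = xw * el p →
    el p = 1 ∨ el p = xw ∨ el p = xw * xw ∨ el p = q ∨ el p = q * xw ∨ el p = q * (xw * xw) := by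
  decide +kernel

/-- Conjugators from `q` to the other quadruple involutions of `O₂(C(q))`. -/
def qmap : Fin 3 → P9 :=
  ![1, swap 1 2 * swap 2 3 * (swap 4 6 * swap 6 5), swap 1 2 * swap 2 3 * (swap 4 7 * swap 7 5)]

theorem qmap_sign : ∀ k, Perm.sign (qmap k) = 1 := by
  decide +kernel

/-- Witnesses for the double involutions. -/
def w1 : List Par :=
  [((0, 0, 0, 0, 0), 0, 0),
   ((0, 0, 0, 0, 0), 1, 0),
   ((0, 0, 0, 0, 0), 2, 0),
   ((0, 0, 0, 0, 1), 0, 0),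
   ((0, 0, 0, 0, 1), 1, 0),
   ((0, 0, 0, 1, 0), 2, 0)]

/-- Witnesses for the quadruple involutions. -/
def w2 : List (Par × Fin 3) :=
  [(((0, 0, 0, 0, 0), 0, 0), 0),
   (((0, 0, 0, 0, 0), 0, 0), 1),
   (((0, 0, 0, 0, 0), 1, 0), 1),
   (((0, 0, 0, 0, 0), 2, 0), 1),
   (((0, 0, 1, 0, 0), 1, 0), 1),
   (((0, 0, 1, 0, 0), 2, 0), 1),
   (((0, 1, 0, 0, 0), 0, 0), 1),
   (((0, 0, 0, 0, 0), 0, 0), 2),
   (((0, 0, 0, 0, 0), 1, 0), 2),
   (((0, 0, 0, 0, 0), 2, 0), 2),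
   (((0, 0, 0, 0, 1), 0, 0), 2),
   (((0, 0, 0, 0, 1), 1, 0), 2),
   (((0, 0, 0, 1, 0), 2, 0), 2)]

theorem nn_inv_cases : ∀ i : Idx, nn i * nn i = 1 → nn i = 1 ∨
    (∃ p ∈ w1, el p * a1 * (el p)⁻¹ = nn i) ∨
    ∃ pk ∈ w2, el pk.1 * qmap pk.2 * q * (el pk.1 * qmap pk.2)⁻¹ = nn i := by
  decide +kernel

/-- A conjugator from `v` to `(03)(14)`. -/
def sig : P9 :=
  swap 0 2 * swap 2 6 * swap 6 8 * swap 8 1 * swap 1 5 * swap 5 3 * swap 3 7 * swap 7 4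

theorem rels : Perm.sign sig = 1 ∧ sig * v * sig⁻¹ = a1 ∧ Perm.sign a1 = 1 ∧ Perm.sign q = 1 ∧
    q * q = 1 ∧ q ≠ 1 ∧ a1 * a1 = 1 ∧ a1 ≠ 1 ∧ xw ^ 3 = 1 ∧ xw ≠ 1 ∧ a1 * q = q * a1 ∧
    xw * q = q * xw ∧ e 0 * e 1 = xw ∧ Perm.sign xw = 1 ∧ xw ≠ q := by
  decide +kernel

theorem odd_cent : (swap 0 3 * q = q * swap 0 3 ∧ Perm.sign (swap 0 3 : P9) ≠ 1) ∧
    (swap 0 3 * a1 = a1 * swap 0 3) := by
  decide +kernel

theorem cycle_types : q.cycleType = {2, 2, 2, 2} ∧ a1.cycleType = {2, 2} := by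
  decide +kernel

end Cfsg.Agent.A9CentQ67
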