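import Mathlib

/-!
Algebra for the class equations of the six exceptional virtual characters.  For each constituent of
signed degree `l` and values `u`, `w` at the two involutions the deviations are `1 - u/l`, `1 - w/l`.
-/

set_option autoImplicit false

namespace Cfsg.Agent.A9LocalAlg49

/-- The two functions `1 + ξ ± T + _`. -/
theorem e_part (x t w v du dw eu ew fu fw gu gw p q : ℝ) (hx : x ≠ 0) (ht : t ≠ 0)
    (hp : p ≠ 0) (hq : q ≠ 0)
    (s1 : 1 + x + t + w = 0) (s2 : 1 + x - t + v = 0)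
    (m1u : x * du + t * eu + w * fu = 0) (m1w : x * dw + t * ew + w * fw = 0)
    (m2u : x * du - t * eu + v * gu = 0) (m2w : x * dw - t * ew + v * gw = 0)
    (a00 : x * du ^ 2 + t * eu ^ 2 + w * fu ^ 2 = 0)
    (a01 : x * du * dw + t * eu * ew + w * fu * fw = 3 * p * q)
    (a11 : x * dw ^ 2 + t * ew ^ 2 + w * fw ^ 2 = 3 * q ^ 2)
    (b00 : x * du ^ 2 - t * eu ^ 2 + v * gu ^ 2 = 3 / 2 * p ^ 2)
    (b01 : x * du * dw - t * eu * ew + v * gu * gw = 3 / 2 * p * q)
    (b11 : x * dw ^ 2 - t * ew ^ 2 + v * gw ^ 2 = 9 / 2 * q ^ 2) :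
    1 + x ≠ 0 ∧ 3 * t = -(1 + x) ∧ x * du ^ 2 = (1 + x) * p ^ 2 ∧
      x * du * dw = 2 * (1 + x) * p * q ∧ x * dw ^ 2 = 4 * (1 + x) * q ^ 2 ∧
      ((1 + x) * ew - x * dw) ^ 2 = 2 * (1 + x) * q ^ 2 := by
  obtain rfl : w = -(1 + x + t) := by linarith
  obtain rfl : v = -(1 + x - t) := by linarith
  have A00 : x * du ^ 2 + t * eu ^ 2 + x * t * (du - eu) ^ 2 = 0 := by
    linear_combination (1 + x + t) * a00 - (x * du + t * eu - (-(1 + x + t)) * fu) * m1u
  have A01 : x * du * dw + t * eu * ew + x * t * (du - eu) * (dw - ew) =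
      (1 + x + t) * (3 * p * q) := by
    linear_combination (1 + x + t) * a01 - (x * du + t * eu) * m1w + ((-(1 + x + t)) * fw) * m1u
  have A11 : x * dw ^ 2 + t * ew ^ 2 + x * t * (dw - ew) ^ 2 = (1 + x + t) * (3 * q ^ 2) := by
    linear_combination (1 + x + t) * a11 - (x * dw + t * ew - (-(1 + x + t)) * fw) * m1w
  have B00 : x * du ^ 2 - t * eu ^ 2 - x * t * (du - eu) ^ 2 =
      (1 + x - t) * (3 / 2 * p ^ 2) := by
    linear_combination (1 + x - t) * b00 - (x * du - t * eu - (-(1 + x - t)) * gu) * m2u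
  have B01 : x * du * dw - t * eu * ew - x * t * (du - eu) * (dw - ew) =
      (1 + x - t) * (3 / 2 * p * q) := by
    linear_combination (1 + x - t) * b01 - (x * du - t * eu) * m2w + ((-(1 + x - t)) * gw) * m2u
  have B11 : x * dw ^ 2 - t * ew ^ 2 - x * t * (dw - ew) ^ 2 =
      (1 + x - t) * (9 / 2 * q ^ 2) := by
    linear_combination (1 + x - t) * b11 - (x * dw - t * ew - (-(1 + x - t)) * gw) * m2w
  have e00 : x * du ^ 2 = 3 / 4 * (1 + x - t) * p ^ 2 := by linear_combination (A00 + B00) / 2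
  have e01 : x * du * dw = (9 / 4 * (1 + x) + 3 / 4 * t) * p * q := by
    linear_combination (A01 + B01) / 2
  have e11 : x * dw ^ 2 = (15 / 4 * (1 + x) - 3 / 4 * t) * q ^ 2 := by
    linear_combination (A11 + B11) / 2
  have hdet : (p * q) ^ 2 * ((1 + x) * (1 + x + 3 * t)) = 0 := by
    linear_combination (4 / 9 : ℝ) * ((x * dw ^ 2) * e00 + (3 / 4 * (1 + x - t) * p ^ 2) * e11 -
      (x * du * dw + (9 / 4 * (1 + x) + 3 / 4 * t) * p * q) * e01)
  have hS : 1 + x ≠ 0 := by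
    intro h0
    obtain rfl : x = -1 := by linarith
    have hdu : du * (q * du + p * dw) = 0 := by linear_combination (-q) * e00 - p * e01
    have hdu0 : du ≠ 0 := by
      rintro rfl
      have : t * p ^ 2 = 0 := by linear_combination (4 / 3 : ℝ) * e00
      rcases mul_eq_zero.mp this with h | h
      · exact ht h
      · exact hp (pow_eq_zero_iff two_ne_zero |>.mp h)
    have hd := (mul_eq_zero.mp hdu).resolve_left hdu0
    have : t * (p * q) ^ 2 = 0 := by
      linear_combination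
        (1 / 18 : ℝ) * (-(q ^ 2) * (A00 - B00) - 2 * p * q * (A01 - B01) - p ^ 2 * (A11 - B11)) +
        (1 / 18 : ℝ) * (4 * t * (q * eu + p * ew) - 2 * t * (q * du + p * dw)) * hd
    rcases mul_eq_zero.mp this with h | h
    · exact ht h
    · exact mul_ne_zero hp hq (pow_eq_zero_iff two_ne_zero |>.mp h)
  have ht3 : 3 * t = -(1 + x) := by
    have h := (mul_eq_zero.mp ((mul_eq_zero.mp hdet).resolve_left
      (pow_ne_zero 2 (mul_ne_zero hp hq)))).resolve_left hS
    linarith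
  obtain rfl : t = -(1 + x) / 3 := by linarith
  have f00 : x * du ^ 2 = (1 + x) * p ^ 2 := by linear_combination e00
  have f01 : x * du * dw = 2 * (1 + x) * p * q := by linear_combination e01
  have f11 : x * dw ^ 2 = 4 * (1 + x) * q ^ 2 := by linear_combination e11
  refine ⟨hS, ht3, f00, f01, f11, ?_⟩
  linear_combination (-3 / 2 : ℝ) * (A11 - B11) - f11

/-- The functions `A + υ - ξ` and `1 + υ + Z + Z'`. -/
theorem z_part (x y A z1 z2 du dw au aw bu bw cu cw ku kw p q : ℝ)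
    (hx : x ≠ 0) (hy : y ≠ 0) (hA : A ≠ 0) (hz1 : z1 ≠ 0)
    (hp : p ≠ 0) (hq : q ≠ 0) (hS : 1 + x ≠ 0) (f00 : x * du ^ 2 = (1 + x) * p ^ 2)
    (f01 : x * du * dw = 2 * (1 + x) * p * q)
    (sc : A + y - x = 0) (sz : 1 + y + z1 + z2 = 0)
    (mcu : A * au + y * bu - x * du = 0) (mcw : A * aw + y * bw - x * dw = 0)
    (mzu : y * bu + z1 * cu + z2 * ku = 0) (mzw : y * bw + z1 * cw + z2 * kw = 0)
    (c00 : A * au ^ 2 + y * bu ^ 2 - x * du ^ 2 = 3 * p ^ 2)
    (c11 : A * aw ^ 2 + y * bw ^ 2 - x * dw ^ 2 = 0)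
    (z00 : y * bu ^ 2 + z1 * cu ^ 2 + z2 * ku ^ 2 = 3 * p ^ 2)
    (z01 : y * bu * bw + z1 * cu * cw + z2 * ku * kw = 0)
    (z11 : y * bw ^ 2 + z1 * cw ^ 2 + z2 * kw ^ 2 = 9 * q ^ 2) :
    y * (28 + x) = 27 * x := by
  obtain rfl : A = x - y := by linarith
  obtain rfl : z2 = -(1 + y) - z1 := by linarith
  have C00 : x * y * (bu - du) ^ 2 = (x - y) * (3 * p ^ 2) := by
    linear_combination (x - y) * c00 - ((x - y) * au + x * du - y * bu) * mcu
  have C11 : x * y * (bw - dw) ^ 2 = 0 := by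
    linear_combination (x - y) * c11 - ((x - y) * aw + x * dw - y * bw) * mcw
  obtain rfl : bw = dw := sub_eq_zero.mp (pow_eq_zero_iff two_ne_zero |>.mp
    ((mul_eq_zero.mp C11).resolve_left (mul_ne_zero hx hy)))
  have hdu : du ≠ 0 := by
    rintro rfl
    exact mul_ne_zero hS (pow_ne_zero 2 hp) (by linear_combination -f00)
  have hdw : p * bw = 2 * q * du := by
    have : x * du * (p * bw - 2 * q * du) = 0 := by linear_combination p * f01 - 2 * q * f00
    linarith [(mul_eq_zero.mp this).resolve_left (mul_ne_zero hx hdu)]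
  have hy1 : 1 + y ≠ 0 := by
    intro h1
    obtain rfl : y = -1 := by linarith
    have h : 3 * p ^ 2 * bw ^ 2 + 9 * q ^ 2 * bu ^ 2 = 0 := by
      linear_combination (-(bw ^ 2)) * z00 + 2 * bu * bw * z01 - bu ^ 2 * z11 +
        (bw * (cu + ku) - bu * (cw + kw)) * (bw * mzu - bu * mzw)
    have h2 : p ^ 2 * bw ^ 2 = 0 := by nlinarith [sq_nonneg (q * bu), sq_nonneg (p * bw)]
    have h3 : p * bw = 0 := pow_eq_zero_iff two_ne_zero |>.mp (by linear_combination h2)
    rw [h3] at hdw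
    exact mul_ne_zero (mul_ne_zero two_ne_zero hq) hdu hdw.symm
  have M00 : -(1 + y) * (3 * p ^ 2) + y * bu ^ 2 = z1 * (-(1 + y) - z1) * (cu - ku) ^ 2 := by
    linear_combination (1 + y) * z00 + (z1 * cu + (-(1 + y) - z1) * ku - y * bu) * mzu
  have M01 : y * bu * bw = z1 * (-(1 + y) - z1) * ((cu - ku) * (cw - kw)) := by
    linear_combination (1 + y) * z01 + (z1 * cu + (-(1 + y) - z1) * ku) * mzw - (y * bw) * mzu
  have M11 : -(1 + y) * (9 * q ^ 2) + y * bw ^ 2 = z1 * (-(1 + y) - z1) * (cw - kw) ^ 2 := by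
    linear_combination (1 + y) * z11 + (z1 * cw + (-(1 + y) - z1) * kw - y * bw) * mzw
  have hdet : (1 + y) * (q ^ 2 * (27 * (1 + y) * p ^ 2 - y * (9 * bu ^ 2 + 12 * du ^ 2))) = 0 := by
    linear_combination (-(1 + y) * (9 * q ^ 2) + y * bw ^ 2) * M00 +
      (z1 * (-(1 + y) - z1) * (cu - ku) ^ 2) * M11 -
      (y * bu * bw + z1 * (-(1 + y) - z1) * ((cu - ku) * (cw - kw))) * M01 +
      3 * (1 + y) * y * (p * bw + 2 * q * du) * hdw
  have hz := (mul_eq_zero.mp ((mul_eq_zero.mp hdet).resolve_left hy1)).resolve_left (pow_ne_zero 2 hq)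
  have hbu : 3 * bu = 4 * du := by
    have : x * y * du * (3 * bu - 4 * du) = 0 := by
      linear_combination (-1 / 6 : ℝ) * (x * hz) - (3 / 2 : ℝ) * C00 - (9 / 2 : ℝ) * y * f00
    linarith [(mul_eq_zero.mp this).resolve_left (mul_ne_zero (mul_ne_zero hx hy) hdu)]
  obtain rfl : bu = 4 / 3 * du := by linarith
  have : p ^ 2 * (y * (28 + x) - 27 * x) = 0 := by linear_combination 9 * C00 - y * f00
  linarith [(mul_eq_zero.mp this).resolve_left (pow_ne_zero 2 hp)]

/-- The alternative shape `1 + B - C + Z` does not occur. -/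
theorem alt_false (x B C Z du dw bu bw cu cw ku kw p q : ℝ)
    (hx : x ≠ 0) (hB : B ≠ 0) (hC : C ≠ 0) (hZ : Z ≠ 0)
    (hp : p ≠ 0) (hq : q ≠ 0) (hS : 1 + x ≠ 0) (f11 : x * dw ^ 2 = 4 * (1 + x) * q ^ 2)
    (sc : B + C - x = 0) (sz : 1 + B - C + Z = 0)
    (mcu : B * bu + C * cu - x * du = 0) (mcw : B * bw + C * cw - x * dw = 0)
    (mzu : B * bu - C * cu + Z * ku = 0) (mzw : B * bw - C * cw + Z * kw = 0)
    (c00 : B * bu ^ 2 + C * cu ^ 2 - x * du ^ 2 = 3 * p ^ 2)
    (c11 : B * bw ^ 2 + C * cw ^ 2 - x * dw ^ 2 = 0)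
    (z00 : B * bu ^ 2 - C * cu ^ 2 + Z * ku ^ 2 = 3 * p ^ 2)
    (z01 : B * bu * bw - C * cu * cw + Z * ku * kw = 0) : False := by
  obtain rfl : x = B + C := by linarith
  obtain rfl : Z = C - B - 1 := by linarith
  have C00 : B * C * (bu - cu) ^ 2 = (B + C) * (3 * p ^ 2) := by
    linear_combination (B + C) * c00 - (B * bu + C * cu + (B + C) * du) * mcu
  have C11 : B * C * (bw - cw) ^ 2 = 0 := by
    linear_combination (B + C) * c11 - (B * bw + C * cw + (B + C) * dw) * mcw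
  obtain rfl : bw = cw := sub_eq_zero.mp (pow_eq_zero_iff two_ne_zero |>.mp
    ((mul_eq_zero.mp C11).resolve_left (mul_ne_zero hB hC)))
  obtain rfl : bw = dw := by
    have : (B + C) * (bw - dw) = 0 := by linear_combination mcw
    exact sub_eq_zero.mp ((mul_eq_zero.mp this).resolve_left hx)
  have hdw : bw ≠ 0 := by
    rintro rfl
    exact mul_ne_zero (mul_ne_zero four_ne_zero hS) (pow_ne_zero 2 hq) (by linear_combination -f11)
  have hBC : B * bu = C * cu := by
    have : bw * (B * bu - C * cu) = 0 := by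
      linear_combination -(C - B - 1) * z01 + ((C - B - 1) * kw) * mzu - (B * bu - C * cu) * mzw
    exact sub_eq_zero.mp ((mul_eq_zero.mp this).resolve_left hdw)
  have huu : B * bu * (bu - cu) = 3 * p ^ 2 := by
    have : (C - B - 1) * (B * bu ^ 2 - C * cu ^ 2 - 3 * p ^ 2) = 0 := by
      linear_combination (C - B - 1) * z00 - ((C - B - 1) * ku - B * bu + C * cu) * mzu -
        (B * bu - C * cu) * hBC
    linear_combination (mul_eq_zero.mp this).resolve_left hZ - cu * hBC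
  have : B * (3 * p ^ 2) = 0 := by
    linear_combination (-1 / 2 : ℝ) * C00 + (1 / 2 : ℝ) * (C - B) * huu +
      (1 / 2 : ℝ) * B * (bu - cu) * hBC
  exact mul_ne_zero hB (mul_ne_zero three_ne_zero (pow_ne_zero 2 hp)) this

/-- An equation `a ^ 2 = n * b ^ 2` makes `n` a square. -/
lemma square_of_sq {a b n : ℤ} (hb : b ≠ 0) (h : a ^ 2 = n * b ^ 2) : ∃ c : ℤ, n = c ^ 2 := by
  obtain ⟨c, rfl⟩ : b ∣ a := (Int.pow_dvd_pow_iff two_ne_zero).mp (h ▸ Dvd.intro_left _ rfl)
  exact ⟨c, mul_right_cancel₀ (pow_ne_zero 2 hb) (by linear_combination -h)⟩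

lemma small_case : ∀ x : Fin 729, (28 + x.val) ∣ 756 → (1 + x.val) % 27 = 9 →
    Nat.sqrt (2 * x.val) ^ 2 = 2 * x.val → x.val = 8 := by
  decide +kernel

/-- The arithmetic. -/
theorem deg_three {x y t a b : ℤ} (ht : 3 * t = -(1 + x)) (hy : y * (28 + x) = 27 * x)
    (hab : a ^ 2 = 2 * x * b ^ 2) (hb : b ≠ 0) (hd : (9 : ℤ) ∣ -t - 3) : t = -3 := by
  obtain ⟨c, hc⟩ := square_of_sq hb (by linear_combination hab : a ^ 2 = (2 * x) * b ^ 2)
  have hx : 0 ≤ x := by nlinarith [sq_nonneg c]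
  have hdvd : (28 + x) ∣ (756 : ℤ) := ⟨27 - y, by linear_combination hy⟩
  have hle : 28 + x ≤ 756 := Int.le_of_dvd (by norm_num) hdvd
  obtain ⟨n, rfl⟩ := Int.eq_ofNat_of_zero_le hx
  have hn : n < 729 := by omega
  have h1 : (28 + n) ∣ 756 := by exact_mod_cast hdvd
  have h2 : (1 + n) % 27 = 9 := by omega
  have h3 : Nat.sqrt (2 * n) ^ 2 = 2 * n := by
    have e : 2 * n = c.natAbs ^ 2 := by
      zify
      rw [sq_abs]
      exact hc
    rw [e, Nat.sqrt_eq']
  have h4 : n = 8 := small_case ⟨n, hn⟩ h1 h2 h3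
  omega

end Cfsg.Agent.A9LocalAlg49
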