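import Mathlib
import Cfsg.Agent.Lib.CharBasicDecomp

/-!
The group `3^3 : 2^2` of order 108, its ordinary characters with values in `ℤ[ω]`, and the
finite facts about them.
-/

set_option autoImplicit false

open scoped ComplexConjugate

namespace Cfsg.Agent.Model108

/-- An element `(v, w)`. -/
@[ext] structure Md where
  a : ZMod 3
  b : ZMod 3
  c : ZMod 3
  p : Bool
  q : Bool
deriving DecidableEq

/-- Sign attached to a Boolean. -/
def sgn (x : Bool) : ZMod 3 := if x then -1 else 1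

lemma sgn_xor (x y : Bool) : sgn (xor x y) = sgn x * sgn y := by
  cases x <;> cases y <;> simp [sgn]

lemma sgn_sq (x : Bool) : sgn x * sgn x = 1 := by cases x <;> simp [sgn]

namespace Md

instance instOneMd : One Md := ⟨⟨0, 0, 0, false, false⟩⟩

instance instMulMd : Mul Md := ⟨fun m n =>
  ⟨m.a + sgn (xor m.p m.q) * n.a, m.b + sgn m.p * n.b, m.c + sgn m.q * n.c, xor m.p n.p,
    xor m.q n.q⟩⟩

instance instInvMd : Inv Md := ⟨fun m =>
  ⟨-(sgn (xor m.p m.q) * m.a), -(sgn m.p * m.b), -(sgn m.q * m.c), m.p, m.q⟩⟩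

lemma mul_def (m n : Md) : m * n =
    ⟨m.a + sgn (xor m.p m.q) * n.a, m.b + sgn m.p * n.b, m.c + sgn m.q * n.c, xor m.p n.p,
      xor m.q n.q⟩ := rfl

lemma one_def : (1 : Md) = ⟨0, 0, 0, false, false⟩ := rfl

lemma inv_def (m : Md) : m⁻¹ =
    ⟨-(sgn (xor m.p m.q) * m.a), -(sgn m.p * m.b), -(sgn m.q * m.c), m.p, m.q⟩ := rfl

instance instGroupMd : Group Md where
  mul_assoc x y z := by
    rcases x with ⟨a, b, c, p, q⟩
    rcases y with ⟨a', b', c', p', q'⟩
    rcases z with ⟨a'', b'', c'', p'', q''⟩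
    simp only [mul_def, Md.mk.injEq]
    refine ⟨?_, ?_, ?_, ?_, ?_⟩
    · have : xor (xor p p') (xor q q') = xor (xor p q) (xor p' q') := by
        cases p <;> cases p' <;> cases q <;> cases q' <;> rfl
      rw [this]; simp only [sgn_xor]; ring
    · simp only [sgn_xor]; ring
    · simp only [sgn_xor]; ring
    · cases p <;> cases p' <;> cases p'' <;> rfl
    · cases q <;> cases q' <;> cases q'' <;> rfl
  one_mul x := by simp [mul_def, one_def, sgn]
  mul_one x := by simp [mul_def, one_def]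
  inv_mul_cancel x := by simp [mul_def, inv_def, one_def]

/-- As a product. -/
def equivProd : Md ≃ ZMod 3 × ZMod 3 × ZMod 3 × Bool × Bool where
  toFun m := (m.a, m.b, m.c, m.p, m.q)
  invFun t := ⟨t.1, t.2.1, t.2.2.1, t.2.2.2.1, t.2.2.2.2⟩
  left_inv _ := rfl
  right_inv _ := rfl

instance instFintypeMd : Fintype Md := Fintype.ofEquiv _ equivProd.symm

end Md

/-- The translation part `v_j`. -/
def vc : Fin 3 → Md → ZMod 3
  | 0, m => m.a
  | 1, m => m.b
  | 2, m => m.c

/-- The sign part `s_j`. -/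
def sc : Fin 3 → Md → Bool
  | 0, m => xor m.p m.q
  | 1, m => m.p
  | 2, m => m.q

lemma vc_mul (j : Fin 3) (x y : Md) : vc j (x * y) = vc j x + sgn (sc j x) * vc j y := by
  fin_cases j <;> rfl

lemma sc_mul (j : Fin 3) (x y : Md) : sc j (x * y) = xor (sc j x) (sc j y) := by
  rcases x with ⟨a, b, c, p, q⟩
  rcases y with ⟨a', b', c', p', q'⟩
  fin_cases j <;> simp only [sc, Md.mul_def] <;> cases p <;> cases p' <;> cases q <;> cases q' <;> rfl

/-- The involution fixing coordinate `j`. -/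
def inv3 : Fin 3 → Md
  | 0 => ⟨0, 0, 0, true, true⟩
  | 1 => ⟨0, 0, 0, false, true⟩
  | 2 => ⟨0, 0, 0, true, false⟩

/-- The exceptional set. -/
def InD (m : Md) : Prop := m * m ≠ 1

instance instDecInD : DecidablePred InD := fun m => inferInstanceAs (Decidable (m * m ≠ 1))

/-! ### `ℤ[ω]` -/

/-- Pairs `(x, y)` stand for `x + y ω`. -/
abbrev E := ℤ × ℤ

def emul (x y : E) : E := (x.1 * y.1 - x.2 * y.2, x.1 * y.2 + x.2 * y.1 - x.2 * y.2)

def econj (x : E) : E := (x.1 - x.2, -x.2)

def epow : ZMod 3 → E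
  | 0 => (1, 0)
  | 1 => (0, 1)
  | 2 => (-1, -1)

/-- A primitive cube root of unity. -/
noncomputable def om : ℂ := ⟨-1 / 2, Real.sqrt 3 / 2⟩

lemma om_sq : om * om = -1 - om := by
  have h3 : Real.sqrt 3 * Real.sqrt 3 = 3 := Real.mul_self_sqrt (by norm_num)
  apply Complex.ext <;> simp [om]
  · ring_nf; nlinarith [h3]
  · ring

lemma conj_om : conj om = -1 - om := by
  apply Complex.ext <;> simp [om]
  ring

/-- The complex number of a pair. -/
noncomputable def val : E →+ ℂ where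
  toFun x := (x.1 : ℂ) + (x.2 : ℂ) * om
  map_zero' := by simp
  map_add' x y := by simp only [Prod.fst_add, Prod.snd_add, Int.cast_add]; ring

lemma val_apply (x : E) : val x = (x.1 : ℂ) + (x.2 : ℂ) * om := rfl

lemma val_mul (x y : E) : val (emul x y) = val x * val y := by
  simp only [emul, val_apply, Int.cast_sub, Int.cast_add, Int.cast_mul]
  linear_combination (-(x.2 : ℂ) * (y.2 : ℂ)) * om_sq

lemma val_conj (x : E) : val (econj x) = conj (val x) := by
  simp only [econj, val_apply, map_add, map_mul, map_intCast, conj_om, Int.cast_sub, Int.cast_neg]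
  ring

lemma val_int (n : ℤ) : val (n, 0) = n := by simp [val_apply]

lemma emul_epow (x y : ZMod 3) : emul (epow x) (epow y) = epow (x + y) := by
  revert x y; decide

lemma val_epow_add (x y : ZMod 3) : val (epow (x + y)) = val (epow x) * val (epow y) := by
  rw [← emul_epow, val_mul]

/-! ### The 15 characters -/

/-- `±1` from a Boolean. -/
def pm (x : Bool) : ℤ := if x then -1 else 1

/-- The linear characters. -/
def lamE : Fin 4 → Md → E
  | 0, _ => (1, 0)
  | 1, m => (pm (sc 0 m), 0)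
  | 2, m => (pm (sc 1 m), 0)
  | 3, m => (pm (sc 2 m), 0)

/-- The degree 2 characters `θ_{j+}`. -/
def thpE (j : Fin 3) (m : Md) : E :=
  if sc j m then 0 else epow (vc j m) + epow (-vc j m)

/-- The degree 2 characters `θ_{j-}`. -/
def thmE (j : Fin 3) (m : Md) : E :=
  emul (thpE j m) (lamE ((j + 1 : Fin 3).succ) m)

/-- The exponent for the degree 4 characters. -/
def expo (e : Fin 3 → ZMod 3) (m : Md) (x : Bool × Bool) : ZMod 3 :=
  sgn (xor x.1 x.2) * e 0 * m.a + sgn x.1 * e 1 * m.b + sgn x.2 * e 2 * m.c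

/-- The degree 4 characters. -/
def xiE (e : Fin 3 → ZMod 3) (m : Md) : E :=
  if m.p = false ∧ m.q = false then
    epow (expo e m (false, false)) + epow (expo e m (true, false)) +
      epow (expo e m (false, true)) + epow (expo e m (true, true))
  else 0

/-- Orbit representatives. -/
def xiRep : Fin 5 → Fin 3 → ZMod 3
  | 0 => ![0, 1, 1]
  | 1 => ![1, 0, 1]
  | 2 => ![1, 1, 0]
  | 3 => ![1, 1, 1]
  | 4 => ![-1, -1, -1]

/-- All 15. -/
def chE : Fin 15 → Md → E
  | 0, m => lamE 0 m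
  | 1, m => lamE 1 m
  | 2, m => lamE 2 m
  | 3, m => lamE 3 m
  | 4, m => thpE 0 m
  | 5, m => thpE 1 m
  | 6, m => thpE 2 m
  | 7, m => thmE 0 m
  | 8, m => thmE 1 m
  | 9, m => thmE 2 m
  | 10, m => xiE (xiRep 0) m
  | 11, m => xiE (xiRep 1) m
  | 12, m => xiE (xiRep 2) m
  | 13, m => xiE (xiRep 3) m
  | 14, m => xiE (xiRep 4) m

/-- The characters as complex functions. -/
noncomputable def ch (c : Fin 15) (m : Md) : ℂ := val (chE c m)

/-- Degrees. -/
def deg : Fin 15 → ℤ := ![1, 1, 1, 1, 2, 2, 2, 2, 2, 2, 4, 4, 4, 4, 4]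

/-! ### They are characters -/

/-- Monomial representations. -/
lemma isCharacter_monomial {H : Type*} [Group H] {X : Type} [Fintype X] [DecidableEq X]
    (f : H → X → X) (μ : H → X → ℂ) (f1 : ∀ x, f 1 x = x)
    (fmul : ∀ g h x, f (g * h) x = f g (f h x)) (m1 : ∀ x, μ 1 x = 1)
    (mmul : ∀ g h x, μ (g * h) x = μ g (f h x) * μ h x) :
    Cfsg.IsCharacter H (fun g => ∑ x, if f g x = x then μ g x else 0) := by
  let e : H → Module.End ℂ (X → ℂ) := fun g =>
    (Pi.basisFun ℂ X).constr ℂ (fun x => μ g x • (Pi.single (f g x) 1 : X → ℂ))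
  have he : ∀ g x, e g (Pi.single x 1) = μ g x • (Pi.single (f g x) 1 : X → ℂ) := fun g x => by
    rw [← Pi.basisFun_apply ℂ X x]
    exact Module.Basis.constr_basis _ _ _ _
  let ρ : Representation ℂ H (X → ℂ) :=
    { toFun := e
      map_one' := (Pi.basisFun ℂ X).ext fun x => by
        rw [Pi.basisFun_apply, he, f1, m1, one_smul]; rfl
      map_mul' := fun g h => (Pi.basisFun ℂ X).ext fun x => by
        rw [Pi.basisFun_apply, he, Module.End.mul_apply, he, map_smul, he, smul_smul, fmul, mmul,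
          mul_comm] }
  have := CharBasic.isCharacter_of_rep ρ
  convert this using 1
  funext g
  show _ = LinearMap.trace ℂ _ (e g)
  rw [LinearMap.trace_eq_matrix_trace ℂ (Pi.basisFun ℂ X), Matrix.trace]
  refine Finset.sum_congr rfl fun x _ => ?_
  rw [Matrix.diag_apply, LinearMap.toMatrix_apply, Pi.basisFun_apply, he]
  simp only [Pi.basisFun_repr, Pi.smul_apply, Pi.single_apply, smul_eq_mul, mul_ite, mul_one,
    mul_zero]
  exact if_congr eq_comm rfl rfl

/-- A sign character of a coordinate. -/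
def scHom (j : Fin 3) : Md →* ℂˣ where
  toFun m := if sc j m then -1 else 1
  map_one' := by fin_cases j <;> rfl
  map_mul' x y := by
    rw [sc_mul]
    cases sc j x <;> cases sc j y <;> simp

lemma isCharacter_lam (j : Fin 4) : Cfsg.IsCharacter Md (fun m => val (lamE j m)) := by
  have key : ∀ i : Fin 3, (fun m => val (pm (sc i m), 0)) = fun m => (scHom i m : ℂ) := fun i => by
    funext m
    show val (pm (sc i m), 0) = ((if sc i m then (-1 : ℂˣ) else 1 : ℂˣ) : ℂ)
    rw [val_int, pm]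
    cases sc i m <;> simp
  fin_cases j
  · simpa [lamE, val_apply] using CharBasicDecomp.isCharacter_one (G := Md)
  · exact (congrArg (Cfsg.IsCharacter Md) (key 0)).mpr (CharBasicDecomp.isCharacter_linear _)
  · exact (congrArg (Cfsg.IsCharacter Md) (key 1)).mpr (CharBasicDecomp.isCharacter_linear _)
  · exact (congrArg (Cfsg.IsCharacter Md) (key 2)).mpr (CharBasicDecomp.isCharacter_linear _)

lemma isCharacter_thp (j : Fin 3) : Cfsg.IsCharacter Md (fun m => val (thpE j m)) := by
  have h := isCharacter_monomial (H := Md) (fun m x => xor (sc j m) x)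
    (fun m x => val (epow (sgn (xor (sc j m) x) * vc j m)))
    (fun x => by fin_cases j <;> cases x <;> rfl)
    (fun g k x => by rw [sc_mul]; cases sc j g <;> cases sc j k <;> cases x <;> rfl)
    (fun x => by
      have : vc j (1 : Md) = 0 := by fin_cases j <;> rfl
      rw [this, mul_zero]; simp [epow, val_apply])
    (fun g k x => by
      rw [← val_epow_add, vc_mul, sc_mul]
      congr 2
      rw [Bool.xor_assoc, sgn_xor (sc j g) (xor (sc j k) x)]
      linear_combination (sgn (xor (sc j k) x) * vc j k) * sgn_sq (sc j g))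
  convert h using 1
  funext m
  rw [Fintype.sum_bool]
  cases hs : sc j m <;> simp [thpE, hs, sgn, add_comm]

lemma isCharacter_xi (e : Fin 3 → ZMod 3) : Cfsg.IsCharacter Md (fun m => val (xiE e m)) := by
  have h := isCharacter_monomial (H := Md) (X := Bool × Bool)
    (fun m x => (xor m.p x.1, xor m.q x.2))
    (fun m x => val (epow (expo e m (xor m.p x.1, xor m.q x.2))))
    (fun x => by rcases x with ⟨u, w⟩; cases u <;> cases w <;> rfl)
    (fun g k x => by
      rcases g with ⟨a, b, c, p, q⟩; rcases k with ⟨a', b', c', p', q'⟩; rcases x with ⟨u, w⟩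
      simp only [Md.mul_def, Bool.xor_assoc])
    (fun x => by
      simp [expo, Md.one_def, epow, val_apply])
    (fun g k x => by
      rw [← val_epow_add]
      congr 2
      rcases g with ⟨a, b, c, p, q⟩; rcases k with ⟨a', b', c', p', q'⟩; rcases x with ⟨u, w⟩
      have e1 : xor (xor (xor p p') u) (xor (xor q q') w) =
          xor (xor p q) (xor (xor p' u) (xor q' w)) := by
        cases p <;> cases p' <;> cases u <;> cases q <;> cases q' <;> cases w <;> rfl
      have e2 : xor (xor p (xor p' u)) (xor q (xor q' w)) =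
          xor (xor p q) (xor (xor p' u) (xor q' w)) := by
        cases p <;> cases p' <;> cases u <;> cases q <;> cases q' <;> cases w <;> rfl
      simp only [expo, Md.mul_def, e1, e2]
      rw [sgn_xor (xor p q), sgn_xor (xor p p') u, sgn_xor p p', sgn_xor p (xor p' u),
        sgn_xor p' u, sgn_xor (xor q q') w, sgn_xor q q', sgn_xor q (xor q' w), sgn_xor q' w]
      linear_combination (sgn (xor (xor p' u) (xor q' w)) * e 0 * a') * sgn_sq (xor p q) +
        (sgn p' * sgn u * e 1 * b') * sgn_sq p + (sgn q' * sgn w * e 2 * c') * sgn_sq q)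
  convert h using 1
  funext m
  rcases m with ⟨a, b, c, p, q⟩
  rw [Fintype.sum_prod_type]
  simp only [Fintype.sum_bool]
  cases p <;> cases q <;> simp [xiE, map_add] <;> ring

theorem isCharacter_ch (c : Fin 15) : Cfsg.IsCharacter Md (ch c) := by
  have hm : ∀ j, Cfsg.IsCharacter Md (fun m => val (thmE j m)) := fun j => by
    have := CharBasicDecomp.isCharacter_mul (isCharacter_thp j)
      (isCharacter_lam ((j + 1 : Fin 3).succ))
    convert this using 1
    funext m
    exact val_mul _ _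
  fin_cases c
  exacts [isCharacter_lam 0, isCharacter_lam 1, isCharacter_lam 2, isCharacter_lam 3,
    isCharacter_thp 0, isCharacter_thp 1, isCharacter_thp 2, hm 0, hm 1, hm 2,
    isCharacter_xi _, isCharacter_xi _, isCharacter_xi _, isCharacter_xi _, isCharacter_xi _]

/-! ### Finite facts -/

lemma orth_E : ∀ c e : Fin 15,
    (∑ m : Md, emul (chE c m) (econj (chE e m))) = if c = e then ((108, 0) : E) else 0 := by
  decide +kernel

lemma ch_one_E : ∀ c : Fin 15, chE c 1 = (deg c, 0) := by decide +kernel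

/-- Generators of the virtual characters vanishing outside the exceptional set. -/
def A : Fin 11 → Fin 15 → ℤ := ![
  ![1, 1, 0, 0, -1, 0, 0, 0, 0, 0, 0, 0, 0, 0, 0],
  ![1, 0, 1, 0, 0, -1, 0, 0, 0, 0, 0, 0, 0, 0, 0],
  ![1, 0, 0, 1, 0, 0, -1, 0, 0, 0, 0, 0, 0, 0, 0],
  ![0, 0, 1, 1, 0, 0, 0, -1, 0, 0, 0, 0, 0, 0, 0],
  ![0, 1, 0, 1, 0, 0, 0, 0, -1, 0, 0, 0, 0, 0, 0],
  ![0, 1, 1, 0, 0, 0, 0, 0, 0, -1, 0, 0, 0, 0, 0],
  ![1, 1, 1, 1, 0, 0, 0, 0, 0, 0, -1, 0, 0, 0, 0],
  ![0, 0, 0, 0, 0, 0, 0, 0, 0, 0, -1, 1, 0, 0, 0],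
  ![0, 0, 0, 0, 0, 0, 0, 0, 0, 0, -1, 0, 1, 0, 0],
  ![0, 0, 0, 0, 0, 0, 0, 0, 0, 0, -1, 0, 0, 1, 0],
  ![0, 0, 0, 0, 0, 0, 0, 0, 0, 0, -1, 0, 0, 0, 1]]

lemma vanish_E : ∀ m : Md, m * m = 1 →
    ∀ g : Fin 11, (∑ c, emul (A g c, 0) (chE c m)) = 0 := by
  decide +kernel

/-- Integer combinations orthogonal to the columns of the exceptional set. -/
def B : Fin 4 → Fin 15 → ℤ := ![
  ![1, 0, 0, 0, 1, 1, 1, 0, 0, 0, 1, 1, 1, 1, 1],
  ![0, 1, 0, 0, 1, 0, 0, 0, 1, 1, 1, 1, 1, 1, 1],
  ![0, 0, 1, 0, 0, 1, 0, 1, 0, 1, 1, 1, 1, 1, 1],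
  ![0, 0, 0, 1, 0, 0, 1, 1, 1, 0, 1, 1, 1, 1, 1]]

lemma perp_E : ∀ m : Md, m * m ≠ 1 →
    ∀ i : Fin 4, (∑ c, emul (B i c, 0) (econj (chE c m))) = 0 := by
  decide +kernel

lemma norm_E : ∀ m : Md, m * m ≠ 1 →
    (∑ c, emul (chE c m) (econj (chE c m))) =
      (((Finset.univ.filter fun n : Md => n * m = m * n).card : ℤ), 0) := by
  decide +kernel

/-- The number of products `d` of involutions of the types `i` and `k`. -/
def pairCount (i k : Fin 3) (d : Md) : ℕ :=
  (Finset.univ.filter fun n : Md =>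
    n * n = 1 ∧ n.p = (inv3 i).p ∧ n.q = (inv3 i).q ∧ (n * d) * (n * d) = 1 ∧
      (n * d).p = (inv3 k).p ∧ (n * d).q = (inv3 k).q).card

/-- `4 / deg`. -/
def degInv : Fin 15 → ℤ := ![4, 4, 4, 4, 2, 2, 2, 2, 2, 2, 1, 1, 1, 1, 1]

lemma count_E : ∀ d : Md, d * d ≠ 1 → ∀ i k : Fin 3,
    ((16 * (pairCount i k d : ℤ), 0) : E) =
      emul (3, 0) (∑ c, emul (degInv c, 0) (emul (emul (chE c (inv3 i)) (chE c (inv3 k))) (econj (chE c d)))) := by
  decide +kernel

end Cfsg.Agent.Model108
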