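import Mathlib
import Cfsg.Agent.Lib.Model108
import Cfsg.Agent.Lib.CharBasicDecomp

/-!
The group `3^3 : S_4` of order 648, virtual characters vanishing off its exceptional set and the
finite facts about them.
-/

set_option autoImplicit false
set_option maxRecDepth 100000

open scoped ComplexConjugate
open Cfsg.Agent.Model108 (om val emul econj)

namespace Cfsg.Agent.Model648

/-- An element `(v, s)`. -/
@[ext] structure M648 where
  a : ZMod 3
  b : ZMod 3
  c : ZMod 3
  s : Fin 24
deriving DecidableEq

/-- Quadruples `((x, x'), (y, y'))` stand for `x + x' ω + i (y + y' ω)`. -/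
abbrev E4 := (ℤ × ℤ) × (ℤ × ℤ)

/-- Table lookup. -/
def get (T w k : ℕ) : ℕ := (T >>> (w * k)) % 2 ^ w

/-- Product table. -/
def mulT : ℕ := 60557915208258230833783997624075449387058133629322881914726873146225966632766903934012907987572963593893943891365620033284560241000659446258304650921055558302784691742155867637727546671939340667475755705967374992640464033071877621542646258845413149133723129853505718200466999234812363647037274364658361002284163415613858934410610367052972223268836036367329613546840818976524000049128717554411132443307625898442457017103151107260410758628455945363277728204695086773122519071429537455530042268404210823853380043259800200628574619096570998565262074469101325584656661021913299623186844184232094927316782775203176942742792562273256935562769113773941331210482861034332039139655131197950804467237680326965727179937699953766433785998272209918772324657718747961943340795197338732494206800763808593280131932438352719407695269758935612420745099172443456809171867709764393863200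
/-- Inverse table. -/
def invT : ℕ := 901822458434117747445168464375941152
/-- Coordinate source table. -/
def piT : ℕ := 2123880748284428178013579252310986466674980
/-- Coordinate target table. -/
def jT : ℕ := 2123880558394737131071355432080308918438180
/-- Sign table. -/
def epsT : ℕ := 2526171235788641598808
/-- Orders. -/
def odT : ℕ := 2548450634389995463825
/-- Class table. -/
def clsT : ℕ := 1218298850819064997754163948132194776600604994576936920568370125276038616102683422984017733376359203164819754654292452215552874583071897379216434921534596986229331739039804412979366320152585904064409776692742116374703209385331597152828771808276193244670597455456602474223713304295435687853688256423053894749165803060999991459179839842172988441993130049716877069719176335045775751185110819068982217031659716941553303335982704750428385692567281765825698289740596498125061030680884061687213222764607944556841526715122563822131363992545500826379676064985885827494056891908609841082890894231251122651565437181090814932732298355172499975054054162557711982758512890468463502882356948413467259518524512419303164144668585146968484263147034047485438797284920976173433400538917453886006903872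
/-- The classes meeting the exceptional set. -/
def dMask : ℕ := 13998
/-- Dimensions. -/
def dim : Fin 14 → ℕ := ![1, 1, 3, 3, 3, 6, 6, 6, 6, 12, 12, 8, 8, 8]
/-- Monomial data. -/
def fT : Fin 14 → ℕ := ![0,
  0,
  3911899763662245143778572572979779171252153088151379858518735543407928215669514168184396923158185259913012588206578512610951146011384930200356907825270818692683919745385599358216245519058539280183602168319004307822269654776832966932399479122488563801290805382075806636406361677984093782744849345969945390336720855433313177378135998992,
  3911899763662245143778572572979779171252153088151379858518735543407928215669514168184396923158185259913012588206578512610951146011384930200356907825270818692683919745385599358216245519058539280183602168319004307822269654776832966932399479122488563801290805382075806636406361677984093782744849345969945390336720855433313177378135998992,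
  3911899763662245143778572572979779171252153088151379858518735543407928215669514168184396923158185259913012588206578512610951146011384930200356907825270818692683919745385599358216245519058539280183602168319004307822269654776832966932399479122488563801290805382075806636406361677984093782744849345969945390336720855433313177378135998992,
  230681469146692874637707401551185089763296280290968365019374363804121188891371978334995796013789999376586347302771039186384762314401223043255771118704052842567616848837192305799779810330235186369821722009909490284902926913416452734090820135690438747094251686012878334372993598077031821323288548227279109144040473849601265414415117215609360,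
  230681469146692874637707401551185089763296280290968365019374363804121188891371978334995796013789999376586347302771039186384762314401223043255771118704052842567616848837192305799779810330235186369821722009909490284902926913416452734090820135690438747094251686012878334372993598077031821323288548227279109144040473849601265414415117215609360,
  230681469146692874637707401551185089763296280290968365019374363804121188891371978334995796013789999376586347302771039186384762314401223043255771118704052842567616848837192305799779810330235186369821722009909490284902926913416452734090820135690438747094251686012878334372993598077031821323288548227279109144040473849601265414415117215609360,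
  230681469146692874637707401551185089763296280290968365019374363804121188891371978334995796013789999376586347302771039186384762314401223043255771118704052842567616848837192305799779810330235186369821722009909490284902926913416452734090820135690438747094251686012878334372993598077031821323288548227279109144040473849601265414415117215609360,
  271884276787535523249462654572944429968923379075196854122261839263970715290268779415363271847108919770876738761570100235976739826372975263867885924263279903266495439342522033009113372234271080893162475354381743886677447333162960408531966067552727157122511451952087883106225342118965854517442674248077071135946414514916193536867668252009231036944,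
  271884276787535523249462654572944429968923379075196854122261839263970715290268779415363271847108919770876738761570100235976739826372975263867885924263279903266495439342522033009113372234271080893162475354381743886677447333162960408531966067552727157122511451952087883106225342118965854517442674248077071135946414514916193536867668252009231036944,
  127633523815104071904683932654469611069392675438869314338939022848025591860879799918004992035473586411799909859540729326391603162936710780754938980431819358152439562912462518923656504848715261819289350461654862743397697998144996523538654565876753586719552185965503941964287383522340847115132880326392321736165177917557402400856135247548658192,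
  127633523815104071904683932654469611069392675438869314338939022848025591860879799918004992035473586411799909859540729326391603162936710780754938980431819358152439562912462518923656504848715261819289350461654862743397697998144996523538654565876753586719552185965503941964287383522340847115132880326392321736165177917557402400856135247548658192,
  127633523815104071904683932654469611069392675438869314338939022848025591860879799918004992035473586411799909859540729326391603162936710780754938980431819358152439562912462518923656504848715261819289350461654862743397697998144996523538654565876753586719552185965503941964287383522340847115132880326392321736165177917557402400856135247548658192]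
/-- Monomial data. -/
def zT : Fin 14 → ℕ := ![0,
  1303966587887415047926190857659926390417384362717126619505864335721658494003368926765375362705900879121089285550848188427895831886523745322105208311893753850687527425426090023993331282851058381054410610479043293116099607164007845971342776963674416624696480051331819314323567380991464483497506282930047422373240401620202673340889956352,
  0,
  1303966587887484537225193158135389964319309286875384075368518706835232182350796552053303496416036109748674433794655630598993540338908473849515144114466430746730090547687333525597433780697198719298277767842809485196021480369187988921677477648014805768455185050421350421514488137318466218636745992811885021624514083793715319498673750016,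
  354678911905376823546624910983024514619626621734900183049732444945177536705661564222415383421795785393393654560204534175139538127795654510187623034755025477054770228184942857292270107374491445684585317365452942397246289394239556500062479756645297745594742642009546537998485445968444275027917340237367985042277420736890907163546097811456,
  0,
  729564742039956274619495379631894944244697056742411521601175250154910752048278826330790193752078047493135533191276455866419961439263589778964469413943385788373528377362725924715916186456456520438141043979511052643943592015038839727517756507916006137115449163063152188871606235110634014355109128221257817794905148702695229316091545552683008,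
  1458461853186903870219533876666332129080426479396214498511539555671540943211992617100679047468893606376220489688954554764212051572150780695307706052317085354676287366752922952232767988160772777948365983833999702186064670718969131278219006696936504670566229613101842546121641311366222626553861688150919717322839682436581432966247722927521792,
  2187358964333851465819572373700769313916155902050017475421931089280977735955111737049124229633114848271760196457224331835666712639284338884462975194308929413172045585039832999048676935433691598626901836008603411904412759247510139064997629032338288943582481962026619080208076173776093379541176213951786233352868976516922704553781752431116288,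
  0,
  24468930997138827788812957487682290723654325497376319620078159028366971529192154148104209052047942302691452606763978500863737392650949903470644336149252779999455803246101216462009024729252498325796741777605914726806491210918810410339296660049267704498377486826010143520267595842266064584060146068597020804430720946195314373180616952638047585828864,
  0,
  248914635742201243319067251133121814321158366248830525957577685475972559216694569374949563668306244451925834970148403993924575021847952066924581511426478246046564439061169058488360478208259969074281915511101516102100139523529439022744536260084216738452370197676490308754529135964711872766749665491031355341287443714723852352211934239531204608,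
  497817877424357526405445723210529396205517265393099629662754126894201093323107316239170620993864694971577939013126133154813297740404620767863042893238226914420386033749230624431996999093070752275735779247571166022169707672153756557026838802097400742663834250604908034057378083866892391334671208889231237379706584717734306118968161345950711808]
/-- Monomial data. -/
def wT : Fin 14 → ℕ := ![0,
  0,
  0,
  0,
  0,
  34629255297,
  34629255297,
  34629255297,
  34629255297,
  1522511806150486549125,
  1522511806150486549125,
  164470045697685,
  164470045697685,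
  164470045697685]
/-- Coefficients of the virtual characters. -/
def lst : Fin 9 → List (Fin 14 × ℤ) := ![[(6, 1), (8, -1)],
  [(12, 1), (13, -1)],
  [(2, -1), (6, -1), (12, 1)],
  [(3, 1), (4, 1), (6, -1)],
  [(0, -1), (1, -1), (6, -1), (11, 1)],
  [(0, 1), (2, 1), (3, 1), (5, -1)],
  [(1, 1), (2, 1), (4, 1), (7, -1)],
  [(0, -1), (4, -1), (9, 1), (12, -1)],
  [(1, -1), (3, -1), (10, 1), (12, -1)]]
/-- Values on the classes. -/
def tab : Fin 9 → Fin 14 → E4 := ![
  ![((0, 0), (0, 0)), ((0, 0), (0, 0)), ((0, 0), (0, 0)), ((0, 0), (0, 0)), ((0, 0), (0, 0)), ((0, 0), (0, 0)), ((0, 0), (0, 0)), ((0, 0), (0, 0)), ((0, 0), (0, 0)), ((0, 0), (-2, -4)), ((0, 0), (2, 4)), ((0, 0), (0, 0)), ((0, 0), (0, 0)), ((0, 0), (0, 0))],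
  ![((0, 0), (0, 0)), ((0, 0), (0, 0)), ((0, 0), (0, 0)), ((0, 0), (0, 0)), ((0, 0), (0, 0)), ((0, 0), (0, 0)), ((0, 0), (0, 0)), ((0, 0), (0, 0)), ((0, 0), (0, 0)), ((0, 0), (0, 0)), ((0, 0), (0, 0)), ((0, 0), (0, 0)), ((3, 0), (0, 0)), ((-3, 0), (0, 0))],
  ![((0, 0), (0, 0)), ((-9, 0), (0, 0)), ((0, 0), (0, 0)), ((0, 0), (0, 0)), ((0, 0), (0, 0)), ((-3, 0), (0, 0)), ((0, 0), (0, 0)), ((0, 0), (0, 0)), ((0, 0), (0, 0)), ((0, 0), (1, 2)), ((0, 0), (-1, -2)), ((0, 0), (0, 0)), ((3, 0), (0, 0)), ((0, 0), (0, 0))],
  ![((0, 0), (0, 0)), ((3, 0), (0, 0)), ((6, 0), (0, 0)), ((9, 0), (0, 0)), ((0, 0), (0, 0)), ((-3, 0), (0, 0)), ((0, 0), (0, 0)), ((0, 0), (0, 0)), ((0, 0), (0, 0)), ((0, 0), (1, 2)), ((0, 0), (-1, -2)), ((0, 0), (0, 0)), ((0, 0), (0, 0)), ((0, 0), (0, 0))],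
  ![((0, 0), (0, 0)), ((-9, 0), (0, 0)), ((0, 0), (0, 0)), ((0, 0), (0, 0)), ((0, 0), (0, 0)), ((-3, 0), (0, 0)), ((0, 0), (0, 0)), ((0, 0), (0, 0)), ((0, 0), (0, 0)), ((0, 0), (1, 2)), ((0, 0), (-1, -2)), ((0, 0), (0, 0)), ((-3, 0), (0, 0)), ((-3, 0), (0, 0))],
  ![((0, 0), (0, 0)), ((3, 0), (0, 0)), ((6, 0), (0, 0)), ((9, 0), (0, 0)), ((0, 0), (0, 0)), ((3, 0), (0, 0)), ((0, 0), (0, 0)), ((0, 0), (0, 0)), ((0, 0), (0, 0)), ((3, 0), (0, 0)), ((3, 0), (0, 0)), ((0, 0), (0, 0)), ((0, 0), (0, 0)), ((0, 0), (0, 0))],
  ![((0, 0), (0, 0)), ((3, 0), (0, 0)), ((6, 0), (0, 0)), ((9, 0), (0, 0)), ((0, 0), (0, 0)), ((3, 0), (0, 0)), ((0, 0), (0, 0)), ((0, 0), (0, 0)), ((0, 0), (0, 0)), ((-3, 0), (0, 0)), ((-3, 0), (0, 0)), ((0, 0), (0, 0)), ((0, 0), (0, 0)), ((0, 0), (0, 0))],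
  ![((0, 0), (0, 0)), ((0, 0), (0, 0)), ((-9, 0), (0, 0)), ((0, 0), (0, 0)), ((0, 0), (0, 0)), ((0, 0), (0, 0)), ((0, 0), (0, 0)), ((-3, 0), (0, 0)), ((0, 0), (0, 0)), ((0, 0), (0, 0)), ((0, 0), (0, 0)), ((0, 0), (0, 0)), ((-3, 0), (0, 0)), ((0, 0), (0, 0))],
  ![((0, 0), (0, 0)), ((0, 0), (0, 0)), ((-9, 0), (0, 0)), ((0, 0), (0, 0)), ((0, 0), (0, 0)), ((0, 0), (0, 0)), ((0, 0), (0, 0)), ((3, 0), (0, 0)), ((0, 0), (0, 0)), ((0, 0), (0, 0)), ((0, 0), (0, 0)), ((0, 0), (0, 0)), ((-3, 0), (0, 0)), ((0, 0), (0, 0))]]
/-- Class sizes. -/
def sz : Fin 14 → ℕ := ![1, 6, 12, 8, 27, 54, 54, 108, 54, 54, 54, 72, 72, 72]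
/-- Product in `S_4`. -/
def smul (s t : Fin 24) : Fin 24 := ⟨get mulT 5 (24 * s.val + t.val) % 24, Nat.mod_lt _ (by norm_num)⟩

/-- Inverse in `S_4`. -/
def sinv (s : Fin 24) : Fin 24 := ⟨get invT 5 s.val % 24, Nat.mod_lt _ (by norm_num)⟩

/-- The coordinate moved to `i`. -/
def pi (s : Fin 24) (i : Fin 3) : Fin 3 := ⟨get piT 2 (3 * s.val + i.val) % 3, Nat.mod_lt _ (by norm_num)⟩

/-- The coordinate to which `i` moves. -/
def pj (s : Fin 24) (i : Fin 3) : Fin 3 := ⟨get jT 2 (3 * s.val + i.val) % 3, Nat.mod_lt _ (by norm_num)⟩

/-- The sign at `i`. -/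
def eps (s : Fin 24) (i : Fin 3) : ZMod 3 := if get epsT 1 (3 * s.val + i.val) = 0 then 1 else -1

/-- The order in `S_4`. -/
def od (s : Fin 24) : ℕ := get odT 3 s.val

lemma smul_assoc' : ∀ s t u : Fin 24, smul (smul s t) u = smul s (smul t u) := by decide +kernel

lemma smul_one' : ∀ s : Fin 24, smul 0 s = s ∧ smul s 0 = s ∧ smul (sinv s) s = 0 := by decide +kernel

lemma pi_facts : ∀ s : Fin 24, ∀ i : Fin 3, pi s (pj s i) = i ∧ pj s (pi s i) = i := by decide +kernel

lemma pi_smul : ∀ s t : Fin 24, ∀ i : Fin 3, pi (smul s t) i = pi t (pi s i) ∧
    eps (smul s t) i = eps s i * eps t (pi s i) ∧ pj (smul s t) i = pj s (pj t i) := by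
  decide +kernel

lemma pi_zero : ∀ i : Fin 3, pi 0 i = i ∧ pj 0 i = i ∧ eps 0 i = 1 := by decide +kernel

namespace M648

/-- A coordinate. -/
def vget (m : M648) : Fin 3 → ZMod 3
  | 0 => m.a
  | 1 => m.b
  | 2 => m.c

/-- From coordinates. -/
def mk' (f : Fin 3 → ZMod 3) (s : Fin 24) : M648 := ⟨f 0, f 1, f 2, s⟩

lemma vget_mk' (f : Fin 3 → ZMod 3) (s : Fin 24) (i : Fin 3) : (mk' f s).vget i = f i := by
  fin_cases i <;> rfl

lemma ext' {m n : M648} (h : ∀ i, m.vget i = n.vget i) (hs : m.s = n.s) : m = n :=
  M648.ext (h 0) (h 1) (h 2) hs

instance instOneM648 : One M648 := ⟨⟨0, 0, 0, 0⟩⟩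

instance instMulM648 : Mul M648 :=
  ⟨fun m n => mk' (fun i => m.vget i + eps m.s i * n.vget (pi m.s i)) (smul m.s n.s)⟩

instance instInvM648 : Inv M648 :=
  ⟨fun m => mk' (fun i => -(eps (sinv m.s) i * m.vget (pi (sinv m.s) i))) (sinv m.s)⟩

lemma vget_mul (m n : M648) (i : Fin 3) :
    (m * n).vget i = m.vget i + eps m.s i * n.vget (pi m.s i) := vget_mk' _ _ i

lemma vget_inv (m : M648) (i : Fin 3) :
    m⁻¹.vget i = -(eps (sinv m.s) i * m.vget (pi (sinv m.s) i)) := vget_mk' _ _ i

lemma vget_one (i : Fin 3) : (1 : M648).vget i = 0 := by fin_cases i <;> rfl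

lemma s_mul (m n : M648) : (m * n).s = smul m.s n.s := rfl

lemma s_one : (1 : M648).s = 0 := rfl

lemma s_inv (m : M648) : m⁻¹.s = sinv m.s := rfl

instance instGroupM648 : Group M648 where
  mul_assoc x y z := ext' (fun i => by
    simp only [vget_mul, s_mul, (pi_smul _ _ _).1, (pi_smul _ _ _).2.1]
    ring) (smul_assoc' _ _ _)
  one_mul x := ext' (fun i => by
    simp only [vget_mul, s_one, (pi_zero _).1, (pi_zero _).2.2, vget_one, zero_add, one_mul])
    (smul_one' _).1
  mul_one x := ext' (fun i => by simp only [vget_mul, vget_one, mul_zero, add_zero])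
    (smul_one' _).2.1
  inv_mul_cancel x := ext' (fun i => by
    simp only [vget_mul, vget_one, vget_inv, s_inv, neg_add_cancel]) (smul_one' _).2.2

/-- As a product. -/
def equivProd : M648 ≃ ZMod 3 × ZMod 3 × ZMod 3 × Fin 24 where
  toFun m := (m.a, m.b, m.c, m.s)
  invFun t := ⟨t.1, t.2.1, t.2.2.1, t.2.2.2⟩
  left_inv _ := rfl
  right_inv _ := rfl

instance instFintypeM648 : Fintype M648 := Fintype.ofEquiv _ equivProd.symm

end M648

/-- The translation by `(a, b, c)`. -/
def tr (a b c : ZMod 3) : M648 := ⟨a, b, c, 0⟩

/-- The lift of `s`. -/
def lift (s : Fin 24) : M648 := ⟨0, 0, 0, s⟩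

/-- The class. -/
def cls (m : M648) : Fin 14 :=
  ⟨get clsT 4 (((m.a.val * 3 + m.b.val) * 3 + m.c.val) * 24 + m.s.val) % 14,
    Nat.mod_lt _ (by norm_num)⟩

/-- The class meets the exceptional set. -/
def dcls (k : Fin 14) : Bool := dMask.testBit k.val

/-- The exceptional set. -/
def InD (m : M648) : Prop := dcls (cls m) = true

instance instDecInD : DecidablePred InD := fun m => inferInstanceAs (Decidable (dcls (cls m) = true))

/-! ### Values in `ℤ[i, ω]` -/

/-- Product. -/
def mul4 (x y : E4) : E4 :=
  (emul x.1 y.1 - emul x.2 y.2, emul x.1 y.2 + emul x.2 y.1)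

/-- Conjugate. -/
def conj4 (x : E4) : E4 := (econj x.1, -econj x.2)

/-- An integer. -/
def int4 (n : ℤ) : E4 := ((n, 0), (0, 0))

/-- The complex number. -/
noncomputable def val4 : E4 →+ ℂ where
  toFun x := val x.1 + Complex.I * val x.2
  map_zero' := by simp
  map_add' x y := by simp only [Prod.fst_add, Prod.snd_add, map_add]; ring

lemma val4_apply (x : E4) : val4 x = val x.1 + Complex.I * val x.2 := rfl

lemma val4_mul (x y : E4) : val4 (mul4 x y) = val4 x * val4 y := by
  simp only [mul4, val4_apply, map_sub, map_add, Model108.val_mul]
  linear_combination (-(val x.2 * val y.2)) * Complex.I_mul_I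

lemma val4_conj (x : E4) : val4 (conj4 x) = conj (val4 x) := by
  simp only [conj4, val4_apply, map_neg, map_add, map_mul, Model108.val_conj, Complex.conj_I]
  ring

lemma val4_int (n : ℤ) : val4 (int4 n) = n := by
  simp [int4, val4_apply, Model108.val_apply]

/-- Powers of a twelfth root of unity. -/
def ez (k : ZMod 12) : E4 :=
  (![((1, 0), (0, 0)), ((0, 0), (0, 1)), ((1, 1), (0, 0)), ((0, 0), (-1, 0)), ((0, 1), (0, 0)),
    ((0, 0), (-1, -1)), ((-1, 0), (0, 0)), ((0, 0), (0, -1)), ((-1, -1), (0, 0)), ((0, 0), (1, 0)),
    ((0, -1), (0, 0)), ((0, 0), (1, 1))] : Fin 12 → E4) k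

lemma mul4_ez : ∀ x y : ZMod 12, mul4 (ez x) (ez y) = ez (x + y) := by decide +kernel

lemma val4_ez_add (x y : ZMod 12) : val4 (ez (x + y)) = val4 (ez x) * val4 (ez y) := by
  rw [← mul4_ez, val4_mul]

/-! ### Characters -/

/-- The permutation part. -/
def fF (c : Fin 14) (s : Fin 24) (x : Fin (dim c)) : Fin (dim c) :=
  ⟨get (fT c) 4 (12 * s.val + x.val) % dim c, Nat.mod_lt _ (lt_of_le_of_lt (Nat.zero_le _) x.isLt)⟩

/-- The multiplier on the lifts. -/
def zF (c : Fin 14) (s : Fin 24) (x : Fin (dim c)) : ZMod 12 :=
  (get (zT c) 4 (12 * s.val + x.val) : ZMod 12)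

/-- The weights. -/
def wF (c : Fin 14) (x : Fin (dim c)) (i : Fin 3) : ZMod 3 :=
  (get (wT c) 2 (3 * x.val + i.val) : ZMod 3)

/-- `ℤ/3` in `ℤ/12`. -/
def e3 (x : ZMod 3) : ZMod 12 := (4 * x.val : ℕ)

lemma e3_add : ∀ x y : ZMod 3, e3 (x + y) = e3 x + e3 y := by decide +kernel

/-- Weight of a translation. -/
def pair (c : Fin 14) (x : Fin (dim c)) (m : M648) : ZMod 3 :=
  wF c x 0 * m.a + wF c x 1 * m.b + wF c x 2 * m.c

/-- The multiplier. -/
def mu (c : Fin 14) (m : M648) (x : Fin (dim c)) : E4 :=
  ez (zF c m.s x + e3 (pair c (fF c m.s x) m))

lemma fF_one : ∀ c : Fin 14, ∀ x : Fin (dim c), fF c 0 x = x ∧ zF c 0 x = 0 := by decide +kernel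

lemma fF_smul : ∀ c : Fin 14, ∀ s t : Fin 24, ∀ x : Fin (dim c),
    fF c (smul s t) x = fF c s (fF c t x) ∧ zF c (smul s t) x = zF c s (fF c t x) + zF c t x := by
  decide +kernel

lemma wF_smul : ∀ c : Fin 14, ∀ s : Fin 24, ∀ y : Fin (dim c), ∀ i : Fin 3,
    wF c (fF c s y) i * eps s i = wF c y (pi s i) := by
  decide +kernel

lemma pair_eq (c : Fin 14) (x : Fin (dim c)) (m : M648) :
    pair c x m = ∑ i, wF c x i * m.vget i := by
  simp [pair, Fin.sum_univ_three, M648.vget]

lemma pair_mul (c : Fin 14) (g h : M648) (y : Fin (dim c)) :
    pair c (fF c g.s y) (g * h) = pair c (fF c g.s y) g + pair c y h := by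
  simp only [pair_eq, M648.vget_mul, mul_add, Finset.sum_add_distrib, ← mul_assoc, wF_smul]
  congr 1
  exact Fintype.sum_bijective (pi g.s)
    ⟨Function.LeftInverse.injective (g := pj g.s) fun i => (pi_facts _ i).2,
      Function.RightInverse.surjective (g := pj g.s) fun i => (pi_facts _ i).1⟩
    _ _ fun i => rfl

/-- The monomial character. -/
def monoE (c : Fin 14) (m : M648) : E4 := ∑ x, if fF c m.s x = x then mu c m x else 0

lemma isCharacter_mono (c : Fin 14) : Cfsg.IsCharacter M648 (fun m => val4 (monoE c m)) := by
  have h := Model108.isCharacter_monomial (H := M648) (X := Fin (dim c))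
    (fun m x => fF c m.s x) (fun m x => val4 (mu c m x)) (fun x => (fF_one c x).1)
    (fun g h x => (fF_smul c g.s h.s x).1)
    (fun x => by
      have : pair c (fF c (1 : M648).s x) 1 = 0 := by simp [pair_eq, M648.vget_one]
      simp only [mu, this]
      rw [show zF c (1 : M648).s x = 0 from (fF_one c x).2, show e3 0 = 0 from rfl, add_zero,
        show ez 0 = int4 1 from rfl, val4_int, Int.cast_one])
    (fun g h x => by
      simp only [mu, M648.s_mul, (fF_smul c g.s h.s x).1, (fF_smul c g.s h.s x).2, pair_mul,
        e3_add]
      rw [← val4_ez_add]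
      congr 2
      ring)
  convert h using 1
  funext m
  rw [monoE, map_sum]
  exact Finset.sum_congr rfl fun x _ => by rw [apply_ite val4, map_zero]

/-- The irreducible characters (`c = 2` after removing the trivial summand). -/
def chE (c : Fin 14) (m : M648) : E4 := monoE c m - if c = 2 then int4 1 else 0

lemma isGen_ch (c : Fin 14) : Cfsg.IsGeneralizedCharacter M648 (fun m => val4 (chE c m)) := by
  have h := CharBasicDecomp.isGeneralizedCharacter_of_isCharacter (isCharacter_mono c)
  by_cases hc : c = 2
  · have e := CharBasicDecomp.isGeneralizedCharacter_sub h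
      (CharBasicDecomp.isGeneralizedCharacter_of_isCharacter
        (CharBasicDecomp.isCharacter_one (G := M648)))
    convert e using 1
    funext m
    simp [chE, hc, val4_int]
  · simpa [chE, hc] using h

/-- The virtual characters. -/
def phiE (a : Fin 9) (m : M648) : E4 := ((lst a).map fun t => mul4 (int4 t.2) (chE t.1 m)).sum

/-- As complex functions. -/
noncomputable def phi (a : Fin 9) (m : M648) : ℂ := val4 (tab a (cls m))

/-! ### Finite facts -/

lemma tab_vanish : ∀ a : Fin 9, ∀ k : Fin 14, dcls k = false → tab a k = 0 := by decide +kernel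

lemma phi_vanish (a : Fin 9) (m : M648) (h : ¬ InD m) : phi a m = 0 := by
  rw [phi, tab_vanish a _ (Bool.eq_false_iff.mpr h), map_zero]

lemma card_cls : ∀ k : Fin 14, (Finset.univ.filter fun m : M648 => cls m = k).card = sz k := by
  decide +kernel

/-- Inner products of the virtual characters, as integers. -/
def gramM : Fin 9 → Fin 9 → ℤ := ![
  ![2, 0, -1, -1, -1, 0, 0, 0, 0],
  ![0, 2, 1, 0, 0, 0, 0, -1, -1],
  ![-1, 1, 3, 1, 1, -1, -1, -1, -1],
  ![-1, 0, 1, 3, 1, 1, 1, -1, -1],
  ![-1, 0, 1, 1, 4, -1, -1, 1, 1],
  ![0, 0, -1, 1, -1, 4, 1, -1, -1],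
  ![0, 0, -1, 1, -1, 1, 4, -1, -1],
  ![0, -1, -1, -1, 1, -1, -1, 4, 1],
  ![0, -1, -1, -1, 1, -1, -1, 1, 4]]

/-- Multiplicity of the trivial character. -/
def trivM : Fin 9 → ℤ := ![0, 0, 0, 0, -1, 1, 0, -1, 0]

lemma gram_E : ∀ a b : Fin 9, (∑ k, (sz k : ℤ) • mul4 (tab a k) (conj4 (tab b k))) =
    int4 (648 * gramM a b) := by
  decide +kernel

lemma triv_E : ∀ a : Fin 9, (∑ k, (sz k : ℤ) • tab a k) = int4 (648 * trivM a) := by decide +kernel

lemma sum_cls (F : Fin 14 → E4) : ∑ m : M648, val4 (F (cls m)) = val4 (∑ k, (sz k : ℤ) • F k) := by
  rw [← Finset.sum_fiberwise (s := Finset.univ) (g := cls), map_sum]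
  refine Finset.sum_congr rfl fun k _ => ?_
  rw [Finset.sum_congr rfl (g := fun _ => val4 (F k)) (fun m hm => by rw [(Finset.mem_filter.mp hm).2]),
    Finset.sum_const, card_cls, map_zsmul, natCast_zsmul]

lemma card_M648 : Fintype.card M648 = 648 := by decide +kernel

lemma inner_phi (a b : Fin 9) : Cfsg.classInner (phi a) (phi b) = (gramM a b : ℂ) := by
  have h := sum_cls fun k => mul4 (tab a k) (conj4 (tab b k))
  rw [gram_E, val4_int] at h
  simp only [val4_mul, val4_conj] at h
  simp only [Cfsg.classInner, Nat.card_eq_fintype_card, card_M648, phi]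
  rw [h]
  push_cast
  ring

lemma inner_phi_one (a : Fin 9) : Cfsg.classInner (phi a) (fun _ => 1) = (trivM a : ℂ) := by
  have h := sum_cls (tab a)
  rw [triv_E, val4_int] at h
  simp only [Cfsg.classInner, Nat.card_eq_fintype_card, card_M648, phi, map_one, mul_one]
  rw [h]
  push_cast
  ring

/-- The generators. -/
def gen : Fin 4 → M648 := ![⟨1, 0, 0, 0⟩, ⟨0, 0, 0, 19⟩, ⟨1, 1, 0, 1⟩, ⟨0, 0, 1, 11⟩]
/-- Words for the lifts. -/
def word : Fin 24 → List (Fin 4) := ![[], [2, 0, 3, 0, 3], [1, 1, 2, 0, 1, 0], [1, 2, 0, 1, 0, 1], [1, 0, 0, 1, 2, 0, 3, 0], [3, 1, 2, 0], [1, 0, 0, 1, 3], [1, 2, 1, 0, 3], [0, 0, 1, 2, 0, 3, 0, 1], [0, 0, 1, 3, 1], [1, 3, 1, 2, 0], [3, 1, 1, 0, 1], [2, 0, 1, 0, 1], [0, 0, 1, 1, 2, 0], [1, 2, 0, 1, 0], [1, 1], [2, 0, 1, 0], [0, 0, 3, 1, 1, 0, 3], [1, 2, 0, 3, 0, 3], [1], [0, 0, 1, 2, 0, 3, 0], [0, 0, 1, 3], [2, 1, 0, 3], [3, 1, 1, 0]]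
/-- Words for translations. -/
def trWord : Fin 3 → List (Fin 4) := ![[0], [3, 0, 3], [1, 1, 0, 1]]
/-- The involutions. -/
def invol : Fin 2 → M648 := ![⟨0, 0, 0, 1⟩, ⟨0, 0, 0, 4⟩]
/-- Translations fixed by the involutions. -/
def fix : Fin 2 → M648 := ![⟨0, 0, 1, 0⟩, ⟨0, 1, 2, 0⟩]
/-- Classes of the involutions. -/
def tcls : Fin 2 → Fin 14 := ![4, 6]

/-- The weighted pair counts. -/
def pairT : Fin 4 → Fin 2 → Fin 2 → ℤ := ![
  ![![-1944, 0], ![0, 0]],
  ![![0, 0], ![0, 1944]],
  ![![1944, 1944], ![1944, 3888]],
  ![![-972, -972], ![-972, -2916]]]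

/-- The four virtual characters used in the class equations. -/
def four : Fin 4 → Fin 9 := ![2, 3, 5, 7]

lemma invol_facts : ∀ i : Fin 2, invol i * invol i = 1 ∧ invol i ≠ 1 ∧ cls (invol i) = tcls i ∧
    fix i * invol i = invol i * fix i ∧ (fix i).s = 0 ∧ fix i ≠ 1 := by
  decide +kernel

lemma invol_cls : ∀ m : M648, m * m = 1 → m = 1 ∨ cls m = tcls 0 ∨ cls m = tcls 1 := by decide +kernel

lemma cls_conj_invol : ∀ i : Fin 2, ∀ g : M648, cls (g * invol i * g⁻¹) = tcls i := by decide +kernel

lemma exists_conj_invol : ∀ i : Fin 2, ∀ m : M648, cls m = tcls i →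
    ∃ g : M648, g * invol i * g⁻¹ = m := by
  decide +kernel

lemma card_cent_invol : ∀ i : Fin 2,
    (Finset.univ.filter fun g : M648 => g * invol i = invol i * g).card = ![24, 12] i := by
  decide +kernel

lemma D_pow : ∀ m : M648, InD m → (m ^ od m.s).s = 0 ∧ m ^ od m.s ≠ 1 := by decide +kernel

lemma D_inv : ∀ m : M648, InD m → InD m⁻¹ := by decide +kernel

lemma D_ne_one : ¬ InD 1 := by decide +kernel

lemma not_D_invol : ∀ m : M648, m * m = 1 → ¬ InD m := by decide +kernel

lemma lift_word : ∀ s : Fin 24, ((word s).map gen).prod = lift s := by decide +kernel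

lemma tr_word : ((trWord 0).map gen).prod = tr 1 0 0 ∧ ((trWord 1).map gen).prod = tr 0 1 0 ∧
    ((trWord 2).map gen).prod = tr 0 0 1 := by
  decide +kernel

lemma eq_word : ∀ m : M648,
    m = tr 1 0 0 ^ m.a.val * tr 0 1 0 ^ m.b.val * tr 0 0 1 ^ m.c.val * lift m.s := by
  decide +kernel

lemma tr_comm : ∀ a b c a' b' c' : ZMod 3, tr a b c * tr a' b' c' = tr a' b' c' * tr a b c := by
  decide +kernel

end Cfsg.Agent.Model648
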