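import Mathlib
import Cfsg.Prelude.Def_Solvable
import Cfsg.Agent.Lib.Model648

/-!
The model group as a permutation group on nine points, and facts about its translations.
-/

set_option autoImplicit false
set_option maxRecDepth 100000

namespace Cfsg.Agent.Group648

open Cfsg.Agent.Model648

/-- The affine action on three lines. -/
def act (m : M648) (x : Fin 3 × ZMod 3) : Fin 3 × ZMod 3 :=
  (pj m.s x.1, m.vget (pj m.s x.1) + eps m.s (pj m.s x.1) * x.2)

lemma act_one (x : Fin 3 × ZMod 3) : act 1 x = x := by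
  simp only [act, M648.s_one, (pi_zero _).2.1, (pi_zero _).2.2, M648.vget_one, one_mul, zero_add]

lemma act_mul (m n : M648) (x : Fin 3 × ZMod 3) : act (m * n) x = act m (act n x) := by
  simp only [act, M648.s_mul, (pi_smul _ _ x.1).2.2, M648.vget_mul,
    (pi_smul _ _ _).2.1, (pi_facts _ _).1, Prod.mk.injEq, true_and]
  ring

instance instMulActionM648 : MulAction M648 (Fin 3 × ZMod 3) where
  smul := act
  one_smul := act_one
  mul_smul := act_mul

/-- The embedding in the symmetric group. -/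
def toS9 : M648 →* Equiv.Perm (Fin 9) :=
  (Equiv.permCongrHom (finProdFinEquiv : Fin 3 × Fin 3 ≃ Fin 9)).toMonoidHom.comp
    (MulAction.toPermHom M648 (Fin 3 × ZMod 3))

lemma toS9_injective : Function.Injective toS9 := by
  rw [injective_iff_map_eq_one]
  decide +kernel

/-- The generators in the statement. -/
def gens : Set (Equiv.Perm (Fin 9)) :=
  {Equiv.swap (0 : Fin 9) 1 * Equiv.swap 1 2,
    Equiv.swap (0 : Fin 9) 3 * Equiv.swap 3 6 * (Equiv.swap (1 : Fin 9) 4 * Equiv.swap 4 7) * (Equiv.swap (2 : Fin 9) 5 * Equiv.swap 5 8),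
    Equiv.swap (0 : Fin 9) 1 * Equiv.swap 3 4,
    Equiv.swap (0 : Fin 9) 3 * Equiv.swap 1 4 * Equiv.swap 2 5 * Equiv.swap 6 7}

lemma toS9_gen :
    toS9 (gen 0) = Equiv.swap (0 : Fin 9) 1 * Equiv.swap 1 2 ∧
    toS9 (gen 1) = Equiv.swap (0 : Fin 9) 3 * Equiv.swap 3 6 * (Equiv.swap (1 : Fin 9) 4 * Equiv.swap 4 7) * (Equiv.swap (2 : Fin 9) 5 * Equiv.swap 5 8) ∧
    toS9 (gen 2) = Equiv.swap (0 : Fin 9) 1 * Equiv.swap 3 4 ∧
    toS9 (gen 3) = Equiv.swap (0 : Fin 9) 3 * Equiv.swap 1 4 * Equiv.swap 2 5 * Equiv.swap 6 7 := by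
  decide +kernel

lemma range_toS9 : toS9.range = Subgroup.closure gens := by
  obtain ⟨h0, h1, h2, h3⟩ := toS9_gen
  apply le_antisymm
  · rintro _ ⟨m, rfl⟩
    have g : ∀ i, toS9 (gen i) ∈ Subgroup.closure gens := fun i => Subgroup.subset_closure (by
      fin_cases i <;> simp [h0, h1, h2, h3, gens])
    have w : ∀ l : List (Fin 4), toS9 ((l.map gen).prod) ∈ Subgroup.closure gens := fun l => by
      rw [map_list_prod]
      refine Subgroup.list_prod_mem _ fun x hx => ?_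
      simp only [List.mem_map, exists_exists_and_eq_and] at hx
      obtain ⟨i, -, rfl⟩ := hx
      exact g i
    rw [eq_word m, map_mul, map_mul, map_mul, map_pow, map_pow, map_pow, ← lift_word,
      ← tr_word.1, ← tr_word.2.1, ← tr_word.2.2]
    exact mul_mem (mul_mem (mul_mem (pow_mem (w _) _) (pow_mem (w _) _)) (pow_mem (w _) _)) (w _)
  · rw [Subgroup.closure_le]
    intro x hx
    simp only [gens, Set.mem_insert_iff, Set.mem_singleton_iff] at hx
    rcases hx with rfl | rfl | rfl | rfl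
    exacts [⟨_, h0⟩, ⟨_, h1⟩, ⟨_, h2⟩, ⟨_, h3⟩]

/-! ### Translations -/

/-- The translations. -/
def trans : Subgroup M648 where
  carrier := {m | m.s = 0}
  one_mem' := rfl
  mul_mem' := fun {a b} (ha : a.s = 0) (hb : b.s = 0) => by
    show (a * b).s = 0
    rw [M648.s_mul, ha, hb]; rfl
  inv_mem' := fun {a} (ha : a.s = 0) => by
    show a⁻¹.s = 0
    rw [M648.s_inv, ha]; rfl

lemma mem_trans {m : M648} : m ∈ trans ↔ m.s = 0 := Iff.rfl

lemma trans_pow : ∀ m : M648, m.s = 0 → m ^ 3 = 1 := by decide +kernel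

lemma trans_conj : ∀ g m : M648, m.s = 0 → (g * m * g⁻¹).s = 0 := fun g m hm => by
  rw [M648.s_mul, M648.s_mul, hm, (smul_one' g.s).2.1, ← M648.s_mul, mul_inv_cancel, M648.s_one]

lemma trans_normal : trans.Normal := ⟨fun m hm g => trans_conj g m hm⟩

lemma trans_comm (m n : M648) (hm : m.s = 0) (hn : n.s = 0) : m * n = n * m := by
  obtain ⟨a, b, c, s⟩ := m
  obtain ⟨a', b', c', s'⟩ := n
  subst hm hn
  exact tr_comm a b c a' b' c'

lemma card_trans : (Finset.univ.filter fun m : M648 => m.s = 0).card = 27 := by decide +kernel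

/-- The elements acting as diagonal sign changes. -/
def isV (s : Fin 24) : Prop := s ≠ 0 ∧ ∀ i, pi s i = i

instance instDecIsV : DecidablePred isV := fun s => inferInstanceAs (Decidable (_ ∧ _))

lemma exists_isV : ∀ s : Fin 24, s ≠ 0 →
    ∃ g : Fin 24, isV s ∨ isV (smul (smul (smul s g) (sinv s)) (sinv g)) := by
  decide +kernel

lemma isV_smul_self : ∀ s : Fin 24, isV s → smul s s = 0 := by decide +kernel

lemma isV_conj : ∀ s s' : Fin 24, isV s → isV s' →
    ∃ g : Fin 24, smul (smul g s) (sinv g) = s' := by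
  decide +kernel

/-- A normal subgroup moving a translation class contains a diagonal element. -/
lemma normal_isV {N : Subgroup M648} (hN : N.Normal) {m : M648} (hm : m ∈ N) (hs : m.s ≠ 0) :
    ∃ n ∈ N, isV n.s := by
  obtain ⟨g, hg | hg⟩ := exists_isV m.s hs
  · exact ⟨m, hm, hg⟩
  · refine ⟨m * lift g * m⁻¹ * (lift g)⁻¹, ?_, by
      simpa [M648.s_mul, M648.s_inv, lift] using hg⟩
    rw [mul_assoc, mul_assoc]
    exact mul_mem hm (by rw [← mul_assoc]; exact hN.conj_mem _ (inv_mem hm) _)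

lemma pCore_eq : Cfsg.pCore 3 M648 = trans := by
  have : Fact (Nat.Prime 3) := ⟨Nat.prime_three⟩
  have htp : IsPGroup 3 trans := fun x => ⟨1, Subtype.ext (by
    rw [pow_one]; exact trans_pow x.1 x.2)⟩
  refine le_antisymm ?_ (le_sSup ⟨trans_normal, htp⟩)
  refine sSup_le ?_
  rintro N ⟨hN, hp⟩ m hm
  by_contra hs
  obtain ⟨n, hn, hv⟩ := normal_isV hN hm hs
  obtain ⟨k, hk⟩ := hp ⟨n, hn⟩
  have hk' : n ^ 3 ^ k = 1 := congrArg Subtype.val hk
  have hpow : ∀ j : ℕ, (n ^ (2 * j + 1)).s = n.s := fun j => by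
    induction j with
    | zero => rw [pow_one]
    | succ j ih =>
      rw [show 2 * (j + 1) + 1 = 2 * j + 1 + 1 + 1 by ring, pow_succ, pow_succ, M648.s_mul,
        M648.s_mul, ih, isV_smul_self _ hv]
      exact (smul_one' n.s).1
  obtain ⟨j, hj⟩ : ∃ j, 3 ^ k = 2 * j + 1 := (Odd.pow (by decide : Odd 3))
  rw [hj] at hk'
  have := hpow j
  rw [hk', M648.s_one] at this
  exact hv.1 this.symm

/-- The action on a translation vector. -/
def actv (s : Fin 24) (v : ZMod 3 × ZMod 3 × ZMod 3) : ZMod 3 × ZMod 3 × ZMod 3 :=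
  let w : Fin 3 → ZMod 3 := ![v.1, v.2.1, v.2.2]
  (eps s 0 * w (pi s 0), eps s 1 * w (pi s 1), eps s 2 * w (pi s 2))

/-- Dot product. -/
def dotv (w v : ZMod 3 × ZMod 3 × ZMod 3) : ZMod 3 := w.1 * v.1 + w.2.1 * v.2.1 + w.2.2 * v.2.2

/-- Translation by a vector. -/
def trv (v : ZMod 3 × ZMod 3 × ZMod 3) : M648 := tr v.1 v.2.1 v.2.2

lemma lift_conj : ∀ (s : Fin 24) (v : ZMod 3 × ZMod 3 × ZMod 3),
    lift s * trv v * (lift s)⁻¹ = trv (actv s v) := by
  decide +kernel

lemma dotv_actv : ∀ (s : Fin 24) (w v : ZMod 3 × ZMod 3 × ZMod 3),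
    dotv (actv s w) (actv s v) = dotv w v := by
  decide +kernel

lemma actv_injective : ∀ (s : Fin 24) (w v : ZMod 3 × ZMod 3 × ZMod 3),
    actv s w = actv s v → w = v := by
  decide +kernel

lemma orbit_card : ∀ w : ZMod 3 × ZMod 3 × ZMod 3, w ≠ 0 →
    6 ≤ (Finset.univ.image fun s => actv s w).card := by
  decide +kernel

/-- Classes of the nontrivial translations. -/
lemma trans_class : ∀ v v' : ZMod 3 × ZMod 3 × ZMod 3, cls (trv v) = cls (trv v') →
    ∃ s, actv s v = v' := by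
  decide +kernel

lemma trans_eq (m : M648) (hm : m.s = 0) : trv (m.a, m.b, m.c) = m := by
  obtain ⟨a, b, c, s⟩ := m
  subst hm
  rfl

lemma orbit_key : ∀ K ∈ ({1, 2, 3} : Finset (Fin 14)).powerset,
      2 ∈ K → 12 ∣ (∑ k ∈ K, sz k) → ∑ k ∈ K, sz k = 12 := by
    decide +kernel
lemma trans_cls : ∀ m : M648, m.s = 0 → m ≠ 1 → cls m ∈ ({1, 2, 3} : Finset (Fin 14)) := by
    decide +kernel
lemma cls_j0 : cls (tr 1 1 0) = 2 := by decide +kernel
/-- Only the twelve-element orbit has size a multiple of twelve. -/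
lemma orbit_union : ∀ K : Finset (Fin 14),
    (∀ k ∈ K, ∃ m : M648, m.s = 0 ∧ m ≠ 1 ∧ cls m = k) → cls (tr 1 1 0) ∈ K →
    12 ∣ (∑ k ∈ K, sz k) → ∑ k ∈ K, sz k = 12 := by
  intro K hK h2' 
  rw [cls_j0] at h2'
  refine orbit_key K (Finset.mem_powerset.mpr fun k hk => ?_) h2'
  obtain ⟨m, h1, h1', h⟩ := hK k hk
  exact h ▸ trans_cls m h1 h1'

lemma cent_j0 : (Finset.univ.filter fun g : M648 => g * tr 1 1 0 = tr 1 1 0 * g).card = 54 := by
  decide +kernel

lemma cls_trans : ∀ v : ZMod 3 × ZMod 3 × ZMod 3, ∀ m : M648, cls m = cls (trv v) → m.s = 0 := by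
  decide +kernel

lemma cent_invol_three : ∀ i : Fin 2, ∀ m : M648, m * invol i = invol i * m → m ^ 3 = 1 →
    m = 1 ∨ m = fix i ∨ m = fix i ^ 2 := by
  decide +kernel

lemma cent_invol_pow : ∀ i : Fin 2, ∀ m : M648, m * invol i = invol i * m → m ^ 9 = 1 →
    m ^ 3 = 1 := by
  decide +kernel

lemma trans_cls_ne : ∀ m : M648, m.s = 0 → m ≠ 1 → InD m := by decide +kernel

end Cfsg.Agent.Group648
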