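import Mathlib
import Cfsg.Agent.Lib.Group648
import Cfsg.Agent.Lib.Model648Phi
import Cfsg.Agent.Lib.CharBasicOrth

/-!
Characters of degree three of the model group.
-/

set_option autoImplicit false
set_option maxRecDepth 100000

open scoped ComplexConjugate
open Cfsg.Agent.Model108 (val emul econj epow)

namespace Cfsg.Agent.Fourier648

open Cfsg.Agent.Model648 Cfsg.Agent.Group648

/-- Translation vectors. -/
abbrev V3 := ZMod 3 × ZMod 3 × ZMod 3

lemma trv_add : ∀ v w : V3, trv (v + w) = trv v * trv w := by decide +kernel

/-- The translations as a homomorphism. -/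
def trHom : Multiplicative V3 →* M648 where
  toFun v := trv v.toAdd
  map_one' := rfl
  map_mul' v w := trv_add v.toAdd w.toAdd

lemma dotv_add : ∀ w u v : V3, dotv w (u + v) = dotv w u + dotv w v := by decide +kernel

lemma dotv_zero : ∀ w : V3, dotv w 0 = 0 := by decide +kernel

/-- The linear characters of the translations. -/
noncomputable def lamHom (w : V3) : Multiplicative V3 →* ℂˣ :=
  MonoidHom.toHomUnits
    { toFun := fun v => val (epow (dotv w v.toAdd))
      map_one' := by
        show val (epow (dotv w 0)) = 1
        rw [dotv_zero]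
        simp [epow, Model108.val_apply]
      map_mul' := fun u v => by
        show val (epow (dotv w (u.toAdd + v.toAdd))) = _
        rw [dotv_add, Model108.val_epow_add] }

lemma orth : ∀ u v : V3,
    (∑ w : V3, emul (econj (epow (dotv w u))) (epow (dotv w v))) =
      if u = v then ((27, 0) : ℤ × ℤ) else 0 := by
  decide +kernel

variable {c : M648 → ℂ}

/-- Multiplicity of a linear character in the restriction. -/
noncomputable def mult (c : M648 → ℂ) (w : V3) : ℂ :=
  (27 : ℂ)⁻¹ * ∑ u : V3, c (trv u) * conj (val (epow (dotv w u)))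

lemma mult_nat (hc : Cfsg.IsCharacter M648 c) (w : V3) : ∃ n : ℕ, mult c w = n := by
  obtain ⟨n, hn⟩ := CharBasicOrth.classInner_isCharacter (CharBasic.isCharacter_comap trHom hc)
    (CharBasicDecomp.isCharacter_linear (lamHom w))
  refine ⟨n, ?_⟩
  rw [← hn, Cfsg.classInner, mult, Nat.card_eq_fintype_card]
  rw [show (Fintype.card (Multiplicative V3) : ℂ) = 27 by norm_num [Fintype.card_prod]]
  refine congrArg _ (Fintype.sum_equiv Multiplicative.ofAdd _ _ fun u => ?_)
  rfl

lemma inversion (v : V3) : ∑ w : V3, mult c w * val (epow (dotv w v)) = c (trv v) := by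
  have h : ∀ u, ∑ w : V3, conj (val (epow (dotv w u))) * val (epow (dotv w v)) =
      if u = v then (27 : ℂ) else 0 := fun u => by
    have h := congrArg val (orth u v)
    rw [map_sum] at h
    simp only [Model108.val_mul, Model108.val_conj] at h
    rw [h]
    split <;> simp [Model108.val_apply]
  simp only [mult, Finset.mul_sum, Finset.sum_mul]
  rw [Finset.sum_comm, Finset.sum_eq_single v (fun u _ hu => ?_) (by simp)]
  · have := h v
    rw [if_pos rfl] at this
    simp only [mul_assoc, ← Finset.mul_sum, this]
    ring
  · have := h u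
    rw [if_neg hu] at this
    simp only [mul_assoc, ← Finset.mul_sum, this]
    ring

lemma mult_actv (hc : Cfsg.IsCharacter M648 c) (s : Fin 24) (w : V3) :
    mult c (actv s w) = mult c w := by
  unfold mult
  refine congrArg _ (Eq.symm (Fintype.sum_bijective (actv s)
    ((Fintype.bijective_iff_injective_and_card _).mpr ⟨fun a b => actv_injective s a b, rfl⟩)
    _ _ fun u => ?_))
  rw [dotv_actv, ← lift_conj, CharBasic.isClassFunction_of_isCharacter hc]

theorem trivial_on_trans (hc : Cfsg.IsCharacter M648 c) (h3 : c 1 = 3) {m : M648} (hm : m.s = 0) :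
    c m = c 1 := by
  choose n hn using mult_nat hc
  have hsum : ∑ w : V3, n w = 3 := by
    have h := inversion (c := c) 0
    simp only [dotv_zero, hn] at h
    rw [show trv (0 : V3) = 1 from rfl, h3] at h
    have h1 : val (epow 0) = 1 := by simp [epow, Model108.val_apply]
    simp only [h1, mul_one] at h
    exact_mod_cast h
  have hz : ∀ w : V3, w ≠ 0 → n w = 0 := fun w hw => by
    by_contra hne
    have hle : ∑ x ∈ Finset.univ.image (fun s => actv s w), n x ≤ 3 :=
      (Finset.sum_le_sum_of_subset (Finset.subset_univ _)).trans_eq hsum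
    rw [Finset.sum_congr rfl (g := fun _ => n w) (fun x hx => ?_), Finset.sum_const, smul_eq_mul] at hle
    · have h6 := Nat.mul_le_mul (orbit_card w hw) (Nat.one_le_iff_ne_zero.mpr hne)
      exact absurd (h6.trans hle) (by norm_num)
    · obtain ⟨s, -, rfl⟩ := Finset.mem_image.mp hx
      have := mult_actv hc s w
      rw [hn, hn] at this
      exact_mod_cast this
  have key : ∀ v, c (trv v) = mult c 0 := fun v => by
    rw [← inversion (c := c) v, Finset.sum_eq_single 0 (fun w _ hw => by rw [hn, hz w hw]; simp)
      (by simp)]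
    rw [show dotv 0 v = 0 by simp [dotv]]
    simp [epow, Model108.val_apply]
  rw [← trans_eq m hm, key, ← key 0]
  rfl

/-- The sum of `φ` over a coset of the translations. -/
def cosetSum (s : Fin 24) : E4 := ∑ v : V3, tab 3 (cls (⟨v.1, v.2.1, v.2.2, s⟩ : M648))

lemma cosetSum_V : ∀ s : Fin 24,
    (∑ n ∈ insert 0 (Finset.univ.filter isV), cosetSum (smul n s)) = 0 := by
  decide +kernel

lemma card_V : (insert 0 (Finset.univ.filter isV)).card = 4 := by decide +kernel

lemma smul_injective : ∀ n s t : Fin 24, smul n s = smul n t → s = t := by decide +kernel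

/-- A class function constant on the cosets of the diagonal subgroup is orthogonal to `φ`. -/
theorem inner_eq_zero (hinv : ∀ n m : M648, n.s = 0 ∨ isV n.s → c (n * m) = c m) :
    ∑ m : M648, phi 3 m * conj (c m) = 0 := by
  have hs : ∀ m : M648, c m = c (lift m.s) := fun m => by
    have h := hinv (m * (lift m.s)⁻¹) (lift m.s) (Or.inl (by
      rw [M648.s_mul, ← M648.s_mul, M648.s_mul, M648.s_inv]
      show smul m.s (sinv m.s) = 0
      exact congrArg M648.s (mul_inv_cancel m)))
    rwa [inv_mul_cancel_right] at h
  have hV : ∀ n s : Fin 24, n = 0 ∨ isV n → c (lift (smul n s)) = c (lift s) := fun n s hn => by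
    rw [← hinv (lift n) (lift s) hn, hs (lift n * lift s)]
    rfl
  have hT : ∑ m : M648, phi 3 m * conj (c m) = ∑ s, val4 (cosetSum s) * conj (c (lift s)) := by
    simp only [cosetSum, map_sum, Finset.sum_mul]
    rw [← Fintype.sum_prod_type' (f := fun (s : Fin 24) (v : V3) =>
      val4 (tab 3 (cls (⟨v.1, v.2.1, v.2.2, s⟩ : M648))) * conj (c (lift s)))]
    refine Fintype.sum_equiv
      { toFun := fun m : M648 => (m.s, (m.a, m.b, m.c))
        invFun := fun x => ⟨x.2.1, x.2.2.1, x.2.2.2, x.1⟩
        left_inv := fun _ => rfl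
        right_inv := fun _ => rfl } _ _ fun m => ?_
    show phi 3 m * conj (c m) = _
    rw [hs m]
    rfl
  have h4 : (4 : ℂ) * ∑ s, val4 (cosetSum s) * conj (c (lift s)) =
      ∑ n ∈ insert 0 (Finset.univ.filter isV),
        ∑ s, val4 (cosetSum (smul n s)) * conj (c (lift s)) := by
    rw [Finset.sum_congr (s₁ := insert 0 (Finset.univ.filter isV)) rfl
      (g := fun _ => ∑ s, val4 (cosetSum s) * conj (c (lift s)))
      (fun n hn => ?_)]
    · rw [Finset.sum_const, card_V, nsmul_eq_mul]
      norm_num
    · refine Fintype.sum_bijective (smul n)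
        (Finite.injective_iff_bijective.mp (smul_injective n)) _ _ fun s => ?_
      rw [hV n s (by simpa using hn)]
  rw [Finset.sum_comm] at h4
  simp only [← Finset.sum_mul, ← map_sum, cosetSum_V, map_zero, zero_mul, Finset.sum_const_zero] at h4
  rw [hT]
  exact (mul_eq_zero.mp h4).resolve_left (by norm_num)

end Cfsg.Agent.Fourier648
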