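import Mathlib
import Cfsg.Agent.Lib.Model648Phi
import Cfsg.Agent.Lib.Group648
import Cfsg.Agent.Lib.Fourier648

/-!
The eight virtual characters of `3^3 : S_4` supported on the classes whose `3`-part is a
translation with one or two nonzero coordinates or has order nine, and finite facts about them.
-/

set_option autoImplicit false
set_option maxRecDepth 100000

open scoped ComplexConjugate
open Cfsg.Agent.Model108 (val emul econj epow)

namespace Cfsg.Agent.A9LocalModel49

open Cfsg.Agent.Model648 Cfsg.Agent.Group648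

/-- The exceptional classes. -/
def InE (m : M648) : Prop := InD m ∧ cls m ≠ 3

instance instDecInE : DecidablePred InE := fun m => inferInstanceAs (Decidable (_ ∧ _))

/-- Coefficients in the tabulated functions. -/
def co : Fin 8 → List (Fin 9 × ℤ) := ![[(1, 1)], [(0, 1)], [(2, -1)], [(4, -1)],
  [(5, 1), (3, -1), (2, 1)], [(7, -1)], [(6, 1), (3, -1), (2, 1)], [(8, -1)]]

/-- Values on the classes. -/
def tabE (r : Fin 8) (k : Fin 14) : E4 := ((co r).map fun t => t.2 • tab t.1 k).sum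

/-- As complex functions. -/
noncomputable def psi (r : Fin 8) (m : M648) : ℂ := val4 (tabE r (cls m))

/-- Gram matrix. -/
def gramE : Fin 8 → Fin 8 → ℤ := ![
  ![2, 0, -1, 0, 1, 1, 1, 1],
  ![0, 2, 1, 1, 0, 0, 0, 0],
  ![-1, 1, 3, 1, -1, -1, -1, -1],
  ![0, 1, 1, 4, 1, 1, 1, 1],
  ![1, 0, -1, 1, 4, 1, 1, 1],
  ![1, 0, -1, 1, 1, 4, 1, 1],
  ![1, 0, -1, 1, 1, 1, 4, 1],
  ![1, 0, -1, 1, 1, 1, 1, 4]]

/-- Multiplicity of the trivial character. -/
def trE : Fin 8 → ℤ := ![0, 0, 0, 1, 1, 1, 0, 0]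

lemma tabE_vanish : ∀ r : Fin 8, ∀ k : Fin 14, dcls k = false ∨ k = 3 → tabE r k = 0 := by
  decide +kernel

lemma psi_vanish (r : Fin 8) (m : M648) (h : ¬ InE m) : psi r m = 0 := by
  rw [psi, tabE_vanish r _ ?_, map_zero]
  by_cases hd : InD m
  · exact Or.inr (by_contra fun h3 => h ⟨hd, h3⟩)
  · exact Or.inl (Bool.eq_false_iff.mpr hd)

lemma isGen_psi (r : Fin 8) : Cfsg.IsGeneralizedCharacter M648 (psi r) := by
  have key : ∀ l : List (Fin 9 × ℤ), Cfsg.IsGeneralizedCharacter M648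
      (fun m => val4 ((l.map fun t => t.2 • tab t.1 (cls m)).sum)) := by
    intro l
    induction l with
    | nil =>
      convert CharBasicDecomp.isGeneralizedCharacter_zero (G := M648) using 1
      funext m
      simp
    | cons t l ih =>
      have := CharBasicDecomp.isGeneralizedCharacter_add
        (CharBasicDecomp.isGeneralizedCharacter_zsmul (Model648Phi.isGen_phi t.1) t.2) ih
      convert this using 1
      funext m
      simp only [List.map_cons, List.sum_cons, map_add, map_zsmul, Pi.add_apply, Pi.smul_apply, phi]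
      rw [← Int.cast_smul_eq_zsmul ℂ]
  exact key (co r)

lemma isClass_psi (r : Fin 8) : Cfsg.IsClassFunction M648 (psi r) :=
  CharBasicDecomp.isClassFunction_of_isGeneralizedCharacter (isGen_psi r)

lemma gramE_E : ∀ a b : Fin 8, (∑ k, (sz k : ℤ) • mul4 (tabE a k) (conj4 (tabE b k))) =
    int4 (648 * gramE a b) := by
  decide +kernel

lemma trE_E : ∀ a : Fin 8, (∑ k, (sz k : ℤ) • tabE a k) = int4 (648 * trE a) := by decide +kernel

lemma inner_psi (a b : Fin 8) : Cfsg.classInner (psi a) (psi b) = (gramE a b : ℂ) := by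
  have h := sum_cls fun k => mul4 (tabE a k) (conj4 (tabE b k))
  rw [gramE_E, val4_int] at h
  simp only [val4_mul, val4_conj] at h
  simp only [Cfsg.classInner, Nat.card_eq_fintype_card, card_M648, psi]
  rw [h]
  push_cast
  ring

lemma inner_psi_one (a : Fin 8) : Cfsg.classInner (psi a) (fun _ => 1) = (trE a : ℂ) := by
  have h := sum_cls (tabE a)
  rw [trE_E, val4_int] at h
  simp only [Cfsg.classInner, Nat.card_eq_fintype_card, card_M648, psi, map_one, mul_one]
  rw [h]
  push_cast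
  ring

/-- The four functions used in the class equations. -/
def rowQ : Fin 4 → Fin 8 := ![2, 3, 4, 5]

/-- Weighted pair counts. -/
def pairQ : Fin 4 → Fin 2 → Fin 2 → ℤ := ![
  ![![1944, 0], ![0, 0]],
  ![![1944, 0], ![0, 5832]],
  ![![0, 1944], ![1944, 1944]],
  ![![972, 972], ![972, 2916]]]

lemma pairQ_E : ∀ r : Fin 4, ∀ i k : Fin 2,
    (∑ p ∈ Finset.univ.filter (fun m : M648 => cls m = tcls i),
      ∑ q ∈ Finset.univ.filter (fun m : M648 => cls m = tcls k), tabE (rowQ r) (cls (p * q))) =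
      int4 (pairQ r i k) := by
  decide +kernel

/-- Combinations isolating a class of translations. -/
def combT : Fin 2 → Fin 8 → ℤ := ![![4, -3, 2, 4, -3, 0, -3, 0], ![-2, 0, 2, -2, 0, 3, 0, 3]]

/-- The two translations. -/
def tvec : Fin 2 → ZMod 3 × ZMod 3 × ZMod 3 := ![(1, 0, 0), (1, 1, 0)]

lemma combT_E : ∀ j : Fin 2, ∀ k : Fin 14,
    (∑ r, combT j r • tabE r k) =
      int4 (if k = cls (trv (tvec j)) then ![108, 54] j else 0) := by
  decide +kernel

lemma combT_sz : ∀ j : Fin 2, (![108, 54] j : ℤ) * (sz (cls (trv (tvec j))) : ℤ) = 648 := by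
  decide +kernel

lemma exists_conj_tvec : ∀ j : Fin 2, ∀ m : M648, cls m = cls (trv (tvec j)) →
    ∃ s : Fin 24, lift s * trv (tvec j) * (lift s)⁻¹ = m := by
  decide +kernel

/-- Orbit sums of the linear characters of the translations. -/
def orbT : Fin 3 → Fin 14 → ℤ := ![
  ![1, 6, 12, 8, 0, 0, 0, 0, 0, 0, 0, 0, 0, 0],
  ![1, 3, 0, -4, 0, 0, 0, 0, 0, 0, 0, 0, 0, 0],
  ![1, 0, -3, 2, 0, 0, 0, 0, 0, 0, 0, 0, 0, 0]]

/-- The three evaluation points. -/
def evec : Fin 3 → ZMod 3 × ZMod 3 × ZMod 3 := ![0, (1, 0, 0), (1, 1, 0)]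

lemma orbT_E : ∀ j : Fin 3, ∀ k : Fin 14,
    (∑ w ∈ Finset.univ.filter (fun w : Fourier648.V3 => cls (trv w) = k),
      epow (dotv w (evec j))) = (orbT j k, 0) := by
  decide +kernel

/-- The sum of `ψ - 1` over a coset of the translations. -/
def cosetSum (s : Fin 24) : E4 :=
  ∑ v : Fourier648.V3, (tabE 4 (cls (⟨v.1, v.2.1, v.2.2, s⟩ : M648)) - int4 1)

lemma cosetSum_V : ∀ s : Fin 24,
    (∑ n ∈ insert 0 (Finset.univ.filter isV), cosetSum (smul n s)) = 0 := by
  decide +kernel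

/-! ### Facts on the exceptional set -/

lemma E_pow : ∀ m : M648, InE m → (m ^ od m.s).s = 0 ∧ m ^ od m.s ≠ 1 := by decide +kernel

lemma E_od : ∀ m : M648, InE m → (od m.s - 1 < 4 ∧ 0 < od m.s) ∧ m ^ (3 * od m.s) = 1 := by
  decide +kernel

lemma E_ord : ∀ m : M648, InE m → ∀ e : Fin 4, m ^ (3 * (e.val + 1)) = 1 →
    od m.s ∣ e.val + 1 := by
  decide +kernel

lemma E_inv : ∀ m : M648, InE m → InE m⁻¹ := by decide +kernel

lemma E_ne_one : ¬ InE 1 := by decide +kernel

lemma not_E_invol : ∀ m : M648, m * m = 1 → ¬ InE m := by decide +kernel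

lemma outer_cent_small : ∀ m : M648, m ^ 3 = 1 → m.s ≠ 0 →
    (Finset.univ.filter fun g : M648 => g * m = m * g ∧ g ^ 3 = 1).card < 27 := by
  decide +kernel

end Cfsg.Agent.A9LocalModel49
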