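import Mathlib

/-!
A verified search for coherence arguments.  Given the Gram matrix (off the trivial coordinate) and
the trivial coefficients of integer vectors of degree zero, `states D k` lists, up to order and
sign, the possible columns of the first `k` vectors.
-/

set_option autoImplicit false

open Finset

namespace Cfsg.Agent.CohSearch68

/-- The data of the search. -/
structure Data where
  gram : ℕ → ℕ → ℤ
  tr : ℕ → ℤ
  certs : List (List ℤ)

/-- Vectors with entries in `{-1, 0, 1}` and at most `b` nonzero entries. -/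
def choices : ℕ → ℕ → List (List ℤ)
  | 0, _ => [[]]
  | n + 1, b => (choices n b).map (fun r => 0 :: r) ++
      if 0 < b then
        (choices n (b - 1)).map (fun r => 1 :: r) ++ (choices n (b - 1)).map (fun r => -1 :: r)
      else []

/-- Squared length. -/
def sq (r : List ℤ) : ℤ := (r.map fun x => x * x).sum

/-- Product with the `j`-th row. -/
def dotc (S : List (List ℤ)) (r : List ℤ) (j : ℕ) : ℤ :=
  ((S.zip r).map fun p => p.1.getD j 0 * p.2).sum

/-- Sign of the first nonzero entry. -/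
def sgnc (c : List ℤ) : ℤ :=
  match c.find? (fun x => decide (x ≠ 0)) with
  | some x => if x < 0 then -1 else 1
  | none => 1

/-- Normalised column. -/
def normc (c : List ℤ) : List ℤ := c.map fun x => sgnc c * x

/-- A number attached to a column. -/
def code (c : List ℤ) : ℤ := c.foldl (fun a x => a * 5 + x) 0

/-- Normal form. -/
def canon (S : List (List ℤ)) : List (List ℤ) :=
  (S.map normc).insertionSort (fun a b => code a ≤ code b)

/-- All extensions of a state by the `k`-th vector. -/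
def ext (D : Data) (k : ℕ) (S : List (List ℤ)) : List (List (List ℤ)) :=
  ((choices S.length (D.gram k k).toNat).filter fun r =>
      (List.range k).all fun j => decide (dotc S r j = D.gram k j)).map fun r =>
    canon ((S.zip r).map (fun p => p.1 ++ [p.2]) ++
      List.replicate (D.gram k k - sq r).toNat (List.replicate k 0 ++ [1]))

/-- Combination of a column. -/
def comb (l : List ℤ) (k : ℕ) (c : List ℤ) : ℤ :=
  ((List.range k).map fun j => l.getD j 0 * c.getD j 0).sum

/-- A state in which some character would have degree zero. -/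
def bad (D : Data) (k : ℕ) (S : List (List ℤ)) : Bool :=
  D.certs.any fun l =>
    decide (((List.range k).map fun j => l.getD j 0 * D.tr j).sum = 0) &&
      decide ((S.filter fun c => decide (comb l k c ≠ 0)).length = 1)

/-- Removal of repetitions. -/
def dedup' : List (List (List ℤ)) → List (List (List ℤ))
  | [] => []
  | S :: l => if S ∈ dedup' l then dedup' l else S :: dedup' l

/-- The states after `k` steps. -/
def states (D : Data) : ℕ → List (List (List ℤ))
  | 0 => [[]]
  | k + 1 => dedup' (((states D k).flatMap (ext D k)).filter fun S => !bad D (k + 1) S)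

lemma mem_dedup' {l : List (List (List ℤ))} {S : List (List ℤ)} (h : S ∈ l) : S ∈ dedup' l := by
  induction l with
  | nil => simp at h
  | cons T l ih =>
    rw [dedup']
    rcases List.mem_cons.mp h with rfl | h
    · split <;> simp [*]
    · split <;> simp [ih h]

lemma mem_choices : ∀ (r : List ℤ) (b : ℕ), (∀ x ∈ r, x = 0 ∨ x = 1 ∨ x = -1) → sq r ≤ b →
    r ∈ choices r.length b
  | [], b, _, _ => by simp [choices]
  | x :: r, b, h, hb => by
    have hx := h x (List.mem_cons_self ..)
    have h' : ∀ y ∈ r, y = 0 ∨ y = 1 ∨ y = -1 := fun y hy => h y (List.mem_cons_of_mem _ hy)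
    have hsq : sq (x :: r) = x * x + sq r := by simp [sq]
    rw [List.length_cons, choices]
    rcases hx with rfl | hx
    · exact List.mem_append_left _ (List.mem_map.mpr ⟨r, mem_choices r b h' (by simpa [hsq] using hb), rfl⟩)
    · have h1 : x * x = 1 := by rcases hx with rfl | rfl <;> norm_num
      have hpos : 0 ≤ sq r := List.sum_nonneg (fun y hy => by
        obtain ⟨z, -, rfl⟩ := List.mem_map.mp hy
        exact mul_self_nonneg z)
      have hb0 : 0 < b := by omega
      refine List.mem_append_right _ ?_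
      rw [if_pos hb0]
      have hr := mem_choices r (b - 1) h' (by omega)
      rcases hx with rfl | rfl
      · exact List.mem_append_left _ (List.mem_map.mpr ⟨r, hr, rfl⟩)
      · exact List.mem_append_right _ (List.mem_map.mpr ⟨r, hr, rfl⟩)

variable {I : Type*}

/-- The vectors have the columns `S` on distinguished coordinates. -/
def Rep (V : ℕ → I → ℤ) (t : I) (k : ℕ) (S : List (List ℤ)) : Prop :=
  ∃ L : List (I × ℤ × List ℤ), L.map (fun x => x.2.2) = S ∧ (L.map Prod.fst).Nodup ∧
    (∀ x ∈ L, x.1 ≠ t ∧ x.2.1 * x.2.1 = 1 ∧ x.2.2.length = k ∧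
      ∀ j < k, V j x.1 = x.2.1 * x.2.2.getD j 0) ∧
    ∀ ψ, ψ ≠ t → ψ ∉ L.map Prod.fst → ∀ j < k, V j ψ = 0

lemma exists_perm_map {α β : Type*} (f : α → β) {S S' : List β} (h : S.Perm S') :
    ∀ L : List α, L.map f = S → ∃ L' : List α, L.Perm L' ∧ L'.map f = S' := by
  induction h with
  | nil => exact fun L hL => ⟨L, List.Perm.refl L, hL⟩
  | cons x _ ih =>
    intro L hL
    obtain ⟨a, L₁, rfl, ha, hL₁⟩ := List.map_eq_cons_iff.mp hL
    obtain ⟨L', h1, h2⟩ := ih L₁ hL₁
    exact ⟨a :: L', h1.cons a, by rw [List.map_cons, ha, h2]⟩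
  | swap x y l =>
    intro L hL
    obtain ⟨a, L₁, rfl, ha, hL₁⟩ := List.map_eq_cons_iff.mp hL
    obtain ⟨b, L₂, rfl, hb, hL₂⟩ := List.map_eq_cons_iff.mp hL₁
    exact ⟨b :: a :: L₂, List.Perm.swap b a L₂, by simp [ha, hb, hL₂]⟩
  | trans _ _ ih1 ih2 =>
    intro L hL
    obtain ⟨L', h1, h2⟩ := ih1 L hL
    obtain ⟨L'', h3, h4⟩ := ih2 L' h2
    exact ⟨L'', h1.trans h3, h4⟩

lemma sgnc_sq (c : List ℤ) : sgnc c * sgnc c = 1 := by
  unfold sgnc
  split
  · split <;> norm_num
  · norm_num

lemma getD_normc (c : List ℤ) (j : ℕ) : (normc c).getD j 0 = sgnc c * c.getD j 0 := by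
  have h := List.getD_map (l := c) (d := (0 : ℤ)) (n := j) (fun x => sgnc c * x)
  simpa [normc] using h

lemma rep_canon {V : ℕ → I → ℤ} {t : I} {k : ℕ} {S : List (List ℤ)} (h : Rep V t k S) :
    Rep V t k (canon S) := by
  obtain ⟨L, hS, hnd, hL, hz⟩ := h
  let f : I × ℤ × List ℤ → I × ℤ × List ℤ := fun x => (x.1, x.2.1 * sgnc x.2.2, normc x.2.2)
  have hmap : (L.map f).map (fun x => x.2.2) = S.map normc := by
    rw [← hS, List.map_map, List.map_map]; rfl
  obtain ⟨L', hp, hL'⟩ := exists_perm_map (fun x : I × ℤ × List ℤ => x.2.2)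
    (List.perm_insertionSort (fun a b => code a ≤ code b) (S.map normc)).symm (L.map f) hmap
  have hfst : (L.map f).map Prod.fst = L.map Prod.fst := by rw [List.map_map]; rfl
  refine ⟨L', hL', ?_, fun x hx => ?_, fun ψ hψ hψL => hz ψ hψ fun h => hψL ?_⟩
  · rw [← hfst] at hnd
    exact (hp.map _).nodup_iff.mp hnd
  · obtain ⟨y, hy, rfl⟩ := List.mem_map.mp (hp.mem_iff.mpr hx)
    obtain ⟨h1, h2, h3, h4⟩ := hL y hy
    refine ⟨h1, ?_, by simp [f, normc, h3], fun j hj => ?_⟩
    · show y.2.1 * sgnc y.2.2 * (y.2.1 * sgnc y.2.2) = 1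
      rw [mul_mul_mul_comm, h2, sgnc_sq, one_mul]
    · show V j y.1 = y.2.1 * sgnc y.2.2 * (normc y.2.2).getD j 0
      rw [getD_normc, mul_assoc, ← mul_assoc (sgnc _), sgnc_sq, one_mul, h4 j hj]
  · exact (hp.map Prod.fst).mem_iff.mp (hfst.symm ▸ h)

variable [Fintype I] [DecidableEq I]

/-- The hypotheses on the vectors. -/
structure Hyp (D : Data) (m : ℕ) (V : ℕ → I → ℤ) (t : I) (deg : I → ℤ) : Prop where
  gram : ∀ i < m, ∀ j < m, ∑ ψ ∈ univ.erase t, V i ψ * V j ψ = D.gram i j
  triv : ∀ i < m, V i t = D.tr i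
  degZero : ∀ i < m, ∑ ψ, V i ψ * deg ψ = 0
  degOne : deg t = 1
  degPos : ∀ ψ, 0 < deg ψ
  small : ∀ i < m, D.gram i i < 4 ∨ (D.gram i i = 4 ∧ D.tr i = 0)

variable {D : Data} {m : ℕ} {V : ℕ → I → ℤ} {t : I} {deg : I → ℤ}

lemma entry_small (H : Hyp D m V t deg) {k : ℕ} (hk : k < m) {ψ : I} (hψ : ψ ≠ t) :
    V k ψ = 0 ∨ V k ψ = 1 ∨ V k ψ = -1 := by
  by_contra hne
  simp only [not_or] at hne
  obtain ⟨a, b, c⟩ := hne
  have h2 : 2 ≤ V k ψ ∨ V k ψ ≤ -2 := by omega
  have h4 : 4 ≤ V k ψ * V k ψ := by rcases h2 with h | h <;> nlinarith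
  have hmem : ψ ∈ univ.erase t := Finset.mem_erase.mpr ⟨hψ, Finset.mem_univ _⟩
  have hsum := H.gram k hk k hk
  rw [← Finset.add_sum_erase _ _ hmem] at hsum
  have hrest : 0 ≤ ∑ x ∈ (univ.erase t).erase ψ, V k x * V k x :=
    Finset.sum_nonneg fun x _ => mul_self_nonneg _
  rcases H.small k hk with h | ⟨h, ht⟩
  · omega
  · have h0 : ∑ x ∈ (univ.erase t).erase ψ, V k x * V k x = 0 := by omega
    have hd := H.degZero k hk
    rw [Finset.sum_eq_single ψ (fun x _ hx => ?_) (by simp)] at hd
    · rcases mul_eq_zero.mp hd with h | h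
      · exact a h
      · exact absurd h (H.degPos ψ).ne'
    · by_cases hxt : x = t
      · rw [hxt, H.triv k hk, ht, zero_mul]
      · have := (Finset.sum_eq_zero_iff_of_nonneg fun y _ => mul_self_nonneg _).mp h0 x
          (Finset.mem_erase.mpr ⟨hx, Finset.mem_erase.mpr ⟨hxt, Finset.mem_univ _⟩⟩)
        rw [mul_self_eq_zero.mp this, zero_mul]

lemma sum_erase_eq_list {L : List (I × ℤ × List ℤ)} (hnd : (L.map Prod.fst).Nodup)
    (ht : ∀ x ∈ L, x.1 ≠ t) (f : I → ℤ) :
    ∑ ψ ∈ univ.erase t, f ψ = (L.map fun x => f x.1).sum +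
      ∑ ψ ∈ univ.erase t \ (L.map Prod.fst).toFinset, f ψ := by
  have hsub : (L.map Prod.fst).toFinset ⊆ univ.erase t := fun ψ hψ => by
    obtain ⟨x, hx, rfl⟩ := List.mem_map.mp (List.mem_toFinset.mp hψ)
    exact Finset.mem_erase.mpr ⟨ht x hx, Finset.mem_univ _⟩
  rw [← Finset.sum_sdiff hsub, add_comm, List.sum_toFinset f hnd, List.map_map]
  rfl

lemma rep_step (H : Hyp D m V t deg) {k : ℕ} (hk : k < m) {S : List (List ℤ)}
    (hS : Rep V t k S) : ∃ S' ∈ ext D k S, Rep V t (k + 1) S' := by
  obtain ⟨L, rfl, hnd, hL, hz⟩ := hS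
  set r : List ℤ := L.map fun x => x.2.1 * V k x.1 with hr
  set R : Finset I := (univ.erase t \ (L.map Prod.fst).toFinset).filter fun ψ => V k ψ ≠ 0 with hR
  have hmemR : ∀ ψ, ψ ∈ R ↔ ψ ≠ t ∧ ψ ∉ L.map Prod.fst ∧ V k ψ ≠ 0 := fun ψ => by
    simp [hR, and_assoc]
  have hsq : sq r = (L.map fun x => V k x.1 * V k x.1).sum := by
    rw [sq, hr, List.map_map]
    refine congrArg List.sum (List.map_congr_left fun x hx => ?_)
    simp only [Function.comp]
    linear_combination (V k x.1 * V k x.1) * (hL x hx).2.1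
  have hcard : D.gram k k - sq r = (R.card : ℤ) := by
    have h := H.gram k hk k hk
    rw [sum_erase_eq_list hnd (fun x hx => (hL x hx).1), ← hsq] at h
    have h1 : ∀ ψ ∈ univ.erase t \ (L.map Prod.fst).toFinset,
        V k ψ * V k ψ = if V k ψ ≠ 0 then (1 : ℤ) else 0 := fun ψ hψ => by
      rcases entry_small H hk (Finset.mem_erase.mp (Finset.mem_sdiff.mp hψ).1).1 with e | e | e <;>
        simp [e]
    rw [Finset.sum_congr rfl h1, Finset.sum_boole] at h
    rw [← h, hR]
    simp
  refine ⟨_, List.mem_map.mpr ⟨r, List.mem_filter.mpr ⟨?_, ?_⟩, rfl⟩, rep_canon ?_⟩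
  · have hlen : r.length = (L.map fun x => x.2.2).length := by simp [hr]
    rw [← hlen]
    refine mem_choices r _ (fun x hx => ?_) ?_
    · obtain ⟨y, hy, rfl⟩ := List.mem_map.mp hx
      obtain ⟨hyt, hy2, -, -⟩ := hL y hy
      rcases mul_self_eq_one_iff.mp hy2 with e | e <;>
        rcases entry_small H hk hyt with e' | e' | e' <;> simp [e, e']
    · have : 0 ≤ D.gram k k - sq r := hcard ▸ Int.natCast_nonneg _
      omega
  · rw [List.all_eq_true]
    intro j hj
    rw [decide_eq_true_eq]
    have hjk : j < k := List.mem_range.mp hj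
    rw [← H.gram k hk j (hjk.trans hk), sum_erase_eq_list hnd (fun x hx => (hL x hx).1),
      Finset.sum_eq_zero (fun ψ hψ => by
        obtain ⟨h1, h2⟩ := Finset.mem_sdiff.mp hψ
        rw [hz ψ (Finset.mem_erase.mp h1).1 (fun h => h2 (List.mem_toFinset.mpr h)) j hjk,
          mul_zero]), add_zero, dotc, hr, List.zip_map', List.map_map]
    refine congrArg List.sum (List.map_congr_left fun x hx => ?_)
    simp only [Function.comp, (hL x hx).2.2.2 j hjk]
    ring
  · refine ⟨L.map (fun x => (x.1, x.2.1, x.2.2 ++ [x.2.1 * V k x.1])) ++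
      R.toList.map (fun ψ => (ψ, V k ψ, List.replicate k 0 ++ [1])), ?_, ?_, ?_, ?_⟩
    · rw [List.map_append, List.map_map, List.map_map, hr, List.zip_map', List.map_map, hcard,
        Int.toNat_natCast, ← Finset.length_toList, ← List.map_const']
      rfl
    · rw [List.map_append, List.map_map, List.map_map, List.nodup_append]
      refine ⟨hnd, by simpa [Function.comp_def] using R.nodup_toList, fun a ha b hb hab => ?_⟩
      obtain ⟨ψ, hψ, rfl⟩ := List.mem_map.mp hb
      subst hab
      exact ((hmemR _).mp (Finset.mem_toList.mp hψ)).2.1 ha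
    · intro x hx
      rcases List.mem_append.mp hx with h | h
      · obtain ⟨y, hy, rfl⟩ := List.mem_map.mp h
        obtain ⟨h1, h2, h3, h4⟩ := hL y hy
        refine ⟨h1, h2, by simp [h3], fun j hj => ?_⟩
        rcases Nat.lt_succ_iff_lt_or_eq.mp hj with hj | rfl
        · rw [List.getD_append _ _ _ _ (by rw [h3]; exact hj)]
          exact h4 j hj
        · rw [List.getD_append_right _ _ _ _ (le_of_eq h3)]
          simp only [h3, Nat.sub_self, List.getD_cons_zero]
          rw [← mul_assoc, h2, one_mul]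
      · obtain ⟨ψ, hψ, rfl⟩ := List.mem_map.mp h
        obtain ⟨h1, h2, h3⟩ := (hmemR ψ).mp (Finset.mem_toList.mp hψ)
        have he : V k ψ = 1 ∨ V k ψ = -1 := (entry_small H hk h1).resolve_left h3
        refine ⟨h1, by rcases he with e | e <;> simp [e], by simp, fun j hj => ?_⟩
        rcases Nat.lt_succ_iff_lt_or_eq.mp hj with hj | rfl
        · rw [List.getD_append _ _ _ _ (by simpa using hj), List.getD_replicate _ hj, mul_zero]
          exact hz ψ h1 h2 j hj
        · rw [List.getD_append_right _ _ _ _ (by simp)]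
          simp
    · intro ψ h1 h2 j hj
      rw [List.map_append, List.map_map, List.map_map, List.mem_append, not_or] at h2
      rcases Nat.lt_succ_iff_lt_or_eq.mp hj with hj | rfl
      · exact hz ψ h1 h2.1 j hj
      · by_contra hne
        exact h2.2 (List.mem_map.mpr ⟨ψ, Finset.mem_toList.mpr ((hmemR ψ).mpr ⟨h1, h2.1, hne⟩), rfl⟩)

lemma not_bad (H : Hyp D m V t deg) {k : ℕ} (hk : k ≤ m) {S : List (List ℤ)}
    (hS : Rep V t k S) : bad D k S = false := by
  obtain ⟨L, rfl, hnd, hL, hz⟩ := hS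
  rw [Bool.eq_false_iff]
  intro hb
  obtain ⟨l, -, hl⟩ := List.any_eq_true.mp hb
  rw [Bool.and_eq_true, decide_eq_true_eq, decide_eq_true_eq, List.filter_map, List.length_map] at hl
  obtain ⟨htr, hlen⟩ := hl
  obtain ⟨x, hx⟩ := List.length_eq_one_iff.mp hlen
  have hxm : x ∈ L ∧ comb l k x.2.2 ≠ 0 := by
    have h : x ∈ L.filter ((fun c => decide (comb l k c ≠ 0)) ∘ fun x => x.2.2) := hx ▸ List.mem_singleton_self x
    simpa using List.mem_filter.mp h
  set U : I → ℤ := fun ψ => ((List.range k).map fun j => l.getD j 0 * V j ψ).sum with hU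
  have hU0 : ∑ ψ, U ψ * deg ψ = 0 := by
    simp only [hU]
    have : ∀ ψ, ((List.range k).map fun j => l.getD j 0 * V j ψ).sum * deg ψ =
        ∑ j ∈ Finset.range k, l.getD j 0 * (V j ψ * deg ψ) := fun ψ => by
      rw [show ((List.range k).map fun j => l.getD j 0 * V j ψ).sum =
        ∑ j ∈ Finset.range k, l.getD j 0 * V j ψ from rfl, Finset.sum_mul]
      simp only [mul_assoc]
    simp only [this]
    rw [Finset.sum_comm]
    refine Finset.sum_eq_zero fun j hj => ?_
    rw [← Finset.mul_sum, H.degZero j ((Finset.mem_range.mp hj).trans_le hk), mul_zero]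
  have hUt : U t = 0 := by
    rw [← htr]
    refine congrArg List.sum (List.map_congr_left fun j hj => ?_)
    rw [H.triv j ((List.mem_range.mp hj).trans_le hk)]
  have hUL : ∀ y ∈ L, U y.1 = y.2.1 * comb l k y.2.2 := fun y hy => by
    rw [comb, ← List.sum_map_mul_left]
    refine congrArg List.sum (List.map_congr_left fun j hj => ?_)
    rw [(hL y hy).2.2.2 j (List.mem_range.mp hj)]
    ring
  rw [Finset.sum_eq_single x.1 (fun ψ _ hψ => ?_) (by simp)] at hU0
  · rw [hUL x hxm.1] at hU0
    rcases mul_eq_zero.mp hU0 with h | h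
    · rcases mul_eq_zero.mp h with h | h
      · have := (hL x hxm.1).2.1
        rw [h] at this
        norm_num at this
      · exact hxm.2 h
    · exact absurd h (H.degPos _).ne'
  · by_cases hψt : ψ = t
    · rw [hψt, hUt, zero_mul]
    by_cases hψL : ψ ∈ L.map Prod.fst
    · obtain ⟨y, hy, rfl⟩ := List.mem_map.mp hψL
      have hy0 : comb l k y.2.2 = 0 := by
        by_contra hne
        have : y ∈ L.filter ((fun c => decide (comb l k c ≠ 0)) ∘ fun x => x.2.2) :=
          List.mem_filter.mpr ⟨hy, by simpa using hne⟩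
        rw [hx, List.mem_singleton] at this
        exact hψ (by rw [this])
      rw [hUL y hy, hy0, mul_zero, zero_mul]
    · have : U ψ = 0 := List.sum_eq_zero fun z hz' => by
        obtain ⟨j, hj, rfl⟩ := List.mem_map.mp hz'
        rw [hz ψ hψt hψL j (List.mem_range.mp hj), mul_zero]
      rw [this, zero_mul]

/-- Soundness of the search. -/
theorem exists_state (H : Hyp D m V t deg) : ∀ k ≤ m, ∃ S ∈ states D k, Rep V t k S
  | 0, _ => ⟨[], List.mem_singleton_self _, [], rfl, List.nodup_nil, by simp, by simp⟩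
  | k + 1, hk => by
    obtain ⟨S, hS, hrep⟩ := exists_state H k (Nat.le_of_succ_le hk)
    obtain ⟨S', hS', hrep'⟩ := rep_step H hk hrep
    exact ⟨S', mem_dedup' (List.mem_filter.mpr ⟨List.mem_flatMap.mpr ⟨S, hS, hS'⟩,
      by rw [not_bad H hk hrep']; rfl⟩), hrep'⟩

end Cfsg.Agent.CohSearch68
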