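import Mathlib
import Cfsg.Agent.Lib.CohSearch68
import Cfsg.Agent.Lib.A9LocalModel49

/-!
The possible decompositions of eight induced virtual characters.
-/

set_option autoImplicit false
set_option maxRecDepth 100000

open Finset

namespace Cfsg.Agent.A9LocalSearch49

open Cfsg.Agent.CohSearch68 Cfsg.Agent.A9LocalModel49

/-- The search data. -/
def dat : Data where
  gram i j := if h : i < 8 ∧ j < 8 then
      gramE ⟨i, h.1⟩ ⟨j, h.2⟩ - trE ⟨i, h.1⟩ * trE ⟨j, h.2⟩ else 0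
  tr i := if h : i < 8 then trE ⟨i, h⟩ else 0
  certs := [[0, -1, -1, 0, 0, 0, -1], [0, -1, -1, 0, 0, 0, 0, -1], [-1, -1], [-1, 1, -1, -1, 1],
    [-1, 1, -1, -1, 0, 1], [-1, 0, 1, -1, 0, 1, 1, 1], [-1, 0, 1, -1, 1, 0, 1, 1]]

/-- A decomposition. -/
def st0 : List (List ℤ) :=
  [[0,0,0,0,0,0,0,1],[0,0,0,0,0,0,0,1],[0,0,0,0,0,0,1,0],[0,0,0,0,0,0,1,0],[0,0,0,0,0,1,0,0],[0,0,0,0,1,-1,0,0],[0,0,0,0,1,0,0,0],[0,0,0,1,0,0,0,1],[0,0,0,1,0,0,1,0],[0,0,1,0,0,0,0,0],[0,1,0,0,0,0,0,0],[0,1,1,1,0,0,0,0],[1,0,-1,0,1,1,1,1],[1,0,0,0,0,0,0,0]]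

/-- A decomposition. -/
def st1 : List (List ℤ) :=
  [[0,0,0,0,0,0,0,1],[0,0,0,0,0,0,1,-1],[0,0,0,0,0,0,1,0],[0,0,0,0,0,1,0,0],[0,0,0,0,1,-1,0,0],[0,0,0,0,1,0,0,0],[0,0,0,1,0,0,0,0],[0,0,0,1,0,0,1,1],[0,0,1,0,0,0,0,0],[0,1,0,0,0,0,0,0],[0,1,1,1,0,0,0,0],[1,0,-1,0,1,1,1,1],[1,0,0,0,0,0,0,0]]

/-- A decomposition. -/
def st2 : List (List ℤ) :=
  [[0,0,0,0,0,0,1,-1],[0,0,0,0,0,0,1,1],[0,0,0,0,0,1,0,0],[0,0,0,0,1,-1,0,0],[0,0,0,0,1,0,0,0],[0,0,0,1,0,0,0,1],[0,0,0,1,0,0,1,0],[0,0,1,0,0,0,0,0],[0,1,0,0,0,0,0,0],[0,1,1,1,0,0,0,0],[1,0,-1,0,1,1,1,1],[1,0,0,0,0,0,0,0]]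

/-- A decomposition. -/
def st3 : List (List ℤ) :=
  [[0,0,0,0,0,0,0,1],[0,0,0,0,0,0,1,-1],[0,0,0,0,0,0,1,0],[0,0,0,0,0,1,0,0],[0,0,0,0,1,-1,0,0],[0,0,0,0,1,0,0,0],[0,0,0,1,0,0,1,1],[0,0,1,1,0,0,0,0],[0,1,0,1,0,0,0,0],[0,1,1,0,0,0,0,0],[1,0,-1,0,1,1,1,1],[1,0,0,0,0,0,0,0]]

lemma states_eq : states dat 8 = [st0, st1, st2, st3] := by decide +kernel

lemma dat_small : ∀ i : Fin 8, dat.gram i i < 4 ∨ (dat.gram i i = 4 ∧ dat.tr i = 0) := by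
  decide +kernel

variable {I : Type*} [Fintype I] [DecidableEq I]

/-- Every solution has one of the four shapes. -/
theorem coherence (t : I) (deg : I → ℤ) (ht : deg t = 1) (hdeg : ∀ ψ, 0 < deg ψ)
    (V : Fin 8 → I → ℤ) (hgram : ∀ a b, ∑ ψ, V a ψ * V b ψ = gramE a b)
    (he : ∀ a, V a t = trE a) (h0 : ∀ a, ∑ ψ, V a ψ * deg ψ = 0) :
    ∃ S ∈ [st0, st1, st2, st3],
      Rep (fun i ψ => if h : i < 8 then V ⟨i, h⟩ ψ else 0) t 8 S := by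
  have H : Hyp dat 8 (fun i ψ => if h : i < 8 then V ⟨i, h⟩ ψ else 0) t deg :=
    { gram := fun i hi j hj => by
        have h := hgram ⟨i, hi⟩ ⟨j, hj⟩
        rw [← Finset.add_sum_erase _ _ (Finset.mem_univ t), he, he] at h
        simp only [dat, dif_pos hi, dif_pos hj, dif_pos (And.intro hi hj)]
        linarith
      triv := fun i hi => by simp only [dat, dif_pos hi]; exact he _
      degZero := fun i hi => by simp only [dif_pos hi]; exact h0 _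
      degOne := ht
      degPos := hdeg
      small := fun i hi => dat_small ⟨i, hi⟩ }
  obtain ⟨S, hS, hrep⟩ := exists_state H 8 le_rfl
  exact ⟨S, states_eq ▸ hS, hrep⟩

end Cfsg.Agent.A9LocalSearch49
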