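import Mathlib
import Cfsg.Agent.Lib.CharInducedTI
import Cfsg.Agent.Lib.CharBasicOrth
import Cfsg.Agent.Lib.ClassAlgebraVal

/-!
Induction from a TI set `D` inside an embedded subgroup, rigidity of the values on `D`, and
the class equation for products of two conjugates of one element.
-/

set_option autoImplicit false

open scoped ComplexConjugate
open Finset

namespace Cfsg.Agent.ExcChar68

universe u v

variable {G : Type u} {M : Type v} [Group G] [Group M]

/-- `D` is a TI set of `G` inside the image of `ι`. -/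
structure TISet (ι : M →* G) (D : M → Prop) : Prop where
  inj : Function.Injective ι
  ti : ∀ g : G, ∀ d d' : M, D d → D d' → g * ι d * g⁻¹ = ι d' → g ∈ ι.range
  ne_one : ∀ d : M, D d → d ≠ 1

/-- The isomorphism onto the image. -/
noncomputable def rEquiv (ι : M →* G) (h : Function.Injective ι) : M ≃* ι.range :=
  MonoidHom.ofInjective h

open scoped Classical in
/-- Induction along `ι`. -/
noncomputable def tau [Fintype G] (ι : M →* G) (φ : M → ℂ) : G → ℂ :=
  indFun ι.range (fun x => if h : Function.Injective ι then φ ((rEquiv ι h).symm x) else 0)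

lemma tau_eq [Fintype G] (ι : M →* G) (h : Function.Injective ι) (φ : M → ℂ) :
    tau ι φ = indFun ι.range (fun x => φ ((rEquiv ι h).symm x)) := by
  unfold tau
  simp only [dif_pos h]

lemma tau_add [Fintype G] (ι : M →* G) (h : Function.Injective ι) (φ ψ : M → ℂ) :
    tau ι (φ + ψ) = tau ι φ + tau ι ψ := by
  simp only [tau_eq ι h]
  exact CharInduced.ind_add _ _ _

variable [Fintype G] {ι : M →* G} {D : M → Prop}

lemma isClassFunction_pull (h : Function.Injective ι) {φ : M → ℂ}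
    (hφ : Cfsg.IsClassFunction M φ) :
    Cfsg.IsClassFunction ι.range (fun x => φ ((rEquiv ι h).symm x)) := fun a b => by
  simp only [map_mul, map_inv]; exact hφ _ _

lemma vanish_pull (h : Function.Injective ι) {φ : M → ℂ} (hD : ∀ m, ¬ D m → φ m = 0) :
    ∀ x : ι.range, (x : G) ∉ ι '' {m | D m} → φ ((rEquiv ι h).symm x) = 0 := fun x hx => by
  refine hD _ fun hd => hx ⟨_, hd, ?_⟩
  exact congrArg Subtype.val ((rEquiv ι h).apply_symm_apply x)

lemma ti_image (hT : TISet ι D) : ∀ g : G, g ∉ ι.range → ∀ t ∈ ι '' {m | D m},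
    g * t * g⁻¹ ∈ ι '' {m | D m} → t = 1 := by
  rintro g hg _ ⟨d, hd, rfl⟩ ⟨d', hd', he⟩
  exact absurd (hT.ti g d d' hd hd' he.symm) hg

lemma tau_apply (hT : TISet ι D) {φ : M → ℂ} (hφ : Cfsg.IsClassFunction M φ)
    (hD : ∀ m, ¬ D m → φ m = 0) {d : M} (hd : D d) : tau ι φ (ι d) = φ d := by
  rw [tau_eq ι hT.inj]
  have h1 : (rEquiv ι hT.inj d : G) = ι d := rfl
  rw [← h1, CharInduced.ind_eq_of_ti (ι '' {m | D m}) ι.range (ti_image hT) _
    (isClassFunction_pull hT.inj hφ) (vanish_pull hT.inj hD) _ ⟨d, hd, h1.symm⟩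
    (fun e => hT.ne_one d hd (by
      have := congrArg (rEquiv ι hT.inj).symm e
      simpa using this))]
  simp

lemma tau_eq_zero (hT : TISet ι D) {φ : M → ℂ} (hD : ∀ m, ¬ D m → φ m = 0) {g : G}
    (hg : ∀ x : G, ∀ d : M, D d → x⁻¹ * g * x ≠ ι d) : tau ι φ g = 0 := by
  rw [tau_eq ι hT.inj]
  refine CharInduced.ind_eq_zero_of_vanish _ _ _ fun x h hx => ?_
  refine hD _ fun hd => hg x _ hd ?_
  rw [hx]
  exact (congrArg Subtype.val ((rEquiv ι hT.inj).apply_symm_apply h)).symm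

lemma tau_one (hT : TISet ι D) {φ : M → ℂ} (hD : ∀ m, ¬ D m → φ m = 0) : tau ι φ 1 = 0 :=
  tau_eq_zero hT hD fun x d hd e => by
    rw [mul_one, inv_mul_cancel] at e
    exact hT.ne_one d hd (hT.inj (by rw [← e, map_one]))

lemma isClassFunction_tau (φ : M → ℂ) : Cfsg.IsClassFunction G (tau ι φ) :=
  CharInduced.isClassFunction_ind _ _

lemma isGenChar_tau (hT : TISet ι D) {φ : M → ℂ} (h : Cfsg.IsGeneralizedCharacter M φ) :
    Cfsg.IsGeneralizedCharacter G (tau ι φ) := by
  rw [tau_eq ι hT.inj]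
  exact CharInduced.isGenChar_ind _
    (CharBasicDecomp.isGeneralizedCharacter_comap (rEquiv ι hT.inj).symm.toMonoidHom h)

lemma inner_tau [Fintype M] (hT : TISet ι D) {φ ψ : M → ℂ} (hψ : Cfsg.IsClassFunction M ψ)
    (hφD : ∀ m, ¬ D m → φ m = 0) (hψD : ∀ m, ¬ D m → ψ m = 0) :
    Cfsg.classInner (tau ι φ) (tau ι ψ) = Cfsg.classInner φ ψ := by
  classical
  letI : Fintype ι.range := Fintype.ofFinite _
  rw [tau_eq ι hT.inj, tau_eq ι hT.inj,
    CharInduced.classInner_ind_of_ti (ι '' {m | D m}) ι.range (ti_image hT) _ _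
      (isClassFunction_pull hT.inj hψ) (vanish_pull hT.inj hφD) (vanish_pull hT.inj hψD)
      (by rw [map_one]; exact hφD 1 fun h => hT.ne_one 1 h rfl)]
  exact CharBasicOrth.classInner_congr_equiv (rEquiv ι hT.inj).symm φ ψ

lemma inner_tau_triv [Fintype M] (hT : TISet ι D) (φ : M → ℂ) :
    Cfsg.classInner (tau ι φ) (fun _ => 1) = Cfsg.classInner φ (fun _ => 1) := by
  classical
  letI : Fintype ι.range := Fintype.ofFinite _
  rw [tau_eq ι hT.inj, CharInduced.inner_ind_left _ _ (fun _ _ => rfl)]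
  exact CharBasicOrth.classInner_congr_equiv (rEquiv ι hT.inj).symm φ (fun _ => 1)

omit [Fintype G] in
lemma centralizer_le (hT : TISet ι D) {d : M} (hd : D d) :
    Subgroup.centralizer ({ι d} : Set G) ≤ ι.range := fun g hg => by
  refine hT.ti g d d hd hd ?_
  rw [Subgroup.mem_centralizer_singleton_iff] at hg
  rw [hg, mul_inv_cancel_right]

omit [Fintype G] in
lemma card_centralizer (hT : TISet ι D) [Finite M] {d : M} (hd : D d) :
    Nat.card (Subgroup.centralizer ({ι d} : Set G)) =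
      Nat.card (Subgroup.centralizer ({d} : Set M)) := by
  refine (Nat.card_congr (Equiv.ofBijective
    (fun m : Subgroup.centralizer ({d} : Set M) =>
      (⟨ι m, by
        rw [Subgroup.mem_centralizer_singleton_iff, ← map_mul, ← map_mul,
          Subgroup.mem_centralizer_singleton_iff.mp m.2]⟩ :
        Subgroup.centralizer ({ι d} : Set G))) ⟨?_, ?_⟩)).symm
  · intro a b h
    exact Subtype.ext (hT.inj (congrArg Subtype.val h))
  · rintro ⟨g, hg⟩
    obtain ⟨m, rfl⟩ := centralizer_le hT hd hg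
    refine ⟨⟨m, ?_⟩, rfl⟩
    rw [Subgroup.mem_centralizer_singleton_iff] at hg ⊢
    exact hT.inj (by rw [map_mul, map_mul, hg])

/-- Rigidity: the values on `D` are determined. -/
theorem rigid {C : Type*} [Fintype C] (χ : C → M → ℂ) (σ : C → Cfsg.IrrCharacter G)
    (sg : C → ℤ) (hσ : Function.Injective σ) (hsg : ∀ c, sg c * sg c = 1) (d : G) (dm : M)
    (hnorm : ∑ c, χ c dm * conj (χ c dm) = (Nat.card (Subgroup.centralizer ({d} : Set G)) : ℂ))
    (hperp : ∑ c, ((sg c : ℂ) * (σ c : G → ℂ) d - χ c dm) * conj (χ c dm) = 0) :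
    (∀ c, (sg c : ℂ) * (σ c : G → ℂ) d = χ c dm) ∧
      ∀ ψ : Cfsg.IrrCharacter G, (∀ c, σ c ≠ ψ) → (ψ : G → ℂ) d = 0 := by
  classical
  have hall := CharBasicOrth.sum_irr_mul_conj d d
  rw [if_pos (IsConj.refl d)] at hall
  set v : C → ℂ := fun c => (sg c : ℂ) * (σ c : G → ℂ) d
  set r : C → ℂ := fun c => v c - χ c dm with hr
  have hv : ∀ c, v c * conj (v c) = (σ c : G → ℂ) d * conj ((σ c : G → ℂ) d) := fun c => by
    simp only [v, map_mul, map_intCast]
    have : (sg c : ℂ) * (sg c : ℂ) = 1 := by exact_mod_cast hsg c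
    linear_combination ((σ c : G → ℂ) d * conj ((σ c : G → ℂ) d)) * this
  have hperp' : ∑ c, χ c dm * conj (r c) = 0 := by
    have := congrArg conj hperp
    rw [map_sum, map_zero] at this
    rw [← this]
    refine Finset.sum_congr rfl fun c _ => ?_
    rw [map_mul, Complex.conj_conj, mul_comm]
  have hsum : ∑ c, v c * conj (v c) =
      (Nat.card (Subgroup.centralizer ({d} : Set G)) : ℂ) + ∑ c, r c * conj (r c) := by
    have : ∀ c, v c * conj (v c) =
        χ c dm * conj (χ c dm) + r c * conj (χ c dm) + χ c dm * conj (r c) + r c * conj (r c) :=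
      fun c => by simp only [hr, map_sub]; ring
    simp only [this, Finset.sum_add_distrib, hnorm]
    have hp : ∑ c, r c * conj (χ c dm) = 0 := hperp
    rw [hp, hperp']; ring
  set S : Finset (Cfsg.IrrCharacter G) := Finset.univ.image σ
  have hsplit := (Finset.sum_add_sum_compl S fun ψ : Cfsg.IrrCharacter G =>
    (ψ : G → ℂ) d * conj ((ψ : G → ℂ) d)).trans hall
  rw [Finset.sum_image fun a _ b _ h => hσ h, ← Finset.sum_congr rfl fun c _ => hv c, hsum,
    add_assoc] at hsplit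
  have hz : ((∑ c, Complex.normSq (r c) +
      ∑ ψ ∈ Sᶜ, Complex.normSq ((ψ : G → ℂ) d) : ℝ) : ℂ) = 0 := by
    push_cast
    simp only [← Complex.mul_conj]
    linear_combination hsplit
  rw [Complex.ofReal_eq_zero, add_eq_zero_iff_of_nonneg
    (Finset.sum_nonneg fun _ _ => Complex.normSq_nonneg _)
    (Finset.sum_nonneg fun _ _ => Complex.normSq_nonneg _),
    Finset.sum_eq_zero_iff_of_nonneg fun _ _ => Complex.normSq_nonneg _,
    Finset.sum_eq_zero_iff_of_nonneg fun _ _ => Complex.normSq_nonneg _] at hz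
  refine ⟨fun c => sub_eq_zero.mp (Complex.normSq_eq_zero.mp (hz.1 c (Finset.mem_univ c))),
    fun ψ hψ => Complex.normSq_eq_zero.mp (hz.2 ψ ?_)⟩
  simp only [S, Finset.mem_compl, Finset.mem_image, Finset.mem_univ, true_and, not_exists]
  exact hψ

omit [Fintype G] in
lemma card_conj_fiber [Finite G] {x p : G} (h : IsConj x p) :
    Nat.card {g : G // g * x * g⁻¹ = p} = Nat.card (Subgroup.centralizer ({x} : Set G)) := by
  obtain ⟨g₀, hg₀⟩ := isConj_iff.mp h
  refine Nat.card_congr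
    { toFun := fun g => ⟨g₀⁻¹ * (g : G), ?_⟩
      invFun := fun c => ⟨g₀ * (c : G), ?_⟩
      left_inv := fun g => Subtype.ext (mul_inv_cancel_left _ _)
      right_inv := fun c => Subtype.ext (inv_mul_cancel_left _ _) }
  · have hg : (g : G) * x * (g : G)⁻¹ = g₀ * x * g₀⁻¹ := g.2.trans hg₀.symm
    rw [Subgroup.mem_centralizer_singleton_iff]
    have h2 : (g₀⁻¹ * (g : G)) * x * (g₀⁻¹ * (g : G))⁻¹ = x := by
      calc (g₀⁻¹ * (g : G)) * x * (g₀⁻¹ * (g : G))⁻¹
          = g₀⁻¹ * ((g : G) * x * (g : G)⁻¹) * g₀ := by group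
        _ = g₀⁻¹ * (g₀ * x * g₀⁻¹) * g₀ := by rw [hg]
        _ = x := by group
    exact mul_inv_eq_iff_eq_mul.mp h2
  · have hc := Subgroup.mem_centralizer_singleton_iff.mp c.2
    calc g₀ * (c : G) * x * (g₀ * (c : G))⁻¹ = g₀ * ((c : G) * x * (c : G)⁻¹) * g₀⁻¹ := by group
      _ = p := by rw [hc, mul_inv_cancel_right, hg₀]

/-- Class equation for one class: pairs `(h, g)` with `(h x h⁻¹)(g x g⁻¹) = z`. -/
theorem class_sum (x z : G) :
    ∑ χ : Cfsg.IrrCharacter G, (χ : G → ℂ) x * (χ : G → ℂ) x * conj ((χ : G → ℂ) z) /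
        (χ : G → ℂ) 1 =
      (Nat.card {q : G × G // q.1 * x * q.1⁻¹ * (q.2 * x * q.2⁻¹) = z} : ℂ) / Nat.card G := by
  classical
  rw [ClassAlgebraVal.sum_irr_triple x x z, ← Nat.cast_mul]
  congr 2
  let P := {q : G × G // q.1 * x * q.1⁻¹ * (q.2 * x * q.2⁻¹) = z}
  let Q := Σ w : {w : G // IsConj z (x * (w * x * w⁻¹))},
    {h : G // h * (x * ((w : G) * x * (w : G)⁻¹)) * h⁻¹ = z}
  have e : P ≃ Q :=
    { toFun := fun q => ⟨⟨q.1.1⁻¹ * q.1.2, by
          obtain ⟨⟨a, b⟩, hab⟩ := q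
          subst hab
          refine isConj_iff.mpr ⟨a⁻¹, ?_⟩
          group⟩, ⟨q.1.1, by
          refine Eq.trans ?_ q.2
          group⟩⟩
      invFun := fun q => ⟨(q.2.1, q.2.1 * q.1.1), by
          refine Eq.trans ?_ q.2.2
          group⟩
      left_inv := fun q => Subtype.ext (Prod.ext rfl (mul_inv_cancel_left _ _))
      right_inv := fun q => by
        obtain ⟨⟨w, hw⟩, ⟨h, hh⟩⟩ := q
        refine Sigma.subtype_ext (Subtype.ext ?_) rfl
        exact inv_mul_cancel_left h w }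
  rw [Nat.card_congr e, Nat.card_sigma, mul_comm]
  have hfib : ∀ w : {w : G // IsConj z (x * (w * x * w⁻¹))},
      Nat.card {h : G // h * (x * ((w : G) * x * (w : G)⁻¹)) * h⁻¹ = z} =
        Nat.card (Subgroup.centralizer ({z} : Set G)) := fun w => by
    rw [card_conj_fiber w.2.symm]
    obtain ⟨g, hg⟩ := isConj_iff.mp w.2
    rw [← hg]
    exact Nat.card_congr
      ((Subgroup.centralizer ({z} : Set G)).equivMapOfInjective (MulAut.conj g).toMonoidHom
        (MulAut.conj g).injective |>.toEquiv.trans (Equiv.setCongr (by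
          ext c
          simp only [Subgroup.coe_map, Set.mem_image, SetLike.mem_coe,
            Subgroup.mem_centralizer_singleton_iff]
          constructor
          · rintro ⟨a, ha, rfl⟩
            simp only [MulEquiv.coe_toMonoidHom, MulAut.conj_apply]
            rw [show g * a * g⁻¹ * (g * z * g⁻¹) = g * (a * z) * g⁻¹ by group, ha]
            group
          · intro hc
            refine ⟨g⁻¹ * c * g, ?_, by simp [MulAut.conj_apply, mul_assoc]⟩
            calc g⁻¹ * c * g * z = g⁻¹ * (c * (g * z * g⁻¹)) * g := by group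
              _ = g⁻¹ * ((g * z * g⁻¹) * c) * g := by rw [hc]
              _ = z * (g⁻¹ * c * g) := by group))).symm
  simp only [hfib, Finset.sum_const, Finset.card_univ, smul_eq_mul, ← Nat.card_eq_fintype_card]

/-- The pairs counted inside the embedded subgroup. -/
theorem card_pairs [Fintype M] (hinj : Function.Injective ι) (x : G) (d : M)
    (hrange : ∀ p q : G, IsConj x p → IsConj x q → p * q = ι d → p ∈ ι.range ∧ q ∈ ι.range) :
    Nat.card {q : G × G // q.1 * x * q.1⁻¹ * (q.2 * x * q.2⁻¹) = ι d} =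
      Nat.card (Subgroup.centralizer ({x} : Set G)) ^ 2 *
        Nat.card {q : M × M // IsConj x (ι q.1) ∧ IsConj x (ι q.2) ∧ q.1 * q.2 = d} := by
  classical
  let B := {q : M × M // IsConj x (ι q.1) ∧ IsConj x (ι q.2) ∧ q.1 * q.2 = d}
  let e : (Σ b : B, {g : G // g * x * g⁻¹ = ι b.1.1} × {g : G // g * x * g⁻¹ = ι b.1.2}) →
      {q : G × G // q.1 * x * q.1⁻¹ * (q.2 * x * q.2⁻¹) = ι d} :=
    fun t => ⟨(t.2.1.1, t.2.2.1), by
      show t.2.1.1 * x * t.2.1.1⁻¹ * (t.2.2.1 * x * t.2.2.1⁻¹) = ι d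
      rw [t.2.1.2, t.2.2.2, ← map_mul, t.1.2.2.2]⟩
  have he : Function.Bijective e := by
    constructor
    · rintro ⟨⟨⟨p, q⟩, hb⟩, ⟨g, hg⟩, ⟨h, hh⟩⟩ ⟨⟨⟨p', q'⟩, hb'⟩, ⟨g', hg'⟩, ⟨h', hh'⟩⟩ h'' 
      simp only [e, Subtype.mk.injEq, Prod.mk.injEq] at h''
      obtain ⟨rfl, rfl⟩ := h''
      obtain rfl : p = p' := hinj (hg.symm.trans hg')
      obtain rfl : q = q' := hinj (hh.symm.trans hh')
      rfl
    · rintro ⟨⟨g, h⟩, hq⟩
      obtain ⟨⟨p, hp⟩, ⟨q, hq'⟩⟩ := hrange _ _ (isConj_iff.mpr ⟨g, rfl⟩) (isConj_iff.mpr ⟨h, rfl⟩) hq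
      refine ⟨⟨⟨(p, q), isConj_iff.mpr ⟨g, hp.symm⟩, isConj_iff.mpr ⟨h, hq'.symm⟩, hinj ?_⟩,
        ⟨g, hp.symm⟩, ⟨h, hq'.symm⟩⟩, rfl⟩
      rw [map_mul, hp, hq', hq]
  rw [← Nat.card_congr (Equiv.ofBijective e he), Nat.card_sigma]
  have : ∀ b : B, Nat.card ({g : G // g * x * g⁻¹ = ι b.1.1} × {g : G // g * x * g⁻¹ = ι b.1.2}) =
      Nat.card (Subgroup.centralizer ({x} : Set G)) ^ 2 := fun b => by
    rw [Nat.card_prod, card_conj_fiber b.2.1, card_conj_fiber b.2.2.1, sq]
  simp only [this, Finset.sum_const, Finset.card_univ, smul_eq_mul, ← Nat.card_eq_fintype_card]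
  ring

end Cfsg.Agent.ExcChar68
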