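import Mathlib
import Cfsg.Agent.Lib.ExcChar68

/-!
Class equations for two conjugacy classes, paired with a function supported on a TI set.
-/

set_option autoImplicit false

open scoped ComplexConjugate
open Finset

namespace Cfsg.Agent.ExcChar68b

open Cfsg.Agent.ExcChar68

universe u v

variable {G : Type u} {M : Type v} [Group G]

lemma card_fiber_congr [Finite G] {x p : G} (h : IsConj x p) :
    Nat.card {g : G // g * x * g⁻¹ = p} = Nat.card (Subgroup.centralizer ({x} : Set G)) :=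
  card_conj_fiber h

variable [Group M] [Fintype G]

/-- Class equation for two classes. -/
theorem class_sum2 (x y z : G) :
    ∑ χ : Cfsg.IrrCharacter G, (χ : G → ℂ) x * (χ : G → ℂ) y * conj ((χ : G → ℂ) z) /
        (χ : G → ℂ) 1 =
      (Nat.card {q : G × G // q.1 * x * q.1⁻¹ * (q.2 * y * q.2⁻¹) = z} : ℂ) / Nat.card G := by
  classical
  rw [ClassAlgebraVal.sum_irr_triple x y z, ← Nat.cast_mul]
  congr 2
  let P := {q : G × G // q.1 * x * q.1⁻¹ * (q.2 * y * q.2⁻¹) = z}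
  let Q := Σ w : {w : G // IsConj z (x * (w * y * w⁻¹))},
    {h : G // h * (x * ((w : G) * y * (w : G)⁻¹)) * h⁻¹ = z}
  have e : P ≃ Q :=
    { toFun := fun q => ⟨⟨q.1.1⁻¹ * q.1.2, by
          obtain ⟨⟨a, b⟩, hab⟩ := q
          subst hab
          refine isConj_iff.mpr ⟨a⁻¹, ?_⟩
          group⟩, ⟨q.1.1, by
          refine Eq.trans ?_ q.2
          group⟩⟩
      invFun := fun q => ⟨(q.2.1, q.2.1 * q.1.1), by
          refine Eq.trans ?_ q.2.2
          group⟩
      left_inv := fun q => Subtype.ext (Prod.ext rfl (mul_inv_cancel_left _ _))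
      right_inv := fun q => by
        obtain ⟨⟨w, hw⟩, ⟨h, hh⟩⟩ := q
        refine Sigma.subtype_ext (Subtype.ext ?_) rfl
        exact inv_mul_cancel_left h w }
  rw [Nat.card_congr e, Nat.card_sigma, mul_comm]
  have hfib : ∀ w : {w : G // IsConj z (x * (w * y * w⁻¹))},
      Nat.card {h : G // h * (x * ((w : G) * y * (w : G)⁻¹)) * h⁻¹ = z} =
        Nat.card (Subgroup.centralizer ({z} : Set G)) := fun w => by
    rw [card_fiber_congr w.2.symm]
    obtain ⟨g, hg⟩ := isConj_iff.mp w.2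
    rw [← hg]
    exact Nat.card_congr
      ((Subgroup.centralizer ({z} : Set G)).equivMapOfInjective (MulAut.conj g).toMonoidHom
        (MulAut.conj g).injective |>.toEquiv.trans (Equiv.setCongr (by
          ext c
          simp only [Subgroup.coe_map, Set.mem_image, SetLike.mem_coe,
            Subgroup.mem_centralizer_singleton_iff]
          constructor
          · rintro ⟨a, ha, rfl⟩
            simp only [MulEquiv.coe_toMonoidHom, MulAut.conj_apply]
            rw [show g * a * g⁻¹ * (g * z * g⁻¹) = g * (a * z) * g⁻¹ by group, ha]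
            group
          · intro hc
            refine ⟨g⁻¹ * c * g, ?_, by simp [MulAut.conj_apply, mul_assoc]⟩
            calc g⁻¹ * c * g * z = g⁻¹ * (c * (g * z * g⁻¹)) * g := by group
              _ = g⁻¹ * ((g * z * g⁻¹) * c) * g := by rw [hc]
              _ = z * (g⁻¹ * c * g) := by group))).symm
  simp only [hfib, Finset.sum_const, Finset.card_univ, smul_eq_mul, ← Nat.card_eq_fintype_card]

/-- The pairs counted inside the embedded subgroup. -/
theorem card_pairs2 [Fintype M] {ι : M →* G} (hinj : Function.Injective ι) (x y : G) (d : M)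
    (hrange : ∀ p q : G, IsConj x p → IsConj y q → p * q = ι d → p ∈ ι.range ∧ q ∈ ι.range) :
    Nat.card {q : G × G // q.1 * x * q.1⁻¹ * (q.2 * y * q.2⁻¹) = ι d} =
      Nat.card (Subgroup.centralizer ({x} : Set G)) * Nat.card (Subgroup.centralizer ({y} : Set G)) *
        Nat.card {q : M × M // IsConj x (ι q.1) ∧ IsConj y (ι q.2) ∧ q.1 * q.2 = d} := by
  classical
  let B := {q : M × M // IsConj x (ι q.1) ∧ IsConj y (ι q.2) ∧ q.1 * q.2 = d}
  let e : (Σ b : B, {g : G // g * x * g⁻¹ = ι b.1.1} × {g : G // g * y * g⁻¹ = ι b.1.2}) →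
      {q : G × G // q.1 * x * q.1⁻¹ * (q.2 * y * q.2⁻¹) = ι d} :=
    fun t => ⟨(t.2.1.1, t.2.2.1), by
      show t.2.1.1 * x * t.2.1.1⁻¹ * (t.2.2.1 * y * t.2.2.1⁻¹) = ι d
      rw [t.2.1.2, t.2.2.2, ← map_mul, t.1.2.2.2]⟩
  have he : Function.Bijective e := by
    constructor
    · rintro ⟨⟨⟨p, q⟩, hb⟩, ⟨g, hg⟩, ⟨h, hh⟩⟩ ⟨⟨⟨p', q'⟩, hb'⟩, ⟨g', hg'⟩, ⟨h', hh'⟩⟩ h''
      simp only [e, Subtype.mk.injEq, Prod.mk.injEq] at h''
      obtain ⟨rfl, rfl⟩ := h''
      obtain rfl : p = p' := hinj (hg.symm.trans hg')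
      obtain rfl : q = q' := hinj (hh.symm.trans hh')
      rfl
    · rintro ⟨⟨g, h⟩, hq⟩
      obtain ⟨⟨p, hp⟩, ⟨q, hq'⟩⟩ :=
        hrange _ _ (isConj_iff.mpr ⟨g, rfl⟩) (isConj_iff.mpr ⟨h, rfl⟩) hq
      refine ⟨⟨⟨(p, q), isConj_iff.mpr ⟨g, hp.symm⟩, isConj_iff.mpr ⟨h, hq'.symm⟩, hinj ?_⟩,
        ⟨g, hp.symm⟩, ⟨h, hq'.symm⟩⟩, rfl⟩
      rw [map_mul, hp, hq', hq]
  rw [← Nat.card_congr (Equiv.ofBijective e he), Nat.card_sigma]
  have : ∀ b : B, Nat.card ({g : G // g * x * g⁻¹ = ι b.1.1} × {g : G // g * y * g⁻¹ = ι b.1.2}) =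
      Nat.card (Subgroup.centralizer ({x} : Set G)) *
        Nat.card (Subgroup.centralizer ({y} : Set G)) := fun b => by
    rw [Nat.card_prod, card_fiber_congr b.2.1, card_fiber_congr b.2.2.1]
  simp only [this, Finset.sum_const, Finset.card_univ, smul_eq_mul, ← Nat.card_eq_fintype_card]
  ring

/-- The class equation paired with an induced function. -/
theorem pairing [Fintype M] {ι : M →* G} {D : M → Prop} (hT : TISet ι D) {φ : M → ℂ}
    (hD : ∀ m, ¬ D m → φ m = 0) (x y : G) (c : ℕ) (N : M → ℕ)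
    (hN : ∀ d, D d →
      Nat.card {q : G × G // q.1 * x * q.1⁻¹ * (q.2 * y * q.2⁻¹) = ι d} = c * N d) :
    ∑ ψ : Cfsg.IrrCharacter G, Cfsg.classInner (tau ι φ) (ψ : G → ℂ) *
        ((ψ : G → ℂ) x * (ψ : G → ℂ) y / (ψ : G → ℂ) 1) =
      (c : ℂ) / ((Nat.card G : ℂ) * (Nat.card M : ℂ)) * ∑ m, φ m * (N m : ℂ) := by
  classical
  letI : Fintype ι.range := Fintype.ofFinite _
  have hinner : ∀ ψ : Cfsg.IrrCharacter G, Cfsg.classInner (tau ι φ) (ψ : G → ℂ) =
      (Nat.card M : ℂ)⁻¹ * ∑ m, φ m * conj ((ψ : G → ℂ) (ι m)) := fun ψ => by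
    rw [tau_eq ι hT.inj, CharInduced.inner_ind_left _ _ (CharBasicDecomp.isClassFunction_of_isGeneralizedCharacter
      (CharBasicDecomp.isGeneralizedCharacter_of_isCharacter
        (CharBasic.isCharacter_of_isIrrCharacter ψ.2)))]
    rw [← CharBasicOrth.classInner_congr_equiv (rEquiv ι hT.inj), Cfsg.classInner]
    refine congrArg _ (Finset.sum_congr rfl fun m _ => ?_)
    show φ ((rEquiv ι hT.inj).symm (rEquiv ι hT.inj m)) * _ = _
    rw [MulEquiv.symm_apply_apply]
    rfl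
  have hsum : ∀ m, φ m * ∑ ψ : Cfsg.IrrCharacter G,
      (ψ : G → ℂ) x * (ψ : G → ℂ) y * conj ((ψ : G → ℂ) (ι m)) / (ψ : G → ℂ) 1 =
      φ m * ((c : ℂ) * (N m : ℂ) / Nat.card G) := fun m => by
    by_cases hm : D m
    · rw [class_sum2, hN m hm, Nat.cast_mul]
    · rw [hD m hm, zero_mul, zero_mul]
  have h := Finset.sum_congr rfl fun m (_ : m ∈ (Finset.univ : Finset M)) => hsum m
  simp only [hinner, Finset.mul_sum, Finset.sum_mul] at h ⊢
  rw [Finset.sum_comm]
  have h' := congrArg ((Nat.card M : ℂ)⁻¹ * ·) h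
  simp only [Finset.mul_sum] at h'
  refine Eq.trans (Eq.trans ?_ h') ?_
  · exact Finset.sum_congr rfl fun m _ => Finset.sum_congr rfl fun ψ _ => by ring
  · refine Finset.sum_congr rfl fun m _ => ?_
    ring

end Cfsg.Agent.ExcChar68b
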