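import Mathlib
import Cfsg.Agent.Lib.ExcChar68b
import Cfsg.Agent.Lib.A9LocalModel49

/-!
A subgroup `3^3 : S_4` containing the centralisers of its nontrivial translations: the exceptional
classes form a TI set and the class equations (adapted from the proof of S3702, without assuming
strong closure).
-/

set_option autoImplicit false

open scoped ComplexConjugate
open Cfsg.Agent.Model648 Cfsg.Agent.Group648 Cfsg.Agent.ExcChar68 Cfsg.Agent.A9LocalModel49

namespace Cfsg.Agent.A9LocalSetup49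

variable {G : Type*} [Group G]

/-- The hypotheses, transported to the model. -/
structure Setup (ι : M648 →* G) : Prop where
  inj : Function.Injective ι
  cent : ∀ m : M648, m.s = 0 → m ≠ 1 → Subgroup.centralizer ({ι m} : Set G) ≤ ι.range

variable {ι : M648 →* G}

/-- The image of the translations. -/
def Jg (ι : M648 →* G) : Subgroup G := trans.map ι

lemma mem_Jg {g : G} : g ∈ Jg ι ↔ ∃ m : M648, m.s = 0 ∧ ι m = g := Iff.rfl

lemma range_le_normalizer : ι.range ≤ Subgroup.normalizer (Jg ι : Set G) := by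
  rintro _ ⟨g, rfl⟩
  rw [Subgroup.mem_normalizer_iff]
  intro x
  constructor
  · rintro ⟨m, hm, rfl⟩
    exact ⟨g * m * g⁻¹, trans_conj g m hm, by simp⟩
  · rintro ⟨m, hm, he⟩
    refine ⟨g⁻¹ * m * g, ?_, ?_⟩
    · have := trans_conj g⁻¹ m hm
      rwa [inv_inv] at this
    · rw [map_mul, map_mul, map_inv, he]; group

lemma card_cent_j0 (S : Setup ι) :
    Nat.card (Subgroup.centralizer ({ι (tr 1 1 0)} : Set G)) = 54 := by
  classical
  have h : Subgroup.centralizer ({ι (tr 1 1 0)} : Set G) =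
      (Subgroup.centralizer ({tr 1 1 0} : Set M648)).map ι := by
    ext g
    simp only [Subgroup.mem_map, Subgroup.mem_centralizer_singleton_iff]
    constructor
    · intro hg
      obtain ⟨m, rfl⟩ := S.cent (tr 1 1 0) rfl (by decide +kernel)
        (Subgroup.mem_centralizer_singleton_iff.mpr hg)
      exact ⟨m, S.inj (by rw [map_mul, map_mul]; exact hg), rfl⟩
    · rintro ⟨m, hm, rfl⟩
      rw [← map_mul, ← map_mul, hm]
  rw [h, ← Nat.card_congr (Subgroup.equivMapOfInjective _ ι S.inj).toEquiv, ← cent_j0]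
  exact Nat.subtype_card _ fun x => by simp [Subgroup.mem_centralizer_singleton_iff]

lemma normalizer_le [Finite G] (S : Setup ι) : Subgroup.normalizer (Jg ι : Set G) ≤ ι.range := by
  classical
  set N := Subgroup.normalizer (Jg ι : Set G) with hN
  set x := ι (tr 1 1 0) with hx
  let O : Finset M648 := Finset.univ.filter fun m => ∃ g ∈ N, g * x * g⁻¹ = ι m
  have hO : ∀ m ∈ O, m.s = 0 ∧ m ≠ 1 := by
    intro m hm
    obtain ⟨g, hg, he⟩ := (Finset.mem_filter.mp hm).2
    have hmem : g * x * g⁻¹ ∈ Jg ι := (Subgroup.mem_normalizer_iff.mp hg x).mp ⟨_, rfl, rfl⟩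
    obtain ⟨m', hm', he'⟩ := hmem
    obtain rfl : m' = m := S.inj (he'.trans he)
    refine ⟨hm', fun h => ?_⟩
    rw [h, map_one, mul_inv_eq_one, mul_eq_left] at he
    exact absurd (S.inj (he.trans (map_one ι).symm)) (by decide +kernel)
  let e : (Σ o : O, {g : G // g * x * g⁻¹ = ι o.1}) → N := fun p => ⟨p.2.1, by
    obtain ⟨g₀, hg₀, he⟩ := (Finset.mem_filter.mp p.1.2).2
    have hc : g₀⁻¹ * p.2.1 ∈ N := range_le_normalizer (S.cent (tr 1 1 0) rfl (by decide +kernel) (by
      rw [Subgroup.mem_centralizer_singleton_iff]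
      have h := p.2.2.trans he.symm
      calc g₀⁻¹ * p.2.1 * x = g₀⁻¹ * (p.2.1 * x * p.2.1⁻¹) * p.2.1 := by group
        _ = g₀⁻¹ * (g₀ * x * g₀⁻¹) * p.2.1 := by rw [h]
        _ = x * (g₀⁻¹ * p.2.1) := by group))
    simpa using mul_mem hg₀ hc⟩
  have he : Function.Bijective e := by
    constructor
    · rintro ⟨⟨o, ho⟩, ⟨g, hg⟩⟩ ⟨⟨o', ho'⟩, ⟨g', hg'⟩⟩ h
      obtain rfl : g = g' := congrArg Subtype.val h
      obtain rfl : o = o' := S.inj (hg.symm.trans hg')
      rfl
    · rintro ⟨g, hg⟩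
      obtain ⟨m, -, hm⟩ := (Subgroup.mem_normalizer_iff.mp hg x).mp ⟨_, rfl, rfl⟩
      exact ⟨⟨⟨m, Finset.mem_filter.mpr ⟨Finset.mem_univ _, g, hg, hm.symm⟩⟩, ⟨g, hm.symm⟩⟩, rfl⟩
  have hcard : Nat.card N = O.card * 54 := by
    rw [← Nat.card_congr (Equiv.ofBijective e he), Nat.card_sigma]
    have : ∀ o : O, Nat.card {g : G // g * x * g⁻¹ = ι o.1} = 54 := fun o => by
      obtain ⟨g₀, -, hg₀⟩ := (Finset.mem_filter.mp o.2).2
      rw [ExcChar68.card_conj_fiber (isConj_iff.mpr ⟨g₀, hg₀⟩), card_cent_j0 S]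
    simp [this]
  have hH : Nat.card ι.range = 648 := by
    rw [← Nat.card_congr (rEquiv ι S.inj).toEquiv, Nat.card_eq_fintype_card, card_M648]
  have hdvd : 648 ∣ O.card * 54 := hcard ▸ hH ▸ Subgroup.card_dvd_of_le range_le_normalizer
  -- the orbit is a union of classes
  have hclosed : ∀ m ∈ O, ∀ m' : M648, cls m' = cls m → m' ∈ O := by
    intro m hm m' hcls
    obtain ⟨hs, -⟩ := hO m hm
    have hs' : m'.s = 0 := cls_trans (m.a, m.b, m.c) m' (by rw [trans_eq m hs]; exact hcls)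
    obtain ⟨s, hs''⟩ := trans_class (m.a, m.b, m.c) (m'.a, m'.b, m'.c) (by
      rw [trans_eq m hs, trans_eq m' hs', hcls])
    have hconj := lift_conj s (m.a, m.b, m.c)
    rw [hs'', trans_eq m hs, trans_eq m' hs'] at hconj
    obtain ⟨g, hg, he'⟩ := (Finset.mem_filter.mp hm).2
    refine Finset.mem_filter.mpr
      ⟨Finset.mem_univ _, ι (lift s) * g, mul_mem (range_le_normalizer ⟨_, rfl⟩) hg, ?_⟩
    rw [← hconj, map_mul, map_mul, map_inv, ← he']
    group
  have hOK : O.card = ∑ k ∈ O.image cls, sz k := by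
    rw [Finset.card_eq_sum_card_image cls O]
    refine Finset.sum_congr rfl fun k hk => ?_
    rw [← card_cls k]
    congr 1
    ext m
    simp only [Finset.mem_filter, Finset.mem_univ, true_and, and_iff_right_iff_imp]
    intro hmk
    obtain ⟨m₀, hm₀, rfl⟩ := Finset.mem_image.mp hk
    exact hclosed m₀ hm₀ m hmk
  have h12 : O.card = 12 := by
    rw [hOK]
    refine orbit_union _ (fun k hk => ?_) (Finset.mem_image.mpr ⟨tr 1 1 0, ?_, rfl⟩) ?_
    · obtain ⟨m, hm, rfl⟩ := Finset.mem_image.mp hk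
      exact ⟨m, (hO m hm).1, (hO m hm).2, rfl⟩
    · exact Finset.mem_filter.mpr ⟨Finset.mem_univ _, 1, one_mem _, by rw [hx]; simp⟩
    · rw [← hOK]
      omega
  exact (Subgroup.eq_of_le_of_card_ge range_le_normalizer (by rw [hcard, h12, hH])).ge

lemma ti [Finite G] (S : Setup ι) {g : G} {m : M648} (hm : m.s = 0) (h1 : m ≠ 1)
    (hg : g * ι m * g⁻¹ ∈ Jg ι) : g ∈ ι.range := by
  classical
  obtain ⟨m', hm', he⟩ := hg
  have h1' : m' ≠ 1 := fun h => h1 (S.inj (by
    rw [h, map_one] at he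
    rw [map_one]
    exact mul_eq_left.mp (mul_inv_eq_one.mp he.symm)))
  have hr : ∀ n : M648, n.s = 0 → g * ι n * g⁻¹ ∈ ι.range := fun n hn => S.cent m' hm' h1' (by
      rw [Subgroup.mem_centralizer_singleton_iff, he]
      calc g * ι n * g⁻¹ * (g * ι m * g⁻¹) = g * ι (n * m) * g⁻¹ := by rw [map_mul]; group
        _ = g * ι (m * n) * g⁻¹ := by rw [trans_comm n m hn hm]
        _ = _ := by rw [map_mul]; group)
  choose f hf using hr
  have hmap : (Jg ι).map (MulAut.conj g).toMonoidHom ≤ Jg ι := by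
    rintro _ ⟨_, ⟨n, hn, rfl⟩, rfl⟩
    show g * ι n * g⁻¹ ∈ Jg ι
    rw [← hf n hn]
    refine ⟨f n hn, ?_, rfl⟩
    by_contra hs
    have h3 : ∀ k hk, f k hk ^ 3 = 1 := fun k hk => S.inj (by
      rw [map_pow, hf, conj_pow, ← map_pow, trans_pow k hk, map_one, mul_one, mul_inv_cancel])
    refine (outer_cent_small (f n hn) (h3 n hn) hs).not_ge ?_
    rw [← card_trans]
    refine Finset.card_le_card_of_injOn (fun k => if hk : k.s = 0 then f k hk else 1) ?_ ?_
    · intro k hk
      have hk' : k.s = 0 := (Finset.mem_filter.mp hk).2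
      simp only [dif_pos hk']
      refine Finset.mem_filter.mpr ⟨Finset.mem_univ _, S.inj ?_, h3 k hk'⟩
      rw [map_mul, map_mul, hf k hk', show ι (f n hn) = g * ι n * g⁻¹ from hf n hn]
      calc g * ι k * g⁻¹ * (g * ι n * g⁻¹) = g * ι (k * n) * g⁻¹ := by rw [map_mul]; group
        _ = g * ι (n * k) * g⁻¹ := by rw [trans_comm k n hk' hn]
        _ = _ := by rw [map_mul]; group
    · intro k hk l hl hkl
      have hk' : k.s = 0 := (Finset.mem_filter.mp hk).2
      have hl' : l.s = 0 := (Finset.mem_filter.mp hl).2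
      simp only [dif_pos hk', dif_pos hl'] at hkl
      have h := congrArg ι hkl
      rw [hf, hf] at h
      exact S.inj (mul_left_cancel (mul_right_cancel h))
  have heq : (Jg ι).map (MulAut.conj g).toMonoidHom = Jg ι :=
    Subgroup.eq_of_le_of_card_ge hmap (le_of_eq
      (Nat.card_congr ((Jg ι).equivMapOfInjective _ (MulAut.conj g).injective).toEquiv))
  refine normalizer_le S ?_
  rw [Subgroup.mem_normalizer_iff]
  intro n
  constructor
  · intro hn
    rw [← heq]
    exact ⟨n, hn, rfl⟩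
  · intro hn
    have hn' : g * n * g⁻¹ ∈ (Jg ι).map (MulAut.conj g).toMonoidHom := heq.symm ▸ hn
    obtain ⟨k, hk, hk'⟩ := hn'
    rwa [← (MulAut.conj g).injective hk']

lemma tiset [Finite G] (S : Setup ι) : TISet ι InE := by
  refine ⟨S.inj, fun g d d' hd hd' he => ?_, fun d hd h => E_ne_one (h ▸ hd)⟩
  obtain ⟨h1, h2⟩ := E_pow d hd
  obtain ⟨⟨a4, a0⟩, a1⟩ := E_od d hd
  obtain ⟨⟨b4, b0⟩, b1⟩ := E_od d' hd'
  have hpow : ∀ k : ℕ, g * ι (d ^ k) * g⁻¹ = ι (d' ^ k) := fun k => by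
    rw [map_pow, map_pow, ← conj_pow, he]
  have hone : ∀ k : ℕ, d ^ k = 1 ↔ d' ^ k = 1 := fun k => by
    constructor
    · intro h
      exact S.inj (by rw [← hpow, h, map_one, mul_one, mul_inv_cancel])
    · intro h
      have e := hpow k
      rw [h, map_one, mul_inv_eq_one, mul_eq_left] at e
      exact S.inj (e.trans (map_one ι).symm)
  have hea : od d.s - 1 + 1 = od d.s := Nat.sub_add_cancel a0
  have heb : od d'.s - 1 + 1 = od d'.s := Nat.sub_add_cancel b0
  have hab : od d.s = od d'.s := Nat.dvd_antisymm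
    (heb ▸ E_ord d hd ⟨od d'.s - 1, b4⟩ (by
      show d ^ (3 * (od d'.s - 1 + 1)) = 1
      rw [heb, hone]; exact b1))
    (hea ▸ E_ord d' hd' ⟨od d.s - 1, a4⟩ (by
      show d' ^ (3 * (od d.s - 1 + 1)) = 1
      rw [hea, ← hone]; exact a1))
  refine ti S h1 h2 ⟨d' ^ od d.s, ?_, (hpow _).symm⟩
  rw [hab]
  exact (E_pow d' hd').1

/-! ### Involutions -/

lemma tr_ne_one : tr 0 1 0 ≠ 1 := by decide +kernel

lemma not_zpow (k : ℤ) : tr 0 1 0 ^ k ≠ tr 1 0 0 := by
  rw [← Int.emod_add_mul_ediv k 3, zpow_add, zpow_mul,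
    show tr 0 1 0 ^ (3 : ℤ) = 1 from (zpow_natCast (tr 0 1 0) 3).trans (trans_pow _ rfl),
    one_zpow, mul_one]
  have h1 := Int.emod_nonneg k (show (3 : ℤ) ≠ 0 by norm_num)
  have h2 := Int.emod_lt_of_pos k (show (0 : ℤ) < 3 by norm_num)
  obtain h | h | h : k % 3 = ((0 : ℕ) : ℤ) ∨ k % 3 = ((1 : ℕ) : ℤ) ∨ k % 3 = ((2 : ℕ) : ℤ) := by
    omega
  all_goals rw [h, zpow_natCast]; decide +kernel

lemma fix_sylow [Finite G] (S : Setup ι) (i : Fin 2) (P : Subgroup G) (hP : IsPGroup 3 P)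
    (hPC : P ≤ Subgroup.centralizer ({ι (invol i)} : Set G)) (hfix : ι (fix i) ∈ P) :
    P = Subgroup.zpowers (ι (fix i)) := by
  classical
  have : Fact (Nat.Prime 3) := ⟨Nat.prime_three⟩
  obtain ⟨-, -, -, -, hfs, hf1⟩ := invol_facts i
  set A := Subgroup.zpowers (ι (fix i)) with hA
  have hAP : A ≤ P := Subgroup.zpowers_le.mpr hfix
  by_contra hne
  have hlt : A.subgroupOf P < ⊤ := by
    refine lt_top_iff_ne_top.mpr fun h => hne (le_antisymm (fun x hx => ?_) hAP)
    have : (⟨x, hx⟩ : P) ∈ A.subgroupOf P := h ▸ Subgroup.mem_top _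
    exact this
  have := hP.isNilpotent
  obtain ⟨n, hn, hnA⟩ := SetLike.exists_of_lt (Group.normalizerCondition_of_isNilpotent _ hlt)
  have hnJ : (n : G) * ι (fix i) * (n : G)⁻¹ ∈ Jg ι :=
    (Subgroup.zpowers_le.mpr ⟨fix i, hfs, rfl⟩ : A ≤ Jg ι)
      ((Subgroup.mem_normalizer_iff.mp hn ⟨ι (fix i), hfix⟩).mp (Subgroup.mem_zpowers _))
  obtain ⟨m, hm⟩ := ti S hfs hf1 hnJ
  have hcomm : m * invol i = invol i * m := S.inj (by
    rw [map_mul, map_mul, hm]
    exact Subgroup.mem_centralizer_singleton_iff.mp (hPC n.2))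
  have h24 : orderOf m ∣ 24 := by
    have hmem : m ∈ Subgroup.centralizer ({invol i} : Set M648) :=
      Subgroup.mem_centralizer_singleton_iff.mpr hcomm
    have hcard : Nat.card (Subgroup.centralizer ({invol i} : Set M648)) = ![24, 12] i :=
      (Nat.subtype_card _ fun x => by simp [Subgroup.mem_centralizer_singleton_iff]).trans
        (card_cent_invol i)
    rw [← Subgroup.orderOf_mk m hmem]
    refine (orderOf_dvd_natCard _).trans ?_
    rw [hcard]
    fin_cases i <;> decide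
  obtain ⟨k, hk⟩ := hP n
  have h3 : orderOf m ∣ 3 ^ k := by
    rw [← orderOf_injective ι S.inj, hm]
    exact orderOf_dvd_of_pow_eq_one (congrArg Subtype.val hk)
  have hm3 : m ^ 3 = 1 := by
    apply orderOf_dvd_iff_pow_eq_one.mp
    have h' := Nat.dvd_gcd h3 h24
    have hcop : Nat.Coprime (3 ^ k) 8 := Nat.Coprime.pow_left k (by norm_num)
    rw [show (24 : ℕ) = 3 * 8 by norm_num,
      Nat.Coprime.gcd_mul_right_cancel_right 3 hcop.symm] at h'
    exact h'.trans (Nat.gcd_dvd_right _ _)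
  apply hnA
  show (n : G) ∈ A
  rw [← hm]
  rcases cent_invol_three i m hcomm hm3 with rfl | rfl | rfl
  · rw [map_one]; exact one_mem _
  · exact Subgroup.mem_zpowers _
  · rw [map_pow]; exact pow_mem (Subgroup.mem_zpowers _) _

lemma no_fusion [Finite G] (S : Setup ι) {i k : Fin 2}
    (h : IsConj (ι (invol i)) (ι (invol k))) : i = k := by
  classical
  have : Fact (Nat.Prime 3) := ⟨Nat.prime_three⟩
  obtain ⟨g, hg⟩ := isConj_iff.mp h
  obtain ⟨-, -, -, hci, hsi, hi1⟩ := invol_facts i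
  obtain ⟨-, -, -, hck, hsk, -⟩ := invol_facts k
  set C := Subgroup.centralizer ({ι (invol k)} : Set G) with hC
  have hjk : ι (fix k) ∈ C :=
    Subgroup.mem_centralizer_singleton_iff.mpr (by rw [← map_mul, ← map_mul, hck])
  have hji : g * ι (fix i) * g⁻¹ ∈ C := Subgroup.mem_centralizer_singleton_iff.mpr (by
    rw [← hg]
    calc g * ι (fix i) * g⁻¹ * (g * ι (invol i) * g⁻¹) = g * ι (fix i * invol i) * g⁻¹ := by
          rw [map_mul]; group
      _ = g * ι (invol i * fix i) * g⁻¹ := by rw [hci]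
      _ = _ := by rw [map_mul]; group)
  have hp : ∀ y : C, y ^ 3 = 1 → IsPGroup 3 (Subgroup.zpowers y) := fun y hy x => ⟨1, by
    obtain ⟨z, hz⟩ := Subgroup.mem_zpowers_iff.mp x.2
    apply Subtype.ext
    rw [pow_one, SubmonoidClass.coe_pow, ← hz, ← zpow_natCast, ← zpow_mul, mul_comm, zpow_mul,
      zpow_natCast, hy, one_zpow]
    rfl⟩
  obtain ⟨P1, hP1⟩ := (hp ⟨_, hjk⟩ (Subtype.ext (by
    show ι (fix k) ^ 3 = 1
    rw [← map_pow, trans_pow _ hsk, map_one]))).exists_le_sylow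
  obtain ⟨P2, hP2⟩ := (hp ⟨_, hji⟩ (Subtype.ext (by
    show (g * ι (fix i) * g⁻¹) ^ 3 = 1
    rw [conj_pow, ← map_pow, trans_pow _ hsi, map_one, mul_one, mul_inv_cancel]))).exists_le_sylow
  obtain ⟨c, hc⟩ := MulAction.exists_smul_eq C P2 P1
  have hmap : (P1 : Subgroup C).map C.subtype = Subgroup.zpowers (ι (fix k)) :=
    fix_sylow S k _ (P1.2.map _) (Subgroup.map_subtype_le _)
      ⟨_, hP1 (Subgroup.mem_zpowers _), rfl⟩
  have hmem : (c : G) * (g * ι (fix i) * g⁻¹) * (c : G)⁻¹ ∈ Subgroup.zpowers (ι (fix k)) := by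
    rw [← hmap, ← hc]
    exact ⟨MulAut.conj c • (⟨_, hji⟩ : C), Subgroup.smul_mem_pointwise_smul _ _ _
      (hP2 (Subgroup.mem_zpowers _)), rfl⟩
  have hJ : (c : G) * g * ι (fix i) * ((c : G) * g)⁻¹ ∈ Jg ι := by
    refine (Subgroup.zpowers_le.mpr ⟨fix k, hsk, rfl⟩ : Subgroup.zpowers (ι (fix k)) ≤ Jg ι) ?_
    convert hmem using 1
    group
  obtain ⟨m, hm⟩ := ti S hsi hi1 hJ
  have hconj : m * invol i * m⁻¹ = invol k := S.inj (by
    rw [map_mul, map_mul, map_inv, hm]
    calc (c : G) * g * ι (invol i) * ((c : G) * g)⁻¹ = c * (g * ι (invol i) * g⁻¹) * (c : G)⁻¹ := by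
          group
      _ = ι (invol k) := by
          rw [hg, Subgroup.mem_centralizer_singleton_iff.mp c.2, mul_inv_cancel_right])
  have h' := cls_conj_invol i m
  rw [hconj, (invol_facts k).2.2.1] at h'
  revert h'
  fin_cases i <;> fin_cases k <;> decide

lemma isConj_iff_cls [Finite G] (S : Setup ι) (i : Fin 2) (n : M648) :
    IsConj (ι (invol i)) (ι n) ↔ cls n = tcls i := by
  constructor
  · intro h
    obtain ⟨g, hg⟩ := isConj_iff.mp h
    obtain ⟨h2, hne, -⟩ := invol_facts i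
    have hn : n * n = 1 := S.inj (by
      rw [map_mul, ← hg, map_one]
      calc g * ι (invol i) * g⁻¹ * (g * ι (invol i) * g⁻¹) = g * ι (invol i * invol i) * g⁻¹ := by
            rw [map_mul]; group
        _ = 1 := by rw [h2, map_one, mul_one, mul_inv_cancel])
    have aux : ∀ k, cls n = tcls k → cls n = tcls i := fun k hk => by
      obtain ⟨x, hx⟩ := exists_conj_invol k n hk
      have : IsConj (ι (invol k)) (ι n) := isConj_iff.mpr ⟨ι x, by rw [← hx]; simp⟩
      rw [no_fusion S (h.trans this.symm)]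
      exact hk
    rcases invol_cls n hn with rfl | h' | h'
    · exfalso
      rw [map_one, mul_inv_eq_one, mul_eq_left] at hg
      exact hne (S.inj (hg.trans (map_one ι).symm))
    · exact aux 0 h'
    · exact aux 1 h'
  · intro h
    obtain ⟨x, hx⟩ := exists_conj_invol i n h
    exact isConj_iff.mpr ⟨ι x, by rw [← hx]; simp⟩

/-! ### The class equations -/

variable [Fintype G]

/-- Centraliser orders. -/
noncomputable def cen (ι : M648 →* G) (i : Fin 2) : ℕ :=
  Nat.card (Subgroup.centralizer ({ι (invol i)} : Set G))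

lemma class_eq (S : Setup ι) (r : Fin 4) (i k : Fin 2) :
    ∑ ψ : Cfsg.IrrCharacter G, Cfsg.classInner (tau ι (psi (rowQ r))) (ψ : G → ℂ) *
        ((ψ : G → ℂ) (ι (invol i)) * (ψ : G → ℂ) (ι (invol k)) / (ψ : G → ℂ) 1) =
      ((cen ι i : ℂ) * (cen ι k : ℂ)) / ((Nat.card G : ℂ) * 648) * (pairQ r i k : ℂ) := by
  classical
  let P : Fin 2 → Finset M648 := fun j => Finset.univ.filter fun m : M648 => cls m = tcls j
  have hrange : ∀ d : M648, InE d → ∀ p q : G, IsConj (ι (invol i)) p → IsConj (ι (invol k)) q →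
      p * q = ι d → p ∈ ι.range ∧ q ∈ ι.range := by
    intro d hd p q hp hq hpq
    have sq : ∀ (j : Fin 2) (y : G), IsConj (ι (invol j)) y → y * y = 1 := fun j y hy => by
      obtain ⟨g, rfl⟩ := isConj_iff.mp hy
      calc g * ι (invol j) * g⁻¹ * (g * ι (invol j) * g⁻¹) = g * ι (invol j * invol j) * g⁻¹ := by
            rw [map_mul]; group
        _ = 1 := by rw [(invol_facts j).1, map_one, mul_one, mul_inv_cancel]
    have hp2 : p⁻¹ = p := inv_eq_of_mul_eq_one_left (sq i p hp)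
    have hq2 : q⁻¹ = q := inv_eq_of_mul_eq_one_left (sq k q hq)
    have hpR : p ∈ ι.range := by
      refine (tiset S).ti p d d⁻¹ hd (E_inv d hd) ?_
      rw [map_inv, ← hpq, mul_inv_rev, hp2, hq2, ← mul_assoc, sq i p hp, one_mul]
    refine ⟨hpR, ?_⟩
    have : q = p⁻¹ * ι d := by rw [← hpq, inv_mul_cancel_left]
    rw [this]
    exact mul_mem (inv_mem hpR) ⟨d, rfl⟩
  rw [ExcChar68b.pairing (tiset S) (psi_vanish _) _ _ (cen ι i * cen ι k)
    (fun d => ((P i ×ˢ P k).filter fun q => q.1 * q.2 = d).card) (fun d hd => ?_)]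
  · have hsum : ∑ m, psi (rowQ r) m * (((P i ×ˢ P k).filter fun q => q.1 * q.2 = m).card : ℂ) =
        (pairQ r i k : ℂ) := by
      have h := congrArg val4 (pairQ_E r i k)
      rw [val4_int, map_sum, Finset.sum_congr rfl (fun p _ => map_sum _ _ _), ← Finset.sum_product'] at h
      rw [← h, ← Finset.sum_fiberwise (s := P i ×ˢ P k) (g := fun q => q.1 * q.2)]
      refine Finset.sum_congr rfl fun m _ => ?_
      rw [Finset.sum_congr rfl (g := fun _ => psi (rowQ r) m) (fun q hq => by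
        rw [psi, ← (Finset.mem_filter.mp hq).2]), Finset.sum_const, nsmul_eq_mul, mul_comm]
    rw [hsum, Nat.card_eq_fintype_card (α := M648), card_M648]
    push_cast
    ring
  · rw [ExcChar68b.card_pairs2 S.inj _ _ d (hrange d hd), cen, cen]
    congr 1
    exact Nat.subtype_card _ fun q => by
      rw [isConj_iff_cls S, isConj_iff_cls S]; simp [P, and_assoc]

end Cfsg.Agent.A9LocalSetup49
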