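import Mathlib
import Cfsg.Agent.Lib.A9LocalSetup49
import Cfsg.Agent.Lib.A9LocalSearch49
import Cfsg.Agent.Lib.A9LocalAlg49
import Cfsg.Agent.Lib.CharAverage
import Cfsg.Agent.Lib.CoprimeGen
import Cfsg.Agent.Lib.CharBasicLinear

/-!
A group with a subgroup `H ≅ 3^3 : S_4` containing the centralisers of the nontrivial elements
of its normal `3^3` equals `H`.
-/

set_option autoImplicit false

open scoped ComplexConjugate
open Cfsg.Agent.Model648 Cfsg.Agent.Group648 Cfsg.Agent.ExcChar68 Cfsg.Agent.A9LocalModel49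
  Cfsg.Agent.A9LocalSetup49 Cfsg.Agent.A9LocalSearch49
open Cfsg.Agent.Model108 (val emul econj epow)

namespace Cfsg.Agent.A9Local49

/-! ### A congruence for characters of the model -/

/-- A character with known values at two translations. -/
theorem congr_nine {c : M648 → ℂ} (hc : Cfsg.IsCharacter M648 c) {n c1 c2 : ℤ}
    (h0 : c 1 = n) (h1 : c (trv (tvec 0)) = c1) (h2 : c (trv (tvec 1)) = c2) :
    (9 : ℤ) ∣ n + c1 - 2 * c2 := by
  classical
  choose f hf using Fourier648.mult_nat hc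
  have hinv : ∀ w w' : Fourier648.V3, cls (trv w) = cls (trv w') → f w = f w' := fun w w' h => by
    obtain ⟨s, hs⟩ := trans_class w w' h
    have := Fourier648.mult_actv hc s w
    rw [hs, hf, hf] at this
    exact_mod_cast this.symm
  let N : Fin 14 → ℕ := fun k => if h : ∃ w, cls (trv w) = k then f h.choose else 0
  have hN : ∀ w, f w = N (cls (trv w)) := fun w => by
    have h : ∃ w', cls (trv w') = cls (trv w) := ⟨w, rfl⟩
    simp only [N, dif_pos h]
    exact hinv _ _ h.choose_spec.symm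
  have key : ∀ j : Fin 3, c (trv (evec j)) = ((∑ k, (N k : ℤ) * orbT j k : ℤ) : ℂ) := fun j => by
    rw [← Fourier648.inversion (c := c) (evec j),
      ← Finset.sum_fiberwise (s := Finset.univ) (g := fun w => cls (trv w))]
    push_cast
    refine Finset.sum_congr rfl fun k _ => ?_
    have h := congrArg val (orbT_E j k)
    rw [map_sum] at h
    rw [show val (orbT j k, 0) = (orbT j k : ℂ) by simp [Model108.val_apply]] at h
    rw [← h, Finset.mul_sum]
    refine Finset.sum_congr rfl fun w hw => ?_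
    rw [hf, hN w, (Finset.mem_filter.mp hw).2]
  have e0 := (key 0).symm.trans h0
  have e1 := (key 1).symm.trans h1
  have e2 := (key 2).symm.trans h2
  have i0 : ∑ k, (N k : ℤ) * orbT 0 k = n := by exact_mod_cast e0
  have i1 : ∑ k, (N k : ℤ) * orbT 1 k = c1 := by exact_mod_cast e1
  have i2 : ∑ k, (N k : ℤ) * orbT 2 k = c2 := by exact_mod_cast e2
  simp [Fin.sum_univ_succ, orbT] at i0 i1 i2
  exact ⟨N 1 + 2 * N 2, by omega⟩

/-! ### The data of a hypothetical group -/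

variable {G : Type*} [Group G] [Fintype G] {ι : M648 →* G}

/-- Multiplicities, degrees and values at the involutions. -/
structure Vals (ι : M648 →* G) where
  V : Fin 8 → Cfsg.IrrCharacter G → ℤ
  n : Cfsg.IrrCharacter G → ℕ
  z : Fin 2 → Cfsg.IrrCharacter G → ℤ
  inner : ∀ r (ψ : Cfsg.IrrCharacter G), Cfsg.classInner (tau ι (psi r)) (ψ : G → ℂ) = (V r ψ : ℂ)
  deg : ∀ ψ : Cfsg.IrrCharacter G, (ψ : G → ℂ) 1 = (n ψ : ℂ)
  pos : ∀ ψ, 0 < n ψ
  val : ∀ i (ψ : Cfsg.IrrCharacter G), (ψ : G → ℂ) (ι (invol i)) = (z i ψ : ℂ)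

/-- Deviation from the trivial value. -/
noncomputable def dev (D : Vals ι) (i : Fin 2) (ψ : Cfsg.IrrCharacter G) : ℝ :=
  1 - (D.z i ψ : ℝ) / (D.n ψ : ℝ)

/-- The square root of the scale of an involution class. -/
noncomputable def scale (ι : M648 →* G) (i : Fin 2) : ℝ :=
  (cen ι i : ℝ) / Real.sqrt (Nat.card G : ℝ)

lemma scale_ne (i : Fin 2) : scale ι i ≠ 0 :=
  div_ne_zero (Nat.cast_ne_zero.mpr Nat.card_pos.ne')
    (Real.sqrt_ne_zero'.mpr (Nat.cast_pos.mpr Nat.card_pos))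

lemma scale_mul (i k : Fin 2) :
    scale ι i * scale ι k = (cen ι i : ℝ) * (cen ι k : ℝ) / (Nat.card G : ℝ) := by
  rw [scale, scale, div_mul_div_comm, Real.mul_self_sqrt (Nat.cast_nonneg _)]

lemma vals_nonempty (S : Setup ι) : Nonempty (Vals ι) := by
  classical
  choose V hV hVsum using fun a =>
    CharBasicDecomp.exists_int_coeff (isGenChar_tau (tiset S) (isGen_psi a))
  choose n hn0 hn using fun ψ : Cfsg.IrrCharacter G => CharBasic.isIrrCharacter_apply_one ψ.2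
  choose z hz using fun (i : Fin 2) (ψ : Cfsg.IrrCharacter G) =>
    CharAverage.apply_involution_eq_int (CharBasic.isCharacter_of_isIrrCharacter ψ.2)
      (show ι (invol i) * ι (invol i) = 1 by rw [← map_mul, (invol_facts i).1, map_one])
  exact ⟨⟨V, n, z, hV, hn, hn0, hz⟩⟩

lemma not_conj (S : Setup ι) (g : G) (hg : g = 1 ∨ ∃ i, g = ι (invol i)) (x : G) (d : M648)
    (hd : InE d) : x⁻¹ * g * x ≠ ι d := by
  intro he'
  refine not_E_invol d (S.inj ?_) hd
  rw [map_mul, ← he', map_one]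
  rcases hg with rfl | ⟨i, rfl⟩
  · simp
  · calc x⁻¹ * ι (invol i) * x * (x⁻¹ * ι (invol i) * x) = x⁻¹ * ι (invol i * invol i) * x := by
          rw [map_mul]; group
      _ = 1 := by rw [(invol_facts i).1, map_one, mul_one, inv_mul_cancel]

lemma sum_vanish (S : Setup ι) (D : Vals ι) (r : Fin 8) (g : G)
    (hg : g = 1 ∨ ∃ i, g = ι (invol i)) :
    ∑ ψ, (D.V r ψ : ℂ) * (ψ : G → ℂ) g = 0 := by
  obtain ⟨V, hV, hVsum⟩ := CharBasicDecomp.exists_int_coeff (isGenChar_tau (tiset S) (isGen_psi r))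
  have h := congrFun hVsum g
  rw [tau_eq_zero (tiset S) (psi_vanish _) (not_conj S g hg), Finset.sum_apply] at h
  simp only [Pi.smul_apply, smul_eq_mul] at h
  rw [h]
  refine Finset.sum_congr rfl fun ψ _ => ?_
  have e : (V ψ : ℂ) = (D.V r ψ : ℂ) := (hV ψ).symm.trans (D.inner r ψ)
  rw [e]

lemma moment_deg (S : Setup ι) (D : Vals ι) (r : Fin 8) :
    ∑ ψ, (D.V r ψ : ℝ) * (D.n ψ : ℝ) = 0 := by
  have h := sum_vanish S D r 1 (Or.inl rfl)
  simp only [D.deg] at h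
  exact_mod_cast h

lemma moment_val (S : Setup ι) (D : Vals ι) (r : Fin 8) (i : Fin 2) :
    ∑ ψ, (D.V r ψ : ℝ) * (D.z i ψ : ℝ) = 0 := by
  have h := sum_vanish S D r _ (Or.inr ⟨i, rfl⟩)
  simp only [D.val] at h
  exact_mod_cast h

lemma moment_one (S : Setup ι) (D : Vals ι) (r : Fin 8) (i : Fin 2) :
    ∑ ψ, (D.V r ψ : ℝ) * ((D.n ψ : ℝ) * dev D i ψ) = 0 := by
  have : ∀ ψ, (D.V r ψ : ℝ) * ((D.n ψ : ℝ) * dev D i ψ) =
      (D.V r ψ : ℝ) * (D.n ψ : ℝ) - (D.V r ψ : ℝ) * (D.z i ψ : ℝ) := fun ψ => by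
    have := (Nat.cast_ne_zero (R := ℝ)).mpr (D.pos ψ).ne'
    simp only [dev]
    field_simp
  simp only [this, Finset.sum_sub_distrib, moment_deg S D r, moment_val S D r i, sub_zero]

lemma moment_two (S : Setup ι) (D : Vals ι) (r : Fin 4) (i k : Fin 2) :
    ∑ ψ, (D.V (rowQ r) ψ : ℝ) * ((D.n ψ : ℝ) * dev D i ψ * dev D k ψ) =
      scale ι i * scale ι k * ((pairQ r i k : ℝ) / 648) := by
  have h := class_eq S r i k
  simp only [D.inner, D.val, D.deg] at h
  have h' : ∑ ψ, (D.V (rowQ r) ψ : ℝ) * ((D.z i ψ : ℝ) * (D.z k ψ : ℝ) / (D.n ψ : ℝ)) =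
      (cen ι i : ℝ) * (cen ι k : ℝ) / ((Nat.card G : ℝ) * 648) * (pairQ r i k : ℝ) := by
    apply Complex.ofReal_injective
    push_cast
    exact h
  have : ∀ ψ, (D.V (rowQ r) ψ : ℝ) * ((D.n ψ : ℝ) * dev D i ψ * dev D k ψ) =
      (D.V (rowQ r) ψ : ℝ) * ((D.z i ψ : ℝ) * (D.z k ψ : ℝ) / (D.n ψ : ℝ)) +
        ((D.V (rowQ r) ψ : ℝ) * (D.n ψ : ℝ) - (D.V (rowQ r) ψ : ℝ) * (D.z i ψ : ℝ) -
          (D.V (rowQ r) ψ : ℝ) * (D.z k ψ : ℝ)) := fun ψ => by
    have := (Nat.cast_ne_zero (R := ℝ)).mpr (D.pos ψ).ne'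
    simp only [dev]
    field_simp
    ring
  rw [Finset.sum_congr rfl fun ψ _ => this ψ]
  simp only [Finset.sum_add_distrib, Finset.sum_sub_distrib, moment_deg S D, moment_val S D, h',
    scale_mul, sub_zero, add_zero]
  ring

/-- Values at the translations from the multiplicities. -/
lemma value_tvec (S : Setup ι) (D : Vals ι) (j : Fin 2) (ψ : Cfsg.IrrCharacter G) :
    (ψ : G → ℂ) (ι (trv (tvec j))) = ((∑ r, combT j r * D.V r ψ : ℤ) : ℂ) := by
  classical
  letI : Fintype ι.range := Fintype.ofFinite _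
  have hψ := CharBasic.isCharacter_of_isIrrCharacter ψ.2
  have hcl : Cfsg.IsClassFunction M648 fun m => (ψ : G → ℂ) (ι m) :=
    CharBasic.isClassFunction_of_isCharacter (CharBasic.isCharacter_comap ι hψ)
  have hin : ∀ r, (D.V r ψ : ℂ) =
      (648 : ℂ)⁻¹ * ∑ m : M648, psi r m * conj ((ψ : G → ℂ) (ι m)) := fun r => by
    rw [← D.inner r ψ, tau_eq ι S.inj, CharInduced.inner_ind_left _ _
      (CharBasic.isClassFunction_of_isCharacter hψ),
      ← CharBasicOrth.classInner_congr_equiv (rEquiv ι S.inj), Cfsg.classInner,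
      Nat.card_eq_fintype_card, card_M648, Nat.cast_ofNat]
    refine congrArg _ (Finset.sum_congr rfl fun m _ => ?_)
    simp only [Function.comp, MulEquiv.symm_apply_apply]
    rfl
  set k0 := cls (trv (tvec j)) with hk0
  have hcomb : ∀ m, ∑ r, (combT j r : ℂ) * psi r m =
      if cls m = k0 then ((![108, 54] j : ℤ) : ℂ) else 0 := fun m => by
    have h := congrArg val4 (combT_E j (cls m))
    rw [map_sum, val4_int] at h
    simp only [AddMonoidHom.map_zsmul] at h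
    simp only [zsmul_eq_mul] at h
    rw [show (∑ r, (combT j r : ℂ) * psi r m) = ∑ r, (combT j r : ℂ) * val4 (tabE r (cls m)) from rfl,
      h]
    split <;> simp
  have hconst : ∀ m, cls m = k0 → (ψ : G → ℂ) (ι m) = (ψ : G → ℂ) (ι (trv (tvec j))) := fun m hm => by
    obtain ⟨s, rfl⟩ := exists_conj_tvec j m hm
    exact hcl (trv (tvec j)) (lift s)
  have key : ((∑ r, combT j r * D.V r ψ : ℤ) : ℂ) = conj ((ψ : G → ℂ) (ι (trv (tvec j)))) := by
    push_cast
    simp only [hin, Finset.mul_sum]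
    rw [Finset.sum_comm]
    have : ∀ m, ∑ r, (combT j r : ℂ) * ((648 : ℂ)⁻¹ * (psi r m * conj ((ψ : G → ℂ) (ι m)))) =
        if cls m = k0 then (648 : ℂ)⁻¹ * (((![108, 54] j : ℤ) : ℂ) *
          conj ((ψ : G → ℂ) (ι (trv (tvec j))))) else 0 := fun m => by
      have e : ∑ r, (combT j r : ℂ) * ((648 : ℂ)⁻¹ * (psi r m * conj ((ψ : G → ℂ) (ι m)))) =
          (648 : ℂ)⁻¹ * ((∑ r, (combT j r : ℂ) * psi r m) * conj ((ψ : G → ℂ) (ι m))) := by
        rw [Finset.sum_mul, Finset.mul_sum]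
        exact Finset.sum_congr rfl fun r _ => by ring
      rw [e, hcomb]
      split
      · rename_i h; rw [hconst m h]
      · simp
    rw [Finset.sum_congr rfl fun m _ => this m, ← Finset.sum_filter, Finset.sum_const, card_cls,
      nsmul_eq_mul]
    have hsz : (((![108, 54] j : ℤ) : ℂ)) * (sz k0 : ℂ) = 648 := by exact_mod_cast combT_sz j
    linear_combination (648 : ℂ)⁻¹ * conj ((ψ : G → ℂ) (ι (trv (tvec j)))) * hsz
  have h := congrArg conj key
  rwa [Complex.conj_conj, map_intCast, eq_comm] at h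

/-! ### The four shapes -/

/-- A distinguished character with its sign and column. -/
abbrev Ent (G : Type*) [Group G] := Cfsg.IrrCharacter G × ℤ × List ℤ

/-- Signed degree. -/
noncomputable def sdeg (D : Vals ι) (x : Ent G) : ℝ := (x.2.1 : ℝ) * (D.n x.1 : ℝ)

/-- What the equations say about the two functions sharing `T`. -/
theorem finish (S : Setup ι) (D : Vals ι) {X Y T : Ent G} (hT : T.2.1 * T.2.1 = 1)
    (hv0 : ∑ r, combT 0 r * D.V r T.1 = -3 * T.2.1)
    (hv1 : ∑ r, combT 1 r * D.V r T.1 = -3 * T.2.1)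
    (hS : 1 + sdeg D X ≠ 0) (h3 : 3 * sdeg D T = -(1 + sdeg D X))
    (f11 : sdeg D X * dev D 1 X.1 ^ 2 = 4 * (1 + sdeg D X) * scale ι 1 ^ 2)
    (hg : ((1 + sdeg D X) * dev D 1 T.1 - sdeg D X * dev D 1 X.1) ^ 2 =
      2 * (1 + sdeg D X) * scale ι 1 ^ 2)
    (hy : sdeg D Y * (28 + sdeg D X) = 27 * sdeg D X) :
    T.2.1 = -1 ∧ D.n T.1 = 3 := by
  have hnX := (Nat.cast_ne_zero (R := ℝ)).mpr (D.pos X.1).ne'
  have hnT := (Nat.cast_ne_zero (R := ℝ)).mpr (D.pos T.1).ne'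
  set a : ℤ := X.2.1 * D.n X.1 - X.2.1 * D.z 1 X.1
  set b : ℤ := 1 + X.2.1 * D.z 1 X.1 + 3 * (T.2.1 * D.z 1 T.1)
  have ha : sdeg D X * dev D 1 X.1 = (a : ℝ) := by
    simp only [sdeg, dev, a]; push_cast; field_simp
  have hb : (1 + sdeg D X) * dev D 1 T.1 - sdeg D X * dev D 1 X.1 = (b : ℝ) := by
    have e : (1 + sdeg D X) * dev D 1 T.1 = (1 + sdeg D X) + 3 * ((T.2.1 * D.z 1 T.1 : ℤ) : ℝ) := by
      rw [show 1 + sdeg D X = -(3 * sdeg D T) by linarith]
      simp only [sdeg, dev]; push_cast; field_simp; ring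
    rw [e, ha]; simp only [a, b, sdeg]; push_cast; ring
  have hab : ((a : ℝ)) ^ 2 = 2 * sdeg D X * (b : ℝ) ^ 2 := by
    rw [← ha, ← hb]
    linear_combination (sdeg D X) * f11 - 2 * sdeg D X * hg
  have hb0 : b ≠ 0 := fun h => by
    rw [hb, h, Int.cast_zero] at hg
    exact mul_ne_zero (mul_ne_zero two_ne_zero hS) (pow_ne_zero 2 (scale_ne 1))
      (by linear_combination -hg)
  have h9 := congr_nine (CharBasic.isCharacter_comap ι (CharBasic.isCharacter_of_isIrrCharacter T.1.2))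
    (n := (D.n T.1 : ℤ)) (by show (T.1 : G → ℂ) (ι 1) = _; rw [map_one, D.deg]; norm_cast)
    (value_tvec S D 0 T.1) (value_tvec S D 1 T.1)
  rw [hv0, hv1] at h9
  have e1 : 3 * (T.2.1 * D.n T.1) = -(1 + X.2.1 * D.n X.1) := by
    simp only [sdeg] at h3; exact_mod_cast h3
  have e2 : (Y.2.1 * D.n Y.1) * (28 + X.2.1 * D.n X.1) = 27 * (X.2.1 * D.n X.1) := by
    simp only [sdeg] at hy; exact_mod_cast hy
  have e3 : a ^ 2 = 2 * (X.2.1 * D.n X.1) * b ^ 2 := by
    simp only [sdeg] at hab; exact_mod_cast hab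
  have hd : (9 : ℤ) ∣ -(T.2.1 * D.n T.1) - 3 := by
    obtain ⟨k, hk⟩ := h9
    exact ⟨-T.2.1 * k, by linear_combination -T.2.1 * hk + 3 * hT⟩
  have := A9LocalAlg49.deg_three e1 e2 e3 hb0 hd
  have hp := D.pos T.1
  rcases mul_self_eq_one_iff.mp hT with e | e <;> rw [e] at this <;> constructor <;> omega

/-- Sum of an expression over a row. -/
def rowSum (tr : ℝ) (j : ℕ) (f : Ent G → ℝ) (L : List (Ent G)) : ℝ :=
  tr + (L.map fun x => (x.2.2.getD j 0 : ℝ) * ((x.2.1 : ℝ) * f x)).sum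

lemma expand (D : Vals ι) {t : Cfsg.IrrCharacter G} (ht : ∀ r, D.V r t = trE r)
    {L : List (Ent G)} (hnd : (L.map Prod.fst).Nodup)
    (hL : ∀ x ∈ L, x.1 ≠ t ∧ x.2.1 * x.2.1 = 1 ∧ x.2.2.length = 8 ∧
      ∀ j < 8, (if h : j < 8 then D.V ⟨j, h⟩ x.1 else 0) = x.2.1 * x.2.2.getD j 0)
    (hz : ∀ ψ, ψ ≠ t → ψ ∉ L.map Prod.fst → ∀ j < 8,
      (if h : j < 8 then D.V ⟨j, h⟩ ψ else 0) = 0)
    (r : Fin 8) (F : Cfsg.IrrCharacter G → ℝ) :
    ∑ ψ, (D.V r ψ : ℝ) * F ψ = rowSum ((trE r : ℝ) * F t) r.val (fun x => F x.1) L := by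
  classical
  have htL : t ∉ (L.map Prod.fst).toFinset := fun h => by
    obtain ⟨x, hx, rfl⟩ := List.mem_map.mp (List.mem_toFinset.mp h)
    exact (hL x hx).1 rfl
  rw [← Finset.sum_subset (Finset.subset_univ (insert t (L.map Prod.fst).toFinset)) (fun ψ _ hψ => ?_),
    Finset.sum_insert htL, ht, List.sum_toFinset _ hnd, List.map_map, rowSum]
  · refine congrArg _ (congrArg List.sum (List.map_congr_left fun x hx => ?_))
    have h := (hL x hx).2.2.2 r.val r.isLt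
    rw [dif_pos r.isLt] at h
    simp only [Function.comp, h]
    push_cast
    ring
  · simp only [Finset.mem_insert, List.mem_toFinset, not_or] at hψ
    have h := hz ψ hψ.1 hψ.2 r.val r.isLt
    rw [dif_pos r.isLt] at h
    rw [h, Int.cast_zero, zero_mul]

/-- The equations for `1 + ξ ± T + _`. -/
theorem core_e (D : Vals ι) {X T W V : Ent G}
    (hX : sdeg D X ≠ 0) (hT : sdeg D T ≠ 0)
    (s1 : 1 + sdeg D X + sdeg D T + sdeg D W = 0) (s2 : 1 + sdeg D X - sdeg D T + sdeg D V = 0)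
    (m1 : ∀ i, sdeg D X * dev D i X.1 + sdeg D T * dev D i T.1 + sdeg D W * dev D i W.1 = 0)
    (m2 : ∀ i, sdeg D X * dev D i X.1 - sdeg D T * dev D i T.1 + sdeg D V * dev D i V.1 = 0)
    (q1 : ∀ i k, sdeg D X * dev D i X.1 * dev D k X.1 + sdeg D T * dev D i T.1 * dev D k T.1 +
      sdeg D W * dev D i W.1 * dev D k W.1 = scale ι i * scale ι k * ((pairQ 2 i k : ℝ) / 648))
    (q2 : ∀ i k, sdeg D X * dev D i X.1 * dev D k X.1 - sdeg D T * dev D i T.1 * dev D k T.1 +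
      sdeg D V * dev D i V.1 * dev D k V.1 = scale ι i * scale ι k * ((pairQ 3 i k : ℝ) / 648)) :
    1 + sdeg D X ≠ 0 ∧ 3 * sdeg D T = -(1 + sdeg D X) ∧
      sdeg D X * dev D 0 X.1 ^ 2 = (1 + sdeg D X) * scale ι 0 ^ 2 ∧
      sdeg D X * dev D 0 X.1 * dev D 1 X.1 = 2 * (1 + sdeg D X) * scale ι 0 * scale ι 1 ∧
      sdeg D X * dev D 1 X.1 ^ 2 = 4 * (1 + sdeg D X) * scale ι 1 ^ 2 ∧
      ((1 + sdeg D X) * dev D 1 T.1 - sdeg D X * dev D 1 X.1) ^ 2 =
        2 * (1 + sdeg D X) * scale ι 1 ^ 2 :=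
  A9LocalAlg49.e_part (sdeg D X) (sdeg D T) (sdeg D W) (sdeg D V) (dev D 0 X.1) (dev D 1 X.1)
    (dev D 0 T.1) (dev D 1 T.1) (dev D 0 W.1) (dev D 1 W.1) (dev D 0 V.1) (dev D 1 V.1)
    (scale ι 0) (scale ι 1) hX hT (scale_ne 0) (scale_ne 1) s1 s2 (m1 0) (m1 1) (m2 0) (m2 1)
    (by have h := q1 0 0; simp [pairQ] at h; linear_combination h)
    (by have h := q1 0 1; simp [pairQ] at h; linear_combination h)
    (by have h := q1 1 1; simp [pairQ] at h; linear_combination h)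
    (by have h := q2 0 0; simp [pairQ] at h; linear_combination h)
    (by have h := q2 0 1; simp [pairQ] at h; linear_combination h)
    (by have h := q2 1 1; simp [pairQ] at h; linear_combination h)

/-- A row of the linear and quadratic equations. -/
theorem rows (S : Setup ι) (D : Vals ι) {t : Cfsg.IrrCharacter G} (ht : ∀ r, D.V r t = trE r)
    (hnt : D.n t = 1) (hzt : ∀ i, D.z i t = 1) {L : List (Ent G)}
    (hnd : (L.map Prod.fst).Nodup)
    (hL : ∀ x ∈ L, x.1 ≠ t ∧ x.2.1 * x.2.1 = 1 ∧ x.2.2.length = 8 ∧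
      ∀ j < 8, (if h : j < 8 then D.V ⟨j, h⟩ x.1 else 0) = x.2.1 * x.2.2.getD j 0)
    (hz : ∀ ψ, ψ ≠ t → ψ ∉ L.map Prod.fst → ∀ j < 8,
      (if h : j < 8 then D.V ⟨j, h⟩ ψ else 0) = 0) (r : Fin 4) :
    rowSum (trE (rowQ r) : ℝ) (rowQ r).val (fun x => (D.n x.1 : ℝ)) L = 0 ∧
    (∀ i, rowSum 0 (rowQ r).val (fun x => (D.n x.1 : ℝ) * dev D i x.1) L = 0) ∧
    ∀ i k, rowSum 0 (rowQ r).val (fun x => (D.n x.1 : ℝ) * dev D i x.1 * dev D k x.1) L =
      scale ι i * scale ι k * ((pairQ r i k : ℝ) / 648) := by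
  have hdt : ∀ i, dev D i t = 0 := fun i => by simp [dev, hnt, hzt]
  refine ⟨?_, fun i => ?_, fun i k => ?_⟩
  · have h := (expand D ht hnd hL hz (rowQ r) fun ψ => (D.n ψ : ℝ)).symm.trans
      (moment_deg S D (rowQ r))
    simpa [hnt] using h
  · have h := (expand D ht hnd hL hz (rowQ r) fun ψ => (D.n ψ : ℝ) * dev D i ψ).symm.trans
      (moment_one S D (rowQ r) i)
    simpa [hdt] using h
  · have h := (expand D ht hnd hL hz (rowQ r) fun ψ => (D.n ψ : ℝ) * dev D i ψ * dev D k ψ).symm.trans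
      (moment_two S D r i k)
    simpa [hdt] using h

lemma case0 (S : Setup ι) (D : Vals ι) {t : Cfsg.IrrCharacter G} (ht : ∀ r, D.V r t = trE r)
    (hnt : D.n t = 1) (hzt : ∀ i, D.z i t = 1) {L : List (Ent G)}
    (hmap : L.map (fun x => x.2.2) = st0) (hnd : (L.map Prod.fst).Nodup)
    (hL : ∀ x ∈ L, x.1 ≠ t ∧ x.2.1 * x.2.1 = 1 ∧ x.2.2.length = 8 ∧
      ∀ j < 8, (if h : j < 8 then D.V ⟨j, h⟩ x.1 else 0) = x.2.1 * x.2.2.getD j 0)
    (hz : ∀ ψ, ψ ≠ t → ψ ∉ L.map Prod.fst → ∀ j < 8,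
      (if h : j < 8 then D.V ⟨j, h⟩ ψ else 0) = 0) :
    ∃ χ, D.n χ = 3 ∧ D.V 4 χ = -1 := by
  rw [st0] at hmap
  obtain ⟨x0, L, rfl, c0, hmap⟩ := List.map_eq_cons_iff.mp hmap
  obtain ⟨x1, L, rfl, c1, hmap⟩ := List.map_eq_cons_iff.mp hmap
  obtain ⟨x2, L, rfl, c2, hmap⟩ := List.map_eq_cons_iff.mp hmap
  obtain ⟨x3, L, rfl, c3, hmap⟩ := List.map_eq_cons_iff.mp hmap
  obtain ⟨x4, L, rfl, c4, hmap⟩ := List.map_eq_cons_iff.mp hmap
  obtain ⟨x5, L, rfl, c5, hmap⟩ := List.map_eq_cons_iff.mp hmap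
  obtain ⟨x6, L, rfl, c6, hmap⟩ := List.map_eq_cons_iff.mp hmap
  obtain ⟨x7, L, rfl, c7, hmap⟩ := List.map_eq_cons_iff.mp hmap
  obtain ⟨x8, L, rfl, c8, hmap⟩ := List.map_eq_cons_iff.mp hmap
  obtain ⟨x9, L, rfl, c9, hmap⟩ := List.map_eq_cons_iff.mp hmap
  obtain ⟨x10, L, rfl, c10, hmap⟩ := List.map_eq_cons_iff.mp hmap
  obtain ⟨x11, L, rfl, c11, hmap⟩ := List.map_eq_cons_iff.mp hmap
  obtain ⟨x12, L, rfl, c12, hmap⟩ := List.map_eq_cons_iff.mp hmap
  obtain ⟨x13, L, rfl, c13, hmap⟩ := List.map_eq_cons_iff.mp hmap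
  obtain rfl := List.map_eq_nil_iff.mp hmap
  obtain ⟨sC, mC, qC⟩ := rows S D ht hnt hzt hnd hL hz 0
  simp [rowSum, rowQ, trE, c0, c1, c2, c3, c4, c5, c6, c7, c8, c9, c10, c11, c12, c13] at sC
  replace mC := fun i => by have h := mC i; simp [rowSum, rowQ, c0, c1, c2, c3, c4, c5, c6, c7, c8, c9, c10, c11, c12, c13] at h; exact h
  replace qC := fun i k => by have h := qC i k; simp [rowSum, rowQ, c0, c1, c2, c3, c4, c5, c6, c7, c8, c9, c10, c11, c12, c13] at h; exact h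
  obtain ⟨sZ, mZ, qZ⟩ := rows S D ht hnt hzt hnd hL hz 1
  simp [rowSum, rowQ, trE, c0, c1, c2, c3, c4, c5, c6, c7, c8, c9, c10, c11, c12, c13] at sZ
  replace mZ := fun i => by have h := mZ i; simp [rowSum, rowQ, c0, c1, c2, c3, c4, c5, c6, c7, c8, c9, c10, c11, c12, c13] at h; exact h
  replace qZ := fun i k => by have h := qZ i k; simp [rowSum, rowQ, c0, c1, c2, c3, c4, c5, c6, c7, c8, c9, c10, c11, c12, c13] at h; exact h
  obtain ⟨sE1, mE1, qE1⟩ := rows S D ht hnt hzt hnd hL hz 2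
  simp [rowSum, rowQ, trE, c0, c1, c2, c3, c4, c5, c6, c7, c8, c9, c10, c11, c12, c13] at sE1
  replace mE1 := fun i => by have h := mE1 i; simp [rowSum, rowQ, c0, c1, c2, c3, c4, c5, c6, c7, c8, c9, c10, c11, c12, c13] at h; exact h
  replace qE1 := fun i k => by have h := qE1 i k; simp [rowSum, rowQ, c0, c1, c2, c3, c4, c5, c6, c7, c8, c9, c10, c11, c12, c13] at h; exact h
  obtain ⟨sE2, mE2, qE2⟩ := rows S D ht hnt hzt hnd hL hz 3
  simp [rowSum, rowQ, trE, c0, c1, c2, c3, c4, c5, c6, c7, c8, c9, c10, c11, c12, c13] at sE2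
  replace mE2 := fun i => by have h := mE2 i; simp [rowSum, rowQ, c0, c1, c2, c3, c4, c5, c6, c7, c8, c9, c10, c11, c12, c13] at h; exact h
  replace qE2 := fun i k => by have h := qE2 i k; simp [rowSum, rowQ, c0, c1, c2, c3, c4, c5, c6, c7, c8, c9, c10, c11, c12, c13] at h; exact h
  have hne : ∀ x ∈ [x0, x1, x2, x3, x4, x5, x6, x7, x8, x9, x10, x11, x12, x13], sdeg D x ≠ 0 := fun x hx =>
    mul_ne_zero (Int.cast_ne_zero.mpr fun h => by simpa [h] using (hL x hx).2.1)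
      (Nat.cast_ne_zero.mpr (D.pos x.1).ne')
  have hTV : ∀ r : Fin 8, D.V r x5.1 = x5.2.1 * ([0, 0, 0, 0, 1, -1, 0, 0] : List ℤ).getD r.val 0 := fun r => by
    have h := (hL x5 (by simp)).2.2.2 r.val r.isLt
    rw [dif_pos r.isLt, c5] at h
    exact h
  obtain ⟨hS, h3, f00, f01, f11, hg⟩ := core_e D (X := x12) (T := x5) (W := x6) (V := x4)
    (hne _ (by simp)) (hne _ (by simp)) (by simp only [sdeg]; linarith) (by simp only [sdeg]; linarith)
    (fun i => by simp only [sdeg]; linarith [mE1 i]) (fun i => by simp only [sdeg]; linarith [mE2 i])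
    (fun i k => by simp only [sdeg]; linarith [qE1 i k]) (fun i k => by simp only [sdeg]; linarith [qE2 i k])
  have hy := A9LocalAlg49.z_part (sdeg D x12) (sdeg D x11) (sdeg D x9) (sdeg D x7) (sdeg D x8)
    (dev D 0 x12.1) (dev D 1 x12.1) (dev D 0 x9.1) (dev D 1 x9.1) (dev D 0 x11.1) (dev D 1 x11.1)
    (dev D 0 x7.1) (dev D 1 x7.1) (dev D 0 x8.1) (dev D 1 x8.1) (scale ι 0) (scale ι 1)
    (hne _ (by simp)) (hne _ (by simp)) (hne _ (by simp)) (hne _ (by simp)) (scale_ne 0) (scale_ne 1)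
    hS f00 f01 (by simp only [sdeg]; linarith) (by simp only [sdeg]; linarith)
    (by simp only [sdeg]; linarith [mC 0]) (by simp only [sdeg]; linarith [mC 1])
    (by simp only [sdeg]; linarith [mZ 0]) (by simp only [sdeg]; linarith [mZ 1])
    (by have h := qC 0 0; simp [pairQ] at h; simp only [sdeg]; linarith)
    (by have h := qC 1 1; simp [pairQ] at h; simp only [sdeg]; linarith)
    (by have h := qZ 0 0; simp [pairQ] at h; simp only [sdeg]; linarith)
    (by have h := qZ 0 1; simp [pairQ] at h; simp only [sdeg]; linarith)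
    (by have h := qZ 1 1; simp [pairQ] at h; simp only [sdeg]; linarith)
  obtain ⟨e1, e2⟩ := finish S D (X := x12) (Y := x11) (T := x5) (hL _ (by simp)).2.1
    (by simp [Fin.sum_univ_eight, hTV, combT]) (by simp [Fin.sum_univ_eight, hTV, combT])
    hS h3 f11 hg hy
  exact ⟨x5.1, e2, by simp [hTV, e1]⟩

lemma case1 (S : Setup ι) (D : Vals ι) {t : Cfsg.IrrCharacter G} (ht : ∀ r, D.V r t = trE r)
    (hnt : D.n t = 1) (hzt : ∀ i, D.z i t = 1) {L : List (Ent G)}
    (hmap : L.map (fun x => x.2.2) = st1) (hnd : (L.map Prod.fst).Nodup)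
    (hL : ∀ x ∈ L, x.1 ≠ t ∧ x.2.1 * x.2.1 = 1 ∧ x.2.2.length = 8 ∧
      ∀ j < 8, (if h : j < 8 then D.V ⟨j, h⟩ x.1 else 0) = x.2.1 * x.2.2.getD j 0)
    (hz : ∀ ψ, ψ ≠ t → ψ ∉ L.map Prod.fst → ∀ j < 8,
      (if h : j < 8 then D.V ⟨j, h⟩ ψ else 0) = 0) :
    ∃ χ, D.n χ = 3 ∧ D.V 4 χ = -1 := by
  rw [st1] at hmap
  obtain ⟨x0, L, rfl, c0, hmap⟩ := List.map_eq_cons_iff.mp hmap
  obtain ⟨x1, L, rfl, c1, hmap⟩ := List.map_eq_cons_iff.mp hmap
  obtain ⟨x2, L, rfl, c2, hmap⟩ := List.map_eq_cons_iff.mp hmap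
  obtain ⟨x3, L, rfl, c3, hmap⟩ := List.map_eq_cons_iff.mp hmap
  obtain ⟨x4, L, rfl, c4, hmap⟩ := List.map_eq_cons_iff.mp hmap
  obtain ⟨x5, L, rfl, c5, hmap⟩ := List.map_eq_cons_iff.mp hmap
  obtain ⟨x6, L, rfl, c6, hmap⟩ := List.map_eq_cons_iff.mp hmap
  obtain ⟨x7, L, rfl, c7, hmap⟩ := List.map_eq_cons_iff.mp hmap
  obtain ⟨x8, L, rfl, c8, hmap⟩ := List.map_eq_cons_iff.mp hmap
  obtain ⟨x9, L, rfl, c9, hmap⟩ := List.map_eq_cons_iff.mp hmap
  obtain ⟨x10, L, rfl, c10, hmap⟩ := List.map_eq_cons_iff.mp hmap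
  obtain ⟨x11, L, rfl, c11, hmap⟩ := List.map_eq_cons_iff.mp hmap
  obtain ⟨x12, L, rfl, c12, hmap⟩ := List.map_eq_cons_iff.mp hmap
  obtain rfl := List.map_eq_nil_iff.mp hmap
  obtain ⟨sC, mC, qC⟩ := rows S D ht hnt hzt hnd hL hz 0
  simp [rowSum, rowQ, trE, c0, c1, c2, c3, c4, c5, c6, c7, c8, c9, c10, c11, c12] at sC
  replace mC := fun i => by have h := mC i; simp [rowSum, rowQ, c0, c1, c2, c3, c4, c5, c6, c7, c8, c9, c10, c11, c12] at h; exact h
  replace qC := fun i k => by have h := qC i k; simp [rowSum, rowQ, c0, c1, c2, c3, c4, c5, c6, c7, c8, c9, c10, c11, c12] at h; exact h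
  obtain ⟨sZ, mZ, qZ⟩ := rows S D ht hnt hzt hnd hL hz 1
  simp [rowSum, rowQ, trE, c0, c1, c2, c3, c4, c5, c6, c7, c8, c9, c10, c11, c12] at sZ
  replace mZ := fun i => by have h := mZ i; simp [rowSum, rowQ, c0, c1, c2, c3, c4, c5, c6, c7, c8, c9, c10, c11, c12] at h; exact h
  replace qZ := fun i k => by have h := qZ i k; simp [rowSum, rowQ, c0, c1, c2, c3, c4, c5, c6, c7, c8, c9, c10, c11, c12] at h; exact h
  obtain ⟨sE1, mE1, qE1⟩ := rows S D ht hnt hzt hnd hL hz 2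
  simp [rowSum, rowQ, trE, c0, c1, c2, c3, c4, c5, c6, c7, c8, c9, c10, c11, c12] at sE1
  replace mE1 := fun i => by have h := mE1 i; simp [rowSum, rowQ, c0, c1, c2, c3, c4, c5, c6, c7, c8, c9, c10, c11, c12] at h; exact h
  replace qE1 := fun i k => by have h := qE1 i k; simp [rowSum, rowQ, c0, c1, c2, c3, c4, c5, c6, c7, c8, c9, c10, c11, c12] at h; exact h
  obtain ⟨sE2, mE2, qE2⟩ := rows S D ht hnt hzt hnd hL hz 3
  simp [rowSum, rowQ, trE, c0, c1, c2, c3, c4, c5, c6, c7, c8, c9, c10, c11, c12] at sE2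
  replace mE2 := fun i => by have h := mE2 i; simp [rowSum, rowQ, c0, c1, c2, c3, c4, c5, c6, c7, c8, c9, c10, c11, c12] at h; exact h
  replace qE2 := fun i k => by have h := qE2 i k; simp [rowSum, rowQ, c0, c1, c2, c3, c4, c5, c6, c7, c8, c9, c10, c11, c12] at h; exact h
  have hne : ∀ x ∈ [x0, x1, x2, x3, x4, x5, x6, x7, x8, x9, x10, x11, x12], sdeg D x ≠ 0 := fun x hx =>
    mul_ne_zero (Int.cast_ne_zero.mpr fun h => by simpa [h] using (hL x hx).2.1)
      (Nat.cast_ne_zero.mpr (D.pos x.1).ne')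
  have hTV : ∀ r : Fin 8, D.V r x4.1 = x4.2.1 * ([0, 0, 0, 0, 1, -1, 0, 0] : List ℤ).getD r.val 0 := fun r => by
    have h := (hL x4 (by simp)).2.2.2 r.val r.isLt
    rw [dif_pos r.isLt, c4] at h
    exact h
  obtain ⟨hS, h3, f00, f01, f11, hg⟩ := core_e D (X := x11) (T := x4) (W := x5) (V := x3)
    (hne _ (by simp)) (hne _ (by simp)) (by simp only [sdeg]; linarith) (by simp only [sdeg]; linarith)
    (fun i => by simp only [sdeg]; linarith [mE1 i]) (fun i => by simp only [sdeg]; linarith [mE2 i])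
    (fun i k => by simp only [sdeg]; linarith [qE1 i k]) (fun i k => by simp only [sdeg]; linarith [qE2 i k])
  have hy := A9LocalAlg49.z_part (sdeg D x11) (sdeg D x10) (sdeg D x8) (sdeg D x6) (sdeg D x7)
    (dev D 0 x11.1) (dev D 1 x11.1) (dev D 0 x8.1) (dev D 1 x8.1) (dev D 0 x10.1) (dev D 1 x10.1)
    (dev D 0 x6.1) (dev D 1 x6.1) (dev D 0 x7.1) (dev D 1 x7.1) (scale ι 0) (scale ι 1)
    (hne _ (by simp)) (hne _ (by simp)) (hne _ (by simp)) (hne _ (by simp)) (scale_ne 0) (scale_ne 1)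
    hS f00 f01 (by simp only [sdeg]; linarith) (by simp only [sdeg]; linarith)
    (by simp only [sdeg]; linarith [mC 0]) (by simp only [sdeg]; linarith [mC 1])
    (by simp only [sdeg]; linarith [mZ 0]) (by simp only [sdeg]; linarith [mZ 1])
    (by have h := qC 0 0; simp [pairQ] at h; simp only [sdeg]; linarith)
    (by have h := qC 1 1; simp [pairQ] at h; simp only [sdeg]; linarith)
    (by have h := qZ 0 0; simp [pairQ] at h; simp only [sdeg]; linarith)
    (by have h := qZ 0 1; simp [pairQ] at h; simp only [sdeg]; linarith)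
    (by have h := qZ 1 1; simp [pairQ] at h; simp only [sdeg]; linarith)
  obtain ⟨e1, e2⟩ := finish S D (X := x11) (Y := x10) (T := x4) (hL _ (by simp)).2.1
    (by simp [Fin.sum_univ_eight, hTV, combT]) (by simp [Fin.sum_univ_eight, hTV, combT])
    hS h3 f11 hg hy
  exact ⟨x4.1, e2, by simp [hTV, e1]⟩

lemma case2 (S : Setup ι) (D : Vals ι) {t : Cfsg.IrrCharacter G} (ht : ∀ r, D.V r t = trE r)
    (hnt : D.n t = 1) (hzt : ∀ i, D.z i t = 1) {L : List (Ent G)}
    (hmap : L.map (fun x => x.2.2) = st2) (hnd : (L.map Prod.fst).Nodup)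
    (hL : ∀ x ∈ L, x.1 ≠ t ∧ x.2.1 * x.2.1 = 1 ∧ x.2.2.length = 8 ∧
      ∀ j < 8, (if h : j < 8 then D.V ⟨j, h⟩ x.1 else 0) = x.2.1 * x.2.2.getD j 0)
    (hz : ∀ ψ, ψ ≠ t → ψ ∉ L.map Prod.fst → ∀ j < 8,
      (if h : j < 8 then D.V ⟨j, h⟩ ψ else 0) = 0) :
    ∃ χ, D.n χ = 3 ∧ D.V 4 χ = -1 := by
  rw [st2] at hmap
  obtain ⟨x0, L, rfl, c0, hmap⟩ := List.map_eq_cons_iff.mp hmap
  obtain ⟨x1, L, rfl, c1, hmap⟩ := List.map_eq_cons_iff.mp hmap
  obtain ⟨x2, L, rfl, c2, hmap⟩ := List.map_eq_cons_iff.mp hmap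
  obtain ⟨x3, L, rfl, c3, hmap⟩ := List.map_eq_cons_iff.mp hmap
  obtain ⟨x4, L, rfl, c4, hmap⟩ := List.map_eq_cons_iff.mp hmap
  obtain ⟨x5, L, rfl, c5, hmap⟩ := List.map_eq_cons_iff.mp hmap
  obtain ⟨x6, L, rfl, c6, hmap⟩ := List.map_eq_cons_iff.mp hmap
  obtain ⟨x7, L, rfl, c7, hmap⟩ := List.map_eq_cons_iff.mp hmap
  obtain ⟨x8, L, rfl, c8, hmap⟩ := List.map_eq_cons_iff.mp hmap
  obtain ⟨x9, L, rfl, c9, hmap⟩ := List.map_eq_cons_iff.mp hmap
  obtain ⟨x10, L, rfl, c10, hmap⟩ := List.map_eq_cons_iff.mp hmap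
  obtain ⟨x11, L, rfl, c11, hmap⟩ := List.map_eq_cons_iff.mp hmap
  obtain rfl := List.map_eq_nil_iff.mp hmap
  obtain ⟨sC, mC, qC⟩ := rows S D ht hnt hzt hnd hL hz 0
  simp [rowSum, rowQ, trE, c0, c1, c2, c3, c4, c5, c6, c7, c8, c9, c10, c11] at sC
  replace mC := fun i => by have h := mC i; simp [rowSum, rowQ, c0, c1, c2, c3, c4, c5, c6, c7, c8, c9, c10, c11] at h; exact h
  replace qC := fun i k => by have h := qC i k; simp [rowSum, rowQ, c0, c1, c2, c3, c4, c5, c6, c7, c8, c9, c10, c11] at h; exact h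
  obtain ⟨sZ, mZ, qZ⟩ := rows S D ht hnt hzt hnd hL hz 1
  simp [rowSum, rowQ, trE, c0, c1, c2, c3, c4, c5, c6, c7, c8, c9, c10, c11] at sZ
  replace mZ := fun i => by have h := mZ i; simp [rowSum, rowQ, c0, c1, c2, c3, c4, c5, c6, c7, c8, c9, c10, c11] at h; exact h
  replace qZ := fun i k => by have h := qZ i k; simp [rowSum, rowQ, c0, c1, c2, c3, c4, c5, c6, c7, c8, c9, c10, c11] at h; exact h
  obtain ⟨sE1, mE1, qE1⟩ := rows S D ht hnt hzt hnd hL hz 2
  simp [rowSum, rowQ, trE, c0, c1, c2, c3, c4, c5, c6, c7, c8, c9, c10, c11] at sE1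
  replace mE1 := fun i => by have h := mE1 i; simp [rowSum, rowQ, c0, c1, c2, c3, c4, c5, c6, c7, c8, c9, c10, c11] at h; exact h
  replace qE1 := fun i k => by have h := qE1 i k; simp [rowSum, rowQ, c0, c1, c2, c3, c4, c5, c6, c7, c8, c9, c10, c11] at h; exact h
  obtain ⟨sE2, mE2, qE2⟩ := rows S D ht hnt hzt hnd hL hz 3
  simp [rowSum, rowQ, trE, c0, c1, c2, c3, c4, c5, c6, c7, c8, c9, c10, c11] at sE2
  replace mE2 := fun i => by have h := mE2 i; simp [rowSum, rowQ, c0, c1, c2, c3, c4, c5, c6, c7, c8, c9, c10, c11] at h; exact h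
  replace qE2 := fun i k => by have h := qE2 i k; simp [rowSum, rowQ, c0, c1, c2, c3, c4, c5, c6, c7, c8, c9, c10, c11] at h; exact h
  have hne : ∀ x ∈ [x0, x1, x2, x3, x4, x5, x6, x7, x8, x9, x10, x11], sdeg D x ≠ 0 := fun x hx =>
    mul_ne_zero (Int.cast_ne_zero.mpr fun h => by simpa [h] using (hL x hx).2.1)
      (Nat.cast_ne_zero.mpr (D.pos x.1).ne')
  have hTV : ∀ r : Fin 8, D.V r x3.1 = x3.2.1 * ([0, 0, 0, 0, 1, -1, 0, 0] : List ℤ).getD r.val 0 := fun r => by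
    have h := (hL x3 (by simp)).2.2.2 r.val r.isLt
    rw [dif_pos r.isLt, c3] at h
    exact h
  obtain ⟨hS, h3, f00, f01, f11, hg⟩ := core_e D (X := x10) (T := x3) (W := x4) (V := x2)
    (hne _ (by simp)) (hne _ (by simp)) (by simp only [sdeg]; linarith) (by simp only [sdeg]; linarith)
    (fun i => by simp only [sdeg]; linarith [mE1 i]) (fun i => by simp only [sdeg]; linarith [mE2 i])
    (fun i k => by simp only [sdeg]; linarith [qE1 i k]) (fun i k => by simp only [sdeg]; linarith [qE2 i k])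
  have hy := A9LocalAlg49.z_part (sdeg D x10) (sdeg D x9) (sdeg D x7) (sdeg D x5) (sdeg D x6)
    (dev D 0 x10.1) (dev D 1 x10.1) (dev D 0 x7.1) (dev D 1 x7.1) (dev D 0 x9.1) (dev D 1 x9.1)
    (dev D 0 x5.1) (dev D 1 x5.1) (dev D 0 x6.1) (dev D 1 x6.1) (scale ι 0) (scale ι 1)
    (hne _ (by simp)) (hne _ (by simp)) (hne _ (by simp)) (hne _ (by simp)) (scale_ne 0) (scale_ne 1)
    hS f00 f01 (by simp only [sdeg]; linarith) (by simp only [sdeg]; linarith)
    (by simp only [sdeg]; linarith [mC 0]) (by simp only [sdeg]; linarith [mC 1])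
    (by simp only [sdeg]; linarith [mZ 0]) (by simp only [sdeg]; linarith [mZ 1])
    (by have h := qC 0 0; simp [pairQ] at h; simp only [sdeg]; linarith)
    (by have h := qC 1 1; simp [pairQ] at h; simp only [sdeg]; linarith)
    (by have h := qZ 0 0; simp [pairQ] at h; simp only [sdeg]; linarith)
    (by have h := qZ 0 1; simp [pairQ] at h; simp only [sdeg]; linarith)
    (by have h := qZ 1 1; simp [pairQ] at h; simp only [sdeg]; linarith)
  obtain ⟨e1, e2⟩ := finish S D (X := x10) (Y := x9) (T := x3) (hL _ (by simp)).2.1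
    (by simp [Fin.sum_univ_eight, hTV, combT]) (by simp [Fin.sum_univ_eight, hTV, combT])
    hS h3 f11 hg hy
  exact ⟨x3.1, e2, by simp [hTV, e1]⟩

lemma case3 (S : Setup ι) (D : Vals ι) {t : Cfsg.IrrCharacter G} (ht : ∀ r, D.V r t = trE r)
    (hnt : D.n t = 1) (hzt : ∀ i, D.z i t = 1) {L : List (Ent G)}
    (hmap : L.map (fun x => x.2.2) = st3) (hnd : (L.map Prod.fst).Nodup)
    (hL : ∀ x ∈ L, x.1 ≠ t ∧ x.2.1 * x.2.1 = 1 ∧ x.2.2.length = 8 ∧
      ∀ j < 8, (if h : j < 8 then D.V ⟨j, h⟩ x.1 else 0) = x.2.1 * x.2.2.getD j 0)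
    (hz : ∀ ψ, ψ ≠ t → ψ ∉ L.map Prod.fst → ∀ j < 8,
      (if h : j < 8 then D.V ⟨j, h⟩ ψ else 0) = 0) :
    ∃ χ, D.n χ = 3 ∧ D.V 4 χ = -1 := by
  rw [st3] at hmap
  obtain ⟨x0, L, rfl, c0, hmap⟩ := List.map_eq_cons_iff.mp hmap
  obtain ⟨x1, L, rfl, c1, hmap⟩ := List.map_eq_cons_iff.mp hmap
  obtain ⟨x2, L, rfl, c2, hmap⟩ := List.map_eq_cons_iff.mp hmap
  obtain ⟨x3, L, rfl, c3, hmap⟩ := List.map_eq_cons_iff.mp hmap
  obtain ⟨x4, L, rfl, c4, hmap⟩ := List.map_eq_cons_iff.mp hmap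
  obtain ⟨x5, L, rfl, c5, hmap⟩ := List.map_eq_cons_iff.mp hmap
  obtain ⟨x6, L, rfl, c6, hmap⟩ := List.map_eq_cons_iff.mp hmap
  obtain ⟨x7, L, rfl, c7, hmap⟩ := List.map_eq_cons_iff.mp hmap
  obtain ⟨x8, L, rfl, c8, hmap⟩ := List.map_eq_cons_iff.mp hmap
  obtain ⟨x9, L, rfl, c9, hmap⟩ := List.map_eq_cons_iff.mp hmap
  obtain ⟨x10, L, rfl, c10, hmap⟩ := List.map_eq_cons_iff.mp hmap
  obtain ⟨x11, L, rfl, c11, hmap⟩ := List.map_eq_cons_iff.mp hmap
  obtain rfl := List.map_eq_nil_iff.mp hmap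
  obtain ⟨sC, mC, qC⟩ := rows S D ht hnt hzt hnd hL hz 0
  simp [rowSum, rowQ, trE, c0, c1, c2, c3, c4, c5, c6, c7, c8, c9, c10, c11] at sC
  replace mC := fun i => by have h := mC i; simp [rowSum, rowQ, c0, c1, c2, c3, c4, c5, c6, c7, c8, c9, c10, c11] at h; exact h
  replace qC := fun i k => by have h := qC i k; simp [rowSum, rowQ, c0, c1, c2, c3, c4, c5, c6, c7, c8, c9, c10, c11] at h; exact h
  obtain ⟨sZ, mZ, qZ⟩ := rows S D ht hnt hzt hnd hL hz 1
  simp [rowSum, rowQ, trE, c0, c1, c2, c3, c4, c5, c6, c7, c8, c9, c10, c11] at sZ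
  replace mZ := fun i => by have h := mZ i; simp [rowSum, rowQ, c0, c1, c2, c3, c4, c5, c6, c7, c8, c9, c10, c11] at h; exact h
  replace qZ := fun i k => by have h := qZ i k; simp [rowSum, rowQ, c0, c1, c2, c3, c4, c5, c6, c7, c8, c9, c10, c11] at h; exact h
  obtain ⟨sE1, mE1, qE1⟩ := rows S D ht hnt hzt hnd hL hz 2
  simp [rowSum, rowQ, trE, c0, c1, c2, c3, c4, c5, c6, c7, c8, c9, c10, c11] at sE1
  replace mE1 := fun i => by have h := mE1 i; simp [rowSum, rowQ, c0, c1, c2, c3, c4, c5, c6, c7, c8, c9, c10, c11] at h; exact h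
  replace qE1 := fun i k => by have h := qE1 i k; simp [rowSum, rowQ, c0, c1, c2, c3, c4, c5, c6, c7, c8, c9, c10, c11] at h; exact h
  obtain ⟨sE2, mE2, qE2⟩ := rows S D ht hnt hzt hnd hL hz 3
  simp [rowSum, rowQ, trE, c0, c1, c2, c3, c4, c5, c6, c7, c8, c9, c10, c11] at sE2
  replace mE2 := fun i => by have h := mE2 i; simp [rowSum, rowQ, c0, c1, c2, c3, c4, c5, c6, c7, c8, c9, c10, c11] at h; exact h
  replace qE2 := fun i k => by have h := qE2 i k; simp [rowSum, rowQ, c0, c1, c2, c3, c4, c5, c6, c7, c8, c9, c10, c11] at h; exact h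
  have hne : ∀ x ∈ [x0, x1, x2, x3, x4, x5, x6, x7, x8, x9, x10, x11], sdeg D x ≠ 0 := fun x hx =>
    mul_ne_zero (Int.cast_ne_zero.mpr fun h => by simpa [h] using (hL x hx).2.1)
      (Nat.cast_ne_zero.mpr (D.pos x.1).ne')
  have hTV : ∀ r : Fin 8, D.V r x4.1 = x4.2.1 * ([0, 0, 0, 0, 1, -1, 0, 0] : List ℤ).getD r.val 0 := fun r => by
    have h := (hL x4 (by simp)).2.2.2 r.val r.isLt
    rw [dif_pos r.isLt, c4] at h
    exact h
  obtain ⟨hS, h3, f00, f01, f11, hg⟩ := core_e D (X := x10) (T := x4) (W := x5) (V := x3)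
    (hne _ (by simp)) (hne _ (by simp)) (by simp only [sdeg]; linarith) (by simp only [sdeg]; linarith)
    (fun i => by simp only [sdeg]; linarith [mE1 i]) (fun i => by simp only [sdeg]; linarith [mE2 i])
    (fun i k => by simp only [sdeg]; linarith [qE1 i k]) (fun i k => by simp only [sdeg]; linarith [qE2 i k])
  have hb := fun F => expand D ht hnd hL hz 1 F
  have hneg : ∀ F : Cfsg.IrrCharacter G → ℝ, ∑ ψ, (D.V 1 ψ : ℝ) * F ψ = 0 →
      (x9.2.1 : ℝ) * F x9.1 + (x8.2.1 : ℝ) * F x8.1 = 0 := fun F hF => by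
    have h := (hb F).symm.trans hF
    simp [rowSum, trE, c0, c1, c2, c3, c4, c5, c6, c7, c8, c9, c10, c11] at h
    linarith
  have hn := hneg _ (moment_deg S D 1)
  have hm := fun i => hneg _ (moment_one S D 1 i)
  have hdev : ∀ i, dev D i x8.1 = dev D i x9.1 := fun i => by
    have h0 := hne x8 (by simp)
    apply mul_left_cancel₀ h0
    have := hm i
    simp only [sdeg] at this ⊢
    linear_combination this - dev D i x9.1 * hn
  have hcp : sdeg D x8 = -sdeg D x9 := by simp only [sdeg]; linarith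
  refine (A9LocalAlg49.alt_false (sdeg D x10) (sdeg D x7) (sdeg D x9) (sdeg D x6)
    (dev D 0 x10.1) (dev D 1 x10.1) (dev D 0 x7.1) (dev D 1 x7.1) (dev D 0 x9.1) (dev D 1 x9.1)
    (dev D 0 x6.1) (dev D 1 x6.1) (scale ι 0) (scale ι 1)
    (hne _ (by simp)) (hne _ (by simp)) (hne _ (by simp)) (hne _ (by simp)) (scale_ne 0) (scale_ne 1)
    hS f11 (by simp only [sdeg]; linarith) (by simp only [sdeg]; linarith)
    (by simp only [sdeg]; linarith [mC 0]) (by simp only [sdeg]; linarith [mC 1])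
    ?_ ?_ ?_ ?_ ?_ ?_).elim
  · have h := mZ 0; simp only [sdeg] at hcp h ⊢; rw [hdev] at h; linear_combination h - dev D 0 x9.1 * hcp
  · have h := mZ 1; simp only [sdeg] at hcp h ⊢; rw [hdev] at h; linear_combination h - dev D 1 x9.1 * hcp
  · have h := qC 0 0; simp [pairQ] at h; simp only [sdeg]; linarith
  · have h := qC 1 1; simp [pairQ] at h; simp only [sdeg]; linarith
  · have h := qZ 0 0; simp [pairQ, hdev] at h; simp only [sdeg] at hcp h ⊢
    linear_combination h - dev D 0 x9.1 ^ 2 * hcp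
  · have h := qZ 0 1; simp [pairQ, hdev] at h; simp only [sdeg] at hcp h ⊢
    linear_combination h - dev D 0 x9.1 * dev D 1 x9.1 * hcp

theorem exists_cubic (S : Setup ι) : ∃ χ : Cfsg.IrrCharacter G, (χ : G → ℂ) 1 = 3 ∧
    Cfsg.classInner (tau ι (psi 4)) (χ : G → ℂ) = -1 := by
  classical
  obtain ⟨D⟩ := vals_nonempty S
  have hT := tiset S
  set t := CharBasicDecomp.trivIrr G
  have ht1 : (t : G → ℂ) = fun _ => 1 := rfl
  have he : ∀ a, D.V a t = trE a := fun a => by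
    have h := D.inner a t
    rw [ht1, inner_tau_triv hT, inner_psi_one] at h
    exact_mod_cast h.symm
  have hnt : D.n t = 1 := by
    have h := D.deg t
    rw [ht1] at h
    beta_reduce at h
    exact_mod_cast h.symm
  have hzt : ∀ i, D.z i t = 1 := fun i => by
    have h := D.val i t
    rw [ht1] at h
    beta_reduce at h
    exact_mod_cast h.symm
  have hgram : ∀ a b, ∑ ψ, D.V a ψ * D.V b ψ = gramE a b := fun a b => by
    have h := CharBasicOrth.classInner_eq_sum (φ := tau ι (psi b))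
      (isClassFunction_tau (ι := ι) (psi a))
    rw [inner_tau hT (isClass_psi b) (psi_vanish a) (psi_vanish b), inner_psi] at h
    simp only [D.inner, map_intCast] at h
    exact_mod_cast h.symm
  have h0 : ∀ a, ∑ ψ, D.V a ψ * (D.n ψ : ℤ) = 0 := fun a => by
    have h := moment_deg S D a
    exact_mod_cast h
  obtain ⟨st, hst, L, hmap, hnd, hL, hz⟩ := coherence t (fun ψ => (D.n ψ : ℤ)) (by simp [hnt])
    (fun ψ => Int.natCast_pos.mpr (D.pos ψ)) D.V hgram he h0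
  have fin : ∀ χ, D.n χ = 3 ∧ D.V 4 χ = -1 → (χ : G → ℂ) 1 = 3 ∧
      Cfsg.classInner (tau ι (psi 4)) (χ : G → ℂ) = -1 := fun χ h => by
    rw [D.deg, D.inner, h.1, h.2]; norm_num
  simp only [List.mem_cons, List.not_mem_nil, or_false] at hst
  rcases hst with rfl | rfl | rfl | rfl
  · obtain ⟨χ, hχ⟩ := case0 S D he hnt hzt hmap hnd hL hz; exact ⟨χ, fin χ hχ⟩
  · obtain ⟨χ, hχ⟩ := case1 S D he hnt hzt hmap hnd hL hz; exact ⟨χ, fin χ hχ⟩
  · obtain ⟨χ, hχ⟩ := case2 S D he hnt hzt hmap hnd hL hz; exact ⟨χ, fin χ hχ⟩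
  · obtain ⟨χ, hχ⟩ := case3 S D he hnt hzt hmap hnd hL hz; exact ⟨χ, fin χ hχ⟩

/-- A character constant on the cosets of the diagonal subgroup pairs nonnegatively with `ψ`. -/
theorem inner_ne_neg {c : M648 → ℂ} (hc : Cfsg.IsCharacter M648 c)
    (hinv : ∀ n m : M648, n.s = 0 ∨ isV n.s → c (n * m) = c m)
    (h : ∑ m : M648, psi 4 m * conj (c m) = -648) : False := by
  have hs : ∀ m : M648, c m = c (lift m.s) := fun m => by
    have h := hinv (m * (lift m.s)⁻¹) (lift m.s) (Or.inl (by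
      rw [M648.s_mul, ← M648.s_mul, M648.s_mul, M648.s_inv]
      show smul m.s (sinv m.s) = 0
      exact congrArg M648.s (mul_inv_cancel m)))
    rwa [inv_mul_cancel_right] at h
  have hV : ∀ n s : Fin 24, n = 0 ∨ isV n → c (lift (smul n s)) = c (lift s) := fun n s hn => by
    rw [← hinv (lift n) (lift s) hn, hs (lift n * lift s)]
    rfl
  have hT : ∑ m : M648, (psi 4 m - 1) * conj (c m) =
      ∑ s, val4 (cosetSum s) * conj (c (lift s)) := by
    simp only [cosetSum, map_sum, Finset.sum_mul]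
    rw [← Fintype.sum_prod_type' (f := fun (s : Fin 24) (v : Fourier648.V3) =>
      val4 (tabE 4 (cls (⟨v.1, v.2.1, v.2.2, s⟩ : M648)) - int4 1) * conj (c (lift s)))]
    refine Fintype.sum_equiv
      { toFun := fun m : M648 => (m.s, (m.a, m.b, m.c))
        invFun := fun x => ⟨x.2.1, x.2.2.1, x.2.2.2, x.1⟩
        left_inv := fun _ => rfl
        right_inv := fun _ => rfl } _ _ fun m => ?_
    show (psi 4 m - 1) * conj (c m) = _
    rw [hs m, map_sub, val4_int, Int.cast_one]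
    rfl
  have h4 : (4 : ℂ) * ∑ s, val4 (cosetSum s) * conj (c (lift s)) =
      ∑ n ∈ insert 0 (Finset.univ.filter isV),
        ∑ s, val4 (cosetSum (smul n s)) * conj (c (lift s)) := by
    rw [Finset.sum_congr (s₁ := insert 0 (Finset.univ.filter isV)) rfl
      (g := fun _ => ∑ s, val4 (cosetSum s) * conj (c (lift s)))
      (fun n hn => ?_)]
    · rw [Finset.sum_const, Fourier648.card_V, nsmul_eq_mul]
      norm_num
    · refine Fintype.sum_bijective (smul n)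
        (Finite.injective_iff_bijective.mp (Fourier648.smul_injective n)) _ _ fun s => ?_
      rw [hV n s (by simpa using hn)]
  rw [Finset.sum_comm] at h4
  simp only [← Finset.sum_mul, ← map_sum, cosetSum_V, map_zero, zero_mul,
    Finset.sum_const_zero] at h4
  have h0 := (mul_eq_zero.mp h4).resolve_left (by norm_num)
  obtain ⟨N, hN⟩ := CharBasicOrth.classInner_isCharacter
    (CharBasicDecomp.isCharacter_one (G := M648)) hc
  rw [Cfsg.classInner, Nat.card_eq_fintype_card, card_M648] at hN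
  simp only [sub_mul, Finset.sum_sub_distrib, h, h0] at hT
  have : ((N + 1 : ℕ) : ℂ) = 0 := by
    push_cast
    linear_combination (-1 : ℂ) * hN - (648 : ℂ)⁻¹ * hT
  exact Nat.succ_ne_zero N (Nat.cast_eq_zero.mp this)

omit [Fintype G] in
lemma kernel_inter [Finite G] {χ : Cfsg.IrrCharacter G} (h3 : (χ : G → ℂ) 1 = 3)
    (hphi : ∑ m : M648, psi 4 m * conj ((χ : G → ℂ) (ι m)) = -648) (m : M648) :
    ι m ∈ CharBasicLinear.charKer (χ : G → ℂ) (CharBasic.isCharacter_of_isIrrCharacter χ.2) ↔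
      m.s = 0 := by
  set hχ := CharBasic.isCharacter_of_isIrrCharacter χ.2
  set K := CharBasicLinear.charKer (χ : G → ℂ) hχ
  have hc : Cfsg.IsCharacter M648 (fun m => (χ : G → ℂ) (ι m)) := CharBasic.isCharacter_comap ι hχ
  have htr : ∀ n : M648, n.s = 0 → ι n ∈ K := fun n hn => by
    have h := Fourier648.trivial_on_trans hc (by simpa using h3) hn
    simp only [map_one] at h
    exact h
  refine ⟨fun hm => ?_, htr m⟩
  by_contra hs
  refine inner_ne_neg (c := fun m => (χ : G → ℂ) (ι m)) hc ?_ hphi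
  have hKn : K.Normal := CharBasicLinear.charKer_normal _ hχ
  have hN : (K.comap ι).Normal := hKn.comap ι
  obtain ⟨n₀, hn₀, hv₀⟩ := normal_isV hN (m := m) hm hs
  have hin : ∀ n : M648, n.s = 0 ∨ isV n.s → ι n ∈ K := by
    rintro n (hn | hn)
    · exact htr n hn
    obtain ⟨g, hg⟩ := isV_conj n₀.s n.s hv₀ hn
    have h1 := hN.conj_mem n₀ hn₀ (lift g)
    have h2 : (n * (lift g * n₀ * (lift g)⁻¹)⁻¹).s = 0 := by
      rw [M648.s_mul, M648.s_inv, M648.s_mul, M648.s_mul, M648.s_inv]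
      show smul n.s (sinv (smul (smul g n₀.s) (sinv g))) = 0
      rw [hg]
      exact congrArg M648.s (mul_inv_cancel n)
    have h3 := mul_mem (htr _ h2) (Subgroup.mem_comap.mp h1)
    rwa [← map_mul, inv_mul_cancel_right] at h3
  intro n m hn
  obtain ⟨d, ρ, hρ⟩ := hχ
  have hk := hin n hn
  have hk' : (χ : G → ℂ) (ι n) = (χ : G → ℂ) 1 := hk
  rw [← hρ, Representation.char_one, CharBasic.character_eq_finrank_iff] at hk'
  show (χ : G → ℂ) (ι (n * m)) = (χ : G → ℂ) (ι m)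
  rw [← hρ, map_mul]
  show LinearMap.trace ℂ _ (ρ (ι n * ι m)) = LinearMap.trace ℂ _ (ρ (ι m))
  rw [map_mul, hk']
  rfl

omit [Fintype G] in
theorem range_eq_top [Finite G] (S : Setup ι) : ι.range = ⊤ := by
  classical
  letI := Fintype.ofFinite G
  obtain ⟨χ, h3, hinner⟩ := exists_cubic S
  have hphi : ∑ m : M648, psi 4 m * conj ((χ : G → ℂ) (ι m)) = -648 := by
    letI : Fintype ι.range := Fintype.ofFinite _
    rw [tau_eq ι S.inj, CharInduced.inner_ind_left _ _ (CharBasic.isClassFunction_of_isCharacter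
      (CharBasic.isCharacter_of_isIrrCharacter χ.2)),
      ← CharBasicOrth.classInner_congr_equiv (rEquiv ι S.inj), Cfsg.classInner,
      Nat.card_eq_fintype_card, card_M648, Nat.cast_ofNat] at hinner
    have e : ∑ m : M648, psi 4 m * conj ((χ : G → ℂ) (ι m)) = -1 * 648 := by
      rw [← hinner, mul_comm (_⁻¹ * _), ← mul_assoc, mul_inv_cancel₀ (by norm_num), one_mul]
      refine Finset.sum_congr rfl fun m _ => ?_
      simp only [Function.comp, MulEquiv.symm_apply_apply]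
      rfl
    rw [e]; norm_num
  set K := CharBasicLinear.charKer (χ : G → ℂ) (CharBasic.isCharacter_of_isIrrCharacter χ.2)
  have : K.Normal := CharBasicLinear.charKer_normal _ _
  have hTK : Jg ι ≤ K := by
    rintro _ ⟨m, hm, rfl⟩
    exact (kernel_inter h3 hphi m).mpr hm
  have hKH : ∀ g ∈ K, g ∈ ι.range → g ∈ Jg ι := by
    rintro _ hg ⟨m, rfl⟩
    exact ⟨m, (kernel_inter h3 hphi m).mp hg, rfl⟩
  have habel : ∀ x ∈ Jg ι, ∀ y ∈ Jg ι, x * y = y * x := by
    rintro _ ⟨m, hm, rfl⟩ _ ⟨n, hn, rfl⟩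
    rw [← map_mul, ← map_mul, trans_comm m n hm hn]
  have : Fact (Nat.Prime 3) := ⟨Nat.prime_three⟩
  have hTp : IsPGroup 3 (Jg ι) := by
    rintro ⟨_, m, hm, rfl⟩
    exact ⟨1, Subtype.ext (by
      show ι m ^ 3 ^ 1 = 1
      rw [pow_one, ← map_pow, trans_pow m hm, map_one])⟩
  obtain ⟨P, hP⟩ := (hTp.comap_of_injective K.subtype K.subtype_injective).exists_le_sylow
  have hPT : (P : Subgroup K) = (Jg ι).subgroupOf K := by
    by_contra hne
    have hlt : ((Jg ι).subgroupOf K).subgroupOf (P : Subgroup K) < ⊤ := by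
      refine lt_top_iff_ne_top.mpr fun h => hne (le_antisymm (fun x hx => ?_) hP)
      have : (⟨x, hx⟩ : (P : Subgroup K)) ∈ ((Jg ι).subgroupOf K).subgroupOf (P : Subgroup K) :=
        h ▸ Subgroup.mem_top _
      exact this
    have := P.2.isNilpotent
    obtain ⟨n, hn, hnT⟩ := SetLike.exists_of_lt (Group.normalizerCondition_of_isNilpotent _ hlt)
    apply hnT
    refine hKH _ n.1.2 (normalizer_le S ?_)
    rw [Subgroup.mem_normalizer_iff]
    intro k
    constructor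
    · intro hk
      exact (Subgroup.mem_normalizer_iff.mp hn ⟨⟨k, hTK hk⟩, hP hk⟩).mp hk
    · intro hk
      have hkK : k ∈ K := by
        have h := mul_mem (mul_mem (inv_mem n.1.2) (hTK hk)) n.1.2
        simpa [mul_assoc] using h
      have hkP : (⟨k, hkK⟩ : K) ∈ (P : Subgroup K) := by
        have h := mul_mem (mul_mem (inv_mem n.2) (hP (show (⟨_, hTK hk⟩ : K) ∈ (Jg ι).subgroupOf K from hk))) n.2
        convert h using 1
        apply Subtype.ext
        simp [mul_assoc]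
      exact (Subgroup.mem_normalizer_iff.mp hn ⟨⟨k, hkK⟩, hkP⟩).mpr hk
  have hburn : Subgroup.normalizer (P : Set K) ≤ Subgroup.centralizer (P : Set K) := by
    intro n hn
    have hnH : (n : G) ∈ ι.range := by
      refine normalizer_le S ?_
      rw [Subgroup.mem_normalizer_iff]
      intro k
      constructor
      · intro hk
        have : (⟨k, hTK hk⟩ : K) ∈ (P : Subgroup K) := by rw [hPT]; exact hk
        have h := ((Subgroup.mem_normalizer_iff.mp hn) ⟨k, hTK hk⟩).mp this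
        rw [hPT] at h; exact h
      · intro hk
        have hkK : k ∈ K := by
          have h := mul_mem (mul_mem (inv_mem n.2) (hTK hk)) n.2
          simpa [mul_assoc] using h
        have : n * ⟨k, hkK⟩ * n⁻¹ ∈ (P : Subgroup K) := by rw [hPT]; exact hk
        have h := ((Subgroup.mem_normalizer_iff.mp hn) ⟨k, hkK⟩).mpr this
        rw [hPT] at h; exact h
    have hnT := hKH _ n.2 hnH
    rw [Subgroup.mem_centralizer_iff]
    intro y hy
    have hy' : y ∈ (P : Subgroup K) := hy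
    rw [hPT] at hy'
    exact Subtype.ext (habel _ hy' _ hnT)
  set Q : Subgroup K := (MonoidHom.transferSylow P hburn).ker
  have hQtop : Q ⊔ (P : Subgroup K) = ⊤ :=
    (MonoidHom.ker_transferSylow_isComplement' P hburn).sup_eq_top
  have hQ3 : ¬ 3 ∣ Nat.card Q := MonoidHom.not_dvd_card_ker_transferSylow P hburn
  have hQn : Q.Normal := MonoidHom.normal_ker _
  clear_value Q
  set Q' : Subgroup G := Q.map K.subtype
  have hQ'3 : ¬ 3 ∣ Nat.card Q' := by
    rw [← Nat.card_congr (Q.equivMapOfInjective _ K.subtype_injective).toEquiv]; exact hQ3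
  let a : G := ι (tr 1 0 0)
  let b : G := ι (tr 0 1 0)
  have haT : a ∈ Jg ι := ⟨_, rfl, rfl⟩
  have hbT : b ∈ Jg ι := ⟨_, rfl, rfl⟩
  have hnorm : ∀ t ∈ Jg ι, t ∈ Subgroup.normalizer (Q' : Set G) := by
    intro t ht
    rw [Subgroup.mem_normalizer_iff]
    intro k
    constructor
    · rintro ⟨q, hq, rfl⟩
      exact ⟨⟨t, hTK ht⟩ * q * ⟨t, hTK ht⟩⁻¹, hQn.conj_mem q hq _, rfl⟩
    · rintro ⟨q, hq, hq'⟩
      refine ⟨⟨t, hTK ht⟩⁻¹ * q * ⟨t, hTK ht⟩, ?_, ?_⟩
      · have := hQn.conj_mem q hq (⟨t, hTK ht⟩⁻¹)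
        rwa [inv_inv] at this
      · show t⁻¹ * (q : G) * t = k
        rw [show (q : G) = t * k * t⁻¹ from hq']; group
  have hpair : CoprimeGen.IsPairAction 3 a b Q' :=
    { comm := habel a haT b hbT
      pow_left := by rw [← map_pow, trans_pow (tr 1 0 0) rfl, map_one]
      pow_right := by rw [← map_pow, trans_pow (tr 0 1 0) rfl, map_one]
      right_ne := fun h => absurd (S.inj (h.trans (map_one ι).symm)) tr_ne_one
      left_not_mem := by
        intro h
        obtain ⟨k, hk⟩ := Subgroup.mem_zpowers_iff.mp h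
        rw [← map_zpow] at hk
        exact not_zpow k (S.inj hk)
      mem_left := hnorm a haT
      mem_right := hnorm b hbT }
  have hQbot : Q' ≤ ⊥ := by
    refine CoprimeGen.le_of_pair_centralizers hpair hQ'3 fun x hx hx1 => ?_
    obtain ⟨m, hm, rfl⟩ := CoprimeGen.pairSubgroup_le haT hbT hx
    rintro q ⟨hq, hqC⟩
    have hqT : q ∈ Jg ι := hKH q (Subgroup.map_subtype_le Q hq)
      (S.cent m hm (fun h => hx1 (by rw [h, map_one])) hqC)
    obtain ⟨m', hm', rfl⟩ := hqT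
    rw [Subgroup.mem_bot]
    by_contra hq1
    apply hQ'3
    have : orderOf (⟨ι m', hq⟩ : Q') = 3 := orderOf_eq_prime (Subtype.ext (by
      show ι m' ^ 3 = 1
      rw [← map_pow, trans_pow m' hm', map_one])) (fun h => hq1 (congrArg Subtype.val h))
    exact this ▸ orderOf_dvd_natCard _
  have hQb : Q = ⊥ :=
    (Subgroup.map_eq_bot_iff_of_injective _ K.subtype_injective).mp (le_bot_iff.mp hQbot)
  have hKT : K = Jg ι := by
    refine le_antisymm (fun k hk => ?_) hTK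
    rw [hQb, bot_sup_eq, hPT] at hQtop
    have : (⟨k, hk⟩ : K) ∈ (Jg ι).subgroupOf K := hQtop ▸ Subgroup.mem_top _
    exact this
  have hTn : (Jg ι).Normal := hKT ▸ (inferInstance : K.Normal)
  refine le_antisymm le_top ?_
  rw [← Subgroup.normalizer_eq_top_iff.mpr hTn]
  exact normalizer_le S

/-- The statement for subgroups. -/
theorem eq_top_of_local {G : Type*} [Group G] [Finite G] (H : Subgroup G) (e : M648 ≃* H)
    (hC : ∀ m : M648, m.s = 0 → m ≠ 1 → Subgroup.centralizer ({(e m : G)} : Set G) ≤ H) :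
    H = ⊤ := by
  have hrange : (H.subtype.comp e.toMonoidHom).range = H := by
    ext g
    constructor
    · rintro ⟨m, rfl⟩; exact (e m).2
    · exact fun hg => ⟨e.symm ⟨g, hg⟩, by simp⟩
  rw [← hrange]
  exact range_eq_top ⟨H.subtype_injective.comp e.injective,
    fun m hm h1 => hrange.symm ▸ hC m hm h1⟩

end Cfsg.Agent.A9Local49
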