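import Mathlib
import Cfsg.Agent.Lib.A9Local49
import Cfsg.Agent.Lib.A9Base59

/-!
The first branch of the recognition of `A₉` by its three-local subgroup: if the centralisers of
the weight one cycles lie in the normaliser of `J` then that normaliser is the whole group.
-/

set_option autoImplicit false
set_option maxRecDepth 100000

namespace Cfsg.Agent.A9LocalBridge49

open Cfsg.Agent.Model648 Cfsg.Agent.Group648 Cfsg.Agent.A9Base59

lemma gen_mem : ∀ i : Fin 4, toS9 (gen i) ∈ H9 := by decide +kernel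

lemma toS9_mem (m : M648) : toS9 m ∈ H9 := by
  have h : toS9 m ∈ toS9.range := ⟨m, rfl⟩
  rw [range_toS9] at h
  refine Subgroup.closure_le H9 |>.mpr ?_ h
  obtain ⟨h0, h1, h2, h3⟩ := toS9_gen
  intro x hx
  simp only [gens, Set.mem_insert_iff, Set.mem_singleton_iff] at hx
  rcases hx with rfl | rfl | rfl | rfl
  exacts [h0 ▸ gen_mem 0, h1 ▸ gen_mem 1, h2 ▸ gen_mem 2, h3 ▸ gen_mem 3]

lemma move0 : ∀ a : Fin 9, ∃ m : M648, toS9 m 0 = a := by decide +kernel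

lemma move1 : ∀ a : Fin 9, bk a = 0 → a ≠ 0 → ∃ m : M648, toS9 m 0 = 0 ∧ toS9 m 1 = a := by
  decide +kernel

lemma move3 : ∀ a : Fin 9, bk a ≠ 0 →
    ∃ m : M648, toS9 m 0 = 0 ∧ toS9 m 1 = 1 ∧ toS9 m 3 = a := by
  decide +kernel

lemma move4 : ∀ a : Fin 9, bk a = 1 → a ≠ 3 →
    ∃ m : M648, toS9 m 0 = 0 ∧ toS9 m 1 = 1 ∧ toS9 m 3 = 3 ∧ toS9 m 4 = a := by
  decide +kernel

lemma move6 : ∀ a : Fin 9, bk a = 2 →
    ∃ m : M648, toS9 m 0 = 0 ∧ toS9 m 1 = 1 ∧ toS9 m 3 = 3 ∧ toS9 m 4 = 4 ∧ toS9 m 6 = a := by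
  decide +kernel

lemma third : (∀ a : Fin 9, bk a = 0 → a ≠ 0 → a ≠ 1 → a = 2) ∧
    (∀ a : Fin 9, bk a = 1 → a ≠ 3 → a ≠ 4 → a = 5) ∧
    (∀ a : Fin 9, bk a = 2 → a ≠ 6 → a = 7 ∨ a = 8) ∧
    bk 0 = bk 1 ∧ bk 0 = bk 2 ∧ bk 3 = bk 4 ∧ bk 3 = bk 5 ∧ bk 6 = bk 7 ∧ bk 6 = bk 8 ∧
    bk 0 ≠ bk 3 ∧ bk 0 ≠ bk 6 ∧ bk 3 ≠ bk 6 := by
  decide +kernel

lemma rest : ∀ x : Fin 3, x ≠ 0 → x ≠ 1 → x = 2 := by decide

lemma fixed_eq_one {p : P9} (hp : p ∈ H9) (h0 : p 0 = 0) (h1 : p 1 = 1) (h3 : p 3 = 3)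
    (h4 : p 4 = 4) (h6 : p 6 = 6) : p = 1 := by
  obtain ⟨t0, t1, t2, b01, b02, b34, b35, b67, b68, -, -, -⟩ := third
  obtain ⟨hs, hb⟩ := hp
  have b2 : bk (p 2) = 0 := by rw [← (hb 0 2).mp b02, h0]; rfl
  have b5 : bk (p 5) = 1 := by rw [← (hb 3 5).mp b35, h3]; rfl
  have b7 : bk (p 7) = 2 := by rw [← (hb 6 7).mp b67, h6]; rfl
  have b8 : bk (p 8) = 2 := by rw [← (hb 6 8).mp b68, h6]; rfl
  have ne : ∀ {i j : Fin 9}, i ≠ j → p i ≠ p j := fun h e => h (p.injective e)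
  have h2 : p 2 = 2 := t0 _ b2 (h0 ▸ ne (by decide)) (h1 ▸ ne (by decide))
  have h5 : p 5 = 5 := t1 _ b5 (h3 ▸ ne (by decide)) (h4 ▸ ne (by decide))
  rcases t2 _ b7 (h6 ▸ ne (by decide)) with h7 | h7 <;>
    rcases t2 _ b8 (h6 ▸ ne (by decide)) with h8 | h8
  · exact absurd (h7.trans h8.symm) (ne (by decide))
  · ext i
    fin_cases i <;> simp [h0, h1, h2, h3, h4, h5, h6, h7, h8]
  · have : p = Equiv.swap 7 8 := by
      ext i
      fin_cases i <;> simp [h0, h1, h2, h3, h4, h5, h6, h7, h8, Equiv.swap_apply_def]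
    rw [this, Equiv.Perm.sign_swap (by decide)] at hs
    exact absurd hs (by decide)
  · exact absurd (h7.trans h8.symm) (ne (by decide))

lemma H9_le : H9 ≤ toS9.range := by
  intro p hp
  have mem : ∀ m : M648, (toS9 m)⁻¹ ∈ H9 := fun m => inv_mem (toS9_mem m)
  obtain ⟨a, ha⟩ := move0 (p 0)
  have q0 : ((toS9 a)⁻¹ * p) 0 = 0 := by simp [Equiv.Perm.mul_apply, ← ha]
  have qm := mul_mem (mem a) hp
  obtain ⟨b, hb0, hb⟩ := move1 (((toS9 a)⁻¹ * p) 1)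
    (by rw [← (qm.2 0 1).mp third.2.2.2.1, q0]; rfl)
    (fun h => absurd (Equiv.injective _ (h.trans q0.symm)) (by decide))
  set q := (toS9 b)⁻¹ * ((toS9 a)⁻¹ * p) with hq
  have rm : q ∈ H9 := mul_mem (mem b) qm
  have r0 : q 0 = 0 := by rw [hq, Equiv.Perm.mul_apply, q0]; exact Equiv.Perm.inv_eq_iff_eq.mpr hb0.symm
  have r1 : q 1 = 1 := by rw [hq, Equiv.Perm.mul_apply]; exact Equiv.Perm.inv_eq_iff_eq.mpr hb.symm
  obtain ⟨t0, t1, t2, b01, b02, b34, b35, b67, b68, n03, n06, n36⟩ := third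
  obtain ⟨c, hc0, hc1, hc⟩ := move3 (q 3) (fun h => n03 ((rm.2 0 3).mpr (by rw [r0, h]; rfl)))
  set r := (toS9 c)⁻¹ * q with hr
  have sm : r ∈ H9 := mul_mem (mem c) rm
  have s0 : r 0 = 0 := by rw [hr, Equiv.Perm.mul_apply, r0]; exact Equiv.Perm.inv_eq_iff_eq.mpr hc0.symm
  have s1 : r 1 = 1 := by rw [hr, Equiv.Perm.mul_apply, r1]; exact Equiv.Perm.inv_eq_iff_eq.mpr hc1.symm
  have s3 : r 3 = 3 := by rw [hr, Equiv.Perm.mul_apply]; exact Equiv.Perm.inv_eq_iff_eq.mpr hc.symm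
  obtain ⟨d, hd0, hd1, hd3, hd⟩ := move4 (r 4) (by rw [← (sm.2 3 4).mp b34, s3]; rfl)
    (fun h => absurd (r.injective (h.trans s3.symm)) (by decide))
  set s := (toS9 d)⁻¹ * r with hs
  have um : s ∈ H9 := mul_mem (mem d) sm
  have u0 : s 0 = 0 := by rw [hs, Equiv.Perm.mul_apply, s0]; exact Equiv.Perm.inv_eq_iff_eq.mpr hd0.symm
  have u1 : s 1 = 1 := by rw [hs, Equiv.Perm.mul_apply, s1]; exact Equiv.Perm.inv_eq_iff_eq.mpr hd1.symm
  have u3 : s 3 = 3 := by rw [hs, Equiv.Perm.mul_apply, s3]; exact Equiv.Perm.inv_eq_iff_eq.mpr hd3.symm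
  have u4 : s 4 = 4 := by rw [hs, Equiv.Perm.mul_apply]; exact Equiv.Perm.inv_eq_iff_eq.mpr hd.symm
  obtain ⟨f, hf0, hf1, hf3, hf4, hf⟩ := move6 (s 6) (rest _
    (fun h => n06 ((um.2 0 6).mpr (by rw [u0, h]; rfl)))
    (fun h => n36 ((um.2 3 6).mpr (by rw [u3, h]; rfl))))
  have e := fixed_eq_one (mul_mem (mem f) um)
    (by rw [Equiv.Perm.mul_apply, u0]; exact Equiv.Perm.inv_eq_iff_eq.mpr hf0.symm)
    (by rw [Equiv.Perm.mul_apply, u1]; exact Equiv.Perm.inv_eq_iff_eq.mpr hf1.symm)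
    (by rw [Equiv.Perm.mul_apply, u3]; exact Equiv.Perm.inv_eq_iff_eq.mpr hf3.symm)
    (by rw [Equiv.Perm.mul_apply, u4]; exact Equiv.Perm.inv_eq_iff_eq.mpr hf4.symm)
    (by rw [Equiv.Perm.mul_apply]; exact Equiv.Perm.inv_eq_iff_eq.mpr hf.symm)
  refine ⟨a * b * c * d * f, ?_⟩
  rw [hs, hr, hq] at e
  rw [map_mul, map_mul, map_mul, map_mul]
  rw [inv_mul_eq_one, eq_inv_mul_iff_mul_eq, eq_inv_mul_iff_mul_eq, eq_inv_mul_iff_mul_eq,
    eq_inv_mul_iff_mul_eq] at e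
  rw [← e]
  simp [mul_assoc]

lemma toS9_range : toS9.range = H9 :=
  le_antisymm (by rintro _ ⟨m, rfl⟩; exact toS9_mem m) H9_le

/-- The model is the group `H9`. -/
noncomputable def mEquiv : M648 ≃* H9 :=
  (MonoidHom.ofInjective toS9_injective).trans (MulEquiv.subgroupCongr toS9_range)

lemma mEquiv_coe (m : M648) : (mEquiv m : P9) = toS9 m := rfl

lemma tr_E : toS9 (tr 1 0 0) = e 0 ∧ toS9 (tr 1 1 0) = e 0 * e 1 ∧
    toS9 (tr 1 1 1) = e 0 * e 1 * e 2 := by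
  decide +kernel

lemma reps : ∀ m : M648, m.s = 0 → m ≠ 1 →
    cls m = cls (tr 1 0 0) ∨ cls m = cls (tr 1 1 0) ∨ cls m = cls (tr 1 1 1) := by
  decide +kernel

variable {G : Type*} [Group G]

lemma cent_conj {N : Subgroup G} {a g : G} (hg : g ∈ N)
    (h : Subgroup.centralizer ({a} : Set G) ≤ N) :
    Subgroup.centralizer ({g * a * g⁻¹} : Set G) ≤ N := fun c hc => by
  rw [Subgroup.mem_centralizer_singleton_iff] at hc
  have h1 : g⁻¹ * c * g ∈ N := h (Subgroup.mem_centralizer_singleton_iff.mpr (by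
    calc g⁻¹ * c * g * a = g⁻¹ * (c * (g * a * g⁻¹)) * g := by group
      _ = g⁻¹ * (g * a * g⁻¹ * c) * g := by rw [hc]
      _ = a * (g⁻¹ * c * g) := by group))
  simpa [mul_assoc] using mul_mem (mul_mem hg h1) (inv_mem hg)

/-- The branch without alternating centralisers. -/
theorem normalizer_eq_top [Finite G] {J : Subgroup G} {φ : H9 →* G} (L : Loc J φ)
    (he : Subgroup.centralizer ({φ (E 0)} : Set G) ≤ Subgroup.normalizer (J : Set G)) :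
    Subgroup.normalizer (J : Set G) = ⊤ := by
  have hr : φ.range = Subgroup.normalizer (J : Set G) := L.range_eq
  let f : M648 ≃* φ.range := mEquiv.trans (MonoidHom.ofInjective L.inj)
  rw [← hr]
  refine A9Local49.eq_top_of_local φ.range f fun m hm h1 => ?_
  have hf : ∀ n, (f n : G) = φ (mEquiv n) := fun n => rfl
  have hE : ∀ {n : M648} {h : H9}, toS9 n = (h : P9) → φ (mEquiv n) = φ h := fun hn =>
    congrArg φ (Subtype.ext ((mEquiv_coe _).trans hn))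
  have key : ∀ n : M648, n.s = 0 → cls m = cls n →
      Subgroup.centralizer ({(f n : G)} : Set G) ≤ φ.range →
      Subgroup.centralizer ({(f m : G)} : Set G) ≤ φ.range := by
    intro n hn hc hn'
    obtain ⟨s, hs⟩ := trans_class (n.a, n.b, n.c) (m.a, m.b, m.c)
      (by rw [trans_eq n hn, trans_eq m hm]; exact hc.symm)
    have h := lift_conj s (n.a, n.b, n.c)
    rw [hs, trans_eq n hn, trans_eq m hm] at h
    rw [← h]
    simp only [map_mul, map_inv, Subgroup.coe_mul, Subgroup.coe_inv]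
    exact cent_conj (f (lift s)).2 hn'
  rcases reps m hm h1 with h | h | h
  · refine key _ rfl h ?_
    rw [hf, hE (h := E 0) tr_E.1, hr]
    exact he
  · refine key _ rfl h ?_
    rw [hf, hE (h := E 0 * E 1) tr_E.2.1, hr]
    exact L.cw
  · refine key _ rfl h ?_
    rw [hf, hE (h := E 0 * E 1 * E 2) tr_E.2.2, hr]
    exact L.cx

end Cfsg.Agent.A9LocalBridge49
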