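import Mathlib
import Cfsg.Agent.Lib.A9LocalBridge49

/-!
The normaliser of the base of three disjoint three-cycles in the alternating group is `H9`.
-/

set_option autoImplicit false
set_option maxRecDepth 100000

namespace Cfsg.Agent.A9Coord38

open Equiv Cfsg.Agent.A9Base59 Cfsg.Agent.A9LocalBridge49 Cfsg.Agent.Model648 Cfsg.Agent.Group648

theorem e_bk : ∀ k i, bk (e k i) = bk i := by decide +kernel

theorem e_sep : ∀ i j, bk i = bk j → i = j ∨ e (bk i) i = j ∨ e (bk i) (e (bk i) i) = j := by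
  decide +kernel

theorem e_conj : ∀ (m : M648) (k : Fin 3),
    ∃ l, toS9 m * e k * (toS9 m)⁻¹ = e l ∨ toS9 m * e k * (toS9 m)⁻¹ = e l * e l := by
  decide +kernel

theorem conj_mem {p : P9} (hp : p ∈ H9) (k : Fin 3) :
    p * e k * p⁻¹ ∈ Subgroup.closure (Set.range e) := by
  rw [← toS9_range] at hp
  obtain ⟨m, rfl⟩ := hp
  have he : ∀ l, e l ∈ Subgroup.closure (Set.range e) := fun l => Subgroup.subset_closure ⟨l, rfl⟩
  obtain ⟨l, h | h⟩ := e_conj m k <;> rw [h]
  · exact he l
  · exact mul_mem (he l) (he l)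

theorem bk_of_mem {σ : P9} (h : σ ∈ Subgroup.closure (Set.range e)) (i : Fin 9) :
    bk (σ i) = bk i := by
  induction h using Subgroup.closure_induction generalizing i with
  | mem x hx => obtain ⟨k, rfl⟩ := hx; exact e_bk k i
  | one => rfl
  | mul x y _ _ hx hy => exact (hx (y i)).trans (hy i)
  | inv x _ hx => simpa using (hx (x⁻¹ i)).symm

theorem exists_move {i j : Fin 9} (h : bk i = bk j) :
    ∃ σ ∈ Subgroup.closure (Set.range e), σ i = j := by
  have he : ∀ l, e l ∈ Subgroup.closure (Set.range e) := fun l => Subgroup.subset_closure ⟨l, rfl⟩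
  rcases e_sep i j h with h' | h' | h'
  · exact ⟨1, one_mem _, h'⟩
  · exact ⟨_, he _, h'⟩
  · exact ⟨_, mul_mem (he _) (he _), h'⟩

/-- The model of the statement is `H9`. -/
theorem model_eq (J₀ : Subgroup P9) (hJ₀ : J₀ = Subgroup.closure {swap (0 : Fin 9) 1 * swap 1 2,
    swap (3 : Fin 9) 4 * swap 4 5, swap (6 : Fin 9) 7 * swap 7 8}) :
    alternatingGroup (Fin 9) ⊓ Subgroup.normalizer (J₀ : Set P9) = H9 := by
  have hr : J₀ = Subgroup.closure (Set.range e) := by
    rw [hJ₀]
    congr 1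
    ext x
    simp [e, Fin.exists_fin_succ, eq_comm, or_comm, or_left_comm, or_assoc]
  subst hr
  ext p
  constructor
  · rintro ⟨hs, hn⟩
    have hn' := Subgroup.mem_normalizer_iff.1 hn
    refine ⟨Perm.mem_alternatingGroup.1 hs, fun i j => ⟨fun h => ?_, fun h => ?_⟩⟩
    · obtain ⟨σ, hσ, rfl⟩ := exists_move h
      have := bk_of_mem ((hn' σ).1 hσ) (p i)
      simpa using this.symm
    · obtain ⟨σ, hσ, hσ'⟩ := exists_move h
      have h1 : p⁻¹ * σ * p ∈ Subgroup.closure (Set.range e) :=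
        (hn' _).2 (by simpa [mul_assoc] using hσ)
      have := bk_of_mem h1 i
      simpa [hσ'] using this.symm
  · intro hp
    refine ⟨Perm.mem_alternatingGroup.2 hp.1, ?_⟩
    have key : ∀ q ∈ H9, ∀ σ ∈ Subgroup.closure (Set.range e),
        q * σ * q⁻¹ ∈ Subgroup.closure (Set.range e) := by
      intro q hq σ hσ
      induction hσ using Subgroup.closure_induction with
      | mem x hx => obtain ⟨k, rfl⟩ := hx; exact conj_mem hq k
      | one => simp
      | mul x y _ _ hx hy => simpa [mul_assoc] using mul_mem hx hy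
      | inv x _ hx => simpa [mul_assoc] using inv_mem hx
    show p ∈ Subgroup.normalizer ((Subgroup.closure (Set.range e) : Subgroup P9) : Set P9)
    rw [Subgroup.mem_normalizer_iff]
    refine fun σ => ⟨key p hp σ, fun h => ?_⟩
    simpa [mul_assoc] using key _ (inv_mem hp) _ h

theorem outer_noncomm : ∀ m : M648, m ^ 3 = 1 → m.s ≠ 0 →
    ∃ g : M648, g * m * g⁻¹ * m ≠ m * (g * m * g⁻¹) := by
  decide +kernel

theorem tr_coords : ∀ a b c : ZMod 3,
    toS9 (tr a b c) = e 0 ^ a.val * e 1 ^ b.val * e 2 ^ c.val := by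
  decide +kernel

/-- The base is the only normal elementary subgroup of order 27 of the normaliser. -/
theorem base_eq {G : Type*} [Group G] [Finite G] {J : Subgroup G} {φ : H9 →* G}
    (hinj : Function.Injective φ) (hr : φ.range = Subgroup.normalizer (J : Set G))
    (hcomm : ∀ a ∈ J, ∀ b ∈ J, a * b = b * a) (hexp : ∀ a ∈ J, a ^ 3 = 1)
    (hcard : Nat.card J = 27) : J = Subgroup.closure {φ (E 0), φ (E 1), φ (E 2)} := by
  classical
  set B := Subgroup.closure {φ (E 0), φ (E 1), φ (E 2)} with hB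
  have hE : ∀ k : Fin 3, φ (E k) ∈ B := fun k => Subgroup.subset_closure (by fin_cases k <;> simp)
  have sub : ∀ x ∈ J, ∃ a b c : ZMod 3, x = φ (E 0 ^ a.val * E 1 ^ b.val * E 2 ^ c.val) := by
    intro x hx
    obtain ⟨h, rfl⟩ : x ∈ φ.range := hr ▸ Subgroup.le_normalizer hx
    obtain ⟨m, rfl⟩ := mEquiv.surjective h
    have hm3 : m ^ 3 = 1 := mEquiv.injective (hinj (by
      rw [map_pow, map_pow, map_one, map_one]; exact hexp _ hx))
    by_cases hs : m.s = 0
    · refine ⟨m.a, m.b, m.c, congrArg φ (Subtype.ext ?_)⟩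
      have he : m = tr m.a m.b m.c := by ext <;> simp [tr, hs]
      rw [mEquiv_coe]
      conv_lhs => rw [he, tr_coords]
      rfl
    · obtain ⟨g, hg⟩ := outer_noncomm m hm3 hs
      have hgn : φ (mEquiv g) ∈ Subgroup.normalizer (J : Set G) := hr ▸ ⟨_, rfl⟩
      have h1 := hcomm _ ((Subgroup.mem_normalizer_iff.1 hgn _).1 hx) _ hx
      simp only [← map_mul, ← map_inv] at h1
      exact absurd (mEquiv.injective (hinj h1)) hg
  have hle : J ≤ B := fun x hx => by
    obtain ⟨a, b, c, rfl⟩ := sub x hx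
    simp only [map_mul, map_pow]
    exact mul_mem (mul_mem (pow_mem (hE 0) _) (pow_mem (hE 1) _)) (pow_mem (hE 2) _)
  let T : ZMod 3 × ZMod 3 × ZMod 3 → G := fun t =>
    φ (E 0 ^ t.1.val * E 1 ^ t.2.1.val * E 2 ^ t.2.2.val)
  have hJ : (J : Set G) ⊆ Set.range T := fun x hx => by
    obtain ⟨a, b, c, rfl⟩ := sub x hx
    exact ⟨(a, b, c), rfl⟩
  have heq : (J : Set G) = Set.range T := Set.eq_of_subset_of_ncard_le hJ (by
    have h1 : (Set.range T).ncard ≤ (Set.univ : Set (ZMod 3 × ZMod 3 × ZMod 3)).ncard := by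
      rw [← Set.image_univ]; exact Set.ncard_image_le
    rw [Set.ncard_univ, Nat.card_eq_fintype_card] at h1
    rw [show (J : Set G).ncard = 27 from hcard]
    exact h1.trans_eq rfl) (Set.toFinite _)
  have mem : ∀ t, T t ∈ J := fun t => by
    show T t ∈ (J : Set G)
    rw [heq]; exact ⟨t, rfl⟩
  refine le_antisymm hle ((Subgroup.closure_le J).2 ?_)
  rintro x (rfl | rfl | rfl)
  · simpa [T, ZMod.val_one] using mem (1, 0, 0)
  · simpa [T, ZMod.val_one] using mem (0, 1, 0)
  · simpa [T, ZMod.val_one] using mem (0, 0, 1)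

end Cfsg.Agent.A9Coord38
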