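import Cfsg.Agent.Lib.A9End52Cent

/-!
S3339, alternating branch: the copy of the alternating group of degree nine is the whole group.
-/

set_option autoImplicit false

namespace Cfsg.Agent.A9End52

open Equiv Cfsg.Agent.A9Base59 Cfsg.Agent.A9CentQ67

universe u

variable {G : Type u} [Group G] [Finite G] {J : Subgroup G} {φ : H9 →* G}
  {ι : ∀ k : Fin 3, N9 k →* G} {ψ : alternatingGroup (Fin 9) →* G}

theorem Setting.cent_inv (S : Setting J φ ι ψ) {σ : P9} (hs : Perm.sign σ = 1)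
    (h : orderOf σ = 2) : Subgroup.centralizer ({im ψ σ} : Set G) ≤ ψ.range := by
  have hv := S.cent_v
  obtain ⟨π, hπ, e | e⟩ := exists_inv_rep hs h
  · refine transfer hπ v_mem.1 ?_ e
    rwa [S.im_H v_mem]
  · refine transfer hπ q_mem.1 ?_ e
    rw [S.im_H q_mem]
    exact cent_q S.loc S.br S.nine hv

theorem Setting.surjective (S : Setting J φ ι ψ) (g : G) : g ∈ ψ.range := by
  have hv : Perm.sign v = 1 := v_mem.1
  have hq : Perm.sign q = 1 := q_mem.1
  set a := im ψ v with ha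
  set b := g * im ψ q * g⁻¹ with hb
  have ha2 : orderOf a = 2 := (S.orderOf_im hv).trans orderOf_v
  have hb2 : orderOf b = 2 := by rw [hb, S9End37.oconj, S.orderOf_im hq, orderOf_q]
  have hne : ∀ c ∈ (⊤ : Subgroup G), c * a * c⁻¹ ≠ b := by
    intro c _ he
    have e : g⁻¹ * c * im ψ v * (g⁻¹ * c)⁻¹ = im ψ q := by
      calc g⁻¹ * c * im ψ v * (g⁻¹ * c)⁻¹ = g⁻¹ * (c * a * c⁻¹) * g := by rw [ha]; group
        _ = im ψ q := by rw [he, hb]; group
    have := S.sz_eq_of_conj hv hq orderOf_v e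
    rw [inv_rep_facts.2.2.1, inv_rep_facts.2.2.2.1] at this
    norm_num at this
  obtain ⟨j, -, hj2, hja, hjb, -⟩ :=
    S9End37.exists_central (Subgroup.mem_top a) (Subgroup.mem_top b) ha2 hb2 hne
  obtain ⟨ρ, hρs, hρ⟩ := exists_im (S.cent_inv hv orderOf_v
    (Subgroup.mem_centralizer_singleton_iff.2 (ha ▸ hja.eq)))
  have hρ2 : orderOf ρ = 2 := by rw [← S.orderOf_im hρs, hρ, hj2]
  have hbR : b ∈ ψ.range := S.cent_inv hρs hρ2
    (Subgroup.mem_centralizer_singleton_iff.2 (hρ.symm ▸ hjb.eq.symm))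
  exact S.mem_of_conj hq orderOf_q (S.cent_inv hq orderOf_q) hbR

/-- The endgame. -/
theorem bijective_of_nine {G : Type*} [Group G] [Finite G] {J : Subgroup G} {phi : H9 →* G}
    {iota : ∀ k : Fin 3, N9 k →* G} {psi : alternatingGroup (Fin 9) →* G} (L : Loc J phi)
    (B : Branch phi iota) (N : Nine phi iota psi) : Function.Bijective psi :=
  ⟨N.inj, fun g => (⟨L, B, N⟩ : Setting J phi iota psi).surjective g⟩

end Cfsg.Agent.A9End52
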