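import Cfsg.Agent.Lib.S9End52Perm

/-!
Fusion in the endgame of S3343.
-/

set_option autoImplicit false

namespace Cfsg.Agent.S9End37

open Equiv Cfsg.Agent.S9Model37

variable {G : Type*} [Group G] [Finite G] {J : Subgroup G} {φ : W →* G} {ψ : P9 →* G}

theorem oconj {H : Type*} [Group H] (g x : H) : orderOf (g * x * g⁻¹) = orderOf x :=
  orderOf_injective (MulAut.conj g).toMonoidHom (MulAut.conj g).injective x

/-- The centraliser of the image of `s` lies in the copy of the symmetric group. -/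
def Good (ψ : P9 →* G) (s : Set P9) : Prop :=
  ∀ g : G, (∀ σ ∈ s, g * ψ σ = ψ σ * g) → g ∈ ψ.range

omit [Finite G] in
/-- Goodness is inherited from a conjugate. -/
theorem Good.transfer {s t : Set P9} (h : Good ψ s) (π : P9)
    (hst : ∀ σ ∈ s, π * σ * π⁻¹ ∈ Subgroup.closure t) : Good ψ t := by
  intro g hg
  have hle : Subgroup.closure t ≤
      (Subgroup.centralizer ({g} : Set G)).comap ψ := by
    rw [Subgroup.closure_le]
    intro σ hσ
    simp only [Subgroup.coe_comap, Set.mem_preimage, SetLike.mem_coe,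
      Subgroup.mem_centralizer_singleton_iff]
    exact (hg σ hσ).symm
  have h1 : (ψ π)⁻¹ * g * ψ π ∈ ψ.range := h _ fun σ hσ => by
    have h2 : ψ (π * σ * π⁻¹) * g = g * ψ (π * σ * π⁻¹) :=
      Subgroup.mem_centralizer_singleton_iff.1 (Subgroup.mem_comap.1 (hle (hst σ hσ)))
    simp only [map_mul, map_inv] at h2
    calc (ψ π)⁻¹ * g * ψ π * ψ σ = (ψ π)⁻¹ * (g * (ψ π * ψ σ * (ψ π)⁻¹)) * ψ π := by group
      _ = (ψ π)⁻¹ * (ψ π * ψ σ * (ψ π)⁻¹ * g) * ψ π := by rw [h2]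
      _ = ψ σ * ((ψ π)⁻¹ * g * ψ π) := by group
  have hπ : ψ π ∈ ψ.range := ⟨π, rfl⟩
  have := mul_mem (mul_mem hπ h1) (inv_mem hπ)
  rwa [show ψ π * ((ψ π)⁻¹ * g * ψ π) * (ψ π)⁻¹ = g by group] at this

/-- Involutions with support of size `k` have their centralisers in the copy. -/
def GoodK (ψ : P9 →* G) (k : ℕ) : Prop :=
  ∀ σ : P9, orderOf σ = 2 → sz σ = k → Good ψ {σ}

omit [Finite G] in
theorem goodK_of_rep {ρ : P9} (hρ : orderOf ρ = 2) (h : Good ψ {ρ}) {k : ℕ} (hk : sz ρ = k) :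
    GoodK ψ k := by
  intro σ hσ hs
  obtain ⟨π, hπ⟩ := conj_of_sz hρ hσ (hk.trans hs.symm)
  refine h.transfer π fun τ hτ => ?_
  rw [Set.mem_singleton_iff] at hτ
  subst hτ
  rw [hπ]
  exact Subgroup.subset_closure rfl

/-- The standing hypotheses. -/
structure Setting (J : Subgroup G) (φ : W →* G) (ψ : P9 →* G) : Prop where
  full : Full J φ
  nine : Nine J φ ψ

namespace Setting

variable (S : Setting J φ ψ)

include S

omit [Finite G] in
theorem good_three {σ : P9} (hσ : orderOf σ = 3) : Good ψ {σ} := fun g hg =>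
  S.nine.three σ hσ (Subgroup.mem_centralizer_singleton_iff.2 (hg σ rfl))

omit [Finite G] in
theorem good_tri : Good ψ {swap 0 1, swap 3 4, swap 6 7} := fun g hg =>
  S.nine.tri (Subgroup.mem_centralizer_iff.2 (by
    intro y hy
    rcases hy with rfl | rfl | rfl <;> exact (hg _ (by simp)).symm))

omit [Finite G] in
theorem map_base : base.map ψ = J := by
  rw [S.full.base, base, MonoidHom.map_closure, Set.image_insert_eq, Set.image_pair,
    show c1 = ((C1 : W) : P9) from rfl, show c2 = ((C2 : W) : P9) from rfl,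
    show c3 = ((C3 : W) : P9) from rfl, S.nine.ext, S.nine.ext, S.nine.ext]

omit [Finite G] in
theorem normalizer_le : Subgroup.normalizer (J : Set G) ≤ ψ.range := by
  rw [← S.full.range_eq]
  rintro _ ⟨w, rfl⟩
  exact ⟨w, S.nine.ext w⟩

omit [Finite G] in
theorem orderOf_map (σ : P9) : orderOf (ψ σ) = orderOf σ :=
  orderOf_injective ψ S.nine.inj σ

/-- An element moving an element of order three of the copy into the copy lies in the copy. -/
theorem mem_of_conj_three {x : G} (hx : x ∈ ψ.range) (h3 : orderOf x = 3) {g : G}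
    (hg : g * x * g⁻¹ ∈ ψ.range) : g ∈ ψ.range := by
  obtain ⟨σ, rfl⟩ := hx
  obtain ⟨σ', hσ'⟩ := hg
  have h3' : orderOf σ = 3 := (S.orderOf_map σ).symm.trans h3
  have h3'' : orderOf σ' = 3 := by
    rw [← S.orderOf_map, hσ', oconj, h3]
  have hp : Fact (Nat.Prime 3) := ⟨by norm_num⟩
  obtain ⟨π, hπ⟩ := exists_conj_le_P0 (A := Subgroup.zpowers σ)
    (IsPGroup.of_card (n := 1) (by rw [Nat.card_zpowers, h3', pow_one]))
  obtain ⟨z, hz⟩ : ∃ z : P9, z = c1 * c2 * c3 := ⟨_, rfl⟩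
  have hzb : z ∈ base := mem_base.2 ⟨1, 1, 1, by simp [hz, q3]⟩
  have hzσ : π * σ * π⁻¹ * z = z * (π * σ * π⁻¹) :=
    hz ▸ centre_eq (hπ σ (Subgroup.mem_zpowers σ))
  -- the conjugate of `z` lands in the copy
  set g' : G := g * (ψ π)⁻¹ with hg'
  have hz' : g' * ψ z * g'⁻¹ ∈ ψ.range := by
    refine S.good_three h3'' _ fun τ hτ => ?_
    rw [Set.mem_singleton_iff] at hτ
    rw [hτ]
    have e : ψ σ' = g' * ψ (π * σ * π⁻¹) * g'⁻¹ := by
      rw [hσ', hg']
      simp only [map_mul, map_inv]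
      group
    rw [e]
    calc g' * ψ z * g'⁻¹ * (g' * ψ (π * σ * π⁻¹) * g'⁻¹)
        = g' * ψ (z * (π * σ * π⁻¹)) * g'⁻¹ := by simp only [map_mul, map_inv]; group
      _ = g' * ψ (π * σ * π⁻¹ * z) * g'⁻¹ := by rw [hzσ]
      _ = g' * ψ (π * σ * π⁻¹) * g'⁻¹ * (g' * ψ z * g'⁻¹) := by simp only [map_mul, map_inv]; group
  obtain ⟨ζ, hζ⟩ := hz'
  have hζ3 : orderOf ζ = 3 := by
    rw [← S.orderOf_map, hζ, oconj, S.orderOf_map, hz, orderOf_eq_prime_iff]
    decide +kernel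
  have hJle : J.map (MulAut.conj g').toMonoidHom ≤ ψ.range := by
    rintro _ ⟨w, hw, rfl⟩
    rw [← S.map_base] at hw
    obtain ⟨b, hb, rfl⟩ := hw
    refine S.good_three hζ3 _ fun τ hτ => ?_
    rw [Set.mem_singleton_iff] at hτ
    subst hτ
    simp only [MulEquiv.coe_toMonoidHom, MulAut.conj_apply]
    rw [hζ]
    calc g' * ψ b * g'⁻¹ * (g' * ψ z * g'⁻¹) = g' * ψ (b * z) * g'⁻¹ := by rw [map_mul]; group
      _ = g' * ψ (z * b) * g'⁻¹ := by rw [base_comm b hb z hzb]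
      _ = g' * ψ z * g'⁻¹ * (g' * ψ b * g'⁻¹) := by rw [map_mul]; group
  set A : Subgroup P9 := (J.map (MulAut.conj g').toMonoidHom).comap ψ with hA
  have hAcard : Nat.card A = 27 := by
    rw [← Subgroup.card_map_of_injective (K := A) S.nine.inj, hA, Subgroup.map_comap_eq,
      inf_eq_right.2 hJle,
      Subgroup.card_map_of_injective (K := J) (MulAut.conj g').injective, ← S.map_base,
      Subgroup.card_map_of_injective (K := base) S.nine.inj, card_base]
  have hAcomm : ∀ x ∈ A, ∀ y ∈ A, x * y = y * x := by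
    rintro x ⟨u, hu, hux⟩ y ⟨w, hw, hwy⟩
    apply S.nine.inj
    rw [← S.map_base] at hu hw
    obtain ⟨u', hu', rfl⟩ := hu
    obtain ⟨w', hw', rfl⟩ := hw
    rw [map_mul ψ, map_mul ψ, ← hux, ← hwy]
    simp only [MulEquiv.coe_toMonoidHom, MulAut.conj_apply]
    calc g' * ψ u' * g'⁻¹ * (g' * ψ w' * g'⁻¹) = g' * ψ (u' * w') * g'⁻¹ := by
          rw [map_mul ψ]; group
      _ = g' * ψ (w' * u') * g'⁻¹ := by rw [base_comm u' hu' w' hw']
      _ = g' * ψ w' * g'⁻¹ * (g' * ψ u' * g'⁻¹) := by rw [map_mul ψ]; group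
  obtain ⟨π', hπ'⟩ := exists_conj_le_P0 (A := A) (IsPGroup.of_card (n := 3) (by rw [hAcard]; rfl))
  have hB : A.map (MulAut.conj π').toMonoidHom = base := by
    refine abelian_eq_base ?_ ?_ ?_
    · rintro _ ⟨x, hx, rfl⟩
      exact hπ' x hx
    · rintro _ ⟨x, hx, rfl⟩ _ ⟨y, hy, rfl⟩
      rw [← map_mul, hAcomm x hx y hy, map_mul]
    · rw [Subgroup.card_map_of_injective (MulAut.conj π').injective, hAcard]
  have hN : ψ π' * g' ∈ Subgroup.normalizer (J : Set G) := by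
    rw [Subgroup.mem_normalizer_iff]
    have key : J.map (MulAut.conj (ψ π' * g')).toMonoidHom = J := by
      have e1 : (MulAut.conj (ψ π' * g')).toMonoidHom =
          ((MulAut.conj (ψ π')).toMonoidHom).comp (MulAut.conj g').toMonoidHom := by
        ext y; simp
      have e2 : ψ.comp (MulAut.conj π').toMonoidHom =
          ((MulAut.conj (ψ π')).toMonoidHom).comp ψ := by
        ext y; simp
      have r : (A.map (MulAut.conj π').toMonoidHom).map ψ =
          (A.map ψ).map (MulAut.conj (ψ π')).toMonoidHom := by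
        rw [Subgroup.map_map, Subgroup.map_map, e2]
      conv_rhs =>
        rw [← S.map_base, ← hB, r, hA, Subgroup.map_comap_eq, inf_eq_right.2 hJle]
      rw [e1, ← Subgroup.map_map]
    intro h
    constructor
    · intro hh
      rw [← key]
      exact ⟨h, hh, by simp [mul_assoc]⟩
    · intro hh
      rw [← key] at hh
      obtain ⟨y, hy, e⟩ := hh
      simp only [MulEquiv.coe_toMonoidHom, MulAut.conj_apply, mul_left_inj, mul_right_inj] at e
      exact e ▸ hy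
  have h1 := mul_mem (inv_mem (⟨π', rfl⟩ : ψ π' ∈ ψ.range)) (S.normalizer_le hN)
  rw [inv_mul_cancel_left, hg'] at h1
  have h2 := mul_mem h1 (⟨π, rfl⟩ : ψ π ∈ ψ.range)
  rwa [inv_mul_cancel_right] at h2

/-- A 3-group meeting the copy in an element of order three lies in the copy. -/
theorem pGroup_le {R : Subgroup G} (hR : IsPGroup 3 R) {x : G} (hxR : x ∈ R) (hx : x ∈ ψ.range)
    (h3 : orderOf x = 3) : R ≤ ψ.range := by
  have hp : Fact (Nat.Prime 3) := ⟨by norm_num⟩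
  have : Nontrivial R := ⟨⟨⟨x, hxR⟩, 1, fun e => by
    have e' : x = 1 := congrArg Subtype.val e
    rw [e', orderOf_one] at h3
    norm_num at h3⟩⟩
  have hZ := hR.center_nontrivial
  have hd : 3 ∣ Nat.card (Subgroup.center R) := by
    obtain ⟨n, hn⟩ := (hR.to_subgroup (Subgroup.center R)).exists_card_eq
    have := Finite.one_lt_card (α := Subgroup.center R)
    rcases n with - | n
    · rw [hn, pow_zero] at this; exact absurd this (lt_irrefl 1)
    · exact hn ▸ dvd_pow_self 3 n.succ_ne_zero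
  obtain ⟨z, hz⟩ := exists_prime_orderOf_dvd_card' 3 hd
  have hzc : ∀ y ∈ R, y * ((z : R) : G) = ((z : R) : G) * y := fun y hy => by
    simpa using congrArg Subtype.val (Subgroup.mem_center_iff.1 z.2 ⟨y, hy⟩)
  obtain ⟨σ, rfl⟩ := hx
  obtain ⟨ζ, hζ⟩ := S.good_three ((S.orderOf_map σ).symm.trans h3) ((z : R) : G) fun τ hτ => by
    rw [Set.mem_singleton_iff] at hτ
    subst hτ
    exact (hzc _ hxR).symm
  have hζ3 : orderOf ζ = 3 := by
    rw [← S.orderOf_map, hζ, Subgroup.orderOf_coe, Subgroup.orderOf_coe, hz]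
  intro y hy
  refine S.good_three hζ3 y fun τ hτ => ?_
  rw [Set.mem_singleton_iff] at hτ
  subst hτ
  rw [hζ]
  exact hzc y hy

omit S in
/-- Every involution commutes with an element of order three. -/
theorem exists_three_commute {σ : P9} (hσ : orderOf σ = 2) :
    ∃ ρ : P9, orderOf ρ = 3 ∧ ρ * σ = σ * ρ := by
  have main : ∀ r ρ : P9, orderOf r = 2 → sz r = sz σ → orderOf ρ = 3 → ρ * r = r * ρ →
      ∃ ρ : P9, orderOf ρ = 3 ∧ ρ * σ = σ * ρ := by
    intro r ρ hr hs hρ hc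
    obtain ⟨π, hπ⟩ := conj_of_sz hr hσ hs
    refine ⟨π * ρ * π⁻¹, by rw [oconj, hρ], ?_⟩
    rw [← hπ]
    calc π * ρ * π⁻¹ * (π * r * π⁻¹) = π * (ρ * r) * π⁻¹ := by group
      _ = π * (r * ρ) * π⁻¹ := by rw [hc]
      _ = π * r * π⁻¹ * (π * ρ * π⁻¹) := by group
  have h3 : ∀ ρ : P9, ρ ^ 3 = 1 → ρ ≠ 1 → orderOf ρ = 3 := fun ρ h1 h2 =>
    haveI : Fact (Nat.Prime 3) := ⟨by norm_num⟩
    orderOf_eq_prime h1 h2
  have h2 : ∀ ρ : P9, ρ ^ 2 = 1 → ρ ≠ 1 → orderOf ρ = 2 := fun ρ h1 h2 =>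
    orderOf_eq_prime h1 h2
  rcases sz_inv hσ with h | h | h | h
  · exact main (swap 0 1) (swap 3 4 * swap 4 5) (h2 _ (by decide +kernel) (by decide +kernel))
      (by rw [h]; decide +kernel) (h3 _ (by decide +kernel) (by decide +kernel)) (by decide +kernel)
  · exact main (swap 0 1 * swap 2 3) (swap 4 5 * swap 5 6)
      (h2 _ (by decide +kernel) (by decide +kernel)) (by rw [h]; decide +kernel)
      (h3 _ (by decide +kernel) (by decide +kernel)) (by decide +kernel)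
  · exact main (swap 0 1 * swap 2 3 * swap 4 5) (swap 6 7 * swap 7 8)
      (h2 _ (by decide +kernel) (by decide +kernel)) (by rw [h]; decide +kernel)
      (h3 _ (by decide +kernel) (by decide +kernel)) (by decide +kernel)
  · exact main (swap 0 1 * swap 2 3 * swap 4 5 * swap 6 7)
      (swap 0 2 * swap 2 4 * (swap 1 3 * swap 3 5))
      (h2 _ (by decide +kernel) (by decide +kernel)) (by rw [h]; decide +kernel)
      (h3 _ (by decide +kernel) (by decide +kernel)) (by decide +kernel)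

/-- Fusion of involutions of the copy is controlled by the copy. -/
theorem fusion {σ σ' : P9} (hσ : orderOf σ = 2) {g : G} (hg : g * ψ σ * g⁻¹ = ψ σ') :
    ∃ π : P9, π * σ * π⁻¹ = σ' ∧ g * (ψ π)⁻¹ * ψ σ' = ψ σ' * (g * (ψ π)⁻¹) := by
  have hσ' : orderOf σ' = 2 := by rw [← S.orderOf_map, ← hg, oconj, S.orderOf_map, hσ]
  have hp : Fact (Nat.Prime 3) := ⟨by norm_num⟩
  obtain ⟨ρ, hρ, hρc⟩ := exists_three_commute hσ
  obtain ⟨ρ', hρ', hρc'⟩ := exists_three_commute hσ'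
  set C := Subgroup.centralizer ({ψ σ'} : Set G) with hC
  have m1 : g * ψ ρ * g⁻¹ ∈ C := by
    rw [hC, Subgroup.mem_centralizer_singleton_iff, ← hg]
    calc g * ψ ρ * g⁻¹ * (g * ψ σ * g⁻¹) = g * ψ (ρ * σ) * g⁻¹ := by rw [map_mul]; group
      _ = g * ψ (σ * ρ) * g⁻¹ := by rw [hρc]
      _ = g * ψ σ * g⁻¹ * (g * ψ ρ * g⁻¹) := by rw [map_mul]; group
  have m2 : ψ ρ' ∈ C := by
    rw [hC, Subgroup.mem_centralizer_singleton_iff, ← map_mul, hρc', map_mul]
  have o1 : orderOf (⟨_, m1⟩ : C) = 3 := by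
    rw [Subgroup.orderOf_mk, oconj, S.orderOf_map, hρ]
  have o2 : orderOf (⟨_, m2⟩ : C) = 3 := by rw [Subgroup.orderOf_mk, S.orderOf_map, hρ']
  have pz : ∀ c : C, orderOf c = 3 → IsPGroup 3 (Subgroup.zpowers c) := fun c hc =>
    IsPGroup.of_card (n := 1) (by rw [Nat.card_zpowers, hc, pow_one])
  obtain ⟨P₁, hP₁⟩ := (pz _ o1).exists_le_sylow
  obtain ⟨P₂, hP₂⟩ := (pz _ o2).exists_le_sylow
  obtain ⟨c, hc⟩ := MulAction.exists_smul_eq C P₁ P₂
  have hP₂le : (P₂ : Subgroup C).map C.subtype ≤ ψ.range :=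
    S.pGroup_le (P₂.isPGroup'.map _) (x := ψ ρ')
      ⟨⟨_, m2⟩, hP₂ (Subgroup.mem_zpowers _), rfl⟩ ⟨ρ', rfl⟩ (by rw [S.orderOf_map, hρ'])
  have hin : (c : G) * g ∈ ψ.range := by
    refine S.mem_of_conj_three ⟨ρ, rfl⟩ (by rw [S.orderOf_map, hρ]) (hP₂le ?_)
    refine ⟨c * ⟨_, m1⟩ * c⁻¹, ?_, by simp; group⟩
    rw [← hc, SetLike.mem_coe]
    exact Subgroup.mem_map.2 ⟨_, hP₁ (Subgroup.mem_zpowers _), rfl⟩
  obtain ⟨π, hπ⟩ := hin
  have hcσ : (c : G) * ψ σ' = ψ σ' * (c : G) := Subgroup.mem_centralizer_singleton_iff.1 c.2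
  refine ⟨π, S.nine.inj ?_, ?_⟩
  · rw [map_mul, map_mul, map_inv, hπ]
    calc (c : G) * g * ψ σ * ((c : G) * g)⁻¹ = (c : G) * (g * ψ σ * g⁻¹) * (c : G)⁻¹ := by group
      _ = ψ σ' := by rw [hg, hcσ, mul_inv_cancel_right]
  · rw [hπ, mul_inv_rev, ← mul_assoc, mul_inv_cancel, one_mul]
    exact (Commute.inv_left hcσ).eq

theorem sz_eq_of_conj {σ σ' : P9} (hσ : orderOf σ = 2) {g : G}
    (hg : g * ψ σ * g⁻¹ = ψ σ') : sz σ' = sz σ := by
  obtain ⟨π, rfl, -⟩ := S.fusion hσ hg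
  exact sz_conj π σ

/-- An element moving an involution with good centraliser into the copy lies in the copy. -/
theorem mem_of_conj {σ : P9} (hσ : orderOf σ = 2) {k : ℕ} (hk : sz σ = k) (hG : GoodK ψ k)
    {g : G} (hg : g * ψ σ * g⁻¹ ∈ ψ.range) : g ∈ ψ.range := by
  obtain ⟨σ', hσ'⟩ := hg
  obtain ⟨π, hπ, hc⟩ := S.fusion hσ hσ'.symm
  have h1 : g * (ψ π)⁻¹ ∈ ψ.range := by
    refine hG σ' ?_ ?_ _ fun τ hτ => ?_
    · rw [← hπ, oconj, hσ]
    · rw [← hπ, sz_conj, hk]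
    · rw [Set.mem_singleton_iff] at hτ
      subst hτ
      exact hc
  have h2 := mul_mem h1 (⟨π, rfl⟩ : ψ π ∈ ψ.range)
  rwa [inv_mul_cancel_right] at h2

end Setting

omit [Finite G] in
/-- Two non-conjugate involutions of `K` are centralised by an involution of the group they
generate, whose product with each of them is conjugate to one of them. -/
theorem exists_central [Finite G] {K : Subgroup G} {a b : G} (ha : a ∈ K) (hb : b ∈ K)
    (ha2 : orderOf a = 2) (hb2 : orderOf b = 2) (hne : ∀ g ∈ K, g * a * g⁻¹ ≠ b) :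
    ∃ j ∈ K, orderOf j = 2 ∧ Commute j a ∧ Commute j b ∧
      ∃ g ∈ K, j * b = g * a * g⁻¹ ∨ j * b = g * b * g⁻¹ := by
  have ea : a * a = 1 := by rw [← sq, ← ha2, pow_orderOf_eq_one]
  have eb : b * b = 1 := by rw [← sq, ← hb2, pow_orderOf_eq_one]
  have hai : a⁻¹ = a := inv_eq_of_mul_eq_one_right ea
  have hbi : b⁻¹ = b := inv_eq_of_mul_eq_one_right eb
  set u := a * b with hu
  have hau : a * u * a⁻¹ = u⁻¹ := by
    rw [hu, mul_inv_rev, hbi, hai, ← mul_assoc, ea, one_mul]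
  have hconj : ∀ n : ℕ, u ^ n * a = a * (u ^ n)⁻¹ := by
    intro n
    have h1 : (u⁻¹) ^ n = a * u ^ n * a⁻¹ := by rw [← hau, conj_pow]
    rw [← inv_pow, h1, hai, ← mul_assoc, ← mul_assoc, ea, one_mul]
  have huK : u ∈ K := mul_mem ha hb
  have hshift : ∀ n : ℕ, u ^ n * a * (u ^ n)⁻¹ = u ^ (2 * n) * a := by
    intro n
    rw [mul_assoc, ← hconj, ← mul_assoc, two_mul, pow_add]
  rcases Nat.even_or_odd (orderOf u) with ⟨m, hm⟩ | ⟨m, hm⟩
  · have hm0 : 0 < m := by have := orderOf_pos u; omega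
    have hj : orderOf (u ^ m) = 2 := by
      rw [orderOf_pow' _ (by omega : m ≠ 0), hm, Nat.gcd_eq_right ⟨2, by ring⟩, ← two_mul,
        Nat.mul_div_cancel _ hm0]
    have hji : (u ^ m)⁻¹ = u ^ m := inv_eq_of_mul_eq_one_right (by
      rw [← sq, ← hj, pow_orderOf_eq_one])
    have hja : Commute (u ^ m) a := by
      have := hconj m
      rwa [hji] at this
    have hju : Commute (u ^ m) u := Commute.pow_self u m
    have hb' : b = a * u := by rw [hu, ← mul_assoc, ea, one_mul]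
    refine ⟨u ^ m, pow_mem huK m, hj, hja, hb' ▸ hja.mul_right hju, ?_⟩
    have hjb : u ^ m * b = u ^ (m - 1) * a := by
      obtain ⟨k, rfl⟩ : ∃ k, m = k + 1 := ⟨m - 1, by omega⟩
      have : u * b = a := by rw [hu, mul_assoc, eb, mul_one]
      rw [pow_succ, mul_assoc, this, Nat.add_sub_cancel]
    rw [hjb]
    rcases Nat.even_or_odd (m - 1) with ⟨n, hn⟩ | ⟨n, hn⟩
    · exact ⟨u ^ n, pow_mem huK n, Or.inl (by rw [hshift, hn, two_mul])⟩
    · refine ⟨u ^ n * a, mul_mem (pow_mem huK n) ha, Or.inr ?_⟩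
      rw [hn]
      symm
      calc u ^ n * a * b * (u ^ n * a)⁻¹ = u ^ n * (a * b) * (a⁻¹ * (u ^ n)⁻¹) := by group
        _ = u ^ n * u * (u ^ n * a) := by rw [← hu, hai, ← hconj]
        _ = u ^ (2 * n + 1) * a := by
          rw [← mul_assoc, mul_assoc (u ^ n) u, ← pow_succ', ← pow_add]
          congr 2
          omega
  · exfalso
    refine hne (u ^ (m + 1))⁻¹ (inv_mem (pow_mem huK _)) ?_
    rw [inv_inv]
    have h1 : u ^ (2 * m + 1) = 1 := hm ▸ pow_orderOf_eq_one u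
    have h2 : (u ^ (m + 1))⁻¹ * a = a * u ^ (m + 1) := by
      have := hconj (m + 1)
      calc (u ^ (m + 1))⁻¹ * a = (u ^ (m + 1))⁻¹ * (a * (u ^ (m + 1))⁻¹) * u ^ (m + 1) := by group
        _ = a * u ^ (m + 1) := by rw [← this]; group
    rw [h2, mul_assoc, ← pow_add, show m + 1 + (m + 1) = 2 * m + 1 + 1 by omega, pow_succ, h1,
      one_mul, hu, ← mul_assoc, ea, one_mul]

end Cfsg.Agent.S9End37
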