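import Cfsg.Agent.Lib.A9CentQ67
import Cfsg.Agent.Lib.S9End52Fus

/-!
S3339, alternating branch: centralisers of elements of order three and fusion of involutions of
the copy of the alternating group of degree nine.
-/

set_option autoImplicit false

namespace Cfsg.Agent.A9End52

open Equiv Cfsg.Agent.A9Base59 Cfsg.Agent.A9CentQ67
open Cfsg.Agent.S9Model37 (c1 c2 c3 rot base)
open Cfsg.Agent.S9End37 (P0 q3 mem_base base_comm card_base centre_eq exists_conj_le_P0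
  abelian_eq_base oconj sz sz_conj sz_inv conj_of_sz)

theorem sign_cj {π σ : P9} : Perm.sign (π * σ * π⁻¹) = Perm.sign σ := by
  simp [mul_right_comm]

/-- Replace a conjugating permutation by an even one. -/
theorem exists_even_conj {σ τ π o : P9} (h : π * σ * π⁻¹ = τ) (ho : o * σ = σ * o)
    (hs : Perm.sign o = -1) : ∃ π' : P9, Perm.sign π' = 1 ∧ π' * σ * π'⁻¹ = τ := by
  rcases Int.units_eq_one_or (Perm.sign π) with e | e
  · exact ⟨π, e, h⟩
  · refine ⟨π * o, by simp [e, hs], ?_⟩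
    calc π * o * σ * (π * o)⁻¹ = π * (o * σ) * o⁻¹ * π⁻¹ := by group
      _ = τ := by rw [ho, ← h]; group

theorem sign_eq_one_of_three {σ : P9} (h : orderOf σ = 3) : Perm.sign σ = 1 := by
  have h1 : σ ^ 3 = 1 := h ▸ pow_orderOf_eq_one σ
  have h2 := congrArg Perm.sign h1
  rw [map_pow, map_one] at h2
  rcases Int.units_eq_one_or (Perm.sign σ) with e | e
  · exact e
  · rw [e] at h2
    exact absurd h2 (by decide)

theorem odd_three : swap 3 4 * e 0 = e 0 * swap 3 4 ∧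
    swap 6 7 * (e 0 * e 1) = e 0 * e 1 * swap 6 7 ∧
    swap 0 3 * swap 1 4 * swap 2 5 * (e 0 * e 1 * e 2) =
      e 0 * e 1 * e 2 * (swap 0 3 * swap 1 4 * swap 2 5) := by
  decide +kernel

theorem three_orders : e 0 ^ 3 = 1 ∧ (e 0 * e 1) ^ 3 = 1 ∧ (e 0 * e 1 * e 2) ^ 3 = 1 ∧
    sz (e 0) = 3 ∧ sz (e 0 * e 1) = 6 ∧ sz (e 0 * e 1 * e 2) = 9 := by decide +kernel

theorem cycleType_three {σ : P9} (h : orderOf σ = 3) :
    ∃ n, σ.cycleType = Multiset.replicate n 3 ∧ sz σ = 3 * n := by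
  obtain ⟨n, hn⟩ := Perm.cycleType_prime_order (show (orderOf σ).Prime by rw [h]; norm_num)
  refine ⟨n + 1, by rw [hn, h], ?_⟩
  unfold sz
  rw [← Perm.sum_cycleType, hn, h, Multiset.sum_replicate, smul_eq_mul, mul_comm]

theorem exists_three_rep {σ : P9} (h : orderOf σ = 3) : ∃ π : P9, Perm.sign π = 1 ∧
    (π * e 0 * π⁻¹ = σ ∨ π * (e 0 * e 1) * π⁻¹ = σ ∨ π * (e 0 * e 1 * e 2) * π⁻¹ = σ) := by
  obtain ⟨o1, o2, o3⟩ := odd_three
  obtain ⟨p1, p2, p3, s1, s2, s3⟩ := three_orders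
  haveI : Fact (Nat.Prime 3) := ⟨by norm_num⟩
  have conj : ∀ ρ : P9, ρ ^ 3 = 1 → sz ρ = sz σ → ρ ≠ 1 → ∃ π, π * ρ * π⁻¹ = σ := by
    intro ρ h1 h2 h3
    obtain ⟨n, hn, hn'⟩ := cycleType_three h
    obtain ⟨m, hm, hm'⟩ := cycleType_three (orderOf_eq_prime h1 h3)
    rw [← isConj_iff, Perm.isConj_iff_cycleType_eq, hn, hm, show m = n by omega]
  obtain ⟨n, hn, hn'⟩ := cycleType_three h
  have h9 : sz σ ≤ 9 := (Finset.card_le_univ _).trans (by simp)
  have h0 : sz σ ≠ 0 := fun hh => by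
    rw [S9End37.sz_eq_zero.1 hh, orderOf_one] at h
    norm_num at h
  rcases (by omega : n = 1 ∨ n = 2 ∨ n = 3) with rfl | rfl | rfl
  · obtain ⟨π, hπ⟩ := conj _ p1 (by omega) (fun hh => by rw [hh] at s1; simp [sz] at s1)
    obtain ⟨π', h1, h2⟩ := exists_even_conj hπ o1 (by decide +kernel)
    exact ⟨π', h1, Or.inl h2⟩
  · obtain ⟨π, hπ⟩ := conj _ p2 (by omega) (fun hh => by rw [hh] at s2; simp [sz] at s2)
    obtain ⟨π', h1, h2⟩ := exists_even_conj hπ o2 (by decide +kernel)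
    exact ⟨π', h1, Or.inr (Or.inl h2)⟩
  · obtain ⟨π, hπ⟩ := conj _ p3 (by omega) (fun hh => by rw [hh] at s3; simp [sz] at s3)
    obtain ⟨π', h1, h2⟩ := exists_even_conj hπ o3 (by decide +kernel)
    exact ⟨π', h1, Or.inr (Or.inr h2)⟩

theorem inv_rep_facts : swap 0 1 * v = v * swap 0 1 ∧ swap 0 3 * q = q * swap 0 3 ∧
    sz v = 4 ∧ sz q = 8 ∧ v * v = 1 ∧ q * q = 1 ∧ Perm.sign v = 1 ∧ Perm.sign q = 1 := by
  decide +kernel

theorem orderOf_v : orderOf v = 2 :=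
  orderOf_eq_prime (by decide +kernel) (by decide +kernel)

theorem orderOf_q : orderOf q = 2 :=
  orderOf_eq_prime (by decide +kernel) (by decide +kernel)

theorem sign_odd_sz : Perm.sign (swap 0 1 : P9) = -1 ∧
    Perm.sign (swap 0 1 * swap 2 3 * swap 4 5 : P9) = -1 ∧ sz (swap 0 1 : P9) = 2 ∧
    sz (swap 0 1 * swap 2 3 * swap 4 5 : P9) = 6 := by decide +kernel

/-- An even involution is conjugate to the double or to the quadruple one. -/
theorem exists_inv_rep {σ : P9} (hs : Perm.sign σ = 1) (h : orderOf σ = 2) :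
    ∃ π : P9, Perm.sign π = 1 ∧ (π * v * π⁻¹ = σ ∨ π * q * π⁻¹ = σ) := by
  obtain ⟨n1, n2, n3, n4⟩ := sign_odd_sz
  obtain ⟨f1, f2, f3, f4, -⟩ := inv_rep_facts
  rcases sz_inv h with e | e | e | e
  · obtain ⟨π, hπ⟩ := conj_of_sz (σ := swap 0 1)
      (orderOf_eq_prime (by decide +kernel) (by decide +kernel)) h (n3.trans e.symm)
    rw [← hπ, sign_cj, n1] at hs
    exact absurd hs (by decide)
  · obtain ⟨π, hπ⟩ := conj_of_sz orderOf_v h (f3.trans e.symm)
    obtain ⟨π', h1, h2⟩ := exists_even_conj hπ f1 (by decide +kernel)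
    exact ⟨π', h1, Or.inl h2⟩
  · obtain ⟨π, hπ⟩ := conj_of_sz (σ := swap 0 1 * swap 2 3 * swap 4 5)
      (orderOf_eq_prime (by decide +kernel) (by decide +kernel)) h (n4.trans e.symm)
    rw [← hπ, sign_cj, n2] at hs
    exact absurd hs (by decide)
  · obtain ⟨π, hπ⟩ := conj_of_sz orderOf_q h (f4.trans e.symm)
    obtain ⟨π', h1, h2⟩ := exists_even_conj hπ f2 (by decide +kernel)
    exact ⟨π', h1, Or.inr h2⟩

theorem three_commute_facts : swap 0 1 * swap 1 2 * v = v * (swap 0 1 * swap 1 2) ∧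
    e 0 * e 1 = swap 0 1 * swap 1 2 * (swap 3 4 * swap 4 5) ∧
    (e 0 * e 1) * (swap 0 3 * swap 1 4 * swap 2 5 * swap 6 7) =
      (swap 0 3 * swap 1 4 * swap 2 5 * swap 6 7) * (e 0 * e 1) := by decide +kernel

/-- An even involution commutes with an element of order three. -/
theorem exists_three_commute {σ : P9} (hs : Perm.sign σ = 1) (h : orderOf σ = 2) :
    ∃ ρ : P9, orderOf ρ = 3 ∧ ρ * σ = σ * ρ := by
  haveI : Fact (Nat.Prime 3) := ⟨by norm_num⟩
  have main : ∀ {π r ρ : P9}, ρ ^ 3 = 1 → ρ ≠ 1 → ρ * r = r * ρ → π * r * π⁻¹ = σ →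
      ∃ ρ : P9, orderOf ρ = 3 ∧ ρ * σ = σ * ρ := by
    intro π r ρ h1 h2 hc hπ
    refine ⟨π * ρ * π⁻¹, by rw [oconj, orderOf_eq_prime h1 h2], ?_⟩
    rw [← hπ]
    calc π * ρ * π⁻¹ * (π * r * π⁻¹) = π * (ρ * r) * π⁻¹ := by group
      _ = π * (r * ρ) * π⁻¹ := by rw [hc]
      _ = π * r * π⁻¹ * (π * ρ * π⁻¹) := by group
  obtain ⟨π, -, e | e⟩ := exists_inv_rep hs h
  · exact main (by decide +kernel) (by decide +kernel) three_commute_facts.1 e
  · exact main three_orders.2.1 (by decide +kernel) three_commute_facts.2.2 e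

theorem base_sign : ∀ p ∈ base, Perm.sign p = 1 := by
  intro p hp
  obtain ⟨a, b, c, rfl⟩ := mem_base.1 hp
  simp [q3, c1, c2, c3]

/-- A 3-subgroup is conjugate into `P0` by an even permutation. -/
theorem exists_even_conj_le_P0 {A : Subgroup P9} (hA : IsPGroup 3 A) :
    ∃ π : P9, Perm.sign π = 1 ∧ ∀ x ∈ A, π * x * π⁻¹ ∈ P0 := by
  obtain ⟨π, hπ⟩ := exists_conj_le_P0 hA
  rcases Int.units_eq_one_or (Perm.sign π) with e | e
  · exact ⟨π, e, hπ⟩
  set o : P9 := swap 1 2 * swap 4 5 * swap 7 8 with ho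
  obtain ⟨k1, k2, k3, k4⟩ : o * c1 * o⁻¹ = c1⁻¹ ∧ o * c2 * o⁻¹ = c2⁻¹ ∧ o * c3 * o⁻¹ = c3⁻¹ ∧
      o * rot * o⁻¹ = rot := by decide +kernel
  have hle : P0 ≤ P0.comap (MulAut.conj o).toMonoidHom := by
    have hmem : ∀ x ∈ ({c1, c2, c3, rot} : Set P9), x ∈ P0 := fun x hx => Subgroup.subset_closure hx
    refine (Subgroup.closure_le _).2 ?_
    intro x hx
    show o * x * o⁻¹ ∈ P0
    rcases hx with rfl | rfl | rfl | rfl
    · rw [k1]; exact inv_mem (hmem _ (by simp))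
    · rw [k2]; exact inv_mem (hmem _ (by simp))
    · rw [k3]; exact inv_mem (hmem _ (by simp))
    · rw [k4]; exact hmem _ (by simp)
  refine ⟨o * π, by simp [ho, e], fun x hx => ?_⟩
  have : o * (π * x * π⁻¹) * o⁻¹ ∈ P0 := hle (hπ x hx)
  rw [show o * π * x * (o * π)⁻¹ = o * (π * x * π⁻¹) * o⁻¹ by group]
  exact this

universe u

variable {G : Type u} [Group G] {J : Subgroup G} {φ : H9 →* G} {ι : ∀ k : Fin 3, N9 k →* G}
  {ψ : alternatingGroup (Fin 9) →* G}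

/-- The standing hypotheses. -/
structure Setting (J : Subgroup G) (φ : H9 →* G) (ι : ∀ k : Fin 3, N9 k →* G)
    (ψ : alternatingGroup (Fin 9) →* G) : Prop where
  loc : Loc J φ
  br : Branch φ ι
  nine : Nine φ ι ψ

theorem exists_im {g : G} (hg : g ∈ ψ.range) : ∃ p : P9, Perm.sign p = 1 ∧ im ψ p = g := by
  obtain ⟨⟨p, hp⟩, rfl⟩ := hg
  exact ⟨p, Perm.mem_alternatingGroup.1 hp, im_of hp⟩

/-- A conjugate of a centraliser inside the copy. -/
theorem transfer {π ρ σ : P9} (hπ : Perm.sign π = 1) (hρ : Perm.sign ρ = 1)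
    (hC : Subgroup.centralizer ({im ψ ρ} : Set G) ≤ ψ.range) (h : π * ρ * π⁻¹ = σ) :
    Subgroup.centralizer ({im ψ σ} : Set G) ≤ ψ.range := fun g hg => by
  rw [Subgroup.mem_centralizer_singleton_iff, ← h, im_conj hπ hρ] at hg
  have h1 : (im ψ π)⁻¹ * g * im ψ π ∈ ψ.range :=
    hC (Subgroup.mem_centralizer_singleton_iff.2 (by
      calc (im ψ π)⁻¹ * g * im ψ π * im ψ ρ
          = (im ψ π)⁻¹ * (g * (im ψ π * im ψ ρ * (im ψ π)⁻¹)) * im ψ π := by group
        _ = (im ψ π)⁻¹ * (im ψ π * im ψ ρ * (im ψ π)⁻¹ * g) * im ψ π := by rw [hg]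
        _ = im ψ ρ * ((im ψ π)⁻¹ * g * im ψ π) := by group))
  have h2 := mul_mem (mul_mem (im_mem (ψ := ψ) π) h1) (inv_mem (im_mem (ψ := ψ) π))
  rwa [show im ψ π * ((im ψ π)⁻¹ * g * im ψ π) * (im ψ π)⁻¹ = g by group] at h2

namespace Setting

variable (S : Setting J φ ι ψ)
include S

theorem normalizer_le : Subgroup.normalizer (J : Set G) ≤ ψ.range := by
  rw [← S.loc.range_eq]
  rintro _ ⟨⟨p, hp⟩, rfl⟩
  exact ⟨⟨p, Perm.mem_alternatingGroup.2 hp.1⟩, S.nine.ext _ hp⟩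

theorem im_H {p : P9} (h : p ∈ H9) : im ψ p = φ ⟨p, h⟩ := by
  rw [im_of (Perm.mem_alternatingGroup.2 h.1)]
  exact S.nine.ext _ h

theorem imInj {a b : P9} (ha : Perm.sign a = 1) (hb : Perm.sign b = 1) (h : im ψ a = im ψ b) :
    a = b := by
  rw [im_of (Perm.mem_alternatingGroup.2 ha), im_of (Perm.mem_alternatingGroup.2 hb)] at h
  exact congrArg Subtype.val (S.nine.inj h)

theorem orderOf_im {p : P9} (hp : Perm.sign p = 1) : orderOf (im ψ p) = orderOf p := by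
  rw [im_of (Perm.mem_alternatingGroup.2 hp), orderOf_injective ψ S.nine.inj, Subgroup.orderOf_mk]

theorem commute_of {a b : P9} (ha : Perm.sign a = 1) (hb : Perm.sign b = 1)
    (h : im ψ a * im ψ b = im ψ b * im ψ a) : a * b = b * a := by
  rw [← im_mul ha hb, ← im_mul hb ha] at h
  exact S.imInj (by simp [ha, hb]) (by simp [ha, hb]) h

/-- Centralisers of elements of order three lie in the copy. -/
theorem good3 {σ : P9} (h : orderOf σ = 3) :
    Subgroup.centralizer ({im ψ σ} : Set G) ≤ ψ.range := by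
  have hE : ∀ k, Perm.sign (e k) = 1 := fun k => (e_mem k).1
  have h0 : Subgroup.centralizer ({im ψ (e 0)} : Set G) ≤ ψ.range := by
    rw [S.im_H (e_mem 0)]
    refine (S.br.cent 0).trans ?_
    rintro _ ⟨⟨p, hp⟩, rfl⟩
    exact ⟨⟨p, Perm.mem_alternatingGroup.2 hp.1⟩, S.nine.extN 0 _ hp⟩
  have h01 : Subgroup.centralizer ({im ψ (e 0 * e 1)} : Set G) ≤ ψ.range := by
    rw [S.im_H (mul_mem (e_mem 0) (e_mem 1))]
    exact S.loc.cw.trans S.normalizer_le
  have h012 : Subgroup.centralizer ({im ψ (e 0 * e 1 * e 2)} : Set G) ≤ ψ.range := by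
    rw [S.im_H (mul_mem (mul_mem (e_mem 0) (e_mem 1)) (e_mem 2))]
    exact S.loc.cx.trans S.normalizer_le
  obtain ⟨π, hπ, hh | hh | hh⟩ := exists_three_rep h
  · exact transfer hπ (hE 0) h0 hh
  · exact transfer hπ (by simp [hE]) h01 hh
  · exact transfer hπ (by simp [hE]) h012 hh

theorem mem_J {x : G} : x ∈ J ↔ ∃ p ∈ base, im ψ p = x := by
  have hc : ∀ k, e k ∈ base := by
    intro k
    refine Subgroup.subset_closure ?_
    fin_cases k <;> simp [e, c1, c2, c3]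
  constructor
  · intro hx
    rw [S.loc.base] at hx
    induction hx using Subgroup.closure_induction with
    | mem x hx =>
      rcases hx with rfl | rfl | rfl <;> exact ⟨_, hc _, S.im_H (e_mem _)⟩
    | one => exact ⟨1, one_mem _, im_one⟩
    | mul x y _ _ hx hy =>
      obtain ⟨a, ha, rfl⟩ := hx
      obtain ⟨b, hb, rfl⟩ := hy
      exact ⟨a * b, mul_mem ha hb, im_mul (base_sign a ha) (base_sign b hb)⟩
    | inv x _ hx =>
      obtain ⟨a, ha, rfl⟩ := hx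
      exact ⟨a⁻¹, inv_mem ha, im_inv (base_sign a ha)⟩
  · rintro ⟨p, hp, rfl⟩
    obtain ⟨a, b, c, rfl⟩ := mem_base.1 hp
    have hk : ∀ k, im ψ (e k) ∈ J := fun k => by
      rw [S.im_H (e_mem k), S.loc.base]
      exact Subgroup.subset_closure (by fin_cases k <;> simp [E])
    have hs : ∀ k, Perm.sign (e k) = 1 := fun k => (e_mem k).1
    rw [show q3 (a, b, c, 0) = e 0 ^ a.val * e 1 ^ b.val * e 2 ^ c.val by
      simp [q3, e, c1, c2, c3]]
    rw [im_mul (by simp [hs]) (by simp [hs]), im_mul (by simp [hs]) (by simp [hs]),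
      im_pow (hs 0), im_pow (hs 1), im_pow (hs 2)]
    exact mul_mem (mul_mem (pow_mem (hk 0) _) (pow_mem (hk 1) _)) (pow_mem (hk 2) _)

theorem card_J : Nat.card J = 27 := by
  rw [← card_base, ← Nat.card_eq_of_bijective
    (fun p : base => (⟨im ψ p, S.mem_J.2 ⟨p, p.2, rfl⟩⟩ : J))]
  refine ⟨fun p q e => Subtype.ext (S.imInj (base_sign _ p.2) (base_sign _ q.2)
    (congrArg Subtype.val e)), fun x => ?_⟩
  obtain ⟨p, hp, e⟩ := S.mem_J.1 x.2
  exact ⟨⟨p, hp⟩, Subtype.ext e⟩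

variable [Finite G]

/-- An element moving an element of order three of the copy into the copy lies in the copy. -/
theorem mem_of_conj_three {σ : P9} (h3 : orderOf σ = 3) {g : G}
    (hg : g * im ψ σ * g⁻¹ ∈ ψ.range) : g ∈ ψ.range := by
  obtain ⟨σ', hs', hσ'⟩ := exists_im hg
  have hs : Perm.sign σ = 1 := sign_eq_one_of_three h3
  have h3' : orderOf σ' = 3 := by
    rw [← S.orderOf_im hs', hσ', oconj, S.orderOf_im hs, h3]
  obtain ⟨π, hπs, hπ⟩ := exists_even_conj_le_P0 (A := Subgroup.zpowers σ)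
    (IsPGroup.of_card (n := 1) (by rw [Nat.card_zpowers, h3, pow_one]))
  obtain ⟨z, hz⟩ : ∃ z : P9, z = c1 * c2 * c3 := ⟨_, rfl⟩
  have hzb : z ∈ base := hz ▸ mem_base.2 ⟨1, 1, 1, by simp [q3]⟩
  have hzs := base_sign z hzb
  have hcs : Perm.sign (π * σ * π⁻¹) = 1 := by rw [sign_cj, hs]
  have hzσ : π * σ * π⁻¹ * z = z * (π * σ * π⁻¹) :=
    hz ▸ centre_eq (hπ σ (Subgroup.mem_zpowers σ))
  set g' : G := g * (im ψ π)⁻¹ with hg'
  have hz' : g' * im ψ z * g'⁻¹ ∈ ψ.range := by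
    refine S.good3 h3' (Subgroup.mem_centralizer_singleton_iff.2 ?_)
    have e : im ψ σ' = g' * im ψ (π * σ * π⁻¹) * g'⁻¹ := by
      rw [hσ', hg', im_conj hπs hs]
      group
    rw [e]
    calc g' * im ψ z * g'⁻¹ * (g' * im ψ (π * σ * π⁻¹) * g'⁻¹)
        = g' * im ψ (z * (π * σ * π⁻¹)) * g'⁻¹ := by rw [im_mul hzs hcs]; group
      _ = g' * im ψ (π * σ * π⁻¹ * z) * g'⁻¹ := by rw [hzσ]
      _ = g' * im ψ (π * σ * π⁻¹) * g'⁻¹ * (g' * im ψ z * g'⁻¹) := by
        rw [im_mul hcs hzs]; group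
  obtain ⟨ζ, hζs, hζ⟩ := exists_im hz'
  have hζ3 : orderOf ζ = 3 := by
    rw [← S.orderOf_im hζs, hζ, oconj, S.orderOf_im hzs, hz, orderOf_eq_prime_iff]
    decide +kernel
  have hcom : ∀ x ∈ J, ∀ y ∈ J, x * y = y * x := by
    intro x hx y hy
    obtain ⟨a, ha, rfl⟩ := S.mem_J.1 hx
    obtain ⟨b, hb, rfl⟩ := S.mem_J.1 hy
    rw [← im_mul (base_sign a ha) (base_sign b hb), ← im_mul (base_sign b hb) (base_sign a ha),
      base_comm a ha b hb]
  have hzJ : im ψ z ∈ J := S.mem_J.2 ⟨z, hzb, rfl⟩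
  set c : G →* G := (MulAut.conj g').toMonoidHom with hc
  have hJle : J.map c ≤ ψ.range := by
    rintro _ ⟨x, hx, rfl⟩
    refine S.good3 hζ3 (Subgroup.mem_centralizer_singleton_iff.2 ?_)
    rw [hζ]
    show g' * x * g'⁻¹ * (g' * im ψ z * g'⁻¹) = g' * im ψ z * g'⁻¹ * (g' * x * g'⁻¹)
    calc g' * x * g'⁻¹ * (g' * im ψ z * g'⁻¹) = g' * (x * im ψ z) * g'⁻¹ := by group
      _ = g' * (im ψ z * x) * g'⁻¹ := by rw [hcom x hx _ hzJ]
      _ = _ := by group
  set A : Subgroup P9 := ((J.map c).comap ψ).map (alternatingGroup (Fin 9)).subtype with hA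
  have memA : ∀ {p : P9}, p ∈ A → Perm.sign p = 1 ∧ im ψ p ∈ J.map c := by
    intro p hp
    obtain ⟨⟨p, hpa⟩, hpm, rfl⟩ := hp
    exact ⟨Perm.mem_alternatingGroup.1 hpa, (im_of (ψ := ψ) hpa).symm ▸ hpm⟩
  have hAcard : Nat.card A = 27 := by
    rw [hA, Subgroup.card_map_of_injective (alternatingGroup (Fin 9)).subtype_injective,
      ← Subgroup.card_map_of_injective (K := (J.map c).comap ψ) S.nine.inj, Subgroup.map_comap_eq,
      inf_eq_right.2 hJle, Subgroup.card_map_of_injective (K := J) (MulAut.conj g').injective,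
      S.card_J]
  have hAcomm : ∀ x ∈ A, ∀ y ∈ A, x * y = y * x := by
    intro x hx y hy
    obtain ⟨sx, u, hu, hux⟩ := memA hx
    obtain ⟨sy, w, hw, hwy⟩ := memA hy
    refine S.commute_of sx sy ?_
    rw [← hux, ← hwy, ← map_mul, hcom u hu w hw, map_mul]
  obtain ⟨π', hπ's, hπ'⟩ := exists_even_conj_le_P0 (A := A)
    (IsPGroup.of_card (n := 3) (by rw [hAcard]; rfl))
  have hB : A.map (MulAut.conj π').toMonoidHom = base := by
    refine abelian_eq_base ?_ ?_ ?_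
    · rintro _ ⟨x, hx, rfl⟩
      exact hπ' x hx
    · rintro _ ⟨x, hx, rfl⟩ _ ⟨y, hy, rfl⟩
      rw [← map_mul, hAcomm x hx y hy, map_mul]
    · rw [Subgroup.card_map_of_injective (MulAut.conj π').injective, hAcard]
  have hN : im ψ π' * g' ∈ Subgroup.normalizer (J : Set G) := by
    have key : J.map (MulAut.conj (im ψ π' * g')).toMonoidHom = J := by
      refine Subgroup.eq_of_le_of_card_ge ?_
        (le_of_eq (Subgroup.card_map_of_injective (MulAut.conj _).injective).symm)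
      rintro _ ⟨x, hx, rfl⟩
      obtain ⟨a, has, ha⟩ := exists_im (hJle ⟨x, hx, rfl⟩)
      have haA : a ∈ A := by
        refine ⟨⟨a, Perm.mem_alternatingGroup.2 has⟩, ?_, rfl⟩
        show ψ _ ∈ J.map c
        rw [← im_of, ha]
        exact ⟨x, hx, rfl⟩
      have hb : π' * a * π'⁻¹ ∈ base := hB ▸ ⟨a, haA, rfl⟩
      refine S.mem_J.2 ⟨_, hb, ?_⟩
      rw [im_conj hπ's has, ha]
      simp [hc, mul_assoc]
    rw [Subgroup.mem_normalizer_iff]
    intro h
    constructor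
    · intro hh
      rw [← key]
      exact ⟨h, hh, by simp [mul_assoc]⟩
    · intro hh
      rw [← key] at hh
      obtain ⟨y, hy, e⟩ := hh
      simp only [MulEquiv.coe_toMonoidHom, MulAut.conj_apply, mul_left_inj, mul_right_inj] at e
      exact e ▸ hy
  have h1 := mul_mem (inv_mem (im_mem (ψ := ψ) π')) (S.normalizer_le hN)
  rw [inv_mul_cancel_left, hg'] at h1
  have h2 := mul_mem h1 (im_mem (ψ := ψ) π)
  rwa [inv_mul_cancel_right] at h2

/-- A 3-group meeting the copy in an element of order three lies in the copy. -/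
theorem pGroup_le {R : Subgroup G} (hR : IsPGroup 3 R) {σ : P9} (h3 : orderOf σ = 3)
    (hxR : im ψ σ ∈ R) : R ≤ ψ.range := by
  have hp : Fact (Nat.Prime 3) := ⟨by norm_num⟩
  have hs := sign_eq_one_of_three h3
  have h3G : orderOf (im ψ σ) = 3 := (S.orderOf_im hs).trans h3
  have : Nontrivial R := ⟨⟨⟨im ψ σ, hxR⟩, 1, fun e => by
    have e' : im ψ σ = 1 := congrArg Subtype.val e
    rw [e', orderOf_one] at h3G
    norm_num at h3G⟩⟩
  have hZ := hR.center_nontrivial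
  have hd : 3 ∣ Nat.card (Subgroup.center R) := by
    obtain ⟨n, hn⟩ := (hR.to_subgroup (Subgroup.center R)).exists_card_eq
    have := Finite.one_lt_card (α := Subgroup.center R)
    rcases n with - | n
    · rw [hn, pow_zero] at this; exact absurd this (lt_irrefl 1)
    · exact hn ▸ dvd_pow_self 3 n.succ_ne_zero
  obtain ⟨z, hz⟩ := exists_prime_orderOf_dvd_card' 3 hd
  have hzc : ∀ y ∈ R, y * ((z : R) : G) = ((z : R) : G) * y := fun y hy => by
    simpa using congrArg Subtype.val (Subgroup.mem_center_iff.1 z.2 ⟨y, hy⟩)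
  obtain ⟨ζ, hζs, hζ⟩ := exists_im (S.good3 h3 (Subgroup.mem_centralizer_singleton_iff.2
    (hzc _ hxR).symm))
  have hζ3 : orderOf ζ = 3 := by
    rw [← S.orderOf_im hζs, hζ, Subgroup.orderOf_coe, Subgroup.orderOf_coe, hz]
  exact fun y hy => S.good3 hζ3 (Subgroup.mem_centralizer_singleton_iff.2 (hζ ▸ hzc y hy))

/-- Fusion of involutions of the copy is controlled by the copy. -/
theorem fusion {σ σ' : P9} (hs : Perm.sign σ = 1) (hs' : Perm.sign σ' = 1) (hσ : orderOf σ = 2)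
    {g : G} (hg : g * im ψ σ * g⁻¹ = im ψ σ') :
    ∃ π : P9, Perm.sign π = 1 ∧ π * σ * π⁻¹ = σ' ∧
      g * (im ψ π)⁻¹ * im ψ σ' = im ψ σ' * (g * (im ψ π)⁻¹) := by
  have hσ' : orderOf σ' = 2 := by
    rw [← S.orderOf_im hs', ← hg, oconj, S.orderOf_im hs, hσ]
  have hp : Fact (Nat.Prime 3) := ⟨by norm_num⟩
  obtain ⟨ρ, hρ, hρc⟩ := exists_three_commute hs hσ
  obtain ⟨ρ', hρ', hρc'⟩ := exists_three_commute hs' hσ'
  have sρ := sign_eq_one_of_three hρ
  have sρ' := sign_eq_one_of_three hρ'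
  set C := Subgroup.centralizer ({im ψ σ'} : Set G) with hC
  have m1 : g * im ψ ρ * g⁻¹ ∈ C := by
    rw [hC, Subgroup.mem_centralizer_singleton_iff, ← hg]
    calc g * im ψ ρ * g⁻¹ * (g * im ψ σ * g⁻¹) = g * im ψ (ρ * σ) * g⁻¹ := by
          rw [im_mul sρ hs]; group
      _ = g * im ψ (σ * ρ) * g⁻¹ := by rw [hρc]
      _ = g * im ψ σ * g⁻¹ * (g * im ψ ρ * g⁻¹) := by rw [im_mul hs sρ]; group
  have m2 : im ψ ρ' ∈ C := by
    rw [hC, Subgroup.mem_centralizer_singleton_iff, ← im_mul sρ' hs', hρc', im_mul hs' sρ']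
  have o1 : orderOf (⟨_, m1⟩ : C) = 3 := by
    rw [Subgroup.orderOf_mk, oconj, S.orderOf_im sρ, hρ]
  have o2 : orderOf (⟨_, m2⟩ : C) = 3 := by rw [Subgroup.orderOf_mk, S.orderOf_im sρ', hρ']
  have pz : ∀ c : C, orderOf c = 3 → IsPGroup 3 (Subgroup.zpowers c) := fun c hc =>
    IsPGroup.of_card (n := 1) (by rw [Nat.card_zpowers, hc, pow_one])
  obtain ⟨P₁, hP₁⟩ := (pz _ o1).exists_le_sylow
  obtain ⟨P₂, hP₂⟩ := (pz _ o2).exists_le_sylow
  obtain ⟨c, hc⟩ := MulAction.exists_smul_eq C P₁ P₂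
  have hP₂le : (P₂ : Subgroup C).map C.subtype ≤ ψ.range :=
    S.pGroup_le (P₂.isPGroup'.map _) hρ' ⟨⟨_, m2⟩, hP₂ (Subgroup.mem_zpowers _), rfl⟩
  have hin : (c : G) * g ∈ ψ.range := by
    refine S.mem_of_conj_three hρ (hP₂le ?_)
    refine ⟨c * ⟨_, m1⟩ * c⁻¹, ?_, by simp; group⟩
    rw [← hc, SetLike.mem_coe]
    exact Subgroup.mem_map.2 ⟨_, hP₁ (Subgroup.mem_zpowers _), rfl⟩
  obtain ⟨π, hπs, hπ⟩ := exists_im hin
  have hcσ : (c : G) * im ψ σ' = im ψ σ' * (c : G) := Subgroup.mem_centralizer_singleton_iff.1 c.2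
  refine ⟨π, hπs, S.imInj (by rw [sign_cj, hs]) hs' ?_, ?_⟩
  · rw [im_conj hπs hs, hπ]
    calc (c : G) * g * im ψ σ * ((c : G) * g)⁻¹ = (c : G) * (g * im ψ σ * g⁻¹) * (c : G)⁻¹ := by
          group
      _ = im ψ σ' := by rw [hg, hcσ, mul_inv_cancel_right]
  · rw [hπ, mul_inv_rev, ← mul_assoc, mul_inv_cancel, one_mul]
    exact (Commute.inv_left hcσ).eq

theorem sz_eq_of_conj {σ σ' : P9} (hs : Perm.sign σ = 1) (hs' : Perm.sign σ' = 1)
    (hσ : orderOf σ = 2) {g : G} (hg : g * im ψ σ * g⁻¹ = im ψ σ') : sz σ' = sz σ := by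
  obtain ⟨π, -, rfl, -⟩ := S.fusion hs hs' hσ hg
  exact sz_conj π σ

/-- An element moving an involution with centraliser inside into the copy lies in the copy. -/
theorem mem_of_conj {σ : P9} (hs : Perm.sign σ = 1) (hσ : orderOf σ = 2)
    (hC : Subgroup.centralizer ({im ψ σ} : Set G) ≤ ψ.range) {g : G}
    (hg : g * im ψ σ * g⁻¹ ∈ ψ.range) : g ∈ ψ.range := by
  obtain ⟨σ', hs', hσ'⟩ := exists_im hg
  obtain ⟨π, hπs, hπ, hc⟩ := S.fusion hs hs' hσ hσ'.symm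
  have h1 : g * (im ψ π)⁻¹ ∈ ψ.range :=
    transfer hπs hs hC hπ (Subgroup.mem_centralizer_singleton_iff.2 hc)
  have h2 := mul_mem h1 (im_mem (ψ := ψ) π)
  rwa [inv_mul_cancel_right] at h2

end Setting

end Cfsg.Agent.A9End52
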