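import Cfsg.Agent.Lib.A9End52Model
import Cfsg.Agent.Lib.A9End52Fus
import Cfsg.Agent.Lib.ZStarTheorem
import Cfsg.Agent.Lib.S9Small37Gen

/-!
S3339, alternating branch: the centraliser of a double involution lies in the copy of the
alternating group of degree nine.
-/

set_option autoImplicit false

namespace Cfsg.Agent.A9End52

open Equiv Cfsg.Agent.A9Base59 Cfsg.Agent.A9CentQ67
open Cfsg.Agent.S9End37 (P5 a5 b5 r5 sz oconj five_of_local sz_eq_zero)

/-- The centraliser of `v` in the alternating group. -/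
abbrev Mv : Subgroup P9 := Subgroup.centralizer ({v} : Set P9) ⊓ alternatingGroup (Fin 9)

theorem mem_Mv {p : P9} : p ∈ Mv ↔ p * v = v * p ∧ Perm.sign p = 1 := by
  rw [Subgroup.mem_inf, Subgroup.mem_centralizer_singleton_iff, Perm.mem_alternatingGroup]

theorem sgn (p : Mv) : Perm.sign (p : P9) = 1 := (mem_Mv.1 p.2).2

theorem mu_mem (π : P5) : mu π ∈ Mv := mem_Mv.2 ⟨(mu_facts π).2.1, (mu_facts π).1⟩

theorem K4_mem {k : P9} (hk : k ∈ K4) : k ∈ Mv :=
  mem_Mv.2 ⟨(K4_facts k hk).2.1, (K4_facts k hk).1⟩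

/-- The symmetric group of degree five in the centraliser. -/
def muM : P5 →* Mv := mu.codRestrict Mv mu_mem

theorem orderOf_of_type {σ : P9} (h : σ * σ = 1) (hz : sz σ = 4) : orderOf σ = 2 :=
  orderOf_eq_prime ((sq σ).trans h) fun e => by rw [sz_eq_zero.2 e] at hz; norm_num at hz

theorem exists_Mv_split (p : Mv) : ∃ π : P5, ∃ k ∈ K4, (p : P9) = mu π * k :=
  exists_split (sgn p) (mem_Mv.1 p.2).1

theorem split_comm_u9 {π : P5} {k : P9} (hk : k ∈ K4)
    (h : mu π * k * u9 = u9 * (mu π * k)) : π * (a5 * b5) = a5 * b5 * π := by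
  have h1 : mu π * u9 = u9 * mu π := by
    rw [mul_assoc, u9_comm k hk, ← mul_assoc, ← mul_assoc] at h
    exact mul_right_cancel h
  have h2 : mu (π * (a5 * b5) * (a5 * b5 * π)⁻¹) = 1 := by
    rw [map_mul, map_mul, map_inv, map_mul mu (a5 * b5)]
    change mu π * u9 * (u9 * mu π)⁻¹ = 1
    rw [h1, mul_inv_cancel]
  exact mul_inv_eq_one.1 (mu_sep _ (by rw [h2]; simp [K4]))

theorem odd_normal_P5 {K : Subgroup P5} (hK : K.Normal) (hodd : Odd (Nat.card K)) : K = ⊥ := by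
  haveI : IsSimpleGroup (alternatingGroup (Fin 5)) := alternatingGroup.isSimpleGroup_five
  rcases IsSimpleGroup.eq_bot_or_eq_top_of_normal _
    (inferInstance : (K.subgroupOf (alternatingGroup (Fin 5))).Normal) with e | e
  · rw [Subgroup.eq_bot_iff_forall]
    intro π hπ
    have hs : Perm.sign π = 1 := by
      have h1 : (⟨π, hπ⟩ : K) ^ Nat.card K = 1 := pow_card_eq_one'
      have h2 := congrArg (fun x : K => Perm.sign (x : P5)) h1
      simp only [SubmonoidClass.coe_pow, Subgroup.coe_one, map_pow, map_one] at h2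
      rcases Int.units_eq_one_or (Perm.sign π) with h | h
      · exact h
      · rw [h, hodd.neg_one_pow] at h2
        exact absurd h2 (by decide)
    have h1 : (⟨π, Perm.mem_alternatingGroup.2 hs⟩ : alternatingGroup (Fin 5)) ∈
        K.subgroupOf (alternatingGroup (Fin 5)) := hπ
    rw [e, Subgroup.mem_bot] at h1
    exact congrArg Subtype.val h1
  · exfalso
    have hu : a5 * b5 ∈ K := Subgroup.subgroupOf_eq_top.1 e
      (Perm.mem_alternatingGroup.2 (by decide +kernel))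
    have h2 : orderOf (⟨a5 * b5, hu⟩ : K) = 2 := by
      rw [Subgroup.orderOf_mk]
      exact orderOf_eq_prime (by decide +kernel) (by decide +kernel)
    have := orderOf_dvd_natCard (⟨a5 * b5, hu⟩ : K)
    rw [h2] at this
    exact (Nat.not_even_iff_odd.2 hodd) (even_iff_two_dvd.2 this)

universe u

variable {G : Type u} [Group G] [Finite G] {J : Subgroup G} {φ : H9 →* G}
  {ι : ∀ k : Fin 3, N9 k →* G} {ψ : alternatingGroup (Fin 9) →* G}

/-- The centraliser of the double involution. -/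
abbrev TT (ψ : alternatingGroup (Fin 9) →* G) : Subgroup G :=
  Subgroup.centralizer ({im ψ v} : Set G)

theorem mem_TT {g : G} : g ∈ TT ψ ↔ g * im ψ v = im ψ v * g :=
  Subgroup.mem_centralizer_singleton_iff

/-- The model mapped into the centraliser. -/
noncomputable def fT (ψ : alternatingGroup (Fin 9) →* G) : Mv →* TT ψ where
  toFun p := ⟨im ψ (p : P9), mem_TT.2 (by
    rw [← im_mul (sgn p) v_mem.1, ← im_mul v_mem.1 (sgn p), (mem_Mv.1 p.2).1])⟩
  map_one' := Subtype.ext im_one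
  map_mul' p q := Subtype.ext (im_mul (sgn p) (sgn q))

namespace Setting

variable (S : Setting J φ ι ψ)
include S

theorem fT_inj : Function.Injective (fT ψ) := fun p q e =>
  Subtype.ext (S.imInj (sgn p) (sgn q) (congrArg Subtype.val e))

theorem exists_fT {g : TT ψ} (hg : (g : G) ∈ ψ.range) : ∃ p : Mv, fT ψ p = g := by
  obtain ⟨p, hs, hp⟩ := exists_im hg
  have hc := mem_TT.1 g.2
  rw [← hp] at hc
  exact ⟨⟨p, mem_Mv.2 ⟨S.commute_of hs v_mem.1 hc, hs⟩⟩, Subtype.ext hp⟩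

theorem vd_good {g : TT ψ} (h : (g : G) * im ψ d * (g : G)⁻¹ = im ψ d ∨
    (g : G) * im ψ d * (g : G)⁻¹ = im ψ (d * v)) : (g : G) ∈ ψ.range := by
  have hds : Perm.sign d = 1 := d_mem.1
  have main : ∀ x : G, x * im ψ v = im ψ v * x → x * im ψ d * x⁻¹ = im ψ d → x ∈ ψ.range := by
    intro x hv hd
    refine S.nine.four x ?_ ?_
    · rwa [← S.im_H v_mem]
    · have : im ψ d = ι 0 ⟨d, d_mem⟩ := by
        rw [im_of (Perm.mem_alternatingGroup.2 hds)]
        exact S.nine.extN 0 _ d_mem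
      rw [← this]
      exact mul_inv_eq_iff_eq_mul.1 hd
  rcases h with h | h
  · exact main _ (mem_TT.1 g.2) h
  · have hw := K4_facts w9 (by simp [K4])
    have hx := main (im ψ w9 * g) (by
      rw [mul_assoc, mem_TT.1 g.2, ← mul_assoc, ← im_mul hw.1 v_mem.1, hw.2.1,
        im_mul v_mem.1 hw.1, mul_assoc]) (by
      rw [show im ψ w9 * (g : G) * im ψ d * (im ψ w9 * (g : G))⁻¹ =
        im ψ w9 * ((g : G) * im ψ d * (g : G)⁻¹) * (im ψ w9)⁻¹ by group, h,
        ← im_conj hw.1 (by simp [hds, v_mem.1])]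
      congr 1
      rw [named.2.2.1, mul_inv_cancel_right])
    have h2 := mul_mem (inv_mem (im_mem (ψ := ψ) w9)) hx
    rwa [inv_mul_cancel_left] at h2

theorem types {g : TT ψ} {σ ρ : Mv} (hσ : (σ : P9) * (σ : P9) = 1) (h4 : sz (σ : P9) = 4)
    (h4' : sz ((σ : P9) * v) = 4) (e : g * fT ψ σ * g⁻¹ = fT ψ ρ) :
    (ρ : P9) * (ρ : P9) = 1 ∧ sz (ρ : P9) = 4 ∧ sz ((ρ : P9) * v) = 4 := by
  have e' : (g : G) * im ψ (σ : P9) * (g : G)⁻¹ = im ψ (ρ : P9) := congrArg Subtype.val e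
  have hσv : (σ : P9) * v * ((σ : P9) * v) = 1 := by
    rw [mul_assoc, ← mul_assoc v, ← (mem_Mv.1 σ.2).1, mul_assoc (σ : P9) v,
      inv_rep_facts.2.2.2.2.1, mul_one, hσ]
  refine ⟨?_, ?_, ?_⟩
  · have : fT ψ (ρ * ρ) = fT ψ 1 := by
      rw [map_mul, ← e, map_one, show g * fT ψ σ * g⁻¹ * (g * fT ψ σ * g⁻¹) =
        g * (fT ψ σ * fT ψ σ) * g⁻¹ by group, ← map_mul,
        show σ * σ = 1 from Subtype.ext hσ, map_one, mul_one, mul_inv_cancel]
    exact congrArg Subtype.val (S.fT_inj this)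
  · rw [S.sz_eq_of_conj (sgn σ) (sgn ρ) (orderOf_of_type hσ h4) e', h4]
  · rw [S.sz_eq_of_conj (g := (g : G)) (σ := (σ : P9) * v) (by simp [sgn σ, v_mem.1])
      (by simp [sgn ρ, v_mem.1]) (orderOf_of_type hσv h4') ?_, h4']
    rw [im_mul (sgn σ) v_mem.1, im_mul (sgn ρ) v_mem.1, ← e']
    have := mem_TT.1 g.2
    calc (g : G) * (im ψ (σ : P9) * im ψ v) * (g : G)⁻¹
        = (g : G) * im ψ (σ : P9) * (g : G)⁻¹ * ((g : G) * im ψ v) * (g : G)⁻¹ := by group
      _ = (g : G) * im ψ (σ : P9) * (g : G)⁻¹ * im ψ v := by rw [this]; group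

theorem not_w_to_d {g : TT ψ} : ¬ ((g : G) * im ψ w9 * (g : G)⁻¹ = im ψ d ∨
    (g : G) * im ψ w9 * (g : G)⁻¹ = im ψ (d * v)) := by
  have hds : Perm.sign d = 1 := d_mem.1
  have hw := K4_facts w9 (by simp [K4])
  obtain ⟨c1, c2, c3⟩ := c5_facts
  have main : ∀ g : TT ψ, (g : G) * im ψ w9 * (g : G)⁻¹ ≠ im ψ d := by
    intro g he
    set c : TT ψ := g * fT ψ (muM c5) * g⁻¹ with hc
    have hcd : (c : G) * im ψ d = im ψ d * c := by
      have h1 : im ψ (mu c5) * im ψ w9 = im ψ w9 * im ψ (mu c5) := by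
        rw [← im_mul (mu_facts _).1 hw.1, ← im_mul hw.1 (mu_facts _).1, c1]
      show (g : G) * im ψ (mu c5) * (g : G)⁻¹ * im ψ d =
        im ψ d * ((g : G) * im ψ (mu c5) * (g : G)⁻¹)
      rw [← he]
      calc (g : G) * im ψ (mu c5) * (g : G)⁻¹ * ((g : G) * im ψ w9 * (g : G)⁻¹)
          = (g : G) * (im ψ (mu c5) * im ψ w9) * (g : G)⁻¹ := by group
        _ = (g : G) * (im ψ w9 * im ψ (mu c5)) * (g : G)⁻¹ := by rw [h1]
        _ = _ := by group
    obtain ⟨p, hp⟩ := S.exists_fT (S.vd_good (g := c) (Or.inl (by rw [hcd, mul_inv_cancel_right])))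
    obtain ⟨π, k, hk, hpk⟩ := exists_Mv_split p
    have hpd : (p : P9) * d = d * (p : P9) := S.commute_of (sgn p) hds (by
      rw [← show (c : G) = im ψ (p : P9) from (congrArg Subtype.val hp).symm]
      exact hcd)
    have hp5 : p ^ 5 = 1 := S.fT_inj (by
      rw [map_pow, hp, hc, conj_pow, ← map_pow,
        show muM c5 ^ 5 = 1 from Subtype.ext c2, map_one, mul_one, mul_inv_cancel])
    have h1 : (p : P9) = 1 := by
      rw [hpk] at hpd ⊢
      exact no_five π k hk hpd (by rw [← hpk]; exact congrArg Subtype.val hp5)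
    refine c3 (congrArg Subtype.val (S.fT_inj (a₁ := muM c5) (a₂ := 1) ?_))
    rw [show p = 1 from Subtype.ext h1, map_one, hc] at hp
    rw [map_one]
    exact conj_eq_one_iff.1 hp.symm
  rintro (h | h)
  · exact main g h
  · refine main (fT ψ ⟨w9, K4_mem (by simp [K4])⟩ * g) ?_
    show im ψ w9 * (g : G) * im ψ w9 * (im ψ w9 * (g : G))⁻¹ = im ψ d
    rw [show im ψ w9 * (g : G) * im ψ w9 * (im ψ w9 * (g : G))⁻¹ =
      im ψ w9 * ((g : G) * im ψ w9 * (g : G)⁻¹) * (im ψ w9)⁻¹ by group, h,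
      ← im_conj hw.1 (by simp [hds, v_mem.1]), named.2.2.1, mul_inv_cancel_right]

theorem not_w_to_t {g : TT ψ} : ¬ ((g : G) * im ψ w9 * (g : G)⁻¹ = im ψ t2' ∨
    (g : G) * im ψ w9 * (g : G)⁻¹ = im ψ (t2' * v)) := by
  intro h
  refine S.not_w_to_d (g := fT ψ (muM h5') * g) ?_
  have hm := (mu_facts h5').1
  have ht : Perm.sign t2' = 1 := (mu_facts b5).1
  have e : ∀ x : P9, Perm.sign x = 1 → (g : G) * im ψ w9 * (g : G)⁻¹ = im ψ x →
      ((fT ψ (muM h5') * g : TT ψ) : G) * im ψ w9 * ((fT ψ (muM h5') * g : TT ψ) : G)⁻¹ =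
        im ψ (mu h5' * x * (mu h5')⁻¹) := by
    intro x hx hh
    rw [im_conj hm hx, ← hh]
    show im ψ (mu h5') * (g : G) * im ψ w9 * (im ψ (mu h5') * (g : G))⁻¹ = _
    group
  rcases h with h | h
  · left; rw [e _ ht h, named.2.1]
  · right
    rw [e _ (by simp [ht, v_mem.1]) h]
    congr 1
    rw [show mu h5' * (t2' * v) * (mu h5')⁻¹ = mu h5' * t2' * (v * (mu h5')⁻¹) by group,
      ← (Commute.inv_left (show Commute (mu h5') v from (mu_facts h5').2.1)).eq, ← mul_assoc,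
      named.2.1]

set_option maxHeartbeats 1600000 in
-- long argument
/-- Every element of the centraliser permutes `w9` and `w9 * v`. -/
theorem fix_w (g : TT ψ) : (g : G) * im ψ w9 * (g : G)⁻¹ = im ψ w9 ∨
    (g : G) * im ψ w9 * (g : G)⁻¹ = im ψ (w9 * v) := by
  classical
  haveI : Fact (Nat.Prime 2) := ⟨Nat.prime_two⟩
  have hwK : w9 ∈ K4 := by simp [K4]
  have hvK : v ∈ K4 := by simp [K4]
  set vm : Mv := ⟨v, K4_mem hvK⟩ with hvm
  set wm : Mv := ⟨w9, K4_mem hwK⟩ with hwm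
  set dm : Mv := ⟨d, named.1 ▸ mu_mem a5⟩ with hdm
  set tm : Mv := muM b5 with htm
  obtain ⟨nd1, nd2, nd3, nd4, -, nd6, nd7, nd8, nd9, -⟩ := named
  have hwne : w9 ≠ 1 ∧ w9 ≠ v := by decide +kernel
  have tfacts : t2' * t2' = 1 ∧ sz t2' = 4 ∧ sz (t2' * v) = 4 ∧ d * d = 1 := by decide +kernel
  -- the Sylow subgroup
  set S32 : Subgroup Mv := (Subgroup.centralizer ({u9} : Set P9)).subgroupOf Mv with hS32
  have memS : ∀ {p : Mv}, p ∈ S32 ↔ (p : P9) * u9 = u9 * (p : P9) := fun {p} => by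
    rw [hS32, Subgroup.mem_subgroupOf, Subgroup.mem_centralizer_singleton_iff]
  set Q : Subgroup (TT ψ) := S32.map (fT ψ) with hQ
  have hQ2 : IsPGroup 2 Q := by
    rintro ⟨_, p, hp, rfl⟩
    obtain ⟨π, k, hk, hpk⟩ := exists_Mv_split p
    have hpu := memS.1 hp
    rw [hpk] at hpu
    refine ⟨2, Subtype.ext ?_⟩
    show fT ψ p ^ 2 ^ 2 = 1
    rw [← map_pow, show p ^ 2 ^ 2 = 1 from Subtype.ext (by
      rw [SubmonoidClass.coe_pow, hpk]; exact syl_facts π (split_comm_u9 hk hpu) k hk), map_one]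
  obtain ⟨P, hQP⟩ := hQ2.exists_le_sylow
  have inS : dm ∈ S32 ∧ tm ∈ S32 ∧ vm ∈ S32 ∧ wm ∈ S32 := by
    refine ⟨?_, ?_, memS.2 (u9_comm v hvK), memS.2 (u9_comm w9 hwK)⟩
    · refine memS.2 ?_
      show d * u9 = u9 * d
      rw [← nd1, u9, ← map_mul, ← map_mul, show a5 * (a5 * b5) = a5 * b5 * a5 by decide +kernel]
    · refine memS.2 ?_
      show mu b5 * u9 = u9 * mu b5
      rw [u9, ← map_mul, ← map_mul, show b5 * (a5 * b5) = a5 * b5 * b5 by decide +kernel]
  have imOf : ∀ {g : TT ψ} {σ ρ : Mv}, g * fT ψ σ * g⁻¹ = fT ψ ρ →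
      (g : G) * im ψ (σ : P9) * (g : G)⁻¹ = im ψ (ρ : P9) := fun e => congrArg Subtype.val e
  have six : ∀ {g : TT ψ} {σ ρ : Mv}, (σ : P9) * (σ : P9) = 1 → sz (σ : P9) = 4 →
      sz ((σ : P9) * v) = 4 → g * fT ψ σ * g⁻¹ = fT ψ ρ → ρ ∈ S32 →
      (ρ : P9) ∈ [w9, w9 * v, d, d * v, t2', t2' * v] := by
    intro g σ ρ h1 h2 h3 e hρ
    obtain ⟨r1, r2, r3⟩ := S.types h1 h2 h3 e
    obtain ⟨π, k, hk, hρk⟩ := exists_Mv_split ρ
    have hρu := memS.1 hρ
    rw [hρk] at hρu r1 r2 r3 ⊢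
    exact typeA π (split_comm_u9 hk hρu) k hk r2 r3 r1
  have hsyl : Q = P := by
    refine S9Small37.eq_of_normalizer_le hQP P.isPGroup' fun g _ hg => ?_
    have img : ∀ x : Mv, x ∈ S32 → (x : P9) * (x : P9) = 1 → sz (x : P9) = 4 →
        sz ((x : P9) * v) = 4 →
        (∀ g' : TT ψ, ¬ ((g' : G) * im ψ w9 * (g' : G)⁻¹ = im ψ (x : P9))) →
        ∃ ρ : Mv, g * fT ψ x * g⁻¹ = fT ψ ρ ∧ (ρ : P9) ∈ [d, d * v, t2', t2' * v] := by
      intro x hx h1 h2 h3 hne
      obtain ⟨ρ, hρ, e⟩ := hg _ ⟨x, hx, rfl⟩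
      refine ⟨ρ, e.symm, ?_⟩
      have h6 := six h1 h2 h3 e.symm hρ
      simp only [List.mem_cons, List.not_mem_nil, or_false] at h6 ⊢
      rcases h6 with h | h | h6
      · exfalso
        refine hne g⁻¹ ?_
        rw [← h, ← imOf e.symm, Subgroup.coe_inv]
        group
      · exfalso
        refine hne (g⁻¹ * fT ψ ⟨_, mu_mem a5⟩) ?_
        have hw := K4_facts w9 hwK
        have hd : im ψ (mu a5) * im ψ w9 * (im ψ (mu a5))⁻¹ = im ψ (w9 * v) := by
          rw [← im_conj (mu_facts a5).1 hw.1]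
          congr 1
          decide +kernel
        show ((g : G))⁻¹ * im ψ (mu a5) * im ψ w9 * ((g : G)⁻¹ * im ψ (mu a5))⁻¹ = im ψ (x : P9)
        rw [show ((g : G))⁻¹ * im ψ (mu a5) * im ψ w9 * ((g : G)⁻¹ * im ψ (mu a5))⁻¹ =
          ((g : G))⁻¹ * (im ψ (mu a5) * im ψ w9 * (im ψ (mu a5))⁻¹) * (g : G) by group, hd, ← h,
          ← imOf e.symm]
        group
      · exact h6
    obtain ⟨ρ, eρ, hρ⟩ := img dm inS.1 tfacts.2.2.2 nd6 nd7
      (fun g' h => S.not_w_to_d (Or.inl h))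
    obtain ⟨τ, eτ, hτ⟩ := img tm inS.2.1 tfacts.1 tfacts.2.1 tfacts.2.2.1
      (fun g' h => S.not_w_to_t (Or.inl h))
    have hgR : (g : G) ∈ ψ.range := by
      have hd' := imOf eρ
      simp only [List.mem_cons, List.not_mem_nil, or_false] at hρ
      have hh : ∀ x : P9, Perm.sign x = 1 → (g : G) * im ψ d * (g : G)⁻¹ = im ψ x →
          (mu h5' * x * (mu h5')⁻¹ = d ∨ mu h5' * x * (mu h5')⁻¹ = d * v) →
            (g : G) ∈ ψ.range := by
        intro x hx e hcase
        have hm := (mu_facts h5').1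
        have h1 : ((fT ψ (muM h5') * g : TT ψ) : G) ∈ ψ.range := by
          refine S.vd_good ?_
          have e2 : ((fT ψ (muM h5') * g : TT ψ) : G) * im ψ d *
              ((fT ψ (muM h5') * g : TT ψ) : G)⁻¹ = im ψ (mu h5' * x * (mu h5')⁻¹) := by
            rw [im_conj hm hx, ← e]
            show im ψ (mu h5') * (g : G) * im ψ d * (im ψ (mu h5') * (g : G))⁻¹ = _
            group
          rw [e2]
          rcases hcase with c | c <;> rw [c]
          · exact Or.inl rfl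
          · exact Or.inr rfl
        have h2 := mul_mem (inv_mem (im_mem (ψ := ψ) (mu h5'))) h1
        change (im ψ (mu h5'))⁻¹ * (im ψ (mu h5') * (g : G)) ∈ ψ.range at h2
        rwa [inv_mul_cancel_left] at h2
      rcases hρ with h | h | h | h <;> rw [h] at hd'
      · exact S.vd_good (Or.inl hd')
      · exact S.vd_good (Or.inr hd')
      · exact hh _ (mu_facts b5).1 hd' (Or.inl nd2)
      · exact hh _ (by simp [(mu_facts b5).1, v_mem.1, t2']) hd' (Or.inr (by
          rw [show mu h5' * (t2' * v) * (mu h5')⁻¹ = mu h5' * t2' * (v * (mu h5')⁻¹) by group,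
            ← (Commute.inv_left (show Commute (mu h5') v from (mu_facts h5').2.1)).eq, ← mul_assoc,
            nd2]))
    obtain ⟨p, rfl⟩ := S.exists_fT hgR
    obtain ⟨π, k, hk, hpk⟩ := exists_Mv_split p
    refine ⟨p, memS.2 ?_, rfl⟩
    rw [← map_inv, ← map_mul, ← map_mul] at eρ eτ
    rw [← S.fT_inj eρ] at hρ
    rw [← S.fT_inj eτ] at hτ
    simp only [Subgroup.coe_mul, Subgroup.coe_inv, hpk] at hρ hτ
    have hπ := norm_D5 π k hk hρ hτ
    have hmu : mu π * u9 = u9 * mu π := by rw [u9, ← map_mul, ← map_mul, hπ]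
    rw [hpk, mul_assoc, u9_comm k hk, ← mul_assoc, hmu, mul_assoc]
  -- the quotient by `v`
  set Z : Subgroup (TT ψ) := Subgroup.zpowers (fT ψ vm) with hZ
  have hZc : Z ≤ Subgroup.center (TT ψ) := Subgroup.zpowers_le.2
    (Subgroup.mem_center_iff.2 fun g => Subtype.ext (mem_TT.1 g.2))
  haveI hZn : Z.Normal := ⟨fun z hz g => by
    rwa [Subgroup.mem_center_iff.1 (hZc hz) g, mul_inv_cancel_right]⟩
  have hvv : vm * vm = 1 := Subtype.ext (K4_facts v hvK).2.2
  have hZmem : ∀ z ∈ Z, z = 1 ∨ z = fT ψ vm := fun z hz => by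
    obtain ⟨n, rfl⟩ := Subgroup.mem_zpowers_iff.1 hz
    have h2 : (fT ψ vm) ^ (2 : ℤ) = 1 := by rw [zpow_two, ← map_mul, hvv, map_one]
    rcases Int.even_or_odd n with ⟨m, rfl⟩ | ⟨m, rfl⟩
    · left; rw [← two_mul, zpow_mul, h2, one_zpow]
    · right; rw [zpow_add, zpow_mul, h2, one_zpow, one_mul, zpow_one]
  set mk := QuotientGroup.mk' Z with hmk
  set τY : Mv →* (TT ψ ⧸ Z) := mk.comp (fT ψ) with hτY
  have hmk1 : ∀ g : TT ψ, mk g = 1 ↔ g ∈ Z := fun g => QuotientGroup.eq_one_iff g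
  have hτ1 : ∀ p : Mv, τY p = 1 ↔ (p = 1 ∨ p = vm) := fun p => by
    constructor
    · intro h
      rcases hZmem _ ((hmk1 _).1 h) with e | e
      · exact Or.inl (S.fT_inj (e.trans (map_one _).symm))
      · exact Or.inr (S.fT_inj e)
    · rintro (rfl | rfl)
      · exact map_one _
      · exact (hmk1 _).2 (Subgroup.mem_zpowers _)
  set ω := τY wm with hω
  have hω2 : orderOf ω = 2 := by
    refine orderOf_eq_prime ?_ fun e => ?_
    · rw [sq, hω, ← map_mul, show wm * wm = 1 from Subtype.ext (K4_facts w9 hwK).2.2, map_one]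
    · rcases (hτ1 wm).1 e with h | h
      · exact hwne.1 (congrArg Subtype.val h)
      · exact hwne.2 (congrArg Subtype.val h)
  set P' : Sylow 2 (TT ψ ⧸ Z) := P.mapSurjective (f := mk) (QuotientGroup.mk'_surjective Z)
  have hωP : ω ∈ P' := by
    show ω ∈ (P : Subgroup (TT ψ)).map mk
    exact ⟨_, hQP ⟨wm, inS.2.2.2, rfl⟩, rfl⟩
  have hiso : ∀ y : TT ψ ⧸ Z, y * ω * y⁻¹ ∈ P' → y * ω * y⁻¹ = ω := by
    intro y hy
    obtain ⟨k, rfl⟩ := QuotientGroup.mk'_surjective Z y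
    obtain ⟨x, hx, ex⟩ := hy
    rw [← hsyl] at hx
    obtain ⟨z, hz, ez⟩ := (QuotientGroup.mk'_eq_mk' Z).1
      (show mk x = mk (k * fT ψ wm * k⁻¹) by rw [ex, map_mul, map_mul, map_inv]; rfl)
    have hzQ : z ∈ Q := by
      rcases hZmem z hz with rfl | rfl
      · exact one_mem _
      · exact ⟨vm, inS.2.2.1, rfl⟩
    obtain ⟨ρ, hρ, eρ⟩ : k * fT ψ wm * k⁻¹ ∈ Q := ez ▸ mul_mem hx hzQ
    have h6 := six (K4_facts w9 hwK).2.2 nd8 nd9 eρ.symm hρ
    simp only [List.mem_cons, List.not_mem_nil, or_false] at h6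
    have hk := imOf eρ.symm
    rw [hω]
    show mk k * mk (fT ψ wm) * (mk k)⁻¹ = mk (fT ψ wm)
    rw [← map_inv, ← map_mul, ← map_mul, ← eρ]
    rcases h6 with h | h | h | h | h | h
    · rw [show ρ = wm from Subtype.ext h]
    · rw [show ρ = wm * vm from Subtype.ext h, map_mul, map_mul,
        show mk (fT ψ vm) = 1 from (hτ1 vm).2 (Or.inr rfl), mul_one]
    · rw [h] at hk; exact absurd (Or.inl hk) S.not_w_to_d
    · rw [h] at hk; exact absurd (Or.inr hk) S.not_w_to_d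
    · rw [h] at hk; exact absurd (Or.inl hk) S.not_w_to_t
    · rw [h] at hk; exact absurd (Or.inr hk) S.not_w_to_t
  obtain ⟨N, hNn, hNodd, hNω⟩ :=
    ZStarTheorem.exists_odd_normal (ZStarBasic.isolated_of_sylow P' ω hω2 hωP hiso)
  haveI := hNn
  set ν : P5 →* (TT ψ ⧸ Z) := τY.comp muM with hν
  have hνω : ∀ π, ν π * ω = ω * ν π := by
    intro π
    rcases (mu_facts π).2.2 with e | e
    · show τY (muM π) * τY wm = τY wm * τY (muM π)
      rw [← map_mul, ← map_mul]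
      exact congrArg τY (Subtype.ext e)
    · show τY (muM π) * τY wm = τY wm * τY (muM π)
      have : muM π * wm = wm * vm * muM π := Subtype.ext e
      rw [← map_mul, this, map_mul, map_mul, (hτ1 vm).2 (Or.inr rfl), mul_one]
  -- the model meets `N` trivially
  have hXN : ∀ p : Mv, τY p ∈ N → τY p = 1 := by
    intro p hp
    obtain ⟨π, k, hk, hpk⟩ := exists_Mv_split p
    have hcase : τY p = ν π ∨ τY p = ν π * ω := by
      have : p = muM π * ⟨k, K4_mem hk⟩ := Subtype.ext hpk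
      rw [this, map_mul]
      simp only [K4, List.mem_cons, List.not_mem_nil, or_false] at hk
      rcases hk with rfl | rfl | rfl | rfl
      · left; rw [show (⟨1, _⟩ : Mv) = 1 from rfl, map_one, mul_one]; rfl
      · left; rw [(hτ1 _).2 (Or.inr rfl), mul_one]; rfl
      · right; rfl
      · right
        rw [show (⟨w9 * v, _⟩ : Mv) = wm * vm from rfl, map_mul, (hτ1 vm).2 (Or.inr rfl), mul_one]
        rfl
    set K := N.comap ν with hK
    have hKbot : K = ⊥ := by
      refine odd_normal_P5 inferInstance ?_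
      have hinj : Function.Injective ν := (injective_iff_map_eq_one ν).2 fun a ha => by
        refine mu_sep a ?_
        rcases (hτ1 _).1 ha with h | h <;>
          rw [show mu a = _ from congrArg Subtype.val h] <;> simp [K4, hvm]
      have hd : Nat.card K ∣ Nat.card N := by
        rw [← Subgroup.card_map_of_injective (K := K) hinj]
        exact Subgroup.card_dvd_of_le (Subgroup.map_comap_le _ _)
      exact hNodd.of_dvd_nat hd
    rcases hcase with e | e
    · have : π ∈ K := by show ν π ∈ N; rw [← e]; exact hp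
      rw [hKbot, Subgroup.mem_bot] at this
      rw [e, this, map_one]
    · exfalso
      have h1 : (τY p) ^ Nat.card N = 1 := by
        have := pow_card_eq_one' (x := (⟨τY p, hp⟩ : N))
        exact congrArg Subtype.val this
      obtain ⟨m, hm⟩ := hNodd
      rw [e, (show Commute (ν π) ω from hνω π).mul_pow, ← map_pow,
        show ω ^ Nat.card N = ω by
          rw [hm, pow_succ, pow_mul, ← hω2, pow_orderOf_eq_one, one_pow, one_mul]] at h1
      have h2 : τY (muM (π ^ Nat.card N) * wm) = 1 := by rw [map_mul]; exact h1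
      have hmem : mu (π ^ Nat.card N) ∈ K4 := by
        rcases (hτ1 _).1 h2 with h | h
        · rw [eq_mul_inv_of_mul_eq (show mu (π ^ Nat.card N) * w9 = 1 from congrArg Subtype.val h)]
          decide +kernel
        · rw [eq_mul_inv_of_mul_eq (show mu (π ^ Nat.card N) * w9 = v from congrArg Subtype.val h)]
          decide +kernel
      rw [mu_sep _ hmem, map_one, one_mul] at h2
      rcases (hτ1 _).1 h2 with h | h
      · exact hwne.1 (congrArg Subtype.val h)
      · exact hwne.2 (congrArg Subtype.val h)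
  have hinR : ∀ k : TT ψ, (k : G) ∈ ψ.range → mk k ∈ N → mk k = 1 := by
    intro k hk hkN
    obtain ⟨p, rfl⟩ := S.exists_fT hk
    exact hXN p hkN
  have hfix : ∀ n ∈ N, ν a5 * n = n * ν a5 → n = 1 := by
    intro n hn hc
    obtain ⟨k, rfl⟩ := QuotientGroup.mk'_surjective Z n
    refine hinR k (S.vd_good ?_) hn
    have hmu : muM a5 = dm := Subtype.ext nd1
    obtain ⟨z, hz, ez⟩ := (QuotientGroup.mk'_eq_mk' Z).1
      (show mk (fT ψ dm) = mk (k * fT ψ dm * k⁻¹) by
        rw [map_mul, map_mul, map_inv, eq_mul_inv_iff_mul_eq, ← hmu]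
        exact hc)
    rcases hZmem z hz with rfl | rfl
    · left
      rw [mul_one] at ez
      exact (congrArg Subtype.val ez).symm
    · right
      rw [← map_mul] at ez
      exact (congrArg Subtype.val ez).symm
  have hinv : ∀ s : P5, s * s = 1 → (∀ n ∈ N, ν s * n = n * ν s → n = 1) →
      ∀ n ∈ N, ν s * n * (ν s)⁻¹ = n⁻¹ := by
    intro s hs hf n hn
    let c : N →* N := (MulAut.conjNormal (ν s) : MulAut N).toMonoidHom
    have hcv : ∀ x : N, ((c x : N) : TT ψ ⧸ Z) = ν s * x * (ν s)⁻¹ := fun x =>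
      MulAut.conjNormal_apply _ _
    have hfp : MonoidHom.FixedPointFree c := fun x hx => Subtype.ext (hf x x.2 (by
      have := congrArg Subtype.val hx
      rw [hcv] at this
      exact mul_inv_eq_iff_eq_mul.1 this))
    have hss : ν s * ν s = 1 := by rw [← map_mul, hs, map_one]
    have hi : Function.Involutive c := fun x => Subtype.ext (by
      rw [hcv, hcv, show (ν s : TT ψ ⧸ Z)⁻¹ = ν s from inv_eq_of_mul_eq_one_right hss]
      calc ν s * (ν s * (x : TT ψ ⧸ Z) * ν s) * ν s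
          = (ν s * ν s) * x * (ν s * ν s) := by group
        _ = x := by rw [hss, one_mul, mul_one])
    have h := congrArg Subtype.val (congrFun (hfp.coe_eq_inv_of_involutive hi) ⟨n, hn⟩)
    rw [hcv] at h
    exact h
  have hfixb : ∀ n ∈ N, ν b5 * n = n * ν b5 → n = 1 := by
    intro n hn hc
    have e : ν a5 = ν h5' * ν b5 * (ν h5')⁻¹ := by
      rw [← map_inv, ← map_mul, ← map_mul]
      exact congrArg ν (by decide +kernel)
    have := hfix (ν h5' * n * (ν h5')⁻¹) (hNn.conj_mem n hn _) (by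
      rw [e]
      calc ν h5' * ν b5 * (ν h5')⁻¹ * (ν h5' * n * (ν h5')⁻¹)
          = ν h5' * (ν b5 * n) * (ν h5')⁻¹ := by group
        _ = ν h5' * (n * ν b5) * (ν h5')⁻¹ := by rw [hc]
        _ = _ := by group)
    exact conj_eq_one_iff.1 this
  have hr : r5 ∈ (Subgroup.centralizer (N : Set (TT ψ ⧸ Z))).comap ν := by
    set K2 := (Subgroup.centralizer (N : Set (TT ψ ⧸ Z))).comap ν with hK2
    haveI : IsSimpleGroup (alternatingGroup (Fin 5)) := alternatingGroup.isSimpleGroup_five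
    have hu : a5 * b5 ∈ K2 := by
      rw [hK2, Subgroup.mem_comap, Subgroup.mem_centralizer_iff]
      intro n hn
      have ha := hinv a5 (by decide +kernel) hfix
      have hb := hinv b5 (by decide +kernel) hfixb
      have : ν (a5 * b5) * n * (ν (a5 * b5))⁻¹ = n := by
        rw [map_mul, show ν a5 * ν b5 * n * (ν a5 * ν b5)⁻¹ =
          ν a5 * (ν b5 * n * (ν b5)⁻¹) * (ν a5)⁻¹ by group, hb n hn, ha _ (inv_mem hn), inv_inv]
      exact (mul_inv_eq_iff_eq_mul.1 this).symm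
    rcases IsSimpleGroup.eq_bot_or_eq_top_of_normal _
      (inferInstance : (K2.subgroupOf (alternatingGroup (Fin 5))).Normal) with e | e
    · exfalso
      have h1 : (⟨a5 * b5, Perm.mem_alternatingGroup.2 (by decide +kernel)⟩ :
          alternatingGroup (Fin 5)) ∈ K2.subgroupOf (alternatingGroup (Fin 5)) := hu
      rw [e, Subgroup.mem_bot] at h1
      exact absurd (congrArg Subtype.val h1) (by decide +kernel : a5 * b5 ≠ 1)
    · exact Subgroup.subgroupOf_eq_top.1 e (Perm.mem_alternatingGroup.2 (by decide +kernel))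
  have hNbot : ∀ n ∈ N, n = 1 := by
    intro n hn
    obtain ⟨k, rfl⟩ := QuotientGroup.mk'_surjective Z n
    refine hinR k ?_ hn
    have hc := Subgroup.mem_centralizer_iff.1 hr _ hn
    obtain ⟨z, hz, ez⟩ := (QuotientGroup.mk'_eq_mk' Z).1
      (show mk (fT ψ (muM r5)) = mk (k * fT ψ (muM r5) * k⁻¹) by
        rw [map_mul, map_mul, map_inv, eq_mul_inv_iff_mul_eq]
        exact hc.symm)
    obtain ⟨kp, hkp, rfl⟩ : ∃ p : Mv, (p : P9) ∈ K4 ∧ z = fT ψ p := by
      rcases hZmem z hz with h | h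
      · exact ⟨1, by simp [K4], h.trans (map_one _).symm⟩
      · exact ⟨vm, hvK, h⟩
    have hr3 : muM r5 ^ 3 = 1 := Subtype.ext (by
      show mu r5 ^ 3 = 1
      rw [← map_pow, show r5 ^ 3 = 1 by decide +kernel, map_one])
    have h3 : (muM r5 * kp) ^ 3 = 1 := S.fT_inj (by
      rw [map_pow, map_mul, ez, conj_pow, ← map_pow, hr3, map_one, mul_one, mul_inv_cancel])
    have hk1 : kp = 1 := Subtype.ext (r5_split _ hkp (congrArg Subtype.val h3))
    rw [hk1, map_one, mul_one] at ez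
    have ho : orderOf (mu r5) = 3 :=
      haveI : Fact (Nat.Prime 3) := ⟨by norm_num⟩
      orderOf_eq_prime (congrArg Subtype.val hr3) (by decide +kernel)
    exact S.good3 ho (Subgroup.mem_centralizer_singleton_iff.2
      (mul_inv_eq_iff_eq_mul.1 (congrArg Subtype.val ez).symm))
  -- conclusion
  have hcen : ω * mk g * ω⁻¹ * (mk g)⁻¹ = 1 := hNbot _ (hNω (mk g))
  have hg' : mk (g * fT ψ wm * g⁻¹) = mk (fT ψ wm) := by
    rw [map_mul, map_mul, map_inv]
    change mk g * ω * (mk g)⁻¹ = ω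
    rw [mul_inv_eq_one] at hcen
    rw [mul_inv_eq_iff_eq_mul, ← mul_inv_eq_iff_eq_mul.1 hcen]
  obtain ⟨z, hz, ez⟩ := (QuotientGroup.mk'_eq_mk' Z).1 hg'.symm
  rcases hZmem z hz with rfl | rfl
  · left
    rw [mul_one] at ez
    exact (congrArg Subtype.val ez).symm
  · right
    rw [← map_mul] at ez
    exact (congrArg Subtype.val ez).symm

/-- The centraliser of the double involution lies in the copy. -/
theorem cent_v : Subgroup.centralizer ({φ ⟨v, v_mem⟩} : Set G) ≤ ψ.range := by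
  classical
  rw [← S.im_H v_mem]
  have hwK : w9 ∈ K4 := by simp [K4]
  set K : Subgroup Mv :=
    { carrier := {p | (p : P9) ∈ K4}
      one_mem' := by simp [K4]
      mul_mem' := fun {a b} ha hb => K4_mul _ ha _ hb
      inv_mem' := fun {a} ha => by
        show ((a⁻¹ : Mv) : P9) ∈ K4
        rw [Subgroup.coe_inv, inv_eq_of_mul_eq_one_right (K4_facts _ ha).2.2]
        exact ha } with hK
  set V : Subgroup (TT ψ) := K.map (fT ψ) with hV
  have hvm : fT ψ ⟨v, K4_mem (by simp [K4])⟩ ∈ V := ⟨_, show v ∈ K4 by simp [K4], rfl⟩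
  have hwm : fT ψ ⟨w9, K4_mem hwK⟩ ∈ V := ⟨_, hwK, rfl⟩
  haveI hVn : V.Normal := ⟨fun n hn g => by
    obtain ⟨p, hp, rfl⟩ := hn
    have hv' : g * fT ψ ⟨v, K4_mem (by simp [K4])⟩ * g⁻¹ ∈ V := by
      rw [show g * fT ψ ⟨v, K4_mem (by simp [K4])⟩ * g⁻¹ = fT ψ ⟨v, K4_mem (by simp [K4])⟩ from
        Subtype.ext (mul_inv_eq_iff_eq_mul.2 (mem_TT.1 g.2))]
      exact hvm
    have hw' : g * fT ψ ⟨w9, K4_mem hwK⟩ * g⁻¹ ∈ V := by
      rcases S.fix_w g with e | e
      · rw [show g * fT ψ ⟨w9, K4_mem hwK⟩ * g⁻¹ = fT ψ ⟨w9, K4_mem hwK⟩ from Subtype.ext e]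
        exact hwm
      · rw [show g * fT ψ ⟨w9, K4_mem hwK⟩ * g⁻¹ =
          fT ψ ⟨w9 * v, K4_mem (by simp [K4])⟩ from Subtype.ext e]
        exact ⟨_, show w9 * v ∈ K4 by simp [K4], rfl⟩
    have hp' : (p : P9) ∈ K4 := hp
    simp only [K4, List.mem_cons, List.not_mem_nil, or_false] at hp'
    rcases hp' with h | h | h | h
    · rw [show p = 1 from Subtype.ext h, map_one, mul_one, mul_inv_cancel]
      exact one_mem _
    · rw [show p = ⟨v, K4_mem (by simp [K4])⟩ from Subtype.ext h]; exact hv'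
    · rw [show p = ⟨w9, K4_mem hwK⟩ from Subtype.ext h]; exact hw'
    · rw [show p = ⟨w9, K4_mem hwK⟩ * ⟨v, K4_mem (by simp [K4])⟩ from Subtype.ext h, map_mul,
        show g * (fT ψ ⟨w9, K4_mem hwK⟩ * fT ψ ⟨v, K4_mem (by simp [K4])⟩) * g⁻¹ =
          g * fT ψ ⟨w9, K4_mem hwK⟩ * g⁻¹ * (g * fT ψ ⟨v, K4_mem (by simp [K4])⟩ * g⁻¹) by group]
      exact mul_mem hw' hv'⟩
  let μ : P5 →* TT ψ ⧸ V := (QuotientGroup.mk' V).comp ((fT ψ).comp muM)
  have hμ : Function.Injective μ := (injective_iff_map_eq_one μ).2 fun π hπ => by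
    obtain ⟨p, hp, e⟩ := (QuotientGroup.eq_one_iff _).1 hπ
    exact mu_sep π (show ((muM π : Mv) : P9) ∈ K4 from S.fT_inj e ▸ hp)
  have lift : ∀ (k : TT ψ) (a b : P5),
      QuotientGroup.mk' V k * μ a * (QuotientGroup.mk' V k)⁻¹ = μ b →
      ∃ p : Mv, (p : P9) ∈ K4 ∧ k * fT ψ (muM a) * k⁻¹ = fT ψ (muM b * p) := by
    intro k a b h
    obtain ⟨w, ⟨p, hp, rfl⟩, e⟩ := (QuotientGroup.mk'_eq_mk' V).1
      (show QuotientGroup.mk' V (fT ψ (muM b)) = QuotientGroup.mk' V (k * fT ψ (muM a) * k⁻¹) by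
        rw [map_mul, map_mul, map_inv]; exact h.symm)
    exact ⟨p, hp, by rw [← e, map_mul]⟩
  have inRange : ∀ k : TT ψ, (k : G) ∈ ψ.range → QuotientGroup.mk' V k ∈ μ.range := by
    intro k hk
    obtain ⟨p, rfl⟩ := S.exists_fT hk
    obtain ⟨π, c, hc, hpc⟩ := exists_Mv_split p
    refine ⟨π, (QuotientGroup.mk'_eq_mk' V).2 ⟨fT ψ ⟨c, K4_mem hc⟩, ⟨_, hc, rfl⟩, ?_⟩⟩
    rw [show p = muM π * ⟨c, K4_mem hc⟩ from Subtype.ext hpc, map_mul]
    rfl
  have hmu5 : ((muM a5 : Mv) : P9) = d := named.1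
  have hdd : d * d = 1 := by decide +kernel
  obtain ⟨-, -, -, -, -, nd6, nd7, -⟩ := named
  have hz : ∀ t, t * μ a5 = μ a5 * t → t ∈ μ.range := by
    intro t ht
    obtain ⟨k, rfl⟩ := QuotientGroup.mk'_surjective V t
    obtain ⟨p, hp, e⟩ := lift k a5 a5 (by rw [ht, mul_inv_cancel_right])
    have h2 := (S.types (σ := muM a5) (by rw [hmu5]; exact hdd) (by rw [hmu5]; exact nd6)
      (by rw [hmu5]; exact nd7) e).1
    refine inRange k (S.vd_good ?_)
    have e' : (k : G) * im ψ ((muM a5 : Mv) : P9) * (k : G)⁻¹ =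
        im ψ (((muM a5 : Mv) : P9) * (p : P9)) := congrArg Subtype.val e
    rw [Subgroup.coe_mul, hmu5] at h2
    rw [hmu5] at e'
    rcases a5_split _ hp h2 with h | h <;> rw [h] at e'
    · left; rwa [mul_one] at e'
    · right; exact e'
  have hr : ∀ t, t * μ r5 = μ r5 * t → t ∈ μ.range := by
    intro t ht
    obtain ⟨k, rfl⟩ := QuotientGroup.mk'_surjective V t
    obtain ⟨p, hp, e⟩ := lift k r5 r5 (by rw [ht, mul_inv_cancel_right])
    have hr3 : muM r5 ^ 3 = 1 := Subtype.ext (by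
      show mu r5 ^ 3 = 1
      rw [← map_pow, show r5 ^ 3 = 1 by decide +kernel, map_one])
    have h3 : (muM r5 * p) ^ 3 = 1 := S.fT_inj (by
      rw [map_pow, ← e, conj_pow, ← map_pow, hr3, map_one, mul_one, mul_inv_cancel])
    rw [show p = 1 from Subtype.ext (r5_split _ hp (congrArg Subtype.val h3)), mul_one] at e
    have ho : orderOf (mu r5) = 3 :=
      haveI : Fact (Nat.Prime 3) := ⟨by norm_num⟩
      orderOf_eq_prime (congrArg Subtype.val hr3) (by decide +kernel)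
    exact inRange k (S.good3 ho (Subgroup.mem_centralizer_singleton_iff.2
      (mul_inv_eq_iff_eq_mul.1 (congrArg Subtype.val e))))
  have hne : ∀ t, t * μ a5 * t⁻¹ ≠ μ (a5 * b5) := by
    intro t ht
    obtain ⟨k, rfl⟩ := QuotientGroup.mk'_surjective V t
    obtain ⟨p, hp, e⟩ := lift k a5 (a5 * b5) ht
    obtain ⟨-, h4, h4'⟩ := S.types (σ := muM a5) (by rw [hmu5]; exact hdd)
      (by rw [hmu5]; exact nd6) (by rw [hmu5]; exact nd7) e
    rcases u9_split _ hp with h | h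
    · exact h h4
    · exact h h4'
  intro g hg
  obtain ⟨π, hπ⟩ := five_of_local μ hμ hz hr hne (QuotientGroup.mk' V ⟨g, hg⟩)
  obtain ⟨w, ⟨p, hp, rfl⟩, e⟩ := (QuotientGroup.mk'_eq_mk' V).1 hπ
  have := congrArg Subtype.val e
  rw [← show im ψ (mu π) * im ψ (p : P9) = g from this]
  exact mul_mem (im_mem _) (im_mem _)

end Setting

end Cfsg.Agent.A9End52
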