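import Mathlib

set_option autoImplicit false

namespace Cfsg.Agent.TwoInvolutions

variable {G : Type*} [Group G] {x y : G}

theorem mul_self_of_orderOf (hx : orderOf x = 2) : x * x = 1 := by
  have := pow_orderOf_eq_one x
  rwa [hx, pow_two] at this

theorem inv_eq_of_orderOf (hx : orderOf x = 2) : x⁻¹ = x :=
  inv_eq_of_mul_eq_one_right (mul_self_of_orderOf hx)

theorem conj_zpow (hx : orderOf x = 2) (hy : orderOf y = 2) (k : ℤ) :
    x * (x * y) ^ k * x = (x * y) ^ (-k) := by
  have h : x * (x * y) * x⁻¹ = (x * y)⁻¹ := by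
    rw [mul_inv_rev, inv_eq_of_orderOf hx, inv_eq_of_orderOf hy, ← mul_assoc,
      mul_self_of_orderOf hx, one_mul]
  have h2 := _root_.conj_zpow (a := x) (b := x * y) (i := k)
  rw [h, inv_zpow, inv_eq_of_orderOf hx, ← zpow_neg] at h2
  exact h2.symm

theorem zpow_mul_self (hx : orderOf x = 2) (hy : orderOf y = 2) (k : ℤ) :
    (x * y) ^ k * x = x * (x * y) ^ (-k) := by
  conv_lhs => rw [← one_mul ((x * y) ^ k), ← mul_self_of_orderOf hx]
  rw [mul_assoc, mul_assoc, ← mul_assoc x ((x*y)^k) x, conj_zpow hx hy]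

theorem mem_closure_pair (hx : orderOf x = 2) (hy : orderOf y = 2) {d : G}
    (hd : d ∈ Subgroup.closure ({x, y} : Set G)) :
    ∃ k : ℤ, d = (x * y) ^ k ∨ d = x * (x * y) ^ k := by
  have hxx := mul_self_of_orderOf hx
  induction hd using Subgroup.closure_induction with
  | mem a ha =>
    rcases ha with rfl | rfl
    · exact ⟨0, .inr (by simp)⟩
    · exact ⟨1, .inr (by rw [zpow_one, ← mul_assoc, hxx, one_mul])⟩
  | one => exact ⟨0, .inl (by simp)⟩
  | mul a b _ _ iha ihb =>
    obtain ⟨i, rfl | rfl⟩ := iha <;> obtain ⟨j, rfl | rfl⟩ := ihb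
    · exact ⟨i + j, .inl (zpow_add _ _ _).symm⟩
    · exact ⟨-i + j, .inr (by rw [← mul_assoc, zpow_mul_self hx hy, zpow_add]; group)⟩
    · exact ⟨i + j, .inr (by rw [zpow_add, mul_assoc])⟩
    · exact ⟨-i + j, .inl (by rw [← mul_assoc, conj_zpow hx hy, zpow_add])⟩
  | inv a _ iha =>
    obtain ⟨i, rfl | rfl⟩ := iha
    · exact ⟨-i, .inl (zpow_neg _ _).symm⟩
    · exact ⟨i, .inr (by
        rw [mul_inv_rev, inv_eq_of_orderOf hx, ← zpow_neg, zpow_mul_self hx hy, neg_neg])⟩

theorem zpow_mem_closure (k : ℤ) : (x * y) ^ k ∈ Subgroup.closure ({x, y} : Set G) :=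
  Subgroup.zpow_mem _ (Subgroup.mul_mem _ (Subgroup.subset_closure (by simp))
    (Subgroup.subset_closure (by simp))) k

theorem mem_closure_pair_iff (hx : orderOf x = 2) (hy : orderOf y = 2) {d : G} :
    d ∈ Subgroup.closure ({x, y} : Set G) ↔
      ∃ k : ℤ, d = (x * y) ^ k ∨ d = x * (x * y) ^ k := by
  refine ⟨mem_closure_pair hx hy, ?_⟩
  rintro ⟨k, rfl | rfl⟩
  · exact zpow_mem_closure k
  · exact Subgroup.mul_mem _ (Subgroup.subset_closure (by simp)) (zpow_mem_closure k)

/-- The conjugates of `x` in the dihedral group are the `x * (x*y)^(2k)`. -/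
theorem exists_conj_iff (hx : orderOf x = 2) (hy : orderOf y = 2) (w : G) :
    (∃ d ∈ Subgroup.closure ({x, y} : Set G), d * x * d⁻¹ = w) ↔
      ∃ k : ℤ, w = x * (x * y) ^ (2 * k) := by
  constructor
  · rintro ⟨d, hd, rfl⟩
    obtain ⟨k, rfl | rfl⟩ := mem_closure_pair hx hy hd
    · exact ⟨-k, by rw [zpow_mul_self hx hy, mul_assoc, ← zpow_neg, ← zpow_add]; ring_nf⟩
    · refine ⟨k, ?_⟩
      rw [mul_inv_rev, mul_assoc x, zpow_mul_self hx hy, ← mul_assoc x x,
        mul_self_of_orderOf hx, one_mul, ← mul_assoc, ← zpow_neg, ← zpow_add,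
        inv_eq_of_orderOf hx, zpow_mul_self hx hy]
      ring_nf
  · rintro ⟨k, rfl⟩
    refine ⟨(x * y) ^ (-k), zpow_mem_closure _, ?_⟩
    rw [zpow_mul_self hx hy, mul_assoc, ← zpow_neg, ← zpow_add]
    ring_nf

theorem eq_x_mul_zpow_one (hx : orderOf x = 2) : y = x * (x * y) ^ (1 : ℤ) := by
  rw [zpow_one, ← mul_assoc, mul_self_of_orderOf hx, one_mul]

theorem conj_iff_odd (hx : orderOf x = 2) (hy : orderOf y = 2) :
    (∃ d ∈ Subgroup.closure ({x, y} : Set G), d * x * d⁻¹ = y) ↔ Odd (orderOf (x * y)) := by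
  rw [exists_conj_iff hx hy]
  constructor
  · rintro ⟨k, hk⟩
    have h : (x * y) ^ (1 : ℤ) = (x * y) ^ (2 * k) :=
      mul_left_cancel ((eq_x_mul_zpow_one (y := y) hx).symm.trans hk)
    rw [zpow_eq_zpow_iff_modEq] at h
    rcases Nat.even_or_odd (orderOf (x * y)) with he | ho
    · exfalso
      obtain ⟨m, hm⟩ := he
      obtain ⟨c, hc⟩ := h.dvd
      rw [hm] at hc
      push_cast at hc
      have : (2 : ℤ) ∣ 1 := ⟨k - (m : ℤ) * c, by linarith⟩
      norm_num at this
    · exact ho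
  · rintro ⟨m, hm⟩
    refine ⟨(m + 1 : ℤ), ?_⟩
    have : (x * y) ^ (1 : ℤ) = (x * y) ^ (2 * (m + 1 : ℤ)) := by
      rw [zpow_eq_zpow_iff_modEq]
      exact Int.modEq_iff_dvd.2 ⟨1, by rw [hm]; push_cast; ring⟩
    rw [← this]
    exact eq_x_mul_zpow_one hx

theorem half_props [Finite G] (hx : orderOf x = 2) (hy : orderOf y = 2)
    (heven : Even (orderOf (x * y))) :
    orderOf ((x * y) ^ (orderOf (x * y) / 2)) = 2 ∧
      Commute ((x * y) ^ (orderOf (x * y) / 2)) x ∧
      Commute ((x * y) ^ (orderOf (x * y) / 2)) y := by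
  obtain ⟨m, hm⟩ := heven
  have hpos := orderOf_pos (x * y)
  have hhalf : orderOf (x * y) / 2 = m := by omega
  rw [hhalf]
  have hcx : Commute ((x * y) ^ m) x := by
    show (x * y) ^ m * x = x * (x * y) ^ m
    rw [← zpow_natCast, zpow_mul_self hx hy]
    congr 1
    rw [zpow_eq_zpow_iff_modEq]
    exact Int.modEq_iff_dvd.2 ⟨1, by rw [hm]; push_cast; ring⟩
  refine ⟨?_, hcx, ?_⟩
  · rw [orderOf_pow' _ (by omega : m ≠ 0), hm,
      Nat.gcd_eq_right ⟨2, by omega⟩]
    rw [show m + m = m * 2 by omega, Nat.mul_div_cancel_left _ (by omega)]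
  · have h1 : Commute ((x * y) ^ m) (x * (x * y)) :=
      hcx.mul_right (Commute.pow_self _ _)
    rwa [← mul_assoc, mul_self_of_orderOf hx, one_mul] at h1

theorem orderOf_eq_two_of_not_mem_zpowers (hx : orderOf x = 2) (hy : orderOf y = 2)
    (hxy : x ≠ y) {d : G} (hd : d ∈ Subgroup.closure ({x, y} : Set G))
    (hd' : d ∉ Subgroup.zpowers (x * y)) : orderOf d = 2 := by
  have _ := hxy
  obtain ⟨k, rfl | rfl⟩ := mem_closure_pair hx hy hd
  · exact absurd (Subgroup.zpow_mem_zpowers _ _) hd'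
  · refine orderOf_eq_prime (p := 2) ?_ ?_
    · rw [pow_two, ← mul_assoc, conj_zpow hx hy, ← zpow_add, neg_add_cancel, zpow_zero]
    · intro h
      exact hd' (h ▸ one_mem _)

theorem x_mul_half_conj_iff [Finite G] (hx : orderOf x = 2) (hy : orderOf y = 2)
    (heven : Even (orderOf (x * y))) :
    (∃ d ∈ Subgroup.closure ({x, y} : Set G),
      d * x * d⁻¹ = x * (x * y) ^ (orderOf (x * y) / 2)) ↔ 4 ∣ orderOf (x * y) := by
  rw [exists_conj_iff hx hy]
  obtain ⟨m, hm⟩ := heven
  have hhalf : orderOf (x * y) / 2 = m := by omega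
  rw [hhalf]
  constructor
  · rintro ⟨k, hk⟩
    have h := mul_left_cancel hk
    rw [← zpow_natCast, zpow_eq_zpow_iff_modEq] at h
    obtain ⟨c, hc⟩ := h.dvd
    rw [hm] at hc
    push_cast at hc
    have h2 : (2 : ℤ) ∣ (m : ℤ) := ⟨k - (m : ℤ) * c, by linarith⟩
    omega
  · rintro ⟨c, hc⟩
    refine ⟨(c : ℤ), ?_⟩
    rw [← zpow_natCast]
    congr 2
    omega

/-- If the product of two involutions has even order, then `x` times the central involution is
conjugate to `x` or to `y`. -/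
theorem x_mul_half_conj [Finite G] (hx : orderOf x = 2) (hy : orderOf y = 2)
    (heven : Even (orderOf (x * y))) :
    ∃ d ∈ Subgroup.closure ({x, y} : Set G),
      x * (x * y) ^ (orderOf (x * y) / 2) = d * x * d⁻¹ ∨
      x * (x * y) ^ (orderOf (x * y) / 2) = d * y * d⁻¹ := by
  obtain ⟨m, hm⟩ := heven
  have hhalf : orderOf (x * y) / 2 = m := by omega
  rw [hhalf, ← zpow_natCast]
  rcases Nat.even_or_odd m with ⟨k, hk⟩ | ⟨k, hk⟩
  · refine ⟨(x * y) ^ (-(k : ℤ)), zpow_mem_closure _, .inl ?_⟩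
    rw [zpow_mul_self hx hy, mul_assoc, ← zpow_neg, ← zpow_add]
    congr 2
    omega
  · refine ⟨(x * y) ^ (-(k : ℤ)), zpow_mem_closure _, .inr ?_⟩
    conv_rhs => arg 1; arg 2; rw [eq_x_mul_zpow_one (y := y) hx]
    rw [← mul_assoc, zpow_mul_self hx hy, mul_assoc, mul_assoc, ← zpow_neg, ← zpow_add,
      ← zpow_add]
    congr 2
    omega

noncomputable def dihedralHom (hx : orderOf x = 2) (hy : orderOf y = 2) :
    DihedralGroup (orderOf (x * y)) →* G where
  toFun
    | .r i => (x * y) ^ (i.cast : ℤ)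
    | .sr i => x * (x * y) ^ (i.cast : ℤ)
  map_one' := by
    show (x * y) ^ ((0 : ZMod (orderOf (x * y))).cast : ℤ) = 1
    simp
  map_mul' := by
    intro a b
    have key : ∀ (u v : ℤ), (u : ZMod (orderOf (x * y))) = (v : ZMod (orderOf (x * y))) →
        (x * y) ^ u = (x * y) ^ v := fun u v h => by
      rw [zpow_eq_zpow_iff_modEq]
      exact (ZMod.intCast_eq_intCast_iff u v _).1 h
    rcases a with i | i <;> rcases b with j | j
    · show (x * y) ^ ((i + j).cast : ℤ) = _
      rw [← zpow_add]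
      exact key _ _ (by simp)
    · show x * (x * y) ^ ((j - i).cast : ℤ) = _
      rw [← mul_assoc, zpow_mul_self hx hy, mul_assoc, ← zpow_add]
      exact congrArg _ (key _ _ (by simp; ring))
    · show x * (x * y) ^ ((i + j).cast : ℤ) = _
      rw [mul_assoc, ← zpow_add]
      exact congrArg _ (key _ _ (by simp))
    · show (x * y) ^ ((j - i).cast : ℤ) = _
      rw [← mul_assoc, conj_zpow hx hy, ← zpow_add]
      exact key _ _ (by simp; ring)

theorem not_mem_zpowers (hx : orderOf x = 2) (hy : orderOf y = 2) (hxy : x ≠ y) :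
    x ∉ Subgroup.zpowers (x * y) := by
  rintro ⟨k, hk⟩
  simp only at hk
  have hc : Commute x (x * y) := by
    conv_lhs => rw [← hk]
    exact (Commute.refl _).zpow_left k
  have hcy : Commute x y := by
    have := (Commute.refl x).inv_right.mul_right hc
    simpa using this
  have hsq : (x * y) ^ (2 : ℤ) = 1 := by
    rw [zpow_two, mul_assoc, ← mul_assoc y x y, ← hcy.eq, mul_assoc x y y,
      mul_self_of_orderOf hy, mul_one, mul_self_of_orderOf hx]
  have hne : x ≠ 1 := fun h => by simp [h] at hx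
  rcases Int.even_or_odd k with ⟨m, hm⟩ | ⟨m, hm⟩
  · apply hne
    rw [← hk, hm, ← two_mul, zpow_mul, hsq, one_zpow]
  · rw [hm, zpow_add, zpow_mul, hsq, one_zpow, one_mul, zpow_one] at hk
    have : y = 1 := by simpa using hk
    simp [this] at hy

theorem dihedralHom_injective (hx : orderOf x = 2) (hy : orderOf y = 2) (hxy : x ≠ y) :
    Function.Injective (dihedralHom hx hy) := by
  rw [injective_iff_map_eq_one]
  rintro (i | i) h
  · have h' : (x * y) ^ (i.cast : ℤ) = 1 := h
    rw [← orderOf_dvd_iff_zpow_eq_one, ← ZMod.intCast_zmod_eq_zero_iff_dvd,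
      ZMod.intCast_zmod_cast] at h'
    rw [h', DihedralGroup.one_def]
  · have h' : x * (x * y) ^ (i.cast : ℤ) = 1 := h
    refine absurd ⟨-(i.cast : ℤ), ?_⟩ (not_mem_zpowers hx hy hxy)
    show (x * y) ^ (-(i.cast : ℤ)) = x
    rw [zpow_neg, ← eq_inv_of_mul_eq_one_left h']

theorem dihedralHom_range (hx : orderOf x = 2) (hy : orderOf y = 2) :
    (dihedralHom hx hy).range = Subgroup.closure ({x, y} : Set G) := by
  apply le_antisymm
  · rintro _ ⟨(i | i), rfl⟩
    · exact zpow_mem_closure _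
    · exact Subgroup.mul_mem _ (Subgroup.subset_closure (by simp)) (zpow_mem_closure _)
  · rw [Subgroup.closure_le]
    rintro w (rfl | rfl)
    · exact ⟨.sr 0, by show w * (w * y) ^ ((0 : ZMod _).cast : ℤ) = w; simp⟩
    · refine ⟨.sr 1, ?_⟩
      show x * (x * w) ^ ((1 : ZMod (orderOf (x * w))).cast : ℤ) = w
      conv_rhs => rw [eq_x_mul_zpow_one (y := w) hx]
      congr 1
      rw [zpow_eq_zpow_iff_modEq, ← ZMod.intCast_eq_intCast_iff, ZMod.intCast_zmod_cast]
      simp

/-- Two distinct involutions generate a dihedral group. -/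
theorem nonempty_mulEquiv_dihedral (hx : orderOf x = 2) (hy : orderOf y = 2) (hxy : x ≠ y) :
    Nonempty (↥(Subgroup.closure ({x, y} : Set G)) ≃* DihedralGroup (orderOf (x * y))) :=
  ⟨((MonoidHom.ofInjective (dihedralHom_injective hx hy hxy)).trans
    (MulEquiv.subgroupCongr (dihedralHom_range hx hy))).symm⟩

/-- A Sylow subgroup containing at most one conjugate of an involution `u`
characterises isolation. -/
theorem eq_of_commute_of_isolated [Finite G] (P : Sylow 2 G) {u v : G} (hu : orderOf u = 2)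
    (hiso : ∀ g : G, g * u * g⁻¹ ∈ P → g * u * g⁻¹ = u) (huP : u ∈ P)
    (hv : IsConj u v) (hc : Commute u v) : v = u := by
  have hv2 : orderOf v = 2 := by
    obtain ⟨c, rfl⟩ := isConj_iff.1 hv
    rw [← hu]
    exact orderOf_injective (MulAut.conj c).toMonoidHom (MulAut.conj c).injective u
  by_contra hne
  have hord : orderOf (u * v) = 2 := by
    refine orderOf_eq_prime (p := 2) ?_ ?_
    · rw [hc.mul_pow, pow_two, pow_two, mul_self_of_orderOf hu, mul_self_of_orderOf hv2,
        one_mul]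
    · intro h
      exact hne ((eq_inv_of_mul_eq_one_right h).trans (inv_eq_of_orderOf hu))
  have hD : IsPGroup 2 ↥(Subgroup.closure ({u, v} : Set G)) := by
    obtain ⟨e⟩ := nonempty_mulEquiv_dihedral hu hv2 (Ne.symm hne)
    refine IsPGroup.of_card (n := 2) ?_
    rw [Nat.card_congr e.toEquiv, DihedralGroup.nat_card, hord]
    norm_num
  obtain ⟨Q, hQ⟩ := hD.exists_le_sylow
  obtain ⟨g, hg⟩ := MulAction.exists_smul_eq G Q P
  have hmem : ∀ w, w ∈ Q → g * w * g⁻¹ ∈ P := by
    intro w hw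
    rw [← hg, ← SetLike.mem_coe, Sylow.coe_smul]
    exact ⟨w, hw, rfl⟩
  have h1 := hiso g (hmem u (hQ (Subgroup.subset_closure (by simp))))
  have h2 : g * v * g⁻¹ = u := by
    obtain ⟨c, hc'⟩ := isConj_iff.1 hv
    have h3 := hmem v (hQ (Subgroup.subset_closure (by simp)))
    have h4 : g * v * g⁻¹ = (g * c) * u * (g * c)⁻¹ := by rw [← hc']; group
    rw [h4] at h3 ⊢
    exact hiso _ h3
  exact hne (by simpa using h2.trans h1.symm)

end Cfsg.Agent.TwoInvolutions
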