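import Mathlib
import Cfsg.Agent.S3224
import Cfsg.Agent.S3331
import Cfsg.Agent.Lib.TransferThompson
import Cfsg.Agent.Lib.PSpAmalgam31Inv

/-!
A group containing the symmetric group of degree five with a transposition and a cycle of length
three having their centralisers inside it.
-/

set_option autoImplicit false

namespace Cfsg.Agent.S9End37

open Equiv

abbrev P5 := Equiv.Perm (Fin 5)

def a5 : P5 := swap 0 1
def b5 : P5 := swap 2 3
def r5 : P5 := swap 0 1 * swap 1 2

/-- The four group generated by two disjoint transpositions. -/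
def E5 : Subgroup P5 where
  carrier := {1, a5, b5, a5 * b5}
  one_mem' := Or.inl rfl
  mul_mem' := by
    intro x y hx hy
    simp only [Set.mem_insert_iff, Set.mem_singleton_iff] at hx hy ⊢
    rcases hx with rfl | rfl | rfl | rfl <;> rcases hy with rfl | rfl | rfl | rfl <;> decide +kernel
  inv_mem' := by
    intro x hx
    simp only [Set.mem_insert_iff, Set.mem_singleton_iff] at hx ⊢
    rcases hx with rfl | rfl | rfl | rfl <;> decide +kernel

theorem mem_E5 {x : P5} : x ∈ E5 ↔ x = 1 ∨ x = a5 ∨ x = b5 ∨ x = a5 * b5 := Iff.rfl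

theorem card_E5 : Nat.card E5 = 4 := by
  have h : (E5 : Set P5) = (([1, a5, b5, a5 * b5] : List P5).toFinset : Set P5) := by
    ext x; simp [mem_E5]
  show Nat.card (E5 : Set P5) = 4
  rw [h, Nat.card_coe_set_eq, Set.ncard_coe_finset]
  decide +kernel

theorem card_cent_a5 : Nat.card {π : P5 // π * a5 = a5 * π} = 12 := by
  rw [Nat.card_eq_fintype_card]
  decide +kernel

theorem card_cent_b5 : Nat.card {π : P5 // π * b5 = b5 * π} = 12 := by
  rw [Nat.card_eq_fintype_card]
  decide +kernel

theorem cent_r5 : ∀ π : P5, π * r5 = r5 * π → Equiv.Perm.sign π = 1 →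
    π = 1 ∨ π = r5 ∨ π = r5 * r5 := by decide +kernel

theorem two_pow_le_four {N n : ℕ} (h : N = 2 ^ n) (hd : N ∣ 12) : N ≤ 4 := by
  rcases Nat.lt_or_ge n 3 with hn | hn
  · rw [h]
    calc 2 ^ n ≤ 2 ^ 2 := Nat.pow_le_pow_right (by norm_num) (by omega)
      _ = 4 := by norm_num
  · exfalso
    have : 2 ^ 3 ∣ 12 := ((Nat.pow_dvd_pow 2 hn).trans (h ▸ hd))
    norm_num at this

theorem eq_of_pow_two {T : Type*} [Group T] {x w : T} (hw : w ∈ Subgroup.zpowers x)
    (hfin : IsOfFinOrder x) (h2 : orderOf w = 2) : w = x ^ (orderOf x / 2) := by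
  obtain ⟨k, rfl⟩ := hfin.mem_powers_iff_mem_zpowers.2 hw
  have hk : x ^ k = x ^ (k % orderOf x) := (pow_mod_orderOf x k).symm
  simp only at h2 ⊢
  rw [hk] at h2 ⊢
  set j := k % orderOf x with hj
  have hjlt : j < orderOf x := Nat.mod_lt _ hfin.orderOf_pos
  have h1 : orderOf x ∣ j * 2 := by
    rw [orderOf_dvd_iff_pow_eq_one, pow_mul, ← h2, pow_orderOf_eq_one]
  obtain ⟨c, hc⟩ := h1
  have hc2 : c < 2 := by
    by_contra hcon
    have : orderOf x * 2 ≤ orderOf x * c := Nat.mul_le_mul_left _ (by omega)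
    omega
  rcases Nat.eq_zero_or_pos c with rfl | hc0
  · have : j = 0 := by omega
    rw [this, pow_zero, orderOf_one] at h2
    norm_num at h2
  · have : c = 1 := by omega
    subst this
    congr 1
    omega

theorem five_of_local {T : Type*} [Group T] [Finite T] (μ : P5 →* T) (hμ : Function.Injective μ)
    (hz : ∀ t, t * μ a5 = μ a5 * t → t ∈ μ.range)
    (hr : ∀ t, t * μ r5 = μ r5 * t → t ∈ μ.range)
    (hne : ∀ t, t * μ a5 * t⁻¹ ≠ μ (a5 * b5)) : ∀ t, t ∈ μ.range := by
  classical
  have hp : Fact (Nat.Prime 2) := ⟨Nat.prime_two⟩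
  have hE : IsPGroup 2 (E5.map μ) :=
    (IsPGroup.of_card (n := 2) (by rw [card_E5]; rfl)).map μ
  obtain ⟨P, hP⟩ := hE.exists_le_sylow
  have hcardT : 120 ∣ Nat.card T := by
    have h := Subgroup.card_subgroup_dvd_card μ.range
    rwa [Nat.card_congr (MonoidHom.ofInjective hμ).toEquiv.symm, Nat.card_perm, Nat.card_fin] at h
  have hP8 : 8 ≤ Nat.card P := by
    rw [P.card_eq_multiplicity]
    have h8 : 2 ^ 3 ∣ Nat.card T := dvd_trans (by norm_num) hcardT
    have := (Nat.Prime.pow_dvd_iff_le_factorization Nat.prime_two Nat.card_pos.ne').1 h8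
    calc 8 = 2 ^ 3 := rfl
      _ ≤ 2 ^ _ := Nat.pow_le_pow_right (by norm_num) this
  -- the centraliser of an involution with centraliser inside, within `P`
  have small : ∀ c : P5, Nat.card {π : P5 // π * c = c * π} = 12 →
      (∀ t, t * μ c = μ c * t → t ∈ μ.range) →
      Nat.card (((P : Subgroup T) ⊓ Subgroup.centralizer {μ c}).comap μ) ≤ 4 ∧
      Nat.card ((P : Subgroup T) ⊓ Subgroup.centralizer {μ c} : Subgroup T) =
        Nat.card (((P : Subgroup T) ⊓ Subgroup.centralizer {μ c}).comap μ) := by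
    intro c h12 hc
    set K := ((P : Subgroup T) ⊓ Subgroup.centralizer {μ c}).comap μ with hK
    have heq : Nat.card ((P : Subgroup T) ⊓ Subgroup.centralizer {μ c} : Subgroup T) =
        Nat.card K := by
      have e : K.map μ = (P : Subgroup T) ⊓ Subgroup.centralizer {μ c} := by
        rw [hK, Subgroup.map_comap_eq]
        exact inf_eq_right.2 fun t ht =>
          hc t (Subgroup.mem_centralizer_singleton_iff.1 (Subgroup.mem_inf.1 ht).2)
      rw [← e, Subgroup.card_map_of_injective (K := K) hμ]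
    refine ⟨?_, heq⟩
    obtain ⟨n, hn⟩ := (P.isPGroup'.to_le (inf_le_left : (P : Subgroup T) ⊓
      Subgroup.centralizer {μ c} ≤ P)).exists_card_eq
    rw [heq] at hn
    refine two_pow_le_four hn (h12 ▸ ?_)
    have hle : K ≤ Subgroup.centralizer {c} := fun π hπ => by
      have h1 := Subgroup.mem_centralizer_singleton_iff.1 (Subgroup.mem_inf.1 hπ).2
      rw [← map_mul, ← map_mul] at h1
      exact Subgroup.mem_centralizer_singleton_iff.2 (hμ h1)
    refine (Subgroup.card_dvd_of_le hle).trans (dvd_of_eq (Nat.card_congr ?_))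
    exact Equiv.subtypeEquivRight fun π => Subgroup.mem_centralizer_singleton_iff
  have hzb : ∀ t, t * μ b5 = μ b5 * t → t ∈ μ.range := by
    intro t ht
    set h : P5 := swap 0 2 * swap 1 3 with hh
    have e : b5 = h * a5 * h⁻¹ := by decide +kernel
    have := hz ((μ h)⁻¹ * t * μ h) (by
      rw [e] at ht
      simp only [map_mul, map_inv] at ht
      calc (μ h)⁻¹ * t * μ h * μ a5 = (μ h)⁻¹ * (t * (μ h * μ a5 * (μ h)⁻¹)) * μ h := by group
        _ = (μ h)⁻¹ * (μ h * μ a5 * (μ h)⁻¹ * t) * μ h := by rw [ht]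
        _ = μ a5 * ((μ h)⁻¹ * t * μ h) := by group)
    have h2 := mul_mem (mul_mem (⟨h, rfl⟩ : μ h ∈ μ.range) this)
      (inv_mem (⟨h, rfl⟩ : μ h ∈ μ.range))
    rwa [show μ h * ((μ h)⁻¹ * t * μ h) * (μ h)⁻¹ = t by group] at h2
  -- the centraliser of `z` in `P` is the four group
  obtain ⟨hs1, hs2⟩ := small a5 card_cent_a5 hz
  have hEle : E5 ≤ ((P : Subgroup T) ⊓ Subgroup.centralizer {μ a5}).comap μ := fun π hπ => by
    refine Subgroup.mem_inf.2 ⟨hP ⟨π, hπ, rfl⟩, ?_⟩
    rw [Subgroup.mem_centralizer_singleton_iff, ← map_mul, ← map_mul]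
    congr 1
    rcases mem_E5.1 hπ with rfl | rfl | rfl | rfl <;> decide +kernel
  have hEeq := Subgroup.eq_of_le_of_card_ge hEle (by rw [card_E5]; exact hs1)
  have hCP : ∀ t ∈ (P : Subgroup T), t * μ a5 = μ a5 * t → ∃ π ∈ E5, μ π = t := by
    intro t ht hc
    obtain ⟨π, rfl⟩ := hz t hc
    refine ⟨π, ?_, rfl⟩
    rw [hEeq]
    exact Subgroup.mem_inf.2 ⟨ht, Subgroup.mem_centralizer_singleton_iff.2 hc⟩
  have hzP : μ a5 ∈ (P : Subgroup T) := hP ⟨a5, mem_E5.2 (Or.inr (Or.inl rfl)), rfl⟩
  have h4 : Nat.card ((P : Subgroup T) ⊓ Subgroup.centralizer {μ a5} : Subgroup T) = 4 := by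
    rw [hs2, ← hEeq, card_E5]
  have hord : orderOf (⟨μ a5, hzP⟩ : (P : Subgroup T)) = 2 := by
    rw [Subgroup.orderOf_mk, orderOf_injective μ hμ]
    exact orderOf_eq_prime (by decide +kernel) (by decide +kernel)
  have h4' : Nat.card (Subgroup.centralizer
      ({⟨μ a5, hzP⟩} : Set (P : Subgroup T))) = 4 := by
    rw [← h4]
    refine Nat.card_congr
      { toFun := fun c => ⟨c.1.1, Subgroup.mem_inf.2 ⟨c.1.2,
          Subgroup.mem_centralizer_singleton_iff.2
            (congrArg Subtype.val (Subgroup.mem_centralizer_singleton_iff.1 c.2))⟩⟩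
        invFun := fun c => ⟨⟨c.1, (Subgroup.mem_inf.1 c.2).1⟩,
          Subgroup.mem_centralizer_singleton_iff.2 (Subtype.ext
            (Subgroup.mem_centralizer_singleton_iff.1 (Subgroup.mem_inf.1 c.2).2))⟩
        left_inv := fun c => rfl
        right_inv := fun c => rfl }
  -- a cyclic subgroup of index two
  obtain ⟨x, hxc, hxe⟩ : ∃ x : (P : Subgroup T),
      Nat.card (P : Subgroup T) = 2 * orderOf x ∧ 2 ∣ orderOf x := by
    rcases S3224.result P.isPGroup' _ hord h4' with ⟨n, ⟨e⟩⟩ | ⟨n, hn, hc, x, y, hx, -, -⟩ | h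
    · have hcard : Nat.card (P : Subgroup T) = 2 * n := by
        rw [Nat.card_congr e.toEquiv, DihedralGroup.nat_card]
      refine ⟨e.symm (DihedralGroup.r 1), ?_, ?_⟩
      · rw [MulEquiv.orderOf_eq, DihedralGroup.orderOf_r_one, hcard]
      · rw [MulEquiv.orderOf_eq, DihedralGroup.orderOf_r_one]
        obtain ⟨m, hm⟩ := P.isPGroup'.exists_card_eq
        rw [hcard] at hm
        rcases m with - | - | m
        · omega
        · omega
        · exact ⟨2 ^ m, by rw [pow_succ, pow_succ] at hm; omega⟩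
    · exact ⟨x, by rw [hc, hx, pow_succ]; ring, by rw [hx]; exact dvd_pow_self 2 (by omega)⟩
    · omega
  set Q : Subgroup T := Subgroup.zpowers (x : T) with hQ
  have hQP : Q ≤ (P : Subgroup T) := Subgroup.zpowers_le.2 x.2
  have hQidx : Q.relIndex (P : Subgroup T) = 2 := by
    have h := Subgroup.card_mul_index (Q.subgroupOf (P : Subgroup T))
    rw [Nat.card_congr (Subgroup.subgroupOfEquivOfLe hQP).toEquiv, hQ, Nat.card_zpowers,
      Subgroup.orderOf_coe, hxc] at h
    rw [hQ, Subgroup.relIndex]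
    have := orderOf_pos x
    nlinarith
  have hQn : (Q.subgroupOf (P : Subgroup T)).Normal :=
    Subgroup.normal_of_index_eq_two hQidx
  obtain ⟨y, hy⟩ : ∃ y : T, y = (x : T) ^ (orderOf (x : T) / 2) := ⟨_, rfl⟩
  have hyQ : y ∈ Q := hy ▸ pow_mem (Subgroup.mem_zpowers _) _
  have hy2 : orderOf y = 2 := by
    rw [hy, Subgroup.orderOf_coe]
    obtain ⟨k, hk⟩ := hxe
    have hk0 : k ≠ 0 := fun h => by rw [h, mul_zero] at hk; exact (orderOf_pos x).ne' hk
    rw [orderOf_pow' _ (by omega), Subgroup.orderOf_coe, hk, Nat.mul_div_cancel_left _ two_pos,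
      Nat.gcd_mul_left_left, Nat.mul_div_cancel _ (by omega)]
  have huniq : ∀ w ∈ Q, orderOf w = 2 → w = y := fun w hw h =>
    hy ▸ eq_of_pow_two hw (isOfFinOrder_of_finite _) h
  have hcent : ∀ p ∈ (P : Subgroup T), p * y = y * p := by
    intro p hp
    have h1 := hQn.conj_mem ⟨y, hQP hyQ⟩ hyQ ⟨p, hp⟩
    have h2 : p * y * p⁻¹ = y := huniq _ h1 (by
      rw [show p * y * p⁻¹ = MulAut.conj p y from rfl, MulEquiv.orderOf_eq, hy2])
    calc p * y = p * y * p⁻¹ * p := by group
      _ = y * p := by rw [h2]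
  have big : ∀ c : P5, Nat.card {π : P5 // π * c = c * π} = 12 →
      (∀ t, t * μ c = μ c * t → t ∈ μ.range) → y ≠ μ c := by
    intro c h12 hc e
    obtain ⟨h1, h2⟩ := small c h12 hc
    have h3 : (P : Subgroup T) ⊓ Subgroup.centralizer {μ c} = P :=
      inf_eq_left.2 fun p hp => Subgroup.mem_centralizer_singleton_iff.2 (e ▸ hcent p hp)
    rw [h3] at h1 h2
    have h8 : 8 ≤ Nat.card (P : Subgroup T) := hP8
    omega
  obtain ⟨π, hπE, hπy⟩ := hCP y (hQP hyQ) (hcent _ hzP).symm
  have hyd : y = μ (a5 * b5) := by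
    rcases mem_E5.1 hπE with rfl | rfl | rfl | rfl
    · rw [map_one] at hπy; rw [← hπy, orderOf_one] at hy2; norm_num at hy2
    · exact absurd hπy.symm (big a5 card_cent_a5 hz)
    · exact absurd hπy.symm (big b5 card_cent_b5 hzb)
    · exact hπy.symm
  have hzord : orderOf (μ a5) = 2 := by rwa [Subgroup.orderOf_mk] at hord
  obtain ⟨M, hMn, hMi, hzM⟩ := Cfsg.Agent.TransferThompson.thompson_transfer P Q hQP hQidx hzord
    hzP (fun g hg => hne g (by
      rw [← hyd]
      exact huniq _ hg (by
        rw [show g * μ a5 * g⁻¹ = MulAut.conj g (μ a5) from rfl, MulEquiv.orderOf_eq, hzord])))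
  haveI := hMn
  -- the even permutations
  have halt : M.comap μ = alternatingGroup (Fin 5) := by
    refine Equiv.Perm.eq_alternatingGroup_of_index_eq_two ?_
    rw [Subgroup.index_comap]
    have h1 : M.relIndex μ.range ∣ 2 := hMi ▸ Subgroup.relIndex_dvd_index_of_normal M μ.range
    rcases (Nat.dvd_prime Nat.prime_two).1 h1 with h | h
    · exact absurd (Subgroup.relIndex_eq_one.1 h ⟨a5, rfl⟩) hzM
    · exact h
  have hmemM : ∀ π : P5, Equiv.Perm.sign π = 1 → μ π ∈ M := fun π hπ => by
    have : π ∈ M.comap μ := by rw [halt]; exact Equiv.Perm.mem_alternatingGroup.2 hπ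
    exact this
  have hMsign : ∀ π : P5, μ π ∈ M → Equiv.Perm.sign π = 1 := fun π hπ => by
    have : π ∈ M.comap μ := hπ
    rw [halt] at this
    exact Equiv.Perm.mem_alternatingGroup.1 this
  let μ0 : alternatingGroup (Fin 5) →* M :=
    (μ.comp (alternatingGroup (Fin 5)).subtype).codRestrict M
      fun π => hmemM π (Equiv.Perm.mem_alternatingGroup.1 π.2)
  have hμ0v : ∀ π, ((μ0 π : M) : T) = μ π := fun π => rfl
  have hμ0 : Function.Injective μ0 := fun p q h => by
    have := congrArg Subtype.val h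
    exact Subtype.ext (hμ this)
  haveI : IsSimpleGroup (alternatingGroup (Fin 5)) := alternatingGroup.isSimpleGroup_five
  set r : alternatingGroup (Fin 5) := ⟨r5, Equiv.Perm.mem_alternatingGroup.2 (by decide +kernel)⟩
    with hrdef
  have hr3 : orderOf r = 3 :=
    haveI : Fact (Nat.Prime 3) := ⟨by norm_num⟩
    orderOf_eq_prime (Subtype.ext (by simp [hrdef]; decide +kernel))
      (fun h => absurd (congrArg Subtype.val h) (by simp [hrdef]; decide +kernel))
  have hA5 : Nat.card (alternatingGroup (Fin 5)) = 60 := by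
    rw [Nat.card_eq_fintype_card]; decide +kernel
  have hX : Nat.card (Subgroup.zpowers (μ0 r)) = 3 := by
    rw [Nat.card_zpowers, orderOf_injective μ0 hμ0, hr3]
  have hC : Subgroup.centralizer (Subgroup.zpowers (μ0 r) : Set M) =
      Subgroup.zpowers (μ0 r) := by
    refine le_antisymm (fun m hm => ?_) fun m hm => ?_
    · have h1 := (Subgroup.mem_centralizer_iff.1 hm) (μ0 r) (Subgroup.mem_zpowers _)
      have h2 : (m : T) * μ r5 = μ r5 * (m : T) := by
        simpa [hμ0v, hrdef] using (congrArg Subtype.val h1).symm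
      obtain ⟨π, hπ⟩ := hr _ h2
      have hsgn : Equiv.Perm.sign π = 1 := hMsign π (hπ ▸ m.2)
      have h3 : π * r5 = r5 * π := hμ (by rw [map_mul, map_mul, hπ, h2])
      obtain ⟨k, hk⟩ : ∃ k : ℕ, π = r5 ^ k := by
        rcases cent_r5 π h3 hsgn with h | h | h
        exacts [⟨0, by simp [h]⟩, ⟨1, by simp [h]⟩, ⟨2, by simp [h, pow_two]⟩]
      refine Subgroup.mem_zpowers_iff.2 ⟨k, Subtype.ext ?_⟩
      rw [zpow_natCast, SubmonoidClass.coe_pow, hμ0v, ← hπ, hk, map_pow]
    · rw [Subgroup.mem_centralizer_iff]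
      intro w hw
      obtain ⟨i, rfl⟩ := Subgroup.mem_zpowers_iff.1 hm
      obtain ⟨j, rfl⟩ := Subgroup.mem_zpowers_iff.1 hw
      rw [← zpow_add, ← zpow_add, add_comm]
  have hM60 : Nat.card M = 60 := by
    rcases S3331.result (Subgroup.zpowers (μ0 r)) hX hC with
      ⟨N, hN, -, hcop, hq⟩ | ⟨N, hN, -, hN2, ⟨eq⟩⟩ | h7
    · exfalso
      haveI := hN
      rcases IsSimpleGroup.eq_bot_or_eq_top_of_normal _
        (inferInstance : ((QuotientGroup.mk' N).comp μ0).ker.Normal) with hk | hk
      · have := Nat.card_le_card_of_injective _ ((MonoidHom.ker_eq_bot_iff _).1 hk)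
        rcases hq with h | ⟨⟨e⟩⟩
        · omega
        · rw [hA5, Nat.card_congr e.toEquiv, Nat.card_perm, Nat.card_fin] at this
          norm_num [Nat.factorial] at this
      · have h1 : μ0 r ∈ N := by
          have : r ∈ ((QuotientGroup.mk' N).comp μ0).ker := hk ▸ Subgroup.mem_top r
          simpa [MonoidHom.mem_ker] using this
        have h2 : 3 ∣ Nat.card N := by
          rw [← hr3, ← orderOf_injective μ0 hμ0]
          exact Subgroup.orderOf_dvd_natCard N h1
        have h3 := Nat.dvd_gcd h2 (dvd_refl 3)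
        rw [hcop] at h3
        norm_num at h3
    · haveI := hN
      set f := (QuotientGroup.mk' N).comp μ0 with hf
      have hq60 : Nat.card (M ⧸ N) = 60 := by rw [Nat.card_congr eq.toEquiv, hA5]
      have hfinj : Function.Injective f := by
        rcases IsSimpleGroup.eq_bot_or_eq_top_of_normal _
          (inferInstance : f.ker.Normal) with hk | hk
        · exact (MonoidHom.ker_eq_bot_iff _).1 hk
        · exfalso
          have h1 : μ0 r ∈ N := by
            have : r ∈ f.ker := hk ▸ Subgroup.mem_top r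
            simpa [hf, MonoidHom.mem_ker] using this
          have h2 := orderOf_dvd_of_pow_eq_one (hN2 _ h1)
          rw [orderOf_injective μ0 hμ0, hr3] at h2
          norm_num at h2
      have hfsurj : Function.Surjective f :=
        (Function.Injective.bijective_of_nat_card_le hfinj (by rw [hq60, hA5])).2
      let σ : MulAut M := MulAut.conjNormal (μ a5)
      have hσ : ∀ m : M, ((σ m : M) : T) = μ a5 * m * (μ a5)⁻¹ := fun m =>
        MulAut.conjNormal_apply _ _
      have hai : (μ a5)⁻¹ = μ a5 := inv_eq_of_mul_eq_one_right (by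
        rw [← sq, ← hzord, pow_orderOf_eq_one])
      set K := (N.map σ.toMonoidHom).map (QuotientGroup.mk' N) with hKdef
      haveI hK : K.Normal :=
        (hN.map _ σ.surjective).map _ (QuotientGroup.mk'_surjective N)
      have hK2 : ∀ k ∈ K, k ^ 2 = 1 := by
        rintro _ ⟨_, ⟨n, hn, rfl⟩, rfl⟩
        rw [← map_pow, ← map_pow, hN2 n hn, map_one, map_one]
      have hKbot : K = ⊥ := by
        rcases IsSimpleGroup.eq_bot_or_eq_top_of_normal _
          (inferInstance : (K.comap f).Normal) with hk | hk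
        · rw [eq_bot_iff]
          intro k hk'
          obtain ⟨p, rfl⟩ := hfsurj k
          have : p ∈ K.comap f := hk'
          rw [hk, Subgroup.mem_bot] at this
          rw [this, map_one]
          exact Subgroup.one_mem _
        · exfalso
          have h1 := hK2 (f r) (by
            have : r ∈ K.comap f := hk ▸ Subgroup.mem_top r
            exact this)
          have h2 := orderOf_dvd_of_pow_eq_one h1
          rw [orderOf_injective f hfinj, hr3] at h2
          norm_num at h2
      have hNσ : ∀ n ∈ N, σ n ∈ N := fun n hn => by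
        have : QuotientGroup.mk' N (σ n) ∈ K := ⟨_, ⟨n, hn, rfl⟩, rfl⟩
        rw [hKbot, Subgroup.mem_bot] at this
        simpa using this
      have hfix : ∀ n ∈ N, σ n = n → n = 1 := by
        intro n hn he
        have h1 : (n : T) * μ a5 = μ a5 * n := by
          have := congrArg Subtype.val he
          rw [hσ] at this
          calc (n : T) * μ a5 = μ a5 * n * (μ a5)⁻¹ * μ a5 := by rw [this]
            _ = μ a5 * n := by group
        obtain ⟨π, hπ⟩ := hz _ h1
        have hsgn : Equiv.Perm.sign π = 1 := hMsign π (hπ ▸ n.2)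
        set p : alternatingGroup (Fin 5) := ⟨π, Equiv.Perm.mem_alternatingGroup.2 hsgn⟩
        have e : μ0 p = n := Subtype.ext (by rw [hμ0v]; exact hπ)
        have : f p = f 1 := by
          rw [map_one, hf, MonoidHom.comp_apply, e]
          exact (QuotientGroup.eq_one_iff n).2 hn
        rw [← e, hfinj this, map_one]
      have hN1 : N = ⊥ := by
        rw [eq_bot_iff]
        intro n hn
        have hcomm : n * σ n = σ n * n := by
          have h1 := hN2 _ (mul_mem hn (hNσ n hn))
          have h2 := hN2 _ hn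
          have h3 := hN2 _ (hNσ n hn)
          rw [pow_two] at h1 h2 h3
          calc n * σ n = (n * σ n)⁻¹ := eq_inv_of_mul_eq_one_left h1
            _ = σ n * n := by
              rw [mul_inv_rev, inv_eq_of_mul_eq_one_right h2, inv_eq_of_mul_eq_one_right h3]
        have hσσ : σ (σ n) = n := Subtype.ext (by
          rw [hσ, hσ, hai]
          have : μ a5 * μ a5 = 1 := by rw [← sq, ← hzord, pow_orderOf_eq_one]
          calc μ a5 * (μ a5 * (n : T) * μ a5) * μ a5 = (μ a5 * μ a5) * n * (μ a5 * μ a5) := by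
                group
            _ = n := by rw [this, one_mul, mul_one])
        have h1 : n * σ n = 1 := hfix _ (mul_mem hn (hNσ n hn)) (by
          rw [map_mul, hσσ, hcomm])
        have h2 : σ n = n := by
          have h3 := hN2 _ hn
          rw [pow_two] at h3
          exact mul_left_cancel (h1.trans h3.symm)
        rw [hfix n hn h2]
        exact Subgroup.one_mem _
      have h := Subgroup.card_eq_card_quotient_mul_card_subgroup N
      rw [hq60, hN1, Subgroup.card_bot, mul_one] at h
      exact h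
    · exfalso
      obtain ⟨e⟩ := h7
      have h := Subgroup.card_subgroup_dvd_card μ0.range
      rw [Nat.card_congr (MonoidHom.ofInjective hμ0).toEquiv.symm, hA5, Nat.card_congr e.toEquiv,
        Cfsg.Agent.PSpAmalgam31.card_psl_seven] at h
      norm_num at h
  have hT : Nat.card T = 120 := by rw [← M.card_mul_index, hM60, hMi]
  intro t
  have : μ.range = ⊤ := Subgroup.eq_top_of_card_eq _ (by
    rw [Nat.card_congr (MonoidHom.ofInjective hμ).toEquiv.symm, Nat.card_perm, Nat.card_fin, hT]
    rfl)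
  rw [this]
  exact Subgroup.mem_top t

end Cfsg.Agent.S9End37
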