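import Mathlib

/-!
The interface of the three-local characterisation of the symmetric group of degree nine (S3343).
The blocks are `{0,1,2}`, `{3,4,5}`, `{6,7,8}`; `W` is the normaliser `S₃ ≀ S₃` of the base.
-/

set_option autoImplicit false

namespace Cfsg.Agent.S9Model37

open Equiv

abbrev P9 := Equiv.Perm (Fin 9)

def c1 : P9 := swap 0 1 * swap 1 2
def c2 : P9 := swap 3 4 * swap 4 5
def c3 : P9 := swap 6 7 * swap 7 8
def d1 : P9 := swap 0 1
def d2 : P9 := swap 3 4
def d3 : P9 := swap 6 7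
/-- The block permutation `i ↦ i + 3`. -/
def rot : P9 := swap 0 3 * swap 3 6 * (swap 1 4 * swap 4 7) * (swap 2 5 * swap 5 8)
/-- The exchange of the first two blocks. -/
def tau : P9 := swap 0 3 * swap 1 4 * swap 2 5

def W : Subgroup P9 := Subgroup.closure {c1, c2, c3, d1, d2, d3, rot, tau}

def C1 : W := ⟨c1, Subgroup.subset_closure (by simp)⟩
def C2 : W := ⟨c2, Subgroup.subset_closure (by simp)⟩
def C3 : W := ⟨c3, Subgroup.subset_closure (by simp)⟩
def D1 : W := ⟨d1, Subgroup.subset_closure (by simp)⟩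
def D2 : W := ⟨d2, Subgroup.subset_closure (by simp)⟩
def D3 : W := ⟨d3, Subgroup.subset_closure (by simp)⟩
def Rot : W := ⟨rot, Subgroup.subset_closure (by simp)⟩
def Tau : W := ⟨tau, Subgroup.subset_closure (by simp)⟩

variable {G : Type*} [Group G]

/-- The three-local data with monomial automiser. -/
structure Full (J : Subgroup G) (φ : W →* G) : Prop where
  inj : Function.Injective φ
  range_eq : φ.range = Subgroup.normalizer (J : Set G)
  base : J = Subgroup.closure {φ C1, φ C2, φ C3}
  cJ : Subgroup.centralizer (J : Set G) = J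
  sylow : ¬ 3 ^ 5 ∣ Nat.card G
  cx : Subgroup.centralizer ({φ (C1 * C2 * C3)} : Set G) ≤ Subgroup.normalizer (J : Set G)
  cw : Subgroup.centralizer ({φ (C1 * C2)} : Set G) ≤ Subgroup.normalizer (J : Set G)

/-- The centraliser of the third cycle in the exceptional branch: `3 × S₆`. -/
structure Six (φ : W →* G) (ι : Equiv.Perm (Fin 6) →* G) : Prop where
  inj : Function.Injective ι
  comm : ∀ σ, Commute (ι σ) (φ C3)
  cent : Subgroup.centralizer ({φ C3} : Set G) = Subgroup.zpowers (φ C3) ⊔ ι.range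
  map_c1 : ι (swap 0 1 * swap 1 2) = φ C1
  map_c2 : ι (swap 3 4 * swap 4 5) = φ C2
  map_d1 : ι (swap 0 1) = φ D1
  map_d2 : ι (swap 3 4) = φ D2
  map_tau : ι (swap 0 3 * swap 1 4 * swap 2 5) = φ Tau

/-- The output of the chain piece: a copy of `S₉`. -/
structure Nine (J : Subgroup G) (φ : W →* G) (ψ : P9 →* G) : Prop where
  inj : Function.Injective ψ
  ext : ∀ w : W, ψ w = φ w
  three : ∀ σ : P9, orderOf σ = 3 → Subgroup.centralizer ({ψ σ} : Set G) ≤ ψ.range
  tri : Subgroup.centralizer ({ψ (swap 0 1), ψ (swap 3 4), ψ (swap 6 7)} : Set G) ≤ ψ.range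

/-- Automiser `S₃`. -/
def W1 : Subgroup P9 := Subgroup.closure {c1, c2, c3, rot, tau}
/-- Automiser `S₃ × ⟨-1⟩`. -/
def W2 : Subgroup P9 := Subgroup.closure {c1, c2, c3, rot, tau, d1 * d2 * d3}
/-- Automiser `S₄`, the even signs extended by the block permutations. -/
def W4 : Subgroup P9 := Subgroup.closure {c1, c2, c3, rot, tau, d1 * d2, d2 * d3}
/-- Automiser `A₄`. -/
def W0 : Subgroup P9 := Subgroup.closure {c1, c2, c3, rot, d1 * d2, d2 * d3}

/-- The base. -/
def base : Subgroup P9 := Subgroup.closure {c1, c2, c3}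

/-- The three-local data for the automiser given by `U`. -/
structure Base (U : Subgroup P9) (J : Subgroup G) (φ : U →* G) : Prop where
  inj : Function.Injective φ
  range_eq : φ.range = Subgroup.normalizer (J : Set G)
  base_eq : (base.subgroupOf U).map φ = J
  cJ : Subgroup.centralizer (J : Set G) = J
  sylow : ¬ 3 ^ 5 ∣ Nat.card G
  cx : ∀ u : U, (u : P9) = c1 * c2 * c3 →
    Subgroup.centralizer ({φ u} : Set G) ≤ Subgroup.normalizer (J : Set G)
  plane : ∀ Q ≤ J, Nat.card Q = 9 →
    Subgroup.centralizer (Q : Set G) ≤ Subgroup.normalizer (J : Set G)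
  sig : ∀ K : Subgroup G, (Nat.card K).Coprime 3 →
    (∀ j ∈ J, K.map (MulAut.conj j).toMonoidHom = K) → K = ⊥

end Cfsg.Agent.S9Model37
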