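import Mathlib
import Cfsg.Agent.Lib.S9Model37

/-!
Finite facts about the symmetric group of degree nine for the endgame of S3343: a complete list
of the solutions of `σ * σ = 1` and a Sylow 3-subgroup.
-/

set_option autoImplicit false

namespace Cfsg.Agent.S9End37

open Equiv Cfsg.Agent.S9Model37

/-- The size of the support. -/
def sz (σ : P9) : ℕ := σ.support.card

theorem sz_conj (π σ : P9) : sz (π * σ * π⁻¹) = sz σ := by
  unfold sz
  rw [Equiv.Perm.support_conj, Finset.card_map]

/-! ### The solutions of `σ * σ = 1` -/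

/-- May `x` be the image of `k`, the images of `0, …, k-1` being `p`, in an involution commuting
with `c`? -/
def okInv (c : P9) (p : List (Fin 9)) (k x : Fin 9) : Bool :=
  (if x < k then p.getD x.val 0 == k else !(p.contains x) && !(p.contains k)) &&
    (if c k < k then x == c (p.getD (c k).val 0) else true)

/-- The admissible image lists of length `k`. -/
def genInv (c : P9) : ℕ → List (List (Fin 9))
  | 0 => [[]]
  | k + 1 => if h : k < 9 then
      (genInv c k).flatMap fun p =>
        ((List.finRange 9).filter (okInv c p ⟨k, h⟩)).map fun x => p ++ [x]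
    else []

/-- A list as permutation, when it is involutive. -/
def ofList (p : List (Fin 9)) : P9 :=
  if h : ∀ i : Fin 9, p.getD (p.getD i.val 0).val 0 = i then
    ⟨fun i => p.getD i.val 0, fun i => p.getD i.val 0, h, h⟩
  else 1

/-- All solutions of `σ * σ = 1` commuting with `c`. -/
def invList (c : P9) : List P9 := (genInv c 9).map ofList

theorem take_mem_genInv {c σ : P9} (hσ : σ * σ = 1) (hc : σ * c = c * σ) (hcc : ∀ i, c (c i) = i) :
    ∀ k ≤ 9, ((List.finRange 9).map σ).take k ∈ genInv c k := by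
  have hs : ∀ i, σ (σ i) = i := fun i => by
    have := congrArg (fun (f : P9) => f i) hσ
    simpa using this
  intro k
  induction k with
  | zero => simp [genInv]
  | succ k IH =>
    intro hk
    have hk' : k < 9 := hk
    rw [genInv, dif_pos hk', List.mem_flatMap]
    refine ⟨_, IH hk'.le, List.mem_map.2 ⟨σ ⟨k, hk'⟩, List.mem_filter.2
      ⟨List.mem_finRange _, ?_⟩, ?_⟩⟩
    · rw [okInv, Bool.and_eq_true]
      refine ⟨?_, ?_⟩
      swap
      · split
        · rename_i hlt
          have hlt' : (c ⟨k, hk'⟩).val < k := hlt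
          rw [List.getD_eq_getElem _ _ (by simp [hlt'])]
          have e1 : σ (c (c ⟨k, hk'⟩)) = c (σ (c ⟨k, hk'⟩)) := by
            have := congrArg (fun (f : P9) => f (c ⟨k, hk'⟩)) hc
            simpa using this
          simp [← e1, hcc]
        · rfl
      have hmem : ∀ y : Fin 9, y ∈ ((List.finRange 9).map σ).take k →
          ∃ i : Fin 9, i.val < k ∧ σ i = y := by
        intro y hy
        obtain ⟨i, hi, rfl⟩ := List.getElem_of_mem hy
        simp only [List.length_take, List.length_map, List.length_finRange, lt_min_iff] at hi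
        exact ⟨⟨i, hi.2⟩, hi.1, by simp⟩
      split
      · rename_i hlt
        have hlt' : (σ ⟨k, hk'⟩).val < k := hlt
        have hl : (σ ⟨k, hk'⟩).val < (((List.finRange 9).map σ).take k).length := by
          simp [hlt']
        rw [List.getD_eq_getElem _ _ hl]
        simp [hs]
      · rename_i hlt
        simp only [Bool.and_eq_true, Bool.not_eq_true', List.contains_eq_mem,
          decide_eq_false_iff_not]
        constructor
        · intro h
          obtain ⟨i, hi, e⟩ := hmem _ h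
          have := σ.injective e
          rw [this] at hi
          exact lt_irrefl _ hi
        · intro h
          obtain ⟨i, hi, e⟩ := hmem _ h
          have e' : σ ⟨k, hk'⟩ = i := by rw [← e]; exact hs i
          exact hlt (e' ▸ hi)
    · rw [List.take_succ_eq_append_getElem (by simp [hk'])]
      simp

theorem mem_invList {c σ : P9} (hcc : ∀ i, c (c i) = i) (hσ : σ * σ = 1)
    (hc : σ * c = c * σ) : σ ∈ invList c := by
  have hs : ∀ i, σ (σ i) = i := fun i => by
    have := congrArg (fun (f : P9) => f i) hσ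
    simpa using this
  refine List.mem_map.2 ⟨(List.finRange 9).map σ, ?_, ?_⟩
  · have := take_mem_genInv hσ hc hcc 9 le_rfl
    rwa [List.take_of_length_le (by simp)] at this
  · have hg : ∀ i : Fin 9, ((List.finRange 9).map σ).getD i.val 0 = σ i := fun i => by
      rw [List.getD_eq_getElem _ _ (by simp)]
      simp
    unfold ofList
    rw [dif_pos (fun i => by rw [hg, hg, hs])]
    ext i
    simp

theorem forall_inv {c : P9} (hcc : ∀ i, c (c i) = i) {P : P9 → Prop} [DecidablePred P]
    (h : (invList c).all (fun σ => decide (P σ)) = true) {σ : P9} (hσ : σ * σ = 1)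
    (hc : σ * c = c * σ) : P σ :=
  of_decide_eq_true (List.all_eq_true.1 h σ (mem_invList hcc hσ hc))

theorem sz_eq_zero {σ : P9} : sz σ = 0 ↔ σ = 1 := by
  simp [sz, Equiv.Perm.support_eq_empty_iff]

theorem cycleType_inv {ρ : P9} (hρ : orderOf ρ = 2) :
    ∃ n, ρ.cycleType = Multiset.replicate (n + 1) 2 ∧ sz ρ = (n + 1) * 2 := by
  obtain ⟨n, hn⟩ := Equiv.Perm.cycleType_prime_order (σ := ρ) (by rw [hρ]; exact Nat.prime_two)
  rw [hρ] at hn
  have hs := ρ.sum_cycleType
  rw [hn, Multiset.sum_replicate, smul_eq_mul] at hs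
  exact ⟨n, hn, hs.symm⟩

theorem sz_inv {σ : P9} (hσ : orderOf σ = 2) : sz σ = 2 ∨ sz σ = 4 ∨ sz σ = 6 ∨ sz σ = 8 := by
  obtain ⟨n, -, hn⟩ := cycleType_inv hσ
  have : sz σ ≤ 9 := le_trans (Finset.card_le_univ _) (by simp)
  omega

/-- Elements of order two with equal supports' sizes are conjugate. -/
theorem conj_of_sz {σ τ : P9} (hσ : orderOf σ = 2) (hτ : orderOf τ = 2) (h : sz σ = sz τ) :
    ∃ π : P9, π * σ * π⁻¹ = τ := by
  obtain ⟨n, hn, hn'⟩ := cycleType_inv hσ
  obtain ⟨m, hm, hm'⟩ := cycleType_inv hτ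
  rw [← isConj_iff]
  rw [Equiv.Perm.isConj_iff_cycleType_eq, hn, hm,
    show n = m by omega]

/-! ### A Sylow 3-subgroup -/

/-- The coordinates on a Sylow 3-subgroup. -/
abbrev X3 := Fin 3 × Fin 3 × Fin 3 × Fin 3

/-- The elements of a Sylow 3-subgroup. -/
def q3 (x : X3) : P9 :=
  c1 ^ x.1.val * c2 ^ x.2.1.val * c3 ^ x.2.2.1.val * rot ^ x.2.2.2.val

/-- Right multiplication by the generators. -/
def step (x : X3) : List X3 :=
  [if x.2.2.2 = 0 then (x.1 + 1, x.2) else if x.2.2.2 = 1 then (x.1, x.2.1 + 1, x.2.2)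
      else (x.1, x.2.1, x.2.2.1 + 1, x.2.2.2),
   if x.2.2.2 = 2 then (x.1 + 1, x.2) else if x.2.2.2 = 0 then (x.1, x.2.1 + 1, x.2.2)
      else (x.1, x.2.1, x.2.2.1 + 1, x.2.2.2),
   if x.2.2.2 = 1 then (x.1 + 1, x.2) else if x.2.2.2 = 2 then (x.1, x.2.1 + 1, x.2.2)
      else (x.1, x.2.1, x.2.2.1 + 1, x.2.2.2),
   (x.1, x.2.1, x.2.2.1, x.2.2.2 + 1)]

theorem q3_step : ∀ x : X3, [c1, c2, c3, rot].map (q3 x * ·) = (step x).map q3 := by
  decide +kernel

/-- The coordinates are read off from the images of `0`, `3`, `6`. -/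
def dec (u : P9) : X3 :=
  let d : Fin 3 := ⟨(u 0).val / 3 % 3, Nat.mod_lt _ (by norm_num)⟩
  let z : Fin 9 → Fin 3 := fun i => ⟨(u i).val % 3, Nat.mod_lt _ (by norm_num)⟩
  (if d = 0 then z 0 else if d = 1 then z 6 else z 3,
   if d = 0 then z 3 else if d = 1 then z 0 else z 6,
   if d = 0 then z 6 else if d = 1 then z 3 else z 0, d)

theorem dec_q3 : ∀ x : X3, dec (q3 x) = x := by decide +kernel

theorem q3_injective : Function.Injective q3 :=
  Function.LeftInverse.injective dec_q3

theorem rot_pow_three : rot ^ 3 = 1 := by decide +kernel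

theorem base_comm_gen : c1 * c2 = c2 * c1 ∧ c1 * c3 = c3 * c1 ∧ c2 * c3 = c3 * c2 := by
  decide +kernel

theorem rot_fixed : ∀ a b c : Fin 3, q3 (a, b, c, 0) * rot = rot * q3 (a, b, c, 0) →
    a = b ∧ b = c := by decide +kernel

theorem centre_gen : c1 * c2 * c3 * rot = rot * (c1 * c2 * c3) := by decide +kernel

/-- The Sylow 3-subgroup `3 ≀ 3`. -/
def P0 : Subgroup P9 := Subgroup.closure {c1, c2, c3, rot}

theorem mem_P0 {u : P9} : u ∈ P0 ↔ ∃ x, q3 x = u := by
  constructor
  · intro hu
    rw [P0, ← Subgroup.mem_toSubmonoid, Subgroup.closure_toSubmonoid_of_finite] at hu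
    induction hu using Submonoid.closure_induction_right with
    | one => exact ⟨(0, 0, 0, 0), by simp [q3]⟩
    | mul_right u hu y hy ih =>
      obtain ⟨x, rfl⟩ := ih
      have h : q3 x * y ∈ ([c1, c2, c3, rot].map (q3 x * ·)) :=
        List.mem_map.2 ⟨y, by simpa using hy, rfl⟩
      rw [q3_step, List.mem_map] at h
      obtain ⟨x', -, hx'⟩ := h
      exact ⟨x', hx'⟩
  · rintro ⟨x, rfl⟩
    have m : ∀ x ∈ ({c1, c2, c3, rot} : Set P9), x ∈ P0 := fun x hx => Subgroup.subset_closure hx
    exact mul_mem (mul_mem (mul_mem (pow_mem (m _ (by simp)) _) (pow_mem (m _ (by simp)) _))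
      (pow_mem (m _ (by simp)) _)) (pow_mem (m _ (by simp)) _)

theorem base_le_P0 : base ≤ P0 := Subgroup.closure_mono (by intro x hx; aesop)

theorem mem_base {u : P9} : u ∈ base ↔ ∃ a b c, q3 (a, b, c, 0) = u := by
  constructor
  · intro hu
    rw [base, ← Subgroup.mem_toSubmonoid, Subgroup.closure_toSubmonoid_of_finite] at hu
    induction hu using Submonoid.closure_induction_right with
    | one => exact ⟨0, 0, 0, by simp [q3]⟩
    | mul_right u hu y hy ih =>
      obtain ⟨a, b, c, rfl⟩ := ih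
      have h := q3_step (a, b, c, 0)
      simp only [step, List.map_cons, List.map_nil, if_pos, Fin.reduceEq, if_false,
        List.cons.injEq, and_true] at h
      obtain ⟨h1, h2, h3, -⟩ := h
      rcases hy with rfl | rfl | rfl
      · exact ⟨_, _, _, h1.symm⟩
      · exact ⟨_, _, _, h2.symm⟩
      · exact ⟨_, _, _, h3.symm⟩
  · rintro ⟨a, b, c, rfl⟩
    have m : ∀ x ∈ ({c1, c2, c3} : Set P9), x ∈ base := fun x hx => Subgroup.subset_closure hx
    simpa [q3] using mul_mem (mul_mem (pow_mem (m _ (by simp)) a.val)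
      (pow_mem (m _ (by simp)) b.val)) (pow_mem (m _ (by simp)) c.val)

theorem card_P0 : Nat.card P0 = 81 := by
  have : (P0 : Set P9) = Set.range q3 := by ext u; simp [mem_P0]
  show Nat.card (P0 : Set P9) = 81
  rw [this, Nat.card_range_of_injective q3_injective]
  simp [X3]

theorem card_base : Nat.card base = 27 := by
  have : (base : Set P9) = Set.range (fun x : Fin 3 × Fin 3 × Fin 3 =>
      q3 (x.1, x.2.1, x.2.2, 0)) := by
    ext u; simp [mem_base]
  show Nat.card (base : Set P9) = 27
  rw [this, Nat.card_range_of_injective fun x y h => ?_]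
  · simp
  · have := q3_injective h
    simp only [Prod.mk.injEq, and_true] at this
    exact Prod.ext this.1 (Prod.ext this.2.1 this.2.2)

theorem base_comm : ∀ x ∈ base, ∀ y ∈ base, x * y = y * x := by
  intro x hx y hy
  obtain ⟨h12, h13, h23⟩ := base_comm_gen
  have hle : base ≤ Subgroup.centralizer (base : Set P9) := by
    rw [base, Subgroup.centralizer_closure, Subgroup.closure_le]
    intro u hu
    rw [SetLike.mem_coe, Subgroup.mem_centralizer_iff]
    intro w hw
    rcases hu with rfl | rfl | rfl <;> rcases hw with rfl | rfl | rfl <;>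
      first | rfl | assumption | exact h12.symm | exact h13.symm | exact h23.symm
  exact ((Subgroup.mem_centralizer_iff.1 (hle hx)) y hy).symm

theorem centre_eq {u : P9} (hu : u ∈ P0) : u * (c1 * c2 * c3) = c1 * c2 * c3 * u := by
  have hz : c1 * c2 * c3 ∈ base := mem_base.2 ⟨1, 1, 1, by simp [q3]⟩
  have hle : P0 ≤ Subgroup.centralizer {c1 * c2 * c3} := by
    rw [P0, Subgroup.closure_le]
    intro w hw
    rw [SetLike.mem_coe, Subgroup.mem_centralizer_singleton_iff]
    have m : ∀ x ∈ ({c1, c2, c3} : Set P9), x ∈ base := fun x hx => Subgroup.subset_closure hx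
    rcases hw with rfl | rfl | rfl | rfl
    · exact base_comm _ (m _ (by simp)) _ hz
    · exact base_comm _ (m _ (by simp)) _ hz
    · exact base_comm _ (m _ (by simp)) _ hz
    · exact centre_gen.symm
  exact Subgroup.mem_centralizer_singleton_iff.1 (hle hu)

/-- The base is the only abelian subgroup of order 27 of the Sylow 3-subgroup. -/
theorem abelian_eq_base {A : Subgroup P9} (hA : A ≤ P0) (hcomm : ∀ x ∈ A, ∀ y ∈ A, x * y = y * x)
    (hcard : Nat.card A = 27) : A = base := by
  refine Subgroup.eq_of_le_of_card_ge (fun u hu => ?_) (by rw [hcard, card_base])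
  obtain ⟨⟨a, b, c, d⟩, rfl⟩ := mem_P0.1 (hA hu)
  by_cases hd : d = 0
  · exact mem_base.2 ⟨a, b, c, by rw [hd]⟩
  exfalso
  set bx : P9 := q3 (a, b, c, 0) with hbx
  have hux : q3 (a, b, c, d) = bx * rot ^ d.val := by simp [hbx, q3]
  have hbxm : bx ∈ base := mem_base.2 ⟨a, b, c, rfl⟩
  have hin : A ⊓ base ≤ Subgroup.zpowers (c1 * c2 * c3) := by
    intro w hw
    obtain ⟨hwA, hwb⟩ := Subgroup.mem_inf.1 hw
    have h1 : Commute w (bx * rot ^ d.val) := hux ▸ hcomm w hwA _ hu
    have h2 : Commute w (rot ^ d.val) := by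
      have h3 : Commute w (bx⁻¹ * (bx * rot ^ d.val)) :=
        (show Commute w bx⁻¹ from (show Commute w bx from base_comm w hwb bx hbxm).inv_right).mul_right h1
      rwa [inv_mul_cancel_left] at h3
    have h4 : Commute w rot := by
      have hd' : d.val = 1 ∨ d.val = 2 := by
        have := d.isLt
        have : d.val ≠ 0 := fun h => hd (Fin.ext h)
        omega
      rcases hd' with h | h <;> rw [h] at h2
      · simpa using h2
      · have h5 := h2.pow_right 2
        rwa [← pow_mul, show 2 * 2 = 3 + 1 from rfl, pow_succ, rot_pow_three, one_mul] at h5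
    obtain ⟨a', b', c', rfl⟩ := mem_base.1 hwb
    obtain ⟨rfl, rfl⟩ := rot_fixed a' b' c' h4
    obtain ⟨h12, h13, h23⟩ := base_comm_gen
    have hc12 : Commute (c1 * c2) c3 :=
      (show Commute c1 c3 from h13).mul_left h23
    refine Subgroup.mem_zpowers_iff.2 ⟨(a'.val : ℤ), ?_⟩
    rw [zpow_natCast, hc12.mul_pow, (show Commute c1 c2 from h12).mul_pow]
    simp [q3]
  have hz : Nat.card (Subgroup.zpowers (c1 * c2 * c3)) = 3 := by
    rw [Nat.card_zpowers, orderOf_eq_prime_iff]
    decide +kernel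
  have hle : Nat.card (A ⊓ base : Subgroup P9) ≤ 3 := hz ▸ Subgroup.card_le_of_le hin
  have h3 : base.relIndex P0 = 3 := by
    have h := Subgroup.card_mul_index (base.subgroupOf P0)
    rw [Nat.card_congr (Subgroup.subgroupOfEquivOfLe base_le_P0).toEquiv, card_base, card_P0] at h
    rw [Subgroup.relIndex]
    omega
  have h4 : base.relIndex A ≤ 3 := h3 ▸ Subgroup.relIndex_le_of_le_right hA (by rw [h3]; norm_num)
  have h5 := Subgroup.card_mul_index (base.subgroupOf A)
  rw [Nat.card_congr (Subgroup.subgroupOfEquivOfLe (inf_le_left : A ⊓ base ≤ A)).toEquiv.symm] at hle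
  rw [Subgroup.inf_subgroupOf_left] at hle
  rw [hcard] at h5
  rw [Subgroup.relIndex] at h4
  nlinarith

/-- Any 3-subgroup is conjugate into `P0`. -/
theorem exists_conj_le_P0 {A : Subgroup P9} (hA : IsPGroup 3 A) :
    ∃ π : P9, ∀ x ∈ A, π * x * π⁻¹ ∈ P0 := by
  have hp : Fact (Nat.Prime 3) := ⟨by norm_num⟩
  have h0 : IsPGroup 3 P0 := IsPGroup.of_card (n := 4) (by rw [card_P0]; norm_num)
  obtain ⟨S, hS⟩ := h0.exists_le_sylow
  have hS' : (S : Subgroup P9) = P0 := by
    symm
    refine Subgroup.eq_of_le_of_card_ge hS ?_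
    rw [Sylow.card_eq_multiplicity, card_P0, Nat.card_perm, Nat.card_fin]
    have : (Nat.factorial 9).factorization 3 = 4 := by
      rw [show Nat.factorial 9 = 3 ^ 4 * 4480 by decide,
        Nat.factorization_mul (by norm_num) (by norm_num), Finsupp.add_apply,
        Nat.Prime.factorization_pow (by norm_num), Finsupp.single_eq_same,
        Nat.factorization_eq_zero_of_not_dvd (by norm_num)]
    rw [this]
    norm_num
  obtain ⟨T, hT⟩ := hA.exists_le_sylow
  obtain ⟨π, hπ⟩ := MulAction.exists_smul_eq P9 T S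
  refine ⟨π, fun x hx => ?_⟩
  rw [← hS', ← hπ]
  exact Subgroup.mem_map.2 ⟨x, hT hx, rfl⟩

/-- The double transposition `(01)(34)`. -/
def vP : P9 := swap 0 1 * swap 3 4
/-- The triple `(01)(34)(67)`. -/
def trP : P9 := swap 0 1 * swap 3 4 * swap 6 7
/-- The double transposition `(03)(14)`. -/
def sP : P9 := swap 0 3 * swap 1 4
/-- The quadruple `(01)(23)(45)(67)`. -/
def quP : P9 := swap 0 1 * swap 2 3 * swap 4 5 * swap 6 7

/-- Step three: the element `ρ * sP` is a transposition or a conjugate of `sP` under the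
centraliser of `trP`. -/
theorem tri_facts {d : P9} (hd : d * d = 1) (hdt : d * trP = trP * d)
    (hds : (d * sP) * (d * sP) = 1) (hne : d ≠ sP)
    (h : (sz d = 2 ∧ sz (d * trP) = 4) ∨
      (sz d = 4 ∧ (∀ i, trP i = i → d i = i) ∧ ∀ i, d i = trP i → d i = i)) :
    sz (d * sP) = 4 ∨ sz (d * sP * trP) = 4 :=
  forall_inv (c := trP) (P := fun d => (d * sP) * (d * sP) = 1 → d ≠ sP →
    ((sz d = 2 ∧ sz (d * trP) = 4) ∨
      (sz d = 4 ∧ (∀ i, trP i = i → d i = i) ∧ ∀ i, d i = trP i → d i = i)) →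
    sz (d * sP) = 4 ∨ sz (d * sP * trP) = 4) (by decide +kernel) (by decide +kernel) hd hdt hds hne h

/-- Step four. -/
theorem trans_facts {ρ : P9} (hρ : ρ * ρ = 1) (h1 : ρ ≠ 1) (hc : ρ * swap 0 1 = swap 0 1 * ρ) :
    ρ = swap 0 1 ∨ sz ρ = 4 ∨ sz ρ = 6 ∨ sz (ρ * swap 0 1) = 4 ∨ sz (ρ * swap 0 1) = 6 :=
  forall_inv (c := swap 0 1) (P := fun ρ => ρ ≠ 1 → ρ = swap 0 1 ∨ sz ρ = 4 ∨ sz ρ = 6 ∨
    sz (ρ * swap 0 1) = 4 ∨ sz (ρ * swap 0 1) = 6) (by decide +kernel) (by decide +kernel) hρ hc h1

theorem card_quad_vP {S : Finset P9}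
    (hS : ∀ ρ ∈ S, ρ * ρ = 1 ∧ ρ * vP = vP * ρ ∧ sz ρ = 8) : S.card ≤ 45 := by
  refine le_trans (Finset.card_le_card (t := ((invList vP).filter fun ρ => sz ρ == 8).toFinset)
    fun ρ hρ => ?_) (le_trans (List.toFinset_card_le _) (by decide +kernel))
  obtain ⟨h1, h2, h3⟩ := hS ρ hρ
  simp [mem_invList (c := vP) (by decide +kernel) h1 h2, h3]

theorem card_triple_quP {S : Finset P9}
    (hS : ∀ ρ ∈ S, ρ * ρ = 1 ∧ ρ * quP = quP * ρ ∧ sz ρ = 6) : S.card ≤ 28 := by
  refine le_trans (Finset.card_le_card (t := ((invList quP).filter fun ρ => sz ρ == 6).toFinset)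
    fun ρ hρ => ?_) (le_trans (List.toFinset_card_le _) (by decide +kernel))
  obtain ⟨h1, h2, h3⟩ := hS ρ hρ
  simp [mem_invList (c := quP) (by decide +kernel) h1 h2, h3]

theorem card_triple : 1260 ≤
    (Finset.univ.filter fun ρ : P9 => ρ.cycleType = Multiset.replicate 3 2).card := by
  rw [Equiv.Perm.card_of_cycleType]
  simp [Nat.factorial]

end Cfsg.Agent.S9End37
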