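import Cfsg.Agent.Lib.A9Base59
import Cfsg.Agent.Lib.S9End52Five
import Cfsg.Agent.Lib.S9End52Perm

/-!
S3339, alternating branch: the model of the centraliser of a double involution.
-/

set_option autoImplicit false
set_option maxRecDepth 100000

namespace Cfsg.Agent.A9End52

open Equiv Cfsg.Agent.A9Base59
open Cfsg.Agent.S9End37 (P5 a5 b5 r5 sz)

attribute [local instance 2000] List.decidableBAll

/-- The five points outside the support of `v`. -/
def five : Fin 5 ≃ {x : Fin 9 // x ≠ 4 ∧ x ≠ 5 ∧ x ≠ 7 ∧ x ≠ 8} where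
  toFun i := ⟨![3, 6, 0, 1, 2] i, by revert i; decide⟩
  invFun x := if x.1 = 3 then 0 else if x.1 = 6 then 1 else if x.1 = 0 then 2 else
    if x.1 = 1 then 3 else 4
  left_inv i := by revert i; decide
  right_inv x := by revert x; decide

/-- The symmetric group on the five points. -/
def iota5 : P5 →* P9 := Perm.extendDomainHom five

/-- The correction of parity. -/
def odd5 : ℤˣ →* P9 where
  toFun u := if u = 1 then 1 else swap 4 5
  map_one' := if_pos rfl
  map_mul' := by decide +kernel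

theorem iota5_comm : ∀ π : P5, iota5 π * swap 4 5 = swap 4 5 * iota5 π := by decide +kernel

theorem iota5_comm' (π : P5) (u : ℤˣ) : iota5 π * odd5 u = odd5 u * iota5 π := by
  show iota5 π * (if u = 1 then 1 else swap 4 5) = _
  rcases Int.units_eq_one_or u with rfl | rfl
  · simp [odd5]
  · simpa [odd5] using iota5_comm π

/-- The symmetric group of degree five inside the even permutations. -/
def mu : P5 →* P9 := MonoidHom.mk' (fun π => iota5 π * odd5 (Perm.sign π)) fun a b => by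
  rw [map_mul, map_mul, map_mul]
  calc iota5 a * iota5 b * (odd5 (Perm.sign a) * odd5 (Perm.sign b))
      = iota5 a * (iota5 b * odd5 (Perm.sign a)) * odd5 (Perm.sign b) := by group
    _ = _ := by rw [iota5_comm']; group

/-- `(47)(58)` -/
def w9 : P9 := swap 4 7 * swap 5 8

/-- The parity correction as one of two permutations. -/
def corr : List P9 := [1, swap 4 5]

theorem mu_cases (π : P5) : ∃ s ∈ corr, mu π = iota5 π * s ∧ Perm.sign s = Perm.sign π := by
  rcases Int.units_eq_one_or (Perm.sign π) with e | e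
  · exact ⟨1, by simp [corr], by show iota5 π * odd5 (Perm.sign π) = _; rw [e, map_one],
      by rw [e, map_one]⟩
  · refine ⟨swap 4 5, by simp [corr], ?_, by rw [e]; decide +kernel⟩
    show iota5 π * odd5 (Perm.sign π) = _
    rw [e]
    rfl

theorem iota5_facts : ∀ π : P5, iota5 π * v = v * iota5 π ∧ iota5 π * w9 = w9 * iota5 π := by
  decide +kernel

theorem corr_facts : ∀ s ∈ corr, s * v = v * s ∧ (s * w9 = w9 * s ∨ s * w9 = w9 * v * s) := by
  decide +kernel

theorem mu_facts (π : P5) : Perm.sign (mu π) = 1 ∧ mu π * v = v * mu π ∧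
    (mu π * w9 = w9 * mu π ∨ mu π * w9 = w9 * v * mu π) := by
  obtain ⟨s, hs, e, hsg⟩ := mu_cases π
  obtain ⟨hiv, hiw⟩ := iota5_facts π
  obtain ⟨hsv, hsw⟩ := corr_facts s hs
  rw [e]
  refine ⟨?_, (Commute.mul_left (show Commute (iota5 π) v from hiv) hsv).eq, ?_⟩
  · rw [map_mul, hsg, show Perm.sign (iota5 π) = Perm.sign π from Perm.sign_extendDomain π five]
    exact Int.units_mul_self _
  · rcases hsw with h | h
    · exact Or.inl (Commute.mul_left (show Commute (iota5 π) w9 from hiw) h).eq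
    · refine Or.inr ?_
      have hwv : iota5 π * (w9 * v) = w9 * v * iota5 π :=
        (Commute.mul_right (show Commute (iota5 π) w9 from hiw) hiv).eq
      rw [mul_assoc, h, ← mul_assoc, hwv, mul_assoc]

/-- The four group on the support of `v`. -/
def K4 : List P9 := [1, v, w9, w9 * v]

theorem K4_mul : ∀ a ∈ K4, ∀ b ∈ K4, a * b ∈ K4 := by decide +kernel

theorem K4_facts : ∀ k ∈ K4, Perm.sign k = 1 ∧ k * v = v * k ∧ k * k = 1 := by decide +kernel

theorem mu_sep' : ∀ π : P5, ∀ s ∈ corr, iota5 π * s ∈ K4 → π = 1 := by decide +kernel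

theorem mu_sep (π : P5) (h : mu π ∈ K4) : π = 1 := by
  obtain ⟨s, hs, e, -⟩ := mu_cases π
  exact mu_sep' π s hs (e ▸ h)

theorem moved : ∀ x : Fin 9, v x ≠ x → x = 4 ∨ x = 5 ∨ x = 7 ∨ x = 8 := by decide +kernel

theorem vals : v 4 = 5 ∧ v 5 = 4 ∧ v 7 = 8 ∧ v 8 = 7 ∧ w9 4 = 7 ∧ w9 5 = 8 := by decide +kernel

theorem exists_iota5 {σ : P9} (h : ∀ x : Fin 9, ¬ (x ≠ 4 ∧ x ≠ 5 ∧ x ≠ 7 ∧ x ≠ 8) → σ x = x) :
    ∃ π, iota5 π = σ := by
  have hp : ∀ x : Fin 9, (σ x ≠ 4 ∧ σ x ≠ 5 ∧ σ x ≠ 7 ∧ σ x ≠ 8) ↔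
      (x ≠ 4 ∧ x ≠ 5 ∧ x ≠ 7 ∧ x ≠ 8) := by
    intro x
    by_cases hx : x ≠ 4 ∧ x ≠ 5 ∧ x ≠ 7 ∧ x ≠ 8
    · refine iff_of_true ?_ hx
      by_contra hc
      have := h _ hc
      rw [σ.injective this] at hc
      exact hc hx
    · rw [h x hx]
  refine ⟨five.trans ((σ.subtypePerm hp).trans five.symm), Equiv.ext fun i => ?_⟩
  show Perm.extendDomain _ five i = σ i
  by_cases hi : i ≠ 4 ∧ i ≠ 5 ∧ i ≠ 7 ∧ i ≠ 8
  · rw [Perm.extendDomain_apply_subtype
      (p := fun x : Fin 9 => x ≠ 4 ∧ x ≠ 5 ∧ x ≠ 7 ∧ x ≠ 8) _ _ hi]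
    simp
  · rw [Perm.extendDomain_apply_not_subtype
      (p := fun x : Fin 9 => x ≠ 4 ∧ x ≠ 5 ∧ x ≠ 7 ∧ x ≠ 8) _ _ hi, h i hi]

/-- The centraliser of `v` in the alternating group. -/
theorem exists_split {σ : P9} (hs : Perm.sign σ = 1) (hc : σ * v = v * σ) :
    ∃ π : P5, ∃ k ∈ K4, σ = mu π * k := by
  obtain ⟨v4, v5, v7, v8, w4, w5⟩ := vals
  have key : ∀ τ : P9, Perm.sign τ = 1 → τ * v = v * τ → τ 7 = 7 → ∃ π, mu π = τ := by
    intro τ hτs hτc h7
    have hv : ∀ x, τ (v x) = v (τ x) := fun x => congrArg (fun f : P9 => f x) hτc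
    have h8 : τ 8 = 8 := by have := hv 7; rwa [v7, h7, v7] at this
    have h5 : τ 5 = v (τ 4) := by have := hv 4; rwa [v4] at this
    have h4 : τ 4 = 4 ∨ τ 4 = 5 := by
      have hm : v (τ 4) ≠ τ 4 := by
        rw [← hv 4, v4]
        exact fun h => absurd (τ.injective h) (by decide)
      rcases moved _ hm with h | h | h | h
      · exact Or.inl h
      · exact Or.inr h
      · exact absurd (τ.injective (h.trans h7.symm)) (by decide)
      · exact absurd (τ.injective (h.trans h8.symm)) (by decide)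
    have fix : ∀ ρ : P9, ρ 4 = 4 → ρ 5 = 5 → ρ 7 = 7 → ρ 8 = 8 → ∃ π, iota5 π = ρ := by
      intro ρ a b c d
      refine exists_iota5 fun x hx => ?_
      simp only [not_and_or, not_not] at hx
      rcases hx with rfl | rfl | rfl | rfl <;> assumption
    have hsign : ∀ π, Perm.sign (iota5 π) = Perm.sign π := fun π =>
      Perm.sign_extendDomain π five
    rcases h4 with h | h
    · obtain ⟨π, hπ⟩ := fix τ h (by rw [h5, h, v4]) h7 h8
      refine ⟨π, ?_⟩
      show iota5 π * odd5 (Perm.sign π) = τ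
      rw [← hsign, hπ, hτs]
      simp
    · obtain ⟨π, hπ⟩ := fix (τ * swap 4 5)
        (by rw [Perm.mul_apply, swap_apply_left, h5, h, v5])
        (by rw [Perm.mul_apply, swap_apply_right, h])
        (by rw [Perm.mul_apply, swap_apply_of_ne_of_ne (by decide) (by decide), h7])
        (by rw [Perm.mul_apply, swap_apply_of_ne_of_ne (by decide) (by decide), h8])
      refine ⟨π, ?_⟩
      show iota5 π * odd5 (Perm.sign π) = τ
      rw [← hsign, hπ]
      simp [hτs, odd5, mul_assoc]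
  have hv7 : v (σ 7) ≠ σ 7 := by
    rw [← show σ (v 7) = v (σ 7) from congrArg (fun f : P9 => f 7) hc, v7]
    exact fun h => absurd (σ.injective h) (by decide)
  have main : ∀ k ∈ K4, k (σ 7) = 7 → ∃ π : P5, ∃ k ∈ K4, σ = mu π * k := by
    intro k hk h7
    obtain ⟨k1, k2, k3⟩ := K4_facts k hk
    obtain ⟨π, hπ⟩ := key (k * σ) (by simp [hs, k1])
      (by rw [mul_assoc, hc, ← mul_assoc, k2, mul_assoc]) h7
    obtain ⟨hms, -, hmw⟩ := mu_facts π
    have hσ : σ = k * mu π := by rw [hπ, ← mul_assoc, k3, one_mul]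
    have hcom : ∀ k ∈ K4, ∃ k' ∈ K4, k * mu π = mu π * k' := by
      have hv' : v * mu π = mu π * v := (mu_facts π).2.1.symm
      have hvv : v * v = 1 := (K4_facts v (by simp [K4])).2.2
      intro k hk
      simp only [K4, List.mem_cons, List.not_mem_nil, or_false] at hk
      rcases hk with rfl | rfl | rfl | rfl
      · exact ⟨1, by simp [K4], by simp⟩
      · exact ⟨v, by simp [K4], hv'⟩
      · rcases hmw with e | e
        · exact ⟨w9, by simp [K4], e.symm⟩
        · refine ⟨w9 * v, by simp [K4], ?_⟩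
          rw [← mul_assoc, e, mul_assoc, ← hv', ← mul_assoc, mul_assoc w9 v v, hvv, mul_one]
      · rcases hmw with e | e
        · exact ⟨w9 * v, by simp [K4], by rw [mul_assoc, hv', ← mul_assoc, ← e, mul_assoc]⟩
        · exact ⟨w9, by simp [K4], e.symm⟩
    obtain ⟨k', hk', e⟩ := hcom k hk
    exact ⟨π, k', hk', hσ.trans e⟩
  obtain ⟨w7, w8, wv7, wv8⟩ : w9 7 = 4 ∧ w9 8 = 5 ∧ (w9 * v) 5 = 7 ∧ (v : P9) 8 = 7 := by
    decide +kernel
  rcases moved _ hv7 with h | h | h | h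
  · exact main w9 (by simp [K4]) (by rw [h, w4])
  · exact main (w9 * v) (by simp [K4]) (by rw [h, wv7])
  · exact main 1 (by simp [K4]) (by rw [h]; rfl)
  · exact main v (by simp [K4]) (by rw [h, v8])

/-- `(36)(01)` -/
def u9 : P9 := mu (a5 * b5)
/-- `(01)(45)` -/
def t2' : P9 := mu b5
/-- The exchange of `d` and `t2'`. -/
def h5' : P5 := swap 0 2 * swap 1 3
/-- An element of order five. -/
def c5 : P5 := swap 0 1 * swap 1 2 * swap 2 3 * swap 3 4

theorem named : mu a5 = d ∧ mu h5' * t2' * (mu h5')⁻¹ = d ∧ w9 * (d * v) = d * w9 ∧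
    d * v = v * d ∧ Perm.sign u9 = 1 ∧ sz d = 4 ∧ sz (d * v) = 4 ∧ sz w9 = 4 ∧ sz (w9 * v) = 4 ∧
    sz (mu (a5 * b5)) = 4 := by decide +kernel

theorem u9_split : ∀ k ∈ K4, sz (u9 * k) ≠ 4 ∨ sz (u9 * k * v) ≠ 4 := by decide +kernel

theorem a5_split : ∀ k ∈ K4, (d * k) * (d * k) = 1 → k = 1 ∨ k = v := by decide +kernel

theorem r5_split : ∀ k ∈ K4, (mu r5 * k) ^ 3 = 1 → k = 1 := by decide +kernel

theorem no_five' : ∀ π : P5, ∀ s ∈ corr, ∀ k ∈ K4,
    (iota5 π * s * k) * d = d * (iota5 π * s * k) →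
    (iota5 π * s * k) ^ 5 = 1 → iota5 π * s * k = 1 := by decide +kernel

theorem no_five (π : P5) (k : P9) (hk : k ∈ K4) (h : (mu π * k) * d = d * (mu π * k))
    (h5 : (mu π * k) ^ 5 = 1) : mu π * k = 1 := by
  obtain ⟨s, hs, e, -⟩ := mu_cases π
  rw [e] at h h5 ⊢
  exact no_five' π s hs k hk h h5

theorem c5_facts : mu c5 * w9 = w9 * mu c5 ∧ (mu c5) ^ 5 = 1 ∧ mu c5 ≠ 1 := by decide +kernel

set_option synthInstance.maxSize 4096 in
set_option synthInstance.maxHeartbeats 200000 in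
-- nested bounded quantifiers
theorem typeA' : ∀ π : P5, π * (a5 * b5) = a5 * b5 * π → ∀ s ∈ corr, ∀ k ∈ K4,
    sz (iota5 π * s * k) = 4 → sz (iota5 π * s * k * v) = 4 →
      (iota5 π * s * k) * (iota5 π * s * k) = 1 →
        iota5 π * s * k ∈ [w9, w9 * v, d, d * v, t2', t2' * v] := by decide +kernel

/-- Elements of type A in the model Sylow two-subgroup. -/
theorem typeA (π : P5) (hπ : π * (a5 * b5) = a5 * b5 * π) (k : P9) (hk : k ∈ K4)
    (h1 : sz (mu π * k) = 4) (h2 : sz (mu π * k * v) = 4)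
    (h3 : (mu π * k) * (mu π * k) = 1) :
    mu π * k ∈ [w9, w9 * v, d, d * v, t2', t2' * v] := by
  obtain ⟨s, hs, e, -⟩ := mu_cases π
  rw [e] at h1 h2 h3 ⊢
  exact typeA' π hπ s hs k hk h1 h2 h3

theorem norm_D5' : ∀ π : P5, ∀ s ∈ corr, ∀ k ∈ K4, ∀ x ∈ [d, d * v, t2', t2' * v],
    (iota5 π * s * k) * d = x * (iota5 π * s * k) → ∀ y ∈ [d, d * v, t2', t2' * v],
    (iota5 π * s * k) * t2' = y * (iota5 π * s * k) →
      π * (a5 * b5) = a5 * b5 * π := by decide +kernel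

theorem norm_D5 (π : P5) (k : P9) (hk : k ∈ K4)
    (h1 : mu π * k * d * (mu π * k)⁻¹ ∈ [d, d * v, t2', t2' * v])
    (h2 : mu π * k * t2' * (mu π * k)⁻¹ ∈ [d, d * v, t2', t2' * v]) :
    π * (a5 * b5) = a5 * b5 * π := by
  obtain ⟨s, hs, e, -⟩ := mu_cases π
  rw [e] at h1 h2
  exact norm_D5' π s hs k hk _ h1 (by group) _ h2 (by group)

theorem syl_facts' : ∀ π : P5, π * (a5 * b5) = a5 * b5 * π → ∀ s ∈ corr, ∀ k ∈ K4,
    (iota5 π * s * k) ^ 4 = 1 := by decide +kernel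

theorem syl_facts (π : P5) (hπ : π * (a5 * b5) = a5 * b5 * π) (k : P9) (hk : k ∈ K4) :
    (mu π * k) ^ 4 = 1 := by
  obtain ⟨s, hs, e, -⟩ := mu_cases π
  rw [e]
  exact syl_facts' π hπ s hs k hk

theorem u9_comm : ∀ k ∈ K4, k * u9 = u9 * k := by decide +kernel

end Cfsg.Agent.A9End52
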