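import Cfsg.Agent.Lib.A9Pieces59
import Cfsg.Agent.Lib.CoprimeGen
import Cfsg.Agent.Lib.PSpAmalgam31Inv
import Cfsg.Agent.S3331

/-!
S3339, alternating branch: the centraliser of the four group `⟨v, d⟩` is the model one.
-/

set_option autoImplicit false

namespace Cfsg.Agent.A9Base59

open Equiv Cfsg.Agent.CoprimeGen

/-! Model facts -/

def fp : P9 := swap 4 7 * swap 7 3 * (swap 5 8 * swap 8 6)
def tp : P9 := swap 1 2 * swap 3 6
def pp : P9 := swap 3 5 * swap 5 8 * swap 8 4 * swap 4 6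

theorem iter_aux : ∀ a b c : Fin 3, a ≠ b → a ≠ c → b ≠ c → ∀ x : Fin 3,
    (![a, b, c])^[6] x = x := by
  decide

theorem iter_six (g : Fin 3 → Fin 3) (hg : Function.Injective g) (x : Fin 3) : g^[6] x = x := by
  have h := iter_aux (g 0) (g 1) (g 2) (hg.ne (by decide)) (hg.ne (by decide)) (hg.ne (by decide)) x
  have e : ![g 0, g 1, g 2] = g := funext fun k => by fin_cases k <;> rfl
  rwa [e] at h

def first (k : Fin 3) : Fin 9 := ⟨3 * k.val, by omega⟩
def at' (k r : Fin 3) : Fin 9 := ⟨3 * k.val + r.val, by omega⟩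
def md (i : Fin 9) : Fin 3 := ⟨i.val % 3, by omega⟩

theorem bk_first : ∀ k, bk (first k) = k := by decide
theorem bk_at : ∀ k r, bk (at' k r) = k := by decide
theorem md_at : ∀ k r, md (at' k r) = r := by decide
theorem at_bk : ∀ i, at' (bk i) (md i) = i := by decide

theorem bk_pow_six {p : P9} (hp : p ∈ H9) (i : Fin 9) : bk ((p ^ 6) i) = bk i := by
  let g : Fin 3 → Fin 3 := fun k => bk (p (first k))
  have hstep : ∀ j, bk (p j) = g (bk j) := fun j =>
    ((hp.2 j (first (bk j))).1 (bk_first (bk j)).symm)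
  have hinj : Function.Injective g := fun a b h => by
    simpa [bk_first] using (hp.2 (first a) (first b)).2 h
  have hn : ∀ n : ℕ, ∀ j, bk ((p ^ n) j) = g^[n] (bk j) := by
    intro n
    induction n with
    | zero => simp
    | succ n ih =>
      intro j
      rw [pow_succ', Perm.mul_apply, hstep, ih, Function.iterate_succ_apply']
  rw [hn, iter_six g hinj]

/-- The exponent of `H9` divides `36`. -/
theorem pow_thirtysix {p : P9} (hp : p ∈ H9) : p ^ 36 = 1 := by
  have hq : ∀ j, bk ((p ^ 6) j) = bk j := bk_pow_six hp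
  rw [show (36 : ℕ) = 6 * 6 from rfl, pow_mul]
  generalize p ^ 6 = q at hq ⊢
  refine Equiv.ext fun i => ?_
  let g : Fin 3 → Fin 3 := fun r => md (q (at' (bk i) r))
  have hat : ∀ r, q (at' (bk i) r) = at' (bk i) (g r) := fun r => by
    have h := at_bk (q (at' (bk i) r))
    rw [hq, bk_at] at h
    exact h.symm
  have hinj : Function.Injective g := fun a b h => by
    have := q.injective ((hat a).trans ((congrArg _ h).trans (hat b).symm))
    simpa [md_at] using congrArg md this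
  have hn : ∀ n : ℕ, (q ^ n) (at' (bk i) (md i)) = at' (bk i) (g^[n] (md i)) := by
    intro n
    induction n with
    | zero => simp
    | succ n ih => rw [pow_succ', Perm.mul_apply, ih, hat, Function.iterate_succ_apply']
  have h6 := hn 6
  rw [iter_six g hinj, at_bk] at h6
  rw [h6]
  rfl

theorem no_prime {p : P9} (hp : p ∈ H9) {r : ℕ} (hr : r = 5 ∨ r = 7) (h : p ^ r = 1) : p = 1 := by
  have h1 := pow_gcd_eq_one.2 ⟨pow_thirtysix hp, h⟩
  rcases hr with rfl | rfl <;> simpa using h1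

/-- The candidate permutations of `C(e 0, v, d)` ignoring parity. -/
def cand (x : Fin 3 × Fin 9 × Fin 9 × Fin 9) : Fin 9 → Fin 9 :=
  ![⟨x.1.val, by omega⟩, (e 0) ⟨x.1.val, by omega⟩, (e 0) ((e 0) ⟨x.1.val, by omega⟩), x.2.1,
    x.2.2.1, v x.2.2.1, d x.2.1, x.2.2.2, v x.2.2.2]

def odd' : List P9 := [1, v, d, v * d]

theorem cand_cover : ∀ x : Fin 3 × Fin 9 × Fin 9 × Fin 9,
    (bk x.2.1 ≠ 0 ∧ v x.2.1 = x.2.1 ∧ v x.2.2.1 ≠ x.2.2.1 ∧ v x.2.2.2 ≠ x.2.2.2 ∧
      d x.2.2.1 = v x.2.2.1 ∧ d x.2.2.2 = x.2.2.2 ∧ bk x.2.2.1 ≠ 0) →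
    ∃ w ∈ odd', ∃ s : Bool, ∀ i, cand x i =
      (((e 0) ^ x.1.val * w * (if s then swap 3 6 else 1) : P9)) i := by
  decide +kernel

theorem sign_cand : ∀ (i : Fin 3) (w : P9), w ∈ odd' →
    Perm.sign ((e 0) ^ i.val * w * swap 3 6) = -1 := by
  intro i
  fin_cases i <;> simp [odd'] <;> decide +kernel

theorem mk_four {k : Fin 3} {w : P9} (hw : w ∈ odd') :
    (e 0) ^ k.val * w ∈ N9 0 := by
  simp only [odd', List.mem_cons, List.not_mem_nil, or_false] at hw
  rcases hw with rfl | rfl | rfl | rfl <;> fin_cases k <;> decide +kernel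

theorem cent_model {p : P9} (hp : p ∈ N9 0) (he : p * e 0 = e 0 * p) (hv : p * v = v * p)
    (hd : p * d = d * p) : ∃ k : Fin 3, ∃ w ∈ odd', p = (e 0) ^ k.val * w := by
  have E' : ∀ i, p ((e 0) i) = (e 0) (p i) := fun i => Equiv.ext_iff.1 he i
  have V' : ∀ i, p (v i) = v (p i) := fun i => Equiv.ext_iff.1 hv i
  have D' : ∀ i, p (d i) = d (p i) := fun i => Equiv.ext_iff.1 hd i
  have h0 : bk (p 0) = 0 := (hp.2 0).1 (by decide)
  have hn : ∀ i, bk i ≠ 0 → bk (p i) ≠ 0 := fun i hi h => hi ((hp.2 i).2 h)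
  have h0' : (p 0).val < 3 := by
    have := congrArg Fin.val h0
    simp only [bk, Fin.val_zero] at this
    omega
  let x : Fin 3 × Fin 9 × Fin 9 × Fin 9 := (⟨(p 0).val, h0'⟩, p 3, p 4, p 7)
  have hx : ∀ i, cand x i = p i := by
    have a1 := E' 0
    rw [show (e 0) 0 = 1 by decide +kernel] at a1
    have a2 := E' 1
    rw [show (e 0) 1 = 2 by decide +kernel, a1] at a2
    have a5 := V' 4
    rw [show v 4 = 5 by decide +kernel] at a5
    have a8 := V' 7
    rw [show v 7 = 8 by decide +kernel] at a8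
    have a6 := D' 3
    rw [show d 3 = 6 by decide +kernel] at a6
    intro i
    fin_cases i
    · rfl
    · exact a1.symm
    · exact a2.symm
    · rfl
    · rfl
    · exact a5.symm
    · exact a6.symm
    · rfl
    · exact a8.symm
  have c1 : v (p 3) = p 3 := by rw [← V']; congr 1
  have c2 : v (p 4) ≠ p 4 := by rw [← V']; exact fun h => absurd (p.injective h) (by decide +kernel)
  have c3 : v (p 7) ≠ p 7 := by rw [← V']; exact fun h => absurd (p.injective h) (by decide +kernel)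
  have c4 : d (p 4) = v (p 4) := by rw [← V', ← D']; congr 1
  have c5 : d (p 7) = p 7 := by rw [← D']; congr 1
  obtain ⟨w, hw, s, hs⟩ := cand_cover x ⟨hn 3 (by decide), c1, c2, c3, c4, c5, hn 4 (by decide)⟩
  have hp' : p = (e 0) ^ x.1.val * w * (if s then swap 3 6 else 1) :=
    Equiv.ext fun i => (hx i).symm.trans (hs i)
  cases s
  · exact ⟨x.1, w, hw, by simpa using hp'⟩
  · have h1 := hp.1
    rw [hp', if_pos rfl, sign_cand x.1 w hw] at h1
    exact absurd h1 (by decide)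

theorem quot_aux : ∀ a b : Perm (Fin 3), a ^ 3 = 1 →
    (b * a * b⁻¹ = a ∨ b * a * b⁻¹ = a⁻¹) := by decide +kernel

theorem quot_aux2_bool : ∀ a : Perm (Fin 3), ∀ b : Perm (Fin 3),
    (decide (a ^ 3 = 1) && !decide (a = 1) && decide (b ^ 2 = 1) &&
      decide ((a * b * a⁻¹ * b⁻¹) * (a * b * a⁻¹ * b⁻¹) = 1) && !decide (b = 1)) = false := by
  decide +kernel

theorem quot_aux2 (a b : Perm (Fin 3)) (h1 : a ^ 3 = 1) (h2 : a ≠ 1) (h3 : b ^ 2 = 1)
    (h4 : (a * b * a⁻¹ * b⁻¹) ^ 2 = 1) : b = 1 := by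
  by_contra h5
  rw [pow_two] at h4
  simpa [h1, h2, h3, h4, h5] using quot_aux2_bool a b

/-! Generic facts -/

theorem count_prime {Q : Type*} [Group Q] [Finite Q] {r : ℕ} [hr : Fact r.Prime]
    (hd : r ∣ Nat.card Q) (hd2 : ¬ r * r ∣ Nat.card Q) :
    Nat.card {y : Q // y ^ r = 1 ∧ y ≠ 1} = Nat.card (Sylow r Q) * (r - 1) := by
  classical
  have hcard : ∀ R : Sylow r Q, Nat.card (R : Subgroup Q) = r := fun R => by
    rw [R.card_eq_multiplicity]
    have hm : (Nat.card Q).factorization r = 1 := by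
      have hne : Nat.card Q ≠ 0 := Nat.card_pos.ne'
      have h1 : 1 ≤ (Nat.card Q).factorization r :=
        (hr.out.pow_dvd_iff_le_factorization hne).1 (by rwa [pow_one])
      by_contra h
      exact hd2 (by
        have := (hr.out.pow_dvd_iff_le_factorization (k := 2) hne).2 (by omega)
        rwa [pow_two] at this)
    rw [hm, pow_one]
  have hgen : ∀ (R : Sylow r Q) (y : Q), y ∈ R → y ≠ 1 → Subgroup.zpowers y = R := by
    intro R y hy hy1
    refine Subgroup.eq_of_le_of_card_ge (Subgroup.zpowers_le.2 hy) ?_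
    rw [hcard, Nat.card_zpowers]
    have : y ^ r = 1 := by
      have h := pow_card_eq_one' (x := (⟨y, hy⟩ : (R : Subgroup Q)))
      rw [hcard] at h
      simpa using congrArg Subtype.val h
    exact (orderOf_eq_prime this hy1).ge
  let F' : (Σ R : Sylow r Q, {y : (R : Subgroup Q) // y ≠ 1}) → {y : Q // y ^ r = 1 ∧ y ≠ 1} :=
    fun s => ⟨s.2.1.1, by
      have h := pow_card_eq_one' (x := s.2.1)
      rw [hcard] at h
      simpa using congrArg Subtype.val h, fun h => s.2.2 (Subtype.ext h)⟩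
  have hbij : Function.Bijective F' := by
    refine ⟨?_, ?_⟩
    · rintro ⟨R, ⟨y, hy⟩, hy1⟩ ⟨R', ⟨y', hy'⟩, hy1'⟩ h
      have e : y = y' := congrArg Subtype.val h
      subst e
      have hy0 : y ≠ 1 := fun h => hy1 (Subtype.ext h)
      have : R = R' := Sylow.ext ((hgen R y hy hy0).symm.trans (hgen R' y hy' hy0))
      subst this
      rfl
    · rintro ⟨y, hy, hy1⟩
      have hp : IsPGroup r (Subgroup.zpowers y) := IsPGroup.of_card (n := 1)
        (by rw [Nat.card_zpowers, orderOf_eq_prime hy hy1, pow_one])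
      obtain ⟨R, hR⟩ := hp.exists_le_sylow
      exact ⟨⟨R, ⟨y, hR (Subgroup.mem_zpowers y)⟩, fun h => hy1 (congrArg Subtype.val h)⟩, rfl⟩
  haveI := Fintype.ofFinite (Sylow r Q)
  rw [← Nat.card_eq_of_bijective F' hbij, Nat.card_sigma]
  have : ∀ R : Sylow r Q, Nat.card {y : (R : Subgroup Q) // y ≠ 1} = r - 1 := by
    intro R
    letI := Fintype.ofFinite (R : Subgroup Q)
    rw [Nat.card_eq_fintype_card, Fintype.card_subtype_compl, Fintype.card_subtype_eq,
      ← Nat.card_eq_fintype_card, hcard]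
  simp [this, Nat.card_eq_fintype_card]

theorem not_nine_dvd {Q : Type*} [Group Q] [Finite Q] {r : ℕ} [hr : Fact r.Prime] {n : ℕ}
    (hn : Nat.card Q = n) (h : (n = 60 ∧ r = 5) ∨ (n = 168 ∧ r = 7)) :
    ¬ 9 ∣ Nat.card {y : Q // y ^ r = 1 ∧ y ≠ 1} := by
  rcases h with ⟨rfl, rfl⟩ | ⟨rfl, rfl⟩
  · rw [count_prime (by rw [hn]; norm_num) (by rw [hn]; norm_num)]
    have h1 : Nat.card (Sylow 5 Q) ∣ 60 := by
      rw [← hn]
      exact (Sylow.card_dvd_index (default : Sylow 5 Q)).trans (Subgroup.index_dvd_card _)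
    have h2 : Nat.card (Sylow 5 Q) % 5 = 1 := card_sylow_modEq_one 5 Q
    have h3 := Nat.le_of_dvd (by norm_num) h1
    interval_cases (Nat.card (Sylow 5 Q)) <;> simp_all
  · rw [count_prime (by rw [hn]; norm_num) (by rw [hn]; norm_num)]
    have h1 : Nat.card (Sylow 7 Q) ∣ 168 := by
      rw [← hn]
      exact (Sylow.card_dvd_index (default : Sylow 7 Q)).trans (Subgroup.index_dvd_card _)
    have h2 : Nat.card (Sylow 7 Q) % 7 = 1 := card_sylow_modEq_one 7 Q
    have h3 := Nat.le_of_dvd (by norm_num) h1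
    interval_cases (Nat.card (Sylow 7 Q)) <;> simp_all

variable {G : Type*} [Group G] {J : Subgroup G} {φ : H9 →* G} {ι : ∀ k : Fin 3, N9 k →* G}

theorem Loc.mem_J (L : Loc J φ) : ∀ k, φ (E k) ∈ J := by
  intro k
  rw [L.base]
  refine Subgroup.subset_closure ?_
  fin_cases k <;> simp

theorem E_comm : ∀ k l : Fin 3, E k * E l = E l * E k := by decide +kernel

theorem E_cube : ∀ k : Fin 3, E k ^ 3 = 1 := by decide +kernel

theorem Loc.J_comm (L : Loc J φ) {a b : G} (ha : a ∈ J) (hb : b ∈ J) : Commute a b := by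
  have hb' : b ∈ Subgroup.centralizer (J : Set G) := by
    rw [L.cJ]; exact hb
  exact (Subgroup.mem_centralizer_iff.1 hb' a ha)

theorem Loc.J_cube (L : Loc J φ) {a : G} (ha : a ∈ J) : a ^ 3 = 1 := by
  have ha' := ha
  rw [L.base] at ha
  refine Subgroup.closure_induction (p := fun x _ => x ^ 3 = 1) ?_ (one_pow 3) ?_ ?_ ha
  · intro x hx
    simp only [Set.mem_insert_iff, Set.mem_singleton_iff] at hx
    rcases hx with rfl | rfl | rfl <;> rw [← map_pow, E_cube, map_one]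
  · intro x y hx hy hx3 hy3
    rw [← L.base] at hx hy
    rw [(L.J_comm hx hy).mul_pow, hx3, hy3, one_mul]
  · intro x _ hx3
    rw [inv_pow, hx3, inv_one]

theorem Loc.mem_range (L : Loc J φ) {g : G} (hg : g ∈ Subgroup.normalizer (J : Set G)) :
    ∃ h, φ h = g := MonoidHom.mem_range.1 (L.range_eq.ge hg)

/-- `t` is conjugate, by an element centralising `e 0`, to an element with local centraliser. -/
def Conj0 (J : Subgroup G) (e0 t : G) : Prop :=
  ∃ (g w : G), Commute g e0 ∧ g * w * g⁻¹ = t ∧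
    Subgroup.centralizer ({w} : Set G) ≤ Subgroup.normalizer (J : Set G)

theorem Conj0.no_prime (L : Loc J φ) {e0 t : G} (h : Conj0 J e0 t) {r : ℕ} (hr : r = 5 ∨ r = 7)
    {y : G} (hy : Commute y t) (hyr : y ^ r = 1) : y = 1 := by
  obtain ⟨g, w, -, rfl, hw⟩ := h
  obtain ⟨u, hu⟩ := L.mem_range (hw (x := g⁻¹ * y * g) (Subgroup.mem_centralizer_singleton_iff.2 (by
    calc g⁻¹ * y * g * w = g⁻¹ * (y * (g * w * g⁻¹)) * g := by group
      _ = g⁻¹ * ((g * w * g⁻¹) * y) * g := by rw [hy.eq]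
      _ = w * (g⁻¹ * y * g) := by group)))
  have h1 : u ^ r = 1 := L.inj (by
    rw [map_pow, hu, map_one]
    have : g⁻¹ * y * g = g⁻¹ * y * g⁻¹⁻¹ := by rw [inv_inv]
    rw [this, conj_pow, hyr]; group)
  have h2 : u = 1 := Subtype.ext (A9Base59.no_prime u.2 hr (congrArg Subtype.val h1))
  rw [h2, map_one] at hu
  calc y = g * (g⁻¹ * y * g) * g⁻¹ := by group
    _ = 1 := by rw [← hu]; group

/-- A `3'`-element `c = [y, e0]` for `y` centralising such a `t` is trivial. -/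
theorem Conj0.commute (L : Loc J φ) {e0 t : G} (he0 : e0 ∈ J) (h : Conj0 J e0 t) {y : G}
    (hy : Commute y t) (hcop : (orderOf (y * e0 * y⁻¹ * e0⁻¹)).Coprime 3) : Commute y e0 := by
  obtain ⟨g, w, hge, rfl, hw⟩ := h
  have hn : g⁻¹ * y * g ∈ Subgroup.normalizer (J : Set G) :=
    hw (Subgroup.mem_centralizer_singleton_iff.2 (by
    calc g⁻¹ * y * g * w = g⁻¹ * (y * (g * w * g⁻¹)) * g := by group
      _ = g⁻¹ * ((g * w * g⁻¹) * y) * g := by rw [hy.eq]
      _ = w * (g⁻¹ * y * g) := by group))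
  set c := y * e0 * y⁻¹ * e0⁻¹
  have hc : g⁻¹ * c * g = (g⁻¹ * y * g) * e0 * (g⁻¹ * y * g)⁻¹ * e0⁻¹ := by
    have e1 : g⁻¹ * e0 * g = e0 := by rw [mul_assoc, ← hge.eq]; group
    calc g⁻¹ * c * g = (g⁻¹ * y * g) * (g⁻¹ * e0 * g) * (g⁻¹ * y * g)⁻¹ * (g⁻¹ * e0 * g)⁻¹ := by
          simp only [c]; group
      _ = _ := by rw [e1]
  have hcJ : g⁻¹ * c * g ∈ J := hc ▸ J.mul_mem ((Subgroup.mem_normalizer_iff.1 hn e0).1 he0)
    (J.inv_mem he0)
  have h3 : c ^ 3 = 1 := by
    have := L.J_cube hcJ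
    rw [show g⁻¹ * c * g = g⁻¹ * c * g⁻¹⁻¹ by rw [inv_inv], conj_pow] at this
    calc c ^ 3 = g * (g⁻¹ * c ^ 3 * g⁻¹⁻¹) * g⁻¹ := by group
      _ = 1 := by rw [this]; group
  have h1 : c = 1 := by
    rw [← orderOf_eq_one_iff]
    exact Nat.eq_one_of_dvd_coprimes hcop dvd_rfl (orderOf_dvd_of_pow_eq_one h3)
  show y * e0 = e0 * y
  calc y * e0 = c * (e0 * y) := by simp only [c]; group
    _ = e0 * y := by rw [h1, one_mul]

/-- The four group `⟨v, d⟩`. -/
def V4 : Subgroup P9 where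
  carrier := {p | p = 1 ∨ p = v ∨ p = d ∨ p = v * d}
  one_mem' := Or.inl rfl
  mul_mem' := by
    rintro a b (rfl | rfl | rfl | rfl) (rfl | rfl | rfl | rfl) <;>
      simp only [Set.mem_setOf_eq] <;> decide +kernel
  inv_mem' := by
    rintro a (rfl | rfl | rfl | rfl) <;> simp only [Set.mem_setOf_eq] <;> decide +kernel

theorem mem_odd {p : P9} : p ∈ V4 ↔ p ∈ odd' := by
  show (p = 1 ∨ p = v ∨ p = d ∨ p = v * d) ↔ _
  simp [odd']

theorem V4_le : ∀ p ∈ V4, p ∈ N9 0 := by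
  rintro p (rfl | rfl | rfl | rfl) <;> decide +kernel

theorem V4_facts : ∀ p ∈ V4, p * v = v * p ∧ p * d = d * p ∧ p * p = 1 ∧ e 0 * p = p * e 0 := by
  rintro p (rfl | rfl | rfl | rfl) <;> decide +kernel

theorem conj_data : ∀ i : Fin 3, ∀ j : Fin 2, ∃ s ∈ [pp],
    s ∈ N9 0 ∧ s * e 0 = e 0 * s ∧
      (s⁻¹ * ((e 0) ^ i.val * fp ^ (j.val + 1)) * s ∈
        [e 1 * e 2, (e 1 * e 2)⁻¹, e 0 * e 1 * e 2, (e 0 * e 1 * e 2)⁻¹,
          (e 0)⁻¹ * e 1 * e 2, ((e 0)⁻¹ * e 1 * e 2)⁻¹]) := by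
  decide +kernel

end Cfsg.Agent.A9Base59
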