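import Cfsg.Agent.Lib.A9Four59

/-! Finite facts for the centraliser of `⟨v, d⟩` (S3339). -/

set_option autoImplicit false

namespace Cfsg.Agent.A9Base59

open Equiv

def rot' : P9 := swap 0 3 * swap 3 6 * (swap 1 4 * swap 4 7) * (swap 2 5 * swap 5 8)
def u1 : P9 := swap 3 6 * swap 4 7 * swap 5 8 * swap 0 1

theorem rot'_mem : rot' ∈ H9 := ⟨by simp [rot'], by decide +kernel⟩

theorem u1_mem : u1 ∈ H9 := ⟨by simp [u1], by decide +kernel⟩

theorem rot'_conj : rot' * (e 0 * e 1) = e 1 * e 2 * rot' := by decide +kernel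

theorem u1_conj : u1 * (e 0 * e 1 * e 2) = (e 0)⁻¹ * e 1 * e 2 * u1 := by decide +kernel

theorem local_data : ∀ t ∈ [e 1 * e 2, e 0 * e 1 * e 2, (e 0)⁻¹ * e 1 * e 2],
    ∃ u ∈ [1, rot', u1],
      u ∈ H9 ∧ (u * (e 0 * e 1) * u⁻¹ = t ∨ u * (e 0 * e 1 * e 2) * u⁻¹ = t) := by
  intro t ht
  simp only [List.mem_cons, List.not_mem_nil, or_false] at ht
  rcases ht with rfl | rfl | rfl
  · exact ⟨rot', by simp, rot'_mem, Or.inl (mul_inv_eq_iff_eq_mul.2 rot'_conj)⟩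
  · exact ⟨1, by simp, one_mem _, Or.inr (by group)⟩
  · exact ⟨u1, by simp, u1_mem, Or.inr (mul_inv_eq_iff_eq_mul.2 u1_conj)⟩

theorem fp_mem : fp ∈ N9 0 := ⟨by simp [fp], by decide +kernel⟩

theorem fp_rel : fp * e 0 = e 0 * fp ∧ fp * d = v * fp ∧ fp * v = v * d * fp ∧
    fp * (v * d) = d * fp := by decide +kernel

theorem fp_rest : fp ^ 3 = 1 ∧ fp ≠ 1 ∧ e 0 ≠ 1 ∧ e 0 ^ 3 = 1 ∧ e 0 ≠ fp ∧ e 0 ≠ fp ^ 2 ∧
    fp ≠ e 0 ∧ fp ≠ e 0 ^ 2 := by decide +kernel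

theorem fp_facts : fp ∈ N9 0 ∧ fp ^ 3 = 1 ∧ fp ≠ 1 ∧ fp * e 0 = e 0 * fp ∧
    (∀ p ∈ odd', fp⁻¹ * p * fp ∈ odd') ∧ (∀ p ∈ odd', fp * p * fp⁻¹ ∈ odd') ∧
    e 0 ≠ 1 ∧ e 0 ^ 3 = 1 ∧ e 0 ≠ fp ∧ e 0 ≠ fp ^ 2 ∧ fp ≠ e 0 ∧ fp ≠ e 0 ^ 2 := by
  obtain ⟨he, hd, hv, hvd⟩ := fp_rel
  obtain ⟨h1, h2, h3⟩ := fp_rest
  refine ⟨fp_mem, h1, h2, he, ?_, ?_, h3⟩
  · intro p hp
    simp only [odd', List.mem_cons, List.not_mem_nil, or_false] at hp ⊢
    rcases hp with rfl | rfl | rfl | rfl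
    · left; group
    · right; right; left
      rw [mul_assoc, ← hd]; group
    · right; right; right
      rw [mul_assoc, ← hvd]; group
    · right; left
      rw [mul_assoc, ← hv]; group
  · intro p hp
    simp only [odd', List.mem_cons, List.not_mem_nil, or_false] at hp ⊢
    rcases hp with rfl | rfl | rfl | rfl
    · left; group
    · right; right; right; rw [hv]; group
    · right; left; rw [hd]; group
    · right; right; left; rw [hvd]; group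

theorem tp_facts : tp ∈ N9 0 ∧ tp * v = v * tp ∧ tp * d = d * tp ∧ tp * tp = 1 ∧
    tp * e 0 * tp = (e 0)⁻¹ := by
  refine ⟨⟨by simp [tp], by decide +kernel⟩, ?_⟩
  decide +kernel

theorem not_odd : ∀ k : Fin 3, ∀ w ∈ odd', k ≠ 0 → (e 0) ^ k.val * w ∉ odd' := by
  intro k w hw hk hmem
  simp only [odd', List.mem_cons, List.not_mem_nil, or_false] at hw hmem
  have key : ∀ i : Fin 9, bk i = 0 → w i = i ∧ ∀ u ∈ odd', u i = i := by
    intro i hi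
    have hall : ∀ u ∈ odd', u i = i := by
      intro u hu
      simp only [odd', List.mem_cons, List.not_mem_nil, or_false] at hu
      revert hi
      rcases hu with rfl | rfl | rfl | rfl <;> fin_cases i <;> decide +kernel
    exact ⟨hall w (by simpa [odd'] using hw), hall⟩
  have h0 : ((e 0) ^ k.val * w) 0 = 0 := (key 0 (by decide)).2 _ (by simpa [odd'] using hmem)
  rw [Perm.mul_apply, (key 0 (by decide)).1] at h0
  revert h0 hk
  fin_cases k <;> decide +kernel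

theorem odd_comm : ∀ p ∈ odd', p * p = 1 ∧ e 0 * p = p * e 0 ∧ p * v = v * p ∧ p * d = d * p := by
  intro p hp
  obtain ⟨h1, h2, h3, h4⟩ := V4_facts p (mem_odd.2 hp)
  exact ⟨h3, h4, h1, h2⟩

theorem odd_mem : ∀ p ∈ odd', p ∈ N9 0 := fun p hp => V4_le p (mem_odd.2 hp)

theorem odd_facts : ∀ p ∈ odd', p ∈ N9 0 ∧ p * p = 1 ∧ e 0 * p = p * e 0 ∧ p * v = v * p ∧
    p * d = d * p ∧ Perm.sign p = 1 := fun p hp =>
  ⟨odd_mem p hp, (odd_comm p hp).1, (odd_comm p hp).2.1, (odd_comm p hp).2.2.1,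
    (odd_comm p hp).2.2.2, (odd_mem p hp).1⟩

theorem e0_not_mem : ∀ k : Fin 3, ∀ w ∈ odd', k ≠ 0 → (e 0) ^ k.val * w ∉ odd' ∧
    ((e 0) ^ k.val * w) ^ 4 ≠ 1 := by
  intro k w hw hk
  refine ⟨not_odd k w hw hk, fun h => ?_⟩
  obtain ⟨hww, hc, -, -⟩ := odd_comm w hw
  have h4 : w ^ 4 = 1 := by
    rw [show (4 : ℕ) = 2 * 2 from rfl, pow_mul, sq w, hww, one_pow]
  rw [((show Commute (e 0) w from hc).pow_left _).mul_pow, h4, mul_one, ← pow_mul,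
    show k.val * 4 = k.val + 3 * k.val by ring, pow_add, pow_mul, fp_rest.2.2.2.1, one_pow,
    mul_one] at h
  refine not_odd k 1 (by simp [odd']) hk ?_
  rw [h]; simp [odd']

theorem a5_aux : ∀ y : alternatingGroup (Fin 5), y ^ 2 = 1 → y ≠ 1 →
    ∃ g : alternatingGroup (Fin 5), (y * (g * y * g⁻¹)) ^ 2 ≠ 1 := by
  decide +kernel

theorem a5_sq_aux : ∀ a : alternatingGroup (Fin 5), (a * a) * (a * a) = 1 → a * a = 1 := by
  decide +kernel

theorem a5_sq (a : alternatingGroup (Fin 5)) (h : a ^ 4 = 1) : a ^ 2 = 1 := by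
  rw [pow_two]
  exact a5_sq_aux a (by rw [← h, pow_succ, pow_succ, pow_succ, pow_one, mul_assoc (a * a)])

end Cfsg.Agent.A9Base59
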