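import Cfsg.Agent.Lib.A9FourFacts59

/-!
S3339, alternating branch: `cent_four`, the centraliser of `⟨v, d⟩` lies in the piece `ι 0`.
-/

set_option autoImplicit false

namespace Cfsg.Agent.A9Base59

open Equiv Cfsg.Agent.CoprimeGen

variable {G : Type*} [Group G] {J : Subgroup G} {φ : H9 →* G} {ι : ∀ k : Fin 3, N9 k →* G}

theorem local_cent (L : Loc J φ) (B : Branch φ ι) {t : P9}
    (ht : t ∈ [e 1 * e 2, (e 1 * e 2)⁻¹, e 0 * e 1 * e 2, (e 0 * e 1 * e 2)⁻¹,
      (e 0)⁻¹ * e 1 * e 2, ((e 0)⁻¹ * e 1 * e 2)⁻¹]) :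
    Subgroup.centralizer ({F φ ι t} : Set G) ≤ Subgroup.normalizer (J : Set G) := by
  have key : ∀ s ∈ [e 1 * e 2, e 0 * e 1 * e 2, (e 0)⁻¹ * e 1 * e 2],
      s ∈ H9 ∧ Subgroup.centralizer ({F φ ι s} : Set G) ≤ Subgroup.normalizer (J : Set G) := by
    intro s hs
    obtain ⟨u, -, huH, hu⟩ := local_data s hs
    have hN : φ ⟨u, huH⟩ ∈ Subgroup.normalizer (J : Set G) := L.range_eq ▸ ⟨_, rfl⟩
    have main : ∀ W : H9, u * (W : P9) * u⁻¹ = s →
        Subgroup.centralizer ({φ W} : Set G) ≤ Subgroup.normalizer (J : Set G) →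
        s ∈ H9 ∧ Subgroup.centralizer ({F φ ι s} : Set G) ≤ Subgroup.normalizer (J : Set G) := by
      intro W hW hle
      have hsH : s ∈ H9 := hW ▸ mul_mem (mul_mem huH W.2) (inv_mem huH)
      refine ⟨hsH, fun c hc => ?_⟩
      have he : F φ ι s = φ ⟨u, huH⟩ * φ W * (φ ⟨u, huH⟩)⁻¹ := by
        rw [F_H hsH, ← map_inv, ← map_mul, ← map_mul]
        exact congrArg φ (Subtype.ext hW.symm)
      have hc' := Subgroup.mem_centralizer_singleton_iff.1 hc
      rw [he] at hc'
      set U := φ ⟨u, huH⟩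
      have : U⁻¹ * c * U ∈ Subgroup.centralizer ({φ W} : Set G) :=
        Subgroup.mem_centralizer_singleton_iff.2 (by
          calc U⁻¹ * c * U * φ W = U⁻¹ * (c * (U * φ W * U⁻¹)) * U := by group
            _ = U⁻¹ * ((U * φ W * U⁻¹) * c) * U := by rw [hc']
            _ = φ W * (U⁻¹ * c * U) := by group)
      have h2 := mul_mem (mul_mem hN (hle this)) (inv_mem hN)
      have e : U * (U⁻¹ * c * U) * U⁻¹ = c := by group
      rwa [e] at h2
    rcases hu with hu | hu
    · exact main (E 0 * E 1) hu L.cw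
    · exact main (E 0 * E 1 * E 2) hu L.cx
  have inv : ∀ s ∈ [e 1 * e 2, e 0 * e 1 * e 2, (e 0)⁻¹ * e 1 * e 2],
      Subgroup.centralizer ({F φ ι s⁻¹} : Set G) ≤ Subgroup.normalizer (J : Set G) := by
    intro s hs c hc
    have hH := (key s hs).1
    rw [F_inv B (Or.inl ⟨hH, inv_mem hH⟩), Subgroup.mem_centralizer_singleton_iff] at hc
    exact (key s hs).2 (Subgroup.mem_centralizer_singleton_iff.2
      ((Commute.inv_right_iff (a := c)).1 hc).eq)
  simp only [List.mem_cons, List.not_mem_nil, or_false] at ht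
  rcases ht with rfl | rfl | rfl | rfl | rfl | rfl
  · exact (key _ (by simp)).2
  · exact inv _ (by simp)
  · exact (key _ (by simp)).2
  · exact inv _ (by simp)
  · exact (key _ (by simp)).2
  · exact inv _ (by simp)

theorem conj0_of (L : Loc J φ) (B : Branch φ ι) (i : Fin 3) (j : Fin 2) :
    Conj0 J (F φ ι (e 0)) (F φ ι ((e 0) ^ i.val * fp ^ (j.val + 1))) := by
  obtain ⟨s, -, hs, hse, hw⟩ := conj_data i j
  set t := (e 0) ^ i.val * fp ^ (j.val + 1)
  have ht : t ∈ N9 0 := mul_mem (pow_mem (e_mem_N 0 0) _) (pow_mem fp_facts.1 _)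
  have hwN : s⁻¹ * t * s ∈ N9 0 := mul_mem (mul_mem (inv_mem hs) ht) hs
  refine ⟨F φ ι s, F φ ι (s⁻¹ * t * s), ?_, ?_, local_cent L B hw⟩
  · exact F_comm B (Or.inr ⟨0, hs, e_mem_N 0 0⟩) (Or.inr ⟨0, e_mem_N 0 0, hs⟩) hse
  · exact F_conj B (Or.inr ⟨0, hs, hwN⟩) (Or.inr ⟨0, ht, hs⟩) (by group)

set_option maxHeartbeats 2000000 in
/-- The model centraliser of `⟨v, d⟩`: the theorem `cent_four`. -/
theorem cent_four [Finite G] (L : Loc J φ) (B : Branch φ ι) {g : G}
    (hv : Commute g (F φ ι v)) (hd : Commute g (F φ ι d)) :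
    ∃ p, p ∈ N9 0 ∧ p * v = v * p ∧ p * d = d * p ∧ g = F φ ι p := by
  classical
  set ev := F φ ι v with hev
  set ed := F φ ι d with hed
  set x0 := F φ ι (e 0) with hx0
  set tf := F φ ι fp with htf
  obtain ⟨hfN, hf3, hf1, hfe, hfV, hfV', he1, he3, hne1, hne2, hne3, hne4⟩ := fp_facts
  have hvN : v ∈ N9 0 := by decide +kernel
  have hN : ∀ {a b : P9}, a ∈ N9 0 → b ∈ N9 0 → Ok a b := fun ha hb => Or.inr ⟨0, ha, hb⟩
  set X : Subgroup G := Subgroup.centralizer ({ev, ed} : Set G) with hX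
  have memX : ∀ {y : G}, y ∈ X ↔ Commute y ev ∧ Commute y ed := by
    intro y
    rw [hX, Subgroup.mem_centralizer_iff]
    refine ⟨fun h => ⟨(h ev (by simp)).symm, (h ed (by simp)).symm⟩, ?_⟩
    rintro ⟨h1, h2⟩ z (rfl | rfl)
    · exact h1.eq.symm
    · exact h2.eq.symm
  have hFX : ∀ {p : P9}, p ∈ N9 0 → p * v = v * p → p * d = d * p → F φ ι p ∈ X :=
    fun {p} hp h1 h2 => memX.2 ⟨F_comm B (hN hp hvN) (hN hvN hp) h1,
      F_comm B (hN hp d_mem) (hN d_mem hp) h2⟩
  have hXV : ∀ {y : G}, y ∈ X → ∀ p ∈ odd', Commute y (F φ ι p) := by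
    intro y hy p hp
    simp only [odd', List.mem_cons, List.not_mem_nil, or_false] at hp
    rcases hp with rfl | rfl | rfl | rfl
    · rw [F_one]; exact Commute.one_right y
    · exact (memX.1 hy).1
    · exact (memX.1 hy).2
    · rw [F_mul B (hN hvN d_mem)]; exact (memX.1 hy).1.mul_right (memX.1 hy).2
  have hmodel : ∀ {y : G}, y ∈ X → Commute y x0 → ∃ k : Fin 3, ∃ w ∈ odd',
      y = F φ ι ((e 0) ^ k.val * w) := by
    intro y hy hye
    obtain ⟨p, hp, hpe, rfl⟩ := cent_exists B hye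
    have hpv : p * v = v * p := F_inj_N B (mul_mem hp hvN) (mul_mem hvN hp) (by
      rw [F_mul B (hN hp hvN), F_mul B (hN hvN hp)]; exact (memX.1 hy).1.eq)
    have hpd : p * d = d * p := F_inj_N B (mul_mem hp d_mem) (mul_mem d_mem hp) (by
      rw [F_mul B (hN hp d_mem), F_mul B (hN d_mem hp)]; exact (memX.1 hy).2.eq)
    obtain ⟨k, w, hw, rfl⟩ := cent_model hp hpe hpv hpd
    exact ⟨k, w, hw, rfl⟩
  have hx0X : x0 ∈ X := hFX (e_mem_N 0 0) (by decide +kernel) (by decide +kernel)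
  have htX : F φ ι tp ∈ X := hFX tp_facts.1 tp_facts.2.1 tp_facts.2.2.1
  have hxcube : x0 ^ 3 = 1 := by rw [hx0, ← F_pow_N B (e_mem_N 0 0), he3, F_one]
  have htfcube : tf ^ 3 = 1 := by rw [htf, ← F_pow_N B hfN, hf3, F_one]
  have hxt : Commute x0 tf := F_comm B (hN (e_mem_N 0 0) hfN) (hN hfN (e_mem_N 0 0)) hfe.symm
  have conjX : ∀ {a : P9}, a ∈ N9 0 → (∀ p ∈ odd', a⁻¹ * p * a ∈ odd') →
      ∀ {y : G}, y ∈ X → F φ ι a * y * (F φ ι a)⁻¹ ∈ X := by
    intro a ha hconj y hy
    have one : ∀ p ∈ odd', Commute (F φ ι a * y * (F φ ι a)⁻¹) (F φ ι p) := by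
      intro p hp
      have hc := hXV hy _ (hconj p hp)
      have hcN : a⁻¹ * p * a ∈ N9 0 := (odd_facts _ (hconj p hp)).1
      have e : F φ ι a * F φ ι (a⁻¹ * p * a) * (F φ ι a)⁻¹ = F φ ι p :=
        F_conj B (hN ha hcN) (hN (odd_facts p hp).1 ha) (by group)
      rw [← e]
      exact hc.map (MulAut.conj (F φ ι a)).toMonoidHom
    exact memX.2 ⟨one v (by simp [odd']), one d (by simp [odd'])⟩
  have htfX : ∀ {y : G}, y ∈ X → tf * y * tf⁻¹ ∈ X := conjX hfN hfV
  -- the four group and the quotient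
  let V : Subgroup X :=
    { carrier := {y | ∃ p ∈ odd', (y : G) = F φ ι p}
      one_mem' := ⟨1, by simp [odd'], F_one.symm⟩
      mul_mem' := by
        rintro a b ⟨p, hp, ha⟩ ⟨r, hr, hb⟩
        refine ⟨p * r, mem_odd.1 (V4.mul_mem (mem_odd.2 hp) (mem_odd.2 hr)), ?_⟩
        rw [Subgroup.coe_mul, ha, hb, F_mul B (hN (odd_facts p hp).1 (odd_facts r hr).1)]
      inv_mem' := by
        rintro a ⟨p, hp, ha⟩
        refine ⟨p, hp, ?_⟩
        rw [Subgroup.coe_inv, ha]
        refine inv_eq_of_mul_eq_one_right ?_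
        rw [F_eq B (hN (odd_facts p hp).1 (odd_facts p hp).1) (odd_facts p hp).2.1, F_one] }
  haveI hVn : V.Normal := ⟨fun a ⟨p, hp, ha⟩ b => ⟨p, hp, by
    rw [Subgroup.coe_mul, Subgroup.coe_mul, Subgroup.coe_inv, ha, (hXV b.2 p hp).eq,
      mul_inv_cancel_right]⟩⟩
  set π := QuotientGroup.mk' V with hπ
  have ker : ∀ y : X, π y = 1 ↔ ∃ p ∈ odd', (y : G) = F φ ι p := fun y =>
    QuotientGroup.eq_one_iff y
  have hVsq : ∀ p ∈ odd', F φ ι p ^ 2 = 1 := fun p hp => by
    rw [← F_pow_N B (odd_facts p hp).1, pow_two, (odd_facts p hp).2.1, F_one]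
  set xX : X := ⟨x0, hx0X⟩
  set xb := π xX with hxb
  have hxb1 : xb ≠ 1 := by
    intro h
    obtain ⟨p, hp, hh⟩ := (ker xX).1 h
    have h2 := F_inj_N B (e_mem_N 0 0) (odd_facts p hp).1 hh
    exact (e0_not_mem 1 1 (by simp [odd']) (by decide)).1 (by simpa [h2] using hp)
  have hxb3 : xb ^ 3 = 1 := by
    rw [hxb, ← map_pow, show xX ^ 3 = 1 from Subtype.ext hxcube, map_one]
  haveI : Fact (Nat.Prime 3) := ⟨by norm_num⟩
  have hXcard : Nat.card (Subgroup.zpowers xb) = 3 := by
    rw [Nat.card_zpowers, orderOf_eq_prime hxb3 hxb1]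
  have hC : Subgroup.centralizer (Subgroup.zpowers xb : Set (X ⧸ V)) = Subgroup.zpowers xb := by
    refine le_antisymm (fun a ha => ?_) fun a ha => ?_
    · obtain ⟨y, rfl⟩ := QuotientGroup.mk'_surjective V a
      have h := Subgroup.mem_centralizer_iff.1 ha xb (Subgroup.mem_zpowers xb)
      obtain ⟨w, hw, hwe⟩ := (ker (y * xX * y⁻¹ * xX⁻¹)).1 (by
        simp only [map_mul, map_inv, ← hxb]
        calc π y * xb * (π y)⁻¹ * xb⁻¹ = xb * π y * (π y)⁻¹ * xb⁻¹ := by rw [show π y * xb = xb * π y from h.symm]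
          _ = 1 := by group)
      simp only [Subgroup.coe_mul, Subgroup.coe_inv] at hwe
      have hcw : Commute x0 (F φ ι w) := hXV hx0X w hw
      have he : (y : G) * x0 * (y : G)⁻¹ = F φ ι w * x0 :=
        mul_inv_eq_iff_eq_mul.1 hwe
      have h3 : F φ ι w ^ 3 = 1 := by
        have := congrArg (· ^ 3) he
        simp only [conj_pow, hxcube, hcw.symm.mul_pow] at this
        simpa using this.symm
      have hw1 : F φ ι w = 1 := by
        rw [pow_succ, hVsq w hw, one_mul] at h3; exact h3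
      rw [hw1, one_mul] at he
      obtain ⟨k, u, hu, hy⟩ := hmodel y.2 (show Commute (y : G) x0 from mul_inv_eq_iff_eq_mul.1 he)
      refine Subgroup.mem_zpowers_iff.2 ⟨(k.val : ℤ), ?_⟩
      rw [zpow_natCast, hxb, ← map_pow, eq_comm]
      refine (QuotientGroup.eq_iff_div_mem).2 ⟨u, hu, ?_⟩
      rw [div_eq_mul_inv, Subgroup.coe_mul, Subgroup.coe_inv, SubmonoidClass.coe_pow, hy,
        F_mul B (hN (pow_mem (e_mem_N 0 0) _) (odd_facts u hu).1), F_pow_N B (e_mem_N 0 0)]
      show x0 ^ k.val * F φ ι u * (x0 ^ k.val)⁻¹ = _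
      rw [((hXV hx0X u hu).pow_left k.val).eq]; group
    · obtain ⟨i, rfl⟩ := Subgroup.mem_zpowers_iff.1 ha
      refine Subgroup.mem_centralizer_iff.2 fun b hb => ?_
      obtain ⟨j, rfl⟩ := Subgroup.mem_zpowers_iff.1 hb
      rw [← zpow_add, ← zpow_add, add_comm]
  have hnm : x0 ∉ Subgroup.zpowers tf := by
    intro h
    obtain ⟨n, hn⟩ := Subgroup.mem_zpowers_iff.1 h
    rw [← zpow_mod_orderOf] at hn
    have ho : orderOf tf = 3 := orderOf_eq_prime htfcube fun h1 => hf1 (F_inj_N B hfN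
      (one_mem _) (by rw [F_one]; exact h1))
    rw [ho] at hn
    have h1 : n % ((3 : ℕ) : ℤ) = 0 ∨ n % ((3 : ℕ) : ℤ) = 1 ∨ n % ((3 : ℕ) : ℤ) = 2 := by omega
    rcases h1 with h1 | h1 | h1 <;> rw [h1] at hn
    · exact he1 (F_inj_N B (e_mem_N 0 0) (one_mem _) (by rw [F_one, ← hx0, ← hn, zpow_zero]))
    · exact hne1 (F_inj_N B (e_mem_N 0 0) hfN (by rw [← hx0, ← hn, zpow_one]))
    · exact hne2 (F_inj_N B (e_mem_N 0 0) (pow_mem hfN 2) (by
        rw [← hx0, ← hn, F_pow_N B hfN]; exact zpow_natCast tf 2))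
  have htf1 : tf ≠ 1 := fun h => hf1 (F_inj_N B hfN (one_mem _) (by rw [F_one]; exact h))
  -- elements of the plane
  have plane : ∀ t ∈ pairSubgroup x0 tf hxt, t ≠ 1 →
      (∀ y : G, Commute y t → Commute y x0) ∨ Conj0 J x0 t := by
    intro t ht ht1
    obtain ⟨a, b, rfl⟩ := mem_pairSubgroup_iff.1 ht
    have hx : ∀ a : ℤ, ∃ i : Fin 3, x0 ^ a = x0 ^ i.val := fun a => ⟨⟨(a % 3).toNat, by omega⟩, by
      rw [← zpow_natCast, show ((a % 3).toNat : ℤ) = a % 3 by omega,
        zpow_eq_zpow_emod a (n := ((3 : ℕ) : ℤ)) (by rw [zpow_natCast, hxcube])]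
      rfl⟩
    obtain ⟨i, hi⟩ := hx a
    have hb : tf ^ b = tf ^ (b % 3).toNat := by
      rw [← zpow_natCast, show ((b % 3).toNat : ℤ) = b % 3 by omega,
        zpow_eq_zpow_emod b (n := ((3 : ℕ) : ℤ)) (by rw [zpow_natCast, htfcube])]
      rfl
    rw [hi, hb] at ht1 ⊢
    rcases (show (b % 3).toNat = 0 ∨ (b % 3).toNat = 1 ∨ (b % 3).toNat = 2 by omega) with h | h | h
    · left
      rw [h, pow_zero, mul_one] at ht1 ⊢
      intro y hy
      fin_cases i
      · exact absurd (pow_zero x0) ht1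
      · simpa using hy
      · have : x0 = (x0 ^ 2) ^ 2 := by
          rw [← pow_mul]; calc x0 = x0 * x0 ^ 3 := by rw [hxcube, mul_one]
            _ = x0 ^ (2 * 2) := by group
        rw [this]; exact hy.pow_right 2
    · right
      have := conj0_of L B i 0
      rw [F_mul B (hN (pow_mem (e_mem_N 0 0) _) (pow_mem hfN _)), F_pow_N B (e_mem_N 0 0),
        F_pow_N B hfN] at this
      rw [h]; simpa using this
    · right
      have := conj0_of L B i 1
      rw [F_mul B (hN (pow_mem (e_mem_N 0 0) _) (pow_mem hfN _)), F_pow_N B (e_mem_N 0 0),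
        F_pow_N B hfN] at this
      rw [h]; simpa using this
  -- signalisers of the plane
  have signal : ∀ N : Subgroup (X ⧸ V), N.Normal → (∀ y : X, π y ∈ N → ¬ 3 ∣ orderOf y) →
      (∀ y : X, π y ∈ N → π ⟨tf * y * tf⁻¹, htfX y.2⟩ ∈ N) →
      ∀ y : X, π y ∈ N → Commute (y : G) x0 := by
    intro N hNn hNord hNf y hy
    set M : Subgroup G := (N.comap π).map X.subtype with hM
    have memM : ∀ {z : G}, z ∈ M ↔ ∃ hz : z ∈ X, π ⟨z, hz⟩ ∈ N := by
      intro z
      constructor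
      · rintro ⟨u, hu, rfl⟩; exact ⟨u.2, hu⟩
      · rintro ⟨hz, hu⟩; exact ⟨⟨z, hz⟩, hu, rfl⟩
    have hMx : x0 ∈ Subgroup.normalizer (M : Set G) := by
      have h1 : ∀ u : G, u ∈ M → ∀ a : X, (a : G) * u * (a : G)⁻¹ ∈ M := by
        intro u hu a
        obtain ⟨hz, hu'⟩ := memM.1 hu
        refine memM.2 ⟨(a * ⟨u, hz⟩ * a⁻¹).2, ?_⟩
        have h' := hNn.conj_mem _ hu' (π a)
        rw [← map_inv, ← map_mul, ← map_mul] at h'
        exact h'
      refine Subgroup.mem_normalizer_iff.2 fun u => ⟨fun hu => h1 u hu xX, fun hu => ?_⟩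
      have := h1 _ hu xX⁻¹
      simpa [xX, mul_assoc] using this
    have hMt : tf ∈ Subgroup.normalizer (M : Set G) := by
      have h1 : ∀ u : G, u ∈ M → tf * u * tf⁻¹ ∈ M := fun u hu => by
        obtain ⟨hz, hu'⟩ := memM.1 hu
        exact memM.2 ⟨htfX hz, hNf ⟨u, hz⟩ hu'⟩
      refine Subgroup.mem_normalizer_iff.2 fun u => ⟨h1 u, fun hu => ?_⟩
      have h := h1 _ (h1 _ hu)
      have e : tf * (tf * (tf * u * tf⁻¹) * tf⁻¹) * tf⁻¹ = u := by
        calc _ = tf ^ 3 * u * (tf ^ 3)⁻¹ := by simp only [pow_succ, pow_zero, one_mul, mul_inv_rev, mul_assoc]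
          _ = u := by rw [htfcube]; group
      rwa [e] at h
    have hM3 : ¬ 3 ∣ Nat.card M := by
      intro h
      obtain ⟨⟨z, hz⟩, hzo⟩ := exists_prime_orderOf_dvd_card' (G := M) 3 h
      obtain ⟨hz', hu⟩ := memM.1 hz
      refine hNord _ hu ?_
      rw [← Subgroup.orderOf_coe, show ((⟨z, hz'⟩ : X) : G) = ((⟨z, hz⟩ : M) : G) from rfl,
        Subgroup.orderOf_coe, hzo]
    have hle := le_of_pair_centralizers (p := 3) (K := M)
      (H := Subgroup.centralizer ({x0} : Set G))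
      ⟨hxt, hxcube, htfcube, htf1, hnm, hMx, hMt⟩ hM3 (fun t ht ht1 z hz => by
        obtain ⟨hzM, hzt⟩ := hz
        have hzt' : Commute z t := Subgroup.mem_centralizer_singleton_iff.1 hzt
        rw [Subgroup.mem_centralizer_singleton_iff]
        rcases plane t ht ht1 with h | h
        · exact (h z hzt').eq
        · refine (h.commute L (by rw [hx0, F_E]; exact L.mem_J 0) hzt' ?_).eq
          have hc : z * x0 * z⁻¹ * x0⁻¹ ∈ M := by
            have := M.mul_mem hzM ((Subgroup.mem_normalizer_iff.1 hMx _).1 (M.inv_mem hzM))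
            rwa [← mul_assoc, ← mul_assoc] at this
          refine ((Nat.Prime.coprime_iff_not_dvd (Fact.out : Nat.Prime 3)).2 fun hd => hM3 ?_).symm
          exact hd.trans (Subgroup.orderOf_dvd_natCard M hc))
    exact Subgroup.mem_centralizer_singleton_iff.1 (hle (memM.2 ⟨y.2, hy⟩))
  -- no element of order five or seven
  have count : ∀ r : ℕ, (r = 5 ∨ r = 7) → 9 ∣ Nat.card {a : X ⧸ V // a ^ r = 1 ∧ a ≠ 1} := by
    intro r hr
    have hodd : r % 2 = 1 := by omega
    set P := pairSubgroup x0 tf hxt with hP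
    let Y := {y : G // y ∈ X ∧ y ^ r = 1 ∧ y ≠ 1}
    have hPX : ∀ t ∈ P, ∀ y ∈ X, t * y * t⁻¹ ∈ X := by
      intro t ht y hy
      have h : P ≤ Subgroup.normalizer (X : Set G) := by
        refine pairSubgroup_le (Subgroup.le_normalizer hx0X) ?_
        refine Subgroup.mem_normalizer_iff.2 fun u => ⟨fun hu => htfX hu, fun hu => ?_⟩
        have h1 := htfX (htfX hu)
        have e : tf * (tf * (tf * u * tf⁻¹) * tf⁻¹) * tf⁻¹ = u := by
          calc _ = tf ^ 3 * u * (tf ^ 3)⁻¹ := by simp only [pow_succ, pow_zero, one_mul, mul_inv_rev, mul_assoc]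
            _ = u := by rw [htfcube]; group
        rwa [e] at h1
      exact (Subgroup.mem_normalizer_iff.1 (h ht) y).1 hy
    letI act : MulAction P Y :=
      { smul := fun t y => ⟨(t : G) * y.1 * (t : G)⁻¹, hPX t t.2 _ y.2.1,
          by rw [conj_pow, y.2.2.1]; group, fun h => y.2.2.2 (by
            calc y.1 = (t : G)⁻¹ * ((t : G) * y.1 * (t : G)⁻¹) * t := by group
              _ = 1 := by rw [h]; group)⟩
        one_smul := fun y => Subtype.ext (show ((1 : P) : G) * y.1 * ((1 : P) : G)⁻¹ = y.1 by simp)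
        mul_smul := fun s t y => Subtype.ext (show ((s * t : P) : G) * y.1 * ((s * t : P) : G)⁻¹ =
          (s : G) * ((t : G) * y.1 * (t : G)⁻¹) * (s : G)⁻¹ by push_cast; group) }
    have free : ∀ y : Y, MulAction.stabilizer P y = ⊥ := by
      intro y
      rw [Subgroup.eq_bot_iff_forall]
      intro t ht
      by_contra ht1
      have hc : Commute y.1 (t : G) := by
        have := congrArg Subtype.val (MulAction.mem_stabilizer_iff.1 ht)
        exact (mul_inv_eq_iff_eq_mul.1 (show (t : G) * y.1 * (t : G)⁻¹ = y.1 from this)).symm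
      have ht1' : (t : G) ≠ 1 := fun h => ht1 (Subtype.ext h)
      rcases plane (t : G) t.2 ht1' with h | h
      · obtain ⟨k, w, hw, hy⟩ := hmodel y.2.1 (h y.1 hc)
        have hp : (e 0) ^ k.val * w ∈ N9 0 := mk_four hw
        have h6 : ((e 0) ^ k.val * w) ^ 6 = 1 := by
          rw [((show Commute (e 0) w from (odd_facts w hw).2.2.1).pow_left _).mul_pow, ← pow_mul,
            show k.val * 6 = 3 * (2 * k.val) by ring, pow_mul, he3, one_pow, one_mul,
            show (6 : ℕ) = 2 * 3 from rfl, pow_mul, pow_two, (odd_facts w hw).2.1, one_pow]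
        have h6' : y.1 ^ 6 = 1 := by rw [hy, ← F_pow_N B hp, h6, F_one]
        have := pow_gcd_eq_one.2 ⟨h6', y.2.2.1⟩
        refine y.2.2.2 ?_
        rcases hr with rfl | rfl <;> simpa using this
      · exact y.2.2.2 (h.no_prime L hr hc y.2.2.1)
    have hP9 : 9 ∣ Nat.card P := by
      have h1 : Nat.card P ∣ 3 * 3 :=
        (card_pairSubgroup_dvd x0 tf hxt).trans (mul_dvd_mul (orderOf_dvd_of_pow_eq_one hxcube)
          (orderOf_dvd_of_pow_eq_one htfcube))
      obtain ⟨k, hk, he⟩ := (Nat.dvd_prime_pow (Fact.out : Nat.Prime 3)).1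
        (show Nat.card P ∣ 3 ^ 2 from h1)
      have h3 : 3 < Nat.card P := by
        have hle : Subgroup.zpowers tf ≤ P :=
          Subgroup.zpowers_le.2 (right_mem_pairSubgroup x0 tf hxt)
        have hc : Nat.card (Subgroup.zpowers tf) = 3 := by
          rw [Nat.card_zpowers, orderOf_eq_prime htfcube htf1]
        refine lt_of_le_of_ne (hc ▸ Subgroup.card_le_of_le hle) fun h => hnm ?_
        rw [Subgroup.eq_of_le_of_card_ge hle (by rw [hc, ← h])]
        exact left_mem_pairSubgroup x0 tf hxt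
      interval_cases k <;> simp_all
    have hY : 9 ∣ Nat.card Y := by
      rw [Nat.card_congr (MulAction.selfEquivSigmaOrbits P Y)]
      haveI := Fintype.ofFinite (MulAction.orbitRel.Quotient P Y)
      rw [Nat.card_sigma]
      refine Finset.dvd_sum fun ω _ => ?_
      rw [Nat.card_congr (MulAction.orbitEquivQuotientStabilizer P (Quotient.out ω)), free,
        Nat.card_congr QuotientGroup.quotientBot.toEquiv]
      exact hP9
    let f' : Y → {a : X ⧸ V // a ^ r = 1 ∧ a ≠ 1} := fun y => ⟨π ⟨y.1, y.2.1⟩, by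
      rw [← map_pow, show (⟨y.1, y.2.1⟩ : X) ^ r = 1 from Subtype.ext y.2.2.1, map_one], fun h => by
      obtain ⟨p, hp, he⟩ := (ker _).1 h
      have h2 : y.1 ^ 2 = 1 := by rw [show y.1 = F φ ι p from he]; exact hVsq p hp
      have := pow_gcd_eq_one.2 ⟨h2, y.2.2.1⟩
      refine y.2.2.2 ?_
      rcases hr with rfl | rfl <;> simpa using this⟩
    have hbij : Function.Bijective f' := by
      refine ⟨fun a b h => ?_, fun a => ?_⟩
      · obtain ⟨p, hp, he⟩ := (ker ((⟨a.1, a.2.1⟩ : X)⁻¹ * ⟨b.1, b.2.1⟩)).1 (by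
          rw [map_mul, map_inv, show π ⟨a.1, a.2.1⟩ = π ⟨b.1, b.2.1⟩ from congrArg Subtype.val h,
            inv_mul_cancel])
        simp only [Subgroup.coe_mul, Subgroup.coe_inv] at he
        have hb : b.1 = a.1 * F φ ι p := by rw [← he]; group
        have hr1 := b.2.2.1
        rw [hb, (hXV a.2.1 p hp).mul_pow, a.2.2.1, one_mul] at hr1
        have := pow_gcd_eq_one.2 ⟨hVsq p hp, hr1⟩
        refine Subtype.ext ?_
        rw [hb, show F φ ι p = 1 by rcases hr with rfl | rfl <;> simpa using this, mul_one]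
      · obtain ⟨a, ha, ha1⟩ := a
        obtain ⟨z, rfl⟩ := QuotientGroup.mk'_surjective V a
        obtain ⟨p, hp, he⟩ := (ker (z ^ r)).1 (by rw [map_pow]; exact ha)
        rw [SubmonoidClass.coe_pow] at he
        have h2 : π (z ^ (r + 1)) = π z := by rw [map_pow, pow_succ, ha, one_mul]
        refine ⟨⟨(z : G) ^ (r + 1), X.pow_mem z.2 _, ?_, ?_⟩, Subtype.ext ?_⟩
        · rw [← pow_mul, mul_comm, pow_mul, he,
            show r + 1 = 2 * ((r + 1) / 2) by omega, pow_mul, hVsq p hp, one_pow]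
        · intro h
          apply ha1
          rw [← h2, show z ^ (r + 1) = 1 from Subtype.ext h, map_one]
        · exact h2
    rw [← Nat.card_eq_of_bijective f' hbij]
    exact hY
  -- conjugates of `x0`
  have key : ∀ y : X, (y : G) * x0 * (y : G)⁻¹ = x0 ∨ (y : G) * x0 * (y : G)⁻¹ = x0⁻¹ := by
    rcases S3331.result (Subgroup.zpowers xb) hXcard hC with
      ⟨N, hNn, -, hcop, hq⟩ | ⟨N, hNn, -, hN2, ⟨eq⟩⟩ | h7
    · obtain ⟨ρ, hρ⟩ : ∃ ρ : (X ⧸ V) →* Perm (Fin 3), ∀ a, ρ a = 1 ↔ a ∈ N := by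
        rcases hq with h3 | ⟨⟨eq⟩⟩
        · have hc3 : Nat.card (Subgroup.zpowers (swap 0 1 * swap 1 2 : Perm (Fin 3))) = 3 := by
            rw [Nat.card_zpowers]
            exact orderOf_eq_prime (by decide) (by decide)
          let i3 := mulEquivOfPrimeCardEq (p := 3) h3 hc3
          exact ⟨((Subgroup.subtype _).comp i3.toMonoidHom).comp (QuotientGroup.mk' N), fun a => by
            simp⟩
        · exact ⟨eq.toMonoidHom.comp (QuotientGroup.mk' N), fun a => by simp⟩
      set σ := ρ.comp π with hσ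
      have hσN : ∀ a : X, σ a = 1 ↔ π a ∈ N := fun a => hρ (π a)
      have hord : ∀ z : X, π z ∈ N → ¬ 3 ∣ orderOf z := by
        intro z hz hd
        have hu : orderOf (z ^ (orderOf z / 3)) = 3 := by
          rw [orderOf_pow_orderOf_div (orderOf_pos z).ne' hd]
        have h1 : π (z ^ (orderOf z / 3)) ∈ N := by rw [map_pow]; exact N.pow_mem hz _
        have h2 : π (z ^ (orderOf z / 3)) = 1 := by
          rw [← orderOf_eq_one_iff]
          refine Nat.eq_one_of_dvd_coprimes hcop (Subgroup.orderOf_dvd_natCard N h1) ?_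
          have h' := orderOf_map_dvd π (z ^ (orderOf z / 3))
          rw [hu] at h'
          exact h'
        obtain ⟨p, hp, he⟩ := (ker _).1 h2
        have h4 := orderOf_dvd_of_pow_eq_one (hVsq p hp)
        rw [← he, Subgroup.orderOf_coe, hu] at h4
        norm_num at h4
      have hxσ : σ xX ≠ 1 := fun h => by
        have := Subgroup.orderOf_dvd_natCard N ((hσN _).1 h)
        rw [orderOf_eq_prime hxb3 hxb1] at this
        exact absurd (Nat.eq_one_of_dvd_coprimes hcop this dvd_rfl) (by norm_num)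
      have hσ3 : σ xX ^ 3 = 1 := by rw [← map_pow, show xX ^ 3 = 1 from Subtype.ext hxcube, map_one]
      have two : ∀ z : X, ¬ 3 ∣ orderOf z → σ z ^ 2 = 1 := by
        intro z hz
        have h1 : σ z ^ 6 = 1 := by
          have h : Nat.card (Perm (Fin 3)) = 6 := by rw [Nat.card_perm, Nat.card_fin]; rfl
          rw [← h]
          exact pow_card_eq_one'
        have h2 : σ z ^ orderOf z = 1 := by rw [← map_pow, pow_orderOf_eq_one, map_one]
        obtain ⟨c, hc⟩ : Nat.gcd 6 (orderOf z) ∣ 2 := by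
          have a := Nat.gcd_dvd_left 6 (orderOf z)
          have b := Nat.gcd_dvd_right 6 (orderOf z)
          have hle := Nat.le_of_dvd (by norm_num) a
          interval_cases h : Nat.gcd 6 (orderOf z) <;> simp_all <;> omega
        rw [hc, pow_mul, pow_gcd_eq_one.2 ⟨h1, h2⟩, one_pow]
      have tord : ∀ z : X, orderOf (⟨tf * z * tf⁻¹, htfX z.2⟩ : X) = orderOf z := fun z => by
        rw [← Subgroup.orderOf_coe, ← Subgroup.orderOf_coe]
        exact orderOf_injective (MulAut.conj tf).toMonoidHom (MulAut.conj tf).injective z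
      have hnf : ∀ z : X, π z ∈ N → π ⟨tf * z * tf⁻¹, htfX z.2⟩ ∈ N := by
        intro z hz
        set fz : X := ⟨tf * z * tf⁻¹, htfX z.2⟩
        refine (hσN fz).1 (quot_aux2 (σ xX) (σ fz) hσ3 hxσ (two fz (by
          rw [tord z]; exact hord z hz)) ?_)
        have hcN : π (xX * z * xX⁻¹ * z⁻¹) ∈ N := by
          simp only [map_mul, map_inv]
          exact N.mul_mem (hNn.conj_mem _ hz _) (N.inv_mem hz)
        have e : xX * fz * xX⁻¹ * fz⁻¹ =
            ⟨tf * (xX * z * xX⁻¹ * z⁻¹ : X) * tf⁻¹, htfX (SetLike.coe_mem _)⟩ := by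
          refine Subtype.ext ?_
          simp only [Subgroup.coe_mul, Subgroup.coe_inv, fz, xX]
          have h1 : x0 * tf = tf * x0 := hxt.eq
          calc x0 * (tf * z * tf⁻¹) * x0⁻¹ * (tf * z * tf⁻¹)⁻¹
              = (x0 * tf) * z * (x0 * tf)⁻¹ * (tf * (z : G)⁻¹ * tf⁻¹) := by group
            _ = tf * (x0 * z * x0⁻¹ * (z : G)⁻¹) * tf⁻¹ := by rw [h1]; group
        have := two _ (e ▸ (tord _).symm ▸ hord _ hcN)
        simpa only [map_mul, map_inv] using this
      intro y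
      have hz : ∀ c : X, π c ∈ N → Commute (c : G) x0 := signal N hNn hord hnf
      have fin : ∀ a : G, a ^ 3 = 1 → Commute x0 a → ∀ h : y.1 * x0 * y.1⁻¹ * a⁻¹ ∈ X,
          π ⟨_, h⟩ ∈ N → (a = x0 ∨ a = x0⁻¹) → y.1 * x0 * y.1⁻¹ = a := by
        intro a ha3 hca h hm hax
        set c := y.1 * x0 * y.1⁻¹ * a⁻¹ with hc
        have hc0 : Commute c x0 := hz ⟨c, h⟩ hm
        have hca' : Commute c a := by
          rcases hax with rfl | rfl
          · exact hc0
          · exact hc0.inv_right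
        have he : y.1 * x0 * y.1⁻¹ = c * a := by rw [hc]; group
        have h3 : c ^ 3 = 1 := by
          have := congrArg (· ^ 3) he
          simp only [conj_pow, hxcube, hca'.mul_pow, ha3] at this
          simpa using this.symm
        have hc1 : c = 1 := by
          by_contra hne
          exact hord ⟨c, h⟩ hm (by rw [← Subgroup.orderOf_coe, orderOf_eq_prime h3 hne])
        rw [he, hc1, one_mul]
      rcases quot_aux (σ xX) (σ y) hσ3 with h | h
      · left
        refine fin x0 hxcube (Commute.refl x0) (y * xX * y⁻¹ * xX⁻¹).2 ?_ (Or.inl rfl)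
        refine (hσN (y * xX * y⁻¹ * xX⁻¹)).1 ?_
        simp only [map_mul, map_inv, h, mul_inv_cancel]
      · right
        refine fin x0⁻¹ (by rw [inv_pow, hxcube, inv_one]) (Commute.refl x0).inv_right
          (y * xX * y⁻¹ * xX⁻¹⁻¹).2 ?_ (Or.inr rfl)
        refine (hσN (y * xX * y⁻¹ * xX⁻¹⁻¹)).1 ?_
        simp only [map_mul, map_inv, h, inv_mul_cancel, inv_inv]
    · exfalso
      set σ := eq.toMonoidHom.comp ((QuotientGroup.mk' N).comp π) with hσ
      have hσN : ∀ a : X, σ a = 1 ↔ π a ∈ N := fun a => by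
        simp [hσ]
      have hσs : Function.Surjective σ := eq.surjective.comp
        ((QuotientGroup.mk'_surjective N).comp (QuotientGroup.mk'_surjective V))
      have four : ∀ z : X, π z ∈ N → z ^ 4 = 1 := by
        intro z hz
        obtain ⟨p, hp, he⟩ := (ker (z ^ 2)).1 (by rw [map_pow]; exact hN2 _ hz)
        refine Subtype.ext ?_
        rw [SubmonoidClass.coe_pow] at he ⊢
        rw [show (4 : ℕ) = 2 * 2 from rfl, pow_mul, he, hVsq p hp]
        rfl
      have tfour : ∀ z : X, π z ∈ N → σ ⟨tf * z * tf⁻¹, htfX z.2⟩ ^ 2 = 1 := fun z hz => by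
        refine a5_sq _ ?_
        rw [← map_pow, show (⟨tf * z * tf⁻¹, htfX z.2⟩ : X) ^ 4 = 1 from Subtype.ext (by
          rw [SubmonoidClass.coe_pow]
          show (tf * z * tf⁻¹) ^ 4 = 1
          rw [conj_pow, show (z : G) ^ 4 = 1 from congrArg Subtype.val (four z hz)]; group), map_one]
      have hnf : ∀ z : X, π z ∈ N → π ⟨tf * z * tf⁻¹, htfX z.2⟩ ∈ N := by
        intro z hz
        refine (hσN _).1 ?_
        by_contra h1
        obtain ⟨g, hg⟩ := a5_aux _ (tfour z hz) h1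
        obtain ⟨u, rfl⟩ := hσs g
        have hu : tf⁻¹ * u * tf ∈ X := by
          have h := htfX (htfX u.2)
          have e : tf⁻¹ * u * tf = tf * (tf * u * tf⁻¹) * tf⁻¹ := by
            calc tf⁻¹ * (u : G) * tf = tf⁻¹ * (tf ^ 3 * u * (tf ^ 3)⁻¹) * tf := by
                  rw [htfcube]; group
              _ = _ := by
                  simp only [pow_succ, pow_zero, one_mul, mul_inv_rev, mul_assoc, inv_mul_cancel_left, inv_mul_cancel, mul_one]
          rw [e]; exact h
        have hz' : π (z * (⟨_, hu⟩ * z * (⟨_, hu⟩ : X)⁻¹)) ∈ N := by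
          simp only [map_mul, map_inv]
          exact N.mul_mem hz (hNn.conj_mem _ hz _)
        apply hg
        have := tfour _ hz'
        rw [← map_inv, ← map_mul, ← map_mul, ← map_mul]
        convert this using 3
        refine Subtype.ext ?_
        simp only [Subgroup.coe_mul, Subgroup.coe_inv]
        group
      have hord : ∀ z : X, π z ∈ N → ¬ 3 ∣ orderOf z := fun z hz h => by
        have := h.trans (orderOf_dvd_of_pow_eq_one (four z hz))
        norm_num at this
      have hbot : N = ⊥ := by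
        rw [Subgroup.eq_bot_iff_forall]
        intro a ha
        obtain ⟨z, rfl⟩ := QuotientGroup.mk'_surjective V a
        obtain ⟨k, w, hw, he⟩ := hmodel z.2 (signal N hNn hord hnf z ha)
        refine (ker z).2 ?_
        by_cases hk : k = 0
        · exact ⟨w, hw, by rw [he, hk]; simp⟩
        · exfalso
          refine (e0_not_mem k w hw hk).2 (F_inj_N B (pow_mem (mk_four hw) _) (one_mem _) ?_)
          rw [F_pow_N B (mk_four hw), ← he, F_one]
          exact congrArg Subtype.val (four z ha)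
      subst hbot
      have h60 : Nat.card (X ⧸ V) = 60 := by
        rw [← Nat.card_congr QuotientGroup.quotientBot.toEquiv, Nat.card_congr eq.toEquiv,
          Nat.card_eq_fintype_card]
        decide +kernel
      haveI : Fact (Nat.Prime 5) := ⟨by norm_num⟩
      exact not_nine_dvd (r := 5) h60 (Or.inl ⟨rfl, rfl⟩) (count 5 (Or.inl rfl))
    · exfalso
      obtain ⟨eq⟩ := h7
      have h168 : Nat.card (X ⧸ V) = 168 := by
        rw [Nat.card_congr eq.toEquiv, Cfsg.Agent.PSpAmalgam31.card_psl_seven]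
      haveI : Fact (Nat.Prime 7) := ⟨by norm_num⟩
      exact not_nine_dvd (r := 7) h168 (Or.inr ⟨rfl, rfl⟩) (count 7 (Or.inr rfl))
  have hgX : g ∈ X := memX.2 ⟨hv, hd⟩
  have fin : ∀ k : Fin 3, ∀ w ∈ odd', (e 0 ^ k.val * w) ∈ N9 0 ∧
      (e 0 ^ k.val * w) * v = v * (e 0 ^ k.val * w) ∧
      (e 0 ^ k.val * w) * d = d * (e 0 ^ k.val * w) := fun k w hw =>
    ⟨mk_four hw, (((show Commute (e 0) v by exact (V4_facts v (Or.inr (Or.inl rfl))).2.2.2).pow_left _).mul_left
        (odd_facts w hw).2.2.2.1).eq,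
      (((show Commute (e 0) d by exact (V4_facts d (Or.inr (Or.inr (Or.inl rfl)))).2.2.2).pow_left _).mul_left
        (odd_facts w hw).2.2.2.2.1).eq⟩
  rcases key ⟨g, hgX⟩ with h | h
  · obtain ⟨k, w, hw, he⟩ := hmodel hgX (show Commute g x0 from mul_inv_eq_iff_eq_mul.1 h)
    exact ⟨_, (fin k w hw).1, (fin k w hw).2.1, (fin k w hw).2.2, he⟩
  · obtain ⟨htN, htv, htd, ht2, hte⟩ := tp_facts
    set t := F φ ι tp
    have htt : t * t = 1 := by rw [F_eq B (hN htN htN) ht2, F_one]
    have hti : t⁻¹ = t := inv_eq_of_mul_eq_one_right htt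
    have htx : t * x0 * t⁻¹ = x0⁻¹ := by
      rw [hx0, ← F_inv B (hN (e_mem_N 0 0) (inv_mem (e_mem_N 0 0)))]
      refine F_conj B (hN htN (e_mem_N 0 0)) (hN (inv_mem (e_mem_N 0 0)) htN) ?_
      calc tp * e 0 = tp * e 0 * (tp * tp) := by rw [ht2, mul_one]
        _ = tp * e 0 * tp * tp := by group
        _ = (e 0)⁻¹ * tp := by rw [hte]
    have hc : Commute (g * t) x0 := mul_inv_eq_iff_eq_mul.1 (by
      calc g * t * x0 * (g * t)⁻¹ = g * (t * x0 * t⁻¹) * g⁻¹ := by group
        _ = (g * x0 * g⁻¹)⁻¹ := by rw [htx]; group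
        _ = x0 := by rw [h, inv_inv])
    obtain ⟨k, w, hw, he⟩ := hmodel (mul_mem hgX htX) hc
    obtain ⟨hp, hpv, hpd⟩ := fin k w hw
    refine ⟨e 0 ^ k.val * w * tp, mul_mem hp htN, ?_, ?_, ?_⟩
    · exact Commute.mul_left (show Commute _ v from hpv) htv
    · exact Commute.mul_left (show Commute _ d from hpd) htd
    · rw [F_mul B (hN hp htN), ← he, mul_assoc, htt, mul_one]

end Cfsg.Agent.A9Base59
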