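import Cfsg.Agent.Lib.A9Types59
import Cfsg.Agent.Lib.A9FourMain59
import Cfsg.Agent.Lib.ZStarTheorem

/-! Fusion of `⟨v, d⟩` and `⟨v, zz⟩` inside the centraliser of `v` (S3339). -/

set_option autoImplicit false

namespace Cfsg.Agent.A9Base59

open Equiv Cfsg

def a1' : P9 := swap 1 2 * swap 0 3
def a2' : P9 := swap 0 2 * swap 1 3

theorem a1'_mem : a1' ∈ N9 2 := ⟨by simp [a1'], by decide +kernel⟩
theorem a2'_mem : a2' ∈ N9 2 := ⟨by simp [a2'], by decide +kernel⟩

theorem v4_facts : e 0 * aa = a1' * e 0 ∧ e 0 * a1' = a2' * e 0 ∧ aa * a1' = a2' := by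
  decide +kernel

theorem fusion_facts : ww * cc = quadF 1 ∧ v * ww * cc = quadF 2 ∧ ww * cc = cc * ww ∧
    v ≠ 1 ∧ q ≠ 1 ∧ d ≠ v ∧ cc ≠ 1 ∧ d * v = v * d ∧ ww * (v * d) = d * ww ∧ d 2 = 2 ∧
    zz * cc = d := by
  decide +kernel

theorem cc_fix : ∀ x : Fin 9, bk x = 0 → cc x = x → x = 2 := by decide +kernel

variable {G : Type*} [Group G] {J : Subgroup G} {φ : H9 →* G} {ι : ∀ k : Fin 3, N9 k →* G}

theorem cc_S16 : cc ∈ S16 := ⟨cc_mem, comm_facts.2.2.1, by decide +kernel⟩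
theorem d_S16 : d ∈ S16 := ⟨d_mem, fusion_facts.2.2.2.2.2.2.2.1, fusion_facts.2.2.2.2.2.2.2.2.2.1⟩
theorem ww_S16 : ww ∈ S16 :=
  ⟨ww_mem, comm_facts.2.2.2.2.2.2.2.2.2.2.2.1, by decide +kernel⟩

/-- The image of `S16` in the centraliser of `F v`. -/
noncomputable def sMap (B : Branch φ ι) :
    S16 →* Subgroup.centralizer ({F φ ι v} : Set G) where
  toFun p := ⟨F φ ι p.1, Subgroup.mem_centralizer_singleton_iff.2
    (F_comm B (okN p.2.1 (v_memN 0)) (okN (v_memN 0) p.2.1) p.2.2.1).eq⟩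
  map_one' := Subtype.ext (F_one (φ := φ) (ι := ι))
  map_mul' a b := Subtype.ext (F_mul B (okN a.2.1 b.2.1))

theorem sMap_two (B : Branch φ ι) : IsPGroup 2 (sMap B).range := by
  rintro ⟨_, p, rfl⟩
  refine ⟨2, Subtype.ext ?_⟩
  obtain ⟨x, hx⟩ := exists_el p.2
  have h4 : p ^ 4 = 1 := Subtype.ext (by
    rw [SubmonoidClass.coe_pow, hx, show (4 : ℕ) = 2 * 2 from rfl, pow_mul, pow_two, pow_two]
    exact el_four x)
  rw [SubmonoidClass.coe_pow, ← map_pow, show (2 : ℕ) ^ 2 = 4 from rfl, h4, map_one]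
  rfl

theorem eq_cc [Finite G] (L : Loc J φ) (B : Branch φ ι) {p : P9} (hp : p ∈ S16)
    (h1 : Dbl φ ι (F φ ι p)) (h2 : Quad φ ι (F φ ι p * F φ ι v)) : p = cc := by
  have hv0 : F φ ι v ≠ 1 := fun h => fusion_facts.2.2.2.1
    (F_inj_N B (v_memN 0) (one_mem _) (h.trans F_one.symm))
  have hpp : p * p = 1 := F_inj_N B (mul_mem hp.1 hp.1) (one_mem _) (by
    obtain ⟨g, hg⟩ := h1
    rw [F_mul B (okN hp.1 hp.1), F_one, ← hg,
      show g * F φ ι v * g⁻¹ * (g * F φ ι v * g⁻¹) = g * (F φ ι v * F φ ι v) * g⁻¹ by group,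
      ← F_mul B (okN (v_memN 0) (v_memN 0)), comm_facts.2.2.2.2.2.2.2.2.2.1, F_one]
    group)
  rw [← F_mul B (okN hp.1 (v_memN 0))] at h2
  obtain ⟨x, hx⟩ := exists_el hp
  rw [hx] at hpp h1 h2 ⊢
  rcases el_class x hpp with h | h | h | ⟨i, h⟩ | ⟨i, h⟩ <;> rw [h] at h1 h2 ⊢
  · exfalso
    obtain ⟨g, hg⟩ := h1
    rw [F_one, conj_eq_one_iff] at hg
    exact hv0 hg
  · exfalso
    obtain ⟨g, hg⟩ := h2
    rw [comm_facts.2.2.2.2.2.2.2.2.2.1, F_one, conj_eq_one_iff] at hg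
    exact fusion_facts.2.2.2.2.1 (F_inj_N B q_memN (one_mem _) (hg.trans F_one.symm))
  · exfalso
    obtain ⟨j, hj⟩ := sixF_v i
    rw [hj] at h2
    exact sep B L (dbl_six B j) h2
  · exact (sep B L h1 (quad_three B i)).elim

theorem d_ne_v (B : Branch φ ι) : F φ ι d ≠ F φ ι v := fun h =>
  fusion_facts.2.2.2.2.2.1 (F_inj_N B d_mem (v_memN 0) h)

/-- An element of the normaliser of the Sylow image which centralises `v, d` and `cc` lies in it. -/
theorem mem_sMap [Finite G] (L : Loc J φ) (B : Branch φ ι)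
    {n : Subgroup.centralizer ({F φ ι v} : Set G)} (hd : Commute (n : G) (F φ ι d))
    (hc : Commute (n : G) (F φ ι cc)) : n ∈ (sMap B).range := by
  obtain ⟨p, hp, hpv, -, hn⟩ := cent_four L B (Subgroup.mem_centralizer_singleton_iff.1 n.2) hd
  have hpc : p * cc = cc * p := F_inj_N B (mul_mem hp cc_mem) (mul_mem cc_mem hp) (by
    rw [F_mul B (okN hp cc_mem), F_mul B (okN cc_mem hp), ← hn]; exact hc.eq)
  have h2 : p 2 = 2 := cc_fix _ ((hp.2 2).1 (by decide)) (by
    have := Equiv.ext_iff.1 hpc 2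
    rw [Perm.mul_apply, Perm.mul_apply, show cc 2 = 2 from cc_S16.2.2] at this
    exact this.symm)
  exact ⟨⟨p, hp, hpv, h2⟩, Subtype.ext hn.symm⟩

/-- `⟨v, d⟩` is conjugate to `⟨v, zz⟩` by an element centralising `v`. -/
theorem fusion [Finite G] (L : Loc J φ) (B : Branch φ ι) :
    ∃ n : G, Commute n (F φ ι v) ∧
      (n * F φ ι d * n⁻¹ = F φ ι zz ∨ n * F φ ι d * n⁻¹ = F φ ι (v * zz)) := by
  classical
  haveI : Fact (Nat.Prime 2) := ⟨Nat.prime_two⟩
  set T := Subgroup.centralizer ({F φ ι v} : Set G) with hT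
  set S : Subgroup T := (sMap B).range with hSdef
  set u : T := sMap B ⟨cc, cc_S16⟩ with hu
  obtain ⟨R, hR⟩ := (sMap_two B).exists_le_sylow
  have hcomm : ∀ y : T, Commute (y : G) (F φ ι v) := fun y =>
    Subgroup.mem_centralizer_singleton_iff.1 y.2
  have hspecial : ∀ y : T, y ∈ S → Dbl φ ι (y : G) → Quad φ ι ((y : G) * F φ ι v) → y = u := by
    rintro _ ⟨p, rfl⟩ h1 h2
    rw [hu, show p = ⟨cc, cc_S16⟩ from Subtype.ext (eq_cc L B p.2 h1 h2)]
  have hconj : ∀ (y x : T), Dbl φ ι (x : G) → Quad φ ι ((x : G) * F φ ι v) →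
      Dbl φ ι ((y * x * y⁻¹ : T) : G) ∧ Quad φ ι (((y * x * y⁻¹ : T) : G) * F φ ι v) := by
    intro y x h1 h2
    refine ⟨by simpa using h1.conj (y : G), ?_⟩
    have h := h2.conj (y : G)
    convert h using 1
    calc ((y * x * y⁻¹ : T) : G) * F φ ι v = (y : G) * (x : G) * ((y : G)⁻¹ * F φ ι v) := by
          simp [mul_assoc]
      _ = (y : G) * ((x : G) * F φ ι v) * (y : G)⁻¹ := by
          rw [((hcomm y).inv_left).eq]; group
  have hu1 : Dbl φ ι (u : G) := dbl_cc B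
  have hu2 : Quad φ ι ((u : G) * F φ ι v) := by
    show Quad φ ι (F φ ι cc * F φ ι v)
    rw [← F_mul B (okN cc_mem (v_memN 0))]
    exact quad_cv B
  have huS : u ∈ S := ⟨_, rfl⟩
  by_cases hRS : (R : Subgroup T) = S
  · exfalso
    have hu2' : orderOf u = 2 := by
      refine orderOf_eq_prime ?_ fun h => fusion_facts.2.2.2.2.2.2.1
        (F_inj_N B cc_mem (one_mem _) ((congrArg Subtype.val h).trans F_one.symm))
      rw [hu, ← map_pow, pow_two, show (⟨cc, cc_S16⟩ : S16) * ⟨cc, cc_S16⟩ = 1 from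
        Subtype.ext comm_facts.2.2.2.2.2.2.2.2.1, map_one]
    have hto : ∀ P : Subgroup T, IsPGroup 2 P → ∃ x : T, ∀ y ∈ P, x * y * x⁻¹ ∈ S := by
      intro P hP
      obtain ⟨Q, hQ⟩ := hP.exists_le_sylow
      obtain ⟨x, hx⟩ := MulAction.exists_smul_eq T Q R
      refine ⟨x, fun y hy => ?_⟩
      rw [← hRS, ← hx]
      exact Subgroup.mem_pointwise_smul_iff_inv_smul_mem.2 (by
        simpa [MulAut.smul_def, mul_assoc] using hQ hy)
    have hiso : IsIsolatedInvolution u := by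
      refine ⟨hu2', fun g hg => ?_⟩
      set w := g * u * g⁻¹ with hw
      have huu : u * u = 1 := by rw [← pow_two, ← hu2']; exact pow_orderOf_eq_one u
      have hww : w * w = 1 := by
        rw [hw, show g * u * g⁻¹ * (g * u * g⁻¹) = g * (u * u) * g⁻¹ by group, huu]; group
      have hP : IsPGroup 2 (Subgroup.closure ({u, w} : Set T)) := by
        have hcl : IsMulCommutative (Subgroup.closure ({u, w} : Set T)) := by
          refine Subgroup.isMulCommutative_closure ?_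
          rintro a (rfl | rfl) b (rfl | rfl)
          exacts [rfl, hg.eq, hg.eq.symm, rfl]
        rintro ⟨y, hy⟩
        refine ⟨1, Subtype.ext ?_⟩
        simp only [pow_one, SubmonoidClass.coe_pow, Subgroup.coe_one]
        refine Subgroup.closure_induction (p := fun z _ => z ^ 2 = 1) ?_ (one_pow _) ?_ ?_ hy
        · rintro z (rfl | rfl) <;> rw [pow_two]
          exacts [huu, hww]
        · intro a b ha hb ha' hb'
          have hab : Commute a b := congrArg Subtype.val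
            (hcl.is_comm.comm (⟨a, ha⟩ : Subgroup.closure ({u, w} : Set T)) ⟨b, hb⟩)
          rw [hab.mul_pow, ha', hb', one_mul]
        · intro a _ ha'
          rw [inv_pow, ha', inv_one]
      obtain ⟨x, hx⟩ := hto _ hP
      have e1 : x * u * x⁻¹ = u :=
        hspecial _ (hx u (Subgroup.subset_closure (by simp)))
          (hconj x u hu1 hu2).1 (hconj x u hu1 hu2).2
      have hw12 := hconj g u hu1 hu2
      have e2 : x * w * x⁻¹ = u :=
        hspecial _ (hx w (Subgroup.subset_closure (by simp)))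
          (hconj x w hw12.1 hw12.2).1 (hconj x w hw12.1 hw12.2).2
      show w = u
      exact mul_left_cancel (mul_right_cancel (e2.trans e1.symm))
    set O := pPrimeCore 2 T
    haveI : O.Normal := HallCore.pPrimeCore_normal 2 T
    have hmod : ∀ a : T, Dbl φ ι (a : G) → Quad φ ι ((a : G) * F φ ι v) → a * a = 1 →
        (a : T ⧸ O) = (u : T ⧸ O) := by
      intro a h1 h2 haa
      have hP : IsPGroup 2 (Subgroup.zpowers a) := by
        rintro ⟨y, hy⟩
        obtain ⟨k, rfl⟩ := Subgroup.mem_zpowers_iff.1 hy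
        exact ⟨1, Subtype.ext (by
          rw [SubmonoidClass.coe_pow, pow_one, ← zpow_natCast, ← zpow_mul, mul_comm, zpow_mul,
            zpow_natCast, pow_two, haa, one_zpow]; rfl)⟩
      obtain ⟨x, hx⟩ := hto _ hP
      have e1 : x * a * x⁻¹ = u := hspecial _ (hx a (Subgroup.mem_zpowers _))
        (hconj x a h1 h2).1 (hconj x a h1 h2).2
      have hm := ZStarTheorem.commutator_mem hiso x⁻¹
      rw [← QuotientGroup.eq_one_iff] at hm
      simp only [QuotientGroup.mk_mul, QuotientGroup.mk_inv] at hm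
      rw [mul_inv_eq_one, mul_inv_eq_iff_eq_mul] at hm
      have e2 : a = x⁻¹ * u * x := by rw [← e1]; group
      rw [e2, QuotientGroup.mk_mul, QuotientGroup.mk_mul, QuotientGroup.mk_inv, ← hm]
      exact inv_mul_cancel_right _ _
    have hav : aa ∈ N9 2 := aa_mem
    have haT : F φ ι aa ∈ T := Subgroup.mem_centralizer_singleton_iff.2
      (F_comm B (okN aa_mem (v_memN 2)) (okN (v_memN 2) aa_mem) comm_facts.1).eq
    have hx0T : F φ ι (e 0) ∈ T := Subgroup.mem_centralizer_singleton_iff.2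
      (F_comm B (okH (e_mem 0) v_mem) (okH v_mem (e_mem 0))
        type_facts.2.2.2.2.2.2.2.2.2.2.2).eq
    set a : T := ⟨F φ ι aa, haT⟩
    set x0 : T := ⟨F φ ι (e 0), hx0T⟩
    have ha1 : Dbl φ ι (a : G) := dbl_aa B
    have ha2 : Quad φ ι ((a : G) * F φ ι v) := by
      show Quad φ ι (F φ ι aa * F φ ι v)
      rw [← F_mul B (okN aa_mem (v_memN 2))]
      exact quad_av B
    have haa : a * a = 1 := Subtype.ext (by
      show F φ ι aa * F φ ι aa = 1
      rw [← F_mul B (okN aa_mem aa_mem), comm_facts.2.2.2.2.2.2.1, F_one])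
    have m0 := hmod a ha1 ha2 haa
    have hb := hconj x0 a ha1 ha2
    have hbb : x0 * a * x0⁻¹ * (x0 * a * x0⁻¹) = 1 := by
      rw [show x0 * a * x0⁻¹ * (x0 * a * x0⁻¹) = x0 * (a * a) * x0⁻¹ by group, haa]; group
    have m1 := hmod _ hb.1 hb.2 hbb
    have hc := hconj x0 _ hb.1 hb.2
    have hcc : x0 * (x0 * a * x0⁻¹) * x0⁻¹ * (x0 * (x0 * a * x0⁻¹) * x0⁻¹) = 1 := by
      rw [show x0 * (x0 * a * x0⁻¹) * x0⁻¹ * (x0 * (x0 * a * x0⁻¹) * x0⁻¹) =
        x0 * (x0 * a * x0⁻¹ * (x0 * a * x0⁻¹)) * x0⁻¹ by group, hbb]; group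
    have m2 := hmod _ hc.1 hc.2 hcc
    have hprod : a * (x0 * a * x0⁻¹) = x0 * (x0 * a * x0⁻¹) * x0⁻¹ := by
      apply Subtype.ext
      show F φ ι aa * (F φ ι (e 0) * F φ ι aa * (F φ ι (e 0))⁻¹) =
        F φ ι (e 0) * (F φ ι (e 0) * F φ ι aa * (F φ ι (e 0))⁻¹) * (F φ ι (e 0))⁻¹
      rw [F_conj B (okN (e_mem_N 0 2) aa_mem) (okN a1'_mem (e_mem_N 0 2)) v4_facts.1,
        F_conj B (okN (e_mem_N 0 2) a1'_mem) (okN a2'_mem (e_mem_N 0 2)) v4_facts.2.1,
        ← F_mul B (okN aa_mem a1'_mem), v4_facts.2.2]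
    rw [← hprod, QuotientGroup.mk_mul, m0, m1, ← QuotientGroup.mk_mul, ← pow_two,
      ← hu2', pow_orderOf_eq_one, QuotientGroup.mk_one] at m2
    exact ZStarTheorem.notMem_pPrimeCore hu2' ((QuotientGroup.eq_one_iff u).1 m2.symm)
  · haveI : Group.IsNilpotent R := R.2.isNilpotent
    have hlt : S.subgroupOf (R : Subgroup T) < ⊤ := lt_top_iff_ne_top.2 fun h => hRS
      (le_antisymm (Subgroup.subgroupOf_eq_top.1 h) hR)
    obtain ⟨y, hyN, hy⟩ := SetLike.exists_of_lt (Group.normalizerCondition_of_isNilpotent _ hlt)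
    rw [Subgroup.mem_subgroupOf] at hy
    set n : T := (y : T)
    have hn : ∀ z ∈ S, n * z * n⁻¹ ∈ S := fun z hz => Subgroup.mem_subgroupOf.1
      ((Subgroup.mem_normalizer_iff.1 hyN ⟨z, hR hz⟩).1 (Subgroup.mem_subgroupOf.2 hz))
    have hnu : n * u * n⁻¹ = u :=
      hspecial _ (hn u huS) (hconj n u hu1 hu2).1 (hconj n u hu1 hu2).2
    have hnc : Commute (n : G) (F φ ι cc) :=
      congrArg Subtype.val (mul_inv_eq_iff_eq_mul.1 hnu)
    obtain ⟨p, hp⟩ := hn (sMap B ⟨d, d_S16⟩) ⟨_, rfl⟩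
    have hnd : (n : G) * F φ ι d * (n : G)⁻¹ = F φ ι p := (congrArg Subtype.val hp).symm
    have hp1 : Dbl φ ι (F φ ι p) := by
      have h := (dbl_six B 0).conj (n : G)
      rwa [show sixF 0 = d from rfl, hnd] at h
    have hp2 : Dbl φ ι (F φ ι (p * v)) := by
      have h := (dbl_six B 1).conj (n : G)
      rw [show sixF 1 = v * d from rfl, ← fusion_facts.2.2.2.2.2.2.2.1,
        F_mul B (okN d_mem (v_memN 0))] at h
      rw [F_mul B (okN p.2.1 (v_memN 0)), ← hnd]
      convert h using 1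
      calc (n : G) * F φ ι d * (n : G)⁻¹ * F φ ι v
          = (n : G) * F φ ι d * ((n : G)⁻¹ * F φ ι v) := by group
        _ = (n : G) * (F φ ι d * F φ ι v) * (n : G)⁻¹ := by rw [(hcomm n).inv_left.eq]; group
    obtain ⟨x, hx⟩ := exists_el p.2
    have hpp : el x * el x = 1 := by
      rw [← hx]
      refine F_inj_N B (mul_mem p.2.1 p.2.1) (one_mem _) ?_
      rw [F_mul B (okN p.2.1 p.2.1), F_one, ← hnd,
        show (n : G) * F φ ι d * (n : G)⁻¹ * ((n : G) * F φ ι d * (n : G)⁻¹) =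
          (n : G) * (F φ ι d * F φ ι d) * (n : G)⁻¹ by group, ← F_mul B (okN d_mem d_mem),
        (odd_facts d (by simp [odd'])).2.1, F_one]
      group
    refine ⟨n, hcomm n, ?_⟩
    rw [hnd]
    rw [hx] at hp1 hp2 hnd ⊢
    rcases el_class x hpp with h | h | h | ⟨i, h⟩ | ⟨i, h⟩ <;> rw [h] at hp1 hp2 hnd ⊢
    · exfalso
      rw [F_one, conj_eq_one_iff] at hnd
      exact (odd_facts d (by simp [odd'])).2.1 |> fun _ =>
        (show d ≠ 1 by decide +kernel) (F_inj_N B d_mem (one_mem _) (hnd.trans F_one.symm))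
    · exfalso
      apply d_ne_v B
      calc F φ ι d = (n : G)⁻¹ * ((n : G) * F φ ι d * (n : G)⁻¹) * n := by group
        _ = (n : G)⁻¹ * n * F φ ι v := by rw [hnd, mul_assoc, ← (hcomm n).eq, mul_assoc]
        _ = F φ ι v := by group
    · exact (sep B L hp2 (quad_cv B)).elim
    · fin_cases i
      · exfalso
        exact hy (mem_sMap L B (mul_inv_eq_iff_eq_mul.1 hnd) hnc)
      · exfalso
        set w : T := sMap B ⟨ww, ww_S16⟩
        have hwS : w ∈ S := ⟨_, rfl⟩
        refine hy ?_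
        have hm : w * n ∈ S := mem_sMap L B
          (mul_inv_eq_iff_eq_mul.1 (by
            show F φ ι ww * (n : G) * F φ ι d * (F φ ι ww * (n : G))⁻¹ = F φ ι d
            calc F φ ι ww * (n : G) * F φ ι d * (F φ ι ww * (n : G))⁻¹
                = F φ ι ww * ((n : G) * F φ ι d * (n : G)⁻¹) * (F φ ι ww)⁻¹ := by group
              _ = F φ ι d := by
                rw [hnd]
                exact F_conj B (okN ww_mem (mul_mem (v_memN 0) d_mem)) (okN d_mem ww_mem)
                  fusion_facts.2.2.2.2.2.2.2.2.1))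
          (Commute.mul_left (F_comm B (okN ww_mem cc_mem) (okN cc_mem ww_mem)
            fusion_facts.2.2.1) hnc)
        simpa using mul_mem (inv_mem hwS) hm
      · exact Or.inl rfl
      · exact Or.inr rfl
      all_goals
        exfalso
        have hz := (dbl_zz B).conj (n : G)
        rw [show F φ ι zz = F φ ι d * F φ ι cc by
          rw [← F_mul B (okN d_mem cc_mem), comm_facts.2.2.2.2.2.2.2.2.2.2.2.2.2.2.2.1]] at hz
        rw [show (n : G) * (F φ ι d * F φ ι cc) * (n : G)⁻¹ =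
          (n : G) * F φ ι d * (n : G)⁻¹ * F φ ι cc by
            rw [← mul_assoc, mul_assoc, ← hnc.inv_left.eq, ← mul_assoc], hnd] at hz
      · change Dbl φ ι (F φ ι ww * F φ ι cc) at hz
        rw [← F_mul B (okN ww_mem cc_mem), fusion_facts.1] at hz
        exact sep B L hz (quad_three B 1)
      · change Dbl φ ι (F φ ι (v * ww) * F φ ι cc) at hz
        rw [← F_mul B (okN (mul_mem (v_memN 0) ww_mem) cc_mem), fusion_facts.2.1] at hz
        exact sep B L hz (quad_three B 2)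
    · exact (sep B L hp1 (quad_three B i)).elim

end Cfsg.Agent.A9Base59
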