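import Mathlib

/-!
The Coxeter group of type `A_n` is the symmetric group on `n + 1` letters.
-/

set_option autoImplicit false

namespace Cfsg.Agent.CoxeterTypeA

/-- The Coxeter group of type `A_n`. -/
abbrev W (n : ℕ) := (CoxeterMatrix.A n).Group

/-- The tautological Coxeter system. -/
abbrev sys (n : ℕ) : CoxeterSystem (CoxeterMatrix.A n) (W n) := (CoxeterMatrix.A n).toCoxeterSystem

theorem swap_liftable (n : ℕ) :
    CoxeterMatrix.IsLiftable (CoxeterMatrix.A n) (fun i : Fin n => Equiv.swap i.castSucc i.succ) := by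
  intro i j
  simp only [CoxeterMatrix.A, Matrix.of_apply]
  show (Equiv.swap i.castSucc i.succ * Equiv.swap j.castSucc j.succ) ^
    (if i = j then 1 else if (j : ℕ) + 1 = i ∨ (i : ℕ) + 1 = j then 3 else 2) = 1
  by_cases h : i = j
  · subst h; simp
  rw [if_neg h]
  by_cases ha : (j : ℕ) + 1 = i ∨ (i : ℕ) + 1 = j
  · rw [if_pos ha]
    have key : ∀ (a b c : Fin (n + 1)), a ≠ b → a ≠ c → b ≠ c →
        (Equiv.swap a b * Equiv.swap b c) ^ 3 = 1 := by
      intro a b c hab hac hbc
      rw [Equiv.swap_comm a b, ← (Equiv.Perm.isThreeCycle_swap_mul_swap_same hab.symm hbc hac).orderOf]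
      exact pow_orderOf_eq_one _
    rcases ha with ha | ha
    · have e : i.castSucc = j.succ := Fin.ext ha.symm
      rw [e]
      rw [Equiv.swap_comm j.castSucc j.succ, Equiv.swap_comm j.succ i.succ]
      exact key _ _ _ (fun h' => by simp [Fin.ext_iff] at h'; omega) (fun h' => by simp [Fin.ext_iff] at h'; omega)
        (fun h' => by simp [Fin.ext_iff] at h')
    · have e : j.castSucc = i.succ := Fin.ext ha.symm
      rw [e]
      exact key _ _ _ (fun h' => by simp [Fin.ext_iff] at h') (fun h' => by simp [Fin.ext_iff] at h'; omega)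
        (fun h' => by simp [Fin.ext_iff] at h'; omega)
  · rw [if_neg ha]
    push Not at ha
    have hij : (i : ℕ) ≠ j := fun h' => h (Fin.ext h')
    have hd : Equiv.Perm.Disjoint (Equiv.swap i.castSucc i.succ) (Equiv.swap j.castSucc j.succ) := by
      intro x
      by_cases hx : x = i.castSucc ∨ x = i.succ
      · right
        refine Equiv.swap_apply_of_ne_of_ne ?_ ?_ <;>
          rcases hx with rfl | rfl <;> simp [Fin.ext_iff] <;> omega
      · left
        push Not at hx
        exact Equiv.swap_apply_of_ne_of_ne hx.1 hx.2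
    rw [hd.commute.mul_pow, pow_two, pow_two, Equiv.swap_mul_self, Equiv.swap_mul_self, one_mul]

/-- The map onto the symmetric group. -/
noncomputable def toPerm (n : ℕ) : W n →* Equiv.Perm (Fin (n + 1)) :=
  (sys n).lift ⟨fun i => Equiv.swap i.castSucc i.succ, swap_liftable n⟩

theorem toPerm_simple (n : ℕ) (i : Fin n) : toPerm n ((sys n).simple i) = Equiv.swap i.castSucc i.succ :=
  (sys n).lift_apply_simple (swap_liftable n) i

theorem toPerm_surjective (n : ℕ) : Function.Surjective (toPerm n) := by
  intro σ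
  have h : σ ∈ Submonoid.closure (Set.range fun i : Fin n => Equiv.swap i.castSucc i.succ) := by
    rw [Equiv.Perm.mclosure_swap_castSucc_succ]; trivial
  induction h using Submonoid.closure_induction with
  | mem x hx => obtain ⟨i, rfl⟩ := hx; exact ⟨_, toPerm_simple n i⟩
  | one => exact ⟨1, map_one _⟩
  | mul x y _ _ hx hy =>
    obtain ⟨a, rfl⟩ := hx
    obtain ⟨b, rfl⟩ := hy
    exact ⟨a * b, map_mul _ _ _⟩

/-- Simple reflections indexed by naturals, `1` out of range. -/
def gen (n i : ℕ) : W n := if h : i < n then (sys n).simple ⟨i, h⟩ else 1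

theorem gen_mul_self (n i : ℕ) : gen n i * gen n i = 1 := by
  unfold gen
  split
  · exact (sys n).simple_mul_simple_self _
  · exact one_mul 1

theorem gen_comm (n i j : ℕ) (h : i + 2 ≤ j) : gen n i * gen n j = gen n j * gen n i := by
  unfold gen
  by_cases hj : j < n
  · rw [dif_pos hj, dif_pos (show i < n by omega)]
    have h2 := (sys n).simple_mul_simple_pow ⟨i, by omega⟩ ⟨j, hj⟩
    have hM : (CoxeterMatrix.A n) ⟨i, by omega⟩ ⟨j, hj⟩ = 2 := by
      simp only [CoxeterMatrix.A, Fin.ext_iff]
      show (if i = j then 1 else if j + 1 = i ∨ i + 1 = j then 3 else 2) = 2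
      rw [if_neg (by omega), if_neg (by omega)]
    rw [hM, pow_two] at h2
    rw [← mul_inv_eq_one, mul_inv_rev, CoxeterSystem.inv_simple, CoxeterSystem.inv_simple]
    exact h2
  · rw [dif_neg hj, mul_one, one_mul]

theorem gen_braid (n i : ℕ) (h : i + 1 < n) :
    gen n (i + 1) * gen n i * gen n (i + 1) = gen n i * gen n (i + 1) * gen n i := by
  unfold gen
  rw [dif_pos h, dif_pos (show i < n by omega)]
  have h2 := (sys n).simple_mul_simple_pow ⟨i + 1, h⟩ ⟨i, by omega⟩
  have hM : (CoxeterMatrix.A n) ⟨i + 1, h⟩ ⟨i, by omega⟩ = 3 := by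
    simp only [CoxeterMatrix.A, Fin.ext_iff]
    show (if i + 1 = i then 1 else if i + 1 = i + 1 ∨ i + 1 + 1 = i then 3 else 2) = 3
    rw [if_neg (by omega), if_pos (Or.inl rfl)]
  rw [hM] at h2
  rw [← mul_inv_eq_one]
  simp only [mul_inv_rev, CoxeterSystem.inv_simple]
  simpa [pow_succ, mul_assoc] using h2

/-- Coset representatives. -/
def rep (n : ℕ) : ℕ → W (n + 1)
  | 0 => 1
  | k + 1 => rep n k * gen (n + 1) (n - k)

theorem rep_comm (n : ℕ) : ∀ k i, i + k < n → rep n k * gen (n + 1) i = gen (n + 1) i * rep n k := by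
  intro k
  induction k with
  | zero => intro i _; simp [rep]
  | succ k ih =>
    intro i hi
    rw [rep, mul_assoc, ← gen_comm _ i (n - k) (by omega), ← mul_assoc, ih i (by omega), mul_assoc]

theorem rep_shift (n : ℕ) : ∀ k i, n + 2 ≤ i + k → i ≤ n → k ≤ n + 1 →
    rep n k * gen (n + 1) i = gen (n + 1) (i - 1) * rep n k := by
  intro k
  induction k with
  | zero => intro i h hi; omega
  | succ k ih =>
    intro i h hi hk
    by_cases he : i = n - k + 1
    · obtain ⟨k', rfl⟩ : ∃ k', k = k' + 1 := ⟨k - 1, by omega⟩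
      subst he
      have e1 : n - (k' + 1) + 1 = n - k' := by omega
      simp only [rep, e1]
      rw [mul_assoc, mul_assoc, ← mul_assoc (gen (n + 1) (n - k')), ← e1, gen_braid _ _ (by omega), e1,
        show n - k' - 1 = n - (k' + 1) by omega]
      simp only [← mul_assoc]
      rw [rep_comm n k' (n - (k' + 1)) (by omega)]
    · rw [rep, mul_assoc, gen_comm _ (n - k) i (by omega), ← mul_assoc, ih i (by omega) hi (by omega), mul_assoc]

theorem finite_card : ∀ n, Finite (W n) ∧ Nat.card (W n) ≤ (n + 1).factorial := by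
  intro n
  induction n with
  | zero =>
    have hsub : Subsingleton (W 0) := by
      refine subsingleton_of_forall_eq 1 fun x => ?_
      have hx : x ∈ Subgroup.closure (Set.range (sys 0).simple) := by
        rw [CoxeterSystem.subgroup_closure_range_simple]; trivial
      rw [Set.range_eq_empty, Subgroup.closure_empty] at hx
      exact hx
    exact ⟨inferInstance, by simp⟩
  | succ n ih =>
    obtain ⟨hfin, hcard⟩ := ih
    have hl : CoxeterMatrix.IsLiftable (CoxeterMatrix.A n) (fun i : Fin n => (sys (n + 1)).simple i.castSucc) := by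
      intro i j
      have h := (sys (n + 1)).simple_mul_simple_pow i.castSucc j.castSucc
      have e : (CoxeterMatrix.A (n + 1)) i.castSucc j.castSucc = (CoxeterMatrix.A n) i j := by
        simp only [CoxeterMatrix.A, Fin.ext_iff, Fin.val_castSucc]
        rfl
      rwa [e] at h
    let ι : W n →* W (n + 1) := (sys n).lift ⟨_, hl⟩
    have hgen : ∀ i, i < n → gen (n + 1) i ∈ ι.range := by
      intro i hi
      refine ⟨(sys n).simple ⟨i, hi⟩, ?_⟩
      show (sys n).lift ⟨_, hl⟩ _ = _
      rw [(sys n).lift_apply_simple hl]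
      simp [gen, show i < n + 1 by omega]
    let S : Set (W (n + 1)) := {x | ∃ h ∈ ι.range, ∃ k ≤ n + 1, x = h * rep n k}
    have hstep : ∀ x ∈ S, ∀ i, i ≤ n → x * gen (n + 1) i ∈ S := by
      rintro x ⟨h, hh, k, hk, rfl⟩ i hi
      rcases lt_trichotomy (i + k) n with hlt | heq | hgt
      · exact ⟨h * gen (n + 1) i, ι.range.mul_mem hh (hgen i (by omega)), k, hk, by
          rw [mul_assoc, rep_comm n k i hlt, mul_assoc]⟩
      · exact ⟨h, hh, k + 1, by omega, by rw [rep, mul_assoc, show i = n - k by omega]⟩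
      · by_cases h1 : i + k = n + 1
        · obtain ⟨k', rfl⟩ : ∃ k', k = k' + 1 := ⟨k - 1, by omega⟩
          exact ⟨h, hh, k', by omega, by
            rw [rep, mul_assoc, mul_assoc, show i = n - k' by omega, gen_mul_self, mul_one]⟩
        · exact ⟨h * gen (n + 1) (i - 1), ι.range.mul_mem hh (hgen _ (by omega)), k, hk, by
            rw [mul_assoc, rep_shift n k i (by omega) hi hk, mul_assoc]⟩
    have hall : ∀ x, x ∈ S := by
      intro x
      refine (sys (n + 1)).simple_induction_left (p := fun y => ∀ z ∈ S, z * y ∈ S) x (fun z hz => by simpa using hz)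
        (fun w i hw z hz => ?_) 1 ⟨1, one_mem _, 0, by omega, by simp [rep]⟩ |> fun h => by simpa using h
      rw [← mul_assoc]
      refine hw _ ?_
      have := hstep z hz i (by omega)
      simpa [gen, i.2] using this
    let f : W n × Fin (n + 2) → W (n + 1) := fun p => ι p.1 * rep n p.2
    have hf : Function.Surjective f := by
      intro x
      obtain ⟨_, ⟨a, rfl⟩, k, hk, rfl⟩ := hall x
      exact ⟨(a, ⟨k, by omega⟩), rfl⟩
    refine ⟨Finite.of_surjective f hf, (Nat.card_le_card_of_surjective f hf).trans ?_⟩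
    rw [Nat.card_prod, Nat.card_fin, Nat.factorial_succ (n + 1), mul_comm]
    exact Nat.mul_le_mul le_rfl hcard

theorem toPerm_bijective (n : ℕ) : Function.Bijective (toPerm n) := by
  obtain ⟨hfin, hcard⟩ := finite_card n
  refine (Nat.bijective_iff_surjective_and_card _).2 ⟨toPerm_surjective n, ?_⟩
  refine le_antisymm (hcard.trans (by rw [Nat.card_perm, Nat.card_fin])) ?_
  exact Nat.card_le_card_of_surjective _ (toPerm_surjective n)

/-- The symmetric group as a Coxeter system of type `A`. -/
theorem exists_coxeterSystem (n : ℕ) :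
    ∃ cs : CoxeterSystem (CoxeterMatrix.A n) (Equiv.Perm (Fin (n + 1))),
      ∀ i : Fin n, cs.simple i = Equiv.swap i.castSucc i.succ :=
  ⟨⟨(MulEquiv.ofBijective (toPerm n) (toPerm_bijective n)).symm⟩, fun i => toPerm_simple n i⟩

end Cfsg.Agent.CoxeterTypeA
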