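import Cfsg.Agent.Lib.A9NineFacts59
import Cfsg.Agent.Lib.A9Pieces59
import Cfsg.Agent.S3335

/-!
The homomorphism from the alternating group of degree nine extending the pieces (S3339).
-/

set_option autoImplicit false
set_option Elab.async false
set_option synthInstance.maxSize 2000
set_option linter.unusedSectionVars false

namespace Cfsg.Agent.A9Gen70

open Equiv Cfsg.Agent.A9Base59

/-- The generators `(0 1)(i+1 i+2)`. -/
def xg (i : Fin 7) : P9 := swap 0 1 * swap ⟨i.val + 1, by omega⟩ ⟨i.val + 2, by omega⟩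

theorem xg_sign : ∀ i, Perm.sign (xg i) = 1 := by decide +kernel

theorem xg_piece : ∀ i, xg i ∈ H9 ∨ ∃ k, xg i ∈ N9 k := by decide +kernel

/-- The generators as elements of the alternating group. -/
def xa (i : Fin 7) : alternatingGroup (Fin 9) := ⟨xg i, Perm.mem_alternatingGroup.2 (xg_sign i)⟩

theorem perm_rels : (∀ i : Fin 7, i.val = 0 → xg i ^ 3 = 1) ∧
    (∀ i : Fin 7, 1 ≤ i.val → xg i ^ 2 = 1) ∧
    (∀ i j : Fin 7, j.val = i.val + 1 → (xg i * xg j) ^ 3 = 1) ∧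
    (∀ i j : Fin 7, i.val + 1 < j.val → (xg i * xg j) ^ 2 = 1) := by
  decide +kernel

theorem one_piece : ∀ i j : Fin 7, i.val ≤ j.val →
    (∃ k, xg i ∈ N9 k ∧ xg j ∈ N9 k) ∨ (i = 1 ∧ j = 4) := by decide +kernel

/-- The swap `(0 1)(3 4)`. -/
def pp : P9 := swap 0 1 * swap 3 4

/-- The presentation. -/
abbrev Pres := PresentedGroup (S3335.rels 7)

theorem hA : ∀ r ∈ S3335.rels 7, FreeGroup.lift xa r = 1 := by
  obtain ⟨h3, h2, hb, hc⟩ := perm_rels
  exact S3335.lift_rels xa (fun i hi => Subtype.ext (h3 i hi)) (fun i hi => Subtype.ext (h2 i hi))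
    (fun i j h => Subtype.ext (hb i j h)) (fun i j h => Subtype.ext (hc i j h))

/-- Onto the alternating group. -/
def piA : Pres →* alternatingGroup (Fin 9) := PresentedGroup.toGroup hA

theorem piA_of (i : Fin 7) : piA (PresentedGroup.of i) = xa i := PresentedGroup.toGroup.of _

theorem xa_mem_range (i : Fin 7) : (xg i : P9) ∈ piA.range.map (alternatingGroup (Fin 9)).subtype :=
  ⟨xa i, ⟨_, piA_of i⟩, rfl⟩

/-- The two alternatives for membership. -/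
def Reach (p : P9) : Prop :=
  let R := piA.range.map (alternatingGroup (Fin 9)).subtype
  (Perm.sign p = 1 ∧ p ∈ R) ∨ (Perm.sign p = -1 ∧ p * swap 0 1 ∈ R)

theorem reach_step {p : P9} (hp : Reach p) (i : Fin 8) :
    Reach (p * swap i.castSucc i.succ) := by
  have hs : Perm.sign (swap i.castSucc i.succ : P9) = -1 :=
    Perm.sign_swap (Fin.castSucc_lt_succ (i := i)).ne
  have hx : swap i.castSucc i.succ * swap 0 1 ∈ piA.range.map (alternatingGroup (Fin 9)).subtype ∧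
      swap 0 1 * swap i.castSucc i.succ ∈ piA.range.map (alternatingGroup (Fin 9)).subtype := by
    refine Fin.cases ?_ (fun j => ?_) i
    · simp [swap_mul_self]
    · have e : swap 0 1 * swap (j.succ.castSucc) j.succ.succ = xg j := rfl
      refine ⟨?_, e ▸ xa_mem_range j⟩
      have := inv_mem (e ▸ xa_mem_range j :
        swap 0 1 * swap (j.succ.castSucc) j.succ.succ ∈ piA.range.map (alternatingGroup (Fin 9)).subtype)
      rwa [mul_inv_rev, swap_inv, swap_inv] at this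
  rcases hp with ⟨h1, h2⟩ | ⟨h1, h2⟩
  · refine Or.inr ⟨by rw [map_mul, h1, hs, one_mul], ?_⟩
    rw [mul_assoc]
    exact mul_mem h2 hx.1
  · refine Or.inl ⟨by rw [map_mul, h1, hs]; rfl, ?_⟩
    have := mul_mem h2 hx.2
    rwa [mul_assoc, ← mul_assoc (swap 0 1) (swap 0 1), swap_mul_self, one_mul] at this

theorem reach (p : P9) : Reach p := by
  have hp : p ∈ Submonoid.closure (Set.range fun i : Fin 8 => swap i.castSucc i.succ) := by
    rw [Perm.mclosure_swap_castSucc_succ]; trivial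
  induction hp using Submonoid.closure_induction_right with
  | one => exact Or.inl ⟨map_one _, one_mem _⟩
  | mul_right x _ y hy hx =>
    obtain ⟨i, rfl⟩ := hy
    exact reach_step hx i

theorem piA_bijective : Function.Bijective piA := by
  have hs : Function.Surjective piA := by
    rintro ⟨p, hp⟩
    rcases reach p with ⟨-, h⟩ | ⟨h, -⟩
    · obtain ⟨a, ⟨y, rfl⟩, e⟩ := h
      exact ⟨y, Subtype.ext e⟩
    · rw [Perm.mem_alternatingGroup.1 hp] at h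
      exact absurd h (by decide)
  obtain ⟨e⟩ : Nonempty (Pres ≃* alternatingGroup (Fin 9)) := S3335.result 9 (by norm_num)
  have : Finite Pres := Finite.of_equiv _ e.symm.toEquiv
  exact (Nat.bijective_iff_surjective_and_card piA).2 ⟨hs, Nat.card_congr e.toEquiv⟩

variable {G : Type*} [Group G] {φ : H9 →* G} {ι : ∀ k : Fin 3, N9 k →* G}

theorem F_rel (B : Branch φ ι) {a b : P9} {k : Fin 3} (ha : a ∈ N9 k) (hb : b ∈ N9 k) {n : ℕ}
    (h : (a * b) ^ n = 1) : (F φ ι a * F φ ι b) ^ n = 1 := by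
  rw [← F_mul B (Or.inr ⟨k, ha, hb⟩), ← F_pow_N B (mul_mem ha hb), h, F_one]

theorem pp_facts : (∀ k, pp ∈ N9 k) ∧ xg 1 = aa ∧ xg 4 = (zz * pp) * cc * (zz * pp)⁻¹ ∧
    bb * (zz * pp) = (zz * pp) * bb ∧
    aa * ((zz * pp) * aa * (zz * pp)⁻¹) * aa = pp * zz * pp ∧
    (pp * zz * pp) * cc * (pp * zz * pp)⁻¹ = (zz * pp) * cc * (zz * pp)⁻¹ := by
  decide +kernel

theorem exc_rel (B : Branch φ ι) (h1 : F φ ι aa * F φ ι bb * F φ ι aa = F φ ι cc) :
    (F φ ι (xg 1) * F φ ι (xg 4)) ^ 2 = 1 := by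
  obtain ⟨hp, e1, e4, hbq, hau, hw⟩ := pp_facts
  set q := zz * pp with hq
  have hqN : ∀ k, q ∈ N9 k := fun k => mul_mem (zz_memN k) (hp k)
  have hwN : ∀ k, pp * zz * pp ∈ N9 k := fun k => mul_mem (mul_mem (hp k) (zz_memN k)) (hp k)
  set A := F φ ι aa
  set Bb := F φ ι bb
  set C := F φ ι cc
  set Q := F φ ι q
  set W := F φ ι (pp * zz * pp)
  have hX : F φ ι (xg 4) = Q * C * Q⁻¹ := by
    rw [e4]
    exact (F_conj B (Or.inr ⟨0, hqN 0, cc_mem⟩)
      (Or.inr ⟨0, mul_mem (mul_mem (hqN 0) cc_mem) (inv_mem (hqN 0)), hqN 0⟩) (by group)).symm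
  have hW : W * C * W⁻¹ = Q * C * Q⁻¹ := by
    rw [← hX, e4]
    exact F_conj B (Or.inr ⟨0, hwN 0, cc_mem⟩)
      (Or.inr ⟨0, mul_mem (mul_mem (hqN 0) cc_mem) (inv_mem (hqN 0)), hwN 0⟩)
      (by rw [← hw]; group)
  have hB : Q * Bb * Q⁻¹ = Bb :=
    F_conj B (Or.inr ⟨1, hqN 1, bb_mem⟩) (Or.inr ⟨1, bb_mem, hqN 1⟩) hbq.symm
  have hU : Q * A * Q⁻¹ = F φ ι (q * aa * q⁻¹) :=
    F_conj B (Or.inr ⟨2, hqN 2, aa_mem⟩)
      (Or.inr ⟨2, mul_mem (mul_mem (hqN 2) aa_mem) (inv_mem (hqN 2)), hqN 2⟩) (by group)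
  have hAA : A * A = 1 := by
    rw [← F_mul B (Or.inr ⟨2, aa_mem, aa_mem⟩), comm_facts.2.2.2.2.2.2.1, F_one]
  have hu : A * (Q * A * Q⁻¹) * A = W := by
    rw [hU, ← F_mul B (Or.inr ⟨2, aa_mem, mul_mem (mul_mem (hqN 2) aa_mem) (inv_mem (hqN 2))⟩),
      ← F_mul B (Or.inr ⟨2, mul_mem aa_mem (mul_mem (mul_mem (hqN 2) aa_mem) (inv_mem (hqN 2))),
        aa_mem⟩), hau]
  have hWi : W = W⁻¹ := by
    refine eq_inv_of_mul_eq_one_left ?_
    rw [← F_mul B (Or.inr ⟨0, hwN 0, hwN 0⟩),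
      show pp * zz * pp * (pp * zz * pp) = 1 by decide +kernel, F_one]
  have hX' : F φ ι (xg 4) = (Q * A * Q⁻¹) * Bb * (Q * A * Q⁻¹) := by
    rw [hX, ← h1]
    calc Q * (A * Bb * A) * Q⁻¹ = (Q * A * Q⁻¹) * (Q * Bb * Q⁻¹) * (Q * A * Q⁻¹) := by group
      _ = _ := by rw [hB]
  have hcomm : A * F φ ι (xg 4) * A = F φ ι (xg 4) := by
    calc A * F φ ι (xg 4) * A
        = (A * (Q * A * Q⁻¹) * A) * (A * Bb * A) * (A * (Q * A * Q⁻¹) * A) := by
          rw [hX']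
          calc A * (Q * A * Q⁻¹ * Bb * (Q * A * Q⁻¹)) * A
              = A * (Q * A * Q⁻¹) * 1 * Bb * 1 * (Q * A * Q⁻¹) * A := by group
            _ = A * (Q * A * Q⁻¹) * (A * A) * Bb * (A * A) * (Q * A * Q⁻¹) * A := by rw [hAA]
            _ = _ := by group
      _ = W * C * W := by rw [hu, h1]
      _ = W * C * W⁻¹ := by rw [← hWi]
      _ = F φ ι (xg 4) := by rw [hW, hX]
  have hXX : F φ ι (xg 4) * F φ ι (xg 4) = 1 := by
    have h4 : xg 4 ∈ N9 0 := by decide +kernel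
    rw [← F_mul B (Or.inr ⟨0, h4, h4⟩), show xg 4 * xg 4 = 1 by decide +kernel, F_one]
  rw [e1, sq]
  show A * F φ ι (xg 4) * (A * F φ ι (xg 4)) = 1
  rw [← mul_assoc, hcomm, hXX]

theorem hG (B : Branch φ ι) (h1 : F φ ι aa * F φ ι bb * F φ ι aa = F φ ι cc) :
    ∀ r ∈ S3335.rels 7, FreeGroup.lift (fun i => F φ ι (xg i)) r = 1 := by
  obtain ⟨h3, h2, hb, hc⟩ := perm_rels
  refine S3335.lift_rels _ (fun i hi => ?_) (fun i hi => ?_) (fun i j h => ?_) (fun i j h => ?_)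
  · rcases one_piece i i le_rfl with ⟨k, hk, -⟩ | ⟨rfl, h4⟩
    · rw [← F_pow_N B hk, h3 i hi, F_one]
    · exact absurd h4 (by decide)
  · rcases one_piece i i le_rfl with ⟨k, hk, -⟩ | ⟨rfl, h4⟩
    · rw [← F_pow_N B hk, h2 i hi, F_one]
    · exact absurd h4 (by decide)
  · rcases one_piece i j (by omega) with ⟨k, hk, hk'⟩ | ⟨rfl, rfl⟩
    · exact F_rel B hk hk' (hb i j h)
    · exact absurd h (by decide)
  · rcases one_piece i j (by omega) with ⟨k, hk, hk'⟩ | ⟨rfl, rfl⟩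
    · exact F_rel B hk hk' (hc i j h)
    · exact exc_rel B h1

/-! ### Generation of the pieces -/

/-- The bridges. -/
def br : Fin 3 → P9 := ![cc, bb, aa]

theorem br_mem : ∀ k, br k ∈ N9 k := by
  intro k; fin_cases k
  exacts [cc_mem, bb_mem, aa_mem]

/-- The other two blocks. -/
def ob : Fin 3 → Fin 2 → Fin 3 := ![![1, 2], ![0, 2], ![0, 1]]

/-- The conjugated bridges. -/
def cb (k : Fin 3) (a b : Fin 3) : P9 :=
  e (ob k 0) ^ a.val * e (ob k 1) ^ b.val * br k * (e (ob k 0) ^ a.val * e (ob k 1) ^ b.val)⁻¹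

theorem cover_partition : ∀ k : Fin 3, ∀ x y z : Fin 9,
    bk x ≠ k → bk y ≠ k → bk z ≠ k → x ≠ y → x ≠ z → y ≠ z →
    (bk x = bk y ∧ bk x = bk z) ∨
      ∃ a b, bk (cb k a b x) = bk (cb k a b y) ∧ bk (cb k a b x) = bk (cb k a b z) := by
  decide +kernel

theorem swap_exists : ∀ k : Fin 3, ∃ a b a' b' a'' b'' : Fin 3,
    cb k a b * cb k a' b' * cb k a'' b'' ∈ H9 ∧
    ∀ i, bk i ≠ k → bk ((cb k a b * cb k a' b' * cb k a'' b'') i) ≠ bk i := by
  decide +kernel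

/-- The point `a` of the block `k`. -/
def pl (k a : Fin 3) : Fin 9 := ⟨3 * k.val + a.val, by omega⟩

/-- The third point of a block. -/
def third (x y : Fin 9) : Fin 9 :=
  ⟨(3 * (3 * (x.val / 3)) + 3 - x.val - y.val) % 9, Nat.mod_lt _ (by norm_num)⟩

theorem third_spec : ∀ x y z : Fin 9, bk x = bk y → bk x = bk z → x ≠ y → x ≠ z → y ≠ z →
    z = third x y := by decide +kernel

/-- Elements of the block-fixing group. -/
def fw (a b c : Fin 3) (i j : Fin 2) : P9 :=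
  e 0 ^ a.val * e 1 ^ b.val * e 2 ^ c.val * pp ^ i.val * xg 5 ^ j.val

theorem cover_fixed : ∀ a0 a1 : Fin 3, a0 ≠ a1 → ∀ a3 a4 : Fin 3, a3 ≠ a4 →
    ∀ a6 a7 : Fin 3, a6 ≠ a7 →
    ∃ a b c i j, ∃ s : Bool, ∀ t,
      (fw a b c i j) ((bif s then swap 0 1 else (1 : P9)) t) =
        ![pl 0 a0, pl 0 a1, third (pl 0 a0) (pl 0 a1), pl 1 a3, pl 1 a4,
          third (pl 1 a3) (pl 1 a4), pl 2 a6, pl 2 a7, third (pl 2 a6) (pl 2 a7)] t := by
  decide +kernel

theorem pl_cover : ∀ i : Fin 9, ∃ a : Fin 3, pl (bk i) a = i := by decide +kernel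

theorem fixed_eq {p : P9} (hs : Perm.sign p = 1) (hp : ∀ i, bk (p i) = bk i) :
    ∃ a b c i j, p = fw a b c i j := by
  have ne : ∀ {i j : Fin 9}, i ≠ j → p i ≠ p j := fun h e => h (p.injective e)
  have ht : ∀ x y z : Fin 9, bk x = bk y → bk x = bk z → x ≠ y → x ≠ z → y ≠ z →
      p z = third (p x) (p y) := fun x y z a b c d e =>
    third_spec _ _ _ (by rw [hp, hp, a]) (by rw [hp, hp, b]) (ne c) (ne d) (ne e)
  have hpl : ∀ i : Fin 9, ∃ a : Fin 3, pl (bk i) a = p i := fun i => by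
    simpa [hp i] using pl_cover (p i)
  obtain ⟨a0, e0⟩ := hpl 0
  obtain ⟨a1, e1⟩ := hpl 1
  obtain ⟨a3, e3⟩ := hpl 3
  obtain ⟨a4, e4⟩ := hpl 4
  obtain ⟨a6, e6⟩ := hpl 6
  obtain ⟨a7, e7⟩ := hpl 7
  rw [show bk 0 = 0 from rfl] at e0
  rw [show bk 1 = 0 from rfl] at e1
  rw [show bk 3 = 1 from rfl] at e3
  rw [show bk 4 = 1 from rfl] at e4
  rw [show bk 6 = 2 from rfl] at e6
  rw [show bk 7 = 2 from rfl] at e7
  have n01 : a0 ≠ a1 := fun h => ne (show (0 : Fin 9) ≠ 1 by decide) (by rw [← e0, ← e1, h])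
  have n34 : a3 ≠ a4 := fun h => ne (show (3 : Fin 9) ≠ 4 by decide) (by rw [← e3, ← e4, h])
  have n67 : a6 ≠ a7 := fun h => ne (show (6 : Fin 9) ≠ 7 by decide) (by rw [← e6, ← e7, h])
  obtain ⟨a, b, c, i, j, s, h⟩ := cover_fixed a0 a1 n01 a3 a4 n34 a6 a7 n67
  rw [e0, e1, e3, e4, e6, e7] at h
  have e : p = fw a b c i j * (bif s then swap 0 1 else (1 : P9)) := by
    refine Perm.ext fun t => ?_
    rw [Perm.mul_apply, h t]
    fin_cases t
    · rfl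
    · rfl
    · exact ht 0 1 2 rfl rfl (by decide) (by decide) (by decide)
    · rfl
    · rfl
    · exact ht 3 4 5 rfl rfl (by decide) (by decide) (by decide)
    · rfl
    · rfl
    · exact ht 6 7 8 rfl rfl (by decide) (by decide) (by decide)
  cases s
  · exact ⟨a, b, c, i, j, by simpa using e⟩
  · exfalso
    have hf : Perm.sign (fw a b c i j) = 1 := by
      simp only [fw, map_mul, map_pow, (e_mem _).1, xg_sign,
        show Perm.sign pp = 1 by decide +kernel, one_pow, one_mul]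
    rw [e, map_mul, hf] at hs
    simp at hs

theorem four_pigeon : ∀ x y z w : Fin 9, bk x = bk y → bk x = bk z → bk x = bk w → x ≠ y → x ≠ z →
    x ≠ w → y ≠ z → y ≠ w → z ≠ w → False := by decide +kernel

theorem other_block : ∀ k a b c : Fin 3, a ≠ k → b ≠ k → c ≠ k → a ≠ b → c ≠ a → c = b := by decide

theorem reps_block : ∀ k : Fin 3,
    bk (pl (ob k 0) 0) = ob k 0 ∧ bk (pl (ob k 0) 1) = ob k 0 ∧ bk (pl (ob k 0) 2) = ob k 0 ∧
    pl (ob k 0) 0 ≠ pl (ob k 0) 1 ∧ pl (ob k 0) 0 ≠ pl (ob k 0) 2 ∧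
    pl (ob k 0) 1 ≠ pl (ob k 0) 2 ∧
    (∀ i, bk i = ob k 0 → i = pl (ob k 0) 0 ∨ i = pl (ob k 0) 1 ∨ i = pl (ob k 0) 2) := by
  decide +kernel

theorem ob_spec : ∀ k, ob k 0 ≠ k ∧ ob k 1 ≠ k ∧ ob k 0 ≠ ob k 1 ∧
    ∀ c, c ≠ k → c = ob k 0 ∨ c = ob k 1 := by decide

/-- An element of a piece keeping one further block together lies in the block stabiliser and either
fixes all blocks or exchanges the two others. -/
theorem keep_cases {k : Fin 3} {q : P9} (hq : q ∈ N9 k) {x y z : Fin 9}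
    (hx : bk x = ob k 0) (hy : bk y = ob k 0) (hz : bk z = ob k 0)
    (hall : ∀ i, bk i = ob k 0 → i = x ∨ i = y ∨ i = z) (hxy : x ≠ y) (hxz : x ≠ z) (hyz : y ≠ z)
    (h : bk (q x) = bk (q y) ∧ bk (q x) = bk (q z)) :
    (∀ i, bk (q i) = bk i) ∨ (∀ i, bk i ≠ k → bk (q i) ≠ bk i) := by
  obtain ⟨o0, o1, o01, ho⟩ := ob_spec k
  have hk : ∀ i, bk i ≠ k → bk (q i) ≠ k := fun i hi e => hi ((hq.2 i).2 e)
  have h0 : ∀ i, bk i = ob k 0 → bk (q i) = bk (q x) := fun i hi => by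
    rcases hall i hi with rfl | rfl | rfl
    exacts [rfl, h.1.symm, h.2.symm]
  have h1 : ∀ i, bk i = ob k 1 → bk (q i) ≠ bk (q x) := fun i hi e => by
    have hne : ∀ j, bk j = ob k 0 → q j ≠ q i := fun j hj e' => o01 (by
      rw [← hj, ← hi, q.injective e'])
    exact four_pigeon (q x) (q y) (q z) (q i) h.1 h.2 e.symm (fun e => hxy (q.injective e))
      (fun e => hxz (q.injective e)) (hne x hx) (fun e => hyz (q.injective e)) (hne y hy) (hne z hz)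
  rcases ho _ (hk x (hx ▸ o0)) with e | e
  · left
    intro i
    by_cases hi : bk i = k
    · rw [(hq.2 i).1 hi, hi]
    · rcases ho _ hi with hi' | hi'
      · rw [h0 i hi', e, hi']
      · rw [other_block k (ob k 0) (ob k 1) _ o0 o1 (hk i hi) o01 (e ▸ h1 i hi'), hi']
  · right
    intro i hi
    rcases ho _ hi with hi' | hi'
    · rw [h0 i hi', e, hi']; exact o01.symm
    · rw [hi']; exact e ▸ h1 i hi'

theorem cb_mem (k a b : Fin 3) : cb k a b ∈ N9 k :=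
  mul_mem (mul_mem (mul_mem (pow_mem (e_mem_N _ k) _) (pow_mem (e_mem_N _ k) _)) (br_mem k))
    (inv_mem (mul_mem (pow_mem (e_mem_N _ k) _) (pow_mem (e_mem_N _ k) _)))

theorem fw_mem (a b c : Fin 3) (i j : Fin 2) (k : Fin 3) : fw a b c i j ∈ N9 k := by
  have hx5 : ∀ k, xg 5 ∈ N9 k := by decide +kernel
  exact mul_mem (mul_mem (mul_mem (mul_mem (pow_mem (e_mem_N _ k) _) (pow_mem (e_mem_N _ k) _))
    (pow_mem (e_mem_N _ k) _)) (pow_mem (pp_facts.1 k) _)) (pow_mem (hx5 k) _)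

/-- A subgroup of a piece containing the generators is the whole piece. -/
theorem piece_top {k : Fin 3} (S : Subgroup (N9 k))
    (he : ∀ l, (⟨e l, e_mem_N l k⟩ : N9 k) ∈ S)
    (hp : (⟨pp, pp_facts.1 k⟩ : N9 k) ∈ S)
    (h5 : ∀ h : xg 5 ∈ N9 k, (⟨xg 5, h⟩ : N9 k) ∈ S)
    (hb : (⟨br k, br_mem k⟩ : N9 k) ∈ S) : S = ⊤ := by
  have hx5 : xg 5 ∈ N9 k := (by decide +kernel : ∀ k, xg 5 ∈ N9 k) k
  have hcb : ∀ a b, (⟨cb k a b, cb_mem k a b⟩ : N9 k) ∈ S := fun a b => by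
    have h := mul_mem (mul_mem (mul_mem (pow_mem (he (ob k 0)) a.val) (pow_mem (he (ob k 1)) b.val)) hb)
      (inv_mem (mul_mem (pow_mem (he (ob k 0)) a.val) (pow_mem (he (ob k 1)) b.val)))
    exact h
  have hfix : ∀ q : N9 k, (∀ i, bk ((q : P9) i) = bk i) → q ∈ S := by
    rintro ⟨q, hq⟩ h
    obtain ⟨a, b, c, i, j, rfl⟩ := fixed_eq hq.1 h
    exact mul_mem (mul_mem (mul_mem (mul_mem (pow_mem (he 0) a.val) (pow_mem (he 1) b.val))
      (pow_mem (he 2) c.val)) (pow_mem hp i.val)) (pow_mem (h5 hx5) j.val)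
  obtain ⟨o0, o1, o01, ho⟩ := ob_spec k
  obtain ⟨hx, hy, hz, hxy, hxz, hyz, hall⟩ := reps_block k
  set x := pl (ob k 0) 0
  set y := pl (ob k 0) 1
  set z := pl (ob k 0) 2
  have hkeep : ∀ q : N9 k, (bk ((q : P9) x) = bk ((q : P9) y) ∧ bk ((q : P9) x) = bk ((q : P9) z)) →
      q ∈ S := by
    intro q h
    rcases keep_cases q.2 hx hy hz hall hxy hxz hyz h with h' | h'
    · exact hfix q h'
    · obtain ⟨a, b, a', b', a'', b'', -, hs⟩ := swap_exists k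
      set s : N9 k := ⟨cb k a b, cb_mem k a b⟩ * ⟨cb k a' b', cb_mem k a' b'⟩ * ⟨cb k a'' b'', cb_mem k a'' b''⟩
      have hsS : s ∈ S := mul_mem (mul_mem (hcb _ _) (hcb _ _)) (hcb _ _)
      have hsq : s * q ∈ S := by
        refine hfix _ fun i => ?_
        by_cases hi : bk i = k
        · have := ((s * q).2.2 i).1 hi
          rw [this, hi]
        · have hqi : bk ((q : P9) i) ≠ k := fun e => hi ((q.2.2 i).2 e)
          have h1 : bk ((s : P9) ((q : P9) i)) ≠ k := fun e => hqi ((s.2.2 _).2 e)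
          rw [Subgroup.coe_mul, Perm.mul_apply]
          exact other_block k (bk ((q : P9) i)) (bk i) _ hqi hi h1 (h' i hi) (hs _ hqi)
      have := mul_mem (inv_mem hsS) hsq
      rwa [inv_mul_cancel_left] at this
  refine eq_top_iff.2 fun q _ => ?_
  have hne : ∀ {i j : Fin 9}, i ≠ j → (q : P9) i ≠ (q : P9) j := fun h e => h ((q : P9).injective e)
  have hk : ∀ i, bk i = ob k 0 → bk ((q : P9) i) ≠ k := fun i hi e => o0 (hi ▸ (q.2.2 i).2 e)
  rcases cover_partition k _ _ _ (hk x hx) (hk y hy) (hk z hz) (hne hxy) (hne hxz) (hne hyz) with h | ⟨a, b, h⟩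
  · exact hkeep q h
  · have h2 : (⟨cb k a b, cb_mem k a b⟩ : N9 k) * q ∈ S := hkeep _ h
    have := mul_mem (inv_mem (hcb a b)) h2
    rwa [inv_mul_cancel_left] at this

theorem gen_words : e 0 = xg 0 ∧ e 1 = xg 2 * xg 3 ∧ e 2 = xg 5 * xg 6 ∧ pp = xg 2 ∧
    cc = (zz * pp)⁻¹ * xg 4 * (zz * pp) ∧ aa = xg 1 ∧ zz = xg 3 ∧ bb = aa * cc * aa := by
  decide +kernel

theorem xg_fixed : ∀ k : Fin 3, ∀ i : Fin 7, i = 0 ∨ i = 2 ∨ i = 3 ∨ i = 5 ∨ i = 6 → xg i ∈ N9 k := by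
  decide +kernel

theorem exists_psi (B : Branch φ ι)
    (h1 : F φ ι aa * F φ ι bb * F φ ι aa = F φ ι cc)
    (_h2 : F φ ι bb * F φ ι aa * F φ ι bb = F φ ι cc) :
    ∃ ψ : alternatingGroup (Fin 9) →* G, Function.Injective ψ ∧
      (∀ (p : alternatingGroup (Fin 9)) (h : (p : P9) ∈ H9), ψ p = φ ⟨(p : P9), h⟩) ∧
      ∀ k (p : alternatingGroup (Fin 9)) (h : (p : P9) ∈ N9 k), ψ p = ι k ⟨(p : P9), h⟩ := by
  let πe : Pres ≃* alternatingGroup (Fin 9) := MulEquiv.ofBijective piA piA_bijective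
  let ψ : alternatingGroup (Fin 9) →* G :=
    (PresentedGroup.toGroup (hG B h1)).comp πe.symm.toMonoidHom
  have hψ : ∀ i, ψ (xa i) = F φ ι (xg i) := fun i => by
    show PresentedGroup.toGroup (hG B h1) (πe.symm (xa i)) = _
    rw [← piA_of i]
    show PresentedGroup.toGroup (hG B h1) (πe.symm (πe (PresentedGroup.of i))) = _
    rw [MulEquiv.symm_apply_apply, PresentedGroup.toGroup.of]
  let incl : ∀ k, N9 k →* alternatingGroup (Fin 9) := fun k =>
    (N9 k).subtype.codRestrict _ fun p => Perm.mem_alternatingGroup.2 p.2.1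
  obtain ⟨w0, w1, w2, wp, wc, wa, wz, wb⟩ := gen_words
  have hN : ∀ k, (ψ.comp (incl k)).eqLocus (ι k) = ⊤ := by
    intro k
    have hgen : ∀ i (h : xg i ∈ N9 k), (⟨xg i, h⟩ : N9 k) ∈ (ψ.comp (incl k)).eqLocus (ι k) :=
      fun i h => (hψ i).trans (F_N B h)
    have hpp : (⟨pp, pp_facts.1 k⟩ : N9 k) ∈ (ψ.comp (incl k)).eqLocus (ι k) := by
      rw [show (⟨pp, pp_facts.1 k⟩ : N9 k) = ⟨xg 2, xg_fixed k 2 (by simp)⟩ from Subtype.ext wp]
      exact hgen _ _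
    refine piece_top _ (fun l => ?_) hpp (fun h => hgen 5 h) ?_
    · rcases (by decide : ∀ x : Fin 3, x = 0 ∨ x = 1 ∨ x = 2) l with rfl | rfl | rfl
      · rw [show (⟨e 0, e_mem_N 0 k⟩ : N9 k) = ⟨xg 0, xg_fixed k 0 (by simp)⟩ from Subtype.ext w0]
        exact hgen _ _
      · rw [show (⟨e 1, e_mem_N 1 k⟩ : N9 k) = ⟨xg 2, xg_fixed k 2 (by simp)⟩ *
          ⟨xg 3, xg_fixed k 3 (by simp)⟩ from Subtype.ext w1]
        exact mul_mem (hgen _ _) (hgen _ _)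
      · rw [show (⟨e 2, e_mem_N 2 k⟩ : N9 k) = ⟨xg 5, xg_fixed k 5 (by simp)⟩ *
          ⟨xg 6, xg_fixed k 6 (by simp)⟩ from Subtype.ext w2]
        exact mul_mem (hgen _ _) (hgen _ _)
    · have hc : ψ (incl 0 ⟨cc, cc_mem⟩) = F φ ι cc := by
        have h4 : xg 4 ∈ N9 0 := by decide +kernel
        have hq : (⟨zz * pp, mul_mem (zz_memN 0) (pp_facts.1 0)⟩ : N9 0) ∈
            (ψ.comp (incl 0)).eqLocus (ι 0) := by
          rw [show (⟨zz * pp, mul_mem (zz_memN 0) (pp_facts.1 0)⟩ : N9 0) =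
            ⟨xg 3, xg_fixed 0 3 (by simp)⟩ * ⟨xg 2, xg_fixed 0 2 (by simp)⟩ from
              Subtype.ext (by show zz * pp = xg 3 * xg 2; rw [wz, wp])]
          exact mul_mem ((hψ 3).trans (F_N B _)) ((hψ 2).trans (F_N B _))
        have h4m : (⟨xg 4, h4⟩ : N9 0) ∈ (ψ.comp (incl 0)).eqLocus (ι 0) := (hψ 4).trans (F_N B h4)
        have h := mul_mem (mul_mem (inv_mem hq) h4m) hq
        rw [F_N B cc_mem]
        rwa [show (⟨cc, cc_mem⟩ : N9 0) = ⟨zz * pp, mul_mem (zz_memN 0) (pp_facts.1 0)⟩⁻¹ *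
          ⟨xg 4, h4⟩ * ⟨zz * pp, mul_mem (zz_memN 0) (pp_facts.1 0)⟩ from Subtype.ext wc]
      have ha : ψ (incl 2 ⟨aa, aa_mem⟩) = F φ ι aa := by
        rw [show incl 2 ⟨aa, aa_mem⟩ = xa 1 from Subtype.ext wa, hψ, ← wa]
      have hb : ψ (incl 1 ⟨bb, bb_mem⟩) = F φ ι bb := by
        rw [show incl 1 ⟨bb, bb_mem⟩ = incl 2 ⟨aa, aa_mem⟩ * incl 0 ⟨cc, cc_mem⟩ * incl 2 ⟨aa, aa_mem⟩
          from Subtype.ext wb, map_mul, map_mul, ha, hc, ← h1]
        have hAA : F φ ι aa * F φ ι aa = 1 := by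
          rw [← F_mul B (Or.inr ⟨2, aa_mem, aa_mem⟩), comm_facts.2.2.2.2.2.2.1, F_one]
        calc F φ ι aa * (F φ ι aa * F φ ι bb * F φ ι aa) * F φ ι aa
            = (F φ ι aa * F φ ι aa) * F φ ι bb * (F φ ι aa * F φ ι aa) := by group
          _ = _ := by rw [hAA, one_mul, mul_one]
      fin_cases k
      · exact hc.trans (F_N B cc_mem)
      · exact hb.trans (F_N B bb_mem)
      · exact ha.trans (F_N B aa_mem)
  have hN' : ∀ k (p : alternatingGroup (Fin 9)) (h : (p : P9) ∈ N9 k), ψ p = ι k ⟨(p : P9), h⟩ :=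
    fun k p h => by
      have : (⟨(p : P9), h⟩ : N9 k) ∈ (ψ.comp (incl k)).eqLocus (ι k) := hN k ▸ Subgroup.mem_top _
      exact this
  have hH : ∀ (p : alternatingGroup (Fin 9)) (h : (p : P9) ∈ H9), ψ p = φ ⟨(p : P9), h⟩ := by
    have step : ∀ (k : Fin 3) (p : alternatingGroup (Fin 9)) (h : (p : P9) ∈ H9),
        (p : P9) ∈ N9 k → ψ p = φ ⟨(p : P9), h⟩ := fun k p h h' => by
      rw [hN' k p h', B.ext k _ h h']
    intro p h
    have h0 : ∀ r ∈ H9, bk (r 0) = 0 → r ∈ N9 0 := fun r hr e => ⟨hr.1, fun i => by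
      have := hr.2 i 0
      rw [show bk (0 : Fin 9) = 0 from rfl, e] at this
      exact this⟩
    by_cases hb : bk ((p : P9) 0) = 0
    · exact step 0 p h (h0 _ h hb)
    · obtain ⟨s, hs, k, hk, hb'⟩ : ∃ s : P9, s ∈ H9 ∧ ∃ k, s ∈ N9 k ∧ bk (s ((p : P9) 0)) = 0 := by
        have hq2 : ∀ i, bk i = 1 → bk (q i) = 0 := by decide +kernel
        have hu2 : ∀ i, bk i = 2 → bk (u2 i) = 0 := by decide +kernel
        rcases (by decide : ∀ x : Fin 3, x ≠ 0 → x = 1 ∨ x = 2) _ hb with e | e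
        · exact ⟨q, q_mem, 2, q_memN, hq2 _ e⟩
        · exact ⟨u2, u2_mem, 1, u2_memN, hu2 _ e⟩
      let s' : alternatingGroup (Fin 9) := ⟨s, Perm.mem_alternatingGroup.2 hs.1⟩
      have h' : ((s' * p : alternatingGroup (Fin 9)) : P9) ∈ H9 := mul_mem hs h
      have e1 := step 0 (s' * p) h' (h0 _ h' hb')
      rw [map_mul, step k s' hs hk,
        show (⟨((s' * p : alternatingGroup (Fin 9)) : P9), h'⟩ : H9) = ⟨s, hs⟩ * ⟨(p : P9), h⟩ from rfl,
        map_mul] at e1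
      exact mul_left_cancel e1
  refine ⟨ψ, ?_, hH, hN'⟩
  have : IsSimpleGroup (alternatingGroup (Fin 9)) := alternatingGroup.isSimpleGroup (by simp)
  rw [← MonoidHom.ker_eq_bot_iff]
  refine (Subgroup.Normal.eq_bot_or_eq_top (MonoidHom.normal_ker ψ)).resolve_right fun htop => ?_
  let p0 : alternatingGroup (Fin 9) := ⟨e 0, Perm.mem_alternatingGroup.2 (e_mem 0).1⟩
  have h0 : ψ p0 = 1 := MonoidHom.mem_ker.1 (htop ▸ Subgroup.mem_top p0)
  rw [hN' 0 p0 (e_mem_N 0 0)] at h0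
  have := congrArg Subtype.val (B.inj 0 (h0.trans (map_one (ι 0)).symm))
  exact absurd this (show e 0 ≠ 1 by decide +kernel)

end Cfsg.Agent.A9Gen70
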