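import Mathlib
import Cfsg.Agent.Lib.GlaubermanControl
import Cfsg.Agent.Lib.TransferQuadratic
import Cfsg.Agent.Lib.HallSolvable
import Cfsg.Agent.Lib.CoprimeAction

/-!
# Normal `p`-complements from the normalizer of a functor value

The reduction follows the one for `S1990`, relative to a strongly closed subgroup.
-/

set_option autoImplicit false

namespace Cfsg.Agent.GlaubermanPComplement

open Subgroup GlaubermanZJ GlaubermanStable GlaubermanQuotient GlaubermanControl TransferAlperin
open Cfsg.Agent.TransferPResidual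

universe u

variable {p : ℕ}

theorem hnpc_of_normalizer_top [Fact p.Prime] {X : Type u} [Group X] [Finite X] {V : Subgroup X}
    (hV : normalizer (V : Set X) = ⊤) (h : Cfsg.HasNormalPComplement p (normalizer (V : Set X))) :
    Cfsg.HasNormalPComplement p X := by
  rw [hV] at h
  exact (hasNormalPComplement_congr topEquiv).mp h

/-- A normal `p'`-kernel does not affect normal `p`-complements. -/
theorem hnpc_of_quotient [Fact p.Prime] {X : Type u} [Group X] [Finite X] (R : Subgroup X)
    [R.Normal] (hR : ¬ p ∣ Nat.card R) (h : Cfsg.HasNormalPComplement p (X ⧸ R)) :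
    Cfsg.HasNormalPComplement p X := by
  refine hasNormalPComplement_of_normal
    (N := (Cfsg.pResidual p (X ⧸ R)).comap (QuotientGroup.mk' R)) ?_ ?_
  · obtain ⟨k, hk⟩ := index_pResidual (G := X ⧸ R) (p := p)
    refine IsPGroup.of_card (n := k) ?_
    exact (index_comap_of_surjective _ (QuotientGroup.mk'_surjective R)).trans hk
  · rw [← HallCore.card_comap_mk']
    intro hd
    rcases (Fact.out : p.Prime).dvd_mul.mp hd with h1 | h1
    · exact hasNormalPComplement_iff_not_dvd.mp h h1
    · exact hR h1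

/-- If `W D` is normal in the groups `X` with `[O^p X, O^p X] ≤ O_p X` and `C(O_p X) ≤ O_p X`, then
a normal `p`-complement of `N(W D)` gives one of the whole group. -/
theorem main [hp : Fact p.Prime] (F : Functor'.{u} p)
    (hfinal : ∀ (Y : Type u) [Group Y] [Finite Y],
      ⁅Cfsg.pResidual p Y, Cfsg.pResidual p Y⁆ ≤ Cfsg.pCore p Y →
      centralizer (Cfsg.pCore p Y : Set Y) ≤ Cfsg.pCore p Y →
      ∀ (P : Sylow p Y) (D : Subgroup Y), Cfsg.IsStronglyClosed D (P : Subgroup Y) →
        (F.W D).Normal) :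
    ∀ (n : ℕ) (X : Type u) [Group X] [Finite X], Nat.card X = n → ∀ (T : Sylow p X) (D : Subgroup X),
      Cfsg.IsStronglyClosed D (T : Subgroup X) →
      Cfsg.HasNormalPComplement p (normalizer (F.W D : Set X)) →
      Cfsg.HasNormalPComplement p X := by
  intro n
  induction n using Nat.strong_induction_on with
  | _ n ih =>
  intro X _ _ hn T D hD hT
  by_contra hX
  have hTD := le_normalizer_of_isStronglyClosed hD
  have hDp : IsPGroup p D := T.isPGroup'.to_le hD.1
  have hD0 : D ≠ ⊥ := by
    rintro rfl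
    have hW : F.W (⊥ : Subgroup X) = ⊥ := le_bot_iff.mp (F.W_le ⊥)
    exact hX (hnpc_of_normalizer_top (by rw [hW, normalizer_eq_top]) hT)
  -- proper subgroups inherit
  have hloc : ∀ H : Subgroup X, H ≠ ⊤ → ¬ p ∣ ((T : Subgroup X) ⊓ H).relIndex H →
      Cfsg.HasNormalPComplement p (normalizer (F.W (D ⊓ H) : Set X)) →
      Cfsg.HasNormalPComplement p H := by
    intro H hH hind hN
    have hR : IsPGroup p (((T : Subgroup X) ⊓ H).subgroupOf H) :=
      (T.isPGroup'.to_inf_left).comap_subtype
    set R := hR.toSylow hind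
    set D' := (D ⊓ H).subgroupOf H with hD'
    have hRmem : ∀ x : H, x ∈ (R : Subgroup H) ↔ (x : X) ∈ (T : Subgroup X) := fun x => by
      change (x : X) ∈ (T : Subgroup X) ⊓ H ↔ _
      rw [mem_inf]
      exact and_iff_left x.2
    have hsc : Cfsg.IsStronglyClosed D' (R : Subgroup H) :=
      ⟨fun x hx => (hRmem x).mpr (hD.1 (mem_subgroupOf.mp hx).1), fun x hx y hy =>
        mem_subgroupOf.mpr ⟨hD.2 x (mem_subgroupOf.mp hx).1 y ((hRmem _).mp hy),
          (y * x * y⁻¹).2⟩⟩
    refine ih _ (hn ▸ HallSolvable.card_subgroup_lt hH) H rfl R D' hsc ?_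
    have h1 := F.W_map H.subtype D' H.subtype_injective.injOn
    rw [hD', map_subgroupOf_eq_of_le (inf_le_right : D ⊓ H ≤ H)] at h1
    refine hasNormalPComplement_of_injective
      ((H.subtype.comp (Subgroup.subtype _)).codRestrict _ (fun y => ?_)) ?_ hN
    · rw [h1]
      exact le_normalizer_map H.subtype (mem_map_of_mem H.subtype y.2)
    · intro a b h
      exact Subtype.ext (Subtype.ext (congrArg Subtype.val h :))
  have hsub : ∀ Y : Subgroup X, Y ≠ ⊤ → (T : Subgroup X) ≤ Y →
      Cfsg.HasNormalPComplement p Y := by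
    intro Y hY hTY
    refine hloc Y hY (fun hd => T.not_dvd_index ?_) (by rwa [inf_eq_left.mpr (hD.1.trans hTY)])
    rw [inf_eq_left.mpr hTY] at hd
    exact hd.trans (relIndex_dvd_index_of_le hTY)
  -- `O_{p'}(X) = 1`
  haveI hRn := HallCore.pPrimeCore_normal p X
  have hR : Cfsg.pPrimeCore p X = ⊥ := by
    by_contra hne
    set π := QuotientGroup.mk' (Cfsg.pPrimeCore p X) with hπdef
    have hπ : Function.Surjective π := QuotientGroup.mk'_surjective _
    have hker : (Nat.card π.ker).Coprime p := by
      rw [hπdef, QuotientGroup.ker_mk']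
      exact HallCore.coprime_card_pPrimeCore p X
    refine hX (hnpc_of_quotient _ (HallCore.not_dvd_card_pPrimeCore p X) ?_)
    refine ih _ (hn ▸ HallSolvable.card_quotient_lt hne) _ rfl (T.mapSurjective hπ) (D.map π)
      (by rw [Sylow.coe_mapSurjective]; exact isStronglyClosed_map hπ T hD) ?_
    rw [F.W_map π D (injOn_of_coprime hDp hker)]
    refine hasNormalPComplement_of_surjective
      ((π.comp (Subgroup.subtype (normalizer (F.W D : Set X)))).codRestrict _
        (fun y => le_normalizer_map π (mem_map_of_mem π y.2))) ?_ hT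
    rintro ⟨z, hz⟩
    obtain ⟨y, rfl⟩ := hπ z
    obtain ⟨r, hr, hry⟩ := exists_mem_normalizer_lift hker (hDp.to_le (F.W_le D)) hz
    refine ⟨⟨r * y, hry⟩, Subtype.ext ?_⟩
    change π (r * y) = π y
    rw [map_mul, MonoidHom.mem_ker.mp hr, one_mul]
  -- a normal `p`-subgroup
  have hM0 : Cfsg.pCore p X ≠ ⊥ := by
    intro hbot
    have hnot : ∀ U : Subgroup X, U ≤ (T : Subgroup X) → U ≠ ⊥ →
        normalizer (U : Set X) ≠ ⊤ := by
      intro U hU hU0 h
      haveI := normalizer_eq_top_iff.mp h
      exact hU0 (le_bot_iff.mp ((HallCore.le_pCore (T.isPGroup'.to_le hU)).trans hbot.le))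
    set 𝒮 := {U : Subgroup X | U ≤ (T : Subgroup X) ∧ U ≠ ⊥ ∧
      IsFullyNormalized p (T : Subgroup X) U ∧
      ¬ Cfsg.HasNormalPComplement p (normalizer (U : Set X)) ∧
      D ⊓ normalizer (U : Set X) ≠ ⊥} with h𝒮
    have hne : 𝒮.Nonempty := by
      by_contra hno
      refine hX (hasNormalPComplement_of_local T fun U hU hfn hcen _ g hg hcop => ?_)
      by_cases hU0 : U = ⊥
      · rw [mem_centralizer_iff]
        intro t ht
        rw [hU0, SetLike.mem_coe, mem_bot] at ht
        rw [ht, one_mul, mul_one]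
      refine mem_centralizer_of_hasNormalPComplement (T.isPGroup'.to_le hU) ?_ hg hcop
      by_contra hNU
      refine hno ⟨U, hU, hU0, hfn, hNU, fun h => ?_⟩
      haveI : (D.subgroupOf (T : Subgroup X)).Normal := LocalBasics.normal_subgroupOf_of_le hTD
      have hne : D.subgroupOf (T : Subgroup X) ≠ ⊥ := fun e =>
        hD0 (by rw [← map_subgroupOf_eq_of_le hD.1, e, Subgroup.map_bot])
      refine PGroupsBasic.inf_center_ne_bot T.isPGroup' hne ((eq_bot_iff_forall _).mpr ?_)
      intro z hz
      have hzC : (z : X) ∈ (T : Subgroup X) ⊓ centralizer (U : Set X) :=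
        ⟨z.2, mem_centralizer_iff.mpr fun t ht =>
          congrArg Subtype.val (mem_center_iff.mp hz.2 ⟨t, hU ht⟩)⟩
      have hzD : (z : X) ∈ D ⊓ normalizer (U : Set X) :=
        ⟨mem_subgroupOf.mp hz.1, le_normalizer (hcen hzC)⟩
      rw [h, mem_bot] at hzD
      exact Subtype.ext hzD
    obtain ⟨U, ⟨hU, hU0, hfn, hNU, hDU⟩, hmax⟩ := Set.exists_max_image 𝒮
      (fun U => Nat.card ((T : Subgroup X) ⊓ normalizer (U : Set X) : Subgroup X))
      (Set.toFinite _) hne
    set R := (T : Subgroup X) ⊓ normalizer (U : Set X) with hRdef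
    set U2 := F.W (D ⊓ normalizer (U : Set X)) with hU2
    have hNU2 : ¬ Cfsg.HasNormalPComplement p (normalizer (U2 : Set X)) := fun h =>
      hNU (hloc _ (hnot U hU hU0) (not_dvd_relIndex_of_isFullyNormalized T hfn) h)
    have hDR : D ⊓ normalizer (U : Set X) = D ⊓ R := by
      rw [hRdef, ← inf_assoc, inf_eq_left.mpr hD.1]
    have hRT : R < (T : Subgroup X) := by
      refine lt_of_le_of_ne inf_le_left fun e => hNU2 ?_
      rw [hU2, hDR, e, inf_eq_left.mpr hD.1]
      exact hT
    have hU2p : IsPGroup p U2 := hDp.to_le ((F.W_le _).trans inf_le_left)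
    have hU20 : U2 ≠ ⊥ := F.W_ne_bot _ (hDp.to_le inf_le_left) hDU
    set PR := (T : Subgroup X) ⊓ normalizer (R : Set X)
    have hPRU : PR ≤ normalizer (U2 : Set X) := by
      rw [hU2, hDR]
      exact (LocalBasics.le_normalizer_inf (inf_le_left.trans hTD) inf_le_right).trans
        (F.normalizer_le _)
    have hlt : Nat.card R < Nat.card PR := card_lt_card_inf_normalizer T.isPGroup' hRT
    obtain ⟨a0, ha0, hfn'⟩ := exists_isFullyNormalized T hU2p
    obtain ⟨c0, hc0, hle0⟩ := hfn' (cj a0 PR) (by rw [← cj_normalizer]; exact cj_mono a0 hPRU)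
      (isPGroup_cj T.isPGroup'.to_inf_left)
    rw [← cj_mul] at hle0
    set a := c0 * a0 with ha
    have haU : cj a U2 = cj a0 U2 := by rw [ha, cj_mul, cj_eq_self hc0]
    rw [← haU] at ha0 hfn'
    set N' := normalizer ((cj a U2 : Subgroup X) : Set X) with hN'
    have hPR1 : cj a PR ≤ (T : Subgroup X) ⊓ N' :=
      le_inf hle0 (by rw [hN', ← cj_normalizer]; exact cj_mono a hPRU)
    have hmem : cj a U2 ∈ 𝒮 := by
      refine ⟨ha0, fun h => hU20 (cj_inj (g := a) (h.trans (Subgroup.map_bot _).symm)), hfn', ?_, ?_⟩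
      · intro h
        refine hNU2 (hasNormalPComplement_of_injective
          (((MulAut.conj a).toMonoidHom.comp (Subgroup.subtype _)).codRestrict N' (fun y => ?_)) ?_ h)
        · rw [hN', ← cj_normalizer]
          exact conj_mem_cj y.2
        · intro x y hxy
          exact Subtype.ext ((MulAut.conj a).injective (congrArg Subtype.val hxy :))
      · intro h
        refine hDU (cj_inj (g := a) (le_antisymm ?_ ((Subgroup.map_bot _).le.trans bot_le)))
        refine le_trans ?_ (Subgroup.map_bot _).ge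
        rw [← h, hDR]
        have haR : cj a R ≤ (T : Subgroup X) ⊓ N' :=
          (cj_mono a (le_inf inf_le_left le_normalizer)).trans hPR1
        exact le_inf (cj_inf_le hD (haR.trans inf_le_left))
          ((cj_mono a inf_le_right).trans (haR.trans inf_le_right))
    exact absurd (hmax _ hmem) (not_le.mpr
      (hlt.trans_le ((card_cj a PR).symm.le.trans (card_le_of_le hPR1))))
  haveI hMn := HallCore.pCore_normal p X
  set M := Cfsg.pCore p X with hMdef
  have hMp : IsPGroup p M := HallCore.isPGroup_pCore p X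
  have hMT : M ≤ (T : Subgroup X) := HallCore.pCore_le_sylow T
  have hDM : ¬ D ≤ M := by
    intro h
    have hDn : D.Normal := ⟨fun d hd y => hD.2 d hd y (hMT (hMn.conj_mem d (h hd) y))⟩
    exact hX (hnpc_of_normalizer_top
      (top_le_iff.mp ((normalizer_eq_top_iff.mpr hDn).ge.trans (F.normalizer_le D))) hT)
  -- the quotient by `M` has a normal `p`-complement
  let π := QuotientGroup.mk' M
  have hπ : Function.Surjective π := QuotientGroup.mk'_surjective M
  have hbar : Cfsg.HasNormalPComplement p (X ⧸ M) := by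
    have hsc : Cfsg.IsStronglyClosed (D.map π) ((T.mapSurjective hπ : Sylow p (X ⧸ M)) : Subgroup (X ⧸ M)) := by
      rw [Sylow.coe_mapSurjective]
      refine ⟨map_mono hD.1, ?_⟩
      rintro _ ⟨d, hd, rfl⟩ z hz
      obtain ⟨y, rfl⟩ := hπ z
      rw [← map_inv, ← map_mul, ← map_mul] at hz ⊢
      obtain ⟨x, hx, hxe⟩ := hz
      obtain ⟨q, hq, hqe⟩ := (QuotientGroup.mk'_eq_mk' M).mp hxe
      exact ⟨_, hD.2 d hd y (hqe ▸ mul_mem hx (hMT hq)), rfl⟩
    refine ih _ (hn ▸ HallSolvable.card_quotient_lt hM0) _ rfl (T.mapSurjective hπ) (D.map π) hsc ?_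
    set A := F.W (D.map π) with hA
    have hA0 : A ≠ ⊥ := F.W_ne_bot _ (hDp.map π) (by
      rw [Ne, Subgroup.map_eq_bot_iff, QuotientGroup.ker_mk']
      exact hDM)
    have hcomap : (normalizer (A : Set (X ⧸ M))).comap π =
        normalizer ((A.comap π : Subgroup X) : Set X) := comap_normalizer_eq_of_surjective A hπ
    have hTle : (T : Subgroup X) ≤ normalizer ((A.comap π : Subgroup X) : Set X) := by
      rw [← hcomap, ← map_le_iff_le_comap, ← Sylow.coe_mapSurjective hπ]
      exact (le_normalizer_of_isStronglyClosed hsc).trans (F.normalizer_le _)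
    have hproper : normalizer ((A.comap π : Subgroup X) : Set X) ≠ ⊤ := by
      intro h
      have hp' : IsPGroup p (A.comap π : Subgroup X) :=
        HallCore.isPGroup_comap_mk' hMp ((hDp.map π).to_le (F.W_le _))
      haveI := normalizer_eq_top_iff.mp h
      have h1 : A.comap π ≤ M := HallCore.le_pCore hp'
      refine hA0 (le_bot_iff.mp ?_)
      rw [← map_comap_eq_self_of_surjective hπ A]
      refine (map_mono h1).trans (le_of_eq ?_)
      rw [Subgroup.map_eq_bot_iff, QuotientGroup.ker_mk']
    refine hasNormalPComplement_of_surjective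
      ((π.comp (Subgroup.subtype (normalizer ((A.comap π : Subgroup X) : Set X)))).codRestrict
        (normalizer (A : Set (X ⧸ M))) (fun y => by
          exact (SetLike.ext_iff.mp hcomap _).mpr y.2)) ?_ (hsub _ hproper hTle)
    rintro ⟨z, hz⟩
    obtain ⟨y, rfl⟩ := hπ z
    exact ⟨⟨y, hcomap ▸ (show y ∈ (normalizer (A : Set (X ⧸ M))).comap π from hz)⟩, rfl⟩
  set K := Cfsg.pResidual p (X ⧸ M) with hK
  have hKp : ¬ p ∣ Nat.card K := hasNormalPComplement_iff_not_dvd.mp hbar
  -- `C(M) ≤ M`
  have hC : centralizer (M : Set X) ≤ M := by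
    refine HallSolvable.centralizer_pCore_le ?_ hR
    refine ⟨3, ![⊥, M, K.comap π, ⊤], rfl, rfl, ?_, ?_, ?_⟩
    · refine Fin.monotone_iff_le_succ.mpr fun i => ?_
      fin_cases i
      · exact bot_le
      · exact QuotientGroup.le_comap_mk' M K
      · exact le_top
    · intro i
      fin_cases i
      · exact (inferInstance : (⊥ : Subgroup X).Normal)
      · exact hMn
      · exact Normal.comap inferInstance π
      · exact (inferInstance : (⊤ : Subgroup X).Normal)
    · intro i
      fin_cases i
      · left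
        obtain ⟨m, hm⟩ := IsPGroup.iff_card.mp hMp
        exact ⟨m, (relIndex_bot_left M).trans hm⟩
      · right
        change (M.relIndex (K.comap π)).Coprime p
        have h1 : M.relIndex (K.comap π) = Nat.card K := by
          have h2 := relIndex_ker (K.comap π) π
          rwa [QuotientGroup.ker_mk', map_comap_eq_self_of_surjective hπ] at h2
        rw [h1]
        exact ((Nat.Prime.coprime_iff_not_dvd hp.out).mpr hKp).symm
      · left
        obtain ⟨m, hm⟩ := index_pResidual (G := X ⧸ M) (p := p)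
        exact ⟨m, (relIndex_top_right _).trans ((index_comap_of_surjective _ hπ).trans hm)⟩
  -- invariant subgroups of `K` are trivial
  set Tb := (T : Subgroup X).map π with hTb
  have hTbp : IsPGroup p Tb := T.isPGroup'.map π
  have hcopT : (Nat.card Tb).Coprime (Nat.card K) := by
    obtain ⟨k, hk⟩ := IsPGroup.iff_card.mp hTbp
    rw [hk]
    exact ((Nat.Prime.coprime_iff_not_dvd hp.out).mpr hKp).pow_left k
  have hmin : ∀ L : Subgroup (X ⧸ M), L ≤ K → Tb ≤ normalizer (L : Set (X ⧸ M)) → L = ⊥ ∨ L = K := by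
    intro L hL hLn
    rcases eq_or_lt_of_le hL with h | h
    · exact Or.inr h
    left
    set X1 := (L ⊔ Tb).comap π with hX1
    have hTX1 : (T : Subgroup X) ≤ X1 := fun x hx => mem_sup_right (mem_map_of_mem π hx)
    have hX1ne : X1 ≠ ⊤ := by
      intro he
      have h1 : L ⊔ Tb = ⊤ := by
        rw [← map_comap_eq_self_of_surjective hπ (L ⊔ Tb), ← hX1, he,
          map_top_of_surjective π hπ]
      refine h.ne (le_antisymm hL fun k hk => ?_)
      have h2 : k ∈ L ⊔ Tb := h1 ▸ mem_top k
      rw [← SetLike.mem_coe, coe_mul_of_right_le_normalizer_left L Tb hLn] at h2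
      obtain ⟨l, hl, t, ht, rfl⟩ := h2
      have ht' : t ∈ K ⊓ Tb := ⟨by
        have := mul_mem (inv_mem (hL hl)) hk
        simpa using this, ht⟩
      rw [(disjoint_of_coprime_natCard hcopT.symm).eq_bot, mem_bot] at ht'
      simpa [ht'] using hl
    have hX1c := hsub X1 hX1ne hTX1
    haveI : (M.subgroupOf X1).Normal := normal_subgroupOf
    have h3 : (Cfsg.pResidual p X1).map X1.subtype ≤ M := by
      refine le_trans ?_ hC
      rintro _ ⟨x, hx, rfl⟩
      rw [mem_centralizer_iff]
      intro m hm
      have hm' : m ∈ X1 := QuotientGroup.le_comap_mk' M (L ⊔ Tb) hm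
      exact congrArg Subtype.val (mem_centralizer_iff.mp
        (le_centralizer_of_normal_pGroup hX1c (Q := M.subgroupOf X1) hMp.comap_subtype hx)
        ⟨m, hm'⟩ (mem_subgroupOf.mpr hm))
    have h5 : Cfsg.pResidual p X1 = ⊥ := by
      have h6 := hasNormalPComplement_iff_not_dvd.mp hX1c
      refine card_eq_one.mp ?_
      rcases ((hMp.to_le h3)).card_eq_or_dvd with h7 | h7
      · rwa [card_map_of_injective X1.subtype_injective] at h7
      · rw [card_map_of_injective X1.subtype_injective] at h7
        exact absurd h7 h6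
    have h8 : IsPGroup p (L ⊔ Tb : Subgroup (X ⧸ M)) := by
      have := (pResidual_eq_bot_iff.mp h5).map π
      rwa [map_comap_eq_self_of_surjective hπ] at this
    rcases (h8.to_le (le_sup_left : L ≤ L ⊔ Tb)).card_eq_or_dvd with h9 | h9
    · exact card_eq_one.mp h9
    · exact absurd (h9.trans (card_dvd_of_le hL)) hKp
  have hK0 : K ≠ ⊥ := by
    intro h
    have h1 : IsPGroup p X := fun x => by
      obtain ⟨i, hi⟩ := pResidual_eq_bot_iff.mp h (π x)
      obtain ⟨j, hj⟩ := hMp ⟨x ^ p ^ i, (QuotientGroup.eq_one_iff _).mp ((map_pow π x _).trans hi)⟩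
      exact ⟨i + j, by rw [pow_add, pow_mul]; exact congrArg Subtype.val hj⟩
    exact hX (hasNormalPComplement_of_isPGroup h1)
  -- `K` is abelian
  have hTK : Tb ≤ normalizer (K : Set (X ⧸ M)) := le_normalizer_of_normal
  have hcomm : ⁅K, K⁆ = ⊥ := by
    have hq := Nat.minFac_prime (fun h => hK0 (card_eq_one.mp h) : Nat.card K ≠ 1)
    haveI : Fact (Nat.card K).minFac.Prime := ⟨hq⟩
    obtain ⟨P, hP⟩ := CoprimeAction.exists_invariant_sylow hTK hcopT
      (Or.inl (by haveI := hTbp.isNilpotent; infer_instance)) (Nat.card K).minFac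
    rcases hmin _ (map_subtype_le _) hP with h | h
    · exact absurd ((map_eq_bot_iff_of_injective _ K.subtype_injective).mp h)
        (P.ne_bot_of_dvd_card (Nat.minFac_dvd _))
    · have hnil : Group.IsNilpotent K := by
        have htop : (P : Subgroup K) = ⊤ := by
          apply map_injective K.subtype_injective
          rw [h, ← MonoidHom.range_eq_map, range_subtype]
        have h2 := P.isPGroup'
        rw [htop] at h2
        exact (h2.of_equiv topEquiv).isNilpotent
      have hinv : Tb ≤ normalizer ((⁅K, K⁆ : Subgroup (X ⧸ M)) : Set (X ⧸ M)) := le_normalizer_of_normal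
      rcases hmin _ (commutator_le_self K) hinv with h2 | h2
      · exact h2
      · exfalso
        obtain ⟨m, hm⟩ : ∃ m, K.lowerCentralSeries m = ⊥ :=
          (Subgroup.isNilpotent_iff_lowerCentralSeries K).mp hnil
        have : ∀ i, K.lowerCentralSeries i = K := by
          intro i
          induction i with
          | zero => exact Subgroup.lowerCentralSeries_zero _
          | succ i ihi => rw [Subgroup.lowerCentralSeries_succ, ihi, h2]
        exact hK0 ((this m).symm.trans hm)
  have hhyp : ⁅Cfsg.pResidual p X, Cfsg.pResidual p X⁆ ≤ Cfsg.pCore p X := by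
    rw [← hMdef, ← QuotientGroup.ker_mk' M, ← Subgroup.map_eq_bot_iff, map_commutator,
      map_pResidual_eq_of_surjective π hπ]
    exact hcomm
  have := hfinal X hhyp hC T D hD
  exact hX (hnpc_of_normalizer_top (normalizer_eq_top_iff.mpr this) hT)

end Cfsg.Agent.GlaubermanPComplement

namespace Cfsg.Agent.GlaubermanPComplement

open Subgroup GlaubermanZJ GlaubermanControl

universe u

theorem final_thomY {p n : ℕ} [hp : Fact p.Prime] (hp2 : p ≠ 2) (hn : n = 0 ∨ n = p)
    (Y : Type u) [Group Y] [Finite Y]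
    (hhyp : ⁅Cfsg.pResidual p Y, Cfsg.pResidual p Y⁆ ≤ Cfsg.pCore p Y)
    (hC : centralizer (Cfsg.pCore p Y : Set Y) ≤ Cfsg.pCore p Y)
    (P : Sylow p Y) (D : Subgroup Y) (hD : Cfsg.IsStronglyClosed D (P : Subgroup Y)) :
    (thomY n D).Normal :=
  thomY_normal hp2 hn (fun B _ hB => isPStableOn_of_isNormalizerPStable
    (TransferQuadratic.isNormalizerPStable_of_hyp p hp2 hhyp) B hB) hC P D hD

theorem hnpc_thomY_zero {p : ℕ} [hp : Fact p.Prime] (hp2 : p ≠ 2) {G : Type u} [Group G] [Finite G]
    (P : Sylow p G) (D : Subgroup G) (hD : Cfsg.IsStronglyClosed D (P : Subgroup G))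
    (h : Cfsg.HasNormalPComplement p (normalizer (thomY 0 D : Set G))) :
    Cfsg.HasNormalPComplement p G :=
  main (yZero p) (fun Y _ _ h1 h2 P D hD => final_thomY hp2 (Or.inl rfl) Y h1 h2 P D hD)
    _ G rfl P D hD h

theorem hnpc_thomY_prime {p : ℕ} [hp : Fact p.Prime] (hp2 : p ≠ 2) {G : Type u} [Group G] [Finite G]
    (P : Sylow p G) (D : Subgroup G) (hD : Cfsg.IsStronglyClosed D (P : Subgroup G))
    (h : Cfsg.HasNormalPComplement p (normalizer (thomY p D : Set G))) :
    Cfsg.HasNormalPComplement p G :=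
  main (yPrime p) (fun Y _ _ h1 h2 P D hD => final_thomY hp2 (Or.inr rfl) Y h1 h2 P D hD)
    _ G rfl P D hD h

theorem hnpc_omega {p : ℕ} [hp : Fact p.Prime] (hp2 : p ≠ 2) {G : Type u} [Group G] [Finite G]
    (P : Sylow p G) (D : Subgroup G) (hD : Cfsg.IsStronglyClosed D (P : Subgroup G))
    (h : Cfsg.HasNormalPComplement p (normalizer (Cfsg.omegaOne p (thomY p D) : Set G))) :
    Cfsg.HasNormalPComplement p G :=
  main (omegaPrime p) (fun Y _ _ h1 h2 P D hD => by
    have h := final_thomY (n := p) hp2 (Or.inr rfl) Y h1 h2 P D hD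
    refine normalizer_eq_top_iff.mp (top_le_iff.mp ?_)
    exact (normalizer_eq_top_iff.mpr h).ge.trans (normalizer_le_omegaOne p _)) _ G rfl P D hD h

end Cfsg.Agent.GlaubermanPComplement
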