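import Mathlib
import Cfsg.Agent.S3347
import Cfsg.Agent.S0117
import Cfsg.Agent.Lib.SelfCentNineReduce64

/-!
# S3339: centralisers of elements of order three, without the model

Transfer off a central element of order three, and the three kinds of centralisers that occur in the
`3`-local characterisation of the alternating group of degree nine.
-/

set_option autoImplicit false
set_option linter.style.haveILetI false

namespace Cfsg.Agent.A9Local55

open Cfsg

variable {X : Type*} [Group X]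

theorem pow_three_cases {z : X} (hz : z ^ 3 = 1) {y : X} (hy : y ∈ Subgroup.zpowers z) :
    ∃ k : ℕ, k < 3 ∧ z ^ k = y := by
  obtain ⟨i, rfl⟩ := Subgroup.mem_zpowers_iff.1 hy
  refine ⟨(i % 3).toNat, by omega, ?_⟩
  rw [← zpow_natCast, Int.toNat_of_nonneg (Int.emod_nonneg _ (by norm_num))]
  conv_rhs => rw [← Int.emod_add_mul_ediv i 3, zpow_add, zpow_mul,
    show z ^ (3 : ℤ) = 1 by rw [show (3 : ℤ) = ((3 : ℕ) : ℤ) from rfl, zpow_natCast, hz], one_zpow, mul_one]

theorem orderOf_three {z : X} (hz : z ^ 3 = 1) (hz1 : z ≠ 1) : orderOf z = 3 :=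
  haveI : Fact (Nat.Prime 3) := ⟨Nat.prime_three⟩
  orderOf_eq_prime hz hz1

/-- A subgroup avoiding a central element of order three and covering modulo it. -/
structure Cpl (X0 : Subgroup X) (z : X) : Prop where
  normal : X0.Normal
  three : z ^ 3 = 1
  notMem : z ∉ X0
  central : ∀ g, z * g = g * z
  cover : ∀ g, ∃ k : ℕ, g * z ^ k ∈ X0

namespace Cpl

variable {X0 : Subgroup X} {z : X}

theorem inf_zpowers (h : Cpl X0 z) {y : X} (hy : y ∈ Subgroup.zpowers z) (hy0 : y ∈ X0) : y = 1 := by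
  obtain ⟨k, hk, rfl⟩ := pow_three_cases h.three hy
  interval_cases k
  · exact pow_zero z
  · exact absurd (by simpa using hy0) h.notMem
  · refine absurd ?_ h.notMem
    have e : z = (z ^ 2)⁻¹ := eq_inv_of_mul_eq_one_left (by rw [← pow_succ']; exact h.three)
    rw [e]
    exact X0.inv_mem hy0

theorem card_quotient (h : Cpl X0 z) : X0.index = 3 := by
  haveI := h.normal
  have hord : orderOf (QuotientGroup.mk z : X ⧸ X0) = 3 := orderOf_three
    (by rw [← QuotientGroup.mk_pow, h.three, QuotientGroup.mk_one])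
    (fun e => h.notMem ((QuotientGroup.eq_one_iff z).1 e))
  have htop : Subgroup.zpowers (QuotientGroup.mk z : X ⧸ X0) = ⊤ := by
    rw [eq_top_iff]
    intro c _
    obtain ⟨g, rfl⟩ := QuotientGroup.mk_surjective c
    obtain ⟨k, hk⟩ := h.cover g
    have e : (QuotientGroup.mk g : X ⧸ X0) = ((QuotientGroup.mk z : X ⧸ X0) ^ k)⁻¹ := by
      rw [eq_inv_iff_mul_eq_one, ← QuotientGroup.mk_pow, ← QuotientGroup.mk_mul, QuotientGroup.eq_one_iff]
      exact hk
    rw [e]
    exact Subgroup.inv_mem _ (Subgroup.pow_mem _ (Subgroup.mem_zpowers _) k)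
  rw [Subgroup.index_eq_card, ← Subgroup.card_top, ← htop, Nat.card_zpowers, hord]

theorem relIndex_of_mem (h : Cpl X0 z) {K : Subgroup X} (hzK : z ∈ K) :
    Nat.card K = 3 * Nat.card (K ⊓ X0 : Subgroup X) := by
  haveI := h.normal
  let f : K →* X ⧸ X0 := (QuotientGroup.mk' X0).comp K.subtype
  have hf : Function.Surjective f := by
    intro c
    obtain ⟨g, rfl⟩ := QuotientGroup.mk_surjective c
    obtain ⟨k, hk⟩ := h.cover g
    refine ⟨⟨(z ^ k)⁻¹, K.inv_mem (K.pow_mem hzK k)⟩, ?_⟩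
    show (QuotientGroup.mk ((z ^ k)⁻¹) : X ⧸ X0) = QuotientGroup.mk g
    rw [QuotientGroup.eq, inv_inv, ← (Commute.pow_left (h.central g) k).eq.symm]
    exact hk
  have e := f.ker.card_eq_card_quotient_mul_card_subgroup
  rw [Nat.card_congr (QuotientGroup.quotientKerEquivOfSurjective f hf).toEquiv, ← Subgroup.index_eq_card,
    h.card_quotient] at e
  rw [e]
  congr 1
  have hk : f.ker = (K ⊓ X0).subgroupOf K := by
    ext y
    rw [MonoidHom.mem_ker, Subgroup.mem_subgroupOf, Subgroup.mem_inf]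
    show (QuotientGroup.mk (y : X) : X ⧸ X0) = 1 ↔ _
    rw [QuotientGroup.eq_one_iff]
    exact ⟨fun hy => ⟨y.2, hy⟩, fun hy => hy.2⟩
  rw [hk]
  exact Nat.card_congr (Subgroup.subgroupOfEquivOfLe inf_le_left).toEquiv

theorem normalizer_le (h : Cpl X0 z) {J : Subgroup X} (hzJ : z ∈ J) {n : X} (hn : n ∈ X0)
    (hnJ : ∀ j ∈ J, j ∈ X0 → n * j * n⁻¹ ∈ J) : ∀ j ∈ J, n * j * n⁻¹ ∈ J := by
  intro j hj
  obtain ⟨k, hk⟩ := h.cover j
  have hz : z ^ k ∈ J := J.pow_mem hzJ k
  have h1 := hnJ _ (J.mul_mem hj hz) hk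
  have e : n * (z ^ k) * n⁻¹ = z ^ k := by
    rw [← (Commute.pow_left (h.central n) k).eq, mul_inv_cancel_right]
  have e2 : n * j * n⁻¹ = n * (j * z ^ k) * n⁻¹ * (n * (z ^ k) * n⁻¹)⁻¹ := by group
  rw [e2, e]
  exact J.mul_mem h1 (J.inv_mem hz)

end Cpl

theorem not_dvd_index_inf {X0 J : Subgroup X} [Finite X] {z : X} (h : Cpl X0 z) (hzJ : z ∈ J)
    (hJ : ¬ 3 ∣ J.index) : ¬ 3 ∣ (J.subgroupOf X0).index := by
  intro hd
  apply hJ
  have h1 : (J.subgroupOf X0).index * Nat.card (J ⊓ X0 : Subgroup X) = Nat.card X0 := by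
    rw [← (J.subgroupOf X0).index_mul_card]
    congr 1
    rw [← Subgroup.inf_subgroupOf_right J X0]
    exact (Nat.card_congr (Subgroup.subgroupOfEquivOfLe inf_le_right).toEquiv).symm
  have h2 := J.index_mul_card
  have h3 := X0.index_mul_card
  rw [h.card_quotient, ← h1] at h3
  rw [h.relIndex_of_mem hzJ] at h2
  have hpos : 0 < 3 * Nat.card (J ⊓ X0 : Subgroup X) := Nat.mul_pos (by norm_num) Nat.card_pos
  have : J.index = (J.subgroupOf X0).index := by
    refine Nat.eq_of_mul_eq_mul_right hpos ?_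
    rw [h2, ← h3]; ring
  rwa [this]

/-- Transfer into an abelian Sylow subgroup splits off a central element of order three. -/
theorem exists_cpl [Finite X] (J A : Subgroup X) (hJc : ∀ a ∈ J, ∀ b ∈ J, a * b = b * a)
    (hJ : ¬ 3 ∣ J.index) {z : X} (hzJ : z ∈ J) (hz : z ^ 3 = 1) (hzc : ∀ g, z * g = g * z)
    (hzA : z ∉ A) (hA : ∀ j ∈ J, ∃ k : ℕ, j * z ^ k ∈ A) :
    ∃ X0 : Subgroup X, Cpl X0 z := by
  haveI : IsMulCommutative J := ⟨⟨fun a b => Subtype.ext (hJc a a.2 b b.2)⟩⟩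
  open scoped IsMulCommutative in
  let T : X →* J := MonoidHom.transfer (MonoidHom.id J)
  have hT : ((T z : J) : X) = z ^ J.index := by
    open scoped IsMulCommutative in
    show (((MonoidHom.transfer (MonoidHom.id J)) z : J) : X) = _
    rw [MonoidHom.transfer_eq_pow (MonoidHom.id J) z fun k g₀ _ => by
      rw [mul_assoc, (Commute.pow_left (hzc g₀) k).eq, inv_mul_cancel_left]]
    rfl
  have hcop : J.index.Coprime (orderOf z) :=
    ((Nat.prime_three.coprime_iff_not_dvd.2 hJ).symm).coprime_dvd_right (orderOf_dvd_of_pow_eq_one hz)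
  obtain ⟨m, hm⟩ := exists_pow_eq_self_of_coprime hcop
  let X0 : Subgroup X := A.comap (J.subtype.comp T)
  have hmem : ∀ g, g ∈ X0 ↔ ((T g : J) : X) ∈ A := fun g => Iff.rfl
  refine ⟨X0, ⟨⟨fun a ha g => ?_⟩, hz, fun h0 => hzA ?_, hzc, fun g => ?_⟩⟩
  · rw [hmem] at ha ⊢
    rw [map_mul, map_mul, map_inv, Subgroup.coe_mul, Subgroup.coe_mul, Subgroup.coe_inv,
      hJc _ (T g).2 _ (T a).2, mul_inv_cancel_right]
    exact ha
  · rw [hmem, hT] at h0
    rw [← hm]
    exact A.pow_mem h0 m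
  · obtain ⟨k, hk⟩ := hA _ (T g).2
    refine ⟨m * k, ?_⟩
    rw [hmem, map_mul, map_pow, Subgroup.coe_mul, Subgroup.coe_pow, hT, ← pow_mul,
      show J.index * (m * k) = J.index * m * k by ring, pow_mul, pow_mul z J.index m, hm]
    exact hk

/-- A normal subgroup of `X` inherits a trivial `3'`-core. -/
theorem core_bot [Finite X] (X0 : Subgroup X) [X0.Normal] (h : pPrimeCore 3 X = ⊥) :
    pPrimeCore 3 X0 = ⊥ := by
  have e := HallCore.map_subtype_pPrimeCore (p := 3) X0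
  rw [h, bot_inf_eq] at e
  exact (Subgroup.map_eq_bot_iff_of_injective _ X0.subtype_injective).1 e

/-- If the centraliser of `A` normalises its Sylow subgroup `J`, so does the normaliser of `A`. -/
theorem mem_normalizer_of_cent [Finite X] {A J : Subgroup X} (hJA : J ≤ Subgroup.centralizer (A : Set X))
    (hCA : Subgroup.centralizer (A : Set X) ≤ Subgroup.normalizer (J : Set X)) (hJp : IsPGroup 3 J)
    (hmax : ∀ R : Subgroup X, R ≤ Subgroup.centralizer (A : Set X) → IsPGroup 3 R →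
      Nat.card R ≤ Nat.card J)
    {g : X} (hg : g ∈ Subgroup.normalizer (A : Set X)) : g ∈ Subgroup.normalizer (J : Set X) := by
  set R := J.map (MulAut.conj g).toMonoidHom with hR
  have hRC : R ≤ Subgroup.centralizer (A : Set X) := by
    rintro _ ⟨j, hj, rfl⟩
    refine Subgroup.mem_centralizer_iff.2 fun a ha => ?_
    have ha' : g⁻¹ * a * g ∈ A := by
      have := (Subgroup.mem_normalizer_iff.1 (inv_mem hg) a).1 ha
      simpa using this
    have := Subgroup.mem_centralizer_iff.1 (hJA hj) _ ha'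
    show a * (g * j * g⁻¹) = g * j * g⁻¹ * a
    calc a * (g * j * g⁻¹) = g * (g⁻¹ * a * g * j) * g⁻¹ := by group
      _ = g * (j * (g⁻¹ * a * g)) * g⁻¹ := by rw [this]
      _ = _ := by group
  have hRp : IsPGroup 3 R := hJp.map _
  have hsup : IsPGroup 3 (R ⊔ J : Subgroup X) :=
    hRp.to_sup_of_normal_right' hJp (hRC.trans hCA)
  have h1 := hmax _ (sup_le hRC hJA) hsup
  have hJeq : J = R ⊔ J := Subgroup.eq_of_le_of_card_ge le_sup_right h1
  have hRJ : R ≤ J := le_sup_left.trans hJeq.ge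
  have heq : R = J := Subgroup.eq_of_le_of_card_ge hRJ (by
    rw [hR, ← Nat.card_congr (J.equivMapOfInjective _ (MulAut.conj g).injective).toEquiv])
  refine Subgroup.mem_normalizer_iff.2 fun h => ⟨fun hh => heq ▸ ⟨h, hh, rfl⟩, fun hh => ?_⟩
  rw [← heq] at hh
  obtain ⟨j, hj, e⟩ := hh
  have e' : g * j * g⁻¹ = g * h * g⁻¹ := e
  rwa [← mul_left_cancel (mul_right_cancel e')]

/-- The centraliser of an element of weight two: its Sylow subgroup is normal. -/
theorem normal_of_inertia_two [Finite X] (J : Subgroup X) (hJc : ∀ a ∈ J, ∀ b ∈ J, a * b = b * a)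
    (hJe : ∀ a ∈ J, a ^ 3 = 1) (hJ : Nat.card J = 27) (hJi : ¬ 3 ∣ J.index)
    {w : X} (hwJ : w ∈ J) (hw : w ≠ 1) (hwc : ∀ g, w * g = g * w)
    (A : Subgroup X) (hwA : w ∉ A) (hA : ∀ j ∈ J, ∃ k : ℕ, j * w ^ k ∈ A)
    {τ : X} (hτ : τ ∈ Subgroup.normalizer (J : Set X))
    (hinv : ∀ j ∈ J, τ * j * τ⁻¹ * j ∈ Subgroup.zpowers w)
    (hN : ∀ n ∈ Subgroup.normalizer (J : Set X), n ∈ J ∨ n * τ ∈ J)
    (hcore : pPrimeCore 3 X = ⊥) : J.Normal := by
  classical
  haveI : Fact (Nat.Prime 3) := ⟨Nat.prime_three⟩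
  obtain ⟨X0, hX⟩ := exists_cpl J A hJc hJi hwJ (hJe w hwJ) hwc hwA hA
  haveI := hX.normal
  haveI : Fintype X0 := Fintype.ofFinite X0
  have hc0 : Nat.card (J ⊓ X0 : Subgroup X) = 9 := by
    have := hX.relIndex_of_mem hwJ
    omega
  have hc : Nat.card (J.subgroupOf X0) = 3 ^ 2 := by
    rw [← Subgroup.inf_subgroupOf_right J X0,
      Nat.card_congr (Subgroup.subgroupOfEquivOfLe inf_le_right).toEquiv, hc0]
    norm_num
  let P : Sylow 3 X0 := (IsPGroup.of_card hc).toSylow (not_dvd_index_inf hX hwJ hJi)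
  have hP : (P : Subgroup X0) = J.subgroupOf X0 := rfl
  obtain ⟨k, hk⟩ := hX.cover τ
  have hconj : ∀ y : X, τ * w ^ k * y * (τ * w ^ k)⁻¹ = τ * y * τ⁻¹ := fun y => by
    rw [mul_assoc τ, (Commute.pow_left (hwc y) k).eq, ← mul_assoc τ, mul_inv_rev]
    group
  have hJ0 : ∀ x : X0, x ∈ (P : Subgroup X0) ↔ (x : X) ∈ J := fun x => Iff.rfl
  have hnorm : ∀ n : X0, n ∈ Subgroup.normalizer ((P : Subgroup X0) : Set X0) →
      (n : X) ∈ Subgroup.normalizer (J : Set X) := by
    intro n hn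
    have key : ∀ m : X0, m ∈ Subgroup.normalizer ((P : Subgroup X0) : Set X0) →
        ∀ j ∈ J, (m : X) * j * (m : X)⁻¹ ∈ J := fun m hm =>
      hX.normalizer_le hwJ m.2 fun j hj hj0 =>
        (hJ0 _).1 ((Subgroup.mem_normalizer_iff.1 hm ⟨j, hj0⟩).1 hj)
    refine Subgroup.mem_normalizer_iff.2 fun y => ⟨key n hn y, fun hy => ?_⟩
    have := key n⁻¹ (inv_mem hn) _ hy
    simpa [mul_assoc] using this
  have hcent : ∀ c : X0, (c : X) ∈ J → c ∈ Subgroup.centralizer ((P : Subgroup X0) : Set X0) :=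
    fun c hc => Subgroup.mem_centralizer_iff.2 fun x hx => Subtype.ext (hJc _ ((hJ0 x).1 hx) _ hc)
  have hsetup : Cfsg.Agent.InertiaTwo65.Setup 3 P := by
    refine ⟨by norm_num, ⟨⟨fun a b => Subtype.ext (Subtype.ext
      (hJc _ ((hJ0 _).1 a.2) _ ((hJ0 _).1 b.2)))⟩⟩, fun hcyc => ?_, ⟨τ * w ^ k, hk⟩, ?_, ?_, ?_⟩
    · obtain ⟨g, hg⟩ := hcyc.exists_ofOrder_eq_natCard
      have h3 : g ^ 3 = 1 := Subtype.ext (Subtype.ext (hJe _ ((hJ0 _).1 g.2)))
      have := Nat.le_of_dvd (by norm_num) (orderOf_dvd_of_pow_eq_one h3)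
      rw [hg, hP, hc] at this
      norm_num at this
    · refine Subgroup.mem_normalizer_iff.2 fun x => ?_
      rw [hJ0, hJ0, Subgroup.coe_mul, Subgroup.coe_mul, Subgroup.coe_inv, hconj]
      exact Subgroup.mem_normalizer_iff.1 hτ _
    · intro x hx
      refine Subtype.ext ?_
      rw [Subgroup.coe_mul, Subgroup.coe_mul, Subgroup.coe_inv, hconj]
      refine eq_inv_of_mul_eq_one_left ?_
      exact hX.inf_zpowers (hinv _ ((hJ0 x).1 hx)) (X0.mul_mem (hX.normal.conj_mem _ x.2 τ) x.2)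
    · intro n hn
      rcases hN _ (hnorm n hn) with h | h
      · exact Or.inl (hcent n h)
      · refine Or.inr (hcent _ ?_)
        show (n : X) * (τ * w ^ k) ∈ J
        rw [← mul_assoc]
        exact J.mul_mem h (J.pow_mem hwJ k)
  have hnP := S3347.normal_of_setup hsetup (core_bot X0 hcore)
  refine ⟨fun j hj g => ?_⟩
  obtain ⟨i, hi⟩ := hX.cover g
  have e : g * j * g⁻¹ = g * w ^ i * j * (g * w ^ i)⁻¹ := by
    rw [mul_assoc g (w ^ i) j, (Commute.pow_left (hwc j) i).eq]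
    group
  rw [e]
  refine hX.normalizer_le hwJ hi (fun y hy hy0 => ?_) j hj
  exact (hJ0 _).1 (hnP.conj_mem ⟨y, hy0⟩ hy ⟨_, hi⟩)

open Cfsg.Agent.SelfCentNineLoc64 Cfsg.Agent.SelfCentNineReduce64 in
/-- The centraliser of an element of weight one: `3 × A₆`, or the Sylow subgroup is normal. -/
theorem normal_or_alt_six [Finite X] (J : Subgroup X) (hJc : ∀ a ∈ J, ∀ b ∈ J, a * b = b * a)
    (hJe : ∀ a ∈ J, a ^ 3 = 1) (hJ : Nat.card J = 27) (hJi : ¬ 3 ∣ J.index)
    (hJC : Subgroup.centralizer (J : Set X) ≤ J)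
    {z : X} (hzJ : z ∈ J) (hz : z ≠ 1) (hzc : ∀ g, z * g = g * z)
    (A : Subgroup X) (hzA : z ∉ A) (hA : ∀ j ∈ J, ∃ k : ℕ, j * z ^ k ∈ A)
    (hN : Nat.card (Subgroup.normalizer (J : Set X)) = 108)
    (hplane : ∀ s ∈ J, s ∉ Subgroup.zpowers z → ∀ g : X, g * s = s * g →
      g ∈ Subgroup.normalizer (J : Set X)) :
    J.Normal ∨ ∃ X0 : Subgroup X, Cpl X0 z ∧ Nat.card X0 = 360 ∧
      Nonempty (X0 ≃* alternatingGroup (Fin 6)) := by
  classical
  haveI : Fact (Nat.Prime 3) := ⟨Nat.prime_three⟩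
  obtain ⟨X0, hX⟩ := exists_cpl J A hJc hJi hzJ (hJe z hzJ) hzc hzA hA
  haveI := hX.normal
  haveI : Fintype X0 := Fintype.ofFinite X0
  set S := J.subgroupOf X0 with hS
  have hc : Nat.card S = 9 := by
    rw [hS, ← Subgroup.inf_subgroupOf_right J X0,
      Nat.card_congr (Subgroup.subgroupOfEquivOfLe inf_le_right).toEquiv]
    have := hX.relIndex_of_mem hzJ
    omega
  let P : Sylow 3 X0 := (IsPGroup.of_card (n := 2) (by rw [hc]; norm_num)).toSylow
    (not_dvd_index_inf hX hzJ hJi)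
  have hP : S = (P : Subgroup X0) := rfl
  have hnn : ∀ n : X0, n ∈ Subgroup.normalizer (S : Set X0) ↔ (n : X) ∈ Subgroup.normalizer (J : Set X) := by
    intro n
    constructor
    · intro hn
      have key : ∀ m : X0, m ∈ Subgroup.normalizer (S : Set X0) →
          ∀ j ∈ J, (m : X) * j * (m : X)⁻¹ ∈ J := fun m hm =>
        hX.normalizer_le hzJ m.2 fun j hj hj0 =>
          ((Subgroup.mem_normalizer_iff.1 hm ⟨j, hj0⟩).1 hj : _)
      refine Subgroup.mem_normalizer_iff.2 fun y => ⟨key n hn y, fun hy => ?_⟩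
      have := key n⁻¹ (inv_mem hn) _ hy
      simpa [mul_assoc] using this
    · intro hn
      refine Subgroup.mem_normalizer_iff.2 fun x => ?_
      rw [hS, Subgroup.mem_subgroupOf, Subgroup.mem_subgroupOf, Subgroup.coe_mul, Subgroup.coe_mul,
        Subgroup.coe_inv]
      exact Subgroup.mem_normalizer_iff.1 hn _
  have hN36 : Nat.card (Subgroup.normalizer (S : Set X0)) = 36 := by
    have h1 := hX.relIndex_of_mem (Subgroup.le_normalizer hzJ)
    have h2 : Subgroup.normalizer (S : Set X0) =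
        (Subgroup.normalizer (J : Set X) ⊓ X0).subgroupOf X0 := by
      ext n
      rw [hnn, Subgroup.mem_subgroupOf, Subgroup.mem_inf]
      exact ⟨fun h => ⟨h, n.2⟩, fun h => h.1⟩
    rw [h2, Nat.card_congr (Subgroup.subgroupOfEquivOfLe inf_le_right).toEquiv]
    omega
  have hcomm : ∀ a ∈ S, ∀ b ∈ S, a * b = b * a := fun a ha b hb => Subtype.ext (hJc _ ha _ hb)
  have hexp : ∀ a ∈ S, a ^ 3 = 1 := fun a ha => Subtype.ext (hJe _ ha)
  have hC : Subgroup.centralizer (S : Set X0) = S := by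
    refine le_antisymm (fun c hc => ?_) (fun a ha => Subgroup.mem_centralizer_iff.2 fun b hb => hcomm b hb a ha)
    refine hJC (Subgroup.mem_centralizer_iff.2 fun j hj => ?_)
    obtain ⟨k, hk⟩ := hX.cover j
    have e1 := congrArg Subtype.val
      (Subgroup.mem_centralizer_iff.1 hc ⟨j * z ^ k, hk⟩ (J.mul_mem hj (J.pow_mem hzJ k)))
    have e2 : Commute (z ^ k) (c : X) := Commute.pow_left (hzc _) k
    simp only [Subgroup.coe_mul] at e1
    rw [mul_assoc, e2.eq, ← mul_assoc, ← mul_assoc, mul_right_cancel_iff] at e1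
    exact e1
  have hcent : ∀ s ∈ S, s ≠ 1 → Subgroup.centralizer ({s} : Set X0) ≤ Subgroup.normalizer (S : Set X0) := by
    intro s hs hs1 g hg
    rw [hnn]
    refine hplane s hs (fun hm => hs1 (Subtype.ext (hX.inf_zpowers hm s.2))) _ ?_
    exact congrArg Subtype.val (Subgroup.mem_centralizer_singleton_iff.1 hg)
  have h := Loc.of_sylow P hP hcomm hexp hc hC hcent
  by_cases hSn : S.Normal
  · refine Or.inl ⟨fun j hj g => ?_⟩
    obtain ⟨i, hi⟩ := hX.cover g
    have e : g * j * g⁻¹ = g * z ^ i * j * (g * z ^ i)⁻¹ := by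
      rw [mul_assoc g (z ^ i) j, (Commute.pow_left (hzc j) i).eq]
      group
    rw [e]
    exact hX.normalizer_le hzJ hi (fun y hy hy0 => hSn.conj_mem ⟨y, hy0⟩ hy ⟨_, hi⟩) j hj
  obtain ⟨M, hMn, hSM, hMs, hMc⟩ := exists_simple h P hP hSn (by rw [hN36]; norm_num) (by rw [hN36]; norm_num)
  haveI := hMs
  haveI := hMn
  have h' := h.subgroupOf hSM
  have hk := card_normalizer_subgroupOf (S := S) hSM
  have hd : Nat.card (Subgroup.normalizer (S : Set X0) ⊓ M : Subgroup X0) ∣ 36 :=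
    hN36 ▸ Subgroup.card_dvd_of_le inf_le_left
  have h9 : 9 ∣ Nat.card (Subgroup.normalizer (S : Set X0) ⊓ M : Subgroup X0) :=
    hc ▸ Subgroup.card_dvd_of_le (le_inf Subgroup.le_normalizer hSM)
  have hcases : Nat.card (Subgroup.normalizer (S : Set X0) ⊓ M : Subgroup X0) = 9 ∨
      Nat.card (Subgroup.normalizer (S : Set X0) ⊓ M : Subgroup X0) = 18 ∨
      Nat.card (Subgroup.normalizer (S : Set X0) ⊓ M : Subgroup X0) = 36 := by
    obtain ⟨c, hc'⟩ := h9
    have hle := Nat.le_of_dvd (by norm_num) hd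
    rw [hc'] at hd hle ⊢
    have hc4 : c ≤ 4 := by omega
    interval_cases c <;> omega
  rw [← hk] at hcases
  obtain ⟨hM360, h36, -⟩ := simple_small hMc h' (P.subtype (hP ▸ hSM)) (by rw [Sylow.coe_subtype, hP]) hcases
  rw [hk] at h36
  have hNM : Subgroup.normalizer (S : Set X0) ≤ M := by
    have := Subgroup.eq_of_le_of_card_ge (inf_le_left : Subgroup.normalizer (S : Set X0) ⊓ M ≤ _)
      (by rw [h36, hN36])
    exact this ▸ inf_le_right
  have htop : M = ⊤ := by
    have := Sylow.normalizer_sup_eq_top (P.subtype (hP ▸ hSM))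
    rwa [Sylow.coe_subtype, Subgroup.map_subgroupOf_eq_of_le (hP ▸ hSM), ← hP, sup_eq_right.2 hNM] at this
  obtain ⟨e⟩ := Simple360.nonempty_equiv_alternating (G := M) hM360
  exact Or.inr ⟨X0, hX, by rw [← hM360, htop, Subgroup.card_top],
    ⟨Subgroup.topEquiv.symm.trans ((MulEquiv.subgroupCongr htop.symm).trans e)⟩⟩

/-- With a central subgroup of order three, an outside element spans an elementary abelian
subgroup of largest order. -/
theorem mem_thompson_pair {Y : Type*} [Group Y] [Finite Y] {Q Z : Subgroup Y}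
    (hexp : ∀ u ∈ Q, u ^ 3 = 1)
    (hbound : ∀ B : Subgroup Q, Cfsg.IsElementaryAbelian 3 B → Nat.card B ≤ 9)
    (hZQ : Z ≤ Q) (hZ : Nat.card Z = 3) (hc : ∀ u ∈ Q, ∀ a ∈ Z, u * a = a * u) {v : Y} (hv : v ∈ Q)
    (hvZ : v ∉ Z) : ∀ u, (u ∈ Z ∨ u = v) → u ∈ Cfsg.thompsonSubgroupOf 3 Q := by
  haveI : Fact (Nat.Prime 3) := ⟨Nat.prime_three⟩
  set T : Set Q := {w | (w : Y) ∈ Z ∨ (w : Y) = v} with hT
  set B := Subgroup.closure T with hB
  haveI hBc : IsMulCommutative B := Subgroup.isMulCommutative_closure fun a ha b hb => Subtype.ext (by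
    show (a : Y) * b = b * a
    rcases ha with ha | ha
    · exact (hc b b.2 a ha).symm
    · rcases hb with hb | hb
      · exact hc a a.2 b hb
      · rw [ha, hb])
  have hBe : Cfsg.IsElementaryAbelian 3 B := ⟨hBc, fun a _ => Subtype.ext (hexp _ a.2)⟩
  have hsub : Z.subgroupOf Q ≤ B := fun a ha => Subgroup.subset_closure (Or.inl ha)
  have hvB : (⟨v, hv⟩ : Q) ∈ B := Subgroup.subset_closure (Or.inr rfl)
  have hB9 : 9 ≤ Nat.card B := by
    have hBp : IsPGroup 3 B := fun a => ⟨1, Subtype.ext (Subtype.ext (hexp _ a.1.2))⟩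
    obtain ⟨i, hi⟩ := IsPGroup.iff_card.1 hBp
    rcases Nat.lt_or_ge i 2 with hlt | hge
    · exfalso
      have h3 : Nat.card B ≤ 3 := by
        rw [hi]; exact le_trans (Nat.pow_le_pow_right (by norm_num) (by omega : i ≤ 1)) (by norm_num)
      have he := Subgroup.eq_of_le_of_card_ge hsub
        (by rw [Nat.card_congr (Subgroup.subgroupOfEquivOfLe hZQ).toEquiv, hZ]; exact h3)
      exact hvZ (Subgroup.mem_subgroupOf.1 (he ▸ hvB : (⟨v, hv⟩ : Q) ∈ Z.subgroupOf Q))
    · rw [hi]; exact le_trans (by norm_num) (Nat.pow_le_pow_right (by norm_num) hge)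
  have hmax : B ∈ Cfsg.maxElementaryAbelianSubgroups 3 Q :=
    ⟨hBe, fun B' hB' => (hbound B' hB').trans hB9⟩
  intro u hu
  have huQ : u ∈ Q := by
    rcases hu with hu | rfl
    · exact hZQ hu
    · exact hv
  refine ⟨⟨u, huQ⟩, le_sSup (α := Subgroup Q) hmax (Subgroup.subset_closure ?_), rfl⟩
  exact hu

/-- The centraliser of a central element of weight three is a `3`-group. -/
theorem eq_top_of_heisenberg [Finite X] (P : Sylow 3 X) (hP : Nat.card P = 81) {x : X}
    (hx : x ^ 3 = 1) (hx1 : x ≠ 1) (hxc : ∀ g, x * g = g * x)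
    (A : Subgroup X) (hxA : x ∈ A) (hAP : A ≤ (P : Subgroup X)) (hA : Nat.card A = 9)
    (hPA : ∀ p ∈ (P : Subgroup X), ∀ a ∈ A, p * a * p⁻¹ * a⁻¹ ∈ Subgroup.zpowers x)
    (hZA : ∀ p ∈ (P : Subgroup X), (∀ q ∈ (P : Subgroup X), p * q * p⁻¹ * q⁻¹ ∈ Subgroup.zpowers x) → p ∈ A)
    (hcube : ∀ p ∈ (P : Subgroup X), p ^ 3 ∈ Subgroup.zpowers x)
    (hNA : ∀ g ∈ Subgroup.normalizer (A : Set X), g ∈ (P : Subgroup X))
    (hcore : pPrimeCore 3 X = ⊥) : (P : Subgroup X) = ⊤ := by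
  classical
  haveI : Fact (Nat.Prime 3) := ⟨Nat.prime_three⟩
  set C := Subgroup.zpowers x with hC
  have hxP : x ∈ (P : Subgroup X) := hAP hxA
  haveI hCn : C.Normal := ⟨fun y hy g => by
    obtain ⟨k, -, rfl⟩ := pow_three_cases hx hy
    rw [← (Commute.pow_left (hxc g) k).eq, mul_inv_cancel_right]
    exact Subgroup.pow_mem _ (Subgroup.mem_zpowers x) k⟩
  have hCc : Nat.card C = 3 := by rw [Nat.card_zpowers, orderOf_three hx hx1]
  set π := QuotientGroup.mk' C with hπ
  set Q : Sylow 3 (X ⧸ C) := P.mapSurjective (QuotientGroup.mk'_surjective C) with hQ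
  have hQc : (Q : Subgroup (X ⧸ C)) = (P : Subgroup X).map π := Sylow.coe_mapSurjective _ _
  have hCP : C ≤ (P : Subgroup X) := Subgroup.zpowers_le.2 hxP
  have hCA : C ≤ A := Subgroup.zpowers_le.2 hxA
  have hback : ∀ {K : Subgroup X}, C ≤ K → ∀ g, π g ∈ K.map π → g ∈ K := by
    intro K hK g hg
    obtain ⟨y, hy, e⟩ := hg
    have e' : g⁻¹ * y ∈ C := QuotientGroup.eq.1 e.symm
    have := K.mul_mem hy (K.inv_mem (hK e'))
    simpa [mul_assoc] using this
  have hcard : ∀ {K : Subgroup X}, C ≤ K → Nat.card K = 3 * Nat.card (K.map π) := by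
    intro K hK
    have e := (π.subgroupMap K).ker.card_eq_card_quotient_mul_card_subgroup
    rw [Nat.card_congr (QuotientGroup.quotientKerEquivOfSurjective (π.subgroupMap K)
      (π.subgroupMap_surjective K)).toEquiv] at e
    rw [e, mul_comm]
    congr 1
    have hk : (π.subgroupMap K).ker = C.subgroupOf K := by
      ext y
      rw [MonoidHom.mem_ker, Subgroup.mem_subgroupOf, Subtype.ext_iff]
      exact QuotientGroup.eq_one_iff _
    rw [hk, Nat.card_congr (Subgroup.subgroupOfEquivOfLe hK).toEquiv, hCc]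
  have hQ27 : Nat.card (Q : Subgroup (X ⧸ C)) = 27 := by
    have := hcard hCP
    rw [hQc]
    have hP' : Nat.card (P : Subgroup X) = 81 := hP
    omega
  have hA3 : Nat.card (A.map π) = 3 := by
    have := hcard hCA
    omega
  have hAQ : A.map π ≤ Q := hQc ▸ Subgroup.map_mono hAP
  have hAcent : ∀ u ∈ (Q : Subgroup (X ⧸ C)), ∀ a ∈ A.map π, u * a = a * u := by
    intro u hu a ha
    rw [hQc] at hu
    obtain ⟨p, hp, rfl⟩ := hu
    obtain ⟨a, ha, rfl⟩ := ha
    have := (QuotientGroup.eq_one_iff _).2 (hPA p hp a ha)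
    have e : π p * π a * (π p)⁻¹ * (π a)⁻¹ = 1 := by
      rw [← map_inv, ← map_inv, ← map_mul, ← map_mul, ← map_mul]; exact this
    exact mul_inv_eq_iff_eq_mul.1 (mul_inv_eq_one.1 e)
  have hZ : ∀ u ∈ (Q : Subgroup (X ⧸ C)), (∀ v ∈ (Q : Subgroup (X ⧸ C)), u * v = v * u) → u ∈ A.map π := by
    intro u hu hc
    rw [hQc] at hu
    obtain ⟨p, hp, rfl⟩ := hu
    refine ⟨p, hZA p hp fun q hq => ?_, rfl⟩
    have e := hc (π q) (hQc ▸ ⟨q, hq, rfl⟩)
    rw [← QuotientGroup.eq_one_iff]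
    show π (p * q * p⁻¹ * q⁻¹) = 1
    rw [map_mul, map_mul, map_mul, map_inv, map_inv, e]
    group
  have hexpQ : ∀ u ∈ (Q : Subgroup (X ⧸ C)), u ^ 3 = 1 := by
    intro u hu
    rw [hQc] at hu
    obtain ⟨p, hp, rfl⟩ := hu
    rw [← map_pow]
    exact (QuotientGroup.eq_one_iff _).2 (hcube p hp)
  -- the Thompson subgroup of the quotient is everything
  have hJ : ∀ u ∈ (Q : Subgroup (X ⧸ C)), u ∈ Cfsg.thompsonSubgroupOf 3 (Q : Subgroup (X ⧸ C)) := by
    have hbound : ∀ B : Subgroup (Q : Subgroup (X ⧸ C)), Cfsg.IsElementaryAbelian 3 B → Nat.card B ≤ 9 := by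
      intro B hB
      have hd : Nat.card B ∣ 3 ^ 3 := by
        have := B.card_subgroup_dvd_card
        rwa [hQ27] at this
      obtain ⟨i, hi, he⟩ := (Nat.dvd_prime_pow Nat.prime_three).1 hd
      rcases Nat.lt_or_ge i 3 with h | h
      · rw [he]
        exact le_trans (Nat.pow_le_pow_right (by norm_num) (by omega : i ≤ 2)) (by norm_num)
      exfalso
      have hBtop : B = ⊤ := Subgroup.eq_top_of_card_eq B (by
        rw [he, hQ27, show i = 3 by omega]; norm_num)
      have hle : (Q : Subgroup (X ⧸ C)) ≤ A.map π := fun u hu => hZ u hu fun v hv =>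
        congrArg Subtype.val (congrArg Subtype.val
          (hB.1.is_comm.comm ⟨⟨u, hu⟩, hBtop ▸ Subgroup.mem_top _⟩ ⟨⟨v, hv⟩, hBtop ▸ Subgroup.mem_top _⟩))
      have := Subgroup.card_le_of_le hle
      omega
    intro u hu
    by_cases hua : u ∈ A.map π
    · -- a central element lies in every maximal elementary abelian subgroup
      obtain ⟨v, hv, hvA⟩ : ∃ v ∈ (Q : Subgroup (X ⧸ C)), v ∉ A.map π := by
        by_contra hc
        push Not at hc
        have := Subgroup.card_le_of_le (show (Q : Subgroup (X ⧸ C)) ≤ A.map π from hc)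
        omega
      have h1 := mem_thompson_pair hexpQ hbound hAQ hA3 hAcent hv hvA
      exact h1 _ (Or.inl hua)
    · exact mem_thompson_pair hexpQ hbound hAQ hA3 hAcent hu hua _ (Or.inr rfl)
  have hJeq : Cfsg.thompsonSubgroupOf 3 (Q : Subgroup (X ⧸ C)) = (Q : Subgroup (X ⧸ C)) :=
    le_antisymm (Subgroup.map_subtype_le _) hJ
  have hZJ : Cfsg.centerThompsonOf 3 (Q : Subgroup (X ⧸ C)) = A.map π := by
    rw [Cfsg.centerThompsonOf, hJeq]
    refine le_antisymm (fun u hu => hZ u hu.1 fun v hv => (Subgroup.mem_centralizer_iff.1 hu.2 v hv).symm)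
      fun a ha => ⟨hAQ ha, Subgroup.mem_centralizer_iff.2 fun v hv => hAcent v hv a ha⟩
  have hNle : Subgroup.normalizer ((A.map π : Subgroup (X ⧸ C)) : Set (X ⧸ C)) ≤ Q := by
    intro c hc
    obtain ⟨g, rfl⟩ := QuotientGroup.mk'_surjective C c
    rw [hQc]
    refine ⟨g, hNA g (Subgroup.mem_normalizer_iff.2 fun a => ?_), rfl⟩
    have := Subgroup.mem_normalizer_iff.1 hc (π a)
    rw [← map_inv, ← map_mul, ← map_mul] at this
    exact ⟨fun ha => hback hCA _ (this.1 ⟨a, ha, rfl⟩), fun ha => hback hCA _ (this.2 ⟨_, ha, rfl⟩)⟩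
  have hpc : Cfsg.HasNormalPComplement 3 (X ⧸ C) := by
    rw [S0117.result (by norm_num) Q, hZJ]
    set N := Subgroup.normalizer ((A.map π : Subgroup (X ⧸ C)) : Set (X ⧸ C))
    have hNp : IsPGroup 3 (⊤ : Subgroup N) :=
      (Q.2.to_le hNle).to_subgroup ⊤
    exact ⟨(hNp.toSylow (by simp)), ⊥, inferInstance, Subgroup.isComplement'_bot_top⟩
  obtain ⟨R, M, hMn, hM⟩ := hpc
  haveI := hMn
  set K := M.comap π with hK
  have hCK : C ≤ K := fun y hy => by
    rw [hK, Subgroup.mem_comap, show π y = 1 from (QuotientGroup.eq_one_iff y).2 hy]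
    exact one_mem M
  have hMcop : ¬ 3 ∣ Nat.card M := by
    rw [← hM.index_eq_card]
    exact R.not_dvd_index
  haveI : K.Normal := hMn.comap π
  have hKc : Nat.card K = 3 * Nat.card M := by
    rw [hcard hCK, hK, Subgroup.map_comap_eq_self_of_surjective (QuotientGroup.mk'_surjective C)]
  obtain ⟨K0, hK0⟩ := exists_cpl (C.subgroupOf K) ⊥
    (fun a ha b hb => Subtype.ext (by
      obtain ⟨i, -, hi⟩ := pow_three_cases hx (Subgroup.mem_subgroupOf.1 ha : (a : X) ∈ C)
      show (a : X) * b = b * a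
      rw [← hi, (Commute.pow_left (hxc (b : X)) i).eq]))
    (by
      have := (C.subgroupOf K).index_mul_card
      rw [Nat.card_congr (Subgroup.subgroupOfEquivOfLe hCK).toEquiv, hCc, hKc] at this
      rw [show (C.subgroupOf K).index = Nat.card M by omega]
      exact hMcop)
    (z := (⟨x, hCK (Subgroup.mem_zpowers x)⟩ : K)) (Subgroup.mem_zpowers x) (Subtype.ext hx)
    (fun g => Subtype.ext (hxc g)) (fun h => hx1 (congrArg Subtype.val (Subgroup.mem_bot.1 h)))
    (fun j hj => by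
      obtain ⟨i, hi, e⟩ := pow_three_cases hx (Subgroup.mem_subgroupOf.1 hj : (j : X) ∈ C)
      refine ⟨3 - i, Subgroup.mem_bot.2 (Subtype.ext ?_)⟩
      show (j : X) * x ^ (3 - i) = 1
      rw [← e, ← pow_add, show i + (3 - i) = 3 by omega, hx])
  haveI := hK0.normal
  have hK0c : (Nat.card K0).Coprime 3 := by
    refine (Nat.prime_three.coprime_iff_not_dvd.2 fun hd => hMcop ?_).symm
    have h1 := K0.index_mul_card
    rw [hK0.card_quotient, hKc] at h1
    rwa [← Nat.eq_of_mul_eq_mul_left (by norm_num) h1]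
  have hK0bot : K0 = ⊥ := le_bot_iff.1 (core_bot K hcore ▸ HallCore.le_pPrimeCore hK0c)
  have hM1 : Nat.card M = 1 := by
    have h1 := K0.index_mul_card
    rw [hK0.card_quotient, hKc, hK0bot, Subgroup.card_bot] at h1
    omega
  refine Subgroup.eq_top_of_card_eq _ ?_
  have h2 := hM.card_mul
  rw [hM1, one_mul] at h2
  have h3 : Nat.card (X ⧸ C) = 27 := by
    rw [← h2, ← hQ27]
    exact Nat.card_congr (R.equiv Q).toEquiv
  have h4 := C.card_eq_card_quotient_mul_card_subgroup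
  rw [h3, hCc] at h4
  rw [h4]
  exact hP

end Cfsg.Agent.A9Local55
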