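import Mathlib
import Cfsg.Agent.Lib.A9Base59

/-!
# S3339: the monomial group `3³:S₄` inside the alternating group of degree nine

Normal form `rep i * el3 v` of the elements of `H9` and the finite facts used by the local analysis.
-/

set_option autoImplicit false
set_option maxRecDepth 100000

namespace Cfsg.Agent.A9Local55

open Equiv Cfsg.Agent.A9Base59

/-- The monomial representatives, the first twenty-four even. -/
def repFun : Fin 48 → Fin 9 → Fin 9 :=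
  ![![0, 1, 2, 3, 4, 5, 6, 7, 8],
  ![0, 1, 2, 3, 5, 4, 6, 8, 7],
  ![0, 2, 1, 3, 4, 5, 6, 8, 7],
  ![0, 2, 1, 3, 5, 4, 6, 7, 8],
  ![0, 1, 2, 6, 7, 8, 3, 5, 4],
  ![0, 1, 2, 6, 8, 7, 3, 4, 5],
  ![0, 2, 1, 6, 7, 8, 3, 4, 5],
  ![0, 2, 1, 6, 8, 7, 3, 5, 4],
  ![3, 4, 5, 0, 1, 2, 6, 8, 7],
  ![3, 4, 5, 0, 2, 1, 6, 7, 8],
  ![3, 5, 4, 0, 1, 2, 6, 7, 8],
  ![3, 5, 4, 0, 2, 1, 6, 8, 7],
  ![3, 4, 5, 6, 7, 8, 0, 1, 2],
  ![3, 4, 5, 6, 8, 7, 0, 2, 1],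
  ![3, 5, 4, 6, 7, 8, 0, 2, 1],
  ![3, 5, 4, 6, 8, 7, 0, 1, 2],
  ![6, 7, 8, 0, 1, 2, 3, 4, 5],
  ![6, 7, 8, 0, 2, 1, 3, 5, 4],
  ![6, 8, 7, 0, 1, 2, 3, 5, 4],
  ![6, 8, 7, 0, 2, 1, 3, 4, 5],
  ![6, 7, 8, 3, 4, 5, 0, 2, 1],
  ![6, 7, 8, 3, 5, 4, 0, 1, 2],
  ![6, 8, 7, 3, 4, 5, 0, 1, 2],
  ![6, 8, 7, 3, 5, 4, 0, 2, 1],
  ![0, 1, 2, 3, 4, 5, 6, 8, 7],
  ![0, 1, 2, 3, 5, 4, 6, 7, 8],
  ![0, 2, 1, 3, 4, 5, 6, 7, 8],
  ![0, 2, 1, 3, 5, 4, 6, 8, 7],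
  ![0, 1, 2, 6, 7, 8, 3, 4, 5],
  ![0, 1, 2, 6, 8, 7, 3, 5, 4],
  ![0, 2, 1, 6, 7, 8, 3, 5, 4],
  ![0, 2, 1, 6, 8, 7, 3, 4, 5],
  ![3, 4, 5, 0, 1, 2, 6, 7, 8],
  ![3, 4, 5, 0, 2, 1, 6, 8, 7],
  ![3, 5, 4, 0, 1, 2, 6, 8, 7],
  ![3, 5, 4, 0, 2, 1, 6, 7, 8],
  ![3, 4, 5, 6, 7, 8, 0, 2, 1],
  ![3, 4, 5, 6, 8, 7, 0, 1, 2],
  ![3, 5, 4, 6, 7, 8, 0, 1, 2],
  ![3, 5, 4, 6, 8, 7, 0, 2, 1],
  ![6, 7, 8, 0, 1, 2, 3, 5, 4],
  ![6, 7, 8, 0, 2, 1, 3, 4, 5],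
  ![6, 8, 7, 0, 1, 2, 3, 4, 5],
  ![6, 8, 7, 0, 2, 1, 3, 5, 4],
  ![6, 7, 8, 3, 4, 5, 0, 1, 2],
  ![6, 7, 8, 3, 5, 4, 0, 2, 1],
  ![6, 8, 7, 3, 4, 5, 0, 2, 1],
  ![6, 8, 7, 3, 5, 4, 0, 1, 2]]

/-- Their inverses. -/
def repInv : Fin 48 → Fin 9 → Fin 9 :=
  ![![0, 1, 2, 3, 4, 5, 6, 7, 8],
  ![0, 1, 2, 3, 5, 4, 6, 8, 7],
  ![0, 2, 1, 3, 4, 5, 6, 8, 7],
  ![0, 2, 1, 3, 5, 4, 6, 7, 8],
  ![0, 1, 2, 6, 8, 7, 3, 4, 5],
  ![0, 1, 2, 6, 7, 8, 3, 5, 4],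
  ![0, 2, 1, 6, 7, 8, 3, 4, 5],
  ![0, 2, 1, 6, 8, 7, 3, 5, 4],
  ![3, 4, 5, 0, 1, 2, 6, 8, 7],
  ![3, 5, 4, 0, 1, 2, 6, 7, 8],
  ![3, 4, 5, 0, 2, 1, 6, 7, 8],
  ![3, 5, 4, 0, 2, 1, 6, 8, 7],
  ![6, 7, 8, 0, 1, 2, 3, 4, 5],
  ![6, 8, 7, 0, 1, 2, 3, 5, 4],
  ![6, 8, 7, 0, 2, 1, 3, 4, 5],
  ![6, 7, 8, 0, 2, 1, 3, 5, 4],
  ![3, 4, 5, 6, 7, 8, 0, 1, 2],
  ![3, 5, 4, 6, 8, 7, 0, 1, 2],
  ![3, 4, 5, 6, 8, 7, 0, 2, 1],
  ![3, 5, 4, 6, 7, 8, 0, 2, 1],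
  ![6, 8, 7, 3, 4, 5, 0, 1, 2],
  ![6, 7, 8, 3, 5, 4, 0, 1, 2],
  ![6, 7, 8, 3, 4, 5, 0, 2, 1],
  ![6, 8, 7, 3, 5, 4, 0, 2, 1],
  ![0, 1, 2, 3, 4, 5, 6, 8, 7],
  ![0, 1, 2, 3, 5, 4, 6, 7, 8],
  ![0, 2, 1, 3, 4, 5, 6, 7, 8],
  ![0, 2, 1, 3, 5, 4, 6, 8, 7],
  ![0, 1, 2, 6, 7, 8, 3, 4, 5],
  ![0, 1, 2, 6, 8, 7, 3, 5, 4],
  ![0, 2, 1, 6, 8, 7, 3, 4, 5],
  ![0, 2, 1, 6, 7, 8, 3, 5, 4],
  ![3, 4, 5, 0, 1, 2, 6, 7, 8],
  ![3, 5, 4, 0, 1, 2, 6, 8, 7],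
  ![3, 4, 5, 0, 2, 1, 6, 8, 7],
  ![3, 5, 4, 0, 2, 1, 6, 7, 8],
  ![6, 8, 7, 0, 1, 2, 3, 4, 5],
  ![6, 7, 8, 0, 1, 2, 3, 5, 4],
  ![6, 7, 8, 0, 2, 1, 3, 4, 5],
  ![6, 8, 7, 0, 2, 1, 3, 5, 4],
  ![3, 4, 5, 6, 8, 7, 0, 1, 2],
  ![3, 5, 4, 6, 7, 8, 0, 1, 2],
  ![3, 4, 5, 6, 7, 8, 0, 2, 1],
  ![3, 5, 4, 6, 8, 7, 0, 2, 1],
  ![6, 7, 8, 3, 4, 5, 0, 1, 2],
  ![6, 8, 7, 3, 5, 4, 0, 1, 2],
  ![6, 8, 7, 3, 4, 5, 0, 2, 1],
  ![6, 7, 8, 3, 5, 4, 0, 2, 1]]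

theorem rep_left : ∀ i j, repInv i (repFun i j) = j := by decide +kernel
theorem rep_right : ∀ i j, repFun i (repInv i j) = j := by decide +kernel

/-- A monomial representative. -/
def rep48 (i : Fin 48) : P9 := ⟨repFun i, repInv i, rep_left i, rep_right i⟩

/-- An even monomial representative. -/
def rep (i : Fin 24) : P9 := rep48 (i.castLE (by norm_num))

/-- The base element with exponents `v`. -/
def el3 (v : Fin 3 × Fin 3 × Fin 3) : P9 :=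
  e 0 ^ v.1.val * e 1 ^ v.2.1.val * e 2 ^ v.2.2.val

/-- The element with index `z`. -/
def el (z : Fin 24 × Fin 3 × Fin 3 × Fin 3) : P9 := rep z.1 * el3 z.2

theorem el3_mem (v : Fin 3 × Fin 3 × Fin 3) : el3 v ∈ H9 :=
  mul_mem (mul_mem (pow_mem (e_mem 0) _) (pow_mem (e_mem 1) _)) (pow_mem (e_mem 2) _)

theorem rep_mem : ∀ i, rep i ∈ H9 := by decide +kernel

theorem el_mem (z : Fin 24 × Fin 3 × Fin 3 × Fin 3) : el z ∈ H9 := mul_mem (rep_mem _) (el3_mem _)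

/-- The element of `H9` with index `z`. -/
def elH (z : Fin 24 × Fin 3 × Fin 3 × Fin 3) : H9 := ⟨el z, el_mem z⟩

/-- An element of the base. -/
def J3 (v : Fin 3 × Fin 3 × Fin 3) : H9 := ⟨el3 v, el3_mem v⟩

theorem triple_aux : ∀ (k : Fin 3) (x : Fin 9), e k x ≠ x ↔ bk x = k := by decide +kernel

theorem orbit_aux : ∀ x : Fin 9, ∃ a : Fin 3, (e (bk x) ^ a.val) ⟨3 * (bk x).val, by omega⟩ = x := by
  decide +kernel

theorem cycle_aux : ∀ a b c : Fin 9, bk a = bk b → bk a = bk c → a ≠ b → a ≠ c → b ≠ c →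
    (e (bk a) a = b ∧ e (bk a) b = c ∧ e (bk a) c = a) ∨
      ((e (bk a))⁻¹ a = b ∧ (e (bk a))⁻¹ b = c ∧ (e (bk a))⁻¹ c = a) := by decide +kernel

theorem fixed_aux : ∀ (k : Fin 3) (x : Fin 9), bk x ≠ k → e k x = x ∧ (e k)⁻¹ x = x := by
  decide +kernel

theorem next_aux : ∀ (k : Fin 3) (x : Fin 9), bk x = k →
    e k x ≠ x ∧ bk (e k x) = k ∧ (x = ⟨3 * k.val, by omega⟩ ∨ x = e k ⟨3 * k.val, by omega⟩ ∨
      x = e k (e k ⟨3 * k.val, by omega⟩)) ∧ e k (e k (e k x)) = x := by decide +kernel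

theorem conj_e {p : P9} (hp : p ∈ H9) (k : Fin 3) :
    ∃ l : Fin 3, ∃ s : Bool, p * e k = (if s then e l else (e l)⁻¹) * p ∧
      l = bk (p ⟨3 * k.val, by omega⟩) := by
  set a : Fin 9 := ⟨3 * k.val, by omega⟩ with ha
  have hka : bk a = k := Fin.ext (by simp [bk, ha])
  obtain ⟨n1, n2, -, n4⟩ := next_aux k a hka
  obtain ⟨m1, m2, -, -⟩ := next_aux k (e k a) n2
  have h2 : e k (e k a) ≠ a := fun e' => n1 (by rw [e'] at n4; exact n4)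
  have key : ∀ x, bk x = k → bk (p x) = bk (p a) := fun x hx =>
    (hp.2 x a).1 (hx.trans hka.symm)
  have hcyc := cycle_aux (p a) (p (e k a)) (p (e k (e k a))) (key _ n2).symm (key _ m2).symm
    (p.injective.ne n1.symm) (p.injective.ne h2.symm) (p.injective.ne m1.symm)
  have hoff : ∀ x, bk x ≠ k → bk (p x) ≠ bk (p a) := fun x hx h => hx (((hp.2 x a).2 h).trans hka)
  rcases hcyc with hc | hc
  · refine ⟨bk (p a), true, Equiv.ext fun x => ?_, rfl⟩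
    rw [Perm.mul_apply, Perm.mul_apply, if_pos rfl]
    by_cases hx : bk x = k
    · rcases (next_aux k x hx).2.2.1 with rfl | rfl | rfl
      · exact hc.1.symm
      · exact hc.2.1.symm
      · rw [n4]; exact hc.2.2.symm
    · rw [(fixed_aux k x hx).1, (fixed_aux _ _ (hoff x hx)).1]
  · refine ⟨bk (p a), false, Equiv.ext fun x => ?_, rfl⟩
    rw [Perm.mul_apply, Perm.mul_apply, if_neg Bool.false_ne_true]
    by_cases hx : bk x = k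
    · rcases (next_aux k x hx).2.2.1 with rfl | rfl | rfl
      · exact hc.1.symm
      · exact hc.2.1.symm
      · rw [n4]; exact hc.2.2.symm
    · rw [(fixed_aux k x hx).1, (fixed_aux _ _ (hoff x hx)).2]

theorem el3_zero : ∀ (v : Fin 3 × Fin 3 × Fin 3) (k : Fin 3),
    el3 v ⟨3 * k.val, by omega⟩ = (e k ^ (![v.1, v.2.1, v.2.2] k).val) ⟨3 * k.val, by omega⟩ ∧
      el3 v * e k = e k * el3 v := by decide +kernel

theorem orbit_k : ∀ (k : Fin 3) (y : Fin 9), e k y ≠ y →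
    ∃ a : Fin 3, (e k ^ a.val) ⟨3 * k.val, by omega⟩ = y := by decide +kernel

theorem eq_el3 {p : P9} (h : ∀ k, p * e k = e k * p) : ∃ v, p = el3 v := by
  have hx : ∀ k : Fin 3, ∃ a : Fin 3, (e k ^ a.val) ⟨3 * k.val, by omega⟩ = p ⟨3 * k.val, by omega⟩ := by
    intro k
    set a : Fin 9 := ⟨3 * k.val, by omega⟩ with ha
    have hka : bk a = k := Fin.ext (by simp [bk, ha])
    have hne : e k (p a) ≠ p a := by
      rw [show e k (p a) = p (e k a) from (Equiv.congr_fun (h k) a).symm]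
      exact p.injective.ne (next_aux k a hka).1
    exact orbit_k k _ hne
  obtain ⟨a0, h0⟩ := hx 0
  obtain ⟨a1, h1⟩ := hx 1
  obtain ⟨a2, h2⟩ := hx 2
  refine ⟨(a0, a1, a2), Equiv.ext fun x => ?_⟩
  obtain ⟨a, hax⟩ := orbit_aux x
  rw [← hax]
  set k := bk x
  have hv : el3 (a0, a1, a2) ⟨3 * k.val, by omega⟩ = p ⟨3 * k.val, by omega⟩ := by
    rw [(el3_zero _ k).1]
    have hall : ∀ k' : Fin 3, (e k' ^ (![a0, a1, a2] k').val) ⟨3 * k'.val, by omega⟩ =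
        p ⟨3 * k'.val, by omega⟩ := by
      intro k'
      fin_cases k'
      · exact h0
      · exact h1
      · exact h2
    exact hall k
  have c1 : p * e k ^ a.val = e k ^ a.val * p := (Commute.pow_right (h k) a.val).eq
  have c2 : el3 (a0, a1, a2) * e k ^ a.val = e k ^ a.val * el3 (a0, a1, a2) :=
    (Commute.pow_right (el3_zero _ k).2 a.val).eq
  have d1 := Equiv.congr_fun c1 ⟨3 * k.val, by omega⟩
  have d2 := Equiv.congr_fun c2 ⟨3 * k.val, by omega⟩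
  rw [Perm.mul_apply, Perm.mul_apply] at d1 d2
  rw [d1, d2, hv]

theorem rep48_conj : ∀ l0 l1 l2 : Fin 3, l0 ≠ l1 → l0 ≠ l2 → l1 ≠ l2 → ∀ s0 s1 s2 : Bool,
    ∃ i : Fin 48, rep48 i * e 0 = (if s0 then e l0 else (e l0)⁻¹) * rep48 i ∧
      rep48 i * e 1 = (if s1 then e l1 else (e l1)⁻¹) * rep48 i ∧
      rep48 i * e 2 = (if s2 then e l2 else (e l2)⁻¹) * rep48 i := by decide +kernel

theorem rep48_even : ∀ i : Fin 48, Perm.sign (rep48 i) = 1 → i.val < 24 := by decide +kernel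

theorem el3_sign : ∀ v, Perm.sign (el3 v) = 1 := by decide +kernel

theorem exists_el (p : H9) : ∃ z, elH z = p := by
  obtain ⟨p, hp⟩ := p
  obtain ⟨l0, s0, h0, e0⟩ := conj_e hp 0
  obtain ⟨l1, s1, h1, e1⟩ := conj_e hp 1
  obtain ⟨l2, s2, h2, e2⟩ := conj_e hp 2
  have hne : ∀ {a b : Fin 9}, bk a ≠ bk b → bk (p a) ≠ bk (p b) := fun hab h => hab ((hp.2 _ _).2 h)
  obtain ⟨i, r0, r1, r2⟩ := rep48_conj l0 l1 l2
    (by rw [e0, e1]; exact hne (by decide)) (by rw [e0, e2]; exact hne (by decide))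
    (by rw [e1, e2]; exact hne (by decide)) s0 s1 s2
  have key : ∀ {c y : P9}, p * c = y * p → rep48 i * c = y * rep48 i →
      (rep48 i)⁻¹ * p * c = c * ((rep48 i)⁻¹ * p) := fun {c y} ha hb => by
    have hy : (rep48 i)⁻¹ * y = c * (rep48 i)⁻¹ := by
      rw [inv_mul_eq_iff_eq_mul, ← mul_assoc, hb, mul_inv_cancel_right]
    rw [mul_assoc, ha, ← mul_assoc, hy, mul_assoc]
  obtain ⟨v, hv⟩ := eq_el3 (p := (rep48 i)⁻¹ * p) (by
    intro k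
    fin_cases k
    · exact key h0 r0
    · exact key h1 r1
    · exact key h2 r2)
  have hpv : p = rep48 i * el3 v := by rw [← hv, mul_inv_cancel_left]
  have hs : Perm.sign (rep48 i) = 1 := by
    have := hp.1
    rwa [hpv, Perm.sign_mul, el3_sign, mul_one] at this
  exact ⟨(⟨i.val, rep48_even i hs⟩, v), Subtype.ext hpv.symm⟩

theorem rep_coset : ∀ i j : Fin 24, ∀ v, rep i * el3 v = rep j → i = j := by decide +kernel

theorem el3_inj : ∀ v w, el3 v = el3 w → v = w := by decide +kernel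

theorem el3_group : ∀ v w, el3 v * el3 w = el3 (v + w) := by decide +kernel

theorem elH_bijective : Function.Bijective elH := by
  refine ⟨fun z z' h => ?_, exists_el⟩
  have h' : rep z.1 * el3 z.2 = rep z'.1 * el3 z'.2 := congrArg Subtype.val h
  have hc : rep z.1 * el3 (z.2 - z'.2) = rep z'.1 := by
    refine mul_right_cancel (b := el3 z'.2) ?_
    rw [mul_assoc, el3_group, sub_add_cancel]
    exact h'
  have e1 := rep_coset _ _ _ hc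
  rw [e1] at h'
  exact Prod.ext e1 (el3_inj _ _ (mul_left_cancel h'))

theorem card_H9 : Nat.card H9 = 648 := by
  rw [← Nat.card_congr (Equiv.ofBijective _ elH_bijective)]
  simp [Nat.card_eq_fintype_card]

theorem card_subtype (Q : H9 → Prop) [DecidablePred fun z => Q (elH z)] :
    Nat.card {h : H9 // Q h} = Fintype.card {z // Q (elH z)} := by
  rw [← Nat.card_eq_fintype_card]
  exact (Nat.card_congr ((Equiv.ofBijective _ elH_bijective).subtypeEquiv fun _ => Iff.rfl)).symm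

/-- The element `(03)(14)(25)(78)`. -/
def tw : H9 := ⟨rep 8, rep_mem _⟩

/-- Index of the trivial representative, and of the two block rotations. -/
def i1 : Fin 24 := 0
def iR : Fin 24 := 12
def iR2 : Fin 24 := 16

theorem rep_one : rep i1 = 1 := by decide +kernel

theorem unique_small : ∀ i : Fin 24, (∀ k : Fin 3, k ≠ 2 →
    rep i * ((rep i)⁻¹ * e k * rep i * (e k)⁻¹) = (rep i)⁻¹ * e k * rep i * (e k)⁻¹ * rep i) →
    i = i1 := by decide +kernel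

theorem unique_u : ∀ (i : Fin 24) (k l : Fin 3),
    (rep i)⁻¹ * e k * rep i * (e k)⁻¹ * e l = e l * ((rep i)⁻¹ * e k * rep i * (e k)⁻¹) := by
  decide +kernel

theorem unique_gens : e 0 = el3 (1, 0, 0) ∧ e 1 = el3 (0, 1, 0) := by decide +kernel

/-- Only elements of the base commute with all their conjugates. -/
theorem unique_aux : ∀ z, el z * el z * el z = 1 →
    (∀ g ∈ [rep iR, rep 8, el3 (1, 0, 0), el3 (0, 1, 0)],
      el z * (g * el z * g⁻¹) = g * el z * g⁻¹ * el z) → z.1 = i1 := by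
  rintro ⟨i, v⟩ - h
  refine unique_small i fun k hk => ?_
  have hg : e k ∈ [rep iR, rep 8, el3 (1, 0, 0), el3 (0, 1, 0)] := by
    fin_cases k
    · exact List.mem_of_getElem? (i := 2) (congrArg some unique_gens.1.symm)
    · exact List.mem_of_getElem? (i := 3) (congrArg some unique_gens.2.symm)
    · exact absurd rfl hk
  have hx : rep i * el3 v * (e k * (rep i * el3 v) * (e k)⁻¹) =
      e k * (rep i * el3 v) * (e k)⁻¹ * (rep i * el3 v) := h _ hg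
  generalize hu : (rep i)⁻¹ * e k * rep i * (e k)⁻¹ = u
  have c : Commute u (el3 v) := by
    have cu : ∀ l, Commute u (e l) := fun l => hu ▸ unique_u i k l
    exact (((cu 0).pow_right _).mul_right ((cu 1).pow_right _)).mul_right ((cu 2).pow_right _)
  have cb : Commute (el3 v) (e k) := (el3_zero v k).2
  have hgx : e k * (rep i * el3 v) * (e k)⁻¹ = rep i * el3 v * u := by
    calc e k * (rep i * el3 v) * (e k)⁻¹ = e k * rep i * (el3 v * (e k)⁻¹) := by group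
      _ = e k * rep i * ((e k)⁻¹ * el3 v) := by rw [cb.inv_right.eq]
      _ = rep i * (u * el3 v) := by rw [← hu]; group
      _ = _ := by rw [c.eq, mul_assoc]
  rw [hgx] at hx
  have h1 : rep i * el3 v * u = u * (rep i * el3 v) :=
    mul_left_cancel (a := rep i * el3 v) (by rw [hx, mul_assoc])
  rw [mul_assoc, ← c.eq, ← mul_assoc, ← mul_assoc] at h1
  exact mul_right_cancel h1

theorem class_aux : ∀ v : Fin 3 × Fin 3 × Fin 3, v ≠ 0 → ∃ i : Fin 24,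
    ∃ u ∈ [((1 : Fin 3), (0 : Fin 3), (0 : Fin 3)), (1, 1, 0), (1, 1, 1)],
      rep i * el3 u = el3 v * rep i := by decide +kernel

/-- Centralisers of the three representatives. -/
theorem cent_e : Fintype.card {z // el z * e 0 = e 0 * el z} = 108 := by decide +kernel

theorem cent_x_card : Fintype.card {z // el z * (e 0 * e 1 * e 2) = e 0 * e 1 * e 2 * el z} = 81 := by
  decide +kernel

theorem cent_x_index : ∀ z, el z * (e 0 * e 1 * e 2) = e 0 * e 1 * e 2 * el z →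
    z.1 = i1 ∨ z.1 = iR ∨ z.1 = iR2 := by decide +kernel

theorem cent_w : ∀ z, el z * (e 0 * e 1) = e 0 * e 1 * el z →
    z.1 = i1 ∨ z.1 = 8 := by decide +kernel

end Cfsg.Agent.A9Local55
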