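import Mathlib
import Cfsg.Agent.Lib.A9Local55Gen
import Cfsg.Agent.Lib.A9Local55Model

/-!
# S3339: the local data from the hypotheses

The isomorphism with the normaliser of the base, the centralisers of the elements of weight two and
three, and general facts about the base used in both branches.
-/

set_option autoImplicit false
set_option linter.style.haveILetI false
set_option maxRecDepth 100000

namespace Cfsg.Agent.A9Local55

open Cfsg Cfsg.Agent.A9Base59

variable {G : Type*} [Group G]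

theorem not_dvd_index_of_normalizer [Finite G] {K : Subgroup G} {n : ℕ} (hK : Nat.card K = 3 ^ n)
    (h : ¬ 3 ^ (n + 1) ∣ Nat.card (Subgroup.normalizer (K : Set G))) : ¬ 3 ∣ K.index := by
  haveI : Fact (Nat.Prime 3) := ⟨Nat.prime_three⟩
  intro hd
  refine h ?_
  have hG : 3 ^ (n + 1) ∣ Nat.card G := by
    rw [← K.index_mul_card, hK, pow_succ, mul_comm K.index]
    exact mul_dvd_mul_left _ hd
  exact ((Sylow.card_normalizer_modEq_card hK).dvd_iff dvd_rfl).2 hG

theorem cent_conj_le [Finite G] {a g : G} {N : Subgroup G}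
    (h : Subgroup.centralizer ({a} : Set G) ≤ N) (hg : g ∈ N) :
    Subgroup.centralizer ({g * a * g⁻¹} : Set G) ≤ N := by
  intro c hc
  have hc' := Subgroup.mem_centralizer_singleton_iff.1 hc
  have h1 : g⁻¹ * c * g ∈ N := h (Subgroup.mem_centralizer_singleton_iff.2 (by
    calc g⁻¹ * c * g * a = g⁻¹ * (c * (g * a * g⁻¹)) * g := by group
      _ = g⁻¹ * (g * a * g⁻¹ * c) * g := by rw [hc']
      _ = _ := by group))
  have := N.mul_mem (N.mul_mem hg h1) (N.inv_mem hg)
  simpa [mul_assoc] using this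

/-- The base as a homomorphism. -/
def Jhom : Multiplicative (Fin 3 × Fin 3 × Fin 3) →* H9 :=
  MonoidHom.mk' (fun v => J3 v.toAdd) fun v w => Subtype.ext (el3_group v.toAdd w.toAdd).symm

theorem Jhom_apply (v : Fin 3 × Fin 3 × Fin 3) : Jhom (Multiplicative.ofAdd v) = J3 v := rfl

theorem J3_injective : Function.Injective J3 := fun _ _ h => el3_inj _ _ (congrArg Subtype.val h)

theorem J3_gens : J3 (1, 0, 0) = E 0 ∧ J3 (0, 1, 0) = E 1 ∧ J3 (0, 0, 1) = E 2 :=
  ⟨Subtype.ext (by decide +kernel), Subtype.ext (by decide +kernel), Subtype.ext (by decide +kernel)⟩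

theorem J3_split : ∀ v : Fin 3 × Fin 3 × Fin 3,
    el3 v = (E 0 : P9) ^ v.1.val * (E 1 : P9) ^ v.2.1.val * (E 2 : P9) ^ v.2.2.val := by decide +kernel

/-- The even permutations normalising the base are those preserving the partition. -/
theorem model_eq (J₀ : Subgroup P9) (hJ₀ : J₀ = Subgroup.closure {Equiv.swap (0 : Fin 9) 1 * Equiv.swap 1 2,
    Equiv.swap (3 : Fin 9) 4 * Equiv.swap 4 5, Equiv.swap (6 : Fin 9) 7 * Equiv.swap 7 8}) :
    alternatingGroup (Fin 9) ⊓ Subgroup.normalizer (J₀ : Set P9) = H9 := by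
  have hgen : ∀ k, e k ∈ J₀ := by
    intro k
    rw [hJ₀]
    fin_cases k <;> exact Subgroup.subset_closure (by simp [e])
  have hmem : ∀ q, q ∈ J₀ ↔ ∃ v, el3 v = q := by
    intro q
    constructor
    · intro hq
      rw [hJ₀] at hq
      have hle : Subgroup.closure {Equiv.swap (0 : Fin 9) 1 * Equiv.swap 1 2,
          Equiv.swap (3 : Fin 9) 4 * Equiv.swap 4 5, Equiv.swap (6 : Fin 9) 7 * Equiv.swap 7 8} ≤
          (Jhom.range.map H9.subtype) := by
        rw [Subgroup.closure_le]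
        rintro x (rfl | rfl | rfl)
        · exact ⟨_, ⟨Multiplicative.ofAdd (1, 0, 0), rfl⟩, congrArg Subtype.val J3_gens.1⟩
        · exact ⟨_, ⟨Multiplicative.ofAdd (0, 1, 0), rfl⟩, congrArg Subtype.val J3_gens.2.1⟩
        · exact ⟨_, ⟨Multiplicative.ofAdd (0, 0, 1), rfl⟩, congrArg Subtype.val J3_gens.2.2⟩
      obtain ⟨_, ⟨v, rfl⟩, e⟩ := hle hq
      exact ⟨v.toAdd, e⟩
    · rintro ⟨v, rfl⟩
      exact mul_mem (mul_mem (pow_mem (hgen 0) _) (pow_mem (hgen 1) _)) (pow_mem (hgen 2) _)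
  have hblock : ∀ v x, bk (el3 v x) = bk x := by decide +kernel
  have horb : ∀ i j : Fin 9, bk i = bk j → ∃ a : Fin 3, (e (bk i) ^ a.val) i = j := by decide +kernel
  refine le_antisymm ?_ ?_ <;> intro p hp
  · refine ⟨Equiv.Perm.mem_alternatingGroup.1 hp.1, ?_⟩
    have one : ∀ q : P9, q ∈ Subgroup.normalizer (J₀ : Set P9) → ∀ i j, bk i = bk j → bk (q i) = bk (q j) := by
      intro q hq i j hij
      obtain ⟨a, ha⟩ := horb i j hij
      obtain ⟨v, hv⟩ := (hmem _).1 ((Subgroup.mem_normalizer_iff.1 hq _).1 (pow_mem (hgen (bk i)) a.val))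
      have := congrArg (fun r : P9 => r (q i)) hv
      simp only [Equiv.Perm.mul_apply] at this
      rw [show q⁻¹ (q i) = i from q.symm_apply_apply i, ha] at this
      rw [← this, hblock]
    intro i j
    refine ⟨one p hp.2 i j, fun h => ?_⟩
    simpa using one p⁻¹ (inv_mem hp.2) _ _ h
  · refine ⟨Equiv.Perm.mem_alternatingGroup.2 hp.1, ?_⟩
    have one : ∀ q : P9, q ∈ H9 → ∀ x ∈ J₀, q * x * q⁻¹ ∈ J₀ := by
      intro q hq x hx
      rw [hJ₀] at hx
      have hle : Subgroup.closure {Equiv.swap (0 : Fin 9) 1 * Equiv.swap 1 2,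
          Equiv.swap (3 : Fin 9) 4 * Equiv.swap 4 5, Equiv.swap (6 : Fin 9) 7 * Equiv.swap 7 8} ≤
          J₀.comap (MulAut.conj q).toMonoidHom := by
        rw [Subgroup.closure_le]
        intro y hy
        have key : ∀ k, q * e k * q⁻¹ ∈ J₀ := by
          intro k
          obtain ⟨l, s, h, -⟩ := conj_e hq k
          rw [h, mul_inv_cancel_right]
          cases s
          · exact inv_mem (hgen l)
          · exact hgen l
        rcases hy with rfl | rfl | rfl
        · exact key 0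
        · exact key 1
        · exact key 2
      exact hle hx
    refine Subgroup.mem_normalizer_iff.2 fun x => ⟨one p hp x, fun hx => ?_⟩
    have := one p⁻¹ (H9.inv_mem hp) _ hx
    simpa [mul_assoc] using this

/-- The hypotheses of S3339 in the form used here. -/
structure Pre (J : Subgroup G) (φ : H9 →* G) : Prop where
  inj : Function.Injective φ
  range_eq : φ.range = Subgroup.normalizer (J : Set G)
  base : J = Subgroup.closure {φ (E 0), φ (E 1), φ (E 2)}

theorem exists_pre (J : Subgroup G) (hJcomm : IsMulCommutative J) (hJexp : ∀ a ∈ J, a ^ 3 = 1)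
    (hJcard : Nat.card J = 27) (H : Subgroup G) (hH : H = Subgroup.normalizer (J : Set G))
    (J₀ : Subgroup P9) (hJ₀ : J₀ = Subgroup.closure {Equiv.swap (0 : Fin 9) 1 * Equiv.swap 1 2,
      Equiv.swap (3 : Fin 9) 4 * Equiv.swap 4 5, Equiv.swap (6 : Fin 9) 7 * Equiv.swap 7 8})
    (eH : H ≃* ↥(alternatingGroup (Fin 9) ⊓ Subgroup.normalizer (J₀ : Set P9))) :
    ∃ φ : H9 →* G, Pre J φ := by
  let ε : H ≃* H9 := eH.trans (MulEquiv.subgroupCongr (model_eq J₀ hJ₀))
  let φ : H9 →* G := H.subtype.comp ε.symm.toMonoidHom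
  have hinj : Function.Injective φ := H.subtype_injective.comp ε.symm.injective
  have hr : φ.range = Subgroup.normalizer (J : Set G) := by
    rw [← hH]
    ext g
    exact ⟨by rintro ⟨y, rfl⟩; exact (ε.symm y).2, fun hg => ⟨ε ⟨g, hg⟩, by simp [φ]⟩⟩
  have hmem : ∀ j ∈ J, ∃ v, φ (J3 v) = j := by
    intro j hj
    obtain ⟨h, rfl⟩ : j ∈ φ.range := hr ▸ Subgroup.le_normalizer hj
    obtain ⟨z, rfl⟩ := exists_el h
    have h3 : el z * el z * el z = 1 := by
      have := hJexp _ hj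
      rw [← map_pow, ← map_one φ] at this
      have := congrArg Subtype.val (hinj this)
      simpa [pow_succ, elH] using this
    have hc : ∀ g : H9, el z * ((g : P9) * el z * (g : P9)⁻¹) = (g : P9) * el z * (g : P9)⁻¹ * el z := by
      intro g
      have hg : φ (g * elH z * g⁻¹) ∈ J := by
        rw [map_mul, map_mul, map_inv]
        exact (Subgroup.mem_normalizer_iff.1 (hr.le ⟨g, rfl⟩) _).1 hj
      have := congrArg Subtype.val (hJcomm.is_comm.comm (⟨_, hj⟩ : J) ⟨_, hg⟩)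
      simp only [Subgroup.coe_mul, ← map_mul] at this
      simpa [elH] using congrArg Subtype.val (hinj this)
    have hz := unique_aux z h3 (by
      intro g hg
      simp only [List.mem_cons, List.not_mem_nil, or_false] at hg
      rcases hg with rfl | rfl | rfl | rfl
      · exact hc ⟨_, rep_mem iR⟩
      · exact hc tw
      · exact hc ⟨_, el3_mem (1, 0, 0)⟩
      · exact hc ⟨_, el3_mem (0, 1, 0)⟩)
    refine ⟨z.2, congrArg φ (Subtype.ext ?_)⟩
    show el3 z.2 = el z
    rw [el, hz, rep_one, one_mul]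
  choose f hf using hmem
  have hbij : Function.Bijective fun j : J => f j j.2 := by
    haveI : Finite J := Nat.finite_of_card_ne_zero (by rw [hJcard]; norm_num)
    rw [Nat.bijective_iff_injective_and_card]
    exact ⟨fun a b h => Subtype.ext (by rw [← hf a a.2, ← hf b b.2, show f a a.2 = f b b.2 from h]),
      by rw [hJcard]; simp [Nat.card_eq_fintype_card]⟩
  have hJ3 : ∀ v, φ (J3 v) ∈ J := fun v => by
    obtain ⟨j, rfl⟩ := hbij.2 v
    rw [hf j j.2]
    exact j.2
  refine ⟨φ, hinj, hr, le_antisymm (fun j hj => ?_) ?_⟩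
  · obtain ⟨v, rfl⟩ : ∃ v, φ (J3 v) = j := ⟨f j hj, hf j hj⟩
    have e : J3 v = E 0 ^ v.1.val * E 1 ^ v.2.1.val * E 2 ^ v.2.2.val := Subtype.ext (J3_split v)
    rw [e, map_mul, map_mul, map_pow, map_pow, map_pow]
    exact mul_mem (mul_mem (pow_mem (Subgroup.subset_closure (by simp)) _)
      (pow_mem (Subgroup.subset_closure (by simp)) _)) (pow_mem (Subgroup.subset_closure (by simp)) _)
  · rw [Subgroup.closure_le]
    rintro x (rfl | rfl | rfl)
    · exact J3_gens.1 ▸ hJ3 _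
    · exact J3_gens.2.1 ▸ hJ3 _
    · exact J3_gens.2.2 ▸ hJ3 _

namespace Pre

variable {J : Subgroup G} {φ : H9 →* G} (h : Pre J φ)
include h

theorem memJ {j : G} : j ∈ J ↔ ∃ v, φ (J3 v) = j := by
  have hle : J ≤ Jhom.range.map φ := by
    rw [h.base, Subgroup.closure_le]
    rintro x (rfl | rfl | rfl)
    · exact ⟨_, ⟨Multiplicative.ofAdd (1, 0, 0), rfl⟩, congrArg φ J3_gens.1⟩
    · exact ⟨_, ⟨Multiplicative.ofAdd (0, 1, 0), rfl⟩, congrArg φ J3_gens.2.1⟩
    · exact ⟨_, ⟨Multiplicative.ofAdd (0, 0, 1), rfl⟩, congrArg φ J3_gens.2.2⟩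
  refine ⟨fun hj => ?_, ?_⟩
  · obtain ⟨_, ⟨v, rfl⟩, e⟩ := hle hj
    exact ⟨v.toAdd, e⟩
  · rintro ⟨v, rfl⟩
    rw [h.base, show J3 v = E 0 ^ v.1.val * E 1 ^ v.2.1.val * E 2 ^ v.2.2.val from Subtype.ext (J3_split v),
      map_mul, map_mul, map_pow, map_pow, map_pow]
    exact mul_mem (mul_mem (pow_mem (Subgroup.subset_closure (by simp)) _)
      (pow_mem (Subgroup.subset_closure (by simp)) _)) (pow_mem (Subgroup.subset_closure (by simp)) _)

theorem mem_J3 (v : Fin 3 × Fin 3 × Fin 3) : φ (J3 v) ∈ J := h.memJ.2 ⟨v, rfl⟩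

theorem J_comm : ∀ a ∈ J, ∀ b ∈ J, a * b = b * a := by
  intro a ha b hb
  obtain ⟨v, rfl⟩ := h.memJ.1 ha
  obtain ⟨w, rfl⟩ := h.memJ.1 hb
  rw [← map_mul, ← map_mul]
  refine congrArg φ (Subtype.ext ?_)
  show el3 v * el3 w = el3 w * el3 v
  rw [el3_group, el3_group, add_comm]

theorem J_exp : ∀ a ∈ J, a ^ 3 = 1 := by
  intro a ha
  obtain ⟨v, rfl⟩ := h.memJ.1 ha
  rw [← map_pow, ← map_one φ]
  refine congrArg φ (Subtype.ext ?_)
  show el3 v ^ 3 = 1
  rw [pow_succ, pow_two, el3_group, el3_group, (show ∀ v : Fin 3 × Fin 3 × Fin 3, v + v + v = 0 by decide +kernel) v,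
    show el3 0 = 1 by decide +kernel]

theorem J_card : Nat.card J = 27 := by
  have e : Function.Bijective fun v => (⟨φ (J3 v), h.mem_J3 v⟩ : J) :=
    ⟨fun v w e => J3_injective (h.inj (congrArg Subtype.val e)), fun j => by
      obtain ⟨v, hv⟩ := h.memJ.1 j.2
      exact ⟨v, Subtype.ext hv⟩⟩
  rw [← Nat.card_eq_of_bijective _ e]
  simp [Nat.card_eq_fintype_card]

theorem mem_norm {g : G} : g ∈ Subgroup.normalizer (J : Set G) ↔ ∃ z, φ (elH z) = g := by
  rw [← h.range_eq]
  exact ⟨fun ⟨y, hy⟩ => by obtain ⟨z, rfl⟩ := exists_el y; exact ⟨z, hy⟩, fun ⟨z, hz⟩ => ⟨_, hz⟩⟩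

theorem elH_mem (y : H9) : φ y ∈ Subgroup.normalizer (J : Set G) := h.range_eq.le ⟨y, rfl⟩

theorem comm_iff {a b : H9} : φ a * φ b = φ b * φ a ↔ (a : P9) * b = b * a := by
  rw [← map_mul, ← map_mul, h.inj.eq_iff, Subtype.ext_iff]
  rfl

theorem card_norm : Nat.card (Subgroup.normalizer (J : Set G)) = 648 := by
  rw [← h.range_eq, ← Nat.card_congr (MonoidHom.ofInjective h.inj).toEquiv, card_H9]

/-- Elements of the normaliser in the base. -/
theorem mem_of_index {z : Fin 24 × Fin 3 × Fin 3 × Fin 3} (hz : z.1 = i1) : φ (elH z) ∈ J := by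
  rw [show elH z = J3 z.2 from Subtype.ext (by show el z = el3 z.2; rw [el, hz, rep_one, one_mul])]
  exact h.mem_J3 _

theorem J_p : IsPGroup 3 J := fun a => ⟨1, Subtype.ext (by simpa using h.J_exp _ a.2)⟩

end Pre

section Sub

/-- A subgroup of the base cut out by an additive character. -/
def cut (l : Fin 3 × Fin 3 × Fin 3 →+ Fin 3) (φ : H9 →* G) : Subgroup G :=
  ((AddMonoidHom.toMultiplicative l).ker.map Jhom).map φ

theorem mem_cut {l : Fin 3 × Fin 3 × Fin 3 →+ Fin 3} {φ : H9 →* G} {g : G} :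
    g ∈ cut l φ ↔ ∃ v, l v = 0 ∧ φ (J3 v) = g := by
  constructor
  · rintro ⟨_, ⟨v, hv, rfl⟩, rfl⟩
    exact ⟨v.toAdd, hv, rfl⟩
  · rintro ⟨v, hv, rfl⟩
    exact ⟨_, ⟨Multiplicative.ofAdd v, hv, rfl⟩, rfl⟩

/-- `v ↦ v₀ + v₁`. -/
def l01 : Fin 3 × Fin 3 × Fin 3 →+ Fin 3 := AddMonoidHom.mk' (fun v => v.1 + v.2.1) (by decide +kernel)

/-- `v ↦ v₀ + v₁ + v₂`. -/
def l012 : Fin 3 × Fin 3 × Fin 3 →+ Fin 3 :=
  AddMonoidHom.mk' (fun v => v.1 + v.2.1 + v.2.2) (by decide +kernel)

/-- `v ↦ v₀`. -/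
def l0 : Fin 3 × Fin 3 × Fin 3 →+ Fin 3 := AddMonoidHom.mk' (fun v => v.1) (by decide +kernel)

end Sub

section Facts

theorem tw_sq : (tw : P9) * tw = 1 := by decide +kernel

theorem tw_conj : ∀ v, ∃ v', (tw : P9) * el3 v * tw = el3 v' := by decide +kernel

theorem tw_inverts : ∀ v, ∃ a : Fin 3, (tw : P9) * el3 v * tw * el3 v = el3 (a, a, 0) := by decide +kernel

theorem tw_w : (tw : P9) * el3 (1, 1, 0) = el3 (1, 1, 0) * tw := by decide +kernel

theorem w_eq : el3 (1, 1, 0) = e 0 * e 1 := by decide +kernel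

theorem x_eq : el3 (1, 1, 1) = e 0 * e 1 * e 2 := by decide +kernel

theorem e_eq : el3 (1, 0, 0) = e 0 := by decide +kernel

theorem diag_small : ∀ i : Fin 24, (i = iR ∨ i = iR2) → ∀ v,
    el3 v * rep i = rep i * el3 v → ∃ a : Fin 3, v = (a, a, a) := by decide +kernel

theorem el3_comm (v w : Fin 3 × Fin 3 × Fin 3) : el3 v * el3 w = el3 w * el3 v := by
  rw [el3_group, el3_group, add_comm]

theorem rep_comm {z : Fin 24 × Fin 3 × Fin 3 × Fin 3} {v : Fin 3 × Fin 3 × Fin 3}
    (h : el z * el3 v = el3 v * el z) : rep z.1 * el3 v = el3 v * rep z.1 := by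
  rw [el, mul_assoc, el3_comm, ← mul_assoc, ← mul_assoc] at h
  exact mul_right_cancel h

theorem diag_aux : ∀ z : Fin 24 × Fin 3 × Fin 3 × Fin 3, (z.1 = iR ∨ z.1 = iR2) → ∀ v,
    el3 v * el z = el z * el3 v → ∃ a : Fin 3, v = (a, a, a) :=
  fun z hz v h => diag_small z.1 hz v (rep_comm h.symm).symm

theorem xP_comm_small : ∀ i, rep i * el3 (1, 1, 1) = el3 (1, 1, 1) * rep i → ∀ v, l012 v = 0 →
    ∃ a : Fin 3, rep i * el3 v = el3 (a, a, a) * el3 v * rep i := by decide +kernel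

theorem xP_comm : ∀ z, el z * el3 (1, 1, 1) = el3 (1, 1, 1) * el z → ∀ v, l012 v = 0 →
    ∃ a : Fin 3, el z * el3 v = el3 (a, a, a) * (el3 v * el z) := by
  intro z hz v hv
  obtain ⟨a, ha⟩ := xP_comm_small z.1 (rep_comm hz) v hv
  refine ⟨a, ?_⟩
  rw [el, mul_assoc, el3_comm, ← mul_assoc, ha]
  simp only [mul_assoc]

theorem xP_center_small : ∀ i, rep i * el3 (1, 1, 1) = el3 (1, 1, 1) * rep i →
    ∀ a : Fin 3, rep i * el3 (1, 0, 0) = el3 (a, a, a) * el3 (1, 0, 0) * rep i → i = i1 := by decide +kernel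

theorem xP_center_base : ∀ v, (∃ a : Fin 3, el3 v * rep iR = el3 (a, a, a) * (rep iR * el3 v)) →
    l012 v = 0 := by decide +kernel

theorem xP_center : ∀ z, el z * el3 (1, 1, 1) = el3 (1, 1, 1) * el z →
    (∀ g ∈ [el3 (1, 0, 0), rep iR], ∃ a : Fin 3, el z * g = el3 (a, a, a) * (g * el z)) →
    z.1 = i1 ∧ l012 z.2 = 0 := by
  intro z hz hg
  obtain ⟨a, ha⟩ := hg (el3 (1, 0, 0)) List.mem_cons_self
  have h1 : z.1 = i1 := by
    refine xP_center_small z.1 (rep_comm hz) a (mul_right_cancel (b := el3 z.2) ?_)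
    rw [mul_assoc, el3_comm, ← mul_assoc]
    exact ha.trans (by simp only [el, mul_assoc])
  obtain ⟨b, hb⟩ := hg (rep iR) (List.mem_cons_of_mem _ List.mem_cons_self)
  refine ⟨h1, xP_center_base z.2 ⟨b, ?_⟩⟩
  rwa [el, h1, rep_one, one_mul] at hb

theorem xP_cube : ∀ z, el z * el3 (1, 1, 1) = el3 (1, 1, 1) * el z →
    ∃ a : Fin 3, el z * el z * el z = el3 (a, a, a) := by decide +kernel

theorem plane_small : ∀ i, rep i * el3 (1, 1, 1) = el3 (1, 1, 1) * rep i →
    rep i * el3 (1, 2, 0) = el3 (1, 2, 0) * rep i → i = i1 := by decide +kernel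

theorem plane_cent : ∀ z, el z * el3 (1, 1, 1) = el3 (1, 1, 1) * el z →
    el z * el3 (1, 2, 0) = el3 (1, 2, 0) * el z → z.1 = i1 :=
  fun z h1 h2 => plane_small z.1 (rep_comm h1) (rep_comm h2)

theorem w'_conj : ∃ i : Fin 24, rep i * el3 (1, 1, 0) = el3 (1, 2, 0) * rep i := by decide +kernel

theorem diag_pow : ∀ a : Fin 3, el3 (a, a, a) = el3 (1, 1, 1) ^ a.val := by decide +kernel

theorem pair_pow : ∀ a : Fin 3, el3 (a, a, 0) = el3 (1, 1, 0) ^ a.val := by decide +kernel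

end Facts

namespace Pre

variable {J : Subgroup G} {φ : H9 →* G} (h : Pre J φ) [Finite G]
include h

theorem cw_le (hcore : pPrimeCore 3 (Subgroup.centralizer ({φ (J3 (1, 1, 0))} : Set G)) = ⊥) :
    Subgroup.centralizer ({φ (J3 (1, 1, 0))} : Set G) ≤ Subgroup.normalizer (J : Set G) := by
  haveI : Fact (Nat.Prime 3) := ⟨Nat.prime_three⟩
  set w := φ (J3 (1, 1, 0)) with hw
  set X := Subgroup.centralizer ({w} : Set G) with hX
  have hJX : J ≤ X := fun a ha => Subgroup.mem_centralizer_singleton_iff.2 (h.J_comm _ ha _ (h.mem_J3 _))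
  have hτX : φ tw ∈ X := Subgroup.mem_centralizer_singleton_iff.2 (h.comm_iff.2 tw_w)
  have htt : φ tw * φ tw = 1 := by
    rw [← map_mul, ← map_one φ]
    exact congrArg φ (Subtype.ext tw_sq)
  have hti : (φ tw)⁻¹ = φ tw := inv_eq_of_mul_eq_one_right htt
  set J' := J.subgroupOf X with hJ'
  have hJ'c : Nat.card J' = 27 := by
    rw [hJ', Nat.card_congr (Subgroup.subgroupOfEquivOfLe hJX).toEquiv, h.J_card]
  have hNJ : ∀ n : X, n ∈ Subgroup.normalizer (J' : Set X) ↔ (n : G) ∈ Subgroup.normalizer (J : Set G) := by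
    intro n
    refine ⟨fun hn => Subgroup.mem_normalizer_iff.2 fun y => ⟨fun hy => ?_, fun hy => ?_⟩, fun hn => ?_⟩
    · exact (Subgroup.mem_normalizer_iff.1 hn ⟨y, hJX hy⟩).1 hy
    · have hy' := hJX hy
      have := X.mul_mem (X.mul_mem (X.inv_mem n.2) hy') n.2
      have hyX : y ∈ X := by simpa [mul_assoc] using this
      exact (Subgroup.mem_normalizer_iff.1 hn ⟨y, hyX⟩).2 hy
    · refine Subgroup.mem_normalizer_iff.2 fun y => ?_
      rw [hJ', Subgroup.mem_subgroupOf, Subgroup.mem_subgroupOf, Subgroup.coe_mul, Subgroup.coe_mul,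
        Subgroup.coe_inv]
      exact Subgroup.mem_normalizer_iff.1 hn _
  have hcase : ∀ n ∈ Subgroup.normalizer (J' : Set X), n ∈ J' ∨ n * ⟨φ tw, hτX⟩ ∈ J' := by
    intro n hn
    obtain ⟨z, hz⟩ := h.mem_norm.1 ((hNJ n).1 hn)
    have hc : el z * (e 0 * e 1) = e 0 * e 1 * el z := by
      rw [← w_eq]
      refine (h.comm_iff (a := elH z) (b := J3 (1, 1, 0))).1 ?_
      rw [hz]
      exact Subgroup.mem_centralizer_singleton_iff.1 n.2
    rcases cent_w z hc with e | e
    · exact Or.inl (show (n : G) ∈ J from hz ▸ h.mem_of_index e)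
    · refine Or.inr (show (n : G) * φ tw ∈ J from ?_)
      obtain ⟨v', hv'⟩ := tw_conj z.2
      rw [← hz, ← map_mul, show elH z * tw = J3 v' from Subtype.ext (by
        show el z * (tw : P9) = el3 v'
        rw [← hv', el, e]; rfl)]
      exact h.mem_J3 _
  have hidx : ¬ 3 ∣ J'.index := by
    refine not_dvd_index_of_normalizer (n := 3) (by rw [hJ'c]; norm_num) fun hd => ?_
    have hle : Nat.card (Subgroup.normalizer (J' : Set X)) ≤ 54 := by
      haveI := Fintype.ofFinite (Subgroup.normalizer (J' : Set X))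
      classical
      let f : Subgroup.normalizer (J' : Set X) → J' × Bool := fun n =>
        if hn : (n : X) ∈ J' then (⟨n, hn⟩, true)
        else (⟨_, (hcase n n.2).resolve_left hn⟩, false)
      have hf : Function.Injective f := by
        intro a b hab
        simp only [f] at hab
        split_ifs at hab with ha hb
        all_goals simp only [Prod.mk.injEq, Subtype.mk.injEq, Bool.false_eq_true, Bool.true_eq_false,
          and_true, and_false] at hab
        all_goals first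
          | exact Subtype.ext hab
          | exact Subtype.ext (mul_right_cancel hab)
      have := Nat.card_le_card_of_injective f hf
      rwa [Nat.card_prod, hJ'c, Nat.card_eq_fintype_card (α := Bool), Fintype.card_bool] at this
    have := Nat.le_of_dvd Nat.card_pos hd
    norm_num at this
    omega
  set A := (cut l01 φ).subgroupOf X with hA
  have hn := normal_of_inertia_two J' (fun a ha b hb => Subtype.ext (h.J_comm _ ha _ hb))
    (fun a ha => Subtype.ext (h.J_exp _ ha)) hJ'c hidx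
    (w := (⟨w, hJX (h.mem_J3 _)⟩ : X)) (h.mem_J3 _)
    (fun e' => absurd (J3_injective (h.inj ((congrArg Subtype.val e').trans
      (by rw [show J3 0 = 1 from Subtype.ext (by decide +kernel), map_one] :
        (1 : G) = φ (J3 0))))) (by decide))
    (fun g => Subtype.ext (Subgroup.mem_centralizer_singleton_iff.1 g.2).symm)
    A (fun hwA => by
      obtain ⟨v, hv, e'⟩ := mem_cut.1 (Subgroup.mem_subgroupOf.1 hwA)
      rw [J3_injective (h.inj e')] at hv
      exact absurd hv (by decide))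
    (fun j hj => by
      obtain ⟨v, hv⟩ := h.memJ.1 hj
      change φ (J3 v) = (j : G) at hv
      obtain ⟨k, hk⟩ := (show ∀ v, ∃ k : Fin 3, l01 (v + (k, k, 0)) = 0 by decide +kernel) v
      refine ⟨k.val, Subgroup.mem_subgroupOf.2 (mem_cut.2 ⟨_, hk, ?_⟩)⟩
      rw [Subgroup.coe_mul, Subgroup.coe_pow, ← hv, ← map_pow, ← map_mul]
      refine congrArg φ (Subtype.ext ?_)
      show el3 (v + (k, k, 0)) = el3 v * el3 (1, 1, 0) ^ k.val
      rw [← el3_group, pair_pow])
    (τ := (⟨φ tw, hτX⟩ : X)) ((hNJ _).2 (h.elH_mem tw))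
    (fun j hj => by
      obtain ⟨v, hv⟩ := h.memJ.1 hj
      change φ (J3 v) = (j : G) at hv
      obtain ⟨a, ha⟩ := tw_inverts v
      refine Subgroup.mem_zpowers_iff.2 ⟨(a.val : ℤ), Subtype.ext ?_⟩
      rw [zpow_natCast]
      show w ^ a.val = φ tw * (j : G) * (φ tw)⁻¹ * j
      rw [hti, ← hv, hw, ← map_pow, ← map_mul, ← map_mul, ← map_mul]
      refine congrArg φ (Subtype.ext ?_)
      show el3 (1, 1, 0) ^ a.val = (tw : P9) * el3 v * tw * el3 v
      rw [ha]
      exact (pair_pow a).symm)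
    hcase hcore
  intro g hg
  exact (hNJ ⟨g, hg⟩).1 (by rw [Subgroup.normalizer_eq_top_iff.2 hn]; trivial)

theorem cJ_eq (hcw : Subgroup.centralizer ({φ (J3 (1, 1, 0))} : Set G) ≤ Subgroup.normalizer (J : Set G)) :
    Subgroup.centralizer (J : Set G) = J := by
  refine le_antisymm (fun g hg => ?_) fun a ha => Subgroup.mem_centralizer_iff.2 fun b hb => h.J_comm b hb a ha
  obtain ⟨z, rfl⟩ := h.mem_norm.1
    (hcw (Subgroup.mem_centralizer_singleton_iff.2 (Subgroup.mem_centralizer_iff.1 hg _ (h.mem_J3 _)).symm))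
  obtain ⟨v, hv⟩ := eq_el3 (p := el z) fun k => by
    refine (h.comm_iff (a := elH z) (b := E k)).1 (Subgroup.mem_centralizer_iff.1 hg _ ?_).symm
    rw [h.base]
    refine Subgroup.subset_closure ?_
    fin_cases k <;> simp
  rw [show elH z = J3 v from Subtype.ext hv]
  exact h.mem_J3 v

/-- The Sylow three-subgroup inside the normaliser. -/
theorem normalizes {R : Subgroup G} (hR : Nat.card R = 27)
    (hRc : ∀ a ∈ R, ∀ b ∈ R, a * b = b * a)
    (hle : ∀ r ∈ R, ∃ z, φ (elH z) = r ∧ el z * el3 (1, 1, 1) = el3 (1, 1, 1) * el z) : R = J := by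
  haveI : Fact (Nat.Prime 3) := ⟨Nat.prime_three⟩
  by_contra hne
  obtain ⟨r, hr, hrJ⟩ : ∃ r ∈ R, r ∉ J := by
    by_contra hc
    push Not at hc
    exact hne (Subgroup.eq_of_le_of_card_ge hc (by rw [hR, h.J_card]))
  obtain ⟨z, rfl, hz⟩ := hle r hr
  have hz1 : z.1 = iR ∨ z.1 = iR2 := by
    rcases cent_x_index z (by rw [← x_eq]; exact hz) with e | e | e
    · exact absurd (h.mem_of_index e) hrJ
    · exact Or.inl e
    · exact Or.inr e
  classical
  choose f hf hfc using hle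
  let F : R → Fin 3 × Fin 3 := fun s =>
    (if (f s s.2).1 = i1 then 0 else if (f s s.2).1 = iR then 1 else 2, (f s s.2).2.1)
  have hFinj : Function.Injective F := by
    intro s t hst
    simp only [F, Prod.mk.injEq] at hst
    have e1 : (f s s.2).1 = (f t t.2).1 := by
      rcases cent_x_index _ (by rw [← x_eq]; exact hfc s s.2) with a | a | a <;>
        rcases cent_x_index _ (by rw [← x_eq]; exact hfc t t.2) with b | b | b <;>
        simp [a, b, i1, iR, iR2] at hst ⊢
    set u := (f t t.2).2 - (f s s.2).2 with hu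
    have hprod : (s : G)⁻¹ * t = φ (J3 u) := by
      rw [← hf s s.2, ← hf t t.2, ← map_inv, ← map_mul]
      refine congrArg φ (Subtype.ext ?_)
      show (el (f s s.2))⁻¹ * el (f t t.2) = el3 u
      rw [inv_mul_eq_iff_eq_mul, el, el, e1, mul_assoc, el3_group, hu, add_sub_cancel]
    have hmem : φ (J3 u) ∈ R := hprod ▸ R.mul_mem (R.inv_mem s.2) t.2
    obtain ⟨a, ha⟩ := diag_aux z hz1 u ((h.comm_iff (a := J3 u) (b := elH z)).1 (hRc _ hmem _ hr))
    have h0 : u.1 = 0 := by rw [hu, Prod.fst_sub, hst.2, sub_self]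
    rw [ha] at h0
    obtain rfl : a = 0 := h0
    have hs : f t t.2 = f s s.2 := Prod.ext e1.symm (sub_eq_zero.1 (hu ▸ ha))
    exact Subtype.ext (by rw [← hf s s.2, ← hf t t.2, hs])
  have := Nat.card_le_card_of_injective F hFinj
  rw [hR] at this
  simp [Nat.card_eq_fintype_card] at this

theorem card_cent_x : Nat.card (Subgroup.normalizer (J : Set G) ⊓
    Subgroup.centralizer ({φ (J3 (1, 1, 1))} : Set G) : Subgroup G) = 81 := by
  rw [← cent_x_card, ← Nat.card_eq_fintype_card]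
  refine (Nat.card_eq_of_bijective (fun z => ⟨φ (elH z.1), h.elH_mem _,
    Subgroup.mem_centralizer_singleton_iff.2 (h.comm_iff.2 (by
      show el z.1 * el3 (1, 1, 1) = el3 (1, 1, 1) * el z.1
      rw [x_eq]; exact z.2))⟩) ⟨fun a b e => Subtype.ext (elH_bijective.1 (h.inj (congrArg Subtype.val e))),
    fun g => ?_⟩).symm
  obtain ⟨z, hz⟩ := h.mem_norm.1 g.2.1
  refine ⟨⟨z, ?_⟩, Subtype.ext hz⟩
  rw [← x_eq]
  exact (h.comm_iff (a := elH z) (b := J3 (1, 1, 1))).1
    (hz.symm ▸ Subgroup.mem_centralizer_singleton_iff.1 g.2.2)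

/-- A subgroup between `J` and the centraliser of the long element normalises only inside. -/
theorem conj_J {g : G} {P : Subgroup G} (hJP : J ≤ P)
    (hPx : P ≤ Subgroup.normalizer (J : Set G) ⊓ Subgroup.centralizer ({φ (J3 (1, 1, 1))} : Set G))
    (hg : g ∈ Subgroup.normalizer (P : Set G)) : g ∈ Subgroup.normalizer (J : Set G) := by
  set R := J.map (MulAut.conj g).toMonoidHom with hR
  have hRP : R ≤ P := by
    rintro _ ⟨j, hj, rfl⟩
    exact (Subgroup.mem_normalizer_iff.1 hg j).1 (hJP hj)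
  have hRJ : R = J := h.normalizes
    (by rw [hR, ← Nat.card_congr (J.equivMapOfInjective _ (MulAut.conj g).injective).toEquiv, h.J_card])
    (by
      rintro _ ⟨a, ha, rfl⟩ _ ⟨b, hb, rfl⟩
      rw [← map_mul, ← map_mul, h.J_comm a ha b hb])
    (fun r hr => by
      obtain ⟨h1, h2⟩ := hPx (hRP hr)
      obtain ⟨z, hz⟩ := h.mem_norm.1 h1
      exact ⟨z, hz, (h.comm_iff (a := elH z) (b := J3 (1, 1, 1))).1
        (hz.symm ▸ Subgroup.mem_centralizer_singleton_iff.1 h2)⟩)
  refine Subgroup.mem_normalizer_iff.2 fun j => ⟨fun hj => hRJ ▸ ⟨j, hj, rfl⟩, fun hj => ?_⟩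
  rw [← hRJ] at hj
  obtain ⟨i, hi, e⟩ := hj
  have e' : g * i * g⁻¹ = g * j * g⁻¹ := e
  rwa [← mul_left_cancel (mul_right_cancel e')]

theorem sylow_bound : ¬ 3 ^ 5 ∣ Nat.card G := by
  haveI : Fact (Nat.Prime 3) := ⟨Nat.prime_three⟩
  intro hd
  set P := Subgroup.normalizer (J : Set G) ⊓ Subgroup.centralizer ({φ (J3 (1, 1, 1))} : Set G) with hP
  have hJP : J ≤ P := le_inf Subgroup.le_normalizer fun a ha =>
    Subgroup.mem_centralizer_singleton_iff.2 (h.J_comm _ ha _ (h.mem_J3 _))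
  have hc : Nat.card P = 3 ^ 4 := by rw [h.card_cent_x]; norm_num
  refine not_dvd_index_of_normalizer hc (fun hd' => ?_) ?_
  · have := hd'.trans (Subgroup.card_dvd_of_le
      (fun g hg => h.conj_J hJP le_rfl hg : Subgroup.normalizer (P : Set G) ≤ Subgroup.normalizer (J : Set G)))
    rw [h.card_norm] at this
    norm_num at this
  · have e := P.index_mul_card
    rw [hc] at e
    rw [← e, pow_succ, mul_comm P.index] at hd
    exact (Nat.mul_dvd_mul_iff_left (by norm_num)).1 hd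

theorem cx_le (hcw : Subgroup.centralizer ({φ (J3 (1, 1, 0))} : Set G) ≤ Subgroup.normalizer (J : Set G))
    (hcore : pPrimeCore 3 (Subgroup.centralizer ({φ (J3 (1, 1, 1))} : Set G)) = ⊥) :
    Subgroup.centralizer ({φ (J3 (1, 1, 1))} : Set G) ≤ Subgroup.normalizer (J : Set G) := by
  haveI : Fact (Nat.Prime 3) := ⟨Nat.prime_three⟩
  set x := φ (J3 (1, 1, 1)) with hx
  set X := Subgroup.centralizer ({x} : Set G) with hX
  set P := Subgroup.normalizer (J : Set G) ⊓ X with hP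
  have hJX : J ≤ X := fun a ha => Subgroup.mem_centralizer_singleton_iff.2 (h.J_comm _ ha _ (h.mem_J3 _))
  have hJP : J ≤ P := le_inf Subgroup.le_normalizer hJX
  set P' := P.subgroupOf X with hP'
  have hc : Nat.card P' = 3 ^ 4 := by
    rw [hP', Nat.card_congr (Subgroup.subgroupOfEquivOfLe inf_le_right).toEquiv, h.card_cent_x]
    norm_num
  have hidx : ¬ 3 ∣ P'.index := by
    intro hd
    refine h.sylow_bound ?_
    have e := P'.index_mul_card
    rw [hc] at e
    have h1 : 3 ^ 5 ∣ Nat.card X := by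
      rw [← e, pow_succ, mul_comm P'.index]
      exact mul_dvd_mul_left _ hd
    exact h1.trans X.card_subgroup_dvd_card
  let S : Sylow 3 X := (IsPGroup.of_card hc).toSylow hidx
  have memP : ∀ p : X, p ∈ (S : Subgroup X) →
      ∃ z, φ (elH z) = p ∧ el z * el3 (1, 1, 1) = el3 (1, 1, 1) * el z := by
    intro p hp
    obtain ⟨z, hz⟩ := h.mem_norm.1 (Subgroup.mem_subgroupOf.1 hp).1
    exact ⟨z, hz, (h.comm_iff (a := elH z) (b := J3 (1, 1, 1))).1
      (hz.symm ▸ Subgroup.mem_centralizer_singleton_iff.1 p.2)⟩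
  let xX : X := ⟨x, hJX (h.mem_J3 _)⟩
  have hdiag : ∀ (u : X) (a : Fin 3), (u : G) = φ (J3 (a, a, a)) → u ∈ Subgroup.zpowers xX := by
    intro u a hu
    refine Subgroup.mem_zpowers_iff.2 ⟨(a.val : ℤ), Subtype.ext ?_⟩
    rw [zpow_natCast, Subgroup.coe_pow, hu]
    show φ (J3 (1, 1, 1)) ^ a.val = _
    rw [← map_pow]
    exact congrArg φ (Subtype.ext (diag_pow a).symm)
  have comm_rel : ∀ (p q : X) (y y' : H9) (a : Fin 3), φ y = p → φ y' = q →
      (y : P9) * y' = el3 (a, a, a) * ((y' : P9) * y) → p * q * p⁻¹ * q⁻¹ ∈ Subgroup.zpowers xX := by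
    intro p q y y' a hp hq he
    refine hdiag _ a ?_
    rw [Subgroup.coe_mul, Subgroup.coe_mul, Subgroup.coe_mul, Subgroup.coe_inv, Subgroup.coe_inv, ← hp,
      ← hq, ← map_inv, ← map_inv, ← map_mul, ← map_mul, ← map_mul]
    refine congrArg φ (Subtype.ext ?_)
    show (y : P9) * y' * (y : P9)⁻¹ * (y' : P9)⁻¹ = el3 (a, a, a)
    rw [he]; group
  have hcutX : cut l012 φ ≤ X := fun g hg => by
    obtain ⟨v, -, rfl⟩ := mem_cut.1 hg
    exact hJX (h.mem_J3 v)
  have hA9 : Nat.card ((cut l012 φ).subgroupOf X) = 9 := by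
    rw [Nat.card_congr (Subgroup.subgroupOfEquivOfLe hcutX).toEquiv,
      ← Nat.card_eq_of_bijective (fun v : {v // l012 v = 0} => (⟨φ (J3 v.1), mem_cut.2 ⟨v.1, v.2, rfl⟩⟩ : cut l012 φ))
        ⟨fun a b e => Subtype.ext (J3_injective (h.inj (congrArg Subtype.val e))), fun g => by
          obtain ⟨v, hv, e⟩ := mem_cut.1 g.2
          exact ⟨⟨v, hv⟩, Subtype.ext e⟩⟩, Nat.card_eq_fintype_card]
    decide +kernel
  obtain ⟨iw, hiw⟩ := w'_conj
  have hw' : Subgroup.centralizer ({φ (J3 (1, 2, 0))} : Set G) ≤ Subgroup.normalizer (J : Set G) := by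
    have := cent_conj_le hcw (h.elH_mem ⟨rep iw, rep_mem iw⟩)
    rwa [← map_inv, ← map_mul, ← map_mul, show (⟨rep iw, rep_mem iw⟩ : H9) * J3 (1, 1, 0) *
      (⟨rep iw, rep_mem iw⟩ : H9)⁻¹ = J3 (1, 2, 0) from Subtype.ext (mul_inv_eq_iff_eq_mul.2 hiw)] at this
  have htop := eq_top_of_heisenberg S (show Nat.card P' = 81 by rw [hc]; norm_num) (x := xX)
    (Subtype.ext (h.J_exp _ (h.mem_J3 _)))
    (fun e' => absurd (J3_injective (h.inj ((congrArg Subtype.val e').trans
      (by rw [show J3 0 = 1 from Subtype.ext (by decide +kernel), map_one] :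
        (1 : G) = φ (J3 0))))) (by decide))
    (fun g => Subtype.ext (Subgroup.mem_centralizer_singleton_iff.1 g.2).symm)
    ((cut l012 φ).subgroupOf X) (Subgroup.mem_subgroupOf.2 (mem_cut.2 ⟨_, by decide +kernel, rfl⟩))
    (fun a ha => by
      obtain ⟨v, -, hv⟩ := mem_cut.1 (Subgroup.mem_subgroupOf.1 ha)
      exact Subgroup.mem_subgroupOf.2 (hJP (hv ▸ h.mem_J3 v)))
    hA9
    (fun p hp a ha => by
      obtain ⟨z, hz, hzc⟩ := memP p hp
      obtain ⟨v, hv, hva⟩ := mem_cut.1 (Subgroup.mem_subgroupOf.1 ha)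
      obtain ⟨c, hc'⟩ := xP_comm z hzc v hv
      exact comm_rel p a (elH z) (J3 v) c hz hva hc')
    (fun p hp hq => by
      obtain ⟨z, hz, hzc⟩ := memP p hp
      have hR : φ ⟨rep iR, rep_mem iR⟩ ∈ P := ⟨h.elH_mem _, Subgroup.mem_centralizer_singleton_iff.2
        (h.comm_iff.2 (show rep iR * el3 (1, 1, 1) = el3 (1, 1, 1) * rep iR by decide +kernel))⟩
      have key : ∀ (y : H9) (hy : φ y ∈ P), ∃ a : Fin 3, el z * (y : P9) = el3 (a, a, a) * ((y : P9) * el z) := by
        intro y hy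
        obtain ⟨i, hi3, hi⟩ := pow_three_cases (z := xX) (Subtype.ext (h.J_exp _ (h.mem_J3 _)))
          (hq ⟨_, hy.2⟩ hy)
        refine ⟨⟨i, hi3⟩, ?_⟩
        have e1 := congrArg Subtype.val hi
        simp only [Subgroup.coe_mul, Subgroup.coe_inv, Subgroup.coe_pow, ← hz, xX, hx, ← map_pow, ← map_inv,
          ← map_mul] at e1
        have e2 : el3 (1, 1, 1) ^ i = el z * (y : P9) * (el z)⁻¹ * (y : P9)⁻¹ := congrArg Subtype.val (h.inj e1)
        rw [diag_pow, e2]; group
      obtain ⟨e1, e2⟩ := xP_center z hzc fun g hg => by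
        simp only [List.mem_cons, List.not_mem_nil, or_false] at hg
        rcases hg with rfl | rfl
        · exact key (J3 (1, 0, 0)) (hJP (h.mem_J3 _))
        · exact key ⟨rep iR, rep_mem iR⟩ hR
      refine Subgroup.mem_subgroupOf.2 (mem_cut.2 ⟨z.2, e2, ?_⟩)
      rw [← hz]
      exact congrArg φ (Subtype.ext (by show el3 z.2 = el z; rw [el, e1, rep_one, one_mul])))
    (fun p hp => by
      obtain ⟨z, hz, hzc⟩ := memP p hp
      obtain ⟨a, ha⟩ := xP_cube z hzc
      refine hdiag _ a ?_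
      rw [Subgroup.coe_pow, ← hz, ← map_pow]
      refine congrArg φ (Subtype.ext ?_)
      show el z ^ 3 = el3 (a, a, a)
      rw [← ha, pow_succ, pow_two])
    (fun g hg => by
      refine Subgroup.mem_subgroupOf.2 ⟨?_, g.2⟩
      have hC : Subgroup.centralizer ((cut l012 φ : Subgroup G) : Set G) ≤ J := by
        intro c hc'
        have c1 := Subgroup.mem_centralizer_iff.1 hc' _ (mem_cut.2 ⟨(1, 1, 1), by decide +kernel, rfl⟩)
        have c2 := Subgroup.mem_centralizer_iff.1 hc' _ (mem_cut.2 ⟨(1, 2, 0), by decide +kernel, rfl⟩)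
        obtain ⟨z, rfl⟩ := h.mem_norm.1 (hw' (Subgroup.mem_centralizer_singleton_iff.2 c2.symm))
        exact h.mem_of_index (plane_cent z ((h.comm_iff (a := elH z) (b := J3 (1, 1, 1))).1 c1.symm)
          ((h.comm_iff (a := elH z) (b := J3 (1, 2, 0))).1 c2.symm))
      have hJC : J ≤ Subgroup.centralizer ((cut l012 φ : Subgroup G) : Set G) := fun a ha =>
        Subgroup.mem_centralizer_iff.2 fun b hb => by
          obtain ⟨v, -, rfl⟩ := mem_cut.1 hb
          exact h.J_comm _ (h.mem_J3 v) a ha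
      refine mem_normalizer_of_cent hJC (hC.trans Subgroup.le_normalizer) h.J_p
        (fun R hR _ => Subgroup.card_le_of_le (hR.trans hC)) ?_
      refine Subgroup.mem_normalizer_iff.2 fun a => ⟨fun ha => ?_, fun ha => ?_⟩
      · exact (Subgroup.mem_normalizer_iff.1 hg ⟨a, hcutX ha⟩).1 ha
      · have := X.mul_mem (X.mul_mem (X.inv_mem g.2) (hcutX ha)) g.2
        have haX : a ∈ X := by simpa [mul_assoc] using this
        exact (Subgroup.mem_normalizer_iff.1 hg ⟨a, haX⟩).2 ha)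
    hcore
  intro g hg
  have : (⟨g, hg⟩ : X) ∈ (S : Subgroup X) := by rw [htop]; trivial
  exact (Subgroup.mem_subgroupOf.1 this).1

end Pre

/-- The local data from the hypotheses of S3339. -/
theorem exists_loc [Finite G] (J : Subgroup G) (hJcomm : IsMulCommutative J) (hJexp : ∀ a ∈ J, a ^ 3 = 1)
    (hJcard : Nat.card J = 27) (H : Subgroup G) (hH : H = Subgroup.normalizer (J : Set G))
    (J₀ : Subgroup P9) (hJ₀ : J₀ = Subgroup.closure {Equiv.swap (0 : Fin 9) 1 * Equiv.swap 1 2,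
      Equiv.swap (3 : Fin 9) 4 * Equiv.swap 4 5, Equiv.swap (6 : Fin 9) 7 * Equiv.swap 7 8})
    (eH : H ≃* ↥(alternatingGroup (Fin 9) ⊓ Subgroup.normalizer (J₀ : Set P9)))
    (hcores : ∀ x ∈ H, orderOf x = 3 → Cfsg.pPrimeCore 3 (Subgroup.centralizer ({x} : Set G)) = ⊥) :
    ∃ φ : H9 →* G, Loc J φ := by
  obtain ⟨φ, h⟩ := exists_pre J hJcomm hJexp hJcard H hH J₀ hJ₀ eH
  have hc : ∀ v, v ≠ 0 → Cfsg.pPrimeCore 3 (Subgroup.centralizer ({φ (J3 v)} : Set G)) = ⊥ := fun v hv =>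
    hcores _ (hH ▸ h.elH_mem _) (orderOf_three (h.J_exp _ (h.mem_J3 v)) fun e => hv (J3_injective (h.inj
      (e.trans (by rw [show J3 0 = 1 from Subtype.ext (by decide +kernel), map_one])))))
  have hcw := h.cw_le (hc _ (by decide))
  have hcx := h.cx_le hcw (hc _ (by decide))
  refine ⟨φ, h.inj, h.range_eq, h.base, h.cJ_eq hcw, h.sylow_bound, ?_, ?_⟩
  · rwa [show E 0 * E 1 = J3 (1, 1, 0) from Subtype.ext w_eq.symm]
  · rwa [show E 0 * E 1 * E 2 = J3 (1, 1, 1) from Subtype.ext x_eq.symm]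

/-- The reverse direction: `Loc` gives `Pre`. -/
theorem Pre.of_loc {J : Subgroup G} {φ : H9 →* G} (L : Loc J φ) : Pre J φ :=
  ⟨L.inj, L.range_eq, L.base⟩

end Cfsg.Agent.A9Local55
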