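import Mathlib
import Cfsg.Agent.Lib.S9Model37
import Cfsg.Agent.Lib.CoxeterTypeA

/-!
The frame of the centraliser `3 × S₆` of the third cycle (S3343).
-/

set_option autoImplicit false

namespace Cfsg.Agent.S9Six37

open Equiv
open Cfsg.Agent.S9Model37 (P9 W C1 C2 C3 D1 D2 D3 Tau Base Six)

abbrev P6 := Equiv.Perm (Fin 6)

/-- The images of the adjacent transpositions under an outer automorphism. -/
def outerGen : Fin 5 → P6 :=
  ![swap 0 1 * swap 2 3 * swap 4 5, swap 0 3 * swap 1 4 * swap 2 5, swap 0 1 * swap 2 4 * swap 3 5,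
    swap 0 5 * swap 1 4 * swap 2 3, swap 0 1 * swap 2 5 * swap 3 4]

theorem outer_liftable : CoxeterMatrix.IsLiftable (CoxeterMatrix.A 5) outerGen := by
  unfold CoxeterMatrix.IsLiftable
  decide +kernel

theorem outer_words :
    List.map (fun l : List (Fin 5) => (l.map outerGen).prod)
      [[0, 2, 4], [1, 0, 3, 2, 1, 4, 3], [0, 2, 3, 2, 4, 3, 2], [1, 0, 2, 1, 4], [0, 3, 2, 4, 3]] =
    [swap 0 1, swap 1 2, swap 2 3, swap 3 4, swap 4 5] := by decide +kernel

theorem exists_outer :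
    ∃ θ : P6 ≃* P6, θ (swap 0 1 * swap 1 2) = outerGen 0 * outerGen 1 := by
  let e : CoxeterTypeA.W 5 ≃* P6 :=
    MulEquiv.ofBijective (CoxeterTypeA.toPerm 5) (CoxeterTypeA.toPerm_bijective 5)
  let g : P6 →* P6 :=
    ((CoxeterTypeA.sys 5).lift ⟨outerGen, outer_liftable⟩).comp e.symm.toMonoidHom
  have hg : ∀ i : Fin 5, g (swap i.castSucc i.succ) = outerGen i := by
    intro i
    have h : e.symm (swap i.castSucc i.succ) = (CoxeterTypeA.sys 5).simple i := by
      rw [MulEquiv.symm_apply_eq]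
      exact (CoxeterTypeA.toPerm_simple 5 i).symm
    simp only [g, MonoidHom.coe_comp, Function.comp_apply, MulEquiv.coe_toMonoidHom, h]
    exact (CoxeterTypeA.sys 5).lift_apply_simple outer_liftable i
  have hmem : ∀ i : Fin 5, outerGen i ∈ g.range := fun i => ⟨_, hg i⟩
  have hall : ∀ i : Fin 5, swap i.castSucc i.succ ∈ g.range := by
    have hlist : ∀ l : List (Fin 5), (l.map outerGen).prod ∈ g.range := fun l => by
      refine list_prod_mem fun x hx => ?_
      obtain ⟨k, -, rfl⟩ := List.mem_map.1 hx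
      exact hmem k
    have hw : ∀ σ ∈ [swap (0 : Fin 6) 1, swap 1 2, swap 2 3, swap 3 4, swap 4 5], σ ∈ g.range := by
      intro σ hσ
      rw [← outer_words, List.mem_map] at hσ
      obtain ⟨l, -, rfl⟩ := hσ
      exact hlist l
    intro i
    refine hw _ ?_
    fin_cases i <;> decide +kernel
  have hsur : Function.Surjective g := by
    intro σ
    have h : σ ∈ Submonoid.closure (Set.range fun i : Fin 5 => swap i.castSucc i.succ) := by
      rw [Equiv.Perm.mclosure_swap_castSucc_succ]; trivial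
    exact (Submonoid.closure_le.2 (by rintro _ ⟨i, rfl⟩; exact hall i) :
      Submonoid.closure _ ≤ g.range.toSubmonoid) h
  refine ⟨MulEquiv.ofBijective g ((Finite.surjective_iff_bijective).1 hsur), ?_⟩
  rw [MulEquiv.ofBijective_apply, map_mul]
  exact congrArg₂ (· * ·) (hg 0) (hg 1)

/-- The standard values. -/
def cA : P6 := swap 0 1 * swap 1 2
def cB : P6 := swap 3 4 * swap 4 5
def tA : P6 := swap 0 1
def tB : P6 := swap 3 4
def tT : P6 := swap 0 3 * swap 1 4 * swap 2 5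

theorem three_cases : ∀ a : P6, a * a * a = 1 → a ≠ 1 →
    ∃ g : P6, g * a = cA * g ∨ g * a = outerGen 0 * outerGen 1 * g := by decide +kernel

theorem second_step : ∀ a : P6, a * a * a = 1 → a * cA = cA * a → a ≠ 1 → a ≠ cA → a ≠ cA * cA →
    ∀ b : P6, b * b = 1 → b * cA * b = cA * cA → b * a = a * b →
      (a = cB ∨ a = cB * cB) ∧ (b = tA ∨ b = swap 1 2 ∨ b = swap 0 2) := by decide +kernel

theorem third_step : ∀ b : P6, b * b = 1 → b * cA = cA * b → b * cB * b = cB * cB →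
    b = tB ∨ b = swap 4 5 ∨ b = swap 3 5 := by decide +kernel

theorem flip_step : ∀ a ∈ [cB, cB * cB], ∀ b ∈ [tA, swap 1 2, swap 0 2],
    ∀ d ∈ [tB, swap 4 5, swap 3 5],
    ∃ i : Fin 3, ∃ j : Fin 3, ∃ k : Fin 2,
      (cA ^ (i : ℕ) * cB ^ (j : ℕ) * tB ^ (k : ℕ)) * cA =
          cA * (cA ^ (i : ℕ) * cB ^ (j : ℕ) * tB ^ (k : ℕ)) ∧
        (cA ^ (i : ℕ) * cB ^ (j : ℕ) * tB ^ (k : ℕ)) * a =
          cB * (cA ^ (i : ℕ) * cB ^ (j : ℕ) * tB ^ (k : ℕ)) ∧
        (cA ^ (i : ℕ) * cB ^ (j : ℕ) * tB ^ (k : ℕ)) * b =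
          tA * (cA ^ (i : ℕ) * cB ^ (j : ℕ) * tB ^ (k : ℕ)) ∧
        (cA ^ (i : ℕ) * cB ^ (j : ℕ) * tB ^ (k : ℕ)) * d =
          tB * (cA ^ (i : ℕ) * cB ^ (j : ℕ) * tB ^ (k : ℕ)) := by decide +kernel

theorem last_step : ∀ T : P6, T * T = 1 → T * cA = cB * T → T * tA = tB * T → T = tT := by
  decide +kernel

/-- The relations among the five images. -/
structure Rel {M : Type*} [Group M] (a₁ a₂ b₁ b₂ T : M) : Prop where
  a1 : a₁ * a₁ * a₁ = 1
  a2 : a₂ * a₂ * a₂ = 1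
  aa : a₁ * a₂ = a₂ * a₁
  b1 : b₁ * b₁ = 1
  b2 : b₂ * b₂ = 1
  i1 : b₁ * a₁ * b₁ = a₁ * a₁
  i2 : b₂ * a₂ * b₂ = a₂ * a₂
  c12 : b₁ * a₂ = a₂ * b₁
  c21 : b₂ * a₁ = a₁ * b₂
  tt : T * T = 1
  ta : T * a₁ = a₂ * T
  tb : T * b₁ = b₂ * T
  n1 : a₁ ≠ 1
  n2 : a₂ ≠ 1
  n12 : a₂ ≠ a₁
  n12' : a₂ ≠ a₁ * a₁

theorem Rel.map {M N : Type*} [Group M] [Group N] {a₁ a₂ b₁ b₂ T : M} (h : Rel a₁ a₂ b₁ b₂ T)
    (g : M →* N) (hg : Function.Injective g) : Rel (g a₁) (g a₂) (g b₁) (g b₂) (g T) := by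
  constructor <;> (try simp only [← map_mul]) <;> (try rw [← map_one g]) <;>
    first
    | apply congrArg g
    | apply hg.ne
  exacts [h.a1, h.a2, h.aa, h.b1, h.b2, h.i1, h.i2, h.c12, h.c21, h.tt, h.ta, h.tb, h.n1, h.n2,
    h.n12, h.n12']

theorem conj_apply_eq {M : Type*} [Group M] {g a b : M} (h : g * a = b * g) :
    MulAut.conj g a = b := by
  rw [MulAut.conj_apply, h, mul_inv_cancel_right]

theorem normal_form {a₁ a₂ b₁ b₂ T : P6} (h : Rel a₁ a₂ b₁ b₂ T) :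
    ∃ ψ : P6 ≃* P6, ψ a₁ = cA ∧ ψ a₂ = cB ∧ ψ b₁ = tA ∧ ψ b₂ = tB ∧ ψ T = tT := by
  obtain ⟨g, hg⟩ := three_cases a₁ h.a1 h.n1
  obtain ⟨θ, hθ⟩ := exists_outer
  obtain ⟨ψ₀, h0⟩ : ∃ ψ₀ : P6 ≃* P6, ψ₀ a₁ = cA := by
    rcases hg with hg | hg
    · exact ⟨MulAut.conj g, conj_apply_eq hg⟩
    · refine ⟨(MulAut.conj g : P6 ≃* P6).trans θ.symm, ?_⟩
      rw [MulEquiv.trans_apply, conj_apply_eq hg, MulEquiv.symm_apply_eq]
      exact hθ.symm
  have k := h.map ψ₀.toMonoidHom ψ₀.injective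
  simp only [MulEquiv.coe_toMonoidHom, h0] at k
  obtain ⟨ha, hb⟩ := second_step _ k.a2 k.aa.symm k.n2 k.n12 k.n12' _ k.b1 k.i1 k.c12
  have hd : ψ₀ b₂ = tB ∨ ψ₀ b₂ = swap 4 5 ∨ ψ₀ b₂ = swap 3 5 := by
    refine third_step _ k.b2 k.c21 ?_
    rcases ha with e | e
    · rw [← e]; exact k.i2
    · have e2 : ψ₀ a₂ * ψ₀ a₂ = cB := by rw [e]; decide +kernel
      calc ψ₀ b₂ * cB * ψ₀ b₂
          = (ψ₀ b₂ * ψ₀ a₂ * ψ₀ b₂) * (ψ₀ b₂ * ψ₀ a₂ * ψ₀ b₂) := by
            rw [← e2]; simp only [mul_assoc, ← mul_assoc (ψ₀ b₂) (ψ₀ b₂), k.b2, one_mul]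
        _ = ψ₀ a₂ * ψ₀ a₂ * (ψ₀ a₂ * ψ₀ a₂) := by rw [k.i2]
        _ = cB * cB := by rw [e2]
  obtain ⟨i, j, l, g1, g2, g3, g4⟩ := flip_step (ψ₀ a₂) (by simpa using ha) (ψ₀ b₁)
    (by simpa using hb) (ψ₀ b₂) (by simpa using hd)
  refine ⟨ψ₀.trans (MulAut.conj (cA ^ (i : ℕ) * cB ^ (j : ℕ) * tB ^ (l : ℕ))), ?_, ?_, ?_, ?_, ?_⟩
  · rw [MulEquiv.trans_apply, h0]; exact conj_apply_eq g1
  · exact conj_apply_eq g2
  · exact conj_apply_eq g3
  · exact conj_apply_eq g4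
  · have k' := h.map (ψ₀.trans (MulAut.conj (cA ^ (i : ℕ) * cB ^ (j : ℕ) * tB ^ (l : ℕ)))).toMonoidHom
      (MulEquiv.injective _)
    simp only [MulEquiv.coe_toMonoidHom, MulEquiv.trans_apply, h0, conj_apply_eq g1,
      conj_apply_eq g2, conj_apply_eq g3, conj_apply_eq g4] at k'
    exact last_step _ k'.tt k'.ta k'.tb

variable {G : Type*} [Group G] [Finite G] {J : Subgroup G} {φ : W →* G}

theorem w_rel : Rel C1 C2 D1 D2 Tau := by
  constructor <;> first | (apply Subtype.ext; decide +kernel) | (intro e; revert e; decide +kernel)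

theorem c3_comm : (Commute C1 C3 ∧ Commute C2 C3 ∧ Commute D1 C3 ∧ Commute D2 C3 ∧ Commute Tau C3) ∧
    C3 * C3 * C3 = 1 ∧ C3 ≠ 1 := by
  refine ⟨⟨?_, ?_, ?_, ?_, ?_⟩, ?_, ?_⟩ <;>
    first | (apply Subtype.ext; decide +kernel) | (intro e; revert e; decide +kernel)

theorem base_elems : Function.Injective fun v : Fin 3 × Fin 3 × Fin 3 =>
    S9Model37.c1 ^ (v.1 : ℕ) * S9Model37.c2 ^ (v.2.1 : ℕ) * S9Model37.c3 ^ (v.2.2 : ℕ) := by
  unfold Function.Injective
  decide +kernel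

theorem base_eq_closure (h : Base W J φ) : J = Subgroup.closure {φ C1, φ C2, φ C3} := by
  have hle : S9Model37.base ≤ W := by
    rw [S9Model37.base, Subgroup.closure_le]
    rintro x (rfl | rfl | rfl)
    exacts [C1.2, C2.2, C3.2]
  have hs : S9Model37.base.subgroupOf W = Subgroup.closure {C1, C2, C3} := by
    apply Subgroup.map_injective W.subtype_injective
    rw [Subgroup.map_subgroupOf_eq_of_le hle, MonoidHom.map_closure]
    simp only [Set.image_insert_eq, Set.image_singleton]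
    rfl
  rw [← h.base_eq, hs, MonoidHom.map_closure]
  simp only [Set.image_insert_eq, Set.image_singleton]

theorem gens_mem (h : Base W J φ) : φ C1 ∈ J ∧ φ C2 ∈ J ∧ φ C3 ∈ J := by
  rw [base_eq_closure h]
  refine ⟨?_, ?_, ?_⟩ <;> apply Subgroup.subset_closure <;> simp

theorem J_comm (h : Base W J φ) {a b : G} (ha : a ∈ J) (hb : b ∈ J) : a * b = b * a := by
  rw [← h.cJ] at ha
  exact (Subgroup.mem_centralizer_iff.1 ha b hb).symm

theorem J_cube (h : Base W J φ) {a : G} (ha : a ∈ J) : a ^ 3 = 1 := by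
  have hall : ∀ x, x ∈ Subgroup.closure ({φ C1, φ C2, φ C3} : Set G) → x ^ 3 = 1 := by
    intro x hx
    induction hx using Subgroup.closure_induction with
    | mem y hy =>
      rcases hy with rfl | rfl | rfl <;>
        · rw [pow_succ, pow_two, ← map_mul, ← map_mul, ← map_one φ]
          refine congrArg φ ?_
          first | exact w_rel.a1 | exact w_rel.a2 | exact c3_comm.2.1
    | one => exact one_pow 3
    | mul y z hy hz iy iz =>
      rw [← base_eq_closure h] at hy hz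
      rw [Commute.mul_pow (J_comm h hy hz), iy, iz, one_mul]
    | inv y _ iy => rw [inv_pow, iy, inv_one]
  exact hall a (by rwa [← base_eq_closure h])

theorem exists_six (h : Base W J φ)
    (f : ↥(Subgroup.centralizer ({φ C3} : Set G)) →* Equiv.Perm (Fin 6))
    (hf : Function.Surjective f)
    (hker : f.ker = (Subgroup.zpowers (φ C3)).subgroupOf _) :
    ∃ ι : Equiv.Perm (Fin 6) →* G, Six φ ι := by
  obtain ⟨m1, m2, m3⟩ := gens_mem h
  revert f
  set C : Subgroup G := Subgroup.centralizer ({φ C3} : Set G) with hCdef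
  intro f hf hker
  have hJC : J ≤ C := fun a ha =>
    Subgroup.mem_centralizer_singleton_iff.2 (J_comm h ha m3)
  have memC : ∀ {w : W}, Commute w C3 → φ w ∈ C := fun hw =>
    Subgroup.mem_centralizer_singleton_iff.2 (hw.map φ).eq
  obtain ⟨⟨q1, q2, q3, q4, q5⟩, h33, h31⟩ := c3_comm
  have e3 : φ C3 ∈ C := hJC m3
  have ho : orderOf (φ C3) = 3 := by
    haveI : Fact (Nat.Prime 3) := ⟨Nat.prime_three⟩
    exact orderOf_eq_prime (J_cube h m3) (fun e => h31 (h.inj (e.trans (map_one φ).symm)))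
  -- orders
  have hCcard : Nat.card C = 3 * 720 := by
    rw [Subgroup.card_eq_card_quotient_mul_card_subgroup f.ker,
      Nat.card_congr (QuotientGroup.quotientKerEquivOfSurjective f hf).toEquiv, hker,
      Nat.card_congr (Subgroup.subgroupOfEquivOfLe (Subgroup.zpowers_le.2 e3)).toEquiv,
      Nat.card_zpowers, ho, Nat.card_perm, Nat.card_fin]
    decide
  let J' : Subgroup C := J.subgroupOf C
  have hJ' : Nat.card J' = 27 := by
    rw [Nat.card_congr (Subgroup.subgroupOfEquivOfLe hJC).toEquiv]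
    have hge : 27 ≤ Nat.card J := by
      let g : Fin 3 × Fin 3 × Fin 3 → J := fun v =>
        ⟨φ (C1 ^ (v.1 : ℕ) * C2 ^ (v.2.1 : ℕ) * C3 ^ (v.2.2 : ℕ)), by
          simp only [map_mul, map_pow]
          exact mul_mem (mul_mem (pow_mem m1 _) (pow_mem m2 _)) (pow_mem m3 _)⟩
      have hg : Function.Injective g := fun u v e => base_elems <| by
        simpa [C1, C2, C3] using congrArg Subtype.val (h.inj (Subtype.mk.inj e))
      simpa [Nat.card_eq_fintype_card] using Nat.card_le_card_of_injective g hg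
    have hdvd : Nat.card J ∣ 2 ^ 4 * 5 * 3 ^ 3 := by
      have := Subgroup.card_dvd_of_le hJC
      rwa [hCcard] at this
    haveI : Fact (Nat.Prime 3) := ⟨Nat.prime_three⟩
    obtain ⟨n, hn⟩ := IsPGroup.iff_card.1 (show IsPGroup 3 J from fun a =>
      ⟨1, Subtype.ext (by simpa using J_cube h a.2)⟩)
    rw [hn] at hdvd hge
    have hn3 : 3 ^ n ∣ 3 ^ 3 :=
      (Nat.Coprime.pow_left n (by decide : Nat.Coprime 3 (2 ^ 4 * 5))).dvd_of_dvd_mul_left hdvd
    have := Nat.le_of_dvd (by norm_num) hn3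
    omega
  have hidx : J'.index = 80 := by
    have := Subgroup.card_mul_index J'
    rw [hJ', hCcard] at this
    omega
  haveI : IsMulCommutative J' := ⟨⟨fun a b => Subtype.ext <| Subtype.ext <| J_comm h a.2 b.2⟩⟩
  haveI : J'.FiniteIndex := inferInstance
  open scoped IsMulCommutative in
  let t : C →* J' := MonoidHom.transfer (MonoidHom.id J')
  have ht3 : ∀ x : J', x ^ 3 = 1 := fun x => Subtype.ext <| Subtype.ext <| by
    simpa using J_cube h x.2
  have hinv : ∀ c : C, c * c = 1 → t c = 1 := fun c hc => by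
    have h2 : t c ^ 2 = 1 := by rw [pow_two, ← map_mul, hc, map_one]
    have := ht3 (t c)
    rwa [pow_succ, h2, one_mul] at this
  let e : C := ⟨φ C3, e3⟩
  have hte : (t e : C) = e ^ 80 := by
    have key : ∀ (k : ℕ) (g : C), g⁻¹ * e ^ k * g ∈ J' → g⁻¹ * e ^ k * g = e ^ k := by
      intro k g _
      have hc : Commute e g := Subtype.ext (Subgroup.mem_centralizer_singleton_iff.1 g.2).symm
      rw [mul_assoc, (hc.pow_left k).eq, inv_mul_cancel_left]
    open scoped IsMulCommutative in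
    show ((MonoidHom.transfer (MonoidHom.id J') e : J') : C) = e ^ 80
    rw [MonoidHom.transfer_eq_pow _ _ key]
    simp [hidx]
  have hek : ∀ x ∈ f.ker, ∃ k : ℤ, x = e ^ k := fun x hx => by
    rw [hker, Subgroup.mem_subgroupOf] at hx
    obtain ⟨k, hk⟩ := Subgroup.mem_zpowers_iff.1 hx
    exact ⟨k, Subtype.ext (by simpa [e] using hk.symm)⟩
  have hee : e ∈ f.ker := by
    rw [hker, Subgroup.mem_subgroupOf]; exact Subgroup.mem_zpowers _
  -- `f` maps the kernel of the transfer bijectively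
  have hsur : ∀ σ : P6, ∃ c : C, t c = 1 ∧ f c = σ := by
    intro σ
    induction σ using Equiv.Perm.swap_induction_on with
    | one => exact ⟨1, map_one t, map_one f⟩
    | swap_mul σ x y hxy ih =>
      obtain ⟨c, hc1, hc2⟩ := ih
      obtain ⟨l, hl⟩ := hf (swap x y)
      obtain ⟨k, hk⟩ := hek (l * l) (by rw [MonoidHom.mem_ker, map_mul, hl, swap_mul_self])
      refine ⟨l ^ 3 * c, ?_, ?_⟩
      · rw [map_mul, hc1, mul_one]
        refine hinv _ ?_
        rw [← pow_add, show 3 + 3 = 2 * 3 from rfl, pow_mul, pow_two, hk, ← zpow_natCast,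
          ← zpow_mul, mul_comm, zpow_mul, zpow_natCast]
        have he : e ^ 3 = 1 := Subtype.ext (by simpa [e] using J_cube h m3)
        rw [he, one_zpow]
      · rw [map_mul, map_pow, hl, hc2, pow_succ, pow_two, swap_mul_self, one_mul]
  have hbij : Function.Bijective (f.comp t.ker.subtype) := by
    refine ⟨(injective_iff_map_eq_one _).2 fun x hx => ?_, fun σ => ?_⟩
    · obtain ⟨k, hk⟩ := hek x.1 hx
      have hx1 : ((t x.1 : J') : C) = 1 := by rw [MonoidHom.mem_ker.1 x.2]; rfl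
      rw [hk, map_zpow, Subgroup.coe_zpow, hte, ← zpow_natCast, ← zpow_mul,
        ← orderOf_dvd_iff_zpow_eq_one, Subgroup.orderOf_mk, ho] at hx1
      apply Subtype.ext
      rw [hk, Subgroup.coe_one, ← orderOf_dvd_iff_zpow_eq_one, Subgroup.orderOf_mk, ho]
      omega
    · obtain ⟨c, hc1, hc2⟩ := hsur σ
      exact ⟨⟨c, hc1⟩, hc2⟩
  let s : P6 ≃* t.ker := (MulEquiv.ofBijective _ hbij).symm
  let ι₀ : P6 →* C := t.ker.subtype.comp s.toMonoidHom
  have hι₀ : ∀ c : C, t c = 1 → ι₀ (f c) = c := fun c hc => by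
    have : s (f c) = ⟨c, hc⟩ := by rw [MulEquiv.symm_apply_eq]; rfl
    simp [ι₀, this]
  have hfι : ∀ σ, f (ι₀ σ) = σ := fun σ => (MulEquiv.ofBijective _ hbij).apply_symm_apply σ
  -- the five elements
  let x1 : C := ⟨φ C1, memC q1⟩
  let x2 : C := ⟨φ C2, memC q2⟩
  let y1 : C := ⟨φ D1, memC q3⟩
  let y2 : C := ⟨φ D2, memC q4⟩
  let z : C := ⟨φ Tau, memC q5⟩
  have R0 := w_rel.map φ h.inj
  have R : Rel x1 x2 y1 y2 z :=
    { a1 := Subtype.ext R0.a1, a2 := Subtype.ext R0.a2, aa := Subtype.ext R0.aa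
      b1 := Subtype.ext R0.b1, b2 := Subtype.ext R0.b2, i1 := Subtype.ext R0.i1
      i2 := Subtype.ext R0.i2, c12 := Subtype.ext R0.c12, c21 := Subtype.ext R0.c21
      tt := Subtype.ext R0.tt, ta := Subtype.ext R0.ta, tb := Subtype.ext R0.tb
      n1 := fun e => R0.n1 (congrArg Subtype.val e), n2 := fun e => R0.n2 (congrArg Subtype.val e)
      n12 := fun e => R0.n12 (congrArg Subtype.val e)
      n12' := fun e => R0.n12' (congrArg Subtype.val e) }
  have ty1 : t y1 = 1 := hinv _ R.b1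
  have ty2 : t y2 = 1 := hinv _ R.b2
  have tz : t z = 1 := hinv _ R.tt
  have tinv : ∀ x y : C, t y = 1 → y * x * y = x * x → t x = 1 := fun x y hy hxy => by
    have h2 := congrArg t hxy
    rw [map_mul, map_mul, map_mul, hy, one_mul, mul_one] at h2
    exact mul_right_cancel (h2.symm.trans (one_mul _).symm)
  have tx1 : t x1 = 1 := tinv _ _ ty1 R.i1
  have tx2 : t x2 = 1 := tinv _ _ ty2 R.i2
  let L := t.ker
  let R' : Rel (⟨x1, tx1⟩ : L) ⟨x2, tx2⟩ ⟨y1, ty1⟩ ⟨y2, ty2⟩ ⟨z, tz⟩ :=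
    { a1 := Subtype.ext R.a1, a2 := Subtype.ext R.a2, aa := Subtype.ext R.aa
      b1 := Subtype.ext R.b1, b2 := Subtype.ext R.b2, i1 := Subtype.ext R.i1
      i2 := Subtype.ext R.i2, c12 := Subtype.ext R.c12, c21 := Subtype.ext R.c21
      tt := Subtype.ext R.tt, ta := Subtype.ext R.ta, tb := Subtype.ext R.tb
      n1 := fun e => R.n1 (congrArg Subtype.val e), n2 := fun e => R.n2 (congrArg Subtype.val e)
      n12 := fun e => R.n12 (congrArg Subtype.val e)
      n12' := fun e => R.n12' (congrArg Subtype.val e) }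
  obtain ⟨ψ, p1, p2, p3, p4, p5⟩ := normal_form (R'.map _ hbij.1)
  let ι : P6 →* G := C.subtype.comp (ι₀.comp ψ.symm.toMonoidHom)
  have hval : ∀ (σ : P6) (c : C), t c = 1 → ψ (f c) = σ → ι σ = (c : G) := fun σ c hc hσ => by
    simp [ι, ← hσ, hι₀ c hc]
  refine ⟨ι, ⟨?_, fun σ => ?_, ?_, hval _ _ tx1 p1, hval _ _ tx2 p2, hval _ _ ty1 p3,
    hval _ _ ty2 p4, hval _ _ tz p5⟩⟩
  · show Function.Injective fun σ => ((ι₀ (ψ.symm σ) : C) : G)
    exact Subtype.val_injective.comp ((Function.LeftInverse.injective hfι).comp ψ.symm.injective)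
  · exact Subgroup.mem_centralizer_singleton_iff.1 (ι₀ (ψ.symm σ)).2
  · refine le_antisymm (fun c hc => ?_) (sup_le (Subgroup.zpowers_le.2 e3) ?_)
    · obtain ⟨k, hk⟩ := hek (⟨c, hc⟩ * (ι₀ (f ⟨c, hc⟩))⁻¹) (by
        rw [MonoidHom.mem_ker, map_mul, map_inv, hfι, mul_inv_cancel])
      rw [mul_inv_eq_iff_eq_mul] at hk
      have hc' := congrArg Subtype.val hk
      simp only [Subgroup.coe_mul, Subgroup.coe_zpow, e] at hc'
      rw [hc']
      exact Subgroup.mul_mem_sup (Subgroup.zpow_mem_zpowers _ _)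
        ⟨ψ (f ⟨c, hc⟩), by simp [ι]⟩
    · rintro _ ⟨σ, rfl⟩
      exact (ι₀ (ψ.symm σ)).2

end Cfsg.Agent.S9Six37
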