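import Mathlib
import Cfsg.Agent.Lib.A9Base59
import Cfsg.Agent.Lib.AltSixAut64
import Cfsg.Agent.Lib.S9Six37

/-!
# S3339: finite facts about the six moved points

The normaliser `3²:4` of a Sylow subgroup of `A₆`, and the embedding of `S₃ × S₆` in `S₉`.
-/

set_option autoImplicit false
set_option maxRecDepth 100000

namespace Cfsg.Agent.A9Local55

open Equiv Cfsg.Agent.A9Base59

abbrev P6 := Equiv.Perm (Fin 6)
abbrev P3 := Equiv.Perm (Fin 3)

/-- `(012)`. -/
def cA : P6 := swap 0 1 * swap 1 2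
/-- `(345)`. -/
def cB : P6 := swap 3 4 * swap 4 5
/-- `(0314)(25)`. -/
def uS : P6 := swap 0 3 * swap 3 1 * swap 1 4 * swap 2 5
/-- An element of order three of cycle type `3²`. -/
def dA : P6 := S9Six37.outerGen 0 * S9Six37.outerGen 1

theorem uS_facts : uS * cA = cB * uS ∧ uS * cB = cA * cA * uS ∧ Perm.sign uS = 1 ∧ Perm.sign cA = 1 ∧
    Perm.sign cB = 1 := by decide +kernel

theorem first_step : ∀ a : P6, a * a * a = 1 → a ≠ 1 →
    ∃ g : P6, g * a = cA * g ∨ g * a = dA * g := by decide +kernel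

theorem second_step : ∀ a : P6, a * a * a = 1 → a * cA = cA * a → a ≠ 1 → a ≠ cA → a ≠ cA * cA →
    (∃ g : P6, g * cA = a * g) → a = cB ∨ a = cB * cB := by decide +kernel

theorem flip_step : swap 4 5 * cA = cA * swap 4 5 ∧ swap 4 5 * (cB * cB) = cB * swap (4 : Fin 6) 5 := by
  decide +kernel

theorem third_step : ∀ v : P6, v * cA = cB * v → v * cB = cA * cA * v →
    ∃ i j : Fin 3, cA ^ i.val * cB ^ j.val * v = uS * (cA ^ i.val * cB ^ j.val) := by decide +kernel

theorem fix_step : ∀ g : P6, g * cA = cA * g → g * cB = cB * g → g * uS = uS * g → g = 1 := by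
  decide +kernel

theorem shift_step : ∀ i j : Fin 3,
    cA ^ i.val * cB ^ j.val * cA = cA * (cA ^ i.val * cB ^ j.val) ∧
      cA ^ i.val * cB ^ j.val * cB = cB * (cA ^ i.val * cB ^ j.val) := by decide +kernel

theorem gen_step : ∀ c : P6, Perm.sign c = 1 →
    (∀ i j : Fin 6, i.val / 3 = j.val / 3 ↔ (c i).val / 3 = (c j).val / 3) →
    ∃ i j : Fin 3, ∃ k : Fin 4, c = cA ^ i.val * cB ^ j.val * uS ^ k.val := by decide +kernel

/-- The nine points as three and six. -/
def fse : Fin 3 ⊕ Fin 6 ≃ Fin 9 := finSumFinEquiv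

/-- `S₃ × S₆` inside `S₉`. -/
def emb : P3 × P6 →* P9 :=
  (Equiv.permCongrHom fse).toMonoidHom.comp
    (Equiv.Perm.sumCongrHom (Fin 3) (Fin 6))

theorem emb_apply_inl (a : P3) (b : P6) (i : Fin 3) :
    emb (a, b) (fse (Sum.inl i)) = fse (Sum.inl (a i)) := by
  simp [emb, Equiv.permCongrHom]

theorem emb_apply_inr (a : P3) (b : P6) (i : Fin 6) :
    emb (a, b) (fse (Sum.inr i)) = fse (Sum.inr (b i)) := by
  simp [emb, Equiv.permCongrHom]

theorem emb_injective : Function.Injective emb :=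
  (Equiv.permCongrHom _).injective.comp Equiv.Perm.sumCongrHom_injective

theorem sign_emb (a : P3) (b : P6) : Perm.sign (emb (a, b)) = Perm.sign a * Perm.sign b := by
  show Perm.sign (Equiv.permCongr _ (Equiv.Perm.sumCongr a b)) = _
  rw [Perm.sign_permCongr, Perm.sign_sumCongr]

theorem bk_inl : ∀ i : Fin 3, bk (fse (Sum.inl i) : Fin 9) = 0 := by decide +kernel

theorem bk_inr : ∀ i : Fin 6, (bk (fse (Sum.inr i) : Fin 9)).val = 1 + i.val / 3 := by
  decide +kernel

theorem bk_inr_ne (i : Fin 6) : bk (fse (Sum.inr i) : Fin 9) ≠ 0 := fun h => by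
  have := bk_inr i
  rw [h] at this
  simp only [Fin.val_zero] at this
  omega

theorem emb_mem_N (a : P3) (b : P6) (h : Perm.sign a = Perm.sign b) : emb (a, b) ∈ N9 0 := by
  refine ⟨by rw [sign_emb, h, Int.units_mul_self], fun x => ?_⟩
  obtain ⟨y, rfl⟩ := fse.surjective x
  rcases y with i | i
  · rw [emb_apply_inl]
    exact ⟨fun _ => bk_inl _, fun _ => bk_inl i⟩
  · rw [emb_apply_inr]
    exact ⟨fun h => absurd h (bk_inr_ne i), fun h => absurd h (bk_inr_ne _)⟩

theorem emb_mem_H {a : P3} {b : P6} (h : Perm.sign a = Perm.sign b)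
    (hb : ∀ i j : Fin 6, i.val / 3 = j.val / 3 ↔ (b i).val / 3 = (b j).val / 3) : emb (a, b) ∈ H9 := by
  refine ⟨(emb_mem_N a b h).1, fun x y => ?_⟩
  obtain ⟨x, rfl⟩ := fse.surjective x
  obtain ⟨y, rfl⟩ := fse.surjective y
  rcases x with i | i <;> rcases y with j | j <;>
    simp only [emb_apply_inl, emb_apply_inr, Fin.ext_iff, bk_inl, bk_inr, Fin.val_zero]
  · exact ⟨fun h => absurd h (by omega), fun h => absurd h (by omega)⟩
  · exact ⟨fun h => absurd h (by omega), fun h => absurd h (by omega)⟩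
  · have := hb i j
    omega

theorem exists_emb {p : P9} (hp : p ∈ N9 0) : ∃ ab : P3 × P6, emb ab = p ∧ Perm.sign ab.1 = Perm.sign ab.2 := by
  let σ : Perm (Fin 3 ⊕ Fin 6) := (Equiv.permCongrHom fse).symm p
  have hσ : σ ∈ (Equiv.Perm.sumCongrHom (Fin 3) (Fin 6)).range := by
    refine Equiv.Perm.mem_sumCongrHom_range_of_perm_mapsTo_inl ?_
    rintro _ ⟨i, rfl⟩
    have e : σ (Sum.inl i) = fse.symm (p (fse (Sum.inl i))) := rfl
    rw [e]
    obtain ⟨y, hy⟩ := fse.surjective (p (fse (Sum.inl i)))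
    rw [← hy, Equiv.symm_apply_apply]
    rcases y with j | j
    · exact ⟨j, rfl⟩
    · exfalso
      have := (hp.2 _).1 (bk_inl i)
      rw [← hy] at this
      exact bk_inr_ne j this
  obtain ⟨⟨a, b⟩, hab⟩ := hσ
  have e : emb (a, b) = p := by
    show Equiv.permCongrHom _ (Equiv.Perm.sumCongrHom _ _ (a, b)) = p
    rw [hab]
    exact (Equiv.permCongrHom _).apply_symm_apply p
  refine ⟨(a, b), e, ?_⟩
  have := hp.1
  rw [← e, sign_emb, mul_eq_one_iff_eq_inv] at this
  rw [this, Int.units_inv_eq_self]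

theorem emb_mem_H_iff {a : P3} {b : P6} (h : emb (a, b) ∈ H9) (i j : Fin 6) :
    i.val / 3 = j.val / 3 ↔ (b i).val / 3 = (b j).val / 3 := by
  have := h.2 (fse (Sum.inr i)) (fse (Sum.inr j))
  simp only [emb_apply_inr, Fin.ext_iff, bk_inr] at this
  omega

/-- The three gens of the local subgroup `3²:4`, and the two extra elements. -/
theorem emb_vals : emb (1, cA) = e 1 ∧ emb (1, cB) = e 2 ∧ emb (swap 0 1 * swap 1 2, 1) = e 0 := by
  decide +kernel

theorem blocks_gens : (∀ i j : Fin 6, i.val / 3 = j.val / 3 ↔ (uS i).val / 3 = (uS j).val / 3) ∧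
    ∀ i j : Fin 6, i.val / 3 = j.val / 3 ↔
      ((swap 1 2 : P6) i).val / 3 = ((swap 1 2 : P6) j).val / 3 := by decide +kernel

theorem P3_cases : ∀ a : P3, ∃ i : Fin 3, a = (swap 0 1 * swap 1 2) ^ i.val ∨
    a = (swap 0 1 * swap 1 2) ^ i.val * swap 1 2 := by decide +kernel

theorem P3_vals : Perm.sign (swap 0 1 * swap 1 2 : P3) = 1 ∧ Perm.sign (swap 1 2 : P3) = -1 ∧
    Perm.sign (swap 1 2 : P6) = -1 ∧ swap 1 2 * (swap 0 1 * swap 1 2 : P3) =
      (swap 0 1 * swap 1 2) * (swap 0 1 * swap 1 2) * swap 1 2 := by decide +kernel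

theorem IsThree_cA : cA.IsThreeCycle := by
  rw [cA, swap_comm 0 1]
  exact Equiv.Perm.isThreeCycle_swap_mul_swap_same (by decide) (by decide) (by decide)

/-- An automorphism of `A₆` fixing the three elements is trivial. -/
theorem aut_eq_one (φ : MulAut (alternatingGroup (Fin 6))) (hA : ∀ x : alternatingGroup (Fin 6), (x : P6) = cA → φ x = x)
    (hB : ∀ x : alternatingGroup (Fin 6), (x : P6) = cB → φ x = x)
    (hU : ∀ x : alternatingGroup (Fin 6), (x : P6) = uS → φ x = x) : φ = 1 := by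
  have hmemA : cA ∈ alternatingGroup (Fin 6) := Perm.mem_alternatingGroup.2 uS_facts.2.2.2.1
  obtain ⟨σ, hσ⟩ := AltSixAut64.exists_perm_of_threeCycle 6 (by norm_num) φ fun x hx => by
    have hc : IsConj (⟨cA, hmemA⟩ : alternatingGroup (Fin 6)) x :=
      alternatingGroup.isThreeCycle_isConj (by simp [Nat.card_eq_fintype_card]) IsThree_cA hx
    have h2 := φ.toMonoidHom.map_isConj hc
    simp only [MulEquiv.coe_toMonoidHom, hA ⟨cA, hmemA⟩ rfl] at h2
    have h3 := (alternatingGroup (Fin 6)).subtype.map_isConj (hc.symm.trans h2)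
    exact (Equiv.Perm.isConj_iff_cycleType_eq.1 h3).symm.trans hx
  have key : ∀ c, Perm.sign c = 1 → (∀ x : alternatingGroup (Fin 6), (x : P6) = c → φ x = x) →
      σ * c = c * σ := fun c hc h => by
    have := congrArg Subtype.val (h ⟨c, Perm.mem_alternatingGroup.2 hc⟩ rfl)
    rw [← hσ, MulAut.conjNormal_apply] at this
    exact mul_inv_eq_iff_eq_mul.1 this
  rw [← hσ, fix_step σ (key _ uS_facts.2.2.2.1 hA) (key _ uS_facts.2.2.2.2 hB) (key _ uS_facts.2.2.1 hU),
    map_one]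

theorem hom_sign_trivial {X : Type*} [Group X] (e : alternatingGroup (Fin 6) ≃* X) (f : X →* ℤˣ) (x : X) :
    f x = 1 := by
  obtain ⟨y, rfl⟩ := e.surjective x
  let h : alternatingGroup (Fin 6) →* ℤˣ := f.comp e.toMonoidHom
  show h y = 1
  have hle : alternatingGroup (Fin 6) ≤ h.ker.map (alternatingGroup (Fin 6)).subtype := by
    conv_lhs => rw [← Equiv.Perm.closure_three_cycles_eq_alternating]
    rw [Subgroup.closure_le]
    intro c hc
    refine ⟨⟨c, hc.mem_alternatingGroup⟩, MonoidHom.mem_ker.2 ?_, rfl⟩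
    have h3 : (⟨c, hc.mem_alternatingGroup⟩ : alternatingGroup (Fin 6)) ^ 3 = 1 :=
      Subtype.ext (by rw [Subgroup.coe_pow, ← hc.orderOf, pow_orderOf_eq_one]; rfl)
    have h4 := congrArg h h3
    rw [map_pow, map_one] at h4
    rwa [pow_succ, Int.units_pow_two, one_mul] at h4
  obtain ⟨w, hw, e'⟩ := hle y.2
  rw [← Subtype.ext e']
  exact hw

theorem dA_outer : ∃ θ : P6 ≃* P6, θ cA = dA := S9Six37.exists_outer

/-- An embedding of `A₆` adjusted on the local subgroup. -/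
theorem exists_eta {X : Type*} [Group X] (e : X ≃* alternatingGroup (Fin 6)) {a b u : X}
    (ha : a * a * a = 1) (ha1 : a ≠ 1) (hb : b * b * b = 1) (hb1 : b ≠ 1) (hba : b ≠ a) (hba' : b ≠ a * a)
    (hab : b * a = a * b) (hua : u * a = b * u) (hub : u * b = a * a * u) :
    ∃ η : alternatingGroup (Fin 6) ≃* X, ∀ x : alternatingGroup (Fin 6),
      ((x : P6) = cA → η x = a) ∧ ((x : P6) = cB → η x = b) ∧ ((x : P6) = uS → η x = u) := by
  let f0 : X →* P6 := (alternatingGroup (Fin 6)).subtype.comp e.toMonoidHom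
  have hf0 : Function.Injective f0 := Subtype.val_injective.comp e.injective
  have hne : ∀ {p q : X}, p ≠ q → f0 p ≠ f0 q := fun h => hf0.ne h
  obtain ⟨g, hg⟩ := first_step (f0 a) (by rw [← map_mul, ← map_mul, ha, map_one])
    (by rw [← map_one f0]; exact hne ha1)
  obtain ⟨θ, hθ⟩ := dA_outer
  obtain ⟨ψ₀, h0⟩ : ∃ ψ₀ : P6 ≃* P6, ψ₀ (f0 a) = cA := by
    rcases hg with hg | hg
    · exact ⟨MulAut.conj g, S9Six37.conj_apply_eq hg⟩
    · refine ⟨(MulAut.conj g : P6 ≃* P6).trans θ.symm, ?_⟩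
      rw [MulEquiv.trans_apply, S9Six37.conj_apply_eq hg, MulEquiv.symm_apply_eq]
      exact hθ.symm
  let f1 : X →* P6 := ψ₀.toMonoidHom.comp f0
  have hf1 : Function.Injective f1 := ψ₀.injective.comp hf0
  have h1 : f1 a = cA := h0
  obtain ⟨ψ₁, hψA, hψB⟩ : ∃ ψ₁ : P6 ≃* P6, ψ₁ cA = cA ∧ ψ₁ (f1 b) = cB := by
    rcases second_step (f1 b) (by rw [← map_mul, ← map_mul, hb, map_one]) (by rw [← h1, ← map_mul, hab, map_mul])
      (by rw [← map_one f1]; exact hf1.ne hb1) (by rw [← h1]; exact hf1.ne hba)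
      (by rw [← h1, ← map_mul]; exact hf1.ne hba') ⟨f1 u, by rw [← h1, ← map_mul, hua, map_mul]⟩ with hh | hh
    · exact ⟨MulEquiv.refl _, rfl, hh⟩
    · exact ⟨MulAut.conj (swap 4 5), S9Six37.conj_apply_eq flip_step.1,
        hh ▸ S9Six37.conj_apply_eq flip_step.2⟩
  let f2 : X →* P6 := ψ₁.toMonoidHom.comp f1
  have h2a : f2 a = cA := by show ψ₁ (f1 a) = cA; rw [h1, hψA]
  have h2b : f2 b = cB := hψB
  obtain ⟨i, j, hij⟩ := third_step (f2 u) (by rw [← h2a, ← h2b, ← map_mul, hua, map_mul])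
    (by rw [← h2b, ← h2a, ← map_mul, hub, map_mul, map_mul])
  let f3 : X →* P6 := (MulAut.conj (cA ^ i.val * cB ^ j.val)).toMonoidHom.comp f2
  have h3a : f3 a = cA := by
    show MulAut.conj (cA ^ i.val * cB ^ j.val) (f2 a) = cA
    rw [h2a]; exact S9Six37.conj_apply_eq (shift_step i j).1
  have h3b : f3 b = cB := by
    show MulAut.conj (cA ^ i.val * cB ^ j.val) (f2 b) = cB
    rw [h2b]; exact S9Six37.conj_apply_eq (shift_step i j).2
  have h3u : f3 u = uS := S9Six37.conj_apply_eq hij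
  have hf3 : Function.Injective f3 := (MulAut.conj _).injective.comp (ψ₁.injective.comp hf1)
  let f4 : X →* alternatingGroup (Fin 6) := f3.codRestrict _ fun x =>
    Perm.mem_alternatingGroup.2 (hom_sign_trivial e.symm (Perm.sign.comp f3) x)
  have hf4 : Function.Injective f4 := fun x y h => hf3 (congrArg Subtype.val h)
  haveI : Finite X := Finite.of_equiv _ e.symm.toEquiv
  let F : X ≃* alternatingGroup (Fin 6) := MulEquiv.ofBijective f4
    ((Nat.bijective_iff_injective_and_card _).2 ⟨hf4, Nat.card_congr e.toEquiv⟩)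
  refine ⟨F.symm, fun x => ⟨fun hx => ?_, fun hx => ?_, fun hx => ?_⟩⟩ <;>
    rw [MulEquiv.symm_apply_eq] <;> refine Subtype.ext (hx.trans ?_)
  · exact h3a.symm
  · exact h3b.symm
  · exact h3u.symm

end Cfsg.Agent.A9Local55
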