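import Mathlib
import Cfsg.Agent.Lib.A9Local55Loc
import Cfsg.Agent.Lib.A9Local55Six

/-!
# S3339: the dichotomy at the elements of weight one

Either all centralisers of elements of the base lie in its normaliser, or the centralisers of the
weight one elements are `3 × A₆` and the normaliser pieces extend to embeddings of `(S₃ × S₆)⁺`.
-/

set_option autoImplicit false
set_option linter.style.haveILetI false
set_option maxRecDepth 100000

namespace Cfsg.Agent.A9Local55

open Cfsg Cfsg.Agent.A9Base59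

variable {G : Type*} [Group G]

/-- The three-cycle of the three fixed points. -/
def cZ : P3 := Equiv.swap 0 1 * Equiv.swap 1 2

theorem sign_out : ∀ a : P3, ∃ i : Fin 3, ∃ s : Bool,
    a = cZ ^ i.val * (if s then Equiv.swap 1 2 else 1) ∧ (s = true ↔ Equiv.Perm.sign a = -1) := by
  decide +kernel

theorem emb_zero : emb (cZ, 1) = e 0 := emb_vals.2.2

/-- The sign section `S₃ → S₆`. -/
def sig : P3 →* P6 :=
  MonoidHom.mk' (fun a => if Equiv.Perm.sign a = 1 then 1 else Equiv.swap 1 2) (by decide +kernel)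

theorem sign_sig : ∀ a, Equiv.Perm.sign (sig a) = Equiv.Perm.sign a := by decide +kernel

theorem sig_blocks : ∀ a, ∀ i j : Fin 6, i.val / 3 = j.val / 3 ↔ (sig a i).val / 3 = (sig a j).val / 3 := by
  decide +kernel

theorem emb_sig_mem (a : P3) : emb (a, sig a) ∈ H9 := emb_mem_H (sign_sig a).symm (sig_blocks a)

theorem rot_facts : ∀ k : Fin 3, ∀ x : Fin 9,
    bk (rep (![i1, iR, iR2] k) x) = k ↔ bk x = 0 := by decide +kernel

theorem rot_e : ∀ k : Fin 3, rep (![i1, iR, iR2] k) * e 0 = e k * rep (![i1, iR, iR2] k) := by decide +kernel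

theorem conj_N0 {k : Fin 3} {p : P9} (hp : p ∈ N9 k) :
    (rep (![i1, iR, iR2] k))⁻¹ * p * rep (![i1, iR, iR2] k) ∈ N9 0 := by
  set r := rep (![i1, iR, iR2] k) with hr
  refine ⟨by simp [hp.1], fun x => ?_⟩
  rw [← rot_facts k x, ← rot_facts k, ← hr, Equiv.Perm.mul_apply, Equiv.Perm.mul_apply,
    show r (r⁻¹ (p (r x))) = p (r x) from r.apply_symm_apply _]
  exact hp.2 (r x)

theorem cut_aux : ∀ v : Fin 3 × Fin 3 × Fin 3, ∃ k : Fin 3, l0 (v + (k, 0, 0)) = 0 := by decide +kernel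

theorem plane_class : ∀ v : Fin 3 × Fin 3 × Fin 3, (¬ ∃ a : Fin 3, v = (a, 0, 0)) → ∃ k : Fin 3, ∃ i : Fin 24,
    rep i * el3 (1, 1, 0) = el3 (v + (k, 0, 0)) * rep i := by decide +kernel

theorem pow_e0 : ∀ k : Fin 3, el3 (k, 0, 0) = el3 (1, 0, 0) ^ k.val := by decide +kernel

abbrev A6 := ↥(alternatingGroup (Fin 6))

theorem conj_sig_cancel (a : P3) (c : A6) :
    MulAut.conjNormal (sig a⁻¹) (MulAut.conjNormal (sig a) c) = c := by
  rw [map_inv, ← MulAut.mul_apply, ← map_mul, inv_mul_cancel, map_one, MulAut.one_apply]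

/-- A homomorphism of `A₆` sending one three-cycle into a normal subgroup has its range inside. -/
theorem mem_of_three_cycle {X : Type*} [Group X] {X0 : Subgroup X} (hn : X0.Normal) (ρ : A6 →* X)
    {c0 : A6} (hc0 : (c0 : P6).IsThreeCycle) (h : ρ c0 ∈ X0) (y : A6) : ρ y ∈ X0 := by
  haveI := hn
  have hle : alternatingGroup (Fin 6) ≤ (X0.comap ρ).map (alternatingGroup (Fin 6)).subtype := by
    conv_lhs => rw [← Equiv.Perm.closure_three_cycles_eq_alternating]
    rw [Subgroup.closure_le]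
    intro c hc
    refine ⟨⟨c, hc.mem_alternatingGroup⟩, ?_, rfl⟩
    obtain ⟨w, hw⟩ := isConj_iff.1 (alternatingGroup.isThreeCycle_isConj
      (by simp [Nat.card_eq_fintype_card]) (σ := c0) (τ := ⟨c, hc.mem_alternatingGroup⟩) hc0 hc)
    show ρ _ ∈ X0
    rw [← hw, map_mul, map_mul, map_inv]
    exact hn.conj_mem _ h _
  obtain ⟨w, hw, e'⟩ := hle y.2
  rw [← Subtype.ext e']
  exact hw

theorem outer_equivariant {G : Type*} [Group G] [Finite G] {X : Subgroup G} {X0 : Subgroup X}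
    (hn : X0.Normal) (η : A6 ≃* X0) (g : G) (hg : ∀ x ∈ X, g * x * g⁻¹ ∈ X) (τ : MulAut A6)
    (hfix : ∀ x : A6, (x : P6) = cA ∨ (x : P6) = cB ∨ (x : P6) = uS →
      g * ((η (τ x) : X) : G) * g⁻¹ = ((η x : X) : G)) (c : A6) :
    g * ((η (τ c) : X) : G) * g⁻¹ = ((η c : X) : G) := by
  let ρ : A6 →* X := MonoidHom.mk' (fun x => ⟨g * ((η (τ x) : X) : G) * g⁻¹, hg _ (η (τ x) : X).2⟩)
    fun p q => Subtype.ext (by
      show g * ((η (τ (p * q)) : X) : G) * g⁻¹ = _
      rw [map_mul, map_mul, Subgroup.coe_mul, Subgroup.coe_mul]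
      simp only [Subgroup.coe_mul]
      group)
  let A' : A6 := ⟨cA, Equiv.Perm.mem_alternatingGroup.2 uS_facts.2.2.2.1⟩
  have hmem : ∀ x, ρ x ∈ X0 := mem_of_three_cycle hn ρ (c0 := A') IsThree_cA (by
    rw [show ρ A' = (η A' : X) from Subtype.ext (hfix A' (Or.inl rfl))]
    exact (η A').2)
  let κ : A6 →* X0 := ρ.codRestrict X0 hmem
  have hκi : Function.Injective κ := fun p q e' => τ.injective (η.injective (Subtype.ext (Subtype.ext
    (mul_left_cancel (mul_right_cancel (congrArg (fun w : X0 => ((w : X) : G)) e'))))))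
  let κe : A6 ≃* X0 := MulEquiv.ofBijective κ
    ((Nat.bijective_iff_injective_and_card _).2 ⟨hκi, Nat.card_congr η.toEquiv⟩)
  let δ : MulAut A6 := κe.trans η.symm
  have fix : ∀ x : A6, (x : P6) = cA ∨ (x : P6) = cB ∨ (x : P6) = uS → δ x = x := fun x hx => by
    refine η.injective ?_
    show η (η.symm (κ x)) = η x
    rw [MulEquiv.apply_symm_apply]
    exact Subtype.ext (Subtype.ext (hfix x hx))
  have hδ : δ = 1 := aut_eq_one δ (fun x hx => fix x (Or.inl hx)) (fun x hx => fix x (Or.inr (Or.inl hx)))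
    (fun x hx => fix x (Or.inr (Or.inr hx)))
  have e1 : η (δ c) = κ c := η.apply_symm_apply _
  rw [hδ, MulAut.one_apply] at e1
  exact (congrArg (fun w : X0 => ((w : X) : G)) e1).symm

/-- The elements `(a, sign a)` of the local subgroup. -/
def outer : P3 →* H9 :=
  MonoidHom.mk' (fun a => ⟨emb (a, sig a), emb_sig_mem a⟩) fun a b => Subtype.ext (by
    show emb _ = emb _ * emb _
    rw [← map_mul]
    exact congrArg emb (Prod.ext rfl (map_mul sig a b)))

/-- A copy of `A₆` inside the centraliser of a weight one element. -/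
structure SixData {G : Type*} [Group G] (φ : H9 →* G) (ηG : A6 →* G) : Prop where
  inj : Function.Injective ηG
  ext : ∀ (c : A6) (hm : emb (1, (c : P6)) ∈ H9), ηG c = φ ⟨_, hm⟩
  comm : ∀ c, ηG c * φ (E 0) = φ (E 0) * ηG c
  cover : ∀ g ∈ Subgroup.centralizer ({φ (E 0)} : Set G), ∃ i : ℕ, g * φ (E 0) ^ i ∈ ηG.range
  meet : ∀ i : ℕ, φ (E 0) ^ i ∈ ηG.range → φ (E 0) ^ i = 1
  equiv : ∀ a c, φ (outer a) * ηG c * (φ (outer a))⁻¹ = ηG (MulAut.conjNormal (sig a) c)

theorem outer_conj (a : P3) : outer a * E 0 * (outer a)⁻¹ = E 0 ∨ outer a * E 0 * (outer a)⁻¹ = (E 0)⁻¹ := by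
  have h : ∀ a : P3, a * cZ = cZ * a ∨ a * cZ = cZ⁻¹ * a := by decide +kernel
  rcases h a with h | h
  · refine Or.inl (Subtype.ext (mul_inv_eq_iff_eq_mul.2 ?_))
    show emb (a, sig a) * e 0 = e 0 * emb (a, sig a)
    rw [← emb_zero, ← map_mul, ← map_mul]
    exact congrArg emb (Prod.ext h (by simp))
  · refine Or.inr (Subtype.ext (mul_inv_eq_iff_eq_mul.2 ?_))
    show emb (a, sig a) * e 0 = (e 0)⁻¹ * emb (a, sig a)
    rw [← emb_zero, ← map_inv, ← map_mul, ← map_mul]
    exact congrArg emb (Prod.ext h (by simp))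

section

variable {J : Subgroup G} {φ : H9 →* G} [Finite G]

set_option maxHeartbeats 1600000 in
theorem exists_six (L : Loc J φ)
    (hnot : ¬ Subgroup.centralizer ({φ (E 0)} : Set G) ≤ Subgroup.normalizer (J : Set G)) :
    ∃ ηG : A6 →* G, SixData φ ηG := by
  classical
  have h := Pre.of_loc L
  have hcw : Subgroup.centralizer ({φ (J3 (1, 1, 0))} : Set G) ≤ Subgroup.normalizer (J : Set G) := by
    have := L.cw
    rwa [show E 0 * E 1 = J3 (1, 1, 0) from Subtype.ext w_eq.symm] at this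
  have hE0 : E 0 = J3 (1, 0, 0) := J3_gens.1.symm
  set z := φ (E 0) with hz
  have hzJ : z ∈ J := by rw [hz, hE0]; exact h.mem_J3 _
  set X := Subgroup.centralizer ({z} : Set G) with hX
  have hJX : J ≤ X := fun a ha => Subgroup.mem_centralizer_singleton_iff.2 (h.J_comm _ ha _ hzJ)
  set J' := J.subgroupOf X with hJ'
  have hJ'c : Nat.card J' = 27 := by
    rw [hJ', Nat.card_congr (Subgroup.subgroupOfEquivOfLe hJX).toEquiv, h.J_card]
  have hNJ : ∀ n : X, n ∈ Subgroup.normalizer (J' : Set X) ↔ (n : G) ∈ Subgroup.normalizer (J : Set G) := by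
    intro n
    refine ⟨fun hn => Subgroup.mem_normalizer_iff.2 fun y => ⟨fun hy => ?_, fun hy => ?_⟩, fun hn => ?_⟩
    · exact (Subgroup.mem_normalizer_iff.1 hn ⟨y, hJX hy⟩).1 hy
    · have := X.mul_mem (X.mul_mem (X.inv_mem n.2) (hJX hy)) n.2
      have hyX : y ∈ X := by simpa [mul_assoc] using this
      exact (Subgroup.mem_normalizer_iff.1 hn ⟨y, hyX⟩).2 hy
    · refine Subgroup.mem_normalizer_iff.2 fun y => ?_
      rw [hJ', Subgroup.mem_subgroupOf, Subgroup.mem_subgroupOf, Subgroup.coe_mul, Subgroup.coe_mul,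
        Subgroup.coe_inv]
      exact Subgroup.mem_normalizer_iff.1 hn _
  have hN108 : Nat.card (Subgroup.normalizer (J' : Set X)) = 108 := by
    rw [← cent_e, ← Nat.card_eq_fintype_card]
    refine (Nat.card_eq_of_bijective (fun y => ⟨⟨φ (elH y.1),
      Subgroup.mem_centralizer_singleton_iff.2 (h.comm_iff.2 y.2)⟩, (hNJ _).2 (h.elH_mem _)⟩)
      ⟨fun a b e => Subtype.ext (elH_bijective.1 (h.inj (congrArg Subtype.val (congrArg Subtype.val e)))),
        fun g => ?_⟩).symm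
    obtain ⟨y, hy⟩ := h.mem_norm.1 ((hNJ _).1 g.2)
    exact ⟨⟨y, (h.comm_iff (a := elH y) (b := E 0)).1
      (hy.symm ▸ Subgroup.mem_centralizer_singleton_iff.1 g.1.2)⟩, Subtype.ext (Subtype.ext hy)⟩
  have hidx : ¬ 3 ∣ J'.index := not_dvd_index_of_normalizer (n := 3) (by rw [hJ'c]; norm_num)
    (by rw [hN108]; norm_num)
  let zX : X := ⟨z, hJX hzJ⟩
  have hz1 : z ≠ 1 := fun e' => absurd (J3_injective (h.inj ((hE0 ▸ e' : φ (J3 (1, 0, 0)) = 1).trans
    (by rw [show J3 0 = 1 from Subtype.ext (by decide +kernel), map_one] : (1 : G) = φ (J3 0))))) (by decide)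
  have hzpow : ∀ k : Fin 3, φ (J3 (k, 0, 0)) = z ^ k.val := fun k => by
    rw [hz, hE0, ← map_pow]
    exact congrArg φ (Subtype.ext (pow_e0 k))
  rcases normal_or_alt_six J' (fun a ha b hb => Subtype.ext (h.J_comm _ ha _ hb))
    (fun a ha => Subtype.ext (h.J_exp _ ha)) hJ'c hidx
    (fun c hc => by
      show (c : G) ∈ J
      rw [← L.cJ]
      exact Subgroup.mem_centralizer_iff.2 fun a ha =>
        congrArg Subtype.val (Subgroup.mem_centralizer_iff.1 hc ⟨a, hJX ha⟩ ha))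
    (z := zX) hzJ (fun e' => hz1 (congrArg Subtype.val e'))
    (fun g => Subtype.ext (Subgroup.mem_centralizer_singleton_iff.1 g.2).symm)
    ((cut l0 φ).subgroupOf X)
    (fun hzA => by
      obtain ⟨v, hv, e'⟩ := mem_cut.1 (Subgroup.mem_subgroupOf.1 hzA)
      rw [J3_injective (h.inj (e'.trans (hz.trans (congrArg φ hE0))))] at hv
      exact absurd hv (by decide))
    (fun j hj => by
      obtain ⟨v, hv⟩ := h.memJ.1 hj
      change φ (J3 v) = (j : G) at hv
      obtain ⟨k, hk⟩ := cut_aux v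
      refine ⟨k.val, Subgroup.mem_subgroupOf.2 (mem_cut.2 ⟨_, hk, ?_⟩)⟩
      rw [Subgroup.coe_mul, Subgroup.coe_pow, ← hv]
      show _ = φ (J3 v) * z ^ k.val
      rw [← hzpow, ← map_mul]
      exact congrArg φ (Subtype.ext (el3_group v (k, 0, 0)).symm))
    hN108
    (fun s hs hsz g hg => by
      rw [hNJ]
      obtain ⟨v, hv⟩ := h.memJ.1 hs
      change φ (J3 v) = (s : G) at hv
      obtain ⟨k, i, hi⟩ := plane_class v (fun ⟨a, ha⟩ => hsz (Subgroup.mem_zpowers_iff.2
        ⟨(a.val : ℤ), Subtype.ext (by rw [zpow_natCast, Subgroup.coe_pow, ← hv, ha, hzpow])⟩))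
      have hc : Subgroup.centralizer ({φ (J3 (v + (k, 0, 0)))} : Set G) ≤ Subgroup.normalizer (J : Set G) := by
        have := cent_conj_le hcw (h.elH_mem ⟨rep i, rep_mem i⟩)
        rwa [← map_inv, ← map_mul, ← map_mul, show (⟨rep i, rep_mem i⟩ : H9) * J3 (1, 1, 0) *
          (⟨rep i, rep_mem i⟩ : H9)⁻¹ = J3 (v + (k, 0, 0)) from Subtype.ext (mul_inv_eq_iff_eq_mul.2 hi)] at this
      refine hc (Subgroup.mem_centralizer_singleton_iff.2 ?_)
      rw [show J3 (v + (k, 0, 0)) = J3 v * J3 (k, 0, 0) from Subtype.ext (el3_group v (k, 0, 0)).symm,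
        map_mul, hv, hzpow]
      exact (Commute.mul_right (congrArg Subtype.val hg)
        ((show Commute (g : G) z from Subgroup.mem_centralizer_singleton_iff.1 g.2).pow_right _)).eq) with
    hn | ⟨X0, hX0, -, ⟨eX⟩⟩
  · exact absurd (fun g hg => (hNJ ⟨g, hg⟩).1 (by rw [Subgroup.normalizer_eq_top_iff.2 hn]; trivial)) hnot
  -- elements of the complement
  haveI := hX0.normal
  have memC : ∀ {y : H9}, (y : P9) * e 0 = e 0 * y → φ y ∈ X := fun hy =>
    Subgroup.mem_centralizer_singleton_iff.2 (h.comm_iff.2 hy)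
  have hU : emb (1, uS) ∈ H9 := emb_mem_H (by rw [map_one, uS_facts.2.2.1]) blocks_gens.1
  have embc : ∀ b, emb (1, b) * e 0 = e 0 * emb (1, b) := fun b => by
    rw [← emb_zero, ← map_mul, ← map_mul]
    simp
  let xa : X := ⟨φ (E 1), memC (by decide +kernel)⟩
  let xb : X := ⟨φ (E 2), memC (by decide +kernel)⟩
  let xu : X := ⟨φ ⟨_, hU⟩, memC (embc uS)⟩
  obtain ⟨k, hk⟩ := hX0.cover xu
  have hu4 : xu ^ 4 = 1 := Subtype.ext (by
    rw [Subgroup.coe_pow, ← map_pow]
    refine (congrArg φ (Subtype.ext ?_)).trans (map_one φ)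
    show emb (1, uS) ^ 4 = 1
    rw [← map_pow, show ((1 : P3), uS) ^ 4 = 1 from Prod.ext (one_pow 4) (by decide +kernel), map_one])
  have hzc : ∀ g : X, zX * g = g * zX := hX0.central
  have hz3 : zX ^ 3 = 1 := hX0.three
  have clean : ∀ {y : X} {j : ℕ}, y * zX ^ j ∈ X0 → (zX ^ j) ∈ X0 → y ∈ X0 := fun h1 h2 => by
    simpa [mul_assoc] using X0.mul_mem h1 (X0.inv_mem h2)
  have hu0 : xu ∈ X0 := by
    refine clean hk ?_
    have h1 := X0.pow_mem hk 4
    rw [(Commute.pow_right (hzc xu).symm k).mul_pow, hu4, one_mul, ← pow_mul] at h1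
    rwa [show zX ^ (k * 4) = zX ^ k by rw [show k * 4 = k + 3 * k by ring, pow_add, pow_mul, hz3, one_pow, mul_one]] at h1
  have inv_mem0 : ∀ y : X, xu * xu * y * (xu * xu)⁻¹ = y⁻¹ → y ^ 3 = 1 → y ∈ X0 := fun y hy hy3 => by
    obtain ⟨j, hj⟩ := hX0.cover y
    refine clean hj ?_
    have h1 := X0.mul_mem (hX0.normal.conj_mem _ hj (xu * xu)) hj
    have e1 : xu * xu * (y * zX ^ j) * (xu * xu)⁻¹ * (y * zX ^ j) = zX ^ j * zX ^ j := by
      rw [show xu * xu * (y * zX ^ j) * (xu * xu)⁻¹ = y⁻¹ * zX ^ j by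
        rw [← hy, ← mul_assoc, mul_assoc (xu * xu * y), ((Commute.pow_left (hzc _) j).inv_right).eq, ← mul_assoc]]
      rw [← (Commute.pow_left (hzc y) j).eq, mul_assoc, ← mul_assoc (zX ^ j) (zX ^ j) y,
        (Commute.pow_left (hzc y) j).mul_left (Commute.pow_left (hzc y) j) |>.eq, inv_mul_cancel_left]
    rw [e1] at h1
    have e2 : zX ^ j = (zX ^ j * zX ^ j) ^ 2 := by
      rw [← pow_add, ← pow_mul, show (j + j) * 2 = j + 3 * j by ring, pow_add, pow_mul zX 3, hz3, one_pow, mul_one]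
    rw [e2]
    exact X0.pow_mem h1 2
  have hinvE : ∀ b : P6, ∀ k : Fin 3, emb (1, b) = e k → ∀ hy : φ (E k) ∈ X,
      uS * uS * b * (uS * uS)⁻¹ = b⁻¹ → b ^ 3 = 1 → (⟨φ (E k), hy⟩ : X) ∈ X0 := by
    intro b k hb hy hbi hb3
    refine inv_mem0 _ (Subtype.ext ?_) (Subtype.ext ?_)
    · simp only [Subgroup.coe_mul, Subgroup.coe_inv, xu, ← map_mul, ← map_inv]
      refine congrArg φ (Subtype.ext ?_)
      show emb (1, uS) * emb (1, uS) * e k * (emb (1, uS) * emb (1, uS))⁻¹ = (e k)⁻¹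
      rw [← hb, ← map_mul, ← map_inv, ← map_inv, ← map_mul, ← map_mul]
      exact congrArg emb (Prod.ext (by simp) hbi)
    · rw [Subgroup.coe_pow, ← map_pow]
      refine (congrArg φ (Subtype.ext ?_)).trans (map_one φ)
      show e k ^ 3 = 1
      rw [← hb, ← map_pow, show ((1 : P3), b) ^ 3 = 1 from Prod.ext (one_pow 3) hb3, map_one]
  have ha0 : xa ∈ X0 := hinvE cA 1 emb_vals.1 _ (by decide +kernel) (by decide +kernel)
  have hb0 : xb ∈ X0 := hinvE cB 2 emb_vals.2.1 _ (by decide +kernel) (by decide +kernel)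
  have lift : ∀ {y y' : H9} {hy : φ y ∈ X} {hy' : φ y' ∈ X} {m : (⟨φ y, hy⟩ : X) ∈ X0}
      {m' : (⟨φ y', hy'⟩ : X) ∈ X0}, (y : P9) ≠ y' → (⟨⟨φ y, hy⟩, m⟩ : X0) ≠ ⟨⟨φ y', hy'⟩, m'⟩ :=
    fun hne e' => hne (congrArg Subtype.val (h.inj (congrArg Subtype.val (congrArg Subtype.val e'))))
  obtain ⟨η, hη⟩ := exists_eta eX (a := (⟨xa, ha0⟩ : X0)) (b := ⟨xb, hb0⟩) (u := ⟨xu, hu0⟩)
    (Subtype.ext (Subtype.ext (by
      show φ (E 1) * φ (E 1) * φ (E 1) = 1
      rw [← map_mul, ← map_mul, ← map_one φ]; exact congrArg φ (Subtype.ext (by decide +kernel)))))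
    (fun e' => by
      have e'' : φ (E 1) = φ 1 := (congrArg Subtype.val (congrArg Subtype.val e')).trans (map_one φ).symm
      exact absurd (congrArg Subtype.val (h.inj e'')) (by decide +kernel))
    (Subtype.ext (Subtype.ext (by
      show φ (E 2) * φ (E 2) * φ (E 2) = 1
      rw [← map_mul, ← map_mul, ← map_one φ]; exact congrArg φ (Subtype.ext (by decide +kernel)))))
    (fun e' => by
      have e'' : φ (E 2) = φ 1 := (congrArg Subtype.val (congrArg Subtype.val e')).trans (map_one φ).symm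
      exact absurd (congrArg Subtype.val (h.inj e'')) (by decide +kernel))
    (lift (show ((E 2 : H9) : P9) ≠ E 1 by decide +kernel))
    (fun e' => by
      have e'' : φ (E 2) = φ (E 1 * E 1) := (congrArg Subtype.val (congrArg Subtype.val e')).trans
        (map_mul φ _ _).symm
      exact absurd (congrArg Subtype.val (h.inj e'')) (by decide +kernel))
    (Subtype.ext (Subtype.ext (by
      show φ (E 2) * φ (E 1) = φ (E 1) * φ (E 2)
      rw [← map_mul, ← map_mul]; exact congrArg φ (Subtype.ext (by decide +kernel)))))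
    (Subtype.ext (Subtype.ext (by
      show φ _ * φ (E 1) = φ (E 2) * φ _
      rw [← map_mul, ← map_mul]
      refine congrArg φ (Subtype.ext ?_)
      show emb (1, uS) * e 1 = e 2 * emb (1, uS)
      decide +kernel)))
    (Subtype.ext (Subtype.ext (by
      show φ _ * φ (E 2) = φ (E 1) * φ (E 1) * φ _
      rw [← map_mul, ← map_mul, ← map_mul]
      refine congrArg φ (Subtype.ext ?_)
      show emb (1, uS) * e 2 = e 1 * e 1 * emb (1, uS)
      decide +kernel)))
  let ηG : alternatingGroup (Fin 6) →* G := X.subtype.comp (X0.subtype.comp η.toMonoidHom)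
  have hηC : ∀ c, ηG c ∈ X := fun c => (η c).1.2
  -- agreement on the local subgroup
  have hext : ∀ (c : alternatingGroup (Fin 6)) (hm : emb (1, (c : P6)) ∈ H9), ηG c = φ ⟨_, hm⟩ := by
    intro c hm
    obtain ⟨i, j, k, hc⟩ := gen_step c (Equiv.Perm.mem_alternatingGroup.1 c.2) (emb_mem_H_iff hm)
    let A' : alternatingGroup (Fin 6) := ⟨cA, Equiv.Perm.mem_alternatingGroup.2 uS_facts.2.2.2.1⟩
    let B' : alternatingGroup (Fin 6) := ⟨cB, Equiv.Perm.mem_alternatingGroup.2 uS_facts.2.2.2.2⟩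
    let U' : alternatingGroup (Fin 6) := ⟨uS, Equiv.Perm.mem_alternatingGroup.2 uS_facts.2.2.1⟩
    have vA : ηG A' = φ (E 1) := by show ((η A' : X0) : X).1 = _; rw [(hη A').1 rfl]
    have vB : ηG B' = φ (E 2) := by show ((η B' : X0) : X).1 = _; rw [(hη B').2.1 rfl]
    have vU : ηG U' = φ ⟨_, hU⟩ := by show ((η U' : X0) : X).1 = _; rw [(hη U').2.2 rfl]
    have hc' : c = A' ^ i.val * B' ^ j.val * U' ^ k.val := Subtype.ext (by simpa using hc)
    conv_lhs => rw [hc', map_mul, map_mul, map_pow, map_pow, map_pow, vA, vB, vU, ← map_pow, ← map_pow,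
      ← map_pow, ← map_mul, ← map_mul]
    refine congrArg φ (Subtype.ext ?_)
    show e 1 ^ i.val * e 2 ^ j.val * emb (1, uS) ^ k.val = emb (1, (c : P6))
    rw [← emb_vals.1, ← emb_vals.2.1, ← map_pow, ← map_pow, ← map_pow, ← map_mul, ← map_mul, hc]
    simp
  have hαX : ∀ a : P3, ∀ g ∈ X, φ (outer a) * g * (φ (outer a))⁻¹ ∈ X := by
    intro a g hg
    have hg' : Commute g z := Subgroup.mem_centralizer_singleton_iff.1 hg
    have h1 : Commute (φ (outer a) * g * (φ (outer a))⁻¹) (φ (outer a * E 0 * (outer a)⁻¹)) := by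
      rw [map_mul, map_mul, map_inv]
      exact hg'.map (MulAut.conj (φ (outer a))).toMonoidHom
    refine Subgroup.mem_centralizer_singleton_iff.2 ?_
    rcases outer_conj a with e' | e' <;> rw [e'] at h1
    · exact h1.eq
    · rw [map_inv] at h1
      simpa using h1.inv_right.eq
  refine ⟨ηG, fun p q e' => η.injective (Subtype.ext (Subtype.ext e')), hext,
    fun c => Subgroup.mem_centralizer_singleton_iff.1 (hηC c), fun g hg => ?_, fun i hi => ?_, fun a c => ?_⟩
  · obtain ⟨i, hi⟩ := hX0.cover ⟨g, hg⟩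
    obtain ⟨c, hc⟩ := η.surjective ⟨_, hi⟩
    exact ⟨i, c, congrArg (fun w : X0 => ((w : X) : G)) hc⟩
  · obtain ⟨c, hc⟩ := hi
    have hm : zX ^ i ∈ X0 := by
      rw [show zX ^ i = (η c : X) from Subtype.ext hc.symm]
      exact (η c).2
    exact congrArg Subtype.val (hX0.inf_zpowers (Subgroup.pow_mem _ (Subgroup.mem_zpowers zX) i) hm)
  · have key := outer_equivariant hX0.normal η (φ (outer a)) (hαX a) (MulAut.conjNormal (sig a⁻¹)) (fun x hx => by
      show φ (outer a) * ηG (MulAut.conjNormal (sig a⁻¹) x) * (φ (outer a))⁻¹ = ηG x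
      have hbl : ∀ i j : Fin 6, i.val / 3 = j.val / 3 ↔ ((x : P6) i).val / 3 = ((x : P6) j).val / 3 := by
        rcases hx with e' | e' | e' <;> rw [e']
        · decide +kernel
        · decide +kernel
        · exact blocks_gens.1
      have hm : emb (1, (x : P6)) ∈ H9 :=
        emb_mem_H (by rw [map_one, Equiv.Perm.mem_alternatingGroup.1 x.2]) hbl
      have hv : ((MulAut.conjNormal (sig a⁻¹) x : A6) : P6) = sig a⁻¹ * x * (sig a⁻¹)⁻¹ :=
        MulAut.conjNormal_apply _ _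
      have hpair : ((1 : P3), ((MulAut.conjNormal (sig a⁻¹) x : A6) : P6)) =
          (a, sig a)⁻¹ * (1, (x : P6)) * (a, sig a) := by
        rw [hv]; ext <;> simp [map_inv]
      have hm' : emb (1, ((MulAut.conjNormal (sig a⁻¹) x : A6) : P6)) ∈ H9 := by
        rw [hpair, map_mul, map_mul, map_inv]
        exact H9.mul_mem (H9.mul_mem (H9.inv_mem (emb_sig_mem _)) hm) (emb_sig_mem _)
      rw [hext _ hm', hext _ hm, ← map_inv, ← map_mul, ← map_mul]
      refine congrArg φ (Subtype.ext ?_)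
      show emb (a, sig a) * emb (1, _) * (emb (a, sig a))⁻¹ = emb (1, (x : P6))
      rw [hpair, ← map_inv, ← map_mul, ← map_mul]
      exact congrArg emb (by group)) (MulAut.conjNormal (sig a) c)
    rwa [conj_sig_cancel] at key

theorem piece_zero (h : Pre J φ) {ηG : A6 →* G} (S : SixData φ ηG) :
    ∃ ι0 : N9 0 →* G, Function.Injective ι0 ∧
      (∀ (p : P9) (hp : p ∈ H9) (hp' : p ∈ N9 0), ι0 ⟨p, hp'⟩ = φ ⟨p, hp⟩) ∧
      Subgroup.centralizer ({φ (E 0)} : Set G) ≤ ι0.range := by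
  classical
  have hpair : ∀ p : N9 0, ∃ a : P3, ∃ c : alternatingGroup (Fin 6), emb (a, sig a * c) = p := by
    intro p
    obtain ⟨⟨a, b⟩, hab, hs⟩ := exists_emb p.2
    refine ⟨a, ⟨(sig a)⁻¹ * b, Equiv.Perm.mem_alternatingGroup.2 ?_⟩, ?_⟩
    · rw [map_mul, map_inv, sign_sig, hs, inv_mul_cancel]
    · show emb (a, sig a * ((sig a)⁻¹ * b)) = p
      rw [mul_inv_cancel_left, hab]
  choose pa pc hpc using hpair
  have uniq : ∀ (p : N9 0) a c, emb (a, sig a * (c : alternatingGroup (Fin 6))) = p → pa p = a ∧ pc p = c := by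
    intro p a c hp
    have := emb_injective ((hpc p).trans hp.symm)
    have h1 : pa p = a := congrArg Prod.fst this
    have h2 : sig (pa p) * (pc p : P6) = sig a * c := congrArg Prod.snd this
    rw [h1] at h2
    exact ⟨h1, Subtype.ext (mul_left_cancel h2)⟩
  let ι0 : N9 0 →* G := MonoidHom.mk' (fun p => φ (outer (pa p)) * ηG (pc p)) (by
    intro p q
    obtain ⟨h1, h2⟩ := uniq (p * q) (pa p * pa q) (MulAut.conjNormal (sig (pa q)⁻¹) (pc p) * pc q) (by
      show emb _ = (p : P9) * q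
      rw [← hpc p, ← hpc q, ← map_mul]
      refine congrArg emb (Prod.ext rfl ?_)
      show sig (pa p * pa q) * ((MulAut.conjNormal (sig (pa q)⁻¹) (pc p) * pc q : A6) : P6) = _
      rw [Subgroup.coe_mul, MulAut.conjNormal_apply, map_mul, map_inv]
      show _ = sig (pa p) * (pc p : P6) * (sig (pa q) * (pc q : P6))
      group)
    rw [h1, h2, map_mul, map_mul, map_mul, ← S.equiv, map_inv, map_inv]
    group)
  refine ⟨ι0, ?_, ?_, ?_⟩
  · rw [injective_iff_map_eq_one]
    intro p hp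
    have hp' : φ (outer (pa p)) * ηG (pc p) = 1 := hp
    have hαz : φ (outer (pa p)) * φ (E 0) = φ (E 0) * φ (outer (pa p)) := by
      rw [eq_inv_of_mul_eq_one_left hp']
      exact (Commute.inv_left (S.comm (pc p))).eq
    have hcomm : emb (pa p, sig (pa p)) * e 0 = e 0 * emb (pa p, sig (pa p)) :=
      (h.comm_iff (a := outer (pa p)) (b := E 0)).1 hαz
    rw [← emb_zero, ← map_mul, ← map_mul] at hcomm
    obtain ⟨i, hi⟩ := (show ∀ a : P3, a * cZ = cZ * a → ∃ i : Fin 3, a = cZ ^ i.val by decide +kernel) (pa p)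
      (congrArg Prod.fst (emb_injective hcomm) : pa p * cZ = cZ * pa p)
    have hs1 : sig (pa p) = 1 := by
      rw [hi]; exact (show ∀ i : Fin 3, sig (cZ ^ i.val) = 1 by decide +kernel) i
    have hout : outer (pa p) = E 0 ^ i.val := by
      refine Subtype.ext ?_
      show emb (pa p, sig (pa p)) = e 0 ^ i.val
      rw [hs1, hi, ← emb_zero, ← map_pow]
      simp
    rw [hout, map_pow] at hp'
    have hzi := S.meet i.val ⟨(pc p)⁻¹, by rw [map_inv]; exact (eq_inv_of_mul_eq_one_left hp').symm⟩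
    rw [hzi, one_mul] at hp'
    have hc1 : pc p = 1 := S.inj (hp'.trans (map_one ηG).symm)
    have hi0 : (E 0 : H9) ^ i.val = 1 := h.inj (by rw [map_pow, hzi, map_one])
    have hi0' : i = 0 := (show ∀ i : Fin 3, (e 0 : P9) ^ i.val = 1 → i = 0 by decide +kernel) i
      (congrArg Subtype.val hi0)
    refine Subtype.ext ?_
    rw [← hpc p, hi, hi0', hc1]
    simp only [Fin.val_zero, pow_zero, map_one, Subgroup.coe_one, mul_one]
    exact map_one emb
  · intro p hp hp'
    set P : N9 0 := ⟨p, hp'⟩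
    have hm : emb (1, (pc P : P6)) ∈ H9 := by
      have e' : emb (1, (pc P : P6)) = (emb (pa P, sig (pa P)))⁻¹ * p := by
        rw [eq_inv_mul_iff_mul_eq, ← map_mul]
        exact (congrArg emb (Prod.ext (mul_one _) rfl)).trans (hpc P)
      rw [e']
      exact H9.mul_mem (H9.inv_mem (emb_sig_mem _)) hp
    show φ (outer (pa P)) * ηG (pc P) = _
    rw [S.ext _ hm, ← map_mul]
    refine congrArg φ (Subtype.ext ?_)
    show emb _ * emb _ = p
    rw [← map_mul]
    exact (congrArg emb (Prod.ext (mul_one _) rfl)).trans (hpc P)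
  · intro g hg
    obtain ⟨i, c, hc⟩ := S.cover g hg
    have hm : emb (1, (c : P6)) ∈ N9 0 := emb_mem_N 1 _ (by rw [map_one, Equiv.Perm.mem_alternatingGroup.1 c.2])
    have e1 : ι0 ⟨_, hm⟩ = g * φ (E 0) ^ i := by
      obtain ⟨h1, h2⟩ := uniq ⟨_, hm⟩ 1 c (by simp)
      show φ (outer _) * ηG _ = _
      rw [h1, h2, map_one, map_one, one_mul, hc]
    have hz0 : emb (cZ, (1 : P6)) ∈ N9 0 := by rw [emb_zero]; exact e_mem_N 0 0
    have hzr : φ (E 0) ∈ ι0.range := by
      refine ⟨⟨_, hz0⟩, ?_⟩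
      obtain ⟨h1, h2⟩ := uniq ⟨_, hz0⟩ cZ 1 (by
        show emb (cZ, sig cZ * 1) = emb (cZ, 1)
        rw [show sig cZ = 1 by decide +kernel, one_mul])
      show φ (outer _) * ηG _ = _
      rw [h1, h2, map_one, mul_one]
      refine congrArg φ (Subtype.ext ?_)
      show emb (cZ, sig cZ) = e 0
      rw [show sig cZ = 1 by decide +kernel, emb_zero]
    have := ι0.range.mul_mem ⟨_, e1⟩ (ι0.range.inv_mem (ι0.range.pow_mem hzr i))
    simpa [mul_assoc] using this

omit [Finite G] in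
theorem branch_of_zero {ι0 : N9 0 →* G} (hι0 : Function.Injective ι0)
    (hext0 : ∀ (p : P9) (hp : p ∈ H9) (hp' : p ∈ N9 0), ι0 ⟨p, hp'⟩ = φ ⟨p, hp⟩)
    (hcent0 : Subgroup.centralizer ({φ (E 0)} : Set G) ≤ ι0.range) : ∃ ι, Branch φ ι := by
  let r : Fin 3 → H9 := fun k => ⟨rep (![i1, iR, iR2] k), rep_mem _⟩
  let ι : ∀ k : Fin 3, N9 k →* G := fun k =>
    MonoidHom.mk' (fun p => φ (r k) * ι0 ⟨_, conj_N0 p.2⟩ * (φ (r k))⁻¹) (by
      intro p q
      have e' : (⟨_, conj_N0 (p * q).2⟩ : N9 0) = ⟨_, conj_N0 p.2⟩ * ⟨_, conj_N0 q.2⟩ := Subtype.ext (by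
        show _ * ((p : P9) * q) * _ = _ * (p : P9) * _ * (_ * (q : P9) * _)
        group)
      rw [e', map_mul]
      group)
  refine ⟨ι, ⟨fun k p q e' => ?_, fun k p hp hp' => ?_, fun k g hg => ?_⟩⟩
  · have := congrArg Subtype.val (hι0 (mul_left_cancel (mul_right_cancel e')))
    exact Subtype.ext (mul_left_cancel (mul_right_cancel this))
  · show φ (r k) * ι0 _ * (φ (r k))⁻¹ = _
    rw [hext0 _ (H9.mul_mem (H9.mul_mem (H9.inv_mem (r k).2) hp) (r k).2) _, ← map_inv, ← map_mul, ← map_mul]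
    refine congrArg φ (Subtype.ext ?_)
    show _ * (_⁻¹ * p * _) * _⁻¹ = p
    group
  · have hr : φ (E k) = φ (r k) * φ (E 0) * (φ (r k))⁻¹ := by
      rw [← map_inv, ← map_mul, ← map_mul]
      exact congrArg φ (Subtype.ext (mul_inv_eq_iff_eq_mul.2 (rot_e k)).symm)
    have hg' : (φ (r k))⁻¹ * g * φ (r k) ∈ Subgroup.centralizer ({φ (E 0)} : Set G) := by
      refine Subgroup.mem_centralizer_singleton_iff.2 ?_
      have := Subgroup.mem_centralizer_singleton_iff.1 hg
      rw [hr] at this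
      calc (φ (r k))⁻¹ * g * φ (r k) * φ (E 0)
          = (φ (r k))⁻¹ * (g * (φ (r k) * φ (E 0) * (φ (r k))⁻¹)) * φ (r k) := by group
        _ = (φ (r k))⁻¹ * (φ (r k) * φ (E 0) * (φ (r k))⁻¹ * g) * φ (r k) := by rw [this]
        _ = _ := by group
    obtain ⟨q, hq⟩ := hcent0 hg'
    have hqN : (r k : P9) * q * (r k : P9)⁻¹ ∈ N9 k := by
      refine ⟨?_, fun x => ?_⟩
      · simp [(r k).2.1, q.2.1]
      · obtain ⟨y, rfl⟩ := (r k : P9).surjective x
        rw [Equiv.Perm.mul_apply, Equiv.Perm.mul_apply, show (r k : P9)⁻¹ ((r k : P9) y) = y from (r k : P9).symm_apply_apply y]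
        exact (rot_facts k y).trans ((q.2.2 y).trans (rot_facts k _).symm)
    refine ⟨⟨_, hqN⟩, ?_⟩
    show φ (r k) * ι0 _ * (φ (r k))⁻¹ = g
    rw [show (⟨_, conj_N0 hqN⟩ : N9 0) = q from Subtype.ext (by
      show (r k : P9)⁻¹ * ((r k : P9) * q * (r k : P9)⁻¹) * (r k : P9) = q
      group), hq]
    group

theorem branch_of_cent_e (L : Loc J φ)
    (hnot : ¬ Subgroup.centralizer ({φ (E 0)} : Set G) ≤ Subgroup.normalizer (J : Set G)) :
    ∃ ι, Branch φ ι := by
  obtain ⟨ηG, S⟩ := exists_six L hnot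
  obtain ⟨ι0, h1, h2, h3⟩ := piece_zero (Pre.of_loc L) S
  exact branch_of_zero h1 h2 h3

end

/-- All centralisers local, or the alternating branch. -/
theorem dichotomy [Finite G] {J : Subgroup G} {φ : H9 →* G} (L : Loc J φ) :
    (∀ j ∈ J, j ≠ 1 → Subgroup.centralizer ({j} : Set G) ≤ Subgroup.normalizer (J : Set G)) ∨
      ∃ ι, Branch φ ι := by
  by_cases hc : Subgroup.centralizer ({φ (E 0)} : Set G) ≤ Subgroup.normalizer (J : Set G)
  swap
  · exact Or.inr (branch_of_cent_e L hc)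
  left
  have h := Pre.of_loc L
  intro j hj hj1
  obtain ⟨v, rfl⟩ := h.memJ.1 hj
  have hv : v ≠ 0 := fun e' => hj1 (by
    rw [e', show J3 0 = 1 from Subtype.ext (by decide +kernel), map_one])
  obtain ⟨i, u, hu, hi⟩ := class_aux v hv
  have hu' : Subgroup.centralizer ({φ (J3 u)} : Set G) ≤ Subgroup.normalizer (J : Set G) := by
    simp only [List.mem_cons, List.not_mem_nil, or_false] at hu
    rcases hu with rfl | rfl | rfl
    · rw [show J3 (1, 0, 0) = E 0 from J3_gens.1]; exact hc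
    · rw [show J3 (1, 1, 0) = E 0 * E 1 from Subtype.ext w_eq]; exact L.cw
    · rw [show J3 (1, 1, 1) = E 0 * E 1 * E 2 from Subtype.ext x_eq]; exact L.cx
  have := cent_conj_le hu' (h.elH_mem ⟨rep i, rep_mem i⟩)
  rwa [← map_inv, ← map_mul, ← map_mul, show (⟨rep i, rep_mem i⟩ : H9) * J3 u *
    (⟨rep i, rep_mem i⟩ : H9)⁻¹ = J3 v from Subtype.ext (mul_inv_eq_iff_eq_mul.2 hi)] at this

end Cfsg.Agent.A9Local55
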