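import Cfsg.Agent.Lib.A9Bridge59
import Cfsg.Agent.Lib.A9Gen70

set_option autoImplicit false

namespace Cfsg.Agent.A9Base59

open Equiv

theorem nine_of_psi {G : Type*} [Group G] [Finite G] {J : Subgroup G} {φ : H9 →* G}
    {ι : ∀ k : Fin 3, N9 k →* G} (L : Loc J φ) (B : Branch φ ι)
    (hψ : ∃ ψ : alternatingGroup (Fin 9) →* G, Function.Injective ψ ∧
      (∀ (p : alternatingGroup (Fin 9)) (h : (p : P9) ∈ H9), ψ p = φ ⟨(p : P9), h⟩) ∧
      ∀ k (p : alternatingGroup (Fin 9)) (h : (p : P9) ∈ N9 k), ψ p = ι k ⟨(p : P9), h⟩) :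
    ∃ ψ : alternatingGroup (Fin 9) →* G, Nine φ ι ψ := by
  obtain ⟨ψ, hinj, hext, hextN⟩ := hψ
  refine ⟨ψ, hinj, hext, hextN, fun g hgv hgd => ?_⟩
  have hv : Commute g (F φ ι v) := by rw [F_H v_mem]; exact hgv
  have hd : Commute g (F φ ι d) := by rw [F_N B d_mem]; exact hgd
  obtain ⟨p, hp, -, -, rfl⟩ := cent_four L B hv hd
  exact ⟨⟨p, Perm.mem_alternatingGroup.2 hp.1⟩, by rw [hextN 0 _ hp, F_N B hp]⟩

/-- The alternating branch yields a copy of the alternating group of degree nine. -/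
theorem exists_nine {G : Type*} [Group G] [Finite G] {J : Subgroup G} {φ : H9 →* G}
    {ι : ∀ k : Fin 3, N9 k →* G} (L : Loc J φ) (B : Branch φ ι) :
    ∃ ψ : alternatingGroup (Fin 9) →* G, Nine φ ι ψ :=
  nine_of_psi L B (A9Gen70.exists_psi B (bridge L B).1 (bridge L B).2)

end Cfsg.Agent.A9Base59
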