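import Cfsg.Agent.Lib.A9FourFacts59

/-! Finite facts for the bridge and the fusion `{v,d} ~ {v,z}` (S3339). -/

set_option autoImplicit false

namespace Cfsg.Agent.A9Base59

open Equiv

def aa : P9 := swap 0 1 * swap 2 3
def bb : P9 := swap 0 1 * swap 2 6
def cc : P9 := swap 0 1 * swap 3 6
def zz : P9 := swap 0 1 * swap 4 5
def ww : P9 := swap 4 7 * swap 5 8
def u2 : P9 := swap 0 6 * swap 1 7 * swap 2 8 * swap 3 4
/-- conjugates `aa * v` to `q` inside `N9 2` -/
def sa : P9 := swap 0 3 * swap 3 4 * swap 4 2 * swap 2 1 * (swap 6 8 * swap 8 7)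
/-- conjugates `bb * v` to `u2` inside `N9 1` -/
def sb : P9 := swap 0 6 * swap 6 7 * swap 7 2 * swap 2 1 * (swap 3 5 * swap 5 4)
/-- conjugates `cc * v` to `u1` inside `N9 0` -/
def sc : P9 := swap 5 7 * swap 0 1

theorem aa_mem : aa ∈ N9 2 := ⟨by simp [aa], by decide +kernel⟩
theorem bb_mem : bb ∈ N9 1 := ⟨by simp [bb], by decide +kernel⟩
theorem cc_mem : cc ∈ N9 0 := ⟨by simp [cc], by decide +kernel⟩
theorem zz_mem : zz ∈ H9 := ⟨by simp [zz], by decide +kernel⟩
theorem ww_mem : ww ∈ N9 0 := ⟨by simp [ww], by decide +kernel⟩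
theorem u2_mem : u2 ∈ H9 := ⟨by simp [u2], by decide +kernel⟩
theorem sa_mem : sa ∈ N9 2 := ⟨by simp [sa], by decide +kernel⟩
theorem sb_mem : sb ∈ N9 1 := ⟨by simp [sb], by decide +kernel⟩
theorem sc_mem : sc ∈ N9 0 := ⟨by simp [sc], by decide +kernel⟩
theorem v_memN : ∀ k, v ∈ N9 k := fun k => ⟨by simp [v], by revert k; decide +kernel⟩
theorem zz_memN : ∀ k, zz ∈ N9 k := fun k => ⟨by simp [zz], by revert k; decide +kernel⟩
theorem q_memN : q ∈ N9 2 := ⟨by simp [q], by decide +kernel⟩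
theorem u1_memN : u1 ∈ N9 0 := ⟨by simp [u1], by decide +kernel⟩
theorem u2_memN : u2 ∈ N9 1 := ⟨by simp [u2], by decide +kernel⟩
theorem rot'_inv_mem : rot'⁻¹ ∈ H9 := inv_mem rot'_mem

theorem quad_conj : sa * (aa * v) = q * sa ∧ sb * (bb * v) = u2 * sb ∧ sc * (cc * v) = u1 * sc ∧
    rot' * q = u1 * rot' ∧ rot' * u2 = q * rot' := by
  decide +kernel

theorem comm_facts : aa * v = v * aa ∧ bb * v = v * bb ∧ cc * v = v * cc ∧
    aa * zz = zz * aa ∧ bb * zz = zz * bb ∧ cc * zz = zz * cc ∧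
    aa * aa = 1 ∧ bb * bb = 1 ∧ cc * cc = 1 ∧ v * v = 1 ∧ v * zz = zz * v ∧
    ww * v = v * ww ∧ ww * ww = 1 ∧ ww * d = v * d * ww ∧ cc * d = d * cc ∧ d * cc = zz ∧
    e 2 * aa = aa * e 2 ∧ e 1 * bb = bb * e 1 := by
  decide +kernel

theorem ne_facts : (∀ i j : Fin 2, bb * e 2 ≠ (e 2) ^ (i.val + 1) * bb ∧
    cc * e 2 ≠ (e 2) ^ (i.val + 1) * cc ∧ cc * e 1 ≠ (e 1) ^ (j.val + 1) * cc) := by
  decide +kernel

/-- The Sylow two-subgroup of the model centraliser of `v` fixing `2`. -/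
def S16 : Subgroup P9 where
  carrier := {p | p ∈ N9 0 ∧ p * v = v * p ∧ p 2 = 2}
  one_mem' := ⟨one_mem _, by simp, rfl⟩
  mul_mem' := by
    rintro a b ⟨ha, ha', ha2⟩ ⟨hb, hb', hb2⟩
    exact ⟨mul_mem ha hb, Commute.mul_left (show Commute a v from ha') hb',
      by rw [Perm.mul_apply, hb2, ha2]⟩
  inv_mem' := by
    rintro a ⟨ha, ha', ha2⟩
    exact ⟨inv_mem ha, (Commute.inv_left (show Commute a v from ha')).eq,
      by rw [Perm.inv_eq_iff_eq, ha2]⟩

/-- The elements of `S16`. -/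
def el (x : Fin 2 × Fin 2 × Fin 2 × Fin 2) : P9 :=
  cc ^ x.1.val * v ^ x.2.1.val * (d ^ x.2.2.1.val * ww ^ x.2.2.2.val)

theorem el_mem_N (x : Fin 2 × Fin 2 × Fin 2 × Fin 2) : el x ∈ N9 0 :=
  mul_mem (mul_mem (pow_mem cc_mem _) (pow_mem (v_memN 0) _))
    (mul_mem (pow_mem d_mem _) (pow_mem ww_mem _))

def pts : Fin 4 → Fin 9 := ![4, 5, 7, 8]

/-- A candidate for an element of `S16`, ignoring parity. -/
def cand' (y : Bool × Bool × Fin 4 × Fin 4) : Fin 9 → Fin 9 :=
  ![bif y.1 then 1 else 0, bif y.1 then 0 else 1, 2, bif y.2.1 then 6 else 3, pts y.2.2.1,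
    v (pts y.2.2.1), bif y.2.1 then 3 else 6, pts y.2.2.2, v (pts y.2.2.2)]

theorem cand'_cover : ∀ y : Bool × Bool × Fin 4 × Fin 4,
    pts y.2.2.1 ≠ pts y.2.2.2 → v (pts y.2.2.1) ≠ pts y.2.2.2 →
    ∃ x : Fin 2 × Fin 2 × Fin 2 × Fin 2, ∃ s : Bool, ∀ i,
      cand' y i = (el x) ((bif s then swap 0 1 else (1 : P9)) i) := by
  decide +kernel

theorem pts_cover : ∀ i : Fin 9, bk i ≠ 0 →
    (v i = i → i = 3 ∨ i = 6) ∧ (v i ≠ i → ∃ k, pts k = i) := by
  decide +kernel

theorem exists_el {p : P9} (hp : p ∈ S16) : ∃ x, p = el x := by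
  obtain ⟨hN, hv, h2⟩ := hp
  have V' : ∀ i, p (v i) = v (p i) := fun i => Equiv.ext_iff.1 hv i
  have hn : ∀ i, bk i ≠ 0 → bk (p i) ≠ 0 := fun i hi h => hi ((hN.2 i).2 h)
  have hfix : ∀ i, bk i ≠ 0 → v i = i → p i = 3 ∨ p i = 6 := fun i hi h =>
    (pts_cover _ (hn i hi)).1 (by rw [← V', h])
  have hmov : ∀ i, bk i ≠ 0 → v i ≠ i → ∃ k, pts k = p i := fun i hi h =>
    (pts_cover _ (hn i hi)).2 (fun h' => h (p.injective ((V' i).trans h')))
  obtain ⟨k4, hk4⟩ := hmov 4 (by decide) (by decide +kernel)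
  obtain ⟨k7, hk7⟩ := hmov 7 (by decide) (by decide +kernel)
  have h0 : p 0 = 0 ∨ p 0 = 1 := by
    have hb := (hN.2 0).1 (by decide)
    have hne : p 0 ≠ 2 := fun h => absurd (p.injective (h.trans h2.symm)) (by decide)
    revert hb hne
    generalize p 0 = x
    revert x
    decide
  have h1 : (p 0 = 0 → p 1 = 1) ∧ (p 0 = 1 → p 1 = 0) := by
    have hb := (hN.2 1).1 (by decide)
    have hne : p 1 ≠ 2 := fun h => absurd (p.injective (h.trans h2.symm)) (by decide)
    have hne' : p 1 ≠ p 0 := fun h => absurd (p.injective h) (by decide)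
    revert hb hne hne'
    generalize p 0 = x
    generalize p 1 = y
    revert x y
    decide
  have h36 := hfix 3 (by decide) (by decide +kernel)
  have h36' := hfix 6 (by decide) (by decide +kernel)
  have h3ne : p 3 ≠ p 6 := fun h => absurd (p.injective h) (by decide)
  have a5 := V' 4
  rw [show v 4 = 5 by decide +kernel] at a5
  have a8 := V' 7
  rw [show v 7 = 8 by decide +kernel] at a8
  have hy : ∀ i, cand' (decide (p 0 = 1), decide (p 3 = 6), k4, k7) i = p i := by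
    intro i
    fin_cases i
    · rcases h0 with h | h <;> simp [cand', h]
    · rcases h0 with h | h
      · simp [cand', h, h1.1 h]
      · simp [cand', h, h1.2 h]
    · simpa [cand'] using h2.symm
    · rcases h36 with h | h <;> simp [cand', h]
    · exact hk4
    · show v (pts k4) = p 5
      rw [a5, hk4]
    · rcases h36 with h | h <;> rcases h36' with h' | h' <;>
        first
          | exact absurd (h.trans h'.symm) h3ne
          | simp [cand', h, h']
    · exact hk7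
    · show v (pts k7) = p 8
      rw [a8, hk7]
  obtain ⟨x, s, hs⟩ := cand'_cover (decide (p 0 = 1), decide (p 3 = 6), k4, k7)
    (by
      show pts k4 ≠ pts k7
      rw [hk4, hk7]; exact fun h => absurd (p.injective h) (by decide))
    (by
      show v (pts k4) ≠ pts k7
      rw [hk4, hk7, ← V']; exact fun h => absurd (p.injective h) (by decide +kernel))
  have hp' : p = el x * (bif s then swap 0 1 else (1 : P9)) :=
    Equiv.ext fun i => (hy i).symm.trans (hs i)
  cases s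
  · exact ⟨x, by simpa using hp'⟩
  · have h1' := hN.1
    rw [hp', map_mul, (el_mem_N x).1, one_mul] at h1'
    simp at h1'

theorem el_four : ∀ x, (el x * el x) * (el x * el x) = 1 := by decide +kernel

/-- The six involutions of `S16` whose product with `v` is again double. -/
def sixF : Fin 6 → P9 := ![d, v * d, zz, v * zz, ww, v * ww]

/-- The three quadruple involutions of `S16`. -/
def quadF : Fin 3 → P9 := ![cc * v, u1, d * u1 * d]

theorem el_class : ∀ x, el x * el x = 1 →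
    el x = 1 ∨ el x = v ∨ el x = cc ∨ (∃ i, el x = sixF i) ∨ ∃ i, el x = quadF i := by
  decide +kernel

theorem sixF_v : ∀ i : Fin 6, ∃ j, sixF i * v = sixF j := by decide +kernel

theorem quadF_two : d * u1 * d = d * u1 * d⁻¹ := by decide +kernel

end Cfsg.Agent.A9Base59
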