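import Cfsg.Agent.Lib.A9NineFacts59

/-! Double and quadruple involutions are not conjugate (S3339, alternating branch). -/

set_option autoImplicit false

namespace Cfsg.Agent.A9Base59

open Equiv

def o34 : P9 := swap 0 1 * swap 3 4
def f5 : P9 := swap 3 4 * swap 4 5 * swap 5 6 * swap 6 7
def s23 : P9 := swap 2 3 * swap 3 4
def s36 : P9 := swap 6 4 * swap 4 5
def s57 : P9 := swap 5 7 * swap 1 2

theorem o34_mem : o34 ∈ H9 := ⟨by simp [o34], by decide +kernel⟩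
theorem o34_memN : ∀ k, o34 ∈ N9 k := fun k => ⟨by simp [o34], by revert k; decide +kernel⟩
theorem f5_mem : f5 ∈ N9 0 := ⟨by simp [f5], by decide +kernel⟩
theorem s23_mem : s23 ∈ N9 2 := ⟨by simp [s23], by decide +kernel⟩
theorem s36_mem : s36 ∈ N9 0 := ⟨by simp [s36], by decide +kernel⟩
theorem s57_mem : s57 ∈ N9 0 := ⟨by simp [s57], by decide +kernel⟩

theorem type_facts : s23 * aa = o34 * s23 ∧ s36 * cc = o34 * s36 ∧
    e 1 * e 2 * rot' * o34 = v * (e 1 * e 2 * rot') ∧ e 1 * o34 = zz * e 1 ∧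
    rot' * (v * zz) = e 0 * o34 * (e 0)⁻¹ * rot' ∧ s57 * ww = v * s57 ∧
    d * (v * ww) = ww * d ∧ f5 * e 0 = e 0 * f5 ∧ f5 * f5 * f5 * f5 * f5 = 1 ∧ f5 ≠ 1 ∧
    q * (e 0 * e 1) = e 0 * e 1 * q ∧ e 0 * v = v * e 0 := by
  decide +kernel

variable {G : Type*} [Group G] {J : Subgroup G} {φ : H9 →* G} {ι : ∀ k : Fin 3, N9 k →* G}

/-- Conjugate of the double involution. -/
def Dbl (φ : H9 →* G) (ι : ∀ k : Fin 3, N9 k →* G) (x : G) : Prop :=
  ∃ g, g * F φ ι v * g⁻¹ = x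

/-- Conjugate of the quadruple involution. -/
def Quad (φ : H9 →* G) (ι : ∀ k : Fin 3, N9 k →* G) (x : G) : Prop :=
  ∃ g, g * F φ ι q * g⁻¹ = x

theorem Dbl.conj {x : G} (h : Dbl φ ι x) (a : G) : Dbl φ ι (a * x * a⁻¹) := by
  obtain ⟨g, rfl⟩ := h
  exact ⟨a * g, by group⟩

theorem Quad.conj {x : G} (h : Quad φ ι x) (a : G) : Quad φ ι (a * x * a⁻¹) := by
  obtain ⟨g, rfl⟩ := h
  exact ⟨a * g, by group⟩

variable (B : Branch φ ι)
include B

theorem Dbl.step {x y s : P9} (h : Dbl φ ι (F φ ι y)) (h1 : Ok s x) (h2 : Ok y s)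
    (he : s * x = y * s) : Dbl φ ι (F φ ι x) := by
  have e := F_conj B h1 h2 he
  have := h.conj (F φ ι s)⁻¹
  rwa [← e, show (F φ ι s)⁻¹ * (F φ ι s * F φ ι x * (F φ ι s)⁻¹) * (F φ ι s)⁻¹⁻¹ = F φ ι x by
    group] at this

theorem Quad.step {x y s : P9} (h : Quad φ ι (F φ ι y)) (h1 : Ok s x) (h2 : Ok y s)
    (he : s * x = y * s) : Quad φ ι (F φ ι x) := by
  have e := F_conj B h1 h2 he
  have := h.conj (F φ ι s)⁻¹
  rwa [← e, show (F φ ι s)⁻¹ * (F φ ι s * F φ ι x * (F φ ι s)⁻¹) * (F φ ι s)⁻¹⁻¹ = F φ ι x by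
    group] at this

omit B in
theorem okH {x y : P9} (hx : x ∈ H9) (hy : y ∈ H9) : Ok x y := Or.inl ⟨hx, hy⟩

omit B in
theorem okN {k : Fin 3} {x y : P9} (hx : x ∈ N9 k) (hy : y ∈ N9 k) : Ok x y := Or.inr ⟨k, hx, hy⟩

theorem dbl_v : Dbl φ ι (F φ ι v) := ⟨1, by group⟩

theorem dbl_o34 : Dbl φ ι (F φ ι o34) := by
  have hs : e 1 * e 2 * rot' ∈ H9 := mul_mem (mul_mem (e_mem 1) (e_mem 2)) rot'_mem
  exact (dbl_v B).step B (okH hs o34_mem) (okH v_mem hs) type_facts.2.2.1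

theorem dbl_aa : Dbl φ ι (F φ ι aa) :=
  (dbl_o34 B).step B (okN s23_mem aa_mem) (okN (o34_memN 2) s23_mem) type_facts.1

theorem dbl_cc : Dbl φ ι (F φ ι cc) :=
  (dbl_o34 B).step B (okN s36_mem cc_mem) (okN (o34_memN 0) s36_mem) type_facts.2.1

theorem dbl_zz : Dbl φ ι (F φ ι zz) := by
  have h := (dbl_o34 B).conj (F φ ι (e 1))
  rwa [F_conj B (okH (e_mem 1) o34_mem) (okH zz_mem (e_mem 1)) type_facts.2.2.2.1] at h

theorem dbl_six (i : Fin 6) : Dbl φ ι (F φ ι (sixF i)) := by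
  have hvd : v * d ∈ N9 0 := mul_mem (v_memN 0) d_mem
  have hvz : v * zz ∈ H9 := mul_mem v_mem zz_mem
  have hvw : v * ww ∈ N9 0 := mul_mem (v_memN 0) ww_mem
  have hd : Dbl φ ι (F φ ι d) :=
    (dbl_v B).step B (okN fp_mem d_mem) (okN (v_memN 0) fp_mem) fp_rel.2.1
  have hw : Dbl φ ι (F φ ι ww) :=
    (dbl_v B).step B (okN s57_mem ww_mem) (okN (v_memN 0) s57_mem) type_facts.2.2.2.2.2.1
  fin_cases i
  · exact hd
  · exact hd.step B (okN fp_mem hvd) (okN d_mem fp_mem) fp_rel.2.2.2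
  · exact dbl_zz B
  · have hy : e 0 * o34 * (e 0)⁻¹ ∈ H9 := mul_mem (mul_mem (e_mem 0) o34_mem) (inv_mem (e_mem 0))
    have h : Dbl φ ι (F φ ι (e 0 * o34 * (e 0)⁻¹)) := by
      have h := (dbl_o34 B).conj (F φ ι (e 0))
      rwa [F_conj B (okH (e_mem 0) o34_mem) (okH hy (e_mem 0)) (by group)] at h
    exact h.step B (okH rot'_mem hvz) (okH hy rot'_mem) type_facts.2.2.2.2.1
  · exact hw
  · exact hw.step B (okN d_mem hvw) (okN ww_mem d_mem) type_facts.2.2.2.2.2.2.1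

theorem quad_q : Quad φ ι (F φ ι q) := ⟨1, by group⟩

theorem quad_u1 : Quad φ ι (F φ ι u1) := by
  have h := (quad_q B).conj (F φ ι rot')
  rwa [F_conj B (okH rot'_mem q_mem) (okH u1_mem rot'_mem) quad_conj.2.2.2.1] at h

theorem quad_u2 : Quad φ ι (F φ ι u2) :=
  (quad_q B).step B (okH rot'_mem u2_mem) (okH q_mem rot'_mem) quad_conj.2.2.2.2

theorem quad_av : Quad φ ι (F φ ι (aa * v)) :=
  (quad_q B).step B (okN sa_mem (mul_mem aa_mem (v_memN 2))) (okN q_memN sa_mem) quad_conj.1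

theorem quad_bv : Quad φ ι (F φ ι (bb * v)) :=
  (quad_u2 B).step B (okN sb_mem (mul_mem bb_mem (v_memN 1))) (okN u2_memN sb_mem) quad_conj.2.1

theorem quad_cv : Quad φ ι (F φ ι (cc * v)) :=
  (quad_u1 B).step B (okN sc_mem (mul_mem cc_mem (v_memN 0))) (okN u1_memN sc_mem) quad_conj.2.2.1

theorem quad_three (i : Fin 3) : Quad φ ι (F φ ι (quadF i)) := by
  fin_cases i
  · exact quad_cv B
  · exact quad_u1 B
  · have h := (quad_u1 B).conj (F φ ι d)
    have hy : d * u1 * d ∈ N9 0 := mul_mem (mul_mem d_mem u1_memN) d_mem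
    rwa [F_conj B (okN d_mem u1_memN) (okN hy d_mem) (show d * u1 = d * u1 * d * d by
      rw [quadF_two, inv_mul_cancel_right])] at h

/-- A three-element of `C(v) ∩ C(e 0)` lies in `⟨e 0⟩`. -/
theorem three_model {p : P9} (hp : p ∈ N9 0) (he : p * e 0 = e 0 * p) (hv : p * v = v * p)
    {k : ℕ} (h3 : p ^ 3 ^ k = 1) : ∃ i : Fin 3, p = (e 0) ^ i.val := by
  have hb := (hp.2 2).1 (by decide)
  have hval : (p 2).val < 3 := by
    have := congrArg Fin.val hb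
    simp only [bk, Fin.val_zero] at this
    omega
  obtain ⟨i, hi⟩ : ∃ i : Fin 3, ((e 0) ^ i.val) 2 = p 2 := by
    have aux : ∀ x : Fin 9, x.val < 3 → ∃ i : Fin 3, ((e 0) ^ i.val) 2 = x := by decide +kernel
    exact aux _ hval
  set r := (e 0) ^ i.val
  have hrv : Commute r v := (show Commute (e 0) v from type_facts.2.2.2.2.2.2.2.2.2.2.2).pow_left _
  have hre : Commute r p := (show Commute (e 0) p from he.symm).pow_left _
  have hrN : r ∈ N9 0 := pow_mem (e_mem_N 0 0) _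
  have hq : r⁻¹ * p ∈ S16 := ⟨mul_mem (inv_mem hrN) hp,
    (hrv.inv_left.mul_left (show Commute p v from hv)).eq,
    by rw [Perm.mul_apply, Perm.inv_eq_iff_eq, hi]⟩
  obtain ⟨x, hx⟩ := exists_el hq
  have h4 : (r⁻¹ * p) ^ 4 = 1 := by
    rw [hx, show (4 : ℕ) = 2 * 2 from rfl, pow_mul, pow_two, pow_two]
    exact el_four x
  have hr3 : r ^ 3 ^ (k + 1) = 1 := by
    rw [← pow_mul, pow_succ, show i.val * (3 ^ k * 3) = 3 * (i.val * 3 ^ k) by ring, pow_mul,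
      fp_rest.2.2.2.1, one_pow]
  have h3' : (r⁻¹ * p) ^ 3 ^ (k + 1) = 1 := by
    rw [hre.inv_left.mul_pow, inv_pow, hr3, inv_one, one_mul, pow_succ, pow_mul, h3, one_pow]
  have hg : Nat.gcd 4 (3 ^ (k + 1)) = 1 := Nat.Coprime.pow_right _ (by norm_num)
  have := pow_gcd_eq_one.2 ⟨h4, h3'⟩
  rw [hg, pow_one] at this
  exact ⟨i, eq_of_inv_mul_eq_one this |>.symm⟩

/-- The double and the quadruple involutions are not conjugate. -/
theorem sep [Finite G] (L : Loc J φ) {x : G} (h1 : Dbl φ ι x) (h2 : Quad φ ι x) : False := by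
  classical
  haveI : Fact (Nat.Prime 3) := ⟨by norm_num⟩
  obtain ⟨g1, rfl⟩ := h1
  obtain ⟨g2, hg2⟩ := h2
  set g := g1⁻¹ * g2 with hg
  have hgq : g * F φ ι q * g⁻¹ = F φ ι v := by
    calc g * F φ ι q * g⁻¹ = g1⁻¹ * (g2 * F φ ι q * g2⁻¹) * g1 := by rw [hg]; group
      _ = F φ ι v := by rw [hg2]; group
  set T := Subgroup.centralizer ({F φ ι v} : Set G)
  have h01 : e 0 * e 1 ∈ H9 := mul_mem (e_mem 0) (e_mem 1)
  set x0 := F φ ι (e 0)
  have hxT : x0 ∈ T := Subgroup.mem_centralizer_singleton_iff.2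
    (F_comm B (okH (e_mem 0) v_mem) (okH v_mem (e_mem 0)) type_facts.2.2.2.2.2.2.2.2.2.2.2).eq
  set t := g * F φ ι (e 0 * e 1) * g⁻¹ with ht
  have htT : t ∈ T := Subgroup.mem_centralizer_singleton_iff.2 (by
    rw [← hgq, ht]
    exact ((F_comm B (okH h01 q_mem) (okH q_mem h01)
      type_facts.2.2.2.2.2.2.2.2.2.2.1.symm).map (MulAut.conj g).toMonoidHom).eq)
  have hx3 : x0 ^ 3 = 1 := by rw [← F_pow_N B (e_mem_N 0 0), fp_rest.2.2.2.1, F_one]
  have hx1 : x0 ≠ 1 := fun h => fp_rest.2.2.1 (F_inj_N B (e_mem_N 0 0) (one_mem _)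
    (by rw [F_one]; exact h))
  have hox : orderOf (⟨x0, hxT⟩ : T) = 3 := by
    rw [← Subgroup.orderOf_coe]; exact orderOf_eq_prime hx3 hx1
  set P0 := Subgroup.zpowers (⟨x0, hxT⟩ : T)
  have hP0 : IsPGroup 3 P0 := IsPGroup.of_card (n := 1) (by rw [Nat.card_zpowers, hox, pow_one])
  obtain ⟨P, hP⟩ := hP0.exists_le_sylow
  have hPeq : (P : Subgroup T) = P0 := by
    by_contra hne
    haveI : Group.IsNilpotent P := P.2.isNilpotent
    have hlt : P0.subgroupOf P < ⊤ := lt_top_iff_ne_top.2 fun h => hne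
      (le_antisymm (Subgroup.subgroupOf_eq_top.1 h) hP)
    obtain ⟨y, hyN, hy⟩ := SetLike.exists_of_lt (Group.normalizerCondition_of_isNilpotent _ hlt)
    apply hy
    rw [Subgroup.mem_subgroupOf]
    have hxP : (⟨x0, hxT⟩ : T) ∈ (P : Subgroup T) := hP (Subgroup.mem_zpowers _)
    have hc : (y : T) * ⟨x0, hxT⟩ * (y : T)⁻¹ ∈ P0 :=
      Subgroup.mem_subgroupOf.1 ((Subgroup.mem_normalizer_iff.1 hyN ⟨_, hxP⟩).1
        (Subgroup.mem_subgroupOf.2 (Subgroup.mem_zpowers _)))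
    obtain ⟨j, hj⟩ := Subgroup.mem_zpowers_iff.1 hc
    rw [← zpow_mod_orderOf, hox] at hj
    obtain ⟨k, hk⟩ := P.2 y
    have hk' : ((y : T) : G) ^ 3 ^ k = 1 := by
      have := congrArg (fun a : (P : Subgroup T) => ((a : T) : G)) hk
      simpa using this
    set Y := ((y : T) : G) with hY
    have hj' : Y * x0 * Y⁻¹ = x0 ^ (j % ((3 : ℕ) : ℤ)) := by
      have := congrArg (fun a : T => (a : G)) hj
      simpa using this.symm
    have hcomm : Commute Y x0 := by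
      rcases (show j % ((3 : ℕ) : ℤ) = 0 ∨ j % ((3 : ℕ) : ℤ) = 1 ∨ j % ((3 : ℕ) : ℤ) = 2 by
        omega) with h | h | h
      · rw [h, zpow_zero, conj_eq_one_iff] at hj'; exact absurd hj' hx1
      · rw [h, zpow_one] at hj'; exact mul_inv_eq_iff_eq_mul.1 hj'
      · exfalso
        rw [h] at hj'
        have hinv : Y * x0 * Y⁻¹ = x0⁻¹ := by
          rw [hj']
          refine eq_inv_of_mul_eq_one_left ?_
          calc x0 ^ (2 : ℤ) * x0 = x0 ^ 3 := by group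
            _ = 1 := hx3
        have hsq : Commute (Y ^ 2) x0 := mul_inv_eq_iff_eq_mul.1 (by
          calc Y ^ 2 * x0 * (Y ^ 2)⁻¹ = Y * (Y * x0 * Y⁻¹) * Y⁻¹ := by
                rw [pow_two]; group
            _ = Y * x0⁻¹ * Y⁻¹ := by rw [hinv]
            _ = (Y * x0 * Y⁻¹)⁻¹ := by group
            _ = x0 := by rw [hinv, inv_inv])
        obtain ⟨n, hn⟩ : ∃ n, 3 ^ k = 2 * n + 1 :=
          Odd.pow (by decide : Odd 3)
        have hY1 : Y = (Y ^ 2) ^ n.succ := by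
          rw [← pow_mul, show 2 * n.succ = 3 ^ k + 1 by omega, pow_succ, hk', one_mul]
        have h' := hsq.pow_left n.succ
        rw [← hY1] at h'
        rw [h'.eq, mul_inv_cancel_right] at hinv
        apply hx1
        have h2 : x0 * x0 = 1 := by
          rw [mul_eq_one_iff_eq_inv]
          exact hinv
        calc x0 = x0 * (x0 * x0) := by rw [h2, mul_one]
          _ = x0 ^ 3 := by rw [pow_succ, pow_two, mul_assoc]
          _ = 1 := hx3
    obtain ⟨p, hp, hpe, hYp⟩ := cent_exists B hcomm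
    have hYT : Commute Y (F φ ι v) := Subgroup.mem_centralizer_singleton_iff.1 (y : T).2
    rw [hYp] at hYT hk'
    have hpv : p * v = v * p := F_inj_N B (mul_mem hp (v_memN 0)) (mul_mem (v_memN 0) hp) (by
      rw [F_mul B (okN hp (v_memN 0)), F_mul B (okN (v_memN 0) hp)]; exact hYT.eq)
    obtain ⟨i, hi⟩ := three_model B hp hpe hpv (k := k) (F_inj_N B (pow_mem hp _) (one_mem _)
      (by rw [F_pow_N B hp, hk', F_one]))
    refine Subgroup.mem_zpowers_iff.2 ⟨(i.val : ℤ), Subtype.ext ?_⟩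
    rw [zpow_natCast, SubmonoidClass.coe_pow]
    show x0 ^ i.val = Y
    rw [hYp, hi, F_pow_N B (e_mem_N 0 0)]
  have ht3 : t ^ 3 = 1 := by
    rw [ht, conj_pow, F_H h01, ← map_pow,
      show (⟨e 0 * e 1, h01⟩ : H9) ^ 3 = 1 by
        rw [show (⟨e 0 * e 1, h01⟩ : H9) = E 0 * E 1 from rfl,
          (show Commute (E 0) (E 1) from E_comm 0 1).mul_pow, E_cube, E_cube, one_mul],
      map_one]
    group
  have ht1 : t ≠ 1 := by
    intro h
    rw [ht, conj_eq_one_iff, F_H h01] at h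
    have := congrArg (fun a : H9 => (a : P9) 0) (L.inj (h.trans (map_one φ).symm))
    revert this
    simp only [Subgroup.coe_one, Perm.one_apply]
    decide +kernel
  have hZ : IsPGroup 3 (Subgroup.zpowers (⟨t, htT⟩ : T)) := IsPGroup.of_card (n := 1) (by
    rw [Nat.card_zpowers, pow_one, ← Subgroup.orderOf_coe]
    exact orderOf_eq_prime ht3 ht1)
  obtain ⟨Q, hQ⟩ := hZ.exists_le_sylow
  obtain ⟨s, hs⟩ := MulAction.exists_smul_eq T Q P
  have hts : s * ⟨t, htT⟩ * s⁻¹ ∈ P0 := by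
    rw [← hPeq, ← hs]
    exact Subgroup.mem_pointwise_smul_iff_inv_smul_mem.2 (by
      simpa [MulAut.smul_def, mul_assoc] using hQ (Subgroup.mem_zpowers _))
  obtain ⟨j, hj⟩ := Subgroup.mem_zpowers_iff.1 hts
  set g' := (s : G) * g
  have hgj : g' * F φ ι (e 0 * e 1) * g'⁻¹ = x0 ^ j := by
    have := congrArg (fun a : T => (a : G)) hj
    simp only [SubgroupClass.coe_zpow, Subgroup.coe_mul, Subgroup.coe_inv] at this
    calc g' * F φ ι (e 0 * e 1) * g'⁻¹ = (s : G) * t * (s : G)⁻¹ := by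
          rw [show g' = (s : G) * g from rfl, ht]; group
      _ = x0 ^ j := this.symm
  have hf : Commute (F φ ι f5) x0 :=
    F_comm B (okN f5_mem (e_mem_N 0 0)) (okN (e_mem_N 0 0) f5_mem) type_facts.2.2.2.2.2.2.2.1
  have hcw : g'⁻¹ * F φ ι f5 * g' ∈ Subgroup.centralizer ({φ (E 0 * E 1)} : Set G) := by
    rw [Subgroup.mem_centralizer_singleton_iff]
    have h := hf.zpow_right j
    rw [← hgj, F_H h01] at h
    have he' : φ (E 0 * E 1) = φ ⟨e 0 * e 1, h01⟩ := rfl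
    rw [he']
    calc g'⁻¹ * F φ ι f5 * g' * φ ⟨e 0 * e 1, h01⟩
        = g'⁻¹ * (F φ ι f5 * (g' * φ ⟨e 0 * e 1, h01⟩ * g'⁻¹)) * g' := by group
      _ = g'⁻¹ * ((g' * φ ⟨e 0 * e 1, h01⟩ * g'⁻¹) * F φ ι f5) * g' := by rw [h.eq]
      _ = φ ⟨e 0 * e 1, h01⟩ * (g'⁻¹ * F φ ι f5 * g') := by group
  obtain ⟨u, hu⟩ := L.mem_range (L.cw hcw)
  have hf5 : f5 ^ 5 = 1 := by
    simp only [pow_succ, pow_zero, one_mul]
    exact type_facts.2.2.2.2.2.2.2.2.1
  have hu5 : u ^ 5 = 1 := L.inj (by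
    rw [map_pow, hu, map_one, show g'⁻¹ * F φ ι f5 * g' = g'⁻¹ * F φ ι f5 * g'⁻¹⁻¹ by rw [inv_inv],
      conj_pow, ← F_pow_N B f5_mem, hf5, F_one]
    group)
  have hu1 : u = 1 := Subtype.ext (no_prime u.2 (Or.inl rfl) (congrArg Subtype.val hu5))
  rw [hu1, map_one] at hu
  apply type_facts.2.2.2.2.2.2.2.2.2.1
  refine F_inj_N B f5_mem (one_mem _) ?_
  rw [F_one]
  calc F φ ι f5 = g' * (g'⁻¹ * F φ ι f5 * g') * g'⁻¹ := by group
    _ = 1 := by rw [← hu]; group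

end Cfsg.Agent.A9Base59
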