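import Mathlib
import Cfsg.Prelude.Def_Local
import Cfsg.Prelude.Def_Balance
import Cfsg.Agent.Lib.HallCore
import Cfsg.Agent.Lib.HallSolvable
import Cfsg.Agent.Lib.SignalizerCoprime

/-!
# Basic facts for signalizer functors and balance

`O_{p'}(C(x))`, `Δ(A)`, Thompson's A×B lemma and the balance lemma for p-solvable centralizers.
-/

set_option autoImplicit false

namespace Cfsg.Agent.SignalizerBasic

open Cfsg.Agent.SignalizerCoprime

variable {G : Type*} [Group G]

theorem centralizerPPrimeCore_le (p : ℕ) (x : G) :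
    Cfsg.centralizerPPrimeCore p x ≤ Subgroup.centralizer {x} :=
  Subgroup.map_subtype_le _

theorem not_dvd_card_centralizerPPrimeCore [Finite G] (p : ℕ) [Fact p.Prime] (x : G) :
    ¬ p ∣ Nat.card (Cfsg.centralizerPPrimeCore p x) := fun h =>
  HallCore.not_dvd_card_pPrimeCore p _ (h.trans (Subgroup.card_map_dvd _ _))

theorem centralizer_le_normalizer_centralizerPPrimeCore [Finite G] (p : ℕ) (x : G) :
    Subgroup.centralizer {x} ≤ Subgroup.normalizer (Cfsg.centralizerPPrimeCore p x : Set G) := by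
  refine le_normalizer_of_forall fun c hc z hz => ?_
  obtain ⟨z', hz', rfl⟩ := hz
  exact ⟨⟨c, hc⟩ * z' * ⟨c, hc⟩⁻¹,
    (HallCore.pPrimeCore_normal p _).conj_mem _ hz' ⟨c, hc⟩, rfl⟩

/-- `O_{p'}(C(x))` contains every `p'`-subgroup of `C(x)` normalized by `C(x)`. -/
theorem le_centralizerPPrimeCore {p : ℕ} [hp : Fact p.Prime] {x : G} {M : Subgroup G}
    (hM : M ≤ Subgroup.centralizer {x})
    (hn : Subgroup.centralizer {x} ≤ Subgroup.normalizer (M : Set G))
    (hMp : ¬ p ∣ Nat.card M) : M ≤ Cfsg.centralizerPPrimeCore p x := by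
  set C := Subgroup.centralizer ({x} : Set G)
  haveI : (M.subgroupOf C).Normal := Subgroup.normal_subgroupOf_of_le_normalizer hn
  have hle : M.subgroupOf C ≤ Cfsg.pPrimeCore p C := HallCore.le_pPrimeCore (by
    rw [Nat.card_congr (Subgroup.subgroupOfEquivOfLe hM).toEquiv]
    exact ((Nat.Prime.coprime_iff_not_dvd hp.out).2 hMp).symm)
  intro m hm
  exact ⟨⟨m, hM hm⟩, hle hm, rfl⟩

theorem signalizerDelta_le_centralizerPPrimeCore {p : ℕ} {A : Subgroup G} {a : G}
    (ha : a ∈ A) (ha1 : a ≠ 1) :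
    Cfsg.signalizerDelta p A ≤ Cfsg.centralizerPPrimeCore p a :=
  iInf_le_of_le ⟨a, ha, ha1⟩ le_rfl

theorem mem_signalizerDelta {p : ℕ} {A : Subgroup G} {x : G} :
    x ∈ Cfsg.signalizerDelta p A ↔ ∀ a ∈ A, a ≠ 1 → x ∈ Cfsg.centralizerPPrimeCore p a := by
  simp only [Cfsg.signalizerDelta, Subgroup.mem_iInf, Subtype.forall, and_imp]

theorem signalizerDelta_antitone {p : ℕ} {A B : Subgroup G} (h : A ≤ B) :
    Cfsg.signalizerDelta p B ≤ Cfsg.signalizerDelta p A := fun x hx =>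
  mem_signalizerDelta.2 fun a ha ha1 => mem_signalizerDelta.1 hx a (h ha) ha1

/-- Elements centralizing `A` normalize `Δ(A)`. -/
theorem centralizer_le_normalizer_signalizerDelta [Finite G] (p : ℕ) (A : Subgroup G) :
    Subgroup.centralizer (A : Set G) ≤
      Subgroup.normalizer (Cfsg.signalizerDelta p A : Set G) := by
  refine le_normalizer_of_forall fun c hc z hz => mem_signalizerDelta.2 fun a ha ha1 => ?_
  exact mem_normalizer_conj (centralizer_le_normalizer_centralizerPPrimeCore p a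
    (Subgroup.mem_centralizer_singleton_iff.2 (hc a ha).symm))
    (mem_signalizerDelta.1 hz a ha ha1)

/-- Thompson's `A × B` lemma with `A` cyclic. -/
theorem le_centralizer_of_AxB [Finite G] {p : ℕ} [hp : Fact p.Prime] {V M : Subgroup G} {a : G}
    (hV : IsPGroup p V) (ha : IsPGroup p ↥(Subgroup.zpowers a))
    (haV : a ∈ Subgroup.normalizer (V : Set G)) (hMV : M ≤ Subgroup.normalizer (V : Set G))
    (hMa : M ≤ Subgroup.centralizer {a}) (hMp : ¬ p ∣ Nat.card M)
    (hfix : ∀ v ∈ V, v * a = a * v → ∀ m ∈ M, m * v = v * m) :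
    M ≤ Subgroup.centralizer (V : Set G) := by
  set U := V ⊓ Subgroup.centralizer (M : Set G) with hU
  suffices hVU : V ≤ U from fun m hm v hv => ((hVU hv).2 m hm).symm
  have hpowM : ∀ i : ℤ, ∀ m ∈ M, m * a ^ i = a ^ i * m := fun i m hm =>
    ((show Commute m a from Subgroup.mem_centralizer_singleton_iff.1 (hMa hm)).zpow_right i).eq
  have haM : a ∈ Subgroup.centralizer (M : Set G) := fun m hm => by
    simpa using hpowM 1 m hm
  have haU : Subgroup.zpowers a ≤ Subgroup.normalizer (U : Set G) :=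
    le_normalizer_inf (Subgroup.zpowers_le.2 haV)
      ((Subgroup.zpowers_le.2 haM).trans Subgroup.le_normalizer)
  set U' := U ⊔ Subgroup.zpowers a with hU'
  have hint : ∀ z ∈ U', z ∈ V → z ∈ U := by
    intro z hz hzV
    have hz' : z ∈ (↑(Subgroup.zpowers a ⊔ U) : Set G) := by rw [sup_comm]; exact hz
    rw [Subgroup.coe_mul_of_left_le_normalizer_right _ _ haU] at hz'
    obtain ⟨w, hw, u, hu, rfl⟩ := Set.mem_mul.1 hz'
    obtain ⟨i, rfl⟩ := hw
    have hwV : a ^ i ∈ V := by simpa using mul_mem hzV (inv_mem (show u ∈ V from hu.1))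
    exact mul_mem ⟨hwV, hpowM i⟩ hu
  by_cases hVU' : V ≤ U'
  · exact fun v hv => hint v (hVU' hv) hv
  exfalso
  set W := V ⊔ Subgroup.zpowers a with hW
  have hWp : IsPGroup p W := IsPGroup.to_sup_of_normal_left' hV ha (Subgroup.zpowers_le.2 haV)
  haveI : Group.IsNilpotent ↥W := hWp.isNilpotent
  have hlt : U'.subgroupOf W < ⊤ :=
    lt_top_iff_ne_top.2 fun h => hVU' (le_sup_left.trans (Subgroup.subgroupOf_eq_top.1 h))
  obtain ⟨⟨w, hwW⟩, hwN, hwU⟩ :=
    SetLike.exists_of_lt (Group.normalizerCondition_of_isNilpotent (G := ↥W) _ hlt)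
  have hUW : U' ≤ W := sup_le_sup_right inf_le_left _
  have hwN' : ∀ y ∈ U', w * y * w⁻¹ ∈ U' := fun y hy =>
    (Subgroup.mem_normalizer_iff.1 hwN ⟨y, hUW hy⟩).1 hy
  have hw' : w ∈ (↑(V ⊔ Subgroup.zpowers a) : Set G) := hwW
  rw [Subgroup.coe_mul_of_right_le_normalizer_left _ _ (Subgroup.zpowers_le.2 haV)] at hw'
  obtain ⟨x, hx, _, ⟨i, rfl⟩, rfl⟩ := Set.mem_mul.1 hw'
  have hai : a ^ i ∈ U' := Subgroup.mem_sup_right (zpow_mem (Subgroup.mem_zpowers a) i)
  have hxU' : x ∉ U' := fun h => hwU (Subgroup.mem_subgroupOf.2 (mul_mem h hai))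
  have haU' : a ∈ U' := Subgroup.mem_sup_right (Subgroup.mem_zpowers a)
  -- the commutator of `x` and `a` lies in `U`
  have hu : a * x * a⁻¹ * x⁻¹ ∈ U := by
    refine hint _ ?_ (mul_mem (mem_normalizer_conj haV hx) (inv_mem hx))
    have h1 := hwN' a⁻¹ (inv_mem haU')
    have h2 : a * (x * (a ^ i * a⁻¹ * (a ^ i)⁻¹) * x⁻¹) ∈ U' := by
      refine mul_mem haU' ?_
      simpa [mul_assoc] using h1
    rw [show a ^ i * a⁻¹ * (a ^ i)⁻¹ = a⁻¹ by group] at h2
    simpa [mul_assoc] using h2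
  apply hxU'
  refine Subgroup.mem_sup_left ⟨hx, fun m hm => ?_⟩
  have hua : m * (a * x * a⁻¹ * x⁻¹) = (a * x * a⁻¹ * x⁻¹) * m := hu.2 m hm
  set w' := x⁻¹ * (m * x * m⁻¹) with hw'def
  have hw'V : w' ∈ V := mul_mem (inv_mem hx) (mem_normalizer_conj (hMV hm) hx)
  have ham : a * m * a⁻¹ = m := by
    rw [← Subgroup.mem_centralizer_singleton_iff.1 (hMa hm), mul_inv_cancel_right]
  have hw'a : a * w' * a⁻¹ = w' := by
    calc a * w' * a⁻¹ = x⁻¹ * ((a * x * a⁻¹ * x⁻¹)⁻¹ * (a * m * a⁻¹) * (a * x * a⁻¹ * x⁻¹)) * x *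
          (a * m * a⁻¹)⁻¹ := by rw [hw'def]; group
      _ = x⁻¹ * ((a * x * a⁻¹ * x⁻¹)⁻¹ * (m * (a * x * a⁻¹ * x⁻¹))) * x * m⁻¹ := by
          rw [ham, mul_assoc _ m]
      _ = w' := by rw [hua, hw'def]; group
  have hcomm : Commute m w' := hfix w' hw'V (mul_inv_eq_iff_eq_mul.1 hw'a).symm m hm
  have hm1 : m * x * m⁻¹ = x * w' := by rw [hw'def]; group
  have hiter : ∀ n : ℕ, m ^ n * x * (m ^ n)⁻¹ = x * w' ^ n := by
    intro n
    induction n with
    | zero => simp
    | succ n ih =>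
      rw [pow_succ', show m * m ^ n * x * (m * m ^ n)⁻¹ = m * (m ^ n * x * (m ^ n)⁻¹) * m⁻¹ by group,
        ih, show m * (x * w' ^ n) * m⁻¹ = (m * x * m⁻¹) * (m * w' ^ n * m⁻¹) by group, hm1,
        (hcomm.pow_right n).eq, mul_inv_cancel_right, pow_succ', mul_assoc]
  have h0 := hiter (orderOf m)
  rw [pow_orderOf_eq_one, inv_one, mul_one, one_mul] at h0
  have hw1 : w' ^ orderOf m = 1 := mul_eq_left.1 h0.symm
  obtain ⟨k, hk⟩ := IsPGroup.iff_orderOf.1 hV ⟨w', hw'V⟩
  rw [Subgroup.orderOf_mk] at hk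
  have hd : orderOf w' = 1 := by
    refine Nat.eq_one_of_dvd_coprimes ?_ dvd_rfl (orderOf_dvd_of_pow_eq_one hw1)
    rw [hk]
    refine Nat.Coprime.pow_left k ((Nat.Prime.coprime_iff_not_dvd hp.out).2 fun h => hMp ?_)
    exact h.trans (by rw [← Subgroup.orderOf_mk m hm]; exact orderOf_dvd_natCard _)
  rw [orderOf_eq_one_iff.1 hd, mul_one] at hm1
  exact mul_inv_eq_iff_eq_mul.1 hm1

/-- In a `p`-solvable group, a `p'`-subgroup centralizing the `p`-element `a` and normalized by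
`C(a)` lies in `O_{p'}`. -/
theorem le_pPrimeCore_of_pSolvable [Finite G] {p : ℕ} [hp : Fact p.Prime]
    (hG : Cfsg.IsPSolvable p G) {a : G} (ha : IsPGroup p ↥(Subgroup.zpowers a)) {M : Subgroup G}
    (hMa : M ≤ Subgroup.centralizer {a})
    (hn : Subgroup.centralizer {a} ≤ Subgroup.normalizer (M : Set G))
    (hMp : ¬ p ∣ Nat.card M) : M ≤ Cfsg.pPrimeCore p G := by
  set N := Cfsg.pPrimeCore p G
  let f := QuotientGroup.mk' N
  set V := Cfsg.pCore p (G ⧸ N)
  have hVn : (V : Subgroup (G ⧸ N)).Normal := HallCore.pCore_normal p _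
  have hcard : ¬ p ∣ Nat.card (M.map f) := fun h => hMp (h.trans (Subgroup.card_map_dvd _ _))
  have hzp : IsPGroup p ↥(Subgroup.zpowers (f a)) := by
    rw [← MonoidHom.map_zpowers]
    exact ha.map _
  have hMfa : M.map f ≤ Subgroup.centralizer {f a} := by
    rintro _ ⟨m, hm, rfl⟩
    rw [Subgroup.mem_centralizer_singleton_iff, ← map_mul, ← map_mul,
      Subgroup.mem_centralizer_singleton_iff.1 (hMa hm)]
  have hV' : Subgroup.normalizer (V : Set (G ⧸ N)) = ⊤ := Subgroup.normalizer_eq_top_iff.2 hVn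
  have hMC : M.map f ≤ Subgroup.centralizer (V : Set (G ⧸ N)) := by
    refine le_centralizer_of_AxB (HallCore.isPGroup_pCore p _) hzp (by rw [hV']; trivial)
      (by rw [hV']; exact le_top) hMfa hcard ?_
    intro v hv hva m' hm'
    -- lift `v` to `C(a)`
    obtain ⟨g, rfl⟩ := QuotientGroup.mk'_surjective N v
    have hfix : ∀ b ∈ Subgroup.zpowers a, b * g * b⁻¹ * g⁻¹ ∈ N := by
      rintro _ ⟨i, rfl⟩
      rw [← QuotientGroup.eq_one_iff, ← QuotientGroup.mk'_apply]
      simp only [map_mul, map_inv, map_zpow]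
      rw [← ((show Commute (f g) (f a) from hva).zpow_right i).eq]
      simp [f]
    obtain ⟨y, hy, hya⟩ := exists_fixed_in_coset ha (HallCore.not_dvd_card_pPrimeCore p G)
      (by rw [Subgroup.normalizer_eq_top_iff.2 (HallCore.pPrimeCore_normal p G)]; exact le_top) hfix
    have hfc : f g = f (y * g) := by
      rw [map_mul, show f y = 1 from (QuotientGroup.eq_one_iff y).2 hy, one_mul]
    have hg := hn (Subgroup.mem_centralizer_singleton_iff.2
      (hya a (Subgroup.mem_zpowers a)).symm)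
    obtain ⟨m, hm, rfl⟩ := hm'
    -- the commutator lies in `M̄ ∩ V = 1`
    have h1 : f m * f g * (f m)⁻¹ * (f g)⁻¹ ∈ M.map f := by
      refine ⟨m * (y * g * m⁻¹ * (y * g)⁻¹), mul_mem hm (mem_normalizer_conj hg (inv_mem hm)), ?_⟩
      rw [hfc]
      simp only [map_mul, map_inv]
      group
    have h2 : f m * f g * (f m)⁻¹ * (f g)⁻¹ ∈ V := mul_mem (hVn.conj_mem _ hv _) (inv_mem hv)
    obtain ⟨k, hk⟩ := HallCore.card_pCore p (G ⧸ N)
    have hdisj : Disjoint (M.map f) V := Subgroup.disjoint_of_coprime_natCard (by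
      rw [hk]
      exact Nat.Coprime.pow_right k ((Nat.Prime.coprime_iff_not_dvd hp.out).2 hcard).symm)
    exact mul_inv_eq_iff_eq_mul.1 (mul_inv_eq_one.1
      ((Subgroup.disjoint_def.1 hdisj) h1 h2))
  have hMV := hMC.trans (HallSolvable.centralizer_pCore_le (HallSolvable.isPSolvable_quotient hG N)
    (HallCore.pPrimeCore_quotient_self p G))
  obtain ⟨k, hk⟩ := HallCore.card_pCore p (G ⧸ N)
  have hdisj : Disjoint (M.map f) V := Subgroup.disjoint_of_coprime_natCard (by
    rw [hk]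
    exact Nat.Coprime.pow_right k ((Nat.Prime.coprime_iff_not_dvd hp.out).2 hcard).symm)
  intro m hm
  exact (QuotientGroup.eq_one_iff m).1
    ((Subgroup.disjoint_def.1 hdisj) (Subgroup.mem_map_of_mem f hm)
      (hMV (Subgroup.mem_map_of_mem f hm)))

/-- Balance: for commuting `p`-elements, `O_{p'}(C(a)) ∩ C(b) ≤ O_{p'}(C(b))` if `C(b)` is
`p`-solvable. -/
theorem balance_of_pSolvable [Finite G] {p : ℕ} [Fact p.Prime] {a b : G}
    (ha : IsPGroup p ↥(Subgroup.zpowers a)) (hab : a * b = b * a)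
    (hC : Cfsg.IsPSolvable p ↥(Subgroup.centralizer ({b} : Set G))) :
    Cfsg.centralizerPPrimeCore p a ⊓ Subgroup.centralizer {b} ≤
      Cfsg.centralizerPPrimeCore p b := by
  set C := Subgroup.centralizer ({b} : Set G) with hCdef
  set a' : ↥C := ⟨a, Subgroup.mem_centralizer_singleton_iff.2 hab⟩
  set M := (Cfsg.centralizerPPrimeCore p a ⊓ C).subgroupOf C with hM
  have hle : M ≤ Cfsg.pPrimeCore p ↥C := by
    refine le_pPrimeCore_of_pSolvable hC (a := a') ?_ ?_ ?_ ?_
    · obtain ⟨k, hk⟩ := IsPGroup.iff_card.1 ha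
      refine IsPGroup.of_card (n := k) ?_
      rw [Nat.card_zpowers] at hk ⊢
      rw [← hk, Subgroup.orderOf_mk]
    · intro z hz
      rw [Subgroup.mem_centralizer_singleton_iff]
      exact Subtype.ext
        (Subgroup.mem_centralizer_singleton_iff.1 (centralizerPPrimeCore_le p a hz.1))
    · intro c hc
      have hc' : (c : G) ∈ Subgroup.centralizer {a} := Subgroup.mem_centralizer_singleton_iff.2
        (congrArg Subtype.val (Subgroup.mem_centralizer_singleton_iff.1 hc))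
      refine Subgroup.mem_normalizer_iff.2 fun z => ?_
      simp only [hM, Subgroup.mem_subgroupOf, Subgroup.mem_inf, z.2, (c * z * c⁻¹).2, and_true]
      exact Subgroup.mem_normalizer_iff.1
        (centralizer_le_normalizer_centralizerPPrimeCore p a hc') (z : G)
    · rw [hM, Nat.card_congr (Subgroup.subgroupOfEquivOfLe inf_le_right).toEquiv]
      exact fun h => not_dvd_card_centralizerPPrimeCore p a
        (h.trans (Subgroup.card_dvd_of_le inf_le_left))
  intro z hz
  exact ⟨⟨z, hz.2⟩, hle hz, rfl⟩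

theorem balance_of_solvable [Finite G] {p : ℕ} [Fact p.Prime] {a b : G}
    (ha : IsPGroup p ↥(Subgroup.zpowers a)) (hab : a * b = b * a)
    (hC : Group.IsSolvable ↥(Subgroup.centralizer ({b} : Set G))) :
    Cfsg.centralizerPPrimeCore p a ⊓ Subgroup.centralizer {b} ≤
      Cfsg.centralizerPPrimeCore p b :=
  haveI := hC
  balance_of_pSolvable ha hab (HallSolvable.isPSolvable_of_solvable p)

/-- The join of a solvable subgroup with a solvable subgroup normalizing it is solvable. -/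
theorem isSolvable_sup [Finite G] {X Y : Subgroup G} (hX : Group.IsSolvable ↥X)
    (hY : Group.IsSolvable ↥Y) (h : Y ≤ Subgroup.normalizer (X : Set G)) :
    Group.IsSolvable ↥(X ⊔ Y) := by
  set K := X ⊔ Y
  haveI : (X.subgroupOf K).Normal :=
    Subgroup.normal_subgroupOf_of_le_normalizer (sup_le Subgroup.le_normalizer h)
  have hsurj : Function.Surjective
      ((QuotientGroup.mk' (X.subgroupOf K)).comp (Subgroup.inclusion (le_sup_right : Y ≤ K))) := by
    intro q
    obtain ⟨⟨k, hk⟩, rfl⟩ := QuotientGroup.mk'_surjective _ q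
    have hk' : k ∈ (↑(Y ⊔ X) : Set G) := by rw [sup_comm]; exact hk
    rw [Subgroup.coe_mul_of_left_le_normalizer_right Y X h] at hk'
    obtain ⟨y, hy, x, hx, rfl⟩ := Set.mem_mul.1 hk'
    refine ⟨⟨y, hy⟩, ?_⟩
    rw [MonoidHom.comp_apply, QuotientGroup.mk'_apply, QuotientGroup.mk'_apply, QuotientGroup.eq,
      Subgroup.mem_subgroupOf]
    simpa using hx
  haveI := hX
  haveI : Group.IsSolvable (↥K ⧸ X.subgroupOf K) :=
    haveI := hY; solvable_of_surjective hsurj
  refine solvable_of_ker_le_range (Subgroup.inclusion (le_sup_left : X ≤ K))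
    (QuotientGroup.mk' (X.subgroupOf K)) ?_
  rw [QuotientGroup.ker_mk']
  intro z hz
  exact ⟨⟨z.1, hz⟩, rfl⟩

end Cfsg.Agent.SignalizerBasic
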