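import Mathlib
import Cfsg.Agent.Lib.SignalizerBasic
import Cfsg.Agent.Lib.ComponentsP

/-!
# Balance when the `p`-layers of centralisers are trivial
-/

set_option autoImplicit false

namespace Cfsg.Agent.SFTBalance

open Cfsg.Agent.SignalizerCoprime Cfsg.Agent.SignalizerBasic

variable {G : Type*} [Group G]

/-- In a group with trivial `p`-layer, a `p'`-subgroup centralizing the `p`-element `a` and normalized by
`C(a)` lies in `O_{p'}`. -/
theorem le_pPrimeCore_of_pLayer [Finite G] {p : ℕ} [hp : Fact p.Prime]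
    (hG : Cfsg.pLayer p G = ⊥) {a : G} (ha : IsPGroup p ↥(Subgroup.zpowers a)) {M : Subgroup G}
    (hMa : M ≤ Subgroup.centralizer {a})
    (hn : Subgroup.centralizer {a} ≤ Subgroup.normalizer (M : Set G))
    (hMp : ¬ p ∣ Nat.card M) : M ≤ Cfsg.pPrimeCore p G := by
  set N := Cfsg.pPrimeCore p G
  let f := QuotientGroup.mk' N
  set V := Cfsg.pCore p (G ⧸ N)
  have hVn : (V : Subgroup (G ⧸ N)).Normal := HallCore.pCore_normal p _
  have hcard : ¬ p ∣ Nat.card (M.map f) := fun h => hMp (h.trans (Subgroup.card_map_dvd _ _))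
  have hzp : IsPGroup p ↥(Subgroup.zpowers (f a)) := by
    rw [← MonoidHom.map_zpowers]
    exact ha.map _
  have hMfa : M.map f ≤ Subgroup.centralizer {f a} := by
    rintro _ ⟨m, hm, rfl⟩
    rw [Subgroup.mem_centralizer_singleton_iff, ← map_mul, ← map_mul,
      Subgroup.mem_centralizer_singleton_iff.1 (hMa hm)]
  have hV' : Subgroup.normalizer (V : Set (G ⧸ N)) = ⊤ := Subgroup.normalizer_eq_top_iff.2 hVn
  have hMC : M.map f ≤ Subgroup.centralizer (V : Set (G ⧸ N)) := by
    refine le_centralizer_of_AxB (HallCore.isPGroup_pCore p _) hzp (by rw [hV']; trivial)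
      (by rw [hV']; exact le_top) hMfa hcard ?_
    intro v hv hva m' hm'
    -- lift `v` to `C(a)`
    obtain ⟨g, rfl⟩ := QuotientGroup.mk'_surjective N v
    have hfix : ∀ b ∈ Subgroup.zpowers a, b * g * b⁻¹ * g⁻¹ ∈ N := by
      rintro _ ⟨i, rfl⟩
      rw [← QuotientGroup.eq_one_iff, ← QuotientGroup.mk'_apply]
      simp only [map_mul, map_inv, map_zpow]
      rw [← ((show Commute (f g) (f a) from hva).zpow_right i).eq]
      simp [f]
    obtain ⟨y, hy, hya⟩ := exists_fixed_in_coset ha (HallCore.not_dvd_card_pPrimeCore p G)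
      (by rw [Subgroup.normalizer_eq_top_iff.2 (HallCore.pPrimeCore_normal p G)]; exact le_top) hfix
    have hfc : f g = f (y * g) := by
      rw [map_mul, show f y = 1 from (QuotientGroup.eq_one_iff y).2 hy, one_mul]
    have hg := hn (Subgroup.mem_centralizer_singleton_iff.2
      (hya a (Subgroup.mem_zpowers a)).symm)
    obtain ⟨m, hm, rfl⟩ := hm'
    -- the commutator lies in `M̄ ∩ V = 1`
    have h1 : f m * f g * (f m)⁻¹ * (f g)⁻¹ ∈ M.map f := by
      refine ⟨m * (y * g * m⁻¹ * (y * g)⁻¹), mul_mem hm (mem_normalizer_conj hg (inv_mem hm)), ?_⟩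
      rw [hfc]
      simp only [map_mul, map_inv]
      group
    have h2 : f m * f g * (f m)⁻¹ * (f g)⁻¹ ∈ V := mul_mem (hVn.conj_mem _ hv _) (inv_mem hv)
    obtain ⟨k, hk⟩ := HallCore.card_pCore p (G ⧸ N)
    have hdisj : Disjoint (M.map f) V := Subgroup.disjoint_of_coprime_natCard (by
      rw [hk]
      exact Nat.Coprime.pow_right k ((Nat.Prime.coprime_iff_not_dvd hp.out).2 hcard).symm)
    exact mul_inv_eq_iff_eq_mul.1 (mul_inv_eq_one.1
      ((Subgroup.disjoint_def.1 hdisj) h1 h2))
  have hCV : Subgroup.centralizer (V : Set (G ⧸ N)) ≤ V := by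
    have h := ComponentsFitting.centralizer_fitting_le_of_layer_eq_bot
      (ComponentsP.pLayer_eq_bot_iff.1 hG)
    rwa [ComponentsP.fitting_eq_pCore_of_bot (HallCore.pPrimeCore_quotient_self p G)] at h
  have hMV := hMC.trans hCV
  obtain ⟨k, hk⟩ := HallCore.card_pCore p (G ⧸ N)
  have hdisj : Disjoint (M.map f) V := Subgroup.disjoint_of_coprime_natCard (by
    rw [hk]
    exact Nat.Coprime.pow_right k ((Nat.Prime.coprime_iff_not_dvd hp.out).2 hcard).symm)
  intro m hm
  exact (QuotientGroup.eq_one_iff m).1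
    ((Subgroup.disjoint_def.1 hdisj) (Subgroup.mem_map_of_mem f hm)
      (hMV (Subgroup.mem_map_of_mem f hm)))

/-- Balance: for commuting `p`-elements, `O_{p'}(C(a)) ∩ C(b) ≤ O_{p'}(C(b))` if the `p`-layer
of `C(b)` is trivial. -/
theorem balance_of_pLayer [Finite G] {p : ℕ} [Fact p.Prime] {a b : G}
    (ha : IsPGroup p ↥(Subgroup.zpowers a)) (hab : a * b = b * a)
    (hC : Cfsg.pLayer p ↥(Subgroup.centralizer ({b} : Set G)) = ⊥) :
    Cfsg.centralizerPPrimeCore p a ⊓ Subgroup.centralizer {b} ≤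
      Cfsg.centralizerPPrimeCore p b := by
  set C := Subgroup.centralizer ({b} : Set G) with hCdef
  set a' : ↥C := ⟨a, Subgroup.mem_centralizer_singleton_iff.2 hab⟩
  set M := (Cfsg.centralizerPPrimeCore p a ⊓ C).subgroupOf C with hM
  have hle : M ≤ Cfsg.pPrimeCore p ↥C := by
    refine le_pPrimeCore_of_pLayer hC (a := a') ?_ ?_ ?_ ?_
    · obtain ⟨k, hk⟩ := IsPGroup.iff_card.1 ha
      refine IsPGroup.of_card (n := k) ?_
      rw [Nat.card_zpowers] at hk ⊢
      rw [← hk, Subgroup.orderOf_mk]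
    · intro z hz
      rw [Subgroup.mem_centralizer_singleton_iff]
      exact Subtype.ext
        (Subgroup.mem_centralizer_singleton_iff.1 (centralizerPPrimeCore_le p a hz.1))
    · intro c hc
      have hc' : (c : G) ∈ Subgroup.centralizer {a} := Subgroup.mem_centralizer_singleton_iff.2
        (congrArg Subtype.val (Subgroup.mem_centralizer_singleton_iff.1 hc))
      refine Subgroup.mem_normalizer_iff.2 fun z => ?_
      simp only [hM, Subgroup.mem_subgroupOf, Subgroup.mem_inf, z.2, (c * z * c⁻¹).2, and_true]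
      exact Subgroup.mem_normalizer_iff.1
        (centralizer_le_normalizer_centralizerPPrimeCore p a hc') (z : G)
    · rw [hM, Nat.card_congr (Subgroup.subgroupOfEquivOfLe inf_le_right).toEquiv]
      exact fun h => not_dvd_card_centralizerPPrimeCore p a
        (h.trans (Subgroup.card_dvd_of_le inf_le_left))
  intro z hz
  exact ⟨⟨z, hz.2⟩, hle hz, rfl⟩

end Cfsg.Agent.SFTBalance
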