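import Mathlib
import Cfsg.Prelude.Def_Transfer
import Cfsg.Agent.Lib.SignalizerCoprime

/-!
# Completeness inside a solvable group of a functor on the large subgroups of `A`

If a solvable `p'`-group `H` is generated by the values of a balanced functor `ψ` on the subgroups
of `A` of order at least `p ^ k`, and `|A| ≥ p ^ (k + 2)`, then `C_H(D) = ψ D`.
-/

set_option autoImplicit false

namespace Cfsg.Agent.SignalizerComplete

open Cfsg.Agent.SignalizerCoprime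
open scoped commutatorElement

variable {G : Type*} [Group G] [Finite G] {p : ℕ} [hp : Fact p.Prime]

theorem le_normalizer_of_le {A K : Subgroup G} (hA : Cfsg.IsElementaryAbelian p A) (h : K ≤ A) :
    A ≤ Subgroup.normalizer (K : Set G) :=
  le_normalizer_of_forall fun a ha z hz => by
    rw [comm_of_mem hA ha (h hz), mul_inv_cancel_right]
    exact hz

omit hp in
theorem pow_le_card_inf {A H1 H2 : Subgroup G} (h1 : H1 ≤ A) (k : ℕ) (hp0 : 0 < p)
    (hA : p ^ (k + 2) ≤ Nat.card A) (e1 : H1.relIndex A = p) (e2 : H2.relIndex A = p) :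
    p ^ k ≤ Nat.card ↥(H1 ⊓ H2) := by
  have hle : (H1 ⊓ H2).relIndex A ≤ p * p := by
    calc (H1 ⊓ H2).relIndex A ≤ H1.relIndex A * H2.relIndex A := Subgroup.relIndex_inf_le
      _ = p * p := by rw [e1, e2]
  have hmul : Nat.card ↥(H1 ⊓ H2) * (H1 ⊓ H2).relIndex A = Nat.card A := by
    rw [← Subgroup.relIndex_bot_left, ← Subgroup.relIndex_bot_left]
    exact Subgroup.relIndex_mul_relIndex _ _ _ bot_le (inf_le_left.trans h1)
  rw [← hmul, pow_add, pow_two] at hA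
  exact Nat.le_of_mul_le_mul_right (hA.trans (Nat.mul_le_mul_left _ hle)) (Nat.mul_pos hp0 hp0)

theorem pow_le_card_of_relIndex {A H1 : Subgroup G} (h1 : H1 ≤ A) (k : ℕ)
    (hA : p ^ (k + 1) ≤ Nat.card A) (e1 : H1.relIndex A = p) : p ^ k ≤ Nat.card H1 := by
  have hmul : Nat.card H1 * H1.relIndex A = Nat.card A := by
    rw [← Subgroup.relIndex_bot_left, ← Subgroup.relIndex_bot_left]
    exact Subgroup.relIndex_mul_relIndex _ _ _ bot_le h1
  rw [← hmul, e1, pow_succ] at hA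
  exact Nat.le_of_mul_le_mul_right hA hp.out.pos

/-- The completeness theorem in a solvable group. -/
theorem inf_centralizer_le {A : Subgroup G} (hA : Cfsg.IsElementaryAbelian p A) {k : ℕ}
    (hk : p ^ (k + 2) ≤ Nat.card A) (ψ : Subgroup G → Subgroup G) (H : Subgroup G)
    (hle : ∀ D, D ≤ A → p ^ k ≤ Nat.card D → ψ D ≤ H)
    (hcen : ∀ D, D ≤ A → p ^ k ≤ Nat.card D → ψ D ≤ Subgroup.centralizer (D : Set G))
    (hinv : ∀ D, D ≤ A → p ^ k ≤ Nat.card D → A ≤ Subgroup.normalizer (ψ D : Set G))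
    (hbal : ∀ D, D ≤ A → p ^ k ≤ Nat.card D → ∀ E, E ≤ A → p ^ k ≤ Nat.card E →
      ψ D ⊓ Subgroup.centralizer (E : Set G) ≤ ψ E)
    (hgen : H ≤ ⨆ D : {D : Subgroup G // D ≤ A ∧ p ^ k ≤ Nat.card D}, ψ D)
    (hsol : Group.IsSolvable ↥H) (hpH : ¬ p ∣ Nat.card H)
    (D : Subgroup G) (hD : D ≤ A) (hDk : p ^ k ≤ Nat.card D) :
    H ⊓ Subgroup.centralizer (D : Set G) ≤ ψ D := by
  induction' hn : Nat.card H using Nat.strong_induction_on with n ih generalizing H ψ D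
  subst hn
  by_cases hH1 : H = ⊥
  · intro z hz
    rw [hH1] at hz
    rw [Subgroup.mem_bot.1 hz.1]
    exact one_mem _
  have hHeq : H = ⨆ D : {D : Subgroup G // D ≤ A ∧ p ^ k ≤ Nat.card D}, ψ D :=
    le_antisymm hgen (iSup_le fun D => hle D.1 D.2.1 D.2.2)
  have hAH : A ≤ Subgroup.normalizer (H : Set G) := by
    rw [hHeq]
    exact le_normalizer_iSup fun D => hinv D.1 D.2.1 D.2.2
  set H' : Subgroup G := ⁅H, H⁆ with hH'
  have hH'H : H' ≤ H := by
    rw [hH', Subgroup.commutator_le]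
    intro g₁ hg₁ g₂ hg₂
    rw [commutatorElement_def]
    exact mul_mem (mul_mem (mul_mem hg₁ hg₂) (inv_mem hg₁)) (inv_mem hg₂)
  have hmap : (commutator ↥H).map H.subtype = H' := H.map_subtype_commutator
  have hlt : Nat.card H' < Nat.card H := by
    haveI := hsol
    haveI : Nontrivial ↥H := (Subgroup.nontrivial_iff_ne_bot H).2 hH1
    rw [← hmap, Subgroup.card_map_of_injective H.subtype_injective]
    refine lt_of_le_of_ne (Subgroup.card_le_card_group _) fun heq => ?_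
    exact ne_of_lt (Group.IsSolvable.commutator_lt_top_of_nontrivial ↥H)
      (Subgroup.card_eq_iff_eq_top _ |>.1 heq)
  have hAH' : A ≤ Subgroup.normalizer (H' : Set G) := le_normalizer_commutator hAH hAH
  have hHH' : H ≤ Subgroup.normalizer (H' : Set G) :=
    le_normalizer_commutator Subgroup.le_normalizer Subgroup.le_normalizer
  have hp0 : 0 < p := hp.out.pos
  have hA1 : p ^ (k + 1) ≤ Nat.card A := le_trans (Nat.pow_le_pow_right hp0 (by omega)) hk
  have hA2 : p ^ 2 ≤ Nat.card A := le_trans (Nat.pow_le_pow_right hp0 (by omega)) hk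
  -- values are generated by hyperplane values
  let ι := {H1 : Subgroup G // H1 ≤ A ∧ H1.relIndex A = p}
  have hgen' : ∀ X : Subgroup G, A ≤ Subgroup.normalizer (X : Set G) →
      ∀ E, E ≤ A → p ^ k ≤ Nat.card E → ψ E ⊓ X ≤ ⨆ H1 : ι, ψ H1 ⊓ X := by
    intro X hX E hE hEk
    refine le_of_hyperplane_centralizers_le hA hA2 (le_normalizer_inf (hinv E hE hEk) hX)
      (fun h => hpH (h.trans (Subgroup.card_dvd_of_le (inf_le_left.trans (hle E hE hEk))))) ?_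
    intro H1 h1 e1
    intro z hz
    exact Subgroup.mem_iSup_of_mem (⟨H1, h1, e1⟩ : ι)
      ⟨hbal E hE hEk H1 h1 (pow_le_card_of_relIndex h1 k hA1 e1) ⟨hz.1.1, hz.2⟩, hz.1.2⟩
  set S0 : Subgroup G := ⨆ H1 : ι, ψ H1 ⊓ H' with hS0
  have hgenH : H ≤ ⨆ H1 : ι, ψ H1 ⊓ (⊤ : Subgroup G) := by
    refine hgen.trans (iSup_le fun E => ?_)
    have := hgen' ⊤ (by rw [Subgroup.normalizer_eq_top_iff.2 inferInstance]; exact le_top)
      E.1 E.2.1 E.2.2
    rwa [inf_top_eq] at this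
  simp only [inf_top_eq] at hgenH
  have hιH : ∀ H1 : ι, ψ H1 ≤ H := fun H1 =>
    hle _ H1.2.1 (pow_le_card_of_relIndex H1.2.1 k hA1 H1.2.2)
  have hpair : ∀ H1 H2 : ι, ∀ x ∈ ψ H1, ∀ y ∈ ψ H2,
      ∃ F, F ≤ A ∧ p ^ k ≤ Nat.card F ∧ x ∈ ψ F ∧ y ∈ ψ F := by
    intro H1 H2 x hx y hy
    have hF := pow_le_card_inf H1.2.1 k hp0 hk H1.2.2 H2.2.2
    refine ⟨H1.1 ⊓ H2.1, inf_le_left.trans H1.2.1, hF, ?_, ?_⟩
    · refine hbal H1.1 H1.2.1 (pow_le_card_of_relIndex H1.2.1 k hA1 H1.2.2) _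
        (inf_le_left.trans H1.2.1) hF ⟨hx, ?_⟩
      exact Subgroup.centralizer_le inf_le_left
        (hcen _ H1.2.1 (pow_le_card_of_relIndex H1.2.1 k hA1 H1.2.2) hx)
    · refine hbal H2.1 H2.2.1 (pow_le_card_of_relIndex H2.2.1 k hA1 H2.2.2) _
        (inf_le_left.trans H1.2.1) hF ⟨hy, ?_⟩
      exact Subgroup.centralizer_le inf_le_right
        (hcen _ H2.2.1 (pow_le_card_of_relIndex H2.2.1 k hA1 H2.2.2) hy)
  have hHS0 : H ≤ Subgroup.normalizer (S0 : Set G) := by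
    refine hgenH.trans (iSup_le fun H2 => le_normalizer_of_forall fun x hx z hz => ?_)
    have h : S0 ≤ S0.comap (MulAut.conj x).toMonoidHom := by
      refine iSup_le fun H1 y hy => ?_
      obtain ⟨F, hF, hFk, hxF, hyF⟩ := hpair H2 H1 x hx y hy.1
      exact hgen' H' hAH' F hF hFk (Subgroup.mem_inf.2 ⟨mul_mem (mul_mem hxF hyF) (inv_mem hxF),
        mem_normalizer_conj (hHH' (hιH H2 hx)) hy.2⟩)
    exact h hz
  have hcomm : H' ≤ S0 := by
    have h1 : ∀ (H1 : ι), ∀ x ∈ ψ H1, ∀ y, y ∈ ⨆ H2 : ι, ψ H2 → y ∈ H ∧ ⁅x, y⁆ ∈ S0 := by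
      intro H1 x hx y hy
      refine Subgroup.iSup_induction (C := fun y => y ∈ H ∧ ⁅x, y⁆ ∈ S0) (fun H2 : ι => ψ H2) hy
        ?_ ?_ ?_
      · intro H2 w hw
        refine ⟨hιH H2 hw, ?_⟩
        obtain ⟨F, hF, hFk, hxF, hwF⟩ := hpair H1 H2 x hx w hw
        refine hgen' H' hAH' F hF hFk (Subgroup.mem_inf.2
          ⟨?_, Subgroup.commutator_mem_commutator (hιH H1 hx) (hιH H2 hw)⟩)
        rw [commutatorElement_def]
        exact mul_mem (mul_mem (mul_mem hxF hwF) (inv_mem hxF)) (inv_mem hwF)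
      · exact ⟨one_mem _, by simp⟩
      · rintro a b ⟨ha, ha'⟩ ⟨hb, hb'⟩
        refine ⟨mul_mem ha hb, ?_⟩
        rw [show ⁅x, a * b⁆ = ⁅x, a⁆ * (a * ⁅x, b⁆ * a⁻¹) by
          simp [commutatorElement_def, mul_assoc]]
        exact mul_mem ha' (mem_normalizer_conj (hHS0 ha) hb')
    rw [hH', Subgroup.commutator_le]
    intro x hx y hy
    refine (Subgroup.iSup_induction (C := fun x => x ∈ H ∧ ⁅x, y⁆ ∈ S0) (fun H1 : ι => ψ H1)
      (hgenH hx) (fun H1 w hw => ⟨hιH H1 hw, (h1 H1 w hw y (hgenH hy)).2⟩)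
      ⟨one_mem _, by simp⟩ ?_).2
    rintro a b ⟨ha, ha'⟩ ⟨hb, hb'⟩
    refine ⟨mul_mem ha hb, ?_⟩
    rw [show ⁅a * b, y⁆ = (a * ⁅b, y⁆ * a⁻¹) * ⁅a, y⁆ by simp [commutatorElement_def, mul_assoc]]
    exact mul_mem (mem_normalizer_conj (hHS0 ha) hb') ha'
  have hIH : H' ⊓ Subgroup.centralizer (D : Set G) ≤ ψ D ⊓ H' := by
    refine ih _ hlt (fun E => ψ E ⊓ H') H' (fun E _ _ => inf_le_right)
      (fun E hE hEk => inf_le_left.trans (hcen E hE hEk))
      (fun E hE hEk => le_normalizer_inf (hinv E hE hEk) hAH') ?_ ?_ ?_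
      (fun h => hpH (h.trans (Subgroup.card_dvd_of_le hH'H))) D hD hDk rfl
    · intro E hE hEk F hF hFk z hz
      exact ⟨hbal E hE hEk F hF hFk ⟨hz.1.1, hz.2⟩, hz.1.2⟩
    · refine hcomm.trans (iSup_le fun H1 => ?_)
      exact le_iSup_of_le (⟨H1.1, H1.2.1, pow_le_card_of_relIndex H1.2.1 k hA1 H1.2.2⟩ :
        {D : Subgroup G // D ≤ A ∧ p ^ k ≤ Nat.card D}) le_rfl
    · haveI := hsol
      exact solvable_of_solvable_injective (Subgroup.inclusion_injective hH'H)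
  rintro v ⟨hv, hvD⟩
  let ab : ↥H →* Abelianization ↥H := Abelianization.of
  have hDH : D ≤ Subgroup.normalizer (H : Set G) := hD.trans hAH
  let θ : ↥D → ↥H →* ↥H := fun g =>
    { toFun := fun y => ⟨(g : G) * y * (g : G)⁻¹, mem_normalizer_conj (hDH g.2) y.2⟩
      map_one' := by simp
      map_mul' := fun a b => by simp [mul_assoc] }
  let T : ↥D → Abelianization ↥H →* Abelianization ↥H := fun g =>
    Abelianization.lift (ab.comp (θ g))
  have hT : ∀ g y, T g (ab y) = ab (θ g y) := fun g y => Abelianization.lift_apply_of _ _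
  haveI : Fintype ↥D := Fintype.ofFinite _
  let Φ : Abelianization ↥H →* Abelianization ↥H := ∏ g : ↥D, T g
  have hΦ : ∀ w, Φ w = ∏ g : ↥D, T g w := fun w => MonoidHom.finsetProd_apply _ _ _
  let R : Subgroup (Abelianization ↥H) := ((ψ D).subgroupOf H).map ab
  have hDp : IsPGroup p ↥D := (isPGroup_of_elementaryAbelian hA).to_le hD
  have himg : ∀ E, E ≤ A → p ^ k ≤ Nat.card E → ∀ w : ↥H, (w : G) ∈ ψ E → Φ (ab w) ∈ R := by
    intro E hE hEk w hw
    set M := ((ψ E).subgroupOf H).map ab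
    have hmem : Φ (ab w) ∈ M := by
      rw [hΦ]
      refine prod_mem fun g _ => ⟨θ g w, ?_, (hT g w).symm⟩
      exact mem_normalizer_conj ((hD.trans (hinv E hE hEk)) g.2) hw
    obtain ⟨u, hu, hue⟩ := hmem
    have hfix : ∀ g ∈ D, g * (u : G) * g⁻¹ * (u : G)⁻¹ ∈ ψ E ⊓ H' := by
      intro g hg
      refine Subgroup.mem_inf.2
        ⟨mul_mem (mem_normalizer_conj ((hD.trans (hinv E hE hEk)) hg) hu) (inv_mem hu), ?_⟩
      have heq : T ⟨g, hg⟩ (ab u) = ab u := by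
        rw [hue, hΦ, map_prod]
        refine Fintype.prod_equiv (Equiv.mulLeft (⟨g, hg⟩ : ↥D)) _ _ fun d => ?_
        change _ = T ((⟨g, hg⟩ : ↥D) * d) (ab w)
        rw [hT, hT, hT]
        exact congrArg ab (Subtype.ext (by simp [θ, mul_assoc]))
      rw [hT] at heq
      have hker : θ ⟨g, hg⟩ u * u⁻¹ ∈ commutator ↥H := by
        rw [← Abelianization.ker_of, MonoidHom.mem_ker, map_mul, map_inv]
        exact mul_inv_eq_one.2 heq
      rw [← hmap]
      exact ⟨_, hker, rfl⟩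
    obtain ⟨y, hy, hyd⟩ := exists_fixed_in_coset hDp
      (fun h => hpH (h.trans (Subgroup.card_dvd_of_le (inf_le_right.trans hH'H))))
      (hD.trans (le_normalizer_inf (hinv E hE hEk) hAH')) hfix
    refine ⟨⟨y * (u : G), mul_mem (hH'H hy.2) u.2⟩,
      hbal E hE hEk D hD hDk ⟨mul_mem hy.1 hu, fun d hd => hyd d hd⟩, ?_⟩
    have hy2 : y ∈ (commutator ↥H).map H.subtype := hmap ▸ hy.2
    obtain ⟨y', hy', rfl⟩ := hy2
    have h1 : ab y' = 1 := by
      rw [← MonoidHom.mem_ker, Abelianization.ker_of]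
      exact hy'
    calc ab ⟨H.subtype y' * (u : G), _⟩ = ab (y' * u) := rfl
      _ = Φ (ab w) := by rw [map_mul, h1, one_mul, hue]
  have hall : ∀ y, y ∈ ⨆ E : {D : Subgroup G // D ≤ A ∧ p ^ k ≤ Nat.card D}, ψ E →
      ∀ h : y ∈ H, Φ (ab ⟨y, h⟩) ∈ R := by
    intro y hy
    refine (Subgroup.iSup_induction
      (C := fun y => y ∈ H ∧ ∀ h : y ∈ H, Φ (ab ⟨y, h⟩) ∈ R) _ hy ?_ ?_ ?_).2
    · exact fun E w hw => ⟨hle E.1 E.2.1 E.2.2 hw, fun h => himg E.1 E.2.1 E.2.2 ⟨w, h⟩ hw⟩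
    · exact ⟨one_mem _, fun h => by
        rw [show (⟨1, h⟩ : ↥H) = 1 from rfl, map_one, map_one]; exact one_mem _⟩
    · rintro a b ⟨ha, ha'⟩ ⟨hb, hb'⟩
      refine ⟨mul_mem ha hb, fun h => ?_⟩
      rw [show (⟨a * b, h⟩ : ↥H) = ⟨a, ha⟩ * ⟨b, hb⟩ from rfl, map_mul, map_mul]
      exact mul_mem (ha' ha) (hb' hb)
  have hvpow : Φ (ab ⟨v, hv⟩) = (ab ⟨v, hv⟩) ^ Nat.card D := by
    rw [hΦ, Nat.card_eq_fintype_card, ← Finset.card_univ, ← Finset.prod_const]
    refine Finset.prod_congr rfl fun g _ => ?_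
    rw [hT]
    refine congrArg ab (Subtype.ext ?_)
    change (g : G) * v * (g : G)⁻¹ = v
    rw [hvD g g.2, mul_inv_cancel_right]
  have hcop : (Nat.card D).Coprime (orderOf (ab ⟨v, hv⟩)) := by
    obtain ⟨j, hj⟩ := IsPGroup.iff_card.1 hDp
    rw [hj]
    exact Nat.Coprime.pow_left j (Nat.Coprime.coprime_dvd_right
      ((orderOf_map_dvd ab _).trans (orderOf_dvd_natCard _))
      ((Nat.Prime.coprime_iff_not_dvd hp.out).2 hpH))
  obtain ⟨m, hm⟩ := exists_pow_eq_self_of_coprime hcop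
  have hR : ab ⟨v, hv⟩ ∈ R := by
    rw [← hm, ← hvpow]
    exact pow_mem (hall v (hgen hv) hv) m
  obtain ⟨u, hu, hue⟩ := hR
  have hker : (⟨v, hv⟩ : ↥H) * u⁻¹ ∈ commutator ↥H := by
    rw [← Abelianization.ker_of, MonoidHom.mem_ker, map_mul, map_inv]
    exact mul_inv_eq_one.2 hue.symm
  have hc : v * (u : G)⁻¹ ∈ ψ D := by
    refine (hIH (Subgroup.mem_inf.2 ⟨hmap ▸ ⟨_, hker, rfl⟩, ?_⟩)).1
    exact mul_mem hvD (inv_mem (hcen D hD hDk hu))
  simpa using mul_mem hc (show (u : G) ∈ ψ D from hu)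

end Cfsg.Agent.SignalizerComplete
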