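import Mathlib
import Cfsg.Prelude.Def_Balance
import Cfsg.Agent.Lib.SignalizerCoprime
import Cfsg.Agent.Lib.CoprimeAction
import Cfsg.Agent.S1280
import Cfsg.Agent.S1282

/-!
# The transitivity theorem for solvable signalizer functors

The subgroups maximal among the `q`-members of the family of a solvable signalizer functor on an
elementary abelian group of rank at least three are conjugate under `signalizerInf A θ`.
-/

set_option autoImplicit false

namespace Cfsg.Agent.SignalizerTransitivity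

open Cfsg.Agent.SignalizerCoprime
open scoped Pointwise

variable {G : Type*} [Group G] [Finite G] {p : ℕ} [hp : Fact p.Prime] {A : Subgroup G}
  {θ : G → Subgroup G} {q : ℕ} [hq : Fact q.Prime]

/-- `Q` is maximal among the `q`-subgroups in the family of `θ`. -/
def IsMaxMember (p : ℕ) (A : Subgroup G) (θ : G → Subgroup G) (q : ℕ) (Q : Subgroup G) : Prop :=
  Q ∈ Cfsg.signalizerFamily p A θ ∧ IsPGroup q ↥Q ∧
    ∀ R ∈ Cfsg.signalizerFamily p A θ, IsPGroup q ↥R → Q ≤ R → R = Q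

omit [Finite G] hp in
theorem signalizerInf_le {B : Subgroup G} {a : G} (ha : a ∈ B) (ha1 : a ≠ 1) :
    Cfsg.signalizerInf B θ ≤ θ a :=
  iInf_le (fun a : {a : G // a ∈ B ∧ a ≠ 1} => θ a.1) ⟨a, ha, ha1⟩

omit [Finite G] hp in
theorem signalizerInf_le_centralizer (hθ : Cfsg.IsSignalizerFunctor p A θ) {B : Subgroup G}
    (hB : B ≤ A) : Cfsg.signalizerInf B θ ≤ Subgroup.centralizer (B : Set G) := by
  intro x hx b hb
  rcases eq_or_ne b 1 with rfl | hb1
  · rw [one_mul, mul_one]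
  · exact (Subgroup.mem_centralizer_singleton_iff.1
      (hθ.1 b (hB hb) hb1 (signalizerInf_le hb hb1 hx))).symm

omit [Finite G] hp in
theorem mem_signalizerInf (hθ : Cfsg.IsSignalizerFunctor p A θ) {a x : G} (ha : a ∈ A)
    (ha1 : a ≠ 1) (hx : x ∈ θ a) (hxA : x ∈ Subgroup.centralizer (A : Set G)) :
    x ∈ Cfsg.signalizerInf A θ :=
  Subgroup.mem_iInf.2 fun b => hθ.2.2.2 a ha ha1 b.1 b.2.1 b.2.2
    ⟨hx, Subgroup.centralizer_le (Set.singleton_subset_iff.2 b.2.1) hxA⟩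

omit [Finite G] hp in
theorem theta_mem_family (hθ : Cfsg.IsSolvableSignalizerFunctor p A θ) {a : G} (ha : a ∈ A)
    (ha1 : a ≠ 1) : θ a ∈ Cfsg.signalizerFamily p A θ :=
  ⟨hθ.2 a ha ha1, hθ.1.2.1 a ha ha1, hθ.1.2.2.1 a ha ha1,
    fun b hb hb1 => hθ.1.2.2.2 a ha ha1 b hb hb1⟩

omit [Finite G] hp in
theorem mem_family_of_le {U V : Subgroup G} (hU : U ∈ Cfsg.signalizerFamily p A θ) (hVU : V ≤ U)
    (hV : A ≤ Subgroup.normalizer (V : Set G)) : V ∈ Cfsg.signalizerFamily p A θ :=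
  ⟨@CoprimeAction.isSolvable_of_le _ _ _ _ hVU hU.1,
    fun h => hU.2.1 (h.trans (Subgroup.card_dvd_of_le hVU)), forall_conj_mem hV,
    fun a ha ha1 => (inf_le_inf_right _ hVU).trans (hU.2.2.2 a ha ha1)⟩

theorem le_normalizer_of_mem {U : Subgroup G} (hU : U ∈ Cfsg.signalizerFamily p A θ) :
    A ≤ Subgroup.normalizer (U : Set G) :=
  le_normalizer_of_forall hU.2.2.1

omit [Finite G] hp in
theorem mem_map_conj {U : Subgroup G} {c x : G} :
    x ∈ U.map (MulAut.conj c).toMonoidHom ↔ c⁻¹ * x * c ∈ U := by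
  constructor
  · rintro ⟨u, hu, rfl⟩
    change c⁻¹ * (c * u * c⁻¹) * c ∈ U
    rwa [show c⁻¹ * (c * u * c⁻¹) * c = u by group]
  · intro h
    refine ⟨_, h, ?_⟩
    change c * (c⁻¹ * x * c) * c⁻¹ = x
    group

omit [Finite G] hp in
theorem map_conj_map_conj (U : Subgroup G) (c d : G) :
    (U.map (MulAut.conj c).toMonoidHom).map (MulAut.conj d).toMonoidHom =
      U.map (MulAut.conj (d * c)).toMonoidHom := by
  ext x
  simp only [mem_map_conj]
  rw [show c⁻¹ * (d⁻¹ * x * d) * c = (d * c)⁻¹ * x * (d * c) by group]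

omit [Finite G] hp in
theorem map_conj_one (U : Subgroup G) : U.map (MulAut.conj (1 : G)).toMonoidHom = U := by
  ext x
  simp only [mem_map_conj]
  simp

omit [Finite G] hp in
theorem conj_mem_family (hθ : Cfsg.IsSignalizerFunctor p A θ) {U : Subgroup G}
    (hU : U ∈ Cfsg.signalizerFamily p A θ) {c : G} (hc : c ∈ Cfsg.signalizerInf A θ) :
    U.map (MulAut.conj c).toMonoidHom ∈ Cfsg.signalizerFamily p A θ := by
  have hcA := signalizerInf_le_centralizer hθ le_rfl hc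
  refine ⟨?_, ?_, ?_, ?_⟩
  · haveI := hU.1
    exact Group.isSolvable_of_surjective
      (f := (U.equivMapOfInjective (MulAut.conj c).toMonoidHom (MulAut.conj c).injective).toMonoidHom)
      (MulEquiv.surjective _)
  · rw [Subgroup.card_map_of_injective (MulAut.conj c).injective]
    exact hU.2.1
  · intro b hb x hx
    rw [mem_map_conj] at hx ⊢
    have h1 : b * c = c * b := hcA b hb
    have h2 : c⁻¹ * b = b * c⁻¹ := by
      rw [eq_mul_inv_iff_mul_eq, mul_assoc, h1, inv_mul_cancel_left]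
    have : c⁻¹ * (b * x * b⁻¹) * c = b * (c⁻¹ * x * c) * b⁻¹ := by
      have h3 : b⁻¹ * c = c * b⁻¹ := by
        rw [inv_mul_eq_iff_eq_mul, ← mul_assoc, h1, mul_inv_cancel_right]
      calc c⁻¹ * (b * x * b⁻¹) * c = (c⁻¹ * b) * x * (b⁻¹ * c) := by group
        _ = (b * c⁻¹) * x * (c * b⁻¹) := by rw [h2, h3]
        _ = b * (c⁻¹ * x * c) * b⁻¹ := by group
    rw [this]
    exact hU.2.2.1 b hb _ hx
  · rintro a ha ha1 x ⟨hx, hxa⟩
    replace hx := mem_map_conj.1 hx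
    have hca : c ∈ θ a := signalizerInf_le ha ha1 hc
    have hcC : c ∈ Subgroup.centralizer {a} := hθ.1 a ha ha1 hca
    have h : c⁻¹ * x * c ∈ θ a :=
      hU.2.2.2 a ha ha1 (Subgroup.mem_inf.2
      ⟨hx, mul_mem (mul_mem ((Subgroup.centralizer {a}).inv_mem hcC) hxa) hcC⟩)
    have := mul_mem (mul_mem hca h) (inv_mem hca)
    rwa [show c * (c⁻¹ * x * c) * c⁻¹ = x by group] at this

omit hp hq in
theorem exists_isMaxMember_ge {U : Subgroup G} (hU : U ∈ Cfsg.signalizerFamily p A θ)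
    (hUq : IsPGroup q ↥U) : ∃ Q, U ≤ Q ∧ IsMaxMember p A θ q Q := by
  let S : Set (Subgroup G) := {R | R ∈ Cfsg.signalizerFamily p A θ ∧ IsPGroup q ↥R}
  obtain ⟨Q, hUQ, hQ⟩ := (Set.toFinite S).exists_le_maximal (a := U) ⟨hU, hUq⟩
  exact ⟨Q, hUQ, hQ.prop.1, hQ.prop.2, fun R hR hRq hQR => (hQ.eq_of_le ⟨hR, hRq⟩ hQR).symm⟩

omit [Finite G] hp in
theorem IsMaxMember.conj (hθ : Cfsg.IsSignalizerFunctor p A θ) {Q : Subgroup G}
    (hQ : IsMaxMember p A θ q Q) {c : G} (hc : c ∈ Cfsg.signalizerInf A θ) :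
    IsMaxMember p A θ q (Q.map (MulAut.conj c).toMonoidHom) := by
  refine ⟨conj_mem_family hθ hQ.1 hc, hQ.2.1.map _, fun R hR hRq hle => ?_⟩
  have h : R.map (MulAut.conj c⁻¹).toMonoidHom = Q := by
    refine hQ.2.2 _ (conj_mem_family hθ hR (inv_mem hc)) (hRq.map _) ?_
    have := Subgroup.map_mono (f := (MulAut.conj c⁻¹).toMonoidHom) hle
    rwa [map_conj_map_conj, inv_mul_cancel, map_conj_one] at this
  rw [← h, map_conj_map_conj, mul_inv_cancel, map_conj_one]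

omit hp in
theorem coprime_card_member [Fact p.Prime] (hA : Cfsg.IsElementaryAbelian p A) {U : Subgroup G}
    (hU : U ∈ Cfsg.signalizerFamily p A θ) : (Nat.card A).Coprime (Nat.card U) := by
  obtain ⟨k, hk⟩ := IsPGroup.iff_card.1 (isPGroup_of_elementaryAbelian hA)
  rw [hk]
  exact Nat.Coprime.pow_left k ((Nat.Prime.coprime_iff_not_dvd Fact.out).2 hU.2.1)

/-- An invariant Sylow subgroup of a member is a member. -/
theorem sylow_mem_family {K : Subgroup G} (hK : K ∈ Cfsg.signalizerFamily p A θ) (P : Sylow q K)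
    (hP : A ≤ Subgroup.normalizer ((P : Subgroup K).map K.subtype : Set G)) :
    (P : Subgroup K).map K.subtype ∈ Cfsg.signalizerFamily p A θ :=
  mem_family_of_le hK (Subgroup.map_subtype_le _) hP

/-- **Transitivity theorem**. -/
theorem isMaxMember_conj (hA : Cfsg.IsElementaryAbelian p A) (hA3 : p ^ 3 ≤ Nat.card A)
    (hθ : Cfsg.IsSolvableSignalizerFunctor p A θ) (hqp : q ≠ p) {Q₁ Q₂ : Subgroup G}
    (h₁ : IsMaxMember p A θ q Q₁) (h₂ : IsMaxMember p A θ q Q₂) :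
    ∃ c ∈ Cfsg.signalizerInf A θ, Q₁.map (MulAut.conj c).toMonoidHom = Q₂ := by
  induction' hn : Nat.card G - Nat.card ↥(Q₁ ⊓ Q₂) using Nat.strong_induction_on with n ih
    generalizing Q₁ Q₂
  subst hn
  set D := Q₁ ⊓ Q₂ with hD
  by_cases hD₁ : D = Q₁
  · refine ⟨1, one_mem _, ?_⟩
    rw [map_conj_one]
    exact (h₁.2.2 Q₂ h₂.1 h₂.2.1 (hD₁.ge.trans inf_le_right)).symm
  by_cases hD₂ : D = Q₂
  · refine ⟨1, one_mem _, ?_⟩
    rw [map_conj_one]
    exact h₂.2.2 Q₁ h₁.1 h₁.2.1 (hD₂.ge.trans inf_le_left)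
  have hA₁ := le_normalizer_of_mem h₁.1
  have hA₂ := le_normalizer_of_mem h₂.1
  obtain ⟨a, ha, ha1, hn₁, hn₂⟩ :=
    S1282.result p A hA hA3 q hqp Q₁ Q₂ h₁.2.1 h₂.2.1 hA₁ hA₂ hD₁ hD₂
  have hAD : A ≤ Subgroup.normalizer (D : Set G) := le_normalizer_inf hA₁ hA₂
  set N := Subgroup.normalizer (D : Set G) with hN
  have hAN : A ≤ Subgroup.normalizer (N : Set G) := hAD.trans Subgroup.le_normalizer
  set K := θ a ⊓ N
  have hAθ : A ≤ Subgroup.normalizer (θ a : Set G) :=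
    le_normalizer_of_forall (hθ.1.2.2.1 a ha ha1)
  have hK : K ∈ Cfsg.signalizerFamily p A θ :=
    mem_family_of_le (theta_mem_family hθ ha ha1) inf_le_left (le_normalizer_inf hAθ hAN)
  have hcop := coprime_card_member hA hK
  have hAa : A ≤ Subgroup.normalizer ((Subgroup.centralizer {a} : Subgroup G) : Set G) :=
    le_trans (fun b hb => Subgroup.mem_centralizer_singleton_iff.2 (comm_of_mem hA hb ha))
      Subgroup.le_normalizer
  have hU : ∀ Q : Subgroup G, IsMaxMember p A θ q Q →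
      N ⊓ Q ⊓ Subgroup.centralizer {a} ≤ K ∧ IsPGroup q ↥(N ⊓ Q ⊓ Subgroup.centralizer {a}) ∧
        A ≤ Subgroup.normalizer ((N ⊓ Q ⊓ Subgroup.centralizer {a} : Subgroup G) : Set G) :=
    fun Q hQ => ⟨le_inf (fun x hx => hQ.1.2.2.2 a ha ha1 ⟨hx.1.2, hx.2⟩)
        (inf_le_left.trans inf_le_left), hQ.2.1.to_le (inf_le_left.trans inf_le_right),
      le_normalizer_inf (le_normalizer_inf hAN (le_normalizer_of_mem hQ.1)) hAa⟩
  obtain ⟨P₁, hUP₁, hP₁⟩ := CoprimeAction.exists_invariant_sylow_ge (p := q)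
    (le_normalizer_of_mem hK) hcop (Or.inr hK.1) (hU Q₁ h₁).1 (hU Q₁ h₁).2.1 (hU Q₁ h₁).2.2
  obtain ⟨P₂, hUP₂, hP₂⟩ := CoprimeAction.exists_invariant_sylow_ge (p := q)
    (le_normalizer_of_mem hK) hcop (Or.inr hK.1) (hU Q₂ h₂).1 (hU Q₂ h₂).2.1 (hU Q₂ h₂).2.2
  obtain ⟨c, hcA, hc⟩ := CoprimeAction.invariant_sylow_conj (le_normalizer_of_mem hK) hcop
    (Or.inr hK.1) P₂ P₁ hP₂ hP₁
  have hcT : (c : G) ∈ Cfsg.signalizerInf A θ :=
    mem_signalizerInf hθ.1 ha ha1 (Subgroup.mem_inf.1 c.2).1 hcA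
  have hcN : (c : G) ∈ N := (Subgroup.mem_inf.1 c.2).2
  set S := (P₁ : Subgroup K).map K.subtype with hS
  have hmap : (N ⊓ Q₂ ⊓ Subgroup.centralizer {a}).map (MulAut.conj (c : G)).toMonoidHom ≤ S := by
    rintro _ ⟨x, hx, rfl⟩
    obtain ⟨y, hy, rfl⟩ := hUP₂ hx
    refine ⟨c * y * c⁻¹, ?_, rfl⟩
    rw [← hc]
    exact Subgroup.smul_mem_pointwise_smul y (MulAut.conj c) (P₂ : Subgroup K) hy
  have hSK : S ≤ K := Subgroup.map_subtype_le _
  have hSN : S ≤ N := hSK.trans inf_le_right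
  set Y := D ⊔ S
  have hA2 : p ^ 2 ≤ Nat.card A :=
    le_trans (Nat.pow_le_pow_right hp.out.pos (by norm_num)) hA3
  have hY : Y ∈ Cfsg.signalizerFamily p A θ :=
    S1280.result p A hA hA2 θ hθ D S (mem_family_of_le h₁.1 inf_le_left hAD)
      (sylow_mem_family hK P₁ hP₁) hSN
  have hYq : IsPGroup q ↥Y :=
    (h₁.2.1.to_le inf_le_left).to_sup_of_normal_left' (P₁.2.map K.subtype) hSN
  obtain ⟨Q₃, hYQ, h₃⟩ := exists_isMaxMember_ge hY hYq
  have h₂' := h₂.conj hθ.1 hcT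
  set Q₂' := Q₂.map (MulAut.conj (c : G)).toMonoidHom
  have hDle : Nat.card D ≤ Nat.card G := Nat.le_of_dvd Nat.card_pos D.card_subgroup_dvd_card
  have hlt : ∀ Z : Subgroup G, D ≤ Z → ¬ Z ≤ D →
      Nat.card G - Nat.card Z < Nat.card G - Nat.card D := by
    intro Z hDZ hne
    have h1 : Nat.card D < Nat.card Z := lt_of_le_of_ne
      (Nat.le_of_dvd Nat.card_pos (Subgroup.card_dvd_of_le hDZ))
      fun heq => hne (Subgroup.eq_of_le_of_card_ge hDZ heq.ge).ge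
    have h2 : Nat.card Z ≤ Nat.card G := Nat.le_of_dvd Nat.card_pos Z.card_subgroup_dvd_card
    omega
  obtain ⟨c₁, hc₁, he₁⟩ := ih _ (hlt (Q₁ ⊓ Q₃) (le_inf inf_le_left (le_sup_left.trans hYQ))
    (fun h => hn₁ (le_trans (le_inf (inf_le_left.trans inf_le_right)
      (hUP₁.trans (le_sup_right.trans hYQ))) h))) h₁ h₃ rfl
  obtain ⟨c₂, hc₂, he₂⟩ := ih _ (hlt (Q₂' ⊓ Q₃) (le_inf (fun x hx => mem_map_conj.2 (by
      have h := mem_normalizer_conj (inv_mem hcN) hx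
      rw [inv_inv] at h
      exact h.2)) (le_sup_left.trans hYQ))
    (fun h => hn₂ fun x hx => by
      have h1 : (c : G) * x * (c : G)⁻¹ ∈ D :=
        h ⟨⟨x, hx.1.2, rfl⟩, hYQ (Subgroup.mem_sup_right (hmap ⟨x, hx, rfl⟩))⟩
      have h2 := mem_normalizer_conj (inv_mem hcN) h1
      rwa [inv_inv, show (c : G)⁻¹ * ((c : G) * x * (c : G)⁻¹) * (c : G) = x by group] at h2))
    h₂' h₃ rfl
  refine ⟨(c₂ * c)⁻¹ * c₁, mul_mem (inv_mem (mul_mem hc₂ hcT)) hc₁, ?_⟩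
  rw [← map_conj_map_conj, he₁, ← he₂, map_conj_map_conj, map_conj_map_conj,
    show (c₂ * (c : G))⁻¹ * c₂ * (c : G) = 1 by group, map_conj_one]

/-- A maximal `q`-member meets every member in a Sylow subgroup, up to conjugation. -/
theorem exists_conj_inf_card (hA : Cfsg.IsElementaryAbelian p A) (hA3 : p ^ 3 ≤ Nat.card A)
    (hθ : Cfsg.IsSolvableSignalizerFunctor p A θ) (hqp : q ≠ p) {Q : Subgroup G}
    (hQ : IsMaxMember p A θ q Q) {H : Subgroup G} (hH : H ∈ Cfsg.signalizerFamily p A θ) :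
    ∃ c ∈ Cfsg.signalizerInf A θ, ∃ S : Sylow q ↥H,
      (S : Subgroup ↥H).map H.subtype = Q.map (MulAut.conj c).toMonoidHom ⊓ H := by
  obtain ⟨P, hP⟩ := CoprimeAction.exists_invariant_sylow (le_normalizer_of_mem hH)
    (coprime_card_member hA hH) (Or.inr hH.1) q
  obtain ⟨Q', hPQ, hQ'⟩ := exists_isMaxMember_ge (sylow_mem_family hH P hP) (P.2.map H.subtype)
  obtain ⟨c, hc, rfl⟩ := isMaxMember_conj hA hA3 hθ hqp hQ hQ'
  refine ⟨c, hc, P, le_antisymm (le_inf hPQ (Subgroup.map_subtype_le _)) ?_⟩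
  set R := Q.map (MulAut.conj c).toMonoidHom ⊓ H
  have h1 : (R.subgroupOf H) = (P : Subgroup ↥H) :=
    P.3 ((hQ'.2.1.to_le inf_le_left).of_equiv (Subgroup.subgroupOfEquivOfLe inf_le_right).symm)
      (fun x hx => Subgroup.mem_subgroupOf.2 ⟨hPQ ⟨x, hx, rfl⟩, x.2⟩)
  rw [← h1, Subgroup.map_subgroupOf_eq_of_le inf_le_right]

omit [Finite G] hp in
theorem signalizerInf_mem_family (hθ : Cfsg.IsSolvableSignalizerFunctor p A θ) {B : Subgroup G}
    (hB : B ≤ A) {b : G} (hb : b ∈ B) (hb1 : b ≠ 1) :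
    Cfsg.signalizerInf B θ ∈ Cfsg.signalizerFamily p A θ := by
  have hle := signalizerInf_le (θ := θ) hb hb1
  have hm := theta_mem_family hθ (hB hb) hb1
  refine ⟨@CoprimeAction.isSolvable_of_le _ _ _ _ hle hm.1,
    fun h => hm.2.1 (h.trans (Subgroup.card_dvd_of_le hle)), ?_,
    fun a ha ha1 => (inf_le_inf_right _ hle).trans (hm.2.2.2 a ha ha1)⟩
  intro g hg u hu
  exact Subgroup.mem_iInf.2 fun x =>
    hθ.1.2.2.1 x.1 (hB x.2.1) x.2.2 g hg u (Subgroup.mem_iInf.1 hu x)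

/-- All values of a functor all of whose values are `q`-groups lie in a maximal `q`-member. -/
theorem exists_isMaxMember_inf_centralizer (hA : Cfsg.IsElementaryAbelian p A)
    (hA3 : p ^ 3 ≤ Nat.card A) (hθ : Cfsg.IsSolvableSignalizerFunctor p A θ) (hqp : q ≠ p)
    (hval : ∀ a ∈ A, a ≠ 1 → IsPGroup q ↥(θ a)) {Q : Subgroup G} (hQ : IsMaxMember p A θ q Q)
    {a : G} (ha : a ∈ A) (ha1 : a ≠ 1) : Q ⊓ Subgroup.centralizer {a} = θ a := by
  refine le_antisymm (hQ.1.2.2.2 a ha ha1) (le_inf ?_ (hθ.1.1 a ha ha1))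
  obtain ⟨Q', hle, hQ'⟩ := exists_isMaxMember_ge (theta_mem_family hθ ha ha1) (hval a ha ha1)
  obtain ⟨c, hc, rfl⟩ := isMaxMember_conj hA hA3 hθ hqp hQ hQ'
  intro x hx
  have h1 := mem_map_conj.1 (hle (signalizerInf_le ha ha1 hc))
  have h2 : c ∈ Q := by simpa using h1
  have h3 := mem_map_conj.1 (hle hx)
  have := mul_mem (mul_mem h2 h3) (inv_mem h2)
  rwa [show c * (c⁻¹ * x * c) * c⁻¹ = x by group] at this

end Cfsg.Agent.SignalizerTransitivity
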