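import Mathlib
import Cfsg.Prelude.Def_Balance
import Cfsg.Agent.Lib.SFTSigma
import Cfsg.Agent.Lib.SignalizerTransitivity
import Cfsg.Agent.Lib.SignalizerBasic

/-!
# A minimal incomplete solvable signalizer functor

General machinery: members, normalisers of members, maximal members containing
`T = signalizerInf A θ`, and the largest invariant σ-members `W`.
-/

set_option autoImplicit false

namespace Cfsg.Agent.SFTCtx

open Cfsg.Agent.SignalizerCoprime Cfsg.Agent.HallCore Cfsg.Agent.SFTGroup Cfsg.Agent.SFTSigma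
open Cfsg.Agent.SignalizerTransitivity (theta_mem_family mem_family_of_le signalizerInf_le
  signalizerInf_le_centralizer mem_signalizerInf)

universe u

variable {G : Type u} [Group G]

/-- The standing hypotheses: `A` elementary abelian of order `p ^ 3`, `θ` solvable. -/
structure Setup (p : ℕ) (A : Subgroup G) (θ : G → Subgroup G) : Prop where
  prime : p.Prime
  hA : Cfsg.IsElementaryAbelian p A
  hcard : Nat.card A = p ^ 3
  hθ : Cfsg.IsSolvableSignalizerFunctor p A θ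

/-- Some member contains every value of the functor. -/
def Complete (p : ℕ) (A : Subgroup G) (θ : G → Subgroup G) : Prop :=
  ∃ W ∈ Cfsg.signalizerFamily p A θ, ∀ a ∈ A, a ≠ 1 → θ a ≤ W

/-- The induction measure. -/
noncomputable def weight (A : Subgroup G) (θ : G → Subgroup G) : ℕ :=
  ∑ᶠ a : {a : G // a ∈ A ∧ a ≠ 1}, Nat.card ↥(θ a.1)

/-- `θ` is a minimal incomplete functor. -/
structure Minimal (p : ℕ) (A : Subgroup G) (θ : G → Subgroup G) : Prop extends Setup p A θ where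
  incomplete : ¬ Complete p A θ
  ih : ∀ (G' : Type u) [Group G'] [Finite G'] (A' : Subgroup G') (θ' : G' → Subgroup G'),
    Setup p A' θ' → weight A' θ' < weight A θ → Complete p A' θ'

/-- A maximal member containing `T`. -/
def IsMax (p : ℕ) (A : Subgroup G) (θ : G → Subgroup G) (M : Subgroup G) : Prop :=
  M ∈ Cfsg.signalizerFamily p A θ ∧ Cfsg.signalizerInf A θ ≤ M ∧
    ∀ N ∈ Cfsg.signalizerFamily p A θ, M ≤ N → N = M

/-- `W` is the largest invariant `σ`-member. -/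
def IsW (p : ℕ) (A : Subgroup G) (θ : G → Subgroup G) (σ : Set ℕ) (W : Subgroup G) : Prop :=
  W ∈ Cfsg.signalizerFamily p A θ ∧
    Cfsg.signalizerInf A θ ≤ Subgroup.normalizer (W : Set G) ∧
    PiNat σ (Nat.card W) ∧
    ∀ X ∈ Cfsg.signalizerFamily p A θ,
      Cfsg.signalizerInf A θ ≤ Subgroup.normalizer (X : Set G) → PiNat σ (Nat.card X) → X ≤ W

variable [Finite G] {p : ℕ} {A : Subgroup G} {θ : G → Subgroup G}

theorem piNat_of_isPGroup {q : ℕ} [Fact q.Prime] {X : Subgroup G} {σ : Set ℕ} (hX : IsPGroup q X)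
    (hq : q ∈ σ) : PiNat σ (Nat.card X) := by
  obtain ⟨k, hk⟩ := IsPGroup.iff_card.1 hX
  rw [hk]
  exact PiNat.pow (fun t ht htv => ((Nat.prime_dvd_prime_iff_eq ht Fact.out).1 htv).symm ▸ hq) k

theorem isPGroup_of_piNat {q : ℕ} [Fact q.Prime] {X : Subgroup G}
    (h : PiNat {q} (Nat.card X)) : IsPGroup q X := by
  obtain ⟨k, hk⟩ := (piNat_singleton_iff Fact.out Nat.card_pos.ne').1 h
  exact IsPGroup.of_card hk

namespace Setup

variable (hS : Setup p A θ)
include hS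

theorem isPGroup : IsPGroup p A := fun a => ⟨1, Subtype.ext (by simpa using hS.hA.2 a a.2)⟩

theorem comm {a b : G} (ha : a ∈ A) (hb : b ∈ A) : a * b = b * a := comm_of_mem hS.hA ha hb

theorem le_normalizer {X : Subgroup G} (hX : X ∈ Cfsg.signalizerFamily p A θ) :
    A ≤ Subgroup.normalizer (X : Set G) :=
  le_normalizer_of_forall hX.2.2.1

theorem theta_mem {a : G} (ha : a ∈ A) (ha1 : a ≠ 1) : θ a ∈ Cfsg.signalizerFamily p A θ :=
  theta_mem_family hS.hθ ha ha1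

theorem theta_le {a : G} (ha : a ∈ A) (ha1 : a ≠ 1) : θ a ≤ Subgroup.centralizer {a} :=
  hS.hθ.1.1 a ha ha1

theorem balance {a b : G} (ha : a ∈ A) (ha1 : a ≠ 1) (hb : b ∈ A) (hb1 : b ≠ 1) :
    θ a ⊓ Subgroup.centralizer {b} ≤ θ b :=
  hS.hθ.1.2.2.2 a ha ha1 b hb hb1

theorem exists_ne_one : ∃ a ∈ A, a ≠ 1 := by
  haveI : Nontrivial ↥A := by
    rw [← Finite.one_lt_card_iff_nontrivial, hS.hcard]
    exact Nat.one_lt_pow (by norm_num) hS.prime.one_lt
  obtain ⟨a, ha⟩ := exists_ne (1 : ↥A)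
  exact ⟨a, a.2, fun h => ha (Subtype.ext h)⟩

/-- A subgroup of order `p ^ 2` of `A` has enough fixed points to generate. -/
theorem le_of_points {X E S : Subgroup G} (hE : E ≤ A) (hE2 : p ^ 2 ≤ Nat.card E)
    (hXA : E ≤ Subgroup.normalizer (X : Set G)) (hXp : ¬ p ∣ Nat.card X)
    (h : ∀ e ∈ E, e ≠ 1 → X ⊓ Subgroup.centralizer {e} ≤ S) : X ≤ S := by
  haveI := Fact.mk hS.prime
  refine le_of_hyperplane_centralizers_le (elementaryAbelian_of_le hS.hA hE) hE2 hXA hXp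
    fun D hDE hD => ?_
  have hD1 : D ≠ ⊥ := by
    intro h1
    rw [h1, Subgroup.relIndex_bot_left] at hD
    rw [hD] at hE2
    have h2 : p * 2 ≤ p * p := Nat.mul_le_mul_left p hS.prime.two_le
    have h3 : 0 < p := hS.prime.pos
    rw [pow_two] at hE2
    omega
  obtain ⟨⟨d, hd⟩, hd1⟩ : ∃ d : ↥D, d ≠ 1 := by
    haveI := (Subgroup.nontrivial_iff_ne_bot D).2 hD1
    exact exists_ne 1
  refine le_trans (inf_le_inf_left _ (Subgroup.centralizer_le ?_))
    (h d (hDE hd) fun h1 => hd1 (Subtype.ext h1))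
  simpa using hd

theorem le_of_forall {X S : Subgroup G} (hXA : A ≤ Subgroup.normalizer (X : Set G))
    (hXp : ¬ p ∣ Nat.card X) (h : ∀ a ∈ A, a ≠ 1 → X ⊓ Subgroup.centralizer {a} ≤ S) : X ≤ S :=
  hS.le_of_points le_rfl
    (hS.hcard ▸ Nat.pow_le_pow_right hS.prime.pos (by norm_num)) hXA hXp h

theorem member_le {X S : Subgroup G} (hX : X ∈ Cfsg.signalizerFamily p A θ)
    (h : ∀ a ∈ A, a ≠ 1 → X ⊓ Subgroup.centralizer {a} ≤ S) : X ≤ S :=
  hS.le_of_forall (hS.le_normalizer hX) hX.2.1 h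

/-- A value is generated by its intersections with the values on a subgroup of order `p ^ 2`. -/
theorem theta_le_of {a : G} (ha : a ∈ A) (ha1 : a ≠ 1) {E S : Subgroup G} (hE : E ≤ A)
    (hE2 : p ^ 2 ≤ Nat.card E) (h : ∀ e ∈ E, e ≠ 1 → θ a ⊓ θ e ≤ S) : θ a ≤ S :=
  hS.le_of_points hE hE2 (hE.trans (hS.le_normalizer (hS.theta_mem ha ha1)))
    (hS.theta_mem ha ha1).2.1
    fun e he he1 => le_trans (le_inf inf_le_left (hS.balance ha ha1 (hE he) he1)) (h e he he1)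

theorem T_le {a : G} (ha : a ∈ A) (ha1 : a ≠ 1) : Cfsg.signalizerInf A θ ≤ θ a :=
  signalizerInf_le ha ha1

theorem T_centralizes {a t : G} (ha : a ∈ A) (ht : t ∈ Cfsg.signalizerInf A θ) :
    t * a = a * t :=
  ((signalizerInf_le_centralizer hS.hθ.1 le_rfl ht) a ha).symm

theorem T_mem : Cfsg.signalizerInf A θ ∈ Cfsg.signalizerFamily p A θ := by
  obtain ⟨a, ha, ha1⟩ := hS.exists_ne_one
  exact SignalizerTransitivity.signalizerInf_mem_family hS.hθ le_rfl ha ha1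

theorem mem_T {a x : G} (ha : a ∈ A) (ha1 : a ≠ 1) (hx : x ∈ θ a)
    (hxA : x ∈ Subgroup.centralizer (A : Set G)) : x ∈ Cfsg.signalizerInf A θ :=
  mem_signalizerInf hS.hθ.1 ha ha1 hx hxA

theorem T_le_normalizer_theta {a : G} (ha : a ∈ A) (ha1 : a ≠ 1) :
    Cfsg.signalizerInf A θ ≤ Subgroup.normalizer (θ a : Set G) :=
  (hS.T_le ha ha1).trans Subgroup.le_normalizer

theorem T_le_normalizer_centralizer {B : Set G} (hB : B ⊆ (A : Set G)) :
    Cfsg.signalizerInf A θ ≤ Subgroup.normalizer (Subgroup.centralizer B : Set G) :=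
  fun t ht => Subgroup.le_normalizer
    (show t ∈ Subgroup.centralizer B from fun _ hb => (hS.T_centralizes (hB hb) ht).symm)

theorem A_le_normalizer_centralizer {B : Set G} (hB : B ⊆ (A : Set G)) :
    A ≤ Subgroup.normalizer (Subgroup.centralizer B : Set G) :=
  fun a ha => Subgroup.le_normalizer
    (show a ∈ Subgroup.centralizer B from fun _ hb => hS.comm (hB hb) ha)

theorem sup_mem {X Y : Subgroup G} (hX : X ∈ Cfsg.signalizerFamily p A θ)
    (hY : Y ≤ Cfsg.signalizerInf A θ) (hYA : A ≤ Subgroup.normalizer (Y : Set G))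
    (hYX : Y ≤ Subgroup.normalizer (X : Set G)) : X ⊔ Y ∈ Cfsg.signalizerFamily p A θ := by
  have hT := hS.T_mem
  refine ⟨SignalizerBasic.isSolvable_sup hX.1 (@CoprimeAction.isSolvable_of_le _ _ _ _ hY hT.1) hYX,
    fun h => ?_, forall_conj_mem (le_normalizer_sup (hS.le_normalizer hX) hYA), ?_⟩
  · rcases hS.prime.dvd_mul.1 (h.trans (card_sup_dvd_mul hYX)) with h1 | h1
    · exact hX.2.1 h1
    · exact hT.2.1 (h1.trans (Subgroup.card_dvd_of_le hY))
  · rintro a ha ha1 z ⟨hz, hza⟩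
    have hz' : z ∈ (↑(X ⊔ Y) : Set G) := hz
    rw [Subgroup.coe_mul_of_right_le_normalizer_left _ _ hYX] at hz'
    obtain ⟨x, hx, y, hy, rfl⟩ := Set.mem_mul.1 hz'
    have hya : y ∈ Subgroup.centralizer ({a} : Set G) :=
      mem_centralizer_singleton.2 (hS.T_centralizes ha (hY hy))
    have hxa : x ∈ Subgroup.centralizer ({a} : Set G) := by
      simpa using (Subgroup.centralizer {a}).mul_mem hza (inv_mem hya)
    exact mul_mem (hX.2.2.2 a ha ha1 ⟨hx, hxa⟩) (hS.T_le ha ha1 (hY hy))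

theorem bot_mem : (⊥ : Subgroup G) ∈ Cfsg.signalizerFamily p A θ :=
  ⟨inferInstance, by simpa using hS.prime.ne_one,
    fun b _ x hx => by rw [Subgroup.mem_bot.1 hx]; simp, fun a _ _ => by simp⟩

theorem exists_max {X : Subgroup G} (hX : X ∈ Cfsg.signalizerFamily p A θ)
    (hTX : Cfsg.signalizerInf A θ ≤ Subgroup.normalizer (X : Set G)) :
    ∃ M, IsMax p A θ M ∧ X ≤ M := by
  have hY := hS.sup_mem hX le_rfl (hS.le_normalizer hS.T_mem) hTX
  obtain ⟨M, hle, hM⟩ :=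
    (Set.toFinite (Cfsg.signalizerFamily p A θ)).exists_le_maximal hY
  exact ⟨M, ⟨hM.prop, le_sup_right.trans hle,
    fun N hN hMN => (hM.eq_of_le hN hMN).symm⟩, le_sup_left.trans hle⟩

theorem exists_max_theta {a : G} (ha : a ∈ A) (ha1 : a ≠ 1) :
    ∃ M, IsMax p A θ M ∧ θ a ≤ M :=
  hS.exists_max (hS.theta_mem ha ha1) (hS.T_le_normalizer_theta ha ha1)

/-- The components of a member are members. -/
theorem oq_mem {M : Subgroup G} (hM : M ∈ Cfsg.signalizerFamily p A θ) (q : ℕ) :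
    Cfsg.pCoreOf q M ∈ Cfsg.signalizerFamily p A θ :=
  mem_family_of_le hM (oq_le q M) ((hS.le_normalizer hM).trans (normalizer_le_normalizer_oq q M))

theorem member_inf {X Y : Subgroup G} (hX : X ∈ Cfsg.signalizerFamily p A θ)
    (hY : A ≤ Subgroup.normalizer (Y : Set G)) : X ⊓ Y ∈ Cfsg.signalizerFamily p A θ :=
  mem_family_of_le hX inf_le_left (le_normalizer_inf (hS.le_normalizer hX) hY)

/-- Members whose fixed points are σ-groups are σ-groups. -/
theorem piNat_member {σ : Set ℕ} {X : Subgroup G} (hX : X ∈ Cfsg.signalizerFamily p A θ)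
    (h : ∀ a ∈ A, a ≠ 1 → PiNat σ (Nat.card ↥(X ⊓ Subgroup.centralizer {a}))) :
    PiNat σ (Nat.card X) := by
  haveI := Fact.mk hS.prime
  intro t ht htX
  by_contra htσ
  haveI := Fact.mk ht
  obtain ⟨R, hRX, hRc, hRA⟩ :=
    SignalizerCoprime.exists_invariant_sylow hS.isPGroup (hS.le_normalizer hX) hX.2.1 t
  have hR : IsPGroup t R := IsPGroup.of_card hRc
  have hle : R ≤ ⊥ := by
    refine hS.le_of_forall hRA (fun h' => hX.2.1 (h'.trans (Subgroup.card_dvd_of_le hRX)))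
      fun a ha ha1 => ?_
    rw [le_bot_iff, ← Subgroup.card_eq_one]
    obtain ⟨k, hk⟩ := IsPGroup.iff_card.1 (hR.to_le
      (inf_le_left : R ⊓ Subgroup.centralizer {a} ≤ R))
    cases k with
    | zero => simpa using hk
    | succ k =>
      refine absurd ((h a ha ha1) t ht ?_) htσ
      exact (hk ▸ dvd_pow_self t k.succ_ne_zero).trans
        (Subgroup.card_dvd_of_le (inf_le_inf_right _ hRX))
  rw [le_bot_iff.1 hle, Subgroup.card_bot] at hRc
  rcases Nat.pow_eq_one.1 hRc.symm with h1 | h1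
  · exact ht.ne_one h1
  · exact (ht.factorization_pos_of_dvd Nat.card_pos.ne' htX).ne' h1

end Setup

omit [Finite G] in
theorem weight_lt [Finite G] {θ' : G → Subgroup G} (hle : ∀ a ∈ A, a ≠ 1 → θ' a ≤ θ a)
    (hlt : ∃ a ∈ A, a ≠ 1 ∧ θ' a ≠ θ a) : weight A θ' < weight A θ := by
  classical
  haveI := Fintype.ofFinite {a : G // a ∈ A ∧ a ≠ 1}
  rw [weight, weight, finsum_eq_sum_of_fintype, finsum_eq_sum_of_fintype]
  obtain ⟨a, ha, ha1, hne⟩ := hlt
  refine Finset.sum_lt_sum (fun b _ => Subgroup.card_le_of_le (hle b.1 b.2.1 b.2.2))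
    ⟨⟨a, ha, ha1⟩, Finset.mem_univ _, lt_of_le_of_ne (Subgroup.card_le_of_le (hle a ha ha1))
      fun h => hne (Subgroup.eq_of_le_of_card_ge (hle a ha ha1) h.ge)⟩

namespace Minimal

variable (hM : Minimal p A θ)
include hM

/-- A smaller functor has a member. -/
theorem sub {θ' : G → Subgroup G} (hle : ∀ a ∈ A, a ≠ 1 → θ' a ≤ θ a)
    (hinv : ∀ a ∈ A, a ≠ 1 → ∀ b ∈ A, ∀ x ∈ θ' a, b * x * b⁻¹ ∈ θ' a)
    (hbal : ∀ a ∈ A, a ≠ 1 → ∀ b ∈ A, b ≠ 1 → θ' a ⊓ Subgroup.centralizer {b} ≤ θ' b)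
    (hlt : ∃ a ∈ A, a ≠ 1 ∧ θ' a ≠ θ a) :
    ∃ W ∈ Cfsg.signalizerFamily p A θ, (∀ a ∈ A, a ≠ 1 → θ' a ≤ W) ∧
      ∀ a ∈ A, a ≠ 1 → W ⊓ Subgroup.centralizer {a} ≤ θ' a := by
  have hθ' : Cfsg.IsSolvableSignalizerFunctor p A θ' :=
    ⟨⟨fun a ha ha1 => (hle a ha ha1).trans (hM.theta_le ha ha1),
      fun a ha ha1 h => hM.hθ.1.2.1 a ha ha1 (h.trans (Subgroup.card_dvd_of_le (hle a ha ha1))),
      hinv, hbal⟩,
      fun a ha ha1 => @CoprimeAction.isSolvable_of_le _ _ _ _ (hle a ha ha1) (hM.hθ.2 a ha ha1)⟩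
  obtain ⟨W, ⟨h1, h2, h3, h4⟩, h5⟩ :=
    hM.ih G A θ' ⟨hM.prime, hM.hA, hM.hcard, hθ'⟩ (weight_lt hle hlt)
  exact ⟨W, ⟨h1, h2, h3, fun a ha ha1 => (h4 a ha ha1).trans (hle a ha ha1)⟩, h5, h4⟩

/-- The values normalising a nontrivial member lie in a member normalising it. -/
theorem exists_norm {V : Subgroup G} (hV : V ∈ Cfsg.signalizerFamily p A θ) (hV1 : V ≠ ⊥) :
    ∃ N ∈ Cfsg.signalizerFamily p A θ, N ≤ Subgroup.normalizer (V : Set G) ∧
      ∀ a ∈ A, a ≠ 1 → θ a ⊓ Subgroup.normalizer (V : Set G) ≤ N := by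
  haveI := Fact.mk hM.prime
  have hS := hM.toSetup
  have hAV := hS.le_normalizer hV
  set L := Subgroup.normalizer (V : Set G) with hL
  have hAL : A ≤ Subgroup.normalizer (L : Set G) := hAV.trans Subgroup.le_normalizer
  by_cases hall : ∀ a ∈ A, a ≠ 1 → θ a ≤ L
  swap
  · push Not at hall
    obtain ⟨a₀, ha₀, ha₀1, hne⟩ := hall
    obtain ⟨W, hW, hWθ, hWC⟩ := hM.sub (θ' := fun a => θ a ⊓ L) (fun a _ _ => inf_le_left)
      (fun a ha ha1 => forall_conj_mem (le_normalizer_inf (hS.le_normalizer (hS.theta_mem ha ha1))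
        hAL))
      (fun a ha ha1 b hb hb1 x hx => ⟨hS.balance ha ha1 hb hb1 ⟨hx.1.1, hx.2⟩, hx.1.2⟩)
      ⟨a₀, ha₀, ha₀1, fun h => hne (h.ge.trans inf_le_right)⟩
    exact ⟨W, hW, hS.member_le hW fun a ha ha1 => (hWC a ha ha1).trans inf_le_right, hWθ⟩
  exfalso
  apply hM.incomplete
  have hinj : ∀ x ∈ A, x ∈ V → x = 1 := fun x hxA hxV => by
    have h : x ∈ A ⊓ V := ⟨hxA, hxV⟩
    rwa [inf_eq_bot_of_not_dvd hS.isPGroup hV.2.1, Subgroup.mem_bot] at h
  have hpinj : ∀ x y : ↥L, (x : G) ∈ A → (y : G) ∈ A → proj V x = proj V y → x = y := by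
    intro x y hx hy h
    have h2 : proj V (x⁻¹ * y) = 1 := by rw [map_mul, map_inv, h, inv_mul_cancel]
    exact inv_mul_eq_one.1 (Subtype.ext
      (hinj _ (mul_mem (inv_mem hx) hy) (proj_eq_one.1 h2)))
  have hcardA : Nat.card (img V A) = Nat.card A := by
    have e : Function.Bijective (fun a : ↥A =>
        (⟨proj V ⟨a, hAV a.2⟩, mem_img.2 ⟨⟨a, hAV a.2⟩, a.2, rfl⟩⟩ : ↥(img V A))) := by
      refine ⟨fun a b h => Subtype.ext
        (congrArg (fun z : ↥L => (z : G)) (hpinj _ _ a.2 b.2 (congrArg Subtype.val h))), ?_⟩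
      rintro ⟨y, hy⟩
      obtain ⟨x, hx, rfl⟩ := mem_img.1 hy
      exact ⟨⟨x, hx⟩, rfl⟩
    exact (Nat.card_congr (Equiv.ofBijective _ e)).symm
  classical
  let θ' : ↥L ⧸ V.subgroupOf L → Subgroup (↥L ⧸ V.subgroupOf L) := fun y =>
    if h : ∃ x : ↥L, (x : G) ∈ A ∧ proj V x = y then img V (θ (h.choose : G)) else ⊥
  have hθ'eq : ∀ x : ↥L, (x : G) ∈ A → θ' (proj V x) = img V (θ (x : G)) := by
    intro x hx
    have h : ∃ x' : ↥L, (x' : G) ∈ A ∧ proj V x' = proj V x := ⟨x, hx, rfl⟩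
    simp only [θ', dif_pos h]
    rw [hpinj _ _ h.choose_spec.1 hx h.choose_spec.2]
  have hne1 : ∀ x : ↥L, (x : G) ∈ A → proj V x ≠ 1 → (x : G) ≠ 1 := by
    intro x _ hx h
    exact hx (by rw [show x = 1 from Subtype.ext h, map_one])
  have hfix : ∀ (a : ↥L), (a : G) ∈ A → ∀ x : ↥L, proj V a * proj V x = proj V x * proj V a →
      ∃ v ∈ V, (a : G) * (v * x) = v * x * a := by
    intro a ha x hx
    obtain ⟨v, hv, h⟩ := exists_lift (A := Subgroup.zpowers (a : G))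
      (isPGroup_zpowers (hM.hA.2 _ ha)) ((Subgroup.zpowers_le.2 ha).trans hAV) hV.2.1 (x := x)
      (fun b hb => by
        obtain ⟨i, hi⟩ := hb
        rw [show b = a ^ i from Subtype.ext (by simpa using hi.symm), map_zpow]
        exact (show Commute (proj V a) (proj V x) from hx).zpow_left i)
    exact ⟨v, hv, h a (Subgroup.mem_zpowers _)⟩
  have hsetup : Setup p (img V A) θ' := by
    refine ⟨hM.prime, elementaryAbelian_img hM.hA, hcardA.trans hM.hcard,
      ⟨fun y hy hy1 => ?_, fun y hy hy1 => ?_, fun y hy hy1 b hb z hz => ?_,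
        fun y hy hy1 b hb hb1 => ?_⟩, fun y hy hy1 => ?_⟩
    · obtain ⟨x, hx, rfl⟩ := mem_img.1 hy
      rw [hθ'eq x hx]
      intro z hz
      obtain ⟨t, ht, rfl⟩ := mem_img.1 hz
      refine mem_centralizer_singleton.2 ?_
      rw [← map_mul, ← map_mul]
      exact congrArg _ (Subtype.ext
        (mem_centralizer_singleton.1 (hS.theta_le hx (hne1 x hx hy1) ht)))
    · obtain ⟨x, hx, rfl⟩ := mem_img.1 hy
      rw [hθ'eq x hx]
      exact fun h => (hS.theta_mem hx (hne1 x hx hy1)).2.1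
        (h.trans (card_img_dvd (hall _ hx (hne1 x hx hy1))))
    · obtain ⟨x, hx, rfl⟩ := mem_img.1 hy
      rw [hθ'eq x hx] at hz ⊢
      exact img_le_normalizer (hS.le_normalizer (hS.theta_mem hx (hne1 x hx hy1))) b hb z hz
    · obtain ⟨x, hx, rfl⟩ := mem_img.1 hy
      obtain ⟨x', hx', rfl⟩ := mem_img.1 hb
      rw [hθ'eq x hx, hθ'eq x' hx']
      rintro z ⟨hz, hzc⟩
      obtain ⟨t, ht, rfl⟩ := mem_img.1 hz
      have hx1 := hne1 x hx hy1
      have hx'1 := hne1 x' hx' hb1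
      set U := V ⊓ Subgroup.centralizer {(x : G)}
      -- lift inside `θ x`: correct `t` by an element of `V ∩ θ x`
      have hcomm : (x' : G) * t * (x' : G)⁻¹ * (t : G)⁻¹ ∈ V ⊓ θ x := by
        refine Subgroup.mem_inf.2 ⟨?_, mul_mem (mem_normalizer_conj (hS.le_normalizer (hS.theta_mem hx hx1) hx') ht)
          (inv_mem ht)⟩
        have h2 : proj V (x' * t * x'⁻¹ * t⁻¹) = 1 := by
          rw [map_mul, map_mul, map_mul, map_inv, map_inv,
            ← mem_centralizer_singleton.1 hzc]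
          group
        simpa using proj_eq_one.1 h2
      have hN : Subgroup.zpowers (x' : G) ≤
          Subgroup.normalizer ((V ⊓ θ x : Subgroup G) : Set G) :=
        (Subgroup.zpowers_le.2 hx').trans
          (le_normalizer_inf hAV (hS.le_normalizer (hS.theta_mem hx hx1)))
      have htL : (t : G) ∈ θ x := ht
      obtain ⟨w, hw, hwfix⟩ := exists_fixed_in_coset
        (isPGroup_zpowers (hM.hA.2 _ hx')) (fun h => hV.2.1 (h.trans
          (Subgroup.card_dvd_of_le inf_le_left))) hN (x := (t : G))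
        (fun g hg => by
          have hpow : ∀ i : ℕ, (x' : G) ^ i * t * ((x' : G) ^ i)⁻¹ * (t : G)⁻¹ ∈ V ⊓ θ x := by
            intro i
            induction i with
            | zero => simp
            | succ i ihi =>
              have := mul_mem (mem_normalizer_conj (hN (Subgroup.mem_zpowers _)) ihi) hcomm
              simpa [pow_succ', mul_assoc] using this
          obtain ⟨i, rfl⟩ := mem_powers_iff_mem_zpowers.2 hg
          exact hpow i)
      have hwt : w * (t : G) ∈ θ x' :=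
        hS.balance hx hx1 hx' hx'1 ⟨mul_mem hw.2 ht,
          mem_centralizer_singleton.2 (hwfix _ (Subgroup.mem_zpowers _)).symm⟩
      refine mem_img.2 ⟨⟨w, Subgroup.le_normalizer hw.1⟩ * t, hwt, ?_⟩
      rw [map_mul, proj_eq_one.2 hw.1, one_mul]
    · obtain ⟨x, hx, rfl⟩ := mem_img.1 hy
      rw [hθ'eq x hx]
      have hxL := hall _ hx (hne1 x hx hy1)
      haveI := hM.hθ.2 _ hx (hne1 x hx hy1)
      haveI : Group.IsSolvable ↥((θ (x : G)).subgroupOf L) :=
        Group.isSolvable_of_isSolvable_injective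
          (f := (Subgroup.subgroupOfEquivOfLe hxL).toMonoidHom) (MulEquiv.injective _)
      exact Group.isSolvable_of_surjective
        (f := (proj V).subgroupMap ((θ (x : G)).subgroupOf L))
        (MonoidHom.subgroupMap_surjective _ _)
  -- strict decrease
  obtain ⟨a₀, ha₀, ha₀1, hne⟩ : ∃ a ∈ A, a ≠ 1 ∧ V ⊓ θ a ≠ ⊥ := by
    by_contra h
    push Not at h
    exact hV1 (le_bot_iff.1 (hS.member_le hV fun a ha ha1 =>
      (h a ha ha1) ▸ le_inf inf_le_left (hV.2.2.2 a ha ha1)))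
  have hlt : weight (img V A) θ' < weight A θ := by
    haveI := Fintype.ofFinite {a : G // a ∈ A ∧ a ≠ 1}
    haveI := Fintype.ofFinite {a : ↥L ⧸ V.subgroupOf L // a ∈ img V A ∧ a ≠ 1}
    let e : {a : G // a ∈ A ∧ a ≠ 1} → {a : ↥L ⧸ V.subgroupOf L // a ∈ img V A ∧ a ≠ 1} :=
      fun a => ⟨proj V ⟨a.1, hAV a.2.1⟩, mem_img.2 ⟨⟨a.1, hAV a.2.1⟩, a.2.1, rfl⟩,
        fun h => a.2.2 (hinj _ a.2.1 (proj_eq_one.1 h))⟩
    have he : Function.Bijective e := by
      refine ⟨fun a b h => Subtype.ext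
        (congrArg (fun z : ↥L => (z : G)) (hpinj _ _ a.2.1 b.2.1 (congrArg Subtype.val h))), ?_⟩
      rintro ⟨y, hy, hy1⟩
      obtain ⟨x, hx, rfl⟩ := mem_img.1 hy
      exact ⟨⟨x, hx, hne1 x hx hy1⟩, rfl⟩
    rw [weight, weight, finsum_eq_sum_of_fintype, finsum_eq_sum_of_fintype,
      ← Fintype.sum_bijective e he (fun a => Nat.card ↥(img V (θ a.1))) _
        (fun a => by simp only [e]; rw [hθ'eq ⟨a.1, hAV a.2.1⟩ a.2.1])]
    refine Finset.sum_lt_sum (fun a _ => Nat.le_of_dvd Nat.card_pos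
      (card_img_dvd (hall _ a.2.1 a.2.2))) ⟨⟨a₀, ha₀, ha₀1⟩, Finset.mem_univ _, ?_⟩
    refine lt_of_le_of_ne (Nat.le_of_dvd Nat.card_pos (card_img_dvd (hall _ ha₀ ha₀1))) fun h => ?_
    have hker : ∀ z : ↥((θ a₀).subgroupOf L), proj V z.1 = 1 → z = 1 := by
      have hcard : Nat.card ↥((θ a₀).subgroupOf L) =
          Nat.card ↥(img V (θ a₀)) := by
        rw [h]; exact Nat.card_congr (Subgroup.subgroupOfEquivOfLe (hall _ ha₀ ha₀1)).toEquiv
      have hbij := (Nat.bijective_iff_surjective_and_card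
        ((proj V).subgroupMap ((θ a₀).subgroupOf L))).2
        ⟨MonoidHom.subgroupMap_surjective _ _, hcard⟩
      intro z hz
      exact hbij.1 (Subtype.ext (by simpa using hz))
    obtain ⟨⟨w, hw⟩, hw1⟩ : ∃ w : ↥(V ⊓ θ a₀), w ≠ 1 := by
      haveI := (Subgroup.nontrivial_iff_ne_bot _).2 hne
      exact exists_ne 1
    have := hker ⟨⟨w, Subgroup.le_normalizer hw.1⟩, hw.2⟩ (proj_eq_one.2 hw.1)
    exact hw1 (Subtype.ext (congrArg (fun z : ↥((θ a₀).subgroupOf L) => ((z : ↥L) : G)) this))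
  obtain ⟨W', ⟨hW's, hW'p, hW'A, hW'C⟩, hW'θ⟩ := hM.ih _ (img V A) θ' hsetup hlt
  set W := (W'.comap (proj V)).map L.subtype with hW
  have hWL : W ≤ L := Subgroup.map_subtype_le _
  have hVW : V ≤ W := fun v hv =>
    ⟨⟨v, Subgroup.le_normalizer hv⟩, by
      rw [SetLike.mem_coe, Subgroup.mem_comap,
        proj_eq_one.2 (show ((⟨v, Subgroup.le_normalizer hv⟩ : ↥L) : G) ∈ V from hv)]
      exact one_mem _, rfl⟩
  have hWimg : img V W = W' := by
    have h1 : W.subgroupOf L = W'.comap (proj V) :=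
      Subgroup.comap_map_eq_self_of_injective L.subtype_injective _
    rw [img, h1, Subgroup.map_comap_eq_self_of_surjective (QuotientGroup.mk'_surjective _)]
  refine ⟨W, ⟨?_, fun h => ?_, ?_, fun a ha ha1 => ?_⟩, fun a ha ha1 x hx => ?_⟩
  · haveI := hW's
    haveI := hV.1
    haveI : Group.IsSolvable ↥(V.subgroupOf L) :=
      Group.isSolvable_of_isSolvable_injective
        (f := (Subgroup.subgroupOfEquivOfLe (Subgroup.le_normalizer (H := V))).toMonoidHom)
        (MulEquiv.injective _)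
    haveI : Group.IsSolvable ↥(W'.comap (proj V)) := by
      refine solvable_of_ker_le_range
        (Subgroup.inclusion (show V.subgroupOf L ≤ W'.comap (proj V) from fun z hz => by
          simp [proj_eq_one.2 hz]))
        ((proj V).subgroupComap W') ?_
      rintro ⟨z, hz⟩ hz1
      exact ⟨⟨z, proj_eq_one.1 (congrArg Subtype.val hz1)⟩, rfl⟩
    exact Group.isSolvable_of_surjective
      (f := ((W'.comap (proj V)).equivMapOfInjective L.subtype L.subtype_injective).toMonoidHom)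
      (MulEquiv.surjective _)
  · rw [← card_img_mul hVW hWL, hWimg] at h
    rcases hM.prime.dvd_mul.1 h with h1 | h1
    · exact hW'p h1
    · exact hV.2.1 h1
  · rintro b hb _ ⟨z, hz, rfl⟩
    refine ⟨⟨b, hAV hb⟩ * z * (⟨b, hAV hb⟩ : ↥L)⁻¹, ?_, by simp⟩
    simp only [SetLike.mem_coe, Subgroup.mem_comap, map_mul, map_inv]
    exact hW'A _ (mem_img.2 ⟨⟨b, hAV hb⟩, hb, rfl⟩) _ hz
  · rintro _ ⟨⟨z, hz, rfl⟩, hzc⟩
    have h1 : proj V z ∈ θ' (proj V ⟨a, hAV ha⟩) := by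
      refine hW'C _ (mem_img.2 ⟨⟨a, hAV ha⟩, ha, rfl⟩)
        (fun h => ha1 (hinj _ ha (proj_eq_one.1 h))) ⟨hz, mem_centralizer_singleton.2 ?_⟩
      rw [← map_mul, ← map_mul]
      exact congrArg _ (Subtype.ext (mem_centralizer_singleton.1 hzc))
    rw [hθ'eq _ ha] at h1
    obtain ⟨t, ht, hteq⟩ := mem_img.1 h1
    have hv : (t : G)⁻¹ * (z : G) ∈ V := by
      have : proj V (t⁻¹ * z) = 1 := by rw [map_mul, map_inv, hteq, inv_mul_cancel]
      simpa using proj_eq_one.1 this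
    have hvc : (t : G)⁻¹ * (z : G) ∈ Subgroup.centralizer ({a} : Set G) :=
      mul_mem (inv_mem (hS.theta_le ha ha1 ht)) hzc
    simpa using mul_mem (show (t : G) ∈ θ a from ht) (hV.2.2.2 a ha ha1 ⟨hv, hvc⟩)
  · refine ⟨⟨x, hall a ha ha1 hx⟩, ?_, rfl⟩
    refine hW'θ _ (mem_img.2 ⟨⟨a, hAV ha⟩, ha, rfl⟩)
      (fun h => ha1 (hinj _ ha (proj_eq_one.1 h))) ?_
    rw [hθ'eq _ ha]
    exact mem_img.2 ⟨_, hx, rfl⟩

/-- Members normalising a normal subgroup of a maximal member lie in it. -/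
theorem le_max {M V X : Subgroup G} (hMax : IsMax p A θ M) (hVM : V ≤ M) (hV1 : V ≠ ⊥)
    (hMV : M ≤ Subgroup.normalizer (V : Set G)) (hAV : A ≤ Subgroup.normalizer (V : Set G))
    (hX : X ∈ Cfsg.signalizerFamily p A θ) (hXV : X ≤ Subgroup.normalizer (V : Set G)) :
    X ≤ M := by
  have hVmem := mem_family_of_le hMax.1 hVM hAV
  obtain ⟨N, hN, -, hNθ⟩ := hM.exists_norm hVmem hV1
  have hle : ∀ Y ∈ Cfsg.signalizerFamily p A θ, Y ≤ Subgroup.normalizer (V : Set G) → Y ≤ N :=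
    fun Y hY hYV => hM.toSetup.member_le hY fun a ha ha1 =>
      le_trans (le_inf (hY.2.2.2 a ha ha1) (inf_le_left.trans hYV)) (hNθ a ha ha1)
  rw [← hMax.2.2 N hN (hle M hMax.1 hMV)]
  exact hle X hX hXV

theorem le_max_oq {M X : Subgroup G} {q : ℕ} (hMax : IsMax p A θ M)
    (h1 : Cfsg.pCoreOf q M ≠ ⊥) (hX : X ∈ Cfsg.signalizerFamily p A θ)
    (hXV : X ≤ Subgroup.normalizer (Cfsg.pCoreOf q M : Set G)) : X ≤ M :=
  hM.le_max hMax (oq_le q M) h1 (le_normalizer_oq q M)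
    (hM.toSetup.le_normalizer (hM.toSetup.oq_mem hMax.1 q)) hX hXV

/-- The largest invariant σ-member. -/
theorem exists_W (σ : Set ℕ) (hσ : ∃ a ∈ A, a ≠ 1 ∧ ¬ PiNat σ (Nat.card (θ a))) :
    ∃ W, IsW p A θ σ W := by
  classical
  haveI := Fact.mk hM.prime
  have hS := hM.toSetup
  set T := Cfsg.signalizerInf A θ with hT
  let S : G → Set (Subgroup G) := fun a => {X | X ≤ θ a ∧ A ≤ Subgroup.normalizer (X : Set G) ∧
    T ≤ Subgroup.normalizer (X : Set G) ∧ PiNat σ (Nat.card X)}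
  have hbot : ∀ a, (⊥ : Subgroup G) ∈ S a := fun a =>
    ⟨bot_le, le_normalizer_of_forall fun g _ x hx => by rw [Subgroup.mem_bot.1 hx]; simp,
      le_normalizer_of_forall fun g _ x hx => by rw [Subgroup.mem_bot.1 hx]; simp,
      by simpa using piNat_one σ⟩
  have hmax : ∀ a, ∃ X ∈ S a, a ∈ A → a ≠ 1 → ∀ Y ∈ S a, Y ≤ X := by
    intro a
    obtain ⟨X, hX⟩ := (Set.toFinite (S a)).exists_maximal ⟨⊥, hbot a⟩
    refine ⟨X, hX.prop, fun ha ha1 Y hY => ?_⟩
    obtain ⟨hXθ, hXA, hXT, hXσ⟩ := hX.prop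
    obtain ⟨hYθ, hYA, hYT, hYσ⟩ := hY
    have hth := hS.theta_mem ha ha1
    have hC : θ a ⊓ Subgroup.centralizer (A : Set G) ≤ T := fun x hx => hS.mem_T ha ha1 hx.1 hx.2
    have hmem : X ⊔ Y ∈ S a :=
      ⟨sup_le hXθ hYθ, le_normalizer_sup hXA hYA, le_normalizer_sup hXT hYT,
        piNat_card_sup_invariant _ rfl hM.hA (hS.le_normalizer hth) hth.2.1 hth.1 hXθ hYθ hXA hYA
          (hC.trans hXT) (hC.trans hYT) hXσ hYσ⟩
    exact le_sup_right.trans (hX.2 hmem le_sup_left)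
  choose ψ hψ hψmax using hmax
  obtain ⟨a₀, ha₀, ha₀1, hne⟩ := hσ
  have hbal : ∀ a ∈ A, a ≠ 1 → ∀ b ∈ A, b ≠ 1 → ψ a ⊓ Subgroup.centralizer {b} ≤ ψ b := by
    intro a ha ha1 b hb hb1
    refine hψmax b hb hb1 _ ⟨?_, ?_, ?_, ?_⟩
    · exact (inf_le_inf_right _ (hψ a).1).trans (hS.balance ha ha1 hb hb1)
    · exact le_normalizer_inf (hψ a).2.1 (hS.A_le_normalizer_centralizer (by simpa using hb))
    · exact le_normalizer_inf (hψ a).2.2.1 (hS.T_le_normalizer_centralizer (by simpa using hb))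
    · exact (hψ a).2.2.2.of_dvd (Subgroup.card_dvd_of_le inf_le_left)
  obtain ⟨W, hW, hWψ, hWC⟩ := hM.sub (θ' := ψ) (fun a _ _ => (hψ a).1)
    (fun a _ _ => forall_conj_mem (hψ a).2.1) hbal
    ⟨a₀, ha₀, ha₀1, fun h => hne (h ▸ (hψ a₀).2.2.2)⟩
  have hWeq : W = ⨆ a : {a : G // a ∈ A ∧ a ≠ 1}, ψ a.1 :=
    le_antisymm (hS.member_le hW fun a ha ha1 =>
        (hWC a ha ha1).trans (le_iSup (fun a : {a : G // a ∈ A ∧ a ≠ 1} => ψ a.1) ⟨a, ha, ha1⟩))
      (iSup_le fun a => hWψ a.1 a.2.1 a.2.2)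
  refine ⟨W, hW, hWeq ▸ le_normalizer_iSup (fun a => (hψ a.1).2.2.1), ?_, fun X hX hXT hXσ => ?_⟩
  · exact hS.piNat_member hW fun a ha ha1 =>
      (hψ a).2.2.2.of_dvd (Subgroup.card_dvd_of_le (hWC a ha ha1))
  · refine hS.member_le hX fun a ha ha1 => le_trans (hψmax a ha ha1 _ ⟨hX.2.2.2 a ha ha1, ?_, ?_, ?_⟩)
      (hWψ a ha ha1)
    · exact le_normalizer_inf (hS.le_normalizer hX) (hS.A_le_normalizer_centralizer (by simpa using ha))
    · exact le_normalizer_inf hXT (hS.T_le_normalizer_centralizer (by simpa using ha))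
    · exact hXσ.of_dvd (Subgroup.card_dvd_of_le inf_le_left)

end Minimal

end Cfsg.Agent.SFTCtx
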