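import Mathlib
import Cfsg.Agent.Lib.SFTSigma

/-!
# Generation of `[K, z]` by fixed points of the other elements of a four-group or its analogue

If the elementary abelian group `E` of order at least `p ^ 2` acts on the solvable `p'`-group `K`
and `z ∈ E`, then `[K, z]` is generated by the subgroups `[C_K(f), z]` with `f ∈ E \ ⟨z⟩`.
-/

set_option autoImplicit false

namespace Cfsg.Agent.SFTLines

open Cfsg.Agent.SignalizerCoprime Cfsg.Agent.SFTSigma
open scoped commutatorElement

universe u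

theorem centralizer_singleton_eq {G : Type u} [Group G] [Finite G] {p : ℕ} [hp : Fact p.Prime]
    {z f : G} (hz : z ^ p = 1) (hf : f ∈ Subgroup.zpowers z) (hf1 : f ≠ 1) :
    Subgroup.centralizer ({f} : Set G) = Subgroup.centralizer ({z} : Set G) := by
  have hle : ∀ a b : G, a ∈ Subgroup.zpowers b →
      Subgroup.centralizer ({b} : Set G) ≤ Subgroup.centralizer ({a} : Set G) := by
    rintro a b ⟨i, rfl⟩ x hx
    exact Subgroup.mem_centralizer_singleton_iff.2
      ((show Commute x b from Subgroup.mem_centralizer_singleton_iff.1 hx).zpow_right i)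
  refine le_antisymm (hle z f ?_) (hle f z hf)
  have hz1 : z ≠ 1 := fun h => hf1 (by simpa [h] using hf)
  have hcard : Nat.card (Subgroup.zpowers f) = Nat.card (Subgroup.zpowers z) := by
    obtain ⟨i, rfl⟩ := hf
    rw [Nat.card_zpowers, Nat.card_zpowers, orderOf_eq_prime hz hz1,
      orderOf_eq_prime (by
        change (z ^ i) ^ p = 1
        rw [← zpow_natCast, ← zpow_mul, mul_comm, zpow_mul, zpow_natCast, hz, one_zpow]) hf1]
  rw [Subgroup.eq_of_le_of_card_ge (Subgroup.zpowers_le.2 hf) hcard.ge]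
  exact Subgroup.mem_zpowers z

theorem le_normalizer_zpowers {G : Type u} [Group G] {p : ℕ} {E : Subgroup G}
    (hE : Cfsg.IsElementaryAbelian p E) {z : G} (hz : z ∈ E) :
    E ≤ Subgroup.normalizer (Subgroup.zpowers z : Set G) := fun a ha => by
    refine Subgroup.mem_normalizer_iff.2 fun w => ⟨?_, ?_⟩
    · rintro ⟨i, rfl⟩
      refine ⟨i, ?_⟩
      rw [comm_of_mem hE ha (zpow_mem hz i), mul_inv_cancel_right]
    · rintro ⟨i, hi⟩
      refine ⟨i, ?_⟩
      have hw : w = a⁻¹ * z ^ i * a := by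
        simp only at hi
        rw [hi]; group
      change z ^ i = w
      rw [hw, comm_of_mem hE (inv_mem ha) (zpow_mem hz i), inv_mul_cancel_right]

/-- Core form: `K = [K, z]` is generated by the `[C_K(f), z]`. -/
theorem le_of_lines {p : ℕ} [hp : Fact p.Prime] :
    ∀ (n : ℕ) {G : Type u} [Group G] [Finite G] {E K S : Subgroup G} {z : G}, Nat.card K = n →
      Cfsg.IsElementaryAbelian p E → p ^ 2 ≤ Nat.card E → E ≤ Subgroup.normalizer (K : Set G) →
      ¬ p ∣ Nat.card K → Group.IsSolvable ↥K → z ∈ E →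
      ⁅K, Subgroup.zpowers z⁆ = K →
      (∀ f ∈ E, f ∉ Subgroup.zpowers z →
        ⁅K ⊓ Subgroup.centralizer {f}, Subgroup.zpowers z⁆ ≤ S) → K ≤ S := by
  intro n
  induction n using Nat.strong_induction_on with
  | _ n ih =>
  intro G _ _ E K S z hn hE hE2 hEK hKp hK hz hKz hS
  subst hn
  by_cases hK1 : K = ⊥
  · exact hK1 ▸ bot_le
  set Z := Subgroup.zpowers z with hZ
  have hZK : Z ≤ Subgroup.normalizer (K : Set G) := (Subgroup.zpowers_le.2 hz).trans hEK
  -- the subgroup generated by the lines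
  set T : Subgroup G := ⨆ f : {f : G // f ∈ E ∧ f ∉ Z}, ⁅K ⊓ Subgroup.centralizer {f.1}, Z⁆ with hT
  suffices hKT : K ≤ T from hKT.trans (iSup_le fun f => hS f.1 f.2.1 f.2.2)
  have hTK : T ≤ K := iSup_le fun f =>
    (Subgroup.commutator_mono inf_le_left le_rfl).trans hKz.le
  have hEC : ∀ f ∈ E, E ≤ Subgroup.normalizer (Subgroup.centralizer ({f} : Set G) : Set G) :=
    fun f hf => le_trans (fun b hb => Subgroup.mem_centralizer_singleton_iff.2 (comm_of_mem hE hb hf))
      Subgroup.le_normalizer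
  have hET : E ≤ Subgroup.normalizer (T : Set G) := le_normalizer_iSup fun f =>
    le_normalizer_commutator (le_normalizer_inf hEK (hEC f.1 f.2.1)) (le_normalizer_zpowers hE hz)
  -- a minimal normal invariant subgroup
  let 𝒮 : Set (Subgroup G) := {V | V ≤ K ∧ V ≠ ⊥ ∧ K ⊔ E ≤ Subgroup.normalizer (V : Set G)}
  have hK𝒮 : K ∈ 𝒮 := ⟨le_rfl, hK1, sup_le Subgroup.le_normalizer hEK⟩
  obtain ⟨V, hV⟩ := (Set.toFinite 𝒮).exists_minimal ⟨K, hK𝒮⟩
  obtain ⟨hVK, hV1, hVN⟩ := hV.prop
  have hmin : ∀ U : Subgroup G, U ≤ V → U ≠ ⊥ → K ⊔ E ≤ Subgroup.normalizer (U : Set G) →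
      U = V := fun U hUV hU1 hUN => le_antisymm hUV (hV.2 ⟨hUV.trans hVK, hU1, hUN⟩ hUV)
  haveI hVs : Group.IsSolvable ↥V := @CoprimeAction.isSolvable_of_le _ _ _ _ hVK hK
  have hVc : ∀ x ∈ V, ∀ y ∈ V, x * y = y * x := by
    have hbot : (⁅V, V⁆ : Subgroup G) = ⊥ := by
      by_contra h1
      haveI : Nontrivial ↥V := (Subgroup.nontrivial_iff_ne_bot V).2 hV1
      have h2 : (⁅V, V⁆ : Subgroup G) = V :=
        hmin _ (Subgroup.le_normalizer_iff_commutator_le_left.1 Subgroup.le_normalizer) h1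
          (le_normalizer_commutator hVN hVN)
      rw [← V.map_subtype_commutator] at h2
      have h3 := congrArg (fun U : Subgroup G => Nat.card U) h2
      simp only [Subgroup.card_map_of_injective V.subtype_injective] at h3
      exact ne_of_lt (Group.IsSolvable.commutator_lt_top_of_nontrivial ↥V)
        ((Subgroup.card_eq_iff_eq_top _).1 h3)
    intro x hx y hy
    exact (commutatorElement_eq_one_iff_mul_comm.1
      (by simpa [hbot] using Subgroup.commutator_mem_commutator hx hy))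
  have hVp : ¬ p ∣ Nat.card V := fun h => hKp (h.trans (Subgroup.card_dvd_of_le hVK))
  have hEN : E ≤ Subgroup.normalizer (V : Set G) := le_sup_right.trans hVN
  have hKN : K ≤ Subgroup.normalizer (V : Set G) := le_sup_left.trans hVN
  have hTN : T ≤ Subgroup.normalizer (V : Set G) := hTK.trans hKN
  set L := Subgroup.normalizer (V : Set G) with hL
  -- the quotient
  have hlt : Nat.card (img V K) < Nat.card K := by
    rw [← card_img_mul hVK hKN]
    exact lt_mul_of_one_lt_right Nat.card_pos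
      (lt_of_le_of_ne Nat.card_pos fun h => hV1 (Subgroup.card_eq_one.1 h.symm))
  have hzimg : img V Z = Subgroup.zpowers (proj V ⟨z, hEN hz⟩) := by
    rw [img, ← MonoidHom.map_zpowers]
    congr 1
    ext x
    rw [Subgroup.mem_subgroupOf, hZ]
    constructor
    · rintro ⟨i, hi⟩
      exact ⟨i, Subtype.ext (by simpa using hi)⟩
    · rintro ⟨i, rfl⟩
      exact ⟨i, by simp⟩
  have hcomm : ∀ X Y : Subgroup G, X ≤ L → Y ≤ L → img V ⁅X, Y⁆ = ⁅img V X, img V Y⁆ := by
    intro X Y hX hY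
    rw [img, img, img, ← Subgroup.map_commutator]
    congr 1
    apply Subgroup.map_injective L.subtype_injective
    rw [Subgroup.map_commutator, Subgroup.map_subgroupOf_eq_of_le hX,
      Subgroup.map_subgroupOf_eq_of_le hY, Subgroup.map_subgroupOf_eq_of_le]
    exact (Subgroup.commutator_mono hX hY).trans (Subgroup.commutator_le_self L)
  have hZL : Z ≤ L := (Subgroup.zpowers_le.2 hz).trans hEN
  have hKimg : img V K ≤ img V T := by
    have hcardE : Nat.card (img V E) = Nat.card E := by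
      have h1 : Nat.card (img V E) ∣ Nat.card E := card_img_dvd hEN
      refine le_antisymm (Nat.le_of_dvd Nat.card_pos h1) (Nat.card_le_card_of_injective
        (fun e : ↥E => (⟨proj V ⟨e, hEN e.2⟩, mem_img.2 ⟨⟨e, hEN e.2⟩, e.2, rfl⟩⟩ : ↥(img V E))) ?_)
      intro a b h
      have h2 : proj V ⟨((a⁻¹ * b : ↥E) : G), hEN (a⁻¹ * b : ↥E).2⟩ = 1 := by
        have h3 := congrArg Subtype.val h
        simp only at h3
        rw [show (⟨((a⁻¹ * b : ↥E) : G), hEN (a⁻¹ * b : ↥E).2⟩ : ↥L) =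
          (⟨a, hEN a.2⟩ : ↥L)⁻¹ * ⟨b, hEN b.2⟩ from Subtype.ext rfl, map_mul, map_inv, h3,
          inv_mul_cancel]
      have h4 : ((a⁻¹ * b : ↥E) : G) ∈ E ⊓ V := ⟨(a⁻¹ * b : ↥E).2, proj_eq_one.1 h2⟩
      rw [SFTGroup.inf_eq_bot_of_not_dvd (isPGroup_of_elementaryAbelian hE) hVp,
        Subgroup.mem_bot] at h4
      exact inv_mul_eq_one.1 (Subtype.ext h4)
    have hsolK : Group.IsSolvable ↥(img V K) := by
      haveI := hK
      haveI : Group.IsSolvable ↥(K.subgroupOf L) :=
        Group.isSolvable_of_isSolvable_injective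
          (f := (Subgroup.subgroupOfEquivOfLe hKN).toMonoidHom) (MulEquiv.injective _)
      exact Group.isSolvable_of_surjective (f := (proj V).subgroupMap (K.subgroupOf L))
        (MonoidHom.subgroupMap_surjective _ _)
    refine ih _ hlt rfl (elementaryAbelian_img hE) (hcardE ▸ hE2)
      (le_normalizer_of_forall (img_le_normalizer hEK))
      (fun h => hKp (h.trans (card_img_dvd hKN))) hsolK
      (z := proj V ⟨z, hEN hz⟩) (mem_img.2 ⟨_, hz, rfl⟩) ?_ ?_
    · rw [← hzimg, ← hcomm K Z hKN hZL, hKz]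
    · intro f hf hfz
      obtain ⟨f', hf', rfl⟩ := mem_img.1 hf
      have hf'Z : (f' : G) ∉ Z := fun h => hfz (hzimg ▸ mem_img.2 ⟨f', h, rfl⟩)
      refine le_trans ?_ (Subgroup.map_mono (f := proj V)
        (Subgroup.subgroupOf_mono L (le_iSup (fun f : {f : G // f ∈ E ∧ f ∉ Z} => ⁅K ⊓ Subgroup.centralizer {f.1}, Z⁆)
          ⟨f', hf', hf'Z⟩)))
      change _ ≤ img V ⁅K ⊓ Subgroup.centralizer {(f' : G)}, Z⁆
      rw [hcomm _ Z (inf_le_left.trans hKN) hZL, hzimg]
      refine Subgroup.commutator_mono ?_ le_rfl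
      rintro y ⟨hy, hyc⟩
      obtain ⟨k, hk, rfl⟩ := mem_img.1 hy
      have hE' : Subgroup.zpowers (f' : G) ≤ E := Subgroup.zpowers_le.2 hf'
      obtain ⟨v, hv, hfix⟩ := exists_lift ((isPGroup_of_elementaryAbelian hE).to_le hE')
        (hE'.trans hEN) hVp (x := k) fun a ha => by
          obtain ⟨i, hi⟩ := ha
          rw [show a = f' ^ i from Subtype.ext (by simpa using hi.symm), map_zpow]
          exact ((show Commute (proj V f') (proj V k) from
            (Subgroup.mem_centralizer_singleton_iff.1 hyc).symm).zpow_left i)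
      refine mem_img.2 ⟨⟨v, Subgroup.le_normalizer hv⟩ * k, ?_, ?_⟩
      · exact ⟨mul_mem (hVK hv) hk,
          Subgroup.mem_centralizer_singleton_iff.2 (hfix _ (Subgroup.mem_zpowers _)).symm⟩
      · rw [map_mul, proj_eq_one.2 hv, one_mul]
  have hKeq : ∀ k ∈ K, ∃ v ∈ V, ∃ t ∈ T, k = v * t := by
    intro k hk
    obtain ⟨t, ht, hteq⟩ := mem_img.1 (hKimg (mem_img.2 ⟨⟨k, hKN hk⟩, hk, rfl⟩))
    have h1 : proj V (⟨k, hKN hk⟩ * t⁻¹) = 1 := by rw [map_mul, map_inv, hteq, mul_inv_cancel]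
    exact ⟨_, proj_eq_one.1 h1, t, ht, by simp⟩
  -- `V ⊓ T` is normal
  by_cases hVT : V ⊓ T = ⊥
  swap
  · have hNVT : V ⊓ T = V := by
      refine hmin _ inf_le_left hVT (sup_le (fun k hk => ?_) (le_normalizer_inf hEN hET))
      obtain ⟨v, hv, t, ht, rfl⟩ := hKeq k hk
      refine mul_mem ?_ (Subgroup.inf_normalizer_le_normalizer_inf ⟨hTN ht, Subgroup.le_normalizer ht⟩)
      exact SignalizerCoprime.centralizer_le_normalizer _ fun x hx => hVc x hx.1 v hv
    intro k hk
    obtain ⟨v, hv, t, ht, rfl⟩ := hKeq k hk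
    exact mul_mem ((hNVT.ge hv).2) ht
  -- otherwise `z` centralises `V`
  have hVz : V ≤ Subgroup.centralizer ({z} : Set G) := by
    refine le_of_hyperplane_centralizers_le hE hE2 hEN hVp fun D hDE hD x hx => ?_
    have hD1 : D ≠ ⊥ := by
      intro h1
      rw [h1, Subgroup.relIndex_bot_left] at hD
      rw [hD, pow_two] at hE2
      have h2 : p * 2 ≤ p * p := Nat.mul_le_mul_left p hp.out.two_le
      have := hp.out.pos
      omega
    obtain ⟨⟨d, hd⟩, hd1⟩ : ∃ d : ↥D, d ≠ 1 := by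
      haveI := (Subgroup.nontrivial_iff_ne_bot D).2 hD1
      exact exists_ne 1
    have hxd : x ∈ Subgroup.centralizer ({d} : Set G) :=
      Subgroup.centralizer_le (by simpa using hd) hx.2
    by_cases hdZ : d ∈ Z
    · rwa [centralizer_singleton_eq (hE.2 z hz) hdZ fun h => hd1 (Subtype.ext h)] at hxd
    · have hle : ⁅V ⊓ Subgroup.centralizer {d}, Z⁆ ≤ V ⊓ T := by
        refine le_inf ((Subgroup.commutator_mono inf_le_left le_rfl).trans
          (Subgroup.le_normalizer_iff_commutator_le_left.1 hZL)) ?_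
        exact (Subgroup.commutator_mono (inf_le_inf_right _ hVK) le_rfl).trans
          (le_iSup (fun f : {f : G // f ∈ E ∧ f ∉ Z} => ⁅K ⊓ Subgroup.centralizer {f.1}, Z⁆)
            ⟨d, hDE hd, hdZ⟩)
      rw [hVT, le_bot_iff, Subgroup.commutator_eq_bot_iff_le_centralizer] at hle
      exact Subgroup.mem_centralizer_singleton_iff.2
        ((hle (Subgroup.mem_inf.2 ⟨hx.1, hxd⟩)) z (Subgroup.mem_zpowers z)).symm
  have hzv : ∀ v ∈ V, ∀ w ∈ Z, v * w = w * v := by
    rintro v hv _ ⟨i, rfl⟩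
    exact ((show Commute v z from
      Subgroup.mem_centralizer_singleton_iff.1 (hVz hv)).zpow_right i)
  -- hence `V` is central in `K`
  have hcent : ∀ k ∈ K, ∀ v ∈ V, k * v = v * k := by
    intro k hk v hv
    have hle : K ≤ Subgroup.centralizer ({v} : Set G) := by
      rw [← hKz, Subgroup.commutator_le]
      intro k hk w hw
      refine Subgroup.mem_centralizer_singleton_iff.2 ?_
      have hkv : k⁻¹ * v * k ∈ V := by
        simpa using mem_normalizer_conj (hKN (inv_mem hk)) hv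
      have h1 := hzv _ hkv w hw
      have h2 : w⁻¹ * v * w = v := by rw [mul_assoc, hzv v hv w hw, inv_mul_cancel_left]
      calc ⁅k, w⁆ * v = k * w * (k⁻¹ * (w⁻¹ * v * w)) * w⁻¹ := by
            rw [commutatorElement_def]; group
        _ = k * w * (k⁻¹ * v * k) * (k⁻¹ * w⁻¹) := by rw [h2]; group
        _ = k * (k⁻¹ * v * k * w) * (k⁻¹ * w⁻¹) := by rw [h1]; group
        _ = v * ⁅k, w⁆ := by rw [commutatorElement_def]; group
    exact Subgroup.mem_centralizer_singleton_iff.1 (hle hk)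
  rw [← hKz, Subgroup.commutator_le]
  intro k hk w hw
  obtain ⟨v, hv, t, ht, rfl⟩ := hKeq k hk
  have hwt : w * t⁻¹ * w⁻¹ ∈ T := mem_normalizer_conj ((Subgroup.zpowers_le.2 hz).trans hET hw)
    (inv_mem ht)
  have h3 : ⁅t, w⁆ ∈ T := by
    rw [commutatorElement_def, mul_assoc t, mul_assoc t]
    exact mul_mem ht hwt
  have h4 : ⁅v * t, w⁆ = v * ⁅t, w⁆ * v⁻¹ := by
    have h5 : w * v⁻¹ = v⁻¹ * w := (hzv _ (inv_mem hv) w hw).symm
    calc ⁅v * t, w⁆ = v * t * w * t⁻¹ * (v⁻¹ * w⁻¹) := by rw [commutatorElement_def]; group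
      _ = v * t * w * t⁻¹ * (w⁻¹ * v⁻¹) := by rw [(hzv _ (inv_mem hv) _ (inv_mem hw))]
      _ = v * ⁅t, w⁆ * v⁻¹ := by rw [commutatorElement_def]; group
  rw [h4, ← hcent _ (hTK h3) v hv, mul_inv_cancel_right]
  exact h3

/-- `[K, z]` is contained in any subgroup containing the `[C_K(f), z]`. -/
theorem commutator_le_of_lines {G : Type u} [Group G] [Finite G] {p : ℕ} [hp : Fact p.Prime]
    {E K S : Subgroup G} {z : G} (hE : Cfsg.IsElementaryAbelian p E) (hE2 : p ^ 2 ≤ Nat.card E)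
    (hEK : E ≤ Subgroup.normalizer (K : Set G)) (hKp : ¬ p ∣ Nat.card K)
    (hK : Group.IsSolvable ↥K) (hz : z ∈ E)
    (hS : ∀ f ∈ E, f ∉ Subgroup.zpowers z →
      ⁅K ⊓ Subgroup.centralizer {f}, Subgroup.zpowers z⁆ ≤ S) :
    ⁅K, Subgroup.zpowers z⁆ ≤ S := by
  have hZK : Subgroup.zpowers z ≤ Subgroup.normalizer (K : Set G) :=
    (Subgroup.zpowers_le.2 hz).trans hEK
  have hle : ⁅K, Subgroup.zpowers z⁆ ≤ K := CoprimeAction.commutator_le_self_of_le_normalizer hZK
  have hcop : (Nat.card (Subgroup.zpowers z)).Coprime (Nat.card K) := by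
    obtain ⟨k, hk⟩ := IsPGroup.iff_card.1 (isPGroup_zpowers (hE.2 z hz))
    rw [hk]
    exact Nat.Coprime.pow_left k ((Nat.Prime.coprime_iff_not_dvd hp.out).2 hKp)
  exact le_of_lines _ rfl hE hE2 (le_normalizer_commutator hEK (le_normalizer_zpowers hE hz))
    (fun h => hKp (h.trans (Subgroup.card_dvd_of_le hle)))
    (@CoprimeAction.isSolvable_of_le _ _ _ _ hle hK) hz
    (CoprimeAction.commutator_commutator_eq hZK hcop (Or.inr hK))
    fun f hf hfz => (Subgroup.commutator_mono (inf_le_inf_right _ hle) le_rfl).trans (hS f hf hfz)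

end Cfsg.Agent.SFTLines
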