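import Mathlib
import Cfsg.Agent.Lib.SFTStatic

/-!
# From groups of order `p ^ 3` to all elementary abelian groups

If every solvable signalizer functor on an elementary abelian group of order `p ^ 3` is complete,
so is every solvable signalizer functor on a larger one.
-/

set_option autoImplicit false

namespace Cfsg.Agent.SFTExtend

open Cfsg.Agent.SignalizerCoprime Cfsg.Agent.SFTGroup Cfsg.Agent.SFTCtx Cfsg.Agent.SFTStatic

universe u

/-- Completeness on groups of order `p ^ 3`. -/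
def CompleteAt (p : ℕ) : Prop :=
  ∀ (G : Type u) [Group G] [Finite G] (A : Subgroup G) (θ : G → Subgroup G),
    Setup p A θ → Complete p A θ

theorem exists_cube {G : Type u} [Group G] [Finite G] {p : ℕ} [Fact p.Prime] {A : Subgroup G}
    (hA : Cfsg.IsElementaryAbelian p A) (h3 : p ^ 3 ≤ Nat.card A) {a : G} (ha : a ∈ A) :
    ∃ A₀, A₀ ≤ A ∧ a ∈ A₀ ∧ Nat.card A₀ = p ^ 3 := by
  obtain ⟨k, hk⟩ := IsPGroup.iff_card.1 (isPGroup_of_elementaryAbelian hA)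
  have hk3 : 3 ≤ k := (Nat.pow_le_pow_iff_right (Fact.out : p.Prime).one_lt).1 (hk ▸ h3)
  have hZA : Subgroup.zpowers a ≤ A := Subgroup.zpowers_le.2 ha
  obtain ⟨i, hi⟩ := IsPGroup.iff_card.1 ((isPGroup_of_elementaryAbelian hA).to_le hZA)
  have hi1 : i ≤ 1 := by
    refine (Nat.pow_le_pow_iff_right (Fact.out : p.Prime).one_lt).1 ?_
    rw [← hi, pow_one, Nat.card_zpowers]
    exact orderOf_le_of_pow_eq_one (Fact.out : p.Prime).pos (hA.2 a ha)
  have hS : Nat.card ↥((Subgroup.zpowers a).subgroupOf A) = p ^ i := by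
    rw [Nat.card_congr (Subgroup.subgroupOfEquivOfLe hZA).toEquiv, hi]
  obtain ⟨K, hK, hle⟩ := Sylow.exists_subgroup_card_pow_prime_le (G := ↥A) p
    (m := 3) (by rw [hk]; exact pow_dvd_pow p hk3) _ hS (by omega)
  exact ⟨K.map A.subtype, Subgroup.map_subtype_le K,
    ⟨⟨a, ha⟩, hle (Subgroup.mem_subgroupOf.2 (Subgroup.mem_zpowers a)), rfl⟩,
    by rw [Subgroup.card_map_of_injective A.subtype_injective, hK]⟩

/-- The theorem on a group of order at least `p ^ 3`: the values generate a member meeting every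
centraliser in exactly the value. -/
theorem closure_mem {p : ℕ} [hp : Fact p.Prime] (hC : CompleteAt.{u} p) {G : Type u} [Group G]
    [Finite G] {A : Subgroup G} (hA : Cfsg.IsElementaryAbelian p A) (h3 : p ^ 3 ≤ Nat.card A)
    {θ : G → Subgroup G} (hθ : Cfsg.IsSolvableSignalizerFunctor p A θ) :
    (⨆ a : {a : G // a ∈ A ∧ a ≠ 1}, θ a) ∈ Cfsg.signalizerFamily p A θ ∧
      ∀ a ∈ A, a ≠ 1 →
        (⨆ b : {b : G // b ∈ A ∧ b ≠ 1}, θ b) ⊓ Subgroup.centralizer {a} = θ a := by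
  set W := ⨆ a : {a : G // a ∈ A ∧ a ≠ 1}, θ a with hW
  have key : ∀ a ∈ A, ¬ p ∣ Nat.card W ∧ Group.IsSolvable ↥W ∧
      (a ≠ 1 → W ⊓ Subgroup.centralizer {a} ≤ θ a) := by
    intro a ha
    obtain ⟨A₀, hA₀, haA₀, hcard⟩ := exists_cube hA h3 ha
    have hA₀e := elementaryAbelian_of_le hA hA₀
    obtain ⟨⟨hC1, hC2, hC3, hC4⟩, hsol⟩ := hθ
    have hS : Setup p A₀ θ := ⟨hp.out, hA₀e, hcard,
      ⟨fun b hb => hC1 b (hA₀ hb), fun b hb => hC2 b (hA₀ hb),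
        fun b hb hb1 c hc => hC3 b (hA₀ hb) hb1 c (hA₀ hc),
        fun b hb hb1 c hc => hC4 b (hA₀ hb) hb1 c (hA₀ hc)⟩, fun b hb => hsol b (hA₀ hb)⟩
    obtain ⟨W₀, hW₀, hW₀θ⟩ := hC G A₀ θ hS
    have hW1 : W = W₀ := by
      refine le_antisymm (iSup_le fun c => ?_) (hS.member_le hW₀ fun b hb hb1 =>
        (hW₀.2.2.2 b hb hb1).trans
          (le_iSup (fun c : {c : G // c ∈ A ∧ c ≠ 1} => θ c.1) ⟨b, hA₀ hb, hb1⟩))
      refine hS.le_of_forall (le_normalizer_of_forall fun g hg =>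
          hC3 c.1 c.2.1 c.2.2 g (hA₀ hg)) (hC2 c.1 c.2.1 c.2.2)
        fun b hb hb1 => (hC4 c.1 c.2.1 c.2.2 b (hA₀ hb) hb1).trans (hW₀θ b hb hb1)
    exact ⟨hW1 ▸ hW₀.2.1, hW1 ▸ hW₀.1, fun ha1 => hW1 ▸ hW₀.2.2.2 a haA₀ ha1⟩
  refine ⟨⟨(key 1 (one_mem A)).2.1, (key 1 (one_mem A)).1, ?_, fun a ha ha1 => (key a ha).2.2 ha1⟩,
    fun a ha ha1 => le_antisymm ((key a ha).2.2 ha1) (le_inf
      (le_iSup (fun c : {c : G // c ∈ A ∧ c ≠ 1} => θ c.1) ⟨a, ha, ha1⟩) (hθ.1.1 a ha ha1))⟩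
  exact forall_conj_mem (le_normalizer_iSup fun c =>
    le_normalizer_of_forall (hθ.1.2.2.1 c.1 c.2.1 c.2.2))

end Cfsg.Agent.SFTExtend
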