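import Mathlib
import Cfsg.Prelude.Def_CaseTheorems
import Cfsg.Agent.Lib.SFTExtend
import Cfsg.Agent.Lib.SFTBalance

/-!
# Applications of the solvable signalizer functor theorem for a given prime

Each result takes completeness on groups of order `p ^ 3` as a hypothesis.
-/

set_option autoImplicit false

namespace Cfsg.Agent.SFTApps

open Cfsg.Agent.SignalizerCoprime Cfsg.Agent.SFTGroup Cfsg.Agent.SFTExtend

universe u

variable {G : Type u} [Group G] [Finite G] {p : ℕ} [hp : Fact p.Prime]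

/-- Solvability from the centralisers of a group of order at least `p ^ 3`. -/
theorem solvable_of_centralizers (hC : CompleteAt.{u} p) {A K : Subgroup G}
    (hA : Cfsg.IsElementaryAbelian p A) (h3 : p ^ 3 ≤ Nat.card A) (hK : ¬ p ∣ Nat.card K)
    (hAK : A ≤ Subgroup.normalizer (K : Set G))
    (hsol : ∀ a ∈ A, a ≠ 1 → Group.IsSolvable ↥(K ⊓ Subgroup.centralizer ({a} : Set G))) :
    Group.IsSolvable ↥K := by
  have hθ : Cfsg.IsSolvableSignalizerFunctor p A
      (fun a => K ⊓ Subgroup.centralizer ({a} : Set G)) := by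
    refine ⟨⟨fun a _ _ => inf_le_right,
      fun a _ _ h => hK (h.trans (Subgroup.card_dvd_of_le inf_le_left)),
      fun a ha _ => forall_conj_mem (le_normalizer_inf hAK fun b hb => Subgroup.le_normalizer
        (mem_centralizer_singleton.2 (comm_of_mem hA hb ha))),
      fun a _ _ b _ _ x hx => ⟨hx.1.1, hx.2⟩⟩, hsol⟩
  obtain ⟨hW, -⟩ := closure_mem hC hA h3 hθ
  set W := ⨆ a : {a : G // a ∈ A ∧ a ≠ 1}, K ⊓ Subgroup.centralizer ({a.1} : Set G) with hWdef
  have hKW : K = W := le_antisymm (le_of_centralizers_le hA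
      (le_trans (Nat.pow_le_pow_right hp.out.pos (by norm_num)) h3) hAK hK fun b hb hb1 =>
        le_iSup (fun a : {a : G // a ∈ A ∧ a ≠ 1} => K ⊓ Subgroup.centralizer ({a.1} : Set G))
          ⟨b, hb, hb1⟩) (iSup_le fun a => inf_le_left)
  rw [hKW]
  exact hW.1

omit [Finite G] hp in
theorem sup_elementary {E F : Subgroup G} (hE : Cfsg.IsElementaryAbelian p E)
    (hF : Cfsg.IsElementaryAbelian p F) (h : ∀ x ∈ E, ∀ y ∈ F, x * y = y * x) :
    Cfsg.IsElementaryAbelian p (E ⊔ F : Subgroup G) := by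
  have hEF : F ≤ Subgroup.normalizer (E : Set G) :=
    (show F ≤ Subgroup.centralizer (E : Set G) from fun y hy x hx => h x hx y hy).trans
      (SignalizerCoprime.centralizer_le_normalizer E)
  have hmem : ∀ z ∈ E ⊔ F, ∃ x ∈ E, ∃ y ∈ F, z = x * y := fun z hz => by
    have hz' : z ∈ (↑(E ⊔ F) : Set G) := hz
    rw [Subgroup.coe_mul_of_right_le_normalizer_left _ _ hEF] at hz'
    obtain ⟨x, hx, y, hy, rfl⟩ := Set.mem_mul.1 hz'
    exact ⟨x, hx, y, hy, rfl⟩
  refine ⟨⟨⟨fun a b => Subtype.ext ?_⟩⟩, fun z hz => ?_⟩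
  · obtain ⟨x, hx, y, hy, ha⟩ := hmem _ a.2
    obtain ⟨x', hx', y', hy', hb⟩ := hmem _ b.2
    simp only [Subgroup.coe_mul]
    rw [ha, hb]
    exact ((Commute.mul_right (comm_of_mem hE hx hx') (h x hx y' hy')).mul_left
      (Commute.mul_right (h x' hx' y hy).symm (comm_of_mem hF hy hy'))).eq
  · obtain ⟨x, hx, y, hy, rfl⟩ := hmem z hz
    rw [(show Commute x y from h x hx y hy).mul_pow, hE.2 x hx, hF.2 y hy, one_mul]

/-- An elementary abelian group whose centraliser has rank at least three lies in one of order at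
least `p ^ 3`. -/
theorem exists_ge_cube {E : Subgroup G} (hE : Cfsg.IsElementaryAbelian p E)
    (hrk : ¬ Cfsg.PRankLE p 2 ↥(Subgroup.centralizer (E : Set G))) :
    ∃ B, E ≤ B ∧ Cfsg.IsElementaryAbelian p B ∧ p ^ 3 ≤ Nat.card B := by
  simp only [Cfsg.PRankLE, not_forall, not_le] at hrk
  obtain ⟨F, hFc, hFp, hF⟩ := hrk
  set F' := F.map (Subgroup.centralizer (E : Set G)).subtype with hF'
  have hF'el : Cfsg.IsElementaryAbelian p F' := by
    refine ⟨⟨⟨fun a b => Subtype.ext ?_⟩⟩, ?_⟩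
    · obtain ⟨x, hx, hxa⟩ := a.2
      obtain ⟨y, hy, hyb⟩ := b.2
      simp only [Subgroup.coe_mul]
      rw [← hxa, ← hyb, ← map_mul, ← map_mul]
      exact congrArg _ (congrArg Subtype.val (hFc.is_comm.comm ⟨x, hx⟩ ⟨y, hy⟩))
    · rintro _ ⟨x, hx, rfl⟩
      rw [← map_pow, hFp x hx, map_one]
  refine ⟨E ⊔ F', le_sup_left, sup_elementary hE hF'el ?_, le_trans ?_
    (Subgroup.card_le_of_le le_sup_right)⟩
  · rintro x hx _ ⟨y, -, rfl⟩
    exact y.2 x hx
  · rw [hF', Subgroup.card_map_of_injective (Subgroup.subtype_injective _)]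
    obtain ⟨k, hk⟩ := IsPGroup.iff_card.1 (isPGroup_of_elementaryAbelian
      (show Cfsg.IsElementaryAbelian p F from ⟨hFc, hFp⟩))
    rw [hk] at hF ⊢
    exact Nat.pow_le_pow_right hp.out.pos ((Nat.pow_lt_pow_iff_right hp.out.one_lt).1 hF)

/-- An equivariant balanced solvable functor on a connected rank-two graph is trivial when
`O_{p'}(G) = 1`. -/
theorem equivariant_trivial (hC : CompleteAt.{u} p) (hO : Cfsg.pPrimeCore p G = ⊥)
    (hconn : Cfsg.IsRankGraphConnected p 2 G) (θ : G → Subgroup G)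
    (hθ : ∀ a : G, (orderOf a = p ∧ ¬ Cfsg.PRankLE p 2 ↥(Subgroup.centralizer ({a} : Set G))) →
      θ a ≤ Subgroup.centralizer ({a} : Set G) ∧ ¬ p ∣ Nat.card ↥(θ a) ∧
        Group.IsSolvable ↥(θ a))
    (heq : ∀ a g : G,
      (orderOf a = p ∧ ¬ Cfsg.PRankLE p 2 ↥(Subgroup.centralizer ({a} : Set G))) →
        θ (g * a * g⁻¹) = (θ a).map (MulAut.conj g).toMonoidHom)
    (hbal : ∀ a b : G,
      (orderOf a = p ∧ ¬ Cfsg.PRankLE p 2 ↥(Subgroup.centralizer ({a} : Set G))) →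
      (orderOf b = p ∧ ¬ Cfsg.PRankLE p 2 ↥(Subgroup.centralizer ({b} : Set G))) →
        a * b = b * a → θ a ⊓ Subgroup.centralizer {b} ≤ θ b)
    (a : G) (ha : orderOf a = p ∧ ¬ Cfsg.PRankLE p 2 ↥(Subgroup.centralizer ({a} : Set G))) :
    θ a = ⊥ := by
  let good : G → Prop := fun b =>
    orderOf b = p ∧ ¬ Cfsg.PRankLE p 2 ↥(Subgroup.centralizer ({b} : Set G))
  let W : Subgroup G → Subgroup G := fun E => ⨆ e : {e : G // e ∈ E ∧ e ≠ 1}, θ e.1
  have hord : ∀ {B : Subgroup G}, Cfsg.IsElementaryAbelian p B → ∀ b ∈ B, b ≠ 1 → orderOf b = p :=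
    fun hB b hb hb1 => orderOf_eq_prime (hB.2 b hb) hb1
  have hgood : ∀ {B : Subgroup G}, Cfsg.IsElementaryAbelian p B → p ^ 3 ≤ Nat.card B →
      ∀ b ∈ B, b ≠ 1 → good b := by
    intro B hB hB3 b hb hb1
    refine ⟨hord hB b hb hb1, fun h => ?_⟩
    have hle : B ≤ Subgroup.centralizer ({b} : Set G) := fun x hx =>
      mem_centralizer_singleton.2 (comm_of_mem hB hx hb)
    have := h (B.subgroupOf _) (⟨⟨fun x y => Subtype.ext (Subtype.ext
        (comm_of_mem hB (Subgroup.mem_subgroupOf.1 x.2) (Subgroup.mem_subgroupOf.1 y.2)))⟩⟩)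
      fun x hx => Subtype.ext (by simpa using hB.2 x (Subgroup.mem_subgroupOf.1 hx))
    rw [Nat.card_congr (Subgroup.subgroupOfEquivOfLe hle).toEquiv] at this
    exact absurd ((Nat.pow_le_pow_iff_right hp.out.one_lt).1 (hB3.trans this)) (by norm_num)
  have hfun : ∀ {B : Subgroup G}, Cfsg.IsElementaryAbelian p B → p ^ 3 ≤ Nat.card B →
      Cfsg.IsSolvableSignalizerFunctor p B θ := by
    intro B hB hB3
    refine ⟨⟨fun b hb hb1 => (hθ b (hgood hB hB3 b hb hb1)).1,
      fun b hb hb1 => (hθ b (hgood hB hB3 b hb hb1)).2.1, fun b hb hb1 c hc x hx => ?_,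
      fun b hb hb1 c hc hc1 => hbal b c (hgood hB hB3 b hb hb1) (hgood hB hB3 c hc hc1)
        (comm_of_mem hB hb hc)⟩, fun b hb hb1 => (hθ b (hgood hB hB3 b hb hb1)).2.2⟩
    have h := heq b c (hgood hB hB3 b hb hb1)
    rw [comm_of_mem hB hc hb, mul_inv_cancel_right] at h
    rw [h]
    exact ⟨x, hx, rfl⟩
  -- a vertex inside a large group gives the same closure
  have hsub : ∀ {B E : Subgroup G}, Cfsg.IsElementaryAbelian p B → p ^ 3 ≤ Nat.card B →
      E ≤ B → p ^ 2 ≤ Nat.card E → W E = W B := by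
    intro B E hB hB3 hEB hE2
    obtain ⟨hfB, hsol⟩ := hfun hB hB3
    refine le_antisymm (iSup_le fun e =>
      le_iSup (fun c : {c : G // c ∈ B ∧ c ≠ 1} => θ c.1) ⟨e.1, hEB e.2.1, e.2.2⟩)
      (iSup_le fun c => ?_)
    exact le_of_centralizers_le (elementaryAbelian_of_le hB hEB) hE2
      (hEB.trans (le_normalizer_of_forall (hfB.2.2.1 c.1 c.2.1 c.2.2))) (hfB.2.1 c.1 c.2.1 c.2.2)
      fun e he he1 => (hfB.2.2.2 c.1 c.2.1 c.2.2 e (hEB he) he1).trans
        (le_iSup (fun e : {e : G // e ∈ E ∧ e ≠ 1} => θ e.1) ⟨e, he, he1⟩)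
  have hedge : ∀ E F : Subgroup G, Cfsg.IsRankGraphVertex p 2 E → Cfsg.IsRankGraphVertex p 2 F →
      (∀ x ∈ E, ∀ y ∈ F, x * y = y * x) → W E = W F := by
    intro E F hE hF hEF
    have hel := sup_elementary hE.1 hF.1 hEF
    obtain ⟨k, hk⟩ := IsPGroup.iff_card.1 (isPGroup_of_elementaryAbelian hel)
    by_cases h3 : 3 ≤ k
    · have hcard : p ^ 3 ≤ Nat.card ↥(E ⊔ F) := hk ▸ Nat.pow_le_pow_right hp.out.pos h3
      rw [hsub hel hcard le_sup_left hE.2.1, hsub hel hcard le_sup_right hF.2.1]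
    · have hle : Nat.card ↥(E ⊔ F) ≤ p ^ 2 :=
        hk ▸ Nat.pow_le_pow_right hp.out.pos (by omega)
      rw [Subgroup.eq_of_le_of_card_ge (le_sup_left : E ≤ E ⊔ F) (hle.trans hE.2.1),
        ← Subgroup.eq_of_le_of_card_ge (le_sup_right : F ≤ E ⊔ F) (hle.trans hF.2.1)]
  obtain ⟨haord, harank⟩ := ha
  have ha1 : a ≠ 1 := fun h => hp.out.ne_one (by rw [← haord, h, orderOf_one])
  have hcz : Subgroup.centralizer (Subgroup.zpowers a : Set G) =
      Subgroup.centralizer ({a} : Set G) := by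
    refine le_antisymm (Subgroup.centralizer_le
      (Set.singleton_subset_iff.2 (Subgroup.mem_zpowers a))) fun x hx => ?_
    rintro _ ⟨i, rfl⟩
    exact ((show Commute x a from mem_centralizer_singleton.1 hx).zpow_right i).eq.symm
  obtain ⟨A₀, haA₀, hA₀, hA₀3⟩ := exists_ge_cube (E := Subgroup.zpowers a) (p := p)
    ⟨⟨⟨fun x y => Subtype.ext (by
        obtain ⟨i, hi⟩ := x.2
        obtain ⟨j, hj⟩ := y.2
        simp only [Subgroup.coe_mul]
        rw [← hi, ← hj]
        exact ((Commute.refl a).zpow_zpow i j).eq)⟩⟩, fun x hx => by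
      obtain ⟨i, rfl⟩ := hx
      rw [← zpow_natCast, ← zpow_mul, mul_comm, zpow_mul, zpow_natCast, ← haord,
        pow_orderOf_eq_one, one_zpow]⟩
    (fun h => harank fun B hBc hBp => by
      have := h ((B.map (Subgroup.centralizer ({a} : Set G)).subtype).subgroupOf _) ?_ ?_
      · rwa [Nat.card_congr (Subgroup.subgroupOfEquivOfLe ?_).toEquiv,
          Subgroup.card_map_of_injective (Subgroup.subtype_injective _)] at this
        exact (Subgroup.map_subtype_le B).trans hcz.ge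
      · refine ⟨⟨fun x y => Subtype.ext (Subtype.ext ?_)⟩⟩
        obtain ⟨u, hu, hxu⟩ := Subgroup.mem_subgroupOf.1 x.2
        obtain ⟨v, hv, hyv⟩ := Subgroup.mem_subgroupOf.1 y.2
        simp only [Subgroup.coe_mul]
        rw [← hxu, ← hyv, ← map_mul, ← map_mul]
        exact congrArg _ (congrArg Subtype.val (hBc.is_comm.comm ⟨u, hu⟩ ⟨v, hv⟩))
      · intro x hx
        obtain ⟨u, hu, hxu⟩ := Subgroup.mem_subgroupOf.1 hx
        refine Subtype.ext ?_
        rw [SubmonoidClass.coe_pow, ← hxu, ← map_pow, hBp u hu]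
        simp)
  have hvert : ∀ {B : Subgroup G}, Cfsg.IsElementaryAbelian p B → p ^ 3 ≤ Nat.card B →
      Cfsg.IsRankGraphVertex p 2 B := by
    intro B hB hB3
    have hBC : B ≤ Subgroup.centralizer (B : Set G) := fun x hx y hy =>
      (comm_of_mem hB hy hx)
    refine ⟨hB, le_trans (Nat.pow_le_pow_right hp.out.pos (by norm_num)) hB3, fun h => ?_⟩
    have := h (B.subgroupOf _) (⟨⟨fun x y => Subtype.ext (Subtype.ext
        (comm_of_mem hB (Subgroup.mem_subgroupOf.1 x.2) (Subgroup.mem_subgroupOf.1 y.2)))⟩⟩)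
      fun x hx => Subtype.ext (by simpa using hB.2 x (Subgroup.mem_subgroupOf.1 hx))
    rw [Nat.card_congr (Subgroup.subgroupOfEquivOfLe hBC).toEquiv] at this
    exact absurd ((Nat.pow_le_pow_iff_right hp.out.one_lt).1 (hB3.trans this)) (by norm_num)
  obtain ⟨hWmem, -⟩ := closure_mem hC hA₀ hA₀3 (hfun hA₀ hA₀3)
  have hnorm : ∀ g : G, ∀ x ∈ W A₀, g * x * g⁻¹ ∈ W A₀ := by
    intro g x hx
    set A₁ := A₀.map (MulAut.conj g).toMonoidHom with hA₁
    have hA₁e : Cfsg.IsElementaryAbelian p A₁ := by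
      refine ⟨⟨⟨fun s t => Subtype.ext ?_⟩⟩, ?_⟩
      · obtain ⟨u, hu, hsu⟩ := s.2
        obtain ⟨v, hv, htv⟩ := t.2
        simp only [Subgroup.coe_mul]
        rw [← hsu, ← htv, ← map_mul, ← map_mul, comm_of_mem hA₀ hu hv]
      · rintro _ ⟨u, hu, rfl⟩
        rw [← map_pow, hA₀.2 u hu, map_one]
    have hA₁3 : p ^ 3 ≤ Nat.card A₁ := by
      rwa [hA₁, Subgroup.card_map_of_injective (MulAut.conj g).injective]
    have hEq : W A₁ = W A₀ := by
      have key : ∀ {E : Subgroup G}, Relation.ReflTransGen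
          (fun A B : Subgroup G => Cfsg.IsRankGraphVertex p 2 A ∧ Cfsg.IsRankGraphVertex p 2 B ∧
            ∀ a ∈ A, ∀ b ∈ B, a * b = b * a) A₀ E → W E = W A₀ := by
        intro E hE
        induction hE with
        | refl => rfl
        | tail _ h ih => rw [← ih, hedge _ _ h.1 h.2.1 h.2.2]
      exact key (hconn A₀ A₁ (hvert hA₀ hA₀3) (hvert hA₁e hA₁3))
    rw [← hEq]
    have hle : W A₀ ≤ (W A₁).comap (MulAut.conj g).toMonoidHom := by
      refine iSup_le fun e y hy => Subgroup.mem_comap.2 ?_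
      have h := heq e.1 g (hgood hA₀ hA₀3 e.1 e.2.1 e.2.2)
      refine Subgroup.mem_iSup_of_mem (ι := {c : G // c ∈ A₁ ∧ c ≠ 1})
        ⟨g * e.1 * g⁻¹, ⟨e.1, e.2.1, rfl⟩, fun h1 => e.2.2 (conj_eq_one_iff.1 h1)⟩ ?_
      rw [h]
      exact ⟨y, hy, rfl⟩
    exact hle hx
  haveI : (W A₀).Normal := ⟨fun x hx g => hnorm g x hx⟩
  have hbot : W A₀ ≤ Cfsg.pPrimeCore p G :=
    HallCore.le_pPrimeCore ((Nat.Prime.coprime_iff_not_dvd hp.out).2 hWmem.2.1).symm
  rw [hO, le_bot_iff] at hbot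
  exact le_bot_iff.1 (hbot ▸ le_iSup (fun c : {c : G // c ∈ A₀ ∧ c ≠ 1} => θ c.1)
    ⟨a, haA₀ (Subgroup.mem_zpowers a), ha1⟩)

omit hp in
theorem centralizerPPrimeCore_conj [Fact p.Prime] (a g : G) :
    Cfsg.centralizerPPrimeCore p (g * a * g⁻¹) =
      (Cfsg.centralizerPPrimeCore p a).map (MulAut.conj g).toMonoidHom := by
  have key : ∀ a g : G, (Cfsg.centralizerPPrimeCore p a).map (MulAut.conj g).toMonoidHom ≤
      Cfsg.centralizerPPrimeCore p (g * a * g⁻¹) := by
    intro a g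
    refine SignalizerBasic.le_centralizerPPrimeCore ?_ ?_ ?_
    · rintro _ ⟨x, hx, rfl⟩
      refine mem_centralizer_singleton.2 ?_
      simp only [MulEquiv.coe_toMonoidHom, MulAut.conj_apply]
      rw [show g * x * g⁻¹ * (g * a * g⁻¹) = g * (x * a) * g⁻¹ by group,
        mem_centralizer_singleton.1 (SignalizerBasic.centralizerPPrimeCore_le p a hx)]
      group
    · refine le_normalizer_of_forall fun c hc _ hy => ?_
      obtain ⟨x, hx, rfl⟩ := hy
      have hc' : g⁻¹ * c * g ∈ Subgroup.centralizer ({a} : Set G) :=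
        mem_centralizer_singleton.2 (by
          rw [show g⁻¹ * c * g * a = g⁻¹ * (c * (g * a * g⁻¹)) * g by group,
            mem_centralizer_singleton.1 hc]
          group)
      refine ⟨_, mem_normalizer_conj
        (SignalizerBasic.centralizer_le_normalizer_centralizerPPrimeCore p a hc') hx, ?_⟩
      simp only [MulEquiv.coe_toMonoidHom, MulAut.conj_apply]
      group
    · rw [Subgroup.card_map_of_injective (MulAut.conj g).injective]
      exact SignalizerBasic.not_dvd_card_centralizerPPrimeCore p a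
  refine le_antisymm (fun x hx => ?_) (key a g)
  have h1 := key (g * a * g⁻¹) g⁻¹ ⟨x, hx, rfl⟩
  refine ⟨g⁻¹ * x * g, by simpa [mul_assoc] using h1, ?_⟩
  simp only [MulEquiv.coe_toMonoidHom, MulAut.conj_apply]
  group

/-- Trivial `p`-layers force trivial cores. -/
theorem cores_trivial (hC : CompleteAt.{u} p) (hO : Cfsg.pPrimeCore p G = ⊥)
    (hconn : Cfsg.IsRankGraphConnected p 2 G)
    (hL : ∀ a : G, (orderOf a = p ∧ ¬ Cfsg.PRankLE p 2 ↥(Subgroup.centralizer ({a} : Set G))) →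
      Cfsg.pLayer p ↥(Subgroup.centralizer ({a} : Set G)) = ⊥ ∧
        Group.IsSolvable ↥(Cfsg.centralizerPPrimeCore p a))
    (a : G) (ha : orderOf a = p ∧ ¬ Cfsg.PRankLE p 2 ↥(Subgroup.centralizer ({a} : Set G))) :
    Cfsg.generalizedFittingSubgroup ↥(Subgroup.centralizer ({a} : Set G)) =
      Cfsg.pCore p ↥(Subgroup.centralizer ({a} : Set G)) := by
  have h := equivariant_trivial hC hO hconn (fun a => Cfsg.centralizerPPrimeCore p a)
    (fun b hb => ⟨SignalizerBasic.centralizerPPrimeCore_le p b,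
      SignalizerBasic.not_dvd_card_centralizerPPrimeCore p b, (hL b hb).2⟩)
    (fun b g _ => centralizerPPrimeCore_conj b g)
    (fun b c hb hc hbc => SFTBalance.balance_of_pLayer
      (isPGroup_zpowers (hb.1 ▸ pow_orderOf_eq_one b)) hbc (hL c hc).1) a ha
  have hcore : Cfsg.pPrimeCore p ↥(Subgroup.centralizer ({a} : Set G)) = ⊥ :=
    (Subgroup.map_eq_bot_iff_of_injective _ (Subgroup.subtype_injective _)).1 h
  have hlayer : Cfsg.layer ↥(Subgroup.centralizer ({a} : Set G)) = ⊥ :=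
    ComponentsP.pLayer_eq_layer_of_bot hcore ▸ (hL a ha).1
  rw [Cfsg.generalizedFittingSubgroup, hlayer, bot_sup_eq]
  exact ComponentsP.fitting_eq_pCore_of_bot hcore

end Cfsg.Agent.SFTApps
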