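import Mathlib
import Cfsg.Agent.Lib.SFTOdd56Ctx
import Cfsg.Agent.Lib.SFTLines

/-!
# Maximal members of a minimal incomplete functor

Lemmas valid for every prime: uniqueness of a maximal member with two components, elements `a`
with `θ a` maximal, and the criterion from a line of `A`.
-/

set_option autoImplicit false

namespace Cfsg.Agent.SFTOdd56Static

open Cfsg.Agent.SignalizerCoprime Cfsg.Agent.HallCore Cfsg.Agent.SFTGroup Cfsg.Agent.SFTSigma
  Cfsg.Agent.SFTOdd56Ctx
open Cfsg.Agent.SignalizerTransitivity (mem_family_of_le IsMaxMember exists_isMaxMember_ge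
  exists_isMaxMember_inf_centralizer)

universe u

variable {G : Type u} [Group G] [Finite G] {p : ℕ} {A : Subgroup G} {θ : G → Subgroup G}

theorem exists_split {q : ℕ} (hq : q.Prime) (g : G) :
    ∃ a u : G, a ∈ Subgroup.zpowers g ∧ u ∈ Subgroup.zpowers g ∧ g = a * u ∧
      (∃ k, orderOf a = q ^ k) ∧ ¬ q ∣ orderOf u := by
  obtain ⟨k, m, hm, hg⟩ :=
    Nat.exists_eq_pow_mul_and_not_dvd (orderOf_pos g).ne' q hq.ne_one
  have hcop : (q ^ k).Coprime m :=
    Nat.Coprime.pow_left k ((Nat.Prime.coprime_iff_not_dvd hq).2 hm)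
  have hbez : ((q ^ k : ℕ) : ℤ) * Nat.gcdA (q ^ k) m + (m : ℤ) * Nat.gcdB (q ^ k) m = 1 := by
    rw [← Nat.gcd_eq_gcd_ab, hcop.gcd_eq_one]; rfl
  have hpow : g ^ (((q ^ k : ℕ) : ℤ) * (m : ℤ)) = 1 := by
    rw [← Nat.cast_mul, zpow_natCast, ← hg, pow_orderOf_eq_one]
  refine ⟨g ^ ((m : ℤ) * Nat.gcdB (q ^ k) m), g ^ (((q ^ k : ℕ) : ℤ) * Nat.gcdA (q ^ k) m),
    ⟨_, rfl⟩, ⟨_, rfl⟩, ?_, ?_, ?_⟩
  · rw [← zpow_add, add_comm, hbez, zpow_one]
  · have h1 : (g ^ ((m : ℤ) * Nat.gcdB (q ^ k) m)) ^ (q ^ k) = 1 := by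
      rw [← zpow_natCast, ← zpow_mul,
        show ((m : ℤ) * Nat.gcdB (q ^ k) m) * ((q ^ k : ℕ) : ℤ) =
          (((q ^ k : ℕ) : ℤ) * (m : ℤ)) * Nat.gcdB (q ^ k) m by ring, zpow_mul, hpow, one_zpow]
    obtain ⟨i, -, hi⟩ := (Nat.dvd_prime_pow hq).1 (orderOf_dvd_of_pow_eq_one h1)
    exact ⟨i, hi⟩
  · intro hdvd
    refine hm (hdvd.trans (orderOf_dvd_of_pow_eq_one ?_))
    rw [← zpow_natCast, ← zpow_mul,
      show (((q ^ k : ℕ) : ℤ) * Nat.gcdA (q ^ k) m) * (m : ℤ) =
        (((q ^ k : ℕ) : ℤ) * (m : ℤ)) * Nat.gcdA (q ^ k) m by ring, zpow_mul, hpow, one_zpow]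

/-- An element of the Fitting subgroup of order prime to `q` commutes with whatever commutes with
the other components. -/
theorem commute_of_fitting {M : Subgroup G} {q : ℕ} {u z : G} (huM : u ∈ M)
    (hu : (⟨u, huM⟩ : ↥M) ∈ Cfsg.fittingSubgroup ↥M) (huq : ¬ q ∣ orderOf u)
    (h : ∀ t : ℕ, t.Prime → t ≠ q → ∀ r ∈ Cfsg.pCoreOf t M, r * z = z * r) : u * z = z * u := by
  suffices hle : Subgroup.zpowers u ≤ Subgroup.centralizer ({z} : Set G) from
    mem_centralizer_singleton.1 (hle (Subgroup.mem_zpowers u))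
  refine le_of_sylow_le fun t ht => ⟨default, ?_⟩
  haveI := Fact.mk ht
  rintro _ ⟨⟨y, hy⟩, hyP, rfl⟩
  obtain ⟨k, hk⟩ := IsPGroup.iff_orderOf.1 (default : Sylow t ↥(Subgroup.zpowers u)).2 ⟨_, hyP⟩
  rw [Subgroup.orderOf_mk, Subgroup.orderOf_mk] at hk
  by_cases htq : t = q
  · subst htq
    have hdvd : orderOf y ∣ orderOf u := by
      obtain ⟨i, rfl⟩ := hy
      exact orderOf_dvd_of_pow_eq_one (by
        change (u ^ i) ^ orderOf u = 1
        rw [← zpow_natCast, ← zpow_mul, mul_comm, zpow_mul, zpow_natCast, pow_orderOf_eq_one,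
          one_zpow])
    cases k with
    | zero =>
      rw [pow_zero, orderOf_eq_one_iff] at hk
      subst hk
      exact one_mem _
    | succ k => exact absurd (((dvd_pow_self t k.succ_ne_zero).trans hk.symm.dvd).trans hdvd) huq
  · have hyM : y ∈ M := (Subgroup.zpowers_le.2 huM) hy
    have hyF : (⟨y, hyM⟩ : ↥M) ∈ Cfsg.fittingSubgroup ↥M := by
      obtain ⟨i, rfl⟩ := hy
      exact zpow_mem hu i
    exact mem_centralizer_singleton.2 (h t ht htq y
      (mem_oq_of_mem_fitting t hyF ⟨k, by rw [Subgroup.orderOf_mk, hk]⟩))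

theorem exists_le_card_sq {p : ℕ} [Fact p.Prime] {A S : Subgroup G} (hA : IsPGroup p A)
    (hcard : Nat.card A = p ^ 3) (hSA : S ≤ A) (hne : S ≠ A) :
    ∃ B, B ≤ A ∧ S ≤ B ∧ Nat.card B = p ^ 2 := by
  obtain ⟨i, hi⟩ := IsPGroup.iff_card.1 (hA.to_le hSA)
  have hlt : Nat.card S < Nat.card A :=
    lt_of_le_of_ne (Subgroup.card_le_of_le hSA) fun h => hne (Subgroup.eq_of_le_of_card_ge hSA h.ge)
  rw [hi, hcard, Nat.pow_lt_pow_iff_right (Fact.out : p.Prime).one_lt] at hlt
  have hS' : Nat.card ↥(S.subgroupOf A) = p ^ i := by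
    rw [Nat.card_congr (Subgroup.subgroupOfEquivOfLe hSA).toEquiv, hi]
  obtain ⟨K, hK, hle⟩ := Sylow.exists_subgroup_card_pow_prime_le (G := ↥A) p
    (m := 2) (by rw [hcard]; exact pow_dvd_pow p (by norm_num)) _ hS' (by omega)
  refine ⟨K.map A.subtype, Subgroup.map_subtype_le K, fun s hs => ?_, ?_⟩
  · exact ⟨⟨s, hSA hs⟩, hle (Subgroup.mem_subgroupOf.2 hs), rfl⟩
  · rw [Subgroup.card_map_of_injective A.subtype_injective, hK]

theorem sq_le_card_sup {p : ℕ} [Fact p.Prime] {A : Subgroup G}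
    (hA : Cfsg.IsElementaryAbelian p A) {a b : G} (ha : a ∈ A) (ha1 : a ≠ 1) (hb : b ∈ A)
    (hba : b ∉ Subgroup.zpowers a) :
    p ^ 2 ≤ Nat.card ↥(Subgroup.zpowers a ⊔ Subgroup.zpowers b) := by
  set E := Subgroup.zpowers a ⊔ Subgroup.zpowers b
  have hEA : E ≤ A := sup_le (Subgroup.zpowers_le.2 ha) (Subgroup.zpowers_le.2 hb)
  obtain ⟨k, hk⟩ := IsPGroup.iff_card.1 ((isPGroup_of_elementaryAbelian hA).to_le hEA)
  have hlt : Nat.card (Subgroup.zpowers a) < Nat.card E := by
    refine lt_of_le_of_ne (Subgroup.card_le_of_le le_sup_left) fun h => hba ?_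
    rw [Subgroup.eq_of_le_of_card_ge (le_sup_left : Subgroup.zpowers a ≤ E) h.ge]
    exact Subgroup.mem_sup_right (Subgroup.mem_zpowers b)
  rw [Nat.card_zpowers, orderOf_eq_prime (hA.2 a ha) ha1, hk] at hlt
  rw [hk]
  refine Nat.pow_le_pow_right (Fact.out : p.Prime).pos ?_
  by_contra h
  have : p ^ k ≤ p ^ 1 := Nat.pow_le_pow_right (Fact.out : p.Prime).pos (by omega)
  rw [pow_one] at this
  omega

theorem mem_zpowers_of_zpow_ne_one {p : ℕ} [Fact p.Prime] {z e : G} (hz : z ^ p = 1)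
    (he : e ∈ Subgroup.zpowers z) (he1 : e ≠ 1) : z ∈ Subgroup.zpowers e := by
  obtain ⟨i, rfl⟩ := he
  have hz1 : z ≠ 1 := fun h => he1 (by simp [h])
  have hle : Subgroup.zpowers (z ^ i) ≤ Subgroup.zpowers z :=
    Subgroup.zpowers_le.2 (zpow_mem (Subgroup.mem_zpowers z) i)
  have hord : orderOf (z ^ i) = p := orderOf_eq_prime
    (by rw [← zpow_natCast, ← zpow_mul, mul_comm, zpow_mul, zpow_natCast, hz, one_zpow]) he1
  rw [Subgroup.eq_of_le_of_card_ge hle (by rw [Nat.card_zpowers, Nat.card_zpowers, hord,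
    orderOf_eq_prime hz hz1])]
  exact Subgroup.mem_zpowers z

variable (hM : Minimal p A θ)
include hM

theorem isPGroup_member_ne {v : ℕ} [Fact v.Prime] {X : Subgroup G}
    (hX : X ∈ Cfsg.signalizerFamily p A θ) (hXv : IsPGroup v X) (h1 : X ≠ ⊥) : v ≠ p := by
  rintro rfl
  obtain ⟨k, hk⟩ := IsPGroup.iff_card.1 hXv
  cases k with
  | zero => exact h1 (Subgroup.card_eq_one.1 (by simpa using hk))
  | succ k => exact hX.2.1 (hk ▸ dvd_pow_self v k.succ_ne_zero)

/-- The largest invariant `v`-member exists. -/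
theorem exists_W1 (v : ℕ) [hv : Fact v.Prime] : ∃ W, IsW p A θ {v} W := by
  haveI := Fact.mk hM.prime
  refine hM.exists_W {v} ?_
  by_contra h
  push Not at h
  apply hM.incomplete
  have hval : ∀ a ∈ A, a ≠ 1 → IsPGroup v ↥(θ a) := fun a ha ha1 =>
    isPGroup_of_piNat (h a ha ha1)
  by_cases hvp : v = p
  · refine ⟨⊥, hM.toSetup.bot_mem, fun a ha ha1 => le_of_eq ?_⟩
    by_contra h1
    exact isPGroup_member_ne hM (hM.toSetup.theta_mem ha ha1) (hval a ha ha1) h1 hvp
  · obtain ⟨Q, -, hQ⟩ := exists_isMaxMember_ge (q := v) (θ := θ) (hM.toSetup.bot_mem)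
      (IsPGroup.of_bot)
    exact ⟨Q, hQ.1, fun a ha ha1 =>
      (exists_isMaxMember_inf_centralizer hM.hA hM.hcard.ge hM.hθ hvp hval hQ ha ha1).ge.trans
        inf_le_left⟩

/-- A component acts trivially on the invariant members of other primes. -/
theorem centralizes_member {M U : Subgroup G} (hMax : IsMax p A θ M) {q s : ℕ} [Fact q.Prime]
    [Fact s.Prime] (hqs : q ≠ s) (hs : Cfsg.pCoreOf s M ≠ ⊥)
    (hU : U ∈ Cfsg.signalizerFamily p A θ) (hUs : IsPGroup s U)
    (hTU : Cfsg.signalizerInf A θ ≤ Subgroup.normalizer (U : Set G)) {x : G}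
    (hx : x ∈ Cfsg.pCoreOf q M) (hxU : x ∈ Subgroup.normalizer (U : Set G)) :
    ∀ u ∈ U, u * x = x * u := by
  have hS := hM.toSetup
  set V := Cfsg.pCoreOf s M with hV
  have hVm := hS.oq_mem hMax.1 s
  obtain ⟨W, hW, hWT, hWpi, hWmax⟩ := exists_W1 hM s
  have hVW : V ≤ W := hWmax V hVm (hMax.2.1.trans (le_normalizer_oq s M))
    (piNat_of_isPGroup (oq_isPGroup s M) rfl)
  have hUW : U ≤ W := hWmax U hU hTU (piNat_of_isPGroup hUs rfl)
  set U' := U ⊔ V with hU'
  have hU'W : U' ≤ W := sup_le hUW hVW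
  have hU's : IsPGroup s U' := (isPGroup_of_piNat hWpi).to_le hU'W
  have hU'A : A ≤ Subgroup.normalizer (U' : Set G) :=
    le_normalizer_sup (hS.le_normalizer hU) (hS.le_normalizer hVm)
  have hU'm := mem_family_of_le hW hU'W hU'A
  have hxM : x ∈ M := oq_le q M hx
  have hxU' : x ∈ Subgroup.normalizer (U' : Set G) :=
    le_normalizer_sup (Subgroup.zpowers_le.2 hxU)
      (Subgroup.zpowers_le.2 (le_normalizer_oq s M hxM)) (Subgroup.mem_zpowers x)
  have hxV : ∀ y ∈ V, y * x = x * y := fun y hy =>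
    (commute_of_normalize (inf_eq_bot_of_primes (oq_isPGroup q M) (oq_isPGroup s M) hqs) hx hy
      (le_normalizer_oq s M hxM) (le_normalizer_oq q M (oq_le s M hy))).symm
  have hord : ¬ s ∣ orderOf x := by
    obtain ⟨k, hk⟩ := IsPGroup.iff_orderOf.1 (oq_isPGroup q M) ⟨x, hx⟩
    rw [Subgroup.orderOf_mk] at hk
    rw [hk]
    intro h
    exact hqs ((Nat.prime_dvd_prime_iff_eq Fact.out Fact.out).1
      ((Fact.out : s.Prime).dvd_of_dvd_pow h)).symm
  set C := U' ⊓ Subgroup.centralizer ({x} : Set G) with hC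
  have hVC : V ≤ C := le_inf le_sup_right fun y hy => mem_centralizer_singleton.2 (hxV y hy)
  have hCC : U' ⊓ Subgroup.centralizer (C : Set G) ≤ C := by
    rintro y ⟨hyU', hyC⟩
    have hyN : y ∈ U' ⊓ Subgroup.normalizer (V : Set G) :=
      ⟨hyU', SignalizerCoprime.centralizer_le_normalizer V (Subgroup.centralizer_le hVC hyC)⟩
    have hyM : y ∈ M := hM.le_max_oq hMax hs
      (hS.member_inf hU'm ((hS.le_normalizer hVm).trans Subgroup.le_normalizer))
      inf_le_right hyN
    refine ⟨hyU', mem_centralizer_singleton.2 ?_⟩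
    have h1 : y * x * y⁻¹ * x⁻¹ ∈ Cfsg.pCoreOf q M ⊓ U' := by
      refine Subgroup.mem_inf.2
        ⟨mul_mem (mem_normalizer_conj (le_normalizer_oq q M hyM) hx) (inv_mem hx), ?_⟩
      have := mul_mem hyU' (mem_normalizer_conj hxU' (inv_mem hyU'))
      simpa [mul_assoc] using this
    rw [inf_eq_bot_of_primes (oq_isPGroup q M) hU's hqs, Subgroup.mem_bot, mul_inv_eq_one,
      mul_inv_eq_iff_eq_mul] at h1
    exact h1
  exact fun u hu => centralizes_of_self_centralizing hU's hord hxU' inf_le_left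
    (fun c hc => mem_centralizer_singleton.1 hc.2) hCC u (Subgroup.mem_sup_left hu)

/-- Maximal members with two components containing each other's components are equal. -/
theorem max_eq_of_comps {M N : Subgroup G} (hMax : IsMax p A θ M) (hNax : IsMax p A θ N)
    (hMN : ∀ t : ℕ, t.Prime → Cfsg.pCoreOf t M ≤ N)
    (hNM : ∀ t : ℕ, t.Prime → Cfsg.pCoreOf t N ≤ M) {q s : ℕ} [Fact q.Prime] [Fact s.Prime]
    (hqs : q ≠ s) (hq : Cfsg.pCoreOf q M ≠ ⊥) (hs : Cfsg.pCoreOf s M ≠ ⊥) : M = N := by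
  have hS := hM.toSetup
  -- same primes
  have hsame : ∀ (M N : Subgroup G), IsMax p A θ N →
      (∀ t : ℕ, t.Prime → Cfsg.pCoreOf t M ≤ N) → (∀ t : ℕ, t.Prime → Cfsg.pCoreOf t N ≤ M) →
      ∀ t : ℕ, t.Prime → Cfsg.pCoreOf t M ≠ ⊥ → Cfsg.pCoreOf t N ≠ ⊥ := by
    intro M N hNax hMN hNM t ht hne h0
    haveI := Fact.mk ht
    refine hne (le_bot_iff.1 (le_trans (le_oq_of_commute hNax.1.1 (hMN t ht) (oq_isPGroup t M)
      fun t' ht' => ?_) h0.le))
    haveI := Fact.mk ht'
    by_cases htt : t = t'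
    · subst htt
      rw [h0]
      exact fun x _ y hy => by rw [Subgroup.mem_bot.1 hy, one_mul, mul_one]
    · exact commute_subgroups (inf_eq_bot_of_primes (oq_isPGroup t M) (oq_isPGroup t' N) htt)
        ((hMN t ht).trans (le_normalizer_oq t' N)) ((hNM t' ht').trans (le_normalizer_oq t M))
  -- one inclusion
  have hle : ∀ (M N : Subgroup G), IsMax p A θ M → IsMax p A θ N →
      (∀ t : ℕ, t.Prime → Cfsg.pCoreOf t M ≤ N) → (∀ t : ℕ, t.Prime → Cfsg.pCoreOf t N ≤ M) →
      Cfsg.pCoreOf s N ≠ ⊥ → Cfsg.pCoreOf q N ≤ Cfsg.pCoreOf q M := by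
    intro M N hMax hNax hMN hNM hsN
    set P := Cfsg.pCoreOf q M with hP
    set V := Cfsg.pCoreOf s N with hV
    set Sq : Set G := {y | y ∈ M ∧ (∃ k, orderOf y = q ^ k) ∧
      ∀ t : ℕ, t.Prime → t ≠ q → ∀ r ∈ Cfsg.pCoreOf t M, r * y = y * r} with hSq
    set H := Subgroup.closure Sq with hH
    have hHM : H ≤ M := (Subgroup.closure_le _).2 fun y hy => hy.1
    have hnorm : Subgroup.normalizer (M : Set G) ≤ Subgroup.normalizer (H : Set G) := by
      refine le_normalizer_of_forall fun g hg x hx => ?_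
      have h : H ≤ H.comap (MulAut.conj g).toMonoidHom := by
        refine (Subgroup.closure_le _).2 fun y hy => Subgroup.subset_closure ⟨?_, ?_, ?_⟩
        · exact mem_normalizer_conj hg hy.1
        · obtain ⟨k, hk⟩ := hy.2.1
          exact ⟨k, by rw [← hk]; exact MulEquiv.orderOf_eq (MulAut.conj g) y⟩
        · intro t ht htq r hr
          have h1 : g⁻¹ * r * g ∈ Cfsg.pCoreOf t M := by
            simpa using mem_normalizer_conj (normalizer_le_normalizer_oq t M (inv_mem hg)) hr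
          have h2 := hy.2.2 t ht htq _ h1
          calc r * (g * y * g⁻¹) = g * ((g⁻¹ * r * g) * y) * g⁻¹ := by group
            _ = g * (y * (g⁻¹ * r * g)) * g⁻¹ := by rw [h2]
            _ = g * y * g⁻¹ * r := by group
      exact h hx
    have hVM : V ≤ M := hNM s Fact.out
    have hVP : ∀ v ∈ V, ∀ a ∈ P, v * a = a * v := fun v hv a ha =>
      commute_of_normalize (inf_eq_bot_of_primes (oq_isPGroup s N) (oq_isPGroup q M) hqs.symm) hv ha
        (le_normalizer_oq q M (hVM hv)) (le_normalizer_oq s N (hMN q Fact.out ha))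
    have hcent : ∀ y ∈ Sq, ∀ v ∈ V, v * y = y * v := by
      rintro y ⟨hyM, ⟨k, hyk⟩, hyR⟩ v hv
      have hvM := hVM hv
      set w := y⁻¹ * (v * y * v⁻¹) with hw
      have hwM : w ∈ M := mul_mem (inv_mem hyM) (mul_mem (mul_mem hvM hyM) (inv_mem hvM))
      have hwF : (⟨w, hwM⟩ : ↥M) ∈ Cfsg.fittingSubgroup ↥M := by
        refine mem_fitting_of_commute hMax.1.1 hwM fun t ht r hr => ?_
        by_cases htq : t = q
        · subst htq
          have h1 : y * r * y⁻¹ ∈ P := mem_normalizer_conj (le_normalizer_oq t M hyM) hr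
          have h2 : v * (y * r * y⁻¹) = y * r * y⁻¹ * v := hVP v hv _ h1
          have h3 : v⁻¹ * r = r * v⁻¹ := (hVP v⁻¹ (inv_mem hv) r hr)
          calc r * w = y⁻¹ * ((y * r * y⁻¹) * v) * y * v⁻¹ := by rw [hw]; group
            _ = y⁻¹ * v * y * (r * v⁻¹) := by rw [← h2]; group
            _ = w * r := by rw [← h3, hw]; group
        · have h1 : v⁻¹ * r * v ∈ Cfsg.pCoreOf t M := by
            simpa using mem_normalizer_conj (le_normalizer_oq t M (inv_mem hvM)) hr
          have h2 := hyR t ht htq _ h1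
          have h3 : r * y⁻¹ = y⁻¹ * r :=
            ((show Commute r y from hyR t ht htq r hr).inv_right).eq
          calc r * w = (r * y⁻¹) * (v * y * v⁻¹) := by rw [hw]; group
            _ = y⁻¹ * v * ((v⁻¹ * r * v) * y) * v⁻¹ := by rw [h3]; group
            _ = w * r := by rw [h2, hw]; group
      obtain ⟨a, u, ha, hu, hau, hak, huq⟩ := exists_split (Fact.out : q.Prime) w
      have haM : a ∈ M := Subgroup.zpowers_le.2 hwM ha
      have huM : u ∈ M := Subgroup.zpowers_le.2 hwM hu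
      have haF : (⟨a, haM⟩ : ↥M) ∈ Cfsg.fittingSubgroup ↥M := by
        obtain ⟨i, rfl⟩ := ha; exact zpow_mem hwF i
      have huF : (⟨u, huM⟩ : ↥M) ∈ Cfsg.fittingSubgroup ↥M := by
        obtain ⟨i, rfl⟩ := hu; exact zpow_mem hwF i
      have haP : a ∈ P := mem_oq_of_mem_fitting q haF (by simpa [Subgroup.orderOf_mk] using hak)
      have huy : u * y = y * u := commute_of_fitting huM huF huq hyR
      have hua : Commute u a := by
        obtain ⟨i, rfl⟩ := ha
        obtain ⟨j, rfl⟩ := hu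
        exact (Commute.refl w).zpow_zpow j i
      -- `y * a` is a `q`-element
      have hq' : IsPGroup q ↥(Subgroup.zpowers y ⊔ P) :=
        IsPGroup.to_sup_of_normal_right'
          (IsPGroup.of_card (n := k) (by rw [Nat.card_zpowers, hyk])) (oq_isPGroup q M)
          (Subgroup.zpowers_le.2 (le_normalizer_oq q M hyM))
      obtain ⟨i, hi⟩ := hq' ⟨y * a, mul_mem (Subgroup.mem_sup_left (Subgroup.mem_zpowers y))
        (Subgroup.mem_sup_right haP)⟩
      have hi' : (y * a) ^ q ^ i = 1 := by simpa using congrArg Subtype.val hi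
      have hvy : v * y * v⁻¹ = y * a * u := by
        rw [mul_assoc y a u, ← hau, hw]; group
      have hu1 : u = 1 := by
        have h1 : (v * y * v⁻¹) ^ q ^ (i + k) = 1 := by
          rw [conj_pow, pow_add, pow_mul', ← hyk, pow_orderOf_eq_one, one_pow]; group
        rw [hvy, ((show Commute y u from huy.symm).mul_left hua.symm).mul_pow, pow_add, pow_mul,
          pow_mul, hi', one_pow, one_mul, ← pow_mul, ← pow_add] at h1
        obtain ⟨j, -, hj⟩ := (Nat.dvd_prime_pow Fact.out).1 (orderOf_dvd_of_pow_eq_one h1)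
        cases j with
        | zero => exact orderOf_eq_one_iff.1 (by simpa using hj)
        | succ j => exact absurd (hj ▸ dvd_pow_self q j.succ_ne_zero) huq
      rw [hu1, mul_one] at hvy
      have hiter : ∀ j : ℕ, v ^ j * y * (v ^ j)⁻¹ = y * a ^ j := by
        intro j
        induction j with
        | zero => simp
        | succ j ih =>
          have h4 : v * a * v⁻¹ = a := by rw [hVP v hv a haP, mul_inv_cancel_right]
          calc v ^ (j + 1) * y * (v ^ (j + 1))⁻¹ = v * (v ^ j * y * (v ^ j)⁻¹) * v⁻¹ := by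
                rw [pow_succ']; group
            _ = (v * y * v⁻¹) * (v * a * v⁻¹) ^ j := by rw [ih, conj_pow]; group
            _ = y * a ^ (j + 1) := by rw [hvy, h4, pow_succ']; group
      have h0 := hiter (orderOf v)
      rw [pow_orderOf_eq_one, one_mul, inv_one, mul_one] at h0
      have ha1 : a = 1 := by
        obtain ⟨j, hj⟩ := hak
        obtain ⟨l, hl⟩ := IsPGroup.iff_orderOf.1 (oq_isPGroup s N) ⟨v, hv⟩
        rw [Subgroup.orderOf_mk] at hl
        refine orderOf_eq_one_iff.1 (Nat.eq_one_of_dvd_coprimes (a := q ^ j) (b := s ^ l) ?_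
          hj.dvd (hl ▸ orderOf_dvd_of_pow_eq_one (mul_eq_left.1 h0.symm)))
        exact Nat.Coprime.pow j l ((Nat.coprime_primes Fact.out Fact.out).2 hqs)
      rw [ha1, mul_one] at hvy
      exact mul_inv_eq_iff_eq_mul.1 hvy
    have hHN : H ≤ N := by
      refine hM.le_max_oq hNax hsN
        (mem_family_of_le hMax.1 hHM ((hS.le_normalizer hMax.1).trans hnorm))
        ((Subgroup.closure_le _).2 fun y hy => ?_)
      exact SignalizerCoprime.centralizer_le_normalizer V
        (show y ∈ Subgroup.centralizer (V : Set G) from fun v hv => hcent y hy v hv)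
    have hP'H : Cfsg.pCoreOf q N ≤ H := fun x hx => Subgroup.subset_closure ⟨hNM q Fact.out hx, by
        obtain ⟨k, hk⟩ := IsPGroup.iff_orderOf.1 (oq_isPGroup q N) ⟨x, hx⟩
        exact ⟨k, by simpa [Subgroup.orderOf_mk] using hk⟩, fun t ht htq r hr => by
        haveI := Fact.mk ht
        exact commute_of_normalize (inf_eq_bot_of_primes (oq_isPGroup t M) (oq_isPGroup q N) htq) hr
          hx (le_normalizer_oq q N (hMN t ht hr)) (le_normalizer_oq t M (hNM q Fact.out hx))⟩
    exact le_oq_of_normal_chain hP'H hHM (Subgroup.le_normalizer.trans hnorm)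
      (hHN.trans (le_normalizer_oq q N)) (oq_isPGroup q N)
  have hsN := hsame M N hNax hMN hNM s Fact.out hs
  have heq : Cfsg.pCoreOf q N = Cfsg.pCoreOf q M :=
    le_antisymm (hle M N hMax hNax hMN hNM hsN) (hle N M hNax hMax hNM hMN hs)
  exact hNax.2.2 M hMax.1 (hM.le_max_oq hMax hq hNax.1 (heq ▸ le_normalizer_oq q N))

/-! ### Elements with maximal value -/

/-- If `θ a` is not maximal, `a` moves some component of a maximal member above it. -/
theorem exists_moved {M : Subgroup G} (hMax : IsMax p A θ M) {a : G} (ha : a ∈ A) (ha1 : a ≠ 1)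
    (hle : θ a ≤ M) (hne : ¬ IsMax p A θ (θ a)) :
    ∃ q : ℕ, q.Prime ∧ ¬ Cfsg.pCoreOf q M ≤ Subgroup.centralizer ({a} : Set G) := by
  haveI := Fact.mk hM.prime
  by_contra h
  push Not at h
  have hMC : M ≤ Subgroup.centralizer ({a} : Set G) :=
    centralizes_of_comps hMax.1.1 hMax.1.2.1 (hM.hA.2 a ha)
      (hM.toSetup.le_normalizer hMax.1 ha)
      fun q hq y hy => mem_centralizer_singleton.1 (h q hq hy)
  have : θ a = M := le_antisymm hle fun x hx => hMax.1.2.2.2 a ha ha1 ⟨hx, hMC hx⟩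
  exact hne (this ▸ hMax)

/-- If `θ a` is maximal and has a `v`-component, it contains all invariant `v`-members. -/
theorem le_theta_of_comp {a : G} (ha : a ∈ A) (ha1 : a ≠ 1) (hst : IsMax p A θ (θ a)) {v : ℕ}
    [Fact v.Prime] (hv : Cfsg.pCoreOf v (θ a) ≠ ⊥) {X : Subgroup G}
    (hX : X ∈ Cfsg.signalizerFamily p A θ)
    (hXT : Cfsg.signalizerInf A θ ≤ Subgroup.normalizer (X : Set G)) (hXv : IsPGroup v X) :
    X ≤ θ a := by
  haveI := Fact.mk hM.prime
  have hS := hM.toSetup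
  obtain ⟨W, hW, hWT, hWpi, hWmax⟩ := exists_W1 hM v
  have hWv := isPGroup_of_piNat hWpi
  refine le_trans (hWmax X hX hXT (piNat_of_isPGroup hXv rfl)) ?_
  set P := Cfsg.pCoreOf v (θ a) with hP
  have hPW : P ≤ W := hWmax P (hS.oq_mem hst.1 v)
    (hst.2.1.trans (le_normalizer_oq v _)) (piNat_of_isPGroup (oq_isPGroup v _) rfl)
  have hPC : P ≤ W ⊓ Subgroup.centralizer ({a} : Set G) :=
    le_inf hPW ((oq_le v _).trans (hS.theta_le ha ha1))
  have hord : ¬ v ∣ orderOf a := by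
    rw [orderOf_eq_prime (hM.hA.2 a ha) ha1]
    intro h
    exact isPGroup_member_ne hM (hS.oq_mem hst.1 v) (oq_isPGroup v _) hv
      ((Nat.prime_dvd_prime_iff_eq Fact.out hM.prime).1 h)
  have hc := centralizes_of_self_centralizing hWv hord (hS.le_normalizer hW ha) inf_le_left
    (fun c hc => mem_centralizer_singleton.1 hc.2) ?_
  · exact fun w hw => hW.2.2.2 a ha ha1 ⟨hw, mem_centralizer_singleton.2 (hc w hw)⟩
  · rintro y ⟨hyW, hyC⟩
    refine ⟨hyW, hS.theta_le ha ha1 (hM.le_max_oq hst hv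
      (hS.member_inf hW ((hS.le_normalizer (hS.oq_mem hst.1 v)).trans Subgroup.le_normalizer))
      inf_le_right ⟨hyW, SignalizerCoprime.centralizer_le_normalizer P
        (Subgroup.centralizer_le hPC hyC)⟩)⟩

/-- Independent elements with maximal values have distinct values. -/
theorem static_distinct {a b : G} (ha : a ∈ A) (ha1 : a ≠ 1) (hb : b ∈ A) (hb1 : b ≠ 1)
    (hba : b ∉ Subgroup.zpowers a) (hst : IsMax p A θ (θ a)) (heq : θ b = θ a) : False := by
  haveI := Fact.mk hM.prime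
  have hS := hM.toSetup
  apply hM.incomplete
  have hEA : Subgroup.zpowers a ⊔ Subgroup.zpowers b ≤ A :=
    sup_le (Subgroup.zpowers_le.2 ha) (Subgroup.zpowers_le.2 hb)
  refine ⟨θ a, hst.1, fun c hc hc1 => hS.theta_le_of hc hc1 hEA
    (sq_le_card_sup hM.hA ha ha1 hb hba) fun e he he1 => inf_le_right.trans (le_of_eq ?_)⟩
  refine hst.2.2 _ (hS.theta_mem (hEA he) he1) fun x hx => hS.balance ha ha1 (hEA he) he1
    ⟨hx, mem_centralizer_singleton.2 ?_⟩
  have hle : Subgroup.zpowers a ⊔ Subgroup.zpowers b ≤ Subgroup.centralizer ({x} : Set G) :=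
    sup_le (Subgroup.zpowers_le.2 (mem_centralizer_singleton.2
        (mem_centralizer_singleton.1 (hS.theta_le ha ha1 hx)).symm))
      (Subgroup.zpowers_le.2 (mem_centralizer_singleton.2
        (mem_centralizer_singleton.1 (hS.theta_le hb hb1 (heq ▸ hx))).symm))
  exact (mem_centralizer_singleton.1 (hle he)).symm

/-- Two maximal values with meeting components. -/
theorem static_inter {b c : G} (hb : b ∈ A) (hb1 : b ≠ 1) (hc : c ∈ A) (hc1 : c ≠ 1)
    (hbc : b ∉ Subgroup.zpowers c) (hsb : IsMax p A θ (θ b)) (hsc : IsMax p A θ (θ c)) {q : ℕ}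
    [Fact q.Prime] (hI : Cfsg.pCoreOf q (θ b) ⊓ Cfsg.pCoreOf q (θ c) ≠ ⊥) : False := by
  haveI := Fact.mk hM.prime
  have hS := hM.toSetup
  set I := Cfsg.pCoreOf q (θ b) ⊓ Cfsg.pCoreOf q (θ c) with hIdef
  have key : ∀ b c : G, b ∈ A → b ≠ 1 → c ∈ A → c ≠ 1 → IsMax p A θ (θ b) → IsMax p A θ (θ c) →
      Cfsg.pCoreOf q (θ c) ≠ ⊥ →
      θ b ≤ Subgroup.normalizer ((Cfsg.pCoreOf q (θ b) ⊓ Cfsg.pCoreOf q (θ c) : Subgroup G) : Set G) := by
    intro b c hb hb1 hc hc1 hsb hsc hne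
    set P := Cfsg.pCoreOf q (θ b) with hP
    have hPc : P ≤ θ c := le_theta_of_comp hM hc hc1 hsc hne (hS.oq_mem hsb.1 q)
      (hsb.2.1.trans (le_normalizer_oq q _)) (oq_isPGroup q _)
    intro h hh
    set K := θ b ⊓ Subgroup.centralizer (P : Set G) with hK
    have hcN := hS.le_normalizer hsb.1 hc
    have hPC : ∀ x ∈ P, x * c = c * x := fun x hx =>
      mem_centralizer_singleton.1 (hS.theta_le hc hc1 (hPc hx))
    have hmem : ∀ g ∈ Subgroup.zpowers c, g * h * g⁻¹ * h⁻¹ ∈ K := by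
      intro g hg
      have hgA := Subgroup.zpowers_le.2 hc hg
      refine Subgroup.mem_inf.2
        ⟨mul_mem (mem_normalizer_conj (hS.le_normalizer hsb.1 hgA) hh) (inv_mem hh), fun x hx => ?_⟩
      have hgP : ∀ x ∈ P, x * g = g * x := by
        intro x hx
        obtain ⟨i, rfl⟩ := hg
        exact ((show Commute x c from hPC x hx).zpow_right i).eq
      have h1 : h⁻¹ * x * h ∈ P := by
        simpa using mem_normalizer_conj (le_normalizer_oq q _ (inv_mem hh)) hx
      have h2 : g⁻¹ * (h⁻¹ * x * h) = h⁻¹ * x * h * g⁻¹ :=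
        ((show Commute (h⁻¹ * x * h) g from hgP _ h1).inv_right.eq).symm
      calc x * (g * h * g⁻¹ * h⁻¹) = (x * g) * h * g⁻¹ * h⁻¹ := by group
        _ = g * h * ((h⁻¹ * x * h) * g⁻¹) * h⁻¹ := by rw [hgP x hx]; group
        _ = g * h * g⁻¹ * h⁻¹ * x := by rw [← h2]; group
    obtain ⟨v, hv, hfix⟩ := exists_fixed_in_coset (isPGroup_zpowers (hM.hA.2 c hc))
      (fun h' => hsb.1.2.1 (h'.trans (Subgroup.card_dvd_of_le (inf_le_left : K ≤ θ b))))
      ((Subgroup.zpowers_le.2 hcN).trans (le_normalizer_inf le_rfl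
        (SignalizerCoprime.le_normalizer_centralizer
          (normalizer_le_normalizer_oq q (θ b))))) hmem
    have hvh : v * h ∈ θ b := mul_mem hv.1 hh
    have hvhc : v * h ∈ θ c := hS.balance hb hb1 hc hc1
      ⟨hvh, mem_centralizer_singleton.2 (hfix c (Subgroup.mem_zpowers c)).symm⟩
    have hvN : v ∈ Subgroup.normalizer ((P ⊓ Cfsg.pCoreOf q (θ c) : Subgroup G) : Set G) :=
      SignalizerCoprime.centralizer_le_normalizer _
        (Subgroup.centralizer_le (fun x hx => (Subgroup.mem_inf.1 hx).1) hv.2)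
    have hN := Subgroup.inf_normalizer_le_normalizer_inf
      (Subgroup.mem_inf.2 ⟨le_normalizer_oq q (θ b) hvh, le_normalizer_oq q (θ c) hvhc⟩)
    simpa using mul_mem (inv_mem hvN) hN
  have hne1 : Cfsg.pCoreOf q (θ b) ≠ ⊥ := fun h => hI (by rw [hIdef, h, bot_inf_eq])
  have hne2 : Cfsg.pCoreOf q (θ c) ≠ ⊥ := fun h => hI (by rw [hIdef, h, inf_bot_eq])
  have hIm : I ∈ Cfsg.signalizerFamily p A θ :=
    hS.member_inf (hS.oq_mem hsb.1 q) (hS.le_normalizer (hS.oq_mem hsc.1 q))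
  obtain ⟨N, hN, -, hNθ⟩ := hM.exists_norm hIm hI
  have h1 := hsb.2.2 N hN
    ((le_inf le_rfl (key b c hb hb1 hc hc1 hsb hsc hne2)).trans (hNθ b hb hb1))
  have h2 := hsc.2.2 N hN ((le_inf le_rfl (by
    rw [hIdef, inf_comm]; exact key c b hc hc1 hb hb1 hsc hsb hne1)).trans (hNθ c hc hc1))
  exact static_distinct hM hc hc1 hb hb1 hbc hsc (h1.symm.trans h2)

/-- Not every value is maximal. -/
theorem exists_not_static : ∃ a ∈ A, a ≠ 1 ∧ ¬ IsMax p A θ (θ a) := by
  haveI := Fact.mk hM.prime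
  by_contra hall
  push Not at hall
  have hS := hM.toSetup
  set T := Cfsg.signalizerInf A θ with hT
  obtain ⟨a₀, ha₀, ha₀1⟩ := hS.exists_ne_one
  have hp2 : p < p ^ 2 := by
    simpa using Nat.pow_lt_pow_right hM.prime.one_lt one_lt_two
  have houtside : ∀ a ∈ A, a ≠ 1 → ∀ B : Subgroup G, B ≤ A → p ^ 2 ≤ Nat.card B →
      ∃ b ∈ B, b ≠ 1 ∧ b ∉ Subgroup.zpowers a := by
    intro a ha ha1 B _ hB
    by_contra h
    push Not at h
    have hle : B ≤ Subgroup.zpowers a := fun b hb => by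
      rcases eq_or_ne b 1 with rfl | hb1
      · exact one_mem _
      · exact h b hb hb1
    have := Subgroup.card_le_of_le hle
    rw [Nat.card_zpowers, orderOf_eq_prime (hM.hA.2 a ha) ha1] at this
    omega
  have hclash : ∀ a ∈ A, a ≠ 1 → ∀ B : Subgroup G, B ≤ A → p ^ 2 ≤ Nat.card B →
      (∀ q : ℕ, q.Prime → ∀ b ∈ B, Cfsg.pCoreOf q (θ a) ≤ Subgroup.centralizer ({b} : Set G)) →
      False := by
    intro a ha ha1 B hB hB2 h
    obtain ⟨b, hb, hb1, hba⟩ := houtside a ha ha1 B hB hB2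
    have hth := hS.theta_mem ha ha1
    have hle : θ a ≤ θ b := fun x hx => hS.balance ha ha1 (hB hb) hb1 ⟨hx,
      centralizes_of_comps hth.1 hth.2.1 (hM.hA.2 b (hB hb)) (hS.le_normalizer hth (hB hb))
        (fun q hq y hy => mem_centralizer_singleton.1 (h q hq b hb hy)) hx⟩
    exact static_distinct hM ha ha1 (hB hb) hb1 hba (hall a ha ha1)
      ((hall a ha ha1).2.2 _ (hS.theta_mem (hB hb) hb1) hle)
  obtain ⟨r, hr, W, hW, hWA⟩ : ∃ r : ℕ, r.Prime ∧ ∃ W, IsW p A θ {r} W ∧
      ¬ W ≤ Subgroup.centralizer (A : Set G) := by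
    by_contra h
    push Not at h
    refine hclash a₀ ha₀ ha₀1 A le_rfl
      (hM.hcard ▸ Nat.pow_le_pow_right hM.prime.pos (by norm_num)) fun q hq b hb => ?_
    haveI := Fact.mk hq
    obtain ⟨W, hW⟩ := exists_W1 hM q
    refine le_trans (hW.2.2.2 _ (hS.oq_mem (hS.theta_mem ha₀ ha₀1) q)
      ((hS.T_le ha₀ ha₀1).trans (le_normalizer_oq q _)) (piNat_of_isPGroup (oq_isPGroup q _) rfl))
      ((h q hq W hW).trans (Subgroup.centralizer_le (Set.singleton_subset_iff.2 hb)))
  haveI := Fact.mk hr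
  set S0 := A ⊓ Subgroup.centralizer (W : Set G) with hS0
  have hS0ne : S0 ≠ A := fun h => hWA fun w hw a ha =>
    ((inf_eq_left.1 h ha) w hw).symm
  obtain ⟨B, hBA, hS0B, hBcard⟩ := exists_le_card_sq hS.isPGroup hM.hcard inf_le_left hS0ne
  have hnoR : ∀ a ∈ A, a ∉ B → Cfsg.pCoreOf r (θ a) = ⊥ := by
    intro a ha haB
    by_contra hne
    have ha1 : a ≠ 1 := fun h => haB (h ▸ one_mem _)
    have hle := le_theta_of_comp hM ha ha1 (hall a ha ha1) hne hW.1 hW.2.1
      (isPGroup_of_piNat hW.2.2.1)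
    exact haB (hS0B ⟨ha, fun w hw => mem_centralizer_singleton.1 (hS.theta_le ha ha1 (hle hw))⟩)
  -- the largest member of order prime to `r`
  obtain ⟨u, hum, huT, -, humax⟩ := hM.exists_W {t | t ≠ r} (by
    by_contra h
    push Not at h
    have hWr : PiNat {t | t ≠ r} (Nat.card W) := hS.piNat_member hW.1 fun a ha ha1 =>
      (h a ha ha1).of_dvd (Subgroup.card_dvd_of_le (hW.1.2.2.2 a ha ha1))
    obtain ⟨k, hk⟩ := IsPGroup.iff_card.1 (isPGroup_of_piNat hW.2.2.1)
    cases k with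
    | zero =>
      refine hWA ?_
      rw [Subgroup.card_eq_one.1 (by simpa using hk : Nat.card W = 1)]
      exact bot_le
    | succ k => exact hWr r hr (hk ▸ dvd_pow_self r k.succ_ne_zero) rfl)
  have hcomp : ∀ a ∈ A, a ∉ B → ∀ t : ℕ, t.Prime → Cfsg.pCoreOf t (θ a) ≤ u := by
    intro a ha haB t ht
    have ha1 : a ≠ 1 := fun h => haB (h ▸ one_mem _)
    by_cases htr : t = r
    · exact (htr ▸ hnoR a ha haB).le.trans bot_le
    · haveI := Fact.mk ht
      exact humax _ (hS.oq_mem (hS.theta_mem ha ha1) t)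
        ((hS.T_le ha ha1).trans (le_normalizer_oq t _)) (piNat_of_isPGroup (oq_isPGroup t _) htr)
  have hY : ∀ v : ℕ, v.Prime → Cfsg.pCoreOf v u ≤ Subgroup.centralizer (B : Set G) := by
    intro v hv
    haveI := Fact.mk hv
    set Y := Cfsg.pCoreOf v u with hY
    have hYm := hS.oq_mem hum v
    have hYT : T ≤ Subgroup.normalizer (Y : Set G) := huT.trans (normalizer_le_normalizer_oq v u)
    have huY : u ≤ Subgroup.normalizer (Y : Set G) := le_normalizer_oq v u
    have hcommY : ∀ a ∈ A, a ∉ B → ∀ X : Subgroup G, X ≤ θ a → X ≤ Y → ∀ t : ℕ, t.Prime →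
        t ≠ v → X ≤ Subgroup.centralizer (Cfsg.pCoreOf t (θ a) : Set G) := by
      intro a ha haB X hXθ hXY t ht htv x hx y hy
      haveI := Fact.mk ht
      have h1 : x * y * x⁻¹ * y⁻¹ ∈ Y ⊓ Cfsg.pCoreOf t (θ a) := by
        refine Subgroup.mem_inf.2
          ⟨?_, mul_mem (mem_normalizer_conj (le_normalizer_oq t _ (hXθ hx)) hy) (inv_mem hy)⟩
        have := mul_mem (hXY hx)
          (mem_normalizer_conj (huY (hcomp a ha haB t ht hy)) (inv_mem (hXY hx)))
        simpa [mul_assoc] using this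
      rw [inf_eq_bot_of_primes (oq_isPGroup v u) (oq_isPGroup t _) htv.symm, Subgroup.mem_bot,
        mul_inv_eq_one, mul_inv_eq_iff_eq_mul] at h1
      exact h1.symm
    have hdich : ∀ a ∈ A, a ∉ B → Y ≤ θ a ∧ Cfsg.pCoreOf v (θ a) ≠ ⊥ ∨
        Y ⊓ Subgroup.centralizer ({a} : Set G) = ⊥ := by
      intro a ha haB
      have ha1 : a ≠ 1 := fun h => haB (h ▸ one_mem _)
      by_cases hne : Cfsg.pCoreOf v (θ a) = ⊥
      · refine Or.inr (le_bot_iff.1 (le_trans (le_oq_of_commute (hS.theta_mem ha ha1).1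
          (hYm.2.2.2 a ha ha1) ((oq_isPGroup v u).to_le inf_le_left) fun t ht => ?_) hne.le))
        by_cases htv : t = v
        · subst htv
          rw [hne]
          exact fun x _ y hy => by rw [Subgroup.mem_bot.1 hy, one_mul, mul_one]
        · exact hcommY a ha haB _ (hYm.2.2.2 a ha ha1) inf_le_left t ht htv
      · exact Or.inl ⟨le_theta_of_comp hM ha ha1 (hall a ha ha1) hne hYm hYT (oq_isPGroup v u), hne⟩
    refine le_of_hyperplane_centralizers_le hM.hA (hM.hcard ▸ Nat.pow_le_pow_right hM.prime.pos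
      (by norm_num)) (hS.le_normalizer hYm) hYm.2.1 fun D hDA hD => ?_
    by_cases hDB : D = B
    · exact inf_le_right.trans (hDB ▸ le_rfl)
    intro y hy
    by_contra hyB
    have hy1 : y ≠ 1 := fun h => hyB (h ▸ one_mem _)
    have hDcard : Nat.card D = p ^ 2 := by
      have h1 : Nat.card D * p = p ^ 2 * p := by
        rw [← hD, ← Subgroup.relIndex_bot_left, Subgroup.relIndex_mul_relIndex _ _ _ bot_le hDA,
          Subgroup.relIndex_bot_left, hM.hcard, hD, pow_succ]
      exact Nat.eq_of_mul_eq_mul_right hM.prime.pos h1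
    obtain ⟨a, haD, haB⟩ : ∃ a ∈ D, a ∉ B := by
      by_contra h
      push Not at h
      exact hDB (Subgroup.eq_of_le_of_card_ge h (by rw [hBcard, hDcard]))
    obtain ⟨c, hcDB, hc1⟩ : ∃ c ∈ D ⊓ B, c ≠ 1 := by
      by_contra h
      push Not at h
      have hbot : D ⊓ B = ⊥ := (Subgroup.eq_bot_iff_forall _).2 h
      have hinj : Function.Injective (fun z : ↥D × ↥B =>
          (⟨(z.1 : G) * z.2, mul_mem (hDA z.1.2) (hBA z.2.2)⟩ : ↥A)) := fun z w hzw =>
        Subgroup.mul_injective_of_disjoint (disjoint_iff.2 hbot) (congrArg Subtype.val hzw)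
      have := Nat.card_le_card_of_injective _ hinj
      rw [Nat.card_prod, hDcard, hBcard, hM.hcard, ← pow_add] at this
      exact absurd ((Nat.pow_le_pow_iff_right hM.prime.one_lt).1 this) (by norm_num)
    have hab : a * c ∉ B := fun h => haB (by simpa using mul_mem h (inv_mem hcDB.2))
    have ha1 : a ≠ 1 := fun h => haB (h ▸ one_mem _)
    have hab1 : a * c ≠ 1 := fun h => hab (h ▸ one_mem _)
    have habA : a * c ∈ A := mul_mem (hDA haD) (hDA hcDB.1)
    have hnz : a * c ∉ Subgroup.zpowers a := by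
      rintro ⟨i, hi⟩
      obtain ⟨j, hj⟩ : c ∈ Subgroup.zpowers a := ⟨i - 1, by
        simp only at hi ⊢; rw [zpow_sub_one, hi, ← hS.comm (hDA hcDB.1) (hDA haD),
          mul_inv_cancel_right]⟩
      exact haB ((Subgroup.zpowers_le.2 hcDB.2)
        (mem_zpowers_of_zpow_ne_one (hM.hA.2 a (hDA haD)) ⟨j, hj⟩ hc1))
    have hfix : ∀ d ∈ D, y ∈ Y ⊓ Subgroup.centralizer ({d} : Set G) := fun d hd =>
      ⟨hy.1, Subgroup.centralizer_le (Set.singleton_subset_iff.2 hd) hy.2⟩
    obtain ⟨hYa, hPa⟩ := (hdich a (hDA haD) haB).resolve_right fun h =>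
      hy1 (Subgroup.mem_bot.1 (h ▸ hfix a haD))
    obtain ⟨hYb, hPb⟩ := (hdich (a * c) habA hab).resolve_right fun h =>
      hy1 (Subgroup.mem_bot.1 (h ▸ hfix _ (mul_mem haD hcDB.1)))
    set Pa := Cfsg.pCoreOf v (θ a) with hPadef
    set Pb := Cfsg.pCoreOf v (θ (a * c)) with hPbdef
    have hPbA : Pb ≤ θ a := le_theta_of_comp hM (hDA haD) ha1 (hall a (hDA haD) ha1) hPa
      (hS.oq_mem (hS.theta_mem habA hab1) v)
      ((hS.T_le habA hab1).trans (le_normalizer_oq v _)) (oq_isPGroup v _)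
    have hPaB : Pa ≤ θ (a * c) := le_theta_of_comp hM habA hab1 (hall _ habA hab1) hPb
      (hS.oq_mem (hS.theta_mem (hDA haD) ha1) v)
      ((hS.T_le (hDA haD) ha1).trans (le_normalizer_oq v _)) (oq_isPGroup v _)
    have hYY : ∀ a ∈ A, a ∉ B → a ≠ 1 → Y ≤ θ a → Y ⊓ Cfsg.pCoreOf v (θ a) ≠ ⊥ := by
      intro a ha haB ha1 hYa h
      refine hy1 (Subgroup.mem_bot.1 (h ▸ Subgroup.mem_inf.2 ⟨hy.1, le_oq_of_commute
        (hS.theta_mem ha ha1).1 hYa (oq_isPGroup v u) (fun t ht => ?_) hy.1⟩))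
      by_cases htv : t = v
      · subst htv
        exact commute_subgroups h (hYa.trans (le_normalizer_oq t _))
          ((hcomp a ha haB t ht).trans huY)
      · exact hcommY a ha haB Y hYa le_rfl t ht htv
    refine static_inter hM habA hab1 (hDA haD) ha1 hnz (hall _ habA hab1) (hall a (hDA haD) ha1)
      (q := v) fun hI => hYY _ habA hab hab1 hYb (le_bot_iff.1 ?_)
    have hle : Y ⊓ Pb ≤ Pa := by
      refine le_oq_of_commute (hS.theta_mem (hDA haD) ha1).1 (inf_le_left.trans hYa)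
        ((oq_isPGroup v u).to_le inf_le_left) fun t ht => ?_
      by_cases htv : t = v
      · subst htv
        exact inf_le_right.trans (commute_subgroups hI (hPbA.trans (le_normalizer_oq t _))
          (hPaB.trans (le_normalizer_oq t _)))
      · exact hcommY a (hDA haD) haB _ (inf_le_left.trans hYa) inf_le_left t ht htv
    exact le_trans (le_inf inf_le_right hle) hI.le
  obtain ⟨a, ha, haB⟩ : ∃ a ∈ A, a ∉ B := by
    by_contra h
    push Not at h
    have := Subgroup.card_le_of_le h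
    rw [hBcard, hM.hcard] at this
    exact absurd ((Nat.pow_le_pow_iff_right hM.prime.one_lt).1 this) (by norm_num)
  refine hclash a ha (fun h => haB (h ▸ one_mem _)) B hBA hBcard.ge fun q hq b hb => ?_
  refine (hcomp a ha haB q hq).trans (centralizes_of_comps hum.1 hum.2.1 (hM.hA.2 b (hBA hb))
    (hS.le_normalizer hum (hBA hb)) fun t ht y hy => ?_)
  exact ((hY t ht hy) b hb).symm

/-- No maximal member contains the values on a line except one point. -/
theorem finish {M E : Subgroup G} (hMax : IsMax p A θ M) (hEA : E ≤ A)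
    (hE : Nat.card E = p ^ 2) {z : G} (hz : z ∈ E) (hz1 : z ≠ 1)
    (h : ∀ c ∈ E, c ∉ Subgroup.zpowers z → θ c ≤ M) : False := by
  haveI := Fact.mk hM.prime
  have hS := hM.toSetup
  have hzA := hEA hz
  set Z := Subgroup.zpowers z with hZ
  have hZA : Z ≤ A := Subgroup.zpowers_le.2 hzA
  have hEel := elementaryAbelian_of_le hM.hA hEA
  have hne1 : ∀ e : G, e ∉ Z → e ≠ 1 := fun e he h' => he (h' ▸ one_mem _)
  have hp2 : p < p ^ 2 := by simpa using Nat.pow_lt_pow_right hM.prime.one_lt one_lt_two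
  have hself : ∀ {X : Subgroup G}, X ∈ Cfsg.signalizerFamily p A θ → ⁅X, Z⁆ ≤ X := fun hX =>
    CoprimeAction.commutator_le_self_of_le_normalizer (hZA.trans (hS.le_normalizer hX))
  -- the commutators lie in `M`
  have hcomm : ∀ e ∈ A, e ∉ Z → ⁅θ e, Z⁆ ≤ M := by
    intro e he heZ
    have hth := hS.theta_mem he (hne1 e heZ)
    by_cases heE : e ∈ E
    · exact (hself hth).trans (h e heE heZ)
    refine SFTLines.commutator_le_of_lines hEel hE.ge (hEA.trans (hS.le_normalizer hth)) hth.2.1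
      hth.1 hz fun f hf hfZ => ?_
    refine (Subgroup.commutator_mono (le_trans ?_ (h f hf hfZ)) le_rfl).trans (hself hMax.1)
    exact hS.balance he (hne1 e heZ) (hEA hf) (hne1 f hfZ)
  set K := ⁅M, Z⁆ with hK
  have hfix : ∀ e ∈ A, e ∉ Z → θ z ⊓ θ e ≤ Subgroup.normalizer (K : Set G) := by
    intro e he heZ
    refine le_normalizer_of_forall fun g hg k hk => ?_
    set E2 := Z ⊔ Subgroup.zpowers e with hE2
    have hE2A : E2 ≤ A := sup_le hZA (Subgroup.zpowers_le.2 he)
    have hle : K ≤ K.comap (MulAut.conj g).toMonoidHom := by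
      refine SFTLines.commutator_le_of_lines (elementaryAbelian_of_le hM.hA hE2A)
        (sq_le_card_sup hM.hA hzA hz1 he heZ) (hE2A.trans (hS.le_normalizer hMax.1)) hMax.1.2.1
        hMax.1.1 (Subgroup.mem_sup_left (Subgroup.mem_zpowers z)) fun f hf hfZ => ?_
      have hfA := hE2A hf
      have hth := hS.theta_mem hfA (hne1 f hfZ)
      have hgz := mem_centralizer_singleton.1 (hS.theta_le hzA hz1 hg.1)
      have hge := mem_centralizer_singleton.1 (hS.theta_le he (hne1 e heZ) hg.2)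
      have hgf : g * f = f * g := by
        have : E2 ≤ Subgroup.centralizer ({g} : Set G) :=
          sup_le (Subgroup.zpowers_le.2 (mem_centralizer_singleton.2 hgz.symm))
            (Subgroup.zpowers_le.2 (mem_centralizer_singleton.2 hge.symm))
        exact (mem_centralizer_singleton.1 (this hf)).symm
      have hgθ : g ∈ θ f :=
        hS.balance hzA hz1 hfA (hne1 f hfZ) ⟨hg.1, mem_centralizer_singleton.2 hgf⟩
      have hsub : ⁅θ f, Z⁆ ≤ K := by
        rw [← CoprimeAction.commutator_commutator_eq (hZA.trans (hS.le_normalizer hth)) ?_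
          (Or.inr hth.1)]
        · exact Subgroup.commutator_mono (hcomm f hfA hfZ) le_rfl
        · exact Nat.Coprime.coprime_dvd_left (Subgroup.card_dvd_of_le hZA)
            (SignalizerTransitivity.coprime_card_member hM.hA hth)
      refine (Subgroup.commutator_mono (hMax.1.2.2.2 f hfA (hne1 f hfZ)) le_rfl).trans ?_
      rw [Subgroup.commutator_le]
      intro x hx w hw
      refine Subgroup.mem_comap.2 (hsub ?_)
      have hgw : g * w * g⁻¹ = w := by
        obtain ⟨i, rfl⟩ := hw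
        change g * z ^ i * g⁻¹ = z ^ i
        rw [((show Commute g z from hgz).zpow_right i).eq, mul_inv_cancel_right]
      have := Subgroup.commutator_mem_commutator (H₁ := θ f) (H₂ := Z)
        (mul_mem (mul_mem hgθ hx) (inv_mem hgθ)) hw
      simp only [MulEquiv.coe_toMonoidHom, MulAut.conj_apply]
      convert this using 1
      conv_rhs => rw [← hgw]
      simp [commutatorElement_def, mul_assoc]
    exact hle hk
  -- a line avoiding `z`
  obtain ⟨e₁, he₁, he₁Z⟩ : ∃ e ∈ A, e ∉ Z := by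
    by_contra h'
    push Not at h'
    have := Subgroup.card_le_of_le (K := Z) (H := E) fun x hx => h' x (hEA hx)
    rw [hE, hZ, Nat.card_zpowers, orderOf_eq_prime (hM.hA.2 z hzA) hz1] at this
    omega
  obtain ⟨e₂, he₂, he₂Z⟩ : ∃ e ∈ A, e ∉ Z ⊔ Subgroup.zpowers e₁ := by
    by_contra h'
    push Not at h'
    have h1 := Subgroup.card_le_of_le (K := Z ⊔ Subgroup.zpowers e₁) (H := A) h'
    have h2 : Nat.card ↥(Z ⊔ Subgroup.zpowers e₁) ≤ p * p := by
      refine le_trans (Nat.le_of_dvd (mul_pos Nat.card_pos Nat.card_pos) (card_sup_dvd_mul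
        ((Subgroup.zpowers_le.2 he₁).trans (SFTLines.le_normalizer_zpowers hM.hA hzA)))) ?_
      rw [hZ, Nat.card_zpowers, Nat.card_zpowers, orderOf_eq_prime (hM.hA.2 z hzA) hz1,
        orderOf_eq_prime (hM.hA.2 e₁ he₁) (hne1 e₁ he₁Z)]
    rw [hM.hcard, pow_succ, pow_two] at h1
    have := Nat.mul_le_mul_left (p * p) hM.prime.two_le
    have := Nat.mul_pos hM.prime.pos hM.prime.pos
    omega
  set E' := Subgroup.zpowers e₁ ⊔ Subgroup.zpowers e₂ with hE'
  have hE'A : E' ≤ A := sup_le (Subgroup.zpowers_le.2 he₁) (Subgroup.zpowers_le.2 he₂)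
  have he₂e₁ : e₂ ∉ Subgroup.zpowers e₁ := fun h' => he₂Z (Subgroup.mem_sup_right h')
  have hzE' : z ∉ E' := by
    intro hzE'
    have hle : Z ⊔ Subgroup.zpowers e₁ ≤ E' := sup_le (Subgroup.zpowers_le.2 hzE') le_sup_left
    refine he₂Z ?_
    rw [Subgroup.eq_of_le_of_card_ge hle ?_]
    · exact Subgroup.mem_sup_right (Subgroup.mem_zpowers e₂)
    refine le_trans ?_ (sq_le_card_sup hM.hA hzA hz1 he₁ he₁Z)
    refine le_trans (Nat.le_of_dvd (mul_pos Nat.card_pos Nat.card_pos) (card_sup_dvd_mul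
      ((Subgroup.zpowers_le.2 he₂).trans (SFTLines.le_normalizer_zpowers hM.hA he₁)))) ?_
    rw [Nat.card_zpowers, Nat.card_zpowers, orderOf_eq_prime (hM.hA.2 e₁ he₁) (hne1 e₁ he₁Z),
      orderOf_eq_prime (hM.hA.2 e₂ he₂) fun h' => he₂e₁ (h' ▸ one_mem _), pow_two]
  have hθzN : θ z ≤ Subgroup.normalizer (K : Set G) :=
    hS.theta_le_of hzA hz1 hE'A (sq_le_card_sup hM.hA he₁ (hne1 e₁ he₁Z) he₂ he₂e₁)
      fun e he he1 => hfix e (hE'A he) fun heZ => hzE' (Subgroup.zpowers_le.2 he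
        (mem_zpowers_of_zpow_ne_one (hM.hA.2 z hzA) heZ he1))
  have hθzM : θ z ≤ M := by
    by_cases hK1 : K = ⊥
    · rw [hK, Subgroup.commutator_eq_bot_iff_le_centralizer] at hK1
      have hle : M ≤ θ z := fun x hx => hMax.1.2.2.2 z hzA hz1 ⟨hx,
        mem_centralizer_singleton.2 ((hK1 hx) z (Subgroup.mem_zpowers z)).symm⟩
      exact (hMax.2.2 _ (hS.theta_mem hzA hz1) hle).le
    · exact hM.le_max hMax (hself hMax.1) hK1 (Subgroup.normalizer_commutator_ge_left M Z)
        (le_normalizer_commutator (hS.le_normalizer hMax.1) (SFTLines.le_normalizer_zpowers hM.hA hzA))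
        (hS.theta_mem hzA hz1) hθzN
  apply hM.incomplete
  refine ⟨M, hMax.1, fun a ha ha1 => hS.theta_le_of ha ha1 hEA hE.ge fun e he he1 => ?_⟩
  refine inf_le_right.trans ?_
  by_cases heZ : e ∈ Z
  · refine le_trans (fun x hx => hS.balance (hEA he) he1 hzA hz1 ⟨hx, ?_⟩) hθzM
    rw [← SFTLines.centralizer_singleton_eq (hM.hA.2 z hzA) heZ he1]
    exact hS.theta_le (hEA he) he1 hx
  · exact h e he heZ

end Cfsg.Agent.SFTOdd56Static
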