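import Mathlib
import Cfsg.Agent.Lib.SFTOdd56Pair
import Cfsg.Agent.Lib.SFTExtend
import Cfsg.Agent.Lib.GlaubermanZJ
import Cfsg.Agent.Lib.BGCoprimeFPF
import Cfsg.Agent.S1458

/-!
# The solvable signalizer functor theorem for values of odd order

For an odd prime `p`, an elementary abelian group of order at least `p ^ 3` and a solvable signalizer
functor all of whose values have odd order, the functor is complete.
-/

set_option autoImplicit false

namespace Cfsg.Agent.SFTOdd56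

open Cfsg.Agent.SignalizerCoprime Cfsg.Agent.HallCore Cfsg.Agent.SFTGroup Cfsg.Agent.SFTSigma
  Cfsg.Agent.SFTOdd56Ctx Cfsg.Agent.SFTOdd56Static Cfsg.Agent.SFTOdd56Pair
open Cfsg.Agent.SignalizerTransitivity (mem_family_of_le IsMaxMember isMaxMember_conj
  exists_isMaxMember_ge coprime_card_member mem_map_conj)
open scoped commutatorElement

universe u

theorem zpowers_comm {G : Type*} [Group G] {g a : G} (h : g * a = a * g) {y : G}
    (hy : y ∈ Subgroup.zpowers a) : g * y = y * g := by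
  obtain ⟨i, rfl⟩ := hy
  exact ((show Commute g a from h).zpow_right i).eq

theorem mem_normalizer_zpowers_of_comm {G : Type*} [Group G] {g a : G} (h : g * a = a * g) :
    g ∈ Subgroup.normalizer (Subgroup.zpowers a : Set G) :=
  SignalizerCoprime.centralizer_le_normalizer _
    (fun _ hy => (zpowers_comm h hy).symm)

/-- If `a` of prime order normalises the coprime `q`-group `Q` acting on the `t`-group `W` and `Q`
centralises the fixed points of `a`, then `[Q, a]` centralises `W`. -/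
theorem centralizes_of_fixed {G : Type u} [Group G] [Finite G] {t p q : ℕ} [Fact t.Prime]
    (hp : p.Prime) (hq : q.Prime) (hp2 : p ≠ 2) (hq2 : q ≠ 2) (hpq : p ≠ q) (htq : t ≠ q)
    (htp : t ≠ p) {W Q : Subgroup G} {a : G} (hap : a ^ p = 1) (hW : IsPGroup t W)
    (hQ : IsPGroup q Q) (hQW : Q ≤ Subgroup.normalizer (W : Set G))
    (haW : a ∈ Subgroup.normalizer (W : Set G)) (haQ : a ∈ Subgroup.normalizer (Q : Set G))
    (hfix : ∀ w ∈ W, w * a = a * w → ∀ x ∈ Q, w * x = x * w) :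
    ⁅Q, Subgroup.zpowers a⁆ ≤ Subgroup.centralizer (W : Set G) := by
  haveI := Fact.mk hq
  haveI := Fact.mk hp
  set Z := Subgroup.zpowers a
  set Q1 := ⁅Q, Z⁆ with hQ1
  have hQ1Q : Q1 ≤ Q :=
    CoprimeAction.commutator_le_self_of_le_normalizer (Subgroup.zpowers_le.2 haQ)
  set C := W ⊓ Subgroup.centralizer (Q1 : Set G) with hC
  by_cases h : C = W
  · exact Subgroup.le_centralizer_iff.1 (h.ge.trans inf_le_right)
  exfalso
  obtain ⟨n, hnW, hnC, hnN⟩ := exists_normalizer_grows hW inf_le_left h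
  have hQC : Q ≤ Subgroup.normalizer (C : Set G) := le_normalizer_inf hQW
    (SignalizerCoprime.le_normalizer_centralizer (Subgroup.normalizer_commutator_ge_left Q Z))
  have haC : a ∈ Subgroup.normalizer (C : Set G) :=
    le_normalizer_inf (Subgroup.zpowers_le.2 haW)
      (SignalizerCoprime.le_normalizer_centralizer (Subgroup.normalizer_commutator_ge_right Q Z))
      (Subgroup.mem_zpowers a)
  have hCt : IsPGroup t C := hW.to_le inf_le_left
  have hCp : ¬ p ∣ Nat.card C := not_dvd_card_of_isPGroup hCt htp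
  set L := Subgroup.normalizer (C : Set G) with hL
  set N := W ⊓ L with hN
  set a' := proj C ⟨a, haC⟩ with ha'
  have hN' : IsPGroup t ↥(img C N) := (hW.to_le inf_le_left).comap_of_injective _
    L.subtype_injective |>.map _
  have hQ' : IsPGroup q ↥(img C Q) := (hQ.comap_of_injective _ L.subtype_injective).map _
  have key := BGCoprimeFPF.commutator_centralizes_sylow (ℓ := t) hp hq hp2 hq2 hpq htq htp
    (a := a') (by rw [ha', ← map_pow, show (⟨a, haC⟩ : ↥L) ^ p = 1 from Subtype.ext (by simpa),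
      map_one]) hN' hQ'
    (le_normalizer_of_forall (img_le_normalizer
      (le_normalizer_inf hQW (hQC.trans Subgroup.le_normalizer))))
    (le_normalizer_of_forall (img_le_normalizer (Y := Z)
      (le_normalizer_inf (Subgroup.zpowers_le.2 haW)
        ((Subgroup.zpowers_le.2 haC).trans Subgroup.le_normalizer)))
      (mem_img.2 ⟨⟨a, haC⟩, Subgroup.mem_zpowers a, rfl⟩))
    (le_normalizer_of_forall (img_le_normalizer (Y := Z) (Subgroup.zpowers_le.2 haQ))
      (mem_img.2 ⟨⟨a, haC⟩, Subgroup.mem_zpowers a, rfl⟩))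
    (by
      rw [Subgroup.eq_bot_iff_forall]
      rintro z ⟨hz, hzc⟩
      obtain ⟨k, hk, rfl⟩ := mem_img.1 hz
      obtain ⟨v, hv, hvk⟩ := exists_lift (p := p) (A := Z) (isPGroup_zpowers hap)
        (Subgroup.zpowers_le.2 haC) hCp (x := k) fun b hb => by
          obtain ⟨i, hi⟩ := hb
          rw [show b = (⟨a, haC⟩ : ↥L) ^ i from Subtype.ext (by simpa using hi.symm), map_zpow]
          exact ((show Commute (proj C ⟨a, haC⟩) (proj C k) from
            (mem_centralizer_singleton.1 hzc).symm).zpow_left i).eq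
      have hmem : v * (k : G) ∈ C := ⟨mul_mem hv.1 hk.1, fun x hx =>
        (hfix _ (mul_mem hv.1 hk.1) (hvk a (Subgroup.mem_zpowers a)).symm x (hQ1Q hx)).symm⟩
      exact proj_eq_one.2 (by simpa using mul_mem (inv_mem hv) hmem))
  refine hnC ⟨hnW, ?_⟩
  intro x hx
  have hxL : x ∈ L := hQC (hQ1Q hx)
  have hx' : proj C ⟨x, hxL⟩ ∈ ⁅img C Q, Subgroup.zpowers a'⁆ := by
    have hle : Q1 ≤ ((⁅img C Q, Subgroup.zpowers a'⁆).comap (proj C)).map L.subtype := by
      rw [hQ1, Subgroup.commutator_le]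
      intro y hy z hz
      obtain ⟨i, rfl⟩ := hz
      refine ⟨⁅(⟨y, hQC hy⟩ : ↥L), (⟨a, haC⟩ : ↥L) ^ i⁆, ?_, by simp [commutatorElement_def]⟩
      rw [SetLike.mem_coe, Subgroup.mem_comap, map_commutatorElement, map_zpow]
      exact Subgroup.commutator_mem_commutator (mem_img.2 ⟨⟨y, hQC hy⟩, hy, rfl⟩) ⟨i, rfl⟩
    obtain ⟨z, hz, hzx⟩ := hle hx
    rwa [show (⟨x, hxL⟩ : ↥L) = z from Subtype.ext hzx.symm]
  have hcom := key hx' _ (mem_img.2 ⟨⟨n, hnN⟩, ⟨hnW, hnN⟩, rfl⟩)
  set c := n⁻¹ * (x * n * x⁻¹) with hc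
  have hcC : c ∈ C := by
    have h1 : proj C ((⟨n, hnN⟩ : ↥L)⁻¹ * (⟨x, hxL⟩ * ⟨n, hnN⟩ * (⟨x, hxL⟩ : ↥L)⁻¹)) = 1 := by
      rw [map_mul, map_mul, map_mul, map_inv, map_inv, ← hcom]
      group
    simpa using proj_eq_one.1 h1
  have hcx : Commute x c := hcC.2 x hx
  have hiter : ∀ i : ℕ, x ^ i * n * (x ^ i)⁻¹ = n * c ^ i := by
    intro i
    induction i with
    | zero => simp
    | succ i ih =>
      have h1 : x * n = n * c * x := by rw [hc]; group
      calc x ^ (i + 1) * n * (x ^ (i + 1))⁻¹ = x * (x ^ i * n * (x ^ i)⁻¹) * x⁻¹ := by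
            rw [pow_succ']; group
        _ = (x * n) * c ^ i * x⁻¹ := by rw [ih]; group
        _ = n * c * (x * c ^ i) * x⁻¹ := by rw [h1]; group
        _ = n * c ^ (i + 1) := by rw [(hcx.pow_right i).eq, pow_succ']; group
  have h0 := hiter (orderOf x)
  rw [pow_orderOf_eq_one, one_mul, inv_one, mul_one] at h0
  obtain ⟨e, he⟩ := IsPGroup.iff_orderOf.1 hCt ⟨c, hcC⟩
  rw [Subgroup.orderOf_mk] at he
  obtain ⟨f, hf⟩ := IsPGroup.iff_orderOf.1 hQ ⟨x, hQ1Q hx⟩
  rw [Subgroup.orderOf_mk] at hf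
  have hc1 : c = 1 := orderOf_eq_one_iff.1 (Nat.eq_one_of_dvd_coprimes
    (a := t ^ e) (b := q ^ f)
    (Nat.Coprime.pow e f ((Nat.coprime_primes Fact.out hq).2 htq))
    (he ▸ dvd_rfl) (hf ▸ orderOf_dvd_of_pow_eq_one (mul_eq_left.1 h0.symm)))
  rw [hc, inv_mul_eq_one] at hc1
  exact conj_eq_iff_commute.1 hc1.symm |>.symm

variable {G : Type u} [Group G] [Finite G] {p : ℕ} {A : Subgroup G} {θ : G → Subgroup G}

theorem odd_card_of (hS : Setup p A θ) {X : Subgroup G} (hX : X ∈ Cfsg.signalizerFamily p A θ) :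
    Odd (Nat.card X) := by
  rw [Nat.odd_iff]
  refine Nat.two_dvd_ne_zero.1 fun h => ?_
  exact hS.piNat_member (σ := {r | r ≠ 2}) hX (fun a ha ha1 r hr hrd h2 => by
    have h2' : r = 2 := h2
    subst h2'
    exact (hS.hodd a ha ha1).not_two_dvd_nat (hrd.trans (Subgroup.card_dvd_of_le
      (hX.2.2.2 a ha ha1)))) 2 Nat.prime_two h rfl

/-- The commutators with `a` of a `q`-group normalised by `θ a` lie in the component of every
member containing it. -/
theorem comm_le_oq (hp2 : p ≠ 2) (hS : Setup p A θ) {q : ℕ} [Fact q.Prime] {H : Subgroup G}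
    (hH : H ∈ Cfsg.signalizerFamily p A θ) {a : G} (ha : a ∈ A) (ha1 : a ≠ 1) {Q : Subgroup G}
    (hQ : IsPGroup q Q) (hQN : θ a ≤ Subgroup.normalizer (Q : Set G))
    (haQ : a ∈ Subgroup.normalizer (Q : Set G)) :
    ⁅Q ⊓ H, Subgroup.zpowers a⁆ ≤ Cfsg.pCoreOf q H := by
  haveI := Fact.mk hS.prime
  set Z := Subgroup.zpowers a
  set Q0 := Q ⊓ H with hQ0
  have hQ0q : IsPGroup q Q0 := hQ.to_le inf_le_left
  have haH : a ∈ Subgroup.normalizer (H : Set G) := hS.le_normalizer hH ha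
  have hZQ0 : Z ≤ Subgroup.normalizer (Q0 : Set G) :=
    le_normalizer_inf (Subgroup.zpowers_le.2 haQ) (Subgroup.zpowers_le.2 haH)
  have hQ1 : ⁅Q0, Z⁆ ≤ Q0 := CoprimeAction.commutator_le_self_of_le_normalizer hZQ0
  by_cases hbot : Q0 = ⊥
  · exact hQ1.trans (hbot.le.trans bot_le)
  have hqH : q ∣ Nat.card H := by
    obtain ⟨k, hk⟩ := IsPGroup.iff_card.1 hQ0q
    cases k with
    | zero => exact absurd (Subgroup.card_eq_one.1 (by simpa using hk)) hbot
    | succ k =>
      exact (hk ▸ dvd_pow_self q k.succ_ne_zero).trans (Subgroup.card_dvd_of_le inf_le_right)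
  have hqp : p ≠ q := fun h => hH.2.1 (h ▸ hqH)
  have hq2 : q ≠ 2 := fun h => (odd_card_of hS hH).not_two_dvd_nat (h ▸ hqH)
  set V := Cfsg.pCoreOf q H with hV
  set L := Subgroup.normalizer (V : Set G) with hL
  have hHL : H ≤ L := le_normalizer_oq q H
  have haL : a ∈ L := hS.le_normalizer (hS.oq_mem hH q) ha
  set H' := img V H with hH'
  have hsol : Group.IsSolvable ↥H' := by
    haveI := hH.1
    haveI : Group.IsSolvable ↥(H.subgroupOf L) :=
      Group.isSolvable_of_isSolvable_injective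
        (f := (Subgroup.subgroupOfEquivOfLe hHL).toMonoidHom) (MulEquiv.injective _)
    exact Group.isSolvable_of_surjective (f := (proj V).subgroupMap (H.subgroupOf L))
      (MonoidHom.subgroupMap_surjective _ _)
  have hmemH : ∀ z : ↥L, proj V z ∈ H' → (z : G) ∈ H := by
    intro z hz
    obtain ⟨w, hw, hwz⟩ := mem_img.1 hz
    have h1 : proj V (w⁻¹ * z) = 1 := by rw [map_mul, map_inv, hwz, inv_mul_cancel]
    have h2 : (w : G)⁻¹ * z ∈ H := oq_le q H (by simpa using proj_eq_one.1 h1)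
    simpa using mul_mem hw h2
  have hq0 : Cfsg.pCoreOf q H' = ⊥ := by
    rw [Subgroup.eq_bot_iff_forall]
    intro y hy
    obtain ⟨z, hz, rfl⟩ := mem_img.1 (oq_le q H' hy)
    set K := ((Cfsg.pCoreOf q H').comap (proj V)).map L.subtype with hK
    have hKH : K ≤ H := by
      rintro _ ⟨w, hw, rfl⟩
      exact hmemH w (oq_le q H' hw)
    have hKq : IsPGroup q K := by
      rintro ⟨_, ⟨w, hw, rfl⟩⟩
      obtain ⟨i, hi⟩ := oq_isPGroup q H' ⟨proj V w, hw⟩
      have h1 : ((w ^ q ^ i : ↥L) : G) ∈ V := proj_eq_one.1 (by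
        rw [map_pow]; exact congrArg Subtype.val hi)
      obtain ⟨j, hj⟩ := oq_isPGroup q H ⟨_, h1⟩
      refine ⟨i + j, Subtype.ext ?_⟩
      have h2 : ((w : G) ^ q ^ i) ^ q ^ j = 1 := by simpa using congrArg Subtype.val hj
      simpa [← pow_mul, ← pow_add] using h2
    have hHK : H ≤ Subgroup.normalizer (K : Set G) := by
      refine le_normalizer_of_forall fun g hg _ hy => ?_
      obtain ⟨w, hw, rfl⟩ := hy
      refine ⟨⟨g, hHL hg⟩ * w * (⟨g, hHL hg⟩ : ↥L)⁻¹, ?_, by simp⟩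
      simp only [SetLike.mem_coe, Subgroup.mem_comap, map_mul, map_inv] at hw ⊢
      exact mem_normalizer_conj (le_normalizer_oq q H' (mem_img.2 ⟨_, hg, rfl⟩)) hw
    exact proj_eq_one.2 (le_oq hKH hHK hKq ⟨z, hy, rfl⟩)
  set a' := proj V ⟨a, haL⟩ with ha'
  have ha'mem : a' ∈ img V Z := mem_img.2 ⟨⟨a, haL⟩, Subgroup.mem_zpowers a, rfl⟩
  have hcomm : ∀ t : ℕ, t.Prime → ⁅img V Q0, Subgroup.zpowers a'⁆ ≤
      Subgroup.centralizer (Cfsg.pCoreOf t H' : Set _) := by
    intro t ht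
    haveI := Fact.mk ht
    set W := Cfsg.pCoreOf t H' with hW
    by_cases hW1 : W = ⊥
    · intro x _ u hu
      rw [hW1] at hu
      rw [Subgroup.mem_bot.1 hu, one_mul, mul_one]
    have htq : t ≠ q := by rintro rfl; exact hW1 hq0
    have hWH : W ≤ H' := oq_le t H'
    have htp : t ≠ p := by
      rintro rfl
      obtain ⟨k, hk⟩ := IsPGroup.iff_card.1 (oq_isPGroup t H')
      cases k with
      | zero => exact hW1 (Subgroup.card_eq_one.1 (by simpa using hk))
      | succ k => exact hH.2.1 ((hk ▸ dvd_pow_self t k.succ_ne_zero).trans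
          ((Subgroup.card_dvd_of_le hWH).trans (card_img_dvd hHL)))
    refine centralizes_of_fixed (a := a') hS.prime Fact.out hp2 hq2 hqp htq htp ?_
      (oq_isPGroup t H') ((hQ0q.comap_of_injective _ L.subtype_injective).map _) ?_ ?_ ?_ ?_
    · rw [ha', ← map_pow, show (⟨a, haL⟩ : ↥L) ^ p = 1 from Subtype.ext (by simp [hS.hA.2 a ha]),
        map_one]
    · intro y hy
      obtain ⟨k, hk, rfl⟩ := mem_img.1 hy
      exact le_normalizer_oq t H' (mem_img.2 ⟨k, (Subgroup.mem_inf.1 hk).2, rfl⟩)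
    · exact normalizer_le_normalizer_oq t H' (le_normalizer_of_forall (X := H')
        (img_le_normalizer (Y := Z) (Subgroup.zpowers_le.2 haH)) ha'mem)
    · exact le_normalizer_of_forall (X := img V Q0) (img_le_normalizer (Y := Z) hZQ0) ha'mem
    intro w hw hwa x hx
    obtain ⟨k, hk, rfl⟩ := mem_img.1 (hWH hw)
    obtain ⟨y, hy, rfl⟩ := mem_img.1 hx
    obtain ⟨v, hv, hvk⟩ := exists_lift (p := p) (A := Z)
      (isPGroup_zpowers (hS.hA.2 a ha)) (Subgroup.zpowers_le.2 haL) (hS.oq_mem hH q).2.1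
      (x := k) fun b hb => by
        obtain ⟨i, hi⟩ := hb
        rw [show b = (⟨a, haL⟩ : ↥L) ^ i from Subtype.ext (by simpa using hi.symm), map_zpow]
        exact ((show Commute (proj V ⟨a, haL⟩) (proj V k) from hwa.symm).zpow_left i).eq
    set c : ↥L := ⟨v, Subgroup.le_normalizer hv⟩ * k with hc
    have hcw : proj V c = proj V k := by
      rw [hc, map_mul, proj_eq_one.2 (show ((⟨v, _⟩ : ↥L) : G) ∈ V from hv), one_mul]
    have hcH : (c : G) ∈ H := mul_mem (oq_le q H hv) hk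
    have hcQ : (c : G) ∈ Subgroup.normalizer (Q0 : Set G) :=
      Subgroup.inf_normalizer_le_normalizer_inf (Subgroup.mem_inf.2
        ⟨hQN (hH.2.2.2 a ha ha1 ⟨hcH, mem_centralizer_singleton.2
          (hvk a (Subgroup.mem_zpowers a)).symm⟩), Subgroup.le_normalizer hcH⟩)
    set d : ↥L := c * y * c⁻¹ * y⁻¹ with hd
    have hdQ : (d : G) ∈ Q0 := mul_mem (mem_normalizer_conj hcQ hy) (inv_mem hy)
    have hdW : proj V d ∈ W := by
      rw [hd, map_mul, map_mul, map_mul, map_inv, map_inv, hcw,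
        show proj V k * proj V y * (proj V k)⁻¹ * (proj V y)⁻¹ =
          proj V k * (proj V y * (proj V k)⁻¹ * (proj V y)⁻¹) by group]
      exact mul_mem hw (mem_normalizer_conj (le_normalizer_oq t H'
        (mem_img.2 ⟨y, (Subgroup.mem_inf.1 hy).2, rfl⟩)) (inv_mem hw))
    have hd1 : proj V d = 1 := by
      obtain ⟨i, hi⟩ := hQ0q ⟨_, hdQ⟩
      obtain ⟨j, hj⟩ := oq_isPGroup t H' ⟨_, hdW⟩
      refine orderOf_eq_one_iff.1 (Nat.eq_one_of_dvd_coprimes (a := q ^ i) (b := t ^ j)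
        (Nat.Coprime.pow i j ((Nat.coprime_primes Fact.out ht).2 (Ne.symm htq)))
        (orderOf_dvd_of_pow_eq_one ?_) (orderOf_dvd_of_pow_eq_one (congrArg Subtype.val hj)))
      rw [← map_pow, show d ^ q ^ i = 1 from Subtype.ext (by simpa using congrArg Subtype.val hi),
        map_one]
    rw [hd, map_mul, map_mul, map_mul, map_inv, map_inv, hcw, mul_inv_eq_one,
      mul_inv_eq_iff_eq_mul] at hd1
    exact hd1
  set K := ⁅img V Q0, Subgroup.zpowers a'⁆ with hK
  have hKQ : K ≤ img V Q0 := CoprimeAction.commutator_le_self_of_le_normalizer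
    (Subgroup.zpowers_le.2 (le_normalizer_of_forall (X := img V Q0)
      (img_le_normalizer (Y := Z) hZQ0) ha'mem))
  have hKH : K ≤ H' := hKQ.trans fun y hy => by
    obtain ⟨k, hk, rfl⟩ := mem_img.1 hy
    exact mem_img.2 ⟨k, (Subgroup.mem_inf.1 hk).2, rfl⟩
  have hKq : IsPGroup q K := ((hQ0q.comap_of_injective _ L.subtype_injective).map _).to_le hKQ
  have hK1 : K = ⊥ := le_bot_iff.1 ((le_oq_of_commute hsol hKH hKq hcomm).trans hq0.le)
  rw [Subgroup.commutator_le]
  intro y hy z hz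
  obtain ⟨i, rfl⟩ := hz
  have h1 : proj V ⁅(⟨y, hHL (Subgroup.mem_inf.1 hy).2⟩ : ↥L), (⟨a, haL⟩ : ↥L) ^ i⁆ = 1 := by
    rw [map_commutatorElement, map_zpow, ← Subgroup.mem_bot, ← hK1]
    exact Subgroup.commutator_mem_commutator (mem_img.2 ⟨_, hy, rfl⟩) ⟨i, rfl⟩
  simpa [commutatorElement_def] using proj_eq_one.1 h1

variable (hp2 : p ≠ 2) (hM : Minimal p A θ)
include hp2 hM

theorem odd_card {X : Subgroup G} (hX : X ∈ Cfsg.signalizerFamily p A θ) : Odd (Nat.card X) :=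
  odd_card_of hM.toSetup hX

/-- `Z(J(R))` is normal in a maximal member with a single component. -/
theorem pure_thomY {q : ℕ} [Fact q.Prime] {M : Subgroup G} (hMax : IsMax p A θ M)
    (hMp : ∀ t : ℕ, t.Prime → t ≠ q → Cfsg.pCoreOf t M = ⊥) (R : Subgroup G) (hRM : R ≤ M)
    (hRc : Nat.card R = q ^ (Nat.card M).factorization q) :
    M ≤ Subgroup.normalizer (GlaubermanZJ.thomY q R : Set G) := by
  haveI := Fact.mk hM.prime
  have hS := hM.toSetup
  haveI := hMax.1.1
  let S : Sylow q ↥M := Sylow.ofCard (R.subgroupOf M) (by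
    rw [Nat.card_congr (Subgroup.subgroupOfEquivOfLe hRM).toEquiv, hRc])
  have hS' : ((S : Subgroup ↥M)).map M.subtype = R := Subgroup.map_subgroupOf_eq_of_le hRM
  have hcore : Cfsg.pPrimeCore q ↥M = ⊥ := by
    haveI := HallCore.pPrimeCore_characteristic q ↥M
    by_contra hne
    set K := (Cfsg.pPrimeCore q ↥M).map M.subtype with hK
    have hK1 : K ≠ ⊥ := fun h =>
      hne ((Subgroup.map_eq_bot_iff_of_injective _ M.subtype_injective).1 h)
    have hKM : K ≤ M := Subgroup.map_subtype_le _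
    obtain ⟨t, ht, htK⟩ := exists_oq_ne_bot (@CoprimeAction.isSolvable_of_le _ _ _ _ hKM hMax.1.1)
      hK1
    haveI := Fact.mk ht
    have htq : t ≠ q := by
      rintro rfl
      obtain ⟨i, hi⟩ := IsPGroup.iff_card.1 (oq_isPGroup t K)
      cases i with
      | zero => exact htK (Subgroup.card_eq_one.1 (by simpa using hi))
      | succ i =>
        refine HallCore.not_dvd_card_pPrimeCore t ↥M ?_
        rw [← Subgroup.card_map_of_injective M.subtype_injective]
        exact (hi ▸ dvd_pow_self t i.succ_ne_zero).trans (Subgroup.card_dvd_of_le (oq_le t K))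
    have hMK : M ≤ Subgroup.normalizer (K : Set G) :=
      le_normalizer_of_forall fun g hg y hy =>
        conj_mem_map_of_characteristic (Subgroup.le_normalizer hg) hy
    exact htK (le_bot_iff.1 ((le_oq ((oq_le t K).trans hKM)
      (hMK.trans (normalizer_le_normalizer_oq t K)) (oq_isPGroup t K)).trans
      (hMp t ht htq).le))
  have hn := Cfsg.Agent.S1458.result (G := ↥M) (odd_card hp2 hM hMax.1) q S
  rw [hcore, sup_bot_eq, GlaubermanZJ.centerThompsonOf_eq] at hn
  rw [← hS', GlaubermanZJ.thomY_map M.subtype_injective]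
  refine le_normalizer_of_forall fun g hg y hy => ?_
  obtain ⟨z, hz, rfl⟩ := hy
  exact ⟨_, hn.conj_mem z hz ⟨g, hg⟩, by simp⟩

/-- An invariant Sylow subgroup of such a member is a maximal member of prime power order. -/
theorem pure_sylow {q : ℕ} [hq' : Fact q.Prime] {M : Subgroup G} (hMax : IsMax p A θ M)
    (hMp : ∀ t : ℕ, t.Prime → t ≠ q → Cfsg.pCoreOf t M = ⊥) (hM0 : Cfsg.pCoreOf q M ≠ ⊥) :
    ∃ R, R ≤ M ∧ Nat.card R = q ^ (Nat.card M).factorization q ∧
      IsMaxMember p A θ q R := by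
  haveI := Fact.mk hM.prime
  have hS := hM.toSetup
  have hq : q.Prime := Fact.out
  obtain ⟨R, hRM, hRc, hRA⟩ :=
    SignalizerCoprime.exists_invariant_sylow hS.isPGroup (hS.le_normalizer hMax.1) hMax.1.2.1 q
  have hR : IsPGroup q R := IsPGroup.of_card hRc
  refine ⟨R, hRM, hRc, mem_family_of_le hMax.1 hRM hRA, hR, fun X hX hXq hRX => ?_⟩
  by_contra hne
  obtain ⟨n, hnX, hnR, hnN⟩ := exists_normalizer_grows hXq hRX (Ne.symm hne)
  have hR1 : R ≠ ⊥ := by
    intro h
    rw [h, Subgroup.card_bot] at hRc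
    refine hM0 (Subgroup.card_eq_one.1 ?_)
    obtain ⟨i, hi⟩ := IsPGroup.iff_card.1 (oq_isPGroup q M)
    have h1 := Subgroup.card_dvd_of_le (oq_le q M)
    rw [hi] at h1 ⊢
    have h2 := (Nat.Prime.pow_dvd_iff_le_factorization hq Nat.card_pos.ne').1 h1
    rcases Nat.pow_eq_one.1 hRc.symm with h3 | h3
    · exact absurd h3 hq.ne_one
    · rw [show i = 0 by omega, pow_zero]
  have hle : X ⊓ Subgroup.normalizer (R : Set G) ≤ M :=
    hM.le_max hMax ((GlaubermanZJ.thomY_le R).trans hRM)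
      (GlaubermanZJ.thomY_ne_bot (Or.inr rfl) hR hR1) (pure_thomY hp2 hM hMax hMp R hRM hRc)
      (hRA.trans (GlaubermanZJ.normalizer_le_thomY R))
      (hS.member_inf hX (hRA.trans Subgroup.le_normalizer))
      (inf_le_right.trans (GlaubermanZJ.normalizer_le_thomY R))
  have hRY : R ≤ X ⊓ Subgroup.normalizer (R : Set G) := le_inf hRX Subgroup.le_normalizer
  obtain ⟨i, hi⟩ := IsPGroup.iff_card.1
    (hXq.to_le (inf_le_left : X ⊓ Subgroup.normalizer (R : Set G) ≤ X))
  have h1 := Subgroup.card_dvd_of_le hle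
  rw [hi, Nat.Prime.pow_dvd_iff_le_factorization hq Nat.card_pos.ne'] at h1
  refine hnR ?_
  rw [Subgroup.eq_of_le_of_card_ge hRY (by rw [hi, hRc]; exact Nat.pow_le_pow_right hq.pos h1)]
  exact ⟨hnX, hnN⟩

theorem pureUnique : PureUnique p A θ := by
  haveI := Fact.mk hM.prime
  intro q hq M N hMax hNax hMp hNp
  haveI := Fact.mk hq
  have hS := hM.toSetup
  have hbot : ∀ {M : Subgroup G}, IsMax p A θ M →
      (∀ t : ℕ, t.Prime → t ≠ q → Cfsg.pCoreOf t M = ⊥) → Cfsg.pCoreOf q M = ⊥ → M = ⊥ := by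
    intro M hMax hMp h0
    by_contra hne
    obtain ⟨t, ht, htM⟩ := exists_oq_ne_bot hMax.1.1 hne
    exact htM (if htq : t = q then htq ▸ h0 else hMp t ht htq)
  by_cases hM0 : Cfsg.pCoreOf q M = ⊥
  · exact (hMax.2.2 N hNax.1 (by rw [hbot hMax hMp hM0]; exact bot_le)).symm
  by_cases hN0 : Cfsg.pCoreOf q N = ⊥
  · exact hNax.2.2 M hMax.1 (by rw [hbot hNax hNp hN0]; exact bot_le)
  -- `Z(J(R))` for a Sylow subgroup `R`
  obtain ⟨R, hRM, hRc, hR⟩ := pure_sylow hp2 hM hMax hMp hM0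
  obtain ⟨R', hR'N, hR'c, hR'⟩ := pure_sylow hp2 hM hNax hNp hN0
  have hR1 : R' ≠ ⊥ := by
    intro h
    refine hN0 (le_bot_iff.1 ?_)
    obtain ⟨i, hi⟩ := IsPGroup.iff_card.1 (oq_isPGroup q N)
    have h1 := Subgroup.card_dvd_of_le (oq_le q N)
    rw [hi] at h1
    have h2 := Nat.pow_le_pow_right hq.pos
      ((Nat.Prime.pow_dvd_iff_le_factorization hq Nat.card_pos.ne').1 h1)
    rw [← hR'c, h, Subgroup.card_bot, ← hi] at h2
    exact (Subgroup.card_eq_one.1 (le_antisymm h2 Nat.card_pos)).le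
  have hq2 : q ≠ p := isPGroup_member_ne hM (hS.oq_mem hMax.1 q) (oq_isPGroup q M) hM0
  obtain ⟨c, hc, hcR⟩ := isMaxMember_conj hM.hA hM.hcard.ge hM.hθ hq2 hR hR'
  have hR'M : R' ≤ M := by
    rw [← hcR]
    rintro _ ⟨y, hy, rfl⟩
    exact mul_mem (mul_mem (hMax.2.1 hc) (hRM hy)) (inv_mem (hMax.2.1 hc))
  have hR'c' : Nat.card R' = q ^ (Nat.card M).factorization q := by
    rw [← hcR, Subgroup.card_map_of_injective (MulAut.conj c).injective, hRc]
  exact hNax.2.2 M hMax.1 (hM.le_max hMax ((GlaubermanZJ.thomY_le R').trans hR'M)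
    (GlaubermanZJ.thomY_ne_bot (Or.inr rfl) hR'.2.1 hR1) (pure_thomY hp2 hM hMax hMp R' hR'M hR'c')
    ((hS.le_normalizer hR'.1).trans (GlaubermanZJ.normalizer_le_thomY R'))
    hNax.1 (pure_thomY hp2 hM hNax hNp R' hR'N hR'c))

/-- A moving element gives a datum. -/
theorem exists_datum {a : G} (ha : a ∈ A) (ha1 : a ≠ 1) (hns : ¬ IsMax p A θ (θ a)) :
    ∃ q Q M, Datum p A θ q Q M ∧ θ a ≤ M ∧ θ a ≤ Subgroup.normalizer (Q : Set G) ∧
      ¬ Q ≤ Subgroup.centralizer ({a} : Set G) := by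
  haveI := Fact.mk hM.prime
  have hS := hM.toSetup
  obtain ⟨M0, hM0, hle0⟩ := hS.exists_max_theta ha ha1
  obtain ⟨q, hq, hmov⟩ := exists_moved hM hM0 ha ha1 hle0 hns
  haveI := Fact.mk hq
  obtain ⟨W, hW⟩ := exists_W1 hM q
  let 𝒰 := {X : Subgroup G // X ≤ W ∧ A ≤ Subgroup.normalizer (X : Set G) ∧
    θ a ≤ Subgroup.normalizer (X : Set G)}
  set U : Subgroup G := ⨆ X : 𝒰, X.1 with hU
  have hUW : U ≤ W := iSup_le fun X => X.2.1
  have hUA : A ≤ Subgroup.normalizer (U : Set G) := le_normalizer_iSup fun X => X.2.2.1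
  have hUθ : θ a ≤ Subgroup.normalizer (U : Set G) := le_normalizer_iSup fun X => X.2.2.2
  have hPU : Cfsg.pCoreOf q M0 ≤ U := le_iSup (fun X : 𝒰 => X.1) ⟨_, hW.2.2.2 _
    (hS.oq_mem hM0.1 q) (hM0.2.1.trans (le_normalizer_oq q M0))
    (piNat_of_isPGroup (oq_isPGroup q M0) rfl), hS.le_normalizer (hS.oq_mem hM0.1 q),
    hle0.trans (le_normalizer_oq q M0)⟩
  set Z := Subgroup.zpowers a with hZ
  have hZA : Z ≤ A := Subgroup.zpowers_le.2 ha
  set Q := ⁅U, Z⁆ with hQ
  have hQU : Q ≤ U := CoprimeAction.commutator_le_self_of_le_normalizer (hZA.trans hUA)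
  have hQA : A ≤ Subgroup.normalizer (Q : Set G) :=
    le_normalizer_commutator hUA (SFTLines.le_normalizer_zpowers hM.hA ha)
  have hQθ : θ a ≤ Subgroup.normalizer (Q : Set G) := by
    refine le_normalizer_commutator hUθ (fun g hg => ?_)
    refine SignalizerCoprime.centralizer_le_normalizer Z fun y hy => ?_
    obtain ⟨i, rfl⟩ := hy
    exact (((show Commute g a from mem_centralizer_singleton.1
      (hS.theta_le ha ha1 hg)).zpow_right i).eq).symm
  have hQm : Q ∈ Cfsg.signalizerFamily p A θ := mem_family_of_le hW.1 (hQU.trans hUW) hQA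
  have hQq : IsPGroup q Q := (isPGroup_of_piNat hW.2.2.1).to_le (hQU.trans hUW)
  have hQ1 : Q ≠ ⊥ := by
    intro h
    rw [hQ, Subgroup.commutator_eq_bot_iff_le_centralizer] at h
    exact hmov (hPU.trans (h.trans (Subgroup.centralizer_le
      (Set.singleton_subset_iff.2 (Subgroup.mem_zpowers a)))))
  have hT : Cfsg.signalizerInf A θ ≤ Subgroup.normalizer (Q : Set G) := (hS.T_le ha ha1).trans hQθ
  have hUm : U ∈ Cfsg.signalizerFamily p A θ := mem_family_of_le hW.1 hUW hUA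
  obtain ⟨N, hN, -, hNθ⟩ := hM.exists_norm hQm hQ1
  have hTN : Cfsg.signalizerInf A θ ≤ N := hS.member_le hS.T_mem fun b hb hb1 =>
    (le_inf (hS.T_mem.2.2.2 b hb hb1) (inf_le_left.trans hT)).trans (hNθ b hb hb1)
  obtain ⟨M, hMM, hNM⟩ := hS.exists_max hN (hTN.trans Subgroup.le_normalizer)
  have hle : ∀ X ∈ Cfsg.signalizerFamily p A θ, X ≤ Subgroup.normalizer (Q : Set G) → X ≤ M :=
    fun X hX hXQ => (hS.member_le hX fun b hb hb1 => (le_inf (hX.2.2.2 b hb hb1)
      (inf_le_left.trans hXQ)).trans (hNθ b hb hb1)).trans hNM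
  have hcop : (Nat.card Z).Coprime (Nat.card U) :=
    Nat.Coprime.coprime_dvd_left (Subgroup.card_dvd_of_le hZA) (coprime_card_member hM.hA hUm)
  refine ⟨q, Q, M, ⟨hq, hQm, hQq, hQ1, hT, fun H hH hQH => ?_, hMM, hle⟩,
    hle _ (hS.theta_mem ha ha1) hQθ, hQθ, fun hc => hQ1 ?_⟩
  · have h1 := comm_le_oq hp2 hS hH ha ha1 hQq hQθ (hQA ha)
    rw [inf_eq_left.2 hQH] at h1
    rwa [hQ, CoprimeAction.commutator_commutator_eq (hZA.trans hUA) hcop (Or.inr hUm.1)] at h1
  · rw [hQ, ← CoprimeAction.commutator_commutator_eq (hZA.trans hUA) hcop (Or.inr hUm.1),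
      Subgroup.commutator_eq_bot_iff_le_centralizer]
    intro x hx y hy
    obtain ⟨i, rfl⟩ := hy
    exact (((show Commute x a from mem_centralizer_singleton.1 (hc hx)).zpow_right i).eq).symm

/-- If the values on a line outside `⟨z⟩` lie in a maximal member or centralise `z`, so does the
value at `z` lie in that member. -/
theorem theta_le_of_line {M E : Subgroup G} (hMax : IsMax p A θ M) (hEA : E ≤ A)
    (hE : Nat.card E = p ^ 2) {z : G} (hz : z ∈ E) (hz1 : z ≠ 1)
    (h : ∀ c ∈ E, c ∉ Subgroup.zpowers z → θ c ≤ M ∨ θ c ≤ Subgroup.centralizer ({z} : Set G)) :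
    θ z ≤ M := by
  haveI := Fact.mk hM.prime
  have hS := hM.toSetup
  have hzA := hEA hz
  set Z := Subgroup.zpowers z with hZ
  have hZA : Z ≤ A := Subgroup.zpowers_le.2 hzA
  have hEel := elementaryAbelian_of_le hM.hA hEA
  have hne1 : ∀ e : G, e ∉ Z → e ≠ 1 := fun e he h' => he (h' ▸ one_mem _)
  have hp2 : p < p ^ 2 := by simpa using Nat.pow_lt_pow_right hM.prime.one_lt one_lt_two
  have hself : ∀ {X : Subgroup G}, X ∈ Cfsg.signalizerFamily p A θ → ⁅X, Z⁆ ≤ X := fun hX =>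
    CoprimeAction.commutator_le_self_of_le_normalizer (hZA.trans (hS.le_normalizer hX))
  have hside : ∀ f ∈ E, f ∉ Z → ⁅θ f, Z⁆ ≤ M := by
    intro f hf hfZ
    rcases h f hf hfZ with h' | h'
    · exact (hself (hS.theta_mem (hEA hf) (hne1 f hfZ))).trans h'
    · refine (Subgroup.commutator_eq_bot_iff_le_centralizer.2 (h'.trans ?_)).le.trans bot_le
      exact fun g hg y hy => (zpowers_comm (mem_centralizer_singleton.1 hg) hy).symm
  -- the commutators lie in `M`
  have hcomm : ∀ e ∈ A, e ∉ Z → ⁅θ e, Z⁆ ≤ M := by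
    intro e he heZ
    have hth := hS.theta_mem he (hne1 e heZ)
    by_cases heE : e ∈ E
    · exact hside e heE heZ
    refine SFTLines.commutator_le_of_lines hEel hE.ge (hEA.trans (hS.le_normalizer hth)) hth.2.1
      hth.1 hz fun f hf hfZ => ?_
    exact (Subgroup.commutator_mono (hS.balance he (hne1 e heZ) (hEA hf) (hne1 f hfZ)) le_rfl).trans
      (hside f hf hfZ)
  set K := ⁅M, Z⁆ with hK
  have hfix : ∀ e ∈ A, e ∉ Z → θ z ⊓ θ e ≤ Subgroup.normalizer (K : Set G) := by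
    intro e he heZ
    refine le_normalizer_of_forall fun g hg k hk => ?_
    set E2 := Z ⊔ Subgroup.zpowers e with hE2
    have hE2A : E2 ≤ A := sup_le hZA (Subgroup.zpowers_le.2 he)
    have hle : K ≤ K.comap (MulAut.conj g).toMonoidHom := by
      refine SFTLines.commutator_le_of_lines (elementaryAbelian_of_le hM.hA hE2A)
        (sq_le_card_sup hM.hA hzA hz1 he heZ) (hE2A.trans (hS.le_normalizer hMax.1)) hMax.1.2.1
        hMax.1.1 (Subgroup.mem_sup_left (Subgroup.mem_zpowers z)) fun f hf hfZ => ?_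
      have hfA := hE2A hf
      have hth := hS.theta_mem hfA (hne1 f hfZ)
      have hgz := mem_centralizer_singleton.1 (hS.theta_le hzA hz1 hg.1)
      have hge := mem_centralizer_singleton.1 (hS.theta_le he (hne1 e heZ) hg.2)
      have hgf : g * f = f * g := by
        have : E2 ≤ Subgroup.centralizer ({g} : Set G) :=
          sup_le (Subgroup.zpowers_le.2 (mem_centralizer_singleton.2 hgz.symm))
            (Subgroup.zpowers_le.2 (mem_centralizer_singleton.2 hge.symm))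
        exact (mem_centralizer_singleton.1 (this hf)).symm
      have hgθ : g ∈ θ f :=
        hS.balance hzA hz1 hfA (hne1 f hfZ) ⟨hg.1, mem_centralizer_singleton.2 hgf⟩
      have hsub : ⁅θ f, Z⁆ ≤ K := by
        rw [← CoprimeAction.commutator_commutator_eq (hZA.trans (hS.le_normalizer hth)) ?_
          (Or.inr hth.1)]
        · exact Subgroup.commutator_mono (hcomm f hfA hfZ) le_rfl
        · exact Nat.Coprime.coprime_dvd_left (Subgroup.card_dvd_of_le hZA)
            (SignalizerTransitivity.coprime_card_member hM.hA hth)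
      refine (Subgroup.commutator_mono (hMax.1.2.2.2 f hfA (hne1 f hfZ)) le_rfl).trans ?_
      rw [Subgroup.commutator_le]
      intro x hx w hw
      refine Subgroup.mem_comap.2 (hsub ?_)
      have hgw : g * w * g⁻¹ = w := by
        obtain ⟨i, rfl⟩ := hw
        change g * z ^ i * g⁻¹ = z ^ i
        rw [((show Commute g z from hgz).zpow_right i).eq, mul_inv_cancel_right]
      have := Subgroup.commutator_mem_commutator (H₁ := θ f) (H₂ := Z)
        (mul_mem (mul_mem hgθ hx) (inv_mem hgθ)) hw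
      simp only [MulEquiv.coe_toMonoidHom, MulAut.conj_apply]
      convert this using 1
      conv_rhs => rw [← hgw]
      simp [commutatorElement_def, mul_assoc]
    exact hle hk
  -- a line avoiding `z`
  obtain ⟨e₁, he₁, he₁Z⟩ : ∃ e ∈ A, e ∉ Z := by
    by_contra h'
    push Not at h'
    have := Subgroup.card_le_of_le (K := Z) (H := E) fun x hx => h' x (hEA hx)
    rw [hE, hZ, Nat.card_zpowers, orderOf_eq_prime (hM.hA.2 z hzA) hz1] at this
    omega
  obtain ⟨e₂, he₂, he₂Z⟩ : ∃ e ∈ A, e ∉ Z ⊔ Subgroup.zpowers e₁ := by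
    by_contra h'
    push Not at h'
    have h1 := Subgroup.card_le_of_le (K := Z ⊔ Subgroup.zpowers e₁) (H := A) h'
    have h2 : Nat.card ↥(Z ⊔ Subgroup.zpowers e₁) ≤ p * p := by
      refine le_trans (Nat.le_of_dvd (mul_pos Nat.card_pos Nat.card_pos) (card_sup_dvd_mul
        ((Subgroup.zpowers_le.2 he₁).trans (SFTLines.le_normalizer_zpowers hM.hA hzA)))) ?_
      rw [hZ, Nat.card_zpowers, Nat.card_zpowers, orderOf_eq_prime (hM.hA.2 z hzA) hz1,
        orderOf_eq_prime (hM.hA.2 e₁ he₁) (hne1 e₁ he₁Z)]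
    rw [hM.hcard, pow_succ, pow_two] at h1
    have := Nat.mul_le_mul_left (p * p) hM.prime.two_le
    have := Nat.mul_pos hM.prime.pos hM.prime.pos
    omega
  set E' := Subgroup.zpowers e₁ ⊔ Subgroup.zpowers e₂ with hE'
  have hE'A : E' ≤ A := sup_le (Subgroup.zpowers_le.2 he₁) (Subgroup.zpowers_le.2 he₂)
  have he₂e₁ : e₂ ∉ Subgroup.zpowers e₁ := fun h' => he₂Z (Subgroup.mem_sup_right h')
  have hzE' : z ∉ E' := by
    intro hzE'
    have hle : Z ⊔ Subgroup.zpowers e₁ ≤ E' := sup_le (Subgroup.zpowers_le.2 hzE') le_sup_left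
    refine he₂Z ?_
    rw [Subgroup.eq_of_le_of_card_ge hle ?_]
    · exact Subgroup.mem_sup_right (Subgroup.mem_zpowers e₂)
    refine le_trans ?_ (sq_le_card_sup hM.hA hzA hz1 he₁ he₁Z)
    refine le_trans (Nat.le_of_dvd (mul_pos Nat.card_pos Nat.card_pos) (card_sup_dvd_mul
      ((Subgroup.zpowers_le.2 he₂).trans (SFTLines.le_normalizer_zpowers hM.hA he₁)))) ?_
    rw [Nat.card_zpowers, Nat.card_zpowers, orderOf_eq_prime (hM.hA.2 e₁ he₁) (hne1 e₁ he₁Z),
      orderOf_eq_prime (hM.hA.2 e₂ he₂) fun h' => he₂e₁ (h' ▸ one_mem _), pow_two]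
  have hθzN : θ z ≤ Subgroup.normalizer (K : Set G) :=
    hS.theta_le_of hzA hz1 hE'A (sq_le_card_sup hM.hA he₁ (hne1 e₁ he₁Z) he₂ he₂e₁)
      fun e he he1 => hfix e (hE'A he) fun heZ => hzE' (Subgroup.zpowers_le.2 he
        (mem_zpowers_of_zpow_ne_one (hM.hA.2 z hzA) heZ he1))
  have hθzM : θ z ≤ M := by
    by_cases hK1 : K = ⊥
    · rw [hK, Subgroup.commutator_eq_bot_iff_le_centralizer] at hK1
      have hle : M ≤ θ z := fun x hx => hMax.1.2.2.2 z hzA hz1 ⟨hx,
        mem_centralizer_singleton.2 ((hK1 hx) z (Subgroup.mem_zpowers z)).symm⟩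
      exact (hMax.2.2 _ (hS.theta_mem hzA hz1) hle).le
    · exact hM.le_max hMax (hself hMax.1) hK1 (Subgroup.normalizer_commutator_ge_left M Z)
        (le_normalizer_commutator (hS.le_normalizer hMax.1) (SFTLines.le_normalizer_zpowers hM.hA hzA))
        (hS.theta_mem hzA hz1) hθzN
  exact hθzM

omit hp2 in
/-- A maximal member above all members normalising a given one. -/
theorem exists_norm_max {U : Subgroup G} (hU : U ∈ Cfsg.signalizerFamily p A θ) (hU1 : U ≠ ⊥)
    (hUT : Cfsg.signalizerInf A θ ≤ Subgroup.normalizer (U : Set G)) :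
    ∃ L, IsMax p A θ L ∧
      ∀ X ∈ Cfsg.signalizerFamily p A θ, X ≤ Subgroup.normalizer (U : Set G) → X ≤ L := by
  have hS := hM.toSetup
  obtain ⟨N, hN, -, hNθ⟩ := hM.exists_norm hU hU1
  have hle : ∀ X ∈ Cfsg.signalizerFamily p A θ, X ≤ Subgroup.normalizer (U : Set G) → X ≤ N :=
    fun X hX hXU => hS.member_le hX fun b hb hb1 => (le_inf (hX.2.2.2 b hb hb1)
      (inf_le_left.trans hXU)).trans (hNθ b hb hb1)
  obtain ⟨L, hL, hNL⟩ := hS.exists_max hN ((hle _ hS.T_mem hUT).trans Subgroup.le_normalizer)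
  exact ⟨L, hL, fun X hX hXU => (hle X hX hXU).trans hNL⟩

omit hp2 in
/-- A member outside a subgroup has fixed points outside it for some hyperplane. -/
theorem exists_line {X S : Subgroup G} (hX : X ∈ Cfsg.signalizerFamily p A θ) (h : ¬ X ≤ S) :
    ∃ D, D ≤ A ∧ Nat.card D = p ^ 2 ∧ ¬ X ⊓ Subgroup.centralizer (D : Set G) ≤ S := by
  haveI := Fact.mk hM.prime
  by_contra hc
  push Not at hc
  refine h (le_of_hyperplane_centralizers_le hM.hA
    (hM.hcard ▸ Nat.pow_le_pow_right hM.prime.pos (by norm_num)) (hM.toSetup.le_normalizer hX)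
    hX.2.1 fun D hDA hD => hc D hDA ?_)
  have h1 : Nat.card D * p = p ^ 2 * p := by
    rw [← hD, ← Subgroup.relIndex_bot_left, Subgroup.relIndex_mul_relIndex _ _ _ bot_le hDA,
      Subgroup.relIndex_bot_left, hM.hcard, hD, pow_succ]
  exact Nat.eq_of_mul_eq_mul_right hM.prime.pos h1

omit hp2 in
/-- A line outside a cyclic subgroup. -/
theorem exists_not_mem_zpowers {E : Subgroup G} (hE : Nat.card E = p ^ 2) {z : G} (hz : z ∈ A) :
    ∃ c ∈ E, c ∉ Subgroup.zpowers z := by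
  by_contra h
  push Not at h
  have h1 := Subgroup.card_le_of_le (H := E) (K := Subgroup.zpowers z) h
  rw [hE, Nat.card_zpowers] at h1
  have h2 := orderOf_le_of_pow_eq_one hM.prime.pos (hM.hA.2 z hz)
  have h3 : p < p ^ 2 := by simpa using Nat.pow_lt_pow_right hM.prime.one_lt one_lt_two
  omega

omit hp2 in
theorem only_two {q s : ℕ} (hσ : ∀ a ∈ A, a ≠ 1 → PiNat {q, s} (Nat.card (θ a))) {H : Subgroup G}
    (hH : H ∈ Cfsg.signalizerFamily p A θ) {t : ℕ} (ht : t.Prime) (htq : t ≠ q) (hts : t ≠ s) :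
    Cfsg.pCoreOf t H = ⊥ := by
  haveI := Fact.mk ht
  have hS := hM.toSetup
  obtain ⟨k, hk⟩ := IsPGroup.iff_card.1 (oq_isPGroup t H)
  cases k with
  | zero => exact Subgroup.card_eq_one.1 (by simpa using hk)
  | succ k =>
    have := hS.piNat_member (hS.oq_mem hH t) (fun a ha ha1 => (hσ a ha ha1).of_dvd
      (Subgroup.card_dvd_of_le ((hS.oq_mem hH t).2.2.2 a ha ha1))) t ht
      (hk ▸ dvd_pow_self t k.succ_ne_zero)
    rcases this with h | h
    · exact absurd h htq
    · exact absurd h hts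

omit hp2 in
theorem incomplete_line {M E : Subgroup G} (hMax : IsMax p A θ M) (hEA : E ≤ A)
    (hE : Nat.card E = p ^ 2) (h : ∀ e ∈ E, e ≠ 1 → θ e ≤ M) : False :=
  hM.incomplete ⟨M, hMax.1, fun _ ha ha1 => hM.toSetup.theta_le_of ha ha1 hEA hE.ge
    fun e he he1 => inf_le_right.trans (h e he he1)⟩

theorem ne_two_ne_p {q : ℕ} [Fact q.Prime] {M : Subgroup G}
    (hMm : M ∈ Cfsg.signalizerFamily p A θ) (hq : Cfsg.pCoreOf q M ≠ ⊥) : q ≠ 2 ∧ q ≠ p := by
  have hd : q ∣ Nat.card M := by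
    obtain ⟨k, hk⟩ := IsPGroup.iff_card.1 (oq_isPGroup q M)
    cases k with
    | zero => exact absurd (Subgroup.card_eq_one.1 (by simpa using hk)) hq
    | succ k => exact (hk ▸ dvd_pow_self q k.succ_ne_zero).trans (Subgroup.card_dvd_of_le (oq_le q M))
  exact ⟨fun h => (odd_card hp2 hM hMm).not_two_dvd_nat (h ▸ hd), fun h => hMm.2.1 (h ▸ hd)⟩

/-- Two primes, some maximal member having both components. -/
theorem mixed_false {q s : ℕ} [Fact q.Prime] [Fact s.Prime] (hqs : q ≠ s)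
    (hσ : ∀ a ∈ A, a ≠ 1 → PiNat {q, s} (Nat.card (θ a))) {M : Subgroup G} (hMax : IsMax p A θ M)
    (hq : Cfsg.pCoreOf q M ≠ ⊥) (hs : Cfsg.pCoreOf s M ≠ ⊥) : False := by
  classical
  haveI := Fact.mk hM.prime
  have hS := hM.toSetup
  obtain ⟨hq2, hqp⟩ := ne_two_ne_p hp2 hM hMax.1 hq
  obtain ⟨-, hsp⟩ := ne_two_ne_p hp2 hM hMax.1 hs
  set P := Cfsg.pCoreOf q M with hPdef
  set V := Cfsg.pCoreOf s M with hVdef
  set Z := P ⊓ Subgroup.centralizer (P : Set G) with hZdef
  have hNZ : Subgroup.normalizer (P : Set G) ≤ Subgroup.normalizer (Z : Set G) :=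
    le_normalizer_inf le_rfl (SignalizerCoprime.le_normalizer_centralizer le_rfl)
  have hZm : Z ∈ Cfsg.signalizerFamily p A θ := mem_family_of_le (hS.oq_mem hMax.1 q) inf_le_left
    ((hS.le_normalizer (hS.oq_mem hMax.1 q)).trans hNZ)
  obtain ⟨B, hBA, hB, hX1⟩ := exists_line hM hZm (S := ⊥) fun h =>
    fixed_ne_bot (oq_isPGroup q M) (oq_isPGroup q M) hq Subgroup.le_normalizer (le_bot_iff.1 h)
  set X := Z ⊓ Subgroup.centralizer (B : Set G) with hXdef
  have hXm : X ∈ Cfsg.signalizerFamily p A θ :=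
    hS.member_inf hZm (hS.A_le_normalizer_centralizer hBA)
  have hXθ : ∀ b ∈ B, b ≠ 1 → X ≤ θ b := fun b hb hb1 x hx => hXm.2.2.2 b (hBA hb) hb1
    ⟨hx, Subgroup.centralizer_le (Set.singleton_subset_iff.2 hb) hx.2⟩
  have hdich : ∀ L, IsMax p A θ L → ∀ b ∈ B, b ≠ 1 → θ b ≤ L →
      L = M ∨ ∀ t : ℕ, t.Prime → t ≠ q → Cfsg.pCoreOf t L = ⊥ := fun L hL b hb hb1 hle =>
    two_primes_unique hM hqs hσ hMax hq hs hXm (fun h => hX1 h.le)
      (le_normalizer_inf ((hMax.2.1.trans (le_normalizer_oq q M)).trans hNZ)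
        (hS.T_le_normalizer_centralizer hBA))
      (inf_le_left.trans inf_le_left)
      (fun y hy x hx => ((Subgroup.mem_inf.1 (Subgroup.mem_inf.1 hx).1).2 y hy).symm)
      hL ((hXθ b hb hb1).trans hle)
  obtain ⟨b0, hb0, hb01, hb0M⟩ : ∃ b ∈ B, b ≠ 1 ∧ ¬ θ b ≤ M := by
    by_contra h
    push Not at h
    exact incomplete_line hM hMax hBA hB h
  obtain ⟨N, hN, hb0N⟩ := hS.exists_max_theta (hBA hb0) hb01
  have hNp : ∀ t : ℕ, t.Prime → t ≠ q → Cfsg.pCoreOf t N = ⊥ :=
    (hdich N hN b0 hb0 hb01 hb0N).resolve_left fun h => hb0M (h ▸ hb0N)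
  have hMN : ∀ b ∈ B, b ≠ 1 → θ b ≤ M ∨ θ b ≤ N := by
    intro b hb hb1
    obtain ⟨L, hL, hle⟩ := hS.exists_max_theta (hBA hb) hb1
    rcases hdich L hL b hb hb1 hle with h | h
    · exact Or.inl (h ▸ hle)
    · exact Or.inr (pureUnique hp2 hM q Fact.out L N hL hN h hNp ▸ hle)
  set P' := Cfsg.pCoreOf q N with hP'def
  have hP'1 : P' ≠ ⊥ := fun h => hb0M (by
    have hN1 : N = ⊥ := by
      by_contra hne
      obtain ⟨t, ht, htN⟩ := exists_oq_ne_bot hN.1.1 hne
      exact htN (if htq : t = q then htq ▸ h else hNp t ht htq)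
    exact (hN1 ▸ hb0N).trans bot_le)
  obtain ⟨W, hW, hWT, hWpi, hWmax⟩ := exists_W1 hM q
  have hWq : IsPGroup q W := isPGroup_of_piNat hWpi
  have hPW : P ≤ W := hWmax P (hS.oq_mem hMax.1 q) (hMax.2.1.trans (le_normalizer_oq q M))
    (piNat_of_isPGroup (oq_isPGroup q M) rfl)
  have hP'W : P' ≤ W := hWmax P' (hS.oq_mem hN.1 q) (hN.2.1.trans (le_normalizer_oq q N))
    (piNat_of_isPGroup (oq_isPGroup q N) rfl)
  have hWN : W ≤ N := by
    obtain ⟨R, hRN, -, hR⟩ := pure_sylow hp2 hM hN hNp hP'1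
    obtain ⟨W', hWW', hW'⟩ := exists_isMaxMember_ge hW hWq
    obtain ⟨c, hc, hcR⟩ := isMaxMember_conj hM.hA hM.hcard.ge hM.hθ hqp hR hW'
    refine hWW'.trans (hcR ▸ ?_)
    rintro _ ⟨y, hy, rfl⟩
    exact mul_mem (mul_mem (hN.2.1 hc) (hRN hy)) (inv_mem (hN.2.1 hc))
  have hT : ∀ c ∈ A, ∀ t ∈ Cfsg.signalizerInf A θ,
      t ∈ Subgroup.normalizer (Subgroup.zpowers c : Set G) :=
    fun c hc t ht => mem_normalizer_zpowers_of_comm (hS.T_centralizes hc ht)
  -- the only maximal member containing `P` and `V`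
  have hPV : ∀ L, IsMax p A θ L → P ≤ L → V ≤ L → L = M := by
    intro L hL hPL hVL
    have hcross : ∀ (q s : ℕ) [Fact q.Prime] [Fact s.Prime], q ≠ s → Cfsg.pCoreOf s M ≠ ⊥ →
        Cfsg.pCoreOf q M ≤ L →
        Cfsg.pCoreOf q M ≤ Subgroup.centralizer (Cfsg.pCoreOf s L : Set G) :=
      fun q s _ _ hqs hs hle x hx u hu =>
        centralizes_member hM hMax hqs hs (hS.oq_mem hL.1 s) (oq_isPGroup s L)
          (hL.2.1.trans (le_normalizer_oq s L)) hx (le_normalizer_oq s L (hle hx)) u hu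
    have hPc := hcross q s hqs hs hPL
    have hVc := hcross s q hqs.symm hq hVL
    refine (max_eq_of_comps hM hMax hL ?_ ?_ hqs hq hs).symm
    · intro t ht
      by_cases htq : t = q
      · exact htq ▸ hPL
      by_cases hts : t = s
      · exact hts ▸ hVL
      rw [only_two hM hσ hMax.1 ht htq hts]
      exact bot_le
    · intro t ht
      by_cases htq : t = q
      · subst htq
        exact hM.le_max_oq hMax hs (hS.oq_mem hL.1 t)
          ((Subgroup.le_centralizer_iff.1 hVc).trans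
              (SignalizerCoprime.centralizer_le_normalizer V))
      by_cases hts : t = s
      · subst hts
        exact hM.le_max_oq hMax hq (hS.oq_mem hL.1 t)
          ((Subgroup.le_centralizer_iff.1 hPc).trans
              (SignalizerCoprime.centralizer_le_normalizer P))
      rw [only_two hM hσ hL.1 ht htq hts]
      exact bot_le
  -- `V` meets `N` trivially
  have hVN : V ⊓ N = ⊥ := by
    set K := P' ⊔ P with hK
    have hKW : K ≤ W := sup_le hP'W hPW
    have hKA : A ≤ Subgroup.normalizer (K : Set G) := le_normalizer_sup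
      (hS.le_normalizer (hS.oq_mem hN.1 q)) (hS.le_normalizer (hS.oq_mem hMax.1 q))
    have hKT : Cfsg.signalizerInf A θ ≤ Subgroup.normalizer (K : Set G) := le_normalizer_sup
      (hN.2.1.trans (le_normalizer_oq q N)) (hMax.2.1.trans (le_normalizer_oq q M))
    have hKm := mem_family_of_le hW hKW hKA
    set U := K ⊓ M with hU
    have hUm : U ∈ Cfsg.signalizerFamily p A θ := hS.member_inf hKm (hS.le_normalizer hMax.1)
    have hKq : IsPGroup q K := hWq.to_le hKW
    have hfix : ∀ x ∈ V ⊓ N, ∀ y ∈ P', y * x = x * y := by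
      intro x hx y hy
      have hxV := (Subgroup.mem_inf.1 hx).1
      have hxK : x ∈ Subgroup.normalizer (K : Set G) := le_normalizer_sup
        (inf_le_right.trans (le_normalizer_oq q N))
        ((inf_le_left.trans (oq_le s M)).trans (le_normalizer_oq q M)) hx
      have hxU : x ∈ Subgroup.normalizer (U : Set G) := Subgroup.inf_normalizer_le_normalizer_inf
        (Subgroup.mem_inf.2 ⟨hxK, Subgroup.le_normalizer (oq_le s M hxV)⟩)
      have hxUc := centralizes_member hM hMax hqs.symm hq hUm (hKq.to_le inf_le_left)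
        (le_normalizer_inf hKT (hMax.2.1.trans Subgroup.le_normalizer)) hxV hxU
      refine centralizes_of_self_centralizing hKq ?_ hxK (inf_le_left : U ≤ K) hxUc ?_ y
        (Subgroup.mem_sup_left hy)
      · obtain ⟨k, hk⟩ := IsPGroup.iff_orderOf.1 (oq_isPGroup s M) ⟨x, hxV⟩
        rw [Subgroup.orderOf_mk] at hk
        rw [hk]
        exact fun h => hqs ((Nat.prime_dvd_prime_iff_eq Fact.out Fact.out).1
          ((Fact.out : q.Prime).dvd_of_dvd_pow h))
      rintro z ⟨hzK, hzC⟩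
      refine ⟨hzK, hM.le_max_oq hMax hq (hS.member_inf hKm
        ((hS.le_normalizer (hS.oq_mem hMax.1 q)).trans Subgroup.le_normalizer)) inf_le_right
        ⟨hzK, SignalizerCoprime.centralizer_le_normalizer P (Subgroup.centralizer_le
          (fun w hw => Subgroup.mem_inf.2 ⟨Subgroup.mem_sup_right hw, oq_le q M hw⟩) hzC)⟩⟩
    refine le_bot_iff.1 (le_trans (le_oq_of_commute hN.1.1 inf_le_right
      ((oq_isPGroup s M).to_le inf_le_left) fun t ht => ?_) (hNp s Fact.out hqs.symm).le)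
    by_cases htq : t = q
    · subst htq
      exact fun x hx y hy => hfix x hx y hy
    · rw [hNp t ht htq]
      exact fun x _ y hy => by rw [Subgroup.mem_bot.1 hy, one_mul, mul_one]
  have hV1 : V ≠ ⊥ := hs
  -- no element with value outside `M` centralises `P'`
  have hmove : ∀ c ∈ B, c ≠ 1 → ¬ θ c ≤ M →
      ¬ P' ≤ Subgroup.centralizer ({c} : Set G) := by
    intro c hc hc1 hcM h
    have hNc : N ≤ Subgroup.centralizer ({c} : Set G) :=
      centralizes_of_comps hN.1.1 hN.1.2.1 (hM.hA.2 c (hBA hc))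
        (hS.le_normalizer hN.1 (hBA hc)) fun t ht y hy => by
          by_cases htq : t = q
          · subst htq
            exact mem_centralizer_singleton.1 (h hy)
          · rw [hNp t ht htq, Subgroup.mem_bot] at hy
            rw [hy, one_mul, mul_one]
    exact hcM (theta_le_of_line hp2 hM hMax hBA hB hc hc1 fun b hb hbc =>
      (hMN b hb fun h1 => hbc (h1 ▸ one_mem _)).imp id fun h1 => h1.trans hNc)
  set W0 := W ⊓ M with hW0
  have hW0A : A ≤ Subgroup.normalizer (W0 : Set G) :=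
    le_normalizer_inf (hS.le_normalizer hW) (hS.le_normalizer hMax.1)
  have hW0T : Cfsg.signalizerInf A θ ≤ Subgroup.normalizer (W0 : Set G) :=
    le_normalizer_inf hWT (hMax.2.1.trans Subgroup.le_normalizer)
  have hW0q : IsPGroup q W0 := hWq.to_le inf_le_left
  have hPW0 : P ≤ W0 := le_inf hPW (oq_le q M)
  have hcV : ∀ c ∈ B, c ≠ 1 → ¬ θ c ≤ M →
      ⁅W0, Subgroup.zpowers c⁆ ≤ Subgroup.centralizer (V : Set G) := by
    intro c hc hc1 hcM
    refine BGCoprimeFPF.commutator_centralizes_sylow (ℓ := s) hM.prime Fact.out hp2 hq2 hqp.symm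
      hqs.symm hsp (hM.hA.2 c (hBA hc)) (oq_isPGroup s M) hW0q
      (inf_le_right.trans (le_normalizer_oq s M))
      (hS.le_normalizer (hS.oq_mem hMax.1 s) (hBA hc)) (hW0A (hBA hc)) (le_bot_iff.1 ?_)
    rw [← hVN]
    exact le_inf inf_le_left (((hS.oq_mem hMax.1 s).2.2.2 c (hBA hc) hc1).trans
      ((hMN c hc hc1).resolve_left hcM))
  have hWM : W ≤ M := by
    by_contra hne
    obtain ⟨n, hnW, hn0, hnN⟩ := exists_normalizer_grows hWq (inf_le_left : W0 ≤ W)
      fun h => hne (h ▸ inf_le_right)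
    refine hn0 ((?_ : W ⊓ Subgroup.normalizer (W0 : Set G) ≤ W0) ⟨hnW, hnN⟩)
    have hXA : A ≤ Subgroup.normalizer
        ((W ⊓ Subgroup.normalizer (W0 : Set G) : Subgroup G) : Set G) :=
      le_normalizer_inf (hS.le_normalizer hW) (hW0A.trans Subgroup.le_normalizer)
    have hXm := mem_family_of_le hW inf_le_left hXA
    refine hS.le_of_points hBA hB.ge (hBA.trans hXA) hXm.2.1 fun c hc hc1 => ?_
    refine le_inf (inf_le_left.trans inf_le_left) ?_
    by_cases hcM : θ c ≤ M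
    · exact (hXm.2.2.2 c (hBA hc) hc1).trans hcM
    set Uc := ⁅W0, Subgroup.zpowers c⁆ with hUc
    have hcW0 : Subgroup.zpowers c ≤ Subgroup.normalizer (W0 : Set G) :=
      (Subgroup.zpowers_le.2 (hBA hc)).trans hW0A
    have hUcW : Uc ≤ W0 := CoprimeAction.commutator_le_self_of_le_normalizer hcW0
    have hUc1 : Uc ≠ ⊥ := by
      intro h
      rw [hUc, Subgroup.commutator_eq_bot_iff_le_centralizer] at h
      refine hmove c hc hc1 hcM fun y hy => mem_centralizer_singleton.2 ?_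
      refine centralizes_of_self_centralizing hWq ?_ (hS.le_normalizer hW (hBA hc)) inf_le_left
        (fun w hw => (h hw c (Subgroup.mem_zpowers c)).symm) ?_ y (hP'W hy)
      · rw [orderOf_eq_prime (hM.hA.2 c (hBA hc)) hc1]
        exact fun h => hqp ((Nat.prime_dvd_prime_iff_eq Fact.out hM.prime).1 h)
      rintro z ⟨hzW, hzC⟩
      refine ⟨hzW, hM.le_max_oq hMax hq (hS.member_inf hW
        ((hS.le_normalizer (hS.oq_mem hMax.1 q)).trans Subgroup.le_normalizer)) inf_le_right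
        ⟨hzW, SignalizerCoprime.centralizer_le_normalizer P (Subgroup.centralizer_le hPW0 hzC)⟩⟩
    have hUcA : A ≤ Subgroup.normalizer (Uc : Set G) :=
      le_normalizer_commutator hW0A (SFTLines.le_normalizer_zpowers hM.hA (hBA hc))
    obtain ⟨L, hL, hLle⟩ := exists_norm_max hM
      (mem_family_of_le hW (hUcW.trans inf_le_left) hUcA) hUc1
      (le_normalizer_commutator hW0T (hT c (hBA hc)))
    have hLM : L = M := hPV L hL
      (hLle P (hS.oq_mem hMax.1 q)
        (hPW0.trans (Subgroup.normalizer_commutator_ge_left _ _)))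
      (hLle V (hS.oq_mem hMax.1 s) ((Subgroup.le_centralizer_iff.1 (hcV c hc hc1 hcM)).trans
        (SignalizerCoprime.centralizer_le_normalizer _)))
    rw [← hLM]
    exact hLle _ (hS.member_inf hXm (hS.A_le_normalizer_centralizer (by simpa using hBA hc)))
      (le_normalizer_commutator (inf_le_left.trans inf_le_right) fun g hg =>
        mem_normalizer_zpowers_of_comm (mem_centralizer_singleton.1 hg.2))
  -- the final step
  set U := ⁅P', Subgroup.zpowers b0⁆ with hU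
  have hb0A := hBA hb0
  have hbP' : Subgroup.zpowers b0 ≤ Subgroup.normalizer (P' : Set G) :=
    (Subgroup.zpowers_le.2 hb0A).trans (hS.le_normalizer (hS.oq_mem hN.1 q))
  have hUP : U ≤ P' := CoprimeAction.commutator_le_self_of_le_normalizer hbP'
  have hU1 : U ≠ ⊥ := by
    intro h
    rw [hU, Subgroup.commutator_eq_bot_iff_le_centralizer] at h
    exact hmove b0 hb0 hb01 hb0M (h.trans (Subgroup.centralizer_le
      (Set.singleton_subset_iff.2 (Subgroup.mem_zpowers b0))))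
  have hθU : θ b0 ≤ Subgroup.normalizer (U : Set G) :=
    le_normalizer_commutator (hb0N.trans (le_normalizer_oq q N)) fun g hg =>
      mem_normalizer_zpowers_of_comm (mem_centralizer_singleton.1 (hS.theta_le hb0A hb01 hg))
  obtain ⟨L, hL, hLle⟩ := exists_norm_max hM
    (mem_family_of_le (hS.oq_mem hN.1 q) hUP (le_normalizer_commutator
      (hS.le_normalizer (hS.oq_mem hN.1 q)) (SFTLines.le_normalizer_zpowers hM.hA hb0A)))
    hU1 ((hS.T_le hb0A hb01).trans hθU)
  have hb0L : θ b0 ≤ L := hLle _ (hS.theta_mem hb0A hb01) hθU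
  have hVL : V ≤ L := hLle V (hS.oq_mem hMax.1 s) ((Subgroup.le_centralizer_iff.1
    ((Subgroup.commutator_mono (le_inf hP'W (hP'W.trans hWM)) le_rfl).trans
      (hcV b0 hb0 hb01 hb0M))).trans (SignalizerCoprime.centralizer_le_normalizer U))
  rcases hdich L hL b0 hb0 hb01 hb0L with h | h
  · exact hb0M (h ▸ hb0L)
  · have hLN := pureUnique hp2 hM q Fact.out L N hL hN h hNp
    exact hV1 (le_bot_iff.1 (hVN ▸ le_inf le_rfl (hLN ▸ hVL)))

/-- Two primes, all maximal members having one component. -/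
theorem pure_false {q s : ℕ} [Fact q.Prime] [Fact s.Prime] (hqs : q ≠ s)
    (hσ : ∀ a ∈ A, a ≠ 1 → PiNat {q, s} (Nat.card (θ a)))
    (hpure : ∀ M, IsMax p A θ M → Cfsg.pCoreOf q M = ⊥ ∨ Cfsg.pCoreOf s M = ⊥) : False := by
  haveI := Fact.mk hM.prime
  have hS := hM.toSetup
  have hq_of : ∀ {L : Subgroup G}, IsMax p A θ L → Cfsg.pCoreOf s L = ⊥ →
      ∀ t : ℕ, t.Prime → t ≠ q → Cfsg.pCoreOf t L = ⊥ :=
    fun hL h t ht htq => if hts : t = s then hts ▸ h else only_two hM hσ hL.1 ht htq hts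
  have hs_of : ∀ {L : Subgroup G}, IsMax p A θ L → Cfsg.pCoreOf q L = ⊥ →
      ∀ t : ℕ, t.Prime → t ≠ s → Cfsg.pCoreOf t L = ⊥ :=
    fun hL h t ht hts => if htq : t = q then htq ▸ h else only_two hM hσ hL.1 ht htq hts
  have hall : ∀ {L : Subgroup G}, IsMax p A θ L → (∀ a ∈ A, a ≠ 1 → θ a ≤ L) → False :=
    fun hL h => hM.incomplete ⟨_, hL.1, h⟩
  obtain ⟨a₀, ha₀, ha₀1⟩ := hS.exists_ne_one
  obtain ⟨L0, hL0, -⟩ := hS.exists_max_theta ha₀ ha₀1
  obtain ⟨M, hMax, hMq⟩ : ∃ M, IsMax p A θ M ∧ Cfsg.pCoreOf q M ≠ ⊥ := by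
    by_contra h
    push Not at h
    refine hall hL0 fun a ha ha1 => ?_
    obtain ⟨L, hL, hle⟩ := hS.exists_max_theta ha ha1
    rwa [pureUnique hp2 hM s Fact.out L L0 hL hL0 (hs_of hL (h L hL)) (hs_of hL0 (h L0 hL0))] at hle
  obtain ⟨N, hNax, hNs⟩ : ∃ N, IsMax p A θ N ∧ Cfsg.pCoreOf s N ≠ ⊥ := by
    by_contra h
    push Not at h
    refine hall hL0 fun a ha ha1 => ?_
    obtain ⟨L, hL, hle⟩ := hS.exists_max_theta ha ha1
    rwa [pureUnique hp2 hM q Fact.out L L0 hL hL0 (hq_of hL (h L hL)) (hq_of hL0 (h L0 hL0))] at hle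
  have hMs : Cfsg.pCoreOf s M = ⊥ := (hpure M hMax).resolve_left hMq
  have hNq : Cfsg.pCoreOf q N = ⊥ := (hpure N hNax).resolve_right hNs
  have hMp := hq_of hMax hMs
  have hNp := hs_of hNax hNq
  have hne : M ≠ N := fun h => hMq (h ▸ hNq)
  have hMN : ∀ a ∈ A, a ≠ 1 → θ a ≤ M ∨ θ a ≤ N := by
    intro a ha ha1
    obtain ⟨L, hL, hle⟩ := hS.exists_max_theta ha ha1
    rcases hpure L hL with h | h
    · exact Or.inr (pureUnique hp2 hM s Fact.out L N hL hNax (hs_of hL h) hNp ▸ hle)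
    · exact Or.inl (pureUnique hp2 hM q Fact.out L M hL hMax (hq_of hL h) hMp ▸ hle)
  obtain ⟨-, hqp⟩ := ne_two_ne_p hp2 hM hMax.1 hMq
  obtain ⟨hs2, hsp⟩ := ne_two_ne_p hp2 hM hNax.1 hNs
  set P := Cfsg.pCoreOf q M with hPdef
  set V := Cfsg.pCoreOf s N with hVdef
  set D := V ⊓ M with hD
  have hDA : A ≤ Subgroup.normalizer (D : Set G) :=
    le_normalizer_inf (hS.le_normalizer (hS.oq_mem hNax.1 s)) (hS.le_normalizer hMax.1)
  have hDU : ∀ u ∈ P ⊓ N, ∀ d ∈ D, u * d = d * u := fun u hu d hd =>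
    commute_of_normalize (inf_eq_bot_of_primes ((oq_isPGroup q M).to_le inf_le_left)
      ((oq_isPGroup s N).to_le inf_le_left) hqs) hu hd
      (Subgroup.inf_normalizer_le_normalizer_inf (Subgroup.mem_inf.2
        ⟨le_normalizer_oq s N (Subgroup.mem_inf.1 hu).2,
          Subgroup.le_normalizer (oq_le q M (Subgroup.mem_inf.1 hu).1)⟩))
      (Subgroup.inf_normalizer_le_normalizer_inf (Subgroup.mem_inf.2
        ⟨le_normalizer_oq q M (Subgroup.mem_inf.1 hd).2,
          Subgroup.le_normalizer (oq_le s N (Subgroup.mem_inf.1 hd).1)⟩))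
  have hsD : ∀ c ∈ A, c ≠ 1 → θ c ≤ N → c ∈ Subgroup.centralizer (D : Set G) := by
    intro c hc hc1 hcN
    have hcD : Subgroup.zpowers c ≤ Subgroup.normalizer (D : Set G) :=
      (Subgroup.zpowers_le.2 hc).trans hDA
    have h1 := centralizes_of_fixed (t := q) hM.prime (Fact.out : s.Prime) hp2 hs2 hsp.symm hqs hqp
      (hM.hA.2 c hc) (oq_isPGroup q M) ((oq_isPGroup s N).to_le (inf_le_left : D ≤ V))
      (inf_le_right.trans (le_normalizer_oq q M)) (hS.le_normalizer (hS.oq_mem hMax.1 q) hc)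
      (hDA hc) fun w hw hwc x hx => hDU w ⟨hw, hcN ((hS.oq_mem hMax.1 q).2.2.2 c hc hc1
        ⟨hw, mem_centralizer_singleton.2 hwc⟩)⟩ x hx
    have h2 : ⁅D, Subgroup.zpowers c⁆ = ⊥ := by
      have hle := CoprimeAction.commutator_le_self_of_le_normalizer hcD
      refine le_bot_iff.1 (le_trans (le_oq_of_commute hMax.1.1 (hle.trans inf_le_right)
        ((oq_isPGroup s N).to_le (hle.trans inf_le_left)) fun t ht => ?_) hMs.le)
      by_cases htq : t = q
      · exact htq ▸ h1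
      · rw [hMp t ht htq]
        exact fun x _ y hy => by rw [Subgroup.mem_bot.1 hy, one_mul, mul_one]
    rw [Subgroup.commutator_eq_bot_iff_le_centralizer, Subgroup.le_centralizer_iff] at h2
    exact h2 (Subgroup.mem_zpowers c)
  have hAD : A ≤ Subgroup.centralizer (D : Set G) := by
    intro a ha
    obtain ⟨E, hEA, haE, hE⟩ := exists_le_card_sq hS.isPGroup hM.hcard
      (Subgroup.zpowers_le.2 ha) (fun h => by
        have h1 := congrArg (fun H : Subgroup G => Nat.card H) h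
        rw [Nat.card_zpowers, hM.hcard] at h1
        have h2 := orderOf_le_of_pow_eq_one hM.prime.pos (hM.hA.2 a ha)
        have h3 : p < p ^ 3 := by
          simpa using Nat.pow_lt_pow_right hM.prime.one_lt (show 1 < 3 by norm_num)
        omega)
    have hex : ∀ z ∈ E, z ≠ 1 → ∃ c ∈ E, c ∉ Subgroup.zpowers z ∧ θ c ≤ N := by
      intro z hz hz1
      by_contra h
      push Not at h
      exact finish hM hMax hEA hE hz hz1 fun c hc hcz =>
        (hMN c (hEA hc) fun h1 => hcz (h1 ▸ one_mem _)).resolve_right (h c hc hcz)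
    obtain ⟨z, hz, hz1⟩ := exists_not_mem_zpowers hM hE (one_mem A)
    have hz1' : z ≠ 1 := fun h => hz1 (by rw [h]; exact one_mem _)
    obtain ⟨c1, hc1, hc1z, hc1N⟩ := hex z hz hz1'
    have hc11 : c1 ≠ 1 := fun h => hc1z (h ▸ one_mem _)
    obtain ⟨c2, hc2, hc2c, hc2N⟩ := hex c1 hc1 hc11
    have hle : Subgroup.zpowers c1 ⊔ Subgroup.zpowers c2 ≤ E :=
      sup_le (Subgroup.zpowers_le.2 hc1) (Subgroup.zpowers_le.2 hc2)
    have heq := Subgroup.eq_of_le_of_card_ge hle
      (hE ▸ sq_le_card_sup hM.hA (hEA hc1) hc11 (hEA hc2) hc2c)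
    exact (heq ▸ sup_le (Subgroup.zpowers_le.2 (hsD c1 (hEA hc1) hc11 hc1N))
      (Subgroup.zpowers_le.2 (hsD c2 (hEA hc2) (fun h => hc2c (h ▸ one_mem _)) hc2N))
      : E ≤ _) (haE (Subgroup.mem_zpowers a))
  by_cases hVA : V ≤ Subgroup.centralizer (A : Set G)
  · refine hne (hNax.2.2 M hMax.1 fun x hx => hMax.2.1 (Subgroup.mem_iInf.2 fun a => ?_))
    refine hNax.1.2.2.2 a.1 a.2.1 a.2.2 ⟨hx, centralizes_of_comps hNax.1.1 hNax.1.2.1
      (hM.hA.2 _ a.2.1) (hS.le_normalizer hNax.1 a.2.1) (fun t ht y hy => ?_) hx⟩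
    by_cases hts : t = s
    · subst hts
      exact (hVA hy a.1 a.2.1).symm
    · rw [hNp t ht hts, Subgroup.mem_bot] at hy
      rw [hy, one_mul, mul_one]
  obtain ⟨E, hEA, hE, hEmov⟩ := exists_line hM (hS.oq_mem hNax.1 s) hVA
  refine incomplete_line hM hNax hEA hE fun e he he1 =>
    (hMN e (hEA he) he1).resolve_left fun heM => hEmov fun x hx => ?_
  have hxD : x ∈ D := ⟨hx.1, heM ((hS.oq_mem hNax.1 s).2.2.2 e (hEA he) he1
    ⟨hx.1, Subgroup.centralizer_le (Set.singleton_subset_iff.2 he) hx.2⟩)⟩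
  exact fun b hb => (hAD hb x hxD).symm

theorem minimal_false : False := by
  haveI := Fact.mk hM.prime
  have hS := hM.toSetup
  by_cases hbig : ∀ q s : ℕ, q.Prime → s.Prime → q ≠ s →
      ∃ a ∈ A, a ≠ 1 ∧ ¬ PiNat {q, s} (Nat.card (θ a))
  swap
  · push Not at hbig
    obtain ⟨q, s, hq, hs, hqs, h⟩ := hbig
    haveI := Fact.mk hq
    haveI := Fact.mk hs
    by_cases hmix : ∃ M, IsMax p A θ M ∧ Cfsg.pCoreOf q M ≠ ⊥ ∧ Cfsg.pCoreOf s M ≠ ⊥
    · obtain ⟨M, hMax, h1, h2⟩ := hmix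
      exact mixed_false hp2 hM hqs h hMax h1 h2
    · push Not at hmix
      exact pure_false hp2 hM hqs h fun M hMax => or_iff_not_imp_left.2 (hmix M hMax)
  obtain ⟨a, ha, ha1, hns⟩ := exists_not_static hM
  obtain ⟨q, Q, M, hD, -, hQθ, hmov⟩ := exists_datum hp2 hM ha ha1 hns
  haveI := Fact.mk hD.prime
  have hmoving : ∀ b ∈ A, b ≠ 1 → ¬ IsMax p A θ (θ b) → θ b ≤ M := by
    intro b hb hb1 hbns
    obtain ⟨q', Q', M', hD', hθM', -⟩ := exists_datum hp2 hM hb hb1 hbns
    exact datum_unique hM (pureUnique hp2 hM) hbig hD hD' ▸ hθM'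
  obtain ⟨D, hDA, hDc, hDmov⟩ := exists_line hM hD.mem hmov
  have hex : ∀ z ∈ D, z ≠ 1 → ∃ c ∈ D, c ∉ Subgroup.zpowers z ∧ IsMax p A θ (θ c) := by
    intro z hz hz1
    by_contra h
    push Not at h
    exact finish hM hD.isMax hDA hDc hz hz1 fun c hc hcz =>
      hmoving c (hDA hc) (fun h1 => hcz (h1 ▸ one_mem _)) (h c hc hcz)
  obtain ⟨z, hz, hz1⟩ := exists_not_mem_zpowers hM hDc (one_mem A)
  obtain ⟨b, hb, hbz, hsb⟩ := hex z hz fun h => hz1 (by rw [h]; exact one_mem _)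
  have hb1 : b ≠ 1 := fun h => hbz (h ▸ one_mem _)
  obtain ⟨c, hc, hcb, hsc⟩ := hex b hb hb1
  have hc1 : c ≠ 1 := fun h => hcb (h ▸ one_mem _)
  set Y := ⁅Q ⊓ Subgroup.centralizer (D : Set G), Subgroup.zpowers a⁆ with hY
  have hYd : ∀ d ∈ D, d ≠ 1 → Y ≤ Cfsg.pCoreOf q (θ d) := fun d hd hd1 =>
    (Subgroup.commutator_mono (le_inf inf_le_left fun x hx =>
      hD.mem.2.2.2 d (hDA hd) hd1 ⟨(Subgroup.mem_inf.1 hx).1, Subgroup.centralizer_le
        (Set.singleton_subset_iff.2 hd) (Subgroup.mem_inf.1 hx).2⟩) le_rfl).trans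
      (comm_le_oq hp2 hS (hS.theta_mem (hDA hd) hd1) ha ha1 hD.pgroup hQθ
        (hS.le_normalizer hD.mem ha))
  refine static_inter hM (hDA hc) hc1 (hDA hb) hb1 hcb hsc hsb (q := q) fun h => hDmov ?_
  have hY1 : Y = ⊥ := le_bot_iff.1 (h ▸ le_inf (hYd c hc hc1) (hYd b hb hb1))
  rw [hY, Subgroup.commutator_eq_bot_iff_le_centralizer] at hY1
  exact hY1.trans (Subgroup.centralizer_le
    (Set.singleton_subset_iff.2 (Subgroup.mem_zpowers a)))

omit hp2 hM in
/-- The theorem on groups of order `p ^ 3`. -/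
theorem complete {G : Type u} [Group G] [Finite G] {p : ℕ} (hp2 : p ≠ 2) {A : Subgroup G}
    {θ : G → Subgroup G} (hS : Setup p A θ) : Complete p A θ := by
  suffices h : ∀ n, ∀ (G : Type u) [Group G] [Finite G] (A : Subgroup G) (θ : G → Subgroup G),
      Setup p A θ → weight A θ = n → Complete p A θ from h _ G A θ hS rfl
  intro n
  induction n using Nat.strong_induction_on with
  | _ n ih =>
    intro G _ _ A θ hS hn
    by_contra hinc
    exact minimal_false hp2
      ⟨hS, hinc, fun G' _ _ A' θ' hS' hlt => ih _ (hn ▸ hlt) G' A' θ' hS' rfl⟩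

omit hp2 hM in
/-- The solvable signalizer functor theorem for values of odd order: the values generate a member
meeting every centraliser in exactly the value. -/
theorem closure_mem {p : ℕ} [hp : Fact p.Prime] (hp2 : p ≠ 2) {G : Type u} [Group G] [Finite G]
    {A : Subgroup G} (hA : Cfsg.IsElementaryAbelian p A) (h3 : p ^ 3 ≤ Nat.card A)
    {θ : G → Subgroup G} (hθ : Cfsg.IsSolvableSignalizerFunctor p A θ)
    (hodd : ∀ a ∈ A, a ≠ 1 → Odd (Nat.card (θ a))) :
    (⨆ a : {a : G // a ∈ A ∧ a ≠ 1}, θ a) ∈ Cfsg.signalizerFamily p A θ ∧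
      ∀ a ∈ A, a ≠ 1 →
        (⨆ b : {b : G // b ∈ A ∧ b ≠ 1}, θ b) ⊓ Subgroup.centralizer {a} = θ a := by
  set W := ⨆ a : {a : G // a ∈ A ∧ a ≠ 1}, θ a with hW
  have key : ∀ a ∈ A, ¬ p ∣ Nat.card W ∧ Group.IsSolvable ↥W ∧
      (a ≠ 1 → W ⊓ Subgroup.centralizer {a} ≤ θ a) := by
    intro a ha
    obtain ⟨A₀, hA₀, haA₀, hcard⟩ := SFTExtend.exists_cube hA h3 ha
    have hA₀e := elementaryAbelian_of_le hA hA₀
    obtain ⟨⟨hC1, hC2, hC3, hC4⟩, hsol⟩ := hθ
    have hS : Setup p A₀ θ := ⟨hp.out, hA₀e, hcard,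
      ⟨⟨fun b hb => hC1 b (hA₀ hb), fun b hb => hC2 b (hA₀ hb),
        fun b hb hb1 c hc => hC3 b (hA₀ hb) hb1 c (hA₀ hc),
        fun b hb hb1 c hc => hC4 b (hA₀ hb) hb1 c (hA₀ hc)⟩, fun b hb => hsol b (hA₀ hb)⟩,
      fun b hb => hodd b (hA₀ hb)⟩
    obtain ⟨W₀, hW₀, hW₀θ⟩ := complete hp2 hS
    have hW1 : W = W₀ := by
      refine le_antisymm (iSup_le fun c => ?_) (hS.member_le hW₀ fun b hb hb1 =>
        (hW₀.2.2.2 b hb hb1).trans
          (le_iSup (fun c : {c : G // c ∈ A ∧ c ≠ 1} => θ c.1) ⟨b, hA₀ hb, hb1⟩))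
      refine hS.le_of_forall (le_normalizer_of_forall fun g hg =>
          hC3 c.1 c.2.1 c.2.2 g (hA₀ hg)) (hC2 c.1 c.2.1 c.2.2)
        fun b hb hb1 => (hC4 c.1 c.2.1 c.2.2 b (hA₀ hb) hb1).trans (hW₀θ b hb hb1)
    exact ⟨hW1 ▸ hW₀.2.1, hW1 ▸ hW₀.1, fun ha1 => hW1 ▸ hW₀.2.2.2 a haA₀ ha1⟩
  refine ⟨⟨(key 1 (one_mem A)).2.1, (key 1 (one_mem A)).1, ?_, fun a ha ha1 => (key a ha).2.2 ha1⟩,
    fun a ha ha1 => le_antisymm ((key a ha).2.2 ha1) (le_inf
      (le_iSup (fun c : {c : G // c ∈ A ∧ c ≠ 1} => θ c.1) ⟨a, ha, ha1⟩) (hθ.1.1 a ha ha1))⟩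
  exact forall_conj_mem (le_normalizer_iSup fun c =>
    le_normalizer_of_forall (hθ.1.2.2.1 c.1 c.2.1 c.2.2))

end Cfsg.Agent.SFTOdd56
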