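import Mathlib

/-!
# Pure uniqueness: the numerical bound for one orbit of pieces
-/

set_option autoImplicit false

namespace Cfsg.Agent.SFTPure

theorem eq_three_of_dvd_three {t : ℕ} (ht : t.Prime) (h : t ∣ 3) : t = 3 :=
  (Nat.prime_dvd_prime_iff_eq ht (by norm_num)).1 h

theorem not_dvd_of_mem {p q : ℕ} (hp : p.Prime) (hp2 : p ≠ 2) {n : ℕ}
    (h : n = 1 ∨ n = 2 ∨ n = 4 ∨ (n = 12 ∧ q = 3 ∧ p ≠ q)) : ¬ p ∣ n := by
  intro hd
  rcases h with rfl | rfl | rfl | ⟨rfl, rfl, hpq⟩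
  · exact hp.ne_one (Nat.dvd_one.1 hd)
  · exact hp2 ((Nat.prime_dvd_prime_iff_eq hp Nat.prime_two).1 hd)
  · rw [show (4 : ℕ) = 2 ^ 2 by norm_num] at hd
    exact hp2 ((Nat.prime_dvd_prime_iff_eq hp Nat.prime_two).1 (hp.dvd_of_dvd_pow hd))
  · rw [show (12 : ℕ) = 2 ^ 2 * 3 by norm_num] at hd
    rcases hp.dvd_mul.1 hd with h2 | h3
    · exact hp2 ((Nat.prime_dvd_prime_iff_eq hp Nat.prime_two).1 (hp.dvd_of_dvd_pow h2))
    · exact hpq ((Nat.prime_dvd_prime_iff_eq hp Nat.prime_three).1 h3)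

/-- An orbit without an outer automorphism on its pieces. -/
theorem orbit_numbers_inner {q p t m f i j : ℕ} (hq : q.Prime) (hp : p.Prime) (hp2 : p ≠ 2)
    (ht : t.Prime) (hm : 1 ≤ m) (hf : f ≤ m) (hi : 1 ≤ i) (hij : i ≤ j)
    (hmod : q ^ m ≡ 1 [MOD t]) :
    2 * i ≤ q ^ j * m - f ∧ (q ^ j * m - f ≤ 2 * i → ¬ p ∣ t - 1) := by
  have hdvd : t ∣ q ^ m - 1 := (Nat.modEq_iff_dvd' (Nat.one_le_pow _ _ hq.pos)).1 hmod.symm
  have hlow : (q ^ j - 1) * m ≤ q ^ j * m - f := by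
    rw [Nat.sub_mul, one_mul]
    omega
  rcases hq.eq_two_or_odd' with rfl | hodd
  · have hm2 : 2 ≤ m := by
      by_contra hc
      have : m = 1 := by omega
      subst this
      norm_num at hdvd
      exact ht.ne_one hdvd
    have h2 : ∀ k : ℕ, k + 1 ≤ 2 ^ k := fun k => Nat.lt_two_pow_self
    have hb : (2 ^ j - 1) * 2 ≤ (2 ^ j - 1) * m := Nat.mul_le_mul_left _ hm2
    refine ⟨by have := h2 j; omega, fun hle => ?_⟩
    have hj1 : j = 1 := by
      by_contra hne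
      obtain ⟨k, rfl⟩ : ∃ k, j = k + 2 := ⟨j - 2, by omega⟩
      have := h2 k
      rw [pow_add] at hb hlow hle
      omega
    subst hj1
    have : m = 2 := by omega
    subst this
    have ht3 : t = 3 := eq_three_of_dvd_three ht (by simpa using hdvd)
    exact not_dvd_of_mem hp hp2 (q := 2) (Or.inr (Or.inl (by omega)))
  · have hq3 : 3 ≤ q := by
      have := hq.two_le
      obtain ⟨k, hk⟩ := hodd
      omega
    have h3 : ∀ k : ℕ, 2 * k + 1 ≤ 3 ^ k := by
      intro k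
      induction k with
      | zero => simp
      | succ k ih => rw [pow_succ]; omega
    have hqj : 3 ^ j ≤ q ^ j := Nat.pow_le_pow_left hq3 j
    have hb : (q ^ j - 1) * 1 ≤ (q ^ j - 1) * m := Nat.mul_le_mul_left _ hm
    refine ⟨by have := h3 j; omega, fun hle => ?_⟩
    have hj1 : j = 1 := by
      by_contra hne
      obtain ⟨k, rfl⟩ : ∃ k, j = k + 2 := ⟨j - 2, by omega⟩
      have := h3 k
      rw [pow_add 3] at hqj
      omega
    subst hj1
    rw [pow_one] at hb hlow hle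
    have hq' : q = 3 := by omega
    subst hq'
    have : m = 1 := by omega
    subst this
    have ht2 : t = 2 := (Nat.prime_dvd_prime_iff_eq ht Nat.prime_two).1 (by simpa using hdvd)
    exact not_dvd_of_mem hp hp2 (q := 3) (Or.inl (by omega))

/-- An orbit with an automorphism of order `q` on its pieces. -/
theorem orbit_numbers_outer {q p t m f i j k : ℕ} (hq : q.Prime) (hp : p.Prime) (hp2 : p ≠ 2)
    (hpq : p ≠ q) (ht : t.Prime) (hf : 2 * f ≤ m) (hij : i ≤ j + 1)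
    (hk0 : 0 < k) (hkm : k ≤ m) (hqk : q ∣ k) (hqt : q ∣ t - 1) (hmod : q ^ k ≡ 1 [MOD t]) :
    i ≤ q ^ j * m - f ∧ (q ^ j * m - f ≤ 2 * i → ¬ p ∣ t - 1) ∧
      (q ^ j * m - f = i → j = 0 ∧ q = 2 ∧ t = 3) := by
  have hdvd : t ∣ q ^ k - 1 := (Nat.modEq_iff_dvd' (Nat.one_le_pow _ _ hq.pos)).1 hmod.symm
  have hqk' : q ≤ k := Nat.le_of_dvd hk0 hqk
  have hm2 : 2 ≤ m := by have := hq.two_le; omega
  have h2 : ∀ n : ℕ, n + 1 ≤ 2 ^ n := fun n => Nat.lt_two_pow_self
  have hqj : 2 ^ j ≤ q ^ j := Nat.pow_le_pow_left hq.two_le j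
  have hlow : (2 * 2 ^ j - 1) * m ≤ 2 * (q ^ j * m - f) := by
    have h1 : 2 ^ j * m ≤ q ^ j * m := Nat.mul_le_mul_right m hqj
    rw [Nat.sub_mul, one_mul, mul_assoc]
    omega
  have hb : (2 * 2 ^ j - 1) * 2 ≤ (2 * 2 ^ j - 1) * m := Nat.mul_le_mul_left _ hm2
  refine ⟨by have := h2 j; omega, fun hle => ?_, fun he => ?_⟩
  · have hm4 : m ≤ 4 := by
      by_contra hc
      have : (2 * 2 ^ j - 1) * 5 ≤ (2 * 2 ^ j - 1) * m := Nat.mul_le_mul_left _ (by omega)
      have := h2 j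
      omega
    have hq' : q = 2 ∧ (k = 2 ∨ k = 4) ∨ q = 3 ∧ k = 3 := by
      have := hq.two_le
      rcases (by omega : q = 2 ∨ q = 3 ∨ q = 4) with rfl | rfl | rfl
      · left; omega
      · right; omega
      · norm_num at hq
    have ht1 : t - 1 ≠ 0 := by have := ht.two_le; omega
    rcases hq' with ⟨rfl, rfl | rfl⟩ | ⟨rfl, rfl⟩
    · have := eq_three_of_dvd_three ht (by simpa using hdvd)
      exact not_dvd_of_mem hp hp2 (q := 2) (Or.inr (Or.inl (by omega)))
    · rw [show (2 : ℕ) ^ 4 - 1 = 3 * 5 by norm_num] at hdvd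
      rcases ht.dvd_mul.1 hdvd with h | h
      · have := eq_three_of_dvd_three ht h
        exact not_dvd_of_mem hp hp2 (q := 2) (Or.inr (Or.inl (by omega)))
      · have := (Nat.prime_dvd_prime_iff_eq ht (by norm_num)).1 h
        exact not_dvd_of_mem hp hp2 (q := 2) (Or.inr (Or.inr (Or.inl (by omega))))
    · rw [show (3 : ℕ) ^ 3 - 1 = 2 * 13 by norm_num] at hdvd
      rcases ht.dvd_mul.1 hdvd with h | h
      · have := (Nat.prime_dvd_prime_iff_eq ht Nat.prime_two).1 h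
        exfalso
        omega
      · have := (Nat.prime_dvd_prime_iff_eq ht (by norm_num)).1 h
        exact not_dvd_of_mem hp hp2 (q := 3) (Or.inr (Or.inr (Or.inr ⟨by omega, rfl, hpq⟩)))
  · have hj0 : j = 0 := by
      by_contra hne
      obtain ⟨n, rfl⟩ : ∃ n, j = n + 1 := ⟨j - 1, by omega⟩
      have := h2 n
      rw [pow_succ] at hb hlow
      omega
    subst hj0
    simp only [pow_zero, one_mul, mul_one] at hb hlow he
    have hq' : q = 2 := by have := hq.two_le; omega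
    subst hq'
    have : k = 2 := by omega
    subst this
    exact ⟨rfl, rfl, eq_three_of_dvd_three ht (by simpa using hdvd)⟩

end Cfsg.Agent.SFTPure
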