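import Mathlib

/-!
# Pure uniqueness: characters of an elementary abelian group

Hyperplanes of an abelian group of exponent `t` and their characters.
-/

set_option autoImplicit false

namespace Cfsg.Agent.SFTPure

open scoped commutatorElement Pointwise

universe u

variable {G : Type u} [Group G] {t : ℕ} {F K : Subgroup G}

/-- A subgroup of index `t` in `F`. -/
def IsHyp (t : ℕ) (F K : Subgroup G) : Prop := K ≤ F ∧ K.relIndex F = t

theorem conj_smul_mem {g x : G} : x ∈ MulAut.conj g • K ↔ g⁻¹ * x * g ∈ K := by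
  rw [Subgroup.mem_pointwise_smul_iff_inv_smul_mem, ← map_inv, MulAut.smul_def,
    MulAut.conj_apply, inv_inv]

theorem conj_mem_smul {g x : G} (hx : x ∈ K) : g * x * g⁻¹ ∈ MulAut.conj g • K :=
  conj_smul_mem.2 (by simpa [mul_assoc] using hx)

theorem conj_smul_smul (g k : G) :
    MulAut.conj g • MulAut.conj k • K = MulAut.conj (g * k) • K := by
  rw [smul_smul, ← map_mul]

theorem conj_smul_eq {g : G} (hg : g ∈ Subgroup.normalizer (K : Set G)) :
    MulAut.conj g • K = K := by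
  ext x
  rw [conj_smul_mem]
  exact ((Subgroup.mem_normalizer_iff''.1 hg) x).symm

theorem mem_normalizer_of_conj_smul_eq {g : G} (hg : MulAut.conj g • K = K) :
    g ∈ Subgroup.normalizer (K : Set G) :=
  Subgroup.mem_normalizer_iff''.2 fun x => by rw [← conj_smul_mem, hg]

theorem IsHyp.conj (hK : IsHyp t F K) {g : G} (hg : g ∈ Subgroup.normalizer (F : Set G)) :
    IsHyp t F (MulAut.conj g • K) := by
  refine ⟨fun x hx => ?_, ?_⟩
  · have := (Subgroup.mem_normalizer_iff.1 hg _).1 (hK.1 (conj_smul_mem.1 hx))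
    simpa [mul_assoc] using this
  · nth_rw 1 [← conj_smul_eq hg]
    exact (Subgroup.relIndex_map_map_of_injective (f := (MulAut.conj g).toMonoidHom) K F
      (MulAut.conj g).injective).trans hK.2

theorem IsHyp.exists_notMem (hK : IsHyp t F K) (ht : t.Prime) : ∃ x ∈ F, x ∉ K := by
  by_contra hc
  push Not at hc
  have := Subgroup.relIndex_eq_one.2 (show F ≤ K from hc)
  rw [hK.2] at this
  exact ht.ne_one this

theorem IsHyp.eq_or_eq (hK : IsHyp t F K) (ht : t.Prime) {S : Subgroup G} (h1 : K ≤ S)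
    (h2 : S ≤ F) : S = K ∨ S = F := by
  have h := Subgroup.relIndex_mul_relIndex K S F h1 h2
  rw [hK.2] at h
  rcases ht.eq_one_or_self_of_dvd _ (Dvd.intro_left _ h) with h' | h'
  · exact Or.inr (le_antisymm h2 (Subgroup.relIndex_eq_one.1 h'))
  · rw [h'] at h
    have : K.relIndex S = 1 := (mul_eq_right₀ ht.ne_zero).1 h
    exact Or.inl (le_antisymm (Subgroup.relIndex_eq_one.1 this) h1)

theorem IsHyp.eq_of_le (hK : IsHyp t F K) (ht : t.Prime) {K' : Subgroup G} (hK' : IsHyp t F K')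
    (hle : K ≤ K') : K' = K := by
  rcases hK.eq_or_eq ht hle hK'.1 with h | h
  · exact h
  · obtain ⟨x, hx, hxK⟩ := hK'.exists_notMem ht
    exact absurd (h ▸ hx) hxK

theorem IsHyp.sup_eq (hK : IsHyp t F K) (ht : t.Prime) {K' : Subgroup G} (hK' : IsHyp t F K')
    (hne : K' ≠ K) : K ⊔ K' = F := by
  refine (hK.eq_or_eq ht le_sup_left (sup_le hK.1 hK'.1)).resolve_left fun h => ?_
  exact hne (hK'.eq_of_le ht hK (h ▸ le_sup_right)).symm

/-- A homomorphism of `F` onto `ZMod t` with kernel `K`. -/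
structure IsChi (t : ℕ) (F K : Subgroup G) (χ : G → ZMod t) : Prop where
  add : ∀ x ∈ F, ∀ y ∈ F, χ (x * y) = χ x + χ y
  ker : ∀ x ∈ F, χ x = 0 ↔ x ∈ K
  scal : ∃ x₀ ∈ F, χ x₀ = 1 ∧ ∀ ψ : G → ZMod t,
    (∀ x ∈ F, ∀ y ∈ F, ψ (x * y) = ψ x + ψ y) → (∀ x ∈ K, ψ x = 0) →
      ∀ y ∈ F, ψ y = ψ x₀ * χ y

theorem map_pow_of_add {ψ : G → ZMod t} (hadd : ∀ x ∈ F, ∀ y ∈ F, ψ (x * y) = ψ x + ψ y)
    {x : G} (hx : x ∈ F) : ∀ n : ℕ, ψ (x ^ n) = n * ψ x := by
  intro n
  induction n with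
  | zero =>
    have := hadd 1 (one_mem F) 1 (one_mem F)
    rw [mul_one, left_eq_add] at this
    simp [this]
  | succ n ih =>
    rw [pow_succ, hadd _ (pow_mem hx n) _ hx, ih]
    push_cast
    ring

theorem exists_isChi (hK : IsHyp t F K) (ht : t.Prime)
    (hab : ∀ x ∈ F, ∀ y ∈ F, x * y = y * x) (hexp : ∀ x ∈ F, x ^ t = 1) :
    ∃ χ : G → ZMod t, IsChi t F K χ := by
  classical
  have := Fact.mk ht
  obtain ⟨x₀, hx₀, hx₀K⟩ := hK.exists_notMem ht
  have hsup : K ⊔ Subgroup.zpowers x₀ = F := by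
    refine (hK.eq_or_eq ht le_sup_left
      (sup_le hK.1 (Subgroup.zpowers_le.2 hx₀))).resolve_left fun h => ?_
    exact hx₀K (h ▸ Subgroup.mem_sup_right (Subgroup.mem_zpowers x₀))
  have hdec : ∀ y ∈ F, ∃ n : ℕ, y * (x₀ ^ n)⁻¹ ∈ K := by
    intro y hy
    have hn : K ≤ Subgroup.normalizer ((Subgroup.zpowers x₀) : Set G) := fun k hk =>
      Subgroup.mem_normalizer_iff.2 fun z => by
        constructor
        · intro hz
          have hzF : z ∈ F := (Subgroup.zpowers_le.2 hx₀) hz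
          rwa [hab k (hK.1 hk) z hzF, mul_inv_cancel_right]
        · intro hz
          have hzF : k * z * k⁻¹ ∈ F := (Subgroup.zpowers_le.2 hx₀) hz
          have hz2 : z ∈ F := by
            have := mul_mem (mul_mem (inv_mem (hK.1 hk)) hzF) (hK.1 hk)
            simpa [mul_assoc] using this
          rwa [hab k (hK.1 hk) z hz2, mul_inv_cancel_right] at hz
    have hy' : y ∈ ((K ⊔ Subgroup.zpowers x₀ : Subgroup G) : Set G) := by rw [hsup]; exact hy
    rw [Subgroup.coe_mul_of_left_le_normalizer_right _ _ hn] at hy'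
    obtain ⟨k, hk, z, hz, rfl⟩ := hy'
    have hfin : IsOfFinOrder x₀ := isOfFinOrder_iff_pow_eq_one.2 ⟨t, ht.pos, hexp x₀ hx₀⟩
    obtain ⟨n, rfl⟩ := hfin.mem_powers_iff_mem_zpowers.2 hz
    exact ⟨n, by simpa using hk⟩
  let χ : G → ZMod t := fun y => if hy : y ∈ F then ((hdec y hy).choose : ZMod t) else 0
  have huniq : ∀ n m : ℕ, x₀ ^ n * (x₀ ^ m)⁻¹ ∈ K → (n : ZMod t) = m := by
    intro n m h
    by_contra hne
    apply hx₀K
    have h' : x₀ ^ ((n : ℤ) - m) ∈ K := by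
      rwa [zpow_sub, zpow_natCast, zpow_natCast]
    have hcop : IsCoprime ((n : ℤ) - m) (t : ℤ) := by
      refine (IsCoprime.symm ((Nat.prime_iff_prime_int.1 ht).coprime_iff_not_dvd.2 fun hd => ?_))
      have := (ZMod.intCast_zmod_eq_zero_iff_dvd _ t).2 hd
      push_cast at this
      exact hne (sub_eq_zero.1 this)
    obtain ⟨a, b, hab'⟩ := hcop
    have : x₀ = (x₀ ^ ((n : ℤ) - m)) ^ a := by
      rw [← zpow_mul]
      conv_lhs => rw [← zpow_one x₀, ← hab', zpow_add, mul_comm b, zpow_mul x₀ (t : ℤ),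
        zpow_natCast, hexp x₀ hx₀, one_zpow, mul_one, mul_comm a]
    rw [this]
    exact zpow_mem h' a
  have hχ : ∀ y, y ∈ F → ∀ n : ℕ, y * (x₀ ^ n)⁻¹ ∈ K → χ y = n := by
    intro y hy n hn
    simp only [χ, dif_pos hy]
    refine huniq _ _ ?_
    have h2 := mul_mem (inv_mem (hdec y hy).choose_spec) hn
    simpa [mul_assoc] using h2
  refine ⟨χ, fun x hx y hy => ?_, fun x hx => ⟨fun h => ?_, fun h => ?_⟩, x₀, hx₀, ?_, ?_⟩
  · obtain ⟨n, hn⟩ := hdec x hx
    obtain ⟨m, hm⟩ := hdec y hy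
    rw [hχ x hx n hn, hχ y hy m hm, hχ _ (mul_mem hx hy) (n + m) ?_, Nat.cast_add]
    have h3 := mul_mem hn hm
    have e : x * y * (x₀ ^ (n + m))⁻¹ = x * (x₀ ^ n)⁻¹ * (y * (x₀ ^ m)⁻¹) := by
      have c := hab y hy (x₀ ^ n)⁻¹ (inv_mem (pow_mem hx₀ n))
      calc x * y * (x₀ ^ (n + m))⁻¹ = x * y * (x₀ ^ n)⁻¹ * (x₀ ^ m)⁻¹ := by
            rw [Nat.add_comm, pow_add, mul_inv_rev]; group
        _ = x * (y * (x₀ ^ n)⁻¹) * (x₀ ^ m)⁻¹ := by group
        _ = _ := by rw [c]; group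
    rw [e]
    exact h3
  · obtain ⟨n, hn⟩ := hdec x hx
    rw [hχ x hx n hn, ZMod.natCast_eq_zero_iff] at h
    obtain ⟨c, rfl⟩ := h
    rw [pow_mul, hexp x₀ hx₀, one_pow, inv_one, mul_one] at hn
    exact hn
  · rw [hχ x hx 0 (by simpa using h), Nat.cast_zero]
  · rw [hχ x₀ hx₀ 1 (by simp), Nat.cast_one]
  · intro ψ hadd hker y hy
    obtain ⟨n, hn⟩ := hdec y hy
    rw [hχ y hy n hn]
    have := hadd _ (hK.1 hn) (x₀ ^ n) (pow_mem hx₀ n)
    rw [inv_mul_cancel_right] at this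
    rw [this, hker _ hn, map_pow_of_add hadd hx₀ n, zero_add, mul_comm]

variable {χ : G → ZMod t}

theorem IsChi.map_one (h : IsChi t F K χ) : χ 1 = 0 :=
  (h.ker 1 (one_mem F)).2 (one_mem K)

theorem IsChi.map_inv (h : IsChi t F K χ) {x : G} (hx : x ∈ F) : χ x⁻¹ = -χ x := by
  have := h.add x hx x⁻¹ (inv_mem hx)
  rw [mul_inv_cancel, h.map_one] at this
  exact eq_neg_of_add_eq_zero_right this.symm

/-- An element normalising `F` and `K` multiplies the character by a scalar. -/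
theorem IsChi.exists_scalar (h : IsChi t F K χ) {g : G}
    (hF : g ∈ Subgroup.normalizer (F : Set G)) (hK : g ∈ Subgroup.normalizer (K : Set G))
    (hle : K ≤ F) : ∃ u : ZMod t, ∀ y ∈ F, χ (g * y * g⁻¹) = u * χ y := by
  obtain ⟨x₀, hx₀, -, hs⟩ := h.scal
  have hc : ∀ y ∈ F, g * y * g⁻¹ ∈ F := fun y hy => (Subgroup.mem_normalizer_iff.1 hF y).1 hy
  refine ⟨χ (g * x₀ * g⁻¹), hs (fun y => χ (g * y * g⁻¹)) (fun x hx y hy => ?_) fun x hx => ?_⟩
  · rw [← h.add _ (hc x hx) _ (hc y hy)]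
    congr 1
    group
  · exact (h.ker _ (hc x (hle hx))).2 ((Subgroup.mem_normalizer_iff.1 hK x).1 hx)

/-- Elements inducing scalars of order dividing `n` give a small quotient. -/
theorem IsChi.relIndex_ker_le (h : IsChi t F K χ) (ht : t.Prime) (hle : K ≤ F) {n : ℕ} (hn : 0 < n)
    {E N : Subgroup G} (hEF : E ≤ Subgroup.normalizer (F : Set G))
    (hEK : E ≤ Subgroup.normalizer (K : Set G)) (hEn : ∀ g ∈ E, g ^ n = 1)
    (hN : ∀ g ∈ E, g ∈ N ↔ ∀ y ∈ F, χ (g * y * g⁻¹) = χ y) :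
    N.relIndex E ≤ n ∧ (N.relIndex E ≠ 1 → ∃ u : (ZMod t)ˣ, u ^ n = 1 ∧ u ≠ 1) := by
  have := Fact.mk ht
  obtain ⟨x₀, hx₀, hone, -⟩ := h.scal
  have key : ∀ g ∈ E, ∀ y ∈ F, χ (g * y * g⁻¹) = χ (g * x₀ * g⁻¹) * χ y := by
    intro g hg y hy
    obtain ⟨u, hu⟩ := h.exists_scalar (hEF hg) (hEK hg) hle
    rw [hu y hy, hu x₀ hx₀, hone, mul_one]
  let f : ↥E →* ZMod t :=
    { toFun := fun g => χ ((g : G) * x₀ * (g : G)⁻¹)
      map_one' := by simpa using hone
      map_mul' := fun a b => by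
        have hb : (b : G) * x₀ * (b : G)⁻¹ ∈ F :=
          (Subgroup.mem_normalizer_iff.1 (hEF b.2) _).1 hx₀
        rw [← key a a.2 _ hb]
        push_cast
        congr 1
        group }
  have hker : N.subgroupOf E = f.toHomUnits.ker := by
    ext g
    rw [Subgroup.mem_subgroupOf, hN g g.2, MonoidHom.mem_ker, Units.ext_iff,
      MonoidHom.coe_toHomUnits, Units.val_one]
    constructor
    · intro hg
      exact (hg x₀ hx₀).trans hone
    · intro hg y hy
      rw [key g g.2 y hy]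
      change f g * χ y = χ y
      rw [hg, one_mul]
  have hpow : ∀ g, f.toHomUnits g ^ n = 1 := fun g => by
    rw [← map_pow, show g ^ n = 1 from Subtype.ext (by simpa using hEn g g.2)]
    exact _root_.map_one f.toHomUnits
  have hidx : N.relIndex E = Nat.card f.toHomUnits.range := by
    rw [← Subgroup.index_ker, ← hker]
    rfl
  constructor
  · rw [hidx]
    classical
    calc Nat.card f.toHomUnits.range
        ≤ Nat.card {u : (ZMod t)ˣ // u ^ n = 1} :=
          Nat.card_le_card_of_injective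
            (fun x => ⟨x.1, by obtain ⟨g, hg⟩ := x.2; rw [← hg]; exact hpow g⟩)
            (fun a b hab => Subtype.ext (congrArg (fun z => z.1) hab))
      _ ≤ n := by
        rw [Nat.card_eq_fintype_card, Fintype.card_subtype]
        exact IsCyclic.card_pow_eq_one_le hn
  · intro hne
    by_contra hc
    push Not at hc
    apply hne
    rw [hidx, Nat.card_eq_one_iff_unique]
    refine ⟨⟨fun a b => Subtype.ext ?_⟩, ⟨⟨1, one_mem _⟩⟩⟩
    obtain ⟨g, hg⟩ := a.2
    obtain ⟨g', hg'⟩ := b.2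
    rw [← hg, ← hg', hc _ (hpow g), hc _ (hpow g')]

end Cfsg.Agent.SFTPure
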