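import Mathlib

/-!
# Pure uniqueness: the linear statements

A `q`-group of automorphisms of a finite module over `ZMod q` normalising a nilpotent group of
order prime to `q` has few fixed points.
-/

set_option autoImplicit false

namespace Cfsg.Agent.SFTPure

open scoped commutatorElement

universe u

variable {q : ℕ} {V : Type u} [AddCommGroup V] [Module (ZMod q) V]

/-- Automorphisms of the module. -/
abbrev Aut (q : ℕ) (V : Type u) [AddCommGroup V] [Module (ZMod q) V] := V ≃ₗ[ZMod q] V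

/-- The common fixed points of a subgroup. -/
def fix (S : Subgroup (Aut q V)) : Submodule (ZMod q) V where
  carrier := {v | ∀ g ∈ S, g v = v}
  add_mem' := fun {v w} hv hw g hg => by rw [map_add, hv g hg, hw g hg]
  zero_mem' := fun g _ => map_zero g
  smul_mem' := fun c v hv g hg => by rw [map_smul, hv g hg]

theorem mem_fix {S : Subgroup (Aut q V)} {v : V} : v ∈ fix S ↔ ∀ g ∈ S, g v = v := Iff.rfl

theorem fix_antitone {S R : Subgroup (Aut q V)} (h : S ≤ R) : fix R ≤ fix S :=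
  fun _ hv g hg => hv g (h hg)

/-- The span of all `e v - v`, `e ∈ E`. -/
def disp (E : Subgroup (Aut q V)) : Submodule (ZMod q) V :=
  Submodule.span (ZMod q) {w | ∃ e ∈ E, ∃ v, e v - v = w}

/-- The iterated commutators `[F, F, ..., F]`. -/
def lcs {X : Type*} [Group X] (F : Subgroup X) : ℕ → Subgroup X
  | 0 => F
  | n + 1 => ⁅lcs F n, F⁆

/-- The elements of `B` normalising `Q` and centralising `F` modulo `Q`. -/
def kerOn {X : Type*} [Group X] (F Q B : Subgroup X) : Subgroup X where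
  carrier := {b | b ∈ B ∧ b ∈ Subgroup.normalizer (Q : Set X) ∧ ∀ x ∈ F, ⁅x, b⁆ ∈ Q}
  one_mem' := ⟨one_mem _, one_mem _, fun x _ => by simp⟩
  mul_mem' := fun {b c} hb hc => ⟨mul_mem hb.1 hc.1, mul_mem hb.2.1 hc.2.1, fun x hx => by
    have h : ⁅x, b * c⁆ = ⁅x, b⁆ * (b * ⁅x, c⁆ * b⁻¹) := by
      simp only [commutatorElement_def]; group
    rw [h]
    exact mul_mem (hb.2.2 x hx) ((Subgroup.mem_normalizer_iff.1 hb.2.1 _).1 (hc.2.2 x hx))⟩
  inv_mem' := fun {b} hb => ⟨inv_mem hb.1, inv_mem hb.2.1, fun x hx => by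
    have h : ⁅x, b⁻¹⁆ = b⁻¹ * ⁅x, b⁆⁻¹ * b⁻¹⁻¹ := by
      simp only [commutatorElement_def]; group
    rw [h]
    exact (Subgroup.mem_normalizer_iff.1 (inv_mem hb.2.1) _).1 (inv_mem (hb.2.2 x hx))⟩

theorem mem_kerOn {X : Type*} [Group X] {F Q B : Subgroup X} {b : X} :
    b ∈ kerOn F Q B ↔ b ∈ B ∧ b ∈ Subgroup.normalizer (Q : Set X) ∧ ∀ x ∈ F, ⁅x, b⁆ ∈ Q :=
  Iff.rfl

/-- The hypotheses: `F` modulo its normal `q`-subgroup `Q` is nilpotent of order prime to `q`; the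
`p`-group `A` acts; `D` is a `q`-group centralising the fixed points of `A` on `F` modulo `Q`. -/
structure Ctx (q p : ℕ) {V : Type u} [AddCommGroup V] [Module (ZMod q) V]
    (F Q A D : Subgroup (Aut q V)) : Prop where
  le : Q ≤ F
  F_norm_Q : F ≤ Subgroup.normalizer (Q : Set (Aut q V))
  pgroup : IsPGroup q Q
  not_dvd : ¬ q ∣ Q.relIndex F
  nil : ∃ n, lcs F n ≤ Q
  A_pgroup : IsPGroup p A
  A_norm_F : A ≤ Subgroup.normalizer (F : Set (Aut q V))
  A_norm_Q : A ≤ Subgroup.normalizer (Q : Set (Aut q V))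
  A_norm_D : A ≤ Subgroup.normalizer (D : Set (Aut q V))
  p_not_dvd : ¬ p ∣ Nat.card F
  D_pgroup : IsPGroup q D
  D_norm_F : D ≤ Subgroup.normalizer (F : Set (Aut q V))
  D_norm_Q : D ≤ Subgroup.normalizer (Q : Set (Aut q V))
  fixed : ∀ x ∈ F, x ∈ Subgroup.centralizer (A : Set (Aut q V)) → ∀ d ∈ D, ⁅x, d⁆ ∈ Q

/-- An elementary abelian subgroup of `D` moving `F` modulo `Q` has few fixed points. -/
def KPlus : Prop :=
  ∀ (q p : ℕ) [Fact q.Prime] [Fact p.Prime], p ≠ 2 → p ≠ q →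
    ∀ (V : Type u) [AddCommGroup V] [Module (ZMod q) V] [Finite V]
      (F Q A D B : Subgroup (Aut q V)), Ctx q p F Q A D → B ≤ D →
      (∀ a ∈ B, ∀ b ∈ B, a * b = b * a) → (∀ b ∈ B, b ^ q = 1) →
      ¬ B ≤ kerOn F Q B →
      (kerOn F Q B).relIndex B ^ 2 * Nat.card ↥(fix B) < Nat.card V

/-- A quadratic elementary abelian group acting faithfully on a `q'`-group has a conjugate with few
fixed points on its displacement. -/
def ESide : Prop :=
  ∀ (q : ℕ) [Fact q.Prime] (V : Type u) [AddCommGroup V] [Module (ZMod q) V] [Finite V]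
    (F E : Subgroup (Aut q V)), (∃ n, lcs F n = ⊥) → ¬ q ∣ Nat.card F →
    E ≤ Subgroup.normalizer (F : Set (Aut q V)) →
    (∀ a ∈ E, ∀ b ∈ E, a * b = b * a) → (∀ e ∈ E, e ^ q = 1) →
    (∀ e ∈ E, ∀ f ∈ E, ∀ v, f (e v - v) = e v - v) →
    (∀ e ∈ E, (∀ x ∈ F, e * x = x * e) → e = 1) →
    ∃ h ∈ F, Nat.card E * Nat.card ↥(disp E ⊓ fix (E.map (MulAut.conj h).toMonoidHom)) ≤
      Nat.card ↥(disp E)

end Cfsg.Agent.SFTPure
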