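import Mathlib
import Cfsg.Agent.Lib.SFTPureDefs

/-!
# Pure uniqueness: basic coprime linear algebra
-/

set_option autoImplicit false

namespace Cfsg.Agent.SFTPure

open scoped commutatorElement

universe u

set_option linter.unusedSectionVars false

variable {q : ℕ} [hq : Fact q.Prime] {V : Type u} [AddCommGroup V] [Module (ZMod q) V]

theorem pow_apply_add {x : Aut q V} {v w : V} (h : x v = v + w) (hw : x w = w) :
    ∀ n : ℕ, (x ^ n) v = v + n • w := by
  intro n
  induction n with
  | zero => simp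
  | succ n ih =>
    rw [pow_succ', LinearEquiv.mul_apply, ih, map_add, map_nsmul, h, hw, succ_nsmul]
    abel

/-- An element of order prime to `q` fixing `x v - v` fixes `v`. -/
theorem fixed_of_fixed_disp [Finite V] {x : Aut q V} (hx : ¬ q ∣ orderOf x) {v : V}
    (h : x (x v - v) = x v - v) : x v = v := by
  have h1 := pow_apply_add (show x v = v + (x v - v) by abel) h (orderOf x)
  rw [pow_orderOf_eq_one, LinearEquiv.coe_one, id_eq, left_eq_add, ← Nat.cast_smul_eq_nsmul (ZMod q),
    smul_eq_zero] at h1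
  rcases h1 with h1 | h1
  · exact absurd ((ZMod.natCast_eq_zero_iff _ _).1 h1) hx
  · exact sub_eq_zero.1 h1

theorem mem_fix_conj {S : Subgroup (Aut q V)} {g : Aut q V}
    (hg : g ∈ Subgroup.normalizer (S : Set (Aut q V))) {v : V} (hv : v ∈ fix S) : g v ∈ fix S := by
  intro s hs
  have h := hv _ ((Subgroup.mem_normalizer_iff''.1 hg s).1 hs)
  rw [LinearEquiv.mul_apply, LinearEquiv.mul_apply] at h
  have := congrArg g h
  rwa [← LinearEquiv.mul_apply, mul_inv_cancel,
    LinearEquiv.coe_one, id_eq] at this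

/-- An element commuting with `S` maps the fixed points to themselves. -/
theorem mem_fix_comm {S : Subgroup (Aut q V)} {g : Aut q V} (hg : ∀ s ∈ S, s * g = g * s) {v : V}
    (hv : v ∈ fix S) : g v ∈ fix S := by
  intro s hs
  rw [← LinearEquiv.mul_apply, hg s hs, LinearEquiv.mul_apply, hv s hs]

/-- A `q`-group leaving a nonzero submodule invariant fixes a nonzero vector of it. -/
theorem fix_inf_ne_bot [Finite V] {R : Subgroup (Aut q V)} (hR : IsPGroup q R)
    {W : Submodule (ZMod q) V} (hW : W ≠ ⊥) (hRW : ∀ r ∈ R, ∀ w ∈ W, r w ∈ W) :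
    fix R ⊓ W ≠ ⊥ := by
  letI : MulAction ↥R ↥W :=
    { smul := fun r w => ⟨(r : Aut q V) w, hRW r r.2 w w.2⟩
      one_smul := fun w => Subtype.ext rfl
      mul_smul := fun r s w => Subtype.ext rfl }
  have hdvd : q ∣ Nat.card ↥W := by
    haveI : Nontrivial ↥W := (Submodule.nontrivial_iff_ne_bot).2 hW
    have hc := Module.natCard_eq_pow_finrank (K := ZMod q) (V := ↥W)
    rw [Nat.card_zmod] at hc
    rw [hc]
    exact dvd_pow_self q (Module.finrank_pos (R := ZMod q) (M := ↥W)).ne'
  have h0 : (0 : ↥W) ∈ MulAction.fixedPoints ↥R ↥W := fun r => Subtype.ext (map_zero (r : Aut q V))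
  obtain ⟨w, hw, hw0⟩ := hR.exists_fixed_point_of_prime_dvd_card_of_fixed_point ↥W hdvd h0
  intro h
  have hmem : (w : V) ∈ fix R ⊓ W := ⟨fun r hr => congrArg Subtype.val (hw ⟨r, hr⟩), w.2⟩
  rw [h, Submodule.mem_bot] at hmem
  exact hw0 (Subtype.ext hmem.symm)

/-- An element of order prime to `q` centralised by a `q`-group and trivial on its fixed points is
trivial. -/
theorem eq_one_of_fix [Finite V] {R : Subgroup (Aut q V)} (hR : IsPGroup q R) {x : Aut q V}
    (hx : ¬ q ∣ orderOf x) (hxR : ∀ r ∈ R, r * x = x * r) (h : ∀ v ∈ fix R, x v = v) : x = 1 := by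
  set W := LinearMap.range ((x : V →ₗ[ZMod q] V) - LinearMap.id) with hW
  have hmem : ∀ {w}, w ∈ W ↔ ∃ v, x v - v = w := fun {w} => by simp [hW]
  by_contra h1
  have hW1 : W ≠ ⊥ := fun hb => h1 <| LinearEquiv.ext fun v => sub_eq_zero.1 <| by
    have : x v - v ∈ W := hmem.2 ⟨v, rfl⟩
    rwa [hb, Submodule.mem_bot] at this
  refine fix_inf_ne_bot hR hW1 (fun r hr w hw => ?_) ((Submodule.eq_bot_iff _).2 ?_)
  · obtain ⟨v, rfl⟩ := hmem.1 hw
    exact hmem.2 ⟨r v, by rw [map_sub, ← LinearEquiv.mul_apply, ← LinearEquiv.mul_apply, hxR r hr]⟩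
  · rintro w ⟨hw, hwW⟩
    obtain ⟨v, rfl⟩ := hmem.1 hwW
    rw [fixed_of_fixed_disp hx (h _ hw), sub_self]

/-- The order of a submodule. -/
theorem card_submodule [Finite V] (W : Submodule (ZMod q) V) :
    Nat.card ↥W = q ^ Module.finrank (ZMod q) ↥W := by
  have hc := Module.natCard_eq_pow_finrank (K := ZMod q) (V := ↥W)
  rwa [Nat.card_zmod] at hc

theorem finite_aut [Finite V] : Finite (Aut q V) := Finite.of_injective _ DFunLike.coe_injective

/-- The fixed points of a join. -/
theorem fix_sup (S R : Subgroup (Aut q V)) : fix (S ⊔ R) = fix S ⊓ fix R := by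
  refine le_antisymm (le_inf (fix_antitone le_sup_left) (fix_antitone le_sup_right)) ?_
  rintro v ⟨hS, hR⟩ g hg
  let St : Subgroup (Aut q V) :=
    { carrier := {g | g v = v}
      one_mem' := rfl
      mul_mem' := fun {a b} ha hb => by
        simp only [Set.mem_setOf_eq] at ha hb ⊢
        rw [LinearEquiv.mul_apply, hb, ha]
      inv_mem' := fun {a} ha => by
        simp only [Set.mem_setOf_eq] at ha ⊢
        conv_lhs => rw [← ha]
        rw [← LinearEquiv.mul_apply, inv_mul_cancel]
        rfl }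
  exact sup_le (c := St) (fun s hs => hS s hs) (fun r hr => hR r hr) hg

end Cfsg.Agent.SFTPure
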