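import Mathlib
import Cfsg.Agent.Lib.SFTPureRep
import Cfsg.Agent.Lib.SFTPureAbelianChi
import Cfsg.Agent.Lib.SignalizerCoprime

/-!
# Pure uniqueness: the pieces of an elementary abelian group of order prime to `q`

For a hyperplane `K` of `F` the piece of `K` is the part of the fixed points of `K` killed by the
sum over `F`.
-/

set_option autoImplicit false

namespace Cfsg.Agent.SFTPure

open scoped commutatorElement Pointwise

universe u

set_option linter.unusedSectionVars false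
set_option linter.style.haveILetI false

variable {q : ℕ} [hq : Fact q.Prime] {V : Type u} [AddCommGroup V] [Module (ZMod q) V] [Finite V]

/-- The sum of the elements of a subgroup. -/
noncomputable def sumOp (S : Subgroup (Aut q V)) : V →ₗ[ZMod q] V :=
  haveI : Finite (Aut q V) := finite_aut
  letI : Fintype ↥S := Fintype.ofFinite _
  ∑ s : ↥S, ((s : Aut q V) : V →ₗ[ZMod q] V)

theorem sumOp_apply (S : Subgroup (Aut q V)) [Fintype ↥S] (v : V) :
    sumOp S v = ∑ s : ↥S, (s : Aut q V) v := by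
  rw [sumOp, LinearMap.sum_apply]
  simp only [LinearEquiv.coe_coe]
  convert rfl

theorem sumOp_apply_mem {S : Subgroup (Aut q V)} {g : Aut q V} (hg : g ∈ S) (v : V) :
    sumOp S (g v) = sumOp S v := by
  haveI : Finite (Aut q V) := finite_aut
  letI : Fintype ↥S := Fintype.ofFinite _
  rw [sumOp_apply, sumOp_apply]
  exact Fintype.sum_equiv (Equiv.mulRight (⟨g, hg⟩ : ↥S)) _ _ fun s => rfl

theorem apply_sumOp_mem {S : Subgroup (Aut q V)} {g : Aut q V} (hg : g ∈ S) (v : V) :
    g (sumOp S v) = sumOp S v := by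
  haveI : Finite (Aut q V) := finite_aut
  letI : Fintype ↥S := Fintype.ofFinite _
  rw [sumOp_apply, map_sum]
  exact Fintype.sum_equiv (Equiv.mulLeft (⟨g, hg⟩ : ↥S)) _ _ fun s => rfl

theorem sumOp_mem_fix (S : Subgroup (Aut q V)) (v : V) : sumOp S v ∈ fix S :=
  fun _ hg => apply_sumOp_mem hg v

theorem sumOp_of_fix {S : Subgroup (Aut q V)} {v : V} (hv : v ∈ fix S) :
    sumOp S v = (Nat.card ↥S : ZMod q) • v := by
  haveI : Finite (Aut q V) := finite_aut
  letI : Fintype ↥S := Fintype.ofFinite _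
  rw [sumOp_apply, Finset.sum_congr rfl fun (s : ↥S) _ => hv s s.2, Finset.sum_const,
    Finset.card_univ, Nat.card_eq_fintype_card, Nat.cast_smul_eq_nsmul]

theorem sumOp_sumOp {S R : Subgroup (Aut q V)} (h : R ≤ S) (v : V) :
    sumOp S (sumOp R v) = (Nat.card ↥R : ZMod q) • sumOp S v := by
  haveI : Finite (Aut q V) := finite_aut
  letI : Fintype ↥R := Fintype.ofFinite _
  rw [sumOp_apply R, map_sum, Finset.sum_congr rfl fun (s : ↥R) _ => sumOp_apply_mem (h s.2) v,
    Finset.sum_const, Finset.card_univ, Nat.card_eq_fintype_card, Nat.cast_smul_eq_nsmul]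

theorem apply_sumOp (g : Aut q V) (S : Subgroup (Aut q V)) (v : V) :
    g (sumOp S v) = sumOp (MulAut.conj g • S) (g v) := by
  haveI : Finite (Aut q V) := finite_aut
  letI : Fintype ↥S := Fintype.ofFinite _
  letI : Fintype ↥(MulAut.conj g • S) := Fintype.ofFinite _
  rw [sumOp_apply, sumOp_apply, map_sum]
  refine Fintype.sum_equiv (Subgroup.equivSMul (MulAut.conj g) S).toEquiv _ _ fun s => ?_
  change g ((s : Aut q V) v) = (g * s * g⁻¹) (g v)
  rw [← LinearEquiv.mul_apply, ← LinearEquiv.mul_apply, inv_mul_cancel_right]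

theorem apply_sumOp_comm {g : Aut q V} {S : Subgroup (Aut q V)} (hg : ∀ s ∈ S, s * g = g * s)
    (v : V) : g (sumOp S v) = sumOp S (g v) := by
  rw [apply_sumOp, conj_smul_eq]
  exact Subgroup.mem_normalizer_iff''.2 fun s => by
    constructor
    · intro hs
      rwa [mul_assoc, hg s hs, inv_mul_cancel_left]
    · intro hs
      have h := hg _ hs
      have : g⁻¹ * s * g = s := by
        apply mul_right_cancel (b := g)
        rw [h]
        group
      rwa [this] at hs

/-- An elementary abelian `t`-group. -/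
structure Elem (q t : ℕ) {V : Type u} [AddCommGroup V] [Module (ZMod q) V]
    (F : Subgroup (Aut q V)) : Prop where
  prime : t.Prime
  ne : t ≠ q
  comm : ∀ x ∈ F, ∀ y ∈ F, x * y = y * x
  exp : ∀ x ∈ F, x ^ t = 1

variable {t : ℕ} {F K : Subgroup (Aut q V)}

theorem Elem.natCast_ne_zero (h : Elem q t F) : (t : ZMod q) ≠ 0 := fun h0 =>
  h.ne ((Nat.prime_dvd_prime_iff_eq hq.out h.prime).1 ((ZMod.natCast_eq_zero_iff _ _).1 h0)).symm

theorem Elem.isPGroup (h : Elem q t F) {S : Subgroup (Aut q V)} (hS : S ≤ F) : IsPGroup t ↥S :=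
  fun s => ⟨1, Subtype.ext (by simpa using h.exp s (hS s.2))⟩

theorem Elem.card_ne_zero (h : Elem q t F) {S : Subgroup (Aut q V)} (hS : S ≤ F) :
    (Nat.card ↥S : ZMod q) ≠ 0 := by
  haveI : Finite (Aut q V) := finite_aut
  haveI := Fact.mk h.prime
  obtain ⟨n, hn⟩ := IsPGroup.iff_card.1 (h.isPGroup hS)
  rw [hn, Nat.cast_pow]
  exact pow_ne_zero n h.natCast_ne_zero

theorem IsHyp.card_mul (hK : IsHyp t F K) : Nat.card ↥K * t = Nat.card ↥F := by
  have := Subgroup.relIndex_mul_relIndex ⊥ K F bot_le hK.1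
  rwa [Subgroup.relIndex_bot_left, Subgroup.relIndex_bot_left, hK.2] at this

/-- The piece of a hyperplane. -/
noncomputable def pieceX (F K : Subgroup (Aut q V)) : Submodule (ZMod q) V :=
  fix K ⊓ LinearMap.ker (sumOp F)

theorem mem_pieceX {v : V} : v ∈ pieceX F K ↔ v ∈ fix K ∧ sumOp F v = 0 := Iff.rfl

/-- A multiple of the projection on a piece. -/
noncomputable def proj (t : ℕ) (F K : Subgroup (Aut q V)) : V →ₗ[ZMod q] V :=
  (t : ZMod q) • sumOp K - sumOp F

theorem proj_apply (v : V) : proj t F K v = (t : ZMod q) • sumOp K v - sumOp F v := rfl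

theorem proj_mem (hK : IsHyp t F K) (v : V) : proj t F K v ∈ pieceX F K := by
  refine mem_pieceX.2 ⟨Submodule.sub_mem _ (Submodule.smul_mem _ _ (sumOp_mem_fix K v))
    (fix_antitone hK.1 (sumOp_mem_fix F v)), ?_⟩
  rw [proj_apply, map_sub, map_smul, sumOp_sumOp hK.1, sumOp_of_fix (sumOp_mem_fix F v),
    smul_smul, ← hK.card_mul, Nat.cast_mul, mul_comm, sub_self]

theorem proj_of_mem (hK : IsHyp t F K) {v : V} (hv : v ∈ pieceX F K) :
    proj t F K v = (Nat.card ↥F : ZMod q) • v := by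
  rw [proj_apply, (mem_pieceX.1 hv).2, sumOp_of_fix (mem_pieceX.1 hv).1, smul_smul, sub_zero,
    ← hK.card_mul, Nat.cast_mul, mul_comm]

theorem proj_of_mem_other (h : Elem q t F) (hK : IsHyp t F K) {K' : Subgroup (Aut q V)}
    (hK' : IsHyp t F K') (hne : K' ≠ K) {v : V} (hv : v ∈ pieceX F K') : proj t F K v = 0 := by
  rw [proj_apply, (mem_pieceX.1 hv).2, sub_zero]
  suffices h0 : sumOp K v = 0 by rw [h0, smul_zero]
  have h1 : sumOp K v ∈ fix F := by
    rw [← hK.sup_eq h.prime hK' hne, fix_sup]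
    refine ⟨sumOp_mem_fix K v, fun k hk => ?_⟩
    rw [apply_sumOp_comm (fun s hs => h.comm s (hK.1 hs) k (hK'.1 hk)), (mem_pieceX.1 hv).1 k hk]
  have h2 := sumOp_sumOp hK.1 v
  rw [sumOp_of_fix h1, (mem_pieceX.1 hv).2, smul_zero] at h2
  exact (smul_eq_zero.1 h2).resolve_left (h.card_ne_zero le_rfl)

theorem apply_proj {g : Aut q V} (hg : g ∈ Subgroup.normalizer (F : Set (Aut q V))) (v : V) :
    g (proj t F K v) = proj t F (MulAut.conj g • K) (g v) := by
  rw [proj_apply, proj_apply, map_sub, map_smul, apply_sumOp, apply_sumOp, conj_smul_eq hg]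

theorem apply_proj_comm (hK : K ≤ F) {g : Aut q V} (hg : ∀ s ∈ F, s * g = g * s) (v : V) :
    g (proj t F K v) = proj t F K (g v) := by
  rw [proj_apply, proj_apply, map_sub, map_smul, apply_sumOp_comm hg,
    apply_sumOp_comm fun s hs => hg s (hK hs)]

theorem apply_mem_pieceX {g : Aut q V} (hg : g ∈ Subgroup.normalizer (F : Set (Aut q V))) {v : V}
    (hv : v ∈ pieceX F K) : g v ∈ pieceX F (MulAut.conj g • K) := by
  refine mem_pieceX.2 ⟨fun s hs => ?_, ?_⟩
  · have h := (mem_pieceX.1 hv).1 _ (conj_smul_mem.1 hs)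
    rw [LinearEquiv.mul_apply, LinearEquiv.mul_apply] at h
    have h' := congrArg g h
    rwa [← LinearEquiv.mul_apply, mul_inv_cancel, LinearEquiv.coe_one, id_eq] at h'
  · have := apply_sumOp g F v
    rw [conj_smul_eq hg, (mem_pieceX.1 hv).2, map_zero] at this
    exact this.symm

theorem apply_mem_pieceX_comm (hK : K ≤ F) {g : Aut q V} (hg : ∀ s ∈ F, s * g = g * s) {v : V}
    (hv : v ∈ pieceX F K) : g v ∈ pieceX F K := by
  refine mem_pieceX.2 ⟨mem_fix_comm (fun s hs => hg s (hK hs)) (mem_pieceX.1 hv).1, ?_⟩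
  rw [← apply_sumOp_comm hg, (mem_pieceX.1 hv).2, map_zero]

/-- Elements outside the hyperplane act on the piece without fixed points. -/
theorem fpf (h : Elem q t F) (hK : IsHyp t F K) {x : Aut q V} (hx : x ∈ F) (hxK : x ∉ K) {v : V}
    (hv : v ∈ pieceX F K) (hxv : x v = v) : v = 0 := by
  have hsup : K ⊔ Subgroup.zpowers x = F :=
    (hK.eq_or_eq h.prime le_sup_left (sup_le hK.1 (Subgroup.zpowers_le.2 hx))).resolve_left
      fun h' => hxK (h' ▸ Subgroup.mem_sup_right (Subgroup.mem_zpowers x))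
  have h1 : v ∈ fix F := by
    rw [← hsup, fix_sup]
    refine ⟨(mem_pieceX.1 hv).1, fun g hg => ?_⟩
    obtain ⟨n, rfl⟩ := (isOfFinOrder_iff_pow_eq_one.2
      ⟨t, h.prime.pos, h.exp x hx⟩).mem_powers_iff_mem_zpowers.2 hg
    exact pow_apply_of_fixed hxv n
  have h2 := sumOp_of_fix h1
  rw [(mem_pieceX.1 hv).2] at h2
  exact (smul_eq_zero.1 h2.symm).resolve_left (h.card_ne_zero le_rfl)
where
  pow_apply_of_fixed {x : Aut q V} {v : V} (hxv : x v = v) : ∀ n : ℕ, (x ^ n) v = v := by
    intro n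
    induction n with
    | zero => simp
    | succ n ih => rw [pow_succ, LinearEquiv.mul_apply, hxv, ih]

theorem sum_range_pow_fixed {z : Aut q V} {n : ℕ} (hz : z ^ n = 1) (v : V) :
    z (∑ i ∈ Finset.range n, (z ^ i) v) = ∑ i ∈ Finset.range n, (z ^ i) v := by
  have hstep : ∀ i : ℕ, z ((z ^ i) v) = (z ^ (i + 1)) v := fun i => by
    rw [pow_succ', LinearEquiv.mul_apply]
  rw [map_sum, Finset.sum_congr rfl fun i _ => hstep i]
  have h1 := Finset.sum_range_succ' (fun i => (z ^ i) v) n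
  rw [Finset.sum_range_succ, hz, pow_zero] at h1
  exact (add_right_cancel h1).symm

/-- A nontrivial element of `F` avoids the hyperplane of some nonzero piece. -/
theorem exists_piece (h : Elem q t F) {x : Aut q V} (hx : x ∈ F) (hx1 : x ≠ 1) :
    ∃ K, IsHyp t F K ∧ pieceX F K ≠ ⊥ ∧ x ∉ K := by
  haveI : Finite (Aut q V) := finite_aut
  haveI := Fact.mk h.prime
  let Pr : Subgroup (Aut q V) → Prop := fun S => S ≤ F ∧ ∃ v ∈ fix S, x v ≠ v
  have h0 : Pr ⊥ := by
    obtain ⟨v, hv⟩ := not_forall.1 fun hall => hx1 (LinearEquiv.ext hall)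
    exact ⟨bot_le, v, fun g hg => by rw [Subgroup.mem_bot.1 hg]; rfl, hv⟩
  obtain ⟨S, ⟨hSF, v, hv, hxv⟩, hmax⟩ :=
    (Set.toFinite {S | Pr S}).exists_maximal ⟨⊥, h0⟩
  have hxS : x ∉ S := fun hxS => hxv (hv x hxS)
  have hmax' : ∀ z ∈ F, z ∉ S → ∀ w : V, w ∈ fix S → z w = w → x w = w := by
    intro z hz hzS w hw hzw
    by_contra hxw
    have hT : Pr (S ⊔ Subgroup.zpowers z) := by
      refine ⟨sup_le hSF (Subgroup.zpowers_le.2 hz), w, ?_, hxw⟩
      rw [fix_sup]
      refine ⟨hw, fun g hg => ?_⟩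
      obtain ⟨n, rfl⟩ := (isOfFinOrder_iff_pow_eq_one.2
        ⟨t, h.prime.pos, h.exp z hz⟩).mem_powers_iff_mem_zpowers.2 hg
      exact fpf.pow_apply_of_fixed hzw n
    exact hzS (hmax hT le_sup_left (Subgroup.mem_sup_right (Subgroup.mem_zpowers z)))
  have hcommfix : ∀ g ∈ F, ∀ w ∈ fix S, g w ∈ fix S := fun g hg w hw =>
    mem_fix_comm (fun s hs => h.comm s (hSF hs) g hg) hw
  have hsup : S ⊔ Subgroup.zpowers x = F := by
    refine le_antisymm (sup_le hSF (Subgroup.zpowers_le.2 hx)) fun y hy => ?_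
    by_contra hyS
    set z : ℕ → Aut q V := fun j => y * x ^ j with hz
    have hzF : ∀ j, z j ∈ F := fun j => mul_mem hy (pow_mem hx j)
    have hzS : ∀ j, z j ∉ S := fun j hj => hyS (by
      have := mul_mem (Subgroup.mem_sup_left (T := Subgroup.zpowers x) hj)
        (Subgroup.mem_sup_right (S := S) (inv_mem (pow_mem (Subgroup.mem_zpowers x) j)))
      simpa [hz] using this)
    have hw : ∀ j, x (∑ i ∈ Finset.range t, (z j ^ i) v) = ∑ i ∈ Finset.range t, (z j ^ i) v :=
      fun j => hmax' _ (hzF j) (hzS j) _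
        (Submodule.sum_mem _ fun i _ => hcommfix _ (pow_mem (hzF j) i) v hv)
        (sum_range_pow_fixed (h.exp _ (hzF j)) v)
    have hexpand : ∀ i j : ℕ, (z j ^ i) v = (y ^ i) (((x ^ i) ^ j) v) := fun i j => by
      rw [← LinearEquiv.mul_apply, hz]
      congr 1
      rw [Commute.mul_pow (h.comm y hy _ (pow_mem hx j)), ← pow_mul, ← pow_mul, Nat.mul_comm]
    have hu : ∀ i ∈ Finset.range t, i ≠ 0 →
        x (∑ j ∈ Finset.range t, ((x ^ i) ^ j) v) = ∑ j ∈ Finset.range t, ((x ^ i) ^ j) v := by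
      intro i hi hi0
      have hzi := sum_range_pow_fixed (z := x ^ i) (h.exp _ (pow_mem hx i)) v
      have hcop : Nat.Coprime i (orderOf x) := by
        rw [orderOf_eq_prime (h.exp x hx) hx1]
        exact ((Nat.Prime.coprime_iff_not_dvd h.prime).2 fun hd =>
          absurd (Nat.le_of_dvd (by omega) hd) (by simpa using Finset.mem_range.1 hi)).symm
      obtain ⟨k, hk⟩ := exists_pow_eq_self_of_coprime hcop
      nth_rw 1 [← hk]
      exact fpf.pow_apply_of_fixed hzi k
    have hs : x (∑ j ∈ Finset.range t, ∑ i ∈ Finset.range t, (z j ^ i) v)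
        = ∑ j ∈ Finset.range t, ∑ i ∈ Finset.range t, (z j ^ i) v := by
      rw [map_sum, Finset.sum_congr rfl fun j _ => hw j]
    rw [Finset.sum_comm] at hs
    simp only [hexpand] at hs
    simp only [← map_sum] at hs
    rw [← Finset.add_sum_erase _ _ (Finset.mem_range.2 h.prime.pos), map_add] at hs
    have hrest : x (∑ i ∈ (Finset.range t).erase 0,
        (y ^ i) (∑ j ∈ Finset.range t, ((x ^ i) ^ j) v))
        = ∑ i ∈ (Finset.range t).erase 0, (y ^ i) (∑ j ∈ Finset.range t, ((x ^ i) ^ j) v) := by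
      rw [map_sum]
      refine Finset.sum_congr rfl fun i hi => ?_
      rw [← LinearEquiv.mul_apply, h.comm x hx _ (pow_mem hy i), LinearEquiv.mul_apply,
        hu i (Finset.mem_of_mem_erase hi) (Finset.ne_of_mem_erase hi)]
    rw [hrest, add_left_inj] at hs
    simp only [pow_zero, LinearEquiv.coe_one, id_eq, one_pow, Finset.sum_const,
      Finset.card_range, map_nsmul] at hs
    rw [← Nat.cast_smul_eq_nsmul (ZMod q), ← Nat.cast_smul_eq_nsmul (ZMod q)] at hs
    exact hxv (smul_right_injective V h.natCast_ne_zero hs)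
  have hK : IsHyp t F S := by
    refine ⟨hSF, ?_⟩
    have hnorm : Subgroup.zpowers x ≤ Subgroup.normalizer (S : Set (Aut q V)) :=
      SignalizerCoprime.le_normalizer_of_forall fun g hg s hs => by
        rw [h.comm g ((Subgroup.zpowers_le.2 hx) hg) s (hSF hs), mul_inv_cancel_right]
        exact hs
    have hd := SignalizerCoprime.card_sup_dvd_mul hnorm
    rw [hsup, Nat.card_zpowers, orderOf_eq_prime (h.exp x hx) hx1] at hd
    have hc := Subgroup.relIndex_mul_relIndex ⊥ S F bot_le hSF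
    rw [Subgroup.relIndex_bot_left, Subgroup.relIndex_bot_left] at hc
    rw [← hc] at hd
    rcases (Nat.dvd_prime h.prime).1 (Nat.dvd_of_mul_dvd_mul_left Nat.card_pos hd) with h1 | h1
    · exact absurd (Subgroup.relIndex_eq_one.1 h1 hx) hxS
    · exact h1
  refine ⟨S, hK, fun hbot => hxv ?_, hxS⟩
  have hp : ∀ w, proj t F S w = 0 := fun w => (Submodule.eq_bot_iff _).1 hbot _ (proj_mem hK w)
  have h1 := hp (x v)
  have h2 := hp v
  rw [proj_apply, sumOp_apply_mem hx, sumOp_of_fix (hcommfix x hx v hv), sub_eq_zero] at h1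
  rw [proj_apply, sumOp_of_fix hv, sub_eq_zero] at h2
  rw [← h2, smul_smul, smul_smul] at h1
  exact smul_right_injective V (mul_ne_zero h.natCast_ne_zero (h.card_ne_zero hSF)) h1

/-- The order of an invariant part of a piece is `1` modulo `t`. -/
theorem card_modEq (h : Elem q t F) (hK : IsHyp t F K) {U : Submodule (ZMod q) V}
    (hU : U ≤ pieceX F K) (hinv : ∀ x ∈ F, ∀ v ∈ U, x v ∈ U) :
    q ^ Module.finrank (ZMod q) ↥U ≡ 1 [MOD t] := by
  haveI : Finite (Aut q V) := finite_aut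
  haveI := Fact.mk h.prime
  letI : MulAction ↥F ↥U :=
    { smul := fun x v => ⟨(x : Aut q V) v, hinv x x.2 v v.2⟩
      one_smul := fun v => Subtype.ext rfl
      mul_smul := fun x y v => Subtype.ext rfl }
  have hfix : Nat.card (MulAction.fixedPoints ↥F ↥U) = 1 := by
    rw [Nat.card_eq_one_iff_unique]
    refine ⟨⟨fun a b => ?_⟩, ⟨⟨0, fun x => Subtype.ext (map_zero (x : Aut q V))⟩⟩⟩
    obtain ⟨x, hx, hxK⟩ := hK.exists_notMem h.prime
    have key : ∀ c : MulAction.fixedPoints ↥F ↥U, ((c.1 : ↥U) : V) = 0 := fun c =>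
      fpf h hK hx hxK (hU c.1.2) (congrArg Subtype.val (c.2 ⟨x, hx⟩))
    exact Subtype.ext (Subtype.ext ((key a).trans (key b).symm))
  have := (h.isPGroup (le_refl F)).card_modEq_card_fixedPoints ↥U
  rwa [hfix, card_submodule] at this

end Cfsg.Agent.SFTPure
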