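import Mathlib
import Cfsg.Agent.Lib.SFTPureDefs

/-!
# Pure uniqueness: the minimal configuration of the fixed point bound
-/

set_option autoImplicit false

namespace Cfsg.Agent.SFTPure

open scoped commutatorElement

universe u

/-- The minimal configuration: a `t`-group `F = [F, D] = [F, A]` of class at most two, whose
`t`-th powers and commutators are central and centralised by the `q`-group `D ≥ B`. -/
structure Core (q p t : ℕ) {V : Type u} [AddCommGroup V] [Module (ZMod q) V]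
    (F A D B : Subgroup (Aut q V)) : Prop where
  t_prime : t.Prime
  tq : t ≠ q
  tp : t ≠ p
  p_two : p ≠ 2
  pq : p ≠ q
  F_pgroup : IsPGroup t F
  A_pgroup : IsPGroup p A
  D_pgroup : IsPGroup q D
  A_norm_F : A ≤ Subgroup.normalizer (F : Set (Aut q V))
  A_norm_D : A ≤ Subgroup.normalizer (D : Set (Aut q V))
  D_norm_F : D ≤ Subgroup.normalizer (F : Set (Aut q V))
  BD : B ≤ D
  B_comm : ∀ a ∈ B, ∀ b ∈ B, a * b = b * a
  B_pow : ∀ b ∈ B, b ^ q = 1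
  eq_comm_D : F ≤ ⁅F, D⁆
  le_comm_A : F ≤ ⁅F, A⁆
  pow_central : ∀ x ∈ F, ∀ y ∈ F, x ^ t * y = y * x ^ t
  pow_fixed : ∀ x ∈ F, ∀ d ∈ D, x ^ t * d = d * x ^ t
  comm_central : ∀ x ∈ F, ∀ y ∈ F, ∀ z ∈ F, ⁅x, y⁆ * z = z * ⁅x, y⁆
  comm_fixed : ∀ x ∈ F, ∀ y ∈ F, ∀ d ∈ D, ⁅x, y⁆ * d = d * ⁅x, y⁆
  comm_pow : ∀ x ∈ F, ∀ y ∈ F, ⁅x, y⁆ ^ t = 1
  abelian_pow : (∀ x ∈ F, ∀ y ∈ F, x * y = y * x) → ∀ x ∈ F, x ^ t = 1
  center_fixed : (¬ ∀ x ∈ F, ∀ y ∈ F, x * y = y * x) → ∀ x ∈ F, (∀ y ∈ F, x * y = y * x) →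
    ∀ b ∈ B, x * b = b * x
  moved : ¬ B ≤ Subgroup.centralizer (F : Set (Aut q V))

/-- The conclusion of the minimal configuration. -/
def CoreBound (q : ℕ) {V : Type u} [AddCommGroup V] [Module (ZMod q) V]
    (F B : Subgroup (Aut q V)) : Prop :=
  (B ⊓ Subgroup.centralizer (F : Set (Aut q V))).relIndex B ^ 2 * Nat.card ↥(fix B) <
    Nat.card ↥(fix (B ⊓ Subgroup.centralizer (F : Set (Aut q V))))

/-- The bound when `F` is abelian. -/
def CoreAbelian : Prop :=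
  ∀ (q p t : ℕ) [Fact q.Prime] [Fact p.Prime] (V : Type u) [AddCommGroup V] [Module (ZMod q) V]
    [Finite V] (F A D B : Subgroup (Aut q V)), Core q p t F A D B →
    (∀ x ∈ F, ∀ y ∈ F, x * y = y * x) → CoreBound q F B

/-- The bound when `F` is not abelian. -/
def CoreNonabelian : Prop :=
  ∀ (q p t : ℕ) [Fact q.Prime] [Fact p.Prime] (V : Type u) [AddCommGroup V] [Module (ZMod q) V]
    [Finite V] (F A D B : Subgroup (Aut q V)), Core q p t F A D B →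
    (¬ ∀ x ∈ F, ∀ y ∈ F, x * y = y * x) → CoreBound q F B

end Cfsg.Agent.SFTPure
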