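import Mathlib
import Cfsg.Agent.Lib.SFTPureCore
import Cfsg.Agent.Lib.SFTPureAbelianPieces

/-!
# Pure uniqueness: hyperplanes of `B` and orbits of pieces
-/

set_option autoImplicit false

namespace Cfsg.Agent.SFTPure

open scoped commutatorElement Pointwise

universe u

set_option linter.unusedSectionVars false
set_option linter.style.haveILetI false

section Group

variable {G : Type u} [Group G]

/-- The commutators of the centraliser in `F` of `L` with `B`. -/
def TT (F B L : Subgroup G) : Subgroup G :=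
  Subgroup.closure {y | ∃ x ∈ F ⊓ Subgroup.centralizer (L : Set G), ∃ b ∈ B, ⁅x, b⁆ = y}

/-- The orbit of a subgroup under conjugation by `R`. -/
def orb (R K : Subgroup G) : Set (Subgroup G) := {K' | ∃ b ∈ R, MulAut.conj b • K = K'}

theorem self_mem_orb (R K : Subgroup G) : K ∈ orb R K :=
  ⟨1, one_mem R, by rw [map_one, one_smul]⟩

theorem orb_eq_of_mem {R K K' : Subgroup G} (h : K' ∈ orb R K) : orb R K' = orb R K := by
  obtain ⟨b, hb, rfl⟩ := h
  ext X
  constructor
  · rintro ⟨c, hc, rfl⟩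
    exact ⟨c * b, mul_mem hc hb, (conj_smul_smul c b).symm⟩
  · rintro ⟨c, hc, rfl⟩
    exact ⟨c * b⁻¹, mul_mem hc (inv_mem hb), by rw [conj_smul_smul, inv_mul_cancel_right]⟩

theorem orb_mono {R S K : Subgroup G} (h : R ≤ S) : orb R K ⊆ orb S K :=
  fun _ ⟨b, hb, hx⟩ => ⟨b, h hb, hx⟩

theorem card_orb [Finite G] (R K : Subgroup G) :
    Nat.card ↥(orb R K) = (R ⊓ Subgroup.normalizer (K : Set G)).relIndex R := by
  letI : MulAction ↥R (Subgroup G) :=
    { smul := fun r X => MulAut.conj (r : G) • X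
      one_smul := fun X => by
        change MulAut.conj ((1 : ↥R) : G) • X = X
        rw [Subgroup.coe_one, map_one, one_smul]
      mul_smul := fun r s X => (conj_smul_smul (r : G) (s : G)).symm }
  have hset : orb R K = MulAction.orbit ↥R K := Set.ext fun X =>
    ⟨fun ⟨b, hb, he⟩ => ⟨⟨b, hb⟩, he⟩, fun ⟨b, he⟩ => ⟨b, b.2, he⟩⟩
  have hstab : MulAction.stabilizer ↥R K =
      (R ⊓ Subgroup.normalizer (K : Set G)).subgroupOf R := by
    ext r
    rw [Subgroup.mem_subgroupOf, Subgroup.mem_inf, MulAction.mem_stabilizer_iff]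
    exact ⟨fun h => ⟨r.2, mem_normalizer_of_conj_smul_eq h⟩, fun h => conj_smul_eq h.2⟩
  rw [Nat.card_coe_set_eq, hset, ← MulAction.index_stabilizer, hstab, Subgroup.relIndex]

variable {F B L : Subgroup G}

theorem conj_mem_cent (hBF : B ≤ Subgroup.normalizer (F : Set G))
    (hB : ∀ a ∈ B, ∀ b ∈ B, a * b = b * a) (hL : L ≤ B) {b x : G} (hb : b ∈ B)
    (hx : x ∈ F ⊓ Subgroup.centralizer (L : Set G)) :
    b * x * b⁻¹ ∈ F ⊓ Subgroup.centralizer (L : Set G) := by
  refine ⟨(Subgroup.mem_normalizer_iff.1 (hBF hb) x).1 hx.1,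
    Subgroup.mem_centralizer_iff.2 fun l hl => ?_⟩
  have e := Subgroup.mem_centralizer_iff.1 hx.2 l hl
  calc l * (b * x * b⁻¹) = (b * l) * x * b⁻¹ := by rw [← hB l (hL hl) b hb]; group
    _ = b * (x * l) * b⁻¹ := by rw [mul_assoc b l x, e]
    _ = b * x * (l * b⁻¹) := by group
    _ = b * x * (b⁻¹ * l) := by rw [hB l (hL hl) b⁻¹ (inv_mem hb)]
    _ = _ := by group

theorem comm_mem_TT {x b : G} (hx : x ∈ F ⊓ Subgroup.centralizer (L : Set G)) (hb : b ∈ B) :
    ⁅x, b⁆ ∈ TT F B L :=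
  Subgroup.subset_closure ⟨x, hx, b, hb, rfl⟩

theorem TT_le (hBF : B ≤ Subgroup.normalizer (F : Set G))
    (hB : ∀ a ∈ B, ∀ b ∈ B, a * b = b * a) (hL : L ≤ B) :
    TT F B L ≤ F ⊓ Subgroup.centralizer (L : Set G) := by
  refine (Subgroup.closure_le _).2 ?_
  rintro y ⟨x, hx, b, hb, rfl⟩
  have h := mul_mem hx (conj_mem_cent hBF hB hL hb (inv_mem hx))
  rwa [show x * (b * x⁻¹ * b⁻¹) = ⁅x, b⁆ by rw [commutatorElement_def]; group] at h

theorem conj_mem_TT (hBF : B ≤ Subgroup.normalizer (F : Set G))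
    (hB : ∀ a ∈ B, ∀ b ∈ B, a * b = b * a) (hL : L ≤ B) {b y : G} (hb : b ∈ B)
    (hy : y ∈ TT F B L) : b * y * b⁻¹ ∈ TT F B L := by
  have h : TT F B L ≤ (TT F B L).comap (MulAut.conj b).toMonoidHom := by
    refine (Subgroup.closure_le _).2 ?_
    rintro z ⟨x, hx, c, hc, rfl⟩
    simp only [SetLike.mem_coe, Subgroup.mem_comap, MulEquiv.coe_toMonoidHom, MulAut.conj_apply]
    rw [show b * ⁅x, c⁆ * b⁻¹ = ⁅b * x * b⁻¹, b * c * b⁻¹⁆ by
      simp only [commutatorElement_def]; group]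
    exact comm_mem_TT (conj_mem_cent hBF hB hL hb hx) (mul_mem (mul_mem hb hc) (inv_mem hb))
  exact h hy

theorem TT_le_smul (hBF : B ≤ Subgroup.normalizer (F : Set G))
    (hB : ∀ a ∈ B, ∀ b ∈ B, a * b = b * a) (hL : L ≤ B) {b : G} (hb : b ∈ B) {K : Subgroup G}
    (h : TT F B L ≤ K) : TT F B L ≤ MulAut.conj b • K := fun y hy => by
  rw [conj_smul_mem]
  have := conj_mem_TT hBF hB hL (inv_mem hb) hy
  rw [inv_inv] at this
  exact h this

/-- A hyperplane whose commutator is nontrivial contains the centraliser of `F` in `B`. -/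
theorem cen_le (q : ℕ) (hq : q.Prime) (hL : IsHyp q B L) (hne : TT F B L ≠ ⊥) :
    B ⊓ Subgroup.centralizer (F : Set G) ≤ L := by
  by_contra hc
  apply hne
  have hsup : L ⊔ B ⊓ Subgroup.centralizer (F : Set G) = B :=
    (hL.eq_or_eq hq le_sup_left (sup_le hL.1 inf_le_left)).resolve_left fun h =>
      hc (h ▸ le_sup_right)
  refine (Subgroup.eq_bot_iff_forall _).2 fun y hy => ?_
  refine Subgroup.closure_induction (fun z hz => ?_) rfl
    (fun a b _ _ ha hb => by rw [ha, hb, one_mul]) (fun a _ ha => by rw [ha, inv_one]) hy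
  obtain ⟨x, hx, b, hb, rfl⟩ := hz
  have hb' : b ∈ Subgroup.centralizer ({x} : Set G) := by
    refine (show L ⊔ B ⊓ Subgroup.centralizer (F : Set G) ≤ _ from sup_le (fun l hl => ?_)
      fun c hc => ?_) (hsup.symm ▸ hb)
    · exact Subgroup.mem_centralizer_singleton_iff.2 (Subgroup.mem_centralizer_iff.1 hx.2 l hl)
    · exact Subgroup.mem_centralizer_singleton_iff.2
        (Subgroup.mem_centralizer_iff.1 hc.2 x hx.1).symm
  rw [commutatorElement_eq_one_iff_mul_comm]
  exact (Subgroup.mem_centralizer_singleton_iff.1 hb').symm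

theorem IsHyp.decomp (q : ℕ) (hq : q.Prime) (hB : ∀ a ∈ B, ∀ b ∈ B, a * b = b * a)
    (hL : IsHyp q B L) {N : Subgroup G} (hN : N ≤ B) (hNL : ¬ N ≤ L) {b : G} (hb : b ∈ B) :
    ∃ n ∈ N, ∃ l ∈ L, n * l = b := by
  have hsup : N ⊔ L = B :=
    (hL.eq_or_eq hq le_sup_right (sup_le hN hL.1)).resolve_left fun h => hNL (h ▸ le_sup_left)
  have hn : N ≤ Subgroup.normalizer (L : Set G) := fun n hn =>
    Subgroup.mem_normalizer_iff''.2 fun l => by
      constructor
      · intro hl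
        rwa [mul_assoc, hB l (hL.1 hl) n (hN hn), inv_mul_cancel_left]
      · intro hl
        have h1 := hB n (hN hn) _ (hL.1 hl)
        rw [show n * (n⁻¹ * l * n) = l * n by group] at h1
        rw [mul_right_cancel h1]
        exact hl
  have hb' : b ∈ ((N ⊔ L : Subgroup G) : Set G) := hsup.symm ▸ hb
  rwa [Subgroup.coe_mul_of_left_le_normalizer_right _ _ hn] at hb'

/-- The kernel on a quotient moved by the commutator lies in the hyperplane. -/
theorem kerOn_le (q : ℕ) (hq : q.Prime)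
    (hB : ∀ a ∈ B, ∀ b ∈ B, a * b = b * a) (hL : IsHyp q B L) {K : Subgroup G}
    (hK : ¬ TT F B L ≤ K) : kerOn F K B ≤ L := by
  by_contra hc
  apply hK
  refine (Subgroup.closure_le _).2 ?_
  rintro y ⟨x, hx, b, hb, rfl⟩
  obtain ⟨n, hn, l, hl, rfl⟩ := hL.decomp q hq hB (show kerOn F K B ≤ B from fun z hz => hz.1) hc hb
  have e : x * l = l * x := (Subgroup.mem_centralizer_iff.1 hx.2 l hl).symm
  have : ⁅x, n * l⁆ = ⁅x, n⁆ := by
    simp only [commutatorElement_def]
    calc x * (n * l) * x⁻¹ * (n * l)⁻¹ = x * n * (l * x⁻¹ * l⁻¹) * n⁻¹ := by group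
      _ = x * n * x⁻¹ * n⁻¹ := by
        congr 2
        rw [show l * x⁻¹ * l⁻¹ = (l * x * l⁻¹)⁻¹ by group, ← e, mul_inv_cancel_right]
  rw [this]
  exact hn.2.2 x hx.1

end Group

variable {q p t : ℕ} [hqp : Fact q.Prime] [hpp : Fact p.Prime] {V : Type u} [AddCommGroup V]
  [Module (ZMod q) V] [Finite V] {F A D B : Subgroup (Aut q V)}

theorem Core.elem (h : Core q p t F A D B) (hab : ∀ x ∈ F, ∀ y ∈ F, x * y = y * x) :
    Elem q t F :=
  ⟨h.t_prime, h.tq, hab, h.abelian_pow hab⟩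

theorem Core.B_norm_F (h : Core q p t F A D B) :
    B ≤ Subgroup.normalizer (F : Set (Aut q V)) :=
  h.BD.trans h.D_norm_F

/-- A hyperplane of `F` with a nonzero piece. -/
def IsPiece (t : ℕ) (F K : Subgroup (Aut q V)) : Prop := IsHyp t F K ∧ pieceX F K ≠ ⊥

theorem IsPiece.conj {K : Subgroup (Aut q V)} (hK : IsPiece t F K) {g : Aut q V}
    (hg : g ∈ Subgroup.normalizer (F : Set (Aut q V))) :
    IsPiece t F (MulAut.conj g • K) := by
  refine ⟨hK.1.conj hg, fun hbot => hK.2 ((Submodule.eq_bot_iff _).2 fun v hv => ?_)⟩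
  have := apply_mem_pieceX hg hv
  rw [hbot, Submodule.mem_bot] at this
  exact g.map_eq_zero_iff.1 this

/-- The part of a piece fixed by the centraliser of `F` in `B`. -/
noncomputable def pieceY (F B K : Subgroup (Aut q V)) : Submodule (ZMod q) V :=
  pieceX F K ⊓ fix (B ⊓ Subgroup.centralizer (F : Set (Aut q V)))

theorem comm_of_mem_centralizer {c : Aut q V}
    (hc : c ∈ Subgroup.centralizer (F : Set (Aut q V))) : ∀ s ∈ F, s * c = c * s :=
  Subgroup.mem_centralizer_iff.1 hc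

theorem pieceY_ne_bot (h : Core q p t F A D B) {K : Subgroup (Aut q V)} (hK : IsPiece t F K) :
    pieceY F B K ≠ ⊥ := by
  rw [pieceY, inf_comm]
  have hle : B ⊓ Subgroup.centralizer (F : Set (Aut q V)) ≤ D := inf_le_left.trans h.BD
  refine fix_inf_ne_bot (h.D_pgroup.to_le hle) hK.2 fun c hc v hv => ?_
  exact apply_mem_pieceX_comm hK.1.1 (comm_of_mem_centralizer hc.2) hv

theorem apply_mem_pieceY (h : Core q p t F A D B) {K : Subgroup (Aut q V)} {b : Aut q V}
    (hb : b ∈ B) {v : V} (hv : v ∈ pieceY F B K) :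
    b v ∈ pieceY F B (MulAut.conj b • K) :=
  ⟨apply_mem_pieceX (h.B_norm_F hb) hv.1,
    mem_fix_comm (S := B ⊓ Subgroup.centralizer (F : Set (Aut q V)))
      (fun s hs => h.B_comm s hs.1 b hb) hv.2⟩

theorem apply_mem_pieceY_self (hab : ∀ x ∈ F, ∀ y ∈ F, x * y = y * x) {K : Subgroup (Aut q V)}
    (hKF : K ≤ F) {x : Aut q V} (hx : x ∈ F) {v : V} (hv : v ∈ pieceY F B K) :
    x v ∈ pieceY F B K :=
  ⟨apply_mem_pieceX_comm hKF (fun s hs => hab s hs x hx) hv.1,
    mem_fix_comm (S := B ⊓ Subgroup.centralizer (F : Set (Aut q V)))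
      (fun c hc => (comm_of_mem_centralizer hc.2 x hx).symm) hv.2⟩

/-- An element of `B` centralised modulo the hyperplanes centralises `F`. -/
theorem le_of_cf_le (h : Core q p t F A D B) (hab : ∀ x ∈ F, ∀ y ∈ F, x * y = y * x)
    {S : Subgroup (Aut q V)}
    (hS : ∀ L, IsHyp q B L → F ⊓ Subgroup.centralizer (L : Set (Aut q V)) ≤ S) : F ≤ S := by
  haveI : Finite (Aut q V) := finite_aut
  have hEB : Cfsg.IsElementaryAbelian q B :=
    ⟨⟨⟨fun a b => Subtype.ext (h.B_comm a a.2 b b.2)⟩⟩, h.B_pow⟩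
  obtain ⟨k, hk⟩ := IsPGroup.iff_card.1 (h.D_pgroup.to_le h.BD)
  rcases k with _ | _ | k
  · exfalso
    refine h.moved fun b hb => ?_
    have : B = ⊥ := Subgroup.card_eq_one.1 (by rw [hk, pow_zero])
    rw [this, Subgroup.mem_bot] at hb
    subst hb
    exact one_mem _
  · have hbot : IsHyp q B ⊥ := ⟨bot_le, by rw [Subgroup.relIndex_bot_left, hk, pow_one]⟩
    exact fun x hx => hS ⊥ hbot ⟨hx, Subgroup.mem_centralizer_iff.2 fun l hl => by
      rw [Subgroup.mem_bot.1 hl, one_mul, mul_one]⟩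
  · refine SignalizerCoprime.le_of_hyperplane_centralizers_le hEB ?_ h.B_norm_F ?_
      fun L hL hLq => hS L ⟨hL, hLq⟩
    · rw [hk]
      exact Nat.pow_le_pow_right hqp.out.pos (by omega)
    · intro hd
      exact (h.elem hab).card_ne_zero le_rfl ((ZMod.natCast_eq_zero_iff _ _).2 hd)

theorem mem_cen_of_forall (h : Core q p t F A D B) (hab : ∀ x ∈ F, ∀ y ∈ F, x * y = y * x)
    {b : Aut q V} (hb : b ∈ B)
    (hall : ∀ L, IsHyp q B L → TT F B L ≠ ⊥ → b ∈ L) :
    b ∈ Subgroup.centralizer (F : Set (Aut q V)) := by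
  have hle : F ≤ Subgroup.centralizer ({b} : Set (Aut q V)) := by
    refine le_of_cf_le h hab fun L hL x hx => Subgroup.mem_centralizer_singleton_iff.2 ?_
    by_cases hT : TT F B L = ⊥
    · have := comm_mem_TT hx hb
      rw [hT, Subgroup.mem_bot, commutatorElement_eq_one_iff_mul_comm] at this
      exact this
    · exact (Subgroup.mem_centralizer_iff.1 hx.2 b (hall L hL hT)).symm
  exact Subgroup.mem_centralizer_iff.2 fun x hx =>
    Subgroup.mem_centralizer_singleton_iff.1 (hle hx)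

/-- An independent set of moved hyperplanes. -/
theorem exists_chosen (h : Core q p t F A D B) (hab : ∀ x ∈ F, ∀ y ∈ F, x * y = y * x) :
    ∃ S : Finset (Subgroup (Aut q V)), (∀ L ∈ S, IsHyp q B L ∧ TT F B L ≠ ⊥) ∧
      B ⊓ S.inf id = B ⊓ Subgroup.centralizer (F : Set (Aut q V)) ∧
      ∀ I ⊆ S, (B ⊓ I.inf id).relIndex B = q ^ I.card := by
  classical
  haveI : Finite (Aut q V) := finite_aut
  haveI : Fintype (Subgroup (Aut q V)) := Fintype.ofFinite _
  set C := B ⊓ Subgroup.centralizer (F : Set (Aut q V)) with hC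
  let good : Finset (Finset (Subgroup (Aut q V))) := Finset.univ.filter fun S =>
    (∀ L ∈ S, IsHyp q B L ∧ TT F B L ≠ ⊥) ∧ B ⊓ S.inf id = C
  have hgood : (Finset.univ.filter fun L => IsHyp q B L ∧ TT F B L ≠ ⊥) ∈ good := by
    simp only [good, Finset.mem_filter, Finset.mem_univ, true_and]
    refine ⟨fun L hL => hL, le_antisymm ?_ ?_⟩
    · intro b hb
      refine ⟨hb.1, mem_cen_of_forall h hab hb.1 fun L hL hT => ?_⟩
      exact (Finset.inf_le (f := id) (b := L) (by simp [hL, hT]) : _ ≤ L) hb.2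
    · refine le_inf inf_le_left (Finset.le_inf fun L hL => ?_)
      have hL' := (Finset.mem_filter.1 hL).2
      exact cen_le q hqp.out hL'.1 hL'.2
  obtain ⟨S, hS, hmin⟩ := good.exists_min_image Finset.card ⟨_, hgood⟩
  simp only [good, Finset.mem_filter, Finset.mem_univ, true_and] at hS hmin
  refine ⟨S, hS.1, hS.2, fun I hI => ?_⟩
  induction I using Finset.induction_on with
  | empty => simp
  | @insert L I hLI ih =>
    have hIS : I ⊆ S := (Finset.subset_insert L I).trans hI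
    have hLS : L ∈ S := hI (Finset.mem_insert_self L I)
    have hLh := (hS.1 L hLS).1
    set M := B ⊓ I.inf id with hM
    have hMeq : B ⊓ (insert L I).inf id = M ⊓ L := by
      rw [Finset.inf_insert, id_eq, hM]
      ac_rfl
    rw [hMeq, Finset.card_insert_of_notMem hLI, pow_succ', ← ih hIS,
      ← Subgroup.relIndex_mul_relIndex (M ⊓ L) M B inf_le_left inf_le_left]
    congr 1
    rw [Subgroup.inf_relIndex_left]
    have hMD : M ≤ D := le_trans inf_le_left h.BD
    obtain ⟨k, hk⟩ := IsPGroup.iff_card.1 (h.D_pgroup.to_le hMD)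
    have hdk : L.relIndex M ∣ q ^ k := by rw [← hk]; exact L.relIndex_dvd_card M
    obtain ⟨i, -, hi⟩ := (Nat.dvd_prime_pow hqp.out).1 hdk
    have hle : L.relIndex M ≤ q := by
      have h0 : L.relIndex B ≠ 0 := by rw [hLh.2]; exact hqp.out.ne_zero
      calc L.relIndex M ≤ L.relIndex B :=
            Subgroup.relIndex_le_of_le_right (show M ≤ B from inf_le_left) h0
        _ = q := hLh.2
    have hne : L.relIndex M ≠ 1 := by
      intro h1
      have hML : M ≤ L := Subgroup.relIndex_eq_one.1 h1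
      have hIe : I ⊆ S.erase L := fun z hz =>
        Finset.mem_erase.2 ⟨fun hzL => hLI (hzL ▸ hz), hIS hz⟩
      have h2 : B ⊓ (S.erase L).inf id = C := by
        rw [← hS.2]
        refine le_antisymm (le_inf inf_le_left (Finset.le_inf fun z hz => ?_))
          (inf_le_inf_left _ (Finset.inf_mono (Finset.erase_subset L S)))
        by_cases hzL : z = L
        · subst hzL
          exact (inf_le_inf_left _ (Finset.inf_mono hIe)).trans hML
        · exact inf_le_right.trans (Finset.inf_le (f := id) (Finset.mem_erase.2 ⟨hzL, hz⟩))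
      have := hmin _ ⟨fun z hz => hS.1 z (Finset.mem_of_mem_erase hz), h2⟩
      have := Finset.card_erase_lt_of_mem hLS
      omega
    rw [hi] at hle hne ⊢
    rcases i with _ | _ | i
    · exact absurd (pow_zero q) hne
    · exact pow_one q
    · exfalso
      have h1 := Nat.pow_lt_pow_right hqp.out.one_lt (show 1 < i + 1 + 1 by omega)
      rw [pow_one] at h1
      omega

set_option maxHeartbeats 1000000 in
/-- If every piece outside the `D`-orbit of `K` contains `x`, so does `K`. -/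
theorem trick (h : Core q p t F A D B) (hab : ∀ x ∈ F, ∀ y ∈ F, x * y = y * x)
    (hp : ¬ p ∣ t - 1) {K : Subgroup (Aut q V)} (hK : IsPiece t F K) {x : Aut q V} (hx : x ∈ F)
    (hout : ∀ K', IsPiece t F K' → K' ∉ orb D K → x ∈ K') : x ∈ K := by
  classical
  haveI : Finite (Aut q V) := finite_aut
  haveI := Fact.mk h.t_prime
  have hnorm : ∀ a ∈ A, ∀ d ∈ D, a * d * a⁻¹ ∈ D := fun a ha d hd =>
    (Subgroup.mem_normalizer_iff.1 (h.A_norm_D ha) d).1 hd
  let AO : Subgroup (Aut q V) :=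
    { carrier := {a | a ∈ A ∧ MulAut.conj a • K ∈ orb D K}
      one_mem' := ⟨one_mem A, by rw [map_one, one_smul]; exact self_mem_orb D K⟩
      mul_mem' := fun {a c} ha hc => ⟨mul_mem ha.1 hc.1, by
        obtain ⟨d, hd, hd'⟩ := hc.2
        obtain ⟨e, he, he'⟩ := ha.2
        refine ⟨a * d * a⁻¹ * e, mul_mem (hnorm a ha.1 d hd) he, ?_⟩
        rw [← conj_smul_smul, he', conj_smul_smul, inv_mul_cancel_right, ← conj_smul_smul a d,
          hd', conj_smul_smul]⟩
      inv_mem' := fun {a} ha => ⟨inv_mem ha.1, by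
        obtain ⟨e, he, he'⟩ := ha.2
        refine ⟨a⁻¹ * e⁻¹ * a, ?_, ?_⟩
        · simpa using hnorm a⁻¹ (inv_mem ha.1) _ (inv_mem he)
        · rw [← conj_smul_smul, ← he', conj_smul_smul, mul_assoc, inv_mul_cancel, mul_one]⟩ }
  have hAOA : AO ≤ A := fun a ha => ha.1
  have hmapO : ∀ a ∈ AO, ∀ K' ∈ orb D K, MulAut.conj a • K' ∈ orb D K := by
    rintro a ha K' ⟨d, hd, rfl⟩
    obtain ⟨e, he, he'⟩ := ha.2
    refine ⟨a * d * a⁻¹ * e, mul_mem (hnorm a ha.1 d hd) he, ?_⟩
    rw [← conj_smul_smul, he', conj_smul_smul, conj_smul_smul, inv_mul_cancel_right]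
  letI : MulAction ↥AO ↥(orb D K) :=
    { smul := fun a K' => ⟨MulAut.conj (a : Aut q V) • (K' : Subgroup (Aut q V)),
        hmapO a a.2 K' K'.2⟩
      one_smul := fun K' => Subtype.ext (by
        change MulAut.conj ((1 : ↥AO) : Aut q V) • (K' : Subgroup (Aut q V)) = _
        rw [Subgroup.coe_one, map_one, one_smul])
      mul_smul := fun a c K' => Subtype.ext
        (conj_smul_smul (a : Aut q V) (c : Aut q V)).symm }
  have hndvd : ¬ p ∣ Nat.card ↥(orb D K) := by
    intro hd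
    rw [card_orb] at hd
    obtain ⟨k, hk⟩ := IsPGroup.iff_card.1 h.D_pgroup
    have h1 := hd.trans (Subgroup.relIndex_dvd_card _ _)
    rw [hk] at h1
    exact h.pq ((Nat.prime_dvd_prime_iff_eq hpp.out hqp.out).1 (hpp.out.dvd_of_dvd_pow h1))
  obtain ⟨⟨K₀, d, hd, rfl⟩, hfix⟩ :=
    (h.A_pgroup.to_le hAOA).nonempty_fixed_point_of_prime_not_dvd_card _ hndvd
  set K₀ := MulAut.conj d • K with hK₀
  have hO : orb D K₀ = orb D K := orb_eq_of_mem ⟨d, hd, rfl⟩
  have hK₀p : IsPiece t F K₀ := hK.conj (h.D_norm_F hd)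
  set x₀ := d * x * d⁻¹ with hx₀
  have hx₀F : x₀ ∈ F := (Subgroup.mem_normalizer_iff.1 (h.D_norm_F hd) x).1 hx
  suffices hmain : x₀ ∈ K₀ by
    have := conj_smul_mem.1 hmain
    simpa [hx₀, mul_assoc] using this
  have hout' : ∀ K', IsPiece t F K' → K' ∉ orb D K → x₀ ∈ K' := fun K' hK' hnot => by
    have h1 := hout (MulAut.conj d⁻¹ • K') (hK'.conj (inv_mem (h.D_norm_F hd))) fun hmem => hnot (by
      rw [← orb_eq_of_mem hmem]
      exact ⟨d, hd, by rw [conj_smul_smul, mul_inv_cancel, map_one, one_smul]⟩)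
    rw [conj_smul_mem, inv_inv] at h1
    exact h1
  obtain ⟨χ, hχ⟩ := exists_isChi hK₀p.1 h.t_prime hab (h.abelian_pow hab)
  letI : Fintype ↥A := Fintype.ofFinite _
  have hconjF : ∀ a ∈ A, ∀ y ∈ F, a * y * a⁻¹ ∈ F := fun a ha y hy =>
    (Subgroup.mem_normalizer_iff.1 (h.A_norm_F ha) y).1 hy
  let Sg : Aut q V → ZMod t := fun y => ∑ a : ↥A, χ ((a : Aut q V) * y * (a : Aut q V)⁻¹)
  have hadd : ∀ y ∈ F, ∀ z ∈ F, Sg (y * z) = Sg y + Sg z := fun y hy z hz => by
    simp only [Sg]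
    rw [← Finset.sum_add_distrib]
    refine Finset.sum_congr rfl fun a _ => ?_
    rw [← hχ.add _ (hconjF a a.2 y hy) _ (hconjF a a.2 z hz)]
    congr 1
    group
  have hinv : ∀ a ∈ A, ∀ y, Sg (a * y * a⁻¹) = Sg y := fun a ha y => by
    simp only [Sg]
    refine Fintype.sum_equiv (Equiv.mulRight (⟨a, ha⟩ : ↥A)) _ _ fun c => ?_
    simp only [Equiv.coe_mulRight, Subgroup.coe_mul]
    congr 1
  have h1 : Sg 1 = 0 := by simpa using hadd 1 (one_mem F) 1 (one_mem F)
  let Z : Subgroup (Aut q V) :=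
    { carrier := {y | y ∈ F ∧ Sg y = 0}
      one_mem' := ⟨one_mem F, h1⟩
      mul_mem' := fun {y z} hy hz => ⟨mul_mem hy.1 hz.1, by
        rw [hadd y hy.1 z hz.1, hy.2, hz.2, add_zero]⟩
      inv_mem' := fun {y} hy => ⟨inv_mem hy.1, by
        have := hadd y hy.1 y⁻¹ (inv_mem hy.1)
        rwa [mul_inv_cancel, h1, hy.2, zero_add, eq_comm] at this⟩ }
  have hFZ : F ≤ Z := h.le_comm_A.trans (Subgroup.commutator_le.2 fun y hy a ha => by
    have e : ⁅y, a⁆ = y * (a * y⁻¹ * a⁻¹) := by rw [commutatorElement_def]; group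
    have hm := hconjF a ha _ (inv_mem hy)
    refine ⟨e ▸ mul_mem hy hm, ?_⟩
    rw [e, hadd y hy _ hm, hinv a ha, ← hadd y hy _ (inv_mem hy), mul_inv_cancel, h1])
  have hterm : ∀ a : ↥A, χ ((a : Aut q V) * x₀ * (a : Aut q V)⁻¹) =
      if (a : Aut q V) ∈ AO then χ x₀ else 0 := by
    intro a
    split_ifs with ha
    · have hfa : MulAut.conj (a : Aut q V) • K₀ = K₀ := congrArg Subtype.val (hfix ⟨a, ha⟩)
      obtain ⟨x₁, hx₁, hone, -⟩ := hχ.scal
      obtain ⟨k, hk⟩ := h.A_pgroup a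
      have hk' : (a : Aut q V) ^ p ^ k = 1 := by simpa using congrArg Subtype.val hk
      obtain ⟨u, hu⟩ := hχ.exists_scalar (h.A_norm_F a.2) (mem_normalizer_of_conj_smul_eq hfa)
        hK₀p.1.1
      have hupow : ∀ n : ℕ, χ ((a : Aut q V) ^ n * x₁ * ((a : Aut q V) ^ n)⁻¹) = u ^ n := by
        intro n
        induction n with
        | zero => simpa using hone
        | succ n ih =>
          have hmem := hconjF _ (pow_mem a.2 n) x₁ hx₁
          rw [pow_succ', pow_succ', ← ih, ← hu _ hmem]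
          congr 1
      have hup : u ^ p ^ k = 1 := by
        rw [← hupow, hk', one_mul, inv_one, mul_one, hone]
      have hu0 : u ≠ 0 := fun h0 => by
        rw [h0, zero_pow (pow_ne_zero k hpp.out.ne_zero)] at hup
        exact zero_ne_one hup
      have hu1 : u = 1 := by
        have h2 : u ^ (t - 1) = 1 := ZMod.pow_card_sub_one_eq_one hu0
        have h3 : u ^ Nat.gcd (p ^ k) (t - 1) = 1 := pow_gcd_eq_one.2 ⟨hup, h2⟩
        rwa [Nat.Coprime.gcd_eq_one
          (Nat.Coprime.pow_left k ((Nat.Prime.coprime_iff_not_dvd hpp.out).2 hp)), pow_one] at h3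
      rw [hu x₀ hx₀F, hu1, one_mul]
    · refine (hχ.ker _ (hconjF a a.2 x₀ hx₀F)).2 ?_
      have hnot : MulAut.conj (a : Aut q V)⁻¹ • K₀ ∉ orb D K := by
        intro hmem
        apply ha
        refine inv_mem_iff.1 ⟨inv_mem a.2, ?_⟩
        obtain ⟨e, he, he'⟩ := hmem
        refine ⟨((a : Aut q V)⁻¹ * d⁻¹ * (a : Aut q V)) * e,
          mul_mem (by simpa using hnorm _ (inv_mem a.2) _ (inv_mem hd)) he, ?_⟩
        rw [← conj_smul_smul, he', hK₀, conj_smul_smul, conj_smul_smul]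
        congr 2
        group
      have := hout' _ (hK₀p.conj (inv_mem (h.A_norm_F a.2))) hnot
      rwa [conj_smul_mem, inv_inv] at this
  have h0 := (hFZ hx₀F).2
  simp only [Sg, hterm] at h0
  have hcard : ({a : ↥A | (a : Aut q V) ∈ AO} : Finset ↥A).card = Nat.card ↥AO := by
    rw [← Fintype.card_subtype, ← Nat.card_eq_fintype_card]
    exact Nat.card_congr (Subgroup.subgroupOfEquivOfLe hAOA).toEquiv
  rw [← Finset.sum_filter, Finset.sum_const, hcard, nsmul_eq_mul] at h0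
  refine (hχ.ker x₀ hx₀F).1 ((mul_eq_zero.1 h0).resolve_left fun hc => ?_)
  obtain ⟨k, hk⟩ := IsPGroup.iff_card.1 (h.A_pgroup.to_le hAOA)
  rw [hk, ZMod.natCast_eq_zero_iff] at hc
  exact h.tp ((Nat.prime_dvd_prime_iff_eq h.t_prime hpp.out).1 (h.t_prime.dvd_of_dvd_pow hc))

end Cfsg.Agent.SFTPure
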