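import Mathlib

/-!
# Pure uniqueness: eigenvalues of an element of prime order over `ZMod q`

If an endomorphism of prime order `t` without fixed points is conjugate to its `β`-th power, the
group of units modulo `t` generated by `q` and `β` is not larger than the dimension.
-/

set_option autoImplicit false

namespace Cfsg.Agent.SFTPure

universe u

open Polynomial

variable {q : ℕ} [hq : Fact q.Prime] {U : Type u} [AddCommGroup U] [Module (ZMod q) U]

/-- The group generated by `q` and `β` modulo `t` has at most `dim U` elements. -/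
theorem card_closure_units_le [Finite U] [Nontrivial U] {t : ℕ} [ht : Fact t.Prime]
    (T : Module.End (ZMod q) U) (hT : T ^ t = 1) (hfpf : ∀ v, T v = v → v = 0)
    (S : U ≃ₗ[ZMod q] U) {β : ℕ} (hS : ∀ v, S (T v) = (T ^ β) (S v))
    (qu βu : (ZMod t)ˣ) (hqu : (qu : ZMod t) = q) (hβu : (βu : ZMod t) = β) :
    Nat.card ↥(Subgroup.closure {qu, βu}) ≤ Module.finrank (ZMod q) U := by
  classical
  set L := AlgebraicClosure (ZMod q)
  set μ := minpoly (ZMod q) T
  have hμ0 : μ ≠ 0 := minpoly.ne_zero (Algebra.IsIntegral.isIntegral T)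
  have hdeg : μ.natDegree ≤ Module.finrank (ZMod q) U := by
    refine (natDegree_le_of_dvd (LinearMap.minpoly_dvd_charpoly T)
      (LinearMap.charpoly_monic T).ne_zero).trans ?_
    rw [← LinearMap.charpoly_toMatrix T (Module.finBasis (ZMod q) U),
      Matrix.charpoly_natDegree_eq_dim, Fintype.card_fin]
  have hdvd1 : μ ∣ X ^ t - 1 := minpoly.dvd _ _ (by simp [hT])
  have hdvdβ : μ ∣ expand (ZMod q) β μ := by
    refine minpoly.dvd _ _ ?_
    have hconj : S.conjAlgEquiv (ZMod q) T = T ^ β := LinearMap.ext fun v => by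
      simp only [LinearEquiv.conjAlgEquiv_apply_apply, hS, LinearEquiv.apply_symm_apply]
    rw [expand_aeval, ← hconj, Polynomial.aeval_algHom_apply, minpoly.aeval, map_zero]
  obtain ⟨lam, hlam⟩ : ∃ lam : L, aeval lam μ = 0 :=
    IsAlgClosed.exists_aeval_eq_zero L μ
      (minpoly.degree_pos (Algebra.IsIntegral.isIntegral T)).ne'
  have hlt : lam ^ t = 1 := by
    obtain ⟨c, hc⟩ := hdvd1
    have h := congrArg (aeval lam) hc
    rw [map_mul, hlam, zero_mul] at h
    simpa [sub_eq_zero] using h
  have hl1 : lam ≠ 1 := by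
    intro h1
    subst h1
    have hroot : μ.IsRoot 1 := by
      have h := hlam
      rw [← map_one (algebraMap (ZMod q) L), aeval_algebraMap_apply, map_eq_zero] at h
      rwa [coe_aeval_eq_eval] at h
    obtain ⟨ν, hν⟩ := dvd_iff_isRoot.2 hroot
    have hν0 : ν ≠ 0 := fun h0 => hμ0 (by rw [hν, h0, mul_zero])
    have hann : aeval T ν = 0 := LinearMap.ext fun v => by
      have h := congrArg (fun p => aeval T p v) hν
      simp only [μ, minpoly.aeval, map_mul, map_sub, aeval_X, map_one,
        Module.End.mul_apply, LinearMap.zero_apply, LinearMap.sub_apply, Module.End.one_apply] at h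
      exact hfpf _ (sub_eq_zero.1 h.symm)
    have hle := natDegree_le_of_dvd (minpoly.dvd _ _ hann : μ ∣ ν) hν0
    change μ.natDegree ≤ ν.natDegree at hle
    have hmul : μ.natDegree = 1 + ν.natDegree := by
      rw [hν, natDegree_mul (X_sub_C_ne_zero _) hν0, natDegree_X_sub_C]
    omega
  have hord : orderOf lam = t := orderOf_eq_prime hlt hl1
  have hcongr : ∀ a b : ℕ, (a : ZMod t) = b → lam ^ a = lam ^ b := fun a b hab => by
    rw [← pow_mod_orderOf lam a, ← pow_mod_orderOf lam b, hord,
      (ZMod.natCast_eq_natCast_iff' a b t).1 hab]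
  let f : (ZMod t)ˣ → L := fun γ => lam ^ (γ : ZMod t).val
  have hexp : ∀ γ δ : (ZMod t)ˣ, ∀ n : ℕ, (δ : ZMod t) = n → f (γ * δ) = f γ ^ n :=
    fun γ δ n hn => by
    simp only [f, ← pow_mul]
    refine hcongr _ _ ?_
    rw [ZMod.natCast_zmod_val, Units.val_mul, Nat.cast_mul, ZMod.natCast_zmod_val, hn]
  let M : Submonoid (ZMod t)ˣ :=
    { carrier := {δ | ∀ γ, aeval (f γ) μ = 0 → aeval (f (γ * δ)) μ = 0}
      one_mem' := fun γ h => by rwa [mul_one]
      mul_mem' := fun {a b} ha hb γ h => by rw [← mul_assoc]; exact hb _ (ha _ h) }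
  have hq' : qu ∈ M := fun γ h => by
    rw [hexp γ qu q hqu, ← expand_aeval, ZMod.expand_card, map_pow, h, zero_pow hq.out.ne_zero]
  have hβ' : βu ∈ M := fun γ h => by
    rw [hexp γ βu β hβu, ← expand_aeval]
    obtain ⟨c, hc⟩ := hdvdβ
    rw [hc, map_mul, h, zero_mul]
  have hle : Subgroup.closure {qu, βu} ≤
      { toSubmonoid := M
        inv_mem' := fun {x} hx => by
          obtain ⟨k, hk⟩ := (isOfFinOrder_of_finite x).mem_powers_iff_mem_zpowers.2
            (inv_mem (Subgroup.mem_zpowers x))
          simp only at hk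
          rw [← hk]
          exact pow_mem (show x ∈ M from hx) k } := by
    rw [Subgroup.closure_le]
    rintro z (rfl | rfl) <;> assumption
  have hroots : ∀ δ ∈ Subgroup.closure {qu, βu}, f δ ∈ (μ.aroots L).toFinset := fun δ hδ => by
    rw [Multiset.mem_toFinset, mem_aroots]
    refine ⟨hμ0, ?_⟩
    have h := hle hδ 1 (by simp [f, ZMod.val_one, hlam])
    rwa [one_mul] at h
  have hinj : Function.Injective f := fun a b hab => Units.ext <| ZMod.val_injective t <| by
    refine pow_injOn_Iio_orderOf ?_ ?_ hab <;>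
      simpa [hord] using ZMod.val_lt _
  calc Nat.card ↥(Subgroup.closure {qu, βu})
      ≤ Nat.card ↥((μ.aroots L).toFinset) :=
        Nat.card_le_card_of_injective (fun δ => ⟨f δ, hroots δ δ.2⟩)
          (fun a b hab => Subtype.ext (hinj (congrArg Subtype.val hab)))
    _ ≤ Module.finrank (ZMod q) U := by
      rw [Nat.card_eq_fintype_card, Fintype.card_coe]
      refine (Multiset.toFinset_card_le _).trans ((card_roots' _).trans ?_)
      rwa [natDegree_map]

end Cfsg.Agent.SFTPure
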