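import Mathlib
import Cfsg.Agent.Lib.SFTPureAbelianOrbit
import Cfsg.Agent.Lib.SFTPureAbelianRoots
import Cfsg.Agent.Lib.SFTPureAbelianNumber

/-!
# Pure uniqueness: the bound for one orbit of pieces
-/

set_option autoImplicit false

namespace Cfsg.Agent.SFTPure

open scoped commutatorElement Pointwise

universe u

set_option linter.unusedSectionVars false
set_option linter.style.haveILetI false

variable {q p t : ℕ} [hqp : Fact q.Prime] [hpp : Fact p.Prime] {V : Type u} [AddCommGroup V]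
  [Module (ZMod q) V] [Finite V] {F A D B : Subgroup (Aut q V)}

/-- The dimension of the part of a piece fixed by its stabiliser in `B`. -/
noncomputable def fdim (F B K : Subgroup (Aut q V)) : ℕ :=
  Module.finrank (ZMod q)
    ↥(pieceY F B K ⊓ fix (B ⊓ Subgroup.normalizer (K : Set (Aut q V))))

/-- The codimension of the fixed points on an orbit of pieces. -/
noncomputable def movedDim (F B K : Subgroup (Aut q V)) : ℕ :=
  (B ⊓ Subgroup.normalizer (K : Set (Aut q V))).relIndex B *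
    Module.finrank (ZMod q) ↥(pieceY F B K) - fdim F B K

theorem fdim_le (F B K : Subgroup (Aut q V)) :
    fdim F B K ≤ (B ⊓ Subgroup.normalizer (K : Set (Aut q V))).relIndex B *
      Module.finrank (ZMod q) ↥(pieceY F B K) := by
  haveI : Finite (Aut q V) := finite_aut
  refine (Submodule.finrank_mono inf_le_left).trans (Nat.le_mul_of_pos_left _ ?_)
  exact Nat.pos_of_ne_zero Subgroup.index_ne_zero_of_finite

/-- An element inducing a nontrivial automorphism on the quotient by `K`. -/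
theorem outer_element (h : Core q p t F A D B) (hab : ∀ x ∈ F, ∀ y ∈ F, x * y = y * x)
    {K : Subgroup (Aut q V)} (hK : IsPiece t F K) {χ : Aut q V → ZMod t} (hχ : IsChi t F K χ)
    {b : Aut q V} (hb : b ∈ B ⊓ Subgroup.normalizer (K : Set (Aut q V))) {u : ZMod t}
    (hu : ∀ y ∈ F, χ (b * y * b⁻¹) = u * χ y) (hu1 : u ≠ 1) :
    2 * fdim F B K ≤ Module.finrank (ZMod q) ↥(pieceY F B K) ∧ q ∣ t - 1 ∧
      ∃ k, 0 < k ∧ k ≤ Module.finrank (ZMod q) ↥(pieceY F B K) ∧ q ∣ k ∧ q ^ k ≡ 1 [MOD t] := by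
  haveI : Finite (Aut q V) := finite_aut
  haveI := Fact.mk h.t_prime
  have hE := h.elem hab
  have hBF := h.B_norm_F
  obtain ⟨x₀, hx₀, hone, -⟩ := hχ.scal
  have hcF : ∀ y ∈ F, b * y * b⁻¹ ∈ F := fun y hy =>
    (Subgroup.mem_normalizer_iff.1 (hBF hb.1) y).1 hy
  have hu0 : u ≠ 0 := by
    intro h0
    have h1 := hu x₀ hx₀
    rw [h0, zero_mul, hχ.ker _ (hcF x₀ hx₀), ← Subgroup.mem_normalizer_iff.1 hb.2,
      ← hχ.ker x₀ hx₀, hone] at h1
    exact one_ne_zero h1
  have hupow : ∀ n : ℕ, χ (b ^ n * x₀ * (b ^ n)⁻¹) = u ^ n := by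
    intro n
    induction n with
    | zero => simpa using hone
    | succ n ih =>
      have hmem : b ^ n * x₀ * (b ^ n)⁻¹ ∈ F :=
        (Subgroup.mem_normalizer_iff.1 (pow_mem (hBF hb.1) n) x₀).1 hx₀
      rw [pow_succ', pow_succ', ← ih, ← hu _ hmem]
      congr 1
  have huq : u ^ q = 1 := by
    rw [← hupow, h.B_pow b hb.1, one_mul, inv_one, mul_one, hone]
  have hbK : ∀ v ∈ pieceY F B K, b v ∈ pieceY F B K := fun v hv => by
    have h1 := apply_mem_pieceY h hb.1 hv
    rwa [conj_smul_eq hb.2] at h1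
  have hx₀K : x₀ ∉ K := fun hm => by
    rw [← hχ.ker x₀ hx₀, hone] at hm
    exact one_ne_zero hm
  refine ⟨?_, ?_⟩
  · set W₀ := pieceY F B K ⊓ fix (B ⊓ Subgroup.normalizer (K : Set (Aut q V))) with hW₀
    set W₁ := W₀.map (x₀ : V →ₗ[ZMod q] V) with hW₁
    have hdisj : W₀ ⊓ W₁ = ⊥ := by
      refine (Submodule.eq_bot_iff _).2 fun v hv => ?_
      obtain ⟨w, hw, hwv⟩ := Submodule.mem_map.1 hv.2
      change x₀ w = v at hwv
      have hbv : b⁻¹ v = v := hv.1.2 _ (inv_mem hb)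
      have hbw : b w = w := hw.2 b hb
      have hxv : x₀⁻¹ v = w := by
        rw [← hwv, ← LinearEquiv.mul_apply, inv_mul_cancel, LinearEquiv.coe_one, id_eq]
      have hy : ⁅x₀, b⁆ v = v := by
        rw [commutatorElement_def, LinearEquiv.mul_apply, LinearEquiv.mul_apply,
          LinearEquiv.mul_apply, hbv, hxv, hbw, hwv]
      have e : ⁅x₀, b⁆ = x₀ * (b * x₀⁻¹ * b⁻¹) := by rw [commutatorElement_def]; group
      have hmF : ⁅x₀, b⁆ ∈ F := e ▸ mul_mem hx₀ (hcF _ (inv_mem hx₀))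
      refine fpf hE hK.1 hmF (fun hmK => hu1 ?_) hv.1.1.1 hy
      rw [← hχ.ker _ hmF, e, hχ.add _ hx₀ _ (hcF _ (inv_mem hx₀)), hu _ (inv_mem hx₀),
        hχ.map_inv hx₀, hone, mul_neg, mul_one, add_neg_eq_zero] at hmK
      exact hmK.symm
    have hle : W₀ ⊔ W₁ ≤ pieceY F B K := by
      refine sup_le inf_le_left ?_
      rintro - ⟨w, hw, rfl⟩
      exact apply_mem_pieceY_self hab hK.1.1 hx₀ hw.1
    have h1 := Submodule.finrank_sup_add_finrank_inf_eq W₀ W₁
    rw [hdisj, finrank_bot, add_zero, hW₁, LinearEquiv.finrank_map_eq] at h1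
    have h2 := Submodule.finrank_mono hle
    rw [hW₁] at h2
    have h3 : fdim F B K = Module.finrank (ZMod q) ↥W₀ := rfl
    omega
  · have hU0 := pieceY_ne_bot h hK
    haveI : Nontrivial ↥(pieceY F B K) := Submodule.nontrivial_iff_ne_bot.2 hU0
    let T : Module.End (ZMod q) ↥(pieceY F B K) :=
      LinearMap.restrict (x₀ : V →ₗ[ZMod q] V) fun v hv =>
        apply_mem_pieceY_self hab hK.1.1 hx₀ hv
    have hTn : ∀ (n : ℕ) (v : ↥(pieceY F B K)), ((T ^ n) v : V) = (x₀ ^ n) (v : V) := by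
      intro n
      induction n with
      | zero => intro v; rfl
      | succ n ih =>
        intro v
        rw [pow_succ', pow_succ', LinearEquiv.mul_apply, ← ih, Module.End.mul_apply]
        rfl
    have hT : T ^ t = 1 := LinearMap.ext fun v => Subtype.ext <| by
      rw [hTn, hE.exp x₀ hx₀]
      rfl
    have hfpf : ∀ v, T v = v → v = 0 := fun v hv =>
      Subtype.ext (fpf hE hK.1 hx₀ hx₀K v.2.1 (congrArg Subtype.val hv))
    let S : ↥(pieceY F B K) ≃ₗ[ZMod q] ↥(pieceY F B K) :=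
      LinearEquiv.ofInjectiveEndo (LinearMap.restrict (b : V →ₗ[ZMod q] V) hbK)
        fun v w hvw => Subtype.ext (b.injective (congrArg Subtype.val hvw))
    have hS : ∀ v, S (T v) = (T ^ u.val) (S v) := by
      intro v
      apply Subtype.ext
      rw [hTn]
      change b (x₀ (v : V)) = (x₀ ^ u.val) (b (v : V))
      set z := b * x₀ * b⁻¹ * (x₀ ^ u.val)⁻¹ with hz
      have hzF : z ∈ F := mul_mem (hcF x₀ hx₀) (inv_mem (pow_mem hx₀ _))
      have hzK : z ∈ K := by
        rw [← hχ.ker z hzF, hz, hχ.add _ (hcF x₀ hx₀) _ (inv_mem (pow_mem hx₀ _)), hu x₀ hx₀,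
          hχ.map_inv (pow_mem hx₀ _), map_pow_of_add hχ.add hx₀, hone, mul_one, mul_one,
          ZMod.natCast_zmod_val, add_neg_cancel]
      have h1 := (mem_pieceX.1 (apply_mem_pieceY_self hab hK.1.1 (pow_mem hx₀ u.val)
        (hbK v v.2)).1).1 z hzK
      rw [← LinearEquiv.mul_apply, hz, inv_mul_cancel_right] at h1
      rw [← h1, ← LinearEquiv.mul_apply, ← LinearEquiv.mul_apply, inv_mul_cancel_right]
    have hq0 : (q : ZMod t) ≠ 0 := fun h0 => h.tq
      ((Nat.prime_dvd_prime_iff_eq h.t_prime hqp.out).1 ((ZMod.natCast_eq_zero_iff _ _).1 h0))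
    set qu : (ZMod t)ˣ := Units.mk0 _ hq0 with hqu
    set βu : (ZMod t)ˣ := Units.mk0 u hu0 with hβu
    have hord : orderOf βu = q := orderOf_eq_prime (Units.ext (by simpa [hβu] using huq))
      (fun he => hu1 (by simpa [hβu, Units.ext_iff] using he))
    refine ⟨?_, Nat.card ↥(Subgroup.closure {qu, βu}), Nat.card_pos,
      card_closure_units_le T hT hfpf S hS qu βu rfl (ZMod.natCast_zmod_val u).symm, ?_, ?_⟩
    · rw [← hord, ← ZMod.card_units t]
      exact orderOf_dvd_card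
    · rw [← hord]
      exact Subgroup.orderOf_dvd_natCard _ (Subgroup.subset_closure (by simp))
    · have hmem : qu ∈ Subgroup.closure {qu, βu} := Subgroup.subset_closure (by simp)
      have h1 : qu ^ Nat.card ↥(Subgroup.closure {qu, βu}) = 1 :=
        orderOf_dvd_iff_pow_eq_one.1 (Subgroup.orderOf_dvd_natCard _ hmem)
      rw [← ZMod.natCast_eq_natCast_iff, Nat.cast_pow, Nat.cast_one]
      simpa [hqu] using congrArg Units.val h1

/-- The bound for one orbit. -/
theorem local_bound (h : Core q p t F A D B) (hab : ∀ x ∈ F, ∀ y ∈ F, x * y = y * x)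
    {K : Subgroup (Aut q V)} (hK : IsPiece t F K) {I : Finset (Subgroup (Aut q V))}
    (hI : ∀ L ∈ I, IsHyp q B L ∧ ¬ TT F B L ≤ K)
    (hidx : (B ⊓ I.inf id).relIndex B = q ^ I.card) (hI0 : 1 ≤ I.card) :
    I.card ≤ movedDim F B K ∧ (movedDim F B K ≤ 2 * I.card → ¬ p ∣ t - 1) ∧
      (movedDim F B K = I.card → B ≤ Subgroup.normalizer (K : Set (Aut q V)) ∧
        IsHyp q B (kerOn F K B) ∧ q = 2 ∧ t = 3) := by
  haveI : Finite (Aut q V) := finite_aut
  haveI := Fact.mk h.t_prime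
  obtain ⟨χ, hχ⟩ := exists_isChi hK.1 h.t_prime hab (h.abelian_pow hab)
  set BK := B ⊓ Subgroup.normalizer (K : Set (Aut q V)) with hBK
  set N := kerOn F K B with hN
  have hNBK : N ≤ BK := fun b hb => ⟨hb.1, hb.2.1⟩
  have hNchar : ∀ b ∈ BK, b ∈ N ↔ ∀ y ∈ F, χ (b * y * b⁻¹) = χ y := by
    intro b hb
    have key : ∀ y ∈ F, (⁅y, b⁆ ∈ K ↔ χ (b * y * b⁻¹) = χ y) := by
      intro y hy
      have hcy : b * y⁻¹ * b⁻¹ ∈ F :=
        (Subgroup.mem_normalizer_iff.1 (h.B_norm_F hb.1) _).1 (inv_mem hy)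
      have e : ⁅y, b⁆ = y * (b * y⁻¹ * b⁻¹) := by rw [commutatorElement_def]; group
      obtain ⟨u, hu⟩ := hχ.exists_scalar (h.B_norm_F hb.1) hb.2 hK.1.1
      rw [e, ← hχ.ker _ (mul_mem hy hcy), hχ.add _ hy _ hcy, hu _ (inv_mem hy), hu _ hy,
        hχ.map_inv hy, mul_neg, add_neg_eq_zero]
      exact eq_comm
    exact ⟨fun hm y hy => (key y hy).1 (hm.2.2 y hy),
      fun hm => ⟨hb.1, hb.2, fun y hy => (key y hy).2 (hm y hy)⟩⟩
  have hker := (hχ.relIndex_ker_le h.t_prime hK.1.1 hqp.out.pos (E := BK)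
    (inf_le_left.trans h.B_norm_F) inf_le_right (fun g hg => h.B_pow g hg.1) hNchar).1
  have hBKD : BK ≤ D := le_trans inf_le_left h.BD
  obtain ⟨k, hk⟩ := IsPGroup.iff_card.1 (h.D_pgroup.to_le hBKD)
  obtain ⟨kB, hkB⟩ := IsPGroup.iff_card.1 (h.D_pgroup.to_le h.BD)
  have hd1 : N.relIndex BK ∣ q ^ k := by rw [← hk]; exact N.relIndex_dvd_card BK
  have hd2 : BK.relIndex B ∣ q ^ kB := by rw [← hkB]; exact BK.relIndex_dvd_card B
  obtain ⟨e, -, he⟩ := (Nat.dvd_prime_pow hqp.out).1 hd1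
  obtain ⟨j, -, hj⟩ := (Nat.dvd_prime_pow hqp.out).1 hd2
  have he1 : e ≤ 1 := by
    rw [he] at hker
    by_contra hc
    have h1 := Nat.pow_lt_pow_right hqp.out.one_lt (show 1 < e by omega)
    rw [pow_one] at h1
    omega
  have hNB : N.relIndex B = q ^ (j + e) := by
    rw [← Subgroup.relIndex_mul_relIndex N BK B hNBK inf_le_left, he, hj, pow_add, mul_comm]
  have hij : I.card ≤ j + e := by
    have hle : N ≤ B ⊓ I.inf id :=
      le_inf (fun b hb => hb.1) (Finset.le_inf fun L hL =>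
        kerOn_le q hqp.out h.B_comm (hI L hL).1 (hI L hL).2)
    have hd := Subgroup.relIndex_mul_relIndex N _ B hle inf_le_left
    rw [hidx, hNB] at hd
    exact (Nat.pow_dvd_pow_iff_le_right hqp.out.one_lt).1 (Dvd.intro_left _ hd)
  set m := Module.finrank (ZMod q) ↥(pieceY F B K) with hm
  have hm1 : 1 ≤ m := Submodule.one_le_finrank_iff.2 (pieceY_ne_bot h hK)
  have hmoved : movedDim F B K = q ^ j * m - fdim F B K := by rw [movedDim, ← hBK, hj]
  rw [hmoved]
  rcases (by omega : e = 0 ∨ e = 1) with rfl | rfl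
  · have hfm : fdim F B K ≤ m := Submodule.finrank_mono inf_le_left
    have hmod := card_modEq (h.elem hab) hK.1 (show pieceY F B K ≤ _ from inf_le_left)
      fun x hx v hv => apply_mem_pieceY_self hab hK.1.1 hx hv
    obtain ⟨h2, h3⟩ := orbit_numbers_inner (j := j) hqp.out hpp.out h.p_two h.t_prime hm1 hfm hI0
      (by simpa using hij) hmod
    refine ⟨by omega, h3, fun heq => ?_⟩
    exfalso
    omega
  · obtain ⟨b, hb, hbN⟩ : ∃ b ∈ BK, b ∉ N := by
      by_contra hc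
      push Not at hc
      rw [Subgroup.relIndex_eq_one.2 (show BK ≤ N from hc), pow_one] at he
      exact hqp.out.ne_one he.symm
    obtain ⟨u, hu⟩ := hχ.exists_scalar (h.B_norm_F hb.1) hb.2 hK.1.1
    have hu1 : u ≠ 1 := fun h1 => hbN ((hNchar b hb).2 fun y hy => by rw [hu y hy, h1, one_mul])
    obtain ⟨h2f, hqt, k', hk0, hkm, hqk, hmod⟩ := outer_element h hab hK hχ hb hu hu1
    obtain ⟨h2, h3, h4⟩ := orbit_numbers_outer (j := j) hqp.out hpp.out h.p_two h.pq h.t_prime h2f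
      hij hk0 hkm hqk hqt hmod
    refine ⟨h2, h3, fun heq => ?_⟩
    obtain ⟨rfl, hq2, ht3⟩ := h4 heq
    rw [pow_zero] at hj
    refine ⟨fun z hz => (Subgroup.relIndex_eq_one.1 hj hz).2, ⟨fun z hz => hz.1, ?_⟩, hq2, ht3⟩
    rw [hNB, zero_add, pow_one]

end Cfsg.Agent.SFTPure
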