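import Mathlib
import Cfsg.Agent.Lib.SFTPureAbelianLocal

/-!
# Pure uniqueness: the bound when the moved group is abelian
-/

set_option autoImplicit false

namespace Cfsg.Agent.SFTPure

open scoped commutatorElement Pointwise

universe u

set_option linter.unusedSectionVars false
set_option linter.style.haveILetI false

variable {q p t : ℕ} [hqp : Fact q.Prime] [hpp : Fact p.Prime] {V : Type u} [AddCommGroup V]
  [Module (ZMod q) V] [Finite V] {F A D B : Subgroup (Aut q V)}

/-- A representative of an orbit. -/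
noncomputable def orbRep (B K : Subgroup (Aut q V)) : Subgroup (Aut q V) :=
  Classical.epsilon fun K' => K' ∈ orb B K

theorem orbRep_mem (B K : Subgroup (Aut q V)) : orbRep B K ∈ orb B K :=
  Classical.epsilon_spec (p := fun K' => K' ∈ orb B K) ⟨K, self_mem_orb B K⟩

theorem orbRep_eq {B K K' : Subgroup (Aut q V)} (h : K' ∈ orb B K) :
    orbRep B K' = orbRep B K := by
  unfold orbRep
  rw [orb_eq_of_mem h]

theorem mem_orb_symm {B K K' : Subgroup (Aut q V)} (h : K' ∈ orb B K) : K ∈ orb B K' := by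
  rw [orb_eq_of_mem h]
  exact self_mem_orb B K

theorem finrank_pieceY_conj (h : Core q p t F A D B) {K : Subgroup (Aut q V)} {b : Aut q V}
    (hb : b ∈ B) : Module.finrank (ZMod q) ↥(pieceY F B (MulAut.conj b • K)) =
      Module.finrank (ZMod q) ↥(pieceY F B K) := by
  have hmap : (pieceY F B K).map (b : V →ₗ[ZMod q] V) = pieceY F B (MulAut.conj b • K) := by
    refine le_antisymm ?_ fun v hv => ⟨b⁻¹ v, ?_, ?_⟩
    · rintro - ⟨v, hv, rfl⟩
      exact apply_mem_pieceY h hb hv
    · have h1 := apply_mem_pieceY h (inv_mem hb) hv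
      rwa [conj_smul_smul, inv_mul_cancel, map_one, one_smul] at h1
    · change b (b⁻¹ v) = v
      rw [← LinearEquiv.mul_apply, mul_inv_cancel, LinearEquiv.coe_one, id_eq]
  rw [← hmap, LinearEquiv.finrank_map_eq]

open Classical in
/-- The pieces, as a finite set. -/
noncomputable def pieceSet (t : ℕ) (F : Subgroup (Aut q V)) : Finset (Subgroup (Aut q V)) :=
  haveI : Finite (Aut q V) := finite_aut
  (Set.toFinite {K | IsPiece t F K}).toFinset

theorem mem_pieceSet {K : Subgroup (Aut q V)} : K ∈ pieceSet t F ↔ IsPiece t F K := by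
  simp [pieceSet]

open Classical in
/-- One piece in each orbit of `B`. -/
noncomputable def repSet (t : ℕ) (F B : Subgroup (Aut q V)) : Finset (Subgroup (Aut q V)) :=
  (pieceSet t F).image (orbRep B)

theorem isPiece_of_mem_orb (h : Core q p t F A D B) {K K' : Subgroup (Aut q V)}
    (hK : IsPiece t F K) (hK' : K' ∈ orb B K) : IsPiece t F K' := by
  obtain ⟨b, hb, rfl⟩ := hK'
  exact hK.conj (h.B_norm_F hb)

theorem isPiece_of_mem_repSet (h : Core q p t F A D B) {R : Subgroup (Aut q V)}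
    (hR : R ∈ repSet t F B) : IsPiece t F R ∧ orbRep B R = R := by
  classical
  obtain ⟨K, hK, rfl⟩ := Finset.mem_image.1 hR
  exact ⟨isPiece_of_mem_orb h (mem_pieceSet.1 hK) (orbRep_mem B K), orbRep_eq (orbRep_mem B K)⟩

theorem proj_mem_pieceY {K : Subgroup (Aut q V)} (hK : IsHyp t F K) {w : V}
    (hw : w ∈ fix (B ⊓ Subgroup.centralizer (F : Set (Aut q V)))) :
    proj t F K w ∈ pieceY F B K :=
  ⟨proj_mem hK w, fun c hc => by
    rw [apply_proj_comm hK.1 (comm_of_mem_centralizer hc.2), hw c hc]⟩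

/-- The codimensions on the orbits add up. -/
theorem sum_moved_le (h : Core q p t F A D B) (hab : ∀ x ∈ F, ∀ y ∈ F, x * y = y * x) :
    (∑ R ∈ repSet t F B, movedDim F B R) + Module.finrank (ZMod q) ↥(fix B) ≤
      Module.finrank (ZMod q) ↥(fix (B ⊓ Subgroup.centralizer (F : Set (Aut q V)))) := by
  classical
  haveI : Finite (Aut q V) := finite_aut
  set W := fix (B ⊓ Subgroup.centralizer (F : Set (Aut q V))) with hW
  let P := pieceSet t F
  let Φ : ↥W →ₗ[ZMod q] ((K : P) → ↥(pieceY F B (K : Subgroup (Aut q V)))) :=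
    LinearMap.pi fun K => LinearMap.codRestrict _ ((proj t F (K : Subgroup (Aut q V))).comp W.subtype)
      fun w => proj_mem_pieceY (mem_pieceSet.1 K.2).1 w.2
  have hsurj : Function.Surjective Φ := by
    intro g
    refine ⟨⟨(Nat.card ↥F : ZMod q)⁻¹ • ∑ K : P, (g K : V), Submodule.smul_mem _ _
      (Submodule.sum_mem _ fun K _ => (g K).2.2)⟩, ?_⟩
    funext K
    apply Subtype.ext
    change proj t F (K : Subgroup (Aut q V))
      ((Nat.card ↥F : ZMod q)⁻¹ • ∑ K' : P, (g K' : V)) = _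
    rw [map_smul, map_sum, Finset.sum_eq_single K, proj_of_mem (mem_pieceSet.1 K.2).1 (g K).2.1,
      smul_smul, inv_mul_cancel₀ ((h.elem hab).card_ne_zero le_rfl), one_smul]
    · intro K' _ hne
      exact proj_of_mem_other (h.elem hab) (mem_pieceSet.1 K.2).1 (mem_pieceSet.1 K'.2).1
        (fun he => hne (Subtype.ext he)) (g K').2.1
    · exact fun hK => absurd (Finset.mem_univ K) hK
  let Rs := repSet t F B
  let Wf : Submodule (ZMod q) ↥W := (fix B).comap W.subtype
  let Ψ : ↥Wf →ₗ[ZMod q] ((R : Rs) → ↥(pieceY F B (R : Subgroup (Aut q V)) ⊓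
      fix (B ⊓ Subgroup.normalizer ((R : Subgroup (Aut q V)) : Set (Aut q V))))) :=
    LinearMap.pi fun R => LinearMap.codRestrict _
      (((proj t F (R : Subgroup (Aut q V))).comp W.subtype).comp Wf.subtype)
      fun w => ⟨proj_mem_pieceY (isPiece_of_mem_repSet h R.2).1.1 w.1.2, fun b hb => by
        have h1 : b ((w : ↥W) : V) = ((w : ↥W) : V) := w.2 b hb.1
        simp only [LinearMap.comp_apply, Submodule.subtype_apply]
        rw [apply_proj (h.B_norm_F hb.1), conj_smul_eq hb.2, h1]⟩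
  have hker : (LinearMap.ker Ψ).map Wf.subtype ≤ LinearMap.ker Φ := by
    rintro _ ⟨w, hw, rfl⟩
    rw [LinearMap.mem_ker]
    funext K
    apply Subtype.ext
    change proj t F (K : Subgroup (Aut q V)) ((w : ↥W) : V) = 0
    obtain ⟨b, hb, hbK⟩ := orbRep_mem B (K : Subgroup (Aut q V))
    have hR : orbRep B (K : Subgroup (Aut q V)) ∈ Rs := Finset.mem_image_of_mem _ K.2
    have h0 : proj t F (orbRep B (K : Subgroup (Aut q V))) ((w : ↥W) : V) = 0 :=
      congrArg Subtype.val (congrFun (LinearMap.mem_ker.1 hw) ⟨_, hR⟩)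
    have h1 := apply_proj (t := t) (K := (K : Subgroup (Aut q V))) (h.B_norm_F hb) ((w : ↥W) : V)
    have h2 : b ((w : ↥W) : V) = ((w : ↥W) : V) := w.2 b hb
    rw [hbK, h2, h0] at h1
    exact b.map_eq_zero_iff.1 h1
  have hk : Module.finrank (ZMod q) ↥(LinearMap.ker Ψ) ≤
      Module.finrank (ZMod q) ↥(LinearMap.ker Φ) := by
    rw [← Submodule.finrank_map_subtype_eq Wf (LinearMap.ker Ψ)]
    exact Submodule.finrank_mono hker
  have hΦ : Module.finrank (ZMod q) ↥W = (∑ K ∈ P, Module.finrank (ZMod q) ↥(pieceY F B K)) +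
      Module.finrank (ZMod q) ↥(LinearMap.ker Φ) := by
    rw [← LinearMap.finrank_range_add_finrank_ker Φ, LinearMap.range_eq_top.2 hsurj, finrank_top,
      Module.finrank_pi_fintype]
    congr 1
    exact Finset.sum_coe_sort P fun K => Module.finrank (ZMod q) ↥(pieceY F B K)
  have hΨ : Module.finrank (ZMod q) ↥(fix B) ≤ (∑ R ∈ Rs, fdim F B R) +
      Module.finrank (ZMod q) ↥(LinearMap.ker Ψ) := by
    have he : Module.finrank (ZMod q) ↥Wf = Module.finrank (ZMod q) ↥(fix B) :=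
      (Submodule.comapSubtypeEquivOfLe (fix_antitone inf_le_left)).finrank_eq
    rw [← he, ← LinearMap.finrank_range_add_finrank_ker Ψ]
    refine Nat.add_le_add_right ((Submodule.finrank_le _).trans_eq ?_) _
    rw [Module.finrank_pi_fintype]
    exact Finset.sum_coe_sort Rs fun R => fdim F B R
  have hsum : (∑ K ∈ P, Module.finrank (ZMod q) ↥(pieceY F B K)) =
      ∑ R ∈ Rs, ((B ⊓ Subgroup.normalizer (R : Set (Aut q V))).relIndex B *
        Module.finrank (ZMod q) ↥(pieceY F B R)) := by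
    rw [← Finset.sum_fiberwise_of_maps_to (g := orbRep B) (t := Rs)
      fun K hK => Finset.mem_image_of_mem _ hK]
    refine Finset.sum_congr rfl fun R hR => ?_
    obtain ⟨hRp, hRr⟩ := isPiece_of_mem_repSet h hR
    have hset : ((P.filter fun K => orbRep B K = R : Finset _) : Set (Subgroup (Aut q V))) =
        orb B R := by
      ext K
      simp only [Finset.coe_filter, Set.mem_ofPred_eq]
      refine ⟨fun hK => ?_, fun hK => ⟨mem_pieceSet.2 (isPiece_of_mem_orb h hRp hK), ?_⟩⟩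
      · rw [← hK.2]
        exact mem_orb_symm (orbRep_mem B K)
      · rw [orbRep_eq hK, hRr]
    rw [Finset.sum_const_nat (m := Module.finrank (ZMod q) ↥(pieceY F B R)) fun K hK => ?_,
      ← card_orb, ← hset, Nat.card_coe_set_eq, Set.ncard_coe_finset]
    have hKo : K ∈ orb B R := by
      rw [← hset]
      exact hK
    obtain ⟨b, hb, rfl⟩ := hKo
    exact finrank_pieceY_conj h hb
  have hmv : (∑ R ∈ Rs, movedDim F B R) + ∑ R ∈ Rs, fdim F B R =
      ∑ R ∈ Rs, ((B ⊓ Subgroup.normalizer (R : Set (Aut q V))).relIndex B *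
        Module.finrank (ZMod q) ↥(pieceY F B R)) := by
    rw [← Finset.sum_add_distrib]
    exact Finset.sum_congr rfl fun R _ => Nat.sub_add_cancel (fdim_le F B R)
  change (∑ R ∈ Rs, movedDim F B R) + _ ≤ _
  omega

/-- A hyperplane in the support of a cheap orbit is in the support of another `D`-orbit. -/
theorem exists_second (h : Core q p t F A D B) (hab : ∀ x ∈ F, ∀ y ∈ F, x * y = y * x)
    (hp : ¬ p ∣ t - 1) {R L : Subgroup (Aut q V)} (hR : IsPiece t F R) (hL : IsHyp q B L)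
    (hTR : ¬ TT F B L ≤ R) :
    ∃ R' ∈ repSet t F B, R' ∉ orb D R ∧ ¬ TT F B L ≤ R' := by
  classical
  by_contra hc
  push Not at hc
  apply hTR
  intro y hy
  refine trick h hab hp hR (TT_le h.B_norm_F h.B_comm hL.1 hy).1 fun K hK hKO => ?_
  obtain ⟨b, hb, hbK⟩ := mem_orb_symm (orbRep_mem B K)
  have h1 := hc _ (Finset.mem_image_of_mem (orbRep B) (mem_pieceSet.2 hK)) fun hmem => hKO (by
    rw [← orb_eq_of_mem hmem]
    exact ⟨b, h.BD hb, hbK⟩)
  have h2 := TT_le_smul h.B_norm_F h.B_comm hL.1 hb h1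
  rw [hbK] at h2
  exact h2 hy

theorem exists_abelian_rep (h : Core q p t F A D B) (hab : ∀ x ∈ F, ∀ y ∈ F, x * y = y * x)
    {L : Subgroup (Aut q V)} (hL : IsHyp q B L) (hne : TT F B L ≠ ⊥) :
    ∃ R ∈ repSet t F B, ¬ TT F B L ≤ R := by
  classical
  obtain ⟨y, hy, hy1⟩ := (Subgroup.ne_bot_iff_exists_ne_one).1 hne |>.elim
    fun y hy => (⟨y.1, y.2, fun he => hy (Subtype.ext he)⟩ : ∃ z, z ∈ TT F B L ∧ z ≠ 1)
  obtain ⟨K, hK, hKX, hyK⟩ := exists_piece (h.elem hab) (TT_le h.B_norm_F h.B_comm hL.1 hy).1 hy1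
  refine ⟨_, Finset.mem_image_of_mem (orbRep B) (mem_pieceSet.2 ⟨hK, hKX⟩), fun hle => hyK ?_⟩
  obtain ⟨b, hb, hbK⟩ := mem_orb_symm (orbRep_mem B K)
  have h2 := TT_le_smul h.B_norm_F h.B_comm hL.1 hb hle
  rw [hbK] at h2
  exact h2 hy

/-- The configuration of two cheap orbits is impossible. -/
theorem no_cheap_pair (h : Core q p t F A D B) (hab : ∀ x ∈ F, ∀ y ∈ F, x * y = y * x)
    (hp : ¬ p ∣ t - 1) (hq : q = 2) (ht : t = 3) {R R' L : Subgroup (Aut q V)}
    (hR : IsPiece t F R) (hR' : IsPiece t F R') (hne : R' ∉ orb D R) (hL : IsHyp q B L)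
    (hRB : B ≤ Subgroup.normalizer (R : Set (Aut q V)))
    (hR'B : B ≤ Subgroup.normalizer (R' : Set (Aut q V)))
    (hRN : IsHyp q B (kerOn F R B)) (hR'N : IsHyp q B (kerOn F R' B))
    (hTR : ¬ TT F B L ≤ R) (hTR' : ¬ TT F B L ≤ R')
    (honly : ∀ K, IsPiece t F K → ¬ TT F B L ≤ K → K = R ∨ K = R') : False := by
  subst hq ht
  haveI : Finite (Aut 2 V) := finite_aut
  haveI : Fact (Nat.Prime 3) := ⟨Nat.prime_three⟩
  have hexp := h.abelian_pow hab
  have key : ∀ K, IsPiece 3 F K → B ≤ Subgroup.normalizer (K : Set (Aut 2 V)) →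
      IsHyp 2 B (kerOn F K B) → ¬ TT F B L ≤ K →
      ∀ b ∈ B, b ∉ L → ∀ x ∈ F, x * b = b * x → x ∈ K := by
    intro K hK hKB hKN hTK b hb hbL x hx hxb
    have hNL : L = kerOn F K B :=
      hKN.eq_of_le Nat.prime_two hL (kerOn_le 2 Nat.prime_two h.B_comm hL hTK)
    obtain ⟨χ, hχ⟩ := exists_isChi hK.1 Nat.prime_three hab hexp
    obtain ⟨u, hu⟩ := hχ.exists_scalar (h.B_norm_F hb) (hKB hb) hK.1.1
    have hu1 : u ≠ 1 := by
      intro h1
      apply hbL
      rw [hNL]
      refine ⟨hb, hKB hb, fun y hy => ?_⟩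
      have hcy : b * y⁻¹ * b⁻¹ ∈ F :=
        (Subgroup.mem_normalizer_iff.1 (h.B_norm_F hb) _).1 (inv_mem hy)
      have e : ⁅y, b⁆ = y * (b * y⁻¹ * b⁻¹) := by rw [commutatorElement_def]; group
      rw [e, ← hχ.ker _ (mul_mem hy hcy), hχ.add _ hy _ hcy, hu _ (inv_mem hy), h1,
        hχ.map_inv hy, one_mul, add_neg_cancel]
    refine (hχ.ker x hx).1 ?_
    have h2 := hu x hx
    rw [← hxb, mul_inv_cancel_right] at h2
    by_contra hx0
    exact hu1 (mul_right_cancel₀ hx0 (h2.symm.trans (one_mul _).symm))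
  have hboth : ∀ b ∈ B, b ∉ L → ∀ x ∈ F, x * b = b * x → x ∈ R ⊓ R' :=
    fun b hb hbL x hx hxb =>
      ⟨key R hR hRB hRN hTR b hb hbL x hx hxb, key R' hR' hR'B hR'N hTR' b hb hbL x hx hxb⟩
  obtain ⟨b, hb, hbL⟩ := hL.exists_notMem Nat.prime_two
  have hgen : F ≤ (R ⊓ R') ⊔ TT F B L := by
    refine le_of_cf_le h hab fun L' hL' x hx => ?_
    by_cases hLL : L' = L
    · subst hLL
      have hcx := conj_mem_cent h.B_norm_F h.B_comm hL.1 hb hx
      have hb2 : b * b = 1 := by
        rw [← pow_two]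
        exact h.B_pow b hb
      have hbinv : b⁻¹ = b := inv_eq_of_mul_eq_one_right hb2
      set w := x * (b * x * b⁻¹) with hw
      have hwb : w * b = b * w := by
        rw [hw, hab x hx.1 _ hcx.1]
        rw [hbinv]
        calc b * x * b * x * b = b * x * (b * x * b) := by group
          _ = b * (x * (b * x * b)) := by group
          _ = b * ((b * x * b) * x) := by rw [hab x hx.1 (b * x * b) (by simpa [hbinv] using hcx.1)]
          _ = _ := by group
      have hwmem := hboth b hb hbL w (mul_mem hx.1 hcx.1) hwb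
      have hcomm := comm_mem_TT hx hb
      have e : w * ⁅x, b⁆ = x ^ 2 := by
        rw [hw, commutatorElement_def,
          show x * b * x⁻¹ * b⁻¹ = x * (b * x * b⁻¹)⁻¹ by group, hab x hx.1 _ (inv_mem hcx.1),
          ← mul_assoc, mul_inv_cancel_right, pow_two]
      have h2 : x ^ 2 ∈ (R ⊓ R') ⊔ TT F B L' :=
        e ▸ mul_mem (Subgroup.mem_sup_left hwmem) (Subgroup.mem_sup_right hcomm)
      have h4 := pow_mem h2 2
      rwa [← pow_mul, pow_succ, hexp x hx.1, one_mul] at h4
    · obtain ⟨b', hb', hb'L⟩ : ∃ b' ∈ L', b' ∉ L := by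
        by_contra hc
        push Not at hc
        exact hLL (hL'.eq_of_le Nat.prime_two hL hc).symm
      exact Subgroup.mem_sup_left (hboth b' (hL'.1 hb') hb'L x hx.1
        (Subgroup.mem_centralizer_iff.1 hx.2 b' hb').symm)
  have hTT : ∀ y ∈ TT F B L, y ∈ R' → y ∈ R := by
    intro y hy hyR'
    refine trick h hab hp hR (TT_le h.B_norm_F h.B_comm hL.1 hy).1 fun K hK hKO => ?_
    by_cases hTK : TT F B L ≤ K
    · exact hTK hy
    · rcases honly K hK hTK with rfl | rfl
      · exact absurd (self_mem_orb D K) hKO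
      · exact hyR'
  have hle : R' ≤ R := by
    intro y hy
    have hn : (R ⊓ R') ≤ Subgroup.normalizer (TT F B L : Set (Aut 2 V)) :=
      SignalizerCoprime.le_normalizer_of_forall fun k hk z hz => by
        rw [hab k (hR.1.1 hk.1) z (TT_le h.B_norm_F h.B_comm hL.1 hz).1, mul_inv_cancel_right]
        exact hz
    have hy' : y ∈ (((R ⊓ R') ⊔ TT F B L : Subgroup (Aut 2 V)) : Set (Aut 2 V)) :=
      hgen (hR'.1.1 hy)
    rw [Subgroup.coe_mul_of_left_le_normalizer_right _ _ hn] at hy'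
    obtain ⟨k, hk, z, hz, rfl⟩ := hy'
    have hzR' : z ∈ R' := by
      have h1 := mul_mem (inv_mem (show k ∈ R' from hk.2)) hy
      rwa [inv_mul_cancel_left] at h1
    exact mul_mem hk.1 (hTT z hz hzR')
  exact hne ((hR'.1.eq_of_le Nat.prime_three hR.1 hle) ▸ self_mem_orb D R)

/-- The bound on fixed points when `F` is abelian. -/
theorem coreAbelian : CoreAbelian.{u} := by
  intro q p t _ _ V _ _ _ F A D B h hab
  classical
  haveI : Finite (Aut q V) := finite_aut
  haveI := Fact.mk h.t_prime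
  obtain ⟨S, hS, hinf, hidx⟩ := exists_chosen h hab
  let Rs := repSet t F B
  let IR : Subgroup (Aut q V) → Finset (Subgroup (Aut q V)) := fun R =>
    S.filter fun L => ¬ TT F B L ≤ R
  let cf : Subgroup (Aut q V) → ℕ := fun R =>
    if 2 * (IR R).card ≤ movedDim F B R then 2 else 1
  have hloc : ∀ R ∈ Rs, 1 ≤ (IR R).card → (IR R).card ≤ movedDim F B R ∧
      (movedDim F B R ≤ 2 * (IR R).card → ¬ p ∣ t - 1) ∧
      (movedDim F B R = (IR R).card → B ≤ Subgroup.normalizer (R : Set (Aut q V)) ∧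
        IsHyp q B (kerOn F R B) ∧ q = 2 ∧ t = 3) := fun R hR hcard =>
    local_bound h hab (isPiece_of_mem_repSet h hR).1
      (fun L hL => ⟨(hS L (Finset.mem_filter.1 hL).1).1, (Finset.mem_filter.1 hL).2⟩)
      (hidx _ (Finset.filter_subset _ _)) hcard
  have hcf : ∀ R ∈ Rs, cf R * (IR R).card ≤ movedDim F B R := by
    intro R hR
    simp only [cf]
    split_ifs with hc
    · exact hc
    · rw [one_mul]
      rcases Nat.eq_zero_or_pos (IR R).card with h0 | h0
      · omega
      · exact (hloc R hR h0).1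
  let s : Subgroup (Aut q V) → ℕ := fun L => ∑ R ∈ Rs.filter (fun R => ¬ TT F B L ≤ R), cf R
  have hswap : ∑ R ∈ Rs, cf R * (IR R).card = ∑ L ∈ S, s L := by
    simp only [s, IR, Finset.sum_filter, Finset.card_filter, Finset.mul_sum, mul_ite, mul_one,
      mul_zero]
    exact Finset.sum_comm
  have hpos : ∀ R, ∀ L ∈ S, ¬ TT F B L ≤ R → 1 ≤ (IR R).card := fun R L hL hT =>
    Finset.card_pos.2 ⟨L, Finset.mem_filter.2 ⟨hL, hT⟩⟩
  have hcf1 : ∀ R, 1 ≤ cf R := fun R => by
    simp only [cf]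
    split_ifs <;> omega
  have hsecond : ∀ L ∈ S, ∀ R ∈ Rs, ¬ TT F B L ≤ R → movedDim F B R ≤ 2 * (IR R).card →
      ∃ R' ∈ Rs, R' ∉ orb D R ∧ ¬ TT F B L ≤ R' ∧ cf R + cf R' ≤ s L := by
    intro L hL R hR hT hle
    obtain ⟨R', hR', hne, hT'⟩ := exists_second h hab
      ((hloc R hR (hpos R L hL hT)).2.1 hle) (isPiece_of_mem_repSet h hR).1 (hS L hL).1 hT
    refine ⟨R', hR', hne, hT', ?_⟩
    have hne' : R ≠ R' := fun he => hne (he ▸ self_mem_orb D R)
    rw [← Finset.sum_pair hne']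
    refine Finset.sum_le_sum_of_subset fun X hX => ?_
    rcases Finset.mem_insert.1 hX with rfl | hX
    · exact Finset.mem_filter.2 ⟨hR, hT⟩
    · rw [Finset.mem_singleton.1 hX]
      exact Finset.mem_filter.2 ⟨hR', hT'⟩
  have hs2 : ∀ L ∈ S, 2 ≤ s L := by
    intro L hL
    obtain ⟨R, hR, hT⟩ := exists_abelian_rep h hab (hS L hL).1 (hS L hL).2
    by_cases hc : 2 * (IR R).card ≤ movedDim F B R
    · calc 2 = cf R := by simp [cf, hc]
        _ ≤ s L := Finset.single_le_sum (fun X _ => Nat.zero_le _) (Finset.mem_filter.2 ⟨hR, hT⟩)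
    · obtain ⟨R', -, -, -, h2⟩ := hsecond L hL R hR hT (by omega)
      have := hcf1 R
      have := hcf1 R'
      omega
  have hsum := sum_moved_le h hab
  have h1 : ∑ R ∈ Rs, cf R * (IR R).card ≤ ∑ R ∈ Rs, movedDim F B R := Finset.sum_le_sum hcf
  have h2 : 2 * S.card ≤ ∑ L ∈ S, s L := by
    rw [mul_comm, ← smul_eq_mul, ← Finset.sum_const]
    exact Finset.sum_le_sum hs2
  have hstrict : 2 * S.card < ∑ R ∈ Rs, movedDim F B R := by
    by_contra hc
    have heq1 := (Finset.sum_eq_sum_iff_of_le hcf).1 (by omega)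
    have heq2 : ∀ L ∈ S, 2 = s L := (Finset.sum_eq_sum_iff_of_le hs2).1 (by
      rw [Finset.sum_const, smul_eq_mul]
      omega)
    have hS0 : S.Nonempty := Finset.nonempty_iff_ne_empty.2 fun h0 => by
      subst h0
      rw [Finset.inf_empty, inf_top_eq] at hinf
      exact h.moved (inf_eq_left.1 hinf.symm)
    obtain ⟨L, hL⟩ := hS0
    have hcheap : ∀ R ∈ Rs, ¬ TT F B L ≤ R → cf R = 1 ∧ movedDim F B R = (IR R).card := by
      intro R hR hT
      have he := heq1 R hR
      by_cases hc2 : 2 * (IR R).card ≤ movedDim F B R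
      · exfalso
        have hcf2 : cf R = 2 := by simp [cf, hc2]
        rw [hcf2] at he
        obtain ⟨R', -, -, -, h3⟩ := hsecond L hL R hR hT (by omega)
        have := hcf1 R'
        have := heq2 L hL
        omega
      · have hcf1' : cf R = 1 := by simp [cf, hc2]
        rw [hcf1', one_mul] at he
        exact ⟨hcf1', he.symm⟩
    obtain ⟨R, hR, hT⟩ := exists_abelian_rep h hab (hS L hL).1 (hS L hL).2
    obtain ⟨-, hm⟩ := hcheap R hR hT
    obtain ⟨R', hR', hne, hT', -⟩ := hsecond L hL R hR hT (by omega)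
    obtain ⟨-, hm'⟩ := hcheap R' hR' hT'
    obtain ⟨hRB, hRN, hq2, ht3⟩ := (hloc R hR (hpos R L hL hT)).2.2 hm
    obtain ⟨hR'B, hR'N, -, -⟩ := (hloc R' hR' (hpos R' L hL hT')).2.2 hm'
    refine no_cheap_pair h hab ((hloc R hR (hpos R L hL hT)).2.1 (by omega)) hq2 ht3
      (isPiece_of_mem_repSet h hR).1 (isPiece_of_mem_repSet h hR').1 hne (hS L hL).1 hRB hR'B
      hRN hR'N hT hT' fun K hK hTK => ?_
    obtain ⟨b, hb, hbK⟩ := mem_orb_symm (orbRep_mem B K)
    have hTK' : ¬ TT F B L ≤ orbRep B K := fun hle => hTK (by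
      have h3 := TT_le_smul h.B_norm_F h.B_comm (hS L hL).1.1 hb hle
      rwa [hbK] at h3)
    have hmem : orbRep B K ∈ Rs := Finset.mem_image_of_mem _ (mem_pieceSet.2 hK)
    by_cases hcR : orbRep B K = R
    · left
      rw [← hbK, hcR, conj_smul_eq (hRB hb)]
    by_cases hcR' : orbRep B K = R'
    · right
      rw [← hbK, hcR', conj_smul_eq (hR'B hb)]
    exfalso
    have hne' : R ≠ R' := fun he => hne (he ▸ self_mem_orb D R)
    have h3 : ∑ X ∈ ({orbRep B K, R, R'} : Finset _), cf X ≤ s L := by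
      refine Finset.sum_le_sum_of_subset fun X hX => ?_
      simp only [Finset.mem_insert, Finset.mem_singleton] at hX
      rcases hX with rfl | rfl | rfl
      · exact Finset.mem_filter.2 ⟨hmem, hTK'⟩
      · exact Finset.mem_filter.2 ⟨hR, hT⟩
      · exact Finset.mem_filter.2 ⟨hR', hT'⟩
    rw [Finset.sum_insert (by simp [hcR, hcR']), Finset.sum_pair hne'] at h3
    have := hcf1 R
    have := hcf1 R'
    have := hcf1 (orbRep B K)
    have := heq2 L hL
    omega
  have hC := hidx S (Finset.Subset.refl S)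
  rw [hinf] at hC
  unfold CoreBound
  rw [hC, card_submodule, card_submodule, ← pow_mul, ← pow_add]
  refine Nat.pow_lt_pow_right (Fact.out : q.Prime).one_lt ?_
  change (∑ R ∈ Rs, movedDim F B R) + _ ≤ _ at hsum
  omega

end Cfsg.Agent.SFTPure
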