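import Mathlib
import Cfsg.Agent.Lib.SFTSigma
import Cfsg.Agent.Lib.CoprimeAction
import Cfsg.Agent.Lib.PGroupsBasic
import Cfsg.Agent.Lib.SFTPureRep

/-!
# Pure uniqueness: from subgroups to modules
-/

set_option autoImplicit false
set_option linter.unusedSectionVars false

namespace Cfsg.Agent.SFTPure

open Cfsg.Agent.SignalizerCoprime Cfsg.Agent.SFTGroup
open scoped commutatorElement

universe u

theorem lcs_map {G H : Type*} [Group G] [Group H] (f : G →* H) (F : Subgroup G) :
    ∀ n, lcs (F.map f) n = (lcs F n).map f := by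
  intro n
  induction n with
  | zero => rfl
  | succ n ih => simp only [lcs]; rw [ih, Subgroup.map_commutator]

theorem lcs_mono {G : Type*} [Group G] {E F : Subgroup G} (h : E ≤ F) :
    ∀ n, lcs E n ≤ lcs F n := by
  intro n
  induction n with
  | zero => exact h
  | succ n ih => exact Subgroup.commutator_mono ih h

theorem lcs_le_self {G : Type*} [Group G] (F : Subgroup G) : ∀ n, lcs F n ≤ F := by
  intro n
  induction n with
  | zero => exact le_rfl
  | succ n ih => exact (Subgroup.commutator_mono ih le_rfl).trans (Subgroup.commutator_le_self F)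

theorem lcs_eq {G : Type*} [Group G] (F : Subgroup G) : ∀ n, lcs F n =
    Subgroup.lowerCentralSeries F n := by
  intro n
  induction n with
  | zero => rfl
  | succ n ih => simp only [lcs]; rw [ih]; rfl

/-- An element of `F` whose image commutes with the image of the coprime `p`-group `A` has the image
of a fixed point. -/
theorem exists_fixed_lift {G H : Type*} [Group G] [Finite G] [Group H] {p : ℕ} [Fact p.Prime]
    (f : G →* H) {A F : Subgroup G} (hA : IsPGroup p A)
    (hAF : A ≤ Subgroup.normalizer (F : Set G)) (hpF : ¬ p ∣ Nat.card F) {y : H}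
    (hy : y ∈ F.map f) (hyA : ∀ a ∈ A, f a * y = y * f a) :
    ∃ c ∈ F, c ∈ Subgroup.centralizer (A : Set G) ∧ f c = y := by
  obtain ⟨x, hx, rfl⟩ := hy
  have hn : A ≤ Subgroup.normalizer ((F ⊓ f.ker : Subgroup G) : Set G) :=
    le_normalizer_inf hAF (by rw [Subgroup.normalizer_eq_top f.ker]; exact le_top)
  obtain ⟨k, hk, hfix⟩ := exists_fixed_in_coset hA
    (fun h => hpF (h.trans (Subgroup.card_dvd_of_le inf_le_left))) hn (x := x) fun a ha => by
      refine Subgroup.mem_inf.2 ⟨mul_mem (mem_normalizer_conj (hAF ha) hx) (inv_mem hx), ?_⟩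
      rw [MonoidHom.mem_ker, map_mul, map_mul, map_mul, map_inv, map_inv, hyA a ha]
      group
  refine ⟨k * x, mul_mem hk.1 hx, fun a ha => hfix a ha, ?_⟩
  rw [map_mul, MonoidHom.mem_ker.1 (Subgroup.mem_inf.1 hk).2, one_mul]

/-! ### Linearisation -/

section lin

variable {q : ℕ} {M : Type u} [CommGroup M] [Module (ZMod q) (Additive M)]

/-- An automorphism of a group of exponent `q` as a linear map. -/
def toLin : MulAut M →* Aut q (Additive M) where
  toFun f :=
    { f.toMonoidHom.toAdditive.toZModLinearMap q with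
      invFun := fun v => Additive.ofMul (f.symm v.toMul)
      left_inv := fun v => by
        change Additive.ofMul (f.symm (f v.toMul)) = v
        rw [MulEquiv.symm_apply_apply]; rfl
      right_inv := fun v => by
        change Additive.ofMul (f (f.symm v.toMul)) = v
        rw [MulEquiv.apply_symm_apply]; rfl }
  map_one' := LinearEquiv.ext fun _ => rfl
  map_mul' _ _ := LinearEquiv.ext fun _ => rfl

theorem toLin_apply (f : MulAut M) (v : Additive M) : (toLin f : Aut q (Additive M)) v =
    Additive.ofMul (f v.toMul) := rfl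

theorem toLin_injective : Function.Injective (toLin : MulAut M →* Aut q (Additive M)) := by
  intro f g h
  refine MulEquiv.ext fun m => ?_
  exact congrArg Additive.toMul (congrArg (fun e : Aut q (Additive M) => e (Additive.ofMul m)) h)

end lin

section onSubgroup

variable {q : ℕ} {G : Type u} [Group G] (U : Subgroup G) [IsMulCommutative U]

/-- The group structure of an abelian subgroup. -/
abbrev commGroupOf : CommGroup U :=
  { (inferInstance : Group U) with mul_comm := fun a b => IsMulCommutative.is_comm.comm a b }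

end onSubgroup

/-- The action on an elementary abelian subgroup as a linear representation. -/
theorem exists_rep {q : ℕ} [Fact q.Prime] {G : Type u} [Group G] [Finite G] {U : Subgroup G}
    (hU : Cfsg.IsElementaryAbelian q U) :
    ∃ (V : Type u) (_ : AddCommGroup V) (_ : Module (ZMod q) V) (_ : Finite V)
      (ρ : ↥(Subgroup.normalizer (U : Set G)) →* Aut q V) (e : V ≃ ↥U),
      (∀ g v, ((e (ρ g v) : ↥U) : G) = (g : G) * e v * (g : G)⁻¹) ∧
      (∀ v w, e (v + w) = e v * e w) := by
  haveI := hU.1
  letI : CommGroup ↥U := commGroupOf U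
  letI : Module (ZMod q) (Additive ↥U) := AddCommGroup.zmodModule fun v => by
    refine congrArg Additive.ofMul (show v.toMul ^ q = 1 from Subtype.ext ?_)
    rw [SubmonoidClass.coe_pow]
    exact hU.2 _ v.toMul.2
  exact ⟨Additive ↥U, inferInstance, inferInstance, inferInstance,
    toLin.comp U.normalizerMonoidHom, Additive.toMul, fun g v => rfl, fun v w => rfl⟩

section transfer

variable {q : ℕ} [Fact q.Prime] {G : Type u} [Group G] [Finite G] {U : Subgroup G} {V : Type u}
  [AddCommGroup V] [Module (ZMod q) V] {ρ : ↥(Subgroup.normalizer (U : Set G)) →* Aut q V}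
  {e : V ≃ ↥U} (he : ∀ g v, ((e (ρ g v) : ↥U) : G) = (g : G) * e v * (g : G)⁻¹)
include he

theorem rep_eq_one {g : ↥(Subgroup.normalizer (U : Set G))} :
    ρ g = 1 ↔ (g : G) ∈ Subgroup.centralizer (U : Set G) := by
  constructor
  · intro h u hu
    have h1 := he g (e.symm ⟨u, hu⟩)
    rw [h, LinearEquiv.coe_one, id_eq, Equiv.apply_symm_apply] at h1
    exact mul_inv_eq_iff_eq_mul.1 h1.symm |>.symm
  · intro h
    refine LinearEquiv.ext fun v => e.injective (Subtype.ext ?_)
    rw [he, ← h _ (e v).2, mul_inv_cancel_right]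
    rfl

theorem card_fix (S : Subgroup G) (hS : S ≤ Subgroup.normalizer (U : Set G)) :
    Nat.card ↥(fix ((S.subgroupOf _).map ρ)) =
      Nat.card ↥(U ⊓ Subgroup.centralizer (S : Set G)) := by
  refine Nat.card_congr
    { toFun := fun v => ⟨e v, (e v).2, fun s hs => ?_⟩
      invFun := fun u => ⟨e.symm ⟨u, u.2.1⟩, ?_⟩
      left_inv := fun v => Subtype.ext (by simp)
      right_inv := fun u => Subtype.ext (by simp) }
  · have h := he ⟨s, hS hs⟩ v
    rw [v.2 _ ⟨⟨s, hS hs⟩, hs, rfl⟩] at h
    exact mul_inv_eq_iff_eq_mul.1 h.symm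
  · rintro _ ⟨s, hs, rfl⟩
    refine e.injective (Subtype.ext ?_)
    rw [he]
    simp only [Equiv.apply_symm_apply]
    rw [u.2.2 _ (Subgroup.mem_subgroupOf.1 hs), mul_inv_cancel_right]

theorem card_map_mul (S : Subgroup G) (hS : S ≤ Subgroup.normalizer (U : Set G)) :
    Nat.card ((S.subgroupOf _).map ρ) * Nat.card ↥(S ⊓ Subgroup.centralizer (U : Set G)) =
      Nat.card S := by
  set f := ρ.comp (Subgroup.inclusion hS)
  have h1 : f.range = (S.subgroupOf (Subgroup.normalizer (U : Set G))).map ρ := by
    rw [MonoidHom.range_comp, Subgroup.inclusion_range]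
  have h2 : Nat.card f.ker = Nat.card ↥(S ⊓ Subgroup.centralizer (U : Set G)) := by
    refine Nat.card_congr
      { toFun := fun s => ⟨(s : ↥S), (s : ↥S).2, (rep_eq_one he).1 (MonoidHom.mem_ker.1 s.2)⟩
        invFun := fun s => ⟨⟨s, s.2.1⟩, MonoidHom.mem_ker.2 ((rep_eq_one he).2 s.2.2)⟩
        left_inv := fun _ => rfl
        right_inv := fun _ => rfl }
  rw [← h1, ← h2, ← Subgroup.index_ker, mul_comm, f.ker.card_mul_index]

end transfer

section frattiniRep

variable {q : ℕ} [Fact q.Prime] {G : Type u} [Group G] [Finite G]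

/-- The action on the Frattini quotient of a `q`-subgroup. -/
def frattiniAct (Q : Subgroup G) :
    ↥(Subgroup.normalizer (Q : Set G)) →* MulAut (↥Q ⧸ frattini ↥Q) where
  toFun g := QuotientGroup.congr _ _ (Q.normalizerMonoidHom g)
    (Subgroup.characteristic_iff_map_eq.1 inferInstance _)
  map_one' := MulEquiv.ext fun x => by
    induction x using QuotientGroup.induction_on with
    | H x => simp [map_one]
  map_mul' g h := MulEquiv.ext fun x => by
    induction x using QuotientGroup.induction_on with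
    | H x => rw [map_mul]; rfl

/-- The linear representation on the Frattini quotient. -/
theorem exists_frattini_rep {Q : Subgroup G} (hQ : IsPGroup q Q) :
    ∃ (V : Type u) (_ : AddCommGroup V) (_ : Module (ZMod q) V) (_ : Finite V)
      (ρ : ↥(Subgroup.normalizer (Q : Set G)) →* Aut q V) (π : ↥Q →* Multiplicative V),
      Function.Surjective π ∧
      (∀ (g : ↥(Subgroup.normalizer (Q : Set G))) (y z : ↥Q),
        (z : G) = (g : G) * y * (g : G)⁻¹ → ρ g (π y).toAdd = (π z).toAdd) ∧
      (∀ g : ↥(Subgroup.normalizer (Q : Set G)), ρ g = 1 → ¬ q ∣ orderOf (g : G) →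
        (g : G) ∈ Subgroup.centralizer (Q : Set G)) := by
  obtain ⟨hc, hpow⟩ := PGroupsBasic.quotient_frattini_elementary hQ
  letI : CommGroup (↥Q ⧸ frattini ↥Q) :=
    { (inferInstance : Group (↥Q ⧸ frattini ↥Q)) with mul_comm := hc }
  letI : Module (ZMod q) (Additive (↥Q ⧸ frattini ↥Q)) :=
    AddCommGroup.zmodModule fun v => congrArg Additive.ofMul (hpow v.toMul)
  refine ⟨Additive (↥Q ⧸ frattini ↥Q), inferInstance, inferInstance, inferInstance,
    toLin.comp (frattiniAct Q),
    { toFun := fun y => Multiplicative.ofAdd (Additive.ofMul (y : ↥Q ⧸ frattini ↥Q))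
      map_one' := rfl
      map_mul' := fun a b => rfl }, ?_, ?_, ?_⟩
  · intro v
    obtain ⟨y, hy⟩ := QuotientGroup.mk_surjective v.toAdd.toMul
    exact ⟨y, by change Multiplicative.ofAdd (Additive.ofMul (y : ↥Q ⧸ frattini ↥Q)) = v; rw [hy]; rfl⟩
  · intro g y z h
    change Additive.ofMul ((frattiniAct Q g) (y : ↥Q ⧸ frattini ↥Q)) =
      Additive.ofMul ((z : ↥Q) : ↥Q ⧸ frattini ↥Q)
    rw [show z = Q.normalizerMonoidHom g y from Subtype.ext h]
    rfl
  · intro g hg hq
    have hg' : frattiniAct Q g = 1 := toLin_injective (q := q) (by rw [map_one]; exact hg)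
    refine CoprimeAction.le_centralizer_of_frattini (A := Subgroup.zpowers (g : G))
      (Subgroup.zpowers_le.2 g.2) ?_ ?_ (Subgroup.mem_zpowers _)
    · obtain ⟨k, hk⟩ := IsPGroup.iff_card.1 (hQ.to_subgroup (frattini ↥Q))
      rw [Nat.card_zpowers, hk]
      exact (Nat.Coprime.pow_left k ((Fact.out : q.Prime).coprime_iff_not_dvd.2 hq)).symm
    · intro a ha y hy
      obtain ⟨i, rfl⟩ := ha
      have h1 : frattiniAct Q (g ^ i) = 1 := by rw [map_zpow, hg', one_zpow]
      have h2 := DFunLike.congr_fun h1 ((⟨y, hy⟩ : ↥Q) : ↥Q ⧸ frattini ↥Q)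
      refine ⟨Q.normalizerMonoidHom (g ^ i) ⟨y, hy⟩ * (⟨y, hy⟩ : ↥Q)⁻¹, ?_, ?_⟩
      swap
      · change ((g ^ i : ↥(Subgroup.normalizer (Q : Set G))) : G) * y *
          ((g ^ i : ↥(Subgroup.normalizer (Q : Set G))) : G)⁻¹ * y⁻¹ = _
        rw [SubgroupClass.coe_zpow]
      exact QuotientGroup.eq_one_iff _ |>.1 (by
        rw [QuotientGroup.mk_mul, QuotientGroup.mk_inv, mul_inv_eq_one]
        exact h2)

end frattiniRep

end Cfsg.Agent.SFTPure
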