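import Mathlib

/-!
# Pure uniqueness: isometries of small symplectic groups

A `q`-group without fixed points on a symplectic group of order 4, 9 or 16 is normalised by no
nontrivial isometry of prime order `p ∉ {2, q, t}`.
-/

set_option autoImplicit false

namespace Cfsg.Agent.SFTPureNonab

variable {Q : Type*} [Group Q] [Finite Q]

/-- The common fixed points of a group of automorphisms. -/
def fixedSub (R : Subgroup (MulAut Q)) : Subgroup Q where
  carrier := {x | ∀ r ∈ R, r x = x}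
  one_mem' := fun r _ => map_one r
  mul_mem' := fun {x y} hx hy r hr => by rw [map_mul, hx r hr, hy r hr]
  inv_mem' := fun {x} hx r hr => by rw [map_inv, hx r hr]

theorem mem_fixedSub {R : Subgroup (MulAut Q)} {x : Q} : x ∈ fixedSub R ↔ ∀ r ∈ R, r x = x :=
  Iff.rfl

/-- A `p`-group of automorphisms leaving a subgroup invariant. -/
theorem card_modEq_fixed {p : ℕ} [Fact p.Prime] {R : Subgroup (MulAut Q)} (hR : IsPGroup p R)
    (S : Subgroup Q) (hS : ∀ r ∈ R, ∀ x ∈ S, r x ∈ S) :
    Nat.card ↥S ≡ Nat.card ↥(fixedSub R ⊓ S) [MOD p] := by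
  letI : MulAction ↥R ↥S :=
    { smul := fun r x => ⟨(r : MulAut Q) x, hS r r.2 x x.2⟩
      one_smul := fun x => Subtype.ext rfl
      mul_smul := fun r s x => Subtype.ext rfl }
  let e : MulAction.fixedPoints ↥R ↥S ≃ ↥(fixedSub R ⊓ S) :=
    { toFun := fun x => ⟨(x.1 : Q), fun r hr => congrArg Subtype.val (x.2 ⟨r, hr⟩), x.1.2⟩
      invFun := fun x => ⟨⟨(x : Q), x.2.2⟩, fun r => Subtype.ext (x.2.1 r r.2)⟩
      left_inv := fun x => rfl
      right_inv := fun x => rfl }
  rw [← Nat.card_congr e]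
  exact hR.card_modEq_card_fixedPoints _

theorem fixedSub_zpowers {a : MulAut Q} {x : Q} :
    x ∈ fixedSub (Subgroup.zpowers a) ↔ a x = x := by
  refine ⟨fun h => h a (Subgroup.mem_zpowers a), fun h => ?_⟩
  have hle : Subgroup.zpowers a ≤ MulAction.stabilizer (MulAut Q) x :=
    Subgroup.zpowers_le.2 (show a x = x from h)
  exact fun r hr => show r x = x from hle hr

theorem isPGroup_zpowers_of_pow {p : ℕ} {X : Type*} [Group X] [hp : Fact p.Prime] {a : X}
    (ha : a ^ p = 1) : IsPGroup p ↥(Subgroup.zpowers a) := by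
  rcases (Nat.dvd_prime hp.out).1 (orderOf_dvd_of_pow_eq_one ha) with h | h
  · exact IsPGroup.of_card (n := 0) (by rw [Nat.card_zpowers, h, pow_zero])
  · exact IsPGroup.of_card (n := 1) (by rw [Nat.card_zpowers, h, pow_one])

/-- An automorphism of prime order fixing a subgroup of full order is trivial. -/
theorem eq_one_of_fixed {a : MulAut Q}
    (h : Nat.card ↥(fixedSub (Subgroup.zpowers a)) = Nat.card Q) : a = 1 :=
  MulEquiv.ext fun x => fixedSub_zpowers.1 (by
    rw [Subgroup.eq_top_of_card_eq _ h]; exact Subgroup.mem_top x)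

/-- The number of fixed points of a nontrivial automorphism of order `p`. -/
theorem card_fixed_zpowers {p : ℕ} [Fact p.Prime] {a : MulAut Q} (ha : a ^ p = 1) (ha1 : a ≠ 1) :
    Nat.card ↥(fixedSub (Subgroup.zpowers a)) ∣ Nat.card Q ∧
    Nat.card ↥(fixedSub (Subgroup.zpowers a)) < Nat.card Q ∧
    Nat.card Q ≡ Nat.card ↥(fixedSub (Subgroup.zpowers a)) [MOD p] := by
  have h1 := Subgroup.card_subgroup_dvd_card (fixedSub (Subgroup.zpowers a))
  refine ⟨h1, lt_of_le_of_ne (Nat.le_of_dvd Nat.card_pos h1) fun h => ha1 (eq_one_of_fixed h), ?_⟩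
  have h2 := card_modEq_fixed (isPGroup_zpowers_of_pow ha) ⊤ fun r _ x _ => Subgroup.mem_top _
  rwa [inf_top_eq, Subgroup.card_top] at h2

/-- A nondegenerate alternating form. -/
structure Symp (t : ℕ) (b : Q → Q → ZMod t) : Prop where
  mul_left : ∀ x y w, b (x * y) w = b x w + b y w
  mul_right : ∀ x y w, b x (y * w) = b x y + b x w
  self : ∀ x, b x x = 0
  nondeg : ∀ x, (∀ y, b y x = 0) → x = 1

namespace Symp

variable {t : ℕ} {b : Q → Q → ZMod t}

omit [Finite Q] in
theorem swap (hb : Symp t b) (x y : Q) : b y x = -b x y := by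
  have h := hb.self (x * y)
  rw [hb.mul_left, hb.mul_right, hb.mul_right, hb.self, hb.self] at h
  linear_combination h

omit [Finite Q] in
theorem one_right (hb : Symp t b) (x : Q) : b x 1 = 0 := by
  have h := hb.mul_right x 1 1
  rw [mul_one] at h
  linear_combination -h

omit [Finite Q] in
theorem one_left (hb : Symp t b) (x : Q) : b 1 x = 0 := by rw [hb.swap, hb.one_right, neg_zero]

omit [Finite Q] in
theorem comm (hb : Symp t b) (x y : Q) : x * y = y * x := by
  have h : x * y * (y * x)⁻¹ = 1 := hb.nondeg _ fun v => by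
    have h1 : b v (x * y * (y * x)⁻¹ * (y * x)) = b v (x * y) := by rw [inv_mul_cancel_right]
    rw [hb.mul_right v _ (y * x), hb.mul_right v y x, hb.mul_right v x y] at h1
    linear_combination h1
  exact mul_inv_eq_one.1 h

/-- The functional `b x`. -/
def lhom (hb : Symp t b) (x : Q) : Q →* Multiplicative (ZMod t) where
  toFun y := Multiplicative.ofAdd (b x y)
  map_one' := by rw [hb.one_right]; rfl
  map_mul' y w := by rw [hb.mul_right, ofAdd_add]

omit [Finite Q] in
theorem mem_ker_lhom (hb : Symp t b) {x y : Q} : y ∈ (hb.lhom x).ker ↔ b x y = 0 :=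
  Iff.rfl

omit [Finite Q] in
theorem exists_one [Fact t.Prime] (hb : Symp t b) {x : Q} (hx : x ≠ 1) : ∃ y, b x y = 1 := by
  by_contra hc
  refine hx (hb.nondeg x fun y => ?_)
  by_contra hy
  have hy' : b x y ≠ 0 := by rw [hb.swap y x]; exact neg_ne_zero.2 hy
  refine hc ⟨y ^ ((b x y)⁻¹).val, ?_⟩
  have h := map_pow (hb.lhom x) y ((b x y)⁻¹).val
  have h' := congrArg Multiplicative.toAdd h
  change b x (y ^ ((b x y)⁻¹).val) = Multiplicative.toAdd (Multiplicative.ofAdd (b x y) ^ _) at h'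
  rw [h', toAdd_pow, toAdd_ofAdd, nsmul_eq_mul, ZMod.natCast_val, ZMod.cast_id,
    inv_mul_cancel₀ hy']

theorem card_perp [Fact t.Prime] (hb : Symp t b) {x : Q} (hx : x ≠ 1) :
    Nat.card ↥(hb.lhom x).ker * t = Nat.card Q := by
  have hsurj : Function.Surjective (hb.lhom x) := by
    intro c
    obtain ⟨y, hy⟩ := hb.exists_one hx
    refine ⟨y ^ (Multiplicative.toAdd c).val, ?_⟩
    rw [map_pow]
    change Multiplicative.ofAdd (b x y) ^ _ = c
    rw [hy, ← ofAdd_nsmul, nsmul_one, ZMod.natCast_val, ZMod.cast_id]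
    rfl
  rw [← Subgroup.card_mul_index (hb.lhom x).ker, Subgroup.index_ker]
  congr 1
  rw [MonoidHom.range_eq_top.2 hsurj, Subgroup.card_top]
  simp

end Symp

variable {b : Q → Q → ZMod 2}

/-- The isometries. -/
def Isom {t : ℕ} (b : Q → Q → ZMod t) : Subgroup (MulAut Q) where
  carrier := {φ | ∀ x y, b (φ x) (φ y) = b x y}
  one_mem' := fun _ _ => rfl
  mul_mem' := fun {φ ψ} hφ hψ x y => (hφ _ _).trans (hψ x y)
  inv_mem' := fun {φ} hφ x y => by
    have h := hφ (φ⁻¹ x) (φ⁻¹ y)
    simp only [MulAut.apply_inv_self] at h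
    exact h.symm

/-- No commuting isometries of orders 5 and 3 on a symplectic group of order 16. -/
theorem no_pair (hb : Symp 2 b) (hc : Nat.card Q = 16) {u v : MulAut Q} (hu : u ∈ Isom b)
    (hv : v ∈ Isom b) (hu5 : u ^ 5 = 1) (hu1 : u ≠ 1) (hv3 : v ^ 3 = 1) (hv1 : v ≠ 1)
    (huv : u * v = v * u) : False := by
  haveI : Fact (Nat.Prime 5) := ⟨by norm_num⟩
  haveI : Fact (Nat.Prime 3) := ⟨by norm_num⟩
  obtain ⟨hud, hul, hum⟩ := card_fixed_zpowers hu5 hu1
  obtain ⟨hvd, hvl, hvm⟩ := card_fixed_zpowers hv3 hv1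
  rw [hc] at hud hul hum hvd hvl hvm
  have hu_one : fixedSub (Subgroup.zpowers u) = ⊥ := by
    refine Subgroup.eq_bot_of_card_eq _ ?_
    unfold Nat.ModEq at hum
    have := (Nat.dvd_prime_pow Nat.prime_two).1 (show _ ∣ 2 ^ 4 from hud)
    obtain ⟨k, hk, hk'⟩ := this
    rw [hk'] at hum hul ⊢
    interval_cases k <;> omega
  have hv_one : fixedSub (Subgroup.zpowers v) = ⊥ := by
    refine Subgroup.eq_bot_of_card_eq _ ?_
    have h5 := card_modEq_fixed (isPGroup_zpowers_of_pow hu5) (fixedSub (Subgroup.zpowers v))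
      fun r hr x hx => fixedSub_zpowers.2 (by
        obtain ⟨k, rfl⟩ := Subgroup.mem_zpowers_iff.1 hr
        have hk : Commute v (u ^ k) := ((show Commute u v from huv).symm).zpow_right k
        rw [← MulAut.mul_apply, hk.eq, MulAut.mul_apply, fixedSub_zpowers.1 hx])
    rw [hu_one, bot_inf_eq, Subgroup.card_bot] at h5
    unfold Nat.ModEq at hvm h5
    have := (Nat.dvd_prime_pow Nat.prime_two).1 (show _ ∣ 2 ^ 4 from hvd)
    obtain ⟨k, hk, hk'⟩ := this
    rw [hk'] at hvm hvl h5 ⊢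
    interval_cases k <;> omega
  set g := u * v with hg
  have huc : Commute u v := huv
  have hfree : ∀ x : Q, x ≠ 1 → ∀ k, 0 < k → k < 15 → (g ^ k) x ≠ x := by
    intro x hx k hk0 hk15 he
    have hfix : ∀ j, (g ^ (k * j)) x = x := by
      intro j
      induction j with
      | zero => simp
      | succ j ih => rw [Nat.mul_succ, pow_add, MulAut.mul_apply, he, ih]
    have h3 : (u ^ (k * 3)) x = x := by
      have := hfix 3
      rwa [hg, huc.mul_pow, mul_comm k 3, pow_mul v, hv3, one_pow, mul_one, mul_comm 3 k] at this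
    have h5 : (v ^ (k * 5)) x = x := by
      have := hfix 5
      rwa [hg, huc.mul_pow, mul_comm k 5, pow_mul u, hu5, one_pow, one_mul, mul_comm 5 k] at this
    rcases (show ¬ (5 ∣ k) ∨ ¬ (3 ∣ k) by omega) with hn | hn
    · have hco : Nat.Coprime (k * 3) (orderOf u) := by
        rw [orderOf_eq_prime hu5 hu1]
        exact ((Nat.Prime.coprime_iff_not_dvd (by norm_num)).2 (by omega)).symm
      obtain ⟨m, hm⟩ := exists_pow_eq_self_of_coprime hco
      have hS : u ^ (k * 3) ∈ MulAction.stabilizer (MulAut Q) x := h3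
      have h1 : u ∈ MulAction.stabilizer (MulAut Q) x := hm ▸ pow_mem hS m
      have : x ∈ fixedSub (Subgroup.zpowers u) := fixedSub_zpowers.2 h1
      rw [hu_one] at this
      exact hx (Subgroup.mem_bot.1 this)
    · have hco : Nat.Coprime (k * 5) (orderOf v) := by
        rw [orderOf_eq_prime hv3 hv1]
        exact ((Nat.Prime.coprime_iff_not_dvd (by norm_num)).2 (by omega)).symm
      obtain ⟨m, hm⟩ := exists_pow_eq_self_of_coprime hco
      have hS : v ^ (k * 5) ∈ MulAction.stabilizer (MulAut Q) x := h5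
      have h1 : v ∈ MulAction.stabilizer (MulAut Q) x := hm ▸ pow_mem hS m
      have : x ∈ fixedSub (Subgroup.zpowers v) := fixedSub_zpowers.2 h1
      rw [hv_one] at this
      exact hx (Subgroup.mem_bot.1 this)
  haveI : Nontrivial Q := Finite.one_lt_card_iff_nontrivial.1 (by omega)
  obtain ⟨x0, hx0⟩ := exists_ne (1 : Q)
  have hgI : ∀ k, g ^ k ∈ Isom b := fun k => pow_mem (mul_mem hu hv) k
  have hgv : ∀ k, Commute v (g ^ k) := fun k =>
    (((show Commute u v from huv).symm).mul_right (Commute.refl v)).pow_right k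
  let orb : Option (Fin 15) → Q := fun o => match o with
    | none => 1
    | some k => (g ^ (k : ℕ)) x0
  have horb : Function.Injective orb := by
    have hne : ∀ k : ℕ, (g ^ k) x0 ≠ 1 := fun k h => hx0 ((MulEquiv.map_eq_one_iff _).1 h)
    have key : ∀ i j : ℕ, i < j → j < 15 → (g ^ i) x0 ≠ (g ^ j) x0 := by
      intro i j hij hj h
      refine hfree ((g ^ i) x0) (hne i) (j - i) (by omega) (by omega) ?_
      rw [← MulAut.mul_apply, ← pow_add, Nat.sub_add_cancel hij.le]
      exact h.symm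
    intro o o' h
    rcases o with _ | i <;> rcases o' with _ | j
    · rfl
    · exact absurd h.symm (hne j)
    · exact absurd h (hne i)
    · rcases lt_trichotomy (i : ℕ) j with hij | hij | hij
      · exact absurd h (key i j hij j.2)
      · rw [Fin.ext hij]
      · exact absurd h.symm (key j i hij i.2)
  have hbij : Function.Bijective orb :=
    horb.bijective_of_nat_card_le (by rw [hc]; simp)
  set c := b x0 (v x0) with hcdef
  have hconst : ∀ x, x ≠ 1 → b x (v x) = c := by
    intro x hx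
    obtain ⟨o, ho⟩ := hbij.2 x
    rcases o with _ | k
    · exact absurd ho.symm hx
    · subst ho
      change b ((g ^ (k : ℕ)) x0) (v ((g ^ (k : ℕ)) x0)) = _
      rw [show v ((g ^ (k : ℕ)) x0) = (g ^ (k : ℕ)) (v x0) from DFunLike.congr_fun (hgv k).eq x0, hgI k]
  have h0 : c = 0 := by
    by_contra h
    have hc1 : c = 1 := by
      revert h; generalize c = w; revert w; decide
    have hpol : ∀ x y, x ≠ 1 → y ≠ 1 → x * y ≠ 1 → b x (v y) + b y (v x) = 1 := by
      intro x y hx hy hxy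
      have := hconst (x * y) hxy
      rw [map_mul, hb.mul_left, hb.mul_right, hb.mul_right, hconst x hx, hconst y hy, hc1] at this
      have h2e : (2 : ZMod 2) = 0 := by decide
      linear_combination this - h2e
    obtain ⟨y, hy⟩ := hb.exists_one hx0
    have hy1 : y ≠ 1 := by rintro rfl; rw [hb.one_right] at hy; exact zero_ne_one hy
    have hyx : y ≠ x0 := by rintro rfl; rw [hb.self] at hy; exact zero_ne_one hy
    classical
    haveI := Fintype.ofFinite Q
    obtain ⟨w, hw⟩ : ∃ w : Q, w ∉ ({1, x0⁻¹, y⁻¹, (x0 * y)⁻¹, x0⁻¹ * y⁻¹} : Finset Q) := by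
      by_contra hall
      have := Finset.eq_univ_iff_forall.2 fun w => by_contra fun hw => hall ⟨w, hw⟩
      have h5 := congrArg Finset.card this
      rw [Finset.card_univ, ← Nat.card_eq_fintype_card, hc] at h5
      have := Finset.card_insert_le (1 : Q) {x0⁻¹, y⁻¹, (x0 * y)⁻¹, x0⁻¹ * y⁻¹}
      have := Finset.card_le_five (a := (1 : Q)) (b := x0⁻¹) (c := y⁻¹) (d := (x0 * y)⁻¹)
        (e := x0⁻¹ * y⁻¹)
      omega
    simp only [Finset.mem_insert, Finset.mem_singleton, not_or] at hw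
    obtain ⟨hw1, hw2, hw3, hw4, hw5⟩ := hw
    have hxy : x0 * y ≠ 1 := by
      intro hxy
      have := congrArg (b x0) hxy
      rw [hb.mul_right, hb.self, hy, hb.one_right, zero_add] at this
      exact one_ne_zero this
    have e1 := hpol x0 y hx0 hy1 hxy
    have e2 := hpol x0 w hx0 hw1 (fun e => hw2 (eq_inv_of_mul_eq_one_right e))
    have e3 := hpol x0 (y * w) hx0 (fun e => hw3 (eq_inv_of_mul_eq_one_right e))
      (fun e => hw4 (eq_inv_of_mul_eq_one_right (by rwa [← mul_assoc] at e)))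
    rw [map_mul, hb.mul_right, hb.mul_left] at e3
    have : (1 : ZMod 2) + 1 = 1 := by linear_combination e3 - e1 - e2
    exact absurd this (by decide)
  refine hv1 (MulEquiv.ext fun x => ?_)
  have hv2 : v (v x) = x := by
    refine mul_inv_eq_one.1 (hb.nondeg _ fun z => ?_)
    have hall : ∀ x, b x (v x) = 0 := fun x => by
      by_cases hx : x = 1
      · subst hx; rw [map_one, hb.one_right]
      · rw [hconst x hx, h0]
    have h1 := hall (z * v x)
    rw [map_mul, hb.mul_left, hb.mul_right, hb.mul_right, hall, hall, hv x z] at h1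
    have h2 : b z (v (v x) * x⁻¹ * x) = b z (v (v x)) := by rw [inv_mul_cancel_right]
    rw [hb.mul_right] at h2
    have h3 := hb.swap z x
    have h4 : ∀ e : ZMod 2, e + e = 0 := by decide
    linear_combination h2 + h1 - h3
  have h3 : v (v (v x)) = x := by
    rw [← MulAut.mul_apply, ← MulAut.mul_apply, ← pow_two, ← pow_succ, hv3, MulAut.one_apply]
  rw [hv2] at h3
  exact h3

theorem exists_pow_prime {X : Type*} [Group X] {r : ℕ} [hr : Fact r.Prime] {S : Subgroup X}
    (hS : IsPGroup r S) {d : X} (hd : d ∈ S) (hd1 : d ≠ 1) :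
    ∃ e ∈ S, e ≠ 1 ∧ e ^ r = 1 ∧ ∃ i, d ^ i = e := by
  obtain ⟨k, hk⟩ := hS ⟨d, hd⟩
  have hdk : d ^ r ^ k = 1 := congrArg Subtype.val hk
  obtain ⟨m, -, hm⟩ := (Nat.dvd_prime_pow hr.out).1 (orderOf_dvd_of_pow_eq_one hdk)
  rcases m with _ | m
  · exact absurd (orderOf_eq_one_iff.1 (by simpa using hm)) hd1
  refine ⟨d ^ r ^ m, pow_mem hd _, fun he => ?_, ?_, _, rfl⟩
  · have h2 := orderOf_dvd_of_pow_eq_one he
    rw [hm] at h2
    exact absurd (Nat.le_of_dvd (pow_pos hr.out.pos _) h2)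
      (not_le.2 (Nat.pow_lt_pow_right hr.out.one_lt (Nat.lt_succ_self m)))
  · rw [← pow_mul, ← pow_succ, ← hm, pow_orderOf_eq_one]

theorem apply_stab {a d : MulAut Q} (h : a * d = d * a) (x : Q) : a (d x) = d (a x) :=
  DFunLike.congr_fun h x

/-- A fixed point free `3`-group of isometries of a symplectic group of order 16 is small. -/
theorem card_three_le (hb : Symp 2 b) (hc : Nat.card Q = 16) {R : Subgroup (MulAut Q)}
    (hR : IsPGroup 3 R) (hRb : R ≤ Isom b) : Nat.card ↥R ≤ 27 := by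
  haveI : Fact (Nat.Prime 3) := ⟨by norm_num⟩
  haveI : Finite (MulAut Q) := Finite.of_injective _ DFunLike.coe_injective
  haveI : Nontrivial Q := Finite.one_lt_card_iff_nontrivial.1 (by omega)
  obtain ⟨x, hx⟩ := exists_ne (1 : Q)
  set St := MulAction.stabilizer ↥R x with hSt
  have hmul : Nat.card ↥R = Nat.card (MulAction.orbit ↥R x) * Nat.card ↥St := by
    rw [Nat.card_congr (MulAction.orbitEquivQuotientStabilizer ↥R x), mul_comm]
    exact (Subgroup.card_mul_index St).symm
  have ho : Nat.card (MulAction.orbit ↥R x) ≤ 15 := by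
    have h1 : MulAction.orbit ↥R x ⊆ {(1 : Q)}ᶜ := by
      rintro _ ⟨r, rfl⟩ h
      exact hx ((MulEquiv.map_eq_one_iff (r : MulAut Q)).1 h)
    have h2 := Set.ncard_le_ncard h1
    have h3 := Set.ncard_add_ncard_compl ({(1 : Q)} : Set Q)
    rw [Set.ncard_singleton, hc] at h3
    rw [Nat.card_coe_set_eq]
    omega
  obtain ⟨j, hj⟩ := hR.card_orbit x
  have ho9 : Nat.card (MulAction.orbit ↥R x) ≤ 9 := by
    rw [hj] at ho ⊢
    have : j ≤ 2 := by
      by_contra hj3
      have := Nat.pow_le_pow_right (show 0 < 3 by norm_num) (show 3 ≤ j by omega)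
      omega
    exact Nat.pow_le_pow_right (by norm_num) this
  set S := St.map R.subtype with hS
  have hcS : Nat.card ↥S = Nat.card ↥St :=
    Subgroup.card_map_of_injective R.subtype_injective
  have hSR : S ≤ R := Subgroup.map_subtype_le _
  have hSx : ∀ r ∈ S, r x = x := by rintro _ ⟨r, hr, rfl⟩; exact hr
  suffices Nat.card ↥S ≤ 3 by rw [hmul, ← hcS]; exact (Nat.mul_le_mul ho9 this).trans (by norm_num)
  have hSp : IsPGroup 3 S := hR.to_le hSR
  have hperp : ∀ r ∈ S, ∀ y ∈ (hb.lhom x).ker, r y ∈ (hb.lhom x).ker := fun r hr y hy => by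
    rw [hb.mem_ker_lhom] at hy ⊢
    rw [← hy, ← hRb (hSR hr) x y, hSx r hr]
  have hp8 : Nat.card ↥(hb.lhom x).ker = 8 := by
    have := hb.card_perp hx
    omega
  obtain ⟨y, hyf, hy⟩ : ∃ y ∈ fixedSub S, y ∉ (hb.lhom x).ker := by
    by_contra hcon
    push Not at hcon
    have h1 := card_modEq_fixed hSp ⊤ fun r _ w _ => Subgroup.mem_top _
    have h2 := card_modEq_fixed hSp _ hperp
    rw [inf_eq_left.2 (show fixedSub S ≤ (hb.lhom x).ker from hcon), hp8] at h2
    rw [inf_top_eq, Subgroup.card_top, hc] at h1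
    unfold Nat.ModEq at h1 h2
    omega
  have hxy : b x y = 1 := by
    rw [hb.mem_ker_lhom] at hy
    revert hy; generalize b x y = w; revert w; decide
  set W : Subgroup Q := (hb.lhom x).ker ⊓ (hb.lhom y).ker with hW
  have hyx : b y x = 1 := by
    rw [hb.swap x y, hxy]; decide
  have hWr : ∀ r ∈ S, ∀ w ∈ W, r w ∈ W := fun r hr w hw => ⟨hperp r hr w hw.1, by
    have h : b y w = 0 := hw.2
    change b y (r w) = 0
    rw [← h, ← hRb (hSR hr) y w, hyf r hr]⟩
  have hW4 : Nat.card ↥W = 4 := by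
    have hsurj : Function.Surjective ((hb.lhom y).comp (hb.lhom x).ker.subtype) := by
      intro c
      refine ⟨⟨x ^ (Multiplicative.toAdd c).val, pow_mem (by rw [hb.mem_ker_lhom, hb.self]) _⟩, ?_⟩
      rw [MonoidHom.comp_apply, Subgroup.coe_subtype, map_pow]
      change Multiplicative.ofAdd (b y x) ^ _ = c
      rw [hyx, ← ofAdd_nsmul, nsmul_one, ZMod.natCast_val, ZMod.cast_id]
      rfl
    have h2 := Subgroup.card_mul_index ((hb.lhom y).comp (hb.lhom x).ker.subtype).ker
    rw [Subgroup.index_ker, MonoidHom.range_eq_top.2 hsurj, Subgroup.card_top, hp8] at h2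
    have h3 : Nat.card ↥W = Nat.card ↥((hb.lhom y).comp (hb.lhom x).ker.subtype).ker :=
      Nat.card_congr
        { toFun := fun w => ⟨⟨w, w.2.1⟩, w.2.2⟩
          invFun := fun w => ⟨(w : Q), w.1.2, w.2⟩
          left_inv := fun w => rfl
          right_inv := fun w => rfl }
    rw [show Nat.card (Multiplicative (ZMod 2)) = 2 by simp] at h2
    omega
  haveI : Nontrivial ↥W := Finite.one_lt_card_iff_nontrivial.1 (by omega)
  obtain ⟨⟨w, hwW⟩, hw⟩ := exists_ne (1 : ↥W)
  have hw1 : w ≠ 1 := fun h => hw (Subtype.ext h)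
  have hfaith : ∀ r ∈ S, r w = w → r = 1 := by
    intro r hr hrw
    have hz : Subgroup.zpowers r ≤ S := Subgroup.zpowers_le.2 hr
    have hWfix : W ≤ fixedSub (Subgroup.zpowers r) := by
      have hm := card_modEq_fixed (hSp.to_le hz) W fun e he => hWr e (hz he)
      have hd := Subgroup.card_dvd_of_le (inf_le_right : fixedSub (Subgroup.zpowers r) ⊓ W ≤ W)
      have h2 : 1 < Nat.card ↥(fixedSub (Subgroup.zpowers r) ⊓ W) :=
        (Subgroup.one_lt_card_iff_ne_bot _).2 fun h => hw1 (Subgroup.mem_bot.1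
          (h ▸ (⟨fixedSub_zpowers.2 hrw, hwW⟩ : w ∈ fixedSub (Subgroup.zpowers r) ⊓ W)))
      rw [hW4] at hm hd
      obtain ⟨i, hi, hi'⟩ := (Nat.dvd_prime_pow Nat.prime_two).1 (show _ ∣ 2 ^ 2 from hd)
      refine inf_eq_right.1 (Subgroup.eq_of_le_of_card_ge inf_le_right ?_)
      rw [hi'] at hm h2 ⊢
      rw [hW4]
      unfold Nat.ModEq at hm
      interval_cases i <;> omega
    refine MulEquiv.ext fun g => ?_
    have hmem : g * (y ^ (b x g).val)⁻¹ * (x ^ (b y g).val)⁻¹ ∈ W := by
      have hpow : ∀ u v : Q, ∀ n : ℕ, b u ((v ^ n)⁻¹) = -((n : ZMod 2) * b u v) := by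
        intro u v n
        have h := congrArg Multiplicative.toAdd (map_pow (hb.lhom u) v n)
        change b u (v ^ n) = Multiplicative.toAdd (Multiplicative.ofAdd (b u v) ^ n) at h
        rw [toAdd_pow, toAdd_ofAdd, nsmul_eq_mul] at h
        have h2 := congrArg Multiplicative.toAdd (map_inv (hb.lhom u) (v ^ n))
        change b u ((v ^ n)⁻¹) = -b u (v ^ n) at h2
        rw [h2, h]
      refine ⟨?_, ?_⟩
      · change b x _ = 0
        rw [hb.mul_right, hb.mul_right, hpow, hpow, hxy, hb.self,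
          ZMod.natCast_val, ZMod.cast_id]
        ring
      · change b y _ = 0
        rw [hb.mul_right, hb.mul_right, hpow, hpow, hyx, hb.self,
          ZMod.natCast_val, ZMod.cast_id]
        simp [CharTwo.add_self_eq_zero]
    have h1 : g = g * (y ^ (b x g).val)⁻¹ * (x ^ (b y g).val)⁻¹ * x ^ (b y g).val
        * y ^ (b x g).val := by group
    have hgf : g ∈ fixedSub (Subgroup.zpowers r) := by
      rw [h1]
      exact mul_mem (mul_mem (hWfix hmem) (pow_mem (fixedSub_zpowers.2 (hSx r hr)) _))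
        (pow_mem (fixedSub_zpowers.2 (hyf r hr)) _)
    exact fixedSub_zpowers.1 hgf
  have hinj : Function.Injective (fun r : ↥S => (⟨⟨(r : MulAut Q) w, hWr r r.2 w hwW⟩, fun h =>
      hw1 ((MulEquiv.map_eq_one_iff (r : MulAut Q)).1 (congrArg Subtype.val h))⟩ :
        {v : ↥W // v ≠ 1})) := by
    intro r r' h
    have h' : (r : MulAut Q) w = (r' : MulAut Q) w := congrArg (fun v => (v.1 : Q)) h
    have h2 : ((r' : MulAut Q)⁻¹ * (r : MulAut Q)) = 1 :=
      hfaith _ (mul_mem (inv_mem r'.2) r.2) (by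
        rw [MulAut.mul_apply, h', MulAut.inv_apply_self])
    exact Subtype.ext (inv_mul_eq_one.1 h2).symm
  refine (Nat.card_le_card_of_injective _ hinj).trans ?_
  change Nat.card ↥{v : ↥W | v ≠ 1} ≤ 3
  rw [Nat.card_coe_set_eq]
  have h3 := Set.ncard_add_ncard_compl ({(1 : ↥W)} : Set ↥W)
  rw [Set.ncard_singleton, hW4] at h3
  have : {v : ↥W | v ≠ 1} = {(1 : ↥W)}ᶜ := rfl
  rw [this]
  omega

/-- A fixed point free `q`-group of isometries of a small symplectic group is normalised by no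
isometry of prime order `p ∉ {2, q, t}`. -/
theorem no_small_isometry {t q p : ℕ} [Fact t.Prime] [Fact q.Prime] [Fact p.Prime]
    {b : Q → Q → ZMod t} (hb : Symp t b) (hp2 : p ≠ 2) (hpq : p ≠ q) (hpt : p ≠ t) (hqt : q ≠ t)
    {R : Subgroup (MulAut Q)} (hR : IsPGroup q R) (hRb : R ≤ Isom b) (hR1 : fixedSub R = ⊥)
    {a : MulAut Q} (ha : a ∈ Isom b) (hap : a ^ p = 1)
    (hn : a ∈ Subgroup.normalizer (R : Set (MulAut Q)))
    (hc : (t = 2 ∧ Nat.card Q = 4) ∨ (t = 3 ∧ Nat.card Q = 9) ∨ (t = 2 ∧ Nat.card Q = 16)) :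
    a = 1 := by
  by_contra ha1
  have hp := (Fact.out : p.Prime)
  have hq := (Fact.out : q.Prime)
  obtain ⟨hfd, hfl, hfm⟩ := card_fixed_zpowers hap ha1
  have hqm := card_modEq_fixed hR ⊤ fun r _ x _ => Subgroup.mem_top _
  rw [inf_top_eq, Subgroup.card_top, hR1, Subgroup.card_bot] at hqm
  have hd1 : q ∣ Nat.card Q - 1 := (Nat.modEq_iff_dvd' Nat.card_pos).1 hqm.symm
  have hd2 : p ∣ Nat.card Q - Nat.card ↥(fixedSub (Subgroup.zpowers a)) :=
    (Nat.modEq_iff_dvd' hfl.le).1 hfm.symm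
  rcases hc with ⟨rfl, hc⟩ | ⟨rfl, hc⟩ | ⟨rfl, hc⟩
  · rw [hc] at hd1 hd2 hfd hfl
    obtain ⟨i, hi, hi'⟩ := (Nat.dvd_prime_pow Nat.prime_two).1 (show _ ∣ 2 ^ 2 from hfd)
    have hq3 := (Nat.prime_dvd_prime_iff_eq hq Nat.prime_three).1 hd1
    subst hq3
    rw [hi'] at hd2 hfl
    interval_cases i
    · exact hpq ((Nat.prime_dvd_prime_iff_eq hp Nat.prime_three).1 hd2)
    · exact hpt ((Nat.prime_dvd_prime_iff_eq hp Nat.prime_two).1 hd2)
    · omega
  · rw [hc] at hd1 hd2 hfd hfl
    obtain ⟨i, hi, hi'⟩ := (Nat.dvd_prime_pow Nat.prime_three).1 (show _ ∣ 3 ^ 2 from hfd)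
    rw [hi'] at hd2 hfl
    interval_cases i
    · exact hp2 ((Nat.prime_dvd_prime_iff_eq hp Nat.prime_two).1
        (hp.dvd_of_dvd_pow (show p ∣ 2 ^ 3 from hd2)))
    · have h6 : p ∣ 2 * 3 := hd2
      rcases (Nat.Prime.dvd_mul hp).1 h6 with h | h
      · exact hp2 ((Nat.prime_dvd_prime_iff_eq hp Nat.prime_two).1 h)
      · exact hpt ((Nat.prime_dvd_prime_iff_eq hp Nat.prime_three).1 h)
    · omega
  rw [hc] at hd1 hd2 hfd hfl hfm
  have hq15 : q = 3 ∨ q = 5 := by
    have h15 : q ∣ 3 * 5 := hd1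
    rcases (Nat.Prime.dvd_mul hq).1 h15 with h | h
    · exact Or.inl ((Nat.prime_dvd_prime_iff_eq hq Nat.prime_three).1 h)
    · exact Or.inr ((Nat.prime_dvd_prime_iff_eq hq Nat.prime_five).1 h)
  obtain ⟨i, hi, hi'⟩ := (Nat.dvd_prime_pow Nat.prime_two).1 (show _ ∣ 2 ^ 4 from hfd)
  rw [hi'] at hd2 hfl
  have hcases : (q = 3 ∧ p = 5) ∨ (q = 5 ∧ p = 3) := by
    interval_cases i
    · have h15 : p ∣ 3 * 5 := hd2
      rcases (Nat.Prime.dvd_mul hp).1 h15 with h | h
      · have := (Nat.prime_dvd_prime_iff_eq hp Nat.prime_three).1 h; omega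
      · have := (Nat.prime_dvd_prime_iff_eq hp Nat.prime_five).1 h; omega
    · have h14 : p ∣ 2 * 7 := hd2
      rcases (Nat.Prime.dvd_mul hp).1 h14 with h | h
      · exact absurd ((Nat.prime_dvd_prime_iff_eq hp Nat.prime_two).1 h) hp2
      have hp7 := (Nat.prime_dvd_prime_iff_eq hp (by norm_num : Nat.Prime 7)).1 h
      subst hp7
      obtain ⟨x, hx, hx1⟩ := (fixedSub (Subgroup.zpowers a)).bot_or_exists_ne_one.resolve_left
        fun h => by rw [h, Subgroup.card_bot] at hi'; norm_num at hi'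
      have hinv : ∀ r ∈ Subgroup.zpowers a, ∀ y ∈ (hb.lhom x).ker, r y ∈ (hb.lhom x).ker := by
        intro r hr y hy
        rw [hb.mem_ker_lhom] at hy ⊢
        rw [← hy, ← (Subgroup.zpowers_le.2 ha) hr x y, hx r hr]
      have h8 := card_modEq_fixed (isPGroup_zpowers_of_pow hap) _ hinv
      have hk := hb.card_perp hx1
      have hle := Subgroup.card_le_of_le
        (inf_le_left : fixedSub (Subgroup.zpowers a) ⊓ (hb.lhom x).ker ≤ _)
      have hgt : 1 < Nat.card ↥(fixedSub (Subgroup.zpowers a) ⊓ (hb.lhom x).ker) :=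
        (Subgroup.one_lt_card_iff_ne_bot _).2 fun h => hx1 (Subgroup.mem_bot.1
          (h ▸ (⟨hx, hb.self x⟩ :
            x ∈ fixedSub (Subgroup.zpowers a) ⊓ (hb.lhom x).ker)))
      rw [hc] at hk
      rw [hi'] at hle
      unfold Nat.ModEq at h8
      omega
    · have h12 : p ∣ 3 * 4 := hd2
      rcases (Nat.Prime.dvd_mul hp).1 h12 with h | h
      · have := (Nat.prime_dvd_prime_iff_eq hp Nat.prime_three).1 h; omega
      · exact absurd ((Nat.prime_dvd_prime_iff_eq hp Nat.prime_two).1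
          (hp.dvd_of_dvd_pow (show p ∣ 2 ^ 2 from h))) hp2
    · exact absurd ((Nat.prime_dvd_prime_iff_eq hp Nat.prime_two).1
          (hp.dvd_of_dvd_pow (show p ∣ 2 ^ 3 from hd2))) hp2
    · omega
  have hRne : R ≠ ⊥ := by
    intro h
    have htop : (⊤ : Subgroup Q) ≤ fixedSub R := fun x _ r hr => by
      have h1 : r ∈ (⊥ : Subgroup (MulAut Q)) := h ▸ hr
      rw [Subgroup.mem_bot.1 h1, MulAut.one_apply]
    have := Subgroup.card_le_of_le htop
    rw [hR1, Subgroup.card_top, Subgroup.card_bot, hc] at this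
    omega
  haveI : Finite (MulAut Q) := Finite.of_injective _ DFunLike.coe_injective
  by_cases hcom : ∃ d ∈ R, d ≠ 1 ∧ a * d = d * a
  · obtain ⟨d, hd, hd1', had⟩ := hcom
    obtain ⟨e, he, he1, heq, j, rfl⟩ := exists_pow_prime hR hd hd1'
    have hae : a * d ^ j = d ^ j * a := ((show Commute a d from had).pow_right j).eq
    rcases hcases with ⟨rfl, rfl⟩ | ⟨rfl, rfl⟩
    · exact no_pair hb hc ha (hRb he) hap ha1 heq he1 hae
    · exact no_pair hb hc (hRb he) ha heq he1 hap ha1 hae.symm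
  push Not at hcom
  letI : MulAction ↥(Subgroup.zpowers a) ↥R :=
    { smul := fun c r => ⟨(c : MulAut Q) * r * (c : MulAut Q)⁻¹,
        (Subgroup.mem_normalizer_iff.1 ((Subgroup.zpowers_le.2 hn) c.2) r).1 r.2⟩
      one_smul := fun r => Subtype.ext (by
        change ((1 : ↥(Subgroup.zpowers a)) : MulAut Q) * r *
          ((1 : ↥(Subgroup.zpowers a)) : MulAut Q)⁻¹ = r
        simp)
      mul_smul := fun c c' r => Subtype.ext (by
        change ((c * c' : ↥(Subgroup.zpowers a)) : MulAut Q) * r *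
          ((c * c' : ↥(Subgroup.zpowers a)) : MulAut Q)⁻¹ =
          (c : MulAut Q) * ((c' : MulAut Q) * r * (c' : MulAut Q)⁻¹) * (c : MulAut Q)⁻¹
        simp [mul_assoc]) }
  have hRp : Nat.card ↥R ≡ 1 [MOD p] := by
    have hm := (isPGroup_zpowers_of_pow hap).card_modEq_card_fixedPoints ↥R
    have h1 : MulAction.fixedPoints ↥(Subgroup.zpowers a) ↥R = {1} := by
      ext r
      refine ⟨fun hr => ?_, fun hr c => ?_⟩
      · have h := congrArg Subtype.val (hr ⟨a, Subgroup.mem_zpowers a⟩)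
        change a * r * a⁻¹ = r at h
        exact Subtype.ext (by_contra fun hne => hcom r r.2 hne (mul_inv_eq_iff_eq_mul.1 h))
      · rw [Set.mem_singleton_iff.1 hr]
        exact Subtype.ext (show (c : MulAut Q) * ((1 : ↥R) : MulAut Q) * (c : MulAut Q)⁻¹ = _ by
          simp)
    rwa [Nat.card_coe_set_eq, h1, Set.ncard_singleton] at hm
  obtain ⟨k, hk⟩ := IsPGroup.iff_card.1 hR
  have hk0 : k ≠ 0 := fun h => hRne (Subgroup.eq_bot_of_card_eq _ (by rw [hk, h, pow_zero]))
  rw [hk] at hRp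
  rcases hcases with ⟨rfl, rfl⟩ | ⟨rfl, rfl⟩
  · have := card_three_le hb hc hR hRb
    rw [hk] at this
    have hk3 : k ≤ 3 := by
      by_contra h
      have := Nat.pow_le_pow_right (show 0 < 3 by norm_num) (show 4 ≤ k by omega)
      omega
    unfold Nat.ModEq at hRp
    interval_cases k <;> omega
  · haveI : Nontrivial Q := Finite.one_lt_card_iff_nontrivial.1 (by omega)
    obtain ⟨x, hx⟩ := exists_ne (1 : Q)
    have hfree : ∀ d ∈ R, d x = x → d = 1 := by
      intro d hd hdx
      by_contra hd1'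
      obtain ⟨e, he, he1, heq, j, rfl⟩ := exists_pow_prime hR hd hd1'
      obtain ⟨hed, hel, hem⟩ := card_fixed_zpowers heq he1
      have hex : (d ^ j) x = x :=
        (show d ^ j ∈ MulAction.stabilizer (MulAut Q) x from pow_mem hdx j)
      have h2 : 1 < Nat.card ↥(fixedSub (Subgroup.zpowers (d ^ j))) :=
        (Subgroup.one_lt_card_iff_ne_bot _).2 fun h =>
          hx (Subgroup.mem_bot.1 (h ▸ fixedSub_zpowers.2 hex))
      rw [hc] at hed hel hem
      obtain ⟨i, hi, hi'⟩ := (Nat.dvd_prime_pow Nat.prime_two).1 (show _ ∣ 2 ^ 4 from hed)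
      rw [hi'] at hel hem h2
      unfold Nat.ModEq at hem
      interval_cases i <;> omega
    have hinj : Function.Injective (fun r : ↥R => (r : MulAut Q) x) := by
      intro r r' h
      have h' : (r : MulAut Q) x = (r' : MulAut Q) x := h
      exact Subtype.ext (inv_mul_eq_one.1 (hfree _ (mul_mem (inv_mem r'.2) r.2) (by
        rw [MulAut.mul_apply, h', MulAut.inv_apply_self]))).symm
    have := Nat.card_le_card_of_injective _ hinj
    rw [hc, hk] at this
    have hk1 : k = 1 := by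
      by_contra h
      have := Nat.pow_le_pow_right (show 0 < 5 by norm_num) (show 2 ≤ k by omega)
      omega
    subst hk1
    unfold Nat.ModEq at hRp
    omega

end Cfsg.Agent.SFTPureNonab
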