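import Mathlib
import Cfsg.Agent.Lib.SFTPureDefs
import Cfsg.Agent.Lib.SFTPureNonabSymp

/-!
# Pure uniqueness: the alternating forms of a class two group
-/

set_option autoImplicit false

namespace Cfsg.Agent.SFTPureNonab

open scoped commutatorElement
open SFTPure (kerOn mem_kerOn)

variable {G : Type*} [Group G] {t : ℕ} {F z H : Subgroup G} {f : G → ZMod t}

theorem conj_comm (k x y : G) : k * ⁅x, y⁆ * k⁻¹ = ⁅k * x * k⁻¹, k * y * k⁻¹⁆ := by
  simp only [commutatorElement_def]; group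

/-- Class two with commutators of exponent `t`. -/
structure Cl2 (t : ℕ) (F : Subgroup G) : Prop where
  central : ∀ x ∈ F, ∀ y ∈ F, ∀ w ∈ F, ⁅x, y⁆ * w = w * ⁅x, y⁆
  expo : ∀ x ∈ F, ∀ y ∈ F, ⁅x, y⁆ ^ t = 1

namespace Cl2

theorem der_le (F : Subgroup G) : ⁅F, F⁆ ≤ F := Subgroup.commutator_le.2 fun x hx y hy => by
  rw [commutatorElement_def]
  exact mul_mem (mul_mem (mul_mem hx hy) (inv_mem hx)) (inv_mem hy)

theorem der_central (hF : Cl2 t F) {g w : G} (hg : g ∈ ⁅F, F⁆) (hw : w ∈ F) : g * w = w * g := by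
  have h : ⁅F, F⁆ ≤ Subgroup.centralizer (F : Set G) := Subgroup.commutator_le.2 fun x hx y hy =>
    Subgroup.mem_centralizer_iff.2 fun v hv => (hF.central x hx y hy v hv).symm
  exact (h hg w hw).symm

theorem der_pow (hF : Cl2 t F) {g : G} (hg : g ∈ ⁅F, F⁆) : g ^ t = 1 := by
  let S : Subgroup G :=
    { carrier := {g | g ∈ ⁅F, F⁆ ∧ g ^ t = 1}
      one_mem' := ⟨one_mem _, one_pow _⟩
      mul_mem' := fun {a b} ha hb => ⟨mul_mem ha.1 hb.1, by
        have hcomm : Commute a b := hF.der_central ha.1 (der_le F hb.1)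
        rw [hcomm.mul_pow, ha.2, hb.2, one_mul]⟩
      inv_mem' := fun {a} ha => ⟨inv_mem ha.1, by rw [inv_pow, ha.2, inv_one]⟩ }
  exact (Subgroup.commutator_le (H₃ := S).2 (fun x hx y hy =>
    ⟨Subgroup.commutator_mem_commutator hx hy, hF.expo x hx y hy⟩) hg).2

theorem le_norm (hF : Cl2 t F) (hz : z ≤ ⁅F, F⁆) : F ≤ Subgroup.normalizer (z : Set G) := by
  intro g hg
  refine Subgroup.mem_normalizer_iff.2 fun x => ⟨fun hx => ?_, fun hx => ?_⟩
  · rwa [← hF.der_central (hz hx) hg, mul_inv_cancel_right]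
  · have h := hF.der_central (hz hx) hg
    have h2 : g * x * g⁻¹ = x := by
      have e1 : g * x = g * (g * x * g⁻¹) := by rw [← h]; group
      exact (mul_left_cancel e1).symm
    rwa [h2] at hx

end Cl2

/-- A linear functional on the commutator subgroup with kernel `z`. -/
structure Pc (t : ℕ) (F z : Subgroup G) (f : G → ZMod t) : Prop where
  cl : Cl2 t F
  le : z ≤ ⁅F, F⁆
  add : ∀ g ∈ ⁅F, F⁆, ∀ h ∈ ⁅F, F⁆, f (g * h) = f g + f h
  ker : ∀ g ∈ ⁅F, F⁆, f g = 0 ↔ g ∈ z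
  surj : ∃ w ∈ ⁅F, F⁆, f w = 1

theorem exists_pc [Finite G] [Fact t.Prime] (hF : Cl2 t F) (hz : z ≤ ⁅F, F⁆)
    (hi : z.relIndex ⁅F, F⁆ = t) : ∃ f : G → ZMod t, Pc t F z f := by
  classical
  have hn : (z.subgroupOf ⁅F, F⁆).Normal :=
    Subgroup.normal_subgroupOf_of_le_normalizer ((Cl2.der_le F).trans (hF.le_norm hz))
  haveI := hn
  have hc : Nat.card (↥⁅F, F⁆ ⧸ z.subgroupOf ⁅F, F⁆) = t := hi
  haveI : IsCyclic (↥⁅F, F⁆ ⧸ z.subgroupOf ⁅F, F⁆) := isCyclic_of_prime_card hc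
  let e : (↥⁅F, F⁆ ⧸ z.subgroupOf ⁅F, F⁆) ≃* Multiplicative (ZMod t) :=
    mulEquivOfCyclicCardEq (by rw [hc]; simp)
  let φ : ↥⁅F, F⁆ →* Multiplicative (ZMod t) :=
    e.toMonoidHom.comp (QuotientGroup.mk' _)
  let f : G → ZMod t := fun g => if h : g ∈ ⁅F, F⁆ then Multiplicative.toAdd (φ ⟨g, h⟩) else 0
  have hf : ∀ g (h : g ∈ ⁅F, F⁆), f g = Multiplicative.toAdd (φ ⟨g, h⟩) := fun g h => dif_pos h
  refine ⟨f, hF, hz, fun g hg k hk => ?_, fun g hg => ?_, ?_⟩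
  · rw [hf g hg, hf k hk, hf _ (mul_mem hg hk), ← toAdd_mul, ← map_mul]
    rfl
  · rw [hf g hg, toAdd_eq_zero]
    change e (QuotientGroup.mk' _ ⟨g, hg⟩) = 1 ↔ _
    rw [MulEquiv.map_eq_one_iff, QuotientGroup.mk'_apply, QuotientGroup.eq_one_iff]
    rfl
  · obtain ⟨x, hx⟩ := QuotientGroup.mk'_surjective (z.subgroupOf ⁅F, F⁆)
      (e.symm (Multiplicative.ofAdd 1))
    refine ⟨x.1, x.2, ?_⟩
    rw [hf x.1 x.2]
    change Multiplicative.toAdd (e (QuotientGroup.mk' _ x)) = 1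
    rw [hx, MulEquiv.apply_symm_apply, toAdd_ofAdd]

namespace Pc

variable (hc : Pc t F z f)
include hc

theorem comm_mem {x y : G} (hx : x ∈ F) (hy : y ∈ F) : ⁅x, y⁆ ∈ ⁅F, F⁆ :=
  Subgroup.commutator_mem_commutator hx hy

theorem f_one : f 1 = 0 := (hc.ker 1 (one_mem _)).2 (one_mem _)

theorem b_mul_left {x y w : G} (hx : x ∈ F) (hy : y ∈ F) (hw : w ∈ F) :
    f ⁅x * y, w⁆ = f ⁅x, w⁆ + f ⁅y, w⁆ := by
  have h : ⁅x * y, w⁆ = ⁅y, w⁆ * ⁅x, w⁆ := by
    calc ⁅x * y, w⁆ = x * ⁅y, w⁆ * x⁻¹ * ⁅x, w⁆ := by simp only [commutatorElement_def]; group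
      _ = ⁅y, w⁆ * ⁅x, w⁆ := by rw [← hc.cl.central y hy w hw x hx, mul_inv_cancel_right]
  rw [h, hc.add _ (hc.comm_mem hy hw) _ (hc.comm_mem hx hw), add_comm]

theorem b_swap {x y : G} (hx : x ∈ F) (hy : y ∈ F) : f ⁅y, x⁆ = -f ⁅x, y⁆ := by
  have h := hc.add _ (hc.comm_mem hx hy) _ (hc.comm_mem hy hx)
  rw [← commutatorElement_inv y x, inv_mul_cancel, hc.f_one] at h
  rw [← commutatorElement_inv y x]
  linear_combination -h

theorem b_mul_right {x y w : G} (hx : x ∈ F) (hy : y ∈ F) (hw : w ∈ F) :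
    f ⁅x, y * w⁆ = f ⁅x, y⁆ + f ⁅x, w⁆ := by
  rw [hc.b_swap (mul_mem hy hw) hx, hc.b_mul_left hy hw hx, hc.b_swap hy hx, hc.b_swap hw hx]
  ring

theorem b_self (x : G) : f ⁅x, x⁆ = 0 := by rw [commutatorElement_self, hc.f_one]

theorem b_one_right (x : G) : f ⁅x, 1⁆ = 0 := by rw [commutatorElement_one_right, hc.f_one]

theorem b_one_left (x : G) : f ⁅(1 : G), x⁆ = 0 := by rw [commutatorElement_one_left, hc.f_one]

theorem b_inv_right {x y : G} (hx : x ∈ F) (hy : y ∈ F) : f ⁅x, y⁻¹⁆ = -f ⁅x, y⁆ := by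
  have h := hc.b_mul_right hx hy (inv_mem hy)
  rw [mul_inv_cancel, hc.b_one_right] at h
  linear_combination -h

theorem b_inv_left {x y : G} (hx : x ∈ F) (hy : y ∈ F) : f ⁅x⁻¹, y⁆ = -f ⁅x, y⁆ := by
  rw [hc.b_swap hy (inv_mem hx), hc.b_inv_right hy hx, hc.b_swap hy hx]

theorem b_pow_right {x y : G} (hx : x ∈ F) (hy : y ∈ F) (n : ℕ) :
    f ⁅x, y ^ n⁆ = n * f ⁅x, y⁆ := by
  induction n with
  | zero => rw [pow_zero, hc.b_one_right, Nat.cast_zero, zero_mul]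
  | succ n ih =>
    rw [pow_succ, hc.b_mul_right hx (pow_mem hy n) hy, ih, Nat.cast_succ]
    ring

theorem norm : F ≤ Subgroup.normalizer (z : Set G) := hc.cl.le_norm hc.le

/-- The radical. -/
theorem mem_rad (hH : H ≤ F) {g : G} :
    g ∈ kerOn H z H ↔ g ∈ H ∧ ∀ h ∈ H, f ⁅h, g⁆ = 0 := by
  rw [mem_kerOn]
  refine and_congr_right fun hg => ⟨fun h v hv => (hc.ker _ (hc.comm_mem (hH hv) (hH hg))).2 (h.2 v hv),
    fun h => ⟨hc.norm (hH hg), fun v hv => (hc.ker _ (hc.comm_mem (hH hv) (hH hg))).1 (h v hv)⟩⟩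

theorem b_eq_of_rad (hH : H ≤ F) {g g' v : G} (hg : g ∈ H) (hg' : g' ∈ H) (hv : v ∈ H)
    (h : g⁻¹ * g' ∈ kerOn H z H) : f ⁅v, g'⁆ = f ⁅v, g⁆ := by
  have h1 := ((hc.mem_rad hH).1 h).2 v hv
  rw [hc.b_mul_right (hH hv) (inv_mem (hH hg)) (hH hg'), hc.b_inv_right (hH hv) (hH hg)] at h1
  linear_combination h1

theorem rad_normal (hH : H ≤ F) : ((kerOn H z H).subgroupOf H).Normal := by
  refine ⟨fun r hr h => ?_⟩
  rw [Subgroup.mem_subgroupOf] at hr ⊢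
  refine (hc.mem_rad hH).2 ⟨(h * r * h⁻¹).2, fun v hv => ?_⟩
  rw [Subgroup.coe_mul, Subgroup.coe_mul, Subgroup.coe_inv,
    hc.b_mul_right (hH hv) (mul_mem (hH h.2) (hH r.2)) (inv_mem (hH h.2)),
    hc.b_mul_right (hH hv) (hH h.2) (hH r.2), hc.b_inv_right (hH hv) (hH h.2),
    ((hc.mem_rad hH).1 hr).2 v hv]
  ring

/-- The form vanishes iff the radical has index one. -/
theorem relIndex_rad_eq_one (hH : H ≤ F) :
    (kerOn H z H).relIndex H = 1 ↔ ∀ x ∈ H, ∀ y ∈ H, f ⁅x, y⁆ = 0 := by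
  rw [Subgroup.relIndex_eq_one]
  exact ⟨fun h x hx y hy => ((hc.mem_rad hH).1 (h hy)).2 x hx,
    fun h g hg => (hc.mem_rad hH).2 ⟨hg, fun v hv => h v hv g hg⟩⟩

/-- Splitting off a hyperbolic plane. -/
theorem step [Fact t.Prime] (hH : H ≤ F) {x y : G} (hx : x ∈ H) (hy : y ∈ H)
    (hxy : f ⁅x, y⁆ ≠ 0) :
    ∃ H' : Subgroup G, H' ≤ H ∧ (∀ g ∈ H, g ∈ H' ↔ f ⁅x, g⁆ = 0 ∧ f ⁅y, g⁆ = 0) ∧
      (kerOn H z H).relIndex H = t ^ 2 * (kerOn H' z H').relIndex H' := by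
  let φ : ↥H →* Multiplicative (ZMod t × ZMod t) :=
    { toFun := fun g => Multiplicative.ofAdd (f ⁅x, (g : G)⁆, f ⁅y, (g : G)⁆)
      map_one' := by simp [hc.f_one]
      map_mul' := fun g h => by
        rw [Subgroup.coe_mul, hc.b_mul_right (hH hx) (hH g.2) (hH h.2),
          hc.b_mul_right (hH hy) (hH g.2) (hH h.2)]
        rfl }
  have hker : ∀ g : ↥H, g ∈ φ.ker ↔ f ⁅x, (g : G)⁆ = 0 ∧ f ⁅y, (g : G)⁆ = 0 := fun g => by
    rw [MonoidHom.mem_ker]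
    change Multiplicative.ofAdd (f ⁅x, (g : G)⁆, f ⁅y, (g : G)⁆) = 1 ↔ _
    rw [ofAdd_eq_one, Prod.mk_eq_zero]
  have hmem : ∀ g ∈ H, g ∈ φ.ker.map H.subtype ↔ f ⁅x, g⁆ = 0 ∧ f ⁅y, g⁆ = 0 := fun g hg => by
    refine ⟨?_, fun h => ⟨⟨g, hg⟩, (hker _).2 h, rfl⟩⟩
    rintro ⟨k, hk, rfl⟩
    exact (hker k).1 hk
  have hle : φ.ker.map H.subtype ≤ H := Subgroup.map_subtype_le _
  have hpre : ∀ a c : ZMod t, ∃ g ∈ H, f ⁅x, g⁆ = a ∧ f ⁅y, g⁆ = c ∧
      ∀ v ∈ H, f ⁅v, x⁆ = 0 → f ⁅v, y⁆ = 0 → f ⁅v, g⁆ = 0 := by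
    intro a c
    refine ⟨y ^ (a / f ⁅x, y⁆).val * x ^ (-(c / f ⁅x, y⁆)).val,
      mul_mem (pow_mem hy _) (pow_mem hx _), ?_, ?_, fun v hv e1 e2 => by
        rw [hc.b_mul_right (hH hv) (pow_mem (hH hy) _) (pow_mem (hH hx) _),
          hc.b_pow_right (hH hv) (hH hy), hc.b_pow_right (hH hv) (hH hx), e1, e2]
        ring⟩
    · rw [hc.b_mul_right (hH hx) (pow_mem (hH hy) _) (pow_mem (hH hx) _),
        hc.b_pow_right (hH hx) (hH hy), hc.b_pow_right (hH hx) (hH hx), hc.b_self,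
        ZMod.natCast_val, ZMod.cast_id]
      field_simp
      ring
    · rw [hc.b_mul_right (hH hy) (pow_mem (hH hy) _) (pow_mem (hH hx) _),
        hc.b_pow_right (hH hy) (hH hy), hc.b_pow_right (hH hy) (hH hx), hc.b_self,
        hc.b_swap (hH hx) (hH hy), mul_zero, zero_add, ZMod.natCast_val, ZMod.cast_id]
      field_simp
  refine ⟨φ.ker.map H.subtype, hle, hmem, ?_⟩
  have hrad : kerOn (φ.ker.map H.subtype) z (φ.ker.map H.subtype) = kerOn H z H := by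
    ext g
    rw [hc.mem_rad hH, hc.mem_rad (hle.trans hH)]
    refine ⟨fun hg => ⟨hle hg.1, fun h hh => ?_⟩, fun hg => ?_⟩
    · obtain ⟨g0, hg0, h1, h2, hword⟩ := hpre (f ⁅x, h⁆) (f ⁅y, h⁆)
      have hk : g0⁻¹ * h ∈ φ.ker.map H.subtype := by
        refine (hmem _ (mul_mem (inv_mem hg0) hh)).2 ⟨?_, ?_⟩
        · rw [hc.b_mul_right (hH hx) (inv_mem (hH hg0)) (hH hh), hc.b_inv_right (hH hx) (hH hg0),
            h1, neg_add_cancel]
        · rw [hc.b_mul_right (hH hy) (inv_mem (hH hg0)) (hH hh), hc.b_inv_right (hH hy) (hH hg0),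
            h2, neg_add_cancel]
      have h3 := hg.2 _ hk
      have hgH := hH (hle hg.1)
      rw [hc.b_mul_left (inv_mem (hH hg0)) (hH hh) hgH, hc.b_inv_left (hH hg0) hgH] at h3
      obtain ⟨hxg, hyg⟩ := (hmem g (hle hg.1)).1 hg.1
      suffices f ⁅g0, g⁆ = 0 by rw [this] at h3; linear_combination h3
      have h5 : f ⁅g, g0⁆ = 0 := hword g (hle hg.1)
        (by rw [hc.b_swap (hH hx) hgH, hxg, neg_zero])
        (by rw [hc.b_swap (hH hy) hgH, hyg, neg_zero])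
      rw [hc.b_swap hgH (hH hg0), h5, neg_zero]
    · refine ⟨(hmem g hg.1).2 ⟨hg.2 x hx, hg.2 y hy⟩, fun h hh => hg.2 h (hle hh)⟩
  rw [hrad, ← Subgroup.relIndex_mul_relIndex _ _ _ ?_ hle]
  · have h2 : (φ.ker.map H.subtype).relIndex H = t ^ 2 := by
      rw [Subgroup.relIndex, Subgroup.subgroupOf,
        Subgroup.comap_map_eq_self_of_injective H.subtype_injective, Subgroup.index_ker]
      have hr : φ.range = ⊤ := MonoidHom.range_eq_top.2 fun c => by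
        obtain ⟨g, hg, h1, h2, -⟩ := hpre (Multiplicative.toAdd c).1 (Multiplicative.toAdd c).2
        refine ⟨⟨g, hg⟩, ?_⟩
        change Multiplicative.ofAdd (f ⁅x, g⁆, f ⁅y, g⁆) = c
        rw [h1, h2]
        rfl
      rw [hr, Subgroup.card_top]
      simp [pow_two]
    rw [h2, mul_comm]
  · intro g hg
    exact (hmem g ((hc.mem_rad hH).1 hg).1).2
      ⟨((hc.mem_rad hH).1 hg).2 x hx, ((hc.mem_rad hH).1 hg).2 y hy⟩

/-- The index of the radical is `1` or `t ^ 2` times a smaller such index. -/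
theorem index_cases [Fact t.Prime] (hH : H ≤ F) :
    (kerOn H z H).relIndex H = 1 ∨ ∃ H' ≤ H,
      (kerOn H z H).relIndex H = t ^ 2 * (kerOn H' z H').relIndex H' := by
  by_cases h : ∀ x ∈ H, ∀ y ∈ H, f ⁅x, y⁆ = 0
  · exact Or.inl ((hc.relIndex_rad_eq_one hH).2 h)
  · push Not at h
    obtain ⟨x, hx, y, hy, hxy⟩ := h
    obtain ⟨H', hle, -, hN⟩ := hc.step hH hx hy hxy
    exact Or.inr ⟨H', hle, hN⟩

theorem index_values [Finite G] [Fact t.Prime] (hH : H ≤ F) :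
    (kerOn H z H).relIndex H = 1 ∨ (kerOn H z H).relIndex H = t ^ 2 ∨
      (kerOn H z H).relIndex H = t ^ 4 ∨ t ^ 6 ≤ (kerOn H z H).relIndex H := by
  rcases hc.index_cases hH with h | ⟨H1, hle1, h1⟩
  · exact Or.inl h
  rcases hc.index_cases (hle1.trans hH) with h | ⟨H2, hle2, h2⟩
  · exact Or.inr (Or.inl (by rw [h1, h, mul_one]))
  rcases hc.index_cases ((hle2.trans hle1).trans hH) with h | ⟨H3, -, h3⟩
  · exact Or.inr (Or.inr (Or.inl (by rw [h1, h2, h, mul_one, ← pow_add])))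
  refine Or.inr (Or.inr (Or.inr ?_))
  rw [h1, h2, h3, ← mul_assoc, ← mul_assoc, ← pow_add, ← pow_add]
  exact Nat.le_mul_of_pos_right _ (Nat.pos_of_ne_zero Subgroup.index_ne_zero_of_finite)

/-- Mutually orthogonal non-isotropic subgroups. -/
theorem index_orth [Finite G] [Fact t.Prime] {ι : Type*} [DecidableEq ι] (T : ι → Subgroup G) :
    ∀ (J : Finset ι) (H : Subgroup G), H ≤ F → (∀ j ∈ J, T j ≤ H) →
      (∀ j ∈ J, ∃ x ∈ T j, ∃ y ∈ T j, f ⁅x, y⁆ ≠ 0) →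
      (∀ i ∈ J, ∀ j ∈ J, i ≠ j → ∀ x ∈ T i, ∀ y ∈ T j, f ⁅x, y⁆ = 0) →
      t ^ (2 * J.card) ≤ (kerOn H z H).relIndex H := by
  intro J
  induction J using Finset.induction_on with
  | empty =>
    intro H _ _ _ _
    rw [Finset.card_empty, mul_zero, pow_zero]
    exact Nat.one_le_iff_ne_zero.2 Subgroup.index_ne_zero_of_finite
  | insert i J hi ih =>
    intro H hH hT hne horth
    obtain ⟨x, hx, y, hy, hxy⟩ := hne i (Finset.mem_insert_self i J)
    obtain ⟨H', hle, hmem, hN⟩ := hc.step hH (hT i (Finset.mem_insert_self i J) hx)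
      (hT i (Finset.mem_insert_self i J) hy) hxy
    have := ih H' (hle.trans hH) (fun j hj g hg => by
        have hij : i ≠ j := fun h => hi (h ▸ hj)
        exact (hmem g (hT j (Finset.mem_insert_of_mem hj) hg)).2
          ⟨horth i (Finset.mem_insert_self i J) j (Finset.mem_insert_of_mem hj) hij x hx g hg,
           horth i (Finset.mem_insert_self i J) j (Finset.mem_insert_of_mem hj) hij y hy g hg⟩)
      (fun j hj => hne j (Finset.mem_insert_of_mem hj))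
      (fun a ha b hb => horth a (Finset.mem_insert_of_mem ha) b (Finset.mem_insert_of_mem hb))
    rw [Finset.card_insert_of_notMem hi, hN, show 2 * (J.card + 1) = 2 + 2 * J.card by ring,
      pow_add]
    exact Nat.mul_le_mul_left _ this

/-- An element of `H = [H, K]` fixed by `K` modulo the radical lies in the radical. -/
theorem mem_rad_of_fixed (hH : H ≤ F) {K : Subgroup G} (hHK : H ≤ ⁅H, K⁆)
    (hKH : ∀ k ∈ K, ∀ h ∈ H, k * h * k⁻¹ ∈ H) (hKc : ∀ k ∈ K, ∀ w ∈ ⁅F, F⁆, k * w = w * k)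
    {g : G} (hg : g ∈ H) (hfix : ∀ k ∈ K, ∀ v ∈ H, f ⁅v, k * g * k⁻¹⁆ = f ⁅v, g⁆) :
    g ∈ kerOn H z H := by
  let S : Subgroup G :=
    { carrier := {h | h ∈ H ∧ f ⁅h, g⁆ = 0}
      one_mem' := ⟨one_mem _, hc.b_one_left g⟩
      mul_mem' := fun {a b} ha hb => ⟨mul_mem ha.1 hb.1, by
        rw [hc.b_mul_left (hH ha.1) (hH hb.1) (hH hg), ha.2, hb.2, add_zero]⟩
      inv_mem' := fun {a} ha => ⟨inv_mem ha.1, by
        rw [hc.b_inv_left (hH ha.1) (hH hg), ha.2, neg_zero]⟩ }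
  refine (hc.mem_rad hH).2 ⟨hg, fun h hh => ((Subgroup.commutator_le (H₃ := S)).2 ?_ (hHK hh)).2⟩
  intro y hy k hk
  have hkg := hKH k⁻¹ (inv_mem hk) g hg
  have hky := hKH k hk y⁻¹ (inv_mem hy)
  have e : ⁅y, k⁆ = y * (k * y⁻¹ * k⁻¹) := by simp only [commutatorElement_def]; group
  refine ⟨e ▸ mul_mem hy hky, ?_⟩
  rw [e, hc.b_mul_left (hH hy) (hH hky) (hH hg)]
  have h2 : ⁅k * y⁻¹ * k⁻¹, g⁆ = ⁅y⁻¹, k⁻¹ * g * k⁻¹⁻¹⁆ := by
    conv_rhs => rw [← mul_inv_cancel_right ⁅y⁻¹, k⁻¹ * g * k⁻¹⁻¹⁆ k,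
      ← hKc k hk _ (hc.comm_mem (hH (inv_mem hy)) (hH hkg)), conj_comm]
    congr 1
    group
  rw [h2, hfix k⁻¹ (inv_mem hk) y⁻¹ (inv_mem hy), hc.b_inv_left (hH hy) (hH hg), add_neg_cancel]

end Pc

/-- The elements normalising `H` that preserve the functional. -/
def fixF (F H : Subgroup G) (f : G → ZMod t) : Subgroup G where
  carrier := {g | g ∈ Subgroup.normalizer (H : Set G) ∧
    g ∈ Subgroup.normalizer ((⁅F, F⁆ : Subgroup G) : Set G) ∧ ∀ w ∈ ⁅F, F⁆, f (g * w * g⁻¹) = f w}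
  one_mem' := ⟨one_mem _, one_mem _, fun w _ => by rw [one_mul, inv_one, mul_one]⟩
  mul_mem' := fun {a b} ha hb => ⟨mul_mem ha.1 hb.1, mul_mem ha.2.1 hb.2.1, fun w hw => by
    rw [show a * b * w * (a * b)⁻¹ = a * (b * w * b⁻¹) * a⁻¹ by group,
      ha.2.2 _ ((Subgroup.mem_normalizer_iff.1 hb.2.1 w).1 hw), hb.2.2 w hw]⟩
  inv_mem' := fun {a} ha => ⟨inv_mem ha.1, inv_mem ha.2.1, fun w hw => by
    rw [← ha.2.2 _ ((Subgroup.mem_normalizer_iff.1 (inv_mem ha.2.1) w).1 hw)]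
    congr 1
    group⟩

theorem mem_fixF {g : G} : g ∈ fixF F H f ↔ g ∈ Subgroup.normalizer (H : Set G) ∧
    g ∈ Subgroup.normalizer ((⁅F, F⁆ : Subgroup G) : Set G) ∧ ∀ w ∈ ⁅F, F⁆, f (g * w * g⁻¹) = f w :=
  Iff.rfl

theorem mem_fixF_of_central {g : G} (hg : g ∈ Subgroup.normalizer (H : Set G))
    (hc : ∀ w ∈ ⁅F, F⁆, g * w = w * g) : g ∈ fixF F H f := by
  have h1 : g ∈ Subgroup.centralizer ((⁅F, F⁆ : Subgroup G) : Set G) :=
    fun w hw => (hc w hw).symm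
  refine ⟨hg, Subgroup.centralizer_le_normalizer _ h1, fun w hw => ?_⟩
  rw [hc w hw, mul_inv_cancel_right]

theorem b_fixF (hH : H ≤ F) {g x y : G} (hg : g ∈ fixF F H f) (hx : x ∈ H) (hy : y ∈ H) :
    f ⁅g * x * g⁻¹, g * y * g⁻¹⁆ = f ⁅x, y⁆ := by
  rw [← conj_comm, hg.2.2 _ (Subgroup.commutator_mem_commutator (hH hx) (hH hy))]

universe v

/-- The symplectic group `H / rad H` with its isometries. -/
theorem exists_action {G : Type v} [Group G] [Finite G] {F z H : Subgroup G} {f : G → ZMod t}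
    (hc : Pc t F z f) (hH : H ≤ F) :
    ∃ (Q : Type v) (_ : Group Q) (_ : Finite Q) (b : Q → Q → ZMod t) (π : ↥H →* Q)
      (ρ : ↥(fixF F H f) →* MulAut Q),
      Symp t b ∧ Nat.card Q = (kerOn H z H).relIndex H ∧ Function.Surjective π ∧
        (∀ x, π x = 1 ↔ (x : G) ∈ kerOn H z H) ∧
        (∀ x y : ↥H, b (π x) (π y) = f ⁅(x : G), (y : G)⁆) ∧
        (∀ (g : ↥(fixF F H f)) (x : ↥H) (h : (g : G) * x * (g : G)⁻¹ ∈ H),
          ρ g (π x) = π ⟨(g : G) * x * (g : G)⁻¹, h⟩) ∧ ρ.range ≤ Isom b := by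
  haveI hn := hc.rad_normal hH
  set N := (kerOn H z H).subgroupOf H with hN
  let conjH : ↥(fixF F H f) → (↥H ≃* ↥H) := fun g =>
    Subgroup.normalizerMonoidHom H ⟨g, g.2.1⟩
  have hconj : ∀ g x, ((conjH g x : ↥H) : G) = (g : G) * x * (g : G)⁻¹ := fun g x => rfl
  have hstab : ∀ g (x : ↥H), x ∈ N → conjH g x ∈ N := by
    intro g x hx
    rw [hN, Subgroup.mem_subgroupOf] at hx ⊢
    refine (hc.mem_rad hH).2 ⟨(conjH g x).2, fun v hv => ?_⟩
    have hv' : (g : G)⁻¹ * v * (g : G) ∈ H :=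
      (Subgroup.mem_normalizer_iff''.1 g.2.1 v).1 hv
    rw [hconj, show v = (g : G) * ((g : G)⁻¹ * v * (g : G)) * (g : G)⁻¹ by group,
      b_fixF hH g.2 hv' x.2, ((hc.mem_rad hH).1 hx).2 _ hv']
  have hmap : ∀ g, N.map (conjH g).toMonoidHom = N := by
    intro g
    refine le_antisymm (Subgroup.map_le_iff_le_comap.2 fun x hx => hstab g x hx) fun x hx => ?_
    refine ⟨conjH g⁻¹ x, hstab g⁻¹ x hx, Subtype.ext ?_⟩
    change (g : G) * (((g⁻¹ : ↥(fixF F H f)) : G) * x * ((g⁻¹ : ↥(fixF F H f)) : G)⁻¹) *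
      (g : G)⁻¹ = x
    rw [Subgroup.coe_inv]
    group
  let ρ : ↥(fixF F H f) →* MulAut (↥H ⧸ N) :=
    { toFun := fun g => QuotientGroup.congr N N (conjH g) (hmap g)
      map_one' := MulEquiv.ext fun x => by
        induction x using QuotientGroup.induction_on with
        | H x =>
          change ((conjH 1 x : ↥H) : ↥H ⧸ N) = (x : ↥H ⧸ N)
          congr 1
          refine Subtype.ext ?_
          rw [hconj]
          simp
      map_mul' := fun g g' => MulEquiv.ext fun x => by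
        induction x using QuotientGroup.induction_on with
        | H x =>
          change ((conjH (g * g') x : ↥H) : ↥H ⧸ N) = (conjH g (conjH g' x) : ↥H ⧸ N)
          congr 1
          refine Subtype.ext ?_
          rw [hconj, hconj, hconj, Subgroup.coe_mul]
          group }
  have hwd : ∀ x y x' y' : ↥H, (QuotientGroup.leftRel N) x x' → (QuotientGroup.leftRel N) y y' →
      f ⁅(x : G), (y : G)⁆ = f ⁅(x' : G), (y' : G)⁆ := by
    intro x y x' y' h1 h2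
    rw [QuotientGroup.leftRel_apply, hN, Subgroup.mem_subgroupOf] at h1 h2
    rw [← hc.b_eq_of_rad hH y.2 y'.2 x.2 (by simpa using h2),
      hc.b_swap (hH y'.2) (hH x.2), hc.b_swap (hH y'.2) (hH x'.2),
      hc.b_eq_of_rad hH x.2 x'.2 y'.2 (by simpa using h1)]
  refine ⟨↥H ⧸ N, inferInstance, inferInstance,
    fun a c => Quotient.liftOn₂ a c (fun x y => f ⁅(x : G), (y : G)⁆) hwd, QuotientGroup.mk' N, ρ,
    ⟨?_, ?_, ?_, ?_⟩, rfl, QuotientGroup.mk'_surjective N, fun x => ?_, fun x y => rfl,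
    fun g x h => rfl, ?_⟩
  · intro a c d
    induction a using QuotientGroup.induction_on
    induction c using QuotientGroup.induction_on
    induction d using QuotientGroup.induction_on
    rename_i x y w
    exact hc.b_mul_left (hH x.2) (hH y.2) (hH w.2)
  · intro a c d
    induction a using QuotientGroup.induction_on
    induction c using QuotientGroup.induction_on
    induction d using QuotientGroup.induction_on
    rename_i x y w
    exact hc.b_mul_right (hH x.2) (hH y.2) (hH w.2)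
  · intro a
    induction a using QuotientGroup.induction_on
    rename_i x
    exact hc.b_self _
  · intro a ha
    induction a using QuotientGroup.induction_on
    rename_i x
    refine (QuotientGroup.eq_one_iff x).2 ?_
    rw [hN, Subgroup.mem_subgroupOf]
    exact (hc.mem_rad hH).2 ⟨x.2, fun v hv => ha ((⟨v, hv⟩ : ↥H) : ↥H ⧸ N)⟩
  · rw [QuotientGroup.mk'_apply, QuotientGroup.eq_one_iff, hN, Subgroup.mem_subgroupOf]
  · rintro _ ⟨g, rfl⟩ a c
    induction a using QuotientGroup.induction_on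
    induction c using QuotientGroup.induction_on
    rename_i x y
    exact b_fixF hH g.2 x.2 y.2

/-- A fixed point free group of isometries, as a subgroup of the automorphisms of `H / rad H`. -/
theorem exists_fixfree {G : Type v} [Group G] [Finite G] {F z H : Subgroup G} {f : G → ZMod t}
    (hc : Pc t F z f) (hH : H ≤ F) {K : Subgroup G} (hHK : H ≤ ⁅H, K⁆)
    (hKH : K ≤ Subgroup.normalizer (H : Set G)) (hKc : ∀ k ∈ K, ∀ w ∈ ⁅F, F⁆, k * w = w * k)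
    {Q : Type v} [Group Q] (b : Q → Q → ZMod t) (π : ↥H →* Q) (ρ : ↥(fixF F H f) →* MulAut Q)
    (hπ : Function.Surjective π) (h1 : ∀ x, π x = 1 ↔ (x : G) ∈ kerOn H z H)
    (hb : ∀ x y : ↥H, b (π x) (π y) = f ⁅(x : G), (y : G)⁆)
    (hρ : ∀ (g : ↥(fixF F H f)) (x : ↥H) (h : (g : G) * x * (g : G)⁻¹ ∈ H),
          ρ g (π x) = π ⟨(g : G) * x * (g : G)⁻¹, h⟩) :
    fixedSub ((K.subgroupOf (fixF F H f)).map ρ) = ⊥ := by
  refine (Subgroup.eq_bot_iff_forall _).2 fun a ha => ?_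
  obtain ⟨⟨g, hg⟩, rfl⟩ := hπ a
  refine (h1 _).2 (hc.mem_rad_of_fixed hH hHK
    (fun k hk h hh => (Subgroup.mem_normalizer_iff.1 (hKH hk) h).1 hh) hKc hg fun k hk v hv => ?_)
  have hkg := (Subgroup.mem_normalizer_iff.1 (hKH hk) g).1 hg
  have hkSt : k ∈ fixF F H f := mem_fixF_of_central (hKH hk) (hKc k hk)
  have h2 := ha (ρ ⟨k, hkSt⟩) ⟨⟨k, hkSt⟩, hk, rfl⟩
  rw [hρ ⟨k, hkSt⟩ ⟨g, hg⟩ hkg] at h2
  rw [← hb ⟨v, hv⟩ ⟨g, hg⟩, ← hb ⟨v, hv⟩ ⟨k * g * k⁻¹, hkg⟩, h2]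

/-- A fixed point free `q`-group forces `q ∣ N - 1`. -/
theorem dvd_index_sub_one {G : Type v} [Group G] [Finite G] {F z H : Subgroup G}
    {f : G → ZMod t} {q : ℕ} [Fact q.Prime] (hc : Pc t F z f) (hH : H ≤ F) {K : Subgroup G}
    (hK : IsPGroup q K) (hHK : H ≤ ⁅H, K⁆) (hKH : K ≤ Subgroup.normalizer (H : Set G))
    (hKc : ∀ k ∈ K, ∀ w ∈ ⁅F, F⁆, k * w = w * k) :
    q ∣ (kerOn H z H).relIndex H - 1 := by
  obtain ⟨Q, _, _, b, π, ρ, -, hcard, hπ, h1, hb, hρ, -⟩ := exists_action hc hH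
  have hfix := exists_fixfree hc hH hHK hKH hKc b π ρ hπ h1 hb hρ
  have hK' : IsPGroup q ↥((K.subgroupOf (fixF F H f)).map ρ) :=
    (hK.of_equiv (Subgroup.subgroupOfEquivOfLe (fun k hk =>
      mem_fixF_of_central (hKH hk) (hKc k hk))).symm).map ρ
  have hm := card_modEq_fixed hK' ⊤ fun r _ x _ => Subgroup.mem_top _
  rw [hfix, bot_inf_eq, Subgroup.card_bot, Subgroup.card_top, hcard] at hm
  exact (Nat.modEq_iff_dvd' (Nat.one_le_iff_ne_zero.2 Subgroup.index_ne_zero_of_finite)).1 hm.symm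

theorem eq_one_of_sq_mul_two (l : ZMod 2) (m : ℕ) (h : (l ^ 2) ^ m * l ^ 1 = 1) : l = 1 := by
  rcases (show ∀ l : ZMod 2, l = 0 ∨ l = 1 by decide) l with rfl | rfl
  · simp at h
  · rfl

theorem eq_one_of_sq_mul_three (l : ZMod 3) (m : ℕ) (h : (l ^ 2) ^ m * l ^ 1 = 1) : l = 1 := by
  rcases (show ∀ l : ZMod 3, l = 0 ∨ l = 1 ∨ l = 2 by decide) l with rfl | rfl | rfl
  · simp at h
  · rfl
  · rw [show (2 : ZMod 3) ^ 2 = 1 by decide, one_pow, one_mul, pow_one] at h; exact h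

/-- In the small cases an element of `p`-power order normalising everything acts trivially on
`F / rad F`. -/
theorem small_trivial {G : Type v} [Group G] [Finite G] {F z : Subgroup G}
    {f : G → ZMod t} [Fact t.Prime] {q p : ℕ} [Fact q.Prime] [Fact p.Prime]
    (hc : Pc t F z f) (hp2 : p ≠ 2) (hpq : p ≠ q) (hpt : p ≠ t) (hqt : q ≠ t)
    {D : Subgroup G} (hD : IsPGroup q D) (hFD : F ≤ ⁅F, D⁆)
    (hDF : D ≤ Subgroup.normalizer (F : Set G)) (hDc : ∀ k ∈ D, ∀ w ∈ ⁅F, F⁆, k * w = w * k)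
    {A : Subgroup G} (hA : IsPGroup p A) {a : G} (ha : a ∈ A)
    (haF : a ∈ Subgroup.normalizer (F : Set G)) (haD : a ∈ Subgroup.normalizer (D : Set G))
    (haz : a ∈ Subgroup.normalizer (z : Set G))
    (hN : (t = 2 ∧ (kerOn F z F).relIndex F = 4) ∨ (t = 3 ∧ (kerOn F z F).relIndex F = 9) ∨
      (t = 2 ∧ (kerOn F z F).relIndex F = 16)) {x : G} (hx : x ∈ F) :
    ∀ v ∈ F, f ⁅v, a * x * a⁻¹⁆ = f ⁅v, x⁆ := by
  have had : a ∈ Subgroup.normalizer ((⁅F, F⁆ : Subgroup G) : Set G) := by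
    refine Subgroup.mem_normalizer_iff.2 fun w => ?_
    have hmap : (⁅F, F⁆ : Subgroup G).map (MulAut.conj a).toMonoidHom = ⁅F, F⁆ := by
      rw [Subgroup.map_commutator]
      have : F.map (MulAut.conj a).toMonoidHom = F := by
        ext u
        rw [Subgroup.mem_map]
        constructor
        · rintro ⟨y, hy, rfl⟩
          exact (Subgroup.mem_normalizer_iff.1 haF y).1 hy
        · intro hu
          exact ⟨a⁻¹ * u * a, (Subgroup.mem_normalizer_iff''.1 haF u).1 hu, by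
            change a * (a⁻¹ * u * a) * a⁻¹ = u
            group⟩
      rw [this]
    refine ⟨fun hw => ?_, fun hw => ?_⟩
    · rw [← hmap]; exact ⟨w, hw, rfl⟩
    · rw [← hmap] at hw
      obtain ⟨u, hu, he⟩ := hw
      have : u = w := by
        have e : a * u * a⁻¹ = a * w * a⁻¹ := he
        exact mul_left_cancel (mul_right_cancel e)
      rwa [this] at hu
  obtain ⟨w0, hw0, hw1⟩ := hc.surj
  have hconjd : ∀ {w}, w ∈ ⁅F, F⁆ → a * w * a⁻¹ ∈ ⁅F, F⁆ := fun hw =>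
    (Subgroup.mem_normalizer_iff.1 had _).1 hw
  have hfpow : ∀ w ∈ ⁅F, F⁆, ∀ n : ℕ, f (w ^ n) = n * f w := by
    intro w hw n
    induction n with
    | zero => rw [pow_zero, hc.f_one, Nat.cast_zero, zero_mul]
    | succ n ih =>
      rw [pow_succ, hc.add _ (pow_mem hw n) _ hw, ih, Nat.cast_succ]
      ring
  have hl : ∀ w ∈ ⁅F, F⁆, f (a * w * a⁻¹) = f w * f (a * w0 * a⁻¹) := by
    intro w hw
    have hwn : w0 ^ (f w).val ∈ ⁅F, F⁆ := pow_mem hw0 _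
    have hz1 : (w0 ^ (f w).val)⁻¹ * w ∈ z := by
      refine (hc.ker _ (mul_mem (inv_mem hwn) hw)).1 ?_
      have h := hc.add _ hwn _ (mul_mem (inv_mem hwn) hw)
      rw [mul_inv_cancel_left, hfpow w0 hw0, hw1, mul_one, ZMod.natCast_val, ZMod.cast_id] at h
      linear_combination -h
    have hz2 := (Subgroup.mem_normalizer_iff.1 haz _).1 hz1
    have e : a * w * a⁻¹ = (a * w0 * a⁻¹) ^ (f w).val * (a * ((w0 ^ (f w).val)⁻¹ * w) * a⁻¹) := by
      rw [conj_pow]; group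
    rw [e, hc.add _ (pow_mem (hconjd hw0) _) _ (hconjd (hc.le hz1)),
      (hc.ker _ (hconjd (hc.le hz1))).2 hz2, hfpow _ (hconjd hw0), ZMod.natCast_val, ZMod.cast_id,
      add_zero]
  obtain ⟨k, hk⟩ := hA ⟨a, ha⟩
  have hak : a ^ p ^ k = 1 := congrArg Subtype.val hk
  have hiter : ∀ n : ℕ, f (a ^ n * w0 * (a ^ n)⁻¹) = f (a * w0 * a⁻¹) ^ n ∧
      a ^ n * w0 * (a ^ n)⁻¹ ∈ ⁅F, F⁆ := by
    intro n
    induction n with
    | zero => exact ⟨by rw [pow_zero, one_mul, inv_one, mul_one, pow_zero, hw1],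
        by rwa [pow_zero, one_mul, inv_one, mul_one]⟩
    | succ n ih =>
      have e : a ^ (n + 1) * w0 * (a ^ (n + 1))⁻¹ = a * (a ^ n * w0 * (a ^ n)⁻¹) * a⁻¹ := by
        rw [pow_succ']; group
      rw [e]
      exact ⟨by rw [hl _ ih.2, ih.1, pow_succ], hconjd ih.2⟩
  have hone : f (a * w0 * a⁻¹) = 1 := by
    have h1 := (hiter (p ^ k)).1
    rw [hak, one_mul, inv_one, mul_one, hw1] at h1
    have hodd : Odd (p ^ k) := ((Fact.out : p.Prime).odd_of_ne_two hp2).pow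
    revert h1
    generalize f (a * w0 * a⁻¹) = l
    obtain ⟨m, hm⟩ := hodd
    intro h1
    rw [hm, pow_add, pow_mul] at h1
    rcases hN with ⟨rfl, -⟩ | ⟨rfl, -⟩ | ⟨rfl, -⟩
    exacts [eq_one_of_sq_mul_two l m h1.symm, eq_one_of_sq_mul_three l m h1.symm,
      eq_one_of_sq_mul_two l m h1.symm]
  have haSt : a ∈ fixF F F f := ⟨haF, had, fun w hw => by rw [hl w hw, hone, mul_one]⟩
  obtain ⟨Q, _, _, b, π, ρ, hsymp, hcard, hπ, h1, hb, hρ, hrange⟩ :=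
    exists_action hc (le_refl F)
  have hfix := exists_fixfree hc (le_refl F) hFD hDF hDc b π ρ hπ h1 hb hρ
  have hDle : D ≤ fixF F F f := fun k hk => mem_fixF_of_central (hDF hk) (hDc k hk)
  have hR : IsPGroup q ↥((D.subgroupOf (fixF F F f)).map ρ) :=
    (hD.of_equiv (Subgroup.subgroupOfEquivOfLe hDle).symm).map ρ
  have hconjD : ∀ g : ↥(fixF F F f), (g : G) ∈ Subgroup.normalizer (D : Set G) →
      ρ g ∈ Subgroup.normalizer (((D.subgroupOf (fixF F F f)).map ρ : Subgroup (MulAut Q)) :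
        Set (MulAut Q)) := by
    intro g hg
    refine Subgroup.le_normalizer_map ρ ⟨g, ?_, rfl⟩
    refine Subgroup.mem_normalizer_iff.2 ?_
    intro d
    exact Subgroup.mem_normalizer_iff.1 hg (d : G)
  have hra : ρ ⟨a, haSt⟩ = 1 := by
    by_contra hne
    set a' : ↥(fixF F F f) := ⟨a, haSt⟩
    have hpA : IsPGroup p ↥(Subgroup.zpowers (ρ a')) := by
      intro x
      obtain ⟨i, hi⟩ := Subgroup.mem_zpowers_iff.1 x.2
      refine ⟨k, Subtype.ext ?_⟩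
      rw [Subgroup.coe_pow, ← hi, Subgroup.coe_one, ← zpow_natCast, ← zpow_mul, mul_comm, zpow_mul,
        zpow_natCast, ← map_pow, show a' ^ p ^ k = 1 from Subtype.ext hak, map_one, one_zpow]
    obtain ⟨e, -, he1, hep, i, rfl⟩ :=
      exists_pow_prime hpA (Subgroup.mem_zpowers _) hne
    refine he1 (no_small_isometry hsymp hp2 hpq hpt hqt hR ?_ hfix
      (pow_mem (hrange ⟨a', rfl⟩) i) hep (pow_mem (hconjD a' haD) i) ?_)
    · rintro _ ⟨d, -, rfl⟩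
      exact hrange ⟨d, rfl⟩
    · rw [hcard]; exact hN
  intro v hv
  have hax := (Subgroup.mem_normalizer_iff.1 haF x).1 hx
  have h2 := hρ ⟨a, haSt⟩ ⟨x, hx⟩ hax
  rw [hra, MulAut.one_apply] at h2
  rw [← hb ⟨v, hv⟩ ⟨x, hx⟩, ← hb ⟨v, hv⟩ ⟨a * x * a⁻¹, hax⟩, h2]

end Cfsg.Agent.SFTPureNonab
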