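import Mathlib
import Cfsg.Agent.Lib.SFTPureRep

/-!
# Pure uniqueness: modules for groups with a fixed point free central element
-/

set_option autoImplicit false

namespace Cfsg.Agent.SFTPureNonab

open SFTPure (Aut fix mem_fix)

universe u

variable {q : ℕ} [Fact q.Prime] {V : Type u} [AddCommGroup V] [Module (ZMod q) V] [Finite V]

/-- The stabiliser of a submodule. -/
def stab (M : Submodule (ZMod q) V) : Subgroup (Aut q V) where
  carrier := {g | ∀ x, g x ∈ M ↔ x ∈ M}
  one_mem' := fun _ => Iff.rfl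
  mul_mem' := fun {a b} ha hb x => (ha _).trans (hb x)
  inv_mem' := fun {a} ha x => by
    rw [← ha, ← LinearEquiv.mul_apply, mul_inv_cancel, LinearEquiv.coe_one, id_eq]

theorem mem_stab {M : Submodule (ZMod q) V} {g : Aut q V} (h : ∀ x ∈ M, g x ∈ M) : g ∈ stab M := by
  intro x
  refine ⟨fun hx => ?_, h x⟩
  have hs : Function.Surjective (fun y : ↥M => (⟨g y, h y y.2⟩ : ↥M)) :=
    Finite.surjective_of_injective fun y y' e => Subtype.ext (g.injective (congrArg Subtype.val e))
  obtain ⟨y, hy⟩ := hs ⟨g x, hx⟩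
  have : (y : V) = x := g.injective (congrArg Subtype.val hy)
  exact this ▸ y.2

theorem stab_mem {M : Submodule (ZMod q) V} {g : Aut q V} (h : g ∈ stab M) {x : V} (hx : x ∈ M) :
    g x ∈ M :=
  (h x).2 hx

/-- The sum of the first `t` powers. -/
noncomputable def sumPow (t : ℕ) (g : Aut q V) : V →ₗ[ZMod q] V :=
  ∑ i ∈ Finset.range t, ((g ^ i : Aut q V) : V →ₗ[ZMod q] V)

theorem sumPow_apply (t : ℕ) (g : Aut q V) (v : V) :
    sumPow t g v = ∑ i ∈ Finset.range t, (g ^ i) v := by
  simp [sumPow, LinearMap.sum_apply]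

theorem apply_sumPow {t : ℕ} {g : Aut q V} (hg : g ^ t = 1) (v : V) :
    g (sumPow t g v) = sumPow t g v := by
  rw [sumPow_apply, map_sum]
  have h1 : ∀ i, g ((g ^ i) v) = (g ^ (i + 1)) v := fun i => by
    rw [pow_succ', LinearEquiv.mul_apply]
  simp only [h1]
  have h2 := Finset.sum_range_succ' (fun i => (g ^ i) v) t
  rw [Finset.sum_range_succ, hg, pow_zero] at h2
  exact (add_right_cancel h2).symm

theorem sumPow_eq_nsmul {t : ℕ} {g : Aut q V} {v : V} (h : g v = v) : sumPow t g v = t • v := by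
  rw [sumPow_apply, Finset.sum_eq_card_nsmul, Finset.card_range]
  intro i _
  induction i with
  | zero => simp
  | succ i ih => rw [pow_succ, LinearEquiv.mul_apply, h, ih (Finset.mem_range.2 (by simp_all; omega))]

theorem nsmul_eq_zero_of_ne {t : ℕ} (ht : t.Prime) (htq : t ≠ q) {v : V} (h : t • v = 0) :
    v = 0 := by
  rw [← Nat.cast_smul_eq_nsmul (ZMod q), smul_eq_zero] at h
  refine h.resolve_left fun h0 => ?_
  rw [ZMod.natCast_eq_zero_iff, Nat.prime_dvd_prime_iff_eq Fact.out ht] at h0
  exact htq h0.symm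

/-- A central element acting without nonzero fixed point on `M`, of order `t`. -/
structure Fpf (t : ℕ) (M : Submodule (ZMod q) V) (c : Aut q V) : Prop where
  prime : t.Prime
  ne : t ≠ q
  pow : c ^ t = 1
  mem : ∀ x ∈ M, c x ∈ M
  fpf : ∀ x ∈ M, c x = x → x = 0

namespace Fpf

variable {t : ℕ} {M : Submodule (ZMod q) V} {c : Aut q V}

theorem mono (hc : Fpf t M c) {M' : Submodule (ZMod q) V} (hle : M' ≤ M)
    (hm : ∀ x ∈ M', c x ∈ M') : Fpf t M' c :=
  ⟨hc.prime, hc.ne, hc.pow, hm, fun x hx => hc.fpf x (hle hx)⟩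

theorem sumPow_zero (hc : Fpf t M c) {k : ℕ} (hk : ¬ t ∣ k) {x : V} (hx : x ∈ M) :
    sumPow t (c ^ k) x = 0 := by
  have hfix := apply_sumPow (g := c ^ k) (by rw [← pow_mul, mul_comm, pow_mul, hc.pow, one_pow]) x
  have hm : sumPow t (c ^ k) x ∈ M := by
    rw [sumPow_apply]
    exact M.sum_mem fun i _ => stab_mem (pow_mem (pow_mem (mem_stab hc.mem) k) i) hx
  have hco : Nat.Coprime k (orderOf c) :=
    Nat.Coprime.coprime_dvd_right (orderOf_dvd_of_pow_eq_one hc.pow)
      ((hc.prime.coprime_iff_not_dvd.2 hk).symm)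
  obtain ⟨j, hj⟩ := exists_pow_eq_self_of_coprime hco
  refine hc.fpf _ hm ?_
  have hS : c ^ k ∈ MulAction.stabilizer (Aut q V) (sumPow t (c ^ k) x) := hfix
  have h := pow_mem hS j
  rw [hj] at h
  exact h

/-- The translates of the fixed points of `w` are independent. -/
theorem mul_finrank_fix_le (hc : Fpf t M c) {v w : Aut q V} (hv : ∀ x ∈ M, v x ∈ M)
    (hcv : ∀ x ∈ M, c (v x) = v (c x)) (hcw : ∀ x ∈ M, c (w x) = w (c x))
    (hw : ∀ x ∈ M, w x ∈ M) (hwv : ∀ x ∈ M, w (v x) = c (v (w x))) :
    t * Module.finrank (ZMod q) ↥(M ⊓ fix (Subgroup.zpowers w)) ≤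
      Module.finrank (ZMod q) ↥M := by
  classical
  haveI := Fact.mk hc.prime
  set M' := M ⊓ fix (Subgroup.zpowers w) with hM'
  have hvp : ∀ j, ∀ x ∈ M, (v ^ j) x ∈ M := fun j x hx => stab_mem (pow_mem (mem_stab hv) j) hx
  have hcp : ∀ j, ∀ x ∈ M, (c ^ j) x ∈ M := fun j x hx => stab_mem (pow_mem (mem_stab hc.mem) j) hx
  have hcvp : ∀ i, ∀ x ∈ M, v ((c ^ i) x) = (c ^ i) (v x) := by
    intro i
    induction i with
    | zero => intro x _; simp
    | succ i ih =>
      intro x hx
      rw [pow_succ', LinearEquiv.mul_apply, LinearEquiv.mul_apply, ← ih x hx,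
        hcv _ (hcp i x hx)]
  have hcwp : ∀ i, ∀ x ∈ M, w ((c ^ i) x) = (c ^ i) (w x) := by
    intro i
    induction i with
    | zero => intro x _; simp
    | succ i ih =>
      intro x hx
      rw [pow_succ', LinearEquiv.mul_apply, LinearEquiv.mul_apply, ← ih x hx,
        hcw _ (hcp i x hx)]
  have heig : ∀ j : ℕ, ∀ x ∈ M', w ((v ^ j) x) = (c ^ j) ((v ^ j) x) := by
    intro j
    induction j with
    | zero => intro x hx; simpa using hx.2 w (Subgroup.mem_zpowers w)
    | succ j ih =>
      intro x hx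
      rw [pow_succ' v, LinearEquiv.mul_apply, hwv _ (hvp j x hx.1), ih x hx,
        hcvp j _ (hvp j x hx.1), pow_succ' c, LinearEquiv.mul_apply]
  let Φ : (Fin t → ↥M') →ₗ[ZMod q] ↥M :=
    { toFun := fun f => ⟨∑ j : Fin t, (v ^ (j : ℕ)) (f j : V),
        M.sum_mem fun j _ => hvp _ _ (f j).2.1⟩
      map_add' := fun f g => Subtype.ext (by
        simp [Finset.sum_add_distrib])
      map_smul' := fun a f => Subtype.ext (by
        simp [Finset.smul_sum]) }
  have hinj : Function.Injective Φ := by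
    rw [injective_iff_map_eq_zero]
    intro f hf
    have h0 : ∑ j : Fin t, (v ^ (j : ℕ)) (f j : V) = 0 := congrArg Subtype.val hf
    funext l
    set a := t - (l : ℕ) with ha
    have key : ∀ j : Fin t, sumPow t (c ^ a * w) ((v ^ (j : ℕ)) (f j : V)) =
        sumPow t (c ^ (a + j)) ((v ^ (j : ℕ)) (f j : V)) := by
      intro j
      rw [sumPow_apply, sumPow_apply]
      refine Finset.sum_congr rfl fun i hi => ?_
      clear hi
      induction i with
      | zero => rfl
      | succ i ih =>
        rw [pow_succ', LinearEquiv.mul_apply, ih, LinearEquiv.mul_apply, pow_succ' (c ^ (a + j)),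
          LinearEquiv.mul_apply (c ^ (a + j)), ← pow_mul, hcwp _ _ (hvp _ _ (f j).2.1),
          heig _ _ (f j).2]
        simp only [← LinearEquiv.mul_apply, ← mul_assoc, ← pow_add, ← pow_mul]
        congr 3
        ring
    have h1 := congrArg (sumPow t (c ^ a * w)) h0
    rw [map_sum, map_zero, Finset.sum_congr rfl fun j _ => key j,
      Finset.sum_eq_single l] at h1
    · rw [ha, Nat.sub_add_cancel l.2.le, hc.pow, sumPow_eq_nsmul (by simp)] at h1
      have h2 := nsmul_eq_zero_of_ne hc.prime hc.ne h1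
      exact Subtype.ext ((LinearEquiv.map_eq_zero_iff _).1 h2)
    · intro j _ hjl
      refine hc.sumPow_zero (fun hd => hjl (Fin.ext ?_)) (hvp _ _ (f j).2.1)
      obtain ⟨m, hm⟩ := hd
      have := j.2; have := l.2
      rcases m with _ | _ | m
      · omega
      · omega
      · have := Nat.mul_le_mul_left t (show 2 ≤ m + 1 + 1 by omega)
        omega
    · intro h; exact absurd (Finset.mem_univ l) h
  have := LinearMap.finrank_le_finrank_of_injective hinj
  rwa [Module.finrank_pi_fintype, Finset.sum_const, Finset.card_univ, Fintype.card_fin,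
    smul_eq_mul] at this

/-- Operators separated by conjugation are linearly independent on `M`. -/
theorem card_le_sq (hc : Fpf t M c) (hne : M ≠ ⊥) (S : Finset (Aut q V))
    (hS : ∀ s ∈ S, ∀ x ∈ M, s x ∈ M) (hcS : ∀ s ∈ S, ∀ x ∈ M, s (c x) = c (s x))
    (hsep : ∀ g ∈ S, ∀ g' ∈ S, g ≠ g' → ∃ h : Aut q V, ∃ e : Aut q V → ℕ,
      (∀ x ∈ M, h x ∈ M) ∧ (∀ x ∈ M, h (c x) = c (h x)) ∧
      (∀ s ∈ S, ∀ x ∈ M, h (s x) = (c ^ e s) (s (h x))) ∧ (e g : ZMod t) ≠ e g') :
    S.card ≤ Module.finrank (ZMod q) ↥M ^ 2 := by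
  classical
  haveI := Fact.mk hc.prime
  have hcp : ∀ j, ∀ x ∈ M, (c ^ j) x ∈ M := fun j x hx => stab_mem (pow_mem (mem_stab hc.mem) j) hx
  have main : ∀ S' ⊆ S, ∀ a : Aut q V → ZMod q,
      (∀ x ∈ M, ∑ s ∈ S', a s • s x = 0) → ∀ s ∈ S', a s = 0 := by
    intro S'
    induction S' using Finset.strongInduction with
    | _ S' ih =>
      intro hsub a ha g hg
      by_cases hone : ∀ g' ∈ S', g' = g
      · obtain ⟨x, hx, hx0⟩ := (Submodule.ne_bot_iff M).1 hne
        have h1 := ha x hx
        rw [Finset.sum_eq_single g (fun s hs hsg => absurd (hone s hs) hsg)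
          (fun h => absurd hg h), smul_eq_zero] at h1
        exact h1.resolve_right fun h => hx0 ((LinearEquiv.map_eq_zero_iff g).1 h)
      push Not at hone
      obtain ⟨g', hg', hgg⟩ := hone
      obtain ⟨h, e, hh, hhc, hhs, he⟩ := hsep g (hsub hg) g' (hsub hg') (Ne.symm hgg)
      have hhcp : ∀ k, ∀ x ∈ M, h ((c ^ k) x) = (c ^ k) (h x) := by
        intro k
        induction k with
        | zero => intro x _; simp
        | succ k ih =>
          intro x hx
          rw [pow_succ', LinearEquiv.mul_apply, LinearEquiv.mul_apply, hhc _ (hcp k x hx),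
            ih x hx]
      have hhp : ∀ i, ∀ x ∈ M, (h ^ i) x ∈ M := fun i x hx =>
        stab_mem (pow_mem (mem_stab hh) i) hx
      have hiter : ∀ i, ∀ s ∈ S, ∀ x ∈ M, (h ^ i) (s x) = (c ^ (i * e s)) (s ((h ^ i) x)) := by
        intro i
        induction i with
        | zero => intro s _ x _; simp
        | succ i ih =>
          intro s hs x hx
          rw [pow_succ', LinearEquiv.mul_apply, ih s hs x hx,
            hhcp _ _ (hS s hs _ (hhp i x hx)), hhs s hs _ (hhp i x hx),
            LinearEquiv.mul_apply, ← LinearEquiv.mul_apply, ← pow_add, Nat.succ_mul]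
      set d := t - (e g : ZMod t).val with hd
      have hrel : ∀ x ∈ M, ∑ s ∈ S', a s • sumPow t (c ^ (e s + d)) (s x) = 0 := by
        intro x hx
        have hi : ∀ i, ∑ s ∈ S', a s • (c ^ (i * d)) ((c ^ (i * e s)) (s x)) = 0 := by
          intro i
          have hinv : ((h ^ i)⁻¹) x ∈ M := stab_mem (inv_mem (pow_mem (mem_stab hh) i)) hx
          have h1 := congrArg (fun v => (c ^ (i * d)) ((h ^ i) v)) (ha _ hinv)
          simp only [map_sum, map_smul, map_zero] at h1
          rw [← h1]
          refine Finset.sum_congr rfl fun s hs => ?_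
          rw [hiter i s (hsub hs) _ hinv, ← LinearEquiv.mul_apply (h ^ i), mul_inv_cancel,
            LinearEquiv.coe_one, id_eq]
        calc ∑ s ∈ S', a s • sumPow t (c ^ (e s + d)) (s x)
            = ∑ s ∈ S', ∑ i ∈ Finset.range t,
                a s • (c ^ (i * d)) ((c ^ (i * e s)) (s x)) := by
              refine Finset.sum_congr rfl fun s _ => ?_
              rw [sumPow_apply, Finset.smul_sum]
              refine Finset.sum_congr rfl fun i _ => ?_
              simp only [← LinearEquiv.mul_apply, ← mul_assoc, ← pow_add, ← pow_mul]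
              congr 4
              ring
          _ = 0 := by
              rw [Finset.sum_comm]
              exact Finset.sum_eq_zero fun i _ => hi i
      have hdvd : ∀ s, t ∣ e s + d ↔ (e s : ZMod t) = e g := by
        intro s
        rw [← ZMod.natCast_eq_zero_iff, Nat.cast_add, hd, Nat.cast_sub (ZMod.val_lt _).le,
          ZMod.natCast_self, ZMod.natCast_val, ZMod.cast_id, zero_sub, add_neg_eq_zero]
      set T := S'.filter (fun s => (e s : ZMod t) = e g) with hT
      have hTlt : T ⊂ S' := Finset.filter_ssubset.2 ⟨g', hg', fun hc' => he hc'.symm⟩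
      have hT0 := ih T hTlt ((Finset.filter_subset _ _).trans hsub)
        (fun s => (t : ZMod q) * a s) (fun x hx => by
          have h1 := hrel x hx
          rw [← Finset.sum_filter_add_sum_filter_not S' (fun s => (e s : ZMod t) = e g)] at h1
          have h2 : ∑ s ∈ S'.filter (fun s => ¬ (e s : ZMod t) = e g),
              a s • sumPow t (c ^ (e s + d)) (s x) = 0 := by
            refine Finset.sum_eq_zero fun s hs => ?_
            rw [Finset.mem_filter] at hs
            rw [hc.sumPow_zero (fun hh' => hs.2 ((hdvd s).1 hh')) (hS s (hsub hs.1) x hx),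
              smul_zero]
          rw [h2, add_zero] at h1
          rw [← h1, ← hT]
          refine Finset.sum_congr rfl fun s hs => ?_
          rw [Finset.mem_filter] at hs
          obtain ⟨m, hm⟩ := (hdvd s).2 hs.2
          rw [sumPow_eq_nsmul (by rw [hm, pow_mul, hc.pow, one_pow, LinearEquiv.coe_one, id_eq]),
            mul_comm, mul_smul, Nat.cast_smul_eq_nsmul])
        g (Finset.mem_filter.2 ⟨hg, rfl⟩)
      refine (mul_eq_zero.1 hT0).resolve_left fun h0 => ?_
      rw [ZMod.natCast_eq_zero_iff, Nat.prime_dvd_prime_iff_eq Fact.out hc.prime] at h0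
      exact hc.ne h0.symm
  let L : ↥S → (↥M →ₗ[ZMod q] ↥M) := fun s =>
    ((s : Aut q V) : V →ₗ[ZMod q] V).restrict (hS s s.2)
  have hli : LinearIndependent (ZMod q) L := by
    rw [Fintype.linearIndependent_iff]
    intro a ha s
    let a' : Aut q V → ZMod q := fun g => if hg : g ∈ S then a ⟨g, hg⟩ else 0
    have := main S subset_rfl a' (fun x hx => by
      have h1 := congrArg (fun l : ↥M →ₗ[ZMod q] ↥M => ((l ⟨x, hx⟩ : ↥M) : V)) ha
      simp only [LinearMap.sum_apply, LinearMap.smul_apply, LinearMap.zero_apply,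
        Submodule.coe_sum, Submodule.coe_smul, Submodule.coe_zero] at h1
      rw [← Finset.sum_coe_sort]
      rw [← h1]
      refine Finset.sum_congr rfl fun s _ => ?_
      simp [L, a', LinearMap.restrict_apply]) s s.2
    simpa [a', s.2] using this
  have := hli.fintype_card_le_finrank
  rwa [Fintype.card_coe, Module.finrank_linearMap, ← pow_two] at this

/-- The order of `M` is one modulo `t`. -/
theorem dvd_pow_sub_one (hc : Fpf t M c) :
    (q : ZMod t) ^ Module.finrank (ZMod q) ↥M = 1 := by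
  haveI := Fact.mk hc.prime
  have hz : Subgroup.zpowers c ≤ stab M := Subgroup.zpowers_le.2 (mem_stab hc.mem)
  letI : MulAction ↥(Subgroup.zpowers c) ↥M :=
    { smul := fun g x => ⟨(g : Aut q V) x, stab_mem (hz g.2) x.2⟩
      one_smul := fun x => Subtype.ext rfl
      mul_smul := fun g h x => Subtype.ext rfl }
  have hp : IsPGroup t ↥(Subgroup.zpowers c) := by
    rcases (Nat.dvd_prime hc.prime).1 (orderOf_dvd_of_pow_eq_one hc.pow) with h | h
    · exact IsPGroup.of_card (n := 0) (by rw [Nat.card_zpowers, h, pow_zero])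
    · exact IsPGroup.of_card (n := 1) (by rw [Nat.card_zpowers, h, pow_one])
  have h1 : MulAction.fixedPoints ↥(Subgroup.zpowers c) ↥M = {0} := by
    ext x
    refine ⟨fun hx => Subtype.ext (hc.fpf x x.2
      (congrArg Subtype.val (hx ⟨c, Subgroup.mem_zpowers c⟩))), fun hx g => ?_⟩
    rw [Set.mem_singleton_iff.1 hx]
    exact Subtype.ext (map_zero (g : Aut q V))
  have hm := hp.card_modEq_card_fixedPoints ↥M
  rw [Nat.card_coe_set_eq, h1, Set.ncard_singleton, SFTPure.card_submodule,
    ← ZMod.natCast_eq_natCast_iff, Nat.cast_pow, Nat.cast_one] at hm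
  exact hm

end Fpf

/-- The fixed points of `w` contain the common fixed points of `e` and its conjugate by `y`. -/
theorem finrank_fix_comm_ge {M : Submodule (ZMod q) V} {e y w : Aut q V}
    (hy : ∀ x ∈ M, y x ∈ M) (hw : w = y * e * y⁻¹ * e⁻¹) :
    2 * Module.finrank (ZMod q) ↥(M ⊓ fix (Subgroup.zpowers e)) ≤
      Module.finrank (ZMod q) ↥M + Module.finrank (ZMod q) ↥(M ⊓ fix (Subgroup.zpowers w)) := by
  set E := M ⊓ fix (Subgroup.zpowers e) with hE
  have hfix : ∀ {g : Aut q V} {x : V}, g x = x → x ∈ fix (Subgroup.zpowers g) := fun {g x} h r hr => by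
    have hle : Subgroup.zpowers g ≤ MulAction.stabilizer (Aut q V) x :=
      Subgroup.zpowers_le.2 h
    exact hle hr
  set E' := E.map (y : V →ₗ[ZMod q] V) with hE'
  have hdim : Module.finrank (ZMod q) ↥E' = Module.finrank (ZMod q) ↥E :=
    (LinearEquiv.finrank_eq (y.submoduleMap E)).symm
  have hsub : E ⊓ E' ≤ M ⊓ fix (Subgroup.zpowers w) := by
    rintro m ⟨hm, m', hm', rfl⟩
    refine ⟨hm.1, hfix ?_⟩
    have he : e⁻¹ (y m') = y m' := hm.2 _ (inv_mem (Subgroup.mem_zpowers e))
    change w (y m') = y m'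
    rw [hw, LinearEquiv.mul_apply, LinearEquiv.mul_apply, LinearEquiv.mul_apply, he,
      ← LinearEquiv.mul_apply y⁻¹ y, inv_mul_cancel, LinearEquiv.coe_one, id_eq,
      hm'.2 e (Subgroup.mem_zpowers e)]
  have hsup : E ⊔ E' ≤ M := sup_le inf_le_left (by
    rintro _ ⟨m, hm, rfl⟩
    exact hy m hm.1)
  have h1 := Submodule.finrank_sup_add_finrank_inf_eq E E'
  have h2 := Submodule.finrank_mono hsub
  have h3 := Submodule.finrank_mono hsup
  omega

end Cfsg.Agent.SFTPureNonab
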