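import Mathlib
import Cfsg.Agent.Lib.SFTPureNonabForm
import Cfsg.Agent.Lib.SFTPureNonabRep
import Cfsg.Agent.Lib.SignalizerCoprime

/-!
# Pure uniqueness: the pieces belonging to the maximal subgroups of the commutator group
-/

set_option autoImplicit false

namespace Cfsg.Agent.SFTPureNonab

open scoped commutatorElement
open SFTPure (Aut fix mem_fix)

universe u

variable {q : ℕ} [hq : Fact q.Prime] {V : Type u} [AddCommGroup V] [Module (ZMod q) V] [Finite V]
variable {t : ℕ} {F z : Subgroup (Aut q V)} {f : Aut q V → ZMod t}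

/-- The sum over a subgroup. -/
noncomputable def avgSub (S : Subgroup (Aut q V)) : V →ₗ[ZMod q] V :=
  haveI := SFTPure.finite_aut (q := q) (V := V)
  haveI := Fintype.ofFinite ↥S
  ∑ g : ↥S, ((g : Aut q V) : V →ₗ[ZMod q] V)

theorem avgSub_apply (S : Subgroup (Aut q V)) [Fintype ↥S] (v : V) :
    avgSub S v = ∑ g : ↥S, (g : Aut q V) v := by
  unfold avgSub
  rw [LinearMap.sum_apply]
  exact Finset.sum_congr (by ext; simp) fun _ _ => rfl

theorem avgSub_eq_nsmul (S : Subgroup (Aut q V)) {v : V} (h : ∀ g ∈ S, g v = v) :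
    avgSub S v = Nat.card ↥S • v := by
  classical
  haveI := SFTPure.finite_aut (q := q) (V := V)
  haveI := Fintype.ofFinite ↥S
  rw [avgSub_apply, Finset.sum_eq_card_nsmul fun (g : ↥S) _ => h g g.2, Finset.card_univ,
    Nat.card_eq_fintype_card]

theorem apply_avgSub (S : Subgroup (Aut q V)) {g : Aut q V} (hg : g ∈ S) (v : V) :
    g (avgSub S v) = avgSub S v := by
  classical
  haveI := SFTPure.finite_aut (q := q) (V := V)
  haveI := Fintype.ofFinite ↥S
  rw [avgSub_apply, map_sum]
  simp only [← LinearEquiv.mul_apply]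
  exact Fintype.sum_equiv (Equiv.mulLeft (⟨g, hg⟩ : ↥S)) _ _ fun x => rfl

theorem avgSub_apply_mem (S : Subgroup (Aut q V)) {g : Aut q V} (hg : g ∈ S) (v : V) :
    avgSub S (g v) = avgSub S v := by
  classical
  haveI := SFTPure.finite_aut (q := q) (V := V)
  haveI := Fintype.ofFinite ↥S
  rw [avgSub_apply, avgSub_apply]
  simp only [← LinearEquiv.mul_apply]
  exact Fintype.sum_equiv (Equiv.mulRight (⟨g, hg⟩ : ↥S)) _ _ fun x => rfl

theorem avgSub_conj (S : Subgroup (Aut q V)) {a : Aut q V}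
    (ha : a ∈ Subgroup.normalizer (S : Set (Aut q V))) (v : V) :
    avgSub S (a v) = a (avgSub S v) := by
  classical
  haveI := SFTPure.finite_aut (q := q) (V := V)
  haveI := Fintype.ofFinite ↥S
  rw [avgSub_apply, avgSub_apply, map_sum]
  refine Fintype.sum_equiv
    ⟨fun x => ⟨a⁻¹ * x * a, (Subgroup.mem_normalizer_iff''.1 ha x).1 x.2⟩,
      fun x => ⟨a * x * a⁻¹, (Subgroup.mem_normalizer_iff.1 ha x).1 x.2⟩,
      fun x => Subtype.ext (by group), fun x => Subtype.ext (by group)⟩ _ _ fun x => ?_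
  change (x : Aut q V) (a v) = a ((a⁻¹ * x * a) v)
  rw [← LinearEquiv.mul_apply, ← LinearEquiv.mul_apply, mul_assoc, mul_inv_cancel_left]

/-- The piece of `z`: fixed by `z`, without fixed point of the commutator group. -/
noncomputable def piece (F z : Subgroup (Aut q V)) : Submodule (ZMod q) V :=
  fix z ⊓ LinearMap.ker (avgSub ⁅F, F⁆)

theorem mem_piece {v : V} :
    v ∈ piece F z ↔ (∀ g ∈ z, g v = v) ∧ avgSub ⁅F, F⁆ v = 0 := Iff.rfl

/-- Conjugation moves pieces to pieces. -/
theorem piece_conj {a : Aut q V}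
    (ha : a ∈ Subgroup.normalizer ((⁅F, F⁆ : Subgroup (Aut q V)) : Set (Aut q V))) {v : V}
    (hv : v ∈ piece F z) : a v ∈ piece F (z.map (MulAut.conj a).toMonoidHom) := by
  rw [mem_piece] at hv ⊢
  refine ⟨?_, by rw [avgSub_conj _ ha, hv.2, map_zero]⟩
  rintro _ ⟨g, hg, rfl⟩
  change (a * g * a⁻¹) (a v) = a v
  rw [← LinearEquiv.mul_apply, inv_mul_cancel_right, LinearEquiv.mul_apply, hv.1 g hg]

theorem piece_comm {g : Aut q V} (hz : z ≤ ⁅F, F⁆) (hg : ∀ w ∈ ⁅F, F⁆, g * w = w * g) {v : V}
    (hv : v ∈ piece F z) : g v ∈ piece F z := by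
  rw [mem_piece] at hv ⊢
  refine ⟨fun w hw => ?_, ?_⟩
  · rw [← LinearEquiv.mul_apply, ← hg w (hz hw), LinearEquiv.mul_apply, hv.1 w hw]
  · have hgn : g ∈ Subgroup.normalizer ((⁅F, F⁆ : Subgroup (Aut q V)) : Set (Aut q V)) :=
      Subgroup.centralizer_le_normalizer _ (show g ∈ Subgroup.centralizer _ from
        fun w hw => (hg w hw).symm)
    rw [avgSub_conj _ hgn, hv.2, map_zero]

theorem card_ne_zero_mod [Fact t.Prime] (htq : t ≠ q) (hc : Pc t F z f) {S : Subgroup (Aut q V)}
    (hS : S ≤ ⁅F, F⁆) {v : V} (h : Nat.card ↥S • v = 0) : v = 0 := by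
  haveI := SFTPure.finite_aut (q := q) (V := V)
  have hp : IsPGroup t ↥S := fun x => ⟨1, Subtype.ext (by
    rw [pow_one]; exact hc.cl.der_pow (hS x.2))⟩
  obtain ⟨n, hn⟩ := IsPGroup.iff_card.1 hp
  rw [hn, ← Nat.cast_smul_eq_nsmul (ZMod q), smul_eq_zero] at h
  refine h.resolve_left fun h0 => ?_
  rw [Nat.cast_pow] at h0
  have h1 := eq_zero_of_pow_eq_zero h0
  rw [ZMod.natCast_eq_zero_iff, Nat.prime_dvd_prime_iff_eq Fact.out Fact.out] at h1
  exact htq h1.symm

/-- A piece has no fixed point of an element outside its subgroup. -/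
theorem piece_fpf [Fact t.Prime] (htq : t ≠ q) (hc : Pc t F z f) {w : Aut q V} (hw : w ∈ ⁅F, F⁆)
    (hwz : w ∉ z) : Fpf t (piece F z) w where
  prime := Fact.out
  ne := htq
  pow := hc.cl.der_pow hw
  mem := fun x hx => piece_comm hc.le
    (fun v hv => hc.cl.der_central hw (Cl2.der_le F hv)) hx
  fpf := fun x hx hwx => by
    rw [mem_piece] at hx
    have hfw : f w ≠ 0 := fun h => hwz ((hc.ker w hw).1 h)
    let S : Subgroup (Aut q V) := MulAction.stabilizer (Aut q V) x
    have hall : ∀ g ∈ ⁅F, F⁆, g x = x := by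
      intro g hg
      have hwn : w ^ (f g / f w).val ∈ ⁅F, F⁆ := pow_mem hw _
      have hfwn : ∀ n : ℕ, f (w ^ n) = n * f w := by
        intro n
        induction n with
        | zero => rw [pow_zero, hc.f_one, Nat.cast_zero, zero_mul]
        | succ n ih =>
          rw [pow_succ, hc.add _ (pow_mem hw n) _ hw, ih, Nat.cast_succ]
          ring
      have hz : (w ^ (f g / f w).val)⁻¹ * g ∈ z := by
        refine (hc.ker _ (mul_mem (inv_mem hwn) hg)).1 ?_
        have h := hc.add _ hwn _ (mul_mem (inv_mem hwn) hg)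
        rw [mul_inv_cancel_left, hfwn, ZMod.natCast_val, ZMod.cast_id,
          div_mul_cancel₀ _ hfw] at h
        linear_combination -h
      have h1 : w ^ (f g / f w).val ∈ S := pow_mem (show w ∈ S from hwx) _
      have h2 : (w ^ (f g / f w).val)⁻¹ * g ∈ S := hx.1 _ hz
      have h3 := mul_mem h1 h2
      rw [mul_inv_cancel_left] at h3
      exact h3
    have h := hx.2
    rw [avgSub_eq_nsmul _ hall] at h
    exact card_ne_zero_mod htq hc le_rfl h

/-- Every nontrivial commutator moves some piece. -/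
theorem exists_live [Fact t.Prime] (htq : t ≠ q) (hF : Cl2 t F) {C : Subgroup (Aut q V)}
    (hC : IsPGroup q C) (hCc : ∀ w ∈ ⁅F, F⁆, ∀ g ∈ C, w * g = g * w) {w : Aut q V}
    (hw : w ∈ ⁅F, F⁆) (hw1 : w ≠ 1) :
    ∃ z : Subgroup (Aut q V), z ≤ ⁅F, F⁆ ∧ z.relIndex ⁅F, F⁆ = t ∧ w ∉ z ∧
      fix C ⊓ piece F z ≠ ⊥ := by
  classical
  haveI := SFTPure.finite_aut (q := q) (V := V)
  have hcomm : ∀ a ∈ ⁅F, F⁆, ∀ b ∈ ⁅F, F⁆, a * b = b * a := fun a ha b hb =>
    hF.der_central ha (Cl2.der_le F hb)
  have hwo : ¬ q ∣ orderOf w := fun h => htq ((Nat.prime_dvd_prime_iff_eq hq.out Fact.out).1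
    (h.trans (orderOf_dvd_of_pow_eq_one (hF.der_pow hw)))).symm
  let P : Subgroup (Aut q V) → Prop := fun S =>
    S ≤ ⁅F, F⁆ ∧ w ∉ S ∧ ∃ m ∈ fix C ⊓ fix S, w m ≠ m
  have hbot : P ⊥ := by
    refine ⟨bot_le, fun h => hw1 (Subgroup.mem_bot.1 h), ?_⟩
    by_contra hcon
    push Not at hcon
    refine hw1 (SFTPure.eq_one_of_fix hC hwo (fun r hr => (hCc w hw r hr).symm) fun v hv => ?_)
    exact hcon v ⟨hv, fun g hg => by rw [Subgroup.mem_bot.1 hg]; rfl⟩
  obtain ⟨S, -, ⟨hSle, hwS, m, hm, hwm⟩, hmax⟩ :=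
    Finite.exists_le_maximal (p := P) hbot
  have hidx : S.relIndex ⁅F, F⁆ = t := by
    by_cases hall : ⁅F, F⁆ ≤ S ⊔ Subgroup.zpowers w
    · have heq : S ⊔ Subgroup.zpowers w = ⁅F, F⁆ :=
        le_antisymm (sup_le hSle (Subgroup.zpowers_le.2 hw)) hall
      have hn : Subgroup.zpowers w ≤ Subgroup.normalizer (S : Set (Aut q V)) :=
        (Subgroup.zpowers_le.2 (Cl2.der_le F hw)).trans (hF.le_norm hSle)
      have ho : orderOf w = t := orderOf_eq_prime (hF.der_pow hw) hw1
      have h1 := SignalizerCoprime.card_sup_dvd_mul hn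
      rw [heq, Nat.card_zpowers, ho, ← Subgroup.relIndex_bot_left, ← Subgroup.relIndex_bot_left,
        ← Subgroup.relIndex_mul_relIndex ⊥ S ⁅F, F⁆ bot_le hSle, Subgroup.relIndex_bot_left] at h1
      have h2 := Nat.dvd_of_mul_dvd_mul_left Nat.card_pos h1
      refine ((Nat.dvd_prime Fact.out).1 h2).resolve_left fun h => hwS ?_
      exact (Subgroup.relIndex_eq_one.1 h) hw
    · exfalso
      obtain ⟨u, hu, hu'⟩ := SetLike.not_le_iff_exists.1 hall
      have hfix : ∀ i : ℕ, ∀ v ∈ fix C ⊓ fix S, (u * w ^ i) v = v → w v = v := by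
        intro i v hv huv
        have hg : u * w ^ i ∈ ⁅F, F⁆ := mul_mem hu (pow_mem hw i)
        set S' := S ⊔ Subgroup.zpowers (u * w ^ i) with hS'
        have hgS : u * w ^ i ∉ S := fun h => hu' (by
          have h1 := Subgroup.mul_mem_sup h (inv_mem (pow_mem (Subgroup.mem_zpowers w) i))
          rwa [mul_inv_cancel_right] at h1)
        by_contra hwv
        have hwS' : w ∉ S' := by
          intro hwmem
          have hwmem' : w ∈ (↑(S ⊔ Subgroup.zpowers (u * w ^ i)) : Set (Aut q V)) := hwmem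
          rw [Subgroup.coe_mul_of_right_le_normalizer_left _ _ ((Subgroup.zpowers_le.2
            (Cl2.der_le F hg)).trans (hF.le_norm hSle))] at hwmem'
          obtain ⟨s, hs, r, hr, e⟩ := Set.mem_mul.1 hwmem'
          obtain ⟨j, rfl⟩ := Subgroup.mem_zpowers_iff.1 hr
          by_cases hj : (t : ℤ) ∣ j
          · obtain ⟨k, rfl⟩ := hj
            rw [zpow_mul, zpow_natCast, hF.der_pow hg, one_zpow, mul_one] at e
            exact hwS (e ▸ hs)
          · refine hu' ?_
            have hco : IsCoprime j (t : ℤ) :=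
              ((Nat.prime_iff_prime_int.1 Fact.out).coprime_iff_not_dvd.2 hj).symm
            obtain ⟨a, b, hab⟩ := hco
            have h1 : (u * w ^ i) ^ j ∈ S ⊔ Subgroup.zpowers w := by
              have h2 := mul_mem (Subgroup.mem_sup_left (T := Subgroup.zpowers w) (inv_mem hs))
                (Subgroup.mem_sup_right (S := S) (Subgroup.mem_zpowers w))
              have e' : (u * w ^ i) ^ j = s⁻¹ * w :=
                (inv_mul_cancel_left s _).symm.trans (congrArg (s⁻¹ * ·) e)
              rw [e']; exact h2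
            have h2 : u * w ^ i ∈ S ⊔ Subgroup.zpowers w := by
              have h3 : u * w ^ i = ((u * w ^ i) ^ j) ^ a := by
                conv_lhs => rw [← zpow_one (u * w ^ i), ← hab]
                rw [zpow_add, mul_comm b, zpow_mul _ (t : ℤ), zpow_natCast, hF.der_pow hg,
                  one_zpow, mul_one, ← zpow_mul, mul_comm j a]
              rw [h3]
              exact zpow_mem h1 a
            have h4 := mul_mem h2
              (inv_mem (pow_mem (Subgroup.mem_sup_right (S := S) (Subgroup.mem_zpowers w)) i))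
            rwa [mul_inv_cancel_right] at h4
        have hlt : S < S' := lt_of_le_of_ne le_sup_left fun h => hgS
          (h ▸ Subgroup.mem_sup_right (Subgroup.mem_zpowers _))
        refine hlt.2 (hmax ⟨sup_le hSle (Subgroup.zpowers_le.2 hg), hwS', v, ⟨hv.1, ?_⟩, hwv⟩
          hlt.le)
        rw [SFTPure.fix_sup]
        refine ⟨hv.2, fun r hr => ?_⟩
        have hle : Subgroup.zpowers (u * w ^ i) ≤ MulAction.stabilizer (Aut q V) v :=
          Subgroup.zpowers_le.2 huv
        exact hle hr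
      have hmem : ∀ g ∈ ⁅F, F⁆, g m ∈ fix C ⊓ fix S := fun g hg =>
        ⟨SFTPure.mem_fix_comm (fun s hs => (hCc g hg s hs).symm) hm.1,
         SFTPure.mem_fix_comm (fun s hs => hcomm s (hSle hs) g hg) hm.2⟩
      have hM : ∀ i : ℕ, w (sumPow t (u * w ^ i) m) = sumPow t (u * w ^ i) m := fun i => by
        have hg : u * w ^ i ∈ ⁅F, F⁆ := mul_mem hu (pow_mem hw i)
        refine hfix i _ ?_ (apply_sumPow (hF.der_pow hg) m)
        rw [sumPow_apply]
        exact Submodule.sum_mem _ fun j _ => hmem _ (pow_mem hg j)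
      have hsplit : ∑ i ∈ Finset.range t, sumPow t (u * w ^ i) m =
          ∑ j ∈ Finset.range t, (u ^ j) (sumPow t (w ^ j) m) := by
        simp only [sumPow_apply, map_sum]
        rw [Finset.sum_comm]
        refine Finset.sum_congr rfl fun j _ => Finset.sum_congr rfl fun i _ => ?_
        rw [(show Commute u (w ^ i) from hcomm u hu _ (pow_mem hw i)).mul_pow,
          LinearEquiv.mul_apply, ← pow_mul, ← pow_mul, mul_comm i j]
      have hterm : ∀ j ∈ Finset.range t, j ≠ 0 →
          w ((u ^ j) (sumPow t (w ^ j) m)) = (u ^ j) (sumPow t (w ^ j) m) := by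
        intro j hj hj0
        rw [Finset.mem_range] at hj
        rw [← LinearEquiv.mul_apply, hcomm w hw _ (pow_mem hu j), LinearEquiv.mul_apply]
        congr 1
        have hco : Nat.Coprime j (orderOf w) := by
          rw [orderOf_eq_prime (hF.der_pow hw) hw1]
          exact ((Fact.out : t.Prime).coprime_iff_not_dvd.2
            (fun h => absurd (Nat.le_of_dvd (Nat.pos_of_ne_zero hj0) h) (by omega))).symm
        obtain ⟨k, hk⟩ := exists_pow_eq_self_of_coprime hco
        have hS : w ^ j ∈ MulAction.stabilizer (Aut q V) (sumPow t (w ^ j) m) :=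
          apply_sumPow (by rw [← pow_mul, mul_comm, pow_mul, hF.der_pow hw, one_pow]) m
        have h := pow_mem hS k
        rw [hk] at h
        exact h
      have h0 : (u ^ 0) (sumPow t (w ^ 0) m) = t • m := by
        rw [pow_zero, pow_zero, LinearEquiv.coe_one, id_eq, sumPow_eq_nsmul (by rfl)]
      have htot : w (∑ i ∈ Finset.range t, sumPow t (u * w ^ i) m) =
          ∑ i ∈ Finset.range t, sumPow t (u * w ^ i) m := by
        rw [map_sum]; exact Finset.sum_congr rfl fun i _ => hM i
      rw [hsplit, ← Finset.add_sum_erase _ _ (Finset.mem_range.2 (Fact.out : t.Prime).pos),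
        map_add, map_sum, Finset.sum_congr rfl (fun j hj => hterm j (Finset.mem_of_mem_erase hj)
          (Finset.ne_of_mem_erase hj)), h0, add_left_inj, map_nsmul] at htot
      have h1 : t • (w m - m) = 0 := by rw [smul_sub, htot, sub_self]
      exact hwm (sub_eq_zero.1 (nsmul_eq_zero_of_ne (Fact.out) htq h1))
  refine ⟨S, hSle, hidx, hwS, fun hb => hwm ?_⟩
  have hmem : w m - m ∈ fix C ⊓ piece F S := by
    refine ⟨(fix C).sub_mem (SFTPure.mem_fix_comm (fun s hs => (hCc w hw s hs).symm) hm.1) hm.1, ?_⟩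
    refine ⟨(fix S).sub_mem (SFTPure.mem_fix_comm (fun s hs => hcomm s (hSle hs) w hw) hm.2) hm.2, ?_⟩
    change avgSub ⁅F, F⁆ (w m - m) = 0
    rw [map_sub, avgSub_apply_mem _ hw, sub_self]
  rw [hb, Submodule.mem_bot] at hmem
  exact sub_eq_zero.1 hmem

/-- The moved dimension of a piece. -/
noncomputable def movedDim (B : Subgroup (Aut q V)) (M : Submodule (ZMod q) V) : ℕ :=
  Module.finrank (ZMod q) ↥M - Module.finrank (ZMod q) ↥(M ⊓ fix B)

/-- The pieces are independent, compatibly with the fixed points of `B`. -/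
theorem sum_moved_le [Fact t.Prime] (htq : t ≠ q) (hF : Cl2 t F) {B C : Subgroup (Aut q V)}
    (hBC : C ≤ B) (hBc : ∀ b ∈ B, ∀ w ∈ ⁅F, F⁆, b * w = w * b) (hBcomm : ∀ a ∈ B, ∀ b ∈ B, a * b = b * a)
    (Z : Finset (Subgroup (Aut q V))) (hZ : ∀ z ∈ Z, z ≤ ⁅F, F⁆ ∧ z.relIndex ⁅F, F⁆ = t) :
    ∑ z ∈ Z, movedDim B (fix C ⊓ piece F z) + Module.finrank (ZMod q) ↥(fix B) ≤
      Module.finrank (ZMod q) ↥(fix C) := by
  classical
  haveI := SFTPure.finite_aut (q := q) (V := V)
  set U : Finset (Subgroup (Aut q V)) → Submodule (ZMod q) V := fun S =>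
    S.sup (fun z => fix C ⊓ piece F z) with hU
  have hUW : ∀ S, U S ≤ fix C := fun S => Finset.sup_le fun z _ => inf_le_left
  have key : ∀ S : Finset (Subgroup (Aut q V)), S ⊆ Z →
      ∑ z ∈ S, movedDim B (fix C ⊓ piece F z) + Module.finrank (ZMod q) ↥(U S ⊓ fix B) ≤
        Module.finrank (ZMod q) ↥(U S) := by
    intro S
    induction S using Finset.induction_on with
    | empty =>
      intro _
      simp only [Finset.sum_empty, zero_add]
      exact Submodule.finrank_mono inf_le_left
    | insert z S hz ih =>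
      intro hsub
      have hzZ : z ∈ Z := hsub (Finset.mem_insert_self z S)
      have hSZ : S ⊆ Z := fun x hx => hsub (Finset.mem_insert_of_mem hx)
      have hUins : U (insert z S) = (fix C ⊓ piece F z) ⊔ U S := Finset.sup_insert
      obtain ⟨f, hf⟩ := exists_pc hF (hZ z hzZ).1 (hZ z hzZ).2
      have hker : U S ≤ LinearMap.ker (avgSub z) := Finset.sup_le fun z' hz' => by
        intro v hv
        obtain ⟨f', hf'⟩ := exists_pc hF (hZ z' (hSZ hz')).1 (hZ z' (hSZ hz')).2
        obtain ⟨g, hg, hgz'⟩ : ∃ g ∈ z, g ∉ z' := by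
          by_contra hcon
          push Not at hcon
          have hle : z ≤ z' := hcon
          have h1 := Subgroup.relIndex_mul_relIndex z z' ⁅F, F⁆ hle (hZ z' (hSZ hz')).1
          rw [(hZ z' (hSZ hz')).2, (hZ z hzZ).2] at h1
          have h2 : z.relIndex z' = 1 := by
            have := (Fact.out : t.Prime).pos
            nlinarith
          exact hz (le_antisymm hle (Subgroup.relIndex_eq_one.1 h2) ▸ hz')
        change avgSub z v = 0
        refine (piece_fpf htq hf' ((hZ z hzZ).1 hg) hgz').fpf _ ?_ (apply_avgSub z hg v)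
        haveI := Fintype.ofFinite ↥z
        rw [avgSub_apply]
        exact Submodule.sum_mem _ fun x _ => piece_comm (hZ z' (hSZ hz')).1
          (fun w hw => hF.der_central ((hZ z hzZ).1 x.2) (Cl2.der_le F hw)) hv.2
      have hdisj : (fix C ⊓ piece F z) ⊓ U S = ⊥ := by
        rw [Submodule.eq_bot_iff]
        rintro v ⟨hv, hvS⟩
        have h1 : avgSub z v = 0 := hker hvS
        rw [avgSub_eq_nsmul _ hv.2.1] at h1
        exact card_ne_zero_mod htq hf (hZ z hzZ).1 h1
      have hBP : ∀ b ∈ B, ∀ z', z' ≤ ⁅F, F⁆ → ∀ v ∈ fix C ⊓ piece F z',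
          b v ∈ fix C ⊓ piece F z' := fun b hb z' hz' v hv =>
        ⟨SFTPure.mem_fix_comm (fun s hs => hBcomm s (hBC hs) b hb) hv.1,
          piece_comm hz' (hBc b hb) hv.2⟩
      have hBU : ∀ b ∈ B, ∀ v ∈ U S, b v ∈ U S := by
        intro b hb
        have hle : U S ≤ (U S).comap (b : V →ₗ[ZMod q] V) := Finset.sup_le fun z' hz' => by
          intro v hv
          exact (Finset.le_sup (f := fun z => fix C ⊓ piece F z) hz')
            (hBP b hb z' (hZ z' (hSZ hz')).1 v hv)
        exact fun v hv => hle hv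
      have hfixsup : U (insert z S) ⊓ fix B ≤
          ((fix C ⊓ piece F z) ⊓ fix B) ⊔ (U S ⊓ fix B) := by
        rintro x ⟨hx, hxB⟩
        rw [SetLike.mem_coe, hUins, Submodule.mem_sup] at hx
        obtain ⟨m, hm, u, hu, rfl⟩ := hx
        have hzero : ∀ b ∈ B, b m = m := by
          intro b hb
          have e : b m - m = -(b u - u) := by
            have := hxB b hb
            rw [map_add] at this
            linear_combination (norm := module) this
          have h1 : b m - m ∈ (fix C ⊓ piece F z) ⊓ U S :=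
            ⟨Submodule.sub_mem _ (hBP b hb z (hZ z hzZ).1 m hm) hm,
              by rw [SetLike.mem_coe, e]; exact (U S).neg_mem ((U S).sub_mem (hBU b hb u hu) hu)⟩
          rw [hdisj, Submodule.mem_bot] at h1
          exact sub_eq_zero.1 h1
        refine Submodule.add_mem_sup ⟨hm, hzero⟩ ⟨hu, fun b hb => ?_⟩
        have := hxB b hb
        rw [map_add, hzero b hb, add_right_inj] at this
        exact this
      have h1 := Submodule.finrank_sup_add_finrank_inf_eq (fix C ⊓ piece F z) (U S)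
      rw [hdisj, finrank_bot, add_zero] at h1
      have h2 := (Submodule.finrank_mono hfixsup).trans
        (Submodule.finrank_add_le_finrank_add_finrank _ _)
      have h3 : Module.finrank (ZMod q) ↥((fix C ⊓ piece F z) ⊓ fix B) ≤
          Module.finrank (ZMod q) ↥(fix C ⊓ piece F z) := Submodule.finrank_mono inf_le_left
      have h4 := ih hSZ
      rw [Finset.sum_insert hz, movedDim]
      rw [hUins] at h2 ⊢
      omega
  have h1 := key Z subset_rfl
  have h2 := Submodule.finrank_sup_add_finrank_inf_eq (U Z) (fix B)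
  have h3 : Module.finrank (ZMod q) ↥(U Z ⊔ fix B) ≤ Module.finrank (ZMod q) ↥(fix C) :=
    Submodule.finrank_mono (sup_le (hUW Z) (SFTPure.fix_antitone hBC))
  omega

end Cfsg.Agent.SFTPureNonab
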