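import Mathlib
import Cfsg.Prelude.Def_Transfer
import Cfsg.Agent.Lib.SignalizerCoprime
import Cfsg.Agent.Lib.CoprimeAction
import Cfsg.Agent.Lib.SFTPureNonabForm

/-!
# Pure uniqueness: a class two group under an elementary abelian group
-/

set_option autoImplicit false

namespace Cfsg.Agent.SFTPureNonab

open scoped commutatorElement
open SFTPure (kerOn)

variable {G : Type*} [Group G] [Finite G] {q t : ℕ} [Fact q.Prime] [Fact t.Prime]
  {F B L L' : Subgroup G}

/-- An elementary abelian `q`-group acting on a class two `t`-group, centralising the commutators and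
the centre. -/
structure Act (q t : ℕ) (F B : Subgroup G) : Prop where
  cl : Cl2 t F
  ne : t ≠ q
  Fp : IsPGroup t ↥F
  Bea : Cfsg.IsElementaryAbelian q B
  BF : B ≤ Subgroup.normalizer (F : Set G)
  Bc : ∀ b ∈ B, ∀ w ∈ ⁅F, F⁆, b * w = w * b
  center : ∀ x ∈ F, (∀ y ∈ F, x * y = y * x) → ∀ b ∈ B, x * b = b * x

/-- The hyperplanes. -/
def IsHyp (q : ℕ) (B L : Subgroup G) : Prop := L ≤ B ∧ L.relIndex B = q

/-- The fixed points of `L` in `F`. -/
def cF (F L : Subgroup G) : Subgroup G := F ⊓ Subgroup.centralizer (L : Set G)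

/-- The moved part of the fixed points of `L`. -/
def mov (F B L : Subgroup G) : Subgroup G := ⁅cF F L, B⁆

namespace Act

variable (h : Act q t F B)
include h

theorem norm_of_le (hL : L ≤ B) : B ≤ Subgroup.normalizer (L : Set G) :=
  SignalizerCoprime.le_normalizer_of_forall fun a ha x hx => by
    rw [SignalizerCoprime.comm_of_mem h.Bea ha (hL hx), mul_inv_cancel_right]
    exact hx

theorem norm_cF (hL : L ≤ B) : B ≤ Subgroup.normalizer (cF F L : Set G) :=
  SignalizerCoprime.le_normalizer_inf h.BF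
    (SignalizerCoprime.le_normalizer_centralizer (h.norm_of_le hL))

theorem mov_le_cF (hL : L ≤ B) : mov F B L ≤ cF F L :=
  CoprimeAction.commutator_le_self_of_le_normalizer (h.norm_cF hL)

theorem mov_le (hL : L ≤ B) : mov F B L ≤ F := (h.mov_le_cF hL).trans inf_le_left

theorem norm_mov (L : Subgroup G) : B ≤ Subgroup.normalizer (mov F B L : Set G) :=
  Subgroup.normalizer_commutator_ge_right _ _

theorem cop {X : Subgroup G} (hX : X ≤ F) : (Nat.card ↥B).Coprime (Nat.card ↥X) :=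
  (IsPGroup.coprime_card_of_ne q t (Ne.symm h.ne) B X
    (SignalizerCoprime.isPGroup_of_elementaryAbelian h.Bea) (h.Fp.to_le hX))

theorem solvB : Group.IsSolvable ↥B :=
  CoprimeAction.isSolvable_of_isPGroup (SignalizerCoprime.isPGroup_of_elementaryAbelian h.Bea)

theorem sup_zpowers (hL : IsHyp q B L) {e : G} (he : e ∈ B) (heL : e ∉ L) :
    L ⊔ Subgroup.zpowers e = B := by
  have hle : L ⊔ Subgroup.zpowers e ≤ B := sup_le hL.1 (Subgroup.zpowers_le.2 he)
  have h1 := Subgroup.relIndex_mul_relIndex L (L ⊔ Subgroup.zpowers e) B le_sup_left hle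
  rw [hL.2] at h1
  rcases (Nat.dvd_prime Fact.out).1 (Dvd.intro _ h1) with h2 | h2
  · exact absurd ((Subgroup.relIndex_eq_one.1 h2) (Subgroup.mem_sup_right (Subgroup.mem_zpowers e)))
      heL
  · rw [h2] at h1
    have h3 : (L ⊔ Subgroup.zpowers e).relIndex B = 1 :=
      (Nat.mul_eq_left (Fact.out : q.Prime).ne_zero).1 h1
    exact le_antisymm hle (Subgroup.relIndex_eq_one.1 h3)

theorem exists_decomp (hL : IsHyp q B L) {e : G} (he : e ∈ B) (heL : e ∉ L) {b : G} (hb : b ∈ B) :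
    ∃ l ∈ L, ∃ k ∈ Subgroup.zpowers e, b = l * k := by
  have hb' : b ∈ (↑(L ⊔ Subgroup.zpowers e) : Set G) := by rw [h.sup_zpowers hL he heL]; exact hb
  rw [Subgroup.coe_mul_of_right_le_normalizer_left _ _
    ((Subgroup.zpowers_le.2 he).trans (h.norm_of_le hL.1))] at hb'
  obtain ⟨l, hl, k, hk, e'⟩ := Set.mem_mul.1 hb'
  exact ⟨l, hl, k, hk, e'.symm⟩

/-- `mov L` commutes with every element of `F` fixed by `B`, and with the fixed points of another
hyperplane. -/
theorem mov_comm (hL : IsHyp q B L) {y : G} (hy : y ∈ F)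
    (hfix : (∀ b ∈ B, y * b = b * y) ∨ ∃ L', IsHyp q B L' ∧ L' ≠ L ∧ y ∈ cF F L')
    {g : G} (hg : g ∈ mov F B L) : g * y = y * g := by
  have key : ∀ b, b ∈ B → y * b = b * y → ∀ x ∈ cF F L, ⁅x, b⁆ * y = y * ⁅x, b⁆ := by
    intro b hb hby x hx
    have hxF := hx.1
    have hconj : b * x⁻¹ * b⁻¹ ∈ F := (Subgroup.mem_normalizer_iff.1 (h.BF hb) _).1 (inv_mem hxF)
    have e2 : ⁅b * x⁻¹ * b⁻¹, y⁆ = ⁅x⁻¹, y⁆ := by
      have e3 : b * y * b⁻¹ = y := by rw [← hby, mul_inv_cancel_right]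
      conv_lhs => rw [← e3]
      rw [← conj_comm, h.Bc b hb _ (Subgroup.commutator_mem_commutator (inv_mem hxF) hy),
        mul_inv_cancel_right]
    have e4 : ⁅x⁻¹, y⁆ = ⁅x, y⁆⁻¹ := by
      have e5 : ⁅x⁻¹, y⁆ = x⁻¹ * ⁅x, y⁆⁻¹ * x⁻¹⁻¹ := by
        simp only [commutatorElement_def]; group
      have hm := inv_mem (Subgroup.commutator_mem_commutator hxF hy)
      rw [e5, ← h.cl.der_central hm (inv_mem hxF), mul_inv_cancel_right]
    have e : ⁅⁅x, b⁆, y⁆ = 1 := by
      have e1 : ⁅⁅x, b⁆, y⁆ = x * ⁅b * x⁻¹ * b⁻¹, y⁆ * x⁻¹ * ⁅x, y⁆ := by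
        simp only [commutatorElement_def]; group
      rw [e1, e2, e4, ← h.cl.der_central (inv_mem (Subgroup.commutator_mem_commutator hxF hy)) hxF,
        mul_inv_cancel_right, inv_mul_cancel]
    exact commutatorElement_eq_one_iff_mul_comm.1 e
  have hcb : ∀ x ∈ cF F L, ∀ b ∈ B, ⁅x, b⁆ * y = y * ⁅x, b⁆ := by
    intro x hx b hb
    rcases hfix with hB | ⟨L', hL', hne, hyL'⟩
    · exact key b hb (hB b hb) x hx
    obtain ⟨e, he', heL⟩ : ∃ e ∈ L', e ∉ L := by
      by_contra hcon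
      push Not at hcon
      have h1 := Subgroup.relIndex_mul_relIndex L' L B hcon hL.1
      rw [hL.2, hL'.2] at h1
      exact hne (le_antisymm hcon (Subgroup.relIndex_eq_one.1
        ((Nat.mul_eq_right (Fact.out : q.Prime).ne_zero).1 h1)))
    obtain ⟨l, hl, k, hk, rfl⟩ := h.exists_decomp hL (hL'.1 he') heL hb
    have hkB : k ∈ B := (Subgroup.zpowers_le.2 (hL'.1 he')) hk
    have hkL' : k ∈ L' := (Subgroup.zpowers_le.2 he') hk
    have e1 : ⁅x, l * k⁆ = ⁅x, k⁆ := by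
      have e2 : x * l = l * x := (hx.2 l hl).symm
      rw [SignalizerCoprime.comm_of_mem h.Bea (hL.1 hl) hkB]
      simp only [commutatorElement_def, mul_inv_rev]
      calc x * (k * l) * x⁻¹ * (l⁻¹ * k⁻¹) = x * k * (l * x⁻¹) * l⁻¹ * k⁻¹ := by group
        _ = x * k * (x⁻¹ * l) * l⁻¹ * k⁻¹ := by
          rw [show l * x⁻¹ = x⁻¹ * l from ((show Commute x l from e2).inv_left.eq).symm]
        _ = x * k * x⁻¹ * k⁻¹ := by group
    rw [e1]
    exact key k hkB (hyL'.2 k hkL').symm x hx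
  let S : Subgroup G := Subgroup.centralizer {y}
  have hle : mov F B L ≤ S := Subgroup.commutator_le.2 fun x hx b hb =>
    Subgroup.mem_centralizer_singleton_iff.2 (hcb x hx b hb)
  exact Subgroup.mem_centralizer_singleton_iff.1 (hle hg)

/-- The fixed points of the hyperplanes generate. -/
theorem le_of_hyp (hne : B ≠ ⊥) {S : Subgroup G} (hS : ∀ L, IsHyp q B L → cF F L ≤ S) : F ≤ S := by
  by_cases hB2 : q ^ 2 ≤ Nat.card ↥B
  · refine SignalizerCoprime.le_of_hyperplane_centralizers_le h.Bea hB2 h.BF ?_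
      fun D hD hrel => hS D ⟨hD, hrel⟩
    intro hd
    obtain ⟨n, hn⟩ := IsPGroup.iff_card.1 h.Fp
    rw [hn] at hd
    exact h.ne ((Nat.prime_dvd_prime_iff_eq Fact.out Fact.out).1
      ((Fact.out : q.Prime).dvd_of_dvd_pow hd)).symm
  · have hBq : Nat.card ↥B = q := by
      obtain ⟨n, hn⟩ :=
        IsPGroup.iff_card.1 (SignalizerCoprime.isPGroup_of_elementaryAbelian h.Bea)
      rw [hn] at hB2 ⊢
      have hn1 : n < 2 := by
        by_contra hc
        exact hB2 (Nat.pow_le_pow_right (Fact.out : q.Prime).pos (by omega))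
      interval_cases n
      · exact absurd (Subgroup.eq_bot_of_card_eq _ (by rw [hn, pow_zero])) hne
      · exact pow_one q
    intro x hx
    refine hS ⊥ ⟨bot_le, by rw [Subgroup.relIndex_bot_left, hBq]⟩ ⟨hx, fun l hl => ?_⟩
    rw [Subgroup.mem_bot.1 hl, one_mul, mul_one]

theorem cF_le_mov_sup (hL : L ≤ B) {x : G} (hx : x ∈ cF F L) :
    ∃ g ∈ mov F B L, ∃ c ∈ cF F L, (∀ b ∈ B, c * b = b * c) ∧ x = g * c := by
  obtain ⟨g, hg, c, hc, e⟩ := CoprimeAction.exists_mul_fixed (h.norm_cF hL)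
    (h.cop inf_le_left) (Or.inl h.solvB) hx
  exact ⟨g, hg, c, hc.1, fun b hb => (hc.2 b hb).symm, e⟩

/-- Whatever is orthogonal to `mov L` on `mov L` is orthogonal to it on all of `F`. -/
theorem orth_all (hne : B ≠ ⊥) (hL : IsHyp q B L) {z : Subgroup G} {f : G → ZMod t}
    (hc : Pc t F z f) {g : G} (hg : g ∈ mov F B L)
    (hT : ∀ x ∈ mov F B L, f ⁅g, x⁆ = 0) : ∀ x ∈ F, f ⁅g, x⁆ = 0 := by
  have hgF := h.mov_le hL.1 hg
  let S : Subgroup G :=
    { carrier := {x | x ∈ F ∧ f ⁅g, x⁆ = 0}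
      one_mem' := ⟨one_mem _, hc.b_one_right g⟩
      mul_mem' := fun {a b} ha hb => ⟨mul_mem ha.1 hb.1, by
        rw [hc.b_mul_right hgF ha.1 hb.1, ha.2, hb.2, add_zero]⟩
      inv_mem' := fun {a} ha => ⟨inv_mem ha.1, by rw [hc.b_inv_right hgF ha.1, ha.2, neg_zero]⟩ }
  suffices hle : F ≤ S from fun x hx => (hle hx).2
  refine h.le_of_hyp hne fun L' hL' x hx => ⟨hx.1, ?_⟩
  by_cases hLL : L' = L
  · subst hLL
    obtain ⟨g', hg', c, hc', hcb, rfl⟩ := h.cF_le_mov_sup hL.1 hx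
    rw [hc.b_mul_right hgF (h.mov_le hL.1 hg') hc'.1, hT g' hg',
      commutatorElement_eq_one_iff_mul_comm.2 (h.mov_comm hL hc'.1 (Or.inl hcb) hg), hc.f_one,
      add_zero]
  · rw [commutatorElement_eq_one_iff_mul_comm.2
      (h.mov_comm hL hx.1 (Or.inr ⟨L', hL', hLL, hx⟩) hg), hc.f_one]

/-- If the moved part is abelian it is trivial. -/
theorem mov_not_comm (hne : B ≠ ⊥) (hL : IsHyp q B L) (hT : mov F B L ≠ ⊥) :
    ∃ x ∈ mov F B L, ∃ y ∈ mov F B L, ⁅x, y⁆ ≠ 1 := by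
  by_contra hcon
  push Not at hcon
  have hcent : ∀ g ∈ mov F B L, ∀ x ∈ F, g * x = x * g := by
    intro g hg
    let S : Subgroup G := Subgroup.centralizer {g}
    suffices hle : F ≤ S from fun x hx =>
      (Subgroup.mem_centralizer_singleton_iff.1 (hle hx)).symm
    refine h.le_of_hyp hne fun L' hL' x hx => Subgroup.mem_centralizer_singleton_iff.2 ?_
    by_cases hLL : L' = L
    · subst hLL
      obtain ⟨g', hg', c, hc', hcb, rfl⟩ := h.cF_le_mov_sup hL.1 hx
      have e1 : Commute g g' := commutatorElement_eq_one_iff_mul_comm.1 (hcon g hg g' hg')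
      have e2 : Commute g c := h.mov_comm hL hc'.1 (Or.inl hcb) hg
      exact (e1.mul_right e2).eq.symm
    · exact (h.mov_comm hL hx.1 (Or.inr ⟨L', hL', hLL, hx⟩) hg).symm
  refine hT ?_
  have h1 := CoprimeAction.commutator_commutator_eq (h.norm_cF hL.1) (h.cop inf_le_left)
    (Or.inl h.solvB)
  change ⁅mov F B L, B⁆ = mov F B L at h1
  rw [← h1]
  refine Subgroup.commutator_eq_bot_iff_le_centralizer.2 fun g hg => ?_
  exact Subgroup.mem_centralizer_iff.2 fun b hb =>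
    (h.center g (h.mov_le hL.1 hg) (hcent g hg) b hb).symm

theorem mov_le_comm (hL : IsHyp q B L) {e : G} (he : e ∈ B) (heL : e ∉ L) :
    mov F B L ≤ ⁅mov F B L, Subgroup.zpowers e⁆ := by
  have h1 := CoprimeAction.commutator_commutator_eq (h.norm_cF hL.1) (h.cop inf_le_left)
    (Or.inl h.solvB)
  change ⁅mov F B L, B⁆ = mov F B L at h1
  conv_lhs => rw [← h1]
  rw [Subgroup.commutator_le]
  intro x hx b hb
  obtain ⟨l, hl, k, hk, rfl⟩ := h.exists_decomp hL he heL hb
  have hkB : k ∈ B := (Subgroup.zpowers_le.2 he) hk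
  have e2 : Commute x l := ((h.mov_le_cF hL.1 hx).2 l hl).symm
  have e1 : ⁅x, l * k⁆ = ⁅x, k⁆ := by
    rw [SignalizerCoprime.comm_of_mem h.Bea (hL.1 hl) hkB]
    simp only [commutatorElement_def, mul_inv_rev]
    calc x * (k * l) * x⁻¹ * (l⁻¹ * k⁻¹) = x * k * (l * x⁻¹) * l⁻¹ * k⁻¹ := by group
      _ = x * k * (x⁻¹ * l) * l⁻¹ * k⁻¹ := by rw [e2.inv_left.eq]
      _ = x * k * x⁻¹ * k⁻¹ := by group
  rw [e1]
  exact Subgroup.commutator_mem_commutator hx hk

/-- A form nonzero on the moved part sees the action of a complement. -/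
theorem exists_moved (hL : IsHyp q B L) {z : Subgroup G} {f : G → ZMod t} (hc : Pc t F z f)
    {e : G} (he : e ∈ B) (heL : e ∉ L)
    (hβ : ∃ x ∈ mov F B L, ∃ y ∈ mov F B L, f ⁅x, y⁆ ≠ 0) :
    ∃ v ∈ mov F B L, ∃ y ∈ mov F B L, f ⁅v, ⁅y, e⁆⁆ ≠ 0 := by
  by_contra hcon
  push Not at hcon
  obtain ⟨x, hx, y, hy, hxy⟩ := hβ
  have hTF := h.mov_le hL.1
  have hconj : ∀ b ∈ B, ∀ g ∈ mov F B L, b * g * b⁻¹ ∈ mov F B L := fun b hb g hg =>
    (Subgroup.mem_normalizer_iff.1 (h.norm_mov L hb) g).1 hg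
  have hone : ∀ g ∈ mov F B L, ∀ v ∈ mov F B L, f ⁅v, e * g * e⁻¹⁆ = f ⁅v, g⁆ := by
    intro g hg v hv
    have h1 := hcon v hv g hg
    have e1 : ⁅g, e⁆ = g * (e * g * e⁻¹)⁻¹ := by simp only [commutatorElement_def]; group
    rw [e1, hc.b_mul_right (hTF hv) (hTF hg) (inv_mem (hTF (hconj e he g hg))),
      hc.b_inv_right (hTF hv) (hTF (hconj e he g hg))] at h1
    linear_combination -h1
  have hpow : ∀ n : ℕ, ∀ g ∈ mov F B L, ∀ v ∈ mov F B L,
      f ⁅v, e ^ n * g * (e ^ n)⁻¹⁆ = f ⁅v, g⁆ := by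
    intro n
    induction n with
    | zero => intro g _ v _; rw [pow_zero, one_mul, inv_one, mul_one]
    | succ n ih =>
      intro g hg v hv
      rw [show e ^ (n + 1) * g * (e ^ (n + 1))⁻¹ = e * (e ^ n * g * (e ^ n)⁻¹) * e⁻¹ by
        rw [pow_succ']; group, hone _ (hconj _ (pow_mem he n) g hg) v hv, ih g hg v hv]
  have hrad : y ∈ kerOn (mov F B L) z (mov F B L) := by
    refine hc.mem_rad_of_fixed hTF (h.mov_le_comm hL he heL)
      (fun k hk => hconj k ((Subgroup.zpowers_le.2 he) hk))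
      (fun k hk => h.Bc k ((Subgroup.zpowers_le.2 he) hk)) hy fun k hk v hv => ?_
    obtain ⟨n, rfl⟩ := mem_powers_iff_mem_zpowers.2 hk
    exact hpow n y hy v hv
  exact hxy (((hc.mem_rad hTF).1 hrad).2 x hx)

/-- An irredundant family of hyperplanes with nontrivial moved part. -/
theorem exists_family (hmov : ¬ B ≤ Subgroup.centralizer (F : Set G)) :
    ∃ I : Finset (Subgroup G), I.Nonempty ∧
      (∀ L ∈ I, IsHyp q B L ∧ mov F B L ≠ ⊥ ∧
        ∃ b ∈ B, b ∉ L ∧ ∀ L' ∈ I, L' ≠ L → b ∈ L') ∧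
      (B ⊓ Subgroup.centralizer (F : Set G)).relIndex B ≤ q ^ I.card := by
  classical
  haveI := Fintype.ofFinite (Subgroup G)
  have hne : B ≠ ⊥ := fun hb => hmov (hb ▸ bot_le)
  let good : Finset (Subgroup G) := Finset.univ.filter fun L => IsHyp q B L ∧ mov F B L ≠ ⊥
  let W : Finset (Finset (Subgroup G)) :=
    good.powerset.filter fun I => B ⊓ I.inf id ≤ Subgroup.centralizer (F : Set G)
  have hgood : good ∈ W := by
    refine Finset.mem_filter.2 ⟨Finset.mem_powerset_self _, fun b hb => ?_⟩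
    refine Subgroup.mem_centralizer_iff.2 fun x hx => ?_
    have hle : F ≤ Subgroup.centralizer {b} := h.le_of_hyp hne fun L hL y hy => by
      refine Subgroup.mem_centralizer_singleton_iff.2 ?_
      by_cases hT : mov F B L = ⊥
      · have h1 : B ≤ Subgroup.centralizer (cF F L : Set G) := by
          have h2 : ⁅B, cF F L⁆ = ⊥ := by rw [Subgroup.commutator_comm]; exact hT
          exact Subgroup.commutator_eq_bot_iff_le_centralizer.1 h2
        exact h1 hb.1 y hy
      · have hmem : L ∈ good := Finset.mem_filter.2 ⟨Finset.mem_univ L, hL, hT⟩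
        exact (hy.2 b ((Finset.inf_le (f := id) hmem) hb.2)).symm
    exact Subgroup.mem_centralizer_singleton_iff.1 (hle hx)
  obtain ⟨I, hI, hmin⟩ := Finset.exists_min_image W Finset.card ⟨good, hgood⟩
  obtain ⟨hIg, hIc⟩ := Finset.mem_filter.1 hI
  rw [Finset.mem_powerset] at hIg
  refine ⟨I, Finset.nonempty_iff_ne_empty.2 fun he => hmov ?_, fun L hL => ?_, ?_⟩
  · rw [he, Finset.inf_empty, inf_top_eq] at hIc
    exact hIc
  · obtain ⟨-, hLh, hLT⟩ := Finset.mem_filter.1 (hIg hL)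
    refine ⟨hLh, hLT, ?_⟩
    have hnot : ¬ B ⊓ (I.erase L).inf id ≤ Subgroup.centralizer (F : Set G) := fun hcon => by
      have h1 := hmin (I.erase L) (Finset.mem_filter.2
        ⟨Finset.mem_powerset.2 ((Finset.erase_subset _ _).trans hIg), hcon⟩)
      rw [Finset.card_erase_of_mem hL] at h1
      have := Finset.card_pos.2 ⟨L, hL⟩
      omega
    obtain ⟨b, hb, hbc⟩ := SetLike.not_le_iff_exists.1 hnot
    refine ⟨b, hb.1, fun hbL => hbc (hIc ⟨hb.1, ?_⟩),
      fun L' hL' hne' => (Finset.inf_le (f := id) (Finset.mem_erase.2 ⟨hne', hL'⟩)) hb.2⟩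
    rw [← Finset.insert_erase hL, Finset.inf_insert]
    exact ⟨hbL, hb.2⟩
  · have hle : (B ⊓ I.inf id).relIndex B ≤ q ^ I.card := by
      clear hI hmin hIc
      induction I using Finset.induction_on with
      | empty => simp
      | insert L J hLJ ih =>
        rw [Finset.inf_insert, Finset.card_insert_of_notMem hLJ, pow_succ',
          show B ⊓ (id L ⊓ J.inf id) = L ⊓ (B ⊓ J.inf id) by
            simp only [id]; rw [inf_left_comm]]
        refine Subgroup.relIndex_inf_le.trans ?_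
        obtain ⟨-, hLh, -⟩ := Finset.mem_filter.1 (hIg (Finset.mem_insert_self L J))
        rw [hLh.2]
        exact Nat.mul_le_mul_left _ (ih ((Finset.subset_insert L J).trans hIg))
    have h1 := Subgroup.relIndex_mul_relIndex (B ⊓ I.inf id)
      (B ⊓ Subgroup.centralizer (F : Set G)) B (le_inf inf_le_left hIc) inf_le_left
    have h2 : 0 < (B ⊓ I.inf id).relIndex (B ⊓ Subgroup.centralizer (F : Set G)) :=
      Nat.pos_of_ne_zero Subgroup.index_ne_zero_of_finite
    exact le_trans (Nat.le_mul_of_pos_left _ h2) (h1 ▸ hle)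

end Act

end Cfsg.Agent.SFTPureNonab
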