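import Mathlib
import Cfsg.Agent.Lib.SFTPureCore
import Cfsg.Agent.Lib.SFTPureNonabPieces
import Cfsg.Agent.Lib.SFTPureNonabSplit

/-!
# Pure uniqueness: the contribution of one piece
-/

set_option autoImplicit false

namespace Cfsg.Agent.SFTPureNonab

open scoped commutatorElement
open SFTPure (Aut fix mem_fix Core kerOn)

universe u

theorem two_mod_three : ¬ ((2 : ℕ) : ZMod 3) = 1 := by decide

theorem two_mod_five : ¬ ((2 : ℕ) : ZMod 5) = 1 := by decide

theorem three_mod_five : ¬ ((3 : ℕ) : ZMod 5) = 1 := by decide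

variable {q : ℕ} [hq : Fact q.Prime] {V : Type u} [AddCommGroup V] [Module (ZMod q) V] [Finite V]
variable {p t : ℕ} [Fact t.Prime] {F A D B : Subgroup (Aut q V)}

/-- The kernel of the action on `F`. -/
abbrev ker' (F B : Subgroup (Aut q V)) : Subgroup (Aut q V) :=
  B ⊓ Subgroup.centralizer (F : Set (Aut q V))

/-- The piece of `z` inside the fixed points of the kernel. -/
noncomputable def cell (F B z : Subgroup (Aut q V)) : Submodule (ZMod q) V :=
  fix (ker' F B) ⊓ piece F z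

/-- The index of the radical of the form of `z`. -/
noncomputable def radIndex (F z : Subgroup (Aut q V)) : ℕ := (kerOn F z F).relIndex F

/-- The form of `z` does not vanish on the moved part of `L`. -/
def Occ (F B z L : Subgroup (Aut q V)) : Prop :=
  ∃ x ∈ mov F B L, ∃ y ∈ mov F B L, ⁅x, y⁆ ∉ z

variable (h : Core q p t F A D B)
include h

theorem cl2 : Cl2 t F := ⟨h.comm_central, h.comm_pow⟩

omit [Fact t.Prime] in
theorem D_der : ∀ d ∈ D, ∀ w ∈ ⁅F, F⁆, d * w = w * d := by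
  intro d hd w hw
  have hle : ⁅F, F⁆ ≤ Subgroup.centralizer (D : Set (Aut q V)) :=
    Subgroup.commutator_le.2 fun x hx y hy =>
      Subgroup.mem_centralizer_iff.2 fun d' hd' => (h.comm_fixed x hx y hy d' hd').symm
  exact Subgroup.mem_centralizer_iff.1 (hle hw) d hd

theorem act (hna : ¬ ∀ x ∈ F, ∀ y ∈ F, x * y = y * x) : Act q t F B where
  cl := cl2 h
  ne := h.tq
  Fp := h.F_pgroup
  Bea := ⟨⟨⟨fun a b => Subtype.ext (h.B_comm a a.2 b b.2)⟩⟩, h.B_pow⟩
  BF := h.BD.trans h.D_norm_F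
  Bc := fun b hb w hw => D_der h b (h.BD hb) w hw
  center := fun x hx hc b hb => h.center_fixed hna x hx hc b hb

omit [Fact t.Prime] in
theorem B_pgroup : IsPGroup q ↥B := h.D_pgroup.to_le h.BD

omit [Fact t.Prime] in
theorem ker_pgroup : IsPGroup q ↥(ker' F B) := (B_pgroup h).to_le inf_le_left

theorem stab_cell {z : Subgroup (Aut q V)} (hz : z ≤ ⁅F, F⁆) {g : Aut q V} (hg : g ∈ F ∨ g ∈ B)
    {v : V} (hv : v ∈ cell F B z) : g v ∈ cell F B z := by
  refine ⟨SFTPure.mem_fix_comm (fun s hs => ?_) hv.1, piece_comm hz (fun w hw => ?_) hv.2⟩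
  · rcases hg with hg | hg
    · exact (hs.2 g hg).symm
    · exact h.B_comm s hs.1 g hg
  · rcases hg with hg | hg
    · exact ((cl2 h).der_central hw hg).symm
    · exact D_der h g (h.BD hg) w hw

omit [Fact t.Prime] in
/-- The commutator group acts on a piece through the form. -/
theorem der_act {z : Subgroup (Aut q V)} {f : Aut q V → ZMod t} [Fact t.Prime] (hc : Pc t F z f)
    {c : Aut q V} (hcd : c ∈ ⁅F, F⁆) (hc1 : f c = 1) {w : Aut q V} (hw : w ∈ ⁅F, F⁆) {x : V}
    (hx : x ∈ piece F z) : w x = (c ^ (f w).val) x := by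
  have hcn : ∀ n : ℕ, f (c ^ n) = n := by
    intro n
    induction n with
    | zero => rw [pow_zero, hc.f_one, Nat.cast_zero]
    | succ n ih => rw [pow_succ, hc.add _ (pow_mem hcd n) _ hcd, ih, hc1, Nat.cast_succ]
  have hz : (c ^ (f w).val)⁻¹ * w ∈ z := by
    refine (hc.ker _ (mul_mem (inv_mem (pow_mem hcd (f w).val)) hw)).1 ?_
    have h1 := hc.add _ (pow_mem hcd (f w).val) _ (mul_mem (inv_mem (pow_mem hcd (f w).val)) hw)
    rw [mul_inv_cancel_left, hcn, ZMod.natCast_val, ZMod.cast_id] at h1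
    linear_combination -h1
  have h2 := (mem_piece.1 hx).1 _ hz
  have h3 := congrArg (fun v => (c ^ (f w).val) v) h2
  rwa [← LinearEquiv.mul_apply, mul_inv_cancel_left] at h3

/-- A subgroup preserving a submodule of a piece has radical index at most the square of its
dimension. -/
theorem index_le_sq {z : Subgroup (Aut q V)} {f : Aut q V → ZMod t} (hc : Pc t F z f)
    {M : Submodule (ZMod q) V} (hM : M ≤ cell F B z) (hne : M ≠ ⊥) {H : Subgroup (Aut q V)}
    (hH : H ≤ F) (hHM : ∀ g ∈ H, ∀ x ∈ M, g x ∈ M) (hcM : ∀ w ∈ ⁅F, F⁆, ∀ x ∈ M, w x ∈ M) :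
    (kerOn H z H).relIndex H ≤ Module.finrank (ZMod q) ↥M ^ 2 := by
  classical
  haveI := SFTPure.finite_aut (q := q) (V := V)
  obtain ⟨c, hcd, hc1⟩ := hc.surj
  have hcz : c ∉ z := fun hh => one_ne_zero (hc1.symm.trans ((hc.ker c hcd).2 hh))
  have hfpf : Fpf t M c :=
    (piece_fpf h.tq hc hcd hcz).mono (hM.trans inf_le_right) (hcM c hcd)
  haveI := Fintype.ofFinite (↥H ⧸ (kerOn H z H).subgroupOf H)
  let sec : (↥H ⧸ (kerOn H z H).subgroupOf H) → Aut q V := fun a => ((a.out : ↥H) : Aut q V)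
  have hinj : Function.Injective sec := fun a b e => by
    have e' : a.out = b.out := Subtype.ext e
    rw [← Quotient.out_eq a, ← Quotient.out_eq b, e']
  set S := Finset.univ.image sec with hS
  have hSH : ∀ s ∈ S, s ∈ H := fun s hs => by
    obtain ⟨a, -, rfl⟩ := Finset.mem_image.1 hs
    exact (a.out).2
  have hcard : S.card = (kerOn H z H).relIndex H := by
    rw [hS, Finset.card_image_of_injective _ hinj, Finset.card_univ, ← Nat.card_eq_fintype_card]
    rfl
  rw [← hcard]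
  refine hfpf.card_le_sq hne S (fun s hs => hHM s (hSH s hs))
    (fun s hs x _ => by
      rw [← LinearEquiv.mul_apply, ← (cl2 h).der_central hcd (hH (hSH s hs)),
        LinearEquiv.mul_apply]) ?_
  intro g hg g' hg' hgg
  obtain ⟨k, hk, hkne⟩ : ∃ k ∈ H, f ⁅k, g⁆ ≠ f ⁅k, g'⁆ := by
    by_contra hcon
    push Not at hcon
    obtain ⟨a, -, rfl⟩ := Finset.mem_image.1 hg
    obtain ⟨b, -, rfl⟩ := Finset.mem_image.1 hg'
    refine hgg (congrArg sec ?_)
    rw [← Quotient.out_eq a, ← Quotient.out_eq b]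
    refine QuotientGroup.eq.2 ?_
    rw [Subgroup.mem_subgroupOf]
    refine (hc.mem_rad hH).2 ⟨((a.out)⁻¹ * b.out).2, fun v hv => ?_⟩
    have e1 : f ⁅v, (a.out : Aut q V)⁆ = f ⁅v, (b.out : Aut q V)⁆ := hcon v hv
    rw [Subgroup.coe_mul, Subgroup.coe_inv,
      hc.b_mul_right (hH hv) (inv_mem (hH a.out.2)) (hH b.out.2),
      hc.b_inv_right (hH hv) (hH a.out.2), e1, neg_add_cancel]
  refine ⟨k, fun s => (f ⁅k, s⁆).val, hHM k hk, fun x _ => ?_, fun s hs x hx => ?_, ?_⟩
  · rw [← LinearEquiv.mul_apply, ← (cl2 h).der_central hcd (hH hk), LinearEquiv.mul_apply]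
  · have hsx : s (k x) ∈ M := hHM s (hSH s hs) _ (hHM k hk x hx)
    rw [← der_act h hc hcd hc1 (hc.comm_mem (hH hk) (hH (hSH s hs))) ((hM hsx).2),
      ← LinearEquiv.mul_apply, ← LinearEquiv.mul_apply, ← LinearEquiv.mul_apply]
    congr 1
    simp only [commutatorElement_def]; group
  · rwa [ZMod.natCast_val, ZMod.cast_id, ZMod.natCast_val, ZMod.cast_id]

/-- The loss of fixed points along one hyperplane. -/
theorem gain (hna : ¬ ∀ x ∈ F, ∀ y ∈ F, x * y = y * x) {z : Subgroup (Aut q V)}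
    {f : Aut q V → ZMod t} (hc : Pc t F z f) {M : Submodule (ZMod q) V} (hM : M ≤ cell F B z)
    (hne : M ≠ ⊥) (hBM : ∀ b ∈ B, ∀ x ∈ M, b x ∈ M) (hcM : ∀ w ∈ ⁅F, F⁆, ∀ x ∈ M, w x ∈ M)
    {L : Subgroup (Aut q V)} (hL : IsHyp q B L) (hocc : Occ F B z L)
    (hTM : ∀ g ∈ mov F B L, ∀ x ∈ M, g x ∈ M) {e : Aut q V} (he : e ∈ B) (heL : e ∉ L) :
    t ≤ Module.finrank (ZMod q) ↥M ∧
    (t - 1) * Module.finrank (ZMod q) ↥M + 2 * t *
        Module.finrank (ZMod q) ↥(M ⊓ fix (Subgroup.zpowers e)) ≤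
      2 * t * Module.finrank (ZMod q) ↥M ∧
    (t = 2 → 2 * Module.finrank (ZMod q) ↥(M ⊓ fix (Subgroup.zpowers e)) ≤
      Module.finrank (ZMod q) ↥M) ∧
    (t = 3 ∨ t = 5 → Module.finrank (ZMod q) ↥M ≠ t) := by
  haveI := SFTPure.finite_aut (q := q) (V := V)
  have a := act h hna
  have hTF := a.mov_le hL.1
  have htp := (Fact.out : t.Prime)
  have hconj : ∀ b ∈ B, ∀ g ∈ mov F B L, b * g * b⁻¹ ∈ mov F B L := fun b hb g hg =>
    (Subgroup.mem_normalizer_iff.1 (a.norm_mov L hb) g).1 hg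
  have hw_mem : ∀ y ∈ mov F B L, ⁅y, e⁆ ∈ mov F B L := by
    intro y hy
    have e1 : ⁅y, e⁆ = y * (e * y⁻¹ * e⁻¹) := by simp only [commutatorElement_def]; group
    rw [e1]
    exact mul_mem hy (hconj e he _ (inv_mem hy))
  have hβ : ∃ x ∈ mov F B L, ∃ y ∈ mov F B L, f ⁅x, y⁆ ≠ 0 := by
    obtain ⟨x, hx, y, hy, hxy⟩ := hocc
    exact ⟨x, hx, y, hy, fun h0 => hxy ((hc.ker _ (hc.comm_mem (hTF hx) (hTF hy))).1 h0)⟩
  obtain ⟨v, hv, y, hy, hvy⟩ := a.exists_moved hL hc he heL hβ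
  have hidx : t ^ 2 ≤ (kerOn (mov F B L) z (mov F B L)).relIndex (mov F B L) := by
    have := hc.index_orth (fun i : Unit => mov F B L) {()} (mov F B L) hTF
      (fun _ _ => le_rfl) (fun _ _ => hβ) (fun i _ j _ hij => absurd rfl hij)
    simpa using this
  have hsq := index_le_sq h hc hM hne hTF hTM hcM
  set n := Module.finrank (ZMod q) ↥M with hn
  have htn : t ≤ n := (Nat.pow_le_pow_iff_left two_ne_zero).1 (hidx.trans hsq)
  refine ⟨htn, ?_, ?_, ?_⟩
  · set w := ⁅y, e⁆ with hw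
    have hwT := hw_mem y hy
    have hcd : ⁅w, v⁆ ∈ ⁅F, F⁆ := hc.comm_mem (hTF hwT) (hTF hv)
    have hcz : ⁅w, v⁆ ∉ z := fun hh => hvy (by
      rw [hc.b_swap (hTF hwT) (hTF hv), (hc.ker _ hcd).2 hh, neg_zero])
    have hfpf : Fpf t M ⁅w, v⁆ :=
      (piece_fpf h.tq hc hcd hcz).mono (hM.trans inf_le_right) (hcM _ hcd)
    have h1 := hfpf.mul_finrank_fix_le (v := v) (w := w) (hTM v hv)
      (fun x _ => by
        rw [← LinearEquiv.mul_apply, (cl2 h).der_central hcd (hTF hv), LinearEquiv.mul_apply])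
      (fun x _ => by
        rw [← LinearEquiv.mul_apply, (cl2 h).der_central hcd (hTF hwT), LinearEquiv.mul_apply])
      (hTM w hwT)
      (fun x _ => by
        rw [← LinearEquiv.mul_apply, ← LinearEquiv.mul_apply, ← LinearEquiv.mul_apply]
        congr 1
        simp only [commutatorElement_def]; group)
    have h2 := finrank_fix_comm_ge (M := M) (e := e) (y := y) (w := w) (hTM y hy)
      (by rw [hw, commutatorElement_def])
    rw [← hn] at h1 h2
    obtain ⟨s, hs⟩ := Nat.exists_eq_add_of_le htp.one_le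
    rw [hs, Nat.add_sub_cancel_left]
    rw [hs] at h1
    nlinarith [Nat.mul_le_mul_left (1 + s) h2]
  · intro ht2
    subst ht2
    by_contra hlt
    push Not at hlt
    have hzero : ∀ x ∈ mov F B L, f ⁅x, e * x * e⁻¹⁆ = 0 := by
      intro x hx
      have key : ∀ x ∈ mov F B L, f ⁅x⁻¹, e * x⁻¹ * e⁻¹⁆ = 0 := by
        intro x hx
        have h2 := finrank_fix_comm_ge (M := M) (e := e) (y := x) (w := ⁅x, e⁆) (hTM x hx)
          (by rw [commutatorElement_def])
        rw [← hn] at h2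
        obtain ⟨m, ⟨hm, hmw⟩, hm0⟩ := (Submodule.ne_bot_iff (M ⊓ fix (Subgroup.zpowers ⁅x, e⁆))).1
          (fun hb => by rw [hb, finrank_bot] at h2; omega)
        have hu : e * x⁻¹ * e⁻¹ ∈ F := hTF (hconj e he _ (inv_mem hx))
        have hx2 : x ^ 2 * e = e * x ^ 2 := h.pow_fixed x (hTF hx) e (h.BD he)
        have hu2 : (e * x⁻¹ * e⁻¹) * (e * x⁻¹ * e⁻¹) = (x ^ 2)⁻¹ := by
          have h3 : Commute e (x ^ 2)⁻¹ := (show Commute e (x ^ 2) from hx2.symm).inv_right
          calc (e * x⁻¹ * e⁻¹) * (e * x⁻¹ * e⁻¹) = e * (x ^ 2)⁻¹ * e⁻¹ := by group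
            _ = (x ^ 2)⁻¹ := by rw [h3.eq, mul_inv_cancel_right]
        have hd : ⁅x⁻¹, e * x⁻¹ * e⁻¹⁆ ∈ ⁅F, F⁆ := hc.comm_mem (inv_mem (hTF hx)) hu
        have hsq2 : ⁅x, e⁆ * ⁅x, e⁆ = ⁅x⁻¹, e * x⁻¹ * e⁻¹⁆ := by
          have e1 : ⁅x, e⁆ * ⁅x, e⁆ = x ^ 2 * ⁅x⁻¹, e * x⁻¹ * e⁻¹⁆ *
              ((e * x⁻¹ * e⁻¹) * (e * x⁻¹ * e⁻¹)) := by
            simp only [commutatorElement_def]; group
          rw [e1, hu2, ← (cl2 h).der_central hd (pow_mem (hTF hx) 2), mul_inv_cancel_right]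
        by_contra hne0
        have hnz : ⁅x⁻¹, e * x⁻¹ * e⁻¹⁆ ∉ z := fun hh => hne0 ((hc.ker _ hd).2 hh)
        refine hm0 (((piece_fpf h.tq hc hd hnz)).fpf m ((hM hm).2) ?_)
        rw [← hsq2, LinearEquiv.mul_apply, hmw _ (Subgroup.mem_zpowers _),
          hmw _ (Subgroup.mem_zpowers _)]
      have := key x⁻¹ (inv_mem hx)
      rwa [inv_inv] at this
    have hstep : ∀ x ∈ mov F B L, ∀ y ∈ mov F B L,
        f ⁅x, e * (e * y * e⁻¹) * e⁻¹⁆ = f ⁅x, y⁆ := by
      intro x hx y hy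
      set y' := e * y * e⁻¹ with hy'
      have hy'm : y' ∈ mov F B L := hconj e he y hy
      have h0 := hzero (x * y') (mul_mem hx hy'm)
      have e1 : e * (x * y') * e⁻¹ = (e * x * e⁻¹) * (e * y' * e⁻¹) := by group
      have hex := hTF (hconj e he x hx)
      have hey := hTF (hconj e he y' hy'm)
      rw [e1, hc.b_mul_left (hTF hx) (hTF hy'm) (mul_mem hex hey),
        hc.b_mul_right (hTF hx) hex hey, hc.b_mul_right (hTF hy'm) hex hey, hzero x hx,
        hzero y' hy'm] at h0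
      have e2 : f ⁅y', e * x * e⁻¹⁆ = f ⁅y, x⁆ := by
        rw [hy', ← conj_comm, D_der h e (h.BD he) _ (hc.comm_mem (hTF hy) (hTF hx)),
          mul_inv_cancel_right]
      rw [e2, hc.b_swap (hTF hx) (hTF hy)] at h0
      linear_combination h0
    have hiter : ∀ m : ℕ, ∀ x ∈ mov F B L, ∀ y ∈ mov F B L,
        f ⁅x, (e ^ (2 * m)) * y * (e ^ (2 * m))⁻¹⁆ = f ⁅x, y⁆ := by
      intro m
      induction m with
      | zero => intro x _ y _; rw [mul_zero, pow_zero, one_mul, inv_one, mul_one]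
      | succ m ih =>
        intro x hx y hy
        have e1 : e ^ (2 * (m + 1)) * y * (e ^ (2 * (m + 1)))⁻¹ =
            e * (e * (e ^ (2 * m) * y * (e ^ (2 * m))⁻¹) * e⁻¹) * e⁻¹ := by
          rw [show 2 * (m + 1) = 2 * m + 1 + 1 by ring, pow_succ', pow_succ']; group
        rw [e1, hstep x hx _ (hconj _ (pow_mem he _) y hy), ih x hx y hy]
    obtain ⟨m, hm⟩ := (hq.out.odd_of_ne_two (Ne.symm h.tq)).add_one
    have he2 : e ^ (2 * m) = e := by
      rw [show 2 * m = q + 1 by omega, pow_succ, h.B_pow e he, one_mul]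
    have h1 := hiter m v hv y hy
    rw [he2] at h1
    refine hvy ?_
    rw [show ⁅y, e⁆ = y * (e * y * e⁻¹)⁻¹ by simp only [commutatorElement_def]; group,
      hc.b_mul_right (hTF hv) (hTF hy) (inv_mem (hTF (hconj e he y hy))),
      hc.b_inv_right (hTF hv) (hTF (hconj e he y hy)), h1, add_neg_cancel]
  · intro ht35 hnt
    rw [hnt] at hsq
    have hN : (kerOn (mov F B L) z (mov F B L)).relIndex (mov F B L) = t ^ 2 := le_antisymm hsq hidx
    have hd := dvd_index_sub_one (q := q) hc hTF ((B_pgroup h).to_le (Subgroup.zpowers_le.2 he))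
      (a.mov_le_comm hL he heL) ((Subgroup.zpowers_le.2 he).trans (a.norm_mov L))
      (fun k hk w hw => D_der h k (h.BD ((Subgroup.zpowers_le.2 he) hk)) w hw)
    rw [hN] at hd
    obtain ⟨c, hcd, hc1⟩ := hc.surj
    have hcz : c ∉ z := fun hh => one_ne_zero (hc1.symm.trans ((hc.ker c hcd).2 hh))
    have hpow : (q : ZMod t) ^ n = 1 :=
      ((piece_fpf h.tq hc hcd hcz).mono (hM.trans inf_le_right) (hcM c hcd)).dvd_pow_sub_one
    rw [hnt, ZMod.pow_card] at hpow
    have hqp := hq.out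
    rcases ht35 with rfl | rfl
    · have h2 := (Nat.prime_dvd_prime_iff_eq hqp Nat.prime_two).1
        (hqp.dvd_of_dvd_pow (show q ∣ 2 ^ 3 from hd))
      subst h2
      exact absurd hpow two_mod_three
    · have h24 : q ∣ 2 ^ 3 * 3 := hd
      rcases (Nat.Prime.dvd_mul hqp).1 h24 with hh | hh
      · have h2 := (Nat.prime_dvd_prime_iff_eq hqp Nat.prime_two).1 (hqp.dvd_of_dvd_pow hh)
        subst h2
        exact absurd hpow two_mod_five
      · have h3 := (Nat.prime_dvd_prime_iff_eq hqp Nat.prime_three).1 hh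
        subst h3
        exact absurd hpow three_mod_five

theorem orth_movs (hna : ¬ ∀ x ∈ F, ∀ y ∈ F, x * y = y * x) {z : Subgroup (Aut q V)}
    {f : Aut q V → ZMod t} (hc : Pc t F z f) {L L' : Subgroup (Aut q V)} (hL : IsHyp q B L)
    (hL' : IsHyp q B L') (hne : L ≠ L') {x y : Aut q V} (hx : x ∈ mov F B L)
    (hy : y ∈ mov F B L') : f ⁅x, y⁆ = 0 := by
  haveI := SFTPure.finite_aut (q := q) (V := V)
  have a := act h hna
  rw [commutatorElement_eq_one_iff_mul_comm.2 (a.mov_comm hL (a.mov_le hL'.1 hy)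
    (Or.inr ⟨L', hL', hne.symm, a.mov_le_cF hL'.1 hy⟩) hx), hc.f_one]

/-- The loss of fixed points along a family of hyperplanes. -/
theorem moved_rec (hna : ¬ ∀ x ∈ F, ∀ y ∈ F, x * y = y * x) {z : Subgroup (Aut q V)}
    {f : Aut q V → ZMod t} (hc : Pc t F z f) :
    ∀ (J : Finset (Subgroup (Aut q V))), (∀ L ∈ J, IsHyp q B L ∧ Occ F B z L ∧
        ∃ b ∈ B, b ∉ L ∧ ∀ L' ∈ J, L' ≠ L → b ∈ L') →
      ∀ M : Submodule (ZMod q) V, M ≤ cell F B z → M ≠ ⊥ → (∀ b ∈ B, ∀ x ∈ M, b x ∈ M) →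
        (∀ w ∈ ⁅F, F⁆, ∀ x ∈ M, w x ∈ M) → (∀ L ∈ J, ∀ g ∈ mov F B L, ∀ x ∈ M, g x ∈ M) →
        t ^ J.card ≤ Module.finrank (ZMod q) ↥M ∧
        (t = 2 → 2 * 2 ^ J.card ≤ 2 * movedDim B M + 2) ∧
        (t = 3 → 4 * J.card ≤ 2 * movedDim B M) ∧
        (5 ≤ t → 6 * J.card ≤ 2 * movedDim B M) := by
  classical
  haveI := SFTPure.finite_aut (q := q) (V := V)
  intro J
  induction J using Finset.induction_on with
  | empty =>
    intro _ M _ hne _ _ _
    refine ⟨?_, fun _ => by simp, fun _ => by simp, fun _ => by simp⟩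
    rw [Finset.card_empty, pow_zero]
    exact Submodule.one_le_finrank_iff.2 hne
  | insert L J hLJ ih =>
    intro hJ M hM hne hBM hcM hTM
    have a := act h hna
    have htp := (Fact.out : t.Prime)
    obtain ⟨hLh, hocc, e, he, heL, heJ⟩ := hJ L (Finset.mem_insert_self L J)
    obtain ⟨hg1, hg2, hg3, hg4⟩ := gain h hna hc hM hne hBM hcM hLh hocc
      (hTM L (Finset.mem_insert_self L J)) he heL
    have hn : t ^ (insert L J).card ≤ Module.finrank (ZMod q) ↥M := by
      have h1 := hc.index_orth (fun L => mov F B L) (insert L J) (F ⊓ stab M) inf_le_left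
        (fun L' hL' g hg => ⟨a.mov_le (hJ L' hL').1.1 hg, mem_stab (hTM L' hL' g hg)⟩)
        (fun L' hL' => by
          obtain ⟨hh, ⟨x, hx, y, hy, hxy⟩, -⟩ := hJ L' hL'
          exact ⟨x, hx, y, hy, fun h0 => hxy ((hc.ker _
            (hc.comm_mem (a.mov_le hh.1 hx) (a.mov_le hh.1 hy))).1 h0)⟩)
        (fun L1 h1' L2 h2' hne' x hx y hy =>
          orth_movs h hna hc (hJ L1 h1').1 (hJ L2 h2').1 hne' hx hy)
      have h2 := index_le_sq h hc hM hne inf_le_left (fun g hg x hx => stab_mem hg.2 hx) hcM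
      have h3 := h1.trans h2
      rw [mul_comm, pow_mul] at h3
      exact (Nat.pow_le_pow_iff_left two_ne_zero).1 h3
    set M' := M ⊓ fix (Subgroup.zpowers e) with hM'
    have hR : IsPGroup q ↥(Subgroup.zpowers e) := (B_pgroup h).to_le (Subgroup.zpowers_le.2 he)
    have hne' : M' ≠ ⊥ := by
      rw [hM', inf_comm]
      exact SFTPure.fix_inf_ne_bot hR hne fun r hr x hx =>
        hBM r ((Subgroup.zpowers_le.2 he) hr) x hx
    have hcomm : ∀ g, (∀ x, x ∈ M → g x ∈ M) → g * e = e * g → ∀ x ∈ M', g x ∈ M' := by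
      intro g hgM hge x hx
      refine ⟨hgM x hx.1, SFTPure.mem_fix_comm (fun s hs => ?_) hx.2⟩
      obtain ⟨k, rfl⟩ := Subgroup.mem_zpowers_iff.1 hs
      exact ((show Commute g e from hge).zpow_right k).eq.symm
    have hih := ih (fun L' hL' => by
        obtain ⟨h1, h2, b, hb, hbL, hbJ⟩ := hJ L' (Finset.mem_insert_of_mem hL')
        exact ⟨h1, h2, b, hb, hbL, fun L2 hL2 => hbJ L2 (Finset.mem_insert_of_mem hL2)⟩)
      M' (inf_le_left.trans hM) hne'
      (fun b hb => hcomm b (hBM b hb) (h.B_comm b hb e he))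
      (fun w hw => hcomm w (hcM w hw) (D_der h e (h.BD he) w hw).symm)
      (fun L' hL' g hg => hcomm g (hTM L' (Finset.mem_insert_of_mem hL') g hg) (by
        have hmem := heJ L' (Finset.mem_insert_of_mem hL') (fun heq => hLJ (heq ▸ hL'))
        exact ((a.mov_le_cF (hJ L' (Finset.mem_insert_of_mem hL')).1.1 hg).2 e hmem).symm))
    have hfix : M' ⊓ fix B = M ⊓ fix B := by
      rw [hM', inf_assoc, inf_eq_right.2 (SFTPure.fix_antitone (Subgroup.zpowers_le.2 he))]
    have hmv : movedDim B M = (Module.finrank (ZMod q) ↥M - Module.finrank (ZMod q) ↥M') +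
        movedDim B M' := by
      rw [movedDim, movedDim, hfix]
      have h1 : Module.finrank (ZMod q) ↥(M ⊓ fix B) ≤ Module.finrank (ZMod q) ↥M' :=
        hfix ▸ Submodule.finrank_mono inf_le_left
      have h2 : Module.finrank (ZMod q) ↥M' ≤ Module.finrank (ZMod q) ↥M :=
        Submodule.finrank_mono inf_le_left
      omega
    rw [Finset.card_insert_of_notMem hLJ] at hn ⊢
    refine ⟨hn, fun ht2 => ?_, fun ht3 => ?_, fun ht5 => ?_⟩
    · subst ht2
      have := hg3 rfl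
      have := hih.2.1 rfl
      rw [pow_succ] at hn ⊢
      omega
    · subst ht3
      have := hg4 (Or.inl rfl)
      have := hih.2.2.1 rfl
      omega
    · have h6 := hih.2.2.2 ht5
      have hge : 3 ≤ Module.finrank (ZMod q) ↥M - Module.finrank (ZMod q) ↥M' := by
        rcases eq_or_lt_of_le ht5 with ht | ht
        · have := hg4 (Or.inr ht.symm)
          subst ht
          omega
        · by_contra hlt
          have ht7 : 7 ≤ t := by
            rcases Nat.lt_or_ge t 7 with h7 | h7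
            · interval_cases t; norm_num at htp
            · exact h7
          obtain ⟨s, rfl⟩ := Nat.exists_eq_add_of_le htp.one_le
          rw [Nat.add_sub_cancel_left] at hg2
          have h2 : Module.finrank (ZMod q) ↥M ≤ Module.finrank (ZMod q) ↥M' + 2 := by omega
          nlinarith [Nat.mul_le_mul_left s hg1]
      omega

/-- The contribution of one piece. -/
theorem moved_cell (hna : ¬ ∀ x ∈ F, ∀ y ∈ F, x * y = y * x) {z : Subgroup (Aut q V)}
    {f : Aut q V → ZMod t} (hc : Pc t F z f) (hlive : cell F B z ≠ ⊥)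
    (J : Finset (Subgroup (Aut q V))) (hJ : ∀ L ∈ J, IsHyp q B L ∧ Occ F B z L ∧
      ∃ b ∈ B, b ∉ L ∧ ∀ L' ∈ J, L' ≠ L → b ∈ L') (hJne : J.Nonempty) :
    if t = 2 ∧ radIndex F z = 4 then 2 * J.card ≤ 2 * movedDim B (cell F B z)
    else if t = 2 ∧ radIndex F z = 16 then 3 * J.card ≤ 2 * movedDim B (cell F B z)
    else if t = 3 ∧ radIndex F z = 9 then 4 * J.card ≤ 2 * movedDim B (cell F B z)
    else 4 * J.card + 1 ≤ 2 * movedDim B (cell F B z) := by
  classical
  haveI := SFTPure.finite_aut (q := q) (V := V)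
  have a := act h hna
  have htp := (Fact.out : t.Prime)
  have hBM : ∀ b ∈ B, ∀ x ∈ cell F B z, b x ∈ cell F B z := fun b hb x hx =>
    stab_cell h hc.le (Or.inr hb) hx
  have hFM : ∀ g ∈ F, ∀ x ∈ cell F B z, g x ∈ cell F B z := fun g hg x hx =>
    stab_cell h hc.le (Or.inl hg) hx
  have hcM : ∀ w ∈ ⁅F, F⁆, ∀ x ∈ cell F B z, w x ∈ cell F B z := fun w hw =>
    hFM w (Cl2.der_le F hw)
  have hTM : ∀ L ∈ J, ∀ g ∈ mov F B L, ∀ x ∈ cell F B z, g x ∈ cell F B z := fun L hL g hg =>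
    hFM g (a.mov_le (hJ L hL).1.1 hg)
  obtain ⟨hr1, hr2, hr3, hr5⟩ := moved_rec h hna hc J hJ (cell F B z) le_rfl hlive hBM hcM hTM
  have hsq : radIndex F z ≤ Module.finrank (ZMod q) ↥(cell F B z) ^ 2 :=
    index_le_sq h hc le_rfl hlive le_rfl hFM hcM
  have hJN : t ^ (2 * J.card) ≤ radIndex F z :=
    hc.index_orth (fun L => mov F B L) J F le_rfl (fun L hL => a.mov_le (hJ L hL).1.1)
      (fun L hL => by
        obtain ⟨hh, ⟨x, hx, y, hy, hxy⟩, -⟩ := hJ L hL
        exact ⟨x, hx, y, hy, fun h0 => hxy ((hc.ker _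
          (hc.comm_mem (a.mov_le hh.1 hx) (a.mov_le hh.1 hy))).1 h0)⟩)
      (fun L1 h1 L2 h2 hne x hx y hy => orth_movs h hna hc (hJ L1 h1).1 (hJ L2 h2).1 hne hx hy)
  have hpos := Finset.card_pos.2 hJne
  have hN2 : t ^ 2 ≤ radIndex F z :=
    (Nat.pow_le_pow_right htp.pos (by omega)).trans hJN
  -- the first step
  obtain ⟨L, hLJ⟩ := hJne
  obtain ⟨hLh, hocc, e, he, heL, heJ⟩ := hJ L hLJ
  obtain ⟨hg1, hg2, hg3, hg4⟩ := gain h hna hc le_rfl hlive hBM hcM hLh hocc (hTM L hLJ) he heL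
  set M' := cell F B z ⊓ fix (Subgroup.zpowers e) with hM'
  have hne' : M' ≠ ⊥ := by
    rw [hM', inf_comm]
    exact SFTPure.fix_inf_ne_bot ((B_pgroup h).to_le (Subgroup.zpowers_le.2 he)) hlive fun r hr x hx =>
      hBM r ((Subgroup.zpowers_le.2 he) hr) x hx
  have hcomm : ∀ g, (∀ x, x ∈ cell F B z → g x ∈ cell F B z) → g * e = e * g →
      ∀ x ∈ M', g x ∈ M' := by
    intro g hgM hge x hx
    refine ⟨hgM x hx.1, SFTPure.mem_fix_comm (fun s hs => ?_) hx.2⟩
    obtain ⟨k, rfl⟩ := Subgroup.mem_zpowers_iff.1 hs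
    exact ((show Commute g e from hge).zpow_right k).eq.symm
  obtain ⟨-, hs2, hs3, -⟩ := moved_rec h hna hc (J.erase L) (fun L' hL' => by
      obtain ⟨h1, h2, b, hb, hbL, hbJ⟩ := hJ L' (Finset.mem_of_mem_erase hL')
      exact ⟨h1, h2, b, hb, hbL, fun L2 hL2 => hbJ L2 (Finset.mem_of_mem_erase hL2)⟩)
    M' inf_le_left hne'
    (fun b hb => hcomm b (hBM b hb) (h.B_comm b hb e he))
    (fun w hw => hcomm w (hcM w hw) (D_der h e (h.BD he) w hw).symm)
    (fun L' hL' g hg => hcomm g (hTM L' (Finset.mem_of_mem_erase hL') g hg)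
      (((a.mov_le_cF (hJ L' (Finset.mem_of_mem_erase hL')).1.1 hg).2 e
        (heJ L' (Finset.mem_of_mem_erase hL') (Finset.ne_of_mem_erase hL'))).symm))
  have hfix : M' ⊓ fix B = cell F B z ⊓ fix B := by
    rw [hM', inf_assoc, inf_eq_right.2 (SFTPure.fix_antitone (Subgroup.zpowers_le.2 he))]
  have hmv : movedDim B (cell F B z) = (Module.finrank (ZMod q) ↥(cell F B z) -
      Module.finrank (ZMod q) ↥M') + movedDim B M' := by
    rw [movedDim, movedDim, hfix]
    have h1 : Module.finrank (ZMod q) ↥(cell F B z ⊓ fix B) ≤ Module.finrank (ZMod q) ↥M' :=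
      hfix ▸ Submodule.finrank_mono inf_le_left
    have h2 : Module.finrank (ZMod q) ↥M' ≤ Module.finrank (ZMod q) ↥(cell F B z) :=
      Submodule.finrank_mono inf_le_left
    omega
  rw [Finset.card_erase_of_mem hLJ] at hs2 hs3
  set n := Module.finrank (ZMod q) ↥(cell F B z)
  obtain ⟨s, hs⟩ := Nat.exists_eq_add_of_le hpos
  change 0 + 1 ≤ J.card at hpos
  rw [hs] at hr1 hr2 hr3 hr5 hs2 hs3 hJN ⊢
  simp only [Nat.succ_eq_add_one, zero_add, Nat.add_sub_cancel_left] at *
  have hval := hc.index_values (le_refl F)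
  rw [show (kerOn F z F).relIndex F = radIndex F z from rfl] at hval
  rcases Nat.lt_or_ge t 5 with ht | ht
  · have ht23 : t = 2 ∨ t = 3 := by
      by_contra hcon
      have := htp.two_le
      have h4 : t = 4 := by omega
      rw [h4] at htp
      norm_num at htp
    rcases ht23 with rfl | rfl
    · have h1 := hr2 rfl
      have h2 := hg3 rfl
      have h3 := hs2 rfl
      norm_num at hval hN2
      rcases hval with hv | hv | hv | hv
      · omega
      · rw [if_pos ⟨rfl, hv⟩]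
        rw [hv] at hJN
        have hs0 : s = 0 := by
          by_contra hh
          have := Nat.pow_le_pow_right (show 0 < 2 by norm_num) (show 4 ≤ 2 * (1 + s) by omega)
          omega
        subst hs0
        norm_num at h1 ⊢
        omega
      · rw [if_neg (by omega), if_pos ⟨rfl, hv⟩]
        rw [hv] at hJN hsq
        have hn4 : 4 ≤ n := (Nat.pow_le_pow_iff_left two_ne_zero).1 (show 4 ^ 2 ≤ n ^ 2 from hsq)
        have hs1 : s ≤ 1 := by
          by_contra hh
          have := Nat.pow_le_pow_right (show 0 < 2 by norm_num) (show 6 ≤ 2 * (1 + s) by omega)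
          omega
        interval_cases s <;> norm_num at h1 h3 ⊢ <;> omega
      · rw [if_neg (by omega), if_neg (by omega), if_neg (by omega)]
        have hn8 : 8 ≤ n := (Nat.pow_le_pow_iff_left two_ne_zero).1
          ((show 8 ^ 2 ≤ radIndex F z by omega).trans hsq)
        have hgrow : ∀ m : ℕ, 2 * (m + 3) + 2 ≤ 2 ^ (m + 3) := by
          intro m
          induction m with
          | zero => norm_num
          | succ m ih => rw [show m + 1 + 3 = (m + 3) + 1 by omega, pow_succ]; omega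
        rcases Nat.lt_or_ge s 2 with hs' | hs'
        · interval_cases s <;> norm_num at h3 ⊢ <;> omega
        · have := hgrow (s - 2)
          rw [show s - 2 + 3 = s + 1 by omega] at this
          rw [show 1 + s = s + 1 by omega, pow_succ] at hr1
          rw [pow_succ] at this
          omega
    · have h1 := hr3 rfl
      have h4 := hg4 (Or.inl rfl)
      have h3 := hs3 rfl
      rw [if_neg (by omega), if_neg (by omega)]
      norm_num at hval hN2
      rcases hval with hv | hv | hv | hv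
      · omega
      · rw [if_pos ⟨rfl, hv⟩]
        exact h1
      all_goals
        rw [if_neg (by omega)]
        have hn9 : 9 ≤ n := (Nat.pow_le_pow_iff_left two_ne_zero).1
          ((show 9 ^ 2 ≤ radIndex F z by omega).trans hsq)
        omega
  · have h1 := hr5 ht
    rw [if_neg (by omega), if_neg (by omega), if_neg (by omega)]
    omega

end Cfsg.Agent.SFTPureNonab
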