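import Mathlib
import Cfsg.Agent.Lib.SFTPureNonabBound

/-!
# Pure uniqueness: the bound when `F` is not abelian
-/

set_option autoImplicit false
set_option linter.unusedSectionVars false

namespace Cfsg.Agent.SFTPureNonab

open scoped commutatorElement
open SFTPure (Aut fix mem_fix Core CoreBound CoreNonabelian kerOn mem_kerOn)

universe u

variable {q : ℕ} [hq : Fact q.Prime] {V : Type u} [AddCommGroup V] [Module (ZMod q) V] [Finite V]
variable {p t : ℕ} [hp : Fact p.Prime] [Fact t.Prime] {F A D B : Subgroup (Aut q V)}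

theorem zmod2_eq_one : ∀ c : ZMod 2, c ≠ 0 → c = 1 := by decide

theorem zmod2_double : ∀ c : ZMod 2, c + c = 0 := by decide

theorem zmod2_cancel : ∀ c d : ZMod 2, d + c = 0 → c = d := by decide

/-- The small forms. -/
def Small (t N : ℕ) : Prop := (t = 2 ∧ N = 4) ∨ (t = 3 ∧ N = 9) ∨ (t = 2 ∧ N = 16)

instance (t N : ℕ) : Decidable (Small t N) := by unfold Small; infer_instance

/-- The weight of a form. -/
def wt (t N : ℕ) : ℕ := if t = 2 ∧ N = 4 then 2 else if t = 2 ∧ N = 16 then 3 else 4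

/-- The surplus of a form. -/
def surplus (t N : ℕ) : ℕ := if Small t N then 0 else 1

/-- The image of a subgroup under conjugation. -/
abbrev cj (a : Aut q V) (z : Subgroup (Aut q V)) : Subgroup (Aut q V) :=
  z.map (MulAut.conj a).toMonoidHom

theorem mem_cj {a g : Aut q V} {z : Subgroup (Aut q V)} : g ∈ cj a z ↔ a⁻¹ * g * a ∈ z := by
  constructor
  · rintro ⟨x, hx, rfl⟩
    have e : a⁻¹ * (a * x * a⁻¹) * a = x := by group
    change a⁻¹ * (a * x * a⁻¹) * a ∈ z
    rwa [e]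
  · intro hg
    exact ⟨_, hg, by change a * (a⁻¹ * g * a) * a⁻¹ = g; group⟩

theorem cj_cj (a b : Aut q V) (z : Subgroup (Aut q V)) : cj a (cj b z) = cj (a * b) z := by
  ext g
  rw [mem_cj, mem_cj, mem_cj]
  simp [mul_assoc]

theorem cj_one (z : Subgroup (Aut q V)) : cj 1 z = z := by
  ext g; rw [mem_cj]; simp

theorem mem_normalizer_of_cj {a : Aut q V} {z : Subgroup (Aut q V)} (h : cj a z = z) :
    a ∈ Subgroup.normalizer (z : Set (Aut q V)) := by
  refine Subgroup.mem_normalizer_iff.2 fun g => ?_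
  conv_rhs => rw [← h, mem_cj]
  rw [show a⁻¹ * (a * g * a⁻¹) * a = g by group]

theorem cj_of_mem_normalizer {a : Aut q V} {z : Subgroup (Aut q V)}
    (h : a ∈ Subgroup.normalizer (z : Set (Aut q V))) : cj a z = z := by
  ext g
  rw [mem_cj]
  exact (Subgroup.mem_normalizer_iff''.1 h g).symm

variable (h : Core q p t F A D B)
include h

theorem norm_der {a : Aut q V} (ha : a ∈ A) :
    a ∈ Subgroup.normalizer ((⁅F, F⁆ : Subgroup (Aut q V)) : Set (Aut q V)) := by
  refine mem_normalizer_of_cj ?_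
  rw [cj, Subgroup.map_commutator]
  change ⁅cj a F, cj a F⁆ = ⁅F, F⁆
  rw [cj_of_mem_normalizer (h.A_norm_F ha)]

/-- The pieces that occur. -/
def Live (t : ℕ) (F B z : Subgroup (Aut q V)) : Prop :=
  z ≤ ⁅F, F⁆ ∧ z.relIndex ⁅F, F⁆ = t ∧ cell F B z ≠ ⊥

theorem live_cj {a : Aut q V} (ha : a ∈ A) {z : Subgroup (Aut q V)} (hz : Live t F B z) :
    Live t F B (cj a z) := by
  haveI := SFTPure.finite_aut (q := q) (V := V)
  have hd := cj_of_mem_normalizer (norm_der h ha)
  have hle : cj a z ≤ ⁅F, F⁆ := by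
    conv_rhs => rw [← hd]
    exact Subgroup.map_mono hz.1
  refine ⟨hle, ?_, ?_⟩
  · conv_lhs => arg 2; rw [← hd]
    rw [cj, Subgroup.relIndex_map_map_of_injective _ _ (MulAut.conj a).injective, hz.2.1]
  · obtain ⟨v, hv, hv0⟩ := (Submodule.ne_bot_iff _).1 hz.2.2
    have hne : piece F (cj a z) ≠ ⊥ := (Submodule.ne_bot_iff _).2
      ⟨a v, piece_conj (norm_der h ha) hv.2, fun h0 => hv0 ((LinearEquiv.map_eq_zero_iff a).1 h0)⟩
    exact SFTPure.fix_inf_ne_bot (ker_pgroup h) hne fun r hr x hx =>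
      piece_comm hle (fun w hw => D_der h r (h.BD hr.1) w hw) hx

theorem radIndex_cj {a : Aut q V} (ha : a ∈ A) {z : Subgroup (Aut q V)} :
    radIndex F (cj a z) = radIndex F z := by
  have hF := cj_of_mem_normalizer (h.A_norm_F ha)
  have e : kerOn F (cj a z) F = cj a (kerOn F z F) := by
    ext g
    rw [mem_cj, mem_kerOn, mem_kerOn]
    have hg : g ∈ F ↔ a⁻¹ * g * a ∈ F := by
      conv_lhs => rw [← hF]
      rw [mem_cj]
    refine and_congr hg (and_congr ⟨fun hn => ?_, fun hn => ?_⟩ ⟨fun hc x hx => ?_, fun hc x hx => ?_⟩)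
    · refine mem_normalizer_of_cj ?_
      have h1 := congrArg (cj a⁻¹) (cj_of_mem_normalizer hn)
      rw [cj_cj, cj_cj, cj_cj, inv_mul_cancel, cj_one] at h1
      exact h1
    · refine mem_normalizer_of_cj ?_
      have h1 := congrArg (cj a) (cj_of_mem_normalizer hn)
      rw [cj_cj] at h1
      rw [cj_cj]
      rwa [show a * (a⁻¹ * g * a) = g * a by group] at h1
    · have h1 := hc (a * x * a⁻¹) ((Subgroup.mem_normalizer_iff.1 (h.A_norm_F ha) x).1 hx)
      rw [mem_cj] at h1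
      convert h1 using 1
      simp only [commutatorElement_def]; group
    · rw [mem_cj]
      have h1 := hc (a⁻¹ * x * a) ((Subgroup.mem_normalizer_iff''.1 (h.A_norm_F ha) x).1 hx)
      convert h1 using 1
      simp only [commutatorElement_def]; group
  rw [radIndex, e, radIndex]
  conv_lhs => arg 2; rw [← hF]
  exact Subgroup.relIndex_map_map_of_injective _ _ (MulAut.conj a).injective

/-- The averaged functional vanishes. -/
theorem sum_conj_eq_zero [Fintype ↥A] {z : Subgroup (Aut q V)} {f : Aut q V → ZMod t}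
    (hc : Pc t F z f) {v : Aut q V} (hv : v ∈ F) {y : Aut q V} (hy : y ∈ F) :
    ∑ a : ↥A, f ⁅v, (a : Aut q V)⁻¹ * y * (a : Aut q V)⁆ = 0 := by
  have hmem : ∀ a : ↥A, ∀ x ∈ F, (a : Aut q V)⁻¹ * x * (a : Aut q V) ∈ F := fun a x hx =>
    (Subgroup.mem_normalizer_iff''.1 (h.A_norm_F a.2) x).1 hx
  let S : Subgroup (Aut q V) :=
    { carrier := {x | x ∈ F ∧ ∑ a : ↥A, f ⁅v, (a : Aut q V)⁻¹ * x * (a : Aut q V)⁆ = 0}
      one_mem' := ⟨one_mem _, Finset.sum_eq_zero fun a _ => by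
        rw [mul_one, inv_mul_cancel, hc.b_one_right]⟩
      mul_mem' := fun {x x'} hx hx' => ⟨mul_mem hx.1 hx'.1, by
        have e : ∀ a : ↥A, f ⁅v, (a : Aut q V)⁻¹ * (x * x') * (a : Aut q V)⁆ =
            f ⁅v, (a : Aut q V)⁻¹ * x * (a : Aut q V)⁆ +
            f ⁅v, (a : Aut q V)⁻¹ * x' * (a : Aut q V)⁆ := fun a => by
          rw [← hc.b_mul_right hv (hmem a x hx.1) (hmem a x' hx'.1)]
          congr 2
          group
        rw [Finset.sum_congr rfl fun a _ => e a, Finset.sum_add_distrib, hx.2, hx'.2, add_zero]⟩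
      inv_mem' := fun {x} hx => ⟨inv_mem hx.1, by
        have e : ∀ a : ↥A, f ⁅v, (a : Aut q V)⁻¹ * x⁻¹ * (a : Aut q V)⁆ =
            -f ⁅v, (a : Aut q V)⁻¹ * x * (a : Aut q V)⁆ := fun a => by
          rw [← hc.b_inv_right hv (hmem a x hx.1)]
          congr 2
        rw [Finset.sum_congr rfl fun a _ => e a, Finset.sum_neg_distrib, hx.2, neg_zero]⟩ }
  refine ((Subgroup.commutator_le (H₃ := S)).2 ?_ (h.le_comm_A hy)).2
  intro x hx b hb
  have hbx : b * x⁻¹ * b⁻¹ ∈ F := (Subgroup.mem_normalizer_iff.1 (h.A_norm_F hb) _).1 (inv_mem hx)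
  have e1 : ⁅x, b⁆ = x * (b * x⁻¹ * b⁻¹) := by simp only [commutatorElement_def]; group
  refine ⟨e1 ▸ mul_mem hx hbx, ?_⟩
  have e : ∀ a : ↥A, f ⁅v, (a : Aut q V)⁻¹ * ⁅x, b⁆ * (a : Aut q V)⁆ =
      f ⁅v, (a : Aut q V)⁻¹ * x * (a : Aut q V)⁆ -
      f ⁅v, ((⟨b, hb⟩⁻¹ * a : ↥A) : Aut q V)⁻¹ * x * ((⟨b, hb⟩⁻¹ * a : ↥A) : Aut q V)⁆ := fun a => by
    rw [sub_eq_add_neg, ← hc.b_inv_right hv (hmem _ x hx),
      ← hc.b_mul_right hv (hmem a x hx) (inv_mem (hmem _ x hx))]
    congr 2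
    rw [Subgroup.coe_mul, Subgroup.coe_inv, commutatorElement_def]
    group
  rw [Finset.sum_congr rfl fun a _ => e a, Finset.sum_sub_distrib, sub_eq_zero]
  exact (Equiv.sum_comp (Equiv.mulLeft (⟨b, hb⟩⁻¹ : ↥A))
    (fun a : ↥A => f ⁅v, (a : Aut q V)⁻¹ * x * (a : Aut q V)⁆)).symm

theorem stab_trivial {z : Subgroup (Aut q V)} {f : Aut q V → ZMod t} (hc : Pc t F z f)
    (hsm : Small t (radIndex F z)) {a : Aut q V} (ha : a ∈ A) (haz : cj a z = z) {v y : Aut q V}
    (hv : v ∈ F) (hy : y ∈ F) : f ⁅v, a⁻¹ * y * a⁆ = f ⁅v, y⁆ := by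
  haveI := SFTPure.finite_aut (q := q) (V := V)
  have := small_trivial (q := q) (p := p) hc h.p_two h.pq (Ne.symm h.tp) (Ne.symm h.tq) h.D_pgroup
    h.eq_comm_D h.D_norm_F (D_der h) h.A_pgroup (inv_mem ha) (h.A_norm_F (inv_mem ha))
    (h.A_norm_D (inv_mem ha)) (inv_mem (mem_normalizer_of_cj haz)) hsm hy v hv
  rwa [inv_inv] at this

variable (hna : ¬ ∀ x ∈ F, ∀ y ∈ F, x * y = y * x) (hne : B ≠ ⊥)
include hna hne

theorem orth_of_not_occ {L : Subgroup (Aut q V)} (hL : IsHyp q B L) {z' : Subgroup (Aut q V)}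
    (hz' : Live t F B z') (hno : ¬ Occ F B z' L) {g x : Aut q V} (hg : g ∈ mov F B L) (hx : x ∈ F) :
    ⁅g, x⁆ ∈ z' := by
  haveI := SFTPure.finite_aut (q := q) (V := V)
  obtain ⟨f', hc'⟩ := exists_pc (cl2 h) hz'.1 hz'.2.1
  have a := act h hna
  have hgF := a.mov_le hL.1 hg
  refine (hc'.ker _ (hc'.comm_mem hgF hx)).1 (a.orth_all hne hL hc' hg (fun y hy => ?_) x hx)
  refine (hc'.ker _ (hc'.comm_mem hgF (a.mov_le hL.1 hy))).2 ?_
  by_contra hh
  exact hno ⟨g, hg, y, hy, hh⟩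

/-- A small form cannot be the only one on the moved part of a hyperplane. -/
theorem exists_second {L : Subgroup (Aut q V)} (hL : IsHyp q B L) {z : Subgroup (Aut q V)}
    (hz : Live t F B z) (hocc : Occ F B z L) (hsm : Small t (radIndex F z)) :
    ∃ a ∈ A, cj a z ≠ z ∧ Occ F B (cj a z) L := by
  classical
  haveI := SFTPure.finite_aut (q := q) (V := V)
  haveI := Fintype.ofFinite ↥A
  by_contra hcon
  push Not at hcon
  obtain ⟨f, hc⟩ := exists_pc (cl2 h) hz.1 hz.2.1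
  have a0 := act h hna
  obtain ⟨v, hv, y, hy, hvy⟩ := hocc
  have hvF := a0.mov_le hL.1 hv
  have hyF := a0.mov_le hL.1 hy
  have hsum := sum_conj_eq_zero h hc hvF hyF
  have hterm : ∀ a : ↥A, f ⁅v, (a : Aut q V)⁻¹ * y * (a : Aut q V)⁆ =
      if cj (a : Aut q V) z = z then f ⁅v, y⁆ else 0 := by
    intro a
    split_ifs with hz'
    · exact stab_trivial h hc hsm a.2 hz' hvF hyF
    · have hay : (a : Aut q V)⁻¹ * y * (a : Aut q V) ∈ F :=
        (Subgroup.mem_normalizer_iff''.1 (h.A_norm_F a.2) y).1 hyF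
      have hav : (a : Aut q V) * v * (a : Aut q V)⁻¹ ∈ F :=
        (Subgroup.mem_normalizer_iff.1 (h.A_norm_F a.2) v).1 hvF
      have h1 := mem_cj.1 (orth_of_not_occ h hna hne hL (live_cj h a.2 hz) (hcon a a.2 hz') hy hav)
      have e : (a : Aut q V)⁻¹ * ⁅y, (a : Aut q V) * v * (a : Aut q V)⁻¹⁆ * (a : Aut q V) =
          ⁅(a : Aut q V)⁻¹ * y * (a : Aut q V), v⁆ := by
        simp only [commutatorElement_def]; group
      rw [e] at h1
      rw [hc.b_swap hay hvF, (hc.ker _ (hc.comm_mem hay hvF)).2 h1, neg_zero]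
  rw [Finset.sum_congr rfl fun a _ => hterm a, ← Finset.sum_filter, Finset.sum_const,
    nsmul_eq_mul, mul_eq_zero] at hsum
  rcases hsum with hs | hs
  · set St : Subgroup ↥A := (Subgroup.normalizer (z : Set (Aut q V))).subgroupOf A with hSt
    have hcard : (Finset.univ.filter fun a : ↥A => cj (a : Aut q V) z = z).card = Nat.card ↥St := by
      rw [Nat.card_eq_fintype_card, ← Fintype.card_coe]
      refine Fintype.card_congr (Equiv.subtypeEquivRight fun a => ?_)
      rw [Finset.mem_filter, hSt, Subgroup.mem_subgroupOf]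
      exact ⟨fun hh => mem_normalizer_of_cj hh.2,
        fun hh => ⟨Finset.mem_univ a, cj_of_mem_normalizer hh⟩⟩
    obtain ⟨k, hk⟩ := IsPGroup.iff_card.1 (h.A_pgroup.to_subgroup St)
    rw [hcard, hk, Nat.cast_pow] at hs
    have h1 := eq_zero_of_pow_eq_zero hs
    rw [ZMod.natCast_eq_zero_iff, Nat.prime_dvd_prime_iff_eq Fact.out hp.out] at h1
    exact h.tp h1
  · exact hvy ((hc.ker _ (hc.comm_mem hvF hyF)).1 hs)

omit hne in
/-- In a form of order four whatever is orthogonal to a hyperbolic pair is radical. -/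
theorem rad_of_orth (ht : t = 2) {z : Subgroup (Aut q V)} {f : Aut q V → ZMod t} (hc : Pc t F z f)
    (hN : radIndex F z = 4) {x y : Aut q V} (hx : x ∈ F) (hy : y ∈ F) (hxy : f ⁅x, y⁆ ≠ 0)
    {g : Aut q V} (hg : g ∈ F) (h1 : f ⁅x, g⁆ = 0) (h2 : f ⁅y, g⁆ = 0) {w : Aut q V} (hw : w ∈ F) :
    f ⁅g, w⁆ = 0 := by
  subst ht
  obtain ⟨H', hle, hmem, hN'⟩ := hc.step (le_refl F) hx hy hxy
  rw [show (kerOn F z F).relIndex F = radIndex F z from rfl, hN] at hN'
  have hiso := (hc.relIndex_rad_eq_one hle).1 (by omega)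
  have hb : f ⁅x, y⁆ = 1 := by
    exact zmod2_eq_one _ hxy
  set w' := w * y ^ (f ⁅x, w⁆).val * x ^ (f ⁅y, w⁆).val with hw'
  have hw'F : w' ∈ F := mul_mem (mul_mem hw (pow_mem hy _)) (pow_mem hx _)
  have hcast : ∀ c : ZMod 2, ((c.val : ℕ) : ZMod 2) = c := fun c => ZMod.natCast_zmod_val c
  have hcalc : ∀ u ∈ F, f ⁅u, w'⁆ = f ⁅u, w⁆ + f ⁅x, w⁆ * f ⁅u, y⁆ + f ⁅y, w⁆ * f ⁅u, x⁆ := by
    intro u hu
    rw [hw', hc.b_mul_right hu (mul_mem hw (pow_mem hy _)) (pow_mem hx _),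
      hc.b_mul_right hu hw (pow_mem hy _), hc.b_pow_right hu hy, hc.b_pow_right hu hx, hcast, hcast]
  have hdouble := zmod2_double
  have hw'mem : w' ∈ H' := (hmem w' hw'F).2 ⟨by
      rw [hcalc x hx, hb, hc.b_self, mul_one, mul_zero, add_zero, hdouble], by
      rw [hcalc y hy, hc.b_self, hc.b_swap hx hy, hb, mul_zero, add_zero, mul_neg, mul_one,
        add_neg_cancel]⟩
  have h3 := hiso g ((hmem g hg).2 ⟨h1, h2⟩) w' hw'mem
  rw [hcalc g hg, hc.b_swap hy hg, hc.b_swap hx hg, h1, h2] at h3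
  simpa using h3

/-- A form of order four on a moved part occurs at least three times. -/
theorem exists_third (ht : t = 2) {L : Subgroup (Aut q V)} (hL : IsHyp q B L)
    {z : Subgroup (Aut q V)} (hz : Live t F B z) (hocc : Occ F B z L) (hN : radIndex F z = 4)
    {g : Aut q V} (hg : g ∈ A) (hgz : cj g z ≠ z) (hgo : Occ F B (cj g z) L)
    (honly : ∀ a ∈ A, cj a z ≠ z → Occ F B (cj a z) L → cj a z = cj g z) : False := by
  classical
  haveI := SFTPure.finite_aut (q := q) (V := V)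
  haveI := Fintype.ofFinite ↥A
  subst ht
  obtain ⟨f, hc⟩ := exists_pc (cl2 h) hz.1 hz.2.1
  have hsm : Small 2 (radIndex F z) := Or.inl ⟨rfl, hN⟩
  have a0 := act h hna
  have hTF := a0.mov_le hL.1
  have hgF : ∀ x ∈ F, g⁻¹ * x * g ∈ F := fun x hx =>
    (Subgroup.mem_normalizer_iff''.1 (h.A_norm_F hg) x).1 hx
  -- the two cosets
  have hT : ∀ v ∈ mov F B L, ∀ y ∈ mov F B L, f ⁅v, g⁻¹ * y * g⁆ = f ⁅v, y⁆ := by
    intro v hv y hy
    have hvF := hTF hv
    have hyF := hTF hy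
    have hsum := sum_conj_eq_zero h hc hvF hyF
    have hterm : ∀ a : ↥A, f ⁅v, (a : Aut q V)⁻¹ * y * (a : Aut q V)⁆ =
        (if cj (a : Aut q V) z = z then f ⁅v, y⁆ else 0) +
        (if cj (a : Aut q V) z = cj g z then f ⁅v, g⁻¹ * y * g⁆ else 0) := by
      intro a
      by_cases h1 : cj (a : Aut q V) z = z
      · rw [if_pos h1, if_neg (fun h2 => hgz (h2.symm.trans h1)), add_zero,
          stab_trivial h hc hsm a.2 h1 hvF hyF]
      rw [if_neg h1, zero_add]
      by_cases h2 : cj (a : Aut q V) z = cj g z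
      · rw [if_pos h2]
        have hfix : cj (g⁻¹ * (a : Aut q V)) z = z := by
          rw [← cj_cj, h2, cj_cj, inv_mul_cancel, cj_one]
        have h3 := stab_trivial h hc hsm (mul_mem (inv_mem hg) a.2) hfix hvF (hgF y hyF)
        rw [← h3]
        congr 2
        group
      · rw [if_neg h2]
        have hno : ¬ Occ F B (cj (a : Aut q V) z) L := fun ho => h2 (honly a a.2 h1 ho)
        have hay : (a : Aut q V)⁻¹ * y * (a : Aut q V) ∈ F :=
          (Subgroup.mem_normalizer_iff''.1 (h.A_norm_F a.2) y).1 hyF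
        have hav : (a : Aut q V) * v * (a : Aut q V)⁻¹ ∈ F :=
          (Subgroup.mem_normalizer_iff.1 (h.A_norm_F a.2) v).1 hvF
        have h4 := mem_cj.1 (orth_of_not_occ h hna hne hL (live_cj h a.2 hz) hno hy hav)
        have e : (a : Aut q V)⁻¹ * ⁅y, (a : Aut q V) * v * (a : Aut q V)⁻¹⁆ * (a : Aut q V) =
            ⁅(a : Aut q V)⁻¹ * y * (a : Aut q V), v⁆ := by
          simp only [commutatorElement_def]; group
        rw [e] at h4
        rw [hc.b_swap hay hvF, (hc.ker _ (hc.comm_mem hay hvF)).2 h4, neg_zero]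
    rw [Finset.sum_congr rfl fun a _ => hterm a, Finset.sum_add_distrib, ← Finset.sum_filter,
      ← Finset.sum_filter, Finset.sum_const, Finset.sum_const] at hsum
    have hcards : (Finset.univ.filter fun a : ↥A => cj (a : Aut q V) z = cj g z).card =
        (Finset.univ.filter fun a : ↥A => cj (a : Aut q V) z = z).card := by
      refine Finset.card_equiv (Equiv.mulLeft (⟨g, hg⟩⁻¹ : ↥A)) fun a => ?_
      simp only [Finset.mem_filter, Finset.mem_univ, true_and, Equiv.coe_mulLeft, Subgroup.coe_mul,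
        Subgroup.coe_inv]
      constructor
      · intro h2; rw [← cj_cj, h2, cj_cj, inv_mul_cancel, cj_one]
      · intro h2
        have := congrArg (cj g) h2
        rwa [cj_cj, mul_inv_cancel_left] at this
    rw [hcards, ← nsmul_add, nsmul_eq_mul, mul_eq_zero] at hsum
    rcases hsum with hs | hs
    · set St : Subgroup ↥A := (Subgroup.normalizer (z : Set (Aut q V))).subgroupOf A with hSt
      have hcard : (Finset.univ.filter fun a : ↥A => cj (a : Aut q V) z = z).card =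
          Nat.card ↥St := by
        rw [Nat.card_eq_fintype_card, ← Fintype.card_coe]
        refine Fintype.card_congr (Equiv.subtypeEquivRight fun a => ?_)
        rw [Finset.mem_filter, hSt, Subgroup.mem_subgroupOf]
        exact ⟨fun hh => mem_normalizer_of_cj hh.2,
          fun hh => ⟨Finset.mem_univ a, cj_of_mem_normalizer hh⟩⟩
      obtain ⟨k, hk⟩ := IsPGroup.iff_card.1 (h.A_pgroup.to_subgroup St)
      rw [hcard, hk, Nat.cast_pow] at hs
      have h1 := eq_zero_of_pow_eq_zero hs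
      rw [ZMod.natCast_eq_zero_iff, Nat.prime_dvd_prime_iff_eq Nat.prime_two hp.out] at h1
      exact absurd h1.symm h.p_two
    · exact zmod2_cancel _ _ hs
  obtain ⟨x1, hx1, y1, hy1, hxy⟩ := hocc
  have hxy1 : f ⁅x1, y1⁆ ≠ 0 := fun h0 =>
    hxy ((hc.ker _ (hc.comm_mem (hTF hx1) (hTF hy1))).1 h0)
  obtain ⟨f', hc'⟩ := exists_pc (cl2 h) (live_cj h hg hz).1 (live_cj h hg hz).2.1
  obtain ⟨x2, hx2, y2, hy2, hxy2⟩ := hgo
  have hxy2' : f' ⁅x2, y2⁆ ≠ 0 := fun h0 =>
    hxy2 ((hc'.ker _ (hc'.comm_mem (hTF hx2) (hTF hy2))).1 h0)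
  -- the functional of `v` is invariant on all of `F`
  have hF1 : ∀ v ∈ mov F B L, ∀ y ∈ F, f ⁅v, g⁻¹ * y * g⁆ = f ⁅v, y⁆ := by
    intro v hv
    have hvF := hTF hv
    let S : Subgroup (Aut q V) :=
      { carrier := {y | y ∈ F ∧ f ⁅v, g⁻¹ * y * g⁆ = f ⁅v, y⁆}
        one_mem' := ⟨one_mem _, by rw [mul_one, inv_mul_cancel]⟩
        mul_mem' := fun {a b} ha hb => ⟨mul_mem ha.1 hb.1, by
          rw [show g⁻¹ * (a * b) * g = (g⁻¹ * a * g) * (g⁻¹ * b * g) by group,
            hc.b_mul_right hvF (hgF a ha.1) (hgF b hb.1), hc.b_mul_right hvF ha.1 hb.1, ha.2, hb.2]⟩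
        inv_mem' := fun {a} ha => ⟨inv_mem ha.1, by
          rw [show g⁻¹ * a⁻¹ * g = (g⁻¹ * a * g)⁻¹ by group,
            hc.b_inv_right hvF (hgF a ha.1), hc.b_inv_right hvF ha.1, ha.2]⟩ }
    suffices hle : F ≤ S from fun y hy => (hle hy).2
    have hO : ∀ y ∈ F, (∀ x ∈ mov F B L, x * y = y * x) → y ∈ S := by
      intro y hy hcom
      refine ⟨hy, ?_⟩
      have hgv : g * v * g⁻¹ ∈ F := (Subgroup.mem_normalizer_iff.1 (h.A_norm_F hg) v).1 hvF
      have h0 : ∀ x ∈ mov F B L, f' ⁅x, y⁆ = 0 := fun x hx => by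
        rw [commutatorElement_eq_one_iff_mul_comm.2 (hcom x hx), hc'.f_one]
      have h1 := rad_of_orth h hna rfl hc' (by rw [radIndex_cj h hg, hN]) (hTF hx2) (hTF hy2)
        hxy2' hy (h0 x2 hx2) (h0 y2 hy2) hgv
      have h2 := mem_cj.1 ((hc'.ker _ (hc'.comm_mem hy hgv)).1 h1)
      rw [show g⁻¹ * ⁅y, g * v * g⁻¹⁆ * g = ⁅g⁻¹ * y * g, v⁆ by
        simp only [commutatorElement_def]; group] at h2
      rw [hc.b_swap (hgF y hy) hvF, (hc.ker _ (hc.comm_mem (hgF y hy) hvF)).2 h2, neg_zero,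
        commutatorElement_eq_one_iff_mul_comm.2 (hcom v hv), hc.f_one]
    refine a0.le_of_hyp hne fun L' hL' y hy => ?_
    by_cases hLL : L' = L
    · subst hLL
      obtain ⟨y', hy', c, hc0, hcb, rfl⟩ := a0.cF_le_mov_sup hL.1 hy
      exact mul_mem (show y' ∈ S from ⟨hTF hy', hT v hv y' hy'⟩)
        (hO c hc0.1 fun x hx => a0.mov_comm hL hc0.1 (Or.inl hcb) hx)
    · exact hO y hy.1 fun x hx => a0.mov_comm hL hy.1 (Or.inr ⟨L', hL', hLL, hy⟩) hx
  have hF2 : ∀ v ∈ F, ∀ y ∈ F, f ⁅v, g⁻¹ * y * g⁆ = f ⁅v, y⁆ := by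
    intro v hv y hy
    have hd : y⁻¹ * (g⁻¹ * y * g) ∈ F := mul_mem (inv_mem hy) (hgF y hy)
    have horth : ∀ x ∈ mov F B L, f ⁅x, y⁻¹ * (g⁻¹ * y * g)⁆ = 0 := fun x hx => by
      rw [hc.b_mul_right (hTF hx) (inv_mem hy) (hgF y hy), hc.b_inv_right (hTF hx) hy,
        hF1 x hx y hy, neg_add_cancel]
    have h1 := rad_of_orth h hna rfl hc hN (hTF hx1) (hTF hy1) hxy1 hd (horth x1 hx1)
      (horth y1 hy1) hv
    rw [hc.b_swap hv hd, neg_eq_zero, hc.b_mul_right hv (inv_mem hy) (hgF y hy),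
      hc.b_inv_right hv hy] at h1
    linear_combination h1
  -- so the square of `g` gives a third occurrence
  have hg2 : g * g ∈ A := mul_mem hg hg
  have hne1 : cj (g * g) z ≠ z := by
    intro h2
    obtain ⟨k, hk⟩ := h.A_pgroup ⟨g, hg⟩
    have hk' : g ^ p ^ k = 1 := congrArg Subtype.val hk
    obtain ⟨m, hm⟩ := (hp.out.odd_of_ne_two h.p_two).pow (n := k)
    have hn2 := mem_normalizer_of_cj h2
    have hpow := pow_mem hn2 (m + 1)
    rw [← pow_two, ← pow_mul, show 2 * (m + 1) = p ^ k + 1 by omega, pow_succ, hk', one_mul] at hpow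
    exact hgz (cj_of_mem_normalizer hpow)
  have hne2 : cj (g * g) z ≠ cj g z := by
    intro h2
    have := congrArg (cj g⁻¹) h2
    rw [cj_cj, cj_cj, inv_mul_cancel, cj_one, inv_mul_cancel_left] at this
    exact hgz this
  refine hne2 (honly _ hg2 hne1 ⟨x1, hx1, y1, hy1, fun hh => hxy1 ?_⟩)
  have hX : g⁻¹ * (g⁻¹ * x1 * g) * g ∈ F := hgF _ (hgF _ (hTF hx1))
  have hY : g⁻¹ * (g⁻¹ * y1 * g) * g ∈ F := hgF _ (hgF _ (hTF hy1))
  have h2 := mem_cj.1 hh
  rw [show (g * g)⁻¹ * ⁅x1, y1⁆ * (g * g) =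
      ⁅g⁻¹ * (g⁻¹ * x1 * g) * g, g⁻¹ * (g⁻¹ * y1 * g) * g⁆ by
    simp [commutatorElement_def, mul_assoc]] at h2
  have h3 := (hc.ker _ (hc.comm_mem hX hY)).2 h2
  rw [hF2 _ hX _ (hgF _ (hTF hy1)), hF2 _ hX _ (hTF hy1), hc.b_swap (hTF hy1) hX,
    hF2 _ (hTF hy1) _ (hgF _ (hTF hx1)), hF2 _ (hTF hy1) _ (hTF hx1),
    hc.b_swap (hTF hx1) (hTF hy1), neg_neg] at h3
  exact h3

omit hne in
/-- The bound. -/
theorem core_bound : CoreBound q F B := by
  classical
  haveI := SFTPure.finite_aut (q := q) (V := V)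
  haveI := Fintype.ofFinite (Subgroup (Aut q V))
  have a0 := act h hna
  have hne : B ≠ ⊥ := fun hb => h.moved (hb ▸ bot_le)
  obtain ⟨I, hIne, hI, hidx⟩ := a0.exists_family h.moved
  set Z : Finset (Subgroup (Aut q V)) := Finset.univ.filter fun z => Live t F B z with hZ
  have hZmem : ∀ z, z ∈ Z ↔ Live t F B z := fun z => by simp [hZ]
  set occ : Subgroup (Aut q V) → Finset (Subgroup (Aut q V)) := fun L =>
    Z.filter fun z => Occ F B z L with hocc
  set idx : Subgroup (Aut q V) → Finset (Subgroup (Aut q V)) := fun z =>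
    I.filter fun L => Occ F B z L with hidxdef
  -- the pieces
  have hpiece : ∀ z ∈ Z, ∑ L ∈ idx z, wt t (radIndex F z) +
      (if (idx z).Nonempty then surplus t (radIndex F z) else 0) ≤
        2 * movedDim B (cell F B z) := by
    intro z hz
    rw [Finset.sum_const, smul_eq_mul]
    by_cases hne' : (idx z).Nonempty
    · rw [if_pos hne']
      obtain ⟨hz1, hz2, hz3⟩ := (hZmem z).1 hz
      obtain ⟨f, hc⟩ := exists_pc (cl2 h) hz1 hz2
      have hb := moved_cell h hna hc hz3 (idx z) (fun L hL => by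
        obtain ⟨hL', ho⟩ := Finset.mem_filter.1 hL
        obtain ⟨h1, -, b, hb, hbL, hbJ⟩ := hI L hL'
        exact ⟨h1, ho, b, hb, hbL, fun L2 hL2 => hbJ L2 (Finset.mem_filter.1 hL2).1⟩) hne'
      by_cases h1 : t = 2 ∧ radIndex F z = 4
      · rw [if_pos h1] at hb
        rw [wt, if_pos h1, surplus, if_pos (show Small t _ from Or.inl h1)]
        omega
      rw [if_neg h1] at hb
      by_cases h2 : t = 2 ∧ radIndex F z = 16
      · rw [if_pos h2] at hb
        rw [wt, if_neg h1, if_pos h2, surplus, if_pos (show Small t _ from Or.inr (Or.inr h2))]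
        omega
      rw [if_neg h2] at hb
      rw [wt, if_neg h1, if_neg h2, surplus]
      by_cases h3 : t = 3 ∧ radIndex F z = 9
      · rw [if_pos h3] at hb
        rw [if_pos (show Small t _ from Or.inr (Or.inl h3))]
        omega
      · rw [if_neg h3] at hb
        rw [if_neg (show ¬ Small t _ from fun hs => hs.elim h1 fun hs => hs.elim h3 h2)]
        omega
    · rw [if_neg hne', Finset.not_nonempty_iff_eq_empty.1 hne', Finset.card_empty]
      omega
  -- the hyperplanes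
  have hhyp : ∀ L ∈ I, 4 < ∑ z ∈ occ L, wt t (radIndex F z) +
      ((Finset.univ.filter fun z => z ∈ occ L ∧ ¬ Small t (radIndex F z)).card) ∧
      4 ≤ ∑ z ∈ occ L, wt t (radIndex F z) := by
    intro L hL
    obtain ⟨hLh, hLT, -⟩ := hI L hL
    obtain ⟨x, hx, y, hy, hxy⟩ := a0.mov_not_comm hne hLh hLT
    have hd : ⁅x, y⁆ ∈ ⁅F, F⁆ :=
      Subgroup.commutator_mem_commutator (a0.mov_le hLh.1 hx) (a0.mov_le hLh.1 hy)
    obtain ⟨z0, hz1, hz2, hz3, hz4⟩ := exists_live h.tq (cl2 h) (C := ker' F B) (ker_pgroup h)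
      (fun w hw c hc => (D_der h c (h.BD hc.1) w hw).symm) hd hxy
    have hz0 : z0 ∈ occ L :=
      Finset.mem_filter.2 ⟨(hZmem z0).2 ⟨hz1, hz2, hz4⟩, x, hx, y, hy, hz3⟩
    by_cases hgood : ∃ z ∈ occ L, ¬ Small t (radIndex F z)
    · obtain ⟨z, hz, hzs⟩ := hgood
      have h4 : wt t (radIndex F z) = 4 := by
        unfold wt
        rw [if_neg fun hh => hzs (Or.inl hh), if_neg fun hh => hzs (Or.inr (Or.inr hh))]
      have h1 := Finset.single_le_sum (f := fun z => wt t (radIndex F z)) (fun _ _ => Nat.zero_le _) hz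
      have h2 : 0 < (Finset.univ.filter fun z => z ∈ occ L ∧ ¬ Small t (radIndex F z)).card :=
        Finset.card_pos.2 ⟨z, Finset.mem_filter.2 ⟨Finset.mem_univ z, hz, hzs⟩⟩
      omega
    push Not at hgood
    suffices h6 : 5 ≤ ∑ z ∈ occ L, wt t (radIndex F z) by omega
    obtain ⟨hz0Z, hz0o⟩ := Finset.mem_filter.1 hz0
    have hz0L := (hZmem z0).1 hz0Z
    obtain ⟨g, hg, hgne, hgo⟩ := exists_second h hna hne hLh hz0L hz0o (hgood z0 hz0)
    have hgm : cj g z0 ∈ occ L :=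
      Finset.mem_filter.2 ⟨(hZmem _).2 (live_cj h hg hz0L), hgo⟩
    have hwge : ∀ z ∈ occ L, 2 ≤ wt t (radIndex F z) := fun z _ => by
      unfold wt; split_ifs <;> omega
    by_cases h24 : t = 2 ∧ radIndex F z0 = 4
    · obtain ⟨b, hb, hbne, hbo, hbg⟩ : ∃ a ∈ A, cj a z0 ≠ z0 ∧ Occ F B (cj a z0) L ∧
          cj a z0 ≠ cj g z0 := by
        by_contra hcon
        push Not at hcon
        exact exists_third h hna hne h24.1 hLh hz0L hz0o h24.2 hg hgne hgo hcon
      have hbm : cj b z0 ∈ occ L :=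
        Finset.mem_filter.2 ⟨(hZmem _).2 (live_cj h hb hz0L), hbo⟩
      have hsub : ({z0, cj g z0, cj b z0} : Finset (Subgroup (Aut q V))) ⊆ occ L := by
        simp [Finset.insert_subset_iff, hz0, hgm, hbm]
      have h1 := Finset.sum_le_sum_of_subset (f := fun z => wt t (radIndex F z)) hsub
      rw [Finset.sum_insert (by simp [hgne.symm, hbne.symm]),
        Finset.sum_insert (by simp [hbg.symm]), Finset.sum_singleton] at h1
      have := hwge _ hz0
      have := hwge _ hgm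
      have := hwge _ hbm
      omega
    · have h3 : 3 ≤ wt t (radIndex F z0) := by
        unfold wt; rw [if_neg h24]; split_ifs <;> omega
      have hsub : ({z0, cj g z0} : Finset (Subgroup (Aut q V))) ⊆ occ L := by
        simp [Finset.insert_subset_iff, hz0, hgm]
      have h1 := Finset.sum_le_sum_of_subset (f := fun z => wt t (radIndex F z)) hsub
      rw [Finset.sum_insert (by simp [hgne.symm]), Finset.sum_singleton, radIndex_cj h hg] at h1
      omega
  -- counting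
  have hswap : ∑ z ∈ Z, ∑ L ∈ idx z, wt t (radIndex F z) =
      ∑ L ∈ I, ∑ z ∈ occ L, wt t (radIndex F z) := by
    simp only [hidxdef, hocc, Finset.sum_filter]
    exact Finset.sum_comm
  have htotal := Finset.sum_le_sum hpiece
  rw [Finset.sum_add_distrib, hswap, ← Finset.mul_sum] at htotal
  have hlt : 4 * I.card < 2 * ∑ z ∈ Z, movedDim B (cell F B z) := by
    obtain ⟨L0, hL0⟩ := hIne
    have hsurp : (Finset.univ.filter fun z => z ∈ occ L0 ∧ ¬ Small t (radIndex F z)).card ≤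
        ∑ z ∈ Z, if (idx z).Nonempty then surplus t (radIndex F z) else 0 := by
      rw [Finset.card_eq_sum_ones]
      refine le_trans (Finset.sum_le_sum fun z hz => ?_)
        (Finset.sum_le_sum_of_subset fun z hz => ?_)
      · obtain ⟨-, hzo, hzs⟩ := Finset.mem_filter.1 hz
        rw [if_pos ⟨L0, Finset.mem_filter.2 ⟨hL0, (Finset.mem_filter.1 hzo).2⟩⟩]
        unfold surplus; rw [if_neg hzs]
      · exact (Finset.mem_filter.1 (Finset.mem_filter.1 hz).2.1).1
    have h1 := Finset.sum_erase_add _ (fun L => ∑ z ∈ occ L, wt t (radIndex F z)) hL0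
    have h2 := Finset.card_nsmul_le_sum (I.erase L0) (fun L => ∑ z ∈ occ L, wt t (radIndex F z)) 4
      fun L hL => (hhyp L (Finset.mem_of_mem_erase hL)).2
    rw [Finset.card_erase_of_mem hL0, smul_eq_mul] at h2
    have h3 := (hhyp L0 hL0).1
    have hpos : 0 < I.card := Finset.card_pos.2 ⟨L0, hL0⟩
    omega
  have hsum := sum_moved_le h.tq (cl2 h) (B := B) (C := ker' F B) inf_le_left
    (fun b hb w hw => D_der h b (h.BD hb) w hw) h.B_comm Z
    (fun z hz => ⟨((hZmem z).1 hz).1, ((hZmem z).1 hz).2.1⟩)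
  change _ ^ 2 * Nat.card ↥(fix B) < Nat.card ↥(fix (ker' F B))
  rw [SFTPure.card_submodule, SFTPure.card_submodule]
  change ∑ z ∈ Z, movedDim B (cell F B z) + _ ≤ _ at hsum
  calc (ker' F B).relIndex B ^ 2 * q ^ Module.finrank (ZMod q) ↥(fix B)
      ≤ (q ^ I.card) ^ 2 * q ^ Module.finrank (ZMod q) ↥(fix B) :=
        Nat.mul_le_mul_right _ (Nat.pow_le_pow_left hidx 2)
    _ = q ^ (I.card * 2 + Module.finrank (ZMod q) ↥(fix B)) := by rw [← pow_mul, ← pow_add]
    _ < q ^ Module.finrank (ZMod q) ↥(fix (ker' F B)) :=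
        Nat.pow_lt_pow_right hq.out.one_lt (by omega)

end Cfsg.Agent.SFTPureNonab

namespace Cfsg.Agent.SFTPure

universe u

/-- The bound of the minimal configuration when `F` is not abelian. -/
theorem coreNonabelian : CoreNonabelian.{u} := by
  intro q p t _ _ V _ _ _ F A D B h hna
  haveI := Fact.mk h.t_prime
  exact SFTPureNonab.core_bound h hna

end Cfsg.Agent.SFTPure
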