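import Mathlib
import Cfsg.Agent.Lib.SFTPureAbelian
import Cfsg.Agent.Lib.SFTPureNonab
import Cfsg.Agent.Lib.SFTPureBridge
import Cfsg.Agent.Lib.SFTGroup
import Cfsg.Agent.Lib.SFTSigma
import Cfsg.Agent.Lib.ComponentsFitting

/-!
# Pure uniqueness: the strict bound for an elementary abelian group moving a nilpotent group

The general bound follows from the two minimal configurations by taking a minimal invariant
subgroup that is moved, and by induction on the moving group.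
-/

set_option autoImplicit false
set_option linter.style.haveILetI false
set_option linter.unusedSectionVars false

namespace Cfsg.Agent.SFTPure

open Cfsg.Agent.SignalizerCoprime Cfsg.Agent.SFTGroup Cfsg.Agent.SFTSigma
open scoped commutatorElement

universe u

variable {q p : ℕ} [hq : Fact q.Prime] [Fact p.Prime] {V : Type u} [AddCommGroup V]
  [Module (ZMod q) V] [Finite V] {F A D B : Subgroup (Aut q V)}

theorem coprime_pGroups {X : Type u} [Group X] [Finite X] {s t : ℕ} [Fact s.Prime] [Fact t.Prime]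
    (hst : s ≠ t) {H K : Subgroup X} (hH : IsPGroup s H) (hK : IsPGroup t K) :
    (Nat.card H).Coprime (Nat.card K) := by
  obtain ⟨i, hi⟩ := IsPGroup.iff_card.1 hH
  obtain ⟨j, hj⟩ := IsPGroup.iff_card.1 hK
  rw [hi, hj]
  exact Nat.Coprime.pow i j ((Nat.coprime_primes Fact.out Fact.out).2 hst)

/-- A moved nilpotent group contains a minimal configuration. -/
theorem exists_core (hp2 : p ≠ 2) (hpq : p ≠ q) (h : Ctx q p F ⊥ A D) (hBD : B ≤ D)
    (hBc : ∀ a ∈ B, ∀ b ∈ B, a * b = b * a) (hBq : ∀ b ∈ B, b ^ q = 1)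
    (hmov : ¬ B ≤ Subgroup.centralizer (F : Set (Aut q V))) :
    ∃ (t : ℕ) (F₁ D₀ : Subgroup (Aut q V)), F₁ ≤ F ∧ Core q p t F₁ A D₀ B := by
  classical
  haveI : Finite (Aut q V) := finite_aut
  have hFq : ¬ q ∣ Nat.card F := by
    have := h.not_dvd
    rwa [Subgroup.relIndex_bot_left] at this
  haveI : Group.IsNilpotent ↥F := by
    obtain ⟨n, hn⟩ := h.nil
    exact (Subgroup.isNilpotent_iff_lowerCentralSeries F).2 ⟨n, by
      rw [← lcs_eq]; exact le_bot_iff.1 hn⟩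
  -- some component is moved
  obtain ⟨t, ht, htmov⟩ : ∃ t : ℕ, t.Prime ∧
      ¬ B ≤ Subgroup.centralizer (Cfsg.pCoreOf t F : Set (Aut q V)) := by
    by_contra hall
    push Not at hall
    refine hmov (Subgroup.le_centralizer_iff.1 ?_)
    have hle := fitting_le_of_oq_le (M := F) (S := Subgroup.centralizer (B : Set (Aut q V)))
      fun t ht => Subgroup.le_centralizer_iff.1 (hall t ht)
    rwa [ComponentsFitting.fittingSubgroup_eq_top_iff.2 ‹_›, ← MonoidHom.range_eq_map,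
      Subgroup.range_subtype] at hle
  haveI := Fact.mk ht
  have htF : t ∣ Nat.card F := by
    obtain ⟨k, hk⟩ := IsPGroup.iff_card.1 (oq_isPGroup t F)
    cases k with
    | zero =>
      refine absurd ?_ htmov
      rw [Subgroup.card_eq_one.1 (by simpa using hk : Nat.card (Cfsg.pCoreOf t F) = 1)]
      intro b _ x hx
      rw [Subgroup.mem_bot.1 hx, one_mul, mul_one]
    | succ k => exact (hk ▸ dvd_pow_self t k.succ_ne_zero).trans (Subgroup.card_dvd_of_le (oq_le t F))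
  have htq : t ≠ q := fun hh => hFq (hh ▸ htF)
  have htp : t ≠ p := fun hh => h.p_not_dvd (hh ▸ htF)
  -- the moving group
  set D₀ := Subgroup.closure {x : Aut q V | ∃ a ∈ A, ∃ b ∈ B, a * b * a⁻¹ = x} with hD₀
  have hBD₀ : B ≤ D₀ := fun b hb => Subgroup.subset_closure ⟨1, one_mem _, b, hb, by group⟩
  have hD₀D : D₀ ≤ D := (Subgroup.closure_le _).2 fun x ⟨a, ha, b, hb, hx⟩ =>
    hx ▸ mem_normalizer_conj (h.A_norm_D ha) (hBD hb)
  have hAD₀ : A ≤ Subgroup.normalizer (D₀ : Set (Aut q V)) := by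
    refine le_normalizer_of_forall fun g hg x hx => ?_
    have hle : D₀ ≤ D₀.comap (MulAut.conj g).toMonoidHom := by
      refine (Subgroup.closure_le _).2 fun y ⟨a, ha, b, hb, hy⟩ =>
        Subgroup.subset_closure ⟨g * a, mul_mem hg ha, b, hb, ?_⟩
      rw [← hy]; simp [mul_assoc]
    exact hle hx
  have hD₀q : IsPGroup q D₀ := h.D_pgroup.to_le hD₀D
  have hcent : ∀ X : Subgroup (Aut q V), A ≤ Subgroup.normalizer (X : Set (Aut q V)) →
      B ≤ Subgroup.centralizer (X : Set (Aut q V)) →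
      D₀ ≤ Subgroup.centralizer (X : Set (Aut q V)) := fun X hAX hBX =>
    (Subgroup.closure_le _).2 fun x ⟨a, ha, b, hb, hx⟩ =>
      hx ▸ mem_normalizer_conj (SignalizerCoprime.le_normalizer_centralizer hAX ha) (hBX hb)
  -- a minimal moved subgroup
  let 𝒳 : Set (Subgroup (Aut q V)) := {X | X ≤ F ∧ IsPGroup t X ∧
    A ≤ Subgroup.normalizer (X : Set (Aut q V)) ∧ D₀ ≤ Subgroup.normalizer (X : Set (Aut q V)) ∧
    ¬ B ≤ Subgroup.centralizer (X : Set (Aut q V))}
  obtain ⟨F₁, hF₁⟩ := (Set.toFinite 𝒳).exists_minimal ⟨Cfsg.pCoreOf t F,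
    oq_le t F, oq_isPGroup t F, h.A_norm_F.trans (normalizer_le_normalizer_oq t F),
    (hD₀D.trans h.D_norm_F).trans (normalizer_le_normalizer_oq t F), htmov⟩
  obtain ⟨hF₁F, hF₁t, hAF₁, hDF₁, hF₁mov⟩ := hF₁.prop
  have hprop : ∀ Y : Subgroup (Aut q V), Y ≤ F₁ → A ≤ Subgroup.normalizer (Y : Set (Aut q V)) →
      D₀ ≤ Subgroup.normalizer (Y : Set (Aut q V)) → ¬ F₁ ≤ Y →
      D₀ ≤ Subgroup.centralizer (Y : Set (Aut q V)) := by
    intro Y hY hAY hDY hne
    refine hcent Y hAY ?_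
    by_contra hYmov
    exact hne (hF₁.le_of_le ⟨hY.trans hF₁F, hF₁t.to_le hY, hAY, hDY, hYmov⟩ hY)
  have hcop : (Nat.card D₀).Coprime (Nat.card F₁) := coprime_pGroups (Ne.symm htq) hD₀q hF₁t
  have hsol : Group.IsSolvable ↥D₀ ∨ Group.IsSolvable ↥F₁ :=
    Or.inl (CoprimeAction.isSolvable_of_isPGroup hD₀q)
  have hFD : ⁅F₁, D₀⁆ = F₁ := by
    refine le_antisymm (CoprimeAction.commutator_le_self_of_le_normalizer hDF₁) ?_
    by_contra hne
    have hc := hprop _ (CoprimeAction.commutator_le_self_of_le_normalizer hDF₁)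
      (SignalizerCoprime.le_normalizer_commutator hAF₁ hAD₀)
      (Subgroup.normalizer_commutator_ge_right F₁ D₀) hne
    exact hF₁mov (hBD₀.trans (CoprimeAction.le_centralizer_of_commutator_commutator_eq_bot hDF₁
      hcop hsol (Subgroup.commutator_eq_bot_iff_le_centralizer.2 (Subgroup.le_centralizer_iff.1 hc))))
  haveI : Nontrivial ↥F₁ := (Subgroup.nontrivial_iff_ne_bot F₁).2 fun hb => hF₁mov fun b _ x hx => by
    rw [hb] at hx
    rw [Subgroup.mem_bot.1 hx, one_mul, mul_one]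
  -- the Frattini subgroup
  set Φ := (frattini ↥F₁).map F₁.subtype with hΦ
  have hΦle : Φ ≤ F₁ := Subgroup.map_subtype_le _
  have hNΦ : Subgroup.normalizer (F₁ : Set (Aut q V)) ≤ Subgroup.normalizer (Φ : Set (Aut q V)) :=
    le_normalizer_of_forall fun g hg x hx => conj_mem_map_of_characteristic hg hx
  have hΦne : ¬ F₁ ≤ Φ := fun hle => by
    have htop : frattini ↥F₁ = ⊤ := by
      rw [eq_top_iff]
      intro x _
      obtain ⟨y, hy, hyx⟩ := hle x.2
      rwa [show y = x from Subtype.ext hyx] at hy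
    have hb : (⊥ : Subgroup ↥F₁) = ⊤ := frattini_nongenerating (by rw [htop, sup_top_eq])
    exact bot_ne_top hb
  have hΦD : D₀ ≤ Subgroup.centralizer (Φ : Set (Aut q V)) :=
    hprop Φ hΦle (hAF₁.trans hNΦ) (hDF₁.trans hNΦ) hΦne
  have hΦF : F₁ ≤ Subgroup.centralizer (Φ : Set (Aut q V)) := by
    rw [← Subgroup.commutator_eq_bot_iff_le_centralizer]
    have h2 : ⁅⁅Φ, F₁⁆, D₀⁆ = ⊥ := by
      rw [Subgroup.commutator_eq_bot_iff_le_centralizer]
      exact (CoprimeAction.commutator_le_self_of_le_normalizer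
        (Subgroup.le_normalizer.trans hNΦ)).trans (Subgroup.le_centralizer_iff.1 hΦD)
    have h1 : ⁅⁅D₀, Φ⁆, F₁⁆ = ⊥ := by
      rw [Subgroup.commutator_eq_bot_iff_le_centralizer.2 hΦD, Subgroup.commutator_bot_left]
    have := Subgroup.commutator_commutator_eq_bot_of_rotate h1 h2
    rwa [hFD] at this
  obtain ⟨hqc, hqp⟩ := PGroupsBasic.quotient_frattini_elementary hF₁t
  have hpowΦ : ∀ x ∈ F₁, x ^ t ∈ Φ := fun x hx =>
    ⟨(⟨x, hx⟩ : ↥F₁) ^ t, (QuotientGroup.eq_one_iff _).1 (by rw [QuotientGroup.mk_pow, hqp]), by simp⟩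
  have hcomΦ : ∀ x ∈ F₁, ∀ y ∈ F₁, ⁅x, y⁆ ∈ Φ := fun x hx y hy =>
    ⟨⁅(⟨x, hx⟩ : ↥F₁), ⟨y, hy⟩⁆, (QuotientGroup.eq_one_iff _).1 (by
      rw [← QuotientGroup.mk'_apply, map_commutatorElement, commutatorElement_eq_one_iff_mul_comm]
      exact hqc _ _), by simp [commutatorElement_def]⟩
  -- the fixed points of `A` lie in the Frattini subgroup
  have hC : F₁ ⊓ Subgroup.centralizer (A : Set (Aut q V)) ≤ Φ := by
    set L := Subgroup.normalizer (Φ : Set (Aut q V)) with hL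
    have hF₁L : F₁ ≤ L := Subgroup.le_normalizer.trans hNΦ
    have hD₀L : D₀ ≤ L := hDF₁.trans hNΦ
    haveI : IsMulCommutative ↥(img Φ F₁) := ⟨⟨fun a b => Subtype.ext (by
      obtain ⟨x, hx, hxa⟩ := mem_img.1 a.2
      obtain ⟨y, hy, hyb⟩ := mem_img.1 b.2
      rw [Subgroup.coe_mul, Subgroup.coe_mul]
      rw [← hxa, ← hyb, ← commutatorElement_eq_one_iff_mul_comm, ← map_commutatorElement]
      exact SFTSigma.proj_eq_one.2 (by simpa [commutatorElement_def] using hcomΦ _ hx _ hy))⟩⟩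
    have hinf := CoprimeAction.inf_centralizer_inf_commutator_eq_bot (V := img Φ F₁)
      (A := img Φ D₀) (le_normalizer_of_forall (img_le_normalizer hDF₁))
      (coprime_pGroups (Ne.symm htq) ((hD₀q.comap_of_injective _ L.subtype_injective).map _)
        ((hF₁t.comap_of_injective _ L.subtype_injective).map _))
    rintro x ⟨hx, hxA⟩
    have hS : ⁅F₁, D₀⁆ ≤ ((⁅img Φ F₁, img Φ D₀⁆).comap (SFTSigma.proj Φ)).map L.subtype := by
      rw [Subgroup.commutator_le]
      intro f hf d hd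
      refine ⟨⁅(⟨f, hF₁L hf⟩ : ↥L), ⟨d, hD₀L hd⟩⁆, ?_, by simp [commutatorElement_def]⟩
      rw [SetLike.mem_coe, Subgroup.mem_comap, map_commutatorElement]
      exact Subgroup.commutator_mem_commutator (mem_img.2 ⟨_, hf, rfl⟩) (mem_img.2 ⟨_, hd, rfl⟩)
    obtain ⟨z, hz, hzx⟩ := hS (hFD.ge hx)
    have hzF : (z : Aut q V) ∈ F₁ := by rw [show (z : Aut q V) = x from hzx]; exact hx
    have hmem : SFTSigma.proj Φ z ∈ ((img Φ F₁) ⊓ Subgroup.centralizer (img Φ D₀ : Set _)) ⊓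
        ⁅img Φ F₁, img Φ D₀⁆ := by
      refine ⟨⟨mem_img.2 ⟨z, hzF, rfl⟩, fun w hw => ?_⟩, hz⟩
      obtain ⟨d, hd, rfl⟩ := mem_img.1 hw
      have h1 : ⁅x, (d : Aut q V)⁆ = 1 := Subgroup.mem_bot.1 (h.fixed x (hF₁F hx) hxA d (hD₀D hd))
      rw [← map_mul, ← map_mul]
      refine congrArg _ (Subtype.ext ?_)
      rw [Subgroup.coe_mul, Subgroup.coe_mul, show (z : Aut q V) = x from hzx]
      exact (commutatorElement_eq_one_iff_mul_comm.1 h1).symm
    rw [hinf, Subgroup.mem_bot] at hmem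
    have := SFTSigma.proj_eq_one.1 hmem
    rwa [show (z : Aut q V) = x from hzx] at this
  have hFA : F₁ ≤ ⁅F₁, A⁆ := by
    have hG1 : ⁅F₁, A⁆ ≤ F₁ := CoprimeAction.commutator_le_self_of_le_normalizer hAF₁
    have hsum := CoprimeAction.commutator_sup_centralizer_eq hAF₁
      (coprime_pGroups (Ne.symm htp) h.A_pgroup hF₁t)
      (Or.inl (CoprimeAction.isSolvable_of_isPGroup h.A_pgroup))
    have htop : (⁅F₁, A⁆).subgroupOf F₁ ⊔ frattini ↥F₁ = ⊤ := by
      refine Subgroup.map_injective F₁.subtype_injective ?_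
      rw [Subgroup.map_sup, Subgroup.map_subgroupOf_eq_of_le hG1, ← MonoidHom.range_eq_map,
        Subgroup.range_subtype]
      exact le_antisymm (sup_le hG1 hΦle) (hsum.ge.trans (sup_le_sup_left hC _))
    exact Subgroup.subgroupOf_eq_top.1 (frattini_nongenerating htop)
  refine ⟨t, F₁, D₀, hF₁F, ⟨ht, htq, htp, hp2, hpq, hF₁t, h.A_pgroup, hD₀q, hAF₁, hAD₀, hDF₁,
    hBD₀, hBc, hBq, hFD.ge, hFA, fun x hx y hy => hΦF hy _ (hpowΦ x hx),
    fun x hx d hd => hΦD hd _ (hpowΦ x hx), fun x hx y hy z hz => hΦF hz _ (hcomΦ x hx y hy),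
    fun x hx y hy d hd => hΦD hd _ (hcomΦ x hx y hy), ?_, ?_, ?_, hF₁mov⟩⟩
  · intro x hx y hy
    have hc : ⁅(⟨x, hx⟩ : ↥F₁), ⟨y, hy⟩⁆ ∈ Subgroup.center ↥F₁ :=
      Subgroup.mem_center_iff.2 fun g => Subtype.ext
        (by simpa [commutatorElement_def] using (hΦF g.2 _ (hcomΦ x hx y hy)).symm)
    have hpc : ⁅(⟨x, hx⟩ : ↥F₁) ^ t, (⟨y, hy⟩ : ↥F₁)⁆ = 1 := by
      rw [commutatorElement_eq_one_iff_mul_comm]
      exact Subtype.ext (by simpa using hΦF hy _ (hpowΦ x hx))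
    rw [PGroupsBasic.commutatorElement_pow_left hc] at hpc
    simpa [commutatorElement_def] using congrArg Subtype.val hpc
  · intro hab x hx
    haveI : IsMulCommutative ↥F₁ := ⟨⟨fun a b => Subtype.ext (hab a a.2 b b.2)⟩⟩
    have hmem : x ^ t ∈ (F₁ ⊓ Subgroup.centralizer (D₀ : Set (Aut q V))) ⊓ ⁅F₁, D₀⁆ :=
      ⟨⟨pow_mem hx t, fun d hd => ((hΦD hd) _ (hpowΦ x hx)).symm⟩, hFD.ge (pow_mem hx t)⟩
    rwa [CoprimeAction.inf_centralizer_inf_commutator_eq_bot hDF₁ hcop, Subgroup.mem_bot] at hmem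
  · intro hnab x hx hxc b hb
    have hN : Subgroup.normalizer (F₁ : Set (Aut q V)) ≤ Subgroup.normalizer
        ((F₁ ⊓ Subgroup.centralizer (F₁ : Set (Aut q V)) : Subgroup (Aut q V)) : Set (Aut q V)) :=
      SignalizerCoprime.le_normalizer_inf le_rfl (SignalizerCoprime.le_normalizer_centralizer le_rfl)
    refine hprop _ inf_le_left (hAF₁.trans hN) (hDF₁.trans hN) (fun hle => hnab fun a ha c hc =>
      ((hle hc).2 a ha)) (hBD₀ hb) x ⟨hx, fun y hy => (hxc y hy).symm⟩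

/-- An elementary abelian group moving a nilpotent group of automorphisms has few fixed points. -/
theorem kplus_bot (hp2 : p ≠ 2) (hpq : p ≠ q) (h : Ctx q p F ⊥ A D) (hBD : B ≤ D)
    (hBc : ∀ a ∈ B, ∀ b ∈ B, a * b = b * a) (hBq : ∀ b ∈ B, b ^ q = 1)
    (hmov : ¬ B ≤ Subgroup.centralizer (F : Set (Aut q V))) :
    (B ⊓ Subgroup.centralizer (F : Set (Aut q V))).relIndex B ^ 2 * Nat.card ↥(fix B) <
      Nat.card V := by
  haveI : Finite (Aut q V) := finite_aut
  suffices key : ∀ n, ∀ B : Subgroup (Aut q V), Nat.card B = n → B ≤ D →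
      (∀ a ∈ B, ∀ b ∈ B, a * b = b * a) → (∀ b ∈ B, b ^ q = 1) →
      ¬ B ≤ Subgroup.centralizer (F : Set (Aut q V)) →
      (B ⊓ Subgroup.centralizer (F : Set (Aut q V))).relIndex B ^ 2 * Nat.card ↥(fix B) <
        Nat.card V from key _ B rfl hBD hBc hBq hmov
  intro n
  induction n using Nat.strong_induction_on with
  | _ n ih =>
    intro B hn hBD hBc hBq hmov
    obtain ⟨t, F₁, D₀, hF₁, hcore⟩ := exists_core hp2 hpq h hBD hBc hBq hmov
    set C₁ := B ⊓ Subgroup.centralizer (F₁ : Set (Aut q V)) with hC₁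
    have hb : CoreBound q F₁ B := by
      by_cases hab : ∀ x ∈ F₁, ∀ y ∈ F₁, x * y = y * x
      · exact coreAbelian q p t V F₁ A D₀ B hcore hab
      · exact coreNonabelian q p t V F₁ A D₀ B hcore hab
    unfold CoreBound at hb
    have hC₁B : C₁ ≤ B := inf_le_left
    have hKC : B ⊓ Subgroup.centralizer (F : Set (Aut q V)) ≤ C₁ :=
      inf_le_inf_left _ (Subgroup.centralizer_le hF₁)
    have hsame : C₁ ⊓ Subgroup.centralizer (F : Set (Aut q V)) =
        B ⊓ Subgroup.centralizer (F : Set (Aut q V)) :=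
      le_antisymm (inf_le_inf_right _ hC₁B) (le_inf hKC inf_le_right)
    by_cases hC : C₁ ≤ Subgroup.centralizer (F : Set (Aut q V))
    · rw [← hsame, inf_eq_left.2 hC]
      exact hb.trans_le (Nat.card_le_card_of_injective _ Subtype.val_injective)
    have hlt : Nat.card C₁ < n := by
      rw [← hn]
      refine lt_of_le_of_ne (Subgroup.card_le_of_le hC₁B) fun he => hcore.moved ?_
      rw [← Subgroup.eq_of_le_of_card_ge hC₁B he.ge]
      exact inf_le_right
    have h2 := ih _ hlt C₁ rfl (hC₁B.trans hBD) (fun a ha b hb' => hBc a ha.1 b hb'.1)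
      (fun b hb' => hBq b hb'.1) hC
    rw [hsame] at h2
    rw [← Subgroup.relIndex_mul_relIndex _ _ _ hKC hC₁B, mul_pow, mul_assoc]
    exact lt_of_le_of_lt (Nat.mul_le_mul_left _ hb.le) h2

end Cfsg.Agent.SFTPure
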