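import Mathlib
import Cfsg.Agent.Lib.SFTStatic

/-!
# Identifying maximal members

Two data consisting of a `q`-member that is always in the `q`-component of the members containing
it, and a maximal member above its normaliser, share the maximal member; also the case where only
two primes are involved.
-/

set_option autoImplicit false

namespace Cfsg.Agent.SFTPair

open Cfsg.Agent.SignalizerCoprime Cfsg.Agent.HallCore Cfsg.Agent.SFTGroup Cfsg.Agent.SFTSigma
  Cfsg.Agent.SFTCtx Cfsg.Agent.SFTStatic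
open Cfsg.Agent.SignalizerTransitivity (mem_family_of_le)

universe u

variable {G : Type u} [Group G] [Finite G] {p : ℕ} {A : Subgroup G} {θ : G → Subgroup G}

/-- A `q`-member `Q` lying in the `q`-component of every member above it, and a maximal member
above all members normalising it. -/
structure Datum (p : ℕ) (A : Subgroup G) (θ : G → Subgroup G) (q : ℕ) (Q M : Subgroup G) :
    Prop where
  prime : q.Prime
  mem : Q ∈ Cfsg.signalizerFamily p A θ
  pgroup : IsPGroup q Q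
  ne_bot : Q ≠ ⊥
  T_norm : Cfsg.signalizerInf A θ ≤ Subgroup.normalizer (Q : Set G)
  le_comp : ∀ H ∈ Cfsg.signalizerFamily p A θ, Q ≤ H → Q ≤ Cfsg.pCoreOf q H
  isMax : IsMax p A θ M
  norm_le : ∀ X ∈ Cfsg.signalizerFamily p A θ, X ≤ Subgroup.normalizer (Q : Set G) → X ≤ M

/-- Maximal members with the single component `q` are unique. -/
def PureUnique (p : ℕ) (A : Subgroup G) (θ : G → Subgroup G) : Prop :=
  ∀ q : ℕ, q.Prime → ∀ M N : Subgroup G, IsMax p A θ M → IsMax p A θ N →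
    (∀ t : ℕ, t.Prime → t ≠ q → Cfsg.pCoreOf t M = ⊥) →
    (∀ t : ℕ, t.Prime → t ≠ q → Cfsg.pCoreOf t N = ⊥) → M = N

/-- A `s`-group normalising a nontrivial `s`-group fixes a nontrivial element of it. -/
theorem fixed_ne_bot {s : ℕ} [Fact s.Prime] {R Z : Subgroup G} (hR : IsPGroup s R)
    (hZ : IsPGroup s Z) (hZ1 : Z ≠ ⊥) (hRZ : R ≤ Subgroup.normalizer (Z : Set G)) :
    Z ⊓ Subgroup.centralizer (R : Set G) ≠ ⊥ := by
  letI : MulAction ↥R ↥Z :=
    { smul := fun g z => ⟨(g : G) * z * (g : G)⁻¹, mem_normalizer_conj (hRZ g.2) z.2⟩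
      one_smul := fun z => Subtype.ext (by
        change ((1 : ↥R) : G) * z * ((1 : ↥R) : G)⁻¹ = z
        simp)
      mul_smul := fun g h z => Subtype.ext (by
        change ((g * h : ↥R) : G) * z * ((g * h : ↥R) : G)⁻¹ =
          (g : G) * ((h : G) * z * (h : G)⁻¹) * (g : G)⁻¹
        simp [mul_assoc]) }
  have hdvd : s ∣ Nat.card ↥Z := by
    obtain ⟨k, hk⟩ := IsPGroup.iff_card.1 hZ
    cases k with
    | zero => exact absurd (Subgroup.card_eq_one.1 (by simpa using hk)) hZ1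
    | succ k => exact hk ▸ dvd_pow_self s k.succ_ne_zero
  have hone : (1 : ↥Z) ∈ MulAction.fixedPoints ↥R ↥Z := fun g => Subtype.ext (by
    change (g : G) * ((1 : ↥Z) : G) * (g : G)⁻¹ = ((1 : ↥Z) : G)
    simp)
  obtain ⟨z, hz, hz1⟩ :=
    hR.exists_fixed_point_of_prime_dvd_card_of_fixed_point ↥Z hdvd hone
  intro h
  have hmem : (z : G) ∈ Z ⊓ Subgroup.centralizer (R : Set G) := by
    refine ⟨z.2, fun g hg => ?_⟩
    exact mul_inv_eq_iff_eq_mul.1 (congrArg Subtype.val (hz ⟨g, hg⟩))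
  exact hz1 (Subtype.ext (Subgroup.mem_bot.1 (h ▸ hmem)).symm)

variable (hM : Minimal p A θ)
include hM

theorem comp_le_pi {σ : Set ℕ} {H : Subgroup G} (hH : IsW p A θ σ H) {N : Subgroup G}
    (hN : IsMax p A θ N) {t : ℕ} [Fact t.Prime] (ht : t ∈ σ) : Cfsg.pCoreOf t N ≤ H :=
  hH.2.2.2 _ (hM.toSetup.oq_mem hN.1 t) (hN.2.1.trans (le_normalizer_oq t N))
    (piNat_of_isPGroup (oq_isPGroup t N) ht)

/-- The centralizer of `O_q(H)` inside `H`, used to move components into `H`'s components. -/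
theorem comp_le_comp {σ : Set ℕ} {H : Subgroup G} (hH : IsW p A θ σ H) {q s : ℕ} [Fact q.Prime]
    [Fact s.Prime] (hqs : q ≠ s) (hqσ : q ∈ σ) (hsσ : s ∈ σ) {Q M : Subgroup G}
    (hD : Datum p A θ q Q M) : Cfsg.pCoreOf s M ≤ Cfsg.pCoreOf s H := by
  have hS := hM.toSetup
  set V := Cfsg.pCoreOf s M
  by_cases hV : V = ⊥
  · exact hV.le.trans bot_le
  have hQH : Q ≤ Cfsg.pCoreOf q H := hD.le_comp H hH.1
    (hH.2.2.2 Q hD.mem hD.T_norm (piNat_of_isPGroup hD.pgroup hqσ))
  have hqM : Cfsg.pCoreOf q M ≠ ⊥ := fun h => hD.ne_bot (le_bot_iff.1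
    (h ▸ hD.le_comp M hD.isMax.1 (hD.norm_le Q hD.mem Subgroup.le_normalizer)))
  have hVH : V ≤ H := comp_le_pi hM hH hD.isMax hsσ
  have hVC : V ≤ H ⊓ Subgroup.centralizer (Cfsg.pCoreOf q H : Set G) := fun x hx =>
    ⟨hVH hx, centralizes_member hM hD.isMax hqs.symm hqM (hS.oq_mem hH.1 q) (oq_isPGroup q H)
      (hH.2.1.trans (normalizer_le_normalizer_oq q H)) hx (le_normalizer_oq q H (hVH hx))⟩
  set C := H ⊓ Subgroup.centralizer (Cfsg.pCoreOf q H : Set G)
  have hHC : H ≤ Subgroup.normalizer (C : Set G) :=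
    le_normalizer_inf Subgroup.le_normalizer
      (SignalizerCoprime.le_normalizer_centralizer (le_normalizer_oq q H))
  have hCM : C ≤ M := hD.norm_le C
    (hS.member_inf hH.1 (SignalizerCoprime.le_normalizer_centralizer
      (hS.le_normalizer (hS.oq_mem hH.1 q))))
    (inf_le_right.trans ((Subgroup.centralizer_le hQH).trans
      (SignalizerCoprime.centralizer_le_normalizer Q)))
  exact le_oq_of_normal_chain hVC inf_le_left hHC (hCM.trans (le_normalizer_oq s M))
    (oq_isPGroup s M)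

/-- One half of the identification for a common prime. -/
theorem same_prime_step {q s : ℕ} [Fact q.Prime] [Fact s.Prime] (hsq : s ≠ q)
    (hbig : ∀ q s : ℕ, q.Prime → s.Prime → q ≠ s →
      ∃ a ∈ A, a ≠ 1 ∧ ¬ PiNat {q, s} (Nat.card (θ a)))
    {Q M Q' M' : Subgroup G} (hD : Datum p A θ q Q M) (hD' : Datum p A θ q Q' M')
    (hs : Cfsg.pCoreOf s M ≠ ⊥) :
    (∀ t : ℕ, t.Prime → t ≠ q → Cfsg.pCoreOf t M ≤ M') ∧ Cfsg.pCoreOf q M' ≤ M ∧
      ∃ s' : ℕ, s'.Prime ∧ s' ≠ q ∧ Cfsg.pCoreOf s' M' ≠ ⊥ := by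
  have hS := hM.toSetup
  obtain ⟨H, hH⟩ := hM.exists_W {q, s} (hbig q s Fact.out Fact.out hsq.symm)
  have hqσ : q ∈ ({q, s} : Set ℕ) := Or.inl rfl
  have hsσ : s ∈ ({q, s} : Set ℕ) := Or.inr rfl
  set V := Cfsg.pCoreOf s M
  set P' := Cfsg.pCoreOf q M'
  have hVH : V ≤ Cfsg.pCoreOf s H := comp_le_comp hM hH hsq.symm hqσ hsσ hD
  have hcomm : Cfsg.pCoreOf s H ≤ Subgroup.centralizer (Cfsg.pCoreOf q H : Set G) :=
    commute_subgroups (inf_eq_bot_of_primes (oq_isPGroup s H) (oq_isPGroup q H) hsq)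
      ((oq_le s H).trans (le_normalizer_oq q H)) ((oq_le q H).trans (le_normalizer_oq s H))
  have hQ'H : Q' ≤ Cfsg.pCoreOf q H := hD'.le_comp H hH.1
    (hH.2.2.2 Q' hD'.mem hD'.T_norm (piNat_of_isPGroup hD'.pgroup hqσ))
  have hQ'M : Q' ≤ M := hM.le_max_oq hD.isMax hs hD'.mem
    ((hQ'H.trans (Subgroup.le_centralizer_iff.1 (hVH.trans hcomm))).trans
        (SignalizerCoprime.centralizer_le_normalizer V))
  have hQ'P : Q' ≤ Cfsg.pCoreOf q M := hD'.le_comp M hD.isMax.1 hQ'M
  have hoff : ∀ t : ℕ, t.Prime → t ≠ q → Cfsg.pCoreOf t M ≤ M' := by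
    intro t ht htq
    haveI := Fact.mk ht
    refine hD'.norm_le _ (hS.oq_mem hD.isMax.1 t) ((commute_subgroups
      (inf_eq_bot_of_primes (oq_isPGroup t M) (oq_isPGroup q M) htq)
      ((oq_le t M).trans (le_normalizer_oq q M))
      ((oq_le q M).trans (le_normalizer_oq t M))).trans
        ((Subgroup.centralizer_le hQ'P).trans (SignalizerCoprime.centralizer_le_normalizer Q')))
  have hsHM' : Cfsg.pCoreOf s H ≤ M' := hD'.norm_le _ (hS.oq_mem hH.1 s)
    ((hcomm.trans (Subgroup.centralizer_le hQ'H)).trans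
      (SignalizerCoprime.centralizer_le_normalizer Q'))
  have hP'c : P' ≤ Subgroup.centralizer (Cfsg.pCoreOf s H : Set G) :=
    commute_subgroups (inf_eq_bot_of_primes (oq_isPGroup q M') (oq_isPGroup s H) hsq.symm)
      ((comp_le_pi hM hH hD'.isMax hqσ).trans (le_normalizer_oq s H))
      (hsHM'.trans (le_normalizer_oq q M'))
  have hP'V : P' ≤ Subgroup.centralizer (V : Set G) := hP'c.trans (Subgroup.centralizer_le hVH)
  refine ⟨hoff, hM.le_max_oq hD.isMax hs (hS.oq_mem hD'.isMax.1 q)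
    (hP'V.trans (SignalizerCoprime.centralizer_le_normalizer V)), ?_⟩
  by_contra h
  push Not at h
  refine hs (le_bot_iff.1 (le_trans (le_oq_of_commute hD'.isMax.1.1 (hoff s Fact.out hsq)
    (oq_isPGroup s M) fun t ht => ?_) (h s Fact.out hsq).le))
  by_cases htq : t = q
  · subst htq
    exact fun x hx y hy => ((hP'V hy) x hx).symm
  · rw [h t ht htq]
    exact fun x _ y hy => by rw [Subgroup.mem_bot.1 hy, one_mul, mul_one]

/-- All data share their maximal member. -/
theorem datum_unique (hpure : PureUnique p A θ)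
    (hbig : ∀ q s : ℕ, q.Prime → s.Prime → q ≠ s →
      ∃ a ∈ A, a ≠ 1 ∧ ¬ PiNat {q, s} (Nat.card (θ a)))
    {q q' : ℕ} {Q M Q' M' : Subgroup G} (hD : Datum p A θ q Q M) (hD' : Datum p A θ q' Q' M') :
    M = M' := by
  have hS := hM.toSetup
  haveI := Fact.mk hD.prime
  haveI := Fact.mk hD'.prime
  have hQM : ∀ {q : ℕ} {Q M : Subgroup G}, Datum p A θ q Q M → Q ≤ Cfsg.pCoreOf q M := fun hD =>
    hD.le_comp _ hD.isMax.1 (hD.norm_le _ hD.mem Subgroup.le_normalizer)
  have hne : ∀ {q : ℕ} {Q M X : Subgroup G}, Datum p A θ q Q M → Q ≤ X → X ≠ ⊥ :=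
    fun hD hle h => hD.ne_bot (le_bot_iff.1 (h ▸ hle))
  by_cases hqq : q = q'
  · subst hqq
    by_cases hmix : ∃ s : ℕ, s.Prime ∧ s ≠ q ∧ Cfsg.pCoreOf s M ≠ ⊥
    · obtain ⟨s, hs, hsq, hsM⟩ := hmix
      haveI := Fact.mk hs
      obtain ⟨h1, h2, s', hs', hs'q, hs'M⟩ := same_prime_step hM hsq hbig hD hD' hsM
      haveI := Fact.mk hs'
      obtain ⟨h3, h4, -⟩ := same_prime_step hM hs'q hbig hD' hD hs'M
      exact max_eq_of_comps hM hD.isMax hD'.isMax
        (fun t ht => if htq : t = q then htq ▸ h4 else h1 t ht htq)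
        (fun t ht => if htq : t = q then htq ▸ h2 else h3 t ht htq)
        hsq.symm (hne hD (hQM hD)) hsM
    by_cases hmix' : ∃ s : ℕ, s.Prime ∧ s ≠ q ∧ Cfsg.pCoreOf s M' ≠ ⊥
    · obtain ⟨s, hs, hsq, hsM⟩ := hmix'
      haveI := Fact.mk hs
      obtain ⟨-, -, h⟩ := same_prime_step hM hsq hbig hD' hD hsM
      exact absurd h hmix
    push Not at hmix hmix'
    exact hpure q hD.prime M M' hD.isMax hD'.isMax hmix hmix'
  obtain ⟨H, hH⟩ := hM.exists_W {q, q'} (hbig q q' hD.prime hD'.prime hqq)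
  have hqσ : q ∈ ({q, q'} : Set ℕ) := Or.inl rfl
  have hqσ' : q' ∈ ({q, q'} : Set ℕ) := Or.inr rfl
  have hQH : Q ≤ Cfsg.pCoreOf q H := hD.le_comp H hH.1
    (hH.2.2.2 Q hD.mem hD.T_norm (piNat_of_isPGroup hD.pgroup hqσ))
  have hQ'H : Q' ≤ Cfsg.pCoreOf q' H := hD'.le_comp H hH.1
    (hH.2.2.2 Q' hD'.mem hD'.T_norm (piNat_of_isPGroup hD'.pgroup hqσ'))
  have hcomm : Cfsg.pCoreOf q' H ≤ Subgroup.centralizer (Cfsg.pCoreOf q H : Set G) :=
    commute_subgroups (inf_eq_bot_of_primes (oq_isPGroup q' H) (oq_isPGroup q H) (Ne.symm hqq))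
      ((oq_le q' H).trans (le_normalizer_oq q H)) ((oq_le q H).trans (le_normalizer_oq q' H))
  have hQ'M : Q' ≤ M := hD.norm_le Q' hD'.mem ((hQ'H.trans hcomm).trans
    ((Subgroup.centralizer_le hQH).trans (SignalizerCoprime.centralizer_le_normalizer Q)))
  have hQM' : Q ≤ M' := hD'.norm_le Q hD.mem
    ((hQH.trans (Subgroup.le_centralizer_iff.1 (hQ'H.trans hcomm))).trans
        (SignalizerCoprime.centralizer_le_normalizer Q'))
  have hQ'P := hD'.le_comp M hD.isMax.1 hQ'M
  have hQP' := hD.le_comp M' hD'.isMax.1 hQM'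
  have hV := comp_le_comp hM hH hqq hqσ hqσ' hD
  have hP' := comp_le_comp hM hH (Ne.symm hqq) hqσ' hqσ hD'
  have hoff : ∀ {q q' : ℕ} {Q M Q' M' : Subgroup G} [Fact q'.Prime],
      Datum p A θ q Q M → Datum p A θ q' Q' M' → Q' ≤ Cfsg.pCoreOf q' M →
      ∀ t : ℕ, t.Prime → t ≠ q' → Cfsg.pCoreOf t M ≤ M' := by
    intro q q' Q M Q' M' _ hD hD' hle t ht htq
    haveI := Fact.mk ht
    exact hD'.norm_le _ (hS.oq_mem hD.isMax.1 t) ((commute_subgroups
      (inf_eq_bot_of_primes (oq_isPGroup t M) (oq_isPGroup q' M) htq)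
      ((oq_le t M).trans (le_normalizer_oq q' M))
      ((oq_le q' M).trans (le_normalizer_oq t M))).trans
        ((Subgroup.centralizer_le hle).trans (SignalizerCoprime.centralizer_le_normalizer Q')))
  have hVc : Cfsg.pCoreOf q' M ≤ Subgroup.centralizer (Cfsg.pCoreOf q M' : Set G) :=
    (hV.trans hcomm).trans (Subgroup.centralizer_le hP')
  have hVM' : Cfsg.pCoreOf q' M ≤ M' := hM.le_max_oq hD'.isMax (hne hD hQP')
    (hS.oq_mem hD.isMax.1 q') (hVc.trans (SignalizerCoprime.centralizer_le_normalizer _))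
  have hP'M : Cfsg.pCoreOf q M' ≤ M := hM.le_max_oq hD.isMax (hne hD' hQ'P)
    (hS.oq_mem hD'.isMax.1 q)
    ((Subgroup.le_centralizer_iff.1 hVc).trans (SignalizerCoprime.centralizer_le_normalizer _))
  exact max_eq_of_comps hM hD.isMax hD'.isMax
    (fun t ht => if htq : t = q' then htq ▸ hVM' else hoff hD hD' hQ'P t ht htq)
    (fun t ht => if htq : t = q then htq ▸ hP'M else hoff hD' hD hQP' t ht htq)
    hqq (hne hD (hQM hD)) (hne hD' hQ'P)

/-! ### Two primes -/

/-- With only two primes, a member with both components is the unique one containing the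
invariant central elements of its components. -/
theorem other_comp {q s : ℕ} [Fact q.Prime] [Fact s.Prime] (hqs : q ≠ s)
    (hσ : ∀ a ∈ A, a ≠ 1 → PiNat {q, s} (Nat.card (θ a))) {M : Subgroup G}
    (hMax : IsMax p A θ M) (hq : Cfsg.pCoreOf q M ≠ ⊥) (hs : Cfsg.pCoreOf s M ≠ ⊥)
    {X : Subgroup G} (hX : X ∈ Cfsg.signalizerFamily p A θ) (hX1 : X ≠ ⊥)
    (hXT : Cfsg.signalizerInf A θ ≤ Subgroup.normalizer (X : Set G))
    (hXP : X ≤ Cfsg.pCoreOf q M)
    (hPX : Cfsg.pCoreOf q M ≤ Subgroup.centralizer (X : Set G)) {N : Subgroup G}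
    (hNax : IsMax p A θ N) (hXN : X ≤ N) : Cfsg.pCoreOf s N ≤ M := by
  have hS := hM.toSetup
  have honly : ∀ {H : Subgroup G}, H ∈ Cfsg.signalizerFamily p A θ → ∀ t : ℕ, t.Prime → t ≠ q →
      t ≠ s → Cfsg.pCoreOf t H = ⊥ := by
    intro H hH t ht htq hts
    haveI := Fact.mk ht
    obtain ⟨k, hk⟩ := IsPGroup.iff_card.1 (oq_isPGroup t H)
    cases k with
    | zero => exact Subgroup.card_eq_one.1 (by simpa using hk)
    | succ k =>
      have := hS.piNat_member (hS.oq_mem hH t) (fun a ha ha1 => (hσ a ha ha1).of_dvd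
        (Subgroup.card_dvd_of_le ((hS.oq_mem hH t).2.2.2 a ha ha1))) t ht
        (hk ▸ dvd_pow_self t k.succ_ne_zero)
      rcases this with h | h
      · exact absurd h htq
      · exact absurd h hts
  set P := Cfsg.pCoreOf q M
  set V := Cfsg.pCoreOf s M
  have hXV : V ≤ Subgroup.centralizer (X : Set G) :=
    (commute_subgroups (inf_eq_bot_of_primes (oq_isPGroup s M) (oq_isPGroup q M) hqs.symm)
      ((oq_le s M).trans (le_normalizer_oq q M))
      ((oq_le q M).trans (le_normalizer_oq s M))).trans (Subgroup.centralizer_le hXP)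
  have hV' : Cfsg.pCoreOf s N ≤ Subgroup.centralizer (X : Set G) := fun u hu x hx =>
    ((centralizes_member hM hMax hqs hs (hS.oq_mem hNax.1 s) (oq_isPGroup s N)
      (hNax.2.1.trans (le_normalizer_oq s N)) (hXP hx) (le_normalizer_oq s N (hXN hx))) u hu).symm
  obtain ⟨L0, hL0, -, hL0θ⟩ := hM.exists_norm hX hX1
  obtain ⟨L, hL, hL0L⟩ := hS.exists_max hL0 ((hS.member_le hS.T_mem fun a ha ha1 =>
      (le_inf (hS.T_mem.2.2.2 a ha ha1) (inf_le_left.trans hXT)).trans (hL0θ a ha ha1)).trans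
        Subgroup.le_normalizer)
  have hLmem : ∀ Y ∈ Cfsg.signalizerFamily p A θ, Y ≤ Subgroup.normalizer (X : Set G) → Y ≤ L :=
    fun Y hY hYX => (hS.member_le hY fun a ha ha1 =>
      (le_inf (hY.2.2.2 a ha ha1) (inf_le_left.trans hYX)).trans (hL0θ a ha ha1)).trans hL0L
  have hcN : Subgroup.centralizer (X : Set G) ≤ Subgroup.normalizer (X : Set G) :=
    SignalizerCoprime.centralizer_le_normalizer X
  have hPL : P ≤ L := hLmem P (hS.oq_mem hMax.1 q) (hPX.trans hcN)
  have hVL : V ≤ L := hLmem V (hS.oq_mem hMax.1 s) (hXV.trans hcN)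
  have hV'L : Cfsg.pCoreOf s N ≤ L := hLmem _ (hS.oq_mem hNax.1 s) (hV'.trans hcN)
  -- the components of `L` are centralised by those of `M`
  have hcross : ∀ (q s : ℕ) [Fact q.Prime] [Fact s.Prime], q ≠ s → Cfsg.pCoreOf s M ≠ ⊥ →
      Cfsg.pCoreOf q M ≤ L →
      Cfsg.pCoreOf q M ≤ Subgroup.centralizer (Cfsg.pCoreOf s L : Set G) :=
    fun q s _ _ hqs hs hle x hx u hu =>
      centralizes_member hM hMax hqs hs (hS.oq_mem hL.1 s) (oq_isPGroup s L)
        (hL.2.1.trans (le_normalizer_oq s L)) hx (le_normalizer_oq s L (hle hx)) u hu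
  have hPc := hcross q s hqs hs hPL
  have hVc := hcross s q hqs.symm hq hVL
  have hLM : L = M := by
    refine (max_eq_of_comps hM hMax hL ?_ ?_ hqs hq hs).symm
    · intro t ht
      by_cases htq : t = q
      · exact htq ▸ hPL
      by_cases hts : t = s
      · exact hts ▸ hVL
      rw [honly hMax.1 t ht htq hts]
      exact bot_le
    · intro t ht
      by_cases htq : t = q
      · subst htq
        exact hM.le_max_oq hMax hs (hS.oq_mem hL.1 t)
          ((Subgroup.le_centralizer_iff.1 hVc).trans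
              (SignalizerCoprime.centralizer_le_normalizer V))
      by_cases hts : t = s
      · subst hts
        exact hM.le_max_oq hMax hq (hS.oq_mem hL.1 t)
          ((Subgroup.le_centralizer_iff.1 hPc).trans
              (SignalizerCoprime.centralizer_le_normalizer P))
      rw [honly hL.1 t ht htq hts]
      exact bot_le
  exact hLM ▸ hV'L

/-- With only two primes, a maximal member containing an invariant central element of a component
of a mixed one is that member or has only that component. -/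
theorem two_primes_unique {q s : ℕ} [Fact q.Prime] [Fact s.Prime] (hqs : q ≠ s)
    (hσ : ∀ a ∈ A, a ≠ 1 → PiNat {q, s} (Nat.card (θ a))) {M : Subgroup G}
    (hMax : IsMax p A θ M) (hq : Cfsg.pCoreOf q M ≠ ⊥) (hs : Cfsg.pCoreOf s M ≠ ⊥)
    {X : Subgroup G} (hX : X ∈ Cfsg.signalizerFamily p A θ) (hX1 : X ≠ ⊥)
    (hXT : Cfsg.signalizerInf A θ ≤ Subgroup.normalizer (X : Set G))
    (hXP : X ≤ Cfsg.pCoreOf q M)
    (hPX : Cfsg.pCoreOf q M ≤ Subgroup.centralizer (X : Set G)) {N : Subgroup G}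
    (hNax : IsMax p A θ N) (hXN : X ≤ N) :
    N = M ∨ ∀ t : ℕ, t.Prime → t ≠ q → Cfsg.pCoreOf t N = ⊥ := by
  have hS := hM.toSetup
  have honly : ∀ {H : Subgroup G}, H ∈ Cfsg.signalizerFamily p A θ → ∀ t : ℕ, t.Prime → t ≠ q →
      t ≠ s → Cfsg.pCoreOf t H = ⊥ := by
    intro H hH t ht htq hts
    haveI := Fact.mk ht
    obtain ⟨k, hk⟩ := IsPGroup.iff_card.1 (oq_isPGroup t H)
    cases k with
    | zero => exact Subgroup.card_eq_one.1 (by simpa using hk)
    | succ k =>
      have := hS.piNat_member (hS.oq_mem hH t) (fun a ha ha1 => (hσ a ha ha1).of_dvd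
        (Subgroup.card_dvd_of_le ((hS.oq_mem hH t).2.2.2 a ha ha1))) t ht
        (hk ▸ dvd_pow_self t k.succ_ne_zero)
      rcases this with h | h
      · exact absurd h htq
      · exact absurd h hts
  set V' := Cfsg.pCoreOf s N
  set P' := Cfsg.pCoreOf q N
  by_cases hV' : V' = ⊥
  · exact Or.inr fun t ht htq => if hts : t = s then hts ▸ hV' else honly hNax.1 t ht htq hts
  by_cases hP' : P' = ⊥
  · -- `X` would centralise the Fitting subgroup of `N`
    refine absurd (le_bot_iff.1 (le_trans (le_oq_of_commute hNax.1.1 hXN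
      ((oq_isPGroup q M).to_le hXP) fun t ht => ?_) hP'.le)) hX1
    by_cases hts : t = s
    · subst hts
      exact fun x hx u hu => centralizes_member hM hMax hqs hs (hS.oq_mem hNax.1 t)
        (oq_isPGroup t N) (hNax.2.1.trans (le_normalizer_oq t N)) (hXP hx)
        (le_normalizer_oq t N (hXN hx)) u hu
    · have h0 : Cfsg.pCoreOf t N = ⊥ :=
        if htq : t = q then htq ▸ hP' else honly hNax.1 t ht htq hts
      rw [h0]
      exact fun x _ y hy => by rw [Subgroup.mem_bot.1 hy, one_mul, mul_one]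
  refine Or.inl ?_
  have hV'M : V' ≤ M := other_comp hM hqs hσ hMax hq hs hX hX1 hXT hXP hPX hNax hXN
  set P := Cfsg.pCoreOf q M
  set V := Cfsg.pCoreOf s M
  set Z := V ⊓ Subgroup.centralizer (V : Set G) with hZ
  have hZ1 : Z ≠ ⊥ := fixed_ne_bot (oq_isPGroup s M) (oq_isPGroup s M) hs Subgroup.le_normalizer
  have hNZ : Subgroup.normalizer (V : Set G) ≤ Subgroup.normalizer (Z : Set G) :=
    le_normalizer_inf le_rfl (SignalizerCoprime.le_normalizer_centralizer le_rfl)
  set X' := Z ⊓ Subgroup.centralizer (V' : Set G) with hX'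
  have hX'1 : X' ≠ ⊥ := fixed_ne_bot (oq_isPGroup s N) ((oq_isPGroup s M).to_le inf_le_left) hZ1
    ((hV'M.trans (le_normalizer_oq s M)).trans hNZ)
  have hZm : Z ∈ Cfsg.signalizerFamily p A θ := mem_family_of_le (hS.oq_mem hMax.1 s) inf_le_left
    ((hS.le_normalizer (hS.oq_mem hMax.1 s)).trans hNZ)
  have hX'm : X' ∈ Cfsg.signalizerFamily p A θ := hS.member_inf hZm
    (SignalizerCoprime.le_normalizer_centralizer (hS.le_normalizer (hS.oq_mem hNax.1 s)))
  have hX'T : Cfsg.signalizerInf A θ ≤ Subgroup.normalizer (X' : Set G) :=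
    le_normalizer_inf ((hMax.2.1.trans (le_normalizer_oq s M)).trans hNZ)
      (SignalizerCoprime.le_normalizer_centralizer (hNax.2.1.trans (le_normalizer_oq s N)))
  have hX'N : X' ≤ N := hM.le_max_oq hNax hV' hX'm
    (inf_le_right.trans (SignalizerCoprime.centralizer_le_normalizer V'))
  have hσ' : ∀ a ∈ A, a ≠ 1 → PiNat {s, q} (Nat.card (θ a)) := fun a ha ha1 =>
    Set.pair_comm q s ▸ hσ a ha ha1
  have hP'M : P' ≤ M := other_comp hM hqs.symm hσ' hMax hs hq hX'm hX'1 hX'T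
    (inf_le_left.trans inf_le_left)
    (fun v hv x hx => ((Subgroup.mem_inf.1 (Subgroup.mem_inf.1 hx).1).2 v hv).symm) hNax hX'N
  have hcross : ∀ (q s : ℕ) [Fact q.Prime] [Fact s.Prime], q ≠ s → Cfsg.pCoreOf q N ≠ ⊥ →
      Cfsg.pCoreOf s N ≠ ⊥ → Cfsg.pCoreOf s N ≤ M → Cfsg.pCoreOf q M ≤ N :=
    fun q s _ _ hqs hqN hsN hle => hM.le_max_oq hNax hsN (hS.oq_mem hMax.1 q)
      (le_trans (b := Subgroup.centralizer (Cfsg.pCoreOf s N : Set G))
        (fun u hu x hx => (centralizes_member hM hNax hqs.symm hqN (hS.oq_mem hMax.1 q)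
          (oq_isPGroup q M) (hMax.2.1.trans (le_normalizer_oq q M)) hx
          (le_normalizer_oq q M (hle hx)) u hu).symm)
        (SignalizerCoprime.centralizer_le_normalizer _))
  refine (max_eq_of_comps hM hMax hNax ?_ ?_ hqs hq hs).symm
  · intro t ht
    by_cases htq : t = q
    · exact htq ▸ hcross q s hqs hP' hV' hV'M
    by_cases hts : t = s
    · exact hts ▸ hcross s q hqs.symm hV' hP' hP'M
    rw [honly hMax.1 t ht htq hts]
    exact bot_le
  · intro t ht
    by_cases htq : t = q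
    · exact htq ▸ hP'M
    by_cases hts : t = s
    · exact hts ▸ hV'M
    rw [honly hNax.1 t ht htq hts]
    exact bot_le

end Cfsg.Agent.SFTPair
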