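import Mathlib
import Cfsg.Prelude.Def_PLocal
import Cfsg.Prelude.Def_Local
import Cfsg.Agent.Lib.Offenders
import Cfsg.Agent.Lib.OffendersReplace
import Cfsg.Agent.Lib.CoprimeGen
import Cfsg.Agent.Lib.HallCore

/-!
Best offenders in a faithful group whose `p'`-core is self-centralising: they decompose into
offenders of order `p` acting as transvections.
-/

set_option autoImplicit false

open scoped commutatorElement

namespace Cfsg.Agent.OffendersFF

open Cfsg OffendersReplace

variable {G : Type*} [Group G] {p : ℕ} {V H A B : Subgroup G}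

/-- `O_{p'}(H)` inside `G`. -/
def core (p : ℕ) (H : Subgroup G) : Subgroup G := (pPrimeCore p H).map H.subtype

/-- The standing hypotheses. -/
structure Hyp (p : ℕ) (V H : Subgroup G) : Prop where
  ea : IsElementaryAbelian p V
  norm : H ≤ Subgroup.normalizer (V : Set G)
  faithful : H ⊓ Subgroup.centralizer (V : Set G) = ⊥
  selfCent : Subgroup.centralizer (pPrimeCore p H : Set H) ≤ pPrimeCore p H

/-- A minimal nontrivially acting best offender. -/
def IsMinimal (p : ℕ) (V A : Subgroup G) : Prop :=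
  IsBestOffenderOn p V A ∧ ⁅V, A⁆ ≠ ⊥ ∧
    ∀ B : Subgroup G, B ≤ A → IsBestOffenderOn p V B → ⁅V, B⁆ ≠ ⊥ → B = A

namespace Hyp

theorem comm_V (h : Hyp p V H) {v w : G} (hv : v ∈ V) (hw : w ∈ V) : v * w = w * v :=
  ((Offenders.ea_iff V).1 h.ea).1 v hv w hw

theorem pow_V (h : Hyp p V H) {v : G} (hv : v ∈ V) : v ^ p = 1 :=
  ((Offenders.ea_iff V).1 h.ea).2 v hv

theorem eq_one (h : Hyp p V H) {g : G} (hg : g ∈ H) (hc : ∀ v ∈ V, v * g = g * v) : g = 1 := by
  have : g ∈ H ⊓ Subgroup.centralizer (V : Set G) := ⟨hg, hc⟩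
  rwa [h.faithful, Subgroup.mem_bot] at this

theorem conj_V (h : Hyp p V H) {g v : G} (hg : g ∈ H) (hv : v ∈ V) : g * v * g⁻¹ ∈ V :=
  (Subgroup.mem_normalizer_iff.1 (h.norm hg) v).1 hv

theorem comm_offender (h : Hyp p V H) (hAH : A ≤ H) (hA : IsBestOffenderOn p V A) :
    IsElementaryAbelian p A := by
  refine (Offenders.ea_iff A).2 ⟨fun x hx y hy => ?_, fun x hx => ?_⟩
  · refine commutatorElement_eq_one_iff_mul_comm.1 (h.eq_one ?_ fun v hv => ?_)
    · rw [commutatorElement_def]
      exact mul_mem (mul_mem (mul_mem (hAH hx) (hAH hy)) (inv_mem (hAH hx))) (inv_mem (hAH hy))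
    · exact hA.2.1 (Subgroup.commutator_mem_commutator hx hy) v hv
  · exact h.eq_one (pow_mem (hAH hx) p) fun v hv => hA.2.2 x hx v hv

theorem eq_bot_of_commutator (h : Hyp p V H) (hAH : A ≤ H) (hA : ⁅V, A⁆ = ⊥) : A = ⊥ := by
  rw [eq_bot_iff]
  intro a ha
  rw [Subgroup.mem_bot]
  refine h.eq_one (hAH ha) fun v hv => ?_
  exact ((Subgroup.commutator_eq_bot_iff_le_centralizer.1 hA hv) a ha).symm

theorem commutator_ne_bot (h : Hyp p V H) (hAH : A ≤ H) (hA : A ≠ ⊥) : ⁅V, A⁆ ≠ ⊥ :=
  fun e => hA (h.eq_bot_of_commutator hAH e)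

variable [Finite G]

theorem core_le (p : ℕ) (H : Subgroup G) : core p H ≤ H := Subgroup.map_subtype_le _

theorem core_normalized (p : ℕ) (H : Subgroup G) :
    H ≤ Subgroup.normalizer (core p H : Set G) := by
  haveI := HallCore.pPrimeCore_normal p H
  intro g hg
  refine Subgroup.mem_normalizer_iff.2 fun x => ⟨?_, fun hx => ?_⟩
  · rintro ⟨y, hy, rfl⟩
    exact ⟨_, ‹(pPrimeCore p H).Normal›.conj_mem y hy ⟨g, hg⟩, rfl⟩
  · obtain ⟨y, hy, e⟩ := hx
    refine ⟨_, ‹(pPrimeCore p H).Normal›.conj_mem y hy ⟨g, hg⟩⁻¹, ?_⟩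
    have e' : (y : G) = g * x * g⁻¹ := e
    simp [e', mul_assoc]

theorem coprime_core (p : ℕ) (H : Subgroup G) : (Nat.card (core p H)).Coprime p := by
  rw [core, Subgroup.card_map_of_injective H.subtype_injective]
  exact HallCore.coprime_card_pPrimeCore p H

theorem mem_core_of_commute (h : Hyp p V H) {g : G} (hg : g ∈ H)
    (hc : ∀ q ∈ core p H, q * g = g * q) : g ∈ core p H :=
  ⟨⟨g, hg⟩, h.selfCent fun q hq => Subtype.ext (hc q ⟨q, hq, rfl⟩), rfl⟩

theorem eq_one_of_core {p : ℕ} [Fact p.Prime] {H : Subgroup G} {g : G} (hg : g ∈ core p H)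
    (hp : g ^ p = 1) : g = 1 :=
  orderOf_eq_one_iff.1 (Nat.eq_one_of_dvd_coprimes (coprime_core p H)
    (Subgroup.orderOf_dvd_natCard _ hg) (orderOf_dvd_of_pow_eq_one hp))

/-- An element of the core commuting with `B` and with `C_V(B)` is trivial. -/
theorem eq_one_of_fixed [hp : Fact p.Prime] (h : Hyp p V H) (hBH : B ≤ H)
    (hB : IsElementaryAbelian p B) {q : G} (hq : q ∈ core p H) (hqB : ∀ b ∈ B, b * q = q * b)
    (hqC : ∀ v ∈ fixedIn V B, v * q = q * v) : q = 1 := by
  refine h.eq_one (core_le p H hq) fun v hv => ?_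
  have := CoprimeGen.le_centralizer_of_prod_action (p := p) (A := Subgroup.zpowers q) (B := B)
    (Offenders.ea_isPGroup h.ea) (Offenders.ea_isPGroup hB) ?_
    (Subgroup.zpowers_le.2 (h.norm (core_le p H hq))) (hBH.trans h.norm)
    (Subgroup.zpowers_le.2 fun b hb => hqB b hb) ?_ (Subgroup.mem_zpowers q) v hv
  · exact this
  · intro hd
    rw [Nat.card_zpowers] at hd
    exact hp.out.one_lt.ne' (Nat.eq_one_of_dvd_coprimes (coprime_core p H)
      (hd.trans (Subgroup.orderOf_dvd_natCard _ hq)) dvd_rfl)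
  · intro v hv w hw
    obtain ⟨i, rfl⟩ := hw
    exact ((show Commute v q from hqC v hv).zpow_right i).symm

end Hyp

theorem card_sup_zpowers [Finite G] [Fact p.Prime] {D : Subgroup G} {e : G}
    (hc : ∀ d ∈ D, d * e = e * d) (he : e ^ p = 1) :
    Nat.card ↥(D ⊔ Subgroup.zpowers e) ≤ Nat.card D * p := by
  have h := card_sup_mul_card_inf D (Subgroup.zpowers e)
    (le_normalizer_of_commute fun d hd x hx => by
      obtain ⟨i, rfl⟩ := hx
      exact ((show Commute d e from hc d hd).zpow_right i).eq)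
  have h1 : Nat.card (Subgroup.zpowers e) ≤ p := by
    rw [Nat.card_zpowers]
    exact Nat.le_of_dvd (Fact.out : p.Prime).pos (orderOf_dvd_of_pow_eq_one he)
  calc Nat.card ↥(D ⊔ Subgroup.zpowers e)
      ≤ Nat.card ↥(D ⊔ Subgroup.zpowers e) * Nat.card ↥(D ⊓ Subgroup.zpowers e) :=
        Nat.le_mul_of_pos_right _ Nat.card_pos
    _ = _ := h
    _ ≤ _ := Nat.mul_le_mul_left _ h1

theorem mem_of_zpow_mem {D : Subgroup G} [hp : Fact p.Prime] {e : G} (he : e ^ p = 1) (i : ℤ)
    (hi : e ^ i ∈ D) : e ^ i = 1 ∨ e ∈ D := by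
  by_cases hd : (p : ℤ) ∣ i
  · obtain ⟨k, rfl⟩ := hd
    left
    rw [zpow_mul, zpow_natCast, he, one_zpow]
  · right
    obtain ⟨x, y, hxy⟩ : ∃ x y : ℤ, (p : ℤ) * x + i * y = 1 :=
      (Int.isCoprime_iff_gcd_eq_one.2 (Int.isCoprime_iff_gcd_eq_one.1
        ((Nat.prime_iff_prime_int.1 hp.out).coprime_iff_not_dvd.2 hd))).elim
        fun a h => h.elim fun b h => ⟨a, b, by linarith⟩
    have e1 : e = (e ^ i) ^ y := by
      rw [← zpow_mul]
      conv_lhs => rw [← zpow_one e, ← hxy, zpow_add, zpow_mul, zpow_natCast, he, one_zpow, one_mul]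
    rw [e1]
    exact zpow_mem hi y

/-- Generation by centralisers of maximal subgroups. -/
theorem le_of_hyperplanes [Finite G] [hp : Fact p.Prime] {K T : Subgroup G}
    (hA : IsElementaryAbelian p A) (hAK : A ≤ Subgroup.normalizer (K : Set G))
    (hK : (Nat.card K).Coprime p) (h2 : p < Nat.card A)
    (hfix : ∀ B : Subgroup G, B ≤ A → p * Nat.card B = Nat.card A →
      K ⊓ Subgroup.centralizer (B : Set G) ≤ T) : K ≤ T := by
  obtain ⟨hAc, hAp⟩ := (Offenders.ea_iff A).1 hA
  obtain ⟨N, hN⟩ := (Offenders.ea_isPGroup hA).exists_card_eq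
  have key : ∀ n : ℕ, ∀ D : Subgroup G, D ≤ A → p * Nat.card D ≤ Nat.card A →
      Nat.card A - Nat.card D ≤ n → K ⊓ Subgroup.centralizer (D : Set G) ≤ T := by
    intro n
    induction n with
    | zero =>
      intro D _ hle h0
      exfalso
      have : 2 * Nat.card D ≤ p * Nat.card D := Nat.mul_le_mul_right _ hp.out.two_le
      have : 0 < Nat.card D := Nat.card_pos
      omega
    | succ n ih =>
      intro D hD hle hn
      rcases eq_or_lt_of_le hle with heq | hlt
      · exact hfix D hD heq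
      obtain ⟨e₁, he₁, he₁'⟩ : ∃ e ∈ A, e ∉ D := SetLike.not_le_iff_exists.1 fun h => by
        have := Subgroup.card_le_of_le h
        have : 2 * Nat.card D ≤ p * Nat.card D := Nat.mul_le_mul_right _ hp.out.two_le
        have : 0 < Nat.card D := Nat.card_pos
        omega
      have h1 := card_sup_zpowers (p := p) (D := D) (fun d hd => hAc d (hD hd) e₁ he₁) (hAp e₁ he₁)
      obtain ⟨e₂, he₂, he₂'⟩ : ∃ e ∈ A, e ∉ D ⊔ Subgroup.zpowers e₁ :=
        SetLike.not_le_iff_exists.1 fun h => by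
          have := Subgroup.card_le_of_le h
          rw [mul_comm] at h1
          omega
      have hc : Commute e₂ e₁ := hAc e₂ he₂ e₁ he₁
      have hKD : A ≤ Subgroup.normalizer
          ((K ⊓ Subgroup.centralizer (D : Set G) : Subgroup G) : Set G) :=
        CoprimeAction.le_normalizer_inf hAK fun a ha =>
          Subgroup.le_normalizer (show a ∈ Subgroup.centralizer (D : Set G) from
            fun d hd => hAc d (hD hd) a ha)
      refine CoprimeGen.le_of_pair_centralizers (p := p) (a := e₂) (b := e₁)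
        ⟨hc, hAp e₂ he₂, hAp e₁ he₁, fun h => he₁' (h ▸ one_mem D),
          fun h => he₂' (Subgroup.mem_sup_right h), hKD he₂, hKD he₁⟩
        (fun hd => hp.out.one_lt.ne' (Nat.eq_one_of_dvd_coprimes hK
          (hd.trans (Subgroup.card_dvd_of_le inf_le_left)) dvd_rfl)) ?_
      intro e he he1
      have heA : e ∈ A := CoprimeGen.pairSubgroup_le he₂ he₁ he
      have heD : e ∉ D := by
        intro heD
        obtain ⟨i, j, rfl⟩ := CoprimeGen.mem_pairSubgroup_iff.1 he
        have hi : e₂ ^ i ∈ D ⊔ Subgroup.zpowers e₁ := by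
          have := mul_mem (Subgroup.mem_sup_left heD : _ ∈ D ⊔ Subgroup.zpowers e₁)
            (inv_mem (zpow_mem (Subgroup.mem_sup_right (Subgroup.mem_zpowers e₁)) j))
          rwa [mul_inv_cancel_right] at this
        rcases mem_of_zpow_mem (hAp e₂ he₂) i hi with h | h
        · rw [h, one_mul] at heD he1
          rcases mem_of_zpow_mem (hAp e₁ he₁) j heD with h' | h'
          · exact he1 h'
          · exact he₁' h'
        · exact he₂' h
      have hDA : D ⊔ Subgroup.zpowers e ≤ A := sup_le hD (Subgroup.zpowers_le.2 heA)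
      have hlt' : D < D ⊔ Subgroup.zpowers e :=
        lt_of_le_of_ne le_sup_left fun h =>
          heD (h ▸ Subgroup.mem_sup_right (Subgroup.mem_zpowers e))
      have hcard : Nat.card D < Nat.card ↥(D ⊔ Subgroup.zpowers e) := by
        refine lt_of_le_of_ne (Subgroup.card_le_of_le hlt'.le) fun h => hlt'.ne ?_
        exact Subgroup.eq_of_le_of_card_ge hlt'.le h.ge
      have h3 := card_sup_zpowers (p := p) (D := D) (fun d hd => hAc d (hD hd) e heA) (hAp e heA)
      have h4 : p * (p * Nat.card D) ≤ Nat.card A := by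
        obtain ⟨k, hk⟩ := ((Offenders.ea_isPGroup hA).to_le hD).exists_card_eq
        rw [hk, ← pow_succ', hN] at hlt
        rw [hk, ← pow_succ', ← pow_succ', hN]
        exact Nat.pow_le_pow_right hp.out.pos
          ((Nat.pow_lt_pow_iff_right hp.out.one_lt).1 hlt)
      refine le_trans ?_ (ih (D ⊔ Subgroup.zpowers e) hDA
        ((Nat.mul_le_mul_left p (h3.trans_eq (mul_comm _ _))).trans h4) (by omega))
      rintro x ⟨⟨hxK, hxD⟩, hxe⟩
      refine ⟨hxK, ?_⟩
      rw [centralizer_sup]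
      refine ⟨hxD, ?_⟩
      rintro _ ⟨i, rfl⟩
      exact ((show Commute x e from Subgroup.mem_centralizer_singleton_iff.1 hxe).zpow_right i).symm
  have h := key (Nat.card A) ⊥ bot_le (by rw [Subgroup.card_bot, mul_one]; exact h2.le)
    (Nat.sub_le _ _)
  refine le_trans (le_inf le_rfl ?_) h
  intro x _ z hz
  rw [SetLike.mem_coe, Subgroup.mem_bot] at hz
  rw [hz, one_mul, mul_one]

theorem isBestOffender_of_attains (hA : IsBestOffenderOn p V A) (hB : Attains V A B) :
    IsBestOffenderOn p V B :=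
  ⟨fun C hC => (hA.1 C (hC.trans hB.1)).trans hB.2.ge,
    (Subgroup.commutator_mono hB.1 hB.1).trans hA.2.1, fun b hb => hA.2.2 b (hB.1 hb)⟩

theorem p_mul_fixed_le [Finite G] [hp : Fact p.Prime] {C D : Subgroup G} (hD : IsPGroup p D)
    (hlt : C < D) : p * Nat.card C ≤ Nat.card D := by
  obtain ⟨i, hi⟩ := (hD.to_le hlt.le).exists_card_eq
  obtain ⟨j, hj⟩ := hD.exists_card_eq
  have h := Subgroup.card_le_of_le hlt.le
  have hne : Nat.card C ≠ Nat.card D := fun e => hlt.ne (Subgroup.eq_of_le_of_card_ge hlt.le e.ge)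
  rw [hi, hj] at h hne ⊢
  rw [← pow_succ']
  refine Nat.pow_le_pow_right hp.out.pos ?_
  exact (Nat.pow_lt_pow_iff_right hp.out.one_lt).1 (lt_of_le_of_ne h hne)

variable [Finite G] [hp : Fact p.Prime]

namespace Hyp

/-- A maximal subgroup avoiding `a` with more fixed points. -/
theorem exists_step (h : Hyp p V H) (hAH : A ≤ H) (hA : IsBestOffenderOn p V A)
    (h2 : p < Nat.card A) {a : G} (ha : a ∈ A) (ha1 : a ≠ 1) :
    ∃ B : Subgroup G, Attains V A B ∧ p * Nat.card B = Nat.card A ∧ a ∉ B := by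
  have hea := h.comm_offender hAH hA
  obtain ⟨hAc, hAp⟩ := (Offenders.ea_iff A).1 hea
  by_contra hno
  apply ha1
  refine eq_one_of_core (p := p) (H := H) (h.mem_core_of_commute (hAH ha) ?_) (hAp a ha)
  suffices core p H ≤ Subgroup.centralizer {a} from fun q hq =>
    Subgroup.mem_centralizer_singleton_iff.1 (this hq)
  refine le_of_hyperplanes hea (hAH.trans (core_normalized p H)) (coprime_core p H) h2
    fun B hBA hB => ?_
  by_cases haB : a ∈ B
  · rintro q ⟨-, hq⟩
    exact Subgroup.mem_centralizer_singleton_iff.2 (hq a haB).symm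
  have hfix : fixedIn V B = fixedIn V A := by
    by_contra hne
    have hlt : fixedIn V A < fixedIn V B :=
      lt_of_le_of_ne (fixedIn_antitone V hBA) (Ne.symm hne)
    have h1 := p_mul_fixed_le ((Offenders.ea_isPGroup h.ea).to_le inf_le_left) hlt
    refine hno ⟨B, ⟨hBA, le_antisymm (hA.1 B hBA) ?_⟩, hB, haB⟩
    calc Nat.card A * Nat.card ↥(fixedIn V A) = Nat.card B * (p * Nat.card ↥(fixedIn V A)) := by
          rw [← hB]; ring
      _ ≤ _ := Nat.mul_le_mul_left _ h1
  rintro q ⟨hqK, hqB⟩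
  rw [Subgroup.mem_centralizer_singleton_iff]
  refine commutatorElement_eq_one_iff_mul_comm.1
    (h.eq_one_of_fixed (hBA.trans hAH) (Offenders.ea_mono hea hBA) ?_ ?_ ?_)
  · rw [commutatorElement_def, mul_assoc q, mul_assoc q]
    exact mul_mem hqK ((Subgroup.mem_normalizer_iff.1 (core_normalized p H (hAH ha)) _).1
      (inv_mem hqK))
  · intro b hb
    have e1 : Commute b q := hqB b hb
    have e2 : Commute b a := hAc b (hBA hb) a ha
    exact ((e1.mul_right e2).mul_right e1.inv_right).mul_right e2.inv_right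
  · intro v hv
    rw [hfix] at hv
    have hva : Commute v a := (hv.2 a ha).symm
    have hw : q⁻¹ * v * q ∈ fixedIn V A := by
      rw [← hfix]
      refine ⟨?_, fun b hb => ?_⟩
      · simpa using h.conj_V (inv_mem (core_le p H hqK)) hv.1
      · have e1 : Commute b q := hqB b hb
        have e2 : Commute b v := by
          have := hfix.symm ▸ hv
          exact this.2 b hb
        exact (e1.inv_right.mul_right e2).mul_right e1
    have hwa : Commute (q⁻¹ * v * q) a := (hw.2 a ha).symm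
    rw [commutatorElement_def]
    calc v * (q * a * q⁻¹ * a⁻¹) = q * ((q⁻¹ * v * q) * a) * q⁻¹ * a⁻¹ := by group
      _ = q * (a * (q⁻¹ * v * q)) * q⁻¹ * a⁻¹ := by rw [hwa.eq]
      _ = q * a * q⁻¹ * (v * a⁻¹) := by group
      _ = q * a * q⁻¹ * (a⁻¹ * v) := by rw [hva.inv_right.eq]
      _ = q * a * q⁻¹ * a⁻¹ * v := by group

/-- Every nontrivial best offender realises exactly `|V|`. -/
theorem card_eq (h : Hyp p V H) (hAH : A ≤ H) (hA : IsBestOffenderOn p V A) (hA1 : A ≠ ⊥) :
    Nat.card A * Nat.card ↥(fixedIn V A) = Nat.card V := by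
  obtain ⟨n, hn⟩ : ∃ n, Nat.card A ≤ n := ⟨_, le_rfl⟩
  induction n generalizing A with
  | zero => exact absurd hn (by simp [Nat.card_pos.ne'])
  | succ n ih =>
    have hea := h.comm_offender hAH hA
    have hAp := Offenders.ea_isPGroup hea
    have hpA : p * 1 ≤ Nat.card A := by
      rw [← Subgroup.card_bot (G := G)]
      exact p_mul_fixed_le hAp (bot_lt_iff_ne_bot.2 hA1)
    rcases eq_or_lt_of_le hpA with h1 | h1
    · rw [mul_one] at h1
      refine le_antisymm ?_ ?_
      · have hlt : fixedIn V A < V := by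
          refine lt_of_le_of_ne inf_le_left fun e => hA1 (h.eq_bot_of_commutator hAH ?_)
          rw [Subgroup.commutator_eq_bot_iff_le_centralizer]
          exact fun v hv => (e.ge hv).2
        rw [← h1]
        exact p_mul_fixed_le (Offenders.ea_isPGroup h.ea) hlt
      · have := hA.1 ⊥ bot_le
        rw [Subgroup.card_bot, one_mul] at this
        refine le_trans (Subgroup.card_le_of_le (le_inf le_rfl ?_)) this
        intro x _ z hz
        rw [SetLike.mem_coe, Subgroup.mem_bot] at hz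
        rw [hz, one_mul, mul_one]
    · rw [mul_one] at h1
      obtain ⟨a, ha1⟩ := Subgroup.ne_bot_iff_exists_ne_one.1 hA1
      obtain ⟨B, hB, hcard, -⟩ := h.exists_step hAH hA h1 a.2 (fun e => ha1 (Subtype.ext e))
      rw [← hB.2]
      refine ih (hB.1.trans hAH) (isBestOffender_of_attains hA hB) (fun e => ?_) ?_
      · rw [e, Subgroup.card_bot, mul_one] at hcard
        omega
      · have : 2 * Nat.card B ≤ p * Nat.card B := Nat.mul_le_mul_right _ hp.out.two_le
        have : 0 < Nat.card B := Nat.card_pos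
        omega

theorem attains_of_offender (h : Hyp p V H) (hAH : A ≤ H) (hA : IsBestOffenderOn p V A)
    (hBA : B ≤ A) (hB : IsBestOffenderOn p V B) (hB1 : B ≠ ⊥) : Attains V A B := by
  have hA1 : A ≠ ⊥ := fun e => hB1 (le_bot_iff.1 (hBA.trans e.le))
  exact ⟨hBA, (h.card_eq (hBA.trans hAH) hB hB1).trans (h.card_eq hAH hA hA1).symm⟩

theorem minimal_card (h : Hyp p V H) (hAH : A ≤ H) (hA : IsMinimal p V A) : Nat.card A = p := by
  obtain ⟨hA, hne, hmin⟩ := hA
  have hA1 : A ≠ ⊥ := fun e => hne (by rw [e, Subgroup.commutator_bot_right])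
  have hea := h.comm_offender hAH hA
  have hpA : p * 1 ≤ Nat.card A := by
    rw [← Subgroup.card_bot (G := G)]
    exact p_mul_fixed_le (Offenders.ea_isPGroup hea) (bot_lt_iff_ne_bot.2 hA1)
  rcases eq_or_lt_of_le hpA with h1 | h1
  · rw [← h1, mul_one]
  exfalso
  rw [mul_one] at h1
  obtain ⟨a, ha1⟩ := Subgroup.ne_bot_iff_exists_ne_one.1 hA1
  obtain ⟨B, hB, hcard, haB⟩ := h.exists_step hAH hA h1 a.2 (fun e => ha1 (Subtype.ext e))
  have hB1 : B ≠ ⊥ := fun e => by
    rw [e, Subgroup.card_bot, mul_one] at hcard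
    omega
  exact haB ((hmin B hB.1 (isBestOffender_of_attains hA hB)
    (h.commutator_ne_bot (hB.1.trans hAH) hB1)).symm ▸ a.2)

theorem minimal_relIndex (h : Hyp p V H) (hAH : A ≤ H) (hA : IsMinimal p V A) :
    (fixedIn V A).relIndex V = p := by
  have h1 := h.card_eq hAH hA.1 fun e => hA.2.1 (by rw [e, Subgroup.commutator_bot_right])
  rw [h.minimal_card hAH hA, ← HallCore.card_mul_relIndex (inf_le_left : fixedIn V A ≤ V),
    mul_comm] at h1
  exact (Nat.eq_of_mul_eq_mul_left Nat.card_pos h1).symm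

theorem minimal_of_card (h : Hyp p V H) (hAH : A ≤ H) (hA : IsBestOffenderOn p V A)
    (hc : Nat.card A = p) : IsMinimal p V A := by
  refine ⟨hA, h.commutator_ne_bot hAH fun e => ?_, fun B hB _ hne => ?_⟩
  · rw [e, Subgroup.card_bot] at hc
    exact hp.out.one_lt.ne hc
  · have hd : Nat.card B ∣ p := hc ▸ Subgroup.card_dvd_of_le hB
    rcases (Nat.dvd_prime hp.out).1 hd with h1 | h1
    · exact absurd (by rw [Subgroup.card_eq_one.1 h1, Subgroup.commutator_bot_right]) hne
    · exact Subgroup.eq_of_le_of_card_ge hB (by rw [hc, h1])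

/-- A nontrivial best offender is the direct product of minimal ones. -/
theorem exists_decomp (h : Hyp p V H) (hAH : A ≤ H) (hA : IsBestOffenderOn p V A) (hA1 : A ≠ ⊥) :
    ∃ (k : ℕ) (B : Fin k → Subgroup G), (∀ i, B i ≤ A ∧ IsMinimal p V (B i)) ∧ iSupIndep B ∧
      ⨆ i, B i = A := by
  obtain ⟨n, hn⟩ : ∃ n, Nat.card A ≤ n := ⟨_, le_rfl⟩
  induction n generalizing A with
  | zero => exact absurd hn (by simp [Nat.card_pos.ne'])
  | succ n ih =>
    have hea := h.comm_offender hAH hA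
    have hAc := ((Offenders.ea_iff A).1 hea).1
    have hpA : p * 1 ≤ Nat.card A := by
      rw [← Subgroup.card_bot (G := G)]
      exact p_mul_fixed_le (Offenders.ea_isPGroup hea) (bot_lt_iff_ne_bot.2 hA1)
    rcases eq_or_lt_of_le hpA with h1 | h1
    · rw [mul_one] at h1
      refine ⟨1, fun _ => A, fun _ => ⟨le_rfl, h.minimal_of_card hAH hA h1.symm⟩, ?_, ?_⟩
      · intro i
        refine disjoint_bot_right.mono_right (iSup₂_le fun j hj => ?_)
        exact absurd (Subsingleton.elim j i) hj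
      · exact iSup_const
    rw [mul_one] at h1
    obtain ⟨a, ha1⟩ := Subgroup.ne_bot_iff_exists_ne_one.1 hA1
    obtain ⟨B, hB, hcard, haB⟩ := h.exists_step hAH hA h1 a.2 (fun e => ha1 (Subtype.ext e))
    have hBlt : Nat.card B ≤ n := by
      have : 2 * Nat.card B ≤ p * Nat.card B := Nat.mul_le_mul_right _ hp.out.two_le
      have : 0 < Nat.card B := Nat.card_pos
      omega
    have hB1 : B ≠ ⊥ := fun e => by
      rw [e, Subgroup.card_bot, mul_one] at hcard
      omega
    obtain ⟨k, f, hf, hind, hsup⟩ :=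
      ih (hB.1.trans hAH) (isBestOffender_of_attains hA hB) hB1 hBlt
    -- a minimal maximiser outside `B`
    obtain ⟨C, ⟨hC, hCB⟩, hCmin⟩ := Set.exists_min_image
      {C : Subgroup G | Attains V A C ∧ ¬ C ≤ B} (fun C => Nat.card C) (Set.toFinite _)
      ⟨A, attains_self V A, fun hle => haB (hle a.2)⟩
    have hC' := isBestOffender_of_attains hA hC
    have hC1 : C ≠ ⊥ := fun e => hCB (e ▸ bot_le)
    have hCH : C ≤ H := hC.1.trans hAH
    have hCp : Nat.card C = p := by
      have hpC : p * 1 ≤ Nat.card C := by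
        rw [← Subgroup.card_bot (G := G)]
        exact p_mul_fixed_le ((Offenders.ea_isPGroup hea).to_le hC.1) (bot_lt_iff_ne_bot.2 hC1)
      rcases eq_or_lt_of_le hpC with h2 | h2
      · rw [← h2, mul_one]
      exfalso
      rw [mul_one] at h2
      have hsmall : ∀ D : Subgroup G, Attains V C D → p * Nat.card D = Nat.card C → D ≤ B := by
        intro D hD hDc
        by_contra hDB
        have hle := hCmin D ⟨⟨hD.1.trans hC.1, hD.2.trans hC.2⟩, hDB⟩
        have : 2 * Nat.card D ≤ p * Nat.card D := Nat.mul_le_mul_right _ hp.out.two_le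
        have : 0 < Nat.card D := Nat.card_pos
        omega
      obtain ⟨c, hc1⟩ := Subgroup.ne_bot_iff_exists_ne_one.1 hC1
      obtain ⟨D₁, hD₁, hD₁c, -⟩ := h.exists_step hCH hC' h2 c.2 (fun e => hc1 (Subtype.ext e))
      obtain ⟨d, hd, hd1⟩ : ∃ d, d ∈ D₁ ∧ d ≠ 1 := by
        by_contra hno
        push Not at hno
        rw [(Subgroup.eq_bot_iff_forall D₁).2 hno, Subgroup.card_bot, mul_one] at hD₁c
        omega
      obtain ⟨D₂, hD₂, hD₂c, hd2⟩ := h.exists_step hCH hC' h2 (hD₁.1 hd) hd1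
      apply hCB
      have hlt : D₂ < D₁ ⊔ D₂ :=
        lt_of_le_of_ne le_sup_right fun e => hd2 (e ▸ Subgroup.mem_sup_left hd)
      have hle := p_mul_fixed_le
        ((Offenders.ea_isPGroup hea).to_le ((sup_le hD₁.1 hD₂.1).trans hC.1)) hlt
      have e : D₁ ⊔ D₂ = C :=
        Subgroup.eq_of_le_of_card_ge (sup_le hD₁.1 hD₂.1) (hD₂c ▸ hle)
      rw [← e]
      exact sup_le (hsmall D₁ hD₁ hD₁c) (hsmall D₂ hD₂ hD₂c)
    have hdisj : ∀ x ∈ C, x ∈ B → x = 1 := by
      intro x hxC hxB
      by_contra hx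
      apply hCB
      have hle : Subgroup.zpowers x ≤ C := Subgroup.zpowers_le.2 hxC
      have e : Subgroup.zpowers x = C := by
        refine Subgroup.eq_of_le_of_card_ge hle ?_
        rw [hCp, Nat.card_zpowers]
        rcases (Nat.dvd_prime hp.out).1 (hCp ▸ Subgroup.orderOf_dvd_natCard C hxC) with h3 | h3
        · exact absurd (orderOf_eq_one_iff.1 h3) hx
        · rw [h3]
      rw [← e]
      exact Subgroup.zpowers_le.2 hxB
    have hsupA : C ⊔ B = A := by
      refine Subgroup.eq_of_le_of_card_ge (sup_le hC.1 hB.1) ?_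
      have h3 := card_sup_mul_card_inf C B
        (le_normalizer_of_commute fun x hx y hy => hAc x (hC.1 hx) y (hB.1 hy))
      rw [(Subgroup.eq_bot_iff_forall (C ⊓ B)).2 fun x hx => hdisj x hx.1 hx.2, Subgroup.card_bot,
        mul_one] at h3
      rw [h3, hCp, hcard]
    refine ⟨k + 1, Fin.cons C f, fun i => ?_, ?_, ?_⟩
    · refine Fin.cases ?_ (fun j => ?_) i
      · rw [Fin.cons_zero]
        exact ⟨hC.1, h.minimal_of_card hCH hC' hCp⟩
      · rw [Fin.cons_succ]
        exact ⟨(hf j).1.trans hB.1, (hf j).2⟩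
    · have hfB : ∀ j, f j ≤ B := fun j => hsup ▸ le_iSup f j
      intro i
      refine Fin.cases ?_ (fun j => ?_) i
      · rw [Fin.cons_zero, disjoint_iff_inf_le]
        rintro x ⟨hxC, hx⟩
        refine Subgroup.mem_bot.2 (hdisj x hxC ?_)
        refine (show (⨆ (l) (_ : l ≠ (0 : Fin (k + 1))), (Fin.cons C f : Fin (k + 1) → Subgroup G) l) ≤ B
          from iSup₂_le fun l hl => ?_) hx
        obtain ⟨m, rfl⟩ := Fin.exists_succ_eq.2 hl
        rw [Fin.cons_succ]
        exact hfB m
      · rw [Fin.cons_succ, disjoint_iff_inf_le]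
        rintro x ⟨hxj, hx⟩
        set W := ⨆ (m) (_ : m ≠ j), f m with hW
        have hWB : W ≤ B := iSup₂_le fun m _ => hfB m
        have hle : (⨆ (l) (_ : l ≠ j.succ), (Fin.cons C f : Fin (k + 1) → Subgroup G) l) ≤ C ⊔ W := by
          refine iSup₂_le fun l hl => ?_
          rcases Fin.eq_zero_or_eq_succ l with rfl | ⟨m, rfl⟩
          · rw [Fin.cons_zero]; exact le_sup_left
          · rw [Fin.cons_succ]
            exact le_sup_of_le_right (le_iSup₂ (f := fun m (_ : m ≠ j) => f m) m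
              fun e => hl (e ▸ rfl))
        have hx' := hle hx
        rw [← SetLike.mem_coe, Subgroup.coe_mul_of_left_le_normalizer_right C W
          (le_normalizer_of_commute fun u hu w hw =>
            hAc u (hC.1 hu) w (hB.1 (hWB hw)))] at hx'
        obtain ⟨c, hc, w, hw, rfl⟩ := hx'
        have hcB : c ∈ B := by
          have h4 := mul_mem (hfB j hxj) (inv_mem (hWB hw))
          rwa [mul_inv_cancel_right] at h4
        have e1 : c * w = w := by rw [hdisj c hc hcB, one_mul]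
        show c * w ∈ (⊥ : Subgroup G)
        rw [e1]
        exact (hind j).le_bot ⟨e1 ▸ hxj, hw⟩
    · apply le_antisymm
      · refine iSup_le fun i => Fin.cases ?_ (fun j => ?_) i
        · rw [Fin.cons_zero]; exact hC.1
        · rw [Fin.cons_succ]; exact (hf j).1.trans hB.1
      · rw [← hsupA]
        refine sup_le ?_ (hsup ▸ iSup_le fun j => ?_)
        · exact le_iSup_of_le 0 (by rw [Fin.cons_zero])
        · exact le_iSup_of_le j.succ (by rw [Fin.cons_succ])

end Hyp

/-- `v ↦ [v, a]` on an abelian `V` normalised by `a`. -/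
def commHom {V : Subgroup G} (hV : ∀ x ∈ V, ∀ y ∈ V, x * y = y * x) {a : G}
    (ha : a ∈ Subgroup.normalizer (V : Set G)) : V →* V :=
  MonoidHom.mk' (fun v => ⟨⁅(v : G), a⁆, by
    rw [commutatorElement_def, mul_assoc (v : G), mul_assoc (v : G)]
    exact mul_mem v.2 ((Subgroup.mem_normalizer_iff.1 ha _).1 (inv_mem v.2))⟩) fun v w => by
    apply Subtype.ext
    show ⁅(v : G) * w, a⁆ = ⁅(v : G), a⁆ * ⁅(w : G), a⁆
    have h1 : a * (v : G)⁻¹ * a⁻¹ ∈ V := (Subgroup.mem_normalizer_iff.1 ha _).1 (inv_mem v.2)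
    have h2 : ⁅(w : G), a⁆ ∈ V := by
      rw [commutatorElement_def, mul_assoc (w : G), mul_assoc (w : G)]
      exact mul_mem w.2 ((Subgroup.mem_normalizer_iff.1 ha _).1 (inv_mem w.2))
    calc ⁅(v : G) * w, a⁆ = v * (⁅(w : G), a⁆ * (a * (v : G)⁻¹ * a⁻¹)) := by
          simp only [commutatorElement_def]; group
      _ = v * ((a * (v : G)⁻¹ * a⁻¹) * ⁅(w : G), a⁆) := by rw [hV _ h2 _ h1]
      _ = _ := by simp only [commutatorElement_def]; group

namespace Hyp

/-- `[V, ⟨a⟩]` is the image of `v ↦ [v, a]` and has order `|V : C_V(a)|`. -/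
theorem commutator_zpowers (h : Hyp p V H) {a : G} (ha : a ∈ H) :
    ⁅V, Subgroup.zpowers a⁆ =
        (commHom (fun _ hx _ hy => h.comm_V hx hy) (h.norm ha)).range.map V.subtype ∧
      Nat.card ↥(⁅V, Subgroup.zpowers a⁆) = (fixedIn V (Subgroup.zpowers a)).relIndex V := by
  set f := commHom (fun _ hx _ hy => h.comm_V hx hy) (h.norm ha) with hf
  set R := f.range.map V.subtype with hR
  have hRV : R ≤ V := Subgroup.map_subtype_le _
  have hinv : ∀ x ∈ R, a * x * a⁻¹ ∈ R := by
    rintro _ ⟨_, ⟨v, rfl⟩, rfl⟩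
    exact ⟨_, ⟨⟨a * v * a⁻¹, h.conj_V ha v.2⟩, rfl⟩, by
      show ⁅a * (v : G) * a⁻¹, a⁆ = a * ⁅(v : G), a⁆ * a⁻¹
      simp only [commutatorElement_def]; group⟩
  have haR : a ∈ Subgroup.normalizer (R : Set G) :=
    CoprimeAction.le_normalizer_of_conj_mem (A := Subgroup.zpowers a) (B := R) (fun b hb x hx => by
      obtain ⟨k, rfl⟩ : ∃ k : ℕ, a ^ k = b := by
        have := (isOfFinOrder_of_finite a).mem_powers_iff_mem_zpowers.2 hb
        exact this
      clear hb
      induction k with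
      | zero => simpa using hx
      | succ k ih =>
        have e : a ^ (k + 1) * x * (a ^ (k + 1))⁻¹ = a * (a ^ k * x * (a ^ k)⁻¹) * a⁻¹ := by
          rw [pow_succ']; group
        rw [e]; exact hinv _ ih) (Subgroup.mem_zpowers a)
  have key : ∀ v ∈ V, ∀ k : ℕ, ⁅v, a ^ k⁆ ∈ R := by
    intro v hv k
    induction k with
    | zero => rw [pow_zero, commutatorElement_one_right]; exact one_mem R
    | succ k ih =>
      have e : ⁅v, a ^ (k + 1)⁆ = ⁅v, a⁆ * (a * ⁅v, a ^ k⁆ * a⁻¹) := by
        rw [pow_succ']; simp only [commutatorElement_def]; group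
      rw [e]
      exact mul_mem ⟨_, ⟨⟨v, hv⟩, rfl⟩, rfl⟩ ((Subgroup.mem_normalizer_iff.1 haR _).1 ih)
  have e : ⁅V, Subgroup.zpowers a⁆ = R := by
    apply le_antisymm
    · rw [Subgroup.commutator_le]
      intro v hv b hb
      obtain ⟨k, rfl⟩ : ∃ k : ℕ, a ^ k = b :=
        (isOfFinOrder_of_finite a).mem_powers_iff_mem_zpowers.2 hb
      exact key v hv k
    · rintro _ ⟨_, ⟨v, rfl⟩, rfl⟩
      exact Subgroup.commutator_mem_commutator v.2 (Subgroup.mem_zpowers a)
  refine ⟨e, ?_⟩
  rw [e, hR, Subgroup.card_map_of_injective V.subtype_injective, ← Subgroup.index_ker,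
    Subgroup.relIndex]
  congr 1
  ext v
  rw [MonoidHom.mem_ker, Subgroup.mem_subgroupOf]
  constructor
  · intro hv
    refine ⟨v.2, ?_⟩
    rintro _ ⟨i, rfl⟩
    exact ((show Commute (v : G) a from
      commutatorElement_eq_one_iff_mul_comm.1 (congrArg Subtype.val hv)).zpow_right i).symm
  · intro hv
    exact Subtype.ext (commutatorElement_eq_one_iff_mul_comm.2
      (hv.2 a (Subgroup.mem_zpowers a)).symm)

theorem minimal_eq_zpowers (h : Hyp p V H) (hAH : A ≤ H) (hA : IsMinimal p V A) :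
    ∃ a ∈ A, a ≠ 1 ∧ A = Subgroup.zpowers a := by
  have hc := h.minimal_card hAH hA
  obtain ⟨a, ha⟩ := exists_prime_orderOf_dvd_card' p (dvd_of_eq hc.symm)
  refine ⟨a, a.2, fun e => ?_, (Subgroup.eq_of_le_of_card_ge (Subgroup.zpowers_le.2 a.2) ?_).symm⟩
  · rw [show a = 1 from Subtype.ext e, orderOf_one] at ha
    exact hp.out.one_lt.ne ha
  · rw [hc, Nat.card_zpowers, Subgroup.orderOf_coe, ha]

theorem minimal_commutator (h : Hyp p V H) (hAH : A ≤ H) (hA : IsMinimal p V A) :
    Nat.card ↥(⁅V, A⁆) = p := by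
  obtain ⟨a, ha, -, e⟩ := h.minimal_eq_zpowers hAH hA
  have h1 := h.minimal_relIndex hAH hA
  rw [e] at h1 ⊢
  rw [(h.commutator_zpowers (hAH ha)).2, h1]

/-- `H` is generated by minimal offenders. -/
theorem le_iSup_minimal (h : Hyp p V H)
    (hgen : H = ⨆ A : {A : Subgroup G // A ≤ H ∧ IsBestOffenderOn p V A}, (A : Subgroup G)) :
    H ≤ ⨆ A : {A : Subgroup G // A ≤ H ∧ IsMinimal p V A}, (A : Subgroup G) := by
  conv_lhs => rw [hgen]
  refine iSup_le fun A => ?_
  rcases eq_or_ne (A : Subgroup G) ⊥ with e | e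
  · rw [e]; exact bot_le
  obtain ⟨k, B, hB, -, hs⟩ := h.exists_decomp A.2.1 A.2.2 e
  rw [← hs]
  exact iSup_le fun i => le_iSup (fun C : {A : Subgroup G // A ≤ H ∧ IsMinimal p V A} =>
    (C : Subgroup G)) ⟨B i, (hB i).1.trans A.2.1, (hB i).2⟩

end Hyp

end Cfsg.Agent.OffendersFF
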