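import Mathlib

/-!
Klein's orbit count for a finite group in which every non-identity element fixes one or two points.
This is the numerical heart of Dickson's theorem on the subgroups of `PGL(2,q)`.
-/

set_option autoImplicit false
set_option linter.unusedSectionVars false

namespace Cfsg.Agent.DicksonCount

variable {H X : Type*} [Group H] [MulAction H X]

/-- The elements fixing exactly the point `x`. -/
def uni (H : Type*) {X : Type*} [Group H] [MulAction H X] (x : X) : Set H :=
  {g | g ≠ 1 ∧ ∀ y, g • y = y ↔ y = x}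

/-- One more than the number of elements fixing exactly `x`. -/
noncomputable def uP (H : Type*) {X : Type*} [Group H] [MulAction H X] (x : X) : ℕ :=
  Nat.card (uni H x) + 1

theorem uP_smul (h : H) (x : X) : uP H (h • x) = uP H x := by
  have key : ∀ (a : H) (z : X), ∀ g ∈ uni H z, a * g * a⁻¹ ∈ uni H (a • z) := by
    rintro a z g ⟨hg1, hg⟩
    refine ⟨fun e => hg1 ?_, fun y => ?_⟩
    · have := congrArg (fun t => a⁻¹ * t * a) e
      simpa [mul_assoc] using this
    · rw [mul_smul, mul_smul, ← eq_inv_smul_iff, hg, inv_smul_eq_iff]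
  refine congrArg (· + 1) (Nat.card_congr ?_)
  exact
    { toFun := fun g => ⟨h⁻¹ * g.1 * h, by simpa using key h⁻¹ (h • x) g.1 g.2⟩
      invFun := fun g => ⟨h * g.1 * h⁻¹, key h x g.1 g.2⟩
      left_inv := fun g => Subtype.ext (by simp [mul_assoc])
      right_inv := fun g => Subtype.ext (by simp [mul_assoc]) }

theorem card_stab_smul (h : H) (x : X) :
    Nat.card (MulAction.stabilizer H (h • x)) = Nat.card (MulAction.stabilizer H x) :=
  (Nat.card_congr (MulAction.stabilizerEquivStabilizer (g := h) rfl).toEquiv).symm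

/-- The weight of a point. -/
noncomputable def wt (H : Type*) {X : Type*} [Group H] [MulAction H X] (x : X) : ℕ :=
  (Nat.card (MulAction.stabilizer H x) - 1) + (uP H x - 1)

/-- The orbit as a finset. -/
noncomputable def orb (H : Type*) {X : Type*} [Group H] [MulAction H X] [Finite X] (x : X) :
    Finset X :=
  (MulAction.orbit H x).toFinite.toFinset

theorem mem_orb [Finite X] {x y : X} : y ∈ orb H x ↔ y ∈ MulAction.orbit H x := by simp [orb]

theorem card_orb [Finite X] (x : X) : (orb H x).card = Nat.card (MulAction.orbit H x) := by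
  rw [Nat.card_coe_set_eq, orb, Set.ncard_eq_toFinset_card]

theorem sum_orb [Finite X] (x : X) :
    ∑ y ∈ orb H x, wt H y = Nat.card (MulAction.orbit H x) * wt H x := by
  rw [Finset.sum_congr rfl (fun y hy => ?_), Finset.sum_const, card_orb, smul_eq_mul]
  obtain ⟨h, rfl⟩ := mem_orb.mp hy
  show wt H (h • x) = wt H x
  rw [wt, wt, uP_smul, card_stab_smul]

variable [Finite H] [Finite X]

/-- Double counting of fixed points. -/
theorem sum_wt [Fintype X] (hne : ∀ g : H, g ≠ 1 → ∃ x : X, g • x = x)
    (h3 : ∀ (g : H) (a b c : X), a ≠ b → a ≠ c → b ≠ c → g • a = a → g • b = b → g • c = c → g = 1) :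
    ∑ x : X, wt H x = 2 * (Nat.card H - 1) := by
  classical
  cases nonempty_fintype H
  let f : H → X → ℕ := fun g x => (if g • x = x then 1 else 0) + (if g ∈ uni H x then 1 else 0)
  have hg : ∀ g ∈ (Finset.univ : Finset H).erase 1, ∑ x : X, f g x = 2 := by
    intro g hg
    have hg1 : g ≠ 1 := (Finset.mem_erase.mp hg).1
    obtain ⟨a, ha⟩ := hne g hg1
    by_cases hb : ∃ b, b ≠ a ∧ g • b = b
    · obtain ⟨b, hba, hb⟩ := hb
      have hfix : ∀ y, g • y = y ↔ y ∈ ({a, b} : Finset X) := by
        intro y
        constructor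
        · intro hy
          by_contra h
          simp only [Finset.mem_insert, Finset.mem_singleton, not_or] at h
          exact hg1 (h3 g a b y hba.symm (Ne.symm h.1) (Ne.symm h.2) ha hb hy)
        · intro h
          simp only [Finset.mem_insert, Finset.mem_singleton] at h
          rcases h with rfl | rfl <;> assumption
      have hnu : ∀ y, g ∉ uni H y := fun y hy => hba (((hy.2 b).mp hb).trans ((hy.2 a).mp ha).symm)
      simp only [f, hnu, if_false, add_zero, hfix, Finset.sum_boole, Finset.filter_univ_mem]
      simp [Finset.card_pair hba.symm]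
    · push Not at hb
      have hfix : ∀ y, g • y = y ↔ y = a :=
        fun y => ⟨fun hy => by by_contra h; exact hb y h hy, fun h => h ▸ ha⟩
      have hu : ∀ y, g ∈ uni H y ↔ y = a :=
        fun y => ⟨fun hy => ((hy.2 a).mp ha).symm, fun h => h ▸ ⟨hg1, hfix⟩⟩
      simp [f, hfix, hu, Finset.sum_add_distrib]
  have hx : ∀ x : X, ∑ g ∈ (Finset.univ : Finset H).erase 1, f g x = wt H x := by
    intro x
    have e1 : ((Finset.univ : Finset H).erase 1).filter (fun g => g • x = x) =
        ((Finset.univ : Finset H).filter (fun g => g • x = x)).erase 1 := by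
      ext g; simp
    have e2 : ((Finset.univ : Finset H).erase 1).filter (fun g => g ∈ uni H x) =
        (Finset.univ : Finset H).filter (fun g => g ∈ uni H x) := by
      ext g
      simp only [Finset.mem_filter, Finset.mem_erase, Finset.mem_univ, true_and, and_true]
      exact ⟨fun h => h.2, fun h => ⟨h.1, h⟩⟩
    simp only [f, Finset.sum_add_distrib, Finset.sum_boole, Nat.cast_id, e1, e2]
    rw [Finset.card_erase_of_mem (by simp), wt, uP, Nat.add_sub_cancel, Nat.card_coe_set_eq,
      ← Fintype.card_subtype, ← Fintype.card_subtype, ← Nat.card_eq_fintype_card,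
      ← Nat.card_eq_fintype_card, ← Nat.card_coe_set_eq]
    rfl
  rw [← Finset.sum_congr rfl (fun x _ => hx x), Finset.sum_comm, Finset.sum_congr rfl hg,
    Finset.sum_const, smul_eq_mul, Finset.card_erase_of_mem (Finset.mem_univ _), Finset.card_univ,
    Nat.card_eq_fintype_card, mul_comm]

theorem three_cases {N a b c i j l : ℕ} (hN : a + b + c = N + 2) (ha : a * i = N) (hb : b * j = N)
    (hc : c * l = N) (hc3 : 3 ≤ c) (hi : 2 ≤ i) (hij : i ≤ j) (hjl : j ≤ l) :
    N = 12 ∨ N = 24 ∨ N = 60 := by
  have hab : 0 < a ∧ 0 < b := by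
    constructor <;> rcases Nat.eq_zero_or_pos N with h | h
    all_goals first
      | (exfalso; subst h; simp at hc; omega)
      | (by_contra h0; simp only [not_lt, Nat.le_zero] at h0; subst h0; simp at ha hb; omega)
  have hi2 : i = 2 := by
    by_contra h
    have : 3 * a ≤ N := by rw [← ha, mul_comm]; exact Nat.mul_le_mul le_rfl (by omega)
    have : 3 * b ≤ N := by rw [← hb, mul_comm]; exact Nat.mul_le_mul le_rfl (by omega)
    have : 3 * c ≤ N := by rw [← hc, mul_comm]; exact Nat.mul_le_mul le_rfl (by omega)
    omega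
  subst hi2
  have hj : j = 3 := by
    by_contra h
    have hj' : j = 2 ∨ 4 ≤ j := by omega
    rcases hj' with rfl | hj'
    · omega
    · have : 4 * b ≤ N := by rw [← hb, mul_comm]; exact Nat.mul_le_mul le_rfl (by omega)
      have : 4 * c ≤ N := by rw [← hc, mul_comm]; exact Nat.mul_le_mul le_rfl (by omega)
      omega
  subst hj
  have hl : l ≤ 5 := by
    by_contra h
    have : 6 * c ≤ N := by rw [← hc, mul_comm]; exact Nat.mul_le_mul le_rfl (by omega)
    omega
  interval_cases l <;> omega

theorem parabolic_cases {P k n t j e : ℕ} (hP : 2 ≤ P) (hk : k ∣ P - 1) (hn : n = t * P + 1)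
    (hn3 : 3 ≤ n) (hj : j = n * (P - 2) + 2) (hj3 : 3 ≤ j) (he : j * e = n * (k * P)) :
    (3 ≤ P ∧ n = P + 1 ∧ (k = P - 1 ∨ 2 * k = P - 1)) ∨ (P = 3 ∧ n * (k * P) = 60) := by
  have hP3 : 3 ≤ P := by
    by_contra h
    have : P = 2 := by omega
    subst this
    simp at hj
    omega
  obtain ⟨R, rfl⟩ : ∃ R, P = R + 2 := ⟨P - 2, by omega⟩
  simp only [Nat.add_sub_cancel, show R + 2 - 1 = R + 1 by omega] at hj hk ⊢
  have hk0 : 0 < k := Nat.pos_of_dvd_of_pos hk (Nat.succ_pos _)
  have ht : 1 ≤ t := by
    rcases Nat.eq_zero_or_pos t with rfl | h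
    · omega
    · exact h
  set D := t * R + 1 with hD
  have hnD : n = D + 2 * t := by rw [hn, hD]; ring
  have hjD : j = (R + 2) * D := by rw [hj, hn, hD]; ring
  have h1 : D * e = n * k := by
    apply Nat.eq_of_mul_eq_mul_left (show 0 < R + 2 by omega)
    rw [← mul_assoc, ← hjD, he]; ring
  have h2 : D ∣ 2 * t * k := by
    have h : D ∣ n * k := ⟨e, h1.symm⟩
    rw [hnD, add_mul] at h
    exact (Nat.dvd_add_right (dvd_mul_right D k)).mp h
  have h3 : D ∣ 2 * k := by
    have hcop : Nat.Coprime D t := by
      rw [hD, Nat.coprime_mul_left_add_left]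
      exact Nat.coprime_one_left t
    refine hcop.dvd_of_dvd_mul_left (m := t) ?_
    rwa [← mul_assoc, mul_comm t 2]
  have hle : D ≤ 2 * k := Nat.le_of_dvd (by omega) h3
  have hkle : k ≤ R + 1 := Nat.le_of_dvd (Nat.succ_pos _) hk
  by_cases ht1 : t = 1
  · subst ht1
    left
    refine ⟨hP3, by omega, ?_⟩
    obtain ⟨b, hb⟩ := hk
    obtain ⟨a, ha⟩ := h3
    rw [hD, one_mul, hb] at ha
    have : b * a = 2 := by nlinarith
    have hb2 : b ≤ 2 := by nlinarith
    have hb0 : 0 < b := Nat.pos_of_ne_zero fun h => by subst h; simp at this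
    interval_cases b
    · left; omega
    · right; omega
  · right
    have hR : R = 1 := by
      by_contra hR1
      have : 2 ≤ R := by omega
      have ht2 : t = 2 := by
        by_contra h
        have h3t : 3 * R ≤ t * R := Nat.mul_le_mul (by omega) le_rfl
        omega
      subst ht2
      have hodd : Nat.Coprime D 2 := by
        rw [hD, Nat.coprime_mul_left_add_left]
        exact Nat.coprime_one_left 2
      have := Nat.le_of_dvd hk0 (hodd.dvd_of_dvd_mul_left h3)
      omega
    subst hR
    have hkk : k ≤ 2 := hkle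
    have ht3 : t ≤ 3 := by omega
    interval_cases t <;> interval_cases k <;> simp_all

/-- **Klein's count.** Under the fixed point axioms, if every orbit has more than two points then
the order is 12, 24 or 60, or some point `x` has orbit of size `P + 1`, `P = uP H x ≥ 3`, and
stabiliser of order `P k` with `k = P - 1` or `2k = P - 1`.  In the first case either all `uP` are
one, or the order is 60 and some `uP` is three. -/
theorem classification (hN : 1 < Nat.card H)
    (hne : ∀ g : H, g ≠ 1 → ∃ x : X, g • x = x)
    (h3 : ∀ (g : H) (a b c : X), a ≠ b → a ≠ c → b ≠ c → g • a = a → g • b = b → g • c = c → g = 1)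
    (hk : ∀ x : X, ∃ k, Nat.card (MulAction.stabilizer H x) = uP H x * k ∧ k ∣ uP H x - 1)
    (hfree : ∀ x : X, uP H x ∣ Nat.card (MulAction.orbit H x) - 1)
    (horb : ∀ x : X, 3 ≤ Nat.card (MulAction.orbit H x)) :
    ((Nat.card H = 12 ∨ Nat.card H = 24 ∨ Nat.card H = 60) ∧ ∀ x : X, uP H x = 1) ∨
      (Nat.card H = 60 ∧ ∃ x : X, uP H x = 3) ∨
      ∃ (x : X) (k : ℕ), 3 ≤ uP H x ∧ Nat.card (MulAction.orbit H x) = uP H x + 1 ∧
        Nat.card (MulAction.stabilizer H x) = uP H x * k ∧
        (k = uP H x - 1 ∨ 2 * k = uP H x - 1) := by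
  classical
  cases nonempty_fintype X
  set N := Nat.card H with hNdef
  let T : Finset X := Finset.univ.filter fun x => 1 < Nat.card (MulAction.stabilizer H x)
  have hzero : ∀ x, x ∉ T → wt H x = 0 := by
    intro x hx
    simp only [T, Finset.mem_filter, Finset.mem_univ, true_and, not_lt] at hx
    obtain ⟨k, hk1, -⟩ := hk x
    have hpos : 0 < Nat.card (MulAction.stabilizer H x) := Nat.card_pos
    have : uP H x = 1 := Nat.eq_one_of_mul_eq_one_right (hk1.symm.trans (by omega))
    rw [wt, this]; omega
  have htotal : ∑ x ∈ T, wt H x = 2 * (N - 1) := by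
    rw [← sum_wt hne h3]
    exact Finset.sum_subset (Finset.subset_univ _) (fun x _ hx => hzero x hx)
  -- facts about one orbit
  have hos : ∀ x : X, Nat.card (MulAction.orbit H x) * Nat.card (MulAction.stabilizer H x) = N :=
    fun x => by rw [← Nat.card_prod]; exact Nat.card_congr (MulAction.orbitProdStabilizerEquivGroup H x)
  have hmemT : ∀ {x}, x ∈ T ↔ 1 < Nat.card (MulAction.stabilizer H x) := fun {x} => by simp [T]
  have hsub : ∀ x ∈ T, orb H x ⊆ T := by
    intro x hx y hy
    obtain ⟨h, rfl⟩ := mem_orb.mp hy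
    rw [hmemT, card_stab_smul]
    exact hmemT.mp hx
  have hbound : ∀ x ∈ T, N ≤ 2 * (Nat.card (MulAction.orbit H x) * wt H x) ∧
      (2 ≤ uP H x → N ≤ Nat.card (MulAction.orbit H x) * wt H x) := by
    intro x hx
    have hs := hmemT.mp hx
    constructor
    · rw [← hos x, wt, mul_left_comm 2]
      exact Nat.mul_le_mul le_rfl (by omega)
    · intro hP
      rw [← hos x, wt]
      exact Nat.mul_le_mul le_rfl (by omega)
  have split : ∀ (S : Finset X) (x : X), orb H x ⊆ S →
      ∑ y ∈ S, wt H y = Nat.card (MulAction.orbit H x) * wt H x + ∑ y ∈ S \ orb H x, wt H y := by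
    intro S x h
    rw [← Finset.sum_sdiff h, sum_orb, add_comm]
  have hdiff : ∀ (S : Finset X), (∀ z ∈ S, orb H z ⊆ S) → ∀ x : X,
      ∀ z ∈ S \ orb H x, orb H z ⊆ S \ orb H x := by
    intro S hS x z hz y hy
    rw [Finset.mem_sdiff] at hz ⊢
    refine ⟨hS z hz.1 hy, fun hy' => hz.2 ?_⟩
    rw [mem_orb, ← MulAction.orbit_eq_iff.mpr (mem_orb.mp hy')]
    exact MulAction.mem_orbit_symm.mp (mem_orb.mp hy)
  by_cases hpar : ∃ x ∈ T, 2 ≤ uP H x
  · obtain ⟨x, hx, hPx⟩ := hpar
    rw [split T x (hsub x hx)] at htotal
    have hb1 := (hbound x hx).2 hPx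
    obtain ⟨k, hks, hkd⟩ := hk x
    have hN' := hos x
    have hn3 := horb x
    obtain ⟨t, ht⟩ := hfree x
    rcases (T \ orb H x).eq_empty_or_nonempty with he | ⟨y, hy⟩
    · exfalso
      rw [he, Finset.sum_empty, add_zero, wt, hks] at htotal
      rw [hks] at hN'
      obtain ⟨R, hR⟩ : ∃ R, uP H x = R + 2 := ⟨uP H x - 2, by omega⟩
      rw [hR] at htotal hN'
      have hk0 : 0 < k := by
        rcases Nat.eq_zero_or_pos k with h | h
        · subst h; simp at hN'; omega
        · exact h
      obtain ⟨S, hS⟩ : ∃ S, (R + 2) * k = S + 1 := ⟨(R + 2) * k - 1, by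
        have : 1 ≤ (R + 2) * k := Nat.mul_pos (by omega) hk0
        omega⟩
      rw [hS] at htotal hN'
      simp only [Nat.add_sub_cancel, show R + 2 - 1 = R + 1 by omega] at htotal
      have e : Nat.card (MulAction.orbit H x) * (S + (R + 1)) + 2 =
          2 * (Nat.card (MulAction.orbit H x) * (S + 1)) := by rw [hN']; omega
      have hRS : R ≤ S := by nlinarith
      obtain ⟨D, hD⟩ := Nat.exists_eq_add_of_le hRS
      subst hD
      have : Nat.card (MulAction.orbit H x) * (D + 1) = 2 := by nlinarith
      nlinarith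
    · have hyT : y ∈ T := (Finset.mem_sdiff.mp hy).1
      rw [split _ y (hdiff T hsub x y hy)] at htotal
      have hPy : uP H y = 1 := by
        by_contra h
        have := (hbound y hyT).2 (by rw [uP] at h ⊢; omega)
        omega
      have hT2 : ((T \ orb H x) \ orb H y) = ∅ := by
        rw [Finset.eq_empty_iff_forall_notMem]
        intro z hz
        rw [split _ z (hdiff _ (hdiff T hsub x) y z hz)] at htotal
        have := (hbound z ((Finset.mem_sdiff.mp (Finset.mem_sdiff.mp hz).1).1)).1
        have := (hbound y hyT).1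
        omega
      rw [hT2, Finset.sum_empty, add_zero] at htotal
      have hjy := horb y
      have hey := hos y
      have hsy := hmemT.mp hyT
      rw [wt, wt, hks, hPy] at htotal
      rw [hks] at hN'
      obtain ⟨s', hs'⟩ : ∃ s', Nat.card (MulAction.stabilizer H y) = s' + 1 := ⟨_, (Nat.succ_pred_eq_of_pos Nat.card_pos).symm⟩
      rw [hs'] at htotal hey
      set n := Nat.card (MulAction.orbit H x)
      set j := Nat.card (MulAction.orbit H y)
      set P := uP H x
      obtain ⟨R, hR⟩ : ∃ R, P = R + 2 := ⟨P - 2, by omega⟩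
      have hk0 : 0 < k := by
        rcases Nat.eq_zero_or_pos k with h | h
        · subst h; simp at hN'; omega
        · exact h
      obtain ⟨S, hS⟩ : ∃ S, P * k = S + 1 := ⟨P * k - 1, by
        have : 1 ≤ P * k := Nat.mul_pos (by omega) hk0
        omega⟩
      have hj : j = n * (P - 2) + 2 := by
        rw [hR, Nat.add_sub_cancel]
        rw [hS, hR] at htotal
        rw [hS] at hN'
        simp only [Nat.add_sub_cancel, Nat.sub_self, add_zero,
          show R + 2 - 1 = R + 1 by omega] at htotal
        have e : n * (S + (R + 1)) + j * s' + 2 = 2 * N := by omega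
        nlinarith
      rcases parabolic_cases (P := P) (k := k) (n := n) (t := t) (j := j) (e := s' + 1) hPx hkd
        (by rw [mul_comm t P]; omega) hn3 hj hjy (by rw [hey, mul_comm k P, hN']) with ⟨a, b, c⟩ | h60
      · exact Or.inr (Or.inr ⟨x, k, a, b, hks, c⟩)
      · right; left
        exact ⟨by rw [← hN', mul_comm P k]; exact h60.2, x, h60.1⟩
  · push Not at hpar
    left
    refine ⟨?_, fun x => ?_⟩
    swap
    · by_cases hx : x ∈ T
      · have := hpar x hx; rw [uP] at this ⊢; omega
      · simp only [T, Finset.mem_filter, Finset.mem_univ, true_and, not_lt] at hx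
        obtain ⟨k, hk1, -⟩ := hk x
        have hpos : 0 < Nat.card (MulAction.stabilizer H x) := Nat.card_pos
        exact Nat.eq_one_of_mul_eq_one_right (hk1.symm.trans (by omega))
    have hsemi : ∀ x ∈ T, Nat.card (MulAction.orbit H x) * wt H x +
        Nat.card (MulAction.orbit H x) = N ∧ 2 ≤ Nat.card (MulAction.stabilizer H x) := by
      intro x hx
      have hs := hmemT.mp hx
      have hP : uP H x = 1 := by have := hpar x hx; rw [uP] at this ⊢; omega
      refine ⟨?_, hs⟩
      rw [wt, hP, Nat.sub_self, add_zero, ← Nat.mul_succ, Nat.succ_eq_add_one,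
        Nat.sub_add_cancel (by omega), hos]
    rcases T.eq_empty_or_nonempty with he | ⟨a, ha⟩
    · rw [he, Finset.sum_empty] at htotal; omega
    rw [split T a (hsub a ha)] at htotal
    obtain ⟨ea, hsa⟩ := hsemi a ha
    rcases (T \ orb H a).eq_empty_or_nonempty with he | ⟨b, hb⟩
    · rw [he, Finset.sum_empty] at htotal
      have := horb a
      omega
    rw [split _ b (hdiff T hsub a b hb)] at htotal
    have hbT : b ∈ T := (Finset.mem_sdiff.mp hb).1
    obtain ⟨eb, hsb⟩ := hsemi b hbT
    rcases ((T \ orb H a) \ orb H b).eq_empty_or_nonempty with he | ⟨c, hc⟩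
    · rw [he, Finset.sum_empty] at htotal
      have := horb a
      have := horb b
      omega
    rw [split _ c (hdiff _ (hdiff T hsub a) b c hc)] at htotal
    have hcT : c ∈ T := (Finset.mem_sdiff.mp (Finset.mem_sdiff.mp hc).1).1
    obtain ⟨ec, hsc⟩ := hsemi c hcT
    have he : (((T \ orb H a) \ orb H b) \ orb H c) = ∅ := by
      rw [Finset.eq_empty_iff_forall_notMem]
      intro d hd
      rw [split _ d (hdiff _ (hdiff _ (hdiff T hsub a) b) c d hd)] at htotal
      have hdT : d ∈ T :=
        (Finset.mem_sdiff.mp (Finset.mem_sdiff.mp (Finset.mem_sdiff.mp hd).1).1).1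
      have := (hbound a ha).1
      have := (hbound b hbT).1
      have := (hbound c hcT).1
      have := (hbound d hdT).1
      omega
    rw [he, Finset.sum_empty] at htotal
    have hsum : Nat.card (MulAction.orbit H a) + Nat.card (MulAction.orbit H b) +
        Nat.card (MulAction.orbit H c) = N + 2 := by omega
    have h1 := horb a
    have h2 := horb b
    have h3' := horb c
    have hA := hos a
    have hB := hos b
    have hC := hos c
    set na := Nat.card (MulAction.orbit H a)
    set nb := Nat.card (MulAction.orbit H b)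
    set nc := Nat.card (MulAction.orbit H c)
    set i := Nat.card (MulAction.stabilizer H a)
    set j := Nat.card (MulAction.stabilizer H b)
    set l := Nat.card (MulAction.stabilizer H c)
    rcases le_total i j with hij | hij <;> rcases le_total j l with hjl | hjl <;>
      rcases le_total i l with hil | hil
    all_goals first
      | exact three_cases (a := na) (b := nb) (c := nc) (by omega) hA hB hC (by omega) (by omega) hij hjl
      | exact three_cases (a := na) (b := nc) (c := nb) (by omega) hA hC hB (by omega) (by omega) hil hjl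
      | exact three_cases (a := nb) (b := na) (c := nc) (by omega) hB hA hC (by omega) (by omega) hij hil
      | exact three_cases (a := nb) (b := nc) (c := na) (by omega) hB hC hA (by omega) (by omega) hjl hil
      | exact three_cases (a := nc) (b := na) (c := nb) (by omega) hC hA hB (by omega) (by omega) hil hij
      | exact three_cases (a := nc) (b := nb) (c := na) (by omega) hC hB hA (by omega) (by omega) hjl hij

end Cfsg.Agent.DicksonCount
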