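import Mathlib
import Cfsg.Agent.Lib.DicksonCount

/-!
`PGL(2,K)` on the projective line `OnePoint K`, and the fixed point axioms of Klein's count for a
subgroup each of whose elements has a fixed point.
-/

set_option autoImplicit false
set_option linter.unusedSectionVars false

open scoped MatrixGroups Classical
open Matrix OnePoint

namespace Cfsg.Agent.DicksonLine

open Matrix.ProjGenLinGroup (mk mk_eq_mk_iff)

variable {K : Type*} [Field K]

theorem scalar_smul (u : Kˣ) (a : OnePoint K) : GeneralLinearGroup.scalar (Fin 2) u • a = a := by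
  cases a with
  | infty => simp [smul_infty_eq_ite]
  | coe c => simp [smul_some_eq_ite]

/-- The action of `PGL(2,K)` on the projective line. -/
noncomputable instance lineAction : MulAction (Matrix.ProjGenLinGroup (Fin 2) K) (OnePoint K) :=
  Matrix.ProjGenLinGroup.mulActionOfGL scalar_smul

theorem mk_smul (g : GL (Fin 2) K) (a : OnePoint K) : mk g • a = g • a := rfl

instance finite_pgl [Finite K] : Finite (Matrix.ProjGenLinGroup (Fin 2) K) :=
  Finite.of_surjective _ Matrix.ProjGenLinGroup.mk_surjective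

/-- The matrix of an affine map. -/
noncomputable def affGL (m : Kˣ) (b : K) : GL (Fin 2) K :=
  GeneralLinearGroup.mkOfDetNeZero !![(m : K), b; 0, 1] (by simp [det_fin_two])

/-- The affine map `z ↦ m z + b`. -/
noncomputable def aff (m : Kˣ) (b : K) : Matrix.ProjGenLinGroup (Fin 2) K := mk (affGL m b)

theorem affGL_coe (m : Kˣ) (b : K) :
    (affGL m b : Matrix (Fin 2) (Fin 2) K) = !![(m : K), b; 0, 1] := rfl

theorem aff_smul_coe (m : Kˣ) (b z : K) :
    aff m b • (z : OnePoint K) = ((m * z + b : K) : OnePoint K) := by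
  rw [aff, mk_smul, smul_some_eq_ite]
  simp [affGL_coe]

theorem aff_smul_infty (m : Kˣ) (b : K) : aff m b • (∞ : OnePoint K) = ∞ := by
  rw [aff, mk_smul, smul_infty_eq_ite]
  simp [affGL_coe]

theorem aff_mul (m n : Kˣ) (b c : K) : aff m b * aff n c = aff (m * n) (m * c + b) := by
  rw [aff, aff, aff, ← map_mul]
  congr 1
  apply Units.ext
  simp [affGL_coe, Matrix.mul_fin_two, Units.val_mul]

theorem aff_one : aff (1 : Kˣ) 0 = 1 := by
  rw [aff, ← map_one (mk (n := Fin 2) (R := K))]
  congr 1
  apply Units.ext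
  simp [affGL_coe, Matrix.one_fin_two]

theorem aff_inj {m n : Kˣ} {b c : K} (h : aff m b = aff n c) : m = n ∧ b = c := by
  have h0 := congrArg (fun g => g • ((0 : K) : OnePoint K)) h
  have h1 := congrArg (fun g => g • ((1 : K) : OnePoint K)) h
  simp only [aff_smul_coe, OnePoint.coe_eq_coe, mul_zero, zero_add, mul_one] at h0 h1
  subst h0
  exact ⟨Units.ext (add_right_cancel h1), rfl⟩

theorem aff_inv (m : Kˣ) (b : K) : (aff m b)⁻¹ = aff m⁻¹ (-((m⁻¹ : Kˣ) : K) * b) := by
  apply inv_eq_of_mul_eq_one_right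
  rw [aff_mul, mul_inv_cancel, ← aff_one]
  congr 1
  rw [neg_mul, mul_neg, ← mul_assoc, ← Units.val_mul, mul_inv_cancel, Units.val_one, one_mul,
    neg_add_cancel]

theorem aff_conj (m : Kˣ) (b a : K) :
    aff m b * aff 1 a * (aff m b)⁻¹ = aff 1 ((m : K) * a) := by
  rw [mul_inv_eq_iff_eq_mul, aff_mul, aff_mul, mul_one, one_mul, Units.val_one, one_mul,
    add_comm]

/-- The stabiliser of `∞` consists of the affine maps. -/
theorem exists_aff {g : Matrix.ProjGenLinGroup (Fin 2) K} (h : g • (∞ : OnePoint K) = ∞) :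
    ∃ (m : Kˣ) (b : K), g = aff m b := by
  induction g using Matrix.ProjGenLinGroup.induction_on with | mk g =>
  rw [mk_smul, smul_infty_eq_self_iff] at h
  have hd := g.det_ne_zero
  rw [det_fin_two, h, mul_zero, sub_zero, mul_ne_zero_iff] at hd
  refine ⟨Units.mk0 (g 0 0 / g 1 1) (div_ne_zero hd.1 hd.2), g 0 1 / g 1 1, ?_⟩
  rw [aff, mk_eq_mk_iff]
  refine ⟨Units.mk0 (g 1 1)⁻¹ (inv_ne_zero hd.2), Units.ext ?_⟩
  ext i j
  fin_cases i <;> fin_cases j <;>
    simp [affGL_coe, h, hd.2, Matrix.mul_apply, Fin.sum_univ_two, div_eq_mul_inv]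

/-- Every point can be moved to `∞`. -/
theorem exists_smul_eq_infty (x : OnePoint K) :
    ∃ c : Matrix.ProjGenLinGroup (Fin 2) K, c • x = ∞ := by
  cases x with
  | infty => exact ⟨1, one_smul _ _⟩
  | coe a =>
    refine ⟨mk (GeneralLinearGroup.mkOfDetNeZero !![0, 1; 1, -a] (by simp [det_fin_two])), ?_⟩
    rw [mk_smul, smul_some_eq_ite]
    simp

theorem eq_one_of_three {g : Matrix.ProjGenLinGroup (Fin 2) K} {a b c : OnePoint K} (hab : a ≠ b)
    (hac : a ≠ c) (hbc : b ≠ c) (ha : g • a = a) (hb : g • b = b) (hc : g • c = c) : g = 1 := by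
  obtain ⟨s, hs⟩ := exists_smul_eq_infty a
  have conj : ∀ y : OnePoint K, g • y = y → (s * g * s⁻¹) • (s • y) = s • y := fun y hy => by
    rw [mul_smul, mul_smul, inv_smul_smul, hy]
  have key : s * g * s⁻¹ = 1 := by
    have h1 := conj a ha
    have h2 := conj b hb
    have h3 := conj c hc
    rw [hs] at h1
    obtain ⟨m, u, e⟩ := exists_aff h1
    rw [e] at h2 h3 ⊢
    have hfin : ∀ y, y ≠ a → ∃ z : K, s • y = (z : OnePoint K) := fun y hy =>
      (OnePoint.ne_infty_iff_exists.mp fun e => hy (MulAction.injective s (e.trans hs.symm))).imp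
        fun z hz => hz.symm
    obtain ⟨y, hy⟩ := hfin b hab.symm
    obtain ⟨z, hz⟩ := hfin c hac.symm
    have hyz : y ≠ z := fun e => hbc (MulAction.injective s (show s • b = s • c by rw [hy, hz, e]))
    rw [hy, aff_smul_coe, OnePoint.coe_eq_coe] at h2
    rw [hz, aff_smul_coe, OnePoint.coe_eq_coe] at h3
    have : ((m : K) - 1) * (y - z) = 0 := by linear_combination h2 - h3
    have hm : m = 1 := Units.ext (sub_eq_zero.mp
      ((mul_eq_zero.mp this).resolve_right (sub_ne_zero.mpr hyz)))
    subst hm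
    have hu : u = 0 := by simpa using h2
    rw [hu, aff_one]
  have := congrArg (fun t => s⁻¹ * t * s) key
  simpa [mul_assoc] using this

/-- The order of a group acting freely divides the number of points. -/
theorem dvd_card_of_free {G Y : Type*} [Group G] [MulAction G Y] [Finite Y]
    (h : ∀ (g : G) (y : Y), g • y = y → g = 1) : Nat.card G ∣ Nat.card Y := by
  have e := MulAction.selfEquivOrbitsQuotientProd (G := G) (X := Y) fun y => by
    ext g
    simp only [MulAction.mem_stabilizer_iff, Subgroup.mem_bot]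
    exact ⟨h g y, fun e => by rw [e, one_smul]⟩
  exact ⟨_, by rw [Nat.card_congr e, Nat.card_prod, mul_comm]⟩

section axioms

variable {H : Subgroup (Matrix.ProjGenLinGroup (Fin 2) K)} {x : OnePoint K}
  {c : Matrix.ProjGenLinGroup (Fin 2) K}

theorem exists_aff_conj (hc : c • x = ∞) (g : MulAction.stabilizer H x) :
    ∃ (m : Kˣ) (b : K), c * ((g : H) : Matrix.ProjGenLinGroup (Fin 2) K) * c⁻¹ = aff m b := by
  refine exists_aff ?_
  rw [← hc, mul_smul, mul_smul, inv_smul_smul]
  exact congrArg (c • ·) g.2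

/-- The multiplier of the elements of the stabiliser of a point sent to `∞` by `c`. -/
noncomputable def mult (hc : c • x = ∞) : MulAction.stabilizer H x →* Kˣ :=
  MonoidHom.mk' (fun g => (exists_aff_conj hc g).choose) (by
    intro g h
    obtain ⟨u, hu⟩ := (exists_aff_conj hc g).choose_spec
    obtain ⟨v, hv⟩ := (exists_aff_conj hc h).choose_spec
    obtain ⟨w, hw⟩ := (exists_aff_conj hc (g * h)).choose_spec
    have e : c * (((g * h : MulAction.stabilizer H x) : H) :
        Matrix.ProjGenLinGroup (Fin 2) K) * c⁻¹ =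
        (c * ((g : H) : Matrix.ProjGenLinGroup (Fin 2) K) * c⁻¹) *
          (c * ((h : H) : Matrix.ProjGenLinGroup (Fin 2) K) * c⁻¹) := by
      simp [mul_assoc]
    rw [hu, hv, hw, aff_mul] at e
    exact (aff_inj e).1)

theorem mult_spec (hc : c • x = ∞) (g : MulAction.stabilizer H x) :
    ∃ b : K, c * ((g : H) : Matrix.ProjGenLinGroup (Fin 2) K) * c⁻¹ = aff (mult hc g) b :=
  (exists_aff_conj hc g).choose_spec

theorem mult_eq_of_conj (hc : c • x = ∞) (g : MulAction.stabilizer H x) {m : Kˣ} {b : K}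
    (h : c * ((g : H) : Matrix.ProjGenLinGroup (Fin 2) K) * c⁻¹ = aff m b) : mult hc g = m := by
  obtain ⟨b', hb'⟩ := mult_spec hc g
  exact (aff_inj (hb'.symm.trans h)).1

/-- A non-identity stabilising element fixes only `x` iff its multiplier is `1`. -/
theorem mem_uni_iff (hc : c • x = ∞) (g : MulAction.stabilizer H x) :
    (g : H) ∈ DicksonCount.uni H x ↔ g ≠ 1 ∧ mult hc g = 1 := by
  obtain ⟨b, hb⟩ := mult_spec hc g
  have hfix : ∀ y : OnePoint K, (g : H) • y = y ↔ aff (mult hc g) b • (c • y) = c • y := by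
    intro y
    rw [← hb, mul_smul, mul_smul, inv_smul_smul, smul_left_cancel_iff]
    rfl
  have hg1 : (g : H) = 1 ↔ g = 1 := by simp
  constructor
  · rintro ⟨hne, huniq⟩
    refine ⟨fun e => hne (hg1.mpr e), by_contra fun hm => ?_⟩
    have hm' : (1 : K) - mult hc g ≠ 0 := fun e =>
      hm (Units.ext (sub_eq_zero.mp e).symm)
    have h : (g : H) • (c⁻¹ • ((b / (1 - mult hc g) : K) : OnePoint K)) =
        c⁻¹ • ((b / (1 - mult hc g) : K) : OnePoint K) := by
      rw [hfix, smul_inv_smul, aff_smul_coe, OnePoint.coe_eq_coe]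
      field_simp
      ring
    rw [huniq, inv_smul_eq_iff, hc] at h
    exact OnePoint.coe_ne_infty _ h
  · rintro ⟨hne, hm⟩
    refine ⟨fun e => hne (hg1.mp e), fun y => ?_⟩
    rw [hfix, hm]
    constructor
    · intro h
      refine MulAction.injective c (Eq.trans ?_ hc.symm)
      cases hy : c • y with
      | infty => exact hy
      | coe z =>
        rw [hy, aff_smul_coe, OnePoint.coe_eq_coe, Units.val_one, one_mul] at h
        have hb0 : b = 0 := by simpa using h
        rw [hm, hb0, aff_one] at hb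
        refine absurd ?_ hne
        rw [← hg1]
        have := congrArg (fun t => c⁻¹ * t * c) hb
        exact Subtype.ext (by simpa [mul_assoc] using this)
    · rintro rfl
      rw [hc, aff_smul_infty]

theorem card_ker_mult [Finite H] (hc : c • x = ∞) :
    Nat.card (mult (H := H) hc).ker = DicksonCount.uP H x := by
  have hmem : ∀ h ∈ DicksonCount.uni H x, h ∈ MulAction.stabilizer H x :=
    fun h hh => (hh.2 x).mpr rfl
  have e : DicksonCount.uni H x ≃ {g : (mult (H := H) hc).ker // g ≠ 1} :=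
    { toFun := fun h => ⟨⟨⟨h.1, hmem _ h.2⟩, ((mem_uni_iff hc ⟨h.1, hmem _ h.2⟩).mp h.2).2⟩,
        fun e => h.2.1 (congrArg (fun t : (mult (H := H) hc).ker =>
          ((t : MulAction.stabilizer H x) : H)) e)⟩
      invFun := fun g => ⟨((g.1 : MulAction.stabilizer H x) : H), (mem_uni_iff hc _).mpr
        ⟨fun e => g.2 (Subtype.ext e), g.1.2⟩⟩
      left_inv := fun h => rfl
      right_inv := fun g => rfl }
  rw [DicksonCount.uP, Nat.card_congr e]
  cases nonempty_fintype (mult (H := H) hc).ker
  rw [Nat.card_eq_fintype_card, Nat.card_eq_fintype_card, Fintype.card_subtype_compl,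
    Fintype.card_subtype_eq]
  have := Fintype.card_pos (α := (mult (H := H) hc).ker)
  omega

theorem card_stab [Finite H] (hc : c • x = ∞) :
    Nat.card (MulAction.stabilizer H x) =
      DicksonCount.uP H x * Nat.card (mult (H := H) hc).range := by
  rw [← card_ker_mult hc, ← Subgroup.index_ker, Subgroup.card_mul_index]

variable (H) in
/-- The nonzero translation parameters of `H` at `∞` after moving by `c`. -/
def transSet (c : Matrix.ProjGenLinGroup (Fin 2) K) : Set K :=
  {a | a ≠ 0 ∧ c⁻¹ * aff 1 a * c ∈ H}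

theorem conj_mem_stab (hc : c • x = ∞) {a : K} (h : c⁻¹ * aff 1 a * c ∈ H) :
    (⟨_, h⟩ : H) ∈ MulAction.stabilizer H x := by
  show (c⁻¹ * aff 1 a * c) • x = x
  rw [mul_smul, mul_smul, hc, aff_smul_infty, ← hc, inv_smul_smul]

theorem mult_smul_mem (hc : c • x = ∞) (m : (mult (H := H) hc).range) {a : K}
    (ha : a ∈ transSet H c) : ((m : Kˣ) : K) * a ∈ transSet H c := by
  obtain ⟨g, hg⟩ := m.2
  obtain ⟨b, hb⟩ := mult_spec hc g
  rw [hg] at hb
  refine ⟨mul_ne_zero (Units.ne_zero _) ha.1, ?_⟩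
  rw [← aff_conj (m : Kˣ) b a, ← hb]
  simpa [mul_assoc] using H.mul_mem (H.mul_mem (g : H).2 ha.2) (H.inv_mem (g : H).2)

theorem card_transSet [Finite H] (hc : c • x = ∞) :
    Nat.card (transSet H c) + 1 = DicksonCount.uP H x := by
  rw [DicksonCount.uP]
  refine congrArg (· + 1) (Nat.card_congr (Equiv.ofBijective
    (fun a : transSet H c => (⟨⟨_, a.2.2⟩, ?_⟩ : DicksonCount.uni H x)) ⟨?_, ?_⟩))
  · have hm : mult hc ⟨_, conj_mem_stab hc a.2.2⟩ = 1 :=
      mult_eq_of_conj hc _ (b := a.1) (by simp [mul_assoc])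
    refine (mem_uni_iff hc ⟨_, conj_mem_stab hc a.2.2⟩).mpr ⟨fun e => a.2.1 ?_, hm⟩
    have h : c⁻¹ * aff 1 a.1 * c = 1 := congrArg (fun t : MulAction.stabilizer H x =>
      ((t : H) : Matrix.ProjGenLinGroup (Fin 2) K)) e
    have h' : aff 1 a.1 = aff 1 0 := by
      rw [aff_one]
      simpa [mul_assoc] using congrArg (fun t => c * t * c⁻¹) h
    exact (aff_inj h').2
  · intro a b h
    have h' := congrArg (fun t : DicksonCount.uni H x =>
      ((t : H) : Matrix.ProjGenLinGroup (Fin 2) K)) h
    simp only [mul_left_inj, mul_right_inj] at h'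
    exact Subtype.ext (aff_inj h').2
  · rintro ⟨g, hg⟩
    have hs : g ∈ MulAction.stabilizer H x := (hg.2 x).mpr rfl
    obtain ⟨hne, hm⟩ := (mem_uni_iff hc ⟨g, hs⟩).mp hg
    obtain ⟨b, hb⟩ := mult_spec hc ⟨g, hs⟩
    rw [hm] at hb
    have hg' : c⁻¹ * aff 1 b * c = (g : Matrix.ProjGenLinGroup (Fin 2) K) := by
      rw [← hb]; simp [mul_assoc]
    refine ⟨⟨b, fun e => ?_, by rw [hg']; exact g.2⟩, Subtype.ext (Subtype.ext hg')⟩
    rw [e, aff_one] at hg'
    exact hne (Subtype.ext (Subtype.ext (by simpa using hg'.symm)))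

/-- The multiplier group has order dividing the number of non-identity translations. -/
theorem card_range_dvd [Finite H] (hc : c • x = ∞) :
    Nat.card (mult (H := H) hc).range ∣ DicksonCount.uP H x - 1 := by
  have : Finite (transSet H c) := Finite.of_injective
    (fun a : transSet H c => (⟨_, a.2.2⟩ : H)) fun a b h => Subtype.ext (aff_inj
      (mul_left_cancel (mul_right_cancel (congrArg Subtype.val h)))).2
  letI : MulAction (mult (H := H) hc).range (transSet H c) :=
    { smul := fun m a => ⟨((m : Kˣ) : K) * a.1, mult_smul_mem hc m a.2⟩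
      one_smul := fun a => Subtype.ext (one_mul a.1)
      mul_smul := fun m n a => Subtype.ext (mul_assoc _ _ _) }
  rw [← card_transSet hc, Nat.add_sub_cancel]
  refine dvd_card_of_free fun m a h => ?_
  have e : ((m : Kˣ) : K) * a.1 = a.1 := congrArg Subtype.val h
  exact Subtype.ext (Units.ext (mul_right_cancel₀ a.2.1 (e.trans (one_mul _).symm)))

end axioms

/-- The fixed point axioms of Klein's count. -/
theorem count_hk (H : Subgroup (Matrix.ProjGenLinGroup (Fin 2) K)) [Finite H] (x : OnePoint K) :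
    ∃ k, Nat.card (MulAction.stabilizer H x) = DicksonCount.uP H x * k ∧
      k ∣ DicksonCount.uP H x - 1 := by
  obtain ⟨c, hc⟩ := exists_smul_eq_infty x
  exact ⟨_, card_stab hc, card_range_dvd hc⟩

theorem count_hfree (H : Subgroup (Matrix.ProjGenLinGroup (Fin 2) K)) [Finite H] (x : OnePoint K) :
    DicksonCount.uP H x ∣ Nat.card (MulAction.orbit H x) - 1 := by
  obtain ⟨c, hc⟩ := exists_smul_eq_infty x
  let Y := {y : OnePoint K // y ∈ MulAction.orbit H x ∧ y ≠ x}
  have hfin : (MulAction.orbit H x).Finite := Set.finite_range _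
  have : Finite Y := (hfin.subset fun y hy => hy.1).to_subtype
  letI : MulAction (mult (H := H) hc).ker Y :=
    { smul := fun g y => ⟨((g : MulAction.stabilizer H x) : H) • y.1,
        (MulAction.mem_orbit_of_mem_orbit _ y.2.1), fun e => y.2.2 (by
          have hx : ((g : MulAction.stabilizer H x) : H) • x = x := g.1.2
          exact MulAction.injective _ (e.trans hx.symm))⟩
      one_smul := fun y => Subtype.ext (one_smul H y.1)
      mul_smul := fun g h y => Subtype.ext (mul_smul _ _ y.1) }
  have h := dvd_card_of_free (G := (mult (H := H) hc).ker) (Y := Y) fun g y h => by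
    by_contra hg
    have hu := (mem_uni_iff hc g.1).mpr ⟨fun e => hg (Subtype.ext e), g.2⟩
    exact y.2.2 ((hu.2 y.1).mp (congrArg Subtype.val h))
  rw [card_ker_mult hc] at h
  refine h.trans (dvd_of_eq ?_)
  show Nat.card {y // y ∈ MulAction.orbit H x ∧ y ≠ x} = _
  rw [show Nat.card {y // y ∈ MulAction.orbit H x ∧ y ≠ x} =
    (MulAction.orbit H x \ {x}).ncard from Nat.card_coe_set_eq _,
    Set.ncard_diff_singleton_of_mem (MulAction.mem_orbit_self x), Nat.card_coe_set_eq]

theorem count_h3 (H : Subgroup (Matrix.ProjGenLinGroup (Fin 2) K)) (g : H) (a b c : OnePoint K)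
    (hab : a ≠ b) (hac : a ≠ c) (hbc : b ≠ c) (ha : g • a = a) (hb : g • b = b) (hc : g • c = c) :
    g = 1 :=
  Subtype.ext (eq_one_of_three hab hac hbc ha hb hc)

end Cfsg.Agent.DicksonLine
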