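import Mathlib
import Cfsg.Agent.Lib.DicksonLine
import Cfsg.Agent.Lib.PSLCard
import Cfsg.Agent.Lib.PSLSimple

/-!
The subfield case of Dickson's theorem: a subgroup of `PGL(2,K)` with an orbit of size `P + 1`
and stabiliser of order `P k`, `P = uP`, `k ≥ (P - 1) / 2`, is `PSL(2,R)` or `PGL(2,R)`.
-/

set_option autoImplicit false
set_option linter.unusedSectionVars false

open scoped MatrixGroups Classical
open Matrix OnePoint

namespace Cfsg.Agent.DicksonSubfield

open Matrix.ProjGenLinGroup (mk mk_eq_mk_iff)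
open Cfsg.Agent.DicksonLine

section pglmap

variable {R K : Type*} [Field R] [Field K]

theorem pglMap_injective (f : R →+* K) :
    Function.Injective (Matrix.ProjGenLinGroup.map (n := Fin 2) f) := by
  rw [injective_iff_map_eq_one]
  intro g hg
  induction g using Matrix.ProjGenLinGroup.induction_on with | mk g =>
  rw [Matrix.ProjGenLinGroup.map_mk, Matrix.ProjGenLinGroup.mk_eq_one,
    GeneralLinearGroup.center_eq_range_scalar] at hg
  obtain ⟨u, hu⟩ := hg
  have e : ∀ i j, f (g i j) = if i = j then (u : K) else 0 := fun i j => by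
    have := congrArg (fun t : GL (Fin 2) K => (t : Matrix (Fin 2) (Fin 2) K) i j) hu
    simpa [Matrix.diagonal_apply] using this.symm
  have h00 : g 0 0 ≠ 0 := fun h => by
    have := e 0 0
    rw [h, map_zero, if_pos rfl] at this
    exact u.ne_zero this.symm
  rw [Matrix.ProjGenLinGroup.mk_eq_one, GeneralLinearGroup.center_eq_range_scalar]
  refine ⟨Units.mk0 _ h00, Units.ext ?_⟩
  ext i j
  apply f.injective
  rw [e]
  fin_cases i <;> fin_cases j <;> simp [Matrix.diagonal_apply, e]

theorem pglMap_aff (f : R →+* K) (m : Rˣ) (b : R) :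
    Matrix.ProjGenLinGroup.map f (aff m b) = aff (Units.map (f : R →* K) m) (f b) := by
  rw [aff, Matrix.ProjGenLinGroup.map_mk, aff]
  congr 1
  apply Units.ext
  ext i j
  fin_cases i <;> fin_cases j <;> simp [affGL_coe]

theorem pglMap_smul (f : R →+* K) (g : Matrix.ProjGenLinGroup (Fin 2) R) (x : OnePoint R) :
    OnePoint.map f (g • x) = Matrix.ProjGenLinGroup.map f g • OnePoint.map f x := by
  induction g using Matrix.ProjGenLinGroup.induction_on with | mk g =>
  exact OnePoint.map_smul f g x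

end pglmap

variable {K : Type*} [Field K]

/-- The map exchanging `0` and `∞` and sending `1` to `s`. -/
noncomputable def swap (s : Kˣ) : Matrix.ProjGenLinGroup (Fin 2) K :=
  mk (GeneralLinearGroup.mkOfDetNeZero !![0, (s : K); 1, 0] (by simp [det_fin_two]))

theorem exists_swap {g : Matrix.ProjGenLinGroup (Fin 2) K}
    (h0 : g • ((0 : K) : OnePoint K) = ∞) (hi : g • (∞ : OnePoint K) = ((0 : K) : OnePoint K)) :
    ∃ s : Kˣ, g = swap s ∧ g • ((1 : K) : OnePoint K) = ((s : K) : OnePoint K) := by
  induction g using Matrix.ProjGenLinGroup.induction_on with | mk g =>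
  have hd := g.det_ne_zero
  rw [mk_smul, smul_some_eq_ite] at h0
  split_ifs at h0 with h11
  · rw [mul_zero, zero_add] at h11
    rw [det_fin_two, h11, mul_zero, zero_sub, neg_ne_zero, mul_ne_zero_iff] at hd
    rw [mk_smul, smul_infty_eq_ite, if_neg hd.2, OnePoint.coe_eq_coe, div_eq_zero_iff,
      or_iff_left hd.2] at hi
    refine ⟨Units.mk0 (g 0 1 / g 1 0) (div_ne_zero hd.1 hd.2), ?_, ?_⟩
    · rw [swap, mk_eq_mk_iff]
      refine ⟨Units.mk0 (g 1 0)⁻¹ (inv_ne_zero hd.2), Units.ext ?_⟩
      ext i j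
      fin_cases i <;> fin_cases j <;>
        simp [h11, hi, hd.2, Matrix.mul_apply, Fin.sum_univ_two, div_eq_mul_inv]
    · rw [mk_smul, smul_some_eq_ite, h11, hi]
      simp [hd.2]
  · exact absurd h0 (OnePoint.coe_ne_infty _)

theorem swap_conj_aff (s : Kˣ) (r : K) :
    swap s * aff 1 r * (swap s)⁻¹ = mk (GeneralLinearGroup.mkOfDetNeZero !![1, 0; r / s, 1]
      (by simp [det_fin_two])) := by
  rw [mul_inv_eq_iff_eq_mul, swap, aff, ← map_mul, ← map_mul]
  congr 1
  apply Units.ext
  simp [affGL_coe, Units.val_mul]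

theorem pglMap_swap {R : Type*} [Field R] (f : R →+* K) (s : Rˣ) :
    Matrix.ProjGenLinGroup.map f (swap s) = swap (Units.map (f : R →* K) s) := by
  rw [swap, Matrix.ProjGenLinGroup.map_mk, swap]
  congr 1
  apply Units.ext
  ext i j
  fin_cases i <;> fin_cases j <;> simp

variable [Finite K]

/-- **The subfield case.** -/
theorem subfield_case (H : Subgroup (Matrix.ProjGenLinGroup (Fin 2) K)) {x : OnePoint K} {P k : ℕ}
    (hPdef : DicksonCount.uP H x = P) (hP : 3 ≤ P)
    (horbit : Nat.card (MulAction.orbit H x) = P + 1)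
    (hstab : Nat.card (MulAction.stabilizer H x) = P * k)
    (hk : k = P - 1 ∨ 2 * k = P - 1) :
    ∃ R : Subfield K, Nat.card R = P ∧
      (∃ c : Matrix.ProjGenLinGroup (Fin 2) K, H.map (MulAut.conj c).toMonoidHom ≤
        (Matrix.ProjGenLinGroup.map (n := Fin 2) R.subtype).range) ∧
      ((k = P - 1 ∧ Nonempty (H ≃* Matrix.ProjGenLinGroup (Fin 2) R)) ∨
        (2 * k = P - 1 ∧ Nonempty (H ≃* Matrix.ProjectiveSpecialLinearGroup (Fin 2) R))) := by
  -- coordinates: `x ↦ ∞`, another point of the orbit `↦ 0`, a translation `↦ z + 1`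
  obtain ⟨c₀, hc₀⟩ := exists_smul_eq_infty x
  obtain ⟨y, hy, hyx⟩ : ∃ y ∈ MulAction.orbit H x, y ≠ x := by
    by_contra h
    push Not at h
    have : MulAction.orbit H x ⊆ {x} := h
    have := Set.ncard_le_ncard this
    rw [Set.ncard_singleton, ← Nat.card_coe_set_eq] at this
    omega
  obtain ⟨y₀, hy₀⟩ : ∃ z : K, c₀ • y = (z : OnePoint K) :=
    (OnePoint.ne_infty_iff_exists.mp fun e =>
      hyx (MulAction.injective c₀ (e.trans hc₀.symm))).imp fun z hz => hz.symm
  have hc₁ : (aff 1 (-y₀) * c₀) • x = ∞ := by rw [mul_smul, hc₀, aff_smul_infty]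
  obtain ⟨a, ha⟩ : (transSet H (aff 1 (-y₀) * c₀)).Nonempty := by
    rw [Set.nonempty_iff_ne_empty]
    intro e
    have := card_transSet (H := H) hc₁
    rw [hPdef, e] at this
    simp at this
    omega
  set c₁ := aff 1 (-y₀) * c₀ with hc₁def
  set t : Kˣ := (Units.mk0 a ha.1)⁻¹ with ht
  set c := aff t 0 * c₁ with hcdef
  have hc : c • x = ∞ := by rw [hcdef, mul_smul, hc₁, aff_smul_infty]
  have hcy : c • y = ((0 : K) : OnePoint K) := by
    rw [hcdef, mul_smul, hc₁def, mul_smul, hy₀, aff_smul_coe, aff_smul_coe]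
    simp
  have hone : (1 : K) ∈ transSet H c := by
    refine ⟨one_ne_zero, ?_⟩
    have e : aff 1 (1 : K) = aff t 0 * aff 1 a * (aff t 0)⁻¹ := by
      rw [aff_conj, ht]
      simp [ha.1]
    rw [hcdef, e]
    simpa [mul_assoc] using ha.2
  -- the translation group
  let T : AddSubgroup K :=
    { carrier := {b | c⁻¹ * aff 1 b * c ∈ H}
      zero_mem' := by simp [aff_one, H.one_mem]
      add_mem' := fun {b d} hb hd => by
        have := H.mul_mem hb hd
        simpa [mul_assoc, aff_mul, ← mul_assoc (aff 1 b), add_comm] using this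
      neg_mem' := fun {b} hb => by
        have := H.inv_mem hb
        simpa [mul_assoc, aff_inv] using this }
  have hT : ∀ b, b ∈ T ↔ c⁻¹ * aff 1 b * c ∈ H := fun b => Iff.rfl
  have hTcard : Nat.card T = P := by
    rw [← hPdef, ← card_transSet (H := H) hc]
    have e : (T : Set K) = insert 0 (transSet H c) := by
      ext b
      rw [SetLike.mem_coe, hT, Set.mem_insert_iff]
      refine ⟨fun h => (em (b = 0)).imp id fun h0 => ⟨h0, h⟩, ?_⟩
      rintro (rfl | h)
      · simp [aff_one, H.one_mem]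
      · exact h.2
    have := congrArg Set.ncard e
    rw [Set.ncard_insert_of_notMem (fun h => h.1 rfl) (Set.toFinite _),
      ← Nat.card_coe_set_eq, ← Nat.card_coe_set_eq] at this
    exact this
  set M := (mult (H := H) hc).range with hM
  have hMcard : Nat.card M = k := by
    refine Nat.eq_of_mul_eq_mul_left (show 0 < P by omega) ?_
    rw [← hstab, card_stab hc, hPdef]
  have hMT : ∀ m ∈ M, ∀ b ∈ T, ((m : Kˣ) : K) * b ∈ T := by
    intro m hm b hb
    rcases eq_or_ne b 0 with rfl | hb0
    · rw [mul_zero]; exact T.zero_mem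
    · exact (mult_smul_mem hc ⟨m, hm⟩ ⟨hb0, hb⟩).2
  -- the multipliers of `T` form a subfield
  let R : Subfield K :=
    { carrier := {r | ∀ b ∈ T, r * b ∈ T}
      one_mem' := fun b hb => by rwa [one_mul]
      zero_mem' := fun b _ => by rw [zero_mul]; exact T.zero_mem
      mul_mem' := fun {r s} hr hs b hb => by rw [mul_assoc]; exact hr _ (hs b hb)
      add_mem' := fun {r s} hr hs b hb => by rw [add_mul]; exact T.add_mem (hr b hb) (hs b hb)
      neg_mem' := fun {r} hr b hb => by rw [neg_mul]; exact T.neg_mem (hr b hb)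
      inv_mem' := fun r hr b hb => by
        rcases eq_or_ne r 0 with rfl | hr0
        · rw [_root_.inv_zero, zero_mul]; exact T.zero_mem
        · have hinj : Function.Injective (fun b : T => (⟨r * b.1, hr b.1 b.2⟩ : T)) :=
            fun u v h => Subtype.ext (mul_left_cancel₀ hr0 (congrArg Subtype.val h))
          obtain ⟨d, hd⟩ := (Finite.injective_iff_surjective.mp hinj) ⟨b, hb⟩
          have hd' : r * d.1 = b := congrArg Subtype.val hd
          rw [← hd', inv_mul_cancel_left₀ hr0]
          exact d.2 }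
  have hRT : ∀ r ∈ R, r ∈ T := fun r hr => by simpa using hr 1 hone.2
  have hMR : ∀ m ∈ M, ((m : Kˣ) : K) ∈ R := fun m hm => hMT m hm
  have hkR : k + 1 ≤ Nat.card R := by
    have hinj : Function.Injective (fun o : Option M => (o.elim 0
        fun m => ⟨((m : Kˣ) : K), hMR _ m.2⟩ : R)) := by
      intro u v h
      have h' := congrArg Subtype.val h
      cases u <;> cases v
      · rfl
      · exact absurd h'.symm (Units.ne_zero _)
      · exact absurd h' (Units.ne_zero _)
      · exact congrArg Option.some (Subtype.ext (Units.ext h'))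
    have := Nat.card_le_card_of_injective _ hinj
    rwa [Finite.card_option, hMcard] at this
  have hRcard : Nat.card R = P := by
    have hle : (R : Set K) ⊆ T := hRT
    have hdvd : Nat.card R ∣ P := hTcard ▸ AddSubgroup.card_dvd_of_le
      (H := R.toSubring.toAddSubgroup) (K := T) hle
    obtain ⟨d, hd⟩ := hdvd
    rcases Nat.lt_or_ge d 2 with hd2 | hd2
    · interval_cases d
      · omega
      · rw [hd, mul_one]
    · have : Nat.card R * 2 ≤ P := hd ▸ Nat.mul_le_mul le_rfl hd2
      omega
  have hTR : ∀ b, b ∈ T → b ∈ R := by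
    have e : (R : Set K) = T := Set.eq_of_subset_of_ncard_le hRT (by
      rw [← Nat.card_coe_set_eq, ← Nat.card_coe_set_eq]
      exact (hTcard.trans hRcard.symm).le) (Set.toFinite _)
    exact fun b hb => e.ge hb
  -- the orbit is `{∞} ∪ R`
  set H' := H.map (MulAut.conj c).toMonoidHom with hH'
  have hmem : ∀ g, g ∈ H' ↔ c⁻¹ * g * c ∈ H := by
    intro g
    rw [hH', Subgroup.mem_map_equiv]
    simp [MulAut.conj_symm_apply]
  have haff : ∀ r ∈ R, aff 1 r ∈ H' := fun r hr => (hmem _).mpr (hRT r hr)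
  have horb : ∀ g ∈ H', g • (∞ : OnePoint K) = ∞ ∨
      ∃ r ∈ R, g • (∞ : OnePoint K) = ((r : K) : OnePoint K) := by
    intro g hg
    have hsub : insert x ((fun r : K => c⁻¹ • (r : OnePoint K)) '' R) ⊆
        MulAction.orbit H x := by
      rintro z (rfl | ⟨r, hr, rfl⟩)
      · exact MulAction.mem_orbit_self z
      · have : c⁻¹ • (r : OnePoint K) = (⟨_, (hmem _).mp (haff r hr)⟩ : H) • y := by
          show _ = (c⁻¹ * aff 1 r * c) • y
          rw [mul_smul, mul_smul, hcy, aff_smul_coe, mul_zero, zero_add]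
        show c⁻¹ • (r : OnePoint K) ∈ _
        rw [this]
        exact MulAction.mem_orbit_of_mem_orbit _ hy
    have hinj : Function.Injective (fun r : K => c⁻¹ • (r : OnePoint K)) :=
      (MulAction.injective c⁻¹).comp OnePoint.coe_injective
    have heq := Set.eq_of_subset_of_ncard_le hsub (by
      rw [Set.ncard_insert_of_notMem ?_ (Set.toFinite _), Set.ncard_image_of_injective _ hinj,
        ← Nat.card_coe_set_eq, ← Nat.card_coe_set_eq, horbit]
      · exact (congrArg (· + 1) hRcard.symm).le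
      · rintro ⟨r, -, h⟩
        rw [inv_smul_eq_iff, hc] at h
        exact OnePoint.coe_ne_infty r h) (Set.finite_range _)
    have hg' : c⁻¹ • g • (∞ : OnePoint K) ∈ MulAction.orbit H x := by
      refine ⟨⟨_, (hmem g).mp hg⟩, ?_⟩
      show (c⁻¹ * g * c) • x = _
      rw [mul_smul, mul_smul, hc]
    rw [← heq] at hg'
    rcases hg' with h | ⟨r, hr, h⟩
    · left; rwa [inv_smul_eq_iff, hc] at h
    · right; exact ⟨r, hr, (smul_left_cancel_iff _).mp h.symm⟩
  -- the swap
  obtain ⟨g₀, hg₀⟩ := hy
  obtain ⟨w, hw, hw0, hwi⟩ : ∃ w ∈ H', w • ((0 : K) : OnePoint K) = ∞ ∧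
      w • (∞ : OnePoint K) = ((0 : K) : OnePoint K) := by
    have hG : c * (g₀ : Matrix.ProjGenLinGroup (Fin 2) K) * c⁻¹ ∈ H' :=
      (hmem _).mpr (by simp [mul_assoc])
    have hGi : (c * (g₀ : Matrix.ProjGenLinGroup (Fin 2) K) * c⁻¹) • (∞ : OnePoint K) =
        ((0 : K) : OnePoint K) := by
      rw [← hcy, ← hc, mul_smul, mul_smul, inv_smul_smul, ← hg₀]
      rfl
    set G := c * (g₀ : Matrix.ProjGenLinGroup (Fin 2) K) * c⁻¹
    rcases horb _ (H'.inv_mem hG) with h | ⟨r, hr, h⟩
    · rw [inv_smul_eq_iff] at h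
      exact absurd (h.trans hGi) (OnePoint.infty_ne_coe _)
    · refine ⟨G * aff 1 r, H'.mul_mem hG (haff r hr), ?_, ?_⟩
      · rw [mul_smul, aff_smul_coe, mul_zero, zero_add, ← h, smul_inv_smul]
      · rw [mul_smul, aff_smul_infty, hGi]
  obtain ⟨s, hws, hs1⟩ := exists_swap hw0 hwi
  have hsR : (s : K) ∈ R := by
    rcases horb (w * aff 1 (1 : K) * w) (H'.mul_mem (H'.mul_mem hw (haff 1 R.one_mem)) hw)
      with h | ⟨r, hr, h⟩ <;>
    rw [mul_smul, mul_smul, hwi, aff_smul_coe, mul_zero, zero_add, hs1] at h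
    · exact absurd h (OnePoint.coe_ne_infty _)
    · rw [OnePoint.coe_eq_coe.mp h]; exact hr
  set sR : Rˣ := Units.mk0 ⟨(s : K), hsR⟩ (fun e => s.ne_zero (congrArg Subtype.val e)) with hsRdef
  set ι := Matrix.ProjGenLinGroup.map (n := Fin 2) R.subtype with hι
  have hιw : ι (swap sR) = w := by
    rw [hι, pglMap_swap, hws]
    congr 1
    exact Units.ext rfl
  -- everything lies in `PGL(2,R)`
  have haffmem : ∀ (m : Kˣ) (b : K), aff m b ∈ H' → (m : K) ∈ R ∧ b ∈ R := by
    intro m b hmb
    have hs : (⟨_, (hmem _).mp hmb⟩ : H) ∈ MulAction.stabilizer H x := by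
      show (c⁻¹ * aff m b * c) • x = x
      rw [mul_smul, mul_smul, hc, aff_smul_infty, inv_smul_eq_iff, hc]
    have hm : (m : K) ∈ R := hMR m ⟨⟨_, hs⟩, mult_eq_of_conj hc _ (b := b) (by simp [mul_assoc])⟩
    refine ⟨hm, ?_⟩
    rcases horb (aff m b * w) (H'.mul_mem hmb hw) with h | ⟨r, hr, h⟩ <;>
    rw [mul_smul, hwi, aff_smul_coe, mul_zero, zero_add] at h
    · exact absurd h (OnePoint.coe_ne_infty _)
    · rw [OnePoint.coe_eq_coe.mp h]; exact hr
  have hle : H' ≤ ι.range := by
    have haffι : ∀ g ∈ H', g • (∞ : OnePoint K) = ∞ → g ∈ ι.range := by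
      intro g hg hgi
      obtain ⟨m, b, rfl⟩ := exists_aff hgi
      obtain ⟨hm, hb⟩ := haffmem m b hg
      refine ⟨aff (Units.mk0 ⟨(m : K), hm⟩ fun e => m.ne_zero (congrArg Subtype.val e)) ⟨b, hb⟩, ?_⟩
      rw [hι, pglMap_aff]
      congr 1
      exact Units.ext rfl
    intro g hg
    rcases horb g hg with h | ⟨r, hr, h⟩
    · exact haffι g hg h
    · have hnr : aff 1 (-r) ∈ H' := haff _ (R.neg_mem hr)
      have h' : (w * aff 1 (-r) * g) • (∞ : OnePoint K) = ∞ := by
        rw [mul_smul, mul_smul, h, aff_smul_coe, Units.val_one, one_mul, add_neg_cancel, hw0]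
      have hG := haffι _ (H'.mul_mem (H'.mul_mem hw hnr) hg) h'
      have hr' : aff 1 (-r) ∈ ι.range := haffι _ hnr (aff_smul_infty _ _)
      have := ι.range.mul_mem (ι.range.inv_mem (ι.range.mul_mem ⟨_, hιw⟩ hr')) hG
      simpa [mul_assoc] using this
  set J := H'.comap ι with hJ
  have hιinj : Function.Injective ι := pglMap_injective _
  have e1 : H ≃* H' := H.equivMapOfInjective _ (MulAut.conj c).injective
  have e2 : J ≃* H' :=
    (J.equivMapOfInjective ι hιinj).trans (MulEquiv.subgroupCongr (Subgroup.map_comap_eq_self hle))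
  have e : H ≃* J := e1.trans e2.symm
  have hJcard : Nat.card J = (P + 1) * (P * k) := by
    rw [← Nat.card_congr e.toEquiv, ← horbit, ← hstab, ← Nat.card_prod]
    exact (Nat.card_congr (MulAction.orbitProdStabilizerEquivGroup H x)).symm
  have hPP : P * (P ^ 2 - 1) = (P + 1) * (P * (P - 1)) := by
    rw [show P ^ 2 - 1 = (P + 1) * (P - 1) by rw [← Nat.sq_sub_sq, one_pow], mul_left_comm]
  have : Finite R := inferInstance
  refine ⟨R, hRcard, ⟨c, hle⟩, ?_⟩
  rcases hk with hk | hk
  · left
    have : J = ⊤ := Subgroup.eq_top_of_card_eq J (by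
      rw [hJcard, PSLCard.card_PGL2, hRcard, hPP, hk])
    exact ⟨hk, ⟨e.trans ((MulEquiv.subgroupCongr this).trans Subgroup.topEquiv)⟩⟩
  · right
    let S := (Matrix.ProjectiveSpecialLinearGroup.toPGL (n := Fin 2) (R := R)).range
    have htrans : ∀ r : R, aff 1 r ∈ J := fun r => by
      rw [hJ, Subgroup.mem_comap, hι, pglMap_aff]
      simpa using haff r.1 r.2
    have hswap : swap sR ∈ J := by rw [hJ, Subgroup.mem_comap, hιw]; exact hw
    have hSJ : S ≤ J := by
      have htop : J.comap (Matrix.SpecialLinearGroup.toPGL (n := Fin 2) (R := R)) = ⊤ := by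
        refine PSLSimple.eq_top_of_transvection_mem _ fun i j hij r => ?_
        have h01 : ∀ (d : R), mk (GeneralLinearGroup.mkOfDetNeZero !![1, 0; d, 1]
            (by simp [det_fin_two])) ∈ J := fun d => by
          have := J.mul_mem (J.mul_mem hswap (htrans (d * (sR : R)))) (J.inv_mem hswap)
          rw [swap_conj_aff] at this
          simpa [Units.ne_zero] using this
        fin_cases i <;> fin_cases j
        · exact absurd rfl hij
        · refine Eq.subst (motive := (· ∈ J)) ?_ (htrans r)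
          rw [aff, Matrix.SpecialLinearGroup.toPGL, MonoidHom.comp_apply]
          congr 1
          apply Units.ext
          ext a b
          fin_cases a <;> fin_cases b <;>
            simp [affGL_coe, Matrix.single, Matrix.SpecialLinearGroup.transvection_coe,
              Matrix.transvection]
        · refine Eq.subst (motive := (· ∈ J)) ?_ (h01 r)
          rw [Matrix.SpecialLinearGroup.toPGL, MonoidHom.comp_apply]
          congr 1
          apply Units.ext
          ext a b
          fin_cases a <;> fin_cases b <;>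
            simp [Matrix.single, Matrix.SpecialLinearGroup.transvection_coe, Matrix.transvection]
        · exact absurd rfl hij
      rintro _ ⟨g, rfl⟩
      induction g using QuotientGroup.induction_on with | H g =>
      have : g ∈ J.comap (Matrix.SpecialLinearGroup.toPGL (n := Fin 2) (R := R)) := by
        rw [htop]; trivial
      exact this
    have hScard : 2 * Nat.card S = P * (P ^ 2 - 1) := by
      have h2 := PSLCard.card_PSL2_mul (F := R)
      rw [hRcard] at h2
      rw [show Nat.gcd 2 (P - 1) = 2 from Nat.gcd_eq_left ⟨k, hk.symm⟩] at h2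
      rw [← h2, ← Nat.card_congr (MonoidHom.ofInjective
        Matrix.ProjectiveSpecialLinearGroup.toPGL_injective).toEquiv]
    have hSJeq : S = J := Subgroup.eq_of_le_of_card_ge hSJ (by
      refine Nat.le_of_mul_le_mul_left ?_ (two_pos : 0 < 2)
      rw [hScard, hJcard, hPP, ← hk]
      exact le_of_eq (by ring))
    exact ⟨hk, ⟨e.trans ((MulEquiv.subgroupCongr hSJeq.symm).trans
      (MonoidHom.ofInjective Matrix.ProjectiveSpecialLinearGroup.toPGL_injective).symm)⟩⟩

end Cfsg.Agent.DicksonSubfield
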