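import Mathlib
import Cfsg.Agent.Lib.DicksonCount
import Cfsg.Agent.Lib.DicksonLine
import Cfsg.Agent.Lib.DicksonSmall
import Cfsg.Agent.Lib.DicksonSubfield

/-!
Dickson's theorem: the subgroups of `PGL(2,q)`.
-/

set_option autoImplicit false
set_option linter.unusedSectionVars false

open scoped MatrixGroups Classical
open Matrix OnePoint

namespace Cfsg.Agent.Dickson

open Matrix.ProjGenLinGroup (mk mk_eq_mk_iff)
open Cfsg.Agent.DicksonLine Cfsg.Agent.DicksonSubfield

section transfer

variable {F E : Type*} [Field F] [Field E] (f : F →+* E)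

theorem onePointMap_injective : Function.Injective (OnePoint.map f : OnePoint F → OnePoint E) := by
  intro a b h
  cases a <;> cases b <;> simp_all [f.injective.eq_iff]

/-- A subgroup of `PGL(2,F)` seen in `PGL(2,E)`. -/
noncomputable def liftEquiv (J : Subgroup (Matrix.ProjGenLinGroup (Fin 2) F)) :
    J ≃* J.map (Matrix.ProjGenLinGroup.map f) :=
  J.equivMapOfInjective _ (pglMap_injective f)

theorem liftEquiv_smul {J : Subgroup (Matrix.ProjGenLinGroup (Fin 2) F)} (g : J) (y : OnePoint F) :
    liftEquiv f J g • OnePoint.map f y = OnePoint.map f (g • y) :=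
  (pglMap_smul f (g : Matrix.ProjGenLinGroup (Fin 2) F) y).symm

variable [Finite F] {J : Subgroup (Matrix.ProjGenLinGroup (Fin 2) F)}

theorem card_stab_map (x₀ : OnePoint F) :
    Nat.card (MulAction.stabilizer (J.map (Matrix.ProjGenLinGroup.map f)) (OnePoint.map f x₀)) =
      Nat.card (MulAction.stabilizer J x₀) := by
  refine (Nat.card_congr ((liftEquiv f J).toEquiv.subtypeEquiv fun g => ?_)).symm
  simp only [MulAction.mem_stabilizer_iff, MulEquiv.toEquiv_eq_coe, EquivLike.coe_coe,
    liftEquiv_smul, (onePointMap_injective f).eq_iff]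

theorem card_orbit_map (x₀ : OnePoint F) :
    Nat.card (MulAction.orbit (J.map (Matrix.ProjGenLinGroup.map f)) (OnePoint.map f x₀)) =
      Nat.card (MulAction.orbit J x₀) := by
  have e : MulAction.orbit (J.map (Matrix.ProjGenLinGroup.map f)) (OnePoint.map f x₀) =
      OnePoint.map f '' MulAction.orbit J x₀ := by
    ext z
    constructor
    · rintro ⟨g, rfl⟩
      obtain ⟨g, rfl⟩ := (liftEquiv f J).surjective g
      exact ⟨g • x₀, MulAction.mem_orbit _ _, (liftEquiv_smul f g x₀).symm⟩
    · rintro ⟨_, ⟨g, rfl⟩, rfl⟩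
      exact ⟨liftEquiv f J g, liftEquiv_smul f g x₀⟩
  rw [e, Nat.card_image_of_injective (onePointMap_injective f)]

theorem uP_map (x₀ : OnePoint F) :
    DicksonCount.uP (J.map (Matrix.ProjGenLinGroup.map f)) (OnePoint.map f x₀) =
      DicksonCount.uP J x₀ := by
  refine congrArg (· + 1) (Nat.card_congr ?_)
  refine ((liftEquiv f J).toEquiv.subtypeEquiv fun g => ⟨fun hg => ?_, fun hg => ?_⟩).symm
  · -- exactly one rational fixed point implies exactly one fixed point
    obtain ⟨c, hc⟩ := exists_smul_eq_infty x₀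
    have hs : g ∈ MulAction.stabilizer J x₀ := (hg.2 x₀).mpr rfl
    obtain ⟨hne, hm⟩ := (mem_uni_iff hc ⟨g, hs⟩).mp hg
    obtain ⟨b, hb⟩ := mult_spec hc ⟨g, hs⟩
    rw [hm] at hb
    have hc' : Matrix.ProjGenLinGroup.map f c • OnePoint.map f x₀ = (∞ : OnePoint E) := by
      rw [← pglMap_smul, hc]
      rfl
    have hs' : liftEquiv f J g ∈
        MulAction.stabilizer (J.map (Matrix.ProjGenLinGroup.map f)) (OnePoint.map f x₀) := by
      show liftEquiv f J g • _ = _
      rw [liftEquiv_smul, MulAction.mem_stabilizer_iff.mp hs]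
    refine (mem_uni_iff hc' ⟨_, hs'⟩).mpr
      ⟨fun e => hg.1 ((liftEquiv f J).map_eq_one_iff.mp (congrArg Subtype.val e)),
        mult_eq_of_conj hc' _ (b := f b) ?_⟩
    show Matrix.ProjGenLinGroup.map f c *
      Matrix.ProjGenLinGroup.map f (g : Matrix.ProjGenLinGroup (Fin 2) F) *
        (Matrix.ProjGenLinGroup.map f c)⁻¹ = _
    rw [← map_inv, ← map_mul, ← map_mul, hb, pglMap_aff, map_one]
  · refine ⟨fun e => hg.1 (by simp [e]), fun y => ?_⟩
    rw [← (onePointMap_injective f).eq_iff, ← liftEquiv_smul, ← (onePointMap_injective f).eq_iff]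
    exact hg.2 (OnePoint.map f y)

end transfer

variable {F : Type*} [Field F] [Finite F]

/-- A finite field has an extension in which every quadratic over it has a root, every element of
which not in the base field is moved by an automorphism over it. -/
theorem exists_root_extension (p : ℕ) [Fact p.Prime] [CharP F p] (a b c : F) (ha : a ≠ 0) :
    ∃ z : FiniteField.Extension F p 2,
      algebraMap F (FiniteField.Extension F p 2) a * z ^ 2 +
        algebraMap F (FiniteField.Extension F p 2) b * z +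
        algebraMap F (FiniteField.Extension F p 2) c = 0 := by
  open Polynomial in
  set P : F[X] := C a * X ^ 2 + C b * X + C c with hP
  have hdeg : P.natDegree = 2 := natDegree_quadratic ha
  have key : ∃ z : FiniteField.Extension F p 2, P.aeval z = 0 := by
    by_cases hirr : Irreducible P
    · have hfr : Module.finrank F (AdjoinRoot P) = 2 :=
        (finrank_quotient_span_eq_natDegree (f := P)).trans hdeg
      have := Fact.mk hirr
      let e := FiniteField.algEquivExtension F p 2 (AdjoinRoot P) hfr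
      refine ⟨e (AdjoinRoot.root P), ?_⟩
      rw [Polynomial.aeval_algHom_apply, AdjoinRoot.aeval_eq, AdjoinRoot.mk_self, map_zero]
    · have : ¬ P.roots = 0 := fun h => hirr
        ((irreducible_iff_roots_eq_zero_of_degree_le_three (by omega) (by omega)).mpr h)
      obtain ⟨r, hr⟩ := Multiset.exists_mem_of_ne_zero this
      refine ⟨algebraMap F _ r, ?_⟩
      rw [Polynomial.aeval_algebraMap_apply_eq_algebraMap_eval,
        (Polynomial.mem_roots'.mp hr).2, map_zero]
  obtain ⟨z, hz⟩ := key
  exact ⟨z, by simpa [hP] using hz⟩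

/-- Every element of `PGL(2,F)` fixes a point over the quadratic extension. -/
theorem exists_fixed (p : ℕ) [Fact p.Prime] [CharP F p] (g : Matrix.ProjGenLinGroup (Fin 2) F) :
    ∃ x : OnePoint (FiniteField.Extension F p 2),
      Matrix.ProjGenLinGroup.map (algebraMap F (FiniteField.Extension F p 2)) g • x = x := by
  induction g using Matrix.ProjGenLinGroup.induction_on with | mk g =>
  rw [Matrix.ProjGenLinGroup.map_mk]
  simp only [DicksonLine.mk_smul]
  set f := algebraMap F (FiniteField.Extension F p 2)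
  by_cases h : g 1 0 = 0
  · exact ⟨∞, smul_infty_eq_self_iff.mpr (by simp [h])⟩
  obtain ⟨z, hz⟩ := exists_root_extension p (g 1 0) (g 1 1 - g 0 0) (-(g 0 1)) h
  refine ⟨(z : OnePoint _), Matrix.GeneralLinearGroup.fixpointPolynomial_aeval_eq_zero_iff.mp ?_⟩
  simp only [map_sub, map_neg] at hz
  simp [Matrix.GeneralLinearGroup.fixpointPolynomial]
  linear_combination hz

/-- A point of the quadratic extension fixed by all automorphisms over `F` is rational. -/
theorem exists_rational (p : ℕ) [Fact p.Prime] [CharP F p]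
    (x : OnePoint (FiniteField.Extension F p 2))
    (h : ∀ σ : Gal(FiniteField.Extension F p 2/F),
      OnePoint.map (σ : FiniteField.Extension F p 2 →+* _) x = x) :
    ∃ x₀ : OnePoint F, OnePoint.map (algebraMap F (FiniteField.Extension F p 2)) x₀ = x := by
  cases x with
  | infty => exact ⟨∞, rfl⟩
  | coe z =>
    have hz : z ∈ (⊥ : IntermediateField F (FiniteField.Extension F p 2)) :=
      (IsGalois.mem_bot_iff_fixed z).mpr fun σ => OnePoint.coe_eq_coe.mp (h σ)
    obtain ⟨z₀, hz₀⟩ := IntermediateField.mem_bot.mp hz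
    exact ⟨(z₀ : OnePoint F), by rw [OnePoint.map_some, hz₀]⟩

set_option maxHeartbeats 1000000 in
/-- **Dickson's theorem**: the subgroups of `PGL(2,q)`, with the data distinguishing the cases. -/
theorem dickson_pgl_strong (p : ℕ) [hp : Fact p.Prime] [CharP F p]
    (J : Subgroup (Matrix.ProjGenLinGroup (Fin 2) F)) :
    (IsCyclic J ∧ ¬ p ∣ Nat.card J) ∨
    (∃ x : OnePoint F, J ≤ MulAction.stabilizer (Matrix.ProjGenLinGroup (Fin 2) F) x ∧
      p ∣ Nat.card J) ∨
    (∃ C : Subgroup J, IsCyclic C ∧ ¬ p ∣ Nat.card C ∧ C.index = 2 ∧ 2 ≤ Nat.card C ∧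
      Nonempty (J ≃* DihedralGroup (Nat.card C))) ∨
    (¬ p ∣ Nat.card J ∧ Nonempty (J ≃* alternatingGroup (Fin 4))) ∨
    (¬ p ∣ Nat.card J ∧ Nonempty (J ≃* Equiv.Perm (Fin 4))) ∨
    ((¬ p ∣ Nat.card J ∨ p = 3) ∧ Nonempty (J ≃* alternatingGroup (Fin 5))) ∨
    (∃ R : Subfield F, 3 ≤ Nat.card R ∧
      (∃ c : Matrix.ProjGenLinGroup (Fin 2) F, J.map (MulAut.conj c).toMonoidHom ≤
        (Matrix.ProjGenLinGroup.map (n := Fin 2) R.subtype).range) ∧
      (Nonempty (J ≃* Matrix.ProjGenLinGroup (Fin 2) R) ∨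
        (Odd (Nat.card R) ∧ Nonempty (J ≃* Matrix.ProjectiveSpecialLinearGroup (Fin 2) R)))) := by
  cases nonempty_fintype F
  set f := algebraMap F (FiniteField.Extension F p 2) with hf
  set ι := Matrix.ProjGenLinGroup.map (n := Fin 2) f with hι
  set J' := J.map ι with hJ'
  let e : J ≃* J' := liftEquiv f J
  have : CharP (FiniteField.Extension F p 2) p := (RingHom.charP_iff f f.injective p).mp inferInstance
  have hne : ∀ g : J', g ≠ 1 → ∃ x : OnePoint (FiniteField.Extension F p 2), g • x = x := by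
    intro g _
    obtain ⟨g, rfl⟩ := e.surjective g
    obtain ⟨x, hx⟩ := exists_fixed p (g : Matrix.ProjGenLinGroup (Fin 2) F)
    exact ⟨x, hx⟩
  have : Finite (OnePoint (FiniteField.Extension F p 2)) := inferInstanceAs (Finite (Option _))
  -- points of stabilisers with trivial `uP` have cyclic stabiliser of order prime to `p`
  have hsemi : ∀ x : OnePoint (FiniteField.Extension F p 2), DicksonCount.uP J' x = 1 →
      IsCyclic (MulAction.stabilizer J' x) ∧ ¬ p ∣ Nat.card (MulAction.stabilizer J' x) := by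
    intro x hx
    obtain ⟨c, hc⟩ := exists_smul_eq_infty x
    have hinj : Function.Injective (mult (H := J') hc) := by
      rw [← MonoidHom.ker_eq_bot_iff]
      exact Subgroup.eq_bot_of_card_eq _ ((card_ker_mult hc).trans hx)
    let φ := (Units.coeHom (FiniteField.Extension F p 2)).comp (mult (H := J') hc)
    refine ⟨isCyclic_of_subgroup_isDomain φ (Units.val_injective.comp hinj), fun hd => ?_⟩
    have h1 := (Subgroup.card_dvd_of_injective _ hinj)
    have h2 : p ∣ Nat.card (FiniteField.Extension F p 2)ˣ := hd.trans h1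
    cases nonempty_fintype (FiniteField.Extension F p 2)
    rw [Nat.card_units, Nat.card_eq_fintype_card] at h2
    obtain ⟨n, -, hn⟩ := FiniteField.card (FiniteField.Extension F p 2) p
    have hpn : p ∣ Fintype.card (FiniteField.Extension F p 2) := hn ▸ dvd_pow_self p n.ne_zero
    have hpos : 1 ≤ Fintype.card (FiniteField.Extension F p 2) := Fintype.card_pos
    exact hp.out.one_lt.ne' (Nat.dvd_one.mp (by
      have := Nat.dvd_sub hpn h2
      rwa [Nat.sub_sub_self hpos] at this))
  -- a point with nontrivial `uP` is rational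
  have hrat : ∀ x, 2 ≤ DicksonCount.uP J' x → ∃ x₀ : OnePoint F, OnePoint.map f x₀ = x := by
    intro x hx
    obtain ⟨⟨g, hg⟩⟩ : Nonempty (DicksonCount.uni J' x) := (Nat.card_pos_iff.mp (by
      rw [DicksonCount.uP] at hx; omega)).1
    obtain ⟨g, rfl⟩ := e.surjective g
    refine exists_rational p x fun σ => (hg.2 _).mp ?_
    show ι (g : Matrix.ProjGenLinGroup (Fin 2) F) •
      (OnePoint.map (σ : FiniteField.Extension F p 2 →+* FiniteField.Extension F p 2) x) =
      OnePoint.map (σ : FiniteField.Extension F p 2 →+* FiniteField.Extension F p 2) x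
    have hfix : ι (g : Matrix.ProjGenLinGroup (Fin 2) F) • x = x := (hg.2 x).mpr rfl
    conv_rhs => rw [← hfix, pglMap_smul]
    congr 1
    rw [hι, ← MonoidHom.comp_apply, ← Matrix.ProjGenLinGroup.map_comp]
    congr 2
    exact RingHom.ext fun a => (σ.commutes a).symm
  -- an element of order `p` fixes exactly one point
  have hord : ∀ (g : J') (x : OnePoint (FiniteField.Extension F p 2)), g ^ p = 1 → g ≠ 1 →
      g • x = x → g ∈ DicksonCount.uni J' x := by
    intro g x hgp hg1 hgx
    obtain ⟨c, hc⟩ := exists_smul_eq_infty x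
    refine (mem_uni_iff hc ⟨g, hgx⟩).mpr ⟨fun e => hg1 (congrArg Subtype.val e), ?_⟩
    have hq : (⟨g, hgx⟩ : MulAction.stabilizer J' x) ^ p = 1 := Subtype.ext hgp
    have hm : (mult hc ⟨g, hgx⟩) ^ p = 1 := by rw [← map_pow, hq, map_one]
    refine Units.ext (frobenius_inj (FiniteField.Extension F p 2) p ?_)
    rw [frobenius_def, frobenius_def, Units.val_one, one_pow, ← Units.val_pow_eq_pow_val, hm,
      Units.val_one]
  -- the fixed point case
  by_cases hA : ∃ x : OnePoint (FiniteField.Extension F p 2), ∀ g : J', g • x = x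
  · obtain ⟨x, hx⟩ := hA
    have htop : MulAction.stabilizer J' x = ⊤ := eq_top_iff.mpr fun g _ => hx g
    rcases Nat.lt_or_ge (DicksonCount.uP J' x) 2 with h | h
    · left
      obtain ⟨h1, h2⟩ := hsemi x (by rw [DicksonCount.uP] at h ⊢; omega)
      let e' : MulAction.stabilizer J' x ≃* J :=
        ((MulEquiv.subgroupCongr htop).trans Subgroup.topEquiv).trans e.symm
      exact ⟨isCyclic_of_surjective e' e'.surjective, Nat.card_congr e'.toEquiv ▸ h2⟩
    · right; left
      obtain ⟨x₀, hx₀⟩ := hrat x h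
      refine ⟨x₀, fun g hg => ?_, ?_⟩
      · refine onePointMap_injective f ?_
        rw [pglMap_smul, hx₀]
        exact hx (e ⟨g, hg⟩)
      obtain ⟨⟨g, hg⟩⟩ : Nonempty (DicksonCount.uni J' x) := (Nat.card_pos_iff.mp (by
        rw [DicksonCount.uP] at h; omega)).1
      obtain ⟨c, hc⟩ := exists_smul_eq_infty x
      obtain ⟨-, hm⟩ := (mem_uni_iff hc ⟨g, hx g⟩).mp hg
      obtain ⟨b, hb⟩ := mult_spec hc ⟨g, hx g⟩
      rw [hm] at hb
      have hpow : ∀ n : ℕ, (aff 1 b) ^ n = aff 1 ((n : FiniteField.Extension F p 2) * b) := by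
        intro n
        induction n with
        | zero => simp [aff_one]
        | succ n ih => rw [pow_succ, ih, aff_mul, one_mul]; congr 1; push_cast; ring
      have hgp : g ^ p = 1 := by
        apply Subtype.ext
        rw [SubmonoidClass.coe_pow, OneMemClass.coe_one]
        have := hpow p
        rw [CharP.cast_eq_zero, zero_mul, aff_one, ← hb, conj_pow] at this
        simpa [mul_assoc] using congrArg (fun t => c⁻¹ * t * c) this
      exact ((dvd_of_eq (orderOf_eq_prime hgp hg.1).symm).trans (orderOf_dvd_natCard g)).trans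
        (dvd_of_eq (Nat.card_congr e.toEquiv).symm)
  push Not at hA
  right; right
  have hN : 1 < Nat.card J' := by
    by_contra h
    have hs : Subsingleton J' := (Finite.card_le_one_iff_subsingleton.mp (by omega))
    obtain ⟨g, hg⟩ := hA ∞
    exact hg (by rw [Subsingleton.elim g 1, one_smul])
  by_cases hB : ∃ x : OnePoint (FiniteField.Extension F p 2),
      Nat.card (MulAction.orbit J' x) ≤ 2
  · -- the dihedral case
    left
    obtain ⟨x, hx⟩ := hB
    have hx2 : Nat.card (MulAction.orbit J' x) = 2 := by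
      have : Nonempty (MulAction.orbit J' x) := ⟨⟨x, MulAction.mem_orbit_self x⟩⟩
      have hpos : 0 < Nat.card (MulAction.orbit J' x) := Nat.card_pos
      by_contra h
      obtain ⟨g, hg⟩ := hA x
      have : (MulAction.orbit J' x).Subsingleton := by
        rw [← Set.ncard_le_one_iff_subsingleton, ← Nat.card_coe_set_eq]
        omega
      exact hg (this (MulAction.mem_orbit x g) (MulAction.mem_orbit_self x))
    have huP : DicksonCount.uP J' x = 1 := by
      have := count_hfree J' x
      rw [hx2] at this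
      exact Nat.dvd_one.mp this
    obtain ⟨hcyc, hnp⟩ := hsemi x huP
    have hidx : (MulAction.stabilizer J' x).index = 2 := by
      rw [MulAction.index_stabilizer, ← Nat.card_coe_set_eq, hx2]
    have hout : ∀ g : J', g ∉ MulAction.stabilizer J' x → g * g = 1 := by
      intro g hg
      have hmove : g • x ≠ x := hg
      have hall : ∀ h : J', h • x = x ∨ h • x = g • x := by
        intro h
        have hfin : (MulAction.orbit J' x).Finite := Set.toFinite _
        have hsub : {x, g • x} ⊆ MulAction.orbit J' x := by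
          rintro z (rfl | rfl)
          · exact MulAction.mem_orbit_self z
          · exact MulAction.mem_orbit x g
        have := Set.eq_of_subset_of_ncard_le hsub (by
          rw [Set.ncard_pair hmove.symm, ← Nat.card_coe_set_eq, hx2]) hfin
        have hh : h • x ∈ ({x, g • x} : Set _) := this ▸ MulAction.mem_orbit x h
        exact hh
      have hgg : g • g • x = x := by
        rcases hall (g * g) with h | h <;> rw [mul_smul] at h
        · exact h
        · exact absurd (MulAction.injective g h) hmove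
      obtain ⟨z, hz⟩ := hne g fun e => hmove (by rw [e, one_smul])
      have hzx : z ≠ x := fun e => hmove (e ▸ hz)
      have hzgx : z ≠ g • x := fun e => hmove (MulAction.injective g (by rw [← e]; exact hz.trans e))
      refine count_h3 J' (g * g) x (g • x) z hmove.symm hzx.symm hzgx.symm ?_ ?_ ?_
      · rw [mul_smul, hgg]
      · rw [mul_smul, hgg]
      · rw [mul_smul, hz, hz]
    obtain ⟨ed⟩ := DicksonSmall.iso_dihedral hidx hout
    refine ⟨(MulAction.stabilizer J' x).map e.symm.toMonoidHom, ?_, ?_, ?_, ?_, ?_⟩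
    · exact isCyclic_of_surjective (e.symm.subgroupMap _) (MulEquiv.surjective _)
    all_goals try rw [show Nat.card ((MulAction.stabilizer J' x).map e.symm.toMonoidHom) =
        Nat.card (MulAction.stabilizer J' x) from
        (Nat.card_congr (e.symm.subgroupMap _).toEquiv).symm]
    · exact hnp
    · exact (Subgroup.index_map_equiv _ e.symm).trans hidx
    · by_contra h
      have h1 : Nat.card (MulAction.stabilizer J' x) = 1 := by
        have : 0 < Nat.card (MulAction.stabilizer J' x) := Nat.card_pos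
        omega
      have hc2 : Nat.card J' = 2 := by
        rw [← (MulAction.stabilizer J' x).card_mul_index, h1, hidx]
      obtain ⟨g, hg⟩ := hA x
      have hg1 : g ≠ 1 := fun e => hg (by rw [e, one_smul])
      obtain ⟨z, hz⟩ := hne g hg1
      obtain ⟨g', hg'⟩ := hA z
      obtain ⟨v, -, hv⟩ := (Nat.card_eq_two_iff' (1 : J')).mp hc2
      have : ∀ u : J', u = 1 ∨ u = g := fun u =>
        (em (u = 1)).imp id fun hu => (hv u hu).trans (hv g hg1).symm
      rcases this g' with rfl | rfl
      · exact hg' (one_smul _ _)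
      · exact hg' hz
    · exact ⟨e.trans ed⟩
  right
  push Not at hB
  have hnc : ∀ u : J, u ≠ 1 → ¬ (Subgroup.zpowers u).Normal := by
    intro u hu hn
    have hu' : e u ≠ 1 := fun h => hu (e.map_eq_one_iff.mp h)
    obtain ⟨z, hz⟩ := hne _ hu'
    have hsub : MulAction.orbit J' z ⊆ {y | e u • y = y} := by
      rintro _ ⟨g, rfl⟩
      obtain ⟨g, rfl⟩ := e.surjective g
      show e u • e g • z = e g • z
      obtain ⟨i, hi⟩ := Subgroup.mem_zpowers_iff.mp
        (hn.conj_mem u (Subgroup.mem_zpowers u) g⁻¹)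
      rw [inv_inv] at hi
      have hfix : e (g⁻¹ * u * g) • z = z := by
        rw [← hi, map_zpow]
        exact (MulAction.stabilizer J' z).zpow_mem (show e u ∈ MulAction.stabilizer J' z from hz) i
      rw [map_mul, map_mul, map_inv, mul_smul, mul_smul, inv_smul_eq_iff] at hfix
      exact hfix
    have h3 : {y : OnePoint (FiniteField.Extension F p 2) | e u • y = y}.ncard ≤ 2 := by
      by_contra h
      obtain ⟨a, b, c, ha, hb, hc, hab, hac, hbc⟩ :=
        (Set.two_lt_ncard_iff (Set.toFinite _)).mp (not_le.mp h)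
      exact hu' (count_h3 J' _ a b c hab hac hbc ha hb hc)
    have := (Nat.card_coe_set_eq _).trans_le ((Set.ncard_le_ncard hsub).trans h3)
    exact absurd this (not_le.mpr (hB z))
  have hcard : Nat.card J = Nat.card J' := Nat.card_congr e.toEquiv
  have hsemi' : (∀ x : OnePoint (FiniteField.Extension F p 2), DicksonCount.uP J' x = 1) → ¬ p ∣ Nat.card J := by
    intro hall hd
    rw [hcard] at hd
    obtain ⟨g, hg⟩ := exists_prime_orderOf_dvd_card' p hd
    have hg1 : g ≠ 1 := fun e => by rw [e, orderOf_one] at hg; exact hp.out.ne_one hg.symm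
    obtain ⟨x, hx⟩ := hne g hg1
    have hu := hord g x ((congrArg (g ^ ·) hg).symm.trans (pow_orderOf_eq_one g)) hg1 hx
    have h0 := hall x
    rw [DicksonCount.uP, Nat.add_eq_right, Nat.card_eq_zero] at h0
    rcases h0 with h0 | h0
    · exact h0.false ⟨g, hu⟩
    · exact not_finite (DicksonCount.uni J' x)
  rcases DicksonCount.classification hN hne (count_h3 J') (count_hk J') (count_hfree J') hB with
    ⟨h | h | h, hall⟩ | ⟨h, x, hx3⟩ | ⟨x, k, hP, horb, hst, hk⟩
  · exact Or.inl ⟨hsemi' hall, DicksonSmall.iso_A4 (hcard.trans h) hnc⟩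
  · exact Or.inr (Or.inl ⟨hsemi' hall, DicksonSmall.iso_S4 (hcard.trans h) hnc⟩)
  · exact Or.inr (Or.inr (Or.inl ⟨Or.inl (hsemi' hall), DicksonSmall.iso_A5 (hcard.trans h) hnc⟩))
  · refine Or.inr (Or.inr (Or.inl ⟨Or.inr ?_, DicksonSmall.iso_A5 (hcard.trans h) hnc⟩))
    obtain ⟨⟨g, hg⟩⟩ : Nonempty (DicksonCount.uni J' x) := (Nat.card_pos_iff.mp (by
      rw [DicksonCount.uP] at hx3; omega)).1
    obtain ⟨c, hc⟩ := exists_smul_eq_infty x
    have hs : g ∈ MulAction.stabilizer J' x := (hg.2 x).mpr rfl
    obtain ⟨hne', hm⟩ := (mem_uni_iff hc ⟨g, hs⟩).mp hg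
    obtain ⟨b, hb⟩ := mult_spec hc ⟨g, hs⟩
    rw [hm] at hb
    have hpow : ∀ n : ℕ, (aff 1 b) ^ n = aff 1 ((n : FiniteField.Extension F p 2) * b) := by
      intro n
      induction n with
      | zero => simp [aff_one]
      | succ n ih => rw [pow_succ, ih, aff_mul, one_mul]; congr 1; push_cast; ring
    let u : (mult (H := J') hc).ker := ⟨⟨g, hs⟩, hm⟩
    have hu : u ^ p = 1 := by
      refine Subtype.ext (Subtype.ext (Subtype.ext ?_))
      simp only [u, SubmonoidClass.coe_pow, OneMemClass.coe_one]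
      have := hpow p
      rw [CharP.cast_eq_zero, zero_mul, aff_one, ← hb, conj_pow] at this
      simpa [mul_assoc] using congrArg (fun t => c⁻¹ * t * c) this
    have hu1 : u ≠ 1 := fun e => hne' (congrArg Subtype.val e)
    have hd : p ∣ 3 := by
      have := ((dvd_of_eq (orderOf_eq_prime hu hu1).symm).trans (orderOf_dvd_natCard u)).trans
        (dvd_of_eq ((card_ker_mult hc).trans hx3))
      exact this
    exact (Nat.prime_dvd_prime_iff_eq hp.out Nat.prime_three).mp hd
  right; right; right
  obtain ⟨x₀, rfl⟩ := hrat x (by omega)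
  rw [card_orbit_map, uP_map] at horb
  rw [card_stab_map, uP_map] at hst
  rw [uP_map] at hP hk
  obtain ⟨R, hR, hconj, h⟩ := subfield_case J rfl hP horb hst hk
  refine ⟨R, hR ▸ hP, hconj, ?_⟩
  rcases h with ⟨-, h⟩ | ⟨h2, h⟩
  · exact Or.inl h
  · refine Or.inr ⟨?_, h⟩
    rw [hR]
    exact ⟨k, by omega⟩

/-- **Dickson's theorem**: the subgroups of `PGL(2,q)`. -/
theorem dickson_pgl (p : ℕ) [hp : Fact p.Prime] [CharP F p]
    (J : Subgroup (Matrix.ProjGenLinGroup (Fin 2) F)) :
    (IsCyclic J ∧ ¬ p ∣ Nat.card J) ∨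
    (∃ x : OnePoint F, J ≤ MulAction.stabilizer (Matrix.ProjGenLinGroup (Fin 2) F) x ∧
      p ∣ Nat.card J) ∨
    (∃ C : Subgroup J, IsCyclic C ∧ ¬ p ∣ Nat.card C ∧ C.index = 2 ∧ 2 ≤ Nat.card C ∧
      Nonempty (J ≃* DihedralGroup (Nat.card C))) ∨
    Nonempty (J ≃* alternatingGroup (Fin 4)) ∨ Nonempty (J ≃* Equiv.Perm (Fin 4)) ∨
    Nonempty (J ≃* alternatingGroup (Fin 5)) ∨
    (∃ R : Subfield F, 3 ≤ Nat.card R ∧
      (Nonempty (J ≃* Matrix.ProjGenLinGroup (Fin 2) R) ∨
        (Odd (Nat.card R) ∧ Nonempty (J ≃* Matrix.ProjectiveSpecialLinearGroup (Fin 2) R)))) := by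
  rcases dickson_pgl_strong p J with h | h | h | ⟨-, h⟩ | ⟨-, h⟩ | ⟨-, h⟩ | ⟨R, h3, -, h⟩
  · exact Or.inl h
  · exact Or.inr (Or.inl h)
  · exact Or.inr (Or.inr (Or.inl h))
  · exact Or.inr (Or.inr (Or.inr (Or.inl h)))
  · exact Or.inr (Or.inr (Or.inr (Or.inr (Or.inl h))))
  · exact Or.inr (Or.inr (Or.inr (Or.inr (Or.inr (Or.inl h)))))
  · exact Or.inr (Or.inr (Or.inr (Or.inr (Or.inr (Or.inr ⟨R, h3, h⟩)))))

end Cfsg.Agent.Dickson
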