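import Mathlib
import Cfsg.Agent.Lib.Dickson
import Cfsg.Agent.Lib.QuadraticSL2
import Cfsg.Agent.Lib.QuadraticThree

/-!
A subgroup of `SL(2,F)` containing two opposite transvections contains a conjugate of
`SL(2, ZMod p)` (`p` odd).  The list of subgroups of `PGL(2,F)` gives a pair of non-commuting
elements of order `p` satisfying the braid relation; such a pair is conjugate to the standard one.
-/

set_option autoImplicit false

open scoped MatrixGroups

namespace Cfsg.Agent.QuadraticDickson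

/-- Upper unitriangular element. -/
def up {R : Type*} [CommRing R] (r : R) : SL(2, R) :=
  ⟨!![1, r; 0, 1], by simp [Matrix.det_fin_two]⟩

/-- Lower unitriangular element. -/
def lo {R : Type*} [CommRing R] (r : R) : SL(2, R) :=
  ⟨!![1, 0; r, 1], by simp [Matrix.det_fin_two]⟩

section ring

variable {R : Type*} [CommRing R]

theorem coe_up (r : R) : (up r).1 = !![1, r; 0, 1] := rfl

theorem coe_lo (r : R) : (lo r).1 = !![1, 0; r, 1] := rfl

theorem up_mul (r s : R) : up r * up s = up (r + s) := by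
  ext i j; fin_cases i <;> fin_cases j <;> simp [coe_up, Matrix.mul_apply, Fin.sum_univ_two, add_comm]

theorem lo_mul (r s : R) : lo r * lo s = lo (r + s) := by
  ext i j; fin_cases i <;> fin_cases j <;> simp [coe_lo, Matrix.mul_apply, Fin.sum_univ_two]

theorem up_pow (r : R) (n : ℕ) : up r ^ n = up (n * r) := by
  induction n with
  | zero => ext i j; fin_cases i <;> fin_cases j <;> simp [coe_up]
  | succ n ih => rw [pow_succ, ih, up_mul]; congr 1; push_cast; ring

theorem lo_pow (r : R) (n : ℕ) : lo r ^ n = lo (n * r) := by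
  induction n with
  | zero => ext i j; fin_cases i <;> fin_cases j <;> simp [coe_lo]
  | succ n ih => rw [pow_succ, ih, lo_mul]; congr 1; push_cast; ring

theorem up_pow_char (p : ℕ) [CharP R p] (r : R) : up r ^ p = 1 := by
  rw [up_pow, CharP.cast_eq_zero, zero_mul]
  ext i j; fin_cases i <;> fin_cases j <;> simp [coe_up]

theorem lo_pow_char (p : ℕ) [CharP R p] (r : R) : lo r ^ p = 1 := by
  rw [lo_pow, CharP.cast_eq_zero, zero_mul]
  ext i j; fin_cases i <;> fin_cases j <;> simp [coe_lo]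

theorem braid : up (1 : R) * lo (-1) * up 1 = lo (-1) * up 1 * lo (-1) := by
  ext i j; fin_cases i <;> fin_cases j <;> simp [coe_up, coe_lo, Matrix.mul_apply, Fin.sum_univ_two]

end ring

variable {p : ℕ} [Fact p.Prime] {F : Type*} [Field F]

/-- `up a * lo b` and `lo b * up a` are not proportional. -/
theorem not_proportional {a b : F} (ha : a ≠ 0) (hb : b ≠ 0) (r : F) :
    (up a * lo b : SL(2, F)).1 ≠ Matrix.scalar (Fin 2) r * (lo b * up a : SL(2, F)).1 := by
  intro h
  have h00 := congrFun (congrFun h 0) 0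
  have h01 := congrFun (congrFun h 0) 1
  simp [coe_up, coe_lo, Matrix.mul_apply, Fin.sum_univ_two] at h00 h01
  have hr : r = 1 := mul_right_cancel₀ ha (by rw [one_mul]; first | exact h01.symm | exact h01)
  rw [hr] at h00
  simp [ha, hb] at h00

theorem up_lo_not_commute {a b : F} (ha : a ≠ 0) (hb : b ≠ 0) :
    ¬ (Matrix.SpecialLinearGroup.toPGL (up a) * Matrix.SpecialLinearGroup.toPGL (lo b) =
      (Matrix.SpecialLinearGroup.toPGL (lo b) * Matrix.SpecialLinearGroup.toPGL (up a) :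
        Matrix.ProjGenLinGroup (Fin 2) F)) := by
  intro h
  have hc : (lo b * up a)⁻¹ * (up a * lo b) ∈
      (Matrix.SpecialLinearGroup.toPGL (n := Fin 2) (R := F)).ker := by
    rw [MonoidHom.mem_ker, map_mul, map_inv, map_mul, map_mul, h, inv_mul_cancel]
  rw [Matrix.SpecialLinearGroup.toPGL_ker, Matrix.SpecialLinearGroup.mem_center_iff] at hc
  obtain ⟨r, -, hr⟩ := hc
  refine not_proportional ha hb r ?_
  have e : (lo b * up a) * ((lo b * up a)⁻¹ * (up a * lo b)) = up a * lo b := by group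
  calc (up a * lo b : SL(2, F)).1
      = (lo b * up a : SL(2, F)).1 * Matrix.scalar (Fin 2) r := by
        rw [hr, ← Matrix.SpecialLinearGroup.coe_mul, e]
    _ = _ := (Matrix.scalar_commute (n := Fin 2) r (Commute.all r) _).symm.eq

/-- Conjugation by an invertible matrix on the special linear group. -/
noncomputable def conjSL (g : GL (Fin 2) F) : SL(2, F) →* SL(2, F) where
  toFun s := ⟨(g.1 * s.1 * (g⁻¹).1), by
    rw [Matrix.det_mul, Matrix.det_mul, s.2, mul_one, ← Matrix.det_mul, ← Units.val_mul,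
      mul_inv_cancel, Units.val_one, Matrix.det_one]⟩
  map_one' := Subtype.ext (by
    show g.1 * (1 : SL(2, F)).1 * (g⁻¹).1 = 1
    rw [Matrix.SpecialLinearGroup.coe_one, mul_one, ← Units.val_mul, mul_inv_cancel, Units.val_one])
  map_mul' s t := Subtype.ext (by
    show g.1 * (s * t).1 * (g⁻¹).1 = (g.1 * s.1 * (g⁻¹).1) * (g.1 * t.1 * (g⁻¹).1)
    rw [Matrix.SpecialLinearGroup.coe_mul]
    calc g.1 * (s.1 * t.1) * (g⁻¹).1 = g.1 * s.1 * (1 * (t.1 * (g⁻¹).1)) := by
          rw [one_mul]; simp only [mul_assoc]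
      _ = g.1 * s.1 * (((g⁻¹).1 * g.1) * (t.1 * (g⁻¹).1)) := by
          rw [← Units.val_mul, inv_mul_cancel, Units.val_one]
      _ = _ := by simp only [mul_assoc])

theorem conjSL_apply (g : GL (Fin 2) F) (s : SL(2, F)) :
    (conjSL g s).1 = g.1 * s.1 * (g⁻¹).1 := rfl

theorem conjSL_eq {g : GL (Fin 2) F} {s x : SL(2, F)} (h : x.1 * g.1 = g.1 * s.1) :
    conjSL g s = x := Subtype.ext (by
  rw [conjSL_apply, ← h, mul_assoc, ← Units.val_mul, mul_inv_cancel, Units.val_one, mul_one])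

theorem conjSL_injective (g : GL (Fin 2) F) : Function.Injective (conjSL g) := by
  intro s t h
  have h' := congrArg (fun u : SL(2, F) => (g⁻¹).1 * u.1 * g.1) h
  simp only [conjSL_apply, mul_assoc, ← Units.val_mul, inv_mul_cancel, Units.val_one, mul_one] at h'
  rw [← mul_assoc, ← mul_assoc, ← Units.val_mul, inv_mul_cancel, Units.val_one, one_mul,
    one_mul] at h'
  exact Subtype.ext h'

/-- Two noncommuting unipotent elements with a braid relation are conjugate to the standard pair. -/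
theorem exists_conj {x y : SL(2, F)} (hx : x.1.trace = 2) (hy : y.1.trace = 2)
    (hne : x * y ≠ y * x) (hb : x * y * x = y * x * y) :
    ∃ g : GL (Fin 2) F, conjSL g (up 1) = x ∧ conjSL g (lo (-1)) = y := by
  have hx1 : x.1 1 1 = 2 - x.1 0 0 := by rw [Matrix.trace_fin_two] at hx; linear_combination hx
  have hy1 : y.1 1 1 = 2 - y.1 0 0 := by rw [Matrix.trace_fin_two] at hy; linear_combination hy
  have hdx : x.1 0 0 * x.1 1 1 - x.1 0 1 * x.1 1 0 = 1 := by
    rw [← Matrix.det_fin_two]; exact x.2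
  have hdy : y.1 0 0 * y.1 1 1 - y.1 0 1 * y.1 1 0 = 1 := by
    rw [← Matrix.det_fin_two]; exact y.2
  -- a nonzero vector fixed by `y`
  obtain ⟨s, t, hst, hy0, hy1'⟩ : ∃ s t : F, (s ≠ 0 ∨ t ≠ 0) ∧
      (y.1 0 0 - 1) * s + y.1 0 1 * t = 0 ∧ y.1 1 0 * s + (y.1 1 1 - 1) * t = 0 := by
    by_cases h : y.1 0 1 = 0
    · refine ⟨0, 1, Or.inr one_ne_zero, by rw [h]; ring, ?_⟩
      rw [hy1, h, zero_mul, sub_zero] at hdy
      have : (y.1 0 0 - 1) * (y.1 0 0 - 1) = 0 := by linear_combination -hdy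
      rw [hy1, sub_eq_zero.1 (mul_self_eq_zero.1 this)]
      ring
    · refine ⟨y.1 0 1, -(y.1 0 0 - 1), Or.inl h, by ring, ?_⟩
      rw [hy1] at hdy ⊢
      linear_combination -hdy
  -- its image under `x - 1`
  set e0 := (x.1 0 0 - 1) * s + x.1 0 1 * t with he0
  set e1 := x.1 1 0 * s + (x.1 1 1 - 1) * t with he1
  have hxe0 : (x.1 0 0 - 1) * e0 + x.1 0 1 * e1 = 0 := by
    rw [he0, he1]; linear_combination (-s) * hdx + (s * x.1 0 0 + x.1 0 1 * t) * hx1
  have hxe1 : x.1 1 0 * e0 + (x.1 1 1 - 1) * e1 = 0 := by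
    rw [he0, he1]; linear_combination (-t) * hdx + (x.1 1 0 * s + x.1 1 1 * t) * hx1
  -- it is independent of the fixed vector
  have hdet : e0 * t - s * e1 ≠ 0 := by
    intro h
    apply hne
    have hxs : (x.1 0 0 - 1) * s + x.1 0 1 * t = 0 ∧ x.1 1 0 * s + (x.1 1 1 - 1) * t = 0 := by
      rcases hst with hs | ht
      · have h1 : e0 * e0 = 0 := by linear_combination s * hxe0 - x.1 0 1 * h * (-1)
        have h0 : e0 = 0 := mul_self_eq_zero.1 h1
        refine ⟨h0, ?_⟩
        rw [h0, zero_mul, zero_sub, neg_eq_zero, mul_eq_zero] at h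
        exact h.resolve_left hs
      · have h1 : e1 * e1 = 0 := by linear_combination t * hxe1 - x.1 1 0 * h
        have h0 : e1 = 0 := mul_self_eq_zero.1 h1
        refine ⟨?_, h0⟩
        rw [h0, mul_zero, sub_zero, mul_eq_zero] at h
        exact h.resolve_right ht
    obtain ⟨hx0, hx1'⟩ := hxs
    have k1 : x.1 0 1 * (y.1 0 0 - 1) - y.1 0 1 * (x.1 0 0 - 1) = 0 := by
      rcases hst with hs | ht
      · exact (mul_eq_zero.1 (show s * (x.1 0 1 * (y.1 0 0 - 1) - y.1 0 1 * (x.1 0 0 - 1)) = 0 by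
          linear_combination x.1 0 1 * hy0 - y.1 0 1 * hx0)).resolve_left hs
      · exact (mul_eq_zero.1 (show t * (x.1 0 1 * (y.1 0 0 - 1) - y.1 0 1 * (x.1 0 0 - 1)) = 0 by
          linear_combination (y.1 0 0 - 1) * hx0 - (x.1 0 0 - 1) * hy0)).resolve_left ht
    have k2 : x.1 1 0 * (y.1 1 1 - 1) - y.1 1 0 * (x.1 1 1 - 1) = 0 := by
      rcases hst with hs | ht
      · exact (mul_eq_zero.1 (show s * (x.1 1 0 * (y.1 1 1 - 1) - y.1 1 0 * (x.1 1 1 - 1)) = 0 by
          linear_combination (y.1 1 1 - 1) * hx1' - (x.1 1 1 - 1) * hy1')).resolve_left hs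
      · exact (mul_eq_zero.1 (show t * (x.1 1 0 * (y.1 1 1 - 1) - y.1 1 0 * (x.1 1 1 - 1)) = 0 by
          linear_combination x.1 1 0 * hy1' - y.1 1 0 * hx1')).resolve_left ht
    have k3 : x.1 0 1 * y.1 1 0 - y.1 0 1 * x.1 1 0 = 0 := by
      rcases hst with hs | ht
      · refine (mul_eq_zero.1 (show s * (x.1 0 1 * y.1 1 0 - y.1 0 1 * x.1 1 0) = 0 from ?_)
          ).resolve_left hs
        linear_combination x.1 0 1 * hy1' - y.1 0 1 * hx1' + t * k1 - x.1 0 1 * t * hy1 +
          y.1 0 1 * t * hx1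
      · refine (mul_eq_zero.1 (show t * (x.1 0 1 * y.1 1 0 - y.1 0 1 * x.1 1 0) = 0 from ?_)
          ).resolve_left ht
        linear_combination y.1 1 0 * hx0 - x.1 1 0 * hy0 - s * k2 + x.1 1 0 * s * hy1 -
          y.1 1 0 * s * hx1
    ext i j
    fin_cases i <;> fin_cases j <;>
      simp only [Matrix.SpecialLinearGroup.coe_mul, Matrix.mul_apply, Fin.sum_univ_two,
        Fin.zero_eta, Fin.mk_one, Fin.isValue]
    · linear_combination k3
    · linear_combination (-2 : F) * k1 + x.1 0 1 * hy1 - y.1 0 1 * hx1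
    · linear_combination (-2 : F) * k2 + x.1 1 0 * hy1 - y.1 1 0 * hx1
    · linear_combination -k3
  obtain ⟨g, hg⟩ : ∃ g : GL (Fin 2) F, g.1 = !![e0, s; e1, t] :=
    ⟨Matrix.GeneralLinearGroup.mkOfDetNeZero !![e0, s; e1, t]
      (by rwa [Matrix.det_fin_two_of]), rfl⟩
  have hX : conjSL g (up 1) = x := by
    refine conjSL_eq ?_
    rw [hg]
    ext i j
    fin_cases i <;> fin_cases j <;>
      simp [coe_up, Matrix.mul_apply, Fin.sum_univ_two]
    · linear_combination hxe0
    · rw [he0]; ring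
    · linear_combination hxe1
    · rw [he1]; ring
  obtain ⟨Y, hY⟩ : ∃ Y : SL(2, F), conjSL g Y = y := ⟨conjSL g⁻¹ y, by
    refine conjSL_eq ?_
    rw [conjSL_apply, inv_inv, ← mul_assoc, ← mul_assoc, ← Units.val_mul, mul_inv_cancel,
      Units.val_one, one_mul]⟩
  have hYg : y.1 * g.1 = g.1 * Y.1 := by
    rw [← hY, conjSL_apply, mul_assoc, ← Units.val_mul, inv_mul_cancel, Units.val_one, mul_one]
  rw [hg] at hYg
  have c0 := congrFun (congrFun hYg 0) 1
  have c1 := congrFun (congrFun hYg 1) 1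
  simp [Matrix.mul_apply, Fin.sum_univ_two] at c0 c1
  have q0 : e0 * Y.1 0 1 + s * (Y.1 1 1 - 1) = 0 := by linear_combination -c0 + hy0
  have q1 : e1 * Y.1 0 1 + t * (Y.1 1 1 - 1) = 0 := by linear_combination -c1 + hy1'
  have hY01 : Y.1 0 1 = 0 := (mul_eq_zero.1 (show (e0 * t - s * e1) * Y.1 0 1 = 0 by
    linear_combination t * q0 - s * q1)).resolve_left hdet
  have hY11 : Y.1 1 1 = 1 := sub_eq_zero.1 ((mul_eq_zero.1
    (show (e0 * t - s * e1) * (Y.1 1 1 - 1) = 0 by
      linear_combination e0 * q1 - e1 * q0)).resolve_left hdet)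
  have hY00 : Y.1 0 0 = 1 := by
    have := Y.2
    rw [Matrix.det_fin_two, hY01, hY11] at this
    linear_combination this
  have hbr : up 1 * Y * up 1 = Y * up 1 * Y :=
    conjSL_injective g (by rw [map_mul, map_mul, map_mul, map_mul, hX, hY, hb])
  have hl := congrArg (fun m : SL(2, F) => m.1 0 1) hbr
  simp [coe_up, Matrix.mul_apply, Matrix.vecMul, dotProduct, Fin.sum_univ_two, hY01, hY11, hY00] at hl
  refine ⟨g, hX, ?_⟩
  have hYl : lo (-1) = Y := by
    ext i j
    fin_cases i <;> fin_cases j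
    · exact hY00.symm
    · exact hY01.symm
    · show (-1 : F) = Y.1 1 0
      linear_combination -hl
    · exact hY11.symm
  rw [hYl, hY]

/-- A braid pair of elements of order `p` in the image of `R` gives `SL(2, ZMod p)` inside `R`. -/
theorem of_braid [CharP F p] (hp : p ≠ 2) (R : Subgroup SL(2, F))
    {u v : Matrix.ProjGenLinGroup (Fin 2) F}
    (hu : u ∈ R.map Matrix.SpecialLinearGroup.toPGL)
    (hv : v ∈ R.map Matrix.SpecialLinearGroup.toPGL) (hup : u ^ p = 1) (hvp : v ^ p = 1)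
    (hne : u * v ≠ v * u) (hb : u * v * u = v * u * v) :
    ∃ g : GL (Fin 2) F,
      ((conjSL g).comp (Matrix.SpecialLinearGroup.map (ZMod.castHom dvd_rfl F))).range ≤ R := by
  have h2 := QuadraticSL2.two_ne_zero' (F := F) hp
  have hlift : ∀ w ∈ R.map Matrix.SpecialLinearGroup.toPGL, w ^ p = 1 →
      ∃ x ∈ R, Matrix.SpecialLinearGroup.toPGL x = w ∧ x.1.trace = 2 := by
    rintro _ ⟨x, hx, rfl⟩ hxp
    refine ⟨x ^ (p + 1), pow_mem hx _, by rw [map_pow, pow_succ, hxp, one_mul], ?_⟩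
    refine QuadraticSL2.trace_of_pow_eq_one (p := p) (k := 1) ?_
    have hk : x ^ p ∈ (Matrix.SpecialLinearGroup.toPGL (n := Fin 2) (R := F)).ker := by
      rw [MonoidHom.mem_ker, map_pow, hxp]
    rw [Matrix.SpecialLinearGroup.toPGL_ker, Matrix.SpecialLinearGroup.mem_center_iff] at hk
    obtain ⟨r, hr, hrx⟩ := hk
    obtain ⟨m, hm⟩ := (Fact.out : p.Prime).odd_of_ne_two hp
    apply Subtype.ext
    show ((x ^ (p + 1)) ^ p ^ 1).1 = 1
    rw [pow_one, ← pow_mul, mul_comm, pow_mul, Matrix.SpecialLinearGroup.coe_pow, ← hrx,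
      ← map_pow, hm, show 2 * m + 1 + 1 = 2 * (m + 1) by ring, pow_mul]
    rw [show r ^ 2 = 1 by simpa using hr, one_pow, map_one]
  obtain ⟨x, hxR, rfl, hxt⟩ := hlift u hu hup
  obtain ⟨y, hyR, rfl, hyt⟩ := hlift v hv hvp
  have hne' : x * y ≠ y * x := fun h => hne (by rw [← map_mul, ← map_mul, h])
  -- the braid relation holds up to a sign, which the trace removes
  have hbb : x * y * x = y * x * y := by
    rw [← map_mul, ← map_mul, ← map_mul, ← map_mul] at hb
    have hk : (y * x * y)⁻¹ * (x * y * x) ∈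
        (Matrix.SpecialLinearGroup.toPGL (n := Fin 2) (R := F)).ker := by
      rw [MonoidHom.mem_ker, map_mul, map_inv, hb, inv_mul_cancel]
    rw [Matrix.SpecialLinearGroup.toPGL_ker] at hk
    set z := (y * x * y)⁻¹ * (x * y * x) with hz
    have hzc := Subgroup.mem_center_iff.1 hk
    have hconj : (x * y) * x * (x * y)⁻¹ = y * z := by
      have e : x * y * x = y * x * y * z := by rw [hz]; group
      calc (x * y) * x * (x * y)⁻¹ = (y * x * y * z) * (x * y)⁻¹ := by rw [← e]
        _ = y * (x * y) * (z * (x * y)⁻¹) := by group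
        _ = y * (x * y) * ((x * y)⁻¹ * z) := by rw [hzc]
        _ = y * z := by group
    rw [Matrix.SpecialLinearGroup.mem_center_iff] at hk
    obtain ⟨r, hr, hrz⟩ := hk
    have ht := congrArg (fun m : SL(2, F) => m.1.trace) hconj
    have htl : ((x * y) * x * (x * y)⁻¹).1.trace = 2 := by
      rw [Matrix.SpecialLinearGroup.coe_mul, Matrix.SpecialLinearGroup.coe_mul,
        Matrix.trace_mul_cycle, ← Matrix.SpecialLinearGroup.coe_mul, inv_mul_cancel,
        Matrix.SpecialLinearGroup.coe_one, one_mul, hxt]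
    rw [htl, Matrix.SpecialLinearGroup.coe_mul, ← hrz, ← (Matrix.scalar_commute (n := Fin 2) r
      (Commute.all r) y.1).eq, Matrix.scalar_apply, Matrix.trace_fin_two,
      Matrix.diagonal_mul, Matrix.diagonal_mul] at ht
    rw [Matrix.trace_fin_two] at hyt
    have hr1 : r = 1 := mul_right_cancel₀ h2 (by linear_combination (-1 : F) * ht + (-r) * hyt)
    have hz1 : z = 1 := by
      apply Subtype.ext
      rw [← hrz, hr1, map_one]
      rfl
    rw [hz, inv_mul_eq_one] at hz1
    exact hz1.symm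
  obtain ⟨g, hgx, hgy⟩ := exists_conj hxt hyt hne' hbb
  refine ⟨g, ?_⟩
  set ψ := (conjSL g).comp (Matrix.SpecialLinearGroup.map (ZMod.castHom (dvd_refl p) F)) with hψ
  have hu1 : ψ (up 1) = x := by
    rw [← hgx, hψ, MonoidHom.comp_apply]
    congr 1
    ext i j
    fin_cases i <;> fin_cases j <;> simp [coe_up]
  have hl1 : ψ (lo (-1)) = y := by
    rw [← hgy, hψ, MonoidHom.comp_apply]
    congr 1
    ext i j
    fin_cases i <;> fin_cases j <;> simp [coe_lo]
  have hcu : up (1 : ZMod p) ∈ R.comap ψ := by rw [Subgroup.mem_comap, hu1]; exact hxR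
  have hcl : lo (-1 : ZMod p) ∈ R.comap ψ := by rw [Subgroup.mem_comap, hl1]; exact hyR
  have htop : R.comap ψ = ⊤ := by
    refine QuadraticThree.sl2_top _ (fun t => ⟨up 1 ^ t.val, pow_mem hcu _, ?_⟩)
      ⟨(up 1 * lo (-1) * up 1)⁻¹, inv_mem (mul_mem (mul_mem hcu hcl) hcu), ?_⟩
    · rw [up_pow, mul_one, ZMod.natCast_zmod_val]; rfl
    · rw [Matrix.SpecialLinearGroup.coe_inv]
      simp [coe_up, coe_lo, Matrix.adjugate_fin_two, Matrix.mul_apply, Fin.sum_univ_two]
  rintro _ ⟨s, rfl⟩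
  exact Subgroup.mem_comap.1 (htop ▸ Subgroup.mem_top s)

theorem a4_three : ∃ u v : alternatingGroup (Fin 4),
    u ^ 3 = 1 ∧ v ^ 3 = 1 ∧ u * v ≠ v * u ∧ u * v * u = v * u * v := by
  decide

theorem a5_three : ∃ u v : alternatingGroup (Fin 5),
    u ^ 3 = 1 ∧ v ^ 3 = 1 ∧ u * v ≠ v * u ∧ u * v * u = v * u * v :=
  ⟨⟨⟨![0, 1, 3, 4, 2], ![0, 1, 4, 2, 3], by decide, by decide⟩, by simp only [Equiv.Perm.mem_alternatingGroup]; decide⟩,
   ⟨⟨![0, 2, 4, 3, 1], ![0, 4, 1, 3, 2], by decide, by decide⟩, by simp only [Equiv.Perm.mem_alternatingGroup]; decide⟩,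
   by decide, by decide, by decide, by decide⟩

theorem a5_five : ∃ u v : alternatingGroup (Fin 5),
    u ^ 5 = 1 ∧ v ^ 5 = 1 ∧ u * v ≠ v * u ∧ u * v * u = v * u * v :=
  ⟨⟨⟨![1, 2, 3, 4, 0], ![4, 0, 1, 2, 3], by decide, by decide⟩, by simp only [Equiv.Perm.mem_alternatingGroup]; decide⟩,
   ⟨⟨![2, 0, 4, 1, 3], ![1, 3, 0, 4, 2], by decide, by decide⟩, by simp only [Equiv.Perm.mem_alternatingGroup]; decide⟩,
   by decide, by decide, by decide, by decide⟩

/-- The key extraction. -/
theorem exists_sl2 [Finite F] [CharP F p] (hp : p ≠ 2) (R : Subgroup SL(2, F)) {a b : F}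
    (ha : a ≠ 0) (hb : b ≠ 0) (hA : up a ∈ R) (hB : lo b ∈ R) :
    ∃ g : GL (Fin 2) F,
      ((conjSL g).comp (Matrix.SpecialLinearGroup.map (ZMod.castHom dvd_rfl F))).range ≤ R := by
  classical
  have hP : p.Prime := Fact.out
  set J := R.map Matrix.SpecialLinearGroup.toPGL with hJ
  set u := Matrix.SpecialLinearGroup.toPGL (up a) with hu
  set v := Matrix.SpecialLinearGroup.toPGL (lo b) with hv
  have huJ : u ∈ J := ⟨_, hA, rfl⟩
  have hvJ : v ∈ J := ⟨_, hB, rfl⟩
  have hne : u * v ≠ v * u := up_lo_not_commute ha hb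
  have hpd : p ∣ Nat.card J := by
    have ho : orderOf (⟨u, huJ⟩ : J) = p := orderOf_eq_prime
      (Subtype.ext (show u ^ p = 1 by rw [hu, ← map_pow, up_pow_char p a, map_one]))
      (fun h => hne (by rw [show u = 1 from congrArg Subtype.val h, one_mul, mul_one]))
    exact ho ▸ orderOf_dvd_natCard _
  -- a hom from a group with such a pair
  have key : ∀ {X : Type} [Group X] (θ : X →* J) (s t : X), s ^ p = 1 → t ^ p = 1 →
      θ s * θ t ≠ θ t * θ s → s * t * s = t * s * t → ∃ g : GL (Fin 2) F,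
      ((conjSL g).comp (Matrix.SpecialLinearGroup.map (ZMod.castHom dvd_rfl F))).range ≤ R := by
    intro X _ θ s t hs ht hst hbr
    refine of_braid hp R (θ s).2 (θ t).2 ?_ ?_ (fun h => hst (Subtype.ext h)) ?_
    · rw [← SubmonoidClass.coe_pow, ← map_pow, hs, map_one]; rfl
    · rw [← SubmonoidClass.coe_pow, ← map_pow, ht, map_one]; rfl
    · rw [← Subgroup.coe_mul, ← Subgroup.coe_mul, ← Subgroup.coe_mul, ← Subgroup.coe_mul,
        ← map_mul, ← map_mul, ← map_mul, ← map_mul, hbr]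
  have keyEquiv : ∀ {X : Type} [Group X] (_ : J ≃* X),
      (∃ s t : X, s ^ p = 1 ∧ t ^ p = 1 ∧ s * t ≠ t * s ∧ s * t * s = t * s * t) →
      ∃ g : GL (Fin 2) F,
        ((conjSL g).comp (Matrix.SpecialLinearGroup.map (ZMod.castHom dvd_rfl F))).range ≤ R :=
    fun e ⟨s, t, hs, ht, hst, hbr⟩ => key e.symm.toMonoidHom s t hs ht
      (fun h => hst (e.symm.injective (by rw [map_mul, map_mul]; exact h))) hbr
  rcases Dickson.dickson_pgl p J with ⟨hc, hnd⟩ | ⟨x, hx, -⟩ | ⟨C, -, hnd, hidx, -, -⟩ | ⟨⟨e⟩⟩ |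
    ⟨⟨e⟩⟩ | ⟨⟨e⟩⟩ | ⟨K, -, hK⟩
  · exact absurd hpd hnd
  · exfalso
    have h1 : u • x = x := hx huJ
    have h2 : v • x = x := hx hvJ
    rw [hu, Matrix.SpecialLinearGroup.toPGL, MonoidHom.comp_apply,
      Matrix.ProjGenLinGroup.mk_smul] at h1
    rw [hv, Matrix.SpecialLinearGroup.toPGL, MonoidHom.comp_apply,
      Matrix.ProjGenLinGroup.mk_smul] at h2
    cases x with
    | infty =>
      rw [OnePoint.smul_infty_eq_self_iff] at h2
      exact hb h2
    | coe k =>
      rw [OnePoint.smul_some_eq_ite] at h1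
      simp [coe_up, ha] at h1
  · exfalso
    rw [← Subgroup.card_mul_index C, hidx, hP.dvd_mul] at hpd
    rcases hpd with h | h
    · exact hnd h
    · exact hp ((Nat.prime_dvd_prime_iff_eq hP Nat.prime_two).1 h)
  · obtain rfl : p = 3 := by
      rw [Nat.card_congr e.toEquiv, Nat.card_eq_fintype_card,
        show Fintype.card (alternatingGroup (Fin 4)) = 2 ^ 2 * 3 from rfl, hP.dvd_mul] at hpd
      rcases hpd with h | h
      · exact absurd ((Nat.prime_dvd_prime_iff_eq hP Nat.prime_two).1 (hP.dvd_of_dvd_pow h)) hp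
      · exact (Nat.prime_dvd_prime_iff_eq hP Nat.prime_three).1 h
    exact keyEquiv e a4_three
  · obtain rfl : p = 3 := by
      rw [Nat.card_congr e.toEquiv, Nat.card_eq_fintype_card, Fintype.card_perm,
        show Nat.factorial (Fintype.card (Fin 4)) = 2 ^ 3 * 3 from rfl, hP.dvd_mul] at hpd
      rcases hpd with h | h
      · exact absurd ((Nat.prime_dvd_prime_iff_eq hP Nat.prime_two).1 (hP.dvd_of_dvd_pow h)) hp
      · exact (Nat.prime_dvd_prime_iff_eq hP Nat.prime_three).1 h
    obtain ⟨s, t, hs, ht, hst, hbr⟩ := a4_three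
    refine keyEquiv e ⟨s.1, t.1, ?_, ?_, fun h => hst (Subtype.ext h), congrArg Subtype.val hbr⟩
    · exact congrArg Subtype.val hs
    · exact congrArg Subtype.val ht
  · rcases (show p = 3 ∨ p = 5 by
      rw [Nat.card_congr e.toEquiv, Nat.card_eq_fintype_card,
        show Fintype.card (alternatingGroup (Fin 5)) = 2 ^ 2 * (3 * 5) from rfl, hP.dvd_mul,
        hP.dvd_mul] at hpd
      rcases hpd with h | h | h
      · exact absurd ((Nat.prime_dvd_prime_iff_eq hP Nat.prime_two).1 (hP.dvd_of_dvd_pow h)) hp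
      · exact Or.inl ((Nat.prime_dvd_prime_iff_eq hP Nat.prime_three).1 h)
      · exact Or.inr ((Nat.prime_dvd_prime_iff_eq hP Nat.prime_five).1 h)) with rfl | rfl
    · exact keyEquiv e a5_three
    · exact keyEquiv e a5_five
  · haveI : CharP K p := (RingHom.charP_iff K.subtype K.subtype.injective p).mpr inferInstance
    have hnc := up_lo_not_commute (F := K) (a := 1) (b := -1) one_ne_zero
      (neg_ne_zero.2 one_ne_zero)
    rcases hK with ⟨⟨e⟩⟩ | ⟨-, ⟨e⟩⟩
    · refine of_braid hp R (e.symm (Matrix.SpecialLinearGroup.toPGL (up 1))).2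
        (e.symm (Matrix.SpecialLinearGroup.toPGL (lo (-1)))).2 ?_ ?_ ?_ ?_
      · rw [← SubmonoidClass.coe_pow, ← map_pow, ← map_pow, up_pow_char p, map_one, map_one]; rfl
      · rw [← SubmonoidClass.coe_pow, ← map_pow, ← map_pow, lo_pow_char p, map_one, map_one]; rfl
      · intro h
        exact hnc (e.symm.injective (by rw [map_mul, map_mul]; exact Subtype.ext h))
      · rw [← Subgroup.coe_mul, ← Subgroup.coe_mul, ← Subgroup.coe_mul, ← Subgroup.coe_mul,
          ← map_mul, ← map_mul, ← map_mul, ← map_mul, ← map_mul, ← map_mul, ← map_mul, ← map_mul,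
          braid]
    · let π : SL(2, K) →* Matrix.ProjectiveSpecialLinearGroup (Fin 2) K := QuotientGroup.mk' _
      refine of_braid hp R (e.symm (π (up 1))).2 (e.symm (π (lo (-1)))).2 ?_ ?_ ?_ ?_
      · rw [← SubmonoidClass.coe_pow, ← map_pow, ← map_pow, up_pow_char p, map_one, map_one]; rfl
      · rw [← SubmonoidClass.coe_pow, ← map_pow, ← map_pow, lo_pow_char p, map_one, map_one]; rfl
      · intro h
        apply hnc
        have h' : π (up 1) * π (lo (-1)) = π (lo (-1)) * π (up 1) :=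
          e.symm.injective (by rw [map_mul, map_mul]; exact Subtype.ext h)
        have h'' := congrArg Matrix.ProjectiveSpecialLinearGroup.toPGL h'
        rw [map_mul, map_mul] at h''
        exact h''
      · rw [← Subgroup.coe_mul, ← Subgroup.coe_mul, ← Subgroup.coe_mul, ← Subgroup.coe_mul,
          ← map_mul, ← map_mul, ← map_mul, ← map_mul, ← map_mul, ← map_mul, ← map_mul, ← map_mul,
          braid]

end Cfsg.Agent.QuadraticDickson
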