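import Mathlib
import Cfsg.Prelude.Def_PLocal
import Cfsg.Prelude.Def_Local
import Cfsg.Agent.Lib.Offenders
import Cfsg.Agent.Lib.OffendersReplace
import Cfsg.Agent.Lib.OffendersFF
import Cfsg.Agent.Lib.QuadraticDickson
import Cfsg.Agent.Lib.QuadraticThree
import Cfsg.Agent.Lib.HallCore

/-!
A minimal offender and a conjugate under the `p'`-core generate `SL(2,p)` on a plane.
-/

set_option autoImplicit false

open scoped MatrixGroups commutatorElement

namespace Cfsg.Agent.OffendersPlane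

open Cfsg OffendersReplace OffendersFF

variable {G : Type*} [Group G] {p : ℕ} {V H A : Subgroup G}

/-- The image of a subgroup under conjugation. -/
abbrev cj (x : G) (S : Subgroup G) : Subgroup G := S.map (MulAut.conj x).toMonoidHom

theorem mem_cj {x : G} {S : Subgroup G} {y : G} : y ∈ cj x S ↔ ∃ s ∈ S, x * s * x⁻¹ = y :=
  ⟨fun ⟨s, hs, e⟩ => ⟨s, hs, e⟩, fun ⟨s, hs, e⟩ => ⟨s, hs, e⟩⟩

theorem cj_eq_self {x : G} {S : Subgroup G} (hx : x ∈ Subgroup.normalizer (S : Set G)) :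
    cj x S = S := by
  ext y
  rw [mem_cj]
  constructor
  · rintro ⟨s, hs, rfl⟩
    exact (Subgroup.mem_normalizer_iff.1 hx s).1 hs
  · intro hy
    exact ⟨x⁻¹ * y * x, by simpa using (Subgroup.mem_normalizer_iff''.1 hx y).1 hy,
      by simp [mul_assoc]⟩

theorem cj_cj (x y : G) (S : Subgroup G) : cj x (cj y S) = cj (x * y) S := by
  rw [cj, cj, Subgroup.map_map]
  congr 1
  ext s
  simp [mul_assoc]

theorem cj_one (S : Subgroup G) : cj 1 S = S := by
  ext y; rw [mem_cj]; simp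

theorem cj_fixedIn {x : G} (hx : x ∈ Subgroup.normalizer (V : Set G)) (B : Subgroup G) :
    cj x (fixedIn V B) = fixedIn V (cj x B) := by
  have hV := cj_eq_self hx
  ext y
  rw [mem_cj]
  constructor
  · rintro ⟨s, hs, rfl⟩
    refine ⟨(Subgroup.mem_normalizer_iff.1 hx s).1 hs.1, ?_⟩
    rintro _ ⟨b, hb, rfl⟩
    show x * b * x⁻¹ * (x * s * x⁻¹) = x * s * x⁻¹ * (x * b * x⁻¹)
    calc x * b * x⁻¹ * (x * s * x⁻¹) = x * (b * s) * x⁻¹ := by group
      _ = x * (s * b) * x⁻¹ := by rw [hs.2 b hb]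
      _ = _ := by group
  · rintro ⟨hyV, hyc⟩
    refine ⟨x⁻¹ * y * x, ⟨(Subgroup.mem_normalizer_iff''.1 hx y).1 hyV, fun b hb => ?_⟩,
      by simp [mul_assoc]⟩
    have h : x * b * x⁻¹ * y = y * (x * b * x⁻¹) := hyc _ ⟨b, hb, rfl⟩
    calc b * (x⁻¹ * y * x) = x⁻¹ * (x * b * x⁻¹ * y) * x := by group
      _ = x⁻¹ * (y * (x * b * x⁻¹)) * x := by rw [h]
      _ = _ := by group

theorem cj_commutator {x : G} (hx : x ∈ Subgroup.normalizer (V : Set G)) (B : Subgroup G) :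
    cj x ⁅V, B⁆ = ⁅V, cj x B⁆ := by
  rw [cj, Subgroup.map_commutator]
  exact congrArg (fun S => ⁅S, cj x B⁆) (cj_eq_self hx)

theorem commutator_cj_eq {g : G} {B : Subgroup G} (hg : ∀ b ∈ B, g * b = b * g) :
    cj g B = B :=
  cj_eq_self (Subgroup.mem_normalizer_iff.2 fun b => by
    constructor
    · intro hb; rw [hg b hb, mul_inv_cancel_right]; exact hb
    · intro hb
      have := hg _ hb
      have e : g * b * g⁻¹ = b := mul_left_cancel (a := g) (by rw [this]; group)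
      rwa [e] at hb)

theorem ea_generator [Finite G] [hp : Fact p.Prime] {T : Subgroup G} (hT : Nat.card T = p) :
    ∃ t ∈ T, t ≠ 1 ∧ T = Subgroup.zpowers t ∧ t ^ p = 1 := by
  obtain ⟨t, ht⟩ := exists_prime_orderOf_dvd_card' p (dvd_of_eq hT.symm)
  have ht' : orderOf (t : G) = p := by rw [Subgroup.orderOf_coe, ht]
  refine ⟨t, t.2, fun e => ?_,
    (Subgroup.eq_of_le_of_card_ge (Subgroup.zpowers_le.2 t.2) ?_).symm, ?_⟩
  · rw [e, orderOf_one] at ht'
    exact hp.out.one_lt.ne ht'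
  · rw [hT, Nat.card_zpowers, ht']
  · rw [← ht', pow_orderOf_eq_one]

/-- Two subgroups of order `p` with a common nontrivial element coincide. -/
theorem eq_of_card_p [Finite G] [hp : Fact p.Prime] {S T : Subgroup G} (hS : Nat.card S = p)
    (hT : Nat.card T = p) {t : G} (htS : t ∈ S) (htT : t ∈ T) (ht : t ≠ 1) : S = T := by
  have key : ∀ R : Subgroup G, Nat.card R = p → t ∈ R → Subgroup.zpowers t = R := by
    intro R hR htR
    refine Subgroup.eq_of_le_of_card_ge (Subgroup.zpowers_le.2 htR) ?_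
    rw [hR, Nat.card_zpowers]
    rcases (Nat.dvd_prime hp.out).1 (hR ▸ Subgroup.orderOf_dvd_natCard R htR) with h | h
    · exact absurd (orderOf_eq_one_iff.1 h) ht
    · rw [h]
  rw [← key S hS htS, key T hT htT]

theorem inf_eq_bot_of_not_le [Finite G] [hp : Fact p.Prime] {S W : Subgroup G}
    (hS : Nat.card S = p) (h : ¬ S ≤ W) : S ⊓ W = ⊥ := by
  rw [Subgroup.eq_bot_iff_forall]
  intro t ht
  by_contra ht1
  apply h
  have hle : Subgroup.zpowers t = S := by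
    refine Subgroup.eq_of_le_of_card_ge (Subgroup.zpowers_le.2 ht.1) ?_
    rw [hS, Nat.card_zpowers]
    rcases (Nat.dvd_prime hp.out).1 (hS ▸ Subgroup.orderOf_dvd_natCard S ht.1) with h' | h'
    · exact absurd (orderOf_eq_one_iff.1 h') ht1
    · rw [h']
  rw [← hle]
  exact Subgroup.zpowers_le.2 ht.2

theorem pow_val_add [NeZero p] {e : G} (he : e ^ p = 1) (i j : ZMod p) :
    e ^ (i + j).val = e ^ i.val * e ^ j.val := by
  rw [← pow_add, ZMod.val_add, ← pow_eq_pow_mod _ he]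

theorem pow_val_mul [NeZero p] {e : G} (he : e ^ p = 1) (i j : ZMod p) :
    e ^ (i * j).val = (e ^ i.val) ^ j.val := by
  rw [← pow_mul, ZMod.val_mul, ← pow_eq_pow_mod _ he]

variable [Finite G] [hp : Fact p.Prime]

/-- A `p'`-element of the core centralising `T` and moving `v` inside `v T` fixes `v`. -/
theorem commute_of_stabilizes (h : Hyp p V H) {g v : G} {T : Subgroup G} (hT : T ≤ V)
    (hg : g ∈ core p H) (hc : ∀ t ∈ T, t * g = g * t) (hv : v ∈ V) (hvg : ⁅v, g⁆ ∈ T) :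
    v * g = g * v := by
  rw [← commutatorElement_eq_one_iff_mul_comm]
  set t := ⁅v, g⁆ with ht
  have htp : t ^ p = 1 := h.pow_V (hT hvg)
  have hconj : g * t * g⁻¹ = t := by rw [← hc t hvg, mul_inv_cancel_right]
  have hstep : g * v * g⁻¹ = t⁻¹ * v := by rw [ht, commutatorElement_def]; group
  have hpow : ∀ n : ℕ, g ^ n * v * (g ^ n)⁻¹ = (t ^ n)⁻¹ * v := by
    intro n
    induction n with
    | zero => simp
    | succ n ih =>
      have e : g ^ (n + 1) * v * (g ^ (n + 1))⁻¹ = g * (g ^ n * v * (g ^ n)⁻¹) * g⁻¹ := by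
        rw [pow_succ']; group
      rw [e, ih]
      have e2 : g * ((t ^ n)⁻¹ * v) * g⁻¹ = (g * t * g⁻¹) ^ (-(n : ℤ)) * (g * v * g⁻¹) := by
        rw [conj_zpow, zpow_neg, zpow_natCast]; group
      rw [e2, hconj, hstep, zpow_neg, zpow_natCast, ← mul_assoc, ← mul_inv_rev, ← pow_succ']
  have h1 := hpow (orderOf g)
  rw [pow_orderOf_eq_one, one_mul, inv_one, mul_one, eq_comm, mul_eq_right, inv_eq_one] at h1
  exact orderOf_eq_one_iff.1 (Nat.eq_one_of_dvd_coprimes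
    ((OffendersFF.Hyp.coprime_core p H).coprime_dvd_left (Subgroup.orderOf_dvd_natCard _ hg))
    (orderOf_dvd_of_pow_eq_one h1) (orderOf_dvd_of_pow_eq_one htp))

/-- The facts about a minimal offender `A = ⟨a⟩`. -/
structure Min (p : ℕ) (V H A : Subgroup G) (a : G) : Prop where
  hyp : Hyp p V H
  le : A ≤ H
  gen : A = Subgroup.zpowers a
  ne : a ≠ 1
  pow : a ^ p = 1
  cardT : Nat.card ↥(⁅V, A⁆) = p
  index : (fixedIn V A).relIndex V = p
  TleC : ⁅V, A⁆ ≤ fixedIn V A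

theorem exists_min (h : Hyp p V H) (hAH : A ≤ H) (hA : IsMinimal p V A) :
    ∃ a, Min p V H A a := by
  obtain ⟨a, ha, ha1, e⟩ := h.minimal_eq_zpowers hAH hA
  have hap : a ^ p = 1 := ((Offenders.ea_iff A).1 (h.comm_offender hAH hA.1)).2 a ha
  refine ⟨a, h, hAH, e, ha1, hap, h.minimal_commutator hAH hA, h.minimal_relIndex hAH hA, ?_⟩
  have hTV : ⁅V, A⁆ ≤ V :=
    Subgroup.le_normalizer_iff_commutator_le_left.1 (hAH.trans h.norm)
  refine le_inf hTV ?_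
  have hbot : ⁅⁅V, A⁆, A⁆ = ⊥ := by
    have hle : ⁅⁅V, A⁆, A⁆ ≤ ⁅V, A⁆ := Subgroup.commutator_mono hTV le_rfl
    have hd : Nat.card ↥(⁅⁅V, A⁆, A⁆) ∣ p :=
      h.minimal_commutator hAH hA ▸ Subgroup.card_dvd_of_le hle
    rcases (Nat.dvd_prime hp.out).1 hd with h1 | h1
    · exact Subgroup.card_eq_one.1 h1
    · exfalso
      have he := Subgroup.eq_of_le_of_card_ge hle (by rw [h.minimal_commutator hAH hA, h1])
      refine hA.2.1 (eq_bot_of_le_commutator (p := p) (Offenders.ea_isPGroup h.ea)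
        (hAH.trans h.norm) (fun b hb => ⟨1, ?_⟩) hTV he.ge)
      rw [pow_one]
      exact hA.1.2.2 b hb
  exact Subgroup.commutator_eq_bot_iff_le_centralizer.1 hbot

namespace Min

variable {a : G} (m : Min p V H A a)
include m

theorem mem : a ∈ A := m.gen ▸ Subgroup.mem_zpowers a

theorem aH : a ∈ H := m.le m.mem

theorem TV : ⁅V, A⁆ ≤ V := m.TleC.trans inf_le_left

theorem fixed_iff {v : G} (hv : v ∈ V) : v ∈ fixedIn V A ↔ v * a = a * v := by
  constructor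
  · intro h; exact (h.2 a m.mem).symm
  · intro h
    refine ⟨hv, fun b hb => ?_⟩
    obtain ⟨i, rfl⟩ := m.gen.le hb
    exact ((show Commute v a from h).zpow_right i).symm.eq

theorem mem_T {v : G} (hv : v ∈ V) : ⁅v, a⁆ ∈ ⁅V, A⁆ :=
  Subgroup.commutator_mem_commutator hv m.mem

theorem T_commute {t : G} (ht : t ∈ ⁅V, A⁆) : t * a = a * t :=
  (m.fixed_iff (m.TV ht)).1 (m.TleC ht)

theorem conj {g : G} (hg : g ∈ H) : Min p V H (cj g A) (g * a * g⁻¹) := by
  have hV := m.hyp.norm hg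
  refine ⟨m.hyp, ?_, ?_, ?_, ?_, ?_, ?_, ?_⟩
  · rintro y hy
    obtain ⟨s, hs, rfl⟩ := mem_cj.1 hy
    exact mul_mem (mul_mem hg (m.le hs)) (inv_mem hg)
  · show cj g A = _
    rw [m.gen, cj, MonoidHom.map_zpowers]; rfl
  · intro e
    exact m.ne (conj_eq_one_iff.1 e)
  · rw [conj_pow, m.pow, mul_one, mul_inv_cancel]
  · rw [← cj_commutator hV, cj, Subgroup.card_map_of_injective (MulAut.conj g).injective, m.cardT]
  · have h1 := HallCore.card_mul_relIndex (A := fixedIn V A) (B := V) inf_le_left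
    have h2 := HallCore.card_mul_relIndex (A := fixedIn V (cj g A)) (B := V) inf_le_left
    rw [← cj_fixedIn hV, cj, Subgroup.card_map_of_injective (MulAut.conj g).injective] at h2
    rw [← cj_fixedIn hV, ← m.index]
    exact Nat.eq_of_mul_eq_mul_left Nat.card_pos (h2.trans h1.symm)
  · rw [← cj_commutator hV, ← cj_fixedIn hV]
    exact Subgroup.map_mono m.TleC

/-- An element of the core fixing the point of `a` commutes with `a`. -/
theorem commute_of_point {x : G} (hx : x ∈ core p H) (hxT : cj x ⁅V, A⁆ = ⁅V, A⁆) :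
    x * a = a * x := by
  have hxH := Hyp.core_le p H hx
  have m' := m.conj hxH
  have hT' : ⁅V, cj x A⁆ = ⁅V, A⁆ := by rw [← cj_commutator (m.hyp.norm hxH), hxT]
  rw [← commutatorElement_eq_one_iff_mul_comm]
  have hcK : ⁅x, a⁆ ∈ core p H := by
    rw [commutatorElement_def, mul_assoc x, mul_assoc x]
    exact mul_mem hx ((Subgroup.mem_normalizer_iff.1 (Hyp.core_normalized p H m.aH) _).1
      (inv_mem hx))
  refine m.hyp.eq_one (Hyp.core_le p H hcK) fun v hv => ?_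
  have hce : ⁅x, a⁆ = (x * a * x⁻¹) * a⁻¹ := by rw [commutatorElement_def]
  refine commute_of_stabilizes m.hyp m.TV hcK (fun t ht => ?_) hv ?_
  · have e1 : Commute t a := m.T_commute ht
    have e2 : Commute t (x * a * x⁻¹) := m'.T_commute (hT'.ge ht)
    rw [hce]
    exact e2.mul_right e1.inv_right
  · rw [hce]
    have e : ⁅v, x * a * x⁻¹ * a⁻¹⁆ =
        ⁅v, x * a * x⁻¹⁆ * ((x * a * x⁻¹) * ⁅v, a⁻¹⁆ * (x * a * x⁻¹)⁻¹) := by
      simp only [commutatorElement_def]; group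
    rw [e]
    have h1 : ⁅v, x * a * x⁻¹⁆ ∈ ⁅V, A⁆ := hT'.le (m'.mem_T hv)
    have h2 : ⁅v, a⁻¹⁆ ∈ ⁅V, A⁆ := Subgroup.commutator_mem_commutator hv (inv_mem m.mem)
    have h3 : Commute (⁅v, a⁻¹⁆) (x * a * x⁻¹) := m'.T_commute (hT'.ge h2)
    rw [← h3.eq, mul_inv_cancel_right]
    exact mul_mem h1 h2

theorem point_not_le {x : G} (hx : x ∈ core p H) (hxa : x * a ≠ a * x) :
    ¬ cj x ⁅V, A⁆ ≤ fixedIn V A := by
  intro hle
  apply hxa
  have hxH := Hyp.core_le p H hx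
  have m' := m.conj hxH
  have hT' : ⁅V, cj x A⁆ = cj x ⁅V, A⁆ := (cj_commutator (m.hyp.norm hxH) A).symm
  set c := ⁅x, a⁆ with hcd
  have hcK : c ∈ core p H := by
    rw [hcd, commutatorElement_def, mul_assoc x, mul_assoc x]
    exact mul_mem hx ((Subgroup.mem_normalizer_iff.1 (Hyp.core_normalized p H m.aH) _).1
      (inv_mem hx))
  have hce : c = (x * a * x⁻¹) * a⁻¹ := by rw [hcd, commutatorElement_def]
  rw [← commutatorElement_eq_one_iff_mul_comm]
  set U := ⁅V, A⁆ ⊔ ⁅V, cj x A⁆ with hU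
  have hUV : U ≤ V := sup_le m.TV m'.TV
  have hUc : U ≤ Subgroup.centralizer {a} := sup_le
    (fun t ht => Subgroup.mem_centralizer_singleton_iff.2 (m.T_commute ht))
    (fun t ht => Subgroup.mem_centralizer_singleton_iff.2
      ((m.fixed_iff (m'.TV ht)).1 (hle (hT'.le ht))))
  have hstep : ∀ v ∈ V, ⁅v, c⁆ = ⁅v, x * a * x⁻¹⁆ *
      ((x * a * x⁻¹) * ⁅v, a⁻¹⁆ * (x * a * x⁻¹)⁻¹) := by
    intro v _
    rw [hce]; simp only [commutatorElement_def]; group
  have hU1 : ∀ u ∈ U, u * c = c * u := by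
    intro u hu
    refine commute_of_stabilizes m.hyp m'.TV hcK (fun t ht => ?_) (hUV hu) ?_
    · have e1 : Commute t a :=
        Subgroup.mem_centralizer_singleton_iff.1 (hUc (Subgroup.mem_sup_right ht))
      have e2 : Commute t (x * a * x⁻¹) := m'.T_commute ht
      rw [hce]
      exact e2.mul_right e1.inv_right
    · have e1 : Commute u a⁻¹ :=
        (show Commute u a from Subgroup.mem_centralizer_singleton_iff.1 (hUc hu)).inv_right
      rw [hstep u (hUV hu), commutatorElement_eq_one_iff_mul_comm.2 e1.eq, mul_one,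
        mul_inv_cancel, mul_one]
      exact m'.mem_T (hUV hu)
  refine m.hyp.eq_one (Hyp.core_le p H hcK) fun v hv => ?_
  refine commute_of_stabilizes m.hyp hUV hcK hU1 hv ?_
  rw [hstep v hv]
  refine mul_mem (Subgroup.mem_sup_right (m'.mem_T hv)) ?_
  have h2 : ⁅v, a⁻¹⁆ ∈ ⁅V, A⁆ := Subgroup.commutator_mem_commutator hv (inv_mem m.mem)
  set w := ⁅v, a⁻¹⁆ with hw
  have h3 : (x * a * x⁻¹) * w * (x * a * x⁻¹)⁻¹ = ⁅w, x * a * x⁻¹⁆⁻¹ * w := by
    simp only [commutatorElement_def]; group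
  rw [h3]
  exact mul_mem (inv_mem (Subgroup.mem_sup_right (m'.mem_T (m.TV h2)))) (Subgroup.mem_sup_left h2)

theorem exists_noncommute : ∃ x ∈ core p H, x * a ≠ a * x := by
  by_contra hno
  push Not at hno
  exact m.ne (OffendersFF.Hyp.eq_one_of_core (m.hyp.mem_core_of_commute m.aH hno) m.pow)

/-- Both points lie off the other hyperplane. -/
theorem nondegenerate {x : G} (hx : x ∈ core p H) (hxa : x * a ≠ a * x) :
    cj x ⁅V, A⁆ ⊓ fixedIn V A = ⊥ ∧ ⁅V, A⁆ ⊓ fixedIn V (cj x A) = ⊥ := by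
  have hxH := Hyp.core_le p H hx
  refine ⟨inf_eq_bot_of_not_le (p := p) ?_ (m.point_not_le hx hxa),
    inf_eq_bot_of_not_le (p := p) m.cardT ?_⟩
  · rw [cj, Subgroup.card_map_of_injective (MulAut.conj x).injective, m.cardT]
  · intro hle
    refine m.point_not_le (inv_mem hx) (fun e => hxa ?_) ?_
    · have e' : Commute x⁻¹ a := e
      have e'' : Commute x a := by simpa using e'.inv_left
      exact e''.eq
    · rw [← cj_fixedIn (m.hyp.norm hxH)] at hle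
      have := Subgroup.map_mono (f := (MulAut.conj x⁻¹).toMonoidHom) hle
      rwa [← cj, ← cj, cj_cj, inv_mul_cancel, cj_one] at this

end Min

/-- A minimal offender with a noncommuting element of the core, and generators of both points. -/
structure Pair (p : ℕ) (V H A : Subgroup G) (a x e₁ e₂ : G) : Prop where
  min : Min p V H A a
  xK : x ∈ core p H
  xa : x * a ≠ a * x
  he₁ : ⁅V, A⁆ = Subgroup.zpowers e₁
  he₂ : cj x ⁅V, A⁆ = Subgroup.zpowers e₂
  e₁p : e₁ ^ p = 1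
  e₂p : e₂ ^ p = 1

theorem exists_pair {a x : G} (m : Min p V H A a) (hx : x ∈ core p H) (hxa : x * a ≠ a * x) :
    ∃ e₁ e₂, Pair p V H A a x e₁ e₂ := by
  obtain ⟨e₁, -, -, h1, h1'⟩ := ea_generator m.cardT
  obtain ⟨e₂, -, -, h2, h2'⟩ := ea_generator (p := p) (T := cj x ⁅V, A⁆)
    (by rw [cj, Subgroup.card_map_of_injective (MulAut.conj x).injective, m.cardT])
  exact ⟨e₁, e₂, m, hx, hxa, h1, h2, h1', h2'⟩

/-- The element of the plane with given coordinates. -/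
def pl (e₁ e₂ : G) (v : Fin 2 → ZMod p) : G := e₁ ^ (v 0).val * e₂ ^ (v 1).val

/-- The plane. -/
def plane (V A : Subgroup G) (x : G) : Subgroup G := ⁅V, A⁆ ⊔ ⁅V, cj x A⁆

namespace Pair

variable {a x e₁ e₂ : G} (P : Pair p V H A a x e₁ e₂)
include P

theorem xH : x ∈ H := Hyp.core_le p H P.xK

theorem minx : Min p V H (cj x A) (x * a * x⁻¹) := P.min.conj P.xH

theorem point₂ : ⁅V, cj x A⁆ = Subgroup.zpowers e₂ := by
  rw [← cj_commutator (P.min.hyp.norm P.xH), P.he₂]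

theorem e₁T : e₁ ∈ ⁅V, A⁆ := P.he₁ ▸ Subgroup.mem_zpowers e₁

theorem e₂T : e₂ ∈ ⁅V, cj x A⁆ := P.point₂ ▸ Subgroup.mem_zpowers e₂

theorem e₁V : e₁ ∈ V := P.min.TV P.e₁T

theorem e₂V : e₂ ∈ V := P.minx.TV P.e₂T

theorem order₁ : orderOf e₁ = p := by
  rw [← Nat.card_zpowers, ← P.he₁, P.min.cardT]

theorem order₂ : orderOf e₂ = p := by
  rw [← Nat.card_zpowers, ← P.point₂, P.minx.cardT]

theorem e₂_not : e₂ * a ≠ a * e₂ := by
  intro h
  have h1 : e₂ ∈ cj x ⁅V, A⁆ ⊓ fixedIn V A :=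
    ⟨P.he₂ ▸ Subgroup.mem_zpowers e₂, (P.min.fixed_iff P.e₂V).2 h⟩
  rw [(P.min.nondegenerate P.xK P.xa).1, Subgroup.mem_bot] at h1
  have := P.order₂
  rw [h1, orderOf_one] at this
  exact hp.out.one_lt.ne this

theorem e₁_not : e₁ * (x * a * x⁻¹) ≠ (x * a * x⁻¹) * e₁ := by
  intro h
  have h1 : e₁ ∈ ⁅V, A⁆ ⊓ fixedIn V (cj x A) := ⟨P.e₁T, (P.minx.fixed_iff P.e₁V).2 h⟩
  rw [(P.min.nondegenerate P.xK P.xa).2, Subgroup.mem_bot] at h1
  have := P.order₁
  rw [h1, orderOf_one] at this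
  exact hp.out.one_lt.ne this

theorem pl_mem (v : Fin 2 → ZMod p) : pl e₁ e₂ v ∈ plane V A x :=
  mul_mem (Subgroup.mem_sup_left (pow_mem P.e₁T _)) (Subgroup.mem_sup_right (pow_mem P.e₂T _))

theorem planeV : plane V A x ≤ V := sup_le P.min.TV P.minx.TV

theorem pl_surj {u : G} (hu : u ∈ plane V A x) : ∃ v : Fin 2 → ZMod p, pl e₁ e₂ v = u := by
  rw [plane, ← SetLike.mem_coe, Subgroup.coe_mul_of_left_le_normalizer_right _ _
    (le_normalizer_of_commute fun s hs t ht => P.min.hyp.comm_V (P.min.TV hs) (P.minx.TV ht))] at hu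
  obtain ⟨s, hs, t, ht, rfl⟩ := hu
  rw [SetLike.mem_coe, P.he₁] at hs
  rw [SetLike.mem_coe, P.point₂] at ht
  obtain ⟨i, rfl⟩ := hs
  obtain ⟨j, rfl⟩ := ht
  refine ⟨![(i : ZMod p), (j : ZMod p)], ?_⟩
  have key : ∀ e : G, e ^ p = 1 → ∀ i : ℤ, e ^ ((i : ZMod p)).val = e ^ i := by
    intro e he i
    rw [← zpow_natCast, ZMod.val_intCast]
    conv_rhs => rw [← Int.mul_ediv_add_emod i p, zpow_add, zpow_mul, zpow_natCast, he, one_zpow,
      one_mul]
  simp [pl, key e₁ P.e₁p, key e₂ P.e₂p]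

theorem pl_add (v w : Fin 2 → ZMod p) : pl e₁ e₂ (v + w) = pl e₁ e₂ v * pl e₁ e₂ w := by
  have hc : Commute (e₁ ^ (w 0).val) (e₂ ^ (v 1).val) :=
    P.min.hyp.comm_V (pow_mem P.e₁V _) (pow_mem P.e₂V _)
  simp only [pl, Pi.add_apply, pow_val_add P.e₁p, pow_val_add P.e₂p]
  calc e₁ ^ (v 0).val * e₁ ^ (w 0).val * (e₂ ^ (v 1).val * e₂ ^ (w 1).val)
      = e₁ ^ (v 0).val * (e₁ ^ (w 0).val * e₂ ^ (v 1).val) * e₂ ^ (w 1).val := by group
    _ = e₁ ^ (v 0).val * (e₂ ^ (v 1).val * e₁ ^ (w 0).val) * e₂ ^ (w 1).val := by rw [hc.eq]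
    _ = _ := by group

theorem pl_zero : pl e₁ e₂ (0 : Fin 2 → ZMod p) = 1 := by simp [pl]

theorem pl_inj : Function.Injective (pl (p := p) e₁ e₂) := by
  have h0 : ∀ v : Fin 2 → ZMod p, pl e₁ e₂ v = 1 → v = 0 := by
    intro v hv
    have hfix : ∀ (e : G), orderOf e = p → ∀ i : ZMod p, e ^ i.val = 1 → i = 0 := by
      intro e he i hi
      have := orderOf_dvd_of_pow_eq_one hi
      rw [he] at this
      exact (ZMod.val_eq_zero i).1 (Nat.eq_zero_of_dvd_of_lt this (ZMod.val_lt i))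
    have hv' : e₂ ^ (v 1).val = (e₁ ^ (v 0).val)⁻¹ := eq_inv_of_mul_eq_one_right hv
    have h2 : e₂ ^ (v 1).val = 1 := by
      have hmem : e₂ ^ (v 1).val ∈ cj x ⁅V, A⁆ ⊓ fixedIn V A := by
        refine ⟨P.he₂ ▸ pow_mem (Subgroup.mem_zpowers e₂) _, ?_⟩
        rw [hv']
        show (e₁ ^ (v 0).val)⁻¹ ∈ fixedIn V A
        exact inv_mem (P.min.TleC (pow_mem P.e₁T _))
      rwa [(P.min.nondegenerate P.xK P.xa).1, Subgroup.mem_bot] at hmem
    rw [h2, eq_comm, inv_eq_one] at hv'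
    funext i
    fin_cases i
    · exact hfix e₁ P.order₁ _ hv'
    · exact hfix e₂ P.order₂ _ h2
  intro v w h
  refine sub_eq_zero.1 (h0 _ ?_)
  have := P.pl_add (v - w) w
  rw [sub_add_cancel, h] at this
  exact (mul_eq_right.1 this.symm)

/-- Points of the plane are conjugate to points of `A` under the core. -/
theorem orbit {u : G} (hu : u ∈ plane V A x) :
    u ∈ ⁅V, A⁆ ∨ ∃ n : ℕ, u ∈ cj (a ^ n * x * (a ^ n)⁻¹) ⁅V, A⁆ := by
  obtain ⟨v, rfl⟩ := P.pl_surj hu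
  by_cases h1 : v 1 = 0
  · left
    simp only [pl, h1, ZMod.val_zero, pow_zero, mul_one]
    exact pow_mem P.e₁T _
  right
  set t := ⁅e₂, a⁆⁻¹ with ht
  have htT : t ∈ ⁅V, A⁆ := inv_mem (P.min.mem_T P.e₂V)
  have he2 : a * e₂ * a⁻¹ = t * e₂ := by rw [ht, commutatorElement_def]; group
  have hpow : ∀ n : ℕ, a ^ n * e₂ * (a ^ n)⁻¹ = t ^ n * e₂ := by
    intro n
    induction n with
    | zero => simp
    | succ n ih =>
      have hta : a * t * a⁻¹ = t := by rw [← P.min.T_commute htT, mul_inv_cancel_right]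
      have e : a ^ (n + 1) * e₂ * (a ^ (n + 1))⁻¹ = a * (a ^ n * e₂ * (a ^ n)⁻¹) * a⁻¹ := by
        rw [pow_succ']; group
      rw [e, ih, pow_succ]
      calc a * (t ^ n * e₂) * a⁻¹ = (a * t * a⁻¹) ^ n * (a * e₂ * a⁻¹) := by
            rw [conj_pow]; group
        _ = t ^ n * t * e₂ := by rw [hta, he2, mul_assoc]
  obtain ⟨k, hk⟩ : ∃ k : ℕ, (t ^ k) ^ (v 1).val = e₁ ^ (v 0).val := by
    have htne : t ≠ 1 := fun e => P.e₂_not
      (commutatorElement_eq_one_iff_mul_comm.1 (inv_eq_one.1 (ht ▸ e)))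
    have hz : Subgroup.zpowers t = ⁅V, A⁆ :=
      eq_of_card_p (p := p) (by
        rw [Nat.card_zpowers]
        exact orderOf_eq_prime (P.min.hyp.pow_V (P.min.TV htT)) htne)
        P.min.cardT (Subgroup.mem_zpowers t) htT htne
    have hmem : e₁ ^ (v 0).val ∈ Subgroup.zpowers t := hz ▸ pow_mem P.e₁T _
    obtain ⟨i, hi⟩ := (isOfFinOrder_of_finite t).mem_powers_iff_mem_zpowers.2 hmem
    refine ⟨((i : ZMod p) / v 1).val, ?_⟩
    rw [← pow_val_mul (P.min.hyp.pow_V (P.min.TV htT)), div_mul_cancel₀ _ h1, ZMod.val_natCast,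
      ← pow_eq_pow_mod _ (P.min.hyp.pow_V (P.min.TV htT))]
    exact hi
  refine ⟨k, ?_⟩
  obtain ⟨s, hs, hse⟩ : ∃ s ∈ ⁅V, A⁆, x * s * x⁻¹ = e₂ :=
    mem_cj.1 (P.he₂ ▸ Subgroup.mem_zpowers e₂ : e₂ ∈ cj x ⁅V, A⁆)
  refine mem_cj.2 ⟨s ^ (v 1).val, pow_mem hs _, ?_⟩
  have hsa : Commute s (a ^ k) := (show Commute s a from P.min.T_commute hs).pow_right k
  calc a ^ k * x * (a ^ k)⁻¹ * s ^ (v 1).val * (a ^ k * x * (a ^ k)⁻¹)⁻¹
      = (a ^ k * x * ((a ^ k)⁻¹ * s * a ^ k) * x⁻¹ * (a ^ k)⁻¹) ^ (v 1).val := by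
        rw [show a ^ k * x * ((a ^ k)⁻¹ * s * a ^ k) * x⁻¹ * (a ^ k)⁻¹ =
          (a ^ k * x * (a ^ k)⁻¹) * s * (a ^ k * x * (a ^ k)⁻¹)⁻¹ by group, conj_pow]
    _ = (a ^ k * x * s * x⁻¹ * (a ^ k)⁻¹) ^ (v 1).val := by
        rw [mul_assoc (a ^ k)⁻¹, hsa.eq, inv_mul_cancel_left]
    _ = (a ^ k * e₂ * (a ^ k)⁻¹) ^ (v 1).val := by
        rw [← hse]; group
    _ = (t ^ k * e₂) ^ (v 1).val := by rw [hpow]
    _ = (t ^ k) ^ (v 1).val * e₂ ^ (v 1).val :=
        (show Commute (t ^ k) e₂ from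
          P.min.hyp.comm_V (pow_mem (P.min.TV htT) _) P.e₂V).mul_pow _
    _ = pl e₁ e₂ v := by rw [hk]; rfl

theorem card_plane : Nat.card (plane V A x) = p ^ 2 := by
  have h : Nat.card (plane V A x) = Nat.card (Fin 2 → ZMod p) :=
    (Nat.card_congr (Equiv.ofBijective (fun v => (⟨pl e₁ e₂ v, P.pl_mem v⟩ : plane V A x))
      ⟨fun v w e => P.pl_inj (congrArg Subtype.val e), fun u =>
        let ⟨v, hv⟩ := P.pl_surj u.2; ⟨v, Subtype.ext hv⟩⟩)).symm
  rw [h, Nat.card_eq_fintype_card, Fintype.card_fun, ZMod.card, Fintype.card_fin]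

theorem plane_inf_fixed : plane V A x ⊓ fixedIn V (A ⊔ cj x A) = ⊥ := by
  rw [Subgroup.eq_bot_iff_forall]
  rintro u ⟨hu, hfix⟩
  rw [fixedIn_sup] at hfix
  obtain ⟨v, rfl⟩ := P.pl_surj hu
  have h1 : e₂ ^ (v 1).val ∈ cj x ⁅V, A⁆ ⊓ fixedIn V A := by
    refine ⟨P.he₂ ▸ pow_mem (Subgroup.mem_zpowers e₂) _, ?_⟩
    have := mul_mem (inv_mem (P.min.TleC (pow_mem P.e₁T (v 0).val))) hfix.1
    rwa [pl, inv_mul_cancel_left] at this
  rw [(P.min.nondegenerate P.xK P.xa).1, Subgroup.mem_bot] at h1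
  have h2 : e₁ ^ (v 0).val ∈ ⁅V, A⁆ ⊓ fixedIn V (cj x A) := by
    refine ⟨pow_mem P.e₁T _, ?_⟩
    have := hfix.2
    rwa [pl, h1, mul_one] at this
  rw [(P.min.nondegenerate P.xK P.xa).2, Subgroup.mem_bot] at h2
  rw [pl, h1, h2, one_mul]

theorem plane_sup_fixed : plane V A x ⊔ fixedIn V (A ⊔ cj x A) = V := by
  refine Subgroup.eq_of_le_of_card_ge (sup_le P.planeV inf_le_left) ?_
  have hVc : ∀ s ∈ V, ∀ t ∈ V, s * t = t * s := fun s hs t ht => P.min.hyp.comm_V hs ht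
  have h1 := card_sup_mul_card_inf (plane V A x) (fixedIn V (A ⊔ cj x A))
    (le_normalizer_of_commute fun s hs t ht => hVc s (P.planeV hs) t ht.1)
  rw [P.plane_inf_fixed, Subgroup.card_bot, mul_one, P.card_plane] at h1
  rw [h1]
  have h2 := card_sup_mul_card_inf (fixedIn V A) (fixedIn V (cj x A))
    (le_normalizer_of_commute fun s hs t ht => hVc s hs.1 t ht.1)
  rw [← fixedIn_sup] at h2
  have h3 : Nat.card ↥(fixedIn V A ⊔ fixedIn V (cj x A)) ≤ Nat.card V :=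
    Subgroup.card_le_of_le (sup_le inf_le_left inf_le_left)
  have e1 := HallCore.card_mul_relIndex (A := fixedIn V A) (B := V) inf_le_left
  have e2 := HallCore.card_mul_relIndex (A := fixedIn V (cj x A)) (B := V) inf_le_left
  rw [P.min.index] at e1
  rw [P.minx.index] at e2
  refine Nat.le_of_mul_le_mul_left ?_ (Nat.card_pos : 0 < Nat.card V)
  calc Nat.card V * Nat.card V
      = p ^ 2 * (Nat.card ↥(fixedIn V A) * Nat.card ↥(fixedIn V (cj x A))) := by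
        conv_lhs => rw [← e1]
        conv_lhs => arg 2; rw [e1, ← e2]
        ring
    _ ≤ p ^ 2 * (Nat.card V * Nat.card ↥(fixedIn V (A ⊔ cj x A))) := by
        rw [← h2]; exact Nat.mul_le_mul_left _ (Nat.mul_le_mul_right _ h3)
    _ = _ := by ring

theorem decomp {v : G} (hv : v ∈ V) :
    ∃ u ∈ plane V A x, ∃ c ∈ fixedIn V (A ⊔ cj x A), u * c = v := by
  rw [← P.plane_sup_fixed, ← SetLike.mem_coe, Subgroup.coe_mul_of_left_le_normalizer_right _ _
    (le_normalizer_of_commute fun s hs t (ht : t ∈ fixedIn V (A ⊔ cj x A)) =>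
      P.min.hyp.comm_V (P.planeV hs) ht.1)] at hv
  obtain ⟨u, hu, c, hc, e⟩ := hv
  exact ⟨u, hu, c, hc, e⟩

theorem leH : A ⊔ cj x A ≤ H := sup_le P.min.le P.minx.le

theorem pl_pow (v : Fin 2 → ZMod p) (k : ℕ) : pl e₁ e₂ v ^ k = pl e₁ e₂ (k • v) := by
  induction k with
  | zero => rw [pow_zero, zero_smul, P.pl_zero]
  | succ k ih => rw [pow_succ, ih, succ_nsmul, P.pl_add]

theorem pl_basis : pl e₁ e₂ (![1, 0] : Fin 2 → ZMod p) = e₁ ∧
    pl e₁ e₂ (![0, 1] : Fin 2 → ZMod p) = e₂ := by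
  simp [pl, ZMod.val_one]

theorem pl_decomp (v : Fin 2 → ZMod p) :
    v = (v 0).val • (![1, 0] : Fin 2 → ZMod p) + (v 1).val • ![0, 1] := by
  funext i
  fin_cases i <;> simp

theorem act_a : ∃ c : ZMod p, c ≠ 0 ∧ ∀ v : Fin 2 → ZMod p,
    a * pl e₁ e₂ v * a⁻¹ = pl e₁ e₂ ((QuadraticDickson.up c).1.mulVec v) := by
  set t := ⁅e₂, a⁆⁻¹ with ht
  have htT : t ∈ ⁅V, A⁆ := inv_mem (P.min.mem_T P.e₂V)
  have he2 : a * e₂ * a⁻¹ = t * e₂ := by rw [ht, commutatorElement_def]; group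
  obtain ⟨k, hk⟩ := (isOfFinOrder_of_finite e₁).mem_powers_iff_mem_zpowers.2 (P.he₁ ▸ htT)
  have hk' : e₁ ^ k = t := hk
  refine ⟨(k : ZMod p), fun h0 => ?_, fun v => ?_⟩
  · apply P.e₂_not
    have : t = 1 := by
      rw [← hk']
      exact orderOf_dvd_iff_pow_eq_one.1 (P.order₁ ▸ (ZMod.natCast_eq_zero_iff k p).1 h0)
    rw [ht, inv_eq_one] at this
    exact commutatorElement_eq_one_iff_mul_comm.1 this
  · have h1 : a * e₁ * a⁻¹ = e₁ := by rw [← P.min.T_commute P.e₁T, mul_inv_cancel_right]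
    have h2 : a * e₂ * a⁻¹ = pl e₁ e₂ ![(k : ZMod p), 1] := by
      rw [he2]
      simp [pl, ZMod.val_natCast, ZMod.val_one, ← pow_eq_pow_mod _ P.e₁p, hk']
    conv_lhs => rw [P.pl_decomp v, P.pl_add, ← P.pl_pow, ← P.pl_pow, P.pl_basis.1, P.pl_basis.2]
    rw [← conj_mul, ← conj_pow, ← conj_pow, h1.trans P.pl_basis.1.symm, h2, P.pl_pow, P.pl_pow,
      ← P.pl_add]
    congr 1
    funext i
    fin_cases i <;>
      simp [QuadraticDickson.coe_up, Matrix.mulVec, dotProduct, Fin.sum_univ_two, mul_comm]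

theorem act_b : ∃ d : ZMod p, d ≠ 0 ∧ ∀ v : Fin 2 → ZMod p,
    (x * a * x⁻¹) * pl e₁ e₂ v * (x * a * x⁻¹)⁻¹ =
      pl e₁ e₂ ((QuadraticDickson.lo d).1.mulVec v) := by
  set b := x * a * x⁻¹ with hb
  set t := ⁅e₁, b⁆⁻¹ with ht
  have htT : t ∈ ⁅V, cj x A⁆ := inv_mem (P.minx.mem_T P.e₁V)
  have he1 : b * e₁ * b⁻¹ = t * e₁ := by rw [ht, commutatorElement_def]; group
  obtain ⟨k, hk⟩ := (isOfFinOrder_of_finite e₂).mem_powers_iff_mem_zpowers.2 (P.point₂ ▸ htT)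
  have hk' : e₂ ^ k = t := hk
  refine ⟨(k : ZMod p), fun h0 => ?_, fun v => ?_⟩
  · apply P.e₁_not
    have : t = 1 := by
      rw [← hk']
      exact orderOf_dvd_iff_pow_eq_one.1 (P.order₂ ▸ (ZMod.natCast_eq_zero_iff k p).1 h0)
    rw [ht, inv_eq_one] at this
    exact commutatorElement_eq_one_iff_mul_comm.1 this
  · have h2 : b * e₂ * b⁻¹ = e₂ := by rw [← P.minx.T_commute P.e₂T, mul_inv_cancel_right]
    have h1 : b * e₁ * b⁻¹ = pl e₁ e₂ ![1, (k : ZMod p)] := by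
      rw [he1, P.min.hyp.comm_V (P.minx.TV htT) P.e₁V]
      simp [pl, ZMod.val_natCast, ZMod.val_one, ← pow_eq_pow_mod _ P.e₂p, hk']
    conv_lhs => rw [P.pl_decomp v, P.pl_add, ← P.pl_pow, ← P.pl_pow, P.pl_basis.1, P.pl_basis.2]
    rw [← conj_mul, ← conj_pow, ← conj_pow, h1, h2.trans P.pl_basis.2.symm, P.pl_pow, P.pl_pow,
      ← P.pl_add]
    congr 1
    funext i
    fin_cases i <;>
      simp [QuadraticDickson.coe_lo, Matrix.mulVec, dotProduct, Fin.sum_univ_two, mul_comm]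

theorem exists_matrix {g : G} (hg : g ∈ A ⊔ cj x A) :
    ∃ M : SL(2, ZMod p), ∀ v, g * pl e₁ e₂ v * g⁻¹ = pl e₁ e₂ (M.1.mulVec v) := by
  let S : Subgroup G :=
    { carrier := {g | ∃ M : SL(2, ZMod p), ∀ v, g * pl e₁ e₂ v * g⁻¹ = pl e₁ e₂ (M.1.mulVec v)}
      one_mem' := ⟨1, fun v => by simp⟩
      mul_mem' := fun {g g'} ⟨M, hM⟩ ⟨N, hN⟩ => ⟨M * N, fun v => by
        rw [Matrix.SpecialLinearGroup.coe_mul, ← Matrix.mulVec_mulVec, ← hM, ← hN]; group⟩
      inv_mem' := fun {g} ⟨M, hM⟩ => ⟨M⁻¹, fun v => by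
        have h1 := hM ((M⁻¹).1.mulVec v)
        rw [Matrix.mulVec_mulVec, ← Matrix.SpecialLinearGroup.coe_mul, mul_inv_cancel,
          Matrix.SpecialLinearGroup.coe_one, Matrix.one_mulVec] at h1
        rw [← h1]; group⟩ }
  refine (show A ⊔ cj x A ≤ S from sup_le ?_ ?_) hg
  · rw [P.min.gen, Subgroup.zpowers_le]
    exact ⟨_, P.act_a.choose_spec.2⟩
  · rw [P.minx.gen, Subgroup.zpowers_le]
    exact ⟨_, P.act_b.choose_spec.2⟩

theorem commutator_eq : ⁅V, A ⊔ cj x A⁆ = plane V A x := by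
  apply le_antisymm
  · rw [Subgroup.commutator_le]
    intro v hv g hg
    obtain ⟨u, hu, c, hc, rfl⟩ := P.decomp hv
    obtain ⟨w, hw⟩ := P.pl_surj hu
    obtain ⟨M, hM⟩ := P.exists_matrix hg
    have e : ⁅u * c, g⁆ = u * ((c * (g * c⁻¹ * g⁻¹)) * (g * u⁻¹ * g⁻¹)) := by
      simp only [commutatorElement_def]; group
    have hgc : g * c⁻¹ * g⁻¹ = c⁻¹ := by
      rw [(show Commute g c from hc.2 g hg).inv_right.eq, mul_inv_cancel_right]
    have hgu : g * u⁻¹ * g⁻¹ = (g * u * g⁻¹)⁻¹ := by group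
    rw [e, hgc, mul_inv_cancel, one_mul, hgu, ← hw, hM]
    exact mul_mem (P.pl_mem _) (inv_mem (P.pl_mem _))
  · exact sup_le (Subgroup.commutator_mono le_rfl le_sup_left)
      (Subgroup.commutator_mono le_rfl le_sup_right)

theorem faithful :
    (A ⊔ cj x A) ⊓ Subgroup.centralizer ((plane V A x : Subgroup G) : Set G) = ⊥ := by
  rw [Subgroup.eq_bot_iff_forall]
  rintro g ⟨hg, hc⟩
  refine P.min.hyp.eq_one (P.leH hg) fun v hv => ?_
  obtain ⟨u, hu, c, hfc, rfl⟩ := P.decomp hv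
  exact ((show Commute u g from hc u hu).mul_left (show Commute g c from hfc.2 g hg).symm).eq

/-- The isomorphism with `SL(2,p)`. -/
theorem exists_equiv : ∃ (θ : ↥(A ⊔ cj x A) ≃* SL(2, ZMod p)) (c : ZMod p), c ≠ 0 ∧
    θ ⟨a, Subgroup.mem_sup_left P.min.mem⟩ = QuadraticDickson.up c ∧
    ∀ (g : ↥(A ⊔ cj x A)) v, (g : G) * pl e₁ e₂ v * (g : G)⁻¹ =
      pl e₁ e₂ ((θ g).1.mulVec v) := by
  choose θ hθ using fun g : ↥(A ⊔ cj x A) => P.exists_matrix g.2
  have huniq : ∀ M N : SL(2, ZMod p),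
      (∀ v, pl e₁ e₂ (M.1.mulVec v) = pl e₁ e₂ (N.1.mulVec v)) → M = N := fun M N h =>
    Subtype.ext (Matrix.ext_of_mulVec_single fun i => P.pl_inj (h _))
  let f : ↥(A ⊔ cj x A) →* SL(2, ZMod p) := MonoidHom.mk' θ fun g g' => huniq _ _ fun v => by
    rw [← hθ, Matrix.SpecialLinearGroup.coe_mul, ← Matrix.mulVec_mulVec, ← hθ, ← hθ,
      Subgroup.coe_mul]
    group
  obtain ⟨c, hc, hca⟩ := P.act_a
  obtain ⟨d, hd, hdb⟩ := P.act_b
  have hfa : f ⟨a, Subgroup.mem_sup_left P.min.mem⟩ = QuadraticDickson.up c :=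
    huniq _ _ fun v => by rw [← hca]; exact (hθ _ v).symm
  have hfb : f ⟨x * a * x⁻¹, Subgroup.mem_sup_right P.minx.mem⟩ = QuadraticDickson.lo d :=
    huniq _ _ fun v => by rw [← hdb]; exact (hθ _ v).symm
  have hup : ∀ t, QuadraticDickson.up t ∈ f.range := fun t => by
    refine ⟨(⟨a, Subgroup.mem_sup_left P.min.mem⟩ : ↥(A ⊔ cj x A)) ^ (t / c).val, ?_⟩
    rw [map_pow, hfa, QuadraticDickson.up_pow, ZMod.natCast_zmod_val, div_mul_cancel₀ _ hc]
  have hlo : ∀ t, QuadraticDickson.lo t ∈ f.range := fun t => by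
    refine ⟨(⟨x * a * x⁻¹, Subgroup.mem_sup_right P.minx.mem⟩ : ↥(A ⊔ cj x A)) ^ (t / d).val, ?_⟩
    rw [map_pow, hfb, QuadraticDickson.lo_pow, ZMod.natCast_zmod_val, div_mul_cancel₀ _ hd]
  have hsurj : Function.Surjective f := MonoidHom.range_eq_top.1 (by
    refine QuadraticThree.sl2_top _ (fun t => ⟨_, hup t, rfl⟩) ⟨_, inv_mem
      (mul_mem (mul_mem (hup 1) (hlo (-1))) (hup 1)), ?_⟩
    rw [Matrix.SpecialLinearGroup.coe_inv]
    simp [QuadraticDickson.coe_up, QuadraticDickson.coe_lo, Matrix.adjugate_fin_two,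
      Matrix.mul_apply, Fin.sum_univ_two])
  have hinj : Function.Injective f := by
    rw [injective_iff_map_eq_one]
    intro g hg
    have hmem : (g : G) ∈ (A ⊔ cj x A) ⊓
        Subgroup.centralizer ((plane V A x : Subgroup G) : Set G) := by
      refine ⟨g.2, fun u hu => ?_⟩
      obtain ⟨v, rfl⟩ := P.pl_surj hu
      have hgv := hθ g v
      have e : θ g = 1 := hg
      rw [e, Matrix.SpecialLinearGroup.coe_one, Matrix.one_mulVec] at hgv
      exact (mul_inv_eq_iff_eq_mul.1 hgv).symm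
    rw [P.faithful, Subgroup.mem_bot] at hmem
    exact Subtype.ext hmem
  exact ⟨MulEquiv.ofBijective f ⟨hinj, hsurj⟩, c, hc, hfa, hθ⟩

theorem prime_two_or_three : p = 2 ∨ p = 3 := by
  by_cases h2 : p = 2
  · exact Or.inl h2
  right
  obtain ⟨θ, c, hc, hθa, -⟩ := P.exists_equiv
  let E := A ⊔ cj x A
  set Q := ((core p H).subgroupOf E).map θ.toMonoidHom with hQ
  haveI : Finite (SL(2, ZMod p)) := inferInstance
  have haE : a ∈ E := Subgroup.mem_sup_left P.min.mem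
  refine (QuadraticThree.sl2_three_of_normalised (a := θ ⟨a, haE⟩) h2 hc (by rw [hθa]; rfl)
    (Q := Q) ?_ ?_ ?_).1
  · refine Subgroup.le_normalizer_map θ.toMonoidHom ⟨⟨a, haE⟩, ?_, rfl⟩
    refine Subgroup.mem_normalizer_iff.2 fun g => ?_
    exact Subgroup.mem_normalizer_iff.1 (Hyp.core_normalized p H P.min.aH) (g : G)
  · refine (Hyp.coprime_core p H).coprime_dvd_left ?_
    rw [hQ, Subgroup.card_map_of_injective θ.injective]
    exact (Subgroup.card_comap_dvd_of_injective (core p H) E.subtype E.subtype_injective)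
  · intro hle
    apply P.xa
    have hbE : x * a * x⁻¹ ∈ E := Subgroup.mem_sup_right P.minx.mem
    set y : E := ⟨x * a * x⁻¹, hbE⟩ * ⟨a, haE⟩⁻¹ with hy
    have hyK : y ∈ (core p H).subgroupOf E := by
      show x * a * x⁻¹ * a⁻¹ ∈ core p H
      rw [mul_assoc x, mul_assoc x]
      exact mul_mem P.xK ((Subgroup.mem_normalizer_iff.1 (Hyp.core_normalized p H P.min.aH) _).1
        (inv_mem P.xK))
    have hcom := Subgroup.mem_centralizer_singleton_iff.1 (hle ⟨y, hyK, rfl⟩)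
    have hcom' : y * ⟨a, haE⟩ = ⟨a, haE⟩ * y :=
      θ.injective ((map_mul θ y ⟨a, haE⟩).trans (Eq.trans (show θ y * θ ⟨a, haE⟩ =
        θ ⟨a, haE⟩ * θ y from hcom) (map_mul θ ⟨a, haE⟩ y).symm))
    have hcg : Commute (x * a * x⁻¹ * a⁻¹) a := congrArg Subtype.val hcom'
    have hb : (x * a * x⁻¹ * a⁻¹ * a) ^ p = 1 := by
      rw [inv_mul_cancel_right, conj_pow, P.min.pow, mul_one, mul_inv_cancel]
    rw [hcg.mul_pow, P.min.pow, mul_one] at hb
    have := OffendersFF.Hyp.eq_one_of_core (p := p) (H := H) (g := x * a * x⁻¹ * a⁻¹) hyK hb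
    exact mul_inv_eq_iff_eq_mul.1 (mul_inv_eq_one.1 this)

end Pair

end Cfsg.Agent.OffendersPlane
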