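import Mathlib
import Cfsg.Prelude.Def_PLocal
import Cfsg.Prelude.Def_Local
import Cfsg.Agent.Lib.Offenders
import Cfsg.Agent.Lib.OffendersReplace
import Cfsg.Agent.Lib.OffendersFF
import Cfsg.Agent.Lib.OffendersPlane
import Cfsg.Agent.Lib.HallCore

/-!
The blocks `E = [O_{p'}(H), A] A`: pairwise equal or commuting, each acting on its own plane.
-/

set_option autoImplicit false

open scoped MatrixGroups commutatorElement

namespace Cfsg.Agent.OffendersBlocks

open Cfsg OffendersReplace OffendersFF OffendersPlane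

variable {G : Type*} [Group G] {p : ℕ} {V H A B : Subgroup G}

/-- The block of a minimal offender. -/
def blockE (p : ℕ) (H A : Subgroup G) : Subgroup G := ⁅core p H, A⁆ ⊔ A

variable [Finite G] [hp : Fact p.Prime]

/-- The union of the conjugates of the point is closed under products. -/
theorem orbit_mul {a : G} (m : Min p V H A a) {y z s t : G} (hy : y ∈ core p H)
    (hz : z ∈ core p H) (hs : s ∈ cj y ⁅V, A⁆) (ht : t ∈ cj z ⁅V, A⁆) :
    ∃ w ∈ core p H, s * t ∈ cj w ⁅V, A⁆ := by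
  set x := y⁻¹ * z with hx
  have hxK : x ∈ core p H := mul_mem (inv_mem hy) hz
  have hxz : cj z ⁅V, A⁆ = cj y (cj x ⁅V, A⁆) := by rw [cj_cj, hx, mul_inv_cancel_left]
  by_cases hxa : x * a = a * x
  · refine ⟨y, hy, mul_mem hs ?_⟩
    have hA : cj x A = A := commutator_cj_eq fun b hb => by
      obtain ⟨i, rfl⟩ := m.gen.le hb
      exact ((show Commute x a from hxa).zpow_right i).eq
    rwa [hxz, cj_commutator (m.hyp.norm (Hyp.core_le p H hxK)), hA] at ht
  · obtain ⟨e₁, e₂, P⟩ := exists_pair m hxK hxa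
    rw [hxz] at ht
    obtain ⟨s', hs', rfl⟩ := mem_cj.1 hs
    obtain ⟨t', ht', rfl⟩ := mem_cj.1 ht
    have hu : s' * t' ∈ plane V A x :=
      mul_mem (Subgroup.mem_sup_left hs') (Subgroup.mem_sup_right (by
        rw [← cj_commutator (m.hyp.norm P.xH)]; exact ht'))
    have e : y * s' * y⁻¹ * (y * t' * y⁻¹) = y * (s' * t') * y⁻¹ := by group
    rcases P.orbit hu with h | ⟨n, h⟩
    · exact ⟨y, hy, mem_cj.2 ⟨_, h, e.symm⟩⟩
    · refine ⟨y * (a ^ n * x * (a ^ n)⁻¹), mul_mem hy ?_, ?_⟩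
      · exact (Subgroup.mem_normalizer_iff.1
          (Hyp.core_normalized p H (pow_mem m.aH n)) x).1 hxK
      · rw [← cj_cj]
        exact mem_cj.2 ⟨_, h, e.symm⟩

/-- All conjugates of the point lie in one plane. -/
theorem point_le_plane {a x e₁ e₂ : G} (P : Pair p V H A a x e₁ e₂) {y : G}
    (hy : y ∈ core p H) : cj y ⁅V, A⁆ ≤ plane V A x := by
  have m := P.min
  let O : Subgroup G :=
    { carrier := {s | ∃ w ∈ core p H, s ∈ cj w ⁅V, A⁆}
      one_mem' := ⟨1, one_mem _, one_mem _⟩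
      mul_mem' := fun ⟨_, hw, hs⟩ ⟨_, hw', ht⟩ => orbit_mul m hw hw' hs ht
      inv_mem' := fun ⟨w, hw, hs⟩ => ⟨w, hw, inv_mem hs⟩ }
  have hTO : ⁅V, A⁆ ≤ O := fun t ht => ⟨1, one_mem _, by rwa [cj_one]⟩
  have hplane : plane V A x ≤ O := by
    refine sup_le hTO fun t ht => ⟨x, P.xK, ?_⟩
    rwa [cj_commutator (m.hyp.norm P.xH)]
  have hOV : O ≤ V := by
    rintro s ⟨w, hw, hs⟩
    obtain ⟨t, ht, rfl⟩ := mem_cj.1 hs
    exact m.hyp.conj_V (Hyp.core_le p H hw) (m.TV ht)
  have hinf : O ⊓ fixedIn V A ≤ ⁅V, A⁆ := by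
    rintro s ⟨⟨w, hw, hs⟩, hsC⟩
    by_cases hwa : w * a = a * w
    · have hA : cj w A = A := commutator_cj_eq fun b hb => by
        obtain ⟨i, rfl⟩ := m.gen.le hb
        exact ((show Commute w a from hwa).zpow_right i).eq
      rwa [cj_commutator (m.hyp.norm (Hyp.core_le p H hw)), hA] at hs
    · have h1 : s ∈ cj w ⁅V, A⁆ ⊓ fixedIn V A := ⟨hs, hsC⟩
      rw [(m.nondegenerate hw hwa).1, Subgroup.mem_bot] at h1
      rw [h1]; exact one_mem _
  have hcard : Nat.card O ≤ p ^ 2 := by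
    have h1 := card_sup_mul_card_inf O (fixedIn V A)
      (le_normalizer_of_commute fun s hs t ht => m.hyp.comm_V (hOV hs) ht.1)
    have h2 : Nat.card ↥(O ⊔ fixedIn V A) ≤ Nat.card V :=
      Subgroup.card_le_of_le (sup_le hOV inf_le_left)
    have h3 : Nat.card ↥(O ⊓ fixedIn V A) ≤ p := m.cardT ▸ Subgroup.card_le_of_le hinf
    have h4 := HallCore.card_mul_relIndex (A := fixedIn V A) (B := V) inf_le_left
    rw [m.index] at h4
    refine Nat.le_of_mul_le_mul_right ?_ (Nat.card_pos : 0 < Nat.card ↥(fixedIn V A))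
    rw [← h1]
    calc _ ≤ Nat.card V * p := Nat.mul_le_mul h2 h3
      _ = _ := by rw [← h4]; ring
  have hO : plane V A x = O :=
    Subgroup.eq_of_le_of_card_ge hplane (hcard.trans P.card_plane.ge)
  rw [hO]
  exact fun s hs => ⟨y, hy, hs⟩

theorem conj_mem_pair {a x e₁ e₂ : G} (P : Pair p V H A a x e₁ e₂) {y : G}
    (hy : y ∈ core p H) : y * a * y⁻¹ ∈ A ⊔ cj x A := by
  have m := P.min
  have haE : a ∈ A ⊔ cj x A := Subgroup.mem_sup_left m.mem
  by_cases hya : y * a = a * y
  · rw [hya, mul_inv_cancel_right]; exact haE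
  obtain ⟨t, ht, ht1, -, -⟩ := ea_generator m.cardT
  have hu1 : y * t * y⁻¹ ∈ cj y ⁅V, A⁆ := mem_cj.2 ⟨t, ht, rfl⟩
  have hne : y * t * y⁻¹ ≠ 1 := fun e => ht1 (conj_eq_one_iff.1 e)
  have hcy : ∀ w : G, Nat.card ↥(cj w ⁅V, A⁆) = p := fun w => by
    rw [cj, Subgroup.card_map_of_injective (MulAut.conj w).injective, m.cardT]
  rcases P.orbit (point_le_plane P hy hu1) with h | ⟨n, h⟩
  · exact absurd (m.commute_of_point hy (eq_of_card_p (p := p) (hcy y) m.cardT hu1 h hne)) hya
  · set w := a ^ n * x * (a ^ n)⁻¹ with hw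
    have hwK : w ∈ core p H :=
      (Subgroup.mem_normalizer_iff.1 (Hyp.core_normalized p H (pow_mem m.aH n)) x).1 P.xK
    have e := eq_of_card_p (p := p) (hcy y) (hcy w) hu1 h hne
    have hc := m.commute_of_point (mul_mem (inv_mem hwK) hy)
      (by rw [← cj_cj, e, cj_cj, inv_mul_cancel, cj_one])
    have e2 : y * a * y⁻¹ = a ^ n * (x * a * x⁻¹) * (a ^ n)⁻¹ := by
      calc y * a * y⁻¹ = w * ((w⁻¹ * y) * a) * y⁻¹ := by group
        _ = w * (a * (w⁻¹ * y)) * y⁻¹ := by rw [hc]
        _ = _ := by rw [hw]; group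
    rw [e2]
    exact mul_mem (mul_mem (pow_mem haE n) (Subgroup.mem_sup_right P.minx.mem))
      (inv_mem (pow_mem haE n))

theorem blockE_eq {a x e₁ e₂ : G} (P : Pair p V H A a x e₁ e₂) :
    blockE p H A = A ⊔ cj x A := by
  have m := P.min
  apply le_antisymm
  · refine sup_le ?_ le_sup_left
    rw [Subgroup.commutator_le]
    intro y hy b hb
    obtain ⟨k, hk⟩ := (isOfFinOrder_of_finite a).mem_powers_iff_mem_zpowers.2 (m.gen.le hb)
    have hk' : a ^ k = b := hk
    rw [← hk', commutatorElement_def, ← conj_pow]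
    exact mul_mem (pow_mem (conj_mem_pair P hy) k)
      (inv_mem (pow_mem (Subgroup.mem_sup_left m.mem) k))
  · refine sup_le le_sup_right ?_
    intro g hg
    obtain ⟨b, hb, rfl⟩ := mem_cj.1 hg
    have e : x * b * x⁻¹ = ⁅x, b⁆ * b := by rw [commutatorElement_def]; group
    rw [e]
    exact mul_mem (Subgroup.mem_sup_left (Subgroup.commutator_mem_commutator P.xK hb))
      (Subgroup.mem_sup_right hb)

/-- The properties of the block of a minimal offender. -/
structure Block (p : ℕ) (V H A : Subgroup G) : Prop where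
  prime : p = 2 ∨ p = 3
  le : blockE p H A ≤ H
  equiv : Nonempty (↥(blockE p H A) ≃* SL(2, ZMod p))
  card : Nat.card ↥(⁅V, blockE p H A⁆) = p ^ 2
  inf : ⁅V, blockE p H A⁆ ⊓ fixedIn V (blockE p H A) = ⊥
  sup : ⁅V, blockE p H A⁆ ⊔ fixedIn V (blockE p H A) = V
  faithful : blockE p H A ⊓
    Subgroup.centralizer ((⁅V, blockE p H A⁆ : Subgroup G) : Set G) = ⊥
  normed : core p H ≤ Subgroup.normalizer (blockE p H A : Set G)
  irred : ∀ D : Subgroup G, D ≤ ⁅V, blockE p H A⁆ →
    core p H ≤ Subgroup.normalizer (D : Set G) → D = ⊥ ∨ D = ⁅V, blockE p H A⁆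
  orbit : ∀ u ∈ ⁅V, blockE p H A⁆, ∃ y ∈ core p H, u ∈ cj y ⁅V, A⁆

theorem block_of_min {a : G} (m : Min p V H A a) : Block p V H A := by
  obtain ⟨x, hx, hxa⟩ := m.exists_noncommute
  obtain ⟨e₁, e₂, P⟩ := exists_pair m hx hxa
  have hE := blockE_eq P
  have hU : ⁅V, blockE p H A⁆ = plane V A x := by rw [hE, P.commutator_eq]
  obtain ⟨θ, -, -, -, -⟩ := P.exists_equiv
  have horb : ∀ u ∈ plane V A x, ∃ y ∈ core p H, u ∈ cj y ⁅V, A⁆ := by
    intro u hu
    rcases P.orbit hu with h | ⟨n, h⟩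
    · exact ⟨1, one_mem _, by rwa [cj_one]⟩
    · exact ⟨_, (Subgroup.mem_normalizer_iff.1 (Hyp.core_normalized p H (pow_mem m.aH n)) x).1 hx,
        h⟩
  refine ⟨P.prime_two_or_three, hE ▸ P.leH, ⟨(MulEquiv.subgroupCongr hE).trans θ⟩,
    hU ▸ P.card_plane, ?_, ?_, ?_, ?_, ?_, hU ▸ horb⟩
  · rw [hU, hE]; exact P.plane_inf_fixed
  · rw [hU, hE]; exact P.plane_sup_fixed
  · rw [hU, hE]; exact P.faithful
  · intro y hy
    have hle : cj y (A ⊔ cj x A) ≤ A ⊔ cj x A := by
      rw [cj, Subgroup.map_sup, ← cj, ← cj, cj_cj]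
      refine sup_le ?_ ?_
      · rw [m.gen, cj, MonoidHom.map_zpowers, Subgroup.zpowers_le]
        rw [← m.gen]; exact conj_mem_pair P hy
      · rw [m.gen, cj, MonoidHom.map_zpowers, Subgroup.zpowers_le]
        rw [← m.gen]; exact conj_mem_pair P (mul_mem hy hx)
    have he : cj y (A ⊔ cj x A) = A ⊔ cj x A := Subgroup.eq_of_le_of_card_ge hle
      (Subgroup.card_map_of_injective (MulAut.conj y).injective).ge
    rw [hE]
    refine Subgroup.mem_normalizer_iff.2 fun g => ⟨fun hg => hle (mem_cj.2 ⟨g, hg, rfl⟩),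
      fun hg => ?_⟩
    rw [← he] at hg
    obtain ⟨g', hg', e⟩ := mem_cj.1 hg
    rwa [show g = g' from (mul_left_cancel (mul_right_cancel e)).symm]
  · rw [hU]
    intro D hD hDK
    by_cases hne : D = ⊥
    · exact Or.inl hne
    obtain ⟨⟨u, hu⟩, hu1⟩ := Subgroup.ne_bot_iff_exists_ne_one.1 hne
    have hu1' : u ≠ 1 := fun e => hu1 (Subtype.ext e)
    obtain ⟨y, hy, huy⟩ := horb u (hD hu)
    obtain ⟨t, ht, rfl⟩ := mem_cj.1 huy
    have htD : t ∈ D := (Subgroup.mem_normalizer_iff.1 (hDK hy) t).2 hu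
    have hTD : ⁅V, A⁆ ≤ D := by
      have e : Subgroup.zpowers t = ⁅V, A⁆ := by
        refine eq_of_card_p (p := p) ?_ m.cardT (Subgroup.mem_zpowers t) ht
          fun e => hu1' (by rw [e, mul_one, mul_inv_cancel])
        rw [Nat.card_zpowers]
        exact orderOf_eq_prime (m.hyp.pow_V (m.TV ht))
          fun e => hu1' (by rw [e, mul_one, mul_inv_cancel])
      rw [← e]
      exact Subgroup.zpowers_le.2 htD
    refine Or.inr (le_antisymm hD (sup_le hTD ?_))
    rw [← cj_commutator (m.hyp.norm P.xH)]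
    intro v hv
    obtain ⟨w, hw, rfl⟩ := mem_cj.1 hv
    exact (Subgroup.mem_normalizer_iff.1 (hDK hx) w).1 (hTD hw)

theorem le_normalizer_commutator {L S : Subgroup G} (hV : L ≤ Subgroup.normalizer (V : Set G))
    (hS : L ≤ Subgroup.normalizer (S : Set G)) :
    L ≤ Subgroup.normalizer ((⁅V, S⁆ : Subgroup G) : Set G) := by
  intro g hg
  have e : cj g ⁅V, S⁆ = ⁅V, S⁆ := by rw [cj_commutator (hV hg), cj_eq_self (hS hg)]
  refine Subgroup.mem_normalizer_iff.2 fun u => ⟨fun hu => e ▸ mem_cj.2 ⟨u, hu, rfl⟩, fun hu => ?_⟩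
  rw [← e] at hu
  obtain ⟨u', hu', e'⟩ := mem_cj.1 hu
  rwa [show u = u' from (mul_left_cancel (mul_right_cancel e')).symm]

theorem le_normalizer_fixedIn {L S : Subgroup G} (hV : L ≤ Subgroup.normalizer (V : Set G))
    (hS : L ≤ Subgroup.normalizer (S : Set G)) :
    L ≤ Subgroup.normalizer ((fixedIn V S : Subgroup G) : Set G) := by
  intro g hg
  have e : cj g (fixedIn V S) = fixedIn V S := by rw [cj_fixedIn (hV hg), cj_eq_self (hS hg)]
  refine Subgroup.mem_normalizer_iff.2 fun u => ⟨fun hu => e ▸ mem_cj.2 ⟨u, hu, rfl⟩, fun hu => ?_⟩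
  rw [← e] at hu
  obtain ⟨u', hu', e'⟩ := mem_cj.1 hu
  rwa [show u = u' from (mul_left_cancel (mul_right_cancel e')).symm]

section facts

variable {a : G} (m : Min p V H A a)
include m

theorem commutatorV_le : ⁅V, blockE p H A⁆ ≤ V :=
  Subgroup.le_normalizer_iff_commutator_le_left.1 ((block_of_min m).le.trans m.hyp.norm)

theorem core_normalizes :
    core p H ≤ Subgroup.normalizer ((⁅V, blockE p H A⁆ : Subgroup G) : Set G) :=
  le_normalizer_commutator ((Hyp.core_le p H).trans m.hyp.norm) (block_of_min m).normed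

theorem decomp {v : G} (hv : v ∈ V) :
    ∃ u ∈ ⁅V, blockE p H A⁆, ∃ c ∈ fixedIn V (blockE p H A), u * c = v := by
  rw [← (block_of_min m).sup, ← SetLike.mem_coe,
    Subgroup.coe_mul_of_left_le_normalizer_right _ _ (le_normalizer_of_commute
      fun s hs t (ht : t ∈ fixedIn V (blockE p H A)) =>
        m.hyp.comm_V (commutatorV_le m hs) ht.1)] at hv
  obtain ⟨u, hu, c, hc, e⟩ := hv
  exact ⟨u, hu, c, hc, e⟩

/-- The fixed points of the `p'`-part are those of the block. -/
theorem fixed_core_part : fixedIn V ⁅core p H, A⁆ = fixedIn V (blockE p H A) := by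
  have bl := block_of_min m
  refine le_antisymm ?_ (fixedIn_antitone V le_sup_left)
  intro v hv
  obtain ⟨u, hu, c, hc, e⟩ := decomp m hv.1
  have hW : core p H ≤ Subgroup.normalizer ((⁅core p H, A⁆ : Subgroup G) : Set G) :=
    Subgroup.normalizer_commutator_ge_left (core p H) A
  set D := ⁅V, blockE p H A⁆ ⊓ fixedIn V ⁅core p H, A⁆ with hD
  have huD : u ∈ D := by
    refine ⟨hu, ?_⟩
    have hc' : c ∈ fixedIn V ⁅core p H, A⁆ := fixedIn_antitone V le_sup_left hc
    have := mul_mem hv (inv_mem hc')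
    rwa [← e, mul_inv_cancel_right] at this
  rcases bl.irred D inf_le_left (CoprimeAction.le_normalizer_inf (core_normalizes m)
    (le_normalizer_fixedIn ((Hyp.core_le p H).trans m.hyp.norm) hW)) with h | h
  · rw [h, Subgroup.mem_bot] at huD
    rw [← e, huD, one_mul]; exact hc
  · exfalso
    obtain ⟨x, hx, hxa⟩ := m.exists_noncommute
    have hmem : ⁅x, a⁆ ∈ ⁅core p H, A⁆ := Subgroup.commutator_mem_commutator hx m.mem
    apply hxa
    rw [← commutatorElement_eq_one_iff_mul_comm]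
    refine m.hyp.eq_one ?_ fun w hw => ?_
    · rw [commutatorElement_def]
      exact mul_mem (mul_mem (mul_mem (Hyp.core_le p H hx) m.aH) (inv_mem (Hyp.core_le p H hx)))
        (inv_mem m.aH)
    obtain ⟨u', hu', c', hc', rfl⟩ := decomp m hw
    have h1 : Commute u' ⁅x, a⁆ := ((h.ge hu').2.2 _ hmem).symm
    have h2 : Commute c' ⁅x, a⁆ := ((fixedIn_antitone V le_sup_left hc').2 _ hmem).symm
    exact (h1.mul_left h2).eq

variable {b : G} (m' : Min p V H B b)
include m'

/-- Two blocks are equal or act on independent planes. -/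
theorem dichotomy :
    (⁅V, blockE p H A⁆ = ⁅V, blockE p H B⁆ ∧
      fixedIn V (blockE p H A) = fixedIn V (blockE p H B)) ∨
    (⁅V, blockE p H A⁆ ≤ fixedIn V (blockE p H B) ∧
      ⁅V, blockE p H B⁆ ≤ fixedIn V (blockE p H A)) := by
  have bl := block_of_min m
  have bl' := block_of_min m'
  set U := ⁅V, blockE p H A⁆ with hU
  set U' := ⁅V, blockE p H B⁆ with hU'
  have hinf : core p H ≤ Subgroup.normalizer ((U ⊓ U' : Subgroup G) : Set G) :=
    CoprimeAction.le_normalizer_inf (core_normalizes m) (core_normalizes m')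
  -- a core-invariant subgroup meeting `U'` trivially is fixed by the block
  have trick : ∀ (C : Subgroup G) (b : G) (D : Subgroup G), Min p V H D b → C ≤ V →
      core p H ≤ Subgroup.normalizer (C : Set G) → C ⊓ ⁅V, blockE p H D⁆ = ⊥ →
      C ≤ fixedIn V (blockE p H D) := by
    intro C d D md hCV hCn hbot c hc
    rw [← fixed_core_part md]
    refine ⟨hCV hc, fun g hg => ?_⟩
    have hgK : g ∈ core p H := (Subgroup.le_normalizer_iff_commutator_le_left.1
      (md.le.trans (Hyp.core_normalized p H))) hg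
    have h1 : ⁅c, g⁆ ∈ C := by
      rw [commutatorElement_def, mul_assoc c, mul_assoc c]
      exact mul_mem hc ((Subgroup.mem_normalizer_iff.1 (hCn hgK) _).1 (inv_mem hc))
    have h2 : ⁅c, g⁆ ∈ ⁅V, blockE p H D⁆ :=
      Subgroup.commutator_mem_commutator (hCV hc) (Subgroup.mem_sup_left hg)
    have h3 : ⁅c, g⁆ ∈ C ⊓ ⁅V, blockE p H D⁆ := ⟨h1, h2⟩
    rw [hbot, Subgroup.mem_bot, commutatorElement_eq_one_iff_mul_comm] at h3
    exact h3.symm
  rcases bl.irred _ inf_le_left hinf with h | h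
  · right
    exact ⟨trick U b B m' (commutatorV_le m) (core_normalizes m) h,
      trick U' a A m (commutatorV_le m') (core_normalizes m') (inf_comm U U' ▸ h)⟩
  · left
    have e : U = U' := Subgroup.eq_of_le_of_card_ge (h.ge.trans inf_le_right)
      (by rw [bl'.card, bl.card])
    refine ⟨e, le_antisymm ?_ ?_⟩
    · exact trick _ b B m' inf_le_left
        (le_normalizer_fixedIn ((Hyp.core_le p H).trans m.hyp.norm) bl.normed)
        (by rw [← hU', ← e, inf_comm]; exact bl.inf)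
    · exact trick _ a A m inf_le_left
        (le_normalizer_fixedIn ((Hyp.core_le p H).trans m.hyp.norm) bl'.normed)
        (by rw [← hU, e, inf_comm]; exact bl'.inf)

/-- Blocks with the same plane are equal. -/
theorem le_of_same (hUU : ⁅V, blockE p H A⁆ = ⁅V, blockE p H B⁆)
    (hC : fixedIn V (blockE p H A) = fixedIn V (blockE p H B)) :
    blockE p H B ≤ blockE p H A := by
  have bl := block_of_min m
  obtain ⟨t, ht, ht1, htgen, -⟩ := ea_generator m'.cardT
  obtain ⟨y, hy, hty⟩ := bl.orbit t (hUU.ge (Subgroup.commutator_mono le_rfl le_sup_right ht))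
  set A' := cj y A with hA'
  have m₁ := m.conj (Hyp.core_le p H hy)
  have hT : ⁅V, A'⁆ = ⁅V, B⁆ := by
    refine eq_of_card_p (p := p) m₁.cardT m'.cardT ?_ ht ht1
    rw [hA', ← cj_commutator (m.hyp.norm (Hyp.core_le p H hy))]
    exact hty
  have hA'E : A' ≤ blockE p H A := by
    intro g hg
    obtain ⟨g', hg', rfl⟩ := mem_cj.1 hg
    exact (Subgroup.mem_normalizer_iff.1 (bl.normed hy) g').1 (Subgroup.mem_sup_right hg')
  -- both hyperplanes are the point plus the common complement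
  have hhyp : ∀ (D : Subgroup G) (d : G), Min p V H D d → ⁅V, D⁆ = ⁅V, B⁆ →
      D ≤ blockE p H A ∨ D ≤ blockE p H B →
      ⁅V, B⁆ ⊔ fixedIn V (blockE p H A) = fixedIn V D := by
    intro D d md hDT hDE
    refine Subgroup.eq_of_le_of_card_ge (sup_le (hDT ▸ md.TleC) ?_) ?_
    · rcases hDE with h | h
      · exact fixedIn_antitone V h
      · rw [hC]; exact fixedIn_antitone V h
    · have h1 := card_sup_mul_card_inf ⁅V, B⁆ (fixedIn V (blockE p H A))
        (le_normalizer_of_commute fun s hs t ht => m.hyp.comm_V (m'.TV hs) ht.1)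
      have h2 : ⁅V, B⁆ ⊓ fixedIn V (blockE p H A) = ⊥ := by
        rw [hC]
        exact le_bot_iff.1 ((inf_le_inf_right _
          (Subgroup.commutator_mono le_rfl le_sup_right)).trans (block_of_min m').inf.le)
      rw [h2, Subgroup.card_bot, mul_one, m'.cardT] at h1
      rw [h1]
      have h3 := card_sup_mul_card_inf ⁅V, blockE p H A⁆ (fixedIn V (blockE p H A))
        (le_normalizer_of_commute fun s hs t ht => m.hyp.comm_V (commutatorV_le m hs) ht.1)
      rw [bl.sup, bl.inf, Subgroup.card_bot, mul_one, bl.card] at h3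
      have h4 := HallCore.card_mul_relIndex (A := fixedIn V D) (B := V) inf_le_left
      rw [md.index, h3] at h4
      refine Nat.le_of_mul_le_mul_right ?_ hp.out.pos
      rw [h4]
      exact le_of_eq (by ring)
  have hC' : fixedIn V A' = fixedIn V B :=
    ((hhyp A' _ m₁ hT (Or.inl hA'E)).symm.trans (hhyp B b m' rfl (Or.inr le_sup_right)))
  have hBA : B ≤ blockE p H A := by
    obtain ⟨v, hv, hvn⟩ : ∃ v ∈ V, v ∉ fixedIn V B := SetLike.not_le_iff_exists.1 fun h => by
      have h1 := m'.index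
      rw [Subgroup.relIndex_eq_one.2 h] at h1
      exact hp.out.one_lt.ne h1
    have h1 : ⁅v, b⁆ ∈ ⁅V, B⁆ := m'.mem_T hv
    set a' := y * a * y⁻¹ with ha'
    have h2 : ⁅v, a'⁆ ∈ ⁅V, B⁆ := hT.le (m₁.mem_T hv)
    have h2ne : ⁅v, a'⁆ ≠ 1 := fun e => hvn (hC' ▸ (m₁.fixed_iff hv).2
      (commutatorElement_eq_one_iff_mul_comm.1 e))
    have h2gen : Subgroup.zpowers ⁅v, a'⁆ = ⁅V, B⁆ := by
      refine eq_of_card_p (p := p) ?_ m'.cardT (Subgroup.mem_zpowers _) h2 h2ne
      rw [Nat.card_zpowers]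
      exact orderOf_eq_prime (m.hyp.pow_V (m'.TV h2)) h2ne
    obtain ⟨n, hn⟩ := (isOfFinOrder_of_finite ⁅v, a'⁆).mem_powers_iff_mem_zpowers.2
      (h2gen.symm ▸ h1)
    have hn' : ⁅v, a'⁆ ^ n = ⁅v, b⁆ := hn
    have hTa : ∀ t ∈ ⁅V, B⁆, t * a' = a' * t := fun t ht => m₁.T_commute (hT.ge ht)
    have hpow : ∀ k : ℕ, ⁅v, a' ^ k⁆ = ⁅v, a'⁆ ^ k := by
      intro k
      induction k with
      | zero => simp
      | succ k ih =>
        have e : ⁅v, a' ^ (k + 1)⁆ = ⁅v, a'⁆ * (a' * ⁅v, a' ^ k⁆ * a'⁻¹) := by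
          rw [pow_succ']; simp only [commutatorElement_def]; group
        rw [e, ih, ← hTa _ (pow_mem h2 k), mul_inv_cancel_right, ← pow_succ']
    set g := (a' ^ n)⁻¹ * b with hg
    have hfixv : v * g = g * v := by
      have e : ⁅v, b⁆ = ⁅v, a' ^ n⁆ := by rw [hpow, hn']
      rw [commutatorElement_def, commutatorElement_def] at e
      have e' : b * v⁻¹ * b⁻¹ = a' ^ n * v⁻¹ * (a' ^ n)⁻¹ := by
        have := congrArg (fun z => v⁻¹ * z) e
        simpa [mul_assoc] using this
      have e'' : Commute g v⁻¹ := by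
        show g * v⁻¹ = v⁻¹ * g
        have := congrArg (fun z => (a' ^ n)⁻¹ * z * b) e'
        rw [hg]
        simpa [mul_assoc] using this
      simpa using e''.inv_right.symm.eq
    have hgH : g ∈ H := mul_mem (inv_mem (pow_mem m₁.aH n)) m'.aH
    have hg1 : g = 1 := by
      refine m.hyp.eq_one hgH fun w hw => ?_
      have hwmem : w ∈ fixedIn V B ⊔ Subgroup.zpowers v := by
        have e : fixedIn V B ⊔ Subgroup.zpowers v = V := by
          refine Subgroup.eq_of_le_of_card_ge (sup_le inf_le_left (Subgroup.zpowers_le.2 hv)) ?_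
          have hlt : fixedIn V B < fixedIn V B ⊔ Subgroup.zpowers v :=
            lt_of_le_of_ne le_sup_left fun e =>
              hvn (e ▸ Subgroup.mem_sup_right (Subgroup.mem_zpowers v))
          have h5 := p_mul_fixed_le ((Offenders.ea_isPGroup m.hyp.ea).to_le
            (sup_le inf_le_left (Subgroup.zpowers_le.2 hv))) hlt
          have h6 := HallCore.card_mul_relIndex (A := fixedIn V B) (B := V) inf_le_left
          rw [m'.index, mul_comm] at h6
          exact h6.ge.trans h5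
        rw [e]; exact hw
      have hle : fixedIn V B ⊔ Subgroup.zpowers v ≤ Subgroup.centralizer {g} := by
        refine sup_le (fun c hc => ?_) (Subgroup.zpowers_le.2 ?_)
        · have e1 : Commute c b := (m'.fixed_iff hc.1).1 hc
          have e2 : Commute c a' := (m₁.fixed_iff hc.1).1 (hC'.ge hc)
          exact Subgroup.mem_centralizer_singleton_iff.2
            (((e2.pow_right n).inv_right).mul_right e1).eq
        · exact Subgroup.mem_centralizer_singleton_iff.2 hfixv
      exact Subgroup.mem_centralizer_singleton_iff.1 (hle hwmem)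
    have eb : b = a' ^ n := (inv_mul_eq_one.1 hg1).symm
    rw [m'.gen, Subgroup.zpowers_le, eb]
    exact pow_mem (hA'E m₁.mem) n
  refine sup_le ?_ hBA
  rw [Subgroup.commutator_le]
  intro z hz c hc
  rw [commutatorElement_def]
  exact mul_mem ((Subgroup.mem_normalizer_iff.1 (bl.normed hz) c).1 (hBA hc)) (inv_mem (hBA hc))

theorem eq_or_independent :
    blockE p H A = blockE p H B ∨
      (⁅V, blockE p H A⁆ ≤ fixedIn V (blockE p H B) ∧
        ⁅V, blockE p H B⁆ ≤ fixedIn V (blockE p H A)) := by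
  rcases dichotomy m m' with ⟨h1, h2⟩ | h
  · exact Or.inl (le_antisymm (le_of_same m' m h1.symm h2.symm) (le_of_same m m' h1 h2))
  · exact Or.inr h

/-- Independent blocks commute. -/
theorem commute_of_independent
    (hAB : ⁅V, blockE p H A⁆ ≤ fixedIn V (blockE p H B))
    (hBA : ⁅V, blockE p H B⁆ ≤ fixedIn V (blockE p H A)) :
    ∀ g ∈ blockE p H A, ∀ g' ∈ blockE p H B, g * g' = g' * g := by
  intro g hg g' hg'
  have bl := block_of_min m
  have bl' := block_of_min m'
  have hgH := bl.le hg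
  have hgH' := bl'.le hg'
  have hk : (g' * g)⁻¹ * (g * g') = 1 := by
    refine m.hyp.eq_one (mul_mem (inv_mem (mul_mem hgH' hgH)) (mul_mem hgH hgH')) fun v hv => ?_
    obtain ⟨u, hu, c, hc, rfl⟩ := decomp m hv
    -- `g'` fixes `u` and its image; `g` fixes `c` and its image
    have h1 : ∀ w ∈ ⁅V, blockE p H A⁆, g' * w * g'⁻¹ = w := fun w hw => by
      rw [(hAB hw).2 g' hg', mul_inv_cancel_right]
    have h2 : ∀ w ∈ fixedIn V (blockE p H A), g * w * g⁻¹ = w := fun w hw => by
      rw [hw.2 g hg, mul_inv_cancel_right]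
    have hgu : g * u * g⁻¹ ∈ ⁅V, blockE p H A⁆ :=
      (Subgroup.mem_normalizer_iff.1
        (Subgroup.normalizer_commutator_ge_right V (blockE p H A) hg) u).1 hu
    have hgc : g' * c * g'⁻¹ ∈ fixedIn V (blockE p H A) := by
      have e : g' * c * g'⁻¹ = ⁅c, g'⁆⁻¹ * c := by rw [commutatorElement_def]; group
      rw [e]
      exact mul_mem (inv_mem (hBA (Subgroup.commutator_mem_commutator hc.1 hg'))) hc
    have e : (g * g') * (u * c) * (g * g')⁻¹ = (g' * g) * (u * c) * (g' * g)⁻¹ := by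
      calc (g * g') * (u * c) * (g * g')⁻¹
          = (g * (g' * u * g'⁻¹) * g⁻¹) * (g * (g' * c * g'⁻¹) * g⁻¹) := by group
        _ = (g * u * g⁻¹) * (g' * c * g'⁻¹) := by rw [h1 u hu, h2 _ hgc]
        _ = (g' * (g * u * g⁻¹) * g'⁻¹) * (g' * (g * c * g⁻¹) * g'⁻¹) := by
            rw [h1 _ hgu, h2 c hc]
        _ = _ := by group
    calc u * c * ((g' * g)⁻¹ * (g * g'))
        = (g' * g)⁻¹ * ((g' * g) * (u * c) * (g' * g)⁻¹) * (g * g') := by group
      _ = (g' * g)⁻¹ * ((g * g') * (u * c) * (g * g')⁻¹) * (g * g') := by rw [e]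
      _ = (g' * g)⁻¹ * (g * g') * (u * c) := by group
  exact (inv_mul_eq_one.1 hk).symm

end facts

end Cfsg.Agent.OffendersBlocks
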