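import Mathlib
import Cfsg.Prelude.Def_PLocal
import Cfsg.Prelude.Def_Local
import Cfsg.Agent.Lib.OffendersReplace
import Cfsg.Agent.Lib.OffendersFF
import Cfsg.Agent.Lib.OffendersPlane
import Cfsg.Agent.Lib.OffendersBlocks
import Cfsg.Agent.Lib.QuadraticDickson
import Cfsg.Agent.Lib.HallCore

/-! The structure of a faithful group generated by best offenders with self-centralising core. -/

set_option autoImplicit false

open scoped MatrixGroups commutatorElement

namespace Cfsg.Agent.OffendersStructure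

open Cfsg OffendersReplace OffendersFF OffendersPlane OffendersBlocks

variable {G : Type*} [Group G] [Finite G] {p : ℕ} [hp : Fact p.Prime] {V H A : Subgroup G}

theorem nc3 : ∀ c : ZMod 3, c ≠ 0 → ∀ y : SL(2, ZMod 3), y ^ 8 = 1 →
    y * (QuadraticDickson.up c * y * (QuadraticDickson.up c)⁻¹) =
      (QuadraticDickson.up c * y * (QuadraticDickson.up c)⁻¹) * y →
    y * QuadraticDickson.up c = QuadraticDickson.up c * y := by decide +kernel

theorem card_sl2_two : Nat.card SL(2, ZMod 2) = 2 * 3 := by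
  rw [Nat.card_eq_fintype_card]; decide +kernel

theorem card_sl2_three : Nat.card SL(2, ZMod 3) = 3 * 8 := by
  rw [Nat.card_eq_fintype_card]; decide +kernel

variable {a : G}

/-- The commutator of the core with a minimal offender is a `3`-group, or a non-abelian
`2`-group. -/
theorem core_part (m : Min p V H A a) :
    (p = 2 ∧ IsPGroup 3 ↥(⁅core p H, A⁆)) ∨
      (p = 3 ∧ IsPGroup 2 ↥(⁅core p H, A⁆) ∧ ¬ IsMulCommutative ↥(⁅core p H, A⁆)) := by
  obtain ⟨x, hx, hxa⟩ := m.exists_noncommute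
  obtain ⟨e₁, e₂, P⟩ := exists_pair m hx hxa
  obtain ⟨θ, c, hc, hθa, -⟩ := P.exists_equiv
  have hE := blockE_eq P
  have hWE : ⁅core p H, A⁆ ≤ A ⊔ cj x A := hE ▸ le_sup_left
  have hWK : ⁅core p H, A⁆ ≤ core p H :=
    Subgroup.le_normalizer_iff_commutator_le_left.1 (m.le.trans (Hyp.core_normalized p H))
  have hd : Nat.card ↥(⁅core p H, A⁆) ∣ Nat.card SL(2, ZMod p) := by
    rw [← Nat.card_congr θ.toEquiv]; exact Subgroup.card_dvd_of_le hWE
  have hco : (Nat.card ↥(⁅core p H, A⁆)).Coprime p :=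
    (Hyp.coprime_core p H).coprime_dvd_left (Subgroup.card_dvd_of_le hWK)
  rcases P.prime_two_or_three with rfl | rfl
  · left
    rw [card_sl2_two] at hd
    obtain ⟨i, -, hi⟩ := (Nat.dvd_prime_pow Nat.prime_three).1
      (show _ ∣ 3 ^ 1 by simpa using hco.dvd_of_dvd_mul_left hd)
    exact ⟨rfl, IsPGroup.of_card hi⟩
  · right
    rw [card_sl2_three] at hd
    have h8 : Nat.card ↥(⁅core 3 H, A⁆) ∣ 8 := hco.dvd_of_dvd_mul_left hd
    obtain ⟨i, -, hi⟩ := (Nat.dvd_prime_pow Nat.prime_two).1 (show _ ∣ 2 ^ 3 from h8)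
    refine ⟨rfl, IsPGroup.of_card hi, fun hab => hxa ?_⟩
    set y := ⁅x, a⁆ with hy
    have hyW : y ∈ ⁅core 3 H, A⁆ := Subgroup.commutator_mem_commutator hx m.mem
    have hy' : a * y * a⁻¹ ∈ ⁅core 3 H, A⁆ :=
      (Subgroup.mem_normalizer_iff.1 (Subgroup.normalizer_commutator_ge_right _ _ m.mem) y).1 hyW
    set yE : ↥(A ⊔ cj x A) := ⟨y, hWE hyW⟩ with hyE
    set aE : ↥(A ⊔ cj x A) := ⟨a, Subgroup.mem_sup_left m.mem⟩ with haE
    have hy8 : θ yE ^ 8 = 1 := by
      rw [← map_pow, ← map_one θ]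
      congr 1
      refine Subtype.ext ?_
      rw [SubmonoidClass.coe_pow]
      exact orderOf_dvd_iff_pow_eq_one.1 ((Subgroup.orderOf_dvd_natCard _ hyW).trans h8)
    have hcomm : yE * (aE * yE * aE⁻¹) = (aE * yE * aE⁻¹) * yE := Subtype.ext
      (congrArg Subtype.val (hab.is_comm.comm (⟨y, hyW⟩ : ↥(⁅core 3 H, A⁆)) ⟨_, hy'⟩) :)
    have h1 := congrArg θ hcomm
    simp only [map_mul, map_inv] at h1
    rw [hθa] at h1
    have h2 := nc3 c hc _ hy8 h1
    rw [← hθa, ← map_mul, ← map_mul] at h2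
    have hya : Commute y a := congrArg Subtype.val (θ.injective h2)
    rw [← commutatorElement_eq_one_iff_mul_comm, ← hy]
    refine Hyp.eq_one_of_core (p := 3) (H := H) (hWK hyW) ?_
    have hb : (y * a) ^ 3 = 1 := by
      rw [hy, commutatorElement_def, inv_mul_cancel_right, conj_pow, m.pow, mul_one,
        mul_inv_cancel]
    rwa [hya.mul_pow, m.pow, mul_one] at hb

variable (hgen : H = ⨆ A : {A : Subgroup G // A ≤ H ∧ IsBestOffenderOn p V A}, (A : Subgroup G))
include hgen

/-- `H ≤ N(E)` for every block. -/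
theorem normalizes (m : Min p V H A a) :
    H ≤ Subgroup.normalizer (blockE p H A : Set G) := by
  refine (m.hyp.le_iSup_minimal hgen).trans (iSup_le fun B => ?_)
  obtain ⟨b, m'⟩ := exists_min m.hyp B.2.1 B.2.2
  rcases eq_or_independent m m' with h | ⟨h1, h2⟩
  · rw [h]
    exact le_sup_right.trans Subgroup.le_normalizer
  · exact le_normalizer_of_commute fun g hg e he =>
      (commute_of_independent m m' h1 h2 e he g (Subgroup.mem_sup_right hg)).symm

/-- The direct decomposition attached to a block. -/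
theorem decomposition (m : Min p V H A a) :
    ⁅blockE p H A,
        H ⊓ Subgroup.centralizer ((⁅V, blockE p H A⁆ : Subgroup G) : Set G)⁆ = ⊥ ∧
      blockE p H A ⊓ (H ⊓ Subgroup.centralizer ((⁅V, blockE p H A⁆ : Subgroup G) : Set G)) = ⊥ ∧
      blockE p H A ⊔ (H ⊓ Subgroup.centralizer ((⁅V, blockE p H A⁆ : Subgroup G) : Set G)) = H ∧
      ⁅V, H ⊓ Subgroup.centralizer ((⁅V, blockE p H A⁆ : Subgroup G) : Set G)⁆ ≤
        fixedIn V (blockE p H A) := by
  have bl := block_of_min m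
  set U := ⁅V, blockE p H A⁆ with hU
  set D := H ⊓ Subgroup.centralizer (U : Set G) with hD
  have hN := normalizes hgen m
  refine ⟨?_, le_bot_iff.1 ((inf_le_inf_left _ inf_le_right).trans bl.faithful.le), ?_, ?_⟩
  · rw [eq_bot_iff, Subgroup.commutator_le]
    intro g hg d hd
    have h1 : ⁅g, d⁆ ∈ blockE p H A := by
      rw [commutatorElement_def, mul_assoc g, mul_assoc g]
      exact mul_mem hg ((Subgroup.mem_normalizer_iff.1 (hN hd.1) _).1 (inv_mem hg))
    have h2 : ⁅g, d⁆ ∈ Subgroup.centralizer (U : Set G) := by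
      intro u hu
      have e0 : ∀ w ∈ U, Commute d w := fun w hw => (hd.2 w hw).symm
      have hu' : g⁻¹ * u * g ∈ U := (Subgroup.mem_normalizer_iff''.1
        (Subgroup.normalizer_commutator_ge_right V (blockE p H A) hg) u).1 hu
      have e1 : d * (g⁻¹ * u * g) * d⁻¹ = g⁻¹ * u * g := by
        rw [(e0 _ hu').eq, mul_inv_cancel_right]
      have e2 : d⁻¹ * u * d = u := by
        rw [mul_assoc, ← (e0 u hu).eq, inv_mul_cancel_left]
      rw [commutatorElement_def]
      calc u * (g * d * g⁻¹ * d⁻¹) = g * (g⁻¹ * u * g) * d * g⁻¹ * d⁻¹ := by group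
        _ = g * (d * (g⁻¹ * u * g) * d⁻¹) * d * g⁻¹ * d⁻¹ := by rw [e1]
        _ = g * d * g⁻¹ * d⁻¹ * (d * (u * d⁻¹)) := by group
        _ = g * d * g⁻¹ * d⁻¹ * u := by rw [← mul_assoc d, (e0 u hu).eq, mul_inv_cancel_right]
    have h3 : ⁅g, d⁆ ∈ blockE p H A ⊓ Subgroup.centralizer (U : Set G) := ⟨h1, h2⟩
    rwa [bl.faithful] at h3
  · refine le_antisymm (sup_le bl.le inf_le_left) ((m.hyp.le_iSup_minimal hgen).trans ?_)
    refine iSup_le fun B => ?_
    obtain ⟨b, m'⟩ := exists_min m.hyp B.2.1 B.2.2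
    rcases eq_or_independent m m' with h | ⟨h1, -⟩
    · rw [h]; exact le_sup_right.trans le_sup_left
    · refine le_sup_of_le_right (le_inf B.2.1 fun g hg u hu => ?_)
      exact ((h1 hu).2 g (Subgroup.mem_sup_right hg)).symm
  · rw [Subgroup.commutator_le]
    intro v hv d hd
    obtain ⟨u, hu, c, hcf, rfl⟩ := decomp m hv
    have hcd : ⁅c, d⁆ ∈ fixedIn V (blockE p H A) := by
      rw [commutatorElement_def, mul_assoc c, mul_assoc c]
      exact mul_mem hcf ((Subgroup.mem_normalizer_iff.1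
        (le_normalizer_fixedIn m.hyp.norm hN hd.1) _).1 (inv_mem hcf))
    have e : ⁅u * c, d⁆ = u * ⁅c, d⁆ * u⁻¹ * ⁅u, d⁆ := by
      simp only [commutatorElement_def]; group
    rw [e, commutatorElement_eq_one_iff_mul_comm.2 (hd.2 u hu), mul_one,
      m.hyp.comm_V (commutatorV_le m hu) hcd.1, mul_inv_cancel_right]
    exact hcd

/-- The index type of blocks. -/
abbrev Blk (p : ℕ) (V H : Subgroup G) : Type _ :=
  {E : Subgroup G // ∃ A : Subgroup G, A ≤ H ∧ IsBestOffenderOn p V A ∧ ⁅V, A⁆ ≠ ⊥ ∧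
    (∀ B : Subgroup G, B ≤ A → IsBestOffenderOn p V B → ⁅V, B⁆ ≠ ⊥ → B = A) ∧
    E = blockE p H A}

omit hgen in
theorem exists_of_blk (h : Hyp p V H) (E : Blk p V H) :
    ∃ A a, Min p V H A a ∧ (E : Subgroup G) = blockE p H A := by
  obtain ⟨A, hAH, hA, hAV, hmin, e⟩ := E.2
  obtain ⟨a, m⟩ := exists_min h hAH ⟨hA, hAV, hmin⟩
  exact ⟨A, a, m, e⟩

omit hgen in
theorem other (h : Hyp p V H) {E F : Blk p V H} (hne : E ≠ F) :
    ⁅V, (E : Subgroup G)⁆ ≤ fixedIn V (F : Subgroup G) := by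
  obtain ⟨A, a, m, e⟩ := exists_of_blk h E
  obtain ⟨B, b, m', e'⟩ := exists_of_blk h F
  rw [e, e']
  rcases eq_or_independent m m' with hh | ⟨h1, -⟩
  · exact absurd (Subtype.ext (e.trans (hh.trans e'.symm))) hne
  · exact h1

theorem sup_blk (h : Hyp p V H) : ⨆ E : Blk p V H, (E : Subgroup G) = H := by
  refine le_antisymm (iSup_le fun E => ?_) ((h.le_iSup_minimal hgen).trans (iSup_le fun B => ?_))
  · obtain ⟨A, a, m, e⟩ := exists_of_blk h E
    rw [e]; exact (block_of_min m).le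
  · exact (le_sup_right : (B : Subgroup G) ≤ blockE p H B).trans (le_iSup
      (fun E : Blk p V H => (E : Subgroup G)) ⟨blockE p H B, B, B.2.1, B.2.2.1, B.2.2.2.1,
        B.2.2.2.2, rfl⟩)

omit hgen in
theorem indep_blk (h : Hyp p V H) : iSupIndep (fun E : Blk p V H => (E : Subgroup G)) := by
  intro E
  obtain ⟨A, a, m, e⟩ := exists_of_blk h E
  have hle : (⨆ (F) (_ : F ≠ E), (F : Subgroup G)) ≤
      Subgroup.centralizer ((⁅V, (E : Subgroup G)⁆ : Subgroup G) : Set G) :=
    iSup₂_le fun F hF g hg u hu => ((other h (Ne.symm hF) hu).2 g hg).symm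
  refine disjoint_iff_inf_le.2 ((inf_le_inf_left _ hle).trans ?_)
  show (E : Subgroup G) ⊓ Subgroup.centralizer ((⁅V, (E : Subgroup G)⁆ : Subgroup G) : Set G) ≤ ⊥
  rw [e]
  exact (block_of_min m).faithful.le

theorem fixed_H (h : Hyp p V H) :
    V ⊓ Subgroup.centralizer (H : Set G) = V ⊓ ⨅ E : Blk p V H, fixedIn V (E : Subgroup G) := by
  refine le_antisymm (le_inf inf_le_left (le_iInf fun E => ?_)) (le_inf inf_le_left ?_)
  · obtain ⟨A, a, m, e⟩ := exists_of_blk h E
    rw [e]
    exact fixedIn_antitone V (block_of_min m).le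
  · rw [Subgroup.le_centralizer_iff]
    refine (sup_blk hgen h).ge.trans (iSup_le fun E => ?_)
    rw [Subgroup.le_centralizer_iff]
    exact inf_le_right.trans ((iInf_le _ E).trans inf_le_right)

omit hgen in
theorem split (h : Hyp p V H) (s : Finset (Blk p V H)) :
    (s.sup fun E : Blk p V H => ⁅V, (E : Subgroup G)⁆) ⊓
        (V ⊓ s.inf fun E : Blk p V H => fixedIn V (E : Subgroup G)) = ⊥ ∧
      (s.sup fun E : Blk p V H => ⁅V, (E : Subgroup G)⁆) ⊔
        (V ⊓ s.inf fun E : Blk p V H => fixedIn V (E : Subgroup G)) = V := by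
  classical
  induction s using Finset.induction_on with
  | empty => simp
  | insert E s hEs ih =>
    obtain ⟨A, a, m, e⟩ := exists_of_blk h E
    have bl := block_of_min m
    rw [Finset.sup_insert, Finset.inf_insert]
    set U := ⁅V, (E : Subgroup G)⁆ with hU
    set C := fixedIn V (E : Subgroup G) with hC
    set P := s.sup fun F : Blk p V H => ⁅V, (F : Subgroup G)⁆ with hP
    set I := s.inf fun F : Blk p V H => fixedIn V (F : Subgroup G) with hI
    obtain ⟨ih1, ih2⟩ := ih
    have hPV : P ≤ V := le_sup_left.trans ih2.le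
    have hUV : U ≤ V := by rw [hU, e]; exact commutatorV_le m
    have hPC : P ≤ C := Finset.sup_le fun F hF => other h fun e' => hEs (e' ▸ hF)
    have hUI : U ≤ I := Finset.le_inf fun F hF => other h fun e' => hEs (e'.symm ▸ hF)
    have hUC : U ⊓ C = ⊥ := by rw [hU, hC, e]; exact bl.inf
    constructor
    · rw [Subgroup.eq_bot_iff_forall]
      rintro z ⟨hz, hzV, hzC, hzI⟩
      replace hz : z ∈ U ⊔ P := hz
      rw [← SetLike.mem_coe, Subgroup.coe_mul_of_left_le_normalizer_right U P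
        (le_normalizer_of_commute fun s hs t ht => h.comm_V (hUV hs) (hPV ht))] at hz
      obtain ⟨u, hu, q, hq, rfl⟩ := hz
      have hu1 : u ∈ U ⊓ C := ⟨hu, by
        have hz1 : u * q ∈ C := hzC
        have := mul_mem hz1 (inv_mem (hPC hq)); rwa [mul_inv_cancel_right] at this⟩
      rw [hUC, Subgroup.mem_bot] at hu1
      subst hu1
      have hz' : (1 : G) * q ∈ V ⊓ I := ⟨hzV, hzI⟩
      rw [one_mul] at hz'
      show (1 : G) * q = 1
      rw [one_mul, ← Subgroup.mem_bot]
      have hq' : q ∈ P ⊓ (V ⊓ I) := ⟨hq, hz'⟩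
      rwa [ih1] at hq'
    · refine le_antisymm (sup_le (sup_le hUV hPV) inf_le_left) ?_
      conv_lhs => rw [← ih2]
      refine sup_le (le_sup_of_le_left le_sup_right) fun c hc => ?_
      obtain ⟨u, hu, c', hc', e'⟩ := decomp m hc.1
      rw [← e] at hu hc'
      rw [← e']
      refine mul_mem (Subgroup.mem_sup_left (Subgroup.mem_sup_left hu))
        (Subgroup.mem_sup_right ⟨hc'.1, hc', ?_⟩)
      have h1 := mul_mem (inv_mem (hUI hu)) hc.2
      rwa [← e', inv_mul_cancel_left] at h1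

theorem vector_split (h : Hyp p V H) :
    iSupIndep (fun o : Option (Blk p V H) => o.elim (V ⊓ Subgroup.centralizer (H : Set G))
      (fun E => ⁅V, (E : Subgroup G)⁆)) ∧
    (V ⊓ Subgroup.centralizer (H : Set G)) ⊔ (⨆ E : Blk p V H, ⁅V, (E : Subgroup G)⁆) = V := by
  classical
  haveI : Fintype (Blk p V H) := Fintype.ofFinite _
  obtain ⟨h1, h2⟩ := split h (Finset.univ : Finset (Blk p V H))
  rw [Finset.sup_univ_eq_iSup, Finset.inf_univ_eq_iInf, ← fixed_H hgen h] at h1 h2
  refine ⟨?_, by rw [sup_comm]; exact h2⟩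
  intro o
  refine disjoint_iff_inf_le.2 ?_
  cases o with
  | none =>
    refine le_trans ?_ h1.le
    rw [inf_comm]
    refine inf_le_inf_right _ (iSup₂_le fun o ho => ?_)
    cases o with
    | none => exact absurd rfl ho
    | some F => exact le_iSup (fun E : Blk p V H => ⁅V, (E : Subgroup G)⁆) F
  | some E =>
    obtain ⟨A, a, m, e⟩ := exists_of_blk h E
    show ⁅V, (E : Subgroup G)⁆ ⊓ _ ≤ ⊥
    refine (inf_le_inf_left _ (iSup₂_le (a := fixedIn V (E : Subgroup G)) fun o ho => ?_)).trans ?_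
    · cases o with
      | none => rw [e]; exact fixedIn_antitone V (block_of_min m).le
      | some F => exact other h fun e' => ho (by rw [e'])
    · rw [e]; exact (block_of_min m).inf.le

end Cfsg.Agent.OffendersStructure
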