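import Mathlib
import Cfsg.Prelude.Def_PLocal
import Cfsg.Prelude.Def_Local
import Cfsg.Agent.Lib.Offenders
import Cfsg.Agent.Lib.OffendersReplace
import Cfsg.Agent.Lib.OffendersFF
import Cfsg.Agent.Lib.OffendersPlane
import Cfsg.Agent.Lib.OffendersBlocks
import Cfsg.Agent.Lib.OffendersStructure
import Cfsg.Agent.Lib.HallCore

/-!
A group `X` of exponent `q`, coprime to `H`, permutes the blocks of `H`; the fixed points of `X`
induce all of a block on its plane and on the diagonal plane of its `X`-orbit.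
-/

set_option autoImplicit false

open scoped MatrixGroups commutatorElement

namespace Cfsg.Agent.OffendersCoprime

open Cfsg OffendersReplace OffendersFF OffendersPlane OffendersBlocks OffendersStructure

variable {G : Type*} [Group G] [Finite G] {p : ℕ} [hp : Fact p.Prime] {V H A : Subgroup G} {a : G}

theorem cj_eq_iff {g : G} {S : Subgroup G} : cj g S = S ↔ g ∈ Subgroup.normalizer (S : Set G) :=
  Subgroup.mem_normalizer_iff_map_conj_eq.symm

omit hp in
theorem cj_core {g : G} (hg : g ∈ Subgroup.normalizer (H : Set G)) :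
    cj g (core p H) = core p H := by
  haveI := HallCore.pPrimeCore_characteristic p H
  have hle : cj g (core p H) ≤ core p H := by
    intro x hx
    obtain ⟨s, ⟨y, hy, rfl⟩, rfl⟩ := mem_cj.1 hx
    set φ := H.normalizerMonoidHom ⟨g, hg⟩
    refine ⟨φ y, ?_, rfl⟩
    have h := Subgroup.characteristic_iff_map_eq.1
      (inferInstance : (pPrimeCore p H).Characteristic) φ
    rw [← h]; exact ⟨y, hy, rfl⟩
  exact Subgroup.eq_of_le_of_card_ge hle
    (Subgroup.card_map_of_injective (MulAut.conj g).injective).ge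

/-- Conjugation by an element normalising `V` and `H` permutes the minimal offenders. -/
theorem min_conj (m : Min p V H A a) {g : G} (hV : g ∈ Subgroup.normalizer (V : Set G))
    (hH : g ∈ Subgroup.normalizer (H : Set G)) : Min p V H (cj g A) (g * a * g⁻¹) := by
  refine ⟨m.hyp, ?_, ?_, ?_, ?_, ?_, ?_, ?_⟩
  · rintro y hy
    obtain ⟨s, hs, rfl⟩ := mem_cj.1 hy
    exact (Subgroup.mem_normalizer_iff.1 hH s).1 (m.le hs)
  · show cj g A = _
    rw [m.gen, cj, MonoidHom.map_zpowers]; rfl
  · intro e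
    exact m.ne (conj_eq_one_iff.1 e)
  · rw [conj_pow, m.pow, mul_one, mul_inv_cancel]
  · rw [← cj_commutator hV, cj, Subgroup.card_map_of_injective (MulAut.conj g).injective, m.cardT]
  · have h1 := HallCore.card_mul_relIndex (A := fixedIn V A) (B := V) inf_le_left
    have h2 := HallCore.card_mul_relIndex (A := fixedIn V (cj g A)) (B := V) inf_le_left
    rw [← cj_fixedIn hV, cj, Subgroup.card_map_of_injective (MulAut.conj g).injective] at h2
    rw [← cj_fixedIn hV, ← m.index]
    exact Nat.eq_of_mul_eq_mul_left Nat.card_pos (h2.trans h1.symm)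
  · rw [← cj_commutator hV, ← cj_fixedIn hV]
    exact Subgroup.map_mono m.TleC

theorem cj_block {g : G} (hg : g ∈ Subgroup.normalizer (H : Set G)) :
    cj g (blockE p H A) = blockE p H (cj g A) := by
  rw [blockE, blockE, cj, Subgroup.map_sup, Subgroup.map_commutator]
  exact congrArg (fun S => ⁅S, cj g A⁆ ⊔ cj g A) (cj_core hg)

/-- Same action on the plane means equal, inside a block. -/
theorem eq_of_action (m : Min p V H A a) {g g' : G} (hg : g ∈ blockE p H A)
    (hg' : g' ∈ blockE p H A)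
    (h : ∀ u ∈ ⁅V, blockE p H A⁆, g * u * g⁻¹ = g' * u * g'⁻¹) : g = g' := by
  have hmem : g'⁻¹ * g ∈ blockE p H A := mul_mem (inv_mem hg') hg
  have h1 : g'⁻¹ * g ∈ blockE p H A ⊓
      Subgroup.centralizer ((⁅V, blockE p H A⁆ : Subgroup G) : Set G) := by
    refine ⟨hmem, fun u hu => ?_⟩
    calc u * (g'⁻¹ * g) = g'⁻¹ * (g' * u * g'⁻¹) * g := by group
      _ = g'⁻¹ * (g * u * g⁻¹) * g := by rw [h u hu]
      _ = g'⁻¹ * g * u := by group
  rw [(block_of_min m).faithful, Subgroup.mem_bot, inv_mul_eq_one] at h1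
  exact h1.symm

variable {X : Subgroup G} {q : ℕ} [hq : Fact q.Prime]

/-- The standing hypotheses on the operator group. -/
structure Op (p q : ℕ) (V H X : Subgroup G) : Prop where
  normV : X ≤ Subgroup.normalizer (V : Set G)
  normH : X ≤ Subgroup.normalizer (H : Set G)
  pow : ∀ x ∈ X, x ^ q = 1
  coprime : ¬ q ∣ Nat.card H

theorem five_le (op : Op p q V H X) (m : Min p V H A a) : 5 ≤ q := by
  obtain ⟨θ⟩ := (block_of_min m).equiv
  have h6 : 6 ∣ Nat.card H := by
    refine dvd_trans ?_ (Subgroup.card_dvd_of_le (block_of_min m).le)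
    rw [Nat.card_congr θ.toEquiv]
    rcases (block_of_min m).prime with rfl | rfl
    · rw [card_sl2_two]
    · rw [card_sl2_three]; decide
  have h2 : q ≠ 2 := fun e => op.coprime (e ▸ (dvd_trans (by decide) h6))
  have h3 : q ≠ 3 := fun e => op.coprime (e ▸ (dvd_trans (by decide) h6))
  have h4 : q ≠ 4 := fun e => absurd (e ▸ hq.out) (by decide)
  have := hq.out.two_le
  omega

theorem fixes_plane (op : Op p q V H X) (m : Min p V H A a) {x : G} (hx : x ∈ X)
    (hxE : x ∈ Subgroup.normalizer (blockE p H A : Set G)) {u : G}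
    (hu : u ∈ ⁅V, blockE p H A⁆) : x * u * x⁻¹ = u := by
  set U := ⁅V, blockE p H A⁆ with hU
  have hxU : x ∈ Subgroup.normalizer (U : Set G) := by
    rw [← cj_eq_iff, hU, cj_commutator (op.normV hx), cj_eq_iff.2 hxE]
  let φ : ↥(Subgroup.zpowers x) →* MulAut U :=
    U.normalizerMonoidHom.comp (Subgroup.inclusion (Subgroup.zpowers_le.2 hxU))
  letI : MulAction ↥(Subgroup.zpowers x) U := MulAction.compHom _ φ
  have hq' : IsPGroup q ↥(Subgroup.zpowers x) := by
    rintro ⟨_, i, rfl⟩
    refine ⟨1, Subtype.ext ?_⟩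
    rw [SubmonoidClass.coe_pow, pow_one]
    show (x ^ i) ^ q = 1
    rw [← zpow_natCast, ← zpow_mul, mul_comm, zpow_mul, zpow_natCast, op.pow x hx, one_zpow]
  set F := U ⊓ Subgroup.centralizer {x} with hF
  have hfix : Nat.card ↥(MulAction.fixedPoints ↥(Subgroup.zpowers x) U) = Nat.card F := by
    refine Nat.card_congr
      { toFun := fun v => ⟨(v : U), (v : U).2, ?_⟩
        invFun := fun v => ⟨⟨v, v.2.1⟩, ?_⟩
        left_inv := fun v => rfl
        right_inv := fun v => rfl }
    · have h := congrArg Subtype.val (v.2 ⟨x, Subgroup.mem_zpowers x⟩)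
      have h' : x * ((v : U) : G) * x⁻¹ = ((v : U) : G) := h
      exact Subgroup.mem_centralizer_singleton_iff.2 (mul_inv_eq_iff_eq_mul.1 h').symm
    · rintro ⟨_, i, rfl⟩
      refine Subtype.ext ?_
      show x ^ i * (v : G) * (x ^ i)⁻¹ = v
      rw [((show Commute x (v : G) from
        (Subgroup.mem_centralizer_singleton_iff.1 v.2.2).symm).zpow_left i).eq, mul_inv_cancel_right]
  have hmod := hq'.card_modEq_card_fixedPoints U
  rw [hfix, (block_of_min m).card] at hmod
  obtain ⟨j, hj, hFc⟩ := (Nat.dvd_prime_pow hp.out).1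
    ((block_of_min m).card ▸ Subgroup.card_dvd_of_le (inf_le_left : F ≤ U))
  have h5 := five_le op m
  have hj2 : j = 2 := by
    rw [hFc] at hmod
    have hd := (Nat.modEq_iff_dvd' (Nat.pow_le_pow_right hp.out.pos hj)).1 hmod.symm
    by_contra hne
    have hj' : j = 0 ∨ j = 1 := by omega
    rcases (block_of_min m).prime with hp2 | hp3
    · rcases hj' with rfl | rfl <;> simp [hp2] at hd <;> have := Nat.le_of_dvd (by norm_num) hd <;>
        omega
    · rcases hj' with rfl | rfl <;> simp [hp3] at hd <;> have := Nat.le_of_dvd (by norm_num) hd <;>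
        interval_cases q <;> first | omega | exact absurd hq.out (by decide)
  have hFU : F = U := Subgroup.eq_of_le_of_card_ge inf_le_left
    (by rw [(block_of_min m).card, hFc, hj2])
  have := (hFU.ge hu).2
  replace this : u ∈ Subgroup.centralizer {x} := this
  rw [Subgroup.mem_centralizer_singleton_iff] at this
  rw [← this, mul_inv_cancel_right]

theorem centralizes_block (op : Op p q V H X) (m : Min p V H A a) {x : G} (hx : x ∈ X)
    (hxE : x ∈ Subgroup.normalizer (blockE p H A : Set G)) {e : G} (he : e ∈ blockE p H A) :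
    x * e = e * x := by
  refine mul_inv_eq_iff_eq_mul.1 (eq_of_action m ((Subgroup.mem_normalizer_iff.1 hxE e).1 he) he
    fun u hu => ?_)
  have hu' : x⁻¹ * u * x = u := by
    conv_lhs => rw [← fixes_plane op m hx hxE hu]
    group
  have heu : e * u * e⁻¹ ∈ ⁅V, blockE p H A⁆ :=
    (Subgroup.mem_normalizer_iff.1
      (Subgroup.normalizer_commutator_ge_right V (blockE p H A) he) u).1 hu
  calc x * e * x⁻¹ * u * (x * e * x⁻¹)⁻¹ = x * (e * (x⁻¹ * u * x) * e⁻¹) * x⁻¹ := by group
    _ = e * u * e⁻¹ := by rw [hu', fixes_plane op m hx hxE heu]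

theorem isPGroup_op (op : Op p q V H X) : IsPGroup q X := fun x =>
  ⟨1, Subtype.ext (by rw [SubmonoidClass.coe_pow, pow_one]; exact op.pow x x.2)⟩

theorem coprime_stab (op : Op p q V H X) {L S : Subgroup G} (hL : L ≤ H) :
    (Nat.card L).Coprime (Nat.card ↥(S.subgroupOf X)) := by
  obtain ⟨n, hn⟩ := ((isPGroup_op op).to_subgroup (S.subgroupOf X)).exists_card_eq
  rw [hn]
  refine (Nat.Coprime.pow_right n ?_)
  exact ((hq.out.coprime_iff_not_dvd).2 fun h => op.coprime
    (h.trans (Subgroup.card_dvd_of_le hL))).symm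

/-- Two conjugates of a block element under `X` commute. -/
theorem commute_conj (op : Op p q V H X) (m : Min p V H A a) {e : G} (he : e ∈ blockE p H A)
    {x y : G} (hx : x ∈ X) (hy : y ∈ X) :
    x * e * x⁻¹ * (y * e * y⁻¹) = y * e * y⁻¹ * (x * e * x⁻¹) := by
  have hxe : x * e * x⁻¹ ∈ blockE p H (cj x A) := by
    rw [← cj_block (op.normH hx)]; exact mem_cj.2 ⟨e, he, rfl⟩
  have hye : y * e * y⁻¹ ∈ blockE p H (cj y A) := by
    rw [← cj_block (op.normH hy)]; exact mem_cj.2 ⟨e, he, rfl⟩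
  have mx := min_conj m (op.normV hx) (op.normH hx)
  have my := min_conj m (op.normV hy) (op.normH hy)
  rcases eq_or_independent mx my with h | ⟨h1, h2⟩
  · have hz : y⁻¹ * x ∈ Subgroup.normalizer (blockE p H A : Set G) := by
      rw [← cj_eq_iff, ← cj_cj, cj_block (op.normH hx), h, ← cj_block (op.normH hy), cj_cj,
        inv_mul_cancel, cj_one]
    have hc := centralizes_block op m (mul_mem (inv_mem hy) hx) hz he
    have heq : x * e * x⁻¹ = y * e * y⁻¹ := by
      calc x * e * x⁻¹ = y * ((y⁻¹ * x) * e) * x⁻¹ := by group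
        _ = y * (e * (y⁻¹ * x)) * x⁻¹ := by rw [hc]
        _ = y * e * y⁻¹ := by group
    rw [heq]
  · exact commute_of_independent mx my h1 h2 _ hxe _ hye

/-- Outside the stabiliser, a conjugate of the block fixes the plane. -/
theorem fixes_of_not_mem (op : Op p q V H X) (m : Min p V H A a) {x : G} (hx : x ∈ X)
    (hxE : x ∉ Subgroup.normalizer (blockE p H A : Set G)) :
    ⁅V, blockE p H A⁆ ≤ fixedIn V (cj x (blockE p H A)) ∧
      cj x ⁅V, blockE p H A⁆ ≤ fixedIn V (blockE p H A) := by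
  rcases eq_or_independent m (min_conj m (op.normV hx) (op.normH hx)) with h | h
  · exact absurd (cj_eq_iff.1 ((cj_block (op.normH hx)).trans h.symm)) hxE
  · rw [← cj_block (op.normH hx)] at h
    refine ⟨h.1, ?_⟩
    rw [cj_commutator (op.normV hx)]
    exact h.2

/-- The fixed points of `X` in `H` induce the whole block on its plane. -/
theorem exists_fixed (op : Op p q V H X) (m : Min p V H A a) {e : G} (he : e ∈ blockE p H A) :
    ∃ d ∈ H, (∀ x ∈ X, x * d = d * x) ∧
      ∀ u ∈ ⁅V, blockE p H A⁆, d * u * d⁻¹ = e * u * e⁻¹ := by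
  classical
  haveI : Fintype X := Fintype.ofFinite _
  set Eb := blockE p H A with hEb
  set S := Subgroup.normalizer (Eb : Set G) with hS
  set k := Nat.card ↥(S.subgroupOf X) with hk
  have hco : (Nat.card Eb).Coprime k := coprime_stab op (block_of_min m).le
  obtain ⟨⟨e', he'⟩, hek⟩ := (powCoprime hco).surjective ⟨e, he⟩
  have hek' : e' ^ k = e := congrArg Subtype.val hek
  set T := Subgroup.closure (Set.range fun x : X => (x : G) * e' * (x : G)⁻¹) with hT
  haveI : IsMulCommutative T := Subgroup.isMulCommutative_closure (by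
    rintro _ ⟨x, rfl⟩ _ ⟨y, rfl⟩
    exact commute_conj op m he' x.2 y.2)
  letI : CommGroup T :=
    { (inferInstance : Group T) with mul_comm := fun s t => IsMulCommutative.is_comm.comm s t }
  let f : X → T := fun x => ⟨(x : G) * e' * (x : G)⁻¹, Subgroup.subset_closure ⟨x, rfl⟩⟩
  have hTH : T ≤ H := (Subgroup.closure_le _).2 (by
    rintro _ ⟨x, rfl⟩
    exact (Subgroup.mem_normalizer_iff.1 (op.normH x.2) _).1 ((block_of_min m).le he'))
  refine ⟨(∏ x, f x : T), hTH (∏ x, f x : T).2, fun z hz => ?_, fun u hu => ?_⟩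
  · have hzT : ∀ s ∈ T, z * s * z⁻¹ ∈ T := by
      intro s hs
      have : T.map (MulAut.conj z).toMonoidHom ≤ T := by
        rw [hT, MonoidHom.map_closure, Subgroup.closure_le]
        rintro _ ⟨_, ⟨x, rfl⟩, rfl⟩
        refine Subgroup.subset_closure ⟨⟨z * x, mul_mem hz x.2⟩, ?_⟩
        show z * x * e' * (z * x)⁻¹ = z * ((x : G) * e' * (x : G)⁻¹) * z⁻¹
        group
      exact this ⟨s, hs, rfl⟩
    let ψ : T →* T := MonoidHom.codRestrict ((MulAut.conj z).toMonoidHom.comp T.subtype) T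
      fun s => hzT s s.2
    have h1 : ψ (∏ x, f x) = ∏ x, f x := by
      rw [map_prod]
      refine Fintype.prod_equiv (Equiv.mulLeft (⟨z, hz⟩ : X)) _ _ fun x => Subtype.ext ?_
      show z * ((x : G) * e' * (x : G)⁻¹) * z⁻¹ = z * x * e' * (z * x)⁻¹
      group
    have h2 : z * ((∏ x, f x : T) : G) * z⁻¹ = ((∏ x, f x : T) : G) := congrArg Subtype.val h1
    exact mul_inv_eq_iff_eq_mul.1 h2
  · rw [← Finset.prod_filter_mul_prod_filter_not Finset.univ (fun x : X => (x : G) ∈ S)]
    set P₁ := ∏ x ∈ Finset.univ.filter (fun x : X => (x : G) ∈ S), f x with hP1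
    set P₂ := ∏ x ∈ Finset.univ.filter (fun x : X => ¬ (x : G) ∈ S), f x with hP2
    have h1 : (P₁ : G) = e := by
      have e1 : P₁ = f 1 ^ k := by
        rw [hk, Nat.card_eq_fintype_card, ← Fintype.card_congr (Equiv.refl _), Fintype.card_subtype,
          hP1, ← Finset.prod_const]
        refine Finset.prod_congr ?_ fun x hx => Subtype.ext ?_
        · ext x; simp [Subgroup.mem_subgroupOf]
        · show (x : G) * e' * (x : G)⁻¹ = (1 : G) * e' * (1 : G)⁻¹
          have hxS : (x : G) ∈ S := by simpa [Subgroup.mem_subgroupOf] using hx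
          rw [centralizes_block op m x.2 hxS he']
          group
      rw [e1, SubmonoidClass.coe_pow]
      show ((1 : G) * e' * (1 : G)⁻¹) ^ k = e
      rw [one_mul, inv_one, mul_one, hek']
    have h2 : P₂ ∈ (Subgroup.centralizer {u}).subgroupOf T := by
      refine Subgroup.prod_mem _ fun x hx => ?_
      have hxS : (x : G) ∉ S := (Finset.mem_filter.1 hx).2
      rw [Subgroup.mem_subgroupOf, Subgroup.mem_centralizer_singleton_iff]
      exact ((fixes_of_not_mem op m x.2 hxS).1 hu).2 _ (mem_cj.2 ⟨e', he', rfl⟩)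
    rw [Subgroup.mem_subgroupOf, Subgroup.mem_centralizer_singleton_iff] at h2
    show (P₁ : G) * (P₂ : G) * u * ((P₁ : G) * (P₂ : G))⁻¹ = e * u * e⁻¹
    rw [h1, mul_assoc e, h2]
    group

section gen

variable (hgen : H = ⨆ B : {B : Subgroup G // B ≤ H ∧ IsBestOffenderOn p V B}, (B : Subgroup G))
include hgen

/-- Every element of `H` acts on a plane as an element of the block. -/
theorem exists_proj (m : Min p V H A a) {h : G} (hh : h ∈ H) :
    ∃ e ∈ blockE p H A, ∃ d ∈ H, e * d = h ∧ (∀ g ∈ blockE p H A, g * d = d * g) ∧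
      ∀ u ∈ ⁅V, blockE p H A⁆, u * d = d * u := by
  obtain ⟨h1, -, h3, -⟩ := decomposition hgen m
  have hh' := hh
  rw [← h3, ← SetLike.mem_coe, Subgroup.coe_mul_of_right_le_normalizer_left _ _
    (inf_le_left.trans (normalizes hgen m))] at hh'
  obtain ⟨e, he, d, hd, rfl⟩ := hh'
  refine ⟨e, he, d, hd.1, rfl, fun g hg => ?_, hd.2⟩
  refine commutatorElement_eq_one_iff_mul_comm.1 ?_
  rw [← Subgroup.mem_bot, ← h1]
  exact Subgroup.commutator_mem_commutator hg hd

/-- A subgroup containing a Sylow subgroup of `H` and the fixed points of `X` contains `H`. -/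
theorem le_of_sylow_fixed (op : Op p q V H X) (hyp : Hyp p V H) {P L : Subgroup G}
    (hP : ∀ B : Subgroup G, B ≤ H → IsPGroup p B → ∃ g ∈ H, cj g B ≤ P) (hPL : P ≤ L)
    (hCL : ∀ d ∈ H, (∀ x ∈ X, x * d = d * x) → d ∈ L) : H ≤ L := by
  refine (hyp.le_iSup_minimal hgen).trans (iSup_le fun B => ?_)
  obtain ⟨b, m⟩ := exists_min hyp B.2.1 B.2.2
  obtain ⟨g, hg, hgP⟩ := hP _ B.2.1
    (Offenders.ea_isPGroup (hyp.comm_offender B.2.1 B.2.2.1))
  obtain ⟨e, he, r, hr, rfl, hrc, -⟩ := exists_proj hgen m hg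
  obtain ⟨d, hd, hdX, hdu⟩ := exists_fixed op m he
  obtain ⟨e₂, he₂, r₂, -, hd₂, hr₂, hr₂u⟩ := exists_proj hgen m hd
  have hee : e₂ = e := eq_of_action m he₂ he fun u hu => by
    rw [← hdu u hu, ← hd₂, mul_assoc e₂ r₂ u, ← hr₂u u hu]; group
  subst hee
  intro x hx
  have hxE : x ∈ blockE p H (B : Subgroup G) := Subgroup.mem_sup_right hx
  have h1 : d * x * d⁻¹ ∈ L := by
    apply hPL
    refine hgP (mem_cj.2 ⟨x, hx, ?_⟩)
    rw [← hd₂]
    calc e₂ * r * x * (e₂ * r)⁻¹ = e₂ * (r * x) * r⁻¹ * e₂⁻¹ := by group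
      _ = e₂ * (x * r) * r⁻¹ * e₂⁻¹ := by rw [hrc x hxE]
      _ = e₂ * (x * r₂) * r₂⁻¹ * e₂⁻¹ := by group
      _ = e₂ * (r₂ * x) * r₂⁻¹ * e₂⁻¹ := by rw [hr₂ x hxE]
      _ = e₂ * r₂ * x * (e₂ * r₂)⁻¹ := by group
  have hdL := hCL d hd hdX
  have := mul_mem (mul_mem (inv_mem hdL) h1) hdL
  simpa [mul_assoc] using this

/-- The diagonal plane centralised by `X`, on which the fixed points of `X` induce the block. -/
theorem exists_diagonal (op : Op p q V H X) (m : Min p V H A a) :
    ∃ W : Subgroup G, W ≤ V ∧ Nat.card W = p ^ 2 ∧ (∀ w ∈ W, ∀ x ∈ X, x * w = w * x) ∧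
      ∃ π : ↥(H ⊓ Subgroup.centralizer (X : Set G)) →* ↥(blockE p H A), Function.Surjective π ∧
        ∀ d : ↥(H ⊓ Subgroup.centralizer (X : Set G)), (d : G) ∈ Subgroup.normalizer (W : Set G) ∧
          (π d = 1 ↔ (d : G) ∈ Subgroup.centralizer (W : Set G)) := by
  classical
  haveI : Fintype X := Fintype.ofFinite _
  have hyp := m.hyp
  have bl := block_of_min m
  set U := ⁅V, blockE p H A⁆ with hU
  have hUV : U ≤ V := commutatorV_le m
  haveI : IsMulCommutative V := (Offenders.isMulCommutative_iff V).2 fun v hv w hw => hyp.comm_V hv hw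
  letI : CommGroup V :=
    { (inferInstance : Group V) with mul_comm := fun s t => IsMulCommutative.is_comm.comm s t }
  let c : X → V →* V := fun x =>
    MonoidHom.codRestrict ((MulAut.conj (x : G)).toMonoidHom.comp V.subtype) V
      fun v => (Subgroup.mem_normalizer_iff.1 (op.normV x.2) _).1 v.2
  let N : U →* V :=
    { toFun := fun u => ∏ x, c x (Subgroup.inclusion hUV u)
      map_one' := by simp
      map_mul' := fun u v => by simp only [map_mul, Finset.prod_mul_distrib] }
  set W := N.range.map V.subtype with hW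
  have hinj : Function.Injective N := by
    rw [← MonoidHom.ker_eq_bot_iff, Subgroup.eq_bot_iff_forall]
    intro u hu
    set k := Nat.card ↥((Subgroup.normalizer (blockE p H A : Set G)).subgroupOf X) with hk
    have hNu : (∏ x, c x (Subgroup.inclusion hUV u)) = 1 := hu
    rw [← Finset.prod_filter_mul_prod_filter_not Finset.univ
      (fun x : X => (x : G) ∈ Subgroup.normalizer (blockE p H A : Set G))] at hNu
    have e1 : (∏ x ∈ Finset.univ.filter (fun x : X => (x : G) ∈
        Subgroup.normalizer (blockE p H A : Set G)), c x (Subgroup.inclusion hUV u)) =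
        Subgroup.inclusion hUV u ^ k := by
      rw [hk, Nat.card_eq_fintype_card, Fintype.card_subtype, ← Finset.prod_const]
      refine Finset.prod_congr ?_ fun x hx => Subtype.ext ?_
      · ext x; simp [Subgroup.mem_subgroupOf]
      · exact fixes_plane op m x.2 (by simpa [Subgroup.mem_subgroupOf] using hx) u.2
    have e2 : (∏ x ∈ Finset.univ.filter (fun x : X => ¬ (x : G) ∈
        Subgroup.normalizer (blockE p H A : Set G)), c x (Subgroup.inclusion hUV u)) ∈
        (fixedIn V (blockE p H A)).subgroupOf V :=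
      Subgroup.prod_mem _ fun x hx => (fixes_of_not_mem op m x.2 (Finset.mem_filter.1 hx).2).2
        (mem_cj.2 ⟨u, u.2, rfl⟩)
    rw [e1] at hNu
    rw [eq_inv_of_mul_eq_one_right hNu, Subgroup.inv_mem_iff, Subgroup.mem_subgroupOf,
      SubmonoidClass.coe_pow] at e2
    have h3 : (u : G) ^ k ∈ U ⊓ fixedIn V (blockE p H A) := ⟨pow_mem u.2 k, e2⟩
    rw [bl.inf, Subgroup.mem_bot] at h3
    have hcop : (Nat.card U).Coprime k := by
      rw [bl.card]
      refine Nat.Coprime.pow_left 2 ?_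
      have := coprime_stab op (L := blockE p H A) (S := Subgroup.normalizer (blockE p H A : Set G))
        bl.le
      refine this.coprime_dvd_left ?_
      refine Nat.dvd_trans ?_ (Subgroup.card_dvd_of_le (le_sup_right : A ≤ blockE p H A))
      rw [m.gen, Nat.card_zpowers, orderOf_eq_prime m.pow m.ne]
    exact (powCoprime hcop).injective (by simpa using (Subtype.ext h3 : u ^ k = 1))
  have hWmem : ∀ w, w ∈ W ↔ ∃ u : U, (N u : G) = w := fun w => by
    constructor
    · rintro ⟨_, ⟨u, rfl⟩, rfl⟩; exact ⟨u, rfl⟩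
    · rintro ⟨u, rfl⟩; exact ⟨_, ⟨u, rfl⟩, rfl⟩
  refine ⟨W, Subgroup.map_subtype_le _, ?_, ?_, ?_⟩
  · rw [hW, Subgroup.card_map_of_injective V.subtype_injective,
      ← Nat.card_congr (MonoidHom.ofInjective hinj).toEquiv, bl.card]
  · intro w hw z hz
    obtain ⟨u, rfl⟩ := (hWmem w).1 hw
    have h1 : c ⟨z, hz⟩ (N u) = N u := by
      show c ⟨z, hz⟩ (∏ x, c x (Subgroup.inclusion hUV u)) = _
      rw [map_prod]
      refine Fintype.prod_equiv (Equiv.mulLeft (⟨z, hz⟩ : X)) _ _ fun x => Subtype.ext ?_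
      show z * ((x : G) * u * (x : G)⁻¹) * z⁻¹ = z * x * u * (z * x)⁻¹
      group
    exact mul_inv_eq_iff_eq_mul.1 (congrArg Subtype.val h1)
  have hact : ∀ d : ↥(H ⊓ Subgroup.centralizer (X : Set G)), ∃ e : ↥(blockE p H A),
      ∀ u ∈ U, (d : G) * u * (d : G)⁻¹ = e * u * (e : G)⁻¹ := fun d => by
    obtain ⟨e, he, r, -, hd, -, hru⟩ := exists_proj hgen m d.2.1
    refine ⟨⟨e, he⟩, fun u hu => ?_⟩
    show _ = e * u * e⁻¹
    rw [← hd, mul_assoc e r u, ← hru u hu]; group
  choose π hπ using hact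
  have huniq : ∀ (d : ↥(H ⊓ Subgroup.centralizer (X : Set G))) (e : ↥(blockE p H A)),
      (∀ u ∈ U, (d : G) * u * (d : G)⁻¹ = e * u * (e : G)⁻¹) → π d = e := fun d e h =>
    Subtype.ext (eq_of_action m (π d).2 e.2 fun u hu => (hπ d u hu).symm.trans (h u hu))
  have hUn : ∀ e : ↥(blockE p H A), ∀ u ∈ U, (e : G) * u * (e : G)⁻¹ ∈ U := fun e u hu =>
    (Subgroup.mem_normalizer_iff.1
      (Subgroup.normalizer_commutator_ge_right V (blockE p H A) e.2) u).1 hu
  let π' : ↥(H ⊓ Subgroup.centralizer (X : Set G)) →* ↥(blockE p H A) :=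
    MonoidHom.mk' π fun d₁ d₂ => huniq _ _ fun u hu => by
      calc ((d₁ : G) * d₂) * u * ((d₁ : G) * d₂)⁻¹
          = (d₁ : G) * ((d₂ : G) * u * (d₂ : G)⁻¹) * (d₁ : G)⁻¹ := by group
        _ = (π d₁ : G) * ((π d₂ : G) * u * (π d₂ : G)⁻¹) * (π d₁ : G)⁻¹ := by
          rw [hπ d₂ u hu, hπ d₁ _ (hUn _ u hu)]
        _ = _ := by rw [Subgroup.coe_mul]; group
  refine ⟨π', fun e => ?_, fun d => ?_⟩
  · obtain ⟨d, hd, hdX, hdu⟩ := exists_fixed op m e.2
    exact ⟨⟨d, hd, hdX⟩, huniq _ _ hdu⟩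
  -- the norm map commutes with the fixed points of `X`
  have heq : ∀ (d : ↥(H ⊓ Subgroup.centralizer (X : Set G))) (u : U),
      (d : G) * (N u : G) * (d : G)⁻¹ = (N ⟨π d * u * (π d : G)⁻¹, hUn _ u u.2⟩ : G) := by
    intro d u
    let cd : V →* V := MonoidHom.codRestrict ((MulAut.conj (d : G)).toMonoidHom.comp V.subtype) V
      fun v => hyp.conj_V d.2.1 v.2
    have h1 : cd (N u) = N ⟨π d * u * (π d : G)⁻¹, hUn _ u u.2⟩ := by
      show cd (∏ x, c x (Subgroup.inclusion hUV u)) = ∏ x, c x _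
      rw [map_prod]
      refine Finset.prod_congr rfl fun x _ => Subtype.ext ?_
      show (d : G) * ((x : G) * u * (x : G)⁻¹) * (d : G)⁻¹ =
        (x : G) * ((π d : G) * u * (π d : G)⁻¹) * (x : G)⁻¹
      rw [← hπ d u u.2]
      have hxd : Commute (x : G) (d : G) := d.2.2 x x.2
      calc (d : G) * ((x : G) * u * (x : G)⁻¹) * (d : G)⁻¹
          = ((d : G) * x) * u * ((x : G)⁻¹ * (d : G)⁻¹) := by group
        _ = ((x : G) * d) * u * ((d : G)⁻¹ * (x : G)⁻¹) := by
          rw [hxd.eq, hxd.inv_inv.eq]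
        _ = _ := by group
    exact congrArg Subtype.val h1
  refine ⟨?_, ?_⟩
  · refine cj_eq_iff.1 (Subgroup.eq_of_le_of_card_ge ?_
      (Subgroup.card_map_of_injective (MulAut.conj (d : G)).injective).ge)
    intro y hy
    obtain ⟨w, hw, rfl⟩ := mem_cj.1 hy
    obtain ⟨u, rfl⟩ := (hWmem w).1 hw
    exact (hWmem _).2 ⟨_, (heq d u).symm⟩
  · show π d = 1 ↔ _
    constructor
    · intro h w hw
      obtain ⟨u, rfl⟩ := (hWmem w).1 hw
      have := heq d u
      have he1 : (⟨π d * u * (π d : G)⁻¹, hUn _ u u.2⟩ : U) = u := Subtype.ext (by simp [h])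
      rw [he1] at this
      exact (mul_inv_eq_iff_eq_mul.1 this).symm
    · intro h
      refine huniq _ _ fun u hu => ?_
      have h1 : N ⟨π d * u * (π d : G)⁻¹, hUn _ u hu⟩ = N ⟨u, hu⟩ := Subtype.ext <| by
        rw [← heq d ⟨u, hu⟩, ← h _ ((hWmem _).2 ⟨⟨u, hu⟩, rfl⟩), mul_inv_cancel_right]
      have h2 : (π d : G) * u * (π d : G)⁻¹ = u := congrArg Subtype.val (hinj h1)
      rw [hπ d u hu, h2, Subgroup.coe_one, one_mul, inv_one, mul_one]

end gen

end Cfsg.Agent.OffendersCoprime
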