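import Mathlib
import Cfsg.Prelude.Def_PLocal
import Cfsg.Agent.Lib.Offenders
import Cfsg.Agent.Lib.OffendersReplace

/-! Normal `p`-subgroups modulo a normal subgroup; `Ω₁(Z(S))`; Frattini arguments with `J`. -/

set_option autoImplicit false

namespace Cfsg.Agent.OffendersCore

open Cfsg

variable {G : Type*} [Group G] {p : ℕ}

theorem isPGroup_le_sylow [Finite G] [Fact p.Prime] {P : Subgroup G} [P.Normal] (hP : IsPGroup p P)
    (S : Sylow p G) : P ≤ S := by
  obtain ⟨T, hT⟩ := hP.exists_le_sylow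
  obtain ⟨g, hg⟩ := MulAction.exists_smul_eq G T S
  intro x hx
  rw [← hg]
  have h1 : g⁻¹ * x * g ∈ (T : Subgroup G) := hT (by simpa using ‹P.Normal›.conj_mem x hx g⁻¹)
  have := Subgroup.smul_mem_pointwise_smul _ (MulAut.conj g) _ h1
  rw [Sylow.coe_subgroup_smul]
  simpa [mul_assoc] using this

theorem pCore_le_sylow [Finite G] [Fact p.Prime] (S : Sylow p G) : pCore p G ≤ S :=
  sSup_le fun N ⟨hN, hNp⟩ => haveI := hN; isPGroup_le_sylow hNp S

theorem isPGroup_pCore [Finite G] [Fact p.Prime] : IsPGroup p (pCore p G) :=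
  (default : Sylow p G).isPGroup'.to_le (pCore_le_sylow _)

theorem pCore_normal' (p : ℕ) (G : Type*) [Group G] : (pCore p G).Normal := by
  have h : ∀ g : G, pCore p G ≤ (pCore p G).comap (MulAut.conj g).toMonoidHom := by
    intro g
    refine sSup_le fun N ⟨hN, hNp⟩ x hx => ?_
    exact Subgroup.mem_comap.2 ((le_sSup ⟨hN, hNp⟩ : N ≤ pCore p G) (hN.conj_mem x hx g))
  exact ⟨fun x hx g => h g hx⟩

theorem pCore_eq_bot [Finite G]
    (h : ∀ N : Subgroup G, N.Normal → IsPGroup p N → N = ⊥) : pCore p G = ⊥ :=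
  le_bot_iff.1 (sSup_le fun N ⟨hN, hNp⟩ => (h N hN hNp).le)

/-- A normal subgroup whose image mod `C` is a `p`-group lies in `S C` for every Sylow `S`. -/
theorem le_sylow_sup [Finite G] [Fact p.Prime] {C D : Subgroup G} [C.Normal] [D.Normal]
    (hD : IsPGroup p (D.map (QuotientGroup.mk' C))) (S : Sylow p G) :
    D ≤ (S : Subgroup G) ⊔ C := by
  have hs := QuotientGroup.mk'_surjective C
  haveI : (D.map (QuotientGroup.mk' C)).Normal := Subgroup.Normal.map ‹_› _ hs
  have h := isPGroup_le_sylow hD (S.mapSurjective hs)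
  rw [Sylow.coe_mapSurjective, Subgroup.map_le_iff_le_comap, Subgroup.comap_map_eq,
    QuotientGroup.ker_mk'] at h
  exact h

theorem le_centralizer_of_fixed [Finite G] [Fact p.Prime] {D V : Subgroup G} [V.Normal] [D.Normal]
    (hD : IsPGroup p (D.map (QuotientGroup.mk' (Subgroup.centralizer (V : Set G)))))
    (hgen : V ≤ ⨆ S : Sylow p G, V ⊓ Subgroup.centralizer ((S : Subgroup G) : Set G)) :
    D ≤ Subgroup.centralizer (V : Set G) := by
  rw [Subgroup.le_centralizer_iff]
  refine hgen.trans (iSup_le fun S => ?_)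
  rw [Subgroup.le_centralizer_iff]
  refine (le_sylow_sup hD S).trans (sup_le ?_ (Subgroup.centralizer_le fun _ hx => hx.1))
  rw [Subgroup.le_centralizer_iff]
  exact inf_le_right

/-- `Ω₁(Z(S))` inside `G`. -/
def omegaZ [Fact p.Prime] (S : Sylow p G) : Subgroup G :=
  omegaOne p (((S : Subgroup G)) ⊓ Subgroup.centralizer ((S : Subgroup G) : Set G))

theorem omegaZ_map_conj [Fact p.Prime] (g : G) (S : Sylow p G) :
    (omegaZ S).map (MulAut.conj g).toMonoidHom = omegaZ (g • S) := by
  rw [omegaZ, Offenders.omegaOne_map (MulAut.conj g).injective,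
    ← Offenders.map_centralizer_range (MulAut.conj g).injective]
  rfl

theorem normal_iSup_omegaZ [Fact p.Prime] : (⨆ S : Sylow p G, omegaZ S).Normal := by
  constructor
  intro x hx g
  have : (⨆ S : Sylow p G, omegaZ S).map (MulAut.conj g).toMonoidHom ≤
      ⨆ S : Sylow p G, omegaZ S := by
    rw [Subgroup.map_iSup]
    exact iSup_le fun S => (omegaZ_map_conj g S).le.trans (le_iSup (fun S => omegaZ S) (g • S))
  exact this ⟨x, hx, rfl⟩

theorem omegaZ_le_center_pCore [Finite G] [Fact p.Prime]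
    (hc : Subgroup.centralizer (pCore p G : Set G) ≤ pCore p G) (S : Sylow p G) :
    omegaZ S ≤ pCore p G ⊓ Subgroup.centralizer (pCore p G : Set G) := by
  have h : omegaZ S ≤ Subgroup.centralizer (pCore p G : Set G) :=
    (Offenders.omegaOne_le _).trans
      (inf_le_right.trans (Subgroup.centralizer_le fun x hx => pCore_le_sylow S hx))
  exact le_inf (h.trans hc) h

theorem ea_iSup_omegaZ [Finite G] [Fact p.Prime]
    (hc : Subgroup.centralizer (pCore p G : Set G) ≤ pCore p G) :
    IsElementaryAbelian p (⨆ S : Sylow p G, omegaZ S) := by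
  refine Offenders.ea_mono (Offenders.omegaOne_ea
    (K := pCore p G ⊓ Subgroup.centralizer (pCore p G : Set G))
    fun x hx y hy => (hx.2 y hy.1).symm) (iSup_le fun S => ?_)
  refine (Subgroup.closure_le _).2 fun x hx => Offenders.mem_omegaOne ?_ hx.2
  exact omegaZ_le_center_pCore hc S (Offenders.mem_omegaOne hx.1 hx.2)

/-- If a normal subgroup contains every largest elementary abelian subgroup lying in a Sylow `S`,
then `G = C N_G(J(S))`. -/
theorem sup_normalizer_thompson [Finite G] [Fact p.Prime] {C : Subgroup G} [C.Normal] (S : Sylow p G)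
    (h : thompsonSubgroupOf p (S : Subgroup G) ≤ C) :
    C ⊔ Subgroup.normalizer (thompsonSubgroupOf p (S : Subgroup G) : Set G) = ⊤ := by
  set J := thompsonSubgroupOf p (S : Subgroup G) with hJ
  set T := (S : Subgroup G) ⊓ C with hT
  have hJT : thompsonSubgroupOf p T = J := by
    rw [hJ, Offenders.thompsonOf_eq, Offenders.thompsonOf_eq]
    obtain ⟨A₀, hA₀⟩ := Offenders.exists_max (G := G) p
    congr 1
    ext A
    constructor
    · rintro ⟨hA, hAe, hAm⟩
      refine ⟨hA.trans inf_le_left, hAe, fun B hB hBe => ?_⟩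
      obtain ⟨P, hP⟩ := Offenders.exists_mem_sylow hA₀.1
      obtain ⟨g, hg⟩ := MulAction.exists_smul_eq G P S
      have h1 : Offenders.IsMaxIn p (S : Subgroup G) (A₀.map (MulAut.conj g).toMonoidHom) := by
        refine Offenders.max_maxIn (Offenders.max_map_equiv hA₀ (MulAut.conj g)) ?_
        rw [← hg]
        exact Subgroup.map_mono hP
      have h2 : A₀.map (MulAut.conj g).toMonoidHom ≤ J := by
        rw [hJ, Offenders.thompsonOf_eq]; exact le_sSup h1
      exact (h1.2.2 B hB hBe).trans (hAm _ (le_inf h1.1 (h2.trans h)) h1.2.1)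
    · rintro ⟨hA, hAe, hAm⟩
      refine ⟨le_inf hA (le_trans ?_ h), hAe, fun B hB => hAm B (hB.trans inf_le_left)⟩
      rw [hJ, Offenders.thompsonOf_eq]; exact le_sSup ⟨hA, hAe, hAm⟩
  obtain ⟨R, hR⟩ := (S.isPGroup'.to_le (inf_le_left : T ≤ (S : Subgroup G))).comap_subtype
    (H := T) (K := C) |>.exists_le_sylow
  have hRT : (R : Subgroup C).map C.subtype = T := by
    obtain ⟨P, hP⟩ := (R.isPGroup'.map C.subtype).exists_le_sylow
    obtain ⟨g, hg⟩ := MulAction.exists_smul_eq G P S
    have hle : ((R : Subgroup C).map C.subtype).map (MulAut.conj g).toMonoidHom ≤ T := by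
      refine le_inf ?_ ?_
      · rw [← hg]; exact Subgroup.map_mono hP
      · rintro _ ⟨x, hx, rfl⟩
        exact ‹C.Normal›.conj_mem x (Subgroup.map_subtype_le _ hx) g
    refine (Subgroup.eq_of_le_of_card_ge (H := T) ?_ ?_).symm
    · intro x hx
      exact ⟨⟨x, (inf_le_right : T ≤ C) hx⟩, hR hx, rfl⟩
    · have := Subgroup.card_le_of_le hle
      rwa [Subgroup.card_map_of_injective (MulAut.conj g).injective] at this
  have hfr := R.normalizer_sup_eq_top
  rw [hRT] at hfr
  rw [eq_top_iff, ← hfr, sup_comm]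
  refine sup_le_sup_left (fun x hx => ?_) _
  rw [Subgroup.mem_normalizer_iff_map_conj_eq] at hx ⊢
  rw [← hJT]
  exact (Offenders.thompsonOf_map_conj x T).trans (congrArg (thompsonSubgroupOf p) hx)

end Cfsg.Agent.OffendersCore
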