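import Mathlib
import Cfsg.Prelude.Def_PLocal
import Cfsg.Prelude.Def_Local
import Cfsg.Agent.Lib.Offenders
import Cfsg.Agent.Lib.OffendersReplace
import Cfsg.Agent.Lib.OffendersCore
import Cfsg.Agent.Lib.OffendersFF
import Cfsg.Agent.Lib.HallCore
import Cfsg.Agent.Lib.HallSolvable
import Cfsg.Agent.Lib.OffendersPlane
import Cfsg.Agent.Lib.OffendersBlocks

/-!
The normalizer of an elementary abelian `V` modulo its centralizer, faithfully realised next to `V`
inside a semidirect product, and best offenders transported there.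
-/

set_option autoImplicit false

open scoped commutatorElement

namespace Cfsg.Agent.OffendersGlobal

open Cfsg OffendersReplace OffendersPlane OffendersBlocks OffendersFF

universe u

variable {G : Type u} [Group G] (V : Subgroup G)

/-- `N_G(V)` modulo the kernel of its action. -/
abbrev Quo : Type u := ↥(Subgroup.normalizer (V : Set G)) ⧸ V.normalizerMonoidHom.ker

/-- The faithful action. -/
def act : Quo V →* MulAut V := QuotientGroup.kerLift V.normalizerMonoidHom

/-- `V ⋊ (N_G(V)/C_G(V))`. -/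
abbrev Amb : Type u := V ⋊[act V] Quo V

/-- `N_G(V)` in the ambient group. -/
def toAmb : ↥(Subgroup.normalizer (V : Set G)) →* Amb V :=
  SemidirectProduct.inr.comp (QuotientGroup.mk' _)

/-- The copy of `V`. -/
def incl : V →* Amb V := SemidirectProduct.inl

/-- The image of a subgroup of `G`. -/
def img (H : Subgroup G) : Subgroup (Amb V) :=
  (H.subgroupOf (Subgroup.normalizer (V : Set G))).map (toAmb V)

/-- The copy of `V` as a subgroup. -/
def vImg : Subgroup (Amb V) := (incl V).range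

theorem incl_injective : Function.Injective (incl V) := SemidirectProduct.inl_injective

theorem toAmb_conj (n : ↥(Subgroup.normalizer (V : Set G))) (v : V) :
    toAmb V n * incl V v * (toAmb V n)⁻¹ =
      incl V ⟨n * v * (n : G)⁻¹, (Subgroup.mem_normalizer_iff.1 n.2 v).1 v.2⟩ := by
  rw [toAmb, MonoidHom.comp_apply, ← map_inv, incl, ← SemidirectProduct.inl_aut]
  rfl

theorem toAmb_eq_one {n : ↥(Subgroup.normalizer (V : Set G))} :
    toAmb V n = 1 ↔ (n : G) ∈ Subgroup.centralizer (V : Set G) := by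
  rw [toAmb, MonoidHom.comp_apply, ← map_one (SemidirectProduct.inr (N := V) (φ := act V)),
    SemidirectProduct.inr_injective.eq_iff, QuotientGroup.mk'_apply, QuotientGroup.eq_one_iff,
    Subgroup.normalizerMonoidHom_ker, Subgroup.mem_subgroupOf]

theorem commute_iff (n : ↥(Subgroup.normalizer (V : Set G))) (v : V) :
    Commute (toAmb V n) (incl V v) ↔ Commute (n : G) v := by
  constructor
  · intro h
    have h1 : incl V v = incl V ⟨n * v * (n : G)⁻¹, (Subgroup.mem_normalizer_iff.1 n.2 v).1 v.2⟩ := by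
      rw [← toAmb_conj, h.eq, mul_inv_cancel_right]
    exact (mul_inv_eq_iff_eq_mul.1 (congrArg Subtype.val (incl_injective V h1)).symm)
  · intro h
    have h1 := toAmb_conj V n v
    rw [show (⟨n * v * (n : G)⁻¹, (Subgroup.mem_normalizer_iff.1 n.2 v).1 v.2⟩ : V) = v from
      Subtype.ext (by show (n : G) * v * (n : G)⁻¹ = v; rw [h.eq, mul_inv_cancel_right])] at h1
    exact mul_inv_eq_iff_eq_mul.1 h1

theorem mem_img {H : Subgroup G} {g : Amb V} :
    g ∈ img V H ↔ ∃ n : ↥(Subgroup.normalizer (V : Set G)), (n : G) ∈ H ∧ toAmb V n = g :=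
  Subgroup.mem_map

theorem img_le_normalizer (H : Subgroup G) :
    img V H ≤ Subgroup.normalizer (vImg V : Set (Amb V)) := by
  intro g hg
  obtain ⟨n, -, rfl⟩ := (mem_img V).1 hg
  refine Subgroup.mem_normalizer_iff.2 fun x => ⟨?_, fun hx => ?_⟩
  · rintro ⟨v, rfl⟩
    exact ⟨_, (toAmb_conj V n v).symm⟩
  · obtain ⟨v, hv⟩ := hx
    refine ⟨⟨(n⁻¹ : ↥(Subgroup.normalizer (V : Set G))) * v * ((n⁻¹ : ↥(Subgroup.normalizer
      (V : Set G))) : G)⁻¹, (Subgroup.mem_normalizer_iff.1 (n⁻¹).2 v).1 v.2⟩, ?_⟩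
    rw [← toAmb_conj, map_inv, hv]
    group

theorem img_faithful (H : Subgroup G) :
    img V H ⊓ Subgroup.centralizer (vImg V : Set (Amb V)) = ⊥ := by
  rw [Subgroup.eq_bot_iff_forall]
  rintro g ⟨hg, hc⟩
  obtain ⟨n, -, rfl⟩ := (mem_img V).1 hg
  rw [toAmb_eq_one]
  intro v hv
  exact (((commute_iff V n ⟨v, hv⟩).1 (hc _ ⟨⟨v, hv⟩, rfl⟩).symm)).symm

theorem ea_vImg {p : ℕ} (hV : IsElementaryAbelian p V) : IsElementaryAbelian p (vImg V) := by
  obtain ⟨hc, hp⟩ := (Offenders.ea_iff V).1 hV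
  refine (Offenders.ea_iff _).2 ⟨?_, ?_⟩
  · rintro _ ⟨v, rfl⟩ _ ⟨w, rfl⟩
    rw [← map_mul, ← map_mul, show v * w = w * v from Subtype.ext (hc v v.2 w w.2)]
  · rintro _ ⟨v, rfl⟩
    rw [← map_pow, show v ^ p = 1 from Subtype.ext (by rw [SubmonoidClass.coe_pow, hp v v.2]; rfl),
      map_one]

variable [Finite G]

instance : Finite (Amb V) := Finite.of_equiv _ SemidirectProduct.equivProd.symm

theorem fixed_img {B : Subgroup G} (hB : B ≤ Subgroup.normalizer (V : Set G)) :
    Nat.card ↥(fixedIn (vImg V) (img V B)) = Nat.card ↥(fixedIn V B) := by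
  have e : fixedIn (vImg V) (img V B) = ((fixedIn V B).subgroupOf V).map (incl V) := by
    ext x
    constructor
    · rintro ⟨⟨v, rfl⟩, hc⟩
      refine ⟨v, ⟨v.2, fun b hb => ?_⟩, rfl⟩
      exact ((commute_iff V ⟨b, hB hb⟩ v).1 (hc _ ((mem_img V).2 ⟨⟨b, hB hb⟩, hb, rfl⟩))).eq
    · rintro ⟨v, hv, rfl⟩
      refine ⟨⟨v, rfl⟩, fun g hg => ?_⟩
      obtain ⟨n, hn, rfl⟩ := (mem_img V).1 hg
      exact ((commute_iff V n v).2 (hv.2 n hn)).eq
  rw [e, Subgroup.card_map_of_injective (incl_injective V),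
    Nat.card_congr (Subgroup.subgroupOfEquivOfLe (H := fixedIn V B) (K := V) inf_le_left).toEquiv]

theorem card_img {B : Subgroup G} (hB : B ≤ Subgroup.normalizer (V : Set G)) :
    Nat.card ↥(B ⊓ Subgroup.centralizer (V : Set G)) * Nat.card ↥(img V B) = Nat.card B := by
  set f := (toAmb V).comp (Subgroup.inclusion hB) with hf
  have hr : f.range = img V B := by
    ext g
    rw [mem_img]
    constructor
    · rintro ⟨b, rfl⟩; exact ⟨_, b.2, rfl⟩
    · rintro ⟨n, hn, rfl⟩; exact ⟨⟨n, hn⟩, rfl⟩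
  have hk : f.ker = (B ⊓ Subgroup.centralizer (V : Set G)).subgroupOf B := by
    ext b
    rw [MonoidHom.mem_ker, Subgroup.mem_subgroupOf, hf, MonoidHom.comp_apply, toAmb_eq_one]
    exact ⟨fun h => ⟨b.2, h⟩, fun h => h.2⟩
  rw [← hr, ← Subgroup.index_ker, ← Subgroup.card_mul_index f.ker, hk,
    Nat.card_congr (Subgroup.subgroupOfEquivOfLe
      (inf_le_left : B ⊓ Subgroup.centralizer (V : Set G) ≤ B)).toEquiv]

theorem img_mono {A B : Subgroup G} (h : A ≤ B) : img V A ≤ img V B :=
  Subgroup.map_mono fun _ hx => h hx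

theorem bestOffender_img {p : ℕ} {A : Subgroup G} (hAN : A ≤ Subgroup.normalizer (V : Set G))
    (hA : IsBestOffenderOn p V A) : IsBestOffenderOn p (vImg V) (img V A) := by
  refine ⟨fun B' hB' => ?_, ?_, ?_⟩
  · set B := A ⊓ (B'.comap (toAmb V)).map (Subgroup.normalizer (V : Set G)).subtype with hB
    have hBA : B ≤ A := inf_le_left
    have e : img V B = B' := by
      ext g
      rw [mem_img]
      constructor
      · rintro ⟨n, ⟨-, m, hm, hmn⟩, rfl⟩
        rwa [← show m = n from Subtype.ext hmn]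
      · intro hg
        obtain ⟨n, hn, rfl⟩ := (mem_img V).1 (hB' hg)
        exact ⟨n, ⟨hn, n, hg, rfl⟩, rfl⟩
    have h1 := hA.1 B hBA
    show Nat.card B' * Nat.card ↥(fixedIn (vImg V) B') ≤
      Nat.card ↥(img V A) * Nat.card ↥(fixedIn (vImg V) (img V A))
    rw [← e, fixed_img V (hBA.trans hAN), fixed_img V hAN]
    have hcB := card_img V (hBA.trans hAN)
    have hcA := card_img V hAN
    have hcap : A ⊓ Subgroup.centralizer (V : Set G) ≤ B := by
      rintro x ⟨hxA, hxC⟩
      refine ⟨hxA, ⟨x, hAN hxA⟩, ?_, rfl⟩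
      show toAmb V ⟨x, hAN hxA⟩ ∈ B'
      rw [(toAmb_eq_one V).2 hxC]; exact one_mem _
    have hBe : B ⊓ Subgroup.centralizer (V : Set G) = A ⊓ Subgroup.centralizer (V : Set G) :=
      le_antisymm (inf_le_inf_right _ hBA) (le_inf hcap inf_le_right)
    rw [hBe] at hcB
    refine Nat.le_of_mul_le_mul_left ?_
      (Nat.card_pos : 0 < Nat.card ↥(A ⊓ Subgroup.centralizer (V : Set G)))
    rw [← mul_assoc, ← mul_assoc, hcB, hcA]
    exact h1
  · rw [Subgroup.commutator_le]
    intro x hx y hy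
    obtain ⟨a, ha, rfl⟩ := (mem_img V).1 hx
    obtain ⟨b, hb, rfl⟩ := (mem_img V).1 hy
    have h1 : ((⁅a, b⁆ : ↥(Subgroup.normalizer (V : Set G))) : G) ∈
        Subgroup.centralizer (V : Set G) :=
      hA.2.1 (Subgroup.commutator_mem_commutator ha hb)
    rw [← map_commutatorElement, (toAmb_eq_one V).2 h1]
    exact one_mem _
  · intro x hx
    obtain ⟨a, ha, rfl⟩ := (mem_img V).1 hx
    have h1 : ((a ^ p : ↥(Subgroup.normalizer (V : Set G))) : G) ∈
        Subgroup.centralizer (V : Set G) := by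
      rw [SubmonoidClass.coe_pow]; exact hA.2.2 a ha
    rw [← map_pow, (toAmb_eq_one V).2 h1]
    exact one_mem _

theorem img_eq_bot {A : Subgroup G} (hAN : A ≤ Subgroup.normalizer (V : Set G)) :
    img V A = ⊥ ↔ A ≤ Subgroup.centralizer (V : Set G) := by
  constructor
  · intro h a ha
    have : toAmb V ⟨a, hAN ha⟩ ∈ img V A := (mem_img V).2 ⟨_, ha, rfl⟩
    rw [h, Subgroup.mem_bot, toAmb_eq_one] at this
    exact this
  · intro h
    rw [Subgroup.eq_bot_iff_forall]
    intro g hg
    obtain ⟨n, hn, rfl⟩ := (mem_img V).1 hg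
    exact (toAmb_eq_one V).2 (h hn)

theorem img_iSup {ι : Sort*} (f : ι → Subgroup G)
    (hf : ∀ i, f i ≤ Subgroup.normalizer (V : Set G)) :
    img V (⨆ i, f i) = ⨆ i, img V (f i) := by
  simp only [img]
  rw [← Subgroup.map_iSup]
  congr 1
  apply Subgroup.map_injective (Subgroup.normalizer (V : Set G)).subtype_injective
  rw [Subgroup.map_iSup, Subgroup.map_subgroupOf_eq_of_le (iSup_le hf)]
  exact iSup_congr fun i => (Subgroup.map_subgroupOf_eq_of_le (hf i)).symm

/-- The standing hypotheses for the image of a `p`-solvable group with reduced action. -/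
theorem hyp_img {p : ℕ} [Fact p.Prime] (hV : IsElementaryAbelian p V) {H : Subgroup G}
    (hsol : IsPSolvable p H) (hHN : H ≤ Subgroup.normalizer (V : Set G))
    (hO : pCore p ↥(img V H) = ⊥) : OffendersFF.Hyp p (vImg V) (img V H) := by
  refine ⟨ea_vImg V hV, img_le_normalizer V H, img_faithful V H, ?_⟩
  let f : H →* ↥(img V H) := ((toAmb V).comp (Subgroup.inclusion hHN)).codRestrict _
    (fun x => (mem_img V).2 ⟨Subgroup.inclusion hHN x, x.2, rfl⟩)
  have hf : Function.Surjective f := by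
    rintro ⟨g, hg⟩
    obtain ⟨n, hn, rfl⟩ := (mem_img V).1 hg
    exact ⟨⟨n, hn⟩, rfl⟩
  have h1 := (HallSolvable.isPSolvable_iff p).1 (HallSolvable.isPSolvable_of_surjective hsol hf)
  rw [HallCore.pPrimeCore_eq_piCore]
  refine HallSolvable.centralizer_piCore_le h1.compl ?_
  rw [compl_compl, ← HallCore.pCore_eq_piCore]
  exact hO

/-- Elements normalising `K` normalise its `p`-core. -/
theorem normalizer_le_map_pCore {p : ℕ} {M : Type*} [Group M] (K : Subgroup M) :
    Subgroup.normalizer (K : Set M) ≤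
      Subgroup.normalizer ((pCore p K).map K.subtype : Set M) := by
  haveI := HallCore.pCore_characteristic p K
  have key : ∀ g ∈ Subgroup.normalizer (K : Set M), ∀ x ∈ (pCore p K).map K.subtype,
      g * x * g⁻¹ ∈ (pCore p K).map K.subtype := by
    rintro g hg _ ⟨y, hy, rfl⟩
    set φ := K.normalizerMonoidHom ⟨g, hg⟩
    refine ⟨φ y, ?_, rfl⟩
    have h := Subgroup.characteristic_iff_map_eq.1 (inferInstance : (pCore p K).Characteristic) φ
    rw [← h]; exact ⟨y, hy, rfl⟩
  intro g hg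
  refine Subgroup.mem_normalizer_iff.2 fun x => ⟨key g hg x, fun h => ?_⟩
  have := key g⁻¹ (inv_mem hg) _ h
  simpa [mul_assoc] using this

section normal

variable [V.Normal]

/-- The whole group mapped into `Amb V`. -/
def fTop : G →* Amb V :=
  (toAmb V).comp ((MonoidHom.id G).codRestrict (Subgroup.normalizer (V : Set G)) fun x => by
    rw [Subgroup.normalizer_eq_top V]; exact Subgroup.mem_top x)

theorem fTop_ker : (fTop V).ker = Subgroup.centralizer (V : Set G) := by
  ext x
  rw [MonoidHom.mem_ker, fTop, MonoidHom.comp_apply, toAmb_eq_one]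
  rfl

theorem img_eq_map (H : Subgroup G) : img V H = H.map (fTop V) := by
  ext g
  rw [mem_img]
  constructor
  · rintro ⟨n, hn, rfl⟩; exact ⟨n, hn, rfl⟩
  · rintro ⟨x, hx, rfl⟩; exact ⟨_, hx, rfl⟩

theorem pCore_img {p : ℕ} [Fact p.Prime] {J : Subgroup G} [J.Normal]
    (h : ∀ D : Subgroup G, D.Normal →
      IsPGroup p ↥(D.map (QuotientGroup.mk' (Subgroup.centralizer (V : Set G)))) →
      D ≤ Subgroup.centralizer (V : Set G)) :
    pCore p ↥(img V J) = ⊥ := by
  set P := (pCore p ↥(img V J)).map (img V J).subtype with hP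
  have hPp : IsPGroup p P := (HallCore.isPGroup_pCore p _).map _
  have hPi : P ≤ img V J := Subgroup.map_subtype_le _
  have hN : (fTop V).range ≤ Subgroup.normalizer (P : Set (Amb V)) := by
    refine le_trans ?_ (normalizer_le_map_pCore _)
    rw [img_eq_map]
    have := Subgroup.le_normalizer_map (H := J) (fTop V)
    rw [Subgroup.normalizer_eq_top J] at this
    rwa [MonoidHom.range_eq_map]
  set D := P.comap (fTop V) with hD
  have hDn : D.Normal := by
    refine ⟨fun x hx g => ?_⟩
    show fTop V (g * x * g⁻¹) ∈ P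
    rw [map_mul, map_mul, map_inv]
    exact (Subgroup.mem_normalizer_iff.1 (hN ⟨g, rfl⟩) _).1 hx
  have hDp : IsPGroup p ↥(D.map (QuotientGroup.mk' (Subgroup.centralizer (V : Set G)))) := by
    rintro ⟨_, x, hx, rfl⟩
    obtain ⟨k, hk⟩ := hPp ⟨fTop V x, hx⟩
    refine ⟨k, Subtype.ext ?_⟩
    rw [SubmonoidClass.coe_pow, ← map_pow]
    refine (QuotientGroup.eq_one_iff _).2 ?_
    rw [← fTop_ker, MonoidHom.mem_ker, map_pow]
    exact congrArg Subtype.val hk
  have hDC := h D hDn hDp
  refine (Subgroup.map_eq_bot_iff_of_injective _ (img V J).subtype_injective).1 ?_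
  rw [← hP, Subgroup.eq_bot_iff_forall]
  intro y hy
  have hy' := hPi hy
  rw [img_eq_map] at hy'
  obtain ⟨x, -, rfl⟩ := hy'
  have : x ∈ Subgroup.centralizer (V : Set G) := hDC hy
  rwa [← fTop_ker, MonoidHom.mem_ker] at this

theorem img_thompson {p : ℕ} :
    img V (thompsonSubgroup p G) =
      ⨆ A : {A // A ∈ maxElementaryAbelianSubgroups p G}, img V (A : Subgroup G) := by
  simp only [img_eq_map]
  rw [← Subgroup.map_iSup, thompsonSubgroup, sSup_eq_iSup']

theorem gen_thompson {p : ℕ} (hV : IsElementaryAbelian p V) :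
    img V (thompsonSubgroup p G) = ⨆ A : {A : Subgroup (Amb V) //
      A ≤ img V (thompsonSubgroup p G) ∧ IsBestOffenderOn p (vImg V) A}, (A : Subgroup (Amb V)) := by
  refine le_antisymm ?_ (iSup_le fun A => A.2.1)
  conv_lhs => rw [img_thompson]
  refine iSup_le fun A => ?_
  have hA : (A : Subgroup G) ≤ Subgroup.normalizer (V : Set G) := by
    rw [Subgroup.normalizer_eq_top V]; exact le_top
  exact le_iSup (fun B : {B : Subgroup (Amb V) //
      B ≤ img V (thompsonSubgroup p G) ∧ IsBestOffenderOn p (vImg V) B} => (B : Subgroup (Amb V)))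
    ⟨img V (A : Subgroup G), img_mono V (Offenders.max_le_thompson A.2),
      bestOffender_img V hA (max_bestOffender hV A.2)⟩

end normal

end Cfsg.Agent.OffendersGlobal
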