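import Mathlib
import Cfsg.Prelude.Def_PLocal
import Cfsg.Prelude.Def_Local
import Cfsg.Agent.Lib.Offenders
import Cfsg.Agent.Lib.OffendersCore
import Cfsg.Agent.Lib.OffendersGlobal
import Cfsg.Agent.Lib.OffendersCoprime
import Cfsg.Agent.Lib.CoprimeAction
import Cfsg.Agent.Lib.HallSolvable

/-!
A `p`-solvable subgroup `K` with an operator group `X` of exponent `q`: the image of `J(K)` in the
faithful action on the normal closure of `Ω₁(Z(S))`, with `X` acting on it.
-/

set_option autoImplicit false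

open scoped commutatorElement

namespace Cfsg.Agent.OffendersOperated

open Cfsg OffendersReplace OffendersGlobal

universe u

variable {G : Type u} [Group G] {p : ℕ}

theorem normalizer_le_map_char (K : Subgroup G) (P : Subgroup K) [hP : P.Characteristic] :
    Subgroup.normalizer (K : Set G) ≤ Subgroup.normalizer (P.map K.subtype : Set G) := by
  have key : ∀ g ∈ Subgroup.normalizer (K : Set G), ∀ x ∈ P.map K.subtype,
      g * x * g⁻¹ ∈ P.map K.subtype := by
    rintro g hg _ ⟨y, hy, rfl⟩
    set φ := K.normalizerMonoidHom ⟨g, hg⟩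
    refine ⟨φ y, ?_, rfl⟩
    have h := Subgroup.characteristic_iff_map_eq.1 hP φ
    rw [← h]; exact ⟨y, hy, rfl⟩
  intro g hg
  refine Subgroup.mem_normalizer_iff.2 fun x => ⟨key g hg x, fun h => ?_⟩
  have := key g⁻¹ (inv_mem hg) _ h
  simpa [mul_assoc] using this

theorem pCore_map_eq_bot [Finite G] [Fact p.Prime] {N : Type*} [Group N] [Finite N] (f : G →* N)
    (J : Subgroup G) [J.Normal]
    (h : ∀ D : Subgroup G, D.Normal → IsPGroup p ↥(D.map f) → D ≤ f.ker) :
    pCore p ↥(J.map f) = ⊥ := by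
  set P := (pCore p ↥(J.map f)).map (J.map f).subtype with hP
  have hPp : IsPGroup p P := (HallCore.isPGroup_pCore p _).map _
  have hPi : P ≤ J.map f := Subgroup.map_subtype_le _
  have hN : f.range ≤ Subgroup.normalizer (P : Set N) := by
    refine le_trans ?_ (normalizer_le_map_pCore _)
    have := Subgroup.le_normalizer_map (H := J) f
    rw [Subgroup.normalizer_eq_top J] at this
    rwa [MonoidHom.range_eq_map]
  have hDn : (P.comap f).Normal := by
    refine ⟨fun x hx g => ?_⟩
    show f (g * x * g⁻¹) ∈ P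
    rw [map_mul, map_mul, map_inv]
    exact (Subgroup.mem_normalizer_iff.1 (hN ⟨g, rfl⟩) _).1 hx
  have hDC := h _ hDn (hPp.to_le (Subgroup.map_comap_le f P))
  refine (Subgroup.map_eq_bot_iff_of_injective _ (J.map f).subtype_injective).1 ?_
  rw [← hP, Subgroup.eq_bot_iff_forall]
  intro y hy
  obtain ⟨x, -, rfl⟩ := hPi hy
  exact hDC hy

/-- Best offenders of a subgroup are best offenders of the whole group. -/
theorem bestOffender_map (K : Subgroup G) {V A : Subgroup K}
    (h : IsBestOffenderOn p V A) :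
    IsBestOffenderOn p (V.map K.subtype) (A.map K.subtype) := by
  have hc : ∀ B : Subgroup K, fixedIn (V.map K.subtype) (B.map K.subtype) =
      (fixedIn V B).map K.subtype := by
    intro B
    ext x
    constructor
    · rintro ⟨⟨v, hv, rfl⟩, hx⟩
      exact ⟨v, ⟨hv, fun b hb => Subtype.ext (hx b ⟨b, hb, rfl⟩)⟩, rfl⟩
    · rintro ⟨v, hv, rfl⟩
      refine ⟨⟨v, hv.1, rfl⟩, ?_⟩
      rintro _ ⟨b, hb, rfl⟩
      exact congrArg Subtype.val (hv.2 b hb)
  have hcard : ∀ B : Subgroup K, Nat.card B * Nat.card ↥(fixedIn V B) =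
      Nat.card (B.map K.subtype) *
        Nat.card ↥(fixedIn (V.map K.subtype) (B.map K.subtype)) := fun B => by
    rw [hc, Subgroup.card_map_of_injective K.subtype_injective,
      Subgroup.card_map_of_injective K.subtype_injective]
  refine ⟨fun B hB => ?_, ?_, ?_⟩
  · have e : (B.subgroupOf K).map K.subtype = B :=
      Subgroup.map_subgroupOf_eq_of_le (hB.trans (Subgroup.map_subtype_le A))
    show Nat.card B * Nat.card ↥(fixedIn (V.map K.subtype) B) ≤ _ *
      Nat.card ↥(fixedIn (V.map K.subtype) (A.map K.subtype))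
    rw [← e, ← hcard, ← hcard]
    exact h.1 _ fun x hx => by
      obtain ⟨a, ha, e'⟩ := hB hx
      rwa [show x = a from Subtype.ext e'.symm]
  · rw [← Subgroup.map_commutator]
    refine (Subgroup.map_mono h.2.1).trans ?_
    rintro _ ⟨c, hc', rfl⟩ _ ⟨v, hv, rfl⟩
    exact congrArg Subtype.val (hc' v hv)
  · rintro _ ⟨a, ha, rfl⟩ _ ⟨v, hv, rfl⟩
    exact congrArg Subtype.val (h.2.2 a ha v hv)

theorem omegaZ_map_equiv [Finite G] [Fact p.Prime] (e : G ≃* G) (S : Sylow p G) :
    (OffendersCore.omegaZ S).map e.toMonoidHom =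
      OffendersCore.omegaZ (S.mapSurjective (f := e.toMonoidHom) e.surjective) := by
  rw [OffendersCore.omegaZ, Offenders.omegaOne_map e.injective,
    ← Offenders.map_centralizer_range e.injective]
  rfl

theorem characteristic_iSup_omegaZ [Finite G] [Fact p.Prime] :
    (⨆ S : Sylow p G, OffendersCore.omegaZ S).Characteristic := by
  rw [Subgroup.characteristic_iff_map_le]
  intro e
  rw [Subgroup.map_iSup]
  exact iSup_le fun S => (omegaZ_map_equiv e S).le.trans (le_iSup (fun S => OffendersCore.omegaZ S) _)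

/-- A normal subgroup meets a Sylow subgroup in a Sylow subgroup of it. -/
theorem exists_sylow_inf [Finite G] [Fact p.Prime] (S : Sylow p G) (J : Subgroup G) [J.Normal] :
    ∃ T : Sylow p J, (T : Subgroup J).map J.subtype = (S : Subgroup G) ⊓ J := by
  obtain ⟨T, hT⟩ := ((S.isPGroup'.to_le (inf_le_left : (S : Subgroup G) ⊓ J ≤ S)).comap_subtype
    (K := J)).exists_le_sylow
  refine ⟨T, Eq.symm ?_⟩
  refine Subgroup.eq_of_le_of_card_ge (fun x hx => ⟨⟨x, hx.2⟩, hT hx, rfl⟩) ?_
  obtain ⟨R, hR⟩ := (T.isPGroup'.map J.subtype).exists_le_sylow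
  obtain ⟨g, hg⟩ := MulAction.exists_smul_eq G R S
  have hle : ((T : Subgroup J).map J.subtype).map (MulAut.conj g).toMonoidHom ≤
      (S : Subgroup G) ⊓ J := by
    refine le_inf ?_ ?_
    · rw [← hg]; exact Subgroup.map_mono hR
    · rintro _ ⟨x, hx, rfl⟩
      exact ‹J.Normal›.conj_mem x (Subgroup.map_subtype_le _ hx) g
  have := Subgroup.card_le_of_le hle
  rwa [Subgroup.card_map_of_injective (MulAut.conj g).injective] at this

section setting

variable [Finite G] [Fact p.Prime] (K X : Subgroup G)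

/-- The normal closure of `Ω₁(Z(S))` in `K`. -/
def zc (p : ℕ) [Fact p.Prime] : Subgroup K := ⨆ S : Sylow p K, OffendersCore.omegaZ S

/-- The same, inside `G`. -/
def zcG (p : ℕ) [Fact p.Prime] : Subgroup G := (zc K p).map K.subtype

/-- `J(K)` inside `G`. -/
def jG (p : ℕ) : Subgroup G := (thompsonSubgroup p K).map K.subtype

/-- The image of `J(K)`. -/
def hImg (p : ℕ) [Fact p.Prime] : Subgroup (Amb (zcG K p)) := img (zcG K p) (jG K p)

/-- The image of `X`. -/
def xImg (p : ℕ) [Fact p.Prime] : Subgroup (Amb (zcG K p)) := img (zcG K p) X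

theorem normalizer_le : Subgroup.normalizer (K : Set G) ≤
    Subgroup.normalizer (zcG K p : Set G) :=
  haveI : (zc K p).Characteristic := characteristic_iSup_omegaZ
  normalizer_le_map_char K (zc K p)

theorem normalizer_le_jG : Subgroup.normalizer (K : Set G) ≤
    Subgroup.normalizer (jG K p : Set G) :=
  haveI : (thompsonSubgroup p K).Characteristic := Offenders.thompson_characteristic
  normalizer_le_map_char K (thompsonSubgroup p K)

/-- `K` mapped into the ambient group. -/
def kHom (p : ℕ) [Fact p.Prime] : K →* Amb (zcG K p) :=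
  (toAmb (zcG K p)).comp (Subgroup.inclusion (Subgroup.le_normalizer.trans (normalizer_le K)))

theorem kHom_ker : (kHom K p).ker = Subgroup.centralizer (zc K p : Set K) := by
  ext k
  rw [MonoidHom.mem_ker, kHom, MonoidHom.comp_apply, toAmb_eq_one]
  constructor
  · intro h v hv
    exact Subtype.ext (h (v : G) ⟨v, hv, rfl⟩)
  · rintro h _ ⟨v, hv, rfl⟩
    exact congrArg Subtype.val (h v hv)

theorem img_map (L : Subgroup K) : img (zcG K p) (L.map K.subtype) = L.map (kHom K p) := by
  ext g
  rw [mem_img]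
  constructor
  · rintro ⟨n, ⟨x, hx, hxn⟩, rfl⟩
    exact ⟨x, hx, congrArg (toAmb (zcG K p)) (Subtype.ext hxn)⟩
  · rintro ⟨x, hx, rfl⟩
    exact ⟨_, ⟨x, hx, rfl⟩, rfl⟩

theorem hImg_eq : hImg K p = (thompsonSubgroup p K).map (kHom K p) := img_map K _

variable (hsep : IsPSolvable p K) (hO : pPrimeCore p K = ⊥)
include hsep hO

theorem ea_zc : IsElementaryAbelian p (zc K p) :=
  OffendersCore.ea_iSup_omegaZ (HallSolvable.centralizer_pCore_le hsep hO)

theorem hyp : OffendersFF.Hyp p (vImg (zcG K p)) (hImg K p) := by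
  haveI : (thompsonSubgroup p K).Characteristic := Offenders.thompson_characteristic
  haveI hn : (zc K p).Normal := OffendersCore.normal_iSup_omegaZ
  refine hyp_img _ (Offenders.ea_map (ea_zc K hsep hO) _) ?_
    (((Subgroup.map_subtype_le _).trans Subgroup.le_normalizer).trans (normalizer_le K)) ?_
  · exact HallSolvable.isPSolvable_of_surjective (HallSolvable.isPSolvable_subgroup hsep _)
      (f := (Subgroup.equivMapOfInjective (thompsonSubgroup p K) K.subtype
        K.subtype_injective).toMonoidHom)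
      (Subgroup.equivMapOfInjective (thompsonSubgroup p K) K.subtype
        K.subtype_injective).surjective
  · show pCore p ↥(hImg K p) = ⊥
    rw [hImg_eq]
    refine pCore_map_eq_bot _ _ fun D hD hDp => ?_
    haveI := hD
    rw [kHom_ker]
    refine OffendersCore.le_centralizer_of_fixed ?_ (iSup_le fun S => le_iSup_of_le S
      (le_inf (le_iSup (fun S : Sylow p K => OffendersCore.omegaZ S) S)
        ((Offenders.omegaOne_le _).trans inf_le_right)))
    rintro ⟨_, x, hx, rfl⟩
    obtain ⟨k, hk⟩ := hDp ⟨kHom K p x, x, hx, rfl⟩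
    refine ⟨k, Subtype.ext ?_⟩
    rw [SubmonoidClass.coe_pow, ← map_pow]
    refine (QuotientGroup.eq_one_iff _).2 ?_
    rw [← kHom_ker, MonoidHom.mem_ker, map_pow]
    exact congrArg Subtype.val hk

theorem gen : hImg K p = ⨆ A : {A : Subgroup (Amb (zcG K p)) //
    A ≤ hImg K p ∧ IsBestOffenderOn p (vImg (zcG K p)) A}, (A : Subgroup (Amb (zcG K p))) := by
  refine le_antisymm ?_ (iSup_le fun A => A.2.1)
  conv_lhs => rw [hImg_eq, thompsonSubgroup, sSup_eq_iSup', Subgroup.map_iSup]
  refine iSup_le fun A => ?_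
  rw [← img_map]
  exact le_iSup (fun B : {B : Subgroup (Amb (zcG K p)) //
      B ≤ hImg K p ∧ IsBestOffenderOn p (vImg (zcG K p)) B} => (B : Subgroup (Amb (zcG K p))))
    ⟨img (zcG K p) ((A : Subgroup K).map K.subtype),
      img_mono _ (Subgroup.map_mono (Offenders.max_le_thompson A.2)),
      bestOffender_img _
        (((Subgroup.map_subtype_le _).trans Subgroup.le_normalizer).trans (normalizer_le K))
        (bestOffender_map K (max_bestOffender (ea_zc K hsep hO) A.2))⟩

omit hsep hO

variable {q : ℕ} [Fact q.Prime] (hXK : X ≤ Subgroup.normalizer (K : Set G))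
  (hX : IsElementaryAbelian q X) (hq : ¬ q ∣ Nat.card K)
include hXK hX hq

theorem op : OffendersCoprime.Op p q (vImg (zcG K p)) (hImg K p) (xImg K X p) := by
  refine ⟨img_le_normalizer _ _, ?_, ?_, ?_⟩
  · intro g hg
    obtain ⟨n, hn, rfl⟩ := (mem_img _).1 hg
    have hJn := normalizer_le_jG (p := p) K (hXK hn)
    refine Subgroup.mem_normalizer_iff.2 fun y => ?_
    constructor
    · intro hy
      obtain ⟨k, hk, rfl⟩ := (mem_img _).1 hy
      refine (mem_img _).2 ⟨n * k * n⁻¹, ?_, by rw [map_mul, map_mul, map_inv]⟩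
      exact (Subgroup.mem_normalizer_iff.1 hJn _).1 hk
    · intro hy
      obtain ⟨k, hk, hk'⟩ := (mem_img _).1 hy
      refine (mem_img _).2 ⟨n⁻¹ * k * n, ?_, ?_⟩
      · exact (Subgroup.mem_normalizer_iff''.1 hJn _).1 hk
      · rw [map_mul, map_mul, map_inv, hk']; group
  · intro g hg
    obtain ⟨n, hn, rfl⟩ := (mem_img _).1 hg
    rw [← map_pow, show n ^ q = 1 from Subtype.ext ((SubmonoidClass.coe_pow n q).trans (hX.2 _ hn)),
      map_one]
  · intro h
    refine hq (h.trans ?_)
    have h1 := card_img (zcG K p) (B := jG K p)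
      (((Subgroup.map_subtype_le _).trans Subgroup.le_normalizer).trans (normalizer_le K))
    exact (Dvd.intro_left _ h1).trans (Subgroup.card_dvd_of_le (Subgroup.map_subtype_le _))

/-- Fixed points lift. -/
theorem lift {d : Amb (zcG K p)} (hd : d ∈ hImg K p) (hc : ∀ x ∈ xImg K X p, x * d = d * x) :
    ∃ k : K, k ∈ thompsonSubgroup p K ∧ (k : G) ∈ Subgroup.centralizer (X : Set G) ∧
      kHom K p k = d := by
  rw [hImg_eq] at hd
  obtain ⟨k, hk, rfl⟩ := hd
  set D := jG K p ⊓ Subgroup.centralizer (zcG K p : Set G) with hD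
  have hXV := hXK.trans (normalizer_le (p := p) K)
  have hXD : X ≤ Subgroup.normalizer (D : Set G) :=
    CoprimeAction.le_normalizer_inf (hXK.trans (normalizer_le_jG K)) fun x hx => by
      have key : ∀ y, y ∈ Subgroup.normalizer (zcG K p : Set G) →
          ∀ c ∈ Subgroup.centralizer (zcG K p : Set G),
            y * c * y⁻¹ ∈ Subgroup.centralizer (zcG K p : Set G) := by
        intro y hy c hc v hv
        have h1 := hc (y⁻¹ * v * y) ((Subgroup.mem_normalizer_iff''.1 hy v).1 hv)
        calc v * (y * c * y⁻¹) = y * ((y⁻¹ * v * y) * c) * y⁻¹ := by group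
          _ = y * (c * (y⁻¹ * v * y)) * y⁻¹ := by rw [h1]
          _ = y * c * y⁻¹ * v := by group
      refine Subgroup.mem_normalizer_iff.2 fun c => ⟨key x (hXV hx) c, fun h => ?_⟩
      simpa [mul_assoc] using key x⁻¹ (inv_mem (hXV hx)) _ h
  have hcop : (Nat.card X).Coprime (Nat.card D) := by
    obtain ⟨n, hn⟩ := (Offenders.ea_isPGroup hX).exists_card_eq
    rw [hn]
    exact ((Fact.out : q.Prime).coprime_iff_not_dvd.2 fun h => hq (h.trans
      (Subgroup.card_dvd_of_le ((inf_le_left : D ≤ jG K p).trans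
        (Subgroup.map_subtype_le _))))).pow_left n
  haveI : IsMulCommutative X := hX.1
  obtain ⟨c, hcX, hck⟩ := CoprimeAction.exists_fixed_mem_coset hXD hcop
    (Or.inl (Group.isSolvable_of_comm fun a b => IsMulCommutative.is_comm.comm a b)) (k : G) fun x hx => by
      refine ⟨?_, ?_⟩
      · have h1 : (k : G) ∈ jG K p := ⟨k, hk, rfl⟩
        have h2 := (Subgroup.mem_normalizer_iff.1 (normalizer_le_jG (p := p) K (hXK hx)) _).1 h1
        have := mul_mem (inv_mem h1) h2
        simpa [mul_assoc] using this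
      · set nx : ↥(Subgroup.normalizer (zcG K p : Set G)) := ⟨x, hXV hx⟩
        set nk : ↥(Subgroup.normalizer (zcG K p : Set G)) :=
          Subgroup.inclusion (Subgroup.le_normalizer.trans (normalizer_le K)) k
        have h1 : toAmb (zcG K p) nx * toAmb (zcG K p) nk =
            toAmb (zcG K p) nk * toAmb (zcG K p) nx :=
          hc _ ((mem_img _).2 ⟨nx, hx, rfl⟩)
        have h2 : toAmb (zcG K p) (nk⁻¹ * nx * nk * nx⁻¹) = 1 := by
          rw [map_mul, map_mul, map_mul, map_inv, map_inv, mul_assoc (toAmb (zcG K p) nk)⁻¹, h1]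
          group
        exact (toAmb_eq_one _).1 h2
  have hcJ : c ∈ jG K p := by
    have := mul_mem (⟨k, hk, rfl⟩ : (k : G) ∈ jG K p) hck.1
    rwa [mul_inv_cancel_left] at this
  obtain ⟨c', hc'J, rfl⟩ := hcJ
  refine ⟨c', hc'J, hcX, ?_⟩
  have h3 : k⁻¹ * c' ∈ (kHom K p).ker := by
    rw [MonoidHom.mem_ker, kHom, MonoidHom.comp_apply, toAmb_eq_one]
    exact hck.2
  rw [MonoidHom.mem_ker, map_mul, map_inv, inv_mul_eq_one] at h3
  exact h3.symm

end setting

end Cfsg.Agent.OffendersOperated
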